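import Cfsg.Statements.S0246
import Cfsg.Agent.Lib.helper6.Symp
import Mathlib

set_option autoImplicit false
open Cfsg

namespace Cfsg.Agent.S0246

open Matrix Cfsg.Agent.Lib.helper6

/-- A matrix for which every vector is an eigenvector is scalar. -/
theorem scalar_of_all_eigen {F : Type*} [Field F] {ι : Type*} [Fintype ι] [DecidableEq ι]
    (A : Matrix ι ι F) (h : ∀ u : ι → F, ∃ c : F, A *ᵥ u = c • u) : ∃ l : F, A = l • 1 := by
  classical
  choose lam hlam using fun i : ι => h (Pi.single i 1)
  have hentry : ∀ j i, A j i = if j = i then lam i else 0 := by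
    intro j i
    have := congrFun (hlam i) j
    rw [Matrix.mulVec_single_one] at this
    simpa [Pi.single_apply] using this
  have heq : ∀ i j, lam i = lam j := by
    intro i j
    by_cases hij : i = j
    · rw [hij]
    obtain ⟨μ, hμ⟩ := h (Pi.single i 1 + Pi.single j 1)
    rw [Matrix.mulVec_add, hlam, hlam] at hμ
    have h1 := congrFun hμ i
    have h2 := congrFun hμ j
    simp [Pi.single_apply, hij, Ne.symm hij] at h1 h2
    rw [h1, h2]
  rcases isEmpty_or_nonempty ι with he | ⟨⟨i0⟩⟩
  · exact ⟨0, by ext i; exact he.elim i⟩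
  · refine ⟨lam i0, ?_⟩
    ext j i
    rw [hentry, Matrix.smul_apply, Matrix.one_apply, heq i i0]
    simp

variable {F : Type*} [Field F] {m : ℕ}

/-- A central element of the symplectic group is a scalar matrix. -/
theorem central_scalar (g : Matrix.symplecticGroup (Fin m) F)
    (hg : g ∈ Subgroup.center (Matrix.symplecticGroup (Fin m) F)) :
    ∃ l : F, (g : Matrix (Fin m ⊕ Fin m) (Fin m ⊕ Fin m) F) = l • 1 := by
  apply scalar_of_all_eigen
  intro u
  by_cases hu : u = 0
  · exact ⟨1, by rw [hu, Matrix.mulVec_zero, smul_zero]⟩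
  obtain ⟨x, hx⟩ := sympForm_nondeg m u hu
  have hx' : Cfsg.sympForm m F x u ≠ 0 := by
    rw [sympForm_swap]; exact neg_ne_zero.mpr hx
  let T : Matrix.symplecticGroup (Fin m) F := ⟨Cfsg.sympTransvection m u 1, sympTransvection_mem m u 1⟩
  have hcomm : T * g = g * T := Subgroup.mem_center_iff.mp hg T
  have hc : (Cfsg.sympTransvection m u 1 * (g : Matrix (Fin m ⊕ Fin m) (Fin m ⊕ Fin m) F)) *ᵥ x =
      ((g : Matrix (Fin m ⊕ Fin m) (Fin m ⊕ Fin m) F) * Cfsg.sympTransvection m u 1) *ᵥ x := by
    have := congrArg (fun A : Matrix.symplecticGroup (Fin m) F =>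
      (A : Matrix (Fin m ⊕ Fin m) (Fin m ⊕ Fin m) F) *ᵥ x) hcomm
    exact this
  rw [← Matrix.mulVec_mulVec, ← Matrix.mulVec_mulVec, sympTransvection_mulVec,
    sympTransvection_mulVec, Matrix.mulVec_add, Matrix.mulVec_smul, one_mul, one_mul] at hc
  have hc' := add_left_cancel hc
  refine ⟨(Cfsg.sympForm m F x u)⁻¹ * Cfsg.sympForm m F ((g : Matrix (Fin m ⊕ Fin m) (Fin m ⊕ Fin m) F) *ᵥ x) u, ?_⟩
  rw [mul_smul, hc', smul_smul, inv_mul_cancel₀ hx', one_smul]

theorem scalar_sq (hm : 1 ≤ m) (l : F)
    (h : (l • (1 : Matrix (Fin m ⊕ Fin m) (Fin m ⊕ Fin m) F)) ∈ Matrix.symplecticGroup (Fin m) F) :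
    l * l = 1 := by
  rw [SymplecticGroup.mem_iff] at h
  have := congrFun (congrFun h (Sum.inl ⟨0, hm⟩)) (Sum.inr ⟨0, hm⟩)
  simp only [Matrix.transpose_smul, Matrix.transpose_one, Matrix.smul_mul, Matrix.one_mul,
    Matrix.mul_smul, Matrix.mul_one, Matrix.smul_apply, smul_eq_mul] at this
  simp only [Matrix.J, Matrix.fromBlocks_apply₁₂, Matrix.neg_apply, Matrix.one_apply_eq] at this
  linear_combination -this

/-- `-1` as an element of the symplectic group. -/
def negOne (F : Type*) [Field F] (m : ℕ) : Matrix.symplecticGroup (Fin m) F :=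
  ⟨-1, SymplecticGroup.neg_mem (Submonoid.one_mem _)⟩

theorem negOne_coe :
    ((negOne F m : Matrix.symplecticGroup (Fin m) F) : Matrix (Fin m ⊕ Fin m) (Fin m ⊕ Fin m) F) = -1 :=
  rfl

theorem negOne_mem_center : negOne F m ∈ Subgroup.center (Matrix.symplecticGroup (Fin m) F) := by
  rw [Subgroup.mem_center_iff]
  intro g
  apply Subtype.ext
  rw [Submonoid.coe_mul, Submonoid.coe_mul, negOne_coe, Matrix.mul_neg, Matrix.neg_mul,
    Matrix.mul_one, Matrix.one_mul]

theorem center_cases (hm : 1 ≤ m) (g : Matrix.symplecticGroup (Fin m) F)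
    (hg : g ∈ Subgroup.center (Matrix.symplecticGroup (Fin m) F)) : g = 1 ∨ g = negOne F m := by
  obtain ⟨l, hl⟩ := central_scalar g hg
  have hmem : (l • (1 : Matrix (Fin m ⊕ Fin m) (Fin m ⊕ Fin m) F)) ∈
      Matrix.symplecticGroup (Fin m) F := by rw [← hl]; exact g.2
  have hsq := scalar_sq hm l hmem
  have : (l - 1) * (l + 1) = 0 := by linear_combination hsq
  rcases mul_eq_zero.mp this with h | h
  · left
    apply Subtype.ext
    rw [hl, sub_eq_zero.mp h, one_smul]; rfl
  · right
    apply Subtype.ext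
    rw [hl, eq_neg_of_add_eq_zero_left h, neg_smul, one_smul, negOne_coe]

theorem two_eq_zero_iff {F : Type*} [Field F] [Fintype F] : (2 : F) = 0 ↔ Even (Fintype.card F) := by
  have h1 := FiniteField.even_card_iff_char_two (F := F)
  constructor
  · intro h
    have hd : ringChar F ∣ 2 := (ringChar.spec F 2).mp (by exact_mod_cast h)
    have hp : ringChar F = 2 :=
      (Nat.prime_dvd_prime_iff_eq (CharP.char_is_prime F _) Nat.prime_two).mp hd
    exact Nat.even_iff.mpr (h1.mp hp)
  · intro h
    have hp := h1.mpr (Nat.even_iff.mp h)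
    have := (ringChar.spec F 2).mpr (by rw [hp])
    exact_mod_cast this

/-- The centre of Sp_{2m}(q), m at least 1, is {1, -1}: it has order gcd(2, q-1). -/
theorem result {F : Type*} [Field F] [Fintype F] {q : ℕ} (hF : Fintype.card F = q) (m : ℕ) (hm : 1 ≤ m) : Nat.card (Subgroup.center (Matrix.symplecticGroup (Fin m) F)) = Nat.gcd 2 (q - 1) := by
  classical
  have hset : ((Subgroup.center (Matrix.symplecticGroup (Fin m) F) : Subgroup _) : Set _) =
      ({1, negOne F m} : Set (Matrix.symplecticGroup (Fin m) F)) := by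
    ext g
    simp only [SetLike.mem_coe, Set.mem_insert_iff, Set.mem_singleton_iff]
    constructor
    · exact center_cases hm g
    · rintro (rfl | rfl)
      · exact Subgroup.one_mem _
      · exact negOne_mem_center
  have hcard : Nat.card (Subgroup.center (Matrix.symplecticGroup (Fin m) F)) =
      Nat.card (({1, negOne F m} : Set (Matrix.symplecticGroup (Fin m) F))) := by
    rw [← hset]; rfl
  rw [hcard, Nat.card_coe_set_eq]
  have hq2 : 2 ≤ q := by rw [← hF]; exact Fintype.one_lt_card
  have hiff : (1 : Matrix.symplecticGroup (Fin m) F) = negOne F m ↔ (2 : F) = 0 := by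
    constructor
    · intro h
      have h1 := congrArg (fun A : Matrix.symplecticGroup (Fin m) F =>
        (A : Matrix (Fin m ⊕ Fin m) (Fin m ⊕ Fin m) F) (Sum.inl ⟨0, hm⟩) (Sum.inl ⟨0, hm⟩)) h
      have h2 : (1 : F) = -1 := by
        simpa [negOne] using h1
      have : (2 : F) = 1 + 1 := by norm_num
      rw [this]; nth_rewrite 1 [h2]; ring
    · intro h
      apply Subtype.ext
      rw [negOne_coe]
      show (1 : Matrix (Fin m ⊕ Fin m) (Fin m ⊕ Fin m) F) = -1
      have h2 : (1 : F) = -1 := by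
        have : (1 : F) + 1 = 0 := by rw [← h]; norm_num
        exact eq_neg_of_add_eq_zero_left this
      ext i j
      by_cases hij : i = j
      · subst hij; simp only [Matrix.one_apply_eq, Matrix.neg_apply]; exact h2
      · simp [Matrix.one_apply_ne hij]
  by_cases h2 : (2 : F) = 0
  · have h1 : (1 : Matrix.symplecticGroup (Fin m) F) = negOne F m := hiff.mpr h2
    rw [← h1, Set.pair_eq_singleton, Set.ncard_singleton]
    have heven : Even q := by rw [← hF]; exact two_eq_zero_iff.mp h2
    obtain ⟨k, hk⟩ := heven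
    have hodd' : Odd (q - 1) := ⟨k - 1, by omega⟩
    exact (Nat.Coprime.gcd_eq_one (Nat.coprime_two_left.mpr hodd')).symm
  · have hne : (1 : Matrix.symplecticGroup (Fin m) F) ≠ negOne F m := fun h => h2 (hiff.mp h)
    rw [Set.ncard_pair hne]
    have hodd : Odd q := by
      rw [← Nat.not_even_iff_odd, ← hF]
      exact fun h => h2 (two_eq_zero_iff.mpr h)
    obtain ⟨k, hk⟩ := hodd
    have : q - 1 = 2 * k := by omega
    rw [this]
    simp

end Cfsg.Agent.S0246
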