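import Cfsg.Statements.S2616
import Cfsg.Agent.Lib.Helper16.Witt

set_option autoImplicit false
open Cfsg

namespace Cfsg.Agent.S2616

open Cfsg.Agent.Lib.Helper16
open Module

universe u v

section
variable {F : Type u} [Field F] [Fintype F] {V : Type v} [AddCommGroup V] [Module F V] [FiniteDimensional F V]

theorem exists_Q_one (hV : finrank F V = 2) (Q : QuadraticForm F V)
    (hQ : (QuadraticMap.polarBilin Q).Nondegenerate) (han : ∀ v : V, v ≠ 0 → Q v ≠ 0) : ∃ x : V, Q x = 1 := by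
  by_cases h2 : (2 : F) = 0
  · have hchar : ringChar F = 2 := by
      have : CharP F 2 := CharTwo.of_one_ne_zero_of_two_eq_zero one_ne_zero h2
      exact ringChar.eq F 2
    have hnt : Nontrivial V := Module.nontrivial_of_finrank_pos (R := F) (by omega)
    obtain ⟨v, hv⟩ := exists_ne (0 : V)
    obtain ⟨r, hr⟩ := FiniteField.isSquare_of_char_two hchar (Q v)
    have hr0 : r ≠ 0 := by
      rintro rfl
      rw [mul_zero] at hr
      exact han v hv hr
    refine ⟨r⁻¹ • v, ?_⟩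
    rw [QuadraticMap.map_smul, hr, smul_eq_mul]
    field_simp
  · have : Invertible (2 : F) := invertibleOfNonzero h2
    have hS' : LinearMap.IsSymm (QuadraticMap.polarBilin Q) := ⟨fun x y => by simpa using QuadraticMap.polar_comm Q x y⟩
    obtain ⟨v, hv⟩ := LinearMap.BilinForm.exists_orthogonal_basis hS'
    set i₀ : Fin (finrank F V) := ⟨0, by omega⟩
    set i₁ : Fin (finrank F V) := ⟨1, by omega⟩
    have h01 : i₀ ≠ i₁ := by intro h; have := congrArg Fin.val h; simp [i₀, i₁] at this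
    have p01 : QuadraticMap.polar ⇑Q (v i₀) (v i₁) = 0 := hv h01
    obtain ⟨s, t, hst⟩ := exists_sq_sum h2 (han _ (v.ne_zero i₀)) (han _ (v.ne_zero i₁))
    refine ⟨s • v i₀ + t • v i₁, ?_⟩
    rw [quad_add, QuadraticMap.map_smul, QuadraticMap.map_smul, QuadraticMap.polar_smul_left,
      QuadraticMap.polar_smul_right, p01]
    simp only [smul_eq_mul, mul_zero, add_zero]
    linear_combination hst

theorem exists_y (hV : finrank F V = 2) (Q : QuadraticForm F V)
    (hQ : (QuadraticMap.polarBilin Q).Nondegenerate) {x : V} (hx : Q x = 1) :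
    ∃ y : V, QuadraticMap.polar ⇑Q x y = 1 ∧ ∀ t : F, t • x + y ≠ 0 := by
  have hx0 : x ≠ 0 := by
    rintro rfl
    rw [map_zero] at hx
    exact zero_ne_one hx
  have : ∃ y₀ : V, QuadraticMap.polarBilin Q x y₀ ≠ 0 := by
    by_contra hcon
    push Not at hcon
    exact hx0 (hQ.1 x hcon)
  obtain ⟨y₀, hy₀⟩ := this
  rw [QuadraticMap.polarBilin_apply_apply] at hy₀
  obtain ⟨y₁, h1⟩ : ∃ y₁ : V, QuadraticMap.polar ⇑Q x y₁ = 1 := by
    refine ⟨(QuadraticMap.polar ⇑Q x y₀)⁻¹ • y₀, ?_⟩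
    rw [QuadraticMap.polar_smul_right, smul_eq_mul, inv_mul_cancel₀ hy₀]
  by_cases hy : y₁ ∈ F ∙ x
  · obtain ⟨a, rfl⟩ := Submodule.mem_span_singleton.mp hy
    rw [QuadraticMap.polar_smul_right, polar_self', hx, smul_eq_mul, mul_one] at h1
    have h2 : (2 : F) ≠ 0 := by
      rintro h
      rw [h, mul_zero] at h1
      exact zero_ne_one h1
    have hfr := LinearMap.BilinForm.finrank_orthogonal hQ (F ∙ x)
    rw [finrank_span_singleton hx0, hV] at hfr
    have hnt : Nontrivial (LinearMap.BilinForm.orthogonal (QuadraticMap.polarBilin Q) (F ∙ x)) :=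
      Module.nontrivial_of_finrank_pos (R := F) (by omega)
    obtain ⟨z, hz⟩ := exists_ne (0 : LinearMap.BilinForm.orthogonal (QuadraticMap.polarBilin Q) (F ∙ x))
    have hxz : QuadraticMap.polar ⇑Q x (z : V) = 0 := z.2 x (Submodule.mem_span_singleton_self x)
    refine ⟨a • x + (z : V), ?_, ?_⟩
    · rw [QuadraticMap.polar_add_right, QuadraticMap.polar_smul_right, polar_self', hx, hxz, smul_eq_mul, mul_one,
        add_zero, h1]
    · intro t h0
      have hz' : (z : V) = (-(t + a)) • x := by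
        rw [neg_smul, add_smul]
        rw [← add_assoc] at h0
        exact eq_neg_of_add_eq_zero_right h0
      rw [hz', QuadraticMap.polar_smul_right, polar_self', hx, smul_eq_mul, mul_one] at hxz
      have hc : -(t + a) = 0 := (mul_eq_zero.mp hxz).resolve_right h2
      rw [hc, zero_smul] at hz'
      exact hz (Subtype.ext hz')
  · refine ⟨y₁, h1, ?_⟩
    intro t h0
    apply hy
    have : y₁ = (-t) • x := by
      rw [neg_smul]
      exact eq_neg_of_add_eq_zero_right h0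
    rw [this]
    exact Submodule.smul_mem _ _ (Submodule.mem_span_singleton_self x)

omit [Fintype F] [FiniteDimensional F V] in
theorem hypFam_cons (Q : QuadraticForm F V) {e₀ f₀ : V} (hQe : Q e₀ = 0) (hQf : Q f₀ = 0)
    (hef : QuadraticMap.polar ⇑Q e₀ f₀ = 1) {k : ℕ} (e' f' : Fin k → perp2 Q e₀ f₀)
    (h : (∀ i, (Q.comp (perp2 Q e₀ f₀).subtype) (e' i) = 0 ∧ (Q.comp (perp2 Q e₀ f₀).subtype) (f' i) = 0) ∧
      (∀ i j, QuadraticMap.polar ⇑(Q.comp (perp2 Q e₀ f₀).subtype) (e' i) (f' j) = if i = j then 1 else 0) ∧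
      (∀ i j, QuadraticMap.polar ⇑(Q.comp (perp2 Q e₀ f₀).subtype) (e' i) (e' j) = 0 ∧
        QuadraticMap.polar ⇑(Q.comp (perp2 Q e₀ f₀).subtype) (f' i) (f' j) = 0)) :
    (∀ i, Q ((Fin.cons e₀ (fun i => (e' i : V)) : Fin (k + 1) → V) i) = 0 ∧
        Q ((Fin.cons f₀ (fun i => (f' i : V)) : Fin (k + 1) → V) i) = 0) ∧
      (∀ i j, QuadraticMap.polar ⇑Q ((Fin.cons e₀ (fun i => (e' i : V)) : Fin (k + 1) → V) i)
        ((Fin.cons f₀ (fun i => (f' i : V)) : Fin (k + 1) → V) j) = if i = j then 1 else 0) ∧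
      (∀ i j, QuadraticMap.polar ⇑Q ((Fin.cons e₀ (fun i => (e' i : V)) : Fin (k + 1) → V) i)
        ((Fin.cons e₀ (fun i => (e' i : V)) : Fin (k + 1) → V) j) = 0 ∧
        QuadraticMap.polar ⇑Q ((Fin.cons f₀ (fun i => (f' i : V)) : Fin (k + 1) → V) i)
        ((Fin.cons f₀ (fun i => (f' i : V)) : Fin (k + 1) → V) j) = 0) := by
  obtain ⟨hQef', hef', hee'⟩ := h
  have hfe : QuadraticMap.polar ⇑Q f₀ e₀ = 1 := by rw [QuadraticMap.polar_comm, hef]
  have hmem : ∀ w : perp2 Q e₀ f₀, QuadraticMap.polar ⇑Q e₀ (w : V) = 0 ∧ QuadraticMap.polar ⇑Q f₀ (w : V) = 0 :=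
    fun w => (mem_perp2 Q e₀ f₀ w).mp w.2
  have hmem' : ∀ w : perp2 Q e₀ f₀, QuadraticMap.polar ⇑Q (w : V) e₀ = 0 ∧ QuadraticMap.polar ⇑Q (w : V) f₀ = 0 := by
    intro w
    rw [QuadraticMap.polar_comm ⇑Q _ e₀, QuadraticMap.polar_comm ⇑Q _ f₀]
    exact hmem w
  refine ⟨?_, ?_, ?_⟩
  · intro i
    refine Fin.cases ?_ (fun i => ?_) i
    · simp only [Fin.cons_zero]
      exact ⟨hQe, hQf⟩
    · simp only [Fin.cons_succ]
      exact hQef' i
  · intro i j
    refine Fin.cases ?_ (fun i => ?_) i <;> refine Fin.cases ?_ (fun j => ?_) j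
    · simp only [Fin.cons_zero]
      simpa using hef
    · simp only [Fin.cons_zero, Fin.cons_succ]
      rw [(hmem (f' j)).1, if_neg (Fin.succ_ne_zero j).symm]
    · simp only [Fin.cons_zero, Fin.cons_succ]
      rw [(hmem' (e' i)).2, if_neg (Fin.succ_ne_zero i)]
    · simp only [Fin.cons_succ, Fin.succ_inj]
      rw [← polar_comp_subtype]
      exact hef' i j
  · intro i j
    refine Fin.cases ?_ (fun i => ?_) i <;> refine Fin.cases ?_ (fun j => ?_) j
    · simp only [Fin.cons_zero, polar_self', hQe, hQf, mul_zero, and_self]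
    · simp only [Fin.cons_zero, Fin.cons_succ]
      exact ⟨(hmem (e' j)).1, (hmem (f' j)).2⟩
    · simp only [Fin.cons_zero, Fin.cons_succ]
      exact ⟨(hmem' (e' i)).1, (hmem' (f' i)).2⟩
    · simp only [Fin.cons_succ]
      rw [← polar_comp_subtype, ← polar_comp_subtype]
      exact hee' i j

end

theorem even_family {F : Type u} [Field F] [Fintype F] : ∀ (k : ℕ) {V : Type v} [AddCommGroup V] [Module F V]
    [FiniteDimensional F V], finrank F V = 2 * (k + 1) → ∀ Q : QuadraticForm F V,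
    (QuadraticMap.polarBilin Q).Nondegenerate →
    (∃ (e f : Fin (k + 1) → V), (∀ i, Q (e i) = 0 ∧ Q (f i) = 0) ∧
      (∀ i j, QuadraticMap.polar ⇑Q (e i) (f j) = if i = j then 1 else 0) ∧
      (∀ i j, QuadraticMap.polar ⇑Q (e i) (e j) = 0 ∧ QuadraticMap.polar ⇑Q (f i) (f j) = 0)) ∨
    (∃ (e f : Fin k → V) (x y : V) (ζ : F), (∀ t : F, t ^ 2 + t + ζ ≠ 0) ∧
      ((∀ i, Q (e i) = 0 ∧ Q (f i) = 0) ∧
      (∀ i j, QuadraticMap.polar ⇑Q (e i) (f j) = if i = j then 1 else 0) ∧
      (∀ i j, QuadraticMap.polar ⇑Q (e i) (e j) = 0 ∧ QuadraticMap.polar ⇑Q (f i) (f j) = 0)) ∧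
      (∀ i, QuadraticMap.polar ⇑Q (e i) x = 0 ∧ QuadraticMap.polar ⇑Q (f i) x = 0 ∧
        QuadraticMap.polar ⇑Q (e i) y = 0 ∧ QuadraticMap.polar ⇑Q (f i) y = 0) ∧
      Q x = 1 ∧ QuadraticMap.polar ⇑Q x y = 1 ∧ Q y = ζ) := by
  intro k
  induction k with
  | zero =>
    intro V _ _ _ hV Q hQ
    by_cases han : ∀ v : V, v ≠ 0 → Q v ≠ 0
    · right
      obtain ⟨x, hx⟩ := exists_Q_one (by omega) Q hQ han
      obtain ⟨y, hxy, hy⟩ := exists_y (by omega) Q hQ hx
      refine ⟨Fin.elim0, Fin.elim0, x, y, Q y, ?_, ⟨fun i => i.elim0, fun i => i.elim0, fun i => i.elim0⟩,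
        fun i => i.elim0, hx, hxy, rfl⟩
      intro t h0
      apply han (t • x + y) (hy t)
      rw [quad_add, QuadraticMap.map_smul, QuadraticMap.polar_smul_left, hx, hxy]
      simp only [smul_eq_mul, mul_one]
      linear_combination h0
    · left
      push Not at han
      obtain ⟨e₀, he₀, hQe⟩ := han
      obtain ⟨f₀, hQf, hef⟩ := hyp_pair Q hQ he₀ hQe
      refine ⟨fun _ => e₀, fun _ => f₀, fun _ => ⟨hQe, hQf⟩, ?_, ?_⟩
      · intro i j
        have : i = j := Fin.ext (by omega)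
        simp [this, hef]
      · intro i j
        simp [polar_self', hQe, hQf]
  | succ k ih =>
    intro V _ _ _ hV Q hQ
    obtain ⟨e₀, f₀, hQe, hQf, hef⟩ := exists_hyp_split Q hQ (by omega)
    have hfr := finrank_perp2 Q hQe hQf hef
    have hnd := perp2_nondeg Q hQ hQe hQf hef
    have hmem : ∀ w : perp2 Q e₀ f₀, QuadraticMap.polar ⇑Q e₀ (w : V) = 0 ∧ QuadraticMap.polar ⇑Q f₀ (w : V) = 0 :=
      fun w => (mem_perp2 Q e₀ f₀ w).mp w.2
    rcases ih (by omega) (Q.comp (perp2 Q e₀ f₀).subtype) hnd with ⟨e', f', h⟩ | ⟨e', f', x', y', ζ, hζ, h, hxy, hx1, hxy1, hyζ⟩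
    · left
      exact ⟨Fin.cons e₀ (fun i => (e' i : V)), Fin.cons f₀ (fun i => (f' i : V)), hypFam_cons Q hQe hQf hef e' f' h⟩
    · right
      refine ⟨Fin.cons e₀ (fun i => (e' i : V)), Fin.cons f₀ (fun i => (f' i : V)), (x' : V), (y' : V), ζ, hζ,
        hypFam_cons Q hQe hQf hef e' f' h, ?_, hx1, ?_, hyζ⟩
      · intro i
        refine Fin.cases ?_ (fun i => ?_) i
        · simp only [Fin.cons_zero]
          exact ⟨(hmem x').1, (hmem x').2, (hmem y').1, (hmem y').2⟩
        · simp only [Fin.cons_succ]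
          rw [← polar_comp_subtype, ← polar_comp_subtype, ← polar_comp_subtype, ← polar_comp_subtype]
          exact hxy i
      · rw [← polar_comp_subtype]
        exact hxy1

/-- Standard bases of a non-degenerate quadratic space of even dimension 2m over a finite field: either there is a hyperbolic basis e_i, f_i (Q(e_i) = Q(f_i) = 0, B(e_i, f_j) = δ_ij, the e's pairwise orthogonal and the f's pairwise orthogonal, B the polar form), or there is an elliptic basis: hyperbolic pairs e_i, f_i for i < m − 1 together with x, y orthogonal to them with Q(x) = 1, B(x, y) = 1, Q(y) = ζ where t² + t + ζ has no root in the field. -/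
theorem result {F V : Type*} [Field F] [Finite F] [AddCommGroup V] [Module F V] [FiniteDimensional F V] {m : ℕ} (hm : 1 ≤ m) (hV : Module.finrank F V = 2 * m) (Q : QuadraticForm F V) (hQ : (QuadraticMap.polarBilin Q).Nondegenerate) : (∃ b : Module.Basis (Fin m ⊕ Fin m) F V, (∀ i, Q (b (Sum.inl i)) = 0 ∧ Q (b (Sum.inr i)) = 0) ∧ (∀ i j, QuadraticMap.polar ⇑Q (b (Sum.inl i)) (b (Sum.inr j)) = if i = j then 1 else 0) ∧ (∀ i j, QuadraticMap.polar ⇑Q (b (Sum.inl i)) (b (Sum.inl j)) = 0 ∧ QuadraticMap.polar ⇑Q (b (Sum.inr i)) (b (Sum.inr j)) = 0)) ∨ (∃ (b : Module.Basis ((Fin (m - 1) ⊕ Fin (m - 1)) ⊕ Fin 2) F V) (ζ : F), (∀ t : F, t ^ 2 + t + ζ ≠ 0) ∧ (∀ i, Q (b (Sum.inl (Sum.inl i))) = 0 ∧ Q (b (Sum.inl (Sum.inr i))) = 0) ∧ (∀ i j, QuadraticMap.polar ⇑Q (b (Sum.inl (Sum.inl i))) (b (Sum.inl (Sum.inr j))) = if i = j then 1 else 0) ∧ (∀ i j, QuadraticMap.polar ⇑Q (b (Sum.inl (Sum.inl i))) (b (Sum.inl (Sum.inl j))) = 0 ∧ QuadraticMap.polar ⇑Q (b (Sum.inl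 (Sum.inr i))) (b (Sum.inl (Sum.inr j))) = 0) ∧ (∀ i (k : Fin 2), QuadraticMap.polar ⇑Q (b (Sum.inl (Sum.inl i))) (b (Sum.inr k)) = 0 ∧ QuadraticMap.polar ⇑Q (b (Sum.inl (Sum.inr i))) (b (Sum.inr k)) = 0) ∧ Q (b (Sum.inr 0)) = 1 ∧ QuadraticMap.polar ⇑Q (b (Sum.inr 0)) (b (Sum.inr 1)) = 1 ∧ Q (b (Sum.inr 1)) = ζ) := by
  have := Fintype.ofFinite F
  obtain ⟨k, rfl⟩ : ∃ k, m = k + 1 := ⟨m - 1, by omega⟩
  rcases even_family k hV Q hQ with ⟨e, f, hQef, hef, hee⟩ | ⟨e, f, x, y, ζ, hζ, ⟨hQef, hef, hee⟩, hxy, hx1, hxy1, hyζ⟩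
  · left
    set v : Fin (k + 1) ⊕ Fin (k + 1) → V := Sum.elim e f with hv
    set w : Fin (k + 1) ⊕ Fin (k + 1) → V := Sum.elim f e with hw
    have hdual : ∀ i j, QuadraticMap.polarBilin Q (v i) (w j) = if i = j then (1 : F) else 0 := by
      intro i j
      rw [QuadraticMap.polarBilin_apply_apply]
      rcases i with i | i <;> rcases j with j | j
      · simp only [hv, hw, Sum.elim_inl, hef i j, Sum.inl.injEq]
      · simp [hv, hw, (hee i j).1]
      · simp [hv, hw, (hee i j).2]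
      · simp only [hv, hw, Sum.elim_inr, Sum.inr.injEq]
        rw [QuadraticMap.polar_comm, hef j i]
        simp only [eq_comm]
    have hli := li_of_dual (QuadraticMap.polarBilin Q) v w (fun _ => 1) (fun _ => one_ne_zero) hdual
    have hcard : Fintype.card (Fin (k + 1) ⊕ Fin (k + 1)) = finrank F V := by
      rw [hV]; simp; ring
    refine ⟨basisOfLinearIndependentOfCardEqFinrank hli hcard, ?_⟩
    rw [coe_basisOfLinearIndependentOfCardEqFinrank]
    exact ⟨hQef, hef, hee⟩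
  · right
    have hdisc : 4 * ζ - 1 ≠ 0 := by
      intro h
      apply hζ (-(2 * ζ))
      linear_combination ζ * h
    have hyx1 : QuadraticMap.polar ⇑Q y x = 1 := by rw [QuadraticMap.polar_comm, hxy1]
    set v : (Fin k ⊕ Fin k) ⊕ Fin 2 → V := Sum.elim (Sum.elim e f) ![x, y] with hv
    set w : (Fin k ⊕ Fin k) ⊕ Fin 2 → V := Sum.elim (Sum.elim f e) ![(2 * ζ) • x - y, x - (2 : F) • y] with hw
    set d : (Fin k ⊕ Fin k) ⊕ Fin 2 → F := Sum.elim (fun _ => 1) ![4 * ζ - 1, 1 - 4 * ζ] with hd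
    have hd0 : ∀ j, d j ≠ 0 := by
      rintro (j | j)
      · exact one_ne_zero
      · fin_cases j
        · exact hdisc
        · simp only [hd, Sum.elim_inr]
          intro h
          apply hdisc
          simp at h
          linear_combination (-1 : F) * h
    have hdual : ∀ i j, QuadraticMap.polarBilin Q (v i) (w j) = if i = j then d j else 0 := by
      intro i j
      rw [QuadraticMap.polarBilin_apply_apply]
      rcases i with (i | i) | i <;> rcases j with (j | j) | j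
      · simp only [hv, hw, hd, Sum.elim_inl, hef i j, Sum.inl.injEq]
      · simp [hv, hw, (hee i j).1]
      · fin_cases j
        · simp [hv, hw, QuadraticMap.polar_sub_right, QuadraticMap.polar_smul_right, (hxy i).1, (hxy i).2.2.1]
        · simp [hv, hw, QuadraticMap.polar_sub_right, QuadraticMap.polar_smul_right, (hxy i).1, (hxy i).2.2.1]
      · simp [hv, hw, (hee i j).2]
      · simp only [hv, hw, hd, Sum.elim_inl, Sum.elim_inr, Sum.inl.injEq, Sum.inr.injEq]
        rw [QuadraticMap.polar_comm, hef j i]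
        simp only [eq_comm]
      · fin_cases j
        · simp [hv, hw, QuadraticMap.polar_sub_right, QuadraticMap.polar_smul_right, (hxy i).2.1, (hxy i).2.2.2]
        · simp [hv, hw, QuadraticMap.polar_sub_right, QuadraticMap.polar_smul_right, (hxy i).2.1, (hxy i).2.2.2]
      · fin_cases i
        · simp [hv, hw, QuadraticMap.polar_comm ⇑Q x (f j), (hxy j).2.1]
        · simp [hv, hw, QuadraticMap.polar_comm ⇑Q y (f j), (hxy j).2.2.2]
      · fin_cases i
        · simp [hv, hw, QuadraticMap.polar_comm ⇑Q x (e j), (hxy j).1]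
        · simp [hv, hw, QuadraticMap.polar_comm ⇑Q y (e j), (hxy j).2.2.1]
      · fin_cases i <;> fin_cases j
        · simp [hv, hw, hd, QuadraticMap.polar_sub_right, QuadraticMap.polar_smul_right, polar_self', hx1, hxy1]
          ring
        · simp [hv, hw, hd, QuadraticMap.polar_sub_right, QuadraticMap.polar_smul_right, polar_self', hx1, hxy1]
        · simp [hv, hw, hd, QuadraticMap.polar_sub_right, QuadraticMap.polar_smul_right, polar_self', hyζ, hyx1]
        · simp [hv, hw, hd, QuadraticMap.polar_sub_right, QuadraticMap.polar_smul_right, polar_self', hyζ, hyx1]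
          ring
    have hli := li_of_dual (QuadraticMap.polarBilin Q) v w d hd0 hdual
    have hcard : Fintype.card ((Fin k ⊕ Fin k) ⊕ Fin 2) = finrank F V := by
      rw [hV]; simp; ring
    refine ⟨basisOfLinearIndependentOfCardEqFinrank hli hcard, ζ, hζ, ?_⟩
    rw [coe_basisOfLinearIndependentOfCardEqFinrank]
    refine ⟨hQef, hef, hee, ?_, hx1, hxy1, hyζ⟩
    intro i j
    fin_cases j
    · exact ⟨(hxy i).1, (hxy i).2.1⟩
    · exact ⟨(hxy i).2.2.1, (hxy i).2.2.2⟩

end Cfsg.Agent.S2616
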