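import Cfsg.Statements.S2624
import Cfsg.Agent.S2623

set_option autoImplicit false
open Cfsg

namespace Cfsg.Agent.S2624

theorem polar_smul' {F : Type*} [Field F] {n : ℕ} (Q : QuadraticForm F (Fin n → F)) (c : F) (x y : Fin n → F) :
    QuadraticMap.polar ⇑(c • Q) x y = c * QuadraticMap.polar ⇑Q x y := by
  unfold QuadraticMap.polar
  simp only [smul_apply, smul_eq_mul]
  ring

/-- For a quadratic form Q on F^n with non-degenerate polar form, F finite and n ≥ 2 even, every non-zero scalar c is the multiplier of some similarity: there is an invertible linear map g with Q(g v) = c·Q(v) for all v. -/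
theorem result {F : Type*} [Field F] [Fintype F] {n : ℕ} (hn : 2 ≤ n) (he : Even n) (Q : QuadraticForm F (Fin n → F)) (hQ : (QuadraticMap.polarBilin Q).Nondegenerate) (c : F) (hc : c ≠ 0) : ∃ g : (Fin n → F) ≃ₗ[F] (Fin n → F), ∀ v, Q (g v) = c * Q v := by
  by_cases h2 : (2 : F) = 0
  · have hchar : ringChar F = 2 := by
      have : CharP F 2 := by
        apply CharTwo.of_one_ne_zero_of_two_eq_zero one_ne_zero h2
      exact ringChar.eq F 2
    obtain ⟨s, hs⟩ := FiniteField.isSquare_of_char_two hchar c
    have hs0 : s ≠ 0 := by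
      rintro rfl
      rw [mul_zero] at hs
      exact hc hs
    refine ⟨LinearEquiv.smulOfNeZero F _ s hs0, fun v => ?_⟩
    rw [LinearEquiv.smulOfNeZero_apply, QuadraticMap.map_smul, hs, smul_eq_mul]
  · have h₁ : (QuadraticMap.polarBilin (c • Q)).Nondegenerate := by
      constructor
      · intro x hx
        apply hQ.1 x
        intro y
        have := hx y
        rw [QuadraticMap.polarBilin_apply_apply, polar_smul'] at this
        rw [QuadraticMap.polarBilin_apply_apply]
        exact (mul_eq_zero.mp this).resolve_left hc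
      · intro y hy
        apply hQ.2 y
        intro x
        have := hy x
        rw [QuadraticMap.polarBilin_apply_apply, polar_smul'] at this
        rw [QuadraticMap.polarBilin_apply_apply]
        exact (mul_eq_zero.mp this).resolve_left hc
    have key := (Cfsg.Agent.S2623.result h2 (c • Q) Q h₁ hQ).mpr
    have hsq : IsSquare ((Matrix.of (fun i j : Fin n => QuadraticMap.polar ⇑(c • Q) (Pi.single i 1) (Pi.single j 1))).det * (Matrix.of (fun i j : Fin n => QuadraticMap.polar ⇑Q (Pi.single i 1) (Pi.single j 1))).det) := by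
      have : (Matrix.of (fun i j : Fin n => QuadraticMap.polar ⇑(c • Q) (Pi.single i 1) (Pi.single j 1))) =
          c • (Matrix.of (fun i j : Fin n => QuadraticMap.polar ⇑Q (Pi.single i 1) (Pi.single j 1))) := by
        ext i j
        simp only [Matrix.of_apply, Matrix.smul_apply, polar_smul', smul_eq_mul]
      rw [this, Matrix.det_smul, Fintype.card_fin]
      obtain ⟨k, rfl⟩ := he
      refine ⟨c ^ k * (Matrix.of (fun i j : Fin (k + k) => QuadraticMap.polar ⇑Q (Pi.single i 1) (Pi.single j 1))).det, ?_⟩
      ring
    obtain ⟨g, hg⟩ := key hsq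
    refine ⟨g, fun v => ?_⟩
    rw [hg v, smul_apply, smul_eq_mul]

end Cfsg.Agent.S2624
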