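import Cfsg.Statements.S2620
import Cfsg.Agent.Lib.Helper16.Gram

set_option autoImplicit false
open Cfsg
open Cfsg.Agent.Lib.Helper16
open scoped Matrix

namespace Cfsg.Agent.S2620

theorem polar_plus {F : Type*} [Field F] (m : ℕ) (u v : Fin m ⊕ Fin m → F) :
    QuadraticMap.polar (quadFormPlus m F) u v =
      Matrix.toBilin' (swapBlocks m F) u v := by
  rw [Matrix.toBilin'_apply']
  simp only [swapBlocks, QuadraticMap.polar, quadFormPlus, Matrix.fromBlocks_mulVec, Matrix.zero_mulVec, Matrix.one_mulVec,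
    zero_add, add_zero, dotProduct, Fintype.sum_sum_type, Sum.elim_inl, Sum.elim_inr, Function.comp,
    Pi.add_apply]
  rw [← Finset.sum_sub_distrib, ← Finset.sum_sub_distrib, ← Finset.sum_add_distrib]
  apply Finset.sum_congr rfl
  intro i _
  ring

theorem result {F : Type*} [Field F] [Fintype F] {q : ℕ} (hF : Fintype.card F = q) (hq : Odd q) {m : ℕ} (hm : 1 ≤ m) {ι : Type*} [Fintype ι] [DecidableEq ι] (b : Module.Basis ι F (Fin m ⊕ Fin m → F)) : IsSquare (Matrix.of (fun i j : ι => QuadraticMap.polar (Cfsg.quadFormPlus m F) (b i) (b j))).det ↔ Even (m * (q - 1) / 2) := by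
  subst hF
  simp only [polar_plus]
  obtain ⟨d, hd, hdet⟩ := gram_det_change_basis (Matrix.toBilin' (swapBlocks m F)) b
  rw [hdet, isSquare_sq_mul_iff hd, LinearMap.BilinForm.toMatrix'_toBilin', det_swapBlocks]
  have hq2 : 2 ∣ Fintype.card F - 1 := by
    rw [Nat.odd_iff] at hq; omega
  have hmq : m * (Fintype.card F - 1) / 2 = m * ((Fintype.card F - 1) / 2) := Nat.mul_div_assoc m hq2
  rw [hmq, Nat.even_mul]
  rcases Nat.even_or_odd m with hev | hodd
  · simp only [hev, true_or, iff_true, Even.neg_one_pow hev]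
    exact ⟨1, by simp⟩
  · have hne : ¬ Even m := Nat.not_even_iff_odd.mpr hodd
    simp only [hne, false_or, Odd.neg_one_pow hodd]
    rw [FiniteField.isSquare_neg_one_iff]
    rw [Nat.odd_iff] at hq
    rw [Nat.even_iff]
    omega

end Cfsg.Agent.S2620
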