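import Cfsg.Statements.S2621
import Cfsg.Agent.Lib.Helper16.Gram

set_option autoImplicit false
open Cfsg
open Cfsg.Agent.Lib.Helper16
open scoped Matrix

namespace Cfsg.Agent.S2621

def gramMinus (k : ℕ) {F : Type*} [Field F] (a c : F) :
    Matrix ((Fin k ⊕ Fin k) ⊕ Fin 2) ((Fin k ⊕ Fin k) ⊕ Fin 2) F :=
  Matrix.fromBlocks (swapBlocks k F) (0 : Matrix (Fin k ⊕ Fin k) (Fin 2) F)
    (0 : Matrix (Fin 2) (Fin k ⊕ Fin k) F) (!![2, a; a, 2 * c] : Matrix (Fin 2) (Fin 2) F)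

theorem det_gramMinus (k : ℕ) {F : Type*} [Field F] (a c : F) :
    (gramMinus k a c).det = (-1) ^ k * (4 * c - a ^ 2) := by
  rw [gramMinus, Matrix.det_fromBlocks_zero₂₁, det_swapBlocks, Matrix.det_fin_two_of]
  ring

theorem polar_minus {F : Type*} [Field F] (k : ℕ) (a c : F) (u v : (Fin k ⊕ Fin k) ⊕ Fin 2 → F) :
    QuadraticMap.polar (quadFormMinus k F a c) u v =
      Matrix.toBilin' (gramMinus k a c) u v := by
  rw [Matrix.toBilin'_apply', gramMinus, Matrix.fromBlocks_mulVec, swapBlocks, Matrix.fromBlocks_mulVec]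
  simp only [Matrix.zero_mulVec, Matrix.one_mulVec, zero_add, add_zero]
  simp only [dotProduct, Fintype.sum_sum_type, Sum.elim_inl, Sum.elim_inr, Function.comp, Fin.sum_univ_two,
    Matrix.mulVec, Matrix.of_apply, Matrix.cons_val_zero, Matrix.cons_val_one, Matrix.cons_val', Matrix.cons_val_fin_one]
  simp only [QuadraticMap.polar, quadFormMinus, Pi.add_apply]
  have hsum : ∑ x, (u (Sum.inl (Sum.inl x)) + v (Sum.inl (Sum.inl x))) * (u (Sum.inl (Sum.inr x)) + v (Sum.inl (Sum.inr x)))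
      = ∑ i, u (Sum.inl (Sum.inl i)) * u (Sum.inl (Sum.inr i)) + ∑ i, v (Sum.inl (Sum.inl i)) * v (Sum.inl (Sum.inr i))
        + ∑ a₁, u (Sum.inl (Sum.inl a₁)) * v (Sum.inl (Sum.inr a₁)) + ∑ a₂, u (Sum.inl (Sum.inr a₂)) * v (Sum.inl (Sum.inl a₂)) := by
    rw [← Finset.sum_add_distrib, ← Finset.sum_add_distrib, ← Finset.sum_add_distrib]
    apply Finset.sum_congr rfl
    intro i _
    ring
  rw [hsum]
  ring

section
variable {F : Type*} [Field F] [Fintype F]

theorem ringChar_ne_two_of_odd (hq : Odd (Fintype.card F)) : ringChar F ≠ 2 := by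
  intro h
  have := FiniteField.even_card_of_char_two h
  rw [Nat.odd_iff] at hq
  omega

theorem two_ne_zero_of_odd (hq : Odd (Fintype.card F)) : (2 : F) ≠ 0 :=
  Ring.two_ne_zero (ringChar_ne_two_of_odd hq)

theorem disc_nonsquare (hq : Odd (Fintype.card F)) (a c : F)
    (hac : ∀ z₁ z₂ : F, z₁ ^ 2 + a * z₁ * z₂ + c * z₂ ^ 2 = 0 → z₁ = 0 ∧ z₂ = 0) :
    ¬ IsSquare (a ^ 2 - 4 * c) := by
  rintro ⟨y, hy⟩
  have := hac (y - a) 2 (by linear_combination (-1 : F) * hy)
  exact two_ne_zero_of_odd hq this.2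

theorem nonsq_mul_nonsq (hq : Odd (Fintype.card F)) {x y : F} (hx : ¬ IsSquare x) (hy : ¬ IsSquare y) :
    IsSquare (x * y) := by
  have hc := ringChar_ne_two_of_odd hq
  have hx0 : x ≠ 0 := by rintro rfl; exact hx ⟨0, by simp⟩
  have hy0 : y ≠ 0 := by rintro rfl; exact hy ⟨0, by simp⟩
  rw [FiniteField.isSquare_iff hc (mul_ne_zero hx0 hy0), mul_pow]
  rw [FiniteField.isSquare_iff hc hx0] at hx
  rw [FiniteField.isSquare_iff hc hy0] at hy
  have h1 := (FiniteField.pow_dichotomy hc hx0).resolve_left hx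
  have h2 := (FiniteField.pow_dichotomy hc hy0).resolve_left hy
  rw [h1, h2]; ring

omit [Fintype F] in
theorem sq_mul_nonsq {x y : F} (hx : IsSquare x) (hx0 : x ≠ 0) (hy : ¬ IsSquare y) :
    ¬ IsSquare (x * y) := by
  obtain ⟨d, rfl⟩ := hx
  have hd : d ≠ 0 := by rintro rfl; simp at hx0
  rw [← pow_two, isSquare_sq_mul_iff hd]
  exact hy
end

theorem result {F : Type*} [Field F] [Fintype F] {q : ℕ} (hF : Fintype.card F = q) (hq : Odd q) {m : ℕ} (hm : 1 ≤ m) (a c : F) (hac : ∀ z₁ z₂ : F, z₁ ^ 2 + a * z₁ * z₂ + c * z₂ ^ 2 = 0 → z₁ = 0 ∧ z₂ = 0) {ι : Type*} [Fintype ι] [DecidableEq ι] (b : Module.Basis ι F ((Fin (m - 1) ⊕ Fin (m - 1)) ⊕ Fin 2 → F)) : IsSquare (Matrix.of (fun i j : ι => QuadraticMap.polar (Cfsg.quadFormMinus (m - 1) F a c) (b i) (b j))).det ↔ ¬ Even (m * (q - 1) / 2) := by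
  subst hF
  simp only [polar_minus]
  obtain ⟨d, hd, hdet⟩ := gram_det_change_basis (Matrix.toBilin' (gramMinus (m - 1) a c)) b
  rw [hdet, isSquare_sq_mul_iff hd, LinearMap.BilinForm.toMatrix'_toBilin', det_gramMinus]
  have hD := disc_nonsquare hq a c hac
  have hq2 : 2 ∣ Fintype.card F - 1 := by
    rw [Nat.odd_iff] at hq; omega
  have hmq : m * (Fintype.card F - 1) / 2 = m * ((Fintype.card F - 1) / 2) := Nat.mul_div_assoc m hq2
  rw [hmq, Nat.even_mul]
  obtain ⟨k, rfl⟩ : ∃ k, m = k + 1 := ⟨m - 1, by omega⟩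
  rw [Nat.add_sub_cancel]
  have hrew : (-1 : F) ^ k * (4 * c - a ^ 2) = (-1) ^ (k + 1) * (a ^ 2 - 4 * c) := by ring
  rw [hrew]
  rcases Nat.even_or_odd (k + 1) with hev | hodd
  · simp only [hev, true_or, not_true_eq_false, iff_false, Even.neg_one_pow hev, one_mul]
    exact hD
  · have hne : ¬ Even (k + 1) := Nat.not_even_iff_odd.mpr hodd
    simp only [hne, false_or, Odd.neg_one_pow hodd]
    by_cases h4 : Fintype.card F % 4 = 3
    · have h1 : ¬ IsSquare (-1 : F) := by rw [FiniteField.isSquare_neg_one_iff]; simpa using h4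
      have hne2 : ¬ Even ((Fintype.card F - 1) / 2) := by rw [Nat.even_iff]; omega
      simp only [hne2, not_false_eq_true, iff_true]
      exact nonsq_mul_nonsq hq h1 hD
    · have h1 : IsSquare (-1 : F) := by rw [FiniteField.isSquare_neg_one_iff]; exact h4
      have hev2 : Even ((Fintype.card F - 1) / 2) := by
        rw [Nat.even_iff]; rw [Nat.odd_iff] at hq; omega
      simp only [hev2, not_true_eq_false, iff_false]
      exact sq_mul_nonsq h1 (by simp) hD

end Cfsg.Agent.S2621
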