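import Cfsg.Statements.S2573

set_option autoImplicit false
open Cfsg

namespace Cfsg.Agent.S2573

section
variable {F V : Type*} [Field F] [AddCommGroup V] [Module F V] [FiniteDimensional F V]

theorem finrank_ker_comp_le (f g : V →ₗ[F] V) :
    Module.finrank F (LinearMap.ker (f ∘ₗ g)) ≤ Module.finrank F (LinearMap.ker f) + Module.finrank F (LinearMap.ker g) := by
  let g' : LinearMap.ker (f ∘ₗ g) →ₗ[F] LinearMap.ker f :=
    (g.domRestrict (LinearMap.ker (f ∘ₗ g))).codRestrict (LinearMap.ker f) (by
      intro x
      have := LinearMap.mem_ker.mp x.2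
      rw [LinearMap.comp_apply] at this
      simpa using this)
  have h1 := LinearMap.finrank_range_add_finrank_ker g'
  have h2 : Module.finrank F (LinearMap.range g') ≤ Module.finrank F (LinearMap.ker f) :=
    Submodule.finrank_le _
  have h3 : Module.finrank F (LinearMap.ker g') ≤ Module.finrank F (LinearMap.ker g) := by
    let ι : LinearMap.ker g' →ₗ[F] LinearMap.ker g :=
      ((LinearMap.ker (f ∘ₗ g)).subtype ∘ₗ (LinearMap.ker g').subtype).codRestrict (LinearMap.ker g) (by
        intro x
        have := LinearMap.mem_ker.mp x.2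
        have h4 : ((g' x.1 : LinearMap.ker f) : V) = 0 := by rw [this]; rfl
        exact h4)
    apply LinearMap.finrank_le_finrank_of_injective (f := ι)
    intro x y hxy
    have := congrArg Subtype.val hxy
    simp only [ι] at this
    exact Subtype.ext (Subtype.ext this)
  omega

theorem finrank_ker_pow_le (f : V →ₗ[F] V) (k : ℕ) :
    Module.finrank F (LinearMap.ker (f ^ k)) ≤ k * Module.finrank F (LinearMap.ker f) := by
  induction k with
  | zero =>
    have : f ^ 0 = LinearMap.id := pow_zero f
    rw [this, LinearMap.ker_id]; simp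
  | succ n ih =>
    rw [pow_succ]
    have := finrank_ker_comp_le (f ^ n) f
    have e : (f ^ n) * f = (f ^ n) ∘ₗ f := rfl
    rw [e]
    linarith [this, ih, Nat.succ_mul n (Module.finrank F (LinearMap.ker f))]

theorem nilp_restrict_pow (f : V →ₗ[F] V) (n : ℕ) (hf : f ^ n = 0) (W : Submodule F V)
    (hW : ∀ v ∈ W, f v ∈ W) : W ≤ LinearMap.ker (f ^ Module.finrank F W) := by
  have hnil : IsNilpotent (f.restrict hW) := by
    refine ⟨n, ?_⟩
    rw [Module.End.pow_restrict n]
    ext x
    simp [hf]
  have h1 := (LinearMap.isNilpotent_iff_charpoly (f.restrict hW)).mp hnil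
  have h2 := LinearMap.aeval_self_charpoly (f.restrict hW)
  rw [h1, map_pow, Polynomial.aeval_X] at h2
  intro w hw
  rw [LinearMap.mem_ker]
  have h3 := congrArg (fun g : W →ₗ[F] W => (g ⟨w, hw⟩ : V)) h2
  simp only [LinearMap.zero_apply, ZeroMemClass.coe_zero] at h3
  rw [← h3, Module.End.pow_restrict]
  rfl
end

theorem mulVecLin_pow' {F : Type*} [Field F] {n : ℕ} (A : Matrix (Fin n) (Fin n) F) (k : ℕ) :
    Matrix.mulVecLin (A ^ k) = (Matrix.mulVecLin A) ^ k := by
  induction k with
  | zero =>
    rw [pow_zero, pow_zero, Matrix.mulVecLin_one]; rfl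
  | succ k ih =>
    rw [pow_succ, pow_succ, Matrix.mulVecLin_mul, ih]; rfl

/-- The invariant subspaces of a regular unipotent matrix form a chain: over a finite field, if u is an n × n matrix with (u − 1)^n = 0 and rank(u − 1) = n − 1, then every subspace W of F^n with u W ⊆ W is the kernel of (u − 1)^(dim W); so u has at most one invariant subspace of each dimension. -/
theorem result {F : Type*} [Field F] [Finite F] {n : ℕ} (u : Matrix (Fin n) (Fin n) F) (hnil : (u - 1) ^ n = 0) (hreg : (u - 1).rank = n - 1) (W : Submodule F (Fin n → F)) (hW : ∀ v ∈ W, u.mulVec v ∈ W) : W = LinearMap.ker (Matrix.mulVecLin ((u - 1) ^ Module.finrank F W)) := by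
  set f := Matrix.mulVecLin (u - 1) with hf
  have hfW : ∀ v ∈ W, f v ∈ W := by
    intro v hv
    have : f v = u.mulVec v - v := by
      simp [hf]
    rw [this]
    exact W.sub_mem (hW v hv) hv
  have hfn : f ^ n = 0 := by
    rw [hf, ← mulVecLin_pow', hnil]
    simp
  have h1 := nilp_restrict_pow f n hfn W hfW
  have h2 := finrank_ker_pow_le f (Module.finrank F W)
  have h3 : Module.finrank F (LinearMap.ker f) ≤ 1 := by
    have h4 := LinearMap.finrank_range_add_finrank_ker f
    have h5 : Module.finrank F (LinearMap.range f) = n - 1 := hreg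
    rw [h5] at h4
    simp only [Module.finrank_fintype_fun_eq_card, Fintype.card_fin] at h4
    omega
  rw [mulVecLin_pow']
  apply Submodule.eq_of_le_of_finrank_le h1
  calc Module.finrank F (LinearMap.ker (f ^ Module.finrank F W)) ≤ Module.finrank F W * Module.finrank F (LinearMap.ker f) := h2
    _ ≤ Module.finrank F W * 1 := Nat.mul_le_mul_left _ h3
    _ = Module.finrank F W := mul_one _

end Cfsg.Agent.S2573
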