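import Cfsg.Statements.S2571
import Cfsg.Agent.S2573

set_option autoImplicit false
open Cfsg

namespace Cfsg.Agent.S2571

open Module

section
variable {F V : Type*} [Field F] [AddCommGroup V] [Module F V]

theorem li_iterates (f : V →ₗ[F] V) (m : ℕ) (hf : f ^ (m + 1) = 0) (v : V) (hv : (f ^ m) v ≠ 0) :
    LinearIndependent F (fun i : Fin (m + 1) => (f ^ (i : ℕ)) v) := by
  rw [Fintype.linearIndependent_iff]
  intro c hc
  have key : ∀ k : ℕ, ∀ i : Fin (m + 1), (i : ℕ) = k → c i = 0 := by
    intro k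
    induction k using Nat.strong_induction_on with
    | _ k ih =>
      intro i hi
      have h1 := congrArg (f ^ (m - k)) hc
      rw [map_sum, map_zero] at h1
      rw [Finset.sum_eq_single i] at h1
      · rw [map_smul, ← Module.End.mul_apply, ← pow_add, hi] at h1
        have : m - k + k = m := by
          have := i.2
          omega
        rw [this] at h1
        exact (smul_eq_zero.mp h1).resolve_right hv
      · intro j _ hji
        rcases lt_or_gt_of_ne (fun h => hji (Fin.ext h) : (j : ℕ) ≠ (i : ℕ)) with hlt | hgt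
        · rw [ih j (by omega) j rfl, zero_smul, map_zero]
        · rw [map_smul, ← Module.End.mul_apply, ← pow_add]
          have : m - k + (j : ℕ) = (m + 1) + ((j : ℕ) - k - 1) := by
            have := i.2
            omega
          rw [this, pow_add, hf, zero_mul, LinearMap.zero_apply, smul_zero]
      · intro h; exact absurd (Finset.mem_univ i) h
  intro i
  exact key i i rfl
end

section
variable {F : Type*} [Field F]

open Cfsg.Agent.S2573

noncomputable def Psi {m : ℕ} (N : Matrix (Fin (m + 1)) (Fin (m + 1)) F) (c : Fin (m + 1) → F) :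
    Matrix (Fin (m + 1)) (Fin (m + 1)) F := ∑ i : Fin (m + 1), c i • N ^ (i : ℕ)

theorem Psi_commute {m : ℕ} (N : Matrix (Fin (m + 1)) (Fin (m + 1)) F) (c : Fin (m + 1) → F) :
    Commute (Psi N c) N := by
  unfold Psi
  apply Commute.sum_left
  intro i _
  exact ((Commute.refl N).pow_left _).smul_left _

theorem Psi_split {m : ℕ} (N : Matrix (Fin (m + 1)) (Fin (m + 1)) F) (c : Fin (m + 1) → F) :
    Psi N c = c 0 • 1 + N * ∑ i : Fin m, c i.succ • N ^ (i : ℕ) := by
  unfold Psi
  rw [Fin.sum_univ_succ, Finset.mul_sum]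
  congr 1
  apply Finset.sum_congr rfl
  intro i _
  rw [Fin.val_succ, pow_succ', Matrix.mul_smul]

theorem Psi_tail_nilp {m : ℕ} (N : Matrix (Fin (m + 1)) (Fin (m + 1)) F) (hN : N ^ (m + 1) = 0) (c : Fin (m + 1) → F) :
    IsNilpotent (N * ∑ i : Fin m, c i.succ • N ^ (i : ℕ)) := by
  refine ⟨m + 1, ?_⟩
  have hc : Commute N (∑ i : Fin m, c i.succ • N ^ (i : ℕ)) := by
    apply Commute.sum_right
    intro i _
    exact ((Commute.refl N).pow_right _).smul_right _
  rw [hc.mul_pow, hN, zero_mul]

theorem Psi_isUnit {m : ℕ} (N : Matrix (Fin (m + 1)) (Fin (m + 1)) F) (hN : N ^ (m + 1) = 0) (c : Fin (m + 1) → F)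
    (hc : c 0 ≠ 0) : IsUnit (Psi N c) := by
  rw [Psi_split]
  apply IsNilpotent.isUnit_add_left_of_commute (Psi_tail_nilp N hN c)
  · have := (IsUnit.mk0 _ hc).map (algebraMap F (Matrix (Fin (m + 1)) (Fin (m + 1)) F))
    rwa [Algebra.algebraMap_eq_smul_one] at this
  · exact (Commute.one_right _).smul_right _

theorem Psi_not_isUnit {m : ℕ} (N : Matrix (Fin (m + 1)) (Fin (m + 1)) F) (hN : N ^ (m + 1) = 0) (c : Fin (m + 1) → F)
    (hc : c 0 = 0) : ¬ IsUnit (Psi N c) := by
  rw [Psi_split, hc, zero_smul, zero_add]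
  intro hu
  obtain ⟨k, hk⟩ := Psi_tail_nilp N hN c
  have := hu.pow k
  rw [hk] at this
  exact not_isUnit_zero this

theorem Psi_mulVec {m : ℕ} (N : Matrix (Fin (m + 1)) (Fin (m + 1)) F) (c : Fin (m + 1) → F) (v : Fin (m + 1) → F) :
    (Psi N c).mulVec v = ∑ i : Fin (m + 1), c i • ((Matrix.mulVecLin N) ^ (i : ℕ)) v := by
  unfold Psi
  rw [Matrix.sum_mulVec]
  apply Finset.sum_congr rfl
  intro i _
  rw [Matrix.smul_mulVec, ← mulVecLin_pow', Matrix.mulVecLin_apply]

end

section
variable {F : Type*} [Field F]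
open Cfsg.Agent.S2573

theorem card_c {q m : ℕ} [Fintype F] (hF : Fintype.card F = q) :
    Nat.card {c : Fin (m + 1) → F // c 0 ≠ 0} = (q - 1) * q ^ m := by
  classical
  have e : {c : Fin (m + 1) → F // c 0 ≠ 0} ≃ {x : F // x ≠ 0} × (Fin m → F) :=
    ((Fin.consEquiv (fun _ : Fin (m + 1) => F)).symm.subtypeEquiv (p := fun c => c 0 ≠ 0)
      (q := fun x : F × (Fin m → F) => x.1 ≠ 0) (by intro c; rfl)).trans
      (Equiv.subtypeProdEquivProd (p := fun x : F => x ≠ 0) (q := fun _ : Fin m → F => True) |>.symm.trans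
        (Equiv.subtypeEquivRight (by intro x; simp)) |>.symm |>.trans
        (Equiv.prodCongr (Equiv.refl _) (Equiv.subtypeUnivEquiv (fun _ => trivial))))
  rw [Nat.card_congr e, Nat.card_prod, Nat.card_eq_fintype_card, Nat.card_eq_fintype_card,
    Fintype.card_subtype_compl, Fintype.card_pi, Finset.prod_const, Finset.card_univ, Fintype.card_fin, hF]
  simp
end

/-- A regular unipotent element of GL_n(q) (u − 1 nilpotent of rank n − 1) has centraliser of order (q − 1) q^(n−1). -/
theorem result {F : Type*} [Field F] [Fintype F] {q n : ℕ} (hF : Fintype.card F = q) (hn : 1 ≤ n) (u : GL (Fin n) F) (hnil : ((u : Matrix (Fin n) (Fin n) F) - 1) ^ n = 0) (hreg : ((u : Matrix (Fin n) (Fin n) F) - 1).rank = n - 1) : Nat.card ↥(Subgroup.centralizer ({u} : Set (GL (Fin n) F))) = (q - 1) * q ^ (n - 1) := by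
  obtain ⟨m, rfl⟩ : ∃ m, n = m + 1 := ⟨n - 1, by omega⟩
  rw [Nat.add_sub_cancel] at hreg ⊢
  set N := (u : Matrix (Fin (m + 1)) (Fin (m + 1)) F) - 1 with hN
  have huN : (u : Matrix (Fin (m + 1)) (Fin (m + 1)) F) = N + 1 := by rw [hN]; abel
  set f := Matrix.mulVecLin N with hf
  have hfn : f ^ (m + 1) = 0 := by
    rw [hf, ← Cfsg.Agent.S2573.mulVecLin_pow', hnil]; simp
  have hker : finrank F (LinearMap.ker f) ≤ 1 := by
    have h4 := LinearMap.finrank_range_add_finrank_ker f
    have h5 : finrank F (LinearMap.range f) = m := hreg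
    rw [h5] at h4
    simp only [Module.finrank_fintype_fun_eq_card, Fintype.card_fin] at h4
    omega
  have hv : ∃ v, (f ^ m) v ≠ 0 := by
    by_contra hcon
    push Not at hcon
    have h1 : LinearMap.ker (f ^ m) = ⊤ := by
      rw [LinearMap.ker_eq_top]
      exact LinearMap.ext hcon
    have h2 := Cfsg.Agent.S2573.finrank_ker_pow_le f m
    rw [h1, finrank_top] at h2
    simp only [Module.finrank_fintype_fun_eq_card, Fintype.card_fin] at h2
    have : m * finrank F (LinearMap.ker f) ≤ m * 1 := Nat.mul_le_mul_left _ hker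
    omega
  obtain ⟨v, hv⟩ := hv
  have hli := li_iterates f m hfn v hv
  have hcard : Fintype.card (Fin (m + 1)) = finrank F (Fin (m + 1) → F) := by simp
  set B := basisOfLinearIndependentOfCardEqFinrank hli hcard with hB
  have hBapp : ∀ i, B i = (f ^ (i : ℕ)) v := by
    intro i
    rw [hB, coe_basisOfLinearIndependentOfCardEqFinrank]
  have hcent : ∀ g : GL (Fin (m + 1)) F, g ∈ Subgroup.centralizer ({u} : Set (GL (Fin (m + 1)) F)) ↔
      Commute (g : Matrix (Fin (m + 1)) (Fin (m + 1)) F) N := by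
    intro g
    rw [Subgroup.mem_centralizer_iff]
    constructor
    · intro h
      have h1 := congrArg Units.val (h u rfl)
      rw [Units.val_mul, Units.val_mul, huN] at h1
      show _ * N = N * _
      rw [mul_add, add_mul, mul_one, one_mul] at h1
      exact (add_right_cancel h1).symm
    · intro h x hx
      rw [Set.mem_singleton_iff] at hx
      subst hx
      apply Units.ext
      rw [Units.val_mul, Units.val_mul, huN, mul_add, add_mul, mul_one, one_mul, h.eq]
  let Φ : {c : Fin (m + 1) → F // c 0 ≠ 0} → ↥(Subgroup.centralizer ({u} : Set (GL (Fin (m + 1)) F))) :=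
    fun c => ⟨(Psi_isUnit N hnil c.1 c.2).unit, by
      rw [hcent]
      exact Psi_commute N c.1⟩
  have hΦ : ∀ c, ((Φ c).1 : Matrix (Fin (m + 1)) (Fin (m + 1)) F) = Psi N c.1 := fun c => rfl
  have hinj : Function.Injective Φ := by
    intro c c' hcc
    have h1 : Psi N c.1 = Psi N c'.1 := by
      rw [← hΦ, ← hΦ, hcc]
    have h2 := congrArg (fun M => Matrix.mulVec M v) h1
    simp only [Psi_mulVec] at h2
    have h3 : ∑ i : Fin (m + 1), (c.1 i - c'.1 i) • (f ^ (i : ℕ)) v = 0 := by
      simp only [sub_smul, Finset.sum_sub_distrib]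
      rw [hf, h2, sub_self]
    have h4 := (Fintype.linearIndependent_iff.mp hli) (fun i => c.1 i - c'.1 i) h3
    apply Subtype.ext
    funext i
    exact sub_eq_zero.mp (h4 i)
  have hsurj : Function.Surjective Φ := by
    rintro ⟨g, hg⟩
    rw [hcent] at hg
    set G := (g : Matrix (Fin (m + 1)) (Fin (m + 1)) F) with hG
    set c : Fin (m + 1) → F := fun i => B.repr (G.mulVec v) i with hc
    have h1 : (Psi N c).mulVec v = G.mulVec v := by
      rw [Psi_mulVec]
      have := B.sum_repr (G.mulVec v)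
      simp only [hBapp] at this
      exact this
    have hpow : ∀ (M : Matrix (Fin (m + 1)) (Fin (m + 1)) F), Commute M N → ∀ (k : ℕ) (x : Fin (m + 1) → F),
        M.mulVec ((f ^ k) x) = (f ^ k) (M.mulVec x) := by
      intro M hM k x
      rw [hf, ← Cfsg.Agent.S2573.mulVecLin_pow', Matrix.mulVecLin_apply, Matrix.mulVecLin_apply,
        Matrix.mulVec_mulVec, Matrix.mulVec_mulVec, (hM.pow_right k).eq]
    have h2 : Psi N c = G := by
      have : Matrix.toLin' (Psi N c) = Matrix.toLin' G := by
        apply B.ext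
        intro j
        rw [hBapp, Matrix.toLin'_apply, Matrix.toLin'_apply, hpow _ (Psi_commute N c), hpow _ hg, h1]
      exact Matrix.toLin'.injective this
    have hc0 : c 0 ≠ 0 := by
      intro h0
      apply Psi_not_isUnit N hnil c h0
      rw [h2]
      exact g.isUnit
    refine ⟨⟨c, hc0⟩, ?_⟩
    apply Subtype.ext
    apply Units.ext
    exact h2
  rw [← Nat.card_congr (Equiv.ofBijective Φ ⟨hinj, hsurj⟩)]
  exact card_c hF

end Cfsg.Agent.S2571
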