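import Cfsg.Statements.S2261

set_option autoImplicit false
set_option linter.unusedSectionVars false
open Cfsg

namespace Cfsg.Agent.S2261

open Polynomial

section
variable {F : Type*} [Field F] [Fintype F] {d : ℕ}

def polySet (M : Matrix (Fin d) (Fin d) F) : Set (Matrix (Fin d) (Fin d) F) :=
  Set.range (fun r : Polynomial.degreeLT F d => Polynomial.aeval M (r : Polynomial F))

theorem polySet_card_le (M : Matrix (Fin d) (Fin d) F) : Nat.card (polySet M) ≤ Fintype.card F ^ d := by
  have h1 : Nat.card (Polynomial.degreeLT F d) = Fintype.card F ^ d := by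
    rw [Nat.card_congr (Polynomial.degreeLTEquiv F d).toEquiv, Nat.card_eq_fintype_card, Fintype.card_fun,
      Fintype.card_fin]
  haveI : Finite (Polynomial.degreeLT F d) := Nat.finite_of_card_ne_zero (by rw [h1]; positivity)
  rw [← h1]
  exact Finite.card_range_le _

theorem polySet_finite (M : Matrix (Fin d) (Fin d) F) : (polySet M).Finite := Set.toFinite _

theorem aeval_mem_polySet (M : Matrix (Fin d) (Fin d) F) (p : Polynomial F) :
    Polynomial.aeval M p ∈ polySet M := by
  have hdeg : (p %ₘ M.charpoly).degree < (d : WithBot ℕ) := by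
    have := Polynomial.degree_modByMonic_lt p (Matrix.charpoly_monic M)
    rw [Matrix.charpoly_degree_eq_dim, Fintype.card_fin] at this
    exact this
  refine ⟨⟨p %ₘ M.charpoly, Polynomial.mem_degreeLT.mpr hdeg⟩, ?_⟩
  exact Polynomial.aeval_modByMonic_eq_self_of_root (Matrix.aeval_self_charpoly M)

theorem scalar_mul_pow_mem (g : GL (Fin d) F) (c : Fˣ) (i : ℕ) :
    ((Matrix.GeneralLinearGroup.scalar (Fin d) c * g ^ i : GL (Fin d) F) : Matrix (Fin d) (Fin d) F) ∈
      polySet (g : Matrix (Fin d) (Fin d) F) := by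
  have : ((Matrix.GeneralLinearGroup.scalar (Fin d) c * g ^ i : GL (Fin d) F) : Matrix (Fin d) (Fin d) F) =
      Polynomial.aeval (g : Matrix (Fin d) (Fin d) F) (Polynomial.C (c : F) * Polynomial.X ^ i) := by
    rw [map_mul, Polynomial.aeval_C, map_pow, Polynomial.aeval_X, Units.val_mul, Units.val_pow_eq_pow_val,
      Matrix.GeneralLinearGroup.coe_scalar]
    rfl
  rw [this]
  exact aeval_mem_polySet _ _

theorem scalar_inj (hd : 1 ≤ d) (c c' : Fˣ)
    (h : Matrix.GeneralLinearGroup.scalar (Fin d) c = Matrix.GeneralLinearGroup.scalar (Fin d) c') : c = c' := by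
  have h1 := congrArg (fun x : GL (Fin d) F => (x : Matrix (Fin d) (Fin d) F) ⟨0, hd⟩ ⟨0, hd⟩) h
  simp only [Matrix.GeneralLinearGroup.coe_scalar] at h1
  apply Units.ext
  simpa using h1

theorem mk_scalar_mul (g : GL (Fin d) F) (c : Fˣ) (i : ℕ) :
    (QuotientGroup.mk (Matrix.GeneralLinearGroup.scalar (Fin d) c * g ^ i) :
      GL (Fin d) F ⧸ Subgroup.center (GL (Fin d) F)) = (QuotientGroup.mk g) ^ i := by
  rw [QuotientGroup.mk_mul, QuotientGroup.mk_pow]
  have : (QuotientGroup.mk (Matrix.GeneralLinearGroup.scalar (Fin d) c) :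
      GL (Fin d) F ⧸ Subgroup.center (GL (Fin d) F)) = 1 := by
    rw [QuotientGroup.eq_one_iff, Matrix.GeneralLinearGroup.center_eq_range_scalar]
    exact ⟨c, rfl⟩
  rw [this, one_mul]

theorem upper (hd : 1 ≤ d) (g : GL (Fin d) F) :
    (Fintype.card F - 1) * orderOf (QuotientGroup.mk g : GL (Fin d) F ⧸ Subgroup.center (GL (Fin d) F)) ≤
      Fintype.card F ^ d - 1 := by
  classical
  haveI : Nonempty (Fin d) := ⟨⟨0, hd⟩⟩
  set k := orderOf (QuotientGroup.mk g : GL (Fin d) F ⧸ Subgroup.center (GL (Fin d) F)) with hk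
  let ψ : Option (Fin k × Fˣ) → polySet (g : Matrix (Fin d) (Fin d) F) := fun x =>
    match x with
    | none => ⟨0, by
        have := aeval_mem_polySet (g : Matrix (Fin d) (Fin d) F) 0
        simpa using this⟩
    | some (i, c) => ⟨_, scalar_mul_pow_mem g c i.val⟩
  have hψ : Function.Injective ψ := by
    intro x y hxy
    rcases x with _ | ⟨i, c⟩ <;> rcases y with _ | ⟨j, c'⟩
    · rfl
    · exfalso
      have h : (0 : Matrix (Fin d) (Fin d) F) =
          ((Matrix.GeneralLinearGroup.scalar (Fin d) c' * g ^ j.val : GL (Fin d) F) : Matrix (Fin d) (Fin d) F) :=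
        congrArg Subtype.val hxy
      exact Units.ne_zero _ h.symm
    · exfalso
      have h : ((Matrix.GeneralLinearGroup.scalar (Fin d) c * g ^ i.val : GL (Fin d) F) : Matrix (Fin d) (Fin d) F) =
          (0 : Matrix (Fin d) (Fin d) F) :=
        congrArg Subtype.val hxy
      exact Units.ne_zero _ h
    · have h := congrArg Subtype.val hxy
      have h' : Matrix.GeneralLinearGroup.scalar (Fin d) c * g ^ i.val =
          Matrix.GeneralLinearGroup.scalar (Fin d) c' * g ^ j.val := Units.ext h
      have h2 := congrArg (fun x : GL (Fin d) F =>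
        (QuotientGroup.mk x : GL (Fin d) F ⧸ Subgroup.center (GL (Fin d) F))) h'
      simp only [mk_scalar_mul] at h2
      have hij : i.val = j.val := pow_injOn_Iio_orderOf (Set.mem_Iio.mpr i.2) (Set.mem_Iio.mpr j.2) h2
      have hij' : i = j := Fin.ext hij
      subst hij'
      have h3 := mul_right_cancel h'
      have h4 := scalar_inj hd c c' h3
      rw [h4]
  haveI : Finite (polySet (g : Matrix (Fin d) (Fin d) F)) := (polySet_finite _).to_subtype
  have h1 := Nat.card_le_card_of_injective ψ hψ
  have h2 := polySet_card_le (g : Matrix (Fin d) (Fin d) F)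
  have h3 : Nat.card (Option (Fin k × Fˣ)) = k * (Fintype.card F - 1) + 1 := by
    rw [Nat.card_eq_fintype_card, Fintype.card_option, Fintype.card_prod, Fintype.card_fin, Fintype.card_units]
  rw [h3] at h1
  have h4 := h1.trans h2
  rw [mul_comm]
  omega

theorem lower (hd : 1 ≤ d) : ∃ g : GL (Fin d) F,
    Fintype.card F ^ d - 1 ≤ (Fintype.card F - 1) *
      orderOf (QuotientGroup.mk g : GL (Fin d) F ⧸ Subgroup.center (GL (Fin d) F)) := by
  classical
  let p := ringChar F
  haveI : CharP F p := ringChar.charP F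
  haveI : Fact p.Prime := ⟨CharP.char_is_prime F p⟩
  haveI : NeZero d := ⟨by omega⟩
  let K := FiniteField.Extension F p d
  haveI : Fintype K := Fintype.ofFinite K
  have hfr : Module.finrank F K = d := FiniteField.finrank_extension F p d
  let b : Module.Basis (Fin d) F K := Module.finBasisOfFinrankEq F K hfr
  let M : K →ₐ[F] Matrix (Fin d) (Fin d) F := Algebra.leftMulMatrix b
  have hM : Function.Injective M := Algebra.leftMulMatrix_injective b
  obtain ⟨ζ, hζ⟩ := IsCyclic.exists_generator (α := Kˣ)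
  have hordζ : orderOf ζ = Fintype.card F ^ d - 1 := by
    rw [orderOf_eq_card_of_forall_mem_zpowers hζ, Nat.card_units, FiniteField.natCard_extension,
      Nat.card_eq_fintype_card]
  let g : GL (Fin d) F := Units.map (M : K →* Matrix (Fin d) (Fin d) F) ζ
  have hordg : orderOf g = Fintype.card F ^ d - 1 := by
    rw [← hordζ]
    exact orderOf_injective (Units.map (M : K →* Matrix (Fin d) (Fin d) F)) (Units.map_injective hM) ζ
  refine ⟨g, ?_⟩
  set k := orderOf (QuotientGroup.mk g : GL (Fin d) F ⧸ Subgroup.center (GL (Fin d) F)) with hk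
  have hkpos : 0 < k := orderOf_pos _
  have hq : 1 < Fintype.card F := Fintype.one_lt_card
  have h1 : (QuotientGroup.mk g : GL (Fin d) F ⧸ Subgroup.center (GL (Fin d) F)) ^ k = 1 :=
    pow_orderOf_eq_one _
  rw [← QuotientGroup.mk_pow, QuotientGroup.eq_one_iff, Matrix.GeneralLinearGroup.center_eq_range_scalar] at h1
  obtain ⟨c, hc⟩ := h1
  have h2 : g ^ (k * (Fintype.card F - 1)) = 1 := by
    rw [pow_mul, ← hc, ← map_pow]
    have : c ^ (Fintype.card F - 1) = 1 := by
      rw [← Fintype.card_units]; exact pow_card_eq_one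
    rw [this, map_one]
  have h3 := orderOf_dvd_of_pow_eq_one h2
  rw [hordg] at h3
  have h4 : 0 < k * (Fintype.card F - 1) := Nat.mul_pos hkpos (by omega)
  have h5 := Nat.le_of_dvd h4 h3
  rw [mul_comm]
  exact h5

end

theorem result {F : Type*} [Field F] [Fintype F] (d : ℕ) (hd : 1 ≤ d) :
    (∀ g : (GL (Fin d) F ⧸ Subgroup.center (GL (Fin d) F)), (Fintype.card F - 1) * orderOf g ≤ Fintype.card F ^ d - 1) ∧
    (∃ g : (GL (Fin d) F ⧸ Subgroup.center (GL (Fin d) F)), (Fintype.card F - 1) * orderOf g = Fintype.card F ^ d - 1) := by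
  constructor
  · intro g
    obtain ⟨g, rfl⟩ := QuotientGroup.mk_surjective g
    exact upper hd g
  · obtain ⟨g, hg⟩ := lower (F := F) hd
    exact ⟨QuotientGroup.mk g, le_antisymm (upper hd g) hg⟩

end Cfsg.Agent.S2261
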