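import Cfsg.Statements.S0001
import Mathlib

set_option autoImplicit false
open Pointwise
open Cfsg

namespace Cfsg.Agent.S0001

open Subgroup MulAction MulOpposite
open scoped commutatorElement

noncomputable def mkQD {G : Type*} [Group G] (N : Subgroup G) [IsMulCommutative N] [N.FiniteIndex]
    (T : N.LeftTransversal) : N.QuotientDiff := Quotient.mk'' T

theorem le_stabilizer_mk {G : Type*} [Group G] [Finite G] (N : Subgroup G) [N.Normal]
    [IsMulCommutative N] (H : Subgroup G) (hH : IsComplement' H N) :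
    H ≤ stabilizer G (mkQD N ⟨(H : Set G), hH⟩) := by
  intro h hh
  rw [mem_stabilizer_iff]
  change Quotient.mk'' (op h⁻¹ • (⟨(H : Set G), hH⟩ : N.LeftTransversal)) = _
  congr 1
  apply Subtype.ext
  change (op h⁻¹) • (H : Set G) = (H : Set G)
  ext x
  rw [Set.mem_smul_set_iff_inv_smul_mem]
  simp only [← op_inv, inv_inv, smul_eq_mul_unop, unop_op, SetLike.mem_coe]
  exact ⟨fun hx => by simpa using H.mul_mem hx (H.inv_mem hh), fun hx => H.mul_mem hx hh⟩

theorem eq_stabilizer_mk {G : Type*} [Group G] [Finite G] (N : Subgroup G) [N.Normal]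
    [IsMulCommutative N] (hN : (Nat.card N).Coprime N.index) (H : Subgroup G) (hH : IsComplement' H N) :
    H = stabilizer G (mkQD N ⟨(H : Set G), hH⟩) := by
  have h1 := le_stabilizer_mk N H hH
  have h2 : IsComplement' N (stabilizer G (mkQD N ⟨(H : Set G), hH⟩)) :=
    isComplement'_stabilizer_of_coprime hN
  apply Subgroup.eq_of_le_of_card_ge h1
  have e1 := hH.card_mul_card
  have e2 := h2.card_mul_card
  have hpos : 0 < Nat.card N := Nat.card_pos
  rw [mul_comm] at e1
  have := e1.trans e2.symm
  exact (Nat.eq_of_mul_eq_mul_left hpos this).ge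

theorem conj_of_abelian {G : Type*} [Group G] [Finite G] (N : Subgroup G) [N.Normal]
    [IsMulCommutative N] (hN : (Nat.card N).Coprime N.index) (H K : Subgroup G)
    (hH : IsComplement' N H) (hK : IsComplement' N K) :
    ∃ g : G, MulAut.conj g • H = K := by
  obtain ⟨n, hn⟩ := exists_smul_eq hN (mkQD N ⟨(H : Set G), hH.symm⟩) (mkQD N ⟨(K : Set G), hK.symm⟩)
  refine ⟨(n : G), ?_⟩
  have e1 := eq_stabilizer_mk N hN H hH.symm
  have e2 := eq_stabilizer_mk N hN K hK.symm
  rw [e2, ← hn]
  change MulAut.conj (n : G) • H = stabilizer G ((n : G) • mkQD N ⟨(H : Set G), hH.symm⟩)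
  rw [MulAction.stabilizer_smul_eq_stabilizer_map_conj, ← e1]
  rfl

section
variable {G : Type*} [Group G] {G' : Type*} [Group G']

theorem compl_subgroupOf (N H L : Subgroup G) (hH : IsComplement' N H) (hL : H ≤ L ∨ N ≤ L) :
    IsComplement' (N.subgroupOf L) (H.subgroupOf L) := by
  apply isComplement'_of_disjoint_and_mul_eq_univ
  · rw [Subgroup.disjoint_def]
    intro x hx1 hx2
    have := (Subgroup.disjoint_def.mp hH.disjoint) (mem_subgroupOf.mp hx1) (mem_subgroupOf.mp hx2)
    exact Subtype.ext this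
  · rw [Set.eq_univ_iff_forall]
    intro l
    obtain ⟨⟨n, h⟩, hnh⟩ := hH.2 (l : G)
    simp only at hnh
    have hn : (n : G) ∈ L ∧ (h : G) ∈ L := by
      rcases hL with hL | hL
      · have h2 : (h : G) ∈ L := hL h.2
        refine ⟨?_, h2⟩
        have : (n : G) = l * (h : G)⁻¹ := by rw [← hnh]; group
        rw [this]; exact L.mul_mem l.2 (L.inv_mem h2)
      · have h1 : (n : G) ∈ L := hL n.2
        refine ⟨h1, ?_⟩
        have : (h : G) = (n : G)⁻¹ * l := by rw [← hnh]; group
        rw [this]; exact L.mul_mem (L.inv_mem h1) l.2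
    refine ⟨⟨n, hn.1⟩, ?_, ⟨h, hn.2⟩, ?_, ?_⟩
    · exact mem_subgroupOf.mpr n.2
    · exact mem_subgroupOf.mpr h.2
    · exact Subtype.ext hnh

theorem conj_of_subgroupOf (H K L : Subgroup G) (hH : H ≤ L) (hK : K ≤ L)
    (h : ∃ l : L, MulAut.conj l • H.subgroupOf L = K.subgroupOf L) :
    ∃ g : G, g ∈ L ∧ MulAut.conj g • H = K := by
  obtain ⟨l, hl⟩ := h
  refine ⟨l, l.2, ?_⟩
  have := congrArg (Subgroup.map L.subtype) hl
  rw [map_subgroupOf_eq_of_le hK] at this
  rw [← this]
  ext x
  simp only [Subgroup.mem_pointwise_smul_iff_inv_smul_mem, Subgroup.mem_map, MulAut.smul_def, mem_subgroupOf]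
  constructor
  · intro hx
    refine ⟨⟨x, ?_⟩, ?_, rfl⟩
    · have : x = l * ((MulAut.conj (l:G))⁻¹ x) * (l:G)⁻¹ := by simp [MulAut.conj_inv_apply]; group
      rw [this]
      exact L.mul_mem (L.mul_mem l.2 (hH hx)) (L.inv_mem l.2)
    · simpa using hx
  · rintro ⟨y, hy, rfl⟩
    simpa using hy

theorem compl_conj (N H : Subgroup G) [N.Normal] (hH : IsComplement' N H) (g : G) :
    IsComplement' N (MulAut.conj g • H) := by
  apply isComplement'_of_disjoint_and_mul_eq_univ
  · rw [Subgroup.disjoint_def]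
    intro x hx1 hx2
    rw [Subgroup.mem_pointwise_smul_iff_inv_smul_mem] at hx2
    have h1 : (MulAut.conj g)⁻¹ • x ∈ N := by
      simp only [MulAut.smul_def, MulAut.conj_inv_apply]
      exact (inferInstance : N.Normal).conj_mem' x hx1 g
    have h2 := (Subgroup.disjoint_def.mp hH.disjoint) h1 hx2
    simp only [MulAut.smul_def, MulAut.conj_inv_apply] at h2
    have h3 : x = g * (g⁻¹ * x * g) * g⁻¹ := by group
    rw [h3, h2]; group
  · rw [Set.eq_univ_iff_forall]
    intro x
    obtain ⟨⟨n, h⟩, hnh⟩ := hH.2 (g⁻¹ * x * g)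
    simp only at hnh
    refine ⟨g * n * g⁻¹, (inferInstance : N.Normal).conj_mem n n.2 g, g * h * g⁻¹, ?_, ?_⟩
    · rw [SetLike.mem_coe, Subgroup.mem_pointwise_smul_iff_inv_smul_mem]
      simp [mul_assoc]
    · have : g * ↑n * g⁻¹ * (g * ↑h * g⁻¹) = g * (n * h) * g⁻¹ := by group
      simp only [this, hnh]; group

theorem card_conj (H : Subgroup G) (g : G) : Nat.card (MulAut.conj g • H : Subgroup G) = Nat.card H :=
  (Nat.card_congr (Subgroup.equivSMul (MulAut.conj g) H).toEquiv).symm

theorem solvable_conj (H : Subgroup G) (g : G) [Group.IsSolvable H] : Group.IsSolvable (MulAut.conj g • H : Subgroup G) :=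
  Group.isSolvable_of_surjective (f := (Subgroup.equivSMul (MulAut.conj g) H).toMonoidHom) (Subgroup.equivSMul (MulAut.conj g) H).surjective

theorem commutator_lt_of_solvable (N : Subgroup G) [Group.IsSolvable N] (hN : N ≠ ⊥) : ⁅N, N⁆ < N := by
  rw [← nontrivial_iff_ne_bot] at hN
  rw [← N.range_subtype, MonoidHom.range_eq_map, ← map_commutator, map_subtype_lt_map_subtype]
  exact Group.IsSolvable.commutator_lt_top_of_nontrivial N

theorem compl_map [Finite G] (f : G →* G') (hf : Function.Surjective f) (N H : Subgroup G)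
    (hcop : (Nat.card N).Coprime (Nat.card H)) (hH : IsComplement' N H) :
    IsComplement' (N.map f) (H.map f) ∧ (Nat.card (N.map f)).Coprime (Nat.card (H.map f)) := by
  have hc : (Nat.card (N.map f)).Coprime (Nat.card (H.map f)) :=
    Nat.Coprime.of_dvd (N.card_map_dvd f) (H.card_map_dvd f) hcop
  refine ⟨?_, hc⟩
  apply isComplement'_of_disjoint_and_mul_eq_univ
  · exact disjoint_of_coprime_natCard hc
  · rw [Set.eq_univ_iff_forall]
    intro q
    obtain ⟨g, rfl⟩ := hf q
    obtain ⟨⟨n, h⟩, hnh⟩ := hH.2 g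
    simp only at hnh
    refine ⟨f n, mem_map_of_mem f n.2, f h, mem_map_of_mem f h.2, ?_⟩
    change f n * f h = f g
    rw [← map_mul, hnh]

theorem map_conj_smul (f : G →* G') (g : G) (H : Subgroup G) :
    (MulAut.conj g • H).map f = MulAut.conj (f g) • H.map f := by
  ext x
  simp only [Subgroup.mem_map, Subgroup.mem_pointwise_smul_iff_inv_smul_mem, MulAut.smul_def]
  constructor
  · rintro ⟨y, hy, rfl⟩
    refine ⟨_, hy, ?_⟩
    simp [MulAut.conj_inv_apply]
  · rintro ⟨y, hy, hxy⟩
    refine ⟨g * y * g⁻¹, ?_, ?_⟩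
    · simpa [MulAut.conj_inv_apply, mul_assoc] using hy
    · simp only [map_mul, map_inv, hxy, MulAut.conj_inv_apply]; group

def toN (N L : Subgroup G) : N.subgroupOf L →* N where
  toFun x := ⟨((x : L) : G), x.2⟩
  map_one' := rfl
  map_mul' _ _ := rfl

theorem toN_injective (N L : Subgroup G) : Function.Injective (toN N L) := by
  intro x y hxy
  apply Subtype.ext
  apply Subtype.ext
  exact congrArg (fun z : N => (z : G)) hxy

theorem solvable_subgroupOf (N L : Subgroup G) [Group.IsSolvable N] : Group.IsSolvable (N.subgroupOf L) :=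
  Group.isSolvable_of_isSolvable_injective (toN_injective N L)

theorem card_subgroupOf_dvd (N L : Subgroup G) : Nat.card (N.subgroupOf L) ∣ Nat.card N :=
  Subgroup.card_dvd_of_injective (toN N L) (toN_injective N L)

theorem card_subgroupOf_of_le {H L : Subgroup G} (h : H ≤ L) : Nat.card (H.subgroupOf L) = Nat.card H :=
  Nat.card_congr (Subgroup.subgroupOfEquivOfLe h).toEquiv

theorem card_lt_of_ne_top [Finite G] (L : Subgroup G) (h : L ≠ ⊤) : Nat.card L < Nat.card G :=
  lt_of_le_of_ne (Subgroup.card_le_card_group L) (mt (Subgroup.card_eq_iff_eq_top L).mp h)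

theorem card_eq_of_compl [Finite G] {N H K : Subgroup G} (hH : IsComplement' N H) (hK : IsComplement' N K) :
    Nat.card K = Nat.card H := by
  have e1 := hH.card_mul_card
  have e2 := hK.card_mul_card
  have hpos : 0 < Nat.card N := Nat.card_pos
  exact Nat.eq_of_mul_eq_mul_left hpos (e2.trans e1.symm)

end

theorem conj_of_solvable_normal_aux.{u} (n : ℕ) : ∀ (G : Type u) [Group G] [Finite G], Nat.card G = n →
    ∀ (N : Subgroup G) [N.Normal] [Group.IsSolvable N] (H K : Subgroup G),
    (Nat.card N).Coprime (Nat.card H) → IsComplement' N H → IsComplement' N K →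
    ∃ g : G, MulAut.conj g • H = K := by
  induction n using Nat.strong_induction_on with
  | _ n ih =>
  intro G _ _ hn N _ _ H K hcop hH hK
  by_cases hNbot : N = ⊥
  · subst hNbot
    have h1 : H = ⊤ := isComplement'_bot_left.mp hH
    have h2 : K = ⊤ := isComplement'_bot_left.mp hK
    exact ⟨1, by rw [h1, h2]; simp⟩
  · have hDN : ⁅N, N⁆ < N := commutator_lt_of_solvable N hNbot
    set D : Subgroup G := ⁅N, N⁆ with hD
    have : D.Normal := by rw [hD]; infer_instance
    let f := QuotientGroup.mk' D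
    have hf : Function.Surjective f := QuotientGroup.mk'_surjective D
    have hker : f.ker = D := QuotientGroup.ker_mk' D
    obtain ⟨cH, copH⟩ := compl_map f hf N H hcop hH
    have cardHK : Nat.card K = Nat.card H := card_eq_of_compl hH hK
    obtain ⟨cK, copK⟩ := compl_map f hf N K (cardHK ▸ hcop) hK
    have : (N.map f).Normal := Subgroup.Normal.map inferInstance f hf
    have : IsMulCommutative (N.map f) := by
      refine ⟨⟨?_⟩⟩
      rintro ⟨a, ha⟩ ⟨b, hb⟩
      obtain ⟨x, hx, rfl⟩ := Subgroup.mem_map.mp ha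
      obtain ⟨y, hy, rfl⟩ := Subgroup.mem_map.mp hb
      apply Subtype.ext
      change f x * f y = f y * f x
      rw [← map_mul, ← map_mul]
      apply (QuotientGroup.eq).mpr
      have : (x * y)⁻¹ * (y * x) = ⁅y⁻¹, x⁻¹⁆ := by simp [commutatorElement_def]; group
      rw [this]
      exact Subgroup.commutator_mem_commutator (N.inv_mem hy) (N.inv_mem hx)
    have hall : (Nat.card (N.map f)).Coprime (N.map f).index := by
      rw [cH.symm.index_eq_card]; exact copH
    obtain ⟨q, hq⟩ := conj_of_abelian (N.map f) hall (H.map f) (K.map f) cH cK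
    obtain ⟨g, rfl⟩ := hf q
    rw [← map_conj_smul] at hq
    have hH₁ : IsComplement' N (MulAut.conj g • H) := compl_conj N H hH g
    have hsup : (MulAut.conj g • H) ⊔ D = K ⊔ D := by
      have := (Subgroup.map_eq_map_iff).mp hq
      rwa [hker] at this
    have hH₁L : (MulAut.conj g • H) ≤ K ⊔ D := hsup ▸ le_sup_left
    have hKL : K ≤ K ⊔ D := le_sup_left
    have hLtop : K ⊔ D ≠ ⊤ := by
      intro htop
      have h1 : K.map f = ⊤ := by
        have h2 : (K ⊔ D).map f = ⊤ := by rw [htop]; exact Subgroup.map_top_of_surjective f hf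
        rw [Subgroup.map_sup] at h2
        have h3 : D.map f = ⊥ := by
          rw [Subgroup.map_eq_bot_iff, hker]
        rwa [h3, sup_bot_eq] at h2
      rw [h1] at cK
      have h4 : N.map f = ⊥ := isComplement'_top_right.mp cK
      have h5 : N ≤ D := by
        have h5' := (Subgroup.map_eq_bot_iff N).mp h4
        rwa [hker] at h5'
      exact absurd hDN (not_lt_of_ge h5)
    have hcardL : Nat.card ↥(K ⊔ D) < n := hn ▸ card_lt_of_ne_top _ hLtop
    have cH' := compl_subgroupOf N (MulAut.conj g • H) (K ⊔ D) hH₁ (Or.inl hH₁L)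
    have cK' := compl_subgroupOf N K (K ⊔ D) hK (Or.inl hKL)
    have : Group.IsSolvable (N.subgroupOf (K ⊔ D)) := solvable_subgroupOf N (K ⊔ D)
    have hcop' : (Nat.card (N.subgroupOf (K ⊔ D))).Coprime (Nat.card ((MulAut.conj g • H).subgroupOf (K ⊔ D))) := by
      rw [card_subgroupOf_of_le hH₁L, card_conj]
      exact Nat.Coprime.of_dvd_left (card_subgroupOf_dvd N (K ⊔ D)) hcop
    obtain ⟨l, hl⟩ := ih (Nat.card ↥(K ⊔ D)) hcardL ↥(K ⊔ D) rfl (N.subgroupOf (K ⊔ D))
      ((MulAut.conj g • H).subgroupOf (K ⊔ D)) (K.subgroupOf (K ⊔ D)) hcop' cH' cK'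
    obtain ⟨g', _, hg'⟩ := conj_of_subgroupOf (MulAut.conj g • H) K (K ⊔ D) hH₁L hKL ⟨l, hl⟩
    exact ⟨g' * g, by rw [map_mul, mul_smul]; exact hg'⟩

section
variable {G : Type*} [Group G] {G' : Type*} [Group G']

theorem solvable_map (f : G →* G') (H : Subgroup G) [Group.IsSolvable H] : Group.IsSolvable (H.map f) :=
  Group.isSolvable_of_surjective (f := f.subgroupMap H) (f.subgroupMap_surjective H)

theorem le_normalizer_inf_normal (K M : Subgroup G) [hM : M.Normal] :
    K ≤ Subgroup.normalizer ((K ⊓ M : Subgroup G) : Set G) := by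
  rw [Subgroup.le_normalizer_iff]
  intro k hk x hx
  exact ⟨K.mul_mem (K.mul_mem hk hx.1) (K.inv_mem hk), hM.conj_mem x hx.2 k⟩

theorem card_quotient_lt [Finite G] (P : Subgroup G) [P.Normal] (hP : P ≠ ⊥) :
    Nat.card (G ⧸ P) < Nat.card G := by
  have h1 := Subgroup.card_eq_card_quotient_mul_card_subgroup P
  have h2 : 1 < Nat.card P := (Subgroup.one_lt_card_iff_ne_bot P).mpr hP
  have h3 : 0 < Nat.card (G ⧸ P) := Nat.card_pos
  rw [h1]
  nlinarith

theorem sylow_conj [Finite G] (p : ℕ) [Fact p.Prime] (H K : Subgroup G) (hH : IsPGroup p H)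
    (hK : IsPGroup p K) (hH2 : ¬ p ∣ H.index) (hK2 : ¬ p ∣ K.index) :
    ∃ g : G, MulAut.conj g • H = K := by
  obtain ⟨g, hg⟩ := MulAction.exists_smul_eq G (hH.toSylow hH2) (hK.toSylow hK2)
  refine ⟨g, ?_⟩
  have := congrArg Sylow.toSubgroup hg
  rw [Sylow.smul_def, Sylow.pointwise_smul_def] at this
  simpa using this

end

theorem conj_of_solvable_compl_aux.{u} (n : ℕ) : ∀ (G : Type u) [Group G] [Finite G], Nat.card G = n →
    ∀ (N : Subgroup G) [N.Normal] (H K : Subgroup G) [Group.IsSolvable H],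
    (Nat.card N).Coprime (Nat.card H) → IsComplement' N H → IsComplement' N K →
    ∃ g : G, MulAut.conj g • H = K := by
  induction n using Nat.strong_induction_on with
  | _ n ih =>
  intro G _ _ hn N _ H K _ hcop hH hK
  have cardHK : Nat.card K = Nat.card H := card_eq_of_compl hH hK
  by_cases hHbot : H = ⊥
  · have hKbot : K = ⊥ := by
      apply Subgroup.eq_bot_of_card_eq; rw [cardHK, hHbot]; simp
    exact ⟨1, by rw [hHbot, hKbot]; simp⟩
  · let e : G ⧸ N ≃* H := hH.symm.QuotientMulEquiv
    have hsolvQ : Group.IsSolvable (G ⧸ N) :=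
      Group.isSolvable_of_isSolvable_injective (f := e.toMonoidHom) e.injective
    have hntH : Nontrivial H := (Subgroup.nontrivial_iff_ne_bot H).mpr hHbot
    have hntQ : Nontrivial (G ⧸ N) := e.toEquiv.nontrivial
    by_cases hsimple : IsSimpleGroup (G ⧸ N)
    · have hcomm := (IsSimpleGroup.comm_iff_isSolvable (G := G ⧸ N)).mpr hsolvQ
      have : IsMulCommutative (G ⧸ N) := ⟨⟨hcomm⟩⟩
      have hp : (Nat.card (G ⧸ N)).Prime := Group.is_simple_iff_prime_card.mp hsimple
      have hcardQ : Nat.card (G ⧸ N) = Nat.card H := Nat.card_congr e.toEquiv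
      rw [hcardQ] at hp
      have : Fact (Nat.card H).Prime := ⟨hp⟩
      have hpH : IsPGroup (Nat.card H) H := IsPGroup.of_card (n := 1) (by simp)
      have hpK : IsPGroup (Nat.card H) K := IsPGroup.of_card (n := 1) (by simp [cardHK])
      have hnd : ¬ (Nat.card H) ∣ Nat.card N := by
        intro hd
        have := Nat.Coprime.eq_one_of_dvd hcop.symm hd
        exact hp.one_lt.ne' this
      have hH2 : ¬ (Nat.card H) ∣ H.index := by rwa [hH.index_eq_card]
      have hK2 : ¬ (Nat.card H) ∣ K.index := by rwa [hK.index_eq_card]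
      exact sylow_conj (Nat.card H) H K hpH hpK hH2 hK2
    · have hex : ∃ Mb : Subgroup (G ⧸ N), Mb.Normal ∧ Mb ≠ ⊥ ∧ Mb ≠ ⊤ := by
        by_contra hcon
        push Not at hcon
        apply hsimple
        refine ⟨fun Mb hMb => ?_⟩
        by_cases h1 : Mb = ⊥
        · exact Or.inl h1
        · exact Or.inr (hcon Mb hMb h1)
      obtain ⟨Mb, hMbn, hMb1, hMb2⟩ := hex
      let f := QuotientGroup.mk' N
      have hf : Function.Surjective f := QuotientGroup.mk'_surjective N
      have hker : f.ker = N := QuotientGroup.ker_mk' N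
      have hMn : (Mb.comap f).Normal := hMbn.comap f
      have hNM : N ≤ Mb.comap f := by
        have := Subgroup.ker_le_comap f Mb
        rwa [hker] at this
      have hMtop : Mb.comap f ≠ ⊤ := by
        intro h
        apply hMb2
        rw [← Subgroup.map_comap_eq_self_of_surjective hf Mb, h]
        exact Subgroup.map_top_of_surjective f hf
      have hMN : ¬ (Mb.comap f ≤ N) := by
        intro h
        apply hMb1
        rw [← Subgroup.map_comap_eq_self_of_surjective hf Mb, eq_bot_iff]
        calc (Mb.comap f).map f ≤ N.map f := Subgroup.map_mono h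
          _ = ⊥ := by rw [Subgroup.map_eq_bot_iff, hker]
      have hcardM : Nat.card ↥(Mb.comap f) < n := hn ▸ card_lt_of_ne_top _ hMtop
      have cH' := compl_subgroupOf N H (Mb.comap f) hH (Or.inr hNM)
      have cK' := compl_subgroupOf N K (Mb.comap f) hK (Or.inr hNM)
      have : Group.IsSolvable (H.subgroupOf (Mb.comap f)) := solvable_subgroupOf H _
      have hcop' : (Nat.card (N.subgroupOf (Mb.comap f))).Coprime
          (Nat.card (H.subgroupOf (Mb.comap f))) :=
        Nat.Coprime.of_dvd (card_subgroupOf_dvd N _) (card_subgroupOf_dvd H _) hcop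
      obtain ⟨m, hm⟩ := ih _ hcardM ↥(Mb.comap f) rfl (N.subgroupOf (Mb.comap f))
        (H.subgroupOf (Mb.comap f)) (K.subgroupOf (Mb.comap f)) hcop' cH' cK'
      have hm2 : MulAut.conj (m : G) • (H ⊓ Mb.comap f) = K ⊓ Mb.comap f := by
        have := congrArg (Subgroup.map (Mb.comap f).subtype) hm
        rwa [map_conj_smul, subgroupOf_map_subtype, subgroupOf_map_subtype] at this
      rw [Subgroup.smul_inf, Subgroup.Normal.conj_smul_eq_self (m : G) (Mb.comap f)] at hm2
      have hH₁ : IsComplement' N (MulAut.conj (m : G) • H) := compl_conj N H hH m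
      have hsolv₁ : Group.IsSolvable ↥(MulAut.conj (m : G) • H) := solvable_conj H m
      have hcard₁ : Nat.card ↥(MulAut.conj (m : G) • H) = Nat.card H := card_conj H m
      have hPbot : K ⊓ Mb.comap f ≠ ⊥ := by
        intro h
        have h1 : K.subgroupOf (Mb.comap f) = ⊥ := by
          rw [Subgroup.subgroupOf_eq_bot, disjoint_iff, h]
        rw [h1] at cK'
        have h2 := isComplement'_bot_right.mp cK'
        exact hMN (Subgroup.subgroupOf_eq_top.mp h2)
      have hKP : K ≤ Subgroup.normalizer ((K ⊓ Mb.comap f : Subgroup G) : Set G) :=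
        le_normalizer_inf_normal K _
      have hH₁P : (MulAut.conj (m : G) • H) ≤ Subgroup.normalizer ((K ⊓ Mb.comap f : Subgroup G) : Set G) := by
        rw [← hm2]; exact le_normalizer_inf_normal _ _
      by_cases hLtop : Subgroup.normalizer ((K ⊓ Mb.comap f : Subgroup G) : Set G) = ⊤
      · have hPn : (K ⊓ Mb.comap f).Normal := Subgroup.normalizer_eq_top_iff.mp hLtop
        let f2 := QuotientGroup.mk' (K ⊓ Mb.comap f)
        have hf2 : Function.Surjective f2 := QuotientGroup.mk'_surjective _
        have hker2 : f2.ker = K ⊓ Mb.comap f := QuotientGroup.ker_mk' _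
        obtain ⟨c1, cop1⟩ := compl_map f2 hf2 N (MulAut.conj (m : G) • H) (hcard₁.symm ▸ hcop) hH₁
        obtain ⟨c2, cop2⟩ := compl_map f2 hf2 N K (cardHK.symm ▸ hcop) hK
        have : (N.map f2).Normal := Subgroup.Normal.map inferInstance f2 hf2
        have : Group.IsSolvable ((MulAut.conj (m : G) • H).map f2) := solvable_map f2 _
        have hcardQ : Nat.card (G ⧸ (K ⊓ Mb.comap f)) < n := hn ▸ card_quotient_lt _ hPbot
        obtain ⟨q, hq⟩ := ih _ hcardQ (G ⧸ (K ⊓ Mb.comap f)) rfl (N.map f2)
          ((MulAut.conj (m : G) • H).map f2) (K.map f2) cop1 c1 c2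
        obtain ⟨g1, rfl⟩ := hf2 q
        rw [← map_conj_smul] at hq
        have hsup := (Subgroup.map_eq_map_iff).mp hq
        rw [hker2] at hsup
        have h1 : K ⊔ (K ⊓ Mb.comap f) = K := sup_of_le_left inf_le_left
        have h2 : (K ⊓ Mb.comap f) ≤ MulAut.conj g1 • MulAut.conj (m : G) • H := by
          have h3 : MulAut.conj g1 • (K ⊓ Mb.comap f) = K ⊓ Mb.comap f :=
            Subgroup.Normal.conj_smul_eq_self g1 _
          rw [← h3, Subgroup.pointwise_smul_le_pointwise_smul_iff, ← hm2]
          exact inf_le_left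
        rw [h1, sup_of_le_left h2] at hsup
        exact ⟨g1 * m, by rw [map_mul, mul_smul]; exact hsup⟩
      · have hcardL : Nat.card ↥(Subgroup.normalizer ((K ⊓ Mb.comap f : Subgroup G) : Set G)) < n :=
          hn ▸ card_lt_of_ne_top _ hLtop
        have c1 := compl_subgroupOf N _ _ hH₁ (Or.inl hH₁P)
        have c2 := compl_subgroupOf N _ _ hK (Or.inl hKP)
        have : Group.IsSolvable ((MulAut.conj (m : G) • H).subgroupOf
            (Subgroup.normalizer ((K ⊓ Mb.comap f : Subgroup G) : Set G))) := solvable_subgroupOf _ _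
        have hcop2 : (Nat.card (N.subgroupOf (Subgroup.normalizer ((K ⊓ Mb.comap f : Subgroup G) : Set G)))).Coprime
            (Nat.card ((MulAut.conj (m : G) • H).subgroupOf
              (Subgroup.normalizer ((K ⊓ Mb.comap f : Subgroup G) : Set G)))) := by
          rw [card_subgroupOf_of_le hH₁P, hcard₁]
          exact Nat.Coprime.of_dvd_left (card_subgroupOf_dvd N _) hcop
        obtain ⟨l, hl⟩ := ih _ hcardL _ rfl _ _ _ hcop2 c1 c2
        obtain ⟨g', _, hg'⟩ := conj_of_subgroupOf _ K _ hH₁P hKP ⟨l, hl⟩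
        exact ⟨g' * m, by rw [map_mul, mul_smul]; exact hg'⟩

/-- Conjugacy half of the Schur–Zassenhaus Theorem, under a solvability assumption on the normal Hall subgroup or on its quotient. -/
theorem result {G : Type*} [Group G] [Finite G] (N : Subgroup G) [N.Normal]
    (hN : (Nat.card N).Coprime N.index) (hsolv : Group.IsSolvable N ∨ Group.IsSolvable (G ⧸ N))
    (H K : Subgroup G) (hH : Subgroup.IsComplement' N H) (hK : Subgroup.IsComplement' N K) :
    ∃ g : G, MulAut.conj g • H = K := by
  have hcop : (Nat.card N).Coprime (Nat.card H) := by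
    rw [← hH.symm.index_eq_card]; exact hN
  rcases hsolv with h | h
  · exact conj_of_solvable_normal_aux _ G rfl N H K hcop hH hK
  · have : Group.IsSolvable H :=
      Group.isSolvable_of_isSolvable_injective (f := hH.symm.QuotientMulEquiv.symm.toMonoidHom)
        hH.symm.QuotientMulEquiv.symm.injective
    exact conj_of_solvable_compl_aux _ G rfl N H K hcop hH hK

end Cfsg.Agent.S0001
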