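import Cfsg.Statements.S0026
import Cfsg.Agent.Lib.Lead.Coprime
import Cfsg.Agent.S0022

set_option autoImplicit false
open Pointwise
open Cfsg

namespace Cfsg.Agent.S0026

open Cfsg.Agent.Lib.Lead
open scoped commutatorElement

/-- Under coprime action the acted-on group factorises as the commutator with A times the fixed points: K = [K, A] C_K(A). -/
theorem result {G : Type*} [Group G] [Finite G] (A K : Subgroup G) (hAK : A ≤ Subgroup.normalizer (K : Set G))
    (hcop : (Nat.card A).Coprime (Nat.card K)) (hsolv : Group.IsSolvable A ∨ Group.IsSolvable K) :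
    ⁅K, A⁆ ⊔ (K ⊓ Subgroup.centralizer (A : Set G)) = K := by
  apply le_antisymm
  · exact sup_le (commutator_le_left_of_le_normalizer K A hAK) inf_le_left
  · intro k hk
    have hfix : ∀ a ∈ A, a * k * a⁻¹ * k⁻¹ ∈ ⁅K, A⁆ := by
      intro a ha
      rw [Subgroup.commutator_comm]
      exact Subgroup.commutator_mem_commutator ha hk
    obtain ⟨c, hc, hkc⟩ := Cfsg.Agent.S0022.result A K hAK hcop hsolv ⁅K, A⁆
      (commutator_le_left_of_le_normalizer K A hAK) (left_le_normalizer_commutator K A)
      (right_le_normalizer_commutator K A hAK) k hk hfix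
    have e2 : k = c * (k⁻¹ * c)⁻¹ := by group
    rw [e2]
    exact Subgroup.mul_mem _ (Subgroup.mem_sup_right hc) (Subgroup.mem_sup_left (Subgroup.inv_mem _ hkc))

end Cfsg.Agent.S0026
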