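import Cfsg.Statements.S4253

set_option autoImplicit false
open Cfsg

namespace Cfsg.Agent.S4253

open scoped Pointwise

theorem mem_conj_smul {G : Type*} [Group G] (g : G) (M : Subgroup G) (y : G) :
    y ∈ MulAut.conj g • M ↔ g⁻¹ * y * g ∈ M := by
  rw [Subgroup.mem_pointwise_smul_iff_inv_smul_mem]
  simp [MulAut.smul_def]

/-- Let H be a Frobenius complement in a finite group G (a nontrivial proper subgroup meeting each conjugate gHg⁻¹ with g outside H trivially). Then in the action of G on the left cosets of H by left multiplication, no non-identity element of G fixes two distinct cosets. -/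
theorem result {G : Type*} [Group G] [Finite G] (H : Subgroup G) (hH : Cfsg.IsFrobeniusComplement H)
    (g : G) (hg : g ≠ 1) (a b : G ⧸ H) (ha : g • a = a) (hb : g • b = b) : a = b := by
  obtain ⟨x, rfl⟩ := QuotientGroup.mk_surjective a
  obtain ⟨y, rfl⟩ := QuotientGroup.mk_surjective b
  have hx : x⁻¹ * g * x ∈ H := by
    have : (QuotientGroup.mk (g * x) : G ⧸ H) = QuotientGroup.mk x := ha
    rw [QuotientGroup.eq] at this
    have e : x⁻¹ * g * x = ((g * x)⁻¹ * x)⁻¹ := by group
    rw [e]; exact H.inv_mem this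
  have hy : y⁻¹ * g * y ∈ H := by
    have : (QuotientGroup.mk (g * y) : G ⧸ H) = QuotientGroup.mk y := hb
    rw [QuotientGroup.eq] at this
    have e : y⁻¹ * g * y = ((g * y)⁻¹ * y)⁻¹ := by group
    rw [e]; exact H.inv_mem this
  rw [QuotientGroup.eq]
  by_contra ht
  have h3 := hH.2.2 (x⁻¹ * y) ht
  have hmem : x⁻¹ * g * x ∈ H ⊓ MulAut.conj (x⁻¹ * y) • H := by
    rw [Subgroup.mem_inf]
    refine ⟨hx, ?_⟩
    rw [mem_conj_smul]
    have e : (x⁻¹ * y)⁻¹ * (x⁻¹ * g * x) * (x⁻¹ * y) = y⁻¹ * g * y := by group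
    rw [e]; exact hy
  rw [h3, Subgroup.mem_bot] at hmem
  apply hg
  have : g = x * (x⁻¹ * g * x) * x⁻¹ := by group
  rw [this, hmem]; group

end Cfsg.Agent.S4253
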