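import Cfsg.Statements.S0138
import Mathlib

set_option autoImplicit false
open Cfsg

namespace Cfsg.Agent.S0138

open scoped ComplexConjugate

theorem multiset_real_all_eq_one (s : Multiset ℝ) (h1 : ∀ x ∈ s, x ≤ 1)
    (hs : s.sum = (Multiset.card s : ℝ)) : ∀ x ∈ s, x = 1 := by
  induction s using Multiset.induction_on with
  | empty => simp
  | cons a t ih =>
    have ha : a ≤ 1 := h1 a (Multiset.mem_cons_self a t)
    have ht : ∀ x ∈ t, x ≤ 1 := fun x hx => h1 x (Multiset.mem_cons_of_mem hx)
    have hle : t.sum ≤ (Multiset.card t : ℝ) := by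
      have := Multiset.sum_le_card_nsmul t 1 ht
      simpa using this
    rw [Multiset.sum_cons, Multiset.card_cons] at hs
    push_cast at hs
    have ha1 : a = 1 := by linarith
    have ht1 : t.sum = (Multiset.card t : ℝ) := by linarith
    intro x hx
    rcases Multiset.mem_cons.mp hx with h | h
    · rw [h, ha1]
    · exact ih ht ht1 x h

theorem multiset_re_sum (s : Multiset ℂ) (c : ℂ) :
    (s.map (fun μ => (μ * c).re)).sum = (s.sum * c).re := by
  induction s using Multiset.induction_on with
  | empty => simp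
  | cons a t ih =>
    rw [Multiset.map_cons, Multiset.sum_cons, Multiset.sum_cons, ih, add_mul, Complex.add_re]

theorem multiset_eq_of_norm_sum {s : Multiset ℂ} (h1 : ∀ μ ∈ s, ‖μ‖ = 1)
    (hs : ‖s.sum‖ = (Multiset.card s : ℝ)) : ∃ u : ℂ, ∀ μ ∈ s, μ = u := by
  by_cases h0 : Multiset.card s = 0
  · rw [Multiset.card_eq_zero] at h0
    subst h0
    exact ⟨0, by simp⟩
  have hn : (0 : ℝ) < (Multiset.card s : ℝ) := by exact_mod_cast Nat.pos_of_ne_zero h0
  have hnC : ((Multiset.card s : ℝ) : ℂ) ≠ 0 := by exact_mod_cast hn.ne'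
  set n : ℝ := (Multiset.card s : ℝ) with hn_def
  set u : ℂ := s.sum / (n : ℂ) with hu
  have hun : ‖u‖ = 1 := by
    rw [hu, norm_div, hs, Complex.norm_real, Real.norm_of_nonneg hn.le, div_self hn.ne']
  have huu : u * conj u = 1 := by
    rw [Complex.mul_conj, Complex.normSq_eq_norm_sq, hun]; simp
  refine ⟨u, ?_⟩
  have hnorm : ∀ μ ∈ s, ‖μ * conj u‖ = 1 := by
    intro μ hμ
    rw [norm_mul, h1 μ hμ, RCLike.norm_conj, hun, mul_one]
  have hsum : (s.map (fun μ => (μ * conj u).re)).sum = (Multiset.card (s.map (fun μ => (μ * conj u).re)) : ℝ) := by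
    rw [multiset_re_sum, Multiset.card_map]
    have e3 : s.sum = (n : ℂ) * u := by
      rw [hu]; field_simp
    rw [e3, mul_assoc, huu, mul_one]
    simp [hn_def]
  have hle : ∀ x ∈ s.map (fun μ => (μ * conj u).re), x ≤ 1 := by
    intro x hx
    obtain ⟨μ, hμ, rfl⟩ := Multiset.mem_map.mp hx
    have : (μ * conj u).re ≤ ‖μ * conj u‖ := Complex.re_le_norm _
    rw [hnorm μ hμ] at this
    exact this
  have hall := multiset_real_all_eq_one _ hle hsum
  intro μ hμ
  have h2 : (μ * conj u).re = 1 := hall _ (Multiset.mem_map.mpr ⟨μ, hμ, rfl⟩)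
  have h3 : (μ * conj u).re = ‖μ * conj u‖ := by
    rw [hnorm μ hμ, h2]
  have h5 : μ * conj u = 1 := by
    have h6 := Complex.re_eq_norm.mp h3
    have h7 : (μ * conj u) = ((μ * conj u).re : ℂ) := by
      apply Complex.ext
      · simp
      · simp only [Complex.ofReal_im]
        have := (Complex.nonneg_iff.mp h6).2
        exact this.symm
    rw [h7, h2]; simp
  calc μ = μ * (u * conj u) := by rw [huu, mul_one]
    _ = (μ * conj u) * u := by ring
    _ = u := by rw [h5, one_mul]


theorem roots_pow_eq_one {G : Type*} [Group G] [Finite G] {V : Type*} [AddCommGroup V] [Module ℂ V] [FiniteDimensional ℂ V] (ρ : Representation ℂ G V) (g : G) :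
    ∀ μ ∈ (ρ g).charpoly.roots, μ ^ orderOf g = 1 := by
  set f : Module.End ℂ V := ρ g with hf
  have hfm : f ^ orderOf g = 1 := by
    rw [hf, ← map_pow, pow_orderOf_eq_one, map_one]
  intro μ hμ
  have hroot : f.charpoly.IsRoot μ := (Polynomial.mem_roots'.mp hμ).2
  have hev : f.HasEigenvalue μ := (Module.End.hasEigenvalue_iff_isRoot_charpoly f μ).mpr hroot
  obtain ⟨v, hv⟩ := hev.exists_hasEigenvector
  have h1 : (f ^ orderOf g) v = μ ^ orderOf g • v := hv.pow_apply (orderOf g)
  rw [hfm, Module.End.one_apply] at h1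
  by_contra hne
  have : (μ ^ orderOf g - 1) • v = 0 := by rw [sub_smul, one_smul, ← h1, sub_self]
  rcases smul_eq_zero.mp this with h | h
  · exact hne (sub_eq_zero.mp h)
  · exact hv.2 h

theorem char_eq_sum_roots {G : Type*} [Group G] {V : Type*} [AddCommGroup V] [Module ℂ V] [FiniteDimensional ℂ V] (ρ : Representation ℂ G V) (g : G) :
    ρ.character g = (ρ g).charpoly.roots.sum :=
  Module.End.trace_eq_sum_roots_charpoly_of_splits (IsAlgClosed.splits _)


theorem eq_smul_of_roots_eq {V : Type*} [AddCommGroup V] [Module ℂ V] [FiniteDimensional ℂ V]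
    (f : Module.End ℂ V) (k : ℕ) (hk : 0 < k) (hfk : f ^ k = 1) (u : ℂ)
    (hu : ∀ μ ∈ f.charpoly.roots, μ = u) : f = u • (LinearMap.id : V →ₗ[ℂ] V) := by
  have hsplit : f.charpoly.Splits := IsAlgClosed.splits _
  have hmonic : f.charpoly.Monic := LinearMap.charpoly_monic f
  have h1 := hsplit.eq_prod_roots_of_monic hmonic
  have h2 : f.charpoly.roots = Multiset.replicate (Multiset.card f.charpoly.roots) u :=
    Multiset.eq_replicate_card.mpr hu
  rw [h2, Multiset.map_replicate, Multiset.prod_replicate] at h1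
  have h3 : Polynomial.aeval f f.charpoly = 0 := LinearMap.aeval_self_charpoly f
  rw [h1, map_pow, map_sub, Polynomial.aeval_X, Polynomial.aeval_C] at h3
  have hnil : IsNilpotent (f - algebraMap ℂ (Module.End ℂ V) u) := ⟨_, h3⟩
  have hsq : Squarefree (Polynomial.X ^ k - Polynomial.C (1 : ℂ)) :=
    (Polynomial.separable_X_pow_sub_C (1 : ℂ) (by exact_mod_cast hk.ne') one_ne_zero).squarefree
  have hss : f.IsSemisimple := by
    apply Module.End.isSemisimple_of_squarefree_aeval_eq_zero hsq
    rw [map_sub, map_pow, Polynomial.aeval_X, Polynomial.aeval_C, hfk]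
    simp
  have hss2 : (f - algebraMap ℂ (Module.End ℂ V) u).IsSemisimple :=
    Module.End.isSemisimple_sub_algebraMap_iff.mpr hss
  have h4 := Module.End.eq_zero_of_isNilpotent_isSemisimple hnil hss2
  rw [sub_eq_zero] at h4
  rw [h4]
  rfl



/-- A character value has absolute value equal to the degree exactly when the group element acts by a scalar. -/
theorem result {G : Type*} [Group G] [Finite G] {V : Type*} [AddCommGroup V] [Module ℂ V] [FiniteDimensional ℂ V] (ρ : Representation ℂ G V) (g : G) : ‖ρ.character g‖ = (Module.finrank ℂ V : ℝ) ↔ ∃ ω : ℂ, ρ g = ω • (LinearMap.id : V →ₗ[ℂ] V) := by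
  have hk : 0 < orderOf g := orderOf_pos g
  have hfk : (ρ g) ^ orderOf g = 1 := by
    rw [← map_pow, pow_orderOf_eq_one, map_one]
  constructor
  · intro h
    have hroots := roots_pow_eq_one ρ g
    have hnorm : ∀ μ ∈ (ρ g).charpoly.roots, ‖μ‖ = 1 := fun μ hμ =>
      Complex.norm_eq_one_of_pow_eq_one (hroots μ hμ) hk.ne'
    have hcard : Multiset.card (ρ g).charpoly.roots = Module.finrank ℂ V := by
      rw [IsAlgClosed.card_roots_eq_natDegree, LinearMap.charpoly_natDegree]
    rw [char_eq_sum_roots, ← hcard] at h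
    obtain ⟨u, hu⟩ := multiset_eq_of_norm_sum hnorm h
    exact ⟨u, eq_smul_of_roots_eq (ρ g) (orderOf g) hk hfk u hu⟩
  · rintro ⟨ω, hω⟩
    have hchar : ρ.character g = ω * (Module.finrank ℂ V : ℂ) := by
      unfold Representation.character
      rw [hω, map_smul, LinearMap.trace_id, smul_eq_mul]
    by_cases hn : Module.finrank ℂ V = 0
    · rw [hchar, hn]; simp
    · have : Nontrivial V := Module.nontrivial_of_finrank_pos (R := ℂ) (Nat.pos_of_ne_zero hn)
      obtain ⟨v, hv⟩ := exists_ne (0 : V)
      have h1 : ω ^ orderOf g = 1 := by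
        have h2 : ((ρ g) ^ orderOf g) v = (ω ^ orderOf g) • v := by
          rw [hω, smul_pow]
          simp
        rw [hfk, Module.End.one_apply] at h2
        by_contra hne
        have : (ω ^ orderOf g - 1) • v = 0 := by rw [sub_smul, one_smul, ← h2, sub_self]
        rcases smul_eq_zero.mp this with h | h
        · exact hne (sub_eq_zero.mp h)
        · exact hv h
      have h3 : ‖ω‖ = 1 := Complex.norm_eq_one_of_pow_eq_one h1 hk.ne'
      rw [hchar, norm_mul, h3, one_mul]
      simp

end Cfsg.Agent.S0138
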