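import Cfsg.Statements.S0116
import Cfsg.Agent.Lib.Helper13.ConjFamily

set_option autoImplicit false
open Cfsg

namespace Cfsg.Agent.S0116

open Cfsg.Agent.Lib.Helper13

section
variable {G : Type*} [Group G]

/-- the family of tame intersections with `P` -/
def tame (p : ℕ) (P : Subgroup G) : Set (Subgroup G) :=
  {T | ∃ Q : Subgroup G, IsPGroup p Q ∧ Nat.card Q = Nat.card P ∧ T = P ⊓ Q ∧
     ¬ p ∣ (P ⊓ Subgroup.normalizer (T : Set G)).relIndex (Subgroup.normalizer (T : Set G)) ∧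
     ¬ p ∣ (Q ⊓ Subgroup.normalizer (T : Set G)).relIndex (Subgroup.normalizer (T : Set G))}

theorem trans_step {𝓕 : Set (Subgroup G)} {P D Q : Subgroup G} {x : G}
    (hchain : ConjChain 𝓕 D x)
    (hQ₁ : ∃ x', ConjChain 𝓕 (P ⊓ rc Q x) x' ∧ rc (rc Q x) x' = P)
    (hD₁ : rc D x ≤ P ⊓ rc Q x) : ∃ y, ConjChain 𝓕 D y ∧ rc Q y = P := by
  obtain ⟨x', h1, h2⟩ := hQ₁
  exact ⟨x * x', hchain.append (h1.mono hD₁), by rw [← rc_rc]; exact h2⟩

variable [Finite G] {p : ℕ} [Fact p.Prime]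

theorem sylow_card_eq (P R : Sylow p G) : Nat.card (R : Subgroup G) = Nat.card (P : Subgroup G) := by
  rw [Sylow.card_eq_multiplicity, Sylow.card_eq_multiplicity]

theorem stepB (P : Sylow p G) (n : ℕ)
    (IH : ∀ Q' : Subgroup G, IsPGroup p Q' → Nat.card Q' = Nat.card (P : Subgroup G) →
      Nat.card (P : Subgroup G) - Nat.card ↥((P : Subgroup G) ⊓ Q') ≤ n →
      ∃ x : G, ConjChain (tame p (P : Subgroup G)) ((P : Subgroup G) ⊓ Q') x ∧ rc Q' x = P)
    (Q : Subgroup G) (hQp : IsPGroup p Q) (hQc : Nat.card Q = Nat.card (P : Subgroup G))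
    (hn : Nat.card (P : Subgroup G) - Nat.card ↥((P : Subgroup G) ⊓ Q) ≤ n + 1)
    (hne : (P : Subgroup G) ⊓ Q ≠ P)
    (hfn : ¬ p ∣ ((P : Subgroup G) ⊓ Subgroup.normalizer (((P : Subgroup G) ⊓ Q : Subgroup G) : Set G)).relIndex
      (Subgroup.normalizer (((P : Subgroup G) ⊓ Q : Subgroup G) : Set G))) :
    ∃ x : G, ConjChain (tame p (P : Subgroup G)) ((P : Subgroup G) ⊓ Q) x ∧ rc Q x = P := by
  obtain ⟨D, hD⟩ : ∃ D : Subgroup G, D = (P : Subgroup G) ⊓ Q := ⟨_, rfl⟩
  rw [← hD] at hn hne hfn ⊢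
  obtain ⟨N, hN⟩ : ∃ N : Subgroup G, N = Subgroup.normalizer (D : Set G) := ⟨_, rfl⟩
  rw [← hN] at hfn
  have hDP : D ≤ P := hD ▸ inf_le_left
  have hDQ : D ≤ Q := hD ▸ inf_le_right
  have hDN : D ≤ N := hN ▸ Subgroup.le_normalizer
  have hPp : IsPGroup p (P : Subgroup G) := P.2
  have hcardDP : Nat.card D < Nat.card (P : Subgroup G) := by
    by_contra hcon
    push Not at hcon
    exact hne (Subgroup.eq_of_le_of_card_ge hDP hcon)
  have hDneQ : D ≠ Q := by
    intro h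
    rw [h, hQc] at hcardDP
    exact lt_irrefl _ hcardDP
  have hgrowQ : Nat.card D < Nat.card ↥(Q ⊓ N) := by
    rw [hN]; exact card_lt_card_inf_normalizer hQp hDQ hDneQ
  -- IH in convenient form
  have IH' : ∀ Q' : Subgroup G, IsPGroup p Q' → Nat.card Q' = Nat.card (P : Subgroup G) →
      Nat.card D < Nat.card ↥((P : Subgroup G) ⊓ Q') →
      ∃ x : G, ConjChain (tame p (P : Subgroup G)) ((P : Subgroup G) ⊓ Q') x ∧ rc Q' x = P := by
    intro Q' h1 h2 h3
    apply IH Q' h1 h2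
    have : Nat.card ↥((P : Subgroup G) ⊓ Q') ≤ Nat.card (P : Subgroup G) :=
      Subgroup.card_le_of_le inf_le_left
    omega
  obtain ⟨T, hQT, hTN, hTp, hTi⟩ :=
    exists_sylow_between (p := p) (Q := Q ⊓ N) (N := N) inf_le_right (hQp.to_le inf_le_left)
  obtain ⟨R, hR⟩ := hTp.exists_le_sylow
  have hRp : IsPGroup p (R : Subgroup G) := R.2
  have hRc : Nat.card (R : Subgroup G) = Nat.card (P : Subgroup G) := sylow_card_eq P R
  have hRN : ¬ p ∣ ((R : Subgroup G) ⊓ N).relIndex N := by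
    intro h
    apply hTi
    exact dvd_trans h (Subgroup.relIndex_dvd_of_le_left N (le_inf hR hTN))
  obtain ⟨y₀, hy₀N, hy₀⟩ := exists_mem_cj_le_of_relIndex (p := p) (Q := (P : Subgroup G) ⊓ N) (N := N)
    inf_le_right (hPp.to_le inf_le_left) hfn (R := Q ⊓ N) inf_le_right (hQp.to_le inf_le_left)
  have hQNR : Q ⊓ N ≤ R := hQT.trans hR
  have hDR : D ≤ R := (le_inf hDQ hDN).trans hQNR
  by_cases hPR : (P : Subgroup G) ⊓ R = D
  · -- tame intersection
    have hT : D ∈ tame p (P : Subgroup G) := by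
      refine ⟨R, hRp, hRc, hPR.symm, ?_, ?_⟩
      · rw [← hN]; exact hfn
      · rw [← hN]; exact hRN
    have hyN : y₀⁻¹ ∈ Subgroup.normalizer (D : Set G) := by
      rw [← hN]; exact N.inv_mem hy₀N
    have chain1 : ConjChain (tame p (P : Subgroup G)) D y₀⁻¹ := ConjChain.single hT hyN le_rfl
    have hrcy : ∀ X : Subgroup G, rc X y₀⁻¹ = X.map (MulAut.conj y₀).toMonoidHom := by
      intro X; rw [rc_def, inv_inv]
    have hle : rc (Q ⊓ N) y₀⁻¹ ≤ (P : Subgroup G) ⊓ rc Q y₀⁻¹ := by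
      apply le_inf
      · rw [hrcy]; exact hy₀.trans inf_le_left
      · exact rc_mono inf_le_left _
    have hbig : Nat.card D < Nat.card ↥((P : Subgroup G) ⊓ rc Q y₀⁻¹) := by
      have := Subgroup.card_le_of_le hle
      rw [card_rc] at this
      omega
    have h2 := IH' (rc Q y₀⁻¹) (isPGroup_rc _ hQp) (by rw [card_rc]; exact hQc) hbig
    apply trans_step chain1 h2
    rw [rc_of_mem_normalizer hyN]
    apply le_inf hDP
    have := rc_mono hDQ y₀⁻¹
    rwa [rc_of_mem_normalizer hyN] at this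
  · have hDle : D ≤ (P : Subgroup G) ⊓ R := le_inf hDP hDR
    have hbigR : Nat.card D < Nat.card ↥((P : Subgroup G) ⊓ R) := by
      by_contra hcon
      push Not at hcon
      exact hPR (Subgroup.eq_of_le_of_card_ge hDle hcon).symm
    obtain ⟨z, hz1, hz2⟩ := IH' R hRp hRc hbigR
    have chain1 := hz1.mono hDle
    have hle : rc (Q ⊓ R) z ≤ (P : Subgroup G) ⊓ rc Q z := by
      apply le_inf
      · rw [← hz2]; exact rc_mono inf_le_right _
      · exact rc_mono inf_le_left _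
    have hbig : Nat.card D < Nat.card ↥((P : Subgroup G) ⊓ rc Q z) := by
      have h1 := Subgroup.card_le_of_le hle
      rw [card_rc] at h1
      have h2 : Nat.card ↥(Q ⊓ N) ≤ Nat.card ↥(Q ⊓ (R : Subgroup G)) :=
        Subgroup.card_le_of_le (le_inf inf_le_left hQNR)
      omega
    have h2 := IH' (rc Q z) (isPGroup_rc _ hQp) (by rw [card_rc]; exact hQc) hbig
    apply trans_step chain1 h2
    exact (rc_mono (le_inf hDQ hDR) z).trans hle

theorem alperin_aux (P : Sylow p G) : ∀ (n : ℕ) (Q : Subgroup G), IsPGroup p Q →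
    Nat.card Q = Nat.card (P : Subgroup G) →
    Nat.card (P : Subgroup G) - Nat.card ↥((P : Subgroup G) ⊓ Q) ≤ n →
    ∃ x : G, ConjChain (tame p (P : Subgroup G)) ((P : Subgroup G) ⊓ Q) x ∧ rc Q x = P := by
  have hPp : IsPGroup p (P : Subgroup G) := P.2
  have hbase : ∀ Q : Subgroup G, Nat.card Q = Nat.card (P : Subgroup G) →
      (P : Subgroup G) ⊓ Q = P →
      ∃ x : G, ConjChain (tame p (P : Subgroup G)) ((P : Subgroup G) ⊓ Q) x ∧ rc Q x = P := by
    intro Q hQc h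
    have hPQ : (P : Subgroup G) ≤ Q := inf_eq_left.mp h
    have : (P : Subgroup G) = Q := Subgroup.eq_of_le_of_card_ge hPQ hQc.le
    exact ⟨1, ConjChain.nil _, by rw [rc_one, this]⟩
  intro n
  induction n with
  | zero =>
    intro Q hQp hQc hn
    apply hbase Q hQc
    apply Subgroup.eq_of_le_of_card_ge inf_le_left
    omega
  | succ n ih =>
    intro Q hQp hQc hn
    by_cases hne : (P : Subgroup G) ⊓ Q = P
    · exact hbase Q hQc hne
    obtain ⟨D, hD⟩ : ∃ D : Subgroup G, D = (P : Subgroup G) ⊓ Q := ⟨_, rfl⟩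
    obtain ⟨N, hN⟩ : ∃ N : Subgroup G, N = Subgroup.normalizer (D : Set G) := ⟨_, rfl⟩
    have hDP : D ≤ P := hD ▸ inf_le_left
    have hDQ : D ≤ Q := hD ▸ inf_le_right
    have hDN : D ≤ N := hN ▸ Subgroup.le_normalizer
    have hDneP : D ≠ P := hD ▸ hne
    have hcardDP : Nat.card D < Nat.card (P : Subgroup G) := by
      by_contra hcon
      push Not at hcon
      exact hDneP (Subgroup.eq_of_le_of_card_ge hDP hcon)
    have hn' : Nat.card (P : Subgroup G) - Nat.card D ≤ n + 1 := by rw [hD]; exact hn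
    have IH' : ∀ Q' : Subgroup G, IsPGroup p Q' → Nat.card Q' = Nat.card (P : Subgroup G) →
        Nat.card D < Nat.card ↥((P : Subgroup G) ⊓ Q') →
        ∃ x : G, ConjChain (tame p (P : Subgroup G)) ((P : Subgroup G) ⊓ Q') x ∧ rc Q' x = P := by
      intro Q' h1 h2 h3
      apply ih Q' h1 h2
      have : Nat.card ↥((P : Subgroup G) ⊓ Q') ≤ Nat.card (P : Subgroup G) :=
        Subgroup.card_le_of_le inf_le_left
      omega
    have hgrowP : Nat.card D < Nat.card ↥((P : Subgroup G) ⊓ N) := by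
      rw [hN]; exact card_lt_card_inf_normalizer hPp hDP hDneP
    obtain ⟨T, hPT, hTN, hTp, hTi⟩ :=
      exists_sylow_between (p := p) (Q := (P : Subgroup G) ⊓ N) (N := N) inf_le_right
        (hPp.to_le inf_le_left)
    obtain ⟨S, hS⟩ := hTp.exists_le_sylow
    have hSc : Nat.card (S : Subgroup G) = Nat.card (P : Subgroup G) := sylow_card_eq P S
    have hSN : ¬ p ∣ ((S : Subgroup G) ⊓ N).relIndex N := by
      intro h
      apply hTi
      exact dvd_trans h (Subgroup.relIndex_dvd_of_le_left N (le_inf hS hTN))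
    have hPNS : (P : Subgroup G) ⊓ N ≤ (P : Subgroup G) ⊓ S := le_inf inf_le_left (hPT.trans hS)
    have hbigS : Nat.card D < Nat.card ↥((P : Subgroup G) ⊓ S) :=
      lt_of_lt_of_le hgrowP (Subgroup.card_le_of_le hPNS)
    obtain ⟨x, hx1, hx2⟩ := IH' S S.2 hSc hbigS
    have hDPS : D ≤ (P : Subgroup G) ⊓ S := (le_inf hDP hDN).trans hPNS
    have chain1 : ConjChain (tame p (P : Subgroup G)) D x := hx1.mono hDPS
    have hD₁ : rc D x ≤ (P : Subgroup G) ⊓ rc Q x := by
      apply le_inf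
      · rw [← hx2]; exact rc_mono (hDPS.trans inf_le_right) x
      · exact rc_mono hDQ x
    rw [← hD]
    by_cases hbig : Nat.card D < Nat.card ↥((P : Subgroup G) ⊓ rc Q x)
    · exact trans_step chain1 (IH' (rc Q x) (isPGroup_rc _ hQp) (by rw [card_rc]; exact hQc) hbig) hD₁
    · push Not at hbig
      have heq : rc D x = (P : Subgroup G) ⊓ rc Q x := by
        apply Subgroup.eq_of_le_of_card_ge hD₁
        rw [card_rc]; exact hbig
      apply trans_step chain1 ?_ hD₁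
      apply stepB P n ih (rc Q x) (isPGroup_rc _ hQp) (by rw [card_rc]; exact hQc)
      · rw [← heq, card_rc]; exact hn'
      · rw [← heq]
        intro h
        have := card_rc D x
        rw [h] at this
        omega
      · rw [← heq, normalizer_rc, ← hN]
        have e : (P : Subgroup G) ⊓ rc N x = rc ((S : Subgroup G) ⊓ N) x := by
          conv_lhs => rw [← hx2]
          simp only [rc_def]
          rw [cj_inf]
        rw [e, rc_def, rc_def, relIndex_cj]
        exact hSN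

end


/-- The Alperin fusion Theorem states that conjugation between subsets of a Sylow p-subgroup P factors through normalizers of tame intersections P ∩ Q_i with other Sylow p-subgroups, carrying the subset along step by step. -/
theorem result {G : Type*} [Group G] [Finite G] {p : ℕ} [Fact p.Prime] (P : Sylow p G) (A : Set G) (g : G) (hA : A ⊆ (P : Set G)) (hAg : (fun a => g⁻¹ * a * g) '' A ⊆ (P : Set G)) : ∃ (n : ℕ) (Q : Fin n → Sylow p G) (x : Fin n → G), (List.ofFn x).prod = g ∧ (∀ i : Fin n, x i ∈ Subgroup.normalizer ((((P : Subgroup G) ⊓ (Q i : Subgroup G)) : Subgroup G) : Set G) ∧ ¬ p ∣ ((P : Subgroup G) ⊓ Subgroup.normalizer ((((P : Subgroup G) ⊓ (Q i : Subgroup G)) : Subgroup G) : Set G)).relIndex (Subgroup.normalizer ((((P : Subgroup G) ⊓ (Q i : Subgroup G)) : Subgroup G) : Set G)) ∧ ¬ p ∣ ((Q i : Subgroup G) ⊓ Subgroup.normalizer ((((P : Subgroup G) ⊓ (Q i : Subgroup G)) : Subgroup G) : Set G)).relIndex (Subgroup.normalizer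 ((((P : Subgroup G) ⊓ (Q i : Subgroup G)) : Subgroup G) : Set G))) ∧ (∀ h : 0 < n, A ⊆ (((P : Subgroup G) ⊓ (Q ⟨0, h⟩ : Subgroup G) : Subgroup G) : Set G)) ∧ ∀ i : Fin n, ∀ h : i.val + 1 < n, (fun a => (((List.ofFn x).take (i.val + 1)).prod)⁻¹ * a * ((List.ofFn x).take (i.val + 1)).prod) '' A ⊆ (((P : Subgroup G) ⊓ (Q ⟨i.val + 1, h⟩ : Subgroup G) : Subgroup G) : Set G) := by
  classical
  have hPp : IsPGroup p (P : Subgroup G) := P.2
  obtain ⟨R₀, hR₀⟩ : ∃ R₀ : Subgroup G, R₀ = Subgroup.closure A := ⟨_, rfl⟩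
  have hAR₀ : A ⊆ R₀ := hR₀ ▸ Subgroup.subset_closure
  have hR₀P : R₀ ≤ P := by rw [hR₀, Subgroup.closure_le]; exact hA
  obtain ⟨Q₀, hQ₀⟩ : ∃ Q₀ : Subgroup G, Q₀ = rc (P : Subgroup G) g⁻¹ := ⟨_, rfl⟩
  have hR₀Q : R₀ ≤ Q₀ := by
    rw [hR₀, Subgroup.closure_le, hQ₀]
    intro a ha
    rw [SetLike.mem_coe, mem_rc, inv_inv]
    exact hAg ⟨a, ha, rfl⟩
  obtain ⟨x, hx1, hx2⟩ := alperin_aux P _ Q₀ (hQ₀ ▸ isPGroup_rc _ hPp)
    (by rw [hQ₀, card_rc]) le_rfl
  -- y = x⁻¹ g normalizes P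
  have hyN : x⁻¹ * g ∈ Subgroup.normalizer ((P : Subgroup G) : Set G) := by
    rw [hQ₀, rc_rc, rc_def] at hx2
    have := mem_normalizer_iff_cj_eq.mpr hx2
    simpa using this
  have hPtame : (P : Subgroup G) ∈ tame p (P : Subgroup G) := by
    have h1 : ¬ p ∣ ((P : Subgroup G) ⊓ Subgroup.normalizer ((P : Subgroup G) : Set G)).relIndex
        (Subgroup.normalizer ((P : Subgroup G) : Set G)) := by
      rw [inf_eq_left.mpr Subgroup.le_normalizer]
      intro h
      exact P.not_dvd_index (dvd_trans h (Subgroup.relIndex_dvd_index_of_le Subgroup.le_normalizer))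
    exact ⟨P, hPp, rfl, (inf_idem _).symm, h1, h1⟩
  have chain : ConjChain (tame p (P : Subgroup G)) R₀ (x * (x⁻¹ * g)) := by
    apply (hx1.mono (le_inf hR₀P hR₀Q)).append
    apply ConjChain.single hPtame hyN
    rw [← hx2]
    exact rc_mono hR₀Q x
  rw [mul_inv_cancel_left] at chain
  obtain ⟨n, T, xs, hprod, hF, hNm, h0, hstep⟩ := chain.exists_fin A hAR₀
  choose Qs hQs using hF
  have hcard : ∀ i, Nat.card (Qs i) = p ^ (Nat.card G).factorization p := by
    intro i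
    rw [(hQs i).2.1, Sylow.card_eq_multiplicity]
  refine ⟨n, fun i => Sylow.ofCard (Qs i) (hcard i), xs, hprod, ?_, ?_, ?_⟩
  · intro i
    have hTi : T i = (P : Subgroup G) ⊓ Qs i := (hQs i).2.2.1
    simp only [Sylow.coe_ofCard]
    rw [← hTi]
    exact ⟨hNm i, (hQs i).2.2.2.1, (hQs i).2.2.2.2⟩
  · intro h
    simp only [Sylow.coe_ofCard]
    rw [← (hQs ⟨0, h⟩).2.2.1]
    exact h0 h
  · intro i h
    simp only [Sylow.coe_ofCard]
    rw [← (hQs ⟨i.val + 1, h⟩).2.2.1]
    exact hstep i h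

end Cfsg.Agent.S0116
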