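import Cfsg.Statements.S0027
import Cfsg.Agent.Lib.Lead.Coprime
import Cfsg.Agent.S0026

set_option autoImplicit false
open Pointwise
open Cfsg

namespace Cfsg.Agent.S0027

open Cfsg.Agent.Lib.Lead
open scoped commutatorElement

/-- Under coprime action the commutator subgroup with A is stable: taking the commutator with A twice gives the same subgroup as once. -/
theorem result {G : Type*} [Group G] [Finite G] (A K : Subgroup G) (hAK : A ≤ Subgroup.normalizer (K : Set G))
    (hcop : (Nat.card A).Coprime (Nat.card K)) (hsolv : Group.IsSolvable A ∨ Group.IsSolvable K) :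
    ⁅⁅K, A⁆, A⁆ = ⁅K, A⁆ := by
  apply le_antisymm
  · exact commutator_le_left_of_le_normalizer _ A (right_le_normalizer_commutator K A hAK)
  · rw [Subgroup.commutator_le]
    intro k hk a ha
    have hK := Cfsg.Agent.S0026.result A K hAK hcop hsolv
    have hk' : k ∈ ((⁅K, A⁆ ⊔ (K ⊓ Subgroup.centralizer (A : Set G)) : Subgroup G) : Set G) := by
      rw [hK]; exact hk
    rw [Subgroup.coe_mul_of_right_le_normalizer_left ⁅K, A⁆ _
      (inf_le_left.trans (left_le_normalizer_commutator K A))] at hk'
    obtain ⟨n, hn, c, hc, rfl⟩ := hk'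
    have hca : a * c = c * a := (Subgroup.mem_centralizer_iff.mp hc.2) a ha
    have e : ⁅n * c, a⁆ = ⁅n, a⁆ := by
      simp only [commutatorElement_def]
      have : n * c * a * (n * c)⁻¹ * a⁻¹ = n * (c * a) * c⁻¹ * n⁻¹ * a⁻¹ := by group
      rw [this, ← hca]; group
    rw [e]
    exact Subgroup.commutator_mem_commutator hn ha

end Cfsg.Agent.S0027
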