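import Cfsg.Statements.S0028
import Cfsg.Agent.Lib.Lead.Coprime
import Cfsg.Agent.S0027

set_option autoImplicit false
open Pointwise
open Cfsg

namespace Cfsg.Agent.S0028

open Cfsg.Agent.Lib.Lead
open scoped commutatorElement

theorem pq_aux {G : Type*} [Group G] [Finite G] (p : ℕ) [Fact p.Prime]
    (P Q : Subgroup G) (hP : IsPGroup p P) (hQ : (Nat.card Q).Coprime p)
    (hPQ : P ≤ Subgroup.centralizer (Q : Set G)) (n : ℕ) :
    ∀ U : Subgroup G, Nat.card U = n → IsPGroup p U →
      P ≤ Subgroup.normalizer (U : Set G) → Q ≤ Subgroup.normalizer (U : Set G) →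
      U ⊓ Subgroup.centralizer (P : Set G) ≤ Subgroup.centralizer (Q : Set G) →
      Q ≤ Subgroup.centralizer (U : Set G) := by
  induction n using Nat.strong_induction_on with
  | _ n ih =>
  intro U hn hU hPU hQU hC
  have hPnQ : P ≤ Subgroup.normalizer (Q : Set G) :=
    hPQ.trans (Subgroup.centralizer_le_normalizer _)
  have hQnP : Q ≤ Subgroup.normalizer (P : Set G) :=
    (Subgroup.le_centralizer_iff.mp hPQ).trans (Subgroup.centralizer_le_normalizer _)
  have hcop : (Nat.card Q).Coprime (Nat.card U) := by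
    obtain ⟨k, hk⟩ := hU.exists_card_eq
    rw [hk]; exact Nat.Coprime.pow_right k hQ
  have hnilU : Group.IsNilpotent U := hU.isNilpotent
  have hsolvU : Group.IsSolvable U := inferInstance
  have h27 := Cfsg.Agent.S0027.result Q U hQU hcop (Or.inr hsolvU)
  have hWU : ⁅U, Q⁆ ≤ U := commutator_le_left_of_le_normalizer U Q hQU
  -- reduction: it suffices to show ⁅U, Q⁆ = ⊥
  suffices hbot : ⁅U, Q⁆ = ⊥ by
    rw [Subgroup.commutator_eq_bot_iff_le_centralizer] at hbot
    exact Subgroup.le_centralizer_iff.mp hbot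
  rcases hWU.lt_or_eq with hlt | heq
  · -- proper: induction on W
    have hcardW : Nat.card ↥⁅U, Q⁆ < n := hn ▸ card_lt_card_of_lt hlt
    have hQW := ih _ hcardW ⁅U, Q⁆ rfl (hU.to_le hWU)
      (le_normalizer_commutator P U Q hPU hPnQ) (Subgroup.normalizer_commutator_ge_right U Q)
      ((inf_le_inf_right _ hWU).trans hC)
    have : ⁅⁅U, Q⁆, Q⁆ = ⊥ := by
      rw [Subgroup.commutator_eq_bot_iff_le_centralizer]
      exact Subgroup.le_centralizer_iff.mp hQW
    rw [← h27, this]
  · -- ⁅U, Q⁆ = U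
    by_cases hUbot : U = ⊥
    · rw [hUbot]; exact Subgroup.commutator_bot_left Q
    · exfalso
      have hΓ : IsPGroup p (U ⊔ P : Subgroup G) := IsPGroup.to_sup_of_normal_left' hU hP hPU
      have hnilΓ : Group.IsNilpotent (U ⊔ P : Subgroup G) := hΓ.isNilpotent
      have hΓU : (U ⊔ P : Subgroup G) ≤ Subgroup.normalizer (U : Set G) :=
        sup_le Subgroup.le_normalizer hPU
      have h1 : ⁅U, U ⊔ P⁆ < U := commutator_lt_of_nilpotent U (U ⊔ P) le_sup_left hΓU hnilΓ hUbot
      have hVlt : ⁅U, P⁆ < U := lt_of_le_of_lt (Subgroup.commutator_mono le_rfl le_sup_right) h1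
      have hcardV : Nat.card ↥⁅U, P⁆ < n := hn ▸ card_lt_card_of_lt hVlt
      have hQV := ih _ hcardV ⁅U, P⁆ rfl (hU.to_le hVlt.le)
        (Subgroup.normalizer_commutator_ge_right U P)
        (le_normalizer_commutator Q U P hQU hQnP)
        ((inf_le_inf_right _ hVlt.le).trans hC)
      have e1 : ⁅⁅U, P⁆, Q⁆ = ⊥ := by
        rw [Subgroup.commutator_eq_bot_iff_le_centralizer]
        exact Subgroup.le_centralizer_iff.mp hQV
      have e2 : ⁅⁅P, Q⁆, U⁆ = ⊥ := by
        have : ⁅P, Q⁆ = ⊥ := by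
          rw [Subgroup.commutator_eq_bot_iff_le_centralizer]; exact hPQ
        rw [this]; exact Subgroup.commutator_bot_left U
      have e3 : ⁅⁅Q, U⁆, P⁆ = ⊥ := Subgroup.commutator_commutator_eq_bot_of_rotate e1 e2
      rw [Subgroup.commutator_comm Q U, heq, Subgroup.commutator_eq_bot_iff_le_centralizer] at e3
      have hUQ : U ≤ Subgroup.centralizer (Q : Set G) := (le_inf le_rfl e3).trans hC
      have : ⁅U, Q⁆ = ⊥ := by
        rw [Subgroup.commutator_eq_bot_iff_le_centralizer]; exact hUQ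
      rw [heq] at this
      exact hUbot this

/-- Thompson's P × Q Lemma: let a p-subgroup P and a subgroup Q of order prime to p centralise each other and normalise a p-subgroup U; if every element of U fixed by P is fixed by Q, then Q centralises U. -/
theorem result {G : Type*} [Group G] [Finite G] (p : ℕ) [Fact p.Prime]
    (P Q U : Subgroup G) (hP : IsPGroup p P) (hQ : (Nat.card Q).Coprime p) (hU : IsPGroup p U)
    (hPQ : P ≤ Subgroup.centralizer (Q : Set G))
    (hPU : P ≤ Subgroup.normalizer (U : Set G)) (hQU : Q ≤ Subgroup.normalizer (U : Set G))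
    (hC : U ⊓ Subgroup.centralizer (P : Set G) ≤ Subgroup.centralizer (Q : Set G)) :
    Q ≤ Subgroup.centralizer (U : Set G) :=
  pq_aux p P Q hP hQ hPQ _ U rfl hU hPU hQU hC

end Cfsg.Agent.S0028
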