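import Cfsg.Statements.S0865
import Mathlib
import Cfsg.Agent.Lib.helper7.LinearExt

set_option autoImplicit false
open Cfsg

namespace Cfsg.Agent.S0865

open Cfsg.Agent.Lib.helper7

theorem pow_orderOf_fun {X : Type*} (f : X → ℂ) (x : X) : f x ^ orderOf f = 1 := by
  have h := congrFun (pow_orderOf_eq_one f) x
  rw [Pi.pow_apply] at h
  exact h

theorem hom_pow_index {G : Type*} [Group G] (N : Subgroup G) [N.Normal] (β : G →* ℂˣ)
    (hβ : ∀ n : N, β (n : G) = 1) (g : G) : β g ^ N.index = 1 := by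
  rw [← map_pow]
  exact hβ ⟨g ^ N.index, Subgroup.pow_index_mem N g⟩

/-- Let N be a normal subgroup of the finite group G and λ a character of N of degree 1, invariant under conjugation by G, whose order (under pointwise multiplication) is coprime to the index of N. Then there is a character μ of G of degree 1 restricting to λ with the same order as λ, and μ is the only degree-1 character of G restricting to λ whose order is coprime to the index of N. -/
theorem result {G : Type*} [Group G] [Finite G] (N : Subgroup G) [hN : N.Normal] (lam : N → ℂ) (hlam : Cfsg.IsCharacter N lam ∧ lam 1 = 1) (hinv : ∀ (g : G) (n : N), lam ⟨g * n * g⁻¹, hN.conj_mem (n : G) n.2 g⟩ = lam n) (hcop : Nat.Coprime N.index (orderOf lam)) : ∃ μ : G → ℂ, (Cfsg.IsCharacter G μ ∧ μ 1 = 1 ∧ (∀ n : N, μ n = lam n) ∧ orderOf μ = orderOf lam) ∧ ∀ μ' : G → ℂ, Cfsg.IsCharacter G μ' ∧ μ' 1 = 1 → (∀ n : N, μ' n = lam n) → Nat.Coprime N.index (orderOf μ') → μ' = μ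 := by
  classical
  haveI : Fintype G := Fintype.ofFinite G
  obtain ⟨μ₀, hμ₀c, hμ₀1, hμ₀N⟩ := h7_linear_extends_of_sylow N lam hlam hinv (by
    intro p hp hpo
    exact ⟨N, le_rfl, lam, Nat.Coprime.coprime_dvd_right hpo hcop, hlam.1, fun n => rfl⟩)
  set m := N.index with hm
  set o := orderOf lam with ho
  let μ₀h : G →* ℂˣ := h7_homOfLinear ⟨hμ₀c, hμ₀1⟩
  have hμ₀h : ∀ g, ((μ₀h g : ℂˣ) : ℂ) = μ₀ g := fun g => rfl
  have hbez : (1 : ℤ) = (m : ℤ) * Nat.gcdA m o + (o : ℤ) * Nat.gcdB m o := by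
    have := Nat.gcd_eq_gcd_ab m o
    rw [hcop] at this
    exact_mod_cast this
  have hlamo : ∀ n : N, (μ₀h (n : G)) ^ o = 1 := by
    intro n
    apply Units.ext
    rw [Units.val_pow_eq_pow_val, hμ₀h, hμ₀N n, Units.val_one]
    exact pow_orderOf_fun lam n
  let μh : G →* ℂˣ := (zpowGroupHom ((m : ℤ) * Nat.gcdA m o)).comp μ₀h
  have hμh : ∀ g, μh g = (μ₀h g) ^ ((m : ℤ) * Nat.gcdA m o) := fun g => rfl
  have hμhN : ∀ n : N, μh (n : G) = μ₀h (n : G) := by
    intro n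
    rw [hμh]
    have h1 : (m : ℤ) * Nat.gcdA m o = 1 - (o : ℤ) * Nat.gcdB m o := by linarith
    rw [h1, zpow_sub, zpow_one, zpow_mul, zpow_natCast, hlamo n, one_zpow, inv_one, mul_one]
  have hmo : ∀ g : G, (μ₀h g) ^ ((m : ℤ) * (o : ℤ)) = 1 := by
    intro g
    rw [zpow_mul, zpow_natCast, zpow_natCast, ← map_pow]
    exact hlamo ⟨g ^ m, Subgroup.pow_index_mem N g⟩
  have hμho : ∀ g : G, (μh g) ^ o = 1 := by
    intro g
    rw [hμh, ← zpow_natCast, ← zpow_mul]
    have h1 : (m : ℤ) * Nat.gcdA m o * (o : ℤ) = (m : ℤ) * (o : ℤ) * Nat.gcdA m o := by ring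
    rw [h1, zpow_mul, hmo, one_zpow]
  obtain ⟨hμc, hμ1⟩ := h7_linear_of_hom μh
  set μ : G → ℂ := fun g => ((μh g : ℂˣ) : ℂ) with hμdef
  have hμN : ∀ n : N, μ (n : G) = lam n := by
    intro n
    change ((μh (n : G) : ℂˣ) : ℂ) = lam n
    rw [hμhN n, hμ₀h, hμ₀N]
  have hord : orderOf μ = o := by
    apply Nat.dvd_antisymm
    · apply orderOf_dvd_of_pow_eq_one
      funext g
      rw [Pi.pow_apply, Pi.one_apply]
      change ((μh g : ℂˣ) : ℂ) ^ o = 1
      rw [← Units.val_pow_eq_pow_val, hμho g, Units.val_one]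
    · apply orderOf_dvd_of_pow_eq_one
      funext n
      rw [Pi.pow_apply, Pi.one_apply, ← hμN n]
      exact pow_orderOf_fun μ _
  refine ⟨μ, ⟨hμc, hμ1, hμN, hord⟩, ?_⟩
  intro μ' hμ' hμ'N hcop'
  let μ'h : G →* ℂˣ := h7_homOfLinear hμ'
  have hμ'h : ∀ g, ((μ'h g : ℂˣ) : ℂ) = μ' g := fun g => rfl
  funext g
  have hβN : ∀ n : N, (μ'h / μh) (n : G) = 1 := by
    intro n
    rw [MonoidHom.div_apply, div_eq_one]
    apply Units.ext
    rw [hμ'h, hμ'N n]
    exact (hμN n).symm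
  have h1 : (μ'h / μh) g ^ m = 1 := hom_pow_index N _ hβN g
  have h2 : (μ'h / μh) g ^ (orderOf μ' * o) = 1 := by
    rw [MonoidHom.div_apply, div_pow, pow_mul, pow_mul']
    have h3 : μ'h g ^ orderOf μ' = 1 := by
      apply Units.ext
      rw [Units.val_pow_eq_pow_val, hμ'h, Units.val_one]
      exact pow_orderOf_fun μ' g
    rw [h3, one_pow, hμho g, one_pow, div_one]
  have h3 : (μ'h / μh) g ^ (m.gcd (orderOf μ' * o)) = 1 := pow_gcd_eq_one.mpr ⟨h1, h2⟩
  have h4 : m.gcd (orderOf μ' * o) = 1 := Nat.Coprime.mul_right hcop' hcop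
  rw [h4, pow_one, MonoidHom.div_apply, div_eq_one] at h3
  rw [← hμ'h, h3]
end Cfsg.Agent.S0865
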