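import Cfsg.Statements.S0862
import Mathlib
import Cfsg.Agent.Lib.helper7.ExtUnique
import Cfsg.Agent.S0865

set_option autoImplicit false
open Cfsg

namespace Cfsg.Agent.S0862

open Cfsg.Agent.Lib.helper7

/-- Let N be a normal subgroup of the finite group G and ϑ an irreducible character of N of degree d coprime to the index of N, which is the restriction of some irreducible character of G. Let μ be a character of G of degree 1 whose restriction to N is the determinantal character of ϑ. Then there is exactly one irreducible character χ of G restricting to ϑ whose determinantal character is μ. -/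
theorem result {G : Type*} [Group G] [Finite G] (N : Subgroup G) [N.Normal] (ϑ : N → ℂ) (hϑ : Cfsg.IsIrrCharacter N ϑ) (d : ℕ) (hd : ϑ 1 = d) (hcop : Nat.Coprime N.index d) (hext : ∃ η : G → ℂ, Cfsg.IsIrrCharacter G η ∧ (∀ n : N, η n = ϑ n)) (μ : G → ℂ) (hμ : Cfsg.IsCharacter G μ ∧ μ 1 = 1) (hμN : ∀ n : N, μ n = Cfsg.detChar ϑ n) : ∃! χ : G → ℂ, Cfsg.IsIrrCharacter G χ ∧ (∀ n : N, χ n = ϑ n) ∧ Cfsg.detChar χ = μ := by
  classical
  haveI : Fintype G := Fintype.ofFinite G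
  obtain ⟨m, ρ, hρ, rfl⟩ := hϑ
  haveI := hρ
  obtain ⟨η, ⟨m₁, σ₁, hσ₁, rfl⟩, hηN⟩ := hext
  haveI := hσ₁
  have hfm : Module.finrank ℂ (Fin m → ℂ) = m := by simp
  have hfm₁ : Module.finrank ℂ (Fin m₁ → ℂ) = m₁ := by simp
  have hdm : m = d := by
    rw [Representation.char_one, hfm] at hd
    exact_mod_cast hd
  have hm₁ : m₁ = m := by
    have h1 := hηN 1
    rw [OneMemClass.coe_one, Representation.char_one, Representation.char_one, hfm, hfm₁] at h1
    exact_mod_cast h1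
  let τ : Representation ℂ N (Fin m₁ → ℂ) := σ₁.comp N.subtype
  have hc : τ.character = ρ.character := funext hηN
  let μh : G →* ℂˣ := h7_homOfLinear hμ
  let D₁ : G →* ℂˣ := h7_detHom σ₁
  let δ : G →* ℂˣ := μh / D₁
  have hδ : ∀ g, ((δ g : ℂˣ) : ℂ) * LinearMap.det (σ₁ g) = μ g := by
    intro g
    change ((μh g / D₁ g : ℂˣ) : ℂ) * ((D₁ g : ℂˣ) : ℂ) = ((μh g : ℂˣ) : ℂ)
    rw [← Units.val_mul, div_mul_cancel]
  have hδN : ∀ n : N, δ (n : G) = 1 := by
    intro n
    rw [MonoidHom.div_apply, div_eq_one]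
    apply Units.ext
    change μ (n : G) = LinearMap.det (σ₁ (n : G))
    rw [hμN n, h7_detChar_eq ρ n]
    exact (h7_det_eq_of_char_eq ρ τ hc n).symm
  have hδidx : ∀ g, δ g ^ N.index = 1 := Cfsg.Agent.S0865.hom_pow_index N δ hδN
  have hbez : (1 : ℤ) = (N.index : ℤ) * Nat.gcdA N.index d + (d : ℤ) * Nat.gcdB N.index d := by
    have := Nat.gcd_eq_gcd_ab N.index d
    rw [hcop] at this
    exact_mod_cast this
  let β : G →* ℂˣ := (zpowGroupHom (Nat.gcdB N.index d)).comp δ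
  have hβ : ∀ g, β g = δ g ^ (Nat.gcdB N.index d) := fun g => rfl
  have hβd : ∀ g, (β g) ^ d = δ g := by
    intro g
    rw [hβ, ← zpow_natCast, ← zpow_mul]
    have h1 : Nat.gcdB N.index d * (d : ℤ) = 1 - (N.index : ℤ) * Nat.gcdA N.index d := by
      linarith
    rw [h1, zpow_sub, zpow_one, zpow_mul, zpow_natCast, hδidx g, one_zpow, inv_one, mul_one]
  have hβN : ∀ n : N, β (n : G) = 1 := by
    intro n
    rw [hβ, hδN, one_zpow]
  haveI := h7_twist_irr β σ₁
  refine ⟨(h7_twist β σ₁).character, ⟨⟨m₁, h7_twist β σ₁, h7_twist_irr β σ₁, rfl⟩, ?_, ?_⟩, ?_⟩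
  · intro n
    rw [h7_twist_character, hβN, Units.val_one, one_mul, hηN]
  · funext g
    rw [h7_detChar_eq (h7_twist β σ₁) g, h7_twist_det, hfm₁]
    have hpow : ((β g : ℂˣ) : ℂ) ^ m₁ = ((β g : ℂˣ) : ℂ) ^ d := by rw [hm₁, hdm]
    rw [hpow, ← Units.val_pow_eq_pow_val, hβd g, hδ g]
  · rintro χ' ⟨⟨m₂, σ₂, hσ₂, rfl⟩, hχ'N, hdet⟩
    haveI := hσ₂
    obtain ⟨β', hβ'N, hβ'c, hβ'd⟩ := h7_extensions_differ N ρ σ₁ σ₂ hηN hχ'N
    funext g
    rw [hβ'c g, h7_twist_character]
    congr 2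
    have e1 : (β' g) ^ d = δ g := by
      apply Units.ext
      have h1 := congrFun hdet g
      rw [h7_detChar_eq σ₂ g, hβ'd g, hfm, hdm, ← hδ g] at h1
      have hne : LinearMap.det (σ₁ g) ≠ 0 := (D₁ g).ne_zero
      rw [Units.val_pow_eq_pow_val]
      exact mul_right_cancel₀ hne h1
    have e2 : (β' / β) g ^ d = 1 := by
      rw [MonoidHom.div_apply, div_pow, e1, hβd g, div_self']
    have e3 : (β' / β) g ^ N.index = 1 := by
      apply Cfsg.Agent.S0865.hom_pow_index N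
      intro n
      rw [MonoidHom.div_apply, hβ'N, hβN, div_one]
    have e4 : (β' / β) g ^ (N.index.gcd d) = 1 := pow_gcd_eq_one.mpr ⟨e3, e2⟩
    rw [hcop, pow_one, MonoidHom.div_apply, div_eq_one] at e4
    exact e4

end Cfsg.Agent.S0862
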