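import Cfsg.Statements.S0867
import Mathlib
import Cfsg.Agent.Lib.helper7.ExtUnique
import Cfsg.Agent.S0865
import Cfsg.Agent.S0862

set_option autoImplicit false
open Cfsg

namespace Cfsg.Agent.S0867

open Cfsg.Agent.Lib.helper7

theorem detChar_linear {G : Type*} [Group G] [Finite G] {χ : G → ℂ} (hχ : Cfsg.IsIrrCharacter G χ) :
    Cfsg.IsCharacter G (Cfsg.detChar χ) ∧ Cfsg.detChar χ 1 = 1 := by
  obtain ⟨m, σ, hσ, rfl⟩ := hχ
  haveI := hσ
  have h1 : Cfsg.detChar σ.character = fun g => ((h7_detHom σ g : ℂˣ) : ℂ) := by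
    funext g
    rw [h7_detChar_eq σ g]
    rfl
  rw [h1]
  exact h7_linear_of_hom (h7_detHom σ)

theorem detChar_restrict {G : Type*} [Group G] [Finite G] (N : Subgroup G) {χ : G → ℂ}
    (hχ : Cfsg.IsIrrCharacter G χ) {ϑ : N → ℂ} (hϑ : Cfsg.IsIrrCharacter N ϑ)
    (hres : ∀ n : N, χ n = ϑ n) (n : N) : Cfsg.detChar χ (n : G) = Cfsg.detChar ϑ n := by
  classical
  haveI : Fintype G := Fintype.ofFinite G
  obtain ⟨m, σ, hσ, rfl⟩ := hχ
  obtain ⟨k, ρ, hρ, rfl⟩ := hϑ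
  haveI := hσ
  haveI := hρ
  rw [h7_detChar_eq σ, h7_detChar_eq ρ]
  let τ : Representation ℂ N (Fin m → ℂ) := σ.comp N.subtype
  have hc : τ.character = ρ.character := funext hres
  exact h7_det_eq_of_char_eq ρ τ hc n

/-- Let N be a normal subgroup of the finite group G and ϑ an irreducible character of N of degree d, invariant under conjugation by G, such that the index of N is coprime to the product of d and the determinantal order of ϑ. Then there is an irreducible character χ of G restricting to ϑ whose determinantal order equals that of ϑ, and χ is the only irreducible character of G restricting to ϑ whose determinantal order is coprime to the index of N. -/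
theorem result {G : Type*} [Group G] [Finite G] (N : Subgroup G) [hN : N.Normal] (ϑ : N → ℂ) (hϑ : Cfsg.IsIrrCharacter N ϑ) (hinv : ∀ (g : G) (n : N), ϑ ⟨g * n * g⁻¹, hN.conj_mem (n : G) n.2 g⟩ = ϑ n) (d : ℕ) (hd : ϑ 1 = d) (hcop : Nat.Coprime N.index (Cfsg.detOrder ϑ * d)) : ∃ χ : G → ℂ, (Cfsg.IsIrrCharacter G χ ∧ (∀ n : N, χ n = ϑ n) ∧ Cfsg.detOrder χ = Cfsg.detOrder ϑ) ∧ ∀ χ' : G → ℂ, Cfsg.IsIrrCharacter G χ' → (∀ n : N, χ' n = ϑ n) → Nat.Coprime N.index (Cfsg.detOrder χ') → χ' = χ := by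
  classical
  haveI : Fintype G := Fintype.ofFinite G
  have hcop1 : Nat.Coprime N.index (Cfsg.detOrder ϑ) := Nat.Coprime.coprime_mul_right_right hcop
  have hcop2 : Nat.Coprime N.index d := Nat.Coprime.coprime_mul_left_right hcop
  have hlam := detChar_linear hϑ
  have hlaminv : ∀ (g : G) (n : N),
      Cfsg.detChar ϑ ⟨g * n * g⁻¹, hN.conj_mem (n : G) n.2 g⟩ = Cfsg.detChar ϑ n := by
    intro g n
    obtain ⟨k, ρ, hρ, rfl⟩ := hϑ
    haveI := hρ
    haveI : Fintype N := Fintype.ofFinite N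
    rw [h7_detChar_eq ρ, h7_detChar_eq ρ]
    let τ : Representation ℂ N (Fin k → ℂ) := ρ.comp (MulAut.conjNormal g : MulAut N).toMonoidHom
    have hc : τ.character = ρ.character := by
      funext n
      exact hinv g n
    exact h7_det_eq_of_char_eq ρ τ hc n
  obtain ⟨μ, ⟨hμc, hμ1, hμN, hμord⟩, hμuniq⟩ :=
    Cfsg.Agent.S0865.result N (Cfsg.detChar ϑ) hlam hlaminv hcop1
  have hext : ∃ η : G → ℂ, Cfsg.IsIrrCharacter G η ∧ (∀ n : N, η n = ϑ n) :=
    (h7_gallagher N ϑ hϑ hinv d hd hcop2).mpr ⟨μ, hμc, hμ1, hμN⟩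
  obtain ⟨χ, ⟨hχirr, hχN, hχdet⟩, hχuniq⟩ :=
    Cfsg.Agent.S0862.result N ϑ hϑ d hd hcop2 hext μ ⟨hμc, hμ1⟩ hμN
  refine ⟨χ, ⟨hχirr, hχN, ?_⟩, ?_⟩
  · unfold Cfsg.detOrder
    rw [hχdet, hμord]
  · intro χ' hχ'irr hχ'N hcop'
    apply hχuniq
    refine ⟨hχ'irr, hχ'N, ?_⟩
    exact hμuniq (Cfsg.detChar χ') (detChar_linear hχ'irr)
      (fun n => detChar_restrict N hχ'irr hϑ hχ'N n) hcop'

end Cfsg.Agent.S0867
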