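import Mathlib
import Cfsg.Statements.S0932
import Cfsg.Agent.Lib.helper7.Induction

set_option autoImplicit false
open Cfsg

namespace Cfsg.Agent.S0932

open Cfsg.Agent.Lib.helper7

theorem induced_eq {G : Type*} [Group G] [Fintype G] (H : Subgroup G) (ξ : H → ℂ) (g : G) : Cfsg.inducedCentralChar H ξ g = Cfsg.centralChar (Cfsg.indFun H ξ) g := by
  classical
  have := Fintype.ofFinite H
  unfold Cfsg.inducedCentralChar Cfsg.centralChar
  rw [h7_finsum_mem_fintype, h7_indFun_one, h7_indFun_eq_class_sum]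
  simp only [Set.mem_setOf_eq]
  have hH : (Nat.card H : ℂ) ≠ 0 := by exact_mod_cast Nat.card_pos.ne'
  have hG : (Nat.card G : ℂ) ≠ 0 := by exact_mod_cast Nat.card_pos.ne'
  have hidx : (Nat.card G : ℂ) = (H.index : ℂ) * (Nat.card H : ℂ) := by
    rw [← Subgroup.index_mul_card H]; push_cast; ring
  have hidxC : (Nat.card G : ℂ) = ((Subgroup.centralizer ({g} : Set G)).index : ℂ) *
      (Nat.card (Subgroup.centralizer ({g} : Set G)) : ℂ) := by
    rw [← Subgroup.index_mul_card (Subgroup.centralizer ({g} : Set G))]; push_cast; ring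
  have hidx0 : (H.index : ℂ) ≠ 0 := by
    intro h0; rw [h0, zero_mul] at hidx; exact hG hidx
  have hsum : ∑ a : H, (if IsConj g (a : G) then ξ a / ξ 1 else 0) =
      (∑ a : H, if IsConj g (a : G) then ξ a else 0) / ξ 1 := by
    rw [Finset.sum_div]
    apply Finset.sum_congr rfl
    intro a _
    split_ifs <;> simp
  rw [hsum]
  set S := ∑ a : H, if IsConj g (a : G) then ξ a else 0
  by_cases h1 : ξ 1 = 0
  · simp [h1]
  · field_simp
    have : (H.index : ℂ) * (Nat.card H : ℂ) = ((Subgroup.centralizer ({g} : Set G)).index : ℂ) *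
      (Nat.card (Subgroup.centralizer ({g} : Set G)) : ℂ) := by rw [← hidx, ← hidxC]
    linear_combination S * this

theorem result {G : Type*} [Group G] [Fintype G] (H : Subgroup G) (ξ : H → ℂ) (hξ : Cfsg.IsCharacter H ξ) (g : G) : Cfsg.inducedCentralChar H ξ g = Cfsg.centralChar (Cfsg.indFun H ξ) g :=
  induced_eq H ξ g

end Cfsg.Agent.S0932
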