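import Cfsg.Statements.S0908
import Mathlib
import Cfsg.Agent.Lib.helper7.BlockDefect2

set_option autoImplicit false
open Cfsg

namespace Cfsg.Agent.S0908

open Cfsg.Agent.Lib.helper7 Cfsg.Agent.Lib.Helper25

theorem defect_card {G : Type*} [Group G] [Fintype G] [Fintype (Cfsg.IrrCharacter G)] (p : ℕ)
    [hp : Fact p.Prime] (M : Ideal Cfsg.AlgInt) (hM : Cfsg.IsPModular p M)
    (χ₀ : Cfsg.IrrCharacter G) (g : G)
    (hg : Cfsg.IsDefectClass M (Cfsg.blockOf M (χ₀ : G → ℂ)) g)
    (P : Sylow p (Subgroup.centralizer ({g} : Set G))) :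
    Nat.card ((P : Subgroup (Subgroup.centralizer ({g} : Set G))).map
      (Subgroup.centralizer ({g} : Set G)).subtype) =
      p ^ Cfsg.blockDefect p (Cfsg.blockOf M (χ₀ : G → ℂ)) := by
  classical
  have hP := hM.2.1.isPrime
  set B := Cfsg.blockOf M (χ₀ : G → ℂ) with hB
  obtain ⟨-, hg2, hg3⟩ := hg
  have hχ₀ : χ₀ ∈ B := h7_sameBlock_refl hP _
  set a := (Nat.card G).factorization p with ha
  set c := (Nat.card (Subgroup.centralizer ({g} : Set G))).factorization p with hc
  have hDcard : Nat.card ((P : Subgroup (Subgroup.centralizer ({g} : Set G))).map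
      (Subgroup.centralizer ({g} : Set G)).subtype) = p ^ c := by
    rw [Subgroup.card_map_of_injective (Subgroup.centralizer ({g} : Set G)).subtype_injective]
    exact P.card_eq_multiplicity
  set S := (fun χ : Cfsg.IrrCharacter G => (Cfsg.charDegree (χ : G → ℂ)).factorization p) '' B
    with hS
  have hSne : S.Nonempty := ⟨_, χ₀, hχ₀, rfl⟩
  set h₀ := sInf S with hh₀
  have hmem : h₀ ∈ S := Nat.sInf_mem hSne
  obtain ⟨χ₁, hχ₁, hχ₁h⟩ := hmem
  have hlow : (Subgroup.centralizer ({g} : Set G)).index.factorization p ≤ h₀ := by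
    rw [← hχ₁h]
    exact h7_defect_lower hM χ₁ g (hg3 χ₁ hχ₁)
  have hidxmul : (Subgroup.centralizer ({g} : Set G)).index *
      Nat.card (Subgroup.centralizer ({g} : Set G)) = Nat.card G :=
    Subgroup.index_mul_card _
  have hidx0 : (Subgroup.centralizer ({g} : Set G)).index ≠ 0 := Subgroup.index_ne_zero_of_finite
  have hfac : (Subgroup.centralizer ({g} : Set G)).index.factorization p + c = a := by
    rw [ha, ← hidxmul, Nat.factorization_mul hidx0 Nat.card_pos.ne']
    rfl
  have hdvd : ∀ χ ∈ B, p ^ h₀ ∣ Cfsg.charDegree (χ : G → ℂ) := by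
    intro χ hχ
    obtain ⟨_, hpos, _⟩ := h7_charDegree_props χ
    apply (hp.out.pow_dvd_iff_le_factorization hpos.ne').mpr
    exact Nat.sInf_le ⟨χ, hχ, rfl⟩
  have hDp : IsPGroup p ((P : Subgroup (Subgroup.centralizer ({g} : Set G))).map
      (Subgroup.centralizer ({g} : Set G)).subtype) :=
    P.isPGroup'.map (Subgroup.centralizer ({g} : Set G)).subtype
  have hDg : ∀ u ∈ (P : Subgroup (Subgroup.centralizer ({g} : Set G))).map
      (Subgroup.centralizer ({g} : Set G)).subtype, Commute u g := by
    rintro u ⟨v, -, rfl⟩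
    have := v.2
    rw [Subgroup.mem_centralizer_iff] at this
    exact (this g rfl).symm
  have hup := h7_defect_upper hM χ₀ g hg2 h₀ hdvd _ hDp hDg
  rw [hDcard, Nat.factorization_pow, Nat.Prime.factorization hp.out] at hup
  simp only [Finsupp.smul_single, smul_eq_mul, mul_one, Finsupp.single_eq_same] at hup
  rw [hDcard]
  unfold Cfsg.blockDefect
  congr 1
  show c = a - h₀
  omega


/-- Let B be a block of the finite group G relative to a maximal ideal M of the algebraic integers containing the prime p, and let D be a defect group of B. Then the order of D is p ^ d, where d is the exponent of p in the order of G minus the least exponent of p in the degrees of the members of B. -/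
theorem result {G : Type*} [Group G] [Finite G] (p : ℕ) [Fact p.Prime] (M : Ideal Cfsg.AlgInt) (hM : Cfsg.IsPModular p M) (B : Set (Cfsg.IrrCharacter G)) (hB : Cfsg.IsPBlock M B) (D : Subgroup G) (hD : Cfsg.IsDefectGroup p M B D) : Nat.card D = p ^ Cfsg.blockDefect p B := by
  classical
  haveI : Fintype G := Fintype.ofFinite G
  haveI : Fintype (Cfsg.IrrCharacter G) := Fintype.ofFinite _
  obtain ⟨χ₀, rfl⟩ := hB
  obtain ⟨g, hg, P, rfl⟩ := hD
  exact defect_card p M hM χ₀ g hg P

end Cfsg.Agent.S0908
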