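import Cfsg.Statements.S0914
import Mathlib
import Cfsg.Agent.Lib.helper7.BlockDefect2
import Cfsg.Agent.Lib.helper7.LocalIdeal2
import Cfsg.Agent.S0908

set_option autoImplicit false
open Cfsg

namespace Cfsg.Agent.S0914

open Cfsg.Agent.Lib.helper7 Cfsg.Agent.Lib.Helper25 Cfsg.Agent.Lib.helper2
open scoped ComplexConjugate

theorem blockCoeff_singleton {G : Type*} [Group G] (χ : Cfsg.IrrCharacter G) (g : G) :
    Cfsg.blockCoeff ({χ} : Set (Cfsg.IrrCharacter G)) g =
      (Nat.card G : ℂ)⁻¹ * ((χ : G → ℂ) 1 * conj ((χ : G → ℂ) g)) := by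
  unfold Cfsg.blockCoeff
  rw [finsum_mem_singleton]

theorem forward {G : Type*} [Group G] [Fintype G] [Fintype (Cfsg.IrrCharacter G)] (p : ℕ)
    [hp : Fact p.Prime] (M : Ideal Cfsg.AlgInt) (hM : Cfsg.IsPModular p M)
    (χ : Cfsg.IrrCharacter G) (h : ¬ p ∣ Nat.card G / Cfsg.charDegree (χ : G → ℂ)) :
    Cfsg.blockOf M (χ : G → ℂ) = {χ} := by
  classical
  have hP := hM.2.1.isPrime
  obtain ⟨hd1, hd2, hd3⟩ := h7_charDegree_props χ
  set d := Cfsg.charDegree (χ : G → ℂ) with hd
  set q := Nat.card G / d with hq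
  have hdq : d * q = Nat.card G := Nat.mul_div_cancel' hd1
  have hqcop : q.Coprime p := (Nat.Coprime.symm ((Nat.Prime.coprime_iff_not_dvd hp.out).mpr h))
  have hA : ∀ g : G, Cfsg.MemLocalRing M (Cfsg.blockCoeff ({χ} : Set (Cfsg.IrrCharacter G)) g) := by
    intro g
    rw [blockCoeff_singleton, ← hd3, ← hdq]
    have hd0 : (d : ℂ) ≠ 0 := by exact_mod_cast hd2.ne'
    have hq0 : (q : ℂ) ≠ 0 := by
      intro h0
      have : q = 0 := by exact_mod_cast h0
      rw [this, mul_zero] at hdq
      exact Nat.card_pos.ne' hdq.symm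
    have e : ((d * q : ℕ) : ℂ)⁻¹ * ((d : ℂ) * conj ((χ : G → ℂ) g)) =
        (q : ℂ)⁻¹ * conj ((χ : G → ℂ) g) := by
      push_cast
      field_simp
    rw [e]
    exact h7_memLocalRing_mul hP (h7_memLocalRing_inv_natCast hM q hqcop)
      (h7_memLocalRing_of_isIntegral hP (map_isIntegral_int (starRingEnd ℂ) (irr_integral χ g)))
  apply Set.Subset.antisymm
  · exact h7_union_of_blocks hP {χ} hA χ rfl
  · intro ψ hψ
    rw [Set.mem_singleton_iff] at hψ
    rw [hψ]
    exact h7_sameBlock_refl hP _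

theorem backward {G : Type*} [Group G] [Fintype G] [Fintype (Cfsg.IrrCharacter G)] (p : ℕ)
    [hp : Fact p.Prime] (M : Ideal Cfsg.AlgInt) (hM : Cfsg.IsPModular p M)
    (χ : Cfsg.IrrCharacter G) (h : Cfsg.blockOf M (χ : G → ℂ) = {χ}) :
    ¬ p ∣ Nat.card G / Cfsg.charDegree (χ : G → ℂ) := by
  classical
  have hP := hM.2.1.isPrime
  obtain ⟨hd1, hd2, hd3⟩ := h7_charDegree_props χ
  set d := Cfsg.charDegree (χ : G → ℂ) with hd
  have hp0 : (p : ℂ) ≠ 0 := by exact_mod_cast hp.out.ne_zero
  have hG : (Nat.card G : ℂ) ≠ 0 := by exact_mod_cast Nat.card_pos.ne'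
  have hd0 : (d : ℂ) ≠ 0 := by exact_mod_cast hd2.ne'
  obtain ⟨g, hg⟩ := h7_exists_defect_class hP χ
  obtain ⟨P⟩ := (inferInstance : Nonempty (Sylow p (Subgroup.centralizer ({g} : Set G))))
  have hcard := Cfsg.Agent.S0908.defect_card p M hM χ g hg P
  obtain ⟨hg1, hg2, hg3⟩ := hg
  have hχB : χ ∈ Cfsg.blockOf M (χ : G → ℂ) := h7_sameBlock_refl hP _
  have hg3' := hg3 χ hχB
  have hvanχ : ∀ y : G, p ∣ orderOf y → (χ : G → ℂ) y = 0 := by
    intro y hy
    have h1 := h7_blockCoeff_psingular hM χ y hy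
    rw [h, blockCoeff_singleton, ← hd3] at h1
    have h2 : conj ((χ : G → ℂ) y) = 0 := by
      rcases mul_eq_zero.mp h1 with h3 | h3
      · exact absurd (inv_eq_zero.mp h3) hG
      · rcases mul_eq_zero.mp h3 with h4 | h4
        · exact absurd h4 hd0
        · exact h4
    have := congrArg (starRingEnd ℂ) h2
    rwa [Complex.conj_conj, map_zero] at this
  have hgreg : ¬ p ∣ orderOf g := by
    intro hgs
    apply hg2
    rw [h7_blockCoeff_psingular hM χ g hgs]
    exact h7_memLocalIdeal_zero hP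
  set c := (Nat.card (Subgroup.centralizer ({g} : Set G))).factorization p with hc
  have hDcard : Nat.card ((P : Subgroup (Subgroup.centralizer ({g} : Set G))).map
      (Subgroup.centralizer ({g} : Set G)).subtype) = p ^ c := by
    rw [Subgroup.card_map_of_injective (Subgroup.centralizer ({g} : Set G)).subtype_injective]
    exact P.card_eq_multiplicity
  have hDp : IsPGroup p ((P : Subgroup (Subgroup.centralizer ({g} : Set G))).map
      (Subgroup.centralizer ({g} : Set G)).subtype) :=
    P.isPGroup'.map (Subgroup.centralizer ({g} : Set G)).subtype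
  have hDg : ∀ u ∈ (P : Subgroup (Subgroup.centralizer ({g} : Set G))).map
      (Subgroup.centralizer ({g} : Set G)).subtype, Commute u g := by
    rintro u ⟨v, -, rfl⟩
    have := v.2
    rw [Subgroup.mem_centralizer_iff] at this
    exact (this g rfl).symm
  obtain ⟨α, hα, hχg⟩ := h7_char_dvd_of_vanish p (χ : G → ℂ) (isCharacter_of_irr χ) hvanχ g hgreg
    _ hDp hDg
  rw [hDcard] at hχg
  have hc0 : c = 0 := by
    by_contra hcne
    obtain ⟨c', hc'⟩ := Nat.exists_eq_succ_of_ne_zero hcne
    rw [Nat.succ_eq_add_one] at hc'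
    have hzw := h7_memLocalIdeal_mul_cases hP hg1 (h7_memLocalRing_centralChar hP χ g)
    have : Cfsg.MemLocalIdeal M (Cfsg.blockCoeff (Cfsg.blockOf M (χ : G → ℂ)) g *
        Cfsg.centralChar (χ : G → ℂ) g) := by
      rw [h, blockCoeff_singleton]
      unfold Cfsg.centralChar
      rw [← hd3, hχg]
      set r := Nat.card (Subgroup.centralizer ({g} : Set G)) / p ^ c with hr
      have hCr : p ^ c * r = Nat.card (Subgroup.centralizer ({g} : Set G)) :=
        Nat.ordProj_mul_ordCompl_eq_self _ p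
      have hrp : ¬ p ∣ r := Nat.not_dvd_ordCompl hp.out Nat.card_pos.ne'
      have hrcop : r.Coprime p :=
        (Nat.Coprime.symm ((Nat.Prime.coprime_iff_not_dvd hp.out).mpr hrp))
      have hr0 : (r : ℂ) ≠ 0 := by
        intro h0
        have : r = 0 := by exact_mod_cast h0
        rw [this, mul_zero] at hCr
        exact Nat.card_pos.ne' hCr.symm
      have hidx : ((Subgroup.centralizer ({g} : Set G)).index : ℂ) * ((p : ℂ) ^ c * (r : ℂ)) =
          (Nat.card G : ℂ) := by
        have := Subgroup.index_mul_card (Subgroup.centralizer ({g} : Set G))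
        rw [← hCr] at this
        exact_mod_cast this
      have hidx0 : ((Subgroup.centralizer ({g} : Set G)).index : ℂ) ≠ 0 := by
        have : (Subgroup.centralizer ({g} : Set G)).index ≠ 0 := Subgroup.index_ne_zero_of_finite
        exact_mod_cast this
      have e : (Nat.card G : ℂ)⁻¹ * ((d : ℂ) * conj (((p ^ c : ℕ) : ℂ) * α)) *
          (((Subgroup.centralizer ({g} : Set G)).index : ℂ) * (((p ^ c : ℕ) : ℂ) * α) / (d : ℂ)) =
          (p : ℂ) * ((p : ℂ) ^ c' * (α * conj α) * (r : ℂ)⁻¹) := by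
        rw [← hidx, map_mul, Complex.conj_natCast, hc']
        push_cast
        have hpc : (p : ℂ) ^ (c' + 1) ≠ 0 := pow_ne_zero _ hp0
        field_simp
        ring
      rw [e]
      apply h7_memLocalIdeal_mul_right hP (h7_memLocalIdeal_p hM)
      apply h7_memLocalRing_mul hP _ (h7_memLocalRing_inv_natCast hM r hrcop)
      apply h7_memLocalRing_mul hP
      · have := h7_memLocalRing_natCast hP (M := M) (p ^ c')
        simpa using this
      · exact h7_memLocalRing_of_isIntegral hP
          (hα.mul (map_isIntegral_int (starRingEnd ℂ) hα))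
    rcases hzw this with h1 | h1
    · exact hg2 h1
    · exact hg3' h1
  rw [hDcard, hc0, pow_zero] at hcard
  have hdef : Cfsg.blockDefect p (Cfsg.blockOf M (χ : G → ℂ)) = 0 := by
    by_contra hne
    have : 1 < p ^ Cfsg.blockDefect p (Cfsg.blockOf M (χ : G → ℂ)) :=
      Nat.one_lt_pow hne hp.out.one_lt
    omega
  unfold Cfsg.blockDefect at hdef
  rw [h, Set.image_singleton, csInf_singleton] at hdef
  have hdef' : (Nat.card G).factorization p - d.factorization p = 0 := hdef
  have hq0 : Nat.card G / d ≠ 0 := by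
    apply Nat.div_ne_zero_iff.mpr
    exact ⟨hd2.ne', Nat.le_of_dvd Nat.card_pos hd1⟩
  intro hdiv
  have h1 := (hp.out.dvd_iff_one_le_factorization hq0).mp hdiv
  rw [Nat.factorization_div hd1] at h1
  simp only [Finsupp.coe_tsub, Pi.sub_apply] at h1
  omega


/-- Let χ be an irreducible character of the finite group G, p a prime and M a maximal ideal of the algebraic integers containing p. Then p does not divide the integer (Nat.card G) / χ(1) if and only if the block of χ relative to M consists of χ alone. -/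
theorem result {G : Type*} [Group G] [Finite G] (p : ℕ) [Fact p.Prime] (M : Ideal Cfsg.AlgInt) (hM : Cfsg.IsPModular p M) (χ : Cfsg.IrrCharacter G) : ¬ p ∣ Nat.card G / Cfsg.charDegree (χ : G → ℂ) ↔ Cfsg.blockOf M (χ : G → ℂ) = {χ} := by
  classical
  haveI : Fintype G := Fintype.ofFinite G
  haveI : Fintype (Cfsg.IrrCharacter G) := Fintype.ofFinite _
  exact ⟨forward p M hM χ, backward p M hM χ⟩

end Cfsg.Agent.S0914
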