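import Cfsg.Statements.S0954
import Mathlib
import Cfsg.Agent.Lib.helper7.BlockCover3

set_option autoImplicit false
open Cfsg

namespace Cfsg.Agent.S0954

open Cfsg.Agent.Lib.helper7 Cfsg.Agent.Lib.Helper25


/-- Let N be a normal subgroup of the finite group G of order prime to p and of p-power index (a normal p-complement), and fix a maximal ideal M of the algebraic integers containing p. Then two irreducible characters χ, ψ of G lie in the same block if and only if some irreducible character of N has nonzero inner product with both the restriction of χ and the restriction of ψ. -/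
theorem result {G : Type*} [Group G] [Fintype G] (p : ℕ) [Fact p.Prime] (M : Ideal Cfsg.AlgInt) (hM : Cfsg.IsPModular p M) (N : Subgroup G) [N.Normal] [Fintype N] (hN : ¬ p ∣ Nat.card N) (hidx : ∃ k : ℕ, N.index = p ^ k) (χ ψ : Cfsg.IrrCharacter G) : Cfsg.SameBlock M (χ : G → ℂ) (ψ : G → ℂ) ↔ ∃ θ : Cfsg.IrrCharacter N, Cfsg.classInner (fun n : N => (χ : G → ℂ) n) (θ : N → ℂ) ≠ 0 ∧ Cfsg.classInner (fun n : N => (ψ : G → ℂ) n) (θ : N → ℂ) ≠ 0 := by
  classical
  haveI : Fintype (Cfsg.IrrCharacter G) := Fintype.ofFinite _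
  haveI : Fintype (Cfsg.IrrCharacter N) := Fintype.ofFinite _
  have hP := hM.2.1.isPrime
  have hp := (Fact.out : p.Prime)
  have hcop : (Nat.card N).Coprime p := (Nat.Coprime.symm ((Nat.Prime.coprime_iff_not_dvd hp).mpr hN))
  constructor
  · intro h
    have hR := Cfsg.Agent.Lib.helper2.isCharacter_restrict (h7_irr_isCharacter χ.2) N
    have hR1 : (fun n : N => (χ : G → ℂ) n) 1 ≠ 0 := irr_one_ne_zero χ
    obtain ⟨θ, m, hm, hθ⟩ := Cfsg.Agent.Lib.helper2.isCharacter_exists_constituent hR hR1
    have hcon : Cfsg.classInner (fun n : N => (χ : G → ℂ) n) (θ : N → ℂ) ≠ 0 := by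
      rw [hθ]
      exact_mod_cast hm.ne'
    refine ⟨θ, hcon, ?_⟩
    rw [← h7_over_orbit_iff] at hcon ⊢
    exact h7_over_congr N hP _ (h7_orbitSet_stable N θ)
      (fun n => h7_memLocalRing_blockCoeff_of_coprime hM hcop _ n) χ ψ h hcon
  · rintro ⟨θ, hχθ, hψθ⟩
    apply h7_mem_block_of_common N hP χ ψ _ θ hχθ hψθ
    intro g hg
    apply h7_blockCoeff_psingular hM χ g
    by_contra hreg
    exact hg (h7_pregular_mem_of_index_pow p N hidx g hreg)

end Cfsg.Agent.S0954
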