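import Cfsg.Statements.S0939
import Mathlib
import Cfsg.Agent.Lib.helper7.BlockCover3
import Cfsg.Agent.Lib.Helper1.Fitting
import Cfsg.Agent.S0954

set_option autoImplicit false
open Cfsg

namespace Cfsg.Agent.S0939

open Cfsg.Agent.Lib.helper7 Cfsg.Agent.Lib.Helper25 Cfsg.Agent.Lib.Helper11

theorem triv_constituent_iff {G : Type*} [Group G] [Fintype G] (N : Subgroup G) [hN : N.Normal]
    [Fintype N] (ψ : Cfsg.IrrCharacter G) :
    Cfsg.classInner (fun n : N => (ψ : G → ℂ) n) (trivIrr N : N → ℂ) ≠ 0 ↔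
      ∀ n ∈ N, (ψ : G → ℂ) n = (ψ : G → ℂ) 1 := by
  classical
  constructor
  · intro hcon n hn
    have hinv : ∀ g : G, cj N (trivIrr N : N → ℂ) g = (trivIrr N : N → ℂ) := by
      intro g
      funext m
      rw [cj_apply]
      rfl
    obtain ⟨e, -, -, hres⟩ := h7_clifford_invariant N (ψ : G → ℂ) ψ.2 (trivIrr N : N → ℂ)
      (trivIrr N).2 hcon hinv
    have h1 := congrFun hres ⟨n, hn⟩
    have h2 := congrFun hres 1
    simp only [Pi.smul_apply, trivIrr_apply, smul_eq_mul, mul_one] at h1 h2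
    rw [h1]
    exact h2.symm
  · intro hall
    unfold Cfsg.classInner
    have h1 : ∑ n : N, (ψ : G → ℂ) n * (starRingEnd ℂ) ((trivIrr N : N → ℂ) n) =
        (Nat.card N : ℂ) * (ψ : G → ℂ) 1 := by
      have : ∀ n : N, (ψ : G → ℂ) n * (starRingEnd ℂ) ((trivIrr N : N → ℂ) n) =
          (ψ : G → ℂ) 1 := by
        intro n
        rw [hall n n.2, trivIrr_apply, map_one, mul_one]
      rw [Finset.sum_congr rfl (fun n _ => this n), Finset.sum_const, Finset.card_univ,
        nsmul_eq_mul, Nat.card_eq_fintype_card]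
    rw [h1]
    have hNc : (Nat.card N : ℂ) ≠ 0 := by exact_mod_cast Nat.card_pos.ne'
    rw [← mul_assoc, inv_mul_cancel₀ hNc, one_mul]
    exact irr_one_ne_zero ψ


/-- Let G be a finite group with a normal p-complement (the largest normal subgroup O_p'(G) of order prime to p has p-power index). Then, relative to any maximal ideal M of the algebraic integers containing p, the principal block of G is the set of irreducible characters χ with χ n = χ 1 for every n ∈ O_p'(G). -/
theorem result {G : Type*} [Group G] [Finite G] (p : ℕ) [Fact p.Prime] (M : Ideal Cfsg.AlgInt) (hM : Cfsg.IsPModular p M) (hnc : ∃ k : ℕ, (Cfsg.pPrimeCore p G).index = p ^ k) : Cfsg.principalBlock M G = {χ : Cfsg.IrrCharacter G | ∀ n ∈ Cfsg.pPrimeCore p G, (χ : G → ℂ) n = (χ : G → ℂ) 1} := by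
  classical
  haveI : Fintype G := Fintype.ofFinite G
  haveI : (Cfsg.pPrimeCore p G).Normal := Cfsg.Agent.Lib.Helper1.pPrimeCore_normal p
  haveI : Fintype (Cfsg.pPrimeCore p G) := Fintype.ofFinite _
  have hp := (Fact.out : p.Prime)
  have hcop : (Nat.card (Cfsg.pPrimeCore p G)).Coprime p :=
    Cfsg.Agent.Lib.Helper1.pPrimeCore_card_coprime p
  have hN : ¬ p ∣ Nat.card (Cfsg.pPrimeCore p G) :=
    (Nat.Prime.coprime_iff_not_dvd hp).mp hcop.symm
  ext ψ
  have h1 : ψ ∈ Cfsg.principalBlock M G ↔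
      Cfsg.SameBlock M ((trivIrr G : Cfsg.IrrCharacter G) : G → ℂ) (ψ : G → ℂ) := Iff.rfl
  rw [h1, Cfsg.Agent.S0954.result p M hM (Cfsg.pPrimeCore p G) hN hnc (trivIrr G) ψ]
  rw [Set.mem_setOf_eq, ← triv_constituent_iff]
  constructor
  · rintro ⟨θ, hθ1, hθ2⟩
    have hθ : θ = trivIrr (Cfsg.pPrimeCore p G) := by
      by_contra hne
      apply hθ1
      have h2 := irr_classInner (trivIrr (Cfsg.pPrimeCore p G)) θ
      rw [if_neg (fun h => hne h.symm)] at h2
      exact h2
    rw [← hθ]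
    exact hθ2
  · intro h
    refine ⟨trivIrr (Cfsg.pPrimeCore p G), ?_, h⟩
    have h2 := irr_classInner (trivIrr (Cfsg.pPrimeCore p G)) (trivIrr (Cfsg.pPrimeCore p G))
    rw [if_pos rfl] at h2
    intro h0
    have : Cfsg.classInner (fun n : Cfsg.pPrimeCore p G => ((trivIrr G : Cfsg.IrrCharacter G) : G → ℂ) n)
        (trivIrr (Cfsg.pPrimeCore p G) : Cfsg.pPrimeCore p G → ℂ) = 1 := h2
    rw [this] at h0
    exact one_ne_zero h0

end Cfsg.Agent.S0939
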