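import Mathlib
import Cfsg.Statements.S0916

set_option autoImplicit false
open Cfsg

namespace Cfsg.Agent.S0916

variable {G : Type*} [Group G]

theorem card_map_subtype (H : Subgroup G) (K : Subgroup H) :
    Nat.card (K.map H.subtype) = Nat.card K :=
  Subgroup.card_map_of_injective H.subtype_injective

theorem sylow_iff_card [Finite G] (p : ℕ) [Fact p.Prime] (P H : Subgroup G) :
    (∃ S : Sylow p H, (S : Subgroup H).map H.subtype = P) ↔
      P ≤ H ∧ Nat.card P = p ^ (Nat.card H).factorization p := by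
  constructor
  · rintro ⟨S, rfl⟩
    refine ⟨Subgroup.map_subtype_le _, ?_⟩
    rw [card_map_subtype, Sylow.card_eq_multiplicity]
  · rintro ⟨hPH, hcard⟩
    have hc : Nat.card (P.subgroupOf H) = p ^ (Nat.card H).factorization p := by
      rw [← hcard]
      exact Nat.card_congr (Subgroup.subgroupOfEquivOfLe hPH).toEquiv
    refine ⟨Sylow.ofCard (P.subgroupOf H) hc, ?_⟩
    simp only [Sylow.coe_ofCard]
    exact Subgroup.map_subgroupOf_eq_of_le hPH

theorem pgroup_card_dvd_sylow {p : ℕ} [Fact p.Prime] {K : Type*} [Group K] [Finite K]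
    (S : Sylow p K) {Q : Type*} [Group Q] (hQ : IsPGroup p Q) (f : Q →* K)
    (hf : Function.Injective f) : Nat.card Q ∣ Nat.card S := by
  have hr : IsPGroup p f.range :=
    hQ.of_surjective f.rangeRestrict f.rangeRestrict_surjective
  obtain ⟨S', hS'⟩ := hr.exists_le_sylow
  have h1 : Nat.card f.range ∣ Nat.card S' := Subgroup.card_dvd_of_le hS'
  have h2 : Nat.card S' = Nat.card S := by
    rw [Sylow.card_eq_multiplicity, Sylow.card_eq_multiplicity]
  have h3 : Nat.card Q = Nat.card f.range :=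
    Nat.card_congr (Equiv.ofInjective f hf)
  rw [h3, ← h2]
  exact h1

theorem pgroup_card_dvd [Finite G] (p : ℕ) [Fact p.Prime] (R H : Subgroup G) (hR : IsPGroup p R)
    (hRH : R ≤ H) : Nat.card R ∣ p ^ (Nat.card H).factorization p := by
  obtain ⟨S⟩ : Nonempty (Sylow p H) := inferInstance
  have := pgroup_card_dvd_sylow S hR (Subgroup.inclusion hRH) (Subgroup.inclusion_injective hRH)
  rwa [Sylow.card_eq_multiplicity] at this

theorem sylow_conj [Finite G] (p : ℕ) [Fact p.Prime] (P Q H : Subgroup G)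
    (hP : P ≤ H ∧ Nat.card P = p ^ (Nat.card H).factorization p)
    (hQ : Q ≤ H ∧ Nat.card Q = p ^ (Nat.card H).factorization p) :
    ∃ x ∈ H, Q = P.map (MulAut.conj x).toMonoidHom := by
  obtain ⟨SP, hSP⟩ := (sylow_iff_card p P H).mpr hP
  obtain ⟨SQ, hSQ⟩ := (sylow_iff_card p Q H).mpr hQ
  obtain ⟨x, hx⟩ := MulAction.exists_smul_eq H SP SQ
  refine ⟨x, x.2, ?_⟩
  rw [← hSP, ← hSQ, ← hx]
  ext y
  simp only [Subgroup.mem_map, Sylow.coe_subgroup_smul]
  constructor
  · rintro ⟨z, hz, rfl⟩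
    rw [Subgroup.mem_pointwise_smul_iff_inv_smul_mem] at hz
    refine ⟨_, ⟨_, hz, rfl⟩, ?_⟩
    simp [MulAut.smul_def, mul_assoc]
  · rintro ⟨_, ⟨z, hz, rfl⟩, rfl⟩
    refine ⟨x * z * x⁻¹, ?_, ?_⟩
    · rw [Subgroup.mem_pointwise_smul_iff_inv_smul_mem]
      simpa [MulAut.smul_def, mul_assoc] using hz
    · simp


theorem normalizer_grows [Finite G] (p : ℕ) [Fact p.Prime] (P Q : Subgroup G) (hQ : IsPGroup p Q)
    (hPQ : P < Q) : ∃ x ∈ Q, x ∉ P ∧ x ∈ Subgroup.normalizer (P : Set G) := by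
  have : Group.IsNilpotent Q := hQ.isNilpotent
  have hnc : NormalizerCondition Q := Group.normalizerCondition_of_isNilpotent
  have hlt : P.subgroupOf Q < ⊤ := by
    rw [lt_top_iff_ne_top]
    intro h
    rw [Subgroup.subgroupOf_eq_top] at h
    exact (not_le_of_gt hPQ) h
  have h2 := hnc _ hlt
  obtain ⟨x, hxN, hxP⟩ := SetLike.exists_of_lt h2
  refine ⟨x, x.2, ?_, ?_⟩
  · intro hx
    exact hxP (Subgroup.mem_subgroupOf.mpr hx)
  · rw [Subgroup.mem_normalizer_iff] at hxN ⊢
    intro y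
    constructor
    · intro hy
      have := (hxN ⟨y, hPQ.le hy⟩).mp (Subgroup.mem_subgroupOf.mpr hy)
      simpa [Subgroup.mem_subgroupOf] using this
    · intro hy
      have hyQ : y ∈ Q := by
        have h1 : (x : G) * y * (x : G)⁻¹ ∈ Q := hPQ.le hy
        have : y = (x : G)⁻¹ * ((x : G) * y * (x : G)⁻¹) * (x : G) := by group
        rw [this]
        exact Q.mul_mem (Q.mul_mem (Q.inv_mem x.2) h1) x.2
      have := (hxN ⟨y, hyQ⟩).mpr (by simpa [Subgroup.mem_subgroupOf] using hy)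
      simpa [Subgroup.mem_subgroupOf] using this

theorem card_conj (P : Subgroup G) (a : G) :
    Nat.card (P.map (MulAut.conj a).toMonoidHom) = Nat.card P :=
  Subgroup.card_map_of_injective (MulAut.conj a).injective

theorem part_one [Finite G] (p : ℕ) [Fact p.Prime] (P : Subgroup G) (g : G)
    (hS : P ≤ Subgroup.centralizer ({g} : Set G) ∧
      Nat.card P = p ^ (Nat.card (Subgroup.centralizer ({g} : Set G))).factorization p)
    (c : G) (hgc : IsConj g c) (hc : c ∈ Subgroup.centralizer (P : Set G)) :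
    ∃ n ∈ Subgroup.normalizer (P : Set G), n * c * n⁻¹ = g := by
  obtain ⟨a, ha⟩ := isConj_iff.mp hgc
  let Pa := P.map (MulAut.conj a⁻¹).toMonoidHom
  have hPa : Pa ≤ Subgroup.centralizer ({g} : Set G) := by
    rintro _ ⟨y, hy, rfl⟩
    rw [Subgroup.mem_centralizer_iff]
    intro z hz
    rw [Set.mem_singleton_iff] at hz
    subst hz
    have h1 : y * c = c * y := Subgroup.mem_centralizer_iff.mp hc y hy
    rw [← ha] at h1
    simp only [MulEquiv.coe_toMonoidHom, MulAut.conj_apply, inv_inv]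
    calc z * (a⁻¹ * y * a) = a⁻¹ * (a * z * a⁻¹ * y) * a := by group
      _ = a⁻¹ * (y * (a * z * a⁻¹)) * a := by rw [h1]
      _ = a⁻¹ * y * a * z := by group
  have hPacard : Nat.card Pa = p ^ (Nat.card (Subgroup.centralizer ({g} : Set G))).factorization p := by
    rw [card_conj]; exact hS.2
  obtain ⟨x, hx, hxP⟩ := sylow_conj p Pa P _ ⟨hPa, hPacard⟩ hS
  refine ⟨x * a⁻¹, ?_, ?_⟩
  · rw [Subgroup.mem_normalizer_iff]
    have key : ∀ y, y ∈ P → (x * a⁻¹) * y * (x * a⁻¹)⁻¹ ∈ P := by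
      intro y hy
      rw [hxP]
      refine ⟨a⁻¹ * y * a, ⟨y, hy, by simp⟩, ?_⟩
      simp only [MulEquiv.coe_toMonoidHom, MulAut.conj_apply]
      group
    have hcard : Nat.card (P.map (MulAut.conj (x * a⁻¹)).toMonoidHom) = Nat.card P := card_conj P _
    have hle : P.map (MulAut.conj (x * a⁻¹)).toMonoidHom ≤ P := by
      rintro _ ⟨y, hy, rfl⟩
      exact key y hy
    have heq : P.map (MulAut.conj (x * a⁻¹)).toMonoidHom = P :=
      Subgroup.eq_of_le_of_card_ge hle (by rw [hcard])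
    intro y
    constructor
    · exact key y
    · intro hy
      rw [← heq] at hy
      obtain ⟨z, hz, hzy⟩ := hy
      simp only [MulEquiv.coe_toMonoidHom, MulAut.conj_apply] at hzy
      have : z = y := by
        have := congrArg (fun t => (x * a⁻¹)⁻¹ * t * (x * a⁻¹)) hzy
        simpa [mul_assoc] using this
      rwa [← this]
  · rw [← ha]
    have hxg : x * g = g * x := by
      have := Subgroup.mem_centralizer_iff.mp hx g (Set.mem_singleton g)
      exact this.symm
    calc x * a⁻¹ * (a * g * a⁻¹) * (x * a⁻¹)⁻¹ = x * g * x⁻¹ := by group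
      _ = g := by rw [hxg]; group

theorem result {G : Type*} [Group G] [Finite G] (p : ℕ) [Fact p.Prime] (P : Subgroup G) (hP : IsPGroup p P) : (∀ g : G, (∃ S : Sylow p (Subgroup.centralizer ({g} : Set G)), (S : Subgroup (Subgroup.centralizer ({g} : Set G))).map (Subgroup.centralizer ({g} : Set G)).subtype = P) → (∃ c : G, IsConj g c ∧ c ∈ Subgroup.centralizer (P : Set G)) ∧ (∀ c₁ c₂ : G, IsConj g c₁ → IsConj g c₂ → c₁ ∈ Subgroup.centralizer (P : Set G) → c₂ ∈ Subgroup.centralizer (P : Set G) → ∃ n ∈ Subgroup.normalizer (P : Set G), n * c₁ * n⁻¹ = c₂)) ∧ (∀ c : G, c ∈ Subgroup.centralizer (P : Set G) → (∃ S : Sylow p (Subgroup.centralizer ({c} : Set G) ⊓ Subgroup.normalizer (P : Set G) : Subgroup G), (S : Subgroup ↥(Subgroup.centralizer ({c} : Set G) ⊓ Subgroup.normalizer (P : Set G))).map (Subgroup.centralizer ({c} : Set G) ⊓ Subgroup.normalizer (P : Set G)).subtype = P) → ∃ S : Sylow p (Subgroup.centralizer ({c} : Set G)), (S : Subgroup (Subgroup.centralizer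 ({c} : Set G))).map (Subgroup.centralizer ({c} : Set G)).subtype = P) := by
  constructor
  · intro g hS
    rw [sylow_iff_card] at hS
    constructor
    · refine ⟨g, IsConj.refl g, ?_⟩
      rw [Subgroup.mem_centralizer_iff]
      intro y hy
      have := Subgroup.mem_centralizer_iff.mp (hS.1 hy) g (Set.mem_singleton g)
      exact this.symm
    · intro c₁ c₂ h1 h2 hc1 hc2
      obtain ⟨n₁, hn₁, e₁⟩ := part_one p P g hS c₁ h1 hc1
      obtain ⟨n₂, hn₂, e₂⟩ := part_one p P g hS c₂ h2 hc2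
      refine ⟨n₂⁻¹ * n₁, Subgroup.mul_mem _ (Subgroup.inv_mem _ hn₂) hn₁, ?_⟩
      calc n₂⁻¹ * n₁ * c₁ * (n₂⁻¹ * n₁)⁻¹ = n₂⁻¹ * (n₁ * c₁ * n₁⁻¹) * n₂ := by group
        _ = n₂⁻¹ * (n₂ * c₂ * n₂⁻¹) * n₂ := by rw [e₁, e₂]
        _ = c₂ := by group
  · intro c hc hS
    rw [sylow_iff_card] at hS
    have hPC : P ≤ Subgroup.centralizer ({c} : Set G) := le_trans hS.1 inf_le_left
    have hPsub : IsPGroup p (P.subgroupOf (Subgroup.centralizer ({c} : Set G))) :=
      hP.comap_subtype
    obtain ⟨S', hS'⟩ := hPsub.exists_le_sylow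
    refine ⟨S', ?_⟩
    set Q := (S' : Subgroup (Subgroup.centralizer ({c} : Set G))).map (Subgroup.centralizer ({c} : Set G)).subtype with hQ
    have hQC : Q ≤ Subgroup.centralizer ({c} : Set G) := Subgroup.map_subtype_le _
    have hQp : IsPGroup p Q := S'.isPGroup'.map _
    have hPQ : P ≤ Q := by
      intro y hy
      exact ⟨⟨y, hPC hy⟩, hS' (Subgroup.mem_subgroupOf.mpr hy), rfl⟩
    by_contra hne
    have hlt : P < Q := lt_of_le_of_ne hPQ (fun h => hne h.symm)
    obtain ⟨x, hxQ, hxP, hxN⟩ := normalizer_grows p P Q hQp hlt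
    let R := Q ⊓ Subgroup.normalizer (P : Set G)
    have hRp : IsPGroup p R := hQp.to_le inf_le_left
    have hRM : R ≤ Subgroup.centralizer ({c} : Set G) ⊓ Subgroup.normalizer (P : Set G) :=
      inf_le_inf_right _ hQC
    have hdvd := pgroup_card_dvd p R _ hRp hRM
    rw [← hS.2] at hdvd
    have hPR : P < R := by
      refine lt_of_le_of_ne (le_inf hPQ Subgroup.le_normalizer) ?_
      intro h
      apply hxP
      rw [h]
      exact ⟨hxQ, hxN⟩
    have := Nat.le_of_dvd Nat.card_pos hdvd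
    have heq : P = R := Subgroup.eq_of_le_of_card_ge hPR.le this
    exact hPR.ne heq

end Cfsg.Agent.S0916
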