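import Cfsg.Statements.S0133
import Mathlib
import Cfsg.Prelude.Def_Characters
import Cfsg.Agent.Lib.Helper25.CharOrth

set_option autoImplicit false
open Cfsg

namespace Cfsg.Agent.S0133

open scoped ComplexConjugate



/-- The number of irreducible complex characters of a finite group equals the number of its conjugacy classes. -/
theorem result {G : Type*} [Group G] [Finite G] : Nat.card (Cfsg.IrrCharacter G) = Nat.card (ConjClasses G) := by
  classical
  have : Fintype G := Fintype.ofFinite G
  have : Fintype (Cfsg.IrrCharacter G) := Fintype.ofFinite _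
  have : Fintype (ConjClasses G) := Fintype.ofFinite _
  let L : (ConjClasses G → ℂ) →ₗ[ℂ] (G → ℂ) :=
    { toFun := fun φ g => φ (ConjClasses.mk g)
      map_add' := fun _ _ => rfl
      map_smul' := fun _ _ => rfl }
  have hL : Function.Injective L := by
    intro φ ψ h
    funext c
    obtain ⟨g, rfl⟩ := ConjClasses.mk_surjective c
    exact congrFun h g
  have hrange : Submodule.span ℂ (Set.range (fun χ : Cfsg.IrrCharacter G => (χ : G → ℂ))) = LinearMap.range L := by
    apply le_antisymm
    · rw [Submodule.span_le]
      rintro _ ⟨χ, rfl⟩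
      refine ⟨fun c => Quotient.liftOn c (χ : G → ℂ) ?_, ?_⟩
      · intro a b hab
        exact Cfsg.Agent.Lib.Helper25.irr_isConj_eq χ hab
      · funext g
        rfl
    · rintro _ ⟨φ, rfl⟩
      have hcl : ∀ g h : G, L φ (h * g * h⁻¹) = L φ g := by
        intro g h
        show φ (ConjClasses.mk (h * g * h⁻¹)) = φ (ConjClasses.mk g)
        congr 1
        rw [ConjClasses.mk_eq_mk_iff_isConj]
        exact (isConj_iff.mpr ⟨h, rfl⟩).symm
      rw [Cfsg.Agent.Lib.Helper25.classFunction_expansion (L φ) hcl]
      apply Submodule.sum_mem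
      intro χ _
      apply Submodule.smul_mem
      exact Submodule.subset_span ⟨χ, rfl⟩
  have h1 := finrank_span_eq_card (Cfsg.Agent.Lib.Helper25.irr_linearIndependent G)
  have h2 := LinearMap.finrank_range_of_inj hL
  rw [hrange, h2, Module.finrank_fintype_fun_eq_card] at h1
  rw [Nat.card_eq_fintype_card, Nat.card_eq_fintype_card, h1]

end Cfsg.Agent.S0133
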