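import Mathlib
import Cfsg.Statements.S0860
import Cfsg.Agent.Lib.Helper25.CharOrth
import Cfsg.Agent.Lib.helper7.ClassSum

set_option autoImplicit false
open Cfsg

namespace Cfsg.Agent.S0860

open Cfsg.Agent.Lib.Helper25 Cfsg.Agent.Lib.helper7
open scoped ComplexConjugate

variable {G : Type*} [Group G]

noncomputable def tblX (G : Type*) [Group G] : Matrix (Cfsg.IrrCharacter G) (ConjClasses G) ℂ :=
  fun χ C => (χ : G → ℂ) (Quotient.out C)

noncomputable def tblY (G : Type*) [Group G] : Matrix (ConjClasses G) (Cfsg.IrrCharacter G) ℂ :=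
  fun C χ => conj ((χ : G → ℂ) (Quotient.out C)) /
    (Nat.card (Subgroup.centralizer ({Quotient.out C} : Set G)) : ℂ)

theorem tblY_mul_tblX [Fintype G] [Fintype (Cfsg.IrrCharacter G)] [DecidableEq (ConjClasses G)] :
    tblY G * tblX G = 1 := by
  classical
  ext C C'
  rw [Matrix.mul_apply, Matrix.one_apply]
  unfold tblX tblY
  have hcne : (Nat.card (Subgroup.centralizer ({Quotient.out C} : Set G)) : ℂ) ≠ 0 := by
    exact_mod_cast Nat.card_pos.ne'
  have h1 := irr_column_orthogonality (Quotient.out C') (Quotient.out C)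
  have h2 : ∑ χ : Cfsg.IrrCharacter G, conj ((χ : G → ℂ) (Quotient.out C)) /
      (Nat.card (Subgroup.centralizer ({Quotient.out C} : Set G)) : ℂ) * (χ : G → ℂ) (Quotient.out C')
      = (∑ χ : Cfsg.IrrCharacter G, (χ : G → ℂ) (Quotient.out C') * conj ((χ : G → ℂ) (Quotient.out C))) /
      (Nat.card (Subgroup.centralizer ({Quotient.out C} : Set G)) : ℂ) := by
    rw [Finset.sum_div]
    apply Finset.sum_congr rfl
    intro χ _
    ring
  rw [h2, h1]
  have hiff : IsConj (Quotient.out C) (Quotient.out C') ↔ C = C' := by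
    rw [← ConjClasses.mk_eq_mk_iff_isConj]
    have e1 : ConjClasses.mk (Quotient.out C) = C := Quotient.out_eq C
    have e2 : ConjClasses.mk (Quotient.out C') = C' := Quotient.out_eq C'
    rw [e1, e2]
  by_cases h : C = C'
  · rw [if_pos (hiff.mpr h), if_pos h]
    field_simp
  · rw [if_neg (fun hh => h (hiff.mp hh)), if_neg h]
    simp

theorem tblX_mul_tblY [Fintype G] [Fintype (ConjClasses G)] [DecidableEq (Cfsg.IrrCharacter G)] :
    tblX G * tblY G = 1 := by
  classical
  ext χ ψ
  rw [Matrix.mul_apply, Matrix.one_apply]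
  unfold tblX tblY
  have h1 := irr_classInner χ ψ
  unfold Cfsg.classInner at h1
  have hfc : ∀ g h : G, (χ : G → ℂ) (h * g * h⁻¹) * conj ((ψ : G → ℂ) (h * g * h⁻¹)) =
      (χ : G → ℂ) g * conj ((ψ : G → ℂ) g) := by
    intro g h
    rw [irr_conj_invariant, irr_conj_invariant]
  rw [h7_sum_eq_sum_conjClasses _ hfc] at h1
  have h1' : (Nat.card G : ℂ)⁻¹ * ∑ K : ConjClasses G, (Subgroup.centralizer ({Quotient.out K} : Set G)).index •
      ((χ : G → ℂ) (Quotient.out K) * conj ((ψ : G → ℂ) (Quotient.out K))) = if χ = ψ then 1 else 0 := by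
    rw [h1]
    split_ifs <;> rfl
  rw [← h1', Finset.mul_sum]
  apply Finset.sum_congr rfl
  intro C _
  have hcne : (Nat.card (Subgroup.centralizer ({Quotient.out C} : Set G)) : ℂ) ≠ 0 := by
    exact_mod_cast Nat.card_pos.ne'
  have hG : (Nat.card G : ℂ) ≠ 0 := by exact_mod_cast Nat.card_pos.ne'
  have hidx : (Nat.card G : ℂ) = ((Subgroup.centralizer ({Quotient.out C} : Set G)).index : ℂ) *
      (Nat.card (Subgroup.centralizer ({Quotient.out C} : Set G)) : ℂ) := by
    rw [← Subgroup.index_mul_card (Subgroup.centralizer ({Quotient.out C} : Set G))]; push_cast; ring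
  have hidx0 : ((Subgroup.centralizer ({Quotient.out C} : Set G)).index : ℂ) ≠ 0 := by
    intro h0; rw [h0, zero_mul] at hidx; exact hG hidx
  rw [nsmul_eq_mul, hidx]
  field_simp

theorem result {G : Type*} [Group G] [Finite G] {A : Type*} [Group A] [MulAction A (Cfsg.IrrCharacter G)] [MulAction A (ConjClasses G)] (hcompat : ∀ (a : A) (χ : Cfsg.IrrCharacter G) (g g' : G), ConjClasses.mk g' = a • ConjClasses.mk g → ((a • χ : Cfsg.IrrCharacter G) : G → ℂ) g' = (χ : G → ℂ) g) (a : A) : Nat.card {χ : Cfsg.IrrCharacter G // a • χ = χ} = Nat.card {C : ConjClasses G // a • C = C} := by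
  classical
  have := Fintype.ofFinite G
  have := Fintype.ofFinite (Cfsg.IrrCharacter G)
  have := Fintype.ofFinite (ConjClasses G)
  let P : Matrix (Cfsg.IrrCharacter G) (Cfsg.IrrCharacter G) ℂ := fun χ ψ => if a • χ = ψ then 1 else 0
  let Q : Matrix (ConjClasses G) (ConjClasses G) ℂ := fun C' C => if a • C' = C then 1 else 0
  have hPX : P * tblX G = tblX G * Q := by
    ext χ C
    rw [Matrix.mul_apply, Matrix.mul_apply]
    simp only [P, Q, ite_mul, one_mul, zero_mul, mul_ite, mul_one, mul_zero]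
    rw [Finset.sum_ite_eq Finset.univ (a • χ) (fun ψ => tblX G ψ C)]
    simp only [Finset.mem_univ, if_true]
    have : ∀ C' : ConjClasses G, (a • C' = C) ↔ (a⁻¹ • C = C') := by
      intro C'
      constructor
      · intro h; rw [← h, inv_smul_smul]
      · intro h; rw [← h, smul_inv_smul]
    simp only [this]
    rw [Finset.sum_ite_eq Finset.univ (a⁻¹ • C) (fun C' => tblX G χ C')]
    simp only [Finset.mem_univ, if_true]
    unfold tblX
    apply hcompat
    have e1 : ConjClasses.mk (Quotient.out C) = C := Quotient.out_eq C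
    have e2 : ConjClasses.mk (Quotient.out (a⁻¹ • C)) = a⁻¹ • C := Quotient.out_eq _
    rw [e1, e2, smul_inv_smul]
  have htr : Matrix.trace P = Matrix.trace Q := by
    calc Matrix.trace P = Matrix.trace (P * (tblX G * tblY G)) := by rw [tblX_mul_tblY, mul_one]
      _ = Matrix.trace ((P * tblX G) * tblY G) := by rw [Matrix.mul_assoc]
      _ = Matrix.trace ((tblX G * Q) * tblY G) := by rw [hPX]
      _ = Matrix.trace (tblX G * (Q * tblY G)) := by rw [Matrix.mul_assoc]
      _ = Matrix.trace ((Q * tblY G) * tblX G) := by rw [Matrix.trace_mul_comm]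
      _ = Matrix.trace (Q * (tblY G * tblX G)) := by rw [Matrix.mul_assoc]
      _ = Matrix.trace Q := by rw [tblY_mul_tblX, mul_one]
  have hP : Matrix.trace P = (Nat.card {χ : Cfsg.IrrCharacter G // a • χ = χ} : ℂ) := by
    have : Matrix.trace P = ∑ χ : Cfsg.IrrCharacter G, if a • χ = χ then (1 : ℂ) else 0 := rfl
    rw [this, Finset.sum_boole, Nat.card_eq_fintype_card, Fintype.card_subtype]
  have hQ : Matrix.trace Q = (Nat.card {C : ConjClasses G // a • C = C} : ℂ) := by
    have : Matrix.trace Q = ∑ C : ConjClasses G, if a • C = C then (1 : ℂ) else 0 := rfl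
    rw [this, Finset.sum_boole, Nat.card_eq_fintype_card, Fintype.card_subtype]
  rw [hP, hQ] at htr
  exact_mod_cast htr

end Cfsg.Agent.S0860
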