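import Mathlib
import Cfsg.Statements.S0854
import Cfsg.Agent.Lib.helper7.CliffordSub

set_option autoImplicit false
open Cfsg

namespace Cfsg.Agent.S0854

open Cfsg.Agent.Lib.helper7 Cfsg.Agent.Lib.Helper11
open scoped ComplexConjugate

theorem result {G : Type*} [Group G] [Fintype G] (H : Subgroup G) [hN : H.Normal] [Fintype H] (ϑ : H → ℂ) (hϑ : Cfsg.IsIrrCharacter H ϑ) (T : Subgroup G) [Fintype T] (hT : ∀ g : G, g ∈ T ↔ ∀ n : H, ϑ ⟨g * n * g⁻¹, hN.conj_mem (n : G) n.2 g⟩ = ϑ n) (hHT : H ≤ T) (χ : G → ℂ) (hχ : Cfsg.IsIrrCharacter G χ) (hcon : Cfsg.classInner (fun n : H => χ n) ϑ ≠ 0) : ∃ ψ : T → ℂ, Cfsg.IsIrrCharacter T ψ ∧ Cfsg.indFun T ψ = χ ∧ Cfsg.classInner (fun n : H => ψ ⟨(n : G), hHT n.2⟩) ϑ = Cfsg.classInner (fun n : H => χ n) ϑ := by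
  classical
  have : Fintype (Cfsg.IrrCharacter T) := Fintype.ofFinite _
  have hcl := h7_irr_isClassFunction hχ
  have hχc := h7_irr_isCharacter hχ
  have hχT := Cfsg.Agent.Lib.helper2.isCharacter_restrict hχc T
  obtain ⟨a, ha, hexp⟩ := Cfsg.Agent.Lib.helper2.isCharacter_expansion hχT
  have hχH : (fun n : H => χ n) =
      ∑ μ : Cfsg.IrrCharacter T, (a μ : ℂ) • (fun n : H => (μ : T → ℂ) ⟨(n : G), hHT n.2⟩) := by
    funext n
    have := congrFun hexp ⟨(n : G), hHT n.2⟩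
    simp only [Finset.sum_apply, Pi.smul_apply, smul_eq_mul] at this ⊢
    exact this
  have hsum : Cfsg.classInner (fun n : H => χ n) ϑ =
      ∑ μ : Cfsg.IrrCharacter T, (a μ : ℂ) *
        Cfsg.classInner (fun n : H => (μ : T → ℂ) ⟨(n : G), hHT n.2⟩) ϑ := by
    conv_lhs => rw [hχH]
    rw [Cfsg.Agent.Lib.Helper25.classInner_sum_left]
    apply Finset.sum_congr rfl
    intro μ _
    rw [Cfsg.Agent.Lib.Helper25.classInner_smul_left]
  have hex : ∃ μ : Cfsg.IrrCharacter T, (a μ : ℂ) *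
      Cfsg.classInner (fun n : H => (μ : T → ℂ) ⟨(n : G), hHT n.2⟩) ϑ ≠ 0 := by
    by_contra hno
    push Not at hno
    apply hcon
    rw [hsum]
    exact Finset.sum_eq_zero (fun μ _ => hno μ)
  obtain ⟨μ, hμ⟩ := hex
  have haμ : (a μ : ℂ) ≠ 0 := left_ne_zero_of_mul hμ
  have hconψ : Cfsg.classInner (fun n : H => (μ : T → ℂ) ⟨(n : G), hHT n.2⟩) ϑ ≠ 0 :=
    right_ne_zero_of_mul hμ
  have hinvT : ∀ t ∈ T, ∀ n : H, ϑ ⟨t * n * t⁻¹, hN.conj_mem (n : G) n.2 t⟩ = ϑ n :=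
    fun t ht => (hT t).mp ht
  obtain ⟨f, hf, hf1, hf2⟩ := h7_clifford_invariant_le H T hHT (μ : T → ℂ) μ.2 ϑ hϑ hconψ hinvT
  have haμ' : Cfsg.classInner (fun t : T => χ t) (μ : T → ℂ) ≠ 0 := by
    rw [ha μ]; exact haμ
  obtain ⟨Δ, hΔ, hsplit⟩ := h7_char_split hχT (μ : T → ℂ) μ.2 haμ'
  have hΔH : Cfsg.IsCharacter H (fun n : H => Δ ⟨(n : G), hHT n.2⟩) :=
    Cfsg.Agent.Lib.helper2.isCharacter_comp_hom hΔ (Subgroup.inclusion hHT)
  obtain ⟨d, hd⟩ := Cfsg.Agent.Lib.helper2.classInner_character_nat hΔH (h7_irr_isCharacter hϑ)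
  obtain ⟨e, he, he1, he2⟩ := h7_clifford H χ hχ ϑ hϑ hcon
  have hefd : e = f + d := by
    have h1 : (fun n : H => χ n) = (fun n : H => (μ : T → ℂ) ⟨(n : G), hHT n.2⟩) +
        (fun n : H => Δ ⟨(n : G), hHT n.2⟩) := by
      funext n
      have := congrFun hsplit ⟨(n : G), hHT n.2⟩
      simpa using this
    have h2 := he1
    rw [h1, Cfsg.Agent.Lib.Helper25.classInner_add_left, hf1, hd] at h2
    exact_mod_cast h2.symm
  have hind := indFun_restrict_normal H ϑ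
  generalize hS : (∑ ψ ∈ Finset.univ.image (fun g : G => cj H ϑ g), ψ) = S at he2 hind
  have hcardT : Nat.card {g : G // ∀ h : H, cj H ϑ g h = ϑ h} = Nat.card T :=
    Nat.card_congr (Equiv.subtypeEquivRight (fun g => (hT g).symm))
  have hHne : (Nat.card H : ℂ) ≠ 0 := by exact_mod_cast Nat.card_pos.ne'
  have hTne : (Nat.card T : ℂ) ≠ 0 := by exact_mod_cast Nat.card_pos.ne'
  have hS1 : S 1 = (T.index : ℂ) * ϑ 1 := by
    have h1 := congrFun hind 1
    simp only [Pi.smul_apply, smul_eq_mul] at h1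
    have h2 : Cfsg.indFun H ϑ ((1 : H) : G) = (H.index : ℂ) * ϑ 1 := h7_indFun_one H ϑ
    rw [h2, hcardT] at h1
    have hGH : (Nat.card G : ℂ) = (H.index : ℂ) * (Nat.card H : ℂ) := by
      rw [← Subgroup.index_mul_card H]; push_cast; ring
    have hGT : (Nat.card G : ℂ) = (T.index : ℂ) * (Nat.card T : ℂ) := by
      rw [← Subgroup.index_mul_card T]; push_cast; ring
    have h3 : (H.index : ℂ) * (Nat.card H : ℂ) = (T.index : ℂ) * (Nat.card T : ℂ) := by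
      rw [← hGH, hGT]
    have h4 : (Nat.card T : ℂ) * S 1 = (Nat.card T : ℂ) * ((T.index : ℂ) * ϑ 1) := by
      have : (Nat.card T : ℂ) * S 1 = (Nat.card H : ℂ) * ((H.index : ℂ) * ϑ 1) := by
        rw [h1]; field_simp
      rw [this]
      linear_combination (ϑ 1) * h3
    exact mul_left_cancel₀ hTne h4
  have hχ1 : χ 1 = (e : ℂ) * ((T.index : ℂ) * ϑ 1) := by
    have := congrFun he2 1
    simp only [Pi.smul_apply, smul_eq_mul] at this
    rw [← hS1, ← this]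
    rfl
  have hμ1 : (μ : T → ℂ) 1 = (f : ℂ) * ϑ 1 := by
    have := congrFun hf2 1
    simp only [Pi.smul_apply, smul_eq_mul] at this
    rw [← this]
    rfl
  have hindc := Cfsg.Agent.Lib.helper2.isCharacter_indFun T (μ : T → ℂ)
    (Cfsg.Agent.Lib.helper2.isCharacter_of_irr μ)
  have hindχ : Cfsg.classInner (Cfsg.indFun T (μ : T → ℂ)) χ ≠ 0 := by
    rw [h7_frobenius_irr T χ hcl (μ : T → ℂ)]
    intro h
    apply haμ'
    have := congrArg conj h
    simpa using this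
  obtain ⟨Δ', hΔ', hsplit'⟩ := h7_char_split hindc χ hχ hindχ
  obtain ⟨k, hk⟩ := Cfsg.Agent.Lib.helper2.isCharacter_one_eq_nat hΔ'
  obtain ⟨n0, hn0, hϑ1⟩ := Cfsg.Agent.Lib.Helper25.irr_one_eq_finrank (⟨ϑ, hϑ⟩ : Cfsg.IrrCharacter H)
  have hϑ1' : ϑ 1 = (n0 : ℂ) := hϑ1
  have hdeg := congrFun hsplit' 1
  rw [Pi.add_apply, h7_indFun_one, hμ1, hχ1, hk, hϑ1', hefd] at hdeg
  have hnat : T.index * (f * n0) = (f + d) * (T.index * n0) + k := by exact_mod_cast hdeg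
  have hidx : 0 < T.index := Nat.pos_of_ne_zero Subgroup.index_ne_zero_of_finite
  have hdk : d * (T.index * n0) + k = 0 := by
    have : T.index * (f * n0) = f * (T.index * n0) := by ring
    rw [this, add_mul] at hnat
    omega
  have hk0 : k = 0 := by omega
  have hd0 : d = 0 := by
    have h1 : d * (T.index * n0) = 0 := by omega
    rcases Nat.mul_eq_zero.mp h1 with h | h
    · exact h
    · exfalso
      have := Nat.mul_pos hidx hn0
      omega
  have hΔ'0 : Δ' = 0 := by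
    apply h7_isCharacter_eq_zero hΔ'
    rw [hk, hk0]; simp
  refine ⟨(μ : T → ℂ), μ.2, ?_, ?_⟩
  · rw [hsplit', hΔ'0, add_zero]
  · rw [hf1, he1, hefd, hd0, add_zero]

end Cfsg.Agent.S0854
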