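import Mathlib
import Cfsg.Statements.S0963
import Cfsg.Agent.Lib.helper7.Clifford
import Cfsg.Agent.S0932

set_option autoImplicit false
open Cfsg

namespace Cfsg.Agent.S0963

open Cfsg.Agent.Lib.helper7 Cfsg.Agent.Lib.Helper11
open scoped ComplexConjugate

theorem classInner_self_eq_zero {G : Type*} [Group G] [Fintype G] (f : G → ℂ)
    (h : Cfsg.classInner f f = 0) : f = 0 := by
  unfold Cfsg.classInner at h
  have hG : (Nat.card G : ℂ) ≠ 0 := by exact_mod_cast Nat.card_pos.ne'
  rcases mul_eq_zero.mp h with h | h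
  · exact absurd (inv_eq_zero.mp h) hG
  · have h2 : ∑ g : G, (Complex.normSq (f g) : ℂ) = 0 := by
      rw [← h]
      apply Finset.sum_congr rfl
      intro g _
      rw [Complex.mul_conj]
    have h3 : ∑ g : G, Complex.normSq (f g) = 0 := by
      exact_mod_cast h2
    funext g
    have := (Finset.sum_eq_zero_iff_of_nonneg (fun g _ => Complex.normSq_nonneg (f g))).mp h3 g
      (Finset.mem_univ g)
    exact Complex.normSq_eq_zero.mp this

theorem forward {G : Type*} [Group G] [Fintype G] (N : Subgroup G) [hN : N.Normal] [Fintype N]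
    (χ : G → ℂ) (hχ : Cfsg.IsIrrCharacter G χ) (θ : N → ℂ) (hθ : Cfsg.IsIrrCharacter N θ)
    (hcon : Cfsg.classInner (fun n : N => χ n) θ ≠ 0) (n : N) :
    Cfsg.centralChar χ (n : G) = Cfsg.centralChar (Cfsg.indFun N θ) (n : G) := by
  classical
  obtain ⟨e, he, -, hres⟩ := h7_clifford N χ hχ θ hθ hcon
  have hind := indFun_restrict_normal N θ
  set S : N → ℂ := ∑ ψ ∈ Finset.univ.image (fun g : G => cj N θ g), ψ with hS
  set c : ℂ := (Nat.card {g : G // ∀ h : N, cj N θ g h = θ h} : ℂ) / (Nat.card N : ℂ) with hc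
  have hcne : c ≠ 0 := by
    have : Nonempty {g : G // ∀ h : N, cj N θ g h = θ h} := ⟨⟨1, fun h => by rw [cj_one]⟩⟩
    have h1 : (Nat.card {g : G // ∀ h : N, cj N θ g h = θ h} : ℂ) ≠ 0 := by
      exact_mod_cast Nat.card_pos.ne'
    have h2 : (Nat.card N : ℂ) ≠ 0 := by exact_mod_cast Nat.card_pos.ne'
    exact div_ne_zero h1 h2
  have hene : (e : ℂ) ≠ 0 := by exact_mod_cast he.ne'
  have hχn : ∀ m : N, χ m = (e : ℂ) * S m := by
    intro m
    have := congrFun hres m
    simpa using this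
  have hin : ∀ m : N, Cfsg.indFun N θ m = c * S m := by
    intro m
    have := congrFun hind m
    simpa using this
  unfold Cfsg.centralChar
  have h1 : χ 1 = (e : ℂ) * S 1 := hχn 1
  have h2 : Cfsg.indFun N θ 1 = c * S 1 := hin 1
  rw [hχn n, hin n, h1, h2]
  by_cases hS1 : S 1 = 0
  · rw [hS1]; simp
  · field_simp

theorem result {G : Type*} [Group G] [Fintype G] (N : Subgroup G) [N.Normal] [Fintype N] (χ : Cfsg.IrrCharacter G) (θ : Cfsg.IrrCharacter N) : Cfsg.classInner (fun n : N => (χ : G → ℂ) n) (θ : N → ℂ) ≠ 0 ↔ ∀ n : N, Cfsg.centralChar (χ : G → ℂ) (n : G) = Cfsg.inducedCentralChar N (θ : N → ℂ) (n : G) := by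
  classical
  constructor
  · intro hcon n
    rw [Cfsg.Agent.S0932.induced_eq]
    exact forward N χ.1 χ.2 θ.1 θ.2 hcon n
  · intro hall hzero
    have hχc := h7_irr_isCharacter χ.2
    have hR := Cfsg.Agent.Lib.helper2.isCharacter_restrict hχc N
    have hR1 : (fun n : N => (χ : G → ℂ) n) 1 ≠ 0 :=
      Cfsg.Agent.Lib.Helper25.irr_one_ne_zero χ
    obtain ⟨θ', m, hm, hθ'⟩ := Cfsg.Agent.Lib.helper2.isCharacter_exists_constituent hR hR1
    have hcon' : Cfsg.classInner (fun n : N => (χ : G → ℂ) n) (θ' : N → ℂ) ≠ 0 := by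
      rw [hθ']
      exact_mod_cast hm.ne'
    have hnc : ¬ ∃ g : G, (θ : N → ℂ) = cj N (θ' : N → ℂ) g := by
      rintro ⟨g, hg⟩
      apply hcon'
      rw [← h7_classInner_restrict_cj N (χ : G → ℂ) (h7_irr_isClassFunction χ.2) (θ' : N → ℂ) g,
        ← hg]
      exact hzero
    have h0 := classInner_indFun_of_not_conj N (θ' : N → ℂ) (θ : N → ℂ) θ'.2 θ.2 hnc
    have hθ1 : (θ : N → ℂ) 1 ≠ 0 := Cfsg.Agent.Lib.Helper25.irr_one_ne_zero θ
    have hθ'1 : (θ' : N → ℂ) 1 ≠ 0 := Cfsg.Agent.Lib.Helper25.irr_one_ne_zero θ'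
    have hidx : (N.index : ℂ) ≠ 0 := by
      have : N.index ≠ 0 := Subgroup.index_ne_zero_of_finite
      exact_mod_cast this
    have hi1 : Cfsg.indFun N (θ : N → ℂ) 1 ≠ 0 := by
      rw [h7_indFun_one]; exact mul_ne_zero hidx hθ1
    have hi'1 : Cfsg.indFun N (θ' : N → ℂ) 1 ≠ 0 := by
      rw [h7_indFun_one]; exact mul_ne_zero hidx hθ'1
    set k : ℂ := Cfsg.indFun N (θ : N → ℂ) 1 / Cfsg.indFun N (θ' : N → ℂ) 1 with hk
    have hrel : (fun n : N => Cfsg.indFun N (θ : N → ℂ) n) =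
        k • (fun n : N => Cfsg.indFun N (θ' : N → ℂ) n) := by
      funext n
      have e1 := hall n
      rw [Cfsg.Agent.S0932.induced_eq] at e1
      have e2 := forward N χ.1 χ.2 θ'.1 θ'.2 hcon' n
      rw [e1] at e2
      unfold Cfsg.centralChar at e2
      have hci : ((Subgroup.centralizer ({(n : G)} : Set G)).index : ℂ) ≠ 0 := by
        have : (Subgroup.centralizer ({(n : G)} : Set G)).index ≠ 0 :=
          Subgroup.index_ne_zero_of_finite
        exact_mod_cast this
      simp only [Pi.smul_apply, smul_eq_mul]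
      rw [hk]
      field_simp at e2 ⊢
      linear_combination e2
    have hnorm : Cfsg.classInner (Cfsg.indFun N (θ : N → ℂ)) (Cfsg.indFun N (θ : N → ℂ)) = 0 := by
      rw [h7_frobenius_reciprocity N (θ : N → ℂ) _ (h7_indFun_isClassFunction N _), hrel,
        h7_classInner_smul_right,
        ← h7_frobenius_reciprocity N (θ : N → ℂ) _ (h7_indFun_isClassFunction N _), h0, mul_zero]
    have := classInner_self_eq_zero _ hnorm
    apply hi1
    rw [this]
    rfl

end Cfsg.Agent.S0963
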