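import Cfsg.Statements.S0964
import Mathlib
import Cfsg.Agent.Lib.helper7.BlockCover2

set_option autoImplicit false
open Cfsg

namespace Cfsg.Agent.S0964

open Cfsg.Agent.Lib.helper7 Cfsg.Agent.Lib.Helper11


/-- Let N be a normal subgroup of the finite group G, B a block of G and b a block of N relative to a maximal ideal M of the algebraic integers containing the prime p. Suppose some χ ∈ B has a constituent θ ∈ b on restriction to N. Then for every χ' ∈ B and every constituent ψ of the restriction of χ' to N there are g ∈ G and θ' ∈ b with ψ n = θ' (g n g⁻¹) for all n ∈ N. -/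
theorem result {G : Type*} [Group G] [Fintype G] (p : ℕ) [Fact p.Prime] (M : Ideal Cfsg.AlgInt) (hM : Cfsg.IsPModular p M) (N : Subgroup G) [hN : N.Normal] [Fintype N] (B : Set (Cfsg.IrrCharacter G)) (hB : Cfsg.IsPBlock M B) (b : Set (Cfsg.IrrCharacter N)) (hb : Cfsg.IsPBlock M b) (χ : Cfsg.IrrCharacter G) (hχ : χ ∈ B) (θ : Cfsg.IrrCharacter N) (hθ : θ ∈ b) (hcon : Cfsg.classInner (fun n : N => (χ : G → ℂ) n) (θ : N → ℂ) ≠ 0) (χ' : Cfsg.IrrCharacter G) (hχ' : χ' ∈ B) (ψ : Cfsg.IrrCharacter N) (hψ : Cfsg.classInner (fun n : N => (χ' : G → ℂ) n) (ψ : N → ℂ) ≠ 0) : ∃ g : G, ∃ θ' ∈ b, ∀ n : N, (ψ : N → ℂ) n = (θ' : N → ℂ) ⟨g * n * g⁻¹, hN.conj_mem n n.2 g⟩ := by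
  classical
  haveI : Fintype (Cfsg.IrrCharacter G) := Fintype.ofFinite _
  haveI : Fintype (Cfsg.IrrCharacter N) := Fintype.ofFinite _
  letI : MulAction G (Cfsg.IrrCharacter N) := h7_irrAction N
  have hP := hM.2.1.isPrime
  obtain ⟨χ₁, rfl⟩ := hB
  obtain ⟨θ₀, rfl⟩ := hb
  have hsame : Cfsg.SameBlock M (χ : G → ℂ) (χ' : G → ℂ) :=
    h7_sameBlock_trans hP (h7_sameBlock_symm hχ) hχ'
  set T := h7_conjUnion N M θ₀ with hT
  have hθT : θ ∈ T := by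
    refine ⟨1, ?_⟩
    have : h7_irrSmul N (1 : G) θ₀ = θ₀ := one_smul G θ₀
    rw [this]
    exact hθ
  have hχT : χ ∈ h7_over N T := ⟨θ, hθT, hcon⟩
  have hχ'T := h7_over_congr N hP T (h7_conjUnion_stable N M θ₀)
    (fun n => h7_conjUnion_coeff N hP θ₀ n) χ χ' hsame hχT
  obtain ⟨θ'', hθ'', hne''⟩ := hχ'T
  obtain ⟨k, hk⟩ := h7_clifford_conj N (χ' : G → ℂ) χ'.2 (θ'' : N → ℂ) (ψ : N → ℂ) θ''.2 ψ.2
    hne'' hψ
  obtain ⟨g, θ', hθ', hg⟩ := (h7_mem_conjUnion_iff N M θ₀ θ'').mp hθ''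
  refine ⟨g⁻¹ * k, θ', hθ', ?_⟩
  intro n
  rw [hk, cj_apply, hg, h7_irrSmul_apply]
  refine congrArg _ (Subtype.ext ?_)
  simp [mul_assoc]

end Cfsg.Agent.S0964
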