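import Cfsg.Statements.S0941
import Mathlib
import Cfsg.Agent.Lib.helper7.BlockQuot2

set_option autoImplicit false
open Cfsg

namespace Cfsg.Agent.S0941


open Cfsg.Agent.Lib.helper7 Cfsg.Agent.Lib.Helper25 Cfsg.Agent.Lib.helper2


/-- Let P be a normal p-subgroup of the finite group G such that the index of C_G(P) is a power of p, and fix a maximal ideal M of the algebraic integers containing p. Then (i) two irreducible characters of G ⧸ P lie in the same block if and only if their inflations to G do, and (ii) every block of G contains the inflation of some irreducible character of G ⧸ P; so inflation induces a bijection between the blocks of G ⧸ P and the blocks of G. -/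
theorem result {G : Type*} [Group G] [Finite G] (p : ℕ) [Fact p.Prime] (M : Ideal Cfsg.AlgInt) (hM : Cfsg.IsPModular p M) (P : Subgroup G) [P.Normal] (hP : IsPGroup p P) (hC : ∃ k : ℕ, (Subgroup.centralizer (P : Set G)).index = p ^ k) : (∀ χ ψ : Cfsg.IrrCharacter (G ⧸ P), Cfsg.SameBlock M (χ : G ⧸ P → ℂ) (ψ : G ⧸ P → ℂ) ↔ Cfsg.SameBlock M ((χ : G ⧸ P → ℂ) ∘ QuotientGroup.mk) ((ψ : G ⧸ P → ℂ) ∘ QuotientGroup.mk)) ∧ ∀ B : Set (Cfsg.IrrCharacter G), Cfsg.IsPBlock M B → ∃ χ : Cfsg.IrrCharacter (G ⧸ P), ∃ θ ∈ B, (θ : G → ℂ) = (χ : G ⧸ P → ℂ) ∘ QuotientGroup.mk := by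
  classical
  haveI : Fintype G := Fintype.ofFinite G
  haveI : Fintype (Cfsg.IrrCharacter G) := Fintype.ofFinite _
  haveI : Fintype (G ⧸ P) := Fintype.ofFinite _
  haveI : Fintype (Cfsg.IrrCharacter (G ⧸ P)) := Fintype.ofFinite _
  have hPr := hM.2.1.isPrime
  have hinfl : ∀ (φ : Cfsg.IrrCharacter (G ⧸ P)) (g : G),
      Cfsg.centralChar ((φ : G ⧸ P → ℂ) ∘ QuotientGroup.mk) g =
      (((Subgroup.centralizer ({g} : Set G)).relIndex
        ((Subgroup.centralizer ({(QuotientGroup.mk g : G ⧸ P)} : Set (G ⧸ P))).comap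
          (QuotientGroup.mk' P)) : ℕ) : ℂ) *
        Cfsg.centralChar (φ : G ⧸ P → ℂ) (QuotientGroup.mk g) :=
    fun φ g => h7_centralChar_inflate P (φ : G ⧸ P → ℂ) g
  refine ⟨?_, ?_⟩
  · intro χ ψ
    constructor
    · intro h g
      rw [hinfl χ g, hinfl ψ g, ← mul_sub]
      exact h7_memLocalIdeal_mul_left hPr (h7_memLocalRing_natCast hPr _) (h _)
    · intro h
      apply h7_sameBlock_of_pregular hM χ ψ
      intro x hx
      obtain ⟨g, rfl, hg⟩ := h7_lift_pregular p P hP x hx
      have hgc : g ∈ Subgroup.centralizer (P : Set G) :=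
        h7_pregular_mem_of_index_pow p (Subgroup.centralizer (P : Set G)) hC g hg
      have hle := h7_comap_centralizer_le p P hP g hg hgc
      have hone : (Subgroup.centralizer ({g} : Set G)).relIndex
          ((Subgroup.centralizer ({(QuotientGroup.mk g : G ⧸ P)} : Set (G ⧸ P))).comap
            (QuotientGroup.mk' P)) = 1 := Subgroup.relIndex_eq_one.mpr hle
      have h1 := h g
      rw [hinfl χ g, hinfl ψ g, hone, Nat.cast_one, one_mul, one_mul] at h1
      exact h1
  · rintro B ⟨χ₀, rfl⟩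
    obtain ⟨θ, hθ, hker⟩ := h7_dominance hM P hP χ₀
    obtain ⟨φ, hφ⟩ := h7_deflate P θ hker
    refine ⟨φ, θ, hθ, ?_⟩
    funext g
    exact (hφ g).symm

end Cfsg.Agent.S0941
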