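import Cfsg.Statements.S0923
import Cfsg.Agent.Lib.helper7.SecondMain
import Cfsg.Agent.S0919
import Cfsg.Agent.S0922

set_option autoImplicit false
open Cfsg

namespace Cfsg.Agent.S0923

open Cfsg.Agent.Lib.helper7 in
theorem ppart_unique {G : Type*} [Group G] [Finite G] (p : ℕ) [hp : Fact p.Prime] (x y z : G)
    (hx : ∃ k : ℕ, orderOf x = p ^ k) (hy : ¬ p ∣ orderOf y) (hc : Commute x y)
    (hz : Cfsg.IsPPart p (x * y) z) : z = x := by
  obtain ⟨r, u, hru, hcomm, hr, hu, hrs, hus⟩ :=
    Cfsg.Agent.Lib.helper2.pp_exists p hp.out (x * y)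
  obtain ⟨y', hzy', hc', hzp, hy'⟩ := hz
  have h1 := Cfsg.Agent.Lib.helper2.pp_unique p hp.out (x * y) r u y x hru hrs hus hr hu
    hc.eq.symm hc.symm hy hx
  have h2 := Cfsg.Agent.Lib.helper2.pp_unique p hp.out (x * y) r u y' z hru hrs hus hr hu
    (by rw [← hc'.eq]; exact hzy') hc'.symm hy' hzp
  rw [h1.2, h2.2]


/-- Brauer's Second Main Theorem, in terms of ordinary characters. Let x be a p-element of the finite group G with centralizer C, let χ lie in the block B of G and let b be a block of C that does not induce B (relative to a maximal ideal M of the algebraic integers containing p). Form the class function ϑ(c) = χ(x c) on C and its b-part (the sum over ψ ∈ b of the inner product of ϑ with ψ, times ψ). Then the b-part of ϑ vanishes at every p-regular element of C. (Equivalently, the generalized decomposition numbers of χ with respect to b are zero.) -/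
theorem result {G : Type*} [Group G] [Finite G] (p : ℕ) [Fact p.Prime] (M : Ideal Cfsg.AlgInt) (hM : Cfsg.IsPModular p M) (x : G) (hx : ∃ k : ℕ, orderOf x = p ^ k) (B : Set (Cfsg.IrrCharacter G)) (hB : Cfsg.IsPBlock M B) (χ : Cfsg.IrrCharacter G) (hχ : χ ∈ B) (b : Set (Cfsg.IrrCharacter (Subgroup.centralizer ({x} : Set G)))) (hb : Cfsg.IsPBlock M b) (hnot : ¬ Cfsg.IsInducedBlock M (Subgroup.centralizer ({x} : Set G)) b B) (y : Subgroup.centralizer ({x} : Set G)) (hy : ¬ p ∣ orderOf y) : Cfsg.blockPart b (fun c : Subgroup.centralizer ({x} : Set G) => (χ : G → ℂ) (x * (c : G))) y = 0 := by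
  classical
  haveI : Fintype G := Fintype.ofFinite G
  haveI : Fintype (Cfsg.IrrCharacter G) := Fintype.ofFinite _
  have hPr := hM.2.1.isPrime
  have hxC : x ∈ Subgroup.centralizer ({x} : Set G) :=
    Subgroup.mem_centralizer_singleton_iff.mpr rfl
  have hP : IsPGroup p (Subgroup.zpowers x) := by
    obtain ⟨k, hk⟩ := hx
    apply IsPGroup.of_card (n := k)
    rw [Nat.card_zpowers, hk]
  have hPC : Subgroup.zpowers x ≤ Subgroup.centralizer ({x} : Set G) :=
    (Subgroup.zpowers_le).mpr hxC
  have hCC : Subgroup.centralizer ((Subgroup.zpowers x : Subgroup G) : Set G) ≤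
      Subgroup.centralizer ({x} : Set G) := by
    apply Subgroup.centralizer_le
    intro t ht
    rw [Set.mem_singleton_iff] at ht
    rw [ht]
    exact Subgroup.mem_zpowers x
  have hCC' : Subgroup.centralizer ({x} : Set G) ≤
      Subgroup.centralizer ((Subgroup.zpowers x : Subgroup G) : Set G) := by
    intro c hc
    rw [Subgroup.mem_centralizer_iff]
    intro t ht
    obtain ⟨n, rfl⟩ := Subgroup.mem_zpowers_iff.mp ht
    have h1 : c * x = x * c := Subgroup.mem_centralizer_singleton_iff.mp hc
    have h2 : Commute c x := h1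
    exact ((h2.zpow_right n).eq).symm
  have hCN : Subgroup.centralizer ({x} : Set G) ≤
      Subgroup.normalizer ((Subgroup.zpowers x : Subgroup G) : Set G) :=
    hCC'.trans (Subgroup.centralizer_le_normalizer _)
  obtain ⟨B', hB'⟩ := Cfsg.Agent.S0919.result p M hM (Subgroup.zpowers x)
    (Subgroup.centralizer ({x} : Set G)) hP hPC hCC hCN b hb
  have hne : χ ∉ B' := by
    intro hχ'
    apply hnot
    obtain ⟨χ₁, rfl⟩ := hB
    obtain ⟨χ₂, h2⟩ := hB'.2.1
    have e1 := Cfsg.Agent.Lib.helper7.h7_blockOf_eq_of_mem hPr χ₁ χ hχ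
    have e2 : B' = Cfsg.blockOf M (χ : G → ℂ) := by
      rw [h2] at hχ' ⊢
      exact Cfsg.Agent.Lib.helper7.h7_blockOf_eq_of_mem hPr χ₂ χ hχ'
    rw [e1, ← e2]
    exact hB'
  have hyx : Commute x (y : G) := by
    have := Subgroup.mem_centralizer_singleton_iff.mp y.2
    exact this.symm
  have hy' : ¬ p ∣ orderOf (y : G) := by
    rw [Subgroup.orderOf_coe]
    exact hy
  have key := Cfsg.Agent.S0922.result p M hM (Subgroup.centralizer ({x} : Set G)) b B' hB'
    (⟨x, hxC⟩ * y) (by
      intro z hz
      have : z = x := ppart_unique p x (y : G) z hx hy' hyx (by simpa using hz)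
      rw [this]) χ hne
  rw [Cfsg.Agent.Lib.helper7.h7_blockPart_eq b _ (by
    intro g h
    simp only [Subgroup.coe_mul, Subgroup.coe_inv]
    have hh : Commute x (h : G) := by
      have := Subgroup.mem_centralizer_singleton_iff.mp h.2
      exact this.symm
    have e : x * ((h : G) * (g : G) * (h : G)⁻¹) = (h : G) * (x * (g : G)) * (h : G)⁻¹ := by
      rw [← mul_assoc, ← mul_assoc, hh.eq, mul_assoc (h : G) x (g : G)]
    rw [e]
    exact Cfsg.Agent.Lib.Helper25.irr_conj_invariant χ _ _) y]
  rw [← key]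
  congr 1
  funext k
  congr 2
  simp only [Subgroup.coe_mul]
  have hk : Commute x (k : G) := by
    have := Subgroup.mem_centralizer_singleton_iff.mp k.2
    exact this.symm
  rw [← mul_assoc, hk.eq, mul_assoc]

end Cfsg.Agent.S0923
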