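import Cfsg.Statements.S0924
import Cfsg.Agent.Lib.helper7.SecondMain2
import Cfsg.Agent.S0906
import Cfsg.Agent.S0923

set_option autoImplicit false
open Cfsg

namespace Cfsg.Agent.S0924

/-- Let χ be an irreducible character of the finite group G and g ∈ G, and fix a maximal ideal M of the algebraic integers containing the prime p. If the p-part of g is contained in no defect group of the block of χ, then χ g = 0. -/
theorem result {G : Type*} [Group G] [Finite G] (p : ℕ) [Fact p.Prime] (M : Ideal Cfsg.AlgInt) (hM : Cfsg.IsPModular p M) (χ : Cfsg.IrrCharacter G) (g x : G) (hx : Cfsg.IsPPart p g x) (hD : ∀ D : Subgroup G, Cfsg.IsDefectGroup p M (Cfsg.blockOf M (χ : G → ℂ)) D → x ∉ D) : (χ : G → ℂ) g = 0 := by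
  classical
  haveI : Fintype G := Fintype.ofFinite G
  haveI : Fintype (Cfsg.IrrCharacter G) := Fintype.ofFinite _
  have hPr := hM.2.1.isPrime
  obtain ⟨y, hxy, hc, hxp, hyp⟩ := hx
  letI : Fintype (Subgroup.centralizer ({x} : Set G)) := Fintype.ofFinite _
  haveI : Fintype (Cfsg.IrrCharacter (Subgroup.centralizer ({x} : Set G))) := Fintype.ofFinite _
  have hxC : x ∈ Subgroup.centralizer ({x} : Set G) :=
    Subgroup.mem_centralizer_singleton_iff.mpr rfl
  have hyC : y ∈ Subgroup.centralizer ({x} : Set G) :=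
    Subgroup.mem_centralizer_singleton_iff.mpr hc.eq.symm
  have hχB : χ ∈ Cfsg.blockOf M (χ : G → ℂ) := Cfsg.Agent.Lib.helper7.h7_sameBlock_refl hPr _
  obtain ⟨ϑ, hϑdef⟩ : ∃ ϑ : Subgroup.centralizer ({x} : Set G) → ℂ,
      ϑ = fun c : Subgroup.centralizer ({x} : Set G) => (χ : G → ℂ) (x * (c : G)) := ⟨_, rfl⟩
  have hϑ : ∀ g h : Subgroup.centralizer ({x} : Set G), ϑ (h * g * h⁻¹) = ϑ g := by
    intro g h
    rw [hϑdef]
    simp only [Subgroup.coe_mul, Subgroup.coe_inv]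
    have hh : Commute x (h : G) := by
      have := Subgroup.mem_centralizer_singleton_iff.mp h.2
      exact this.symm
    have e : x * ((h : G) * (g : G) * (h : G)⁻¹) = (h : G) * (x * (g : G)) * (h : G)⁻¹ := by
      rw [← mul_assoc, ← mul_assoc, hh.eq, mul_assoc (h : G) x (g : G)]
    rw [e]
    exact Cfsg.Agent.Lib.Helper25.irr_conj_invariant χ _ _
  have hexp := Cfsg.Agent.Lib.Helper25.classFunction_expansion ϑ hϑ
  have h1 : (χ : G → ℂ) g = ∑ ψ : Cfsg.IrrCharacter (Subgroup.centralizer ({x} : Set G)),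
      Cfsg.classInner ϑ (ψ : Subgroup.centralizer ({x} : Set G) → ℂ) *
        (ψ : Subgroup.centralizer ({x} : Set G) → ℂ) ⟨y, hyC⟩ := by
    have h0 : (χ : G → ℂ) g = ϑ ⟨y, hyC⟩ := by
      rw [hϑdef, ← hxy]
    rw [h0]
    conv_lhs => rw [hexp]
    rw [Finset.sum_apply]
    refine Finset.sum_congr rfl fun ψ _ => ?_
    simp only [Pi.smul_apply, smul_eq_mul]
  rw [h1]
  apply Cfsg.Agent.Lib.helper7.h7_sum_eq_zero_of_blocks hPr
  intro b hb
  have hnot : ¬ Cfsg.IsInducedBlock M (Subgroup.centralizer ({x} : Set G)) b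
      (Cfsg.blockOf M (χ : G → ℂ)) := by
    intro hind
    obtain ⟨ξ₀, rfl⟩ := hb
    have hξ₀ : ξ₀ ∈ Cfsg.blockOf M (ξ₀ : Subgroup.centralizer ({x} : Set G) → ℂ) :=
      Cfsg.Agent.Lib.helper7.h7_sameBlock_refl hPr _
    obtain ⟨d, hd⟩ := Cfsg.Agent.S0906.result p M hM
      (Cfsg.blockOf M (ξ₀ : Subgroup.centralizer ({x} : Set G) → ℂ)) ⟨ξ₀, rfl⟩
    obtain ⟨P⟩ : Nonempty (Sylow p (Subgroup.centralizer ({d} : Set _))) := inferInstance
    have hDb : Cfsg.IsDefectGroup p M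
        (Cfsg.blockOf M (ξ₀ : Subgroup.centralizer ({x} : Set G) → ℂ))
        ((P : Subgroup (Subgroup.centralizer ({d} : Set _))).map
          (Subgroup.centralizer ({d} : Set _)).subtype) := ⟨d, hd, P, rfl⟩
    have hxD := Cfsg.Agent.Lib.helper7.h7_central_pelement_mem_defect p M hM
      (⟨x, hxC⟩ : Subgroup.centralizer ({x} : Set G)) (by
        intro c
        apply Subtype.ext
        simp only [Subgroup.coe_mul]
        exact Subgroup.mem_centralizer_singleton_iff.mp c.2) (by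
        rw [Subgroup.orderOf_mk]
        exact hxp) _ ⟨ξ₀, rfl⟩ _ hDb
    obtain ⟨E, hE, hle⟩ := Cfsg.Agent.Lib.helper7.h7_induced_defect_le hM
      (Subgroup.centralizer ({x} : Set G)) ξ₀ χ (hind.2.2 ξ₀ hξ₀ χ hχB) _ hDb
    exact hD E hE (hle ⟨⟨x, hxC⟩, hxD, rfl⟩)
  have hy' : ¬ p ∣ orderOf (⟨y, hyC⟩ : Subgroup.centralizer ({x} : Set G)) := by
    rw [Subgroup.orderOf_mk]
    exact hyp
  have h2 := Cfsg.Agent.S0923.result p M hM x hxp (Cfsg.blockOf M (χ : G → ℂ)) ⟨χ, rfl⟩ χ hχB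
    b hb hnot ⟨y, hyC⟩ hy'
  unfold Cfsg.blockPart at h2
  rw [hϑdef]
  exact h2

end Cfsg.Agent.S0924
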