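import Cfsg.Statements.S0147
import Mathlib
import Cfsg.Prelude.Def_Characters
import Cfsg.Agent.Lib.helper7.Induction

set_option autoImplicit false
open Cfsg

namespace Cfsg.Agent.S0147

open Cfsg.Agent.Lib.helper7

theorem ext_subgroupOf {G : Type*} [Group G] (H K : Subgroup G) (θ : H → ℂ) (k : K) :
    Cfsg.extendByZero (H.subgroupOf K) (fun x => θ ⟨(x : K), Subgroup.mem_subgroupOf.mp x.2⟩) k
      = Cfsg.extendByZero H θ (k : G) := by
  by_cases hk : (k : G) ∈ H
  · rw [h7_extendByZero_mem H θ _ hk, h7_extendByZero_mem _ _ k (Subgroup.mem_subgroupOf.mpr hk)]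
  · rw [h7_extendByZero_not_mem H θ _ hk, h7_extendByZero_not_mem _ _ k (fun h => hk (Subgroup.mem_subgroupOf.mp h))]



/-- Transitivity of induction: inducing from H to K and then from K to G is the same as inducing from H to G. -/
theorem result {G : Type*} [Group G] [Fintype G] (H K : Subgroup G) [Fintype K] (hHK : H ≤ K) (θ : H → ℂ) : Cfsg.indFun K (Cfsg.indFun (H.subgroupOf K) (fun x => θ ⟨(x : K), Subgroup.mem_subgroupOf.mp x.2⟩)) = Cfsg.indFun H θ := by
  classical
  funext g
  have hcard : Nat.card (H.subgroupOf K) = Nat.card H :=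
    Nat.card_congr (Subgroup.subgroupOfEquivOfLe hHK).toEquiv
  have hKne : (Nat.card K : ℂ) ≠ 0 := by
    exact_mod_cast (Nat.card_pos (α := K)).ne'
  -- extension of inner induced function
  have hext : ∀ z : G, Cfsg.extendByZero K (Cfsg.indFun (H.subgroupOf K) (fun x => θ ⟨(x : K), Subgroup.mem_subgroupOf.mp x.2⟩)) z
      = (Nat.card H : ℂ)⁻¹ * ∑ y : K, Cfsg.extendByZero H θ ((y : G)⁻¹ * z * y) := by
    intro z
    by_cases hz : z ∈ K
    · rw [h7_extendByZero_mem K _ z hz]
      unfold Cfsg.indFun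
      rw [hcard]
      congr 1
      refine Finset.sum_congr rfl fun y _ => ?_
      rw [ext_subgroupOf H K θ]
      rfl
    · rw [h7_extendByZero_not_mem K _ z hz]
      symm
      rw [Finset.sum_eq_zero, mul_zero]
      intro y _
      apply h7_extendByZero_not_mem
      intro h
      apply hz
      have h1 : (y : G)⁻¹ * z * y ∈ K := hHK h
      have h2 : z = (y : G) * ((y : G)⁻¹ * z * y) * (y : G)⁻¹ := by group
      rw [h2]
      exact K.mul_mem (K.mul_mem y.2 h1) (K.inv_mem y.2)
  show (Nat.card K : ℂ)⁻¹ * ∑ x : G, Cfsg.extendByZero K _ (x⁻¹ * g * x) = (Nat.card H : ℂ)⁻¹ * ∑ x : G, Cfsg.extendByZero H θ (x⁻¹ * g * x)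
  simp_rw [hext]
  rw [← Finset.mul_sum, Finset.sum_comm]
  have : ∀ y : K, ∑ x : G, Cfsg.extendByZero H θ ((y : G)⁻¹ * (x⁻¹ * g * x) * y) = ∑ x : G, Cfsg.extendByZero H θ (x⁻¹ * g * x) := by
    intro y
    rw [← Equiv.sum_comp (Equiv.mulRight (y : G)) (fun x => Cfsg.extendByZero H θ (x⁻¹ * g * x))]
    refine Finset.sum_congr rfl fun x _ => ?_
    congr 1
    simp only [Equiv.coe_mulRight, mul_inv_rev]
    group
  rw [Finset.sum_congr rfl (fun y _ => this y), Finset.sum_const, Finset.card_univ, nsmul_eq_mul, ← Nat.card_eq_fintype_card]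
  field_simp

end Cfsg.Agent.S0147
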