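import Cfsg.Statements.S0181
import Mathlib
import Cfsg.Prelude.Def_Characters
import Cfsg.Agent.Lib.Helper25.CharOrth
import Cfsg.Agent.S0139

set_option autoImplicit false
open Cfsg

namespace Cfsg.Agent.S0181

open Cfsg.Agent.Lib.Helper25
open scoped ComplexConjugate

theorem comp_surj_irreducible {G Q : Type*} [Group G] [Group Q] {V : Type*} [AddCommGroup V] [Module ℂ V]
    (σ : Representation ℂ Q V) [σ.IsIrreducible] (π : G →* Q) (hπ : Function.Surjective π) :
    Representation.IsIrreducible (σ.comp π : Representation ℂ G V) := by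
  let e : Subrepresentation σ ≃o Subrepresentation (σ.comp π) :=
    { toFun := fun S => ⟨S.toSubmodule, by
        intro g v hv
        exact S.apply_mem_toSubmodule (π g) hv⟩
      invFun := fun S => ⟨S.toSubmodule, by
        intro x v hv
        obtain ⟨g, rfl⟩ := hπ x
        exact S.apply_mem_toSubmodule g hv⟩
      left_inv := fun S => rfl
      right_inv := fun S => rfl
      map_rel_iff' := Iff.rfl }
  exact e.isSimpleOrder_iff.mp ‹σ.IsIrreducible›

theorem sum_normSq_eq {G : Type*} [Group G] [Fintype G] [Fintype (Cfsg.IrrCharacter G)] (g : G) :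
    ∑ χ : Cfsg.IrrCharacter G, Complex.normSq ((χ : G → ℂ) g) = (Nat.card (Subgroup.centralizer ({g} : Set G)) : ℝ) := by
  classical
  have h := irr_column_orthogonality g g
  rw [if_pos (IsConj.refl g)] at h
  have h2 : ((∑ χ : Cfsg.IrrCharacter G, Complex.normSq ((χ : G → ℂ) g) : ℝ) : ℂ) = ((Nat.card (Subgroup.centralizer ({g} : Set G)) : ℝ) : ℂ) := by
    push_cast
    rw [← h]
    refine Finset.sum_congr rfl fun χ _ => ?_
    rw [Complex.mul_conj]
  exact_mod_cast h2



/-- Let H be a normal subgroup of a finite group G and ρ an irreducible complex representation whose kernel does not contain H. If g commutes with no non-identity element of H, then the character of ρ vanishes at g. -/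
theorem result {G : Type*} [Group G] [Finite G] {V : Type*} [AddCommGroup V] [Module ℂ V] [FiniteDimensional ℂ V] (ρ : Representation ℂ G V) [ρ.IsIrreducible] (H : Subgroup G) [H.Normal] (hker : ∃ h ∈ H, ρ h ≠ LinearMap.id) (g : G) (hg : ∀ h ∈ H, h * g = g * h → h = 1) : ρ.character g = 0 := by
  classical
  have : Fintype G := Fintype.ofFinite G
  have : Fintype (G ⧸ H) := Fintype.ofFinite _
  have : Fintype (Cfsg.IrrCharacter G) := Fintype.ofFinite _
  have : Fintype (Cfsg.IrrCharacter (G ⧸ H)) := Fintype.ofFinite _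
  let π : G →* G ⧸ H := QuotientGroup.mk' H
  have hπ : Function.Surjective π := QuotientGroup.mk'_surjective H
  let infl : Cfsg.IrrCharacter (G ⧸ H) → Cfsg.IrrCharacter G := fun ψ =>
    ⟨fun x => (ψ : G ⧸ H → ℂ) (π x), by
      obtain ⟨n, σ, hσ, hψ⟩ := ψ.2
      have := hσ
      refine ⟨n, σ.comp π, comp_surj_irreducible σ π hπ, ?_⟩
      funext x
      rw [← hψ]
      rfl⟩
  have hinfl_inj : Function.Injective infl := by
    intro ψ₁ ψ₂ h
    apply Subtype.ext
    funext q
    obtain ⟨x, rfl⟩ := hπ q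
    exact congrFun (congrArg Subtype.val h) x
  -- centralizer comparison
  have hcent : Nat.card (Subgroup.centralizer ({g} : Set G)) ≤ Nat.card (Subgroup.centralizer ({π g} : Set (G ⧸ H))) := by
    let f : Subgroup.centralizer ({g} : Set G) → Subgroup.centralizer ({π g} : Set (G ⧸ H)) := fun c =>
      ⟨π c, by
        have hc := c.2
        rw [Subgroup.mem_centralizer_singleton_iff] at hc ⊢
        rw [← map_mul, ← map_mul, hc]⟩
    apply Nat.card_le_card_of_injective f
    intro c c' hcc
    have h1 : π (c : G) = π (c' : G) := congrArg Subtype.val hcc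
    have h2 : (c : G)⁻¹ * (c' : G) ∈ H := by
      rw [← QuotientGroup.eq]
      exact h1
    have hc := c.2
    have hc' := c'.2
    rw [Subgroup.mem_centralizer_singleton_iff] at hc hc'
    have h3 : ((c : G)⁻¹ * (c' : G)) * g = g * ((c : G)⁻¹ * (c' : G)) := by
      have hci : (c : G)⁻¹ * g = g * (c : G)⁻¹ := by
        rw [eq_mul_inv_iff_mul_eq, mul_assoc, ← hc, ← mul_assoc, inv_mul_cancel, one_mul]
      rw [mul_assoc, hc', ← mul_assoc, hci, mul_assoc]
    have h4 := hg _ h2 h3
    apply Subtype.ext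
    rw [inv_mul_eq_one] at h4
    exact h4
  -- the character as an element of Irr G
  let χ₀ : Cfsg.IrrCharacter G := ⟨ρ.character, isIrrCharacter_of_irreducible ρ⟩
  have hnot : χ₀ ∉ Finset.univ.image infl := by
    intro hmem
    obtain ⟨ψ, _, hψ⟩ := Finset.mem_image.mp hmem
    obtain ⟨h, hh, hne⟩ := hker
    apply hne
    rw [← Cfsg.Agent.S0139.result ρ h, ← Representation.char_one (ρ := ρ)]
    have e1 : ρ.character h = (ψ : G ⧸ H → ℂ) (π h) := (congrFun (congrArg Subtype.val hψ) h).symm
    have e2 : ρ.character 1 = (ψ : G ⧸ H → ℂ) (π 1) := (congrFun (congrArg Subtype.val hψ) 1).symm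
    have e3 : π h = 1 := (QuotientGroup.eq_one_iff h).mpr hh
    rw [e1, e2, e3, map_one]
  have hsumG := sum_normSq_eq (G := G) g
  have hsumQ := sum_normSq_eq (G := G ⧸ H) (π g)
  have himage : ∑ χ ∈ Finset.univ.image infl, Complex.normSq ((χ : G → ℂ) g) =
      ∑ ψ : Cfsg.IrrCharacter (G ⧸ H), Complex.normSq ((ψ : G ⧸ H → ℂ) (π g)) := by
    rw [Finset.sum_image (fun p _ q _ h => hinfl_inj h)]
  have hle : ∑ χ ∈ insert χ₀ (Finset.univ.image infl), Complex.normSq ((χ : G → ℂ) g) ≤
      ∑ χ : Cfsg.IrrCharacter G, Complex.normSq ((χ : G → ℂ) g) :=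
    Finset.sum_le_sum_of_subset_of_nonneg (Finset.subset_univ _) (fun _ _ _ => Complex.normSq_nonneg _)
  rw [Finset.sum_insert hnot, himage, hsumG, hsumQ] at hle
  have hcent' : (Nat.card (Subgroup.centralizer ({g} : Set G)) : ℝ) ≤ (Nat.card (Subgroup.centralizer ({π g} : Set (G ⧸ H))) : ℝ) := by
    exact_mod_cast hcent
  have h0 : Complex.normSq (ρ.character g) ≤ 0 := by
    have : Complex.normSq ((χ₀ : G → ℂ) g) = Complex.normSq (ρ.character g) := rfl
    linarith
  exact Complex.normSq_eq_zero.mp (le_antisymm h0 (Complex.normSq_nonneg _))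

end Cfsg.Agent.S0181
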