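import Cfsg.Statements.S2433

import Cfsg.Agent.Lib.helper7.Induction
import Cfsg.Agent.Lib.helper15.SL2Nonsplit
import Cfsg.Agent.Lib.helper15.SL2Card
set_option autoImplicit false
open Cfsg

namespace Cfsg.Agent.S2433


open Cfsg.Agent.Lib.helper15 Cfsg.Agent.Lib.helper7

section Helpers

variable {F : Type*} [Field F]

abbrev Bor (F : Type*) [Field F] : Subgroup (Matrix.SpecialLinearGroup (Fin 2) F) :=
  (Cfsg.upperTriangularGL 2 F).comap Matrix.SpecialLinearGroup.toGL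

theorem mem_Bor (y : Matrix.SpecialLinearGroup (Fin 2) F) :
    y ∈ Bor F ↔ (y : Matrix (Fin 2) (Fin 2) F) 1 0 = 0 := by
  rw [Subgroup.mem_comap]
  show ((Matrix.SpecialLinearGroup.toGL y : GL (Fin 2) F) : Matrix (Fin 2) (Fin 2) F).BlockTriangular id ↔ _
  rw [Matrix.SpecialLinearGroup.coe_GL_coe_matrix]
  constructor
  · intro h
    exact h (show id (0 : Fin 2) < id 1 by decide)
  · intro h i j hij
    fin_cases i <;> fin_cases j
    · exact absurd hij (by decide)
    · exact absurd hij (by decide)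
    · exact h
    · exact absurd hij (by decide)

theorem ext0 (α : F → ℂ) (y : Matrix.SpecialLinearGroup (Fin 2) F) [Decidable ((y : Matrix (Fin 2) (Fin 2) F) 1 0 = 0)] :
    Cfsg.extendByZero (Bor F) (fun b => α (((b : Matrix.SpecialLinearGroup (Fin 2) F) : Matrix (Fin 2) (Fin 2) F) 0 0)) y =
      if (y : Matrix (Fin 2) (Fin 2) F) 1 0 = 0 then α ((y : Matrix (Fin 2) (Fin 2) F) 0 0) else 0 := by
  split_ifs with h
  · rw [h7_extendByZero_mem _ _ y ((mem_Bor y).mpr h)]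
  · rw [h7_extendByZero_not_mem _ _ y (fun hy => h ((mem_Bor y).mp hy))]

theorem conj_entry10 (x g : Matrix.SpecialLinearGroup (Fin 2) F) :
    ((x⁻¹ * g * x : Matrix.SpecialLinearGroup (Fin 2) F) : Matrix (Fin 2) (Fin 2) F) 1 0 =
      (x : Matrix (Fin 2) (Fin 2) F) 0 0 ^ 2 * (g : Matrix (Fin 2) (Fin 2) F) 1 0 +
      (x : Matrix (Fin 2) (Fin 2) F) 0 0 * (x : Matrix (Fin 2) (Fin 2) F) 1 0 *
        ((g : Matrix (Fin 2) (Fin 2) F) 1 1 - (g : Matrix (Fin 2) (Fin 2) F) 0 0) -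
      (x : Matrix (Fin 2) (Fin 2) F) 1 0 ^ 2 * (g : Matrix (Fin 2) (Fin 2) F) 0 1 := by
  rw [Matrix.SpecialLinearGroup.coe_mul, Matrix.SpecialLinearGroup.coe_mul,
    Matrix.SpecialLinearGroup.coe_inv, Matrix.adjugate_fin_two]
  simp only [Matrix.mul_apply, Fin.sum_univ_two, Matrix.of_apply, Matrix.cons_val_zero,
    Matrix.cons_val_one, Matrix.cons_val', Matrix.empty_val', Matrix.cons_val_fin_one]
  ring

theorem conj_entry00 (x g : Matrix.SpecialLinearGroup (Fin 2) F) :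
    ((x⁻¹ * g * x : Matrix.SpecialLinearGroup (Fin 2) F) : Matrix (Fin 2) (Fin 2) F) 0 0 =
      (x : Matrix (Fin 2) (Fin 2) F) 1 1 * ((g : Matrix (Fin 2) (Fin 2) F) 0 0 * (x : Matrix (Fin 2) (Fin 2) F) 0 0 +
        (g : Matrix (Fin 2) (Fin 2) F) 0 1 * (x : Matrix (Fin 2) (Fin 2) F) 1 0) -
      (x : Matrix (Fin 2) (Fin 2) F) 0 1 * ((g : Matrix (Fin 2) (Fin 2) F) 1 0 * (x : Matrix (Fin 2) (Fin 2) F) 0 0 +
        (g : Matrix (Fin 2) (Fin 2) F) 1 1 * (x : Matrix (Fin 2) (Fin 2) F) 1 0) := by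
  rw [Matrix.SpecialLinearGroup.coe_mul, Matrix.SpecialLinearGroup.coe_mul,
    Matrix.SpecialLinearGroup.coe_inv, Matrix.adjugate_fin_two]
  simp only [Matrix.mul_apply, Fin.sum_univ_two, Matrix.of_apply, Matrix.cons_val_zero,
    Matrix.cons_val_one, Matrix.cons_val', Matrix.empty_val', Matrix.cons_val_fin_one]
  ring

theorem det_entries (x : Matrix.SpecialLinearGroup (Fin 2) F) :
    (x : Matrix (Fin 2) (Fin 2) F) 0 0 * (x : Matrix (Fin 2) (Fin 2) F) 1 1 -
      (x : Matrix (Fin 2) (Fin 2) F) 0 1 * (x : Matrix (Fin 2) (Fin 2) F) 1 0 = 1 := by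
  have := x.2
  rw [Matrix.det_fin_two] at this
  exact this

end Helpers

section Fin

variable {F : Type*} [Field F] [Fintype F] [DecidableEq F]

theorem sum_ind_B (c : ℂ) :
    ∑ x : Matrix.SpecialLinearGroup (Fin 2) F,
      (if (x : Matrix (Fin 2) (Fin 2) F) 1 0 = 0 then c else 0) = (Nat.card (Bor F) : ℂ) * c := by
  rw [← Finset.sum_filter, Finset.sum_const, nsmul_eq_mul]
  congr 2
  rw [← Fintype.card_subtype, ← Nat.card_eq_fintype_card]
  apply Nat.card_congr
  exact ⟨fun x => ⟨x.1, (mem_Bor x.1).mpr x.2⟩, fun y => ⟨y.1, (mem_Bor y.1).mp y.2⟩,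
    fun _ => rfl, fun _ => rfl⟩

def wSL : Matrix.SpecialLinearGroup (Fin 2) F := mkSL !![0, -1; 1, 0] (by simp [Matrix.det_fin_two])

theorem wSL_mul_entry (x : Matrix.SpecialLinearGroup (Fin 2) F) :
    ((wSL * x : Matrix.SpecialLinearGroup (Fin 2) F) : Matrix (Fin 2) (Fin 2) F) 0 0 =
      -(x : Matrix (Fin 2) (Fin 2) F) 1 0 := by
  rw [Matrix.SpecialLinearGroup.coe_mul, wSL, mkSL_coe]
  simp [Matrix.mul_apply, Fin.sum_univ_two]

theorem sum_ind_wB (c : ℂ) :
    ∑ x : Matrix.SpecialLinearGroup (Fin 2) F,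
      (if (x : Matrix (Fin 2) (Fin 2) F) 0 0 = 0 then c else 0) = (Nat.card (Bor F) : ℂ) * c := by
  rw [← sum_ind_B c, ← Equiv.sum_comp (Equiv.mulLeft (wSL : Matrix.SpecialLinearGroup (Fin 2) F))]
  apply Finset.sum_congr rfl
  intro x _
  rw [Equiv.coe_mulLeft, wSL_mul_entry]
  simp only [neg_eq_zero]

noncomputable def borEquiv : Bor F ≃ Fˣ × F where
  toFun b := (Units.mk0 ((b.1 : Matrix (Fin 2) (Fin 2) F) 0 0) (by
    intro h
    have h1 := det_entries b.1
    rw [h, (mem_Bor b.1).mp b.2] at h1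
    simp at h1), (b.1 : Matrix (Fin 2) (Fin 2) F) 0 1)
  invFun ac := ⟨mkSL !![(ac.1 : F), ac.2; 0, ((ac.1⁻¹ : Fˣ) : F)] (by simp [Matrix.det_fin_two]),
    (mem_Bor _).mpr (by rw [mkSL_coe]; simp)⟩
  left_inv b := by
    apply Subtype.ext
    apply Subtype.ext
    rw [mkSL_coe]
    have h10 := (mem_Bor b.1).mp b.2
    have h1 := det_entries b.1
    rw [h10, mul_zero, sub_zero] at h1
    rw [m2_eq_iff]
    refine ⟨by simp, by simp, by simp [h10], ?_⟩
    simp only [Matrix.of_apply, Matrix.cons_val', Matrix.cons_val_one, Matrix.cons_val_fin_one,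
      Units.val_inv_eq_inv_val, Units.val_mk0]
    exact (eq_inv_of_mul_eq_one_right h1).symm
  right_inv ac := by
    apply Prod.ext
    · apply Units.ext
      simp [mkSL_coe]
    · simp [mkSL_coe]

theorem card_Bor : Nat.card (Bor F) = (Fintype.card F - 1) * Fintype.card F := by
  rw [Nat.card_congr borEquiv, Nat.card_prod, Nat.card_units, Nat.card_eq_fintype_card]

theorem card_G_eq : (Nat.card (Matrix.SpecialLinearGroup (Fin 2) F) : ℂ) =
    ((Fintype.card F : ℂ) + 1) * (Nat.card (Bor F) : ℂ) := by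
  have hq : 2 ≤ Fintype.card F := Fintype.one_lt_card
  rw [card_SL2, card_Bor]
  obtain ⟨k, hk⟩ : ∃ k, Fintype.card F = k + 1 := ⟨Fintype.card F - 1, by omega⟩
  rw [hk]
  simp only [Nat.add_sub_cancel]
  have e : (k + 1) ^ 2 - 1 = k * (k + 1 + 1) := by
    have : (k + 1) ^ 2 = k * (k + 1 + 1) + 1 := by ring
    rw [this, Nat.add_sub_cancel]
  rw [e]
  push_cast
  ring

theorem indFun_eq (α : F → ℂ) (g : Matrix.SpecialLinearGroup (Fin 2) F) :
    Cfsg.indFun (Bor F) (fun b => α (((b : Matrix.SpecialLinearGroup (Fin 2) F) : Matrix (Fin 2) (Fin 2) F) 0 0)) g =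
      (Nat.card (Bor F) : ℂ)⁻¹ * ∑ x : Matrix.SpecialLinearGroup (Fin 2) F,
        (if ((x⁻¹ * g * x : Matrix.SpecialLinearGroup (Fin 2) F) : Matrix (Fin 2) (Fin 2) F) 1 0 = 0
          then α (((x⁻¹ * g * x : Matrix.SpecialLinearGroup (Fin 2) F) : Matrix (Fin 2) (Fin 2) F) 0 0)
          else 0) := by
  unfold Cfsg.indFun
  congr 1
  apply Finset.sum_congr rfl
  intro x _
  exact ext0 α _

theorem card_Bor_ne_zero : (Nat.card (Bor F) : ℂ) ≠ 0 := by
  have : 0 < Nat.card (Bor F) := Nat.card_pos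
  exact_mod_cast this.ne'

end Fin

section Main

theorem values {F : Type*} [Field F] [Fintype F] [DecidableEq F] (α : MulChar F ℂ) (g : Matrix.SpecialLinearGroup (Fin 2) F) :
    ((g : Matrix (Fin 2) (Fin 2) F) 0 1 = 0 → (g : Matrix (Fin 2) (Fin 2) F) 1 0 = 0 → (g : Matrix (Fin 2) (Fin 2) F) 0 0 ^ 2 ≠ 1 →
      (Cfsg.indFun ((Cfsg.upperTriangularGL 2 F).comap Matrix.SpecialLinearGroup.toGL) (fun b => α (((b : Matrix.SpecialLinearGroup (Fin 2) F) : Matrix (Fin 2) (Fin 2) F) 0 0))) g = α ((g : Matrix (Fin 2) (Fin 2) F) 0 0) + α ((g : Matrix (Fin 2) (Fin 2) F) 1 1)) ∧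
    ((∀ (c : F) (v : Fin 2 → F), v ≠ 0 → (g : Matrix (Fin 2) (Fin 2) F).mulVec v ≠ c • v) → (Cfsg.indFun ((Cfsg.upperTriangularGL 2 F).comap Matrix.SpecialLinearGroup.toGL) (fun b => α (((b : Matrix.SpecialLinearGroup (Fin 2) F) : Matrix (Fin 2) (Fin 2) F) 0 0))) g = 0) ∧
    ((g : Matrix (Fin 2) (Fin 2) F) 1 0 = 0 → (g : Matrix (Fin 2) (Fin 2) F) 0 0 = (g : Matrix (Fin 2) (Fin 2) F) 1 1 → (g : Matrix (Fin 2) (Fin 2) F) 0 1 ≠ 0 →
      (Cfsg.indFun ((Cfsg.upperTriangularGL 2 F).comap Matrix.SpecialLinearGroup.toGL) (fun b => α (((b : Matrix.SpecialLinearGroup (Fin 2) F) : Matrix (Fin 2) (Fin 2) F) 0 0))) g = α ((g : Matrix (Fin 2) (Fin 2) F) 0 0)) ∧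
    ((g : Matrix (Fin 2) (Fin 2) F) 0 1 = 0 → (g : Matrix (Fin 2) (Fin 2) F) 1 0 = 0 → (g : Matrix (Fin 2) (Fin 2) F) 0 0 = (g : Matrix (Fin 2) (Fin 2) F) 1 1 →
      (Cfsg.indFun ((Cfsg.upperTriangularGL 2 F).comap Matrix.SpecialLinearGroup.toGL) (fun b => α (((b : Matrix.SpecialLinearGroup (Fin 2) F) : Matrix (Fin 2) (Fin 2) F) 0 0))) g = ((Fintype.card F : ℂ) + 1) * α ((g : Matrix (Fin 2) (Fin 2) F) 0 0)) := by
  have hB0 := card_Bor_ne_zero (F := F)
  have hdetg := det_entries g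
  refine ⟨?_, ?_, ?_, ?_⟩
  · intro h01 h10 ha
    rw [h01, zero_mul, sub_zero] at hdetg
    have hne : (g : Matrix (Fin 2) (Fin 2) F) 1 1 - (g : Matrix (Fin 2) (Fin 2) F) 0 0 ≠ 0 := by
      intro h
      apply ha
      have : (g : Matrix (Fin 2) (Fin 2) F) 1 1 = (g : Matrix (Fin 2) (Fin 2) F) 0 0 := sub_eq_zero.mp h
      rw [this] at hdetg
      rw [pow_two]
      exact hdetg
    have hpt : ∀ x : Matrix.SpecialLinearGroup (Fin 2) F,
        (if ((x⁻¹ * g * x : Matrix.SpecialLinearGroup (Fin 2) F) : Matrix (Fin 2) (Fin 2) F) 1 0 = 0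
          then α (((x⁻¹ * g * x : Matrix.SpecialLinearGroup (Fin 2) F) : Matrix (Fin 2) (Fin 2) F) 0 0)
          else 0) =
        (if (x : Matrix (Fin 2) (Fin 2) F) 1 0 = 0 then α ((g : Matrix (Fin 2) (Fin 2) F) 0 0) else 0) +
        (if (x : Matrix (Fin 2) (Fin 2) F) 0 0 = 0 then α ((g : Matrix (Fin 2) (Fin 2) F) 1 1) else 0) := by
      intro x
      have hdx := det_entries x
      rw [conj_entry10, conj_entry00, h01, h10]
      by_cases hs : (x : Matrix (Fin 2) (Fin 2) F) 1 0 = 0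
      · have hp : (x : Matrix (Fin 2) (Fin 2) F) 0 0 ≠ 0 := by
          intro hp
          rw [hp, hs] at hdx
          simp at hdx
        rw [if_pos (by rw [hs]; ring), if_pos hs, if_neg hp, add_zero]
        congr 1
        rw [hs] at hdx ⊢
        linear_combination ((g : Matrix (Fin 2) (Fin 2) F) 0 0) * hdx
      · by_cases hp : (x : Matrix (Fin 2) (Fin 2) F) 0 0 = 0
        · rw [if_pos (by rw [hp]; ring), if_neg hs, if_pos hp, zero_add]
          congr 1
          rw [hp] at hdx ⊢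
          linear_combination ((g : Matrix (Fin 2) (Fin 2) F) 1 1) * hdx
        · rw [if_neg, if_neg hs, if_neg hp, add_zero]
          intro h
          have : (x : Matrix (Fin 2) (Fin 2) F) 0 0 * (x : Matrix (Fin 2) (Fin 2) F) 1 0 *
              ((g : Matrix (Fin 2) (Fin 2) F) 1 1 - (g : Matrix (Fin 2) (Fin 2) F) 0 0) = 0 := by
            linear_combination h
          exact mul_ne_zero (mul_ne_zero hp hs) hne this
    rw [indFun_eq, Finset.sum_congr rfl (fun x _ => hpt x), Finset.sum_add_distrib, sum_ind_B,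
      sum_ind_wB, ← mul_add, ← mul_assoc, inv_mul_cancel₀ hB0, one_mul]
  · intro hns
    have hroot := nonsplit_of_no_eigenvector g hns
    have hpt : ∀ x : Matrix.SpecialLinearGroup (Fin 2) F,
        (if ((x⁻¹ * g * x : Matrix.SpecialLinearGroup (Fin 2) F) : Matrix (Fin 2) (Fin 2) F) 1 0 = 0
          then α (((x⁻¹ * g * x : Matrix.SpecialLinearGroup (Fin 2) F) : Matrix (Fin 2) (Fin 2) F) 0 0)
          else 0) = 0 := by
      intro x
      rw [if_neg]
      intro h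
      have hdy := det_entries (x⁻¹ * g * x)
      rw [h, mul_zero, sub_zero] at hdy
      have htr : ((x⁻¹ * g * x : Matrix.SpecialLinearGroup (Fin 2) F) : Matrix (Fin 2) (Fin 2) F).trace =
          (g : Matrix (Fin 2) (Fin 2) F).trace := by
        have := conj_trace x⁻¹ g
        rw [inv_inv] at this
        exact this
      rw [Matrix.trace_fin_two] at htr
      apply hroot (((x⁻¹ * g * x : Matrix.SpecialLinearGroup (Fin 2) F) : Matrix (Fin 2) (Fin 2) F) 0 0)
      rw [← htr]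
      linear_combination (-1 : F) * hdy
    rw [indFun_eq, Finset.sum_congr rfl (fun x _ => hpt x), Finset.sum_const_zero, mul_zero]
  · intro h10 heq h01
    have hpt : ∀ x : Matrix.SpecialLinearGroup (Fin 2) F,
        (if ((x⁻¹ * g * x : Matrix.SpecialLinearGroup (Fin 2) F) : Matrix (Fin 2) (Fin 2) F) 1 0 = 0
          then α (((x⁻¹ * g * x : Matrix.SpecialLinearGroup (Fin 2) F) : Matrix (Fin 2) (Fin 2) F) 0 0)
          else 0) =
        (if (x : Matrix (Fin 2) (Fin 2) F) 1 0 = 0 then α ((g : Matrix (Fin 2) (Fin 2) F) 0 0) else 0) := by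
      intro x
      have hdx := det_entries x
      rw [conj_entry10, conj_entry00, h10, ← heq]
      by_cases hs : (x : Matrix (Fin 2) (Fin 2) F) 1 0 = 0
      · rw [if_pos (by rw [hs]; ring), if_pos hs]
        congr 1
        rw [hs] at hdx ⊢
        linear_combination ((g : Matrix (Fin 2) (Fin 2) F) 0 0) * hdx
      · rw [if_neg, if_neg hs]
        intro h
        have : (x : Matrix (Fin 2) (Fin 2) F) 1 0 ^ 2 * (g : Matrix (Fin 2) (Fin 2) F) 0 1 = 0 := by
          linear_combination -h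
        exact mul_ne_zero (pow_ne_zero 2 hs) h01 this
    rw [indFun_eq, Finset.sum_congr rfl (fun x _ => hpt x), sum_ind_B, ← mul_assoc,
      inv_mul_cancel₀ hB0, one_mul]
  · intro h01 h10 heq
    have hpt : ∀ x : Matrix.SpecialLinearGroup (Fin 2) F,
        (if ((x⁻¹ * g * x : Matrix.SpecialLinearGroup (Fin 2) F) : Matrix (Fin 2) (Fin 2) F) 1 0 = 0
          then α (((x⁻¹ * g * x : Matrix.SpecialLinearGroup (Fin 2) F) : Matrix (Fin 2) (Fin 2) F) 0 0)
          else 0) = α ((g : Matrix (Fin 2) (Fin 2) F) 0 0) := by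
      intro x
      have hdx := det_entries x
      rw [conj_entry10, conj_entry00, h10, h01, ← heq]
      rw [if_pos (by ring)]
      congr 1
      linear_combination ((g : Matrix (Fin 2) (Fin 2) F) 0 0) * hdx
    rw [indFun_eq, Finset.sum_congr rfl (fun x _ => hpt x), Finset.sum_const, Finset.card_univ,
      nsmul_eq_mul, ← Nat.card_eq_fintype_card, card_G_eq]
    field_simp

end Main

/-- Let F be a finite field with q elements, q odd, α a multiplicative character of F, and R(α) the function on SL₂ induced from the linear character b ↦ α(b₁₁) of the upper triangular subgroup. Then R(α) takes the value α(a) + α(a⁻¹) at a diagonal element with entries a, a⁻¹, a² ≠ 1; the value 0 at every element with no eigenvector in F²; the value α(ε) at an upper triangular element with both diagonal entries ε and non-zero upper right entry; and the value (q + 1)α(ε) at the scalar element ε (ε = ±1). -/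
theorem result {F : Type*} [Field F] [Fintype F] [DecidableEq F] (hodd : Odd (Fintype.card F)) (α : MulChar F ℂ) (g : Matrix.SpecialLinearGroup (Fin 2) F) :
    ((g : Matrix (Fin 2) (Fin 2) F) 0 1 = 0 → (g : Matrix (Fin 2) (Fin 2) F) 1 0 = 0 → (g : Matrix (Fin 2) (Fin 2) F) 0 0 ^ 2 ≠ 1 →
      (Cfsg.indFun ((Cfsg.upperTriangularGL 2 F).comap Matrix.SpecialLinearGroup.toGL) (fun b => α (((b : Matrix.SpecialLinearGroup (Fin 2) F) : Matrix (Fin 2) (Fin 2) F) 0 0))) g = α ((g : Matrix (Fin 2) (Fin 2) F) 0 0) + α ((g : Matrix (Fin 2) (Fin 2) F) 1 1)) ∧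
    ((∀ (c : F) (v : Fin 2 → F), v ≠ 0 → (g : Matrix (Fin 2) (Fin 2) F).mulVec v ≠ c • v) → (Cfsg.indFun ((Cfsg.upperTriangularGL 2 F).comap Matrix.SpecialLinearGroup.toGL) (fun b => α (((b : Matrix.SpecialLinearGroup (Fin 2) F) : Matrix (Fin 2) (Fin 2) F) 0 0))) g = 0) ∧
    ((g : Matrix (Fin 2) (Fin 2) F) 1 0 = 0 → (g : Matrix (Fin 2) (Fin 2) F) 0 0 = (g : Matrix (Fin 2) (Fin 2) F) 1 1 → (g : Matrix (Fin 2) (Fin 2) F) 0 1 ≠ 0 →
      (Cfsg.indFun ((Cfsg.upperTriangularGL 2 F).comap Matrix.SpecialLinearGroup.toGL) (fun b => α (((b : Matrix.SpecialLinearGroup (Fin 2) F) : Matrix (Fin 2) (Fin 2) F) 0 0))) g = α ((g : Matrix (Fin 2) (Fin 2) F) 0 0)) ∧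
    ((g : Matrix (Fin 2) (Fin 2) F) 0 1 = 0 → (g : Matrix (Fin 2) (Fin 2) F) 1 0 = 0 → (g : Matrix (Fin 2) (Fin 2) F) 0 0 = (g : Matrix (Fin 2) (Fin 2) F) 1 1 →
      (Cfsg.indFun ((Cfsg.upperTriangularGL 2 F).comap Matrix.SpecialLinearGroup.toGL) (fun b => α (((b : Matrix.SpecialLinearGroup (Fin 2) F) : Matrix (Fin 2) (Fin 2) F) 0 0))) g = ((Fintype.card F : ℂ) + 1) * α ((g : Matrix (Fin 2) (Fin 2) F) 0 0)) := by
  exact values α g

end Cfsg.Agent.S2433
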