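import Cfsg.Statements.S2432

import Cfsg.Agent.S2433
set_option autoImplicit false
open Cfsg

namespace Cfsg.Agent.S2432


open Cfsg.Agent.Lib.helper15 Cfsg.Agent.Lib.helper7 Cfsg.Agent.S2433

open scoped ComplexConjugate

section Helpers

variable {F : Type*} [Field F] [Fintype F] [DecidableEq F]

theorem units_sum (G : F → ℂ) (h0 : G 0 = 0) : ∑ a : Fˣ, G (a : F) = ∑ a : F, G a := by
  rw [← Finset.sum_erase Finset.univ h0]
  refine Finset.sum_bij (fun a _ => (a : F)) ?_ ?_ ?_ ?_
  · intro a _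
    exact Finset.mem_erase.mpr ⟨a.ne_zero, Finset.mem_univ _⟩
  · intro a _ b _ h
    exact Units.ext h
  · intro b hb
    exact ⟨Units.mk0 b (Finset.ne_of_mem_erase hb), Finset.mem_univ _, rfl⟩
  · intro a _
    rfl

def bSL (a : Fˣ) (c : F) : Matrix.SpecialLinearGroup (Fin 2) F :=
  mkSL !![(a : F), c; 0, ((a⁻¹ : Fˣ) : F)] (by simp [Matrix.det_fin_two])

theorem bSL_coe (a : Fˣ) (c : F) : ((bSL a c : Matrix.SpecialLinearGroup (Fin 2) F) :
    Matrix (Fin 2) (Fin 2) F) = !![(a : F), c; 0, ((a⁻¹ : Fˣ) : F)] := mkSL_coe _ _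

theorem borEquiv_symm_coe (a : Fˣ) (c : F) :
    ((borEquiv.symm (a, c) : Bor F) : Matrix.SpecialLinearGroup (Fin 2) F) = bSL a c := rfl

theorem bSL_conj (a : Fˣ) (c : F) (ha : (a : F) ^ 2 ≠ 1) :
    ∃ x : Matrix.SpecialLinearGroup (Fin 2) F, x * bSL a 0 * x⁻¹ = bSL a c := by
  have hd : ((a⁻¹ : Fˣ) : F) - (a : F) ≠ 0 := by
    intro h
    apply ha
    have h1 : ((a⁻¹ : Fˣ) : F) = (a : F) := sub_eq_zero.mp h
    have h2 : (a : F) * ((a⁻¹ : Fˣ) : F) = 1 := by simp
    rw [h1] at h2
    rw [pow_two]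
    exact h2
  refine ⟨mkSL !![1, c / (((a⁻¹ : Fˣ) : F) - (a : F)); 0, 1] (by simp [Matrix.det_fin_two]), ?_⟩
  rw [mul_inv_eq_iff_eq_mul]
  apply Subtype.ext
  rw [Matrix.SpecialLinearGroup.coe_mul, Matrix.SpecialLinearGroup.coe_mul, mkSL_coe, bSL_coe,
    bSL_coe]
  rw [m2_eq_iff]
  simp only [Matrix.mul_apply, Fin.sum_univ_two, Matrix.of_apply, Matrix.cons_val_zero,
    Matrix.cons_val_one, Matrix.cons_val', Matrix.empty_val', Matrix.cons_val_fin_one]
  refine ⟨by ring, ?_, by ring, by ring⟩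
  field_simp
  ring

theorem inner_sum (β : MulChar F ℂ) (a : Fˣ) :
    ∑ c : F, Cfsg.indFun (Bor F) (fun b => β (((b : Matrix.SpecialLinearGroup (Fin 2) F) :
      Matrix (Fin 2) (Fin 2) F) 0 0)) (bSL a c) =
      (Fintype.card F : ℂ) * (β (a : F) + β ((a⁻¹ : Fˣ) : F)) := by
  have e00 : ∀ c : F, ((bSL a c : Matrix.SpecialLinearGroup (Fin 2) F) :
      Matrix (Fin 2) (Fin 2) F) 0 0 = (a : F) := fun c => by rw [bSL_coe]; rfl
  have e01 : ∀ c : F, ((bSL a c : Matrix.SpecialLinearGroup (Fin 2) F) :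
      Matrix (Fin 2) (Fin 2) F) 0 1 = c := fun c => by rw [bSL_coe]; rfl
  have e10 : ∀ c : F, ((bSL a c : Matrix.SpecialLinearGroup (Fin 2) F) :
      Matrix (Fin 2) (Fin 2) F) 1 0 = 0 := fun c => by rw [bSL_coe]; rfl
  have e11 : ∀ c : F, ((bSL a c : Matrix.SpecialLinearGroup (Fin 2) F) :
      Matrix (Fin 2) (Fin 2) F) 1 1 = ((a⁻¹ : Fˣ) : F) := fun c => by rw [bSL_coe]; rfl
  by_cases ha : (a : F) ^ 2 = 1
  · have hinv : ((a⁻¹ : Fˣ) : F) = (a : F) := by
      have h2 : (a : F) * ((a⁻¹ : Fˣ) : F) = 1 := by simp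
      have h3 : (a : F) * (a : F) = 1 := by rw [← pow_two]; exact ha
      exact mul_left_cancel₀ a.ne_zero (h2.trans h3.symm)
    have hpt : ∀ c : F, Cfsg.indFun (Bor F) (fun b => β (((b : Matrix.SpecialLinearGroup (Fin 2) F) :
        Matrix (Fin 2) (Fin 2) F) 0 0)) (bSL a c) =
        β (a : F) + (if c = 0 then (Fintype.card F : ℂ) * β (a : F) else 0) := by
      intro c
      obtain ⟨-, -, h3, h4⟩ := Cfsg.Agent.S2433.values β (bSL a c)
      by_cases hc : c = 0
      · rw [if_pos hc]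
        have := h4 (by rw [e01, hc]) (e10 c) (by rw [e00, e11, hinv])
        rw [e00] at this
        rw [this]
        ring
      · rw [if_neg hc, add_zero]
        have := h3 (e10 c) (by rw [e00, e11, hinv]) (by rw [e01]; exact hc)
        rw [e00] at this
        exact this
    rw [Finset.sum_congr rfl (fun c _ => hpt c), Finset.sum_add_distrib, Finset.sum_const,
      Finset.card_univ, nsmul_eq_mul, Finset.sum_ite_eq' Finset.univ (0 : F), if_pos (Finset.mem_univ _),
      hinv]
    ring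
  · have hpt : ∀ c : F, Cfsg.indFun (Bor F) (fun b => β (((b : Matrix.SpecialLinearGroup (Fin 2) F) :
        Matrix (Fin 2) (Fin 2) F) 0 0)) (bSL a c) = β (a : F) + β ((a⁻¹ : Fˣ) : F) := by
      intro c
      obtain ⟨x, hx⟩ := bSL_conj a c ha
      rw [← hx, h7_indFun_conj]
      obtain ⟨h1, -, -, -⟩ := Cfsg.Agent.S2433.values β (bSL a 0)
      have := h1 (e01 0) (e10 0) (by rw [e00]; exact ha)
      rw [e00, e11] at this
      exact this
    rw [Finset.sum_congr rfl (fun c _ => hpt c), Finset.sum_const, Finset.card_univ, nsmul_eq_mul]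

theorem orth1 (α β : MulChar F ℂ) [Decidable (α = β)] :
    ∑ a : F, α a * conj (β a) = if α = β then ((Fintype.card F : ℂ) - 1) else 0 := by
  have h : ∀ a : F, α a * conj (β a) = (α * β⁻¹) a := by
    intro a
    rw [MulChar.mul_apply, starRingEnd_apply, MulChar.star_apply']
  rw [Finset.sum_congr rfl (fun a _ => h a)]
  split_ifs with hab
  · rw [hab, mul_inv_cancel, MulChar.sum_one_eq_card_units, Fintype.card_units]
    have hq : 1 ≤ Fintype.card F := Fintype.card_pos
    push_cast [Nat.cast_sub hq]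
    ring
  · apply MulChar.sum_eq_zero_of_ne_one
    intro h1
    exact hab (mul_inv_eq_one.mp h1)

theorem orth2 (α β : MulChar F ℂ) [Decidable (α = β⁻¹)] :
    ∑ a : F, α a * conj (β a⁻¹) = if α = β⁻¹ then ((Fintype.card F : ℂ) - 1) else 0 := by
  have h : ∀ a : F, α a * conj (β a⁻¹) = (α * β) a := by
    intro a
    rw [MulChar.mul_apply, starRingEnd_apply, MulChar.star_apply', MulChar.inv_apply', inv_inv]
  rw [Finset.sum_congr rfl (fun a _ => h a)]
  split_ifs with hab
  · rw [hab, inv_mul_cancel, MulChar.sum_one_eq_card_units, Fintype.card_units]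
    have hq : 1 ≤ Fintype.card F := Fintype.card_pos
    push_cast [Nat.cast_sub hq]
    ring
  · apply MulChar.sum_eq_zero_of_ne_one
    intro h1
    exact hab (mul_eq_one_iff_eq_inv.mp h1)

end Helpers

section Main

theorem inner {F : Type*} [Field F] [Fintype F] [DecidableEq F]
    (α β : MulChar F ℂ) [Decidable (α = β)] [Decidable (α = β⁻¹)] :
    Cfsg.classInner (Cfsg.indFun ((Cfsg.upperTriangularGL 2 F).comap Matrix.SpecialLinearGroup.toGL) (fun b => α (((b : Matrix.SpecialLinearGroup (Fin 2) F) : Matrix (Fin 2) (Fin 2) F) 0 0))) (Cfsg.indFun ((Cfsg.upperTriangularGL 2 F).comap Matrix.SpecialLinearGroup.toGL) (fun b => β (((b : Matrix.SpecialLinearGroup (Fin 2) F) : Matrix (Fin 2) (Fin 2) F) 0 0))) =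
      (if α = β then 1 else 0) + (if α = β⁻¹ then 1 else 0) := by
  haveI : Fintype ↥(Bor F) := Fintype.ofFinite _
  have hq : 2 ≤ Fintype.card F := Fintype.one_lt_card
  rw [h7_frobenius_reciprocity (Bor F) _ _ (h7_indFun_isClassFunction (Bor F) _)]
  unfold Cfsg.classInner
  rw [← Equiv.sum_comp (borEquiv (F := F)).symm, Fintype.sum_prod_type]
  have hterm : ∀ (a : Fˣ) (c : F),
      (fun b : Bor F => α (((b : Matrix.SpecialLinearGroup (Fin 2) F) :
        Matrix (Fin 2) (Fin 2) F) 0 0)) ((borEquiv (F := F)).symm (a, c)) *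
      conj ((fun h : Bor F => Cfsg.indFun (Bor F) (fun b => β (((b : Matrix.SpecialLinearGroup (Fin 2) F) :
        Matrix (Fin 2) (Fin 2) F) 0 0)) (h : Matrix.SpecialLinearGroup (Fin 2) F))
          ((borEquiv (F := F)).symm (a, c))) =
      α (a : F) * conj (Cfsg.indFun (Bor F) (fun b => β (((b : Matrix.SpecialLinearGroup (Fin 2) F) :
        Matrix (Fin 2) (Fin 2) F) 0 0)) (bSL a c)) := by
    intro a c
    show α (((bSL a c : Matrix.SpecialLinearGroup (Fin 2) F) : Matrix (Fin 2) (Fin 2) F) 0 0) *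
      conj (Cfsg.indFun (Bor F) (fun b => β (((b : Matrix.SpecialLinearGroup (Fin 2) F) :
        Matrix (Fin 2) (Fin 2) F) 0 0)) (bSL a c)) = _
    rw [bSL_coe]
    rfl
  have hinner : ∀ a : Fˣ, ∑ c : F,
      α (a : F) * conj (Cfsg.indFun (Bor F) (fun b => β (((b : Matrix.SpecialLinearGroup (Fin 2) F) :
        Matrix (Fin 2) (Fin 2) F) 0 0)) (bSL a c)) =
      α (a : F) * conj (β (a : F)) * (Fintype.card F : ℂ) +
        α (a : F) * conj (β ((a : F)⁻¹)) * (Fintype.card F : ℂ) := by
    intro a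
    rw [← Finset.mul_sum, ← map_sum, inner_sum β a, map_mul, map_add, Complex.conj_natCast,
      Units.val_inv_eq_inv_val]
    ring
  rw [Finset.sum_congr rfl (fun a _ => Finset.sum_congr rfl (fun c _ => hterm a c))]
  rw [Finset.sum_congr rfl (fun a _ => hinner a)]
  rw [units_sum (fun a : F => α a * conj (β a) * (Fintype.card F : ℂ) +
    α a * conj (β a⁻¹) * (Fintype.card F : ℂ)) (by rw [MulChar.map_zero]; ring)]
  rw [Finset.sum_add_distrib, ← Finset.sum_mul, ← Finset.sum_mul, orth1, orth2, card_Bor]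
  have h1 : ((Fintype.card F : ℂ) - 1) ≠ 0 := by
    have : (Fintype.card F : ℂ) ≠ 1 := by
      have h3 : Fintype.card F ≠ 1 := by omega
      exact_mod_cast h3
    exact sub_ne_zero.mpr this
  have h2 : (Fintype.card F : ℂ) ≠ 0 := by
    have : 0 < Fintype.card F := by omega
    exact_mod_cast this.ne'
  have hcast : (((Fintype.card F - 1) * Fintype.card F : ℕ) : ℂ) =
      ((Fintype.card F : ℂ) - 1) * (Fintype.card F : ℂ) := by
    have : 1 ≤ Fintype.card F := by omega
    push_cast [Nat.cast_sub this]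
    ring
  rw [hcast]
  split_ifs <;> field_simp <;> ring

end Main

/-- Let F be a finite field with q elements, q odd, and for a multiplicative character α of F let R(α) be the function on SL₂ induced from the linear character b ↦ α(b₁₁) of the upper triangular subgroup. For multiplicative characters α, β the inner product of R(α) and R(β) equals the number of true statements among 'α = β' and 'α = β⁻¹' (the Mackey formula for the upper triangular subgroup, whose intersection with a conjugate by the Weyl element is the diagonal subgroup). -/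
theorem result {F : Type*} [Field F] [Fintype F] [DecidableEq F] (hodd : Odd (Fintype.card F))
    (α β : MulChar F ℂ) [Decidable (α = β)] [Decidable (α = β⁻¹)] :
    Cfsg.classInner (Cfsg.indFun ((Cfsg.upperTriangularGL 2 F).comap Matrix.SpecialLinearGroup.toGL) (fun b => α (((b : Matrix.SpecialLinearGroup (Fin 2) F) : Matrix (Fin 2) (Fin 2) F) 0 0))) (Cfsg.indFun ((Cfsg.upperTriangularGL 2 F).comap Matrix.SpecialLinearGroup.toGL) (fun b => β (((b : Matrix.SpecialLinearGroup (Fin 2) F) : Matrix (Fin 2) (Fin 2) F) 0 0))) =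
      (if α = β then 1 else 0) + (if α = β⁻¹ then 1 else 0) := by
  exact inner α β

end Cfsg.Agent.S2432
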