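import Cfsg.Statements.S2306

import Cfsg.Agent.S2432
import Cfsg.Agent.Lib.Helper11.VirtChar
import Cfsg.Agent.Lib.Helper25.CharQuot
set_option autoImplicit false
open Cfsg

namespace Cfsg.Agent.S2306


open Cfsg.Agent.Lib.helper15 Cfsg.Agent.Lib.helper7 Cfsg.Agent.S2433 Cfsg.Agent.Lib.helper2
  Cfsg.Agent.Lib.Helper25 Cfsg.Agent.Lib.Helper11

section Helpers

variable {F : Type*} [Field F]

theorem bor_entry_ne_zero (b : Bor F) :
    ((b : Matrix.SpecialLinearGroup (Fin 2) F) : Matrix (Fin 2) (Fin 2) F) 0 0 ≠ 0 := by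
  intro h
  have h1 := det_entries b.1
  rw [h, (mem_Bor b.1).mp b.2] at h1
  simp at h1

noncomputable def diagHom : Bor F →* Fˣ where
  toFun b := Units.mk0 _ (bor_entry_ne_zero b)
  map_one' := by
    apply Units.ext
    simp
  map_mul' x y := by
    apply Units.ext
    show ((((x * y : Bor F) : Matrix.SpecialLinearGroup (Fin 2) F)) : Matrix (Fin 2) (Fin 2) F) 0 0 =
      ((x : Matrix.SpecialLinearGroup (Fin 2) F) : Matrix (Fin 2) (Fin 2) F) 0 0 *
      ((y : Matrix.SpecialLinearGroup (Fin 2) F) : Matrix (Fin 2) (Fin 2) F) 0 0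
    rw [Subgroup.coe_mul, Matrix.SpecialLinearGroup.coe_mul, Matrix.mul_apply, Fin.sum_univ_two,
      (mem_Bor y.1).mp y.2, mul_zero, add_zero]

theorem isCharacter_theta (α : MulChar F ℂ) :
    Cfsg.IsCharacter (Bor F) (fun b => α (((b : Matrix.SpecialLinearGroup (Fin 2) F) :
      Matrix (Fin 2) (Fin 2) F) 0 0)) := by
  have h := isCharacter_of_irr (linIrr ((MulChar.toUnitHom α).comp (diagHom (F := F))))
  convert h using 1
  funext b
  rw [linIrr_apply, MonoidHom.comp_apply, MulChar.coe_toUnitHom]
  rfl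

end Helpers

/-- Over a finite field F, for a multiplicative character α of F, the function induced to SL₂ from the linear character b ↦ α(b₁₁) of the upper triangular subgroup is an irreducible character if and only if α² ≠ 1. -/
theorem result {F : Type*} [Field F] [Fintype F] [DecidableEq F] (α : MulChar F ℂ) :
    Cfsg.IsIrrCharacter (Matrix.SpecialLinearGroup (Fin 2) F) (Cfsg.indFun ((Cfsg.upperTriangularGL 2 F).comap Matrix.SpecialLinearGroup.toGL) (fun b => α (((b : Matrix.SpecialLinearGroup (Fin 2) F) : Matrix (Fin 2) (Fin 2) F) 0 0))) ↔ α ^ 2 ≠ 1 := by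
  classical
  have hR := isCharacter_indFun (Bor F) _ (isCharacter_theta α)
  have hinner := Cfsg.Agent.S2432.inner α α
  rw [if_pos rfl] at hinner
  constructor
  · intro hirr h2
    have h1 := irr_classInner ⟨_, hirr⟩ ⟨_, hirr⟩
    rw [if_pos rfl] at h1
    have hαα : α = α⁻¹ := eq_inv_of_mul_eq_one_left (by rw [← pow_two]; exact h2)
    rw [if_pos hαα] at hinner
    rw [hinner] at h1
    norm_num at h1
  · intro h2
    have hαα : α ≠ α⁻¹ := by
      intro h
      apply h2
      rw [pow_two]
      nth_rewrite 2 [h]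
      exact mul_inv_cancel α
    rw [if_neg hαα, add_zero] at hinner
    obtain ⟨ε, η, hε, hη⟩ := genChar_norm_one _ ⟨_, 0, hR, isCharacter_zero _, by rw [sub_zero]⟩ hinner
    rcases hε with rfl | rfl
    · rw [hη]
      simp only [Int.cast_one, one_smul]
      exact η.2
    · exfalso
      obtain ⟨n, hn, hn1⟩ := irr_one_eq_finrank η
      have h1 := congrFun hη 1
      rw [h7_indFun_one] at h1
      simp only [Int.reduceNeg, Int.cast_neg, Int.cast_one, neg_smul, one_smul, Pi.neg_apply] at h1
      rw [hn1] at h1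
      have h3 : ((Bor F).index : ℂ) * α ((((1 : Bor F) : Matrix.SpecialLinearGroup (Fin 2) F) : Matrix (Fin 2) (Fin 2) F) 0 0) =
          ((Bor F).index : ℂ) := by
        have : ((((1 : Bor F) : Matrix.SpecialLinearGroup (Fin 2) F) : Matrix (Fin 2) (Fin 2) F) 0 0) = 1 := by
          simp
        rw [this, map_one, mul_one]
      rw [h3] at h1
      have h4 : (((Bor F).index + n : ℕ) : ℂ) = 0 := by
        push_cast
        rw [h1]
        ring
      have h5 : (Bor F).index + n = 0 := by exact_mod_cast h4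
      omega

end Cfsg.Agent.S2306
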