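import Cfsg.Statements.S2307

import Cfsg.Agent.S2432
import Cfsg.Agent.S2306
import Cfsg.Agent.Lib.Helper11.VirtChar
import Cfsg.Agent.Lib.Helper25.CharQuot
import Cfsg.Agent.Lib.Helper25.Gagola
import Cfsg.Agent.Lib.helper14.SL2Sylow
import Cfsg.Agent.Lib.helper7.CharTools
import Cfsg.Agent.Lib.helper7.CliffordSub
set_option autoImplicit false
open Cfsg

namespace Cfsg.Agent.S2307

open Cfsg.Agent.Lib.helper15 Cfsg.Agent.Lib.helper7 Cfsg.Agent.S2433 Cfsg.Agent.Lib.helper2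
  Cfsg.Agent.Lib.Helper25 Cfsg.Agent.Lib.Helper11 Cfsg.Agent.Lib.helper14

open scoped ComplexConjugate


section Sig

variable {F : Type*} [Field F]

local notation "SL2" => Matrix.SpecialLinearGroup (Fin 2) F
local notation "M2" => Matrix (Fin 2) (Fin 2) F

def sigFun (ε : F) (hε : ε ≠ 0) (g : SL2) : SL2 :=
  ⟨!![(g : M2) 0 0, ε * (g : M2) 0 1; ε⁻¹ * (g : M2) 1 0, (g : M2) 1 1], by
    have h := Matrix.det_fin_two (g : M2)
    rw [g.2] at h
    rw [Matrix.det_fin_two_of]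
    have he : ε * ε⁻¹ = 1 := mul_inv_cancel₀ hε
    linear_combination (-1 : F) * h - ((g : M2) 0 1 * (g : M2) 1 0) * he⟩

theorem sigFun_coe (ε : F) (hε : ε ≠ 0) (g : SL2) : ((sigFun ε hε g : SL2) : M2) =
    !![(g : M2) 0 0, ε * (g : M2) 0 1; ε⁻¹ * (g : M2) 1 0, (g : M2) 1 1] := rfl

theorem sigFun_sigFun (ε : F) (hε : ε ≠ 0) (g : SL2) :
    sigFun ε⁻¹ (inv_ne_zero hε) (sigFun ε hε g) = g := by
  apply Subtype.ext
  rw [sigFun_coe, sigFun_coe]
  have he : ε⁻¹ * ε = 1 := inv_mul_cancel₀ hε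
  have he' : ε * ε⁻¹ = 1 := mul_inv_cancel₀ hε
  ext i j
  fin_cases i <;> fin_cases j <;> simp [← mul_assoc, he, he']

def sig (ε : F) (hε : ε ≠ 0) : SL2 ≃* SL2 where
  toFun := sigFun ε hε
  invFun := sigFun ε⁻¹ (inv_ne_zero hε)
  left_inv g := sigFun_sigFun ε hε g
  right_inv g := by
    have h := sigFun_sigFun ε⁻¹ (inv_ne_zero hε) g
    simp only [inv_inv] at h
    exact h
  map_mul' g h := by
    apply Subtype.ext
    rw [Matrix.SpecialLinearGroup.coe_mul, sigFun_coe, sigFun_coe, sigFun_coe,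
      Matrix.SpecialLinearGroup.coe_mul]
    have he : ε * ε⁻¹ = 1 := mul_inv_cancel₀ hε
    ext i j
    fin_cases i <;> fin_cases j <;> simp [Matrix.mul_apply, Fin.sum_univ_two]
    · linear_combination (-((g : M2) 0 1 * (h : M2) 1 0)) * he
    · ring
    · ring
    · linear_combination (-((g : M2) 1 0 * (h : M2) 0 1)) * he

theorem sig_apply_coe (ε : F) (hε : ε ≠ 0) (g : SL2) : ((sig ε hε g : SL2) : M2) =
    !![(g : M2) 0 0, ε * (g : M2) 0 1; ε⁻¹ * (g : M2) 1 0, (g : M2) 1 1] := rfl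

end Sig



section Abstract

variable {G : Type*} [Group G] [Fintype G]

theorem split_of_norm_two {Φ : G → ℂ} (hΦ : Cfsg.IsCharacter G Φ)
    (h2 : Cfsg.classInner Φ Φ = 2) :
    ∃ η₁ η₂ : G → ℂ, Cfsg.IsIrrCharacter G η₁ ∧ Cfsg.IsIrrCharacter G η₂ ∧ η₁ ≠ η₂ ∧
      Φ = η₁ + η₂ := by
  have h1 : Φ 1 ≠ 0 := by
    intro h0
    have hz := h7_isCharacter_eq_zero hΦ h0
    rw [hz, h7_classInner_zero_right] at h2
    norm_num at h2
  obtain ⟨χ, m, hm, hχ⟩ := isCharacter_exists_constituent hΦ h1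
  have hχne : Cfsg.classInner Φ (χ : G → ℂ) ≠ 0 := by
    rw [hχ]
    exact_mod_cast hm.ne'
  obtain ⟨Δ, hΔ, hsplit⟩ := h7_char_split hΦ (χ : G → ℂ) χ.2 hχne
  obtain ⟨a, ha⟩ := classInner_character_nat (isCharacter_of_irr χ) hΔ
  have ha' := classInner_symm_of_nat _ _ _ ha
  obtain ⟨b, hb⟩ := classInner_character_nat hΔ hΔ
  have hχχ : Cfsg.classInner (χ : G → ℂ) (χ : G → ℂ) = 1 := h7_irr_norm χ.2
  have hexp : Cfsg.classInner Φ Φ = 1 + (a : ℂ) + ((a : ℂ) + (b : ℂ)) := by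
    rw [hsplit, classInner_add_left, h7_classInner_add_right, h7_classInner_add_right, hχχ, ha,
      ha', hb]
  rw [h2] at hexp
  have hnat : 2 = 1 + a + (a + b) := by exact_mod_cast hexp
  have ha0 : a = 0 := by omega
  have hb1 : b = 1 := by omega
  rw [hb1, Nat.cast_one] at hb
  rw [ha0, Nat.cast_zero] at ha
  refine ⟨(χ : G → ℂ), Δ, χ.2, h7_irr_of_norm_one hΔ hb, ?_, hsplit⟩
  intro heq
  rw [← heq, hχχ] at ha
  exact one_ne_zero ha

theorem perm_of_invariant {Φ η₁ η₂ : G → ℂ} (h1 : Cfsg.IsIrrCharacter G η₁)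
    (h2 : Cfsg.IsIrrCharacter G η₂) (hne : η₁ ≠ η₂) (hΦ : Φ = η₁ + η₂)
    (σ : G ≃* G) (hσ : ∀ g, Φ (σ g) = Φ g) :
    (fun g => η₁ (σ g)) = η₁ ∨ (fun g => η₁ (σ g)) = η₂ := by
  classical
  have hξ : Cfsg.IsIrrCharacter G (fun g => η₁ (σ g)) := h7_isIrr_comp_equiv σ η₁ h1
  have e1 : Cfsg.classInner Φ (fun g => η₁ (σ g)) = Cfsg.classInner Φ η₁ := by
    have := h7_classInner_comp_equiv σ Φ η₁
    rw [← this]
    congr 1
    funext g
    exact (hσ g).symm
  have e2 : Cfsg.classInner Φ η₁ = 1 := by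
    rw [hΦ, classInner_add_left, h7_irr_norm h1, h7_irr_inner_ne h2 h1 (Ne.symm hne), add_zero]
  by_contra hcon
  rw [not_or] at hcon
  have e3 : Cfsg.classInner Φ (fun g => η₁ (σ g)) = 0 := by
    rw [hΦ, classInner_add_left, h7_irr_inner_ne h1 hξ (Ne.symm hcon.1),
      h7_irr_inner_ne h2 hξ (Ne.symm hcon.2), add_zero]
  rw [e1, e2] at e3
  exact one_ne_zero e3

end Abstract



section Uni

variable {F : Type*} [Field F] [Fintype F] [DecidableEq F]

local notation "SL2" => Matrix.SpecialLinearGroup (Fin 2) F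
local notation "M2" => Matrix (Fin 2) (Fin 2) F

omit [Fintype F] [DecidableEq F] in
theorem Umat_one_eq (t : F) : Umat (1 : F) t (by ring) = uS t := rfl

omit [Fintype F] [DecidableEq F] in
theorem classFun_uS_of_isSquare {η : SL2 → ℂ} (hη : Cfsg.IsClassFunction SL2 η) (s t : F)
    (hs : s ≠ 0) (ht : t ≠ 0) (hsq : IsSquare (s * t)) : η (uS s) = η (uS t) := by
  have hc := Umat_conj_of_isSquare (1 : F) s t (by ring) hs ht hsq
  rw [Umat_one_eq, Umat_one_eq] at hc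
  obtain ⟨c, hc⟩ := isConj_iff.mp hc
  rw [← hc]
  exact (hη (uS s) c).symm

theorem isSquare_mul_of_not (a b : F) (ha : ¬ IsSquare a) (hb : ¬ IsSquare b) :
    IsSquare (a * b) := by
  have ha0 : a ≠ 0 := by
    rintro rfl
    exact ha ⟨0, by ring⟩
  have hb0 : b ≠ 0 := by
    rintro rfl
    exact hb ⟨0, by ring⟩
  rw [← quadraticChar_one_iff_isSquare (mul_ne_zero ha0 hb0), map_mul,
    quadraticChar_neg_one_iff_not_isSquare.mpr ha, quadraticChar_neg_one_iff_not_isSquare.mpr hb]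
  norm_num

theorem res_U_nat {η : SL2 → ℂ} (hη : Cfsg.IsCharacter SL2 η) (c : ℂ)
    (hc : ∀ t : F, t ≠ 0 → η (uS t) = c) :
    ∃ m : ℕ, η 1 - c = (Fintype.card F : ℂ) * (m : ℂ) := by
  obtain ⟨ψ, hψ⟩ := (AddChar.exists_apply_ne_zero (α := F) (a := 1)).mpr one_ne_zero
  have hψ1 : ψ ≠ 1 := by
    intro h
    rw [h] at hψ
    exact hψ (AddChar.one_apply _)
  have hsum : ∑ t : F, ψ t = 0 := AddChar.sum_eq_zero_of_ne_one hψ1
  let μ : Multiplicative F →* ℂˣ := ψ.toMonoidHom.toHomUnits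
  have hθ : Cfsg.IsCharacter (Multiplicative F) (fun t => η (uSHom t)) :=
    isCharacter_comp_hom hη uSHom
  obtain ⟨m, hm⟩ := classInner_character_nat hθ (isCharacter_of_irr (linIrr μ))
  refine ⟨m, ?_⟩
  unfold Cfsg.classInner at hm
  have hq0 : (Fintype.card F : ℂ) ≠ 0 := by
    have : 0 < Fintype.card F := Fintype.card_pos
    exact_mod_cast this.ne'
  have hs1 : ∑ t : Multiplicative F, η (uSHom t) * conj ((linIrr μ : Multiplicative F → ℂ) t) =
      ∑ t : F, η (uS t) * conj (ψ t) := by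
    apply Fintype.sum_equiv Multiplicative.toAdd
    intro t
    rfl
  have hs2 : ∑ t : F, η (uS t) * conj (ψ t) = η 1 - c := by
    have hpt : ∀ t : F, η (uS t) * conj (ψ t) =
        c * conj (ψ t) + (if t = 0 then η 1 - c else 0) := by
      intro t
      by_cases ht : t = 0
      · rw [if_pos ht, ht, uS_zero, AddChar.map_zero_eq_one, map_one]
        ring
      · rw [if_neg ht, hc t ht, add_zero]
    rw [Finset.sum_congr rfl (fun t _ => hpt t), Finset.sum_add_distrib, ← Finset.mul_sum,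
      ← map_sum, hsum, map_zero, mul_zero, zero_add, Finset.sum_ite_eq' Finset.univ (0 : F),
      if_pos (Finset.mem_univ _)]
  rw [hs1, hs2, Nat.card_eq_fintype_card, Fintype.card_multiplicative] at hm
  rw [← hm]
  field_simp

end Uni



section Uni2

variable {F : Type*} [Field F] [Fintype F] [DecidableEq F]

local notation "SL2" => Matrix.SpecialLinearGroup (Fin 2) F
local notation "M2" => Matrix (Fin 2) (Fin 2) F

omit [Fintype F] [DecidableEq F] in
theorem lS_conj (t : F) : ∃ w : SL2, w * uS t * w⁻¹ = lS (-t) := by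
  obtain ⟨w, hw⟩ : ∃ w : SL2, (w : M2) = !![0, -1; 1, 0] :=
    ⟨⟨!![0, -1; 1, 0], by rw [Matrix.det_fin_two_of]; ring⟩, rfl⟩
  refine ⟨w, ?_⟩
  rw [mul_inv_eq_iff_eq_mul]
  apply Subtype.ext
  rw [sl2_coe_mul, sl2_coe_mul, uS_coe, lS_coe, hw, Matrix.mul_fin_two, Matrix.mul_fin_two]
  apply m2_congr <;> ring

theorem const_of_U_trivial {η : SL2 → ℂ} (hη : Cfsg.IsIrrCharacter SL2 η)
    (hU : ∀ t : F, η (uS t) = η 1) (g : SL2) : η g = η 1 := by
  have hcl : Cfsg.IsClassFunction SL2 η := isCharacter_isClassFunction (h7_irr_isCharacter hη)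
  have htop : irrKer (⟨η, hη⟩ : Cfsg.IrrCharacter SL2) = ⊤ := by
    apply eq_top_of_uS_lS
    · intro t
      rw [mem_irrKer]
      exact hU t
    · intro t
      rw [mem_irrKer]
      obtain ⟨w, hw⟩ := lS_conj (-t)
      rw [neg_neg] at hw
      show η (lS t) = η 1
      rw [← hw, hcl]
      exact hU _
  have : g ∈ irrKer (⟨η, hη⟩ : Cfsg.IrrCharacter SL2) := by
    rw [htop]
    exact Subgroup.mem_top g
  rw [mem_irrKer] at this
  exact this

theorem inner_one_zero (α : MulChar F ℂ) (hα1 : α ≠ 1) :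
    Cfsg.classInner (Cfsg.indFun (Bor F) (fun b => α (((b : SL2) : M2) 0 0)))
      (fun _ : SL2 => (1 : ℂ)) = 0 := by
  haveI : Fintype ↥(Bor F) := Fintype.ofFinite _
  rw [h7_frobenius_reciprocity (Bor F) _ _ (fun _ _ => rfl)]
  unfold Cfsg.classInner
  rw [← Equiv.sum_comp (borEquiv (F := F)).symm, Fintype.sum_prod_type]
  have hterm : ∀ (a : Fˣ) (c : F),
      (fun b : Bor F => α (((b : SL2) : M2) 0 0)) ((borEquiv (F := F)).symm (a, c)) *
      conj ((fun _ : Bor F => (1 : ℂ)) ((borEquiv (F := F)).symm (a, c))) = α (a : F) := by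
    intro a c
    show α (((Cfsg.Agent.S2432.bSL a c : SL2) : M2) 0 0) * conj (1 : ℂ) = _
    rw [Cfsg.Agent.S2432.bSL_coe, map_one, mul_one]
    rfl
  rw [Finset.sum_congr rfl (fun a _ => Finset.sum_congr rfl (fun c _ => hterm a c))]
  simp only [Finset.sum_const, Finset.card_univ, nsmul_eq_mul]
  rw [← Finset.mul_sum, Cfsg.Agent.S2432.units_sum (fun a : F => α a) (MulChar.map_zero α),
    MulChar.sum_eq_zero_of_ne_one hα1, mul_zero, mul_zero]

end Uni2


section Final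

variable {F : Type*} [Field F] [Fintype F] [DecidableEq F]

local notation "SL2" => Matrix.SpecialLinearGroup (Fin 2) F
local notation "M2" => Matrix (Fin 2) (Fin 2) F

omit [Fintype F] [DecidableEq F] in
theorem sig_uS (ε : F) (hε : ε ≠ 0) (t : F) : sig ε hε (uS t) = uS (ε * t) := by
  apply Subtype.ext
  rw [sig_apply_coe, uS_coe, uS_coe]
  simp

theorem const_on_U {η : SL2 → ℂ} (hη : Cfsg.IsClassFunction SL2 η) (ε : F) (hε : ¬ IsSquare ε)
    (hε0 : ε ≠ 0) (hinv : ∀ g, η (sig ε hε0 g) = η g) (t : F) (ht : t ≠ 0) :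
    η (uS t) = η (uS 1) := by
  by_cases hsq : IsSquare t
  · exact classFun_uS_of_isSquare hη t 1 ht one_ne_zero (by rwa [mul_one])
  · have h1 := hinv (uS t)
    rw [sig_uS] at h1
    rw [← h1]
    exact classFun_uS_of_isSquare hη (ε * t) 1 (mul_ne_zero hε0 ht) one_ne_zero
      (by rw [mul_one]; exact isSquare_mul_of_not ε t hε hsq)

theorem indFun_sig (α : F → ℂ) (ε : F) (hε : ε ≠ 0) (g : SL2) :
    Cfsg.indFun (Bor F) (fun b => α (((b : SL2) : M2) 0 0)) (sig ε hε g) =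
      Cfsg.indFun (Bor F) (fun b => α (((b : SL2) : M2) 0 0)) g := by
  rw [indFun_eq, indFun_eq]
  congr 1
  rw [← Equiv.sum_comp (sig ε hε).toEquiv]
  apply Finset.sum_congr rfl
  intro x _
  have h1 : ((sig ε hε).toEquiv x)⁻¹ * sig ε hε g * (sig ε hε).toEquiv x =
      sig ε hε (x⁻¹ * g * x) := by
    rw [map_mul, map_mul, map_inv]
    rfl
  rw [h1, sig_apply_coe]
  simp [hε]

theorem Phi_one (α : MulChar F ℂ) :
    Cfsg.indFun (Bor F) (fun b => α (((b : SL2) : M2) 0 0)) 1 = (Fintype.card F : ℂ) + 1 := by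
  obtain ⟨-, -, -, h4⟩ := Cfsg.Agent.S2433.values α (1 : SL2)
  have := h4 (by simp) (by simp) (by simp)
  rw [this]
  simp

theorem Phi_uS_one (α : MulChar F ℂ) :
    Cfsg.indFun (Bor F) (fun b => α (((b : SL2) : M2) 0 0)) (uS 1) = 1 := by
  obtain ⟨-, -, h3, -⟩ := Cfsg.Agent.S2433.values α (uS (1 : F))
  have := h3 (by rw [uS_coe]; simp) (by rw [uS_coe]; simp) (by rw [uS_coe]; simp)
  rw [this, uS_coe]
  simp

theorem not_both_invariant (α : MulChar F ℂ) (hα1 : α ≠ 1) (η₁ η₂ : SL2 → ℂ)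
    (h1 : Cfsg.IsIrrCharacter SL2 η₁) (h2 : Cfsg.IsIrrCharacter SL2 η₂) (hne : η₁ ≠ η₂)
    (hΦ : Cfsg.indFun (Bor F) (fun b => α (((b : SL2) : M2) 0 0)) = η₁ + η₂)
    (ε : F) (hε : ¬ IsSquare ε) (hε0 : ε ≠ 0)
    (hinv1 : ∀ g, η₁ (sig ε hε0 g) = η₁ g) (hinv2 : ∀ g, η₂ (sig ε hε0 g) = η₂ g) : False := by
  have hc1 := h7_irr_isCharacter h1
  have hc2 := h7_irr_isCharacter h2
  have hcl1 := isCharacter_isClassFunction hc1
  have hcl2 := isCharacter_isClassFunction hc2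
  obtain ⟨m₁, hm₁⟩ := res_U_nat hc1 (η₁ (uS 1)) (const_on_U hcl1 ε hε hε0 hinv1)
  obtain ⟨m₂, hm₂⟩ := res_U_nat hc2 (η₂ (uS 1)) (const_on_U hcl2 ε hε hε0 hinv2)
  have hq0 : (Fintype.card F : ℂ) ≠ 0 := by
    have : 0 < Fintype.card F := Fintype.card_pos
    exact_mod_cast this.ne'
  have e1 := congrFun hΦ 1
  have e2 := congrFun hΦ (uS 1)
  rw [Phi_one, Pi.add_apply] at e1
  rw [Phi_uS_one, Pi.add_apply] at e2
  have hsum : (Fintype.card F : ℂ) * ((m₁ : ℂ) + (m₂ : ℂ)) = (Fintype.card F : ℂ) * 1 := by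
    linear_combination (-1 : ℂ) * hm₁ - hm₂ - e1 + e2
  have hsum' : ((m₁ + m₂ : ℕ) : ℂ) = ((1 : ℕ) : ℂ) := by
    push_cast
    exact mul_left_cancel₀ hq0 hsum
  have hnat : m₁ + m₂ = 1 := by exact_mod_cast hsum'
  have hin1 : Cfsg.classInner (Cfsg.indFun (Bor F) (fun b => α (((b : SL2) : M2) 0 0))) η₁ = 1 := by
    rw [hΦ, classInner_add_left, h7_irr_norm h1, h7_irr_inner_ne h2 h1 (Ne.symm hne), add_zero]
  have hin2 : Cfsg.classInner (Cfsg.indFun (Bor F) (fun b => α (((b : SL2) : M2) 0 0))) η₂ = 1 := by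
    rw [hΦ, classInner_add_left, h7_irr_norm h2, h7_irr_inner_ne h1 h2 hne, zero_add]
  have key : ∀ (η : SL2 → ℂ) (hη : Cfsg.IsIrrCharacter SL2 η)
      (hin : Cfsg.classInner (Cfsg.indFun (Bor F) (fun b => α (((b : SL2) : M2) 0 0))) η = 1)
      (hU : ∀ t : F, η (uS t) = η 1), False := by
    intro η hη hin hU
    have hconst := const_of_U_trivial hη hU
    have hη' : η = (η 1) • (fun _ : SL2 => (1 : ℂ)) := by
      funext g
      rw [Pi.smul_apply, smul_eq_mul, mul_one]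
      exact hconst g
    rw [hη', h7_classInner_smul_right, inner_one_zero α hα1, mul_zero] at hin
    exact zero_ne_one hin
  have hm0 : m₁ = 0 ∨ m₂ = 0 := by omega
  rcases hm0 with h0 | h0
  · rw [h0, Nat.cast_zero, mul_zero, sub_eq_zero] at hm₁
    apply key η₁ h1 hin1
    intro t
    by_cases ht : t = 0
    · rw [ht, uS_zero]
    · rw [const_on_U hcl1 ε hε hε0 hinv1 t ht, hm₁]
  · rw [h0, Nat.cast_zero, mul_zero, sub_eq_zero] at hm₂
    apply key η₂ h2 hin2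
    intro t
    by_cases ht : t = 0
    · rw [ht, uS_zero]
    · rw [const_on_U hcl2 ε hε hε0 hinv2 t ht, hm₂]

end Final

/-- Over a finite field F with q elements, q odd, let α be the multiplicative character of F of order 2. The character of SL₂ induced from the linear character b ↦ α(b₁₁) of the upper triangular subgroup is the sum of two distinct irreducible characters, each of degree (q + 1)/2, which are conjugate under GL₂: some fixed element of GL₂ conjugates the one into the other. -/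
theorem result {F : Type*} [Field F] [Fintype F] [DecidableEq F] (hodd : Odd (Fintype.card F)) (α : MulChar F ℂ)
    (hα : α ^ 2 = 1) (hα1 : α ≠ 1) :
    ∃ χ₁ χ₂ : Matrix.SpecialLinearGroup (Fin 2) F → ℂ, Cfsg.IsIrrCharacter (Matrix.SpecialLinearGroup (Fin 2) F) χ₁ ∧ Cfsg.IsIrrCharacter (Matrix.SpecialLinearGroup (Fin 2) F) χ₂ ∧ χ₁ ≠ χ₂ ∧
      Cfsg.indFun ((Cfsg.upperTriangularGL 2 F).comap Matrix.SpecialLinearGroup.toGL) (fun b => α (((b : Matrix.SpecialLinearGroup (Fin 2) F) : Matrix (Fin 2) (Fin 2) F) 0 0)) = χ₁ + χ₂ ∧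
      χ₁ 1 = (((Fintype.card F + 1) / 2 : ℕ) : ℂ) ∧ χ₂ 1 = (((Fintype.card F + 1) / 2 : ℕ) : ℂ) ∧
      ∃ x : Matrix.GeneralLinearGroup (Fin 2) F, ∀ g h : Matrix.SpecialLinearGroup (Fin 2) F,
        Matrix.SpecialLinearGroup.toGL h = x * Matrix.SpecialLinearGroup.toGL g * x⁻¹ → χ₂ h = χ₁ g := by
  classical
  have hR := isCharacter_indFun (Bor F) _ (Cfsg.Agent.S2306.isCharacter_theta α)
  have hinner := Cfsg.Agent.S2432.inner α α
  have hαα : α = α⁻¹ := eq_inv_of_mul_eq_one_left (by rw [← pow_two]; exact hα)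
  rw [if_pos rfl, if_pos hαα] at hinner
  obtain ⟨η₁, η₂, h1, h2, hne, hΦ⟩ := split_of_norm_two hR (by rw [hinner]; norm_num)
  have hF : ringChar F ≠ 2 := by
    intro h
    rw [FiniteField.even_card_iff_char_two] at h
    obtain ⟨k, hk⟩ := hodd
    omega
  obtain ⟨ε, hε⟩ := FiniteField.exists_nonsquare hF
  have hε0 : ε ≠ 0 := by
    rintro rfl
    exact hε ⟨0, by ring⟩
  have hσ : ∀ g, Cfsg.indFun (Bor F) (fun b => α (((b : Matrix.SpecialLinearGroup (Fin 2) F) :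
      Matrix (Fin 2) (Fin 2) F) 0 0)) (sig ε hε0 g) =
      Cfsg.indFun (Bor F) (fun b => α (((b : Matrix.SpecialLinearGroup (Fin 2) F) :
      Matrix (Fin 2) (Fin 2) F) 0 0)) g := indFun_sig _ ε hε0
  rcases perm_of_invariant h1 h2 hne hΦ (sig ε hε0) hσ with hfix | hswap
  · exfalso
    have hinv1 : ∀ g, η₁ (sig ε hε0 g) = η₁ g := fun g => congrFun hfix g
    have hinv2 : ∀ g, η₂ (sig ε hε0 g) = η₂ g := by
      intro g
      have e1 := congrFun hΦ (sig ε hε0 g)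
      have e2 := congrFun hΦ g
      rw [Pi.add_apply] at e1 e2
      rw [hσ g, e2, hinv1 g] at e1
      exact (add_left_cancel e1).symm
    exact not_both_invariant α hα1 η₁ η₂ h1 h2 hne hΦ ε hε hε0 hinv1 hinv2
  · have hsw : ∀ g, η₂ g = η₁ (sig ε hε0 g) := fun g => (congrFun hswap g).symm
    have hdeg : η₂ 1 = η₁ 1 := by rw [hsw 1, map_one]
    have e1 := congrFun hΦ 1
    rw [Phi_one, Pi.add_apply, hdeg] at e1
    obtain ⟨k, hk⟩ := hodd
    have hhalf : (Fintype.card F + 1) / 2 = k + 1 := by omega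
    have hη1 : η₁ 1 = ((k + 1 : ℕ) : ℂ) := by
      rw [hk] at e1
      push_cast at e1 ⊢
      linear_combination (-1 / 2 : ℂ) * e1
    refine ⟨η₁, η₂, h1, h2, hne, hΦ, ?_, ?_, ?_⟩
    · rw [hhalf]
      exact hη1
    · rw [hhalf, hdeg]
      exact hη1
    · have he : ε * ε⁻¹ = 1 := mul_inv_cancel₀ hε0
      have he' : ε⁻¹ * ε = 1 := inv_mul_cancel₀ hε0
      obtain ⟨x, hx, hxi⟩ : ∃ x : Matrix.GeneralLinearGroup (Fin 2) F,
          (x : Matrix (Fin 2) (Fin 2) F) = !![ε⁻¹, 0; 0, 1] ∧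
          ((x⁻¹ : Matrix.GeneralLinearGroup (Fin 2) F) : Matrix (Fin 2) (Fin 2) F) =
            !![ε, 0; 0, 1] := by
        refine ⟨⟨!![ε⁻¹, 0; 0, 1], !![ε, 0; 0, 1], ?_, ?_⟩, rfl, rfl⟩
        · rw [Matrix.mul_fin_two, Matrix.one_fin_two]
          apply m2_congr <;> simp [he']
        · rw [Matrix.mul_fin_two, Matrix.one_fin_two]
          apply m2_congr <;> simp [he]
      refine ⟨x, ?_⟩
      intro g h hgh
      rw [hsw h]
      congr 1
      have e : Matrix.SpecialLinearGroup.toGL g = x⁻¹ * Matrix.SpecialLinearGroup.toGL h * x := by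
        rw [hgh]
        group
      have e' := congrArg (fun y : Matrix.GeneralLinearGroup (Fin 2) F =>
        (y : Matrix (Fin 2) (Fin 2) F)) e
      simp only [Units.val_mul, Matrix.SpecialLinearGroup.coe_GL_coe_matrix] at e'
      apply Subtype.ext
      rw [sig_apply_coe, e', hxi, hx]
      obtain ⟨a, ha⟩ : ∃ a, (h : Matrix (Fin 2) (Fin 2) F) 0 0 = a := ⟨_, rfl⟩
      obtain ⟨b, hb⟩ : ∃ b, (h : Matrix (Fin 2) (Fin 2) F) 0 1 = b := ⟨_, rfl⟩
      obtain ⟨c, hc⟩ : ∃ c, (h : Matrix (Fin 2) (Fin 2) F) 1 0 = c := ⟨_, rfl⟩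
      obtain ⟨d, hd⟩ : ∃ d, (h : Matrix (Fin 2) (Fin 2) F) 1 1 = d := ⟨_, rfl⟩
      have hheta : (h : Matrix (Fin 2) (Fin 2) F) = !![a, b; c, d] := by
        rw [Matrix.eta_fin_two (h : Matrix (Fin 2) (Fin 2) F), ha, hb, hc, hd]
      rw [ha, hb, hc, hd, hheta, Matrix.mul_fin_two, Matrix.mul_fin_two]
      apply m2_congr
      · linear_combination (-a) * he
      · ring
      · ring
      · ring

end Cfsg.Agent.S2307
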