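import Cfsg.Statements.S2310
import Cfsg.Agent.Lib.helper14.GL2Char

set_option autoImplicit false
open Cfsg

namespace Cfsg.Agent.S2310

open Cfsg.Agent.Lib.helper14

theorem cast_facts {n : ℕ} (hq : 3 ≤ n) :
    (1 : ℂ) ≠ (n : ℂ) + 1 ∧ (1 : ℂ) ≠ (n : ℂ) - 1 ∧ (1 : ℂ) ≠ (n : ℂ) ∧
    (n : ℂ) ≠ (n : ℂ) + 1 ∧ (n : ℂ) ≠ (n : ℂ) - 1 ∧ (n : ℂ) + 1 ≠ (n : ℂ) - 1 := by
  have h1 : ((1 : ℕ) : ℂ) ≠ ((n + 1 : ℕ) : ℂ) := by
    rw [Ne, Nat.cast_inj]; omega
  have h2 : ((1 + 1 : ℕ) : ℂ) ≠ ((n : ℕ) : ℂ) := by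
    rw [Ne, Nat.cast_inj]; omega
  have h3 : ((1 : ℕ) : ℂ) ≠ ((n : ℕ) : ℂ) := by
    rw [Ne, Nat.cast_inj]; omega
  push_cast at h1 h2 h3
  refine ⟨h1, ?_, h3, ?_, ?_, ?_⟩
  · intro h
    apply h2
    linear_combination h
  · intro h
    have : (0 : ℂ) = 1 := by linear_combination h
    exact zero_ne_one this
  · intro h
    have : (0 : ℂ) = 1 := by linear_combination -h
    exact zero_ne_one this
  · intro h
    have : (0 : ℂ) = 2 := by linear_combination -h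
    norm_num at this

/-- Over a finite field F with q ≥ 3 elements, let u be the upper unitriangular matrix of GL₂ with off-diagonal entry 1. An irreducible complex character χ of GL₂ takes at u the value 1 if χ has degree 1 or q + 1, the value −1 if χ has degree q − 1, and the value 0 if χ has degree q. -/
theorem result {F : Type*} [Field F] [Fintype F] (hq : 3 ≤ Fintype.card F) (χ : Matrix.GeneralLinearGroup (Fin 2) F → ℂ) (hχ : Cfsg.IsIrrCharacter (Matrix.GeneralLinearGroup (Fin 2) F) χ)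
    (u : Matrix.GeneralLinearGroup (Fin 2) F) (hu : (u : Matrix (Fin 2) (Fin 2) F) = !![1, 1; 0, 1]) :
    (χ 1 = 1 → χ u = 1) ∧ (χ 1 = (Fintype.card F : ℂ) + 1 → χ u = 1) ∧
    (χ 1 = (Fintype.card F : ℂ) - 1 → χ u = -1) ∧ (χ 1 = (Fintype.card F : ℂ) → χ u = 0) := by
  classical
  haveI : Fintype (Cfsg.IrrCharacter (GL (Fin 2) F)) := Fintype.ofFinite _
  haveI : Fintype (MulChar F ℂ) := Fintype.ofFinite _
  obtain rfl : u = uG 1 := by
    apply Units.ext
    rw [hu, uG_coe]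
  obtain ⟨f1, f2, f3, f4, f5, f6⟩ := cast_facts hq
  rcases gl_classification (⟨χ, hχ⟩ : Cfsg.IrrCharacter (GL (Fin 2) F)) with
    ⟨α, h⟩ | ⟨α, h⟩ | ⟨α, β, hαβ, h⟩ | h
  · have h1 : χ 1 = 1 := by
      have := congrArg (fun ψ : Cfsg.IrrCharacter (GL (Fin 2) F) => (ψ : GL (Fin 2) F → ℂ) 1) h
      simpa [glLam_one] using this
    have h2 : χ (uG 1) = 1 := by
      have := congrArg (fun ψ : Cfsg.IrrCharacter (GL (Fin 2) F) => (ψ : GL (Fin 2) F → ℂ) (uG 1)) h
      simpa [glLam_uG] using this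
    rw [h1, h2]
    refine ⟨fun _ => rfl, fun _ => rfl, fun e => absurd e f2, fun e => absurd e f3⟩
  · have h1 : χ 1 = (Fintype.card F : ℂ) := by
      have := congrArg (fun ψ : Cfsg.IrrCharacter (GL (Fin 2) F) => (ψ : GL (Fin 2) F → ℂ) 1) h
      simpa [glSt_one] using this
    have h2 : χ (uG 1) = 0 := by
      have := congrArg (fun ψ : Cfsg.IrrCharacter (GL (Fin 2) F) => (ψ : GL (Fin 2) F → ℂ) (uG 1)) h
      simpa [glSt_uG α 1 one_ne_zero] using this
    rw [h1, h2]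
    refine ⟨fun e => absurd e.symm f3, fun e => absurd e f4, fun e => absurd e f5, fun _ => rfl⟩
  · have h1 : χ 1 = (Fintype.card F : ℂ) + 1 := by
      have := congrArg (fun ψ : Cfsg.IrrCharacter (GL (Fin 2) F) => (ψ : GL (Fin 2) F → ℂ) 1) h
      simpa [glRirr_one] using this
    have h2 : χ (uG 1) = 1 := by
      have := congrArg (fun ψ : Cfsg.IrrCharacter (GL (Fin 2) F) => (ψ : GL (Fin 2) F → ℂ) (uG 1)) h
      simpa [glRirr_uG α β hαβ 1 one_ne_zero] using this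
    rw [h1, h2]
    refine ⟨fun _ => rfl, fun _ => rfl, fun e => absurd e f6, fun e => absurd e.symm f4⟩
  · obtain ⟨h1, h2⟩ := glPsi_values _ h
    have h1' : χ 1 = (Fintype.card F : ℂ) - 1 := h1
    have h2' : χ (uG 1) = -1 := h2
    rw [h1', h2']
    refine ⟨fun e => absurd e.symm f2, fun e => absurd e.symm f6, fun _ => rfl,
      fun e => absurd e.symm f5⟩

end Cfsg.Agent.S2310
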