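import Cfsg.Statements.S2298
import Cfsg.Agent.Lib.helper14.GL2Char
import Cfsg.Agent.S2310

set_option autoImplicit false
open Cfsg

namespace Cfsg.Agent.S2298

open Cfsg.Agent.Lib.helper14

section Count

variable {F : Type*} [Field F] [Fintype F] [DecidableEq F]
variable [Fintype (Cfsg.IrrCharacter (GL (Fin 2) F))] [Fintype (MulChar F ℂ)]

local notation "G2" => GL (Fin 2) F
local notation "Irr2" => Cfsg.IrrCharacter (GL (Fin 2) F)

open Classical

theorem deg_of_mem (χ : Irr2) :
    (χ ∈ glK1 (F := F) → (χ : G2 → ℂ) 1 = 1) ∧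
    (χ ∈ glK2 (F := F) → (χ : G2 → ℂ) 1 = (Fintype.card F : ℂ)) ∧
    (χ ∈ glK3 (F := F) → (χ : G2 → ℂ) 1 = (Fintype.card F : ℂ) + 1) ∧
    (χ ∈ glPsi (F := F) → (χ : G2 → ℂ) 1 = (Fintype.card F : ℂ) - 1) := by
  refine ⟨?_, ?_, ?_, ?_⟩
  · intro h
    obtain ⟨α, -, rfl⟩ := Finset.mem_image.mp h
    exact glLam_one α
  · intro h
    obtain ⟨α, -, rfl⟩ := Finset.mem_image.mp h
    exact glSt_one α
  · intro h
    obtain ⟨p, -, rfl⟩ := Finset.mem_image.mp h
    exact glRirr_one _ _ _
  · intro h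
    exact (glPsi_values χ h).1

theorem mem_cases (χ : Irr2) :
    χ ∈ glK1 (F := F) ∨ χ ∈ glK2 (F := F) ∨ χ ∈ glK3 (F := F) ∨ χ ∈ glPsi (F := F) := by
  by_cases h1 : χ ∈ glK1 (F := F)
  · exact Or.inl h1
  by_cases h2 : χ ∈ glK2 (F := F)
  · exact Or.inr (Or.inl h2)
  by_cases h3 : χ ∈ glK3 (F := F)
  · exact Or.inr (Or.inr (Or.inl h3))
  · right; right; right
    rw [glPsi, Finset.mem_sdiff]
    refine ⟨Finset.mem_univ _, ?_⟩
    rw [Finset.mem_union, Finset.mem_union]
    tauto

theorem filter_eq (hq : 3 ≤ Fintype.card F) :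
    Finset.univ.filter (fun χ : Irr2 => (χ : G2 → ℂ) 1 = 1) = glK1 (F := F) ∧
    Finset.univ.filter (fun χ : Irr2 => (χ : G2 → ℂ) 1 = (Fintype.card F : ℂ)) = glK2 (F := F) ∧
    Finset.univ.filter (fun χ : Irr2 => (χ : G2 → ℂ) 1 = (Fintype.card F : ℂ) + 1) = glK3 (F := F) ∧
    Finset.univ.filter (fun χ : Irr2 => (χ : G2 → ℂ) 1 = (Fintype.card F : ℂ) - 1) =
      glPsi (F := F) := by
  obtain ⟨f1, f2, f3, f4, f5, f6⟩ := Cfsg.Agent.S2310.cast_facts hq
  refine ⟨?_, ?_, ?_, ?_⟩
  · ext χ
    obtain ⟨d1, d2, d3, d4⟩ := deg_of_mem χ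
    simp only [Finset.mem_filter, Finset.mem_univ, true_and]
    constructor
    · intro h
      rcases mem_cases χ with m | m | m | m
      · exact m
      · exact absurd ((d2 m).symm.trans h).symm f3
      · exact absurd ((d3 m).symm.trans h).symm f1
      · exact absurd ((d4 m).symm.trans h).symm f2
    · exact d1
  · ext χ
    obtain ⟨d1, d2, d3, d4⟩ := deg_of_mem χ
    simp only [Finset.mem_filter, Finset.mem_univ, true_and]
    constructor
    · intro h
      rcases mem_cases χ with m | m | m | m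
      · exact absurd ((d1 m).symm.trans h) f3
      · exact m
      · exact absurd ((d3 m).symm.trans h).symm f4
      · exact absurd ((d4 m).symm.trans h).symm f5
    · exact d2
  · ext χ
    obtain ⟨d1, d2, d3, d4⟩ := deg_of_mem χ
    simp only [Finset.mem_filter, Finset.mem_univ, true_and]
    constructor
    · intro h
      rcases mem_cases χ with m | m | m | m
      · exact absurd ((d1 m).symm.trans h) f1
      · exact absurd ((d2 m).symm.trans h) f4
      · exact m
      · exact absurd ((d4 m).symm.trans h).symm f6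
    · exact d3
  · ext χ
    obtain ⟨d1, d2, d3, d4⟩ := deg_of_mem χ
    simp only [Finset.mem_filter, Finset.mem_univ, true_and]
    constructor
    · intro h
      rcases mem_cases χ with m | m | m | m
      · exact absurd ((d1 m).symm.trans h) f2
      · exact absurd ((d2 m).symm.trans h) f5
      · exact absurd ((d3 m).symm.trans h) f6
      · exact m
    · exact d4

theorem card_glK1 : (glK1 (F := F)).card = Fintype.card F - 1 := by
  rw [glK1, Finset.card_image_of_injective _ glLam_injective, Finset.card_univ, card_mulChar]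

theorem card_glK2 : (glK2 (F := F)).card = Fintype.card F - 1 := by
  rw [glK2, Finset.card_image_of_injective _ glSt_injective, Finset.card_univ, card_mulChar]

end Count

/-- Over a finite field F with q elements, every irreducible complex character of GL₂ has degree 1, q − 1, q or q + 1; and when q ≥ 3 (so that these four numbers are distinct) there are exactly q − 1 irreducible characters of degree 1, exactly q − 1 of degree q, exactly (q − 1)(q − 2)/2 of degree q + 1 and exactly q(q − 1)/2 of degree q − 1. -/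
theorem result {F : Type*} [Field F] [Fintype F] :
    (∀ χ : Matrix.GeneralLinearGroup (Fin 2) F → ℂ, Cfsg.IsIrrCharacter (Matrix.GeneralLinearGroup (Fin 2) F) χ →
      χ 1 = 1 ∨ χ 1 = (Fintype.card F : ℂ) - 1 ∨ χ 1 = (Fintype.card F : ℂ) ∨ χ 1 = (Fintype.card F : ℂ) + 1) ∧
    (3 ≤ Fintype.card F →
      Nat.card {χ : Cfsg.IrrCharacter (Matrix.GeneralLinearGroup (Fin 2) F) // (χ : Matrix.GeneralLinearGroup (Fin 2) F → ℂ) 1 = 1} = Fintype.card F - 1 ∧
      Nat.card {χ : Cfsg.IrrCharacter (Matrix.GeneralLinearGroup (Fin 2) F) // (χ : Matrix.GeneralLinearGroup (Fin 2) F → ℂ) 1 = (Fintype.card F : ℂ)} = Fintype.card F - 1 ∧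
      Nat.card {χ : Cfsg.IrrCharacter (Matrix.GeneralLinearGroup (Fin 2) F) // (χ : Matrix.GeneralLinearGroup (Fin 2) F → ℂ) 1 = (Fintype.card F : ℂ) + 1} = (Fintype.card F - 1) * (Fintype.card F - 2) / 2 ∧
      Nat.card {χ : Cfsg.IrrCharacter (Matrix.GeneralLinearGroup (Fin 2) F) // (χ : Matrix.GeneralLinearGroup (Fin 2) F → ℂ) 1 = (Fintype.card F : ℂ) - 1} = Fintype.card F * (Fintype.card F - 1) / 2) := by
  classical
  haveI : Fintype (Cfsg.IrrCharacter (GL (Fin 2) F)) := Fintype.ofFinite _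
  haveI : Fintype (MulChar F ℂ) := Fintype.ofFinite _
  constructor
  · intro χ hχ
    obtain ⟨d1, d2, d3, d4⟩ := deg_of_mem (⟨χ, hχ⟩ : Cfsg.IrrCharacter (GL (Fin 2) F))
    rcases mem_cases (⟨χ, hχ⟩ : Cfsg.IrrCharacter (GL (Fin 2) F)) with m | m | m | m
    · exact Or.inl (d1 m)
    · exact Or.inr (Or.inr (Or.inl (d2 m)))
    · exact Or.inr (Or.inr (Or.inr (d3 m)))
    · exact Or.inr (Or.inl (d4 m))
  · intro hq
    obtain ⟨e1, e2, e3, e4⟩ := filter_eq (F := F) hq
    have h3 := two_card_glK3 (F := F)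
    have h4 := two_card_glPsi (F := F)
    obtain ⟨k, hk⟩ : ∃ k, Fintype.card F = k + 2 := ⟨Fintype.card F - 2, by omega⟩
    refine ⟨?_, ?_, ?_, ?_⟩
    · rw [Nat.card_eq_fintype_card, Fintype.card_subtype, e1, card_glK1]
    · rw [Nat.card_eq_fintype_card, Fintype.card_subtype, e2, card_glK2]
    · rw [Nat.card_eq_fintype_card, Fintype.card_subtype, e3]
      rw [hk] at h3 ⊢
      have e : (k + 2 - 1) * (k + 2 - 1) - (k + 2 - 1) = (k + 2 - 1) * (k + 2 - 2) := by
        have h1 : k + 2 - 1 = k + 1 := by omega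
        have h2 : k + 2 - 2 = k := by omega
        rw [h1, h2]
        have : (k + 1) * (k + 1) = (k + 1) * k + (k + 1) := by ring
        rw [this, Nat.add_sub_cancel]
      rw [e] at h3
      rw [← h3, Nat.mul_div_cancel_left _ (by norm_num : 0 < 2)]
    · rw [Nat.card_eq_fintype_card, Fintype.card_subtype, e4]
      rw [hk] at h4 ⊢
      have e : (k + 2 - 1) * (k + 2 - 1) + (k + 2 - 1) = (k + 2) * (k + 2 - 1) := by
        have h1 : k + 2 - 1 = k + 1 := by omega
        rw [h1]
        ring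
      rw [e] at h4
      rw [← h4, Nat.mul_div_cancel_left _ (by norm_num : 0 < 2)]

end Cfsg.Agent.S2298
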