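import Cfsg.Statements.S2325
import Cfsg.Agent.Lib.helper14.SL2Odd

set_option autoImplicit false
set_option linter.unusedSectionVars false
open Cfsg

namespace Cfsg.Agent.S2325

open Cfsg.Agent.Lib.helper14

section
variable {F : Type*} [Field F] [Fintype F]

local notation "SL2" => Matrix.SpecialLinearGroup (Fin 2) F
local notation "M2" => Matrix (Fin 2) (Fin 2) F

theorem card_mod (hodd : Odd (Fintype.card F)) : Fintype.card F % 2 = 1 := Nat.odd_iff.mp hodd

theorem char_ne_two (hodd : Odd (Fintype.card F)) : ringChar F ≠ 2 := by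
  intro h
  have := FiniteField.even_card_of_char_two h
  have := card_mod hodd
  omega

theorem two_ne_zero' (hodd : Odd (Fintype.card F)) : (2 : F) ≠ 0 :=
  Ring.two_ne_zero (char_ne_two hodd)

theorem one_ne_neg_one (hodd : Odd (Fintype.card F)) : (1 : F) ≠ -1 := by
  intro h
  apply two_ne_zero' hodd
  have : (2 : F) = 1 + 1 := by norm_num
  rw [this]
  nth_rewrite 1 [h]
  ring

theorem nonsq_mul (hodd : Odd (Fintype.card F)) (a b : F) (ha : ¬ IsSquare a) (hb : ¬ IsSquare b) :
    IsSquare (a * b) := by
  classical
  have ha0 : a ≠ 0 := by rintro rfl; exact ha ⟨0, by ring⟩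
  have hb0 : b ≠ 0 := by rintro rfl; exact hb ⟨0, by ring⟩
  rw [← quadraticChar_one_iff_isSquare (mul_ne_zero ha0 hb0), map_mul,
    quadraticChar_neg_one_iff_not_isSquare.mpr ha, quadraticChar_neg_one_iff_not_isSquare.mpr hb]
  norm_num

theorem isSquare_iff_of_mul (a b : F) (ha : a ≠ 0) (hb : b ≠ 0) (h : IsSquare (a * b)) :
    IsSquare a ↔ IsSquare b := by
  obtain ⟨s, hs⟩ := h
  constructor
  · rintro ⟨u, hu⟩
    have hu0 : u ≠ 0 := by rintro rfl; rw [mul_zero] at hu; exact ha hu
    refine ⟨s / u, ?_⟩
    rw [hu] at hs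
    field_simp
    linear_combination hs
  · rintro ⟨u, hu⟩
    have hu0 : u ≠ 0 := by rintro rfl; rw [mul_zero] at hu; exact hb hu
    refine ⟨s / u, ?_⟩
    rw [hu] at hs
    field_simp
    linear_combination hs

def eps (b : Bool) : F := if b then 1 else -1

theorem eps_sq (b : Bool) : eps (F := F) b * eps b = 1 := by
  cases b <;> simp [eps]

noncomputable def nu (hodd : Odd (Fintype.card F)) : F :=
  Classical.choose (FiniteField.exists_nonsquare (char_ne_two hodd))

theorem nu_spec (hodd : Odd (Fintype.card F)) : ¬ IsSquare (nu hodd) :=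
  Classical.choose_spec (FiniteField.exists_nonsquare (char_ne_two hodd))

noncomputable def nonsq (hodd : Odd (Fintype.card F)) (s : Bool) : F := if s then 1 else nu hodd

theorem nonsq_ne_zero (hodd : Odd (Fintype.card F)) (s : Bool) : nonsq hodd s ≠ 0 := by
  cases s
  · simp only [nonsq, Bool.false_eq_true, if_false]
    intro h
    apply nu_spec hodd
    rw [h]
    exact ⟨0, by ring⟩
  · simp [nonsq]

theorem nonsq_isSquare (hodd : Odd (Fintype.card F)) (s : Bool) : IsSquare (nonsq hodd s) ↔ s = true := by
  cases s
  · simp only [nonsq, Bool.false_eq_true, if_false, iff_false]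
    exact nu_spec hodd
  · simp [nonsq]

abbrev T (F : Type*) [Field F] := Bool ⊕ ((Bool × Bool) ⊕ {t : F // t * t ≠ 4})

theorem tr_sq_ne (t : F) (h1 : t ≠ 2) (h2 : t ≠ -2) : t * t ≠ 4 := by
  intro h
  have : (t - 2) * (t + 2) = 0 := by linear_combination h
  rcases mul_eq_zero.mp this with h' | h'
  · exact h1 (sub_eq_zero.mp h')
  · exact h2 (eq_neg_of_add_eq_zero_left h')

open Classical in
noncomputable def inv (g : SL2) : T F :=
  if IsScalar2 (g : M2) then Sum.inl (decide ((g : M2) 0 0 = 1))
  else if h1 : (g : M2).trace = 2 then Sum.inr (Sum.inl (true, decide (IsSquare (betaOf g))))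
  else if h2 : (g : M2).trace = -2 then Sum.inr (Sum.inl (false, decide (IsSquare (betaOf g))))
  else Sum.inr (Sum.inr ⟨(g : M2).trace, tr_sq_ne _ h1 h2⟩)

noncomputable def canon (hodd : Odd (Fintype.card F)) (τ : T F) : SL2 :=
  match τ with
  | Sum.inl b => if b then 1 else -1
  | Sum.inr (Sum.inl (e, s)) => Umat (eps e) (nonsq hodd s) (eps_sq e)
  | Sum.inr (Sum.inr t) => CmatSL t.1

theorem Umat_nonsq_conj (hodd : Odd (Fintype.card F)) (e : Bool) (β : F) (hβ : β ≠ 0) :
    IsConj (Umat (eps e) (nonsq hodd (open Classical in decide (IsSquare β))) (eps_sq e)) (Umat (eps e) β (eps_sq e)) := by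
  classical
  apply Umat_conj_of_isSquare _ _ _ _ (nonsq_ne_zero hodd _) hβ
  by_cases hs : IsSquare β
  · have : decide (IsSquare β) = true := decide_eq_true hs
    rw [this]
    simp only [nonsq, if_true, one_mul]
    exact hs
  · have : decide (IsSquare β) = false := decide_eq_false hs
    rw [this]
    simp only [nonsq, Bool.false_eq_true, if_false]
    exact nonsq_mul hodd _ _ (nu_spec hodd) hs

theorem conj_canon (hodd : Odd (Fintype.card F)) (g : SL2) : IsConj (canon hodd (inv g)) g := by
  classical
  have h2 := two_ne_zero' hodd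
  unfold inv
  by_cases hs : IsScalar2 (g : M2)
  · rw [if_pos hs]
    rcases scalar_sl2 g hs with h | h
    · subst h
      have : decide (((1 : SL2) : M2) 0 0 = 1) = true := decide_eq_true (by simp)
      rw [this]
      simp [canon]
    · subst h
      have : decide (((-1 : SL2) : M2) 0 0 = 1) = false := by
        apply decide_eq_false
        simp only [Matrix.SpecialLinearGroup.coe_neg, Matrix.SpecialLinearGroup.coe_one, Matrix.neg_apply,
          Matrix.one_apply_eq]
        exact fun h => one_ne_neg_one hodd h.symm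
      rw [this]
      simp [canon]
  · rw [if_neg hs]
    by_cases h1 : (g : M2).trace = 2
    · rw [dif_pos h1]
      have htr : (g : M2).trace = 2 * eps (F := F) true := by simp [eps, h1]
      obtain ⟨hβ, hc⟩ := parabolic_conj g (eps true) (eps_sq true) hs htr
      exact (Umat_nonsq_conj hodd true _ hβ).trans hc
    · rw [dif_neg h1]
      by_cases h2' : (g : M2).trace = -2
      · rw [dif_pos h2']
        have htr : (g : M2).trace = 2 * eps (F := F) false := by simp [eps, h2']
        obtain ⟨hβ, hc⟩ := parabolic_conj g (eps false) (eps_sq false) hs htr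
        exact (Umat_nonsq_conj hodd false _ hβ).trans hc
      · rw [dif_neg h2']
        exact regular_conj (card_mod hodd) h2 g hs (tr_sq_ne _ h1 h2')

theorem two_ne_neg_two (hodd : Odd (Fintype.card F)) : (2 : F) ≠ -2 := by
  intro h
  have h2 := two_ne_zero' hodd
  have : (2 : F) * 2 = 0 := by linear_combination h
  exact h2 (mul_self_eq_zero.mp this)

theorem Umat_not_scalar (ε β : F) (h : ε * ε = 1) (hβ : β ≠ 0) : ¬ IsScalar2 ((Umat ε β h : SL2) : M2) := by
  rintro ⟨h1, -, -⟩
  rw [Umat_coe] at h1
  apply hβ
  simpa using h1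

theorem Umat_trace (ε β : F) (h : ε * ε = 1) : ((Umat ε β h : SL2) : M2).trace = 2 * ε := by
  rw [Umat_coe, Matrix.trace_fin_two_of]
  ring

theorem Umat_betaOf (ε β : F) (h : ε * ε = 1) : betaOf (Umat ε β h) = β := by
  unfold betaOf
  rw [Umat_coe]
  simp

theorem inv_canon (hodd : Odd (Fintype.card F)) (τ : T F) : inv (canon hodd τ) = τ := by
  classical
  have h2 := two_ne_zero' hodd
  rcases τ with b | ⟨e, s⟩ | t
  · cases b
    · have hs : IsScalar2 (((-1 : SL2)) : M2) := by
        refine ⟨?_, ?_, ?_⟩ <;> simp
      show inv (-1 : SL2) = _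
      unfold inv
      rw [if_pos hs]
      congr 1
      apply decide_eq_false
      simp only [Matrix.SpecialLinearGroup.coe_neg, Matrix.SpecialLinearGroup.coe_one, Matrix.neg_apply,
        Matrix.one_apply_eq]
      exact fun h => one_ne_neg_one hodd h.symm
    · have hs : IsScalar2 (((1 : SL2)) : M2) := by
        refine ⟨?_, ?_, ?_⟩ <;> simp
      show inv (1 : SL2) = _
      unfold inv
      rw [if_pos hs]
      congr 1
      apply decide_eq_true
      simp
  · show inv (Umat (eps e) (nonsq hodd s) (eps_sq e)) = _
    have hns := Umat_not_scalar (eps e) (nonsq hodd s) (eps_sq e) (nonsq_ne_zero hodd s)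
    have hdec : decide (IsSquare (betaOf (Umat (eps e) (nonsq hodd s) (eps_sq e)))) = s := by
      rw [Umat_betaOf]
      cases s
      · exact decide_eq_false ((nonsq_isSquare hodd false).not.mpr (by simp))
      · exact decide_eq_true ((nonsq_isSquare hodd true).mpr rfl)
    unfold inv
    rw [if_neg hns]
    cases e
    · have htr : ((Umat (eps (F := F) false) (nonsq hodd s) (eps_sq false) : SL2) : M2).trace = -2 := by
        rw [Umat_trace]; simp [eps]
      have htr' : ((Umat (eps (F := F) false) (nonsq hodd s) (eps_sq false) : SL2) : M2).trace ≠ 2 := by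
        rw [htr]; exact fun h => two_ne_neg_two hodd h.symm
      rw [dif_neg htr', dif_pos htr, hdec]
    · have htr : ((Umat (eps (F := F) true) (nonsq hodd s) (eps_sq true) : SL2) : M2).trace = 2 := by
        rw [Umat_trace]; simp [eps]
      rw [dif_pos htr, hdec]
  · show inv (CmatSL t.1) = _
    have hns : ¬ IsScalar2 ((CmatSL t.1 : SL2) : M2) := compMat_not_scalar _ _
    have htr : ((CmatSL t.1 : SL2) : M2).trace = t.1 := compMat_trace _ _
    have h1 : ((CmatSL t.1 : SL2) : M2).trace ≠ 2 := by
      rw [htr]
      intro h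
      apply t.2
      rw [h]; norm_num
    have h1' : ((CmatSL t.1 : SL2) : M2).trace ≠ -2 := by
      rw [htr]
      intro h
      apply t.2
      rw [h]; norm_num
    unfold inv
    rw [if_neg hns, dif_neg h1, dif_neg h1']
    congr 2
    exact Subtype.ext htr

theorem trace_conj (g h : SL2) (hc : IsConj g h) : (g : M2).trace = (h : M2).trace := by
  obtain ⟨P, hP⟩ := isConj_iff.mp hc
  rw [← hP, sl2_coe_mul, sl2_coe_mul, Matrix.trace_mul_cycle, ← sl2_coe_mul, inv_mul_cancel, sl2_coe_one,
    Matrix.one_mul]

theorem scalar_conj (g h : SL2) (hc : IsConj g h) (hs : IsScalar2 (g : M2)) : g = h := by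
  obtain ⟨P, hP⟩ := isConj_iff.mp hc
  rw [← hP]
  apply Subtype.ext
  rw [sl2_coe_mul, sl2_coe_mul]
  symm
  apply isScalar2_conj
  · rw [← sl2_coe_mul, mul_inv_cancel, sl2_coe_one]
  · exact hs

theorem inv_para (hodd : Odd (Fintype.card F)) (g h : SL2) (hc : IsConj g h) (hns : ¬ IsScalar2 (g : M2))
    (hns' : ¬ IsScalar2 (h : M2)) (e : Bool) (htr : (g : M2).trace = 2 * eps e) :
    (open Classical in decide (IsSquare (betaOf g))) = (open Classical in decide (IsSquare (betaOf h))) := by
  classical
  have htr' : (h : M2).trace = 2 * eps e := by rw [← trace_conj g h hc, htr]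
  obtain ⟨hb, hcg⟩ := parabolic_conj g (eps e) (eps_sq e) hns htr
  obtain ⟨hb', hch⟩ := parabolic_conj h (eps e) (eps_sq e) hns' htr'
  have := isSquare_of_Umat_conj _ _ _ _ hb hb' ((hcg.trans hc).trans hch.symm)
  have hiff := isSquare_iff_of_mul _ _ hb hb' this
  exact decide_eq_decide.mpr hiff

theorem inv_conj (hodd : Odd (Fintype.card F)) (g h : SL2) (hc : IsConj g h) : inv g = inv h := by
  classical
  by_cases hs : IsScalar2 (g : M2)
  · rw [scalar_conj g h hc hs]
  · have hs' : ¬ IsScalar2 (h : M2) := by
      intro hs'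
      apply hs
      rw [← scalar_conj h g hc.symm hs']
      exact hs'
    have htr := trace_conj g h hc
    unfold inv
    rw [if_neg hs, if_neg hs']
    by_cases h1 : (g : M2).trace = 2
    · have h1' : (h : M2).trace = 2 := by rw [← htr, h1]
      rw [dif_pos h1, dif_pos h1']
      have := inv_para hodd g h hc hs hs' true (by simp [eps, h1])
      rw [this]
    · have h1' : ¬ (h : M2).trace = 2 := by rw [← htr]; exact h1
      rw [dif_neg h1, dif_neg h1']
      by_cases h2 : (g : M2).trace = -2
      · have h2' : (h : M2).trace = -2 := by rw [← htr, h2]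
        rw [dif_pos h2, dif_pos h2']
        have := inv_para hodd g h hc hs hs' false (by simp [eps, h2])
        rw [this]
      · have h2' : ¬ (h : M2).trace = -2 := by rw [← htr]; exact h2
        rw [dif_neg h2, dif_neg h2']
        congr 2
        exact Subtype.ext htr

noncomputable def classEquiv (hodd : Odd (Fintype.card F)) : ConjClasses SL2 ≃ T F :=
  Equiv.ofBijective
    (Quotient.lift (s := IsConj.setoid SL2) inv (fun a b hab => inv_conj hodd a b hab))
    ⟨by
      intro x y hxy
      induction x using Quotient.inductionOn with | _ a => ?_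
      induction y using Quotient.inductionOn with | _ b => ?_
      apply Quotient.sound
      show IsConj a b
      have hxy' : inv a = inv b := hxy
      have h1 := conj_canon hodd a
      have h2 := conj_canon hodd b
      rw [hxy'] at h1
      exact h1.symm.trans h2,
    by
      intro τ
      exact ⟨Quotient.mk _ (canon hodd τ), inv_canon hodd τ⟩⟩

theorem card_ne4 (hodd : Odd (Fintype.card F)) [DecidableEq F] :
    Fintype.card {t : F // t * t ≠ 4} = Fintype.card F - 2 := by
  rw [Fintype.card_subtype_compl, Fintype.card_subtype]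
  congr 1
  have : (Finset.univ.filter fun t : F => t * t = 4) = {2, -2} := by
    ext t
    simp only [Finset.mem_filter, Finset.mem_univ, true_and, Finset.mem_insert, Finset.mem_singleton]
    constructor
    · intro h
      by_contra hn
      push_neg at hn
      exact tr_sq_ne t hn.1 hn.2 h
    · rintro (rfl | rfl) <;> norm_num
  rw [this, Finset.card_pair (two_ne_neg_two hodd)]

end

theorem result {F : Type*} [Field F] [Fintype F] (hodd : Odd (Fintype.card F)) :
    Nat.card (ConjClasses (Matrix.SpecialLinearGroup (Fin 2) F)) = Fintype.card F + 4 := by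
  classical
  rw [Nat.card_congr (classEquiv hodd), Nat.card_eq_fintype_card, Fintype.card_sum, Fintype.card_sum,
    Fintype.card_prod, Fintype.card_bool, card_ne4 hodd]
  have : 3 ≤ Fintype.card F := by
    have h1 := Fintype.one_lt_card (α := F)
    have h2 := card_mod hodd
    omega
  omega

end Cfsg.Agent.S2325
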