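import Cfsg.Statements.S2299
import Cfsg.Agent.Lib.helper14.SL2OddChar
import Cfsg.Agent.S2298
import Cfsg.Agent.S2325
import Cfsg.Agent.S0133

set_option autoImplicit false
open Cfsg

namespace Cfsg.Agent.S2299

open Cfsg.Agent.Lib.helper14

section Count

variable {F : Type*} [Field F] [Fintype F] [DecidableEq F]
variable [Fintype (Cfsg.IrrCharacter (GL (Fin 2) F))] [Fintype (MulChar F ℂ)]
variable [Fintype (Cfsg.IrrCharacter (Matrix.SpecialLinearGroup (Fin 2) F))]

local notation "G2" => GL (Fin 2) F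
local notation "S2" => Matrix.SpecialLinearGroup (Fin 2) F
local notation "Irr2" => Cfsg.IrrCharacter (GL (Fin 2) F)
local notation "IrrS" => Cfsg.IrrCharacter (Matrix.SpecialLinearGroup (Fin 2) F)

open Classical

noncomputable def nS (F : Type*) [Field F] [Fintype F]
    [Fintype (Cfsg.IrrCharacter (Matrix.SpecialLinearGroup (Fin 2) F))] (e : ℕ) : ℕ :=
  (Finset.univ.filter (fun ψ : Cfsg.IrrCharacter (Matrix.SpecialLinearGroup (Fin 2) F) =>
    (ψ : Matrix.SpecialLinearGroup (Fin 2) F → ℂ) 1 = (e : ℂ))).card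

noncomputable def tG (F : Type*) [Field F] [Fintype F]
    [Fintype (Cfsg.IrrCharacter (GL (Fin 2) F))] (e : ℕ) : ℕ :=
  (Finset.univ.filter (fun χ : Cfsg.IrrCharacter (GL (Fin 2) F) =>
    (χ : GL (Fin 2) F → ℂ) 1 = (e : ℂ))).card

noncomputable def aG (F : Type*) [Field F] [Fintype F] [DecidableEq F]
    [Fintype (Cfsg.IrrCharacter (GL (Fin 2) F))] [Fintype (MulChar F ℂ)] (e : ℕ) : ℕ :=
  (Finset.univ.filter (fun χ : Cfsg.IrrCharacter (GL (Fin 2) F) =>
    twI χ = 1 ∧ (χ : GL (Fin 2) F → ℂ) 1 = (e : ℂ))).card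

noncomputable def bG (F : Type*) [Field F] [Fintype F] [DecidableEq F]
    [Fintype (Cfsg.IrrCharacter (GL (Fin 2) F))] [Fintype (MulChar F ℂ)] (e : ℕ) : ℕ :=
  (Finset.univ.filter (fun χ : Cfsg.IrrCharacter (GL (Fin 2) F) =>
    twI χ ≠ 1 ∧ (χ : GL (Fin 2) F → ℂ) 1 = (e : ℂ))).card

theorem star_nat (e : ℕ) (he : e ≠ 0) :
    (Fintype.card F - 1) * nS F e = aG F e + 4 * bG F (2 * e) := by
  have h := count_star (F := F) (e : ℂ) (Nat.cast_ne_zero.mpr he)
  have hc : ((Fintype.card F : ℂ) - 1) = ((Fintype.card F - 1 : ℕ) : ℂ) := by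
    have : 1 ≤ Fintype.card F := Fintype.card_pos
    rw [Nat.cast_sub this]
    simp
  have h2 : (2 : ℂ) * (e : ℂ) = ((2 * e : ℕ) : ℂ) := by push_cast; ring
  rw [hc, h2] at h
  unfold nS aG bG
  exact_mod_cast h

theorem a_add_b (e : ℕ) : aG F e + bG F e = tG F e := by
  unfold aG bG tG
  have h1 : Finset.univ.filter (fun χ : Irr2 => twI χ = 1 ∧ (χ : G2 → ℂ) 1 = (e : ℂ)) =
      (Finset.univ.filter (fun χ : Irr2 => (χ : G2 → ℂ) 1 = (e : ℂ))).filter
        (fun χ => twI χ = 1) := by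
    rw [Finset.filter_filter]
    apply Finset.filter_congr
    intro χ _
    exact and_comm
  have h2 : Finset.univ.filter (fun χ : Irr2 => twI χ ≠ 1 ∧ (χ : G2 → ℂ) 1 = (e : ℂ)) =
      (Finset.univ.filter (fun χ : Irr2 => (χ : G2 → ℂ) 1 = (e : ℂ))).filter
        (fun χ => ¬ twI χ = 1) := by
    rw [Finset.filter_filter]
    apply Finset.filter_congr
    intro χ _
    exact and_comm
  rw [h1, h2]
  exact Finset.card_filter_add_card_filter_not _


theorem cast_qm1 : ((Fintype.card F - 1 : ℕ) : ℂ) = (Fintype.card F : ℂ) - 1 := by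
  have : 1 ≤ Fintype.card F := Fintype.card_pos
  rw [Nat.cast_sub this]
  simp

theorem tG_values (hq : 3 ≤ Fintype.card F) :
    tG F 1 = Fintype.card F - 1 ∧ tG F (Fintype.card F) = Fintype.card F - 1 ∧
    tG F (Fintype.card F + 1) = (glK3 (F := F)).card ∧
    tG F (Fintype.card F - 1) = (glPsi (F := F)).card := by
  obtain ⟨e1, e2, e3, e4⟩ := Cfsg.Agent.S2298.filter_eq (F := F) hq
  unfold tG
  refine ⟨?_, ?_, ?_, ?_⟩
  · rw [Nat.cast_one, e1, Cfsg.Agent.S2298.card_glK1]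
  · rw [e2, Cfsg.Agent.S2298.card_glK2]
  · rw [Nat.cast_add, Nat.cast_one, e3]
  · rw [cast_qm1, e4]

theorem tG_zero (e : ℕ) (h1 : e ≠ 1) (h2 : e + 1 ≠ Fintype.card F) (h3 : e ≠ Fintype.card F)
    (h4 : e ≠ Fintype.card F + 1) : tG F e = 0 := by
  unfold tG
  rw [Finset.card_eq_zero, Finset.filter_eq_empty_iff]
  intro χ _ hχ
  obtain ⟨d1, d2, d3, d4⟩ := Cfsg.Agent.S2298.deg_of_mem χ
  rcases Cfsg.Agent.S2298.mem_cases χ with m | m | m | m
  · rw [d1 m] at hχ
    apply h1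
    exact_mod_cast hχ.symm
  · rw [d2 m] at hχ
    apply h3
    exact_mod_cast hχ.symm
  · rw [d3 m] at hχ
    apply h4
    exact_mod_cast hχ.symm
  · rw [d4 m] at hχ
    apply h2
    have : ((e + 1 : ℕ) : ℂ) = ((Fintype.card F : ℕ) : ℂ) := by
      push_cast
      linear_combination -hχ
    exact_mod_cast this

theorem bG_one (hq : 3 ≤ Fintype.card F) : bG F 1 = 0 := by
  obtain ⟨e1, e2, e3, e4⟩ := Cfsg.Agent.S2298.filter_eq (F := F) hq
  unfold bG
  rw [Finset.card_eq_zero, Finset.filter_eq_empty_iff]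
  rintro χ - ⟨hχ1, hχ2⟩
  rw [Nat.cast_one] at hχ2
  have hm : χ ∈ glK1 (F := F) := by
    rw [← e1, Finset.mem_filter]
    exact ⟨Finset.mem_univ _, hχ2⟩
  obtain ⟨α, -, rfl⟩ := Finset.mem_image.mp hm
  exact hχ1 (twI_glLam α)

theorem bG_q (hq : 3 ≤ Fintype.card F) (hodd : Odd (Fintype.card F)) :
    bG F (Fintype.card F) = 0 := by
  obtain ⟨e1, e2, e3, e4⟩ := Cfsg.Agent.S2298.filter_eq (F := F) hq
  unfold bG
  rw [Finset.card_eq_zero, Finset.filter_eq_empty_iff]
  rintro χ - ⟨hχ1, hχ2⟩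
  have hm : χ ∈ glK2 (F := F) := by
    rw [← e2, Finset.mem_filter]
    exact ⟨Finset.mem_univ _, hχ2⟩
  obtain ⟨α, -, rfl⟩ := Finset.mem_image.mp hm
  exact hχ1 (twI_glSt hodd α)

theorem two_bG_qp1 (hq : 3 ≤ Fintype.card F) (hodd : Odd (Fintype.card F)) :
    2 * bG F (Fintype.card F + 1) = Fintype.card F - 1 := by
  obtain ⟨e1, e2, e3, e4⟩ := Cfsg.Agent.S2298.filter_eq (F := F) hq
  have h := two_card_glK3_tw (F := F) hodd
  have : bG F (Fintype.card F + 1) = ((glK3 (F := F)).filter (fun χ => twI χ ≠ 1)).card := by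
    unfold bG
    congr 1
    rw [← e3, Finset.filter_filter]
    apply Finset.filter_congr
    intro χ _
    rw [Nat.cast_add, Nat.cast_one]
    exact and_comm
  rw [this]
  rw [← cast_qm1] at h
  exact_mod_cast h


/-- the degree of an irreducible character of `SL₂`, `q` odd, as a natural number -/
theorem degree_cases (hodd : Odd (Fintype.card F)) (ψ : IrrS) (n : ℕ) (hn0 : 0 < n)
    (hn : (ψ : S2 → ℂ) 1 = (n : ℂ)) :
    n = 1 ∨ n = Fintype.card F ∨ n = Fintype.card F + 1 ∨ n + 1 = Fintype.card F ∨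
      2 * n = Fintype.card F + 1 ∨ 2 * n + 1 = Fintype.card F := by
  have hq : 3 ≤ Fintype.card F := by
    have h2 : 2 ≤ Fintype.card F := Fintype.one_lt_card
    obtain ⟨k, hk⟩ := hodd
    omega
  have hstar := star_nat (F := F) n hn0.ne'
  have hpos : 0 < nS F n := by
    unfold nS
    apply Finset.card_pos.mpr
    exact ⟨ψ, by rw [Finset.mem_filter]; exact ⟨Finset.mem_univ _, hn⟩⟩
  have hlhs : 0 < (Fintype.card F - 1) * nS F n := Nat.mul_pos (by omega) hpos
  have hor : 0 < aG F n ∨ 0 < bG F (2 * n) := by omega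
  rcases hor with h | h
  · unfold aG at h
    obtain ⟨χ, hχ⟩ := Finset.card_pos.mp h
    rw [Finset.mem_filter] at hχ
    obtain ⟨-, -, hχ1⟩ := hχ
    obtain ⟨d1, d2, d3, d4⟩ := Cfsg.Agent.S2298.deg_of_mem χ
    rcases Cfsg.Agent.S2298.mem_cases χ with m | m | m | m
    · left
      rw [d1 m] at hχ1
      exact_mod_cast hχ1.symm
    · right; left
      rw [d2 m] at hχ1
      exact_mod_cast hχ1.symm
    · right; right; left
      rw [d3 m] at hχ1
      exact_mod_cast hχ1.symm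
    · right; right; right; left
      rw [d4 m] at hχ1
      have : ((n + 1 : ℕ) : ℂ) = ((Fintype.card F : ℕ) : ℂ) := by
        push_cast
        linear_combination -hχ1
      exact_mod_cast this
  · unfold bG at h
    obtain ⟨χ, hχ⟩ := Finset.card_pos.mp h
    rw [Finset.mem_filter] at hχ
    obtain ⟨-, hχ0, hχ1⟩ := hχ
    obtain ⟨d1, d2, d3, d4⟩ := Cfsg.Agent.S2298.deg_of_mem χ
    rcases Cfsg.Agent.S2298.mem_cases χ with m | m | m | m
    · exfalso
      obtain ⟨α, -, rfl⟩ := Finset.mem_image.mp m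
      exact hχ0 (twI_glLam α)
    · exfalso
      obtain ⟨α, -, rfl⟩ := Finset.mem_image.mp m
      exact hχ0 (twI_glSt hodd α)
    · right; right; right; right; left
      rw [d3 m] at hχ1
      have : ((2 * n : ℕ) : ℂ) = ((Fintype.card F + 1 : ℕ) : ℂ) := by
        push_cast
        push_cast at hχ1
        linear_combination -hχ1
      exact_mod_cast this
    · right; right; right; right; right
      rw [d4 m] at hχ1
      have : ((2 * n + 1 : ℕ) : ℂ) = ((Fintype.card F : ℕ) : ℂ) := by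
        push_cast
        push_cast at hχ1
        linear_combination -hχ1
      exact_mod_cast this


theorem total_count (hodd : Odd (Fintype.card F)) (m : ℕ) (hm2 : 2 ≤ m)
    (hm : Fintype.card F = 2 * m + 1) :
    nS F 1 + (nS F (2 * m + 1) + (nS F (2 * m + 2) + (nS F (2 * m) + (nS F (m + 1) + nS F m)))) =
      2 * m + 5 := by
  have hcard : Fintype.card IrrS = Fintype.card F + 4 := by
    rw [← Nat.card_eq_fintype_card, Cfsg.Agent.S0133.result, Cfsg.Agent.S2325.result hodd]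
  rw [hm] at hcard
  rw [← Finset.card_univ] at hcard
  rw [Finset.card_eq_sum_card_fiberwise
    (s := (Finset.univ : Finset IrrS))
    (t := (({1, 2 * m + 1, 2 * m + 2, 2 * m, m + 1, m} : Finset ℕ).image (Nat.cast : ℕ → ℂ)))
    (f := fun ψ : IrrS => (ψ : S2 → ℂ) 1)] at hcard
  · rw [Finset.sum_image (fun a _ b _ h => Nat.cast_injective h)] at hcard
    rw [Finset.sum_insert, Finset.sum_insert, Finset.sum_insert, Finset.sum_insert,
      Finset.sum_insert, Finset.sum_singleton] at hcard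
    · have e : (2 * m + 1 + 4) = 2 * m + 5 := by ring
      rw [← e, ← hcard]
      rfl
    · simp only [Finset.mem_singleton]; omega
    · simp only [Finset.mem_insert, Finset.mem_singleton]; omega
    · simp only [Finset.mem_insert, Finset.mem_singleton]; omega
    · simp only [Finset.mem_insert, Finset.mem_singleton]; omega
    · simp only [Finset.mem_insert, Finset.mem_singleton]; omega
  · intro ψ _
    obtain ⟨n, hn0, hn⟩ := Cfsg.Agent.Lib.Helper25.irr_one_eq_finrank ψ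
    have hc := degree_cases hodd ψ n hn0 hn
    rw [hm] at hc
    simp only [Finset.coe_image, Finset.coe_insert, Finset.coe_singleton, Set.mem_image,
      Set.mem_insert_iff, Set.mem_singleton_iff]
    refine ⟨n, ?_, hn.symm⟩
    omega


theorem arith (m n1 nq nqp nqm nh nl K3 K4 B3 B4 : ℕ) (hm2 : 2 ≤ m)
    (f1 : 2 * m * n1 = 2 * m) (f2 : 2 * m * nq = 2 * m) (f3 : 2 * m * nqp + B3 = K3)
    (f4 : 2 * m * nqm + B4 = K4) (f5 : 2 * m * nh = 4 * B3) (f6 : 2 * m * nl = 4 * B4)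
    (k3 : 2 * K3 = 2 * m * (2 * m) - 2 * m) (k4 : 2 * K4 = 2 * m * (2 * m) + 2 * m)
    (b3 : 2 * B3 = 2 * m)
    (htot : n1 + (nq + (nqp + (nqm + (nh + nl)))) = 2 * m + 5) :
    n1 = 1 ∧ nq = 1 ∧ nqp = m - 1 ∧ nqm = m ∧ nh = 2 ∧ nl = 2 := by
  have p1 : 2 * m * n1 = 2 * (m * n1) := by ring
  have p2 : 2 * m * nq = 2 * (m * nq) := by ring
  have p3 : 2 * m * nqp = 2 * (m * nqp) := by ring
  have p4 : 2 * m * nqm = 2 * (m * nqm) := by ring
  have p5 : 2 * m * nh = 2 * (m * nh) := by ring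
  have p6 : 2 * m * nl = 2 * (m * nl) := by ring
  have pk : 2 * m * (2 * m) = 4 * (m * m) := by ring
  have ptot : m * n1 + (m * nq + (m * nqp + (m * nqm + (m * nh + m * nl)))) =
      2 * (m * m) + 5 * m := by
    have := congrArg (fun x => m * x) htot
    rw [mul_add, mul_add, mul_add, mul_add, mul_add] at this
    rw [this]
    ring
  rw [p1] at f1
  rw [p2] at f2
  rw [p3] at f3
  rw [p4] at f4
  rw [p5] at f5
  rw [p6] at f6
  rw [pk] at k3 k4
  have hle : m ≤ m * m := Nat.le_mul_self m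
  have hm0 : 0 < m := by omega
  have x1 : m * n1 = m * 1 := by omega
  have x2 : m * nq = m * 1 := by omega
  have x5 : m * nh = m * 2 := by omega
  have x3 : m * nqp = m * (m - 1) := by
    have : m * (m - 1) = m * m - m := by
      rw [Nat.mul_sub, mul_one]
    rw [this]
    omega
  have x4 : m * nqm = m * m := by omega
  have x6 : m * nl = m * 2 := by omega
  exact ⟨Nat.eq_of_mul_eq_mul_left hm0 x1, Nat.eq_of_mul_eq_mul_left hm0 x2,
    Nat.eq_of_mul_eq_mul_left hm0 x3, Nat.eq_of_mul_eq_mul_left hm0 x4,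
    Nat.eq_of_mul_eq_mul_left hm0 x5, Nat.eq_of_mul_eq_mul_left hm0 x6⟩

theorem counts (hodd : Odd (Fintype.card F)) (m : ℕ) (hm2 : 2 ≤ m)
    (hm : Fintype.card F = 2 * m + 1) :
    nS F 1 = 1 ∧ nS F (2 * m + 1) = 1 ∧ nS F (2 * m + 2) = m - 1 ∧ nS F (2 * m) = m ∧
      nS F (m + 1) = 2 ∧ nS F m = 2 := by
  have hq3 : 3 ≤ Fintype.card F := by omega
  obtain ⟨t1, t2, t3, t4⟩ := tG_values (F := F) hq3
  have k3 := two_card_glK3 (F := F)
  have k4 := two_card_glPsi (F := F)
  have b1 := bG_one (F := F) hq3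
  have bq := bG_q (F := F) hq3 hodd
  have b3 := two_bG_qp1 (F := F) hq3 hodd
  have htot := total_count hodd m hm2 hm
  have s1 := star_nat (F := F) 1 (by norm_num)
  have s2 := star_nat (F := F) (2 * m + 1) (by omega)
  have s3 := star_nat (F := F) (2 * m + 2) (by omega)
  have s4 := star_nat (F := F) (2 * m) (by omega)
  have s5 := star_nat (F := F) (m + 1) (by omega)
  have s6 := star_nat (F := F) m (by omega)
  have ab1 := a_add_b (F := F) 1
  have ab2 := a_add_b (F := F) (2 * m + 1)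
  have ab3 := a_add_b (F := F) (2 * m + 2)
  have ab4 := a_add_b (F := F) (2 * m)
  have ab5 := a_add_b (F := F) (m + 1)
  have ab6 := a_add_b (F := F) m
  have ab1' := a_add_b (F := F) (2 * 1)
  have ab2' := a_add_b (F := F) (2 * (2 * m + 1))
  have ab3' := a_add_b (F := F) (2 * (2 * m + 2))
  have ab4' := a_add_b (F := F) (2 * (2 * m))
  have z1 : tG F (2 * 1) = 0 := tG_zero _ (by omega) (by omega) (by omega) (by omega)
  have z2 : tG F (2 * (2 * m + 1)) = 0 := tG_zero _ (by omega) (by omega) (by omega) (by omega)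
  have z3 : tG F (2 * (2 * m + 2)) = 0 := tG_zero _ (by omega) (by omega) (by omega) (by omega)
  have z4 : tG F (2 * (2 * m)) = 0 := tG_zero _ (by omega) (by omega) (by omega) (by omega)
  have z5 : tG F (m + 1) = 0 := tG_zero _ (by omega) (by omega) (by omega) (by omega)
  have z6 : tG F m = 0 := tG_zero _ (by omega) (by omega) (by omega) (by omega)
  have e5 : 2 * (m + 1) = 2 * m + 2 := by ring
  rw [e5] at s5
  rw [hm] at t1 t2 t3 t4 k3 k4 bq b3 s1 s2 s3 s4 s5 s6
  simp only [Nat.add_sub_cancel] at t1 t2 t3 t4 k3 k4 bq b3 s1 s2 s3 s4 s5 s6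
  have e6 : 2 * m + 1 + 1 = 2 * m + 2 := by ring
  rw [e6] at t3 b3
  have f1 : 2 * m * nS F 1 = 2 * m := by omega
  have f2 : 2 * m * nS F (2 * m + 1) = 2 * m := by omega
  have f3 : 2 * m * nS F (2 * m + 2) + bG F (2 * m + 2) = (glK3 (F := F)).card := by omega
  have f4 : 2 * m * nS F (2 * m) + bG F (2 * m) = (glPsi (F := F)).card := by omega
  have f5 : 2 * m * nS F (m + 1) = 4 * bG F (2 * m + 2) := by omega
  have f6 : 2 * m * nS F m = 4 * bG F (2 * m) := by omega
  exact arith m _ _ _ _ _ _ _ _ _ _ hm2 f1 f2 f3 f4 f5 f6 k3 k4 b3 htot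


theorem card_sub_eq (d : ℂ) (e : ℕ) (h : d = (e : ℂ)) :
    Nat.card {χ : IrrS // (χ : S2 → ℂ) 1 = d} = nS F e := by
  subst h
  rw [Nat.card_eq_fintype_card, Fintype.card_subtype]
  rfl

end Count


/-- Over a finite field F with q elements, q odd, every irreducible complex character of SL₂ has degree 1, q, q + 1, q − 1, (q + 1)/2 or (q − 1)/2; and when q ≥ 5 (so that these six numbers are distinct) there are exactly one irreducible character of degree 1, one of degree q, (q − 3)/2 of degree q + 1, (q − 1)/2 of degree q − 1, two of degree (q + 1)/2 and two of degree (q − 1)/2. -/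
theorem result {F : Type*} [Field F] [Fintype F] (hodd : Odd (Fintype.card F)) :
    (∀ χ : Matrix.SpecialLinearGroup (Fin 2) F → ℂ, Cfsg.IsIrrCharacter (Matrix.SpecialLinearGroup (Fin 2) F) χ →
      χ 1 = 1 ∨ χ 1 = (Fintype.card F : ℂ) ∨ χ 1 = (Fintype.card F : ℂ) + 1 ∨ χ 1 = (Fintype.card F : ℂ) - 1 ∨
        χ 1 = (((Fintype.card F + 1) / 2 : ℕ) : ℂ) ∨ χ 1 = (((Fintype.card F - 1) / 2 : ℕ) : ℂ)) ∧
    (5 ≤ Fintype.card F →
      Nat.card {χ : Cfsg.IrrCharacter (Matrix.SpecialLinearGroup (Fin 2) F) // (χ : Matrix.SpecialLinearGroup (Fin 2) F → ℂ) 1 = 1} = 1 ∧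
      Nat.card {χ : Cfsg.IrrCharacter (Matrix.SpecialLinearGroup (Fin 2) F) // (χ : Matrix.SpecialLinearGroup (Fin 2) F → ℂ) 1 = (Fintype.card F : ℂ)} = 1 ∧
      Nat.card {χ : Cfsg.IrrCharacter (Matrix.SpecialLinearGroup (Fin 2) F) // (χ : Matrix.SpecialLinearGroup (Fin 2) F → ℂ) 1 = (Fintype.card F : ℂ) + 1} = (Fintype.card F - 3) / 2 ∧
      Nat.card {χ : Cfsg.IrrCharacter (Matrix.SpecialLinearGroup (Fin 2) F) // (χ : Matrix.SpecialLinearGroup (Fin 2) F → ℂ) 1 = (Fintype.card F : ℂ) - 1} = (Fintype.card F - 1) / 2 ∧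
      Nat.card {χ : Cfsg.IrrCharacter (Matrix.SpecialLinearGroup (Fin 2) F) // (χ : Matrix.SpecialLinearGroup (Fin 2) F → ℂ) 1 = (((Fintype.card F + 1) / 2 : ℕ) : ℂ)} = 2 ∧
      Nat.card {χ : Cfsg.IrrCharacter (Matrix.SpecialLinearGroup (Fin 2) F) // (χ : Matrix.SpecialLinearGroup (Fin 2) F → ℂ) 1 = (((Fintype.card F - 1) / 2 : ℕ) : ℂ)} = 2) := by
  classical
  haveI : Fintype (Cfsg.IrrCharacter (GL (Fin 2) F)) := Fintype.ofFinite _
  haveI : Fintype (Cfsg.IrrCharacter (Matrix.SpecialLinearGroup (Fin 2) F)) := Fintype.ofFinite _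
  haveI : Fintype (MulChar F ℂ) := Fintype.ofFinite _
  constructor
  · intro χ hχ
    obtain ⟨n, hn0, hn⟩ := Cfsg.Agent.Lib.Helper25.irr_one_eq_finrank
      (⟨χ, hχ⟩ : Cfsg.IrrCharacter (Matrix.SpecialLinearGroup (Fin 2) F))
    change χ 1 = (n : ℂ) at hn
    have hc := degree_cases hodd ⟨χ, hχ⟩ n hn0 hn
    rw [hn]
    rcases hc with h | h | h | h | h | h
    · left
      rw [h]; simp
    · right; left
      rw [h]
    · right; right; left
      rw [h]; push_cast; ring
    · right; right; right; left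
      rw [← h]; push_cast; ring
    · right; right; right; right; left
      have : (Fintype.card F + 1) / 2 = n := by omega
      rw [this]
    · right; right; right; right; right
      have : (Fintype.card F - 1) / 2 = n := by omega
      rw [this]
  · intro hq
    obtain ⟨m, hm⟩ := hodd
    have hm2 : 2 ≤ m := by omega
    obtain ⟨c1, c2, c3, c4, c5, c6⟩ := counts (F := F) ⟨m, hm⟩ m hm2 hm
    refine ⟨?_, ?_, ?_, ?_, ?_, ?_⟩
    · rw [card_sub_eq 1 1 (by simp), c1]
    · rw [card_sub_eq _ (2 * m + 1) (by rw [hm]), c2]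
    · rw [card_sub_eq _ (2 * m + 2) (by rw [hm]; push_cast; ring), c3]
      omega
    · rw [card_sub_eq _ (2 * m) (by rw [hm]; push_cast; ring), c4]
      omega
    · rw [card_sub_eq _ (m + 1) (by congr 1; omega), c5]
    · rw [card_sub_eq _ m (by congr 1; omega), c6]

end Cfsg.Agent.S2299
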