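import Cfsg.Statements.S2331
import Cfsg.Agent.Lib.helper14.Mat2

set_option autoImplicit false
set_option linter.unusedSectionVars false
open Cfsg

namespace Cfsg.Agent.S2331

open Cfsg.Agent.Lib.helper14

section
variable {F : Type*} [Field F] [Fintype F] [CharP F 2]

local notation "SL2" => Matrix.SpecialLinearGroup (Fin 2) F
local notation "M2" => Matrix (Fin 2) (Fin 2) F

theorem two_zero : (2 : F) = 0 := by
  have := CharP.cast_eq_zero F 2
  exact_mod_cast this

theorem exists_sqrt (x : F) : ∃ y : F, y * y = x := by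
  have hF : ringChar F = 2 := ringChar.eq F 2
  obtain ⟨y, hy⟩ := FiniteField.isSquare_of_char_two hF x
  exact ⟨y, hy.symm⟩

theorem coe_one_sl : ((1 : SL2) : M2) = 1 := rfl

theorem coe_mul_sl (a b : SL2) : ((a * b : SL2) : M2) = (a : M2) * (b : M2) := rfl

theorem scalar_iff_one (g : SL2) : IsScalar2 (g : M2) ↔ g = 1 := by
  constructor
  · intro h
    have h2 : (2 : F) = 0 := two_zero
    have hd : (g : M2).det = 1 := g.2
    rw [Matrix.det_fin_two, h.1, h.2.1, ← h.2.2] at hd
    have h00 : (g : M2) 0 0 = 1 := by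
      have : ((g : M2) 0 0 - 1) * ((g : M2) 0 0 - 1) = 0 := by
        linear_combination hd + (1 - (g : M2) 0 0) * h2
      have := mul_self_eq_zero.mp this
      exact sub_eq_zero.mp this
    apply Subtype.ext
    rw [coe_one_sl, (isScalar2_iff _).mp h, h00, Matrix.one_fin_two]
  · intro h
    rw [h, coe_one_sl]
    refine ⟨?_, ?_, ?_⟩ <;> simp

def Cmat (t : F) : SL2 := ⟨compMat t 1, compMat_det t 1⟩

theorem coe_Cmat (t : F) : ((Cmat t : SL2) : M2) = compMat t 1 := rfl

theorem Cmat_ne_one (t : F) : Cmat t ≠ 1 := by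
  intro h
  have := (scalar_iff_one (Cmat t)).mpr h
  rw [coe_Cmat] at this
  exact compMat_not_scalar t 1 this

theorem conj_Cmat (g : SL2) (hg : g ≠ 1) : IsConj g (Cmat (g : M2).trace) := by
  have hns : ¬ IsScalar2 (g : M2) := fun h => hg ((scalar_iff_one g).mp h)
  obtain ⟨P, hP, hc⟩ := exists_conj_compMat (g : M2) hns
  have hd : (g : M2).det = 1 := g.2
  rw [hd] at hc
  obtain ⟨x, hx⟩ := exists_sqrt (P.det⁻¹)
  have hxP : x * x * P.det = 1 := by rw [hx]; exact inv_mul_cancel₀ hP
  let Q : SL2 := ⟨x • P, by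
    rw [Matrix.det_smul, Fintype.card_fin]
    linear_combination hxP⟩
  rw [isConj_comm, isConj_iff]
  refine ⟨Q, ?_⟩
  rw [mul_inv_eq_iff_eq_mul]
  apply Subtype.ext
  show (x • P) * compMat (g : M2).trace 1 = (g : M2) * (x • P)
  rw [Matrix.smul_mul, Matrix.mul_smul, hc]

open Classical in
noncomputable def inv2 (g : SL2) : Option F :=
  if g = 1 then none else some (g : M2).trace

theorem conj_ne_one (g c : SL2) (hg : g ≠ 1) : c * g * c⁻¹ ≠ 1 := by
  intro h
  apply hg
  have : g = c⁻¹ * (c * g * c⁻¹) * c := by group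
  rw [this, h]; group

theorem trace_conj (g c : SL2) : ((c * g * c⁻¹ : SL2) : M2).trace = (g : M2).trace := by
  rw [coe_mul_sl, coe_mul_sl, Matrix.trace_mul_comm, ← Matrix.mul_assoc, ← coe_mul_sl, inv_mul_cancel,
    coe_one_sl, Matrix.one_mul]

theorem inv2_conj (g c : SL2) : inv2 (c * g * c⁻¹) = inv2 g := by
  by_cases h : g = 1
  · subst h
    have : c * 1 * c⁻¹ = (1 : SL2) := by group
    rw [this]
  · unfold inv2
    rw [if_neg h, if_neg (conj_ne_one g c h), trace_conj]

theorem inv2_eq_iff (g h : SL2) : inv2 g = inv2 h ↔ IsConj g h := by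
  constructor
  · intro e
    by_cases hg : g = 1
    · by_cases hh : h = 1
      · rw [hg, hh]
      · unfold inv2 at e
        rw [if_pos hg, if_neg hh] at e
        exact absurd e (by simp)
    · by_cases hh : h = 1
      · unfold inv2 at e
        rw [if_neg hg, if_pos hh] at e
        exact absurd e (by simp)
      · unfold inv2 at e
        rw [if_neg hg, if_neg hh] at e
        have e' : (g : M2).trace = (h : M2).trace := Option.some.inj e
        have h1 := conj_Cmat g hg
        have h2 := conj_Cmat h hh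
        rw [e'] at h1
        exact h1.trans h2.symm
  · intro hc
    obtain ⟨c, hc⟩ := isConj_iff.mp hc
    rw [← hc, inv2_conj]

theorem inv2_surj : Function.Surjective (inv2 (F := F)) := by
  intro x
  rcases x with _ | t
  · refine ⟨1, ?_⟩
    unfold inv2
    rw [if_pos rfl]
  · refine ⟨Cmat t, ?_⟩
    unfold inv2
    rw [if_neg (Cmat_ne_one t), coe_Cmat, compMat_trace]

noncomputable def classEquiv : ConjClasses SL2 ≃ Option F :=
  Equiv.ofBijective
    (Quotient.lift (s := IsConj.setoid SL2) inv2 (fun a b hab => (inv2_eq_iff a b).mpr hab))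
    ⟨by
      intro x y
      induction x using Quotient.inductionOn
      induction y using Quotient.inductionOn
      intro h
      apply Quotient.sound
      exact (inv2_eq_iff _ _).mp h,
     by
      intro y
      obtain ⟨g, hg⟩ := inv2_surj y
      exact ⟨Quotient.mk _ g, hg⟩⟩

end

theorem result {F : Type*} [Field F] [Fintype F] [CharP F 2] :
    Nat.card (ConjClasses (Matrix.SpecialLinearGroup (Fin 2) F)) = Fintype.card F + 1 := by
  classical
  rw [Nat.card_congr classEquiv, Nat.card_eq_fintype_card, Fintype.card_option]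

end Cfsg.Agent.S2331
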