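import Cfsg.Statements.S2300
import Cfsg.Agent.Lib.helper14.SL2Even
import Cfsg.Agent.S2298
import Cfsg.Agent.S2331
import Cfsg.Agent.S0133

set_option autoImplicit false
open Cfsg

namespace Cfsg.Agent.S2300

open Cfsg.Agent.Lib.helper14

section Aux

variable {F : Type*} [Field F] [Fintype F] [CharP F 2] [DecidableEq F]

local notation "G2" => GL (Fin 2) F
local notation "S2" => Matrix.SpecialLinearGroup (Fin 2) F

open Classical

/-- the twisting injection bounds the number of characters of `SL₂` of a given degree -/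
theorem card_mul_le (d : ℂ) [Fintype (Cfsg.IrrCharacter S2)] [Fintype (Cfsg.IrrCharacter G2)]
    [Fintype (MulChar F ℂ)] :
    Fintype.card {ψ : Cfsg.IrrCharacter S2 // (ψ : S2 → ℂ) 1 = d} * (Fintype.card F - 1) ≤
      Fintype.card {χ : Cfsg.IrrCharacter G2 // (χ : G2 → ℂ) 1 = d} := by
  rw [← card_mulChar (F := F), ← Fintype.card_prod]
  apply Fintype.card_le_of_injective
    (fun p : {ψ : Cfsg.IrrCharacter S2 // (ψ : S2 → ℂ) 1 = d} × MulChar F ℂ =>
      (⟨glTw (p.1.1, p.2), by rw [glTw_one]; exact p.1.2⟩ :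
        {χ : Cfsg.IrrCharacter G2 // (χ : G2 → ℂ) 1 = d}))
  rintro ⟨⟨ψ, hψ⟩, l⟩ ⟨⟨ψ', hψ'⟩, l'⟩ h
  have h1 := congrArg Subtype.val h
  have h2 := glTw_injective h1
  simp only [Prod.mk.injEq] at h2
  obtain ⟨rfl, rfl⟩ := h2
  rfl

end Aux

/-- Over a finite field F with q elements, q even, every irreducible complex character of SL₂ has degree 1, q − 1, q or q + 1; and when q ≥ 4 (so that these four numbers are distinct) there are exactly one irreducible character of degree 1, one of degree q, (q − 2)/2 of degree q + 1 and q/2 of degree q − 1. -/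
theorem result {F : Type*} [Field F] [Fintype F] [CharP F 2] :
    (∀ χ : Matrix.SpecialLinearGroup (Fin 2) F → ℂ, Cfsg.IsIrrCharacter (Matrix.SpecialLinearGroup (Fin 2) F) χ →
      χ 1 = 1 ∨ χ 1 = (Fintype.card F : ℂ) - 1 ∨ χ 1 = (Fintype.card F : ℂ) ∨ χ 1 = (Fintype.card F : ℂ) + 1) ∧
    (4 ≤ Fintype.card F →
      Nat.card {χ : Cfsg.IrrCharacter (Matrix.SpecialLinearGroup (Fin 2) F) // (χ : Matrix.SpecialLinearGroup (Fin 2) F → ℂ) 1 = 1} = 1 ∧
      Nat.card {χ : Cfsg.IrrCharacter (Matrix.SpecialLinearGroup (Fin 2) F) // (χ : Matrix.SpecialLinearGroup (Fin 2) F → ℂ) 1 = (Fintype.card F : ℂ)} = 1 ∧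
      Nat.card {χ : Cfsg.IrrCharacter (Matrix.SpecialLinearGroup (Fin 2) F) // (χ : Matrix.SpecialLinearGroup (Fin 2) F → ℂ) 1 = (Fintype.card F : ℂ) + 1} = (Fintype.card F - 2) / 2 ∧
      Nat.card {χ : Cfsg.IrrCharacter (Matrix.SpecialLinearGroup (Fin 2) F) // (χ : Matrix.SpecialLinearGroup (Fin 2) F → ℂ) 1 = (Fintype.card F : ℂ) - 1} = Fintype.card F / 2) := by
  classical
  haveI : Fintype (Cfsg.IrrCharacter (GL (Fin 2) F)) := Fintype.ofFinite _
  haveI : Fintype (Cfsg.IrrCharacter (Matrix.SpecialLinearGroup (Fin 2) F)) := Fintype.ofFinite _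
  haveI : Fintype (MulChar F ℂ) := Fintype.ofFinite _
  have hdegs : ∀ χ : Matrix.SpecialLinearGroup (Fin 2) F → ℂ,
      Cfsg.IsIrrCharacter (Matrix.SpecialLinearGroup (Fin 2) F) χ →
      χ 1 = 1 ∨ χ 1 = (Fintype.card F : ℂ) - 1 ∨ χ 1 = (Fintype.card F : ℂ) ∨
        χ 1 = (Fintype.card F : ℂ) + 1 := by
    intro χ hχ
    have h := (Cfsg.Agent.S2298.result (F := F)).1 _ (glInfl ⟨χ, hχ⟩).2
    rw [glInfl_apply, map_one] at h
    exact h
  refine ⟨hdegs, ?_⟩
  intro hq
  obtain ⟨g1, gq, gqp, gqm⟩ := (Cfsg.Agent.S2298.result (F := F)).2 (by omega)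
  rw [Nat.card_eq_fintype_card] at g1 gq gqp gqm
  have b1 := card_mul_le (F := F) 1
  have bq := card_mul_le (F := F) (Fintype.card F : ℂ)
  have bqp := card_mul_le (F := F) ((Fintype.card F : ℂ) + 1)
  have bqm := card_mul_le (F := F) ((Fintype.card F : ℂ) - 1)
  rw [g1] at b1
  rw [gq] at bq
  rw [gqp] at bqp
  rw [gqm] at bqm
  -- total count
  have htot : Fintype.card (Cfsg.IrrCharacter (Matrix.SpecialLinearGroup (Fin 2) F)) =
      Fintype.card F + 1 := by
    rw [← Nat.card_eq_fintype_card, Cfsg.Agent.S0133.result, Cfsg.Agent.S2331.result]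
  obtain ⟨f1, f2, f3, f4, f5, f6⟩ := Cfsg.Agent.S2310.cast_facts (n := Fintype.card F) (by omega)
  have hsum : Fintype.card (Cfsg.IrrCharacter (Matrix.SpecialLinearGroup (Fin 2) F)) =
      Fintype.card {χ : Cfsg.IrrCharacter (Matrix.SpecialLinearGroup (Fin 2) F) // (χ : Matrix.SpecialLinearGroup (Fin 2) F → ℂ) 1 = 1} +
      (Fintype.card {χ : Cfsg.IrrCharacter (Matrix.SpecialLinearGroup (Fin 2) F) // (χ : Matrix.SpecialLinearGroup (Fin 2) F → ℂ) 1 = (Fintype.card F : ℂ) - 1} +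
      (Fintype.card {χ : Cfsg.IrrCharacter (Matrix.SpecialLinearGroup (Fin 2) F) // (χ : Matrix.SpecialLinearGroup (Fin 2) F → ℂ) 1 = (Fintype.card F : ℂ)} +
      Fintype.card {χ : Cfsg.IrrCharacter (Matrix.SpecialLinearGroup (Fin 2) F) // (χ : Matrix.SpecialLinearGroup (Fin 2) F → ℂ) 1 = (Fintype.card F : ℂ) + 1})) := by
    rw [← Finset.card_univ]
    rw [Finset.card_eq_sum_card_fiberwise (s := (Finset.univ : Finset (Cfsg.IrrCharacter (Matrix.SpecialLinearGroup (Fin 2) F))))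
      (t := ({1, (Fintype.card F : ℂ) - 1, (Fintype.card F : ℂ), (Fintype.card F : ℂ) + 1} : Finset ℂ))
      (f := fun χ : Cfsg.IrrCharacter (Matrix.SpecialLinearGroup (Fin 2) F) => (χ : Matrix.SpecialLinearGroup (Fin 2) F → ℂ) 1)]
    · rw [Finset.sum_insert, Finset.sum_insert, Finset.sum_insert, Finset.sum_singleton]
      · simp only [Fintype.card_subtype]
      · simp only [Finset.mem_singleton]
        exact f4
      · simp only [Finset.mem_insert, Finset.mem_singleton, not_or]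
        exact ⟨f5.symm, f6.symm⟩
      · simp only [Finset.mem_insert, Finset.mem_singleton, not_or]
        exact ⟨f2, f3, f1⟩
    · intro χ _
      simp only [Finset.coe_insert, Finset.coe_singleton, Set.mem_insert_iff, Set.mem_singleton_iff]
      exact hdegs _ χ.2
  rw [htot] at hsum
  -- parity
  have heven : Fintype.card F % 2 = 0 := FiniteField.even_card_of_char_two (ringChar.eq F 2)
  obtain ⟨m, hm⟩ : ∃ m, Fintype.card F = 2 * m := ⟨Fintype.card F / 2, by omega⟩
  have hm2 : 2 ≤ m := by omega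
  simp only [Nat.card_eq_fintype_card]
  set a1 := Fintype.card {χ : Cfsg.IrrCharacter (Matrix.SpecialLinearGroup (Fin 2) F) // (χ : Matrix.SpecialLinearGroup (Fin 2) F → ℂ) 1 = 1}
  set aq := Fintype.card {χ : Cfsg.IrrCharacter (Matrix.SpecialLinearGroup (Fin 2) F) // (χ : Matrix.SpecialLinearGroup (Fin 2) F → ℂ) 1 = (Fintype.card F : ℂ)}
  set aqp := Fintype.card {χ : Cfsg.IrrCharacter (Matrix.SpecialLinearGroup (Fin 2) F) // (χ : Matrix.SpecialLinearGroup (Fin 2) F → ℂ) 1 = (Fintype.card F : ℂ) + 1}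
  set aqm := Fintype.card {χ : Cfsg.IrrCharacter (Matrix.SpecialLinearGroup (Fin 2) F) // (χ : Matrix.SpecialLinearGroup (Fin 2) F → ℂ) 1 = (Fintype.card F : ℂ) - 1}
  rw [hm] at b1 bq bqp bqm hsum ⊢
  obtain ⟨k, hk⟩ : ∃ k, 2 * m - 1 = k + 1 := ⟨2 * m - 2, by omega⟩
  have e1 : (2 * m - 1) * (2 * m - 2) / 2 = (k + 1) * (m - 1) := by
    have : (2 * m - 1) * (2 * m - 2) = 2 * ((k + 1) * (m - 1)) := by
      rw [hk]
      have : 2 * m - 2 = 2 * (m - 1) := by omega
      rw [this]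
      ring
    rw [this, Nat.mul_div_cancel_left _ (by norm_num : 0 < 2)]
  have e2 : 2 * m * (2 * m - 1) / 2 = m * (k + 1) := by
    have : 2 * m * (2 * m - 1) = 2 * (m * (k + 1)) := by
      rw [hk]
      ring
    rw [this, Nat.mul_div_cancel_left _ (by norm_num : 0 < 2)]
  rw [e1] at bqp
  rw [e2] at bqm
  rw [hk] at b1 bq bqp bqm
  have c1 : a1 ≤ 1 := by
    have : a1 * (k + 1) ≤ 1 * (k + 1) := by rw [one_mul]; exact b1
    exact Nat.le_of_mul_le_mul_right this (by omega)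
  have cq : aq ≤ 1 := by
    have : aq * (k + 1) ≤ 1 * (k + 1) := by rw [one_mul]; exact bq
    exact Nat.le_of_mul_le_mul_right this (by omega)
  have cqp : aqp ≤ m - 1 := by
    have : aqp * (k + 1) ≤ (m - 1) * (k + 1) := by rw [mul_comm (m - 1)]; exact bqp
    exact Nat.le_of_mul_le_mul_right this (by omega)
  have cqm : aqm ≤ m := by
    exact Nat.le_of_mul_le_mul_right bqm (by omega)
  refine ⟨by omega, by omega, by omega, by omega⟩

end Cfsg.Agent.S2300
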