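import Cfsg.Statements.S2321
import Cfsg.Agent.Lib.helper14.SL2Res

set_option autoImplicit false
open Cfsg

namespace Cfsg.Agent.S2321

open Cfsg.Agent.Lib.helper14 Cfsg.Agent.S2304

section Aux

variable {F : Type*} [Field F] [Fintype F] [DecidableEq F]
variable [Fintype (Cfsg.IrrCharacter (GL (Fin 2) F))] [Fintype (MulChar F ℂ)]

local notation "G2" => GL (Fin 2) F
local notation "S2" => Matrix.SpecialLinearGroup (Fin 2) F
local notation "M2" => Matrix (Fin 2) (Fin 2) F
local notation "Irr2" => Cfsg.IrrCharacter (GL (Fin 2) F)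

open Classical

/-- An irreducible character of `GL₂` whose degree is a multiple `M * q` of `q` is a Steinberg
twist, and `M = 1`. -/
theorem eq_glSt_of_deg_mul (χ : Irr2) (M : ℕ) (hM : 1 ≤ M)
    (hdeg : (χ : G2 → ℂ) 1 = (M : ℂ) * (Fintype.card F : ℂ)) :
    M = 1 ∧ ∃ α : MulChar F ℂ, χ = glSt α := by
  have hq : 2 ≤ Fintype.card F := Fintype.one_lt_card
  have hMq : Fintype.card F ≤ M * Fintype.card F := Nat.le_mul_of_pos_left _ hM
  rcases gl_classification χ with ⟨α, rfl⟩ | ⟨α, rfl⟩ | ⟨α, β, h, rfl⟩ | h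
  · exfalso
    rw [glLam_one] at hdeg
    have h1 : M * Fintype.card F = 1 := by exact_mod_cast hdeg.symm
    omega
  · rw [glSt_one] at hdeg
    have h1 : M * Fintype.card F = Fintype.card F := by exact_mod_cast hdeg.symm
    refine ⟨?_, α, rfl⟩
    have h2 : M * Fintype.card F = 1 * Fintype.card F := by rw [h1, one_mul]
    exact Nat.eq_of_mul_eq_mul_right (by omega) h2
  · exfalso
    rw [glRirr_one] at hdeg
    have h1 : M * Fintype.card F = Fintype.card F + 1 := by exact_mod_cast hdeg.symm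
    have h2 : Fintype.card F ∣ Fintype.card F + 1 := ⟨M, by rw [← h1, mul_comm]⟩
    have h3 : Fintype.card F ∣ 1 := (Nat.dvd_add_right (dvd_refl _)).mp h2
    have := Nat.le_of_dvd one_pos h3
    omega
  · exfalso
    rw [(glPsi_values χ h).1] at hdeg
    have h1 : ((M * Fintype.card F + 1 : ℕ) : ℂ) = ((Fintype.card F : ℕ) : ℂ) := by
      push_cast
      linear_combination -hdeg
    have h2 : M * Fintype.card F + 1 = Fintype.card F := by exact_mod_cast h1
    omega

end Aux

/-- Over a finite field F with q elements, an irreducible complex character of SL₂ of degree q (the Steinberg character) takes the value 1 at every diagonal matrix whose diagonal entry a has a² ≠ 1, the value −1 at every element with no eigenvector in F², and the value 0 at every upper triangular matrix with equal diagonal entries and non-zero upper right entry. -/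
theorem result {F : Type*} [Field F] [Fintype F] (χ : Matrix.SpecialLinearGroup (Fin 2) F → ℂ) (hχ : Cfsg.IsIrrCharacter (Matrix.SpecialLinearGroup (Fin 2) F) χ) (hdeg : χ 1 = (Fintype.card F : ℂ)) (g : Matrix.SpecialLinearGroup (Fin 2) F) :
    ((g : Matrix (Fin 2) (Fin 2) F) 0 1 = 0 → (g : Matrix (Fin 2) (Fin 2) F) 1 0 = 0 → (g : Matrix (Fin 2) (Fin 2) F) 0 0 ^ 2 ≠ 1 → χ g = 1) ∧
    ((∀ (c : F) (v : Fin 2 → F), v ≠ 0 → (g : Matrix (Fin 2) (Fin 2) F).mulVec v ≠ c • v) → χ g = -1) ∧
    ((g : Matrix (Fin 2) (Fin 2) F) 1 0 = 0 → (g : Matrix (Fin 2) (Fin 2) F) 0 0 = (g : Matrix (Fin 2) (Fin 2) F) 1 1 → (g : Matrix (Fin 2) (Fin 2) F) 0 1 ≠ 0 → χ g = 0) := by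
  classical
  haveI : Fintype (Cfsg.IrrCharacter (GL (Fin 2) F)) := Fintype.ofFinite _
  haveI : Fintype (MulChar F ℂ) := Fintype.ofFinite _
  obtain ⟨η, hη, M, hM1, hM2, hM3⟩ := exists_above χ hχ
  rw [hdeg] at hM2
  obtain ⟨hM, α, hα⟩ := eq_glSt_of_deg_mul (⟨η, hη⟩ : Cfsg.IrrCharacter (GL (Fin 2) F)) M hM1 hM2
  have hval : χ g = (glSt α : GL (Fin 2) F → ℂ) (Matrix.SpecialLinearGroup.toGL g) := by
    rw [← hM3 hM g, ← hα]
  have hcoe : ((Matrix.SpecialLinearGroup.toGL g : GL (Fin 2) F) : Matrix (Fin 2) (Fin 2) F) =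
      (g : Matrix (Fin 2) (Fin 2) F) := rfl
  have hdet : (g : Matrix (Fin 2) (Fin 2) F).det = 1 := g.2
  rw [hval, glSt_apply, hcoe, hdet, map_one]
  refine ⟨?_, ?_, ?_⟩
  · intro h01 h10 hsq
    rw [Matrix.det_fin_two, h01, h10, mul_zero, sub_zero] at hdet
    have hne : (g : Matrix (Fin 2) (Fin 2) F) 0 0 ≠ (g : Matrix (Fin 2) (Fin 2) F) 1 1 := by
      intro h
      apply hsq
      rw [pow_two]
      rw [← h] at hdet
      exact hdet
    rw [glR_diag α α _ (by rw [hcoe]; exact h01) (by rw [hcoe]; exact h10) (by rw [hcoe]; exact hne),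
      hcoe, ← map_mul, ← map_mul, mul_comm ((g : Matrix (Fin 2) (Fin 2) F) 1 1), hdet, map_one]
    norm_num
  · intro hg
    rw [glR_noEig α α _ (by rw [hcoe]; exact hg)]
    norm_num
  · intro h10 heq h01
    have := value_unip α α (Matrix.SpecialLinearGroup.toGL g) (by rw [hcoe]; exact h10)
      (by rw [hcoe]; exact heq) (by rw [hcoe]; exact h01)
    rw [glR, this, hcoe, ← map_mul]
    rw [Matrix.det_fin_two, h10, mul_zero, sub_zero, ← heq] at hdet
    rw [hdet, map_one]
    norm_num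

end Cfsg.Agent.S2321
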