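import Cfsg.Statements.S4765
import Cfsg.Agent.Lib.helper14.SL2Half2
import Cfsg.Agent.S2299
import Cfsg.Agent.S2300
import Cfsg.Agent.S2321
import Cfsg.Agent.S0181
import Cfsg.Agent.S0139
import Cfsg.Agent.Lib.Helper25.CharQuot

set_option autoImplicit false
open Cfsg

namespace Cfsg.Agent.S4765

open Cfsg.Agent.Lib.helper14 Cfsg.Agent.Lib.helper7 Cfsg.Agent.Lib.Helper25

section General

variable {G : Type*} [Group G]

/-- inflation of an irreducible character of a quotient -/
theorem infl_irr (K : Subgroup G) [K.Normal] (χ : G ⧸ K → ℂ)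
    (hχ : Cfsg.IsIrrCharacter (G ⧸ K) χ) :
    Cfsg.IsIrrCharacter G (fun g => χ (g : G ⧸ K)) := by
  obtain ⟨n, σ, hσ, hc⟩ := hχ
  haveI := hσ
  refine ⟨n, σ.comp (QuotientGroup.mk' K),
    Cfsg.Agent.S0181.comp_surj_irreducible σ (QuotientGroup.mk' K)
      (QuotientGroup.mk'_surjective K), ?_⟩
  funext g
  rw [← hc]
  rfl

/-- an irreducible character trivial on a normal subgroup descends to the quotient -/
theorem descend_irr [Finite G] (K : Subgroup G) [K.Normal] (ψ : G → ℂ)
    (hψ : Cfsg.IsIrrCharacter G ψ) (hK : ∀ k ∈ K, ψ k = ψ 1) :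
    ∃ χ : G ⧸ K → ℂ, Cfsg.IsIrrCharacter (G ⧸ K) χ ∧ ∀ g : G, χ (g : G ⧸ K) = ψ g := by
  obtain ⟨n, ρ, hρ, hc⟩ := hψ
  haveI := hρ
  have hle : K ≤ ρ.ker := by
    intro k hk
    rw [MonoidHom.mem_ker]
    have h1 := hK k hk
    rw [← hc, Representation.char_one] at h1
    exact (Cfsg.Agent.S0139.result ρ k).mp h1
  let σ : Representation ℂ (G ⧸ K) (Fin n → ℂ) := QuotientGroup.lift K ρ hle
  refine ⟨σ.character, ⟨n, σ, quotient_irreducible ρ K hle, rfl⟩, ?_⟩
  intro g
  rw [← hc]
  rfl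

end General

section SL

variable {F : Type*} [Field F] [Fintype F] [DecidableEq F]

local notation "S2" => Matrix.SpecialLinearGroup (Fin 2) F
local notation "M2" => Matrix (Fin 2) (Fin 2) F

/-- an element which is neither `0` nor a square root of `1` -/
theorem exists_sq_ne_one (hF : 4 ≤ Fintype.card F) : ∃ a : F, a ≠ 0 ∧ a ^ 2 ≠ 1 := by
  by_contra hcon
  have hcon : ∀ a : F, a ≠ 0 → a ^ 2 = 1 := by
    intro a ha
    by_contra h
    exact hcon ⟨a, ha, h⟩
  have hsub : (Finset.univ : Finset F) ⊆ {0, 1, -1} := by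
    intro a _
    by_cases ha : a = 0
    · simp [ha]
    · have h1 := hcon a ha
      have : (a - 1) * (a + 1) = 0 := by linear_combination h1
      rcases mul_eq_zero.mp this with h | h
      · have : a = 1 := by linear_combination h
        simp [this]
      · have : a = -1 := by linear_combination h
        simp [this]
  have h1 := Finset.card_le_card hsub
  rw [Finset.card_univ] at h1
  have h2 : ({0, 1, -1} : Finset F).card ≤ 3 := Finset.card_le_three
  omega

/-- the irreducible character of degree `q` of `SL₂` is trivial on the centre -/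
theorem deg_q_center (hF : 4 ≤ Fintype.card F) (ψ : S2 → ℂ) (hψ : Cfsg.IsIrrCharacter S2 ψ)
    (hdeg : ψ 1 = (Fintype.card F : ℂ)) (z : S2) (hz : z ∈ Subgroup.center S2) : ψ z = ψ 1 := by
  obtain ⟨ω, hω, -⟩ := sl_central_sign ψ hψ
  obtain ⟨a, ha0, ha⟩ := exists_sq_ne_one hF
  let d : S2 := ⟨!![a, 0; 0, a⁻¹], by rw [Matrix.det_fin_two_of]; simp [mul_inv_cancel₀ ha0]⟩
  have hd : ((d : S2) : M2) = !![a, 0; 0, a⁻¹] := rfl
  have h1 := (Cfsg.Agent.S2321.result ψ hψ hdeg d).1 (by rw [hd]; simp) (by rw [hd]; simp)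
    (by rw [hd]; simpa using ha)
  have h2 := (Cfsg.Agent.S2321.result ψ hψ hdeg (-d)).1
    (by rw [Matrix.SpecialLinearGroup.coe_neg, hd]; simp)
    (by rw [Matrix.SpecialLinearGroup.coe_neg, hd]; simp)
    (by rw [Matrix.SpecialLinearGroup.coe_neg, hd]; simpa using ha)
  rw [hω, h1, mul_one] at h2
  have hneg : ψ (-1) = ψ 1 := by rw [hω, h2, one_mul]
  have hsc : IsScalar2 (z : M2) := by
    obtain ⟨r, -, hr⟩ := Matrix.SpecialLinearGroup.mem_center_iff.mp hz
    rw [← hr]
    refine ⟨by simp, by simp, by simp⟩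
  rcases scalar_sl2 z hsc with h | h
  · rw [h]
  · rw [h, hneg]

end SL

/-- Let F be a finite field of characteristic p with at least 4 elements. Then PSL(2,F) has exactly one irreducible complex character of degree divisible by p, and its degree is the order of F. -/
theorem result (p : ℕ) [Fact p.Prime] (F : Type*) [Field F] [Fintype F] [CharP F p] (hF : 4 ≤ Fintype.card F) : Nat.card {χ : Cfsg.IrrCharacter (Matrix.ProjectiveSpecialLinearGroup (Fin 2) F) // p ∣ Cfsg.charDegree (χ : Matrix.ProjectiveSpecialLinearGroup (Fin 2) F → ℂ)} = 1 ∧ ∀ χ : Cfsg.IrrCharacter (Matrix.ProjectiveSpecialLinearGroup (Fin 2) F), p ∣ Cfsg.charDegree (χ : Matrix.ProjectiveSpecialLinearGroup (Fin 2) F → ℂ) → Cfsg.charDegree (χ : Matrix.ProjectiveSpecialLinearGroup (Fin 2) F → ℂ) = Fintype.card F := by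
  classical
  have hp : p.Prime := Fact.out
  obtain ⟨n, -, hcard⟩ := FiniteField.card F p
  have hpq : p ∣ Fintype.card F := by
    rw [hcard]
    exact dvd_pow_self p n.ne_zero
  have hp2 : 2 ≤ p := hp.two_le
  -- degrees of the irreducible characters of `SL₂`, and uniqueness in degree `q`
  have key : (∀ ψ : Matrix.SpecialLinearGroup (Fin 2) F → ℂ,
      Cfsg.IsIrrCharacter (Matrix.SpecialLinearGroup (Fin 2) F) ψ →
      ∃ d : ℕ, ψ 1 = (d : ℂ) ∧ (p ∣ d → d = Fintype.card F)) ∧
      Nat.card {χ : Cfsg.IrrCharacter (Matrix.SpecialLinearGroup (Fin 2) F) //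
        (χ : Matrix.SpecialLinearGroup (Fin 2) F → ℂ) 1 = (Fintype.card F : ℂ)} = 1 := by
    have hq1 : 1 ≤ Fintype.card F := by omega
    have hcast : (Fintype.card F : ℂ) - 1 = ((Fintype.card F - 1 : ℕ) : ℂ) := by
      rw [Nat.cast_sub hq1]; simp
    have ndvd1 : ¬ p ∣ 1 := by
      intro h
      have := Nat.le_of_dvd one_pos h
      omega
    have ndvdp : ¬ p ∣ Fintype.card F + 1 := by
      intro h
      exact ndvd1 ((Nat.dvd_add_right hpq).mp h)
    have ndvdm : ¬ p ∣ Fintype.card F - 1 := by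
      intro h
      apply ndvd1
      have h2 : p ∣ (Fintype.card F - 1) + 1 := by
        rw [Nat.sub_add_cancel hq1]; exact hpq
      exact (Nat.dvd_add_right h).mp h2
    by_cases h2 : p = 2
    · subst h2
      obtain ⟨hdeg, hcount⟩ := Cfsg.Agent.S2300.result (F := F)
      refine ⟨?_, (hcount hF).2.1⟩
      intro ψ hψ
      rcases hdeg ψ hψ with h | h | h | h
      · exact ⟨1, by rw [h]; simp, fun hd => absurd hd ndvd1⟩
      · exact ⟨Fintype.card F - 1, by rw [h, hcast], fun hd => absurd hd ndvdm⟩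
      · exact ⟨Fintype.card F, h, fun _ => rfl⟩
      · exact ⟨Fintype.card F + 1, by rw [h]; simp, fun hd => absurd hd ndvdp⟩
    · have hpodd : Odd p := hp.odd_of_ne_two h2
      have hodd : Odd (Fintype.card F) := by
        rw [hcard]
        exact hpodd.pow
      obtain ⟨m, hm⟩ := hodd
      have hq5 : 5 ≤ Fintype.card F := by omega
      obtain ⟨hdeg, hcount⟩ := Cfsg.Agent.S2299.result (F := F) ⟨m, hm⟩
      refine ⟨?_, (hcount hq5).2.1⟩
      intro ψ hψ
      rcases hdeg ψ hψ with h | h | h | h | h | h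
      · exact ⟨1, by rw [h]; simp, fun hd => absurd hd ndvd1⟩
      · exact ⟨Fintype.card F, h, fun _ => rfl⟩
      · exact ⟨Fintype.card F + 1, by rw [h]; simp, fun hd => absurd hd ndvdp⟩
      · exact ⟨Fintype.card F - 1, by rw [h, hcast], fun hd => absurd hd ndvdm⟩
      · refine ⟨(Fintype.card F + 1) / 2, h, fun hd => ?_⟩
        exfalso
        apply ndvdp
        have : Fintype.card F + 1 = (Fintype.card F + 1) / 2 * 2 := by omega
        rw [this]
        exact Dvd.dvd.mul_right hd 2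
      · refine ⟨(Fintype.card F - 1) / 2, h, fun hd => ?_⟩
        exfalso
        apply ndvdm
        have : Fintype.card F - 1 = (Fintype.card F - 1) / 2 * 2 := by omega
        rw [this]
        exact Dvd.dvd.mul_right hd 2
  obtain ⟨hdeg, hcount⟩ := key
  -- inflation
  have hinfl : ∀ χ : Cfsg.IrrCharacter (Matrix.ProjectiveSpecialLinearGroup (Fin 2) F),
      Cfsg.IsIrrCharacter (Matrix.SpecialLinearGroup (Fin 2) F)
        (fun g => (χ : Matrix.ProjectiveSpecialLinearGroup (Fin 2) F → ℂ)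
          (g : Matrix.SpecialLinearGroup (Fin 2) F ⧸
            Subgroup.center (Matrix.SpecialLinearGroup (Fin 2) F))) := by
    intro χ
    exact infl_irr (Subgroup.center (Matrix.SpecialLinearGroup (Fin 2) F)) _ χ.2
  have hdegP : ∀ χ : Cfsg.IrrCharacter (Matrix.ProjectiveSpecialLinearGroup (Fin 2) F),
      p ∣ Cfsg.charDegree (χ : Matrix.ProjectiveSpecialLinearGroup (Fin 2) F → ℂ) →
      (χ : Matrix.ProjectiveSpecialLinearGroup (Fin 2) F → ℂ) 1 = (Fintype.card F : ℂ) := by
    intro χ hd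
    obtain ⟨d, hd1, hd2⟩ := hdeg _ (hinfl χ)
    change (χ : Matrix.ProjectiveSpecialLinearGroup (Fin 2) F → ℂ) 1 = (d : ℂ) at hd1
    unfold Cfsg.charDegree at hd
    rw [hd1, Complex.natCast_re, Nat.floor_natCast] at hd
    rw [hd1, hd2 hd]
  have huniq := (Nat.card_eq_one_iff_unique.mp hcount).1
  refine ⟨?_, ?_⟩
  · rw [Nat.card_eq_one_iff_unique]
    constructor
    · constructor
      rintro ⟨χ, hχ⟩ ⟨χ', hχ'⟩
      apply Subtype.ext
      have h1 := hdegP χ hχ
      have h2 := hdegP χ' hχ'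
      have e := @Subsingleton.elim _ huniq
        (⟨⟨_, hinfl χ⟩, h1⟩ : {χ : Cfsg.IrrCharacter (Matrix.SpecialLinearGroup (Fin 2) F) //
          (χ : Matrix.SpecialLinearGroup (Fin 2) F → ℂ) 1 = (Fintype.card F : ℂ)})
        ⟨⟨_, hinfl χ'⟩, h2⟩
      have e' := congrArg (fun x => (x.1 : Matrix.SpecialLinearGroup (Fin 2) F → ℂ)) e
      apply Subtype.ext
      funext x
      obtain ⟨g, rfl⟩ := QuotientGroup.mk_surjective x
      exact congrFun e' g
    · obtain ⟨⟨ψ, hψ1⟩⟩ := (Nat.card_eq_one_iff_unique.mp hcount).2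
      obtain ⟨χ, hχ, hval⟩ := descend_irr
        (Subgroup.center (Matrix.SpecialLinearGroup (Fin 2) F)) (ψ : _ → ℂ) ψ.2
        (fun z hz => deg_q_center hF _ ψ.2 hψ1 z hz)
      refine ⟨⟨⟨χ, hχ⟩, ?_⟩⟩
      unfold Cfsg.charDegree
      have : χ 1 = (Fintype.card F : ℂ) := by
        have := hval 1
        rw [hψ1] at this
        exact this
      show p ∣ ⌊(χ 1).re⌋₊
      rw [this, Complex.natCast_re, Nat.floor_natCast]
      exact hpq
  · intro χ hd
    have h1 := hdegP χ hd
    unfold Cfsg.charDegree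
    rw [h1, Complex.natCast_re, Nat.floor_natCast]

end Cfsg.Agent.S4765
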