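import Cfsg.Statements.S0023
import Cfsg.Agent.Lib.Lead.Coprime

set_option autoImplicit false
open Pointwise
open Cfsg

namespace Cfsg.Agent.S0023

open Cfsg.Agent.Lib.Lead Cfsg.Agent.S0001

/-- Under coprime action there is an invariant Sylow subgroup: with A normalising K, coprime orders and A or K solvable, some Sylow p-subgroup of K is normalised by A. -/
theorem result {G : Type*} [Group G] [Finite G] (A K : Subgroup G) (hAK : A ≤ Subgroup.normalizer (K : Set G))
    (hcop : (Nat.card A).Coprime (Nat.card K)) (hsolv : Group.IsSolvable A ∨ Group.IsSolvable K)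
    (p : ℕ) [Fact p.Prime] :
    ∃ P : Sylow p K, A ≤ Subgroup.normalizer ((P : Subgroup K).map K.subtype : Set G) := by
  have hKn : (K.subgroupOf (A ⊔ K)).Normal := Subgroup.normal_subgroupOf_sup_of_le_normalizer hAK
  have hA' : A ≤ A ⊔ K := le_sup_left
  have hK' : K ≤ A ⊔ K := le_sup_right
  have cK : Nat.card (K.subgroupOf (A ⊔ K)) = Nat.card K := card_subgroupOf_of_le hK'
  have cA : Nat.card (A.subgroupOf (A ⊔ K)) = Nat.card A := card_subgroupOf_of_le hA'
  have hsup : A.subgroupOf (A ⊔ K) ⊔ K.subgroupOf (A ⊔ K) = ⊤ := by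
    rw [← Subgroup.subgroupOf_sup hA' hK', Subgroup.subgroupOf_self]
  have hcop' : (Nat.card (A.subgroupOf (A ⊔ K))).Coprime (Nat.card (K.subgroupOf (A ⊔ K))) := by
    rw [cA, cK]; exact hcop
  have hsolv' : Group.IsSolvable (A.subgroupOf (A ⊔ K)) ∨ Group.IsSolvable (K.subgroupOf (A ⊔ K)) := by
    rcases hsolv with h | h
    · exact Or.inl (solvable_subgroupOf A _)
    · exact Or.inr (solvable_subgroupOf K _)
  obtain ⟨P', hP'⟩ := exists_invariant_sylow_ext (A.subgroupOf (A ⊔ K)) (K.subgroupOf (A ⊔ K))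
    hsup hcop' hsolv' p
  set Q' : Subgroup ↥(A ⊔ K) := (P' : Subgroup (K.subgroupOf (A ⊔ K))).map (K.subgroupOf (A ⊔ K)).subtype with hQ'
  set Q : Subgroup G := Q'.map (A ⊔ K).subtype with hQ
  have hQK : Q ≤ K := by
    rintro _ ⟨γ, hγ, rfl⟩
    obtain ⟨κ, _, rfl⟩ := hγ
    exact Subgroup.mem_subgroupOf.mp κ.2
  have hcardQ : Nat.card Q = p ^ (Nat.card K).factorization p := by
    rw [hQ, Subgroup.card_map_of_injective (A ⊔ K).subtype_injective, hQ',
      Subgroup.card_map_of_injective (K.subgroupOf (A ⊔ K)).subtype_injective,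
      Sylow.card_eq_multiplicity, cK]
  have hcardQK : Nat.card (Q.subgroupOf K) = p ^ (Nat.card K).factorization p := by
    rw [card_subgroupOf_of_le hQK, hcardQ]
  refine ⟨Sylow.ofCard (Q.subgroupOf K) hcardQK, ?_⟩
  rw [Sylow.coe_ofCard, Subgroup.map_subgroupOf_eq_of_le hQK, Subgroup.le_normalizer_iff]
  rintro a ha _ ⟨γ, hγ, rfl⟩
  have ha' : (⟨a, hA' ha⟩ : ↥(A ⊔ K)) ∈ A.subgroupOf (A ⊔ K) := Subgroup.mem_subgroupOf.mpr ha
  have h1 := (Subgroup.le_normalizer_iff.mp hP') _ ha' γ hγ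
  exact ⟨_, h1, rfl⟩

end Cfsg.Agent.S0023
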