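import Cfsg.Statements.S0025
import Cfsg.Agent.Lib.Lead.Coprime
import Cfsg.Agent.S0023

set_option autoImplicit false
open Pointwise
open Cfsg

namespace Cfsg.Agent.S0025

open Cfsg.Agent.Lib.Lead Cfsg.Agent.S0001

/-- Under coprime action (A normalising K, coprime orders, A or K solvable), an A-invariant p-subgroup of K is contained in an A-invariant Sylow p-subgroup of K. -/
theorem result {G : Type*} [Group G] [Finite G] (A K : Subgroup G) (hAK : A ≤ Subgroup.normalizer (K : Set G))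
    (hcop : (Nat.card A).Coprime (Nat.card K)) (hsolv : Group.IsSolvable A ∨ Group.IsSolvable K)
    (p : ℕ) [Fact p.Prime] (U : Subgroup G) (hUK : U ≤ K) (hU : IsPGroup p U) (hUA : A ≤ Subgroup.normalizer (U : Set G)) :
    ∃ P : Sylow p K, U ≤ (P : Subgroup K).map K.subtype ∧ A ≤ Subgroup.normalizer ((P : Subgroup K).map K.subtype : Set G) := by
  classical
  have hU𝒮 : U ∈ {V : Subgroup G | V ≤ K ∧ IsPGroup p V ∧ A ≤ Subgroup.normalizer (V : Set G)} :=
    ⟨hUK, hU, hUA⟩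
  obtain ⟨V, hUV, hVmax⟩ := (Set.toFinite {V : Subgroup G | V ≤ K ∧ IsPGroup p V ∧
    A ≤ Subgroup.normalizer (V : Set G)}).exists_le_maximal hU𝒮
  obtain ⟨⟨hVK, hVp, hVA⟩, hVmax'⟩ := hVmax
  obtain ⟨P₀, hP₀⟩ := (hVp.comap_subtype (K := K)).exists_le_sylow
  have hVP₀' : V ≤ (P₀ : Subgroup K).map K.subtype := by
    intro v hv
    exact ⟨⟨v, hVK hv⟩, hP₀ (Subgroup.mem_subgroupOf.mpr hv), rfl⟩
  have hclaim : V = (P₀ : Subgroup K).map K.subtype := by
    by_contra hne
    have hlt : V < (P₀ : Subgroup K).map K.subtype := lt_of_le_of_ne hVP₀' hne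
    have hP₀'p : IsPGroup p ((P₀ : Subgroup K).map K.subtype) := P₀.isPGroup'.map K.subtype
    have hnil : Group.IsNilpotent ((P₀ : Subgroup K).map K.subtype) := hP₀'p.isNilpotent
    obtain ⟨x, hxP, hxN, hxV⟩ := exists_mem_normalizer_not_mem V _ hlt hnil
    have hNK : K ⊓ Subgroup.normalizer (V : Set G) ≤ K := inf_le_left
    have hAN : A ≤ Subgroup.normalizer ((K ⊓ Subgroup.normalizer (V : Set G) : Subgroup G) : Set G) := by
      rw [Subgroup.le_normalizer_iff]
      intro a ha d hd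
      refine ⟨(Subgroup.le_normalizer_iff.mp hAK) a ha d hd.1, ?_⟩
      exact Subgroup.mul_mem _ (Subgroup.mul_mem _ (hVA ha) hd.2) (Subgroup.inv_mem _ (hVA ha))
    obtain ⟨T, hT⟩ := Cfsg.Agent.S0023.result A (K ⊓ Subgroup.normalizer (V : Set G)) hAN
      (coprime_of_le hNK hcop) (solvable_or_of_le hNK hsolv) p
    have hVN : V ≤ K ⊓ Subgroup.normalizer (V : Set G) := le_inf hVK Subgroup.le_normalizer
    have hVT : V.subgroupOf (K ⊓ Subgroup.normalizer (V : Set G)) ≤ T := by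
      have hn : (V.subgroupOf (K ⊓ Subgroup.normalizer (V : Set G))).Normal :=
        Subgroup.normal_subgroupOf_of_le_normalizer inf_le_right
      have hp : IsPGroup p (V.subgroupOf (K ⊓ Subgroup.normalizer (V : Set G))) := hVp.comap_subtype
      obtain ⟨T₀, hT₀⟩ := hp.exists_le_sylow
      obtain ⟨n, hn'⟩ := MulAction.exists_smul_eq ↥(K ⊓ Subgroup.normalizer (V : Set G)) T₀ T
      rw [← hn', Sylow.smul_def, Sylow.pointwise_smul_def]
      have h1 : MulAut.conj n • V.subgroupOf (K ⊓ Subgroup.normalizer (V : Set G)) =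
          V.subgroupOf (K ⊓ Subgroup.normalizer (V : Set G)) := Subgroup.Normal.conj_smul_eq_self n _
      rw [← h1]
      exact (Subgroup.pointwise_smul_le_pointwise_smul_iff).mpr hT₀
    have hVT' : V ≤ (T : Subgroup ↥(K ⊓ Subgroup.normalizer (V : Set G))).map
        (K ⊓ Subgroup.normalizer (V : Set G)).subtype := by
      intro v hv
      exact ⟨⟨v, hVN hv⟩, hVT (Subgroup.mem_subgroupOf.mpr hv), rfl⟩
    have hT'𝒮 : (T : Subgroup ↥(K ⊓ Subgroup.normalizer (V : Set G))).map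
        (K ⊓ Subgroup.normalizer (V : Set G)).subtype ∈
        {V : Subgroup G | V ≤ K ∧ IsPGroup p V ∧ A ≤ Subgroup.normalizer (V : Set G)} :=
      ⟨(Subgroup.map_subtype_le _).trans hNK, T.isPGroup'.map _, hT⟩
    have hT'V := hVmax' hT'𝒮 hVT'
    have hQ : IsPGroup p ((((P₀ : Subgroup K).map K.subtype) ⊓ Subgroup.normalizer (V : Set G)).subgroupOf
        (K ⊓ Subgroup.normalizer (V : Set G))) := (hP₀'p.to_le inf_le_left).comap_subtype
    have hTQ : (T : Subgroup ↥(K ⊓ Subgroup.normalizer (V : Set G))) ≤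
        (((P₀ : Subgroup K).map K.subtype) ⊓ Subgroup.normalizer (V : Set G)).subgroupOf
        (K ⊓ Subgroup.normalizer (V : Set G)) := by
      intro t ht
      have hv : (t : G) ∈ V := hT'V ⟨t, ht, rfl⟩
      exact Subgroup.mem_subgroupOf.mpr ⟨hVP₀' hv, Subgroup.le_normalizer hv⟩
    have hQT := T.is_maximal' hQ hTQ
    have hxN' : x ∈ K ⊓ Subgroup.normalizer (V : Set G) := ⟨(Subgroup.map_subtype_le _) hxP, hxN⟩
    have hxT : (⟨x, hxN'⟩ : ↥(K ⊓ Subgroup.normalizer (V : Set G))) ∈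
        (T : Subgroup ↥(K ⊓ Subgroup.normalizer (V : Set G))) := by
      rw [← hQT]; exact Subgroup.mem_subgroupOf.mpr ⟨hxP, hxN⟩
    exact hxV (hT'V ⟨_, hxT, rfl⟩)
  refine ⟨P₀, ?_, ?_⟩
  · rw [← hclaim]; exact hUV
  · rw [← hclaim]; exact hVA

end Cfsg.Agent.S0025
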