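import Cfsg.Statements.S0638
import Cfsg.Agent.Lib.Helper20.Metacyclic2
import Cfsg.Agent.Lib.Helper20.Metacyclic6

set_option autoImplicit false
open Cfsg

namespace Cfsg.Agent.S0638



/-- For odd p, in a non-cyclic metacyclic p-group the elements of order dividing p generate an elementary abelian subgroup of order p². -/
theorem result {R : Type*} [Group R] [Finite R] {p : ℕ} [Fact p.Prime] (hp : p ≠ 2) (hR : IsPGroup p R) (hm : Cfsg.IsMetacyclic R) (hnc : ¬ IsCyclic R) : Cfsg.IsElementaryAbelian p (Cfsg.omegaOne p (⊤ : Subgroup R)) ∧ Nat.card ↥(Cfsg.omegaOne p (⊤ : Subgroup R)) = p ^ 2 := by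
  obtain ⟨D⟩ := Cfsg.Agent.Lib.Helper20.exists_MC hR hm
  obtain ⟨W, hW, hcard⟩ := D.exists_omega hp hR hnc
  have hWeq : Cfsg.omegaOne p (⊤ : Subgroup R) = W := by
    unfold Cfsg.omegaOne
    have hset : {x : R | x ∈ (⊤ : Subgroup R) ∧ x ^ p = 1} = (W : Set R) := by
      ext x
      simp only [Set.mem_setOf_eq, Subgroup.mem_top, true_and, SetLike.mem_coe, hW]
    rw [hset, Subgroup.closure_eq]
  rw [hWeq]
  refine ⟨⟨?_, fun a ha => (hW a).mp ha⟩, hcard⟩
  exact ⟨⟨fun a b => IsPGroup.commutative_of_card_eq_prime_sq hcard a b⟩⟩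

end Cfsg.Agent.S0638
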