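import Mathlib
import Cfsg.Statements.S0636
import Cfsg.Agent.S0638
import Cfsg.Agent.Lib.Helper1.Nilp
import Cfsg.Agent.Lib.Helper1.Hall

set_option autoImplicit false
open Cfsg

namespace Cfsg.Agent.S0636

variable {R : Type*} [Group R] [Finite R] {p : ℕ} [hp : Fact p.Prime]

/-- an `R`-normal subgroup of index `p` in a nontrivial normal subgroup `S` of the `p`-group `R` -/
theorem exists_normal_index_p (hR : IsPGroup p R) (S : Subgroup R) [hSn : S.Normal] (hS : S ≠ ⊥) :
    ∃ M : Subgroup R, M.Normal ∧ M ≤ S ∧ Nat.card S = p * Nat.card M := by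
  set 𝓜 : Set (Subgroup R) := {M | M.Normal ∧ M < S} with h𝓜
  have hne : 𝓜.Nonempty := ⟨⊥, inferInstance, bot_lt_iff_ne_bot.mpr hS⟩
  obtain ⟨M, ⟨hMn, hMS⟩, hMmax⟩ := (Set.toFinite 𝓜).exists_maximal hne
  haveI := hMn
  refine ⟨M, hMn, hMS.le, ?_⟩
  set π := QuotientGroup.mk' M with hπ
  have hπs : Function.Surjective π := QuotientGroup.mk'_surjective _
  haveI : Group.IsNilpotent (R ⧸ M) :=
    (hR.to_quotient M).isNilpotent
  set Sb : Subgroup (R ⧸ M) := S.map π with hSb
  haveI hSbn : Sb.Normal := Subgroup.Normal.map hSn π hπs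
  have hSbne : Sb ≠ ⊥ := by
    intro h
    obtain ⟨s, hsS, hsM⟩ := Set.exists_of_ssubset hMS
    have : π s ∈ Sb := ⟨s, hsS, rfl⟩
    rw [h, Subgroup.mem_bot] at this
    exact hsM ((QuotientGroup.eq_one_iff s).mp this)
  have hcen := Cfsg.Agent.Lib.Helper1.normal_inf_center_ne_bot Sb hSbne
  have hpc : p ∣ Nat.card (Sb ⊓ Subgroup.center (R ⧸ M) : Subgroup (R ⧸ M)) := by
    have hZp : IsPGroup p (Sb ⊓ Subgroup.center (R ⧸ M) : Subgroup (R ⧸ M)) :=
      (hR.to_quotient M).to_subgroup _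
    rcases hZp.card_eq_or_dvd with h | h
    · exact absurd (Subgroup.card_eq_one.mp h) hcen
    · exact h
  obtain ⟨z, hz⟩ := exists_prime_orderOf_dvd_card' p hpc
  have hzo : orderOf (z : R ⧸ M) = p := by rw [Subgroup.orderOf_coe]; exact hz
  set Z : Subgroup (R ⧸ M) := Subgroup.zpowers (z : R ⧸ M) with hZ
  have hZcard : Nat.card Z = p := by rw [Nat.card_zpowers, hzo]
  have hZle : Z ≤ Sb ⊓ Subgroup.center (R ⧸ M) := by
    rw [hZ, Subgroup.zpowers_le]; exact z.2
  haveI hZn : Z.Normal := by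
    constructor
    intro u hu x
    have hc : u ∈ Subgroup.center (R ⧸ M) := (hZle hu).2
    rw [Subgroup.mem_center_iff] at hc
    rw [hc x, mul_inv_cancel_right]
    exact hu
  set M' : Subgroup R := Z.comap π with hM'
  have hM'n : M'.Normal := hZn.comap π
  have hMM' : M ≤ M' := by
    intro x hx
    rw [hM', Subgroup.mem_comap]
    have : π x = 1 := (QuotientGroup.eq_one_iff x).mpr hx
    rw [this]; exact Subgroup.one_mem _
  have hM'S : M' ≤ S := by
    intro x hx
    have h1 : π x ∈ Sb := (hZle hx).1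
    obtain ⟨s, hsS, hs⟩ := h1
    have h2 : s⁻¹ * x ∈ M := by
      rw [← QuotientGroup.eq_one_iff]
      show π (s⁻¹ * x) = 1
      rw [map_mul, map_inv, hs, inv_mul_cancel]
    have : x = s * (s⁻¹ * x) := by group
    rw [this]
    exact S.mul_mem hsS (hMS.le h2)
  have hcardM' : Nat.card M * Nat.card Z = Nat.card M' := by
    have := Cfsg.Agent.Lib.Helper1.card_map_mk'_of_le M' M hMM'
    rwa [hM', Subgroup.map_comap_eq_self_of_surjective hπs] at this
  have hM'eq : M' = S := by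
    by_contra hne'
    have hlt : M' < S := lt_of_le_of_ne hM'S hne'
    have := hMmax ⟨hM'n, hlt⟩ hMM'
    have hle := Subgroup.card_le_of_le this
    rw [← hcardM', hZcard] at hle
    have hpos : 0 < Nat.card M := Nat.card_pos
    have h2 : 2 ≤ p := hp.out.two_le
    nlinarith
  rw [← hM'eq, ← hcardM', hZcard, mul_comm]

/-- `Ω₁` of a group is invariant under automorphisms -/
theorem omegaOne_top_map_le {Y : Type*} [Group Y] (α : Y ≃* Y) :
    (omegaOne p (⊤ : Subgroup Y)).map α.toMonoidHom ≤ omegaOne p (⊤ : Subgroup Y) := by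
  unfold omegaOne
  rw [MonoidHom.map_closure]
  apply Subgroup.closure_mono
  rintro _ ⟨x, ⟨-, hx⟩, rfl⟩
  refine ⟨Subgroup.mem_top _, ?_⟩
  show (α x) ^ p = 1
  rw [← map_pow, hx, map_one]

theorem main (hp2 : p ≠ 2) (hR : IsPGroup p R) : ∀ n : ℕ, ∀ S : Subgroup R, S.Normal →
    Nat.card S = n → ¬ IsCyclic S →
    ∃ A : Subgroup R, A ≤ S ∧ A.Normal ∧ Cfsg.IsElementaryAbelian p A ∧ Nat.card A = p ^ 2 := by
  intro n
  induction n using Nat.strong_induction_on with
  | _ n ih =>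
  intro S hSn hcard hnc
  haveI := hSn
  have hSne : S ≠ ⊥ := by
    rintro rfl
    exact hnc inferInstance
  obtain ⟨M, hMn, hMS, hMcard⟩ := exists_normal_index_p hR S hSne
  haveI := hMn
  by_cases hMc : IsCyclic M
  swap
  · have hlt : Nat.card M < n := by
      rw [← hcard, hMcard]
      have hpos : 0 < Nat.card M := Nat.card_pos
      have h2 : 2 ≤ p := hp.out.two_le
      nlinarith
    obtain ⟨A, hAM, hAn, hAe, hAc⟩ := ih _ hlt M hMn rfl hMc
    exact ⟨A, hAM.trans hMS, hAn, hAe, hAc⟩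
  · -- S is metacyclic
    set N : Subgroup ↥S := M.subgroupOf S with hN
    haveI hNn : N.Normal := by rw [hN]; infer_instance
    have hNc : IsCyclic ↥N := by
      have e : ↥N ≃* ↥M := Subgroup.subgroupOfEquivOfLe hMS
      exact isCyclic_of_surjective e.symm e.symm.surjective
    have hidx : Nat.card (↥S ⧸ N) = p := by
      rw [← Subgroup.index_eq_card]
      have h1 : N.index = M.relIndex S := rfl
      rw [h1]
      have h2 : M.relIndex S * Nat.card M = Nat.card S := by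
        rw [mul_comm, ← Subgroup.relIndex_bot_left, ← Subgroup.relIndex_bot_left (H := S)]
        exact Subgroup.relIndex_mul_relIndex ⊥ M S bot_le hMS
      have hpos : 0 < Nat.card M := Nat.card_pos
      rw [hMcard] at h2
      exact Nat.eq_of_mul_eq_mul_right hpos h2
    have hQc : IsCyclic (↥S ⧸ N) := by
      haveI : Fact (Nat.card (↥S ⧸ N)).Prime := ⟨by rw [hidx]; exact hp.out⟩
      exact isCyclic_of_prime_card (p := p) hidx
    have hmeta : Cfsg.IsMetacyclic ↥S := ⟨N, hNn, hNc, hQc⟩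
    obtain ⟨hΩe, hΩc⟩ := Cfsg.Agent.S0638.result hp2 (hR.to_subgroup S) hmeta hnc
    set Ω : Subgroup ↥S := omegaOne p (⊤ : Subgroup ↥S) with hΩ
    refine ⟨Ω.map S.subtype, ?_, ?_, ?_, ?_⟩
    · rintro _ ⟨ω, -, rfl⟩
      exact ω.2
    · constructor
      rintro _ ⟨ω, hω, rfl⟩ g
      have h1 := omegaOne_top_map_le (p := p) (MulAut.conjNormal g : ↥S ≃* ↥S)
      refine ⟨MulAut.conjNormal g ω, h1 ⟨ω, hω, rfl⟩, ?_⟩
      simp [MulAut.conjNormal_apply]
    · obtain ⟨hcomm, hexp⟩ := hΩe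
      refine ⟨⟨⟨?_⟩⟩, ?_⟩
      · rintro ⟨_, ω₁, hω₁, rfl⟩ ⟨_, ω₂, hω₂, rfl⟩
        apply Subtype.ext
        have := hcomm.is_comm.comm ⟨ω₁, hω₁⟩ ⟨ω₂, hω₂⟩
        have h2 := congrArg (fun t : ↥Ω => ((t : ↥S) : R)) this
        simpa using h2
      · rintro _ ⟨ω, hω, rfl⟩
        have := hexp ω hω
        show (S.subtype ω) ^ p = 1
        rw [← map_pow, this, map_one]
    · rw [Subgroup.card_map_of_injective (Subgroup.subtype_injective _)]
      exact hΩc

theorem result {R : Type*} [Group R] [Finite R] {p : ℕ} [Fact p.Prime] (hp : p ≠ 2) (hR : IsPGroup p R) (S : Subgroup R) [S.Normal] (hS : ¬ IsCyclic S) : ∃ A : Subgroup R, A ≤ S ∧ A.Normal ∧ Cfsg.IsElementaryAbelian p A ∧ Nat.card A = p ^ 2 :=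
  main hp hR _ S inferInstance rfl hS

end Cfsg.Agent.S0636
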