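import Mathlib
import Cfsg.Statements.S0100
import Cfsg.Agent.Lib.Helper21.OmegaCent
import Cfsg.Agent.Lib.Helper20.Metacyclic1
import Cfsg.Agent.Lib.Helper1.Nilp
import Cfsg.Agent.S0636

set_option autoImplicit false
open Cfsg

namespace Cfsg.Agent.S0100

open scoped commutatorElement
open Cfsg.Agent.Lib.Helper21.OmegaCent

/-- strict bound for the relative index of a centralizer -/
theorem relIndex_centralizer_lt {G : Type*} [Group G] [Finite G] (E B : Subgroup G) (b : G)
    (hb : b ∈ B) (hb1 : b ≠ 1) (hnorm : ∀ e ∈ E, ⁅e, b⁆ ∈ B) :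
    (Subgroup.centralizer ({b} : Set G)).relIndex E < Nat.card B := by
  classical
  have := Fintype.ofFinite B
  let f : E ⧸ (Subgroup.centralizer ({b} : Set G)).subgroupOf E → B :=
    Quotient.lift (fun e : E => (⟨⁅(e : G), b⁆, hnorm e e.2⟩ : B)) (by
      intro x y hxy
      have h1 : x⁻¹ * y ∈ (Subgroup.centralizer ({b} : Set G)).subgroupOf E :=
        QuotientGroup.leftRel_apply.mp hxy
      rw [Subgroup.mem_subgroupOf] at h1
      apply Subtype.ext
      exact (Cfsg.Agent.Lib.Helper20.comm_eq_comm_iff (x : G) (y : G) b).mpr (by simpa using h1))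
  have hf : Function.Injective f := by
    intro u v huv
    induction u using QuotientGroup.induction_on with
    | H x =>
      induction v using QuotientGroup.induction_on with
      | H y =>
        have h1 : ⁅(x : G), b⁆ = ⁅(y : G), b⁆ := congrArg Subtype.val huv
        apply QuotientGroup.eq.mpr
        rw [Subgroup.mem_subgroupOf]
        have := (Cfsg.Agent.Lib.Helper20.comm_eq_comm_iff (x : G) (y : G) b).mp h1
        simpa using this
  have hns : (⟨b⁻¹, B.inv_mem hb⟩ : B) ∉ Set.range f := by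
    rintro ⟨u, hu⟩
    induction u using QuotientGroup.induction_on with
    | H x =>
      have h1 : ⁅(x : G), b⁆ = b⁻¹ := congrArg Subtype.val hu
      rw [commutatorElement_def] at h1
      have h2 : (x : G) * b * (x : G)⁻¹ = 1 := by
        have := congrArg (fun t => t * b) h1
        simpa using this
      apply hb1
      have h3 : b = (x : G)⁻¹ * ((x : G) * b * (x : G)⁻¹) * (x : G) := by group
      rw [h3, h2]; group
  haveI : Finite (E ⧸ (Subgroup.centralizer ({b} : Set G)).subgroupOf E) :=
    Finite.of_injective f hf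
  have := Fintype.ofFinite (E ⧸ (Subgroup.centralizer ({b} : Set G)).subgroupOf E)
  have h := Fintype.card_lt_of_injective_of_notMem f hf hns
  rw [Subgroup.relIndex, Subgroup.index, Nat.card_eq_fintype_card, Nat.card_eq_fintype_card]
  exact h

/-- If `p` is odd and `P` has no normal elementary abelian subgroup of order `p^3` then it has no
elementary abelian subgroup of order exceeding `p^2`. -/
theorem main {P : Type*} [Group P] [Finite P] {p : ℕ} [hp' : Fact p.Prime] (hp : p ≠ 2)
    (hP : IsPGroup p P)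
    (h : ∀ A : Subgroup P, A.Normal → IsMulCommutative A → (∀ a ∈ A, a ^ p = 1) →
      Nat.card A ≠ p ^ 3)
    (E : Subgroup P) (hEc : ∀ a ∈ E, ∀ b ∈ E, a * b = b * a) (hEe : ∀ e ∈ E, e ^ p = 1) :
    Nat.card E ≤ p ^ 2 := by
  by_contra hgt
  push_neg at hgt
  have hp1 : 1 < p := hp'.out.one_lt
  haveI hnil : Group.IsNilpotent P := hP.isNilpotent
  obtain ⟨k, hk⟩ := IsPGroup.iff_card.mp (hP.to_subgroup E)
  have hk3 : 3 ≤ k := by
    by_contra hlt
    push_neg at hlt
    have : p ^ k ≤ p ^ 2 := Nat.pow_le_pow_right hp'.out.pos (by omega)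
    omega
  -- `P` is not cyclic
  have hnc : ¬ IsCyclic (⊤ : Subgroup P) := by
    intro hcyc
    haveI : IsCyclic P := isCyclic_of_surjective (Subgroup.topEquiv : (⊤ : Subgroup P) ≃* P).toMonoidHom
      Subgroup.topEquiv.surjective
    haveI : IsCyclic E := Subgroup.isCyclic E
    obtain ⟨g, hg⟩ := IsCyclic.exists_generator (α := E)
    have h1 : orderOf g = Nat.card E := orderOf_eq_card_of_forall_mem_zpowers hg
    have h2 : g ^ p = 1 := Subtype.ext (by simpa using hEe g g.2)
    have h3 : orderOf g ∣ p := orderOf_dvd_of_pow_eq_one h2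
    have h4 := Nat.le_of_dvd hp'.out.pos h3
    have : p < p ^ 2 := by nlinarith
    omega
  obtain ⟨B, -, hBn, ⟨hBcomm, hBe⟩, hB2⟩ := Cfsg.Agent.S0636.result hp hP ⊤ hnc
  haveI := hBn
  have hBc : ∀ a ∈ B, ∀ b ∈ B, a * b = b * a := by
    intro a ha b hb
    have := hBcomm.is_comm.comm ⟨a, ha⟩ ⟨b, hb⟩
    exact congrArg Subtype.val this
  have hΩ := omega_centralizer_le hp hP h B hBc hBe hB2
  -- a central element of `B`
  have hB1 : B ≠ ⊥ := by
    intro e
    rw [e, Subgroup.card_bot] at hB2
    have : 1 < p ^ 2 := Nat.one_lt_pow (by norm_num) hp1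
    omega
  have hBZ := Cfsg.Agent.Lib.Helper1.normal_inf_center_ne_bot B hB1
  obtain ⟨⟨z, hzBZ⟩, hz1'⟩ := Subgroup.ne_bot_iff_exists_ne_one.mp hBZ
  have hz1 : z ≠ 1 := fun e => hz1' (Subtype.ext e)
  obtain ⟨hzB, hzZ⟩ := hzBZ
  have hzc : ∀ g : P, g * z = z * g := fun g => Subgroup.mem_center_iff.mp hzZ g
  have hzp : z ^ p = 1 := hBe z hzB
  have hcardZ : Nat.card (Subgroup.zpowers z) = p := by
    rw [Nat.card_zpowers, orderOf_eq_prime hzp hz1]
  -- an element of `B` outside `⟨z⟩`
  have hZB : Subgroup.zpowers z ≤ B := by rw [Subgroup.zpowers_le]; exact hzB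
  obtain ⟨b, hbB, hbZ⟩ : ∃ b ∈ B, b ∉ Subgroup.zpowers z := by
    by_contra hno
    push_neg at hno
    have : B ≤ Subgroup.zpowers z := hno
    have h1 := Subgroup.card_le_of_le this
    rw [hB2, hcardZ] at h1
    have : p < p ^ 2 := by nlinarith
    omega
  have hb1 : b ≠ 1 := fun e => hbZ (e ▸ Subgroup.one_mem _)
  have hZc : ∀ a ∈ Subgroup.zpowers z, ∀ c ∈ Subgroup.zpowers z, a * c = c * a := by
    intro a ha c hc
    obtain ⟨i, rfl⟩ := ha
    exact (((show Commute c z from hzc c).zpow_right i).eq).symm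
  have hZe : ∀ a ∈ Subgroup.zpowers z, a ^ p = 1 := fun a ha => hBe a (hZB ha)
  obtain ⟨hScard, -, -⟩ := sup_zpowers_facts (Subgroup.zpowers z) b (hBe b hbB) hbZ
    (fun c hc => by
      obtain ⟨i, rfl⟩ := hc
      exact ((show Commute b z from hzc b).zpow_right i).eq) hZc hZe
  have hsup : Subgroup.zpowers z ⊔ Subgroup.zpowers b = B := by
    apply Subgroup.eq_of_le_of_card_ge
    · exact sup_le hZB (by rw [Subgroup.zpowers_le]; exact hbB)
    · rw [hScard, hcardZ, hB2]; exact le_of_eq (by ring)
  -- centralizing `b` means centralizing `B`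
  have hcent : ∀ g : P, g * b = b * g → g ∈ Subgroup.centralizer (B : Set P) := by
    intro g hg
    have hle : B ≤ Subgroup.centralizer ({g} : Set P) := by
      rw [← hsup]
      apply sup_le
      · rw [Subgroup.zpowers_le, Subgroup.mem_centralizer_iff]
        intro y hy
        rw [Set.mem_singleton_iff] at hy
        rw [hy]; exact hzc g
      · rw [Subgroup.zpowers_le, Subgroup.mem_centralizer_iff]
        intro y hy
        rw [Set.mem_singleton_iff] at hy
        rw [hy]; exact hg
    rw [Subgroup.mem_centralizer_iff]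
    intro y hy
    have := hle hy
    rw [Subgroup.mem_centralizer_iff] at this
    exact (this g rfl).symm
  -- the relative index
  have hrel := relIndex_centralizer_lt E B b hbB hb1 (fun e _ => by
    rw [commutatorElement_def]
    exact B.mul_mem (hBn.conj_mem b hbB e) (B.inv_mem hbB))
  rw [hB2] at hrel
  set C : Subgroup P := Subgroup.centralizer ({b} : Set P) ⊓ E with hC
  have hCE : C ≤ E := inf_le_right
  have hcardC : Nat.card C * C.relIndex E = Nat.card E := by
    rw [← Subgroup.relIndex_bot_left, ← Subgroup.relIndex_bot_left (H := E)]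
    exact Subgroup.relIndex_mul_relIndex ⊥ C E bot_le hCE
  have hrelC : C.relIndex E = (Subgroup.centralizer ({b} : Set P)).relIndex E :=
    Subgroup.inf_relIndex_right _ _
  rw [hrelC] at hcardC
  -- relIndex is a power of p, < p^2
  have hdvd : (Subgroup.centralizer ({b} : Set P)).relIndex E ∣ p ^ k := by
    rw [← hk]; exact Subgroup.relIndex_dvd_card _ _
  obtain ⟨i, -, hi⟩ := (Nat.dvd_prime_pow hp'.out).mp hdvd
  have hi1 : i ≤ 1 := by
    by_contra hlt
    push_neg at hlt
    have : p ^ 2 ≤ p ^ i := Nat.pow_le_pow_right hp'.out.pos hlt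
    omega
  have hrel_le : (Subgroup.centralizer ({b} : Set P)).relIndex E ≤ p := by
    rw [hi]
    calc p ^ i ≤ p ^ 1 := Nat.pow_le_pow_right hp'.out.pos hi1
      _ = p := pow_one p
  -- `C ≤ B`
  have hCB : C ≤ B := by
    intro c hc
    have hcE : c ∈ E := hCE hc
    have hcb : c * b = b * c := by
      have : c ∈ Subgroup.centralizer ({b} : Set P) := (Subgroup.mem_inf.mp hc).1
      rw [Subgroup.mem_centralizer_iff] at this
      exact (this b rfl).symm
    exact hΩ c (hcent c hcb) (hEe c hcE)
  have hCle : Nat.card C ≤ p ^ 2 := by rw [← hB2]; exact Subgroup.card_le_of_le hCB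
  have hE3 : p ^ 3 ≤ Nat.card E := by
    rw [hk]; exact Nat.pow_le_pow_right hp'.out.pos hk3
  have hCeq : Nat.card C = p ^ 2 := by
    apply le_antisymm hCle
    by_contra hlt
    push_neg at hlt
    have : Nat.card C * (Subgroup.centralizer ({b} : Set P)).relIndex E < p ^ 2 * p := by
      calc Nat.card C * (Subgroup.centralizer ({b} : Set P)).relIndex E
          ≤ Nat.card C * p := Nat.mul_le_mul_left _ hrel_le
        _ < p ^ 2 * p := Nat.mul_lt_mul_of_pos_right hlt hp'.out.pos
    have h3 : p ^ 3 = p ^ 2 * p := by ring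
    omega
  have hCBeq : C = B := Subgroup.eq_of_le_of_card_ge hCB (by rw [hCeq, hB2])
  have hbE : b ∈ E := hCE (hCBeq ▸ hbB)
  have hEC : E ≤ C := by
    intro e he
    refine Subgroup.mem_inf.mpr ⟨?_, he⟩
    rw [Subgroup.mem_centralizer_iff]
    intro y hy
    rw [Set.mem_singleton_iff] at hy
    rw [hy]
    exact hEc b hbE e he
  have := Subgroup.card_le_of_le hEC
  omega

/-- the statement -/
theorem result {P : Type*} [Group P] [Finite P] {p : ℕ} [Fact p.Prime] (hp : p ≠ 2) (hP : IsPGroup p P) (h : ∀ A : Subgroup P, A.Normal → IsMulCommutative A → (∀ a ∈ A, a ^ p = 1) → Nat.card A ≠ p ^ 3) (E : Subgroup P) (hE : IsMulCommutative E) (hEe : ∀ e ∈ E, e ^ p = 1) : Nat.card E ≤ p ^ 2 := by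
  apply main hp hP h E ?_ hEe
  intro a ha b hb
  have := hE.is_comm.comm ⟨a, ha⟩ ⟨b, hb⟩
  exact congrArg Subtype.val this

end Cfsg.Agent.S0100
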