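import Mathlib
import Cfsg.Statements.S1442
import Cfsg.Agent.Lib.Helper11.Coprime

set_option autoImplicit false
open Cfsg
open scoped commutatorElement

namespace Cfsg.Agent.S1442

open Cfsg.Agent.Lib.Helper11

theorem result {G : Type*} [Group G] [Finite G] (H A : Subgroup G) (hH : Group.IsNilpotent H) (hA : (A ≤ Subgroup.normalizer (H : Set G))) (hcop : (Nat.card A).Coprime (Nat.card H))
    (hC : H ⊓ Subgroup.centralizer (((H ⊓ Subgroup.centralizer (A : Set G)) : Subgroup G) : Set G) ≤ (H ⊓ Subgroup.centralizer (A : Set G))) :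
    A ≤ Subgroup.centralizer (H : Set G) := by
  set C := H ⊓ Subgroup.centralizer (A : Set G) with hCdef
  by_contra hne
  have hCH : C ≤ H := inf_le_left
  have hCA : C ≤ Subgroup.centralizer (A : Set G) := inf_le_right
  have hlt : C.subgroupOf H < ⊤ := by
    rw [lt_top_iff_ne_top]
    intro htop
    apply hne
    rw [Subgroup.subgroupOf_eq_top] at htop
    have : H ≤ Subgroup.centralizer (A : Set G) := htop.trans hCA
    exact Subgroup.le_centralizer_iff.mp this
  have hnc := Group.normalizerCondition_of_isNilpotent (G := H) (C.subgroupOf H) hlt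
  obtain ⟨n, hnN, hnC⟩ := SetLike.exists_of_lt hnc
  set N := H ⊓ Subgroup.normalizer (C : Set G) with hNdef
  have hnNG : (n : G) ∈ N := by
    refine ⟨n.2, ?_⟩
    refine Subgroup.mem_normalizer_iff.mpr ?_
    intro g
    rw [Subgroup.mem_normalizer_iff] at hnN
    constructor
    · intro hg
      have := (hnN ⟨g, hCH hg⟩).mp (by rw [Subgroup.mem_subgroupOf]; exact hg)
      rw [Subgroup.mem_subgroupOf] at this
      simpa using this
    · intro hg
      have hgH : g ∈ H := by
        have h1 : (n : G) * g * (n : G)⁻¹ ∈ H := hCH hg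
        have h2 := H.mul_mem (H.mul_mem (H.inv_mem n.2) h1) n.2
        simpa [mul_assoc] using h2
      have := (hnN ⟨g, hgH⟩).mpr (by rw [Subgroup.mem_subgroupOf]; simpa using hg)
      rw [Subgroup.mem_subgroupOf] at this
      simpa using this
  have hCAbot : ⁅C, A⁆ = ⊥ := Subgroup.commutator_eq_bot_iff_le_centralizer.mpr hCA
  have h1 : ⁅⁅N, C⁆, A⁆ = ⊥ := by
    have hNC : ⁅N, C⁆ ≤ C := by
      rw [Subgroup.commutator_le]
      intro g₁ hg₁ g₂ hg₂
      have hg₁N : g₁ ∈ Subgroup.normalizer (C : Set G) := hg₁.2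
      have := (Subgroup.mem_normalizer_iff.mp hg₁N g₂).mp hg₂
      rw [commutatorElement_def]
      exact C.mul_mem this (C.inv_mem hg₂)
    exact le_bot_iff.mp (hCAbot ▸ Subgroup.commutator_mono hNC le_rfl)
  have h2 : ⁅⁅C, A⁆, N⁆ = ⊥ := by
    rw [hCAbot, Subgroup.commutator_bot_left]
  have h3 : ⁅⁅A, N⁆, C⁆ = ⊥ := Subgroup.commutator_commutator_eq_bot_of_rotate h1 h2
  have h4 : ⁅A, N⁆ ≤ Subgroup.centralizer (C : Set G) :=
    Subgroup.commutator_eq_bot_iff_le_centralizer.mp h3
  have h5 : ⁅A, N⁆ ≤ H := by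
    rw [Subgroup.commutator_le]
    intro a ha m hm
    have haN := hA ha
    have := (Subgroup.mem_normalizer_iff.mp haN m).mp hm.1
    rw [commutatorElement_def]
    exact H.mul_mem this (H.inv_mem hm.1)
  have h6 : ⁅N, A⁆ ≤ C := by
    rw [Subgroup.commutator_comm]
    exact (le_inf h5 h4).trans hC
  have h7 : (n : G) ∈ Subgroup.centralizer (A : Set G) := by
    rw [Subgroup.mem_centralizer_iff]
    intro x hx
    set z := ⁅(n : G)⁻¹, x⁆ with hz
    have hzC : z ∈ C := h6 (Subgroup.commutator_mem_commutator (N.inv_mem hnNG) hx)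
    have hxh : x * (n : G) * x⁻¹ = (n : G) * z := by
      rw [hz, commutatorElement_def]; group
    have hxz : x * z * x⁻¹ = z := by
      have := (Subgroup.mem_centralizer_iff.mp (hCA hzC)) x hx
      rw [this, mul_inv_cancel_right]
    have hzH : z ^ Nat.card H = 1 := by
      have h8 : orderOf z ∣ Nat.card H := Subgroup.orderOf_dvd_natCard H (hCH hzC)
      exact orderOf_dvd_iff_pow_eq_one.mp h8
    have hcopx : (orderOf x).Coprime (Nat.card H) :=
      Nat.Coprime.coprime_dvd_left (Subgroup.orderOf_dvd_natCard A hx) hcop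
    have hz1 := eq_one_of_conj_eq_mul_of_coprime x n z hxh hxz (Nat.card H) hzH hcopx
    rw [hz1, mul_one] at hxh
    calc x * (n : G) = (x * n * x⁻¹) * x := by group
      _ = n * x := by rw [hxh]
  apply hnC
  rw [Subgroup.mem_subgroupOf]
  exact ⟨n.2, h7⟩

end Cfsg.Agent.S1442
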