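import Cfsg.Statements.S1259
import Cfsg.Agent.Lib.Helper9.Quasisimple

set_option autoImplicit false
open Cfsg

namespace Cfsg.Agent.S1259

open Cfsg.Agent.Lib.Helper9

theorem normal_case {X : Type*} [Group X] (hX : Cfsg.IsQuasisimple X) (H : Subgroup X)
    (hH : H.Normal) : H = ⊤ ∨ H ≤ Subgroup.center X := by
  obtain ⟨hp, hs⟩ := hX
  have hn : (H.map (QuotientGroup.mk' (Subgroup.center X))).Normal :=
    hH.map _ (QuotientGroup.mk'_surjective _)
  rcases hn.eq_bot_or_eq_top with h | h
  · right
    rw [Subgroup.map_eq_bot_iff, QuotientGroup.ker_mk'] at h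
    exact h
  · left
    have h1 : H ⊔ Subgroup.center X = ⊤ := by
      have := Subgroup.comap_map_eq (QuotientGroup.mk' (Subgroup.center X)) H
      rw [h, Subgroup.comap_top, QuotientGroup.ker_mk'] at this
      exact this.symm
    have h2 : (⊤ : Subgroup X) = ⁅(⊤ : Subgroup X), ⊤⁆ := by
      have := hp.commutator_eq_top
      rw [commutator_def] at this
      exact this.symm
    rw [eq_top_iff, h2]
    conv_lhs => rw [← h1]
    exact (commutator_sup_center_le H).trans (Subgroup.commutator_le_right H H)

theorem result {X : Type*} [Group X] [Finite X] (hX : Cfsg.IsQuasisimple X) (H : Subgroup X) (hH : H.IsSubnormal) : H = ⊤ ∨ H ≤ Subgroup.center X := by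
  induction hH with
  | top => left; rfl
  | step H K hle hK hN ih =>
    rcases ih with rfl | h
    · apply normal_case hX
      rw [Subgroup.normal_subgroupOf_iff hle] at hN
      exact ⟨fun n hn g => hN n g hn (Subgroup.mem_top g)⟩
    · right; exact hle.trans h

end Cfsg.Agent.S1259
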