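import Cfsg.Statements.S3743
import Cfsg.Agent.Lib.helper23.Fitting

set_option autoImplicit false
open Cfsg

namespace Cfsg.Agent.S3743

open Subgroup

section
variable {G : Type*} [Group G]

theorem card_sup_dvd_of_le_normalizer (H N : Subgroup G) (hLE : H ≤ normalizer (N : Set G)) :
    Nat.card (H ⊔ N : Subgroup G) ∣ Nat.card H * Nat.card N := by
  have h1 : N.relIndex (H ⊔ N) = N.relIndex H := by
    have := Subgroup.normal_subgroupOf_of_le_normalizer hLE
    have := Subgroup.normal_subgroupOf_sup_of_le_normalizer hLE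
    exact (Nat.card_congr
      (QuotientGroup.quotientInfEquivProdNormalizerQuotient H N hLE).toEquiv).symm
  rw [← Cfsg.Agent.Lib.helper23.card_mul_relIndex (le_sup_right : N ≤ H ⊔ N), h1, mul_comm]
  exact Nat.mul_dvd_mul (Subgroup.relIndex_dvd_card _ _) dvd_rfl

/-- the set of `K`-invariant `P`-subgroups of `K` -/
def coreSet (P : Subgroup G → Prop) (K : Subgroup G) : Set (Subgroup G) :=
  {N | N ≤ K ∧ K ≤ normalizer (N : Set G) ∧ P N}

/-- the `P`-radical of `K` -/
def coreIn (P : Subgroup G → Prop) (K : Subgroup G) : Subgroup G := sSup (coreSet P K)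

theorem conj_mem_of_le_normalizer {H K : Subgroup G} (hK : K ≤ normalizer (H : Set G))
    {k : G} (hk : k ∈ K) {x : G} (hx : x ∈ H) : k * x * k⁻¹ ∈ H :=
  (Subgroup.mem_set_normalizer_iff.mp (hK hk) x).mp hx

theorem le_normalizer_of_conj_mem {H K : Subgroup G}
    (h : ∀ k ∈ K, ∀ x ∈ H, k * x * k⁻¹ ∈ H) : K ≤ normalizer (H : Set G) := by
  intro k hk
  rw [Subgroup.mem_set_normalizer_iff]
  intro x
  refine ⟨h k hk x, fun hx => ?_⟩
  have := h k⁻¹ (K.inv_mem hk) _ hx
  simpa [mul_assoc] using this

variable (P : Subgroup G → Prop)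
  (hbot : P ⊥)
  (hconj : ∀ (g : G) (N : Subgroup G), P N → P (N.map (MulAut.conj g).toMonoidHom))
  (hsup : ∀ M N : Subgroup G, M ≤ normalizer (N : Set G) → N ≤ normalizer (M : Set G) →
    P M → P N → P (M ⊔ N))

include hbot hsup in
theorem coreIn_mem [Finite G] (K : Subgroup G) : coreIn P K ∈ coreSet P K := by
  classical
  have hfin : (coreSet P K).Finite := Set.toFinite _
  have hb : (⊥ : Subgroup G) ∈ coreSet P K := ⟨bot_le, by
    rw [Subgroup.normalizer_eq_top_iff.mpr (inferInstance : (⊥ : Subgroup G).Normal)]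
    exact le_top, hbot⟩
  have hs : ∀ x ∈ coreSet P K, ∀ y ∈ coreSet P K, x ⊔ y ∈ coreSet P K := by
    intro x hx y hy
    refine ⟨sup_le hx.1 hy.1, ?_, hsup x y (hx.1.trans hy.2.1) (hy.1.trans hx.2.1) hx.2.2 hy.2.2⟩
    exact (le_inf hx.2.1 hy.2.1).trans (Subgroup.normalizer_inf_normalizer_le_normalizer_sup x y)
  have := Finset.sup_mem (coreSet P K) hb hs hfin.toFinset id (fun i hi => by simpa using hi)
  rw [Finset.sup_id_eq_sSup, Set.Finite.coe_toFinset] at this
  exact this

include hbot hconj hsup in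
theorem coreIn_mono_of_normal [Finite G] {H K : Subgroup G} (hHK : H ≤ K)
    (hN : K ≤ normalizer (H : Set G)) : coreIn P H ≤ coreIn P K := by
  have hmem := coreIn_mem P hbot hsup H
  apply le_sSup
  refine ⟨hmem.1.trans hHK, ?_, hmem.2.2⟩
  apply le_normalizer_of_conj_mem
  intro k hk x hx
  -- the conjugate of coreIn P H by k is in coreSet P H
  have hc : (coreIn P H).map (MulAut.conj k).toMonoidHom ∈ coreSet P H := by
    refine ⟨?_, ?_, hconj k _ hmem.2.2⟩
    · rintro _ ⟨y, hy, rfl⟩
      exact conj_mem_of_le_normalizer hN hk (hmem.1 hy)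
    · apply le_normalizer_of_conj_mem
      rintro h hh _ ⟨y, hy, rfl⟩
      refine ⟨(k⁻¹ * h * k) * y * (k⁻¹ * h * k)⁻¹, ?_, ?_⟩
      · refine conj_mem_of_le_normalizer hmem.2.1 ?_ hy
        have := conj_mem_of_le_normalizer hN (K.inv_mem hk) hh
        simpa using this
      · simp [mul_assoc]
  have : (coreIn P H).map (MulAut.conj k).toMonoidHom ≤ coreIn P H := le_sSup hc
  exact this ⟨x, hx, rfl⟩

include hbot hconj hsup in
theorem coreIn_le_of_isSubnormal [Finite G] (A : Subgroup G) (hA : A.IsSubnormal) :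
    coreIn P A ≤ sSup {N : Subgroup G | N.Normal ∧ P N} := by
  induction hA with
  | top =>
    apply sSup_le_sSup
    rintro N ⟨-, h2, h3⟩
    exact ⟨Subgroup.normalizer_eq_top_iff.mp (top_le_iff.mp h2), h3⟩
  | step H K h_le hSubn hN ih =>
    exact (coreIn_mono_of_normal P hbot hconj hsup h_le
      ((Subgroup.normal_subgroupOf_iff_le_normalizer h_le).mp hN)).trans ih

include hbot hconj hsup in
theorem le_radical_of_isSubnormal [Finite G] (A : Subgroup G) (hA : A.IsSubnormal) (hPA : P A) :
    A ≤ sSup {N : Subgroup G | N.Normal ∧ P N} := by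
  refine le_trans ?_ (coreIn_le_of_isSubnormal P hbot hconj hsup A hA)
  exact le_sSup ⟨le_rfl, Subgroup.le_normalizer, hPA⟩

end

/-- In a finite group G, every subnormal nilpotent subgroup lies in the Fitting subgroup F(G), and, for a set of primes π, every subnormal subgroup all of whose prime divisors lie in π lies in O_π(G). -/
theorem result {G : Type*} [Group G] [Finite G] (A : Subgroup G) (hA : A.IsSubnormal) : (Group.IsNilpotent A → A ≤ Cfsg.fittingSubgroup G) ∧ ∀ π : Set ℕ, (∀ p : ℕ, p.Prime → p ∣ Nat.card A → p ∈ π) → A ≤ Cfsg.piCore π G := by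
  constructor
  · intro hnil
    refine le_radical_of_isSubnormal (fun N : Subgroup G => Group.IsNilpotent N) ?_ ?_ ?_ A hA hnil
    · infer_instance
    · intro g N hN
      have := hN
      exact Group.nilpotent_of_mulEquiv
        (N.equivMapOfInjective (MulAut.conj g).toMonoidHom (MulAut.conj g).injective)
    · intro M N hMN hNM hM hN
      -- work inside L = M ⊔ N
      have hML : M ≤ M ⊔ N := le_sup_left
      have hNL : N ≤ M ⊔ N := le_sup_right
      have : (M.subgroupOf (M ⊔ N)).Normal :=
        (Subgroup.normal_subgroupOf_iff_le_normalizer hML).mpr (sup_le Subgroup.le_normalizer hNM)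
      have : (N.subgroupOf (M ⊔ N)).Normal :=
        (Subgroup.normal_subgroupOf_iff_le_normalizer hNL).mpr (sup_le hMN Subgroup.le_normalizer)
      have := hM
      have := hN
      have h1 : Group.IsNilpotent (M.subgroupOf (M ⊔ N)) :=
        Group.nilpotent_of_mulEquiv (Subgroup.subgroupOfEquivOfLe hML).symm
      have h2 : Group.IsNilpotent (N.subgroupOf (M ⊔ N)) :=
        Group.nilpotent_of_mulEquiv (Subgroup.subgroupOfEquivOfLe hNL).symm
      have h3 := Cfsg.Agent.Lib.helper23.isNilpotent_sup_of_normal _ _ h1 h2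
      rw [← Subgroup.subgroupOf_sup hML hNL, Subgroup.subgroupOf_self] at h3
      have := h3
      exact Group.nilpotent_of_mulEquiv (Subgroup.topEquiv : (⊤ : Subgroup ↥(M ⊔ N)) ≃* _)
  · intro π hπ
    refine le_radical_of_isSubnormal
      (fun N : Subgroup G => ∀ p : ℕ, p.Prime → p ∣ Nat.card N → p ∈ π) ?_ ?_ ?_ A hA hπ
    · intro p hp hdvd
      simp at hdvd
      exact absurd hdvd hp.one_lt.ne'
    · intro g N hN p hp hdvd
      apply hN p hp
      rwa [Subgroup.card_map_of_injective (MulAut.conj g).injective] at hdvd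
    · intro M N hMN hNM hM hN p hp hdvd
      have := hdvd.trans (card_sup_dvd_of_le_normalizer M N hMN)
      rcases (Nat.Prime.dvd_mul hp).mp this with h | h
      · exact hM p hp h
      · exact hN p hp h

end Cfsg.Agent.S3743
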