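import Cfsg.Statements.S1263
import Cfsg.Agent.Lib.Helper9.Components

set_option autoImplicit false
open Cfsg

namespace Cfsg.Agent.S1263

open Cfsg.Agent.Lib.Helper9

theorem map_center_subtype {G : Type*} [Group G] (A : Subgroup G) :
    (Subgroup.center ↥A).map A.subtype = A ⊓ Subgroup.centralizer (A : Set G) := by
  ext x
  constructor
  · rintro ⟨a, ha, rfl⟩
    rw [SetLike.mem_coe, Subgroup.mem_center_iff] at ha
    refine Subgroup.mem_inf.2 ⟨a.2, ?_⟩
    rw [Subgroup.mem_centralizer_iff]
    intro b hb
    exact congrArg Subtype.val (ha ⟨b, hb⟩)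
  · intro hx
    obtain ⟨hxA, hxc⟩ := Subgroup.mem_inf.1 hx
    rw [Subgroup.mem_centralizer_iff] at hxc
    refine ⟨⟨x, hxA⟩, ?_, rfl⟩
    rw [SetLike.mem_coe, Subgroup.mem_center_iff]
    intro b
    ext
    exact hxc b b.2

theorem mem_sup_of_commute {G : Type*} [Group G] {A B : Subgroup G}
    (hAB : ∀ a ∈ A, ∀ b ∈ B, a * b = b * a) {x : G} :
    x ∈ A ⊔ B ↔ ∃ a ∈ A, ∃ b ∈ B, a * b = x := by
  have hle : A ≤ Subgroup.normalizer (B : Set G) := by
    intro a ha
    rw [Subgroup.mem_normalizer_iff]
    intro b
    constructor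
    · intro hb
      have : a * b * a⁻¹ = b := by rw [hAB a ha b hb]; group
      rwa [this]
    · intro hb
      have h1 := hAB a ha _ hb
      have : b = a * b * a⁻¹ := by
        calc b = a⁻¹ * ((a * b * a⁻¹) * a) := by group
          _ = a⁻¹ * (a * (a * b * a⁻¹)) := by rw [h1]
          _ = a * b * a⁻¹ := by group
      rw [this]; exact hb
  have := Subgroup.coe_mul_of_left_le_normalizer_right A B hle
  rw [← SetLike.mem_coe, this]
  exact Set.mem_mul

theorem zs_sup_le {G : Type*} [Group G] {A B : Subgroup G}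
    (hAB : ∀ a ∈ A, ∀ b ∈ B, a * b = b * a) :
    (A ⊔ B) ⊓ Subgroup.centralizer ((A ⊔ B : Subgroup G) : Set G)
      ≤ (A ⊓ Subgroup.centralizer (A : Set G)) ⊔ (B ⊓ Subgroup.centralizer (B : Set G)) := by
  intro z hz
  obtain ⟨hz1, hz2⟩ := Subgroup.mem_inf.1 hz
  rw [Subgroup.mem_centralizer_iff] at hz2
  obtain ⟨a, ha, b, hb, rfl⟩ := (mem_sup_of_commute hAB).1 hz1
  apply Subgroup.mul_mem_sup
  · refine Subgroup.mem_inf.2 ⟨ha, ?_⟩
    rw [Subgroup.mem_centralizer_iff]
    intro x hx
    have h1 := hz2 x ((le_sup_left : A ≤ A ⊔ B) hx)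
    have h2 := hAB x hx b hb
    have : x * a * b = a * x * b := by
      calc x * a * b = x * (a * b) := by group
        _ = a * b * x := h1
        _ = a * (b * x) := by group
        _ = a * (x * b) := by rw [h2]
        _ = a * x * b := by group
    exact mul_right_cancel this
  · refine Subgroup.mem_inf.2 ⟨hb, ?_⟩
    rw [Subgroup.mem_centralizer_iff]
    intro x hx
    have h1 := hz2 x ((le_sup_right : B ≤ A ⊔ B) hx)
    have h2 := hAB a ha x hx
    have : a * (x * b) = a * (b * x) := by
      calc a * (x * b) = (a * x) * b := by group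
        _ = (x * a) * b := by rw [h2]
        _ = x * (a * b) := by group
        _ = a * b * x := h1
        _ = a * (b * x) := by group
    exact mul_left_cancel this

theorem distinct_components_commute {G : Type*} [Group G] [Finite G] {K L : Subgroup G}
    (hK : Cfsg.IsComponent K) (hL : Cfsg.IsComponent L) (hne : K ≠ L) : ⁅K, L⁆ = ⊥ := by
  rcases component_le_or_commute K L hK hL.1 with h | h
  · rcases component_le_or_commute L K hL hK.1 with h' | h'
    · exact absurd (le_antisymm h h') hne
    · rw [Subgroup.commutator_comm]; exact h'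
  · exact h

theorem key {G : Type*} [Group G] [Finite G] (S : Finset (Subgroup G)) :
    (∀ K ∈ S, Cfsg.IsComponent K) →
    (⨆ K ∈ S, K) ⊓ Subgroup.centralizer ((⨆ K ∈ S, K : Subgroup G) : Set G)
      ≤ ⨆ K ∈ S, (K ⊓ Subgroup.centralizer (K : Set G)) := by
  classical
  induction S using Finset.induction_on with
  | empty =>
    intro _
    simp
  | insert L S hLS ih =>
    intro hS
    have hS' : ∀ K ∈ S, Cfsg.IsComponent K := fun K hK => hS K (Finset.mem_insert_of_mem hK)
    have hL : Cfsg.IsComponent L := hS L (Finset.mem_insert_self L S)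
    rw [Finset.iSup_insert, Finset.iSup_insert]
    have hcomm : ∀ a ∈ L, ∀ b ∈ (⨆ K ∈ S, K : Subgroup G), a * b = b * a := by
      have hle : (⨆ K ∈ S, K : Subgroup G) ≤ Subgroup.centralizer (L : Set G) := by
        apply iSup₂_le
        intro K hK
        have hne : K ≠ L := fun h => hLS (h ▸ hK)
        exact Subgroup.commutator_eq_bot_iff_le_centralizer.1
          (distinct_components_commute (hS' K hK) hL hne)
      intro a ha b hb
      have := hle hb
      rw [Subgroup.mem_centralizer_iff] at this
      exact this a ha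
    exact (zs_sup_le hcomm).trans (sup_le_sup le_rfl (ih hS'))

theorem result {G : Type*} [Group G] [Finite G] : (Subgroup.center ↥(Cfsg.layer G)).map (Cfsg.layer G).subtype = ⨆ L : {K : Subgroup G // Cfsg.IsComponent K}, (Subgroup.center ↥(L : Subgroup G)).map (L : Subgroup G).subtype := by
  classical
  have hfin : Set.Finite {K : Subgroup G | Cfsg.IsComponent K} := Set.toFinite _
  set S := hfin.toFinset with hS
  have hSmem : ∀ K, K ∈ S ↔ Cfsg.IsComponent K := fun K => by simp [hS]
  have hlayer : Cfsg.layer G = ⨆ K ∈ S, K := by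
    unfold Cfsg.layer
    rw [sSup_eq_iSup]
    apply le_antisymm
    · apply iSup₂_le
      intro K hK
      exact le_iSup₂_of_le K ((hSmem K).2 hK) le_rfl
    · apply iSup₂_le
      intro K hK
      exact le_iSup₂_of_le K ((hSmem K).1 hK) le_rfl
  have hrhs : (⨆ L : {K : Subgroup G // Cfsg.IsComponent K}, (Subgroup.center ↥(L : Subgroup G)).map (L : Subgroup G).subtype)
      = ⨆ K ∈ S, (K ⊓ Subgroup.centralizer (K : Set G)) := by
    apply le_antisymm
    · apply iSup_le
      rintro ⟨K, hK⟩
      rw [map_center_subtype]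
      exact le_iSup₂_of_le K ((hSmem K).2 hK) le_rfl
    · apply iSup₂_le
      intro K hK
      rw [← map_center_subtype]
      exact le_iSup_of_le (⟨K, (hSmem K).1 hK⟩ : {K : Subgroup G // Cfsg.IsComponent K}) le_rfl
  rw [hrhs, map_center_subtype]
  apply le_antisymm
  · rw [hlayer]
    exact key S (fun K hK => (hSmem K).1 hK)
  · apply iSup₂_le
    intro L hL
    have hLc := (hSmem L).1 hL
    intro z hz
    obtain ⟨hzL, hzc⟩ := Subgroup.mem_inf.1 hz
    rw [Subgroup.mem_centralizer_iff] at hzc
    have hLE : L ≤ Cfsg.layer G := by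
      rw [hlayer]; exact le_iSup₂_of_le L hL le_rfl
    refine Subgroup.mem_inf.2 ⟨hLE hzL, ?_⟩
    -- z commutes with every component
    have hcent : Cfsg.layer G ≤ Subgroup.centralizer ({z} : Set G) := by
      unfold Cfsg.layer
      apply sSup_le
      intro K hK k hk
      rw [Subgroup.mem_centralizer_singleton_iff]
      rcases component_le_or_commute K L hK hLc.1 with h | h
      · exact (hzc k (h hk))
      · have := Subgroup.commutator_eq_bot_iff_le_centralizer.1 h hk
        rw [Subgroup.mem_centralizer_iff] at this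
        exact (this z hzL).symm
    rw [Subgroup.mem_centralizer_iff]
    intro e he
    have := hcent he
    rw [Subgroup.mem_centralizer_singleton_iff] at this
    exact this

end Cfsg.Agent.S1263
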