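import Cfsg.Statements.S1265
import Cfsg.Agent.Lib.Helper9.GenFitting2

set_option autoImplicit false
open Cfsg

namespace Cfsg.Agent.S1265

open Cfsg.Agent.Lib.Helper9

theorem result {G : Type*} [Group G] [Finite G] : Subgroup.centralizer (Cfsg.generalizedFittingSubgroup G : Set G) ≤ Cfsg.generalizedFittingSubgroup G := by
  set Fs := Cfsg.generalizedFittingSubgroup G with hFs
  have hFsn : Fs.Normal := Cfsg.Agent.Lib.Helper12.generalizedFittingSubgroup_normal G
  set C := Subgroup.centralizer (Fs : Set G) with hC
  have hCn : C.Normal := Subgroup.normal_centralizer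
  have hFle : Cfsg.fittingSubgroup G ≤ Fs := le_sup_right
  have hEle : Cfsg.layer G ≤ Fs := le_sup_left
  -- elements of C commute with elements of C ⊓ Fs
  have hcomm : ∀ g ∈ C, ∀ x ∈ Fs, g * x = x * g := by
    intro g hg x hx
    rw [hC, Subgroup.mem_centralizer_iff] at hg
    exact (hg x hx).symm
  -- (1) Fitting subgroup of C is central
  have h1 : Cfsg.fittingSubgroup ↥C ≤ Subgroup.center ↥C := by
    intro x hx
    have hxF : (x : G) ∈ Cfsg.fittingSubgroup G :=
      fitting_map_le_of_subnormal C hCn.isSubnormal ⟨x, hx, rfl⟩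
    rw [Subgroup.mem_center_iff]
    intro g
    ext
    exact hcomm g g.2 x (hFle hxF)
  -- (2)+(3) C is abelian
  have h3 : ∀ a b : C, a * b = b * a := by
    by_contra hna
    push Not at hna
    obtain ⟨K, hK⟩ := exists_component_of_fitting_central h1 hna
    have hKG : Cfsg.IsComponent (K.map C.subtype) :=
      ⟨hK.1.trans' hCn.isSubnormal,
        isQuasisimple_of_mulEquiv (K.equivMapOfInjective C.subtype C.subtype_injective) hK.2⟩
    have hKE : K.map C.subtype ≤ Cfsg.layer G := le_sSup hKG
    have hKcomm : IsMulCommutative K := by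
      refine ⟨⟨fun a b => ?_⟩⟩
      ext
      have hb : ((b : C) : G) ∈ Fs := hEle (hKE ⟨b, b.2, rfl⟩)
      exact hcomm a (a : C).2 b hb
    have hperf : Group.IsPerfect K := hK.2.1
    have hsub : Subsingleton K := Group.IsPerfect.subsingleton_of_isMulCommutative
    have hsimp : IsSimpleGroup (K ⧸ Subgroup.center K) := hK.2.2
    have : Subsingleton (K ⧸ Subgroup.center K) := inferInstance
    exact not_subsingleton _ this
  -- (4)
  have hnil : Group.IsNilpotent C := by
    let _ : CommGroup C := { mul_comm := h3 }
    exact CommGroup.isNilpotent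
  exact (Cfsg.Agent.Lib.Helper1.le_fittingSubgroup hCn hnil).trans hFle

end Cfsg.Agent.S1265
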