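import Mathlib
import Cfsg.Statements.S1327
import Cfsg.Agent.Lib.Helper10.PComp4
import Cfsg.Agent.S1265

set_option autoImplicit false
open Cfsg

namespace Cfsg.Agent.S1327
open Cfsg.Agent.Lib.Helper10 Cfsg.Agent.Lib.Helper9

theorem fitting_eq_pCore {G : Type*} [Group G] [Finite G] (p : ℕ) [hp : Fact p.Prime]
    (h : pPrimeCore p G = ⊥) : fittingSubgroup G = pCore p G := by
  apply le_antisymm
  · rw [Cfsg.Agent.Lib.Helper1.fittingSubgroup_eq_iSup_pCore]
    apply iSup_le
    intro q
    by_cases hq : (q : ℕ) = p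
    · rw [hq]
    · have hqf : Fact (q : ℕ).Prime := ⟨q.2⟩
      have h1 : IsPGroup (q : ℕ) (pCore (q : ℕ) G) := Cfsg.Agent.Lib.Helper1.pCore_isPGroup q
      obtain ⟨k, hk⟩ := IsPGroup.iff_card.1 h1
      have h2 : (Nat.card (pCore (q : ℕ) G)).Coprime p := by
        rw [hk]
        apply Nat.Coprime.pow_left
        exact (Nat.coprime_primes q.2 hp.out).2 hq
      have h3 := Cfsg.Agent.Lib.Helper1.le_pPrimeCore
        (Cfsg.Agent.Lib.Helper1.pCore_normal (G := G) q) h2
      rw [h] at h3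
      exact h3.trans bot_le
  · exact Cfsg.Agent.Lib.Helper1.pCore_le_fittingSubgroup p

section Main

variable {G : Type*} [Group G] [Finite G] (p : ℕ) [hp : Fact p.Prime]

theorem sylow_map_eq' {Q : Type*} [Group Q] (f0 : G →* Q) (hf0 : Function.Surjective f0)
    (B : Subgroup Q) (hB : IsPGroup p ↥B) (P : Sylow p ↥(B.comap f0)) :
    (((P : Subgroup ↥(B.comap f0)).map (B.comap f0).subtype).map f0) = B := by
  have hfs : Function.Surjective (f0.subgroupComap B) :=
    MonoidHom.subgroupComap_surjective_of_surjective _ _ hf0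
  have h1 : ((P : Subgroup ↥(B.comap f0)).map (f0.subgroupComap B)).index ∣
      (P : Subgroup ↥(B.comap f0)).index := Subgroup.index_map_dvd _ hfs
  have h2 : ¬ p ∣ (P : Subgroup ↥(B.comap f0)).index := P.not_dvd_index
  have hfinQ : Finite Q := Finite.of_surjective f0 hf0
  obtain ⟨n, hn⟩ := hB.index ((P : Subgroup ↥(B.comap f0)).map (f0.subgroupComap B))
  have h4 : ((P : Subgroup ↥(B.comap f0)).map (f0.subgroupComap B)) = ⊤ := by
    rw [← Subgroup.index_eq_one, hn]
    rcases Nat.eq_zero_or_pos n with h0 | h0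
    · rw [h0, pow_zero]
    · exfalso
      apply h2
      refine dvd_trans ?_ h1
      rw [hn]
      exact dvd_pow_self p h0.ne'
  have h5 : (((P : Subgroup ↥(B.comap f0)).map (B.comap f0).subtype).map f0) =
      ((P : Subgroup ↥(B.comap f0)).map (f0.subgroupComap B)).map B.subtype := by
    rw [Subgroup.map_map, Subgroup.map_map]
    rfl
  rw [h5, h4, ← MonoidHom.range_eq_map, Subgroup.range_subtype]

theorem sylow_inf_core' (N : Subgroup G) (hN : (Nat.card N).Coprime p) (R : Subgroup G)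
    (P : Sylow p ↥R) : ((P : Subgroup ↥R).map R.subtype) ⊓ N = ⊥ := by
  apply Subgroup.inf_eq_bot_of_coprime
  rw [Subgroup.card_map_of_injective (Subgroup.subtype_injective _)]
  obtain ⟨k, hk⟩ := IsPGroup.iff_card.1 P.isPGroup'
  rw [hk]
  apply Nat.Coprime.pow_left
  exact hN.symm

theorem centralizer_le_map' (N : Subgroup G) [N.Normal] (hN : (Nat.card N).Coprime p)
    (B : Subgroup (G ⧸ N)) [hBn : B.Normal] (hB : IsPGroup p ↥B)
    (P : Sylow p ↥(B.comap (QuotientGroup.mk' N))) :
    Subgroup.centralizer (B : Set (G ⧸ N)) ≤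
      (Subgroup.centralizer (((P : Subgroup ↥(B.comap (QuotientGroup.mk' N))).map
        (B.comap (QuotientGroup.mk' N)).subtype : Subgroup G) : Set G)).map
        (QuotientGroup.mk' N) := by
  have hRn : (B.comap (QuotientGroup.mk' N)).Normal := hBn.comap _
  have hmap := sylow_map_eq' p (QuotientGroup.mk' N) (QuotientGroup.mk'_surjective N) B hB P
  have hinf := sylow_inf_core' p N hN _ P
  have hfr := Sylow.normalizer_sup_eq_top P
  revert hmap hinf hfr
  generalize ((P : Subgroup ↥(B.comap (QuotientGroup.mk' N))).map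
        (B.comap (QuotientGroup.mk' N)).subtype : Subgroup G) = PP
  intro hmap hinf hfr
  have hRP : B.comap (QuotientGroup.mk' N) = PP ⊔ N := by
    have h1 := Subgroup.comap_map_eq (QuotientGroup.mk' N) PP
    rw [QuotientGroup.ker_mk'] at h1
    rw [← h1, hmap]
  have htop : Subgroup.normalizer (PP : Set G) ⊔ N = ⊤ := by
    rw [eq_top_iff, ← hfr]
    apply sup_le le_sup_left
    rw [hRP]
    exact sup_le (le_sup_of_le_left Subgroup.le_normalizer) le_sup_right
  intro xbar hxbar
  obtain ⟨x, rfl⟩ := QuotientGroup.mk'_surjective N xbar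
  have hx : x ∈ Subgroup.normalizer (PP : Set G) ⊔ N := by rw [htop]; trivial
  rw [Subgroup.mem_sup_of_normal_right] at hx
  obtain ⟨m, hm, n, hn, rfl⟩ := hx
  have hmn : (QuotientGroup.mk' N) (m * n) = (QuotientGroup.mk' N) m := by
    rw [map_mul]
    have : (QuotientGroup.mk' N) n = 1 := by
      rw [← MonoidHom.mem_ker, QuotientGroup.ker_mk']; exact hn
    rw [this, mul_one]
  rw [hmn] at hxbar ⊢
  refine Subgroup.mem_map_of_mem _ ?_
  rw [Subgroup.mem_centralizer_iff]
  intro y hy
  have hy' : y ∈ PP := hy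
  have h1 : m * y * m⁻¹ ∈ PP := (Subgroup.mem_normalizer_iff.1 hm y).1 hy'
  have h2 : m * y * m⁻¹ * y⁻¹ ∈ PP := PP.mul_mem h1 (PP.inv_mem hy')
  have h3 : m * y * m⁻¹ * y⁻¹ ∈ N := by
    rw [← QuotientGroup.ker_mk' N, MonoidHom.mem_ker]
    rw [Subgroup.mem_centralizer_iff] at hxbar
    have hyb : (QuotientGroup.mk' N) y ∈ B := by
      rw [← hmap]; exact Subgroup.mem_map_of_mem _ hy'
    have h4 := hxbar _ hyb
    rw [map_mul, map_mul, map_mul, map_inv, map_inv, ← h4]
    group
  have h5 : m * y * m⁻¹ * y⁻¹ ∈ PP ⊓ N := Subgroup.mem_inf.2 ⟨h2, h3⟩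
  rw [hinf, Subgroup.mem_bot] at h5
  calc y * m = (m * y * m⁻¹ * y⁻¹)⁻¹ * (m * y) := by group
    _ = m * y := by rw [h5]; group

end Main

section Main2

variable {X : Type*} [Group X] [Finite X] (p : ℕ) [hp : Fact p.Prime]

theorem sylow_map_eq (P : Sylow p ↥(pPrimePCore p X)) :
    (((P : Subgroup ↥(pPrimePCore p X)).map (pPrimePCore p X).subtype).map
      (QuotientGroup.mk' (pPrimeCore p X))) = pCore p (X ⧸ pPrimeCore p X) :=
  sylow_map_eq' p (QuotientGroup.mk' (pPrimeCore p X)) (QuotientGroup.mk'_surjective _)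
    (pCore p (X ⧸ pPrimeCore p X)) (Cfsg.Agent.Lib.Helper1.pCore_isPGroup p) P

theorem centralizer_le_map (P : Sylow p ↥(pPrimePCore p X)) :
    Subgroup.centralizer ((pCore p (X ⧸ pPrimeCore p X) : Subgroup _) : Set _) ≤
      (Subgroup.centralizer (((P : Subgroup ↥(pPrimePCore p X)).map
        (pPrimePCore p X).subtype : Subgroup X) : Set X)).map
        (QuotientGroup.mk' (pPrimeCore p X)) :=
  centralizer_le_map' p (pPrimeCore p X) (Cfsg.Agent.Lib.Helper1.pPrimeCore_card_coprime p)
    (pCore p (X ⧸ pPrimeCore p X)) (Cfsg.Agent.Lib.Helper1.pCore_isPGroup p) P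

end Main2

theorem result {X : Type*} [Group X] [Finite X] (p : ℕ) [Fact p.Prime] : Cfsg.IsPConstrained p X ↔ Cfsg.pLayer p X = ⊥ := by
  have hQ : pPrimeCore p (X ⧸ pPrimeCore p X) = ⊥ := pPrimeCore_quotient_eq_bot p
  have hF := fitting_eq_pCore p hQ
  constructor
  · intro hc
    rw [pLayer, sSup_eq_bot]
    intro K hK
    exfalso
    have hK' : IsPComponent p K := hK
    have hKc : IsComponent (K.map (QuotientGroup.mk' (pPrimeCore p X))) := hK'.2.1
    obtain ⟨P⟩ : Nonempty (Sylow p ↥(pPrimePCore p X)) := inferInstance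
    have h1 : K.map (QuotientGroup.mk' (pPrimeCore p X)) ≤
        Subgroup.centralizer ((pCore p (X ⧸ pPrimeCore p X) : Subgroup _) : Set _) := by
      rw [← hF, ← Subgroup.commutator_eq_bot_iff_le_centralizer, eq_bot_iff,
        ← commutator_layer_fitting (G := X ⧸ pPrimeCore p X)]
      exact Subgroup.commutator_mono (component_le_layer hKc) le_rfl
    have h2 := h1.trans (centralizer_le_map p P)
    have h3 : (Subgroup.centralizer (((P : Subgroup ↥(pPrimePCore p X)).map
        (pPrimePCore p X).subtype : Subgroup X) : Set X)).map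
        (QuotientGroup.mk' (pPrimeCore p X)) ≤ pCore p (X ⧸ pPrimeCore p X) := by
      rw [Subgroup.map_le_iff_le_comap]
      exact hc P
    have h4 : IsPGroup p ↥(K.map (QuotientGroup.mk' (pPrimeCore p X))) :=
      (Cfsg.Agent.Lib.Helper1.pCore_isPGroup p).to_le (h2.trans h3)
    have h5 : Group.IsNilpotent ↥(K.map (QuotientGroup.mk' (pPrimeCore p X))) := h4.isNilpotent
    exact isComponent_not_isSolvable hKc inferInstance
  · intro hL P
    have hE : layer (X ⧸ pPrimeCore p X) = ⊥ := by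
      rw [← map_pLayer p, hL, Subgroup.map_bot]
    have hFs : generalizedFittingSubgroup (X ⧸ pPrimeCore p X) = pCore p (X ⧸ pPrimeCore p X) := by
      rw [generalizedFittingSubgroup, hE, bot_sup_eq, hF]
    have h1 := Cfsg.Agent.S1265.result (G := X ⧸ pPrimeCore p X)
    rw [hFs] at h1
    intro x hx
    change (QuotientGroup.mk' (pPrimeCore p X)) x ∈ pCore p (X ⧸ pPrimeCore p X)
    apply h1
    rw [← sylow_map_eq p P]
    rw [Subgroup.mem_centralizer_iff]
    rintro _ ⟨y, hy, rfl⟩
    rw [Subgroup.mem_centralizer_iff] at hx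
    rw [← map_mul, ← map_mul, hx y hy]

end Cfsg.Agent.S1327
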