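import Cfsg.Statements.S0058
import Cfsg.Agent.Lib.Helper1.CoprimeGen
import Cfsg.Agent.S0023

set_option autoImplicit false
open Cfsg
open Cfsg.Agent.Lib.Helper1
open scoped IsMulCommutative

namespace Cfsg.Agent.S0058

/-- Generation by centralisers: when a noncyclic abelian group A normalises K with coprime orders, K is generated by the fixed-point subgroups of the nonidentity elements of A. -/
theorem result {G : Type*} [Group G] [Finite G] (A K : Subgroup G)
    [IsMulCommutative A] (hA : ¬ IsCyclic A) (hAK : A ≤ Subgroup.normalizer (K : Set G)) (hcop : (Nat.card A).Coprime (Nat.card K)) :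
    (⨆ a ∈ {a : G | a ∈ A ∧ a ≠ 1}, K ⊓ Subgroup.centralizer {a}) = K := by
  classical
  obtain ⟨r, hr, x, y, hx1, hxr, hyr, hyx⟩ := exists_noncyclic_pair (A := ↥A) hA
  have hrf : Fact r.Prime := ⟨hr⟩
  have hxG1 : (x : G) ≠ 1 := fun h => hx1 (Subtype.ext h)
  have hxrG : (x : G) ^ r = 1 := by
    have := congrArg Subtype.val hxr
    simpa using this
  have hyrG : (y : G) ^ r = 1 := by
    have := congrArg Subtype.val hyr
    simpa using this
  have hcomm : Commute (y : G) (x : G) := by
    have := congrArg Subtype.val (mul_comm y x)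
    exact this
  have hord : orderOf x = r := orderOf_eq_prime hxr hx1
  have hrA : r ∣ Nat.card A := hord ▸ orderOf_dvd_natCard x
  have hrK : r.Coprime (Nat.card K) := Nat.Coprime.coprime_dvd_left hrA hcop
  have hyne : ∀ j : ℕ, (y : G) * (x : G) ^ j ≠ 1 := by
    intro j hj
    apply hyx
    have h1 : y * x ^ j = 1 := Subtype.ext (by simpa using hj)
    have h2 : y = (x ^ j)⁻¹ := eq_inv_of_mul_eq_one_left h1
    rw [h2]
    exact Subgroup.inv_mem _ (Subgroup.pow_mem _ (Subgroup.mem_zpowers x) j)
  apply le_antisymm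
  · apply iSup₂_le
    intro a _
    exact inf_le_left
  · have hW : ∀ w : G, w ∈ A → w ≠ 1 → K ⊓ Subgroup.centralizer {w} ≤
        ⨆ a ∈ {a : G | a ∈ A ∧ a ≠ 1}, K ⊓ Subgroup.centralizer {a} :=
      fun w hw hw1 => le_iSup₂_of_le w ⟨hw, hw1⟩ le_rfl
    apply sylow_le_imp_le
    intro p _
    have hsolA : Group.IsSolvable A := Group.isSolvable_of_comm (fun a b => mul_comm a b)
    obtain ⟨P, hP⟩ := Cfsg.Agent.S0023.result A K hAK hcop (Or.inl hsolA) p
    refine ⟨P, ?_⟩
    have hQK : (P : Subgroup K).map K.subtype ≤ K := Subgroup.map_subtype_le _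
    have hpg : IsPGroup p ((P : Subgroup K).map K.subtype) := P.isPGroup'.map K.subtype
    have hnil : Group.IsNilpotent ((P : Subgroup K).map K.subtype) := hpg.isNilpotent
    have hsolQ : Group.IsSolvable ((P : Subgroup K).map K.subtype) := inferInstance
    exact core_solvable A r (x : G) (y : G) x.2 y.2 hcomm hxrG hyrG _ _ _ rfl hsolQ hP
      (Cfsg.Agent.Lib.Lead.coprime_of_le hQK hcop)
      (Nat.Coprime.coprime_dvd_right (Subgroup.card_dvd_of_le hQK) hrK)
      (fun j => (inf_le_inf_right _ hQK).trans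
        (hW _ (A.mul_mem y.2 (A.pow_mem x.2 _)) (hyne _)))
      ((inf_le_inf_right _ hQK).trans (hW _ x.2 hxG1))

end Cfsg.Agent.S0058
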