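import Mathlib
import Cfsg.Statements.S1324
import Cfsg.Agent.Lib.Helper10.Hyperplane
import Cfsg.Agent.Lib.Helper1.Fitting
import Cfsg.Agent.S0058

set_option autoImplicit false
open Cfsg

namespace Cfsg.Agent.S1324

open Cfsg.Agent.Lib.Helper10

theorem centralizer_singleton_eq_zpowers {H : Type*} [Group H] (a : H) :
    Subgroup.centralizer ({a} : Set H) =
      Subgroup.centralizer ((Subgroup.zpowers a : Subgroup H) : Set H) := by
  rw [Subgroup.zpowers_eq_closure, Subgroup.centralizer_closure]

theorem not_isCyclic_of_card {H : Type*} [Group H] [Finite H] (p : ℕ) [hp : Fact p.Prime]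
    {A : Subgroup H} (hA : IsElementaryAbelian p A) (hA2 : p ^ 2 ≤ Nat.card ↥A) :
    ¬ IsCyclic ↥A := by
  intro hc
  obtain ⟨g, hg⟩ := hc.exists_generator
  have h1 : Nat.card ↥A = orderOf g := (orderOf_eq_card_of_forall_mem_zpowers hg).symm
  have h2 : orderOf g ∣ p := orderOf_dvd_of_pow_eq_one (Subtype.ext (hA.2 g g.2))
  have h3 : orderOf g ≤ p := Nat.le_of_dvd hp.out.pos h2
  have h4 : p < p ^ 2 := by
    have := hp.out.one_lt
    nlinarith
  omega

theorem gen (p : ℕ) [hp : Fact p.Prime] {H : Type*} [Group H] [Finite H] (n : ℕ) :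
    ∀ (A X : Subgroup H), IsElementaryAbelian p A → Nat.card ↥A = n → p ^ 2 ≤ n →
      ¬ p ∣ Nat.card ↥X → A ≤ Subgroup.normalizer (X : Set H) →
      X ≤ ⨆ B : {B : Subgroup H // B ≤ A ∧ B.relIndex A ≤ p},
        X ⊓ Subgroup.centralizer ((B : Subgroup H) : Set H) := by
  induction n using Nat.strong_induction_on with
  | _ n ih =>
    intro A X hA hcard hn hX hAX
    have hApg : IsPGroup p A := elemAb_isPGroup p hA
    have hcop : (Nat.card A).Coprime (Nat.card X) := by
      obtain ⟨k, hk⟩ := (IsPGroup.iff_card.1 hApg)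
      rw [hk]
      exact Nat.Coprime.pow_left k ((Nat.Prime.coprime_iff_not_dvd hp.out).2 hX)
    have hcomm : IsMulCommutative ↥A := hA.1
    have hncyc : ¬ IsCyclic ↥A := not_isCyclic_of_card p hA (hcard ▸ hn)
    have h58 := Cfsg.Agent.S0058.result A X hncyc hAX hcop
    conv_lhs => rw [← h58]
    apply iSup_le
    intro a
    apply iSup_le
    rintro ⟨haA, ha1⟩
    obtain ⟨A₁, hA₁A, haA₁, hsup, hcardA⟩ := exists_hyperplane_avoiding p hA haA ha1
    have hza : Subgroup.zpowers a ≤ A := by rw [Subgroup.zpowers_le]; exact haA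
    have hoa : orderOf a = p := elemAb_orderOf p hA haA ha1
    by_cases hsmall : Nat.card ↥A₁ < p ^ 2
    · have hidx : (Subgroup.zpowers a).relIndex A ≤ p := by
        have h1 := Cfsg.Agent.Lib.Helper1.card_mul_relIndex_of_le hza
        rw [Nat.card_zpowers, hoa, hcardA] at h1
        have h2 : (Subgroup.zpowers a).relIndex A = Nat.card ↥A₁ := by
          have hp0 : 0 < p := hp.out.pos
          have : p * (Subgroup.zpowers a).relIndex A = p * Nat.card ↥A₁ := by rw [h1, mul_comm]
          exact Nat.eq_of_mul_eq_mul_left hp0 this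
        rw [h2]
        obtain ⟨k, hk⟩ := (IsPGroup.iff_card.1 (hApg.to_le hA₁A))
        rw [hk] at hsmall ⊢
        have hk2 : k < 2 := (Nat.pow_lt_pow_iff_right hp.out.one_lt).1 hsmall
        calc p ^ k ≤ p ^ 1 := Nat.pow_le_pow_right hp.out.pos (by omega)
          _ = p := pow_one p
      have hle : X ⊓ Subgroup.centralizer ({a} : Set H) ≤
          X ⊓ Subgroup.centralizer ((Subgroup.zpowers a : Subgroup H) : Set H) := by
        rw [centralizer_singleton_eq_zpowers]
      exact hle.trans (le_iSup (fun B : {B : Subgroup H // B ≤ A ∧ B.relIndex A ≤ p} =>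
        X ⊓ Subgroup.centralizer ((B : Subgroup H) : Set H)) ⟨Subgroup.zpowers a, hza, hidx⟩)
    · push Not at hsmall
      have hlt : Nat.card ↥A₁ < n := by
        rw [← hcard, hcardA]
        have := hp.out.one_lt
        have hpos : 0 < Nat.card ↥A₁ := Nat.card_pos
        nlinarith
      have hXa : ¬ p ∣ Nat.card ↥(X ⊓ Subgroup.centralizer ({a} : Set H)) :=
        fun h => hX (h.trans (Subgroup.card_dvd_of_le inf_le_left))
      have hnorm : A₁ ≤ Subgroup.normalizer
          ((X ⊓ Subgroup.centralizer ({a} : Set H) : Subgroup H) : Set H) := by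
        intro g hg
        have hgX := hAX (hA₁A hg)
        rw [Subgroup.mem_normalizer_iff] at hgX ⊢
        intro x
        rw [Subgroup.mem_inf, Subgroup.mem_inf, ← hgX x]
        have hga : g * a = a * g := elemAb_commute p hA (hA₁A hg) haA
        have : x ∈ Subgroup.centralizer ({a} : Set H) ↔
            g * x * g⁻¹ ∈ Subgroup.centralizer ({a} : Set H) := by
          rw [Subgroup.mem_centralizer_iff, Subgroup.mem_centralizer_iff]
          constructor
          · intro h z hz
            rw [Set.mem_singleton_iff] at hz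
            subst hz
            have h1 := h z rfl
            calc z * (g * x * g⁻¹) = g * (z * x) * g⁻¹ := by
                  rw [← mul_assoc, ← mul_assoc, ← hga]; group
              _ = g * (x * z) * g⁻¹ := by rw [h1]
              _ = g * x * g⁻¹ * z := by
                  have : g⁻¹ * z = z * g⁻¹ := by
                    calc g⁻¹ * z = g⁻¹ * (z * g) * g⁻¹ := by group
                      _ = g⁻¹ * (g * z) * g⁻¹ := by rw [hga]
                      _ = z * g⁻¹ := by group
                  rw [mul_assoc (g * x), this]; group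
          · intro h z hz
            rw [Set.mem_singleton_iff] at hz
            subst hz
            have h1 := h z rfl
            have hginv : g⁻¹ * z = z * g⁻¹ := by
              calc g⁻¹ * z = g⁻¹ * (z * g) * g⁻¹ := by group
                _ = g⁻¹ * (g * z) * g⁻¹ := by rw [hga]
                _ = z * g⁻¹ := by group
            calc z * x = g⁻¹ * (z * (g * x * g⁻¹)) * g := by
                  rw [← mul_assoc z, ← mul_assoc z, ← hga]; group
              _ = g⁻¹ * (g * x * g⁻¹ * z) * g := by rw [h1]
              _ = x * z := by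
                  rw [mul_assoc (g * x) g⁻¹ z, hginv]; group
        rw [this]
      have h1 := ih (Nat.card ↥A₁) hlt A₁ (X ⊓ Subgroup.centralizer ({a} : Set H))
        (elemAb_mono p hA hA₁A) rfl hsmall hXa hnorm
      refine h1.trans ?_
      apply iSup_le
      rintro ⟨B₁, hB₁A₁, hB₁idx⟩
      have hB₁A : B₁ ≤ A := hB₁A₁.trans hA₁A
      have hBA : B₁ ⊔ Subgroup.zpowers a ≤ A := sup_le hB₁A hza
      have hinf : B₁ ⊓ Subgroup.zpowers a = ⊥ := by
        rw [eq_bot_iff]
        intro x hx
        rw [Subgroup.mem_bot]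
        by_contra hx1
        apply haA₁
        have hxA : x ∈ A := hB₁A hx.1
        have hox : orderOf x = p := elemAb_orderOf p hA hxA hx1
        have h2 : Subgroup.zpowers x = Subgroup.zpowers a := by
          apply Subgroup.eq_of_le_of_card_ge
          · rw [Subgroup.zpowers_le]; exact hx.2
          · rw [Nat.card_zpowers, Nat.card_zpowers, hox, hoa]
        have h3 : a ∈ Subgroup.zpowers x := by rw [h2]; exact Subgroup.mem_zpowers a
        exact hB₁A₁ ((Subgroup.zpowers_le.2 hx.1) h3)
      have hcardB := card_sup_of_inf_eq_bot B₁ (Subgroup.zpowers a)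
        (elemAb_le_normalizer p hA hB₁A hza) hinf
      rw [Nat.card_zpowers, hoa] at hcardB
      have hidx : (B₁ ⊔ Subgroup.zpowers a).relIndex A ≤ p := by
        have e1 := Cfsg.Agent.Lib.Helper1.card_mul_relIndex_of_le hBA
        have e2 := Cfsg.Agent.Lib.Helper1.card_mul_relIndex_of_le hB₁A₁
        rw [hcardB, hcardA, ← e2] at e1
        have hpos : 0 < Nat.card ↥B₁ * p := Nat.mul_pos Nat.card_pos hp.out.pos
        have e3 : Nat.card ↥B₁ * p * (B₁ ⊔ Subgroup.zpowers a).relIndex A =
            Nat.card ↥B₁ * p * B₁.relIndex A₁ := by rw [e1]; ring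
        rw [Nat.eq_of_mul_eq_mul_left hpos e3]
        exact hB₁idx
      have hle : X ⊓ Subgroup.centralizer ({a} : Set H) ⊓
          Subgroup.centralizer ((B₁ : Subgroup H) : Set H) ≤
          X ⊓ Subgroup.centralizer ((B₁ ⊔ Subgroup.zpowers a : Subgroup H) : Set H) := by
        intro x hx
        have hx1 : x ∈ X := hx.1.1
        have hx2 : x ∈ Subgroup.centralizer ({a} : Set H) := hx.1.2
        have hx3 : x ∈ Subgroup.centralizer ((B₁ : Subgroup H) : Set H) := hx.2
        rw [Subgroup.mem_inf]
        refine ⟨hx1, ?_⟩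
        have h2 : B₁ ⊔ Subgroup.zpowers a ≤ Subgroup.centralizer ({x} : Set H) := by
          apply sup_le
          · intro b hb
            rw [Subgroup.mem_centralizer_iff]
            intro z hz
            rw [Set.mem_singleton_iff] at hz
            subst hz
            have := hx3
            rw [Subgroup.mem_centralizer_iff] at this
            exact (this b hb).symm
          · rw [Subgroup.zpowers_le, Subgroup.mem_centralizer_iff]
            intro z hz
            rw [Set.mem_singleton_iff] at hz
            subst hz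
            have := hx2
            rw [Subgroup.mem_centralizer_iff] at this
            exact (this a rfl).symm
        rw [Subgroup.mem_centralizer_iff]
        intro b hb
        have := h2 hb
        rw [Subgroup.mem_centralizer_iff] at this
        exact (this x rfl).symm
      exact hle.trans (le_iSup (fun B : {B : Subgroup H // B ≤ A ∧ B.relIndex A ≤ p} =>
        X ⊓ Subgroup.centralizer ((B : Subgroup H) : Set H)) ⟨B₁ ⊔ Subgroup.zpowers a, hBA, hidx⟩)

theorem result {H : Type*} [Group H] [Finite H] (p : ℕ) [Fact p.Prime] (A X : Subgroup H) (hA : Cfsg.IsElementaryAbelian p A) (hA2 : p ^ 2 ≤ Nat.card ↥A) (hX : ¬ p ∣ Nat.card ↥X) (hAX : A ≤ Subgroup.normalizer (X : Set H)) : X = ⨆ B : {B : Subgroup H // B ≤ A ∧ B.relIndex A ≤ p}, X ⊓ Subgroup.centralizer ((B : Subgroup H) : Set H) := by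
  apply le_antisymm
  · exact gen p (Nat.card ↥A) A X hA rfl hA2 hX hAX
  · exact iSup_le (fun _ => inf_le_left)

end Cfsg.Agent.S1324
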