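import Mathlib
import Cfsg.Statements.S1282
import Cfsg.Agent.S1324
import Cfsg.Agent.Lib.Helper9.SylowConj
import Cfsg.Agent.Lib.Helper10.LBal7

set_option autoImplicit false
open Cfsg

namespace Cfsg.Agent.S1282

open Cfsg.Agent.Lib.Helper10 Cfsg.Agent.Lib.Helper9

theorem exists_hyperplane {G : Type*} [Group G] [Finite G] (p : ℕ) [hp : Fact p.Prime]
    (A : Subgroup G) (hA : Cfsg.IsElementaryAbelian p A) (hA2 : p ^ 2 ≤ Nat.card ↥A)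
    (q : ℕ) [Fact q.Prime] (hqp : q ≠ p) (Q D : Subgroup G) (hQ : IsPGroup q ↥Q)
    (hAQ : A ≤ Subgroup.normalizer (Q : Set G)) (hAD : A ≤ Subgroup.normalizer (D : Set G))
    (hDQ : D ≤ Q) (hne : D ≠ Q) :
    ∃ B : Subgroup G, B ≤ A ∧ B.relIndex A ≤ p ∧
      ¬ (Subgroup.normalizer (D : Set G) ⊓ Q ⊓ Subgroup.centralizer (B : Set G) ≤ D) := by
  set N : Subgroup G := Subgroup.normalizer (D : Set G) ⊓ Q with hN
  have hNQ : N ≤ Q := inf_le_right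
  have hNp : ¬ p ∣ Nat.card ↥N := by
    intro hdvd
    obtain ⟨k, hk⟩ := (IsPGroup.iff_card.1 (hQ.to_le hNQ))
    rw [hk] at hdvd
    have := (Nat.prime_dvd_prime_iff_eq hp.out (Fact.out : q.Prime)).1
      (hp.out.dvd_of_dvd_pow hdvd)
    exact hqp this.symm
  have hAN : A ≤ Subgroup.normalizer (N : Set G) := by
    refine le_trans ?_ (normalizer_inf_le _ _)
    exact le_inf (hAD.trans Subgroup.le_normalizer) hAQ
  have hND : ¬ N ≤ D := by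
    have hnle : ¬ Q ≤ D := fun h => hne (le_antisymm hDQ h)
    obtain ⟨x, hxQ, hxD, hxN⟩ := exists_normalizer_not_mem Q D hQ hDQ hnle
    intro h
    exact hxD (h ⟨hxN, hxQ⟩)
  have h1 := Cfsg.Agent.S1324.result p A N hA hA2 hNp hAN
  by_contra hcon
  push Not at hcon
  apply hND
  rw [h1]
  apply iSup_le
  rintro ⟨B, hBA, hBidx⟩
  exact hcon B hBA hBidx

theorem result {G : Type*} [Group G] [Finite G] (p : ℕ) [Fact p.Prime] (A : Subgroup G) (hA : Cfsg.IsElementaryAbelian p A) (hA3 : p ^ 3 ≤ Nat.card ↥A) (q : ℕ) [Fact q.Prime] (hqp : q ≠ p) (Q₁ Q₂ : Subgroup G) (h₁ : IsPGroup q ↥Q₁) (h₂ : IsPGroup q ↥Q₂) (hA₁ : A ≤ Subgroup.normalizer (Q₁ : Set G)) (hA₂ : A ≤ Subgroup.normalizer (Q₂ : Set G)) (hD₁ : Q₁ ⊓ Q₂ ≠ Q₁) (hD₂ : Q₁ ⊓ Q₂ ≠ Q₂) : ∃ a ∈ A, a ≠ 1 ∧ ¬ (Subgroup.normalizer ((Q₁ ⊓ Q₂ : Subgroup G) : Set G) ⊓ Q₁ ⊓ Subgroup.centralizer {a} ≤ Q₁ ⊓ Q₂) ∧ ¬ (Subgroup.normalizer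 ((Q₁ ⊓ Q₂ : Subgroup G) : Set G) ⊓ Q₂ ⊓ Subgroup.centralizer {a} ≤ Q₁ ⊓ Q₂) := by
  have hp : p.Prime := Fact.out
  have hA2 : p ^ 2 ≤ Nat.card ↥A := by
    refine le_trans ?_ hA3
    exact Nat.pow_le_pow_right hp.pos (by norm_num)
  have hAD : A ≤ Subgroup.normalizer ((Q₁ ⊓ Q₂ : Subgroup G) : Set G) :=
    (le_inf hA₁ hA₂).trans (normalizer_inf_le _ _)
  obtain ⟨B₁, hB₁A, hB₁idx, hB₁⟩ := exists_hyperplane p A hA hA2 q hqp Q₁ (Q₁ ⊓ Q₂) h₁ hA₁ hAD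
    inf_le_left hD₁
  obtain ⟨B₂, hB₂A, hB₂idx, hB₂⟩ := exists_hyperplane p A hA hA2 q hqp Q₂ (Q₁ ⊓ Q₂) h₂ hA₂ hAD
    inf_le_right hD₂
  have hidx : (B₁ ⊓ B₂).relIndex A ≤ p * p :=
    (Subgroup.relIndex_inf_le (H := B₁) (K := B₂) (L := A)).trans (Nat.mul_le_mul hB₁idx hB₂idx)
  have hcard := Cfsg.Agent.Lib.Helper1.card_mul_relIndex_of_le
    (inf_le_left.trans hB₁A : B₁ ⊓ B₂ ≤ A)
  have hnt : 1 < Nat.card ↥(B₁ ⊓ B₂ : Subgroup G) := by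
    by_contra hle
    push Not at hle
    have h1 : Nat.card ↥(B₁ ⊓ B₂ : Subgroup G) = 1 := le_antisymm hle Nat.card_pos
    rw [h1, one_mul] at hcard
    have h2 : p ^ 3 ≤ p * p := by rw [hcard] at hidx; exact hA3.trans hidx
    have h3 : p * p < p ^ 3 := by
      have h1lt := hp.one_lt
      have hpp : 0 < p * p := Nat.mul_pos hp.pos hp.pos
      have e : p ^ 3 = p * p * p := by ring
      rw [e]
      nlinarith
    omega
  obtain ⟨a, ha, ha1⟩ : ∃ a ∈ (B₁ ⊓ B₂ : Subgroup G), a ≠ 1 := by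
    by_contra hcon
    push Not at hcon
    have : (B₁ ⊓ B₂ : Subgroup G) = ⊥ := by
      rw [eq_bot_iff]
      intro b hb
      exact Subgroup.mem_bot.2 (hcon b hb)
    rw [this, Subgroup.card_bot] at hnt
    omega
  refine ⟨a, hB₁A ha.1, ha1, ?_, ?_⟩
  · intro h
    apply hB₁
    refine le_trans (inf_le_inf_left _ ?_) h
    apply Subgroup.centralizer_le
    intro z hz
    rw [Set.mem_singleton_iff] at hz
    rw [hz]
    exact ha.1
  · intro h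
    apply hB₂
    refine le_trans (inf_le_inf_left _ ?_) h
    apply Subgroup.centralizer_le
    intro z hz
    rw [Set.mem_singleton_iff] at hz
    rw [hz]
    exact ha.2

end Cfsg.Agent.S1282
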