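import Cfsg.Statements.S5306

set_option autoImplicit false
open Cfsg

namespace Cfsg.Agent.S5306

open scoped Pointwise

variable {X : Type*} [Group X]

theorem sylow_conj_into {M : Type*} [Group M] [Finite M] {p : ℕ} [Fact p.Prime] (S : Sylow p M)
    (Q : Subgroup M) (hQ : IsPGroup p Q) : ∃ m : M, ∀ y ∈ Q, m * y * m⁻¹ ∈ (S : Subgroup M) := by
  obtain ⟨R, hQR⟩ := hQ.exists_le_sylow
  obtain ⟨m, hm⟩ := MulAction.exists_smul_eq M R S
  refine ⟨m, fun y hy => ?_⟩
  have hyR : y ∈ (R : Subgroup M) := hQR hy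
  have : m * y * m⁻¹ ∈ ((m • R : Sylow p M) : Subgroup M) := by
    rw [Sylow.coe_subgroup_smul]
    exact Subgroup.smul_mem_pointwise_smul y (MulAut.conj m) (R : Subgroup M) hyR
  rw [hm] at this
  exact this

def conjS (a : X) (H : Subgroup X) : Subgroup X := H.map (MulAut.conj a).toMonoidHom

theorem mem_conjS {a : X} {H : Subgroup X} {z : X} : z ∈ conjS a H ↔ ∃ h ∈ H, a * h * a⁻¹ = z := by
  unfold conjS
  rw [Subgroup.mem_map]
  rfl

theorem conjS_mono (a : X) {H K : Subgroup X} (h : H ≤ K) : conjS a H ≤ conjS a K :=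
  Subgroup.map_mono h

theorem conjS_conjS (a b : X) (H : Subgroup X) : conjS a (conjS b H) = conjS (a * b) H := by
  ext z
  simp only [mem_conjS]
  constructor
  · rintro ⟨_, ⟨h, hh, rfl⟩, rfl⟩
    exact ⟨h, hh, by group⟩
  · rintro ⟨h, hh, rfl⟩
    exact ⟨b * h * b⁻¹, ⟨h, hh, rfl⟩, by group⟩

theorem conjS_one (H : Subgroup X) : conjS 1 H = H := by
  ext z
  simp [mem_conjS]

theorem conjS_inv_conjS (a : X) (H : Subgroup X) : conjS a⁻¹ (conjS a H) = H := by
  rw [conjS_conjS, inv_mul_cancel, conjS_one]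

theorem conjS_conjS_inv (a : X) (H : Subgroup X) : conjS a (conjS a⁻¹ H) = H := by
  rw [conjS_conjS, mul_inv_cancel, conjS_one]

theorem card_conjS (a : X) (H : Subgroup X) : Nat.card (conjS a H) = Nat.card H :=
  Subgroup.card_map_of_injective (MulAut.conj a).injective

theorem ea_map {Y : Type*} [Group Y] {p : ℕ} {A : Subgroup X} (f : X →* Y)
    (h : IsElementaryAbelian p A) : IsElementaryAbelian p (A.map f) := by
  obtain ⟨hc, hp⟩ := h
  refine ⟨⟨⟨?_⟩⟩, ?_⟩
  · rintro ⟨_, a, ha, rfl⟩ ⟨_, b, hb, rfl⟩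
    apply Subtype.ext
    show f a * f b = f b * f a
    rw [← map_mul, ← map_mul, setLike_mul_comm (s := A) ha hb]
  · rintro _ ⟨a, ha, rfl⟩
    rw [← map_pow, hp a ha, map_one]

theorem ea_of_map {Y : Type*} [Group Y] {p : ℕ} {A : Subgroup X} (f : X →* Y) (hf : Function.Injective f)
    (h : IsElementaryAbelian p (A.map f)) : IsElementaryAbelian p A := by
  obtain ⟨hc, hp⟩ := h
  refine ⟨⟨⟨?_⟩⟩, ?_⟩
  · rintro ⟨a, ha⟩ ⟨b, hb⟩
    apply Subtype.ext
    show a * b = b * a
    apply hf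
    rw [map_mul, map_mul]
    exact setLike_mul_comm (s := A.map f) ⟨a, ha, rfl⟩ ⟨b, hb, rfl⟩
  · intro a ha
    apply hf
    rw [map_pow, map_one]
    exact hp _ ⟨a, ha, rfl⟩

def MaxEA (p : ℕ) (H : Subgroup X) : Set (Subgroup X) :=
  {A | A ≤ H ∧ IsElementaryAbelian p A ∧
    ∀ B : Subgroup X, B ≤ H → IsElementaryAbelian p B → Nat.card B ≤ Nat.card A}

def TJ (p : ℕ) (H : Subgroup X) : Subgroup X := sSup (MaxEA p H)

theorem TJ_le (p : ℕ) (H : Subgroup X) : TJ p H ≤ H := sSup_le fun _ hA => hA.1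

theorem thompson_eq (p : ℕ) (H : Subgroup X) : Cfsg.thompsonSubgroupOf p H = TJ p H := by
  unfold Cfsg.thompsonSubgroupOf Cfsg.thompsonSubgroup TJ
  apply le_antisymm
  · rw [Subgroup.map_le_iff_le_comap]
    apply sSup_le
    intro A hA
    rw [← Subgroup.map_le_iff_le_comap]
    apply le_sSup
    refine ⟨Subgroup.map_subtype_le A, ea_map _ hA.1, ?_⟩
    intro B hBH hB
    have hB' : (B.subgroupOf H).map H.subtype = B := by
      rw [Subgroup.subgroupOf_map_subtype]; exact inf_eq_left.mpr hBH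
    have h1 : IsElementaryAbelian p (B.subgroupOf H) :=
      ea_of_map H.subtype H.subtype_injective (by rw [hB']; exact hB)
    have h2 := hA.2 _ h1
    rw [Subgroup.card_map_of_injective H.subtype_injective]
    calc Nat.card B = Nat.card ((B.subgroupOf H).map H.subtype) := by rw [hB']
      _ = Nat.card (B.subgroupOf H) := Subgroup.card_map_of_injective H.subtype_injective
      _ ≤ Nat.card A := h2
  · apply sSup_le
    rintro A ⟨hAH, hEA, hmax⟩
    have hA' : (A.subgroupOf H).map H.subtype = A := by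
      rw [Subgroup.subgroupOf_map_subtype]; exact inf_eq_left.mpr hAH
    rw [← hA']
    apply Subgroup.map_mono
    apply le_sSup
    refine ⟨ea_of_map H.subtype H.subtype_injective (by rw [hA']; exact hEA), ?_⟩
    intro B hB
    have h1 := hmax (B.map H.subtype) (Subgroup.map_subtype_le B) (ea_map _ hB)
    rw [Subgroup.card_map_of_injective H.subtype_injective] at h1
    calc Nat.card B ≤ Nat.card A := h1
      _ = Nat.card ((A.subgroupOf H).map H.subtype) := by rw [hA']
      _ = Nat.card (A.subgroupOf H) := Subgroup.card_map_of_injective H.subtype_injective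

theorem maxEA_conj (p : ℕ) (a : X) {H A : Subgroup X} (hA : A ∈ MaxEA p H) :
    conjS a A ∈ MaxEA p (conjS a H) := by
  obtain ⟨hAH, hEA, hmax⟩ := hA
  refine ⟨conjS_mono a hAH, ea_map _ hEA, ?_⟩
  intro B hB hBEA
  have h1 : conjS a⁻¹ B ≤ H := by
    have := conjS_mono a⁻¹ hB
    rwa [conjS_inv_conjS] at this
  have h2 := hmax _ h1 (ea_map _ hBEA)
  rw [card_conjS] at h2 ⊢
  exact h2

theorem conj_TJ_le (p : ℕ) (a : X) (H : Subgroup X) : conjS a (TJ p H) ≤ TJ p (conjS a H) := by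
  unfold TJ
  show (sSup (MaxEA p H)).map _ ≤ _
  rw [Subgroup.map_le_iff_le_comap]
  apply sSup_le
  intro A hA
  rw [← Subgroup.map_le_iff_le_comap]
  exact le_sSup (maxEA_conj p a hA)

theorem TJ_conj (p : ℕ) (a : X) (H : Subgroup X) : TJ p (conjS a H) = conjS a (TJ p H) := by
  apply le_antisymm
  · have h1 := conj_TJ_le p a⁻¹ (conjS a H)
    rw [conjS_inv_conjS] at h1
    have h2 := conjS_mono a h1
    rwa [conjS_conjS_inv] at h2
  · exact conj_TJ_le p a H

theorem TJ_eq_of_le [Finite X] (p : ℕ) (a : X) (P : Subgroup X) (h : TJ p P ≤ conjS a P) :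
    TJ p P = TJ p (conjS a P) := by
  have hle : TJ p P ≤ TJ p (conjS a P) := by
    apply sSup_le
    intro A hA
    apply le_sSup
    refine ⟨(le_sSup hA).trans h, hA.2.1, ?_⟩
    intro B hB hBEA
    have h1 : conjS a⁻¹ B ≤ P := by
      have := conjS_mono a⁻¹ hB
      rwa [conjS_inv_conjS] at this
    have h2 := hA.2.2 _ h1 (ea_map _ hBEA)
    rwa [card_conjS] at h2
  apply Subgroup.eq_of_le_of_card_ge hle
  rw [TJ_conj, card_conjS]

/-- Let P be a Sylow p-subgroup of the finite group X and J = J(P) its Thompson subgroup (generated by the elementary abelian subgroups of P of largest order). If x and y lie in the centre of J and y = g x g⁻¹ for some g in X, then y = n x n⁻¹ for some n in the normalizer N_X(J). -/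
theorem result {X : Type*} [Group X] [Finite X] (p : ℕ) [Fact p.Prime] (P : Sylow p X) (J : Subgroup X) (hJ : J = Cfsg.thompsonSubgroupOf p (P : Subgroup X))
    (x y : X) (hx : x ∈ J ∧ ∀ j ∈ J, Commute j x) (hy : y ∈ J ∧ ∀ j ∈ J, Commute j y) (g : X) (hg : g * x * g⁻¹ = y) :
    ∃ n ∈ Subgroup.normalizer (J : Set X), n * x * n⁻¹ = y := by
  rw [thompson_eq] at hJ
  set C := Subgroup.centralizer ({y} : Set X) with hC
  have hJP : J ≤ (P : Subgroup X) := hJ ▸ TJ_le p _
  have hJp : IsPGroup p J := P.isPGroup'.to_le hJP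
  have hJC : J ≤ C := by
    intro j hj
    rw [hC, Subgroup.mem_centralizer_iff]
    intro z hz
    rw [Set.mem_singleton_iff.mp hz]
    exact ((hy.2 j hj).eq).symm
  have hJgC : conjS g J ≤ C := by
    intro z hz
    obtain ⟨j, hj, rfl⟩ := mem_conjS.mp hz
    rw [hC, Subgroup.mem_centralizer_iff]
    intro w hw
    rw [Set.mem_singleton_iff.mp hw, ← hg]
    have := (hx.2 j hj).eq
    calc g * x * g⁻¹ * (g * j * g⁻¹) = g * (x * j) * g⁻¹ := by group
      _ = g * (j * x) * g⁻¹ := by rw [this]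
      _ = g * j * g⁻¹ * (g * x * g⁻¹) := by group
  obtain ⟨R, hR⟩ := (hJp.comap_subtype (K := C)).exists_le_sylow
  have hJgp : IsPGroup p ((conjS g J).subgroupOf C) := (hJp.map _).comap_subtype
  obtain ⟨c, hc⟩ := sylow_conj_into R _ hJgp
  set RX : Subgroup X := (R : Subgroup C).map C.subtype with hRX
  have hRXp : IsPGroup p RX := R.isPGroup'.map _
  obtain ⟨P1, hP1⟩ := hRXp.exists_le_sylow
  have hJRX : J ≤ RX := by
    intro j hj
    exact ⟨⟨j, hJC hj⟩, hR (Subgroup.mem_subgroupOf.mpr hj), rfl⟩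
  have hnJRX : conjS ((c : X) * g) J ≤ RX := by
    rw [← conjS_conjS]
    intro z hz
    obtain ⟨w, hw, rfl⟩ := mem_conjS.mp hz
    have h1 := hc ⟨w, hJgC hw⟩ (Subgroup.mem_subgroupOf.mpr hw)
    exact ⟨_, h1, rfl⟩
  obtain ⟨a, ha⟩ := MulAction.exists_smul_eq X P P1
  have hP1eq : (P1 : Subgroup X) = conjS a (P : Subgroup X) := by
    rw [← ha]; rfl
  have e1 : TJ p (P : Subgroup X) = TJ p (P1 : Subgroup X) := by
    rw [hP1eq]
    apply TJ_eq_of_le
    rw [← hP1eq, ← hJ]
    exact hJRX.trans hP1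
  set n := (c : X) * g with hn
  have e2 : TJ p (conjS n (P : Subgroup X)) = TJ p (P1 : Subgroup X) := by
    have h3 : (P1 : Subgroup X) = conjS (a * n⁻¹) (conjS n (P : Subgroup X)) := by
      rw [conjS_conjS, hP1eq]
      congr 1
      group
    rw [h3]
    apply TJ_eq_of_le
    rw [← h3, TJ_conj, ← hJ]
    exact hnJRX.trans hP1
  have e3 : conjS n J = J := by
    rw [hJ, ← TJ_conj, e2, ← e1]
  refine ⟨n, ?_, ?_⟩
  · rw [Subgroup.mem_normalizer_iff]
    intro h
    constructor
    · intro hh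
      rw [← e3]
      exact mem_conjS.mpr ⟨h, hh, rfl⟩
    · intro hh
      rw [← e3] at hh
      obtain ⟨j, hj, hjh⟩ := mem_conjS.mp hh
      have : j = h := mul_left_cancel (mul_right_cancel hjh)
      rw [← this]; exact hj
  · have hcy : y * (c : X) = (c : X) * y := by
      have h9 : (c : X) ∈ Subgroup.centralizer ({y} : Set X) := c.2
      rw [Subgroup.mem_centralizer_iff] at h9
      exact h9 y rfl
    calc n * x * n⁻¹ = (c : X) * (g * x * g⁻¹) * (c : X)⁻¹ := by rw [hn]; group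
      _ = (c : X) * y * (c : X)⁻¹ := by rw [hg]
      _ = y := by rw [← hcy]; group

end Cfsg.Agent.S5306
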