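import Mathlib
import Cfsg.Statements.S0072
import Cfsg.Prelude.Def_Transfer
import Cfsg.Agent.Lib.Helper21.FrobeniusNPC
import Cfsg.Agent.Lib.Helper1.NPC
import Cfsg.Agent.Lib.Helper1.NPC2

set_option autoImplicit false
open Cfsg

namespace Cfsg.Agent.S0072

open Cfsg.Agent.Lib.Helper21

/-- a normal subgroup of order prime to `p` and `p`-power index complements every Sylow `p`-subgroup -/
theorem isComplement'_sylow_of_normal_pcomp {G : Type*} [Group G] [Finite G] {p : ℕ} [hp : Fact p.Prime]
    (N : Subgroup G) (hNc : (Nat.card N).Coprime p) {k : ℕ} (hNk : N.index = p ^ k) (P : Sylow p G) :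
    N.IsComplement' (P : Subgroup G) := by
  have hG : Nat.card G = Nat.card N * p ^ k := by rw [← hNk, Subgroup.card_mul_index]
  have hnd : ¬ p ∣ Nat.card N := by
    rw [← Nat.Prime.coprime_iff_not_dvd hp.out, Nat.coprime_comm]; exact hNc
  have hfac : (Nat.card G).factorization p = k := by
    rw [hG, Nat.factorization_mul Nat.card_pos.ne' (pow_pos hp.out.pos k).ne', Nat.factorization_pow]
    simp [Nat.factorization_eq_zero_of_not_dvd hnd, hp.out.factorization_self]
  have hP : Nat.card (P : Subgroup G) = p ^ k := by rw [Sylow.card_eq_multiplicity, hfac]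
  apply Subgroup.isComplement'_of_coprime
  · rw [hP, ← hG]
  · rw [hP]; exact Nat.Coprime.pow_right k hNc

/-- subgroups inherit normal `p`-complements -/
theorem hasNormalPComplement_subgroup {G : Type*} [Group G] [Finite G] {p : ℕ} [hp : Fact p.Prime]
    (h : Cfsg.HasNormalPComplement p G) (H : Subgroup G) : Cfsg.HasNormalPComplement p ↥H := by
  obtain ⟨P, N, hNn, hN⟩ := h
  haveI := hNn
  have hNc : (Nat.card N).Coprime p := Cfsg.Agent.Lib.Helper1.card_coprime_of_isComplement'_sylow P hN
  have hNidx : N.index = Nat.card (P : Subgroup G) := Cfsg.Agent.Lib.Helper1.index_eq_card_of_isComplement' hN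
  obtain ⟨m, hm⟩ := IsPGroup.iff_card.mp P.2
  have hMc : (Nat.card (N.subgroupOf H)).Coprime p := by
    have h1 : Nat.card (N.subgroupOf H) ∣ Nat.card N := by
      rw [← Subgroup.card_map_of_injective H.subtype_injective, Subgroup.subgroupOf_map_subtype]
      exact Subgroup.card_dvd_of_le inf_le_left
    exact Nat.Coprime.coprime_dvd_left h1 hNc
  have hMk : ∃ k : ℕ, (N.subgroupOf H).index = p ^ k := by
    have h1 : (N.subgroupOf H).index ∣ p ^ m := by
      rw [← hm, ← hNidx]
      exact Subgroup.relIndex_dvd_index_of_normal N H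
    obtain ⟨k, _, hk⟩ := (Nat.dvd_prime_pow hp.out).mp h1
    exact ⟨k, hk⟩
  obtain ⟨k, hk⟩ := hMk
  let P' : Sylow p ↥H := default
  exact ⟨P', N.subgroupOf H, inferInstance, isComplement'_sylow_of_normal_pcomp _ hMc hk P'⟩

theorem result {G : Type*} [Group G] [Finite G] (p : ℕ) [Fact p.Prime] : Cfsg.HasNormalPComplement p G ↔ ∀ Q : Subgroup G, IsPGroup p Q → Q ≠ ⊥ → Cfsg.HasNormalPComplement p (Subgroup.normalizer (Q : Set G)) := by
  constructor
  · intro h Q _ _
    exact hasNormalPComplement_subgroup h _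
  · intro h
    have hF : FrobHyp p G := by
      intro D hD g hg hcop
      by_cases hDbot : D = ⊥
      · rw [hDbot, Subgroup.coe_bot, Subgroup.mem_centralizer_iff]
        intro x hx
        rw [Set.mem_singleton_iff] at hx
        rw [hx, one_mul, mul_one]
      · obtain ⟨P', M, hMn, hM⟩ := h D hD hDbot
        haveI := hMn
        have hgM : (⟨g, hg⟩ : ↥(Subgroup.normalizer (D : Set G))) ∈ M := by
          rw [Cfsg.Agent.Lib.Helper1.mem_normal_complement_iff P' M hM, Subgroup.orderOf_mk]
          exact hcop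
        have hMc : (Nat.card M).Coprime p :=
          Cfsg.Agent.Lib.Helper1.card_coprime_of_isComplement'_sylow P' hM
        rw [Subgroup.mem_centralizer_iff]
        intro x hx
        have hxN : x ∈ Subgroup.normalizer (D : Set G) := Subgroup.le_normalizer hx
        have h1 : g * x * g⁻¹ * x⁻¹ ∈ D :=
          D.mul_mem ((Subgroup.mem_normalizer_iff.mp hg x).mp hx) (D.inv_mem hx)
        have h2 : (⟨g, hg⟩ : ↥(Subgroup.normalizer (D : Set G))) * ⟨x, hxN⟩ *
            (⟨g, hg⟩ : ↥(Subgroup.normalizer (D : Set G)))⁻¹ *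
            (⟨x, hxN⟩ : ↥(Subgroup.normalizer (D : Set G)))⁻¹ ∈ M := by
          have e : (⟨g, hg⟩ : ↥(Subgroup.normalizer (D : Set G))) * ⟨x, hxN⟩ *
            (⟨g, hg⟩ : ↥(Subgroup.normalizer (D : Set G)))⁻¹ *
            (⟨x, hxN⟩ : ↥(Subgroup.normalizer (D : Set G)))⁻¹ =
            ⟨g, hg⟩ * (⟨x, hxN⟩ * (⟨g, hg⟩ : ↥(Subgroup.normalizer (D : Set G)))⁻¹ *
            (⟨x, hxN⟩ : ↥(Subgroup.normalizer (D : Set G)))⁻¹) := by group
          rw [e]
          exact M.mul_mem hgM (hMn.conj_mem _ (M.inv_mem hgM) _)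
        have h3 : orderOf (g * x * g⁻¹ * x⁻¹) ∣ Nat.card M := by
          have := Subgroup.orderOf_dvd_natCard M h2
          rwa [← Subgroup.orderOf_coe] at this
        obtain ⟨k, hk⟩ := hD ⟨_, h1⟩
        have h4 : orderOf (g * x * g⁻¹ * x⁻¹) ∣ p ^ k := by
          apply orderOf_dvd_of_pow_eq_one
          simpa using congrArg Subtype.val hk
        have h5 : g * x * g⁻¹ * x⁻¹ = 1 :=
          orderOf_eq_one_iff.mp (Nat.eq_one_of_dvd_coprimes (Nat.Coprime.pow_right k hMc) h3 h4)
        have := congrArg (fun t => t * x * g) h5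
        simpa [mul_assoc] using this.symm
    let P : Sylow p G := default
    obtain ⟨N, hNn, hN⟩ := hF.exists_normal_complement P
    exact ⟨P, N, hNn, hN⟩

end Cfsg.Agent.S0072
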