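import Mathlib
import Cfsg.Statements.S0648
import Cfsg.Agent.Lib.Lead.Coprime

set_option autoImplicit false
open Cfsg

namespace Cfsg.Agent.S0648

open scoped commutatorElement

section
variable {G : Type*} [Group G] {A B : Subgroup G}

theorem sq_mul_of_comm {u v : G} (h : u * v = v * u) (hu : u ^ 2 = 1) (hv : v ^ 2 = 1) :
    (u * v) ^ 2 = 1 := by
  have : Commute u v := h
  rw [this.mul_pow, hu, hv, one_mul]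

theorem sq_bil (S : Set G)
    (hcen : ∀ d ∈ Subgroup.closure S, ∀ e ∈ Subgroup.closure S, ∀ h ∈ Subgroup.closure S,
      ⁅d, e⁆ * h = h * ⁅d, e⁆)
    (hS : ∀ s ∈ S, ∀ t ∈ S, ⁅s, t⁆ ^ 2 = 1) :
    ∀ d ∈ Subgroup.closure S, ∀ e ∈ Subgroup.closure S, ⁅d, e⁆ ^ 2 = 1 := by
  have step1 : ∀ s ∈ S, ∀ e ∈ Subgroup.closure S, ⁅s, e⁆ ^ 2 = 1 := by
    intro s hs e he
    have hsD : s ∈ Subgroup.closure S := Subgroup.subset_closure hs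
    induction he using Subgroup.closure_induction with
    | mem t ht => exact hS s hs t ht
    | one => simp
    | mul e₁ e₂ h₁ h₂ ih₁ ih₂ =>
      have e1 : ⁅s, e₁ * e₂⁆ = ⁅s, e₁⁆ * (e₁ * ⁅s, e₂⁆ * e₁⁻¹) := by
        simp only [commutatorElement_def]; group
      have e2 : e₁ * ⁅s, e₂⁆ * e₁⁻¹ = ⁅s, e₂⁆ := by
        rw [← hcen s hsD e₂ h₂ e₁ h₁]; group
      rw [e1, e2]
      refine sq_mul_of_comm ?_ ih₁ ih₂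
      exact (hcen s hsD e₂ h₂ _ (Subgroup.commutator_mem_commutator hsD h₁ |>
        fun h => by
          have : ⁅s, e₁⁆ ∈ Subgroup.closure S := by
            rw [commutatorElement_def]
            exact Subgroup.mul_mem _ (Subgroup.mul_mem _ (Subgroup.mul_mem _ hsD h₁)
              (Subgroup.inv_mem _ hsD)) (Subgroup.inv_mem _ h₁)
          exact this)).symm
    | inv e h ih =>
      have e1 : ⁅s, e⁻¹⁆ = e⁻¹ * ⁅s, e⁆⁻¹ * e := by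
        simp only [commutatorElement_def]; group
      have e2 : e⁻¹ * ⁅s, e⁆⁻¹ * e = ⁅s, e⁆⁻¹ := by
        have h3 := hcen s hsD e h e h
        calc e⁻¹ * ⁅s, e⁆⁻¹ * e = (e⁻¹ * (⁅s, e⁆ * e) * e⁻¹ * e)⁻¹ * e⁻¹ * e := by group
          _ = (e⁻¹ * (e * ⁅s, e⁆) * e⁻¹ * e)⁻¹ * e⁻¹ * e := by rw [h3]
          _ = ⁅s, e⁆⁻¹ := by group
      rw [e1, e2, inv_pow, ih, inv_one]
  intro d hd e he
  induction hd using Subgroup.closure_induction with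
  | mem s hs => exact step1 s hs e he
  | one => simp
  | mul d₁ d₂ h₁ h₂ ih₁ ih₂ =>
    have e1 : ⁅d₁ * d₂, e⁆ = (d₁ * ⁅d₂, e⁆ * d₁⁻¹) * ⁅d₁, e⁆ := by
      simp only [commutatorElement_def]; group
    have e2 : d₁ * ⁅d₂, e⁆ * d₁⁻¹ = ⁅d₂, e⁆ := by
      rw [← hcen d₂ h₂ e he d₁ h₁]; group
    rw [e1, e2]
    refine sq_mul_of_comm ?_ ih₂ ih₁
    have hmem : ⁅d₁, e⁆ ∈ Subgroup.closure S := by
      rw [commutatorElement_def]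
      exact Subgroup.mul_mem _ (Subgroup.mul_mem _ (Subgroup.mul_mem _ h₁ he)
        (Subgroup.inv_mem _ h₁)) (Subgroup.inv_mem _ he)
    exact hcen d₂ h₂ e he _ hmem
  | inv d h ih =>
    have e1 : ⁅d⁻¹, e⁆ = d⁻¹ * ⁅d, e⁆⁻¹ * d := by
      simp only [commutatorElement_def]; group
    have e2 : d⁻¹ * ⁅d, e⁆⁻¹ * d = ⁅d, e⁆⁻¹ := by
      have h3 := hcen d h e he d h
      calc d⁻¹ * ⁅d, e⁆⁻¹ * d = (d⁻¹ * (⁅d, e⁆ * d) * d⁻¹ * d)⁻¹ * d⁻¹ * d := by group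
        _ = (d⁻¹ * (d * ⁅d, e⁆) * d⁻¹ * d)⁻¹ * d⁻¹ * d := by rw [h3]
        _ = ⁅d, e⁆⁻¹ := by group
    rw [e1, e2, inv_pow, ih, inv_one]


theorem conj_id {c a a' : G} (haa : a * a' = a' * a) :
    a' * (c * a * c⁻¹ * a⁻¹) * a'⁻¹ =
      (c * a' * c⁻¹ * a'⁻¹)⁻¹ * (c * a * c⁻¹ * a⁻¹) * (a * (c * a' * c⁻¹ * a'⁻¹) * a⁻¹) := by
  calc a' * (c * a * c⁻¹ * a⁻¹) * a'⁻¹
      = a' * c * a * c⁻¹ * (a' * a)⁻¹ := by group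
    _ = a' * c * a * c⁻¹ * (a * a')⁻¹ := by rw [haa]
    _ = a' * c * (a'⁻¹ * (a' * a)) * c⁻¹ * a'⁻¹ * a⁻¹ := by group
    _ = a' * c * (a'⁻¹ * (a * a')) * c⁻¹ * a'⁻¹ * a⁻¹ := by rw [haa]
    _ = (c * a' * c⁻¹ * a'⁻¹)⁻¹ * (c * a * c⁻¹ * a⁻¹) * (a * (c * a' * c⁻¹ * a'⁻¹) * a⁻¹) := by
      group

theorem E_id {a a' x y : G}
    (hconj : a' * x * a'⁻¹ = y⁻¹ * x * (a * y * a⁻¹))
    (hk : (y * a * y⁻¹ * a⁻¹) * a = a * (y * a * y⁻¹ * a⁻¹))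
    (hl : (x * a' * x⁻¹ * a'⁻¹) * a' = a' * (x * a' * x⁻¹ * a'⁻¹)) :
    (a⁻¹ * y * a)⁻¹ * y * x⁻¹ * (a'⁻¹ * x * a') = y⁻¹ * x⁻¹ * y * x := by
  have g3 : x * a' * x⁻¹ * a'⁻¹ = x * (y⁻¹ * (y * a * y⁻¹ * a⁻¹)) * x⁻¹ * y := by
    calc x * a' * x⁻¹ * a'⁻¹ = x * (a' * x * a'⁻¹)⁻¹ := by group
      _ = x * (y⁻¹ * x * (a * y * a⁻¹))⁻¹ := by rw [hconj]
      _ = x * (y⁻¹ * (y * a * y⁻¹ * a⁻¹)) * x⁻¹ * y := by group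
  generalize hkdef : y * a * y⁻¹ * a⁻¹ = k at *
  generalize hldef : x * a' * x⁻¹ * a'⁻¹ = l at *
  have g1 : a⁻¹ * y * a = k * y := by
    calc a⁻¹ * y * a = a⁻¹ * ((y * a * y⁻¹ * a⁻¹) * a) * y := by group
      _ = a⁻¹ * (k * a) * y := by rw [hkdef]
      _ = a⁻¹ * (a * k) * y := by rw [hk]
      _ = k * y := by group
  have g2 : a'⁻¹ * x * a' = l * x := by
    calc a'⁻¹ * x * a' = a'⁻¹ * ((x * a' * x⁻¹ * a'⁻¹) * a') * x := by group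
      _ = a'⁻¹ * (l * a') * x := by rw [hldef]
      _ = a'⁻¹ * (a' * l) * x := by rw [hl]
      _ = l * x := by group
  rw [g1, g2, g3]
  group


theorem acent (hc : ⁅⁅B, B⁆, A⁆ = ⊥) : ∀ z ∈ ⁅B, B⁆, ∀ a ∈ A, a * z = z * a := by
  intro z hz a ha
  have h1 := Subgroup.commutator_eq_bot_iff_le_centralizer.mp hc
  exact (Subgroup.mem_centralizer_iff.mp (h1 hz)) a ha

theorem dB_conj : ∀ z ∈ ⁅B, B⁆, ∀ b ∈ B, b * z * b⁻¹ ∈ ⁅B, B⁆ := by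
  intro z hz b hb
  have h1 := Cfsg.Agent.Lib.Lead.right_le_normalizer_commutator B B Subgroup.le_normalizer
  exact (Subgroup.mem_normalizer_iff.mp (h1 hb) z).mp hz

theorem ncent (hc : ⁅⁅B, B⁆, A⁆ = ⊥) : ∀ n ∈ ⁅B, A⁆, ∀ z ∈ ⁅B, B⁆, n * z = z * n := by
  have hle : ⁅B, A⁆ ≤ Subgroup.centralizer ((⁅B, B⁆ : Subgroup G) : Set G) := by
    rw [Subgroup.commutator_le]
    intro b hb a ha
    rw [Subgroup.mem_centralizer_iff]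
    intro z hz
    have h1 : a * z = z * a := acent hc z hz a ha
    have h2 : a * (b⁻¹ * z * b) = (b⁻¹ * z * b) * a := by
      have := dB_conj z hz b⁻¹ (B.inv_mem hb)
      rw [inv_inv] at this
      exact acent hc _ this a ha
    have h3 : a⁻¹ * z = z * a⁻¹ := by
      calc a⁻¹ * z = a⁻¹ * (z * a) * a⁻¹ := by group
        _ = a⁻¹ * (a * z) * a⁻¹ := by rw [h1]
        _ = z * a⁻¹ := by group
    rw [commutatorElement_def]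
    calc z * (b * a * b⁻¹ * a⁻¹) = b * ((b⁻¹ * z * b) * a) * b⁻¹ * a⁻¹ := by group
      _ = b * (a * (b⁻¹ * z * b)) * b⁻¹ * a⁻¹ := by rw [h2]
      _ = b * a * b⁻¹ * (z * a⁻¹) := by group
      _ = b * a * b⁻¹ * (a⁻¹ * z) := by rw [h3]
      _ = b * a * b⁻¹ * a⁻¹ * z := by group
  intro n hn z hz
  exact ((Subgroup.mem_centralizer_iff.mp (hle hn)) z hz).symm

theorem nleB (hAB : A ≤ Subgroup.normalizer (B : Set G)) : ⁅B, A⁆ ≤ B :=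
  Subgroup.le_normalizer_iff_commutator_le_left.mp hAB

theorem claim1 (hAB : A ≤ Subgroup.normalizer (B : Set G)) (hc : ⁅⁅B, B⁆, A⁆ = ⊥) :
    ⁅⁅B, A⁆, ⁅B, A⁆⁆ ≤ B ⊓ Subgroup.centralizer (B : Set G) := by
  have hN := nleB hAB
  have hcent : ⁅B, B⁆ ≤ Subgroup.centralizer ((⁅B, A⁆ : Subgroup G) : Set G) := by
    intro z hz
    rw [Subgroup.mem_centralizer_iff]
    intro n hn
    exact ncent hc n hn z hz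
  have h0 : ⁅⁅B, B⁆, ⁅B, A⁆⁆ = ⊥ := Subgroup.commutator_eq_bot_iff_le_centralizer.mpr hcent
  have h1 : ⁅⁅⁅B, A⁆, B⁆, ⁅B, A⁆⁆ = ⊥ :=
    eq_bot_iff.mpr (le_trans (Subgroup.commutator_mono (Subgroup.commutator_mono hN le_rfl) le_rfl)
      (le_of_eq h0))
  have h2 : ⁅⁅B, ⁅B, A⁆⁆, ⁅B, A⁆⁆ = ⊥ :=
    eq_bot_iff.mpr (le_trans (Subgroup.commutator_mono (Subgroup.commutator_mono le_rfl hN) le_rfl)
      (le_of_eq h0))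
  have h3 : ⁅⁅⁅B, A⁆, ⁅B, A⁆⁆, B⁆ = ⊥ := Subgroup.commutator_commutator_eq_bot_of_rotate h1 h2
  refine le_inf ?_ (Subgroup.commutator_eq_bot_iff_le_centralizer.mp h3)
  exact le_trans (Subgroup.commutator_mono hN hN) (le_trans (Subgroup.commutator_mono le_rfl le_rfl)
    (Subgroup.le_normalizer_iff_commutator_le_left.mp Subgroup.le_normalizer))

theorem zcent (hAB : A ≤ Subgroup.normalizer (B : Set G)) (hc : ⁅⁅B, B⁆, A⁆ = ⊥) :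
    ∀ w ∈ ⁅⁅B, A⁆, ⁅B, A⁆⁆, ∀ b ∈ B, w * b = b * w := by
  intro w hw b hb
  have h1 := (Subgroup.mem_inf.mp (claim1 hAB hc hw)).2
  exact ((Subgroup.mem_centralizer_iff.mp h1) b hb).symm

theorem anorm (hAB : A ≤ Subgroup.normalizer (B : Set G)) :
    ∀ a ∈ A, ∀ n ∈ ⁅B, A⁆, a * n * a⁻¹ ∈ ⁅B, A⁆ := by
  intro a ha n hn
  have h1 := Cfsg.Agent.Lib.Lead.right_le_normalizer_commutator B A hAB
  exact (Subgroup.mem_normalizer_iff.mp (h1 ha) n).mp hn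

theorem phi_mul (hAB : A ≤ Subgroup.normalizer (B : Set G)) (hc : ⁅⁅B, B⁆, A⁆ = ⊥)
    {c n m : G} (hcB : c ∈ B) (hn : n ∈ ⁅B, A⁆) (hm : m ∈ ⁅B, A⁆) :
    ⁅c, n * m⁆ = ⁅c, n⁆ * ⁅c, m⁆ := by
  have hcm : ⁅c, m⁆ ∈ ⁅B, B⁆ := Subgroup.commutator_mem_commutator hcB (nleB hAB hm)
  have e1 : ⁅c, n * m⁆ = ⁅c, n⁆ * (n * ⁅c, m⁆ * n⁻¹) := by
    simp only [commutatorElement_def]; group
  have e2 : n * ⁅c, m⁆ * n⁻¹ = ⁅c, m⁆ := by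
    rw [ncent hc n hn _ hcm]; group
  rw [e1, e2]

theorem phi_inv (hAB : A ≤ Subgroup.normalizer (B : Set G)) (hc : ⁅⁅B, B⁆, A⁆ = ⊥)
    {c n : G} (hcB : c ∈ B) (hn : n ∈ ⁅B, A⁆) :
    ⁅c, n⁻¹⁆ = ⁅c, n⁆⁻¹ := by
  have h1 := phi_mul hAB hc hcB hn (Subgroup.inv_mem _ hn)
  rw [mul_inv_cancel] at h1
  have h2 : ⁅c, (1 : G)⁆ = 1 := by simp
  rw [h2] at h1
  exact eq_inv_of_mul_eq_one_right h1.symm

theorem s4 (hAB : A ≤ Subgroup.normalizer (B : Set G)) (hc : ⁅⁅B, B⁆, A⁆ = ⊥)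
    {c a n : G} (hcB : c ∈ B) (ha : a ∈ A) (hn : n ∈ ⁅B, A⁆) :
    ⁅⁅c, a⁆, a * n * a⁻¹⁆ = ⁅c, n⁆⁻¹ * ⁅c, a * n * a⁻¹⁆ := by
  have hN := nleB hAB
  have hxN : ⁅c, a⁆ ∈ ⁅B, A⁆ := Subgroup.commutator_mem_commutator hcB ha
  have hmN : a * n * a⁻¹ ∈ ⁅B, A⁆ := anorm hAB a ha n hn
  have hcn : ⁅c, n⁆ ∈ ⁅B, B⁆ := Subgroup.commutator_mem_commutator hcB (hN hn)
  have hcm : ⁅c, a * n * a⁻¹⁆ ∈ ⁅B, B⁆ := Subgroup.commutator_mem_commutator hcB (hN hmN)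
  generalize hx : ⁅c, a⁆ = x at *
  generalize hm : a * n * a⁻¹ = m at *
  have e1 : a * ⁅c, n⁆ * a⁻¹ = ⁅c, n⁆ := by rw [acent hc _ hcn a ha]; group
  have e2 : a * ⁅c, n⁆ * a⁻¹ = ⁅x⁻¹ * c, m⁆ := by
    rw [← hx, ← hm]; simp only [commutatorElement_def]; group
  have e3 : ⁅x⁻¹ * c, m⁆ = x⁻¹ * ⁅c, m⁆ * x * ⁅x⁻¹, m⁆ := by
    simp only [commutatorElement_def]; group
  have e4 : x⁻¹ * ⁅c, m⁆ * x = ⁅c, m⁆ := by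
    have := ncent hc x hxN _ hcm
    calc x⁻¹ * ⁅c, m⁆ * x = x⁻¹ * (⁅c, m⁆ * x) := by group
      _ = x⁻¹ * (x * ⁅c, m⁆) := by rw [this]
      _ = ⁅c, m⁆ := by group
  have e5 : ⁅x⁻¹, m⁆ = x⁻¹ * ⁅m, x⁆ * x := by
    simp only [commutatorElement_def]; group
  have hmx : ⁅m, x⁆ ∈ ⁅⁅B, A⁆, ⁅B, A⁆⁆ := Subgroup.commutator_mem_commutator hmN hxN
  have e6 : x⁻¹ * ⁅m, x⁆ * x = ⁅m, x⁆ := by
    have := zcent hAB hc _ hmx x (hN hxN)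
    calc x⁻¹ * ⁅m, x⁆ * x = x⁻¹ * (⁅m, x⁆ * x) := by group
      _ = x⁻¹ * (x * ⁅m, x⁆) := by rw [this]
      _ = ⁅m, x⁆ := by group
  have e7 : ⁅m, x⁆ = ⁅x, m⁆⁻¹ := (commutatorElement_inv x m).symm
  have key : ⁅c, n⁆ = ⁅c, m⁆ * ⁅x, m⁆⁻¹ := by
    rw [← e1, e2, e3, e4, e5, e6, e7]
  rw [key]; group

theorem s5 (hAB : A ≤ Subgroup.normalizer (B : Set G)) (hc : ⁅⁅B, B⁆, A⁆ = ⊥)
    {c a a' : G} (hcB : c ∈ B) (ha : a ∈ A) (ha' : a' ∈ A) (haa : a * a' = a' * a)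
    (hk : ⁅⁅c, a'⁆, a⁆ * a = a * ⁅⁅c, a'⁆, a⁆) (hl : ⁅⁅c, a⁆, a'⁆ * a' = a' * ⁅⁅c, a⁆, a'⁆) :
    ⁅⁅c, a⁆, ⁅c, a'⁆⁆ ^ 2 = 1 := by
  have hN := nleB hAB
  have hxN : ⁅c, a⁆ ∈ ⁅B, A⁆ := Subgroup.commutator_mem_commutator hcB ha
  have hyN : ⁅c, a'⁆ ∈ ⁅B, A⁆ := Subgroup.commutator_mem_commutator hcB ha'
  have hconj : a' * ⁅c, a⁆ * a'⁻¹ = ⁅c, a'⁆⁻¹ * ⁅c, a⁆ * (a * ⁅c, a'⁆ * a⁻¹) := by
    simp only [commutatorElement_def]; exact conj_id haa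
  have hk' : (⁅c, a'⁆ * a * ⁅c, a'⁆⁻¹ * a⁻¹) * a = a * (⁅c, a'⁆ * a * ⁅c, a'⁆⁻¹ * a⁻¹) := hk
  have hl' : (⁅c, a⁆ * a' * ⁅c, a⁆⁻¹ * a'⁻¹) * a' = a' * (⁅c, a⁆ * a' * ⁅c, a⁆⁻¹ * a'⁻¹) := hl
  have hE := E_id hconj hk' hl'
  have hn1 : a⁻¹ * ⁅c, a'⁆ * a ∈ ⁅B, A⁆ := by
    have := anorm hAB a⁻¹ (A.inv_mem ha) _ hyN
    rwa [inv_inv] at this
  have hn2 : a'⁻¹ * ⁅c, a⁆ * a' ∈ ⁅B, A⁆ := by
    have := anorm hAB a'⁻¹ (A.inv_mem ha') _ hxN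
    rwa [inv_inv] at this
  have f1 : ⁅⁅c, a⁆, ⁅c, a'⁆⁆ = ⁅c, a⁻¹ * ⁅c, a'⁆ * a⁆⁻¹ * ⁅c, ⁅c, a'⁆⁆ := by
    have h := s4 hAB hc hcB ha hn1
    have e : a * (a⁻¹ * ⁅c, a'⁆ * a) * a⁻¹ = ⁅c, a'⁆ := by group
    rw [e] at h; exact h
  have f2 : ⁅⁅c, a'⁆, ⁅c, a⁆⁆ = ⁅c, a'⁻¹ * ⁅c, a⁆ * a'⁆⁻¹ * ⁅c, ⁅c, a⁆⁆ := by
    have h := s4 hAB hc hcB ha' hn2
    have e : a' * (a'⁻¹ * ⁅c, a⁆ * a') * a'⁻¹ = ⁅c, a⁆ := by group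
    rw [e] at h; exact h
  clear hconj hk' hl' hk hl
  generalize ⁅c, a⁆ = x at *
  generalize ⁅c, a'⁆ = y at *
  have f3 : ⁅x, y⁆ = ⁅y, x⁆⁻¹ := (commutatorElement_inv y x).symm
  have m1 : (a⁻¹ * y * a)⁻¹ * y ∈ ⁅B, A⁆ := Subgroup.mul_mem _ (Subgroup.inv_mem _ hn1) hyN
  have m2 : (a⁻¹ * y * a)⁻¹ * y * x⁻¹ ∈ ⁅B, A⁆ := Subgroup.mul_mem _ m1 (Subgroup.inv_mem _ hxN)
  have sq : ⁅x, y⁆ ^ 2 = ⁅c, (a⁻¹ * y * a)⁻¹ * y * x⁻¹ * (a'⁻¹ * x * a')⁆ := by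
    rw [phi_mul hAB hc hcB m2 hn2, phi_mul hAB hc hcB m1 (Subgroup.inv_mem _ hxN),
      phi_mul hAB hc hcB (Subgroup.inv_mem _ hn1) hyN, phi_inv hAB hc hcB hn1,
      phi_inv hAB hc hcB hxN]
    rw [pow_two]
    nth_rewrite 2 [f3]
    rw [f1, f2]
    generalize ⁅c, a⁻¹ * y * a⁆ = p1
    generalize ⁅c, a'⁻¹ * x * a'⁆ = p2
    generalize ⁅c, y⁆ = p3
    generalize ⁅c, x⁆ = p4
    group
  have hE' : y⁻¹ * x⁻¹ * y * x = ⁅y⁻¹, x⁻¹⁆ := by rw [commutatorElement_def]; group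
  have hmem : ⁅y⁻¹, x⁻¹⁆ ∈ ⁅⁅B, A⁆, ⁅B, A⁆⁆ :=
    Subgroup.commutator_mem_commutator (Subgroup.inv_mem _ hyN) (Subgroup.inv_mem _ hxN)
  have hcomm := zcent hAB hc _ hmem c hcB
  rw [sq, hE, hE']
  exact commutatorElement_eq_one_iff_mul_comm.mpr hcomm.symm

end

theorem result {G : Type*} [Group G] [Finite G] (A B : Subgroup G) (hAB : A ≤ Subgroup.normalizer (B : Set G)) (hc : ⁅⁅B, B⁆, A⁆ = ⊥) : ⁅⁅B, A⁆, ⁅B, A⁆⁆ ≤ B ⊓ Subgroup.centralizer (B : Set G) ∧ (IsMulCommutative A → ∀ b ∈ B, ⁅⁅(Subgroup.closure {g : G | ∃ a ∈ A, g = b⁻¹ * a * b * a⁻¹}), A⁆, A⁆ = ⊥ → ∀ w ∈ ⁅(Subgroup.closure {g : G | ∃ a ∈ A, g = b⁻¹ * a * b * a⁻¹}), (Subgroup.closure {g : G | ∃ a ∈ A, g = b⁻¹ * a * b * a⁻¹})⁆, w ^ 2 = 1) := by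
  refine ⟨claim1 hAB hc, ?_⟩
  intro hAc b hb hquad w hw
  have hAcomm : ∀ a ∈ A, ∀ a' ∈ A, a * a' = a' * a := by
    intro a ha a' ha'
    have h1 : (⟨a, ha⟩ : A) * ⟨a', ha'⟩ = ⟨a', ha'⟩ * ⟨a, ha⟩ := mul_comm' _ _
    exact congrArg Subtype.val h1
  have hcB : b⁻¹ ∈ B := B.inv_mem hb
  have hgen : ∀ a : G, b⁻¹ * a * b * a⁻¹ = ⁅b⁻¹, a⁆ := by
    intro a; rw [commutatorElement_def, inv_inv]
  have hSN : Subgroup.closure {g : G | ∃ a ∈ A, g = b⁻¹ * a * b * a⁻¹} ≤ ⁅B, A⁆ := by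
    rw [Subgroup.closure_le]
    rintro g ⟨a, ha, rfl⟩
    rw [hgen]
    exact Subgroup.commutator_mem_commutator hcB ha
  have hquad' := Subgroup.commutator_eq_bot_iff_le_centralizer.mp hquad
  have hcen : ∀ d ∈ Subgroup.closure {g : G | ∃ a ∈ A, g = b⁻¹ * a * b * a⁻¹},
      ∀ e ∈ Subgroup.closure {g : G | ∃ a ∈ A, g = b⁻¹ * a * b * a⁻¹},
      ∀ h ∈ Subgroup.closure {g : G | ∃ a ∈ A, g = b⁻¹ * a * b * a⁻¹}, ⁅d, e⁆ * h = h * ⁅d, e⁆ :=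
    fun d hd e he h hh => zcent hAB hc _
      (Subgroup.commutator_mem_commutator (hSN hd) (hSN he)) h (nleB hAB (hSN hh))
  have hS : ∀ s ∈ {g : G | ∃ a ∈ A, g = b⁻¹ * a * b * a⁻¹},
      ∀ t ∈ {g : G | ∃ a ∈ A, g = b⁻¹ * a * b * a⁻¹}, ⁅s, t⁆ ^ 2 = 1 := by
    rintro s ⟨a, ha, rfl⟩ t ⟨a', ha', rfl⟩
    have hmemS : ∀ a ∈ A, ⁅b⁻¹, a⁆ ∈ Subgroup.closure {g : G | ∃ a ∈ A, g = b⁻¹ * a * b * a⁻¹} :=
      fun a ha => Subgroup.subset_closure ⟨a, ha, (hgen a).symm⟩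
    rw [hgen, hgen]
    apply s5 hAB hc hcB ha ha' (hAcomm a ha a' ha')
    · have hmem : ⁅⁅b⁻¹, a'⁆, a⁆ ∈
          ⁅Subgroup.closure {g : G | ∃ a ∈ A, g = b⁻¹ * a * b * a⁻¹}, A⁆ :=
        Subgroup.commutator_mem_commutator (hmemS a' ha') ha
      exact ((Subgroup.mem_centralizer_iff.mp (hquad' hmem)) a ha).symm
    · have hmem : ⁅⁅b⁻¹, a⁆, a'⁆ ∈
          ⁅Subgroup.closure {g : G | ∃ a ∈ A, g = b⁻¹ * a * b * a⁻¹}, A⁆ :=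
        Subgroup.commutator_mem_commutator (hmemS a ha) ha'
      exact ((Subgroup.mem_centralizer_iff.mp (hquad' hmem)) a' ha').symm
  have hbil := sq_bil _ hcen hS
  have hDD : ⁅Subgroup.closure {g : G | ∃ a ∈ A, g = b⁻¹ * a * b * a⁻¹},
      Subgroup.closure {g : G | ∃ a ∈ A, g = b⁻¹ * a * b * a⁻¹}⁆ ≤ ⁅⁅B, A⁆, ⁅B, A⁆⁆ :=
    Subgroup.commutator_mono hSN hSN
  rw [Subgroup.commutator_def] at hw
  induction hw using Subgroup.closure_induction with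
  | mem w hw =>
    obtain ⟨d, hd, e, he, rfl⟩ := hw
    exact hbil d hd e he
  | one => simp
  | mul u v hu hv ihu ihv =>
    refine sq_mul_of_comm ?_ ihu ihv
    rw [← Subgroup.commutator_def] at hu hv
    have hvB : v ∈ B := (Subgroup.mem_inf.mp (claim1 hAB hc (hDD hv))).1
    exact zcent hAB hc u (hDD hu) v hvB
  | inv u hu ih => rw [inv_pow, ih, inv_one]

end Cfsg.Agent.S0648
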