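import Mathlib
import Cfsg.Statements.S0650
import Cfsg.Agent.S0648
import Cfsg.Agent.Lib.Helper5.Glauberman

set_option autoImplicit false
open Cfsg

namespace Cfsg.Agent.S0650

open scoped commutatorElement Pointwise
open Cfsg.Agent.Lib.Helper5

section
variable {S : Type*} [Group S]

theorem pow_formula {x y c : S} (hyx : y * x = c * x * y) (hcx : c * x = x * c)
    (hcy : c * y = y * c) (n : ℕ) : (x * y) ^ n = x ^ n * y ^ n * c ^ (n.choose 2) := by
  induction n with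
  | zero => simp
  | succ n ih =>
    have h1 : ∀ k : ℕ, y ^ k * x = c ^ k * x * y ^ k := by
      intro k
      induction k with
      | zero => simp
      | succ k ihk =>
        have hck : c ^ k * y = y * c ^ k := by
          have : Commute c y := hcy
          exact (this.pow_left k).eq
        calc y ^ (k + 1) * x = y * (y ^ k * x) := by rw [pow_succ']; group
          _ = y * (c ^ k * x * y ^ k) := by rw [ihk]
          _ = (y * c ^ k) * x * y ^ k := by group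
          _ = (c ^ k * y) * x * y ^ k := by rw [hck]
          _ = c ^ k * (y * x) * y ^ k := by group
          _ = c ^ k * (c * x * y) * y ^ k := by rw [hyx]
          _ = c ^ (k + 1) * x * y ^ (k + 1) := by rw [pow_succ, pow_succ']; group
    have hcxn : c ^ n * x ^ n = x ^ n * c ^ n := by
      have : Commute c x := hcx
      exact ((this.pow_left n).pow_right n).eq
    have hcc : ∀ k : ℕ, c ^ k * x = x * c ^ k := by
      intro k
      have : Commute c x := hcx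
      exact (this.pow_left k).eq
    have hcyn : ∀ k m : ℕ, c ^ k * y ^ m = y ^ m * c ^ k := by
      intro k m
      have : Commute c y := hcy
      exact ((this.pow_left k).pow_right m).eq
    have hch : (n + 1).choose 2 = n + n.choose 2 := by
      rw [Nat.choose_succ_succ, Nat.choose_one_right]
    have key : x ^ n * y ^ n * c ^ n.choose 2 * (x * y) =
        x ^ (n + 1) * y ^ (n + 1) * (c ^ n * c ^ n.choose 2) := by
      calc x ^ n * y ^ n * c ^ n.choose 2 * (x * y)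
          = x ^ n * y ^ n * (c ^ n.choose 2 * x) * y := by group
        _ = x ^ n * y ^ n * (x * c ^ n.choose 2) * y := by rw [hcc]
        _ = x ^ n * (y ^ n * x) * c ^ n.choose 2 * y := by group
        _ = x ^ n * (c ^ n * x * y ^ n) * c ^ n.choose 2 * y := by rw [h1]
        _ = x ^ n * (c ^ n * x) * y ^ n * c ^ n.choose 2 * y := by group
        _ = x ^ n * (x * c ^ n) * y ^ n * c ^ n.choose 2 * y := by rw [hcc]
        _ = x ^ n * x * (c ^ n * y ^ n) * c ^ n.choose 2 * y := by group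
        _ = x ^ n * x * (y ^ n * c ^ n) * c ^ n.choose 2 * y := by rw [hcyn]
        _ = x ^ n * x * y ^ n * c ^ n * (c ^ n.choose 2 * y ^ 1) := by group
        _ = x ^ n * x * y ^ n * c ^ n * (y ^ 1 * c ^ n.choose 2) := by rw [hcyn]
        _ = x ^ n * x * y ^ n * (c ^ n * y ^ 1) * c ^ n.choose 2 := by group
        _ = x ^ n * x * y ^ n * (y ^ 1 * c ^ n) * c ^ n.choose 2 := by rw [hcyn]
        _ = x ^ (n + 1) * y ^ (n + 1) * (c ^ n * c ^ n.choose 2) := by
          rw [pow_succ x n, pow_succ y n]; group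
    rw [pow_succ (x * y) n, ih, key, hch, pow_add c]


theorem eq_one_of_sq {p : ℕ} [Fact p.Prime] (hS : IsPGroup p S) (hp : p ≠ 2) {w : S}
    (hw : w ^ 2 = 1) : w = 1 := by
  obtain ⟨k, hk⟩ := hS w
  have h1 : orderOf w ∣ 2 := orderOf_dvd_of_pow_eq_one hw
  have h2 : orderOf w ∣ p ^ k := orderOf_dvd_of_pow_eq_one hk
  have hp' : p.Prime := Fact.out
  have hcop : Nat.Coprime 2 (p ^ k) :=
    Nat.Coprime.pow_right k ((Nat.coprime_primes Nat.prime_two hp').mpr (Ne.symm hp))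
  have h3 : orderOf w ∣ 1 := by
    have := Nat.dvd_gcd h1 h2
    rwa [hcop] at this
  exact orderOf_eq_one_iff.mp (Nat.dvd_one.mp h3)

theorem gen_closure_eq (A : Subgroup S) (b : S) :
    Subgroup.closure {g : S | ∃ a ∈ A, g = b⁻¹ * a * b * a⁻¹} =
      Subgroup.closure (h5gGen A b) := by
  apply le_antisymm
  · rw [Subgroup.closure_le]
    rintro g ⟨a, ha, rfl⟩
    have e : b⁻¹ * a * b * a⁻¹ = (a * b⁻¹ * a⁻¹ * b)⁻¹ := by group
    rw [e]
    exact Subgroup.inv_mem _ (Subgroup.subset_closure ⟨a, ha, rfl⟩)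
  · rw [Subgroup.closure_le]
    rintro g ⟨a, ha, rfl⟩
    have e : a * b⁻¹ * a⁻¹ * b = (b⁻¹ * a * b * a⁻¹)⁻¹ := by group
    rw [e]
    exact Subgroup.inv_mem _ (Subgroup.subset_closure ⟨a, ha, rfl⟩)

theorem D_comm [Finite S] {p : ℕ} [Fact p.Prime] (hS : IsPGroup p S) {A B : Subgroup S}
    [B.Normal] (hB2 : p = 2 → IsMulCommutative B) (hAc : IsMulCommutative A)
    (hA : ∀ a ∈ A, ∀ a' ∈ A, a * a' = a' * a) (hBA : ⁅B, B⁆ ≤ A)
    {b : S} (hb : b ∈ B)
    (hbN : b ∈ Subgroup.normalizer ((Subgroup.normalizer (A : Set S)) : Set S)) :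
    ∀ x ∈ Subgroup.closure (h5gGen A b), ∀ y ∈ Subgroup.closure (h5gGen A b), x * y = y * x := by
  intro x hx y hy
  by_cases hp : p = 2
  · have := hB2 hp
    have h1 : (⟨x, h5g_D_le_B hb hx⟩ : B) * ⟨y, h5g_D_le_B hb hy⟩ =
        ⟨y, h5g_D_le_B hb hy⟩ * ⟨x, h5g_D_le_B hb hx⟩ := mul_comm' _ _
    exact congrArg Subtype.val h1
  · have hAB : A ≤ Subgroup.normalizer (B : Set S) := by
      rw [Subgroup.normalizer_eq_top]; exact le_top
    have hZcent : A ⊓ h5gA1 A b ≤ Subgroup.centralizer (A : Set S) := by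
      intro z hz
      rw [Subgroup.mem_centralizer_iff]
      intro a ha
      exact hA a ha z (Subgroup.mem_inf.mp hz).1
    have hc : ⁅⁅B, B⁆, A⁆ = ⊥ := by
      rw [Subgroup.commutator_eq_bot_iff_le_centralizer]
      intro z hz
      rw [Subgroup.mem_centralizer_iff]
      intro a ha
      exact hA a ha z (hBA hz)
    have hquad : ⁅⁅Subgroup.closure {g : S | ∃ a ∈ A, g = b⁻¹ * a * b * a⁻¹}, A⁆, A⁆ = ⊥ := by
      rw [gen_closure_eq, Subgroup.commutator_eq_bot_iff_le_centralizer]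
      refine le_trans ?_ hZcent
      rw [Subgroup.commutator_le]
      intro d hd a ha
      exact h5g_HA hA hbN (h5g_D_le_H hd) ha
    have h2 := (Cfsg.Agent.S0648.result A B hAB hc).2 hAc b hb hquad
    rw [gen_closure_eq] at h2
    have h3 := h2 ⁅x, y⁆ (Subgroup.commutator_mem_commutator hx hy)
    have h4 := eq_one_of_sq hS hp h3
    exact commutatorElement_eq_one_iff_mul_comm.mp h4

theorem star_closure (A : Subgroup S) (b : S) : h5gStar A b =
    Subgroup.closure (((A ⊓ h5gA1 A b : Subgroup S) : Set S) ∪ h5gGen A b) := by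
  unfold h5gStar
  rw [Subgroup.closure_union, Subgroup.closure_eq]

theorem star_comm_elt {A : Subgroup S} {b : S}
    (hA : ∀ a ∈ A, ∀ a' ∈ A, a * a' = a' * a)
    (hD : ∀ x ∈ Subgroup.closure (h5gGen A b), ∀ y ∈ Subgroup.closure (h5gGen A b),
      x * y = y * x) :
    ∀ x ∈ ((A ⊓ h5gA1 A b : Subgroup S) : Set S) ∪ h5gGen A b,
      ∀ y ∈ ((A ⊓ h5gA1 A b : Subgroup S) : Set S) ∪ h5gGen A b, x * y = y * x := by
  rintro x (hx | hx) y (hy | hy)
  · exact hA x (Subgroup.mem_inf.mp hx).1 y (Subgroup.mem_inf.mp hy).1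
  · obtain ⟨a, ha, rfl⟩ := hy
    exact h5g_Z_central hA hx (h5g_gen_mem_H ha)
  · obtain ⟨a, ha, rfl⟩ := hx
    exact (h5g_Z_central hA hy (h5g_gen_mem_H ha)).symm
  · exact hD x (Subgroup.subset_closure hx) y (Subgroup.subset_closure hy)

theorem star_comm {A : Subgroup S} {b : S}
    (hA : ∀ a ∈ A, ∀ a' ∈ A, a * a' = a' * a)
    (hD : ∀ x ∈ Subgroup.closure (h5gGen A b), ∀ y ∈ Subgroup.closure (h5gGen A b),
      x * y = y * x) : IsMulCommutative (h5gStar A b) := by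
  rw [star_closure]
  exact Subgroup.isMulCommutative_closure (star_comm_elt hA hD)

theorem star_pow [Finite S] {A : Subgroup S} {b : S} (e : ℕ) (hodd : Odd e)
    (hA : ∀ a ∈ A, ∀ a' ∈ A, a * a' = a' * a)
    (hbN : b ∈ Subgroup.normalizer ((Subgroup.normalizer (A : Set S)) : Set S))
    (hD : ∀ x ∈ Subgroup.closure (h5gGen A b), ∀ y ∈ Subgroup.closure (h5gGen A b),
      x * y = y * x)
    (he : ∀ a ∈ A, a ^ e = 1) : ∀ x ∈ h5gStar A b, x ^ e = 1 := by
  have hcomm := star_comm hA hD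
  have he1 : ∀ x ∈ h5gA1 A b, x ^ e = 1 := by
    intro x hx
    have h1 := he _ (h5g_mem_A1.mp hx)
    rw [conj_pow] at h1
    have e2 : x ^ e = b⁻¹ * (b * x ^ e * b⁻¹) * b := by group
    rw [e2, h1]; group
  have hgen : ∀ a ∈ A, (a * b⁻¹ * a⁻¹ * b) ^ e = 1 := by
    intro a ha
    have hy : b⁻¹ * a⁻¹ * b ∈ h5gA1 A b := h5g_conj_mem_A1 (A.inv_mem ha)
    have hc : ⁅b⁻¹ * a⁻¹ * b, a⁆ ∈ A ⊓ h5gA1 A b := (h5g_comm_mem hbN ha hy).2
    have e1 : a * b⁻¹ * a⁻¹ * b = a * (b⁻¹ * a⁻¹ * b) := by group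
    have hyx : (b⁻¹ * a⁻¹ * b) * a = ⁅b⁻¹ * a⁻¹ * b, a⁆ * a * (b⁻¹ * a⁻¹ * b) := by
      simp only [commutatorElement_def]; group
    have hcx := h5g_Z_central hA hc (Subgroup.mem_sup_left (T := h5gA1 A b) ha)
    have hcy := h5g_Z_central hA hc (Subgroup.mem_sup_right (S := A) hy)
    rw [e1, pow_formula hyx hcx hcy e, he a ha, he1 _ hy, one_mul, one_mul]
    obtain ⟨j, hj⟩ := hodd
    have h2 : e.choose 2 = e * j := by
      rw [Nat.choose_two_right, hj]
      have : (2 * j + 1) * (2 * j + 1 - 1) = (2 * j + 1) * j * 2 := by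
        rw [Nat.add_sub_cancel]; ring
      rw [this, Nat.mul_div_cancel _ (by norm_num : 0 < 2)]
    rw [h2, pow_mul, he _ (Subgroup.mem_inf.mp hc).1, one_pow]
  intro x hx
  rw [star_closure] at hx
  induction hx using Subgroup.closure_induction with
  | mem y hy =>
    rcases hy with hy | ⟨a, ha, rfl⟩
    · exact he y (Subgroup.mem_inf.mp hy).1
    · exact hgen a ha
  | one => exact one_pow e
  | mul y z hy hz ihy ihz =>
    have hyz : y * z = z * y := by
      rw [← star_closure] at hy hz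
      have h1 : (⟨y, hy⟩ : h5gStar A b) * ⟨z, hz⟩ = ⟨z, hz⟩ * ⟨y, hy⟩ := mul_comm' _ _
      exact congrArg Subtype.val h1
    have : Commute y z := hyz
    rw [this.mul_pow, ihy, ihz, one_mul]
  | inv y hy ihy => rw [inv_pow, ihy, inv_one]


theorem main [Finite S] {p : ℕ} [Fact p.Prime] (hS : IsPGroup p S) (B : Subgroup S) [B.Normal]
    (hB2 : p = 2 → IsMulCommutative B) (A : Subgroup S) (hAc : IsMulCommutative A)
    (hBA : ⁅B, B⁆ ≤ A) (hnot : ¬ B ≤ Subgroup.normalizer (A : Set S)) (b : S) (hb : b ∈ B)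
    (hbN : b ∈ Subgroup.normalizer ((Subgroup.normalizer (A : Set S)) : Set S))
    (hbA : b ∉ Subgroup.normalizer (A : Set S)) :
    Nat.card ↥(h5gStar A b) = Nat.card A ∧ IsMulCommutative ↥(h5gStar A b) ∧
    ⁅B, B⁆ ≤ h5gStar A b ∧ A ⊓ B < h5gStar A b ⊓ B ∧ h5gStar A b ⊓ B < B ∧
    A ≤ Subgroup.normalizer ((h5gStar A b : Subgroup S) : Set S) ∧
    h5gStar A b ≤ Subgroup.normalizer (A : Set S) ∧
    b ∈ Subgroup.normalizer ((h5gStar A b : Subgroup S) : Set S) ∧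
    Subgroup.normalizer (A : Set S) < Subgroup.normalizer ((h5gStar A b : Subgroup S) : Set S) ∧
    (p ≠ 2 → Monoid.exponent ↥(h5gStar A b) ∣ Monoid.exponent A) := by
  have hA : ∀ a ∈ A, ∀ a' ∈ A, a * a' = a' * a := by
    intro a ha a' ha'
    have h1 : (⟨a, ha⟩ : A) * ⟨a', ha'⟩ = ⟨a', ha'⟩ * ⟨a, ha⟩ := mul_comm' _ _
    exact congrArg Subtype.val h1
  have hD := D_comm hS hB2 hAc hA hBA hb hbN
  have h8 := h5g_b_mem_norm_star (A := A) hBA hb
  refine ⟨h5g_card_star hBA hb hA hbN, star_comm hA hD, h5g_dB_le_star hBA hb, ?_, ?_,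
    h5g_A_le_norm_star hA hbN, h5g_star_le_M hbN, h8, ?_, ?_⟩
  · have hle : A ⊓ B ≤ h5gStar A b ⊓ B :=
      le_inf (le_trans (h5g_AB_le_Z hBA hb) le_sup_left) inf_le_right
    have hex : ∃ a ∈ A, b⁻¹ * a * b ∉ A := by
      by_contra hcon
      push Not at hcon
      apply hbA
      have h1 : b⁻¹ ∈ Subgroup.normalizer (A : Set S) := by
        apply h5g_mem_normalizer_of_conj_le
        intro x hx
        rw [inv_inv]
        exact hcon x hx
      have := Subgroup.inv_mem _ h1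
      rwa [inv_inv] at this
    obtain ⟨a, ha, hna⟩ := hex
    have hda : a * b⁻¹ * a⁻¹ * b ∉ A := by
      intro h
      apply hna
      have h2 : a⁻¹ * (a * b⁻¹ * a⁻¹ * b) ∈ A := A.mul_mem (A.inv_mem ha) h
      have h3 := A.inv_mem h2
      have e : (a⁻¹ * (a * b⁻¹ * a⁻¹ * b))⁻¹ = b⁻¹ * a * b := by group
      rwa [e] at h3
    refine lt_of_le_of_ne hle ?_
    intro heq
    apply hda
    have hmem : a * b⁻¹ * a⁻¹ * b ∈ h5gStar A b ⊓ B :=
      Subgroup.mem_inf.mpr ⟨h5g_gen_mem_star ha, h5g_gen_mem_B (A := A) hb⟩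
    rw [← heq] at hmem
    exact (Subgroup.mem_inf.mp hmem).1
  · refine lt_of_le_of_ne inf_le_right ?_
    intro heq
    apply hnot
    exact le_trans (inf_eq_right.mp heq) (h5g_star_le_M hbN)
  · refine lt_of_le_of_ne (h5g_M_le_norm_star hBA hb hbN) ?_
    intro heq
    apply hbA
    rw [heq]
    exact h8
  · intro hp
    have hp' : p.Prime := Fact.out
    have hodd : Odd (Monoid.exponent A) := by
      have h1 : Monoid.exponent A ∣ Nat.card A := Group.exponent_dvd_nat_card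
      obtain ⟨k, hk⟩ := IsPGroup.iff_card.mp (hS.to_subgroup A)
      rw [hk] at h1
      obtain ⟨j, -, hj⟩ := (Nat.dvd_prime_pow hp').mp h1
      rw [hj]
      exact Odd.pow (hp'.eq_two_or_odd'.resolve_left hp)
    have he : ∀ a ∈ A, a ^ Monoid.exponent A = 1 := by
      intro a ha
      have h1 := Monoid.pow_exponent_eq_one (⟨a, ha⟩ : A)
      have h2 := congrArg Subtype.val h1
      simpa using h2
    have hpow := star_pow (Monoid.exponent A) hodd hA hbN hD he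
    apply Monoid.exponent_dvd_of_forall_pow_eq_one
    intro g
    apply Subtype.ext
    have := hpow g.1 g.2
    simpa using this

end

theorem result {S : Type*} [Group S] [Finite S] {p : ℕ} [Fact p.Prime] (hS : IsPGroup p S) (B : Subgroup S) [B.Normal] (hB2 : p = 2 → IsMulCommutative B) (A : Subgroup S) (hA : IsMulCommutative A) (hBA : ⁅B, B⁆ ≤ A) (hnot : ¬ B ≤ Subgroup.normalizer (A : Set S)) (b : S) (hb : b ∈ B) (hbN : b ∈ Subgroup.normalizer ((Subgroup.normalizer (A : Set S)) : Set S)) (hbA : b ∉ Subgroup.normalizer (A : Set S)) : Nat.card ↥((A ⊓ A.map (MulAut.conj (b⁻¹)).toMonoidHom) ⊔ Subgroup.closure {g : S | ∃ a ∈ A, g = a * b⁻¹ * a⁻¹ * b}) = Nat.card A ∧ IsMulCommutative ↥((A ⊓ A.map (MulAut.conj (b⁻¹)).toMonoidHom) ⊔ Subgroup.closure {g : S | ∃ a ∈ A, g = a * b⁻¹ * a⁻¹ * b}) ∧ ⁅B, B⁆ ≤ ((A ⊓ A.map (MulAut.conj (b⁻¹)).toMonoidHom) ⊔ Subgroup.closure {g : S | ∃ a ∈ A, g = a * b⁻¹ * a⁻¹ * b}) ∧ A ⊓ B < ((A ⊓ A.map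 (MulAut.conj (b⁻¹)).toMonoidHom) ⊔ Subgroup.closure {g : S | ∃ a ∈ A, g = a * b⁻¹ * a⁻¹ * b}) ⊓ B ∧ ((A ⊓ A.map (MulAut.conj (b⁻¹)).toMonoidHom) ⊔ Subgroup.closure {g : S | ∃ a ∈ A, g = a * b⁻¹ * a⁻¹ * b}) ⊓ B < B ∧ A ≤ Subgroup.normalizer (((A ⊓ A.map (MulAut.conj (b⁻¹)).toMonoidHom) ⊔ Subgroup.closure {g : S | ∃ a ∈ A, g = a * b⁻¹ * a⁻¹ * b} : Subgroup S) : Set S) ∧ ((A ⊓ A.map (MulAut.conj (b⁻¹)).toMonoidHom) ⊔ Subgroup.closure {g : S | ∃ a ∈ A, g = a * b⁻¹ * a⁻¹ * b}) ≤ Subgroup.normalizer (A : Set S) ∧ b ∈ Subgroup.normalizer (((A ⊓ A.map (MulAut.conj (b⁻¹)).toMonoidHom) ⊔ Subgroup.closure {g : S | ∃ a ∈ A, g = a * b⁻¹ * a⁻¹ * b} : Subgroup S) : Set S) ∧ Subgroup.normalizer (A : Set S) < Subgroup.normalizer (((A ⊓ A.map (MulAut.conj (b⁻¹)).toMonoidHom) ⊔ Subgroup.closure {g : S | ∃ a ∈ A, g = a * b⁻¹ * a⁻¹ * b} : Subgroup S) : Set S) ∧ (p ≠ 2 → Monoid.exponent ↥((A ⊓ A.map (MulAut.conj (b⁻¹)).toMonoidHom) ⊔ Subgroup.closure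 {g : S | ∃ a ∈ A, g = a * b⁻¹ * a⁻¹ * b}) ∣ Monoid.exponent A) :=
  main hS B hB2 A hA hBA hnot b hb hbN hbA

end Cfsg.Agent.S0650
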