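import Mathlib
import Cfsg.Statements.S0652
import Cfsg.Agent.Lib.Helper5.Glauberman2
import Cfsg.Agent.Lib.Helper5.ElemAb

set_option autoImplicit false
open Cfsg

namespace Cfsg.Agent.S0652

open scoped commutatorElement Pointwise
open Cfsg.Agent.Lib.Helper5

theorem mem_image_iff {S : Type*} [Group S] (p : ℕ) (D U : Subgroup S) :
    U ∈ (Set.image (fun A : Subgroup ↥D => A.map D.subtype)
        (Cfsg.maxElementaryAbelianSubgroups p ↥D)) ↔
      (U ≤ D ∧ Cfsg.IsElementaryAbelian p U ∧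
        ∀ V : Subgroup S, V ≤ D → Cfsg.IsElementaryAbelian p V → Nat.card V ≤ Nat.card U) := by
  constructor
  · rintro ⟨A', ⟨hA'c, hA'max⟩, rfl⟩
    refine ⟨Subgroup.map_subtype_le _, elemAb_map D.subtype hA'c, ?_⟩
    intro V hVD hVc
    have h1 := hA'max (V.subgroupOf D)
      (elemAb_comap_of_injective D.subtype D.subtype_injective hVc)
    rw [card_subgroupOf_of_le hVD] at h1
    rw [Subgroup.card_map_of_injective D.subtype_injective]
    exact h1
  · rintro ⟨hUD, hUc, hUmax⟩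
    refine ⟨U.subgroupOf D, ⟨elemAb_comap_of_injective D.subtype D.subtype_injective hUc, ?_⟩,
      Subgroup.map_subgroupOf_eq_of_le hUD⟩
    intro V' hV'c
    have h1 := hUmax (V'.map D.subtype) (Subgroup.map_subtype_le _) (elemAb_map D.subtype hV'c)
    rw [Subgroup.card_map_of_injective D.subtype_injective] at h1
    rw [card_subgroupOf_of_le hUD]
    exact h1

theorem result {S : Type*} [Group S] [Finite S] {p : ℕ} [Fact p.Prime] (hS : IsPGroup p S) (hp : p ≠ 2) (D : Subgroup S) [D.Normal] : ∀ (B : Subgroup S) [B.Normal], ⁅⁅B, B⁆, B⁆ = ⊥ → (∃ U ∈ (Set.image (fun A : Subgroup ↥D => A.map D.subtype) (Cfsg.maxElementaryAbelianSubgroups p ↥D)), ⁅B, B⁆ ≤ U ∧ ¬ B ≤ U) → ∃ A ∈ (Set.image (fun A : Subgroup ↥D => A.map D.subtype) (Cfsg.maxElementaryAbelianSubgroups p ↥D)), ⁅B, B⁆ ≤ A ∧ ¬ B ≤ A ∧ B ≤ Subgroup.normalizer (A : Set S) := by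
  intro B _ _ hU
  obtain ⟨U, hUmem, hBU, hnBU⟩ := hU
  rw [mem_image_iff] at hUmem
  obtain ⟨A, hAmem, h1, h2, h3⟩ := h5g_family_replacement hS hp D
    (fun A => Cfsg.IsElementaryAbelian p A) (fun A h => h.1)
    (fun A b hQ hc hexp => by
      refine ⟨hc, ?_⟩
      have h1 : Monoid.exponent A ∣ p := by
        apply Monoid.exponent_dvd_of_forall_pow_eq_one
        intro g
        apply Subtype.ext
        have := hQ.2 g.1 g.2
        simpa using this
      have h2 := Monoid.exponent_dvd_iff_forall_pow_eq_one.mp (dvd_trans hexp h1)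
      intro x hx
      have h3 := congrArg Subtype.val (h2 ⟨x, hx⟩)
      simpa using h3)
    B ⟨U, hUmem, hBU, hnBU⟩
  exact ⟨A, (mem_image_iff p D A).mpr hAmem, h1, h2, h3⟩

end Cfsg.Agent.S0652
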