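import Mathlib
import Cfsg.Statements.S0655
import Cfsg.Agent.Lib.Helper5.ElemAb

set_option autoImplicit false
open Cfsg

namespace Cfsg.Agent.S0655

open Cfsg.Agent.Lib.Helper5

theorem result {S : Type*} [Group S] [Finite S] {p : ℕ} [Fact p.Prime] (hS : IsPGroup p S) : sInf (Cfsg.maxElementaryAbelianSubgroups p S) = Cfsg.omegaCenterThompson p S ∧ Cfsg.omegaCenterThompson p S = Cfsg.omegaOne p (Subgroup.centralizer (Cfsg.thompsonSubgroup p S : Set S)) := by
  set J := Cfsg.thompsonSubgroup p S with hJ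
  obtain ⟨A₀, hA₀⟩ := maxElemAb_nonempty (G := S) p
  have key : ∀ x : S, x ∈ Subgroup.centralizer (J : Set S) → x ^ p = 1 →
      ∀ A ∈ Cfsg.maxElementaryAbelianSubgroups p S, x ∈ A := by
    intro x hx hxp A hA
    have hAJ : A ≤ J := maxElemAb_le_thompson hA
    exact maxElemAb_mem_of_centralizes hA x
      (Subgroup.centralizer_le (by exact_mod_cast hAJ) hx) hxp
  constructor
  · apply le_antisymm
    · intro x hx
      rw [Subgroup.mem_sInf] at hx
      apply Subgroup.subset_closure
      refine ⟨Subgroup.mem_inf.mpr ⟨maxElemAb_le_thompson hA₀ (hx A₀ hA₀), ?_⟩,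
        hA₀.1.2 x (hx A₀ hA₀)⟩
      have hle : J ≤ Subgroup.centralizer ({x} : Set S) := by
        apply sSup_le
        intro A hA y hy
        rw [Subgroup.mem_centralizer_singleton_iff]
        have := hA.1.1
        exact setLike_mul_comm hy (hx A hA)
      rw [Subgroup.mem_centralizer_iff]
      intro y hy
      have := hle hy
      rw [Subgroup.mem_centralizer_singleton_iff] at this
      exact this
    · unfold Cfsg.omegaCenterThompson Cfsg.omegaOne
      rw [Subgroup.closure_le]
      rintro x ⟨hx, hxp⟩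
      rw [SetLike.mem_coe, Subgroup.mem_sInf]
      exact key x (Subgroup.mem_inf.mp hx).2 hxp
  · unfold Cfsg.omegaCenterThompson Cfsg.omegaOne
    apply le_antisymm
    · apply Subgroup.closure_mono
      rintro x ⟨hx, hxp⟩
      exact ⟨(Subgroup.mem_inf.mp hx).2, hxp⟩
    · apply Subgroup.closure_mono
      rintro x ⟨hx, hxp⟩
      refine ⟨Subgroup.mem_inf.mpr ⟨?_, hx⟩, hxp⟩
      exact maxElemAb_le_thompson hA₀ (key x hx hxp A₀ hA₀)

end Cfsg.Agent.S0655
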