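import Mathlib
import Cfsg.Statements.S0630
import Cfsg.Agent.Lib.Helper5.PConstr

set_option autoImplicit false
open Cfsg

namespace Cfsg.Agent.S0630

open Cfsg.Agent.Lib.Helper5

theorem result {G : Type*} [Group G] [Finite G] {p : ℕ} [Fact p.Prime] : Cfsg.IsPConstrained p G ↔ Cfsg.IsPConstrained p (G ⧸ Cfsg.pPrimeCore p G) := by
  set N : Subgroup G := Cfsg.pPrimeCore p G with hN
  set π : G →* G ⧸ N := QuotientGroup.mk' N with hπ
  set Qb : Subgroup (G ⧸ N) := Cfsg.pCore p (G ⧸ N) with hQb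
  have hker : ∀ g : G, π g = 1 ↔ g ∈ N := fun g => QuotientGroup.eq_one_iff g
  have hNcop : (Nat.card N).Coprime p := Cfsg.Agent.Lib.Helper1.pPrimeCore_card_coprime p
  have h1 : Cfsg.pPrimeCore p (G ⧸ N) = ⊥ := Cfsg.Agent.Lib.Helper1.pPrimeCore_quotient_eq_bot p
  have h2 : Cfsg.pPrimePCore p (G ⧸ N) = Qb := h5_pPrimePCore_eq_pCore h1
  have h3 : IsPGroup p ↥(Cfsg.pPrimePCore p (G ⧸ N)) := h5_pPrimePCore_isPGroup h1
  rw [h5_isPConstrained_iff_of_isPGroup h3, h2]
  constructor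
  · intro hG yb hyb
    obtain ⟨y, hy⟩ := QuotientGroup.mk'_surjective N yb
    have hy' : π y = yb := hy
    subst hy'
    obtain ⟨P⟩ := (inferInstance : Nonempty (Sylow p ↥(Cfsg.pPrimePCore p G)))
    have hPmap := h5_sylow_pPrimePCore_map P
    have hPp : IsPGroup p ↥((P : Subgroup ↥(Cfsg.pPrimePCore p G)).map (Cfsg.pPrimePCore p G).subtype) :=
      P.isPGroup'.map _
    have hyc : π y ∈ Subgroup.centralizer
        (((((P : Subgroup ↥(Cfsg.pPrimePCore p G)).map (Cfsg.pPrimePCore p G).subtype).map π :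
          Subgroup (G ⧸ N))) : Set (G ⧸ N)) := by
      rw [hPmap]; exact hyb
    obtain ⟨d, hd, hyd⟩ := h5_exists_lift_centralizer N hNcop _ hPp y hyc
    have h4 : y * d ∈ Cfsg.pPrimePCore p G := hG P hyd
    rw [h5_mem_pPrimePCore_iff] at h4
    have h5 : π (y * d) = π y := by rw [map_mul, (hker d).mpr hd, mul_one]
    rw [← h5]
    exact h4
  · intro hQ P x hx
    rw [h5_mem_pPrimePCore_iff]
    apply hQ
    rw [Subgroup.mem_centralizer_iff]
    intro q hq
    have hPmap := h5_sylow_pPrimePCore_map P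
    rw [← hQb] at hPmap
    have hq' : q ∈ (((P : Subgroup ↥(Cfsg.pPrimePCore p G)).map (Cfsg.pPrimePCore p G).subtype).map π :
          Subgroup (G ⧸ N)) := by
      rw [hPmap]; exact hq
    obtain ⟨a, ha, rfl⟩ := hq'
    rw [Subgroup.mem_centralizer_iff] at hx
    show π a * π x = π x * π a
    rw [← map_mul, ← map_mul, hx a ha]

end Cfsg.Agent.S0630
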