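import Mathlib
import Cfsg.Statements.S0268

set_option autoImplicit false
open Cfsg

namespace Cfsg.Agent.S0268

/-- For q odd, -1 is the unique involution of SL_2(q). -/
theorem result {F : Type*} [Field F] [Fintype F] (hF : Odd (Fintype.card F)) (g : Matrix.SpecialLinearGroup (Fin 2) F) (h1 : g ≠ 1) (h2 : g * g = 1) : (g : Matrix (Fin 2) (Fin 2) F) = -1 := by
  have h2ne : (2 : F) ≠ 0 := by
    intro h
    have hchar : ringChar F = 2 := by
      have : ringChar F ∣ 2 := by
        apply ringChar.dvd
        exact_mod_cast h
      rcases (Nat.dvd_prime Nat.prime_two).1 this with h' | h'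
      · exfalso
        exact CharP.ringChar_ne_one (R := F) h'
      · exact h'
    have := FiniteField.even_card_of_char_two hchar
    rcases hF with ⟨k, hk⟩
    omega
  have hdet := g.det_coe
  have hmat : (g : Matrix (Fin 2) (Fin 2) F) * (g : Matrix (Fin 2) (Fin 2) F) = 1 := by
    have := congrArg (fun x : Matrix.SpecialLinearGroup (Fin 2) F => (x : Matrix (Fin 2) (Fin 2) F)) h2
    simpa using this
  have hne : (g : Matrix (Fin 2) (Fin 2) F) ≠ 1 := by
    intro h
    apply h1
    ext i j
    simp [h]
  set A := (g : Matrix (Fin 2) (Fin 2) F) with hA
  rw [Matrix.det_fin_two] at hdet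
  have e00 := congrFun (congrFun hmat 0) 0
  have e01 := congrFun (congrFun hmat 0) 1
  have e10 := congrFun (congrFun hmat 1) 0
  have e11 := congrFun (congrFun hmat 1) 1
  simp [Matrix.mul_apply, Fin.sum_univ_two] at e00 e01 e10 e11
  set a := A 0 0
  set b := A 0 1
  set c := A 1 0
  set d := A 1 1
  have hb : b * (a + d) = 0 := by linear_combination e01
  have hc : c * (a + d) = 0 := by linear_combination e10
  by_cases hs : a + d = 0
  · exfalso
    have hd : d = -a := by linear_combination hs
    have : (2 : F) = 0 := by
      have h3 : a * a + b * c = 1 := e00
      have h4 : a * d - b * c = 1 := hdet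
      rw [hd] at h4
      linear_combination (-1 : F) * h3 + (-1 : F) * h4
    exact h2ne this
  · have hb0 : b = 0 := by
      rcases mul_eq_zero.1 hb with h | h
      · exact h
      · exact absurd h hs
    have hc0 : c = 0 := by
      rcases mul_eq_zero.1 hc with h | h
      · exact h
      · exact absurd h hs
    have had : a * d = 1 := by
      have h4 : a * d - b * c = 1 := hdet
      rw [hb0] at h4
      linear_combination h4
    have haa : a * a = 1 := by
      have h3 : a * a + b * c = 1 := e00
      rw [hb0] at h3
      linear_combination h3
    have hane : a ≠ 0 := by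
      intro h
      rw [h] at haa
      simp at haa
    have hda : d = a := by
      have : a * d = a * a := by rw [had, haa]
      exact (mul_left_cancel₀ hane this)
    have ha : a = 1 ∨ a = -1 := by
      have : (a - 1) * (a + 1) = 0 := by linear_combination haa
      rcases mul_eq_zero.1 this with h | h
      · left; linear_combination h
      · right; linear_combination h
    rcases ha with ha | ha
    · exfalso
      apply hne
      ext i j
      fin_cases i <;> fin_cases j
      · simpa using ha
      · simpa using hb0
      · simpa using hc0
      · show d = _
        rw [hda, ha]; simp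
    · ext i j
      fin_cases i <;> fin_cases j
      · simpa using ha
      · simpa using hb0
      · simpa using hc0
      · show d = _
        rw [hda, ha]; simp

end Cfsg.Agent.S0268
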