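import Mathlib
import Cfsg.Statements.S0275
import Cfsg.Agent.S0268
import Cfsg.Agent.Lib.Helper1.TwoGroupUnique
set_option autoImplicit false

namespace Cfsg.Agent.S0275

open Matrix

variable {F : Type*} [Field F]

def NonScalar (z : Matrix (Fin 2) (Fin 2) F) : Prop :=
  z 0 1 ≠ 0 ∨ z 1 0 ≠ 0 ∨ z 0 0 ≠ z 1 1

theorem exists_lin_of_commute (z g : Matrix (Fin 2) (Fin 2) F) (hz : NonScalar z)
    (h : g * z = z * g) : ∃ α β : F, g = α • (1 : Matrix (Fin 2) (Fin 2) F) + β • z := by
  have h00 := congrFun (congrFun h 0) 0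
  have h01 := congrFun (congrFun h 0) 1
  have h10 := congrFun (congrFun h 1) 0
  simp only [Matrix.mul_apply, Fin.sum_univ_two] at h00 h01 h10
  have E1 : g 0 1 * z 1 0 = z 0 1 * g 1 0 := by linear_combination h00
  have E2 : z 0 1 * (g 0 0 - g 1 1) = g 0 1 * (z 0 0 - z 1 1) := by linear_combination h01
  have E3 : z 1 0 * (g 0 0 - g 1 1) = g 1 0 * (z 0 0 - z 1 1) := by linear_combination -h10
  rcases hz with hz | hz | hz
  · refine ⟨g 0 0 - g 0 1 / z 0 1 * z 0 0, g 0 1 / z 0 1, ?_⟩
    ext i j
    fin_cases i <;> fin_cases j <;>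
      simp only [Fin.zero_eta, Fin.mk_one, Fin.isValue, Matrix.add_apply, Matrix.smul_apply,
        Matrix.one_apply_eq, Matrix.one_apply_ne, ne_eq, not_false_eq_true,
        smul_eq_mul, mul_one, mul_zero, zero_add, one_ne_zero, zero_ne_one]
    · ring
    · field_simp
    · field_simp
      linear_combination -E1
    · field_simp
      linear_combination -E2
  · refine ⟨g 0 0 - g 1 0 / z 1 0 * z 0 0, g 1 0 / z 1 0, ?_⟩
    ext i j
    fin_cases i <;> fin_cases j <;>
      simp only [Fin.zero_eta, Fin.mk_one, Fin.isValue, Matrix.add_apply, Matrix.smul_apply,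
        Matrix.one_apply_eq, Matrix.one_apply_ne, ne_eq, not_false_eq_true,
        smul_eq_mul, mul_one, mul_zero, zero_add, one_ne_zero, zero_ne_one]
    · ring
    · field_simp
      linear_combination E1
    · field_simp
    · field_simp
      linear_combination -E3
  · have hne : z 0 0 - z 1 1 ≠ 0 := sub_ne_zero.mpr hz
    refine ⟨g 0 0 - (g 0 0 - g 1 1) / (z 0 0 - z 1 1) * z 0 0,
      (g 0 0 - g 1 1) / (z 0 0 - z 1 1), ?_⟩
    ext i j
    fin_cases i <;> fin_cases j <;>
      simp only [Fin.zero_eta, Fin.mk_one, Fin.isValue, Matrix.add_apply, Matrix.smul_apply,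
        Matrix.one_apply_eq, Matrix.one_apply_ne, ne_eq, not_false_eq_true,
        smul_eq_mul, mul_one, mul_zero, zero_add, one_ne_zero, zero_ne_one]
    · ring
    · field_simp
      linear_combination -E2
    · field_simp
      linear_combination -E3
    · field_simp
      ring

theorem commute_of_commute_nonscalar (z g g' : Matrix (Fin 2) (Fin 2) F) (hz : NonScalar z)
    (h : g * z = z * g) (h' : g' * z = z * g') : g * g' = g' * g := by
  obtain ⟨α, β, rfl⟩ := exists_lin_of_commute z g hz h
  obtain ⟨α', β', rfl⟩ := exists_lin_of_commute z g' hz h'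
  simp only [add_mul, mul_add, smul_mul_assoc, mul_smul_comm, one_mul, mul_one, smul_add, smul_smul]
  rw [mul_comm β β', mul_comm α α', mul_comm α β', mul_comm β α']
  abel

theorem cayley_two (z : Matrix (Fin 2) (Fin 2) F) (hd : z.det = 1) :
    z * z = z.trace • z - 1 := by
  rw [Matrix.det_fin_two] at hd
  ext i j
  fin_cases i <;> fin_cases j <;>
    simp only [Fin.zero_eta, Fin.mk_one, Fin.isValue, Matrix.mul_apply, Fin.sum_univ_two,
      Matrix.sub_apply, Matrix.smul_apply, Matrix.trace_fin_two, Matrix.one_apply_eq,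
      Matrix.one_apply_ne, ne_eq, not_false_eq_true, smul_eq_mul, one_ne_zero, zero_ne_one,
      sub_zero]
  · linear_combination -hd
  · ring
  · ring
  · linear_combination -hd

theorem conj_eq_or (z y : Matrix (Fin 2) (Fin 2) F) (h2 : (2 : F) ≠ 0) (hz : NonScalar z)
    (hdz : z.det = 1) (hdy : y.det = 1) (htr : y.trace = z.trace)
    (ht : z.trace ^ 2 ≠ 4) (hc : y * z = z * y) :
    y = z ∨ y = z.trace • (1 : Matrix (Fin 2) (Fin 2) F) - z := by
  obtain ⟨α, β, rfl⟩ := exists_lin_of_commute z y hz hc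
  have h1 : 2 * α + β * z.trace = z.trace := by
    have h := htr
    simp only [Matrix.trace_fin_two, Matrix.add_apply, Matrix.smul_apply, Matrix.one_apply_eq,
      smul_eq_mul, mul_one] at h ⊢
    linear_combination h
  have hd' := hdz
  rw [Matrix.det_fin_two] at hd'
  have hdet : α ^ 2 + α * β * z.trace + β ^ 2 = 1 := by
    have h := hdy
    simp only [Matrix.det_fin_two, Matrix.trace_fin_two, Matrix.add_apply, Matrix.smul_apply,
      Matrix.one_apply_eq, Matrix.one_apply_ne, ne_eq, not_false_eq_true, smul_eq_mul, mul_one,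
      mul_zero, zero_add, one_ne_zero, zero_ne_one, Fin.isValue] at h ⊢
    linear_combination h + (-(β ^ 2)) * hd'
  have hkey : (1 - β ^ 2) * (z.trace ^ 2 - 4) = 0 := by
    linear_combination 4 * hdet - (2 * α + z.trace * (1 - β) + 2 * β * z.trace) * h1
  have hb : β ^ 2 = 1 := by
    rcases mul_eq_zero.mp hkey with h | h
    · linear_combination -h
    · exact absurd (sub_eq_zero.mp h) ht
  have hb' : (β - 1) * (β + 1) = 0 := by linear_combination hb
  rcases mul_eq_zero.mp hb' with h | h
  · left
    have hβ : β = 1 := by linear_combination h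
    subst hβ
    have hα : α = 0 := by
      have : 2 * α = 0 := by linear_combination h1
      rcases mul_eq_zero.mp this with h3 | h3
      · exact absurd h3 h2
      · exact h3
    subst hα
    simp
  · right
    have hβ : β = -1 := by linear_combination h
    subst hβ
    have hα : α = z.trace := by
      have : 2 * (α - z.trace) = 0 := by linear_combination h1
      rcases mul_eq_zero.mp this with h3 | h3
      · exact absurd h3 h2
      · linear_combination h3
    subst hα
    simp [sub_eq_add_neg]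


theorem one_add_pow_of_sq_zero' {R : Type*} [Ring R] (N : R) (hN : N * N = 0) (m : ℕ) :
    (1 + N) ^ m = 1 + m • N := by
  induction m with
  | zero => simp
  | succ m ih =>
    rw [pow_succ, ih, mul_add, mul_one, add_mul, one_mul, smul_mul_assoc, hN, smul_zero, add_zero,
      succ_nsmul]
    abel

theorem nonscalar_of_order {p : ℕ} [Fact p.Prime] [CharP F p] (hp : p ≠ 2)
    (z : Matrix (Fin 2) (Fin 2) F) (hd : z.det = 1) (r : ℕ) (hr : r.Prime) (hr2 : r ≠ 2)
    (hrp : r ≠ p) (hzr : z ^ r = 1) (hz1 : z ≠ 1) :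
    NonScalar z ∧ z.trace ^ 2 ≠ 4 := by
  have hpp : p.Prime := Fact.out
  have h2 : (2 : F) ≠ 0 := by
    intro h
    have h' : ((2 : ℕ) : F) = 0 := by exact_mod_cast h
    rw [CharP.cast_eq_zero_iff F p] at h'
    exact hp ((Nat.prime_dvd_prime_iff_eq hpp Nat.prime_two).mp h')
  have hrodd : Odd r := hr.odd_of_ne_two hr2
  have hone : ∀ m : ℕ, m.Coprime r → z ^ m = 1 → False := by
    intro m hm hzm
    have h1 : orderOf z ∣ m := orderOf_dvd_of_pow_eq_one hzm
    have h3 : orderOf z ∣ r := orderOf_dvd_of_pow_eq_one hzr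
    have h4 : orderOf z = 1 := Nat.eq_one_of_dvd_coprimes hm h1 h3
    exact hz1 (orderOf_eq_one_iff.mp h4)
  constructor
  · by_contra hns
    unfold NonScalar at hns
    push Not at hns
    obtain ⟨h01, h10, h00⟩ := hns
    have hzc : z = z 0 0 • (1 : Matrix (Fin 2) (Fin 2) F) := by
      ext i j
      fin_cases i <;> fin_cases j <;> simp [h01, h10, h00]
    have hdet : z 0 0 * z 0 0 = 1 := by
      have := hd
      rw [Matrix.det_fin_two, h01, h10, ← h00] at this
      linear_combination this
    have hc : (z 0 0 - 1) * (z 0 0 + 1) = 0 := by linear_combination hdet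
    rcases mul_eq_zero.mp hc with h | h
    · apply hz1
      rw [hzc, sub_eq_zero.mp h, one_smul]
    · have hm1 : z 0 0 = -1 := by linear_combination h
      have hz' : z = -1 := by rw [hzc, hm1]; simp
      rw [hz', hrodd.neg_one_pow] at hzr
      have := congrFun (congrFun hzr 0) 0
      simp only [Matrix.neg_apply, Matrix.one_apply_eq] at this
      apply h2
      linear_combination -this
  · intro ht
    have hc : (z.trace - 2) * (z.trace + 2) = 0 := by linear_combination ht
    have hcay := cayley_two z hd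
    rcases mul_eq_zero.mp hc with h | h
    · have htr : z.trace = 2 := by linear_combination h
      rw [htr] at hcay
      have hN : (z - 1) * (z - 1) = 0 := by
        rw [sub_mul, mul_sub, mul_sub, hcay, one_mul, mul_one, mul_one]
        rw [two_smul]
        abel
      have hzp : z ^ p = 1 := by
        have e : z = 1 + (z - 1) := by abel
        rw [e, one_add_pow_of_sq_zero' _ hN]
        have : (p : ℕ) • (z - 1) = 0 := by
          rw [← Nat.cast_smul_eq_nsmul F, CharP.cast_eq_zero F p, zero_smul]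
        rw [this, add_zero]
      exact hone p ((Nat.coprime_primes hpp hr).mpr (Ne.symm hrp)) hzp
    · have htr : z.trace = -2 := by linear_combination h
      rw [htr] at hcay
      have hN : (-z - 1) * (-z - 1) = 0 := by
        have : (-z - 1) * (-z - 1) = z * z + z + z + 1 := by noncomm_ring
        rw [this, hcay, neg_smul, two_smul]
        abel
      have hzp : (-z) ^ p = 1 := by
        have e : -z = 1 + (-z - 1) := by abel
        rw [e, one_add_pow_of_sq_zero' _ hN]
        have : (p : ℕ) • (-z - 1) = 0 := by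
          rw [← Nat.cast_smul_eq_nsmul F, CharP.cast_eq_zero F p, zero_smul]
        rw [this, add_zero]
      have hz2p : z ^ (2 * p) = 1 := by
        have : (-z) ^ (2 * p) = 1 := by rw [mul_comm, pow_mul, hzp, one_pow]
        rwa [Even.neg_pow (even_two_mul p)] at this
      apply hone (2 * p) _ hz2p
      apply Nat.Coprime.mul_left
      · exact (Nat.coprime_primes Nat.prime_two hr).mpr (Ne.symm hr2)
      · exact (Nat.coprime_primes hpp hr).mpr (Ne.symm hrp)


section GroupPart

variable [Fintype F] {p : ℕ} [Fact p.Prime] [CharP F p]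

theorem exists_central_of_sylow {Y : Type*} [Group Y] [Finite Y] {r : ℕ} [hr : Fact r.Prime]
    (R : Sylow r Y) (hR : (R : Subgroup Y) ≠ ⊥) :
    ∃ z : Y, z ∈ (R : Subgroup Y) ∧ z ≠ 1 ∧ z ^ r = 1 ∧ ∀ x ∈ (R : Subgroup Y), x * z = z * x := by
  haveI : Nontrivial (R : Subgroup Y) := (Subgroup.nontrivial_iff_ne_bot _).mpr hR
  haveI hZ : Nontrivial (Subgroup.center (R : Subgroup Y)) := R.2.center_nontrivial
  have hZp : IsPGroup r (Subgroup.center (R : Subgroup Y)) := R.2.to_subgroup _
  have hdvd : r ∣ Nat.card (Subgroup.center (R : Subgroup Y)) := by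
    rcases hZp.card_eq_or_dvd with h1 | h1
    · exfalso
      have := Finite.one_lt_card_iff_nontrivial.mpr hZ
      omega
    · exact h1
  obtain ⟨z, hz⟩ := exists_prime_orderOf_dvd_card' r hdvd
  refine ⟨((z : (R : Subgroup Y)) : Y), (z : (R : Subgroup Y)).2, ?_, ?_, ?_⟩
  · intro h1
    have hz1 : z = 1 := by
      apply Subtype.ext
      apply Subtype.ext
      exact h1
    rw [hz1, orderOf_one] at hz
    exact hr.out.one_lt.ne hz
  · have : z ^ r = 1 := by
      have h3 := pow_orderOf_eq_one z
      rwa [hz] at h3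
    have h2 := congrArg (fun w : Subgroup.center (R : Subgroup Y) => ((w : (R : Subgroup Y)) : Y)) this
    simpa using h2
  · intro x hx
    have := Subgroup.mem_center_iff.mp z.2 ⟨x, hx⟩
    exact congrArg Subtype.val this

theorem normalizer_le_centralizer_of_odd {Y : Type*} [Group Y] [Finite Y]
    (ι : Y →* Matrix.SpecialLinearGroup (Fin 2) F) (hι : Function.Injective ι) (hp : p ≠ 2)
    (hodd : Odd (Nat.card Y)) (r : ℕ) [hr : Fact r.Prime] (hrp : r ≠ p) (R : Sylow r Y) :
    Subgroup.normalizer ((R : Subgroup Y) : Set Y) ≤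
      Subgroup.centralizer ((R : Subgroup Y) : Set Y) := by
  by_cases hR : (R : Subgroup Y) = ⊥
  · rw [hR]
    intro g _
    rw [Subgroup.mem_centralizer_iff]
    intro x hx
    rw [SetLike.mem_coe, Subgroup.mem_bot] at hx
    rw [hx, one_mul, mul_one]
  obtain ⟨z, hzR, hz1, hzr, hzc⟩ := exists_central_of_sylow R hR
  have hpp : p.Prime := Fact.out
  have h2 : (2 : F) ≠ 0 := by
    intro h
    have h' : ((2 : ℕ) : F) = 0 := by exact_mod_cast h
    rw [CharP.cast_eq_zero_iff F p] at h'
    exact hp ((Nat.prime_dvd_prime_iff_eq hpp Nat.prime_two).mp h')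
  have hr2 : r ≠ 2 := by
    intro h
    have hord : orderOf z = r := orderOf_eq_prime hzr hz1
    have h3 : r ∣ Nat.card Y := hord ▸ orderOf_dvd_natCard z
    rw [h] at h3
    exact (Nat.not_even_iff_odd.mpr hodd) (even_iff_two_dvd.mpr h3)
  let m : Y → Matrix (Fin 2) (Fin 2) F := fun y => ((ι y : Matrix.SpecialLinearGroup (Fin 2) F) : Matrix (Fin 2) (Fin 2) F)
  have hm_mul : ∀ a b : Y, m (a * b) = m a * m b := by
    intro a b
    show ((ι (a * b) : Matrix.SpecialLinearGroup (Fin 2) F) : Matrix (Fin 2) (Fin 2) F) = _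
    rw [map_mul, Matrix.SpecialLinearGroup.coe_mul]
  have hm_one : m 1 = 1 := by
    show ((ι 1 : Matrix.SpecialLinearGroup (Fin 2) F) : Matrix (Fin 2) (Fin 2) F) = _
    rw [map_one, Matrix.SpecialLinearGroup.coe_one]
  have hm_inj : ∀ a b : Y, m a = m b → a = b := by
    intro a b hab
    exact hι (Subtype.ext hab)
  have hm_det : ∀ a : Y, (m a).det = 1 := fun a => (ι a).2
  have hm_pow : ∀ (a : Y) (n : ℕ), m (a ^ n) = m a ^ n := by
    intro a n
    induction n with
    | zero => rw [pow_zero, pow_zero, hm_one]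
    | succ n ih => rw [pow_succ, pow_succ, hm_mul, ih]
  have hmz : NonScalar (m z) ∧ (m z).trace ^ 2 ≠ 4 := by
    apply nonscalar_of_order hp (m z) (hm_det z) r hr.out hr2 hrp
    · rw [← hm_pow, hzr, hm_one]
    · intro h
      apply hz1
      apply hm_inj
      rw [h, hm_one]
  intro g hg
  have hyR : g * z * g⁻¹ ∈ (R : Subgroup Y) := (Subgroup.mem_normalizer_iff.mp hg z).mp hzR
  have hyc : (g * z * g⁻¹) * z = z * (g * z * g⁻¹) := hzc _ hyR
  have htr : (m (g * z * g⁻¹)).trace = (m z).trace := by
    rw [hm_mul, hm_mul, Matrix.trace_mul_cycle, ← hm_mul, inv_mul_cancel, hm_one, one_mul]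
  have hcomm : g * z = z * g := by
    rcases conj_eq_or (m z) (m (g * z * g⁻¹)) h2 hmz.1 (hm_det z) (hm_det _) htr hmz.2
      (by rw [← hm_mul, ← hm_mul, hyc]) with h | h
    · have := hm_inj _ _ h
      calc g * z = (g * z * g⁻¹) * g := by group
        _ = z * g := by rw [this]
    · exfalso
      have hprod : m ((g * z * g⁻¹) * z) = 1 := by
        rw [hm_mul, h, sub_mul, smul_mul_assoc, one_mul, cayley_two (m z) (hm_det z)]
        abel
      have hinv : g * z * g⁻¹ = z⁻¹ := by
        have := hm_inj _ _ (hprod.trans hm_one.symm)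
        exact eq_inv_of_mul_eq_one_left this
      have hsq : Commute (g * g) z := by
        show g * g * z = z * (g * g)
        have : g * g * z * (g * g)⁻¹ = z := by
          calc g * g * z * (g * g)⁻¹ = g * (g * z * g⁻¹) * g⁻¹ := by group
            _ = g * z⁻¹ * g⁻¹ := by rw [hinv]
            _ = (g * z * g⁻¹)⁻¹ := by group
            _ = z := by rw [hinv, inv_inv]
        calc g * g * z = (g * g * z * (g * g)⁻¹) * (g * g) := by group
          _ = z * (g * g) := by rw [this]
      have hgodd : Odd (orderOf g) := by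
        apply Odd.of_dvd_nat hodd
        exact orderOf_dvd_natCard g
      obtain ⟨k, hk⟩ := hgodd
      have hgk : g = (g * g) ^ (k + 1) := by
        rw [← pow_two, ← pow_mul]
        have : 2 * (k + 1) = orderOf g + 1 := by omega
        rw [this, pow_succ, pow_orderOf_eq_one, one_mul]
      have hgz : Commute g z := by
        rw [hgk]
        exact hsq.pow_left _
      have : g * z * g⁻¹ = z := by
        rw [hgz.eq]
        group
      rw [this] at hinv
      have hz2 : z ^ 2 = 1 := by
        rw [pow_two]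
        nth_rewrite 1 [hinv]
        exact inv_mul_cancel z
      have hord : orderOf z = r := orderOf_eq_prime hzr hz1
      have : r ∣ 2 := hord ▸ orderOf_dvd_of_pow_eq_one hz2
      exact hr2 ((Nat.prime_dvd_prime_iff_eq hr.out Nat.prime_two).mp this)
  rw [Subgroup.mem_centralizer_iff]
  intro x hx
  have hxz : x * z = z * x := hzc x hx
  apply hm_inj
  rw [hm_mul, hm_mul]
  exact commute_of_commute_nonscalar (m z) (m x) (m g) hmz.1
    (by rw [← hm_mul, ← hm_mul, hxz]) (by rw [← hm_mul, ← hm_mul, hcomm])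


theorem sylow_unique_of_odd {Y : Type*} [Group Y] [Finite Y]
    (ι : Y →* Matrix.SpecialLinearGroup (Fin 2) F) (hι : Function.Injective ι) (hp : p ≠ 2)
    (hodd : Odd (Nat.card Y)) (P Q : Sylow p Y) : P = Q := by
  have hpp : p.Prime := Fact.out
  have hM : ∀ r : ℕ, r.Prime → r ≠ p →
      ¬ r ∣ Nat.card (Subgroup.closure {x : Y | ∃ j : ℕ, x ^ (p ^ j) = 1}) := by
    intro r hr hrp
    haveI : Fact r.Prime := ⟨hr⟩
    obtain ⟨R⟩ : Nonempty (Sylow r Y) := inferInstance
    have hNC := normalizer_le_centralizer_of_odd ι hι hp hodd r hrp R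
    have hle : Subgroup.closure {x : Y | ∃ j : ℕ, x ^ (p ^ j) = 1} ≤
        (MonoidHom.transferSylow R hNC).ker := by
      rw [Subgroup.closure_le]
      rintro x ⟨j, hj⟩
      rw [SetLike.mem_coe, MonoidHom.mem_ker]
      have h1 : (MonoidHom.transferSylow R hNC x) ^ (p ^ j) = 1 := by
        rw [← map_pow, hj, map_one]
      have h2 : orderOf (MonoidHom.transferSylow R hNC x) ∣ p ^ j := orderOf_dvd_of_pow_eq_one h1
      obtain ⟨a, ha⟩ := R.2.exists_card_eq
      have h3 : orderOf (MonoidHom.transferSylow R hNC x) ∣ r ^ a := by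
        rw [← ha]
        exact orderOf_dvd_natCard _
      have hcop : (p ^ j).Coprime (r ^ a) :=
        Nat.Coprime.pow _ _ ((Nat.coprime_primes hpp hr).mpr (Ne.symm hrp))
      exact orderOf_eq_one_iff.mp (Nat.eq_one_of_dvd_coprimes hcop h2 h3)
    intro hdvd
    exact MonoidHom.not_dvd_card_ker_transferSylow R hNC
      (hdvd.trans (Subgroup.card_dvd_of_le hle))
  have hMp : IsPGroup p (Subgroup.closure {x : Y | ∃ j : ℕ, x ^ (p ^ j) = 1}) := by
    apply IsPGroup.of_card (n := (Nat.card (Subgroup.closure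
      {x : Y | ∃ j : ℕ, x ^ (p ^ j) = 1})).primeFactorsList.length)
    apply Nat.eq_prime_pow_of_unique_prime_dvd Nat.card_pos.ne'
    intro d hd hdd
    by_contra hne
    exact hM d hd hne hdd
  have hle : ∀ S : Sylow p Y, (S : Subgroup Y) ≤
      Subgroup.closure {x : Y | ∃ j : ℕ, x ^ (p ^ j) = 1} := by
    intro S x hx
    apply Subgroup.subset_closure
    obtain ⟨j, hj⟩ := S.2 ⟨x, hx⟩
    exact ⟨j, congrArg Subtype.val hj⟩
  have hP := P.3 hMp (hle P)
  have hQ := Q.3 hMp (hle Q)
  exact Sylow.ext (hP.symm.trans hQ)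

end GroupPart


theorem not_cyclic_sylow_two {F : Type*} [Field F] [Fintype F] (p : ℕ) [Fact p.Prime] [CharP F p]
    (hp : p ≠ 2) (H : Subgroup (Matrix.SpecialLinearGroup (Fin 2) F))
    (P Q : Sylow p H) (hPQ : P ≠ Q) (S : Sylow 2 H) (hcyc : IsCyclic (S : Subgroup H)) : False := by
  have hpp : p.Prime := Fact.out
  by_cases heven : 2 ∣ Nat.card H
  · have hmin : (Nat.card H).minFac = 2 := (Nat.minFac_eq_two_iff _).mpr heven
    have hcomp := IsCyclic.isComplement' hmin hcyc
    have hNC := IsCyclic.normalizer_le_centralizer hmin hcyc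
    have hNodd : Odd (Nat.card (MonoidHom.transferSylow S hNC).ker) := by
      rw [← Nat.not_even_iff_odd, even_iff_two_dvd]
      exact MonoidHom.not_dvd_card_ker_transferSylow S hNC
    have hle : ∀ T : Sylow p H, (T : Subgroup H) ≤ (MonoidHom.transferSylow S hNC).ker := by
      intro T x hx
      rw [MonoidHom.mem_ker]
      obtain ⟨j, hj⟩ := T.2 ⟨x, hx⟩
      have hj' : x ^ (p ^ j) = 1 := congrArg Subtype.val hj
      have h1 : (MonoidHom.transferSylow S hNC x) ^ (p ^ j) = 1 := by
        rw [← map_pow, hj', map_one]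
      have h2 : orderOf (MonoidHom.transferSylow S hNC x) ∣ p ^ j := orderOf_dvd_of_pow_eq_one h1
      obtain ⟨a, ha⟩ := S.2.exists_card_eq
      have h3 : orderOf (MonoidHom.transferSylow S hNC x) ∣ 2 ^ a := by
        rw [← ha]
        exact orderOf_dvd_natCard _
      have hcop : (p ^ j).Coprime (2 ^ a) :=
        Nat.Coprime.pow _ _ ((Nat.coprime_primes hpp Nat.prime_two).mpr hp)
      exact orderOf_eq_one_iff.mp (Nat.eq_one_of_dvd_coprimes hcop h2 h3)
    have hinj : Function.Injective
        (H.subtype.comp (MonoidHom.transferSylow S hNC).ker.subtype) := by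
      intro a b hab
      exact Subtype.ext (Subtype.ext hab)
    have := sylow_unique_of_odd (H.subtype.comp (MonoidHom.transferSylow S hNC).ker.subtype)
      hinj hp hNodd (P.subtype (hle P)) (Q.subtype (hle Q))
    exact hPQ (Sylow.subtype_injective this)
  · have hodd : Odd (Nat.card H) := by
      rw [← Nat.not_even_iff_odd, even_iff_two_dvd]
      exact heven
    exact hPQ (sylow_unique_of_odd H.subtype H.subtype_injective hp hodd P Q)

theorem result {F : Type*} [Field F] [Fintype F] (p : ℕ) [Fact p.Prime] [CharP F p] (hp : p ≠ 2) (H : Subgroup (Matrix.SpecialLinearGroup (Fin 2) F)) (hH : 1 < Nat.card (Sylow p H)) (S : Sylow 2 H) : ∃ k : ℕ, 1 ≤ k ∧ Nonempty ((S : Subgroup H) ≃* QuaternionGroup (2 ^ k)) := by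
  have hpp : p.Prime := Fact.out
  have hFodd : Odd (Fintype.card F) := by
    obtain ⟨n, -, hn⟩ := FiniteField.card F p
    rw [hn]
    exact (hpp.odd_of_ne_two hp).pow
  obtain ⟨P, Q, hPQ⟩ : ∃ P Q : Sylow p H, P ≠ Q := by
    rw [Finite.one_lt_card_iff_nontrivial] at hH
    exact exists_pair_ne _
  have hinv : ∀ x : (S : Subgroup H), x ≠ 1 → x ^ 2 = 1 →
      (((x : H) : Matrix.SpecialLinearGroup (Fin 2) F) : Matrix (Fin 2) (Fin 2) F) = -1 := by
    intro x hx1 hx2
    apply Cfsg.Agent.S0268.result hFodd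
    · intro h
      apply hx1
      apply Subtype.ext
      apply Subtype.ext
      exact h
    · have := congrArg (fun w : (S : Subgroup H) => ((w : H) : Matrix.SpecialLinearGroup (Fin 2) F)) hx2
      simpa [pow_two] using this
  have hgen : ∀ A : Subgroup (S : Subgroup H), Nat.card A = 2 →
      ∃ x : (S : Subgroup H), x ≠ 1 ∧ x ^ 2 = 1 ∧ A = Subgroup.zpowers x := by
    intro A hA
    have hnt : Nontrivial A := by
      rw [← Finite.one_lt_card_iff_nontrivial, hA]
      norm_num
    obtain ⟨⟨x, hxA⟩, hx1⟩ := exists_ne (1 : A)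
    have hx1' : x ≠ 1 := fun h => hx1 (Subtype.ext h)
    have hx2 : x ^ 2 = 1 := by
      have := pow_card_eq_one' (G := A) (x := ⟨x, hxA⟩)
      rw [hA] at this
      exact congrArg Subtype.val this
    refine ⟨x, hx1', hx2, ?_⟩
    symm
    apply Subgroup.eq_of_le_of_card_ge
    · rw [Subgroup.zpowers_le]
      exact hxA
    · rw [hA, Nat.card_zpowers, orderOf_eq_prime hx2 hx1']
  have huniq : ∀ A B : Subgroup (S : Subgroup H), Nat.card A = 2 → Nat.card B = 2 → A = B := by
    intro A B hA hB
    obtain ⟨x, hx1, hx2, rfl⟩ := hgen A hA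
    obtain ⟨y, hy1, hy2, rfl⟩ := hgen B hB
    have hxy : x = y := by
      apply Subtype.ext
      apply Subtype.ext
      apply Subtype.ext
      rw [hinv x hx1 hx2, hinv y hy1 hy2]
    rw [hxy]
  rcases Cfsg.Agent.Lib.Helper1.cyclic_or_quaternion_of_unique S.2 huniq with hcyc | ⟨n, ⟨e⟩⟩
  · exact absurd hcyc (fun h => not_cyclic_sylow_two p hp H P Q hPQ S h)
  · cases n with
    | zero =>
      exfalso
      have hc1 : IsCyclic (QuaternionGroup (2 ^ 0)) := QuaternionGroup.quaternionGroup_one_isCyclic
      have hcyc : IsCyclic (S : Subgroup H) :=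
        isCyclic_of_surjective e.symm e.symm.surjective
      exact not_cyclic_sylow_two p hp H P Q hPQ S hcyc
    | succ n => exact ⟨n + 1, by omega, ⟨e⟩⟩

end Cfsg.Agent.S0275
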