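import Mathlib
import Cfsg.Statements.S0592

set_option autoImplicit false
open Cfsg

namespace Cfsg.Agent.S0592

open Polynomial

theorem splits_X_pow_card_sub_X (K : Type*) [Field K] [Fintype K] :
    Splits (X ^ Fintype.card K - X : K[X]) := by
  rw [splits_iff_card_roots, FiniteField.roots_X_pow_card_sub_X,
    FiniteField.X_pow_card_sub_X_natDegree_eq K Fintype.one_lt_card]
  simp

theorem splits_X_pow_sub_one (K : Type*) [Field K] [Fintype K] (k : ℕ)
    (hk : k ∣ Fintype.card K - 1) : Splits (X ^ k - 1 : K[X]) := by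
  obtain ⟨m, hm⟩ := hk
  have hq : 1 ≤ Fintype.card K := Fintype.card_pos
  have h1 : (X ^ k - 1 : K[X]) ∣ X ^ (Fintype.card K - 1) - 1 := by
    rw [hm, pow_mul]
    have := sub_dvd_pow_sub_pow (X ^ k : K[X]) 1 m
    rwa [one_pow] at this
  have h2 : (X ^ (Fintype.card K - 1) - 1 : K[X]) ∣ X ^ Fintype.card K - X := by
    refine ⟨X, ?_⟩
    have : Fintype.card K = (Fintype.card K - 1) + 1 := by omega
    conv_lhs => rw [this, pow_succ]
    ring
  have hne : (X ^ Fintype.card K - X : K[X]) ≠ 0 :=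
    FiniteField.X_pow_card_sub_X_ne_zero K Fintype.one_lt_card
  exact (splits_X_pow_card_sub_X K).of_dvd hne (h1.trans h2)

theorem exists_eigenvector {K : Type*} [Field K] [Fintype K] {p : ℕ} [Fact p.Prime] [CharP K p]
    {V : Type*} [AddCommGroup V] [Module K V] [FiniteDimensional K V] [Nontrivial V]
    (T : V →ₗ[K] V) (e k : ℕ) (hk : k ∣ Fintype.card K - 1) (hT : T ^ (p ^ e * k) = 1) :
    ∃ (μ : K) (v : V), v ≠ 0 ∧ T v = μ • v := by
  have hP : Splits (X ^ (p ^ e * k) - 1 : K[X]) := by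
    have : (X ^ (p ^ e * k) - 1 : K[X]) = (X ^ k - 1) ^ (p ^ e) := by
      rw [sub_pow_char_pow, one_pow, ← pow_mul, mul_comm]
    rw [this]
    exact (splits_X_pow_sub_one K k hk).pow _
  have hPne : (X ^ (p ^ e * k) - 1 : K[X]) ≠ 0 := by
    apply X_pow_sub_C_ne_zero (R := K) _ 1
    have hp := (Fact.out : p.Prime).pos
    have hkpos : 0 < k := by
      rcases Nat.eq_zero_or_pos k with h0 | h0
      · subst h0
        rw [zero_dvd_iff] at hk
        have := Fintype.one_lt_card (α := K)
        omega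
      · exact h0
    positivity
  have hdvd : minpoly K T ∣ X ^ (p ^ e * k) - 1 := by
    apply minpoly.dvd
    simp [hT]
  have hms : Splits (minpoly K T) := hP.of_dvd hPne hdvd
  have hint : IsIntegral K T := Algebra.IsIntegral.isIntegral T
  have hdeg : (minpoly K T).degree ≠ 0 := (minpoly.degree_pos hint).ne'
  obtain ⟨μ, hμ⟩ := hms.exists_eval_eq_zero hdeg
  have hev : Module.End.HasEigenvalue T μ := Module.End.hasEigenvalue_of_isRoot hμ
  obtain ⟨v, hv⟩ := hev.exists_hasEigenvector
  exact ⟨μ, v, hv.2, hv.apply_eq_smul⟩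


section Rep
variable {K : Type*} [Field K] {Γ : Type*} [Group Γ] {V : Type*} [AddCommGroup V] [Module K V]

def restrictHom (ρ : Γ →* (V →ₗ[K] V)) (U : Submodule K V) (h : ∀ g : Γ, ∀ u ∈ U, ρ g u ∈ U) :
    Γ →* (U →ₗ[K] U) where
  toFun g := (ρ g).restrict (h g)
  map_one' := by
    ext u
    simp
  map_mul' g g' := by
    ext u
    simp [map_mul]

theorem restrictHom_apply (ρ : Γ →* (V →ₗ[K] V)) (U : Submodule K V)
    (h : ∀ g : Γ, ∀ u ∈ U, ρ g u ∈ U) (g : Γ) (u : U) :
    ((restrictHom ρ U h g u : U) : V) = ρ g u := rfl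

def quotHom (ρ : Γ →* (V →ₗ[K] V)) (U : Submodule K V) (h : ∀ g : Γ, ∀ u ∈ U, ρ g u ∈ U) :
    Γ →* ((V ⧸ U) →ₗ[K] (V ⧸ U)) where
  toFun g := U.mapQ U (ρ g) (fun u hu => h g u hu)
  map_one' := by
    apply LinearMap.ext
    intro w
    induction w using Submodule.Quotient.induction_on with
    | _ w => simp
  map_mul' g g' := by
    apply LinearMap.ext
    intro w
    induction w using Submodule.Quotient.induction_on with
    | _ w => simp [map_mul]

theorem quotHom_apply (ρ : Γ →* (V →ₗ[K] V)) (U : Submodule K V)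
    (h : ∀ g : Γ, ∀ u ∈ U, ρ g u ∈ U) (g : Γ) (w : V) :
    quotHom ρ U h g (Submodule.Quotient.mk w) = Submodule.Quotient.mk (ρ g w) := rfl

theorem one_add_pow_of_sq_zero {R : Type*} [Ring R] (N : R) (hN : N * N = 0) (m : ℕ) :
    (1 + N) ^ m = 1 + m • N := by
  induction m with
  | zero => simp
  | succ m ih =>
    rw [pow_succ, ih, mul_add, mul_one, add_mul, one_mul, smul_mul_assoc, hN, smul_zero, add_zero,
      succ_nsmul]
    abel

theorem isP_of_restrict_quot {p : ℕ} [Fact p.Prime] [CharP K p]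
    (ρ : Γ →* (V →ₗ[K] V)) (U : Submodule K V) (h : ∀ g : Γ, ∀ u ∈ U, ρ g u ∈ U)
    (hU : ∀ g : Γ, ∃ j : ℕ, restrictHom ρ U h g ^ (p ^ j) = 1)
    (hQ : ∀ g : Γ, ∃ j : ℕ, quotHom ρ U h g ^ (p ^ j) = 1) :
    ∀ g : Γ, ∃ j : ℕ, ρ g ^ (p ^ j) = 1 := by
  intro g
  obtain ⟨j₁, hj₁⟩ := hU g
  obtain ⟨j₂, hj₂⟩ := hQ g
  have h1 : restrictHom ρ U h (g ^ (p ^ (j₁ + j₂))) = 1 := by
    rw [map_pow, pow_add, pow_mul, hj₁, one_pow]
  have h2 : quotHom ρ U h (g ^ (p ^ (j₁ + j₂))) = 1 := by
    rw [map_pow, pow_add, mul_comm, pow_mul, hj₂, one_pow]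
  refine ⟨j₁ + j₂ + 1, ?_⟩
  set t := g ^ (p ^ (j₁ + j₂)) with ht
  have hNU : ∀ w : V, ρ t w - w ∈ U := by
    intro w
    have := congrArg (fun f => f (Submodule.Quotient.mk w)) h2
    simp only [quotHom_apply, Module.End.one_apply] at this
    rw [← sub_eq_zero, ← Submodule.Quotient.mk_sub, Submodule.Quotient.mk_eq_zero] at this
    exact this
  have hUfix : ∀ u ∈ U, ρ t u = u := by
    intro u hu
    have := congrArg (fun f => ((f ⟨u, hu⟩ : U) : V)) h1
    simpa [restrictHom_apply] using this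
  have hN : (ρ t - 1) * (ρ t - 1) = 0 := by
    ext w
    simp only [Module.End.mul_apply, LinearMap.sub_apply, Module.End.one_apply, LinearMap.zero_apply]
    have := hUfix _ (hNU w)
    rw [map_sub] at this
    rw [map_sub, this, sub_self]
  have h3 : ρ t ^ p = 1 := by
    have e : ρ t = 1 + (ρ t - 1) := by abel
    rw [e, one_add_pow_of_sq_zero _ hN]
    have : (p : ℕ) • (ρ t - 1) = 0 := by
      rw [← Nat.cast_smul_eq_nsmul K, CharP.cast_eq_zero K p, zero_smul]
    rw [this, add_zero]
  rw [pow_succ, pow_mul, ← map_pow, ← ht, h3]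


theorem quad_restrict (ρ : Γ →* (V →ₗ[K] V)) (U : Submodule K V)
    (h : ∀ g : Γ, ∀ u ∈ U, ρ g u ∈ U) (x : Γ) (hx : ∀ w, ρ x (ρ x w - w) = ρ x w - w) :
    ∀ u : U, restrictHom ρ U h x (restrictHom ρ U h x u - u) = restrictHom ρ U h x u - u := by
  intro u
  apply Subtype.ext
  rw [restrictHom_apply]
  push_cast
  rw [restrictHom_apply]
  exact hx u

theorem quad_quot (ρ : Γ →* (V →ₗ[K] V)) (U : Submodule K V)
    (h : ∀ g : Γ, ∀ u ∈ U, ρ g u ∈ U) (x : Γ) (hx : ∀ w, ρ x (ρ x w - w) = ρ x w - w) :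
    ∀ w : V ⧸ U, quotHom ρ U h x (quotHom ρ U h x w - w) = quotHom ρ U h x w - w := by
  intro w
  induction w using Submodule.Quotient.induction_on with
  | _ w =>
    rw [quotHom_apply, ← Submodule.Quotient.mk_sub, quotHom_apply, hx]

theorem invariant_span (ρ : Γ →* (V →ₗ[K] V)) (x y : Γ)
    (hgen : Subgroup.closure {x, y} = (⊤ : Subgroup Γ))
    (hx : ∀ w, ρ x (ρ x w - w) = ρ x w - w) (hy : ∀ w, ρ y (ρ y w - w) = ρ y w - w)
    (μ : K) (v : V) (hv : v ≠ 0) (hμ : ρ (x * y) v = μ • v) :
    ∀ g : Γ, ∀ u ∈ Submodule.span K ({v, ρ y v} : Set V),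
      ρ g u ∈ Submodule.span K ({v, ρ y v} : Set V) := by
  have hinvx : ∀ w, ρ x (ρ x⁻¹ w) = w := by
    intro w
    rw [← Module.End.mul_apply, ← map_mul, mul_inv_cancel, map_one, Module.End.one_apply]
  have hinvx' : ∀ w, ρ x⁻¹ (ρ x w) = w := by
    intro w
    rw [← Module.End.mul_apply, ← map_mul, inv_mul_cancel, map_one, Module.End.one_apply]
  have hinvy : ∀ w, ρ y (ρ y⁻¹ w) = w := by
    intro w
    rw [← Module.End.mul_apply, ← map_mul, mul_inv_cancel, map_one, Module.End.one_apply]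
  have hx2 : ∀ w, ρ x (ρ x w) = ρ x w + ρ x w - w := by
    intro w
    have := hx w
    rw [map_sub] at this
    rw [sub_eq_iff_eq_add] at this
    rw [this]
    abel
  have hy2 : ∀ w, ρ y (ρ y w) = ρ y w + ρ y w - w := by
    intro w
    have := hy w
    rw [map_sub] at this
    rw [sub_eq_iff_eq_add] at this
    rw [this]
    abel
  have hxi : ∀ z, ρ x⁻¹ z = z + z - ρ x z := by
    intro z
    have := hx2 (ρ x⁻¹ z)
    rw [hinvx] at this
    rw [this]
    abel
  have hyi : ∀ z, ρ y⁻¹ z = z + z - ρ y z := by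
    intro z
    have := hy2 (ρ y⁻¹ z)
    rw [hinvy] at this
    rw [this]
    abel
  have hAB : ρ x (ρ y v) = μ • v := by
    rw [← Module.End.mul_apply, ← map_mul]
    exact hμ
  have hμ0 : μ ≠ 0 := by
    intro h0
    rw [h0, zero_smul] at hAB
    have h1 : ρ y v = 0 := by
      have := hinvx' (ρ y v)
      rw [hAB, map_zero] at this
      exact this.symm
    have h2 : v = 0 := by
      have : ρ y⁻¹ (ρ y v) = v := by
        rw [← Module.End.mul_apply, ← map_mul, inv_mul_cancel, map_one, Module.End.one_apply]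
      rw [h1, map_zero] at this
      exact this.symm
    exact hv h2
  set U := Submodule.span K ({v, ρ y v} : Set V) with hU
  have hvU : v ∈ U := Submodule.subset_span (by simp)
  have hBvU : ρ y v ∈ U := Submodule.subset_span (by simp)
  have hxiv : ρ x⁻¹ v = μ⁻¹ • ρ y v := by
    have h1 : ρ x⁻¹ (μ • v) = ρ y v := by
      rw [← hAB, hinvx']
    rw [map_smul] at h1
    rw [← h1, smul_smul, inv_mul_cancel₀ hμ0, one_smul]
  have hAv : ρ x v ∈ U := by
    have h1 : ρ x v = v + v - ρ x⁻¹ v := by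
      rw [hxi v]
      abel
    rw [h1, hxiv]
    exact U.sub_mem (U.add_mem hvU hvU) (U.smul_mem _ hBvU)
  have hxU : ∀ u ∈ U, ρ x u ∈ U := by
    have : U ≤ U.comap (ρ x) := by
      rw [hU]
      apply Submodule.span_le.mpr
      intro z hz
      rcases hz with rfl | hz
      · exact hAv
      · rw [Set.mem_singleton_iff] at hz
        subst hz
        show ρ x (ρ y v) ∈ U
        rw [hAB]
        exact U.smul_mem _ hvU
    exact fun u hu => this hu
  have hyU : ∀ u ∈ U, ρ y u ∈ U := by
    have : U ≤ U.comap (ρ y) := by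
      rw [hU]
      apply Submodule.span_le.mpr
      intro z hz
      rcases hz with rfl | hz
      · exact hBvU
      · rw [Set.mem_singleton_iff] at hz
        subst hz
        show ρ y (ρ y v) ∈ U
        rw [hy2]
        exact U.sub_mem (U.add_mem hBvU hBvU) hvU
    exact fun u hu => this hu
  intro g
  have hg : g ∈ Subgroup.closure ({x, y} : Set Γ) := by rw [hgen]; exact Subgroup.mem_top g
  induction hg using Subgroup.closure_induction'' with
  | mem z hz =>
    rcases hz with rfl | hz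
    · exact hxU
    · rw [Set.mem_singleton_iff] at hz
      subst hz
      exact hyU
  | inv_mem z hz =>
    rcases hz with rfl | hz
    · intro u hu
      rw [hxi]
      exact U.sub_mem (U.add_mem hu hu) (hxU u hu)
    · rw [Set.mem_singleton_iff] at hz
      subst hz
      intro u hu
      rw [hyi]
      exact U.sub_mem (U.add_mem hu hu) (hyU u hu)
  | one =>
    intro u hu
    rw [map_one, Module.End.one_apply]
    exact hu
  | mul a b _ _ iha ihb =>
    intro u hu
    rw [map_mul, Module.End.mul_apply]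
    exact iha _ (ihb u hu)

end Rep


section Direct
variable {K : Type*} [Field K] {Γ : Type*} [Group Γ] {V : Type*} [AddCommGroup V] [Module K V]

theorem det_one_add_of_sq_zero (N : Matrix (Fin 2) (Fin 2) K) (h : N * N = 0) :
    (1 + N).det = 1 := by
  have h00 := congrFun (congrFun h 0) 0
  have h01 := congrFun (congrFun h 0) 1
  have h10 := congrFun (congrFun h 1) 0
  have h11 := congrFun (congrFun h 1) 1
  simp only [Matrix.mul_apply, Fin.sum_univ_two, Matrix.zero_apply] at h00 h01 h10 h11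
  have htr : N 0 0 + N 1 1 = 0 := by
    by_contra hne
    have hb : N 0 1 = 0 := by
      have : N 0 1 * (N 0 0 + N 1 1) = 0 := by linear_combination h01
      rcases mul_eq_zero.mp this with h1 | h1
      · exact h1
      · exact absurd h1 hne
    have hc : N 1 0 = 0 := by
      have : N 1 0 * (N 0 0 + N 1 1) = 0 := by linear_combination h10
      rcases mul_eq_zero.mp this with h1 | h1
      · exact h1
      · exact absurd h1 hne
    have ha : N 0 0 = 0 := by
      have : N 0 0 * N 0 0 = 0 := by rw [hb] at h00; linear_combination h00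
      exact mul_self_eq_zero.mp this
    have hd : N 1 1 = 0 := by
      have : N 1 1 * N 1 1 = 0 := by rw [hb] at h11; linear_combination h11
      exact mul_self_eq_zero.mp this
    apply hne
    rw [ha, hd, add_zero]
  rw [Matrix.det_fin_two]
  simp only [Matrix.add_apply, Matrix.one_apply_eq, Matrix.one_apply_ne, ne_eq, Fin.reduceEq,
    not_false_eq_true, zero_add]
  have hd : N 1 1 = - N 0 0 := by linear_combination htr
  rw [hd]
  linear_combination -h00

theorem exists_hom_of_finrank_two {p : ℕ} [FiniteDimensional K V]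
    (h2 : Module.finrank K V = 2) (ρ : Γ →* (V →ₗ[K] V)) (x y : Γ)
    (hgen : Subgroup.closure {x, y} = (⊤ : Subgroup Γ))
    (hx : ∀ w, ρ x (ρ x w - w) = ρ x w - w) (hy : ∀ w, ρ y (ρ y w - w) = ρ y w - w)
    (hnp : ¬ ∀ g : Γ, ∃ j : ℕ, ρ g ^ (p ^ j) = 1) :
    ∃ φ : Γ →* Matrix.SpecialLinearGroup (Fin 2) K, ¬ IsPGroup p φ.range := by
  classical
  let b : Module.Basis (Fin 2) K V := Module.finBasisOfFinrankEq K V h2
  let M : Γ →* Matrix (Fin 2) (Fin 2) K :=
    ((LinearMap.toMatrixAlgEquiv b : (V →ₗ[K] V) ≃ₐ[K] Matrix (Fin 2) (Fin 2) K) :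
      (V →ₗ[K] V) →* Matrix (Fin 2) (Fin 2) K).comp ρ
  have hMapp : ∀ g, M g = LinearMap.toMatrixAlgEquiv b (ρ g) := fun g => rfl
  have hquad : ∀ z : Γ, (∀ w, ρ z (ρ z w - w) = ρ z w - w) → (M z).det = 1 := by
    intro z hz
    have hN : (ρ z - 1) * (ρ z - 1) = 0 := by
      ext w
      simp only [Module.End.mul_apply, LinearMap.sub_apply, Module.End.one_apply,
        LinearMap.zero_apply]
      rw [hz w, sub_self]
    have hN' : (M z - 1) * (M z - 1) = 0 := by
      have := congrArg (LinearMap.toMatrixAlgEquiv b) hN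
      rw [map_mul, map_sub, map_one, map_zero] at this
      exact this
    have := det_one_add_of_sq_zero _ hN'
    rwa [add_sub_cancel] at this
  have hdet : ∀ g : Γ, (M g).det = 1 := by
    have hd : (Matrix.detMonoidHom.comp M : Γ →* K) = 1 := by
      apply MonoidHom.eq_of_eqOn_dense hgen
      intro z hz
      rcases hz with rfl | hz
      · exact hquad _ hx
      · rw [Set.mem_singleton_iff] at hz
        subst hz
        exact hquad _ hy
    intro g
    have := congrArg (fun f : Γ →* K => f g) hd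
    exact this
  let φ : Γ →* Matrix.SpecialLinearGroup (Fin 2) K :=
    { toFun := fun g => ⟨M g, hdet g⟩
      map_one' := Subtype.ext (map_one M)
      map_mul' := fun g h => Subtype.ext (map_mul M g h) }
  refine ⟨φ, fun hP => hnp fun g => ?_⟩
  obtain ⟨j, hj⟩ := hP ⟨φ g, MonoidHom.mem_range.mpr ⟨g, rfl⟩⟩
  refine ⟨j, ?_⟩
  have h1 : φ g ^ (p ^ j) = 1 := by
    have := congrArg Subtype.val hj
    exact this
  have h2 : M g ^ (p ^ j) = 1 := by
    have := congrArg Subtype.val h1
    rw [Matrix.SpecialLinearGroup.coe_pow] at this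
    exact this
  rw [hMapp, ← map_pow] at h2
  have h3 : LinearMap.toMatrixAlgEquiv b (ρ g ^ (p ^ j)) = LinearMap.toMatrixAlgEquiv b 1 := by
    rw [h2, map_one]
  exact (LinearMap.toMatrixAlgEquiv b).injective h3

theorem trivial_of_finrank_le_one {p : ℕ} [FiniteDimensional K V]
    (h1 : Module.finrank K V ≤ 1) (ρ : Γ →* (V →ₗ[K] V)) (x y : Γ)
    (hgen : Subgroup.closure {x, y} = (⊤ : Subgroup Γ))
    (hx : ∀ w, ρ x (ρ x w - w) = ρ x w - w) (hy : ∀ w, ρ y (ρ y w - w) = ρ y w - w) :
    ∀ g : Γ, ∃ j : ℕ, ρ g ^ (p ^ j) = 1 := by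
  have key : ∀ A : V →ₗ[K] V, (∀ w, A (A w - w) = A w - w) → A = 1 := by
    intro A hA
    rcases Nat.lt_or_ge (Module.finrank K V) 1 with h0 | h0
    · have h0' : Module.finrank K V = 0 := by omega
      have : Subsingleton V := Module.finrank_zero_iff.mp h0'
      ext w
      exact Subsingleton.elim _ _
    · have h1' : Module.finrank K V = 1 := le_antisymm h1 h0
      obtain ⟨v, hv0, hv⟩ := finrank_eq_one_iff'.mp h1'
      have hNN : ∀ w, A (A w - w) - (A w - w) = 0 := fun w => by rw [hA w, sub_self]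
      obtain ⟨c, hc⟩ := hv (A v - v)
      have hc2 : (c * c) • v = 0 := by
        have h3 := hNN v
        rw [← hc, map_smul] at h3
        have h4 : A v = c • v + v := by rw [hc]; abel
        rw [h4, smul_add, smul_smul] at h3
        have : (c * c) • v + c • v - c • v = 0 := h3
        rwa [add_sub_cancel_right] at this
      have hc0 : c = 0 := by
        rcases smul_eq_zero.mp hc2 with h5 | h5
        · exact mul_self_eq_zero.mp h5
        · exact absurd h5 hv0
      have hAv : A v = v := by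
        rw [hc0, zero_smul] at hc
        exact (sub_eq_zero.mp hc.symm)
      ext w
      obtain ⟨d, rfl⟩ := hv w
      rw [map_smul, hAv, Module.End.one_apply]
  have hρx : ρ x = 1 := key _ hx
  have hρy : ρ y = 1 := key _ hy
  have hall : ρ = 1 := by
    apply MonoidHom.eq_of_eqOn_dense hgen
    intro z hz
    rcases hz with rfl | hz
    · exact hρx
    · rw [Set.mem_singleton_iff] at hz
      subst hz
      exact hρy
  intro g
  refine ⟨0, ?_⟩
  rw [hall]
  simp

end Direct


section Main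
universe u v
variable {K : Type*} [Field K] [Fintype K] {p : ℕ} [Fact p.Prime] [CharP K p] {Γ : Type v} [Group Γ]

theorem main_aux (x y : Γ) (hgen : Subgroup.closure {x, y} = (⊤ : Subgroup Γ)) (e k : ℕ)
    (hk : k ∣ Fintype.card K - 1) (hxy : (x * y) ^ (p ^ e * k) = 1) :
    ∀ (n : ℕ) (V : Type u) [AddCommGroup V] [Module K V] [FiniteDimensional K V]
      (ρ : Γ →* (V →ₗ[K] V)), Module.finrank K V = n →
      (∀ w, ρ x (ρ x w - w) = ρ x w - w) → (∀ w, ρ y (ρ y w - w) = ρ y w - w) →
      (¬ ∀ g : Γ, ∃ j : ℕ, ρ g ^ (p ^ j) = 1) →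
      ∃ φ : Γ →* Matrix.SpecialLinearGroup (Fin 2) K, ¬ IsPGroup p φ.range := by
  intro n
  induction n using Nat.strong_induction_on with
  | _ n ih =>
    intro V _ _ _ ρ hn hx hy hnp
    rcases Nat.lt_or_ge n 2 with h2 | h2
    · exact absurd (trivial_of_finrank_le_one (p := p) (by omega) ρ x y hgen hx hy) hnp
    rcases Nat.eq_or_lt_of_le h2 with h2' | h3
    · exact exists_hom_of_finrank_two (by omega) ρ x y hgen hx hy hnp
    · haveI : Nontrivial V := Module.nontrivial_of_finrank_pos (R := K) (by omega)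
      have hT : ρ (x * y) ^ (p ^ e * k) = 1 := by rw [← map_pow, hxy, map_one]
      obtain ⟨μ, v, hv0, hv⟩ := exists_eigenvector (ρ (x * y)) e k hk hT
      have hinv := invariant_span ρ x y hgen hx hy μ v hv0 hv
      have hUle : Module.finrank K (Submodule.span K ({v, ρ y v} : Set V)) ≤ 2 := by
        classical
        have h1 := finrank_span_finset_le_card (R := K) ({v, ρ y v} : Finset V)
        have h2 : (({v, ρ y v} : Finset V) : Set V) = {v, ρ y v} := by simp
        rw [h2] at h1
        exact h1.trans Finset.card_le_two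
      have hUpos : 0 < Module.finrank K (Submodule.span K ({v, ρ y v} : Set V)) := by
        rw [Module.finrank_pos_iff_exists_ne_zero]
        refine ⟨⟨v, Submodule.subset_span (by simp)⟩, ?_⟩
        intro h0
        exact hv0 (congrArg Subtype.val h0)
      have hsum := Submodule.finrank_quotient_add_finrank (Submodule.span K ({v, ρ y v} : Set V))
      by_cases hUp : ∀ g : Γ, ∃ j : ℕ,
          restrictHom ρ (Submodule.span K ({v, ρ y v} : Set V)) hinv g ^ (p ^ j) = 1
      · have hQp : ¬ ∀ g : Γ, ∃ j : ℕ,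
            quotHom ρ (Submodule.span K ({v, ρ y v} : Set V)) hinv g ^ (p ^ j) = 1 :=
          fun hQ => hnp (isP_of_restrict_quot ρ _ hinv hUp hQ)
        exact ih (Module.finrank K (V ⧸ Submodule.span K ({v, ρ y v} : Set V))) (by omega)
          (V ⧸ Submodule.span K ({v, ρ y v} : Set V)) (quotHom ρ _ hinv) rfl
          (quad_quot ρ _ hinv x hx) (quad_quot ρ _ hinv y hy) hQp
      · exact ih (Module.finrank K (Submodule.span K ({v, ρ y v} : Set V))) (by omega)
          (Submodule.span K ({v, ρ y v} : Set V)) (restrictHom ρ _ hinv) rfl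
          (quad_restrict ρ _ hinv x hx) (quad_restrict ρ _ hinv y hy) hUp

end Main

theorem result {K : Type*} [Field K] [Fintype K] {p : ℕ} [Fact p.Prime] [CharP K p] {W : Type*} [AddCommGroup W] [Module K W] [FiniteDimensional K W] [Finite W] [Nontrivial W] (H : Subgroup (W ≃ₗ[K] W)) (a b : W ≃ₗ[K] W) (hH : H = Subgroup.closure {a, b}) (ha : ∀ w : W, a (a w - w) = a w - w) (hb : ∀ w : W, b (b w - w) = b w - w) (hnp : ¬ IsPGroup p H) (hk : ∃ e k : ℕ, orderOf (a * b) = p ^ e * k ∧ k ∣ Fintype.card K - 1) : ∃ φ : H →* Matrix.SpecialLinearGroup (Fin 2) K, ¬ IsPGroup p φ.range := by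
  obtain ⟨e, k, hord, hkd⟩ := hk
  have haH : a ∈ H := by rw [hH]; exact Subgroup.subset_closure (by simp)
  have hbH : b ∈ H := by rw [hH]; exact Subgroup.subset_closure (by simp)
  have hgen : Subgroup.closure ({⟨a, haH⟩, ⟨b, hbH⟩} : Set H) = ⊤ := by
    apply Subgroup.map_injective H.subtype_injective
    rw [MonoidHom.map_closure, ← MonoidHom.range_eq_map, Subgroup.range_subtype, Set.image_pair]
    exact hH.symm
  have hxy : ((⟨a, haH⟩ : H) * ⟨b, hbH⟩) ^ (p ^ e * k) = 1 := by
    apply Subtype.ext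
    rw [Subgroup.coe_pow, Subgroup.coe_mul, ← hord]
    exact pow_orderOf_eq_one _
  let ρ : H →* (W →ₗ[K] W) :=
    (LinearEquiv.automorphismGroup.toLinearMapMonoidHom : (W ≃ₗ[K] W) →* (W →ₗ[K] W)).comp H.subtype
  have hρ : ∀ (g : H) (w : W), ρ g w = (g : W ≃ₗ[K] W) w := fun g w => rfl
  apply main_aux (⟨a, haH⟩ : H) ⟨b, hbH⟩ hgen e k hkd hxy (Module.finrank K W) W ρ rfl
  · intro w
    exact ha w
  · intro w
    exact hb w
  · intro hall
    apply hnp
    intro g
    obtain ⟨j, hj⟩ := hall g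
    refine ⟨j, ?_⟩
    apply Subtype.ext
    apply LinearEquiv.ext
    intro w
    have h1 : ρ (g ^ (p ^ j)) = 1 := by rw [map_pow]; exact hj
    have h2 := congrArg (fun f : W →ₗ[K] W => f w) h1
    exact h2

end Cfsg.Agent.S0592
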