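import Mathlib
import Cfsg.Statements.S0623
set_option autoImplicit false
open Cfsg
open scoped commutatorElement

namespace Cfsg.Agent.S0623

theorem quad_iff {G : Type*} [Group G] (V : Subgroup G) (a : G) :
    ⁅⁅V, Subgroup.zpowers a⁆, Subgroup.zpowers a⁆ = ⊥ ↔
      ∀ v ∈ V, ∀ i : ℤ, Commute ⁅v, a ^ i⁆ a := by
  rw [Subgroup.commutator_eq_bot_iff_le_centralizer, Subgroup.commutator_le]
  constructor
  · intro h v hv i
    have h1 := h v hv (a ^ i) (Subgroup.zpow_mem_zpowers a i)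
    rw [Subgroup.mem_centralizer_iff] at h1
    exact (h1 a (Subgroup.mem_zpowers a)).symm
  · intro h v hv t ht
    obtain ⟨i, rfl⟩ := Subgroup.mem_zpowers_iff.mp ht
    rw [Subgroup.mem_centralizer_iff]
    intro s hs
    obtain ⟨j, rfl⟩ := Subgroup.mem_zpowers_iff.mp hs
    exact ((h v hv i).zpow_right j).symm

theorem quad_map {G H : Type*} [Group G] [Group H] (τ : G →* H) (V : Subgroup G) (a : G)
    (h : ⁅⁅V, Subgroup.zpowers a⁆, Subgroup.zpowers a⁆ = ⊥) :
    ⁅⁅V.map τ, Subgroup.zpowers (τ a)⁆, Subgroup.zpowers (τ a)⁆ = ⊥ := by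
  have h1 : Subgroup.zpowers (τ a) = (Subgroup.zpowers a).map τ := (MonoidHom.map_zpowers τ a).symm
  rw [h1, ← Subgroup.map_commutator, ← Subgroup.map_commutator, h, Subgroup.map_bot]

theorem quad_comap {G H : Type*} [Group G] [Group H] (τ : G →* H) (hτ : Function.Injective τ)
    (V : Subgroup G) (a : G)
    (h : ⁅⁅V.map τ, Subgroup.zpowers (τ a)⁆, Subgroup.zpowers (τ a)⁆ = ⊥) :
    ⁅⁅V, Subgroup.zpowers a⁆, Subgroup.zpowers a⁆ = ⊥ := by
  have h1 : Subgroup.zpowers (τ a) = (Subgroup.zpowers a).map τ := (MonoidHom.map_zpowers τ a).symm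
  rw [h1, ← Subgroup.map_commutator, ← Subgroup.map_commutator] at h
  exact (Subgroup.map_eq_bot_iff_of_injective _ hτ).mp h


theorem conj_mem_of_normal {H : Type*} [Group H] (V : Subgroup H) [hV : V.Normal] (h : H) :
    V.map (MulAut.conj h).toMonoidHom = V := by
  ext x
  constructor
  · rintro ⟨v, hv, rfl⟩
    simpa using hV.conj_mem v hv h
  · intro hx
    refine ⟨h⁻¹ * x * h, ?_, ?_⟩
    · simpa using hV.conj_mem x hx h⁻¹
    · simp [mul_assoc]

theorem quad_conj {H : Type*} [Group H] (V : Subgroup H) [V.Normal] (a h : H)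
    (hq : ⁅⁅V, Subgroup.zpowers a⁆, Subgroup.zpowers a⁆ = ⊥) :
    ⁅⁅V, Subgroup.zpowers (h * a * h⁻¹)⁆, Subgroup.zpowers (h * a * h⁻¹)⁆ = ⊥ := by
  have := quad_map (MulAut.conj h).toMonoidHom V a hq
  rw [conj_mem_of_normal] at this
  simpa using this

theorem centralizer_normal' {H : Type*} [Group H] (V : Subgroup H) [hV : V.Normal] :
    (Subgroup.centralizer (V : Set H)).Normal := by
  refine ⟨fun c hc g => ?_⟩
  rw [Subgroup.mem_centralizer_iff] at hc ⊢
  intro v hv
  have h1 : g⁻¹ * v * g ∈ V := by simpa using hV.conj_mem v hv g⁻¹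
  have h2 := hc _ h1
  calc v * (g * c * g⁻¹) = g * ((g⁻¹ * v * g) * c) * g⁻¹ := by group
    _ = g * (c * (g⁻¹ * v * g)) * g⁻¹ := by rw [h2]
    _ = g * c * g⁻¹ * v := by group

theorem zpow_mul_mem {H : Type*} [Group H] (C : Subgroup H) [C.Normal] (s c : H) (hc : c ∈ C)
    (i : ℤ) : (s ^ i)⁻¹ * (s * c) ^ i ∈ C := by
  rw [← QuotientGroup.eq]
  rw [QuotientGroup.mk_zpow, QuotientGroup.mk_zpow, QuotientGroup.mk_mul]
  have : (QuotientGroup.mk c : H ⧸ C) = 1 := (QuotientGroup.eq_one_iff c).mpr hc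
  rw [this, mul_one]

theorem quad_of_mul {H : Type*} [Group H] (V : Subgroup H) [hV : V.Normal] (s c : H)
    (hc : c ∈ Subgroup.centralizer (V : Set H))
    (h : ⁅⁅V, Subgroup.zpowers (s * c)⁆, Subgroup.zpowers (s * c)⁆ = ⊥) :
    ⁅⁅V, Subgroup.zpowers s⁆, Subgroup.zpowers s⁆ = ⊥ := by
  rw [quad_iff] at h ⊢
  intro v hv i
  have := centralizer_normal' V
  have h1 := zpow_mul_mem (Subgroup.centralizer (V : Set H)) s c hc i
  set d := (s ^ i)⁻¹ * (s * c) ^ i with hd
  have h2 : (s * c) ^ i = s ^ i * d := by rw [hd]; group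
  have h3 : d * v⁻¹ = v⁻¹ * d := by
    rw [Subgroup.mem_centralizer_iff] at h1
    exact (h1 v⁻¹ (V.inv_mem hv)).symm
  have h4 : ⁅v, (s * c) ^ i⁆ = ⁅v, s ^ i⁆ := by
    rw [h2, commutatorElement_def, commutatorElement_def]
    calc v * (s ^ i * d) * v⁻¹ * (s ^ i * d)⁻¹ = v * s ^ i * (d * v⁻¹) * d⁻¹ * (s ^ i)⁻¹ := by group
      _ = v * s ^ i * (v⁻¹ * d) * d⁻¹ * (s ^ i)⁻¹ := by rw [h3]
      _ = v * s ^ i * v⁻¹ * (s ^ i)⁻¹ := by group
  have h5 := h v hv i
  rw [h4] at h5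
  have h6 : ⁅v, s ^ i⁆ ∈ V := by
    rw [commutatorElement_def]
    have : s ^ i * v⁻¹ * (s ^ i)⁻¹ ∈ V := hV.conj_mem _ (V.inv_mem hv) _
    have h7 := V.mul_mem hv this
    convert h7 using 1
    group
  have h7 : Commute ⁅v, s ^ i⁆ c := by
    rw [Subgroup.mem_centralizer_iff] at hc
    exact hc _ h6
  have h8 : Commute ⁅v, s ^ i⁆ (s * c * c⁻¹) := h5.mul_right h7.inv_right
  simpa using h8

theorem pCore_le_sylow' {K : Type*} [Group K] [Finite K] {p : ℕ} [Fact p.Prime] (Q : Sylow p K) :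
    pCore p K ≤ Q := by
  unfold pCore
  apply sSup_le
  rintro N ⟨hN, hNp⟩
  obtain ⟨Q', hQ'⟩ := hNp.exists_le_sylow
  obtain ⟨g, rfl⟩ := MulAction.exists_smul_eq K Q' Q
  intro x hx
  rw [Sylow.coe_subgroup_smul, Subgroup.mem_pointwise_smul_iff_inv_smul_mem]
  apply hQ'
  have := hN.conj_mem x hx g⁻¹
  simpa [MulAut.smul_def] using this

theorem exists_mul_of_mem_pCore {H : Type*} [Group H] [Finite H] {p : ℕ} [Fact p.Prime]
    (P : Sylow p H) (C : Subgroup H) [C.Normal] (g : H)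
    (hg : (QuotientGroup.mk g : H ⧸ C) ∈ pCore p (H ⧸ C)) :
    ∃ s ∈ (P : Subgroup H), ∃ c ∈ C, g = s * c := by
  have hsurj : Function.Surjective (QuotientGroup.mk' C) := QuotientGroup.mk'_surjective C
  have h1 := pCore_le_sylow' (P.mapSurjective hsurj) hg
  rw [Sylow.coe_mapSurjective] at h1
  obtain ⟨s, hs, hsg⟩ := h1
  refine ⟨s, hs, s⁻¹ * g, ?_, by group⟩
  rw [← QuotientGroup.eq]
  exact hsg


theorem omega_center_le_of_max {S : Type*} [Group S] [Finite S] {p : ℕ}
    (A : Subgroup S) (hA : A ∈ maxElementaryAbelianSubgroups p S) :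
    omegaOne p (Subgroup.center S) ≤ A := by
  unfold omegaOne
  rw [Subgroup.closure_le]
  rintro x ⟨hxc, hxp⟩
  obtain ⟨⟨hAc, hAp⟩, hmax⟩ := hA
  have hx1 : Subgroup.zpowers x ≤ Subgroup.centralizer ((A ⊔ Subgroup.zpowers x : Subgroup S) : Set S) := by
    rw [Subgroup.zpowers_le]
    exact Subgroup.center_le_centralizer _ hxc
  have hx2 : Subgroup.zpowers x ≤ Subgroup.centralizer (A : Set S) := by
    rw [Subgroup.zpowers_le]
    exact Subgroup.center_le_centralizer _ hxc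
  have hA1 : A ≤ Subgroup.centralizer (A : Set S) := Subgroup.le_centralizer_iff_isMulCommutative.mpr hAc
  have hA2 : A ≤ Subgroup.centralizer ((A ⊔ Subgroup.zpowers x : Subgroup S) : Set S) :=
    Subgroup.le_centralizer_iff.mp (sup_le hA1 hx2)
  have hBc : IsMulCommutative (A ⊔ Subgroup.zpowers x : Subgroup S) :=
    Subgroup.le_centralizer_iff_isMulCommutative.mp (sup_le hA2 hx1)
  have hBeq : (A ⊔ Subgroup.zpowers x : Subgroup S) = Subgroup.closure ((A : Set S) ∪ {x}) := by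
    rw [Subgroup.closure_union, Subgroup.closure_eq, Subgroup.zpowers_eq_closure]
  have hBp : ∀ b ∈ (A ⊔ Subgroup.zpowers x : Subgroup S), b ^ p = 1 := by
    intro b hb
    have hb' := hb
    rw [hBeq] at hb'
    induction hb' using Subgroup.closure_induction with
    | mem y hy =>
      rcases hy with hy | hy
      · exact hAp y hy
      · rw [Set.mem_singleton_iff] at hy; rw [hy]; exact hxp
    | one => exact one_pow p
    | mul y z hy hz ihy ihz =>
      rw [← hBeq] at hy hz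
      have hc : Commute y z := by
        have := hBc.is_comm.comm ⟨y, hy⟩ ⟨z, hz⟩
        exact congrArg Subtype.val this
      rw [hc.mul_pow, ihy hy, ihz hz, one_mul]
    | inv y hy ihy =>
      rw [← hBeq] at hy
      rw [inv_pow, ihy hy, inv_one]
  have hcard := hmax _ ⟨hBc, hBp⟩
  have hle : A ≤ A ⊔ Subgroup.zpowers x := le_sup_left
  have heq : A = A ⊔ Subgroup.zpowers x := Subgroup.eq_of_le_of_card_ge hle hcard
  rw [heq]
  exact (le_sup_right : Subgroup.zpowers x ≤ _) (Subgroup.mem_zpowers x)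

theorem exists_max_elem {S : Type*} [Group S] [Finite S] (p : ℕ) :
    ∃ A : Subgroup S, A ∈ maxElementaryAbelianSubgroups p S := by
  have hfin : ({B : Subgroup S | IsElementaryAbelian p B}).Finite := Set.toFinite _
  have hne : ({B : Subgroup S | IsElementaryAbelian p B}).Nonempty := by
    refine ⟨⊥, ?_, ?_⟩
    · exact Subgroup.le_centralizer_iff_isMulCommutative.mp bot_le
    · intro a ha
      rw [Subgroup.mem_bot] at ha
      rw [ha, one_pow]
  obtain ⟨A, hA, hmax⟩ := Set.exists_max_image _ (fun B : Subgroup S => Nat.card B) hfin hne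
  exact ⟨A, hA, fun B hB => hmax B hB⟩

theorem omega_center_le {S : Type*} [Group S] [Finite S] (p : ℕ) :
    omegaOne p (Subgroup.center S) ≤ omegaCenterThompson p S := by
  obtain ⟨A, hA⟩ := exists_max_elem (S := S) p
  have h1 : omegaOne p (Subgroup.center S) ≤ thompsonSubgroup p S :=
    (omega_center_le_of_max A hA).trans (le_sSup hA)
  unfold omegaCenterThompson
  conv_lhs => unfold omegaOne
  rw [Subgroup.closure_le]
  rintro x ⟨hxc, hxp⟩
  apply Subgroup.subset_closure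
  refine ⟨⟨h1 (Subgroup.subset_closure ⟨hxc, hxp⟩), ?_⟩, hxp⟩
  exact Subgroup.center_le_centralizer _ hxc


theorem closure_normal_of_conj {H : Type*} [Group H] (Y : Set H)
    (hY : ∀ y ∈ Y, ∀ h : H, h * y * h⁻¹ ∈ Y) : (Subgroup.closure Y).Normal := by
  refine ⟨fun n hn g => ?_⟩
  induction hn using Subgroup.closure_induction with
  | mem y hy => exact Subgroup.subset_closure (hY y hy g)
  | one => simp
  | mul y z _ _ ihy ihz =>
    have : g * (y * z) * g⁻¹ = (g * y * g⁻¹) * (g * z * g⁻¹) := by group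
    rw [this]
    exact Subgroup.mul_mem _ ihy ihz
  | inv y _ ihy =>
    have : g * y⁻¹ * g⁻¹ = (g * y * g⁻¹)⁻¹ := by group
    rw [this]
    exact Subgroup.inv_mem _ ihy

theorem omegaCenterThompson_map_normal {S H : Type*} [Group S] [Group H] (p : ℕ) (τ : S →* H)
    (hinj : Function.Injective τ) (hJ : ((thompsonSubgroup p S).map τ).Normal) :
    ((omegaCenterThompson p S).map τ).Normal := by
  unfold omegaCenterThompson omegaOne
  rw [MonoidHom.map_closure]
  apply closure_normal_of_conj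
  rintro _ ⟨x, ⟨⟨hxJ, hxC⟩, hxp⟩, rfl⟩ h
  have h1 : h * τ x * h⁻¹ ∈ (thompsonSubgroup p S).map τ :=
    hJ.conj_mem _ (Subgroup.mem_map_of_mem τ hxJ) h
  obtain ⟨x', hx'J, hx'⟩ := h1
  replace hxC : x ∈ Subgroup.centralizer (thompsonSubgroup p S : Set S) := hxC
  replace hxJ : x ∈ thompsonSubgroup p S := hxJ
  refine ⟨x', ⟨⟨hx'J, ?_⟩, ?_⟩, hx'⟩
  · show x' ∈ Subgroup.centralizer (thompsonSubgroup p S : Set S)
    rw [Subgroup.mem_centralizer_iff]
    intro j hj
    apply hinj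
    rw [map_mul, map_mul, hx']
    have h2 : h⁻¹ * τ j * h⁻¹⁻¹ ∈ (thompsonSubgroup p S).map τ :=
      hJ.conj_mem _ (Subgroup.mem_map_of_mem τ hj) h⁻¹
    obtain ⟨j', hj'J, hj'⟩ := h2
    have h3 : j' * x = x * j' := by
      rw [Subgroup.mem_centralizer_iff] at hxC
      exact hxC j' hj'J
    have h4 : τ j = h * τ j' * h⁻¹ := by rw [hj']; group
    rw [h4]
    calc h * τ j' * h⁻¹ * (h * τ x * h⁻¹) = h * τ (j' * x) * h⁻¹ := by rw [map_mul]; group
      _ = h * τ (x * j') * h⁻¹ := by rw [h3]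
      _ = h * τ x * h⁻¹ * (h * τ j' * h⁻¹) := by rw [map_mul]; group
  · apply hinj
    rw [map_pow, hx', map_one]
    calc (h * τ x * h⁻¹) ^ p = h * (τ x) ^ p * h⁻¹ := conj_pow
      _ = 1 := by rw [← map_pow, hxp, map_one]; group


universe u

theorem family_mem_thompson {S : Type u} [Group S] [Finite S] (p : ℕ) :
    omegaCenterThompson p S ∈ {W : Subgroup S | omegaOne p (Subgroup.center S) ≤ W ∧
      ∀ (H : Type u) [Group H] (τ : S →* H), IsStableEmbedding p τ → (W.map τ).Normal} :=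
  ⟨omega_center_le p, fun H _ τ hτ => omegaCenterThompson_map_normal p τ hτ.1 hτ.2.2.2.2.1⟩

theorem snc_le {S : Type u} [Group S] [Finite S] (p : ℕ) :
    stableNormalClosure p S ≤ omegaCenterThompson p S :=
  sInf_le (family_mem_thompson p)

theorem snc_ge {S : Type u} [Group S] (p : ℕ) :
    omegaOne p (Subgroup.center S) ≤ stableNormalClosure p S :=
  le_sInf (fun W hW => hW.1)

theorem snc_map_normal {S H : Type u} [Group S] [Finite S] [Group H] (p : ℕ) (τ : S →* H)
    (hτ : IsStableEmbedding p τ) : ((stableNormalClosure p S).map τ).Normal := by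
  have hinj := hτ.1
  have hJn := omegaCenterThompson_map_normal p τ hτ.1 hτ.2.2.2.2.1
  refine ⟨fun n hn h => ?_⟩
  obtain ⟨w, hw, rfl⟩ := hn
  obtain ⟨w', hw'J, hw'⟩ := hJn.conj_mem _ (Subgroup.mem_map_of_mem τ (snc_le p hw)) h
  refine ⟨w', (?_ : w' ∈ stableNormalClosure p S), hw'⟩
  unfold stableNormalClosure
  rw [Subgroup.mem_sInf]
  intro W' hW'
  have hn' := hW'.2 H τ hτ
  have hwW' : w ∈ W' := by
    have : stableNormalClosure p S ≤ W' := sInf_le hW'
    exact this hw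
  obtain ⟨w'', hw''W, hw''⟩ := hn'.conj_mem _ (Subgroup.mem_map_of_mem τ hwW') h
  have : w'' = w' := hinj (hw''.trans hw'.symm)
  rw [← this]
  exact hw''W

theorem omegaOne_le {G : Type*} [Group G] (p : ℕ) (K : Subgroup G) : omegaOne p K ≤ K := by
  unfold omegaOne
  rw [Subgroup.closure_le]
  intro x hx
  exact hx.1

theorem result {S : Type*} [Group S] [Finite S] {p : ℕ} [Fact p.Prime] (hS : IsPGroup p S) (x : S) (hq : ⁅⁅Cfsg.stableNormalClosure p S, Subgroup.zpowers x⁆, Subgroup.zpowers x⁆ = ⊥) : ⁅Cfsg.stableNormalClosure p S, Subgroup.zpowers x⁆ = ⊥ := by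
  set W := stableNormalClosure p S with hWdef
  set Q : Set S := {y : S | ⁅⁅W, Subgroup.zpowers y⁆, Subgroup.zpowers y⁆ = ⊥} with hQdef
  have hU : W ⊓ Subgroup.centralizer Q ∈ {W : Subgroup S | omegaOne p (Subgroup.center S) ≤ W ∧
      ∀ (H : Type _) [Group H] (τ : S →* H), IsStableEmbedding p τ → (W.map τ).Normal} := by
    refine ⟨le_inf (snc_ge p) ((omegaOne_le p _).trans (Subgroup.center_le_centralizer _)), ?_⟩
    intro H _ τ hτ
    have hinj := hτ.1
    have hfin : Finite H := hτ.2.1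
    obtain ⟨P, hP⟩ := hτ.2.2.1
    have hWn : (W.map τ).Normal := snc_map_normal p τ hτ
    have hst : IsPStableOn p (W.map τ) := hτ.2.2.2.2.2 (W.map τ) (Subgroup.map_mono (snc_le p))
    refine ⟨fun n hn h => ?_⟩
    obtain ⟨u, hu, rfl⟩ := hn
    obtain ⟨w, hw, hw'⟩ := hWn.conj_mem _ (Subgroup.mem_map_of_mem τ (Subgroup.mem_inf.mp hu).1) h
    refine ⟨w, (Subgroup.mem_inf.mpr ⟨hw, ?_⟩ : w ∈ W ⊓ Subgroup.centralizer Q), hw'⟩
    rw [Subgroup.mem_centralizer_iff]
    intro y hy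
    apply hinj
    rw [map_mul, map_mul, hw']
    have hgq : ⁅⁅W.map τ, Subgroup.zpowers (h⁻¹ * τ y * h)⁆, Subgroup.zpowers (h⁻¹ * τ y * h)⁆ = ⊥ := by
      have := quad_conj (W.map τ) (τ y) h⁻¹ (quad_map τ W y hy)
      rwa [inv_inv] at this
    have hmem := hst _ hgq
    obtain ⟨s, hs, c, hc, hg⟩ := exists_mul_of_mem_pCore P (Subgroup.centralizer ((W.map τ : Subgroup H) : Set H)) _ hmem
    rw [hP] at hs
    obtain ⟨z, rfl⟩ := hs
    have hzq : z ∈ Q := by
      apply quad_comap τ hinj W z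
      apply quad_of_mul (W.map τ) (τ z) c hc
      rw [← hg]
      exact hgq
    have hzu : z * u = u * z := by
      have : u ∈ Subgroup.centralizer Q := (Subgroup.mem_inf.mp hu).2
      rw [Subgroup.mem_centralizer_iff] at this
      exact this z hzq
    have hcu : τ u * c = c * τ u := by
      rw [Subgroup.mem_centralizer_iff] at hc
      exact hc _ (Subgroup.mem_map_of_mem τ (Subgroup.mem_inf.mp hu).1)
    have hgu : (h⁻¹ * τ y * h) * τ u = τ u * (h⁻¹ * τ y * h) := by
      rw [hg]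
      calc τ z * c * τ u = τ z * (c * τ u) := by group
        _ = τ z * (τ u * c) := by rw [hcu]
        _ = τ (z * u) * c := by rw [map_mul]; group
        _ = τ (u * z) * c := by rw [hzu]
        _ = τ u * (τ z * c) := by rw [map_mul]; group
    calc τ y * (h * τ u * h⁻¹) = h * ((h⁻¹ * τ y * h) * τ u) * h⁻¹ := by group
      _ = h * (τ u * (h⁻¹ * τ y * h)) * h⁻¹ := by rw [hgu]
      _ = h * τ u * h⁻¹ * τ y := by group
  have hWU : W ≤ W ⊓ Subgroup.centralizer Q := sInf_le hU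
  rw [Subgroup.commutator_eq_bot_iff_le_centralizer]
  intro w hw
  have h1 : w ∈ Subgroup.centralizer Q := (Subgroup.mem_inf.mp (hWU hw)).2
  rw [Subgroup.mem_centralizer_iff] at h1 ⊢
  intro t ht
  obtain ⟨i, rfl⟩ := Subgroup.mem_zpowers_iff.mp ht
  have h2 : Commute x w := h1 x hq
  exact h2.zpow_left i

end Cfsg.Agent.S0623
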