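import Mathlib
import Cfsg.Statements.S0593
import Cfsg.Agent.S0592
import Cfsg.Agent.S0275
import Cfsg.Agent.S0623

set_option autoImplicit false
open Cfsg
open scoped commutatorElement

namespace Cfsg.Agent.S0593

theorem quaternion_not_comm (n : ℕ) (hn : 2 ≤ n) : ¬ ∀ a b : QuaternionGroup n, a * b = b * a := by
  intro h
  have h1 := h (QuaternionGroup.a 1) (QuaternionGroup.xa 0)
  rw [QuaternionGroup.a_mul_xa, QuaternionGroup.xa_mul_a] at h1
  have h2 : (0 - 1 : ZMod (2 * n)) = 0 + 1 := QuaternionGroup.xa.inj h1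
  have h3 : ((2 : ℕ) : ZMod (2 * n)) = 0 := by
    have : (2 : ZMod (2 * n)) = (0 + 1) - (0 - 1) := by ring
    rw [Nat.cast_ofNat, this, h2, sub_self]
  rw [ZMod.natCast_eq_zero_iff] at h3
  have := Nat.le_of_dvd (by norm_num) h3
  omega

theorem dvd_pow_totient_sub_one (p k : ℕ) (hp : p.Prime) (hk : ¬ p ∣ k) :
    k ∣ p ^ Nat.totient k - 1 := by
  have hc : Nat.Coprime p k := (Nat.Prime.coprime_iff_not_dvd hp).2 hk
  have h1 := Nat.ModEq.pow_totient hc
  exact (Nat.modEq_iff_dvd' (Nat.one_le_pow _ _ hp.pos)).1 h1.symm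

theorem quad_iff_sq_zero {R : Type*} [Field R] {W : Type*} [AddCommGroup W] [Module R W]
    (T : Module.End R W) :
    (∀ w, T (T w - w) = T w - w) ↔ (T - 1) * (T - 1) = 0 := by
  constructor
  · intro h
    ext w
    simp only [Module.End.mul_apply, LinearMap.sub_apply, Module.End.one_apply,
      LinearMap.zero_apply]
    rw [h, sub_self]
  · intro h w
    have := congrArg (fun f : Module.End R W => f w) h
    simp only [Module.End.mul_apply, LinearMap.sub_apply, Module.End.one_apply,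
      LinearMap.zero_apply] at this
    exact sub_eq_zero.mp this

section LemA
variable {p : ℕ} [Fact p.Prime]

theorem pow_p_eq_one_of_sq_zero {R : Type*} [Ring R] (hpz : ((p : ℕ) : R) = 0) (t : R)
    (h : (t - 1) * (t - 1) = 0) : t ^ p = 1 := by
  have h1 := S0592.one_add_pow_of_sq_zero (t - 1) h p
  rw [add_sub_cancel] at h1
  rw [h1, ← Nat.cast_smul_eq_nsmul R, hpz, zero_smul, add_zero]

theorem unique_sylow_contra {X : Type*} [Group X] [Finite X] (u v : X)
    (hgen : Subgroup.closure {u, v} = (⊤ : Subgroup X)) (hu : u ^ p = 1) (hv : v ^ p = 1)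
    (hnp : ¬ IsPGroup p X) : 1 < Nat.card (Sylow p X) := by
  by_contra hcon
  have hle : Nat.card (Sylow p X) ≤ 1 := not_lt.mp hcon
  haveI : Subsingleton (Sylow p X) := (Finite.card_le_one_iff_subsingleton).mp hle
  have hzp : ∀ w : X, w ^ p = 1 → IsPGroup p (Subgroup.zpowers w) := by
    intro w hw g
    refine ⟨1, ?_⟩
    obtain ⟨g, hg⟩ := g
    obtain ⟨i, rfl⟩ := Subgroup.mem_zpowers_iff.mp hg
    apply Subtype.ext
    rw [pow_one, Subgroup.coe_pow, Subgroup.coe_one]
    show (w ^ i) ^ p = 1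
    rw [← zpow_natCast, ← zpow_mul, mul_comm, zpow_mul, zpow_natCast, hw, one_zpow]
  obtain ⟨Q₁, hQ₁⟩ := (hzp u hu).exists_le_sylow
  obtain ⟨Q₂, hQ₂⟩ := (hzp v hv).exists_le_sylow
  have hQ : Q₂ = Q₁ := Subsingleton.elim _ _
  rw [hQ] at hQ₂
  have htop : (Q₁ : Subgroup X) = ⊤ := by
    rw [eq_top_iff, ← hgen, Subgroup.closure_le]
    intro z hz
    rcases hz with rfl | hz
    · exact hQ₁ (Subgroup.mem_zpowers z)
    · rw [Set.mem_singleton_iff] at hz
      subst hz
      exact hQ₂ (Subgroup.mem_zpowers z)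
  apply hnp
  intro g
  have hg : g ∈ (Q₁ : Subgroup X) := by rw [htop]; trivial
  obtain ⟨j, hj⟩ := Q₁.isPGroup' ⟨g, hg⟩
  exact ⟨j, congrArg Subtype.val hj⟩


theorem lemA' {Γ : Type*} [Group Γ] [Finite Γ] {W : Type*} [AddCommGroup W] [Module (ZMod p) W]
    [Finite W] (hp : p ≠ 2) (K : Type) [Field K] [Fintype K] [CharP K p] [Algebra (ZMod p) K]
    (ρ₀ : Γ →* Module.End (ZMod p) W) (hinj : Function.Injective ρ₀) (x y : Γ)
    (hgen : Subgroup.closure {x, y} = (⊤ : Subgroup Γ))
    (hx : (ρ₀ x - 1) * (ρ₀ x - 1) = 0) (hy : (ρ₀ y - 1) * (ρ₀ y - 1) = 0)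
    (e k : ℕ) (hkd : k ∣ Fintype.card K - 1) (hxy : (x * y) ^ (p ^ e * k) = 1)
    (hnp : ¬ IsPGroup p Γ) (T : Sylow 2 Γ) : ¬ IsMulCommutative T := by
  classical
  have hpp : p.Prime := Fact.out
  have hpz : ((p : ℕ) : Module.End (ZMod p) W) = 0 := by
    rw [← map_natCast (algebraMap (ZMod p) (Module.End (ZMod p) W)), CharP.cast_eq_zero, map_zero]
  have hxp : x ^ p = 1 := by
    apply hinj
    rw [map_pow, map_one]
    exact pow_p_eq_one_of_sq_zero hpz _ hx
  have hyp : y ^ p = 1 := by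
    apply hinj
    rw [map_pow, map_one]
    exact pow_p_eq_one_of_sq_zero hpz _ hy
  let b := Module.finBasis (ZMod p) W
  let Ψ : Module.End (ZMod p) W →+* Module.End K (Fin (Module.finrank (ZMod p) W) → K) :=
    ((Matrix.toLinAlgEquiv' (R := K) (n := Fin (Module.finrank (ZMod p) W))).toRingEquiv.toRingHom).comp
      (((algebraMap (ZMod p) K).mapMatrix (m := Fin (Module.finrank (ZMod p) W))).comp
        ((LinearMap.toMatrixAlgEquiv b).toRingEquiv.toRingHom))
  have hΨ : Function.Injective Ψ := by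
    intro s t hst
    simp only [Ψ, RingHom.coe_comp, Function.comp_apply] at hst
    have h1 := (Matrix.toLinAlgEquiv' (R := K) (n := Fin (Module.finrank (ZMod p) W))).injective hst
    have h2 := Matrix.map_injective (algebraMap (ZMod p) K).injective h1
    exact (LinearMap.toMatrixAlgEquiv b).injective h2
  let ρ : Γ →* ((Fin (Module.finrank (ZMod p) W) → K) →ₗ[K] (Fin (Module.finrank (ZMod p) W) → K)) :=
    (Ψ : Module.End (ZMod p) W →* _).comp ρ₀
  have hρ : ∀ g, ρ g = Ψ (ρ₀ g) := fun g => rfl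
  have hρinj : Function.Injective ρ := hΨ.comp hinj
  have hqx : ∀ w, ρ x (ρ x w - w) = ρ x w - w := by
    rw [quad_iff_sq_zero, hρ, ← map_one Ψ, ← map_sub, ← map_mul, hx, map_zero]
  have hqy : ∀ w, ρ y (ρ y w - w) = ρ y w - w := by
    rw [quad_iff_sq_zero, hρ, ← map_one Ψ, ← map_sub, ← map_mul, hy, map_zero]
  have hnp' : ¬ ∀ g : Γ, ∃ j : ℕ, ρ g ^ (p ^ j) = 1 := by
    intro hall
    apply hnp
    intro g
    obtain ⟨j, hj⟩ := hall g
    refine ⟨j, ?_⟩
    apply hρinj
    rw [map_pow, map_one]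
    exact hj
  obtain ⟨φ, hφ⟩ := S0592.main_aux (K := K) (p := p) x y hgen e k hkd hxy _ _ ρ rfl hqx hqy hnp'
  have hsurj : Function.Surjective φ.rangeRestrict := φ.rangeRestrict_surjective
  have hgen' : Subgroup.closure {φ.rangeRestrict x, φ.rangeRestrict y} = (⊤ : Subgroup φ.range) := by
    have h1 := congrArg (Subgroup.map φ.rangeRestrict) hgen
    rw [MonoidHom.map_closure, Set.image_pair, ← MonoidHom.range_eq_map,
      MonoidHom.range_eq_top.mpr hsurj] at h1
    exact h1
  have hux : (φ.rangeRestrict x) ^ p = 1 := by rw [← map_pow, hxp, map_one]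
  have huy : (φ.rangeRestrict y) ^ p = 1 := by rw [← map_pow, hyp, map_one]
  have hsyl := unique_sylow_contra (p := p) _ _ hgen' hux huy hφ
  obtain ⟨m, hm, ⟨eqv⟩⟩ := S0275.result p hp φ.range hsyl (T.mapSurjective hsurj)
  intro hT
  apply quaternion_not_comm (2 ^ m) (by
    calc 2 = 2 ^ 1 := by norm_num
      _ ≤ 2 ^ m := Nat.pow_le_pow_right (by norm_num) hm)
  intro u v
  have hmem : ∀ w : ((T.mapSurjective hsurj : Sylow 2 φ.range) : Subgroup φ.range),
      ∃ t : Γ, t ∈ T ∧ φ.rangeRestrict t = w := by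
    intro w
    have hw : (w : φ.range) ∈ Subgroup.map φ.rangeRestrict (T : Subgroup Γ) :=
      (Sylow.coe_mapSurjective hsurj T).le w.2
    exact hw
  obtain ⟨s, hs, hsu⟩ := hmem (eqv.symm u)
  obtain ⟨t, ht, htv⟩ := hmem (eqv.symm v)
  have hst : s * t = t * s := by
    have := hT.is_comm.comm ⟨s, hs⟩ ⟨t, ht⟩
    exact congrArg Subtype.val this
  have h2 : eqv.symm u * eqv.symm v = eqv.symm v * eqv.symm u := by
    apply Subtype.ext
    rw [Subgroup.coe_mul, Subgroup.coe_mul, ← hsu, ← htv, ← map_mul, ← map_mul, hst]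
  have h3 := congrArg eqv h2
  rw [map_mul, map_mul, MulEquiv.apply_symm_apply, MulEquiv.apply_symm_apply] at h3
  exact h3

theorem lemA {Γ : Type*} [Group Γ] [Finite Γ] {W : Type*} [AddCommGroup W] [Module (ZMod p) W]
    [Finite W] (hp : p ≠ 2)
    (ρ₀ : Γ →* Module.End (ZMod p) W) (hinj : Function.Injective ρ₀) (x y : Γ)
    (hgen : Subgroup.closure {x, y} = (⊤ : Subgroup Γ))
    (hx : (ρ₀ x - 1) * (ρ₀ x - 1) = 0) (hy : (ρ₀ y - 1) * (ρ₀ y - 1) = 0)
    (hnp : ¬ IsPGroup p Γ) (T : Sylow 2 Γ) : ¬ IsMulCommutative T := by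
  classical
  have hpp : p.Prime := Fact.out
  have hord : orderOf (x * y) ≠ 0 := (orderOf_pos _).ne'
  obtain ⟨e, k, hk, hek⟩ := Nat.exists_eq_pow_mul_and_not_dvd hord p hpp.ne_one
  have hk0 : k ≠ 0 := by rintro rfl; exact hk (dvd_zero p)
  letI : Fintype (GaloisField p (Nat.totient k)) := Fintype.ofFinite _
  have hcard : Fintype.card (GaloisField p (Nat.totient k)) = p ^ Nat.totient k := by
    rw [← Nat.card_eq_fintype_card]
    exact GaloisField.card p _ (Nat.totient_pos.2 (Nat.pos_of_ne_zero hk0)).ne'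
  have hkd : k ∣ Fintype.card (GaloisField p (Nat.totient k)) - 1 := by
    rw [hcard]; exact dvd_pow_totient_sub_one p k hpp hk
  have hxy : (x * y) ^ (p ^ e * k) = 1 := by rw [← hek]; exact pow_orderOf_eq_one _
  exact lemA' hp (GaloisField p (Nat.totient k)) ρ₀ hinj x y hgen hx hy e k hkd hxy hnp T


theorem lemB {Γ : Type*} [Group Γ] [Finite Γ] {E : Type*} [CommGroup E] [Finite E]
    [Module (ZMod p) (Additive E)] (hp : p ≠ 2)
    (α : Γ →* MulAut E) (hα : Function.Injective α) (x y : Γ)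
    (hgen : Subgroup.closure {x, y} = (⊤ : Subgroup Γ))
    (hx : ∀ v : E, α x (α x v / v) = α x v / v) (hy : ∀ v : E, α y (α y v / v) = α y v / v)
    (hnp : ¬ IsPGroup p Γ) (T : Sylow 2 Γ) : ¬ IsMulCommutative T := by
  have key : ∀ (g : Γ) (v : Additive E),
      (AddMonoidHom.toZModLinearMap p (MonoidHom.toAdditive (α g).toMonoidHom) :
        Additive E →ₗ[ZMod p] Additive E) v =
        Additive.ofMul (α g (Additive.toMul v)) := fun g v => rfl
  let ρ₀ : Γ →* Module.End (ZMod p) (Additive E) :=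
    { toFun := fun g => (MonoidHom.toAdditive (α g).toMonoidHom).toZModLinearMap p
      map_one' := by
        apply LinearMap.ext
        intro v
        rw [key, Module.End.one_apply, map_one]
        rfl
      map_mul' := by
        intro g h
        apply LinearMap.ext
        intro v
        rw [Module.End.mul_apply, key, key, key, map_mul]
        rfl }
  have hρ₀ : ∀ g v, ρ₀ g v = Additive.ofMul (α g v.toMul) := fun g v => rfl
  have hinj : Function.Injective ρ₀ := by
    intro g h hgh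
    apply hα
    ext v
    have := congrArg (fun f : Module.End (ZMod p) (Additive E) => (f (Additive.ofMul v)).toMul) hgh
    exact this
  have hqx : (ρ₀ x - 1) * (ρ₀ x - 1) = 0 := by
    rw [← quad_iff_sq_zero]
    intro w
    show Additive.ofMul (α x (α x w.toMul / w.toMul)) = Additive.ofMul (α x w.toMul / w.toMul)
    rw [hx]
  have hqy : (ρ₀ y - 1) * (ρ₀ y - 1) = 0 := by
    rw [← quad_iff_sq_zero]
    intro w
    show Additive.ofMul (α y (α y w.toMul / w.toMul)) = Additive.ofMul (α y w.toMul / w.toMul)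
    rw [hy]
  exact lemA hp ρ₀ hinj x y hgen hqx hqy hnp T

end LemA

def conjAut {G : Type*} [Group G] (V H : Subgroup G)
    (hHV : H ≤ Subgroup.normalizer (V : Set G)) : ↥H →* MulAut ↥V where
  toFun g :=
    { toFun := fun v => ⟨(g : G) * v * (g : G)⁻¹,
        (Subgroup.mem_normalizer_iff.mp (hHV g.2) v).mp v.2⟩
      invFun := fun v => ⟨(g : G)⁻¹ * v * (g : G), by
        have h := (Subgroup.mem_normalizer_iff.mp (hHV g.2) ((g : G)⁻¹ * v * (g : G))).mpr
        apply h
        have : (g : G) * ((g : G)⁻¹ * v * (g : G)) * (g : G)⁻¹ = v := by group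
        rw [this]
        exact v.2⟩
      left_inv := by
        intro v
        apply Subtype.ext
        show (g : G)⁻¹ * ((g : G) * v * (g : G)⁻¹) * (g : G) = v
        group
      right_inv := by
        intro v
        apply Subtype.ext
        show (g : G) * ((g : G)⁻¹ * v * (g : G)) * (g : G)⁻¹ = v
        group
      map_mul' := by
        intro v w
        apply Subtype.ext
        show (g : G) * (v * w) * (g : G)⁻¹ = ((g : G) * v * (g : G)⁻¹) * ((g : G) * w * (g : G)⁻¹)
        group }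
  map_one' := by
    ext v
    show ((1 : H) : G) * v * ((1 : H) : G)⁻¹ = v
    simp
  map_mul' := by
    intro g h
    ext v
    show ((g * h : H) : G) * v * ((g * h : H) : G)⁻¹ = (g : G) * ((h : G) * v * (h : G)⁻¹) * (g : G)⁻¹
    rw [Subgroup.coe_mul]
    group

theorem conjAut_apply {G : Type*} [Group G] (V H : Subgroup G)
    (hHV : H ≤ Subgroup.normalizer (V : Set G)) (g : H) (v : V) :
    ((conjAut V H hHV g v : V) : G) = (g : G) * v * (g : G)⁻¹ := rfl

theorem result {G : Type*} [Group G] [Finite G] {p : ℕ} [Fact p.Prime] (hp : p ≠ 2) (V H : Subgroup G) (hV : Cfsg.IsElementaryAbelian p V) (hHV : H ≤ Subgroup.normalizer (V : Set G)) (hf : H ⊓ Subgroup.centralizer (V : Set G) = ⊥) (a b : G) (hab : H = Subgroup.closure {a, b}) (ha : ⁅⁅V, Subgroup.zpowers a⁆, Subgroup.zpowers a⁆ = ⊥) (hb : ⁅⁅V, Subgroup.zpowers b⁆, Subgroup.zpowers b⁆ = ⊥) (hnp : ¬ IsPGroup p H) (T : Sylow 2 H) : ¬ IsMulCommutative T := by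
  obtain ⟨hVc, hVp⟩ := hV
  letI : CommGroup ↥V := { (inferInstance : Group ↥V) with
    mul_comm := fun u v => hVc.is_comm.comm u v }
  have haH : a ∈ H := by rw [hab]; exact Subgroup.subset_closure (by simp)
  have hbH : b ∈ H := by rw [hab]; exact Subgroup.subset_closure (by simp)
  have hgen : Subgroup.closure ({⟨a, haH⟩, ⟨b, hbH⟩} : Set H) = ⊤ := by
    apply Subgroup.map_injective H.subtype_injective
    rw [MonoidHom.map_closure, ← MonoidHom.range_eq_map, Subgroup.range_subtype, Set.image_pair]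
    exact hab.symm
  have hE : ∀ v : V, v ^ p = 1 := by
    intro v
    apply Subtype.ext
    rw [Subgroup.coe_pow, Subgroup.coe_one]
    exact hVp v v.2
  have hinj : Function.Injective (conjAut V H hHV) := by
    rw [injective_iff_map_eq_one]
    intro g hg
    have hgc : (g : G) ∈ H ⊓ Subgroup.centralizer (V : Set G) := by
      refine ⟨g.2, (?_ : (g : G) ∈ Subgroup.centralizer (V : Set G))⟩
      rw [Subgroup.mem_centralizer_iff]
      intro v hv
      have h1 := congrArg (fun f : MulAut ↥V => ((f ⟨v, hv⟩ : V) : G)) hg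
      simp only [conjAut_apply, MulAut.one_apply] at h1
      calc v * (g : G) = ((g : G) * v * (g : G)⁻¹) * (g : G) := by rw [h1]
        _ = (g : G) * v := by group
    rw [hf, Subgroup.mem_bot] at hgc
    exact Subtype.ext hgc
  have hquad : ∀ (c : G) (hc : c ∈ H), ⁅⁅V, Subgroup.zpowers c⁆, Subgroup.zpowers c⁆ = ⊥ →
      ∀ v : V, conjAut V H hHV ⟨c, hc⟩ (conjAut V H hHV ⟨c, hc⟩ v / v) =
        conjAut V H hHV ⟨c, hc⟩ v / v := by
    intro c hc hq v
    rw [S0623.quad_iff] at hq
    have h1 := hq v v.2 1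
    rw [zpow_one] at h1
    apply Subtype.ext
    rw [conjAut_apply, Subgroup.coe_div, conjAut_apply]
    show c * (c * v * c⁻¹ / v) * c⁻¹ = c * v * c⁻¹ / v
    have h2 : c * (v : G) * c⁻¹ / v = ⁅(v : G), c⁆⁻¹ := by
      rw [commutatorElement_def, div_eq_mul_inv]; group
    rw [h2]
    have h3 : Commute (⁅(v : G), c⁆⁻¹) c := h1.inv_left
    rw [← h3.eq]
    group
  letI : Module (ZMod p) (Additive ↥V) := AddCommGroup.zmodModule (n := p) (by
    intro v
    show Additive.ofMul (v.toMul ^ p) = 0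
    rw [hE]; rfl)
  exact lemB hp (conjAut V H hHV) hinj ⟨a, haH⟩ ⟨b, hbH⟩ hgen (hquad a haH ha) (hquad b hbH hb)
    hnp T

end Cfsg.Agent.S0593
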