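import Mathlib
import Cfsg.Statements.S0595
import Cfsg.Agent.S0593
import Cfsg.Agent.S0199

set_option autoImplicit false
open Cfsg
open scoped commutatorElement

namespace Cfsg.Agent.S0595

theorem map_conj_eq_of_mem_normalizer {G : Type*} [Group G] (V : Subgroup G) (h : G)
    (hh : h ∈ Subgroup.normalizer (V : Set G)) : V.map (MulAut.conj h).toMonoidHom = V := by
  ext x
  constructor
  · rintro ⟨v, hv, rfl⟩
    exact (Subgroup.mem_normalizer_iff.mp hh v).mp hv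
  · intro hx
    refine ⟨h⁻¹ * x * h, ?_, ?_⟩
    · apply (Subgroup.mem_normalizer_iff.mp hh _).mpr
      have : h * (h⁻¹ * x * h) * h⁻¹ = x := by group
      rw [this]; exact hx
    · simp [mul_assoc]

theorem quad_conj_of_mem_normalizer {G : Type*} [Group G] (V : Subgroup G) (a h : G)
    (hh : h ∈ Subgroup.normalizer (V : Set G))
    (hq : ⁅⁅V, Subgroup.zpowers a⁆, Subgroup.zpowers a⁆ = ⊥) :
    ⁅⁅V, Subgroup.zpowers (h * a * h⁻¹)⁆, Subgroup.zpowers (h * a * h⁻¹)⁆ = ⊥ := by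
  have := S0623.quad_map (MulAut.conj h).toMonoidHom V a hq
  rw [map_conj_eq_of_mem_normalizer V h hh] at this
  simpa using this

theorem pow_mem_centralizer_of_quad {G : Type*} [Group G] {p : ℕ} (V : Subgroup G)
    (hVp : ∀ v ∈ V, v ^ p = 1) (a : G) (haV : a ∈ Subgroup.normalizer (V : Set G))
    (hq : ⁅⁅V, Subgroup.zpowers a⁆, Subgroup.zpowers a⁆ = ⊥) :
    a ^ p ∈ Subgroup.centralizer (V : Set G) := by
  rw [Subgroup.mem_centralizer_iff]
  intro v hv
  rw [S0623.quad_iff] at hq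
  have h1 := hq v hv 1
  rw [zpow_one] at h1
  have hcV : a * v * a⁻¹ * v⁻¹ ∈ V :=
    V.mul_mem ((Subgroup.mem_normalizer_iff.mp haV v).mp hv) (V.inv_mem hv)
  have hc : Commute (a * v * a⁻¹ * v⁻¹) a := by
    have h3 : a * v * a⁻¹ * v⁻¹ = ⁅v, a⁆⁻¹ := by rw [commutatorElement_def]; group
    rw [h3]
    exact h1.inv_left
  have hav : a * v = (a * v * a⁻¹ * v⁻¹) * v * a := by group
  have key : ∀ n : ℕ, a ^ n * v = (a * v * a⁻¹ * v⁻¹) ^ n * v * a ^ n := by
    intro n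
    induction n with
    | zero => simp
    | succ n ih =>
      calc a ^ (n + 1) * v = a * (a ^ n * v) := by rw [pow_succ', mul_assoc]
        _ = a * ((a * v * a⁻¹ * v⁻¹) ^ n * v * a ^ n) := by rw [ih]
        _ = (a * (a * v * a⁻¹ * v⁻¹) ^ n) * v * a ^ n := by simp only [mul_assoc]
        _ = ((a * v * a⁻¹ * v⁻¹) ^ n * a) * v * a ^ n := by rw [(hc.pow_left n).eq]
        _ = (a * v * a⁻¹ * v⁻¹) ^ n * (a * v) * a ^ n := by simp only [mul_assoc]
        _ = (a * v * a⁻¹ * v⁻¹) ^ n * ((a * v * a⁻¹ * v⁻¹) * v * a) * a ^ n := by rw [← hav]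
        _ = ((a * v * a⁻¹ * v⁻¹) ^ n * (a * v * a⁻¹ * v⁻¹)) * v * (a * a ^ n) := by
            simp only [mul_assoc]
        _ = (a * v * a⁻¹ * v⁻¹) ^ (n + 1) * v * a ^ (n + 1) := by rw [← pow_succ, ← pow_succ']
  rw [key p, hVp _ hcV, one_mul]

theorem commutative_of_sylow_commutative {H : Type*} [Group H] [Finite H] {p : ℕ} [Fact p.Prime]
    (T : Sylow p H) (hT : IsMulCommutative T) (R : Subgroup H) (hR : IsPGroup p R) :
    ∀ x ∈ R, ∀ y ∈ R, x * y = y * x := by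
  obtain ⟨Q, hQ⟩ := hR.exists_le_sylow
  intro x hx y hy
  have e := Sylow.equiv Q T
  have h1 : e ⟨x, hQ hx⟩ * e ⟨y, hQ hy⟩ = e ⟨y, hQ hy⟩ * e ⟨x, hQ hx⟩ := hT.is_comm.comm _ _
  rw [← map_mul, ← map_mul] at h1
  have h2 := e.injective h1
  exact congrArg Subtype.val h2


theorem exists_conj_not_pgroup {H : Type*} [Group H] [Finite H] {p : ℕ} [Fact p.Prime]
    (x : H) (hxp : x ^ p = 1) (hx : x ∉ Cfsg.pCore p H) :
    ∃ g : H, ¬ IsPGroup p (Subgroup.closure ({x, g * x * g⁻¹} : Set H)) := by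
  by_contra hcon
  push Not at hcon
  apply hx
  have hX : IsPGroup p (Subgroup.zpowers x) := by
    intro g
    refine ⟨1, ?_⟩
    obtain ⟨g, hg⟩ := g
    obtain ⟨i, rfl⟩ := Subgroup.mem_zpowers_iff.mp hg
    apply Subtype.ext
    rw [pow_one, Subgroup.coe_pow, Subgroup.coe_one]
    show (x ^ i) ^ p = 1
    rw [← zpow_natCast, ← zpow_mul, mul_comm, zpow_mul, zpow_natCast, hxp, one_zpow]
  have hall : ∀ g : H, IsPGroup p
      ↥(Subgroup.zpowers x ⊔ (Subgroup.zpowers x).map (MulAut.conj g).toMonoidHom) := by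
    intro g
    have heq : Subgroup.zpowers x ⊔ (Subgroup.zpowers x).map (MulAut.conj g).toMonoidHom =
        Subgroup.closure ({x, g * x * g⁻¹} : Set H) := by
      rw [MonoidHom.map_zpowers, Subgroup.zpowers_eq_closure, Subgroup.zpowers_eq_closure,
        ← Subgroup.closure_union]
      rfl
    rw [heq]
    exact hcon g
  obtain ⟨N, hN, hNp, hXN⟩ := S0199.result (Subgroup.zpowers x) hX hall
  have hle : N ≤ Cfsg.pCore p H := le_sSup ⟨hN, hNp⟩
  exact hle (hXN (Subgroup.mem_zpowers x))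

theorem result {G : Type*} [Group G] [Finite G] {p : ℕ} [Fact p.Prime] (hp : p ≠ 2) (V H : Subgroup G) (hV : Cfsg.IsElementaryAbelian p V) (hHV : H ≤ Subgroup.normalizer (V : Set G)) (hf : H ⊓ Subgroup.centralizer (V : Set G) = ⊥) (a : G) (haH : a ∈ H) (hq : ⁅⁅V, Subgroup.zpowers a⁆, Subgroup.zpowers a⁆ = ⊥) (hna : a ∉ (Cfsg.pCore p H).map H.subtype) (T : Sylow 2 H) : ¬ IsMulCommutative T := by
  have hap : a ^ p = 1 := by
    have h1 := pow_mem_centralizer_of_quad V hV.2 a (hHV haH) hq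
    have h2 : a ^ p ∈ H ⊓ Subgroup.centralizer (V : Set G) := ⟨H.pow_mem haH p, h1⟩
    rw [hf, Subgroup.mem_bot] at h2
    exact h2
  have hxp : (⟨a, haH⟩ : H) ^ p = 1 := by
    apply Subtype.ext
    rw [Subgroup.coe_pow, Subgroup.coe_one]
    exact hap
  have hx : (⟨a, haH⟩ : H) ∉ Cfsg.pCore p H := by
    intro h
    exact hna ⟨⟨a, haH⟩, h, rfl⟩
  obtain ⟨g, hg⟩ := exists_conj_not_pgroup (⟨a, haH⟩ : H) hxp hx
  have hbH : (g : G) * a * (g : G)⁻¹ ∈ H := H.mul_mem (H.mul_mem g.2 haH) (H.inv_mem g.2)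
  have hH₀ : Subgroup.closure ({a, (g : G) * a * (g : G)⁻¹} : Set G) ≤ H := by
    rw [Subgroup.closure_le]
    intro z hz
    rcases hz with rfl | hz
    · exact haH
    · rw [Set.mem_singleton_iff] at hz
      subst hz
      exact hbH
  have hmap : (Subgroup.closure ({⟨a, haH⟩, g * ⟨a, haH⟩ * g⁻¹} : Set H)).map H.subtype =
      Subgroup.closure ({a, (g : G) * a * (g : G)⁻¹} : Set G) := by
    rw [MonoidHom.map_closure, Set.image_pair]
    rfl
  have hnp : ¬ IsPGroup p (Subgroup.closure ({a, (g : G) * a * (g : G)⁻¹} : Set G)) := by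
    intro hP
    apply hg
    intro y
    have hy : ((y : H) : G) ∈ Subgroup.closure ({a, (g : G) * a * (g : G)⁻¹} : Set G) := by
      rw [← hmap]
      exact ⟨y, y.2, rfl⟩
    obtain ⟨k, hk⟩ := hP ⟨_, hy⟩
    refine ⟨k, ?_⟩
    apply Subtype.ext
    apply Subtype.ext
    have := congrArg Subtype.val hk
    simpa using this
  have hf₀ : Subgroup.closure ({a, (g : G) * a * (g : G)⁻¹} : Set G) ⊓
      Subgroup.centralizer (V : Set G) = ⊥ := by
    rw [eq_bot_iff, ← hf]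
    exact inf_le_inf_right _ hH₀
  have hT₀ := S0593.result hp V _ hV (hH₀.trans hHV) hf₀ a _ rfl hq
    (quad_conj_of_mem_normalizer V a g (hHV g.2) hq) hnp default
  intro hT
  apply hT₀
  set H₀ := Subgroup.closure ({a, (g : G) * a * (g : G)⁻¹} : Set G) with hH₀def
  have hR : IsPGroup 2 ((((default : Sylow 2 H₀) : Subgroup H₀).map H₀.subtype).subgroupOf H) := by
    intro y
    have hy : ((y : H) : G) ∈ ((default : Sylow 2 H₀) : Subgroup H₀).map H₀.subtype := y.2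
    obtain ⟨t, ht, hty⟩ := hy
    obtain ⟨k, hk⟩ := (default : Sylow 2 H₀).isPGroup' ⟨t, ht⟩
    refine ⟨k, ?_⟩
    apply Subtype.ext
    apply Subtype.ext
    have h1 := congrArg (fun z => ((z : H₀) : G)) (congrArg Subtype.val hk)
    simp only [Subgroup.coe_pow, Subgroup.coe_one] at h1 ⊢
    rw [← hty]
    exact h1
  have hcomm := commutative_of_sylow_commutative T hT _ hR
  refine ⟨⟨fun x y => ?_⟩⟩
  have hxm : (⟨((x : H₀) : G), hH₀ (x : H₀).2⟩ : H) ∈
      (((default : Sylow 2 H₀) : Subgroup H₀).map H₀.subtype).subgroupOf H :=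
    ⟨x, x.2, rfl⟩
  have hym : (⟨((y : H₀) : G), hH₀ (y : H₀).2⟩ : H) ∈
      (((default : Sylow 2 H₀) : Subgroup H₀).map H₀.subtype).subgroupOf H :=
    ⟨y, y.2, rfl⟩
  have h1 := hcomm _ hxm _ hym
  apply Subtype.ext
  apply Subtype.ext
  exact congrArg (fun z : H => (z : G)) h1

end Cfsg.Agent.S0595
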