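import Mathlib
import Cfsg.Statements.S1254
import Cfsg.Agent.Lib.Helper21.FrobeniusNPC
import Cfsg.Agent.Lib.Helper21.OmegaLemma
import Cfsg.Agent.S0072
import Cfsg.Agent.Lib.Helper1.Fitting

set_option autoImplicit false
open Cfsg

namespace Cfsg.Agent.S1254

open Cfsg.Agent.Lib.Helper21

variable {G : Type*} [Group G]

/-- an element of order prime to `2` whose image in a group has `2`-power order has trivial image -/
theorem eq_one_of_orderOf_coprime {A : Type*} [Group A] (φ : A) (j k : ℕ) (h1 : φ ^ j = 1)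
    (h2 : φ ^ (2 ^ k) = 1) (hj : j.Coprime 2) : φ = 1 := by
  have hd1 := orderOf_dvd_of_pow_eq_one h1
  have hd2 := orderOf_dvd_of_pow_eq_one h2
  have : orderOf φ = 1 := Nat.eq_one_of_dvd_coprimes (Nat.Coprime.pow_right k hj) hd1 hd2
  exact orderOf_eq_one_iff.mp this

/-- an element of odd order in the normalizer of `Q` whose image in `Aut(Q)` is a `2`-element
centralizes `Q`. -/
theorem mem_centralizer_of_aut_two_pow (Q : Subgroup G) (g : G)
    (hg : g ∈ Subgroup.normalizer (Q : Set G)) (hodd : (orderOf g).Coprime 2) (k : ℕ)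
    (hk : (Q.normalizerMonoidHom ⟨g, hg⟩) ^ (2 ^ k) = 1) : g ∈ Subgroup.centralizer (Q : Set G) := by
  have h1 : (Q.normalizerMonoidHom ⟨g, hg⟩) ^ (orderOf g) = 1 := by
    rw [← map_pow]
    have : (⟨g, hg⟩ : Subgroup.normalizer (Q : Set G)) ^ orderOf g = 1 := by
      apply Subtype.ext
      simp [pow_orderOf_eq_one]
    rw [this, map_one]
  have h2 := eq_one_of_orderOf_coprime _ _ k h1 hk hodd
  have h3 : (⟨g, hg⟩ : Subgroup.normalizer (Q : Set G)) ∈ Q.normalizerMonoidHom.ker := h2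
  rw [Subgroup.normalizerMonoidHom_ker, Subgroup.mem_subgroupOf] at h3
  exact h3

/-- **L1** an element of odd order normalizing a cyclic `2`-group centralizes it. -/
theorem centralizes_cyclic [Finite G] (C : Subgroup G) (hcyc : IsCyclic C) (hC : IsPGroup 2 C) (g : G)
    (hg : g ∈ Subgroup.normalizer (C : Set G)) (hodd : (orderOf g).Coprime 2) :
    g ∈ Subgroup.centralizer (C : Set G) := by
  haveI : Fact (Nat.Prime 2) := ⟨Nat.prime_two⟩
  obtain ⟨k, hk⟩ := IsPGroup.iff_card.mp hC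
  have hcard : Nat.card (MulAut C) = Nat.totient (2 ^ k) := by
    rw [IsCyclic.card_mulAut, hk]
  have hpow : ∃ j, Nat.card (MulAut C) = 2 ^ j := by
    rcases Nat.eq_zero_or_pos k with h0 | h0
    · refine ⟨0, ?_⟩; rw [hcard, h0]; simp
    · refine ⟨k - 1, ?_⟩
      rw [hcard, Nat.totient_prime_pow Nat.prime_two h0]; simp
  obtain ⟨j, hj⟩ := hpow
  apply mem_centralizer_of_aut_two_pow C g hg hodd j
  rw [← hj]
  exact pow_card_eq_one'


/-- conjugation by `s` maps the finite subgroup `U` into itself, so `s` normalizes `U` -/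
theorem mem_normalizer_of_conj_mem [Finite G] (U : Subgroup G) (s : G)
    (h : ∀ u ∈ U, s * u * s⁻¹ ∈ U) : s ∈ Subgroup.normalizer (U : Set G) := by
  have hle : U.map (MulAut.conj s).toMonoidHom ≤ U := by
    rintro _ ⟨u, hu, rfl⟩
    exact h u hu
  have hcard : Nat.card (U.map (MulAut.conj s).toMonoidHom) = Nat.card U :=
    Subgroup.card_map_of_injective (MulAut.conj s).injective
  have heq : U.map (MulAut.conj s).toMonoidHom = U :=
    Subgroup.eq_of_le_of_card_ge hle hcard.ge
  rw [Subgroup.mem_normalizer_iff]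
  intro x
  constructor
  · exact h x
  · intro hx
    rw [← heq] at hx
    obtain ⟨u, hu, hux⟩ := hx
    have : u = x := by
      have h1 : s * u * s⁻¹ = s * x * s⁻¹ := hux
      have h2 := mul_right_cancel h1
      exact mul_left_cancel h2
    rw [← this]; exact hu

/-- **L2** the easy direction, for an arbitrary subgroup `U` of the Sylow subgroup. -/
theorem normalizer_le_of_normal_complement [Finite G] {p : ℕ} [Fact p.Prime] (S : Sylow p G)
    (N : Subgroup G) (hNn : N.Normal) (hN : N.IsComplement' (S : Subgroup G))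
    (U : Subgroup G) (hU : U ≤ (S : Subgroup G)) :
    Subgroup.normalizer (U : Set G) ≤
      Subgroup.centralizer (U : Set G) ⊔ ((S : Subgroup G) ⊓ Subgroup.normalizer (U : Set G)) := by
  intro g hg
  obtain ⟨⟨⟨n, hn⟩, ⟨s, hs⟩⟩, hns, -⟩ := hN.existsUnique g
  simp only at hns
  have hdisj := hN.disjoint
  rw [Subgroup.disjoint_def] at hdisj
  -- n centralizes s u s⁻¹ for u ∈ U
  have key : ∀ u ∈ U, n * (s * u * s⁻¹) * n⁻¹ = s * u * s⁻¹ := by
    intro u hu
    have h1 : g * u * g⁻¹ ∈ U := (Subgroup.mem_normalizer_iff.mp hg u).mp hu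
    have h2 : g * u * g⁻¹ = n * (s * u * s⁻¹) * n⁻¹ := by rw [← hns]; group
    rw [h2] at h1
    have hu' : s * u * s⁻¹ ∈ (S : Subgroup G) :=
      Subgroup.mul_mem _ (Subgroup.mul_mem _ hs (hU hu)) (Subgroup.inv_mem _ hs)
    have h3 : n * (s * u * s⁻¹) * n⁻¹ * (s * u * s⁻¹)⁻¹ ∈ (S : Subgroup G) :=
      Subgroup.mul_mem _ (hU h1) (Subgroup.inv_mem _ hu')
    have h4 : n * (s * u * s⁻¹) * n⁻¹ * (s * u * s⁻¹)⁻¹ ∈ N := by
      have : n * (s * u * s⁻¹) * n⁻¹ * (s * u * s⁻¹)⁻¹ =
          n * ((s * u * s⁻¹) * n⁻¹ * (s * u * s⁻¹)⁻¹) := by group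
      rw [this]
      exact N.mul_mem hn (hNn.conj_mem _ (N.inv_mem hn) _)
    have h5 := hdisj h4 h3
    exact mul_inv_eq_one.mp h5
  have hsU : ∀ u ∈ U, s * u * s⁻¹ ∈ U := by
    intro u hu
    have h1 : g * u * g⁻¹ ∈ U := (Subgroup.mem_normalizer_iff.mp hg u).mp hu
    have h2 : g * u * g⁻¹ = n * (s * u * s⁻¹) * n⁻¹ := by rw [← hns]; group
    rw [h2, key u hu] at h1
    exact h1
  have hsN : s ∈ Subgroup.normalizer (U : Set G) := mem_normalizer_of_conj_mem U s hsU
  have hnC : n ∈ Subgroup.centralizer (U : Set G) := by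
    rw [Subgroup.mem_centralizer_iff]
    intro v hv
    -- v = s u s⁻¹ with u = s⁻¹ v s ∈ U
    have hu : s⁻¹ * v * s ∈ U := by
      have := (Subgroup.mem_normalizer_iff.mp (Subgroup.inv_mem _ hsN) v).mp hv
      simpa using this
    have h1 := key _ hu
    have h2 : s * (s⁻¹ * v * s) * s⁻¹ = v := by group
    rw [h2] at h1
    -- n v n⁻¹ = v
    calc v * n = (n * v * n⁻¹) * n := by rw [h1]
      _ = n * v := by group
  rw [← hns]
  exact Subgroup.mul_mem _ (Subgroup.mem_sup_left hnC) (Subgroup.mem_sup_right ⟨hs, hsN⟩)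


section dihedral

variable {m : ℕ} (S : Subgroup G) (eS : S ≃* DihedralGroup m)

/-- the generator of the rotation subgroup -/
noncomputable def rotGen : G := ((eS.symm (DihedralGroup.r 1) : S) : G)

theorem rotGen_mem : rotGen S eS ∈ S := (eS.symm (DihedralGroup.r 1)).2

theorem zpowers_rotGen_le : Subgroup.zpowers (rotGen S eS) ≤ S := by
  rw [Subgroup.zpowers_le]; exact rotGen_mem S eS

theorem mem_zpowers_rotGen_of_r (x : G) (hx : x ∈ S) (i : ZMod m) (h : eS ⟨x, hx⟩ = DihedralGroup.r i) :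
    x ∈ Subgroup.zpowers (rotGen S eS) := by
  rw [Subgroup.mem_zpowers_iff]
  refine ⟨(i.cast : ℤ), ?_⟩
  have h1 : (eS.symm (DihedralGroup.r 1)) ^ (i.cast : ℤ) = (⟨x, hx⟩ : S) := by
    rw [← map_zpow, DihedralGroup.r_one_zpow, ZMod.intCast_zmod_cast, ← h]
    simp
  have h2 := congrArg (Subtype.val) h1
  simpa [rotGen] using h2

theorem eS_of_mem_zpowers_rotGen (x : G) (hx : x ∈ S) (h : x ∈ Subgroup.zpowers (rotGen S eS)) :
    ∃ i : ZMod m, eS ⟨x, hx⟩ = DihedralGroup.r i := by
  rw [Subgroup.mem_zpowers_iff] at h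
  obtain ⟨k, hk⟩ := h
  refine ⟨(k : ZMod m), ?_⟩
  have h1 : (⟨x, hx⟩ : S) = (eS.symm (DihedralGroup.r 1)) ^ k := by
    apply Subtype.ext
    simp only [Subgroup.coe_zpow]
    exact hk.symm
  rw [h1, map_zpow]
  simp

/-- **R2** elements outside the rotation subgroup are involutions -/
theorem sq_eq_one_of_not_mem (x : G) (hx : x ∈ S) (h : x ∉ Subgroup.zpowers (rotGen S eS)) :
    x * x = 1 := by
  rcases hex : eS ⟨x, hx⟩ with i | i
  · exact absurd (mem_zpowers_rotGen_of_r S eS x hx i hex) h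
  · have h1 : eS (⟨x, hx⟩ * ⟨x, hx⟩) = 1 := by
      rw [map_mul, hex, DihedralGroup.sr_mul_self]
    have h2 : (⟨x, hx⟩ * ⟨x, hx⟩ : S) = 1 := by
      apply eS.injective; rw [h1, map_one]
    exact congrArg Subtype.val h2

/-- **R3** two elements outside the rotation subgroup differ by a rotation -/
theorem inv_mul_mem_of_not_mem (x y : G) (hx : x ∈ S) (hy : y ∈ S)
    (hx' : x ∉ Subgroup.zpowers (rotGen S eS)) (hy' : y ∉ Subgroup.zpowers (rotGen S eS)) :
    x⁻¹ * y ∈ Subgroup.zpowers (rotGen S eS) := by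
  rcases hex : eS ⟨x, hx⟩ with i | i
  · exact absurd (mem_zpowers_rotGen_of_r S eS x hx i hex) hx'
  rcases hey : eS ⟨y, hy⟩ with j | j
  · exact absurd (mem_zpowers_rotGen_of_r S eS y hy j hey) hy'
  have hxy : x⁻¹ * y ∈ S := S.mul_mem (S.inv_mem hx) hy
  apply mem_zpowers_rotGen_of_r S eS _ hxy (j - i)
  have : (⟨x⁻¹ * y, hxy⟩ : S) = (⟨x, hx⟩ : S)⁻¹ * ⟨y, hy⟩ := rfl
  rw [this, map_mul, map_inv, hex, hey, DihedralGroup.inv_sr, DihedralGroup.sr_mul_sr]


/-- a subgroup of a dihedral group all of whose rotations have square one has order at most 4 -/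
theorem card_le_four [Finite G] (Q : Subgroup G) (hQ : Q ≤ S) (c₀ : G) (hc₀ : c₀ * c₀ = 1)
    (hgen : ∀ x ∈ Q ⊓ Subgroup.zpowers (rotGen S eS), x ∈ Subgroup.zpowers c₀) :
    Nat.card Q ≤ 4 := by
  have h0 : Nat.card (Q ⊓ Subgroup.zpowers (rotGen S eS) : Subgroup G) ≤ 2 := by
    have hle : Q ⊓ Subgroup.zpowers (rotGen S eS) ≤ Subgroup.zpowers c₀ := hgen
    have h1 := Subgroup.card_le_of_le hle
    have h2 : Nat.card (Subgroup.zpowers c₀) ≤ 2 := by
      rw [Nat.card_zpowers]
      apply Nat.le_of_dvd (by norm_num)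
      apply orderOf_dvd_of_pow_eq_one
      rw [pow_two, hc₀]
    omega
  by_cases hQR : Q ≤ Subgroup.zpowers (rotGen S eS)
  · have : Q ⊓ Subgroup.zpowers (rotGen S eS) = Q := inf_eq_left.mpr hQR
    rw [this] at h0
    omega
  · obtain ⟨t, htQ, htR⟩ := SetLike.not_le_iff_exists.mp hQR
    have hidx : (Q ⊓ Subgroup.zpowers (rotGen S eS)).relIndex Q = 2 := by
      rw [Subgroup.relIndex_eq_two_iff]
      refine ⟨t, htQ, ?_⟩
      intro b hb
      by_cases hbR : b ∈ Subgroup.zpowers (rotGen S eS)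
      · right
        refine ⟨⟨hb, hbR⟩, ?_⟩
        rintro ⟨-, hbt⟩
        apply htR
        have : t = b⁻¹ * (b * t) := by group
        rw [this]
        exact Subgroup.mul_mem _ (Subgroup.inv_mem _ hbR) hbt
      · left
        refine ⟨⟨Q.mul_mem hb htQ, ?_⟩, fun h => hbR h.2⟩
        have hbi : b⁻¹ ∉ Subgroup.zpowers (rotGen S eS) := fun h => hbR (by simpa using Subgroup.inv_mem _ h)
        have := inv_mul_mem_of_not_mem S eS b⁻¹ t (S.inv_mem (hQ hb)) (hQ htQ) hbi htR
        simpa using this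
    have := Cfsg.Agent.Lib.Helper1.card_mul_relIndex_of_le
      (inf_le_left : Q ⊓ Subgroup.zpowers (rotGen S eS) ≤ Q)
    rw [hidx] at this
    omega

end dihedral

/-- **L4** Frobenius' hypothesis for subgroups of a dihedral `2`-group satisfying the four-group
condition. -/
theorem centralizes_of_dihedral [Finite G] {m : ℕ} (S : Subgroup G) (eS : S ≃* DihedralGroup m)
    (hS2 : IsPGroup 2 S)
    (hyp : ∀ U : Subgroup G, U ≤ S → IsKleinFour U → Subgroup.normalizer (U : Set G) =
      Subgroup.centralizer (U : Set G) ⊔ (S ⊓ Subgroup.normalizer (U : Set G)))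
    (Q : Subgroup G) (hQ : Q ≤ S) (g : G) (hg : g ∈ Subgroup.normalizer (Q : Set G))
    (hodd : (orderOf g).Coprime 2) : g ∈ Subgroup.centralizer (Q : Set G) := by
  haveI : Fact (Nat.Prime 2) := ⟨Nat.prime_two⟩
  have hQ2 : IsPGroup 2 Q := hS2.to_le hQ
  set R := Subgroup.zpowers (rotGen S eS) with hR
  set Q₀ := Q ⊓ R with hQ₀
  haveI hcyc : IsCyclic Q₀ := Subgroup.isCyclic_of_le (inf_le_right : Q₀ ≤ R)
  obtain ⟨⟨c₀, hc₀⟩, hgen'⟩ := hcyc.exists_generator
  have hgen : ∀ x ∈ Q₀, x ∈ Subgroup.zpowers c₀ := by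
    intro x hx
    obtain ⟨k, hk⟩ := Subgroup.mem_zpowers_iff.mp (hgen' ⟨x, hx⟩)
    rw [Subgroup.mem_zpowers_iff]
    refine ⟨k, ?_⟩
    have := congrArg Subtype.val hk
    simpa using this
  by_cases hsq : c₀ * c₀ = 1
  · -- case (i): `Q` has exponent two and order at most four
    have hexp : ∀ x ∈ Q, x * x = 1 := by
      intro x hx
      by_cases hxR : x ∈ R
      · obtain ⟨k, hk⟩ := Subgroup.mem_zpowers_iff.mp (hgen x ⟨hx, hxR⟩)
        rw [← hk, ← (Commute.refl c₀).mul_zpow k, hsq, one_zpow]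
      · exact sq_eq_one_of_not_mem S eS x (hQ hx) hxR
    have hcard : Nat.card Q ≤ 4 := card_le_four S eS Q hQ c₀ hsq hgen
    obtain ⟨k, hk⟩ := IsPGroup.iff_card.mp hQ2
    have hk2 : k ≤ 2 := by
      by_contra hcon
      push Not at hcon
      have : 2 ^ 3 ≤ 2 ^ k := Nat.pow_le_pow_right (by norm_num) hcon
      omega
    interval_cases k
    · -- trivial group
      have hbot : Q = ⊥ := Subgroup.card_eq_one.mp (by simpa using hk)
      rw [Subgroup.mem_centralizer_iff]
      intro h hh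
      rw [hbot] at hh
      rw [Subgroup.mem_bot.mp hh]; simp
    · have : IsCyclic Q := by
        haveI : Fact (Nat.Prime 2) := ⟨Nat.prime_two⟩
        exact isCyclic_of_prime_card (p := 2) (by simpa using hk)
      exact centralizes_cyclic Q this hQ2 g hg hodd
    · -- the Klein four case
      have hK : IsKleinFour Q := by
        refine ⟨by simpa using hk, ?_⟩
        have hdvd : Monoid.exponent Q ∣ 2 := by
          apply Monoid.exponent_dvd_of_forall_pow_eq_one
          intro x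
          apply Subtype.ext
          have := hexp x x.2
          simp [pow_two, this]
        have hne : Monoid.exponent Q ≠ 1 := by
          intro h1
          have := Monoid.exp_eq_one_iff.mp h1
          have hc1 : Nat.card Q = 1 := Nat.card_eq_one_iff_unique.mpr ⟨this, ⟨1⟩⟩
          rw [hk] at hc1
          norm_num at hc1
        rcases (Nat.dvd_prime Nat.prime_two).mp hdvd with h | h
        · exact absurd h hne
        · exact h
      have hN := hyp Q hQ hK
      -- the subgroup of the normalizer of elements inducing 2-automorphisms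
      set ψ := Q.normalizerMonoidHom with hψ
      set B : Subgroup (MulAut Q) :=
        (S.subgroupOf (Subgroup.normalizer (Q : Set G))).map ψ with hB
      have hB2 : IsPGroup 2 B := by
        apply IsPGroup.map
        exact hS2.comap_subtype
      set M : Subgroup G := (B.comap ψ).map (Subgroup.normalizer (Q : Set G)).subtype with hM
      have hCM : Subgroup.centralizer (Q : Set G) ≤ M := by
        intro x hx
        have hxN : x ∈ Subgroup.normalizer (Q : Set G) := Subgroup.centralizer_le_normalizer _ hx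
        refine ⟨⟨x, hxN⟩, ?_, rfl⟩
        show ψ ⟨x, hxN⟩ ∈ B
        have : (⟨x, hxN⟩ : Subgroup.normalizer (Q : Set G)) ∈ ψ.ker := by
          rw [hψ, Subgroup.normalizerMonoidHom_ker, Subgroup.mem_subgroupOf]; exact hx
        rw [MonoidHom.mem_ker] at this
        rw [this]; exact B.one_mem
      have hSM : S ⊓ Subgroup.normalizer (Q : Set G) ≤ M := by
        intro x hx
        refine ⟨⟨x, hx.2⟩, ?_, rfl⟩
        show ψ ⟨x, hx.2⟩ ∈ B
        exact ⟨⟨x, hx.2⟩, by rw [SetLike.mem_coe, Subgroup.mem_subgroupOf]; exact hx.1, rfl⟩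
      have hgM : g ∈ M := by
        have : g ∈ Subgroup.centralizer (Q : Set G) ⊔ (S ⊓ Subgroup.normalizer (Q : Set G)) := by
          rw [← hN]; exact hg
        exact (sup_le hCM hSM) this
      obtain ⟨⟨g', hg'⟩, hg1, hg2⟩ := hgM
      have hgg : g' = g := hg2
      subst hgg
      have hg1 : ψ ⟨g', hg'⟩ ∈ B := hg1
      obtain ⟨j, hj⟩ := hB2 ⟨_, hg1⟩
      have hj' : (ψ ⟨g', hg'⟩) ^ (2 ^ j) = 1 := by
        have := congrArg Subtype.val hj
        simpa using this
      exact mem_centralizer_of_aut_two_pow Q g' hg' hodd j hj'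
  · -- case (ii)
    have hconj : ∀ h ∈ Subgroup.normalizer (Q : Set G), ∀ x ∈ Q₀, h * x * h⁻¹ ∈ Q₀ := by
      intro h hh x hx
      have h1 : h * c₀ * h⁻¹ ∈ Q := (Subgroup.mem_normalizer_iff.mp hh c₀).mp hc₀.1
      have h2 : h * c₀ * h⁻¹ ∈ R := by
        by_contra hnot
        have := sq_eq_one_of_not_mem S eS _ (hQ h1) hnot
        apply hsq
        have h3 : h * c₀ * h⁻¹ * (h * c₀ * h⁻¹) = h * (c₀ * c₀) * h⁻¹ := by group
        rw [h3] at this
        have h4 : c₀ * c₀ = h⁻¹ * (h * (c₀ * c₀) * h⁻¹) * h := by group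
        rw [h4, this]; group
      obtain ⟨k, hk⟩ := Subgroup.mem_zpowers_iff.mp (hgen x hx)
      have h5 : h * x * h⁻¹ = (h * c₀ * h⁻¹) ^ k := by
        rw [← hk, conj_zpow]
      rw [h5]
      exact Subgroup.zpow_mem _ (Subgroup.mem_inf.mpr ⟨h1, h2⟩) k
    have hgN₀ : g ∈ Subgroup.normalizer (Q₀ : Set G) :=
      mem_normalizer_of_conj_mem Q₀ g (hconj g hg)
    have hgC₀ : g ∈ Subgroup.centralizer (Q₀ : Set G) :=
      centralizes_cyclic Q₀ hcyc (hQ2.to_le inf_le_left) g hgN₀ hodd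
    rw [Subgroup.mem_centralizer_iff]
    intro x hx
    symm
    apply comm_of_comm_commutator Q hQ2 g hg hodd x hx
    have hw : x⁻¹ * (g * x * g⁻¹) ∈ Q₀ := by
      have hgx : g * x * g⁻¹ ∈ Q := (Subgroup.mem_normalizer_iff.mp hg x).mp hx
      refine ⟨Q.mul_mem (Q.inv_mem hx) hgx, ?_⟩
      by_cases hxR : x ∈ R
      · have h1 : g * x * g⁻¹ ∈ Q₀ := hconj g hg x ⟨hx, hxR⟩
        exact R.mul_mem (R.inv_mem hxR) h1.2
      · have h1 : g * x * g⁻¹ ∉ R := by
          intro hcon
          have h2 : g * x * g⁻¹ ∈ Q₀ := ⟨hgx, hcon⟩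
          have h3 := (Subgroup.mem_normalizer_iff.mp hgN₀ x).mpr h2
          exact hxR h3.2
        exact inv_mul_mem_of_not_mem S eS x _ (hQ hx) (hQ hgx) hxR h1
    rw [Subgroup.mem_centralizer_iff] at hgC₀
    exact (hgC₀ _ hw).symm


/-- Let X be a finite group whose Sylow 2-subgroup S is dihedral (of order at least 4). Then X has a normal 2-complement if and only if, for every Klein four-subgroup U ≤ S, the normalizer N_X(U) is generated by C_X(U) and N_S(U). -/
theorem result {X : Type*} [Group X] [Finite X] (S : Sylow 2 X) (m : ℕ) (hm : 2 ≤ m) (eS : (S : Subgroup X) ≃* DihedralGroup m) : Cfsg.HasNormalPComplement 2 X ↔ ∀ U : Subgroup X, U ≤ S → IsKleinFour U → Subgroup.normalizer (U : Set X) = Subgroup.centralizer (U : Set X) ⊔ ((S : Subgroup X) ⊓ Subgroup.normalizer (U : Set X)) := by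
  haveI : Fact (Nat.Prime 2) := ⟨Nat.prime_two⟩
  constructor
  · rintro ⟨P, N, hNn, hN⟩ U hU _
    have hNc : (Nat.card N).Coprime 2 := Cfsg.Agent.Lib.Helper1.card_coprime_of_isComplement'_sylow P hN
    have hNidx : N.index = Nat.card (P : Subgroup X) := Cfsg.Agent.Lib.Helper1.index_eq_card_of_isComplement' hN
    obtain ⟨k, hk⟩ := IsPGroup.iff_card.mp P.2
    have hNS : N.IsComplement' (S : Subgroup X) :=
      Cfsg.Agent.S0072.isComplement'_sylow_of_normal_pcomp N hNc (hNidx.trans hk) S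
    apply le_antisymm
    · exact normalizer_le_of_normal_complement S N hNn hNS U hU
    · exact sup_le (Subgroup.centralizer_le_normalizer _) inf_le_right
  · intro hyp
    have hF : FrobHyp 2 X := frobHyp_of_sylow S
      (fun Q hQ g hg hodd => centralizes_of_dihedral (S : Subgroup X) eS S.isPGroup' hyp Q hQ g hg hodd)
    obtain ⟨N, hNn, hNc⟩ := hF.exists_normal_complement S
    exact ⟨S, N, hNn, hNc⟩

end Cfsg.Agent.S1254
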