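import Mathlib
import Cfsg.Statements.S0106
import Cfsg.Agent.Lib.Helper21.SL23Section
import Cfsg.Agent.Lib.Helper21.FrobeniusNPC
import Cfsg.Agent.Lib.Helper19.UniqueInvolution

set_option autoImplicit false
open Cfsg

namespace Cfsg.Agent.S0106

open Cfsg.Agent.Lib.Helper21 QuaternionGroup

section
variable {G : Type*} [Group G] [Finite G]

/-- a non-cyclic subgroup of a generalized quaternion Sylow 2-subgroup which is normalized but not
centralized by an element of odd order is quaternion of order 8 -/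
theorem quat_sub_q8 {N : ℕ} [NeZero N] (T : Sylow 2 G)
    (e : (T : Subgroup G) ≃* QuaternionGroup N) (Q : Subgroup G) (hQT : Q ≤ (T : Subgroup G))
    (g : G) (hgQ : g ∈ Subgroup.normalizer (Q : Set G)) (hodd : (orderOf g).Coprime 2)
    (hgC : g ∉ Subgroup.centralizer (Q : Set G)) : Nonempty (Q ≃* QuaternionGroup 2) := by
  classical
  haveI : Fact (Nat.Prime 2) := ⟨Nat.prime_two⟩
  have hQ2 : IsPGroup 2 Q := T.isPGroup'.to_le hQT
  have hQnc : ¬ IsCyclic Q := fun h =>
    hgC (Cfsg.Agent.S1254.centralizes_cyclic Q h hQ2 g hgQ hodd)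
  have hQnab : ¬ ∀ x y : Q, x * y = y * x := by
    intro h
    apply hQnc
    exact quat_abelian_cyclic T e Q hQ2
      (fun x hx y hy => congrArg Subtype.val (h ⟨x, hx⟩ ⟨y, hy⟩))
  -- the involution
  set zT : G := ((e.symm (a (N : ZMod (2 * N))) : (T : Subgroup G)) : G) with hzT
  have huT : ∀ u ∈ (T : Subgroup G), u * u = 1 → u = 1 ∨ u = zT := by
    intro u hu huu
    have h1 : e ⟨u, hu⟩ * e ⟨u, hu⟩ = 1 := by
      rw [← map_mul]
      have : (⟨u, hu⟩ : (T : Subgroup G)) * ⟨u, hu⟩ = 1 := Subtype.ext huu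
      rw [this, map_one]
    rcases quat_unique_invol _ h1 with h | h
    · left
      have : (⟨u, hu⟩ : (T : Subgroup G)) = 1 := e.injective (by rw [h, map_one])
      exact congrArg Subtype.val this
    · right
      have : (⟨u, hu⟩ : (T : Subgroup G)) = e.symm (a (N : ZMod (2 * N))) := by
        rw [← h, MulEquiv.symm_apply_apply]
      exact congrArg Subtype.val this
  -- Q contains an involution
  have h2dvd : 2 ∣ Nat.card Q := by
    obtain ⟨k, hk⟩ := IsPGroup.iff_card.mp hQ2
    rcases Nat.eq_zero_or_pos k with h0 | hpos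
    · exfalso
      apply hQnc
      rw [h0, pow_zero] at hk
      haveI : Subsingleton Q := (Nat.card_eq_one_iff_unique.mp hk).1
      infer_instance
    · rw [hk]; exact dvd_pow_self 2 (by omega)
  obtain ⟨x, hx⟩ := exists_prime_orderOf_dvd_card' (G := Q) 2 h2dvd
  have hx1 : x ≠ 1 := by
    intro h
    rw [h, orderOf_one] at hx
    omega
  have hxx : x * x = 1 := by
    rw [← pow_two, ← hx]; exact pow_orderOf_eq_one x
  have hxz : (x : G) = zT := by
    rcases huT x (hQT x.2) (by have := congrArg Subtype.val hxx; simpa using this) with h | h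
    · exfalso; exact hx1 (Subtype.ext h)
    · exact h
  have hzQ : zT ∈ Q := by rw [← hxz]; exact x.2
  have hxz' : x = ⟨zT, hzQ⟩ := Subtype.ext hxz
  have huniq : ∀ u : Q, u * u = 1 → u = 1 ∨ u = x := by
    intro u huu
    rcases huT u (hQT u.2) (by have := congrArg Subtype.val huu; simpa using this) with h | h
    · left; exact Subtype.ext h
    · right; exact Subtype.ext (h.trans hxz.symm)
  obtain ⟨m, hm2, a₁, y, hao, hyA, hya, hyy, haz, hcov, hcard⟩ :=
    Cfsg.Agent.Lib.Helper19.quaternion_structure hQ2 x hx1 hxx huniq hQnab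
  -- m = 2
  have hm : m = 2 := by
    by_contra hne
    have hm3 : 3 ≤ m := by omega
    apply hgC
    -- elements outside ⟨a₁⟩ have order dividing 4
    have hout : ∀ u : Q, u ∉ Subgroup.zpowers a₁ → u ^ 4 = 1 := by
      intro u hu
      rcases hcov u with h | h
      · exact absurd h hu
      · obtain ⟨k, hk⟩ := Subgroup.mem_zpowers_iff.mp h
        have hu' : u = a₁ ^ k * y := by rw [hk]; group
        have hconj : y * a₁ ^ k * y⁻¹ = (a₁⁻¹) ^ k := by
          have := map_zpow (MulAut.conj y) a₁ k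
          rw [MulAut.conj_apply, MulAut.conj_apply, hya] at this
          exact this
        have huu : u * u = x := by
          rw [hu']
          calc a₁ ^ k * y * (a₁ ^ k * y) = a₁ ^ k * (y * a₁ ^ k * y⁻¹) * (y * y) := by group
            _ = x := by rw [hconj, hyy, inv_zpow, mul_inv_cancel, one_mul]
        calc u ^ 4 = (u * u) * (u * u) := by rw [← pow_two, ← pow_two, ← pow_mul]
          _ = 1 := by rw [huu, hxx]
    set c : Q := ⟨g * a₁ * g⁻¹, (Subgroup.mem_normalizer_iff.mp hgQ _).mp a₁.2⟩ with hc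
    have hco : orderOf (c : G) = 2 ^ m := by
      have := MulEquiv.orderOf_eq (MulAut.conj g) (a₁ : G)
      rw [MulAut.conj_apply] at this
      show orderOf (g * a₁ * g⁻¹) = 2 ^ m
      rw [this, Subgroup.orderOf_coe, hao]
    have hcA : c ∈ Subgroup.zpowers a₁ := by
      by_contra hcn
      have h4 := hout c hcn
      have hdvd := orderOf_dvd_of_pow_eq_one h4
      rw [← Subgroup.orderOf_coe, hco] at hdvd
      have h8 : 2 ^ 3 ∣ 2 ^ m := pow_dvd_pow 2 hm3
      have := Nat.le_of_dvd (by norm_num) (h8.trans hdvd)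
      omega
    have hcA' : (c : G) ∈ Subgroup.zpowers (a₁ : G) := by
      obtain ⟨k, hk⟩ := Subgroup.mem_zpowers_iff.mp hcA
      rw [← hk, Subgroup.coe_zpow]
      exact Subgroup.zpow_mem_zpowers _ k
    have hgA : g ∈ Subgroup.normalizer ((Subgroup.zpowers (a₁ : G) : Subgroup G) : Set G) := by
      apply Cfsg.Agent.S1254.mem_normalizer_of_conj_mem
      intro u hu
      obtain ⟨k, rfl⟩ := Subgroup.mem_zpowers_iff.mp hu
      have h2 : g * (a₁ : G) ^ k * g⁻¹ = (g * a₁ * g⁻¹) ^ k := by
        have := map_zpow (MulAut.conj g) (a₁ : G) k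
        simpa [MulAut.conj_apply] using this
      rw [h2]
      exact Subgroup.zpow_mem _ hcA' k
    have hAQ : Subgroup.zpowers (a₁ : G) ≤ Q := by
      rw [Subgroup.zpowers_le]; exact a₁.2
    have hidx : (Subgroup.zpowers (a₁ : G)).relIndex Q = 2 := by
      have h1 := Cfsg.Agent.Lib.Helper1.card_mul_relIndex_of_le hAQ
      rw [Nat.card_zpowers, Subgroup.orderOf_coe, hao, hcard, pow_succ] at h1
      exact Nat.eq_of_mul_eq_mul_left (pow_pos (by norm_num) m) h1
    exact centralizes_of_normalizes_cyclic_index_two Q (Subgroup.zpowers (a₁ : G)) hQ2 hAQ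
      (Subgroup.isCyclic_zpowers _) hidx g hgQ hgA hodd
  subst hm
  have hao' : orderOf a₁ = 2 * 2 := by rw [hao]; norm_num
  have hw : y * y = a₁ ^ 2 := by
    rw [hyy, ← haz]; norm_num
  obtain ⟨ψ, hψ, -, -⟩ := Cfsg.Agent.Lib.helper14.exists_quatHom 2 (by norm_num) a₁ y hao' hw hya
  have hbij : Function.Bijective ψ := by
    rw [Nat.bijective_iff_injective_and_card]
    refine ⟨hψ, ?_⟩
    rw [hcard, Nat.card_eq_fintype_card, QuaternionGroup.card]; norm_num
  exact ⟨(MulEquiv.ofBijective ψ hbij).symm⟩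

end

/-- A finite group with generalized quaternion Sylow 2-subgroups either has a normal 2-complement or has a section isomorphic to SL(2,3). -/
theorem result {G : Type*} [Group G] [Finite G] (T : Sylow 2 G) (n : ℕ) (hn : 1 ≤ n) (hT : Nonempty ((T : Subgroup G) ≃* QuaternionGroup (2 ^ n))) : Cfsg.HasNormalPComplement 2 G ∨ ∃ (H K : Subgroup G) (hK : (K.subgroupOf H).Normal), Nonempty ((H ⧸ K.subgroupOf H) ≃* Matrix.SpecialLinearGroup (Fin 2) (ZMod 3)) := by
  classical
  haveI : Fact (Nat.Prime 2) := ⟨Nat.prime_two⟩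
  obtain ⟨e⟩ := hT
  haveI : NeZero (2 ^ n) := ⟨by positivity⟩
  by_cases hF : FrobHyp 2 G
  · left
    obtain ⟨N, hN, hc⟩ := hF.exists_normal_complement T
    exact ⟨T, N, hN, hc⟩
  · right
    have hex : ∃ Q : Subgroup G, Q ≤ (T : Subgroup G) ∧ ∃ g ∈ Subgroup.normalizer (Q : Set G),
        Nat.Coprime (orderOf g) 2 ∧ g ∉ Subgroup.centralizer (Q : Set G) := by
      by_contra hno
      push Not at hno
      exact hF (frobHyp_of_sylow T (fun Q hQ g hg hcop => hno Q hQ g hg hcop))
    obtain ⟨Q, hQT, g, hgQ, hodd, hgC⟩ := hex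
    obtain ⟨eQ⟩ := quat_sub_q8 T e Q hQT g hgQ hodd hgC
    exact exists_sl23_section Q eQ g hgQ hodd hgC

end Cfsg.Agent.S0106
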