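import Mathlib
import Cfsg.Statements.S0071
import Cfsg.Agent.Lib.Helper21.FrobeniusNPC
import Cfsg.Agent.Lib.Helper1.NPC

set_option autoImplicit false
open Cfsg

namespace Cfsg.Agent.S0071

/-- easy direction: with a normal `p`-complement, `p'`-elements of `N_G(Q)` centralize `Q ≤ P` -/
theorem centralizes_of_normal_complement {G : Type*} [Group G] [Finite G] {p : ℕ} [Fact p.Prime]
    (P : Sylow p G) (N : Subgroup G) [hNn : N.Normal] (hN : N.IsComplement' (P : Subgroup G))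
    (Q : Subgroup G) (hQ : Q ≤ (P : Subgroup G)) (g : G) (hg : g ∈ Subgroup.normalizer (Q : Set G))
    (hcop : Nat.Coprime (orderOf g) p) : g ∈ Subgroup.centralizer (Q : Set G) := by
  have hgN : g ∈ N := (Cfsg.Agent.Lib.Helper1.mem_normal_complement_iff P N hN g).mpr hcop
  rw [Subgroup.mem_centralizer_iff]
  intro x hx
  have h1 : g * x * g⁻¹ * x⁻¹ ∈ Q :=
    Q.mul_mem ((Subgroup.mem_normalizer_iff.mp hg x).mp hx) (Q.inv_mem hx)
  have h2 : g * x * g⁻¹ * x⁻¹ ∈ N := by
    have : g * x * g⁻¹ * x⁻¹ = g * (x * g⁻¹ * x⁻¹) := by group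
    rw [this]
    exact N.mul_mem hgN (hNn.conj_mem _ (N.inv_mem hgN) x)
  have h3 : g * x * g⁻¹ * x⁻¹ ∈ N ⊓ (P : Subgroup G) := ⟨h2, hQ h1⟩
  rw [hN.disjoint.eq_bot, Subgroup.mem_bot] at h3
  have := congrArg (fun t => t * x * g) h3
  simpa [mul_assoc] using this.symm

theorem result {G : Type*} [Group G] [Finite G] {p : ℕ} [Fact p.Prime] (P : Sylow p G) : (∃ N : Subgroup G, N.Normal ∧ N.IsComplement' (P : Subgroup G)) ↔ ∀ Q : Subgroup G, Q ≤ (P : Subgroup G) → ∀ g ∈ Subgroup.normalizer (Q : Set G), Nat.Coprime (orderOf g) p → g ∈ Subgroup.centralizer (Q : Set G) := by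
  constructor
  · rintro ⟨N, hNn, hN⟩ Q hQ g hg hcop
    haveI := hNn
    exact centralizes_of_normal_complement P N hN Q hQ g hg hcop
  · intro h
    exact (Cfsg.Agent.Lib.Helper21.frobHyp_of_sylow P h).exists_normal_complement P

end Cfsg.Agent.S0071
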