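import Mathlib
import Cfsg.Statements.S0594
import Cfsg.Agent.S0593
import Cfsg.Agent.Lib.Helper5.QuadSec

set_option autoImplicit false
open Cfsg
open scoped commutatorElement

namespace Cfsg.Agent.S0594

open Cfsg.Agent.Lib.Helper5

theorem section_of_surj {G : Type*} [Group G] (H : Subgroup G) (Y : Subgroup H) {Q : Type*}
    [Group Q] (f : Y →* Q) (hf : Function.Surjective f) :
    ∃ (K L : Subgroup G) (hL : (L.subgroupOf K).Normal), K ≤ H ∧
      Nonempty ((K ⧸ L.subgroupOf K) ≃* Q) := by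
  have hsurj : Function.Surjective (f.comp
      (Y.equivMapOfInjective H.subtype H.subtype_injective).symm.toMonoidHom) := by
    intro z
    obtain ⟨y, rfl⟩ := hf z
    refine ⟨(Y.equivMapOfInjective H.subtype H.subtype_injective) y, ?_⟩
    simp
  have hR : (((f.comp (Y.equivMapOfInjective H.subtype H.subtype_injective).symm.toMonoidHom).ker.map
      (Y.map H.subtype).subtype).subgroupOf (Y.map H.subtype)) =
      (f.comp (Y.equivMapOfInjective H.subtype H.subtype_injective).symm.toMonoidHom).ker :=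
    Subgroup.comap_map_eq_self_of_injective (Y.map H.subtype).subtype_injective _
  have hN : (((f.comp (Y.equivMapOfInjective H.subtype H.subtype_injective).symm.toMonoidHom).ker.map
      (Y.map H.subtype).subtype).subgroupOf (Y.map H.subtype)).Normal := by
    rw [hR]; infer_instance
  refine ⟨Y.map H.subtype, _, hN, ?_, ⟨?_⟩⟩
  · rintro _ ⟨y, _, rfl⟩
    exact y.2
  · exact (QuotientGroup.quotientMulEquivOfEq hR).trans
      (QuotientGroup.quotientKerEquivOfSurjective _ hsurj)

theorem result {G : Type*} [Group G] [Finite G] {p : ℕ} [Fact p.Prime] (hp : p ≠ 2) (V H : Subgroup G) (hV : Cfsg.IsElementaryAbelian p V) (hHV : H ≤ Subgroup.normalizer (V : Set G)) (hf : H ⊓ Subgroup.centralizer (V : Set G) = ⊥) (a b : G) (hab : H = Subgroup.closure {a, b}) (ha : ⁅⁅V, Subgroup.zpowers a⁆, Subgroup.zpowers a⁆ = ⊥) (hb : ⁅⁅V, Subgroup.zpowers b⁆, Subgroup.zpowers b⁆ = ⊥) (hnp : ¬ IsPGroup p H) (Q : Subgroup G) (hQH : Q ≤ H) (hQn : H ≤ Subgroup.normalizer (Q : Set G))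 (hQ : (Nat.card Q).Coprime p) (hQa : ⁅Q, Subgroup.zpowers a⁆ ≠ ⊥) : p = 3 ∧ ∃ (K L : Subgroup G) (hL : (L.subgroupOf K).Normal), K ≤ H ∧ Nonempty ((K ⧸ L.subgroupOf K) ≃* Matrix.SpecialLinearGroup (Fin 2) (ZMod 3)) := by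
  have hpp : p.Prime := Fact.out
  obtain ⟨hVc, hVp⟩ := hV
  letI : CommGroup ↥V := { (inferInstance : Group ↥V) with
    mul_comm := fun u v => hVc.is_comm.comm u v }
  have haH : a ∈ H := by rw [hab]; exact Subgroup.subset_closure (by simp)
  have hbH : b ∈ H := by rw [hab]; exact Subgroup.subset_closure (by simp)
  have hgen : Subgroup.closure ({⟨a, haH⟩, ⟨b, hbH⟩} : Set H) = ⊤ := by
    apply Subgroup.map_injective H.subtype_injective
    rw [MonoidHom.map_closure, ← MonoidHom.range_eq_map, Subgroup.range_subtype, Set.image_pair]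
    exact hab.symm
  have hE : ∀ v : V, v ^ p = 1 := by
    intro v
    apply Subtype.ext
    rw [Subgroup.coe_pow, Subgroup.coe_one]
    exact hVp v v.2
  have hinj : Function.Injective (S0593.conjAut V H hHV) := by
    rw [injective_iff_map_eq_one]
    intro g hg
    have hgc : (g : G) ∈ H ⊓ Subgroup.centralizer (V : Set G) := by
      refine ⟨g.2, (?_ : (g : G) ∈ Subgroup.centralizer (V : Set G))⟩
      rw [Subgroup.mem_centralizer_iff]
      intro v hv
      have h1 := congrArg (fun f : MulAut ↥V => ((f ⟨v, hv⟩ : V) : G)) hg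
      simp only [S0593.conjAut_apply, MulAut.one_apply] at h1
      calc v * (g : G) = ((g : G) * v * (g : G)⁻¹) * (g : G) := by rw [h1]
        _ = (g : G) * v := by group
    rw [hf, Subgroup.mem_bot] at hgc
    exact Subtype.ext hgc
  have hquad : ∀ (c : G) (hc : c ∈ H), ⁅⁅V, Subgroup.zpowers c⁆, Subgroup.zpowers c⁆ = ⊥ →
      QuadA (S0593.conjAut V H hHV) ⟨c, hc⟩ := by
    intro c hc hq v
    rw [S0623.quad_iff] at hq
    have h1 := hq v v.2 1
    rw [zpow_one] at h1
    apply Subtype.ext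
    rw [S0593.conjAut_apply, Subgroup.coe_div, S0593.conjAut_apply]
    show c * (c * v * c⁻¹ / v) * c⁻¹ = c * v * c⁻¹ / v
    have h2 : c * (v : G) * c⁻¹ / v = ⁅(v : G), c⁆⁻¹ := by
      rw [commutatorElement_def, div_eq_mul_inv]; group
    rw [h2]
    have h3 : Commute (⁅(v : G), c⁆⁻¹) c := h1.inv_left
    rw [← h3.eq]
    group
  letI : Module (ZMod p) (Additive ↥V) := AddCommGroup.zmodModule (n := p) (by
    intro v
    show Additive.ofMul (v.toMul ^ p) = 0
    rw [hE]; rfl)
  haveI hNn : (Q.subgroupOf H).Normal := Subgroup.normal_subgroupOf_of_le_normalizer hQn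
  have hcardN : Nat.card (Q.subgroupOf H) = Nat.card Q :=
    Nat.card_congr (Subgroup.subgroupOfEquivOfLe hQH).toEquiv
  have hidx : ((⊥ : Subgroup H).relIndex (Q.subgroupOf H)).Coprime p := by
    rw [Subgroup.relIndex_bot_left, hcardN]
    exact hQ
  have hD : ¬ IsPGroup p (⁅Q.subgroupOf H, Subgroup.zpowers (⟨a, haH⟩ : H)⁆ : Subgroup H) := by
    intro hDp
    apply hQa
    have hle : ⁅Q.subgroupOf H, Subgroup.zpowers (⟨a, haH⟩ : H)⁆ ≤ Q.subgroupOf H :=
      Subgroup.commutator_le_left _ _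
    obtain ⟨j, hj⟩ := hDp.exists_card_eq
    have hdvd := Subgroup.card_dvd_of_le hle
    rw [hcardN, hj] at hdvd
    have h1 : p ^ j = 1 := Nat.Coprime.eq_one_of_dvd (Nat.Coprime.pow_left j hQ.symm) hdvd
    rw [h1] at hj
    have hbot : ⁅Q.subgroupOf H, Subgroup.zpowers (⟨a, haH⟩ : H)⁆ = ⊥ :=
      Subgroup.card_eq_one.mp hj
    have hmap := congrArg (Subgroup.map H.subtype) hbot
    rw [Subgroup.map_commutator, Subgroup.map_subgroupOf_eq_of_le hQH, MonoidHom.map_zpowers,
      Subgroup.map_bot] at hmap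
    exact hmap
  obtain ⟨h3, Y, f, hfs⟩ := quad_section_abs hp (S0593.conjAut V H hHV) hinj ⟨a, haH⟩ ⟨b, hbH⟩
    hgen (hquad a haH ha) (hquad b hbH hb) (Q.subgroupOf H) ⊥ IsPGroup.of_bot hidx hD
  exact ⟨h3, section_of_surj H Y f hfs⟩

end Cfsg.Agent.S0594
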