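import Cfsg.Statements.S5299

set_option autoImplicit false
universe u
open Cfsg

namespace Cfsg.Agent.S5299

open scoped Pointwise

theorem sylow_conj_into {M : Type*} [Group M] [Finite M] {p : ℕ} [Fact p.Prime] (S : Sylow p M)
    (Q : Subgroup M) (hQ : IsPGroup p Q) : ∃ m : M, ∀ y ∈ Q, m * y * m⁻¹ ∈ (S : Subgroup M) := by
  obtain ⟨R, hQR⟩ := hQ.exists_le_sylow
  obtain ⟨m, hm⟩ := MulAction.exists_smul_eq M R S
  refine ⟨m, fun y hy => ?_⟩
  have hyR : y ∈ (R : Subgroup M) := hQR hy
  have : m * y * m⁻¹ ∈ ((m • R : Sylow p M) : Subgroup M) := by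
    rw [Sylow.coe_subgroup_smul]
    exact Subgroup.smul_mem_pointwise_smul y (MulAut.conj m) (R : Subgroup M) hyR
  rw [hm] at this
  exact this

theorem involves_of_surj {G : Type*} {Q : Type*} [Group G] [Group Q] (K : Subgroup G) (f : K →* Q)
    (hf : Function.Surjective f) : Cfsg.Involves Q G := by
  have hR : (f.ker.map K.subtype).subgroupOf K = f.ker :=
    Subgroup.comap_map_eq_self_of_injective K.subtype_injective _
  have hN : ((f.ker.map K.subtype).subgroupOf K).Normal := by rw [hR]; infer_instance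
  refine ⟨K, f.ker.map K.subtype, hN, ⟨?_⟩⟩
  exact (QuotientGroup.quotientMulEquivOfEq hR).trans (QuotientGroup.quotientKerEquivOfSurjective f hf)

theorem involves_of_inj_surj {G : Type*} {Q : Type*} {P : Type*} [Group G] [Group Q] [Group P]
    (j : P →* G) (hj : Function.Injective j) (ρ : P →* Q) (hρ : Function.Surjective ρ) :
    Cfsg.Involves Q G := by
  apply involves_of_surj j.range (ρ.comp (MonoidHom.ofInjective hj).symm.toMonoidHom)
  intro q
  obtain ⟨x, rfl⟩ := hρ q
  refine ⟨MonoidHom.ofInjective hj x, ?_⟩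
  simp

/-- Let F be a saturated fusion system over a finite p-group S, H a finite group and Q a p-subgroup of H. If Q is not involved in S (no section of S is isomorphic to Q), then F is H-free: H is involved in no model of the normalizer system of a fully normalized centric subgroup. -/
theorem result {Ω : Type u} [Group Ω] {S : Subgroup Ω} [Finite S] (p : ℕ) [Fact p.Prime] (hS : IsPGroup p S)
    (F : Cfsg.FusionSystem S) (hF : F.IsSaturated p) (H : Type*) [Group H] [Finite H] (Q : Subgroup H) (hQ : IsPGroup p Q)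
    (hfree : ¬ Cfsg.Involves (↥Q) (↥S)) : F.IsSectionFree p H := by
  intro Q' _ _ N _ L _ ι hmodel hinv
  obtain ⟨hLfin, ⟨hιinj, -⟩, ⟨T, hT⟩, -⟩ := hmodel
  apply hfree
  obtain ⟨K, R, hRn, ⟨e⟩⟩ := hinv
  let π : K →* H := e.toMonoidHom.comp (QuotientGroup.mk' (R.subgroupOf K))
  have hπ : Function.Surjective π := e.surjective.comp (QuotientGroup.mk'_surjective _)
  let K1 : Subgroup K := Q.comap π
  let π1 : K1 →* Q := π.subgroupComap Q
  have hπ1 : Function.Surjective π1 := π.subgroupComap_surjective_of_surjective Q hπ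
  let P1 : Sylow p K1 := Sylow.nonempty.some
  have htop : ((P1.mapSurjective hπ1 : Sylow p Q) : Subgroup Q) = ⊤ := by
    have hQtop : IsPGroup p (⊤ : Subgroup Q) := hQ.to_subgroup ⊤
    exact ((P1.mapSurjective hπ1).is_maximal' hQtop le_top).symm
  let ρ : (P1 : Subgroup K1) →* Q := π1.comp (P1 : Subgroup K1).subtype
  have hρ : Function.Surjective ρ := by
    intro q
    have hq : q ∈ ((P1.mapSurjective hπ1 : Sylow p Q) : Subgroup Q) := by rw [htop]; exact Subgroup.mem_top q
    rw [Sylow.coe_mapSurjective] at hq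
    obtain ⟨x, hx, rfl⟩ := hq
    exact ⟨⟨x, hx⟩, rfl⟩
  let incl : (P1 : Subgroup K1) →* L := K.subtype.comp (K1.subtype.comp (P1 : Subgroup K1).subtype)
  have hincl : Function.Injective incl :=
    K.subtype_injective.comp (K1.subtype_injective.comp (P1 : Subgroup K1).subtype_injective)
  have hrp : IsPGroup p incl.range := by
    exact P1.isPGroup'.of_surjective incl.rangeRestrict incl.rangeRestrict_surjective
  obtain ⟨l, hl⟩ := sylow_conj_into T incl.range hrp
  have hmem : ∀ x : (P1 : Subgroup K1), l * incl x * l⁻¹ ∈ ι.range := by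
    intro x
    rw [← hT]
    exact hl _ ⟨x, rfl⟩
  let j0 : (P1 : Subgroup K1) →* ι.range :=
    ((MulAut.conj l).toMonoidHom.comp incl).codRestrict ι.range hmem
  have hj0 : Function.Injective j0 := by
    intro x y hxy
    have h1 := congrArg Subtype.val hxy
    have h2 : l * incl x * l⁻¹ = l * incl y * l⁻¹ := h1
    exact hincl (mul_left_cancel (mul_right_cancel h2))
  let j : (P1 : Subgroup K1) →* S :=
    (Subgroup.inclusion (inf_le_left : Cfsg.FusionSystem.normalizerIn S Q' ≤ S)).comp
      ((MonoidHom.ofInjective hιinj).symm.toMonoidHom.comp j0)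
  have hj : Function.Injective j := by
    intro x y hxy
    have h1 : (MonoidHom.ofInjective hιinj).symm (j0 x) = (MonoidHom.ofInjective hιinj).symm (j0 y) :=
      Subgroup.inclusion_injective (inf_le_left : Cfsg.FusionSystem.normalizerIn S Q' ≤ S) hxy
    exact hj0 ((MonoidHom.ofInjective hιinj).symm.injective h1)
  exact involves_of_inj_surj j hj ρ hρ

end Cfsg.Agent.S5299
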