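import Cfsg.Statements.S0657
import Cfsg.Agent.Lib.Helper10.NPStab3

set_option autoImplicit false
open Cfsg

namespace Cfsg.Agent.S0657

open Cfsg.Agent.Lib.Helper5 Cfsg.Agent.Lib.Helper10.NPStab

theorem nps_of_sl2free {Q : Type*} [Group Q] [Finite Q] {p : ℕ} [Fact p.Prime] (hp : p ≠ 2)
    (h : ¬ Cfsg.Involves (Matrix.SpecialLinearGroup (Fin 2) (ZMod p)) Q) :
    Cfsg.IsNormalizerPStable p Q := by
  apply isNormalizerPStable_of_abs
  intro P _ _ M _
  apply absPStable_of_sl2free hp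
  intro hinv
  apply h
  exact involves_of_inj_surj_trans (Subgroup.normalizer (P : Set Q)).subtype
    (Subgroup.normalizer (P : Set Q)).subtype_injective (QuotientGroup.mk' M)
    (QuotientGroup.mk'_surjective M) hinv

theorem isPStable_of_nps {Q : Type*} [Group Q] {p : ℕ} [Fact p.Prime] (hp : p ≠ 2)
    (hO : Cfsg.pCore p Q ≠ ⊥) (h : Cfsg.IsNormalizerPStable p Q) : Cfsg.IsPStable p Q := by
  refine ⟨(Fact.out : p.Prime).odd_of_ne_two hp, hO, ?_⟩
  intro A P hA hP hnorm _ _ hquad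
  rintro _ ⟨⟨a, haN⟩, haA, rfl⟩
  have haA' : a ∈ A := haA
  have hq : ⁅⁅P, Subgroup.zpowers a⁆, Subgroup.zpowers a⁆ = ⊥ := by
    rw [eq_bot_iff, ← hquad]
    have hz : Subgroup.zpowers a ≤ A := by
      rw [Subgroup.zpowers_le]; exact haA'
    exact Subgroup.commutator_mono (Subgroup.commutator_mono le_rfl hz) hz
  exact h P hP a haN hq

theorem result {G : Type*} [Group G] [Finite G] {p : ℕ} [Fact p.Prime] (hp : p ≠ 2) (hO : Cfsg.pPrimeCore p G < Cfsg.pPrimePCore p G) (hns : ¬ Cfsg.IsPStable p (G ⧸ Cfsg.pPrimeCore p G)) : ∃ (K L : Subgroup G) (hL : (L.subgroupOf K).Normal), K ≤ ⊤ ∧ Nonempty ((K ⧸ L.subgroupOf K) ≃* Matrix.SpecialLinearGroup (Fin 2) (ZMod p)) := by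
  by_contra hcon
  apply hns
  have hcore : Cfsg.pCore p (G ⧸ Cfsg.pPrimeCore p G) ≠ ⊥ := by
    intro hbot
    have h1 : Cfsg.pPrimePCore p G = Cfsg.pPrimeCore p G := by
      show (Cfsg.pCore p (G ⧸ Cfsg.pPrimeCore p G)).comap (QuotientGroup.mk' (Cfsg.pPrimeCore p G)) = _
      rw [hbot, MonoidHom.comap_bot, QuotientGroup.ker_mk']
    rw [h1] at hO
    exact lt_irrefl _ hO
  apply isPStable_of_nps hp hcore
  apply nps_of_sl2free hp
  intro hinv
  apply hcon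
  obtain ⟨K, L, hL, hne⟩ := Cfsg.Agent.Lib.Helper1.GNPC2.involves_of_quotient' _ hinv
  exact ⟨K, L, hL, le_top, hne⟩

end Cfsg.Agent.S0657
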