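import Cfsg.Statements.S1458
import Cfsg.Agent.Lib.Helper1.GNPC3.ZEGen2
import Cfsg.Agent.Lib.Helper9.ZJ9
import Cfsg.Agent.Lib.Helper10.PPrimeLocal
import Cfsg.Agent.Lib.helper15.SL2Card
import Cfsg.Agent.S0657

set_option autoImplicit false
open Cfsg

namespace Cfsg.Agent.S1458

theorem sl2_even (p : ℕ) [Fact p.Prime] (hp2 : p ≠ 2) :
    2 ∣ Nat.card (Matrix.SpecialLinearGroup (Fin 2) (ZMod p)) := by
  rw [Cfsg.Agent.Lib.helper15.card_SL2, ZMod.card]
  have hp : p.Prime := Fact.out
  have hodd : Odd p := hp.odd_of_ne_two hp2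
  obtain ⟨k, hk⟩ := hodd
  apply Dvd.dvd.mul_left
  have h1 : p ^ 2 - 1 = 2 * (2 * k * k + 2 * k) := by
    rw [hk]
    have : (2 * k + 1) ^ 2 = 2 * (2 * k * k + 2 * k) + 1 := by ring
    rw [this, Nat.add_sub_cancel]
  rw [h1]
  exact Dvd.intro _ rfl

/-- Let G be a solvable group of odd order, p a prime and S a Sylow p-subgroup of G. Then the subgroup generated by the centre of the Thompson subgroup of S and O_{p'}(G) is normal in G. -/
theorem result {G : Type*} [Group G] [Finite G] [Group.IsSolvable G] (hodd : Odd (Nat.card G)) (p : ℕ) [Fact p.Prime] (S : Sylow p G) :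
    (Cfsg.centerThompsonOf p (S : Subgroup G) ⊔ Cfsg.pPrimeCore p G).Normal := by
  have hNn : (Cfsg.pPrimeCore p G).Normal := Cfsg.Agent.Lib.Helper1.pPrimeCore_normal p
  have htop_case : Cfsg.pPrimeCore p G = ⊤ →
      (Cfsg.centerThompsonOf p (S : Subgroup G) ⊔ Cfsg.pPrimeCore p G).Normal := by
    intro htop
    rw [htop, sup_top_eq]
    exact Subgroup.normal_top
  by_cases hp2 : p = 2
  · apply htop_case
    rw [eq_top_iff]
    apply le_sSup
    refine ⟨Subgroup.normal_top, ?_⟩
    rw [Nat.card_congr Subgroup.topEquiv.toEquiv, hp2]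
    exact (Nat.coprime_two_right).mpr hodd
  · have hc := Cfsg.Agent.Lib.Helper10.centralizer_pCore_le_of_isSolvable (H := G) p
    by_cases hO : Cfsg.pPrimeCore p G < Cfsg.pPrimePCore p G
    · have hs : Cfsg.IsPStable p (G ⧸ Cfsg.pPrimeCore p G) := by
        by_contra hns
        obtain ⟨K, L, hL, -, ⟨e⟩⟩ := Cfsg.Agent.S0657.result hp2 hO hns
        have h1 : Nat.card (K ⧸ L.subgroupOf K) =
            Nat.card (Matrix.SpecialLinearGroup (Fin 2) (ZMod p)) := Nat.card_congr e.toEquiv
        have h2 : Nat.card (K ⧸ L.subgroupOf K) ∣ Nat.card K := Subgroup.card_quotient_dvd_card _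
        have h3 : Nat.card K ∣ Nat.card G := Subgroup.card_subgroup_dvd_card K
        have h4 := sl2_even p hp2
        rw [← h1] at h4
        exact hodd.not_two_dvd_nat (h4.trans (h2.trans h3))
      have h0 : Cfsg.pPrimeCore p (G ⧸ Cfsg.pPrimeCore p G) = ⊥ :=
        Cfsg.Agent.Lib.Helper1.pPrimeCore_quotient_eq_bot p
      have hst := Cfsg.Agent.Lib.Helper9.hst_of_isPStable hs h0
        (Sylow.mapSurjective (QuotientGroup.mk'_surjective (Cfsg.pPrimeCore p G)) S)
      have hn := Cfsg.Agent.Lib.Helper1.GNPC3.ze_normal_gen hp2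
        (Sylow.mapSurjective (QuotientGroup.mk'_surjective (Cfsg.pPrimeCore p G)) S) hc hst
      rw [Sylow.coe_mapSurjective, Cfsg.Agent.Lib.Helper1.GNPC3.ZE_map p
        (QuotientGroup.mk' (Cfsg.pPrimeCore p G))
        (Cfsg.Agent.Lib.Helper1.TNPC.injOn_mk_of_coprime (Cfsg.pPrimeCore p G)
          (Cfsg.Agent.Lib.Helper1.pPrimeCore_card_coprime p) S S.isPGroup')] at hn
      have h5 := hn.comap (QuotientGroup.mk' (Cfsg.pPrimeCore p G))
      rw [Subgroup.comap_map_eq, QuotientGroup.ker_mk'] at h5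
      rw [Cfsg.Agent.Lib.Helper1.GNPC3.centerThompsonOf_eq]
      exact h5
    · apply htop_case
      have hle : Cfsg.pPrimeCore p G ≤ Cfsg.pPrimePCore p G := by
        intro x hx
        show x ∈ (Cfsg.pCore p (G ⧸ Cfsg.pPrimeCore p G)).comap
          (QuotientGroup.mk' (Cfsg.pPrimeCore p G))
        rw [Subgroup.mem_comap]
        have : (QuotientGroup.mk' (Cfsg.pPrimeCore p G)) x = 1 :=
          (QuotientGroup.eq_one_iff x).mpr hx
        rw [this]
        exact Subgroup.one_mem _
      have heq : Cfsg.pPrimePCore p G ≤ Cfsg.pPrimeCore p G := by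
        by_contra hne
        exact hO (lt_of_le_not_ge hle hne)
      have hbot : Cfsg.pCore p (G ⧸ Cfsg.pPrimeCore p G) = ⊥ := by
        rw [eq_bot_iff]
        intro y hy
        obtain ⟨g, rfl⟩ := QuotientGroup.mk'_surjective (Cfsg.pPrimeCore p G) y
        have hg : g ∈ Cfsg.pPrimePCore p G := hy
        rw [Subgroup.mem_bot]
        exact (QuotientGroup.eq_one_iff g).mpr (heq hg)
      rw [eq_top_iff]
      intro g _
      have h6 : (QuotientGroup.mk' (Cfsg.pPrimeCore p G)) g ∈
          Subgroup.centralizer ((Cfsg.pCore p (G ⧸ Cfsg.pPrimeCore p G) : Subgroup _) : Set _) := by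
        rw [hbot, Subgroup.mem_centralizer_iff]
        intro h hh
        have hh' : h = 1 := hh
        rw [hh', one_mul, mul_one]
      have h7 := hc h6
      rw [hbot, Subgroup.mem_bot] at h7
      exact (QuotientGroup.eq_one_iff g).mp h7

end Cfsg.Agent.S1458
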