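import Cfsg.Statements.S1396
import Cfsg.Agent.Lib.Helper11.ThompsonTransOdd
import Cfsg.Agent.Lib.Helper11.PiCore

set_option autoImplicit false
open Cfsg

namespace Cfsg.Agent.S1396

/-- Let G be a minimal simple group of odd order, p a prime dividing the order of G and A an abelian p-subgroup. Suppose either (1) A consists exactly of the elements x of C_G(A) with x^p = 1, and every proper subgroup of G has p-length at most one, or (2) A is normal and self-centralizing in some Sylow p-subgroup of G and has rank at least 2. Then A satisfies the transitivity hypothesis. -/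
theorem result {G : Type*} [Group G] [Finite G] (hG : Cfsg.IsMinSimpleOddOrder G)
    (p : ℕ) [Fact p.Prime] (hp : p ∣ Nat.card G) (A : Subgroup G) (hAp : IsPGroup p A) (hAc : IsMulCommutative A)
    (h : (∀ x ∈ Subgroup.centralizer (A : Set G), x ^ p = 1 ↔ x ∈ A) ∧ (∀ H : Subgroup G, H ≠ ⊤ → Cfsg.PLengthLE p 1 H) ∨
      ∃ P : Sylow p G, Cfsg.IsSCN (P : Subgroup G) A ∧ ¬ Cfsg.PRankLE p 1 A) :
    Cfsg.TransitivityHypothesis A := by
  have hpp : p.Prime := Fact.out
  obtain ⟨hodd, hsimple, hnonab, hsolv⟩ := hG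
  have hp2 : p ≠ 2 := by
    rintro rfl
    exact (Nat.not_even_iff_odd.mpr hodd) (even_iff_two_dvd.mpr hp)
  -- elements of order dividing `p` in the centralizer
  have hfullΩ : ∀ x ∈ Subgroup.centralizer (A : Set G), x ^ p = 1 → x ∈ A := by
    rcases h with ⟨h1, _⟩ | ⟨P, hscn, _⟩
    · intro x hx hxp
      exact (h1 x hx).mp hxp
    · intro x hx hxp
      apply Cfsg.Agent.Lib.Helper11.scn_full p P A hscn.2.1 hscn.2.2 x hx
      apply IsPGroup.of_card (n := (Nat.factorization (orderOf x)) p)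
      rw [Nat.card_zpowers]
      obtain ⟨j, _, hj⟩ := (Nat.dvd_prime_pow hpp).mp
        (by rw [pow_one]; exact orderOf_dvd_of_pow_eq_one hxp : orderOf x ∣ p ^ 1)
      rw [hj]
      simp [hpp.factorization_pow]
  have hAne : A ≠ ⊥ := by
    rintro rfl
    obtain ⟨x, hx⟩ := exists_prime_orderOf_dvd_card' (G := G) p hp
    have hx1 : x ∈ (⊥ : Subgroup G) := by
      apply hfullΩ x
      · rw [Subgroup.mem_centralizer_iff]
        intro h hh
        rw [SetLike.mem_coe, Subgroup.mem_bot] at hh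
        rw [hh]; simp
      · rw [← hx, pow_orderOf_eq_one]
    rw [Subgroup.mem_bot] at hx1
    rw [hx1, orderOf_one] at hx
    exact hpp.one_lt.ne hx
  have hAtop : A ≠ ⊤ := by
    rintro rfl
    apply hnonab
    refine ⟨⟨fun x y => ?_⟩⟩
    have := hAc.is_comm.comm (⟨x, Subgroup.mem_top x⟩ : (⊤ : Subgroup G)) ⟨y, Subgroup.mem_top y⟩
    exact congrArg Subtype.val this
  obtain ⟨k, hk⟩ := (IsPGroup.iff_card).mp hAp
  have hk0 : k ≠ 0 := by
    rintro rfl
    rw [pow_zero] at hk
    exact hAne ((Subgroup.card_eq_one).mp hk)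
  have hπ : ∀ r : ℕ, r.Prime → (r ∈ Cfsg.primesNotDvd (Nat.card A) ↔ r ≠ p) := by
    intro r hr
    unfold Cfsg.primesNotDvd
    simp only [Set.mem_setOf_eq, hr, true_and, hk]
    constructor
    · rintro h rfl
      exact h (dvd_pow_self r hk0)
    · intro hne hd
      exact hne ((Nat.prime_dvd_prime_iff_eq hr hpp).mp (hr.dvd_of_dvd_pow hd))
  refine ⟨hAne, hAtop, ?_⟩
  intro X hX hAX
  have hXsolv : Group.IsSolvable X := hsolv X hX
  have hcore : Cfsg.piCore (Cfsg.primesNotDvd (Nat.card A)) ↥X = Cfsg.pPrimeCore p ↥X :=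
    Cfsg.Agent.Lib.Helper11.piCore_eq_pPrimeCore _ p hpp hπ
  apply le_antisymm
  · apply sSup_le
    rintro Y ⟨hYX, hYπ, hAY⟩
    have hXc : Cfsg.IsPConstrained p ↥X := Cfsg.Agent.Lib.Helper11.isPConstrained_of_isSolvable p
    have hQ : (Nat.card (Y.subgroupOf X)).Coprime p := by
      rw [Nat.card_congr (Subgroup.subgroupOfEquivOfLe hYX).toEquiv, Nat.coprime_comm,
        Nat.Prime.coprime_iff_not_dvd hpp]
      intro hd
      exact (hπ p hpp).mp (hYπ p hpp hd) rfl
    have hAQ : A.subgroupOf X ≤ Subgroup.normalizer ((Y.subgroupOf X : Subgroup ↥X) : Set ↥X) := by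
      intro e he
      rw [Subgroup.mem_subgroupOf] at he
      rw [Subgroup.mem_normalizer_iff]
      intro x
      rw [Subgroup.mem_subgroupOf, Subgroup.mem_subgroupOf]
      exact Subgroup.mem_normalizer_iff.mp (hAY he) x
    have hres := Cfsg.Agent.Lib.Helper11.inv_le_pPrimeCore p hXc (A.subgroupOf X) (Y.subgroupOf X)
      hAp.comap_subtype hQ hAQ (Or.inl ⟨hp2, by
        intro x hx hxp
        rw [Subgroup.mem_subgroupOf]
        apply hfullΩ
        · rw [Subgroup.mem_centralizer_iff]
          intro e he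
          have := (Subgroup.mem_centralizer_iff.mp hx) ⟨e, hAX he⟩ (by
            rw [SetLike.mem_coe, Subgroup.mem_subgroupOf]; exact he)
          exact congrArg Subtype.val this
        · have h3 := congrArg Subtype.val hxp
          simpa using h3⟩)
    intro y hy
    unfold Cfsg.piCoreOf
    rw [hcore]
    exact ⟨⟨y, hYX hy⟩, hres (by rw [Subgroup.mem_subgroupOf]; exact hy), rfl⟩
  · apply le_sSup
    refine ⟨Cfsg.Agent.Lib.Helper11.piCoreOf_le _ X, ?_, ?_⟩
    · exact Cfsg.Agent.Lib.Helper11.piCoreOf_piNum _ X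
    · exact hAX.trans (Cfsg.Agent.Lib.Helper11.le_normalizer_piCoreOf _ X)

end Cfsg.Agent.S1396
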