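import Cfsg.Statements.S1482
import Mathlib
import Cfsg.Agent.Lib.Helper11.MaxSubC

set_option autoImplicit false
open Cfsg

namespace Cfsg.Agent.S1482
open Cfsg.Agent.Lib.Helper11 Cfsg.Agent.Lib.Helper11.MaxLocA Cfsg.Agent.Lib.Helper11.MaxLocB
  Cfsg.Agent.Lib.Helper11.MaxSubA Cfsg.Agent.Lib.Helper11.MaxSubB Cfsg.Agent.Lib.Helper11.MaxSubC
  Cfsg.Agent.Lib.Helper18 Cfsg.Agent.Lib.Helper1.GNPC3


/-- Let G be a minimal simple group of odd order, H a maximal subgroup whose Fitting subgroup F has at least two prime divisors, and M a subgroup of F containing the centre of F such that the only M-invariant subgroup of G of order coprime to #F is the trivial one. Then H is the only maximal subgroup of G containing M. -/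
theorem result {G : Type*} [Group G] [Finite G] (hG : Cfsg.IsMinSimpleOddOrder G) (H : Subgroup G) (hH : IsCoatom H) (hF2 : 2 ≤ (Nat.card (Cfsg.fittingOf H)).primeFactors.card)
    (M : Subgroup G) (hM : M ≤ Cfsg.fittingOf H) (hZM : Cfsg.fittingOf H ⊓ Subgroup.centralizer (Cfsg.fittingOf H : Set G) ≤ M)
    (hinv : ∀ Y ∈ Cfsg.invSubgroups ⊤ M (Cfsg.primesNotDvd (Nat.card (Cfsg.fittingOf H))), Y = ⊥) :
    ∀ L : Subgroup G, IsCoatom L → M ≤ L → L = H := by
  classical
  intro L hL hML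
  obtain ⟨p1, hp1m, p2, hp2m, hp12⟩ := Finset.one_lt_card.mp (show 1 < _ from hF2)
  obtain ⟨hp1, hp1d, -⟩ := Nat.mem_primeFactors.mp hp1m
  obtain ⟨hp2, hp2d, -⟩ := Nat.mem_primeFactors.mp hp2m
  have hother : ∀ p : ℕ, ∃ r : ℕ, r.Prime ∧ r ≠ p ∧ r ∣ Nat.card (Cfsg.fittingOf H) := by
    intro p
    by_cases h : p = p1
    · exact ⟨p2, hp2, by rw [h]; exact hp12.symm, hp2d⟩
    · exact ⟨p1, hp1, fun h' => h h'.symm, hp1d⟩
  have hzM : ∀ p : ℕ, zP H p ≤ M := fun p z hz => hZM (Subgroup.mem_inf.mpr ⟨hz.1, hz.2.1⟩)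
  have hzL : ∀ p : ℕ, zP H p ≤ L := fun p => (hzM p).trans hML
  have hzz : ∀ p r : ℕ, ∀ a ∈ zP H r, ∀ b ∈ zP H p, a * b = b * a := by
    intro p r a ha b hb
    exact Subgroup.mem_centralizer_iff.mp hb.2.1 a ha.1
  -- Step 1
  have hstep1 : ∀ (r : ℕ) [Fact r.Prime], ¬ r ∣ Nat.card (Cfsg.fittingOf H) → fP L r = ⊥ := by
    intro r hr hrd
    apply hinv
    refine ⟨le_top, ?_, hML.trans (le_normalizer_fP L r)⟩
    intro p hp hpd
    obtain ⟨k, hk⟩ := IsPGroup.iff_card.mp (fP_isPGroup L r)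
    rw [hk] at hpd
    have : p = r := (Nat.prime_dvd_prime_iff_eq hp hr.out).mp (hp.dvd_of_dvd_pow hpd)
    rw [this]
    exact ⟨hr.out, hrd⟩
  -- Step 2
  have hstep2 : ∀ (p r : ℕ) [Fact p.Prime] [Fact r.Prime], p ≠ r →
      p ∣ Nat.card (Cfsg.fittingOf H) →
      ∀ a ∈ zP H r, ∀ x ∈ fP L p, a * x = x * a := by
    intro p r hp hr hpr hpd
    apply lemB p (fP L p) (zP H r) (zP H p) H (fP_isPGroup L p) (zP_isPGroup H p)
    · obtain ⟨k, hk⟩ := IsPGroup.iff_card.mp (zP_isPGroup H r)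
      rw [hk]
      exact Nat.Coprime.pow_left k ((Nat.coprime_primes hr.out hp.out).mpr (Ne.symm hpr))
    · exact (hzL r).trans (le_normalizer_fP L p)
    · exact (hzL p).trans (le_normalizer_fP L p)
    · exact hzz p r
    · exact le_normalizer_zP H r
    · exact centralizer_zP_le' hG H hH p hpd
  have hEH : ∀ (p : ℕ) [Fact p.Prime], fP L p ≤ H := by
    intro p hp
    by_cases hpd : p ∣ Nat.card (Cfsg.fittingOf H)
    · obtain ⟨r, hr, hrp, hrd⟩ := hother p
      have : Fact r.Prime := ⟨hr⟩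
      intro x hx
      apply centralizer_zP_le' hG H hH r hrd
      rw [Subgroup.mem_centralizer_iff]
      intro a ha
      exact hstep2 p r (Ne.symm hrp) hpd a ha x hx
    · rw [hstep1 p hpd]
      exact bot_le
  have hLs := coatom_solvable hG L hL
  -- Step 2''
  have hEne : ∀ (r : ℕ) [Fact r.Prime], r ∣ Nat.card (Cfsg.fittingOf H) → fP L r ≠ ⊥ := by
    intro r hr hrd hbot
    apply zP_ne_bot H r hrd
    rw [eq_bot_iff]
    intro z hz
    have hzC : z ∈ Subgroup.centralizer (Cfsg.fittingOf L : Set G) := by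
      rw [Subgroup.mem_centralizer_iff]
      intro y hy
      have key : y ∈ Subgroup.centralizer ({z} : Set G) := by
        apply gl_mem _ (orderOf y) y rfl (orderOf_pos y)
        intro h hh p hp hpd hk
        have : Fact p.Prime := ⟨hp⟩
        have hhE : h ∈ fP L p := ⟨(Subgroup.zpowers_le.mpr hy) hh, hk⟩
        rw [Subgroup.mem_centralizer_iff]
        intro g hg
        rw [Set.mem_singleton_iff] at hg
        rw [hg]
        by_cases hpr : p = r
        · subst hpr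
          rw [hbot, Subgroup.mem_bot] at hhE
          rw [hhE, mul_one, one_mul]
        · by_cases hpF : p ∣ Nat.card (Cfsg.fittingOf H)
          · exact hstep2 p r hpr hpF z hz h hhE
          · rw [hstep1 p hpF, Subgroup.mem_bot] at hhE
            rw [hhE, mul_one, one_mul]
      rw [Subgroup.mem_centralizer_iff] at key
      exact (key z rfl).symm
    have hzE : z ∈ Cfsg.fittingOf L :=
      inf_centralizer_le hG L hL (Subgroup.mem_inf.mpr ⟨hzL r hz, hzC⟩)
    have : z ∈ fP L r := ⟨hzE, hz.2.2⟩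
    rwa [hbot] at this
  have hdvd : ∀ (r : ℕ) [Fact r.Prime], r ∣ Nat.card (Cfsg.fittingOf H) ↔
      r ∣ Nat.card (Cfsg.fittingOf L) := by
    intro r hr
    constructor
    · intro h
      exact dvd_of_fP_ne_bot L r (hEne r h)
    · intro h
      by_contra hn
      exact fP_ne_bot L r h (hstep1 r hn)
  have hotherL : ∀ p : ℕ, ∃ r : ℕ, r.Prime ∧ r ≠ p ∧ r ∣ Nat.card (Cfsg.fittingOf L) := by
    intro p
    obtain ⟨r, hr, hrp, hrd⟩ := hother p
    have : Fact r.Prime := ⟨hr⟩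
    exact ⟨r, hr, hrp, (hdvd r).mp hrd⟩
  -- Part II
  have hFL : ∀ (p : ℕ) [Fact p.Prime], fP H p ≤ L := by
    intro p hp
    by_cases hpd : p ∣ Nat.card (Cfsg.fittingOf H)
    · obtain ⟨r, hr, hrp, hrd⟩ := hotherL p
      have : Fact r.Prime := ⟨hr⟩
      have hpdL := (hdvd p).mp hpd
      have h1 : ∀ a ∈ zP L r, ∀ x ∈ fP H p, a * x = x * a := by
        apply lemB p (fP H p) (zP L r) (zP L p) L (fP_isPGroup H p) (zP_isPGroup L p)
        · obtain ⟨k, hk⟩ := IsPGroup.iff_card.mp (zP_isPGroup L r)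
          rw [hk]
          exact Nat.Coprime.pow_left k ((Nat.coprime_primes hr hp.out).mpr hrp)
        · exact ((zP_le_fP L r).trans (hEH r)).trans (le_normalizer_fP H p)
        · exact ((zP_le_fP L p).trans (hEH p)).trans (le_normalizer_fP H p)
        · intro a ha b hb
          exact Subgroup.mem_centralizer_iff.mp hb.2.1 a ha.1
        · exact le_normalizer_zP L r
        · exact centralizer_zP_le' hG L hL p hpdL
      intro x hx
      apply centralizer_zP_le' hG L hL r hrd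
      rw [Subgroup.mem_centralizer_iff]
      intro a ha
      exact h1 a ha x hx
    · have : fP H p = ⊥ := by
        by_contra hne
        exact hpd (dvd_of_fP_ne_bot H p hne)
      rw [this]
      exact bot_le
  -- commuting of the different primary parts
  have hcomm : ∀ (p q : ℕ) [Fact p.Prime] [Fact q.Prime], p ≠ q →
      ∀ a ∈ fP L p, ∀ b ∈ fP H q, a * b = b * a := by
    intro p q hp hq hpq a ha b hb
    by_cases hpd : p ∣ Nat.card (Cfsg.fittingOf H)
    · have h1 : ∀ b ∈ fP H q, ∀ x ∈ fP L p, b * x = x * b := by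
        apply lemB p (fP L p) (fP H q) (zP H p) H (fP_isPGroup L p) (zP_isPGroup H p)
        · obtain ⟨k, hk⟩ := IsPGroup.iff_card.mp (fP_isPGroup H q)
          rw [hk]
          exact Nat.Coprime.pow_left k ((Nat.coprime_primes hq.out hp.out).mpr (Ne.symm hpq))
        · exact (hFL q).trans (le_normalizer_fP L p)
        · exact (hzL p).trans (le_normalizer_fP L p)
        · intro a ha b hb
          exact Subgroup.mem_centralizer_iff.mp hb.2.1 a ha.1
        · exact le_normalizer_fP H q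
        · exact centralizer_zP_le' hG H hH p hpd
      exact (h1 b hb a ha).symm
    · rw [hstep1 p hpd, Subgroup.mem_bot] at ha
      rw [ha, mul_one, one_mul]
  -- Part III
  obtain ⟨q, hq⟩ : ∃ q : ℕ, q = p1 := ⟨_, rfl⟩
  obtain ⟨p0, hp0⟩ : ∃ p0 : ℕ, p0 = p2 := ⟨_, rfl⟩
  have hqF : Fact q.Prime := ⟨hq ▸ hp1⟩
  have hp0F : Fact p0.Prime := ⟨hp0 ▸ hp2⟩
  have hp0q : p0 ≠ q := by rw [hq, hp0]; exact hp12.symm
  have hqd : q ∣ Nat.card (Cfsg.fittingOf H) := hq ▸ hp1d
  have hp0d : p0 ∣ Nat.card (Cfsg.fittingOf H) := hp0 ▸ hp2d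
  have hp0dL := (hdvd p0).mp hp0d
  obtain ⟨S0⟩ : Nonempty (Sylow q ↥(cQ H q)) := inferInstance
  obtain ⟨S, hS⟩ : ∃ S : Subgroup G, S = (S0 : Subgroup ↥(cQ H q)).map (cQ H q).subtype := ⟨_, rfl⟩
  have hSH : IsSylowIn q S (cQ H q) := hS ▸ isSylowIn_of_sylow S0
  have hAB : ∀ (T : Subgroup G), T ≤ cQ H q → IsPGroup q T → T ≤ cQ L q :=
    qsub_le_cQ hG H L hH q p0 hp0q hp0d hEH (fun p _ hpq => hcomm p q hpq)
  have hBA : ∀ (T : Subgroup G), T ≤ cQ L q → IsPGroup q T → T ≤ cQ H q := by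
    apply qsub_le_cQ hG L H hL q p0 hp0q hp0dL hFL
    intro p hp hpq a ha b hb
    exact (hcomm q p (Ne.symm hpq) b hb a ha).symm
  have hSL : IsSylowIn q S (cQ L q) := by
    have hSle : S ≤ cQ L q := hAB S hSH.le hSH.isPGroup
    have hSp' : IsPGroup q (S.subgroupOf (cQ L q)) := hSH.isPGroup.comap_subtype
    obtain ⟨S1, hS1⟩ := hSp'.exists_le_sylow
    have h1 := isSylowIn_of_sylow S1
    have hle : S ≤ (S1 : Subgroup ↥(cQ L q)).map (cQ L q).subtype := by
      intro x hx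
      exact ⟨⟨x, hSle hx⟩, hS1 (by simpa [Subgroup.mem_subgroupOf] using hx), rfl⟩
    have h2 := hSH.eq_of_le (hBA _ h1.le h1.isPGroup) h1.isPGroup hle
    rw [h2] at h1
    exact h1
  have hHN := le_normalizer_ZE hG H hH p0 q hp0q hp0d S hSH
  have hLN := le_normalizer_ZE hG L hL p0 q hp0q hp0dL S hSL
  have hcH := cQ_le hG H hH p0 q hqF.out hp0q hp0d
  have hS1 : S ≠ ⊥ := by
    intro hbot
    obtain ⟨x, hx, hle⟩ := hSH.exists_conj_le (fP_le_cQ H q) (fP_isPGroup H q)
    rw [hbot, le_bot_iff] at hle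
    have h1 := Cfsg.Agent.Lib.Helper18.card_conjSub x (fP H q)
    rw [hle, Subgroup.card_bot] at h1
    exact fP_ne_bot H q hqd (Subgroup.card_eq_one.mp h1.symm)
  have hZ1 : ZE q S ≠ ⊥ := ZE_ne_bot hSH.isPGroup hS1
  have hZ2 : ZE q S ≠ ⊤ := by
    intro htop
    have : (⊤ : Subgroup G) ≤ H := htop ▸ ((ZE_le q S).trans (hSH.le.trans hcH))
    exact hH.1 (top_le_iff.mp this)
  have e1 := normalizer_eq_of_coatom hG H hH _ hZ1 hZ2 hHN
  have e2 := normalizer_eq_of_coatom hG L hL _ hZ1 hZ2 hLN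
  rw [← e2, e1]

end Cfsg.Agent.S1482
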