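import Cfsg.Statements.S1397
import Mathlib
import Cfsg.Agent.Lib.Helper11.MaxSubE
import Cfsg.Agent.S1482
import Cfsg.Agent.S1396

set_option autoImplicit false
open Cfsg

namespace Cfsg.Agent.S1397
open Cfsg.Agent.Lib.Helper11 Cfsg.Agent.Lib.Helper11.MaxLocA Cfsg.Agent.Lib.Helper11.MaxLocB
  Cfsg.Agent.Lib.Helper11.MaxSubA Cfsg.Agent.Lib.Helper11.MaxSubB Cfsg.Agent.Lib.Helper11.MaxSubC
  Cfsg.Agent.Lib.Helper11.MaxSubD Cfsg.Agent.Lib.Helper11.MaxSubE
  Cfsg.Agent.Lib.Helper18 Cfsg.Agent.Lib.Helper1.GNPC3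


/-- Let G be a minimal simple group of odd order, M a maximal subgroup, p a prime and A₀ an elementary abelian p-subgroup of F(M) of order at least p ^ 3 that is maximal among elementary abelian p-subgroups of F(M). (a) If F(M) is not a p-group, then F(M) ∩ C_G(A₀) lies in exactly one maximal subgroup of G. (b) If F(M) is a p-group and P is a Sylow p-subgroup of M, then p does not divide the index of P in G, and every normal self-centralizing subgroup A of P containing an elementary abelian subgroup of order p ^ 3 is contained in F(M) and lies in exactly one maximal subgroup of G. -/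
theorem result {G : Type*} [Group G] [Finite G] (hG : Cfsg.IsMinSimpleOddOrder G)
    (M : Subgroup G) (hM : IsCoatom M) (p : ℕ) [Fact p.Prime] (A₀ : Subgroup G)
    (hA₀ : A₀ ≤ Cfsg.fittingOf M) (hA₀e : Cfsg.IsElementaryAbelian p A₀) (hA₀3 : p ^ 3 ≤ Nat.card A₀)
    (hA₀max : ∀ B : Subgroup G, B ≤ Cfsg.fittingOf M → Cfsg.IsElementaryAbelian p B → A₀ ≤ B → B = A₀) :
    (¬ IsPGroup p ↥(Cfsg.fittingOf M) → Cfsg.InUniqueMaximal (Cfsg.fittingOf M ⊓ Subgroup.centralizer (A₀ : Set G))) ∧
      (IsPGroup p ↥(Cfsg.fittingOf M) → ∀ P : Sylow p M,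
        ¬ p ∣ ((P : Subgroup M).map M.subtype).index ∧
        ∀ A : Subgroup G, Cfsg.IsSCN ((P : Subgroup M).map M.subtype) A → ¬ Cfsg.PRankLE p 2 ↥A →
          A ≤ Cfsg.fittingOf M ∧ Cfsg.InUniqueMaximal A) := by
  classical
  have hpp : p.Prime := Fact.out
  have hA₀ab : ∀ a ∈ A₀, ∀ b ∈ A₀, a * b = b * a := by
    intro a ha b hb
    have := isMulCommutative_iff.mp hA₀e.1 ⟨a, ha⟩ ⟨b, hb⟩
    exact congrArg Subtype.val this
  have hA₀p : IsPGroup p A₀ := by
    rintro ⟨a, ha⟩
    exact ⟨1, Subtype.ext (by simpa using hA₀e.2 a ha)⟩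
  have hA₀1 : A₀ ≠ ⊥ := by
    rintro rfl
    rw [Subgroup.card_bot] at hA₀3
    have : 1 < p ^ 3 := Nat.one_lt_pow (by norm_num) hpp.one_lt
    omega
  have hpF : p ∣ Nat.card (Cfsg.fittingOf M) := by
    obtain ⟨k, hk⟩ := IsPGroup.iff_card.mp hA₀p
    have hk0 : k ≠ 0 := by
      rintro rfl
      rw [pow_zero] at hk
      exact hA₀1 (Subgroup.card_eq_one.mp hk)
    have h1 : p ∣ Nat.card A₀ := by rw [hk]; exact dvd_pow_self p hk0
    exact h1.trans (Subgroup.card_dvd_of_le hA₀)
  have hMs := coatom_solvable hG M hM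
  have hModd := coatom_odd hG M
  constructor
  · -- part (a)
    intro hnp
    obtain ⟨M₀, hM₀⟩ : ∃ M₀ : Subgroup G, M₀ = Cfsg.fittingOf M ⊓ Subgroup.centralizer (A₀ : Set G) :=
      ⟨_, rfl⟩
    rw [← hM₀]
    have hM₀F : M₀ ≤ Cfsg.fittingOf M := hM₀ ▸ inf_le_left
    have hA₀M₀ : A₀ ≤ M₀ := by
      rw [hM₀]
      refine le_inf hA₀ ?_
      intro a ha
      rw [Subgroup.mem_centralizer_iff]
      intro b hb
      exact hA₀ab b hb a ha
    have hZM₀ : Cfsg.fittingOf M ⊓ Subgroup.centralizer (Cfsg.fittingOf M : Set G) ≤ M₀ := by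
      rw [hM₀]
      exact le_inf inf_le_left (inf_le_right.trans
        (Subgroup.centralizer_le (show (A₀ : Set G) ⊆ (Cfsg.fittingOf M : Set G) from hA₀)))
    have hCM : Cfsg.fittingOf M ⊓ Subgroup.centralizer (M₀ : Set G) ≤ M₀ := by
      rw [hM₀]
      refine le_inf inf_le_left (inf_le_right.trans ?_)
      rw [← hM₀]
      exact Subgroup.centralizer_le (show (A₀ : Set G) ⊆ (M₀ : Set G) from hA₀M₀)
    have hA₀C : A₀ ≤ Subgroup.centralizer (M₀ : Set G) := by
      intro a ha
      rw [Subgroup.mem_centralizer_iff]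
      intro m hm
      have hm' : m ∈ Cfsg.fittingOf M ⊓ Subgroup.centralizer (A₀ : Set G) := by
        rw [← hM₀]; exact hm
      have hmC : m ∈ Subgroup.centralizer (A₀ : Set G) := (Subgroup.mem_inf.mp hm').2
      exact (Subgroup.mem_centralizer_iff.mp hmC a ha).symm
    -- two primes
    have hF2 : 2 ≤ (Nat.card (Cfsg.fittingOf M)).primeFactors.card := by
      have hex : ∃ r : ℕ, r.Prime ∧ r ∣ Nat.card (Cfsg.fittingOf M) ∧ r ≠ p := by
        by_contra hcon
        push Not at hcon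
        apply hnp
        have := Nat.eq_prime_pow_of_unique_prime_dvd (p := p) (Nat.card_pos.ne')
          (fun {d} hd hdvd => hcon d hd hdvd)
        exact IsPGroup.of_card this
      obtain ⟨r, hr, hrd, hrp⟩ := hex
      have hsub : ({p, r} : Finset ℕ) ⊆ (Nat.card (Cfsg.fittingOf M)).primeFactors := by
        intro x hx
        rw [Finset.mem_insert, Finset.mem_singleton] at hx
        rcases hx with rfl | rfl
        · exact Nat.mem_primeFactors.mpr ⟨hpp, hpF, Nat.card_pos.ne'⟩
        · exact Nat.mem_primeFactors.mpr ⟨hr, hrd, Nat.card_pos.ne'⟩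
      have := Finset.card_le_card hsub
      rwa [Finset.card_pair (Ne.symm hrp)] at this
    have hprimes : ∀ r : ℕ, r.Prime → r ∣ Nat.card (Cfsg.fittingOf M) → r ∣ Nat.card M₀ := by
      intro r hr hrd
      have : Fact r.Prime := ⟨hr⟩
      have hne := zP_ne_bot M r hrd
      obtain ⟨k, hk⟩ := IsPGroup.iff_card.mp (zP_isPGroup M r)
      have hk0 : k ≠ 0 := by
        rintro rfl
        rw [pow_zero] at hk
        exact hne (Subgroup.card_eq_one.mp hk)
      have h1 : r ∣ Nat.card (zP M r) := by rw [hk]; exact dvd_pow_self r hk0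
      exact h1.trans (Subgroup.card_dvd_of_le
        (fun z hz => hZM₀ (Subgroup.mem_inf.mpr ⟨hz.1, hz.2.1⟩)))
    have hσ : Cfsg.primesNotDvd (Nat.card M₀) = Cfsg.primesNotDvd (Nat.card (Cfsg.fittingOf M)) := by
      ext r
      unfold Cfsg.primesNotDvd
      simp only [Set.mem_ofPred_eq]
      constructor
      · rintro ⟨hr, hn⟩
        exact ⟨hr, fun h => hn (hprimes r hr h)⟩
      · rintro ⟨hr, hn⟩
        exact ⟨hr, fun h => hn (h.trans (Subgroup.card_dvd_of_le hM₀F))⟩
    have hM₀M : M₀ ≤ M := hM₀F.trans (fittingOf_le M)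
    have hM₀nil : Group.IsNilpotent M₀ := by
      have := fittingOf_nilpotent M
      exact Group.nilpotent_of_mulEquiv (Subgroup.subgroupOfEquivOfLe hM₀F)
    have hM₀s : Group.IsSolvable M₀ := inferInstance
    have hM₀1 : M₀ ≠ ⊥ := by
      intro h
      apply hA₀1
      rw [eq_bot_iff, ← h]
      exact hA₀M₀
    have hM₀top : M₀ ≠ ⊤ := by
      intro h
      apply hM.1
      rw [eq_top_iff, ← h]
      exact hM₀M
    have hmax := coatom_hmax hG M hM
    have hTH : Cfsg.TransitivityHypothesis M₀ := by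
      refine ⟨hM₀1, hM₀top, ?_⟩
      intro X hX hM₀X
      have hXs : Group.IsSolvable X := hG.2.2.2 X hX
      have hXL : M ⊓ Subgroup.centralizer (Cfsg.fittingOf M : Set G) ≤
          Subgroup.normalizer (X : Set G) := by
        intro x hx
        have hxF := inf_centralizer_le hG M hM hx
        exact Subgroup.le_normalizer
          (hM₀X (hZM₀ (Subgroup.mem_inf.mpr ⟨hxF, (Subgroup.mem_inf.mp hx).2⟩)))
      apply le_antisymm
      · apply sSup_le
        rintro Y ⟨hYX, hYπ, hM₀Y⟩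
        apply inv_le_of_sylows M₀ Y _ hM₀Y (coprime_of_piNum_primesNotDvd hYπ) hM₀s
        intro q hq Q hQY hQq hM₀Q
        by_cases hQ1 : Q = ⊥
        · rw [hQ1]; exact bot_le
        · have hqY : q ∣ Nat.card Y := by
            obtain ⟨k, hk⟩ := IsPGroup.iff_card.mp hQq
            have hk0 : k ≠ 0 := by
              rintro rfl
              rw [pow_zero] at hk
              exact hQ1 (Subgroup.card_eq_one.mp hk)
            have h1 : q ∣ Nat.card Q := by rw [hk]; exact dvd_pow_self q hk0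
            exact h1.trans (Subgroup.card_dvd_of_le hQY)
          have hqσ := hYπ q hq.out hqY
          rw [hσ] at hqσ ⊢
          exact inv_le_piCoreOf M M₀ hmax hF2 hM₀F hCM X hXs hM₀X hXL q hqσ.2 Q
            (hQY.trans hYX) hQq hM₀Q
      · apply le_sSup
        exact ⟨piCoreOf_le _ X, piCoreOf_piNum _ X, hM₀X.trans (le_normalizer_piCoreOf _ X)⟩
    have hrank : ¬ Cfsg.RankLE 2 ↥(M₀ ⊓ Subgroup.centralizer (M₀ : Set G)) :=
      not_rankLE_of_elemAb p 2 _ A₀ (le_inf hA₀M₀ hA₀C) hA₀e hA₀3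
    have hinv : ∀ Y ∈ Cfsg.invSubgroups ⊤ M₀ (Cfsg.primesNotDvd (Nat.card (Cfsg.fittingOf M))),
        Y = ⊥ := by
      rintro Y ⟨-, hYπ, hM₀Y⟩
      rw [eq_bot_iff]
      have hcop : (Nat.card M₀).Coprime (Nat.card Y) :=
        Nat.Coprime.coprime_dvd_left (Subgroup.card_dvd_of_le hM₀F)
          (coprime_of_piNum_primesNotDvd hYπ)
      apply inv_le_of_sylows M₀ Y _ hM₀Y hcop hM₀s
      intro q hq Q hQY hQq hM₀Q
      by_cases hQ1 : Q = ⊥
      · rw [hQ1]
      · have hqY : q ∣ Nat.card Y := by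
          obtain ⟨k, hk⟩ := IsPGroup.iff_card.mp hQq
          have hk0 : k ≠ 0 := by
            rintro rfl
            rw [pow_zero] at hk
            exact hQ1 (Subgroup.card_eq_one.mp hk)
          have h1 : q ∣ Nat.card Q := by rw [hk]; exact dvd_pow_self q hk0
          exact h1.trans (Subgroup.card_dvd_of_le hQY)
        have hqσ := hYπ q hq.out hqY
        rw [inv_eq_bot hG M hM M₀ hM₀F hZM₀ hTH hrank q hqσ.2 Q hQq hM₀Q]
    have h82 := Cfsg.Agent.S1482.result hG M hM hF2 M₀ hM₀F hZM₀ hinv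
    exact ⟨M, ⟨hM, hM₀M⟩, fun L hL => h82 L hL.1 hL.2⟩
  · -- part (b)
    intro hFp P
    obtain ⟨Pg, hPgdef⟩ : ∃ Pg : Subgroup G, Pg = (P : Subgroup ↥M).map M.subtype := ⟨_, rfl⟩
    rw [← hPgdef]
    have hPg : IsSylowIn p Pg M := hPgdef ▸ isSylowIn_of_sylow P
    have hFPg := fitting_le_sylow M p hFp Pg hPg
    have hcopF : ∀ N : Subgroup G, (Nat.card N).Coprime p →
        (Nat.card N).Coprime (Nat.card (Cfsg.fittingOf M)) := by
      intro N hN
      obtain ⟨k, hk⟩ := IsPGroup.iff_card.mp hFp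
      rw [hk]
      exact Nat.Coprime.pow_right k hN
    have hO_M : ∀ N : Subgroup G, N ≤ M → M ≤ Subgroup.normalizer (N : Set G) →
        (Nat.card N).Coprime p → N = ⊥ :=
      fun N hNM hMN hN => normal_coprime_eq_bot hG M hM N hNM hMN (hcopF N hN)
    have hPg1 : Pg ≠ ⊥ := by
      intro h
      apply hA₀1
      rw [eq_bot_iff, ← h]
      exact hA₀.trans hFPg
    have e1 := zj_coatom hG M hM p hO_M Pg hPg hPg1
    have hNPg : Subgroup.normalizer (Pg : Set G) ≤ M := e1 ▸ normalizer_le_normalizer_ZE p Pg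
    have hPgG : IsSylowIn p Pg ⊤ := by
      apply sylow_of_normalizer p Pg ⊤ le_top hPg.isPGroup
      intro y _ hyN hyp
      by_contra hyR
      obtain ⟨h1, h2⟩ := sup_zpowers p Pg hPg.isPGroup y hyN hyR hyp
      have h3 : Pg ⊔ Subgroup.zpowers y ≤ M :=
        sup_le hPg.le (by rw [Subgroup.zpowers_le]; exact hNPg hyN)
      exact h2.ne (hPg.eq_of_le h3 h1 le_sup_left).symm
    have hidx : ¬ p ∣ Pg.index := by
      have := hPgG.not_dvd
      rwa [Subgroup.relIndex_top_right] at this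
    refine ⟨hidx, ?_⟩
    intro A hscn hA3
    obtain ⟨hAP, hPA, hPCA⟩ := hscn
    have hAab : ∀ a ∈ A, ∀ b ∈ A, a * b = b * a := by
      intro a ha b hb
      have hb' : b ∈ Pg ⊓ Subgroup.centralizer (A : Set G) := by rw [hPCA]; exact hb
      exact (Subgroup.mem_centralizer_iff.mp hb'.2 a ha)
    have hAp : IsPGroup p A := hPg.isPGroup.to_le hAP
    have hAF : A ≤ Cfsg.fittingOf M :=
      abelian_normal_le_fitting M hMs hModd p hFp Pg A hPg hAP hPA hAab
    have hAc : IsMulCommutative A := isMulCommutative_iff.mpr (by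
      rintro ⟨a, ha⟩ ⟨b, hb⟩
      exact Subtype.ext (hAab a ha b hb))
    have hA1 : A ≠ ⊥ := by
      rintro rfl
      apply hA3
      intro B _ _
      have : Nat.card B = 1 := by
        have h1 : Nat.card B ∣ Nat.card (⊥ : Subgroup G) := Subgroup.card_subgroup_dvd_card B
        rw [Subgroup.card_bot] at h1
        exact Nat.dvd_one.mp h1
      rw [this]
      exact Nat.one_le_pow _ _ hpp.pos
    have hA_C : A ≤ Subgroup.centralizer (A : Set G) := by
      intro a ha
      rw [Subgroup.mem_centralizer_iff]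
      intro b hb
      exact hAab b hb a ha
    obtain ⟨PG, hPG⟩ : ∃ PG : Sylow p G, (PG : Subgroup G) = Pg :=
      ⟨hPg.isPGroup.toSylow hidx, rfl⟩
    have hpG : p ∣ Nat.card G := hpF.trans (Subgroup.card_subgroup_dvd_card _)
    have hr1 : ¬ Cfsg.PRankLE p 1 ↥A := by
      intro h
      apply hA3
      intro B hBc hBe
      exact (h B hBc hBe).trans (Nat.pow_le_pow_right hpp.pos (by norm_num))
    have hTH : Cfsg.TransitivityHypothesis A :=
      Cfsg.Agent.S1396.result hG p hpG A hAp hAc (Or.inr ⟨PG, hPG ▸ ⟨hAP, hPA, hPCA⟩, hr1⟩)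
    have hrank : ¬ Cfsg.RankLE 2 ↥(A ⊓ Subgroup.centralizer (A : Set G)) := by
      rw [inf_eq_left.mpr hA_C]
      intro h
      exact hA3 (h p hpp)
    have hZA : Cfsg.fittingOf M ⊓ Subgroup.centralizer (Cfsg.fittingOf M : Set G) ≤ A := by
      intro z hz
      rw [← hPCA]
      refine Subgroup.mem_inf.mpr ⟨hFPg hz.1, ?_⟩
      exact Subgroup.centralizer_le (show (A : Set G) ⊆ (Cfsg.fittingOf M : Set G) from hAF) hz.2
    have hAs : Group.IsSolvable A := by
      have := hAp.isNilpotent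
      infer_instance
    have hO : ∀ L : Subgroup G, IsCoatom L → A ≤ L → ∀ N : Subgroup G, N ≤ L →
        L ≤ Subgroup.normalizer (N : Set G) → (Nat.card N).Coprime p → N = ⊥ := by
      intro L hL hAL N hNL hLN hNp
      rw [eq_bot_iff]
      have hcop : (Nat.card A).Coprime (Nat.card N) := by
        obtain ⟨k, hk⟩ := IsPGroup.iff_card.mp hAp
        rw [hk]
        exact (Nat.Coprime.pow_right k hNp).symm
      apply inv_le_of_sylows A N _ (hAL.trans hLN) hcop hAs
      intro q hq Q hQN hQq hAQ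
      by_cases hQ1 : Q = ⊥
      · rw [hQ1]
      · have hqN : q ∣ Nat.card N := by
          obtain ⟨k, hk⟩ := IsPGroup.iff_card.mp hQq
          have hk0 : k ≠ 0 := by
            rintro rfl
            rw [pow_zero] at hk
            exact hQ1 (Subgroup.card_eq_one.mp hk)
          have h1 : q ∣ Nat.card Q := by rw [hk]; exact dvd_pow_self q hk0
          exact h1.trans (Subgroup.card_dvd_of_le hQN)
        have hqF : ¬ q ∣ Nat.card (Cfsg.fittingOf M) := by
          intro h
          have := Nat.Coprime.eq_one_of_dvd (hcopF N hNp).symm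
          have h2 : q ∣ Nat.gcd (Nat.card N) (Nat.card (Cfsg.fittingOf M)) := Nat.dvd_gcd hqN h
          rw [(hcopF N hNp)] at h2
          exact hq.out.one_lt.ne' (Nat.dvd_one.mp h2)
        rw [inv_eq_bot hG M hM A hAF hZA hTH hrank q hqF Q hQq hAQ]
    have huniq := uniq_of_core_trivial hG M hM p A hA1 hAp (hAF.trans (fittingOf_le M)) hO
    exact ⟨hAF, M, ⟨hM, hAF.trans (fittingOf_le M)⟩, fun L hL => huniq L hL.1 hL.2⟩

end Cfsg.Agent.S1397
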