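import Cfsg.Statements.S1398
import Cfsg.Agent.Lib.Helper11.BenderD
import Cfsg.Agent.S1324

set_option autoImplicit false
open Cfsg

namespace Cfsg.Agent.S1398
open Cfsg.Agent.Lib.Helper11 Cfsg.Agent.Lib.Helper11.BenderD


/-- Let G be a minimal simple group of odd order, M a maximal subgroup, p a prime, and B a noncyclic elementary abelian p-subgroup of M. If C_G(b) ≤ M for every non-identity b ∈ B, or if every subgroup of G of order coprime to p normalized by B is contained in M, then M is the only maximal subgroup of G containing B. -/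
theorem result {G : Type*} [Group G] [Finite G] (hG : Cfsg.IsMinSimpleOddOrder G)
    (M : Subgroup G) (hM : IsCoatom M) (p : ℕ) [Fact p.Prime] (B : Subgroup G) (hBM : B ≤ M)
    (hBe : Cfsg.IsElementaryAbelian p B) (hBnc : ¬ IsCyclic B)
    (h : (∀ b ∈ B, b ≠ 1 → Subgroup.centralizer ({b} : Set G) ≤ M) ∨
      ∀ Y ∈ Cfsg.invSubgroups ⊤ B (Cfsg.primesNotDvd p), Y ≤ M) :
    Cfsg.InUniqueMaximal B := by
  classical
  have hpp : p.Prime := Fact.out
  have hBp : IsPGroup p B := by
    rintro ⟨a, ha⟩
    exact ⟨1, Subtype.ext (by simpa using hBe.2 a ha)⟩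
  obtain ⟨k, hk⟩ := IsPGroup.iff_card.mp hBp
  have hk2 : 2 ≤ k := by
    by_contra hlt
    push Not at hlt
    apply hBnc
    interval_cases k
    · rw [pow_zero] at hk
      have : Subsingleton B := (Nat.card_eq_one_iff_unique.mp hk).1
      infer_instance
    · rw [pow_one] at hk
      exact isCyclic_of_prime_card hk
  have hB2 : p ^ 2 ≤ Nat.card B := by
    rw [hk]
    exact Nat.pow_le_pow_right hpp.pos hk2
  have hB1 : B ≠ ⊥ := by
    rintro rfl
    rw [Subgroup.card_bot] at hB2
    have : 1 < p ^ 2 := Nat.one_lt_pow (by norm_num) hpp.one_lt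
    omega
  have hinv : ∀ Y : Subgroup G, (Nat.card Y).Coprime p → B ≤ Subgroup.normalizer (Y : Set G) →
      Y ≤ M := by
    intro Y hYp hBY
    rcases h with h | h
    · have hnd : ¬ p ∣ Nat.card Y := by
        intro hd
        have := Nat.Coprime.eq_one_of_dvd hYp.symm hd
        exact hpp.one_lt.ne' this
      have e := Cfsg.Agent.S1324.result p B Y hBe hB2 hnd hBY
      rw [e]
      apply iSup_le
      rintro ⟨B', hB'B, hB'idx⟩
      have hB'1 : B' ≠ ⊥ := by
        rintro rfl
        have h1 : (⊥ : Subgroup G).relIndex B = Nat.card B := Subgroup.relIndex_bot_left B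
        rw [h1] at hB'idx
        have : p < p ^ 2 := by
          calc p = p ^ 1 := (pow_one p).symm
            _ < p ^ 2 := Nat.pow_lt_pow_right hpp.one_lt (by norm_num)
        omega
      obtain ⟨b, hb, hb1⟩ := (Subgroup.ne_bot_iff_exists_ne_one.mp hB'1 : ∃ b : ↥B', b ≠ 1) |>
        fun ⟨b, hb⟩ => (⟨(b : G), b.2, fun h0 => hb (Subtype.ext h0)⟩ : ∃ b : G, b ∈ B' ∧ b ≠ 1)
      refine inf_le_right.trans (le_trans ?_ (h b (hB'B hb) hb1))
      apply Subgroup.centralizer_le
      intro x hx
      rw [Set.mem_singleton_iff] at hx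
      rw [hx]
      exact hb
    · apply h
      refine ⟨le_top, ?_, hBY⟩
      intro q hq hqY
      refine ⟨hq, ?_⟩
      intro hqp
      have hqp' : q = p := (Nat.prime_dvd_prime_iff_eq hq hpp).mp hqp
      rw [hqp'] at hqY
      have := Nat.Coprime.eq_one_of_dvd hYp.symm hqY
      exact hpp.one_lt.ne' this
  refine ⟨M, ⟨hM, hBM⟩, ?_⟩
  rintro L ⟨hL, hBL⟩
  exact bender_core hG M hM p B hB1 hBp hBM hinv L hL hBL

end Cfsg.Agent.S1398
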