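import Mathlib
import Cfsg.Statements.S1452
import Cfsg.Agent.Lib.Helper21.OmegaCent2

set_option autoImplicit false
open Cfsg

namespace Cfsg.Agent.S1452

open Cfsg.Agent.Lib.Helper21.OmegaCent

/-- sup of two elementwise commuting elementary abelian subgroups -/
theorem sup_elemAb {G : Type*} [Group G] {p : ℕ} (E C : Subgroup G)
    (hEc : ∀ a ∈ E, ∀ b ∈ E, a * b = b * a) (hCc : ∀ a ∈ C, ∀ b ∈ C, a * b = b * a)
    (hEC : ∀ a ∈ E, ∀ b ∈ C, a * b = b * a)
    (hEe : ∀ a ∈ E, a ^ p = 1) (hCe : ∀ a ∈ C, a ^ p = 1) :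
    (∀ a ∈ E ⊔ C, ∀ b ∈ E ⊔ C, a * b = b * a) ∧ ∀ a ∈ E ⊔ C, a ^ p = 1 := by
  have h1 : ∀ e ∈ E, E ⊔ C ≤ Subgroup.centralizer ({e} : Set G) := by
    intro e he
    apply sup_le
    · intro x hx
      rw [Subgroup.mem_centralizer_iff]
      intro y hy
      rw [Set.mem_singleton_iff] at hy
      rw [hy]; exact hEc e he x hx
    · intro x hx
      rw [Subgroup.mem_centralizer_iff]
      intro y hy
      rw [Set.mem_singleton_iff] at hy
      rw [hy]; exact hEC e he x hx
  have h2 : ∀ c ∈ C, E ⊔ C ≤ Subgroup.centralizer ({c} : Set G) := by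
    intro c hc
    apply sup_le
    · intro x hx
      rw [Subgroup.mem_centralizer_iff]
      intro y hy
      rw [Set.mem_singleton_iff] at hy
      rw [hy]; exact (hEC x hx c hc).symm
    · intro x hx
      rw [Subgroup.mem_centralizer_iff]
      intro y hy
      rw [Set.mem_singleton_iff] at hy
      rw [hy]; exact hCc c hc x hx
  have hcomm : ∀ a ∈ E ⊔ C, ∀ b ∈ E ⊔ C, a * b = b * a := by
    intro a ha b hb
    have h3 : E ⊔ C ≤ Subgroup.centralizer ({b} : Set G) := by
      apply sup_le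
      · intro x hx
        have := h1 x hx hb
        rw [Subgroup.mem_centralizer_iff] at this ⊢
        intro y hy
        rw [Set.mem_singleton_iff] at hy
        rw [hy]
        exact (this x rfl).symm
      · intro x hx
        have := h2 x hx hb
        rw [Subgroup.mem_centralizer_iff] at this ⊢
        intro y hy
        rw [Set.mem_singleton_iff] at hy
        rw [hy]
        exact (this x rfl).symm
    have := h3 ha
    rw [Subgroup.mem_centralizer_iff] at this
    exact (this b rfl).symm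
  refine ⟨hcomm, ?_⟩
  let K : Subgroup G :=
    { carrier := {x | x ∈ E ⊔ C ∧ x ^ p = 1}
      mul_mem' := by
        rintro x y ⟨hx, hxp⟩ ⟨hy, hyp⟩
        refine ⟨mul_mem hx hy, ?_⟩
        have : Commute x y := hcomm x hx y hy
        rw [this.mul_pow, hxp, hyp, one_mul]
      one_mem' := ⟨one_mem _, one_pow _⟩
      inv_mem' := by
        rintro x ⟨hx, hxp⟩
        exact ⟨inv_mem hx, by rw [inv_pow, hxp, inv_one]⟩ }
  have hK : E ⊔ C ≤ K := by
    apply sup_le
    · intro x hx; exact ⟨Subgroup.mem_sup_left hx, hEe x hx⟩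
    · intro x hx; exact ⟨Subgroup.mem_sup_right hx, hCe x hx⟩
  intro a ha
  exact (hK ha).2

/-- BG: a normal elementary abelian subgroup of order `p^2` lies in a member of SCN_3 -/
theorem result {R : Type*} [Group R] [Finite R] (p : ℕ) [Fact p.Prime] (hp : p ≠ 2) (hR : IsPGroup p R) (hr : ¬ Cfsg.PRankLE p 2 R)
    (E : Subgroup R) [E.Normal] (hE : Cfsg.IsElementaryAbelian p E) (hE2 : Nat.card E = p ^ 2) :
    ∃ A : Subgroup R, E ≤ A ∧ A.Normal ∧ Subgroup.centralizer (A : Set R) = A ∧ ¬ Cfsg.PRankLE p 2 A := by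
  have hpp : Nat.Prime p := Fact.out
  haveI hnil : Group.IsNilpotent R := hR.isNilpotent
  obtain ⟨hEcomm, hEe⟩ := hE
  have hEc : ∀ a ∈ E, ∀ b ∈ E, a * b = b * a := by
    intro a ha b hb
    exact congrArg Subtype.val (hEcomm.is_comm.comm ⟨a, ha⟩ ⟨b, hb⟩)
  -- a normal elementary abelian subgroup of order p^3
  obtain ⟨B, hBn, hBc, hBe, hB3⟩ := exists_normal_elemAb_cube hp hR (by
    unfold Cfsg.PRankLE at hr
    push_neg at hr
    obtain ⟨A₀, hA₀c, hA₀e, hA₀⟩ := hr
    refine ⟨A₀, ?_, hA₀e, hA₀⟩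
    intro a ha b hb
    exact congrArg Subtype.val (hA₀c.is_comm.comm ⟨a, ha⟩ ⟨b, hb⟩))
  haveI := hBn
  set CB : Subgroup R := B ⊓ Subgroup.centralizer (E : Set R) with hCB
  haveI hCBn : CB.Normal := inferInstance
  have hCBB : CB ≤ B := inf_le_left
  have hECB : ∀ a ∈ E, ∀ b ∈ CB, a * b = b * a := by
    intro a ha b hb
    have : b ∈ Subgroup.centralizer (E : Set R) := (Subgroup.mem_inf.mp hb).2
    rw [Subgroup.mem_centralizer_iff] at this
    exact this a ha
  obtain ⟨hFc, hFe⟩ := sup_elemAb (p := p) E CB hEc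
    (fun a ha b hb => hBc a (hCBB ha) b (hCBB hb)) hECB hEe (fun a ha => hBe a (hCBB ha))
  set F : Subgroup R := E ⊔ CB with hF
  haveI hFn : F.Normal := inferInstance
  have hEF : E ≤ F := le_sup_left
  have hCBF : CB ≤ F := le_sup_right
  -- the order of F
  have hcardCB : Nat.card CB * CB.relIndex B = Nat.card B := by
    rw [← Subgroup.relIndex_bot_left, ← Subgroup.relIndex_bot_left (H := B)]
    exact Subgroup.relIndex_mul_relIndex ⊥ CB B bot_le hCBB
  have hrelCB : CB.relIndex B ≤ p := by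
    have h1 : CB.relIndex B = (Subgroup.centralizer (E : Set R)).relIndex B := by
      rw [hCB, inf_comm]; exact Subgroup.inf_relIndex_right _ _
    rw [h1]
    exact normal_sq_relIndex_le hR E hEe hE2 B
  have hCBge : p ^ 2 ≤ Nat.card CB := by
    by_contra hlt
    push_neg at hlt
    have : Nat.card CB * CB.relIndex B < p ^ 2 * p := by
      calc Nat.card CB * CB.relIndex B ≤ Nat.card CB * p := Nat.mul_le_mul_left _ hrelCB
        _ < p ^ 2 * p := Nat.mul_lt_mul_of_pos_right hlt hpp.pos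
    have h3 : p ^ 3 = p ^ 2 * p := by ring
    omega
  have hFgt : p ^ 2 < Nat.card F := by
    by_contra hle
    push_neg at hle
    have hFE : F = E := by
      symm
      exact Subgroup.eq_of_le_of_card_ge hEF (by rw [hE2]; exact hle)
    have hCBE : CB ≤ E := hFE ▸ hCBF
    have hCBeqE : CB = E := Subgroup.eq_of_le_of_card_ge hCBE (by rw [hE2]; exact hCBge)
    have hEB : E ≤ B := hCBeqE ▸ hCBB
    have hBCB : B ≤ CB := by
      intro b hb
      refine Subgroup.mem_inf.mpr ⟨hb, ?_⟩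
      rw [Subgroup.mem_centralizer_iff]
      intro e he
      exact hBc e (hEB he) b hb
    have := Subgroup.card_le_of_le hBCB
    rw [hCBeqE, hE2, hB3] at this
    have : p ^ 2 < p ^ 3 := Nat.pow_lt_pow_right hpp.one_lt (by norm_num)
    omega
  -- maximal normal abelian containing F
  have hfin : {A : Subgroup R | A.Normal ∧ IsMulCommutative A}.Finite := Set.toFinite _
  have hFmem : F ∈ {A : Subgroup R | A.Normal ∧ IsMulCommutative A} :=
    ⟨hFn, ⟨⟨fun a b => Subtype.ext (hFc a a.2 b b.2)⟩⟩⟩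
  obtain ⟨A, hFA, hA⟩ := hfin.exists_le_maximal hFmem
  obtain ⟨hAn, hAcomm⟩ := hA.prop
  haveI := hAn
  have hAc : ∀ a ∈ A, ∀ b ∈ A, a * b = b * a := by
    intro a ha b hb
    exact congrArg Subtype.val (hAcomm.is_comm.comm ⟨a, ha⟩ ⟨b, hb⟩)
  have hmax : ∀ B' : Subgroup R, B'.Normal → IsMulCommutative B' → A ≤ B' → B' = A := by
    intro B' hB'n hB'c hAB'
    exact le_antisymm (hA.le_of_ge ⟨hB'n, hB'c⟩ hAB') hAB'
  have hcent : Subgroup.centralizer (A : Set R) = A := by
    apply le_antisymm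
    · exact Cfsg.Agent.Lib.Helper11.centralizer_le_of_maximal_normal_abelian A hAcomm hmax
    · intro a ha
      rw [Subgroup.mem_centralizer_iff]
      intro b hb
      exact hAc b hb a ha
  refine ⟨A, hEF.trans hFA, hAn, hcent, ?_⟩
  intro hrk
  have h1 := hrk (F.subgroupOf A)
    ⟨⟨fun a b => Subtype.ext (Subtype.ext (hFc a.1.1 a.2 b.1.1 b.2))⟩⟩
    (fun a ha => Subtype.ext (by
      have := hFe (a : R) ha
      simpa using this))
  rw [Nat.card_congr (Subgroup.subgroupOfEquivOfLe hFA).toEquiv] at h1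
  omega

end Cfsg.Agent.S1452
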