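import Cfsg.Statements.S1453
import Cfsg.Agent.S1452
import Cfsg.Agent.Lib.Helper24.NormalRank

set_option autoImplicit false
open Cfsg

namespace Cfsg.Agent.S1453

open scoped commutatorElement
open Cfsg.Agent.Lib.Helper21.OmegaCent Cfsg.Agent.Lib.Helper24

/-- commutator with a power when the commutator is central -/
theorem comm_pow_of_central {R : Type*} [Group R] {x g : R}
    (hc : ∀ y : R, ⁅x, g⁆ * y = y * ⁅x, g⁆) (n : ℕ) :
    ⁅x ^ n, g⁆ = ⁅x, g⁆ ^ n := by
  induction n with
  | zero => simp
  | succ n ih =>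
    have h1 : ⁅x ^ (n + 1), g⁆ = x ^ n * ⁅x, g⁆ * (x ^ n)⁻¹ * ⁅x ^ n, g⁆ := by
      simp only [commutatorElement_def, pow_succ]; group
    rw [h1, ih, ← hc (x ^ n), mul_inv_cancel_right, ← pow_succ']

/-- commutator is multiplicative in the first variable when the values are central -/
theorem comm_mul_of_central {R : Type*} [Group R] {a b e : R}
    (hc : ∀ y : R, ⁅b, e⁆ * y = y * ⁅b, e⁆) :
    ⁅a * b, e⁆ = ⁅a, e⁆ * ⁅b, e⁆ := by
  have h1 : ⁅a * b, e⁆ = a * ⁅b, e⁆ * a⁻¹ * ⁅a, e⁆ := by
    simp only [commutatorElement_def]; group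
  rw [h1, ← hc a, mul_inv_cancel_right, hc]


/-- Let p be an odd prime and R a finite p-group with an elementary abelian subgroup of order p ^ 3 and an elementary abelian subgroup E of order p ^ 2 contained in no larger elementary abelian subgroup. Let Z₂ be the second centre of R, W the subgroup generated by the elements of Z₂ of order dividing p, and T = C_R(W). Then E is not contained in T; the elements of order dividing p of the centre of R generate a group of order p; W is elementary abelian of order p ^ 2; and T is characteristic in R of index p. -/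
theorem result {R : Type*} [Group R] [Finite R] (p : ℕ) [Fact p.Prime] (hp : p ≠ 2) (hR : IsPGroup p R) (hr : ¬ Cfsg.PRankLE p 2 R)
    (E : Subgroup R) (hE : Cfsg.IsElementaryAbelian p E) (hE2 : Nat.card E = p ^ 2)
    (hEmax : ∀ B : Subgroup R, Cfsg.IsElementaryAbelian p B → E ≤ B → B = E) :
    ¬ E ≤ Subgroup.centralizer ((Subgroup.closure {x : R | x ∈ Subgroup.upperCentralSeries R 2 ∧ x ^ p = 1} : Subgroup R) : Set R) ∧
      Nat.card ↥(Subgroup.closure {x : R | x ∈ Subgroup.center R ∧ x ^ p = 1}) = p ∧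
      (Cfsg.IsElementaryAbelian p (Subgroup.closure {x : R | x ∈ Subgroup.upperCentralSeries R 2 ∧ x ^ p = 1}) ∧
        Nat.card ↥(Subgroup.closure {x : R | x ∈ Subgroup.upperCentralSeries R 2 ∧ x ^ p = 1}) = p ^ 2) ∧
      (Subgroup.centralizer ((Subgroup.closure {x : R | x ∈ Subgroup.upperCentralSeries R 2 ∧ x ^ p = 1} : Subgroup R) : Set R)).Characteristic ∧
      (Subgroup.centralizer ((Subgroup.closure {x : R | x ∈ Subgroup.upperCentralSeries R 2 ∧ x ^ p = 1} : Subgroup R) : Set R)).index = p := by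
  classical
  have hpp : p.Prime := Fact.out
  have hp1 : 1 < p := hpp.one_lt
  have hnil : Group.IsNilpotent R := hR.isNilpotent
  obtain ⟨hEcomm, hEe⟩ := hE
  have hEc : ∀ a ∈ E, ∀ b ∈ E, a * b = b * a := by
    intro a ha b hb
    exact congrArg Subtype.val (hEcomm.is_comm.comm ⟨a, ha⟩ ⟨b, hb⟩)
  obtain ⟨B, hBc', hBe, hBcard⟩ : ∃ B : Subgroup R, IsMulCommutative B ∧
      (∀ a ∈ B, a ^ p = 1) ∧ p ^ 2 < Nat.card B := by
    unfold Cfsg.PRankLE at hr
    push Not at hr
    exact hr
  have hBc : ∀ a ∈ B, ∀ b ∈ B, a * b = b * a := by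
    intro a ha b hb
    exact congrArg Subtype.val (hBc'.is_comm.comm ⟨a, ha⟩ ⟨b, hb⟩)
  have mkEA : ∀ D : Subgroup R, (∀ a ∈ D, ∀ b ∈ D, a * b = b * a) → (∀ a ∈ D, a ^ p = 1) →
      Cfsg.IsElementaryAbelian p D := by
    intro D hDc hDe
    exact ⟨⟨⟨fun a b => Subtype.ext (hDc a a.2 b b.2)⟩⟩, hDe⟩
  -- absorption
  have habsorb : ∀ x : R, x ^ p = 1 → (∀ b ∈ E, x * b = b * x) → x ∈ E := by
    intro x hx hxc
    by_contra hxE
    obtain ⟨-, hc, he⟩ := sup_zpowers_facts E x hx hxE hxc hEc hEe
    have := hEmax (E ⊔ Subgroup.zpowers x) (mkEA _ hc he) le_sup_left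
    apply hxE
    rw [← this]
    exact Subgroup.mem_sup_right (Subgroup.mem_zpowers x)
  -- the subgroup Zc
  obtain ⟨Zc, hZc⟩ : ∃ Zc : Subgroup R,
      Zc = Subgroup.closure {x : R | x ∈ Subgroup.center R ∧ x ^ p = 1} := ⟨_, rfl⟩
  have hZcmem : ∀ z ∈ Zc, z ∈ Subgroup.center R ∧ z ^ p = 1 := by
    intro z hz
    rw [hZc] at hz
    induction hz using Subgroup.closure_induction with
    | mem x hx => exact hx
    | one => exact ⟨one_mem _, one_pow _⟩
    | mul x y _ _ hx hy =>
      refine ⟨mul_mem hx.1 hy.1, ?_⟩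
      have hcomm : Commute x y := (Subgroup.mem_center_iff.mp hy.1 x)
      rw [hcomm.mul_pow, hx.2, hy.2, one_mul]
    | inv x _ hx => exact ⟨inv_mem hx.1, by rw [inv_pow, hx.2, inv_one]⟩
  have hZcgen : ∀ z : R, z ∈ Subgroup.center R → z ^ p = 1 → z ∈ Zc := by
    intro z h1 h2
    rw [hZc]
    exact Subgroup.subset_closure ⟨h1, h2⟩
  have hZccent : ∀ z ∈ Zc, ∀ g : R, g * z = z * g := fun z hz g =>
    Subgroup.mem_center_iff.mp (hZcmem z hz).1 g
  have hZcE : Zc ≤ E := fun z hz =>
    habsorb z (hZcmem z hz).2 (fun b _ => (hZccent z hz b).symm)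
  have hZcc : ∀ a ∈ Zc, ∀ b ∈ Zc, a * b = b * a := fun a ha b hb => hEc a (hZcE ha) b (hZcE hb)
  have hcardR : p ^ 2 < Nat.card R := lt_of_lt_of_le hBcard (Subgroup.card_le_card_group B)
  have hZc_ne_bot : Zc ≠ ⊥ := by
    have hnt : Nontrivial R := by
      rw [← Finite.one_lt_card_iff_nontrivial]
      have : 1 ≤ p ^ 2 := Nat.one_le_pow _ _ (by omega)
      omega
    have hcen := hR.bot_lt_center
    have hcne : Nat.card (Subgroup.center R) ≠ 1 := by
      intro h
      rw [Subgroup.card_eq_one] at h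
      exact (ne_of_gt hcen) h
    have hdvd : p ∣ Nat.card (Subgroup.center R) := by
      rcases (hR.to_subgroup (Subgroup.center R)).card_eq_or_dvd with h | h
      · exact absurd h hcne
      · exact h
    obtain ⟨z, hz⟩ := exists_prime_orderOf_dvd_card' p hdvd
    intro hbot
    have hzmem : (z : R) ∈ Zc := by
      apply hZcgen _ z.2
      have : z ^ p = 1 := by rw [← hz]; exact pow_orderOf_eq_one z
      have := congrArg Subtype.val this
      simpa using this
    rw [hbot, Subgroup.mem_bot] at hzmem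
    have : z = 1 := Subtype.ext hzmem
    rw [this, orderOf_one] at hz
    omega
  have hZc_ne_E : Zc ≠ E := by
    intro h
    have hEcen : ∀ a ∈ E, ∀ b : R, a * b = b * a := by
      intro a ha b
      exact (hZccent a (h ▸ ha) b).symm
    obtain ⟨hc, he⟩ := Cfsg.Agent.S1452.sup_elemAb E B hEc hBc
      (fun a ha b _ => hEcen a ha b) hEe hBe
    have := hEmax (E ⊔ B) (mkEA _ hc he) le_sup_left
    have hBE : B ≤ E := by rw [← this]; exact le_sup_right
    have := Subgroup.card_le_of_le hBE
    omega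
  have hZccard : Nat.card Zc = p := by
    have hdvd : Nat.card Zc ∣ p ^ 2 := hE2 ▸ Subgroup.card_dvd_of_le hZcE
    obtain ⟨k, hk, hkc⟩ := (Nat.dvd_prime_pow hpp).mp hdvd
    interval_cases k
    · exfalso
      apply hZc_ne_bot
      rw [← Subgroup.card_eq_one]
      simpa using hkc
    · simpa using hkc
    · exfalso
      apply hZc_ne_E
      exact Subgroup.eq_of_le_of_card_ge hZcE (by rw [hE2, hkc])
  have hZcn : Zc.Normal := by
    constructor
    intro n hn g
    rw [hZccent n hn g, mul_inv_cancel_right]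
    exact hn
  -- generation of E
  have hEgen : ∀ e ∈ E, e ∉ Zc → Zc ⊔ Subgroup.zpowers e = E := by
    intro e he heZ
    obtain ⟨hcard, -, -⟩ := sup_zpowers_facts Zc e (hEe e he) heZ
      (fun b hb => hZccent b hb e) hZcc (fun b hb => (hZcmem b hb).2)
    apply Subgroup.eq_of_le_of_card_ge
    · exact sup_le hZcE (by rw [Subgroup.zpowers_le]; exact he)
    · rw [hcard, hZccard, hE2, sq]
  -- second center facts
  have hZ2comm : ∀ x : R, x ∈ Subgroup.upperCentralSeries R 2 → x ^ p = 1 →
      ∀ g : R, ⁅x, g⁆ ∈ Zc := by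
    intro x hx hxp g
    have hc : ⁅x, g⁆ ∈ Subgroup.center R := by
      have := Subgroup.mem_upperCentralSeries_succ_iff.mp hx g
      rwa [Subgroup.upperCentralSeries_one] at this
    apply hZcgen _ hc
    rw [← comm_pow_of_central (fun y => (Subgroup.mem_center_iff.mp hc y).symm) p, hxp]
    simp [commutatorElement_def]
  obtain ⟨W, hW⟩ : ∃ W : Subgroup R,
      W = Subgroup.closure {x : R | x ∈ Subgroup.upperCentralSeries R 2 ∧ x ^ p = 1} := ⟨_, rfl⟩
  have hWmem : ∀ w ∈ W, w ∈ Subgroup.upperCentralSeries R 2 ∧ w ^ p = 1 := by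
    intro w hw
    rw [hW] at hw
    induction hw using Subgroup.closure_induction with
    | mem x hx => exact hx
    | one => exact ⟨one_mem _, one_pow _⟩
    | mul x y _ _ hx hy =>
      refine ⟨mul_mem hx.1 hy.1, ?_⟩
      have hyi : y⁻¹ ∈ Subgroup.upperCentralSeries R 2 := inv_mem hy.1
      have hyip : y⁻¹ ^ p = 1 := by rw [inv_pow, hy.2, inv_one]
      have hcZ : ⁅y⁻¹, x⁻¹⁆ ∈ Zc := hZ2comm _ hyi hyip _
      have hrel : y * x = x * y * ⁅y⁻¹, x⁻¹⁆ := by
        rw [commutatorElement_def]; group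
      exact mul_pow_prime_class2 hpp hp (hZccent _ hcZ x).symm (hZccent _ hcZ y).symm hrel
        hx.2 hy.2 (hZcmem _ hcZ).2
    | inv x _ hx => exact ⟨inv_mem hx.1, by rw [inv_pow, hx.2, inv_one]⟩
  have hWgen : ∀ x : R, x ∈ Subgroup.upperCentralSeries R 2 → x ^ p = 1 → x ∈ W := by
    intro x h1 h2
    rw [hW]
    exact Subgroup.subset_closure ⟨h1, h2⟩
  -- E is not normal
  have hEnn : ¬ E.Normal := by
    intro hn
    obtain ⟨A, hEA, hAn, hCA, hrA⟩ :=
      Cfsg.Agent.S1452.result p hp hR hr E (mkEA E hEc hEe) hE2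
    unfold Cfsg.PRankLE at hrA
    push Not at hrA
    obtain ⟨B', hB'c, hB'e, hB'card⟩ := hrA
    have hAc : ∀ a ∈ A, ∀ b ∈ A, a * b = b * a := by
      intro a ha b hb
      have : a ∈ Subgroup.centralizer (A : Set R) := by rw [hCA]; exact ha
      exact (Subgroup.mem_centralizer_iff.mp this b hb).symm
    obtain ⟨B'', hB''⟩ : ∃ B'' : Subgroup R, B'' = B'.map A.subtype := ⟨_, rfl⟩
    have hB''A : B'' ≤ A := by
      rw [hB'']
      rintro _ ⟨b, -, rfl⟩
      exact b.2
    have hB''e : ∀ a ∈ B'', a ^ p = 1 := by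
      rw [hB'']
      rintro _ ⟨b, hb, rfl⟩
      have := hB'e b hb
      have := congrArg Subtype.val this
      simpa using this
    have hB''card : Nat.card B'' = Nat.card B' := by
      rw [hB'']
      exact Subgroup.card_map_of_injective (Subgroup.subtype_injective A)
    obtain ⟨hc, he⟩ := Cfsg.Agent.S1452.sup_elemAb E B'' hEc
      (fun a ha b hb => hAc a (hB''A ha) b (hB''A hb))
      (fun a ha b hb => hAc a (hEA ha) b (hB''A hb)) hEe hB''e
    have := hEmax (E ⊔ B'') (mkEA _ hc he) le_sup_left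
    have hBE : B'' ≤ E := by rw [← this]; exact le_sup_right
    have := Subgroup.card_le_of_le hBE
    omega
  -- elements of E outside Zc are outside the second center
  have hnotZ2 : ∀ e ∈ E, e ∉ Zc → e ∉ Subgroup.upperCentralSeries R 2 := by
    intro e he heZ heZ2
    apply hEnn
    rw [← hEgen e he heZ]
    apply nr_sup_normal Zc e
    intro g
    have hei : e⁻¹ ∈ Subgroup.upperCentralSeries R 2 := inv_mem heZ2
    have heip : e⁻¹ ^ p = 1 := by rw [inv_pow, hEe e he, inv_one]
    have := hZ2comm _ hei heip g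
    rwa [commutatorElement_def, inv_inv] at this
  have hWE : ∀ w ∈ W, w ∈ E → w ∈ Zc := by
    intro w hw hwE
    by_contra hwZ
    exact hnotZ2 w hwE hwZ (hWmem w hw).1
  -- fix e
  obtain ⟨e, he, heZ⟩ : ∃ e ∈ E, e ∉ Zc := by
    by_contra hcon
    push Not at hcon
    exact hZc_ne_E (le_antisymm hZcE hcon)
  have hker : ∀ w ∈ W, ⁅w, e⁆ = 1 → w ∈ Zc := by
    intro w hw hwe
    apply hWE w hw
    apply habsorb w (hWmem w hw).2
    have hwe' : w * e = e * w := by
      rw [commutatorElement_def] at hwe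
      have : w * e * w⁻¹ = e := by
        have := congrArg (· * e) hwe
        simpa using this
      calc w * e = w * e * w⁻¹ * w := by group
        _ = e * w := by rw [this]
    have hle : E ≤ Subgroup.centralizer ({w} : Set R) := by
      rw [← hEgen e he heZ]
      apply sup_le
      · intro z hz
        rw [Subgroup.mem_centralizer_iff]
        intro y hy
        rw [Set.mem_singleton_iff] at hy
        rw [hy]
        exact hZccent z hz w
      · rw [Subgroup.zpowers_le, Subgroup.mem_centralizer_iff]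
        intro y hy
        rw [Set.mem_singleton_iff] at hy
        rw [hy]
        exact hwe'
    intro b hb
    have := hle hb
    rw [Subgroup.mem_centralizer_iff] at this
    exact this w rfl
  -- the commutator homomorphism W → Zc
  have hWcomm : ∀ w ∈ W, ⁅w, e⁆ ∈ Zc := fun w hw => hZ2comm w (hWmem w hw).1 (hWmem w hw).2 e
  let f : W →* Zc := MonoidHom.mk' (fun w => ⟨⁅(w : R), e⁆, hWcomm w w.2⟩) (by
    intro a b
    apply Subtype.ext
    change ⁅(a : R) * (b : R), e⁆ = ⁅(a : R), e⁆ * ⁅(b : R), e⁆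
    exact comm_mul_of_central (fun y => (hZccent _ (hWcomm b b.2) y).symm))
  have hfker : Nat.card f.ker ≤ p := by
    rw [← hZccard]
    let j : f.ker → Zc := fun k => ⟨((k : W) : R), by
      apply hker _ (k : W).2
      have := k.2
      rw [MonoidHom.mem_ker] at this
      exact congrArg Subtype.val this⟩
    apply Nat.card_le_card_of_injective j
    intro a b hab
    have := congrArg Subtype.val hab
    exact Subtype.ext (Subtype.ext this)
  have hWle : Nat.card W ≤ p ^ 2 := by
    rw [← Subgroup.card_mul_index f.ker, Subgroup.index_ker, sq]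
    apply Nat.mul_le_mul hfker
    rw [← hZccard]
    exact Subgroup.card_le_card_group f.range
  -- lower bound
  have hWge : p ^ 2 ≤ Nat.card W := by
    obtain ⟨A₀, hA₀n, hA₀c, hA₀e, hA₀card⟩ := exists_normal_elemAb_cube hp hR ⟨B, hBc, hBe, hBcard⟩
    obtain ⟨B₀, hB₀A, hB₀n, hB₀card⟩ := nr_exists_normal_card hR 2 1 A₀ hA₀card
    obtain ⟨B₁, hB₁B, hB₁comm, hB₁card⟩ := ab_exists_sub hR B₀ 1 hB₀card
    have hB₁n : B₁.Normal := ab_normal_of_between B₀ B₁ hB₁B hB₁comm
    obtain ⟨B₂, hB₂B, hB₂comm, hB₂card⟩ := ab_exists_sub hR B₁ 0 (by simpa using hB₁card)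
    have hB₂ : B₂ = ⊥ := by
      rw [← Subgroup.card_eq_one]; simpa using hB₂card
    have hB₁cen : B₁ ≤ Subgroup.center R := by
      intro b hb
      rw [Subgroup.mem_center_iff]
      intro g
      have : ⁅b, g⁆ ∈ B₂ := hB₂comm (Subgroup.commutator_mem_commutator hb (Subgroup.mem_top g))
      rw [hB₂, Subgroup.mem_bot, commutatorElement_def] at this
      have h2 : b * g * b⁻¹ = g := by
        have := congrArg (· * g) this
        simpa using this
      calc g * b = b * g * b⁻¹ * b := by rw [h2]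
        _ = b * g := by group
    have hB₀W : B₀ ≤ W := by
      intro b hb
      apply hWgen b _ (hA₀e b (hB₀A hb))
      change b ∈ Subgroup.upperCentralSeries R (1 + 1)
      rw [Subgroup.mem_upperCentralSeries_succ_iff]
      intro g
      rw [Subgroup.upperCentralSeries_one]
      exact hB₁cen (hB₁comm (Subgroup.commutator_mem_commutator hb (Subgroup.mem_top g)))
    rw [← hB₀card]
    exact Subgroup.card_le_of_le hB₀W
  have hWcard : Nat.card W = p ^ 2 := le_antisymm hWle hWge
  have hWchar : W.Characteristic := by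
    rw [Subgroup.characteristic_iff_map_le]
    intro φ
    rw [hW, MonoidHom.map_closure, Subgroup.closure_le]
    rintro _ ⟨x, ⟨hx1, hx2⟩, rfl⟩
    apply Subgroup.subset_closure
    refine ⟨?_, ?_⟩
    · have hchar : (Subgroup.upperCentralSeries R 2).Characteristic := inferInstance
      have := (Subgroup.characteristic_iff_map_le.mp hchar) φ
      exact this ⟨x, hx1, rfl⟩
    · change (φ x) ^ p = 1
      rw [← map_pow, hx2, map_one]
  have hWn : W.Normal := Subgroup.normal_of_characteristic W
  have hEnT : ¬ E ≤ Subgroup.centralizer (W : Set R) := by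
    intro hET
    have heT := hET he
    have hWZ : W ≤ Zc := by
      intro w hw
      apply hker w hw
      have := Subgroup.mem_centralizer_iff.mp heT w hw
      rw [commutatorElement_def, this]
      group
    have := Subgroup.card_le_of_le hWZ
    rw [hWcard, hZccard, sq] at this
    nlinarith
  rw [← hW]
  refine ⟨hEnT, hZc ▸ hZccard, ⟨?_, hWcard⟩, inferInstance, ?_⟩
  · refine mkEA W ?_ (fun w hw => (hWmem w hw).2)
    have hWpg : IsPGroup p W := hR.to_subgroup W
    have hWm : IsMulCommutative W := IsPGroup.isMulCommutative_of_card_eq_prime_sq hWcard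
    intro a ha b hb
    exact congrArg Subtype.val (hWm.is_comm.comm ⟨a, ha⟩ ⟨b, hb⟩)
  · have hle := ab_index_le hR 2 W hWcard
    have hle' : (Subgroup.centralizer (W : Set R)).index ≤ p := by simpa using hle
    obtain ⟨k, hk⟩ := hR.index (Subgroup.centralizer (W : Set R))
    have hne : (Subgroup.centralizer (W : Set R)).index ≠ 1 := by
      intro h1
      rw [Subgroup.index_eq_one] at h1
      apply hEnT
      rw [h1]
      exact le_top
    rw [hk] at hle' hne ⊢
    rcases k with _ | _ | k
    · simp at hne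
    · simp
    · exfalso
      have : p ^ 2 ≤ p ^ (k + 1 + 1) := Nat.pow_le_pow_right (by omega) (by omega)
      have h3 : p < p ^ 2 := by nlinarith
      omega

end Cfsg.Agent.S1453
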