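import Mathlib
import Cfsg.Statements.S0634
import Cfsg.Agent.Lib.Helper5.PConstr

set_option autoImplicit false
open Cfsg

namespace Cfsg.Agent.S0634

open Cfsg.Agent.Lib.Helper5 Cfsg.Agent.Lib.Helper1

theorem ups_succ_even {G : Type*} [Group G] (p n : ℕ) (hn : Even n) :
    (upperPSeries p G (n + 1)).1 =
      (pPrimeCore p (G ⧸ (upperPSeries p G n).1)).comap (QuotientGroup.mk' (upperPSeries p G n).1) := by
  show (if Even n then
      (⟨(pPrimeCore p (G ⧸ (upperPSeries p G n).1)).comap (QuotientGroup.mk' _), inferInstance⟩ :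
        {H : Subgroup G // H.Normal})
    else
      ⟨(pCore p (G ⧸ (upperPSeries p G n).1)).comap (QuotientGroup.mk' _), inferInstance⟩).1 = _
  rw [if_pos hn]

theorem ups_succ_odd {G : Type*} [Group G] (p n : ℕ) (hn : ¬ Even n) :
    (upperPSeries p G (n + 1)).1 =
      (pCore p (G ⧸ (upperPSeries p G n).1)).comap (QuotientGroup.mk' (upperPSeries p G n).1) := by
  show (if Even n then
      (⟨(pPrimeCore p (G ⧸ (upperPSeries p G n).1)).comap (QuotientGroup.mk' _), inferInstance⟩ :
        {H : Subgroup G // H.Normal})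
    else
      ⟨(pCore p (G ⧸ (upperPSeries p G n).1)).comap (QuotientGroup.mk' _), inferInstance⟩).1 = _
  rw [if_neg hn]

theorem pPrimeCore_quotient_comap_eq_bot {G : Type*} [Group G] [Finite G] (p : ℕ) [Fact p.Prime]
    (U W : Subgroup G) [U.Normal] [W.Normal]
    (hW : W = (pPrimeCore p (G ⧸ U)).comap (QuotientGroup.mk' U)) :
    pPrimeCore p (G ⧸ W) = ⊥ := by
  rw [eq_bot_iff]
  apply sSup_le
  rintro Mb ⟨hMn, hMc⟩
  set πW := QuotientGroup.mk' W with hπW
  set πU := QuotientGroup.mk' U with hπU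
  have hπWs : Function.Surjective πW := QuotientGroup.mk'_surjective _
  have hπUs : Function.Surjective πU := QuotientGroup.mk'_surjective _
  set M := Mb.comap πW with hM
  have hWM : W ≤ M := by
    intro x hx
    rw [hM, Subgroup.mem_comap]
    have : πW x = 1 := (QuotientGroup.eq_one_iff x).mpr hx
    rw [this]; exact Subgroup.one_mem _
  have hUW : U ≤ W := by
    intro x hx
    rw [hW, Subgroup.mem_comap]
    have : πU x = 1 := (QuotientGroup.eq_one_iff x).mpr hx
    rw [this]; exact Subgroup.one_mem _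
  have hMn' : M.Normal := hMn.comap πW
  have h1 : Nat.card W * Nat.card (M.map πW) = Nat.card M := card_map_mk'_of_le M W hWM
  rw [Subgroup.map_comap_eq_self_of_surjective hπWs] at h1
  have h2 : Nat.card U * Nat.card (M.map πU) = Nat.card M := card_map_mk'_of_le M U (le_trans hUW hWM)
  have h3 : Nat.card U * Nat.card (W.map πU) = Nat.card W := card_map_mk'_of_le W U hUW
  have h4 : W.map πU = pPrimeCore p (G ⧸ U) := by
    rw [hW, Subgroup.map_comap_eq_self_of_surjective hπUs]
  have h5 : Nat.card (M.map πU) = Nat.card (pPrimeCore p (G ⧸ U)) * Nat.card Mb := by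
    rw [h4] at h3
    have h6 : Nat.card U * Nat.card (M.map πU) =
        Nat.card U * (Nat.card (pPrimeCore p (G ⧸ U)) * Nat.card Mb) := by
      rw [h2, ← h1, ← h3, mul_assoc]
    exact Nat.eq_of_mul_eq_mul_left Nat.card_pos h6
  have h7 : (Nat.card (M.map πU)).Coprime p := by
    rw [h5]
    exact Nat.Coprime.mul_left (pPrimeCore_card_coprime p) hMc
  have h8 : M.map πU ≤ pPrimeCore p (G ⧸ U) :=
    le_pPrimeCore (Subgroup.Normal.map hMn' πU hπUs) h7
  have h9 : M ≤ W := by
    rw [hW]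
    intro x hx
    rw [Subgroup.mem_comap]
    exact h8 ⟨x, hx, rfl⟩
  intro y hy
  obtain ⟨x, rfl⟩ := hπWs y
  have hx : x ∈ M := hy
  rw [Subgroup.mem_bot]
  exact (QuotientGroup.eq_one_iff x).mpr (h9 hx)

theorem result {G : Type*} [Group G] [Finite G] {p : ℕ} [Fact p.Prime] (hsol : Cfsg.IsPSolvable p G) (k : ℕ) : Subgroup.centralizer ((((Cfsg.upperPSeries p G (2 * k + 2)).1.map (QuotientGroup.mk' (Cfsg.upperPSeries p G (2 * k + 1)).1)) : Subgroup (G ⧸ (Cfsg.upperPSeries p G (2 * k + 1)).1)) : Set (G ⧸ (Cfsg.upperPSeries p G (2 * k + 1)).1)) ≤ (Cfsg.upperPSeries p G (2 * k + 2)).1.map (QuotientGroup.mk' (Cfsg.upperPSeries p G (2 * k + 1)).1) := by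
  have hW := ups_succ_even (G := G) p (2 * k) (even_two_mul k)
  have hT := ups_succ_odd (G := G) p (2 * k + 1) (by simp)
  have hmap : (Cfsg.upperPSeries p G (2 * k + 2)).1.map (QuotientGroup.mk' (Cfsg.upperPSeries p G (2 * k + 1)).1) =
      pCore p (G ⧸ (Cfsg.upperPSeries p G (2 * k + 1)).1) := by
    have : (Cfsg.upperPSeries p G (2 * k + 2)).1 = (Cfsg.upperPSeries p G (2 * k + 1 + 1)).1 := rfl
    rw [this, hT, Subgroup.map_comap_eq_self_of_surjective (QuotientGroup.mk'_surjective _)]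
  rw [hmap]
  apply h5_centralizer_pCore_le
  · exact h5_isPSolvable_of_surjective _ (QuotientGroup.mk'_surjective _) hsol
  · exact pPrimeCore_quotient_comap_eq_bot p (Cfsg.upperPSeries p G (2 * k)).1 _ hW

end Cfsg.Agent.S0634
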