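import Mathlib
import Cfsg.Statements.S1455
import Cfsg.Agent.Lib.Helper21.NarrowG
import Cfsg.Agent.S1450

set_option autoImplicit false
open Cfsg

namespace Cfsg.Agent.S1455

open scoped Pointwise

theorem prank_of_sylow {G : Type*} [Group G] [Finite G] (p k : ℕ) [Fact p.Prime] (S : Sylow p G)
    (h : Cfsg.PRankLE p k ↥(S : Subgroup G)) : Cfsg.PRankLE p k G := by
  intro A hAc hAexp
  have hAp : IsPGroup p ↥A := fun a => ⟨1, by
    rw [pow_one]
    exact Subtype.ext (by simpa using hAexp a.1 a.2)⟩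
  obtain ⟨Q, hQ⟩ := hAp.exists_le_sylow
  obtain ⟨g, hg⟩ := MulAction.exists_smul_eq G Q S
  obtain ⟨B, hB⟩ : ∃ B : Subgroup G, B = A.map (MulAut.conj g).toMonoidHom := ⟨_, rfl⟩
  have hBS : B ≤ (S : Subgroup G) := by
    rw [hB, ← hg, Sylow.coe_subgroup_smul, Subgroup.pointwise_smul_def]
    exact Subgroup.map_mono hQ
  have hBcard : Nat.card ↥B = Nat.card ↥A := by
    rw [hB]
    exact Subgroup.card_map_of_injective (MulAut.conj g).injective
  have hBc : IsMulCommutative ↥B := by
    rw [hB]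
    infer_instance
  have hBexp : ∀ b ∈ B, b ^ p = 1 := by
    intro b hb
    rw [hB] at hb
    obtain ⟨a, ha, rfl⟩ := Subgroup.mem_map.mp hb
    rw [← map_pow, hAexp a ha, map_one]
  have h1 := h (B.subgroupOf (S : Subgroup G))
    (Subgroup.comap_injective_isMulCommutative B (S : Subgroup G).subtype_injective)
    (by
      intro b hb
      apply Subtype.ext
      have := hBexp b.1 (Subgroup.mem_subgroupOf.mp hb)
      simpa using this)
  rw [← hBcard]
  have h2 : Nat.card ↥(B.subgroupOf (S : Subgroup G)) = Nat.card ↥B :=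
    Nat.card_congr (Subgroup.subgroupOfEquivOfLe hBS).toEquiv
  rw [← h2]
  exact h1

/-- Let G be a solvable group of odd order, p a prime dividing its order, and S a Sylow p-subgroup of G that is narrow; if S has an elementary abelian subgroup of order p ^ 3 assume also G = O_{p',p,p'}(G). Then every prime dividing the index of O_{p'}(G) is at most p; if p = 3 or p is the smallest prime divisor of #G then G has a normal p-complement; G' has a normal p-complement; every subgroup of G' of order coprime to p lies in O_{p'}(G'); and G' ≤ O_{p',p}(G) with the index of O_{p',p}(G) coprime to p. -/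
theorem result {G : Type*} [Group G] [Finite G] [Group.IsSolvable G] (hodd : Odd (Nat.card G)) (p : ℕ) [Fact p.Prime] (hpG : p ∣ Nat.card G) (S : Sylow p G) (hS : Cfsg.IsNarrow p ↥(S : Subgroup G))
    (hpl : ¬ Cfsg.PRankLE p 2 ↥(S : Subgroup G) → Cfsg.PLengthLE p 1 G) :
    (∀ q : ℕ, q.Prime → q ∣ (Cfsg.pPrimeCore p G).index → q ≤ p) ∧
      ((p = 3 ∨ ∀ q : ℕ, q.Prime → q ∣ Nat.card G → p ≤ q) → Cfsg.HasNormalPComplement p G) ∧
      Cfsg.HasNormalPComplement p ↥(commutator G) ∧
      (∀ L : Subgroup ↥(commutator G), (Nat.card L).Coprime p → L ≤ Cfsg.pPrimeCore p ↥(commutator G)) ∧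
      commutator G ≤ Cfsg.pPrimePCore p G ∧ ((Cfsg.pPrimePCore p G).index).Coprime p := by
  by_cases hr : Cfsg.PRankLE p 2 ↥(S : Subgroup G)
  · exact Cfsg.Agent.S1450.result hodd p hpG (prank_of_sylow p 2 S hr)
  · have hp2 : p ≠ 2 := by
      rintro rfl
      exact (Nat.not_even_iff_odd.mpr hodd) (even_iff_two_dvd.mpr hpG)
    have hE := Cfsg.Agent.Lib.Helper21.Narrow.hasMaxElem_of_narrow S.isPGroup' hS hr
    obtain ⟨h1, h5⟩ := Cfsg.Agent.Lib.Helper21.Narrow.narrow_solvable_main p hp2 S hr hE (hpl hr)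
    obtain ⟨h3, h4, h6⟩ := Cfsg.Agent.Lib.Helper11.RankTwoSolvable.consequences p h5
    exact ⟨h1, fun hs => Cfsg.Agent.Lib.Helper11.RankTwoSolvable.npc_of_small hodd p h1 hs,
      h3, h4, h5, h6⟩

end Cfsg.Agent.S1455
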