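import Cfsg.Statements.S0030
import Cfsg.Agent.Lib.Lead.Coprime

set_option autoImplicit false
open Pointwise
open Cfsg

namespace Cfsg.Agent.S0030

open Cfsg.Agent.Lib.Lead

/-- Under coprime action fixed points of a product of two invariant subgroups factor: if K = X Y with X and Y normalised by A then every A-fixed element of K is a product of an A-fixed element of X and an A-fixed element of Y. -/
theorem result {G : Type*} [Group G] [Finite G] (A K : Subgroup G) (hAK : A ≤ Subgroup.normalizer (K : Set G))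
    (hcop : (Nat.card A).Coprime (Nat.card K)) (hsolv : Group.IsSolvable A ∨ Group.IsSolvable K)
    (X Y : Subgroup G) (hX : X ≤ K) (hY : Y ≤ K) (hXA : A ≤ Subgroup.normalizer (X : Set G)) (hYA : A ≤ Subgroup.normalizer (Y : Set G))
    (hXY : ∀ k ∈ K, ∃ x ∈ X, ∃ y ∈ Y, k = x * y) (k : G) (hk : k ∈ K ⊓ Subgroup.centralizer (A : Set G)) :
    ∃ x ∈ X ⊓ Subgroup.centralizer (A : Set G), ∃ y ∈ Y ⊓ Subgroup.centralizer (A : Set G), k = x * y := by
  obtain ⟨x, hx, y, hy, hkxy⟩ := hXY k hk.1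
  have hDK : X ⊓ Y ≤ K := inf_le_left.trans hX
  have hAD : A ≤ Subgroup.normalizer ((X ⊓ Y : Subgroup G) : Set G) := by
    rw [Subgroup.le_normalizer_iff]
    intro a ha d hd
    exact ⟨(Subgroup.le_normalizer_iff.mp hXA) a ha d hd.1, (Subgroup.le_normalizer_iff.mp hYA) a ha d hd.2⟩
  have hfix : ∀ a ∈ A, x⁻¹ * (a * x * a⁻¹) ∈ X ⊓ Y := by
    intro a ha
    have hka : a * k = k * a := (Subgroup.mem_centralizer_iff.mp hk.2) a ha
    have hxa : a * x * a⁻¹ ∈ X := (Subgroup.le_normalizer_iff.mp hXA) a ha x hx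
    have hya : a * y * a⁻¹ ∈ Y := (Subgroup.le_normalizer_iff.mp hYA) a ha y hy
    refine ⟨X.mul_mem (X.inv_mem hx) hxa, ?_⟩
    have e : x⁻¹ * (a * x * a⁻¹) = y * (a * y * a⁻¹)⁻¹ := by
      have h1 : a * x * a⁻¹ * (a * y * a⁻¹) = x * y := by
        have : a * x * a⁻¹ * (a * y * a⁻¹) = a * (x * y) * a⁻¹ := by group
        rw [this, ← hkxy, hka]; group
      have h2 : a * x * a⁻¹ = x * y * (a * y * a⁻¹)⁻¹ := by rw [← h1]; group
      rw [h2]; group
    rw [e]
    exact Y.mul_mem hy (Y.inv_mem hya)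
  obtain ⟨d, hd, hc⟩ := coset_fixed A (X ⊓ Y) hAD (coprime_of_le hDK hcop) (solvable_or_of_le hDK hsolv) x hfix
  refine ⟨x * d, ⟨X.mul_mem hx hd.1, hc⟩, d⁻¹ * y, ⟨Y.mul_mem (Y.inv_mem hd.2) hy, ?_⟩, ?_⟩
  · have e : d⁻¹ * y = (x * d)⁻¹ * k := by rw [hkxy]; group
    rw [e]
    exact Subgroup.mul_mem _ (Subgroup.inv_mem _ hc) hk.2
  · rw [hkxy]; group

end Cfsg.Agent.S0030
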