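import Mathlib
import Cfsg.Statements.S1331
import Cfsg.Agent.S1324

set_option autoImplicit false
open Cfsg

namespace Cfsg.Agent.S1331

open Cfsg.Agent.Lib.Helper10

theorem le_normalizer_of_conj_mem {G : Type*} [Group G] (A X : Subgroup G)
    (h : ∀ b ∈ A, ∀ u ∈ X, b * u * b⁻¹ ∈ X) : A ≤ Subgroup.normalizer (X : Set G) := by
  intro b hb
  rw [Subgroup.mem_normalizer_iff]
  intro x
  constructor
  · exact h b hb x
  · intro hx
    have := h b⁻¹ (A.inv_mem hb) _ hx
    simpa [mul_assoc] using this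

theorem result {G : Type*} [Group G] [Finite G] (p : ℕ) [Fact p.Prime] (A : Subgroup G) (hA : Cfsg.IsElementaryAbelian p A) (hA3 : p ^ 3 ≤ Nat.card ↥A) (θ : G → Subgroup G) (hθ : Cfsg.IsSolvableSignalizerFunctor p A θ) (X : Subgroup G) (hX : X ∈ Cfsg.signalizerFamily p A θ) (B : Subgroup G) (hB : B ≤ A) (hB2 : p ^ 2 ≤ Nat.card ↥B) : X = ⨆ D : {D : Subgroup G // D ≤ B ∧ D.relIndex B = p}, X ⊓ Cfsg.signalizerInf (D : Subgroup G) θ := by
  have hp : p.Prime := Fact.out
  obtain ⟨_, hXp, hXA, hXθ⟩ := hX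
  have hBel : IsElementaryAbelian p B := elemAb_mono p hA hB
  have hBX : B ≤ Subgroup.normalizer (X : Set G) :=
    hB.trans (le_normalizer_of_conj_mem A X hXA)
  apply le_antisymm
  · have h1 := Cfsg.Agent.S1324.result p B X hBel hB2 hXp hBX
    have key : ∀ D : Subgroup G, D ≤ B → D.relIndex B = p →
        X ⊓ Subgroup.centralizer (D : Set G) ≤
          ⨆ D : {D : Subgroup G // D ≤ B ∧ D.relIndex B = p},
            X ⊓ Cfsg.signalizerInf (D : Subgroup G) θ := by
      intro D hDB hDidx
      refine le_trans ?_ (le_iSup (fun D : {D : Subgroup G // D ≤ B ∧ D.relIndex B = p} =>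
        X ⊓ Cfsg.signalizerInf (D : Subgroup G) θ) ⟨D, hDB, hDidx⟩)
      intro x hx
      have hx1 : x ∈ X := hx.1
      have hx2 : x ∈ Subgroup.centralizer (D : Set G) := hx.2
      rw [Subgroup.mem_inf]
      refine ⟨hx1, ?_⟩
      rw [signalizerInf, Subgroup.mem_iInf]
      rintro ⟨d, hdD, hd1⟩
      apply hXθ d (hB (hDB hdD)) hd1
      rw [Subgroup.mem_inf]
      refine ⟨hx1, ?_⟩
      rw [Subgroup.mem_centralizer_iff] at hx2 ⊢
      intro z hz
      rw [Set.mem_singleton_iff] at hz
      subst hz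
      exact hx2 z hdD
    conv_lhs => rw [h1]
    apply iSup_le
    rintro ⟨D, hDB, hDidx⟩
    have hdvd : D.relIndex B ∣ Nat.card ↥B := Subgroup.relIndex_dvd_card D B
    obtain ⟨k, hk⟩ := (IsPGroup.iff_card.1 (elemAb_isPGroup p hBel))
    rw [hk] at hdvd
    obtain ⟨j, _, hj⟩ := (Nat.dvd_prime_pow hp).1 hdvd
    by_cases hj1 : j = 0
    · rw [hj1, pow_zero, Subgroup.relIndex_eq_one] at hj
      have hne : ∃ a ∈ B, a ≠ 1 := by
        by_contra hcon
        push Not at hcon
        have : B = ⊥ := by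
          rw [eq_bot_iff]
          intro b hb
          exact Subgroup.mem_bot.2 (hcon b hb)
        rw [this, Subgroup.card_bot] at hB2
        have := hp.one_lt
        nlinarith
      obtain ⟨a, haB, ha1⟩ := hne
      obtain ⟨D', hD'B, _, _, hcard⟩ := exists_hyperplane_avoiding p hBel haB ha1
      have hidx' : D'.relIndex B = p := by
        have e := Cfsg.Agent.Lib.Helper1.card_mul_relIndex_of_le hD'B
        rw [hcard] at e
        exact Nat.eq_of_mul_eq_mul_left Nat.card_pos e
      refine le_trans ?_ (key D' hD'B hidx')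
      exact inf_le_inf_left _ (Subgroup.centralizer_le (by exact_mod_cast hD'B.trans hj))
    · have hj2 : j = 1 := by
        have h2 : p ^ j ≤ p ^ 1 := by rw [← hj, pow_one]; exact hDidx
        have := (Nat.pow_le_pow_iff_right hp.one_lt).1 h2
        omega
      rw [hj2, pow_one] at hj
      exact key D hDB hj
  · exact iSup_le (fun _ => inf_le_left)

end Cfsg.Agent.S1331
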