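import Cfsg.Statements.S1460
import Mathlib
import Cfsg.Agent.Lib.Lead.Coprime
import Cfsg.Agent.Lib.Helper10.SigTrans

set_option autoImplicit false
open Cfsg
open scoped Pointwise commutatorElement

namespace Cfsg.Agent.S1460

open Cfsg.Agent.Lib.Helper10

theorem part3 {G : Type*} [Group G] [Finite G] [Group.IsSolvable G] (K U H : Subgroup G)
    [hKn : K.Normal] (hKU : K ⊔ U = ⊤) (hH : H ≤ U) (hcop : (Nat.card H).Coprime (Nat.card K))
    (g : G) (hg : H.map (MulAut.conj g).toMonoidHom ≤ U) :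
    ∃ u ∈ U, ∃ c ∈ K ⊓ Subgroup.centralizer (H : Set G), g = u * c := by
  have hgtop : g ∈ U ⊔ K := by rw [sup_comm, hKU]; trivial
  obtain ⟨u, hu, k, hk, rfl⟩ := (Subgroup.mem_sup_of_normal_right).1 hgtop
  have hkU : ∀ h ∈ H, k * h * k⁻¹ ∈ U := by
    intro h hh
    have h1 : (MulAut.conj (u * k)) h ∈ U := hg ⟨h, hh, rfl⟩
    rw [MulAut.conj_apply] at h1
    have h2 : k * h * k⁻¹ = u⁻¹ * (u * k * h * (u * k)⁻¹) * u := by group
    rw [h2]
    exact U.mul_mem (U.mul_mem (U.inv_mem hu) h1) hu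
  have hHN : H ≤ Subgroup.normalizer ((U ⊓ K : Subgroup G) : Set G) := by
    apply le_normalizer_inf_of_le (hH.trans Subgroup.le_normalizer)
    intro x _
    rw [Subgroup.normalizer_eq_top K]
    trivial
  have hcop' : (Nat.card ↥H).Coprime (Nat.card ↥(U ⊓ K : Subgroup G)) :=
    Nat.Coprime.coprime_dvd_right (Subgroup.card_dvd_of_le inf_le_right) hcop
  have hHsolv : Group.IsSolvable ↥H := inferInstance
  have hB : H.map (MulAut.conj k).toMonoidHom ≤ H ⊔ (U ⊓ K) := by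
    rintro _ ⟨h, hh, rfl⟩
    show (MulAut.conj k) h ∈ H ⊔ (U ⊓ K)
    rw [MulAut.conj_apply]
    have h1 : k * h * k⁻¹ = (k * h * k⁻¹ * h⁻¹) * h := by group
    rw [h1, sup_comm]
    apply Subgroup.mul_mem_sup _ hh
    refine ⟨U.mul_mem (hkU h hh) (U.inv_mem (hH hh)), ?_⟩
    have h2 : k * h * k⁻¹ * h⁻¹ = k * (h * k⁻¹ * h⁻¹) := by group
    rw [h2]
    exact K.mul_mem hk (hKn.conj_mem _ (K.inv_mem hk) h)
  have hcardB : Nat.card ↥(H.map (MulAut.conj k).toMonoidHom) = Nat.card ↥H :=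
    Subgroup.card_map_of_injective (MulAut.conj k).injective
  obtain ⟨v, hv, hvB⟩ := Cfsg.Agent.Lib.Lead.hall_conj H (U ⊓ K) hHN hcop' (Or.inl hHsolv)
    (H.map (MulAut.conj k).toMonoidHom) hB hcardB
  have hcN : ∀ h ∈ H, (v⁻¹ * k) * h * (v⁻¹ * k)⁻¹ ∈ H := by
    intro h hh
    have h1 : (MulAut.conj k) h ∈ MulAut.conj v • H := by
      rw [hvB]
      exact ⟨h, hh, rfl⟩
    rw [Subgroup.mem_pointwise_smul_iff_inv_smul_mem, MulAut.smul_def, ← map_inv,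
      MulAut.conj_apply, MulAut.conj_apply] at h1
    have h2 : (v⁻¹ * k) * h * (v⁻¹ * k)⁻¹ = v⁻¹ * (k * h * k⁻¹) * v⁻¹⁻¹ := by group
    rw [h2]
    exact h1
  have hcK : v⁻¹ * k ∈ K := K.mul_mem (K.inv_mem hv.2) hk
  have hcC : v⁻¹ * k ∈ Subgroup.centralizer (H : Set G) := by
    rw [Subgroup.mem_centralizer_iff]
    intro h hh
    have h1 : (v⁻¹ * k) * h * (v⁻¹ * k)⁻¹ * h⁻¹ ∈ H := H.mul_mem (hcN h hh) (H.inv_mem hh)
    have h2 : (v⁻¹ * k) * h * (v⁻¹ * k)⁻¹ * h⁻¹ ∈ K := by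
      have e : (v⁻¹ * k) * h * (v⁻¹ * k)⁻¹ * h⁻¹ = (v⁻¹ * k) * (h * (v⁻¹ * k)⁻¹ * h⁻¹) := by
        group
      rw [e]
      exact K.mul_mem hcK (hKn.conj_mem _ (K.inv_mem hcK) h)
    have h3 := Cfsg.Agent.Lib.Lead.inf_eq_bot_of_coprime' H K hcop h1 h2
    have h4 : (v⁻¹ * k) * h = ((v⁻¹ * k) * h * (v⁻¹ * k)⁻¹ * h⁻¹) * (h * (v⁻¹ * k)) := by group
    rw [h4, h3, one_mul]
  refine ⟨u * v, U.mul_mem hu hv.1, v⁻¹ * k, ⟨hcK, hcC⟩, ?_⟩
  group

theorem commutator_le_sup {G : Type*} [Group G] (K U : Subgroup G) [hKn : K.Normal]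
    (hKU : K ⊔ U = ⊤) : commutator G ≤ ⁅U, U⁆ ⊔ K := by
  rw [commutator_def, Subgroup.commutator_le]
  intro g₁ _ g₂ _
  have hg₁ : g₁ ∈ U ⊔ K := by rw [sup_comm, hKU]; trivial
  have hg₂ : g₂ ∈ U ⊔ K := by rw [sup_comm, hKU]; trivial
  obtain ⟨u₁, hu₁, k₁, hk₁, rfl⟩ := (Subgroup.mem_sup_of_normal_right).1 hg₁
  obtain ⟨u₂, hu₂, k₂, hk₂, rfl⟩ := (Subgroup.mem_sup_of_normal_right).1 hg₂
  have h1 : (QuotientGroup.mk' K) ⁅u₁ * k₁, u₂ * k₂⁆ = (QuotientGroup.mk' K) ⁅u₁, u₂⁆ := by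
    have e1 : (QuotientGroup.mk' K) k₁ = 1 := (QuotientGroup.eq_one_iff k₁).2 hk₁
    have e2 : (QuotientGroup.mk' K) k₂ = 1 := (QuotientGroup.eq_one_iff k₂).2 hk₂
    rw [map_commutatorElement, map_commutatorElement, map_mul, map_mul, e1, e2, mul_one, mul_one]
  rw [QuotientGroup.mk'_apply, QuotientGroup.mk'_apply, eq_comm, QuotientGroup.eq] at h1
  have h2 : ⁅u₁ * k₁, u₂ * k₂⁆ = ⁅u₁, u₂⁆ * (⁅u₁, u₂⁆⁻¹ * ⁅u₁ * k₁, u₂ * k₂⁆) := by group
  rw [h2]
  exact Subgroup.mul_mem_sup (Subgroup.commutator_mem_commutator hu₁ hu₂) h1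

theorem part1 {G : Type*} [Group G] [Finite G] (K U H : Subgroup G)
    [hKn : K.Normal] (hKU : K ⊔ U = ⊤) (hH : H ≤ U) (hcop : (Nat.card H).Coprime (Nat.card K)) :
    H ⊓ commutator G = H ⊓ ⁅U, U⁆ := by
  apply le_antisymm
  · rintro h ⟨hhH, hhG⟩
    refine ⟨hhH, ?_⟩
    have h1 := commutator_le_sup K U hKU hhG
    obtain ⟨w, hw, k, hk, hwk⟩ := (Subgroup.mem_sup_of_normal_right).1 h1
    have hwU : w ∈ U := (Subgroup.commutator_le_self U) hw |> fun x => x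
    have hkU : k ∈ U := by
      have : k = w⁻¹ * h := by rw [← hwk]; group
      rw [this]
      exact U.mul_mem (U.inv_mem hwU) (hH hhH)
    have hw' : (⟨w, hwU⟩ : ↥U) ∈ commutator ↥U := by
      rw [← Subgroup.map_subtype_commutator] at hw
      obtain ⟨w', hw', hww⟩ := hw
      have : w' = ⟨w, hwU⟩ := Subtype.ext hww
      rw [← this]
      exact hw'
    have hofw : Abelianization.of (⟨w, hwU⟩ : ↥U) = 1 := by
      have : (⟨w, hwU⟩ : ↥U) ∈ (Abelianization.of (G := ↥U)).ker := by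
        rw [Abelianization.ker_of]; exact hw'
      exact this
    have hprod : (⟨h, hH hhH⟩ : ↥U) = ⟨w, hwU⟩ * ⟨k, hkU⟩ := Subtype.ext hwk.symm
    have hof : Abelianization.of (⟨h, hH hhH⟩ : ↥U) = Abelianization.of (⟨k, hkU⟩ : ↥U) := by
      rw [hprod, map_mul, hofw, one_mul]
    have e1 : (Abelianization.of (⟨h, hH hhH⟩ : ↥U)) ^ Nat.card ↥H = 1 := by
      rw [← map_pow]
      have : (⟨h, hH hhH⟩ : ↥U) ^ Nat.card ↥H = 1 := by
        apply Subtype.ext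
        rw [Subgroup.coe_pow, Subgroup.coe_one]
        have := pow_card_eq_one' (G := ↥H) (x := ⟨h, hhH⟩)
        exact congrArg Subtype.val this
      rw [this, map_one]
    have e2 : (Abelianization.of (⟨h, hH hhH⟩ : ↥U)) ^ Nat.card ↥K = 1 := by
      rw [hof, ← map_pow]
      have : (⟨k, hkU⟩ : ↥U) ^ Nat.card ↥K = 1 := by
        apply Subtype.ext
        rw [Subgroup.coe_pow, Subgroup.coe_one]
        have := pow_card_eq_one' (G := ↥K) (x := ⟨k, hk⟩)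
        exact congrArg Subtype.val this
      rw [this, map_one]
    have e3 := pow_gcd_eq_one.2 ⟨e1, e2⟩
    rw [Nat.Coprime.gcd_eq_one hcop, pow_one] at e3
    have hmem : (⟨h, hH hhH⟩ : ↥U) ∈ commutator ↥U := by
      rw [← Abelianization.ker_of]
      exact e3
    rw [← Subgroup.map_subtype_commutator]
    exact ⟨⟨h, hH hhH⟩, hmem, rfl⟩
  · apply inf_le_inf_left
    rw [commutator_def]
    exact Subgroup.commutator_mono le_top le_top

theorem result {G : Type*} [Group G] [Finite G] [Group.IsSolvable G] (K U H : Subgroup G) [K.Normal] (hKU : K ⊔ U = ⊤) (hH : H ≤ U) (hcop : (Nat.card H).Coprime (Nat.card K)) :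
    H ⊓ commutator G = H ⊓ ⁅U, U⁆ ∧
      Subgroup.normalizer (H : Set G) = (K ⊓ Subgroup.centralizer (H : Set G)) ⊔ (U ⊓ Subgroup.normalizer (H : Set G)) ∧
      ∀ g : G, H.map (MulAut.conj g).toMonoidHom ≤ U → ∃ u ∈ U, ∃ c ∈ K ⊓ Subgroup.centralizer (H : Set G), g = u * c := by
  refine ⟨part1 K U H hKU hH hcop, ?_, part3 K U H hKU hH hcop⟩
  apply le_antisymm
  · intro g hg
    have hgH : H.map (MulAut.conj g).toMonoidHom ≤ U := by
      rw [Cfsg.Agent.Lib.Helper10.cj_eq_self_iff.2 hg |> fun h => (h : H.map (MulAut.conj g).toMonoidHom = H)]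
      exact hH
    obtain ⟨u, hu, c, hc, rfl⟩ := part3 K U H hKU hH hcop g hgH
    have hcN : c ∈ Subgroup.normalizer (H : Set G) :=
      Subgroup.centralizer_le_normalizer (H : Set G) hc.2
    have huN : u ∈ Subgroup.normalizer (H : Set G) := by
      have : u = (u * c) * c⁻¹ := by group
      rw [this]
      exact Subgroup.mul_mem _ hg (Subgroup.inv_mem _ hcN)
    rw [sup_comm]
    exact Subgroup.mul_mem_sup ⟨hu, huN⟩ hc
  · apply sup_le
    · exact inf_le_right.trans (Subgroup.centralizer_le_normalizer (H : Set G))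
    · exact inf_le_right

end Cfsg.Agent.S1460
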