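import Cfsg.Statements.S1461
import Mathlib
import Cfsg.Agent.S1460
import Cfsg.Agent.S0634
import Cfsg.Agent.Lib.Helper1.Hall
import Cfsg.Agent.Lib.Helper1.Cores

set_option autoImplicit false
open Cfsg
open scoped Pointwise

namespace Cfsg.Agent.S1461

theorem frattini_aux {G : Type*} [Group G] [Finite G] (p : ℕ) [Fact p.Prime]
    (K M : Subgroup G) [hKn : K.Normal] [hMn : M.Normal] (hK : (Nat.card ↥K).Coprime p)
    (hM : M = (pCore p (G ⧸ K)).comap (QuotientGroup.mk' K))
    (hGM : pPrimeCore p (G ⧸ M) = ⊤) (S : Sylow p G) :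
    K ⊔ Subgroup.normalizer ((S : Subgroup G) : Set G) = ⊤ := by
  have hp : p.Prime := Fact.out
  have hKM : K ≤ M := by
    rw [hM]
    intro x hx
    rw [Subgroup.mem_comap]
    have : QuotientGroup.mk' K x = 1 := (QuotientGroup.eq_one_iff x).2 hx
    rw [this]
    exact Subgroup.one_mem _
  have hMmap : M.map (QuotientGroup.mk' K) = pCore p (G ⧸ K) := by
    rw [hM, Subgroup.map_comap_eq_self_of_surjective (QuotientGroup.mk'_surjective K)]
  have hMp : IsPGroup p ↥(M.map (QuotientGroup.mk' K)) := by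
    rw [hMmap]
    exact Cfsg.Agent.Lib.Helper1.pCore_isPGroup p
  obtain ⟨a, ha⟩ := IsPGroup.exists_card_eq hMp
  have hMcard : Nat.card ↥K * p ^ a = Nat.card ↥M := by
    rw [← ha]
    exact Cfsg.Agent.Lib.Helper1.card_map_mk'_of_le M K hKM
  have hidx : (Nat.card (G ⧸ M)).Coprime p := by
    have h1 := Cfsg.Agent.Lib.Helper1.pPrimeCore_card_coprime (G := G ⧸ M) p
    rw [hGM, Subgroup.card_top] at h1
    exact h1
  have hSM : (S : Subgroup G) ≤ M := by
    intro s hs
    obtain ⟨k, hk⟩ := (IsPGroup.iff_orderOf.1 S.isPGroup') ⟨s, hs⟩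
    have hs1 : s ^ p ^ k = 1 := by
      have h1 : (⟨s, hs⟩ : ↥(S : Subgroup G)) ^ p ^ k = 1 := by
        rw [← hk]
        exact pow_orderOf_eq_one _
      have h2 := congrArg Subtype.val h1
      rwa [Subgroup.coe_pow, Subgroup.coe_one] at h2
    have e1 : (QuotientGroup.mk' M s) ^ p ^ k = 1 := by rw [← map_pow, hs1, map_one]
    have e2 : (QuotientGroup.mk' M s) ^ Nat.card (G ⧸ M) = 1 := pow_card_eq_one'
    have e3 := pow_gcd_eq_one.2 ⟨e1, e2⟩
    have hg : Nat.gcd (p ^ k) (Nat.card (G ⧸ M)) = 1 :=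
      Nat.Coprime.pow_left k hidx.symm
    rw [hg, pow_one] at e3
    exact (QuotientGroup.eq_one_iff s).1 e3
  have hSK : (S : Subgroup G) ⊓ K = ⊥ := by
    apply disjoint_iff.1
    apply Subgroup.disjoint_of_coprime_natCard
    obtain ⟨b, hb⟩ := IsPGroup.exists_card_eq S.isPGroup'
    rw [hb]
    exact Nat.Coprime.pow_left b hK.symm
  have hcardSK := Cfsg.Agent.Lib.Helper1.card_sup_eq_mul_of_inf_eq_bot (S : Subgroup G) K hSK
  have hSKM : (S : Subgroup G) ⊔ K ≤ M := sup_le hSM hKM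
  have hScard : Nat.card ↥(S : Subgroup G) = p ^ (Nat.card G).factorization p :=
    S.card_eq_multiplicity
  have hale : a ≤ (Nat.card G).factorization p := by
    rw [← Nat.Prime.pow_dvd_iff_le_factorization hp Nat.card_pos.ne']
    have h1 : p ^ a ∣ Nat.card ↥M := by rw [← hMcard]; exact dvd_mul_left _ _
    exact h1.trans (Subgroup.card_subgroup_dvd_card M)
  have hMle : Nat.card ↥M ≤ Nat.card ↥((S : Subgroup G) ⊔ K) := by
    rw [hcardSK, hScard, ← hMcard, mul_comm]
    exact Nat.mul_le_mul_right _ (Nat.pow_le_pow_right hp.pos hale)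
  have hMeq : (S : Subgroup G) ⊔ K = M := Subgroup.eq_of_le_of_card_ge hSKM hMle
  have hfr := Sylow.normalizer_sup_eq_top' S hSM
  rw [← hMeq] at hfr
  rw [eq_top_iff, ← hfr]
  apply sup_le le_sup_right
  apply sup_le _ le_sup_left
  exact Subgroup.le_normalizer.trans le_sup_right

theorem frattini_plength_one {G : Type*} [Group G] [Finite G] (p : ℕ) [Fact p.Prime]
    (hpl : Cfsg.PLengthLE p 1 G) (S : Sylow p G) :
    ∃ K : Subgroup G, K.Normal ∧ (Nat.card ↥K).Coprime p ∧
      K ⊔ Subgroup.normalizer ((S : Subgroup G) : Set G) = ⊤ := by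
  have h0 : (upperPSeries p G 0).1 = ⊥ := rfl
  have h1 := Cfsg.Agent.S0634.ups_succ_even (G := G) p 0 (by decide)
  have h2 := Cfsg.Agent.S0634.ups_succ_odd (G := G) p 1 (by decide)
  have h3 := Cfsg.Agent.S0634.ups_succ_even (G := G) p 2 (by decide)
  have hpl' : (upperPSeries p G 3).1 = ⊤ := hpl
  refine ⟨(upperPSeries p G 1).1, inferInstance, ?_, ?_⟩
  · have hle : (upperPSeries p G 0).1 ≤ (upperPSeries p G 1).1 := by
      rw [h0]
      exact bot_le
    have hc := Cfsg.Agent.Lib.Helper1.card_map_mk'_of_le (upperPSeries p G 1).1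
      (upperPSeries p G 0).1 hle
    have hmap : (upperPSeries p G 1).1.map (QuotientGroup.mk' (upperPSeries p G 0).1) =
        pPrimeCore p (G ⧸ (upperPSeries p G 0).1) := by
      rw [h1, Subgroup.map_comap_eq_self_of_surjective (QuotientGroup.mk'_surjective _)]
    have hc0 : Nat.card ↥(upperPSeries p G 0).1 = 1 := by
      rw [h0, Subgroup.card_bot]
    rw [hmap, hc0, one_mul] at hc
    rw [← hc]
    exact Cfsg.Agent.Lib.Helper1.pPrimeCore_card_coprime p
  · apply frattini_aux p (upperPSeries p G 1).1 (upperPSeries p G 2).1 _ h2 _ S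
    · have hle : (upperPSeries p G 0).1 ≤ (upperPSeries p G 1).1 := by
        rw [h0]
        exact bot_le
      have hc := Cfsg.Agent.Lib.Helper1.card_map_mk'_of_le (upperPSeries p G 1).1
        (upperPSeries p G 0).1 hle
      have hmap : (upperPSeries p G 1).1.map (QuotientGroup.mk' (upperPSeries p G 0).1) =
          pPrimeCore p (G ⧸ (upperPSeries p G 0).1) := by
        rw [h1, Subgroup.map_comap_eq_self_of_surjective (QuotientGroup.mk'_surjective _)]
      have hc0 : Nat.card ↥(upperPSeries p G 0).1 = 1 := by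
        rw [h0, Subgroup.card_bot]
      rw [hmap, hc0, one_mul] at hc
      rw [← hc]
      exact Cfsg.Agent.Lib.Helper1.pPrimeCore_card_coprime p
    · rw [h3] at hpl'
      have hs := QuotientGroup.mk'_surjective (upperPSeries p G 2).1
      have := congrArg (Subgroup.map (QuotientGroup.mk' (upperPSeries p G 2).1)) hpl'
      rw [Subgroup.map_comap_eq_self_of_surjective hs, ← MonoidHom.range_eq_map,
        MonoidHom.range_eq_top_of_surjective _ hs] at this
      exact this

theorem coprime_of_le_sylow {G : Type*} [Group G] [Finite G] (p : ℕ) [Fact p.Prime]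
    (S : Sylow p G) (K H : Subgroup G) (hK : (Nat.card ↥K).Coprime p) (hH : H ≤ (S : Subgroup G)) :
    (Nat.card ↥H).Coprime (Nat.card ↥K) := by
  have hHp : IsPGroup p ↥H := S.isPGroup'.to_le hH
  obtain ⟨b, hb⟩ := IsPGroup.exists_card_eq hHp
  rw [hb]
  exact Nat.Coprime.pow_left b hK.symm

theorem part2 {G : Type*} [Group G] [Finite G] [Group.IsSolvable G] (p : ℕ) [Fact p.Prime]
    (hpl : Cfsg.PLengthLE p 1 G) (S : Sylow p G) (Y : Set G) (x : G)
    (hY : Y ⊆ (S : Subgroup G)) (hxY : (fun y => x * y * x⁻¹) '' Y ⊆ (S : Subgroup G)) :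
    ∃ g ∈ Subgroup.normalizer ((S : Subgroup G) : Set G), ∃ c ∈ Subgroup.centralizer Y,
      g * c = x := by
  obtain ⟨K, hKn, hKp, hKU⟩ := frattini_plength_one p hpl S
  have hHS : Subgroup.closure Y ≤ (S : Subgroup G) := (Subgroup.closure_le _).2 hY
  have hHU : Subgroup.closure Y ≤ Subgroup.normalizer ((S : Subgroup G) : Set G) :=
    hHS.trans Subgroup.le_normalizer
  have hcop := coprime_of_le_sylow p S K (Subgroup.closure Y) hKp hHS
  have hmap : (Subgroup.closure Y).map (MulAut.conj x).toMonoidHom ≤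
      Subgroup.normalizer ((S : Subgroup G) : Set G) := by
    rw [MonoidHom.map_closure, Subgroup.closure_le]
    rintro _ ⟨y, hy, rfl⟩
    apply Subgroup.le_normalizer
    apply hxY
    exact ⟨y, hy, by simp [MulAut.conj_apply]⟩
  obtain ⟨u, hu, c, hc, hxuc⟩ := (Cfsg.Agent.S1460.result K
    (Subgroup.normalizer ((S : Subgroup G) : Set G)) (Subgroup.closure Y) hKU hHU hcop).2.2 x hmap
  refine ⟨u, hu, c, ?_, hxuc.symm⟩
  have := hc.2
  rw [Subgroup.centralizer_closure] at this
  exact this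

theorem result {G : Type*} [Group G] [Finite G] [Group.IsSolvable G] (p : ℕ) [Fact p.Prime] (hpl : Cfsg.PLengthLE p 1 G) (S : Sylow p G) :
    ((S : Subgroup G) ≤ commutator G → (S : Subgroup G) ≤ ⁅Subgroup.normalizer ((S : Subgroup G) : Set G), Subgroup.normalizer ((S : Subgroup G) : Set G)⁆) ∧
      (∀ (Y : Set G) (x : G), Y ⊆ (S : Subgroup G) → (fun y => x * y * x⁻¹) '' Y ⊆ (S : Subgroup G) →
        ∃ g ∈ Subgroup.normalizer ((S : Subgroup G) : Set G), ∃ c ∈ Subgroup.centralizer Y, g * c = x) ∧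
      ∀ Q : Subgroup G, IsPGroup p Q → ∃ x ∈ Subgroup.centralizer ((Q ⊓ (S : Subgroup G) : Subgroup G) : Set G), Q.map (MulAut.conj x).toMonoidHom ≤ (S : Subgroup G) := by
  refine ⟨?_, fun Y x hY hxY => part2 p hpl S Y x hY hxY, ?_⟩
  · intro hS
    obtain ⟨K, hKn, hKp, hKU⟩ := frattini_plength_one p hpl S
    have hcop := coprime_of_le_sylow p S K (S : Subgroup G) hKp le_rfl
    have h1 := (Cfsg.Agent.S1460.result K (Subgroup.normalizer ((S : Subgroup G) : Set G))
      (S : Subgroup G) hKU Subgroup.le_normalizer hcop).1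
    have h2 : (S : Subgroup G) ≤ (S : Subgroup G) ⊓ commutator G := le_inf le_rfl hS
    rw [h1] at h2
    exact h2.trans inf_le_right
  · intro Q hQ
    obtain ⟨P, hQP⟩ := hQ.exists_le_sylow
    obtain ⟨g, hg⟩ := MulAction.exists_smul_eq G S P
    have hQg : ∀ q ∈ Q, g⁻¹ * q * g⁻¹⁻¹ ∈ (S : Subgroup G) := by
      intro q hq
      have h1 : q ∈ (P : Subgroup G) := hQP hq
      rw [← hg, Sylow.coe_subgroup_smul, Subgroup.mem_pointwise_smul_iff_inv_smul_mem,
        MulAut.smul_def, ← map_inv, MulAut.conj_apply] at h1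
      exact h1
    have hY : ((Q ⊓ (S : Subgroup G) : Subgroup G) : Set G) ⊆ (S : Subgroup G) := by
      intro y hy
      exact hy.2
    have hxY : (fun y => g⁻¹ * y * g⁻¹⁻¹) '' ((Q ⊓ (S : Subgroup G) : Subgroup G) : Set G) ⊆
        (S : Subgroup G) := by
      rintro _ ⟨y, hy, rfl⟩
      exact hQg y hy.1
    obtain ⟨n, hn, c, hc, hnc⟩ := part2 p hpl S _ g⁻¹ hY hxY
    refine ⟨c, hc, ?_⟩
    rintro _ ⟨q, hq, rfl⟩
    show (MulAut.conj c) q ∈ (S : Subgroup G)
    rw [MulAut.conj_apply]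
    have h1 := hQg q hq
    rw [← hnc] at h1
    have h2 : c * q * c⁻¹ = n⁻¹ * (n * c * q * (n * c)⁻¹) * n⁻¹⁻¹ := by group
    rw [h2]
    exact (Subgroup.mem_normalizer_iff.1 (Subgroup.inv_mem _ hn) _).1 h1

end Cfsg.Agent.S1461
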