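import Cfsg.Statements.S0029
import Cfsg.Agent.Lib.Lead.Coprime

set_option autoImplicit false
open Pointwise
open Cfsg

namespace Cfsg.Agent.S0029

open Cfsg.Agent.Lib.Lead Cfsg.Agent.S0001

/-- An action that is trivial on the Frattini quotient and coprime on the Frattini subgroup is trivial: if A normalises K, the orders of A and of the Frattini subgroup of K are coprime, and every commutator of an element of A with an element of K lies in the Frattini subgroup of K, then A centralises K. -/
theorem result {G : Type*} [Group G] [Finite G] (A K : Subgroup G)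
    (hAK : A ≤ Subgroup.normalizer (K : Set G))
    (hcop : (Nat.card A).Coprime (Nat.card (frattini K)))
    (htriv : ∀ a ∈ A, ∀ k ∈ K, a * k * a⁻¹ * k⁻¹ ∈ (frattini K).map K.subtype) :
    A ≤ Subgroup.centralizer (K : Set G) := by
  have hAF : A ≤ Subgroup.normalizer (((frattini K).map K.subtype : Subgroup G) : Set G) :=
    le_normalizer_map_characteristic K A hAK (frattini K)
  have hcardF : Nat.card ((frattini K).map K.subtype) = Nat.card (frattini K) :=
    Subgroup.card_map_of_injective K.subtype_injective
  have hcop' : (Nat.card A).Coprime (Nat.card ((frattini K).map K.subtype)) := by rw [hcardF]; exact hcop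
  have hnil : Group.IsNilpotent (frattini K) := frattini_nilpotent
  have hsolvF : Group.IsSolvable ((frattini K).map K.subtype) := solvable_map K.subtype (frattini K)
  have key : (Subgroup.centralizer (A : Set G)).subgroupOf K = ⊤ := by
    apply frattini_nongenerating
    rw [eq_top_iff]
    rintro ⟨k, hk⟩ -
    have hx : ∀ a ∈ A, k⁻¹ * (a * k * a⁻¹) ∈ (frattini K).map K.subtype := by
      intro a ha
      have h1 := Subgroup.inv_mem _ (htriv a ha k⁻¹ (K.inv_mem hk))
      have e : k⁻¹ * (a * k * a⁻¹) = (a * k⁻¹ * a⁻¹ * k⁻¹⁻¹)⁻¹ := by group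
      rw [e]; exact h1
    obtain ⟨d, hd, hc⟩ := coset_fixed A _ hAF hcop' (Or.inr hsolvF) k hx
    obtain ⟨φ, hφ, rfl⟩ := hd
    have e : (⟨k, hk⟩ : K) = (⟨k, hk⟩ * φ) * φ⁻¹ := by group
    rw [e]
    refine Subgroup.mul_mem _ (Subgroup.mem_sup_left ?_) (Subgroup.mem_sup_right (Subgroup.inv_mem _ hφ))
    rw [Subgroup.mem_subgroupOf]
    exact hc
  rw [Subgroup.subgroupOf_eq_top] at key
  exact Subgroup.le_centralizer_iff.mp key

end Cfsg.Agent.S0029
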