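import Cfsg.Statements.S3769
import Cfsg.Agent.Lib.Helper20.HHExtK
import Cfsg.Agent.Lib.Helper5.InvSylow

set_option autoImplicit false
open Cfsg

namespace Cfsg.Agent.S3769

open Cfsg.Agent.Lib.Helper20.HHExt
open scoped commutatorElement
open scoped IsMulCommutative


/-- Let G and V be subgroups of a finite group with G solvable of odd order normalizing V, V an elementary abelian ℓ-group for a prime ℓ not dividing the order of G, and suppose G has a normal Hall subgroup K with a complement R of prime order. If C_V(R) = 1, then [R, K] centralizes V. -/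
theorem result {X : Type*} [Group X] [Finite X] (G : Subgroup X) (hsolv : Group.IsSolvable G) (hodd : Odd (Nat.card G)) (V : Subgroup X) {ℓ : ℕ} (hℓ : ℓ.Prime) (hV : Cfsg.IsElementaryAbelian ℓ V) (hℓG : ¬ ℓ ∣ Nat.card G) (hGV : G ≤ Subgroup.normalizer (V : Set X)) (K R : Subgroup X) (hKG : K ≤ G) (hKn : G ≤ Subgroup.normalizer (K : Set X)) (hHall : (Nat.card K).Coprime (K.relIndex G)) (hRG : R ≤ G) (hR : (Nat.card R).Prime) (hKR : K ⊓ R = ⊥) (hKRG : K ⊔ R = G) (hCV : V ⊓ Subgroup.centralizer (R : Set X) = ⊥) : ⁅R, K⁆ ≤ Subgroup.centralizer (V : Set X) := by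
  classical
  obtain ⟨hVc, hVp⟩ := hV
  obtain ⟨r, hrdef⟩ : ∃ r : ℕ, r = Nat.card R := ⟨_, rfl⟩
  rw [← hrdef] at hR
  obtain ⟨x₀, hx₀R, hx₀1, hx₀r, hgen⟩ := exists_generator R hR hrdef.symm
  have hx₀G : x₀ ∈ G := hRG hx₀R
  -- the action on `V`
  let ψ : ↥G →* MulAut ↥V := V.normalizerMonoidHom.comp (Subgroup.inclusion hGV)
  have hψ : ∀ (g : ↥G) (v : ↥V), ((ψ g v : ↥V) : X) = (g : X) * (v : X) * (g : X)⁻¹ := by
    intro g v
    rfl
  obtain ⟨xb, hxb⟩ : ∃ xb : MulAut ↥V, xb = ψ ⟨x₀, hx₀G⟩ := ⟨_, rfl⟩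
  have hxbr : xb ^ r = 1 := by
    rw [hxb, ← map_pow]
    have : (⟨x₀, hx₀G⟩ : ↥G) ^ r = 1 := Subtype.ext hx₀r
    rw [this, map_one]
  -- arithmetic of the orders
  have hGne : Nat.card G ≠ 0 := Nat.card_pos.ne'
  have hrG : r ∣ Nat.card G := hrdef ▸ Subgroup.card_dvd_of_le hRG
  have hKdG : Nat.card K ∣ Nat.card G := Subgroup.card_dvd_of_le hKG
  have hℓr : ℓ ≠ r := by
    intro h
    exact hℓG (h ▸ hrG)
  have hKnorm : (K.subgroupOf G).Normal := by
    apply Subgroup.normal_subgroupOf_of_le_normalizer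
    exact hKn
  have hr_rel : r ∣ K.relIndex G := by
    let f : ↥R →* ↥G ⧸ K.subgroupOf G :=
      (QuotientGroup.mk' (K.subgroupOf G)).comp (Subgroup.inclusion hRG)
    have hf : Function.Injective f := by
      rw [injective_iff_map_eq_one]
      intro y hy
      have h1 : Subgroup.inclusion hRG y ∈ K.subgroupOf G := by
        rw [← QuotientGroup.eq_one_iff]
        exact hy
      have h2 : (y : X) ∈ K ⊓ R := Subgroup.mem_inf.mpr ⟨h1, y.2⟩
      rw [hKR, Subgroup.mem_bot] at h2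
      exact Subtype.ext h2
    have := Subgroup.card_dvd_of_injective f hf
    rw [← hrdef] at this
    rw [Subgroup.relIndex, Subgroup.index]
    exact this
  have hKr : (Nat.card K).Coprime r := Nat.Coprime.coprime_dvd_right hr_rel hHall
  -- case distinction
  by_cases hcase : ∀ k (hk : k ∈ K), xb * ψ ⟨k, hKG hk⟩ = ψ ⟨k, hKG hk⟩ * xb
  · -- `x₀` centralises the image of `K`
    rw [Subgroup.commutator_le]
    intro y hy k hk
    obtain ⟨n, rfl⟩ := hgen y hy
    have hyG : x₀ ^ n ∈ G := G.pow_mem hx₀G n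
    have hcG : ⁅x₀ ^ n, k⁆ ∈ G := by
      rw [commutatorElement_def]
      exact G.mul_mem (G.mul_mem (G.mul_mem hyG (hKG hk)) (G.inv_mem hyG)) (G.inv_mem (hKG hk))
    have h1 : ψ ⟨⁅x₀ ^ n, k⁆, hcG⟩ = 1 := by
      have e : (⟨⁅x₀ ^ n, k⁆, hcG⟩ : ↥G) =
          (⟨x₀, hx₀G⟩ : ↥G) ^ n * ⟨k, hKG hk⟩ * ((⟨x₀, hx₀G⟩ : ↥G) ^ n)⁻¹ * (⟨k, hKG hk⟩ : ↥G)⁻¹ := by
        apply Subtype.ext
        simp only [Subgroup.coe_mul, Subgroup.coe_inv, Subgroup.coe_pow]
        exact commutatorElement_def _ _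
      rw [e, map_mul, map_mul, map_mul, map_inv, map_inv, map_pow, ← hxb]
      have hc : Commute (xb ^ n) (ψ ⟨k, hKG hk⟩) := (show Commute xb _ from hcase k hk).pow_left n
      rw [hc.eq, mul_assoc (ψ ⟨k, hKG hk⟩), mul_inv_cancel, mul_one, mul_inv_cancel]
    rw [Subgroup.mem_centralizer_iff]
    intro v hv
    have h2 := congrArg (fun f : MulAut ↥V => ((f ⟨v, hv⟩ : ↥V) : X)) h1
    simp only [hψ, MulAut.one_apply] at h2
    have h3 : ⁅x₀ ^ n, k⁆ * v = ⁅x₀ ^ n, k⁆ * v * ⁅x₀ ^ n, k⁆⁻¹ * ⁅x₀ ^ n, k⁆ := by group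
    rw [h3, h2]
  · exfalso
    push Not at hcase
    obtain ⟨k₀, hk₀, hk₀ne⟩ := hcase
    -- find an invariant Sylow subgroup on whose image `x₀` acts non-trivially
    have hRsolv : Group.IsSolvable R :=
      Group.isSolvable_of_isSolvable_injective (f := Subgroup.inclusion hRG)
        (Subgroup.inclusion_injective hRG)
    have hRK : R ≤ Subgroup.normalizer (K : Set X) := le_trans hRG hKn
    have hcopRK : (Nat.card R).Coprime (Nat.card K) := by
      rw [← hrdef]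
      exact hKr.symm
    obtain ⟨q, hq, Q, hQK, hQq, hRQ, g₀, hg₀, hg₀ne⟩ : ∃ q : ℕ, q.Prime ∧ ∃ Q : Subgroup X,
        ∃ hQK : Q ≤ K, IsPGroup q Q ∧ R ≤ Subgroup.normalizer (Q : Set X) ∧
        ∃ g, ∃ hg : g ∈ Q, xb * ψ ⟨g, hKG (hQK hg)⟩ ≠ ψ ⟨g, hKG (hQK hg)⟩ * xb := by
      by_contra hcon
      push Not at hcon
      -- the subgroup of `K` whose image commutes with `xb`
      let C : Subgroup X := K ⊓ ((Subgroup.centralizer {xb}).comap ψ).map G.subtype
      have hCmem : ∀ k (hk : k ∈ K), k ∈ C ↔ xb * ψ ⟨k, hKG hk⟩ = ψ ⟨k, hKG hk⟩ * xb := by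
        intro k hk
        constructor
        · intro hkC
          obtain ⟨-, ⟨k', hk', hkk'⟩⟩ := Subgroup.mem_inf.mp hkC
          have : k' = ⟨k, hKG hk⟩ := Subtype.ext hkk'
          rw [← this]
          rw [SetLike.mem_coe, Subgroup.mem_comap, Subgroup.mem_centralizer_singleton_iff] at hk'
          exact hk'.symm
        · intro h
          refine Subgroup.mem_inf.mpr ⟨hk, ⟨⟨k, hKG hk⟩, ?_, rfl⟩⟩
          rw [SetLike.mem_coe, Subgroup.mem_comap, Subgroup.mem_centralizer_singleton_iff]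
          exact h.symm
      have hCK : C ≤ K := inf_le_left
      have hdvd : Nat.card K ∣ Nat.card C := by
        rw [← Nat.factorization_prime_le_iff_dvd Nat.card_pos.ne' Nat.card_pos.ne']
        intro q hq
        have hfq : Fact q.Prime := ⟨hq⟩
        obtain ⟨Q, hQK, hQq, hRQ, hQcard⟩ :=
          Cfsg.Agent.Lib.Helper5.exists_invariant_sylow_sub R K hRK hcopRK hRsolv q
        have hQC : Q ≤ C := by
          intro g hg
          rw [hCmem g (hQK hg)]
          exact hcon q hq Q hQK hQq hRQ g hg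
        have h1 := Subgroup.card_dvd_of_le hQC
        rw [hQcard] at h1
        exact (Nat.Prime.pow_dvd_iff_le_factorization hq Nat.card_pos.ne').mp h1
      have hCeq : C = K := Subgroup.eq_of_le_of_card_ge hCK (Nat.le_of_dvd Nat.card_pos hdvd)
      apply hk₀ne
      rw [← hCmem k₀ hk₀, hCeq]
      exact hk₀
    -- the image of `Q` in `MulAut V`
    have hQG : Q ≤ G := le_trans hQK hKG
    obtain ⟨Qb, hQb⟩ : ∃ Qb : Subgroup (MulAut ↥V), Qb = (Q.subgroupOf G).map ψ := ⟨_, rfl⟩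
    have hQbmem : ∀ a, a ∈ Qb ↔ ∃ g, ∃ hg : g ∈ Q, ψ ⟨g, hQG hg⟩ = a := by
      intro a
      rw [hQb]
      constructor
      · rintro ⟨g, hg, rfl⟩
        exact ⟨g.1, hg, rfl⟩
      · rintro ⟨g, hg, rfl⟩
        exact ⟨⟨g, hQG hg⟩, hg, rfl⟩
    have hQbq : IsPGroup q Qb := by
      rw [hQb]
      exact (hQq.comap_subtype).map ψ
    have hx₀Q : x₀ ∈ Subgroup.normalizer (Q : Set X) := hRQ hx₀R
    have hxbQ : xb ∈ Subgroup.normalizer (Qb : Set (MulAut ↥V)) := by
      rw [Subgroup.mem_normalizer_iff]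
      intro a
      constructor
      · intro ha
        obtain ⟨g, hg, rfl⟩ := (hQbmem a).mp ha
        rw [hQbmem]
        refine ⟨x₀ * g * x₀⁻¹, conj_mem_of_norm hx₀Q hg, ?_⟩
        rw [hxb, ← map_inv, ← map_mul, ← map_mul]
        rfl
      · intro ha
        obtain ⟨g, hg, hge⟩ := (hQbmem _).mp ha
        rw [hQbmem]
        refine ⟨x₀⁻¹ * g * x₀, conj_mem_of_norm' hx₀Q hg, ?_⟩
        have e : (⟨x₀⁻¹ * g * x₀, hQG (conj_mem_of_norm' hx₀Q hg)⟩ : ↥G) =
            (⟨x₀, hx₀G⟩ : ↥G)⁻¹ * ⟨g, hQG hg⟩ * ⟨x₀, hx₀G⟩ := rfl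
        rw [e, map_mul, map_mul, map_inv, ← hxb, hge]
        group
    have hqQ : q ∣ Nat.card Q := by
      have hfq : Fact q.Prime := ⟨hq⟩
      obtain ⟨j, hj⟩ := hQq.exists_card_eq
      rw [hj]
      apply dvd_pow_self
      intro hj0
      rw [hj0, pow_zero] at hj
      have hsub : Subsingleton Q := (Nat.card_eq_one_iff_unique.mp hj).1
      have : (⟨g₀, hg₀⟩ : Q) = 1 := Subsingleton.elim _ _
      have hg1 : g₀ = 1 := congrArg Subtype.val this
      apply hg₀ne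
      have e : (⟨g₀, hKG (hQK hg₀)⟩ : ↥G) = 1 := Subtype.ext hg1
      rw [e, map_one, mul_one, one_mul]
    have hqK : q ∣ Nat.card K := dvd_trans hqQ (Subgroup.card_dvd_of_le hQK)
    have hqG : q ∣ Nat.card G := dvd_trans hqK hKdG
    have hℓq : ℓ ≠ q := by
      intro h
      exact hℓG (h ▸ hqG)
    have hqr : q ≠ r := by
      intro h
      have h1 : q ∣ Nat.gcd (Nat.card K) r := Nat.dvd_gcd hqK (h ▸ dvd_rfl)
      rw [hKr.gcd_eq_one, Nat.dvd_one] at h1
      exact hq.one_lt.ne' h1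
    have hq2 : q ≠ 2 := by
      intro h
      rw [h] at hqG
      exact (Nat.not_even_iff_odd.mpr hodd) (even_iff_two_dvd.mpr hqG)
    obtain ⟨v, hv1, hvx⟩ := exists_fixed_aut hℓ hq hR hℓq hℓr hqr (V := ↥V)
      (fun v => Subtype.ext (hVp v v.2)) (MonoidHom.id (MulAut ↥V)) xb Qb hxbr hQbq hxbQ
      ⟨ψ ⟨g₀, hQG hg₀⟩, (hQbmem _).mpr ⟨g₀, hg₀, rfl⟩, hg₀ne⟩
      (fun d _ hd => hd)
      (fun h _ => absurd h hq2)
    apply hv1
    apply Subtype.ext
    have h1 : (v : X) ∈ V ⊓ Subgroup.centralizer (R : Set X) := by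
      refine Subgroup.mem_inf.mpr ⟨v.2, mem_centralizer_of_generator R x₀ hgen v ?_⟩
      have h2 := congrArg (fun w : ↥V => (w : X)) hvx
      simp only [MonoidHom.id_apply, hxb, hψ] at h2
      have h3 : x₀ * (v : X) = x₀ * (v : X) * x₀⁻¹ * x₀ := by group
      rw [h3]
      exact congrArg (· * x₀) h2
    rw [hCV, Subgroup.mem_bot] at h1
    exact h1

end Cfsg.Agent.S3769
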