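import Cfsg.Statements.S0031
import Mathlib

set_option autoImplicit false
open Cfsg

namespace Cfsg.Agent.S0031

open scoped Pointwise

/-- A fixed-point-free automorphism of a finite group maps some Sylow p-subgroup to itself. -/
theorem result {G : Type*} [Group G] [Finite G] (φ : G ≃* G)
    (hφ : MonoidHom.FixedPointFree (φ : G →* G)) (p : ℕ) [Fact p.Prime] :
    ∃ P : Sylow p G, (P : Subgroup G).map (φ : G →* G) = P := by
  obtain ⟨P⟩ := (inferInstance : Nonempty (Sylow p G))
  let φ' : MulAut G := φ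
  obtain ⟨g, hg⟩ := MulAction.exists_smul_eq G (φ' • P) P
  obtain ⟨z, hz⟩ := MonoidHom.FixedPointFree.commutatorMap_surjective hφ g
  have hz' : z * (φ z)⁻¹ = g := by rw [← div_eq_mul_inv]; exact hz
  have h1 : ∀ c ∈ P, g * φ c * g⁻¹ ∈ P := by
    intro c hc
    have h2 : φ c ∈ φ' • P := by
      rw [← SetLike.mem_coe, ← Sylow.coe_coe, Sylow.pointwise_smul_def]
      exact ⟨c, hc, rfl⟩
    have h3 : g * φ c * g⁻¹ ∈ g • (φ' • P) := by
      rw [← SetLike.mem_coe, ← Sylow.coe_coe, Sylow.coe_subgroup_smul]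
      exact ⟨φ c, h2, rfl⟩
    rwa [hg] at h3
  refine ⟨z⁻¹ • P, ?_⟩
  apply Subgroup.eq_of_le_of_card_ge
  · rintro a ⟨b, hb, rfl⟩
    rw [SetLike.mem_coe, Sylow.coe_subgroup_smul, Subgroup.mem_pointwise_smul_iff_inv_smul_mem] at hb
    simp only [inv_inv, MulAut.smul_def, MulAut.conj_inv_apply] at hb
    have h4 := h1 _ hb
    rw [Sylow.coe_subgroup_smul, Subgroup.mem_pointwise_smul_iff_inv_smul_mem]
    simp only [inv_inv, MulAut.smul_def, MulAut.conj_inv_apply]
    have h5 : z * (φ : G →* G) b * z⁻¹ = g * φ (z * b * z⁻¹) * g⁻¹ := by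
      rw [← hz']
      simp only [map_mul, map_inv, MonoidHom.coe_coe]
      group
    rw [h5]; exact h4
  · rw [Subgroup.card_map_of_injective]
    exact φ.injective

end Cfsg.Agent.S0031
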