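import Mathlib
import Cfsg.Statements.S0132
import Cfsg.Prelude.Def_Transfer
import Cfsg.Agent.S0071
import Cfsg.Agent.Lib.Helper1.NPC
import Cfsg.Agent.Lib.Helper1.NPC2
import Cfsg.Agent.Lib.Helper1.Fitting

set_option autoImplicit false
open Cfsg

namespace Cfsg.Agent.S0132

variable {G : Type*} [Group G]

/-- in a group where all Sylow subgroups are normal, `p'`-elements centralize the Sylow `p`-subgroup -/
theorem mem_centralizer_sylow_of_all_normal [Finite G] {p : ℕ} [hp : Fact p.Prime]
    (hall : ∀ (r : ℕ) [Fact r.Prime] (R : Sylow r G), (R : Subgroup G).Normal)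
    (P : Sylow p G) (g : G) (hg : (orderOf g).Coprime p) :
    g ∈ Subgroup.centralizer ((P : Subgroup G) : Set G) := by
  haveI hPn : (P : Subgroup G).Normal := hall p P
  haveI hCn : (Subgroup.centralizer ((P : Subgroup G) : Set G)).Normal := Subgroup.normal_centralizer
  -- the index of the centralizer is a power of p
  have hidx : ∀ r : ℕ, r.Prime → r ∣ (Subgroup.centralizer ((P : Subgroup G) : Set G)).index → r = p := by
    intro r hr hdvd
    by_contra hne
    haveI : Fact r.Prime := ⟨hr⟩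
    let R : Sylow r G := default
    haveI hRn : (R : Subgroup G).Normal := hall r R
    have hRC : (R : Subgroup G) ≤ Subgroup.centralizer ((P : Subgroup G) : Set G) := by
      intro y hy
      rw [Subgroup.mem_centralizer_iff]
      intro x hx
      have hdisj : Disjoint (P : Subgroup G) (R : Subgroup G) := by
        apply Subgroup.disjoint_of_coprime_natCard
        obtain ⟨a, ha⟩ := IsPGroup.iff_card.mp P.2
        obtain ⟨b, hb⟩ := IsPGroup.iff_card.mp R.2
        rw [ha, hb]
        exact Nat.Coprime.pow _ _ ((Nat.coprime_primes hp.out hr).mpr (Ne.symm hne))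
      exact Subgroup.commute_of_normal_of_disjoint _ _ hPn hRn hdisj x y hx hy
    have h1 : (Subgroup.centralizer ((P : Subgroup G) : Set G)).index ∣ (R : Subgroup G).index :=
      Subgroup.index_dvd_of_le hRC
    exact R.not_dvd_index (hdvd.trans h1)
  have hpow : (Subgroup.centralizer ((P : Subgroup G) : Set G)).index =
      p ^ (Subgroup.centralizer ((P : Subgroup G) : Set G)).index.primeFactorsList.length :=
    Nat.eq_prime_pow_of_unique_prime_dvd Subgroup.index_ne_zero_of_finite (fun {d} hd hdv => hidx d hd hdv)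
  have h1 : orderOf (QuotientGroup.mk' (Subgroup.centralizer ((P : Subgroup G) : Set G)) g) ∣ orderOf g :=
    orderOf_map_dvd _ g
  have h2 : orderOf (QuotientGroup.mk' (Subgroup.centralizer ((P : Subgroup G) : Set G)) g) ∣
      p ^ (Subgroup.centralizer ((P : Subgroup G) : Set G)).index.primeFactorsList.length := by
    rw [← hpow, Subgroup.index_eq_card]; exact orderOf_dvd_natCard _
  have h3 := Nat.eq_one_of_dvd_coprimes (Nat.Coprime.pow_right _ hg) h1 h2
  rw [orderOf_eq_one_iff] at h3
  exact (QuotientGroup.eq_one_iff g).mp h3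

theorem result {G : Type*} [Group G] [Finite G] {p : ℕ} [Fact p.Prime] (h1 : ¬ Cfsg.HasNormalPComplement p G) (h2 : ∀ H : Subgroup G, H ≠ ⊤ → Cfsg.HasNormalPComplement p H) : (∀ H : Subgroup G, H ≠ ⊤ → Group.IsNilpotent H) ∧ ¬ Group.IsNilpotent G ∧ ∀ P : Sylow p G, (P : Subgroup G).Normal := by
  have hp : p.Prime := Fact.out
  let P₀ : Sylow p G := default
  have hex : ∃ Q : Subgroup G, Q ≤ (P₀ : Subgroup G) ∧ ∃ g ∈ Subgroup.normalizer (Q : Set G),
      Nat.Coprime (orderOf g) p ∧ g ∉ Subgroup.centralizer (Q : Set G) := by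
    by_contra hcon
    push Not at hcon
    apply h1
    rw [Cfsg.Agent.Lib.Helper1.hasNormalPComplement_iff P₀]
    exact (Cfsg.Agent.S0071.result P₀).mpr (fun Q hQ g hg hc => hcon Q hQ g hg hc)
  obtain ⟨Q, hQP, g, hgN, hgcop, hgC⟩ := hex
  have htop : Q ⊔ Subgroup.zpowers g = ⊤ := by
    by_contra hne
    obtain ⟨P_H, N_H, hNn, hN⟩ := h2 _ hne
    have hQH : Q ≤ Q ⊔ Subgroup.zpowers g := le_sup_left
    have hgH : g ∈ Q ⊔ Subgroup.zpowers g :=
      (le_sup_right : Subgroup.zpowers g ≤ Q ⊔ Subgroup.zpowers g) (Subgroup.mem_zpowers g)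
    have hQ'p : IsPGroup p (Q.subgroupOf (Q ⊔ Subgroup.zpowers g)) :=
      (P₀.2.to_le hQP).comap_of_injective _ (Subgroup.subtype_injective _)
    obtain ⟨P', hP'⟩ := hQ'p.exists_le_sylow
    have hN' := Cfsg.Agent.Lib.Helper1.isComplement'_sylow_of_isComplement'_sylow P' P_H hN
    haveI := hNn
    have hgN' : (⟨g, hgH⟩ : ↥(Q ⊔ Subgroup.zpowers g)) ∈
        Subgroup.normalizer ((Q.subgroupOf (Q ⊔ Subgroup.zpowers g) : Subgroup _) : Set _) := by
      rw [Subgroup.mem_normalizer_iff]
      intro h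
      rw [Subgroup.mem_subgroupOf, Subgroup.mem_subgroupOf]
      simpa using Subgroup.mem_normalizer_iff.mp hgN (h : G)
    have hcen := Cfsg.Agent.S0071.centralizes_of_normal_complement P' N_H hN'
      (Q.subgroupOf (Q ⊔ Subgroup.zpowers g)) hP' ⟨g, hgH⟩ hgN'
      (by rw [Subgroup.orderOf_mk]; exact hgcop)
    apply hgC
    rw [Subgroup.mem_centralizer_iff] at hcen ⊢
    intro x hx
    have := hcen ⟨x, hQH hx⟩ (by rw [SetLike.mem_coe, Subgroup.mem_subgroupOf]; exact hx)
    simpa using congrArg Subtype.val this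
  have hQn : Q.Normal := by
    rw [← Subgroup.normalizer_eq_top_iff, eq_top_iff, ← htop]
    exact sup_le Subgroup.le_normalizer ((Subgroup.zpowers_le).mpr hgN)
  have hQeq : Q = (P₀ : Subgroup G) := by
    haveI := hQn
    have hdvd : Nat.card G ∣ Nat.card Q * Nat.card (Subgroup.zpowers g) := by
      have := Cfsg.Agent.Lib.Helper1.card_sup_dvd_mul (Subgroup.zpowers g) Q
      rw [sup_comm, htop, Subgroup.card_top, mul_comm] at this
      exact this
    have h3 : Nat.card (P₀ : Subgroup G) ∣ Nat.card Q := by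
      have h4 : Nat.card (P₀ : Subgroup G) ∣ Nat.card Q * Nat.card (Subgroup.zpowers g) :=
        (Subgroup.card_subgroup_dvd_card _).trans hdvd
      obtain ⟨k, hk⟩ := IsPGroup.iff_card.mp P₀.2
      rw [hk] at h4 ⊢
      refine (Nat.Coprime.dvd_of_dvd_mul_right ?_ h4)
      rw [Nat.card_zpowers]
      exact Nat.Coprime.pow_left k hgcop.symm
    exact Subgroup.eq_of_le_of_card_ge hQP (Nat.le_of_dvd Nat.card_pos h3)
  have hP₀n : (P₀ : Subgroup G).Normal := hQeq ▸ hQn
  have huniq : ∀ S : Sylow p G, S = P₀ := by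
    intro S
    haveI := Sylow.unique_of_normal P₀ hP₀n
    exact Subsingleton.elim _ _
  have hallP : ∀ P : Sylow p G, (P : Subgroup G).Normal := by
    intro P
    rw [huniq P]; exact hP₀n
  have hnil : ¬ Group.IsNilpotent G := by
    intro hnil
    apply hgC
    have hall : ∀ (r : ℕ) [Fact r.Prime] (R : Sylow r G), (R : Subgroup G).Normal := by
      intro r _ R; infer_instance
    have := mem_centralizer_sylow_of_all_normal hall P₀ g hgcop
    exact Subgroup.centralizer_le (show (Q : Set G) ⊆ (P₀ : Subgroup G) from hQP) this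
  have hcommG : ∀ a b : G, a * b * a⁻¹ * b⁻¹ ∈ (P₀ : Subgroup G) := by
    haveI := hP₀n
    have hq : ∀ u : G ⧸ (P₀ : Subgroup G), ∃ i : ℤ, u = (QuotientGroup.mk' (P₀ : Subgroup G) g) ^ i := by
      intro u
      obtain ⟨a, rfl⟩ := QuotientGroup.mk'_surjective _ u
      have ha : a ∈ ((Q ⊔ Subgroup.zpowers g : Subgroup G) : Set G) := by rw [htop]; trivial
      haveI := hQn
      rw [Subgroup.normal_mul] at ha
      obtain ⟨x, hx, y, hy, rfl⟩ := Set.mem_mul.mp ha
      obtain ⟨i, rfl⟩ := Subgroup.mem_zpowers_iff.mp hy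
      refine ⟨i, ?_⟩
      rw [map_mul, map_zpow]
      have : QuotientGroup.mk' (P₀ : Subgroup G) x = 1 := (QuotientGroup.eq_one_iff x).mpr (hQP hx)
      rw [this, one_mul]
    intro a b
    rw [← QuotientGroup.eq_one_iff]
    obtain ⟨i, hi⟩ := hq (QuotientGroup.mk' _ a)
    obtain ⟨j, hj⟩ := hq (QuotientGroup.mk' _ b)
    show QuotientGroup.mk' (P₀ : Subgroup G) (a * b * a⁻¹ * b⁻¹) = 1
    rw [map_mul, map_mul, map_mul, map_inv, map_inv, hi, hj]
    group
  have hsub : ∀ H : Subgroup G, H ≠ ⊤ → Group.IsNilpotent H := by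
    intro H hH
    obtain ⟨P_H, N_H, hNn, hN⟩ := h2 H hH
    haveI := hNn
    have hNc : (Nat.card N_H).Coprime p :=
      Cfsg.Agent.Lib.Helper1.card_coprime_of_isComplement'_sylow P_H hN
    have hPH : ∀ x ∈ (P_H : Subgroup H), (x : G) ∈ (P₀ : Subgroup G) := by
      intro x hx
      have hpg : IsPGroup p ((P_H : Subgroup H).map H.subtype) := P_H.2.map _
      obtain ⟨S, hS⟩ := hpg.exists_le_sylow
      rw [← huniq S]; exact hS ⟨x, hx, rfl⟩
    have htriv : ∀ n ∈ N_H, (n : G) ∈ (P₀ : Subgroup G) → n = 1 := by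
      intro n hn hnP
      obtain ⟨k, hk⟩ := P₀.2 ⟨_, hnP⟩
      have h1 : orderOf n ∣ p ^ k := by
        apply orderOf_dvd_of_pow_eq_one
        ext; simpa using congrArg Subtype.val hk
      have h2 : orderOf n ∣ Nat.card N_H := Subgroup.orderOf_dvd_natCard _ hn
      exact orderOf_eq_one_iff.mp (Nat.eq_one_of_dvd_coprimes (Nat.Coprime.pow_right k hNc) h2 h1)
    have hcenter : N_H ≤ Subgroup.center H := by
      intro n hn
      rw [Subgroup.mem_center_iff]
      intro h
      obtain ⟨⟨⟨n', hn'⟩, ⟨x, hx⟩⟩, hnx, -⟩ := (Subgroup.isComplement_iff_existsUnique.mp hN) h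
      simp only at hnx
      have c1 : n' * n = n * n' := by
        have hc : n' * n * n'⁻¹ * n⁻¹ = 1 :=
          htriv _ (N_H.mul_mem (N_H.mul_mem (N_H.mul_mem hn' hn) (N_H.inv_mem hn')) (N_H.inv_mem hn))
            (by simpa using hcommG (n' : G) (n : G))
        have := congrArg (fun t => t * n * n') hc
        simpa [mul_assoc] using this
      have c2 : x * n = n * x := by
        have hc : x * n * x⁻¹ * n⁻¹ = 1 :=
          htriv _ (N_H.mul_mem (hNn.conj_mem n hn x) (N_H.inv_mem hn)) (by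
            have h1 : (x : G) ∈ (P₀ : Subgroup G) := hPH x hx
            have h2 : (n : G) * (x : G)⁻¹ * (n : G)⁻¹ ∈ (P₀ : Subgroup G) :=
              hP₀n.conj_mem _ (Subgroup.inv_mem _ h1) _
            have := Subgroup.mul_mem _ h1 h2
            simpa [mul_assoc] using this)
        have := congrArg (fun t => t * n * x) hc
        simpa [mul_assoc] using this
      rw [← hnx, mul_assoc, c2, ← mul_assoc, c1, mul_assoc]
    haveI : Group.IsNilpotent (↥H ⧸ N_H) := by
      apply IsPGroup.isNilpotent (p := p)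
      obtain ⟨k, hk⟩ := IsPGroup.iff_card.mp P_H.2
      apply IsPGroup.of_card (n := k)
      rw [← Subgroup.index_eq_card, Cfsg.Agent.Lib.Helper1.index_eq_card_of_isComplement' hN, hk]
    exact Subgroup.isNilpotent_of_ker_le_center (QuotientGroup.mk' N_H)
      (by rw [QuotientGroup.ker_mk']; exact hcenter)
  exact ⟨hsub, hnil, hallP⟩

end Cfsg.Agent.S0132
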