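import Cfsg.Statements.S1190
import Cfsg.Agent.Lib.Helper9.QD5

set_option autoImplicit false
open Cfsg

namespace Cfsg.Agent.S1190

open Cfsg.Agent.Lib.Helper9

theorem klein_eq {S : Type*} [Group S] [Finite S] (D : QD S) (T : Subgroup S) (hT : IsKleinFour T) :
    ∃ i, D.Ev i ∧ T = D.L 2 D.two_u i := by
  classical
  have hsq : ∀ g ∈ T, g * g = 1 := by
    intro g hg
    have := IsKleinFour.mul_self (⟨g, hg⟩ : T)
    exact congrArg Subtype.val this
  have hcard : Nat.card T = 4 := IsKleinFour.card_four
  have hX : ∀ k, D.X k ∈ T → k = 0 ∨ k = D.u := by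
    intro k hk
    have := hsq _ hk
    rw [← D.X_add] at this
    apply D.two_mul_eq_zero
    have h2 := D.X_eq_one _ this
    linear_combination h2
  -- a Y-type element
  have hexY : ∃ a, D.Y a ∈ T := by
    by_contra hcon
    push Not at hcon
    have hle : T ≤ Subgroup.zpowers D.z := by
      intro g hg
      rcases D.cases g with ⟨k, rfl⟩ | ⟨k, rfl⟩
      · rcases hX k hg with rfl | rfl
        · rw [D.X_zero]; exact Subgroup.one_mem _
        · exact Subgroup.mem_zpowers _
      · exact absurd hg (hcon k)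
    have := Subgroup.card_le_of_le hle
    rw [hcard, Nat.card_zpowers, D.orderOf_z] at this
    omega
  obtain ⟨a, ha⟩ := hexY
  have hEva : D.Ev a := by
    by_contra hne
    have := hsq _ ha
    rw [D.Y_sq, D.u_mul_of_not_ev hne] at this
    exact D.z_ne_one this
  have hua : D.u * a = 0 := D.u_mul_of_ev hEva
  have hYa2 : orderOf (D.Y a) = 2 := (D.orderOf_two_iff _).mpr (Or.inr ⟨a, hEva, rfl⟩)
  -- z ∈ T
  have hz : D.z ∈ T := by
    have hex : ∃ g ∈ T, g ≠ 1 ∧ g ≠ D.Y a := by
      by_contra hcon
      push Not at hcon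
      have hle : T ≤ Subgroup.zpowers (D.Y a) := by
        intro g hg
        by_cases h1 : g = 1
        · rw [h1]; exact Subgroup.one_mem _
        · rw [hcon g hg h1]; exact Subgroup.mem_zpowers _
      have := Subgroup.card_le_of_le hle
      rw [hcard, Nat.card_zpowers, hYa2] at this
      omega
    obtain ⟨g, hg, hg1, hga⟩ := hex
    rcases D.cases g with ⟨k, rfl⟩ | ⟨k, rfl⟩
    · rcases hX k hg with rfl | rfl
      · exact absurd D.X_zero hg1
      · exact hg
    · have h1 : D.X (k + D.ρ * a) ∈ T := by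
        rw [← D.Y_mul_Y]; exact T.mul_mem hg ha
      rcases hX _ h1 with h2 | h2
      · exfalso
        apply hga
        congr 1
        rw [D.ρ_eq] at h2
        linear_combination h2 - hua
      · rw [h2] at h1; exact h1
  refine ⟨a, hEva, ?_⟩
  apply le_antisymm
  · intro g hg
    rcases D.cases g with ⟨k, rfl⟩ | ⟨k, rfl⟩
    · rw [D.X_mem_L]
      rcases hX k hg with rfl | rfl
      · ring
      · exact D.two_u
    · rw [D.Y_mem_L]
      have h1 : D.X (k + D.ρ * a) ∈ T := by
        rw [← D.Y_mul_Y]; exact T.mul_mem hg ha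
      rcases hX _ h1 with h2 | h2
      · rw [D.ρ_eq] at h2
        linear_combination 2 * h2 - 2 * hua
      · rw [D.ρ_eq] at h2
        linear_combination 2 * h2 - 2 * hua + D.two_u
  · rintro g (⟨k, hk, rfl⟩ | ⟨k, hk, rfl⟩)
    · rcases D.two_mul_eq_zero k hk with rfl | rfl
      · rw [D.X_zero]; exact T.one_mem
      · exact hz
    · rcases D.two_mul_eq_zero (k - a) hk with h | h
      · have : k = a := sub_eq_zero.mp h
        rw [this]; exact ha
      · have : D.Y k = D.z * D.Y a := by
          unfold QD.z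
          rw [D.X_mul_Y]
          congr 1
          linear_combination h
        rw [this]
        exact T.mul_mem hz ha

/-- In a quasi-dihedral 2-group S, any two Klein four-subgroups are conjugate, and every Klein four-subgroup T satisfies C_S(T) = T and |N_S(T) : T| = 2. -/
theorem result {S : Type*} [Group S] [Finite S] (hS : Cfsg.IsQuasiDihedral S) : (∀ T₁ T₂ : Subgroup S, IsKleinFour T₁ → IsKleinFour T₂ → ∃ s : S, T₁.map (MulAut.conj s).toMonoidHom = T₂) ∧ (∀ T : Subgroup S, IsKleinFour T → Subgroup.centralizer (T : Set S) = T ∧ T.relIndex (Subgroup.normalizer (T : Set S)) = 2) := by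
  classical
  obtain ⟨D⟩ := exists_qd hS
  constructor
  · intro T₁ T₂ h₁ h₂
    obtain ⟨i₁, hi₁, rfl⟩ := klein_eq D T₁ h₁
    obtain ⟨i₂, hi₂, rfl⟩ := klein_eq D T₂ h₂
    obtain ⟨j, hj⟩ := D.ev_sub hi₂ hi₁
    obtain ⟨m, hm⟩ := D.conj_even j
    refine ⟨D.X m, ?_⟩
    rw [D.map_conj_L]
    congr 1
    rw [hm, ← hj]
    ring
  · intro T hT
    obtain ⟨i, hi, rfl⟩ := klein_eq D T hT
    constructor
    · apply le_antisymm
      · intro c hc
        rw [Subgroup.mem_centralizer_iff] at hc
        have hYi : D.Y i ∈ D.L 2 D.two_u i := by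
          rw [D.Y_mem_L]; ring
        have := hc _ hYi
        exact (D.commute_Y_iff i c).mp this.symm
      · intro g hg
        rw [Subgroup.mem_centralizer_iff]
        intro h hh
        have hcomm := IsKleinFour.isMulCommutative (G := ↥(D.L 2 D.two_u i))
        have := mul_comm' (⟨h, hh⟩ : ↥(D.L 2 D.two_u i)) ⟨g, hg⟩
        exact congrArg Subtype.val this
    · rw [D.normalizer_L2, D.relIndex_L2_L4]

end Cfsg.Agent.S1190
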