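import Cfsg.Statements.S1191
import Cfsg.Agent.Lib.Helper9.QD6

set_option autoImplicit false
open Cfsg

namespace Cfsg.Agent.S1191

open Cfsg.Agent.Lib.Helper9

theorem q8_pow_four : ∀ q : QuaternionGroup 2, q ^ 4 = 1 := by decide
theorem q8_sq : ∀ q r : QuaternionGroup 2, r * r = 1 → r ≠ 1 → q * q = 1 ∨ q * q = r := by decide
theorem q8_uniq : ∀ q r : QuaternionGroup 2, q * q = 1 → q ≠ 1 → r * r = 1 → r ≠ 1 → q = r := by
  decide

theorem quat_eq {S : Type*} [Group S] [Finite S] (D : QD S) (Q : Subgroup S)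
    (hQ : Nonempty (Q ≃* QuaternionGroup 2)) : ∃ i, ¬ D.Ev i ∧ Q = D.L 4 D.four_u i := by
  classical
  obtain ⟨e⟩ := hQ
  have hcard : Nat.card Q = 8 := by
    rw [Nat.card_congr e.toEquiv, Nat.card_eq_fintype_card, QuaternionGroup.card]
  have hpow4 : ∀ g ∈ Q, g ^ 4 = 1 := by
    intro g hg
    have h1 := q8_pow_four (e ⟨g, hg⟩)
    rw [← map_pow] at h1
    have h2 := e.injective (h1.trans (map_one e).symm)
    exact congrArg Subtype.val h2
  have hsq : ∀ g ∈ Q, ∀ h ∈ Q, h * h = 1 → h ≠ 1 → g * g = 1 ∨ g * g = h := by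
    intro g hg h hh h1 h2
    have hr1 : e ⟨h, hh⟩ * e ⟨h, hh⟩ = 1 := by
      rw [← map_mul]
      have : (⟨h, hh⟩ : Q) * ⟨h, hh⟩ = 1 := Subtype.ext h1
      rw [this, map_one]
    have hr2 : e ⟨h, hh⟩ ≠ 1 := by
      intro hc
      apply h2
      have := e.injective (hc.trans (map_one e).symm)
      exact congrArg Subtype.val this
    rcases q8_sq (e ⟨g, hg⟩) (e ⟨h, hh⟩) hr1 hr2 with h3 | h3
    · left
      rw [← map_mul] at h3
      have := e.injective (h3.trans (map_one e).symm)
      exact congrArg Subtype.val this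
    · right
      rw [← map_mul] at h3
      have := e.injective h3
      exact congrArg Subtype.val this
  have huniq : ∀ g ∈ Q, ∀ h ∈ Q, g * g = 1 → g ≠ 1 → h * h = 1 → h ≠ 1 → g = h := by
    intro g hg h hh g1 g2 h1 h2
    have tr : ∀ (t : S) (ht : t ∈ Q), t * t = 1 → t ≠ 1 →
        e ⟨t, ht⟩ * e ⟨t, ht⟩ = 1 ∧ e ⟨t, ht⟩ ≠ 1 := by
      intro t ht t1 t2
      constructor
      · rw [← map_mul]
        have : (⟨t, ht⟩ : Q) * ⟨t, ht⟩ = 1 := Subtype.ext t1
        rw [this, map_one]
      · intro hc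
        apply t2
        have := e.injective (hc.trans (map_one e).symm)
        exact congrArg Subtype.val this
    obtain ⟨a1, a2⟩ := tr g hg g1 g2
    obtain ⟨b1, b2⟩ := tr h hh h1 h2
    have := e.injective (q8_uniq _ _ a1 a2 b1 b2)
    exact congrArg Subtype.val this
  have hX4 : ∀ k, D.X k ∈ Q → 4 * k = 0 := by
    intro k hk
    have := hpow4 _ hk
    rw [D.X_pow] at this
    have h2 := D.X_eq_one _ this
    push_cast at h2
    exact h2
  have hXv4 : orderOf (D.X D.v) = 4 := (D.orderOf_four_iff _).mpr (Or.inl rfl)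
  have hXmem : ∀ k, 4 * k = 0 → D.X k ∈ Subgroup.zpowers (D.X D.v) := by
    intro k hk
    rcases D.four_mul_cases k hk with rfl | rfl | rfl | rfl
    · rw [D.X_zero]; exact Subgroup.one_mem _
    · have : D.X D.u = (D.X D.v) ^ 2 := by
        rw [D.X_pow]; congr 1; push_cast; rw [D.two_v]
      rw [this]; exact Subgroup.pow_mem _ (Subgroup.mem_zpowers _) _
    · exact Subgroup.mem_zpowers _
    · rw [D.X_neg]; exact Subgroup.inv_mem _ (Subgroup.mem_zpowers _)
  -- a Y-type element
  have hexY : ∃ a, D.Y a ∈ Q := by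
    by_contra hcon
    push Not at hcon
    have hle : Q ≤ Subgroup.zpowers (D.X D.v) := by
      intro g hg
      rcases D.cases g with ⟨k, rfl⟩ | ⟨k, rfl⟩
      · exact hXmem k (hX4 k hg)
      · exact absurd hg (hcon k)
    have := Subgroup.card_le_of_le hle
    rw [hcard, Nat.card_zpowers, hXv4] at this
    omega
  obtain ⟨a, ha⟩ := hexY
  have hsqX : ∀ g : S, ∃ k, g * g = D.X k := by
    intro g
    rcases D.cases g with ⟨k, rfl⟩ | ⟨k, rfl⟩
    · exact ⟨k + k, (D.X_add k k).symm⟩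
    · exact ⟨D.u * k, D.Y_sq k⟩
  have hEva : ¬ D.Ev a := by
    intro hEv
    have hYa2 : orderOf (D.Y a) = 2 := (D.orderOf_two_iff _).mpr (Or.inr ⟨a, hEv, rfl⟩)
    have h1 : D.Y a * D.Y a = 1 := by rw [D.Y_sq, D.u_mul_of_ev hEv, D.X_zero]
    have h2 : D.Y a ≠ 1 := by rw [← D.X_zero]; exact D.Y_ne_X a 0
    have hall : ∀ g ∈ Q, g * g = 1 := by
      intro g hg
      rcases hsq g hg _ ha h1 h2 with h3 | h3
      · exact h3
      · exfalso
        obtain ⟨k, hk⟩ := hsqX g
        rw [hk] at h3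
        exact D.Y_ne_X a k h3.symm
    have hle : Q ≤ Subgroup.zpowers (D.Y a) := by
      intro g hg
      by_cases hg1 : g = 1
      · rw [hg1]; exact Subgroup.one_mem _
      · rw [huniq g hg _ ha (hall g hg) hg1 h1 h2]; exact Subgroup.mem_zpowers _
    have := Subgroup.card_le_of_le hle
    rw [hcard, Nat.card_zpowers, hYa2] at this
    omega
  have hua : D.u * a = D.u := D.u_mul_of_not_ev hEva
  have hz : D.z ∈ Q := by
    have : D.z = D.Y a * D.Y a := by rw [D.Y_sq, hua]; rfl
    rw [this]; exact Q.mul_mem ha ha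
  have hYa4 : orderOf (D.Y a) = 4 :=
    (D.orderOf_four_iff _).mpr (Or.inr (Or.inr ⟨a, hEva, rfl⟩))
  have hXv : D.X D.v ∈ Q := by
    have hex : ∃ g ∈ Q, g ∉ Subgroup.zpowers (D.Y a) := by
      by_contra hcon
      push Not at hcon
      have := Subgroup.card_le_of_le (show Q ≤ Subgroup.zpowers (D.Y a) from hcon)
      rw [hcard, Nat.card_zpowers, hYa4] at this
      omega
    obtain ⟨g, hg, hgn⟩ := hex
    have key : ∃ k, D.X k ∈ Q ∧ k ≠ 0 ∧ k ≠ D.u := by
      rcases D.cases g with ⟨k, rfl⟩ | ⟨b, rfl⟩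
      · refine ⟨k, hg, ?_, ?_⟩
        · rintro rfl
          apply hgn; rw [D.X_zero]; exact Subgroup.one_mem _
        · rintro rfl
          apply hgn
          have : D.X D.u = (D.Y a) ^ 2 := by rw [D.Y_pow_two, hua]
          rw [this]; exact Subgroup.pow_mem _ (Subgroup.mem_zpowers _) _
      · refine ⟨b + D.ρ * a, ?_, ?_, ?_⟩
        · rw [← D.Y_mul_Y]; exact Q.mul_mem hg ha
        · intro h0
          apply hgn
          have : D.Y b = (D.Y a)⁻¹ := by
            rw [D.Y_inv]; congr 1; linear_combination h0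
          rw [this]; exact Subgroup.inv_mem _ (Subgroup.mem_zpowers _)
        · intro h0
          apply hgn
          have : D.Y b = D.Y a := by
            congr 1
            rw [D.ρ_eq] at h0
            linear_combination h0 - hua
          rw [this]; exact Subgroup.mem_zpowers _
    obtain ⟨k, hkQ, hk0, hku⟩ := key
    rcases D.four_mul_cases k (hX4 k hkQ) with rfl | rfl | rfl | rfl
    · exact absurd rfl hk0
    · exact absurd rfl hku
    · exact hkQ
    · have : D.X D.v = (D.X (-D.v))⁻¹ := by rw [D.X_neg, inv_inv]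
      rw [this]; exact Q.inv_mem hkQ
  have hXall : ∀ k, 4 * k = 0 → D.X k ∈ Q := by
    intro k hk
    rcases D.four_mul_cases k hk with rfl | rfl | rfl | rfl
    · rw [D.X_zero]; exact Q.one_mem
    · exact hz
    · exact hXv
    · rw [D.X_neg]; exact Q.inv_mem hXv
  refine ⟨a, hEva, ?_⟩
  apply le_antisymm
  · intro g hg
    rcases D.cases g with ⟨k, rfl⟩ | ⟨k, rfl⟩
    · rw [D.X_mem_L]; exact hX4 k hg
    · rw [D.Y_mem_L]
      have h1 : D.X (k + D.ρ * a) ∈ Q := by
        rw [← D.Y_mul_Y]; exact Q.mul_mem hg ha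
      have h2 := hX4 _ h1
      rw [D.ρ_eq] at h2
      linear_combination h2 - a * D.four_u
  · rintro g (⟨k, hk, rfl⟩ | ⟨k, hk, rfl⟩)
    · exact hXall k hk
    · have : D.Y k = D.X (k - a) * D.Y a := by
        rw [D.X_mul_Y]; congr 1; ring
      rw [this]
      exact Q.mul_mem (hXall _ hk) ha

/-- In a quasi-dihedral 2-group S, any two subgroups isomorphic to the quaternion group of order 8 are conjugate, and each such subgroup Q satisfies C_S(Q) = Z(Q) and |N_S(Q) : Q| = 2. -/
theorem result {S : Type*} [Group S] [Finite S] (hS : Cfsg.IsQuasiDihedral S) : (∀ Q₁ Q₂ : Subgroup S, Nonempty (Q₁ ≃* QuaternionGroup 2) → Nonempty (Q₂ ≃* QuaternionGroup 2) → ∃ s : S, Q₁.map (MulAut.conj s).toMonoidHom = Q₂) ∧ (∀ Q : Subgroup S, Nonempty (Q ≃* QuaternionGroup 2) → Subgroup.centralizer (Q : Set S) = (Subgroup.center Q).map Q.subtype ∧ Q.relIndex (Subgroup.normalizer (Q : Set S)) = 2) := by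
  classical
  obtain ⟨D⟩ := exists_qd hS
  constructor
  · intro Q₁ Q₂ h₁ h₂
    obtain ⟨i₁, hi₁, rfl⟩ := quat_eq D Q₁ h₁
    obtain ⟨i₂, hi₂, rfl⟩ := quat_eq D Q₂ h₂
    obtain ⟨j₁, rfl⟩ := D.odd_form hi₁
    obtain ⟨j₂, rfl⟩ := D.odd_form hi₂
    obtain ⟨m, hm⟩ := D.conj_even (j₂ - j₁)
    refine ⟨D.X m, ?_⟩
    rw [D.map_conj_L]
    congr 1
    rw [hm]
    ring
  · intro Q hQ
    obtain ⟨a, ha, rfl⟩ := quat_eq D Q hQ
    constructor
    · ext c
      constructor
      · intro hc
        rw [Subgroup.mem_centralizer_iff] at hc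
        have hYa : D.Y a ∈ D.L 4 D.four_u a := by rw [D.Y_mem_L]; ring
        have hXv : D.X D.v ∈ D.L 4 D.four_u a := by
          rw [D.X_mem_L]; linear_combination 2 * D.two_v + D.two_u
        have h1 := (D.commute_Y_iff a c).mp (hc _ hYa).symm
        have hcQ : c ∈ D.L 4 D.four_u a := by
          rcases h1 with ⟨k, hk, rfl⟩ | ⟨k, hk, rfl⟩
          · rw [D.X_mem_L]; linear_combination 2 * hk
          · exfalso
            have h2 := hc _ hXv
            rw [D.X_mul_Y, D.Y_mul_X] at h2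
            have h3 := D.Y_inj h2
            apply D.u_ne_zero
            rw [D.ρ_eq] at h3
            linear_combination h3 - D.two_v + D.u_mul_v
        rw [Subgroup.mem_map]
        refine ⟨⟨c, hcQ⟩, ?_, rfl⟩
        rw [Subgroup.mem_center_iff]
        intro q
        exact Subtype.ext (hc q.1 q.2)
      · intro hc
        rw [Subgroup.mem_map] at hc
        obtain ⟨q, hq, rfl⟩ := hc
        rw [Subgroup.mem_center_iff] at hq
        rw [Subgroup.mem_centralizer_iff]
        intro h hh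
        exact congrArg Subtype.val (hq ⟨h, hh⟩)
    · rw [D.normalizer_L]
      exact D.relIndex_L 4 D.four_u D.w D.four_w a

end Cfsg.Agent.S1191
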