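import Cfsg.Statements.S0206
import Mathlib
import Cfsg.Agent.Lib.helper2.Dihedral

set_option autoImplicit false
open Cfsg

namespace Cfsg.Agent.S0206

open Cfsg.Agent.Lib.helper2

theorem zpow_cast {G : Type*} [Group G] (ρ : G) (k : ℤ) :
    ρ ^ (ZMod.cast (k : ZMod (orderOf ρ)) : ℤ) = ρ ^ k := by
  rw [zpow_eq_zpow_iff_modEq, ← ZMod.intCast_eq_intCast_iff, ZMod.intCast_zmod_cast]

noncomputable def dihMap {G : Type*} [Group G] (x y : G) : DihedralGroup (orderOf (x * y)) → G
  | DihedralGroup.r i => (x * y) ^ (ZMod.cast i : ℤ)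
  | DihedralGroup.sr i => x * (x * y) ^ (ZMod.cast i : ℤ)

theorem dihMap_r {G : Type*} [Group G] (x y : G) (k : ℤ) :
    dihMap x y (DihedralGroup.r (k : ZMod (orderOf (x * y)))) = (x * y) ^ k := by
  show (x * y) ^ (ZMod.cast (k : ZMod (orderOf (x * y))) : ℤ) = _
  rw [zpow_cast]

theorem dihMap_sr {G : Type*} [Group G] (x y : G) (k : ℤ) :
    dihMap x y (DihedralGroup.sr (k : ZMod (orderOf (x * y)))) = x * (x * y) ^ k := by
  show x * (x * y) ^ (ZMod.cast (k : ZMod (orderOf (x * y))) : ℤ) = _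
  rw [zpow_cast]

theorem dihMap_mul {G : Type*} [Group G] {x y : G} (hx : x * x = 1) (hy : y * y = 1)
    (a b : DihedralGroup (orderOf (x * y))) : dihMap x y (a * b) = dihMap x y a * dihMap x y b := by
  cases a with
  | r i =>
    cases b with
    | r j =>
      rw [DihedralGroup.r_mul_r, ← ZMod.intCast_zmod_cast i, ← ZMod.intCast_zmod_cast j, ← Int.cast_add,
        dihMap_r, dihMap_r, dihMap_r, zpow_add]
    | sr j =>
      rw [DihedralGroup.r_mul_sr, ← ZMod.intCast_zmod_cast i, ← ZMod.intCast_zmod_cast j, ← Int.cast_sub,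
        dihMap_r, dihMap_sr, dihMap_sr, ← mul_assoc, Dih.zpow_mul_x hx hy, mul_assoc, ← zpow_add, neg_add_eq_sub]
  | sr i =>
    cases b with
    | r j =>
      rw [DihedralGroup.sr_mul_r, ← ZMod.intCast_zmod_cast i, ← ZMod.intCast_zmod_cast j, ← Int.cast_add,
        dihMap_r, dihMap_sr, dihMap_sr, mul_assoc, ← zpow_add]
    | sr j =>
      rw [DihedralGroup.sr_mul_sr, ← ZMod.intCast_zmod_cast i, ← ZMod.intCast_zmod_cast j, ← Int.cast_sub,
        dihMap_r, dihMap_sr, dihMap_sr, mul_assoc, ← mul_assoc _ x, Dih.zpow_mul_x hx hy, mul_assoc, ← zpow_add,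
        ← mul_assoc, hx, one_mul, neg_add_eq_sub]



/-- Two distinct involutions x, y of a finite group generate a subgroup isomorphic to the dihedral group of order 2·|xy|. -/
theorem result {G : Type*} [Group G] [Finite G] (x y : G) (hx : orderOf x = 2) (hy : orderOf y = 2) (hxy : x ≠ y) : Nonempty (↥(Subgroup.closure ({x, y} : Set G)) ≃* DihedralGroup (orderOf (x * y))) := by
  have hx' := Dih.mul_self_of_orderOf hx
  have hy' := Dih.mul_self_of_orderOf hy
  have hxnot := Dih.x_not_mem_zpowers hx hy hxy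
  have hmem : ∀ a, dihMap x y a ∈ Subgroup.closure ({x, y} : Set G) := by
    intro a
    cases a with
    | r i => exact Subgroup.zpow_mem _ (Dih.rot_mem_closure x y) _
    | sr i => exact Subgroup.mul_mem _ (Dih.x_mem_closure x y) (Subgroup.zpow_mem _ (Dih.rot_mem_closure x y) _)
  let f : DihedralGroup (orderOf (x * y)) →* ↥(Subgroup.closure ({x, y} : Set G)) :=
    { toFun := fun a => ⟨dihMap x y a, hmem a⟩
      map_one' := by
        apply Subtype.ext
        show dihMap x y 1 = 1
        rw [DihedralGroup.one_def]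
        show (x * y) ^ (ZMod.cast (0 : ZMod (orderOf (x * y))) : ℤ) = 1
        have := zpow_cast (x * y) 0
        rw [Int.cast_zero] at this
        rw [this, zpow_zero]
      map_mul' := fun a b => Subtype.ext (dihMap_mul hx' hy' a b) }
  have hcastinj : ∀ i j : ZMod (orderOf (x * y)), (x * y) ^ (ZMod.cast i : ℤ) = (x * y) ^ (ZMod.cast j : ℤ) → i = j := by
    intro i j h
    rw [zpow_eq_zpow_iff_modEq, ← ZMod.intCast_eq_intCast_iff, ZMod.intCast_zmod_cast, ZMod.intCast_zmod_cast] at h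
    exact h
  have hinj : Function.Injective f := by
    intro a b hab
    have hab' : dihMap x y a = dihMap x y b := congrArg Subtype.val hab
    cases a with
    | r i =>
      cases b with
      | r j => rw [hcastinj i j hab']
      | sr j =>
        exfalso
        apply hxnot
        have h1 : (x * y) ^ (ZMod.cast i : ℤ) = x * (x * y) ^ (ZMod.cast j : ℤ) := hab'
        have h2 : x = (x * y) ^ (ZMod.cast i : ℤ) * ((x * y) ^ (ZMod.cast j : ℤ))⁻¹ := by
          rw [h1, mul_inv_cancel_right]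
        have h3 : (x * y) ^ (ZMod.cast i : ℤ) * ((x * y) ^ (ZMod.cast j : ℤ))⁻¹ ∈ Subgroup.zpowers (x * y) :=
          Subgroup.mul_mem _ (Subgroup.zpow_mem_zpowers _ _) (Subgroup.inv_mem _ (Subgroup.zpow_mem_zpowers _ _))
        rwa [← h2] at h3
    | sr i =>
      cases b with
      | r j =>
        exfalso
        apply hxnot
        have h1 : x * (x * y) ^ (ZMod.cast i : ℤ) = (x * y) ^ (ZMod.cast j : ℤ) := hab'
        have h2 : x = (x * y) ^ (ZMod.cast j : ℤ) * ((x * y) ^ (ZMod.cast i : ℤ))⁻¹ := by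
          rw [← h1, mul_inv_cancel_right]
        have h3 : (x * y) ^ (ZMod.cast j : ℤ) * ((x * y) ^ (ZMod.cast i : ℤ))⁻¹ ∈ Subgroup.zpowers (x * y) :=
          Subgroup.mul_mem _ (Subgroup.zpow_mem_zpowers _ _) (Subgroup.inv_mem _ (Subgroup.zpow_mem_zpowers _ _))
        rwa [← h2] at h3
      | sr j =>
        have h1 : x * (x * y) ^ (ZMod.cast i : ℤ) = x * (x * y) ^ (ZMod.cast j : ℤ) := hab'
        rw [hcastinj i j (mul_left_cancel h1)]
  have hsurj : Function.Surjective f := by
    rintro ⟨d, hd⟩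
    obtain ⟨k, hk | hk⟩ := Dih.mem_closure_form hx' hy' d hd
    · refine ⟨DihedralGroup.r (k : ZMod (orderOf (x * y))), Subtype.ext ?_⟩
      show dihMap x y (DihedralGroup.r (k : ZMod (orderOf (x * y)))) = d
      rw [dihMap_r, hk]
    · refine ⟨DihedralGroup.sr ((-k : ℤ) : ZMod (orderOf (x * y))), Subtype.ext ?_⟩
      show dihMap x y (DihedralGroup.sr ((-k : ℤ) : ZMod (orderOf (x * y)))) = d
      rw [dihMap_sr, hk, Dih.zpow_mul_x hx' hy']
  exact ⟨(MulEquiv.ofBijective f ⟨hinj, hsurj⟩).symm⟩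

end Cfsg.Agent.S0206
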