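import Cfsg.Statements.S1196
import Cfsg.Agent.Lib.Helper9.Wr4

set_option autoImplicit false
open Cfsg

namespace Cfsg.Agent.S1196

open Cfsg.Agent.Lib.Helper9

/-- A wreathed 2-group S of order 2^(2n+1) has a unique commutative subgroup of order 2^(2n), and this subgroup is isomorphic to the direct product of two cyclic groups of order 2^n. -/
theorem result {S : Type*} [Group S] [Finite S] (hS : Cfsg.IsWreathed S) (n : ℕ) (hn : Nat.card S = 2 ^ (2 * n + 1)) : (∃! U : Subgroup S, IsMulCommutative U ∧ Nat.card U = 2 ^ (2 * n)) ∧ ∀ U : Subgroup S, IsMulCommutative U → Nat.card U = 2 ^ (2 * n) → Nonempty (U ≃* Multiplicative (ZMod (2 ^ n) × ZMod (2 ^ n))) := by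
  classical
  obtain ⟨D⟩ := exists_wd hS
  have hnD : n = D.n := by
    have h1 := D.card
    rw [hn] at h1
    have h2 := Nat.pow_right_injective (le_refl 2) h1
    omega
  subst hnD
  have hUcomm : IsMulCommutative D.U := by
    refine ⟨⟨fun a b => ?_⟩⟩
    apply Subtype.ext
    obtain ⟨i, j, ha⟩ := a.2
    obtain ⟨k, l, hb⟩ := b.2
    show (a : S) * (b : S) = (b : S) * (a : S)
    rw [ha, hb, D.A_mul_A, D.A_mul_A]; congr 1 <;> ring
  have hN4 : 4 ≤ 2 ^ D.n := by
    calc 4 = 2 ^ 2 := by norm_num
      _ ≤ 2 ^ D.n := Nat.pow_le_pow_right (by norm_num) D.hn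
  -- uniqueness
  have huniq : ∀ V : Subgroup S, IsMulCommutative V → Nat.card V = 2 ^ (2 * D.n) → V = D.U := by
    intro V hV hVcard
    by_contra hne
    have hnle : ¬ V ≤ D.U := by
      intro hle
      apply hne
      apply Subgroup.eq_of_le_of_card_ge hle
      rw [hVcard, D.card_U]
    obtain ⟨g, hgV, hgU⟩ := SetLike.not_le_iff_exists.mp hnle
    rcases D.cases g with ⟨a, b, rfl⟩ | ⟨a, b, rfl⟩
    · exact hgU (D.A_mem_U a b)
    · have hcomm : ∀ h ∈ V, h * D.B a b = D.B a b * h := by
        intro h hh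
        exact congrArg Subtype.val (mul_comm' (⟨h, hh⟩ : V) ⟨_, hgV⟩)
      have hcen : ∀ h ∈ V, h ∈ D.U → h ∈ Subgroup.center S := by
        intro h hh hU
        obtain ⟨k, l, rfl⟩ := hU
        have h1 := hcomm _ hh
        rw [D.A_mul_B, D.B_mul_A] at h1
        have h2 := D.B_inj h1
        rw [D.mem_center_iff]
        refine ⟨k, ?_⟩
        congr 1
        linear_combination -h2.1
      let f : V → (Subgroup.center S) × Bool := fun h =>
        if hU : (h : S) ∈ D.U then (⟨h, hcen h h.2 hU⟩, false)
        else (⟨(h : S) * D.B a b, hcen _ (V.mul_mem h.2 hgV)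
          ((Subgroup.mul_mem_iff_of_index_two D.index_U).mpr (iff_of_false hU hgU))⟩, true)
      have hf : Function.Injective f := by
        intro h h' hh
        by_cases h1 : (h : S) ∈ D.U <;> by_cases h2 : (h' : S) ∈ D.U
        · simp only [f, dif_pos h1, dif_pos h2, Prod.mk.injEq, Subtype.mk.injEq, and_true] at hh
          exact Subtype.ext hh
        · simp only [f, dif_pos h1, dif_neg h2, Prod.mk.injEq] at hh
          exact absurd hh.2 (by simp)
        · simp only [f, dif_neg h1, dif_pos h2, Prod.mk.injEq] at hh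
          exact absurd hh.2 (by simp)
        · simp only [f, dif_neg h1, dif_neg h2, Prod.mk.injEq, Subtype.mk.injEq, and_true] at hh
          exact Subtype.ext (mul_right_cancel hh)
      have hle := Nat.card_le_card_of_injective f hf
      rw [hVcard, Nat.card_prod, D.card_center] at hle
      simp only [Nat.card_eq_fintype_card, Fintype.card_bool] at hle
      have h3 : 2 ^ (2 * D.n) = 2 ^ D.n * 2 ^ D.n := by rw [two_mul, pow_add]
      rw [h3] at hle
      have hpos : 0 < 2 ^ D.n := by positivity
      have : 2 ^ D.n * 4 ≤ 2 ^ D.n * 2 ^ D.n := Nat.mul_le_mul_left _ hN4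
      omega
  refine ⟨⟨D.U, ⟨hUcomm, D.card_U⟩, fun V hV => huniq V hV.1 hV.2⟩, ?_⟩
  intro V hV hVcard
  rw [huniq V hV hVcard]
  let φ : Multiplicative (ZMod D.N × ZMod D.N) →* D.U :=
    { toFun := fun p => ⟨D.A (Multiplicative.toAdd p).1 (Multiplicative.toAdd p).2, D.A_mem_U _ _⟩
      map_one' := by
        apply Subtype.ext
        simp [D.A_zero]
      map_mul' := by
        intro p q
        apply Subtype.ext
        simp [D.A_mul_A] }
  have hφ : Function.Bijective φ := by
    constructor
    · intro p q hpq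
      have h1 := D.A_inj (congrArg Subtype.val hpq)
      have : Multiplicative.toAdd p = Multiplicative.toAdd q := Prod.ext h1.1 h1.2
      exact Multiplicative.toAdd.injective this
    · rintro ⟨g, i, j, rfl⟩
      exact ⟨Multiplicative.ofAdd (i, j), rfl⟩
  exact ⟨(MulEquiv.ofBijective φ hφ).symm⟩

end Cfsg.Agent.S1196
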