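import Cfsg.Statements.S1416
import Cfsg.Agent.Lib.Helper11.ExcI
import Cfsg.Agent.S1444

set_option autoImplicit false
open Cfsg

namespace Cfsg.Agent.S1416

/-- Let G be a minimal simple group of odd order, M a maximal subgroup, p a prime and A ≤ M elementary abelian of order p ^ 2. Then C_G(A) ≤ M. If moreover for every subgroup A₀ of A of order p, M is not the unique maximal subgroup containing N_G(A₀), then p ∈ σ(M), M_α = 1 and M_σ is nilpotent. -/
theorem result {G : Type*} [Group G] [Finite G] (hG : Cfsg.IsMinSimpleOddOrder G)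
    (M : Subgroup G) (hM : IsCoatom M) (p : ℕ) [Fact p.Prime] (A : Subgroup G) (hA : (A ≤ M ∧ Cfsg.IsElementaryAbelian p A ∧ Nat.card A = p ^ 2)) :
    Subgroup.centralizer (A : Set G) ≤ M ∧
      ((∀ A₀ : Subgroup G, A₀ ≤ A → Nat.card A₀ = p →
          ¬ (Subgroup.normalizer (A₀ : Set G) ≤ M ∧ ∀ L : Subgroup G, IsCoatom L → Subgroup.normalizer (A₀ : Set G) ≤ L → L = M)) →
        p ∈ Cfsg.sigma M ∧ Cfsg.alphaCore M = ⊥ ∧ Group.IsNilpotent (Cfsg.sigmaCore M)) := by
  have h36 : ∀ M : Subgroup G, IsCoatom M → Cfsg.Agent.Lib.Helper11.BenderS.Thm36 ↥M :=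
    fun M _ => fun hs hodd H R R₀ hHn hcop hR hR₀ hR₀p hZ p hp => by
      haveI := hs
      haveI := hHn
      haveI : Fact p.Prime := ⟨hp⟩
      exact Cfsg.Agent.S1444.result hodd H R R₀ hcop hR hR₀ hR₀p hZ p
  exact Cfsg.Agent.Lib.Helper1.BG12.twelve_four hG h36
    (Cfsg.Agent.Lib.Helper11.ExcI.hyp117 hG h36) (Cfsg.Agent.Lib.Helper11.ExcB.hyp114 hG h36)
    M hM p A hA

end Cfsg.Agent.S1416
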