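import Cfsg.Statements.S1424
import Cfsg.Agent.Lib.Helper18.BGTwelveA
import Cfsg.Agent.S1420

set_option autoImplicit false
open Cfsg

namespace Cfsg.Agent.S1424

theorem result {G : Type*} [Group G] [Finite G] (hG : Cfsg.IsMinSimpleOddOrder G)
    (M : Subgroup G) (hM : IsCoatom M) (q : ℕ) [Fact q.Prime] (hq : q ∈ Cfsg.sigma M) (X : Subgroup G) (hXq : IsPGroup q X) (hX1 : X ≠ ⊥) (hXM : X ≤ M)
    (Mstar : Subgroup G) (hMs : IsCoatom Mstar) (hne : Mstar ≠ M) (hNX : Subgroup.normalizer (X : Set G) ≤ Mstar)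
    (S : Sylow q ↥(M ⊓ Mstar)) (hXS : X ≤ (S : Subgroup ↥(M ⊓ Mstar)).map (M ⊓ Mstar).subtype) :
    (∀ g : G, Mstar ≠ M.map (MulAut.conj g).toMonoidHom) ∧
      Subgroup.normalizer (((S : Subgroup ↥(M ⊓ Mstar)).map (M ⊓ Mstar).subtype : Subgroup G) : Set G) ≤ M ∧
      ¬ q ∣ ((S : Subgroup ↥(M ⊓ Mstar)).map (M ⊓ Mstar).subtype).relIndex Mstar := by
  obtain ⟨E, hE⟩ := Cfsg.Agent.Lib.Helper18.BGTwelveA.exists_complIn_sigmaCore hG M hM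
  have h1420 := (Cfsg.Agent.S1420.result hG M hM E hE).2.2.1
  have hS := Cfsg.Agent.Lib.Helper18.isSylowIn_of_sylow S
  obtain ⟨ha, hb, hc⟩ := Cfsg.Agent.Lib.Helper18.BGTwelveA.twelve_sixteen hG M hM h1420 q hq X hXq
    hX1 hXM Mstar hne hNX _ hS hXS
  exact ⟨ha, hb, hc.not_dvd⟩

end Cfsg.Agent.S1424
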