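import Cfsg.Statements.S1422
import Cfsg.Agent.Lib.Helper18.BGTwelveC
import Cfsg.Agent.S1416
import Cfsg.Agent.S1417
import Cfsg.Agent.S1420

set_option autoImplicit false
open Cfsg

namespace Cfsg.Agent.S1422

theorem result {G : Type*} [Group G] [Finite G] (hG : Cfsg.IsMinSimpleOddOrder G) (p : ℕ) [Fact p.Prime] (P : Subgroup G) (hP : IsPGroup p P) (hPna : ¬ IsMulCommutative P) :
    Cfsg.InUniqueMaximal P := by
  refine Cfsg.Agent.Lib.Helper18.BGTwelveC.twelve_thirteen hG ?_ ?_ ?_ p P hP hPna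
  · intro M hM q _ A hA
    exact Cfsg.Agent.S1416.result hG M hM q A hA
  · intro M hM q _ hq A hA Q
    exact ((Cfsg.Agent.S1417.result hG M hM q hq A hA).2.1 Q).1
  · intro M hM q Q hqσ hQq hQM hnc
    obtain ⟨E, hE⟩ := Cfsg.Agent.Lib.Helper18.BGTwelveA.exists_complIn_sigmaCore hG M hM
    exact (Cfsg.Agent.S1420.result hG M hM E hE).2.2.1 q Q hqσ hQq hQM hnc

end Cfsg.Agent.S1422
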