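import Cfsg.Statements.S1426
import Cfsg.Agent.Lib.Helper18.BGThirteenA
import Cfsg.Agent.S1420
import Cfsg.Agent.S1423

set_option autoImplicit false
open Cfsg

namespace Cfsg.Agent.S1426

theorem result {G : Type*} [Group G] [Finite G] (hG : Cfsg.IsMinSimpleOddOrder G)
    (M : Subgroup G) (hM : IsCoatom M) (E : Subgroup G) (hE : Cfsg.IsComplIn E (Cfsg.sigmaCore M) M) :
    Cfsg.sigmaCore M ⊓ Subgroup.centralizer (E : Set G) ≤ ⁅Cfsg.sigmaCore M, Cfsg.sigmaCore M⁆ ∧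
      ⁅Cfsg.sigmaCore M, E⁆ = Cfsg.sigmaCore M ∧
      ∀ g : G, g ∉ M → IsCyclic ↥(Cfsg.sigmaCore M ⊓ M.map (MulAut.conj g).toMonoidHom) ∧
        (∀ p : ℕ, p.Prime → p ∣ Nat.card ↥(Cfsg.sigmaCore M ⊓ M.map (MulAut.conj g).toMonoidHom) → p ∉ Cfsg.beta M) ∧
        Cfsg.sigmaCore M ⊓ M.map (MulAut.conj g).toMonoidHom ⊓ ⁅Cfsg.sigmaCore M, Cfsg.sigmaCore M⁆ = ⊥ := by
  have h1420 := (Cfsg.Agent.S1420.result hG M hM E hE).2.2.1
  obtain ⟨ha1, ha2⟩ := Cfsg.Agent.Lib.Helper18.BGThirteenA.thirteen_one_a hG M hM E hE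
  refine ⟨ha1, ha2, fun g hg => ?_⟩
  exact Cfsg.Agent.Lib.Helper18.BGThirteenA.thirteen_one_b hG M hM h1420
    (fun p _ hpσ X hXM hX h => by
      obtain ⟨P⟩ : Nonempty (Sylow p ↥(Cfsg.sigmaCore M)) := inferInstance
      exact (Cfsg.Agent.S1423.result hG M hM p hpσ X hXM hX P h).1.1) g hg

end Cfsg.Agent.S1426
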