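-- Statement S1427 (B & G, Corollary 13.3(a)), helper28.
import Cfsg.Statements.S1427
import Cfsg.Agent.S1414
import Cfsg.Agent.S1416
import Cfsg.Agent.S1417
import Cfsg.Agent.S1424
import Cfsg.Agent.Lib.Helper28.BGtL

set_option autoImplicit false
open Cfsg

namespace Cfsg.Agent.S1427

/-- Let G be a minimal simple group of odd order, M a maximal subgroup, E a complement to M_σ in M, and S a nontrivial cyclic Sylow subgroup of E (for some prime). Then M_σ ∩ C_G(x) = M_σ ∩ C_G(S) for every non-identity x ∈ S. -/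
theorem result {G : Type*} [Group G] [Finite G] (hG : Cfsg.IsMinSimpleOddOrder G)
    (M : Subgroup G) (hM : IsCoatom M) (E : Subgroup G) (hE : Cfsg.IsComplIn E (Cfsg.sigmaCore M) M) (p : ℕ) [Fact p.Prime] (S : Sylow p E) (hS1 : (S : Subgroup E) ≠ ⊥) (hSc : IsCyclic (S : Subgroup E)) :
    ∀ x ∈ (S : Subgroup E).map E.subtype, x ≠ 1 →
        Cfsg.sigmaCore M ⊓ Subgroup.centralizer ({x} : Set G) = Cfsg.sigmaCore M ⊓ Subgroup.centralizer (((S : Subgroup E).map E.subtype : Subgroup G) : Set G) := by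
  have h16 : Cfsg.Agent.Lib.Helper28.BGt.T1416 G :=
    fun M hM p _ A hA => Cfsg.Agent.S1416.result hG M hM p A hA
  have h17 : Cfsg.Agent.Lib.Helper28.BGt.T1417 G :=
    fun M hM p _ hp A hA => Cfsg.Agent.S1417.result hG M hM p hp A hA
  have nc : Cfsg.Agent.Lib.Helper28.BGt.NC G :=
    fun H hH s hs hsd hsb => ((Cfsg.Agent.S1414.result hG H hH).2.2.2.2 s hs hsd hsb).1
  have h24 : Cfsg.Agent.Lib.Helper28.BGt.T1424 G :=
    fun M hM q _ hq X hXq hX1 hXM Ms hMs hne hNX S hXS =>
      Cfsg.Agent.S1424.result hG M hM q hq X hXq hX1 hXM Ms hMs hne hNX S hXS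
  intro x hx hx1
  have hSyl := Cfsg.Agent.Lib.Helper18.isSylowIn_of_sylow S
  have hcyc : IsCyclic ↥((S : Subgroup E).map E.subtype) :=
    ((S : Subgroup E).equivMapOfInjective E.subtype E.subtype_injective).isCyclic.mp hSc
  obtain ⟨k, hk⟩ := hSyl.isPGroup ⟨x, hx⟩
  have hk' : x ^ p ^ k = 1 := by simpa using congrArg Subtype.val hk
  obtain ⟨j, hj⟩ := Cfsg.Agent.Lib.Helper28.BGt.exists_pow_orderOf_prime hx1 hk'
  have key := Cfsg.Agent.Lib.Helper28.BGt.thirteen_three_a hG h16 h17 nc h24 hM hE hSyl hcyc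
    (Subgroup.pow_mem _ hx j) hj
  apply le_antisymm
  · apply le_inf inf_le_left
    refine le_trans (inf_le_inf_left _ ?_) key
    intro c hc
    rw [Subgroup.mem_centralizer_iff] at hc ⊢
    rintro _ rfl
    have : Commute x c := hc x rfl
    exact (this.pow_left j).eq
  · apply inf_le_inf_left
    apply Subgroup.centralizer_le
    intro z hz
    rw [Set.mem_singleton_iff] at hz
    rw [hz]; exact hx

end Cfsg.Agent.S1427
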