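-- Statement S1428 (B & G, Theorem 13.4), helper28 (hard case: helper11's RegD + helper21's BG13y).
import Cfsg.Statements.S1428
import Cfsg.Agent.Lib.Helper28.BGtP
import Cfsg.Agent.Lib.Helper21.BG13y

set_option autoImplicit false
open Cfsg

namespace Cfsg.Agent.S1428

/-- Let G be a minimal simple group of odd order, M a maximal subgroup, E a complement to M_σ in M, p ∈ τ₁(M), P ≤ E a subgroup of order p, and R a subgroup of prime order of E ∩ C_G(P). Then M_σ ∩ C_G(P) ≤ M_σ ∩ C_G(R). -/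
theorem result {G : Type*} [Group G] [Finite G] (hG : Cfsg.IsMinSimpleOddOrder G)
    (M : Subgroup G) (hM : IsCoatom M) (E : Subgroup G) (hE : Cfsg.IsComplIn E (Cfsg.sigmaCore M) M) (p : ℕ) (hp : p ∈ Cfsg.tau1 M) (P : Subgroup G) (hPE : P ≤ E) (hP : Nat.card P = p)
    (R : Subgroup G) (hRE : R ≤ E ⊓ Subgroup.centralizer (P : Set G)) (hR : (Nat.card R).Prime) :
    Cfsg.sigmaCore M ⊓ Subgroup.centralizer (P : Set G) ≤ Cfsg.sigmaCore M ⊓ Subgroup.centralizer (R : Set G) := by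
  have hc : Cfsg.Agent.Lib.Helper28.BGt.HC G := by
    intro M H hM hH hnc p r hp hr P R hPc hRc hPM hRM hNP hRP hrM hpβ hrH hD hsym
    haveI : Fact p.Prime := ⟨hp⟩
    haveI : Fact r.Prime := ⟨hr⟩
    exact Cfsg.Agent.Lib.Helper21.BG13y.hard_case hG hM hH hnc P R hPc hRc hPM hRM hNP hRP hrM hpβ
      hrH hD hsym
  exact le_inf inf_le_left
    (Cfsg.Agent.Lib.Helper28.BGt.thirteen_four hG hc hM hE hp hPE hP (hRE.trans inf_le_left)
      (hRE.trans inf_le_right) hR rfl)

end Cfsg.Agent.S1428
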