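import Cfsg.Statements.S1378
import Cfsg.Agent.S1428
import Cfsg.Agent.Lib.Helper18.SigPartL

set_option autoImplicit false
open Cfsg

namespace Cfsg.Agent.S1378

theorem result {G : Type*} [Group G] [Finite G] (hG : Cfsg.IsMinSimpleOddOrder G) :
    (∀ p : ℕ, p.Prime → p ∣ Nat.card G → ∃ M : Subgroup G, IsCoatom M ∧ p ∈ Cfsg.sigma M) ∧
      ∀ M N : Subgroup G, IsCoatom M → IsCoatom N → (Cfsg.sigma M ∩ Cfsg.sigma N).Nonempty → ∃ g : G, N = M.map (MulAut.conj g).toMonoidHom := by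
  exact Cfsg.Agent.Lib.Helper18.SigPartL.sigma_partition hG
    (fun M hM E hE p hp P hPE hP R hRE hR =>
      Cfsg.Agent.S1428.result hG M hM E hE p hp P hPE hP R hRE hR)

end Cfsg.Agent.S1378
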