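import Cfsg.Statements.S0561
import Cfsg.Agent.Lib.Helper1.SylowSystem

set_option autoImplicit false
open Pointwise
open Cfsg

namespace Cfsg.Agent.S0561

open scoped Pointwise
open Cfsg.Agent.Lib.Helper1

section
variable {G : Type*} [Group G]

theorem relIdx_of_coprime_index [Finite G] (A B : Subgroup G) (h : A.index.Coprime B.index) :
    B.relIndex A = B.index := by
  have e1 := index_inf_of_coprime A B h
  have e2 := Subgroup.relIndex_mul_index (inf_le_left : A ⊓ B ≤ A)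
  rw [Subgroup.inf_relIndex_left, e1, mul_comm] at e2
  exact Nat.eq_of_mul_eq_mul_left (Nat.pos_of_ne_zero Subgroup.index_ne_zero_of_finite) e2

theorem exists_mul_of_coprime_idx [Finite G] (A B : Subgroup G) (h : A.index.Coprime B.index)
    (g : G) : ∃ x ∈ A, ∃ y ∈ B, g = x * y := by
  have h1 := relIdx_of_coprime_index A B h
  have hstab : MulAction.stabilizer A (QuotientGroup.mk 1 : G ⧸ B) = B.subgroupOf A := by
    ext a
    rw [MulAction.mem_stabilizer_iff, Subgroup.mem_subgroupOf]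
    have e : a • (QuotientGroup.mk 1 : G ⧸ B) = QuotientGroup.mk ((a : G) * 1) := rfl
    rw [e, QuotientGroup.eq]
    simp
  have hcard : (MulAction.orbit A (QuotientGroup.mk 1 : G ⧸ B)).ncard = B.index := by
    rw [← h1, Subgroup.relIndex, ← hstab, MulAction.index_stabilizer]
  have huniv : MulAction.orbit A (QuotientGroup.mk 1 : G ⧸ B) = Set.univ := by
    apply Set.eq_of_subset_of_ncard_le (Set.subset_univ _)
    rw [hcard, Set.ncard_univ, Subgroup.index_eq_card]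
  have hg : (QuotientGroup.mk g : G ⧸ B) ∈ MulAction.orbit A (QuotientGroup.mk 1 : G ⧸ B) := by
    rw [huniv]; trivial
  obtain ⟨a, ha⟩ := hg
  have ha' : (QuotientGroup.mk ((a : G) * 1) : G ⧸ B) = QuotientGroup.mk g := ha
  rw [QuotientGroup.eq] at ha'
  refine ⟨a, a.2, ((a : G) * 1)⁻¹ * g, ha', ?_⟩
  group

theorem coprime_of_lcm {a b i j m : ℕ} (hm : 0 < m) (ha : a * i = m) (hb : b * j = m)
    (hlcm : m = Nat.lcm a b) : Nat.Coprime i j := by
  have hd : 0 < Nat.gcd i j := by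
    apply Nat.gcd_pos_of_pos_left
    rcases Nat.eq_zero_or_pos i with h0 | h0
    · rw [h0, mul_zero] at ha; omega
    · exact h0
  obtain ⟨i', hi'⟩ := Nat.gcd_dvd_left i j
  obtain ⟨j', hj'⟩ := Nat.gcd_dvd_right i j
  set d := Nat.gcd i j with hdd
  have h1 : d * (a * i') = m := by rw [← ha, hi']; ring
  have h2 : d * (b * j') = m := by rw [← hb, hj']; ring
  have h3 : a * i' = b * j' := Nat.eq_of_mul_eq_mul_left hd (h1.trans h2.symm)
  have h4 : m ∣ a * i' := by
    rw [hlcm]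
    exact Nat.lcm_dvd (Dvd.intro _ rfl) (h3 ▸ Dvd.intro _ rfl)
  have h5 : a * i' ∣ m := Dvd.intro_left _ h1
  have h6 : a * i' = m := Nat.dvd_antisymm h5 h4
  rw [h6] at h1
  have : d = 1 := by
    have : d * m = 1 * m := by rw [h1, one_mul]
    exact Nat.eq_of_mul_eq_mul_right hm this
  exact this

/-- Hall subgroups of a finite solvable group have permuting conjugates. -/
theorem exists_conj_permute [Finite G] [Group.IsSolvable G] (A B : Subgroup G)
    (hA : (Nat.card A).Coprime A.index) (hB : (Nat.card B).Coprime B.index) :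
    ∃ g : G, ∃ L : Subgroup G, ∀ z : G, z ∈ L ↔ ∃ a ∈ A, ∃ b ∈ B, z = a * (g * b * g⁻¹) := by
  obtain ⟨m, hm⟩ : ∃ m, m = Nat.lcm (Nat.card A) (Nat.card B) := ⟨_, rfl⟩
  have hAN := A.card_mul_index
  have hBN := B.card_mul_index
  have hmN : m ∣ Nat.card G := by
    rw [hm]
    exact Nat.lcm_dvd (Dvd.intro _ hAN) (Dvd.intro _ hBN)
  obtain ⟨n, hn⟩ := hmN
  have hapos : 0 < Nat.card A := Nat.card_pos
  have hbpos : 0 < Nat.card B := Nat.card_pos
  have hmpos : 0 < m := by rw [hm]; exact Nat.lcm_pos hapos hbpos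
  have ham : Nat.card A ∣ m := hm ▸ Nat.dvd_lcm_left _ _
  have hbm : Nat.card B ∣ m := hm ▸ Nat.dvd_lcm_right _ _
  have hAn : (Nat.card A).Coprime n := by
    obtain ⟨t, ht⟩ := ham
    apply Nat.Coprime.coprime_dvd_right _ hA
    refine ⟨t, ?_⟩
    have : Nat.card A * A.index = Nat.card A * (n * t) := by
      rw [hAN, hn, ht]; ring
    exact Nat.eq_of_mul_eq_mul_left hapos this
  have hBn : (Nat.card B).Coprime n := by
    obtain ⟨t, ht⟩ := hbm
    apply Nat.Coprime.coprime_dvd_right _ hB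
    refine ⟨t, ?_⟩
    have : Nat.card B * B.index = Nat.card B * (n * t) := by
      rw [hBN, hn, ht]; ring
    exact Nat.eq_of_mul_eq_mul_left hbpos this
  have hmn : m.Coprime n := by
    rw [hm]
    apply Nat.Coprime.coprime_dvd_left (Nat.lcm_dvd_mul _ _)
    exact Nat.Coprime.mul_left hAn hBn
  obtain ⟨L, hL, hAL⟩ := hall_dominance m n hn hmn A hAn
  obtain ⟨g, hg⟩ := hall_le_conj m n hn hmn L B hL hBn
  -- B₁ = g⁻¹ B g ≤ L
  obtain ⟨B₁, hB₁⟩ : ∃ B₁ : Subgroup G, B₁ = MulAut.conj g⁻¹ • B := ⟨_, rfl⟩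
  have hB₁mem : ∀ z, z ∈ B₁ ↔ g * z * g⁻¹ ∈ B := by
    intro z
    rw [hB₁, mem_conj_smul_iff, inv_inv]
  have hB₁L : B₁ ≤ L := by
    intro z hz
    have h1 := hg ((hB₁mem z).mp hz)
    rw [mem_conj_smul_iff] at h1
    have e : g⁻¹ * (g * z * g⁻¹) * g = z := by group
    rwa [e] at h1
  have hB₁card : Nat.card B₁ = Nat.card B := by
    rw [hB₁, Cfsg.Agent.S0001.card_conj]
  -- indices in L
  have hiA : Nat.card A * (A.subgroupOf L).index = m := by
    have := Subgroup.card_mul_index (A.subgroupOf L)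
    rw [hL] at this
    rw [← this]
    congr 1
    exact (Nat.card_congr (Subgroup.subgroupOfEquivOfLe hAL).toEquiv).symm
  have hiB : Nat.card B * (B₁.subgroupOf L).index = m := by
    have := Subgroup.card_mul_index (B₁.subgroupOf L)
    rw [hL] at this
    rw [← this, ← hB₁card]
    congr 1
    exact (Nat.card_congr (Subgroup.subgroupOfEquivOfLe hB₁L).toEquiv).symm
  have hcop : ((A.subgroupOf L).index).Coprime ((B₁.subgroupOf L).index) :=
    coprime_of_lcm hmpos hiA hiB hm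
  refine ⟨g⁻¹, L, ?_⟩
  intro z
  constructor
  · intro hz
    obtain ⟨x, hx, y, hy, hxy⟩ := exists_mul_of_coprime_idx _ _ hcop ⟨z, hz⟩
    rw [Subgroup.mem_subgroupOf] at hx hy
    refine ⟨x, hx, g * y * g⁻¹, (hB₁mem _).mp hy, ?_⟩
    have h3 : z = (x : G) * (y : G) := by
      have := congrArg Subtype.val hxy
      rwa [Subgroup.coe_mul] at this
    rw [h3]; group
  · rintro ⟨a, ha, b, hb, rfl⟩
    apply L.mul_mem (hAL ha)
    apply hB₁L
    rw [hB₁mem]
    have e : g * (g⁻¹ * b * g⁻¹⁻¹) * g⁻¹ = b := by group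
    rw [e]; exact hb

theorem conj_mem_of_normal_subgroupOf {H A : Subgroup G} (hA : A ≤ H) (hn : (A.subgroupOf H).Normal)
    {h a : G} (hh : h ∈ H) (ha : a ∈ A) : h * a * h⁻¹ ∈ A := by
  have := hn.conj_mem ⟨a, hA ha⟩ (by rw [Subgroup.mem_subgroupOf]; exact ha) ⟨h, hh⟩
  rw [Subgroup.mem_subgroupOf] at this
  exact this

end


/-- Let the finite solvable group G be the product HK of subgroups, and let A be normal in H and B normal in K, where A and B are Hall subgroups of G (order coprime to index). Then for all x, y the product set of xAx⁻¹ and yBy⁻¹ is a subgroup of G. -/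
theorem result {G : Type*} [Group G] [Finite G] [Group.IsSolvable G] (H K A B : Subgroup G) (hHK : ∀ g : G, ∃ h ∈ H, ∃ k ∈ K, g = h * k) (hA : A ≤ H) (hAn : (A.subgroupOf H).Normal) (hB : B ≤ K) (hBn : (B.subgroupOf K).Normal) (hAh : (Nat.card A).Coprime A.index) (hBh : (Nat.card B).Coprime B.index) (x y : G) : ∃ S : Subgroup G, (S : Set G) = ((MulAut.conj x • A : Subgroup G) : Set G) * ((MulAut.conj y • B : Subgroup G) : Set G) := by
  obtain ⟨g₀, L, hL⟩ := exists_conj_permute A B hAh hBh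
  -- Step 2: AB is a subgroup
  obtain ⟨h, hh, k, hk, hg₀⟩ := hHK g₀
  have hS₀ : ∀ w : G, w ∈ L.comap (MulAut.conj h).toMonoidHom ↔ ∃ a ∈ A, ∃ b ∈ B, w = a * b := by
    intro w
    rw [Subgroup.mem_comap]
    show h * w * h⁻¹ ∈ L ↔ _
    rw [hL]
    constructor
    · rintro ⟨a, ha, b, hb, e⟩
      refine ⟨h⁻¹ * a * h⁻¹⁻¹, conj_mem_of_normal_subgroupOf hA hAn (H.inv_mem hh) ha,
        k * b * k⁻¹, conj_mem_of_normal_subgroupOf hB hBn hk hb, ?_⟩
      have : w = h⁻¹ * (h * w * h⁻¹) * h := by group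
      rw [this, e, hg₀]; group
    · rintro ⟨a, ha, b, hb, rfl⟩
      refine ⟨h * a * h⁻¹, conj_mem_of_normal_subgroupOf hA hAn hh ha,
        k⁻¹ * b * k⁻¹⁻¹, conj_mem_of_normal_subgroupOf hB hBn (K.inv_mem hk) hb, ?_⟩
      rw [hg₀]; group
  -- Step 3
  obtain ⟨h', hh', k', hk', hxy⟩ := hHK (x⁻¹ * y)
  refine ⟨(L.comap (MulAut.conj h).toMonoidHom).comap (MulAut.conj (x * h')⁻¹).toMonoidHom, ?_⟩
  ext z
  rw [SetLike.mem_coe, Subgroup.mem_comap, Set.mem_mul]
  show (x * h')⁻¹ * z * (x * h')⁻¹⁻¹ ∈ L.comap (MulAut.conj h).toMonoidHom ↔ _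
  rw [hS₀]
  have hy : y = x * (h' * k') := by rw [← hxy]; group
  constructor
  · rintro ⟨a, ha, b, hb, e⟩
    refine ⟨x * (h' * a * h'⁻¹) * x⁻¹, ?_, y * (k'⁻¹ * b * k'⁻¹⁻¹) * y⁻¹, ?_, ?_⟩
    · rw [SetLike.mem_coe, mem_conj_smul_iff]
      have e1 : x⁻¹ * (x * (h' * a * h'⁻¹) * x⁻¹) * x = h' * a * h'⁻¹ := by group
      rw [e1]
      exact conj_mem_of_normal_subgroupOf hA hAn hh' ha
    · rw [SetLike.mem_coe, mem_conj_smul_iff]
      have e1 : y⁻¹ * (y * (k'⁻¹ * b * k'⁻¹⁻¹) * y⁻¹) * y = k'⁻¹ * b * k'⁻¹⁻¹ := by group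
      rw [e1]
      exact conj_mem_of_normal_subgroupOf hB hBn (K.inv_mem hk') hb
    · have : z = (x * h') * ((x * h')⁻¹ * z * (x * h')⁻¹⁻¹) * (x * h')⁻¹ := by group
      rw [this, e, hy]; group
  · rintro ⟨u, hu, v, hv, rfl⟩
    rw [SetLike.mem_coe, mem_conj_smul_iff] at hu hv
    refine ⟨h'⁻¹ * (x⁻¹ * u * x) * h'⁻¹⁻¹, conj_mem_of_normal_subgroupOf hA hAn (H.inv_mem hh') hu,
      k' * (y⁻¹ * v * y) * k'⁻¹, conj_mem_of_normal_subgroupOf hB hBn hk' hv, ?_⟩
    rw [hy]; group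

end Cfsg.Agent.S0561
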