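import Cfsg.Statements.S1446
import Cfsg.Agent.Lib.Helper11.FrobDerived
import Cfsg.Agent.Lib.Helper11.FrobKernelNil

set_option autoImplicit false
open Cfsg

namespace Cfsg.Agent.S1446

open Cfsg.Agent.Lib.Helper11.FrobFormula2 Cfsg.Agent.Lib.Helper11.FrobFourTerm2
  Cfsg.Agent.Lib.Helper11.FrobKernelNil Cfsg.Agent.Lib.Helper11.FrobDerived


/-- Let X be a finite group with subgroups K, R, M such that: K and R are nontrivial, K ∩ R = 1, R normalizes K, no non-identity element of R centralizes a non-identity element of K, K ⊔ R is solvable of odd order; M is nilpotent and nontrivial, normalized by K and by R, with order coprime to that of K ⊔ R, M ∩ C(K) = 1, and M ∩ C(x) = M ∩ C(R) for all non-identity x ∈ R. Then R has prime order p, #M = #(M ∩ C(R)) ^ p, and if M ∩ C(R) is cyclic then [K, K] centralizes M. -/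
theorem result {X : Type*} [Group X] [Finite X] (K R M : Subgroup X) (hK1 : K ≠ ⊥) (hR1 : R ≠ ⊥) (hKR : K ⊓ R = ⊥)
    (hRK : R ≤ Subgroup.normalizer (K : Set X)) (hfrob : ∀ r ∈ R, r ≠ 1 → K ⊓ Subgroup.centralizer ({r} : Set X) = ⊥)
    (hsolv : Group.IsSolvable ↥(K ⊔ R)) (hodd : Odd (Nat.card ↥(K ⊔ R)))
    (hM1 : M ≠ ⊥) (hMn : Group.IsNilpotent M) (hKM : K ≤ Subgroup.normalizer (M : Set X)) (hRM : R ≤ Subgroup.normalizer (M : Set X))
    (hcop : (Nat.card ↥(K ⊔ R)).Coprime (Nat.card M)) (hCK : M ⊓ Subgroup.centralizer (K : Set X) = ⊥)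
    (hpr : ∀ x ∈ R, x ≠ 1 → M ⊓ Subgroup.centralizer ({x} : Set X) = M ⊓ Subgroup.centralizer (R : Set X)) :
    (Nat.card R).Prime ∧ Nat.card M = Nat.card ↥(M ⊓ Subgroup.centralizer (R : Set X)) ^ Nat.card R ∧
      (IsCyclic ↥(M ⊓ Subgroup.centralizer (R : Set X)) → ⁅K, K⁆ ≤ Subgroup.centralizer (M : Set X)) := by
  have hKnil : Group.IsNilpotent K := kernel_nilpotent K R hR1 hRK (by
    intro e he he1 u hu hcomm
    have h1 : u ∈ K ⊓ Subgroup.centralizer ({e} : Set X) := by
      refine Subgroup.mem_inf.mpr ⟨hu, ?_⟩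
      rw [Subgroup.mem_centralizer_iff]
      intro y hy
      rw [Set.mem_singleton_iff] at hy
      rw [hy]
      exact hcomm
    rw [hfrob e he he1] at h1
    exact Subgroup.mem_bot.mp h1)
  have hcopK : (Nat.card K).Coprime (Nat.card M) :=
    Nat.Coprime.coprime_dvd_left (Subgroup.card_dvd_of_le le_sup_left) hcop
  have hcopR : (Nat.card R).Coprime (Nat.card M) :=
    Nat.Coprime.coprime_dvd_left (Subgroup.card_dvd_of_le le_sup_right) hcop
  have hMsolv : Group.IsSolvable M := inferInstance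
  have formula : ∀ R₀ : Subgroup X, R₀ ≤ R →
      Nat.card M = Nat.card ↥(M ⊓ Subgroup.centralizer (R₀ : Set X)) ^ Nat.card R₀ := by
    intro R₀ hR₀
    have h := four_term_conc M K R₀ hKM (hR₀.trans hRM) (hR₀.trans hRK) hKnil
      (fun e he he1 => hfrob e (hR₀ he) he1) hMsolv hcopK.symm
      (Nat.Coprime.coprime_dvd_left (Subgroup.card_dvd_of_le hR₀) hcopR).symm
    have h2 : M ⊓ Subgroup.centralizer ((K ⊔ R₀ : Subgroup X) : Set X) = ⊥ := by
      rw [inf_centralizer_sup, hCK, bot_inf_eq]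
    rw [hCK, h2, Subgroup.card_bot, mul_one, one_pow, one_mul] at h
    exact h
  have hfR := formula R le_rfl
  have hcardR : Nat.card R ≠ 1 := fun h => hR1 (Subgroup.card_eq_one.mp h)
  have hcardM : Nat.card M ≠ 1 := fun h => hM1 (Subgroup.card_eq_one.mp h)
  obtain ⟨q, hq, hqd⟩ := Nat.exists_prime_and_dvd hcardR
  have : Fact q.Prime := ⟨hq⟩
  obtain ⟨x, hx⟩ := exists_prime_orderOf_dvd_card' (G := R) q hqd
  have hx1 : (x : X) ≠ 1 := by
    intro h
    have h2 : x = 1 := Subtype.ext h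
    rw [h2, orderOf_one] at hx
    exact hq.one_lt.ne hx
  have hxo : orderOf (x : X) = q := by
    rw [← hx]
    exact Subgroup.orderOf_coe x
  have hz : Subgroup.zpowers (x : X) ≤ R := by
    rw [Subgroup.zpowers_le]
    exact x.2
  have hfz := formula (Subgroup.zpowers (x : X)) hz
  have hcz : M ⊓ Subgroup.centralizer ((Subgroup.zpowers (x : X) : Subgroup X) : Set X) =
      M ⊓ Subgroup.centralizer ({(x : X)} : Set X) := by
    ext g
    rw [Subgroup.mem_inf, Subgroup.mem_inf, Subgroup.mem_centralizer_iff,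
      Subgroup.mem_centralizer_iff]
    constructor
    · rintro ⟨h1, h2⟩
      refine ⟨h1, ?_⟩
      intro y hy
      rw [Set.mem_singleton_iff] at hy
      rw [hy]
      exact h2 _ (Subgroup.mem_zpowers _)
    · rintro ⟨h1, h2⟩
      refine ⟨h1, ?_⟩
      rintro _ ⟨n, rfl⟩
      have h3 : Commute (x : X) g := h2 _ (Set.mem_singleton _)
      exact (h3.zpow_left n)
  rw [hcz, hpr x x.2 hx1, Nat.card_zpowers, hxo] at hfz
  have hc2 : 2 ≤ Nat.card ↥(M ⊓ Subgroup.centralizer (R : Set X)) := by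
    rcases Nat.lt_or_ge 1 (Nat.card ↥(M ⊓ Subgroup.centralizer (R : Set X))) with h | h
    · exact h
    · exfalso
      have h1 : Nat.card ↥(M ⊓ Subgroup.centralizer (R : Set X)) = 1 :=
        le_antisymm h Nat.card_pos
      rw [h1, one_pow] at hfR
      exact hcardM hfR
  have hRq : Nat.card R = q := Nat.pow_right_injective hc2 (hfR.symm.trans hfz)
  refine ⟨hRq ▸ hq, hfR, ?_⟩
  intro hcyc
  exact derived_nilpotent K R M hRK hKnil hfrob hMn hKM hRM hcopK hcopR hCK hcyc

end Cfsg.Agent.S1446
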