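import Mathlib
import Cfsg.Statements.S1443
import Cfsg.Prelude.Def_Transfer
import Cfsg.Agent.Lib.Helper21.OmegaLemma
import Cfsg.Agent.Lib.Helper22.AxB

set_option autoImplicit false
open Cfsg

namespace Cfsg.Agent.S1443

open Cfsg.Agent.Lib.Helper21

theorem result {G : Type*} [Group G] [Finite G] (p : ℕ) [Fact p.Prime] (hp : p ≠ 2) (H E A : Subgroup G) (hH : IsPGroup p H) (hE : E ≤ H) (hEe : Cfsg.IsElementaryAbelian p E)
    (hA : (A ≤ Subgroup.normalizer (H : Set G))) (hcop : (Nat.card A).Coprime p)
    (hfix : ∀ x ∈ (H ⊓ Subgroup.centralizer (E : Set G)), orderOf x = p → A ≤ Subgroup.centralizer ({x} : Set G)) :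
    A ≤ Subgroup.centralizer (H : Set G) := by
  classical
  have hpp : p.Prime := Fact.out
  obtain ⟨hEcomm, hEexp⟩ := hEe
  have hEc : ∀ a ∈ E, ∀ b ∈ E, a * b = b * a := by
    intro a ha b hb
    have := hEcomm.is_comm.comm (⟨a, ha⟩ : E) ⟨b, hb⟩
    exact congrArg Subtype.val this
  intro a haA
  have hacop : (orderOf a).Coprime p :=
    Nat.Coprime.coprime_dvd_left (Subgroup.orderOf_dvd_natCard A haA) hcop
  have haH : a ∈ Subgroup.normalizer (H : Set G) := hA haA
  -- elements x with x ^ p = 1 in C_H(E) are fixed by a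
  have hfix' : ∀ x ∈ H ⊓ Subgroup.centralizer (E : Set G), x ^ p = 1 → a * x = x * a := by
    intro x hx hxp
    by_cases hx1 : x = 1
    · rw [hx1]; simp
    have hord : orderOf x = p := orderOf_eq_prime hxp hx1
    have := hfix x hx hord haA
    rw [Subgroup.mem_centralizer_singleton_iff] at this
    exact this
  -- a centralizes E
  have haE : ∀ e ∈ E, a * e = e * a := by
    intro e he
    apply hfix' e ⟨hE he, ?_⟩ (hEexp e he)
    show _ ∈ Subgroup.centralizer _
    rw [Subgroup.mem_centralizer_iff]
    intro b hb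
    exact hEc b hb e he
  -- the family N_S
  have hnormS : ∀ S : Finset G, (∀ s ∈ S, s ∈ E) →
      ∀ n ∈ H ⊓ Subgroup.centralizer ((S : Set G)), a * n * a⁻¹ ∈ H ⊓ Subgroup.centralizer ((S : Set G)) := by
    intro S hS n hn
    refine ⟨(Subgroup.mem_normalizer_iff.mp haH n).mp hn.1, ?_⟩
    show _ ∈ Subgroup.centralizer _
    rw [Subgroup.mem_centralizer_iff]
    intro s hs
    have hsa := haE s (hS s hs)
    have hsn := (Subgroup.mem_centralizer_iff.mp hn.2) s hs
    have hsa' : s * a⁻¹ = a⁻¹ * s := by
      have := congrArg (fun t => a⁻¹ * t * a⁻¹) hsa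
      simpa [mul_assoc] using this
    calc s * (a * n * a⁻¹) = (s * a) * n * a⁻¹ := by group
      _ = (a * s) * n * a⁻¹ := by rw [hsa]
      _ = a * (s * n) * a⁻¹ := by group
      _ = a * (n * s) * a⁻¹ := by rw [hsn]
      _ = a * n * (s * a⁻¹) := by group
      _ = a * n * (a⁻¹ * s) := by rw [hsa']
      _ = a * n * a⁻¹ * s := by group
  -- base: a centralizes C_H(E)
  have hbase : ∀ n ∈ H ⊓ Subgroup.centralizer (E : Set G), a * n = n * a := by
    have hK : IsPGroup p ↥(H ⊓ Subgroup.centralizer (E : Set G)) := hH.to_le inf_le_left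
    have haK : a ∈ Subgroup.normalizer ((H ⊓ Subgroup.centralizer (E : Set G) : Subgroup G) : Set G) := by
      have key : ∀ b : G, b ∈ Subgroup.normalizer (H : Set G) → (∀ e ∈ E, b * e = e * b) →
          ∀ n ∈ H ⊓ Subgroup.centralizer (E : Set G), b * n * b⁻¹ ∈ H ⊓ Subgroup.centralizer (E : Set G) := by
        intro b hbH hbE n hn
        refine ⟨(Subgroup.mem_normalizer_iff.mp hbH n).mp hn.1, ?_⟩
        show _ ∈ Subgroup.centralizer _
        rw [Subgroup.mem_centralizer_iff]
        intro s hs
        have hsb := hbE s hs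
        have hsn := (Subgroup.mem_centralizer_iff.mp hn.2) s hs
        have hsb' : s * b⁻¹ = b⁻¹ * s := by
          have := congrArg (fun t => b⁻¹ * t * b⁻¹) hsb
          simpa [mul_assoc] using this
        calc s * (b * n * b⁻¹) = (s * b) * n * b⁻¹ := by group
          _ = (b * s) * n * b⁻¹ := by rw [hsb]
          _ = b * (s * n) * b⁻¹ := by group
          _ = b * (n * s) * b⁻¹ := by rw [hsn]
          _ = b * n * (s * b⁻¹) := by group
          _ = b * n * (b⁻¹ * s) := by rw [hsb']
          _ = b * n * b⁻¹ * s := by group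
      rw [Subgroup.mem_normalizer_iff]
      intro h
      constructor
      · exact key a haH haE h
      · intro hh
        have hinvE : ∀ e ∈ E, a⁻¹ * e = e * a⁻¹ := by
          intro e he
          have := congrArg (fun t => a⁻¹ * t * a⁻¹) (haE e he)
          simpa [mul_assoc] using this.symm
        have := key a⁻¹ (Subgroup.inv_mem _ haH) hinvE _ hh
        have e : a⁻¹ * (a * h * a⁻¹) * a⁻¹⁻¹ = h := by group
        rwa [e] at this
    have hcen := comm_of_comm_small a hacop _ hK haK (by
      intro b hb hsm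
      rcases hsm with h1 | ⟨h2, _⟩
      · exact hfix' b hb h1
      · exact absurd h2 hp)
    intro n hn
    exact ((Subgroup.mem_centralizer_iff.mp hcen) n hn).symm
  -- descending induction on finite subsets of E
  have hdesc : ∀ S : Finset G, (∀ s ∈ S, s ∈ E) → ∀ T : Finset G, (∀ t ∈ T, t ∈ E) →
      (∀ n ∈ H ⊓ Subgroup.centralizer ((↑(T ∪ S) : Set G)), a * n = n * a) →
      ∀ n ∈ H ⊓ Subgroup.centralizer ((T : Set G)), a * n = n * a := by
    intro S
    induction S using Finset.induction_on with
    | empty =>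
      intro _ T _ h
      simpa using h
    | insert x S hxS ih =>
      intro hS T hT h
      have hxE : x ∈ E := hS x (Finset.mem_insert_self x S)
      have hS' : ∀ s ∈ S, s ∈ E := fun s hs => hS s (Finset.mem_insert_of_mem hs)
      have hT' : ∀ t ∈ insert x T, t ∈ E := by
        intro t ht
        rcases Finset.mem_insert.mp ht with rfl | ht
        · exact hxE
        · exact hT t ht
      have h1 : ∀ n ∈ H ⊓ Subgroup.centralizer ((↑(insert x T) : Set G)), a * n = n * a := by
        apply ih hS' (insert x T) hT'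
        have : insert x T ∪ S = T ∪ insert x S := by
          ext y; simp only [Finset.mem_union, Finset.mem_insert]; tauto
        rw [this]; exact h
      -- apply A×B
      have hxN : x ∈ H ⊓ Subgroup.centralizer ((T : Set G)) := by
        refine ⟨hE hxE, ?_⟩
        show _ ∈ Subgroup.centralizer _
        rw [Subgroup.mem_centralizer_iff]
        intro t ht
        exact hEc t (hT t ht) x hxE
      apply Cfsg.Agent.Lib.Helper22.thompson_axb p (H ⊓ Subgroup.centralizer ((T : Set G)))
        (hH.to_le inf_le_left) x hxN a (hnormS T hT) (haE x hxE) hacop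
      intro n hn hnx
      apply h1 n
      refine ⟨hn.1, ?_⟩
      show _ ∈ Subgroup.centralizer _
      rw [Subgroup.mem_centralizer_iff]
      intro t ht
      rw [Finset.coe_insert] at ht
      rcases ht with rfl | ht
      · exact hnx.symm
      · exact (Subgroup.mem_centralizer_iff.mp hn.2) t ht
  -- conclude with S = all elements of E, T = ∅
  haveI : Fintype G := Fintype.ofFinite G
  have hfinal := hdesc (Finset.univ.filter (fun y => y ∈ E)) (by intro s hs; simpa using hs) ∅ (by simp) (by
    intro n hn
    apply hbase n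
    refine ⟨hn.1, ?_⟩
    show _ ∈ Subgroup.centralizer _
    rw [Subgroup.mem_centralizer_iff]
    intro e he
    apply (Subgroup.mem_centralizer_iff.mp hn.2) e
    simp [he])
  rw [Subgroup.mem_centralizer_iff]
  intro n hn
  have hn' : n ∈ H ⊓ Subgroup.centralizer ((↑(∅ : Finset G)) : Set G) := by
    refine Subgroup.mem_inf.mpr ⟨hn, ?_⟩
    rw [Subgroup.mem_centralizer_iff]
    intro t ht
    simp at ht
  have := hfinal n hn'
  exact this.symm

end Cfsg.Agent.S1443
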