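import Cfsg.Statements.S1432
import Cfsg.Agent.Lib.Helper28.BGtT
import Cfsg.Agent.Lib.Helper18.LemLFinal
import Cfsg.Agent.Lib.Helper11.LemLA
import Cfsg.Agent.Lib.Helper21.BG13v
import Cfsg.Agent.Lib.Helper21.BG13s
import Cfsg.Agent.Lib.Helper1.BG14.KappaCycC
import Cfsg.Agent.S1417
import Cfsg.Agent.S1420

set_option autoImplicit false
open Cfsg

namespace Cfsg.Agent.S1432

theorem result {G : Type*} [Group G] [Finite G] (hG : Cfsg.IsMinSimpleOddOrder G)
    (M : Subgroup G) (hM : IsCoatom M) (x : G) (hx : x ∈ Cfsg.sigmaCore M) (hx1 : x ≠ 1) (x' : G) (hx' : x' ∈ M ⊓ Subgroup.centralizer ({x} : Set G)) (hx'1 : x' ≠ 1)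
    (hσ : ∀ p : ℕ, p.Prime → p ∣ orderOf x' → p ∉ Cfsg.sigma M) :
    ((∀ p : ℕ, p.Prime → p ∣ orderOf x' → p ∈ Cfsg.kappa M) ∧ Subgroup.centralizer ({x} : Set G) ≤ M) ∨
      ((∀ p : ℕ, p.Prime → p ∣ orderOf x' → p ∈ Cfsg.tau2 M) ∧
        (∃ L : Subgroup G, IsCoatom L ∧ ∀ p : ℕ, p.Prime → p ∣ orderOf x' → p ∈ Cfsg.sigma L) ∧
        (Subgroup.centralizer ({x'} : Set G) ≤ M ∧ ∀ L : Subgroup G, IsCoatom L → Subgroup.centralizer ({x'} : Set G) ≤ L → L = M)) := by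
  classical
  haveI : IsSimpleGroup G := hG.2.1
  obtain ⟨hx'M, hx'c⟩ := hx'
  have hcomm : x * x' = x' * x :=
    Subgroup.mem_centralizer_iff.mp hx'c x (Set.mem_singleton x)
  have hZM : Subgroup.zpowers x' ≤ M := by rw [Subgroup.zpowers_le]; exact hx'M
  obtain ⟨E, hE, hZE⟩ := Cfsg.Agent.Lib.Helper28.BGt.exists_compl_ge hG hM hZM (by
    intro q hq hqd
    rw [Nat.card_zpowers] at hqd
    exact hσ q hq hqd)
  have ho0 : orderOf x' ≠ 0 := (orderOf_pos x').ne'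
  -- data for every prime divisor of the order of `x'`
  have key : ∀ p : ℕ, p.Prime → p ∣ orderOf x' →
      ∃ z : G, z ∈ Subgroup.zpowers x' ∧ orderOf z = p ∧ z * x = x * z ∧ p ∣ Nat.card M := by
    intro p hp hpd
    refine ⟨x' ^ (orderOf x' / p), Subgroup.pow_mem _ (Subgroup.mem_zpowers x') _,
      orderOf_pow_orderOf_div ho0 hpd, ?_, ?_⟩
    · exact (Commute.pow_left (show Commute x' x from hcomm.symm) _).eq
    · refine hpd.trans ?_
      have := orderOf_dvd_natCard (⟨x', hx'M⟩ : M)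
      rwa [← Subgroup.orderOf_coe] at this
  have htype : ∀ p : ℕ, p.Prime → p ∣ orderOf x' → p ∈ Cfsg.kappa M ∨ p ∈ Cfsg.tau2 M := by
    intro p hp hpd
    obtain ⟨z, hzZ, hzo, hzx, hpM⟩ := key p hp hpd
    haveI : Fact p.Prime := ⟨hp⟩
    have hpσ := hσ p hp hpd
    have hzM : z ∈ M := hZM hzZ
    rcases Cfsg.Agent.Lib.Helper11.LemLA.type_cases hG hM hp hpM hpσ with h1 | h2 | h3
    · left
      exact Cfsg.Agent.Lib.Helper21.BG13v.mem_kappa_of_witness hG hpσ h1.2.2.2.2 hzM hzo hx hx1 hzx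
    · right; exact h2
    · left
      exact Cfsg.Agent.Lib.Helper21.BG13v.mem_kappa_of_witness hG hpσ h3.2.2.2 hzM hzo hx hx1 hzx
  have hmix : ∀ p r : ℕ, p.Prime → p ∣ orderOf x' → r.Prime → r ∣ orderOf x' →
      p ∈ Cfsg.kappa M → r ∈ Cfsg.tau2 M → False := by
    intro p r hp hpd hr hrd hpκ hr2
    obtain ⟨z, hzZ, hzo, hzx, hpM⟩ := key p hp hpd
    obtain ⟨w, hwZ, hwo, hwx, -⟩ := key r hr hrd
    haveI : Fact p.Prime := ⟨hp⟩
    haveI : Fact r.Prime := ⟨hr⟩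
    have hpσ := hσ p hp hpd
    have hr1 : Cfsg.PRankLE p 1 ↥M :=
      Cfsg.Agent.Lib.Helper1.BG14.kappa_pRankLE_one hpκ
    have hPc : Nat.card (Subgroup.zpowers z) = p := by rw [Nat.card_zpowers, hzo]
    have hRc : Nat.card (Subgroup.zpowers w) = r := by rw [Nat.card_zpowers, hwo]
    have hPE : Subgroup.zpowers z ≤ E := by rw [Subgroup.zpowers_le]; exact hZE hzZ
    have hRE : Subgroup.zpowers w ≤ E := by rw [Subgroup.zpowers_le]; exact hZE hwZ
    have hK : Cfsg.sigmaCore M ⊓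
        Subgroup.centralizer ((Subgroup.zpowers z : Subgroup G) : Set G) ≠ ⊥ := by
      intro h
      apply hx1
      rw [← Subgroup.mem_bot, ← h]
      refine ⟨hx, ?_⟩
      show x ∈ Subgroup.centralizer ((Subgroup.zpowers z : Subgroup G) : Set G)
      rw [Subgroup.mem_centralizer_iff]
      intro y hy
      obtain ⟨n, rfl⟩ := Subgroup.mem_zpowers_iff.mp hy
      exact (Commute.zpow_left (show Commute z x from hzx) n).eq
    by_cases hd : p ∣ Nat.card ↥⁅M, M⁆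
    · exact Cfsg.Agent.Lib.Helper21.BG13s.tau2_empty_of_tau3_kappa hG hM hE ⟨hp, hpσ, hd, hr1⟩ hPE hPc
        hK r hr2
    · refine Cfsg.Agent.Lib.Helper18.LemLFinal.lemma_L hG hM hE ⟨hp, hpσ, hpM, hd, hr1⟩ hr2 hPE hPc hK
        (le_inf hRE ?_) hRc
      intro a ha
      rw [Subgroup.mem_centralizer_iff]
      intro b hb
      have ha' : a ∈ Subgroup.zpowers x' := (Subgroup.zpowers_le.mpr hwZ) ha
      have hb' : b ∈ Subgroup.zpowers x' := (Subgroup.zpowers_le.mpr hzZ) hb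
      obtain ⟨m, rfl⟩ := Subgroup.mem_zpowers_iff.mp ha'
      obtain ⟨n, rfl⟩ := Subgroup.mem_zpowers_iff.mp hb'
      exact (Commute.zpow_zpow (Commute.refl x') n m).eq
  obtain ⟨p0, hp0, hp0d⟩ := Nat.exists_prime_and_dvd
    (show orderOf x' ≠ 1 from fun h => hx'1 (orderOf_eq_one_iff.mp h))
  haveI : Fact p0.Prime := ⟨hp0⟩
  rcases htype p0 hp0 hp0d with hκ0 | hτ0
  · left
    refine ⟨?_, ?_⟩
    · intro r hr hrd
      rcases htype r hr hrd with h | h
      · exact h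
      · exact (hmix p0 r hp0 hp0d hr hrd hκ0 h).elim
    · obtain ⟨z, hzZ, hzo, hzx, hpM⟩ := key p0 hp0 hp0d
      obtain ⟨q, hq, hqd⟩ := Nat.exists_prime_and_dvd
        (show orderOf x ≠ 1 from fun h => hx1 (orderOf_eq_one_iff.mp h))
      haveI : Fact q.Prime := ⟨hq⟩
      have hox0 : orderOf x ≠ 0 := (orderOf_pos x).ne'
      obtain ⟨y, hydef⟩ : ∃ y : G, y = x ^ (orderOf x / q) := ⟨_, rfl⟩
      have hyo : orderOf y = q := by rw [hydef]; exact orderOf_pow_orderOf_div hox0 hqd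
      have hXc : Nat.card (Subgroup.zpowers y) = q := by rw [Nat.card_zpowers, hyo]
      have hPc : Nat.card (Subgroup.zpowers z) = p0 := by rw [Nat.card_zpowers, hzo]
      have hXσ : Subgroup.zpowers y ≤ Cfsg.sigmaCore M := by
        rw [Subgroup.zpowers_le, hydef]; exact Subgroup.pow_mem _ hx _
      have hXP : Subgroup.zpowers y ≤
          Subgroup.centralizer ((Subgroup.zpowers z : Subgroup G) : Set G) := by
        rw [Subgroup.zpowers_le, Subgroup.mem_centralizer_iff]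
        intro b hb
        obtain ⟨n, rfl⟩ := Subgroup.mem_zpowers_iff.mp hb
        rw [hydef]
        exact (Commute.zpow_left (Commute.pow_right (show Commute z x from hzx) _) n).eq
      have hX1 : Subgroup.zpowers y ≠ ⊥ :=
        Cfsg.Agent.Lib.Helper28.BGt.ne_bot_of_card_prime' hq hXc
      have hXtop : Subgroup.zpowers y ≠ ⊤ := fun h =>
        hM.1 (top_le_iff.mp (h ▸ hXσ.trans (Cfsg.Agent.Lib.Helper28.BGt.sigmaCore_le M)))
      obtain ⟨L, hL, hNL⟩ := Cfsg.Agent.Lib.Helper11.BenderE.exists_coatom_ge _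
        (Cfsg.Agent.Lib.Helper11.normalizer_ne_top_of_simple hX1 hXtop)
      have hLM : L = M := Cfsg.Agent.Lib.Helper28.BGt.eq_of_normalizer_le_of_kappa_cent hG hM
        (hσ p0 hp0 hp0d) (Cfsg.Agent.Lib.Helper1.BG14.kappa_pRankLE_one hκ0) hPc
        (by rw [Subgroup.zpowers_le]; exact hZM hzZ) hXc hXσ hXP hL hNL
      rw [← hLM]
      refine le_trans ?_ hNL
      intro c hc
      apply Subgroup.centralizer_le_normalizer
      rw [Subgroup.mem_centralizer_iff] at hc ⊢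
      intro b hb
      obtain ⟨n, rfl⟩ := Subgroup.mem_zpowers_iff.mp hb
      have h0 : Commute x c := hc x (Set.mem_singleton x)
      rw [hydef]
      exact ((h0.pow_left _).zpow_left n).eq
  · right
    have hall2 : ∀ p : ℕ, p.Prime → p ∣ orderOf x' → p ∈ Cfsg.tau2 M := by
      intro r hr hrd
      rcases htype r hr hrd with h | h
      · exact (hmix r p0 hr hrd hp0 hp0d h hτ0).elim
      · exact h
    refine ⟨hall2, ?_, ?_⟩
    · obtain ⟨A, hAE, hAe, hA2⟩ := Cfsg.Agent.Lib.Helper28.BGt.exists_sq_le_compl hG hM hE hτ0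
      have c : Cfsg.Agent.Lib.Helper28.BGt.Tau2Ctx M E p0 A :=
        ⟨hG, Cfsg.Agent.Lib.Helper11.JsubC.t1416 hG, Cfsg.Agent.Lib.Helper11.JsubC.t1417 hG, hM, hE,
          hτ0, hAE, hAe, hA2⟩
      have hA1 : A ≠ ⊥ := by
        intro h
        rw [h, Subgroup.card_bot] at hA2
        exact (Nat.one_lt_pow (by norm_num) hp0.one_lt).ne hA2
      have hAtop : A ≠ ⊤ := fun h => hM.1 (top_le_iff.mp (h ▸ hAE.trans hE.1))
      obtain ⟨L, hL, hNL⟩ := Cfsg.Agent.Lib.Helper11.BenderE.exists_coatom_ge _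
        (Cfsg.Agent.Lib.Helper11.normalizer_ne_top_of_simple hA1 hAtop)
      obtain ⟨hp0σ, hLM, hEL, hbot, hML, hAσ, -⟩ :=
        Cfsg.Agent.Lib.Helper11.LemLA.Over.facts c hL hNL
      refine ⟨L, hL, ?_⟩
      intro r hr hrd
      by_contra hrσ
      haveI : Fact r.Prime := ⟨hr⟩
      have hr2 := hall2 r hr hrd
      obtain ⟨B, hBE, hBe, hB2⟩ := Cfsg.Agent.Lib.Helper28.BGt.exists_sq_le_compl hG hM hE hr2
      have hBL : B ≤ L := hBE.trans hEL
      have hrτL : r ∈ Cfsg.tau2 L :=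
        Cfsg.Agent.Lib.Helper28.BGt.tau2_of_not_sigma hG hL hrσ hBL hBe hB2
      have h17 := (Cfsg.Agent.S1417.result hG L hL r hrτL B ⟨hBL, hBe, hB2⟩).2.2.2.2.1 M hM
        (Ne.symm hLM) (hBE.trans hE.1)
      apply hA1
      rw [eq_bot_iff, ← h17]
      exact le_inf hAσ (hAE.trans hE.1)
    · exact (Cfsg.Agent.S1420.result hG M hM E hE).2.2.2 x' hx'M hx'1 hall2
        ⟨hx'M, x, hx, hx1, hcomm.symm⟩

end Cfsg.Agent.S1432
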