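import Cfsg.Statements.S3766
import Cfsg.Agent.S0008
import Cfsg.Agent.Lib.Helper12.Local

set_option autoImplicit false
open Cfsg

namespace Cfsg.Agent.S3766

open scoped commutatorElement

section aux

variable {G : Type*} [Group G]

/-- `V < U` is a chief factor of `G` -/
def IsChief (U V : Subgroup G) : Prop :=
  U.Normal ∧ V.Normal ∧ V < U ∧ ∀ W : Subgroup G, W.Normal → V ≤ W → W ≤ U → W = V ∨ W = U

theorem comm_sup_le (V A B : Subgroup G) [V.Normal] : ⁅V ⊔ A, B⁆ ≤ V ⊔ ⁅A, B⁆ := by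
  have hV : V.map (QuotientGroup.mk' V) = ⊥ := by
    rw [Subgroup.map_eq_bot_iff, QuotientGroup.ker_mk']
  have h1 : (⁅V ⊔ A, B⁆).map (QuotientGroup.mk' V) = (⁅A, B⁆).map (QuotientGroup.mk' V) := by
    rw [Subgroup.map_commutator, Subgroup.map_sup, hV, bot_sup_eq, ← Subgroup.map_commutator]
  calc ⁅V ⊔ A, B⁆ ≤ ((⁅V ⊔ A, B⁆).map (QuotientGroup.mk' V)).comap (QuotientGroup.mk' V) :=
        Subgroup.le_comap_map _ _
    _ = ((⁅A, B⁆).map (QuotientGroup.mk' V)).comap (QuotientGroup.mk' V) := by rw [h1]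
    _ = ⁅A, B⁆ ⊔ V := by rw [Subgroup.comap_map_eq, QuotientGroup.ker_mk']
    _ = V ⊔ ⁅A, B⁆ := sup_comm _ _

/-- iterated commutators `[U, D, D, ..., D]` -/
def iterComm (D : Subgroup G) : ℕ → Subgroup G → Subgroup G
  | 0, U => U
  | (k + 1), U => iterComm D k ⁅U, D⁆

theorem iterComm_mono (D : Subgroup G) (k : ℕ) : ∀ {U U' : Subgroup G}, U ≤ U' →
    iterComm D k U ≤ iterComm D k U' := by
  induction k with
  | zero => intro U U' h; exact h
  | succ k ih => intro U U' h; exact ih (Subgroup.commutator_mono h le_rfl)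

theorem iterComm_bot (D : Subgroup G) (k : ℕ) : iterComm D k ⊥ = ⊥ := by
  induction k with
  | zero => rfl
  | succ k ih =>
    change iterComm D k ⁅(⊥ : Subgroup G), D⁆ = ⊥
    rw [Subgroup.commutator_bot_left]; exact ih

theorem lcs_le_iterComm (D W : Subgroup G) (hWD : W ≤ D) (k : ℕ) : ∀ (j : ℕ) (X : Subgroup G),
    W.lowerCentralSeries j ≤ X → W.lowerCentralSeries (j + k) ≤ iterComm D k X := by
  induction k with
  | zero => intro j X h; exact h
  | succ k ih =>
    intro j X h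
    have e : j + (k + 1) = (j + 1) + k := by omega
    rw [e]
    apply ih (j + 1) ⁅X, D⁆
    rw [Subgroup.lowerCentralSeries_succ]
    exact Subgroup.commutator_mono h hWD

/-- `[U, F, ..., F]` with the recursion outside -/
def iterOut (F U : Subgroup G) : ℕ → Subgroup G
  | 0 => U
  | (j + 1) => ⁅iterOut F U j, F⁆

theorem iterOut_zero (F U : Subgroup G) : iterOut F U 0 = U := rfl
theorem iterOut_succ (F U : Subgroup G) (j : ℕ) : iterOut F U (j + 1) = ⁅iterOut F U j, F⁆ := rfl

theorem iterOut_normal (F U : Subgroup G) [F.Normal] [U.Normal] : ∀ j, (iterOut F U j).Normal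
  | 0 => by rw [iterOut_zero]; infer_instance
  | (j + 1) => by
    have := iterOut_normal F U j
    rw [iterOut_succ]; infer_instance

/-- derived series of a subgroup, inside `G` -/
def dser (D : Subgroup G) : ℕ → Subgroup G
  | 0 => D
  | (n + 1) => ⁅dser D n, dser D n⁆

theorem dser_normal (D : Subgroup G) [D.Normal] : ∀ n, (dser D n).Normal
  | 0 => by change D.Normal; infer_instance
  | (n + 1) => by
    have := dser_normal D n
    change (⁅dser D n, dser D n⁆).Normal
    infer_instance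

theorem dser_le (D : Subgroup G) [D.Normal] : ∀ n, dser D n ≤ D
  | 0 => le_rfl
  | (n + 1) => by
    have := dser_normal D n
    change ⁅dser D n, dser D n⁆ ≤ D
    exact (Subgroup.commutator_le_left _ _).trans (dser_le D n)

theorem dser_eq_map (D : Subgroup G) (n : ℕ) :
    dser D n = (derivedSeries ↥D n).map D.subtype := by
  induction n with
  | zero =>
    rw [derivedSeries_zero, ← MonoidHom.range_eq_map, Subgroup.range_subtype]; rfl
  | succ n ih =>
    rw [derivedSeries_succ, Subgroup.map_commutator, ← ih]; rfl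

theorem dser_eq_bot (D : Subgroup G) (hD : Group.IsSolvable ↥D) : ∃ n, dser D n = ⊥ := by
  obtain ⟨n, hn⟩ := hD.solvable
  exact ⟨n, by rw [dser_eq_map, hn, Subgroup.map_bot]⟩

end aux

section main

variable {G : Type*} [Group G] [Finite G]

/-- a nilpotent normal subgroup centralizes every chief factor -/
theorem nilpotent_centralizes_chief (F : Subgroup G) [F.Normal] (hF : Group.IsNilpotent ↥F)
    (U V : Subgroup G) (hUV : IsChief U V) : ⁅U, F⁆ ≤ V := by
  obtain ⟨hUn, hVn, hlt, hmin⟩ := hUV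
  obtain ⟨c, hc⟩ := (Subgroup.isNilpotent_iff_lowerCentralSeries F).mp hF
  by_contra hcon
  haveI := hUn
  haveI := hVn
  have hUF : ⁅U, F⁆ ≤ U := Subgroup.commutator_le_left U F
  have hW : V ⊔ ⁅U, F⁆ = U := by
    rcases hmin (V ⊔ ⁅U, F⁆) inferInstance le_sup_left (sup_le hlt.le hUF) with h | h
    · exact absurd (le_sup_right.trans h.le) hcon
    · exact h
  have h1 : ∀ j, U ≤ V ⊔ iterOut F U j := by
    intro j
    induction j with
    | zero => rw [iterOut_zero]; exact le_sup_right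
    | succ j ih =>
      calc U = V ⊔ ⁅U, F⁆ := hW.symm
        _ ≤ V ⊔ ⁅V ⊔ iterOut F U j, F⁆ := sup_le_sup_left (Subgroup.commutator_mono ih le_rfl) V
        _ ≤ V ⊔ (V ⊔ ⁅iterOut F U j, F⁆) := sup_le_sup_left (comm_sup_le V (iterOut F U j) F) V
        _ = V ⊔ iterOut F U (j + 1) := by rw [← sup_assoc, sup_idem, iterOut_succ]
  have h2 : ∀ j, iterOut F U (j + 1) ≤ F.lowerCentralSeries j := by
    intro j
    induction j with
    | zero =>
      rw [iterOut_succ, iterOut_zero, Subgroup.lowerCentralSeries_zero]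
      exact Subgroup.commutator_le_right U F
    | succ j ih =>
      rw [iterOut_succ, Subgroup.lowerCentralSeries_succ]
      exact Subgroup.commutator_mono ih le_rfl
  have h3 : U ≤ V := by
    calc U ≤ V ⊔ iterOut F U (c + 1) := h1 (c + 1)
      _ ≤ V ⊔ ⊥ := sup_le_sup_left (by rw [← hc]; exact h2 c) V
      _ = V := sup_bot_eq V
  exact absurd h3 (not_le_of_gt hlt)

/-- the subgroup of elements of `N` centralizing all chief factors below `F` -/
def cSub (N F : Subgroup G) : Subgroup G where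
  carrier := {g | g ∈ N ∧ ∀ U V : Subgroup G, IsChief U V → U ≤ F → ∀ u ∈ U, ⁅u, g⁆ ∈ V}
  one_mem' := by
    refine ⟨N.one_mem, ?_⟩
    intro U V hUV _ u _
    rw [commutatorElement_def]
    simp
  mul_mem' := by
    rintro a b ⟨haN, ha⟩ ⟨hbN, hb⟩
    refine ⟨N.mul_mem haN hbN, ?_⟩
    intro U V hUV hUF u hu
    have hVn : V.Normal := hUV.2.1
    have e : ⁅u, a * b⁆ = ⁅u, a⁆ * (a * ⁅u, b⁆ * a⁻¹) := by
      simp only [commutatorElement_def]; group
    rw [e]
    exact V.mul_mem (ha U V hUV hUF u hu) (hVn.conj_mem _ (hb U V hUV hUF u hu) a)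
  inv_mem' := by
    rintro a ⟨haN, ha⟩
    refine ⟨N.inv_mem haN, ?_⟩
    intro U V hUV hUF u hu
    have hVn : V.Normal := hUV.2.1
    have e : ⁅u, a⁻¹⁆ = a⁻¹ * (⁅u, a⁆)⁻¹ * a⁻¹⁻¹ := by
      simp only [commutatorElement_def]; group
    rw [e]
    exact hVn.conj_mem _ (V.inv_mem (ha U V hUV hUF u hu)) a⁻¹

theorem cSub_normal (N F : Subgroup G) [N.Normal] : (cSub N F).Normal := by
  constructor
  rintro a ⟨haN, ha⟩ x
  refine ⟨‹N.Normal›.conj_mem a haN x, ?_⟩
  intro U V hUV hUF u hu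
  have hVn : V.Normal := hUV.2.1
  have hUn : U.Normal := hUV.1
  have hu' : x⁻¹ * u * x⁻¹⁻¹ ∈ U := hUn.conj_mem u hu x⁻¹
  have e : ⁅u, x * a * x⁻¹⁆ = x * ⁅x⁻¹ * u * x⁻¹⁻¹, a⁆ * x⁻¹ := by
    simp only [commutatorElement_def]; group
  rw [e]
  exact hVn.conj_mem _ (ha U V hUV hUF _ hu') x

theorem comm_cSub_le (N F U V : Subgroup G) (hUV : IsChief U V) (hUF : U ≤ F) :
    ⁅U, cSub N F⁆ ≤ V := by
  rw [Subgroup.commutator_le]
  intro u hu g hg
  exact hg.2 U V hUV hUF u hu

/-- every normal subgroup below `F` is killed by iterated commutators with `cSub N F` -/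
theorem exists_iterComm_eq_bot (N F : Subgroup G) : ∀ (n : ℕ) (U : Subgroup G), Nat.card U = n →
    U.Normal → U ≤ F → ∃ k, iterComm (cSub N F) k U = ⊥ := by
  intro n
  induction n using Nat.strong_induction_on with
  | _ n ih =>
    intro U hn hUn hUF
    by_cases hbot : U = ⊥
    · exact ⟨0, hbot⟩
    -- a maximal normal subgroup of G properly inside U
    have hfin : {V : Subgroup G | V.Normal ∧ V < U}.Finite := Set.toFinite _
    obtain ⟨V, ⟨hVn, hVU⟩, hmax⟩ := hfin.exists_maximal ⟨⊥, inferInstance, bot_lt_iff_ne_bot.mpr hbot⟩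
    have hchief : IsChief U V := by
      refine ⟨hUn, hVn, hVU, ?_⟩
      intro W hWn hVW hWU
      by_cases hWU' : W = U
      · exact Or.inr hWU'
      · left
        exact le_antisymm (hmax ⟨hWn, lt_of_le_of_ne hWU hWU'⟩ hVW) hVW
    have hlt : Nat.card V < n := by
      rw [← hn]
      apply lt_of_le_of_ne (Subgroup.card_le_of_le hVU.le)
      intro heq
      exact (ne_of_lt hVU) (Subgroup.eq_of_le_of_card_ge hVU.le heq.ge)
    obtain ⟨k, hk⟩ := ih (Nat.card V) hlt V rfl hVn (hVU.le.trans hUF)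
    refine ⟨k + 1, ?_⟩
    change iterComm (cSub N F) k ⁅U, cSub N F⁆ = ⊥
    rw [eq_bot_iff, ← hk]
    exact iterComm_mono _ k (comm_cSub_le N F U V hchief hUF)

end main


/-- Let G be a finite solvable group and N a normal subgroup of G. Call a pair V < U of normal subgroups of G a chief factor of G when no normal subgroup of G lies strictly between them; an element g centralizes the chief factor U/V when u g u⁻¹ g⁻¹ ∈ V for all u ∈ U. Then an element of G lies in the Fitting subgroup F(N) if and only if it lies in N and centralizes every chief factor of G; and also if and only if it lies in N and centralizes every chief factor U/V of G with U ≤ F(N). -/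
theorem result {G : Type*} [Group G] [Finite G] (hG : Group.IsSolvable G) (N : Subgroup G) [N.Normal] (g : G) : (g ∈ (Cfsg.fittingSubgroup ↥N).map N.subtype ↔ g ∈ N ∧ ∀ U V : Subgroup G, (U.Normal ∧ V.Normal ∧ V < U ∧ ∀ W : Subgroup G, W.Normal → V ≤ W → W ≤ U → W = V ∨ W = U) → ∀ u ∈ U, u * g * u⁻¹ * g⁻¹ ∈ V) ∧ (g ∈ (Cfsg.fittingSubgroup ↥N).map N.subtype ↔ g ∈ N ∧ ∀ U V : Subgroup G, (U.Normal ∧ V.Normal ∧ V < U ∧ ∀ W : Subgroup G, W.Normal → V ≤ W → W ≤ U → W = V ∨ W = U) → U ≤ (Cfsg.fittingSubgroup ↥N).map N.subtype → ∀ u ∈ U, u * g * u⁻¹ * g⁻¹ ∈ V) := by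
  classical
  haveI := hG
  have hFchar : (Cfsg.fittingSubgroup ↥N).Characteristic :=
    Cfsg.Agent.Lib.Helper12.fittingSubgroup_characteristic ↥N
  have hFn : ((Cfsg.fittingSubgroup ↥N).map N.subtype).Normal := inferInstance
  have hFnil : Group.IsNilpotent ↥((Cfsg.fittingSubgroup ↥N).map N.subtype) :=
    (Group.isNilpotent_congr ((Cfsg.fittingSubgroup ↥N).equivMapOfInjective N.subtype
      N.subtype_injective)).mp Cfsg.Agent.S0008.result
  have hFN : (Cfsg.fittingSubgroup ↥N).map N.subtype ≤ N := Subgroup.map_subtype_le _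
  -- criterion: normal nilpotent W ≤ N lies in F
  have hcrit : ∀ W : Subgroup G, W.Normal → W ≤ N → Group.IsNilpotent ↥W →
      W ≤ (Cfsg.fittingSubgroup ↥N).map N.subtype := by
    intro W hWn hWN hWnil
    have h1 : (W.subgroupOf N).Normal := inferInstance
    have h2 : Group.IsNilpotent ↥(W.subgroupOf N) :=
      (Group.isNilpotent_congr (Subgroup.subgroupOfEquivOfLe hWN)).mpr hWnil
    have h3 : W.subgroupOf N ≤ Cfsg.fittingSubgroup ↥N := le_sSup ⟨h1, h2⟩
    rw [← Subgroup.map_subgroupOf_eq_of_le hWN]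
    exact Subgroup.map_mono h3
  set F := (Cfsg.fittingSubgroup ↥N).map N.subtype with hFdef
  set D := cSub N F with hD
  have hDn : D.Normal := cSub_normal N F
  have hFD : F ≤ D := by
    intro f hf
    refine ⟨hFN hf, ?_⟩
    intro U V hUV _ u hu
    exact nilpotent_centralizes_chief F hFnil U V hUV (Subgroup.commutator_mem_commutator hu hf)
  have hDN : D ≤ N := fun g hg => hg.1
  have hDF : D ≤ F := by
    by_contra hcon
    have hDsolv : Group.IsSolvable ↥D := inferInstance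
    obtain ⟨n, hn⟩ := dser_eq_bot D hDsolv
    have hex : ∃ m, dser D m ≤ F := ⟨n, by rw [hn]; exact bot_le⟩
    have hm := Nat.find_spec hex
    have hmin := fun j hj => Nat.find_min hex (m := j) hj
    set m := Nat.find hex with hmdef
    have hm0 : m ≠ 0 := by
      intro h
      rw [h] at hm
      exact hcon hm
    obtain ⟨i, hi⟩ : ∃ i, m = i + 1 := ⟨m - 1, by omega⟩
    have hi1 : ¬ dser D i ≤ F := hmin i (by omega)
    rw [hi] at hm
    have hm' : ⁅dser D i, dser D i⁆ ≤ F := hm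
    have hXn : (dser D i).Normal := dser_normal D i
    have hWn : (F ⊔ dser D i).Normal := inferInstance
    have hWD : F ⊔ dser D i ≤ D := sup_le hFD (dser_le D i)
    have hWW : ⁅F ⊔ dser D i, F ⊔ dser D i⁆ ≤ F := by
      calc ⁅F ⊔ dser D i, F ⊔ dser D i⁆ ≤ F ⊔ ⁅dser D i, F ⊔ dser D i⁆ := comm_sup_le F _ _
        _ = F ⊔ ⁅F ⊔ dser D i, dser D i⁆ := by rw [Subgroup.commutator_comm]
        _ ≤ F ⊔ (F ⊔ ⁅dser D i, dser D i⁆) := sup_le_sup_left (comm_sup_le F _ _) F
        _ ≤ F := sup_le le_rfl (sup_le le_rfl hm')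
    obtain ⟨k, hk⟩ := exists_iterComm_eq_bot N F (Nat.card F) F rfl hFn le_rfl
    have hlcs : (F ⊔ dser D i).lowerCentralSeries (1 + k) ≤ iterComm D k F :=
      lcs_le_iterComm D _ hWD k 1 F (by
        rw [Subgroup.lowerCentralSeries_succ, Subgroup.lowerCentralSeries_zero]; exact hWW)
    have hWnil : Group.IsNilpotent ↥(F ⊔ dser D i) :=
      (Subgroup.isNilpotent_iff_lowerCentralSeries _).mpr
        ⟨1 + k, by rw [eq_bot_iff, ← hk]; exact hlcs⟩
    exact hi1 (le_sup_right.trans (hcrit _ hWn (hWD.trans hDN) hWnil))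
  have hA : g ∈ F → g ∈ N ∧ ∀ U V : Subgroup G, IsChief U V → ∀ u ∈ U, u * g * u⁻¹ * g⁻¹ ∈ V := by
    intro hg
    refine ⟨hFN hg, ?_⟩
    intro U V hUV u hu
    exact nilpotent_centralizes_chief F hFnil U V hUV (Subgroup.commutator_mem_commutator hu hg)
  have hB : (g ∈ N ∧ ∀ U V : Subgroup G, IsChief U V → U ≤ F → ∀ u ∈ U, u * g * u⁻¹ * g⁻¹ ∈ V) →
      g ∈ F := by
    rintro ⟨hgN, hg⟩
    exact hDF ⟨hgN, fun U V hUV hUF u hu => hg U V hUV hUF u hu⟩
  exact ⟨⟨hA, fun h => hB ⟨h.1, fun U V hUV _ => h.2 U V hUV⟩⟩,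
    ⟨fun h => ⟨(hA h).1, fun U V hUV _ => (hA h).2 U V hUV⟩, hB⟩⟩

end Cfsg.Agent.S3766
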