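import Cfsg.Statements.S1445
import Cfsg.Agent.Lib.Helper1.PrimeAct.Main

set_option autoImplicit false
open Cfsg

namespace Cfsg.Agent.S1445

open scoped commutatorElement

/-- Let G be a solvable group of odd order, K a normal subgroup and R a subgroup with G = KR and the orders of K and R coprime. Suppose K ∩ C_G(x) = K ∩ C_G(R) for every non-identity x ∈ R, and F(K) ∩ C_G(R) = 1. Then [K, R] is contained in the Fitting subgroup of K. -/
theorem result {G : Type*} [Group G] [Finite G] [Group.IsSolvable G] (hodd : Odd (Nat.card G)) (K R : Subgroup G) [K.Normal] (hKR : K ⊔ R = ⊤) (hcop : (Nat.card K).Coprime (Nat.card R))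
    (hprime : ∀ x ∈ R, x ≠ 1 → K ⊓ Subgroup.centralizer ({x} : Set G) = (K ⊓ Subgroup.centralizer (R : Set G)))
    (hF : Cfsg.fittingOf K ⊓ Subgroup.centralizer (R : Set G) = ⊥) :
    ⁅K, R⁆ ≤ Cfsg.fittingOf K := by
  classical
  have hG : Group.IsSolvable G := inferInstance
  have hFn : (Cfsg.fittingOf K).Normal := Cfsg.Agent.Lib.Helper1.PrimeAct.fittingOf_normal K
  have hFK : Cfsg.fittingOf K ≤ K := Cfsg.Agent.Lib.Helper1.PrimeAct.fittingOf_le K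
  have hKn : K.Normal := inferInstance
  by_cases hR : R = ⊥
  · rw [hR, Subgroup.commutator_bot_right]
    exact bot_le
  haveI : Nontrivial R := (Subgroup.nontrivial_iff_ne_bot R).mpr hR
  have hcard : 1 < Nat.card R := Finite.one_lt_card
  obtain ⟨r, hr, hrd⟩ := Nat.exists_prime_and_dvd (ne_of_gt hcard)
  have hfr : Fact r.Prime := ⟨hr⟩
  obtain ⟨x, hx⟩ := exists_prime_orderOf_dvd_card' (G := R) r hrd
  obtain ⟨x₀, hx₀⟩ : ∃ x₀ : G, x₀ = (x : G) := ⟨_, rfl⟩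
  have hx₀R : x₀ ∈ R := hx₀ ▸ x.2
  have hx₀r : x₀ ^ r = 1 := by
    have h1 := pow_orderOf_eq_one x
    rw [hx] at h1
    rw [hx₀]
    exact_mod_cast congrArg Subtype.val h1
  have hx₀1 : x₀ ≠ 1 := by
    intro h
    have h1 : x = 1 := Subtype.ext (hx₀ ▸ h)
    rw [h1, orderOf_one] at hx
    exact hr.one_lt.ne hx
  have hcopr : (Nat.card K).Coprime r := Nat.Coprime.coprime_dvd_right hrd hcop
  have hcent := hprime x₀ hx₀R hx₀1
  have hfix : ∀ c ∈ Cfsg.fittingOf K, x₀ * c = c * x₀ → c = 1 := by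
    intro c hc hcx
    have h1 : c ∈ K ⊓ Subgroup.centralizer ({x₀} : Set G) := by
      refine Subgroup.mem_inf.mpr ⟨hFK hc, ?_⟩
      rw [Subgroup.mem_centralizer_singleton_iff]
      exact hcx.symm
    rw [hcent] at h1
    have h2 : c ∈ Cfsg.fittingOf K ⊓ Subgroup.centralizer (R : Set G) :=
      Subgroup.mem_inf.mpr ⟨hc, (Subgroup.mem_inf.mp h1).2⟩
    rw [hF, Subgroup.mem_bot] at h2
    exact h2
  have hA := Cfsg.Agent.Lib.Helper1.PrimeAct.prime_elt_comm_mem_fitting hodd K x₀ hr hx₀r hcopr hfix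
  have hrF : ¬ r ∣ Nat.card (Cfsg.fittingOf K) := by
    intro h
    have h1 : r ∣ Nat.gcd (Nat.card K) r :=
      Nat.dvd_gcd (dvd_trans h (Subgroup.card_dvd_of_le hFK)) dvd_rfl
    rw [hcopr.gcd_eq_one, Nat.dvd_one] at h1
    exact hr.one_lt.ne' h1
  rw [Subgroup.commutator_le]
  intro k hk y hy
  have h1 : k⁻¹ * (x₀ * k * x₀⁻¹) ∈ Cfsg.fittingOf K := by
    have h2 := hA k⁻¹ (K.inv_mem hk)
    rw [inv_inv] at h2
    have h3 : k⁻¹ * (x₀ * k * x₀⁻¹) = k⁻¹ * x₀ * k * x₀⁻¹ := by group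
    rw [h3]
    exact h2
  obtain ⟨c, hc, hcx⟩ := Cfsg.Agent.Lib.Helper1.PrimeAct.exists_fixed_in_coset (Cfsg.fittingOf K)
    x₀ k hr hx₀r (fun n hn => hFn.conj_mem n hn x₀) hrF h1
  have hcK : c ∈ K := by
    have : c = k * (k⁻¹ * c) := by group
    rw [this]
    exact K.mul_mem hk (hFK hc)
  have hcR : c ∈ K ⊓ Subgroup.centralizer (R : Set G) := by
    rw [← hcent]
    refine Subgroup.mem_inf.mpr ⟨hcK, ?_⟩
    rw [Subgroup.mem_centralizer_singleton_iff]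
    exact hcx.symm
  have hcy : y * c = c * y := Subgroup.mem_centralizer_iff.mp (Subgroup.mem_inf.mp hcR).2 y hy
  obtain ⟨m, hm⟩ : ∃ m : G, m = k⁻¹ * c := ⟨_, rfl⟩
  have hmF : m ∈ Cfsg.fittingOf K := hm ▸ hc
  have hk_eq : k = c * m⁻¹ := by rw [hm]; group
  have hyc' : y⁻¹ * c⁻¹ = c⁻¹ * y⁻¹ := by
    rw [← mul_inv_rev, ← mul_inv_rev, hcy]
  have e : ⁅k, y⁆ = c * (m⁻¹ * (y * m * y⁻¹)) * c⁻¹ := by
    rw [commutatorElement_def, hk_eq]
    calc c * m⁻¹ * y * (c * m⁻¹)⁻¹ * y⁻¹ = c * m⁻¹ * y * m * (c⁻¹ * y⁻¹) := by group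
      _ = c * m⁻¹ * y * m * (y⁻¹ * c⁻¹) := by rw [hyc']
      _ = c * (m⁻¹ * (y * m * y⁻¹)) * c⁻¹ := by group
  rw [e]
  apply hFn.conj_mem
  exact (Cfsg.fittingOf K).mul_mem ((Cfsg.fittingOf K).inv_mem hmF) (hFn.conj_mem m hmF y)

end Cfsg.Agent.S1445
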