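import Cfsg.Statements.S1373
import Cfsg.Agent.Lib.Helper10.PPairF
import Cfsg.Agent.Lib.Helper1.BG14c.PairL1
import Cfsg.Agent.S1366

set_option autoImplicit false
open Cfsg

namespace Cfsg.Agent.S1373

/-- Let G be a minimal simple group of odd order and M a maximal subgroup with standard factorisation M = K U M_σ, K ≠ 1 and U = 1. Then M_σ ∩ C_G(K) has prime order. -/
theorem result {G : Type*} [Group G] [Finite G] (hG : Cfsg.IsMinSimpleOddOrder G)
    (M : Subgroup G) (hM : IsCoatom M) (K U : Subgroup G) (hKU : Cfsg.IsSigmaDecomposition M K U) (hK1 : K ≠ ⊥) (hU : U = ⊥) :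
    (Nat.card ↥(Cfsg.sigmaCore M ⊓ Subgroup.centralizer (K : Set G))).Prime := by
  obtain ⟨Ms, ⟨hMs, hKst, hKstH⟩, -⟩ := Cfsg.Agent.S1366.result hG M hM K U hKU hK1
  have c : Cfsg.Agent.Lib.Helper10.PPair.Pair M Ms K :=
    ⟨hG, hM, hMs, hKU.hall, hK1, hKst, hKstH⟩
  apply Cfsg.Agent.Lib.Helper1.BG14c.card_prime_of_not_typeP1 hG hMs hKstH c.hKs1
  · intro h
    apply hK1
    rw [eq_bot_iff, ← h]
    exact c.hKσ
  · intro hP1
    apply c.two_cycle_false
      (Cfsg.Agent.Lib.Helper10.PPair.fac_of_decomp hKU hU _ le_sup_left)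
    intro m hm
    obtain ⟨s, hs, t, ht, rfl⟩ := Cfsg.Agent.Lib.Helper1.BG14c.typeP1_fac hG hMs hP1 hKstH m hm
    exact ⟨s, hs, t, Subgroup.mem_sup_right ht, rfl⟩

end Cfsg.Agent.S1373
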