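import Mathlib
import Cfsg.Statements.S1024

set_option autoImplicit false
open Cfsg

namespace Cfsg.Agent.S1024

open Cfsg.Lie Cfsg.Lie.ChevalleyDatum

theorem chainCoeff_pos (D : ChevalleyDatum) (r s u : ℕ) : ∀ km ∈ D.chainCoeff r s u, 1 ≤ km.1 := by
  intro km hkm
  unfold ChevalleyDatum.chainCoeff at hkm
  rw [List.mem_flatMap] at hkm
  obtain ⟨e, _, he⟩ := hkm
  rw [List.mem_map] at he
  obtain ⟨q, _, rfl⟩ := he
  simp

theorem xMat_zero {F : Type*} [Field F] (D : ChevalleyDatum) (r : Fin D.nroots) :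
    D.xMat F r 0 = 1 := by
  ext row col
  unfold ChevalleyDatum.xMat
  rw [Matrix.of_apply, Matrix.one_apply]
  rcases col with i | s
  · rcases row with i' | u
    · simp
    · simp
  · by_cases hs : s = r
    · rcases row with i' | u
      · simp [hs]
      · subst hs
        simp
    · by_cases hn : s.val = D.negIdx.getD r.val 0
      · rcases row with i' | u
        · simp [hs, hn]
        · simp only [hs, hn, if_true, if_false]
          by_cases hu : u = s
          · simp [hu]
          · simp [hu]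
      · rcases row with i' | u
        · simp [hs, hn]
        · simp only [hs, hn, if_false]
          have hsum : ((D.chainCoeff r.val s.val u.val).map
              fun km => ((km.2 : ℤ) : F) * (0 : F) ^ km.1).sum = 0 := by
            apply List.sum_eq_zero
            intro x hx
            rw [List.mem_map] at hx
            obtain ⟨km, hkm, rfl⟩ := hx
            have := chainCoeff_pos D _ _ _ km hkm
            rw [zero_pow (by omega), mul_zero]
          rw [hsum, add_zero]
          simp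

theorem main {F : Type*} [Field F] (D : ChevalleyDatum)
    (h : ∀ r < D.nroots, D.negIdx.getD r 0 < D.nroots ∧ D.negIdx.getD r 0 ≠ r)
    (r : ℕ) (hr : r < D.nroots) (t : F) : D.x F r t = 1 ↔ t = 0 := by
  unfold ChevalleyDatum.x
  rw [dif_pos hr]
  constructor
  · intro hx
    obtain ⟨h1, h2⟩ := h r hr
    have := congrFun (congrFun hx (Sum.inr ⟨r, hr⟩)) (Sum.inr ⟨D.negIdx.getD r 0, h1⟩)
    unfold ChevalleyDatum.xMat at this
    rw [Matrix.of_apply, Matrix.one_apply] at this
    have hne : (⟨D.negIdx.getD r 0, h1⟩ : Fin D.nroots) ≠ ⟨r, hr⟩ := by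
      intro h; apply h2; exact congrArg Fin.val h
    have hne' : (⟨r, hr⟩ : Fin D.nroots) ≠ ⟨D.negIdx.getD r 0, h1⟩ := fun h => hne h.symm
    simp only [hne, hne', if_false, if_true, Sum.inr.injEq] at this
    simpa using this
  · rintro rfl
    exact xMat_zero D ⟨r, hr⟩

theorem tG2 : ∀ r < chevG2.nroots, chevG2.negIdx.getD r 0 < chevG2.nroots ∧ chevG2.negIdx.getD r 0 ≠ r := by decide +kernel
theorem tB2 : ∀ r < chevB2.nroots, chevB2.negIdx.getD r 0 < chevB2.nroots ∧ chevB2.negIdx.getD r 0 ≠ r := by decide +kernel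
theorem tD4 : ∀ r < chevD4.nroots, chevD4.negIdx.getD r 0 < chevD4.nroots ∧ chevD4.negIdx.getD r 0 ≠ r := by decide +kernel
theorem tF4 : ∀ r < chevF4.nroots, chevF4.negIdx.getD r 0 < chevF4.nroots ∧ chevF4.negIdx.getD r 0 ≠ r := by decide +kernel
theorem tE6 : ∀ r < chevE6.nroots, chevE6.negIdx.getD r 0 < chevE6.nroots ∧ chevE6.negIdx.getD r 0 ≠ r := by decide +kernel
theorem tE7 : ∀ r < chevE7.nroots, chevE7.negIdx.getD r 0 < chevE7.nroots ∧ chevE7.negIdx.getD r 0 ≠ r := by decide +kernel
theorem tE8 : ∀ r < chevE8.nroots, chevE8.negIdx.getD r 0 < chevE8.nroots ∧ chevE8.negIdx.getD r 0 ≠ r := by decide +kernel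

theorem result {F : Type*} [Field F] (D : Cfsg.Lie.ChevalleyDatum) (hD : D ∈ [Cfsg.Lie.chevG2, Cfsg.Lie.chevB2, Cfsg.Lie.chevD4, Cfsg.Lie.chevF4, Cfsg.Lie.chevE6, Cfsg.Lie.chevE7, Cfsg.Lie.chevE8]) (r : ℕ) (hr : r < D.nroots) (t : F) :
    D.x F r t = 1 ↔ t = 0 := by
  simp only [List.mem_cons, List.mem_nil_iff, or_false] at hD
  rcases hD with rfl | rfl | rfl | rfl | rfl | rfl | rfl
  · exact main _ tG2 r hr t
  · exact main _ tB2 r hr t
  · exact main _ tD4 r hr t
  · exact main _ tF4 r hr t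
  · exact main _ tE6 r hr t
  · exact main _ tE7 r hr t
  · exact main _ tE8 r hr t

end Cfsg.Agent.S1024
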