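import Mathlib
import Cfsg.Statements.S0643
import Cfsg.Agent.Lib.Helper21.RegularPow

set_option autoImplicit false
open Cfsg

namespace Cfsg.Agent.S0643

open scoped commutatorElement
open Cfsg.Agent.Lib.Helper21.RegularPow

theorem closure_pair_le {G : Type*} [Group G] {U : Subgroup G} {x y : G} (hx : x ∈ U) (hy : y ∈ U) :
    Subgroup.closure ({x, y} : Set G) ≤ U := by
  rw [Subgroup.closure_le]
  intro z hz
  rcases hz with rfl | hz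
  · exact hx
  · rw [Set.mem_singleton_iff] at hz; subst hz; exact hy

/-- the inductive step: the `p`-rule together with the `p^n`-rule gives the `p^(n+1)`-rule -/
theorem regAt_succ {G : Type*} [Group G] [Finite G] {p : ℕ} [Fact p.Prime] (hG : IsPGroup p G)
    (hK : ∀ a b : G, ∃ c ∈ ⁅Subgroup.closure ({a, b} : Set G), Subgroup.closure ({a, b} : Set G)⁆,
      (a * b) ^ p = a ^ p * b ^ p * c ^ p) (n : ℕ) (hn : RegAt p n G) : RegAt p (n + 1) G := by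
  intro a b
  obtain ⟨K, hKdef⟩ : ∃ K : Subgroup G, K = Subgroup.closure ({a, b} : Set G) := ⟨_, rfl⟩
  rw [← hKdef]
  have haK : a ∈ K := by rw [hKdef]; exact Subgroup.subset_closure (by simp)
  have hbK : b ∈ K := by rw [hKdef]; exact Subgroup.subset_closure (by simp)
  have hK'K : (⁅K, K⁆ : Subgroup G) ≤ K :=
    Subgroup.commutator_le.mpr (fun g₁ h₁ g₂ h₂ =>
      K.mul_mem (K.mul_mem (K.mul_mem h₁ h₂) (K.inv_mem h₁)) (K.inv_mem h₂))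
  obtain ⟨c₀, hc₀mem, hc₀eq⟩ := hn a b
  rw [← hKdef] at hc₀mem
  have hfK' := (power_facts hG n hn (⁅K, K⁆ : Subgroup G)).1
  have hfK := (power_facts hG n hn K).2
  have hc₀' : c₀ ∈ {y : G | ∃ x ∈ (⁅K, K⁆ : Subgroup G), y = x ^ (p ^ n)} := by
    rw [hfK']; exact hc₀mem
  obtain ⟨c, hcK', rfl⟩ := hc₀'
  set U : Subgroup G := Cfsg.powerClosure p n K with hUdef
  have hpowU : ∀ g ∈ K, g ^ (p ^ n) ∈ U := fun g hg => Subgroup.subset_closure ⟨g, hg, rfl⟩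
  have hxU : a ^ (p ^ n) ∈ U := hpowU a haK
  have hyU : b ^ (p ^ n) ∈ U := hpowU b hbK
  have hwU : c ^ (p ^ n) ∈ U := hpowU c (hK'K hcK')
  obtain ⟨x, hxdef⟩ : ∃ x, x = a ^ (p ^ n) := ⟨_, rfl⟩
  obtain ⟨y, hydef⟩ : ∃ y, y = b ^ (p ^ n) := ⟨_, rfl⟩
  obtain ⟨w, hwdef⟩ : ∃ w, w = c ^ (p ^ n) := ⟨_, rfl⟩
  rw [← hxdef, ← hydef, ← hwdef] at hc₀eq
  rw [← hxdef] at hxU
  rw [← hydef] at hyU
  rw [← hwdef] at hwU
  obtain ⟨d₂, hd₂mem, hd₂eq⟩ := hK x y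
  obtain ⟨d₁, hd₁mem, hd₁eq⟩ := hK (x * y) w
  have hd₂U : d₂ ∈ (⁅U, U⁆ : Subgroup G) :=
    Subgroup.commutator_mono (closure_pair_le hxU hyU) (closure_pair_le hxU hyU) hd₂mem
  have hd₁U : d₁ ∈ (⁅U, U⁆ : Subgroup G) :=
    Subgroup.commutator_mono (closure_pair_le (mul_mem hxU hyU) hwU)
      (closure_pair_le (mul_mem hxU hyU) hwU) hd₁mem
  have hU'U : (⁅U, U⁆ : Subgroup G) ≤ U :=
    Subgroup.commutator_le.mpr (fun g₁ h₁ g₂ h₂ =>
      U.mul_mem (U.mul_mem (U.mul_mem h₁ h₂) (U.inv_mem h₁)) (U.inv_mem h₂))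
  have hd₂'U : (w ^ p)⁻¹ * d₂ * w ^ p ∈ (⁅U, U⁆ : Subgroup G) := by
    have : (w ^ p)⁻¹ * d₂ * w ^ p = ⁅(w ^ p)⁻¹, d₂⁆ * d₂ := by simp [commutatorElement_def]
    rw [this]
    exact mul_mem (Subgroup.commutator_mem_commutator (inv_mem (pow_mem hwU _)) (hU'U hd₂U)) hd₂U
  -- elements of U' are p^n-th powers of elements of K'
  have hpowK' : ∀ d ∈ (⁅U, U⁆ : Subgroup G), ∃ e ∈ (⁅K, K⁆ : Subgroup G), d = e ^ (p ^ n) := by
    intro d hd
    have h1 : d ∈ (Cfsg.powerClosure p n ⁅K, K⁆ : Set G) := hfK hd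
    rw [← hfK'] at h1
    exact h1
  obtain ⟨e₁, he₁, hde₁⟩ := hpowK' d₁ hd₁U
  obtain ⟨e₂, he₂, hde₂⟩ := hpowK' _ hd₂'U
  refine ⟨c ^ (p ^ (n + 1)) * e₂ ^ (p ^ (n + 1)) * e₁ ^ (p ^ (n + 1)), ?_, ?_⟩
  · have hmem : ∀ e ∈ (⁅K, K⁆ : Subgroup G), e ^ (p ^ (n + 1)) ∈ Cfsg.powerClosure p (n + 1) ⁅K, K⁆ :=
      fun e he => Subgroup.subset_closure ⟨e, he, rfl⟩
    exact mul_mem (mul_mem (hmem c hcK') (hmem e₂ he₂)) (hmem e₁ he₁)
  · have hpw : ∀ g : G, g ^ (p ^ (n + 1)) = (g ^ (p ^ n)) ^ p := fun g => by rw [pow_succ, pow_mul]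
    rw [hpw (a * b), hpw a, hpw b, hpw c, hpw e₂, hpw e₁, ← hde₁, ← hde₂, ← hxdef, ← hydef, ← hwdef,
      hc₀eq, hd₁eq, hd₂eq]
    have hcj : ((w ^ p)⁻¹ * d₂ * w ^ p) ^ p = (w ^ p)⁻¹ * d₂ ^ p * w ^ p := by
      have := conj_pow (i := p) (a := (w ^ p)⁻¹) (b := d₂)
      rwa [inv_inv] at this
    rw [hcj]
    group

theorem result {G : Type*} [Group G] [Finite G] {p : ℕ} [Fact p.Prime] (hG : IsPGroup p G) : Cfsg.IsRegularPGroup p G ↔ ∀ a b : G, ∃ c ∈ ⁅Subgroup.closure ({a, b} : Set G), Subgroup.closure ({a, b} : Set G)⁆, (a * b) ^ p = a ^ p * b ^ p * c ^ p := by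
  constructor
  · intro hreg a b
    have hR : RegAt p 1 G := fun a b => hreg.2 a b 1
    obtain ⟨c, hcmem, hceq⟩ := hreg.2 a b 1
    have hf := (power_facts hG 1 hR
      ⁅Subgroup.closure ({a, b} : Set G), Subgroup.closure ({a, b} : Set G)⁆).1
    have hc' : c ∈ {y : G | ∃ x ∈ (⁅Subgroup.closure ({a, b} : Set G),
        Subgroup.closure ({a, b} : Set G)⁆ : Subgroup G), y = x ^ (p ^ 1)} := by
      rw [hf]; exact hcmem
    obtain ⟨d, hd, rfl⟩ := hc'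
    refine ⟨d, hd, ?_⟩
    simpa using hceq
  · intro hK
    refine ⟨hG, fun a b n => ?_⟩
    have hall : ∀ n, RegAt p n G := by
      intro n
      induction n with
      | zero =>
        intro a b
        exact ⟨1, one_mem _, by simp⟩
      | succ n ih => exact regAt_succ hG hK n ih
    exact hall n a b

end Cfsg.Agent.S0643
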