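import Mathlib
import Cfsg.Statements.S0644
import Cfsg.Agent.Lib.helper23.RegularP
import Cfsg.Agent.Lib.Helper1.Frat

set_option autoImplicit false
open Cfsg

namespace Cfsg.Agent.S0644

open scoped commutatorElement
open Cfsg.Agent.Lib.helper23

/-- In a non-commutative finite `p`-group `K ≤ G`, any element `u ∈ K` together with `K'` lies in
a subgroup of smaller order. -/
theorem exists_lt_of_noncomm {G : Type*} [Group G] [Finite G] {p : ℕ} [Fact p.Prime]
    (hG : IsPGroup p G) (K : Subgroup G) {x y : G} (hx : x ∈ K) (hy : y ∈ K)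
    (hne : x * y ≠ y * x) {u : G} (hu : u ∈ K) :
    ∃ M : Subgroup G, M ≤ K ∧ u ∈ M ∧ ⁅K, K⁆ ≤ M ∧ Nat.card M < Nat.card K := by
  have hKp : IsPGroup p K := hG.to_subgroup K
  haveI hnil : Group.IsNilpotent K := hKp.isNilpotent
  have hnt : Subgroup.zpowers (⟨u, hu⟩ : K) ≠ ⊤ := by
    intro h
    have hx' : (⟨x, hx⟩ : K) ∈ Subgroup.zpowers (⟨u, hu⟩ : K) := by rw [h]; exact Subgroup.mem_top _
    have hy' : (⟨y, hy⟩ : K) ∈ Subgroup.zpowers (⟨u, hu⟩ : K) := by rw [h]; exact Subgroup.mem_top _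
    obtain ⟨n, hn⟩ := Subgroup.mem_zpowers_iff.mp hx'
    obtain ⟨m, hm⟩ := Subgroup.mem_zpowers_iff.mp hy'
    have hn' : u ^ n = x := by
      have := congrArg (fun z : K => (z : G)) hn
      simpa using this
    have hm' : u ^ m = y := by
      have := congrArg (fun z : K => (z : G)) hm
      simpa using this
    apply hne
    rw [← hn', ← hm', ← zpow_add, ← zpow_add, add_comm]
  obtain ⟨L, hLco, huL⟩ := (eq_top_or_exists_le_coatom _).resolve_left hnt
  have hcL : commutator K ≤ L :=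
    (Cfsg.Agent.Lib.Helper1.pgroup_commutator_le_frattini hKp).trans (frattini_le_coatom hLco)
  refine ⟨L.map K.subtype, ?_, ?_, ?_, ?_⟩
  · rintro z ⟨w, -, rfl⟩
    exact w.2
  · exact ⟨⟨u, hu⟩, huL (Subgroup.mem_zpowers _), rfl⟩
  · rw [← Subgroup.map_subtype_commutator K]
    exact Subgroup.map_mono hcL
  · rw [Subgroup.card_map_of_injective K.subtype_injective]
    by_contra hcon
    push_neg at hcon
    have h3 : Nat.card L = Nat.card K := le_antisymm (Subgroup.card_le_card_group _) hcon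
    exact hLco.1 (Subgroup.eq_top_of_card_eq _ h3)

/-- the key closure property: in a regular `p`-group a product of two `p^n`-th powers of elements
of `H` is a `p^n`-th power of an element of `H`. -/
theorem mul_pow_mem {G : Type*} [Group G] [Finite G] {p : ℕ} [Fact p.Prime]
    (hG : Cfsg.IsRegularPGroup p G) (n : ℕ) :
    ∀ (N : ℕ) (H : Subgroup G), Nat.card H = N → ∀ x ∈ H, ∀ y ∈ H,
      ∃ z ∈ H, x ^ (p ^ n) * y ^ (p ^ n) = z ^ (p ^ n) := by
  intro N
  induction N using Nat.strong_induction_on with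
  | _ N ih =>
  intro H hN x hx y hy
  by_cases hcomm : x * y = y * x
  · exact ⟨x * y, mul_mem hx hy, (Commute.mul_pow hcomm _).symm⟩
  obtain ⟨K, hKdef⟩ : ∃ K : Subgroup G, K = Subgroup.closure ({x, y} : Set G) := ⟨_, rfl⟩
  have hxK : x ∈ K := by rw [hKdef]; exact Subgroup.subset_closure (by simp)
  have hyK : y ∈ K := by rw [hKdef]; exact Subgroup.subset_closure (by simp)
  have hKH : K ≤ H := by
    rw [hKdef, Subgroup.closure_le]
    intro z hz
    rcases hz with rfl | hz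
    · exact hx
    · rw [Set.mem_singleton_iff] at hz; subst hz; exact hy
  have hKne : K ≠ ⊥ := by
    intro h
    rw [h, Subgroup.mem_bot] at hxK
    apply hcomm
    rw [hxK, one_mul, mul_one]
  have hDlt : Nat.card (⁅K, K⁆ : Subgroup G) < N := by
    rw [← hN]
    exact (card_commutator_lt hG.1 hKne).trans_le (Subgroup.card_le_of_le hKH)
  -- p^n-th powers of elements of K' form a subgroup
  have hD := ih _ hDlt (⁅K, K⁆ : Subgroup G) rfl
  let S : Subgroup G :=
    { carrier := {w | ∃ d ∈ (⁅K, K⁆ : Subgroup G), w = d ^ (p ^ n)}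
      mul_mem' := by
        rintro a b ⟨d, hd, rfl⟩ ⟨e, he, rfl⟩
        obtain ⟨z, hz, hze⟩ := hD d hd e he
        exact ⟨z, hz, hze⟩
      one_mem' := ⟨1, one_mem _, (one_pow _).symm⟩
      inv_mem' := by
        rintro a ⟨d, hd, rfl⟩
        exact ⟨d⁻¹, inv_mem hd, (inv_pow _ _).symm⟩ }
  obtain ⟨c, hcmem, hceq⟩ := hG.2 x y n
  rw [← hKdef] at hcmem
  have hcS : c ∈ S := by
    have hle : Cfsg.powerClosure p n (⁅K, K⁆ : Subgroup G) ≤ S := by
      unfold Cfsg.powerClosure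
      rw [Subgroup.closure_le]
      rintro z ⟨w, hw, rfl⟩
      exact ⟨w, hw, rfl⟩
    exact hle hcmem
  obtain ⟨d, hd, hdc⟩ := S.inv_mem hcS
  -- x^q y^q = (xy)^q d^q
  have h1 : x ^ (p ^ n) * y ^ (p ^ n) = (x * y) ^ (p ^ n) * d ^ (p ^ n) := by
    rw [← hdc, hceq, mul_inv_cancel_right]
  obtain ⟨M, hMK, huM, hDM, hMlt⟩ := exists_lt_of_noncomm hG.1 K hxK hyK hcomm (mul_mem hxK hyK)
  have hMlt' : Nat.card M < N := by
    rw [← hN]; exact hMlt.trans_le (Subgroup.card_le_of_le hKH)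
  obtain ⟨z, hz, hze⟩ := ih _ hMlt' M rfl (x * y) huM d (hDM hd)
  exact ⟨z, hKH (hMK hz), by rw [h1, hze]⟩

theorem result {G : Type*} [Group G] [Finite G] {p : ℕ} [Fact p.Prime] (hG : Cfsg.IsRegularPGroup p G) (H : Subgroup G) (n : ℕ) : {y : G | ∃ x ∈ H, y = x ^ (p ^ n)} = (Cfsg.powerClosure p n H : Set G) ∧ ⁅Cfsg.powerClosure p n H, Cfsg.powerClosure p n H⁆ ≤ Cfsg.powerClosure p n ⁅H, H⁆ := by
  -- the subgroup of p^n-th powers
  have key : ∀ K : Subgroup G, ∃ S : Subgroup G, (S : Set G) = {y : G | ∃ x ∈ K, y = x ^ (p ^ n)} := by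
    intro K
    refine ⟨{ carrier := {w | ∃ d ∈ K, w = d ^ (p ^ n)}
              mul_mem' := ?_
              one_mem' := ⟨1, one_mem _, (one_pow _).symm⟩
              inv_mem' := ?_ }, rfl⟩
    · rintro a b ⟨d, hd, rfl⟩ ⟨e, he, rfl⟩
      obtain ⟨z, hz, hze⟩ := mul_pow_mem hG n _ K rfl d hd e he
      exact ⟨z, hz, hze⟩
    · rintro a ⟨d, hd, rfl⟩
      exact ⟨d⁻¹, inv_mem hd, (inv_pow _ _).symm⟩
  have hpc : ∀ K : Subgroup G, (Cfsg.powerClosure p n K : Set G) = {y : G | ∃ x ∈ K, y = x ^ (p ^ n)} := by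
    intro K
    obtain ⟨S, hS⟩ := key K
    have : Cfsg.powerClosure p n K = S := by
      unfold Cfsg.powerClosure
      rw [← hS]
      exact Subgroup.closure_eq S
    rw [this, hS]
  refine ⟨(hpc H).symm, ?_⟩
  -- second part
  set D : Subgroup G := Cfsg.powerClosure p n ⁅H, H⁆ with hDdef
  have hDH' : D ≤ ⁅H, H⁆ := by
    rw [hDdef]
    unfold Cfsg.powerClosure
    rw [Subgroup.closure_le]
    rintro z ⟨w, hw, rfl⟩
    exact pow_mem hw _
  have hH'H : (⁅H, H⁆ : Subgroup G) ≤ H :=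
    Subgroup.commutator_le.mpr (fun g₁ h₁ g₂ h₂ =>
      H.mul_mem (H.mul_mem (H.mul_mem h₁ h₂) (H.inv_mem h₁)) (H.inv_mem h₂))
  -- D is normalized by H
  have hDnorm : ∀ h ∈ H, ∀ d ∈ D, h * d * h⁻¹ ∈ D := by
    intro h hh d hd
    have hd' : d ∈ (Cfsg.powerClosure p n ⁅H, H⁆ : Set G) := hd
    rw [hpc] at hd'
    obtain ⟨w, hw, rfl⟩ := hd'
    have : h * w ^ (p ^ n) * h⁻¹ = (h * w * h⁻¹) ^ (p ^ n) := (conj_pow).symm
    rw [this]
    have hmem : h * w * h⁻¹ ∈ (⁅H, H⁆ : Subgroup G) := by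
      have : h * w * h⁻¹ = ⁅h, w⁆ * w := by simp [commutatorElement_def]
      rw [this]
      exact mul_mem (Subgroup.commutator_mem_commutator hh (hH'H hw)) hw
    exact Subgroup.subset_closure ⟨_, hmem, rfl⟩
  -- the subgroup of elements of H central modulo D
  let C : Subgroup G :=
    { carrier := {g | g ∈ H ∧ ∀ b ∈ H, ⁅g, b⁆ ∈ D}
      mul_mem' := by
        rintro a b ⟨ha, hac⟩ ⟨hb, hbc⟩
        refine ⟨mul_mem ha hb, fun t ht => ?_⟩
        rw [commutatorElement_def] at *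
        have h1 := hDnorm a ha _ (hbc t ht)
        have h2 := hac t ht
        have : a * b * t * (a * b)⁻¹ * t⁻¹ = (a * (b * t * b⁻¹ * t⁻¹) * a⁻¹) * (a * t * a⁻¹ * t⁻¹) := by
          group
        rw [this]
        exact mul_mem h1 h2
      one_mem' := ⟨one_mem _, fun b _ => by rw [commutatorElement_one_left]; exact one_mem _⟩
      inv_mem' := by
        rintro a ⟨ha, hac⟩
        refine ⟨inv_mem ha, fun t ht => ?_⟩
        have h1 := hDnorm a⁻¹ (inv_mem ha) _ (inv_mem (hac t ht))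
        rw [commutatorElement_def] at *
        have : a⁻¹ * t * a⁻¹⁻¹ * t⁻¹ = a⁻¹ * (a * t * a⁻¹ * t⁻¹)⁻¹ * a⁻¹⁻¹ := by group
        rw [this]
        exact h1 }
  -- every p^n-th power of an element of H lies in C
  have hpowC : ∀ a ∈ H, a ^ (p ^ n) ∈ C := by
    intro a ha
    refine ⟨pow_mem ha _, fun b hb => ?_⟩
    -- b a b⁻¹ = [b,a] a
    obtain ⟨c, hcmem, hceq⟩ := hG.2 ⁅b, a⁆ a n
    have hcomH : ⁅b, a⁆ ∈ (⁅H, H⁆ : Subgroup G) := Subgroup.commutator_mem_commutator hb ha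
    have hKH : Subgroup.closure ({⁅b, a⁆, a} : Set G) ≤ H := by
      rw [Subgroup.closure_le]
      intro z hz
      rcases hz with rfl | hz
      · exact hH'H hcomH
      · rw [Set.mem_singleton_iff] at hz; subst hz; exact ha
    have hcD : c ∈ D := by
      have hmono : Cfsg.powerClosure p n ⁅Subgroup.closure ({⁅b, a⁆, a} : Set G),
          Subgroup.closure ({⁅b, a⁆, a} : Set G)⁆ ≤ D := by
        rw [hDdef]
        unfold Cfsg.powerClosure
        apply Subgroup.closure_mono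
        rintro z ⟨w, hw, rfl⟩
        exact ⟨w, Subgroup.commutator_mono hKH hKH hw, rfl⟩
      exact hmono hcmem
    have hd1 : ⁅b, a⁆ ^ (p ^ n) ∈ D := Subgroup.subset_closure ⟨_, hcomH, rfl⟩
    have hconj : ⁅b, a⁆ * a = b * a * b⁻¹ := by simp [commutatorElement_def]
    rw [hconj, conj_pow] at hceq
    -- b a^q b⁻¹ = d₁ a^q c
    have h2 : ⁅a ^ (p ^ n), b⁆ = (a ^ (p ^ n) * c⁻¹ * (a ^ (p ^ n))⁻¹) * (⁅b, a⁆ ^ (p ^ n))⁻¹ := by
      have h3 : ⁅a ^ (p ^ n), b⁆ = a ^ (p ^ n) * (b * a ^ (p ^ n) * b⁻¹)⁻¹ := by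
        rw [commutatorElement_def]; group
      rw [h3, hceq]; group
    rw [h2]
    exact mul_mem (hDnorm _ (pow_mem ha _) _ (inv_mem hcD)) (inv_mem hd1)
  have hle : Cfsg.powerClosure p n H ≤ C := by
    unfold Cfsg.powerClosure
    rw [Subgroup.closure_le]
    rintro z ⟨w, hw, rfl⟩
    exact hpowC w hw
  rw [Subgroup.commutator_le]
  intro g₁ h₁ g₂ h₂
  exact (hle h₁).2 g₂ (hle h₂).1

end Cfsg.Agent.S0644
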