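import Cfsg.Statements.S2455

import Cfsg.Agent.Lib.helper15.SL2Conj
set_option autoImplicit false
open Cfsg

namespace Cfsg.Agent.S2455


open Cfsg.Agent.Lib.helper15

section Helpers

variable {F : Type*} [Field F] [Fintype F]

theorem mem_center_iff' (g : Matrix.SpecialLinearGroup (Fin 2) F) :
    g ∈ Subgroup.center (Matrix.SpecialLinearGroup (Fin 2) F) ↔
      ∃ c : F, c ^ 2 = 1 ∧ (g : Matrix (Fin 2) (Fin 2) F) = c • (1 : Matrix (Fin 2) (Fin 2) F) := by
  rw [Matrix.SpecialLinearGroup.mem_center_iff]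
  simp only [Fintype.card_fin]
  constructor
  · rintro ⟨r, hr, h⟩
    refine ⟨r, hr, ?_⟩
    rw [← h, Matrix.scalar_apply, Matrix.smul_one_eq_diagonal]
  · rintro ⟨c, hc, h⟩
    refine ⟨c, hc, ?_⟩
    rw [h, Matrix.scalar_apply, Matrix.smul_one_eq_diagonal]

theorem mk_eq_one_of_scalar (g : Matrix.SpecialLinearGroup (Fin 2) F) (c : F)
    (hc : (g : Matrix (Fin 2) (Fin 2) F) = c • (1 : Matrix (Fin 2) (Fin 2) F)) :
    (QuotientGroup.mk g : Matrix.ProjectiveSpecialLinearGroup (Fin 2) F) = 1 := by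
  have hdet : (g : Matrix (Fin 2) (Fin 2) F).det = 1 := g.2
  rw [hc, Matrix.det_smul, Matrix.det_one, Fintype.card_fin, mul_one] at hdet
  rw [QuotientGroup.eq_one_iff, mem_center_iff']
  exact ⟨c, hdet, hc⟩

theorem mk_eq_of_smul (A B : Matrix.SpecialLinearGroup (Fin 2) F) (e : F) (he : e ^ 2 = 1)
    (h : (A : Matrix (Fin 2) (Fin 2) F) = e • (B : Matrix (Fin 2) (Fin 2) F)) :
    (QuotientGroup.mk A : Matrix.ProjectiveSpecialLinearGroup (Fin 2) F) = QuotientGroup.mk B := by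
  rw [QuotientGroup.eq, mem_center_iff']
  refine ⟨e, he, ?_⟩
  have h1 : (A : Matrix (Fin 2) (Fin 2) F) * ((A⁻¹ * B : Matrix.SpecialLinearGroup (Fin 2) F) :
      Matrix (Fin 2) (Fin 2) F) = (B : Matrix (Fin 2) (Fin 2) F) := by
    rw [← Matrix.SpecialLinearGroup.coe_mul, mul_inv_cancel_left]
  have hee : e * e = 1 := by rw [← pow_two]; exact he
  have h2 : (B : Matrix (Fin 2) (Fin 2) F) = e • (A : Matrix (Fin 2) (Fin 2) F) := by
    rw [h, smul_smul, hee, one_smul]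
  have hinv : ((A⁻¹ : Matrix.SpecialLinearGroup (Fin 2) F) : Matrix (Fin 2) (Fin 2) F) *
      (A : Matrix (Fin 2) (Fin 2) F) = 1 := by
    rw [← Matrix.SpecialLinearGroup.coe_mul, inv_mul_cancel, Matrix.SpecialLinearGroup.coe_one]
  rw [Matrix.SpecialLinearGroup.coe_mul, h2, Matrix.mul_smul, hinv]

theorem nonscalar_of_trace_sq (A : Matrix.SpecialLinearGroup (Fin 2) F)
    (ht : (A : Matrix (Fin 2) (Fin 2) F).trace ^ 2 ≠ 4) :
    ∀ c : F, (A : Matrix (Fin 2) (Fin 2) F) ≠ c • (1 : Matrix (Fin 2) (Fin 2) F) := by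
  intro c hc
  have hdet : (A : Matrix (Fin 2) (Fin 2) F).det = 1 := A.2
  rw [hc, Matrix.det_smul, Matrix.det_one, Fintype.card_fin, mul_one] at hdet
  apply ht
  rw [hc, Matrix.trace_smul, Matrix.trace_one, Fintype.card_fin]
  simp only [smul_eq_mul, Nat.cast_ofNat]
  linear_combination 4 * hdet

theorem conj_gen_companion (G : Matrix.SpecialLinearGroup (Fin 2) F)
    (hG : ∀ c : F, (G : Matrix (Fin 2) (Fin 2) F) ≠ c • (1 : Matrix (Fin 2) (Fin 2) F)) :
    ∃ (P : Matrix.SpecialLinearGroup (Fin 2) F) (c ci : F) (_ : c * ci = 1)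
      (C : Matrix.SpecialLinearGroup (Fin 2) F),
      (C : Matrix (Fin 2) (Fin 2) F) = !![0, -ci; c, (G : Matrix (Fin 2) (Fin 2) F).trace] ∧
      P * G * P⁻¹ = C := by
  obtain ⟨Q, G', hQG, hQ⟩ := exists_conj_entry_ne_zero G hG
  have hG' : G' = Q * G * Q⁻¹ := by rw [hQG]; group
  have htr : (G' : Matrix (Fin 2) (Fin 2) F).trace = (G : Matrix (Fin 2) (Fin 2) F).trace := by
    rw [hG', Matrix.SpecialLinearGroup.coe_mul, Matrix.trace_mul_comm,
      ← Matrix.SpecialLinearGroup.coe_mul, ← mul_assoc, inv_mul_cancel, one_mul]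
  have hdet : (G' : Matrix (Fin 2) (Fin 2) F).det = 1 := G'.2
  rw [Matrix.det_fin_two] at hdet
  obtain ⟨c, hcdef⟩ : ∃ c, c = (G' : Matrix (Fin 2) (Fin 2) F) 1 0 := ⟨_, rfl⟩
  obtain ⟨ci, hci⟩ : ∃ ci : F, c * ci = 1 := ⟨c⁻¹, mul_inv_cancel₀ (by rw [hcdef]; exact hQ)⟩
  have hdP : (!![1, (G' : Matrix (Fin 2) (Fin 2) F) 0 0 * ci; 0, 1] : Matrix (Fin 2) (Fin 2) F).det = 1 := by
    rw [Matrix.det_fin_two_of]
    ring
  have hdC : (!![0, -ci; c, (G : Matrix (Fin 2) (Fin 2) F).trace] : Matrix (Fin 2) (Fin 2) F).det = 1 := by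
    rw [Matrix.det_fin_two_of]
    linear_combination hci
  have hsemi : G' * mkSL _ hdP = mkSL _ hdP * mkSL _ hdC := by
    apply Subtype.ext
    rw [Matrix.SpecialLinearGroup.coe_mul, Matrix.SpecialLinearGroup.coe_mul, mkSL_coe, mkSL_coe,
      ← htr, Matrix.trace_fin_two, m2_eq_iff]
    simp only [Matrix.mul_apply, Fin.sum_univ_two, Matrix.of_apply,
      Matrix.cons_val', Matrix.cons_val_zero, Matrix.cons_val_one, Matrix.empty_val',
      Matrix.cons_val_fin_one]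
    rw [← hcdef]
    refine ⟨?_, ?_, by ring, ?_⟩
    · linear_combination (-(G' : Matrix (Fin 2) (Fin 2) F) 0 0) * hci
    · rw [← hcdef] at hdet
      linear_combination (-ci) * hdet - ((G' : Matrix (Fin 2) (Fin 2) F) 0 1) * hci
    · linear_combination ((G' : Matrix (Fin 2) (Fin 2) F) 0 0) * hci
  refine ⟨(mkSL _ hdP)⁻¹ * Q, c, ci, hci, mkSL _ hdC, mkSL_coe _ _, ?_⟩
  have h1 : (mkSL _ hdP)⁻¹ * Q * G * ((mkSL _ hdP)⁻¹ * Q)⁻¹ =
      (mkSL _ hdP)⁻¹ * ((Q * G * Q⁻¹) * mkSL _ hdP) := by group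
  rw [h1, ← hG', hsemi]
  group

theorem conic_solve (hodd : Fintype.card F % 2 = 1) (h2 : (2 : F) ≠ 0) (s τ : F) (hτ : τ ≠ 0) :
    ∃ e b d : F, e ^ 2 = 1 ∧
      b ^ 2 + s * b * d + d ^ 2 - τ * (s - e) * b - τ * d + 1 = 0 := by
  by_cases hs : s ^ 2 = 4
  · obtain ⟨σ, hσ⟩ : ∃ σ : F, 2 * σ = s := ⟨s / 2, by field_simp⟩
    have hσ2 : σ ^ 2 = 1 := by
      have h4 : (4 : F) ≠ 0 := by
        have : (4 : F) = 2 * 2 := by norm_num
        rw [this]
        exact mul_ne_zero h2 h2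
      have : 4 * σ ^ 2 = 4 * 1 := by
        rw [← hσ] at hs
        linear_combination hs
      exact mul_left_cancel₀ h4 this
    obtain ⟨ti, hti⟩ : ∃ ti : F, 2 * τ * ti = 1 := ⟨(2 * τ)⁻¹, mul_inv_cancel₀ (mul_ne_zero h2 hτ)⟩
    refine ⟨-σ, σ * ti, -ti, by rw [neg_sq]; exact hσ2, ?_⟩
    rw [← hσ]
    linear_combination (-ti ^ 2 - 3 * τ * ti) * hσ2 - hti
  · obtain ⟨Di, hDi⟩ : ∃ Di : F, (4 - s ^ 2) * Di = 1 :=
      ⟨(4 - s ^ 2)⁻¹, mul_inv_cancel₀ (fun h => hs (by linear_combination -h))⟩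
    obtain ⟨κ, hκ⟩ : ∃ κ : F, κ = τ * (s - 1) := ⟨_, rfl⟩
    obtain ⟨b0, hb0⟩ : ∃ b0 : F, b0 = (2 * κ - s * τ) * Di := ⟨_, rfl⟩
    obtain ⟨d0, hd0⟩ : ∃ d0 : F, d0 = (2 * τ - s * κ) * Di := ⟨_, rfl⟩
    have h1 : 2 * b0 + s * d0 - κ = 0 := by
      rw [hb0, hd0]
      linear_combination κ * hDi
    have h2' : s * b0 + 2 * d0 - τ = 0 := by
      rw [hb0, hd0]
      linear_combination τ * hDi
    obtain ⟨⟨x, y⟩, hxy⟩ : ∃ x : F × F, nrm s x = nrm s (b0, d0) - 1 := by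
      by_cases hm : nrm s (b0, d0) - 1 = 0
      · exact ⟨(0, 0), by rw [hm]; simp [nrm]⟩
      · exact nrm_universal hodd h2 s hs _
    simp only [nrm] at hxy
    refine ⟨1, b0 + x, d0 + y, one_pow 2, ?_⟩
    rw [← hκ]
    linear_combination hxy + (x + b0) * h1 + (y + d0) * h2'

theorem factor_gen_companion (hodd : Fintype.card F % 2 = 1) (h2 : (2 : F) ≠ 0)
    (s τ c ci : F) (hτ : τ ≠ 0) (hci : c * ci = 1) :
    ∃ (e : F) (A B : Matrix.SpecialLinearGroup (Fin 2) F), e ^ 2 = 1 ∧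
      (A : Matrix (Fin 2) (Fin 2) F).trace = τ ∧ (B : Matrix (Fin 2) (Fin 2) F).trace = τ ∧
      (A : Matrix (Fin 2) (Fin 2) F) * (B : Matrix (Fin 2) (Fin 2) F) = e • !![0, -ci; c, s] := by
  obtain ⟨e, b, d, he, hbd⟩ := conic_solve hodd h2 s τ hτ
  obtain ⟨c', hc'⟩ : ∃ c' : F, c' = e * τ + b - (τ - d) * s := ⟨_, rfl⟩
  have hstar : (τ - d) * d - b * c' = 1 := by
    rw [hc']
    linear_combination -hbd
  have hdA : (!![τ - d, b * ci; c * c', d] : Matrix (Fin 2) (Fin 2) F).det = 1 := by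
    rw [Matrix.det_fin_two_of]
    linear_combination hstar - b * c' * hci
  have hdB : (!![e * -b, e * (-(d + b * s) * ci); e * ((τ - d) * c), e * (c' + (τ - d) * s)] :
      Matrix (Fin 2) (Fin 2) F).det = 1 := by
    rw [Matrix.det_fin_two_of]
    linear_combination (-b * (c' + (τ - d) * s) + (d + b * s) * (τ - d) * c * ci) * he +
      (d + b * s) * (τ - d) * hci + hstar
  refine ⟨e, mkSL _ hdA, mkSL _ hdB, he, ?_, ?_, ?_⟩
  · rw [mkSL_coe, Matrix.trace_fin_two]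
    simp
  · rw [mkSL_coe, Matrix.trace_fin_two]
    simp only [Matrix.of_apply, Matrix.cons_val', Matrix.cons_val_zero, Matrix.cons_val_one,
      Matrix.empty_val', Matrix.cons_val_fin_one]
    rw [hc']
    linear_combination τ * he
  · rw [mkSL_coe, mkSL_coe, m2_eq_iff]
    simp only [Matrix.mul_apply, Fin.sum_univ_two, Matrix.of_apply, Matrix.smul_apply, smul_eq_mul,
      Matrix.cons_val', Matrix.cons_val_zero, Matrix.cons_val_one, Matrix.empty_val',
      Matrix.cons_val_fin_one]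
    refine ⟨?_, ?_, ?_, ?_⟩
    · linear_combination e * b * (τ - d) * hci
    · linear_combination (-e * ci) * hstar
    · linear_combination (e * c) * hstar
    · linear_combination (e * s) * hstar - e * c' * (d + b * s) * hci

theorem trace_facts (p : ℕ) [Fact p.Prime] [CharP F p] (h2 : (2 : F) ≠ 0)
    (X : Matrix.SpecialLinearGroup (Fin 2) F)
    (hx2 : 2 < orderOf (QuotientGroup.mk X : Matrix.ProjectiveSpecialLinearGroup (Fin 2) F))
    (hxp : ¬ p ∣ orderOf (QuotientGroup.mk X : Matrix.ProjectiveSpecialLinearGroup (Fin 2) F)) :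
    (X : Matrix (Fin 2) (Fin 2) F).trace ≠ 0 ∧ (X : Matrix (Fin 2) (Fin 2) F).trace ^ 2 ≠ 4 := by
  constructor
  · intro ht
    have hsq := m2_sq (X : Matrix (Fin 2) (Fin 2) F) X.2
    rw [ht, zero_smul, zero_sub] at hsq
    have h1 : ((X ^ 2 : Matrix.SpecialLinearGroup (Fin 2) F) : Matrix (Fin 2) (Fin 2) F) =
        (-1 : F) • (1 : Matrix (Fin 2) (Fin 2) F) := by
      rw [Matrix.SpecialLinearGroup.coe_pow, pow_two, hsq, neg_smul, one_smul]
    have h3 : (QuotientGroup.mk X : Matrix.ProjectiveSpecialLinearGroup (Fin 2) F) ^ 2 = 1 := by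
      rw [← QuotientGroup.mk_pow]
      exact mk_eq_one_of_scalar _ _ h1
    have := Nat.le_of_dvd (by norm_num) (orderOf_dvd_of_pow_eq_one h3)
    omega
  · intro ht
    obtain ⟨l, hl⟩ : ∃ l : F, 2 * l = (X : Matrix (Fin 2) (Fin 2) F).trace :=
      ⟨(X : Matrix (Fin 2) (Fin 2) F).trace / 2, by field_simp⟩
    have h4 : (4 : F) ≠ 0 := by
      have : (4 : F) = 2 * 2 := by norm_num
      rw [this]
      exact mul_ne_zero h2 h2
    have hl1 : l ^ 2 = 1 := by
      have : 4 * l ^ 2 = 4 * 1 := by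
        rw [← hl] at ht
        linear_combination ht
      exact mul_left_cancel₀ h4 this
    have hroot : l ^ 2 - (X : Matrix (Fin 2) (Fin 2) F).trace * l + 1 = 0 := by
      rw [← hl]
      linear_combination (-1 : F) * hl1
    have hpow := m2_pow_char_of_double_root p (X : Matrix (Fin 2) (Fin 2) F) X.2 l hroot hl1
    have h1 : ((X ^ p : Matrix.SpecialLinearGroup (Fin 2) F) : Matrix (Fin 2) (Fin 2) F) =
        (l ^ p) • (1 : Matrix (Fin 2) (Fin 2) F) := by
      rw [Matrix.SpecialLinearGroup.coe_pow, hpow]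
    have h3 : (QuotientGroup.mk X : Matrix.ProjectiveSpecialLinearGroup (Fin 2) F) ^ p = 1 := by
      rw [← QuotientGroup.mk_pow]
      exact mk_eq_one_of_scalar _ _ h1
    have hdvd := orderOf_dvd_of_pow_eq_one h3
    rcases (Nat.Prime.eq_one_or_self_of_dvd (Fact.out : p.Prime) _ hdvd) with h | h
    · omega
    · apply hxp
      rw [h]

end Helpers

/-- A strong covering result in the direction of Thompson's conjecture (non-identity elements) for PSL(2,q), q odd: let F be a finite field of odd characteristic p with at least 5 elements and let x ∈ PSL(2,F) have order greater than 2 and not divisible by p (so x is not unipotent). Then every non-identity element of PSL(2,F) is a product of two conjugates of x. -/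
theorem result {F : Type*} [Field F] [Fintype F] (p : ℕ) [Fact p.Prime] [CharP F p] (hp : p ≠ 2) (h5 : 5 ≤ Fintype.card F)
    (x : Matrix.ProjectiveSpecialLinearGroup (Fin 2) F) (hx2 : 2 < orderOf x) (hxp : ¬ p ∣ orderOf x) : ∀ g : Matrix.ProjectiveSpecialLinearGroup (Fin 2) F, g ≠ 1 → ∃ u v : Matrix.ProjectiveSpecialLinearGroup (Fin 2) F, g = (u * x * u⁻¹) * (v * x * v⁻¹) := by
  intro g hg
  obtain ⟨X, rfl⟩ := QuotientGroup.mk_surjective x
  obtain ⟨G, rfl⟩ := QuotientGroup.mk_surjective g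
  have hpodd : p % 2 = 1 := by
    rcases Nat.Prime.eq_two_or_odd (Fact.out : p.Prime) with h | h
    · exact absurd h hp
    · exact h
  have hodd : Fintype.card F % 2 = 1 := by
    obtain ⟨n, _, hn⟩ := FiniteField.card F p
    rw [hn, Nat.pow_mod, hpodd, one_pow]
    all_goals norm_num
  have h2 : (2 : F) ≠ 0 := by
    intro h
    have h3 : ((2 : ℕ) : F) = 0 := by exact_mod_cast h
    rw [CharP.cast_eq_zero_iff F p 2] at h3
    have := Nat.le_of_dvd (by norm_num) h3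
    have := (Fact.out : p.Prime).two_le
    omega
  obtain ⟨hτ, hτ4⟩ := trace_facts p h2 X hx2 hxp
  have hX := nonscalar_of_trace_sq X hτ4
  have hG : ∀ c : F, (G : Matrix (Fin 2) (Fin 2) F) ≠ c • (1 : Matrix (Fin 2) (Fin 2) F) := by
    intro c hc
    exact hg (mk_eq_one_of_scalar G c hc)
  obtain ⟨P, c, ci, hci, C, hC, hP⟩ := conj_gen_companion G hG
  obtain ⟨e, A, B, he, htA, htB, hAB⟩ := factor_gen_companion hodd h2
    (G : Matrix (Fin 2) (Fin 2) F).trace (X : Matrix (Fin 2) (Fin 2) F).trace c ci hτ hci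
  have hA := nonscalar_of_trace_sq A (by rw [htA]; exact hτ4)
  have hB := nonscalar_of_trace_sq B (by rw [htB]; exact hτ4)
  have huniv : ∀ n : F, n ≠ 0 → ∃ y : F × F, nrm (X : Matrix (Fin 2) (Fin 2) F).trace y = n :=
    fun n _ => nrm_universal hodd h2 _ hτ4 n
  obtain ⟨U, hU⟩ := conj_of_trace_eq X A hX hA htA.symm huniv
  obtain ⟨V, hV⟩ := conj_of_trace_eq X B hX hB htB.symm huniv
  have hmk : (QuotientGroup.mk (A * B) : Matrix.ProjectiveSpecialLinearGroup (Fin 2) F) =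
      QuotientGroup.mk C := by
    apply mk_eq_of_smul (A * B) C e he
    rw [Matrix.SpecialLinearGroup.coe_mul, hAB, hC]
  refine ⟨QuotientGroup.mk (P⁻¹ * U), QuotientGroup.mk (P⁻¹ * V), ?_⟩
  have hG1 : G = P⁻¹ * C * P := by rw [← hP]; group
  have h1 : (QuotientGroup.mk G : Matrix.ProjectiveSpecialLinearGroup (Fin 2) F) =
      QuotientGroup.mk (P⁻¹ * (A * B) * P) := by
    rw [hG1, QuotientGroup.mk_mul, QuotientGroup.mk_mul, ← hmk, ← QuotientGroup.mk_mul,
      ← QuotientGroup.mk_mul]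
  rw [h1]
  have h3 : P⁻¹ * (A * B) * P =
      (P⁻¹ * U) * X * (P⁻¹ * U)⁻¹ * ((P⁻¹ * V) * X * (P⁻¹ * V)⁻¹) := by
    rw [← hU, ← hV]
    group
  rw [h3]
  rfl

end Cfsg.Agent.S2455
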