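import Mathlib
import Cfsg.Statements.S0840
import Cfsg.Agent.Lib.Helper25.CharOrth
import Cfsg.Agent.Lib.helper7.ClassSum

set_option autoImplicit false
open scoped ComplexConjugate
open Cfsg

namespace Cfsg.Agent.S0840

open Cfsg.Agent.Lib.Helper25 Cfsg.Agent.Lib.helper7

variable {G : Type*} [Group G]

noncomputable def cmf [Fintype G] [DecidableEq G] (a b : G) (g : G) : ℂ :=
  ∑ s : G, ∑ t : G, if s * a * s⁻¹ * (t * b * t⁻¹) = g then 1 else 0

theorem cmf_class [Fintype G] [DecidableEq G] (a b g h : G) :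
    cmf a b (h * g * h⁻¹) = cmf a b g := by
  unfold cmf
  rw [← Equiv.sum_comp (Equiv.mulLeft h)]
  apply Finset.sum_congr rfl
  intro s _
  rw [← Equiv.sum_comp (Equiv.mulLeft h)]
  apply Finset.sum_congr rfl
  intro t _
  apply if_congr _ rfl rfl
  simp only [Equiv.coe_mulLeft]
  have : h * s * a * (h * s)⁻¹ * (h * t * b * (h * t)⁻¹) = h * (s * a * s⁻¹ * (t * b * t⁻¹)) * h⁻¹ := by
    group
  rw [this]
  constructor
  · intro hh
    have := congrArg (fun z => h⁻¹ * z * h) hh
    simpa [mul_assoc] using this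
  · intro hh; rw [hh]

theorem cmf_inner [Fintype G] [DecidableEq G] (a b : G) (χ : Cfsg.IrrCharacter G) :
    Cfsg.classInner (cmf a b) (χ : G → ℂ) =
      (Nat.card G : ℂ)⁻¹ * conj ((Nat.card G : ℂ) ^ 2 * (χ : G → ℂ) a * (χ : G → ℂ) b / (χ : G → ℂ) 1) := by
  unfold Cfsg.classInner
  congr 1
  rw [← irr_sum_conj_conj χ a b]
  rw [map_sum]
  unfold cmf
  simp only [Finset.sum_mul]
  rw [Finset.sum_comm]
  apply Finset.sum_congr rfl
  intro s _
  rw [map_sum, Finset.sum_comm]
  apply Finset.sum_congr rfl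
  intro t _
  simp only [ite_mul, one_mul, zero_mul]
  rw [Finset.sum_ite_eq]
  simp

theorem cmf_count [Fintype G] [DecidableEq G] (a b c : G) :
    cmf a b c = (Nat.card (Subgroup.centralizer ({a} : Set G)) : ℂ) *
      (Nat.card (Subgroup.centralizer ({b} : Set G)) : ℂ) *
      (Nat.card {p : G × G // IsConj a p.1 ∧ IsConj b p.2 ∧ p.1 * p.2 = c} : ℂ) := by
  classical
  unfold cmf
  have h1 := h7_sum_conj a (fun x : G => ∑ t : G, if x * (t * b * t⁻¹) = c then (1 : ℂ) else 0)
  rw [h1]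
  have h2 : ∀ x : G, ∑ t : G, (if x * (t * b * t⁻¹) = c then (1 : ℂ) else 0) =
      Nat.card (Subgroup.centralizer ({b} : Set G)) •
        ∑ y ∈ Finset.univ.filter (fun y : G => IsConj b y), if x * y = c then (1 : ℂ) else 0 := by
    intro x
    exact h7_sum_conj b (fun y : G => if x * y = c then (1 : ℂ) else 0)
  simp only [h2]
  rw [← Finset.smul_sum]
  simp only [nsmul_eq_mul]
  rw [← mul_assoc]
  congr 1
  rw [Nat.card_eq_fintype_card, Fintype.card_subtype]
  rw [← Finset.sum_product']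
  rw [Finset.sum_boole]
  congr 1
  congr 1
  ext ⟨x, y⟩
  simp only [Finset.mem_filter, Finset.mem_product, Finset.mem_univ, true_and]
  tauto

theorem result {G : Type*} [Group G] [Finite G] (a b c : G) : (Nat.card {p : G × G // IsConj a p.1 ∧ IsConj b p.2 ∧ p.1 * p.2 = c} : ℂ) = (Nat.card {x : G // IsConj a x} : ℂ) * (Nat.card {x : G // IsConj b x} : ℂ) / (Nat.card G : ℂ) * ∑ᶠ χ : Cfsg.IrrCharacter G, (χ : G → ℂ) a * (χ : G → ℂ) b * conj ((χ : G → ℂ) c) / (χ : G → ℂ) 1 := by
  classical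
  have := Fintype.ofFinite G
  have := Fintype.ofFinite (Cfsg.IrrCharacter G)
  rw [finsum_eq_sum_of_fintype]
  have hexp := congrFun (classFunction_expansion (cmf a b) (fun g h => cmf_class a b g h)) c
  rw [cmf_count] at hexp
  simp only [Finset.sum_apply, Pi.smul_apply, smul_eq_mul, cmf_inner] at hexp
  have hG : (Nat.card G : ℂ) ≠ 0 := by exact_mod_cast Nat.card_pos.ne'
  have hCa : (Nat.card (Subgroup.centralizer ({a} : Set G)) : ℂ) ≠ 0 := by
    exact_mod_cast Nat.card_pos.ne'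
  have hCb : (Nat.card (Subgroup.centralizer ({b} : Set G)) : ℂ) ≠ 0 := by
    exact_mod_cast Nat.card_pos.ne'
  have hca : (Nat.card {x : G // IsConj a x} : ℂ) = (Nat.card G : ℂ) / (Nat.card (Subgroup.centralizer ({a} : Set G)) : ℂ) := by
    rw [eq_div_iff hCa]
    exact_mod_cast card_conj_mul_card_centralizer a
  have hcb : (Nat.card {x : G // IsConj b x} : ℂ) = (Nat.card G : ℂ) / (Nat.card (Subgroup.centralizer ({b} : Set G)) : ℂ) := by
    rw [eq_div_iff hCb]
    exact_mod_cast card_conj_mul_card_centralizer b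
  rw [hca, hcb]
  have hconj := congrArg conj hexp
  simp only [map_mul, map_sum, Complex.conj_natCast, map_inv₀, map_div₀, Complex.conj_conj, map_pow] at hconj
  have h1real : ∀ χ : Cfsg.IrrCharacter G, conj ((χ : G → ℂ) 1) = (χ : G → ℂ) 1 := by
    intro χ
    obtain ⟨n, _, hn⟩ := irr_one_eq_finrank χ
    rw [hn, Complex.conj_natCast]
  have hsum : ∑ x : Cfsg.IrrCharacter G, (↑(Nat.card G))⁻¹ * (↑(Nat.card G) ^ 2 * (x : G → ℂ) a * (x : G → ℂ) b / (x : G → ℂ) 1) * conj ((x : G → ℂ) c)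
      = (Nat.card G : ℂ) * ∑ χ : Cfsg.IrrCharacter G, (χ : G → ℂ) a * (χ : G → ℂ) b * conj ((χ : G → ℂ) c) / (χ : G → ℂ) 1 := by
    rw [Finset.mul_sum]
    apply Finset.sum_congr rfl
    intro χ _
    field_simp
  rw [hsum] at hconj
  field_simp
  field_simp at hconj
  linear_combination hconj

end Cfsg.Agent.S0840
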