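import Cfsg.Statements.S1224
import Cfsg.Agent.Lib.Helper9.StrongEmb

set_option autoImplicit false
open Cfsg

namespace Cfsg.Agent.S1224

open Cfsg.Agent.Lib.Helper9

/-- Let H be a strongly embedded subgroup of the finite group G and x ≠ y two cosets in G/H. Then the number of involutions i of G with i • x = y equals the number of involutions lying in H. -/
theorem result {G : Type*} [Group G] [Finite G] (H : Subgroup G) (hH : Cfsg.IsStronglyEmbedded H) (x y : G ⧸ H) (hxy : x ≠ y) : Nat.card {i : G // orderOf i = 2 ∧ i • x = y} = Nat.card {t : G // orderOf t = 2 ∧ t ∈ H} := by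
  classical
  haveI : Fintype G := Fintype.ofFinite G
  haveI : Fintype (G ⧸ H) := Fintype.ofFinite _
  set I : Finset G := Finset.univ.filter (fun i => orderOf i = 2) with hI
  have hmemI : ∀ i, i ∈ I ↔ orderOf i = 2 := by intro i; simp [hI]
  have hcardL : Nat.card {i : G // orderOf i = 2 ∧ i • x = y} =
      (I.filter (fun i => i • x = y)).card := by
    rw [Nat.card_eq_fintype_card, Fintype.card_subtype, hI, Finset.filter_filter]
  have hcardR : Nat.card {t : G // orderOf t = 2 ∧ t ∈ H} = (I.filter (fun t => t ∈ H)).card := by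
    rw [Nat.card_eq_fintype_card, Fintype.card_subtype, hI, Finset.filter_filter]
  rw [hcardL, hcardR]
  -- F1
  have hF1 : ∀ i ∈ I, (Finset.univ.filter (fun c : G ⧸ H => i • c = c)).card = 1 := by
    intro i hi
    rw [hmemI] at hi
    obtain ⟨c, hc⟩ := se_exists_fixed hH hi
    rw [Finset.card_eq_one]
    refine ⟨c, ?_⟩
    ext d
    simp only [Finset.mem_filter, Finset.mem_univ, true_and, Finset.mem_singleton]
    constructor
    · intro hd; exact se_fixed_unique hH hi hd hc
    · rintro rfl; exact hc
  -- F2
  have hF2 : ∀ c : G ⧸ H, (I.filter (fun i => i • c = c)).card = (I.filter (fun t => t ∈ H)).card := by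
    intro c
    induction c using QuotientGroup.induction_on with
    | H g =>
      apply Finset.card_bij' (fun i _ => g⁻¹ * i * g) (fun t _ => g * t * g⁻¹)
      · intro i hi
        rw [Finset.mem_filter, hmemI] at hi ⊢
        refine ⟨?_, (smul_mk_eq_mk_iff i g g).1 hi.2⟩
        have := conj_orderOf_two hi.1 g⁻¹
        rwa [inv_inv] at this
      · intro t ht
        rw [Finset.mem_filter, hmemI] at ht ⊢
        refine ⟨conj_orderOf_two ht.1 g, ?_⟩
        rw [smul_mk_eq_mk_iff]
        have : g⁻¹ * (g * t * g⁻¹) * g = t := by group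
        rw [this]; exact ht.2
      · intro i _; group
      · intro t _; group
  -- F5
  have hF5 : ∀ a b : G ⧸ H, a ≠ b →
      (I.filter (fun i => i • a = a)).card ≤ (I.filter (fun i => i • a = b)).card := by
    intro a b hab
    -- an involution fixing b
    obtain ⟨s₀, hs₀, hs₀H⟩ := se_exists_involution_mem hH
    obtain ⟨k, rfl⟩ := QuotientGroup.mk_surjective b
    have hub : orderOf (k * s₀ * k⁻¹) = 2 := conj_orderOf_two hs₀ k
    have hubfix : (k * s₀ * k⁻¹) • (QuotientGroup.mk k : G ⧸ H) = QuotientGroup.mk k := by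
      rw [smul_mk_eq_mk_iff]
      have : k⁻¹ * (k * s₀ * k⁻¹) * k = s₀ := by group
      rw [this]; exact hs₀H
    have huba : (k * s₀ * k⁻¹) • a ≠ a := by
      intro h
      exact hab (se_fixed_unique hH hub h hubfix)
    apply Finset.card_le_card_of_forall_subsingleton
      (fun s i => i * i = 1 ∧ i * s * i = k * s₀ * k⁻¹)
    · intro s hs
      rw [Finset.mem_filter, hmemI] at hs
      obtain ⟨r, hr1, hr2⟩ := se_swap_points hH hs.1 hub a hs.2 huba
      have hr0 : r ≠ 1 := by
        rintro rfl
        apply huba
        rw [← hr2]; simpa using hs.2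
      have hro : orderOf r = 2 := orderOf_eq_prime (by rw [sq]; exact hr1) hr0
      refine ⟨r, ?_, hr1, hr2⟩
      rw [Finset.mem_filter, hmemI]
      refine ⟨hro, ?_⟩
      apply se_fixed_unique hH hub _ hubfix
      rw [← hr2]
      have : (r * s * r) • r • a = r • s • (r * r) • a := by
        simp only [mul_smul]
      rw [this, hr1, one_smul, hs.2]
    · intro i _ s hs s' hs'
      obtain ⟨-, hi1, hi2⟩ := hs
      obtain ⟨-, -, hi2'⟩ := hs'
      have e1 : s = i * (i * s * i) * i := by
        have : i * (i * s * i) * i = (i * i) * s * (i * i) := by group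
        rw [this, hi1, one_mul, mul_one]
      have e2 : s' = i * (i * s' * i) * i := by
        have : i * (i * s' * i) * i = (i * i) * s' * (i * i) := by group
        rw [this, hi1, one_mul, mul_one]
      rw [e1, e2, hi2, hi2']
  -- F3
  have hF3 : ∀ a : G ⧸ H, I.card = ∑ b : G ⧸ H, (I.filter (fun i => i • a = b)).card := by
    intro a
    exact Finset.card_eq_sum_card_fiberwise (f := fun i => i • a) (t := Finset.univ)
      (fun i _ => Finset.mem_coe.2 (Finset.mem_univ _))
  -- F4
  have hF4 : I.card = ∑ c : G ⧸ H, (I.filter (fun i => i • c = c)).card := by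
    have h1 : ∀ c : G ⧸ H, (I.filter (fun i => i • c = c)).card =
        ∑ i ∈ I, if i • c = c then 1 else 0 := by
      intro c; rw [Finset.card_filter]
    simp_rw [h1]
    rw [Finset.sum_comm]
    have h2 : ∀ i ∈ I, (∑ c : G ⧸ H, if i • c = c then 1 else 0) = 1 := by
      intro i hi
      rw [← Finset.card_filter]
      exact hF1 i hi
    rw [Finset.sum_congr rfl h2]
    simp
  -- conclude
  set m := (I.filter (fun t => t ∈ H)).card with hm
  have hsum : ∑ b : G ⧸ H, m = ∑ b : G ⧸ H, (I.filter (fun i => i • x = b)).card := by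
    rw [← hF3 x, hF4]
    exact (Finset.sum_congr rfl (fun c _ => hF2 c)).symm
  have hle : ∀ b ∈ (Finset.univ : Finset (G ⧸ H)), m ≤ (I.filter (fun i => i • x = b)).card := by
    intro b _
    by_cases hb : x = b
    · subst hb; rw [hF2 x]
    · rw [← hF2 x]; exact hF5 x b hb
  have := (Finset.sum_eq_sum_iff_of_le hle).1 hsum y (Finset.mem_univ y)
  exact this.symm

end Cfsg.Agent.S1224
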