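import Cfsg.Statements.S1225
import Cfsg.Agent.Lib.Helper9.StrongEmb

set_option autoImplicit false
open Cfsg

namespace Cfsg.Agent.S1225

open Cfsg.Agent.Lib.Helper9

/-- Let H be a strongly embedded subgroup of the finite group G, u an involution outside H and D = H ∩ uHu⁻¹. Then any two involutions of H are conjugate by an element of D, and any two involutions of G are conjugate in G. -/
theorem result {G : Type*} [Group G] [Finite G] (H : Subgroup G) (hH : Cfsg.IsStronglyEmbedded H) (u : G) (hu : orderOf u = 2) (huH : u ∉ H) (s t : G) (hs : orderOf s = 2) (hsH : s ∈ H) (ht : orderOf t = 2) (htH : t ∈ H) : (∃ d ∈ (H ⊓ H.map (MulAut.conj u).toMonoidHom), d * s * d⁻¹ = t) ∧ ∀ a b : G, orderOf a = 2 → orderOf b = 2 → IsConj a b := by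
  refine ⟨?_, fun a b ha hb => se_isConj hH ha hb⟩
  have hui : u⁻¹ = u := inv_eq_self_of_orderOf_two hu
  -- the involution u' = u s u⁻¹ lies outside H
  have hu' : orderOf (u * s * u⁻¹) = 2 := conj_orderOf_two hs u
  have hu'H : u * s * u⁻¹ ∉ H := by
    intro h
    apply huH
    apply se_mem_of_conj_mem hH hu' h
    have : u⁻¹ * (u * s * u⁻¹) * u = s := by group
    rwa [this]
  obtain ⟨rs, hrs1, hrs2⟩ := se_swap hH hs hsH hu' hu'H
  obtain ⟨rt, hrt1, hrt2⟩ := se_swap hH ht htH hu' hu'H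
  have hrsi : rs⁻¹ = rs := inv_eq_of_mul_eq_one_right hrs1
  have hrti : rt⁻¹ = rt := inv_eq_of_mul_eq_one_right hrt1
  -- rt u' rt = t
  have hrt3 : rt * (u * s * u⁻¹) * rt = t := by
    rw [← hrt2]
    have : rt * (rt * t * rt) * rt = (rt * rt) * t * (rt * rt) := by group
    rw [this, hrt1, one_mul, mul_one]
  have hd : (rt * rs) * s * (rt * rs)⁻¹ = t := by
    rw [mul_inv_rev, hrsi, hrti]
    have : rt * rs * s * (rs * rt) = rt * (rs * s * rs) * rt := by group
    rw [this, hrs2, hrt3]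
  have hdH : rt * rs ∈ H := by
    apply se_mem_of_conj_mem hH ht htH
    rw [← hd]
    have : (rt * rs)⁻¹ * (rt * rs * s * (rt * rs)⁻¹) * (rt * rs) = s := by group
    rwa [this]
  -- h_s = u⁻¹ rs centralizes s
  have hhs : u⁻¹ * rs ∈ H := by
    apply se_commute_mem hH hs hsH
    -- (u⁻¹ rs) s = s (u⁻¹ rs)  since rs s rs = u s u⁻¹
    have e1 : rs * s = (u * s * u⁻¹) * rs := by
      rw [← hrs2]
      have : rs * s * rs * rs = rs * s * (rs * rs) := by group
      rw [this, hrs1, mul_one]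
    calc u⁻¹ * rs * s = u⁻¹ * (rs * s) := by group
      _ = u⁻¹ * ((u * s * u⁻¹) * rs) := by rw [e1]
      _ = s * (u⁻¹ * rs) := by group
  -- h_t = u⁻¹ rt conjugates t to s
  have hht : u⁻¹ * rt ∈ H := by
    apply se_mem_of_conj_mem hH hs hsH
    have : (u⁻¹ * rt)⁻¹ * s * (u⁻¹ * rt) = rt * (u * s * u⁻¹) * rt := by
      rw [mul_inv_rev, inv_inv, hrti]; group
    rw [this, hrt3]
    exact htH
  refine ⟨rt * rs, Subgroup.mem_inf.2 ⟨hdH, ?_⟩, hd⟩
  rw [mem_map_conj_iff]
  have e : u⁻¹ * (rt * rs) * u = (u⁻¹ * rt) * (u⁻¹ * rs)⁻¹ := by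
    rw [mul_inv_rev, inv_inv, hrsi]; group
  rw [e]
  exact H.mul_mem hht (H.inv_mem hhs)

end Cfsg.Agent.S1225
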