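import Cfsg.Statements.S1226
import Cfsg.Agent.Lib.Helper9.StrongEmb

set_option autoImplicit false
open Cfsg

namespace Cfsg.Agent.S1226

open Cfsg.Agent.Lib.Helper9

/-- structure of the Sylow subgroup under the centralizer hypothesis -/
theorem sylow_structure {G : Type*} [Group G] [Finite G] (T : Sylow 2 G)
    (hne : (T : Subgroup G) ≠ ⊥)
    (hC : ∀ t : G, orderOf t = 2 → IsMulCommutative (Subgroup.centralizer ({t} : Set G)) ∧
      ∀ c ∈ Subgroup.centralizer ({t} : Set G), c ^ 2 = 1) :
    (∃ z ∈ (T : Subgroup G), orderOf z = 2) ∧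
    ∀ t ∈ (T : Subgroup G), orderOf t = 2 → Subgroup.centralizer ({t} : Set G) = (T : Subgroup G) := by
  have : Fact (Nat.Prime 2) := ⟨Nat.prime_two⟩
  have hcentP : ∀ t : G, orderOf t = 2 → IsPGroup 2 (Subgroup.centralizer ({t} : Set G)) := by
    intro t ht c
    refine ⟨1, Subtype.ext ?_⟩
    simpa using (hC t ht).2 c.1 c.2
  -- a central involution
  have hnt : Nontrivial (T : Subgroup G) := by
    rw [Subgroup.nontrivial_iff_ne_bot]
    exact hne
  have hcn : Nontrivial (Subgroup.center (T : Subgroup G)) := IsPGroup.center_nontrivial T.2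
  have hcp : IsPGroup 2 (Subgroup.center (T : Subgroup G)) := T.2.to_subgroup _
  obtain ⟨n, hn0, hn⟩ := hcp.nontrivial_iff_card.1 hcn
  obtain ⟨z, hz⟩ := exists_prime_orderOf_dvd_card' (G := Subgroup.center (T : Subgroup G)) 2
    (by rw [hn]; exact dvd_pow_self 2 hn0.ne')
  have hz2 : orderOf ((z : (T : Subgroup G)) : G) = 2 := by
    rw [Subgroup.orderOf_coe, Subgroup.orderOf_coe]; exact hz
  have hzc : ∀ x ∈ (T : Subgroup G), x * ((z : (T : Subgroup G)) : G) = ((z : (T : Subgroup G)) : G) * x := by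
    intro x hx
    have := Subgroup.mem_center_iff.1 z.2 ⟨x, hx⟩
    exact congrArg Subtype.val this
  have hTle : (T : Subgroup G) ≤ Subgroup.centralizer ({((z : (T : Subgroup G)) : G)} : Set G) := by
    intro x hx
    rw [Subgroup.mem_centralizer_singleton_iff]
    exact hzc x hx
  have hCz : Subgroup.centralizer ({((z : (T : Subgroup G)) : G)} : Set G) = (T : Subgroup G) :=
    T.is_maximal' (hcentP _ hz2) hTle
  have hTcomm : ∀ x ∈ (T : Subgroup G), ∀ y ∈ (T : Subgroup G), x * y = y * x := by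
    intro x hx y hy
    rw [← hCz] at hx hy
    have := (hC _ hz2).1.is_comm.comm ⟨x, hx⟩ ⟨y, hy⟩
    exact congrArg Subtype.val this
  refine ⟨⟨_, (z : (T : Subgroup G)).2, hz2⟩, ?_⟩
  intro t htT ht
  refine T.is_maximal' (hcentP t ht) ?_
  intro x hx
  rw [Subgroup.mem_centralizer_singleton_iff]
  exact hTcomm x hx t htT

/-- Let G be a finite group with a Sylow 2-subgroup T that is neither cyclic nor normal, such that the centralizer of every involution is an elementary abelian 2-group. Then N_G(T) is a strongly embedded subgroup of G. -/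
theorem result {G : Type*} [Group G] [Finite G] (T : Sylow 2 G) (hnc : ¬ IsCyclic (T : Subgroup G)) (hnn : ¬ (T : Subgroup G).Normal) (hC : ∀ t : G, orderOf t = 2 → IsMulCommutative (Subgroup.centralizer ({t} : Set G)) ∧ ∀ c ∈ Subgroup.centralizer ({t} : Set G), c ^ 2 = 1) : Cfsg.IsStronglyEmbedded (Subgroup.normalizer ((T : Subgroup G) : Set G)) := by
  classical
  have : Fact (Nat.Prime 2) := ⟨Nat.prime_two⟩
  have hne : (T : Subgroup G) ≠ ⊥ := by
    intro h
    apply hnn
    rw [h]
    infer_instance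
  obtain ⟨⟨z, hzT, hz2⟩, hcent⟩ := sylow_structure T hne hC
  refine ⟨?_, ?_, ?_⟩
  · intro h
    exact hnn (Subgroup.normalizer_eq_top_iff.1 h)
  · have h1 : 2 ∣ Nat.card (T : Subgroup G) := by
      have := orderOf_dvd_natCard (⟨z, hzT⟩ : (T : Subgroup G))
      rwa [Subgroup.orderOf_mk, hz2] at this
    have h2 : Nat.card (T : Subgroup G) ∣ Nat.card (Subgroup.normalizer ((T : Subgroup G) : Set G)) :=
      Subgroup.card_dvd_of_le Subgroup.le_normalizer
    exact even_iff_two_dvd.2 (h1.trans h2)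
  · intro g hg
    by_contra hodd
    rw [Nat.not_odd_iff_even] at hodd
    obtain ⟨t, htI, ht2⟩ := exists_involution_of_even_card _ hodd
    obtain ⟨ht1, ht3⟩ := Subgroup.mem_inf.1 htI
    rw [mem_map_conj_iff] at ht3
    have hp1 : IsPGroup 2 (Subgroup.zpowers t) := isPGroup_zpowers_of_orderOf t 1 (by simpa using ht2)
    have ht' : orderOf (g⁻¹ * t * g) = 2 := by
      have := orderOf_conj_eq g⁻¹ t
      rw [inv_inv] at this
      rw [this, ht2]
    have hp2 : IsPGroup 2 (Subgroup.zpowers (g⁻¹ * t * g)) :=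
      isPGroup_zpowers_of_orderOf _ 1 (by simpa using ht')
    have htT : t ∈ (T : Subgroup G) := mem_sylow_of_mem_normalizer T t ht1 hp1
    have htT' : g⁻¹ * t * g ∈ (T : Subgroup G) := mem_sylow_of_mem_normalizer T _ ht3 hp2
    have hc1 := hcent t htT ht2
    have hc2 := hcent _ htT' ht'
    apply hg
    rw [Subgroup.mem_normalizer_iff]
    intro x
    rw [← SetLike.mem_coe, ← SetLike.mem_coe]
    show x ∈ (T : Subgroup G) ↔ g * x * g⁻¹ ∈ (T : Subgroup G)
    conv_lhs => rw [← hc2]
    conv_rhs => rw [← hc1]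
    rw [Subgroup.mem_centralizer_singleton_iff, Subgroup.mem_centralizer_singleton_iff]
    constructor
    · intro h
      have : g * x * g⁻¹ * t = g * (x * (g⁻¹ * t * g)) * g⁻¹ := by group
      rw [this, h]; group
    · intro h
      have : x * (g⁻¹ * t * g) = g⁻¹ * (g * x * g⁻¹ * t) * g := by group
      rw [this, h]; group

end Cfsg.Agent.S1226
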