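import Cfsg.Statements.S1227
import Cfsg.Agent.S1226
import Cfsg.Agent.S1224
import Cfsg.Agent.Lib.Helper9.StrongEmb

set_option autoImplicit false
open Cfsg

namespace Cfsg.Agent.S1227

open Cfsg.Agent.Lib.Helper9

/-- Let G be a finite group with a Sylow 2-subgroup T that is neither cyclic nor normal, such that the centralizer of every involution is an elementary abelian 2-group; put H = N_G(T), let u be an involution outside H and D = H ∩ uHu⁻¹. Then u inverts every element of D, |H| = |T|·(|T| − 1), and D is a complement to T in H. -/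
theorem result {G : Type*} [Group G] [Finite G] (T : Sylow 2 G) (hnc : ¬ IsCyclic (T : Subgroup G)) (hnn : ¬ (T : Subgroup G).Normal) (hC : ∀ t : G, orderOf t = 2 → IsMulCommutative (Subgroup.centralizer ({t} : Set G)) ∧ ∀ c ∈ Subgroup.centralizer ({t} : Set G), c ^ 2 = 1) (u : G) (hu : orderOf u = 2) (huH : u ∉ Subgroup.normalizer ((T : Subgroup G) : Set G)) : (∀ d ∈ Subgroup.normalizer ((T : Subgroup G) : Set G) ⊓ (Subgroup.normalizer ((T : Subgroup G) : Set G)).map (MulAut.conj u).toMonoidHom, u * d * u⁻¹ = d⁻¹) ∧ Nat.card (Subgroup.normalizer ((T : Subgroup G) : Set G)) = Nat.card T * (Nat.card T - 1) ∧ Subgroup.IsComplement' ((Subgroup.normalizer ((T : Subgroup G) : Set G) ⊓ (Subgroup.normalizer ((T : Subgroup G) : Set G)).map (MulAut.conj u).toMonoidHom).subgroupOf (Subgroup.normalizer ((T : Subgroup G) : Set G))) ((T : Subgroup G).subgroupOf (Subgroup.normalizer ((T : Subgroup G) : Set G))) := by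
  classical
  have : Fact (Nat.Prime 2) := ⟨Nat.prime_two⟩
  have hSE := Cfsg.Agent.S1226.result T hnc hnn hC
  have hne : (T : Subgroup G) ≠ ⊥ := by
    intro h
    apply hnn
    rw [h]
    infer_instance
  obtain ⟨⟨z, hzT, hz2⟩, hcent⟩ := Cfsg.Agent.S1226.sylow_structure T hne hC
  generalize hHdef : Subgroup.normalizer ((T : Subgroup G) : Set G) = H at *
  have hTH : (T : Subgroup G) ≤ H := by rw [← hHdef]; exact Subgroup.le_normalizer
  have hui : u⁻¹ = u := inv_eq_self_of_orderOf_two hu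
  have hz1 : z ≠ 1 := ne_one_of_orderOf_two hz2
  -- exponent two
  have hexp : ∀ x ∈ (T : Subgroup G), x ^ 2 = 1 := by
    intro x hx
    rw [← hcent z hzT hz2] at hx
    exact (hC z hz2).2 x hx
  -- involutions of H lie in T
  have hinvT : ∀ t ∈ H, orderOf t = 2 → t ∈ (T : Subgroup G) := by
    intro t ht ht2
    rw [← hHdef] at ht
    exact mem_sylow_of_mem_normalizer T t ht (isPGroup_zpowers_of_orderOf t 1 (by simpa using ht2))
  -- H normalizes T
  have hnorm : ∀ h ∈ H, ∀ t ∈ (T : Subgroup G), h * t * h⁻¹ ∈ (T : Subgroup G) := by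
    intro h hh t ht
    rw [← hHdef, Subgroup.mem_normalizer_iff] at hh
    exact (hh t).1 ht
  generalize hDdef : H ⊓ H.map (MulAut.conj u).toMonoidHom = D at *
  have hDH : D ≤ H := by rw [← hDdef]; exact inf_le_left
  -- D has odd order
  have hDodd : Odd (Nat.card D) := by
    rw [← hDdef]; exact hSE.2.2 u huH
  -- D ∩ T = 1
  have hDT : ∀ x ∈ D, x ∈ (T : Subgroup G) → x = 1 := by
    intro x hxD hxT
    have h1 : orderOf x ∣ Nat.card D := by
      have := orderOf_dvd_natCard (⟨x, hxD⟩ : D)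
      rwa [Subgroup.orderOf_mk] at this
    have h2 : orderOf x ∣ 2 := orderOf_dvd_of_pow_eq_one (hexp x hxT)
    have h3 : Nat.Coprime (Nat.card D) 2 := hDodd.coprime_two_right
    exact orderOf_eq_one_iff.1 (Nat.eq_one_of_dvd_coprimes h3 h1 h2)
  -- counting
  have hm1 : Nat.card {t : G // orderOf t = 2 ∧ t ∈ H} =
      Nat.card {t : G // t ∈ (T : Subgroup G) ∧ t ≠ 1} := by
    apply Nat.card_congr
    apply Equiv.subtypeEquivRight
    intro t
    constructor
    · rintro ⟨h1, h2⟩
      exact ⟨hinvT t h2 h1, ne_one_of_orderOf_two h1⟩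
    · rintro ⟨h1, h2⟩
      exact ⟨orderOf_eq_prime (hexp t h1) h2, hTH h1⟩
  have hxy : (QuotientGroup.mk 1 : G ⧸ H) ≠ QuotientGroup.mk u := by
    intro h
    rw [QuotientGroup.eq] at h
    apply huH
    simpa using h
  have hm2 := Cfsg.Agent.S1224.result H hSE _ _ hxy
  -- injection from the swapping involutions into D
  have hf : ∀ i : {i : G // orderOf i = 2 ∧ i • (QuotientGroup.mk 1 : G ⧸ H) = QuotientGroup.mk u},
      u * (i : G) ∈ D := by
    rintro ⟨i, hi2, hi⟩
    rw [smul_mk_eq_mk_iff, mul_one, hui] at hi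
    rw [← hDdef]
    refine Subgroup.mem_inf.2 ⟨hi, ?_⟩
    rw [mem_map_conj_iff]
    have : u⁻¹ * (u * i) * u = (u * i)⁻¹ := by
      rw [mul_inv_rev, hui, inv_eq_self_of_orderOf_two hi2, ← mul_assoc,
        mul_self_of_orderOf_two hu, one_mul]
    rw [this]
    exact H.inv_mem hi
  have hfinj : Function.Injective
      (fun i : {i : G // orderOf i = 2 ∧ i • (QuotientGroup.mk 1 : G ⧸ H) = QuotientGroup.mk u} =>
        (⟨u * (i : G), hf i⟩ : D)) := by
    intro i j hij
    have := congrArg Subtype.val hij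
    simp only [mul_right_inj] at this
    exact Subtype.ext this
  -- injection from D into T^#
  have hg : ∀ d : D, (d : G) * z * (d : G)⁻¹ ∈ (T : Subgroup G) ∧ (d : G) * z * (d : G)⁻¹ ≠ 1 := by
    intro d
    refine ⟨hnorm d (hDH d.2) z hzT, ?_⟩
    intro h
    apply hz1
    have : z = (d : G)⁻¹ * ((d : G) * z * (d : G)⁻¹) * (d : G) := by group
    rw [this, h]; group
  have hginj : Function.Injective
      (fun d : D => (⟨(d : G) * z * (d : G)⁻¹, hg d⟩ : {t : G // t ∈ (T : Subgroup G) ∧ t ≠ 1})) := by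
    intro d d' hdd
    have h1 : (d : G) * z * (d : G)⁻¹ = (d' : G) * z * (d' : G)⁻¹ := congrArg Subtype.val hdd
    have h2 : (d' : G)⁻¹ * (d : G) ∈ Subgroup.centralizer ({z} : Set G) := by
      rw [Subgroup.mem_centralizer_singleton_iff]
      calc (d' : G)⁻¹ * (d : G) * z = (d' : G)⁻¹ * ((d : G) * z * (d : G)⁻¹) * (d : G) := by group
        _ = (d' : G)⁻¹ * ((d' : G) * z * (d' : G)⁻¹) * (d : G) := by rw [h1]
        _ = z * ((d' : G)⁻¹ * (d : G)) := by group
    rw [hcent z hzT hz2] at h2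
    have h3 := hDT _ (D.mul_mem (D.inv_mem d'.2) d.2) h2
    apply Subtype.ext
    have : (d : G) = (d' : G) * ((d' : G)⁻¹ * (d : G)) := by group
    rw [this, h3, mul_one]
  have hle1 : Nat.card {t : G // t ∈ (T : Subgroup G) ∧ t ≠ 1} ≤ Nat.card D := by
    rw [← hm1, ← hm2]
    exact Nat.card_le_card_of_injective _ hfinj
  have hle2 : Nat.card D ≤ Nat.card {t : G // t ∈ (T : Subgroup G) ∧ t ≠ 1} :=
    Nat.card_le_card_of_injective _ hginj
  have hfbij := hfinj.bijective_of_nat_card_le (by rw [hm2, hm1]; exact hle2)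
  have hgbij := hginj.bijective_of_nat_card_le hle1
  -- (a)
  have ha : ∀ d ∈ D, u * d * u⁻¹ = d⁻¹ := by
    intro d hd
    obtain ⟨⟨i, hi2, hi⟩, hid⟩ := hfbij.2 ⟨d, hd⟩
    have hd' : u * i = d := congrArg Subtype.val hid
    rw [← hd', mul_inv_rev, hui, inv_eq_self_of_orderOf_two hi2]
    have : u * u = 1 := mul_self_of_orderOf_two hu
    calc u * (u * i) * u = (u * u) * i * u := by group
      _ = i * u := by rw [this, one_mul]
  -- (c)
  have hc : Subgroup.IsComplement' (D.subgroupOf H) ((T : Subgroup G).subgroupOf H) := by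
    apply Subgroup.isComplement'_of_disjoint_and_mul_eq_univ
    · rw [Subgroup.disjoint_def]
      intro x hxD hxT
      apply Subtype.ext
      exact hDT x (Subgroup.mem_subgroupOf.1 hxD) (Subgroup.mem_subgroupOf.1 hxT)
    · rw [Set.eq_univ_iff_forall]
      intro h
      have hhz : (h : G) * z * (h : G)⁻¹ ∈ (T : Subgroup G) ∧ (h : G) * z * (h : G)⁻¹ ≠ 1 := by
        refine ⟨hnorm h h.2 z hzT, ?_⟩
        intro h1
        apply hz1
        have : z = (h : G)⁻¹ * ((h : G) * z * (h : G)⁻¹) * (h : G) := by group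
        rw [this, h1]; group
      obtain ⟨d, hd⟩ := hgbij.2 ⟨_, hhz⟩
      have h1 : (d : G) * z * (d : G)⁻¹ = (h : G) * z * (h : G)⁻¹ := congrArg Subtype.val hd
      have h2 : (d : G)⁻¹ * (h : G) ∈ Subgroup.centralizer ({z} : Set G) := by
        rw [Subgroup.mem_centralizer_singleton_iff]
        calc (d : G)⁻¹ * (h : G) * z = (d : G)⁻¹ * ((h : G) * z * (h : G)⁻¹) * (h : G) := by group
          _ = (d : G)⁻¹ * ((d : G) * z * (d : G)⁻¹) * (h : G) := by rw [h1]
          _ = z * ((d : G)⁻¹ * (h : G)) := by group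
      rw [hcent z hzT hz2] at h2
      refine ⟨⟨(d : G), hDH d.2⟩, ?_, ⟨(d : G)⁻¹ * (h : G), hTH h2⟩, ?_, ?_⟩
      · exact Subgroup.mem_subgroupOf.2 d.2
      · exact Subgroup.mem_subgroupOf.2 h2
      · apply Subtype.ext
        simp
  refine ⟨ha, ?_, hc⟩
  -- (b)
  have h1 := hc.card_mul_card
  rw [Nat.card_congr (Subgroup.subgroupOfEquivOfLe hDH).toEquiv,
    Nat.card_congr (Subgroup.subgroupOfEquivOfLe hTH).toEquiv] at h1
  have hDcard : Nat.card D = Nat.card (T : Subgroup G) - 1 := by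
    have h2 : Nat.card D = Nat.card {t : G // t ∈ (T : Subgroup G) ∧ t ≠ 1} := le_antisymm hle2 hle1
    rw [h2]
    have e : {t : G // t ∈ (T : Subgroup G) ∧ t ≠ 1} ≃ {t : (T : Subgroup G) // t ≠ 1} :=
      { toFun := fun t => ⟨⟨t.1, t.2.1⟩, fun h => t.2.2 (congrArg Subtype.val h)⟩
        invFun := fun t => ⟨t.1.1, t.1.2, fun h => t.2 (Subtype.ext h)⟩
        left_inv := fun t => rfl
        right_inv := fun t => rfl }
    rw [Nat.card_congr e]
    haveI : Fintype (T : Subgroup G) := Fintype.ofFinite _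
    rw [Nat.card_eq_fintype_card, Nat.card_eq_fintype_card]
    exact Set.card_ne_eq (1 : (T : Subgroup G))
  rw [← h1, hDcard, mul_comm]

end Cfsg.Agent.S1227
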