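import Cfsg.Statements.S1229
import Cfsg.Agent.Lib.Helper9.CIT

set_option autoImplicit false
open Cfsg

namespace Cfsg.Agent.S1229

open Cfsg.Agent.Lib.Helper9

/-- Let G be a finite group with a Sylow 2-subgroup T that is neither cyclic nor normal, such that the centralizer of every involution is an elementary abelian 2-group; put H = N_G(T) and X = G/H. Then G is triply transitive on X, an element fixing three distinct points of X is the identity, and T acts regularly on X minus the point H. -/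
theorem result {G : Type*} [Group G] [Finite G] (T : Sylow 2 G) (hnc : ¬ IsCyclic (T : Subgroup G)) (hnn : ¬ (T : Subgroup G).Normal) (hC : ∀ t : G, orderOf t = 2 → IsMulCommutative (Subgroup.centralizer ({t} : Set G)) ∧ ∀ c ∈ Subgroup.centralizer ({t} : Set G), c ^ 2 = 1) : (∀ x₁ x₂ x₃ y₁ y₂ y₃ : G ⧸ Subgroup.normalizer ((T : Subgroup G) : Set G), x₁ ≠ x₂ → x₁ ≠ x₃ → x₂ ≠ x₃ → y₁ ≠ y₂ → y₁ ≠ y₃ → y₂ ≠ y₃ → ∃ g : G, g • x₁ = y₁ ∧ g • x₂ = y₂ ∧ g • x₃ = y₃) ∧ (∀ g : G, ∀ x₁ x₂ x₃ : G ⧸ Subgroup.normalizer ((T : Subgroup G) : Set G), x₁ ≠ x₂ → x₁ ≠ x₃ → x₂ ≠ x₃ → g • x₁ = x₁ → g • x₂ = x₂ → g • x₃ = x₃ → g = 1) ∧ (∀ x y : G ⧸ Subgroup.normalizer ((T : Subgroup G) : Set G), x ≠ QuotientGroup.mk 1 → y ≠ QuotientGroup.mk 1 → ∃! t : G, t ∈ T ∧ t • x = y) := by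
  have h : CITHyp T := ⟨hnc, hnn, hC⟩
  have hex : ∃ T₂ : Sylow 2 G, T₂ ≠ T := by
    by_contra hno
    apply hnn
    rw [← Subgroup.normalizer_eq_top_iff, Subgroup.eq_top_iff']
    intro g
    apply Sylow.smul_eq_iff_mem_normalizer.1
    by_contra hne
    exact hno ⟨g • T, hne⟩
  obtain ⟨T₂, hT₂⟩ := hex
  obtain ⟨u, hu, huT₂⟩ := cit_exists_swap h hT₂
  have huT : u • T ≠ T := by rw [huT₂]; exact hT₂
  obtain ⟨t₀, ht₀, ht₀1⟩ : ∃ t₀ ∈ (T : Subgroup G), t₀ ≠ 1 := by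
    by_contra hno
    apply h.ne_bot
    rw [Subgroup.eq_bot_iff_forall]
    intro x hx
    by_contra hx1
    exact hno ⟨x, hx, hx1⟩
  refine ⟨?_, ?_, ?_⟩
  · intro x₁ x₂ x₃ y₁ y₂ y₃ hx12 hx13 hx23 hy12 hy13 hy23
    obtain ⟨a, ha1, ha2, ha3⟩ := cit_canonical h hu huT ht₀ ht₀1 x₁ x₂ x₃ hx12 hx13 hx23
    obtain ⟨b, hb1, hb2, hb3⟩ := cit_canonical h hu huT ht₀ ht₀1 y₁ y₂ y₃ hy12 hy13 hy23
    refine ⟨b⁻¹ * a, ?_, ?_, ?_⟩
    · rw [mul_smul, ha1, ← hb1, inv_smul_smul]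
    · rw [mul_smul, ha2, ← hb2, inv_smul_smul]
    · rw [mul_smul, ha3, ← hb3, inv_smul_smul]
  · intro g x₁ x₂ x₃ h12 h13 h23 f1 f2 f3
    obtain ⟨g₁, rfl⟩ := QuotientGroup.mk_surjective x₁
    obtain ⟨g₂, rfl⟩ := QuotientGroup.mk_surjective x₂
    obtain ⟨g₃, rfl⟩ := QuotientGroup.mk_surjective x₃
    rw [smul_mk_eq_mk_iff, ← mem_normalizer_smul_iff] at f1 f2 f3
    rw [Ne, mk_eq_mk_iff_smul] at h12 h13 h23
    exact cit_three_point (h.smul g₁) (T₂ := g₂ • T) (T₃ := g₃ • T) (fun e => h12 e.symm)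
      (fun e => h13 e.symm) (fun e => h23 e.symm) f1 f2 f3
  · intro x y hx hy
    obtain ⟨s, hs, hsx⟩ := cit_transitive h hu huT hx
    obtain ⟨s', hs', hsy⟩ := cit_transitive h hu huT hy
    refine ⟨s' * s⁻¹, ⟨mul_mem hs' (inv_mem hs), ?_⟩, ?_⟩
    · rw [hsx, hsy, mul_smul, inv_smul_smul]
    · rintro t ⟨ht, htx⟩
      have h1 : ((s' * s⁻¹)⁻¹ * t) • x = x := by
        rw [mul_smul, htx, hsy, hsx, inv_smul_eq_iff, mul_smul, inv_smul_smul]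
      have h2 := cit_semiregular h (mul_mem (inv_mem (mul_mem hs' (inv_mem hs))) ht) hx h1
      have : t = (s' * s⁻¹) * ((s' * s⁻¹)⁻¹ * t) := by group
      rw [this, h2, mul_one]

end Cfsg.Agent.S1229
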