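import Cfsg.Statements.S1230
import Cfsg.Agent.Lib.Helper9.CITPSL

set_option autoImplicit false
open Cfsg

namespace Cfsg.Agent.S1230

open Cfsg.Agent.Lib.Helper9

/-- Let G be a finite group with a Sylow 2-subgroup T that is neither cyclic nor normal, such that the centralizer of every involution is an elementary abelian 2-group. Then G ≅ PSL(2,F) for a finite field F with |F| = |T|. -/
theorem result {G : Type*} [Group G] [Finite G] (T : Sylow 2 G) (hnc : ¬ IsCyclic (T : Subgroup G)) (hnn : ¬ (T : Subgroup G).Normal) (hC : ∀ t : G, orderOf t = 2 → IsMulCommutative (Subgroup.centralizer ({t} : Set G)) ∧ ∀ c ∈ Subgroup.centralizer ({t} : Set G), c ^ 2 = 1) : ∃ (F : Type) (_ : Field F) (_ : Fintype F), Fintype.card F = Nat.card T ∧ Nonempty (G ≃* Matrix.ProjectiveSpecialLinearGroup (Fin 2) F) := by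
  classical
  have h : CITHyp T := ⟨hnc, hnn, hC⟩
  have hex : ∃ T₂ : Sylow 2 G, T₂ ≠ T := by
    by_contra hno
    apply hnn
    rw [← Subgroup.normalizer_eq_top_iff, Subgroup.eq_top_iff']
    intro g
    apply Sylow.smul_eq_iff_mem_normalizer.1
    by_contra hne
    exact hno ⟨g • T, hne⟩
  obtain ⟨T₂, hT₂⟩ := hex
  obtain ⟨u, hu, huT₂⟩ := cit_exists_swap h hT₂
  have huT : u • T ≠ T := by rw [huT₂]; exact hT₂
  obtain ⟨F, instF, instFin, ⟨c⟩⟩ := exists_citFieldData h hu huT
  refine ⟨F, instF, instFin, ?_, ?_⟩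
  · rw [← Nat.card_eq_fintype_card]
    exact c.card_eq
  · obtain ⟨e₁⟩ := c.nonempty_mulEquiv h hu huT
    obtain ⟨e₂⟩ := nonempty_mulEquiv_PSL2 (F := F) (c.two_eq_zero h)
    exact ⟨e₁.trans e₂⟩

end Cfsg.Agent.S1230
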