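import Mathlib
import Cfsg.Statements.S0326

set_option autoImplicit false
open Cfsg

namespace Cfsg.Agent.S0326

/-- The Suzuki–Tits ovoid over a finite field with `q` elements has `q² + 1` points. -/
theorem result {F : Type*} [Field F] [Fintype F] (m : ℕ) :
    Nat.card (Cfsg.suzukiOvoid F m) = Fintype.card F ^ 2 + 1 := by
  classical
  let vec : Option (F × F) → (Fin 4 → F) := fun o => match o with
    | none => ![1, 0, 0, 0]
    | some p => ![p.1 * p.2 + p.1 ^ (2 ^ (m + 1) + 2) + p.2 ^ (2 ^ (m + 1)), p.2, p.1, 1]
  have hvec : ∀ o, vec o ≠ 0 := by
    intro o h
    cases o with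
    | none =>
      have := congrFun h 0
      simp [vec] at this
    | some p =>
      have := congrFun h 3
      simp [vec] at this
  have hmem : ∀ o, Projectivization.mk F (vec o) (hvec o) ∈ Cfsg.suzukiOvoid F m := by
    intro o
    refine ⟨vec o, hvec o, rfl, ?_⟩
    cases o with
    | none => left; rfl
    | some p => right; exact ⟨p.1, p.2, rfl⟩
  let φ : Option (F × F) → Cfsg.suzukiOvoid F m := fun o => ⟨_, hmem o⟩
  have hinj : Function.Injective φ := by
    intro o o' h
    have h' : Projectivization.mk F (vec o) (hvec o) = Projectivization.mk F (vec o') (hvec o') :=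
      congrArg Subtype.val h
    rw [Projectivization.mk_eq_mk_iff] at h'
    obtain ⟨a, ha⟩ := h'
    cases o with
    | none =>
      cases o' with
      | none => rfl
      | some p' =>
        exfalso
        have := congrFun ha 3
        simp [vec, Units.smul_def] at this
    | some p =>
      cases o' with
      | none =>
        exfalso
        have := congrFun ha 3
        simp [vec, Units.smul_def] at this
      | some p' =>
        have h3 := congrFun ha 3
        simp [vec, Units.smul_def] at h3
        have h1 := congrFun ha 1
        have h2 := congrFun ha 2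
        simp [vec, Units.smul_def, h3] at h1 h2
        congr 1
        exact Prod.ext h2.symm h1.symm
  have hsurj : Function.Surjective φ := by
    rintro ⟨p, v, hv, rfl, h | ⟨x, y, h⟩⟩
    · refine ⟨none, ?_⟩
      apply Subtype.ext
      change Projectivization.mk F (vec none) _ = _
      congr 1
      exact h.symm
    · refine ⟨some (x, y), ?_⟩
      apply Subtype.ext
      change Projectivization.mk F (vec (some (x, y))) _ = _
      congr 1
      exact h.symm
  rw [← Nat.card_congr (Equiv.ofBijective φ ⟨hinj, hsurj⟩), Nat.card_eq_fintype_card,
    Fintype.card_option, Fintype.card_prod, sq]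

end Cfsg.Agent.S0326
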