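import Cfsg.Statements.S4425
import Cfsg.Agent.Lib.Helper24.PRegGen2

set_option autoImplicit false
open Cfsg

namespace Cfsg.Agent.S4425

open Cfsg.Agent.Lib.Helper24

theorem result {G : Type*} [Group G] [Finite G] (p : ℕ) [Fact p.Prime] (χ : Cfsg.IrrCharacter G) : Cfsg.IsGeneralizedCharacter G (fun x : G => if p ∣ orderOf x then (0 : ℂ) else ((p ^ ((Nat.card G).factorization p - (Cfsg.charDegree (χ : G → ℂ)).factorization p) : ℕ) : ℂ) * (χ : G → ℂ) x) ∧ ¬ Cfsg.IsGeneralizedCharacter G (fun x : G => if p ∣ orderOf x then (0 : ℂ) else ((p ^ (Nat.card G).factorization p : ℕ) : ℂ) / ((p ^ ((Cfsg.charDegree (χ : G → ℂ)).factorization p + 1) : ℕ) : ℂ) * (χ : G → ℂ) x) := by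
  classical
  have hp : p.Prime := Fact.out
  obtain ⟨n, ρ, hρ, hχρ⟩ := χ.2
  haveI := hρ
  have hfr : Module.finrank ℂ (Fin n → ℂ) = n := by simp
  have hn0 : n ≠ 0 := by
    have := Cfsg.Agent.Lib.Helper25.finrank_ne_zero_of_irr ρ
    rwa [hfr] at this
  have hχ1 : (χ : G → ℂ) 1 = (n : ℂ) := by
    rw [← hχρ, Representation.char_one, hfr]
  have hdeg : Cfsg.charDegree (χ : G → ℂ) = n := by
    unfold Cfsg.charDegree
    rw [hχ1]
    simp
  obtain ⟨k, hk⟩ := Cfsg.Agent.Lib.helper2.degree_dvd_card ρ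
  rw [hfr] at hk
  have hk0 : k ≠ 0 := by
    intro h0
    rw [h0, mul_zero] at hk
    exact Nat.card_pos.ne' hk
  obtain ⟨e, k', hpk, hkk⟩ := Nat.exists_eq_pow_mul_and_not_dvd hk0 p hp.ne_one
  have hk'0 : k' ≠ 0 := by
    intro h0
    apply hpk
    rw [h0]
    exact dvd_zero p
  have hfac : (Nat.card G).factorization p = n.factorization p + e := by
    rw [hk, Nat.factorization_mul hn0 hk0, hkk,
      Nat.factorization_mul (pow_ne_zero e hp.ne_zero) hk'0]
    simp only [Finsupp.coe_add, Pi.add_apply]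
    rw [Nat.Prime.factorization_pow hp, Nat.factorization_eq_zero_of_not_dvd hpk]
    simp
  rw [hdeg]
  constructor
  · have h1 := prg_genChar ρ p hp e k' (by rw [hfr, hk, hkk]) hpk
    have h2 : (Nat.card G).factorization p - n.factorization p = e := by
      rw [hfac]
      omega
    rw [h2, ← hχρ]
    have h3 : (fun x : G => if p ∣ orderOf x then (0 : ℂ) else ((p ^ e : ℕ) : ℂ) * ρ.character x) =
        (fun x : G => if p ∣ orderOf x then 0 else (p : ℂ) ^ e * ρ.character x) := by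
      funext x
      rw [Nat.cast_pow]
    rw [h3]
    exact h1
  · intro hgen
    have hvan : ∀ x : G, p ∣ orderOf x → (fun x : G => if p ∣ orderOf x then (0 : ℂ) else
        ((p ^ (Nat.card G).factorization p : ℕ) : ℂ) / ((p ^ (n.factorization p + 1) : ℕ) : ℂ) *
          (χ : G → ℂ) x) x = 0 := by
      intro x hx
      simp only [hx, if_true]
    obtain ⟨z, hz⟩ := prg_sylow_dvd p _ hgen hvan
    have h1 : ¬ p ∣ orderOf (1 : G) := by
      rw [orderOf_one]
      exact hp.one_lt.ne' ∘ Nat.dvd_one.mp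
    simp only [h1, if_false] at hz
    rw [hχ1] at hz
    have hne : ((p ^ (Nat.card G).factorization p : ℕ) : ℂ) ≠ 0 := by
      exact_mod_cast (pow_pos hp.pos _).ne'
    have hne2 : ((p ^ (n.factorization p + 1) : ℕ) : ℂ) ≠ 0 := by
      exact_mod_cast (pow_pos hp.pos _).ne'
    have h2 : (n : ℂ) = (z : ℂ) * ((p ^ (n.factorization p + 1) : ℕ) : ℂ) := by
      field_simp at hz
      have h3 : ((p ^ (Nat.card G).factorization p : ℕ) : ℂ) * (n : ℂ) =
          ((p ^ (Nat.card G).factorization p : ℕ) : ℂ) *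
            ((z : ℂ) * ((p ^ (n.factorization p + 1) : ℕ) : ℂ)) := by
        rw [hz]
        ring
      exact mul_left_cancel₀ hne h3
    have h3 : (n : ℤ) = z * ((p ^ (n.factorization p + 1) : ℕ) : ℤ) := by
      exact_mod_cast h2
    have h4 : ((p ^ (n.factorization p + 1) : ℕ) : ℤ) ∣ (n : ℤ) := ⟨z, by rw [h3]; ring⟩
    have h5 : p ^ (n.factorization p + 1) ∣ n := Int.natCast_dvd_natCast.mp h4
    exact Nat.pow_succ_factorization_not_dvd hn0 hp h5

end Cfsg.Agent.S4425
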