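import Cfsg.Statements.S0938
import Mathlib
import Cfsg.Agent.Lib.helper7.BlockSing2
import Cfsg.Agent.Lib.helper7.BlockCover3
import Cfsg.Agent.Lib.Helper25.Gagola
import Cfsg.Agent.S0939

set_option autoImplicit false
open Cfsg

namespace Cfsg.Agent.S0938


open Cfsg.Agent.Lib.helper7 Cfsg.Agent.Lib.Helper25 Cfsg.Agent.Lib.Helper11

open scoped ComplexConjugate


/-- Let B be a block of the finite group G relative to a maximal ideal M of the algebraic integers containing the prime p, and let χ ∈ B. Then the kernel of B (the set of g with ψ g = ψ 1 for all ψ ∈ B) is a normal subgroup of order prime to p contained in the kernel of χ, and it contains every normal subgroup of order prime to p on which χ takes the value χ(1); that is, it is O_p' of the kernel of χ. -/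
theorem result {G : Type*} [Group G] [Finite G] (p : ℕ) [Fact p.Prime] (M : Ideal Cfsg.AlgInt) (hM : Cfsg.IsPModular p M) (B : Set (Cfsg.IrrCharacter G)) (hB : Cfsg.IsPBlock M B) (χ : Cfsg.IrrCharacter G) (hχ : χ ∈ B) : ∃ K : Subgroup G, K.Normal ∧ (K : Set G) = Cfsg.blockKer B ∧ ¬ p ∣ Nat.card K ∧ (∀ g ∈ K, (χ : G → ℂ) g = (χ : G → ℂ) 1) ∧ ∀ N : Subgroup G, N.Normal → ¬ p ∣ Nat.card N → (∀ g ∈ N, (χ : G → ℂ) g = (χ : G → ℂ) 1) → N ≤ K := by
  classical
  haveI : Fintype G := Fintype.ofFinite G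
  haveI : Fintype (Cfsg.IrrCharacter G) := Fintype.ofFinite _
  have hp := (Fact.out : p.Prime)
  have hP := hM.2.1.isPrime
  obtain ⟨χ₀, rfl⟩ := hB
  have hKmem : ∀ g : G, g ∈ (⨅ ψ : {ψ : Cfsg.IrrCharacter G // ψ ∈ Cfsg.blockOf M (χ₀ : G → ℂ)},
      irrKer ψ.1) ↔ ∀ ψ ∈ Cfsg.blockOf M (χ₀ : G → ℂ), (ψ : G → ℂ) g = (ψ : G → ℂ) 1 := by
    intro g
    rw [Subgroup.mem_iInf]
    constructor
    · intro h ψ hψ
      exact (mem_irrKer ψ g).1 (h ⟨ψ, hψ⟩)
    · intro h ψ
      exact (mem_irrKer ψ.1 g).2 (h ψ.1 ψ.2)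
  refine ⟨⨅ ψ : {ψ : Cfsg.IrrCharacter G // ψ ∈ Cfsg.blockOf M (χ₀ : G → ℂ)}, irrKer ψ.1,
    Subgroup.normal_iInf_normal (fun ψ => irrKer_normal ψ.1), ?_, ?_, ?_, ?_⟩
  · ext g
    rw [SetLike.mem_coe, hKmem]
    rfl
  · intro hdvd
    obtain ⟨y, hy⟩ := exists_prime_orderOf_dvd_card' p hdvd
    have hy' : orderOf (y : G) = p := by rw [Subgroup.orderOf_coe]; exact hy
    have h1 : ¬ p ∣ orderOf (1 : G) := by
      rw [orderOf_one]
      exact hp.one_lt.ne' ∘ Nat.dvd_one.mp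
    have h2 := h7_weak_block_orth hM χ₀ 1 (y : G) h1 (by rw [hy'])
    rw [finsum_mem_def, finsum_eq_sum_of_fintype] at h2
    have h3 := congrArg Complex.re h2
    rw [Complex.re_sum, Complex.zero_re] at h3
    have hnn : ∀ ψ ∈ (Finset.univ : Finset (Cfsg.IrrCharacter G)),
        0 ≤ ((Cfsg.blockOf M (χ₀ : G → ℂ)).indicator
          (fun χ : Cfsg.IrrCharacter G => (χ : G → ℂ) 1 * conj ((χ : G → ℂ) (y : G))) ψ).re := by
      intro ψ _
      rw [Set.indicator_apply]
      split_ifs with hψ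
      · rw [(hKmem _).1 y.2 ψ hψ, Complex.mul_conj]
        simp only [Complex.ofReal_re]
        exact Complex.normSq_nonneg _
      · simp
    have h4 := (Finset.sum_eq_zero_iff_of_nonneg hnn).1 h3 χ (Finset.mem_univ _)
    rw [Set.indicator_apply, if_pos hχ, (hKmem _).1 y.2 χ hχ, Complex.mul_conj] at h4
    simp only [Complex.ofReal_re] at h4
    exact irr_one_ne_zero χ (Complex.normSq_eq_zero.1 h4)
  · intro g hg
    exact (hKmem g).1 hg χ hχ
  · intro N hN hpN hNχ g hg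
    rw [hKmem]
    intro ψ hψ
    haveI : N.Normal := hN
    haveI : Fintype N := Fintype.ofFinite _
    haveI : Fintype (Cfsg.IrrCharacter N) := Fintype.ofFinite _
    have hcop : (Nat.card N).Coprime p :=
      (Nat.Coprime.symm ((Nat.Prime.coprime_iff_not_dvd hp).mpr hpN))
    have hT : h7_GStable N ({trivIrr N} : Set (Cfsg.IrrCharacter N)) := by
      intro k θ hθ
      rw [Set.mem_singleton_iff] at hθ ⊢
      subst hθ
      apply Subtype.ext
      funext n
      rw [h7_irrSmul_apply, trivIrr_apply, trivIrr_apply]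
    have hS : ∀ n : N, Cfsg.MemLocalRing M
        (Cfsg.blockCoeff ({trivIrr N} : Set (Cfsg.IrrCharacter N)) n) :=
      fun n => h7_memLocalRing_blockCoeff_of_coprime hM hcop _ n
    have hsame : Cfsg.SameBlock M (χ : G → ℂ) (ψ : G → ℂ) :=
      h7_sameBlock_trans hP (h7_sameBlock_symm hχ) hψ
    have hχo : χ ∈ h7_over N ({trivIrr N} : Set (Cfsg.IrrCharacter N)) :=
      ⟨trivIrr N, rfl, (Cfsg.Agent.S0939.triv_constituent_iff N χ).2 hNχ⟩
    obtain ⟨θ, hθ, hne⟩ := h7_over_congr N hP _ hT hS χ ψ hsame hχo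
    rw [Set.mem_singleton_iff] at hθ
    subst hθ
    exact (Cfsg.Agent.S0939.triv_constituent_iff N ψ).1 hne g hg

end Cfsg.Agent.S0938
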