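import Cfsg.Statements.S0942
import Cfsg.Agent.Lib.helper7.SecondMain3
import Cfsg.Agent.Lib.Helper1.Fitting
import Cfsg.Agent.S0919
import Cfsg.Agent.S0923
import Cfsg.Agent.S0936
import Cfsg.Agent.S0938

set_option autoImplicit false
open Cfsg

namespace Cfsg.Agent.S0942

/-- Let u be a p-element of the finite group G, let v lie in the largest normal subgroup of C_G(u) of order prime to p, and let χ belong to the principal block (relative to a maximal ideal M of the algebraic integers containing p). Then χ (u * v) = χ u. -/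
theorem result {G : Type*} [Group G] [Finite G] (p : ℕ) [Fact p.Prime] (M : Ideal Cfsg.AlgInt) (hM : Cfsg.IsPModular p M) (u : G) (hu : ∃ k : ℕ, orderOf u = p ^ k) (v : G) (hv : v ∈ Cfsg.centralizerPPrimeCore p u) (χ : Cfsg.IrrCharacter G) (hχ : χ ∈ Cfsg.principalBlock M G) : (χ : G → ℂ) (u * v) = (χ : G → ℂ) u := by
  classical
  haveI : Fintype G := Fintype.ofFinite G
  haveI : Fintype (Cfsg.IrrCharacter G) := Fintype.ofFinite _
  letI : Fintype (Subgroup.centralizer ({u} : Set G)) := Fintype.ofFinite _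
  haveI : Fintype (Cfsg.IrrCharacter (Subgroup.centralizer ({u} : Set G))) := Fintype.ofFinite _
  have hPr := hM.2.1.isPrime
  have hpp := (Fact.out : p.Prime)
  obtain ⟨v', hv', rfl⟩ := Subgroup.mem_map.mp hv
  simp only [Subgroup.coe_subtype]
  haveI hNn : (Cfsg.pPrimeCore p (Subgroup.centralizer ({u} : Set G))).Normal :=
    Cfsg.Agent.Lib.Helper1.pPrimeCore_normal p
  have hcop : (Nat.card (Cfsg.pPrimeCore p (Subgroup.centralizer ({u} : Set G)))).Coprime p :=
    Cfsg.Agent.Lib.Helper1.pPrimeCore_card_coprime p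
  have hNp : ¬ p ∣ Nat.card (Cfsg.pPrimeCore p (Subgroup.centralizer ({u} : Set G))) :=
    (Nat.Prime.coprime_iff_not_dvd hpp).mp hcop.symm
  have hv'reg : ¬ p ∣ orderOf v' := by
    intro hdiv
    apply hNp
    have h1 : orderOf (⟨v', hv'⟩ : Cfsg.pPrimeCore p (Subgroup.centralizer ({u} : Set G))) ∣
        Nat.card (Cfsg.pPrimeCore p (Subgroup.centralizer ({u} : Set G))) := orderOf_dvd_natCard _
    rw [Subgroup.orderOf_mk] at h1
    exact hdiv.trans h1
  have h1reg : ¬ p ∣ orderOf (1 : Subgroup.centralizer ({u} : Set G)) := by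
    rw [orderOf_one]
    exact hpp.one_lt.ne' ∘ Nat.dvd_one.mp
  obtain ⟨ϑ, hϑdef⟩ : ∃ ϑ : Subgroup.centralizer ({u} : Set G) → ℂ,
      ϑ = fun c : Subgroup.centralizer ({u} : Set G) => (χ : G → ℂ) (u * (c : G)) := ⟨_, rfl⟩
  have hϑ : ∀ g h : Subgroup.centralizer ({u} : Set G), ϑ (h * g * h⁻¹) = ϑ g := by
    intro g h
    rw [hϑdef]
    exact Cfsg.Agent.Lib.helper7.h7_shift_class u _
      (fun a c => Cfsg.Agent.Lib.Helper25.irr_conj_invariant χ a c) g h
  have hexp := Cfsg.Agent.Lib.Helper25.classFunction_expansion ϑ hϑ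
  have hval : ∀ c : Subgroup.centralizer ({u} : Set G), (χ : G → ℂ) (u * (c : G)) =
      ∑ ψ : Cfsg.IrrCharacter (Subgroup.centralizer ({u} : Set G)),
        Cfsg.classInner ϑ (ψ : Subgroup.centralizer ({u} : Set G) → ℂ) *
          (ψ : Subgroup.centralizer ({u} : Set G) → ℂ) c := by
    intro c
    have h0 : (χ : G → ℂ) (u * (c : G)) = ϑ c := by rw [hϑdef]
    rw [h0]
    conv_lhs => rw [hexp]
    rw [Finset.sum_apply]
    refine Finset.sum_congr rfl fun ψ _ => ?_
    simp only [Pi.smul_apply, smul_eq_mul]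
  have h1 := hval v'
  have h2 := hval 1
  simp only [Subgroup.coe_one, mul_one] at h2
  rw [← sub_eq_zero, h1, h2, ← Finset.sum_sub_distrib]
  apply Cfsg.Agent.Lib.helper7.h7_sum_eq_zero_of_blocks hPr
  intro b hb
  by_cases hbp : b = Cfsg.principalBlock M (Subgroup.centralizer ({u} : Set G))
  · apply finsum_mem_eq_zero_of_forall_eq_zero
    intro ψ hψ
    obtain ⟨K, hKn, hKeq, -, -, hKmax⟩ := Cfsg.Agent.S0938.result p M hM b hb
      (Cfsg.Agent.Lib.Helper25.trivIrr (Subgroup.centralizer ({u} : Set G))) (by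
        rw [hbp]
        exact Cfsg.Agent.Lib.helper7.h7_sameBlock_refl hPr _)
    have hle := hKmax (Cfsg.pPrimeCore p (Subgroup.centralizer ({u} : Set G))) hNn hNp
      (fun g _ => rfl)
    have hmem : v' ∈ Cfsg.blockKer b := by
      rw [← hKeq]
      exact hle hv'
    rw [hmem ψ hψ, sub_self]
  · obtain ⟨hP, hPC, hCC, hCN⟩ := Cfsg.Agent.Lib.helper7.h7_centralizer_brauer_hyps p u hu
    have hdef := Cfsg.Agent.S0919.result p M hM (Subgroup.zpowers u)
      (Subgroup.centralizer ({u} : Set G)) hP hPC hCC hCN b hb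
    have hnot : ¬ Cfsg.IsInducedBlock M (Subgroup.centralizer ({u} : Set G)) b
        (Cfsg.principalBlock M G) := fun hc =>
      hbp ((Cfsg.Agent.S0936.result p M hM (Subgroup.centralizer ({u} : Set G)) b hdef).mp hc)
    have hBG : Cfsg.IsPBlock M (Cfsg.principalBlock M G) :=
      ⟨Cfsg.Agent.Lib.Helper25.trivIrr G, rfl⟩
    have e1 := Cfsg.Agent.S0923.result p M hM u hu (Cfsg.principalBlock M G) hBG χ hχ b hb hnot
      v' hv'reg
    have e2 := Cfsg.Agent.S0923.result p M hM u hu (Cfsg.principalBlock M G) hBG χ hχ b hb hnot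
      1 h1reg
    unfold Cfsg.blockPart at e1 e2
    rw [← hϑdef] at e1 e2
    have e3 : ∑ᶠ ψ ∈ b, (Cfsg.classInner ϑ (ψ : Subgroup.centralizer ({u} : Set G) → ℂ) *
          (ψ : Subgroup.centralizer ({u} : Set G) → ℂ) v' -
        Cfsg.classInner ϑ (ψ : Subgroup.centralizer ({u} : Set G) → ℂ) *
          (ψ : Subgroup.centralizer ({u} : Set G) → ℂ) 1) =
        ∑ᶠ ψ ∈ b, Cfsg.classInner ϑ (ψ : Subgroup.centralizer ({u} : Set G) → ℂ) *
          (ψ : Subgroup.centralizer ({u} : Set G) → ℂ) v' -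
        ∑ᶠ ψ ∈ b, Cfsg.classInner ϑ (ψ : Subgroup.centralizer ({u} : Set G) → ℂ) *
          (ψ : Subgroup.centralizer ({u} : Set G) → ℂ) 1 :=
      finsum_mem_sub_distrib _ _ (Set.toFinite b)
    rw [e3, e1, e2, sub_zero]

end Cfsg.Agent.S0942
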