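import Cfsg.Statements.S4479
import Cfsg.Agent.Lib.Helper24.KleinOrder5
import Cfsg.Agent.Lib.Helper24.KleinOrder6

set_option autoImplicit false
open Cfsg

namespace Cfsg.Agent.S4479

theorem result {G : Type*} [Group G] [Finite G] (M : Ideal Cfsg.AlgInt) (hM : Cfsg.IsPModular 2 M) (g₀ : ℕ) (hg₀ : Odd g₀) (hG : Nat.card G = 4 * g₀) (hnc : ¬ ∃ N : Subgroup G, N.Normal ∧ Nat.card N = g₀) (P : Sylow 2 G) (J : G) (hJ : J ∈ (P : Subgroup G)) (hJ2 : orderOf J = 2) (χ₁ χ₂ χ₃ : Cfsg.IrrCharacter G) (ε₁ ε₂ ε₃ : ℤ) (hB : Cfsg.principalBlock M G = {χ : Cfsg.IrrCharacter G | (χ : G → ℂ) = (fun _ => 1) ∨ χ = χ₁ ∨ χ = χ₂ ∨ χ = χ₃}) (hdist : (χ₁ : G → ℂ) ≠ (fun _ => 1) ∧ (χ₂ : G → ℂ) ≠ (fun _ => 1) ∧ (χ₃ : G → ℂ) ≠ (fun _ => 1) ∧ χ₁ ≠ χ₂ ∧ χ₁ ≠ χ₃ ∧ χ₂ ≠ χ₃) (hε : (ε₁ = 1 ∨ ε₁ = -1) ∧ (ε₂ = 1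 ∨ ε₂ = -1) ∧ (ε₃ = 1 ∨ ε₃ = -1)) (hval : (χ₁ : G → ℂ) J = ε₁ ∧ (χ₂ : G → ℂ) J = ε₂ ∧ (χ₃ : G → ℂ) J = ε₃) : (Nat.card G : ℚ) = 8 * (((Cfsg.charDegree (χ₁ : G → ℂ) : ℚ) * Cfsg.charDegree (χ₂ : G → ℂ) * Cfsg.charDegree (χ₃ : G → ℂ)) / ((Cfsg.charDegree (χ₁ : G → ℂ) + ε₁) * (Cfsg.charDegree (χ₂ : G → ℂ) + ε₂) * (Cfsg.charDegree (χ₃ : G → ℂ) + ε₃))) * (Nat.card (Subgroup.centralizer ({J} : Set G)) : ℚ) ^ 3 / (Nat.card (Subgroup.centralizer ((P : Subgroup G) : Set G)) : ℚ) ^ 2 := by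
  classical
  haveI : Fintype G := Fintype.ofFinite G
  obtain ⟨hcard, hK, hall⟩ := Cfsg.Agent.Lib.Helper24.kf_setup g₀ hg₀ hG hnc P
  have hPsq : ∀ x ∈ (P : Subgroup G), x * x = 1 := fun x hx =>
    Cfsg.Agent.Lib.Helper24.ks_sq _ hK hx
  obtain ⟨O, hO, hOcore⟩ := Cfsg.Agent.Lib.Helper24.kf_exists_O J hJ2 P hJ hcard hPsq
  have hconj : ∀ t : G, t * t = 1 → t ≠ 1 → ∃ a : G, a * J * a⁻¹ = t := by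
    intro t htt ht1
    have hot : orderOf t = 2 := orderOf_eq_prime (by rw [pow_two]; exact htt) ht1
    have := hall J t hJ2 hot
    rw [isConj_iff] at this
    exact this
  obtain ⟨a, b, ha, hb, ha1, hb1, hab⟩ := Cfsg.Agent.Lib.Helper24.ks_exists (P : Subgroup G) hK
  by_cases haJ : a = J
  · exact Cfsg.Agent.Lib.Helper24.kf_order_formula M hM hO hOcore hconj b hb hb1
      (fun h => hab (haJ.trans h.symm)) χ₁ χ₂ χ₃ ε₁ ε₂ ε₃ hB hdist hε hval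
  · exact Cfsg.Agent.Lib.Helper24.kf_order_formula M hM hO hOcore hconj a ha ha1 haJ
      χ₁ χ₂ χ₃ ε₁ ε₂ ε₃ hB hdist hε hval

end Cfsg.Agent.S4479
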