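import Cfsg.Statements.S0947
import Cfsg.Agent.Lib.helper7.SecondMain5
import Cfsg.Agent.S0919
import Cfsg.Agent.S0923
import Cfsg.Agent.S0936
import Cfsg.Agent.S0939

set_option autoImplicit false
open Cfsg

namespace Cfsg.Agent.S0947

theorem part_one {G : Type*} [Group G] [Finite G] (p : ℕ) [Fact p.Prime] (M : Ideal Cfsg.AlgInt)
    (hM : Cfsg.IsPModular p M) (z : G) (hz : ∃ k : ℕ, orderOf z = p ^ k)
    (y : Subgroup.centralizer ({z} : Set G)) (hy : ¬ p ∣ orderOf y) :
    ∑ᶠ ζ ∈ Cfsg.principalBlock M G, ‖(ζ : G → ℂ) (z * (y : G))‖ ^ 2 =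
      ∑ᶠ χ ∈ Cfsg.principalBlock M (Subgroup.centralizer ({z} : Set G)),
        ‖(χ : Subgroup.centralizer ({z} : Set G) → ℂ) y‖ ^ 2 := by
  haveI : Fintype G := Fintype.ofFinite G
  haveI : Fintype (Cfsg.IrrCharacter G) := Fintype.ofFinite _
  have hPr := hM.2.1.isPrime
  apply Complex.ofReal_injective
  rw [Cfsg.Agent.Lib.helper7.h7_finsum_normsq, Cfsg.Agent.Lib.helper7.h7_finsum_normsq]
  obtain ⟨hP, hPC, hCC, hCN⟩ := Cfsg.Agent.Lib.helper7.h7_centralizer_brauer_hyps p z hz
  exact Cfsg.Agent.Lib.helper7.h7_principal_section_sum hM z hz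
    (fun χ b hb hnot y hy => Cfsg.Agent.S0923.result p M hM z hz
      (Cfsg.blockOf M (χ : G → ℂ)) ⟨χ, rfl⟩ χ
      (Cfsg.Agent.Lib.helper7.h7_sameBlock_refl hPr _) b hb hnot y hy)
    (fun b hb => Cfsg.Agent.S0936.result p M hM (Subgroup.centralizer ({z} : Set G)) b
      (Cfsg.Agent.S0919.result p M hM (Subgroup.zpowers z)
        (Subgroup.centralizer ({z} : Set G)) hP hPC hCC hCN b hb)) y hy


/-- Let z ≠ 1 be a p-element of the finite group G with centralizer H, and fix a maximal ideal M of the algebraic integers containing p. (i) For every y ∈ H of order prime to p, the sum over ζ in the principal block of G of |ζ (z * y)|² equals the sum over χ in the principal block of H of |χ y|². (ii) If moreover H has a normal p-complement (its largest normal subgroup of order prime to p has p-power index), that common value is the largest power of p dividing the order of H. -/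
theorem result {G : Type*} [Group G] [Finite G] (p : ℕ) [Fact p.Prime] (M : Ideal Cfsg.AlgInt) (hM : Cfsg.IsPModular p M) (z : G) (hz : ∃ k : ℕ, orderOf z = p ^ k) (hz1 : z ≠ 1) (y : Subgroup.centralizer ({z} : Set G)) (hy : ¬ p ∣ orderOf y) : (∑ᶠ ζ ∈ Cfsg.principalBlock M G, ‖(ζ : G → ℂ) (z * (y : G))‖ ^ 2 = ∑ᶠ χ ∈ Cfsg.principalBlock M (Subgroup.centralizer ({z} : Set G)), ‖(χ : Subgroup.centralizer ({z} : Set G) → ℂ) y‖ ^ 2) ∧ ((∃ k : ℕ, (Cfsg.pPrimeCore p (Subgroup.centralizer ({z} : Set G))).index = p ^ k) → ∑ᶠ ζ ∈ Cfsg.principalBlock M G, ‖(ζ : G → ℂ) (z * (y : G))‖ ^ 2 = ((p ^ (Nat.card (Subgroup.centralizer ({z} : Set G))).factorization p : ℕ) : ℝ)) := by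
  refine ⟨part_one p M hM z hz y hy, ?_⟩
  intro hnc
  rw [part_one p M hM z hz y hy]
  apply Complex.ofReal_injective
  rw [Cfsg.Agent.Lib.helper7.h7_finsum_normsq]
  have h1 := Cfsg.Agent.Lib.helper7.h7_principal_sum_sq p M
    (Cfsg.Agent.S0939.result p M hM hnc) hnc y hy
  rw [h1]
  push_cast
  rfl

end Cfsg.Agent.S0947
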