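import Cfsg.Statements.S0148
import Mathlib
import Cfsg.Prelude.Def_Characters
import Cfsg.Agent.Lib.helper7.Induction
import Cfsg.Agent.Lib.helper2.CharNat

set_option autoImplicit false
open Cfsg

namespace Cfsg.Agent.S0148


open Cfsg.Agent.Lib.helper2 Cfsg.Agent.Lib.helper7



/-- Inducing a character of a subgroup yields a character of the whole group. -/
theorem result {G : Type*} [Group G] [Fintype G] (H : Subgroup G) (θ : H → ℂ) (hθ : Cfsg.IsCharacter H θ) : Cfsg.IsCharacter G (Cfsg.indFun H θ) := by
  classical
  have : Fintype H := Fintype.ofFinite H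
  apply isCharacter_of_classInner_nat (h7_indFun_isClassFunction H θ)
  intro χ
  rw [h7_frobenius_reciprocity H θ (χ : G → ℂ) (isCharacter_isClassFunction (isCharacter_of_irr χ))]
  exact classInner_character_nat hθ (isCharacter_restrict (isCharacter_of_irr χ) H)

end Cfsg.Agent.S0148
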