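import Cfsg.Statements.S0857
import Cfsg.Statements.S0857
import Cfsg.Agent.Lib.helper2.GoingDown

set_option autoImplicit false
open Cfsg

namespace Cfsg.Agent.S0857

open Cfsg
open scoped ComplexConjugate

open Cfsg.Agent.Lib.helper2 Cfsg.Agent.Lib.helper7 Cfsg.Agent.Lib.Helper11 Cfsg.Agent.Lib.Helper25



/-- Let L < K be normal subgroups of the finite group G with no normal subgroup of G strictly between them and with K / L abelian (the commutator subgroup of K lies in L). Let ϑ be an irreducible character of K invariant under conjugation by G. Then the restriction of ϑ to L is irreducible; or it equals e times an irreducible character of L with e ^ 2 equal to the index of L in K; or it is the sum of a family of pairwise distinct irreducible characters of L indexed by a set whose size is the index of L in K. -/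
theorem result {G : Type*} [Group G] [Fintype G] (K L : Subgroup G) [hK : K.Normal] [L.Normal] (hLK : L < K) (hchief : ∀ M : Subgroup G, M.Normal → L ≤ M → M ≤ K → M = L ∨ M = K) (hab : ⁅K, K⁆ ≤ L) (ϑ : K → ℂ) (hϑ : Cfsg.IsIrrCharacter K ϑ) (hinv : ∀ (g : G) (n : K), ϑ ⟨g * n * g⁻¹, hK.conj_mem (n : G) n.2 g⟩ = ϑ n) : Cfsg.IsIrrCharacter L (fun x : L => ϑ ⟨(x : G), hLK.le x.2⟩) ∨ (∃ (φ : L → ℂ) (e : ℕ), Cfsg.IsIrrCharacter L φ ∧ (fun x : L => ϑ ⟨(x : G), hLK.le x.2⟩) = (e : ℂ) • φ ∧ e ^ 2 = L.relIndex K) ∨ (∃ F : Finset (L → ℂ), (∀ φ ∈ F, Cfsg.IsIrrCharacter L φ) ∧ F.card = L.relIndex K ∧ (fun x : L => ϑ ⟨(x : G), hLK.le x.2⟩) = ∑ φ ∈ F, φ) := by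
  classical
  have hL : L.Normal := inferInstance
  haveI : Fintype K := Fintype.ofFinite K
  haveI : Fintype L := Fintype.ofFinite L
  haveI : Fintype (L.subgroupOf K) := Fintype.ofFinite _
  -- the isomorphism between `L.subgroupOf K` and `L`
  let ι : ↥(L.subgroupOf K) ≃* ↥L :=
    { toFun := fun n => ⟨((n : K) : G), n.2⟩
      invFun := fun x => ⟨⟨(x : G), hLK.le x.2⟩, x.2⟩
      left_inv := fun n => rfl
      right_inv := fun x => rfl
      map_mul' := fun a b => rfl }
  obtain ⟨Res, hRes⟩ : ∃ Res : L → ℂ, Res = fun x : L => ϑ ⟨(x : G), hLK.le x.2⟩ := ⟨_, rfl⟩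
  rw [← hRes]
  have hResN : (fun n : L.subgroupOf K => ϑ (n : K)) = fun n => Res (ι n) := by
    rw [hRes]
    rfl
  have hϑchar := h7_irr_isCharacter hϑ
  have hResChar : Cfsg.IsCharacter L Res := by
    rw [hRes]
    exact isCharacter_comp_hom hϑchar (Subgroup.inclusion hLK.le)
  have hResinv : ∀ g : G, cj L Res g = Res := by
    intro g
    funext x
    rw [cj_apply, hRes]
    exact hinv g ⟨(x : G), hLK.le x.2⟩
  -- transport of conjugation
  have hT1 : ∀ (ψ : L → ℂ) (k : K),
      cj (L.subgroupOf K) (fun n => ψ (ι n)) k = fun n => cj L ψ (k : G) (ι n) := by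
    intro ψ k
    rfl
  -- a constituent
  have hϑ1 : ϑ 1 ≠ 0 := irr_one_ne_zero ⟨ϑ, hϑ⟩
  have hRes1 : Res 1 ≠ 0 := by
    rw [hRes]
    exact hϑ1
  obtain ⟨φI, m, hm, hφm⟩ := isCharacter_exists_constituent hResChar hRes1
  obtain ⟨φ, hφdef⟩ : ∃ φ : L → ℂ, φ = (φI : L → ℂ) := ⟨_, rfl⟩
  have hφ : Cfsg.IsIrrCharacter L φ := hφdef ▸ φI.2
  have hcon : Cfsg.classInner Res φ ≠ 0 := by
    rw [hφdef, hφm]
    exact_mod_cast hm.ne'
  have hφcl := isCharacter_isClassFunction (h7_irr_isCharacter hφ)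
  have hφ' : Cfsg.IsIrrCharacter (L.subgroupOf K) (fun n => φ (ι n)) :=
    h7_isIrr_comp_equiv ι φ hφ
  have hcon' : Cfsg.classInner (fun n : L.subgroupOf K => ϑ (n : K)) (fun n => φ (ι n)) ≠ 0 := by
    rw [hResN, h7_classInner_comp_equiv ι Res φ]
    exact hcon
  -- (A)
  have hA : ∀ g : G, ∃ k : K, cj L φ g = cj L φ (k : G) := by
    intro g
    have h1 : Cfsg.IsIrrCharacter L (cj L φ g) := isIrr_cj L φ hφ g
    have h2 : Cfsg.IsIrrCharacter (L.subgroupOf K) (fun n => cj L φ g (ι n)) :=
      h7_isIrr_comp_equiv ι _ h1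
    have h3 : Cfsg.classInner (fun n : L.subgroupOf K => ϑ (n : K))
        (fun n => cj L φ g (ι n)) ≠ 0 := by
      rw [hResN, h7_classInner_comp_equiv ι Res (cj L φ g)]
      have h4 := h7_classInner_cj_cj L Res φ g
      rw [hResinv g] at h4
      rw [h4]
      exact hcon
    obtain ⟨k, hk⟩ := h7_clifford_conj (L.subgroupOf K) ϑ hϑ _ _ hφ' h2 hcon' h3
    refine ⟨k, ?_⟩
    rw [hT1 φ k] at hk
    funext x
    have := congrFun hk (ι.symm x)
    simpa using this
  -- inertia group
  let T : Subgroup G :=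
    { carrier := {g | g ∈ K ∧ cj L φ g = φ}
      one_mem' := ⟨K.one_mem, cj_one L φ⟩
      mul_mem' := by
        rintro a b ⟨ha, ha'⟩ ⟨hb, hb'⟩
        refine ⟨K.mul_mem ha hb, ?_⟩
        rw [← cj_mul, ha', hb']
      inv_mem' := by
        rintro a ⟨ha, ha'⟩
        refine ⟨K.inv_mem ha, ?_⟩
        have h1 := cj_mul L φ a a⁻¹
        rw [ha', mul_inv_cancel, cj_one] at h1
        exact h1 }
  have hTmem : ∀ g : G, g ∈ T ↔ g ∈ K ∧ cj L φ g = φ := fun g => Iff.rfl
  have hLT : L ≤ T := fun x hx => ⟨hLK.le hx, cj_of_mem L φ hφcl x hx⟩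
  have hTK : T ≤ K := fun x hx => hx.1
  have hTnormal : T.Normal := by
    constructor
    intro t ht g
    obtain ⟨htK, htφ⟩ := ht
    refine ⟨hK.conj_mem t htK g, ?_⟩
    obtain ⟨k, hk⟩ := hA g
    have h1 : cj L (cj L φ g) t = cj L φ g := by
      rw [hk, cj_mul]
      have hl : (k : G) * t * (k : G)⁻¹ * t⁻¹ ∈ L := by
        apply hab
        have := Subgroup.commutator_mem_commutator k.2 htK
        rwa [commutatorElement_def] at this
      have h2 : (k : G) * t = ((k : G) * t * (k : G)⁻¹ * t⁻¹) * t * (k : G) := by group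
      rw [h2, ← cj_mul, ← cj_mul, cj_of_mem L φ hφcl _ hl, htφ]
    have h2 : cj L φ (g * t * g⁻¹) = cj L (cj L (cj L φ g) t) g⁻¹ := by
      rw [cj_mul, cj_mul, mul_assoc]
    rw [h2, h1, cj_mul, mul_inv_cancel, cj_one]
  have hab' : ∀ x y : K, x * y * x⁻¹ * y⁻¹ ∈ L.subgroupOf K := by
    intro x y
    rw [Subgroup.mem_subgroupOf]
    apply hab
    have := Subgroup.commutator_mem_commutator x.2 y.2
    rwa [commutatorElement_def] at this
  have hidx : (L.subgroupOf K).index = L.relIndex K := rfl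
  rcases hchief T hTnormal hLT hTK with hTL | hTKeq
  · -- T = L : case (c)
    right; right
    have hstab : ∀ k : K, cj (L.subgroupOf K) (fun n => φ (ι n)) k = (fun n => φ (ι n)) →
        k ∈ L.subgroupOf K := by
      intro k hk
      rw [hT1 φ k] at hk
      have h1 : cj L φ (k : G) = φ := by
        funext x
        have := congrFun hk (ι.symm x)
        simpa using this
      have h2 : (k : G) ∈ T := ⟨k.2, h1⟩
      rw [hTL] at h2
      exact h2
    obtain ⟨hsum, hcard⟩ := gd_trivial_stab (L.subgroupOf K) ϑ hϑ _ hφ' hcon' hstab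
    have hinj : Function.Injective (fun (ψ : L.subgroupOf K → ℂ) => fun x : L => ψ (ι.symm x)) := by
      intro ψ₁ ψ₂ h
      funext n
      have := congrFun h (ι n)
      simpa using this
    refine ⟨(Finset.univ.image (fun g : K => cj (L.subgroupOf K) (fun n => φ (ι n)) g)).image
      (fun (ψ : L.subgroupOf K → ℂ) => fun x : L => ψ (ι.symm x)), ?_, ?_, ?_⟩
    · intro ψ₂ hψ₂
      obtain ⟨ψ, hψ, rfl⟩ := Finset.mem_image.mp hψ₂
      obtain ⟨k, -, rfl⟩ := Finset.mem_image.mp hψ
      exact h7_isIrr_comp_equiv ι.symm _ (isIrr_cj (L.subgroupOf K) _ hφ' k)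
    · rw [Finset.card_image_of_injective _ hinj, hcard, hidx]
    · rw [Finset.sum_image (fun a _ b _ h => hinj h)]
      funext x
      have h1 := congrFun hsum (ι.symm x)
      rw [Finset.sum_apply] at h1 ⊢
      rw [← h1, hRes]
      rfl
  · -- T = K : φ is invariant
    have hinv' : ∀ k : K, cj (L.subgroupOf K) (fun n => φ (ι n)) k = (fun n => φ (ι n)) := by
      intro k
      rw [hT1 φ k]
      have h1 : (k : G) ∈ T := by
        rw [hTKeq]
        exact k.2
      rw [h1.2]
    obtain ⟨e, he, hres, hesq⟩ := gd_invariant (L.subgroupOf K) hab' ϑ hϑ _ hφ' hcon' hinv'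
    have hResφ : Res = (e : ℂ) • φ := by
      funext x
      have h1 := congrFun hres (ι.symm x)
      simp only [Pi.smul_apply, smul_eq_mul, MulEquiv.apply_symm_apply] at h1 ⊢
      rw [hRes]
      exact h1
    -- the support subgroup
    obtain ⟨S, hS⟩ : ∃ S : Set G, S = {x : G | ∃ h : x ∈ K, ϑ ⟨x, h⟩ ≠ 0} := ⟨_, rfl⟩
    have hSK : S ⊆ K := by
      rw [hS]
      rintro x ⟨h, -⟩
      exact h
    have hMn : (L ⊔ Subgroup.normalClosure S).Normal := Subgroup.sup_normal L _
    have hLM : L ≤ L ⊔ Subgroup.normalClosure S := le_sup_left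
    have hMK : L ⊔ Subgroup.normalClosure S ≤ K :=
      sup_le hLK.le (Subgroup.normalClosure_le_normal hSK)
    rcases hchief _ hMn hLM hMK with hML | hMKeq
    · -- support inside L : case (b)
      right; left
      refine ⟨φ, e, hφ, hResφ, ?_⟩
      rw [hesq, ← hidx, ← card_annih_normal (L.subgroupOf K) hab']
      apply Nat.card_congr
      refine ⟨fun lam => lam.1, fun lam => ⟨lam, ?_⟩, fun lam => rfl, fun lam => rfl⟩
      intro x
      by_cases hx : ϑ x = 0
      · rw [hx, mul_zero]
      · have h1 : (x : G) ∈ S := by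
          rw [hS]
          exact ⟨x.2, hx⟩
        have h2 : (x : G) ∈ L := by
          rw [← hML]
          exact (le_sup_right : Subgroup.normalClosure S ≤ _) (Subgroup.subset_normalClosure h1)
        have h3 : x ∈ L.subgroupOf K := h2
        rw [lam.2 x h3, Units.val_one, one_mul]
    · -- support generates K : case (a)
      left
      have hsub : ∀ lam : {lam : annih (L.subgroupOf K) //
          ∀ x : K, ((lam.1 x : ℂˣ) : ℂ) * ϑ x = ϑ x}, ∀ x : K, lam.1.1 x = 1 := by
        intro lam x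
        have hX1 : L ≤ (lam.1.1.ker).map K.subtype := by
          intro y hy
          refine ⟨⟨y, hLK.le hy⟩, ?_, rfl⟩
          rw [SetLike.mem_coe, MonoidHom.mem_ker]
          exact lam.1.2 ⟨y, hLK.le hy⟩ hy
        have hX2 : S ⊆ (lam.1.1.ker).map K.subtype := by
          rw [hS]
          rintro y ⟨hyK, hy0⟩
          refine ⟨⟨y, hyK⟩, ?_, rfl⟩
          rw [SetLike.mem_coe, MonoidHom.mem_ker]
          have h1 := lam.2 ⟨y, hyK⟩
          have h2 : ((lam.1.1 ⟨y, hyK⟩ : ℂˣ) : ℂ) = 1 := by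
            have h3 : (((lam.1.1 ⟨y, hyK⟩ : ℂˣ) : ℂ) - 1) * ϑ ⟨y, hyK⟩ = 0 := by
              rw [sub_mul, h1, one_mul, sub_self]
            rcases mul_eq_zero.mp h3 with h4 | h4
            · exact sub_eq_zero.mp h4
            · exact absurd h4 hy0
          exact Units.ext h2
        have hX3 : Group.conjugatesOfSet S ⊆ S := by
          intro y hy
          obtain ⟨b, hb, hby⟩ := Group.mem_conjugatesOfSet_iff.mp hy
          rw [hS] at hb ⊢
          obtain ⟨hbK, hb0⟩ := hb
          obtain ⟨c, hc⟩ := isConj_iff.mp hby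
          subst hc
          refine ⟨hK.conj_mem b hbK c, ?_⟩
          rw [hinv c ⟨b, hbK⟩]
          exact hb0
        have hX4 : Subgroup.normalClosure S ≤ (lam.1.1.ker).map K.subtype := by
          show Subgroup.closure (Group.conjugatesOfSet S) ≤ _
          rw [Subgroup.closure_le]
          exact hX3.trans hX2
        have hX5 : (x : G) ∈ (lam.1.1.ker).map K.subtype := by
          apply (sup_le hX1 hX4 : L ⊔ Subgroup.normalClosure S ≤ _)
          rw [hMKeq]
          exact x.2
        obtain ⟨y, hy, hyx⟩ := hX5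
        have : y = x := Subtype.ext hyx
        rw [← this]
        exact MonoidHom.mem_ker.mp hy
      have hcard1 : Nat.card {lam : annih (L.subgroupOf K) //
          ∀ x : K, ((lam.1 x : ℂˣ) : ℂ) * ϑ x = ϑ x} = 1 := by
        rw [Nat.card_eq_one_iff_unique]
        refine ⟨⟨fun a b => ?_⟩, ⟨⟨1, fun x => by simp⟩⟩⟩
        apply Subtype.ext
        apply Subtype.ext
        apply MonoidHom.ext
        intro x
        rw [hsub a x, hsub b x]
      rw [hcard1] at hesq
      have he1 : e = 1 := by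
        have : e * e = 1 := by rw [← sq]; exact hesq
        exact Nat.eq_one_of_mul_eq_one_right this
      rw [hResφ, he1]
      simpa using hφ

end Cfsg.Agent.S0857
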