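import Mathlib
import Cfsg.Statements.S0944

set_option autoImplicit false
open Cfsg

namespace Cfsg.Agent.S0944

theorem trace_involution {n : ℕ} (A : (Fin n → ℂ) →ₗ[ℂ] (Fin n → ℂ)) (hA : A * A = 1) :
    ∃ r : ℕ, LinearMap.trace ℂ (Fin n → ℂ) A = 2 * (r : ℂ) - (n : ℂ) := by
  set P : (Fin n → ℂ) →ₗ[ℂ] (Fin n → ℂ) := (2 : ℂ)⁻¹ • (1 + A) with hP
  have hidem : IsIdempotentElem P := by
    unfold IsIdempotentElem
    have h0 : (1 + A) * (1 + A) = (2 : ℂ) • (1 + A) := by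
      rw [mul_add, add_mul, add_mul, hA, mul_one, one_mul, mul_one, two_smul]; abel
    rw [hP, smul_mul_smul_comm, h0, smul_smul]
    norm_num
  obtain ⟨p, hp⟩ := (LinearMap.isProj_iff_isIdempotentElem P).mpr hidem
  have htr := hp.trace
  refine ⟨Module.finrank ℂ p, ?_⟩
  have h1 : A = (2 : ℂ) • P - 1 := by
    rw [hP, smul_smul]
    norm_num
  rw [h1, map_sub, map_smul, htr, LinearMap.trace_one, smul_eq_mul]
  simp

theorem result {G : Type*} [Group G] [Finite G] (χ : Cfsg.IrrCharacter G) (u : G) (hu : orderOf u = 2) : ∃ n : ℤ, (χ : G → ℂ) u = (n : ℂ) ∧ (2 : ℤ) ∣ (Cfsg.charDegree (χ : G → ℂ) : ℤ) - n := by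
  obtain ⟨n, ρ, _, hχ⟩ := χ.2
  have hu2 : u * u = 1 := by
    have := pow_orderOf_eq_one u
    rw [hu, pow_two] at this
    exact this
  have hA : ρ u * ρ u = 1 := by
    rw [← map_mul, hu2, map_one]
  obtain ⟨r, hr⟩ := trace_involution (ρ u) hA
  have hχu : (χ : G → ℂ) u = 2 * (r : ℂ) - (n : ℂ) := by
    rw [← hχ]
    exact hr
  have hχ1 : (χ : G → ℂ) 1 = (n : ℂ) := by
    rw [← hχ, Representation.char_one]
    simp
  refine ⟨2 * (r : ℤ) - (n : ℤ), ?_, ?_⟩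
  · rw [hχu]; push_cast; ring
  · have hdeg : Cfsg.charDegree (χ : G → ℂ) = n := by
      unfold Cfsg.charDegree
      rw [hχ1]
      simp
    rw [hdeg]
    exact ⟨(n : ℤ) - (r : ℤ), by ring⟩

end Cfsg.Agent.S0944
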