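import Cfsg.Statements.S0959
import Cfsg.Agent.Lib.helper7.BlockMinMax

set_option autoImplicit false
open Cfsg

namespace Cfsg.Agent.S0959


open Cfsg.Agent.Lib.helper7

/-- Let B be a block of the finite group G with defect group D (relative to a maximal ideal M of the algebraic integers containing the prime p), and let P be a p-subgroup. Then there is an element g whose idempotent coefficient for B is a local integer outside the local ideal at M and which has a conjugate centralizing P, if and only if some conjugate of P is contained in D. -/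
theorem result {G : Type*} [Group G] [Finite G] (p : ℕ) [Fact p.Prime] (M : Ideal Cfsg.AlgInt) (hM : Cfsg.IsPModular p M) (B : Set (Cfsg.IrrCharacter G)) (hB : Cfsg.IsPBlock M B) (D : Subgroup G) (hD : Cfsg.IsDefectGroup p M B D) (P : Subgroup G) (hP : IsPGroup p P) : (∃ g : G, Cfsg.MemLocalRing M (Cfsg.blockCoeff B g) ∧ ¬ Cfsg.MemLocalIdeal M (Cfsg.blockCoeff B g) ∧ ∃ c : G, IsConj g c ∧ c ∈ Subgroup.centralizer (P : Set G)) ↔ ∃ x : G, P.map (MulAut.conj x).toMonoidHom ≤ D := by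
  classical
  haveI : Fintype G := Fintype.ofFinite _
  haveI : Fintype (Cfsg.IrrCharacter G) := Fintype.ofFinite _
  obtain ⟨χ₀, rfl⟩ := hB
  obtain ⟨g₀, hg₀, D₀, rfl⟩ := hD
  constructor
  · rintro ⟨g, hg1, hg2, c, hgc, hcP⟩
    obtain ⟨x, Q, hQle⟩ := h7_minmax_a hM χ₀ g₀ hg₀ D₀ g hg2
    obtain ⟨y, hy⟩ := isConj_iff.mp hgc
    have hRC : P.map (MulAut.conj y⁻¹).toMonoidHom ≤ Subgroup.centralizer ({g} : Set G) := by
      rintro _ ⟨u, hu, rfl⟩
      rw [Subgroup.mem_centralizer_singleton_iff]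
      simp only [MulEquiv.coe_toMonoidHom, MulAut.conj_apply, inv_inv]
      have h1 : u * c = c * u := Subgroup.mem_centralizer_iff.mp hcP u hu
      rw [← hy] at h1
      symm
      calc g * (y⁻¹ * u * y) = y⁻¹ * ((y * g * y⁻¹) * u) * y := by group
        _ = y⁻¹ * (u * (y * g * y⁻¹)) * y := by rw [h1]
        _ = y⁻¹ * u * y * g := by group
    obtain ⟨z, hz, hRle⟩ := h7_le_conj_sylow p (Subgroup.centralizer ({g} : Set G)) Q
      (P.map (MulAut.conj y⁻¹).toMonoidHom) (hP.map _) hRC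
    refine ⟨(y * z * x)⁻¹, ?_⟩
    rintro _ ⟨u, hu, rfl⟩
    obtain ⟨q, hq, hqe⟩ := hRle ⟨u, hu, rfl⟩
    obtain ⟨d, hd, hde⟩ := hQle hq
    simp only [MulEquiv.coe_toMonoidHom, MulAut.conj_apply, inv_inv] at hde hqe ⊢
    have hu' : u = y * (z * (x * d * x⁻¹) * z⁻¹) * y⁻¹ := by
      rw [hde, hqe]
      group
    have : (y * z * x)⁻¹ * u * (y * z * x) = d := by
      rw [hu']
      group
    rw [this]
    exact hd
  · rintro ⟨x, hx⟩
    refine ⟨g₀, hg₀.1, hg₀.2.1, x⁻¹ * g₀ * x, isConj_iff.mpr ⟨x⁻¹, by simp⟩, ?_⟩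
    rw [Subgroup.mem_centralizer_iff]
    intro u hu
    have h1 : x * u * x⁻¹ ∈ Subgroup.centralizer ({g₀} : Set G) :=
      Subgroup.map_subtype_le _ (hx ⟨u, hu, rfl⟩)
    rw [Subgroup.mem_centralizer_singleton_iff] at h1
    calc u * (x⁻¹ * g₀ * x) = x⁻¹ * ((x * u * x⁻¹) * g₀) * x := by group
      _ = x⁻¹ * (g₀ * (x * u * x⁻¹)) * x := by rw [h1]
      _ = x⁻¹ * g₀ * x * u := by group

end Cfsg.Agent.S0959
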