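import Cfsg.Statements.S1500
import Mathlib
import Cfsg.Agent.Lib.Helper11.Dade

set_option autoImplicit false
open Cfsg

namespace Cfsg.Agent.S1500

open Cfsg.Agent.Lib.Helper11 Cfsg.Agent.Lib.helper7
open scoped ComplexConjugate

/-- inner product of a Dade image with a class function, as a sum over `A` -/
theorem inner_dade {G : Type*} [Group G] [Fintype G] (A : Set G) (L : Subgroup G) [Fintype L]
    (H : G → Subgroup G) (hD : Cfsg.DadeHypothesis A L H) (α : L → ℂ)
    (hα : Cfsg.IsClassFunction L α) (hαA : ∀ x : L, (x : G) ∉ A → α x = 0)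
    (χ : G → ℂ) (hχ : Cfsg.IsClassFunction G χ) (ψ : L → ℂ)
    (hψ : ∀ a : L, (a : G) ∈ A →
      ψ a = (Nat.card (H a) : ℂ)⁻¹ * ∑ᶠ u ∈ (H a : Set G), χ (a * u)) :
    Cfsg.classInner (Cfsg.dadeIsometry A L H α) χ = Cfsg.classInner α ψ := by
  classical
  unfold Cfsg.classInner
  have hF : ∀ g h : G, Cfsg.dadeIsometry A L H α (h * g * h⁻¹) * conj (χ (h * g * h⁻¹)) =
      Cfsg.dadeIsometry A L H α g * conj (χ g) := by
    intro g h
    rw [dadeIsometry_classFunction hD α hα g h, hχ g h]
  have hcount := dade_counting' (K := ℂ) hD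
    (fun g => Cfsg.dadeIsometry A L H α g * conj (χ g)) hF
  have h1 : ∑ g : G, (if g ∈ dadeSupp A H then
      Cfsg.dadeIsometry A L H α g * conj (χ g) else 0) =
      ∑ g : G, Cfsg.dadeIsometry A L H α g * conj (χ g) := by
    apply Finset.sum_congr rfl
    intro g _
    by_cases hg : g ∈ dadeSupp A H
    · rw [if_pos hg]
    · rw [if_neg hg, dadeIsometry_zero α g hg, zero_mul]
  rw [h1] at hcount
  rw [hcount]
  congr 1
  apply Finset.sum_congr rfl
  intro a _
  by_cases ha : (a : G) ∈ A
  · rw [if_pos ha, hψ a ha, h7_finsum_mem_fintype, map_mul, map_inv₀, Complex.conj_natCast,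
      map_sum, Finset.mul_sum, Finset.mul_sum, Finset.mul_sum]
    apply Finset.sum_congr rfl
    intro u _
    simp only [SetLike.mem_coe]
    by_cases hu : u ∈ H (a : G)
    · rw [if_pos hu, if_pos hu, dadeIsometry_coset hD α hα a ha u hu]
      ring
    · rw [if_neg hu, if_neg hu]
      simp
  · rw [if_neg ha, hαA a ha, zero_mul]


/-- Under the Dade hypothesis for (A, L, H), let α be a class function of L vanishing outside A. Then (i) for every class function β of L vanishing outside A, the inner product over G of the Dade images of α and β equals the inner product of α and β over L; and (ii) for every class function χ of G and every function ψ on L whose value at each a ∈ A is the average of χ over the coset a·H(a), the inner product over G of the Dade image of α with χ equals the inner product over L of α with ψ. -/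
theorem result {G : Type*} [Group G] [Fintype G] (A : Set G) (L : Subgroup G) [Fintype L] (H : G → Subgroup G) (hD : Cfsg.DadeHypothesis A L H) (α : L → ℂ) (hα : Cfsg.IsClassFunction L α) (hαA : ∀ x : L, (x : G) ∉ A → α x = 0) : (∀ β : L → ℂ, Cfsg.IsClassFunction L β → (∀ x : L, (x : G) ∉ A → β x = 0) → Cfsg.classInner (Cfsg.dadeIsometry A L H α) (Cfsg.dadeIsometry A L H β) = Cfsg.classInner α β) ∧ (∀ (χ : G → ℂ) (ψ : L → ℂ), Cfsg.IsClassFunction G χ → (∀ a : L, (a : G) ∈ A → ψ a = (Nat.card (H a) : ℂ)⁻¹ * ∑ᶠ u ∈ (H a : Set G), χ (a * u)) → Cfsg.classInner (Cfsg.dadeIsometry A L H α) χ = Cfsg.classInner α ψ) := by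
  classical
  refine ⟨?_, ?_⟩
  · intro β hβ hβA
    apply inner_dade A L H hD α hα hαA _ (dadeIsometry_classFunction hD β hβ) β
    intro a ha
    rw [h7_finsum_mem_fintype]
    have h1 : ∀ u : G, (if u ∈ (H (a : G) : Set G) then
        Cfsg.dadeIsometry A L H β ((a : G) * u) else 0) =
        if u ∈ (H (a : G) : Set G) then β a else 0 := by
      intro u
      by_cases hu : u ∈ (H (a : G) : Set G)
      · rw [if_pos hu, if_pos hu, dadeIsometry_coset hD β hβ a ha u hu]
      · rw [if_neg hu, if_neg hu]
    rw [Finset.sum_congr rfl (fun u _ => h1 u), ← Finset.sum_filter, Finset.sum_const,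
      nsmul_eq_mul]
    have h2 : (Finset.univ.filter (fun u : G => u ∈ (H (a : G) : Set G))).card =
        Nat.card (H (a : G)) := by
      rw [Nat.card_eq_fintype_card, Fintype.card_subtype]
      rfl
    rw [h2]
    have h3 : (Nat.card (H (a : G)) : ℂ) ≠ 0 := by exact_mod_cast Nat.card_pos.ne'
    field_simp
  · intro χ ψ hχ hψ
    exact inner_dade A L H hD α hα hαA χ hχ ψ hψ

end Cfsg.Agent.S1500
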