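import Cfsg.Statements.S0039
import Cfsg.Agent.Lib.Helper19.Frobenius

set_option autoImplicit false
open Cfsg
open scoped Pointwise

namespace Cfsg.Agent.S0039

/-- In a finite group that is a semidirect product of a normal subgroup K by a nontrivial subgroup H, H is a Frobenius complement exactly when each nonidentity element of H acts without nonidentity fixed points on K by conjugation. -/
theorem result {G : Type*} [Group G] [Finite G] (K H : Subgroup G) [K.Normal]
    (hc : Subgroup.IsComplement' K H) (hK : K ≠ ⊥) (hH : H ≠ ⊥) :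
    Cfsg.IsFrobeniusComplement H ↔ ∀ h ∈ H, h ≠ 1 → K ⊓ Subgroup.centralizer {h} = ⊥ := by
  have hdisj : ∀ z : G, z ∈ K → z ∈ H → z = 1 := by
    intro z hzK hzH
    exact Subgroup.disjoint_def.mp hc.disjoint hzK hzH
  constructor
  · rintro ⟨_, _, hTI⟩ h hh h1
    rw [eq_bot_iff]
    rintro k ⟨hkK, hkC⟩
    rw [Subgroup.mem_bot]
    by_contra hk1
    have hkH : k ∉ H := fun hkH => hk1 (hdisj k hkK hkH)
    have h2 := hTI k hkH
    have hkC2 : k ∈ Subgroup.centralizer {h} := hkC
    have hcomm : h * k = k * h := Subgroup.mem_centralizer_iff.mp hkC2 h rfl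
    have h3 : h ∈ H ⊓ MulAut.conj k • H := by
      have h4 : h ∈ MulAut.conj k • H := by
        rw [Cfsg.Agent.Lib.Helper19.mem_conj_smul_iff']
        have : k⁻¹ * h * k = h := by rw [mul_assoc, hcomm, ← mul_assoc, inv_mul_cancel, one_mul]
        rw [this]
        exact hh
      exact ⟨hh, h4⟩
    rw [h2] at h3
    exact h1 (Subgroup.mem_bot.mp h3)
  · intro hfpf
    refine ⟨hH, ?_, ?_⟩
    · intro htop
      apply hK
      rw [eq_bot_iff]
      intro k hk
      rw [Subgroup.mem_bot]
      exact hdisj k hk (htop ▸ Subgroup.mem_top k)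
    · intro g hg
      rw [eq_bot_iff]
      rintro x ⟨hxH, hxg⟩
      rw [Subgroup.mem_bot]
      have hxH2 : x ∈ H := hxH
      have hxg2 : x ∈ MulAut.conj g • H := hxg
      rw [Cfsg.Agent.Lib.Helper19.mem_conj_smul_iff'] at hxg2
      obtain ⟨⟨k, h0⟩, hkh, _⟩ := hc.existsUnique g
      simp only at hkh
      have hy : (k : G)⁻¹ * x * k ∈ H := by
        have e : (k : G)⁻¹ * x * k = (h0 : G) * (g⁻¹ * x * g) * (h0 : G)⁻¹ := by
          rw [← hkh]; group
        rw [e]
        exact H.mul_mem (H.mul_mem h0.2 hxg2) (H.inv_mem h0.2)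
      have h1 : (k : G)⁻¹ * x * k * x⁻¹ ∈ K := by
        have e : (k : G)⁻¹ * x * k * x⁻¹ = (k : G)⁻¹ * (x * k * x⁻¹) := by group
        rw [e]
        exact K.mul_mem (K.inv_mem k.2) (Subgroup.Normal.conj_mem inferInstance _ k.2 x)
      have h2 : (k : G)⁻¹ * x * k * x⁻¹ ∈ H := H.mul_mem hy (H.inv_mem hxH2)
      have h3 := hdisj _ h1 h2
      have hcomm : x * (k : G) = (k : G) * x := by
        have : (k : G)⁻¹ * x * k = x := by
          have := mul_inv_eq_one.mp h3
          exact this
        calc x * (k : G) = (k : G) * ((k : G)⁻¹ * x * k) := by group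
          _ = (k : G) * x := by rw [this]
      by_contra hx1
      have h4 := hfpf x hxH2 hx1
      have h5 : (k : G) ∈ K ⊓ Subgroup.centralizer {x} := by
        refine ⟨k.2, ?_⟩
        apply Subgroup.mem_centralizer_iff.mpr
        intro z hz
        rw [Set.mem_singleton_iff] at hz
        rw [hz]
        exact hcomm
      rw [h4, Subgroup.mem_bot] at h5
      apply hg
      rw [← hkh, h5, one_mul]
      exact h0.2

end Cfsg.Agent.S0039
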