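import Cfsg.Statements.S0042
import Mathlib
import Cfsg.Agent.Lib.Helper1.FPF.Main2
import Cfsg.Agent.Lib.Helper1.FrobeniusThm

set_option autoImplicit false
open Cfsg

namespace Cfsg.Agent.S0042

/-- In a finite Frobenius group, the Frobenius kernel is (the carrier of) a normal subgroup which is nilpotent. -/
theorem result {G : Type*} [Group G] [Finite G] (H : Subgroup G) (hH : Cfsg.IsFrobeniusComplement H) :
    ∃ N : Subgroup G, (N : Set G) = Cfsg.frobeniusKernel H ∧ N.Normal ∧ Group.IsNilpotent N := by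
  obtain ⟨N, hNset, hNn, hNc⟩ := Cfsg.Agent.Lib.Helper1.frobenius_theorem H hH
  refine ⟨N, hNset, hNn, ?_⟩
  haveI := hNn
  obtain ⟨hHne, _, hfrob⟩ := hH
  have hcard1 : Nat.card H ≠ 1 := fun h => hHne (Subgroup.eq_bot_of_card_eq H h)
  obtain ⟨r, hr, hrdvd⟩ := Nat.exists_prime_and_dvd hcard1
  haveI : Fact r.Prime := ⟨hr⟩
  obtain ⟨h, hh⟩ := exists_prime_orderOf_dvd_card' r hrdvd
  have hhG : orderOf (h : G) = r := by rw [Subgroup.orderOf_coe]; exact hh
  have hh1 : (h : G) ≠ 1 := by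
    intro h1
    rw [h1, orderOf_one] at hhG
    exact hr.one_lt.ne hhG
  have hdisj : N ⊓ H = ⊥ := hNc.disjoint.eq_bot
  apply Cfsg.Agent.Lib.Helper1.FPF.fpf_nilpotent (MulAut.conjNormal (h : G) : ↥N ≃* ↥N) _ hr
  · rw [← map_pow, ← hhG, pow_orderOf_eq_one, map_one]
  · intro n hn
    by_contra hn1
    have hnG : (n : G) ≠ 1 := fun h => hn1 (Subtype.ext h)
    have hfix : (h : G) * (n : G) * (h : G)⁻¹ = (n : G) := by
      have h5 : ((MulAut.conjNormal (h : G) n : ↥N) : G) = n := congrArg Subtype.val hn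
      rwa [MulAut.conjNormal_apply] at h5
    have hnH : (n : G) ∉ H := by
      intro hnH
      have : (n : G) ∈ N ⊓ H := ⟨n.2, hnH⟩
      rw [hdisj, Subgroup.mem_bot] at this
      exact hnG this
    have h2 := hfrob (n : G) hnH
    have h3 : (h : G) ∈ (⊥ : Subgroup G) := by
      rw [← h2]
      refine ⟨h.2, Subgroup.mem_pointwise_smul_iff_inv_smul_mem.mpr ?_⟩
      simp only [MulAut.smul_def, MulAut.conj_inv_apply]
      have e : (n : G)⁻¹ * (h : G) * (n : G) = (h : G) := by
        calc (n : G)⁻¹ * (h : G) * (n : G) = (n : G)⁻¹ * ((h : G) * (n : G) * (h : G)⁻¹) * (h : G) := by group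
          _ = (n : G)⁻¹ * (n : G) * (h : G) := by rw [hfix]
          _ = (h : G) := by group
      rw [e]
      exact h.2
    rw [Subgroup.mem_bot] at h3
    exact hh1 h3

end Cfsg.Agent.S0042
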