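import Cfsg.Statements.S0739
import Cfsg.Agent.Lib.helper6.ZassOddStab

set_option autoImplicit false
open Cfsg

namespace Cfsg.Agent.S0739

/-- In a finite Zassenhaus group whose two-point stabiliser `H = G_{a,b}` has odd order `d`, and which has no normal `q`-complement for any prime `q ∣ d`, `H` is cyclic, `C_G(H) = H`, and every element swapping `a` and `b` inverts each element of `H`. -/
theorem result {G Ω : Type*} [Group G] [Finite G] [MulAction G Ω] [Fintype Ω] (hZ : Cfsg.IsZassenhausGroup G Ω) {a b : Ω} (hab : a ≠ b) (hodd : Odd (Nat.card ↥(MulAction.stabilizer G a ⊓ MulAction.stabilizer G b))) (hnil : ∀ q : ℕ, q.Prime → q ∣ Nat.card ↥(MulAction.stabilizer G a ⊓ MulAction.stabilizer G b) → ¬ ∃ N : Subgroup G, N.Normal ∧ N.index = q ^ (Nat.card G).factorization q) : IsCyclic ↥(MulAction.stabilizer G a ⊓ MulAction.stabilizer G b) ∧ Subgroup.centralizer ((MulAction.stabilizer G a ⊓ MulAction.stabilizer G b : Subgroup G) : Set G) = MulAction.stabilizer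 G a ⊓ MulAction.stabilizer G b ∧ ∀ s : G, s • a = b → s • b = a → ∀ h ∈ MulAction.stabilizer G a ⊓ MulAction.stabilizer G b, s * h * s⁻¹ = h⁻¹ := by
  classical
  obtain ⟨hf, h2, h3, ⟨n0, hn01, a', b', hab', hn0a, hn0b⟩, -⟩ := id hZ
  haveI := hf
  have two : ∀ {x y z w : Ω}, x ≠ y → z ≠ w → ∃ g : G, g • x = z ∧ g • y = w :=
    fun hxy hzw => MulAction.is_two_pretransitive_iff.mp h2 hxy hzw
  have Z : Cfsg.Agent.Lib.helper6.ZassOddStab.ZQ G Ω a b := ⟨two, h3, hab⟩
  -- a nonidentity element fixing a and b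
  obtain ⟨g, hga, hgb⟩ := two hab' hab
  have hn1 : g * n0 * g⁻¹ ≠ 1 := by
    intro h
    apply hn01
    have : n0 = g⁻¹ * (g * n0 * g⁻¹) * g := by group
    rw [this, h]; group
  have hn1a : (g * n0 * g⁻¹) • a = a := by
    rw [mul_smul, mul_smul, ← hga, inv_smul_smul, hn0a]
  have hn1b : (g * n0 * g⁻¹) • b = b := by
    rw [mul_smul, mul_smul, ← hgb, inv_smul_smul, hn0b]
  obtain ⟨KG, hKnil, kfix, kfpf, ktr, knorm⟩ :=
    Cfsg.Agent.Lib.helper6.ZassReg.kernel_data two h3 hab hn1 hn1a hn1b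
  have hthird := Cfsg.Agent.Lib.helper6.ZassNormal.exists_third hn1 hn1a hn1b
  have hH1 : (MulAction.stabilizer G a ⊓ MulAction.stabilizer G b : Subgroup G) ≠ ⊥ := by
    intro h
    have : g * n0 * g⁻¹ ∈ (MulAction.stabilizer G a ⊓ MulAction.stabilizer G b : Subgroup G) :=
      Cfsg.Agent.Lib.helper6.ZassOddStab.mem_Hs.mpr ⟨hn1a, hn1b⟩
    rw [h, Subgroup.mem_bot] at this
    exact hn1 this
  exact Z.main KG hKnil kfix kfpf ktr knorm hthird hH1 hodd hnil

end Cfsg.Agent.S0739
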