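import Cfsg.Statements.S0740
import Mathlib
import Cfsg.Statements.S0740

set_option autoImplicit false
open Cfsg

namespace Cfsg.Agent.S0740

open MulAction

variable {G Ω : Type*} [Group G] [MulAction G Ω] [Fintype Ω]

/-- number of fixed points of an involution -/
theorem card_fixedBy_inv (s : G) (hs : s ^ 2 = 1) :
    ∃ t : ℕ, Fintype.card Ω = Nat.card (MulAction.fixedBy Ω s) + 2 * t := by
  classical
  let σ : Equiv.Perm Ω := MulAction.toPerm s
  have hσ : σ ^ 2 = 1 := by
    show (MulAction.toPermHom G Ω s) ^ 2 = 1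
    rw [← map_pow, hs, map_one]
  obtain ⟨t, ht⟩ := Equiv.Perm.two_dvd_card_support hσ
  refine ⟨t, ?_⟩
  have h1 : Nat.card (MulAction.fixedBy Ω s) = (σ.supportᶜ).card := by
    rw [Nat.card_eq_fintype_card, ← Set.toFinset_card]
    congr 1
    ext x
    simp [σ, MulAction.mem_fixedBy]
  rw [h1, Finset.card_compl, ← ht]
  have := Finset.card_le_univ σ.support
  omega

theorem main [Finite G] (hZ : Cfsg.IsZassenhausGroup G Ω) {a b : Ω} (hab : a ≠ b) :
    (∃ s : G, orderOf s = 2 ∧ s • a = b ∧ s • b = a) ∧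
    (∀ s : G, orderOf s = 2 → s • a = b → s • b = a →
      (Odd (Fintype.card Ω) → Nat.card (MulAction.fixedBy Ω s) = 1) ∧
      (Even (Fintype.card Ω) → Nat.card (MulAction.fixedBy Ω s) = 0 ∨ Nat.card (MulAction.fixedBy Ω s) = 2)) ∧
    (Even (Fintype.card Ω) → Even (Nat.card ↥(MulAction.stabilizer G a ⊓ MulAction.stabilizer G b)) →
      ∃ s : G, orderOf s = 2 ∧ s • a = b ∧ s • b = a ∧ Nat.card (MulAction.fixedBy Ω s) = 2) := by
  classical
  obtain ⟨hfaith, h2t, h3, -, -⟩ := hZ
  rw [MulAction.is_two_pretransitive_iff] at h2t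
  -- fixed points of an involution: at most 2
  have hle2 : ∀ s : G, orderOf s = 2 → Nat.card (MulAction.fixedBy Ω s) ≤ 2 := by
    intro s hs
    by_contra hlt
    push Not at hlt
    rw [Nat.card_coe_set_eq, Set.two_lt_ncard_iff] at hlt
    obtain ⟨x, y, z, hx, hy, hz, hxy, hxz, hyz⟩ := hlt
    have := h3 s x y z hxy hyz hxz hx hy hz
    rw [this, orderOf_one] at hs
    omega
  have hconj : ∀ (t x : G), orderOf (x * t * x⁻¹) = orderOf t := by
    intro t x
    have : SemiconjBy x t (x * t * x⁻¹) := by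
      rw [SemiconjBy]; group
    exact (this.orderOf_eq x).symm
  -- conjugating an involution moving c to swap a, b
  have hmove : ∀ t : G, orderOf t = 2 → ∀ c : Ω, t • c ≠ c →
      ∃ x : G, orderOf (x * t * x⁻¹) = 2 ∧ (x * t * x⁻¹) • a = b ∧ (x * t * x⁻¹) • b = a ∧ x • c = a := by
    intro t ht c hc
    have ht2 : t ^ 2 = 1 := by rw [← ht]; exact pow_orderOf_eq_one t
    have htd : t • (t • c) = c := by rw [← mul_smul, ← pow_two, ht2, one_smul]
    obtain ⟨x, hx1, hx2⟩ := h2t (Ne.symm hc) hab
    refine ⟨x, by rw [hconj, ht], ?_, ?_, hx1⟩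
    · rw [mul_smul, mul_smul, ← hx1, inv_smul_smul, hx2]
    · rw [mul_smul, mul_smul, ← hx2, inv_smul_smul, htd, hx1]
  have part1 : ∃ s : G, orderOf s = 2 ∧ s • a = b ∧ s • b = a := by
    obtain ⟨g, hga, hgb⟩ := h2t hab (Ne.symm hab)
    have hodd : ∀ j : ℕ, g ^ (2 * j + 1) • a = b := by
      intro j
      induction j with
      | zero => simpa using hga
      | succ j ih =>
        have : 2 * (j + 1) + 1 = 2 + (2 * j + 1) := by ring
        rw [this, pow_add, mul_smul, ih, pow_two, mul_smul, hgb, hga]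
    have h2dvd : 2 ∣ orderOf g := by
      by_contra hnd
      have hodd' : orderOf g % 2 = 1 := by omega
      have := hodd (orderOf g / 2)
      have e : 2 * (orderOf g / 2) + 1 = orderOf g := by omega
      rw [e, pow_orderOf_eq_one, one_smul] at this
      exact hab this
    have h2card : 2 ∣ Nat.card G := h2dvd.trans (orderOf_dvd_natCard g)
    have : Fact (Nat.Prime 2) := ⟨Nat.prime_two⟩
    obtain ⟨t, ht⟩ := exists_prime_orderOf_dvd_card' 2 h2card
    have ht1 : t ≠ 1 := by
      rintro rfl
      rw [orderOf_one] at ht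
      omega
    obtain ⟨c, hc⟩ : ∃ c : Ω, t • c ≠ c := by
      by_contra hall
      push Not at hall
      apply ht1
      apply hfaith.eq_of_smul_eq_smul
      intro c
      rw [hall c, one_smul]
    obtain ⟨x, h1, h2, h3', -⟩ := hmove t ht c hc
    exact ⟨_, h1, h2, h3'⟩
  refine ⟨part1, ?_, ?_⟩
  · intro s hs hsa hsb
    have hs2 : s ^ 2 = 1 := by rw [← hs]; exact pow_orderOf_eq_one s
    obtain ⟨t, ht⟩ := card_fixedBy_inv (Ω := Ω) s hs2
    have hle := hle2 s hs
    constructor
    · intro hodd
      obtain ⟨j, hj⟩ := hodd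
      omega
    · intro heven
      obtain ⟨j, hj⟩ := heven
      omega
  · intro heven hHeven
    have : Fact (Nat.Prime 2) := ⟨Nat.prime_two⟩
    obtain ⟨u, hu⟩ := exists_prime_orderOf_dvd_card' (G := ↥(MulAction.stabilizer G a ⊓ MulAction.stabilizer G b)) 2
      hHeven.two_dvd
    have hu' : orderOf (u : G) = 2 := by rw [Subgroup.orderOf_coe]; exact hu
    have hua : (u : G) • a = a := u.2.1
    have hub : (u : G) • b = b := u.2.2
    have hu2 : (u : G) ^ 2 = 1 := by rw [← hu']; exact pow_orderOf_eq_one _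
    have hfixu : Nat.card (MulAction.fixedBy Ω (u : G)) = 2 := by
      apply le_antisymm (hle2 _ hu')
      rw [Nat.card_coe_set_eq]
      have : ({a, b} : Set Ω) ⊆ MulAction.fixedBy Ω (u : G) := by
        intro x hx
        rcases hx with rfl | rfl
        · exact hua
        · exact hub
      calc 2 = ({a, b} : Set Ω).ncard := (Set.ncard_pair hab).symm
        _ ≤ _ := Set.ncard_le_ncard this (Set.toFinite _)
    -- a point moved by u
    have hu1 : (u : G) ≠ 1 := by
      intro h
      rw [h, orderOf_one] at hu'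
      omega
    obtain ⟨c, hc⟩ : ∃ c : Ω, (u : G) • c ≠ c := by
      by_contra hall
      push Not at hall
      apply hu1
      apply hfaith.eq_of_smul_eq_smul
      intro c
      rw [hall c, one_smul]
    obtain ⟨x, h1, h2, h3', -⟩ := hmove (u : G) hu' c hc
    refine ⟨_, h1, h2, h3', ?_⟩
    -- fixed points of the conjugate
    rw [← hfixu]
    apply Nat.card_congr
    refine ⟨fun y => ⟨x⁻¹ • (y : Ω), ?_⟩, fun y => ⟨x • (y : Ω), ?_⟩, ?_, ?_⟩
    · have hy := y.2
      rw [MulAction.mem_fixedBy] at hy ⊢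
      rw [mul_smul, mul_smul] at hy
      have := congrArg (fun z => x⁻¹ • z) hy
      simp only [inv_smul_smul] at this
      exact this
    · have hy := y.2
      rw [MulAction.mem_fixedBy] at hy ⊢
      rw [mul_smul, mul_smul, inv_smul_smul, hy]
    · intro y
      apply Subtype.ext
      simp
    · intro y
      apply Subtype.ext
      simp


/-- In a finite Zassenhaus group any two points `a ≠ b` are swapped by an involution; every such involution has exactly one fixed point when the degree is odd and 0 or 2 fixed points when the degree is even; and if the two-point stabiliser has even order, some such involution has exactly 2 fixed points. -/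
theorem result {G Ω : Type*} [Group G] [Finite G] [MulAction G Ω] [Fintype Ω] (hZ : Cfsg.IsZassenhausGroup G Ω) {a b : Ω} (hab : a ≠ b) : (∃ s : G, orderOf s = 2 ∧ s • a = b ∧ s • b = a) ∧ (∀ s : G, orderOf s = 2 → s • a = b → s • b = a → (Odd (Fintype.card Ω) → Nat.card (MulAction.fixedBy Ω s) = 1) ∧ (Even (Fintype.card Ω) → Nat.card (MulAction.fixedBy Ω s) = 0 ∨ Nat.card (MulAction.fixedBy Ω s) = 2)) ∧ (Even (Fintype.card Ω) → Even (Nat.card ↥(MulAction.stabilizer G a ⊓ MulAction.stabilizer G b)) → ∃ s : G, orderOf s = 2 ∧ s • a = b ∧ s • b = a ∧ Nat.card (MulAction.fixedBy Ω s) = 2) := by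
  exact main hZ hab

end Cfsg.Agent.S0740
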