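import Cfsg.Statements.S0680
import Mathlib
import Cfsg.Statements.S0680

set_option autoImplicit false
open Cfsg

namespace Cfsg.Agent.S0680

section gen

variable {G α : Type*} [Group G] [Fintype G] [MulAction G α] [Fintype α] [DecidableEq α]
  (H2T : ∀ a b c d : α, a ≠ b → c ≠ d → ∃ g : G, g • a = c ∧ g • b = d)
  (HS : ∀ (g : G) (a b : α), a ≠ b → g • a = a → g • b = b → g = 1)
  (hn : 2 ≤ Fintype.card α)

include H2T HS hn in
theorem card_G : Fintype.card G = Fintype.card α * (Fintype.card α - 1) := by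
  have : Nontrivial α := Fintype.one_lt_card_iff_nontrivial.mp (by omega)
  obtain ⟨a₀, b₀, hab⟩ := exists_pair_ne α
  have h1 : (Finset.univ : Finset G).image (fun g => (g • a₀, g • b₀)) = (Finset.univ : Finset α).offDiag := by
    ext ⟨c, d⟩
    simp only [Finset.mem_image, Finset.mem_univ, true_and, Finset.mem_offDiag, Prod.mk.injEq]
    constructor
    · rintro ⟨g, rfl, rfl⟩
      intro h
      exact hab (MulAction.injective g h)
    · intro hcd
      obtain ⟨g, h1, h2⟩ := H2T a₀ b₀ c d hab hcd
      exact ⟨g, h1, h2⟩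
  have h2 : Function.Injective (fun g : G => (g • a₀, g • b₀)) := by
    intro g g' hgg
    simp only [Prod.mk.injEq] at hgg
    have h3 : (g'⁻¹ * g) • a₀ = a₀ := by rw [mul_smul, hgg.1, inv_smul_smul]
    have h4 : (g'⁻¹ * g) • b₀ = b₀ := by rw [mul_smul, hgg.2, inv_smul_smul]
    have := HS _ a₀ b₀ hab h3 h4
    exact (inv_mul_eq_one.mp this).symm
  have h3 := Finset.card_image_of_injective (Finset.univ : Finset G) h2
  rw [h1, Finset.offDiag_card, Finset.card_univ, Finset.card_univ] at h3
  rw [← h3, Nat.mul_sub, mul_one]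

include H2T hn in
theorem pretrans : MulAction.IsPretransitive G α := by
  have : Nontrivial α := Fintype.one_lt_card_iff_nontrivial.mp (by omega)
  constructor
  intro a c
  obtain ⟨b, hb⟩ := exists_ne a
  obtain ⟨d, hd⟩ := exists_ne c
  obtain ⟨g, h1, _⟩ := H2T a b c d hb.symm hd.symm
  exact ⟨g, h1⟩

/-- fixed-point-free elements -/
def S0 (G α : Type*) [Group G] [Fintype G] [MulAction G α] [Fintype α] [DecidableEq α] : Finset G :=
  Finset.univ.filter (fun g : G => ∀ a : α, g • a ≠ a)

theorem mem_S0 (g : G) : g ∈ S0 G α ↔ ∀ a : α, g • a ≠ a := by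
  unfold S0
  simp

include H2T HS hn in
theorem card_S0 : (S0 G α).card + 1 = Fintype.card α := by
  classical
  have : Nontrivial α := Fintype.one_lt_card_iff_nontrivial.mp (by omega)
  have hpt := pretrans H2T hn
  have hB := MulAction.sum_card_fixedBy_eq_card_orbits_mul_card_group G α
  have hq : Fintype.card (Quotient (MulAction.orbitRel G α)) = 1 := by
    rw [Fintype.card_eq_one_iff]
    obtain ⟨a⟩ : Nonempty α := inferInstance
    refine ⟨Quotient.mk'' a, ?_⟩
    intro y
    induction y using Quotient.inductionOn' with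
    | h b =>
      apply Quotient.sound'
      exact MulAction.exists_smul_eq G a b
  rw [hq, one_mul] at hB
  have hterm : ∀ g : G, Fintype.card (MulAction.fixedBy α g) + (if g ∈ S0 G α then 1 else 0) =
      1 + (if g = 1 then Fintype.card α - 1 else 0) := by
    intro g
    by_cases hg1 : g = 1
    · subst hg1
      have h1 : (1 : G) ∉ S0 G α := by
        rw [mem_S0]
        push Not
        obtain ⟨a⟩ : Nonempty α := inferInstance
        exact ⟨a, one_smul _ _⟩
      rw [if_neg h1, if_pos rfl]
      have : Fintype.card (MulAction.fixedBy α (1 : G)) = Fintype.card α := by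
        apply Fintype.card_of_subtype Finset.univ
        intro x
        simp
      rw [this]
      omega
    · rw [if_neg hg1]
      by_cases hg : g ∈ S0 G α
      · rw [if_pos hg]
        have : Fintype.card (MulAction.fixedBy α g) = 0 := by
          rw [Fintype.card_eq_zero_iff]
          constructor
          rintro ⟨a, ha⟩
          exact (mem_S0 g).mp hg a ha
        rw [this]
      · rw [if_neg hg]
        rw [mem_S0] at hg
        push Not at hg
        obtain ⟨a, ha⟩ := hg
        have : Fintype.card (MulAction.fixedBy α g) = 1 := by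
          rw [Fintype.card_eq_one_iff]
          refine ⟨⟨a, ha⟩, ?_⟩
          rintro ⟨b, hb⟩
          apply Subtype.ext
          by_contra hne
          exact hg1 (HS g a b (fun h => hne h.symm) ha hb)
        rw [this]
  have hsum := Finset.sum_congr (rfl : (Finset.univ : Finset G) = Finset.univ) (fun g _ => hterm g)
  rw [Finset.sum_add_distrib, Finset.sum_add_distrib, hB] at hsum
  simp only [Finset.sum_ite_mem, Finset.univ_inter, Finset.sum_const, smul_eq_mul, mul_one,
    Finset.sum_ite_eq', Finset.mem_univ, if_true, Finset.card_univ] at hsum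
  omega

include H2T HS hn in
theorem lemmaA (x : G) (hx : x ∈ S0 G α) :
    (∀ g : G, g * x = x * g ↔ (g = 1 ∨ ∀ a : α, g • a ≠ a)) ∧
    (∀ y ∈ S0 G α, ∃ g : G, g * x * g⁻¹ = y) := by
  classical
  have : Nontrivial α := Fintype.one_lt_card_iff_nontrivial.mp (by omega)
  obtain ⟨a₀⟩ : Nonempty α := inferInstance
  have hxa := (mem_S0 x).mp hx
  -- centraliser is semiregular
  have hsemi : ∀ g : G, g * x = x * g → g ≠ 1 → ∀ a : α, g • a ≠ a := by
    intro g hg hg1 a ha
    apply hg1
    apply HS g a (x • a) (fun h => hxa a h.symm) ha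
    rw [← mul_smul, hg, mul_smul, ha]
  let C : Finset G := Finset.univ.filter (fun g => g * x = x * g)
  have hCmem : ∀ g, g ∈ C ↔ g * x = x * g := by
    intro g; simp [C]
  have hCcard : C.card ≤ Fintype.card α := by
    rw [← Finset.card_univ]
    apply Finset.card_le_card_of_injOn (fun g => g • a₀)
    · intro g _; exact Finset.mem_univ _
    · intro g hg g' hg' hgg
      have hg := (hCmem g).mp hg
      have hg' := (hCmem g').mp hg'
      simp only at hgg
      by_contra hne
      have h1 : (g'⁻¹ * g) * x = x * (g'⁻¹ * g) :=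
        ((Commute.inv_left (show Commute g' x from hg')).mul_left (show Commute g x from hg)).eq
      have h2 : g'⁻¹ * g ≠ 1 := fun h => hne (inv_mul_eq_one.mp h).symm
      exact hsemi _ h1 h2 a₀ (by rw [mul_smul, hgg, inv_smul_smul])
  -- conjugates
  have hconj : ∀ g : G, g * x * g⁻¹ ∈ S0 G α := by
    intro g
    rw [mem_S0]
    intro a ha
    apply hxa (g⁻¹ • a)
    rw [mul_smul, mul_smul] at ha
    have h := congrArg (fun b => g⁻¹ • b) ha
    simpa using h
  have hT : ∀ y : G, (Finset.univ.filter (fun g : G => g * x * g⁻¹ = y)).card ≤ C.card := by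
    intro y
    by_cases hne : (Finset.univ.filter (fun g : G => g * x * g⁻¹ = y)).Nonempty
    · obtain ⟨g₀, hg₀⟩ := hne
      rw [Finset.mem_filter] at hg₀
      apply Finset.card_le_card_of_injOn (fun g => g₀⁻¹ * g)
      · intro g hg
        have hg := (Finset.mem_filter.mp hg).2
        rw [Finset.mem_coe, hCmem]
        have : g * x * g⁻¹ = g₀ * x * g₀⁻¹ := by rw [hg₀.2, hg]
        calc g₀⁻¹ * g * x = g₀⁻¹ * (g * x * g⁻¹) * g := by group
          _ = g₀⁻¹ * (g₀ * x * g₀⁻¹) * g := by rw [this]
          _ = x * (g₀⁻¹ * g) := by group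
      · intro g _ g' _ hgg
        exact mul_left_cancel hgg
    · rw [Finset.not_nonempty_iff_eq_empty.mp hne]
      simp
  have hGsum : Fintype.card G = ∑ y ∈ S0 G α, (Finset.univ.filter (fun g : G => g * x * g⁻¹ = y)).card := by
    rw [← Finset.card_univ]
    exact Finset.card_eq_sum_card_fiberwise (fun g _ => hconj g)
  have hcardG := card_G H2T HS hn
  have hcardS := card_S0 H2T HS hn
  have hCn : C.card = Fintype.card α := by
    by_contra hne
    have hlt : C.card < Fintype.card α := lt_of_le_of_ne hCcard hne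
    have h1 : Fintype.card G ≤ (S0 G α).card * C.card := by
      rw [hGsum]
      calc _ ≤ ∑ _y ∈ S0 G α, C.card := Finset.sum_le_sum (fun y _ => hT y)
        _ = _ := by rw [Finset.sum_const, smul_eq_mul]
    rw [hcardG] at h1
    have h2 : (S0 G α).card = Fintype.card α - 1 := by omega
    rw [h2] at h1
    have h3 : 0 < Fintype.card α - 1 := by omega
    have h4 : (Fintype.card α - 1) * C.card < (Fintype.card α - 1) * Fintype.card α :=
      Nat.mul_lt_mul_of_pos_left hlt h3
    rw [mul_comm (Fintype.card α)] at h1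
    omega
  have hCsub : C ⊆ insert 1 (S0 G α) := by
    intro g hg
    rw [Finset.mem_insert, mem_S0]
    by_cases hg1 : g = 1
    · exact Or.inl hg1
    · exact Or.inr (hsemi g ((hCmem g).mp hg) hg1)
  have h1S : (1 : G) ∉ S0 G α := by
    rw [mem_S0]
    push Not
    exact ⟨a₀, one_smul _ _⟩
  have hCeq : C = insert 1 (S0 G α) := by
    apply Finset.eq_of_subset_of_card_le hCsub
    rw [Finset.card_insert_of_notMem h1S, hCn, hcardS]
  refine ⟨?_, ?_⟩
  · intro g
    rw [← hCmem, hCeq, Finset.mem_insert, mem_S0]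
  · intro y hy
    by_contra hne
    push Not at hne
    have hy0 : (Finset.univ.filter (fun g : G => g * x * g⁻¹ = y)).card = 0 := by
      rw [Finset.card_eq_zero, Finset.filter_eq_empty_iff]
      intro g _
      exact hne g
    have h1 : Fintype.card G < (S0 G α).card * C.card := by
      rw [hGsum]
      calc _ < ∑ _y ∈ S0 G α, C.card := by
            apply Finset.sum_lt_sum (fun y _ => hT y)
            refine ⟨y, hy, ?_⟩
            rw [hy0, hCn]
            omega
        _ = _ := by rw [Finset.sum_const, smul_eq_mul]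
    rw [hcardG, hCn] at h1
    have h2 : (S0 G α).card = Fintype.card α - 1 := by omega
    rw [h2, mul_comm] at h1
    exact lt_irrefl _ h1

include H2T HS hn in
theorem structure_thm : ∃ (K : Subgroup G) (p j : ℕ), p.Prime ∧ 1 ≤ j ∧ Fintype.card α = p ^ j ∧
    (∀ g, g ∈ K ↔ g = 1 ∨ ∀ a : α, g • a ≠ a) ∧ K.Normal ∧ (∀ y ∈ K, ∀ z ∈ K, y * z = z * y) ∧
    (∀ y ∈ K, y ^ p = 1) ∧ Nat.card K = Fintype.card α := by
  classical
  have : Nontrivial α := Fintype.one_lt_card_iff_nontrivial.mp (by omega)
  obtain ⟨a₀⟩ : Nonempty α := inferInstance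
  have hcardS := card_S0 H2T HS hn
  have hne : (S0 G α).Nonempty := by
    rw [← Finset.card_pos]; omega
  obtain ⟨x₀, hx₀⟩ := hne
  have h1S : (1 : G) ∉ S0 G α := by
    rw [mem_S0]
    push Not
    exact ⟨a₀, one_smul _ _⟩
  let K : Subgroup G := Subgroup.centralizer {x₀}
  have hK : ∀ g, g ∈ K ↔ g = 1 ∨ ∀ a : α, g • a ≠ a := by
    intro g
    rw [Subgroup.mem_centralizer_singleton_iff]
    exact (lemmaA H2T HS hn x₀ hx₀).1 g
  have hKcard : Nat.card K = Fintype.card α := by
    rw [Nat.card_eq_fintype_card, Fintype.card_of_subtype (insert 1 (S0 G α)), Finset.card_insert_of_notMem h1S,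
      hcardS]
    intro g
    rw [Finset.mem_insert, mem_S0, hK]
  have hnormal : K.Normal := by
    constructor
    intro g hg h
    rw [hK] at hg ⊢
    rcases hg with rfl | hg
    · left; simp
    · right
      intro a ha
      apply hg (h⁻¹ • a)
      rw [mul_smul, mul_smul] at ha
      have h' := congrArg (fun b => h⁻¹ • b) ha
      simpa using h'
  have hcomm : ∀ y ∈ K, ∀ z ∈ K, y * z = z * y := by
    intro y hy z hz
    rw [hK] at hy
    rcases hy with rfl | hy
    · simp
    · have hy' : y ∈ S0 G α := (mem_S0 y).mpr hy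
      exact (((lemmaA H2T HS hn y hy').1 z).mpr ((hK z).mp hz)).symm
  obtain ⟨p, hp, hpdvd⟩ := Nat.exists_prime_and_dvd (show Fintype.card α ≠ 1 by omega)
  haveI : Fact p.Prime := ⟨hp⟩
  obtain ⟨y₀, hy₀⟩ := exists_prime_orderOf_dvd_card' (G := K) p (by rw [hKcard]; exact hpdvd)
  have hy₀1 : (y₀ : G) ≠ 1 := by
    intro h
    have : y₀ = 1 := Subtype.ext h
    rw [this, orderOf_one] at hy₀
    exact hp.one_lt.ne hy₀
  have hy₀S : (y₀ : G) ∈ S0 G α := by
    rw [mem_S0]
    rcases (hK y₀).mp y₀.2 with h | h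
    · exact absurd h hy₀1
    · exact h
  have hy₀p : (y₀ : G) ^ p = 1 := by
    have : y₀ ^ p = 1 := by rw [← hy₀]; exact pow_orderOf_eq_one y₀
    have := congrArg Subtype.val this
    simpa using this
  have hexp : ∀ y ∈ K, y ^ p = 1 := by
    intro y hy
    rcases (hK y).mp hy with rfl | hy'
    · simp
    · obtain ⟨g, hg⟩ := (lemmaA H2T HS hn _ hy₀S).2 y ((mem_S0 y).mpr hy')
      rw [← hg, conj_pow, hy₀p]
      simp
  have hpg : IsPGroup p K := by
    intro g
    refine ⟨1, ?_⟩
    apply Subtype.ext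
    rw [pow_one]
    simpa using hexp g g.2
  obtain ⟨j, hj⟩ := (IsPGroup.iff_card).mp hpg
  rw [hKcard] at hj
  have hj1 : 1 ≤ j := by
    by_contra h
    have : j = 0 := by omega
    rw [this, pow_zero] at hj
    omega
  exact ⟨K, p, j, hp, hj1, hj, hK, hnormal, hcomm, hexp, hKcard⟩

end gen

theorem emb2 {α : Type*} (a b : α) (hab : a ≠ b) : Function.Injective (![a, b] : Fin 2 → α) := by
  intro i j hij
  fin_cases i <;> fin_cases j
  · rfl
  · exact absurd hij hab
  · exact absurd hij.symm hab
  · rfl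

theorem main {α : Type*} [Fintype α] [DecidableEq α] (G : Subgroup (Equiv.Perm α))
    [MulAction.IsMultiplyPretransitive G α 2]
    (hsharp : ∀ x : Fin 2 ↪ α, MulAction.stabilizer G x = ⊥) (h2 : 2 ≤ Fintype.card α) :
    ∃ p j : ℕ, p.Prime ∧ 1 ≤ j ∧ Fintype.card α = p ^ j ∧ ∀ (hp : Fact p.Prime) (P : Sylow p G),
      (P : Subgroup G).Normal ∧ IsMulCommutative (P : Subgroup G) ∧ (∀ x ∈ (P : Subgroup G), x ^ p = 1) ∧
      MulAction.IsPretransitive (P : Subgroup G) α ∧
      (∀ a : α, MulAction.stabilizer (P : Subgroup G) a = ⊥) ∧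
      ∀ g : G, g ∈ (P : Subgroup G) ↔ g = 1 ∨ ∀ a : α, g • a ≠ a := by
  classical
  have H2T : ∀ a b c d : α, a ≠ b → c ≠ d → ∃ g : G, g • a = c ∧ g • b = d := by
    intro a b c d hab hcd
    let x : Fin 2 ↪ α := ⟨![a, b], emb2 a b hab⟩
    let y : Fin 2 ↪ α := ⟨![c, d], emb2 c d hcd⟩
    obtain ⟨g, hg⟩ := MulAction.exists_smul_eq G x y
    refine ⟨g, ?_, ?_⟩
    · have := congrArg (fun f : Fin 2 ↪ α => f 0) hg
      exact this
    · have := congrArg (fun f : Fin 2 ↪ α => f 1) hg
      exact this
  have HS : ∀ (g : G) (a b : α), a ≠ b → g • a = a → g • b = b → g = 1 := by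
    intro g a b hab ha hb
    let x : Fin 2 ↪ α := ⟨![a, b], emb2 a b hab⟩
    have : g ∈ MulAction.stabilizer G x := by
      rw [MulAction.mem_stabilizer_iff]
      ext i
      fin_cases i
      · exact ha
      · exact hb
    rw [hsharp x] at this
    exact Subgroup.mem_bot.mp this
  obtain ⟨K, p, j, hp, hj1, hj, hK, hnormal, hcomm, hexp, hKcard⟩ := structure_thm H2T HS h2
  refine ⟨p, j, hp, hj1, hj, ?_⟩
  intro hpf P
  -- K is a p-group
  have hpg : IsPGroup p K := by
    intro g
    refine ⟨1, ?_⟩
    apply Subtype.ext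
    rw [pow_one]
    simpa using hexp g g.2
  have hle : K ≤ (P : Subgroup G) := IsPGroup.le_sylow_of_normal hpg P
  have hPK : K = (P : Subgroup G) := by
    apply Subgroup.eq_of_le_of_card_ge hle
    -- card P ≤ card K
    obtain ⟨k, hk⟩ := (IsPGroup.iff_card).mp P.isPGroup'
    have hdvd : Nat.card (P : Subgroup G) ∣ Nat.card G := Subgroup.card_subgroup_dvd_card _
    rw [Nat.card_eq_fintype_card (α := G), card_G H2T HS h2, hk, hj] at hdvd
    have hcop : Nat.Coprime (p ^ k) (p ^ j - 1) := by
      apply Nat.Coprime.pow_left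
      rw [Nat.Prime.coprime_iff_not_dvd hp]
      intro hd
      have h1 : p ∣ p ^ j := dvd_pow_self p (by omega)
      have h3 : 0 < p ^ j := pow_pos hp.pos j
      have h2 : p ∣ p ^ j - (p ^ j - 1) := Nat.dvd_sub h1 hd
      have h4 : p ^ j - (p ^ j - 1) = 1 := by omega
      rw [h4] at h2
      exact hp.one_lt.ne' (Nat.dvd_one.mp h2)
    have := hcop.dvd_of_dvd_mul_right hdvd
    rw [hk, hKcard, hj]
    exact Nat.le_of_dvd (pow_pos hp.pos j) this
  rw [← hPK]
  refine ⟨hnormal, ⟨⟨fun a b => Subtype.ext (hcomm a a.2 b b.2)⟩⟩, hexp, ?_, ?_, hK⟩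
  · -- transitive
    have : Nontrivial α := Fintype.one_lt_card_iff_nontrivial.mp (by omega)
    constructor
    intro a b
    have hinj : Function.Injective (fun k : K => (k : G) • a) := by
      intro k k' hkk
      simp only at hkk
      by_contra hne
      have h1 : (k'⁻¹ * k : K) ≠ 1 := fun h => hne (inv_mul_eq_one.mp h).symm
      have h3 : ((k'⁻¹ * k : K) : G) ≠ 1 := fun h => h1 (Subtype.ext h)
      rcases (hK _).mp (k'⁻¹ * k : K).2 with h | h
      · exact h3 h
      · apply h a
        show ((k'⁻¹ * k : K) : G) • a = a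
        rw [Subgroup.coe_mul, mul_smul, hkk, Subgroup.coe_inv, inv_smul_smul]
    have hbij : Function.Bijective (fun k : K => (k : G) • a) := by
      have : Finite K := inferInstance
      apply Function.Injective.bijective_of_nat_card_le hinj
      rw [hKcard, Nat.card_eq_fintype_card]
    obtain ⟨k, hk⟩ := hbij.2 b
    exact ⟨k, hk⟩
  · intro a
    rw [eq_bot_iff]
    intro k hk
    rw [MulAction.mem_stabilizer_iff] at hk
    rw [Subgroup.mem_bot]
    rcases (hK _).mp k.2 with h | h
    · exact Subtype.ext h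
    · exact absurd hk (h a)


/-- A finite sharply doubly transitive permutation group has degree a prime power `p ^ j`; a Sylow `p`-subgroup is normal, elementary abelian and regular, and consists of the identity together with the elements without fixed points. (Frobenius' Theorem is not needed.) -/
theorem result {α : Type*} [Fintype α] [DecidableEq α] (G : Subgroup (Equiv.Perm α)) [MulAction.IsMultiplyPretransitive G α 2] (hsharp : ∀ x : Fin 2 ↪ α, MulAction.stabilizer G x = ⊥) (h2 : 2 ≤ Fintype.card α) : ∃ p j : ℕ, p.Prime ∧ 1 ≤ j ∧ Fintype.card α = p ^ j ∧ ∀ (hp : Fact p.Prime) (P : Sylow p G), (P : Subgroup G).Normal ∧ IsMulCommutative (P : Subgroup G) ∧ (∀ x ∈ (P : Subgroup G), x ^ p = 1) ∧ MulAction.IsPretransitive (P : Subgroup G) α ∧ (∀ a : α, MulAction.stabilizer (P : Subgroup G) a = ⊥) ∧ ∀ g : G, g ∈ (P : Subgroup G) ↔ g = 1 ∨ ∀ a : α, g • a ≠ a := by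
  exact main G hsharp h2

end Cfsg.Agent.S0680
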