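import Mathlib
import Cfsg.Statements.S0842
import Cfsg.Agent.Lib.Helper21.QuatSylow

set_option autoImplicit false
open Cfsg

namespace Cfsg.Agent.S0842

open Cfsg.Agent.Lib.Helper21

/-- Suppose a Sylow 2-subgroup S of the finite group G is generalized quaternion of order at least 16, and let D be the commutator subgroup of S, C its centralizer and N its normalizer in G. Then there is a subgroup K of odd order, contained in C and normalized by N, with K ⊔ S = N and K ⊔ (S ⊓ C) = C, and C has index 2 in N. -/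
theorem result {G : Type*} [Group G] [Finite G] (S : Sylow 2 G) (n : ℕ) (e : (S : Subgroup G) ≃* QuaternionGroup (2 ^ (n + 2))) (D : Subgroup G) (hD : D = ⁅(S : Subgroup G), (S : Subgroup G)⁆) : ∃ K : Subgroup G, Odd (Nat.card K) ∧ K ≤ Subgroup.centralizer (D : Set G) ∧ Subgroup.normalizer (D : Set G) ≤ Subgroup.normalizer (K : Set G) ∧ K ⊔ (S : Subgroup G) = Subgroup.normalizer (D : Set G) ∧ K ⊔ ((S : Subgroup G) ⊓ Subgroup.centralizer (D : Set G)) = Subgroup.centralizer (D : Set G) ∧ ((Subgroup.centralizer (D : Set G)).subgroupOf (Subgroup.normalizer (D : Set G))).index = 2 := by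
  classical
  haveI : Fact (Nat.Prime 2) := ⟨Nat.prime_two⟩
  haveI : NeZero (2 ^ (n + 2)) := ⟨by positivity⟩
  have hN : 2 < 2 ^ (n + 2) := by
    have : 2 ^ 2 ≤ 2 ^ (n + 2) := Nat.pow_le_pow_right (by norm_num) (by omega)
    omega
  subst hD
  set D : Subgroup G := ⁅(S : Subgroup G), (S : Subgroup G)⁆ with hD
  set Nn := Subgroup.normalizer (D : Set G) with hNn
  set C := Subgroup.centralizer (D : Set G) with hC
  set A := Subgroup.zpowers (quatGen (S : Subgroup G) e) with hA
  have hcent : (S : Subgroup G) ⊓ C = A := quat_centralizer_eq hN (S : Subgroup G) e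
  have hDA : D ≤ A := quat_commutator_le_zpowers (S : Subgroup G) e
  have hAS : A ≤ (S : Subgroup G) := by rw [← hcent]; exact inf_le_left
  have hDS : D ≤ (S : Subgroup G) := hDA.trans hAS
  have hCN : C ≤ Nn := Subgroup.centralizer_le_normalizer _
  have hDN : D ≤ Nn := Subgroup.le_normalizer
  -- S normalizes D
  have hSN : (S : Subgroup G) ≤ Nn := by
    have h1 : D.subgroupOf (S : Subgroup G) = commutator (S : Subgroup G) := by
      rw [hD, ← Subgroup.map_subtype_commutator, Subgroup.subgroupOf,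
        Subgroup.comap_map_eq_self_of_injective (Subgroup.subtype_injective _)]
    haveI : (D.subgroupOf (S : Subgroup G)).Normal := by rw [h1]; infer_instance
    exact Subgroup.le_normalizer_of_normal_subgroupOf hDS
  have hAN : A ≤ Nn := hAS.trans hSN
  -- pass to H = N_G(D)
  set SH : Sylow 2 ↥Nn := S.subtype hSN with hSH
  have hSHcoe : (SH : Subgroup ↥Nn) = (S : Subgroup G).subgroupOf Nn := Sylow.coe_subtype S hSN
  set DH : Subgroup ↥Nn := D.subgroupOf Nn with hDH
  haveI hDHn : DH.Normal := Subgroup.normal_in_normalizer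
  haveI hAcycG : IsCyclic A := by rw [hA]; infer_instance
  have hDcycG : IsCyclic D := Subgroup.isCyclic_of_le hDA
  have hDHcyc : IsCyclic DH := (Subgroup.subgroupOfEquivOfLe hDN).isCyclic.mpr hDcycG
  have hDHS : DH ≤ (SH : Subgroup ↥Nn) := by
    rw [hSHcoe]; exact Subgroup.comap_mono hDS
  -- centralizer in H
  have hCH : Subgroup.centralizer (DH : Set ↥Nn) = C.subgroupOf Nn := by
    ext x
    rw [Subgroup.mem_subgroupOf, Subgroup.mem_centralizer_iff, Subgroup.mem_centralizer_iff]
    constructor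
    · intro h d hd
      have := h ⟨d, hDN hd⟩ (by rw [hDH]; exact Subgroup.mem_subgroupOf.mpr hd)
      exact congrArg Subtype.val this
    · intro h d hd
      apply Subtype.ext
      exact h d (Subgroup.mem_subgroupOf.mp hd)
  have hAH : (SH : Subgroup ↥Nn) ⊓ Subgroup.centralizer (DH : Set ↥Nn) = A.subgroupOf Nn := by
    rw [hCH, hSHcoe, ← hcent]
    ext x
    simp only [Subgroup.mem_inf, Subgroup.mem_subgroupOf]
  have hAHcyc : IsCyclic ↥((SH : Subgroup ↥Nn) ⊓ Subgroup.centralizer (DH : Set ↥Nn)) := by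
    rw [hAH]
    exact (Subgroup.subgroupOfEquivOfLe hAN).isCyclic.mpr hAcycG
  have hidx : ((SH : Subgroup ↥Nn) ⊓ Subgroup.centralizer (DH : Set ↥Nn)).relIndex
      (SH : Subgroup ↥Nn) = 2 := by
    rw [hAH, hSHcoe, Subgroup.relIndex_subgroupOf hSN]
    exact quat_relIndex (S : Subgroup G) e
  obtain ⟨KH, hKHn, hKHodd, hKHC, hKHS, hKHA, hCi⟩ :=
    quat_lemmaX SH DH hDHcyc hDHS hAHcyc hidx
  refine ⟨KH.map Nn.subtype, ?_, ?_, ?_, ?_, ?_, ?_⟩
  · rw [Subgroup.card_map_of_injective Nn.subtype_injective]; exact hKHodd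
  · rintro _ ⟨k, hk, rfl⟩
    have := hKHC hk
    rw [hCH, Subgroup.mem_subgroupOf] at this
    exact this
  · have h1 : (KH.map Nn.subtype).subgroupOf Nn = KH := by
      rw [Subgroup.subgroupOf, Subgroup.comap_map_eq_self_of_injective Nn.subtype_injective]
    haveI : ((KH.map Nn.subtype).subgroupOf Nn).Normal := by rw [h1]; exact hKHn
    exact Subgroup.le_normalizer_of_normal_subgroupOf (Subgroup.map_subtype_le _)
  · have h2 := congrArg (Subgroup.map Nn.subtype) hKHS
    rw [Subgroup.map_sup, hSHcoe, Subgroup.subgroupOf_map_subtype, ← MonoidHom.range_eq_map,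
      Subgroup.range_subtype, inf_eq_left.mpr hSN] at h2
    exact h2
  · have h2 := congrArg (Subgroup.map Nn.subtype) hKHA
    rw [Subgroup.map_sup, hAH, hCH, Subgroup.subgroupOf_map_subtype, Subgroup.subgroupOf_map_subtype,
      inf_eq_left.mpr hAN, inf_eq_left.mpr hCN, ← hcent] at h2
    exact h2
  · rw [← hCH]; exact hCi

end Cfsg.Agent.S0842
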