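import Mathlib
import Cfsg.Statements.S0843
import Cfsg.Agent.Lib.Helper21.QuatSylow2

set_option autoImplicit false
open Cfsg

namespace Cfsg.Agent.S0843

open Cfsg.Agent.Lib.Helper21

section
variable {G : Type*} [Group G] [Finite G]

/-- key step: an element of `C(D)` whose order is divisible by `|D|` has `D ≤ ⟨y⟩` -/
theorem le_zpowers {N : ℕ} [NeZero N] (S : Sylow 2 G) (e : (S : Subgroup G) ≃* QuaternionGroup N)
    (D : Subgroup G) (hDS : D ≤ (S : Subgroup G)) (hDab : ∀ x ∈ D, ∀ y ∈ D, x * y = y * x)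
    (y : G) (hy : y ∈ Subgroup.centralizer (D : Set G)) (hdvd : Nat.card D ∣ orderOf y) :
    D ≤ Subgroup.zpowers y := by
  haveI : Fact (Nat.Prime 2) := ⟨Nat.prime_two⟩
  have hD2 : IsPGroup 2 D := S.isPGroup'.to_le hDS
  obtain ⟨j, hj⟩ := IsPGroup.iff_card.mp hD2
  obtain ⟨k, m, hm, hkm⟩ := Nat.exists_eq_two_pow_mul_odd (orderOf_pos y).ne'
  set y₂ := y ^ m with hy₂
  have hm0 : m ≠ 0 := by rintro rfl; simp at hm
  have ho : orderOf y₂ = 2 ^ k := by
    rw [hy₂, orderOf_pow' y hm0, hkm]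
    have hg : Nat.gcd (2 ^ k * m) m = m := Nat.gcd_eq_right (dvd_mul_left _ _)
    rw [hg, Nat.mul_div_cancel _ (Nat.pos_of_ne_zero hm0)]
  have hdvd2 : Nat.card D ∣ 2 ^ k := by
    rw [hkm] at hdvd
    apply Nat.Coprime.dvd_of_dvd_mul_right _ hdvd
    rw [hj]
    exact Nat.Coprime.pow_left j (Nat.coprime_two_left.mpr hm)
  set Y := Subgroup.zpowers y₂ with hY
  have hYcard : Nat.card Y = 2 ^ k := by rw [hY, Nat.card_zpowers, ho]
  have hY2 : IsPGroup 2 Y := IsPGroup.of_card hYcard
  have hy₂C : y₂ ∈ Subgroup.centralizer (D : Set G) := Subgroup.pow_mem _ hy m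
  have hYC : Y ≤ Subgroup.centralizer (D : Set G) := by
    rw [hY, Subgroup.zpowers_le]; exact hy₂C
  have hYN : Y ≤ Subgroup.normalizer (D : Set G) :=
    hYC.trans (Subgroup.centralizer_le_normalizer _)
  have hB2 : IsPGroup 2 (Y ⊔ D : Subgroup G) := hY2.to_sup_of_normal_right' hD2 hYN
  have hDD : D ≤ Subgroup.centralizer (D : Set G) := by
    intro x hx
    rw [Subgroup.mem_centralizer_iff]
    intro d hd
    exact hDab d hd x hx
  have hYY : Y ≤ Subgroup.centralizer (Y : Set G) := by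
    intro x hx
    rw [Subgroup.mem_centralizer_iff]
    intro d hd
    obtain ⟨i, rfl⟩ := Subgroup.mem_zpowers_iff.mp hx
    obtain ⟨i', rfl⟩ := Subgroup.mem_zpowers_iff.mp hd
    exact ((Commute.refl y₂).zpow_zpow i' i).eq
  have hBB : (Y ⊔ D : Subgroup G) ≤ Subgroup.centralizer ((Y ⊔ D : Subgroup G) : Set G) := by
    apply sup_le
    · rw [Subgroup.le_centralizer_iff]
      exact sup_le hYY (Subgroup.le_centralizer_iff.mp hYC)
    · rw [Subgroup.le_centralizer_iff]
      exact sup_le hYC hDD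
  have hBab : ∀ x ∈ (Y ⊔ D : Subgroup G), ∀ z ∈ (Y ⊔ D : Subgroup G), x * z = z * x := by
    intro x hx z hz
    exact (Subgroup.mem_centralizer_iff.mp (hBB hz) x hx)
  have hBcyc := quat_abelian_cyclic S e (Y ⊔ D) hB2 hBab
  have hDY : D ≤ Y := cyclic_le_of_card_dvd' (Y ⊔ D) D Y hBcyc le_sup_right le_sup_left
    (by rw [hYcard]; exact hdvd2)
  refine hDY.trans ?_
  rw [hY, Subgroup.zpowers_le]
  exact Subgroup.pow_mem _ (Subgroup.mem_zpowers y) m

end

/-- Suppose a Sylow 2-subgroup S of the finite group G is generalized quaternion of order at least 16; let D be the commutator subgroup of S and X the set of elements of the centralizer of D whose order is divisible by the order of D. Then D is contained in the cyclic subgroup generated by any element of X; an element of G conjugating some element of X into the centralizer of D normalizes D; and the normalizer of D maps X to itself under conjugation. -/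
theorem result {G : Type*} [Group G] [Finite G] (S : Sylow 2 G) (n : ℕ) (e : (S : Subgroup G) ≃* QuaternionGroup (2 ^ (n + 2))) (D : Subgroup G) (hD : D = ⁅(S : Subgroup G), (S : Subgroup G)⁆) : (∀ y : G, y ∈ Subgroup.centralizer (D : Set G) → Nat.card D ∣ orderOf y → D ≤ Subgroup.zpowers y) ∧ (∀ g y : G, y ∈ Subgroup.centralizer (D : Set G) → Nat.card D ∣ orderOf y → g * y * g⁻¹ ∈ Subgroup.centralizer (D : Set G) → g ∈ Subgroup.normalizer (D : Set G)) ∧ (∀ g y : G, g ∈ Subgroup.normalizer (D : Set G) → y ∈ Subgroup.centralizer (D : Set G) → Nat.card D ∣ orderOf y → g * y * g⁻¹ ∈ Subgroup.centralizer (D : Set G) ∧ Nat.card D ∣ orderOf (g * y * g⁻¹)) := by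
  classical
  haveI : Fact (Nat.Prime 2) := ⟨Nat.prime_two⟩
  haveI : NeZero (2 ^ (n + 2)) := ⟨by positivity⟩
  have hDA : D ≤ Subgroup.zpowers (quatGen (S : Subgroup G) e) := by
    rw [hD]; exact quat_commutator_le_zpowers (S : Subgroup G) e
  have hDS : D ≤ (S : Subgroup G) := hDA.trans (by
    rw [Subgroup.zpowers_le]; exact quatGen_mem _ e)
  have hDab : ∀ x ∈ D, ∀ y ∈ D, x * y = y * x := by
    intro x hx y hy
    obtain ⟨i, rfl⟩ := Subgroup.mem_zpowers_iff.mp (hDA hx)
    obtain ⟨i', rfl⟩ := Subgroup.mem_zpowers_iff.mp (hDA hy)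
    exact ((Commute.refl _).zpow_zpow i i').eq
  have key := le_zpowers S e D hDS hDab
  have hord : ∀ g y : G, orderOf (g * y * g⁻¹) = orderOf y := by
    intro g y
    have : g * y * g⁻¹ = MulAut.conj g y := by simp
    rw [this, MulEquiv.orderOf_eq]
  refine ⟨key, ?_, ?_⟩
  · intro g y hy hdvd hgy
    have h1 := key y hy hdvd
    have h2 := key (g * y * g⁻¹) hgy (by rw [hord]; exact hdvd)
    set D' := D.map (MulAut.conj g).toMonoidHom with hD'
    have hD'card : Nat.card D' = Nat.card D :=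
      Subgroup.card_map_of_injective (MulAut.conj g).injective
    have hD'le : D' ≤ Subgroup.zpowers (g * y * g⁻¹) := by
      rintro _ ⟨d, hd, rfl⟩
      obtain ⟨i, rfl⟩ := Subgroup.mem_zpowers_iff.mp (h1 hd)
      have : (MulAut.conj g).toMonoidHom (y ^ i) = (g * y * g⁻¹) ^ i := by
        simp [conj_zpow]
      rw [this]
      exact Subgroup.zpow_mem_zpowers _ i
    have hcyc : IsCyclic ↥(Subgroup.zpowers (g * y * g⁻¹)) := inferInstance
    have hle : D' ≤ D := cyclic_le_of_card_dvd' _ D' D hcyc hD'le h2 (by rw [hD'card])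
    apply Cfsg.Agent.S1254.mem_normalizer_of_conj_mem D g
    intro u hu
    apply hle
    exact ⟨u, hu, by simp⟩
  · intro g y hg hy hdvd
    refine ⟨?_, by rw [hord]; exact hdvd⟩
    rw [Subgroup.mem_centralizer_iff] at hy ⊢
    intro d hd
    have hg' : g⁻¹ ∈ Subgroup.normalizer (D : Set G) := Subgroup.inv_mem _ hg
    rw [Subgroup.mem_normalizer_iff] at hg'
    have hd' : g⁻¹ * d * g⁻¹⁻¹ ∈ D := (hg' d).mp hd
    have h1 := hy _ hd'
    rw [inv_inv] at h1
    calc d * (g * y * g⁻¹) = g * ((g⁻¹ * d * g) * y) * g⁻¹ := by group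
      _ = g * (y * (g⁻¹ * d * g)) * g⁻¹ := by rw [h1]
      _ = g * y * g⁻¹ * d := by group

end Cfsg.Agent.S0843
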