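import Mathlib
import Cfsg.Statements.S0849
import Cfsg.Agent.Lib.helper7.Induction

set_option autoImplicit false
open Cfsg

namespace Cfsg.Agent.S0849

open Cfsg.Agent.Lib.helper7

theorem sq_one_of_conj {G : Type*} [Group G] (u a : G) (hu : orderOf u = 2) (h : IsConj u a) :
    a * a = 1 := by
  obtain ⟨c, rfl⟩ := isConj_iff.mp h
  have hu2 : u * u = 1 := by
    have := pow_orderOf_eq_one u
    rw [hu, pow_two] at this
    exact this
  calc c * u * c⁻¹ * (c * u * c⁻¹) = c * (u * u) * c⁻¹ := by group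
    _ = 1 := by rw [hu2]; group

theorem key_vanish {G : Type*} [Group G] (H : Subgroup G) (S : Set G) (hSH : S ⊆ H)
    (hTI : ∀ g : G, g ∉ H → ∀ s ∈ S, g * s * g⁻¹ ∉ S) (hinv : ∀ s ∈ S, s⁻¹ ∈ S)
    (φ : H → ℂ) (hφS : ∀ x : H, (x : G) ∉ S → φ x = 0) (a b : G) (ha : a * a = 1)
    (hb : b * b = 1) (hab : ¬ (a ∈ H ∧ b ∈ H)) : Cfsg.extendByZero H φ (a * b) = 0 := by
  by_cases hmem : a * b ∈ H
  · rw [h7_extendByZero_mem H φ _ hmem]
    apply hφS
    intro hs
    apply hab
    have hainv : a⁻¹ = a := inv_eq_of_mul_eq_one_left ha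
    have hbinv : b⁻¹ = b := inv_eq_of_mul_eq_one_left hb
    have haH : a ∈ H := by
      by_contra haH
      apply hTI a haH (a * b) hs
      have : a * (a * b) * a⁻¹ = (a * b)⁻¹ := by
        rw [mul_inv_rev, hainv, hbinv, ← mul_assoc, ha, one_mul]
      rw [this]
      exact hinv _ hs
    refine ⟨haH, ?_⟩
    have : b = a⁻¹ * (a * b) := by group
    rw [this]
    exact H.mul_mem (H.inv_mem haH) hmem
  · exact h7_extendByZero_not_mem H φ _ hmem

theorem result {G : Type*} [Group G] [Fintype G] (H : Subgroup G) (S : Set G) (hSH : S ⊆ H) (hHS : ∀ h ∈ H, ∀ s ∈ S, h * s * h⁻¹ ∈ S) (hTI : ∀ g : G, g ∉ H → ∀ s ∈ S, g * s * g⁻¹ ∉ S) (hinv : ∀ s ∈ S, s⁻¹ ∈ S) (φ : H → ℂ) (hφ : Cfsg.IsClassFunction H φ) (hφS : ∀ x : H, (x : G) ∉ S → φ x = 0) (u v : G) (hu : orderOf u = 2) (hv : orderOf v = 2) : ∑ᶠ p ∈ {p : G × G | IsConj u p.1 ∧ IsConj v p.2}, Cfsg.indFun H φ (p.1 * p.2) = (H.index : ℂ) * ∑ᶠ p ∈ {p : H × H | IsConj u (p.1 : G) ∧ IsConj v (p.2 : G)}, φ (p.1 * p.2) := by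
  classical
  have := Fintype.ofFinite H
  rw [h7_finsum_mem_fintype, h7_finsum_mem_fintype]
  simp only [Set.mem_setOf_eq]
  have hH : (Nat.card H : ℂ) ≠ 0 := by exact_mod_cast Nat.card_pos.ne'
  have hidx : (Nat.card G : ℂ) = (H.index : ℂ) * (Nat.card H : ℂ) := by
    rw [← Subgroup.index_mul_card H]; push_cast; ring
  set T : ℂ := ∑ p : G × G, if IsConj u p.1 ∧ IsConj v p.2 then Cfsg.extendByZero H φ (p.1 * p.2) else 0
    with hT
  have step1 : ∑ p : G × G, (if IsConj u p.1 ∧ IsConj v p.2 then Cfsg.indFun H φ (p.1 * p.2) else 0)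
      = (Nat.card H : ℂ)⁻¹ * ((Nat.card G : ℂ) * T) := by
    unfold Cfsg.indFun
    have h1 : ∀ p : G × G, (if IsConj u p.1 ∧ IsConj v p.2 then
        (Nat.card H : ℂ)⁻¹ * ∑ x : G, Cfsg.extendByZero H φ (x⁻¹ * (p.1 * p.2) * x) else 0) =
        (Nat.card H : ℂ)⁻¹ * ∑ x : G, (if IsConj u p.1 ∧ IsConj v p.2 then
          Cfsg.extendByZero H φ (x⁻¹ * (p.1 * p.2) * x) else 0) := by
      intro p
      split_ifs <;> simp
    simp only [h1]
    rw [← Finset.mul_sum, Finset.sum_comm]
    congr 1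
    have h2 : ∀ x : G, ∑ p : G × G, (if IsConj u p.1 ∧ IsConj v p.2 then
          Cfsg.extendByZero H φ (x⁻¹ * (p.1 * p.2) * x) else 0) = T := by
      intro x
      rw [hT]
      let e : G × G ≃ G × G :=
        { toFun := fun p => (x⁻¹ * p.1 * x, x⁻¹ * p.2 * x)
          invFun := fun p => (x * p.1 * x⁻¹, x * p.2 * x⁻¹)
          left_inv := fun p => by ext <;> simp [mul_assoc]
          right_inv := fun p => by ext <;> simp [mul_assoc] }
      rw [← Equiv.sum_comp e (fun p : G × G => if IsConj u p.1 ∧ IsConj v p.2 then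
        Cfsg.extendByZero H φ (p.1 * p.2) else 0)]
      apply Finset.sum_congr rfl
      intro p _
      have hc1 : IsConj u (x⁻¹ * p.1 * x) ↔ IsConj u p.1 := by
        constructor
        · intro hh
          exact hh.trans (isConj_iff.mpr ⟨x, by group⟩)
        · intro hh
          exact hh.trans (isConj_iff.mpr ⟨x⁻¹, by group⟩)
      have hc2 : IsConj v (x⁻¹ * p.2 * x) ↔ IsConj v p.2 := by
        constructor
        · intro hh
          exact hh.trans (isConj_iff.mpr ⟨x, by group⟩)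
        · intro hh
          exact hh.trans (isConj_iff.mpr ⟨x⁻¹, by group⟩)
      have hmul : x⁻¹ * p.1 * x * (x⁻¹ * p.2 * x) = x⁻¹ * (p.1 * p.2) * x := by group
      change _ = if IsConj u (x⁻¹ * p.1 * x) ∧ IsConj v (x⁻¹ * p.2 * x) then
        Cfsg.extendByZero H φ (x⁻¹ * p.1 * x * (x⁻¹ * p.2 * x)) else 0
      rw [hmul]
      exact if_congr (and_congr hc1.symm hc2.symm) rfl rfl
    simp only [h2, Finset.sum_const, Finset.card_univ, nsmul_eq_mul, Nat.card_eq_fintype_card]
  have step2 : T = ∑ q : H × H, if IsConj u (q.1 : G) ∧ IsConj v (q.2 : G) then φ (q.1 * q.2) else 0 := by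
    rw [hT, Fintype.sum_prod_type, Fintype.sum_prod_type]
    have h3 : ∀ a b : G, (if IsConj u a ∧ IsConj v b then Cfsg.extendByZero H φ (a * b) else 0) =
        if a ∈ H then (if b ∈ H then
          (if IsConj u a ∧ IsConj v b then Cfsg.extendByZero H φ (a * b) else 0) else 0) else 0 := by
      intro a b
      by_cases hc : IsConj u a ∧ IsConj v b
      · by_cases hab : a ∈ H ∧ b ∈ H
        · simp [hab.1, hab.2]
        · have hz := key_vanish H S hSH hTI hinv φ hφS a b (sq_one_of_conj u a hu hc.1)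
            (sq_one_of_conj v b hv hc.2) hab
          rw [if_pos hc, hz]
          split_ifs <;> rfl
      · rw [if_neg hc]
        split_ifs <;> rfl
    rw [Finset.sum_congr rfl (fun a _ => Finset.sum_congr rfl (fun b _ => h3 a b))]
    have h4 : ∀ a : G, (∑ b : G, if a ∈ H then (if b ∈ H then
          (if IsConj u a ∧ IsConj v b then Cfsg.extendByZero H φ (a * b) else 0) else 0) else 0) =
        if a ∈ H then ∑ b : H, (if IsConj u a ∧ IsConj v (b : G) then
          Cfsg.extendByZero H φ (a * (b : G)) else 0) else 0 := by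
      intro a
      split_ifs with ha
      · exact h7_sum_subgroup H (fun b => if IsConj u a ∧ IsConj v b then Cfsg.extendByZero H φ (a * b) else 0)
      · simp
    simp only [h4]
    rw [h7_sum_subgroup H (fun a => ∑ b : H, (if IsConj u a ∧ IsConj v (b : G) then
          Cfsg.extendByZero H φ (a * (b : G)) else 0))]
    apply Finset.sum_congr rfl
    intro a _
    apply Finset.sum_congr rfl
    intro b _
    have : (a : G) * (b : G) = ((a * b : H) : G) := by simp
    rw [this, h7_extendByZero_coe]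
  rw [step1, step2, hidx]
  field_simp

end Cfsg.Agent.S0849
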