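import Cfsg.Statements.S0134
import Mathlib
import Cfsg.Prelude.Def_Characters
import Cfsg.Agent.Lib.Helper25.CharOrth

set_option autoImplicit false
open Cfsg

namespace Cfsg.Agent.S0134

open scoped ComplexConjugate



/-- The sum of the squares of the degrees of the irreducible complex characters of a finite group is the order of the group. -/
theorem result {G : Type*} [Group G] [Finite G] : ∑ᶠ χ : Cfsg.IrrCharacter G, (χ : G → ℂ) 1 ^ 2 = (Nat.card G : ℂ) := by
  classical
  have : Fintype G := Fintype.ofFinite G
  have : Fintype (Cfsg.IrrCharacter G) := Fintype.ofFinite _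
  rw [finsum_eq_sum_of_fintype]
  have h1 := Cfsg.Agent.Lib.Helper25.irr_column_orthogonality (1 : G) (1 : G)
  rw [if_pos (IsConj.refl 1)] at h1
  have h2 : Nat.card (Subgroup.centralizer ({1} : Set G)) = Nat.card G := by
    have : Subgroup.centralizer ({1} : Set G) = ⊤ := by
      ext x
      simp [Subgroup.mem_centralizer_singleton_iff]
    rw [this, Subgroup.card_top]
  rw [h2] at h1
  rw [← h1]
  refine Finset.sum_congr rfl fun χ _ => ?_
  obtain ⟨n, hn, h⟩ := Cfsg.Agent.Lib.Helper25.irr_one_eq_finrank χ
  rw [h, pow_two, Complex.conj_natCast]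

end Cfsg.Agent.S0134
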