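import Cfsg.Statements.S1528
import Mathlib
import Cfsg.Agent.Lib.Helper11.BrauerCount
import Cfsg.Agent.Lib.Helper25.CharAbelian

set_option autoImplicit false
open Cfsg

namespace Cfsg.Agent.S1528

open Cfsg.Agent.Lib.Helper11 Cfsg.Agent.Lib.helper7 Cfsg.Agent.Lib.Helper25
open scoped ComplexConjugate

/-- the restriction of an irreducible character has natural-number multiplicities -/
theorem restrict_mult_nat {G : Type*} [Group G] [Fintype G] (N : Subgroup G) [Fintype N]
    (η : G → ℂ) (hη : Cfsg.IsIrrCharacter G η) (φ : Cfsg.IrrCharacter N) :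
    ∃ m : ℕ, Cfsg.classInner (fun n : N => η n) (φ : N → ℂ) = m := by
  obtain ⟨k, ρ, hρ, hχ⟩ := hη
  have := classInner_char_irr_nat (ρ.comp N.subtype : Representation ℂ N (Fin k → ℂ)) φ
  obtain ⟨m, hm⟩ := this
  refine ⟨m, ?_⟩
  rw [← hm, ← hχ]
  rfl

/-- the induced function from a non-principal irreducible character has norm one -/
theorem norm_ind {G : Type*} [Group G] [Fintype G] (N : Subgroup G) [hN : N.Normal] [Fintype N]
    (hC : ∀ n ∈ N, n ≠ 1 → Subgroup.centralizer ({n} : Set G) ≤ N)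
    (φ : N → ℂ) (hφ : Cfsg.IsIrrCharacter N φ) (hφ1 : φ ≠ fun _ => 1) :
    Cfsg.classInner (Cfsg.indFun N φ) (Cfsg.indFun N φ) = 1 := by
  classical
  rw [h7_frobenius_reciprocity N φ _ (h7_indFun_isClassFunction N φ), indFun_restrict_normal,
    Cfsg.Agent.Lib.Helper11.classInner_conj_symm, classInner_smul_left', classInner_sum_left']
  have hT : Nat.card {g : G // ∀ h : N, cj N φ g h = φ h} = Nat.card N := by
    apply Nat.card_congr
    refine ⟨fun g => ⟨g.1, mem_of_cj_eq N hC φ hφ hφ1 g.1 (funext g.2)⟩,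
      fun n => ⟨n.1, fun h => ?_⟩, fun g => rfl, fun n => rfl⟩
    have := irr_conj_invariant ⟨φ, hφ⟩ h n
    simp only at this
    rw [cj_apply]
    rw [← this]
    rfl
  rw [hT, div_self (by exact_mod_cast Nat.card_pos.ne'), one_mul]
  have h1 : ∀ ψ ∈ Finset.univ.image (fun g : G => cj N φ g),
      Cfsg.classInner ψ φ = if ψ = φ then 1 else 0 := by
    intro ψ hψ
    obtain ⟨g, -, rfl⟩ := Finset.mem_image.mp hψ
    have := irr_classInner ⟨cj N φ g, isIrr_cj N φ hφ g⟩ ⟨φ, hφ⟩
    rw [this]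
    by_cases h : cj N φ g = φ
    · rw [if_pos h, if_pos (Subtype.ext h)]
    · rw [if_neg h, if_neg (fun h' => h (congrArg Subtype.val h'))]
  rw [Finset.sum_congr rfl h1, Finset.sum_ite_eq', if_pos, map_one]
  rw [Finset.mem_image]
  exact ⟨1, Finset.mem_univ _, cj_one N φ⟩

/-- Let N be a normal subgroup of the finite group G such that every element of G commuting with a non-identity element of N lies in N. If χ is an irreducible character of G with χ n ≠ χ 1 for some n ∈ N, then χ is the function induced from some irreducible character of N. -/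
theorem result {G : Type*} [Group G] [Fintype G] (N : Subgroup G) [N.Normal] (hC : ∀ n ∈ N, n ≠ 1 → Subgroup.centralizer ({n} : Set G) ≤ N) (χ : G → ℂ) (hχ : Cfsg.IsIrrCharacter G χ) (hker : ∃ n ∈ N, χ n ≠ χ 1) : ∃ φ : N → ℂ, Cfsg.IsIrrCharacter N φ ∧ χ = Cfsg.indFun N φ := by
  classical
  have : Fintype N := Fintype.ofFinite _
  have : Fintype (Cfsg.IrrCharacter N) := Fintype.ofFinite _
  have : Fintype (Cfsg.IrrCharacter G) := Fintype.ofFinite _
  have hχc : ∀ g h : G, χ (h * g * h⁻¹) = χ g := fun g h => irr_conj_invariant ⟨χ, hχ⟩ g h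
  -- a non-principal constituent of the restriction
  have hA : ∃ φ : Cfsg.IrrCharacter N, (φ : N → ℂ) ≠ (fun _ => 1) ∧
      Cfsg.classInner (fun n : N => χ n) (φ : N → ℂ) ≠ 0 := by
    by_contra hcon
    push Not at hcon
    have hexp := classFunction_expansion (fun n : N => χ n) (by
      intro g h
      exact hχc g h)
    have h0 : ∀ φ : Cfsg.IrrCharacter N, φ ≠ trivIrr N →
        Cfsg.classInner (fun n : N => χ n) (φ : N → ℂ) • (φ : N → ℂ) = 0 := by
      intro φ hne
      rw [hcon φ, zero_smul]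
      intro h
      apply hne
      apply Subtype.ext
      rw [h]
      rfl
    rw [Finset.sum_eq_single (trivIrr N) (fun φ _ hne => h0 φ hne)
      (fun h => absurd (Finset.mem_univ _) h)] at hexp
    obtain ⟨n, hn, hne⟩ := hker
    apply hne
    have e1 := congrFun hexp ⟨n, hn⟩
    have e2 := congrFun hexp 1
    simp only [Pi.smul_apply, trivIrr_apply, smul_eq_mul, mul_one] at e1 e2
    rw [e1]
    exact e2.symm
  obtain ⟨φ, hφ1, hφχ⟩ := hA
  refine ⟨φ, φ.2, ?_⟩
  have hnorm := norm_ind N hC φ φ.2 hφ1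
  have hcl : ∀ g h : G, Cfsg.indFun N (φ : N → ℂ) (h * g * h⁻¹) = Cfsg.indFun N (φ : N → ℂ) g :=
    fun g h => h7_indFun_conj N _ g h
  -- multiplicities
  have hm : ∀ η : Cfsg.IrrCharacter G, ∃ m : ℕ,
      Cfsg.classInner (Cfsg.indFun N (φ : N → ℂ)) (η : G → ℂ) = m := by
    intro η
    obtain ⟨m, hm⟩ := restrict_mult_nat N η η.2 φ
    refine ⟨m, ?_⟩
    rw [h7_frobenius_reciprocity N _ _ (fun g h => irr_conj_invariant η g h),
      Cfsg.Agent.Lib.Helper11.classInner_conj_symm, hm, Complex.conj_natCast]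
  choose m hm using hm
  have hpar := classInner_parseval (Cfsg.indFun N (φ : N → ℂ)) hcl
  rw [hnorm] at hpar
  simp only [hm, Complex.conj_natCast] at hpar
  have hpar' : ∑ η : Cfsg.IrrCharacter G, m η * m η = 1 := by
    have : ((∑ η : Cfsg.IrrCharacter G, m η * m η : ℕ) : ℂ) = 1 := by
      rw [hpar]
      push_cast
      rfl
    exact_mod_cast this
  have hmχ : m ⟨χ, hχ⟩ ≠ 0 := by
    intro h0
    have h1 := hm ⟨χ, hχ⟩
    rw [h0, h7_frobenius_reciprocity N _ _ (fun g h => hχc g h),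
      Cfsg.Agent.Lib.Helper11.classInner_conj_symm] at h1
    simp only [Nat.cast_zero] at h1
    apply hφχ
    have := congrArg conj h1
    simpa using this
  have hsingle : ∀ η : Cfsg.IrrCharacter G, η ≠ ⟨χ, hχ⟩ → m η = 0 := by
    intro η hne
    by_contra h0
    have h1 : m ⟨χ, hχ⟩ * m ⟨χ, hχ⟩ + m η * m η ≤ ∑ η : Cfsg.IrrCharacter G, m η * m η := by
      have hsub : ({⟨χ, hχ⟩, η} : Finset (Cfsg.IrrCharacter G)) ⊆ Finset.univ :=
        Finset.subset_univ _
      have := Finset.sum_le_sum_of_subset (f := fun η => m η * m η) hsub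
      rw [Finset.sum_pair (Ne.symm hne)] at this
      exact this
    have h2 : 1 ≤ m ⟨χ, hχ⟩ * m ⟨χ, hχ⟩ := Nat.mul_pos (Nat.pos_of_ne_zero hmχ) (Nat.pos_of_ne_zero hmχ)
    have h3 : 1 ≤ m η * m η := Nat.mul_pos (Nat.pos_of_ne_zero h0) (Nat.pos_of_ne_zero h0)
    omega
  have hone : m ⟨χ, hχ⟩ = 1 := by
    rw [Finset.sum_eq_single (⟨χ, hχ⟩ : Cfsg.IrrCharacter G)
      (fun η _ hne => by rw [hsingle η hne, Nat.mul_zero]) (fun h => absurd (Finset.mem_univ _) h)] at hpar'
    exact Nat.eq_one_of_mul_eq_one_left hpar'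
  have hexp := classFunction_expansion (Cfsg.indFun N (φ : N → ℂ)) hcl
  rw [Finset.sum_eq_single (⟨χ, hχ⟩ : Cfsg.IrrCharacter G)
    (fun η _ hne => by rw [hm, hsingle η hne, Nat.cast_zero, zero_smul])
    (fun h => absurd (Finset.mem_univ _) h), hm, hone, Nat.cast_one, one_smul] at hexp
  exact hexp.symm

end Cfsg.Agent.S1528
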