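import Cfsg.Statements.S0741
import Mathlib
import Cfsg.Statements.S0741

set_option autoImplicit false
open Cfsg

namespace Cfsg.Agent.S0741
open Cfsg MulAction

variable {G Ω : Type*} [Group G] [MulAction G Ω]

/-- a non-identity element fixes at most two points -/
theorem card_fix_le [Fintype Ω] [DecidableEq Ω]
    (h3 : ∀ g : G, ∀ a b c : Ω, a ≠ b → b ≠ c → a ≠ c → g • a = a → g • b = b → g • c = c → g = 1)
    (g : G) (hg : g ≠ 1) : (Finset.univ.filter (fun c : Ω => g • c = c)).card ≤ 2 := by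
  by_contra hcon
  push Not at hcon
  rw [Finset.two_lt_card_iff] at hcon
  obtain ⟨a, b, c, ha, hb, hc, hab, hac, hbc⟩ := hcon
  simp only [Finset.mem_filter, Finset.mem_univ, true_and] at ha hb hc
  exact hg (h3 g a b c hab hbc hac ha hb hc)

theorem card_swap_le [Fintype G] [DecidableEq G] [DecidableEq Ω]
    (h2 : IsMultiplyPretransitive G Ω 2) {a b : Ω} (hab : a ≠ b) (c d : Ω) (hcd : c ≠ d) :
    (Finset.univ.filter (fun g : G => g * g = 1 ∧ g • c = d)).card
      ≤ Nat.card ↥(stabilizer G a ⊓ stabilizer G b) := by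
  classical
  by_cases hemp : (Finset.univ.filter (fun g : G => g * g = 1 ∧ g • c = d)) = ∅
  · rw [hemp]; simp
  obtain ⟨g₀, hg₀⟩ := Finset.nonempty_iff_ne_empty.mpr hemp
  simp only [Finset.mem_filter, Finset.mem_univ, true_and] at hg₀
  obtain ⟨h, hha, hhb⟩ := (is_two_pretransitive_iff.mp h2) hab hcd
  have key : ∀ g : G, g * g = 1 → g • c = d → g • d = c := by
    intro g hgg hgc
    rw [← hgc, ← mul_smul, hgg, one_smul]
  have hcard : Nat.card ↥(stabilizer G a ⊓ stabilizer G b)
      = (Finset.univ.filter (fun g : G => g ∈ stabilizer G a ⊓ stabilizer G b)).card := by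
    rw [Nat.card_eq_fintype_card, Fintype.card_subtype]
  rw [hcard]
  apply Finset.card_le_card_of_injOn (fun g => h⁻¹ * g₀⁻¹ * g * h)
  · intro g hg
    simp only [Finset.coe_filter, Finset.mem_univ, true_and, Set.mem_setOf_eq] at hg ⊢
    rw [Subgroup.mem_inf, mem_stabilizer_iff, mem_stabilizer_iff]
    constructor
    · rw [mul_smul, mul_smul, mul_smul, hha, hg.2, inv_smul_eq_iff.mpr hg₀.2.symm,
        inv_smul_eq_iff.mpr hha.symm]
    · rw [mul_smul, mul_smul, mul_smul, hhb, key g hg.1 hg.2,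
        inv_smul_eq_iff.mpr (key g₀ hg₀.1 hg₀.2).symm, inv_smul_eq_iff.mpr hhb.symm]
  · intro g _ g' _ hgg'
    simpa using hgg'

theorem card_pairs_le [Fintype G] [DecidableEq G] [Fintype Ω] [DecidableEq Ω]
    (h2 : IsMultiplyPretransitive G Ω 2)
    (h3 : ∀ g : G, ∀ a b c : Ω, a ≠ b → b ≠ c → a ≠ c → g • a = a → g • b = b → g • c = c → g = 1)
    {a b : Ω} (hab : a ≠ b) (t₀ : G) (ht₀ : t₀ * t₀ = 1) (ht1 : t₀ ≠ 1) (hta : t₀ • a = a)
    (htb : t₀ • b = b) :
    Fintype.card Ω * Fintype.card Ω - Fintype.card Ω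
      ≤ 2 * (Finset.univ.filter (fun g : G => g * g = 1 ∧ g ≠ 1)).card := by
  classical
  have hex : ∀ p : Ω × Ω, ∃ h : G, p.1 ≠ p.2 → h • a = p.1 ∧ h • b = p.2 := by
    intro p
    by_cases hp : p.1 = p.2
    · exact ⟨1, fun h => absurd hp h⟩
    · obtain ⟨h, hh⟩ := (is_two_pretransitive_iff.mp h2) hab hp
      exact ⟨h, fun _ => hh⟩
  choose hh hhp using hex
  let τ : Ω × Ω → G := fun p => hh p * t₀ * (hh p)⁻¹
  have h1 := Finset.card_le_mul_card_image (f := τ) (Finset.univ : Finset Ω).offDiag 2 (by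
    intro t ht
    obtain ⟨p₀, hp₀, rfl⟩ := Finset.mem_image.mp ht
    have hτ1 : τ p₀ ≠ 1 := by
      intro h
      apply ht1
      have : t₀ = (hh p₀)⁻¹ * τ p₀ * hh p₀ := by
        simp only [τ]; group
      rw [this, h]; group
    have hsub : ((Finset.univ : Finset Ω).offDiag.filter (fun p => τ p = τ p₀))
        ⊆ (Finset.univ.filter (fun c : Ω => τ p₀ • c = c)).offDiag := by
      intro p hp
      rw [Finset.mem_filter, Finset.mem_offDiag] at hp
      obtain ⟨⟨_, _, hne⟩, hτ⟩ := hp
      obtain ⟨e1, e2⟩ := hhp p hne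
      rw [Finset.mem_offDiag]
      simp only [Finset.mem_filter, Finset.mem_univ, true_and]
      refine ⟨?_, ?_, hne⟩
      · rw [← hτ]
        simp only [τ]
        rw [mul_smul, mul_smul, ← e1, inv_smul_smul, hta]
      · rw [← hτ]
        simp only [τ]
        rw [mul_smul, mul_smul, ← e2, inv_smul_smul, htb]
    refine le_trans (Finset.card_le_card hsub) ?_
    rw [Finset.offDiag_card]
    have := card_fix_le h3 (τ p₀) hτ1
    generalize (Finset.univ.filter (fun c : Ω => τ p₀ • c = c)).card = k at this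
    interval_cases k <;> simp)
  have h2' : ((Finset.univ : Finset Ω).offDiag.image τ).card
      ≤ (Finset.univ.filter (fun g : G => g * g = 1 ∧ g ≠ 1)).card := by
    apply Finset.card_le_card
    intro t ht
    obtain ⟨p, hp, rfl⟩ := Finset.mem_image.mp ht
    simp only [Finset.mem_filter, Finset.mem_univ, true_and]
    constructor
    · simp only [τ]
      have : hh p * t₀ * (hh p)⁻¹ * (hh p * t₀ * (hh p)⁻¹) = hh p * (t₀ * t₀) * (hh p)⁻¹ := by group
      rw [this, ht₀]; group
    · intro h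
      apply ht1
      have : t₀ = (hh p)⁻¹ * τ p * hh p := by
        simp only [τ]; group
      rw [this, h]; group
  rw [Finset.offDiag_card, Finset.card_univ] at h1
  omega

theorem main {G Ω : Type*} [Group G] [Finite G] [MulAction G Ω] [Fintype Ω] (hZ : Cfsg.IsZassenhausGroup G Ω) {a b : Ω} (hab : a ≠ b) (heven : Even (Nat.card ↥(MulAction.stabilizer G a ⊓ MulAction.stabilizer G b))) : Fintype.card Ω - 2 ≤ 2 * Nat.card ↥(MulAction.stabilizer G a ⊓ MulAction.stabilizer G b) := by
  classical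
  obtain ⟨_, h2, h3, _, _⟩ := hZ
  haveI : Fintype G := Fintype.ofFinite G
  haveI : Fact (Nat.Prime 2) := ⟨Nat.prime_two⟩
  obtain ⟨x, hx⟩ := exists_prime_orderOf_dvd_card' (G := ↥(stabilizer G a ⊓ stabilizer G b)) 2
    (even_iff_two_dvd.mp heven)
  have hx2 : x * x = 1 := by
    have := pow_orderOf_eq_one x
    rw [hx, pow_two] at this
    exact this
  have hx1 : x ≠ 1 := by
    intro h
    rw [h, orderOf_one] at hx
    omega
  set t₀ : G := (x : G) with ht₀def
  have ht₀ : t₀ * t₀ = 1 := by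
    have := congrArg Subtype.val hx2
    simpa using this
  have ht1 : t₀ ≠ 1 := by
    intro h
    apply hx1
    exact Subtype.ext h
  have hmem := x.2
  rw [Subgroup.mem_inf, mem_stabilizer_iff, mem_stabilizer_iff] at hmem
  have hC := card_pairs_le h2 h3 hab t₀ ht₀ ht1 hmem.1 hmem.2
  set T := Finset.univ.filter (fun g : G => g * g = 1 ∧ g ≠ 1) with hT
  set n1 := Fintype.card Ω with hn1
  set dd := Nat.card ↥(stabilizer G a ⊓ stabilizer G b) with hdd
  have hn2 : 2 ≤ n1 := by
    rw [hn1]
    exact Fintype.one_lt_card_iff.mpr ⟨a, b, hab⟩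
  have S1 : T.card * (n1 - 2) ≤ ∑ g ∈ T, (Finset.univ.filter (fun c : Ω => g • c ≠ c)).card := by
    have := Finset.card_nsmul_le_sum T
      (fun g => (Finset.univ.filter (fun c : Ω => g • c ≠ c)).card) (n1 - 2) (by
        intro g hg
        rw [hT, Finset.mem_filter] at hg
        have h1 := card_fix_le h3 g hg.2.2
        have h2 := Finset.card_filter_add_card_filter_not (s := (Finset.univ : Finset Ω))
          (fun c : Ω => g • c = c)
        rw [Finset.card_univ] at h2
        show n1 - 2 ≤ (Finset.univ.filter (fun c : Ω => ¬ g • c = c)).card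
        omega)
    simpa [smul_eq_mul] using this
  have S2 : ∑ g ∈ T, (Finset.univ.filter (fun c : Ω => g • c ≠ c)).card
      = ∑ c : Ω, (T.filter (fun g : G => g • c ≠ c)).card := by
    simp only [Finset.card_filter]
    rw [Finset.sum_comm]
  have S3 : ∀ c : Ω, (T.filter (fun g : G => g • c ≠ c)).card ≤ (n1 - 1) * dd := by
    intro c
    rw [Finset.card_eq_sum_card_fiberwise (f := fun g : G => g • c)
      (t := (Finset.univ : Finset Ω).erase c) (by
        intro g hg
        rw [Finset.mem_coe, Finset.mem_filter] at hg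
        rw [Finset.mem_coe, Finset.mem_erase]
        exact ⟨hg.2, Finset.mem_univ _⟩)]
    have hle : ∀ d ∈ (Finset.univ : Finset Ω).erase c,
        ((T.filter (fun g : G => g • c ≠ c)).filter (fun g : G => g • c = d)).card ≤ dd := by
      intro d hd
      rw [Finset.mem_erase] at hd
      refine le_trans (Finset.card_le_card ?_) (card_swap_le h2 hab c d hd.1.symm)
      intro g hg
      simp only [hT, Finset.mem_filter, Finset.mem_univ, true_and] at hg ⊢
      exact ⟨hg.1.1.1, hg.2⟩
    have := Finset.sum_le_card_nsmul _ _ _ hle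
    rw [Finset.card_erase_of_mem (Finset.mem_univ c), Finset.card_univ, smul_eq_mul] at this
    exact this
  have S4 : T.card * (n1 - 2) ≤ n1 * ((n1 - 1) * dd) := by
    refine le_trans S1 ?_
    rw [S2]
    have := Finset.sum_le_card_nsmul (Finset.univ : Finset Ω)
      (fun c => (T.filter (fun g : G => g • c ≠ c)).card) _ (fun c _ => S3 c)
    rw [Finset.card_univ, smul_eq_mul] at this
    exact this
  -- final arithmetic
  have hA : n1 * n1 - n1 = n1 * (n1 - 1) := by
    rw [Nat.mul_sub_one]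
  rw [hA] at hC
  have hApos : 0 < n1 * (n1 - 1) := by
    apply Nat.mul_pos <;> omega
  have h5 : n1 * (n1 - 1) * (n1 - 2) ≤ n1 * (n1 - 1) * (2 * dd) := by
    calc n1 * (n1 - 1) * (n1 - 2) ≤ 2 * T.card * (n1 - 2) := Nat.mul_le_mul_right _ hC
      _ = 2 * (T.card * (n1 - 2)) := by ring
      _ ≤ 2 * (n1 * ((n1 - 1) * dd)) := Nat.mul_le_mul_left _ S4
      _ = n1 * (n1 - 1) * (2 * dd) := by ring
  exact Nat.le_of_mul_le_mul_left h5 hApos


/-- If the two-point stabilisers of a finite Zassenhaus group of degree `n + 1` have even order `d`, then `2d ≥ n - 1`. -/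
theorem result {G Ω : Type*} [Group G] [Finite G] [MulAction G Ω] [Fintype Ω] (hZ : Cfsg.IsZassenhausGroup G Ω) {a b : Ω} (hab : a ≠ b) (heven : Even (Nat.card ↥(MulAction.stabilizer G a ⊓ MulAction.stabilizer G b))) : Fintype.card Ω - 2 ≤ 2 * Nat.card ↥(MulAction.stabilizer G a ⊓ MulAction.stabilizer G b) := by
  exact main hZ hab heven

end Cfsg.Agent.S0741
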