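import Cfsg.Statements.S0742
import Cfsg.Agent.Lib.helper6.ZassPSL2
import Cfsg.Agent.Lib.helper6.ZassReg
import Cfsg.Agent.S0741

set_option autoImplicit false
open Cfsg

namespace Cfsg.Agent.S0742

/-- A finite Zassenhaus group of degree `n + 1` with two-point stabilisers of even order `d` satisfying `2d ≤ n - 1` has `n = p^f` for an odd prime `p` and is isomorphic to `PSL(2, p^f)`. -/
theorem result {G Ω : Type*} [Group G] [Finite G] [MulAction G Ω] [Fintype Ω] (hZ : Cfsg.IsZassenhausGroup G Ω) {a b : Ω} (hab : a ≠ b) (heven : Even (Nat.card ↥(MulAction.stabilizer G a ⊓ MulAction.stabilizer G b))) (hd : 2 * Nat.card ↥(MulAction.stabilizer G a ⊓ MulAction.stabilizer G b) ≤ Fintype.card Ω - 2) : ∃ (p f : ℕ) (K : Type) (_ : Field K) (_ : Fintype K), p.Prime ∧ p ≠ 2 ∧ Fintype.card K = p ^ f ∧ Fintype.card Ω = p ^ f + 1 ∧ Nonempty (G ≃* Matrix.ProjectiveSpecialLinearGroup (Fin 2) K) := by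
  classical
  have D := Cfsg.Agent.Lib.helper6.ZassNormal.ZData.of_zass hZ
  haveI := D.faithful
  have h741 := Cfsg.Agent.S0741.result hZ hab heven
  have hΩ2 : 2 ≤ Fintype.card Ω := by
    rw [← Finset.card_univ]
    have : ({a, b} : Finset Ω).card = 2 := Finset.card_pair hab
    rw [← this]
    exact Finset.card_le_card (Finset.subset_univ _)
  have hcard : 2 * Nat.card ↥(MulAction.stabilizer G a ⊓ MulAction.stabilizer G b) + 2 =
      Fintype.card Ω := by omega
  -- an involution in H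
  haveI : Fact (Nat.Prime 2) := ⟨Nat.prime_two⟩
  obtain ⟨jH, hjH⟩ := exists_prime_orderOf_dvd_card' 2 heven.two_dvd
  set j : G := (jH : G) with hj
  have hjo : orderOf j = 2 := by rw [hj, Subgroup.orderOf_coe]; exact hjH
  have hjj : j * j = 1 := by
    have := pow_orderOf_eq_one j
    rwa [hjo, pow_two] at this
  have hj1 : j ≠ 1 := by
    intro h
    rw [h, orderOf_one] at hjo
    omega
  have hjmem := jH.2
  rw [Subgroup.mem_inf, MulAction.mem_stabilizer_iff, MulAction.mem_stabilizer_iff] at hjmem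
  obtain ⟨KG, -, kfix, kfpf, ktr, knorm⟩ :=
    Cfsg.Agent.Lib.helper6.ZassReg.kernel_data (fun h1 h2 => D.two h1 h2) D.three hab hj1
      hjmem.1 hjmem.2
  have Z : Cfsg.Agent.Lib.helper6.ZassPSL1.ZP G Ω a b KG j :=
    { two := fun h1 h2 => D.two h1 h2
      three := D.three
      hi0 := hab
      kfix := kfix
      kfpf := kfpf
      ktr := ktr
      knorm := knorm
      hj1 := hj1
      hjj := hjj
      hji := hjmem.1
      hj0 := hjmem.2 }
  obtain ⟨F, iF, iFin, hFΩ, hiso⟩ := Cfsg.Agent.Lib.helper6.ZassPSL2.psl_of_half Z hcard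
  obtain ⟨p, hchar, n, hp, hpn⟩ := FiniteField.card' F
  refine ⟨p, n, F, iF, iFin, hp, ?_, hpn, ?_, hiso⟩
  · intro hp2
    rw [hp2] at hpn
    have : Even (Fintype.card F) := by
      rw [hpn]
      exact (Nat.even_pow' (PNat.ne_zero n)).mpr even_two
    obtain ⟨k, hk⟩ := this
    omega
  · rw [← hpn]; omega

end Cfsg.Agent.S0742
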