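import Cfsg.Statements.S0242
import Mathlib

set_option autoImplicit false
open Cfsg

namespace Cfsg.Agent.S0242

/-- Order of the special linear group: (q - 1) |SL_n(q)| = prod_{i<n} (q^n - q^i) = |GL_n(q)|, for n at least 1. -/
theorem result {F : Type*} [Field F] [Fintype F] {q : ℕ} (hF : Fintype.card F = q) (n : ℕ) (hn : 1 ≤ n) : (q - 1) * Nat.card (Matrix.SpecialLinearGroup (Fin n) F) = ∏ i : Fin n, (q ^ n - q ^ (i : ℕ)) := by
  classical
  subst hF
  rw [← Matrix.card_GL_field]
  have : Nonempty (Fin n) := ⟨⟨0, by omega⟩⟩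
  have hsurj : Function.Surjective (Matrix.GeneralLinearGroup.det : Matrix.GeneralLinearGroup (Fin n) F →* Fˣ) :=
    Matrix.GeneralLinearGroup.det_surjective
  have hker : Nat.card (Matrix.GeneralLinearGroup.det : Matrix.GeneralLinearGroup (Fin n) F →* Fˣ).ker = Nat.card (Matrix.SpecialLinearGroup (Fin n) F) := by
    have h2 : ((Matrix.GeneralLinearGroup.det : Matrix.GeneralLinearGroup (Fin n) F →* Fˣ).ker : Set (Matrix.GeneralLinearGroup (Fin n) F)) = Set.range (Matrix.SpecialLinearGroup.toGL : Matrix.SpecialLinearGroup (Fin n) F → Matrix.GeneralLinearGroup (Fin n) F) := by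
      rw [Matrix.SpecialLinearGroup.range_toGL]
      ext x
      simp [MonoidHom.mem_ker]
    have h3 : Nat.card ((Matrix.GeneralLinearGroup.det : Matrix.GeneralLinearGroup (Fin n) F →* Fˣ).ker : Set (Matrix.GeneralLinearGroup (Fin n) F)) = Nat.card (Matrix.SpecialLinearGroup (Fin n) F) := by
      rw [h2]
      exact Nat.card_range_of_injective Matrix.SpecialLinearGroup.toGL_injective
    exact h3
  have h1 := Subgroup.card_mul_index (Matrix.GeneralLinearGroup.det : Matrix.GeneralLinearGroup (Fin n) F →* Fˣ).ker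
  rw [Subgroup.index_ker, MonoidHom.range_eq_top.mpr hsurj, hker] at h1
  rw [← h1, mul_comm]
  congr 1
  rw [Subgroup.card_top, Nat.card_units]
  simp

end Cfsg.Agent.S0242
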