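import Cfsg.Statements.S0494
import Cfsg.Agent.Lib.helper8.SimpleEmbed
import Cfsg.Agent.Lib.helper8.Burnside
import Mathlib

set_option autoImplicit false
open Cfsg

namespace Cfsg.Agent.S0494

open Subgroup Cfsg.Agent.Lib.helper8

/-- A simple group of order 60 has a subgroup of index 5. -/
theorem exists_index_five {G : Type*} [Group G] [Finite G] [IsSimpleGroup G]
    (h : Nat.card G = 60) : ∃ H : Subgroup G, H.index = 5 := by
  classical
  have : Fact (Nat.Prime 2) := ⟨Nat.prime_two⟩
  have hG : Nat.card G = 2 ^ 2 * 15 := by rw [h]; norm_num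
  have hm : ¬ 2 ∣ 15 := by decide
  have hnc : ¬ IsMulCommutative G := h8_not_comm_of_card (by rw [h]; decide)
  obtain ⟨P⟩ : Nonempty (Sylow 2 G) := inferInstance
  have hmem := h8_nsylow_mem 2 2 15 hG hm
  have hne1 := h8_simple_nsylow_ne_one 2 2 15 hG hm (by decide) (by decide)
  have hN := h8_card_normalizer_sylow 2 P
  have hidx := h8_nsylow_eq_index_normalizer 2 P
  have hPcard := h8_sylow_card 2 2 15 hG hm P
  have hdiv : (Nat.divisors 15).filter (fun d => d % 2 = 1) = {1, 3, 5, 15} := by decide
  rw [hdiv] at hmem
  simp only [Finset.mem_insert, Finset.mem_singleton] at hmem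
  rcases hmem with h1 | h3 | h5 | h15
  · exact absurd h1 hne1
  · exfalso
    have hne : normalizer ((P : Subgroup G) : Set G) ≠ ⊤ := by
      intro htop
      rw [htop, index_top] at hidx
      omega
    have := h8_simple_two_mul_card_dvd_factorial hnc _ hne
    rw [← hidx, h3, h] at this
    revert this
    decide
  · exact ⟨_, by rw [← hidx, h5]⟩
  · exfalso
    rw [h15, h] at hN
    have hN4 : Nat.card (normalizer ((P : Subgroup G) : Set G)) = 4 := by omega
    have hPN : (P : Subgroup G) = normalizer ((P : Subgroup G) : Set G) := by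
      apply Subgroup.eq_of_le_of_card_ge le_normalizer
      rw [hN4, hPcard]; norm_num
    have hcomm := h8_comm_of_card_prime_sq 2 (P : Subgroup G) hPcard
    apply h8_simple_not_normalizer_le_centralizer 2 2 15 hG hm (by decide) (by decide) P
    rw [← hPN]
    intro x hx
    rw [mem_centralizer_iff]
    intro y hy
    exact hcomm y hy x hx

theorem card_alt5 : Nat.card (alternatingGroup (Fin 5)) = 60 := by
  have := two_mul_card_alternatingGroup (α := Fin 5)
  rw [Fintype.card_perm, Fintype.card_fin] at this
  rw [Nat.card_eq_fintype_card]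
  have h5 : Nat.factorial 5 = 120 := by decide
  omega

/-- A simple group of order 60 is isomorphic to the alternating group of degree 5. -/
theorem result {G : Type*} [Group G] [Finite G] [IsSimpleGroup G]
    (h : Nat.card G = 60) : Nonempty (G ≃* alternatingGroup (Fin 5)) := by
  classical
  obtain ⟨H, hH⟩ := exists_index_five h
  have hnc : ¬ IsMulCommutative G := h8_not_comm_of_card (by rw [h]; decide)
  have hne : H ≠ ⊤ := by
    intro htop
    rw [htop, index_top] at hH
    omega
  have key : ∀ n, H.index = n → ∃ f : G →* alternatingGroup (Fin n), Function.Injective f := by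
    rintro n rfl
    exact h8_simple_embeds_alternating hnc H hne
  obtain ⟨f, hf⟩ := key 5 hH
  have hbij : Function.Bijective f := by
    rw [Nat.bijective_iff_injective_and_card]
    exact ⟨hf, by rw [h, card_alt5]⟩
  exact ⟨MulEquiv.ofBijective f hbij⟩

end Cfsg.Agent.S0494
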