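import Cfsg.Statements.S0265
import Mathlib

set_option autoImplicit false
open Cfsg

namespace Cfsg.Agent.S0265

open Matrix

theorem card_GL_eq {F : Type*} [Field F] [Fintype F] (n : ℕ) (hn : 1 ≤ n) :
    Nat.card (GL (Fin n) F) = Nat.card (SpecialLinearGroup (Fin n) F) * Nat.card Fˣ := by
  classical
  have : Nonempty (Fin n) := ⟨⟨0, by omega⟩⟩
  have hsurj : Function.Surjective (GeneralLinearGroup.det : GL (Fin n) F →* Fˣ) :=
    GeneralLinearGroup.det_surjective
  have hker : Nat.card (GeneralLinearGroup.det : GL (Fin n) F →* Fˣ).ker = Nat.card (SpecialLinearGroup (Fin n) F) := by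
    have h2 : ((GeneralLinearGroup.det : GL (Fin n) F →* Fˣ).ker : Set (GL (Fin n) F)) = Set.range (SpecialLinearGroup.toGL : SpecialLinearGroup (Fin n) F → GL (Fin n) F) := by
      rw [SpecialLinearGroup.range_toGL]
      ext x
      simp [MonoidHom.mem_ker]
    have h3 : Nat.card ((GeneralLinearGroup.det : GL (Fin n) F →* Fˣ).ker : Set (GL (Fin n) F)) = Nat.card (SpecialLinearGroup (Fin n) F) := by
      rw [h2]
      exact Nat.card_range_of_injective SpecialLinearGroup.toGL_injective
    exact h3
  have h1 := Subgroup.card_mul_index (GeneralLinearGroup.det : GL (Fin n) F →* Fˣ).ker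
  rw [Subgroup.index_ker, MonoidHom.range_eq_top.mpr hsurj, hker, Subgroup.card_top] at h1
  exact h1.symm

theorem card_center_GL {F : Type*} [Field F] [Fintype F] (n : ℕ) (hn : 1 ≤ n) :
    Nat.card (Subgroup.center (GL (Fin n) F)) = Nat.card Fˣ := by
  classical
  have : Nonempty (Fin n) := ⟨⟨0, by omega⟩⟩
  rw [GeneralLinearGroup.center_eq_range_scalar]
  have hinj : Function.Injective (GeneralLinearGroup.scalar (Fin n) : Fˣ →* GL (Fin n) F) := by
    intro a b hab
    have h1 := congrArg (fun g : GL (Fin n) F => (g : Matrix (Fin n) (Fin n) F) ⟨0, by omega⟩ ⟨0, by omega⟩) hab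
    simp [GeneralLinearGroup.scalar] at h1
    exact Units.ext h1
  exact Nat.card_range_of_injective hinj

theorem result {F : Type*} [Field F] [Fintype F] (n : ℕ) : Nat.card (Matrix.ProjGenLinGroup (Fin n) F) = Nat.card (Matrix.SpecialLinearGroup (Fin n) F) := by
  classical
  rcases Nat.eq_zero_or_pos n with hn | hn
  · subst hn
    have h1 : Subsingleton (Matrix.SpecialLinearGroup (Fin 0) F) := ⟨fun a b => by ext i; exact i.elim0⟩
    have h2 : Subsingleton (GL (Fin 0) F) := ⟨fun a b => by ext i; exact i.elim0⟩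
    have h3 : Subsingleton (Matrix.ProjGenLinGroup (Fin 0) F) :=
      (Matrix.ProjGenLinGroup.mk_surjective (n := Fin 0) (R := F)).subsingleton
    rw [Nat.card_unique, Nat.card_unique]
  · have h1 := Subgroup.card_eq_card_quotient_mul_card_subgroup (Subgroup.center (GL (Fin n) F))
    rw [card_GL_eq n hn, card_center_GL n hn] at h1
    have hpos : 0 < Nat.card Fˣ := Nat.card_pos
    exact (Nat.eq_of_mul_eq_mul_right hpos h1).symm

end Cfsg.Agent.S0265
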