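import Cfsg.Statements.S2475

import Cfsg.Agent.Lib.helper15.SL2Order
set_option autoImplicit false
open Cfsg

namespace Cfsg.Agent.S2475


open Cfsg.Agent.Lib.helper15 Matrix

section Helpers

variable {F : Type*} [Field F] [Fintype F]

theorem mem_center_iff' (g : Matrix.SpecialLinearGroup (Fin 2) F) :
    g ∈ Subgroup.center (Matrix.SpecialLinearGroup (Fin 2) F) ↔
      ∃ c : F, c ^ 2 = 1 ∧ (g : Matrix (Fin 2) (Fin 2) F) = c • (1 : Matrix (Fin 2) (Fin 2) F) := by
  rw [Matrix.SpecialLinearGroup.mem_center_iff]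
  simp only [Fintype.card_fin]
  constructor
  · rintro ⟨r, hr, h⟩
    refine ⟨r, hr, ?_⟩
    rw [← h, Matrix.scalar_apply, Matrix.smul_one_eq_diagonal]
  · rintro ⟨c, hc, h⟩
    refine ⟨c, hc, ?_⟩
    rw [h, Matrix.scalar_apply, Matrix.smul_one_eq_diagonal]

theorem mk_pow_eq_one_iff (g : Matrix.SpecialLinearGroup (Fin 2) F) (k : ℕ) :
    ((QuotientGroup.mk g : Matrix.ProjectiveSpecialLinearGroup (Fin 2) F)) ^ k = 1 ↔
      ∃ c : F, c ^ 2 = 1 ∧ (g : Matrix (Fin 2) (Fin 2) F) ^ k = c • (1 : Matrix (Fin 2) (Fin 2) F) := by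
  rw [← QuotientGroup.mk_pow, QuotientGroup.eq_one_iff, mem_center_iff',
    Matrix.SpecialLinearGroup.coe_pow]

theorem order_mem (p : ℕ) [Fact p.Prime] [CharP F p]
    (x : Matrix.ProjectiveSpecialLinearGroup (Fin 2) F) :
    orderOf x ∣ p ∨ orderOf x ∣ (Fintype.card F - 1) / Nat.gcd 2 (Fintype.card F - 1) ∨
      orderOf x ∣ (Fintype.card F + 1) / Nat.gcd 2 (Fintype.card F - 1) := by
  obtain ⟨g, rfl⟩ := QuotientGroup.mk_surjective x
  obtain ⟨c, hc, h⟩ := sl2_pow_cases p (g : Matrix (Fin 2) (Fin 2) F) g.2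
  rcases h with h | h | h
  · exact Or.inl (orderOf_dvd_of_pow_eq_one ((mk_pow_eq_one_iff g _).mpr ⟨c, hc, h⟩))
  · exact Or.inr (Or.inl (orderOf_dvd_of_pow_eq_one ((mk_pow_eq_one_iff g _).mpr ⟨c, hc, h⟩)))
  · exact Or.inr (Or.inr (orderOf_dvd_of_pow_eq_one ((mk_pow_eq_one_iff g _).mpr ⟨c, hc, h⟩)))

theorem orderOf_eq_of_forall {G : Type*} [Group G] (x : G) (N : ℕ) (h : ∀ k, x ^ k = 1 ↔ N ∣ k) :
    orderOf x = N := by
  apply Nat.dvd_antisymm
  · exact orderOf_dvd_of_pow_eq_one ((h N).mpr (dvd_refl N))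
  · exact (h (orderOf x)).mp (pow_orderOf_eq_one x)

theorem dvd_two_mul_iff (n k : ℕ) (hn : 0 < n) : n ∣ 2 * k ↔ n / Nat.gcd 2 n ∣ k := by
  rcases gcd_two_cases n with hd | hd
  · rw [hd, Nat.div_one]
    have hc : Nat.Coprime n 2 := by rw [Nat.coprime_comm]; exact hd
    exact hc.dvd_mul_left
  · have h2 : 2 ∣ n := by rw [← hd]; exact Nat.gcd_dvd_right 2 n
    obtain ⟨n', rfl⟩ := h2
    rw [hd, Nat.mul_div_cancel_left n' (by norm_num)]
    exact Nat.mul_dvd_mul_iff_left (by norm_num)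

theorem orderOf_mk_of_iff (g : Matrix.SpecialLinearGroup (Fin 2) F) (n : ℕ) (hn : 0 < n)
    (h : ∀ k : ℕ, (∃ c : F, c ^ 2 = 1 ∧
      (g : Matrix (Fin 2) (Fin 2) F) ^ k = c • (1 : Matrix (Fin 2) (Fin 2) F)) ↔ n ∣ 2 * k) :
    orderOf (QuotientGroup.mk g : Matrix.ProjectiveSpecialLinearGroup (Fin 2) F) = n / Nat.gcd 2 n := by
  apply orderOf_eq_of_forall
  intro k
  rw [mk_pow_eq_one_iff, h k, dvd_two_mul_iff n k hn]

def uMat : Matrix.SpecialLinearGroup (Fin 2) F :=
  ⟨!![1, 1; 0, 1], by simp [Matrix.det_fin_two]⟩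

theorem uMat_pow (k : ℕ) :
    ((uMat : Matrix.SpecialLinearGroup (Fin 2) F) : Matrix (Fin 2) (Fin 2) F) ^ k = !![1, (k : F); 0, 1] := by
  induction k with
  | zero =>
    simp only [pow_zero, Nat.cast_zero]
    exact Matrix.one_fin_two
  | succ k ih =>
    rw [pow_succ, ih]
    show !![1, (k : F); 0, 1] * !![1, 1; 0, 1] = _
    rw [Matrix.mul_fin_two]
    simp [add_comm]

theorem exists_order_p (p : ℕ) [Fact p.Prime] [CharP F p] :
    ∃ x : Matrix.ProjectiveSpecialLinearGroup (Fin 2) F, orderOf x = p := by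
  refine ⟨QuotientGroup.mk (uMat : Matrix.SpecialLinearGroup (Fin 2) F), ?_⟩
  apply orderOf_eq_of_forall
  intro k
  rw [mk_pow_eq_one_iff, uMat_pow]
  constructor
  · rintro ⟨c, _, h⟩
    have h01 := congrFun (congrFun h 0) 1
    simp at h01
    exact (CharP.cast_eq_zero_iff F p k).mp h01
  · intro hk
    have : (k : F) = 0 := (CharP.cast_eq_zero_iff F p k).mpr hk
    refine ⟨1, one_pow 2, ?_⟩
    rw [this, one_smul]
    exact Matrix.one_fin_two.symm

def sMat (l : Fˣ) : Matrix.SpecialLinearGroup (Fin 2) F :=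
  ⟨!![(l : F), 0; 0, ((l⁻¹ : Fˣ) : F)], by simp [Matrix.det_fin_two]⟩

theorem sMat_pow (l : Fˣ) (k : ℕ) :
    ((sMat l : Matrix.SpecialLinearGroup (Fin 2) F) : Matrix (Fin 2) (Fin 2) F) ^ k =
      !![((l ^ k : Fˣ) : F), 0; 0, (((l ^ k)⁻¹ : Fˣ) : F)] := by
  induction k with
  | zero =>
    simp only [pow_zero, inv_one, Units.val_one]
    exact Matrix.one_fin_two
  | succ k ih =>
    rw [pow_succ, ih]
    show !![((l ^ k : Fˣ) : F), 0; 0, (((l ^ k)⁻¹ : Fˣ) : F)] * !![(l : F), 0; 0, ((l⁻¹ : Fˣ) : F)] = _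
    rw [Matrix.mul_fin_two]
    simp [pow_succ, mul_comm]

theorem exists_order_split (hq : 2 ≤ Fintype.card F) :
    ∃ x : Matrix.ProjectiveSpecialLinearGroup (Fin 2) F,
      orderOf x = (Fintype.card F - 1) / Nat.gcd 2 (Fintype.card F - 1) := by
  obtain ⟨l, hl⟩ := IsCyclic.exists_generator (α := Fˣ)
  have hord : orderOf l = Fintype.card F - 1 := by
    rw [orderOf_eq_card_of_forall_mem_zpowers hl, Nat.card_units, Nat.card_eq_fintype_card]
  refine ⟨QuotientGroup.mk (sMat l), ?_⟩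
  apply orderOf_mk_of_iff (sMat l) (Fintype.card F - 1) (by omega)
  intro k
  rw [sMat_pow, ← hord, orderOf_dvd_iff_pow_eq_one]
  constructor
  · rintro ⟨c, hc, h⟩
    have h00 := congrFun (congrFun h 0) 0
    simp at h00
    apply Units.ext
    rw [two_mul, pow_add, Units.val_mul, Units.val_pow_eq_pow_val, h00, ← pow_two, hc, Units.val_one]
  · intro h
    have hsq : (l ^ k) * (l ^ k) = 1 := by rw [← pow_add, ← two_mul, h]
    have hinv : (l ^ k)⁻¹ = l ^ k := inv_eq_of_mul_eq_one_right hsq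
    refine ⟨((l ^ k : Fˣ) : F), ?_, ?_⟩
    · rw [pow_two, ← Units.val_mul, hsq, Units.val_one]
    · rw [hinv]
      ext i j
      fin_cases i <;> fin_cases j <;> simp

theorem exists_order_nonsplit (p : ℕ) [Fact p.Prime] [CharP F p] :
    ∃ x : Matrix.ProjectiveSpecialLinearGroup (Fin 2) F,
      orderOf x = (Fintype.card F + 1) / Nat.gcd 2 (Fintype.card F + 1) := by
  classical
  have : NeZero 2 := ⟨by norm_num⟩
  have hq : 2 ≤ Fintype.card F := Fintype.one_lt_card
  obtain ⟨q, hqdef⟩ : ∃ q, q = Fintype.card F := ⟨_, rfl⟩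
  rw [← hqdef] at hq ⊢
  have hK : Nat.card (FiniteField.Extension F p 2) = q ^ 2 := by
    rw [FiniteField.natCard_extension, Nat.card_eq_fintype_card, hqdef]
  let b : Module.Basis (Fin 2) F (FiniteField.Extension F p 2) :=
    Module.finBasisOfFinrankEq F _ (FiniteField.finrank_extension F p 2)
  have hφ : Function.Injective (Algebra.leftMulMatrix b) := Algebra.leftMulMatrix_injective b
  obtain ⟨θ, hθ⟩ := IsCyclic.exists_generator (α := (FiniteField.Extension F p 2)ˣ)
  have hfac : q ^ 2 - 1 = (q - 1) * (q + 1) := by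
    obtain ⟨r, rfl⟩ : ∃ r, q = r + 1 := ⟨q - 1, by omega⟩
    simp only [Nat.add_sub_cancel]
    ring_nf
    omega
  have hordθ : orderOf θ = (q - 1) * (q + 1) := by
    rw [orderOf_eq_card_of_forall_mem_zpowers hθ, Nat.card_units, hK, hfac]
  have hordζ : orderOf (θ ^ (q - 1)) = q + 1 := by
    rw [orderOf_pow, hordθ, Nat.gcd_eq_right (Dvd.intro _ rfl),
      Nat.mul_div_cancel_left _ (by omega : 0 < q - 1)]
  have hdetθ : (Algebra.leftMulMatrix b (θ : FiniteField.Extension F p 2)).det ≠ 0 := by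
    intro h0
    have h1 : Algebra.leftMulMatrix b (θ : FiniteField.Extension F p 2) *
        Algebra.leftMulMatrix b ((θ⁻¹ : (FiniteField.Extension F p 2)ˣ) : FiniteField.Extension F p 2) = 1 := by
      rw [← map_mul, Units.mul_inv, map_one]
    have h2 := congrArg Matrix.det h1
    rw [Matrix.det_mul, h0, zero_mul, Matrix.det_one] at h2
    exact zero_ne_one h2
  have hdet : (Algebra.leftMulMatrix b (((θ ^ (q - 1) : (FiniteField.Extension F p 2)ˣ)) :
      FiniteField.Extension F p 2)).det = 1 := by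
    rw [Units.val_pow_eq_pow_val, map_pow, Matrix.det_pow, hqdef]
    exact FiniteField.pow_card_sub_one_eq_one _ hdetθ
  refine ⟨QuotientGroup.mk ⟨_, hdet⟩, ?_⟩
  apply orderOf_mk_of_iff _ (q + 1) (by omega)
  intro k
  show (∃ c : F, c ^ 2 = 1 ∧ (Algebra.leftMulMatrix b (((θ ^ (q - 1) : (FiniteField.Extension F p 2)ˣ)) :
      FiniteField.Extension F p 2)) ^ k = c • (1 : Matrix (Fin 2) (Fin 2) F)) ↔ q + 1 ∣ 2 * k
  rw [← hordζ, orderOf_dvd_iff_pow_eq_one, ← map_pow, ← Units.val_pow_eq_pow_val]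
  constructor
  · rintro ⟨c, hc, h⟩
    have h1 : Algebra.leftMulMatrix b (algebraMap F (FiniteField.Extension F p 2) c) =
        c • (1 : Matrix (Fin 2) (Fin 2) F) := by
      rw [AlgHom.commutes, Algebra.algebraMap_eq_smul_one]
    rw [← h1] at h
    have h2 := hφ h
    apply Units.ext
    rw [two_mul, pow_add, Units.val_mul, h2, ← map_mul, ← pow_two, hc, map_one, Units.val_one]
  · intro h
    have hsq : ((((θ ^ (q - 1)) ^ k : (FiniteField.Extension F p 2)ˣ)) : FiniteField.Extension F p 2) *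
        ((((θ ^ (q - 1)) ^ k : (FiniteField.Extension F p 2)ˣ)) : FiniteField.Extension F p 2) = 1 := by
      rw [← Units.val_mul, ← pow_add, ← two_mul, h, Units.val_one]
    rcases mul_self_eq_one_iff.mp hsq with h1 | h1
    · refine ⟨1, one_pow 2, ?_⟩
      rw [h1, map_one, one_smul]
    · refine ⟨-1, by norm_num, ?_⟩
      rw [h1, map_neg, map_one, neg_smul, one_smul]

end Helpers

/-- The set of element orders of PSL(2,q): let F be a finite field of characteristic p with q ≥ 4 elements and d = gcd(2, q − 1). The orders of elements of PSL(2,F) are exactly the divisors of p, of (q − 1)/d and of (q + 1)/d. -/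
theorem result {F : Type*} [Field F] [Fintype F] (p : ℕ) [Fact p.Prime] [CharP F p] (h4 : 4 ≤ Fintype.card F) :
    Set.range (orderOf : Matrix.ProjectiveSpecialLinearGroup (Fin 2) F → ℕ) =
      {m : ℕ | m ∣ p ∨ m ∣ (Fintype.card F - 1) / Nat.gcd 2 (Fintype.card F - 1) ∨ m ∣ (Fintype.card F + 1) / Nat.gcd 2 (Fintype.card F - 1)} := by
  have hgcd : Nat.gcd 2 (Fintype.card F + 1) = Nat.gcd 2 (Fintype.card F - 1) := by
    have : Fintype.card F + 1 = (Fintype.card F - 1) + 2 := by omega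
    rw [this, Nat.gcd_add_self_right]
  have hg2 : Nat.gcd 2 (Fintype.card F - 1) ≤ 2 := Nat.gcd_le_left _ (by norm_num)
  have hg0 : 0 < Nat.gcd 2 (Fintype.card F - 1) := Nat.gcd_pos_of_pos_left _ (by norm_num)
  ext m
  simp only [Set.mem_range, Set.mem_ofPred_eq]
  constructor
  · rintro ⟨x, rfl⟩
    exact order_mem p x
  · intro hm
    have key : ∀ N : ℕ, 0 < N →
        (∃ x : Matrix.ProjectiveSpecialLinearGroup (Fin 2) F, orderOf x = N) → m ∣ N →
        ∃ y : Matrix.ProjectiveSpecialLinearGroup (Fin 2) F, orderOf y = m := by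
      rintro N hN ⟨x, rfl⟩ hmN
      exact ⟨x ^ (orderOf x / m), orderOf_pow_orderOf_div hN.ne' hmN⟩
    rcases hm with h | h | h
    · exact key p (Fact.out : p.Prime).pos (exists_order_p p) h
    · exact key _ (Nat.div_pos (by omega) hg0) (exists_order_split (by omega)) h
    · refine key _ (Nat.div_pos (by omega) hg0) ?_ h
      rw [← hgcd]
      exact exists_order_nonsplit p

end Cfsg.Agent.S2475
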