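import Mathlib
import Cfsg.Statements.S0799
import Cfsg.Agent.S2475
import Cfsg.Agent.Lib.helper3.DicksonConcB
import Cfsg.Agent.Lib.helper3.DicksonAsm
import Cfsg.Agent.Lib.helper6.DicksonMain

set_option autoImplicit false
open Cfsg

namespace Cfsg.Agent.S0799

/-- Dickson's classification of the subgroups of PSL_2(q), q a power of the prime p, d = gcd(2, q − 1): every subgroup H is (a) cyclic or dihedral with k dividing (q+1)/d or (q−1)/d (cyclic of order k, or dihedral of order 2k), (b) isomorphic to a subgroup of the normaliser of a Sylow p-subgroup, (c) isomorphic to A_4, S_4 or A_5, or (d) isomorphic to PSL_2(K) or PGL_2(K) for a finite field K with |K|^m = q. -/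
theorem result {F : Type*} [Field F] [Fintype F] {q : ℕ} (hF : Fintype.card F = q) (p : ℕ) [Fact p.Prime] [CharP F p] (H : Subgroup (Matrix.ProjectiveSpecialLinearGroup (Fin 2) F)) : (∃ k : ℕ, (k ∣ (q + 1) / Nat.gcd 2 (q - 1) ∨ k ∣ (q - 1) / Nat.gcd 2 (q - 1)) ∧ ((IsCyclic H ∧ Nat.card H = k) ∨ Nonempty (H ≃* DihedralGroup k))) ∨ (∃ (P : Sylow p (Matrix.ProjectiveSpecialLinearGroup (Fin 2) F)) (K : Subgroup (Matrix.ProjectiveSpecialLinearGroup (Fin 2) F)), K ≤ Subgroup.normalizer ((P : Subgroup (Matrix.ProjectiveSpecialLinearGroup (Fin 2) F)) : Set (Matrix.ProjectiveSpecialLinearGroup (Fin 2) F)) ∧ Nonempty (H ≃* K)) ∨ Nonempty (H ≃* alternatingGroup (Fin 4)) ∨ Nonempty (H ≃* Equiv.Perm (Fin 4)) ∨ Nonempty (H ≃* alternatingGroup (Fin 5)) ∨ (∃ (K : Type) (_ : Field K) (_ : Fintype K) (m : ℕ), Fintype.card K ^ m = q ∧ (Nonempty (H ≃* Matrix.ProjectiveSpecialLinearGroup (Fin 2) K) ∨ Nonempty (H ≃* Matrix.ProjGenLinGroup (Fin 2) K))) := by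
  classical
  subst hF
  have hpP : p.Prime := Fact.out
  obtain ⟨X, inst, D⟩ := Cfsg.Agent.Lib.helper3.psl2_dact (F := F) p
  letI : MulAction (Matrix.ProjectiveSpecialLinearGroup (Fin 2) F) X := inst
  have DH := Cfsg.Agent.Lib.helper3.dk_restrict D H
  -- orders of elements prime to p
  have hord : ∀ x : Matrix.ProjectiveSpecialLinearGroup (Fin 2) F, (orderOf x).Coprime p →
      (orderOf x ∣ (Fintype.card F + 1) / Nat.gcd 2 (Fintype.card F - 1) ∨
        orderOf x ∣ (Fintype.card F - 1) / Nat.gcd 2 (Fintype.card F - 1)) := by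
    intro x hx
    rcases Cfsg.Agent.S2475.order_mem p x with h | h | h
    · have h1 : orderOf x = 1 := Nat.eq_one_of_dvd_coprimes hx (dvd_refl _) h
      rw [h1]
      left
      exact one_dvd _
    · right; exact h
    · left; exact h
  rcases Cfsg.Agent.Lib.helper6.Dickson.dickson_abstract DH with h | h | h | h | h | h | h
  · -- cyclic
    obtain ⟨hcyc, hcop⟩ := h
    left
    obtain ⟨g, hg⟩ := hcyc.exists_generator
    have h1 : orderOf g = Nat.card H := orderOf_eq_card_of_forall_mem_zpowers hg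
    have h2 : orderOf (g : Matrix.ProjectiveSpecialLinearGroup (Fin 2) F) = orderOf g :=
      Subgroup.orderOf_coe g
    refine ⟨Nat.card H, ?_, Or.inl ⟨hcyc, rfl⟩⟩
    rw [← h1, ← h2]
    apply hord
    rw [h2, h1]
    exact hcop
  · -- dihedral
    obtain ⟨s₀, he, hcop⟩ := h
    left
    have h2 : orderOf (s₀ : Matrix.ProjectiveSpecialLinearGroup (Fin 2) F) = orderOf s₀ :=
      Subgroup.orderOf_coe s₀
    refine ⟨orderOf s₀, ?_, Or.inr he⟩
    rw [← h2]
    apply hord
    rw [h2]
    exact hcop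
  · -- Borel
    obtain ⟨r, hfix, hQ⟩ := h
    right; left
    obtain ⟨u, hu1⟩ := (Subgroup.ne_bot_iff_exists_ne_one).mp hQ
    have hu1' : (u : H) ≠ 1 := fun h => hu1 (Subtype.ext h)
    have hu1'' : ((u : H) : Matrix.ProjectiveSpecialLinearGroup (Fin 2) F) ≠ 1 :=
      fun h => hu1' (Subtype.ext h)
    have hupar : Cfsg.Agent.Lib.helper6.Dickson.IsPar r (u : H) := by
      rcases u.2 with h | h
      · exact absurd h hu1'
      · exact h
    have hupar' := (Cfsg.Agent.Lib.helper3.dk_isPar_coe H r (u : H)).mp hupar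
    have hQL : D.Q r ≠ ⊥ := by
      intro hbot
      have hmem : ((u : H) : Matrix.ProjectiveSpecialLinearGroup (Fin 2) F) ∈ D.Q r :=
        Or.inr hupar'
      rw [hbot, Subgroup.mem_bot] at hmem
      exact hu1'' hmem
    obtain ⟨P, hP⟩ := Cfsg.Agent.Lib.helper3.dk_sylow_eq_Q D r hQL
    refine ⟨P, H, ?_, ⟨MulEquiv.refl _⟩⟩
    rw [hP]
    refine le_trans ?_ (Cfsg.Agent.Lib.helper3.dk_stab_le_normalizer D r)
    intro g hg
    exact MulAction.mem_stabilizer_iff.mpr (hfix ⟨g, hg⟩)
  · right; right; left; exact h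
  · right; right; right; left; exact h
  · right; right; right; right; left; exact h
  · -- subfield case
    obtain ⟨K, instK, instKt, a, h, hcard, hh⟩ := h
    right; right; right; right; right
    obtain ⟨f, -, hf⟩ := FiniteField.card F p
    have ha : 1 ≤ a := by
      by_contra hlt
      have h0 : a = 0 := by omega
      rw [h0, pow_zero] at hcard
      have := Fintype.one_lt_card (α := K)
      omega
    have h2 : orderOf (h : Matrix.ProjectiveSpecialLinearGroup (Fin 2) F) = orderOf h :=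
      Subgroup.orderOf_coe h
    have hdiv := Cfsg.Agent.S2475.order_mem p (h : Matrix.ProjectiveSpecialLinearGroup (Fin 2) F)
    rw [h2, hf] at hdiv
    have hN : orderOf h = (p ^ a + 1) / Nat.gcd 2 (p ^ a - 1) ∨ orderOf h = p ^ a + 1 := by
      rcases hh with ⟨_, h⟩ | ⟨_, h⟩
      · left; exact h
      · right; exact h
    have hdvd : a ∣ (f : ℕ) :=
      Cfsg.Agent.Lib.helper3.dk_subfield_dvd p a f (orderOf h) hpP ha f.pos hN hdiv
    obtain ⟨m, hm⟩ := hdvd
    refine ⟨K, instK, instKt, m, ?_, ?_⟩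
    · rw [hcard, hf, hm, pow_mul]
    · rcases hh with ⟨h, _⟩ | ⟨h, _⟩
      · left; exact h
      · right; exact h

end Cfsg.Agent.S0799
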