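import Cfsg.Statements.S2508

import Cfsg.Agent.Lib.helper15.SL2Odd
set_option autoImplicit false
open Cfsg

namespace Cfsg.Agent.S2508


open Cfsg.Agent.Lib.helper15

section Helpers

variable {F : Type*} [Field F] [Fintype F]

theorem mem_center_iff' (g : Matrix.SpecialLinearGroup (Fin 2) F) :
    g ∈ Subgroup.center (Matrix.SpecialLinearGroup (Fin 2) F) ↔
      ∃ c : F, c ^ 2 = 1 ∧ (g : Matrix (Fin 2) (Fin 2) F) = c • (1 : Matrix (Fin 2) (Fin 2) F) := by
  rw [Matrix.SpecialLinearGroup.mem_center_iff]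
  simp only [Fintype.card_fin]
  constructor
  · rintro ⟨r, hr, h⟩
    refine ⟨r, hr, ?_⟩
    rw [← h, Matrix.scalar_apply, Matrix.smul_one_eq_diagonal]
  · rintro ⟨c, hc, h⟩
    refine ⟨c, hc, ?_⟩
    rw [h, Matrix.scalar_apply, Matrix.smul_one_eq_diagonal]

theorem mk_eq_iff (A B : Matrix.SpecialLinearGroup (Fin 2) F) :
    (QuotientGroup.mk A : Matrix.ProjectiveSpecialLinearGroup (Fin 2) F) = QuotientGroup.mk B ↔
      (A : Matrix (Fin 2) (Fin 2) F) = B ∨ (A : Matrix (Fin 2) (Fin 2) F) = -B := by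
  rw [QuotientGroup.eq, mem_center_iff']
  constructor
  · rintro ⟨c, hc, h⟩
    have hB : (B : Matrix (Fin 2) (Fin 2) F) = c • (A : Matrix (Fin 2) (Fin 2) F) := by
      have h1 : B = A * (A⁻¹ * B) := by group
      have h2 := congrArg (fun y : Matrix.SpecialLinearGroup (Fin 2) F => (y : Matrix (Fin 2) (Fin 2) F)) h1
      simp only [Matrix.SpecialLinearGroup.coe_mul] at h2
      rw [← Matrix.SpecialLinearGroup.coe_mul, h, Matrix.mul_smul, mul_one] at h2
      exact h2
    rcases sq_eq_one_iff.mp hc with rfl | rfl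
    · left
      rw [hB, one_smul]
    · right
      rw [hB, neg_smul, one_smul, neg_neg]
  · rintro (h | h)
    · have : A = B := Subtype.ext h
      subst this
      exact ⟨1, one_pow 2, by rw [inv_mul_cancel, one_smul]; rfl⟩
    · have : A = -B := by
        apply Subtype.ext
        rw [Matrix.SpecialLinearGroup.coe_neg]
        exact h
      subst this
      refine ⟨-1, by ring, ?_⟩
      rw [inv_neg, neg_mul, inv_mul_cancel, Matrix.SpecialLinearGroup.coe_neg, neg_smul, one_smul]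
      rfl

def Cp (g : Matrix.SpecialLinearGroup (Fin 2) F) : Subgroup (Matrix.SpecialLinearGroup (Fin 2) F) :=
  (Subgroup.centralizer ({(QuotientGroup.mk g : Matrix.ProjectiveSpecialLinearGroup (Fin 2) F)} :
    Set (Matrix.ProjectiveSpecialLinearGroup (Fin 2) F))).comap
    (QuotientGroup.mk' (Subgroup.center (Matrix.SpecialLinearGroup (Fin 2) F)))

theorem mem_Cp (g x : Matrix.SpecialLinearGroup (Fin 2) F) :
    x ∈ Cp g ↔ (x : Matrix (Fin 2) (Fin 2) F) * (g : Matrix (Fin 2) (Fin 2) F) =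
        (g : Matrix (Fin 2) (Fin 2) F) * (x : Matrix (Fin 2) (Fin 2) F) ∨
      (x : Matrix (Fin 2) (Fin 2) F) * (g : Matrix (Fin 2) (Fin 2) F) =
        -((g : Matrix (Fin 2) (Fin 2) F) * (x : Matrix (Fin 2) (Fin 2) F)) := by
  rw [Cp, Subgroup.mem_comap, Subgroup.mem_centralizer_singleton_iff]
  show (QuotientGroup.mk x : Matrix.ProjectiveSpecialLinearGroup (Fin 2) F) * QuotientGroup.mk g =
    QuotientGroup.mk g * QuotientGroup.mk x ↔ _
  rw [← QuotientGroup.mk_mul, ← QuotientGroup.mk_mul, mk_eq_iff,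
    Matrix.SpecialLinearGroup.coe_mul, Matrix.SpecialLinearGroup.coe_mul]

theorem index_Cp (g : Matrix.SpecialLinearGroup (Fin 2) F) :
    (Subgroup.centralizer ({(QuotientGroup.mk g : Matrix.ProjectiveSpecialLinearGroup (Fin 2) F)} :
      Set (Matrix.ProjectiveSpecialLinearGroup (Fin 2) F))).index = (Cp g).index := by
  rw [Cp]
  exact (Subgroup.index_comap_of_surjective _ (QuotientGroup.mk'_surjective _)).symm

theorem centralizer_le_Cp (g : Matrix.SpecialLinearGroup (Fin 2) F) :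
    Subgroup.centralizer ({g} : Set (Matrix.SpecialLinearGroup (Fin 2) F)) ≤ Cp g := by
  intro x hx
  rw [Subgroup.mem_centralizer_singleton_iff] at hx
  rw [mem_Cp]
  left
  have := congrArg (fun y : Matrix.SpecialLinearGroup (Fin 2) F => (y : Matrix (Fin 2) (Fin 2) F)) hx
  simpa only [Matrix.SpecialLinearGroup.coe_mul] using this

theorem mem_centralizer_iff_mat (g x : Matrix.SpecialLinearGroup (Fin 2) F) :
    x ∈ Subgroup.centralizer ({g} : Set (Matrix.SpecialLinearGroup (Fin 2) F)) ↔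
      (x : Matrix (Fin 2) (Fin 2) F) * (g : Matrix (Fin 2) (Fin 2) F) =
        (g : Matrix (Fin 2) (Fin 2) F) * (x : Matrix (Fin 2) (Fin 2) F) := by
  rw [Subgroup.mem_centralizer_singleton_iff]
  constructor
  · intro hx
    have := congrArg (fun y : Matrix.SpecialLinearGroup (Fin 2) F => (y : Matrix (Fin 2) (Fin 2) F)) hx
    simpa only [Matrix.SpecialLinearGroup.coe_mul] using this
  · intro h
    apply Subtype.ext
    rw [Matrix.SpecialLinearGroup.coe_mul, Matrix.SpecialLinearGroup.coe_mul]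
    exact h

theorem neg_ne_self (h2 : (2 : F) ≠ 0) (M : Matrix (Fin 2) (Fin 2) F) (hdet : M.det = 1) :
    M ≠ -M := by
  intro h
  have h0 : M = 0 := by
    ext i j
    have hij := congrFun (congrFun h i) j
    rw [Matrix.neg_apply] at hij
    have : 2 * M i j = 0 := by linear_combination hij
    rcases mul_eq_zero.mp this with h' | h'
    · exact absurd h' h2
    · simpa using h'
  rw [h0, Matrix.det_fin_two] at hdet
  simp at hdet

theorem trace_zero_of_anticomm (h2 : (2 : F) ≠ 0) (g x : Matrix.SpecialLinearGroup (Fin 2) F)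
    (h : (x : Matrix (Fin 2) (Fin 2) F) * (g : Matrix (Fin 2) (Fin 2) F) =
        -((g : Matrix (Fin 2) (Fin 2) F) * (x : Matrix (Fin 2) (Fin 2) F))) :
    (g : Matrix (Fin 2) (Fin 2) F).trace = 0 := by
  have hinv : (x : Matrix (Fin 2) (Fin 2) F) * ((x⁻¹ : Matrix.SpecialLinearGroup (Fin 2) F) : Matrix (Fin 2) (Fin 2) F) = 1 := by
    rw [← Matrix.SpecialLinearGroup.coe_mul, mul_inv_cancel, Matrix.SpecialLinearGroup.coe_one]
  have hinv' : ((x⁻¹ : Matrix.SpecialLinearGroup (Fin 2) F) : Matrix (Fin 2) (Fin 2) F) * (x : Matrix (Fin 2) (Fin 2) F) = 1 := by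
    rw [← Matrix.SpecialLinearGroup.coe_mul, inv_mul_cancel, Matrix.SpecialLinearGroup.coe_one]
  have h1 : ((g : Matrix (Fin 2) (Fin 2) F) * (x : Matrix (Fin 2) (Fin 2) F) *
      ((x⁻¹ : Matrix.SpecialLinearGroup (Fin 2) F) : Matrix (Fin 2) (Fin 2) F)).trace =
      (g : Matrix (Fin 2) (Fin 2) F).trace := by
    rw [mul_assoc, hinv, mul_one]
  have h3 : ((g : Matrix (Fin 2) (Fin 2) F) * (x : Matrix (Fin 2) (Fin 2) F) *
      ((x⁻¹ : Matrix.SpecialLinearGroup (Fin 2) F) : Matrix (Fin 2) (Fin 2) F)).trace =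
      -(g : Matrix (Fin 2) (Fin 2) F).trace := by
    have h4 : (g : Matrix (Fin 2) (Fin 2) F) * (x : Matrix (Fin 2) (Fin 2) F) =
        -((x : Matrix (Fin 2) (Fin 2) F) * (g : Matrix (Fin 2) (Fin 2) F)) := by
      rw [h, neg_neg]
    rw [h4, neg_mul, Matrix.trace_neg, Matrix.trace_mul_comm, ← mul_assoc, hinv', one_mul]
  rw [h1] at h3
  have : 2 * (g : Matrix (Fin 2) (Fin 2) F).trace = 0 := by linear_combination h3
  rcases mul_eq_zero.mp this with h' | h'
  · exact absurd h' h2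
  · exact h'

theorem Cp_eq_centralizer (h2 : (2 : F) ≠ 0) (g : Matrix.SpecialLinearGroup (Fin 2) F)
    (ht : (g : Matrix (Fin 2) (Fin 2) F).trace ≠ 0) :
    Cp g = Subgroup.centralizer ({g} : Set (Matrix.SpecialLinearGroup (Fin 2) F)) := by
  apply le_antisymm _ (centralizer_le_Cp g)
  intro x hx
  rw [mem_Cp] at hx
  rw [mem_centralizer_iff_mat]
  rcases hx with hx | hx
  · exact hx
  · exact absurd (trace_zero_of_anticomm h2 g x hx) ht

theorem exists_anticomm (hodd : Fintype.card F % 2 = 1) (h2 : (2 : F) ≠ 0)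
    (G : Matrix (Fin 2) (Fin 2) F) (hdet : G.det = 1) (ht : G.trace = 0) :
    ∃ Y : Matrix (Fin 2) (Fin 2) F, Y.det = 1 ∧ Y * G = -(G * Y) := by
  rw [Matrix.det_fin_two] at hdet
  rw [Matrix.trace_fin_two] at ht
  have h11 : G 1 1 = -G 0 0 := by linear_combination ht
  rw [h11] at hdet
  by_cases hb : G 0 1 = 0
  · rw [hb] at hdet
    have ha : G 0 0 ≠ 0 := by
      intro h0
      rw [h0] at hdet
      simp at hdet
    refine ⟨!![G 1 0, -2 * G 0 0; (1 + G 1 0 ^ 2) / (2 * G 0 0), -G 1 0], ?_, ?_⟩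
    · rw [Matrix.det_fin_two_of]
      field_simp
      ring
    · rw [m2_eq_iff]
      simp only [Matrix.mul_apply, Fin.sum_univ_two, Matrix.neg_apply, Matrix.of_apply,
        Matrix.cons_val', Matrix.cons_val_zero, Matrix.cons_val_one, Matrix.empty_val',
        Matrix.cons_val_fin_one, h11, hb]
      refine ⟨by ring, by ring, ?_, by ring⟩
      field_simp
      ring
  · have h4 : (0 : F) ^ 2 ≠ 4 := by
      have : (4 : F) = 2 * 2 := by norm_num
      rw [this]
      simp [h2]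
    obtain ⟨⟨u, v⟩, huv⟩ := nrm_universal hodd h2 (0 : F) h4 (-1)
    simp only [nrm, mul_zero, add_zero] at huv
    obtain ⟨bi, hbi⟩ : ∃ bi : F, G 0 1 * bi = 1 := ⟨(G 0 1)⁻¹, mul_inv_cancel₀ hb⟩
    refine ⟨!![u + G 0 0 * v, G 0 1 * v;
      -(2 * G 0 0 * (u + G 0 0 * v) + G 1 0 * (G 0 1 * v)) * bi, -(u + G 0 0 * v)], ?_, ?_⟩
    · rw [Matrix.det_fin_two_of]
      linear_combination (-1 : F) * huv - v ^ 2 * hdet +
        v * (2 * G 0 0 * (u + G 0 0 * v) + G 1 0 * (G 0 1 * v)) * hbi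
    · rw [m2_eq_iff]
      simp only [Matrix.mul_apply, Fin.sum_univ_two, Matrix.neg_apply, Matrix.of_apply,
        Matrix.cons_val', Matrix.cons_val_zero, Matrix.cons_val_one, Matrix.empty_val',
        Matrix.cons_val_fin_one, h11]
      refine ⟨?_, ?_, ?_, ?_⟩
      · linear_combination (-(2 * G 0 0 * (u + G 0 0 * v) + G 1 0 * (G 0 1 * v))) * hbi
      · ring
      · ring
      · linear_combination (-(2 * G 0 0 * (u + G 0 0 * v) + G 1 0 * (G 0 1 * v))) * hbi

theorem exists_anticomm_SL (hodd : Fintype.card F % 2 = 1) (h2 : (2 : F) ≠ 0)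
    (g : Matrix.SpecialLinearGroup (Fin 2) F)
    (ht : (g : Matrix (Fin 2) (Fin 2) F).trace = 0) :
    ∃ y : Matrix.SpecialLinearGroup (Fin 2) F,
      (y : Matrix (Fin 2) (Fin 2) F) * (g : Matrix (Fin 2) (Fin 2) F) =
        -((g : Matrix (Fin 2) (Fin 2) F) * (y : Matrix (Fin 2) (Fin 2) F)) := by
  obtain ⟨Y, hYdet, hY⟩ := exists_anticomm hodd h2 (g : Matrix (Fin 2) (Fin 2) F) g.2 ht
  exact ⟨⟨Y, hYdet⟩, hY⟩

theorem relIndex_two (hodd : Fintype.card F % 2 = 1) (h2 : (2 : F) ≠ 0)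
    (g : Matrix.SpecialLinearGroup (Fin 2) F)
    (ht : (g : Matrix (Fin 2) (Fin 2) F).trace = 0) :
    (Subgroup.centralizer ({g} : Set (Matrix.SpecialLinearGroup (Fin 2) F))).relIndex (Cp g) = 2 := by
  obtain ⟨y, hY⟩ := exists_anticomm_SL hodd h2 g ht
  rw [Subgroup.relIndex_eq_two_iff]
  refine ⟨y, ?_, ?_⟩
  · rw [mem_Cp]
    right
    exact hY
  · intro b hb
    rw [mem_Cp] at hb
    rw [mem_centralizer_iff_mat, mem_centralizer_iff_mat, Matrix.SpecialLinearGroup.coe_mul]
    have hdetgbY : ((g : Matrix (Fin 2) (Fin 2) F) * ((b : Matrix (Fin 2) (Fin 2) F) *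
        (y : Matrix (Fin 2) (Fin 2) F))).det = 1 := by
      rw [Matrix.det_mul, Matrix.det_mul, y.2, g.2, b.2]
      ring
    have hdetgb : ((g : Matrix (Fin 2) (Fin 2) F) * (b : Matrix (Fin 2) (Fin 2) F)).det = 1 := by
      rw [Matrix.det_mul, g.2, b.2]
      ring
    rcases hb with hb | hb
    · right
      refine ⟨hb, ?_⟩
      intro h
      have h3 : (b : Matrix (Fin 2) (Fin 2) F) * (y : Matrix (Fin 2) (Fin 2) F) *
          (g : Matrix (Fin 2) (Fin 2) F) =
          -((g : Matrix (Fin 2) (Fin 2) F) * ((b : Matrix (Fin 2) (Fin 2) F) *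
            (y : Matrix (Fin 2) (Fin 2) F))) := by
        rw [mul_assoc, hY, mul_neg, ← mul_assoc, hb, mul_assoc]
      rw [h] at h3
      exact neg_ne_self h2 _ hdetgbY h3
    · left
      refine ⟨?_, ?_⟩
      · rw [mul_assoc, hY, mul_neg, ← mul_assoc, hb, neg_mul, neg_neg, mul_assoc]
      · intro h
        rw [h] at hb
        exact neg_ne_self h2 _ hdetgb hb

theorem index_centralizer_eq (hodd : Fintype.card F % 2 = 1) (h2 : (2 : F) ≠ 0)
    (g : Matrix.SpecialLinearGroup (Fin 2) F)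
    (ht : (g : Matrix (Fin 2) (Fin 2) F).trace = 0) :
    (Subgroup.centralizer ({g} : Set (Matrix.SpecialLinearGroup (Fin 2) F))).index =
      2 * (Cp g).index := by
  have h := Subgroup.relIndex_mul_index (centralizer_le_Cp g)
  rw [relIndex_two hodd h2 g ht] at h
  exact h.symm

theorem card_mul_index_SL (s : Matrix.SpecialLinearGroup (Fin 2) F)
    (hs : ∀ c : F, (s : Matrix (Fin 2) (Fin 2) F) ≠ c • (1 : Matrix (Fin 2) (Fin 2) F)) :
    Nat.card (normSet (s : Matrix (Fin 2) (Fin 2) F).trace) *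
      (Subgroup.centralizer ({s} : Set (Matrix.SpecialLinearGroup (Fin 2) F))).index =
      Fintype.card F * (Fintype.card F ^ 2 - 1) := by
  rw [← card_centralizer_eq s hs, Subgroup.card_mul_index, card_SL2]

theorem sq_sub_one (q : ℕ) (hq : 1 ≤ q) : q ^ 2 - 1 = (q - 1) * (q + 1) := by
  obtain ⟨k, rfl⟩ : ∃ k, q = k + 1 := ⟨q - 1, by omega⟩
  simp only [Nat.add_sub_cancel]
  have : (k + 1) ^ 2 = k * (k + 1 + 1) + 1 := by ring
  rw [this, Nat.add_sub_cancel]

theorem cindex_double (h2 : (2 : F) ≠ 0) (s : Matrix.SpecialLinearGroup (Fin 2) F)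
    (hs : ∀ c : F, (s : Matrix (Fin 2) (Fin 2) F) ≠ c • (1 : Matrix (Fin 2) (Fin 2) F))
    (l : F) (hl : l ^ 2 - (s : Matrix (Fin 2) (Fin 2) F).trace * l + 1 = 0) (hl1 : l ^ 2 = 1) :
    (Subgroup.centralizer ({s} : Set (Matrix.SpecialLinearGroup (Fin 2) F))).index =
      (Fintype.card F ^ 2 - 1) / 2 := by
  have hq : 2 ≤ Fintype.card F := Fintype.one_lt_card
  have h := card_mul_index_SL s hs
  have htl : (s : Matrix (Fin 2) (Fin 2) F).trace = 2 * l := by
    linear_combination (-l) * hl + (l - (s : Matrix (Fin 2) (Fin 2) F).trace) * hl1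
  rw [htl, card_normSet_double h2 l hl1] at h
  have h3 : Fintype.card F * (2 * (Subgroup.centralizer ({s} : Set (Matrix.SpecialLinearGroup (Fin 2) F))).index) =
      Fintype.card F * (Fintype.card F ^ 2 - 1) := by
    rw [← h]
    ring
  have h4 := Nat.eq_of_mul_eq_mul_left (by omega) h3
  omega

theorem cindex_split (s : Matrix.SpecialLinearGroup (Fin 2) F)
    (hs : ∀ c : F, (s : Matrix (Fin 2) (Fin 2) F) ≠ c • (1 : Matrix (Fin 2) (Fin 2) F))
    (l : F) (hl : l ^ 2 - (s : Matrix (Fin 2) (Fin 2) F).trace * l + 1 = 0) (hl1 : l ^ 2 ≠ 1) :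
    (Subgroup.centralizer ({s} : Set (Matrix.SpecialLinearGroup (Fin 2) F))).index =
      Fintype.card F * (Fintype.card F + 1) := by
  have hq : 2 ≤ Fintype.card F := Fintype.one_lt_card
  have h := card_mul_index_SL s hs
  rw [card_normSet_split _ l hl hl1, sq_sub_one _ (by omega)] at h
  have h3 : Fintype.card F * ((Fintype.card F - 1) * (Fintype.card F + 1)) =
      (Fintype.card F - 1) * (Fintype.card F * (Fintype.card F + 1)) := by ring
  rw [h3] at h
  exact Nat.eq_of_mul_eq_mul_left (by omega) h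

theorem cindex_nonsplit (hodd : Fintype.card F % 2 = 1) (h2 : (2 : F) ≠ 0)
    (s : Matrix.SpecialLinearGroup (Fin 2) F)
    (hs : ∀ c : F, (s : Matrix (Fin 2) (Fin 2) F) ≠ c • (1 : Matrix (Fin 2) (Fin 2) F))
    (hns : ∀ l : F, l ^ 2 - (s : Matrix (Fin 2) (Fin 2) F).trace * l + 1 ≠ 0) :
    (Subgroup.centralizer ({s} : Set (Matrix.SpecialLinearGroup (Fin 2) F))).index =
      Fintype.card F * (Fintype.card F - 1) := by
  have hq : 2 ≤ Fintype.card F := Fintype.one_lt_card
  have h := card_mul_index_SL s hs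
  rw [card_normSet_nonsplit_odd hodd h2 _ hns, sq_sub_one _ (by omega)] at h
  have h3 : Fintype.card F * ((Fintype.card F - 1) * (Fintype.card F + 1)) =
      (Fintype.card F + 1) * (Fintype.card F * (Fintype.card F - 1)) := by ring
  rw [h3] at h
  exact Nat.eq_of_mul_eq_mul_left (by omega) h

theorem idx_scalar (g : Matrix.SpecialLinearGroup (Fin 2) F) (c : F)
    (hc : (g : Matrix (Fin 2) (Fin 2) F) = c • (1 : Matrix (Fin 2) (Fin 2) F)) :
    (Subgroup.centralizer ({(QuotientGroup.mk g : Matrix.ProjectiveSpecialLinearGroup (Fin 2) F)} :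
      Set (Matrix.ProjectiveSpecialLinearGroup (Fin 2) F))).index = 1 := by
  have hdet : (g : Matrix (Fin 2) (Fin 2) F).det = 1 := g.2
  rw [hc, Matrix.det_smul, Matrix.det_one, Fintype.card_fin, mul_one] at hdet
  have hmem : g ∈ Subgroup.center (Matrix.SpecialLinearGroup (Fin 2) F) :=
    (mem_center_iff' g).mpr ⟨c, hdet, hc⟩
  have h1 : (QuotientGroup.mk g : Matrix.ProjectiveSpecialLinearGroup (Fin 2) F) = 1 :=
    (QuotientGroup.eq_one_iff g).mpr hmem
  rw [h1]
  have : Subgroup.centralizer ({1} : Set (Matrix.ProjectiveSpecialLinearGroup (Fin 2) F)) = ⊤ := by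
    ext y
    simp [Subgroup.mem_centralizer_singleton_iff]
  rw [this, Subgroup.index_top]

theorem idx_trace_zero (hodd : Fintype.card F % 2 = 1) (h2 : (2 : F) ≠ 0)
    (g : Matrix.SpecialLinearGroup (Fin 2) F)
    (hs : ∀ c : F, (g : Matrix (Fin 2) (Fin 2) F) ≠ c • (1 : Matrix (Fin 2) (Fin 2) F))
    (ht : (g : Matrix (Fin 2) (Fin 2) F).trace = 0) :
    ((∃ l : F, l ^ 2 + 1 = 0) ∧
      (Subgroup.centralizer ({(QuotientGroup.mk g : Matrix.ProjectiveSpecialLinearGroup (Fin 2) F)} :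
      Set (Matrix.ProjectiveSpecialLinearGroup (Fin 2) F))).index =
        Fintype.card F * (Fintype.card F + 1) / 2) ∨
    ((¬ ∃ l : F, l ^ 2 + 1 = 0) ∧
      (Subgroup.centralizer ({(QuotientGroup.mk g : Matrix.ProjectiveSpecialLinearGroup (Fin 2) F)} :
      Set (Matrix.ProjectiveSpecialLinearGroup (Fin 2) F))).index =
        Fintype.card F * (Fintype.card F - 1) / 2) := by
  rw [index_Cp]
  have hi := index_centralizer_eq hodd h2 g ht
  by_cases hsp : ∃ l : F, l ^ 2 + 1 = 0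
  · left
    refine ⟨hsp, ?_⟩
    obtain ⟨l, hl⟩ := hsp
    have hl' : l ^ 2 - (g : Matrix (Fin 2) (Fin 2) F).trace * l + 1 = 0 := by
      rw [ht]
      linear_combination hl
    have hl1 : l ^ 2 ≠ 1 := by
      intro h1
      apply h2
      linear_combination hl - h1
    rw [cindex_split g hs l hl' hl1] at hi
    omega
  · right
    refine ⟨hsp, ?_⟩
    push Not at hsp
    have hns : ∀ l : F, l ^ 2 - (g : Matrix (Fin 2) (Fin 2) F).trace * l + 1 ≠ 0 := by
      intro l hl
      apply hsp l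
      rw [ht] at hl
      linear_combination hl
    rw [cindex_nonsplit hodd h2 g hs hns] at hi
    omega

theorem idx_cases (hodd : Fintype.card F % 2 = 1) (h2 : (2 : F) ≠ 0)
    (g : Matrix.SpecialLinearGroup (Fin 2) F) :
    (Subgroup.centralizer ({(QuotientGroup.mk g : Matrix.ProjectiveSpecialLinearGroup (Fin 2) F)} :
      Set (Matrix.ProjectiveSpecialLinearGroup (Fin 2) F))).index = 1 ∨
    (Subgroup.centralizer ({(QuotientGroup.mk g : Matrix.ProjectiveSpecialLinearGroup (Fin 2) F)} :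
      Set (Matrix.ProjectiveSpecialLinearGroup (Fin 2) F))).index = (Fintype.card F ^ 2 - 1) / 2 ∨
    (Subgroup.centralizer ({(QuotientGroup.mk g : Matrix.ProjectiveSpecialLinearGroup (Fin 2) F)} :
      Set (Matrix.ProjectiveSpecialLinearGroup (Fin 2) F))).index =
        Fintype.card F * (Fintype.card F + 1) ∨
    (Subgroup.centralizer ({(QuotientGroup.mk g : Matrix.ProjectiveSpecialLinearGroup (Fin 2) F)} :
      Set (Matrix.ProjectiveSpecialLinearGroup (Fin 2) F))).index =
        Fintype.card F * (Fintype.card F - 1) ∨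
    ((∃ l : F, l ^ 2 + 1 = 0) ∧
      (Subgroup.centralizer ({(QuotientGroup.mk g : Matrix.ProjectiveSpecialLinearGroup (Fin 2) F)} :
      Set (Matrix.ProjectiveSpecialLinearGroup (Fin 2) F))).index =
        Fintype.card F * (Fintype.card F + 1) / 2) ∨
    ((¬ ∃ l : F, l ^ 2 + 1 = 0) ∧
      (Subgroup.centralizer ({(QuotientGroup.mk g : Matrix.ProjectiveSpecialLinearGroup (Fin 2) F)} :
      Set (Matrix.ProjectiveSpecialLinearGroup (Fin 2) F))).index =
        Fintype.card F * (Fintype.card F - 1) / 2) := by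
  by_cases hs : ∃ c : F, (g : Matrix (Fin 2) (Fin 2) F) = c • (1 : Matrix (Fin 2) (Fin 2) F)
  · obtain ⟨c, hc⟩ := hs
    exact Or.inl (idx_scalar g c hc)
  · push Not at hs
    rw [index_Cp]
    by_cases ht : (g : Matrix (Fin 2) (Fin 2) F).trace = 0
    · right; right; right; right
      rw [← index_Cp]
      exact idx_trace_zero hodd h2 g hs ht
    · rw [Cp_eq_centralizer h2 g ht]
      by_cases hsp : ∃ l : F, l ^ 2 - (g : Matrix (Fin 2) (Fin 2) F).trace * l + 1 = 0
      · obtain ⟨l, hl⟩ := hsp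
        by_cases hl1 : l ^ 2 = 1
        · right; left
          exact cindex_double h2 g hs l hl hl1
        · right; right; left
          exact cindex_split g hs l hl hl1
      · push Not at hsp
        right; right; right; left
        exact cindex_nonsplit hodd h2 g hs hsp

theorem exists_unip (h2 : (2 : F) ≠ 0) : ∃ s : Matrix.SpecialLinearGroup (Fin 2) F,
    (∀ c : F, (s : Matrix (Fin 2) (Fin 2) F) ≠ c • (1 : Matrix (Fin 2) (Fin 2) F)) ∧
    (s : Matrix (Fin 2) (Fin 2) F).trace ≠ 0 ∧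
    ∃ l : F, l ^ 2 - (s : Matrix (Fin 2) (Fin 2) F).trace * l + 1 = 0 ∧ l ^ 2 = 1 := by
  refine ⟨⟨!![1, 1; 0, 1], by simp [Matrix.det_fin_two]⟩, ?_, ?_, 1, ?_, one_pow 2⟩
  · intro c hc
    have := congrFun (congrFun hc 0) 1
    simp at this
  · show (!![1, 1; 0, 1] : Matrix (Fin 2) (Fin 2) F).trace ≠ 0
    rw [Matrix.trace_fin_two]
    simp only [Matrix.of_apply, Matrix.cons_val', Matrix.cons_val_zero, Matrix.cons_val_one,
      Matrix.empty_val', Matrix.cons_val_fin_one]
    intro h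
    apply h2
    linear_combination h
  · show (1 : F) ^ 2 - (!![1, 1; 0, 1] : Matrix (Fin 2) (Fin 2) F).trace * 1 + 1 = 0
    rw [Matrix.trace_fin_two]
    simp only [Matrix.of_apply, Matrix.cons_val', Matrix.cons_val_zero, Matrix.cons_val_one,
      Matrix.empty_val', Matrix.cons_val_fin_one]
    ring

theorem exists_diag (h7 : 7 ≤ Fintype.card F) :
    ∃ s : Matrix.SpecialLinearGroup (Fin 2) F,
    (∀ c : F, (s : Matrix (Fin 2) (Fin 2) F) ≠ c • (1 : Matrix (Fin 2) (Fin 2) F)) ∧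
    (s : Matrix (Fin 2) (Fin 2) F).trace ≠ 0 ∧
    ∃ l : F, l ^ 2 - (s : Matrix (Fin 2) (Fin 2) F).trace * l + 1 = 0 ∧ l ^ 2 ≠ 1 := by
  obtain ⟨l, hl0, hl4⟩ := exists_pow_four_ne_one h7
  have hl2 : l ^ 2 ≠ 1 := by
    intro h
    apply hl4
    have : l ^ 4 = (l ^ 2) ^ 2 := by ring
    rw [this, h, one_pow]
  have hl2' : l ^ 2 ≠ -1 := by
    intro h
    apply hl4
    have : l ^ 4 = (l ^ 2) ^ 2 := by ring
    rw [this, h]
    ring
  have hll : l ≠ l⁻¹ := by
    intro h
    apply hl2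
    rw [pow_two]
    nth_rewrite 2 [h]
    exact mul_inv_cancel₀ hl0
  refine ⟨⟨!![l, 0; 0, l⁻¹], by simp [Matrix.det_fin_two, hl0]⟩, ?_, ?_, l, ?_, hl2⟩
  · intro c hc
    have h00 := congrFun (congrFun hc 0) 0
    have h11 := congrFun (congrFun hc 1) 1
    simp at h00 h11
    exact hll (h00.trans h11.symm)
  · show (!![l, 0; 0, l⁻¹] : Matrix (Fin 2) (Fin 2) F).trace ≠ 0
    rw [Matrix.trace_fin_two]
    simp only [Matrix.of_apply, Matrix.cons_val', Matrix.cons_val_zero, Matrix.cons_val_one,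
      Matrix.empty_val', Matrix.cons_val_fin_one]
    intro h
    apply hl2'
    have : l * (l + l⁻¹) = 0 := by rw [h, mul_zero]
    rw [mul_add, mul_inv_cancel₀ hl0] at this
    linear_combination this
  · show l ^ 2 - (!![l, 0; 0, l⁻¹] : Matrix (Fin 2) (Fin 2) F).trace * l + 1 = 0
    rw [Matrix.trace_fin_two]
    simp only [Matrix.of_apply, Matrix.cons_val', Matrix.cons_val_zero, Matrix.cons_val_one,
      Matrix.empty_val', Matrix.cons_val_fin_one]
    field_simp
    ring

theorem exists_companion (h2 : (2 : F) ≠ 0) (h7 : 7 ≤ Fintype.card F) :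
    ∃ s : Matrix.SpecialLinearGroup (Fin 2) F,
    (∀ c : F, (s : Matrix (Fin 2) (Fin 2) F) ≠ c • (1 : Matrix (Fin 2) (Fin 2) F)) ∧
    (s : Matrix (Fin 2) (Fin 2) F).trace ≠ 0 ∧
    ∀ l : F, l ^ 2 - (s : Matrix (Fin 2) (Fin 2) F).trace * l + 1 ≠ 0 := by
  obtain ⟨t, ht0, ht⟩ := exists_nonsplit_odd h2 h7
  refine ⟨⟨!![0, -1; 1, t], by simp [Matrix.det_fin_two]⟩, ?_, ?_, ?_⟩
  · intro c hc
    have := congrFun (congrFun hc 1) 0
    simp at this
  · show (!![0, -1; 1, t] : Matrix (Fin 2) (Fin 2) F).trace ≠ 0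
    rw [Matrix.trace_fin_two]
    simpa using ht0
  · show ∀ l : F, l ^ 2 - (!![0, -1; 1, t] : Matrix (Fin 2) (Fin 2) F).trace * l + 1 ≠ 0
    rw [Matrix.trace_fin_two]
    simpa using ht

theorem exists_trace_zero : ∃ s : Matrix.SpecialLinearGroup (Fin 2) F,
    (∀ c : F, (s : Matrix (Fin 2) (Fin 2) F) ≠ c • (1 : Matrix (Fin 2) (Fin 2) F)) ∧
    (s : Matrix (Fin 2) (Fin 2) F).trace = 0 := by
  refine ⟨⟨!![0, -1; 1, 0], by simp [Matrix.det_fin_two]⟩, ?_, ?_⟩
  · intro c hc
    have := congrFun (congrFun hc 1) 0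
    simp at this
  · show (!![0, -1; 1, 0] : Matrix (Fin 2) (Fin 2) F).trace = 0
    rw [Matrix.trace_fin_two]
    simp

end Helpers

/-- Let F be a finite field with q elements, q odd and q ≥ 7. If q ≡ 1 (mod 4) the conjugacy class sizes of PSL(2,F) are exactly 1, (q² − 1)/2, q(q + 1)/2, q(q − 1) and q(q + 1); if q ≡ 3 (mod 4) they are exactly 1, (q² − 1)/2, q(q − 1)/2, q(q + 1) and q(q − 1). -/
theorem result {F : Type*} [Field F] [Fintype F]
    (hodd : ¬ 2 ∣ Fintype.card F) (h7 : 7 ≤ Fintype.card F) :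
    (Fintype.card F % 4 = 1 →
      Set.range (fun g : (Matrix.ProjectiveSpecialLinearGroup (Fin 2) F) => (Subgroup.centralizer ({g} : Set (Matrix.ProjectiveSpecialLinearGroup (Fin 2) F))).index) =
        {1, (Fintype.card F ^ 2 - 1) / 2, Fintype.card F * (Fintype.card F + 1) / 2,
          Fintype.card F * (Fintype.card F - 1), Fintype.card F * (Fintype.card F + 1)}) ∧
    (Fintype.card F % 4 = 3 →
      Set.range (fun g : (Matrix.ProjectiveSpecialLinearGroup (Fin 2) F) => (Subgroup.centralizer ({g} : Set (Matrix.ProjectiveSpecialLinearGroup (Fin 2) F))).index) =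
        {1, (Fintype.card F ^ 2 - 1) / 2, Fintype.card F * (Fintype.card F - 1) / 2,
          Fintype.card F * (Fintype.card F + 1), Fintype.card F * (Fintype.card F - 1)}) := by
  have hodd' : Fintype.card F % 2 = 1 := by omega
  have h2 : (2 : F) ≠ 0 := by
    intro h
    have : CharP F 2 := CharTwo.of_one_ne_zero_of_two_eq_zero one_ne_zero h
    obtain ⟨n, _, hn⟩ := FiniteField.card F 2
    apply hodd
    rw [hn]
    exact dvd_pow_self 2 n.ne_zero
  have hsq : (∃ l : F, l ^ 2 + 1 = 0) ↔ Fintype.card F % 4 ≠ 3 := by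
    rw [← FiniteField.isSquare_neg_one_iff]
    constructor
    · rintro ⟨l, hl⟩
      exact ⟨l, by linear_combination -hl⟩
    · rintro ⟨l, hl⟩
      exact ⟨l, by linear_combination -hl⟩
  have hone : ∃ g : Matrix.ProjectiveSpecialLinearGroup (Fin 2) F,
      (Subgroup.centralizer ({g} : Set (Matrix.ProjectiveSpecialLinearGroup (Fin 2) F))).index = 1 :=
    ⟨QuotientGroup.mk (1 : Matrix.SpecialLinearGroup (Fin 2) F),
      idx_scalar 1 1 (by rw [one_smul]; rfl)⟩
  have hunip : ∃ g : Matrix.ProjectiveSpecialLinearGroup (Fin 2) F,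
      (Subgroup.centralizer ({g} : Set (Matrix.ProjectiveSpecialLinearGroup (Fin 2) F))).index =
        (Fintype.card F ^ 2 - 1) / 2 := by
    obtain ⟨s, hs, ht, l, hl, hl1⟩ := exists_unip (F := F) h2
    refine ⟨QuotientGroup.mk s, ?_⟩
    rw [index_Cp, Cp_eq_centralizer h2 s ht]
    exact cindex_double h2 s hs l hl hl1
  have hdiag : ∃ g : Matrix.ProjectiveSpecialLinearGroup (Fin 2) F,
      (Subgroup.centralizer ({g} : Set (Matrix.ProjectiveSpecialLinearGroup (Fin 2) F))).index =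
        Fintype.card F * (Fintype.card F + 1) := by
    obtain ⟨s, hs, ht, l, hl, hl1⟩ := exists_diag (F := F) h7
    refine ⟨QuotientGroup.mk s, ?_⟩
    rw [index_Cp, Cp_eq_centralizer h2 s ht]
    exact cindex_split s hs l hl hl1
  have hcomp : ∃ g : Matrix.ProjectiveSpecialLinearGroup (Fin 2) F,
      (Subgroup.centralizer ({g} : Set (Matrix.ProjectiveSpecialLinearGroup (Fin 2) F))).index =
        Fintype.card F * (Fintype.card F - 1) := by
    obtain ⟨s, hs, ht, hns⟩ := exists_companion (F := F) h2 h7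
    refine ⟨QuotientGroup.mk s, ?_⟩
    rw [index_Cp, Cp_eq_centralizer h2 s ht]
    exact cindex_nonsplit hodd' h2 s hs hns
  obtain ⟨s0, hs0, ht0⟩ := exists_trace_zero (F := F)
  have h0 := idx_trace_zero hodd' h2 s0 hs0 ht0
  constructor
  · intro hmod
    have hex : ∃ l : F, l ^ 2 + 1 = 0 := hsq.mpr (by omega)
    ext x
    simp only [Set.mem_range, Set.mem_insert_iff, Set.mem_singleton_iff]
    constructor
    · rintro ⟨g, rfl⟩
      obtain ⟨s, rfl⟩ := QuotientGroup.mk_surjective g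
      rcases idx_cases hodd' h2 s with h | h | h | h | ⟨_, h⟩ | ⟨hn, _⟩
      · exact Or.inl h
      · exact Or.inr (Or.inl h)
      · exact Or.inr (Or.inr (Or.inr (Or.inr h)))
      · exact Or.inr (Or.inr (Or.inr (Or.inl h)))
      · exact Or.inr (Or.inr (Or.inl h))
      · exact absurd hex hn
    · rintro (rfl | rfl | rfl | rfl | rfl)
      · exact hone
      · exact hunip
      · rcases h0 with ⟨_, h⟩ | ⟨hn, _⟩
        · exact ⟨_, h⟩
        · exact absurd hex hn
      · exact hcomp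
      · exact hdiag
  · intro hmod
    have hex : ¬ ∃ l : F, l ^ 2 + 1 = 0 := by
      rw [hsq]
      omega
    ext x
    simp only [Set.mem_range, Set.mem_insert_iff, Set.mem_singleton_iff]
    constructor
    · rintro ⟨g, rfl⟩
      obtain ⟨s, rfl⟩ := QuotientGroup.mk_surjective g
      rcases idx_cases hodd' h2 s with h | h | h | h | ⟨hy, _⟩ | ⟨_, h⟩
      · exact Or.inl h
      · exact Or.inr (Or.inl h)
      · exact Or.inr (Or.inr (Or.inr (Or.inl h)))
      · exact Or.inr (Or.inr (Or.inr (Or.inr h)))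
      · exact absurd hy hex
      · exact Or.inr (Or.inr (Or.inl h))
    · rintro (rfl | rfl | rfl | rfl | rfl)
      · exact hone
      · exact hunip
      · rcases h0 with ⟨hy, _⟩ | ⟨_, h⟩
        · exact absurd hy hex
        · exact ⟨_, h⟩
      · exact hdiag
      · exact hcomp

end Cfsg.Agent.S2508
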