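import Cfsg.Statements.S0809

import Cfsg.Agent.Lib.helper15.SL2Conj
import Cfsg.Agent.S2508
set_option autoImplicit false
open Cfsg

namespace Cfsg.Agent.S0809


open Cfsg.Agent.Lib.helper15 Cfsg.Agent.S2508

section Helpers

variable {F : Type*} [Field F] [Fintype F]

theorem sq_eq_one_imp (h2 : (2 : F) ≠ 0) (X : Matrix.SpecialLinearGroup (Fin 2) F)
    (h : X * X = 1) : X = 1 ∨ X = -1 := by
  have hsq := m2_sq (X : Matrix (Fin 2) (Fin 2) F) X.2
  have h1 : (X : Matrix (Fin 2) (Fin 2) F) * (X : Matrix (Fin 2) (Fin 2) F) = 1 := by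
    rw [← Matrix.SpecialLinearGroup.coe_mul, h, Matrix.SpecialLinearGroup.coe_one]
  rw [h1] at hsq
  have h3 : (X : Matrix (Fin 2) (Fin 2) F).trace • (X : Matrix (Fin 2) (Fin 2) F) =
      (2 : F) • (1 : Matrix (Fin 2) (Fin 2) F) := by
    rw [two_smul]
    calc (X : Matrix (Fin 2) (Fin 2) F).trace • (X : Matrix (Fin 2) (Fin 2) F)
        = ((X : Matrix (Fin 2) (Fin 2) F).trace • (X : Matrix (Fin 2) (Fin 2) F) - 1) + 1 := by abel
      _ = 1 + 1 := by rw [← hsq]
  have ht : (X : Matrix (Fin 2) (Fin 2) F).trace ≠ 0 := by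
    intro h0
    rw [h0, zero_smul] at h3
    have := congrFun (congrFun h3 0) 0
    simp at this
    exact h2 this.symm
  have hX : (X : Matrix (Fin 2) (Fin 2) F) =
      (2 / (X : Matrix (Fin 2) (Fin 2) F).trace) • (1 : Matrix (Fin 2) (Fin 2) F) := by
    calc (X : Matrix (Fin 2) (Fin 2) F)
        = ((X : Matrix (Fin 2) (Fin 2) F).trace)⁻¹ • ((X : Matrix (Fin 2) (Fin 2) F).trace •
          (X : Matrix (Fin 2) (Fin 2) F)) := by rw [smul_smul, inv_mul_cancel₀ ht, one_smul]
      _ = _ := by rw [h3, smul_smul]; congr 1; field_simp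
  have hdet : (X : Matrix (Fin 2) (Fin 2) F).det = 1 := X.2
  rw [hX, Matrix.det_smul, Matrix.det_one, Fintype.card_fin, mul_one] at hdet
  rcases sq_eq_one_iff.mp hdet with hc | hc
  · left
    apply Subtype.ext
    rw [hX, hc, one_smul]
    rfl
  · right
    apply Subtype.ext
    rw [hX, hc, neg_smul, one_smul, Matrix.SpecialLinearGroup.coe_neg]
    rfl

theorem trace_zero_of_sq (X : Matrix.SpecialLinearGroup (Fin 2) F)
    (h : X * X = -1) : (X : Matrix (Fin 2) (Fin 2) F).trace = 0 := by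
  have hsq := m2_sq (X : Matrix (Fin 2) (Fin 2) F) X.2
  have h1 : (X : Matrix (Fin 2) (Fin 2) F) * (X : Matrix (Fin 2) (Fin 2) F) = -1 := by
    rw [← Matrix.SpecialLinearGroup.coe_mul, h, Matrix.SpecialLinearGroup.coe_neg,
      Matrix.SpecialLinearGroup.coe_one]
  rw [h1] at hsq
  have h3 : (X : Matrix (Fin 2) (Fin 2) F).trace • (X : Matrix (Fin 2) (Fin 2) F) = 0 := by
    calc (X : Matrix (Fin 2) (Fin 2) F).trace • (X : Matrix (Fin 2) (Fin 2) F)
        = ((X : Matrix (Fin 2) (Fin 2) F).trace • (X : Matrix (Fin 2) (Fin 2) F) - 1) + 1 := by abel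
      _ = 0 := by rw [← hsq]; abel
  by_contra ht
  have hX : (X : Matrix (Fin 2) (Fin 2) F) = 0 := by
    calc (X : Matrix (Fin 2) (Fin 2) F)
        = ((X : Matrix (Fin 2) (Fin 2) F).trace)⁻¹ • ((X : Matrix (Fin 2) (Fin 2) F).trace •
          (X : Matrix (Fin 2) (Fin 2) F)) := by rw [smul_smul, inv_mul_cancel₀ ht, one_smul]
      _ = 0 := by rw [h3, smul_zero]
  have hdet : (X : Matrix (Fin 2) (Fin 2) F).det = 1 := X.2
  rw [hX, Matrix.det_fin_two] at hdet
  simp at hdet

theorem nonscalar_of_trace_zero (h2 : (2 : F) ≠ 0) (A : Matrix.SpecialLinearGroup (Fin 2) F)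
    (ht : (A : Matrix (Fin 2) (Fin 2) F).trace = 0) :
    ∀ c : F, (A : Matrix (Fin 2) (Fin 2) F) ≠ c • (1 : Matrix (Fin 2) (Fin 2) F) := by
  intro c hc
  have hdet : (A : Matrix (Fin 2) (Fin 2) F).det = 1 := A.2
  rw [hc, Matrix.det_smul, Matrix.det_one, Fintype.card_fin, mul_one] at hdet
  rw [hc, Matrix.trace_smul, Matrix.trace_one, Fintype.card_fin] at ht
  simp only [smul_eq_mul, Nat.cast_ofNat] at ht
  rcases mul_eq_zero.mp ht with h | h
  · rw [h] at hdet
    simp at hdet
  · exact h2 h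

theorem conj_of_trace_zero (hodd : Fintype.card F % 2 = 1) (h2 : (2 : F) ≠ 0)
    (A B : Matrix.SpecialLinearGroup (Fin 2) F)
    (hA : (A : Matrix (Fin 2) (Fin 2) F).trace = 0) (hB : (B : Matrix (Fin 2) (Fin 2) F).trace = 0) :
    ∃ P : Matrix.SpecialLinearGroup (Fin 2) F, P * A * P⁻¹ = B := by
  have h4 : (0 : F) ^ 2 ≠ 4 := by
    have : (4 : F) = 2 * 2 := by norm_num
    rw [this]
    simp [h2]
  apply conj_of_trace_eq A B (nonscalar_of_trace_zero h2 A hA) (nonscalar_of_trace_zero h2 B hB)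
    (by rw [hA, hB])
  intro n _
  rw [hA]
  exact nrm_universal hodd h2 0 h4 n

theorem neg_one_ne_one (h2 : (2 : F) ≠ 0) : (-1 : Matrix.SpecialLinearGroup (Fin 2) F) ≠ 1 := by
  intro h
  have h1 := congrArg (fun y : Matrix.SpecialLinearGroup (Fin 2) F =>
    (y : Matrix (Fin 2) (Fin 2) F) 0 0) h
  simp only [Matrix.SpecialLinearGroup.coe_neg, Matrix.SpecialLinearGroup.coe_one,
    Matrix.neg_apply, Matrix.one_apply_eq] at h1
  apply h2
  linear_combination -h1

theorem exists_gen (h2 : (2 : F) ≠ 0) (A : Subgroup (Matrix.SpecialLinearGroup (Fin 2) F))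
    (hA : Nat.card A = 4) :
    ∃ g : Matrix.SpecialLinearGroup (Fin 2) F, g * g = -1 ∧ orderOf g = 4 ∧
      A = Subgroup.zpowers g := by
  have : Finite A := Nat.finite_of_card_ne_zero (by rw [hA]; norm_num)
  obtain ⟨a, haA, ha1, ha2⟩ : ∃ a ∈ A, a ≠ 1 ∧ a ≠ -1 := by
    by_contra hcon
    push Not at hcon
    have hsub : (A : Set (Matrix.SpecialLinearGroup (Fin 2) F)) ⊆ {1, -1} := by
      intro a ha
      by_cases h1 : a = 1
      · left; exact h1
      · right; exact hcon a ha h1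
    have hle := Set.ncard_le_ncard hsub (Set.toFinite _)
    have h3 : ({1, -1} : Set (Matrix.SpecialLinearGroup (Fin 2) F)).ncard ≤ 2 := by
      have := Set.ncard_insert_le (1 : Matrix.SpecialLinearGroup (Fin 2) F) {-1}
      rw [Set.ncard_singleton] at this
      exact this
    have h4 : (A : Set (Matrix.SpecialLinearGroup (Fin 2) F)).ncard = 4 := by
      rw [← hA]
      exact (Nat.card_coe_set_eq _)
    omega
  have h4 : a ^ 4 = 1 := by
    have h5 : (⟨a, haA⟩ : A) ^ Nat.card A = 1 := pow_card_eq_one'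
    rw [hA] at h5
    have := congrArg Subtype.val h5
    simpa using this
  have hsq : a * a = -1 := by
    have h5 : (a * a) * (a * a) = 1 := by
      rw [← h4]
      simp only [pow_succ, pow_zero, one_mul, mul_assoc]
    rcases sq_eq_one_imp h2 (a * a) h5 with h6 | h6
    · rcases sq_eq_one_imp h2 a h6 with h7 | h7
      · exact absurd h7 ha1
      · exact absurd h7 ha2
    · exact h6
  have hord : orderOf a = 4 := by
    have h5 : ¬ a ^ 2 ^ 1 = 1 := by
      rw [pow_one, pow_two, hsq]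
      exact neg_one_ne_one h2
    have h6 : a ^ 2 ^ (1 + 1) = 1 := by
      norm_num
      exact h4
    have := orderOf_eq_prime_pow h5 h6
    norm_num at this
    exact this
  refine ⟨a, hsq, hord, ?_⟩
  symm
  apply Subgroup.eq_of_le_of_card_ge
  · rw [Subgroup.zpowers_le]
    exact haA
  · rw [Nat.card_zpowers, hord, hA]

theorem mem_zpowers_cases (g : Matrix.SpecialLinearGroup (Fin 2) F) (hsq : g * g = -1)
    (hord : orderOf g = 4) (y : Matrix.SpecialLinearGroup (Fin 2) F)
    (hy : y ∈ Subgroup.zpowers g) : y = 1 ∨ y = g ∨ y = -1 ∨ y = -g := by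
  rw [Subgroup.mem_zpowers_iff] at hy
  obtain ⟨k, rfl⟩ := hy
  rw [← zpow_mod_orderOf, hord]
  have h0 : 0 ≤ k % 4 := Int.emod_nonneg _ (by norm_num)
  have h1 : k % 4 < 4 := Int.emod_lt_of_pos _ (by norm_num)
  obtain ⟨j, hj⟩ : ∃ j : ℕ, k % 4 = j := ⟨(k % 4).toNat, (Int.toNat_of_nonneg h0).symm⟩
  have hj4 : j < 4 := by omega
  rw [show ((4 : ℕ) : ℤ) = 4 by norm_num, hj, zpow_natCast]
  interval_cases j
  · left; rw [pow_zero]
  · right; left; rw [pow_one]
  · right; right; left; rw [pow_two, hsq]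
  · right; right; right
    rw [pow_succ, pow_two, hsq, neg_mul, one_mul]

theorem normalizer_eq_Cp (h2 : (2 : F) ≠ 0) (g : Matrix.SpecialLinearGroup (Fin 2) F)
    (hsq : g * g = -1) (hord : orderOf g = 4) :
    Subgroup.normalizer ((Subgroup.zpowers g : Subgroup (Matrix.SpecialLinearGroup (Fin 2) F)) :
      Set (Matrix.SpecialLinearGroup (Fin 2) F)) = Cp g := by
  have hneg : -g = g ^ 3 := by
    rw [pow_succ, pow_two, hsq, neg_mul, one_mul]
  have key : ∀ x ∈ Cp g, ∀ h ∈ Subgroup.zpowers g, x * h * x⁻¹ ∈ Subgroup.zpowers g := by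
    intro x hx h hh
    rw [mem_Cp] at hx
    have hxg : x * g * x⁻¹ ∈ Subgroup.zpowers g := by
      rcases hx with hx | hx
      · have : x * g = g * x := by
          apply Subtype.ext
          rw [Matrix.SpecialLinearGroup.coe_mul, Matrix.SpecialLinearGroup.coe_mul, hx]
        rw [this, mul_inv_cancel_right]
        exact Subgroup.mem_zpowers g
      · have : x * g = (-g) * x := by
          apply Subtype.ext
          rw [Matrix.SpecialLinearGroup.coe_mul, Matrix.SpecialLinearGroup.coe_mul,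
            Matrix.SpecialLinearGroup.coe_neg, hx, neg_mul]
        rw [this, mul_inv_cancel_right, hneg]
        exact Subgroup.pow_mem _ (Subgroup.mem_zpowers g) 3
    rw [Subgroup.mem_zpowers_iff] at hh
    obtain ⟨k, rfl⟩ := hh
    have : x * g ^ k * x⁻¹ = (x * g * x⁻¹) ^ k := by
      rw [conj_zpow]
    rw [this]
    exact Subgroup.zpow_mem _ hxg k
  ext x
  rw [Subgroup.mem_normalizer_iff]
  constructor
  · intro hx
    have h1 : x * g * x⁻¹ ∈ Subgroup.zpowers g := (hx g).mp (Subgroup.mem_zpowers g)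
    have hy2 : (x * g * x⁻¹) * (x * g * x⁻¹) = -1 := by
      have : (x * g * x⁻¹) * (x * g * x⁻¹) = x * (g * g) * x⁻¹ := by group
      rw [this, hsq, mul_neg, mul_one, neg_mul, mul_inv_cancel]
    rw [mem_Cp]
    rcases mem_zpowers_cases g hsq hord _ h1 with h3 | h3 | h3 | h3
    · rw [h3, one_mul] at hy2
      exact absurd hy2.symm (neg_one_ne_one h2)
    · left
      have : x * g = g * x := by
        calc x * g = (x * g * x⁻¹) * x := by group
          _ = g * x := by rw [h3]
      rw [← Matrix.SpecialLinearGroup.coe_mul, ← Matrix.SpecialLinearGroup.coe_mul, this]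
    · rw [h3, neg_mul_neg, one_mul] at hy2
      exact absurd hy2.symm (neg_one_ne_one h2)
    · right
      have : x * g = (-g) * x := by
        calc x * g = (x * g * x⁻¹) * x := by group
          _ = (-g) * x := by rw [h3]
      rw [← Matrix.SpecialLinearGroup.coe_mul, this, Matrix.SpecialLinearGroup.coe_mul,
        Matrix.SpecialLinearGroup.coe_neg, neg_mul]
  · intro hx h
    constructor
    · intro hh
      exact key x hx h hh
    · intro hh
      have := key x⁻¹ (Subgroup.inv_mem _ hx) _ hh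
      have e : x⁻¹ * (x * h * x⁻¹) * x⁻¹⁻¹ = h := by group
      rw [e] at this
      exact this

theorem card_Cp (hodd : Fintype.card F % 2 = 1) (h2 : (2 : F) ≠ 0)
    (g : Matrix.SpecialLinearGroup (Fin 2) F)
    (ht : (g : Matrix (Fin 2) (Fin 2) F).trace = 0) :
    Nat.card (Cp g) = 2 * Nat.card (normSet (0 : F)) := by
  have h1 := Subgroup.relIndex_mul_relIndex ⊥
    (Subgroup.centralizer ({g} : Set (Matrix.SpecialLinearGroup (Fin 2) F))) (Cp g) bot_le
    (centralizer_le_Cp g)
  rw [Subgroup.relIndex_bot_left, Subgroup.relIndex_bot_left, relIndex_two hodd h2 g ht,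
    card_centralizer_eq g (nonscalar_of_trace_zero h2 g ht), ht] at h1
  rw [← h1, mul_comm]

theorem sq_of_order_two (h2 : (2 : F) ≠ 0) (X : Matrix.SpecialLinearGroup (Fin 2) F)
    (hx : orderOf (QuotientGroup.mk X : Matrix.ProjectiveSpecialLinearGroup (Fin 2) F) = 2) :
    X * X = -1 := by
  have hx2 : (QuotientGroup.mk X : Matrix.ProjectiveSpecialLinearGroup (Fin 2) F) ^ 2 = 1 := by
    have := pow_orderOf_eq_one (QuotientGroup.mk X : Matrix.ProjectiveSpecialLinearGroup (Fin 2) F)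
    rw [hx] at this
    exact this
  have hx1 : (QuotientGroup.mk X : Matrix.ProjectiveSpecialLinearGroup (Fin 2) F) ≠ 1 := by
    intro h
    rw [h, orderOf_one] at hx
    omega
  rw [← QuotientGroup.mk_pow, QuotientGroup.eq_one_iff, mem_center_iff', pow_two] at hx2
  obtain ⟨c, hc, hcX⟩ := hx2
  have hmk : ∀ Z : Matrix.SpecialLinearGroup (Fin 2) F, (Z = 1 ∨ Z = -1) →
      (QuotientGroup.mk Z : Matrix.ProjectiveSpecialLinearGroup (Fin 2) F) = 1 := by
    intro Z hZ
    rw [QuotientGroup.eq_one_iff, mem_center_iff']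
    rcases hZ with rfl | rfl
    · exact ⟨1, one_pow 2, by rw [one_smul]; rfl⟩
    · exact ⟨-1, by ring, by rw [neg_smul, one_smul, Matrix.SpecialLinearGroup.coe_neg]; rfl⟩
  rcases sq_eq_one_iff.mp hc with rfl | rfl
  · exfalso
    apply hx1
    apply hmk
    apply sq_eq_one_imp h2
    apply Subtype.ext
    rw [hcX, one_smul]
    rfl
  · apply Subtype.ext
    rw [hcX, neg_smul, one_smul, Matrix.SpecialLinearGroup.coe_neg]
    rfl

end Helpers

/-- In SL_2(q), q odd: any two subgroups of order 4 are conjugate, and the normaliser of a subgroup of order 4 has order 2(q − 1) if q ≡ 1 (mod 4) and 2(q + 1) if q ≡ 3 (mod 4); consequently all involutions of PSL_2(q) are conjugate. -/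
theorem result {F : Type*} [Field F] [Fintype F] {q : ℕ} (hF : Fintype.card F = q) (hodd : Odd q) (A : Subgroup (Matrix.SpecialLinearGroup (Fin 2) F)) (hA : Nat.card A = 4) : (∀ B : Subgroup (Matrix.SpecialLinearGroup (Fin 2) F), Nat.card B = 4 → ∃ g : Matrix.SpecialLinearGroup (Fin 2) F, B = A.map (MulAut.conj g).toMonoidHom) ∧ (q % 4 = 1 → Nat.card ↥(Subgroup.normalizer (A : Set (Matrix.SpecialLinearGroup (Fin 2) F))) = 2 * (q - 1)) ∧ (q % 4 = 3 → Nat.card ↥(Subgroup.normalizer (A : Set (Matrix.SpecialLinearGroup (Fin 2) F))) = 2 * (q + 1)) ∧ (∀ x y : Matrix.ProjectiveSpecialLinearGroup (Fin 2) F, orderOf x = 2 → orderOf y = 2 → IsConj x y) := by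
  subst hF
  have hodd' : Fintype.card F % 2 = 1 := Nat.odd_iff.mp hodd
  have h2 : (2 : F) ≠ 0 := by
    intro h
    have : CharP F 2 := CharTwo.of_one_ne_zero_of_two_eq_zero one_ne_zero h
    obtain ⟨n, _, hn⟩ := FiniteField.card F 2
    have h3 : 2 ∣ Fintype.card F := by
      rw [hn]
      exact dvd_pow_self 2 n.ne_zero
    omega
  obtain ⟨g, hgsq, hgord, hAg⟩ := exists_gen h2 A hA
  have hgt := trace_zero_of_sq g hgsq
  have hsq : (∃ l : F, l ^ 2 + 1 = 0) ↔ Fintype.card F % 4 ≠ 3 := by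
    rw [← FiniteField.isSquare_neg_one_iff]
    constructor
    · rintro ⟨l, hl⟩
      exact ⟨l, by linear_combination -hl⟩
    · rintro ⟨l, hl⟩
      exact ⟨l, by linear_combination -hl⟩
  have hN : Nat.card ↥(Subgroup.normalizer (A : Set (Matrix.SpecialLinearGroup (Fin 2) F))) =
      2 * Nat.card (normSet (0 : F)) := by
    rw [hAg, normalizer_eq_Cp h2 g hgsq hgord, card_Cp hodd' h2 g hgt]
  refine ⟨?_, ?_, ?_, ?_⟩
  · intro B hB
    obtain ⟨h, hhsq, hhord, hBh⟩ := exists_gen h2 B hB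
    have hht := trace_zero_of_sq h hhsq
    obtain ⟨P, hP⟩ := conj_of_trace_zero hodd' h2 g h hgt hht
    refine ⟨P, ?_⟩
    rw [hBh, hAg, MonoidHom.map_zpowers]
    congr 1
    rw [← hP]
    rfl
  · intro hmod
    obtain ⟨l, hl⟩ := hsq.mpr (by omega)
    have hl' : l ^ 2 - 0 * l + 1 = 0 := by linear_combination hl
    have hl1 : l ^ 2 ≠ 1 := by
      intro h1
      apply h2
      linear_combination hl - h1
    rw [hN, card_normSet_split 0 l hl' hl1]
  · intro hmod
    have hns : ∀ l : F, l ^ 2 - 0 * l + 1 ≠ 0 := by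
      intro l hl
      have : ∃ l : F, l ^ 2 + 1 = 0 := ⟨l, by linear_combination hl⟩
      rw [hsq] at this
      omega
    rw [hN, card_normSet_nonsplit_odd hodd' h2 0 hns]
  · intro x y hx hy
    obtain ⟨X, rfl⟩ := QuotientGroup.mk_surjective x
    obtain ⟨Y, rfl⟩ := QuotientGroup.mk_surjective y
    have hX := trace_zero_of_sq X (sq_of_order_two h2 X hx)
    have hY := trace_zero_of_sq Y (sq_of_order_two h2 Y hy)
    obtain ⟨P, hP⟩ := conj_of_trace_zero hodd' h2 X Y hX hY
    rw [isConj_iff]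
    refine ⟨QuotientGroup.mk P, ?_⟩
    rw [← hP]
    rfl

end Cfsg.Agent.S0809
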