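import Cfsg.Statements.S0807

import Cfsg.Agent.S0809
import Cfsg.Agent.S2508
import Cfsg.Agent.Lib.helper7.ClassSum
import Cfsg.Agent.Lib.helper15.SL2Conj
set_option autoImplicit false
open Cfsg

namespace Cfsg.Agent.S0807


section KleinCount

variable {G : Type*} [Group G]

def IsPair (p : G × G) : Prop :=
  orderOf p.1 = 2 ∧ orderOf p.2 = 2 ∧ p.1 ≠ p.2 ∧ p.1 * p.2 = p.2 * p.1

theorem sq_of_order_two' {a : G} (h : orderOf a = 2) : a * a = 1 := by
  have := pow_orderOf_eq_one a
  rw [h, pow_two] at this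
  exact this

theorem ne_one_of_order_two {a : G} (h : orderOf a = 2) : a ≠ 1 := by
  intro h1
  rw [h1, orderOf_one] at h
  omega

def pairSubgroup (a b : G) (haa : a * a = 1) (hbb : b * b = 1) (hab : a * b = b * a) : Subgroup G where
  carrier := {1, a, b, a * b}
  one_mem' := Or.inl rfl
  mul_mem' := by
    have h1 : a * (a * b) = b := by rw [← mul_assoc, haa, one_mul]
    have h2 : b * (a * b) = a := by rw [← mul_assoc, ← hab, mul_assoc, hbb, mul_one]
    have h3 : a * b * a = b := by rw [mul_assoc, ← hab, h1]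
    have h4 : a * b * b = a := by rw [mul_assoc, hbb, mul_one]
    have h5 : a * b * (a * b) = 1 := by rw [← mul_assoc, h3, hbb]
    rintro x y (rfl | rfl | rfl | rfl) (rfl | rfl | rfl | rfl)
    · exact Or.inl (one_mul 1)
    · exact Or.inr (Or.inl (one_mul _))
    · exact Or.inr (Or.inr (Or.inl (one_mul _)))
    · exact Or.inr (Or.inr (Or.inr (one_mul _)))
    · exact Or.inr (Or.inl (mul_one _))
    · exact Or.inl haa
    · exact Or.inr (Or.inr (Or.inr rfl))
    · exact Or.inr (Or.inr (Or.inl h1))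
    · exact Or.inr (Or.inr (Or.inl (mul_one _)))
    · exact Or.inr (Or.inr (Or.inr hab.symm))
    · exact Or.inl hbb
    · exact Or.inr (Or.inl h2)
    · exact Or.inr (Or.inr (Or.inr (mul_one _)))
    · exact Or.inr (Or.inr (Or.inl h3))
    · exact Or.inr (Or.inl h4)
    · exact Or.inl h5
  inv_mem' := by
    have hai : a⁻¹ = a := inv_eq_of_mul_eq_one_right haa
    have hbi : b⁻¹ = b := inv_eq_of_mul_eq_one_right hbb
    rintro x (rfl | rfl | rfl | rfl)
    · exact Or.inl inv_one
    · exact Or.inr (Or.inl hai)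
    · exact Or.inr (Or.inr (Or.inl hbi))
    · refine Or.inr (Or.inr (Or.inr ?_))
      rw [mul_inv_rev, hai, hbi]
      exact hab.symm

theorem mem_pairSubgroup (a b : G) (haa : a * a = 1) (hbb : b * b = 1) (hab : a * b = b * a)
    (x : G) : x ∈ pairSubgroup a b haa hbb hab ↔ x = 1 ∨ x = a ∨ x = b ∨ x = a * b := Iff.rfl

theorem pairSubgroup_klein (a b : G) (haa : a * a = 1) (hbb : b * b = 1) (hab : a * b = b * a)
    (ha1 : a ≠ 1) (hb1 : b ≠ 1) (hne : a ≠ b) :
    IsKleinFour (pairSubgroup a b haa hbb hab) := by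
  have hab1 : a * b ≠ 1 := by
    intro h
    apply hne
    have : b = a⁻¹ := eq_inv_of_mul_eq_one_right h
    rw [this, inv_eq_of_mul_eq_one_right haa]
  have haab : a ≠ a * b := by
    intro h
    apply hb1
    have : a * 1 = a * b := by rw [mul_one]; exact h
    exact (mul_left_cancel this).symm
  have hbab : b ≠ a * b := by
    intro h
    apply ha1
    have : 1 * b = a * b := by rw [one_mul]; exact h
    exact (mul_right_cancel this).symm
  constructor
  · rw [← SetLike.coe_sort_coe, Nat.card_coe_set_eq]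
    show ({1, a, b, a * b} : Set G).ncard = 4
    rw [Set.ncard_insert_of_notMem, Set.ncard_insert_of_notMem, Set.ncard_insert_of_notMem,
      Set.ncard_singleton]
    · simp only [Set.mem_singleton_iff]
      exact hbab
    · simp only [Set.mem_insert_iff, Set.mem_singleton_iff, not_or]
      exact ⟨hne, haab⟩
    · simp only [Set.mem_insert_iff, Set.mem_singleton_iff, not_or]
      exact ⟨ha1.symm, hb1.symm, hab1.symm⟩
  · haveI : Nontrivial (pairSubgroup a b haa hbb hab) :=
      ⟨⟨1, ⟨a, Or.inr (Or.inl rfl)⟩, fun h => ha1 (congrArg Subtype.val h).symm⟩⟩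
    rw [Monoid.exponent_eq_prime_iff Nat.prime_two]
    rintro ⟨g, hg⟩ hg1
    apply orderOf_eq_prime
    · apply Subtype.ext
      rw [pow_two]
      show g * g = 1
      rcases hg with rfl | rfl | rfl | rfl
      · exact one_mul 1
      · exact haa
      · exact hbb
      · rw [← mul_assoc, mul_assoc a b a, ← hab, ← mul_assoc, haa, one_mul, hbb]
    · exact hg1

theorem klein_pairs_six (V : Type*) [Group V] [IsKleinFour V] :
    Nat.card {ab : V × V // ab.1 ≠ 1 ∧ ab.2 ≠ 1 ∧ ab.1 ≠ ab.2} = 6 := by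
  obtain ⟨f⟩ := IsKleinFour.nonempty_mulEquiv (G₁ := V) (G₂ := DihedralGroup 2)
  have e : {ab : V × V // ab.1 ≠ 1 ∧ ab.2 ≠ 1 ∧ ab.1 ≠ ab.2} ≃
      {cd : DihedralGroup 2 × DihedralGroup 2 // cd.1 ≠ 1 ∧ cd.2 ≠ 1 ∧ cd.1 ≠ cd.2} := by
    refine Equiv.subtypeEquiv (Equiv.prodCongr f.toEquiv f.toEquiv) ?_
    rintro ⟨a, b⟩
    show (a ≠ 1 ∧ b ≠ 1 ∧ a ≠ b) ↔ (f a ≠ 1 ∧ f b ≠ 1 ∧ f a ≠ f b)
    rw [Ne, Ne, Ne, Ne, Ne, Ne, EmbeddingLike.map_eq_one_iff, EmbeddingLike.map_eq_one_iff,
      EmbeddingLike.apply_eq_iff_eq]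
  rw [Nat.card_congr e, Nat.card_eq_fintype_card]
  decide

theorem isPair_of_klein {V : Subgroup G} (hV : IsKleinFour V) (a b : V)
    (ha : a ≠ 1) (hb : b ≠ 1) (hab : a ≠ b) : IsPair ((a : G), (b : G)) := by
  have hexp : Monoid.exponent V = 2 := hV.exponent_two
  have hord : ∀ x : V, x ≠ 1 → orderOf (x : G) = 2 := by
    intro x hx
    rw [Subgroup.orderOf_coe]
    apply orderOf_eq_prime
    · rw [pow_two]
      exact IsKleinFour.mul_self x
    · exact hx
  refine ⟨hord a ha, hord b hb, ?_, ?_⟩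
  · intro h
    exact hab (Subtype.ext h)
  · have := (IsKleinFour.isMulCommutative (G := V)).is_comm.comm a b
    exact congrArg Subtype.val this

theorem pairSubgroup_eq_of_klein {V : Subgroup G} (hV : IsKleinFour V) (a b : V)
    (ha : a ≠ 1) (hb : b ≠ 1) (hab : a ≠ b)
    (haa : (a : G) * a = 1) (hbb : (b : G) * b = 1) (hc : (a : G) * b = b * a) :
    pairSubgroup (a : G) b haa hbb hc = V := by
  ext x
  rw [mem_pairSubgroup]
  constructor
  · rintro (rfl | rfl | rfl | rfl)
    · exact V.one_mem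
    · exact a.2
    · exact b.2
    · exact V.mul_mem a.2 b.2
  · intro hx
    by_cases h1 : (⟨x, hx⟩ : V) = 1
    · exact Or.inl (congrArg Subtype.val h1)
    by_cases h2 : (⟨x, hx⟩ : V) = a
    · exact Or.inr (Or.inl (congrArg Subtype.val h2))
    by_cases h3 : (⟨x, hx⟩ : V) = b
    · exact Or.inr (Or.inr (Or.inl (congrArg Subtype.val h3)))
    have := IsKleinFour.eq_mul_of_ne_all ha hb hab h1 h2 h3
    exact Or.inr (Or.inr (Or.inr (congrArg Subtype.val this)))

def pairToKlein (p : {p : G × G // IsPair p}) : {V : Subgroup G // IsKleinFour V} :=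
  ⟨pairSubgroup p.1.1 p.1.2 (sq_of_order_two' p.2.1) (sq_of_order_two' p.2.2.1) p.2.2.2.2,
    pairSubgroup_klein _ _ _ _ _ (ne_one_of_order_two p.2.1) (ne_one_of_order_two p.2.2.1)
      p.2.2.2.1⟩

def fiberEquiv (V : {V : Subgroup G // IsKleinFour V}) :
    {p : {p : G × G // IsPair p} // pairToKlein p = V} ≃
      {ab : V.1 × V.1 // ab.1 ≠ 1 ∧ ab.2 ≠ 1 ∧ ab.1 ≠ ab.2} where
  toFun p := by
    have hV : (pairToKlein p.1).1 = V.1 := congrArg Subtype.val p.2
    have ha : p.1.1.1 ∈ V.1 := by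
      rw [← hV]
      exact Or.inr (Or.inl rfl)
    have hb : p.1.1.2 ∈ V.1 := by
      rw [← hV]
      exact Or.inr (Or.inr (Or.inl rfl))
    refine ⟨(⟨p.1.1.1, ha⟩, ⟨p.1.1.2, hb⟩), ?_, ?_, ?_⟩
    · intro h
      exact ne_one_of_order_two p.1.2.1 (congrArg Subtype.val h)
    · intro h
      exact ne_one_of_order_two p.1.2.2.1 (congrArg Subtype.val h)
    · intro h
      exact p.1.2.2.2.1 (congrArg Subtype.val h)
  invFun ab := by
    have hp : IsPair ((ab.1.1 : G), (ab.1.2 : G)) :=
      isPair_of_klein V.2 ab.1.1 ab.1.2 ab.2.1 ab.2.2.1 ab.2.2.2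
    refine ⟨⟨((ab.1.1 : G), (ab.1.2 : G)), hp⟩, ?_⟩
    apply Subtype.ext
    exact pairSubgroup_eq_of_klein V.2 ab.1.1 ab.1.2 ab.2.1 ab.2.2.1 ab.2.2.2
      (sq_of_order_two' hp.1) (sq_of_order_two' hp.2.1) hp.2.2.2
  left_inv p := by
    apply Subtype.ext
    apply Subtype.ext
    rfl
  right_inv ab := by
    apply Subtype.ext
    rfl

theorem card_pairs [Finite G] :
    Nat.card {p : G × G // IsPair p} = 6 * Nat.card {V : Subgroup G // IsKleinFour V} := by
  classical
  haveI : Fintype {V : Subgroup G // IsKleinFour V} := Fintype.ofFinite _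
  rw [← Nat.card_congr (Equiv.sigmaFiberEquiv (pairToKlein (G := G))), Nat.card_sigma]
  have h6 : ∀ V : {V : Subgroup G // IsKleinFour V},
      Nat.card {p : {p : G × G // IsPair p} // pairToKlein p = V} = 6 := by
    intro V
    rw [Nat.card_congr (fiberEquiv V)]
    haveI : IsKleinFour V.1 := V.2
    exact klein_pairs_six V.1
  simp only [h6]
  rw [Finset.sum_const, Finset.card_univ, smul_eq_mul, Nat.card_eq_fintype_card, mul_comm]

end KleinCount

section GroupCount

variable {G : Type*} [Group G]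

theorem card_diff_of_relIndex_two [Finite G] (K C : Subgroup G) (hKC : K ≤ C)
    (h2 : K.relIndex C = 2) : 2 * Nat.card {b : G // b ∈ C ∧ b ∉ K} = Nat.card C := by
  classical
  have h1 := Subgroup.relIndex_mul_relIndex ⊥ K C bot_le hKC
  rw [Subgroup.relIndex_bot_left, Subgroup.relIndex_bot_left, h2] at h1
  have e1 : {b : G // b ∈ C ∧ b ∈ K} ≃ K :=
    { toFun := fun b => ⟨b.1, b.2.2⟩
      invFun := fun b => ⟨b.1, hKC b.2, b.2⟩
      left_inv := fun _ => rfl
      right_inv := fun _ => rfl }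
  have e2 : C ≃ {b : G // b ∈ C ∧ b ∈ K} ⊕ {b : G // b ∈ C ∧ b ∉ K} :=
    { toFun := fun b => if h : b.1 ∈ K then Sum.inl ⟨b.1, b.2, h⟩ else Sum.inr ⟨b.1, b.2, h⟩
      invFun := fun s => Sum.elim (fun b => ⟨b.1, b.2.1⟩) (fun b => ⟨b.1, b.2.1⟩) s
      left_inv := by
        intro b
        by_cases h : b.1 ∈ K
        · simp [h]
        · simp [h]
      right_inv := by
        rintro (b | b)
        · simp [b.2.2]
        · simp [b.2.2] }
  have h3 := Nat.card_congr e2
  rw [Nat.card_sum, Nat.card_congr e1] at h3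
  omega

end GroupCount

section PSL

open Cfsg.Agent.S2508 Cfsg.Agent.S0809 Cfsg.Agent.Lib.helper15

variable {F : Type*} [Field F] [Fintype F]

theorem conj_of_order_two (hodd : Fintype.card F % 2 = 1) (h2 : (2 : F) ≠ 0)
    (x y : Matrix.ProjectiveSpecialLinearGroup (Fin 2) F) (hx : orderOf x = 2)
    (hy : orderOf y = 2) : IsConj x y := by
  obtain ⟨X, rfl⟩ := QuotientGroup.mk_surjective x
  obtain ⟨Y, rfl⟩ := QuotientGroup.mk_surjective y
  have hX := trace_zero_of_sq X (sq_of_order_two h2 X hx)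
  have hY := trace_zero_of_sq Y (sq_of_order_two h2 Y hy)
  obtain ⟨P, hP⟩ := conj_of_trace_zero hodd h2 X Y hX hY
  rw [isConj_iff]
  refine ⟨QuotientGroup.mk P, ?_⟩
  rw [← hP]
  rfl

theorem sq_neg_one_of_trace_zero (Y : Matrix.SpecialLinearGroup (Fin 2) F)
    (ht : (Y : Matrix (Fin 2) (Fin 2) F).trace = 0) : Y * Y = -1 := by
  apply Subtype.ext
  rw [Matrix.SpecialLinearGroup.coe_mul, m2_sq _ Y.2, ht, zero_smul, zero_sub,
    Matrix.SpecialLinearGroup.coe_neg, Matrix.SpecialLinearGroup.coe_one]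

theorem mk_neg_one :
    (QuotientGroup.mk (-1 : Matrix.SpecialLinearGroup (Fin 2) F) :
      Matrix.ProjectiveSpecialLinearGroup (Fin 2) F) = 1 := by
  rw [QuotientGroup.eq_one_iff, mem_center_iff']
  exact ⟨-1, by ring, by rw [neg_smul, one_smul, Matrix.SpecialLinearGroup.coe_neg]; rfl⟩

theorem order_two_of_trace_zero (h2 : (2 : F) ≠ 0) (Y : Matrix.SpecialLinearGroup (Fin 2) F)
    (ht : (Y : Matrix (Fin 2) (Fin 2) F).trace = 0) :
    orderOf (QuotientGroup.mk Y : Matrix.ProjectiveSpecialLinearGroup (Fin 2) F) = 2 := by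
  apply orderOf_eq_prime
  · rw [pow_two, ← QuotientGroup.mk_mul, sq_neg_one_of_trace_zero Y ht, mk_neg_one]
  · intro h
    rw [QuotientGroup.eq_one_iff, mem_center_iff'] at h
    obtain ⟨c, _, hc⟩ := h
    exact nonscalar_of_trace_zero h2 Y ht c hc

theorem exists_order_two (h2 : (2 : F) ≠ 0) :
    ∃ a : Matrix.ProjectiveSpecialLinearGroup (Fin 2) F, orderOf a = 2 := by
  refine ⟨QuotientGroup.mk (mkSL !![0, -1; 1, 0] (by simp [Matrix.det_fin_two])), ?_⟩
  apply order_two_of_trace_zero h2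
  rw [mkSL_coe, Matrix.trace_fin_two]
  simp

theorem relIndex_map_centralizer (hodd : Fintype.card F % 2 = 1) (h2 : (2 : F) ≠ 0)
    (X : Matrix.SpecialLinearGroup (Fin 2) F)
    (ht : (X : Matrix (Fin 2) (Fin 2) F).trace = 0) :
    ((Subgroup.centralizer ({X} : Set (Matrix.SpecialLinearGroup (Fin 2) F))).map
      (QuotientGroup.mk' (Subgroup.center (Matrix.SpecialLinearGroup (Fin 2) F)))).relIndex
      (Subgroup.centralizer ({(QuotientGroup.mk X :
        Matrix.ProjectiveSpecialLinearGroup (Fin 2) F)} :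
        Set (Matrix.ProjectiveSpecialLinearGroup (Fin 2) F))) = 2 := by
  have h1 := Subgroup.relIndex_comap
    (H := (Subgroup.centralizer ({X} : Set (Matrix.SpecialLinearGroup (Fin 2) F))).map
      (QuotientGroup.mk' (Subgroup.center (Matrix.SpecialLinearGroup (Fin 2) F))))
    (QuotientGroup.mk' (Subgroup.center (Matrix.SpecialLinearGroup (Fin 2) F))) (Cp X)
  rw [Subgroup.comap_map_eq, QuotientGroup.ker_mk',
    sup_of_le_left (Subgroup.center_le_centralizer _), relIndex_two hodd h2 X ht, Cp,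
    Subgroup.map_comap_eq_self_of_surjective (QuotientGroup.mk'_surjective _)] at h1
  exact h1.symm

theorem map_centralizer_le (X : Matrix.SpecialLinearGroup (Fin 2) F) :
    (Subgroup.centralizer ({X} : Set (Matrix.SpecialLinearGroup (Fin 2) F))).map
      (QuotientGroup.mk' (Subgroup.center (Matrix.SpecialLinearGroup (Fin 2) F))) ≤
      Subgroup.centralizer ({(QuotientGroup.mk X :
        Matrix.ProjectiveSpecialLinearGroup (Fin 2) F)} :
        Set (Matrix.ProjectiveSpecialLinearGroup (Fin 2) F)) := by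
  rintro b ⟨Y, hY, rfl⟩
  rw [SetLike.mem_coe, Subgroup.mem_centralizer_singleton_iff] at hY
  rw [Subgroup.mem_centralizer_singleton_iff]
  show (QuotientGroup.mk Y : Matrix.ProjectiveSpecialLinearGroup (Fin 2) F) * QuotientGroup.mk X =
    QuotientGroup.mk X * QuotientGroup.mk Y
  rw [← QuotientGroup.mk_mul, ← QuotientGroup.mk_mul, hY]

theorem partner_iff (h2 : (2 : F) ≠ 0) (X : Matrix.SpecialLinearGroup (Fin 2) F)
    (hX : X * X = -1) (b : Matrix.ProjectiveSpecialLinearGroup (Fin 2) F) :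
    (orderOf b = 2 ∧ (QuotientGroup.mk X : Matrix.ProjectiveSpecialLinearGroup (Fin 2) F) ≠ b ∧
      (QuotientGroup.mk X : Matrix.ProjectiveSpecialLinearGroup (Fin 2) F) * b =
        b * QuotientGroup.mk X) ↔
    (b ∈ Subgroup.centralizer ({(QuotientGroup.mk X :
        Matrix.ProjectiveSpecialLinearGroup (Fin 2) F)} :
        Set (Matrix.ProjectiveSpecialLinearGroup (Fin 2) F)) ∧
      b ∉ (Subgroup.centralizer ({X} : Set (Matrix.SpecialLinearGroup (Fin 2) F))).map
        (QuotientGroup.mk' (Subgroup.center (Matrix.SpecialLinearGroup (Fin 2) F)))) := by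
  constructor
  · rintro ⟨hb, hne, hc⟩
    refine ⟨?_, ?_⟩
    · rw [Subgroup.mem_centralizer_singleton_iff]
      exact hc.symm
    · rintro ⟨Y, hY, rfl⟩
      rw [SetLike.mem_coe, Subgroup.mem_centralizer_singleton_iff] at hY
      have hYY : Y * Y = -1 := sq_of_order_two h2 Y hb
      have hXY : (X * Y) * (X * Y) = 1 := by
        calc (X * Y) * (X * Y) = X * (Y * X) * Y := by group
          _ = X * (X * Y) * Y := by rw [hY]
          _ = (X * X) * (Y * Y) := by group
          _ = 1 := by rw [hX, hYY, neg_mul_neg, one_mul]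
      apply hne
      show (QuotientGroup.mk X : Matrix.ProjectiveSpecialLinearGroup (Fin 2) F) = QuotientGroup.mk Y
      rcases sq_eq_one_imp h2 (X * Y) hXY with h | h
      · have hYe : Y = -X := by
          have h3 : X * Y = X * (-X) := by rw [h, mul_neg, hX, neg_neg]
          exact mul_left_cancel h3
        rw [hYe, mk_eq_iff]
        right
        rw [Matrix.SpecialLinearGroup.coe_neg, neg_neg]
      · have hYe : Y = X := by
          have h3 : X * Y = X * X := by rw [h, hX]
          exact mul_left_cancel h3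
        rw [hYe]
  · rintro ⟨hb, hnot⟩
    obtain ⟨Y, rfl⟩ := QuotientGroup.mk_surjective b
    rw [Subgroup.mem_centralizer_singleton_iff] at hb
    have hYCp : Y ∈ Cp X := by
      rw [Cp, Subgroup.mem_comap, Subgroup.mem_centralizer_singleton_iff]
      exact hb
    rw [mem_Cp] at hYCp
    rcases hYCp with hcomm | hanti
    · exfalso
      apply hnot
      refine ⟨Y, ?_, rfl⟩
      rw [SetLike.mem_coe, mem_centralizer_iff_mat]
      exact hcomm
    · have hanti' : (X : Matrix (Fin 2) (Fin 2) F) * (Y : Matrix (Fin 2) (Fin 2) F) =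
          -((Y : Matrix (Fin 2) (Fin 2) F) * (X : Matrix (Fin 2) (Fin 2) F)) := by
        rw [hanti, neg_neg]
      have htY := trace_zero_of_anticomm h2 Y X hanti'
      refine ⟨order_two_of_trace_zero h2 Y htY, ?_, hb.symm⟩
      intro heq
      rw [mk_eq_iff] at heq
      have hdet : ((X : Matrix (Fin 2) (Fin 2) F) * (Y : Matrix (Fin 2) (Fin 2) F)).det = 1 := by
        rw [Matrix.det_mul, X.2, Y.2, one_mul]
      have hcomm : (Y : Matrix (Fin 2) (Fin 2) F) * (X : Matrix (Fin 2) (Fin 2) F) =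
          (X : Matrix (Fin 2) (Fin 2) F) * (Y : Matrix (Fin 2) (Fin 2) F) := by
        rcases heq with h | h
        · rw [h]
        · rw [h, mul_neg, neg_mul]
      apply neg_ne_self h2 _ hdet
      exact hcomm.symm.trans hanti

def pairSigmaEquiv {G : Type*} [Group G] :
    {p : G × G // IsPair p} ≃
      Σ a : {a : G // orderOf a = 2}, {b : G // orderOf b = 2 ∧ a.1 ≠ b ∧ a.1 * b = b * a.1} where
  toFun p := ⟨⟨p.1.1, p.2.1⟩, ⟨p.1.2, p.2.2.1, p.2.2.2.1, p.2.2.2.2⟩⟩
  invFun s := ⟨(s.1.1, s.2.1), s.1.2, s.2.2.1, s.2.2.2.1, s.2.2.2.2⟩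
  left_inv _ := rfl
  right_inv _ := rfl

theorem two_mul_card_pairs (hodd : Fintype.card F % 2 = 1) (h2 : (2 : F) ≠ 0) :
    2 * Nat.card {p : Matrix.ProjectiveSpecialLinearGroup (Fin 2) F ×
      Matrix.ProjectiveSpecialLinearGroup (Fin 2) F // IsPair p} =
      Nat.card (Matrix.ProjectiveSpecialLinearGroup (Fin 2) F) := by
  classical
  obtain ⟨a0, ha0⟩ := exists_order_two (F := F) h2
  have hclass : ∀ a : Matrix.ProjectiveSpecialLinearGroup (Fin 2) F, orderOf a = 2 →
      Nat.card {x : Matrix.ProjectiveSpecialLinearGroup (Fin 2) F // orderOf x = 2} *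
        Nat.card (Subgroup.centralizer ({a} :
          Set (Matrix.ProjectiveSpecialLinearGroup (Fin 2) F))) =
        Nat.card (Matrix.ProjectiveSpecialLinearGroup (Fin 2) F) := by
    intro a ha
    rw [← Cfsg.Agent.Lib.helper7.h7_card_class_mul_card_centralizer a]
    congr 1
    apply Nat.card_congr
    apply Equiv.subtypeEquivRight
    intro x
    constructor
    · intro hx
      exact conj_of_order_two hodd h2 a x ha hx
    · intro hx
      obtain ⟨c, hc⟩ := hx
      exact (SemiconjBy.orderOf_eq _ hc).symm.trans ha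
  have hfib : ∀ a : {a : Matrix.ProjectiveSpecialLinearGroup (Fin 2) F // orderOf a = 2},
      2 * Nat.card {b : Matrix.ProjectiveSpecialLinearGroup (Fin 2) F //
        orderOf b = 2 ∧ a.1 ≠ b ∧ a.1 * b = b * a.1} =
      Nat.card (Subgroup.centralizer ({a.1} :
          Set (Matrix.ProjectiveSpecialLinearGroup (Fin 2) F))) := by
    rintro ⟨a, ha⟩
    obtain ⟨X, rfl⟩ := QuotientGroup.mk_surjective a
    have hX := sq_of_order_two h2 X ha
    have hXt := trace_zero_of_sq X hX
    rw [Nat.card_congr (Equiv.subtypeEquivRight (partner_iff h2 X hX))]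
    exact card_diff_of_relIndex_two _ _ (map_centralizer_le X)
      (relIndex_map_centralizer hodd h2 X hXt)
  haveI : Fintype {a : Matrix.ProjectiveSpecialLinearGroup (Fin 2) F // orderOf a = 2} :=
    Fintype.ofFinite _
  rw [Nat.card_congr pairSigmaEquiv, Nat.card_sigma, Finset.mul_sum]
  simp only [hfib]
  have hconst : ∀ a : {a : Matrix.ProjectiveSpecialLinearGroup (Fin 2) F // orderOf a = 2},
      Nat.card (Subgroup.centralizer ({a.1} :
          Set (Matrix.ProjectiveSpecialLinearGroup (Fin 2) F))) =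
      Nat.card (Subgroup.centralizer ({a0} :
          Set (Matrix.ProjectiveSpecialLinearGroup (Fin 2) F))) := by
    intro a
    have h1 := hclass a.1 a.2
    have h3 := hclass a0 ha0
    have hpos : 0 < Nat.card {x : Matrix.ProjectiveSpecialLinearGroup (Fin 2) F // orderOf x = 2} :=
      Nat.card_pos_iff.mpr ⟨⟨⟨a0, ha0⟩⟩, inferInstance⟩
    exact Nat.eq_of_mul_eq_mul_left hpos (h1.trans h3.symm)
  simp only [hconst]
  rw [Finset.sum_const, Finset.card_univ, smul_eq_mul, ← Nat.card_eq_fintype_card]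
  exact hclass a0 ha0

end PSL

/-- For q odd, twelve times the number of Klein four-subgroups of PSL_2(q) equals the order of PSL_2(q). -/
theorem result {F : Type*} [Field F] [Fintype F] {q : ℕ} (hF : Fintype.card F = q) (hodd : Odd q) : 12 * Nat.card {V : Subgroup (Matrix.ProjectiveSpecialLinearGroup (Fin 2) F) // IsKleinFour V} = Nat.card (Matrix.ProjectiveSpecialLinearGroup (Fin 2) F) := by
  subst hF
  have hodd' : Fintype.card F % 2 = 1 := Nat.odd_iff.mp hodd
  have h2 : (2 : F) ≠ 0 := by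
    intro h
    have : CharP F 2 := CharTwo.of_one_ne_zero_of_two_eq_zero one_ne_zero h
    obtain ⟨n, _, hn⟩ := FiniteField.card F 2
    have h3 : 2 ∣ Fintype.card F := by
      rw [hn]
      exact dvd_pow_self 2 n.ne_zero
    omega
  rw [← two_mul_card_pairs hodd' h2, card_pairs]
  ring

end Cfsg.Agent.S0807
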