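import Cfsg.Statements.S0808

import Cfsg.Agent.S0807
set_option autoImplicit false
open Cfsg

namespace Cfsg.Agent.S0808


open Cfsg.Agent.S0807

open Cfsg.Agent.Lib.helper15

section Quat

variable {F : Type*} [Field F]

structure QPair (X Y : Matrix (Fin 2) (Fin 2) F) : Prop where
  sqX : X * X = -1
  sqY : Y * Y = -1
  anti : Y * X = -(X * Y)

theorem QPair.xyx {X Y : Matrix (Fin 2) (Fin 2) F} (h : QPair X Y) : X * Y * X = Y := by
  rw [mul_assoc, h.anti, mul_neg, ← mul_assoc, h.sqX, neg_mul, one_mul, neg_neg]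

theorem QPair.yxy {X Y : Matrix (Fin 2) (Fin 2) F} (h : QPair X Y) : Y * X * Y = X := by
  rw [h.anti, neg_mul, mul_assoc, h.sqY, mul_neg, mul_one, neg_neg]

theorem QPair.swap_X {X Y : Matrix (Fin 2) (Fin 2) F} (h : QPair X Y) :
    (X + Y) * X = Y * (X + Y) := by
  rw [add_mul, mul_add, h.sqX, h.sqY, h.anti]
  abel

theorem QPair.swap_Y {X Y : Matrix (Fin 2) (Fin 2) F} (h : QPair X Y) :
    (X + Y) * Y = X * (X + Y) := by
  rw [add_mul, mul_add, h.sqX, h.sqY]
  abel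

theorem trace_zero_of_sq_neg_one (X : Matrix (Fin 2) (Fin 2) F)
    (hd : X.det = 1) (h : X * X = -1) : X.trace = 0 := by
  have hc := m2_sq X hd
  rw [h] at hc
  have h3 : X.trace • X = 0 := by
    have : X.trace • X = (X.trace • X - 1) + 1 := by abel
    rw [this, ← hc]
    abel
  by_contra ht
  have hX : X = 0 := by
    have : X = (X.trace)⁻¹ • (X.trace • X) := by rw [smul_smul, inv_mul_cancel₀ ht, one_smul]
    rw [this, h3, smul_zero]
  rw [hX, Matrix.det_fin_two] at hd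
  simp at hd

theorem QPair.trace_mul (h2 : (2 : F) ≠ 0) {X Y : Matrix (Fin 2) (Fin 2) F} (h : QPair X Y) :
    (X * Y).trace = 0 := by
  have h1 : (Y * X).trace = (X * Y).trace := Matrix.trace_mul_comm Y X
  rw [h.anti, Matrix.trace_neg] at h1
  have h3 : 2 * (X * Y).trace = 0 := by linear_combination -h1
  rcases mul_eq_zero.mp h3 with h4 | h4
  · exact absurd h4 h2
  · exact h4

theorem QPair.det_add {X Y : Matrix (Fin 2) (Fin 2) F} (h : QPair X Y)
    (hdX : X.det = 1) (hdY : Y.det = 1) : (X + Y).det = 2 := by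
  have htX := trace_zero_of_sq_neg_one X hdX h.sqX
  have htY := trace_zero_of_sq_neg_one Y hdY h.sqY
  have hc := m2_cayley (X + Y)
  rw [Matrix.trace_add, htX, htY, add_zero, zero_smul, zero_sub] at hc
  have h4 : (X + Y) * (X + Y) = -(1 + 1) := by
    rw [add_mul, mul_add, mul_add, h.sqX, h.sqY, h.anti]
    abel
  rw [h4] at hc
  have h5 := congrFun (congrFun hc 0) 0
  simp only [Matrix.neg_apply, Matrix.add_apply, Matrix.smul_apply, Matrix.one_apply_eq,
    smul_eq_mul, mul_one] at h5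
  linear_combination h5

theorem QPair.omega_X {X Y : Matrix (Fin 2) (Fin 2) F} (h : QPair X Y) :
    (1 + X + Y + X * Y) * X = Y * (1 + X + Y + X * Y) := by
  rw [add_mul, add_mul, add_mul, mul_add, mul_add, mul_add, one_mul, mul_one, h.sqX, h.sqY,
    h.xyx, ← mul_assoc, h.yxy, h.anti]
  abel

theorem QPair.omega_Y {X Y : Matrix (Fin 2) (Fin 2) F} (h : QPair X Y) :
    (1 + X + Y + X * Y) * Y = (X * Y) * (1 + X + Y + X * Y) := by
  have h1 : X * Y * Y = -X := by rw [mul_assoc, h.sqY, mul_neg, mul_one]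
  have h2 : X * Y * (X * Y) = -1 := by rw [← mul_assoc, h.xyx, h.sqY]
  rw [add_mul, add_mul, add_mul, mul_add, mul_add, mul_add, one_mul, mul_one, h.sqY, h1,
    h.xyx, h2]
  abel

theorem QPair.omega_det (h2 : (2 : F) ≠ 0) {X Y : Matrix (Fin 2) (Fin 2) F} (h : QPair X Y)
    (hdX : X.det = 1) (hdY : Y.det = 1) : (1 + X + Y + X * Y).det = 4 := by
  have htX := trace_zero_of_sq_neg_one X hdX h.sqX
  have htY := trace_zero_of_sq_neg_one Y hdY h.sqY
  have htXY := h.trace_mul h2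
  have hc := m2_cayley (1 + X + Y + X * Y)
  have htr : (1 + X + Y + X * Y).trace = 2 := by
    rw [Matrix.trace_add, Matrix.trace_add, Matrix.trace_add, htX, htY, htXY, Matrix.trace_one,
      Fintype.card_fin]
    norm_num
  rw [htr] at hc
  have h1 : X * Y * Y = -X := by rw [mul_assoc, h.sqY, mul_neg, mul_one]
  have h3 : X * Y * (X * Y) = -1 := by rw [← mul_assoc, h.xyx, h.sqY]
  have h5 : X * (X * Y) = -Y := by rw [← mul_assoc, h.sqX, neg_mul, one_mul]
  have h6 : Y * (X * Y) = X := by rw [← mul_assoc, h.yxy]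
  have h4 : (1 + X + Y + X * Y) * (1 + X + Y + X * Y) =
      (1 + X + Y + X * Y) + (1 + X + Y + X * Y) - (1 + 1 + 1 + 1) := by
    simp only [add_mul, mul_add, one_mul, mul_one, h.sqX, h.sqY, h.xyx, h1, h3, h5, h6, h.anti]
    abel
  rw [h4, two_smul] at hc
  have h7 := sub_right_injective hc
  have h8 := congrFun (congrFun h7 0) 0
  simp only [Matrix.add_apply, Matrix.smul_apply, Matrix.one_apply_eq, smul_eq_mul, mul_one] at h8
  linear_combination -h8

theorem QPair.scalar_of_commute (h2 : (2 : F) ≠ 0) {X Y : Matrix (Fin 2) (Fin 2) F}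
    (h : QPair X Y) (hdX : X.det = 1) (hdY : Y.det = 1) (P : Matrix (Fin 2) (Fin 2) F)
    (hPX : P * X = X * P) (hPY : P * Y = Y * P) :
    ∃ α : F, P = α • (1 : Matrix (Fin 2) (Fin 2) F) := by
  have htX := trace_zero_of_sq_neg_one X hdX h.sqX
  have hns : ∀ c : F, X ≠ c • (1 : Matrix (Fin 2) (Fin 2) F) := by
    intro c hc
    have ht := htX
    rw [hc, Matrix.trace_smul, Matrix.trace_one, Fintype.card_fin] at ht
    simp only [smul_eq_mul, Nat.cast_ofNat] at ht
    have hd := hdX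
    rw [hc, Matrix.det_smul, Matrix.det_one, Fintype.card_fin, mul_one] at hd
    rcases mul_eq_zero.mp ht with h0 | h0
    · rw [h0] at hd
      simp at hd
    · exact h2 h0
  obtain ⟨a, b, hab⟩ := m2_commute_lin X P hns hPX
  have h3 : (2 * b) • (X * Y) = 0 := by
    have h4 : P * Y = a • Y + b • (X * Y) := by
      rw [hab, add_mul, smul_mul_assoc, smul_mul_assoc, one_mul]
    have h5 : Y * P = a • Y - b • (X * Y) := by
      rw [hab, mul_add, mul_smul_comm, mul_smul_comm, mul_one, h.anti, smul_neg, sub_eq_add_neg]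
    rw [h4, h5] at hPY
    have h6 : b • (X * Y) + b • (X * Y) = 0 := by
      have := sub_eq_zero.mpr hPY
      rw [← this]
      abel
    rw [mul_comm, mul_smul, two_smul]
    rw [← smul_add] at h6
    exact h6
  have hXY : X * Y ≠ 0 := by
    intro h0
    have hd : (X * Y).det = 1 := by rw [Matrix.det_mul, hdX, hdY, one_mul]
    rw [h0, Matrix.det_fin_two] at hd
    simp at hd
  have hb : b = 0 := by
    rcases smul_eq_zero.mp h3 with h0 | h0
    · rcases mul_eq_zero.mp h0 with h1 | h1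
      · exact absurd h1 h2
      · exact h1
    · exact absurd h0 hXY
  refine ⟨a, ?_⟩
  rw [hab, hb, zero_smul, add_zero]

theorem QPair.normalize {X Y : Matrix (Fin 2) (Fin 2) F} (h : QPair X Y)
    (P : Matrix (Fin 2) (Fin 2) F)
    (hPX : P * X = X * P ∨ P * X = -(X * P)) (hPY : P * Y = Y * P ∨ P * Y = -(Y * P)) :
    ∃ W : Matrix (Fin 2) (Fin 2) F, (W = 1 ∨ W = X ∨ W = Y ∨ W = X * Y) ∧
      (P * W) * X = X * (P * W) ∧ (P * W) * Y = Y * (P * W) := by
  rcases hPX with hx | hx <;> rcases hPY with hy | hy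
  · exact ⟨1, Or.inl rfl, by rw [mul_one, hx], by rw [mul_one, hy]⟩
  · refine ⟨X, Or.inr (Or.inl rfl), ?_, ?_⟩
    · rw [hx, mul_assoc, hx]
    · calc P * X * Y = P * (X * Y) := by rw [mul_assoc]
        _ = -(P * (Y * X)) := by rw [h.anti, mul_neg, neg_neg]
        _ = -(P * Y * X) := by rw [mul_assoc]
        _ = Y * P * X := by rw [hy, neg_mul, neg_neg]
        _ = Y * (P * X) := by rw [mul_assoc]
  · refine ⟨Y, Or.inr (Or.inr (Or.inl rfl)), ?_, ?_⟩
    · calc P * Y * X = P * (Y * X) := by rw [mul_assoc]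
        _ = -(P * X * Y) := by rw [h.anti, mul_neg, mul_assoc]
        _ = X * P * Y := by rw [hx, neg_mul, neg_neg]
        _ = X * (P * Y) := by rw [mul_assoc]
    · rw [hy, mul_assoc, hy]
  · refine ⟨X * Y, Or.inr (Or.inr (Or.inr rfl)), ?_, ?_⟩
    · calc P * (X * Y) * X = P * (X * Y * X) := by rw [mul_assoc]
        _ = P * Y := by rw [h.xyx]
        _ = -(P * (X * X) * Y) := by rw [h.sqX, mul_neg, mul_one, neg_mul, neg_neg]
        _ = -(P * X * X * Y) := by rw [← mul_assoc]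
        _ = X * P * X * Y := by rw [hx, neg_mul, neg_mul, neg_neg]
        _ = X * (P * (X * Y)) := by simp only [mul_assoc]
    · calc P * (X * Y) * Y = P * X * (Y * Y) := by simp only [mul_assoc]
        _ = -(P * X) := by rw [h.sqY, mul_neg, mul_one]
        _ = -(P * (Y * X * Y)) := by rw [h.yxy]
        _ = -(P * Y * X * Y) := by simp only [mul_assoc]
        _ = Y * P * X * Y := by rw [hy, neg_mul, neg_mul, neg_neg]
        _ = Y * (P * (X * Y)) := by simp only [mul_assoc]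

end Quat

section Orbits

variable {G : Type*} [Group G]

open Cfsg.Agent.S0807

def orb (p : G × G) : Set (G × G) := {r | ∃ g : G, r = (g * p.1 * g⁻¹, g * p.2 * g⁻¹)}

theorem orb_refl (p : G × G) : p ∈ orb p := ⟨1, by simp⟩

theorem orb_trans {p r s : G × G} (h1 : r ∈ orb p) (h2 : s ∈ orb r) : s ∈ orb p := by
  obtain ⟨g, rfl⟩ := h1
  obtain ⟨k, rfl⟩ := h2
  refine ⟨k * g, ?_⟩
  simp only [mul_inv_rev, mul_assoc]

theorem orb_symm {p r : G × G} (h1 : r ∈ orb p) : p ∈ orb r := by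
  obtain ⟨g, rfl⟩ := h1
  refine ⟨g⁻¹, ?_⟩
  simp only [inv_inv, mul_assoc, inv_mul_cancel_left, inv_mul_cancel, mul_one]

theorem isPair_conj {p : G × G} (hp : IsPair p) (g : G) :
    IsPair (g * p.1 * g⁻¹, g * p.2 * g⁻¹) := by
  obtain ⟨h1, h2, h3, h4⟩ := hp
  refine ⟨?_, ?_, ?_, ?_⟩
  · rw [← h1]
    exact orderOf_injective (MulAut.conj g).toMonoidHom (MulAut.conj g).injective p.1
  · rw [← h2]
    exact orderOf_injective (MulAut.conj g).toMonoidHom (MulAut.conj g).injective p.2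
  · intro h
    apply h3
    have := mul_left_cancel (mul_right_cancel h)
    exact this
  · show g * p.1 * g⁻¹ * (g * p.2 * g⁻¹) = g * p.2 * g⁻¹ * (g * p.1 * g⁻¹)
    calc g * p.1 * g⁻¹ * (g * p.2 * g⁻¹) = g * (p.1 * p.2) * g⁻¹ := by group
      _ = g * (p.2 * p.1) * g⁻¹ := by rw [h4]
      _ = g * p.2 * g⁻¹ * (g * p.1 * g⁻¹) := by group

theorem orb_subset {p : G × G} (hp : IsPair p) : orb p ⊆ {r | IsPair r} := by
  rintro r ⟨g, rfl⟩
  exact isPair_conj hp g

theorem orb_eq_orbit (p : G × G) : orb p = MulAction.orbit (ConjAct G) p := by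
  ext r
  constructor
  · rintro ⟨g, rfl⟩
    refine ⟨ConjAct.toConjAct g, ?_⟩
    show (ConjAct.toConjAct g • p.1, ConjAct.toConjAct g • p.2) = _
    rw [ConjAct.smul_def, ConjAct.smul_def, ConjAct.ofConjAct_toConjAct]
  · rintro ⟨g, rfl⟩
    refine ⟨ConjAct.ofConjAct g, ?_⟩
    show (g • p.1, g • p.2) = _
    rw [ConjAct.smul_def, ConjAct.smul_def]

theorem card_orb [Finite G] (p : G × G) (V : Subgroup G) (hV : Nat.card V = 4)
    (hstab : ∀ g : G, (g * p.1 * g⁻¹ = p.1 ∧ g * p.2 * g⁻¹ = p.2) ↔ g ∈ V) :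
    (orb p).ncard * 4 = Nat.card G := by
  classical
  haveI := Fintype.ofFinite G
  haveI : Fintype (ConjAct G) := Fintype.ofFinite _
  have h1 := MulAction.card_orbit_mul_card_stabilizer_eq_card_group (ConjAct G) p
  rw [← Nat.card_eq_fintype_card, ← Nat.card_eq_fintype_card, ← Nat.card_eq_fintype_card,
    ← orb_eq_orbit, Nat.card_coe_set_eq] at h1
  have h2 : Nat.card (MulAction.stabilizer (ConjAct G) p) = Nat.card V := by
    apply Nat.card_congr
    refine Equiv.subtypeEquiv ConjAct.ofConjAct.toEquiv ?_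
    intro g
    rw [MulAction.mem_stabilizer_iff]
    show (g • p.1, g • p.2) = p ↔ ConjAct.ofConjAct g ∈ V
    rw [← hstab, ConjAct.smul_def, ConjAct.smul_def]
    constructor
    · intro h
      exact ⟨congrArg Prod.fst h, congrArg Prod.snd h⟩
    · rintro ⟨ha, hb⟩
      exact Prod.ext ha hb
  rw [h2, hV] at h1
  rw [h1]
  exact Nat.card_congr ConjAct.ofConjAct.toEquiv

theorem two_orbits [Finite G] (p₁ p₂ : G × G) (h1 : IsPair p₁) (h2 : IsPair p₂)
    (hne : p₂ ∉ orb p₁) (hc1 : (orb p₁).ncard * 4 = Nat.card G)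
    (hc2 : (orb p₂).ncard * 4 = Nat.card G)
    (hP : 2 * Nat.card {p : G × G // IsPair p} = Nat.card G) (p : G × G) (hp : IsPair p) :
    p ∈ orb p₁ ∨ p ∈ orb p₂ := by
  have hdisj : Disjoint (orb p₁) (orb p₂) := by
    rw [Set.disjoint_left]
    intro r hr1 hr2
    exact hne (orb_trans hr1 (orb_symm hr2))
  have hfin : ({r | IsPair r} : Set (G × G)).Finite := Set.toFinite _
  have hsub : orb p₁ ∪ orb p₂ ⊆ {r | IsPair r} := Set.union_subset (orb_subset h1) (orb_subset h2)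
  have hcard : (orb p₁ ∪ orb p₂).ncard = (orb p₁).ncard + (orb p₂).ncard :=
    Set.ncard_union_eq hdisj (Set.toFinite _) (Set.toFinite _)
  have hP' : Nat.card {p : G × G // IsPair p} = ({r | IsPair r} : Set (G × G)).ncard :=
    Nat.card_coe_set_eq _
  have heq : orb p₁ ∪ orb p₂ = {r | IsPair r} := by
    apply Set.eq_of_subset_of_ncard_le hsub _ hfin
    rw [hcard, ← hP']
    omega
  have : p ∈ orb p₁ ∪ orb p₂ := by
    rw [heq]
    exact hp
  exact this

theorem klein_has_pair (V : Subgroup G) (hV : IsKleinFour V) :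
    ∃ (a b : G) (hp : IsPair (a, b)),
      V = pairSubgroup a b (sq_of_order_two' hp.1) (sq_of_order_two' hp.2.1) hp.2.2.2 := by
  obtain ⟨f⟩ := IsKleinFour.nonempty_mulEquiv (G₁ := V) (G₂ := DihedralGroup 2)
  have ha : f.symm (DihedralGroup.r 1) ≠ 1 := by
    rw [Ne, EmbeddingLike.map_eq_one_iff]
    decide
  have hb : f.symm (DihedralGroup.sr 0) ≠ 1 := by
    rw [Ne, EmbeddingLike.map_eq_one_iff]
    decide
  have hab : f.symm (DihedralGroup.r 1) ≠ f.symm (DihedralGroup.sr 0) := by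
    rw [Ne, EmbeddingLike.apply_eq_iff_eq]
    decide
  have hp := isPair_of_klein hV _ _ ha hb hab
  refine ⟨_, _, hp, ?_⟩
  exact (pairSubgroup_eq_of_klein hV _ _ ha hb hab _ _ _).symm

theorem pairSubgroup_conj (a b : G) (haa : a * a = 1) (hbb : b * b = 1) (hab : a * b = b * a)
    (g : G) (haa' : g * a * g⁻¹ * (g * a * g⁻¹) = 1) (hbb' : g * b * g⁻¹ * (g * b * g⁻¹) = 1)
    (hab' : g * a * g⁻¹ * (g * b * g⁻¹) = g * b * g⁻¹ * (g * a * g⁻¹)) :
    pairSubgroup (g * a * g⁻¹) (g * b * g⁻¹) haa' hbb' hab' =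
      (pairSubgroup a b haa hbb hab).map (MulAut.conj g).toMonoidHom := by
  ext x
  rw [mem_pairSubgroup, Subgroup.mem_map]
  constructor
  · rintro (rfl | rfl | rfl | rfl)
    · exact ⟨1, Or.inl rfl, map_one _⟩
    · exact ⟨a, Or.inr (Or.inl rfl), rfl⟩
    · exact ⟨b, Or.inr (Or.inr (Or.inl rfl)), rfl⟩
    · refine ⟨a * b, Or.inr (Or.inr (Or.inr rfl)), ?_⟩
      show g * (a * b) * g⁻¹ = g * a * g⁻¹ * (g * b * g⁻¹)
      group
  · rintro ⟨y, (rfl | rfl | rfl | rfl), rfl⟩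
    · exact Or.inl (map_one _)
    · exact Or.inr (Or.inl rfl)
    · exact Or.inr (Or.inr (Or.inl rfl))
    · refine Or.inr (Or.inr (Or.inr ?_))
      show g * (a * b) * g⁻¹ = g * a * g⁻¹ * (g * b * g⁻¹)
      group

theorem pairSubgroup_swap (a b : G) (haa : a * a = 1) (hbb : b * b = 1) (hab : a * b = b * a)
    (hba : b * a = a * b) :
    pairSubgroup b a hbb haa hba = pairSubgroup a b haa hbb hab := by
  ext x
  rw [mem_pairSubgroup, mem_pairSubgroup]
  constructor
  · rintro (rfl | rfl | rfl | rfl)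
    · exact Or.inl rfl
    · exact Or.inr (Or.inr (Or.inl rfl))
    · exact Or.inr (Or.inl rfl)
    · exact Or.inr (Or.inr (Or.inr hba))
  · rintro (rfl | rfl | rfl | rfl)
    · exact Or.inl rfl
    · exact Or.inr (Or.inr (Or.inl rfl))
    · exact Or.inr (Or.inl rfl)
    · exact Or.inr (Or.inr (Or.inr hab))

theorem conj_of_orb {p r : G × G} (hp : IsPair p) (hr : r ∈ orb p) (hr' : IsPair r) :
    ∃ g : G, pairSubgroup r.1 r.2 (sq_of_order_two' hr'.1) (sq_of_order_two' hr'.2.1) hr'.2.2.2 =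
      (pairSubgroup p.1 p.2 (sq_of_order_two' hp.1) (sq_of_order_two' hp.2.1)
        hp.2.2.2).map (MulAut.conj g).toMonoidHom := by
  obtain ⟨g, rfl⟩ := hr
  exact ⟨g, pairSubgroup_conj _ _ _ _ _ g _ _ _⟩

end Orbits

section PSL

open Cfsg.Agent.S2508 Cfsg.Agent.S0809 Cfsg.Agent.S0807 Cfsg.Agent.Lib.helper15

variable {F : Type*} [Field F] [Fintype F]

theorem coe_sq_neg_one (X : Matrix.SpecialLinearGroup (Fin 2) F) (h : X * X = -1) :
    (X : Matrix (Fin 2) (Fin 2) F) * (X : Matrix (Fin 2) (Fin 2) F) = -1 := by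
  rw [← Matrix.SpecialLinearGroup.coe_mul, h, Matrix.SpecialLinearGroup.coe_neg,
    Matrix.SpecialLinearGroup.coe_one]

theorem exists_anti_of_pair (h2 : (2 : F) ≠ 0)
    (p : Matrix.ProjectiveSpecialLinearGroup (Fin 2) F ×
      Matrix.ProjectiveSpecialLinearGroup (Fin 2) F) (hp : IsPair p) :
    ∃ X Y : Matrix.SpecialLinearGroup (Fin 2) F,
      (QuotientGroup.mk X : Matrix.ProjectiveSpecialLinearGroup (Fin 2) F) = p.1 ∧
      (QuotientGroup.mk Y : Matrix.ProjectiveSpecialLinearGroup (Fin 2) F) = p.2 ∧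
      QPair (X : Matrix (Fin 2) (Fin 2) F) (Y : Matrix (Fin 2) (Fin 2) F) := by
  obtain ⟨a, b⟩ := p
  obtain ⟨ha, hb, hne, hc⟩ := hp
  obtain ⟨X, rfl⟩ := QuotientGroup.mk_surjective a
  obtain ⟨Y, rfl⟩ := QuotientGroup.mk_surjective b
  have hX := sq_of_order_two h2 X ha
  have hY := sq_of_order_two h2 Y hb
  refine ⟨X, Y, rfl, rfl, coe_sq_neg_one X hX, coe_sq_neg_one Y hY, ?_⟩
  obtain ⟨hcen, hnot⟩ := (partner_iff h2 X hX (QuotientGroup.mk Y)).mp ⟨hb, hne, hc⟩
  have hYCp : Y ∈ Cp X := by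
    rw [Cp, Subgroup.mem_comap]
    exact hcen
  rw [mem_Cp] at hYCp
  rcases hYCp with hcomm | hanti
  · exfalso
    apply hnot
    refine ⟨Y, ?_, rfl⟩
    rw [SetLike.mem_coe, mem_centralizer_iff_mat]
    exact hcomm
  · exact hanti

theorem isPair_of_anti (h2 : (2 : F) ≠ 0) (X Y : Matrix.SpecialLinearGroup (Fin 2) F)
    (h : QPair (X : Matrix (Fin 2) (Fin 2) F) (Y : Matrix (Fin 2) (Fin 2) F)) :
    IsPair ((QuotientGroup.mk X : Matrix.ProjectiveSpecialLinearGroup (Fin 2) F),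
      (QuotientGroup.mk Y : Matrix.ProjectiveSpecialLinearGroup (Fin 2) F)) := by
  have htX := trace_zero_of_sq_neg_one _ X.2 h.sqX
  have htY := trace_zero_of_sq_neg_one _ Y.2 h.sqY
  have hanti' : (X : Matrix (Fin 2) (Fin 2) F) * (Y : Matrix (Fin 2) (Fin 2) F) =
      -((Y : Matrix (Fin 2) (Fin 2) F) * (X : Matrix (Fin 2) (Fin 2) F)) := by
    rw [h.anti, neg_neg]
  refine ⟨order_two_of_trace_zero h2 X htX, order_two_of_trace_zero h2 Y htY, ?_, ?_⟩
  · intro heq
    rw [mk_eq_iff] at heq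
    have hdet : ((X : Matrix (Fin 2) (Fin 2) F) * (Y : Matrix (Fin 2) (Fin 2) F)).det = 1 := by
      rw [Matrix.det_mul, X.2, Y.2, one_mul]
    have hcomm : (Y : Matrix (Fin 2) (Fin 2) F) * (X : Matrix (Fin 2) (Fin 2) F) =
        (X : Matrix (Fin 2) (Fin 2) F) * (Y : Matrix (Fin 2) (Fin 2) F) := by
      rcases heq with h' | h'
      · rw [h']
      · rw [h', mul_neg, neg_mul]
    apply neg_ne_self h2 _ hdet
    exact hcomm.symm.trans h.anti
  · show (QuotientGroup.mk X : Matrix.ProjectiveSpecialLinearGroup (Fin 2) F) * QuotientGroup.mk Y =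
      QuotientGroup.mk Y * QuotientGroup.mk X
    rw [← QuotientGroup.mk_mul, ← QuotientGroup.mk_mul, mk_eq_iff,
      Matrix.SpecialLinearGroup.coe_mul, Matrix.SpecialLinearGroup.coe_mul]
    right
    exact hanti'

theorem mk_eq_one_of_scalar (P : Matrix.SpecialLinearGroup (Fin 2) F) (α : F)
    (h : (P : Matrix (Fin 2) (Fin 2) F) = α • (1 : Matrix (Fin 2) (Fin 2) F)) :
    (QuotientGroup.mk P : Matrix.ProjectiveSpecialLinearGroup (Fin 2) F) = 1 := by
  rw [QuotientGroup.eq_one_iff, mem_center_iff']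
  refine ⟨α, ?_, h⟩
  have hd := P.2
  rw [h, Matrix.det_smul, Matrix.det_one, Fintype.card_fin, mul_one] at hd
  exact hd

theorem stab_mem (h2 : (2 : F) ≠ 0) (X Y : Matrix.SpecialLinearGroup (Fin 2) F)
    (h : QPair (X : Matrix (Fin 2) (Fin 2) F) (Y : Matrix (Fin 2) (Fin 2) F))
    (V : Subgroup (Matrix.ProjectiveSpecialLinearGroup (Fin 2) F))
    (hXV : (QuotientGroup.mk X : Matrix.ProjectiveSpecialLinearGroup (Fin 2) F) ∈ V)
    (hYV : (QuotientGroup.mk Y : Matrix.ProjectiveSpecialLinearGroup (Fin 2) F) ∈ V)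
    (g : Matrix.ProjectiveSpecialLinearGroup (Fin 2) F)
    (hgX : g * QuotientGroup.mk X = QuotientGroup.mk X * g)
    (hgY : g * QuotientGroup.mk Y = QuotientGroup.mk Y * g) : g ∈ V := by
  obtain ⟨P, rfl⟩ := QuotientGroup.mk_surjective g
  have hPX : P ∈ Cp X := by
    rw [Cp, Subgroup.mem_comap, Subgroup.mem_centralizer_singleton_iff]
    exact hgX
  have hPY : P ∈ Cp Y := by
    rw [Cp, Subgroup.mem_comap, Subgroup.mem_centralizer_singleton_iff]
    exact hgY
  rw [mem_Cp] at hPX hPY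
  obtain ⟨W, hW, hWX, hWY⟩ := h.normalize (P : Matrix (Fin 2) (Fin 2) F) hPX hPY
  obtain ⟨α, hα⟩ := h.scalar_of_commute h2 X.2 Y.2 _ hWX hWY
  have key : ∀ W' : Matrix.SpecialLinearGroup (Fin 2) F,
      (W' : Matrix (Fin 2) (Fin 2) F) = W →
      (QuotientGroup.mk W' : Matrix.ProjectiveSpecialLinearGroup (Fin 2) F) ∈ V →
      (QuotientGroup.mk P : Matrix.ProjectiveSpecialLinearGroup (Fin 2) F) ∈ V := by
    intro W' hW' hW'V
    have h1 : (QuotientGroup.mk (P * W') : Matrix.ProjectiveSpecialLinearGroup (Fin 2) F) = 1 := by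
      apply mk_eq_one_of_scalar _ α
      rw [Matrix.SpecialLinearGroup.coe_mul, hW', hα]
    rw [QuotientGroup.mk_mul] at h1
    have h3 : (QuotientGroup.mk P : Matrix.ProjectiveSpecialLinearGroup (Fin 2) F) =
        (QuotientGroup.mk W')⁻¹ := eq_inv_of_mul_eq_one_left h1
    rw [h3]
    exact V.inv_mem hW'V
  rcases hW with rfl | rfl | rfl | rfl
  · exact key 1 Matrix.SpecialLinearGroup.coe_one (by rw [QuotientGroup.mk_one]; exact V.one_mem)
  · exact key X rfl hXV
  · exact key Y rfl hYV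
  · exact key (X * Y) (Matrix.SpecialLinearGroup.coe_mul X Y)
      (by rw [QuotientGroup.mk_mul]; exact V.mul_mem hXV hYV)

theorem conj_of_mat (P X Y : Matrix.SpecialLinearGroup (Fin 2) F)
    (h : (P : Matrix (Fin 2) (Fin 2) F) * (X : Matrix (Fin 2) (Fin 2) F) =
      (Y : Matrix (Fin 2) (Fin 2) F) * (P : Matrix (Fin 2) (Fin 2) F)) :
    (QuotientGroup.mk P : Matrix.ProjectiveSpecialLinearGroup (Fin 2) F) * QuotientGroup.mk X *
      (QuotientGroup.mk P)⁻¹ = QuotientGroup.mk Y := by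
  have h1 : P * X = Y * P := by
    apply Subtype.ext
    rw [Matrix.SpecialLinearGroup.coe_mul, Matrix.SpecialLinearGroup.coe_mul]
    exact h
  rw [← QuotientGroup.mk_mul, h1, QuotientGroup.mk_mul, mul_inv_cancel_right]

theorem conj_rot (h2 : (2 : F) ≠ 0) (X Y : Matrix.SpecialLinearGroup (Fin 2) F)
    (h : QPair (X : Matrix (Fin 2) (Fin 2) F) (Y : Matrix (Fin 2) (Fin 2) F)) :
    ∃ g : Matrix.ProjectiveSpecialLinearGroup (Fin 2) F,
      g * QuotientGroup.mk X * g⁻¹ = QuotientGroup.mk Y ∧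
      g * QuotientGroup.mk Y * g⁻¹ = QuotientGroup.mk X * QuotientGroup.mk Y := by
  have h4 : (4 : F) ≠ 0 := by
    have : (4 : F) = 2 * 2 := by norm_num
    rw [this]
    exact mul_ne_zero h2 h2
  have hdet : ((2 : F)⁻¹ • (1 + (X : Matrix (Fin 2) (Fin 2) F) + (Y : Matrix (Fin 2) (Fin 2) F) +
      (X : Matrix (Fin 2) (Fin 2) F) * (Y : Matrix (Fin 2) (Fin 2) F))).det = 1 := by
    rw [Matrix.det_smul, Fintype.card_fin, h.omega_det h2 X.2 Y.2]
    field_simp
    norm_num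
  refine ⟨QuotientGroup.mk (mkSL _ hdet), ?_, ?_⟩
  · apply conj_of_mat
    rw [mkSL_coe, smul_mul_assoc, mul_smul_comm, h.omega_X]
  · rw [← QuotientGroup.mk_mul]
    apply conj_of_mat
    rw [mkSL_coe, smul_mul_assoc, mul_smul_comm, h.omega_Y, Matrix.SpecialLinearGroup.coe_mul]

theorem conj_swap (X Y : Matrix.SpecialLinearGroup (Fin 2) F)
    (h : QPair (X : Matrix (Fin 2) (Fin 2) F) (Y : Matrix (Fin 2) (Fin 2) F))
    (hsq : IsSquare (2 : F)) (h2 : (2 : F) ≠ 0) :
    ∃ g : Matrix.ProjectiveSpecialLinearGroup (Fin 2) F,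
      g * QuotientGroup.mk X * g⁻¹ = QuotientGroup.mk Y ∧
      g * QuotientGroup.mk Y * g⁻¹ = QuotientGroup.mk X := by
  obtain ⟨s, hs⟩ := hsq
  have hs0 : s ≠ 0 := by
    rintro rfl
    apply h2
    rw [hs, mul_zero]
  have hdet : (s⁻¹ • ((X : Matrix (Fin 2) (Fin 2) F) + (Y : Matrix (Fin 2) (Fin 2) F))).det = 1 := by
    rw [Matrix.det_smul, Fintype.card_fin, h.det_add X.2 Y.2, hs]
    field_simp
  refine ⟨QuotientGroup.mk (mkSL _ hdet), ?_, ?_⟩
  · apply conj_of_mat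
    rw [mkSL_coe, smul_mul_assoc, mul_smul_comm, h.swap_X]
  · apply conj_of_mat
    rw [mkSL_coe, smul_mul_assoc, mul_smul_comm, h.swap_Y]

theorem mat_of_conj (P X Y : Matrix.SpecialLinearGroup (Fin 2) F)
    (h : (QuotientGroup.mk P : Matrix.ProjectiveSpecialLinearGroup (Fin 2) F) * QuotientGroup.mk X *
      (QuotientGroup.mk P)⁻¹ = QuotientGroup.mk Y) :
    (P : Matrix (Fin 2) (Fin 2) F) * (X : Matrix (Fin 2) (Fin 2) F) =
      (Y : Matrix (Fin 2) (Fin 2) F) * (P : Matrix (Fin 2) (Fin 2) F) ∨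
    (P : Matrix (Fin 2) (Fin 2) F) * (X : Matrix (Fin 2) (Fin 2) F) =
      -((Y : Matrix (Fin 2) (Fin 2) F) * (P : Matrix (Fin 2) (Fin 2) F)) := by
  have h1 : (QuotientGroup.mk (P * X) : Matrix.ProjectiveSpecialLinearGroup (Fin 2) F) =
      QuotientGroup.mk (Y * P) := by
    rw [QuotientGroup.mk_mul, QuotientGroup.mk_mul, ← h, inv_mul_cancel_right]
  rw [mk_eq_iff, Matrix.SpecialLinearGroup.coe_mul, Matrix.SpecialLinearGroup.coe_mul] at h1
  exact h1

theorem square_of_swap (h2 : (2 : F) ≠ 0) (X Y : Matrix.SpecialLinearGroup (Fin 2) F)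
    (h : QPair (X : Matrix (Fin 2) (Fin 2) F) (Y : Matrix (Fin 2) (Fin 2) F))
    (g : Matrix.ProjectiveSpecialLinearGroup (Fin 2) F)
    (hgX : g * QuotientGroup.mk X * g⁻¹ = QuotientGroup.mk Y)
    (hgY : g * QuotientGroup.mk Y * g⁻¹ = QuotientGroup.mk X) : IsSquare (2 : F) := by
  obtain ⟨P, rfl⟩ := QuotientGroup.mk_surjective g
  have h1 := mat_of_conj P X Y hgX
  have h3 := mat_of_conj P Y X hgY
  have hHX : ((X : Matrix (Fin 2) (Fin 2) F) + (Y : Matrix (Fin 2) (Fin 2) F)) *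
      (P : Matrix (Fin 2) (Fin 2) F) * (X : Matrix (Fin 2) (Fin 2) F) =
      (X : Matrix (Fin 2) (Fin 2) F) * (((X : Matrix (Fin 2) (Fin 2) F) +
        (Y : Matrix (Fin 2) (Fin 2) F)) * (P : Matrix (Fin 2) (Fin 2) F)) ∨
      ((X : Matrix (Fin 2) (Fin 2) F) + (Y : Matrix (Fin 2) (Fin 2) F)) *
      (P : Matrix (Fin 2) (Fin 2) F) * (X : Matrix (Fin 2) (Fin 2) F) =
      -((X : Matrix (Fin 2) (Fin 2) F) * (((X : Matrix (Fin 2) (Fin 2) F) +
        (Y : Matrix (Fin 2) (Fin 2) F)) * (P : Matrix (Fin 2) (Fin 2) F))) := by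
    rcases h1 with h1 | h1
    · left
      rw [mul_assoc, h1, ← mul_assoc, h.swap_Y, mul_assoc]
    · right
      rw [mul_assoc, h1, mul_neg, ← mul_assoc, h.swap_Y, mul_assoc]
  have hHY : ((X : Matrix (Fin 2) (Fin 2) F) + (Y : Matrix (Fin 2) (Fin 2) F)) *
      (P : Matrix (Fin 2) (Fin 2) F) * (Y : Matrix (Fin 2) (Fin 2) F) =
      (Y : Matrix (Fin 2) (Fin 2) F) * (((X : Matrix (Fin 2) (Fin 2) F) +
        (Y : Matrix (Fin 2) (Fin 2) F)) * (P : Matrix (Fin 2) (Fin 2) F)) ∨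
      ((X : Matrix (Fin 2) (Fin 2) F) + (Y : Matrix (Fin 2) (Fin 2) F)) *
      (P : Matrix (Fin 2) (Fin 2) F) * (Y : Matrix (Fin 2) (Fin 2) F) =
      -((Y : Matrix (Fin 2) (Fin 2) F) * (((X : Matrix (Fin 2) (Fin 2) F) +
        (Y : Matrix (Fin 2) (Fin 2) F)) * (P : Matrix (Fin 2) (Fin 2) F))) := by
    rcases h3 with h3 | h3
    · left
      rw [mul_assoc, h3, ← mul_assoc, h.swap_X, mul_assoc]
    · right
      rw [mul_assoc, h3, mul_neg, ← mul_assoc, h.swap_X, mul_assoc]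
  obtain ⟨W, hW, hWX, hWY⟩ := h.normalize _ hHX hHY
  obtain ⟨α, hα⟩ := h.scalar_of_commute h2 X.2 Y.2 _ hWX hWY
  have hdW : W.det = 1 := by
    rcases hW with rfl | rfl | rfl | rfl
    · exact Matrix.det_one
    · exact X.2
    · exact Y.2
    · rw [Matrix.det_mul, X.2, Y.2, one_mul]
  have hd := congrArg Matrix.det hα
  rw [Matrix.det_mul, Matrix.det_mul, h.det_add X.2 Y.2, P.2, hdW, Matrix.det_smul, Matrix.det_one,
    Fintype.card_fin, mul_one, mul_one, mul_one] at hd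
  exact ⟨α, by rw [hd, pow_two]⟩

theorem stab_pair (h2 : (2 : F) ≠ 0)
    (p : Matrix.ProjectiveSpecialLinearGroup (Fin 2) F ×
      Matrix.ProjectiveSpecialLinearGroup (Fin 2) F) (hp : IsPair p)
    (g : Matrix.ProjectiveSpecialLinearGroup (Fin 2) F) :
    (g * p.1 * g⁻¹ = p.1 ∧ g * p.2 * g⁻¹ = p.2) ↔
      g ∈ pairSubgroup p.1 p.2 (sq_of_order_two' hp.1) (sq_of_order_two' hp.2.1) hp.2.2.2 := by
  obtain ⟨a, b⟩ := p
  have haa := sq_of_order_two' hp.1
  have hbb := sq_of_order_two' hp.2.1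
  have hab : a * b = b * a := hp.2.2.2
  constructor
  · rintro ⟨h1, h3⟩
    obtain ⟨X, Y, hX, hY, hq⟩ := exists_anti_of_pair h2 (a, b) hp
    simp only at hX hY h1 h3
    subst hX hY
    apply stab_mem h2 X Y hq
    · exact Or.inr (Or.inl rfl)
    · exact Or.inr (Or.inr (Or.inl rfl))
    · exact mul_inv_eq_iff_eq_mul.mp h1
    · exact mul_inv_eq_iff_eq_mul.mp h3
  · simp only
    rintro (rfl | rfl | rfl | rfl)
    · simp
    · exact ⟨by simp, by rw [mul_inv_eq_iff_eq_mul]; exact hab⟩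
    · exact ⟨by rw [mul_inv_eq_iff_eq_mul]; exact hab.symm, by simp⟩
    · constructor
      · rw [mul_inv_eq_iff_eq_mul]
        calc a * b * a = a * (b * a) := by rw [mul_assoc]
          _ = a * (a * b) := by rw [hab]
      · rw [mul_inv_eq_iff_eq_mul]
        calc a * b * b = b * a * b := by rw [hab]
          _ = b * (a * b) := by rw [mul_assoc]

theorem orb_rot (h2 : (2 : F) ≠ 0)
    (p : Matrix.ProjectiveSpecialLinearGroup (Fin 2) F ×
      Matrix.ProjectiveSpecialLinearGroup (Fin 2) F) (hp : IsPair p) :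
    (p.2, p.1 * p.2) ∈ orb p := by
  obtain ⟨X, Y, hX, hY, hq⟩ := exists_anti_of_pair h2 p hp
  obtain ⟨g, hg1, hg2⟩ := conj_rot h2 X Y hq
  refine ⟨g, ?_⟩
  rw [← hX, ← hY, hg1, hg2]

theorem orb_swap (h2 : (2 : F) ≠ 0) (hsq : IsSquare (2 : F))
    (p : Matrix.ProjectiveSpecialLinearGroup (Fin 2) F ×
      Matrix.ProjectiveSpecialLinearGroup (Fin 2) F) (hp : IsPair p) :
    (p.2, p.1) ∈ orb p := by
  obtain ⟨X, Y, hX, hY, hq⟩ := exists_anti_of_pair h2 p hp
  obtain ⟨g, hg1, hg2⟩ := conj_swap X Y hq hsq h2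
  refine ⟨g, ?_⟩
  rw [← hX, ← hY, hg1, hg2]

theorem not_orb_swap (h2 : (2 : F) ≠ 0) (hsq : ¬ IsSquare (2 : F))
    (p : Matrix.ProjectiveSpecialLinearGroup (Fin 2) F ×
      Matrix.ProjectiveSpecialLinearGroup (Fin 2) F) (hp : IsPair p) :
    (p.2, p.1) ∉ orb p := by
  rintro ⟨g, hg⟩
  obtain ⟨X, Y, hX, hY, hq⟩ := exists_anti_of_pair h2 p hp
  apply hsq
  have h1 := congrArg Prod.fst hg
  have h3 := congrArg Prod.snd hg
  simp only at h1 h3
  rw [← hX, ← hY] at h1 h3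
  exact square_of_swap h2 X Y hq g h1.symm h3.symm

theorem isPair_swap {G : Type*} [Group G] {p : G × G} (hp : IsPair p) : IsPair (p.2, p.1) :=
  ⟨hp.2.1, hp.1, fun h => hp.2.2.1 h.symm, hp.2.2.2.symm⟩

theorem six_pairs (h2 : (2 : F) ≠ 0) (hsq : IsSquare (2 : F))
    (p : Matrix.ProjectiveSpecialLinearGroup (Fin 2) F ×
      Matrix.ProjectiveSpecialLinearGroup (Fin 2) F) (hp : IsPair p)
    (c d : Matrix.ProjectiveSpecialLinearGroup (Fin 2) F)
    (hc : c ∈ pairSubgroup p.1 p.2 (sq_of_order_two' hp.1) (sq_of_order_two' hp.2.1) hp.2.2.2)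
    (hd : d ∈ pairSubgroup p.1 p.2 (sq_of_order_two' hp.1) (sq_of_order_two' hp.2.1) hp.2.2.2)
    (hc1 : c ≠ 1) (hd1 : d ≠ 1) (hcd : c ≠ d) : (c, d) ∈ orb p := by
  obtain ⟨a, b⟩ := p
  have haa : a * a = 1 := sq_of_order_two' hp.1
  have hbb : b * b = 1 := sq_of_order_two' hp.2.1
  have hab : a * b = b * a := hp.2.2.2
  have r1 : (b, a * b) ∈ orb (a, b) := orb_rot h2 (a, b) hp
  have p1 : IsPair (b, a * b) := orb_subset hp r1
  have r2 : (a * b, a) ∈ orb (a, b) := by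
    have := orb_rot h2 (b, a * b) p1
    have hba : b * (a * b) = a := by rw [← mul_assoc, ← hab, mul_assoc, hbb, mul_one]
    simp only at this
    rw [hba] at this
    exact orb_trans r1 this
  have p2 : IsPair (a * b, a) := orb_subset hp r2
  have s0 : (b, a) ∈ orb (a, b) := orb_swap h2 hsq (a, b) hp
  have s1 : (a * b, b) ∈ orb (a, b) := orb_trans r1 (orb_swap h2 hsq (b, a * b) p1)
  have s2 : (a, a * b) ∈ orb (a, b) := orb_trans r2 (orb_swap h2 hsq (a * b, a) p2)
  rw [mem_pairSubgroup] at hc hd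
  simp only at hc hd
  rcases hc with rfl | rfl | rfl | rfl
  · exact absurd rfl hc1
  · rcases hd with rfl | rfl | rfl | rfl
    · exact absurd rfl hd1
    · exact absurd rfl hcd
    · exact orb_refl _
    · exact s2
  · rcases hd with rfl | rfl | rfl | rfl
    · exact absurd rfl hd1
    · exact s0
    · exact absurd rfl hcd
    · exact r1
  · rcases hd with rfl | rfl | rfl | rfl
    · exact absurd rfl hd1
    · exact r2
    · exact s1
    · exact absurd rfl hcd

end PSL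

/-- Conjugacy classes of four-groups in PSL_2(q), q odd: if q ≡ 3 or 5 (mod 8) all Klein four-subgroups are conjugate; if q ≡ 1 or 7 (mod 8) there are two Klein four-subgroups which are not conjugate, and every Klein four-subgroup is conjugate to one of them. -/
theorem result {F : Type*} [Field F] [Fintype F] {q : ℕ} (hF : Fintype.card F = q) (hodd : Odd q) : ((q % 8 = 3 ∨ q % 8 = 5) → ∀ V W : Subgroup (Matrix.ProjectiveSpecialLinearGroup (Fin 2) F), IsKleinFour V → IsKleinFour W → ∃ g : Matrix.ProjectiveSpecialLinearGroup (Fin 2) F, W = V.map (MulAut.conj g).toMonoidHom) ∧ ((q % 8 = 1 ∨ q % 8 = 7) → ∃ V₁ V₂ : Subgroup (Matrix.ProjectiveSpecialLinearGroup (Fin 2) F), IsKleinFour V₁ ∧ IsKleinFour V₂ ∧ (¬ ∃ g : Matrix.ProjectiveSpecialLinearGroup (Fin 2) F, V₂ = V₁.map (MulAut.conj g).toMonoidHom) ∧ ∀ W : Subgroup (Matrix.ProjectiveSpecialLinearGroup (Fin 2) F), IsKleinFour W → (∃ g : Matrix.ProjectiveSpecialLinearGroup (Fin 2) F, W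 = V₁.map (MulAut.conj g).toMonoidHom) ∨ (∃ g : Matrix.ProjectiveSpecialLinearGroup (Fin 2) F, W = V₂.map (MulAut.conj g).toMonoidHom)) := by
  subst hF
  have hodd' : Fintype.card F % 2 = 1 := Nat.odd_iff.mp hodd
  have h2 : (2 : F) ≠ 0 := by
    intro h
    have : CharP F 2 := CharTwo.of_one_ne_zero_of_two_eq_zero one_ne_zero h
    obtain ⟨n, _, hn⟩ := FiniteField.card F 2
    have h3 : 2 ∣ Fintype.card F := by
      rw [hn]
      exact dvd_pow_self 2 n.ne_zero
    omega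
  have hP := two_mul_card_pairs hodd' h2
  have hcard : ∀ p : Matrix.ProjectiveSpecialLinearGroup (Fin 2) F ×
      Matrix.ProjectiveSpecialLinearGroup (Fin 2) F, IsPair p →
      (orb p).ncard * 4 = Nat.card (Matrix.ProjectiveSpecialLinearGroup (Fin 2) F) := by
    intro p hp
    exact card_orb p _ (pairSubgroup_klein _ _ _ _ _ (ne_one_of_order_two hp.1)
      (ne_one_of_order_two hp.2.1) hp.2.2.1).card_four (stab_pair h2 p hp)
  have hsq := FiniteField.isSquare_two_iff (F := F)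
  constructor
  · intro hq V W hV hW
    have hnsq : ¬ IsSquare (2 : F) := by
      rw [hsq]
      omega
    obtain ⟨a, b, hp, rfl⟩ := klein_has_pair V hV
    obtain ⟨c, d, hr, rfl⟩ := klein_has_pair W hW
    have hp' : IsPair (b, a) := isPair_swap hp
    rcases two_orbits (a, b) (b, a) hp hp' (not_orb_swap h2 hnsq (a, b) hp) (hcard _ hp)
      (hcard _ hp') hP (c, d) hr with h | h
    · exact conj_of_orb hp h hr
    · obtain ⟨g, hg⟩ := conj_of_orb hp' h hr
      refine ⟨g, ?_⟩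
      rw [hg]
      congr 1
      exact pairSubgroup_swap a b _ _ _ _
  · intro hq
    have hsq2 : IsSquare (2 : F) := by
      rw [hsq]
      omega
    have hpos : 0 < Nat.card (Matrix.ProjectiveSpecialLinearGroup (Fin 2) F) := Nat.card_pos
    have hne : Nonempty {p : Matrix.ProjectiveSpecialLinearGroup (Fin 2) F ×
        Matrix.ProjectiveSpecialLinearGroup (Fin 2) F // IsPair p} := by
      by_contra h
      rw [not_nonempty_iff] at h
      have := Nat.card_of_isEmpty (α := {p : Matrix.ProjectiveSpecialLinearGroup (Fin 2) F ×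
        Matrix.ProjectiveSpecialLinearGroup (Fin 2) F // IsPair p})
      omega
    obtain ⟨⟨p₁, hp₁⟩⟩ := hne
    have hex : ∃ p₂ : Matrix.ProjectiveSpecialLinearGroup (Fin 2) F ×
        Matrix.ProjectiveSpecialLinearGroup (Fin 2) F, IsPair p₂ ∧ p₂ ∉ orb p₁ := by
      by_contra hcon
      push_neg at hcon
      have hsub : ({r | IsPair r} : Set (Matrix.ProjectiveSpecialLinearGroup (Fin 2) F ×
        Matrix.ProjectiveSpecialLinearGroup (Fin 2) F)) ⊆ orb p₁ := fun r hr => hcon r hr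
      have hle := Set.ncard_le_ncard hsub (Set.toFinite _)
      have hP' : Nat.card {p : Matrix.ProjectiveSpecialLinearGroup (Fin 2) F ×
        Matrix.ProjectiveSpecialLinearGroup (Fin 2) F // IsPair p} =
          ({r | IsPair r} : Set (Matrix.ProjectiveSpecialLinearGroup (Fin 2) F ×
        Matrix.ProjectiveSpecialLinearGroup (Fin 2) F)).ncard := Nat.card_coe_set_eq _
      have h4 := hcard p₁ hp₁
      omega
    obtain ⟨p₂, hp₂, hne₂⟩ := hex
    refine ⟨pairSubgroup p₁.1 p₁.2 (sq_of_order_two' hp₁.1) (sq_of_order_two' hp₁.2.1) hp₁.2.2.2,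
      pairSubgroup p₂.1 p₂.2 (sq_of_order_two' hp₂.1) (sq_of_order_two' hp₂.2.1) hp₂.2.2.2,
      pairSubgroup_klein _ _ _ _ _ (ne_one_of_order_two hp₁.1)
        (ne_one_of_order_two hp₁.2.1) hp₁.2.2.1,
      pairSubgroup_klein _ _ _ _ _ (ne_one_of_order_two hp₂.1)
        (ne_one_of_order_two hp₂.2.1) hp₂.2.2.1, ?_, ?_⟩
    · rintro ⟨g, hg⟩
      apply hne₂
      have hc : p₂.1 ∈ pairSubgroup p₂.1 p₂.2 (sq_of_order_two' hp₂.1) (sq_of_order_two' hp₂.2.1)
          hp₂.2.2.2 := Or.inr (Or.inl rfl)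
      have hd : p₂.2 ∈ pairSubgroup p₂.1 p₂.2 (sq_of_order_two' hp₂.1) (sq_of_order_two' hp₂.2.1)
          hp₂.2.2.2 := Or.inr (Or.inr (Or.inl rfl))
      rw [hg, Subgroup.mem_map] at hc hd
      obtain ⟨c, hcV, hc'⟩ := hc
      obtain ⟨d, hdV, hd'⟩ := hd
      have hc1 : c ≠ 1 := by
        rintro rfl
        rw [map_one] at hc'
        exact ne_one_of_order_two hp₂.1 hc'.symm
      have hd1 : d ≠ 1 := by
        rintro rfl
        rw [map_one] at hd'
        exact ne_one_of_order_two hp₂.2.1 hd'.symm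
      have hcd : c ≠ d := by
        rintro rfl
        exact hp₂.2.2.1 (hc'.symm.trans hd')
      have h6 := six_pairs h2 hsq2 p₁ hp₁ c d hcV hdV hc1 hd1 hcd
      exact orb_trans h6 ⟨g, Prod.ext hc'.symm hd'.symm⟩
    · intro W hW
      obtain ⟨c, d, hr, rfl⟩ := klein_has_pair W hW
      rcases two_orbits p₁ p₂ hp₁ hp₂ hne₂ (hcard _ hp₁) (hcard _ hp₂) hP (c, d) hr with h | h
      · left
        exact conj_of_orb hp₁ h hr
      · right
        exact conj_of_orb hp₂ h hr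

end Cfsg.Agent.S0808
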