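import Cfsg.Statements.S0751
import Mathlib
import Cfsg.Agent.Lib.helper6.Witt

set_option autoImplicit false
open Cfsg

namespace Cfsg.Agent.S0751

open Cfsg.Agent.Lib.helper6.Witt

theorem trace_surj {F : Type*} [Field F] (σ : F →+* F) (hσ : σ ≠ RingHom.id F)
    (hσ2 : ∀ a : F, σ (σ a) = a) (t : F) (ht : σ t = t) : ∃ c, t = c + 1 * σ c := by
  have hex : ∃ a₀, a₀ + σ a₀ ≠ 0 := by
    by_contra hcon
    push Not at hcon
    have hneg : ∀ a, σ a = -a := fun a => by
      have := hcon a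
      linear_combination this
    have h1 : (1 : F) = -1 := by
      have := hneg 1
      rw [map_one] at this
      exact this
    apply hσ
    ext a
    rw [hneg a, RingHom.id_apply]
    have : -a = (-1) * a := by ring
    rw [this, ← h1, one_mul]
  obtain ⟨a₀, ha₀⟩ := hex
  have hT : σ (a₀ + σ a₀) = a₀ + σ a₀ := by rw [map_add, hσ2]; ring
  refine ⟨t * a₀ / (a₀ + σ a₀), ?_⟩
  rw [map_div₀, map_mul, ht, hT]
  field_simp

theorem main {F V : Type*} [Field F] [AddCommGroup V] [Module F V] [FiniteDimensional F V] (σ : F →+* F) (hσ : σ ≠ RingHom.id F) (hσ2 : ∀ a : F, σ (σ a) = a) (B : V →ₛₗ[σ] V →ₗ[F] F) (hS : B.IsSymm) (hB : B.Nondegenerate) (X Y : Submodule F V) (φ : X ≃ₗ[F] Y) (hφ : ∀ x x' : X, B (φ x : V) (φ x' : V) = B (x : V) (x' : V)) : ∃ g : V ≃ₗ[F] V, (∀ u v : V, B (g u) (g v) = B u v) ∧ ∀ x : X, g (x : V) = (φ x : V) := by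
  have h : EpsHerm σ 1 B := by
    refine ⟨hσ2, by ring, map_one σ, ?_, ?_, hB.2⟩
    · intro x y
      rw [hS.eq, one_mul]
    · intro x
      exact trace_surj σ hσ hσ2 _ (hS.eq x x)
  exact witt_sesq h X Y φ hφ


/-- Witt's Lemma for Hermitian forms. Let σ be a non-identity involutive automorphism of a finite field F and B a non-degenerate σ-sesquilinear form on a finite-dimensional F-space V which is conjugate-symmetric (σ (B x y) = B y x). Then every linear equivalence between subspaces X, Y of V preserving B extends to a B-preserving linear automorphism of V. -/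
theorem result {F V : Type*} [Field F] [Finite F] [AddCommGroup V] [Module F V] [FiniteDimensional F V] (σ : F →+* F) (hσ : σ ≠ RingHom.id F) (hσ2 : ∀ a : F, σ (σ a) = a) (B : V →ₛₗ[σ] V →ₗ[F] F) (hS : B.IsSymm) (hB : B.Nondegenerate) (X Y : Submodule F V) (φ : X ≃ₗ[F] Y) (hφ : ∀ x x' : X, B (φ x : V) (φ x' : V) = B (x : V) (x' : V)) : ∃ g : V ≃ₗ[F] V, (∀ u v : V, B (g u) (g v) = B u v) ∧ ∀ x : X, g (x : V) = (φ x : V) := by
  exact main σ hσ hσ2 B hS hB X Y φ hφ

end Cfsg.Agent.S0751
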