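import Cfsg.Statements.S0755
import Mathlib

set_option autoImplicit false
open Cfsg

namespace Cfsg.Agent.S0755

theorem norm_surj {F : Type*} [Field F] [Finite F] (σ : F →+* F) (hσ : σ ≠ RingHom.id F)
    (hσ2 : ∀ a : F, σ (σ a) = a) (c : F) (hc : σ c = c) : ∃ a : F, σ a * a = c := by
  classical
  by_cases h2 : ringChar F = 2
  · obtain ⟨x, hx⟩ := FiniteField.isSquare_of_char_two h2 c
    have hchar : CharP F 2 := by
      have := ringChar.charP F
      rwa [h2] at this
    have hsx : σ x = x := by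
      have h1 : σ x * σ x = x * x := by rw [← map_mul, ← hx, hc]
      have h3 : (σ x - x) ^ 2 = 0 := by
        rw [sub_sq]
        have h4 : (2 : F) = 0 := CharTwo.two_eq_zero
        have : σ x ^ 2 - 2 * σ x * x + x ^ 2 = σ x * σ x + x * x - 2 * (σ x * x) := by ring
        rw [this, h1, h4, zero_mul, sub_zero]
        exact CharTwo.add_self_eq_zero _
      exact sub_eq_zero.mp (pow_eq_zero_iff (two_ne_zero) |>.mp h3)
    exact ⟨x, by rw [hsx, hx]⟩
  · -- odd characteristic
    have hex : ∃ x, σ x ≠ x := by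
      by_contra hcon
      push Not at hcon
      exact hσ (RingHom.ext hcon)
    obtain ⟨x, hx⟩ := hex
    set θ := x - σ x with hθ
    have hθ0 : θ ≠ 0 := fun h => hx (sub_eq_zero.mp h).symm
    have hsθ : σ θ = -θ := by rw [hθ, map_sub, hσ2]; ring
    let F₀ : Subfield F := RingHom.eqLocusField σ (RingHom.id F)
    have hmem : ∀ y : F, y ∈ F₀ ↔ σ y = y := fun y => Iff.rfl
    have : Fintype F₀ := Fintype.ofFinite _
    have : Fintype F := Fintype.ofFinite _
    have hodd : Fintype.card F₀ % 2 = 1 := by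
      apply FiniteField.odd_card_of_char_ne_two
      intro h
      apply h2
      have h1 : CharP F₀ 2 := by
        have := ringChar.charP F₀
        rwa [h] at this
      have : CharP F 2 := (RingHom.charP_iff (algebraMap F₀ F) (algebraMap F₀ F).injective 2).mp h1
      exact ringChar.eq F 2
    have hδ : θ ^ 2 ∈ F₀ := by
      rw [hmem, map_pow, hsθ]; ring
    have hc' : c ∈ F₀ := hc
    let δ : F₀ := ⟨θ ^ 2, hδ⟩
    let c₀ : F₀ := ⟨c, hc'⟩
    have hδ0 : -δ ≠ 0 := by
      intro h
      have : δ = 0 := neg_eq_zero.mp h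
      have : (δ : F) = 0 := by rw [this]; rfl
      exact hθ0 (pow_eq_zero_iff two_ne_zero |>.mp this)
    have hf : (Polynomial.C (1 : F₀) * Polynomial.X ^ 2 + Polynomial.C 0 * Polynomial.X + Polynomial.C 0).degree = 2 :=
      Polynomial.degree_quadratic one_ne_zero
    have hg : (Polynomial.C (-δ) * Polynomial.X ^ 2 + Polynomial.C 0 * Polynomial.X + Polynomial.C (-c₀)).degree = 2 :=
      Polynomial.degree_quadratic hδ0
    obtain ⟨a, b, hab⟩ := FiniteField.exists_root_sum_quadratic hf hg hodd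
    simp only [Polynomial.eval_add, Polynomial.eval_mul, Polynomial.eval_C, Polynomial.eval_pow,
      Polynomial.eval_X, zero_mul, add_zero, one_mul] at hab
    have hab' : (a : F) ^ 2 + (-(θ ^ 2) * (b : F) ^ 2 + -c) = 0 := by
      have := congrArg (fun z : F₀ => (z : F)) hab
      simpa [δ, c₀] using this
    have ha : σ a = a := a.2
    have hb : σ b = b := b.2
    refine ⟨(a : F) + b * θ, ?_⟩
    rw [map_add, map_mul, ha, hb, hsθ]
    linear_combination hab'

variable {F V : Type*} [Field F] [AddCommGroup V] [Module F V]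

theorem zero_of_aniso (σ : F →+* F) (hσ : σ ≠ RingHom.id F)
    (B : V →ₛₗ[σ] V →ₗ[F] F) (hS : B.IsSymm) (R : Submodule F V) (h0 : ∀ w ∈ R, B w w = 0)
    (x y : V) (hx : x ∈ R) (hy : y ∈ R) : B x y = 0 := by
  have hsum : ∀ x y : V, x ∈ R → y ∈ R → B x y + σ (B x y) = 0 := by
    intro x y hx hy
    have := h0 (x + y) (R.add_mem hx hy)
    simp only [map_add, LinearMap.add_apply, h0 x hx, h0 y hy, ← hS.eq x y] at this
    rw [add_comm]
    simpa using this
  have hex : ∃ a, σ a ≠ a := by
    by_contra hcon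
    push Not at hcon
    exact hσ (RingHom.ext hcon)
  obtain ⟨a, ha⟩ := hex
  have h1 := hsum x y hx hy
  have h2 := hsum x (a • y) hx (R.smul_mem a hy)
  rw [map_smul, smul_eq_mul, map_mul] at h2
  have h3 : σ (B x y) = - B x y := by linear_combination h1
  rw [h3] at h2
  have h4 : (a - σ a) * B x y = 0 := by linear_combination h2
  rcases mul_eq_zero.mp h4 with h | h
  · exact absurd (sub_eq_zero.mp h).symm ha
  · exact h

def ON (σ : F →+* F) (B : V →ₛₗ[σ] V →ₗ[F] F) (m : ℕ) (e : Fin m → V) : Prop :=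
  ∀ i j, B (e i) (e j) = if i = j then 1 else 0

theorem ON.li {σ : F →+* F} {B : V →ₛₗ[σ] V →ₗ[F] F} {m : ℕ} {e : Fin m → V} (h : ON σ B m e) :
    LinearIndependent F e := by
  rw [Fintype.linearIndependent_iff]
  intro g hg j
  have := congrArg (fun x => B (e j) x) hg
  simpa [map_sum, h j] using this

theorem ON.bound [FiniteDimensional F V] {σ : F →+* F} {B : V →ₛₗ[σ] V →ₗ[F] F} {m : ℕ}
    {e : Fin m → V} (h : ON σ B m e) : m ≤ Module.finrank F V := by
  have := h.li.fintype_card_le_finrank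
  simpa using this

def ON.perp {σ : F →+* F} (B : V →ₛₗ[σ] V →ₗ[F] F) {m : ℕ} (e : Fin m → V) : Submodule F V where
  carrier := {w | ∀ i, B (e i) w = 0}
  add_mem' := by
    intro a b ha hb i
    simp [map_add, ha i, hb i]
  zero_mem' := by intro i; simp
  smul_mem' := by
    intro c a ha i
    simp [ha i]

theorem ON.extend {σ : F →+* F} {B : V →ₛₗ[σ] V →ₗ[F] F} (hS : B.IsSymm) {m : ℕ} {e : Fin m → V}
    (h : ON σ B m e) (x : V) (hx : ∀ i, B (e i) x = 0) (hxx : B x x = 1) :
    ON σ B (m + 1) (Fin.cons x e) := by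
  have hx' : ∀ i, B x (e i) = 0 := fun i => by rw [← hS.eq, hx i, map_zero]
  intro i j
  refine Fin.cases ?_ (fun i => ?_) i <;> refine Fin.cases ?_ (fun j => ?_) j
  · simp [hxx]
  · simp [hx' j, (Fin.succ_ne_zero j).symm]
  · simp [hx i, Fin.succ_ne_zero i]
  · simp [h i j]

theorem ON.decomp {σ : F →+* F} {B : V →ₛₗ[σ] V →ₗ[F] F} {m : ℕ} {e : Fin m → V}
    (h : ON σ B m e) (v : V) : v - ∑ i, B (e i) v • e i ∈ ON.perp B e := by
  intro j
  simp [map_sub, map_sum, h j]

theorem main [Finite F] [FiniteDimensional F V] (σ : F →+* F) (hσ : σ ≠ RingHom.id F) (hσ2 : ∀ a : F, σ (σ a) = a) (B : V →ₛₗ[σ] V →ₗ[F] F) (hS : B.IsSymm) (hB : B.Nondegenerate) : ∃ b : Module.Basis (Fin (Module.finrank F V)) F V, ∀ i j, B (b i) (b j) = if i = j then 1 else 0 := by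
  classical
  have hex : ∃ m, (∃ e : Fin m → V, ON σ B m e) ∧ ¬ (∃ e : Fin (m + 1) → V, ON σ B (m + 1) e) := by
    by_contra hcon
    push Not at hcon
    have hall : ∀ m, ∃ e : Fin m → V, ON σ B m e := by
      intro m
      induction m with
      | zero => exact ⟨fun i => i.elim0, fun i => i.elim0⟩
      | succ m ih => exact hcon m ih
    obtain ⟨e, h⟩ := hall (Module.finrank F V + 1)
    have := h.bound
    omega
  obtain ⟨m, ⟨e, h⟩, hmax⟩ := hex
  have haniso : ∀ w ∈ ON.perp B e, B w w = 0 := by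
    intro w hw
    by_contra hne
    apply hmax
    have hc : σ (B w w)⁻¹ = (B w w)⁻¹ := by rw [map_inv₀, hS.eq]
    obtain ⟨a, ha⟩ := norm_surj σ hσ hσ2 _ hc
    refine ⟨_, h.extend hS (a • w) ?_ ?_⟩
    · intro i
      rw [map_smul, hw i, smul_zero]
    · rw [map_smul, map_smulₛₗ B, LinearMap.smul_apply, smul_eq_mul, smul_eq_mul, mul_comm a,
        mul_right_comm, ha, inv_mul_cancel₀ hne]
  have hzero := zero_of_aniso σ hσ B hS (ON.perp B e) haniso
  have hperp0 : ∀ x ∈ ON.perp B e, x = 0 := by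
    intro x hx
    apply hB.1
    intro v
    have hd := h.decomp v
    have hv : v = (v - ∑ i, B (e i) v • e i) + ∑ i, B (e i) v • e i := by abel
    rw [hv, map_add, hzero x _ hx hd, map_sum]
    have : ∀ i, B x (e i) = 0 := fun i => by rw [← hS.eq, hx i, map_zero]
    simp [this]
  have hsp : ⊤ ≤ Submodule.span F (Set.range e) := by
    intro v _
    have hd := hperp0 _ (h.decomp v)
    have hv : v = ∑ i, B (e i) v • e i := sub_eq_zero.mp hd
    rw [hv]
    exact Submodule.sum_mem _ (fun j _ => Submodule.smul_mem _ _ (Submodule.subset_span ⟨j, rfl⟩))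
  have hm : m = Module.finrank F V := by
    have := Module.finrank_eq_card_basis (Module.Basis.mk h.li hsp)
    simpa using this.symm
  subst hm
  refine ⟨Module.Basis.mk h.li hsp, ?_⟩
  intro i j
  simp only [Module.Basis.mk_apply]
  exact h i j


/-- Classification of Hermitian forms over finite fields: if σ is a non-identity involutive automorphism of the finite field F and B is a non-degenerate conjugate-symmetric σ-sesquilinear form on the finite-dimensional space V, then V has a B-orthonormal basis. -/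
theorem result {F V : Type*} [Field F] [Finite F] [AddCommGroup V] [Module F V] [FiniteDimensional F V] (σ : F →+* F) (hσ : σ ≠ RingHom.id F) (hσ2 : ∀ a : F, σ (σ a) = a) (B : V →ₛₗ[σ] V →ₗ[F] F) (hS : B.IsSymm) (hB : B.Nondegenerate) : ∃ b : Module.Basis (Fin (Module.finrank F V)) F V, ∀ i j, B (b i) (b j) = if i = j then 1 else 0 := by
  exact main σ hσ hσ2 B hS hB

end Cfsg.Agent.S0755
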