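import Cfsg.Statements.S0779
import Mathlib

set_option autoImplicit false
open Cfsg

namespace Cfsg.Agent.S0779

theorem exists_frob {F : Type*} [Field F] [Fintype F] {q : ℕ} (hF : Fintype.card F = q ^ 2) :
    ∃ φ : F →+* F, (∀ x, φ x = x ^ q) ∧ ∀ x, φ (φ x) = x := by
  obtain ⟨p, hchar, k, hp, hk⟩ := FiniteField.card' F
  have hq : q ∣ p ^ (k : ℕ) := by
    rw [← hk, hF]; exact Dvd.intro_left (q ^ 1) (by ring)
  obtain ⟨j, -, hj⟩ := (Nat.dvd_prime_pow hp).mp hq
  haveI : Fact p.Prime := ⟨hp⟩
  refine ⟨iterateFrobenius F p j, ?_, ?_⟩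
  · intro x
    rw [iterateFrobenius_def, hj]
  · intro x
    rw [iterateFrobenius_def, iterateFrobenius_def, ← hj, ← pow_mul, ← sq, ← hF]
    exact FiniteField.pow_card x

theorem herm_eq {F : Type*} [Field F] (φ : F →+* F) {q : ℕ} (hφ : ∀ x, φ x = x ^ q) (n : ℕ)
    (u v : Fin n → F) : Cfsg.hermForm n F q u v = ∑ i, u i * φ (v i) := by
  unfold Cfsg.hermForm
  simp only [hφ]

theorem utv_mulVec {F : Type*} [Field F] (n q : ℕ) (v : Fin n → F) (c : F) (x : Fin n → F) :
    (Cfsg.unitaryTransvection n q v c).mulVec x = x + (c * Cfsg.hermForm n F q x v) • v := by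
  unfold Cfsg.unitaryTransvection Cfsg.hermForm
  rw [Matrix.add_mulVec, Matrix.one_mulVec, Matrix.smul_mulVec, Matrix.vecMulVec_mulVec,
    op_smul_eq_smul, smul_smul]
  congr 3
  unfold dotProduct
  apply Finset.sum_congr rfl
  intro i _
  ring

/-- Unitary transvections: let |F| = q², h the standard Hermitian form Σ x_i y_i^q and v ≠ 0 with h(v, v) = 0. The linear map x ↦ x + c h(x, v) v is an isometry of h if and only if c = 0 or c^(q−1) = −1. -/
theorem result {F : Type*} [Field F] [Fintype F] {q : ℕ} (hF : Fintype.card F = q ^ 2) (n : ℕ) (v : Fin n → F) (hv : v ≠ 0) (hv0 : Cfsg.hermForm n F q v v = 0) (c : F) : (∀ x y : Fin n → F, Cfsg.hermForm n F q ((Cfsg.unitaryTransvection n q v c).mulVec x) ((Cfsg.unitaryTransvection n q v c).mulVec y) = Cfsg.hermForm n F q x y) ↔ (c = 0 ∨ c ^ (q - 1) = -1) := by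
  obtain ⟨φ, hφ, hφ2⟩ := exists_frob hF
  have hq1 : 1 ≤ q := by
    rcases Nat.eq_zero_or_pos q with h | h
    · rw [h] at hF
      have : 0 < Fintype.card F := Fintype.card_pos
      omega
    · exact h
  have key : ∀ x y : Fin n → F,
      Cfsg.hermForm n F q ((Cfsg.unitaryTransvection n q v c).mulVec x)
        ((Cfsg.unitaryTransvection n q v c).mulVec y)
      = Cfsg.hermForm n F q x y + (c ^ q + c) * (Cfsg.hermForm n F q x v * Cfsg.hermForm n F q v y) := by
    intro x y
    have hyv : φ (Cfsg.hermForm n F q y v) = Cfsg.hermForm n F q v y := by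
      rw [herm_eq φ hφ, herm_eq φ hφ, map_sum]
      apply Finset.sum_congr rfl
      intro i _
      rw [map_mul, hφ2, mul_comm]
    rw [utv_mulVec, utv_mulVec]
    rw [herm_eq φ hφ n (x + _) _]
    simp only [Pi.add_apply, Pi.smul_apply, smul_eq_mul, map_add, map_mul, hyv]
    have h1 : ∑ i, (x i + c * Cfsg.hermForm n F q x v * v i) * (φ (y i) + φ c * Cfsg.hermForm n F q v y * φ (v i))
        = (∑ i, x i * φ (y i)) + φ c * Cfsg.hermForm n F q v y * (∑ i, x i * φ (v i))
          + c * Cfsg.hermForm n F q x v * (∑ i, v i * φ (y i))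
          + c * Cfsg.hermForm n F q x v * (φ c * Cfsg.hermForm n F q v y) * (∑ i, v i * φ (v i)) := by
      simp only [Finset.mul_sum, ← Finset.sum_add_distrib]
      apply Finset.sum_congr rfl
      intro i _
      ring
    rw [h1, ← herm_eq φ hφ, ← herm_eq φ hφ, ← herm_eq φ hφ, ← herm_eq φ hφ, hv0, hφ c]
    ring
  have hex : ∃ i, v i ≠ 0 := by
    by_contra h
    push Not at h
    exact hv (funext h)
  obtain ⟨i, hi⟩ := hex
  have hx : Cfsg.hermForm n F q (Pi.single i 1) v ≠ 0 := by
    unfold Cfsg.hermForm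
    simp [Pi.single_apply, hi]
  have hy : Cfsg.hermForm n F q v (Pi.single i 1) ≠ 0 := by
    unfold Cfsg.hermForm
    have : ∀ j, v j * (Pi.single i (1 : F) : Fin n → F) j ^ q = if j = i then v j else 0 := by
      intro j
      by_cases hji : j = i
      · subst hji; simp
      · simp [Pi.single_apply, hji, Nat.pos_iff_ne_zero.mp hq1]
    simp only [this]
    simp [hi]
  have hcq : c ^ q + c = 0 ↔ (c = 0 ∨ c ^ (q - 1) = -1) := by
    have : c ^ q = c * c ^ (q - 1) := by
      rw [← pow_succ']; congr 1; omega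
    rw [this]
    constructor
    · intro h
      by_cases hc : c = 0
      · exact Or.inl hc
      · right
        have h2 : c * (c ^ (q - 1) + 1) = 0 := by linear_combination h
        rcases mul_eq_zero.mp h2 with h3 | h3
        · exact absurd h3 hc
        · exact eq_neg_of_add_eq_zero_left h3
    · rintro (h | h)
      · rw [h]; simp
      · rw [h]; ring
  rw [← hcq]
  constructor
  · intro h
    have := h (Pi.single i 1) (Pi.single i 1)
    rw [key] at this
    have h2 : (c ^ q + c) * (Cfsg.hermForm n F q (Pi.single i 1) v * Cfsg.hermForm n F q v (Pi.single i 1)) = 0 := by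
      linear_combination this
    rcases mul_eq_zero.mp h2 with h3 | h3
    · exact h3
    · exact absurd h3 (mul_ne_zero hx hy)
  · intro h x y
    rw [key, h, zero_mul, add_zero]

end Cfsg.Agent.S0779
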