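import Cfsg.Statements.S0989
import Mathlib
import Cfsg.Agent.Lib.helper8.SubgroupCard
import Cfsg.Agent.Lib.helper8.CountOrder

set_option autoImplicit false
open Cfsg

namespace Cfsg.Agent.S0989

open Subgroup Equiv
open Cfsg.Agent.Lib.helper8

theorem result {α : Type*} [Fintype α] [DecidableEq α] (p : ℕ) [Fact p.Prime] (hα : Fintype.card α = p ∨ Fintype.card α = p + 1) (P : Sylow p (Equiv.Perm α)) : Nat.card ↥(Subgroup.normalizer ((P : Subgroup (Equiv.Perm α)) : Set (Equiv.Perm α))) = p * (p - 1) := by
  classical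
  have hpp : p.Prime := Fact.out
  have hp2 := hpp.two_le
  obtain ⟨n, hn⟩ : ∃ n, n = Fintype.card α := ⟨_, rfl⟩
  rw [← hn] at hα
  have hcard : Nat.card (Perm α) = n.factorial := by
    rw [Nat.card_eq_fintype_card, Fintype.card_perm, hn]
  have hnp : n - p ≤ 1 := by omega
  have hpn : p ≤ n := by omega
  have hn2p : n < 2 * p := by omega
  have hpm1 : ¬ p ∣ (p - 1).factorial := by
    rw [hpp.dvd_factorial]; omega
  have hpfac : p.factorial = p * (p - 1).factorial := by
    obtain ⟨k, rfl⟩ : ∃ k, p = k + 1 := ⟨p - 1, by omega⟩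
    rw [Nat.factorial_succ, Nat.add_sub_cancel]
  obtain ⟨m, hm, hmp⟩ : ∃ m, n.factorial = p * m ∧ ¬ p ∣ m := by
    rcases hα with h | h
    · exact ⟨(p - 1).factorial, by rw [h, hpfac], hpm1⟩
    · refine ⟨(p + 1) * (p - 1).factorial, by rw [h, Nat.factorial_succ, hpfac]; ring, ?_⟩
      intro hd
      rcases (Nat.Prime.dvd_mul hpp).mp hd with h1 | h1
      · have : p ∣ 1 := (Nat.dvd_add_right (dvd_refl p)).mp h1
        have := Nat.le_of_dvd one_pos this
        omega
      · exact hpm1 h1
  have hiff : ∀ g : Perm α, orderOf g = p ↔ g.cycleType = {p} := by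
    intro g
    constructor
    · intro hg
      have hc : g.IsCycle := Equiv.Perm.isCycle_of_prime_order' (hg ▸ hpp) (by rw [hg, ← hn]; exact hn2p)
      rw [hc.cycleType, ← hc.orderOf, hg]
    · intro hg
      rw [← Equiv.Perm.lcm_cycleType, hg, Multiset.lcm_singleton]
      simp
  have hcount : Nat.card {g : Perm α // orderOf g = p} * p = n.factorial := by
    have h1 := Equiv.Perm.card_of_cycleType_mul_eq α ({p} : Multiset ℕ)
    rw [if_pos (by simp [← hn]; omega)] at h1
    have h2 : Nat.card {g : Perm α // orderOf g = p} =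
        (Finset.univ.filter (fun g : Perm α => g.cycleType = {p})).card := by
      rw [Nat.card_eq_fintype_card, Fintype.card_subtype]
      congr 1
      ext g
      simp only [Finset.mem_filter, Finset.mem_univ, true_and]
      exact hiff g
    rw [h2]
    rw [← hn] at h1
    have h3 : (n - p).factorial = 1 := by
      interval_cases (n - p) <;> rfl
    simp only [Multiset.sum_singleton, Multiset.prod_singleton, Multiset.toFinset_singleton,
      Finset.prod_singleton, Multiset.count_singleton_self, Nat.factorial_one, mul_one] at h1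
    rw [h3, one_mul] at h1
    exact h1
  have hG : Nat.card (Perm α) = p * m := by rw [hcard, hm]
  have h8c := h8_card_orderOf_eq_prime p m hG hmp
  have hN := h8_card_normalizer_sylow p P
  rw [hcard] at hN
  rw [h8c] at hcount
  have hnpos : 0 < Nat.card (Sylow p (Perm α)) := Nat.card_pos
  have : Nat.card (Sylow p (Perm α)) * (Nat.card ↥(normalizer ((P : Subgroup (Perm α)) : Set (Perm α)))) =
      Nat.card (Sylow p (Perm α)) * (p * (p - 1)) := by
    rw [mul_comm, hN, ← hcount]; ring
  exact Nat.eq_of_mul_eq_mul_left hnpos this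

end Cfsg.Agent.S0989
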