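import Mathlib
import Cfsg.Statements.S0672

set_option autoImplicit false
open Cfsg

namespace Cfsg.Agent.S0672

section
variable {G : Type*} [Group G] {K : Type*} [Field K] {Ω : Type*} [Fintype Ω] [DecidableEq Ω]
  [MulAction G Ω]

noncomputable def Tk (κ : Ω → Set.powersetCard Ω 2 → K) :
    (Ω → K) →ₗ[K] (Set.powersetCard Ω 2 → K) where
  toFun f := fun Q => ∑ x, κ x Q * f x
  map_add' f₁ f₂ := by
    funext Q
    simp only [Pi.add_apply, mul_add, Finset.sum_add_distrib]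
  map_smul' c f := by
    funext Q
    simp only [Pi.smul_apply, smul_eq_mul, RingHom.id_apply, Finset.mul_sum]
    apply Finset.sum_congr rfl
    intro x _
    ring

theorem Tk_apply (κ : Ω → Set.powersetCard Ω 2 → K) (f : Ω → K) (Q : Set.powersetCard Ω 2) :
    Tk κ f Q = ∑ x, κ x Q * f x := rfl

theorem claim
    (h : ∀ f : Representation.IntertwiningMap (Cfsg.permSumZero K G Ω).toRepresentation
      (Cfsg.permRep K G (Set.powersetCard Ω 2)),
      (∀ v : (Cfsg.permSumZero K G Ω).toSubmodule,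
        (v : Ω → K) ∈ (Cfsg.permConstants K G Ω).toSubmodule → f v = 0) → f = 0)
    (κ : Ω → Set.powersetCard Ω 2 → K)
    (hinv : ∀ (g : G) (x : Ω) (Q : Set.powersetCard Ω 2), κ (g • x) (g • Q) = κ x Q)
    (hsum : ∀ Q, ∑ x, κ x Q = 0) : ∀ x y Q, κ x Q = κ y Q := by
  have hF : ∀ (g : G) (v : (Cfsg.permSumZero K G Ω).toSubmodule),
      ((Tk κ).comp (Submodule.subtype _)) ((Cfsg.permSumZero K G Ω).toRepresentation g v) =
      Cfsg.permRep K G (Set.powersetCard Ω 2) g (((Tk κ).comp (Submodule.subtype _)) v) := by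
    intro g v
    funext Q
    show (∑ x, κ x Q * (v : Ω → K) (g⁻¹ • x)) = ∑ x, κ x (g⁻¹ • Q) * (v : Ω → K) x
    apply Fintype.sum_equiv (MulAction.toPerm g⁻¹)
    intro x
    rw [MulAction.toPerm_apply, hinv]
  have h0 := h (((Tk κ).comp (Submodule.subtype _)).intertwiningMap_of_isIntertwiningMap _ _ hF)
    (by
      intro v hv
      have hv' : (v : Ω → K) ∈ Submodule.span K {fun _ : Ω => (1 : K)} := hv
      obtain ⟨c, hc⟩ := Submodule.mem_span_singleton.mp hv'
      funext Q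
      show (∑ x, κ x Q * (v : Ω → K) x) = 0
      rw [← hc]
      simp only [Pi.smul_apply, smul_eq_mul, mul_one]
      rw [← Finset.sum_mul, hsum, zero_mul])
  intro x y Q
  have hmem : (Pi.single x (1 : K) - Pi.single y (1 : K) : Ω → K) ∈
      (Cfsg.permSumZero K G Ω).toSubmodule := by
    show ∑ z, (Pi.single x (1 : K) - Pi.single y (1 : K) : Ω → K) z = 0
    simp only [Pi.sub_apply, Finset.sum_sub_distrib]
    rw [Finset.sum_pi_single', Finset.sum_pi_single']
    simp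
  have h1 := congrArg (fun f => f ⟨_, hmem⟩ Q) h0
  have h2 : (∑ z, κ z Q * (Pi.single x (1 : K) - Pi.single y (1 : K) : Ω → K) z) = 0 := h1
  simp only [Pi.sub_apply, mul_sub, Finset.sum_sub_distrib, Pi.single_apply, mul_ite, mul_one,
    mul_zero, Finset.sum_ite_eq', Finset.mem_univ, if_true] at h2
  exact sub_eq_zero.mp h2

open Classical in
noncomputable def ind (G : Type*) [Group G] (K : Type*) [Field K] {Ω : Type*} [DecidableEq Ω]
    [MulAction G Ω] (c : Ω) (P : Set.powersetCard Ω 2) : Ω → Set.powersetCard Ω 2 → K :=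
  fun x Q => if ∃ g : G, g • c = x ∧ g • P = Q then 1 else 0

theorem ind_pos (c : Ω) (P : Set.powersetCard Ω 2) (x : Ω) (Q : Set.powersetCard Ω 2)
    (hx : ∃ g : G, g • c = x ∧ g • P = Q) : ind G K c P x Q = 1 := by
  classical
  exact if_pos hx

theorem ind_neg (c : Ω) (P : Set.powersetCard Ω 2) (x : Ω) (Q : Set.powersetCard Ω 2)
    (hx : ¬ ∃ g : G, g • c = x ∧ g • P = Q) : ind G K c P x Q = 0 := by
  classical
  exact if_neg hx

theorem ind_inv (c : Ω) (P : Set.powersetCard Ω 2) (g : G) (x : Ω) (Q : Set.powersetCard Ω 2) :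
    ind G K c P (g • x) (g • Q) = ind G K c P x Q := by
  have hiff : (∃ h : G, h • c = g • x ∧ h • P = g • Q) ↔ (∃ h : G, h • c = x ∧ h • P = Q) := by
    constructor
    · rintro ⟨h, h1, h2⟩
      exact ⟨g⁻¹ * h, by rw [mul_smul, h1, inv_smul_smul], by rw [mul_smul, h2, inv_smul_smul]⟩
    · rintro ⟨h, h1, h2⟩
      exact ⟨g * h, by rw [mul_smul, h1], by rw [mul_smul, h2]⟩
  by_cases hx : ∃ h : G, h • c = x ∧ h • P = Q
  · rw [ind_pos _ _ _ _ hx, ind_pos _ _ _ _ (hiff.mpr hx)]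
  · rw [ind_neg _ _ _ _ hx, ind_neg _ _ _ _ (fun h' => hx (hiff.mp h'))]

theorem ind_sum_inv (c : Ω) (P : Set.powersetCard Ω 2) (g : G) (Q : Set.powersetCard Ω 2) :
    ∑ x, ind G K c P x (g • Q) = ∑ x, ind G K c P x Q := by
  symm
  apply Fintype.sum_equiv (MulAction.toPerm g)
  intro x
  rw [MulAction.toPerm_apply, ind_inv]

open scoped Pointwise in
theorem not_mem_of_smul (P : Set.powersetCard Ω 2) (c a : Ω) (hc : c ∉ (P : Finset Ω))
    (ha : a ∈ (P : Finset Ω)) : ¬ ∃ g : G, g • c = a ∧ g • P = P := by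
  rintro ⟨g, h1, h2⟩
  apply hc
  have h3 : g • (P : Finset Ω) = (P : Finset Ω) := by
    rw [← Set.powersetCard.coe_smul, h2]
  rw [← h3, ← h1] at ha
  exact Finset.smul_mem_smul_finset_iff g |>.mp ha

theorem step1
    (h : ∀ f : Representation.IntertwiningMap (Cfsg.permSumZero K G Ω).toRepresentation
      (Cfsg.permRep K G (Set.powersetCard Ω 2)),
      (∀ v : (Cfsg.permSumZero K G Ω).toSubmodule,
        (v : Ω → K) ∈ (Cfsg.permConstants K G Ω).toSubmodule → f v = 0) → f = 0)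
    (h2 : MulAction.IsMultiplyPretransitive G Ω 2)
    (P : Set.powersetCard Ω 2) (c c' : Ω) (hc : c ∉ (P : Finset Ω)) (hc' : c' ∉ (P : Finset Ω)) :
    ∃ g : G, g • c = c' ∧ g • P = P := by
  by_contra hno
  have htr : MulAction.IsPretransitive G (Set.powersetCard Ω 2) :=
    Set.powersetCard.isPretransitive_of_isMultiplyPretransitive G h2
  have hk : ∀ (d : Ω) (Q : Set.powersetCard Ω 2),
      ∑ x, ind G K d P x Q = ∑ x, ind G K d P x P := by
    intro d Q
    obtain ⟨g, rfl⟩ := MulAction.exists_smul_eq G P Q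
    exact ind_sum_inv d P g P
  have hPne : (P : Finset Ω).Nonempty := by
    rw [← Finset.card_pos, P.2]
    norm_num
  obtain ⟨a, ha⟩ := hPne
  have hno' : ¬ ∃ g : G, g • c' = c ∧ g • P = P := by
    rintro ⟨g, h1, h2'⟩
    apply hno
    refine ⟨g⁻¹, ?_, ?_⟩
    · rw [← h1, inv_smul_smul]
    · conv_lhs => rw [← h2']
      rw [inv_smul_smul]
  have e1 : ind G K c P a P = 0 := ind_neg _ _ _ _ (not_mem_of_smul P c a hc ha)
  have e2 : ind G K c' P a P = 0 := ind_neg _ _ _ _ (not_mem_of_smul P c' a hc' ha)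
  have e3 : ind G K c P c P = 1 := ind_pos _ _ _ _ ⟨1, one_smul _ _, one_smul _ _⟩
  have e4 : ind G K c' P c' P = 1 := ind_pos _ _ _ _ ⟨1, one_smul _ _, one_smul _ _⟩
  have e5 : ind G K c P c' P = 0 := ind_neg _ _ _ _ hno
  have e6 : ind G K c' P c P = 0 := ind_neg _ _ _ _ hno'
  have hκ := claim h
    (fun x Q => (∑ z, ind G K c' P z P) * ind G K c P x Q - (∑ z, ind G K c P z P) * ind G K c' P x Q)
    (by
      intro g x Q
      simp only [ind_inv])
    (by
      intro Q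
      simp only [Finset.sum_sub_distrib, ← Finset.mul_sum]
      rw [hk c Q, hk c' Q]
      ring)
  have h3 := hκ a c P
  have h4 := hκ a c' P
  simp only [e1, e2, e3, e4, e5, e6, mul_zero, mul_one, sub_zero, zero_sub] at h3 h4
  have hκ' := claim h (ind G K c P) (fun g x Q => ind_inv c P g x Q)
    (by
      intro Q
      rw [hk c Q]
      have := neg_eq_zero.mp h4.symm
      exact this)
  have h5 := hκ' a c P
  rw [e1, e3] at h5
  exact zero_ne_one h5

theorem step2 [Finite G] [FaithfulSMul G Ω] (h2 : MulAction.IsMultiplyPretransitive G Ω 2)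
    (heven : ∀ a : Ω, Even (Nat.card (MulAction.stabilizer G a))) (a b : Ω) (hab : a ≠ b) :
    ∃ (u : G) (d : Ω), u • a = b ∧ u • b = a ∧ u • d = d ∧ d ≠ a ∧ d ≠ b := by
  have h2' : ∀ a b c d : Ω, a ≠ b → c ≠ d → ∃ g : G, g • a = c ∧ g • b = d :=
    fun a b c d hab hcd => MulAction.is_two_pretransitive_iff.mp h2 hab hcd
  have hF2 : Fact (Nat.Prime 2) := ⟨Nat.prime_two⟩
  obtain ⟨t, hta, ht1, htt⟩ : ∃ t : G, t • a = a ∧ t ≠ 1 ∧ t * t = 1 := by
    obtain ⟨t, ht⟩ := exists_prime_orderOf_dvd_card' (G := MulAction.stabilizer G a) 2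
      (even_iff_two_dvd.mp (heven a))
    refine ⟨t, t.2, ?_, ?_⟩
    · intro h1
      have : t = 1 := Subtype.ext h1
      rw [this, orderOf_one] at ht
      norm_num at ht
    · have := pow_orderOf_eq_one t
      rw [ht, sq] at this
      exact congrArg Subtype.val this
  obtain ⟨e, he⟩ : ∃ e : Ω, t • e ≠ e := by
    by_contra hall
    push Not at hall
    apply ht1
    exact FaithfulSMul.eq_of_smul_eq_smul (α := Ω) (fun x => by rw [hall x, one_smul])
  have hte' : t • (t • e) = e := by rw [← mul_smul, htt, one_smul]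
  have hae : a ≠ e := by
    rintro rfl
    exact he hta
  have hae' : a ≠ t • e := by
    intro h
    apply hae
    have := hte'
    rw [← h, hta] at this
    exact this
  obtain ⟨g, hg1, hg2⟩ := h2' _ _ _ _ he.symm hab
  have hgi1 : g⁻¹ • a = e := by rw [← hg1, inv_smul_smul]
  have hgi2 : g⁻¹ • b = t • e := by rw [← hg2, inv_smul_smul]
  refine ⟨g * t * g⁻¹, g • a, ?_, ?_, ?_, ?_, ?_⟩
  · rw [mul_smul, mul_smul, hgi1, hg2]
  · rw [mul_smul, mul_smul, hgi2, hte', hg1]
  · rw [mul_smul, mul_smul, inv_smul_smul, hta]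
  · intro h
    apply hae
    apply MulAction.injective g
    show g • a = g • e
    rw [h, hg1]
  · intro h
    apply hae'
    apply MulAction.injective g
    show g • a = g • t • e
    rw [h, hg2]

open scoped Pointwise in
theorem fix_or_swap (a b : Ω) (hab : a ≠ b) (g : G)
    (hg : g • (⟨{a, b}, Set.powersetCard.mem_iff.mpr (Finset.card_pair hab)⟩ :
      Set.powersetCard Ω 2) = ⟨{a, b}, Set.powersetCard.mem_iff.mpr (Finset.card_pair hab)⟩) :
    (g • a = a ∧ g • b = b) ∨ (g • a = b ∧ g • b = a) := by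
  have h3 : g • ({a, b} : Finset Ω) = {a, b} := by
    have := congrArg Subtype.val hg
    rw [Set.powersetCard.coe_smul] at this
    exact this
  have ha : g • a ∈ ({a, b} : Finset Ω) := by
    rw [← h3]
    exact Finset.smul_mem_smul_finset (by simp)
  have hb : g • b ∈ ({a, b} : Finset Ω) := by
    rw [← h3]
    exact Finset.smul_mem_smul_finset (by simp)
  have hne : g • a ≠ g • b := fun h => hab (MulAction.injective g h)
  rw [Finset.mem_insert, Finset.mem_singleton] at ha hb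
  rcases ha with ha | ha <;> rcases hb with hb | hb
  · exact absurd (ha.trans hb.symm) hne
  · exact Or.inl ⟨ha, hb⟩
  · exact Or.inr ⟨ha, hb⟩
  · exact absurd (ha.trans hb.symm) hne

theorem step3 [Finite G] [FaithfulSMul G Ω]
    (h : ∀ f : Representation.IntertwiningMap (Cfsg.permSumZero K G Ω).toRepresentation
      (Cfsg.permRep K G (Set.powersetCard Ω 2)),
      (∀ v : (Cfsg.permSumZero K G Ω).toSubmodule,
        (v : Ω → K) ∈ (Cfsg.permConstants K G Ω).toSubmodule → f v = 0) → f = 0)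
    (h2 : MulAction.IsMultiplyPretransitive G Ω 2)
    (heven : ∀ a : Ω, Even (Nat.card (MulAction.stabilizer G a)))
    (a b : Ω) (hab : a ≠ b) (c c' : Ω) (hca : c ≠ a) (hcb : c ≠ b) (hc'a : c' ≠ a)
    (hc'b : c' ≠ b) : ∃ g : G, g • a = a ∧ g • b = b ∧ g • c = c' := by
  obtain ⟨u, d, hua, hub, hud, hda, hdb⟩ := step2 h2 heven a b hab
  have hmem : ∀ x : Ω, x ≠ a → x ≠ b →
      x ∉ ((⟨{a, b}, Set.powersetCard.mem_iff.mpr (Finset.card_pair hab)⟩ :
        Set.powersetCard Ω 2) : Finset Ω) := by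
    intro x hxa hxb hx
    have hx' : x ∈ ({a, b} : Finset Ω) := hx
    rw [Finset.mem_insert, Finset.mem_singleton] at hx'
    rcases hx' with h' | h'
    · exact hxa h'
    · exact hxb h'
  obtain ⟨g₁, hg₁c, hg₁P⟩ := step1 h h2 _ c d (hmem c hca hcb) (hmem d hda hdb)
  obtain ⟨g₂, hg₂d, hg₂P⟩ := step1 h h2 _ d c' (hmem d hda hdb) (hmem c' hc'a hc'b)
  rcases fix_or_swap a b hab g₁ hg₁P with ⟨h1a, h1b⟩ | ⟨h1a, h1b⟩ <;>
    rcases fix_or_swap a b hab g₂ hg₂P with ⟨h2a, h2b⟩ | ⟨h2a, h2b⟩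
  · refine ⟨g₂ * g₁, ?_, ?_, ?_⟩
    · rw [mul_smul, h1a, h2a]
    · rw [mul_smul, h1b, h2b]
    · rw [mul_smul, hg₁c, hg₂d]
  · refine ⟨g₂ * u * g₁, ?_, ?_, ?_⟩
    · rw [mul_smul, mul_smul, h1a, hua, h2b]
    · rw [mul_smul, mul_smul, h1b, hub, h2a]
    · rw [mul_smul, mul_smul, hg₁c, hud, hg₂d]
  · refine ⟨g₂ * u * g₁, ?_, ?_, ?_⟩
    · rw [mul_smul, mul_smul, h1a, hub, h2a]
    · rw [mul_smul, mul_smul, h1b, hua, h2b]
    · rw [mul_smul, mul_smul, hg₁c, hud, hg₂d]
  · refine ⟨g₂ * g₁, ?_, ?_, ?_⟩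
    · rw [mul_smul, h1a, h2b]
    · rw [mul_smul, h1b, h2a]
    · rw [mul_smul, hg₁c, hg₂d]

end

theorem result {G : Type*} [Group G] [Finite G] {K : Type*} [Field K] {p : ℕ} [Fact p.Prime] [CharP K p] {Ω : Type*} [Fintype Ω] [DecidableEq Ω] [MulAction G Ω] [FaithfulSMul G Ω] (h2 : MulAction.IsMultiplyPretransitive G Ω 2) (hp : p ∣ Fintype.card Ω) (heven : ∀ a : Ω, Even (Nat.card (MulAction.stabilizer G a))) (h : ∀ f : Representation.IntertwiningMap (Cfsg.permSumZero K G Ω).toRepresentation (Cfsg.permRep K G (Set.powersetCard Ω 2)), (∀ v : (Cfsg.permSumZero K G Ω).toSubmodule, (v : Ω → K) ∈ (Cfsg.permConstants K G Ω).toSubmodule → f v = 0) → f = 0) : MulAction.IsMultiplyPretransitive G Ω 3 := by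
  have h2' : ∀ a b c d : Ω, a ≠ b → c ≠ d → ∃ g : G, g • a = c ∧ g • b = d :=
    fun a b c d hab hcd => MulAction.is_two_pretransitive_iff.mp h2 hab hcd
  constructor
  intro x y
  have hx01 : x 0 ≠ x 1 := x.injective.ne (by decide)
  have hx02 : x 0 ≠ x 2 := x.injective.ne (by decide)
  have hx12 : x 1 ≠ x 2 := x.injective.ne (by decide)
  have hy01 : y 0 ≠ y 1 := y.injective.ne (by decide)
  have hy02 : y 0 ≠ y 2 := y.injective.ne (by decide)
  have hy12 : y 1 ≠ y 2 := y.injective.ne (by decide)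
  obtain ⟨g₁, hg0, hg1⟩ := h2' _ _ _ _ hx01 hy01
  obtain ⟨g₂, hga, hgb, hgc⟩ := step3 h h2 heven (y 0) (y 1) hy01 (g₁ • x 2) (y 2)
    (by rw [← hg0]; exact fun h' => hx02 (MulAction.injective g₁ h').symm)
    (by rw [← hg1]; exact fun h' => hx12 (MulAction.injective g₁ h').symm)
    hy02.symm hy12.symm
  refine ⟨g₂ * g₁, ?_⟩
  ext i
  rw [Function.Embedding.smul_apply, mul_smul]
  fin_cases i
  · show g₂ • g₁ • x 0 = y 0
    rw [hg0, hga]
  · show g₂ • g₁ • x 1 = y 1
    rw [hg1, hgb]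
  · show g₂ • g₁ • x 2 = y 2
    rw [hgc]

end Cfsg.Agent.S0672

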