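import Mathlib
import Cfsg.Statements.S0670

set_option autoImplicit false
open Cfsg

namespace Cfsg.Agent.S0670

section
variable {G : Type*} [Group G] [Finite G] {Ω : Type*} [Fintype Ω] [MulAction G Ω]

theorem sylow_transitive {p f : ℕ} [Fact p.Prime] [MulAction.IsPretransitive G Ω]
    (hcard : Fintype.card Ω = p ^ f) (P : Sylow p G) (a b : Ω) :
    ∃ g ∈ (P : Subgroup G), g • a = b := by
  have hS : (MulAction.stabilizer G a).index = p ^ f := by
    rw [MulAction.index_stabilizer_of_transitive, Nat.card_eq_fintype_card, hcard]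
  have hstab : MulAction.stabilizer (P : Subgroup G) a =
      (MulAction.stabilizer G a).subgroupOf (P : Subgroup G) := by
    ext x
    rw [MulAction.mem_stabilizer_iff, Subgroup.mem_subgroupOf, MulAction.mem_stabilizer_iff]
    rfl
  have h1 : (MulAction.stabilizer G a).relIndex (P : Subgroup G) * (P : Subgroup G).index =
      (MulAction.stabilizer G a ⊓ (P : Subgroup G)).index := by
    rw [← Subgroup.inf_relIndex_right]
    exact Subgroup.relIndex_mul_index inf_le_right
  have h2 : (MulAction.stabilizer G a).index ∣ (MulAction.stabilizer G a ⊓ (P : Subgroup G)).index :=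
    Subgroup.index_dvd_of_le inf_le_left
  rw [← h1, hS] at h2
  have hcop : (p ^ f).Coprime (P : Subgroup G).index :=
    Nat.Coprime.pow_left f ((Nat.Prime.coprime_iff_not_dvd Fact.out).mpr P.not_dvd_index)
  have h3 : p ^ f ∣ (MulAction.stabilizer G a).relIndex (P : Subgroup G) :=
    hcop.dvd_of_dvd_mul_right h2
  have h4 : (MulAction.stabilizer (P : Subgroup G) a).index =
      (MulAction.orbit (P : Subgroup G) a).ncard := MulAction.index_stabilizer _ a
  rw [hstab] at h4
  have h5 : (MulAction.orbit (P : Subgroup G) a).ncard ≤ Fintype.card Ω := by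
    rw [← Nat.card_eq_fintype_card, ← Set.ncard_univ]
    exact Set.ncard_le_ncard (Set.subset_univ _)
  have h6 : MulAction.orbit (P : Subgroup G) a = Set.univ := by
    apply Set.eq_of_subset_of_ncard_le (Set.subset_univ _)
    rw [Set.ncard_univ, Nat.card_eq_fintype_card, hcard, ← h4]
    exact Nat.le_of_dvd (Nat.pos_of_ne_zero Subgroup.index_ne_zero_of_finite) h3
  have hb : b ∈ MulAction.orbit (P : Subgroup G) a := by rw [h6]; trivial
  obtain ⟨g, hg⟩ := hb
  exact ⟨g.1, g.2, hg⟩

end

theorem exists_fixed_vector {K : Type*} [Field K] {p : ℕ} [Fact p.Prime] [CharP K p]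
    {V : Type*} [AddCommGroup V] [Module K V] {P : Type*} [Group P] [Finite P]
    (hP : IsPGroup p P) (ρ : Representation K P V) (W : Submodule K V)
    (hinv : ∀ g, ∀ v ∈ W, ρ g v ∈ W) (hW : W ≠ ⊥) :
    ∃ w ∈ W, w ≠ 0 ∧ ∀ g, ρ g w = w := by
  classical
  obtain ⟨w₀, hw₀W, hw₀⟩ := Submodule.exists_mem_ne_zero_of_ne_bot hW
  let : Algebra (ZMod p) K := ZMod.algebra K p
  let : Module (ZMod p) V := Module.compHom V (algebraMap (ZMod p) K)
  have hsm : ∀ (a : ZMod p) (v : V), a • v = (algebraMap (ZMod p) K a) • v := fun _ _ => rfl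
  have hfin : (Set.range fun g : P => ρ g w₀).Finite := Set.finite_range _
  have hAfin : Module.Finite (ZMod p) (Submodule.span (ZMod p) (Set.range fun g : P => ρ g w₀)) :=
    Module.Finite.span_of_finite (ZMod p) hfin
  have hAF : Finite (Submodule.span (ZMod p) (Set.range fun g : P => ρ g w₀)) :=
    Module.finite_of_finite (ZMod p)
  have hAW : ∀ v ∈ Submodule.span (ZMod p) (Set.range fun g : P => ρ g w₀), v ∈ W := by
    intro v hv
    induction hv using Submodule.span_induction with
    | mem x hx =>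
      obtain ⟨g, rfl⟩ := hx
      exact hinv g w₀ hw₀W
    | zero => exact W.zero_mem
    | add x y _ _ hx hy => exact W.add_mem hx hy
    | smul a x _ hx =>
      rw [hsm]
      exact W.smul_mem _ hx
  have hAinv : ∀ g : P, ∀ v ∈ Submodule.span (ZMod p) (Set.range fun g : P => ρ g w₀),
      ρ g v ∈ Submodule.span (ZMod p) (Set.range fun g : P => ρ g w₀) := by
    intro g v hv
    induction hv using Submodule.span_induction with
    | mem x hx =>
      obtain ⟨h, rfl⟩ := hx
      apply Submodule.subset_span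
      refine ⟨g * h, ?_⟩
      show ρ (g * h) w₀ = ρ g (ρ h w₀)
      rw [map_mul]
      rfl
    | zero => rw [map_zero]; exact Submodule.zero_mem _
    | add x y _ _ hx hy => rw [map_add]; exact Submodule.add_mem _ hx hy
    | smul a x _ hx =>
      rw [hsm, map_smul, ← hsm]
      exact Submodule.smul_mem _ a hx
  have hw₀A : w₀ ∈ Submodule.span (ZMod p) (Set.range fun g : P => ρ g w₀) := by
    apply Submodule.subset_span
    refine ⟨1, ?_⟩
    show ρ 1 w₀ = w₀
    rw [map_one]
    rfl
  let : MulAction P (Submodule.span (ZMod p) (Set.range fun g : P => ρ g w₀)) :=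
    { smul := fun g v => ⟨ρ g v.1, hAinv g v.1 v.2⟩
      one_smul := by
        intro v
        apply Subtype.ext
        show ρ 1 v.1 = v.1
        rw [map_one]
        rfl
      mul_smul := by
        intro g h v
        apply Subtype.ext
        show ρ (g * h) v.1 = ρ g (ρ h v.1)
        rw [map_mul]
        rfl }
  have hmod := hP.card_modEq_card_fixedPoints
    (Submodule.span (ZMod p) (Set.range fun g : P => ρ g w₀))
  have hpdvd : p ∣ Nat.card (Submodule.span (ZMod p) (Set.range fun g : P => ρ g w₀)) := by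
    have hne : (⟨w₀, hw₀A⟩ : Submodule.span (ZMod p) (Set.range fun g : P => ρ g w₀)) ≠ 0 := by
      intro h
      exact hw₀ (congrArg Subtype.val h)
    have hpz : p • (⟨w₀, hw₀A⟩ : Submodule.span (ZMod p) (Set.range fun g : P => ρ g w₀)) = 0 := by
      apply Subtype.ext
      show p • w₀ = 0
      have : (p : K) = 0 := CharP.cast_eq_zero K p
      rw [← Nat.cast_smul_eq_nsmul K, this, zero_smul]
    have hord := addOrderOf_eq_prime hpz hne
    have hd := addOrderOf_dvd_natCard
      (⟨w₀, hw₀A⟩ : Submodule.span (ZMod p) (Set.range fun g : P => ρ g w₀))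
    rwa [hord] at hd
  have hdvd2 : p ∣ Nat.card (MulAction.fixedPoints P
      (Submodule.span (ZMod p) (Set.range fun g : P => ρ g w₀))) :=
    (Nat.modEq_zero_iff_dvd.mp ((hmod.symm).trans (Nat.modEq_zero_iff_dvd.mpr hpdvd)))
  have hone : (0 : Submodule.span (ZMod p) (Set.range fun g : P => ρ g w₀)) ∈
      MulAction.fixedPoints P (Submodule.span (ZMod p) (Set.range fun g : P => ρ g w₀)) := by
    intro g
    apply Subtype.ext
    show ρ g 0 = 0
    rw [map_zero]
  have hpos : 0 < Nat.card (MulAction.fixedPoints P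
      (Submodule.span (ZMod p) (Set.range fun g : P => ρ g w₀))) := by
    have : Nonempty (MulAction.fixedPoints P
      (Submodule.span (ZMod p) (Set.range fun g : P => ρ g w₀))) := ⟨⟨0, hone⟩⟩
    exact Nat.card_pos
  have hlt : 1 < Nat.card (MulAction.fixedPoints P
      (Submodule.span (ZMod p) (Set.range fun g : P => ρ g w₀))) :=
    lt_of_lt_of_le (Fact.out : p.Prime).one_lt (Nat.le_of_dvd hpos hdvd2)
  have hnt := Finite.one_lt_card_iff_nontrivial.mp hlt
  obtain ⟨⟨v, hv⟩, hne⟩ := exists_ne (⟨0, hone⟩ : MulAction.fixedPoints P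
      (Submodule.span (ZMod p) (Set.range fun g : P => ρ g w₀)))
  refine ⟨v.1, hAW v.1 v.2, ?_, ?_⟩
  · intro h
    apply hne
    apply Subtype.ext
    apply Subtype.ext
    exact h
  · intro g
    have := hv g
    exact congrArg Subtype.val this

theorem result {G : Type*} [Group G] [Finite G] {K : Type*} [Field K] {p f : ℕ} [Fact p.Prime] [CharP K p] {Ω : Type*} [Fintype Ω] [MulAction G Ω] [MulAction.IsPretransitive G Ω] (hf : 1 ≤ f) (hcard : Fintype.card Ω = p ^ f) (W : Subrepresentation (Cfsg.permRep K G Ω)) (hW : W.toSubmodule ≠ ⊥) : (Cfsg.permConstants K G Ω).toSubmodule ≤ W.toSubmodule := by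
  obtain ⟨P⟩ := (inferInstance : Nonempty (Sylow p G))
  have hPp : IsPGroup p (P : Subgroup G) := P.isPGroup'
  obtain ⟨w, hwW, hw0, hfix⟩ := exists_fixed_vector hPp
    ((Cfsg.permRep K G Ω).comp (P : Subgroup G).subtype) W.toSubmodule
    (fun g v hv => W.apply_mem_toSubmodule g.1 hv) hW
  have hpos : 0 < Fintype.card Ω := by rw [hcard]; exact pow_pos (Fact.out : p.Prime).pos f
  obtain ⟨a⟩ := Fintype.card_pos_iff.mp hpos
  have hconst : ∀ x, w x = w a := by
    intro x
    obtain ⟨g, hgP, hg⟩ := sylow_transitive hcard P x a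
    have h1 := hfix ⟨g, hgP⟩
    have h2 := congrFun h1 a
    have h3 : ((Cfsg.permRep K G Ω).comp (P : Subgroup G).subtype) ⟨g, hgP⟩ w a = w (g⁻¹ • a) := rfl
    have h4 : g⁻¹ • a = x := by rw [← hg, inv_smul_smul]
    rw [h3, h4] at h2
    exact h2
  have hwa : w a ≠ 0 := by
    intro h
    apply hw0
    funext x
    rw [hconst x, h]
    rfl
  show Submodule.span K {fun _ => 1} ≤ W.toSubmodule
  rw [Submodule.span_le, Set.singleton_subset_iff]
  have e : (fun _ : Ω => (1 : K)) = (w a)⁻¹ • w := by
    funext x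
    rw [Pi.smul_apply, hconst x, smul_eq_mul, inv_mul_cancel₀ hwa]
  rw [e]
  exact W.toSubmodule.smul_mem _ hwW

end Cfsg.Agent.S0670
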