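import Mathlib
import Cfsg.Statements.S0671
import Cfsg.Agent.S0670

set_option autoImplicit false
open Cfsg

namespace Cfsg.Agent.S0671

section
variable {G : Type*} [Group G] {K : Type*} [Field K] {Ω : Type*} [Fintype Ω] [MulAction G Ω]

open Classical in
noncomputable def orbT (G : Type*) [Group G] {K : Type*} [Field K] {Ω : Type*} [Fintype Ω]
    [MulAction G Ω] (a b : Ω) : (Ω → K) →ₗ[K] (Ω → K) where
  toFun f := fun x => ∑ y, if (∃ g : G, g • a = x ∧ g • b = y) then f y else 0
  map_add' f₁ f₂ := by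
    funext x
    simp only [Pi.add_apply, ← Finset.sum_add_distrib]
    apply Finset.sum_congr rfl
    intro y _
    split_ifs <;> simp
  map_smul' c f := by
    funext x
    simp only [Pi.smul_apply, smul_eq_mul, RingHom.id_apply, Finset.mul_sum]
    apply Finset.sum_congr rfl
    intro y _
    split_ifs <;> simp

theorem sum_permRep (g : G) (v : Ω → K) : ∑ x, permRep K G Ω g v x = ∑ x, v x :=
  Fintype.sum_equiv (MulAction.toPerm g⁻¹) _ _ (fun x => rfl)

theorem orbT_comm (a b : Ω) (g : G) (v : Ω → K) :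
    orbT G a b (permRep K G Ω g v) = permRep K G Ω g (orbT G a b v) := by
  classical
  funext x
  show (∑ y, if (∃ h : G, h • a = x ∧ h • b = y) then v (g⁻¹ • y) else 0) =
    ∑ y, if (∃ h : G, h • a = g⁻¹ • x ∧ h • b = y) then v y else 0
  apply Fintype.sum_equiv (MulAction.toPerm g⁻¹)
  intro y
  have hiff : (∃ h : G, h • a = x ∧ h • b = y) ↔
      (∃ h : G, h • a = g⁻¹ • x ∧ h • b = g⁻¹ • y) := by
    constructor
    · rintro ⟨h, h1, h2⟩
      exact ⟨g⁻¹ * h, by rw [mul_smul, h1], by rw [mul_smul, h2]⟩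
    · rintro ⟨h, h1, h2⟩
      exact ⟨g * h, by rw [mul_smul, h1, smul_inv_smul], by rw [mul_smul, h2, smul_inv_smul]⟩
  simp only [MulAction.toPerm_apply]
  by_cases hc : ∃ h : G, h • a = x ∧ h • b = y
  · rw [if_pos hc, if_pos (hiff.mp hc)]
  · rw [if_neg hc, if_neg (fun h' => hc (hiff.mpr h'))]

theorem const_of_fixed [MulAction.IsPretransitive G Ω] (w : Ω → K)
    (hw : ∀ g : G, permRep K G Ω g w = w) (x y : Ω) : w x = w y := by
  obtain ⟨g, rfl⟩ := MulAction.exists_smul_eq G x y
  have h1 := congrFun (hw g) (g • x)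
  have h2 : permRep K G Ω g w (g • x) = w (g⁻¹ • g • x) := rfl
  rw [h2, inv_smul_smul] at h1
  exact h1

theorem key {p f : ℕ} [Fact p.Prime] [CharP K p] [Finite G] [MulAction.IsPretransitive G Ω]
    (hf : 1 ≤ f) (hcard : Fintype.card Ω = p ^ f)
    (h : ∀ W W' : Subrepresentation (Cfsg.permRep K G Ω),
      (Cfsg.permConstants K G Ω).toSubmodule ≤ W.toSubmodule →
      W.toSubmodule < W'.toSubmodule →
      W'.toSubmodule ≤ (Cfsg.permSumZero K G Ω).toSubmodule →
      ∃ g : G, ∃ v ∈ W'.toSubmodule, Cfsg.permRep K G Ω g v - v ∉ W.toSubmodule)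
    (φ : (Ω → K) →ₗ[K] (Ω → K))
    (hφ : ∀ g v, φ (permRep K G Ω g v) = permRep K G Ω g (φ v))
    (h1 : φ (fun _ => 1) = 0) :
    ∃ c : K, ∀ v : Ω → K, φ v = fun _ => c * ∑ x, v x := by
  classical
  have hpos : 0 < Fintype.card Ω := by rw [hcard]; exact pow_pos (Fact.out : p.Prime).pos f
  obtain ⟨a₀⟩ := Fintype.card_pos_iff.mp hpos
  have hcard0 : ((Fintype.card Ω : ℕ) : K) = 0 := by
    rw [hcard, Nat.cast_pow, CharP.cast_eq_zero K p, zero_pow (by omega)]
  have hmemC : ∀ v : Ω → K, v ∈ (permConstants K G Ω).toSubmodule ↔ ∃ c : K, v = fun _ => c := by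
    intro v
    show v ∈ Submodule.span K {fun _ => (1 : K)} ↔ _
    rw [Submodule.mem_span_singleton]
    constructor
    · rintro ⟨c, rfl⟩
      exact ⟨c, by funext x; simp⟩
    · rintro ⟨c, rfl⟩
      exact ⟨c, by funext x; simp⟩
  have hmemZ : ∀ v : Ω → K, v ∈ (permSumZero K G Ω).toSubmodule ↔ ∑ x, v x = 0 := fun v => Iff.rfl
  have hCZ : (permConstants K G Ω).toSubmodule ≤ (permSumZero K G Ω).toSubmodule := by
    intro v hv
    obtain ⟨c, rfl⟩ := (hmemC v).mp hv
    rw [hmemZ]
    rw [Finset.sum_const, Finset.card_univ, nsmul_eq_mul, hcard0, zero_mul]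
  let W : Subrepresentation (permRep K G Ω) :=
    { toSubmodule := LinearMap.ker φ ⊓ (permSumZero K G Ω).toSubmodule
      apply_mem_toSubmodule := by
        intro g v hv
        obtain ⟨hv1, hv2⟩ := Submodule.mem_inf.mp hv
        refine Submodule.mem_inf.mpr ⟨?_, (permSumZero K G Ω).apply_mem_toSubmodule g hv2⟩
        rw [LinearMap.mem_ker] at hv1 ⊢
        rw [hφ, hv1, map_zero] }
  let W' : Subrepresentation (permRep K G Ω) :=
    { toSubmodule := (permConstants K G Ω).toSubmodule.comap φ ⊓ (permSumZero K G Ω).toSubmodule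
      apply_mem_toSubmodule := by
        intro g v hv
        obtain ⟨hv1, hv2⟩ := Submodule.mem_inf.mp hv
        refine Submodule.mem_inf.mpr ⟨?_, (permSumZero K G Ω).apply_mem_toSubmodule g hv2⟩
        rw [Submodule.mem_comap] at hv1 ⊢
        rw [hφ]
        exact (permConstants K G Ω).apply_mem_toSubmodule g hv1 }
  have hCW : (permConstants K G Ω).toSubmodule ≤ W.toSubmodule := by
    intro v hv
    refine Submodule.mem_inf.mpr ⟨?_, hCZ hv⟩
    obtain ⟨c, rfl⟩ := (hmemC v).mp hv
    rw [LinearMap.mem_ker]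
    have : (fun _ : Ω => c) = c • (fun _ : Ω => (1 : K)) := by funext x; simp
    rw [this, map_smul, h1, smul_zero]
  have hWW' : W.toSubmodule ≤ W'.toSubmodule := by
    intro v hv
    obtain ⟨hv1, hv2⟩ := Submodule.mem_inf.mp hv
    refine Submodule.mem_inf.mpr ⟨?_, hv2⟩
    rw [Submodule.mem_comap, LinearMap.mem_ker.mp hv1]
    exact Submodule.zero_mem _
  have hW'W : W'.toSubmodule ≤ W.toSubmodule := by
    by_contra hne
    have hlt : W.toSubmodule < W'.toSubmodule := lt_of_le_not_ge hWW' hne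
    obtain ⟨g, v, hv, hnot⟩ := h W W' hCW hlt inf_le_right
    apply hnot
    obtain ⟨hv1, hv2⟩ := Submodule.mem_inf.mp hv
    refine Submodule.mem_inf.mpr ⟨?_, ?_⟩
    · rw [LinearMap.mem_ker, map_sub, hφ]
      rw [Submodule.mem_comap] at hv1
      obtain ⟨c, hc⟩ := (hmemC _).mp hv1
      rw [hc]
      funext x
      show (c - c : K) = 0
      exact sub_self c
    · exact Submodule.sub_mem _ ((permSumZero K G Ω).apply_mem_toSubmodule g hv2) hv2
  let U : Subrepresentation (permRep K G Ω) :=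
    { toSubmodule := (permSumZero K G Ω).toSubmodule.map φ
      apply_mem_toSubmodule := by
        rintro g _ ⟨z, hz, rfl⟩
        exact ⟨permRep K G Ω g z, (permSumZero K G Ω).apply_mem_toSubmodule g hz, hφ g z⟩ }
  have hU : U.toSubmodule = ⊥ := by
    by_contra hne
    have hC := Cfsg.Agent.S0670.result hf hcard U hne
    have h1' : (fun _ : Ω => (1 : K)) ∈ U.toSubmodule := hC ((hmemC _).mpr ⟨1, rfl⟩)
    obtain ⟨z, hz, hz1⟩ := h1'
    have hzW' : z ∈ W'.toSubmodule := by
      refine Submodule.mem_inf.mpr ⟨?_, hz⟩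
      rw [Submodule.mem_comap, hz1]
      exact (hmemC _).mpr ⟨1, rfl⟩
    have hzW := hW'W hzW'
    have hz0 : φ z = 0 := LinearMap.mem_ker.mp (Submodule.mem_inf.mp hzW).1
    rw [hz0] at hz1
    have := congrFun hz1 a₀
    simp at this
  have hZ0 : ∀ z : Ω → K, ∑ x, z x = 0 → φ z = 0 := by
    intro z hz
    have : φ z ∈ U.toSubmodule := ⟨z, hz, rfl⟩
    rw [hU] at this
    exact (Submodule.mem_bot K).mp this
  have hu : ∑ x, (Pi.single a₀ (1 : K) : Ω → K) x = 1 := by
    rw [Finset.sum_pi_single']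
    simp
  have hfix : ∀ g : G, permRep K G Ω g (φ (Pi.single a₀ (1 : K))) = φ (Pi.single a₀ (1 : K)) := by
    intro g
    rw [← hφ]
    have : φ (permRep K G Ω g (Pi.single a₀ (1 : K)) - Pi.single a₀ (1 : K)) = 0 := by
      apply hZ0
      simp only [Pi.sub_apply, Finset.sum_sub_distrib]
      rw [sum_permRep, sub_self]
    rw [map_sub, sub_eq_zero] at this
    exact this
  refine ⟨φ (Pi.single a₀ (1 : K)) a₀, ?_⟩
  intro v
  have h2 : φ (v - (∑ x, v x) • Pi.single a₀ (1 : K)) = 0 := by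
    apply hZ0
    simp only [Pi.sub_apply, Pi.smul_apply, smul_eq_mul, Finset.sum_sub_distrib, ← Finset.mul_sum]
    rw [hu, mul_one, sub_self]
  rw [map_sub, sub_eq_zero, map_smul] at h2
  rw [h2]
  funext x
  rw [Pi.smul_apply, smul_eq_mul, const_of_fixed _ hfix x a₀, mul_comm]

end

theorem result {G : Type*} [Group G] [Finite G] {K : Type*} [Field K] {p f : ℕ} [Fact p.Prime] [CharP K p] {Ω : Type*} [Fintype Ω] [MulAction G Ω] [MulAction.IsPretransitive G Ω] (hf : 1 ≤ f) (hcard : Fintype.card Ω = p ^ f) (h : ∀ W W' : Subrepresentation (Cfsg.permRep K G Ω), (Cfsg.permConstants K G Ω).toSubmodule ≤ W.toSubmodule → W.toSubmodule < W'.toSubmodule → W'.toSubmodule ≤ (Cfsg.permSumZero K G Ω).toSubmodule → ∃ g : G, ∃ v ∈ W'.toSubmodule, Cfsg.permRep K G Ω g v - v ∉ W.toSubmodule) : MulAction.IsMultiplyPretransitive G Ω 2 := by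
  classical
  rw [MulAction.is_two_pretransitive_iff]
  intro a b c d hab hcd
  have hT1 : ∀ g : G, permRep K G Ω g (orbT G a b (fun _ => (1 : K))) =
      orbT G a b (fun _ => (1 : K)) := by
    intro g
    rw [← orbT_comm]
    rfl
  obtain ⟨c', hc'⟩ := key hf hcard h
    (orbT G a b - (orbT G a b (fun _ => (1 : K)) a) • LinearMap.id)
    (by
      intro g v
      simp only [LinearMap.sub_apply, LinearMap.smul_apply, LinearMap.id_apply, map_sub, map_smul]
      rw [orbT_comm])
    (by
      simp only [LinearMap.sub_apply, LinearMap.smul_apply, LinearMap.id_apply]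
      funext x
      simp only [Pi.sub_apply, Pi.smul_apply, smul_eq_mul, mul_one, Pi.zero_apply]
      rw [const_of_fixed _ hT1 x a, sub_self])
  have hval : ∀ x y : Ω, (if (∃ g : G, g • a = x ∧ g • b = y) then (1 : K) else 0) =
      (orbT G a b (fun _ => (1 : K)) a) * (if x = y then 1 else 0) + c' := by
    intro x y
    have h1 := congrFun (hc' (Pi.single y (1 : K))) x
    simp only [LinearMap.sub_apply, LinearMap.smul_apply, LinearMap.id_apply, Pi.sub_apply,
      Pi.smul_apply, smul_eq_mul] at h1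
    rw [Finset.sum_pi_single', if_pos (Finset.mem_univ _), mul_one] at h1
    have h2 : orbT G a b (Pi.single y (1 : K)) x =
        if (∃ g : G, g • a = x ∧ g • b = y) then (1 : K) else 0 := by
      show (∑ y', if (∃ g : G, g • a = x ∧ g • b = y') then (Pi.single y (1 : K) : Ω → K) y' else 0) = _
      rw [Finset.sum_eq_single y]
      · rw [Pi.single_eq_same]
      · intro y' _ hy'
        rw [Pi.single_eq_of_ne hy']
        simp
      · intro hy
        exact absurd (Finset.mem_univ y) hy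
    rw [h2] at h1
    rw [← h1, Pi.single_apply]
    ring
  have e1 := hval a a
  have e2 := hval a b
  have e3 := hval c d
  rw [if_neg (by
    rintro ⟨g, hg1, hg2⟩
    apply hab
    exact MulAction.injective g (hg1.trans hg2.symm)), if_pos rfl] at e1
  rw [if_pos ⟨1, one_smul _ _, one_smul _ _⟩, if_neg hab] at e2
  rw [if_neg hcd, ← e2] at e3
  by_contra hno
  rw [if_neg hno] at e3
  simp at e3

end Cfsg.Agent.S0671
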