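import Mathlib
import Cfsg.Statements.S0673

set_option autoImplicit false
open Cfsg

namespace Cfsg.Agent.S0673

open Polynomial

section
variable {p : ℕ} [Fact p.Prime] {K : Type*} [Field K] [CharP K p]

noncomputable def evL : K[X] →ₗ[K] (ZMod p → K) where
  toFun P := fun j => P.eval (ZMod.cast j : K)
  map_add' P Q := by funext j; simp
  map_smul' c P := by funext j; simp

def shiftD : (ZMod p → K) →ₗ[K] (ZMod p → K) where
  toFun f := fun j => f (j - 1) - f j
  map_add' f g := by funext j; simp; ring
  map_smul' c f := by funext j; simp; ring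

theorem cast_sub_one (j : ZMod p) : (ZMod.cast (j - 1) : K) = (ZMod.cast j : K) - 1 := by
  rw [ZMod.cast_sub (dvd_refl p), ZMod.cast_one (dvd_refl p)]

theorem shiftD_evL (P : K[X]) :
    shiftD (evL (p := p) P) = evL (p := p) (taylor (-1 : K) P - P) := by
  funext j
  show P.eval (ZMod.cast (j - 1) : K) - P.eval (ZMod.cast j : K) =
    (taylor (-1 : K) P - P).eval (ZMod.cast j : K)
  rw [eval_sub, taylor_eval, cast_sub_one, ← sub_eq_add_neg]

theorem delta_mem (r : ℕ) (P : K[X]) (hP : P ∈ degreeLT K (r + 1)) :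
    taylor (-1 : K) P - P ∈ degreeLT K r := by
  by_cases hP0 : P = 0
  · rw [hP0]; simp
  by_cases hΔ : taylor (-1 : K) P - P = 0
  · rw [hΔ]; exact Submodule.zero_mem _
  have hlt : (taylor (-1 : K) P - P).degree < (taylor (-1 : K) P).degree := by
    apply degree_sub_lt_left (degree_taylor P (-1))
    · intro h
      apply hP0
      have := degree_taylor P (-1 : K)
      rw [h, degree_zero] at this
      exact degree_eq_bot.mp this.symm
    · exact leadingCoeff_taylor (r := (-1 : K)) (f := P)
  rw [degree_taylor] at hlt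
  rw [mem_degreeLT] at hP ⊢
  have h1 : (taylor (-1 : K) P - P).natDegree < P.natDegree := natDegree_lt_natDegree hΔ hlt
  have h2 : P.natDegree < r + 1 := (natDegree_lt_iff_degree_lt hP0).mpr hP
  exact (natDegree_lt_iff_degree_lt hΔ).mp (by omega)

theorem pow_shiftD_evL (r : ℕ) : ∀ P : K[X], P ∈ degreeLT K r →
    (shiftD ^ r) (evL (p := p) P) = 0 := by
  induction r with
  | zero =>
    intro P hP
    rw [mem_degreeLT] at hP
    have : P = 0 := by
      rw [← degree_eq_bot]
      by_contra h
      have := (WithBot.bot_lt_iff_ne_bot.mpr h)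
      exact absurd (lt_of_le_of_lt (zero_le_degree_iff.mpr (degree_eq_bot.not.mp h)) hP)
        (by simp)
    rw [this]; simp
  | succ r ih =>
    intro P hP
    rw [pow_succ, Module.End.mul_apply, shiftD_evL]
    exact ih _ (delta_mem r P hP)

theorem finrank_ker_pow_le {V : Type*} [AddCommGroup V] [Module K V] [FiniteDimensional K V]
    (D : Module.End K V) (h1 : Module.finrank K (LinearMap.ker D) ≤ 1) :
    ∀ r : ℕ, Module.finrank K (LinearMap.ker (D ^ r)) ≤ r := by
  intro r
  induction r with
  | zero =>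
    rw [pow_zero, Module.End.one_eq_id, LinearMap.ker_id, finrank_bot]
  | succ r ih =>
    have hrange : LinearMap.range ((D ^ r).domRestrict (LinearMap.ker (D ^ (r + 1)))) ≤
        LinearMap.ker D := by
      rintro _ ⟨u, rfl⟩
      rw [LinearMap.mem_ker, LinearMap.domRestrict_apply, ← Module.End.mul_apply, ← pow_succ']
      exact u.2
    have h2 : Module.finrank K (LinearMap.range ((D ^ r).domRestrict (LinearMap.ker (D ^ (r + 1)))))
        ≤ 1 := (Submodule.finrank_mono hrange).trans h1
    have h3 : Module.finrank K (LinearMap.ker ((D ^ r).domRestrict (LinearMap.ker (D ^ (r + 1)))))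
        ≤ r := by
      refine le_trans ?_ ih
      let ψ : LinearMap.ker ((D ^ r).domRestrict (LinearMap.ker (D ^ (r + 1)))) →ₗ[K]
          LinearMap.ker (D ^ r) :=
        { toFun := fun u => ⟨u.1.1, by
            have := u.2
            rw [LinearMap.mem_ker, LinearMap.domRestrict_apply] at this
            exact this⟩
          map_add' := fun _ _ => rfl
          map_smul' := fun _ _ => rfl }
      apply LinearMap.finrank_le_finrank_of_injective (f := ψ)
      intro u v huv
      apply Subtype.ext
      apply Subtype.ext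
      have h := congrArg Subtype.val huv
      exact h
    have h4 := LinearMap.finrank_range_add_finrank_ker
      ((D ^ r).domRestrict (LinearMap.ker (D ^ (r + 1))))
    omega

theorem ker_shiftD_le : LinearMap.ker (shiftD (p := p) (K := K)) ≤
    Submodule.span K {fun _ => (1 : K)} := by
  intro f hf
  rw [LinearMap.mem_ker] at hf
  have h1 : ∀ j : ZMod p, f (j - 1) = f j := by
    intro j
    have := congrFun hf j
    exact sub_eq_zero.mp this
  have h2 : ∀ n : ℕ, f (n : ZMod p) = f 0 := by
    intro n
    induction n with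
    | zero => simp
    | succ n ih =>
      rw [← ih]
      have := h1 ((n + 1 : ℕ) : ZMod p)
      rw [← this]
      congr 1
      push_cast
      ring
  rw [Submodule.mem_span_singleton]
  refine ⟨f 0, ?_⟩
  funext j
  have := h2 j.val
  rw [ZMod.natCast_zmod_val] at this
  rw [this]
  simp

theorem finrank_ker_shiftD_le :
    Module.finrank K (LinearMap.ker (shiftD (p := p) (K := K))) ≤ 1 := by
  refine (Submodule.finrank_mono ker_shiftD_le).trans ?_
  exact (finrank_span_le_card _).trans (by simp)

theorem evL_injOn (P : K[X]) (hP : P ∈ degreeLT K p) (h0 : evL (p := p) P = 0) : P = 0 := by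
  rw [mem_degreeLT] at hP
  apply Polynomial.eq_zero_of_degree_lt_of_eval_index_eq_zero (s := Finset.univ)
    (v := fun j : ZMod p => (ZMod.cast j : K))
  · intro a _ b _ hab
    have hinj := ZMod.castHom_injective (n := p) K
    exact hinj hab
  · rw [Finset.card_univ, ZMod.card]
    exact hP
  · intro j _
    exact congrFun h0 j

noncomputable def Vr (r : ℕ) : Submodule K (ZMod p → K) := (degreeLT K r).map (evL (p := p))

theorem finrank_Vr (r : ℕ) (hr : r ≤ p) : Module.finrank K (Vr (p := p) (K := K) r) = r := by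
  have hinj : Function.Injective ((evL (p := p) (K := K)).domRestrict (degreeLT K r)) := by
    rw [← LinearMap.ker_eq_bot, LinearMap.ker_eq_bot']
    intro u hu
    apply Subtype.ext
    apply evL_injOn u.1 (degreeLT_mono hr u.2)
    exact hu
  have h1 := LinearMap.finrank_range_of_inj hinj
  have h2 : LinearMap.range ((evL (p := p) (K := K)).domRestrict (degreeLT K r)) = Vr r := by
    ext f
    constructor
    · rintro ⟨u, rfl⟩
      exact ⟨u.1, u.2, rfl⟩
    · rintro ⟨P, hP, rfl⟩
      exact ⟨⟨P, hP⟩, rfl⟩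
  rw [h2] at h1
  rw [h1, (degreeLTEquiv K r).finrank_eq, Module.finrank_fin_fun]

theorem Vr_le_ker (r : ℕ) : Vr (p := p) (K := K) r ≤ LinearMap.ker (shiftD ^ r) := by
  rintro _ ⟨P, hP, rfl⟩
  exact pow_shiftD_evL r P hP

theorem Vr_eq_ker (r : ℕ) (hr : r ≤ p) :
    Vr (p := p) (K := K) r = LinearMap.ker (shiftD ^ r) := by
  have : NeZero p := ⟨(Fact.out : p.Prime).ne_zero⟩
  have h1 : Module.finrank K (LinearMap.ker ((shiftD (p := p) (K := K)) ^ r)) ≤ r :=
    finrank_ker_pow_le (V := ZMod p → K) (shiftD (p := p) (K := K)) finrank_ker_shiftD_le r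
  have h2 : Module.finrank K (Vr (p := p) (K := K) r) = r := finrank_Vr r hr
  exact Submodule.eq_of_le_of_finrank_le (Vr_le_ker r) (h1.trans h2.ge)

end

theorem result {p : ℕ} [Fact p.Prime] {K : Type*} [Field K] [CharP K p] (W : Submodule K (ZMod p → K)) (hW : ∀ f ∈ W, (fun j => f (j - 1)) ∈ W) : ∃ r : ℕ, r ≤ p ∧ Module.finrank K W = r ∧ ∀ f : ZMod p → K, f ∈ W ↔ ∃ P : Polynomial K, P.degree < r ∧ ∀ j : ZMod p, f j = P.eval (ZMod.cast j : K) := by
  classical
  have : NeZero p := ⟨(Fact.out : p.Prime).ne_zero⟩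
  have hV : Module.finrank K (ZMod p → K) = p := by
    rw [Module.finrank_fintype_fun_eq_card, ZMod.card]
  have hrp : Module.finrank K W ≤ p := le_of_le_of_eq (Submodule.finrank_le W) hV
  refine ⟨Module.finrank K W, hrp, rfl, ?_⟩
  have hWD : ∀ f ∈ W, shiftD f ∈ W := fun f hf => W.sub_mem (hW f hf) hf
  have hDp : (shiftD (p := p) (K := K)) ^ p = 0 := by
    have htop : Vr (p := p) (K := K) p = ⊤ := by
      apply Submodule.eq_top_of_finrank_eq
      rw [finrank_Vr p le_rfl, hV]
    have hk : LinearMap.ker ((shiftD (p := p) (K := K)) ^ p) = ⊤ := by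
      rw [← Vr_eq_ker p le_rfl, htop]
    exact LinearMap.ker_eq_top.mp hk
  have hNp : (shiftD.restrict hWD) ^ p = 0 := by
    rw [Module.End.pow_restrict p hWD]
    ext x
    simp [LinearMap.restrict_apply, hDp]
  have hNr : (shiftD.restrict hWD) ^ (Module.finrank K W) = 0 := by
    have h1 := Module.End.ker_pow_le_ker_pow_finrank (shiftD.restrict hWD) p
    rw [hNp, LinearMap.ker_zero, top_le_iff] at h1
    exact LinearMap.ker_eq_top.mp h1
  have hWle : W ≤ LinearMap.ker ((shiftD (p := p) (K := K)) ^ (Module.finrank K W)) := by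
    intro f hf
    rw [LinearMap.mem_ker]
    have h1 : ((shiftD.restrict hWD) ^ (Module.finrank K W)) ⟨f, hf⟩ = 0 := by
      rw [hNr]; rfl
    rw [Module.End.pow_restrict _ hWD] at h1
    have h2 := congrArg Subtype.val h1
    exact h2
  rw [← Vr_eq_ker _ hrp] at hWle
  have hWeq : W = Vr (Module.finrank K W) :=
    Submodule.eq_of_le_of_finrank_eq hWle (finrank_Vr _ hrp).symm
  intro f
  constructor
  · intro hf
    rw [hWeq] at hf
    obtain ⟨P, hP, rfl⟩ := hf
    exact ⟨P, mem_degreeLT.mp hP, fun j => rfl⟩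
  · rintro ⟨P, hP, hj⟩
    rw [hWeq]
    refine ⟨P, mem_degreeLT.mpr hP, ?_⟩
    funext j
    exact (hj j).symm

end Cfsg.Agent.S0673
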