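import Mathlib
import Cfsg.Statements.S0674
import Cfsg.Agent.Lib.Helper5.PrimeDegree

set_option autoImplicit false
open Cfsg

namespace Cfsg.Agent.S0674

open Cfsg.Agent.Lib.Helper5

theorem inv_of_subrep {α : Type*} [Fintype α] [DecidableEq α] (G : Subgroup (Equiv.Perm α))
    {K : Type*} [Field K] (W : Subrepresentation (Cfsg.permRep K G α)) :
    ∀ g ∈ G, ∀ w ∈ W.toSubmodule, (fun x => w (g x)) ∈ W.toSubmodule := by
  intro g hg w hw
  have h := W.apply_mem_toSubmodule (⟨g, hg⟩⁻¹ : G) hw
  have e : Cfsg.permRep K G α (⟨g, hg⟩⁻¹ : G) w = fun x => w (g x) := by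
    funext x
    show w (((⟨g, hg⟩⁻¹ : G))⁻¹ • x) = w (g x)
    rw [inv_inv]
    rfl
  rw [e] at h
  exact h

theorem finrank_constants {α : Type*} [Fintype α] [DecidableEq α] [Nonempty α]
    (G : Subgroup (Equiv.Perm α)) {K : Type*} [Field K] :
    Module.finrank K (Cfsg.permConstants K G α).toSubmodule = 1 := by
  obtain ⟨a₀⟩ := (inferInstance : Nonempty α)
  show Module.finrank K (Submodule.span K {fun _ : α => (1 : K)}) = 1
  apply finrank_span_singleton
  intro h
  have := congrFun h a₀
  simp at this

theorem finrank_sumZero_lt {α : Type*} [Fintype α] [DecidableEq α] [Nonempty α]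
    (G : Subgroup (Equiv.Perm α)) {K : Type*} [Field K] :
    Module.finrank K (Cfsg.permSumZero K G α).toSubmodule < Fintype.card α := by
  obtain ⟨a₀⟩ := (inferInstance : Nonempty α)
  have hV : Module.finrank K (α → K) = Fintype.card α := Module.finrank_fintype_fun_eq_card K
  rw [← hV]
  apply Submodule.finrank_lt
  intro htop
  have hmem : (Pi.single a₀ (1 : K) : α → K) ∈ (Cfsg.permSumZero K G α).toSubmodule := by
    rw [htop]; exact Submodule.mem_top
  have h0 : ∑ x, (Pi.single a₀ (1 : K) : α → K) x = 0 := hmem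
  rw [Finset.sum_pi_single'] at h0
  simp at h0

theorem result {α : Type*} [Fintype α] [DecidableEq α] {p : ℕ} [Fact p.Prime] (hα : Fintype.card α = p) (G : Subgroup (Equiv.Perm α)) [MulAction.IsPretransitive G α] (hG : ¬ Group.IsSolvable G) {K : Type*} [Field K] [CharP K p] (W : Subrepresentation (Cfsg.permRep K G α)) (h₁ : (Cfsg.permConstants K G α).toSubmodule ≤ W.toSubmodule) (h₂ : W.toSubmodule ≤ (Cfsg.permSumZero K G α).toSubmodule) : W = Cfsg.permConstants K G α ∨ W = Cfsg.permSumZero K G α := by
  have hp : p.Prime := Fact.out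
  have hpos : 0 < Fintype.card α := by rw [hα]; exact hp.pos
  have hne : Nonempty α := Fintype.card_pos_iff.mp hpos
  have hC1 := finrank_constants G (K := K)
  have hZlt := finrank_sumZero_lt G (K := K)
  rw [hα] at hZlt
  have hr1 : 1 ≤ Module.finrank K W.toSubmodule := hC1 ▸ Submodule.finrank_mono h₁
  have hrZ : Module.finrank K W.toSubmodule ≤
      Module.finrank K (Cfsg.permSumZero K G α).toSubmodule := Submodule.finrank_mono h₂
  by_cases hr : Module.finrank K W.toSubmodule ≤ 1
  · left
    apply Subrepresentation.toSubmodule_injective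
    exact (Submodule.eq_of_le_of_finrank_le h₁ (by rw [hC1]; exact hr)).symm
  by_cases hr' : p ≤ Module.finrank K W.toSubmodule + 1
  · right
    apply Subrepresentation.toSubmodule_injective
    exact Submodule.eq_of_le_of_finrank_le h₂ (by omega)
  exfalso
  apply hG
  exact pd_solvable_of_invariant hα G W.toSubmodule (inv_of_subrep G W) (by omega)
    (Or.inr (by omega))

end Cfsg.Agent.S0674
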