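import Mathlib
import Cfsg.Statements.S0675
import Cfsg.Agent.S0674
import Cfsg.Agent.S0671

set_option autoImplicit false
open Cfsg

namespace Cfsg.Agent.S0675

open Cfsg.Agent.Lib.Helper5

theorem result {α : Type*} [Fintype α] [DecidableEq α] (hα : (Fintype.card α).Prime) (G : Subgroup (Equiv.Perm α)) [MulAction.IsPretransitive G α] : Group.IsSolvable G ∨ MulAction.IsMultiplyPretransitive G α 2 := by
  by_cases hsolv : Group.IsSolvable G
  · exact Or.inl hsolv
  right
  have hF : Fact (Fintype.card α).Prime := ⟨hα⟩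
  have hne : Nonempty α := Fintype.card_pos_iff.mp hα.pos
  apply Cfsg.Agent.S0671.result (K := ZMod (Fintype.card α)) (p := Fintype.card α) (f := 1) le_rfl
    (pow_one _).symm
  intro W W' hCW hlt hW'Z
  have hW := Cfsg.Agent.S0674.result rfl G hsolv W hCW (hlt.le.trans hW'Z)
  have hW' := Cfsg.Agent.S0674.result rfl G hsolv W' (hCW.trans hlt.le) hW'Z
  have hWC : W = Cfsg.permConstants (ZMod (Fintype.card α)) G α := by
    rcases hW with h | h
    · exact h
    · exfalso
      rw [h] at hlt
      exact absurd hW'Z (not_le_of_gt hlt)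
  have hW'Z' : W' = Cfsg.permSumZero (ZMod (Fintype.card α)) G α := by
    rcases hW' with h | h
    · exfalso
      rw [h, hWC] at hlt
      exact lt_irrefl _ hlt
    · exact h
  subst hWC
  subst hW'Z'
  by_contra hcon
  push Not at hcon
  apply hsolv
  obtain ⟨v₀, hv₀Z, hv₀C⟩ := SetLike.exists_of_lt hlt
  have hinv : ∀ g ∈ G, ∀ w ∈ (Cfsg.permConstants (ZMod (Fintype.card α)) G α).toSubmodule ⊔
      Submodule.span (ZMod (Fintype.card α)) {v₀},
      (fun x => w (g x)) ∈ (Cfsg.permConstants (ZMod (Fintype.card α)) G α).toSubmodule ⊔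
      Submodule.span (ZMod (Fintype.card α)) {v₀} := by
    intro g hg w hw
    obtain ⟨c, hc, u, hu, rfl⟩ := Submodule.mem_sup.mp hw
    obtain ⟨t, rfl⟩ := Submodule.mem_span_singleton.mp hu
    have h1 := Cfsg.Agent.S0674.inv_of_subrep G (Cfsg.permConstants (ZMod (Fintype.card α)) G α)
      g hg c hc
    have h2 := hcon (⟨g, hg⟩⁻¹ : G) v₀ hv₀Z
    have e : Cfsg.permRep (ZMod (Fintype.card α)) G α (⟨g, hg⟩⁻¹ : G) v₀ = fun x => v₀ (g x) := by
      funext x
      show v₀ (((⟨g, hg⟩⁻¹ : G))⁻¹ • x) = v₀ (g x)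
      rw [inv_inv]
      rfl
    rw [e] at h2
    have e2 : (fun x => (c + t • v₀) (g x)) =
        ((fun x => c (g x)) + t • ((fun x => v₀ (g x)) - v₀)) + t • v₀ := by
      funext x
      simp only [Pi.add_apply, Pi.smul_apply, Pi.sub_apply, smul_eq_mul]
      ring
    rw [e2]
    apply Submodule.add_mem
    · apply Submodule.mem_sup_left
      exact Submodule.add_mem _ h1 (Submodule.smul_mem _ _ h2)
    · apply Submodule.mem_sup_right
      exact Submodule.smul_mem _ _ (Submodule.mem_span_singleton_self _)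
  have hC1 := Cfsg.Agent.S0674.finrank_constants G (K := ZMod (Fintype.card α))
  have hlt2 : (Cfsg.permConstants (ZMod (Fintype.card α)) G α).toSubmodule <
      (Cfsg.permConstants (ZMod (Fintype.card α)) G α).toSubmodule ⊔
      Submodule.span (ZMod (Fintype.card α)) {v₀} := by
    apply lt_of_le_of_ne le_sup_left
    intro heq
    apply hv₀C
    rw [heq]
    exact Submodule.mem_sup_right (Submodule.mem_span_singleton_self _)
  have hfr2 : 2 ≤ Module.finrank (ZMod (Fintype.card α))
      ((Cfsg.permConstants (ZMod (Fintype.card α)) G α).toSubmodule ⊔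
      Submodule.span (ZMod (Fintype.card α)) {v₀} : Submodule _ _) := by
    have := Submodule.finrank_lt_finrank_of_lt hlt2
    omega
  have hfr2' : Module.finrank (ZMod (Fintype.card α))
      ((Cfsg.permConstants (ZMod (Fintype.card α)) G α).toSubmodule ⊔
      Submodule.span (ZMod (Fintype.card α)) {v₀} : Submodule _ _) ≤ 2 := by
    have h1 := Submodule.finrank_add_le_finrank_add_finrank
      (Cfsg.permConstants (ZMod (Fintype.card α)) G α).toSubmodule
      (Submodule.span (ZMod (Fintype.card α)) {v₀})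
    have h2 := finrank_span_le_card (R := ZMod (Fintype.card α)) ({v₀} : Set (α → ZMod (Fintype.card α)))
    simp at h2
    omega
  exact pd_solvable_of_invariant rfl G _ hinv hfr2 (Or.inl (by have := hα.two_le; omega))

end Cfsg.Agent.S0675
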