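import Mathlib
import Cfsg.Statements.S0676
import Cfsg.Agent.S0675
import Cfsg.Agent.S0672

set_option autoImplicit false
open Cfsg

namespace Cfsg.Agent.S0676

open Cfsg.Agent.Lib.Helper5

section
variable {α : Type*} [Fintype α] [DecidableEq α] {p : ℕ} [Fact p.Prime]

theorem cycle_trans (hα : Fintype.card α = p) (σ : Equiv.Perm α) (hord : orderOf σ = p) :
    ∀ x y : α, ∃ i : ℕ, (σ ^ i) x = y := by
  have hp : p.Prime := Fact.out
  have hcyc : σ.IsCycle :=
    Equiv.Perm.isCycle_of_prime_order'' (hα ▸ hp) (hord.trans hα.symm)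
  have hsupp : σ.support = Finset.univ := by
    rw [← Finset.card_eq_iff_eq_univ, ← hcyc.orderOf, hord, hα]
  intro a b
  apply hcyc.exists_pow_eq
  · rw [← Equiv.Perm.mem_support, hsupp]; exact Finset.mem_univ _
  · rw [← Equiv.Perm.mem_support, hsupp]; exact Finset.mem_univ _

theorem pow_apply_e (σ : Equiv.Perm α) (e : ZMod p ≃ α) (hσ : ∀ j, σ (e j) = e (j + 1))
    (n : ℕ) (j : ZMod p) : (σ ^ n) (e j) = e (j + n) := by
  induction n with
  | zero => simp
  | succ n ih =>
    rw [pow_succ', Equiv.Perm.mul_apply, ih, hσ]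
    congr 1
    push_cast
    ring

theorem two_ne_zero_zmod (hp2 : p ≠ 2) : (2 : ZMod p) ≠ 0 := by
  have hp : p.Prime := Fact.out
  intro h
  have h' : ((2 : ℕ) : ZMod p) = 0 := by exact_mod_cast h
  rw [ZMod.natCast_eq_zero_iff] at h'
  exact hp2 ((Nat.prime_dvd_prime_iff_eq hp Nat.prime_two).mp h')

theorem normal_form (hα : Fintype.card α = p) (hp2 : p ≠ 2) (σ t : Equiv.Perm α)
    (hord : orderOf σ = p) (htt : t * t = 1) (ht1 : t ≠ 1)
    (hnorm : t * σ * t⁻¹ ∈ Subgroup.zpowers σ) :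
    ∃ (e : ZMod p ≃ α) (c : ZMod p), (∀ j, σ (e j) = e (j + 1)) ∧ (∀ j, t (e j) = e (c - j)) := by
  have hp : p.Prime := Fact.out
  have hNZ : NeZero p := ⟨hp.ne_zero⟩
  obtain ⟨e, he⟩ := pd_exists_equiv hα σ hord (cycle_trans hα σ hord)
  have hfin : IsOfFinOrder σ := isOfFinOrder_of_finite σ
  rw [← mem_powers_iff_mem_zpowers, Submonoid.mem_powers_iff] at hnorm
  obtain ⟨n, hn⟩ := hnorm
  have hcomm : σ ^ n * t = t * σ := by
    rw [hn, inv_mul_cancel_right]
  have hstep : ∀ j : ZMod p, e.symm (t (e (j + 1))) = e.symm (t (e j)) + n := by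
    intro j
    have h1 := congrArg (fun π : Equiv.Perm α => π (e j)) hcomm
    simp only [Equiv.Perm.mul_apply] at h1
    rw [he] at h1
    rw [← h1]
    have h2 : t (e j) = e (e.symm (t (e j))) := (Equiv.apply_symm_apply e _).symm
    rw [h2, pow_apply_e σ e he, Equiv.symm_apply_apply, Equiv.symm_apply_apply]
  have hlin : ∀ m : ℕ, e.symm (t (e (m : ZMod p))) = e.symm (t (e 0)) + n * m := by
    intro m
    induction m with
    | zero => simp
    | succ m ih =>
      push_cast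
      rw [hstep, ih]
      ring
  have hlin' : ∀ j : ZMod p, e.symm (t (e j)) = e.symm (t (e 0)) + n * j := by
    intro j
    have := hlin j.val
    rwa [ZMod.natCast_zmod_val] at this
  have hinv : ∀ j : ZMod p, e.symm (t (e (e.symm (t (e j))))) = j := by
    intro j
    rw [Equiv.apply_symm_apply]
    have : t (t (e j)) = e j := by
      rw [← Equiv.Perm.mul_apply, htt]; rfl
    rw [this, Equiv.symm_apply_apply]
  have h0 := hinv 0
  have h1 := hinv 1
  rw [hlin' (e.symm (t (e 0))), hlin' 0, mul_zero, add_zero] at h0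
  rw [hlin' (e.symm (t (e 1))), hlin' 1, mul_one] at h1
  have hk2 : ((n : ZMod p) - 1) * ((n : ZMod p) + 1) = 0 := by
    have : (n : ZMod p) * n = 1 := by
      have h3 : e.symm (t (e 0)) + (n : ZMod p) * (e.symm (t (e 0)) + n) =
          (e.symm (t (e 0)) + (n : ZMod p) * e.symm (t (e 0))) + n * n := by ring
      rw [h3, h0, zero_add] at h1
      exact h1
    calc ((n : ZMod p) - 1) * ((n : ZMod p) + 1) = (n : ZMod p) * n - 1 := by ring
      _ = 0 := by rw [this, sub_self]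
  rcases mul_eq_zero.mp hk2 with hk | hk
  · exfalso
    have hk1 : (n : ZMod p) = 1 := sub_eq_zero.mp hk
    rw [hk1, one_mul] at h0
    have hc0 : e.symm (t (e 0)) = 0 := by
      have h2 : (2 : ZMod p) * e.symm (t (e 0)) = 0 := by rw [two_mul]; exact h0
      rcases mul_eq_zero.mp h2 with h3 | h3
      · exact absurd h3 (two_ne_zero_zmod hp2)
      · exact h3
    apply ht1
    ext a
    have h4 := hlin' (e.symm a)
    rw [hc0, hk1, one_mul, zero_add, Equiv.apply_symm_apply] at h4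
    have := congrArg e h4
    rw [Equiv.apply_symm_apply, Equiv.apply_symm_apply] at this
    rw [this]
    rfl
  · have hk1 : (n : ZMod p) = -1 := eq_neg_of_add_eq_zero_left hk
    refine ⟨e, e.symm (t (e 0)), he, fun j => ?_⟩
    have h4 := hlin' j
    rw [hk1] at h4
    have := congrArg e h4
    rw [Equiv.apply_symm_apply] at this
    rw [this]
    congr 1
    ring

theorem even_stabilizer (hp2 : p ≠ 2) (G : Subgroup (Equiv.Perm α))
    [MulAction.IsPretransitive G α] (e : ZMod p ≃ α) (c : ZMod p) (t : Equiv.Perm α)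
    (htG : t ∈ G) (ht1 : t ≠ 1) (ht : ∀ j, t (e j) = e (c - j)) (a : α) :
    Even (Nat.card (MulAction.stabilizer G a)) := by
  have h2 := two_ne_zero_zmod (p := p) hp2
  have hfix : t (e (c / 2)) = e (c / 2) := by
    rw [ht]
    congr 1
    field_simp
    ring
  have htt : t * t = 1 := by
    ext b
    have hb : b = e (e.symm b) := (Equiv.apply_symm_apply e b).symm
    rw [Equiv.Perm.mul_apply, hb, ht, ht]
    simp
  obtain ⟨g, hg⟩ := MulAction.exists_smul_eq G (e (c / 2)) a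
  have hsG : (g : Equiv.Perm α) * t * (g : Equiv.Perm α)⁻¹ ∈ G :=
    G.mul_mem (G.mul_mem g.2 htG) (G.inv_mem g.2)
  have hga : (g : Equiv.Perm α) (e (c / 2)) = a := hg
  have hsa : (⟨(g : Equiv.Perm α) * t * (g : Equiv.Perm α)⁻¹, hsG⟩ : G) ∈
      MulAction.stabilizer G a := by
    rw [MulAction.mem_stabilizer_iff]
    show ((g : Equiv.Perm α) * t * (g : Equiv.Perm α)⁻¹) a = a
    rw [Equiv.Perm.mul_apply, Equiv.Perm.mul_apply, ← hga, Equiv.Perm.inv_def, Equiv.symm_apply_apply, hfix]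
  have hs1 : (⟨⟨(g : Equiv.Perm α) * t * (g : Equiv.Perm α)⁻¹, hsG⟩, hsa⟩ :
      MulAction.stabilizer G a) ≠ 1 := by
    intro h
    apply ht1
    have h' : (g : Equiv.Perm α) * t * (g : Equiv.Perm α)⁻¹ = 1 :=
      congrArg (fun x : MulAction.stabilizer G a => ((x : G) : Equiv.Perm α)) h
    have : t = (g : Equiv.Perm α)⁻¹ * ((g : Equiv.Perm α) * t * (g : Equiv.Perm α)⁻¹) *
        (g : Equiv.Perm α) := by group
    rw [this, h']
    group
  have hs2 : (⟨⟨(g : Equiv.Perm α) * t * (g : Equiv.Perm α)⁻¹, hsG⟩, hsa⟩ :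
      MulAction.stabilizer G a) ^ 2 = 1 := by
    apply Subtype.ext
    apply Subtype.ext
    show ((g : Equiv.Perm α) * t * (g : Equiv.Perm α)⁻¹) ^ 2 = 1
    rw [sq]
    calc (g : Equiv.Perm α) * t * (g : Equiv.Perm α)⁻¹ * ((g : Equiv.Perm α) * t * (g : Equiv.Perm α)⁻¹)
        = (g : Equiv.Perm α) * (t * t) * (g : Equiv.Perm α)⁻¹ := by group
      _ = 1 := by rw [htt]; group
  have hord := orderOf_eq_prime hs2 hs1
  rw [even_iff_two_dvd, ← hord]
  exact orderOf_dvd_natCard _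

open scoped Pointwise in
theorem hom_zero (hα : Fintype.card α = p) (hp3 : 3 ≤ p) (G : Subgroup (Equiv.Perm α))
    [MulAction.IsPretransitive G α] (hG : ¬ Group.IsSolvable G)
    {K : Type*} [Field K] [CharP K p]
    (e : ZMod p ≃ α) (c : ZMod p) (σ t : Equiv.Perm α) (hσG : σ ∈ G) (htG : t ∈ G)
    (hσ : ∀ j, σ (e j) = e (j + 1)) (ht : ∀ j, t (e j) = e (c - j))
    (f : Representation.IntertwiningMap (Cfsg.permSumZero K G α).toRepresentation
      (Cfsg.permRep K G (Set.powersetCard α 2)))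
    (hf : ∀ v : (Cfsg.permSumZero K G α).toSubmodule,
        (v : α → K) ∈ (Cfsg.permConstants K G α).toSubmodule → f v = 0) : f = 0 := by
  have hp : p.Prime := Fact.out
  have hNZ : NeZero p := ⟨hp.ne_zero⟩
  have hmemC : ∀ v : α → K, v ∈ (Cfsg.permConstants K G α).toSubmodule ↔
      ∃ k : K, v = fun _ => k := by
    intro v
    show v ∈ Submodule.span K {fun _ => (1 : K)} ↔ _
    rw [Submodule.mem_span_singleton]
    constructor
    · rintro ⟨k, rfl⟩
      exact ⟨k, by funext x; simp⟩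
    · rintro ⟨k, rfl⟩
      exact ⟨k, by funext x; simp⟩
  have hone : (fun _ : α => (1 : K)) ∈ (Cfsg.permSumZero K G α).toSubmodule := by
    show ∑ _x : α, (1 : K) = 0
    rw [Finset.sum_const, Finset.card_univ, hα, nsmul_eq_mul, CharP.cast_eq_zero, zero_mul]
  have hx₀ : (fun a => (ZMod.cast (e.symm a) : K)) ∈ (Cfsg.permSumZero K G α).toSubmodule := by
    show ∑ a : α, (ZMod.cast (e.symm a) : K) = 0
    rw [Fintype.sum_equiv e.symm (fun a => (ZMod.cast (e.symm a) : K))
      (fun j => (ZMod.cast j : K)) (fun a => rfl)]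
    have := pd_sum_pow_cast (p := p) (K := K) 1 (by omega)
    simpa using this
  have hfO : f ⟨_, hone⟩ = 0 := hf ⟨_, hone⟩ ((hmemC _).mpr ⟨1, rfl⟩)
  have hsmulσ : ∀ a : α, (⟨σ, hσG⟩ : G)⁻¹ • a = e (e.symm a - 1) := by
    intro a
    show σ⁻¹ a = _
    rw [Equiv.Perm.inv_def, Equiv.symm_apply_eq, hσ, sub_add_cancel, Equiv.apply_symm_apply]
  have hsmult : ∀ a : α, (⟨t, htG⟩ : G)⁻¹ • a = e (c - e.symm a) := by
    intro a
    show t⁻¹ a = _
    rw [Equiv.Perm.inv_def, Equiv.symm_apply_eq, ht, sub_sub_cancel, Equiv.apply_symm_apply]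
  have hσX : (Cfsg.permSumZero K G α).toRepresentation ⟨σ, hσG⟩ ⟨_, hx₀⟩ =
      (⟨_, hx₀⟩ : (Cfsg.permSumZero K G α).toSubmodule) - ⟨_, hone⟩ := by
    apply Subtype.ext
    funext a
    show (ZMod.cast (e.symm ((⟨σ, hσG⟩ : G)⁻¹ • a)) : K) = ZMod.cast (e.symm a) - 1
    rw [hsmulσ, Equiv.symm_apply_apply, Cfsg.Agent.S0673.cast_sub_one]
  have htX : (Cfsg.permSumZero K G α).toRepresentation ⟨t, htG⟩ ⟨_, hx₀⟩ =
      (ZMod.cast c : K) • (⟨_, hone⟩ : (Cfsg.permSumZero K G α).toSubmodule) - ⟨_, hx₀⟩ := by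
    apply Subtype.ext
    funext a
    show (ZMod.cast (e.symm ((⟨t, htG⟩ : G)⁻¹ • a)) : K) =
      (ZMod.cast c : K) * 1 - ZMod.cast (e.symm a)
    rw [hsmult, Equiv.symm_apply_apply, ZMod.cast_sub (dvd_refl p), mul_one]
  have hψσ : ∀ Q : Set.powersetCard α 2,
      f ⟨_, hx₀⟩ ((⟨σ, hσG⟩ : G)⁻¹ • Q) = f ⟨_, hx₀⟩ Q := by
    intro Q
    have h1 := Representation.IntertwiningMap.isIntertwining _ _ f (⟨σ, hσG⟩ : G) ⟨_, hx₀⟩
    rw [hσX, map_sub, hfO, sub_zero] at h1
    exact (congrFun h1 Q).symm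
  have hψσ1 : ∀ Q : Set.powersetCard α 2,
      f ⟨_, hx₀⟩ ((⟨σ, hσG⟩ : G) • Q) = f ⟨_, hx₀⟩ Q := by
    intro Q
    have := hψσ ((⟨σ, hσG⟩ : G) • Q)
    rw [inv_smul_smul] at this
    exact this.symm
  have hψσn : ∀ (n : ℕ) (Q : Set.powersetCard α 2),
      f ⟨_, hx₀⟩ ((⟨σ, hσG⟩ : G) ^ n • Q) = f ⟨_, hx₀⟩ Q := by
    intro n
    induction n with
    | zero => intro Q; rw [pow_zero, one_smul]
    | succ n ih =>
      intro Q
      rw [pow_succ, mul_smul, ih, hψσ1]
  have hψt : ∀ Q : Set.powersetCard α 2,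
      f ⟨_, hx₀⟩ ((⟨t, htG⟩ : G)⁻¹ • Q) = - f ⟨_, hx₀⟩ Q := by
    intro Q
    have h1 := Representation.IntertwiningMap.isIntertwining _ _ f (⟨t, htG⟩ : G) ⟨_, hx₀⟩
    rw [htX, map_sub, map_smul, hfO, smul_zero, zero_sub] at h1
    have h2 := congrFun h1 Q
    exact h2.symm
  have hkey : ∀ Q : Set.powersetCard α 2, ∃ n : ℕ,
      (⟨t, htG⟩ : G)⁻¹ • Q = (⟨σ, hσG⟩ : G) ^ n • Q := by
    intro Q
    obtain ⟨a₁, a₂, hne, hQ⟩ := Finset.card_eq_two.mp Q.2
    refine ⟨(c - e.symm a₁ - e.symm a₂).val, ?_⟩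
    have hpow : ∀ a : α, (⟨σ, hσG⟩ : G) ^ (c - e.symm a₁ - e.symm a₂).val • a =
        e (e.symm a + (c - e.symm a₁ - e.symm a₂)) := by
      intro a
      show (((⟨σ, hσG⟩ : G) ^ (c - e.symm a₁ - e.symm a₂).val : G) : Equiv.Perm α) a = _
      rw [Subgroup.coe_pow]
      show (σ ^ (c - e.symm a₁ - e.symm a₂).val) a = _
      have ha : a = e (e.symm a) := (Equiv.apply_symm_apply e a).symm
      conv_lhs => rw [ha]
      rw [pow_apply_e σ e hσ, ZMod.natCast_zmod_val]
    have hc1 := Set.powersetCard.coe_smul (g := (⟨t, htG⟩ : G)⁻¹) (s := Q)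
    have hc2 := Set.powersetCard.coe_smul (g := (⟨σ, hσG⟩ : G) ^ (c - e.symm a₁ - e.symm a₂).val)
      (s := Q)
    have hQ' : (Q : Finset α) = {a₁, a₂} := hQ
    have hmid : (⟨t, htG⟩ : G)⁻¹ • (Q : Finset α) =
        (⟨σ, hσG⟩ : G) ^ (c - e.symm a₁ - e.symm a₂).val • (Q : Finset α) := by
      rw [hQ', Finset.smul_finset_insert, Finset.smul_finset_singleton, Finset.smul_finset_insert,
        Finset.smul_finset_singleton, hsmult, hsmult, hpow, hpow]
      have e1 : e.symm a₁ + (c - e.symm a₁ - e.symm a₂) = c - e.symm a₂ := by ring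
      have e2 : e.symm a₂ + (c - e.symm a₁ - e.symm a₂) = c - e.symm a₁ := by ring
      rw [e1, e2, Finset.pair_comm]
    apply Subtype.ext
    exact hc1.trans (hmid.trans hc2.symm)
  have h2K : (2 : K) ≠ 0 := by
    intro h
    have h' : ((2 : ℕ) : K) = 0 := by exact_mod_cast h
    rw [CharP.cast_eq_zero_iff K p] at h'
    have := Nat.le_of_dvd (by norm_num) h'
    omega
  have hψ0 : f ⟨_, hx₀⟩ = 0 := by
    funext Q
    obtain ⟨n, hn⟩ := hkey Q
    have h1 := hψt Q
    rw [hn, hψσn] at h1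
    have h2 : (2 : K) * f ⟨_, hx₀⟩ Q = 0 := by
      rw [two_mul]
      nth_rewrite 1 [h1]
      exact neg_add_cancel _
    rcases mul_eq_zero.mp h2 with h3 | h3
    · exact absurd h3 h2K
    · exact h3
  let W : Subrepresentation (Cfsg.permRep K G α) :=
    { toSubmodule := (LinearMap.ker f.toLinearMap).map
        (Cfsg.permSumZero K G α).toSubmodule.subtype
      apply_mem_toSubmodule := by
        rintro g _ ⟨z, hz, rfl⟩
        refine ⟨(Cfsg.permSumZero K G α).toRepresentation g z, ?_, rfl⟩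
        have hz' : f z = 0 := hz
        show f ((Cfsg.permSumZero K G α).toRepresentation g z) = 0
        rw [Representation.IntertwiningMap.isIntertwining, hz', map_zero] }
  have hCZ : (Cfsg.permConstants K G α).toSubmodule ≤ (Cfsg.permSumZero K G α).toSubmodule := by
    intro v hv
    obtain ⟨k, rfl⟩ := (hmemC v).mp hv
    show ∑ _x : α, k = 0
    rw [Finset.sum_const, Finset.card_univ, hα, nsmul_eq_mul, CharP.cast_eq_zero, zero_mul]
  have hCW : (Cfsg.permConstants K G α).toSubmodule ≤ W.toSubmodule := by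
    intro v hv
    exact ⟨⟨v, hCZ hv⟩, LinearMap.mem_ker.mpr (hf ⟨v, hCZ hv⟩ hv), rfl⟩
  have hWZ : W.toSubmodule ≤ (Cfsg.permSumZero K G α).toSubmodule :=
    Submodule.map_subtype_le _ _
  have hXW : (fun a => (ZMod.cast (e.symm a) : K)) ∈ W.toSubmodule :=
    ⟨⟨_, hx₀⟩, LinearMap.mem_ker.mpr hψ0, rfl⟩
  rcases Cfsg.Agent.S0674.result hα G hG W hCW hWZ with hW | hW
  · exfalso
    rw [hW] at hXW
    obtain ⟨k, hk⟩ := (hmemC _).mp hXW
    have h0 := congrFun hk (e 0)
    have h1 := congrFun hk (e 1)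
    simp only [Equiv.symm_apply_apply] at h0 h1
    have hc : ∀ a : ZMod p, (ZMod.cast a : K) = ZMod.castHom (dvd_refl p) K a := fun a => rfl
    rw [hc, map_zero] at h0
    rw [hc, map_one] at h1
    rw [← h0] at h1
    exact one_ne_zero h1
  · apply Representation.IntertwiningMap.ext
    apply LinearMap.ext
    intro z
    have hz : (z : α → K) ∈ W.toSubmodule := by rw [hW]; exact z.2
    obtain ⟨z', hz', hzz⟩ := hz
    have : z' = z := Subtype.ext hzz
    rw [← this]
    exact hz'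

theorem sylow_card (hα : Fintype.card α = p) (G : Subgroup (Equiv.Perm α))
    [MulAction.IsPretransitive G α] (P : Sylow p G) : Nat.card (P : Subgroup G) = p := by
  have hp : p.Prime := Fact.out
  obtain ⟨σ, hσG, hord, -⟩ := pd_exists_cycle hα G
  have hdvd : p ∣ Nat.card G := by
    have h1 : orderOf (⟨σ, hσG⟩ : G) = p := by rw [Subgroup.orderOf_mk, hord]
    rw [← h1]
    exact orderOf_dvd_natCard _
  have hGne : Nat.card G ≠ 0 := Nat.card_pos.ne'
  have h1 : 1 ≤ (Nat.card G).factorization p :=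
    (hp.factorization_pos_of_dvd hGne hdvd)
  have h2 : p ^ (Nat.card G).factorization p ∣ p := by
    have h3 : p ^ (Nat.card G).factorization p ∣ Nat.card G := Nat.ordProj_dvd _ _
    have h4 : Nat.card G ∣ Nat.card (Equiv.Perm α) := Subgroup.card_subgroup_dvd_card G
    have h4' : Nat.card (Equiv.Perm α) = p.factorial := by
      rw [Nat.card_eq_fintype_card, Fintype.card_perm, hα]
    rw [h4'] at h4
    have h5 : p ^ (Nat.card G).factorization p ∣ p * (p - 1).factorial := by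
      have : p.factorial = p * (p - 1).factorial := by
        have hp1 : p = (p - 1) + 1 := by have := hp.one_lt; omega
        conv_lhs => rw [hp1, Nat.factorial_succ, ← hp1]
      rw [← this]
      exact h3.trans h4
    have hcop : Nat.Coprime (p ^ (Nat.card G).factorization p) (p - 1).factorial := by
      apply Nat.Coprime.pow_left
      rw [Nat.Prime.coprime_iff_not_dvd hp, hp.dvd_factorial]
      have := hp.one_lt
      omega
    exact hcop.dvd_of_dvd_mul_right h5
  have h6 : (Nat.card G).factorization p ≤ 1 := by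
    have : p ^ (Nat.card G).factorization p ∣ p ^ 1 := by rwa [pow_one]
    exact (Nat.pow_dvd_pow_iff_le_right hp.one_lt).mp this
  rw [P.card_eq_multiplicity, le_antisymm h6 h1, pow_one]

end

theorem result {α : Type*} [Fintype α] [DecidableEq α] {p : ℕ} [Fact p.Prime] (hα : Fintype.card α = p) (G : Subgroup (Equiv.Perm α)) [MulAction.IsPretransitive G α] (hG : ¬ Group.IsSolvable G) (P : Sylow p G) (heven : Even (Nat.card (Subgroup.normalizer ((P : Subgroup G) : Set G)))) : MulAction.IsMultiplyPretransitive G α 3 := by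
  have hp : p.Prime := Fact.out
  by_cases hp3 : 3 ≤ p
  swap
  · have hemp : IsEmpty (Fin 3 ↪ α) := by
      constructor
      intro x
      have := Fintype.card_le_of_embedding x
      rw [Fintype.card_fin, hα] at this
      exact hp3 this
    exact ⟨fun x => isEmptyElim x⟩
  have hp2 : p ≠ 2 := by omega
  have h2 : MulAction.IsMultiplyPretransitive G α 2 := by
    rcases Cfsg.Agent.S0675.result (hα ▸ hp) G with h | h
    · exact absurd h hG
    · exact h
  have hPcard := sylow_card hα G P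
  have hF2 : Fact (Nat.Prime 2) := ⟨Nat.prime_two⟩
  obtain ⟨t0, ht0⟩ := exists_prime_orderOf_dvd_card'
    (G := Subgroup.normalizer ((P : Subgroup G) : Set G)) 2 (even_iff_two_dvd.mp heven)
  obtain ⟨σ0, hσ0⟩ := exists_prime_orderOf_dvd_card' (G := (P : Subgroup G)) p
    (by rw [hPcard])
  have hord : orderOf (((σ0 : G) : Equiv.Perm α)) = p := by
    rw [Subgroup.orderOf_coe, Subgroup.orderOf_coe, hσ0]
  have hordt : orderOf (((t0 : G) : Equiv.Perm α)) = 2 := by
    rw [Subgroup.orderOf_coe, Subgroup.orderOf_coe, ht0]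
  have htt : ((t0 : G) : Equiv.Perm α) * ((t0 : G) : Equiv.Perm α) = 1 := by
    have := pow_orderOf_eq_one ((t0 : G) : Equiv.Perm α)
    rwa [hordt, sq] at this
  have ht1 : ((t0 : G) : Equiv.Perm α) ≠ 1 := by
    intro h
    rw [h, orderOf_one] at hordt
    norm_num at hordt
  have hPz : (P : Subgroup G) = Subgroup.zpowers (σ0 : G) := by
    symm
    apply Subgroup.eq_of_le_of_card_ge
    · rw [Subgroup.zpowers_le]
      exact σ0.2
    · rw [hPcard, Nat.card_zpowers, Subgroup.orderOf_coe, hσ0]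
  have hnorm : ((t0 : G) : Equiv.Perm α) * ((σ0 : G) : Equiv.Perm α) *
      ((t0 : G) : Equiv.Perm α)⁻¹ ∈ Subgroup.zpowers ((σ0 : G) : Equiv.Perm α) := by
    have h1 : (t0 : G) * (σ0 : G) * (t0 : G)⁻¹ ∈ (P : Subgroup G) :=
      (Subgroup.mem_normalizer_iff.mp t0.2 (σ0 : G)).mp σ0.2
    have h1' : (t0 : G) * (σ0 : G) * (t0 : G)⁻¹ ∈ Subgroup.zpowers (σ0 : G) := hPz.le h1
    rw [Subgroup.mem_zpowers_iff] at h1'
    obtain ⟨k, hk⟩ := h1'
    rw [Subgroup.mem_zpowers_iff]
    refine ⟨k, ?_⟩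
    have := congrArg (fun x : G => (x : Equiv.Perm α)) hk
    simpa using this
  obtain ⟨e, c, hσ, ht⟩ := normal_form hα hp2 _ _ hord htt ht1 hnorm
  apply Cfsg.Agent.S0672.result (K := ZMod p) (p := p) h2 (by rw [hα])
    (even_stabilizer hp2 G e c _ (t0 : G).2 ht1 ht)
  intro f hf
  exact hom_zero hα hp3 G hG e c _ _ (σ0 : G).2 (t0 : G).2 hσ ht f hf

end Cfsg.Agent.S0676

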