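import Cfsg.Statements.S0727
import Cfsg.Agent.Lib.helper6.Sharp3

set_option autoImplicit false
open Cfsg

namespace Cfsg.Agent.S0727

/-- Three distinct points as an embedding of `Fin 3`. -/
def emb3 {α : Type*} (a b c : α) (hab : a ≠ b) (hbc : b ≠ c) (hac : a ≠ c) : Fin 3 ↪ α :=
  ⟨![a, b, c], by
    intro i j hij
    fin_cases i <;> fin_cases j <;> simp_all [Ne.symm hab, Ne.symm hbc, Ne.symm hac]⟩

theorem emb3_0 {α : Type*} (a b c : α) (hab : a ≠ b) (hbc : b ≠ c) (hac : a ≠ c) :
    emb3 a b c hab hbc hac 0 = a := rfl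
theorem emb3_1 {α : Type*} (a b c : α) (hab : a ≠ b) (hbc : b ≠ c) (hac : a ≠ c) :
    emb3 a b c hab hbc hac 1 = b := rfl
theorem emb3_2 {α : Type*} (a b c : α) (hab : a ≠ b) (hbc : b ≠ c) (hac : a ≠ c) :
    emb3 a b c hab hbc hac 2 = c := rfl

/-- A sharply triply transitive permutation group of degree `2^f + 1` is isomorphic to the projective general linear group of degree 2 over the field with `2^f` elements. -/
theorem result {α : Type*} [Fintype α] [DecidableEq α] {f : ℕ} (hf : 1 ≤ f) (hα : Fintype.card α = 2 ^ f + 1) (G : Subgroup (Equiv.Perm α)) (h3 : MulAction.IsMultiplyPretransitive G α 3) (hsharp : ∀ x : Fin 3 ↪ α, MulAction.stabilizer G x = ⊥) : ∃ (F : Type) (_ : Field F) (_ : Fintype F), Fintype.card F = 2 ^ f ∧ Nonempty (G ≃* Matrix.ProjGenLinGroup (Fin 2) F) := by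
  have T3 : ∀ a b c a' b' c' : α, a ≠ b → b ≠ c → a ≠ c → a' ≠ b' → b' ≠ c' → a' ≠ c' →
      ∃ g : G, g • a = a' ∧ g • b = b' ∧ g • c = c' := by
    intro a b c a' b' c' hab hbc hac hab' hbc' hac'
    obtain ⟨g, hg⟩ := h3.exists_smul_eq (emb3 a b c hab hbc hac) (emb3 a' b' c' hab' hbc' hac')
    refine ⟨g, ?_, ?_, ?_⟩
    · have := congrArg (fun x : Fin 3 ↪ α => x 0) hg
      simpa [Function.Embedding.smul_apply, emb3_0] using this
    · have := congrArg (fun x : Fin 3 ↪ α => x 1) hg
      simpa [Function.Embedding.smul_apply, emb3_1] using this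
    · have := congrArg (fun x : Fin 3 ↪ α => x 2) hg
      simpa [Function.Embedding.smul_apply, emb3_2] using this
  have S3 : ∀ g : G, ∀ a b c : α, a ≠ b → b ≠ c → a ≠ c → g • a = a → g • b = b → g • c = c →
      g = 1 := by
    intro g a b c hab hbc hac ha hb hc
    have hmem : g ∈ MulAction.stabilizer G (emb3 a b c hab hbc hac) := by
      rw [MulAction.mem_stabilizer_iff]
      ext i
      have hi : (g • emb3 a b c hab hbc hac) i = g • (emb3 a b c hab hbc hac i) :=
        Function.Embedding.smul_apply _ _ _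
      refine hi.trans ?_
      fin_cases i
      · exact ha
      · exact hb
      · exact hc
    rw [hsharp] at hmem
    exact Subgroup.mem_bot.mp hmem
  have hodd : Odd (Fintype.card α) := by
    rw [hα]
    have : Even (2 ^ f) := (Nat.even_pow' (by omega)).mpr even_two
    exact this.add_one
  have h3le : 2 < Fintype.card α := by
    rw [hα]
    have : 2 ^ 1 ≤ 2 ^ f := Nat.pow_le_pow_right (by norm_num) hf
    omega
  obtain ⟨pinf, p0, p1, hi0, hi1, h01⟩ := Fintype.two_lt_card_iff.mp h3le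
  obtain ⟨F, iF, iFin, hcard, hiso⟩ :=
    Cfsg.Agent.Lib.helper6.Sharp3.sharp3_odd (G := G) (α := α) hodd T3 S3 h01 hi0 hi1
  refine ⟨F, iF, iFin, ?_, hiso⟩
  omega

end Cfsg.Agent.S0727
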