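import Cfsg.Statements.S4706
import Cfsg.Agent.S0676
import Cfsg.Agent.S0727
import Cfsg.Agent.Lib.helper6.Sharp3
import Cfsg.Agent.Lib.helper6.PGLSL
import Cfsg.Agent.Lib.helper8.CountOrder
import Cfsg.Agent.Lib.Helper1.Perm2p.Sharp
import Cfsg.Agent.Lib.Helper1.Perm2p.Solv

set_option autoImplicit false
open Cfsg

namespace Cfsg.Agent.S4706

open MulAction Cfsg.Agent.Lib.Helper1.Perm2p Cfsg.Agent.Lib.helper8

/-- Let p > 2 be a prime and G a permutation group on p letters whose Sylow p-subgroup P has normalizer of order 2p. Then either P is normal in G, or p − 1 = 2^a for some a and G is isomorphic to SL(2, 2^a). -/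
theorem result {α : Type*} [Fintype α] [DecidableEq α] {p : ℕ} [Fact p.Prime] (hp : 2 < p) (hα : Fintype.card α = p) (G : Subgroup (Equiv.Perm α)) (P : Sylow p G) (hN : Nat.card (Subgroup.normalizer ((P : Subgroup G) : Set G)) = 2 * p) : (P : Subgroup G).Normal ∨ ∃ (a : ℕ) (F : Type) (_ : Field F) (_ : Fintype F), p = 2 ^ a + 1 ∧ Fintype.card F = 2 ^ a ∧ Nonempty (G ≃* Matrix.SpecialLinearGroup (Fin 2) F) := by
  classical
  have hpp : p.Prime := Fact.out
  have hNG : Nat.card (Subgroup.normalizer ((P : Subgroup G) : Set G)) ∣ Nat.card G :=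
    Subgroup.card_subgroup_dvd_card _
  have hpG : p ∣ Nat.card G := dvd_trans ⟨2, by rw [hN]; ring⟩ hNG
  obtain ⟨m, hm⟩ := hpG
  have hGfact : Nat.card G ∣ p.factorial := by
    have h1 := Subgroup.card_subgroup_dvd_card G
    rwa [Nat.card_eq_fintype_card (α := Equiv.Perm α), Fintype.card_perm, hα] at h1
  have hpm : ¬ p ∣ m := by
    rintro ⟨m', rfl⟩
    have h1 : p * (p * m') ∣ p * (p - 1).factorial := by
      rw [← hm, Nat.mul_factorial_pred hpp.pos.ne']
      exact hGfact
    have h2 : p * m' ∣ (p - 1).factorial := Nat.dvd_of_mul_dvd_mul_left hpp.pos h1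
    have h3 : p ∣ (p - 1).factorial := dvd_trans (dvd_mul_right p m') h2
    have h4 := (Nat.Prime.dvd_factorial hpp).mp h3
    omega
  obtain ⟨x, hx⟩ := exists_prime_orderOf_dvd_card' (G := G) p ⟨m, hm⟩
  haveI htrans : IsPretransitive G α := by
    have hx' : orderOf (x : Equiv.Perm α) = Fintype.card α := by
      rw [Subgroup.orderOf_coe, hx, hα]
    have hcyc : (x : Equiv.Perm α).IsCycle :=
      Equiv.Perm.isCycle_of_prime_order'' (by rw [hα]; exact hpp) hx'
    have hsupp : (x : Equiv.Perm α).support.card = Fintype.card α := by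
      rw [← hcyc.orderOf, hx']
    have huniv : (x : Equiv.Perm α).support = Finset.univ := Finset.eq_univ_of_card _ hsupp
    have hmv : ∀ a : α, (x : Equiv.Perm α) a ≠ a := by
      intro a
      rw [← Equiv.Perm.mem_support, huniv]
      exact Finset.mem_univ a
    constructor
    intro a b
    obtain ⟨i, hi⟩ := hcyc.exists_pow_eq (hmv a) (hmv b)
    refine ⟨x ^ i, ?_⟩
    rw [Subgroup.smul_def, Subgroup.coe_pow, Equiv.Perm.smul_def]
    exact hi
  by_cases hsolv : IsSolvable G
  · left
    exact normal_of_solvable G p hα hsolv m hm hpm P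
  right
  have h3 : IsMultiplyPretransitive G α 3 :=
    Cfsg.Agent.S0676.result hα G hsolv P (by rw [hN]; exact even_two_mul p)
  have hnp : Nat.card (Sylow p G) * 2 = m := by
    have h1 := (Subgroup.normalizer ((P : Subgroup G) : Set G)).card_mul_index
    have hidx : Nat.card (Sylow p G) = (Subgroup.normalizer ((P : Subgroup G) : Set G)).index :=
      Sylow.card_eq_index_normalizer P
    rw [hN, hm, ← hidx] at h1
    have h2 : p * (2 * Nat.card (Sylow p G)) = p * m := by
      rw [← h1]; ring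
    have h3 := Nat.eq_of_mul_eq_mul_left hpp.pos h2
    omega
  have hE : 2 * p * Nat.card {y : G // orderOf y = p} = (p - 1) * Nat.card G := by
    rw [h8_card_orderOf_eq_prime p m hm hpm, hm, ← hnp]
    ring
  have hsharp : ∀ y : G, 3 ≤ Nat.card (fixedBy α y) → y = 1 :=
    fun y hy => sharp_of_count G p hpp (by omega) hα h3 hE y hy
  have T3 : ∀ a b c a' b' c' : α, a ≠ b → b ≠ c → a ≠ c → a' ≠ b' → b' ≠ c' → a' ≠ c' →
      ∃ g : G, g • a = a' ∧ g • b = b' ∧ g • c = c' := by
    intro a b c a' b' c' hab hbc hac hab' hbc' hac'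
    obtain ⟨g, hg⟩ := h3.exists_smul_eq (Cfsg.Agent.S0727.emb3 a b c hab hbc hac)
      (Cfsg.Agent.S0727.emb3 a' b' c' hab' hbc' hac')
    refine ⟨g, ?_, ?_, ?_⟩
    · have := congrArg (fun x : Fin 3 ↪ α => x 0) hg
      simpa [Function.Embedding.smul_apply, Cfsg.Agent.S0727.emb3_0] using this
    · have := congrArg (fun x : Fin 3 ↪ α => x 1) hg
      simpa [Function.Embedding.smul_apply, Cfsg.Agent.S0727.emb3_1] using this
    · have := congrArg (fun x : Fin 3 ↪ α => x 2) hg
      simpa [Function.Embedding.smul_apply, Cfsg.Agent.S0727.emb3_2] using this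
  have S3 : ∀ g : G, ∀ a b c : α, a ≠ b → b ≠ c → a ≠ c → g • a = a → g • b = b → g • c = c →
      g = 1 := by
    intro g a b c hab hbc hac ha hb hc
    apply hsharp g
    rw [Nat.card_coe_set_eq]
    have hsub : ({a, b, c} : Set α) ⊆ fixedBy α g := by
      intro z hz
      rcases hz with rfl | rfl | rfl
      · exact ha
      · exact hb
      · exact hc
    have h3c : ({a, b, c} : Set α).ncard = 3 := by
      rw [Set.ncard_eq_three]
      exact ⟨a, b, c, hab, hac, hbc, rfl⟩
    rw [← h3c]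
    exact Set.ncard_le_ncard hsub (Set.toFinite _)
  have hodd : Odd (Fintype.card α) := by
    rw [hα]
    exact hpp.odd_of_ne_two (by omega)
  have h3le : 2 < Fintype.card α := by rw [hα]; exact hp
  obtain ⟨pinf, p0, p1, hi0, hi1, h01⟩ := Fintype.two_lt_card_iff.mp h3le
  obtain ⟨F, iF, iFin, hcard, ⟨e⟩⟩ :=
    Cfsg.Agent.Lib.helper6.Sharp3.sharp3_odd (G := G) (α := α) hodd T3 S3 h01 hi0 hi1
  obtain ⟨q, hq, n, hqp, hqn⟩ := FiniteField.card' F
  have hcF : Fintype.card F = p - 1 := by
    rw [hα] at hcard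
    omega
  have hev : Even (Fintype.card F) := by
    rw [hcF]
    exact hpp.even_sub_one (by omega)
  have hq2 : q = 2 := by
    rw [hqn] at hev
    have h1 : Even q := (Nat.even_pow.mp hev).1
    exact ((Nat.Prime.even_iff hqp).mp h1)
  subst hq2
  have h2F : (2 : F) = 0 := by
    have := CharP.cast_eq_zero F 2
    exact_mod_cast this
  obtain ⟨e2⟩ := Cfsg.Agent.Lib.helper6.PGLSL.nonempty_PGL2_mulEquiv_SL2 (F := F) h2F
  refine ⟨(n : ℕ), F, iF, iFin, ?_, hqn, ⟨e.trans e2⟩⟩
  rw [← hqn, hcF]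
  omega

end Cfsg.Agent.S4706
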