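import Cfsg.Statements.S1013
import Mathlib

set_option autoImplicit false
open Cfsg

namespace Cfsg.Agent.S1013

open Subgroup MulAction

theorem card_dvd_of_trans {Γ α : Type*} [Group Γ] [MulAction Γ α] [IsPretransitive Γ α]
    [Finite Γ] [Nonempty α] : Nat.card α ∣ Nat.card Γ := by
  obtain ⟨a⟩ := ‹Nonempty α›
  rw [← index_stabilizer_of_transitive Γ a]
  exact Subgroup.index_dvd_card _

theorem trans_of_normal {Γ α : Type*} [Group Γ] [MulAction Γ α] [FaithfulSMul Γ α]
    [IsPretransitive Γ α] (hα : (Nat.card α).Prime) (N : Subgroup Γ) [N.Normal] (hN : N ≠ ⊥) :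
    IsPretransitive N α := by
  haveI : IsPreprimitive Γ α := IsPreprimitive.of_prime_card hα
  apply IsQuasiPreprimitive.isPretransitive_of_normal (G := Γ)
  intro h
  apply hN
  rw [Subgroup.eq_bot_iff_forall]
  intro n hn
  apply FaithfulSMul.eq_of_smul_eq_smul (α := α)
  intro a
  have : a ∈ fixedPoints N α := by rw [h]; trivial
  rw [one_smul]
  exact this ⟨n, hn⟩

theorem not_sq_dvd {Γ α : Type*} [Group Γ] [Finite Γ] [Finite α] [MulAction Γ α] [FaithfulSMul Γ α]
    {p : ℕ} (hp : p.Prime) (hα : Nat.card α = p) : ¬ p ^ 2 ∣ Nat.card Γ := by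
  intro h
  have hinj : Function.Injective (MulAction.toPermHom Γ α) := MulAction.toPerm_injective
  have h1 : Nat.card Γ ∣ Nat.card (Equiv.Perm α) := Subgroup.card_dvd_of_injective _ hinj
  rw [Nat.card_perm, hα] at h1
  have h2 : p ^ 2 ∣ p.factorial := h.trans h1
  obtain ⟨k, rfl⟩ : ∃ k, p = k + 1 := ⟨p - 1, (Nat.succ_pred_eq_of_pos hp.pos).symm⟩
  rw [Nat.factorial_succ, pow_two] at h2
  have h3 : (k + 1) ∣ k.factorial := Nat.dvd_of_mul_dvd_mul_left (Nat.succ_pos k) h2
  have := (hp.dvd_factorial).mp h3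
  omega

theorem sylow_card {Γ : Type*} [Group Γ] [Finite Γ] {p : ℕ} [hp : Fact p.Prime]
    (hdvd : p ∣ Nat.card Γ) (hsq : ¬ p ^ 2 ∣ Nat.card Γ) (P : Sylow p Γ) :
    Nat.card (P : Subgroup Γ) = p := by
  obtain ⟨k, hk⟩ := (IsPGroup.iff_card.mp P.isPGroup')
  have h1 : p ∣ Nat.card (P : Subgroup Γ) := P.dvd_card_of_dvd_card hdvd
  have h2 : Nat.card (P : Subgroup Γ) ∣ Nat.card Γ := Subgroup.card_subgroup_dvd_card _
  rcases k with _ | _ | k
  · rw [hk, pow_zero] at h1
    exact absurd (Nat.le_of_dvd one_pos h1) (by have := hp.out.two_le; omega)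
  · rw [hk]; simp
  · exfalso
    apply hsq
    refine dvd_trans ?_ h2
    rw [hk]
    exact pow_dvd_pow p (by omega)

theorem le_normal_of_dvd {Γ : Type*} [Group Γ] [Finite Γ] {p : ℕ} [hp : Fact p.Prime]
    (P : Sylow p Γ) (hP : Nat.card (P : Subgroup Γ) = p) (N : Subgroup Γ) [N.Normal]
    (hN : p ∣ Nat.card N) : (P : Subgroup Γ) ≤ N := by
  obtain ⟨x, hx⟩ := exists_prime_orderOf_dvd_card' p hN
  have hx' : orderOf (x : Γ) = p := by rw [Subgroup.orderOf_coe]; exact hx
  have hpg : IsPGroup p (zpowers (x : Γ)) := by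
    rw [IsPGroup.iff_card]
    exact ⟨1, by rw [Nat.card_zpowers, hx', pow_one]⟩
  obtain ⟨R, hR⟩ := hpg.exists_le_sylow
  have hRc : Nat.card (R : Subgroup Γ) = p := by
    rw [Sylow.card_eq_multiplicity] at hP ⊢
    exact hP
  have hRe : zpowers (x : Γ) = (R : Subgroup Γ) := by
    apply Subgroup.eq_of_le_of_card_ge hR
    rw [hRc, Nat.card_zpowers, hx']
  obtain ⟨g, hg⟩ := MulAction.exists_smul_eq Γ R P
  intro y hy
  rw [← hg, Sylow.smul_def, Sylow.pointwise_smul_def, Subgroup.mem_pointwise_smul_iff_inv_smul_mem] at hy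
  rw [← hRe] at hy
  have h3 : zpowers (x : Γ) ≤ N := by
    rw [zpowers_le]; exact x.2
  have h4 := h3 hy
  rw [MulAut.smul_def, MulAut.conj_inv_apply] at h4
  have := ‹N.Normal›.conj_mem _ h4 g
  simpa [mul_assoc] using this

theorem main {Γ α : Type*} [Group Γ] [Finite Γ] [MulAction Γ α] [FaithfulSMul Γ α]
    [IsPretransitive Γ α] {p : ℕ} [hp : Fact p.Prime] (hα : Nat.card α = p) (P : Sylow p Γ)
    (hn : 1 < Nat.card (Sylow p Γ))
    (ht : ((P : Subgroup Γ).subgroupOf (normalizer ((P : Subgroup Γ) : Set Γ))).index.Prime) :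
    IsSimpleGroup Γ := by
  have hαp : (Nat.card α).Prime := hα ▸ hp.out
  haveI : Finite α := Nat.finite_of_card_ne_zero hαp.ne_zero
  haveI : Nonempty α := (Nat.card_pos_iff.mp hαp.pos).1
  have hdvd : p ∣ Nat.card Γ := hα ▸ card_dvd_of_trans (Γ := Γ) (α := α)
  have hsq : ¬ p ^ 2 ∣ Nat.card Γ := not_sq_dvd hp.out hα
  have hPc := sylow_card hdvd hsq P
  haveI : Nontrivial Γ := by
    rw [← Finite.one_lt_card_iff_nontrivial]
    exact lt_of_lt_of_le hp.out.one_lt (Nat.le_of_dvd Nat.card_pos hdvd)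
  refine ⟨fun N hN => ?_⟩
  by_contra hcon
  push Not at hcon
  obtain ⟨hNb, hNt⟩ := hcon
  haveI := hN
  haveI hNtr : IsPretransitive N α := trans_of_normal hαp N hNb
  have hpN : p ∣ Nat.card N := hα ▸ card_dvd_of_trans (Γ := N) (α := α)
  have hPN : (P : Subgroup Γ) ≤ N := le_normal_of_dvd P hPc N hpN
  have hfr : normalizer ((P : Subgroup Γ) : Set Γ) ⊔ N = ⊤ := P.normalizer_sup_eq_top' hPN
  set M := normalizer ((P : Subgroup Γ) : Set Γ) with hM
  have hPM : (P : Subgroup Γ) ≤ M := le_normalizer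
  have ht' : ((P : Subgroup Γ).relIndex M).Prime := ht
  have hmul : (P : Subgroup Γ).relIndex (N ⊓ M) * (N ⊓ M).relIndex M = (P : Subgroup Γ).relIndex M :=
    relIndex_mul_relIndex _ _ _ (le_inf hPN hPM) inf_le_right
  have hcases : (P : Subgroup Γ).relIndex (N ⊓ M) = 1 ∨ (N ⊓ M).relIndex M = 1 := by
    have hd : (P : Subgroup Γ).relIndex (N ⊓ M) ∣ (P : Subgroup Γ).relIndex M := ⟨_, hmul.symm⟩
    rcases (Nat.dvd_prime ht').mp hd with h | h
    · exact Or.inl h
    · right
      rw [h] at hmul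
      have hpos : 0 < (P : Subgroup Γ).relIndex M := ht'.pos
      exact Nat.eq_of_mul_eq_mul_left hpos (by rw [hmul, mul_one])
  rcases hcases with h1 | h1
  · -- N ⊓ M ≤ P : the normal p-complement case
    have hNMP : N ⊓ M ≤ (P : Subgroup Γ) := relIndex_eq_one.mp h1
    set P' : Sylow p N := P.subtype hPN with hP'
    have hP'coe : (P' : Subgroup N) = (P : Subgroup Γ).subgroupOf N := Sylow.coe_subtype _ _
    haveI hcyc : IsCyclic (P : Subgroup Γ) := isCyclic_of_prime_card hPc
    have hcomm : ∀ a ∈ (P : Subgroup Γ), ∀ b ∈ (P : Subgroup Γ), a * b = b * a := by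
      intro a ha b hb
      have := (IsCyclic.isMulCommutative (α := (P : Subgroup Γ))).is_comm.comm ⟨a, ha⟩ ⟨b, hb⟩
      exact congrArg Subtype.val this
    have hnc : normalizer ((P' : Subgroup N) : Set N) ≤ centralizer ((P' : Subgroup N) : Set N) := by
      intro n hn
      have hnM : (n : Γ) ∈ M := by
        rw [hM, mem_normalizer_iff]
        intro y
        constructor
        · intro hy
          have hyN : y ∈ N := hPN hy
          have := (mem_normalizer_iff.mp hn ⟨y, hyN⟩).mp (by rw [hP'coe, mem_subgroupOf]; exact hy)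
          rw [hP'coe, mem_subgroupOf] at this
          exact this
        · intro hy
          have hyN : y ∈ N := by
            have := hPN hy
            have h2 := N.mul_mem (N.mul_mem (N.inv_mem n.2) this) n.2
            simpa [mul_assoc] using h2
          have := (mem_normalizer_iff.mp hn ⟨y, hyN⟩).mpr (by rw [hP'coe, mem_subgroupOf]; exact hy)
          rw [hP'coe, mem_subgroupOf] at this
          exact this
      have hnP : (n : Γ) ∈ (P : Subgroup Γ) := hNMP (mem_inf.mpr ⟨n.2, hnM⟩)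
      rw [mem_centralizer_iff]
      intro y hy
      rw [SetLike.mem_coe, hP'coe, mem_subgroupOf] at hy
      apply Subtype.ext
      exact hcomm _ hy _ hnP
    have hc := MonoidHom.ker_transferSylow_isComplement' P' hnc
    set K := (MonoidHom.transferSylow P' hnc).ker with hK
    have hcard := hc.card_mul_card
    have hP'c : Nat.card (P' : Subgroup N) = p := by
      rw [hP'coe]
      exact (Nat.card_congr (subgroupOfEquivOfLe hPN).toEquiv).trans hPc
    rw [hP'c] at hcard
    have hsqN : ¬ p ^ 2 ∣ Nat.card N := not_sq_dvd (α := α) hp.out hα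
    have hKb : K = ⊥ := by
      by_contra hKne
      haveI : IsPretransitive K α := trans_of_normal hαp K hKne
      have hpK : p ∣ Nat.card K := hα ▸ card_dvd_of_trans (Γ := K) (α := α)
      apply hsqN
      rw [← hcard, pow_two]
      exact Nat.mul_dvd_mul_right hpK p
    rw [hKb, card_bot, one_mul] at hcard
    have hPNeq : (P : Subgroup Γ) = N := by
      apply Subgroup.eq_of_le_of_card_ge hPN
      rw [hPc, hcard]
    have hPnorm : (P : Subgroup Γ).Normal := hPNeq ▸ hN
    have := Sylow.unique_of_normal P hPnorm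
    have h2 : Nat.card (Sylow p Γ) = 1 := Nat.card_unique
    omega
  · have hMN : M ≤ N ⊓ M := relIndex_eq_one.mp h1
    have hMN' : M ≤ N := hMN.trans inf_le_left
    rw [sup_of_le_right hMN'] at hfr
    exact hNt hfr

theorem result {α : Type*} [Fintype α] [DecidableEq α] {p : ℕ} [Fact p.Prime] (hα : Fintype.card α = p) (G : Subgroup (Equiv.Perm α)) [MulAction.IsPretransitive ↥G α] (P : Sylow p ↥G) (hn : 1 < Nat.card (Sylow p ↥G)) (ht : (((P : Subgroup ↥G).subgroupOf (Subgroup.normalizer ((P : Subgroup ↥G) : Set ↥G))).index).Prime) : IsSimpleGroup ↥G := by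
  have hα' : Nat.card α = p := by rw [Nat.card_eq_fintype_card]; exact hα
  exact main hα' P hn ht

end Cfsg.Agent.S1013
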