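import Cfsg.Statements.S0262
import Cfsg.Agent.Lib.helper14.CyclicSylow
import Cfsg.Agent.Lib.helper14.SL2Card
import Cfsg.Agent.Lib.helper14.SL2Odd

set_option autoImplicit false
set_option linter.unusedSectionVars false
open Cfsg

namespace Cfsg.Agent.S0262

open Cfsg.Agent.Lib.helper14

section torus
variable {K : Type*} [Field K]

def tS (a : Kˣ) : Matrix.SpecialLinearGroup (Fin 2) K :=
  ⟨!![(a : K), 0; 0, ((a⁻¹ : Kˣ) : K)], by
    rw [Matrix.det_fin_two_of, mul_zero, sub_zero, ← Units.val_mul, mul_inv_cancel, Units.val_one]⟩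

theorem tS_coe (a : Kˣ) : ((tS a : Matrix.SpecialLinearGroup (Fin 2) K) : Matrix (Fin 2) (Fin 2) K) =
    !![(a : K), 0; 0, ((a⁻¹ : Kˣ) : K)] := rfl

def tSHom : Kˣ →* Matrix.SpecialLinearGroup (Fin 2) K where
  toFun := tS
  map_one' := by
    apply Subtype.ext
    rw [tS_coe, sl2_coe_one, Matrix.one_fin_two]
    simp
  map_mul' a b := by
    apply Subtype.ext
    rw [sl2_coe_mul, tS_coe, tS_coe, tS_coe, Matrix.mul_fin_two]
    apply m2_congr
    · simp
    · simp
    · simp
    · rw [mul_inv, Units.val_mul]; ring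

theorem tSHom_injective : Function.Injective (tSHom (K := K)) := by
  intro a b h
  have h' : tS a = tS b := h
  have := congrArg (fun g : Matrix.SpecialLinearGroup (Fin 2) K => (g : Matrix (Fin 2) (Fin 2) K) 0 0) h'
  apply Units.ext
  simpa [tS_coe] using this

theorem card_torus [Finite K] : Nat.card (tSHom (K := K)).range = Nat.card K - 1 := by
  rw [← Nat.card_congr (MonoidHom.ofInjective (tSHom_injective (K := K))).toEquiv, Nat.card_units]

instance torus_cyclic [Finite K] : IsCyclic (tSHom (K := K)).range :=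
  isCyclic_of_surjective (tSHom (K := K)).rangeRestrict (tSHom (K := K)).rangeRestrict_surjective

theorem torus_index [Fintype K] :
    (tSHom (K := K)).range.index = Fintype.card K * (Fintype.card K + 1) := by
  have h1 := Subgroup.card_mul_index (tSHom (K := K)).range
  rw [card_torus, card_sl2, Nat.card_eq_fintype_card] at h1
  have hq : 1 < Fintype.card K := Fintype.one_lt_card
  obtain ⟨k, hk⟩ : ∃ k, Fintype.card K = k + 1 := ⟨Fintype.card K - 1, by omega⟩
  rw [hk] at h1 ⊢
  have e1 : (k + 1) ^ 2 - 1 = k * (k + 2) := by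
    have : (k + 1) ^ 2 = k * (k + 2) + 1 := by ring
    rw [this]; omega
  have e2 : k + 1 - 1 = k := by omega
  rw [e1, e2] at h1
  have hk0 : 0 < k := by omega
  apply Nat.eq_of_mul_eq_mul_left hk0
  rw [h1]
  ring

end torus

theorem map_injective {F K : Type*} [Field F] [Field K] (φ : F →+* K) :
    Function.Injective (Matrix.SpecialLinearGroup.map (n := Fin 2) φ) := by
  intro a b h
  apply Subtype.ext
  ext i j
  have h1 := congrArg (fun g : Matrix.SpecialLinearGroup (Fin 2) K => (g : Matrix (Fin 2) (Fin 2) K) i j) h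
  simp only [Matrix.SpecialLinearGroup.map_apply_coe, RingHom.mapMatrix_apply, Matrix.map_apply] at h1
  exact φ.injective h1

theorem result {F : Type*} [Field F] [Fintype F] (p : ℕ) [Fact p.Prime] [CharP F p] (r : ℕ) [Fact r.Prime] (hr : r ≠ 2) (hrp : r ≠ p) (R : Sylow r (Matrix.SpecialLinearGroup (Fin 2) F)) : IsCyclic (R : Subgroup (Matrix.SpecialLinearGroup (Fin 2) F)) := by
  have hrprime : r.Prime := Fact.out
  have hpprime : p.Prime := Fact.out
  obtain ⟨n, -, hq⟩ := FiniteField.card F p
  have hrq : ¬ r ∣ Fintype.card F := by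
    intro h
    rw [hq] at h
    have := hrprime.dvd_of_dvd_pow h
    exact hrp ((Nat.prime_dvd_prime_iff_eq hrprime hpprime).mp this)
  have hq1 : 1 < Fintype.card F := Fintype.one_lt_card
  by_cases hdiv : r ∣ Fintype.card F ^ 2 - 1
  · haveI : Fintype (FiniteField.Extension F p 2) := Fintype.ofFinite _
    have hcardK : Fintype.card (FiniteField.Extension F p 2) = Fintype.card F ^ 2 := by
      rw [← Nat.card_eq_fintype_card, FiniteField.natCard_extension, Nat.card_eq_fintype_card]
    have hT : ¬ r ∣ (tSHom (K := FiniteField.Extension F p 2)).range.index := by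
      rw [torus_index, hcardK]
      intro h
      rcases (Nat.Prime.dvd_mul hrprime).mp h with h | h
      · exact hrq (hrprime.dvd_of_dvd_pow h)
      · have h2 := Nat.dvd_sub h hdiv
        have hq2 : 1 ≤ Fintype.card F ^ 2 := Nat.one_le_pow _ _ (by omega)
        have : Fintype.card F ^ 2 + 1 - (Fintype.card F ^ 2 - 1) = 2 := by omega
        rw [this] at h2
        exact hr ((Nat.prime_dvd_prime_iff_eq hrprime Nat.prime_two).mp h2)
    exact isCyclic_of_injective_of_cyclic_index (r := r) (tSHom (K := FiniteField.Extension F p 2)).range hT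
      R.isPGroup'
      ((Matrix.SpecialLinearGroup.map (n := Fin 2) (algebraMap F (FiniteField.Extension F p 2))).comp
        (R : Subgroup (Matrix.SpecialLinearGroup (Fin 2) F)).subtype)
      ((map_injective _).comp (Subgroup.subtype_injective _))
  · have hcard : Nat.card (R : Subgroup (Matrix.SpecialLinearGroup (Fin 2) F)) = 1 := by
      obtain ⟨k, hk⟩ := (IsPGroup.iff_card.mp R.isPGroup')
      have hdvd := Subgroup.card_subgroup_dvd_card (R : Subgroup (Matrix.SpecialLinearGroup (Fin 2) F))
      rw [hk, card_sl2] at hdvd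
      rcases Nat.eq_zero_or_pos k with hk0 | hk0
      · rw [hk, hk0, pow_zero]
      · exfalso
        have h1 : r ∣ Fintype.card F * (Fintype.card F ^ 2 - 1) := (dvd_pow_self r hk0.ne').trans hdvd
        rcases (Nat.Prime.dvd_mul hrprime).mp h1 with h | h
        · exact hrq h
        · exact hdiv h
    haveI : Subsingleton (R : Subgroup (Matrix.SpecialLinearGroup (Fin 2) F)) :=
      (Nat.card_eq_one_iff_unique.mp hcard).1
    exact isCyclic_of_subsingleton

end Cfsg.Agent.S0262
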