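import Cfsg.Statements.S0261
import Cfsg.Agent.Lib.helper14.Quat
import Cfsg.Agent.Lib.helper14.SL2Odd
import Cfsg.Agent.Lib.helper14.SL2Card
import Cfsg.Agent.S0262

set_option autoImplicit false
set_option linter.unusedSectionVars false
open Cfsg

namespace Cfsg.Agent.S0261

open Cfsg.Agent.Lib.helper14

theorem arith (q : ℕ) (hq : Odd q) (hq1 : 1 < q) :
    ∃ m : ℕ, 2 ≤ m ∧ (2 ^ m ∣ q - 1 ∨ 2 ^ m ∣ q + 1) ∧ ∃ c, Odd c ∧ q * (q ^ 2 - 1) = 2 ^ (m + 1) * c := by
  obtain ⟨j, hj⟩ := hq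
  rcases Nat.even_or_odd' j with ⟨i, hi | hi⟩
  · have hi0 : i ≠ 0 := by omega
    obtain ⟨e, a, ha, hia⟩ := Nat.exists_eq_two_pow_mul_odd hi0
    refine ⟨e + 2, by omega, Or.inl ?_, q * (a * (2 * i + 1)), ?_, ?_⟩
    · have : q - 1 = 2 ^ (e + 2) * a := by
        have : q - 1 = 4 * i := by omega
        rw [this, hia]; ring
      rw [this]
      exact dvd_mul_right _ _
    · refine Odd.mul ⟨j, hj⟩ (Odd.mul ha ⟨i, rfl⟩)
    · have h1 : q ^ 2 - 1 = (4 * i) * (4 * i + 2) := by
        have : q ^ 2 = (4 * i) * (4 * i + 2) + 1 := by rw [hj, hi]; ring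
        rw [this]; omega
      rw [h1]
      have h2 : 4 * i * (4 * i + 2) = 2 ^ (e + 2 + 1) * (a * (2 * i + 1)) := by
        calc 4 * i * (4 * i + 2) = 8 * i * (2 * i + 1) := by ring
          _ = 8 * (2 ^ e * a) * (2 * i + 1) := by rw [← hia]
          _ = 2 ^ (e + 2 + 1) * (a * (2 * i + 1)) := by ring
      rw [h2]
      ring
  · obtain ⟨e, a, ha, hia⟩ := Nat.exists_eq_two_pow_mul_odd (Nat.succ_ne_zero i)
    refine ⟨e + 2, by omega, Or.inr ?_, q * (a * (2 * i + 1)), ?_, ?_⟩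
    · have : q + 1 = 2 ^ (e + 2) * a := by
        have : q + 1 = 4 * (i + 1) := by omega
        rw [this, ← Nat.succ_eq_add_one, hia]; ring
      rw [this]
      exact dvd_mul_right _ _
    · refine Odd.mul ⟨j, hj⟩ (Odd.mul ha ⟨i, rfl⟩)
    · have h1 : q ^ 2 - 1 = (4 * (i + 1)) * (4 * i + 2) := by
        have : q ^ 2 = (4 * (i + 1)) * (4 * i + 2) + 1 := by rw [hj, hi]; ring
        rw [this]; omega
      rw [h1]
      have h2 : 4 * (i + 1) * (4 * i + 2) = 2 ^ (e + 2 + 1) * (a * (2 * i + 1)) := by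
        calc 4 * (i + 1) * (4 * i + 2) = 8 * (i + 1) * (2 * i + 1) := by ring
          _ = 8 * (2 ^ e * a) * (2 * i + 1) := by rw [← hia]
          _ = 2 ^ (e + 2 + 1) * (a * (2 * i + 1)) := by ring
      rw [h2]
      ring

section
variable {F : Type*} [Field F] [Fintype F]

local notation "SL2" => Matrix.SpecialLinearGroup (Fin 2) F
local notation "M2" => Matrix (Fin 2) (Fin 2) F

theorem two_ne_zero_of_odd (hodd : Fintype.card F % 2 = 1) : (2 : F) ≠ 0 := by
  apply Ring.two_ne_zero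
  intro h
  have := FiniteField.even_card_of_char_two h
  omega

theorem neg_one_coe : (((-1 : SL2)) : M2) = !![-1, 0; 0, -1] := by
  rw [Matrix.SpecialLinearGroup.coe_neg, sl2_coe_one, Matrix.one_fin_two]
  ext i j
  fin_cases i <;> fin_cases j <;> simp

/-- the unique involution of `SL₂` in odd characteristic -/
theorem eq_neg_one_of_sq (h2 : (2 : F) ≠ 0) (u : SL2) (hu : u * u = 1) (hu1 : u ≠ 1) : u = -1 := by
  have hd := sl2_det u
  have hu' : (u : M2) * (u : M2) = 1 := by rw [← sl2_coe_mul, hu, sl2_coe_one]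
  obtain ⟨a, ha⟩ : ∃ a, (u : M2) 0 0 = a := ⟨_, rfl⟩
  obtain ⟨b, hb⟩ : ∃ b, (u : M2) 0 1 = b := ⟨_, rfl⟩
  obtain ⟨c, hc⟩ : ∃ c, (u : M2) 1 0 = c := ⟨_, rfl⟩
  obtain ⟨d, hd'⟩ : ∃ d, (u : M2) 1 1 = d := ⟨_, rfl⟩
  have hueta : (u : M2) = !![a, b; c, d] := by rw [Matrix.eta_fin_two (u : M2), ha, hb, hc, hd']
  rw [ha, hb, hc, hd'] at hd
  rw [hueta, Matrix.mul_fin_two, Matrix.one_fin_two, m2_eq_iff] at hu'
  obtain ⟨e1, e2, e3, e4⟩ := hu'
  have hs : (a + d) * a = 2 := by linear_combination e1 + hd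
  have hs0 : a + d ≠ 0 := by
    intro h0
    rw [h0, zero_mul] at hs
    exact h2 hs.symm
  have hb0 : b = 0 := by
    have : (a + d) * b = 0 := by linear_combination e2
    rcases mul_eq_zero.mp this with h | h
    · exact absurd h hs0
    · exact h
  have hc0 : c = 0 := by
    have : (a + d) * c = 0 := by linear_combination e3
    rcases mul_eq_zero.mp this with h | h
    · exact absurd h hs0
    · exact h
  have had : a = d := by
    have : (a + d) * (a - d) = 0 := by linear_combination e1 - e4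
    rcases mul_eq_zero.mp this with h | h
    · exact absurd h hs0
    · exact sub_eq_zero.mp h
  have hsc : IsScalar2 (u : M2) := ⟨by rw [hb, hb0], by rw [hc, hc0], by rw [ha, hd', had]⟩
  rcases scalar_sl2 u hsc with h | h
  · exact absurd h hu1
  · exact h

/-- an element inverting the companion element squares to `-1` -/
theorem sq_of_inverts (τ : F) (w : SL2) (hw : w * CmatSL τ * w⁻¹ = (CmatSL τ)⁻¹) : w * w = -1 := by
  have h1 : w * CmatSL τ = (CmatSL τ)⁻¹ * w := by
    rw [← hw]; group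
  have h2 : (w : M2) * !![0, -1; 1, τ] = !![τ, 1; -1, 0] * (w : M2) := by
    have := congrArg (fun x : SL2 => (x : M2)) h1
    simp only [sl2_coe_mul, CmatSL_coe, Matrix.SpecialLinearGroup.coe_inv] at this
    have hadj : (compMat τ 1).adjugate = !![τ, 1; -1, 0] := by
      rw [compMat, Matrix.adjugate_fin_two_of, neg_neg]
    have hcomp : compMat τ 1 = !![0, -1; 1, τ] := rfl
    rw [hadj, hcomp] at this
    exact this
  have hd := sl2_det w
  obtain ⟨a, ha⟩ : ∃ a, (w : M2) 0 0 = a := ⟨_, rfl⟩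
  obtain ⟨b, hb⟩ : ∃ b, (w : M2) 0 1 = b := ⟨_, rfl⟩
  obtain ⟨c, hc⟩ : ∃ c, (w : M2) 1 0 = c := ⟨_, rfl⟩
  obtain ⟨d, hd'⟩ : ∃ d, (w : M2) 1 1 = d := ⟨_, rfl⟩
  have hweta : (w : M2) = !![a, b; c, d] := by rw [Matrix.eta_fin_two (w : M2), ha, hb, hc, hd']
  rw [ha, hb, hc, hd'] at hd
  rw [hweta, Matrix.mul_fin_two, Matrix.mul_fin_two, m2_eq_iff] at h2
  obtain ⟨-, e2, -, -⟩ := h2
  have hda : d = -a := by linear_combination -e2
  apply Subtype.ext
  rw [sl2_coe_mul, neg_one_coe, hweta, Matrix.mul_fin_two]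
  rw [hda] at hd ⊢
  apply m2_congr
  · linear_combination (-1 : F) * hd
  · ring
  · ring
  · linear_combination (-1 : F) * hd

theorem exists_elt (m : ℕ) (hm : 2 ≤ m) (hdiv : 2 ^ m ∣ Fintype.card F - 1 ∨ 2 ^ m ∣ Fintype.card F + 1) :
    ∃ τ₀ : F, τ₀ * τ₀ ≠ 4 ∧ orderOf (CmatSL τ₀ : SL2) = 2 ^ m := by
  obtain ⟨p, hp⟩ := CharP.exists F
  haveI := hp
  haveI : Fact p.Prime := ⟨CharP.char_is_prime F p⟩
  have hq1 : 1 < Fintype.card F := Fintype.one_lt_card
  haveI : Fintype (FiniteField.Extension F p 2) := Fintype.ofFinite _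
  have hcardK : Nat.card (FiniteField.Extension F p 2) = Fintype.card F ^ 2 := by
    rw [FiniteField.natCard_extension, Nat.card_eq_fintype_card]
  have hq2 : 1 ≤ Fintype.card F ^ 2 := Nat.one_le_pow _ _ (by omega)
  have hN : Nat.card (FiniteField.Extension F p 2)ˣ = Fintype.card F ^ 2 - 1 := by
    rw [Nat.card_units, hcardK]
  have hfac : Fintype.card F ^ 2 - 1 = (Fintype.card F - 1) * (Fintype.card F + 1) := by
    obtain ⟨k, hk⟩ : ∃ k, Fintype.card F = k + 1 := ⟨Fintype.card F - 1, by omega⟩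
    rw [hk]
    have : (k + 1) ^ 2 = k * (k + 1 + 1) + 1 := by ring
    rw [this]
    simp
  have hdvdN : 2 ^ m ∣ Fintype.card F ^ 2 - 1 := by
    rw [hfac]
    rcases hdiv with h | h
    · exact h.mul_right _
    · exact h.mul_left _
  obtain ⟨g, hg⟩ := IsCyclic.exists_ofOrder_eq_natCard (α := (FiniteField.Extension F p 2)ˣ)
  rw [hN] at hg
  have hg0 : orderOf g ≠ 0 := by
    rw [hg, hfac]
    exact Nat.mul_ne_zero (by omega) (by omega)
  obtain ⟨ζ, hζ⟩ : ∃ ζ : (FiniteField.Extension F p 2)ˣ, orderOf ζ = 2 ^ m :=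
    ⟨_, orderOf_pow_orderOf_div hg0 (hg ▸ hdvdN)⟩
  have hζq : ζ ^ Fintype.card F = ζ ∨ ζ ^ Fintype.card F = ζ⁻¹ := by
    rcases hdiv with h | h
    · left
      have h1 : ζ ^ (Fintype.card F - 1) = 1 := orderOf_dvd_iff_pow_eq_one.mp (hζ ▸ h)
      have : Fintype.card F = Fintype.card F - 1 + 1 := by omega
      rw [this, pow_succ, h1, one_mul]
    · right
      have h1 : ζ ^ (Fintype.card F + 1) = 1 := orderOf_dvd_iff_pow_eq_one.mp (hζ ▸ h)
      rw [pow_succ] at h1
      exact eq_inv_of_mul_eq_one_left h1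
  have hζ2 : ζ * ζ ≠ 1 := by
    intro h
    have h1 : orderOf ζ ∣ 2 := orderOf_dvd_of_pow_eq_one (by rw [pow_two]; exact h)
    rw [hζ] at h1
    have h2 : 2 ^ 2 ∣ 2 ^ m := pow_dvd_pow 2 hm
    have := Nat.le_of_dvd (by norm_num) (h2.trans h1)
    omega
  have hfix : ∀ f : Gal(FiniteField.Extension F p 2/F),
      f ((ζ : FiniteField.Extension F p 2) + ((ζ⁻¹ : (FiniteField.Extension F p 2)ˣ) : FiniteField.Extension F p 2)) =
        (ζ : FiniteField.Extension F p 2) + ((ζ⁻¹ : (FiniteField.Extension F p 2)ˣ) : FiniteField.Extension F p 2) := by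
    have hfrob : FiniteField.Extension.frob F p 2
        ((ζ : FiniteField.Extension F p 2) + ((ζ⁻¹ : (FiniteField.Extension F p 2)ˣ) : FiniteField.Extension F p 2)) =
        (ζ : FiniteField.Extension F p 2) + ((ζ⁻¹ : (FiniteField.Extension F p 2)ˣ) : FiniteField.Extension F p 2) := by
      rw [map_add, FiniteField.Extension.frob_apply, FiniteField.Extension.frob_apply, Nat.card_eq_fintype_card,
        ← Units.val_pow_eq_pow_val, ← Units.val_pow_eq_pow_val, inv_pow]
      rcases hζq with h | h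
      · rw [h]
      · rw [h, inv_inv, add_comm]
    intro f
    obtain ⟨i, -, rfl⟩ := FiniteField.Extension.exists_frob_pow_eq F p 2 f
    induction i with
    | zero => simp
    | succ k ih => rw [pow_succ, AlgEquiv.mul_apply, hfrob, ih]
  obtain ⟨τ₀, hτ₀⟩ := (IsGalois.mem_range_algebraMap_iff_fixed _).mpr hfix
  refine ⟨τ₀, ?_, ?_⟩
  · intro h4
    have h5 := congrArg (algebraMap F (FiniteField.Extension F p 2)) h4
    rw [map_mul, hτ₀] at h5
    apply hζ2
    apply Units.ext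
    rw [Units.val_mul, Units.val_one]
    have hinv : (ζ : FiniteField.Extension F p 2) * ((ζ⁻¹ : (FiniteField.Extension F p 2)ˣ) : FiniteField.Extension F p 2) = 1 := by
      rw [← Units.val_mul, mul_inv_cancel, Units.val_one]
    have h4' : (algebraMap F (FiniteField.Extension F p 2)) 4 = 4 := by
      rw [map_ofNat]
    rw [h4'] at h5
    have h6 : ((ζ : FiniteField.Extension F p 2) - ((ζ⁻¹ : (FiniteField.Extension F p 2)ˣ) : FiniteField.Extension F p 2)) *
        ((ζ : FiniteField.Extension F p 2) - ((ζ⁻¹ : (FiniteField.Extension F p 2)ˣ) : FiniteField.Extension F p 2)) = 0 := by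
      linear_combination h5 - 4 * hinv
    have h7 := sub_eq_zero.mp (mul_self_eq_zero.mp h6)
    nth_rewrite 2 [h7]
    exact hinv
  · have h1 : orderOf (Matrix.SpecialLinearGroup.map (n := Fin 2) (algebraMap F (FiniteField.Extension F p 2)) (CmatSL τ₀)) =
        orderOf (CmatSL τ₀ : SL2) := orderOf_injective _ (S0262.map_injective _) _
    have h2 : orderOf (Matrix.SpecialLinearGroup.toGL
        (Matrix.SpecialLinearGroup.map (n := Fin 2) (algebraMap F (FiniteField.Extension F p 2)) (CmatSL τ₀))) =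
        orderOf (Matrix.SpecialLinearGroup.map (n := Fin 2) (algebraMap F (FiniteField.Extension F p 2)) (CmatSL τ₀)) :=
      orderOf_injective _ Matrix.SpecialLinearGroup.toGL_injective _
    have h3 : orderOf (S0262.tSHom ζ) = orderOf ζ := orderOf_injective _ S0262.tSHom_injective ζ
    have h4 : orderOf (Matrix.SpecialLinearGroup.toGL (S0262.tSHom ζ)) = orderOf (S0262.tSHom ζ) :=
      orderOf_injective _ Matrix.SpecialLinearGroup.toGL_injective _
    have hA : ((Matrix.SpecialLinearGroup.toGL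
        (Matrix.SpecialLinearGroup.map (n := Fin 2) (algebraMap F (FiniteField.Extension F p 2)) (CmatSL τ₀)) :
          GL (Fin 2) (FiniteField.Extension F p 2)) : Matrix (Fin 2) (Fin 2) (FiniteField.Extension F p 2)) =
        !![0, -1; 1, (ζ : FiniteField.Extension F p 2) + ((ζ⁻¹ : (FiniteField.Extension F p 2)ˣ) : FiniteField.Extension F p 2)] := by
      rw [Matrix.SpecialLinearGroup.coe_GL_coe_matrix, Matrix.SpecialLinearGroup.map_apply_coe, CmatSL_coe, compMat,
        RingHom.mapMatrix_apply, ← hτ₀]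
      ext i j
      fin_cases i <;> fin_cases j <;> simp
    have hB : ((Matrix.SpecialLinearGroup.toGL (S0262.tSHom ζ) :
          GL (Fin 2) (FiniteField.Extension F p 2)) : Matrix (Fin 2) (Fin 2) (FiniteField.Extension F p 2)) =
        !![(ζ : FiniteField.Extension F p 2), 0; 0, ((ζ⁻¹ : (FiniteField.Extension F p 2)ˣ) : FiniteField.Extension F p 2)] := rfl
    have hconj : IsConj (Matrix.SpecialLinearGroup.toGL
        (Matrix.SpecialLinearGroup.map (n := Fin 2) (algebraMap F (FiniteField.Extension F p 2)) (CmatSL τ₀)))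
        (Matrix.SpecialLinearGroup.toGL (S0262.tSHom ζ)) := by
      apply gl2_isConj_of_trace_det
      · rw [hA]
        rintro ⟨-, h, -⟩
        simp at h
      · rw [hB]
        rintro ⟨-, -, h⟩
        simp only [Matrix.of_apply, Matrix.cons_val_zero, Matrix.cons_val_one] at h
        apply hζ2
        apply Units.ext
        rw [Units.val_mul, Units.val_one]
        nth_rewrite 2 [h]
        rw [← Units.val_mul, mul_inv_cancel, Units.val_one]
      · rw [hA, hB, Matrix.trace_fin_two_of, Matrix.trace_fin_two_of]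
        ring
      · rw [hA, hB, Matrix.det_fin_two_of, Matrix.det_fin_two_of, ← Units.val_mul, mul_inv_cancel, Units.val_one]
        ring
    obtain ⟨c, hc⟩ := isConj_iff.mp hconj
    rw [← h1, ← h2, ← hζ, ← h3, ← h4, ← hc]
    exact ((MulAut.conj c).orderOf_eq _).symm

end

theorem result {F : Type*} [Field F] [Fintype F] (hF : Odd (Fintype.card F)) (P : Sylow 2 (Matrix.SpecialLinearGroup (Fin 2) F)) : ∃ k : ℕ, 1 ≤ k ∧ Nonempty ((P : Subgroup (Matrix.SpecialLinearGroup (Fin 2) F)) ≃* QuaternionGroup (2 ^ k)) := by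
  have hodd : Fintype.card F % 2 = 1 := Nat.odd_iff.mp hF
  have h2 := two_ne_zero_of_odd hodd
  have hq1 : 1 < Fintype.card F := Fintype.one_lt_card
  obtain ⟨m, hm, hdiv, c, hc, hcard⟩ := arith (Fintype.card F) hF hq1
  obtain ⟨τ₀, hτ4, hord⟩ := exists_elt (F := F) m hm hdiv
  have hinvcoe : (((CmatSL τ₀)⁻¹ : Matrix.SpecialLinearGroup (Fin 2) F) : Matrix (Fin 2) (Fin 2) F) = !![τ₀, 1; -1, 0] := by
    rw [Matrix.SpecialLinearGroup.coe_inv, CmatSL_coe, compMat, Matrix.adjugate_fin_two_of, neg_neg]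
  have hns : ¬ IsScalar2 (((CmatSL τ₀)⁻¹ : Matrix.SpecialLinearGroup (Fin 2) F) : Matrix (Fin 2) (Fin 2) F) := by
    rw [hinvcoe]
    rintro ⟨h, -, -⟩
    simp at h
  have htr : (((CmatSL τ₀)⁻¹ : Matrix.SpecialLinearGroup (Fin 2) F) : Matrix (Fin 2) (Fin 2) F).trace = τ₀ := by
    rw [hinvcoe, Matrix.trace_fin_two_of, add_zero]
  have hconj : IsConj (CmatSL τ₀) (CmatSL τ₀)⁻¹ := by
    have := regular_conj hodd h2 (CmatSL τ₀)⁻¹ hns (by rw [htr]; exact hτ4)
    rwa [htr] at this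
  obtain ⟨w, hw⟩ := isConj_iff.mp hconj
  have hww : w * w = -1 := sq_of_inverts τ₀ w hw
  obtain ⟨k, hk⟩ : ∃ k, m = k + 1 := ⟨m - 1, by omega⟩
  have hk1 : 1 ≤ k := by omega
  have htn : (CmatSL τ₀ : Matrix.SpecialLinearGroup (Fin 2) F) ^ (2 ^ k) = -1 := by
    apply eq_neg_one_of_sq h2
    · rw [← pow_add, ← two_mul, ← pow_succ', ← hk, ← hord]
      exact pow_orderOf_eq_one _
    · intro h
      have h1 := orderOf_dvd_of_pow_eq_one h
      rw [hord, hk] at h1
      have := Nat.le_of_dvd (by positivity) h1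
      have h3 : 2 ^ k < 2 ^ (k + 1) := Nat.pow_lt_pow_right (by norm_num) (by omega)
      omega
  obtain ⟨S, hS, -, -, ⟨e⟩⟩ := exists_quaternion_subgroup (2 ^ k) Nat.one_le_two_pow (CmatSL τ₀) w
    (by rw [hord, hk, pow_succ']) (by rw [hww, htn]) hw
  have hSp : IsPGroup 2 S := IsPGroup.of_card (n := k + 2) (by rw [hS]; ring)
  have hidx : ¬ 2 ∣ S.index := by
    have h1 := Subgroup.card_mul_index S
    rw [hS, card_sl2, hcard, hk] at h1
    have h3 : S.index = c := by
      apply Nat.eq_of_mul_eq_mul_left (show 0 < 4 * 2 ^ k by positivity)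
      rw [h1]; ring
    rw [h3]
    exact hc.not_two_dvd_nat
  exact ⟨k, hk1, ⟨(Sylow.equiv P (hSp.toSylow hidx)).trans e⟩⟩

end Cfsg.Agent.S0261
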