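import Cfsg.Statements.S0276
import Cfsg.Agent.Lib.helper14.Klein
import Cfsg.Agent.Lib.helper14.SL2Odd
import Cfsg.Agent.Lib.helper14.SL2Card

set_option autoImplicit false
set_option linter.unusedSectionVars false
open Cfsg

namespace Cfsg.Agent.S0276

open Cfsg.Agent.Lib.helper14

section
variable {F : Type*} [Field F] [Fintype F]

local notation "SL2" => Matrix.SpecialLinearGroup (Fin 2) F
local notation "M2" => Matrix (Fin 2) (Fin 2) F
local notation "PSL2" => Matrix.ProjectiveSpecialLinearGroup (Fin 2) F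

theorem card_center (hodd : Fintype.card F % 2 = 1) : Nat.card (Subgroup.center SL2) = 2 := by
  have e := Matrix.SpecialLinearGroup.center_equiv_rootsOfUnity' (n := Fin 2) (R := F) 0
  rw [Nat.card_congr e.toEquiv, Fintype.card_fin]
  have h1 : (rootsOfUnity 2 F) = (powMonoidHom 2 : Fˣ →* Fˣ).ker := by
    ext x
    simp [mem_rootsOfUnity, MonoidHom.mem_ker]
  rw [h1, IsCyclic.card_powMonoidHom_ker, Nat.card_units, Nat.card_eq_fintype_card]
  have hq : 1 < Fintype.card F := Fintype.one_lt_card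
  have h2 : 2 ∣ Fintype.card F - 1 := by omega
  exact Nat.gcd_eq_right h2

theorem card_psl2 (hodd : Fintype.card F % 2 = 1) :
    Nat.card PSL2 * 2 = Fintype.card F * (Fintype.card F ^ 2 - 1) := by
  have h2 := Subgroup.card_eq_card_quotient_mul_card_subgroup (Subgroup.center SL2)
  rw [card_center hodd, card_sl2] at h2
  exact h2.symm

theorem two_ne_zero_of_odd (hodd : Fintype.card F % 2 = 1) : (2 : F) ≠ 0 := by
  apply Ring.two_ne_zero
  intro h
  have := FiniteField.even_card_of_char_two h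
  omega

theorem not_mem_center_of_trace_zero (h2 : (2 : F) ≠ 0) (g : SL2) (htr : (g : M2).trace = 0) :
    g ∉ Subgroup.center SL2 := by
  intro hg
  obtain ⟨r, -, hr⟩ := Matrix.SpecialLinearGroup.mem_center_iff.mp hg
  have h01 : (g : M2) 0 1 = 0 := by rw [← hr]; simp
  have h10 : (g : M2) 1 0 = 0 := by rw [← hr]; simp
  have h00 : (g : M2) 0 0 = r := by rw [← hr]; simp
  have h11 : (g : M2) 1 1 = r := by rw [← hr]; simp
  have hd := sl2_det g
  rw [Matrix.trace_fin_two, h00, h11] at htr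
  have hr0 : r = 0 := by
    have : 2 * r = 0 := by linear_combination htr
    rcases mul_eq_zero.mp this with h | h
    · exact absurd h h2
    · exact h
  rw [h00, h11, h01, hr0] at hd
  simp at hd

def xEl (a b : F) (h : a * a + b * b = -1) : SL2 :=
  ⟨!![a, b; b, -a], by rw [Matrix.det_fin_two_of]; linear_combination (-1 : F) * h⟩

def yEl : SL2 := ⟨!![0, -1; 1, 0], by rw [Matrix.det_fin_two_of]; ring⟩

theorem xEl_coe (a b : F) (h : a * a + b * b = -1) : ((xEl a b h : SL2) : M2) = !![a, b; b, -a] := rfl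

theorem yEl_coe : ((yEl : SL2) : M2) = !![0, -1; 1, 0] := rfl

theorem neg_one_coe : (((-1 : SL2)) : M2) = !![-1, 0; 0, -1] := by
  rw [Matrix.SpecialLinearGroup.coe_neg, sl2_coe_one, Matrix.one_fin_two]
  ext i j
  fin_cases i <;> fin_cases j <;> simp

theorem xEl_sq (a b : F) (h : a * a + b * b = -1) : xEl a b h * xEl a b h = -1 := by
  apply Subtype.ext
  rw [sl2_coe_mul, xEl_coe, neg_one_coe, Matrix.mul_fin_two]
  apply m2_congr
  · linear_combination h
  · ring
  · ring
  · linear_combination h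

theorem yEl_sq : (yEl : SL2) * yEl = -1 := by
  apply Subtype.ext
  rw [sl2_coe_mul, yEl_coe, neg_one_coe, Matrix.mul_fin_two]
  apply m2_congr <;> ring

theorem xy_eq (a b : F) (h : a * a + b * b = -1) : xEl a b h * yEl = -1 * (yEl * xEl a b h) := by
  apply Subtype.ext
  rw [sl2_coe_mul, sl2_coe_mul, sl2_coe_mul, xEl_coe, yEl_coe, neg_one_coe, Matrix.mul_fin_two,
    Matrix.mul_fin_two, Matrix.mul_fin_two]
  apply m2_congr <;> ring

theorem xy_trace (a b : F) (h : a * a + b * b = -1) : ((xEl a b h * yEl : SL2) : M2).trace = 0 := by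
  rw [sl2_coe_mul, xEl_coe, yEl_coe, Matrix.mul_fin_two, Matrix.trace_fin_two_of]
  ring

theorem neg_one_mem_center : (-1 : SL2) ∈ Subgroup.center SL2 := by
  rw [Subgroup.mem_center_iff]
  intro g
  apply Subtype.ext
  rw [sl2_coe_mul, sl2_coe_mul, neg_one_coe]
  obtain ⟨a, ha⟩ : ∃ a, (g : M2) 0 0 = a := ⟨_, rfl⟩
  obtain ⟨b, hb⟩ : ∃ b, (g : M2) 0 1 = b := ⟨_, rfl⟩
  obtain ⟨c, hc⟩ : ∃ c, (g : M2) 1 0 = c := ⟨_, rfl⟩
  obtain ⟨d, hd⟩ : ∃ d, (g : M2) 1 1 = d := ⟨_, rfl⟩
  have hgeta : (g : M2) = !![a, b; c, d] := by rw [Matrix.eta_fin_two (g : M2), ha, hb, hc, hd]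
  rw [hgeta, Matrix.mul_fin_two, Matrix.mul_fin_two]
  apply m2_congr <;> ring

end

theorem result {F : Type*} [Field F] [Fintype F] {q : ℕ} (hF : Fintype.card F = q) (hq : q % 8 = 3 ∨ q % 8 = 5) (P : Sylow 2 (Matrix.ProjectiveSpecialLinearGroup (Fin 2) F)) : IsKleinFour (P : Subgroup (Matrix.ProjectiveSpecialLinearGroup (Fin 2) F)) := by
  have hodd : Fintype.card F % 2 = 1 := by rw [hF]; omega
  have h2 := two_ne_zero_of_odd hodd
  have h4 : (0 : F) * 0 ≠ 4 := by
    rw [mul_zero]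
    intro h
    have : (2 : F) * 2 = 0 := by rw [h]; norm_num
    exact h2 (mul_self_eq_zero.mp this)
  obtain ⟨a, b, hab⟩ := norm_form_universal hodd h2 0 h4 (-1)
  have hab' : a * a + b * b = -1 := by linear_combination hab
  let π := QuotientGroup.mk' (Subgroup.center (Matrix.SpecialLinearGroup (Fin 2) F))
  have hπ1 : π (-1) = 1 := (QuotientGroup.eq_one_iff _).mpr neg_one_mem_center
  have hxx : π (xEl a b hab') * π (xEl a b hab') = 1 := by
    rw [← map_mul, xEl_sq, hπ1]
  have hyy : π (yEl (F := F)) * π yEl = 1 := by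
    rw [← map_mul, yEl_sq, hπ1]
  have hxy : π (xEl a b hab') * π yEl = π yEl * π (xEl a b hab') := by
    rw [← map_mul, xy_eq, map_mul, hπ1, one_mul, map_mul]
  have hx1 : π (xEl a b hab') ≠ 1 := by
    intro h
    have := (QuotientGroup.eq_one_iff _).mp h
    refine not_mem_center_of_trace_zero h2 _ ?_ this
    rw [xEl_coe, Matrix.trace_fin_two_of]; ring
  have hy1 : π (yEl (F := F)) ≠ 1 := by
    intro h
    have := (QuotientGroup.eq_one_iff _).mp h
    refine not_mem_center_of_trace_zero h2 _ ?_ this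
    rw [yEl_coe, Matrix.trace_fin_two_of]; ring
  have hne : π (xEl a b hab') ≠ π yEl := by
    intro h
    have h1 : π (xEl a b hab' * yEl) = 1 := by
      rw [map_mul, h, hyy]
    have := (QuotientGroup.eq_one_iff _).mp h1
    exact not_mem_center_of_trace_zero h2 _ (xy_trace a b hab') this
  have hcardE := card_kleinSubgroup _ _ hxx hyy hxy hx1 hy1 hne
  have hEp : IsPGroup 2 (kleinSubgroup _ _ hxx hyy hxy) := IsPGroup.of_card (n := 2) (by rw [hcardE]; norm_num)
  have hidx : ¬ 2 ∣ (kleinSubgroup _ _ hxx hyy hxy).index := by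
    have h1 := Subgroup.card_mul_index (kleinSubgroup _ _ hxx hyy hxy)
    have h3 := card_psl2 (F := F) hodd
    rw [hcardE] at h1
    rw [← h1, hF] at h3
    generalize (kleinSubgroup _ _ hxx hyy hxy).index = idx at h3 ⊢
    rcases hq with hq | hq
    · obtain ⟨k, hk⟩ : ∃ k, q = 8 * k + 3 := ⟨q / 8, by omega⟩
      rw [hk] at h3
      have e1 : (8 * k + 3) ^ 2 - 1 = 8 * (8 * k ^ 2 + 6 * k + 1) := by
        have : (8 * k + 3) ^ 2 = 8 * (8 * k ^ 2 + 6 * k + 1) + 1 := by ring
        rw [this]; omega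
      rw [e1] at h3
      have e2 : idx = 2 * (32 * k ^ 3 + 36 * k ^ 2 + 13 * k + 1) + 1 := by
        have : 8 * idx = 8 * (2 * (32 * k ^ 3 + 36 * k ^ 2 + 13 * k + 1) + 1) := by
          calc 8 * idx = 4 * idx * 2 := by ring
            _ = (8 * k + 3) * (8 * (8 * k ^ 2 + 6 * k + 1)) := h3
            _ = 8 * (2 * (32 * k ^ 3 + 36 * k ^ 2 + 13 * k + 1) + 1) := by ring
        exact Nat.eq_of_mul_eq_mul_left (by norm_num) this
      omega
    · obtain ⟨k, hk⟩ : ∃ k, q = 8 * k + 5 := ⟨q / 8, by omega⟩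
      rw [hk] at h3
      have e1 : (8 * k + 5) ^ 2 - 1 = 8 * (8 * k ^ 2 + 10 * k + 3) := by
        have : (8 * k + 5) ^ 2 = 8 * (8 * k ^ 2 + 10 * k + 3) + 1 := by ring
        rw [this]; omega
      rw [e1] at h3
      have e2 : idx = 2 * (32 * k ^ 3 + 60 * k ^ 2 + 37 * k + 7) + 1 := by
        have : 8 * idx = 8 * (2 * (32 * k ^ 3 + 60 * k ^ 2 + 37 * k + 7) + 1) := by
          calc 8 * idx = 4 * idx * 2 := by ring
            _ = (8 * k + 5) * (8 * (8 * k ^ 2 + 10 * k + 3)) := h3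
            _ = 8 * (2 * (32 * k ^ 3 + 60 * k ^ 2 + 37 * k + 7) + 1) := by ring
        exact Nat.eq_of_mul_eq_mul_left (by norm_num) this
      omega
  let P0 : Sylow 2 (Matrix.ProjectiveSpecialLinearGroup (Fin 2) F) := hEp.toSylow hidx
  let e : (P : Subgroup (Matrix.ProjectiveSpecialLinearGroup (Fin 2) F)) ≃* (P0 : Subgroup (Matrix.ProjectiveSpecialLinearGroup (Fin 2) F)) := Sylow.equiv P P0
  apply isKleinFour_of_card_of_sq
  · rw [Nat.card_congr e.toEquiv]
    exact hcardE
  · intro h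
    apply e.injective
    rw [map_mul, map_one]
    apply Subtype.ext
    exact kleinSubgroup_sq _ _ hxx hyy hxy (e h : Matrix.ProjectiveSpecialLinearGroup (Fin 2) F) (e h).2

end Cfsg.Agent.S0276
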