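import Cfsg.Statements.S0257
import Cfsg.Agent.S0261
import Cfsg.Agent.S0276

set_option autoImplicit false
set_option linter.unusedSectionVars false
open Cfsg

namespace Cfsg.Agent.S0257

open Cfsg.Agent.Lib.helper14

theorem count_zmod3 :
    Fintype.card {x : ZMod 3 × ZMod 3 × ZMod 3 // x.1 * x.1 + x.2.1 * x.2.2 = -1} = 6 := by decide

theorem quat_pow_four (x : QuaternionGroup 2) : x ^ 4 = 1 := by
  have := Monoid.pow_exponent_eq_one x
  rw [QuaternionGroup.exponent] at this
  simpa using this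

theorem fact24 : (24 : ℕ).factorization 2 = 3 := by
  have : (24 : ℕ) = 2 ^ 3 * 3 := by norm_num
  rw [this, Nat.factorization_mul (by norm_num) (by norm_num), Nat.factorization_pow]
  simp [Nat.factorization_eq_zero_of_not_dvd, Nat.Prime.factorization_self Nat.prime_two]

section
variable {F : Type*} [Field F] [Fintype F]

local notation "SL2" => Matrix.SpecialLinearGroup (Fin 2) F
local notation "M2" => Matrix (Fin 2) (Fin 2) F

theorem count_F (hF : Fintype.card F = 3) :
    Nat.card {x : F × F × F // x.1 * x.1 + x.2.1 * x.2.2 = -1} = 6 := by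
  let e : ZMod 3 ≃+* F := ZMod.ringEquivOfPrime F Nat.prime_three hF
  have h1 : Nat.card {x : ZMod 3 × ZMod 3 × ZMod 3 // x.1 * x.1 + x.2.1 * x.2.2 = -1} =
      Nat.card {x : F × F × F // x.1 * x.1 + x.2.1 * x.2.2 = -1} := by
    apply Nat.card_congr
    refine Equiv.subtypeEquiv (e.toEquiv.prodCongr (e.toEquiv.prodCongr e.toEquiv)) ?_
    rintro ⟨a, b, c⟩
    show a * a + b * c = -1 ↔ e a * e a + e b * e c = -1
    constructor
    · intro h
      rw [← map_mul, ← map_mul, ← map_add, h, map_neg, map_one]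
    · intro h
      apply e.injective
      rw [map_add, map_mul, map_mul, h, map_neg, map_one]
  rw [← h1, Nat.card_eq_fintype_card, count_zmod3]

def T0 : Set SL2 := {g | (g : M2).trace = 0}

theorem card_T0 (hF : Fintype.card F = 3) : (T0 (F := F)).ncard ≤ 6 := by
  rw [← Nat.card_coe_set_eq, ← count_F hF]
  let f : T0 (F := F) → {x : F × F × F // x.1 * x.1 + x.2.1 * x.2.2 = -1} := fun g =>
    ⟨((g.1 : M2) 0 0, (g.1 : M2) 0 1, (g.1 : M2) 1 0), by
      have hd := sl2_det g.1
      have htr : (g.1 : M2).trace = 0 := g.2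
      rw [Matrix.trace_fin_two] at htr
      have : (g.1 : M2) 1 1 = -(g.1 : M2) 0 0 := by linear_combination htr
      rw [this] at hd
      show (g.1 : M2) 0 0 * (g.1 : M2) 0 0 + (g.1 : M2) 0 1 * (g.1 : M2) 1 0 = -1
      linear_combination (-1 : F) * hd⟩
  apply Nat.card_le_card_of_injective f
  intro g h hgh
  have h1 := congrArg Subtype.val hgh
  simp only [f, Prod.mk.injEq] at h1
  obtain ⟨e1, e2, e3⟩ := h1
  have htr : (g.1 : M2).trace = 0 := g.2
  have htr' : (h.1 : M2).trace = 0 := h.2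
  rw [Matrix.trace_fin_two] at htr htr'
  apply Subtype.ext
  apply Subtype.ext
  rw [Matrix.eta_fin_two (g.1 : M2), Matrix.eta_fin_two (h.1 : M2)]
  apply m2_congr _ _ _ _ _ _ _ _ e1 e2 e3
  linear_combination htr - htr' - e1

def Q0 : Set SL2 := {1, -1} ∪ T0

theorem card_Q0 (hF : Fintype.card F = 3) : (Q0 (F := F)).ncard ≤ 8 := by
  have h1 := Set.ncard_union_le ({1, -1} : Set SL2) T0
  have h2 : ({1, -1} : Set SL2).ncard ≤ 2 := Set.ncard_insert_le _ _ |>.trans (by simp)
  have h3 := card_T0 (F := F) hF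
  unfold Q0
  omega

theorem mem_Q0_of_pow_four (h2 : (2 : F) ≠ 0) (g : SL2) (hg : g ^ 4 = 1) : g ∈ Q0 (F := F) := by
  by_cases h1 : g * g = 1
  · left
    by_cases hg1 : g = 1
    · left; exact hg1
    · right
      exact S0261.eq_neg_one_of_sq h2 g h1 hg1
  · right
    have h3 : (g * g) * (g * g) = 1 := by
      rw [← hg, pow_succ, pow_succ, pow_succ, pow_one, mul_assoc, mul_assoc, mul_assoc]
    have h4 := S0261.eq_neg_one_of_sq h2 (g * g) h3 h1
    have h5 : (g : M2) * (g : M2) = !![-1, 0; 0, -1] := by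
      rw [← sl2_coe_mul, h4, S0261.neg_one_coe]
    have hd := sl2_det g
    obtain ⟨a, ha⟩ : ∃ a, (g : M2) 0 0 = a := ⟨_, rfl⟩
    obtain ⟨b, hb⟩ : ∃ b, (g : M2) 0 1 = b := ⟨_, rfl⟩
    obtain ⟨c, hc⟩ : ∃ c, (g : M2) 1 0 = c := ⟨_, rfl⟩
    obtain ⟨d, hd'⟩ : ∃ d, (g : M2) 1 1 = d := ⟨_, rfl⟩
    have hgeta : (g : M2) = !![a, b; c, d] := by rw [Matrix.eta_fin_two (g : M2), ha, hb, hc, hd']
    rw [ha, hb, hc, hd'] at hd
    rw [hgeta, Matrix.mul_fin_two, m2_eq_iff] at h5
    obtain ⟨e1, e2, e3, e4⟩ := h5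
    show (g : M2).trace = 0
    rw [Matrix.trace_fin_two, ha, hd']
    by_contra hne
    have hb0 : b = 0 := by
      have : (a + d) * b = 0 := by linear_combination e2
      rcases mul_eq_zero.mp this with h | h
      · exact absurd h hne
      · exact h
    have hc0 : c = 0 := by
      have : (a + d) * c = 0 := by linear_combination e3
      rcases mul_eq_zero.mp this with h | h
      · exact absurd h hne
      · exact h
    have had : a = d := by
      have : (a + d) * (a - d) = 0 := by linear_combination e1 - e4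
      rcases mul_eq_zero.mp this with h | h
      · exact absurd h hne
      · exact sub_eq_zero.mp h
    have hsc : IsScalar2 (g : M2) := ⟨by rw [hb, hb0], by rw [hc, hc0], by rw [ha, hd', had]⟩
    rcases scalar_sl2 g hsc with h | h
    · apply h1; rw [h]; simp
    · apply h1; rw [h]; simp

end

theorem result {F : Type*} [Field F] [Fintype F] (hF : Fintype.card F = 3) : (∃ Q : Subgroup (Matrix.SpecialLinearGroup (Fin 2) F), Q.Normal ∧ Q.index = 3 ∧ Nonempty (Q ≃* QuaternionGroup 2)) ∧ Nat.card (Subgroup.center (Matrix.SpecialLinearGroup (Fin 2) F)) = 2 := by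
  have hodd : Fintype.card F % 2 = 1 := by rw [hF]
  have hFodd : Odd (Fintype.card F) := Nat.odd_iff.mpr hodd
  have h2 := S0261.two_ne_zero_of_odd hodd
  refine ⟨?_, S0276.card_center hodd⟩
  have hcard : Nat.card (Matrix.SpecialLinearGroup (Fin 2) F) = 24 := by
    rw [card_sl2, hF]
    norm_num
  have hP8 : ∀ P : Sylow 2 (Matrix.SpecialLinearGroup (Fin 2) F), Nat.card P = 8 := by
    intro P
    rw [Sylow.card_eq_multiplicity, hcard, fact24]
    norm_num
  have hiso : ∀ P : Sylow 2 (Matrix.SpecialLinearGroup (Fin 2) F),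
      Nonempty ((P : Subgroup (Matrix.SpecialLinearGroup (Fin 2) F)) ≃* QuaternionGroup 2) := by
    intro P
    obtain ⟨k, hk, ⟨e⟩⟩ := S0261.result hFodd P
    haveI : NeZero (2 ^ k) := ⟨by positivity⟩
    have h1 : Nat.card (P : Subgroup (Matrix.SpecialLinearGroup (Fin 2) F)) = 4 * 2 ^ k := by
      rw [Nat.card_congr e.toEquiv, Nat.card_eq_fintype_card, QuaternionGroup.card]
    have h3 : Nat.card (P : Subgroup (Matrix.SpecialLinearGroup (Fin 2) F)) = 8 := hP8 P
    have h4 : 2 ^ k = 2 ^ 1 := by omega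
    have hk1 : k = 1 := Nat.pow_right_injective (le_refl 2) h4
    subst hk1
    exact ⟨e⟩
  have hsub : ∀ P : Sylow 2 (Matrix.SpecialLinearGroup (Fin 2) F),
      ((P : Subgroup (Matrix.SpecialLinearGroup (Fin 2) F)) : Set (Matrix.SpecialLinearGroup (Fin 2) F)) = Q0 := by
    intro P
    obtain ⟨e⟩ := hiso P
    apply Set.eq_of_subset_of_ncard_le
    · intro g hg
      apply mem_Q0_of_pow_four h2
      have h1 := quat_pow_four (e ⟨g, hg⟩)
      rw [← map_pow] at h1
      have h3 := e.injective (h1.trans (map_one e).symm)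
      exact congrArg Subtype.val h3
    · have : ((P : Subgroup (Matrix.SpecialLinearGroup (Fin 2) F)) : Set (Matrix.SpecialLinearGroup (Fin 2) F)).ncard = 8 := by
        rw [← Nat.card_coe_set_eq]
        exact hP8 P
      rw [this]
      exact card_Q0 hF
    · exact Set.toFinite _
  haveI : Subsingleton (Sylow 2 (Matrix.SpecialLinearGroup (Fin 2) F)) := by
    constructor
    intro P P'
    apply Sylow.ext
    apply SetLike.coe_injective
    rw [hsub P, hsub P']
  let P : Sylow 2 (Matrix.SpecialLinearGroup (Fin 2) F) := default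
  refine ⟨P, Sylow.normal_of_subsingleton P, ?_, hiso P⟩
  have h1 := Subgroup.card_mul_index (P : Subgroup (Matrix.SpecialLinearGroup (Fin 2) F))
  rw [hcard] at h1
  have h3 : Nat.card (P : Subgroup (Matrix.SpecialLinearGroup (Fin 2) F)) = 8 := hP8 P
  rw [h3] at h1
  omega

end Cfsg.Agent.S0257
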