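import Cfsg.Statements.S2301
import Cfsg.Agent.Lib.helper14.SL2Odd
import Cfsg.Agent.Lib.helper14.SL2Card
import Cfsg.Agent.S2325

set_option autoImplicit false
set_option linter.unusedSectionVars false
open Cfsg

namespace Cfsg.Agent.S2301

open Cfsg.Agent.Lib.helper14

section
variable {F : Type*} [Field F] [Fintype F]

local notation "SL2" => Matrix.SpecialLinearGroup (Fin 2) F
local notation "M2" => Matrix (Fin 2) (Fin 2) F

theorem hodd_of (p : ℕ) [Fact p.Prime] [CharP F p] (hp : p ≠ 2) : Odd (Fintype.card F) := by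
  obtain ⟨n, -, hn⟩ := FiniteField.card F p
  rw [hn]
  exact ((Fact.out : p.Prime).odd_of_ne_two hp).pow

def U (β : F) : SL2 := Umat 1 β (one_mul 1)

theorem U_coe (β : F) : ((U β : SL2) : M2) = !![1, β; 0, 1] := rfl

theorem U_mul (β γ : F) : U β * U γ = U (β + γ) := by
  apply Subtype.ext
  rw [sl2_coe_mul, U_coe, U_coe, U_coe, Matrix.mul_fin_two]
  apply m2_congr <;> ring

theorem U_zero : U (0 : F) = 1 := by
  apply Subtype.ext
  rw [U_coe, sl2_coe_one, Matrix.one_fin_two]

theorem U_pow (β : F) (n : ℕ) : U β ^ n = U (n * β) := by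
  induction n with
  | zero => rw [pow_zero, Nat.cast_zero, zero_mul, U_zero]
  | succ k ih =>
    rw [pow_succ, ih, U_mul]
    congr 1
    push_cast
    ring

theorem U_ne_one (β : F) (hβ : β ≠ 0) : U β ≠ 1 := by
  intro h
  have := congrArg (fun g : SL2 => (g : M2) 0 1) h
  simp only [U_coe, sl2_coe_one] at this
  apply hβ
  simpa using this

theorem U_order (p : ℕ) [Fact p.Prime] [CharP F p] (β : F) (hβ : β ≠ 0) : orderOf (U β) = p := by
  apply orderOf_eq_prime
  · rw [U_pow, CharP.cast_eq_zero F p, zero_mul, U_zero]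
  · exact U_ne_one β hβ

theorem orderOf_conj_eq (g h : SL2) (hc : IsConj g h) : orderOf g = orderOf h := by
  obtain ⟨c, hc⟩ := isConj_iff.mp hc
  rw [← hc]
  exact ((MulAut.conj c).orderOf_eq g).symm

theorem order_iff (p : ℕ) [Fact p.Prime] [CharP F p] (hp : p ≠ 2) (g : SL2) :
    orderOf g = p ↔ ¬ IsScalar2 (g : M2) ∧ (g : M2).trace = 2 := by
  have hodd := hodd_of (F := F) p hp
  have hpp : p.Prime := Fact.out
  constructor
  · intro ho
    constructor
    · intro hs
      rcases scalar_sl2 g hs with h | h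
      · rw [h, orderOf_one] at ho
        exact hpp.one_lt.ne ho
      · have h2 : g ^ 2 = 1 := by rw [h]; simp
        have := orderOf_dvd_of_pow_eq_one h2
        rw [ho] at this
        exact hp ((Nat.prime_dvd_prime_iff_eq hpp Nat.prime_two).mp this)
    · have hgp : (g : M2) ^ p = 1 := by
        have := pow_orderOf_eq_one g
        rw [ho] at this
        have h2 := congrArg (fun x : SL2 => (x : M2)) this
        simpa using h2
      have hnil : IsNilpotent ((g : M2) - 1) := by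
        refine ⟨p, ?_⟩
        rw [sub_pow_char_of_commute p (Commute.one_right _), hgp, one_pow, sub_self]
      have htr := (Matrix.isNilpotent_trace_of_isNilpotent hnil).eq_zero
      rw [Matrix.trace_sub, Matrix.trace_one, Fintype.card_fin] at htr
      have := sub_eq_zero.mp htr
      rw [this]
      norm_num
  · rintro ⟨hns, htr⟩
    obtain ⟨hb, hc⟩ := parabolic_conj g 1 (one_mul 1) hns (by rw [htr, mul_one])
    rw [← orderOf_conj_eq _ _ hc]
    exact U_order p _ hb

theorem conj_U (p : ℕ) [Fact p.Prime] [CharP F p] (hp : p ≠ 2) (g : SL2) (ho : orderOf g = p) :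
    ∃ β : F, β ≠ 0 ∧ IsConj (U β) g := by
  obtain ⟨hns, htr⟩ := (order_iff p hp g).mp ho
  obtain ⟨hb, hc⟩ := parabolic_conj g 1 (one_mul 1) hns (by rw [htr, mul_one])
  exact ⟨_, hb, hc⟩

theorem U_conj_iff (β γ : F) (hβ : β ≠ 0) (hγ : γ ≠ 0) : IsConj (U β) (U γ) ↔ IsSquare (β * γ) :=
  ⟨isSquare_of_Umat_conj 1 β γ (one_mul 1) hβ hγ, Umat_conj_of_isSquare 1 β γ (one_mul 1) hβ hγ⟩

theorem eq_U (g : SL2) (h00 : (g : M2) 0 0 = 1) (h11 : (g : M2) 1 1 = 1) (h10 : (g : M2) 1 0 = 0) :
    g = U ((g : M2) 0 1) := by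
  apply Subtype.ext
  rw [U_coe]
  nth_rewrite 1 [Matrix.eta_fin_two (g : M2)]
  rw [h00, h11, h10]

theorem part1 (p : ℕ) [Fact p.Prime] [CharP F p] (hp : p ≠ 2) :
    Nat.card {C : ConjClasses SL2 // ∃ g : SL2, orderOf g = p ∧ ConjClasses.mk g = C} = 2 := by
  have hodd := hodd_of (F := F) p hp
  have hν := S2325.nu_spec hodd
  set ν := S2325.nu hodd with hνdef
  have hν0 : ν ≠ 0 := by
    rintro h
    apply hν
    rw [h]
    exact ⟨0, by ring⟩
  have hS : {C : ConjClasses SL2 | ∃ g : SL2, orderOf g = p ∧ ConjClasses.mk g = C} =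
      {ConjClasses.mk (U 1), ConjClasses.mk (U ν)} := by
    ext C
    simp only [Set.mem_setOf_eq, Set.mem_insert_iff, Set.mem_singleton_iff]
    constructor
    · rintro ⟨g, ho, rfl⟩
      obtain ⟨β, hβ, hc⟩ := conj_U p hp g ho
      by_cases hsq : IsSquare β
      · left
        rw [ConjClasses.mk_eq_mk_iff_isConj]
        refine hc.symm.trans ?_
        rw [U_conj_iff _ _ hβ one_ne_zero, mul_one]
        exact hsq
      · right
        rw [ConjClasses.mk_eq_mk_iff_isConj]
        refine hc.symm.trans ?_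
        rw [U_conj_iff _ _ hβ hν0]
        exact S2325.nonsq_mul hodd _ _ hsq hν
    · rintro (rfl | rfl)
      · exact ⟨U 1, U_order p 1 one_ne_zero, rfl⟩
      · exact ⟨U ν, U_order p ν hν0, rfl⟩
  have hne : (ConjClasses.mk (U (1 : F)) : ConjClasses SL2) ≠ ConjClasses.mk (U ν) := by
    rw [Ne, ConjClasses.mk_eq_mk_iff_isConj, U_conj_iff _ _ one_ne_zero hν0, one_mul]
    exact hν
  show Nat.card ↥{C : ConjClasses SL2 | ∃ g : SL2, orderOf g = p ∧ ConjClasses.mk g = C} = 2
  rw [Nat.card_coe_set_eq, hS, Set.ncard_pair hne]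

noncomputable def centMap (β : F) (x : Bool × F) : Subgroup.centralizer ({U β} : Set SL2) :=
  ⟨Umat (S2325.eps x.1) x.2 (S2325.eps_sq x.1), by
    rw [Subgroup.mem_centralizer_singleton_iff]
    apply Subtype.ext
    rw [sl2_coe_mul, sl2_coe_mul, U_coe, Umat_coe, Matrix.mul_fin_two, Matrix.mul_fin_two]
    apply m2_congr <;> ring⟩

theorem centMap_bij (hodd : Odd (Fintype.card F)) (β : F) (hβ : β ≠ 0) : Function.Bijective (centMap β) := by
  constructor
  · rintro ⟨e, x⟩ ⟨e', x'⟩ h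
    have h1 := congrArg (fun g : Subgroup.centralizer ({U β} : Set SL2) => ((g : SL2) : M2)) h
    simp only [centMap, Umat_coe] at h1
    rw [m2_eq_iff] at h1
    obtain ⟨h00, h01, -, -⟩ := h1
    have : e = e' := by
      cases e <;> cases e' <;> simp only [S2325.eps, if_true, Bool.false_eq_true, if_false] at h00
      · rfl
      · exact absurd h00.symm (S2325.one_ne_neg_one hodd)
      · exact absurd h00 (S2325.one_ne_neg_one hodd)
      · rfl
    rw [this, h01]
  · rintro ⟨P, hP⟩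
    rw [Subgroup.mem_centralizer_singleton_iff] at hP
    have hP' : (P : M2) * !![1, β; 0, 1] = !![1, β; 0, 1] * (P : M2) := congrArg Subtype.val hP
    have hd := sl2_det P
    obtain ⟨a, ha⟩ : ∃ a, (P : M2) 0 0 = a := ⟨_, rfl⟩
    obtain ⟨b, hb⟩ : ∃ b, (P : M2) 0 1 = b := ⟨_, rfl⟩
    obtain ⟨c, hc⟩ : ∃ c, (P : M2) 1 0 = c := ⟨_, rfl⟩
    obtain ⟨d, hd'⟩ : ∃ d, (P : M2) 1 1 = d := ⟨_, rfl⟩
    have hPeta : (P : M2) = !![a, b; c, d] := by rw [Matrix.eta_fin_two (P : M2), ha, hb, hc, hd']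
    rw [ha, hb, hc, hd'] at hd
    rw [hPeta, Matrix.mul_fin_two, Matrix.mul_fin_two, m2_eq_iff] at hP'
    obtain ⟨e1, e2, -, -⟩ := hP'
    have hc0 : c = 0 := by
      have : β * c = 0 := by linear_combination -e1
      rcases mul_eq_zero.mp this with h' | h'
      · exact absurd h' hβ
      · exact h'
    have had : a = d := by
      have : β * (a - d) = 0 := by linear_combination e2
      rcases mul_eq_zero.mp this with h' | h'
      · exact absurd h' hβ
      · exact sub_eq_zero.mp h'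
    rw [hc0, ← had] at hd
    have hsq : (a - 1) * (a + 1) = 0 := by linear_combination hd
    rcases mul_eq_zero.mp hsq with h1 | h1
    · have ha1 : a = 1 := sub_eq_zero.mp h1
      refine ⟨(true, b), ?_⟩
      apply Subtype.ext
      apply Subtype.ext
      show ((Umat (S2325.eps true) b (S2325.eps_sq true) : SL2) : M2) = (P : M2)
      rw [Umat_coe, hPeta, hc0, ← had, ha1]
      simp [S2325.eps]
    · have ha1 : a = -1 := eq_neg_of_add_eq_zero_left h1
      refine ⟨(false, b), ?_⟩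
      apply Subtype.ext
      apply Subtype.ext
      show ((Umat (S2325.eps false) b (S2325.eps_sq false) : SL2) : M2) = (P : M2)
      rw [Umat_coe, hPeta, hc0, ← had, ha1]
      simp [S2325.eps]

theorem card_cent (hodd : Odd (Fintype.card F)) (β : F) (hβ : β ≠ 0) :
    Nat.card (Subgroup.centralizer ({U β} : Set SL2)) = 2 * Fintype.card F := by
  rw [← Nat.card_congr (Equiv.ofBijective _ (centMap_bij hodd β hβ)), Nat.card_eq_fintype_card,
    Fintype.card_prod, Fintype.card_bool]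

theorem card_class_U (hodd : Odd (Fintype.card F)) (β : F) (hβ : β ≠ 0) :
    Nat.card (ConjClasses.mk (U β)).carrier = (Fintype.card F ^ 2 - 1) / 2 := by
  rw [card_carrier_eq_index]
  have h1 := Subgroup.card_mul_index (Subgroup.centralizer ({U β} : Set SL2))
  rw [card_cent hodd β hβ, card_sl2] at h1
  have hq : 0 < Fintype.card F := Fintype.card_pos
  obtain ⟨k, hk⟩ := hodd
  have hq2 : Fintype.card F ^ 2 - 1 = 2 * (2 * k * k + 2 * k) := by
    rw [hk]
    have : (2 * k + 1) ^ 2 = 2 * (2 * k * k + 2 * k) + 1 := by ring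
    rw [this]
    omega
  rw [hq2] at h1 ⊢
  rw [Nat.mul_div_cancel_left _ (by norm_num : 0 < 2)]
  have h2 : 2 * Fintype.card F * (Subgroup.centralizer ({U β} : Set SL2)).index =
      2 * Fintype.card F * (2 * k * k + 2 * k) := by
    rw [h1]; ring
  exact Nat.eq_of_mul_eq_mul_left (by omega) h2

end

theorem result {F : Type*} [Field F] [Fintype F] (p : ℕ) [Fact p.Prime] [CharP F p] (hp : p ≠ 2) :
    Nat.card {C : ConjClasses (Matrix.SpecialLinearGroup (Fin 2) F) // ∃ g : Matrix.SpecialLinearGroup (Fin 2) F, orderOf g = p ∧ ConjClasses.mk g = C} = 2 ∧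
    (∀ g : Matrix.SpecialLinearGroup (Fin 2) F, orderOf g = p → Nat.card (ConjClasses.mk g).carrier = (Fintype.card F ^ 2 - 1) / 2) ∧
    ∀ g h : Matrix.SpecialLinearGroup (Fin 2) F, (g : Matrix (Fin 2) (Fin 2) F) 0 0 = 1 → (g : Matrix (Fin 2) (Fin 2) F) 1 1 = 1 → (g : Matrix (Fin 2) (Fin 2) F) 1 0 = 0 → (g : Matrix (Fin 2) (Fin 2) F) 0 1 ≠ 0 →
      (h : Matrix (Fin 2) (Fin 2) F) 0 0 = 1 → (h : Matrix (Fin 2) (Fin 2) F) 1 1 = 1 → (h : Matrix (Fin 2) (Fin 2) F) 1 0 = 0 → (h : Matrix (Fin 2) (Fin 2) F) 0 1 ≠ 0 →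
      (IsConj g h ↔ IsSquare ((g : Matrix (Fin 2) (Fin 2) F) 0 1 * (h : Matrix (Fin 2) (Fin 2) F) 0 1)) := by
  have hodd := hodd_of (F := F) p hp
  refine ⟨part1 p hp, ?_, ?_⟩
  · intro g ho
    obtain ⟨β, hβ, hc⟩ := conj_U p hp g ho
    rw [← ConjClasses.mk_eq_mk_iff_isConj.mpr hc]
    exact card_class_U hodd β hβ
  · intro g h g00 g11 g10 g01 h00 h11 h10 h01
    have hg := eq_U g g00 g11 g10
    have hh := eq_U h h00 h11 h10
    rw [hg, hh]
    exact U_conj_iff _ _ g01 h01

end Cfsg.Agent.S2301
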