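import Cfsg.Statements.S2427
import Cfsg.Agent.S0257
import Cfsg.Agent.S2301
import Cfsg.Agent.Lib.helper14.SL2Sylow

set_option autoImplicit false
set_option linter.unusedSectionVars false
open Cfsg

namespace Cfsg.Agent.S2427

open Cfsg.Agent.Lib.helper14

local notation "G3" => Matrix.SpecialLinearGroup (Fin 2) (ZMod 3)
local notation "M3" => Matrix (Fin 2) (Fin 2) (ZMod 3)

theorem card3 : Fintype.card (ZMod 3) = 3 := ZMod.card 3

theorem hcard : Nat.card G3 = 24 := by
  rw [card_sl2, card3]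
  norm_num

theorem two_ne : (2 : ZMod 3) ≠ 0 := by decide

theorem fact24_3 : (24 : ℕ).factorization 3 = 1 := by
  have : (24 : ℕ) = 3 ^ 1 * 8 := by norm_num
  rw [this, Nat.factorization_mul (by norm_num) (by norm_num), Nat.factorization_pow]
  simp [Nat.factorization_eq_zero_of_not_dvd, Nat.Prime.factorization_self Nat.prime_three]

theorem uS_cube (a : ZMod 3) : uS a ^ 3 = 1 := by
  rw [pow_succ, pow_succ, pow_one, uS_mul, uS_mul]
  have : a + a + a = 0 := by revert a; decide
  rw [this, uS_zero]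

theorem lS_cube (a : ZMod 3) : lS a ^ 3 = 1 := by
  rw [pow_succ, pow_succ, pow_one, lS_mul, lS_mul]
  have : a + a + a = 0 := by revert a; decide
  rw [this, lS_zero]

theorem mem_of_cube (M : Subgroup G3) (hM : M.index = 2) (x : G3) (hx : x ^ 3 = 1) : x ∈ M := by
  have h1 : x ^ 2 ∈ M := Subgroup.sq_mem_of_index_two hM x
  have h2 : x = (x ^ 2)⁻¹ := by
    rw [eq_inv_iff_mul_eq_one, ← pow_succ']
    exact hx
  rw [h2]
  exact M.inv_mem h1

theorem no_index_two (M : Subgroup G3) : M.index ≠ 2 := by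
  intro hM
  have : M = ⊤ := eq_top_of_uS_lS M (fun x => mem_of_cube M hM _ (uS_cube x))
    (fun x => mem_of_cube M hM _ (lS_cube x))
  rw [this, Subgroup.index_top] at hM
  omega

def wEl : G3 := ⟨!![0, 1; -1, 0], by decide⟩

theorem lS_eq_conj (a : ZMod 3) : lS a = wEl * uS (-a) * wEl⁻¹ := by
  rw [eq_mul_inv_iff_mul_eq]
  apply Subtype.ext
  rw [sl2_coe_mul, sl2_coe_mul, lS_coe, uS_coe]
  show (!![1, 0; a, 1] : M3) * !![0, 1; -1, 0] = !![0, 1; -1, 0] * !![1, -a; 0, 1]
  rw [Matrix.mul_fin_two, Matrix.mul_fin_two]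
  apply m2_congr <;> ring

theorem uS_pow (β : ZMod 3) (n : ℕ) : uS β ^ n = uS (n * β) := by
  induction n with
  | zero => rw [pow_zero, Nat.cast_zero, zero_mul, uS_zero]
  | succ k ih =>
    rw [pow_succ, ih, uS_mul]
    congr 1
    push_cast
    ring

theorem eq_top_of_three_dvd (N : Subgroup G3) (hN : N.Normal) (h3 : 3 ∣ Nat.card N) : N = ⊤ := by
  obtain ⟨x, hx⟩ := exists_prime_orderOf_dvd_card' 3 h3
  have hx' : orderOf (x : G3) = 3 := by rw [Subgroup.orderOf_coe]; exact hx
  obtain ⟨β, hβ, hc⟩ := S2301.conj_U (F := ZMod 3) 3 (by norm_num) (x : G3) hx'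
  obtain ⟨c, hc⟩ := isConj_iff.mp hc
  have hU : uS β ∈ N := by
    have h1 : S2301.U β = c⁻¹ * (x : G3) * c⁻¹⁻¹ := by
      rw [← hc]; group
    have h2 : uS β = S2301.U β := rfl
    rw [h2, h1]
    exact hN.conj_mem _ x.2 _
  have hu : ∀ a : ZMod 3, uS a ∈ N := by
    intro a
    have h1 : uS a = uS β ^ (a * β⁻¹).val := by
      rw [uS_pow, ZMod.natCast_zmod_val, mul_assoc, inv_mul_cancel₀ hβ, mul_one]
    rw [h1]
    exact N.pow_mem hU _
  apply eq_top_of_uS_lS N hu
  intro a
  rw [lS_eq_conj]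
  exact hN.conj_mem _ (hu _) _

theorem center_le (N : Subgroup G3) (h : (-1 : G3) ∈ N) : Subgroup.center G3 ≤ N := by
  intro z hz
  obtain ⟨r, -, hr⟩ := Matrix.SpecialLinearGroup.mem_center_iff.mp hz
  have hsc : IsScalar2 (z : M3) := by
    refine ⟨?_, ?_, ?_⟩ <;> rw [← hr] <;> simp
  rcases scalar_sl2 z hsc with h1 | h1
  · rw [h1]; exact N.one_mem
  · rw [h1]; exact h

theorem yEl_eq : ((uS (1 : ZMod 3) * lS (1 : ZMod 3) * (uS (1 : ZMod 3))⁻¹ * (lS (1 : ZMod 3))⁻¹ : G3) : M3) =
    !![0, -1; 1, 0] := by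
  rw [sl2_coe_mul, sl2_coe_mul, sl2_coe_mul, Matrix.SpecialLinearGroup.coe_inv,
    Matrix.SpecialLinearGroup.coe_inv, uS_coe, lS_coe, Matrix.adjugate_fin_two_of, Matrix.adjugate_fin_two_of,
    Matrix.mul_fin_two, Matrix.mul_fin_two, Matrix.mul_fin_two]
  apply m2_congr <;> decide

theorem result :
    Nat.card (Matrix.SpecialLinearGroup (Fin 2) (ZMod 3)) = 24 ∧
    Nat.card (Subgroup.center (Matrix.SpecialLinearGroup (Fin 2) (ZMod 3))) = 2 ∧
    Nat.card (commutator (Matrix.SpecialLinearGroup (Fin 2) (ZMod 3))) = 8 ∧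
    Nonempty (commutator (Matrix.SpecialLinearGroup (Fin 2) (ZMod 3)) ≃* QuaternionGroup 2) ∧
    (∀ P : Sylow 3 (Matrix.SpecialLinearGroup (Fin 2) (ZMod 3)),
      Subgroup.IsComplement' (commutator (Matrix.SpecialLinearGroup (Fin 2) (ZMod 3)))
        (P : Subgroup (Matrix.SpecialLinearGroup (Fin 2) (ZMod 3)))) ∧
    ∀ N : Subgroup (Matrix.SpecialLinearGroup (Fin 2) (ZMod 3)), N.Normal →
      N = ⊥ ∨ N = ⊤ ∨ N = Subgroup.center (Matrix.SpecialLinearGroup (Fin 2) (ZMod 3)) ∨
        N = commutator (Matrix.SpecialLinearGroup (Fin 2) (ZMod 3)) := by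
  obtain ⟨⟨Q, hQn, hQi, ⟨eQ⟩⟩, hZ⟩ := S0257.result (F := ZMod 3) card3
  have hQ8 : Nat.card Q = 8 := by
    have h1 := Subgroup.card_mul_index Q
    rw [hQi, hcard] at h1
    omega
  have hQp : IsPGroup 2 Q := IsPGroup.of_card (n := 3) (by rw [hQ8]; norm_num)
  have hQidx : ¬ 2 ∣ Q.index := by rw [hQi]; norm_num
  have hle : ∀ N : Subgroup G3, N.Normal → ¬ 3 ∣ Nat.card N →
      N ≤ Q ∧ ∃ k, k ≤ 3 ∧ Nat.card N = 2 ^ k := by
    intro N _ h3
    have h1 : Nat.card N ∣ 3 * 8 := by
      have := Subgroup.card_subgroup_dvd_card N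
      rwa [hcard] at this
    have hcop : Nat.Coprime (Nat.card N) 3 := by
      rw [Nat.coprime_comm]
      exact (Nat.Prime.coprime_iff_not_dvd Nat.prime_three).mpr h3
    have h2 : Nat.card N ∣ 2 ^ 3 := hcop.dvd_of_dvd_mul_left h1
    obtain ⟨k, hk, hk2⟩ := (Nat.dvd_prime_pow Nat.prime_two).mp h2
    refine ⟨?_, k, hk, hk2⟩
    have hNp : IsPGroup 2 N := IsPGroup.of_card hk2
    obtain ⟨P, hP⟩ := hNp.exists_le_sylow
    obtain ⟨g, hg⟩ := MulAction.exists_smul_eq G3 (hQp.toSylow hQidx) P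
    haveI : ((hQp.toSylow hQidx : Sylow 2 G3) : Subgroup G3).Normal := hQn
    rw [Sylow.smul_eq_of_normal] at hg
    rw [← hg] at hP
    exact hP
  have hclass : ∀ N : Subgroup G3, N.Normal →
      N = ⊥ ∨ N = ⊤ ∨ N = Subgroup.center G3 ∨ N = Q := by
    intro N hN
    by_cases h3 : 3 ∣ Nat.card N
    · right; left
      exact eq_top_of_three_dvd N hN h3
    · obtain ⟨hNQ, k, hk, hk2⟩ := hle N hN h3
      interval_cases k
      · left
        exact Subgroup.eq_bot_of_card_eq N (by rw [hk2]; norm_num)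
      · right; right; left
        have hne : N ≠ ⊥ := by
          intro h
          rw [h, Subgroup.card_bot] at hk2
          norm_num at hk2
        obtain ⟨t, ht1⟩ := (Subgroup.ne_bot_iff_exists_ne_one).mp hne
        have ht2 : t ^ 2 = 1 := by
          have := pow_card_eq_one' (G := N) (x := t)
          rwa [hk2, pow_one] at this
        have ht3 : (t : G3) * (t : G3) = 1 := by
          have := congrArg Subtype.val ht2
          rwa [pow_two] at this
        have ht4 : (t : G3) ≠ 1 := fun h => ht1 (Subtype.ext h)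
        have ht5 := S0261.eq_neg_one_of_sq two_ne (t : G3) ht3 ht4
        have hm : (-1 : G3) ∈ N := by rw [← ht5]; exact t.2
        symm
        exact Subgroup.eq_of_le_of_card_ge (center_le N hm) (by rw [hk2, hZ]; norm_num)
      · exfalso
        haveI := hN
        have h1 := Subgroup.card_eq_card_quotient_mul_card_subgroup N
        rw [hcard, hk2] at h1
        have h6 : Nat.card (G3 ⧸ N) = 6 := by omega
        obtain ⟨y, hy⟩ := exists_prime_orderOf_dvd_card' (G := G3 ⧸ N) 3 (by rw [h6]; norm_num)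
        have h3' : Nat.card (Subgroup.zpowers y) = 3 := by rw [Nat.card_zpowers, hy]
        have hidx : (Subgroup.zpowers y).index = 2 := by
          have := Subgroup.card_mul_index (Subgroup.zpowers y)
          rw [h3', h6] at this
          omega
        have := Subgroup.index_comap_of_surjective (Subgroup.zpowers y) (QuotientGroup.mk'_surjective N)
        exact no_index_two _ (this.trans hidx)
      · right; right; right
        exact Subgroup.eq_of_le_of_card_ge hNQ (by rw [hQ8, hk2]; norm_num)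
  have hcomm_le : commutator G3 ≤ Q := by
    haveI := hQn
    have h3 : Nat.card (G3 ⧸ Q) = 3 := by rw [← Subgroup.index_eq_card, hQi]
    haveI : IsCyclic (G3 ⧸ Q) := isCyclic_of_prime_card h3
    letI : CommGroup (G3 ⧸ Q) := IsCyclic.commGroup
    have := Abelianization.commutator_subset_ker (QuotientGroup.mk' Q)
    rwa [QuotientGroup.ker_mk'] at this
  have hy_mem : (uS (1 : ZMod 3) * lS (1 : ZMod 3) * (uS (1 : ZMod 3))⁻¹ * (lS (1 : ZMod 3))⁻¹ : G3) ∈
      commutator G3 :=
    Subgroup.commutator_mem_commutator (Subgroup.mem_top (uS (1 : ZMod 3))) (Subgroup.mem_top (lS (1 : ZMod 3)))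
  have hy_not : (uS (1 : ZMod 3) * lS (1 : ZMod 3) * (uS (1 : ZMod 3))⁻¹ * (lS (1 : ZMod 3))⁻¹ : G3) ∉
      Subgroup.center G3 := by
    apply S0276.not_mem_center_of_trace_zero two_ne
    rw [yEl_eq, Matrix.trace_fin_two_of]
    ring
  have hcomm : commutator G3 = Q := by
    rcases hclass (commutator G3) inferInstance with h | h | h | h
    · exfalso
      rw [h] at hy_mem
      apply hy_not
      rw [Subgroup.mem_bot.mp hy_mem]
      exact Subgroup.one_mem _
    · exfalso
      rw [h] at hcomm_le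
      have := Subgroup.card_le_of_le hcomm_le
      rw [Subgroup.card_top, hcard, hQ8] at this
      omega
    · exfalso
      rw [h] at hy_mem
      exact hy_not hy_mem
    · exact h
  subst hcomm
  refine ⟨hcard, hZ, hQ8, ⟨eQ⟩, ?_, hclass⟩
  intro P
  have hP3 : Nat.card P = 3 := by
    rw [Sylow.card_eq_multiplicity, hcard, fact24_3, pow_one]
  apply Subgroup.isComplement'_of_coprime
  · rw [hQ8, hP3, hcard]
  · rw [hQ8, hP3]
    norm_num

end Cfsg.Agent.S2427
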