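import Cfsg.Statements.S5080
import Cfsg.Agent.Lib.Helper26.StrongEmb

set_option autoImplicit false
open Cfsg

namespace Cfsg.Agent.S5080

open Cfsg.Agent.Lib.Helper26 Cfsg.FusionSystem in
theorem inn_le_autInducedBy {Ω : Type*} [Group Ω] {S P : Subgroup Ω} (hPS : P ≤ S) :
    Inn P ≤ autInducedBy S P := by
  rintro _ ⟨x, rfl⟩
  exact mem_autInducedBy_iff.mpr ⟨(x : Ω), hPS x.2, fun y => by simp [MulAut.conj_apply]⟩

open Cfsg.Agent.Lib.Helper26 Cfsg.FusionSystem in
theorem isPGroup_inn {Ω : Type*} [Group Ω] {S P : Subgroup Ω} {p : ℕ} (hS : IsPGroup p S) (hPS : P ≤ S) :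
    IsPGroup p (Inn P) :=
  (isPGroup_autInducedBy hS P).to_le (inn_le_autInducedBy hPS)

open Cfsg.Agent.Lib.Helper26 Cfsg.FusionSystem in
theorem pCore_autGroup_eq_inn {Ω : Type*} [Group Ω] {S : Subgroup Ω} [Finite S] (p : ℕ) [Fact p.Prime]
    (hS : IsPGroup p S) (F : Cfsg.FusionSystem S) (P : Subgroup Ω) (hPS : P ≤ S)
    (hnorm : ((Inn P).subgroupOf (F.autGroup P)).Normal)
    (hO : pCore p (F.autGroup P ⧸ (Inn P).subgroupOf (F.autGroup P)) = ⊥) :
    (pCore p (F.autGroup P)).map (F.autGroup P).subtype = Inn P := by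
  have hfinP : Finite P := finite_of_le hPS
  have hInnA : Inn P ≤ F.autGroup P := (inn_le_autInducedBy hPS).trans (autInducedBy_le_autGroup F hPS)
  have hIp : IsPGroup p ((Inn P).subgroupOf (F.autGroup P)) := (isPGroup_inn hS hPS).comap_subtype
  have h1 : (Inn P).subgroupOf (F.autGroup P) ≤ pCore p (F.autGroup P) := Cfsg.Agent.Lib.Helper1.le_pCore hnorm hIp
  have h2 : pCore p (F.autGroup P) ≤ (Inn P).subgroupOf (F.autGroup P) := by
    have hOn : (pCore p (F.autGroup P)).Normal := Cfsg.Agent.Lib.Helper1.pCore_normal p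
    have hmapn : ((pCore p (F.autGroup P)).map
        (QuotientGroup.mk' ((Inn P).subgroupOf (F.autGroup P)))).Normal :=
      hOn.map _ (QuotientGroup.mk'_surjective _)
    have hmapp : IsPGroup p ((pCore p (F.autGroup P)).map
        (QuotientGroup.mk' ((Inn P).subgroupOf (F.autGroup P)))) := (Cfsg.Agent.Lib.Helper1.pCore_isPGroup p).map _
    have hle := Cfsg.Agent.Lib.Helper1.le_pCore hmapn hmapp
    rw [hO, le_bot_iff, Subgroup.map_eq_bot_iff, QuotientGroup.ker_mk'] at hle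
    exact hle
  rw [le_antisymm h2 h1, Subgroup.subgroupOf_map_subtype, inf_eq_left.mpr hInnA]

open Cfsg.Agent.Lib.Helper26 Cfsg.FusionSystem in
theorem result {Ω : Type*} [Group Ω] {S : Subgroup Ω} [Finite S] (p : ℕ) [Fact p.Prime] (hS : IsPGroup p S) (F : Cfsg.FusionSystem S) (hF : F.IsSaturated p) (P : Subgroup Ω) (hP : F.IsEssential p P) : F.IsRadical p P := by
  obtain ⟨_, hfn, hnorm, E, hE⟩ := hP
  have hPS : P ≤ S := hfn.1
  have hfinP : Finite P := finite_of_le hPS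
  refine ⟨hPS, pCore_autGroup_eq_inn p hS F P hPS hnorm ?_⟩
  exact pCore_eq_bot_of_stronglyPEmbedded hE

end Cfsg.Agent.S5080
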