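import Cfsg.Statements.S5082
import Cfsg.Agent.Lib.Helper26.FusionAlperin2

set_option autoImplicit false
open Cfsg

namespace Cfsg.Agent.S5082

open Cfsg.Agent.Lib.Helper26 Cfsg.FusionSystem

theorem card_eq_of_isConj {Ω : Type*} [Group Ω] {S : Subgroup Ω} (F : FusionSystem S)
    {P Q : Subgroup Ω} (h : F.IsConj P Q) : Nat.card P = Nat.card Q := by
  obtain ⟨e, -⟩ := exists_iso_of_isConj F h
  exact Nat.card_congr e.toEquiv

theorem ne_top_of_card_lt {Ω : Type*} [Group Ω] {S P : Subgroup Ω} (h : Nat.card P < Nat.card S) :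
    P ≠ S := by
  rintro rfl
  exact lt_irrefl _ h

theorem card_lt_of_ne {Ω : Type*} [Group Ω] {S P : Subgroup Ω} [Finite S] (hPS : P ≤ S)
    (hne : P ≠ S) : Nat.card P < Nat.card S :=
  card_lt_card_of_lt (lt_of_le_of_ne hPS hne)

theorem hom_top_subset {Ω : Type*} [Group Ω] {S : Subgroup Ω} [Finite S] (F E : FusionSystem S)
    (h : F.autGroup S ≤ E.autGroup S) : F.Hom S ⊆ E.Hom S := by
  intro φ hφ
  have hr : φ.range = S := by
    apply Subgroup.eq_of_le_of_card_ge (range_le F hφ)
    rw [Nat.card_congr (MonoidHom.ofInjective (F.injective_of_mem hφ)).toEquiv]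
  obtain ⟨e, he, hex⟩ := exists_iso_of_hom F hφ hr
  have h1 : (e : MulAut S) ∈ E.autGroup S := h ((isIso_iff_mem_autGroup F le_rfl e).mp he)
  have h2 : IsIso E e := (isIso_iff_mem_autGroup E le_rfl e).mpr h1
  exact mem_of_forall_eq E h2 (fun x => (hex x).symm)

theorem autGroup_le_of_ih {Ω : Type*} [Group Ω] {S : Subgroup Ω} [Finite S] (p : ℕ) [Fact p.Prime]
    (hS : IsPGroup p S) (F : FusionSystem S) (hF : F.IsSaturated p) (E : FusionSystem S)
    (hE : ∀ P : Subgroup Ω, (P = S ∨ F.IsEssential p P) → F.autGroup P ≤ E.autGroup P)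
    {P : Subgroup Ω} (hPn : F.IsFullyNormalized P) (hne : P ≠ S)
    (ih : ∀ Q : Subgroup Ω, Q ≤ S → Nat.card P < Nat.card Q → F.Hom Q ⊆ E.Hom Q) :
    F.autGroup P ≤ E.autGroup P := by
  by_cases hess : F.IsEssential p P
  · exact hE P (Or.inr hess)
  · refine (autGroup_le_closure_extGen hS F hF hPn hne hess).trans ?_
    refine (Subgroup.closure_le _).mpr ?_
    rintro α ⟨Q, hPQ, ψ, hψ, h⟩
    have hQS : Q ≤ S := source_le F hψ
    have hfinQ : Finite Q := finite_of_le hQS
    have hψE : ψ ∈ E.Hom Q := ih Q hQS (card_lt_card_of_lt hPQ) hψ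
    exact extGen_subset_autGroup E P ⟨Q, hPQ, ψ, hψE, h⟩

theorem alperin_aux {Ω : Type*} [Group Ω] {S : Subgroup Ω} [Finite S] (p : ℕ) [Fact p.Prime]
    (hS : IsPGroup p S) (F : FusionSystem S) (hF : F.IsSaturated p) (E : FusionSystem S)
    (hE : ∀ P : Subgroup Ω, (P = S ∨ F.IsEssential p P) → F.autGroup P ≤ E.autGroup P) :
    ∀ (n : ℕ) (P : Subgroup Ω), P ≤ S → Nat.card S - Nat.card P = n → F.Hom P ⊆ E.Hom P := by
  intro n
  induction n using Nat.strong_induction_on with
  | _ n ih =>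
    intro P hPS hn
    have ih' : ∀ Q : Subgroup Ω, Q ≤ S → Nat.card P < Nat.card Q → F.Hom Q ⊆ E.Hom Q := by
      intro Q hQS hlt
      have hQc : Nat.card Q ≤ Nat.card S := card_le_card_of_le_of_finite hQS
      exact ih (Nat.card S - Nat.card Q) (by omega) Q hQS rfl
    by_cases hne : P = S
    · subst hne
      exact hom_top_subset F E (hE P (Or.inl rfl))
    · intro φ hφ
      have hPlt : Nat.card P < Nat.card S := card_lt_of_ne hPS hne
      obtain ⟨eφ, heφ, heφx⟩ := exists_iso_of_hom F hφ rfl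
      have hRS : φ.range ≤ S := range_le F hφ
      have hRcard : Nat.card φ.range = Nat.card P := (Nat.card_congr eφ.toEquiv).symm
      have hRne : φ.range ≠ S := ne_top_of_card_lt (by omega)
      obtain ⟨T, hPT, hTn⟩ := exists_fullyNormalized_conj F hPS
      have hTS : T ≤ S := hTn.1
      have hTcard : Nat.card T = Nat.card P := (card_eq_of_isConj F hPT).symm
      have hTne : T ≠ S := ne_top_of_card_lt (by omega)
      obtain ⟨-, hTa, hTr⟩ := saturated_fullyNormalized hS F hF hTn
      obtain ⟨N₁⟩ := nonempty_normalizerHom hS F hTa hTr hPT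
      have hRT : F.IsConj φ.range T := isConj_trans F (isConj_symm F heφ.isConj) hPT
      obtain ⟨N₂⟩ := nonempty_normalizerHom hS F hTa hTr hRT
      have hfinNP : Finite ↥(normalizerIn S P) := finite_of_le inf_le_left
      have hfinNR : Finite ↥(normalizerIn S φ.range) := finite_of_le inf_le_left
      have hN₁E : N₁.φ ∈ E.Hom (normalizerIn S P) :=
        ih' (normalizerIn S P) inf_le_left (card_lt_card_of_lt (lt_normalizerIn hS hPS hne)) N₁.mem
      have hN₂E : N₂.φ ∈ E.Hom (normalizerIn S φ.range) :=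
        ih' (normalizerIn S φ.range) inf_le_left (by
          have := card_lt_card_of_lt (lt_normalizerIn hS hRS hRne)
          omega) N₂.mem
      obtain ⟨e₁, he₁, he₁x⟩ := exists_iso_of_hom F (N₁.restrictQ_mem hPS) (N₁.restrictQ_range hPS)
      obtain ⟨e₂, he₂, he₂x⟩ := exists_iso_of_hom F (N₂.restrictQ_mem hRS) (N₂.restrictQ_range hRS)
      have he₁E : IsIso E e₁ :=
        mem_of_forall_eq E (restrict_mem E hN₁E (le_normalizerIn_self hPS)) (fun x => he₁x x)
      have he₂E : IsIso E e₂ :=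
        mem_of_forall_eq E (restrict_mem E hN₂E (le_normalizerIn_self hRS)) (fun x => he₂x x)
      have hαF : IsIso F (e₁.symm.trans (eφ.trans e₂)) := he₁.symm.trans (heφ.trans he₂)
      have hle : F.autGroup T ≤ E.autGroup T :=
        autGroup_le_of_ih p hS F hF E hE hTn hTne (fun Q hQS hlt => ih' Q hQS (by omega))
      have hαE : IsIso E (e₁.symm.trans (eφ.trans e₂)) :=
        (isIso_iff_mem_autGroup E hTS _).mpr (hle ((isIso_iff_mem_autGroup F hTS _).mp hαF))
      have hfin : IsIso E (e₁.trans ((e₁.symm.trans (eφ.trans e₂)).trans e₂.symm)) :=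
        he₁E.trans (hαE.trans he₂E.symm)
      refine mem_of_forall_eq E hfin (fun x => ?_)
      rw [← heφx x]
      simp

theorem result {Ω : Type*} [Group Ω] {S : Subgroup Ω} [Finite S] (p : ℕ) [Fact p.Prime] (hS : IsPGroup p S) (F : Cfsg.FusionSystem S) (hF : F.IsSaturated p) (E : Cfsg.FusionSystem S) (hE : ∀ P : Subgroup Ω, (P = S ∨ F.IsEssential p P) → F.autGroup P ≤ E.autGroup P) : F ≤ E := by
  intro P φ hφ
  exact alperin_aux p hS F hF E hE _ P (source_le F hφ) rfl hφ

end Cfsg.Agent.S5082
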