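import Cfsg.Statements.S5086
import Cfsg.Agent.Lib.Helper26.FusionNormal

set_option autoImplicit false
open Cfsg

namespace Cfsg.Agent.S5086

open Cfsg.Agent.Lib.Helper26 Cfsg.FusionSystem

theorem stronglyClosed_of_isNormal {Ω : Type*} [Group Ω] {S : Subgroup Ω} (F : FusionSystem S)
    {Q : Subgroup Ω} (hQ : F.IsNormal Q) : F.StronglyClosed Q := by
  refine ⟨hQ.1, fun R hRQ φ hφ x => ?_⟩
  obtain ⟨ψ, -, hψφ, hψQ⟩ := hQ.2 R φ hφ
  have h1 : ψ (Subgroup.inclusion le_sup_right ⟨(x : Ω), hRQ x.2⟩) ∈ Q :=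
    hψQ.le ((map_subgroupOf_sup_eq ψ).mpr ⟨⟨x, hRQ x.2⟩, rfl⟩)
  have h2 : Subgroup.inclusion (le_sup_right : Q ≤ R ⊔ Q) ⟨(x : Ω), hRQ x.2⟩ =
      Subgroup.inclusion (le_sup_left : R ≤ R ⊔ Q) x := Subtype.ext rfl
  rw [h2, hψφ] at h1
  exact h1

theorem map_eq_of_stronglyClosed {Ω : Type*} [Group Ω] {S : Subgroup Ω} [Finite S]
    (F : FusionSystem S) {Q : Subgroup Ω} (hQ : F.StronglyClosed Q) {P : Subgroup Ω} (hPS : P ≤ S)
    (hQP : Q ≤ P) {α : MulAut P} (hα : α ∈ F.autGroup P) :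
    (Q.subgroupOf P).map α.toMonoidHom = Q.subgroupOf P := by
  have hfinP : Finite P := finite_of_le hPS
  have hφ : P.subtype.comp α.toMonoidHom ∈ F.Hom P := (mem_autGroup_iff F hPS).mp hα
  apply Subgroup.eq_of_le_of_card_ge
  · rintro _ ⟨x, hx, rfl⟩
    have hxQ : (x : Ω) ∈ Q := Subgroup.mem_subgroupOf.mp hx
    have := hQ.2 Q le_rfl _ (restrict_mem F hφ hQP) ⟨x, hxQ⟩
    exact Subgroup.mem_subgroupOf.mpr this
  · rw [Subgroup.card_map_of_injective α.injective]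

theorem result {Ω : Type*} [Group Ω] {S : Subgroup Ω} [Finite S] (p : ℕ) [Fact p.Prime] (hS : IsPGroup p S) (F : Cfsg.FusionSystem S) (hF : F.IsSaturated p) (Q : Subgroup Ω) : F.IsNormal Q ↔ (F.StronglyClosed Q ∧ ∀ P : Subgroup Ω, F.IsCentric P → F.IsRadical p P → Q ≤ P) := by
  constructor
  · intro hQ
    refine ⟨stronglyClosed_of_isNormal F hQ, fun P hPc hPr => ?_⟩
    have hPS : P ≤ S := hPc.1
    exact isNormal_le_of_centric_radical hS hQ hPS (hPc.2 P (isConj_refl F hPS)) hPr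
  · rintro ⟨hQc, hQle⟩
    refine isNormal_of_forall_essential hS F hF Q (fun P hP => ?_)
    rcases hP with rfl | hess
    · exact ⟨hQc.1, fun α hα => map_eq_of_stronglyClosed F hQc le_rfl hQc.1 hα⟩
    · have hPS : P ≤ S := hess.2.1.1
      have hrad := Cfsg.Agent.S5080.result p hS F hF P hess
      have hQP : Q ≤ P := hQle P hess.1 hrad
      exact ⟨hQP, fun α hα => map_eq_of_stronglyClosed F hQc hPS hQP hα⟩

end Cfsg.Agent.S5086
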