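import Cfsg.Statements.S5134
import Cfsg.Agent.Lib.Helper26.PuigExt
import Cfsg.Agent.Lib.Helper26.Realize

set_option autoImplicit false
open Cfsg

namespace Cfsg.Agent.S5134

open Cfsg.FusionSystem Cfsg.Agent.Lib.Helper26

theorem hom_cast' {Ω : Type*} [Group Ω] {S : Subgroup Ω} (F : FusionSystem S) {A B : Subgroup Ω}
    (h : A = B) {ψ : A →* Ω} (hψ : ψ ∈ F.Hom A) :
    ∃ ψ' ∈ F.Hom B, ∀ (x : Ω) (hA : x ∈ A) (hB : x ∈ B), ψ' ⟨x, hB⟩ = ψ ⟨x, hA⟩ := by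
  subst h
  exact ⟨ψ, hψ, fun _ _ _ => rfl⟩

theorem result {Ω : Type*} [Group Ω] {S : Subgroup Ω} [Finite S] (p : ℕ) [Fact p.Prime] (hS : IsPGroup p S) (F : Cfsg.FusionSystem S) (hF : F.IsSaturated p) (S₀ : Subgroup Ω) (hS₀ : F.StronglyClosed S₀) {Ω' : Type*} [Group Ω'] {S' : Subgroup Ω'} (θ : S →* Ω') (E : Cfsg.FusionSystem S') (hE : F.IsFactorSystem S₀ θ E) : F.IsSurjectiveMorphism E θ := by
  obtain ⟨hS₀S, hker, hrange, hEhom⟩ := hE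
  have hθS' : ∀ s : S, θ s ∈ S' := fun s => hrange ▸ ⟨s, rfl⟩
  refine ⟨⟨hθS', ?_⟩, hrange, fun P' _ φ' hφ' => ((hEhom P' φ').mp hφ').2⟩
  intro P φ hφ
  have hPS : P ≤ S := (F.le_of_mem hφ).1
  have hφS : ∀ x : P, φ x ∈ S := (F.le_of_mem hφ).2
  obtain ⟨ψ, hψ, hψT⟩ := exists_extMod hS F hF hS₀ hφ
  have hmemP' : ∀ x : P, θ ⟨x, hPS x.2⟩ ∈ imageAlong θ P := fun x =>
    apply_mem_imSub θ (hPS x.2) x.2
  let π : P →* ↥(imageAlong θ P) := (θ.comp (Subgroup.inclusion hPS)).codRestrict _ hmemP'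
  let f : P →* Ω' := θ.comp (φ.codRestrict S hφS)
  have hπsurj : Function.Surjective π := by
    rintro ⟨y, hy⟩
    obtain ⟨x, hxS, hx, rfl⟩ := mem_imSub_iff.mp hy
    exact ⟨⟨x, hx⟩, rfl⟩
  have hkerle : π.ker ≤ f.ker := by
    intro x hx
    rw [MonoidHom.mem_ker] at hx ⊢
    have h1 : θ ⟨x, hPS x.2⟩ = 1 := congrArg Subtype.val hx
    have h2 : (x : Ω) ∈ S₀ := (hker _).mp h1
    have h3 : φ x ∈ S₀ := apply_mem_of_stronglyClosed F hS₀ hφ x h2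
    exact (hker ⟨φ x, hφS x⟩).mpr h3
  let φ' : ↥(imageAlong θ P) →* Ω' := MonoidHom.liftOfSurjective π hπsurj ⟨f, hkerle⟩
  have hφ'π : ∀ x : P, φ' (π x) = f x := fun x =>
    MonoidHom.liftOfRightInverse_comp_apply _ _ _ ⟨f, hkerle⟩ x
  have hind : InducedAlong θ φ φ' := ⟨hPS, hφS, hmemP', fun x => hφ'π x⟩
  refine ⟨φ', ?_, hind⟩
  rw [hEhom]
  have hP'S' : imageAlong θ P ≤ S' := by
    intro y hy
    obtain ⟨x, hxS, hx, rfl⟩ := mem_imSub_iff.mp hy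
    exact hθS' _
  refine ⟨hP'S', ?_⟩
  have hpre : P ⊔ S₀ = preimageAlong θ (imageAlong θ P) := by
    apply le_antisymm
    · refine sup_le ?_ ?_
      · intro x hx
        exact mem_preSub_iff.mpr ⟨hPS hx, hmemP' ⟨x, hx⟩⟩
      · intro x hx
        refine mem_preSub_iff.mpr ⟨hS₀S hx, ?_⟩
        rw [(hker ⟨x, hS₀S hx⟩).mpr hx]
        exact Subgroup.one_mem _
    · intro x hx
      obtain ⟨hxS, hx'⟩ := mem_preSub_iff.mp hx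
      obtain ⟨y, hyS, hy, hye⟩ := mem_imSub_iff.mp hx'
      have h1 : θ (⟨y, hyS⟩⁻¹ * ⟨x, hxS⟩) = 1 := by
        rw [map_mul, map_inv, hye, inv_mul_cancel]
      have h2 : y⁻¹ * x ∈ S₀ := (hker _).mp h1
      have e : x = y * (y⁻¹ * x) := by group
      rw [e]
      exact Subgroup.mul_mem _ (Subgroup.mem_sup_left hy) (Subgroup.mem_sup_right h2)
  obtain ⟨ψ', hψ', hψ'x⟩ := hom_cast' F hpre hψ
  refine ⟨ψ', hψ', preSub_le θ _, (F.le_of_mem hψ').2, fun x => (mem_preSub_iff.mp x.2).2, ?_⟩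
  intro x
  obtain ⟨hxS, hx'⟩ := mem_preSub_iff.mp x.2
  obtain ⟨y, hyS, hy, hye⟩ := mem_imSub_iff.mp hx'
  have h1 : θ (⟨y, hyS⟩⁻¹ * ⟨x, hxS⟩) = 1 := by
    rw [map_mul, map_inv, hye, inv_mul_cancel]
  have h2 : y⁻¹ * (x : Ω) ∈ S₀ := (hker _).mp h1
  have hxA : (x : Ω) ∈ P ⊔ S₀ := hpre.ge x.2
  have e1 : (⟨θ ⟨x, hxS⟩, hx'⟩ : ↥(imageAlong θ P)) = π ⟨y, hy⟩ := Subtype.ext hye.symm
  show φ' ⟨θ ⟨x, hxS⟩, hx'⟩ = θ ⟨ψ' x, _⟩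
  rw [e1, hφ'π]
  show θ ⟨φ ⟨y, hy⟩, hφS _⟩ = θ ⟨ψ' x, _⟩
  have e2 : ψ' x = ψ ⟨x, hxA⟩ := hψ'x x hxA x.2
  have e3 : (⟨(x : Ω), hxA⟩ : ↥(P ⊔ S₀)) = Subgroup.inclusion le_sup_left ⟨y, hy⟩ *
      Subgroup.inclusion le_sup_right ⟨y⁻¹ * (x : Ω), h2⟩ := by
    apply Subtype.ext
    show (x : Ω) = y * (y⁻¹ * x)
    group
  have h3 : ψ (Subgroup.inclusion le_sup_right ⟨y⁻¹ * (x : Ω), h2⟩) ∈ S₀ :=
    apply_mem_of_stronglyClosed F hS₀ hψ _ h2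
  have h4 := hψT ⟨y, hy⟩
  have hψS : ∀ z, ψ z ∈ S := (F.le_of_mem hψ).2
  have h5 : (φ ⟨y, hy⟩)⁻¹ * ψ' x ∈ S₀ := by
    rw [e2, e3, map_mul, ← mul_assoc]
    exact S₀.mul_mem h4 h3
  have h6 : θ (⟨φ ⟨y, hy⟩, hφS _⟩⁻¹ * ⟨ψ' x, (F.le_of_mem hψ').2 x⟩) = 1 := (hker _).mpr h5
  rw [map_mul, map_inv] at h6
  exact (inv_mul_eq_one.mp h6)

end Cfsg.Agent.S5134
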