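import Cfsg.Statements.S1967
import Cfsg.Agent.Lib.Helper13.Conj

set_option autoImplicit false
open Cfsg

namespace Cfsg.Agent.S1967

open Cfsg.Agent.Lib.Helper13

/-- Let p be a prime, G a finite group with Sylow p-subgroup S and W a conjugacy functor for p on G. Then W controls strong fusion in G if and only if, whenever T ≤ S and g ∈ G satisfy gTg⁻¹ ≤ S, one can write g = n c with n ∈ N_G(W(S)) and c ∈ C_G(T). -/
theorem result {G : Type*} [Group G] [Finite G] {p : ℕ} [Fact p.Prime] (S : Sylow p G) (W : Subgroup G → Subgroup G) (hW : Cfsg.IsConjugacyFunctor p W) : Cfsg.ControlsStrongFusionIn p W ⊤ ↔ ∀ (T : Subgroup G) (g : G), T ≤ (S : Subgroup G) → T.map (MulAut.conj g).toMonoidHom ≤ (S : Subgroup G) → ∃ n ∈ Subgroup.normalizer ((W (S : Subgroup G) : Subgroup G) : Set G), ∃ c ∈ Subgroup.centralizer (T : Set G), g = n * c := by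
  constructor
  · rintro ⟨T₀, -, hT₀p, hT₀i, hT₀⟩ T g hTS hgT
    rw [Subgroup.relIndex_top_right] at hT₀i
    -- T₀ is a Sylow subgroup
    obtain ⟨k, hk⟩ := MulAction.exists_smul_eq G (hT₀p.toSylow hT₀i) S
    have hkS : (S : Subgroup G) = T₀.map (MulAut.conj k).toMonoidHom := by
      rw [← hk, sylow_smul_coe]; rfl
    -- the set A and element h
    have hA : ((T.map (MulAut.conj k⁻¹).toMonoidHom : Subgroup G) : Set G) ⊆ T₀ := by
      intro a ha
      have ha' : a ∈ T.map (MulAut.conj k⁻¹).toMonoidHom := ha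
      rw [mem_cj] at ha'
      have h1 := hTS ha'
      rw [hkS, mem_cj] at h1
      simp only [inv_inv] at h1
      have e : k⁻¹ * (k * a * k⁻¹) * k = a := by group
      rw [e] at h1
      exact h1
    have hhA : (fun a => (k⁻¹ * g * k) * a * (k⁻¹ * g * k)⁻¹) ''
        ((T.map (MulAut.conj k⁻¹).toMonoidHom : Subgroup G) : Set G) ⊆ T₀ := by
      rintro _ ⟨a, ha, rfl⟩
      have ha' : a ∈ T.map (MulAut.conj k⁻¹).toMonoidHom := ha
      rw [mem_cj] at ha'
      simp only [inv_inv] at ha'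
      have h1 : g * (k * a * k⁻¹) * g⁻¹ ∈ (S : Subgroup G) := hgT (cj_mem ha')
      rw [hkS, mem_cj] at h1
      have e : k⁻¹ * (g * (k * a * k⁻¹) * g⁻¹) * k = (k⁻¹ * g * k) * a * (k⁻¹ * g * k)⁻¹ := by group
      rw [e] at h1
      exact h1
    obtain ⟨x, hx, hxa⟩ := hT₀ _ (k⁻¹ * g * k) (Subgroup.mem_top _) hA hhA
    have hxN : x ∈ Subgroup.normalizer ((W T₀ : Subgroup G) : Set G) := (Subgroup.mem_inf.mp hx).2
    have hWS : W (S : Subgroup G) = (W T₀).map (MulAut.conj k).toMonoidHom := by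
      rw [hkS]; exact (hW T₀ hT₀p).2.2 k
    refine ⟨k * x * k⁻¹, ?_, (k * x * k⁻¹)⁻¹ * g, ?_, by group⟩
    · rw [hWS, normalizer_cj]
      exact cj_mem hxN
    · rw [Subgroup.mem_centralizer_iff]
      intro t ht
      have hta : k⁻¹ * t * k ∈ ((T.map (MulAut.conj k⁻¹).toMonoidHom : Subgroup G) : Set G) := by
        show k⁻¹ * t * k ∈ T.map (MulAut.conj k⁻¹).toMonoidHom
        rw [mem_cj]
        simp only [inv_inv]
        have e : k * (k⁻¹ * t * k) * k⁻¹ = t := by group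
        rw [e]; exact ht
      have h2 := hxa _ hta
      have h3 : (k * x * k⁻¹) * t * (k * x * k⁻¹)⁻¹ = g * t * g⁻¹ := by
        calc (k * x * k⁻¹) * t * (k * x * k⁻¹)⁻¹ = k * (x * (k⁻¹ * t * k) * x⁻¹) * k⁻¹ := by group
          _ = k * ((k⁻¹ * g * k) * (k⁻¹ * t * k) * (k⁻¹ * g * k)⁻¹) * k⁻¹ := by rw [h2]
          _ = g * t * g⁻¹ := by group
      calc t * ((k * x * k⁻¹)⁻¹ * g) = (k * x * k⁻¹)⁻¹ * ((k * x * k⁻¹) * t * (k * x * k⁻¹)⁻¹) * (k * x * k⁻¹) * (k * x * k⁻¹)⁻¹ * g := by group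
        _ = (k * x * k⁻¹)⁻¹ * (g * t * g⁻¹) * (k * x * k⁻¹) * (k * x * k⁻¹)⁻¹ * g := by rw [h3]
        _ = (k * x * k⁻¹)⁻¹ * g * t := by group
  · intro H
    refine ⟨S, le_top, S.isPGroup', ?_, ?_⟩
    · rw [Subgroup.relIndex_top_right]; exact S.not_dvd_index
    · intro A h _ hAS hhA
      have hT : Subgroup.closure A ≤ (S : Subgroup G) := (Subgroup.closure_le _).mpr hAS
      have hgT : (Subgroup.closure A).map (MulAut.conj h).toMonoidHom ≤ (S : Subgroup G) := by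
        rw [MonoidHom.map_closure, Subgroup.closure_le]
        rintro _ ⟨a, ha, rfl⟩
        exact hhA ⟨a, ha, rfl⟩
      obtain ⟨n, hn, c, hc, hnc⟩ := H _ h hT hgT
      refine ⟨n, Subgroup.mem_inf.mpr ⟨Subgroup.mem_top _, hn⟩, ?_⟩
      intro a ha
      have hca : a * c = c * a := (Subgroup.mem_centralizer_iff.mp hc) a (Subgroup.subset_closure ha)
      rw [hnc]
      calc n * a * n⁻¹ = n * (a * c) * c⁻¹ * n⁻¹ := by group
        _ = n * (c * a) * c⁻¹ * n⁻¹ := by rw [hca]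
        _ = n * c * a * (n * c)⁻¹ := by group

end Cfsg.Agent.S1967
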