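import Cfsg.Statements.S1961
import Cfsg.Agent.S1963
import Cfsg.Agent.S1967
import Cfsg.Agent.Lib.Helper13.WellPlaced2

set_option autoImplicit false
open Cfsg

namespace Cfsg.Agent.S1961

open Cfsg.Agent.Lib.Helper13

section

variable {G : Type*} [Group G] [Finite G] {p : ℕ} [Fact p.Prime] (S : Sylow p G)
  (W : Subgroup G → Subgroup G) (hW : Cfsg.IsConjugacyFunctor p W)
  (hloc : ∀ T : Subgroup G, T ≠ ⊥ → Cfsg.IsWellPlaced p W (S : Subgroup G) T →
    Cfsg.ControlsStrongFusionIn p W (Subgroup.normalizer ((T : Subgroup G) : Set G)))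

include hW hloc in
theorem lemmaM (U : Subgroup G) (hU : Cfsg.IsWellPlaced p W (S : Subgroup G) U) (hne : U ≠ ⊥)
    (R : Subgroup G) (hRU : R ≤ U) (x : G) (hx : x ∈ Subgroup.normalizer ((U : Subgroup G) : Set G)) :
    ∃ y ∈ Subgroup.normalizer ((W (S : Subgroup G) : Subgroup G) : Set G),
      ∀ a ∈ R, y * a * y⁻¹ = x * a * x⁻¹ := by
  have hSp : IsPGroup p ↥(S : Subgroup G) := S.isPGroup'
  have key : ∀ j : ℕ, ∃ y ∈ Subgroup.normalizer
      ((Cfsg.functorTower W (S : Subgroup G) U j : Subgroup G) : Set G),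
      ∀ a ∈ R, y * a * y⁻¹ = x * a * x⁻¹ := by
    intro j
    induction j with
    | zero => exact ⟨x, hx, fun _ _ => rfl⟩
    | succ j ih =>
      obtain ⟨y, hy, hya⟩ := ih
      have hwp := wellPlaced_tower hW hSp hU j
      have hnb := tower_ne_bot hW hSp hU.1 hne j
      have hc := hloc _ hnb hwp
      have hUQ : U ≤ (S : Subgroup G) ⊓ Subgroup.normalizer
          ((Cfsg.functorTower W (S : Subgroup G) U j : Subgroup G) : Set G) := by
        have h0 : U ≤ (S : Subgroup G) ⊓ Subgroup.normalizer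
            ((Cfsg.functorTower W (S : Subgroup G) U 0 : Subgroup G) : Set G) :=
          le_inf hU.1 Subgroup.le_normalizer
        exact h0.trans (tower_normalizer_mono' hW hSp U (Nat.zero_le j))
      have hxU : ∀ a ∈ R, x * a * x⁻¹ ∈ U := fun a ha =>
        (Subgroup.mem_normalizer_iff.mp hx a).mp (hRU ha)
      obtain ⟨y', hy', hy'a⟩ := controls_of_sylow hW hc
        (inf_le_right : (S : Subgroup G) ⊓ Subgroup.normalizer
          ((Cfsg.functorTower W (S : Subgroup G) U j : Subgroup G) : Set G) ≤ _)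
        (hSp.to_le inf_le_left) (hU.2 j) (R : Set G) y hy
        (fun a ha => hUQ (hRU ha))
        (by
          rintro _ ⟨a, ha, rfl⟩
          show y * a * y⁻¹ ∈ _
          rw [hya a ha]
          exact hUQ (hxU a ha))
      refine ⟨y', (Subgroup.mem_inf.mp hy').2, fun a ha => ?_⟩
      rw [hy'a a ha, hya a ha]
  obtain ⟨y, hy, hya⟩ := key (Nat.card ↥(S : Subgroup G) + 1)
  rw [tower_eq_functor_top hW hSp U] at hy
  exact ⟨y, hy, hya⟩

include hW hloc in
theorem lemmaG {R : Subgroup G} {k : G}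
    (h : ConjChain {T : Subgroup G | Cfsg.IsWellPlaced p W (S : Subgroup G) T} R k) :
    ∃ c ∈ Subgroup.centralizer (R : Set G),
      ∃ n ∈ Subgroup.normalizer ((W (S : Subgroup G) : Subgroup G) : Set G), k = c * n := by
  induction h with
  | nil R => exact ⟨1, Subgroup.one_mem _, 1, Subgroup.one_mem _, by simp⟩
  | cons R T x g hT hx hRT _ ih =>
    obtain ⟨c', hc', n', hn', hg⟩ := ih
    by_cases hTb : T = ⊥
    · refine ⟨x * g, ?_, 1, Subgroup.one_mem _, by simp⟩
      have : R = ⊥ := by rw [hTb] at hRT; exact le_bot_iff.mp hRT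
      rw [this, Subgroup.mem_centralizer_iff]
      intro a ha
      have ha' : a = 1 := ha
      rw [ha']; simp
    · obtain ⟨y, hy, hya⟩ := lemmaM S W hW hloc T hT hTb R hRT x⁻¹ (Subgroup.inv_mem _ hx)
      have hcR : x * y ∈ Subgroup.centralizer (R : Set G) := by
        rw [Subgroup.mem_centralizer_iff]
        intro a ha
        have h1 := hya a ha
        rw [inv_inv] at h1
        calc a * (x * y) = x * (x⁻¹ * a * x) * y := by group
          _ = x * (y * a * y⁻¹) * y := by rw [h1]
          _ = x * y * a := by group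
      have hconj : y⁻¹ * c' * y ∈ Subgroup.centralizer (R : Set G) := by
        rw [Subgroup.mem_centralizer_iff]
        intro a ha
        have h1 := hya a ha
        rw [inv_inv] at h1
        have h2 : y * a * y⁻¹ ∈ rc R x := by rw [h1]; exact rc_mem ha
        have h3 := (Subgroup.mem_centralizer_iff.mp hc') _ h2
        calc a * (y⁻¹ * c' * y) = y⁻¹ * ((y * a * y⁻¹) * c') * y := by group
          _ = y⁻¹ * (c' * (y * a * y⁻¹)) * y := by rw [h3]
          _ = y⁻¹ * c' * y * a := by group
      refine ⟨x * y * (y⁻¹ * c' * y), Subgroup.mul_mem _ hcR hconj, y⁻¹ * n',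
        Subgroup.mul_mem _ (Subgroup.inv_mem _ hy) hn', ?_⟩
      rw [hg]
      group

end

/-- Local-to-global control of strong fusion through well-placed subgroups. Let p be a prime, G a finite group with Sylow p-subgroup S, and W a conjugacy functor for p on G. If W controls strong fusion in N_G(T) for every nonidentity subgroup T of S that is well placed in S with respect to W, then W controls strong fusion in G. -/
theorem result {G : Type*} [Group G] [Finite G] {p : ℕ} [Fact p.Prime] (S : Sylow p G) (W : Subgroup G → Subgroup G) (hW : Cfsg.IsConjugacyFunctor p W) (hloc : ∀ T : Subgroup G, T ≠ ⊥ → Cfsg.IsWellPlaced p W (S : Subgroup G) T → Cfsg.ControlsStrongFusionIn p W (Subgroup.normalizer ((T : Subgroup G) : Set G))) : Cfsg.ControlsStrongFusionIn p W ⊤ := by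
  rw [Cfsg.Agent.S1967.result S W hW]
  intro T g hTS hgT
  have hchain : ConjChain {T : Subgroup G | Cfsg.IsWellPlaced p W (S : Subgroup G) T} T g⁻¹ := by
    apply conjChain_of_le S _ (fun U hU => hU.1) _ (Nat.card ↥(S : Subgroup G)) T hTS (Nat.sub_le _ _)
    · rw [rc_def, inv_inv]; exact hgT
    · intro T' hT'
      obtain ⟨g', hg'⟩ := Cfsg.Agent.S1963.result S W hW T' hT'
      exact ⟨_, hg', ⟨g', rfl⟩, hg'.2 0⟩
  obtain ⟨c, hc, n, hn, hk⟩ := lemmaG S W hW hloc hchain
  refine ⟨n⁻¹, Subgroup.inv_mem _ hn, c⁻¹, Subgroup.inv_mem _ hc, ?_⟩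
  have : g = (g⁻¹)⁻¹ := by simp
  rw [this, hk]
  group

end Cfsg.Agent.S1961
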