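import Cfsg.Statements.S3071
import Cfsg.Agent.Lib.Helper10.ZJfree1
import Cfsg.Agent.Lib.Helper10.ZJfree2

set_option autoImplicit false
open Cfsg

namespace Cfsg.Agent.S3071

open Cfsg.Agent.Lib.Helper9 Cfsg.Agent.Lib.Helper10.ZJnpc Cfsg.Agent.Lib.Helper10.ZJfree
  Cfsg.Agent.Lib.Helper13

theorem center_le_zfam_comm {G : Type*} [Group G] [Finite G] (H : Subgroup G) :
    H ⊓ Subgroup.centralizer (H : Set G) ≤ zfam (fun A : Subgroup G => IsMulCommutative A) H := by
  intro x hx
  obtain ⟨hxH, hxC⟩ := Subgroup.mem_inf.mp hx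
  unfold zfam
  rw [Subgroup.mem_sInf]
  intro A hA
  have hAc := hA.2.1
  have hcomm : ∀ a ∈ ((A : Set G) ∪ {x}), ∀ b ∈ ((A : Set G) ∪ {x}), a * b = b * a := by
    intro a ha b hb
    rcases ha with ha | ha <;> rcases hb with hb | hb
    · exact setLike_mul_comm ha hb
    · rw [Set.mem_singleton_iff] at hb; subst hb
      exact (Subgroup.mem_centralizer_iff.mp hxC a (hA.1 ha))
    · rw [Set.mem_singleton_iff] at ha; subst ha
      exact (Subgroup.mem_centralizer_iff.mp hxC b (hA.1 hb)).symm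
    · rw [Set.mem_singleton_iff] at ha hb; subst ha; subst hb; rfl
  have hc : IsMulCommutative (Subgroup.closure ((A : Set G) ∪ {x})) :=
    Subgroup.isMulCommutative_closure hcomm
  have hleS : Subgroup.closure ((A : Set G) ∪ {x}) ≤ H := by
    rw [Subgroup.closure_le]
    rintro y (hy | hy)
    · exact hA.1 hy
    · rw [Set.mem_singleton_iff] at hy; subst hy; exact hxH
  have hcard := hA.2.2 _ hleS hc
  have hAle : A ≤ Subgroup.closure ((A : Set G) ∪ {x}) := by
    intro a ha; exact Subgroup.subset_closure (Or.inl ha)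
  have heq := Subgroup.eq_of_le_of_card_ge hAle hcard
  rw [heq]
  exact Subgroup.subset_closure (Or.inr rfl)

theorem exists_section_of_involves {G : Type*} [Group G] {X : Type*} [Group X] (N : Subgroup G)
    (h : Cfsg.Involves X ↥N) :
    ∃ (H K : Subgroup G) (_ : (K.subgroupOf H).Normal), H ≤ N ∧
      Nonempty ((H ⧸ K.subgroupOf H) ≃* X) := by
  obtain ⟨K', R', hn, ⟨e⟩⟩ := h
  have hn' := hn
  obtain ⟨H, hH⟩ : ∃ H : Subgroup G, H = K'.map N.subtype := ⟨_, rfl⟩
  have hHN : H ≤ N := by rw [hH]; exact Subgroup.map_subtype_le _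
  obtain ⟨f, hf⟩ : ∃ f : ↥H →* X, Function.Surjective f := by
    rw [hH]
    refine ⟨(e.toMonoidHom.comp (QuotientGroup.mk' (R'.subgroupOf K'))).comp
      (K'.equivMapOfInjective N.subtype N.subtype_injective).symm.toMonoidHom, ?_⟩
    exact (e.surjective.comp (QuotientGroup.mk'_surjective _)).comp
      (K'.equivMapOfInjective N.subtype N.subtype_injective).symm.surjective
  have hR : (f.ker.map H.subtype).subgroupOf H = f.ker :=
    Subgroup.comap_map_eq_self_of_injective H.subtype_injective _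
  have hNn : ((f.ker.map H.subtype).subgroupOf H).Normal := by rw [hR]; infer_instance
  exact ⟨H, f.ker.map H.subtype, hNn, hHN,
    ⟨(QuotientGroup.quotientMulEquivOfEq hR).trans (QuotientGroup.quotientKerEquivOfSurjective f hf)⟩⟩

/-- Let p be an odd prime and S a Sylow p-subgroup of the finite group G such that, for every subgroup P with Z(S) ≤ P ≤ S, the normalizer N_G(P) has no section isomorphic to SL₂(p). Let J(S) be the subgroup generated by the abelian subgroups of S of largest order. Then two elements of S are conjugate in G if and only if they are conjugate in N_G(Z(J(S))). -/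
theorem result {G : Type*} [Group G] [Finite G] {p : ℕ} [Fact p.Prime]
    (hp : p ≠ 2) (S : Sylow p G)
    (hfree : ∀ P : Subgroup G, (S : Subgroup G) ⊓ Subgroup.centralizer ((S : Subgroup G) : Set G) ≤ P → P ≤ S →
      ¬ ∃ (H K : Subgroup G) (hK : (K.subgroupOf H).Normal), H ≤ Subgroup.normalizer (P : Set G) ∧
        Nonempty ((H ⧸ K.subgroupOf H) ≃* Matrix.SpecialLinearGroup (Fin 2) (ZMod p))) :
    ∀ x ∈ S, ∀ y ∈ S, (∃ g : G, g * x * g⁻¹ = y) ↔
      ∃ n ∈ Subgroup.normalizer (Cfsg.centerThompsonAOf (S : Subgroup G) : Set G), n * x * n⁻¹ = y := by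
  have hQ := qfam_comm (p := p) hp
  obtain ⟨W, hWdef⟩ : ∃ W : Subgroup G → Subgroup G, W = Cfsg.inducedFunctor (G := G)
      (Wz (fun (X : Type _) [Group X] (A : Subgroup X) => IsMulCommutative A)) := ⟨_, rfl⟩
  have hWeq : ∀ P : Subgroup G, W P = Cfsg.centerThompsonAOf P := by
    intro P
    rw [hWdef, inducedFunctor_Wz hQ P]
    exact zfam_eq_centerThompsonAOf P
  have hW : Cfsg.IsConjugacyFunctor p W := by
    rw [hWdef]
    exact inducedFunctor_isConjugacyFunctor _ (isCharPFunctor_Wz hQ)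
  have hWZ : ∀ H : Subgroup G, IsPGroup p ↥H →
      H ⊓ Subgroup.centralizer ((H : Subgroup G) : Set G) ≤ W H := by
    intro H _
    rw [hWdef, inducedFunctor_Wz hQ H]
    exact center_le_zfam_comm H
  have hloc : ∀ T : Subgroup G,
      (S : Subgroup G) ⊓ Subgroup.centralizer (((S : Subgroup G) : Subgroup G) : Set G) ≤ T →
      T ≤ (S : Subgroup G) →
      Cfsg.ControlsStrongFusionIn p W (Subgroup.normalizer ((T : Subgroup G) : Set G)) := by
    intro T hZT hTS
    rw [hWdef]
    apply local_controls hp hQ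
    intro hinv
    apply hfree T hZT hTS
    exact exists_section_of_involves _ hinv
  intro x hx y hy
  constructor
  · rintro ⟨g, hg⟩
    have hR : Subgroup.zpowers x ≤ (S : Subgroup G) := by
      rw [Subgroup.zpowers_le]; exact hx
    have hrc : rc (Subgroup.zpowers x) g⁻¹ ≤ (S : Subgroup G) := by
      intro b hb
      rw [mem_rc] at hb
      obtain ⟨k, hk⟩ := Subgroup.mem_zpowers_iff.mp hb
      have e : b = (g * x * g⁻¹) ^ k := by
        rw [conj_zpow, hk]; group
      rw [e, hg]
      exact Subgroup.zpow_mem _ hy k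
    obtain ⟨c, hc, n, hn, hgcn⟩ := cn_global S W hW hWZ hloc (Subgroup.zpowers x) hR g⁻¹ hrc
    rw [hWeq] at hn
    refine ⟨n⁻¹, Subgroup.inv_mem _ hn, ?_⟩
    have hcx : c⁻¹ * x * c = x := by
      have := Subgroup.mem_centralizer_iff.mp hc x (Subgroup.mem_zpowers x)
      rw [mul_assoc, this]; group
    have hg' : g = n⁻¹ * c⁻¹ := by
      have : g = (g⁻¹)⁻¹ := by simp
      rw [this, hgcn]; group
    rw [← hg, hg']
    calc n⁻¹ * x * n⁻¹⁻¹ = n⁻¹ * (c⁻¹ * x * c) * n := by rw [hcx, inv_inv]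
      _ = n⁻¹ * c⁻¹ * x * (n⁻¹ * c⁻¹)⁻¹ := by group
  · rintro ⟨n, _, hn⟩
    exact ⟨n, hn⟩

end Cfsg.Agent.S3071
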