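import Cfsg.Statements.S4357

import Cfsg.Agent.Lib.helper15.SL2Torus
import Cfsg.Agent.Lib.helper15.SL2Card
import Cfsg.Agent.Lib.helper15.SL2Nonsplit
import Cfsg.Agent.S0809
set_option autoImplicit false
open Cfsg

namespace Cfsg.Agent.S4357


open Cfsg.Agent.Lib.helper15 Cfsg.Agent.S2508 Cfsg.Agent.S0809

section Abstract

variable {G : Type*} [Group G] {p : ℕ} [Fact p.Prime]

theorem mem_smul_sylow (g : G) (P : Sylow p G) (a : G) : a ∈ g • P ↔ g⁻¹ * a * g ∈ P := by
  have : a ∈ g • P ↔ a ∈ ((g • P : Sylow p G) : Subgroup G) := Iff.rfl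
  rw [this, Sylow.coe_subgroup_smul, Subgroup.mem_pointwise_smul_iff_inv_smul_mem]
  have : (MulAut.conj g)⁻¹ • a = g⁻¹ * a * g := by
    rw [← map_inv, MulAut.smul_def, MulAut.conj_apply, inv_inv]
  rw [this]
  rfl

theorem sylow_eq_of_le_abelian (P P' : Sylow p G) (T : Subgroup G)
    (hT : ∀ a ∈ T, ∀ b ∈ T, a * b = b * a) (hP : (P : Subgroup G) ≤ T)
    (hP' : (P' : Subgroup G) ≤ T) : P = P' := by
  have hle : (P' : Subgroup G) ≤ Subgroup.normalizer ((P : Subgroup G) : Set G) := by
    intro a ha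
    rw [Subgroup.mem_normalizer_iff]
    intro h
    constructor
    · intro hh
      have : a * h * a⁻¹ = h := by
        rw [hT a (hP' ha) h (hP hh)]
        group
      rw [this]
      exact hh
    · intro hh
      have : a * h * a⁻¹ = h := by
        have h1 := hT a (hP' ha) (a * h * a⁻¹) (hP hh)
        have h2 : a * (a * h * a⁻¹) = a * h := by
          rw [h1]
          group
        have h3 := mul_left_cancel h2
        exact h3
      rw [← this]
      exact hh
  have hsup : IsPGroup p ((P' : Subgroup G) ⊔ (P : Subgroup G) : Subgroup G) :=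
    IsPGroup.to_sup_of_normal_right' P'.isPGroup' P.isPGroup' hle
  have h1 : ((P' : Subgroup G) ⊔ (P : Subgroup G)) = P := P.is_maximal' hsup le_sup_right
  have h2 : (P' : Subgroup G) ≤ P := by
    rw [← h1]
    exact le_sup_left
  have h3 : (P : Subgroup G) = P' := P'.is_maximal' P.isPGroup' h2
  exact Sylow.ext h3

theorem uniq_not_redundant [Finite G]
    (h : ∃ x : G, (∃ k : ℕ, orderOf x = p ^ k) ∧
      ∀ P P' : Sylow p G, x ∈ P → x ∈ P' → P = P') :
    ¬ ∃ Q : Sylow p G, ∀ x : G, (∃ k : ℕ, orderOf x = p ^ k) → ∃ P : Sylow p G, P ≠ Q ∧ x ∈ P := by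
  obtain ⟨x₀, ⟨k, hk⟩, huniq⟩ := h
  rintro ⟨Q, hQ⟩
  have hz : IsPGroup p (Subgroup.zpowers x₀) := by
    apply IsPGroup.of_card (n := k)
    rw [Nat.card_zpowers, hk]
  obtain ⟨P₀, hP₀⟩ := hz.exists_le_sylow
  have hx₀ : x₀ ∈ P₀ := hP₀ (Subgroup.mem_zpowers x₀)
  obtain ⟨g, hg⟩ := MulAction.exists_smul_eq G P₀ Q
  obtain ⟨P, hPQ, hxP⟩ := hQ (g * x₀ * g⁻¹) ⟨k, by
    rw [← hk]
    exact (MulAut.conj g).orderOf_eq x₀⟩
  apply hPQ
  have h1 : x₀ ∈ g⁻¹ • P := by
    rw [mem_smul_sylow, inv_inv]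
    exact hxP
  have h2 := huniq _ _ h1 hx₀
  rw [← hg, ← h2, smul_smul, mul_inv_cancel, one_smul]

def Two (p : ℕ) [Fact p.Prime] (x : G) : Prop :=
  ∃ P₁ P₂ : Sylow p G, P₁ ≠ P₂ ∧ x ∈ P₁ ∧ x ∈ P₂

theorem two_conj (x g : G) (h : Two p x) : Two p (g * x * g⁻¹) := by
  obtain ⟨P₁, P₂, hne, h1, h2⟩ := h
  refine ⟨g • P₁, g • P₂, ?_, ?_, ?_⟩
  · intro heq
    apply hne
    have := congrArg (fun P => g⁻¹ • P) heq
    simpa [smul_smul] using this
  · rw [mem_smul_sylow]
    have : g⁻¹ * (g * x * g⁻¹) * g = x := by group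
    rw [this]
    exact h1
  · rw [mem_smul_sylow]
    have : g⁻¹ * (g * x * g⁻¹) * g = x := by group
    rw [this]
    exact h2

theorem two_imp (x : G) (h : Two p x) (Q : Sylow p G) : ∃ P : Sylow p G, P ≠ Q ∧ x ∈ P := by
  obtain ⟨P₁, P₂, hne, h1, h2⟩ := h
  by_cases hQ : P₁ = Q
  · exact ⟨P₂, fun h' => hne (hQ.trans h'.symm), h2⟩
  · exact ⟨P₁, hQ, h1⟩

theorem two_pow (x : G) (n : ℕ) (h : Two p x) : Two p (x ^ n) := by
  obtain ⟨P₁, P₂, hne, h1, h2⟩ := h
  exact ⟨P₁, P₂, hne, Subgroup.pow_mem _ h1 n, Subgroup.pow_mem _ h2 n⟩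

end Abstract

section TI

variable {F : Type*} [Field F] [Fintype F] {p : ℕ} [Fact p.Prime]

theorem pelt_of_mem (P : Sylow p (Matrix.SpecialLinearGroup (Fin 2) F))
    (y : Matrix.SpecialLinearGroup (Fin 2) F) (hy : y ∈ P) : ∃ k : ℕ, orderOf y = p ^ k := by
  obtain ⟨k, hk⟩ := P.isPGroup' ⟨y, hy⟩
  have hk' : y ^ p ^ k = 1 := by
    have := congrArg Subtype.val hk
    simpa using this
  have hd := orderOf_dvd_of_pow_eq_one hk'
  obtain ⟨j, _, hj⟩ := (Nat.dvd_prime_pow Fact.out).mp hd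
  exact ⟨j, hj⟩

theorem nonscalar_of_pelt (hp2 : p ≠ 2 ∨ (2 : F) = 0) (y : Matrix.SpecialLinearGroup (Fin 2) F)
    (hy : ∃ k : ℕ, orderOf y = p ^ k) (hy1 : y ≠ 1) :
    ∀ c : F, (y : Matrix (Fin 2) (Fin 2) F) ≠ c • (1 : Matrix (Fin 2) (Fin 2) F) := by
  intro c hc
  rcases scalar_cases y c hc with h | h
  · exact hy1 h
  · rcases hp2 with hp | h2
    · obtain ⟨k, hk⟩ := hy
      have hsq : y ^ 2 = 1 := by
        rw [h]
        simp
      have hd := orderOf_dvd_of_pow_eq_one hsq
      rw [hk] at hd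
      rcases Nat.eq_zero_or_pos k with rfl | hkpos
      · rw [pow_zero, orderOf_eq_one_iff] at hk
        exact hy1 hk
      · have : p ∣ 2 := dvd_trans (dvd_pow_self p (by omega)) hd
        exact hp ((Nat.prime_dvd_prime_iff_eq Fact.out Nat.prime_two).mp this)
    · apply hy1
      rw [h]
      apply Subtype.ext
      rw [Matrix.SpecialLinearGroup.coe_neg, Matrix.SpecialLinearGroup.coe_one]
      have : (-1 : F) = 1 := by
        have : (1 : F) + 1 = 0 := by rw [one_add_one_eq_two]; exact h2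
        linear_combination -this
      ext i j
      fin_cases i <;> fin_cases j <;> simp [this]

theorem sylow_le_centralizer (hp2 : p ≠ 2 ∨ (2 : F) = 0)
    (P : Sylow p (Matrix.SpecialLinearGroup (Fin 2) F))
    (y : Matrix.SpecialLinearGroup (Fin 2) F) (hy : y ∈ P) (hy1 : y ≠ 1) :
    (P : Subgroup (Matrix.SpecialLinearGroup (Fin 2) F)) ≤
      Subgroup.centralizer ({y} : Set (Matrix.SpecialLinearGroup (Fin 2) F)) := by
  haveI : Nontrivial ↥(P : Subgroup (Matrix.SpecialLinearGroup (Fin 2) F)) :=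
    ⟨⟨⟨y, hy⟩, 1, fun h => hy1 (congrArg Subtype.val h)⟩⟩
  haveI := P.isPGroup'.center_nontrivial
  obtain ⟨⟨z, hz⟩, hz1⟩ := exists_ne (1 : Subgroup.center ↥(P : Subgroup (Matrix.SpecialLinearGroup (Fin 2) F)))
  have hz1' : (z : Matrix.SpecialLinearGroup (Fin 2) F) ≠ 1 := by
    intro h
    apply hz1
    apply Subtype.ext
    apply Subtype.ext
    exact h
  have hzns := nonscalar_of_pelt hp2 (z : Matrix.SpecialLinearGroup (Fin 2) F)
    (pelt_of_mem P _ z.2) hz1'
  have hyns := nonscalar_of_pelt hp2 y (pelt_of_mem P y hy) hy1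
  have hPz : (P : Subgroup (Matrix.SpecialLinearGroup (Fin 2) F)) ≤
      Subgroup.centralizer ({(z : Matrix.SpecialLinearGroup (Fin 2) F)} :
        Set (Matrix.SpecialLinearGroup (Fin 2) F)) := by
    intro a ha
    rw [Subgroup.mem_centralizer_singleton_iff]
    have := Subgroup.mem_center_iff.mp hz ⟨a, ha⟩
    have h' := congrArg Subtype.val this
    simpa using h'
  rw [centralizer_eq_of_mem (z : Matrix.SpecialLinearGroup (Fin 2) F) hzns y (hPz hy) hyns]
  exact hPz

theorem uniq_of_nonscalar (hp2 : p ≠ 2 ∨ (2 : F) = 0) :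
    ∃ x : Matrix.SpecialLinearGroup (Fin 2) F, (∃ k : ℕ, orderOf x = p ^ k) ∧
      ∀ P P' : Sylow p (Matrix.SpecialLinearGroup (Fin 2) F), x ∈ P → x ∈ P' → P = P' := by
  obtain ⟨Q⟩ : Nonempty (Sylow p (Matrix.SpecialLinearGroup (Fin 2) F)) := inferInstance
  by_cases hQ : ∃ y ∈ Q, y ≠ 1
  · obtain ⟨y, hy, hy1⟩ := hQ
    refine ⟨y, pelt_of_mem Q y hy, fun P P' h h' => ?_⟩
    have hyns := nonscalar_of_pelt hp2 y (pelt_of_mem Q y hy) hy1
    exact sylow_eq_of_le_abelian P P' _
      (fun a ha b hb => centralizer_comm y hyns a b ha hb)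
      (sylow_le_centralizer hp2 P y h hy1) (sylow_le_centralizer hp2 P' y h' hy1)
  · push_neg at hQ
    refine ⟨1, ⟨0, by simp⟩, fun P P' _ _ => ?_⟩
    have hall : ∀ R : Sylow p (Matrix.SpecialLinearGroup (Fin 2) F), ∀ a ∈ R, a = 1 := by
      intro R a ha
      obtain ⟨g, hg⟩ := MulAction.exists_smul_eq (Matrix.SpecialLinearGroup (Fin 2) F) Q R
      rw [← hg, mem_smul_sylow] at ha
      have := hQ _ ha
      calc a = g * (g⁻¹ * a * g) * g⁻¹ := by group
        _ = 1 := by rw [this]; group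
    apply Sylow.ext
    ext a
    constructor
    · intro ha
      rw [hall P a ha]
      exact Subgroup.one_mem _
    · intro ha
      rw [hall P' a ha]
      exact Subgroup.one_mem _

end TI

section TwoGroup

variable {F : Type*} [Field F] [Fintype F]

theorem four_ne (h2 : (2 : F) ≠ 0) : (0 : F) ^ 2 ≠ 4 := by
  have : (4 : F) = 2 * 2 := by norm_num
  rw [this]
  simp [h2]

theorem norm_of_conj_mem' {G : Type*} [Group G] (V : Subgroup G) [Finite V] (h : G)
    (hh : ∀ v ∈ V, h * v * h⁻¹ ∈ V) : h ∈ Subgroup.normalizer (V : Set G) := by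
  rw [Subgroup.mem_normalizer_iff]
  intro x
  constructor
  · exact hh x
  · intro hx
    have hinj : Function.Injective (fun v : V => (⟨h * v.1 * h⁻¹, hh v.1 v.2⟩ : V)) := by
      intro v w hvw
      have := congrArg Subtype.val hvw
      simp only at this
      exact Subtype.ext (mul_left_cancel (mul_right_cancel this))
    obtain ⟨v, hv⟩ := Finite.surjective_of_injective hinj ⟨h * x * h⁻¹, hx⟩
    have := congrArg Subtype.val hv
    simp only at this
    have hvx : v.1 = x := mul_left_cancel (mul_right_cancel this)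
    rw [← hvx]
    exact v.2

theorem uniq_two (hodd : Fintype.card F % 2 = 1) (h2 : (2 : F) ≠ 0)
    (J : Matrix.SpecialLinearGroup (Fin 2) F)
    (hJns : ∀ c : F, (J : Matrix (Fin 2) (Fin 2) F) ≠ c • (1 : Matrix (Fin 2) (Fin 2) F))
    (hJt : (J : Matrix (Fin 2) (Fin 2) F).trace = 0) (k : ℕ) (hk2 : 2 ≤ k)
    (hk : Nat.card (Subgroup.centralizer ({J} : Set (Matrix.SpecialLinearGroup (Fin 2) F))) = 2 ^ k)
    (hP : ∀ P : Sylow 2 (Matrix.SpecialLinearGroup (Fin 2) F), Nat.card P = 2 ^ (k + 1)) :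
    ∃ x : Matrix.SpecialLinearGroup (Fin 2) F, (∃ k : ℕ, orderOf x = 2 ^ k) ∧
      ∀ P P' : Sylow 2 (Matrix.SpecialLinearGroup (Fin 2) F), x ∈ P → x ∈ P' → P = P' := by
  have hreg : ∀ c : F, c ^ 2 - (J : Matrix (Fin 2) (Fin 2) F).trace * c + 1 = 0 → c ^ 2 ≠ 1 := by
    intro c hc h1
    rw [hJt, h1] at hc
    apply h2
    linear_combination hc
  haveI := isCyclic_centralizer J hJns hreg
  obtain ⟨g, hg⟩ := IsCyclic.exists_ofOrder_eq_natCard
    (α := ↥(Subgroup.centralizer ({J} : Set (Matrix.SpecialLinearGroup (Fin 2) F))))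
  rw [hk] at hg
  have hx0 : orderOf (g : Matrix.SpecialLinearGroup (Fin 2) F) = 2 ^ k := by
    rw [Subgroup.orderOf_coe]
    exact hg
  have hxns : ∀ c : F, ((g : Matrix.SpecialLinearGroup (Fin 2) F) : Matrix (Fin 2) (Fin 2) F) ≠
      c • (1 : Matrix (Fin 2) (Fin 2) F) := by
    intro c hc
    have hsq : (g : Matrix.SpecialLinearGroup (Fin 2) F) ^ 2 = 1 := by
      rcases scalar_cases _ c hc with h | h
      · rw [h]; simp
      · rw [h]; simp
    have hd := orderOf_dvd_of_pow_eq_one hsq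
    rw [hx0] at hd
    have hle := Nat.le_of_dvd (by norm_num) hd
    have : 2 ^ 2 ≤ 2 ^ k := Nat.pow_le_pow_right (by norm_num) hk2
    omega
  have hzp : Subgroup.zpowers (g : Matrix.SpecialLinearGroup (Fin 2) F) =
      Subgroup.centralizer ({J} : Set (Matrix.SpecialLinearGroup (Fin 2) F)) := by
    apply Subgroup.eq_of_le_of_card_ge
    · rw [Subgroup.zpowers_le]
      exact g.2
    · rw [Nat.card_zpowers, hx0, hk]
  have ht4 : (J : Matrix (Fin 2) (Fin 2) F).trace ^ 2 ≠ 4 := by
    rw [hJt]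
    exact four_ne h2
  have hN : Nat.card (Subgroup.normalizer ((Subgroup.centralizer
        ({J} : Set (Matrix.SpecialLinearGroup (Fin 2) F)) :
          Subgroup (Matrix.SpecialLinearGroup (Fin 2) F)) :
            Set (Matrix.SpecialLinearGroup (Fin 2) F))) = 2 ^ (k + 1) := by
    rw [card_normalizer_centralizer h2 J hJns ht4
      (fun n _ => by rw [hJt]; exact nrm_universal hodd h2 0 (four_ne h2) n), hk, pow_succ]
    ring
  have key : ∀ P : Sylow 2 (Matrix.SpecialLinearGroup (Fin 2) F),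
      (g : Matrix.SpecialLinearGroup (Fin 2) F) ∈ P →
      (P : Subgroup (Matrix.SpecialLinearGroup (Fin 2) F)) =
        Subgroup.normalizer ((Subgroup.centralizer
        ({J} : Set (Matrix.SpecialLinearGroup (Fin 2) F)) :
          Subgroup (Matrix.SpecialLinearGroup (Fin 2) F)) :
            Set (Matrix.SpecialLinearGroup (Fin 2) F)) := by
    intro P hgP
    have hTP : Subgroup.centralizer ({J} : Set (Matrix.SpecialLinearGroup (Fin 2) F)) ≤
        (P : Subgroup (Matrix.SpecialLinearGroup (Fin 2) F)) := by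
      rw [← hzp, Subgroup.zpowers_le]
      exact hgP
    have hidx : ((Subgroup.centralizer ({J} : Set (Matrix.SpecialLinearGroup (Fin 2) F))).subgroupOf
        (P : Subgroup (Matrix.SpecialLinearGroup (Fin 2) F))).index = 2 := by
      have h1 := Subgroup.card_mul_index
        ((Subgroup.centralizer ({J} : Set (Matrix.SpecialLinearGroup (Fin 2) F))).subgroupOf
          (P : Subgroup (Matrix.SpecialLinearGroup (Fin 2) F)))
      rw [Nat.card_congr (Subgroup.subgroupOfEquivOfLe hTP).toEquiv, hk] at h1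
      have h3 : Nat.card (P : Subgroup (Matrix.SpecialLinearGroup (Fin 2) F)) = 2 ^ (k + 1) := hP P
      rw [h3, pow_succ] at h1
      exact Nat.eq_of_mul_eq_mul_left (by positivity) h1
    haveI := Subgroup.normal_of_index_eq_two hidx
    apply Subgroup.eq_of_le_of_card_ge
    · intro y hy
      apply norm_of_conj_mem'
      intro v hv
      have hn : ((Subgroup.centralizer ({J} : Set (Matrix.SpecialLinearGroup (Fin 2) F))).subgroupOf
          (P : Subgroup (Matrix.SpecialLinearGroup (Fin 2) F))).Normal := inferInstance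
      have := hn.conj_mem ⟨v, hTP hv⟩ (by rw [Subgroup.mem_subgroupOf]; exact hv) ⟨y, hy⟩
      rw [Subgroup.mem_subgroupOf] at this
      simpa using this
    · rw [hN]
      exact le_of_eq (hP P).symm
  refine ⟨(g : Matrix.SpecialLinearGroup (Fin 2) F), ⟨k, hx0⟩, fun P P' h h' => ?_⟩
  apply Sylow.ext
  rw [key P h, key P' h']

end TwoGroup

section TwoSylows

variable {F : Type*} [Field F] [Fintype F]

theorem inv_of_anticomm (J : Matrix.SpecialLinearGroup (Fin 2) F)
    (hJns : ∀ c : F, (J : Matrix (Fin 2) (Fin 2) F) ≠ c • (1 : Matrix (Fin 2) (Fin 2) F))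
    (hJt : (J : Matrix (Fin 2) (Fin 2) F).trace = 0)
    (w : Matrix.SpecialLinearGroup (Fin 2) F)
    (hw : (w : Matrix (Fin 2) (Fin 2) F) * (J : Matrix (Fin 2) (Fin 2) F) =
      -((J : Matrix (Fin 2) (Fin 2) F) * (w : Matrix (Fin 2) (Fin 2) F)))
    (u : Matrix.SpecialLinearGroup (Fin 2) F)
    (hu : u ∈ Subgroup.centralizer ({J} : Set (Matrix.SpecialLinearGroup (Fin 2) F))) :
    w * u * w⁻¹ = u⁻¹ := by
  obtain ⟨⟨a, b⟩, hab⟩ := exists_coords J hJns u hu
  simp only at hab
  have htr : (u : Matrix (Fin 2) (Fin 2) F).trace = 2 * a := by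
    rw [hab, Matrix.trace_add, Matrix.trace_smul, Matrix.trace_smul, hJt, Matrix.trace_one,
      Fintype.card_fin]
    simp
    ring
  have hinv : ((u⁻¹ : Matrix.SpecialLinearGroup (Fin 2) F) : Matrix (Fin 2) (Fin 2) F) =
      a • (1 : Matrix (Fin 2) (Fin 2) F) - b • (J : Matrix (Fin 2) (Fin 2) F) := by
    rw [inv_coe_eq, htr, hab]
    rw [m2_eq_iff]
    simp only [Matrix.sub_apply, Matrix.add_apply, Matrix.smul_apply, smul_eq_mul,
      Matrix.one_apply_eq, Matrix.one_apply_ne, ne_eq, not_false_eq_true, zero_ne_one,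
      one_ne_zero]
    refine ⟨?_, ?_, ?_, ?_⟩ <;> ring
  have hmul : w * u = u⁻¹ * w := by
    apply Subtype.ext
    rw [Matrix.SpecialLinearGroup.coe_mul, Matrix.SpecialLinearGroup.coe_mul, hinv, hab,
      Matrix.mul_add, Matrix.sub_mul, Matrix.mul_smul, Matrix.mul_smul, Matrix.smul_mul,
      Matrix.smul_mul, hw, Matrix.mul_one, Matrix.one_mul]
    simp [sub_eq_add_neg]
  rw [hmul]
  group

theorem two_of_mem_torus (hodd : Fintype.card F % 2 = 1) (h2 : (2 : F) ≠ 0)
    (J : Matrix.SpecialLinearGroup (Fin 2) F)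
    (hJns : ∀ c : F, (J : Matrix (Fin 2) (Fin 2) F) ≠ c • (1 : Matrix (Fin 2) (Fin 2) F))
    (hJt : (J : Matrix (Fin 2) (Fin 2) F).trace = 0) (r : ℕ) (hr : r.Prime) (hr2 : r ≠ 2)
    (hrd : r ∣ Nat.card (Subgroup.centralizer ({J} : Set (Matrix.SpecialLinearGroup (Fin 2) F))))
    (x : Matrix.SpecialLinearGroup (Fin 2) F)
    (hx : x ∈ Subgroup.centralizer ({J} : Set (Matrix.SpecialLinearGroup (Fin 2) F)))
    (hxo : ∃ j : ℕ, orderOf x = 2 ^ j) : Two 2 x := by
  obtain ⟨w, hw⟩ := exists_anticomm_SL hodd h2 J hJt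
  have hinv := inv_of_anticomm J hJns hJt w hw
  have hJJ : J ∈ Subgroup.centralizer ({J} : Set (Matrix.SpecialLinearGroup (Fin 2) F)) := by
    rw [Subgroup.mem_centralizer_singleton_iff]
  have hww := sq_eq_neg_one_of_conj_inv J hJns w (hinv J hJJ)
  have hw4 : w ^ 4 = 1 := by
    have e : w * w = -1 := by
      apply Subtype.ext
      rw [Matrix.SpecialLinearGroup.coe_mul, hww]
      simp
    have : w ^ 4 = (w * w) * (w * w) := by
      rw [pow_succ, pow_succ, pow_succ, pow_one]
      group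
    rw [this, e]
    simp
  have hwP : IsPGroup 2 (Subgroup.zpowers w) := by
    have hd := orderOf_dvd_of_pow_eq_one hw4
    have hd' : orderOf w ∣ 2 ^ 2 := by
      norm_num
      exact hd
    obtain ⟨i, _, hi⟩ := (Nat.dvd_prime_pow Nat.prime_two).mp hd'
    apply IsPGroup.of_card (n := i)
    rw [Nat.card_zpowers, hi]
  obtain ⟨j, hj⟩ := hxo
  have hxP : IsPGroup 2 (Subgroup.zpowers x) := by
    apply IsPGroup.of_card (n := j)
    rw [Nat.card_zpowers, hj]
  have hW : IsPGroup 2 (Subgroup.zpowers w ⊔ Subgroup.zpowers x :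
      Subgroup (Matrix.SpecialLinearGroup (Fin 2) F)) := by
    apply IsPGroup.to_sup_of_normal_right' hwP hxP
    rw [Subgroup.zpowers_le]
    apply norm_of_conj_mem'
    intro v hv
    obtain ⟨i, rfl⟩ := Subgroup.mem_zpowers_iff.mp hv
    rw [← conj_zpow, hinv x hx]
    exact Subgroup.zpow_mem _ (Subgroup.inv_mem _ (Subgroup.mem_zpowers x)) _
  obtain ⟨P, hP⟩ := hW.exists_le_sylow
  have hwP' : w ∈ P := hP ((le_sup_left : Subgroup.zpowers w ≤ _) (Subgroup.mem_zpowers w))
  have hxP' : x ∈ P := hP ((le_sup_right : Subgroup.zpowers x ≤ _) (Subgroup.mem_zpowers x))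
  haveI : Fact r.Prime := ⟨hr⟩
  obtain ⟨t, ht⟩ := exists_prime_orderOf_dvd_card' r hrd
  have hto : orderOf (t : Matrix.SpecialLinearGroup (Fin 2) F) = r := by
    rw [Subgroup.orderOf_coe]
    exact ht
  refine ⟨P, (t : Matrix.SpecialLinearGroup (Fin 2) F) • P, ?_, hxP', ?_⟩
  · intro heq
    have h1 : (t : Matrix.SpecialLinearGroup (Fin 2) F) * w *
        (t : Matrix.SpecialLinearGroup (Fin 2) F)⁻¹ ∈ P := by
      have : (t : Matrix.SpecialLinearGroup (Fin 2) F) * w *
          (t : Matrix.SpecialLinearGroup (Fin 2) F)⁻¹ ∈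
          (t : Matrix.SpecialLinearGroup (Fin 2) F) • P := by
        rw [mem_smul_sylow]
        have : (t : Matrix.SpecialLinearGroup (Fin 2) F)⁻¹ *
            ((t : Matrix.SpecialLinearGroup (Fin 2) F) * w *
              (t : Matrix.SpecialLinearGroup (Fin 2) F)⁻¹) *
            (t : Matrix.SpecialLinearGroup (Fin 2) F) = w := by group
        rw [this]
        exact hwP'
      rw [← heq] at this
      exact this
    have h3 : (t : Matrix.SpecialLinearGroup (Fin 2) F) * (t : Matrix.SpecialLinearGroup (Fin 2) F) ∈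
        P := by
      have hti := hinv ((t : Matrix.SpecialLinearGroup (Fin 2) F)⁻¹)
        (Subgroup.inv_mem _ t.2)
      rw [inv_inv] at hti
      have : (t : Matrix.SpecialLinearGroup (Fin 2) F) * (t : Matrix.SpecialLinearGroup (Fin 2) F) =
          ((t : Matrix.SpecialLinearGroup (Fin 2) F) * w *
            (t : Matrix.SpecialLinearGroup (Fin 2) F)⁻¹) * w⁻¹ := by
        calc (t : Matrix.SpecialLinearGroup (Fin 2) F) * (t : Matrix.SpecialLinearGroup (Fin 2) F)
            = (t : Matrix.SpecialLinearGroup (Fin 2) F) *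
              (w * (t : Matrix.SpecialLinearGroup (Fin 2) F)⁻¹ * w⁻¹) := by rw [hti]
          _ = _ := by group
      rw [this]
      exact Subgroup.mul_mem _ h1 (Subgroup.inv_mem _ hwP')
    obtain ⟨i, hi⟩ := pelt_of_mem P _ h3
    have hr1 : ((t : Matrix.SpecialLinearGroup (Fin 2) F) *
        (t : Matrix.SpecialLinearGroup (Fin 2) F)) ^ r = 1 := by
      rw [← pow_two, ← pow_mul, mul_comm, pow_mul, ← hto, pow_orderOf_eq_one, one_pow]
    have hd := orderOf_dvd_of_pow_eq_one hr1
    rw [hi] at hd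
    rcases Nat.eq_zero_or_pos i with rfl | hipos
    · rw [pow_zero, orderOf_eq_one_iff, ← pow_two] at hi
      have hd2 := orderOf_dvd_of_pow_eq_one hi
      rw [hto] at hd2
      exact hr2 ((Nat.prime_dvd_prime_iff_eq hr Nat.prime_two).mp hd2)
    · have : 2 ∣ r := dvd_trans (dvd_pow_self 2 (by omega)) hd
      exact hr2 ((Nat.prime_dvd_prime_iff_eq Nat.prime_two hr).mp this).symm
  · rw [mem_smul_sylow]
    have hc := centralizer_comm J hJns x (t : Matrix.SpecialLinearGroup (Fin 2) F) hx t.2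
    have : (t : Matrix.SpecialLinearGroup (Fin 2) F)⁻¹ * x *
        (t : Matrix.SpecialLinearGroup (Fin 2) F) = x := by
      rw [mul_assoc, hc]
      group
    rw [this]
    exact hxP'

theorem two_of_nonscalar (hodd : Fintype.card F % 2 = 1) (h2 : (2 : F) ≠ 0)
    (J : Matrix.SpecialLinearGroup (Fin 2) F)
    (hJns : ∀ c : F, (J : Matrix (Fin 2) (Fin 2) F) ≠ c • (1 : Matrix (Fin 2) (Fin 2) F))
    (hJt : (J : Matrix (Fin 2) (Fin 2) F).trace = 0) (r : ℕ) (hr : r.Prime) (hr2 : r ≠ 2)
    (hrd : r ∣ Nat.card (Subgroup.centralizer ({J} : Set (Matrix.SpecialLinearGroup (Fin 2) F))))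
    (x : Matrix.SpecialLinearGroup (Fin 2) F)
    (hxns : ∀ c : F, (x : Matrix (Fin 2) (Fin 2) F) ≠ c • (1 : Matrix (Fin 2) (Fin 2) F))
    (hxo : ∃ j : ℕ, orderOf x = 2 ^ j) : Two 2 x := by
  obtain ⟨j, hj⟩ := hxo
  have hx1 : x ≠ 1 := by
    rintro rfl
    apply hxns 1
    simp
  have hxm1 : x ≠ -1 := by
    rintro rfl
    apply hxns (-1)
    simp
  have hj2 : 2 ≤ j := by
    by_contra hlt
    have : j = 0 ∨ j = 1 := by omega
    rcases this with rfl | rfl
    · rw [pow_zero, orderOf_eq_one_iff] at hj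
      exact hx1 hj
    · have hsq : x * x = 1 := by
        rw [← pow_two]
        have := pow_orderOf_eq_one x
        rwa [hj, pow_one] at this
      rcases sq_eq_one_imp h2 x hsq with h | h
      · exact hx1 h
      · exact hxm1 h
  obtain ⟨i, hi⟩ : ∃ i, i = x ^ (2 ^ (j - 2)) := ⟨_, rfl⟩
  have hio : orderOf i = 4 := by
    rw [hi, orderOf_pow_of_dvd (by positivity) (by rw [hj]; exact pow_dvd_pow 2 (by omega)), hj,
      Nat.pow_div (by omega) (by norm_num)]
    have : j - (j - 2) = 2 := by omega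
    rw [this]
  have hii : i * i = -1 := by
    have h4 : (i * i) * (i * i) = 1 := by
      have := pow_orderOf_eq_one i
      rw [hio] at this
      rw [← this, pow_succ, pow_succ, pow_succ, pow_one]
      group
    rcases sq_eq_one_imp h2 (i * i) h4 with h | h
    · exfalso
      have hd := orderOf_dvd_of_pow_eq_one (show i ^ 2 = 1 by rw [pow_two]; exact h)
      rw [hio] at hd
      omega
    · exact h
  have hit := trace_zero_of_sq i hii
  obtain ⟨g, hg⟩ := conj_of_trace_zero hodd h2 i J hit hJt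
  have hmem : g * x * g⁻¹ ∈
      Subgroup.centralizer ({J} : Set (Matrix.SpecialLinearGroup (Fin 2) F)) := by
    rw [Subgroup.mem_centralizer_singleton_iff, ← hg]
    have hc : x * i = i * x := by
      rw [hi, ← pow_succ', ← pow_succ]
    calc g * x * g⁻¹ * (g * i * g⁻¹) = g * (x * i) * g⁻¹ := by group
      _ = g * (i * x) * g⁻¹ := by rw [hc]
      _ = g * i * g⁻¹ * (g * x * g⁻¹) := by group
  have h := two_of_mem_torus hodd h2 J hJns hJt r hr hr2 hrd (g * x * g⁻¹) hmem
    ⟨j, by rw [← hj]; exact (MulAut.conj g).orderOf_eq x⟩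
  have h' := two_conj (g * x * g⁻¹) g⁻¹ h
  have e : g⁻¹ * (g * x * g⁻¹) * g⁻¹⁻¹ = x := by group
  rw [e] at h'
  exact h'

end TwoSylows

section Main

variable {F : Type*} [Field F] [Fintype F]

theorem char_cases : ((2 : F) = 0 ∧ ∃ k : ℕ, Fintype.card F = 2 ^ k) ∨
    ((2 : F) ≠ 0 ∧ Fintype.card F % 2 = 1) := by
  by_cases h : ringChar F = 2
  · left
    constructor
    · have := CharP.cast_eq_zero F (ringChar F)
      rw [h] at this
      exact_mod_cast this
    · obtain ⟨n, _, hn⟩ := FiniteField.card F (ringChar F)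
      rw [h] at hn
      exact ⟨n, hn⟩
  · right
    exact ⟨Ring.two_ne_zero h, FiniteField.odd_card_of_char_ne_two h⟩

theorem card_sylow2 (P : Sylow 2 (Matrix.SpecialLinearGroup (Fin 2) F)) (k m : ℕ)
    (hm : ¬ 2 ∣ m) (h : Fintype.card F * (Fintype.card F ^ 2 - 1) = 2 ^ k * m) :
    Nat.card P = 2 ^ k := by
  rw [Sylow.card_eq_multiplicity, card_SL2, h]
  have hm0 : m ≠ 0 := by
    rintro rfl
    exact hm (dvd_zero 2)
  rw [Nat.factorization_mul (pow_ne_zero _ (by norm_num)) hm0]
  simp [Nat.Prime.factorization_pow Nat.prime_two, Nat.factorization_eq_zero_of_not_dvd hm]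

theorem J_sq (J : Matrix.SpecialLinearGroup (Fin 2) F)
    (hJt : (J : Matrix (Fin 2) (Fin 2) F).trace = 0) : J * J = -1 := by
  apply Subtype.ext
  rw [Matrix.SpecialLinearGroup.coe_mul, m2_sq _ J.2, hJt, zero_smul, zero_sub]
  simp

theorem uniq_of_pow (hodd : Fintype.card F % 2 = 1) (h2 : (2 : F) ≠ 0) (k : ℕ) (hk : 2 ≤ k)
    (hcase : (Fintype.card F + 1 = 2 ^ k ∧ Fintype.card F % 4 = 3) ∨
      (Fintype.card F = 2 ^ k + 1 ∧ Fintype.card F % 4 = 1)) :
    ∃ x : Matrix.SpecialLinearGroup (Fin 2) F, (∃ k : ℕ, orderOf x = 2 ^ k) ∧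
      ∀ P P' : Sylow 2 (Matrix.SpecialLinearGroup (Fin 2) F), x ∈ P → x ∈ P' → P = P' := by
  obtain ⟨J, hJns, hJt⟩ := exists_trace_zero (F := F)
  obtain ⟨j, rfl⟩ : ∃ j, k = j + 2 := ⟨k - 2, by omega⟩
  have hpow : 2 ^ (j + 2) = 4 * 2 ^ j := by ring
  rcases hcase with ⟨hq, hq4⟩ | ⟨hq, hq4⟩
  · have hns : ¬ IsSquare (-1 : F) := by
      rw [FiniteField.isSquare_neg_one_iff]
      simpa using hq4
    have hcard : Nat.card (Subgroup.centralizer
        ({J} : Set (Matrix.SpecialLinearGroup (Fin 2) F))) = 2 ^ (j + 2) := by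
      rw [card_centralizer_eq J hJns, hJt, card_normSet_nonsplit_odd hodd h2 0
        (fun l hl => hns ⟨l, by linear_combination -hl⟩), hq]
    refine uniq_two hodd h2 J hJns hJt (j + 2) hk hcard (fun P => ?_)
    apply card_sylow2 P (j + 2 + 1) (Fintype.card F * (2 * 2 ^ j - 1))
    · intro hd
      rcases (Nat.Prime.dvd_mul Nat.prime_two).mp hd with hd | hd
      · omega
      · have : 1 ≤ 2 ^ j := Nat.one_le_two_pow
        omega
    · have hqe : Fintype.card F = 4 * 2 ^ j - 1 := by omega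
      have h1 : 1 ≤ 2 ^ j := Nat.one_le_two_pow
      obtain ⟨u, hu⟩ : ∃ u, 2 ^ j = u + 1 := ⟨2 ^ j - 1, by omega⟩
      have hqe' : Fintype.card F = 4 * u + 3 := by omega
      have e0 : 2 ^ (j + 2 + 1) = 8 * 2 ^ j := by ring
      rw [e0, hu, hqe']
      have e1 : (4 * u + 3) ^ 2 - 1 = (4 * u + 2) * (4 * u + 4) := by
        apply Nat.sub_eq_of_eq_add
        ring
      have e2 : 2 * (u + 1) - 1 = 2 * u + 1 := by omega
      rw [e1, e2]
      ring
  · have hsq : IsSquare (-1 : F) := by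
      rw [FiniteField.isSquare_neg_one_iff]
      omega
    obtain ⟨l, hl⟩ := hsq
    have hl1 : l ^ 2 ≠ 1 := by
      intro h1
      apply h2
      have : l ^ 2 = -1 := by rw [pow_two]; exact hl.symm
      rw [this] at h1
      linear_combination -h1
    have hcard : Nat.card (Subgroup.centralizer
        ({J} : Set (Matrix.SpecialLinearGroup (Fin 2) F))) = 2 ^ (j + 2) := by
      rw [card_centralizer_eq J hJns, hJt, card_normSet_split 0 l (by linear_combination -hl) hl1,
        hq, Nat.add_sub_cancel]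
    refine uniq_two hodd h2 J hJns hJt (j + 2) hk hcard (fun P => ?_)
    apply card_sylow2 P (j + 2 + 1) (Fintype.card F * (2 * 2 ^ j + 1))
    · intro hd
      rcases (Nat.Prime.dvd_mul Nat.prime_two).mp hd with hd | hd
      · omega
      · omega
    · have e0 : 2 ^ (j + 2 + 1) = 8 * 2 ^ j := by ring
      rw [e0, hq, hpow]
      have e1 : (4 * 2 ^ j + 1) ^ 2 - 1 = (4 * 2 ^ j) * (4 * 2 ^ j + 2) := by
        apply Nat.sub_eq_of_eq_add
        ring
      rw [e1]
      ring

end Main

/-- Let F be a finite field with q elements, p a prime and G = SL(2, F). Say a Sylow p-subgroup Q of G is redundant when every element of p-power order lies in some Sylow p-subgroup other than Q. Then G has a redundant Sylow p-subgroup if and only if p = 2 and q is not of any of the forms 2ᵏ - 1, 2ᵏ, 2ᵏ + 1. -/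
theorem result {F : Type*} [Field F] [Fintype F] (p : ℕ) [Fact p.Prime] :
    (∃ Q : Sylow p (Matrix.SpecialLinearGroup (Fin 2) F), ∀ x : Matrix.SpecialLinearGroup (Fin 2) F,
        (∃ k : ℕ, orderOf x = p ^ k) → ∃ P : Sylow p (Matrix.SpecialLinearGroup (Fin 2) F), P ≠ Q ∧ x ∈ P) ↔
      (p = 2 ∧ (¬ ∃ k : ℕ, Fintype.card F + 1 = 2 ^ k) ∧ (¬ ∃ k : ℕ, Fintype.card F = 2 ^ k) ∧
        ¬ ∃ k : ℕ, Fintype.card F = 2 ^ k + 1) := by
  have hq2 : 2 ≤ Fintype.card F := Fintype.one_lt_card
  constructor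
  · intro hQ
    by_cases hp2 : p ≠ 2 ∨ (2 : F) = 0
    · exact absurd hQ (uniq_not_redundant (uniq_of_nonscalar hp2))
    · push_neg at hp2
      obtain ⟨rfl, h2⟩ := hp2
      rcases char_cases (F := F) with ⟨h0, _⟩ | ⟨_, hodd⟩
      · exact absurd h0 h2
      · refine ⟨rfl, ?_, ?_, ?_⟩
        · rintro ⟨k, hk⟩
          have hk2 : 2 ≤ k := by
            by_contra hlt
            have : k = 0 ∨ k = 1 := by omega
            rcases this with rfl | rfl
            · simp at hk
            · simp at hk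
              omega
          have h4 : 4 ∣ 2 ^ k := by
            have := pow_dvd_pow 2 hk2
            simpa using this
          exact absurd hQ (uniq_not_redundant
            (uniq_of_pow hodd h2 k hk2 (Or.inl ⟨hk, by omega⟩)))
        · rintro ⟨k, hk⟩
          rcases Nat.eq_zero_or_pos k with rfl | hkpos
          · simp at hk
            omega
          · have : 2 ∣ 2 ^ k := dvd_pow_self 2 (by omega)
            omega
        · rintro ⟨k, hk⟩
          by_cases hk2 : 2 ≤ k
          · have h4 : 4 ∣ 2 ^ k := by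
              have := pow_dvd_pow 2 hk2
              simpa using this
            exact absurd hQ (uniq_not_redundant
              (uniq_of_pow hodd h2 k hk2 (Or.inr ⟨hk, by omega⟩)))
          · have : k = 0 ∨ k = 1 := by omega
            rcases this with rfl | rfl
            · simp at hk
              omega
            · simp at hk
              exact absurd hQ (uniq_not_redundant
                (uniq_of_pow hodd h2 2 (le_refl 2) (Or.inl ⟨by omega, by omega⟩)))
  · rintro ⟨rfl, h1, h2', h3⟩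
    rcases char_cases (F := F) with ⟨_, hk⟩ | ⟨h2, hodd⟩
    · exact absurd hk h2'
    · obtain ⟨J, hJns, hJt⟩ := exists_trace_zero (F := F)
      have hnp : ¬ ∃ k : ℕ, Nat.card (Subgroup.centralizer
          ({J} : Set (Matrix.SpecialLinearGroup (Fin 2) F))) = 2 ^ k := by
        rintro ⟨k, hk⟩
        rw [card_centralizer_eq J hJns, hJt] at hk
        by_cases hsq : IsSquare (-1 : F)
        · obtain ⟨l, hl⟩ := hsq
          have hl1 : l ^ 2 ≠ 1 := by
            intro h1'
            apply h2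
            have : l ^ 2 = -1 := by rw [pow_two]; exact hl.symm
            rw [this] at h1'
            linear_combination -h1'
          rw [card_normSet_split 0 l (by linear_combination -hl) hl1] at hk
          exact h3 ⟨k, by omega⟩
        · rw [card_normSet_nonsplit_odd hodd h2 0
            (fun l hl => hsq ⟨l, by linear_combination -hl⟩)] at hk
          exact h1 ⟨k, hk⟩
      obtain ⟨r, hr, hrd, hrodd⟩ : ∃ r, r.Prime ∧ r ∣ Nat.card (Subgroup.centralizer
          ({J} : Set (Matrix.SpecialLinearGroup (Fin 2) F))) ∧ Odd r := by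
        rcases Nat.eq_two_pow_or_exists_odd_prime_and_dvd (Nat.card (Subgroup.centralizer
          ({J} : Set (Matrix.SpecialLinearGroup (Fin 2) F)))) with h | h
        · exact absurd h hnp
        · obtain ⟨r, hr, hrd, hrodd⟩ := h
          exact ⟨r, hr, hrd, hrodd⟩
      have hr2 : r ≠ 2 := by
        rintro rfl
        exact absurd hrodd (by decide)
      have hJJ := J_sq J hJt
      have hJ4 : J ^ 4 = 1 := by
        have : J ^ 4 = (J * J) * (J * J) := by
          rw [pow_succ, pow_succ, pow_succ, pow_one]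
          group
        rw [this, hJJ]
        simp
      have hJo : ∃ j : ℕ, orderOf J = 2 ^ j := by
        have hd := orderOf_dvd_of_pow_eq_one hJ4
        have hd' : orderOf J ∣ 2 ^ 2 := by
          norm_num
          exact hd
        obtain ⟨i, _, hi⟩ := (Nat.dvd_prime_pow Nat.prime_two).mp hd'
        exact ⟨i, hi⟩
      have hJtwo : Two 2 J := two_of_nonscalar hodd h2 J hJns hJt r hr hr2 hrd J hJns hJo
      obtain ⟨Q⟩ : Nonempty (Sylow 2 (Matrix.SpecialLinearGroup (Fin 2) F)) := inferInstance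
      refine ⟨Q, fun x hx => ?_⟩
      by_cases hxs : ∀ c : F, (x : Matrix (Fin 2) (Fin 2) F) ≠ c • (1 : Matrix (Fin 2) (Fin 2) F)
      · exact two_imp x (two_of_nonscalar hodd h2 J hJns hJt r hr hr2 hrd x hxs hx) Q
      · push_neg at hxs
        obtain ⟨c, hc⟩ := hxs
        rcases scalar_cases x c hc with h | h
        · have := two_pow J 0 hJtwo
          rw [pow_zero, ← h] at this
          exact two_imp x this Q
        · have := two_pow J 2 hJtwo
          rw [pow_two, hJJ, ← h] at this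
          exact two_imp x this Q

end Cfsg.Agent.S4357
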