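import Cfsg.Statements.S1047
import Cfsg.Agent.Lib.helper8.ChevPar2
import Cfsg.Agent.Lib.helper8.ChevBaseAll
import Cfsg.Agent.Lib.helper8.ChevReflAll

set_option autoImplicit false
open Cfsg

namespace Cfsg.Agent.S1047

open Cfsg.Agent.Lib.helper8 in
/-- `P_J = ⟨H, X_r : r ∈ Φ⁺ ∪ Φ_J⟩`. -/
theorem result {F : Type*} [Field F] (D : Cfsg.Lie.ChevalleyDatum) (hD : D ∈ [Cfsg.Lie.chevG2, Cfsg.Lie.chevB2, Cfsg.Lie.chevD4, Cfsg.Lie.chevF4, Cfsg.Lie.chevE6, Cfsg.Lie.chevE7, Cfsg.Lie.chevE8]) (J : Set ℕ) :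
    D.parabolicSubgroup F J = D.diagonalSubgroup F ⊔
      Subgroup.closure {g : GL D.Idx F | ∃ (r : ℕ) (t : F), (D.IsPosRoot r ∨ D.InRootSub J r) ∧ (g : Matrix D.Idx D.Idx F) = D.x F r t} := by
  have hB := h8base_all D hD
  have hA := h8reflAll D hD
  have hP := h8parChk_all D hD
  have hS := h8simChk_all D hD
  apply le_antisymm
  · unfold Cfsg.Lie.ChevalleyDatum.parabolicSubgroup Cfsg.Lie.ChevalleyDatum.borelSubgroup
    apply sup_le
    · apply sup_le
      · refine le_trans ?_ le_sup_right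
        unfold Cfsg.Lie.ChevalleyDatum.posUnipotent
        apply Subgroup.closure_mono
        rintro g ⟨r, t, hr, hg⟩
        exact ⟨r, t, Or.inl hr, hg⟩
      · exact le_sup_left
    · refine le_trans ?_ le_sup_right
      rw [Subgroup.closure_le]
      rintro g ⟨j, hjJ, hj, hg⟩
      have hg' : g = h8nU D hB (D.simple j) (1 : F) := Units.ext (by rw [hg, h8nU_val])
      rw [hg', h8nU_eq]
      obtain ⟨h1, h2⟩ := h8simChk_spec D hS J j hj hjJ
      have m1 : ∀ t : F, h8xU D hB (D.simple j) t ∈ Subgroup.closure {g : GL D.Idx F | ∃ (r : ℕ) (t : F), (D.IsPosRoot r ∨ D.InRootSub J r) ∧ (g : Matrix D.Idx D.Idx F) = D.x F r t} :=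
        fun t => Subgroup.subset_closure ⟨_, t, Or.inr h1, rfl⟩
      have m2 : ∀ t : F, h8xU D hB (D.negIdx.getD (D.simple j) 0) t ∈ Subgroup.closure {g : GL D.Idx F | ∃ (r : ℕ) (t : F), (D.IsPosRoot r ∨ D.InRootSub J r) ∧ (g : Matrix D.Idx D.Idx F) = D.x F r t} :=
        fun t => Subgroup.subset_closure ⟨_, t, Or.inr h2, rfl⟩
      exact Subgroup.mul_mem _ (Subgroup.mul_mem _ (m1 _) (m2 _)) (m1 _)
  · apply sup_le
    · unfold Cfsg.Lie.ChevalleyDatum.parabolicSubgroup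
      exact le_trans (h8H_le_B D) le_sup_left
    · rw [Subgroup.closure_le]
      rintro g ⟨r, t, hr, hg⟩
      have hg' : g = h8xU D hB r t := Units.ext (by rw [hg, h8xU_val])
      rw [hg']
      rcases hr with hr | hr
      · unfold Cfsg.Lie.ChevalleyDatum.parabolicSubgroup
        apply Subgroup.mem_sup_left
        exact h8U_le_B D (h8xU_mem_U D hB r hr t)
      · exact h8x_mem_par D hB hA hP J (D.nroots - r) r le_rfl hr.1 hr t

end Cfsg.Agent.S1047
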