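import Cfsg.Statements.S1048
import Cfsg.Agent.S1047
import Cfsg.Agent.Lib.helper8.ChevLvl6
import Cfsg.Agent.Lib.helper8.ChevLvlTab
import Cfsg.Agent.Lib.helper8.ChevCommAll
import Cfsg.Agent.Lib.helper8.ChevOrdAll

set_option autoImplicit false
open Cfsg

namespace Cfsg.Agent.S1048

open Cfsg.Agent.Lib.helper8 in
/-- `U_J ⊴ P_J`, `P_J = U_J L_J` and `U_J ∩ L_J = 1` (Levi decomposition of the standard parabolic subgroup). -/
theorem result {F : Type*} [Field F] (D : Cfsg.Lie.ChevalleyDatum) (hD : D ∈ [Cfsg.Lie.chevG2, Cfsg.Lie.chevB2, Cfsg.Lie.chevD4, Cfsg.Lie.chevF4, Cfsg.Lie.chevE6, Cfsg.Lie.chevE7, Cfsg.Lie.chevE8]) (J : Set ℕ) :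
    D.parabolicSubgroup F J ≤ Subgroup.normalizer (D.unipotentRadical F J : Set (GL D.Idx F)) ∧
      D.unipotentRadical F J ⊔ D.leviSubgroup F J = D.parabolicSubgroup F J ∧
      D.unipotentRadical F J ⊓ D.leviSubgroup F J = ⊥ := by
  have hB := h8base_all D hD
  have hA := h8reflAll D hD
  obtain ⟨m, hL⟩ := h8lvl_all D hD
  obtain ⟨hrk, -⟩ := h8uq_all D hD
  obtain ⟨η, hR⟩ := h8reflAll_spec D hA 0 hrk
  have hsorted := h8ceChk_sorted D hA.ce
  have hlt : ∀ a b, a < D.nroots → ∀ q ∈ D.chainEntry a b, q.1 < D.nroots :=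
    fun a b ha => h8chainEntry_lt D 0 η hR a b ha
  refine ⟨?_, ?_, ?_⟩
  · rw [Cfsg.Agent.S1047.result D hD J]
    exact h8par_gens_le_normalizer D hB (h8commAll D hD) m hL J hsorted hlt
  · rw [Cfsg.Agent.S1047.result D hD J]
    unfold Cfsg.Lie.ChevalleyDatum.unipotentRadical Cfsg.Lie.ChevalleyDatum.leviSubgroup
    apply le_antisymm
    · apply sup_le
      · refine le_trans ?_ le_sup_right
        apply Subgroup.closure_mono
        rintro g ⟨r, t, hr, _, hg⟩
        exact ⟨r, t, Or.inl hr, hg⟩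
      · apply sup_le le_sup_left
        refine le_trans ?_ le_sup_right
        apply Subgroup.closure_mono
        rintro g ⟨r, t, hr, hg⟩
        exact ⟨r, t, Or.inr hr, hg⟩
    · apply sup_le
      · exact le_trans le_sup_left le_sup_right
      · rw [Subgroup.closure_le]
        rintro g ⟨r, t, hr, hg⟩
        by_cases hJ : D.InRootSub J r
        · apply Subgroup.mem_sup_right
          apply Subgroup.mem_sup_right
          exact Subgroup.subset_closure ⟨r, t, hJ, hg⟩
        · apply Subgroup.mem_sup_left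
          rcases hr with hr | hr
          · exact Subgroup.subset_closure ⟨r, t, hr, hJ, hg⟩
          · exact absurd hr hJ
  · exact h8UJ_inf_LJ D hB m hL J

end Cfsg.Agent.S1048
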