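import Cfsg.Statements.S4219

set_option autoImplicit false
open Cfsg
open scoped Pointwise

namespace Cfsg.Agent.S4219

theorem mem_conj_smul_iff {G : Type*} [Group G] (M : Subgroup G) (g y : G) :
    y ∈ MulAut.conj g • M ↔ g⁻¹ * y * g ∈ M := by
  rw [Subgroup.mem_pointwise_smul_iff_inv_smul_mem]
  simp [MulAut.smul_def]

/-- Two subgroups of `K` of full `p`-power order are conjugate by an element of `K`. -/
theorem exists_conj_of_card {G : Type*} [Group G] [Finite G] {p : ℕ} [Fact p.Prime]
    (K Q1 Q2 : Subgroup G) (h1 : Q1 ≤ K) (h2 : Q2 ≤ K)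
    (c1 : Nat.card Q1 = p ^ (Nat.card K).factorization p)
    (c2 : Nat.card Q2 = p ^ (Nat.card K).factorization p) :
    ∃ k ∈ K, ∀ y : G, y ∈ Q1 ↔ k⁻¹ * y * k ∈ Q2 := by
  have e1 : Nat.card (Q1.subgroupOf K) = p ^ (Nat.card K).factorization p := by
    rw [← c1]; exact Nat.card_congr (Subgroup.subgroupOfEquivOfLe h1).toEquiv
  have e2 : Nat.card (Q2.subgroupOf K) = p ^ (Nat.card K).factorization p := by
    rw [← c2]; exact Nat.card_congr (Subgroup.subgroupOfEquivOfLe h2).toEquiv
  let S1 : Sylow p K := Sylow.ofCard _ e1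
  let S2 : Sylow p K := Sylow.ofCard _ e2
  obtain ⟨k, hk⟩ := MulAction.exists_smul_eq K S2 S1
  refine ⟨k, k.2, fun y => ?_⟩
  have hk' : ∀ z : K, z ∈ Q1.subgroupOf K ↔ k⁻¹ * z * k ∈ Q2.subgroupOf K := by
    intro z
    have : (S1 : Subgroup K) = MulAut.conj k • (S2 : Subgroup K) := by
      rw [← hk]; rfl
    change z ∈ (S1 : Subgroup K) ↔ k⁻¹ * z * k ∈ (S2 : Subgroup K)
    rw [this, mem_conj_smul_iff]
  constructor
  · intro hy
    have := (hk' ⟨y, h1 hy⟩).mp (by rw [Subgroup.mem_subgroupOf]; exact hy)
    rw [Subgroup.mem_subgroupOf] at this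
    exact this
  · intro hy
    have hyK : y ∈ K := by
      have h3 : (k : G)⁻¹ * y * (k : G) ∈ K := h2 hy
      have h4 := K.mul_mem (K.mul_mem k.2 h3) (K.inv_mem k.2)
      have h5 : (k : G) * ((k : G)⁻¹ * y * k) * (k : G)⁻¹ = y := by group
      rw [h5] at h4; exact h4
    have := (hk' ⟨y, hyK⟩).mpr (by rw [Subgroup.mem_subgroupOf]; exact hy)
    rw [Subgroup.mem_subgroupOf] at this
    exact this

/-- Let a finite group `G` act `t`-fold transitively on a finite set, let `H` be the stabilizer of `t` distinct points and `P` a Sylow `p`-subgroup of `H`. Then the normalizer of `P` in `G` is `t`-fold transitive on the fixed points of `P`: any `t` distinct fixed points of `P` can be carried to any other `t` distinct fixed points of `P` by an element normalizing `P`. -/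
theorem result {G : Type*} [Group G] [Finite G] {α : Type*} [Fintype α] [MulAction G α] {t : ℕ} (hG : MulAction.IsMultiplyPretransitive G α t) (x : Fin t ↪ α) {p : ℕ} [Fact p.Prime] (P : Sylow p (MulAction.stabilizer G x)) (a b : Fin t ↪ α) (ha : ∀ i, a i ∈ MulAction.fixedPoints ((P : Subgroup (MulAction.stabilizer G x)).map (MulAction.stabilizer G x).subtype) α) (hb : ∀ i, b i ∈ MulAction.fixedPoints ((P : Subgroup (MulAction.stabilizer G x)).map (MulAction.stabilizer G x).subtype) α) : ∃ g ∈ Subgroup.normalizer ((((P : Subgroup (MulAction.stabilizer G x)).map (MulAction.stabilizer G x).subtype) : Subgroup G) : Set G), g • a = b := by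
  set P' : Subgroup G := (P : Subgroup (MulAction.stabilizer G x)).map (MulAction.stabilizer G x).subtype with hP'
  have hcardP' : Nat.card P' = p ^ (Nat.card (MulAction.stabilizer G x)).factorization p := by
    rw [← Sylow.card_eq_multiplicity P]
    exact (Nat.card_congr ((P : Subgroup (MulAction.stabilizer G x)).equivMapOfInjective _
      (Subgroup.subtype_injective _)).toEquiv).symm
  -- stabilizers of embeddings all have the same order
  have hcardS : ∀ c : Fin t ↪ α, Nat.card (MulAction.stabilizer G c)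
      = Nat.card (MulAction.stabilizer G x) := by
    intro c
    obtain ⟨g, hg⟩ := MulAction.exists_smul_eq G x c
    exact (Nat.card_congr (MulAction.stabilizerEquivStabilizer hg.symm).toEquiv).symm
  have hle : ∀ c : Fin t ↪ α, (∀ i, c i ∈ MulAction.fixedPoints P' α) → P' ≤ MulAction.stabilizer G c := by
    intro c hc g hg
    rw [MulAction.mem_stabilizer_iff]
    ext i
    rw [Function.Embedding.smul_apply]
    exact hc i ⟨g, hg⟩
  obtain ⟨h, hh⟩ := MulAction.exists_smul_eq G a b
  -- the conjugate of P' by h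
  have hle2 : MulAut.conj h • P' ≤ MulAction.stabilizer G b := by
    intro y hy
    rw [mem_conj_smul_iff] at hy
    have := hle a ha hy
    rw [MulAction.mem_stabilizer_iff] at this ⊢
    rw [← hh]
    rw [mul_smul, mul_smul] at this
    have h2 := congrArg (fun z => h • z) this
    simp only [smul_inv_smul] at h2
    exact h2
  have hc2 : Nat.card (MulAut.conj h • P' : Subgroup G) = Nat.card P' := by
    exact (Nat.card_congr (Subgroup.equivSMul (MulAut.conj h) P').toEquiv).symm
  obtain ⟨k, hkK, hk⟩ := exists_conj_of_card (p := p) (MulAction.stabilizer G b) P' (MulAut.conj h • P')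
    (hle b hb) hle2 (by rw [hcardP', hcardS b]) (by rw [hc2, hcardP', hcardS b])
  refine ⟨k * h, ?_, ?_⟩
  · rw [Subgroup.mem_normalizer_iff]
    intro y
    rw [hk (k * h * y * (k * h)⁻¹), mem_conj_smul_iff]
    have : h⁻¹ * (k⁻¹ * (k * h * y * (k * h)⁻¹) * k) * h = y := by group
    rw [this]
  · rw [mul_smul, hh]
    exact hkK

end Cfsg.Agent.S4219
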