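import Cfsg.Statements.S0289
import Cfsg.Agent.Lib.Lead.QuadCount
import Mathlib

set_option autoImplicit false
open Cfsg

namespace Cfsg.Agent.S0289

open Finset Cfsg.Agent.Lib.Lead

/-- Number of solutions of `quadFormPlus m F v = c`. -/
theorem card_quadFormPlus {F : Type*} [Field F] [Fintype F] [DecidableEq F] (m : ℕ) (c : F) :
    Nat.card {v : Fin m ⊕ Fin m → F // Cfsg.quadFormPlus m F v = c} =
      (if c = 0 then Fintype.card F ^ m else 0) +
        (Fintype.card F ^ m - 1) * Fintype.card F ^ (m - 1) := by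
  have h := card_pairs_dot (F := F) (ι := Fin m) c
  rw [Fintype.card_fin] at h
  rw [← h, Nat.card_eq_fintype_card, ← Fintype.card_coe]
  refine Fintype.card_congr ?_
  refine ((Equiv.sumArrowEquivProdArrow (Fin m) (Fin m) F).subtypeEquiv ?_)
  intro v
  simp [Cfsg.quadFormPlus, Equiv.sumArrowEquivProdArrow]

/-- The hyperbolic quadratic form on F^(2m), m at least 1, has q^(2m-1) + q^m - q^(m-1) zeros (that is, (q^m - 1)(q^(m-1) + 1) non-zero isotropic vectors). -/
theorem result {F : Type*} [Field F] [Fintype F] {q : ℕ} (hF : Fintype.card F = q) (m : ℕ) (hm : 1 ≤ m) : Nat.card {v : Fin m ⊕ Fin m → F // Cfsg.quadFormPlus m F v = 0} = q ^ (2 * m - 1) + q ^ m - q ^ (m - 1) := by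
  classical
  rw [card_quadFormPlus, if_pos rfl, hF]
  have hq : 1 ≤ q := by rw [← hF]; exact Fintype.card_pos
  obtain ⟨k, rfl⟩ : ∃ k, m = k + 1 := ⟨m - 1, by omega⟩
  have h1 : 2 * (k + 1) - 1 = (k + 1) + k := by omega
  have e : q ^ (k + 1 + k) = q ^ (k + 1) * q ^ k := pow_add _ _ _
  rw [h1, Nat.add_sub_cancel, e]
  have h2 : 1 ≤ q ^ (k + 1) := Nat.one_le_pow _ _ hq
  generalize q ^ (k + 1) = A at *
  generalize q ^ k = B at *
  obtain ⟨a, rfl⟩ : ∃ a, A = a + 1 := ⟨A - 1, by omega⟩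
  have h3 : (a + 1) * B = a * B + B := by ring
  rw [Nat.add_sub_cancel, h3]
  omega

end Cfsg.Agent.S0289
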