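import Cfsg.Statements.S0752
import Mathlib

set_option autoImplicit false
open Cfsg

namespace Cfsg.Agent.S0752

variable {F V : Type*} [Field F] [AddCommGroup V] [Module F V]

structure SympFam (B : LinearMap.BilinForm F V) (m : ℕ) (e f : Fin m → V) : Prop where
  ef : ∀ i j, B (e i) (f j) = if i = j then 1 else 0
  ee : ∀ i j, B (e i) (e j) = 0
  ff : ∀ i j, B (f i) (f j) = 0

theorem SympFam.fe {B : LinearMap.BilinForm F V} (hA : B.IsAlt) {m : ℕ} {e f : Fin m → V}
    (h : SympFam B m e f) (i j : Fin m) : B (f i) (e j) = -(if j = i then 1 else 0) := by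
  rw [← h.ef j i, hA.neg_eq]

theorem SympFam.li {B : LinearMap.BilinForm F V} (hA : B.IsAlt) {m : ℕ} {e f : Fin m → V}
    (h : SympFam B m e f) {k : ℕ} (r : Fin k → V) (hr : LinearIndependent F r)
    (hrad : ∀ j v, B (r j) v = 0) : LinearIndependent F (Sum.elim (Sum.elim e f) r) := by
  rw [Fintype.linearIndependent_iff]
  intro g hg
  simp only [Fintype.sum_sum_type, Sum.elim_inl, Sum.elim_inr] at hg
  have h1 : ∀ j, g (Sum.inl (Sum.inl j)) = 0 := by
    intro j
    have := congrArg (fun x => B x (f j)) hg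
    simpa [map_add, map_sum, LinearMap.add_apply, LinearMap.sum_apply, h.ef, h.ff, hrad] using this
  have h2 : ∀ j, g (Sum.inl (Sum.inr j)) = 0 := by
    intro j
    have := congrArg (fun x => B x (e j)) hg
    simpa [map_add, map_sum, LinearMap.add_apply, LinearMap.sum_apply, h.fe hA, h.ee, hrad] using this
  have h3 : ∀ j, g (Sum.inr j) = 0 := by
    simp only [h1, h2, zero_smul, Finset.sum_const_zero, zero_add] at hg
    exact Fintype.linearIndependent_iff.mp hr (fun j => g (Sum.inr j)) hg
  rintro ((i | i) | i)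
  · exact h1 i
  · exact h2 i
  · exact h3 i

theorem SympFam.bound [FiniteDimensional F V] {B : LinearMap.BilinForm F V} (hA : B.IsAlt) {m : ℕ}
    {e f : Fin m → V} (h : SympFam B m e f) : m ≤ Module.finrank F V := by
  have hli := h.li hA (k := 0) (fun j => j.elim0) (linearIndependent_empty_type) (fun j => j.elim0)
  have := hli.fintype_card_le_finrank
  simp only [Fintype.card_sum, Fintype.card_fin] at this
  omega

theorem SympFam.extend {B : LinearMap.BilinForm F V} (hA : B.IsAlt) {m : ℕ} {e f : Fin m → V}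
    (h : SympFam B m e f) (x y : V) (hx : ∀ i, B x (e i) = 0 ∧ B x (f i) = 0)
    (hy : ∀ i, B y (e i) = 0 ∧ B y (f i) = 0) (hxy : B x y = 1) :
    SympFam B (m + 1) (Fin.cons x e) (Fin.cons y f) := by
  have hx1 : ∀ i, B (e i) x = 0 := fun i => by rw [← hA.neg_eq, (hx i).1, neg_zero]
  have hx2 : ∀ i, B (f i) x = 0 := fun i => by rw [← hA.neg_eq, (hx i).2, neg_zero]
  have hy1 : ∀ i, B (e i) y = 0 := fun i => by rw [← hA.neg_eq, (hy i).1, neg_zero]
  have hy2 : ∀ i, B (f i) y = 0 := fun i => by rw [← hA.neg_eq, (hy i).2, neg_zero]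
  refine ⟨?_, ?_, ?_⟩
  · intro i j
    refine Fin.cases ?_ (fun i => ?_) i <;> refine Fin.cases ?_ (fun j => ?_) j
    · simp [hxy]
    · simp [(hx j).2, (Fin.succ_ne_zero j).symm]
    · simp [hy1 i, Fin.succ_ne_zero i]
    · simp [h.ef i j]
  · intro i j
    refine Fin.cases ?_ (fun i => ?_) i <;> refine Fin.cases ?_ (fun j => ?_) j
    · simp [hA x]
    · simp [(hx j).1]
    · simp [hx1 i]
    · simp [h.ee i j]
  · intro i j
    refine Fin.cases ?_ (fun i => ?_) i <;> refine Fin.cases ?_ (fun j => ?_) j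
    · simp [hA y]
    · simp [(hy j).2]
    · simp [hy2 i]
    · simp [h.ff i j]

def SympFam.perp (B : LinearMap.BilinForm F V) {m : ℕ} (e f : Fin m → V) : Submodule F V where
  carrier := {w | ∀ i, B w (e i) = 0 ∧ B w (f i) = 0}
  add_mem' := by
    intro a b ha hb i
    simp [map_add, LinearMap.add_apply, (ha i).1, (ha i).2, (hb i).1, (hb i).2]
  zero_mem' := by intro i; simp
  smul_mem' := by
    intro c a ha i
    simp [(ha i).1, (ha i).2]

theorem SympFam.decomp {B : LinearMap.BilinForm F V} (hA : B.IsAlt) {m : ℕ} {e f : Fin m → V}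
    (h : SympFam B m e f) (v : V) :
    v - ∑ i, B v (f i) • e i - ∑ i, (-B v (e i)) • f i ∈ SympFam.perp B e f := by
  intro j
  constructor
  · simp [map_sub, map_sum, LinearMap.sub_apply, LinearMap.sum_apply, h.ee, h.fe hA]
  · simp [map_sub, map_sum, LinearMap.sub_apply, LinearMap.sum_apply, h.ef, h.ff]

theorem main [FiniteDimensional F V] (B : LinearMap.BilinForm F V) (hA : B.IsAlt) : ∃ (m k : ℕ) (b : Module.Basis ((Fin m ⊕ Fin m) ⊕ Fin k) F V), (∀ i j : Fin m, B (b (Sum.inl (Sum.inl i))) (b (Sum.inl (Sum.inr j))) = if i = j then 1 else 0) ∧ (∀ i j : Fin m, B (b (Sum.inl (Sum.inl i))) (b (Sum.inl (Sum.inl j))) = 0) ∧ (∀ i j : Fin m, B (b (Sum.inl (Sum.inr i))) (b (Sum.inl (Sum.inr j))) = 0) ∧ (∀ (j : Fin k) (v : V), B (b (Sum.inr j)) v = 0) := by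
  classical
  have hex : ∃ m, (∃ e f : Fin m → V, SympFam B m e f) ∧ ¬ (∃ e f : Fin (m + 1) → V, SympFam B (m + 1) e f) := by
    by_contra hcon
    push Not at hcon
    have hall : ∀ m, ∃ e f : Fin m → V, SympFam B m e f := by
      intro m
      induction m with
      | zero => exact ⟨fun i => i.elim0, fun i => i.elim0, ⟨fun i => i.elim0, fun i => i.elim0, fun i => i.elim0⟩⟩
      | succ m ih => exact hcon m ih
    obtain ⟨e, f, h⟩ := hall (Module.finrank F V + 1)
    have := h.bound hA
    omega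
  obtain ⟨m, ⟨e, f, h⟩, hmax⟩ := hex
  have hzero : ∀ x ∈ SympFam.perp B e f, ∀ y ∈ SympFam.perp B e f, B x y = 0 := by
    intro x hx y hy
    by_contra hne
    apply hmax
    refine ⟨_, _, h.extend hA ((B x y)⁻¹ • x) y ?_ hy ?_⟩
    · intro i
      simp [(hx i).1, (hx i).2]
    · simp [hne]
  have hrad : ∀ x ∈ SympFam.perp B e f, ∀ v, B x v = 0 := by
    intro x hx v
    have hd := h.decomp hA v
    have : v = (v - ∑ i, B v (f i) • e i - ∑ i, (-B v (e i)) • f i) + ∑ i, B v (f i) • e i + ∑ i, (-B v (e i)) • f i := by abel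
    rw [this]
    simp only [map_add, map_sum, map_smul, hzero x hx _ hd, (hx _).1, (hx _).2]
    simp
  let r := Module.finBasis F (SympFam.perp B e f)
  set k := Module.finrank F (SympFam.perp B e f) with hk
  have hli := h.li hA (fun j => (r j : V))
    (by
      have := r.linearIndependent
      exact this.map' (SympFam.perp B e f).subtype (Submodule.ker_subtype _))
    (fun j v => hrad _ (r j).2 v)
  have hsp : ⊤ ≤ Submodule.span F (Set.range (Sum.elim (Sum.elim e f) (fun j => (r j : V)))) := by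
    intro v _
    have hd := h.decomp hA v
    have hv : v = (v - ∑ i, B v (f i) • e i - ∑ i, (-B v (e i)) • f i) + ∑ i, B v (f i) • e i + ∑ i, (-B v (e i)) • f i := by abel
    rw [hv]
    refine Submodule.add_mem _ (Submodule.add_mem _ ?_ ?_) ?_
    · have := congrArg Subtype.val (r.sum_repr ⟨_, hd⟩)
      simp only [Submodule.coe_sum, Submodule.coe_smul] at this
      rw [← this]
      exact Submodule.sum_mem _ (fun j _ => Submodule.smul_mem _ _ (Submodule.subset_span ⟨Sum.inr j, rfl⟩))
    · exact Submodule.sum_mem _ (fun j _ => Submodule.smul_mem _ _ (Submodule.subset_span ⟨Sum.inl (Sum.inl j), rfl⟩))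
    · exact Submodule.sum_mem _ (fun j _ => Submodule.smul_mem _ _ (Submodule.subset_span ⟨Sum.inl (Sum.inr j), rfl⟩))
  refine ⟨m, k, Module.Basis.mk hli hsp, ?_, ?_, ?_, ?_⟩
  · intro i j
    simp [h.ef]
  · intro i j
    simp [h.ee]
  · intro i j
    simp [h.ff]
  · intro j v
    simp only [Module.Basis.mk_apply, Sum.elim_inr]
    exact hrad _ (r j).2 v


/-- Classification of alternating forms: for an alternating bilinear form B on a finite-dimensional space over any field there is a basis indexed by (Fin m ⊕ Fin m) ⊕ Fin k such that B (e_i, f_j) = δ_ij, the e's are pairwise orthogonal, the f's are pairwise orthogonal, and the last k basis vectors are orthogonal to everything (they span the radical). -/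
theorem result {F V : Type*} [Field F] [AddCommGroup V] [Module F V] [FiniteDimensional F V] (B : LinearMap.BilinForm F V) (hA : B.IsAlt) : ∃ (m k : ℕ) (b : Module.Basis ((Fin m ⊕ Fin m) ⊕ Fin k) F V), (∀ i j : Fin m, B (b (Sum.inl (Sum.inl i))) (b (Sum.inl (Sum.inr j))) = if i = j then 1 else 0) ∧ (∀ i j : Fin m, B (b (Sum.inl (Sum.inl i))) (b (Sum.inl (Sum.inl j))) = 0) ∧ (∀ i j : Fin m, B (b (Sum.inl (Sum.inr i))) (b (Sum.inl (Sum.inr j))) = 0) ∧ (∀ (j : Fin k) (v : V), B (b (Sum.inr j)) v = 0) := by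
  exact main B hA

end Cfsg.Agent.S0752
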