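import Cfsg.Statements.S2167
import Cfsg.Agent.Lib.helper6.Symp
import Cfsg.Agent.S0752

set_option autoImplicit false
open Cfsg

namespace Cfsg.Agent.S2167

open Cfsg.Agent.Lib.helper6 Matrix

section Aux

variable {F : Type*} [Field F] [Fintype F] [CharP F 2] {m : ℕ}

local notation "VV" => (Fin m ⊕ Fin m → F)
local notation "MM" => Matrix (Fin m ⊕ Fin m) (Fin m ⊕ Fin m) F

/-- the quadratic-like functional `v ↦ f(v, A v)` -/
noncomputable def phiHom (A : MM) (hA : A ∈ Matrix.symplecticGroup (Fin m) F) (hA2 : A * A = 1) :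
    VV →+ F where
  toFun v := Cfsg.sympForm m F v (A *ᵥ v)
  map_zero' := by rw [sympForm_zero_left]
  map_add' v w := by
    rw [Matrix.mulVec_add, sympForm_add_left, sympForm_add_right, sympForm_add_right]
    have h1 : Cfsg.sympForm m F w (A *ᵥ v) = Cfsg.sympForm m F v (A *ᵥ w) := by
      have h := (mem_symplecticGroup_iff_sympForm m A).mp hA w (A *ᵥ v)
      rw [Matrix.mulVec_mulVec, hA2, Matrix.one_mulVec] at h
      rw [← h, sympForm_swap, CharTwo.neg_eq]
    rw [h1]
    have := CharTwo.add_self_eq_zero (Cfsg.sympForm m F v (A *ᵥ w))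
    linear_combination this

theorem phiHom_apply (A : MM) (hA : A ∈ Matrix.symplecticGroup (Fin m) F) (hA2 : A * A = 1)
    (v : VV) : phiHom A hA hA2 v = Cfsg.sympForm m F v (A *ᵥ v) := rfl

theorem phiHom_smul (A : MM) (hA : A ∈ Matrix.symplecticGroup (Fin m) F) (hA2 : A * A = 1)
    (c : F) (v : VV) : phiHom A hA hA2 (c • v) = c * c * phiHom A hA hA2 v := by
  rw [phiHom_apply, phiHom_apply, Matrix.mulVec_smul, sympForm_smul_left, sympForm_smul_right]
  ring

theorem card_VV : Nat.card VV = Fintype.card F ^ (2 * m) := by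
  rw [Nat.card_eq_fintype_card, Fintype.card_fun, Fintype.card_sum, Fintype.card_fin, two_mul]

theorem part1 (A : MM) (hA : A ∈ Matrix.symplecticGroup (Fin m) F) (hA2 : A * A = 1) :
    Nat.card {v : VV // Cfsg.sympForm m F v (A *ᵥ v) = 0} = Fintype.card F ^ (2 * m) ∨
    Nat.card {v : VV // Cfsg.sympForm m F v (A *ᵥ v) = 0} * Fintype.card F =
      Fintype.card F ^ (2 * m) := by
  set φ := phiHom A hA hA2 with hφ
  have hker : Nat.card {v : VV // Cfsg.sympForm m F v (A *ᵥ v) = 0} = Nat.card φ.ker := by
    apply Nat.card_congr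
    exact Equiv.subtypeEquivRight (fun v => by rw [AddMonoidHom.mem_ker]; rfl)
  rw [hker]
  have hidx := AddSubgroup.card_mul_index φ.ker
  rw [card_VV, AddSubgroup.index_ker] at hidx
  by_cases hz : ∀ v, φ v = 0
  · left
    have : φ.range = ⊥ := by
      rw [eq_bot_iff]
      rintro x ⟨v, rfl⟩
      rw [AddSubgroup.mem_bot]
      exact hz v
    rw [this] at hidx
    simpa using hidx
  · right
    obtain ⟨v₀, hv₀⟩ : ∃ v₀, φ v₀ ≠ 0 := by
      by_contra h
      apply hz
      intro v
      by_contra h'
      exact h ⟨v, h'⟩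
    have : φ.range = ⊤ := by
      rw [eq_top_iff]
      intro y _
      have hchar : ringChar F = 2 := ringChar.eq F 2
      obtain ⟨c, hc⟩ := FiniteField.isSquare_of_char_two hchar (y / φ v₀)
      refine ⟨c • v₀, ?_⟩
      show phiHom A hA hA2 (c • v₀) = y
      rw [phiHom_smul, ← hc]
      have hv₀' : phiHom A hA hA2 v₀ ≠ 0 := hv₀
      field_simp
      rfl
    rw [this] at hidx
    have h2 : Nat.card (⊤ : AddSubgroup F) = Fintype.card F := by
      rw [Nat.card_congr (AddSubgroup.topEquiv (G := F)).toEquiv, Nat.card_eq_fintype_card]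
    rw [h2] at hidx
    exact hidx

end Aux

section Alt

variable {F : Type*} [Field F] {n : Type*} [Fintype n] [DecidableEq n]

/-- a matrix whose bilinear form is alternating has even rank -/
theorem even_rank_of_alt (M : Matrix n n F) (hM : (Matrix.toBilin' M).IsAlt) : Even M.rank := by
  obtain ⟨k, r, b, h1, h2, h3, h4⟩ := Cfsg.Agent.S0752.result (Matrix.toBilin' M) hM
  set β := Matrix.toBilin' M with hβ
  have hskew : ∀ x y, β x y = -β y x := fun x y => (hM.neg_eq y x).symm
  have h4' : ∀ (j : Fin r) (v : n → F), β v (b (Sum.inr j)) = 0 := by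
    intro j v
    rw [hskew, h4, neg_zero]
  have hβM : ∀ x y, β x y = x ⬝ᵥ (M *ᵥ y) := fun x y => Matrix.toBilin'_apply' M x y
  have hkerβ : ∀ y, M *ᵥ y = 0 ↔ ∀ x, β x y = 0 := by
    intro y
    constructor
    · intro h x
      rw [hβM, h, dotProduct_zero]
    · intro h
      funext i
      have := h (Pi.single i 1)
      rw [hβM, single_one_dotProduct] at this
      exact this
  -- the coordinate functionals
  have c1 : ∀ (i : Fin k) (y : n → F), β (b (Sum.inl (Sum.inl i))) y =
      b.coord (Sum.inl (Sum.inr i)) y := by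
    intro i
    have : (β (b (Sum.inl (Sum.inl i)))) = b.coord (Sum.inl (Sum.inr i)) := by
      apply b.ext
      rintro ((j | j) | j)
      · rw [h2, Module.Basis.coord_apply, Module.Basis.repr_self, Finsupp.single_apply, if_neg (by simp)]
      · rw [h1, Module.Basis.coord_apply, Module.Basis.repr_self, Finsupp.single_apply]
        by_cases hij : i = j
        · rw [if_pos hij, if_pos (by rw [hij])]
        · rw [if_neg hij, if_neg (by simpa using Ne.symm hij)]
      · rw [h4', Module.Basis.coord_apply, Module.Basis.repr_self, Finsupp.single_apply, if_neg (by simp)]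
    intro y
    rw [this]
  have c2 : ∀ (i : Fin k) (y : n → F), β (b (Sum.inl (Sum.inr i))) y =
      -b.coord (Sum.inl (Sum.inl i)) y := by
    intro i
    have : (β (b (Sum.inl (Sum.inr i)))) = -b.coord (Sum.inl (Sum.inl i)) := by
      apply b.ext
      rintro ((j | j) | j)
      · rw [hskew, h1, LinearMap.neg_apply, Module.Basis.coord_apply, Module.Basis.repr_self,
          Finsupp.single_apply]
        by_cases hij : j = i
        · rw [if_pos hij, if_pos (by rw [hij])]
        · rw [if_neg hij, if_neg (by simpa using hij)]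
      · rw [h3, LinearMap.neg_apply, Module.Basis.coord_apply, Module.Basis.repr_self,
          Finsupp.single_apply, if_neg (by simp), neg_zero]
      · rw [h4', LinearMap.neg_apply, Module.Basis.coord_apply, Module.Basis.repr_self,
          Finsupp.single_apply, if_neg (by simp), neg_zero]
    intro y
    rw [this, LinearMap.neg_apply]
  -- the kernel
  have hker : LinearMap.ker M.mulVecLin =
      Submodule.span F (Set.range (fun j : Fin r => b (Sum.inr j))) := by
    apply le_antisymm
    · intro y hy
      rw [LinearMap.mem_ker, Matrix.mulVecLin_apply, hkerβ] at hy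
      have e1 : ∀ i : Fin k, b.repr y (Sum.inl (Sum.inr i)) = 0 := by
        intro i
        have := c1 i y
        rw [hy, Module.Basis.coord_apply] at this
        exact this.symm
      have e2 : ∀ i : Fin k, b.repr y (Sum.inl (Sum.inl i)) = 0 := by
        intro i
        have := c2 i y
        rw [hy, Module.Basis.coord_apply] at this
        exact neg_eq_zero.mp this.symm
      have hy' : y = ∑ j : Fin r, b.repr y (Sum.inr j) • b (Sum.inr j) := by
        conv_lhs => rw [← b.sum_repr y]
        rw [Fintype.sum_sum_type, Fintype.sum_sum_type]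
        simp only [e1, e2, zero_smul, Finset.sum_const_zero, zero_add]
      rw [hy']
      apply Submodule.sum_mem
      intro j _
      apply Submodule.smul_mem
      exact Submodule.subset_span ⟨j, rfl⟩
    · rw [Submodule.span_le]
      rintro _ ⟨j, rfl⟩
      rw [SetLike.mem_coe, LinearMap.mem_ker, Matrix.mulVecLin_apply, hkerβ]
      intro x
      exact h4' j x
  have hli : LinearIndependent F (fun j : Fin r => b (Sum.inr j)) :=
    b.linearIndependent.comp _ Sum.inr_injective
  have hfk : Module.finrank F (LinearMap.ker M.mulVecLin) = r := by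
    rw [hker, finrank_span_eq_card hli, Fintype.card_fin]
  have hV : Module.finrank F (n → F) = k + k + r := by
    rw [Module.finrank_eq_card_basis b, Fintype.card_sum, Fintype.card_sum, Fintype.card_fin,
      Fintype.card_fin]
  have hrn := LinearMap.finrank_range_add_finrank_ker M.mulVecLin
  rw [hfk, hV] at hrn
  have : M.rank = k + k := by
    unfold Matrix.rank
    omega
  rw [this]
  exact ⟨k, rfl⟩

end Alt

section Part2

variable {F : Type*} [Field F] {m : ℕ}

theorem part2 (A : Matrix (Fin m ⊕ Fin m) (Fin m ⊕ Fin m) F)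
    (hz : ∀ v : Fin m ⊕ Fin m → F, Cfsg.sympForm m F v (A *ᵥ v) = 0) : Even (A - 1).rank := by
  have hr : (Matrix.J (Fin m) F * (A - 1)).rank = (A - 1).rank :=
    Matrix.rank_mul_eq_right_of_isUnit_det _ _ (Matrix.isUnit_det_J (Fin m) F)
  rw [← hr]
  apply even_rank_of_alt
  intro x
  rw [Matrix.toBilin'_apply', ← Matrix.mulVec_mulVec, Matrix.sub_mulVec, Matrix.one_mulVec]
  have : x ⬝ᵥ (Matrix.J (Fin m) F *ᵥ (A *ᵥ x - x)) = Cfsg.sympForm m F x (A *ᵥ x - x) := rfl
  rw [this, sympForm_sub_right, hz, sympForm_self, sub_zero]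

end Part2

/-- For an involution t of the symplectic group Sp_{2m}(F), m ≥ 2, F a finite field of characteristic two (matrices A with A J Aᵀ = J acting on column vectors, alternating form f(u, v) = u ⬝ (J v)): the set V(t) of vectors v with f(v, t v) = 0 has either q^{2m} or q^{2m−1} elements, q the order of F (it is a subspace of codimension at most 1), and if it is the whole space then t − 1 has even rank. -/
theorem result {F : Type*} [Field F] [Fintype F] [CharP F 2] {m : ℕ} (hm : 2 ≤ m) (a : ↥(Matrix.symplecticGroup (Fin m) F)) (ha : orderOf a = 2) :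
    (Nat.card {v : Fin m ⊕ Fin m → F // Cfsg.sympForm m F v (Matrix.mulVec ((a : ↥(Matrix.symplecticGroup (Fin m) F)) : Matrix (Fin m ⊕ Fin m) (Fin m ⊕ Fin m) F) v) = 0} = Fintype.card F ^ (2 * m) ∨ Nat.card {v : Fin m ⊕ Fin m → F // Cfsg.sympForm m F v (Matrix.mulVec ((a : ↥(Matrix.symplecticGroup (Fin m) F)) : Matrix (Fin m ⊕ Fin m) (Fin m ⊕ Fin m) F) v) = 0} * Fintype.card F = Fintype.card F ^ (2 * m)) ∧
    ((∀ v : Fin m ⊕ Fin m → F, Cfsg.sympForm m F v (Matrix.mulVec ((a : ↥(Matrix.symplecticGroup (Fin m) F)) : Matrix (Fin m ⊕ Fin m) (Fin m ⊕ Fin m) F) v) = 0) → Even (((a : ↥(Matrix.symplecticGroup (Fin m) F)) : Matrix (Fin m ⊕ Fin m) (Fin m ⊕ Fin m) F) - 1).rank) := by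
  have hA := a.2
  have hA2 : (a : Matrix (Fin m ⊕ Fin m) (Fin m ⊕ Fin m) F) * (a : Matrix (Fin m ⊕ Fin m) (Fin m ⊕ Fin m) F) = 1 := by
    have h1 : a ^ 2 = 1 := by rw [← ha]; exact pow_orderOf_eq_one a
    rw [pow_two] at h1
    have := congrArg (fun x : ↥(Matrix.symplecticGroup (Fin m) F) => (x : Matrix (Fin m ⊕ Fin m) (Fin m ⊕ Fin m) F)) h1
    simpa using this
  exact ⟨part1 _ hA hA2, fun hz => part2 _ hz⟩

end Cfsg.Agent.S2167
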