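import Cfsg.Statements.S2166
import Cfsg.Agent.Lib.helper14.SympInv2
import Cfsg.Agent.Lib.helper6.SympBasis
import Cfsg.Agent.S2167

set_option autoImplicit false
open Cfsg

namespace Cfsg.Agent.S2166

open Cfsg.Agent.Lib.helper6 Cfsg.Agent.Lib.helper6.SB Cfsg.Agent.Lib.helper14.SympInv Matrix

section Aux

variable {F : Type*} [Field F] {m : ℕ}

local notation "VV" => (Fin m ⊕ Fin m → F)
local notation "MM" => Matrix (Fin m ⊕ Fin m) (Fin m ⊕ Fin m) F

theorem sB_isAlt : (sB m F).IsAlt := fun v => by rw [sB_apply, sympForm_self]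

theorem sB_nondeg : (sB m F).Nondegenerate := by
  constructor
  · intro x hx
    by_contra h
    obtain ⟨y, hy⟩ := sympForm_nondeg m x h
    exact hy (by rw [← sB_apply]; exact hx y)
  · intro y hy
    by_contra h
    obtain ⟨x, hx⟩ := sympForm_nondeg m y h
    apply hx
    rw [sympForm_swap, ← sB_apply, hy x, neg_zero]

variable [CharP F 2]

theorem sq_zero (A : MM) (hA2 : A * A = 1) : (A - 1) * (A - 1) = 0 := by
  have h2 : ∀ X : MM, X + X = 0 := fun X => by
    rw [← two_smul F X, CharTwo.two_eq_zero, zero_smul]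
  rw [sub_mul, mul_sub, mul_sub, hA2, mul_one, one_mul, one_mul]
  calc (1 - A) - (A - 1) = (1 - A) + (1 - A) := by abel
    _ = 0 := h2 _

theorem isInvPart (A : MM) (hA : A ∈ Matrix.symplecticGroup (Fin m) F) (hA2 : A * A = 1) :
    IsInvPart (sB m F) (Matrix.mulVecLin (A - 1)) := by
  have hiso := (mem_symplecticGroup_iff_sympForm m A).mp hA
  constructor
  · intro v
    rw [Matrix.mulVecLin_apply, Matrix.mulVecLin_apply, Matrix.mulVec_mulVec, sq_zero A hA2,
      Matrix.zero_mulVec]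
  · intro u v
    rw [sB_apply, sB_apply, Matrix.mulVecLin_apply, Matrix.mulVecLin_apply, Matrix.sub_mulVec,
      Matrix.sub_mulVec, Matrix.one_mulVec, Matrix.one_mulVec, sympForm_sub_left,
      sympForm_sub_right]
    congr 1
    rw [← hiso (A *ᵥ u) v, Matrix.mulVec_mulVec, hA2, Matrix.one_mulVec]

theorem type_link (A : MM) (v : VV) :
    sB m F v (Matrix.mulVecLin (A - 1) v) = Cfsg.sympForm m F v (A *ᵥ v) := by
  rw [sB_apply, Matrix.mulVecLin_apply, Matrix.sub_mulVec, Matrix.one_mulVec, sympForm_sub_right,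
    sympForm_self, sub_zero]

end Aux

section Main

variable {F : Type*} [Field F] [Fintype F] [CharP F 2] {m : ℕ}

local notation "VV" => (Fin m ⊕ Fin m → F)
local notation "MM" => Matrix (Fin m ⊕ Fin m) (Fin m ⊕ Fin m) F

theorem coe_sq (a : ↥(Matrix.symplecticGroup (Fin m) F)) (ha : orderOf a = 2) :
    (a : MM) * (a : MM) = 1 := by
  have h1 : a ^ 2 = 1 := by rw [← ha]; exact pow_orderOf_eq_one a
  rw [pow_two] at h1
  have := congrArg (fun x : ↥(Matrix.symplecticGroup (Fin m) F) => (x : MM)) h1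
  simpa using this

/-- full cardinality of `V(a)` iff the form is alternating -/
theorem card_full_iff (A : MM) :
    Nat.card {v : VV // Cfsg.sympForm m F v (A *ᵥ v) = 0} = Nat.card VV ↔
      ∀ v : VV, Cfsg.sympForm m F v (A *ᵥ v) = 0 := by
  classical
  constructor
  · intro h
    by_contra hne
    have hex : ∃ v : VV, ¬ Cfsg.sympForm m F v (A *ᵥ v) = 0 := by
      by_contra h'
      apply hne
      intro v
      by_contra h''
      exact h' ⟨v, h''⟩
    have := Fintype.card_subtype_lt (p := fun v : VV => Cfsg.sympForm m F v (A *ᵥ v) = 0)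
      (x := hex.choose) hex.choose_spec
    rw [Nat.card_eq_fintype_card, Nat.card_eq_fintype_card] at h
    omega
  · intro h
    apply Nat.card_congr
    exact Equiv.subtypeUnivEquiv h

/-- conjugacy from the invariants -/
theorem conj_of_invariants (a b : ↥(Matrix.symplecticGroup (Fin m) F))
    (ha2 : (a : MM) * (a : MM) = 1) (hb2 : (b : MM) * (b : MM) = 1)
    (hrank : ((a : MM) - 1).rank = ((b : MM) - 1).rank)
    (htype : (∀ v : VV, Cfsg.sympForm m F v ((a : MM) *ᵥ v) = 0) ↔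
      (∀ v : VV, Cfsg.sympForm m F v ((b : MM) *ᵥ v) = 0)) : IsConj a b := by
  have hsq : ∀ x : F, IsSquare x := fun x =>
    FiniteField.isSquare_of_char_two (ringChar.eq F 2) x
  obtain ⟨g, hgiso, hgN⟩ := exists_isometry_conj (ω := sB m F) hsq sB_isAlt sB_nondeg
    (isInvPart (a : MM) a.2 ha2) (isInvPart (b : MM) b.2 hb2) hrank
    (by simp only [type_link]; exact htype)
  set M : MM := LinearMap.toMatrix' (g : VV →ₗ[F] VV) with hM
  have hMv : ∀ v : VV, M *ᵥ v = g v := fun v => by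
    rw [hM, LinearMap.toMatrix'_mulVec]
    rfl
  have hMmem : M ∈ Matrix.symplecticGroup (Fin m) F := by
    rw [mem_symplecticGroup_iff_sympForm]
    intro u v
    rw [hMv, hMv, ← sB_apply, hgiso, sB_apply]
  have hcomm : M * (a : MM) = (b : MM) * M := by
    have h1 : M * ((a : MM) - 1) = ((b : MM) - 1) * M := by
      apply Matrix.toLin'.injective
      apply LinearMap.ext
      intro v
      rw [Matrix.toLin'_apply, Matrix.toLin'_apply, ← Matrix.mulVec_mulVec, ← Matrix.mulVec_mulVec,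
        hMv, hMv]
      exact hgN v
    rw [mul_sub, sub_mul, mul_one, one_mul] at h1
    exact sub_left_injective h1
  rw [isConj_iff]
  refine ⟨⟨M, hMmem⟩, ?_⟩
  rw [mul_inv_eq_iff_eq_mul]
  apply Subtype.ext
  exact hcomm

end Main

/-- Conjugacy of involutions in the symplectic group Sp_{2m}(F), F a finite field of characteristic two, m ≥ 2 (Sp taken as the matrices A with A J Aᵀ = J, acting on column vectors, with the alternating form f(u, v) = u ⬝ (J v)). For an involution t write V(t) for the set of vectors v with f(v, t v) = 0 (a subspace). Two involutions a, b are conjugate in Sp_{2m}(F) exactly when a − 1 and b − 1 have the same rank and, in case that rank is even, V(a) and V(b) have the same number of elements. -/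
theorem result {F : Type*} [Field F] [Fintype F] [CharP F 2] {m : ℕ} (hm : 2 ≤ m) (a b : ↥(Matrix.symplecticGroup (Fin m) F)) (ha : orderOf a = 2) (hb : orderOf b = 2) :
    IsConj a b ↔ ((((a : ↥(Matrix.symplecticGroup (Fin m) F)) : Matrix (Fin m ⊕ Fin m) (Fin m ⊕ Fin m) F) - 1).rank = (((b : ↥(Matrix.symplecticGroup (Fin m) F)) : Matrix (Fin m ⊕ Fin m) (Fin m ⊕ Fin m) F) - 1).rank ∧
      (Even (((a : ↥(Matrix.symplecticGroup (Fin m) F)) : Matrix (Fin m ⊕ Fin m) (Fin m ⊕ Fin m) F) - 1).rank → Nat.card {v : Fin m ⊕ Fin m → F // Cfsg.sympForm m F v (Matrix.mulVec ((a : ↥(Matrix.symplecticGroup (Fin m) F)) : Matrix (Fin m ⊕ Fin m) (Fin m ⊕ Fin m) F) v) = 0} = Nat.card {v : Fin m ⊕ Fin m → F // Cfsg.sympForm m F v (Matrix.mulVec ((b : ↥(Matrix.symplecticGroup (Fin m) F)) : Matrix (Fin m ⊕ Fin m) (Fin m ⊕ Fin m) F) v) = 0})) := by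
  have ha2 := coe_sq a ha
  have hb2 := coe_sq b hb
  constructor
  · intro hconj
    obtain ⟨c, hc⟩ := isConj_iff.mp hconj
    have hcm : (c : Matrix (Fin m ⊕ Fin m) (Fin m ⊕ Fin m) F) * (a : Matrix (Fin m ⊕ Fin m) (Fin m ⊕ Fin m) F) =
        (b : Matrix (Fin m ⊕ Fin m) (Fin m ⊕ Fin m) F) * (c : Matrix (Fin m ⊕ Fin m) (Fin m ⊕ Fin m) F) := by
      have h := mul_inv_eq_iff_eq_mul.mp hc
      have := congrArg (fun x : ↥(Matrix.symplecticGroup (Fin m) F) => (x : Matrix (Fin m ⊕ Fin m) (Fin m ⊕ Fin m) F)) h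
      simpa using this
    have hcinv : (c : Matrix (Fin m ⊕ Fin m) (Fin m ⊕ Fin m) F) * ((c⁻¹ : ↥(Matrix.symplecticGroup (Fin m) F)) : Matrix (Fin m ⊕ Fin m) (Fin m ⊕ Fin m) F) = 1 := by
      have h : c * c⁻¹ = 1 := mul_inv_cancel c
      exact congrArg Subtype.val h
    have hcinv' : ((c⁻¹ : ↥(Matrix.symplecticGroup (Fin m) F)) : Matrix (Fin m ⊕ Fin m) (Fin m ⊕ Fin m) F) * (c : Matrix (Fin m ⊕ Fin m) (Fin m ⊕ Fin m) F) = 1 := by
      have h : c⁻¹ * c = 1 := inv_mul_cancel c
      exact congrArg Subtype.val h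
    have hdet : IsUnit (c : Matrix (Fin m ⊕ Fin m) (Fin m ⊕ Fin m) F).det := by
      have := congrArg Matrix.det hcinv
      rw [Matrix.det_mul, Matrix.det_one] at this
      exact IsUnit.of_mul_eq_one _ this
    have hciso := (mem_symplecticGroup_iff_sympForm m _).mp c.2
    have hcm1 : (c : Matrix (Fin m ⊕ Fin m) (Fin m ⊕ Fin m) F) * ((a : Matrix (Fin m ⊕ Fin m) (Fin m ⊕ Fin m) F) - 1) =
        ((b : Matrix (Fin m ⊕ Fin m) (Fin m ⊕ Fin m) F) - 1) * (c : Matrix (Fin m ⊕ Fin m) (Fin m ⊕ Fin m) F) := by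
      rw [mul_sub, sub_mul, mul_one, one_mul, hcm]
    constructor
    · have h1 := Matrix.rank_mul_eq_right_of_isUnit_det (c : Matrix (Fin m ⊕ Fin m) (Fin m ⊕ Fin m) F)
        ((a : Matrix (Fin m ⊕ Fin m) (Fin m ⊕ Fin m) F) - 1) hdet
      have h2 := Matrix.rank_mul_eq_left_of_isUnit_det (c : Matrix (Fin m ⊕ Fin m) (Fin m ⊕ Fin m) F)
        ((b : Matrix (Fin m ⊕ Fin m) (Fin m ⊕ Fin m) F) - 1) hdet
      rw [← h1, hcm1, h2]
    · intro _
      apply Nat.card_congr
      refine
        { toFun := fun v => ⟨(c : Matrix (Fin m ⊕ Fin m) (Fin m ⊕ Fin m) F) *ᵥ v.1, ?_⟩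
          invFun := fun v => ⟨((c⁻¹ : ↥(Matrix.symplecticGroup (Fin m) F)) : Matrix (Fin m ⊕ Fin m) (Fin m ⊕ Fin m) F) *ᵥ v.1, ?_⟩
          left_inv := ?_
          right_inv := ?_ }
      · show Cfsg.sympForm m F _ (Matrix.mulVec _ _) = 0
        rw [Matrix.mulVec_mulVec, ← hcm, ← Matrix.mulVec_mulVec, hciso]
        exact v.2
      · show Cfsg.sympForm m F _ (Matrix.mulVec _ _) = 0
        have hv := v.2
        rw [← hciso, Matrix.mulVec_mulVec, hcinv, Matrix.one_mulVec, Matrix.mulVec_mulVec,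
          Matrix.mulVec_mulVec, hcm, mul_assoc, hcinv, mul_one]
        exact hv
      · intro v
        apply Subtype.ext
        show ((c⁻¹ : ↥(Matrix.symplecticGroup (Fin m) F)) : Matrix (Fin m ⊕ Fin m) (Fin m ⊕ Fin m) F) *ᵥ
          ((c : Matrix (Fin m ⊕ Fin m) (Fin m ⊕ Fin m) F) *ᵥ v.1) = v.1
        rw [Matrix.mulVec_mulVec, hcinv', Matrix.one_mulVec]
      · intro v
        apply Subtype.ext
        show (c : Matrix (Fin m ⊕ Fin m) (Fin m ⊕ Fin m) F) *ᵥ
          (((c⁻¹ : ↥(Matrix.symplecticGroup (Fin m) F)) : Matrix (Fin m ⊕ Fin m) (Fin m ⊕ Fin m) F) *ᵥ v.1) = v.1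
        rw [Matrix.mulVec_mulVec, hcinv, Matrix.one_mulVec]
  · rintro ⟨hrank, hcard⟩
    apply conj_of_invariants a b ha2 hb2 hrank
    by_cases hev : Even (((a : ↥(Matrix.symplecticGroup (Fin m) F)) : Matrix (Fin m ⊕ Fin m) (Fin m ⊕ Fin m) F) - 1).rank
    · have hc := hcard hev
      rw [← card_full_iff, ← card_full_iff, hc]
    · have hev' : ¬ Even (((b : ↥(Matrix.symplecticGroup (Fin m) F)) : Matrix (Fin m ⊕ Fin m) (Fin m ⊕ Fin m) F) - 1).rank := by
        rw [← hrank]; exact hev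
      constructor
      · intro h
        exact absurd ((Cfsg.Agent.S2167.result hm a ha).2 h) hev
      · intro h
        exact absurd ((Cfsg.Agent.S2167.result hm b hb).2 h) hev'

end Cfsg.Agent.S2166
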