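import Cfsg.Statements.S2593
import Cfsg.Agent.S2166

set_option autoImplicit false
open Cfsg

namespace Cfsg.Agent.S2593

open Cfsg.Agent.Lib.helper6 Cfsg.Agent.Lib.helper6.SB Cfsg.Agent.Lib.helper14.SympInv Matrix

section Build

variable {F : Type*} [Field F] {m : ℕ}

local notation "VV" => (Fin m ⊕ Fin m → F)
local notation "MM" => Matrix (Fin m ⊕ Fin m) (Fin m ⊕ Fin m) F
local notation "M1" => Matrix (Fin m) (Fin m) F

/-- the unipotent element with upper right block `S` -/
def tS (S : M1) : MM := Matrix.fromBlocks 1 S 0 1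

theorem tS_mem (S : M1) (hS : Sᵀ = S) : tS S ∈ Matrix.symplecticGroup (Fin m) F := by
  rw [SymplecticGroup.mem_iff]
  unfold tS Matrix.J
  rw [Matrix.fromBlocks_transpose, Matrix.fromBlocks_multiply, Matrix.fromBlocks_multiply]
  simp only [Matrix.transpose_one, Matrix.transpose_zero, mul_zero, mul_one, zero_mul, one_mul,
    zero_add, add_zero, mul_neg, neg_zero, hS, neg_mul]
  congr 1
  abel

theorem tS_sub_one (S : M1) : tS S - 1 = Matrix.fromBlocks 0 S 0 0 := by
  unfold tS
  ext i j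
  rcases i with i | i <;> rcases j with j | j <;> simp [Matrix.one_apply]

theorem rank_tS (S : M1) : (tS S - 1).rank = S.rank := by
  rw [tS_sub_one]
  apply le_antisymm
  · have h : (Matrix.fromBlocks 0 S 0 0 : MM) =
        Matrix.fromRows (1 : M1) (0 : M1) * S * Matrix.fromCols (0 : M1) (1 : M1) := by
      rw [Matrix.fromRows_mul, Matrix.fromRows_mul_fromCols]
      simp
    rw [h]
    exact (Matrix.rank_mul_le_left _ _).trans (Matrix.rank_mul_le_right _ _)
  · have h : S = Matrix.fromCols (1 : M1) (0 : M1) * (Matrix.fromBlocks 0 S 0 0 : MM) *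
        Matrix.fromRows (0 : M1) (1 : M1) := by
      rw [Matrix.fromCols_mul_fromBlocks, Matrix.fromCols_mul_fromRows]
      simp
    conv_lhs => rw [h]
    exact (Matrix.rank_mul_le_left _ _).trans (Matrix.rank_mul_le_right _ _)

theorem tS_form (S : M1) (v : VV) :
    Cfsg.sympForm m F v (tS S *ᵥ v) = (v ∘ Sum.inr) ⬝ᵥ (S *ᵥ (v ∘ Sum.inr)) := by
  unfold Cfsg.sympForm tS Matrix.J
  rw [Matrix.mulVec_mulVec, Matrix.fromBlocks_multiply]
  simp only [zero_mul, mul_one, neg_mul, one_mul, zero_add, mul_zero, add_zero, neg_zero]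
  rw [← Sum.elim_comp_inl_inr v, Matrix.fromBlocks_mulVec]
  simp only [Sum.elim_comp_inl_inr, Sum.elim_inl, Sum.elim_inr, Function.comp_def,
    dotProduct, Fintype.sum_sum_type, Matrix.zero_mulVec, Matrix.neg_mulVec, Matrix.one_mulVec,
    Pi.add_apply, Pi.neg_apply, Pi.zero_apply, zero_add, Matrix.mulVec, mul_add, mul_neg,
    Finset.sum_add_distrib, Finset.sum_neg_distrib]
  have : ∑ x, v (Sum.inl x) * v (Sum.inr x) = ∑ x, v (Sum.inr x) * v (Sum.inl x) :=
    Finset.sum_congr rfl (fun x _ => mul_comm _ _)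
  rw [this]
  ring

variable [CharP F 2]

theorem tS_sq (S : M1) : tS S * tS S = 1 := by
  unfold tS
  rw [Matrix.fromBlocks_multiply]
  simp only [mul_one, mul_zero, add_zero, one_mul, zero_mul, zero_add]
  have : S + S = 0 := by
    rw [← two_smul F S, CharTwo.two_eq_zero, zero_smul]
  rw [this, Matrix.fromBlocks_one]

end Build

section Blocks

variable {F : Type*} [Field F] {a b : Type*} [Fintype a] [Fintype b] [DecidableEq a] [DecidableEq b]

theorem rank_corner (A : Matrix a a F) :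
    (Matrix.fromBlocks A 0 0 0 : Matrix (a ⊕ b) (a ⊕ b) F).rank = A.rank := by
  apply le_antisymm
  · have h : (Matrix.fromBlocks A 0 0 0 : Matrix (a ⊕ b) (a ⊕ b) F) =
        Matrix.fromRows (1 : Matrix a a F) (0 : Matrix b a F) * A *
          Matrix.fromCols (1 : Matrix a a F) (0 : Matrix a b F) := by
      rw [Matrix.fromRows_mul, Matrix.fromRows_mul_fromCols]
      simp
    rw [h]
    exact (Matrix.rank_mul_le_left _ _).trans (Matrix.rank_mul_le_right _ _)
  · have h : A = Matrix.fromCols (1 : Matrix a a F) (0 : Matrix a b F) *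
        (Matrix.fromBlocks A 0 0 0 : Matrix (a ⊕ b) (a ⊕ b) F) *
        Matrix.fromRows (1 : Matrix a a F) (0 : Matrix b a F) := by
      rw [Matrix.fromCols_mul_fromBlocks, Matrix.fromCols_mul_fromRows]
      simp
    conv_lhs => rw [h]
    exact (Matrix.rank_mul_le_left _ _).trans (Matrix.rank_mul_le_right _ _)

/-- a corner matrix transported to `Fin m` -/
def cS {m : ℕ} (e : Fin m ≃ a ⊕ b) (A : Matrix a a F) : Matrix (Fin m) (Fin m) F :=
  (Matrix.fromBlocks A 0 0 0 : Matrix (a ⊕ b) (a ⊕ b) F).submatrix e e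

theorem cS_transpose {m : ℕ} (e : Fin m ≃ a ⊕ b) (A : Matrix a a F) :
    (cS e A)ᵀ = cS e Aᵀ := by
  unfold cS
  rw [Matrix.transpose_submatrix, Matrix.fromBlocks_transpose]
  simp

theorem rank_cS {m : ℕ} (e : Fin m ≃ a ⊕ b) (A : Matrix a a F) :
    (cS e A).rank = A.rank := by
  unfold cS
  rw [Matrix.rank_submatrix, rank_corner]

theorem cS_add {m : ℕ} (e : Fin m ≃ a ⊕ b) (A B : Matrix a a F) :
    cS e (A + B) = cS e A + cS e B := by
  unfold cS
  rw [show (Matrix.fromBlocks (A + B) 0 0 0 : Matrix (a ⊕ b) (a ⊕ b) F) =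
    Matrix.fromBlocks A 0 0 0 + Matrix.fromBlocks B 0 0 0 by
      rw [Matrix.fromBlocks_add]; simp]
  rfl

end Blocks

section Exist

variable {F : Type*} [Field F] [CharP F 2] {m : ℕ}

local notation "VV" => (Fin m ⊕ Fin m → F)
local notation "MM" => Matrix (Fin m ⊕ Fin m) (Fin m ⊕ Fin m) F
local notation "M1" => Matrix (Fin m) (Fin m) F

theorem alt_of_add_transpose (N : M1) (y : Fin m → F) : y ⬝ᵥ ((N + Nᵀ) *ᵥ y) = 0 := by
  rw [Matrix.add_mulVec, dotProduct_add]
  have h : y ⬝ᵥ (Nᵀ *ᵥ y) = y ⬝ᵥ (N *ᵥ y) := by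
    rw [Matrix.dotProduct_mulVec, Matrix.vecMul_transpose, dotProduct_comm]
  rw [h]
  exact CharTwo.add_self_eq_zero _

/-- existence of the non-alternating type -/
theorem exists_nonalt (r : ℕ) (hr1 : 1 ≤ r) (hrm : r ≤ m) :
    ∃ g : ↥(Matrix.symplecticGroup (Fin m) F), (g : MM) * (g : MM) = 1 ∧
      ((g : MM) - 1).rank = r ∧ ¬ ∀ v : VV, Cfsg.sympForm m F v ((g : MM) *ᵥ v) = 0 := by
  classical
  have e : Fin m ≃ Fin r ⊕ Fin (m - r) :=
    Fintype.equivOfCardEq (by simp only [Fintype.card_sum, Fintype.card_fin]; omega)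
  set S : M1 := cS e (1 : Matrix (Fin r) (Fin r) F) with hS
  have hSt : Sᵀ = S := by rw [hS, cS_transpose, Matrix.transpose_one]
  refine ⟨⟨tS S, tS_mem S hSt⟩, tS_sq S, ?_, ?_⟩
  · show (tS S - 1).rank = r
    rw [rank_tS, hS, rank_cS, Matrix.rank_one, Fintype.card_fin]
  · intro h
    set i0 : Fin m := e.symm (Sum.inl ⟨0, hr1⟩) with hi0
    have h1 := h (Sum.elim 0 (Pi.single i0 1))
    rw [show ((⟨tS S, tS_mem S hSt⟩ : ↥(Matrix.symplecticGroup (Fin m) F)) : MM) = tS S from rfl,
      tS_form] at h1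
    have h2 : ((Sum.elim 0 (Pi.single i0 1) : VV) ∘ Sum.inr) = Pi.single i0 1 :=
      Sum.elim_comp_inr _ _
    rw [h2, Matrix.mulVec_single_one, single_one_dotProduct] at h1
    have h3 : S i0 i0 = 1 := by
      rw [hS, hi0]
      unfold cS
      simp
    simp only [Matrix.col_apply] at h1
    rw [h3] at h1
    exact one_ne_zero h1

/-- existence of the alternating type -/
theorem exists_alt (k : ℕ) (hk1 : 1 ≤ k) (hkm : 2 * k ≤ m) :
    ∃ g : ↥(Matrix.symplecticGroup (Fin m) F), (g : MM) * (g : MM) = 1 ∧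
      ((g : MM) - 1).rank = 2 * k ∧ ∀ v : VV, Cfsg.sympForm m F v ((g : MM) *ᵥ v) = 0 := by
  classical
  have e : Fin m ≃ (Fin k ⊕ Fin k) ⊕ Fin (m - 2 * k) :=
    Fintype.equivOfCardEq (by simp only [Fintype.card_sum, Fintype.card_fin]; omega)
  set N0 : Matrix (Fin k ⊕ Fin k) (Fin k ⊕ Fin k) F := Matrix.fromBlocks 0 1 0 0 with hN0
  set S : M1 := cS e (N0 + N0ᵀ) with hS
  have hSt : Sᵀ = S := by
    rw [hS, cS_transpose, Matrix.transpose_add, Matrix.transpose_transpose, add_comm]
  have hS2 : S = cS e N0 + (cS e N0)ᵀ := by rw [hS, cS_add, cS_transpose]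
  refine ⟨⟨tS S, tS_mem S hSt⟩, tS_sq S, ?_, ?_⟩
  · show (tS S - 1).rank = 2 * k
    rw [rank_tS, hS, rank_cS]
    have hsq : (N0 + N0ᵀ) * (N0 + N0ᵀ) = 1 := by
      rw [hN0, Matrix.fromBlocks_transpose, Matrix.fromBlocks_add, Matrix.fromBlocks_multiply]
      simp [Matrix.fromBlocks_one]
    have hu : IsUnit (N0 + N0ᵀ) := IsUnit.of_mul_eq_one _ hsq
    rw [Matrix.rank_of_isUnit _ hu]
    simp only [Fintype.card_sum, Fintype.card_fin]
    omega
  · intro v
    rw [show ((⟨tS S, tS_mem S hSt⟩ : ↥(Matrix.symplecticGroup (Fin m) F)) : MM) = tS S from rfl,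
      tS_form, hS2]
    exact alt_of_add_transpose _ _

end Exist

section Inv

variable {F : Type*} [Field F] {m : ℕ}

local notation "VV" => (Fin m ⊕ Fin m → F)
local notation "MM" => Matrix (Fin m ⊕ Fin m) (Fin m ⊕ Fin m) F
set_option quotPrecheck false in
local notation "GG" => ↥(Matrix.symplecticGroup (Fin m) F)

/-- the rank invariant -/
noncomputable def rk (g : GG) : ℕ := ((g : MM) - 1).rank

/-- the type invariant -/
def isAltT (g : GG) : Prop := ∀ v : VV, Cfsg.sympForm m F v ((g : MM) *ᵥ v) = 0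

theorem coe_mul_inv (c : GG) : (c : MM) * ((c⁻¹ : GG) : MM) = 1 :=
  congrArg Subtype.val (mul_inv_cancel c)

theorem coe_inv_mul (c : GG) : ((c⁻¹ : GG) : MM) * (c : MM) = 1 :=
  congrArg Subtype.val (inv_mul_cancel c)

theorem conj_coe {a b c : GG} (hc : c * a * c⁻¹ = b) : (c : MM) * (a : MM) = (b : MM) * (c : MM) := by
  have h := mul_inv_eq_iff_eq_mul.mp hc
  exact congrArg Subtype.val h

theorem rk_conj {a b : GG} (h : IsConj a b) : rk a = rk b := by
  obtain ⟨c, hc⟩ := isConj_iff.mp h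
  have hcm := conj_coe hc
  have hdet : IsUnit (c : MM).det := by
    have := congrArg Matrix.det (coe_mul_inv c)
    rw [Matrix.det_mul, Matrix.det_one] at this
    exact IsUnit.of_mul_eq_one _ this
  have hcm1 : (c : MM) * ((a : MM) - 1) = ((b : MM) - 1) * (c : MM) := by
    rw [mul_sub, sub_mul, mul_one, one_mul, hcm]
  have h1 := Matrix.rank_mul_eq_right_of_isUnit_det (c : MM) ((a : MM) - 1) hdet
  have h2 := Matrix.rank_mul_eq_left_of_isUnit_det (c : MM) ((b : MM) - 1) hdet
  unfold rk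
  rw [← h1, hcm1, h2]

theorem isAltT_conj_aux {a b : GG} (h : IsConj a b) (ha : isAltT a) : isAltT b := by
  obtain ⟨c, hc⟩ := isConj_iff.mp h
  have hcm := conj_coe hc
  have hciso := (mem_symplecticGroup_iff_sympForm m _).mp c.2
  intro v
  obtain ⟨w, hw⟩ : ∃ w : VV, (c : MM) *ᵥ w = v :=
    ⟨((c⁻¹ : GG) : MM) *ᵥ v, by rw [Matrix.mulVec_mulVec, coe_mul_inv, Matrix.one_mulVec]⟩
  rw [← hw, Matrix.mulVec_mulVec, ← hcm, ← Matrix.mulVec_mulVec, hciso]
  exact ha w

theorem isAltT_conj {a b : GG} (h : IsConj a b) : isAltT a ↔ isAltT b :=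
  ⟨isAltT_conj_aux h, isAltT_conj_aux h.symm⟩

variable [CharP F 2]

theorem rk_le (g : GG) (hg2 : (g : MM) * (g : MM) = 1) : rk g ≤ m := by
  have h := Matrix.rank_add_rank_le_card_of_mul_eq_zero (Cfsg.Agent.S2166.sq_zero (g : MM) hg2)
  simp only [Fintype.card_sum, Fintype.card_fin] at h
  unfold rk
  omega

theorem rk_pos (g : GG) (hg1 : g ≠ 1) : 1 ≤ rk g := by
  by_contra h
  apply hg1
  have h0 : ((g : MM) - 1).rank = 0 := by unfold rk at h; omega
  have h1 : LinearMap.range (Matrix.mulVecLin ((g : MM) - 1)) = ⊥ := by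
    unfold Matrix.rank at h0
    exact Submodule.finrank_eq_zero.mp h0
  rw [LinearMap.range_eq_bot] at h1
  have h2 : (g : MM) - 1 = 0 := by
    apply Matrix.toLin'.injective
    rw [map_zero]
    exact h1
  apply Subtype.ext
  exact sub_eq_zero.mp h2

theorem rk_even (g : GG) (hg : isAltT g) : Even (rk g) :=
  Cfsg.Agent.S2167.part2 _ hg

end Inv

section Count

/-- the index set of the classes -/
def tgt (m : ℕ) : Finset (ℕ × Bool) :=
  (Finset.Icc 1 m ×ˢ {false}) ∪ ((Finset.Icc 1 m).filter Even ×ˢ {true})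

theorem mem_tgt (m : ℕ) (r : ℕ) (b : Bool) :
    (r, b) ∈ tgt m ↔ (1 ≤ r ∧ r ≤ m) ∧ (b = true → Even r) := by
  unfold tgt
  simp only [Finset.mem_union, Finset.mem_product, Finset.mem_Icc, Finset.mem_singleton,
    Finset.mem_filter]
  cases b <;> simp

theorem card_tgt (m : ℕ) : (tgt m).card = m + m / 2 := by
  unfold tgt
  have hdisj : Disjoint (Finset.Icc 1 m ×ˢ ({false} : Finset Bool))
      ((Finset.Icc 1 m).filter Even ×ˢ ({true} : Finset Bool)) := by
    rw [Finset.disjoint_left]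
    rintro ⟨r, b⟩ h1 h2
    simp only [Finset.mem_product, Finset.mem_singleton] at h1 h2
    rw [h1.2] at h2
    exact Bool.false_ne_true h2.2
  rw [Finset.card_union_of_disjoint hdisj, Finset.card_product, Finset.card_product,
    Finset.card_singleton, Finset.card_singleton, Nat.card_Icc, mul_one, mul_one]
  have h2 : ((Finset.Icc 1 m).filter Even).card = m / 2 := by
    rw [← Nat.Ioc_filter_dvd_card_eq_div m 2]
    congr 1
    ext x
    simp only [Finset.mem_filter, Finset.mem_Icc, Finset.mem_Ioc, even_iff_two_dvd]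
    constructor
    · rintro ⟨⟨h1, h2⟩, h3⟩
      exact ⟨⟨by omega, h2⟩, h3⟩
    · rintro ⟨⟨h1, h2⟩, h3⟩
      exact ⟨⟨by omega, h2⟩, h3⟩
  rw [h2]
  omega

variable {F : Type*} [Field F] [Fintype F] [CharP F 2] {m : ℕ}

local notation "VV" => (Fin m ⊕ Fin m → F)
local notation "MM" => Matrix (Fin m ⊕ Fin m) (Fin m ⊕ Fin m) F
set_option quotPrecheck false in
local notation "GG" => ↥(Matrix.symplecticGroup (Fin m) F)

theorem ne_one_of_order (g : GG) (hg : orderOf g = 2) : g ≠ 1 := by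
  rintro rfl
  rw [orderOf_one] at hg
  omega

theorem order_of_sq (g : GG) (hg2 : (g : MM) * (g : MM) = 1) (hr : 1 ≤ rk g) : orderOf g = 2 := by
  haveI : Fact (Nat.Prime 2) := ⟨Nat.prime_two⟩
  apply orderOf_eq_prime
  · rw [pow_two]
    apply Subtype.ext
    exact hg2
  · rintro rfl
    unfold rk at hr
    have : ((1 : GG) : MM) - 1 = 0 := sub_self _
    rw [this, Matrix.rank_zero] at hr
    omega

end Count

/-- Number of conjugacy classes of involutions in the symplectic group Sp_2m(F) over a finite field of characteristic two (m ≥ 1): for each s with 1 ≤ s ≤ m there is one class with rank(t − 1) = s if s is odd and two if s is even (according as v ↦ f(v, tv), f the symplectic form, vanishes identically or not), so m + ⌊m/2⌋ classes in all. -/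
theorem result {F : Type*} [Field F] [Fintype F] [CharP F 2] {m : ℕ} (hm : 1 ≤ m) : Nat.card {C : ConjClasses ↥(Matrix.symplecticGroup (Fin m) F) // ∃ g : Matrix.symplecticGroup (Fin m) F, ConjClasses.mk g = C ∧ orderOf g = 2} = m + m / 2 := by
  classical
  let rep : {C : ConjClasses ↥(Matrix.symplecticGroup (Fin m) F) // ∃ g : Matrix.symplecticGroup (Fin m) F, ConjClasses.mk g = C ∧ orderOf g = 2} →
      ↥(Matrix.symplecticGroup (Fin m) F) := fun C => C.2.choose
  have hrep1 : ∀ C, ConjClasses.mk (rep C) = C.1 := fun C => C.2.choose_spec.1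
  have hrep2 : ∀ C, orderOf (rep C) = 2 := fun C => C.2.choose_spec.2
  have hφmem : ∀ C, (rk (rep C), decide (isAltT (rep C))) ∈ tgt m := by
    intro C
    rw [mem_tgt]
    have h2 := Cfsg.Agent.S2166.coe_sq (rep C) (hrep2 C)
    refine ⟨⟨rk_pos _ (ne_one_of_order _ (hrep2 C)), rk_le _ h2⟩, ?_⟩
    intro h
    exact rk_even _ (of_decide_eq_true h)
  let ψ : {C : ConjClasses ↥(Matrix.symplecticGroup (Fin m) F) // ∃ g : Matrix.symplecticGroup (Fin m) F, ConjClasses.mk g = C ∧ orderOf g = 2} →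
      {p : ℕ × Bool // p ∈ tgt m} := fun C => ⟨(rk (rep C), decide (isAltT (rep C))), hφmem C⟩
  have hinj : Function.Injective ψ := by
    intro C C' h
    have h' : (rk (rep C), decide (isAltT (rep C))) = (rk (rep C'), decide (isAltT (rep C'))) :=
      congrArg Subtype.val h
    rw [Prod.mk.injEq] at h'
    obtain ⟨h1, h2⟩ := h'
    have h3 : isAltT (rep C) ↔ isAltT (rep C') := by
      constructor
      · intro h
        have := decide_eq_true h
        rw [h2] at this
        exact of_decide_eq_true this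
      · intro h
        have := decide_eq_true h
        rw [← h2] at this
        exact of_decide_eq_true this
    have hc := Cfsg.Agent.S2166.conj_of_invariants (rep C) (rep C')
      (Cfsg.Agent.S2166.coe_sq _ (hrep2 C)) (Cfsg.Agent.S2166.coe_sq _ (hrep2 C')) h1 h3
    apply Subtype.ext
    rw [← hrep1 C, ← hrep1 C']
    exact ConjClasses.mk_eq_mk_iff_isConj.mpr hc
  have hsurj : Function.Surjective ψ := by
    rintro ⟨⟨r, b⟩, hp⟩
    rw [mem_tgt] at hp
    obtain ⟨⟨hr1, hrm⟩, hb⟩ := hp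
    have key : ∃ g : ↥(Matrix.symplecticGroup (Fin m) F),
        ((g : Matrix (Fin m ⊕ Fin m) (Fin m ⊕ Fin m) F) * (g : Matrix (Fin m ⊕ Fin m) (Fin m ⊕ Fin m) F) = 1) ∧
        rk g = r ∧ (isAltT g ↔ b = true) := by
      cases b with
      | false =>
        obtain ⟨g, hg2, hgr, hga⟩ := exists_nonalt (F := F) (m := m) r hr1 hrm
        exact ⟨g, hg2, hgr, ⟨fun h => absurd h hga, fun h => absurd h Bool.false_ne_true⟩⟩
      | true =>
        obtain ⟨k, hk⟩ := hb rfl
        obtain ⟨g, hg2, hgr, hga⟩ := exists_alt (F := F) (m := m) k (by omega) (by omega)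
        exact ⟨g, hg2, by unfold rk; rw [hgr]; omega, ⟨fun _ => rfl, fun _ => hga⟩⟩
    obtain ⟨g, hg2, hgr, hga⟩ := key
    have hord : orderOf g = 2 := order_of_sq g hg2 (by omega)
    refine ⟨⟨ConjClasses.mk g, g, rfl, hord⟩, ?_⟩
    have hconj : IsConj (rep ⟨ConjClasses.mk g, g, rfl, hord⟩) g :=
      ConjClasses.mk_eq_mk_iff_isConj.mp (hrep1 ⟨ConjClasses.mk g, g, rfl, hord⟩)
    apply Subtype.ext
    show (rk (rep ⟨ConjClasses.mk g, g, rfl, hord⟩),
      decide (isAltT (rep ⟨ConjClasses.mk g, g, rfl, hord⟩))) = (r, b)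
    rw [rk_conj hconj, hgr, Prod.mk.injEq]
    refine ⟨rfl, ?_⟩
    rw [isAltT_conj hconj]
    cases b with
    | false =>
      apply decide_eq_false
      intro h
      exact Bool.false_ne_true (hga.mp h)
    | true => exact decide_eq_true (hga.mpr rfl)
  rw [Nat.card_congr (Equiv.ofBijective ψ ⟨hinj, hsurj⟩), Nat.card_eq_fintype_card,
    Fintype.card_coe, card_tgt]

end Cfsg.Agent.S2593
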