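import Cfsg.Statements.S0245
import Cfsg.Agent.Lib.Lead.SympCount
import Mathlib

set_option autoImplicit false
open Cfsg

namespace Cfsg.Agent.S0245

open Finset Cfsg.Agent.Lib.Lead

theorem sum_odd (m : ℕ) : ∑ i ∈ Finset.range m, (2 * (i + 1) - 1) = m ^ 2 := by
  induction m with
  | zero => simp
  | succ k ih =>
    rw [Finset.sum_range_succ, ih]
    have : 2 * (k + 1) - 1 = 2 * k + 1 := by omega
    rw [this]; ring

theorem prod_formula (q m : ℕ) :
    ∏ i ∈ Finset.range m, ((q ^ (2 * (m - i)) - 1) * q ^ (2 * (m - i) - 1)) =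
      q ^ (m ^ 2) * ∏ i ∈ Finset.range m, (q ^ (2 * (i + 1)) - 1) := by
  have h1 : ∏ i ∈ Finset.range m, ((q ^ (2 * (m - i)) - 1) * q ^ (2 * (m - i) - 1)) =
      ∏ i ∈ Finset.range m, ((q ^ (2 * (i + 1)) - 1) * q ^ (2 * (i + 1) - 1)) := by
    rw [← Finset.prod_range_reflect (fun i => (q ^ (2 * (i + 1)) - 1) * q ^ (2 * (i + 1) - 1)) m]
    refine Finset.prod_congr rfl (fun i hi => ?_)
    rw [Finset.mem_range] at hi
    have : m - 1 - i + 1 = m - i := by omega
    rw [this]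
  rw [h1, Finset.prod_mul_distrib, Finset.prod_pow_eq_pow_sum, sum_odd, mul_comm]

/-- Order of the finite symplectic group: |Sp_{2m}(q)| = q^(m^2) * prod_{i=1}^{m} (q^(2i) - 1). -/
theorem result {F : Type*} [Field F] [Fintype F] {q : ℕ} (hF : Fintype.card F = q) (m : ℕ) : Nat.card (Matrix.symplecticGroup (Fin m) F) = q ^ (m ^ 2) * ∏ i ∈ Finset.range m, (q ^ (2 * (i + 1)) - 1) := by
  classical
  rw [card_Sp_eq_prod, hF, prod_formula]

end Cfsg.Agent.S0245
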