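import Cfsg.Statements.S0786
import Cfsg.Agent.Lib.helper6.CartanDieudonne
import Cfsg.Agent.Lib.Helper16.Char2H

set_option autoImplicit false

open Cfsg

namespace Cfsg.Agent.S0786

theorem result {F : Type*} [Field F] [Fintype F] {n : ℕ} (Q : QuadraticForm F (Fin n → F)) (hQ : (QuadraticMap.polarBilin Q).Nondegenerate) (h : Fintype.card F ≠ 2 ∨ n ≠ 4) : Subgroup.closure {g : ↥(Cfsg.isometryGroup F ⇑Q) | ∃ v : Fin n → F, Q v ≠ 0 ∧ ((g : Matrix.GeneralLinearGroup (Fin n) F) : Matrix (Fin n) (Fin n) F) = Cfsg.reflectionMatrix ⇑Q v} = ⊤ := by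
  by_cases h2 : (2 : F) = 0
  · have : CharP F 2 := CharTwo.of_one_ne_zero_of_two_eq_zero one_ne_zero h2
    have h' : Fintype.card F ≠ 2 ∨ Fintype.card (Fin n) ≠ 4 := by
      rw [Fintype.card_fin]; exact h
    exact Cfsg.Agent.Lib.Helper16.C2.generation Q hQ h'
  · exact Cfsg.Agent.Lib.helper6.CD.cartan_dieudonne h2 Q hQ

end Cfsg.Agent.S0786
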