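import Cfsg.Statements.S0794
import Mathlib
import Cfsg.Statements.S0794
import Cfsg.Agent.Lib.helper6.WittQuad
import Cfsg.Agent.Lib.helper6.CartanDieudonne
import Cfsg.Agent.S0793

set_option autoImplicit false
open Cfsg

namespace Cfsg.Agent.S0794

open Matrix Cfsg.Agent.Lib.helper6 Cfsg.Agent.Lib.helper6.CD Cfsg.Agent.Lib.helper6.Witt

variable {F : Type*} [Field F] {n : ℕ}

theorem exists_of_linearEquiv (Q : QuadraticForm F (Fin n → F)) (d : (Fin n → F) ≃ₗ[F] (Fin n → F))
    (hd : ∀ x, Q (d x) = Q x) :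
    ∃ D : ↥(Cfsg.isometryGroup F ⇑Q), ∀ x,
      ((D : Matrix.GeneralLinearGroup (Fin n) F) : Matrix (Fin n) (Fin n) F) *ᵥ x = d x := by
  let M : Matrix (Fin n) (Fin n) F := LinearMap.toMatrix' (d : (Fin n → F) →ₗ[F] (Fin n → F))
  let M' : Matrix (Fin n) (Fin n) F := LinearMap.toMatrix' (d.symm : (Fin n → F) →ₗ[F] (Fin n → F))
  have hMv : ∀ v, M *ᵥ v = d v := fun v => by
    show (LinearMap.toMatrix' _) *ᵥ v = _
    rw [LinearMap.toMatrix'_mulVec]; rfl
  have hM'v : ∀ v, M' *ᵥ v = d.symm v := fun v => by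
    show (LinearMap.toMatrix' _) *ᵥ v = _
    rw [LinearMap.toMatrix'_mulVec]; rfl
  have h1 : M * M' = 1 := by
    rw [Matrix.ext_iff_mulVec]
    intro v
    rw [← Matrix.mulVec_mulVec, hM'v, hMv, LinearEquiv.apply_symm_apply, Matrix.one_mulVec]
  have h2 : M' * M = 1 := by
    rw [Matrix.ext_iff_mulVec]
    intro v
    rw [← Matrix.mulVec_mulVec, hMv, hM'v, LinearEquiv.symm_apply_apply, Matrix.one_mulVec]
  refine ⟨⟨⟨M, M', h1, h2⟩, ?_⟩, hMv⟩
  rw [mem_iso]
  intro x
  show Q (M *ᵥ x) = Q x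
  rw [hMv, hd]

theorem siegel_zero (Q : QuadraticForm F (Fin n → F)) (u v : Fin n → F) :
    Cfsg.siegelMatrix ⇑Q u v 0 = 1 := by
  unfold Cfsg.siegelMatrix
  rw [zero_smul, add_zero]

/-- Siegel transformation as a group element. -/
noncomputable def siegelElt (Q : QuadraticForm F (Fin n → F)) (u v : Fin n → F) (hu : Q u = 0) (hv : Q v = 0)
    (huv : QuadraticMap.polar ⇑Q u v = 0) (c : F) : ↥(Cfsg.isometryGroup F ⇑Q) :=
  ⟨⟨Cfsg.siegelMatrix ⇑Q u v c, Cfsg.siegelMatrix ⇑Q u v (-c),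
    by rw [(Cfsg.Agent.S0793.result Q u v hu hv huv).2.2, add_neg_cancel, siegel_zero],
    by rw [(Cfsg.Agent.S0793.result Q u v hu hv huv).2.2, neg_add_cancel, siegel_zero]⟩,
    (mem_iso Q _).mpr (fun x => (Cfsg.Agent.S0793.result Q u v hu hv huv).1 c x)⟩

theorem siegelElt_coe (Q : QuadraticForm F (Fin n → F)) (u v : Fin n → F) (hu : Q u = 0) (hv : Q v = 0)
    (huv : QuadraticMap.polar ⇑Q u v = 0) (c : F) :
    ((siegelElt Q u v hu hv huv c : Matrix.GeneralLinearGroup (Fin n) F) : Matrix (Fin n) (Fin n) F)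
      = Cfsg.siegelMatrix ⇑Q u v c := rfl

theorem siegelElt_mul (Q : QuadraticForm F (Fin n → F)) (u v : Fin n → F) (hu : Q u = 0) (hv : Q v = 0)
    (huv : QuadraticMap.polar ⇑Q u v = 0) (c d : F) :
    siegelElt Q u v hu hv huv c * siegelElt Q u v hu hv huv d = siegelElt Q u v hu hv huv (c + d) := by
  apply iso_ext
  show Cfsg.siegelMatrix ⇑Q u v c * Cfsg.siegelMatrix ⇑Q u v d = _
  rw [(Cfsg.Agent.S0793.result Q u v hu hv huv).2.2]
  rfl

theorem siegelElt_inv (Q : QuadraticForm F (Fin n → F)) (u v : Fin n → F) (hu : Q u = 0) (hv : Q v = 0)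
    (huv : QuadraticMap.polar ⇑Q u v = 0) (c : F) :
    (siegelElt Q u v hu hv huv c)⁻¹ = siegelElt Q u v hu hv huv (-c) := by
  rw [inv_eq_iff_mul_eq_one, siegelElt_mul, add_neg_cancel]
  apply iso_ext
  show Cfsg.siegelMatrix ⇑Q u v 0 = 1
  exact siegel_zero Q u v

theorem exists_D [FiniteDimensional F (Fin n → F)] (Q : QuadraticForm F (Fin n → F))
    (hQ : (QuadraticMap.polarBilin Q).Nondegenerate)
    (u v : Fin n → F) (hu : Q u = 0) (hv : Q v = 0) (huv : QuadraticMap.polar ⇑Q u v = 0)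
    (hli : LinearIndependent F ![u, v]) :
    ∃ D : ↥(Cfsg.isometryGroup F ⇑Q),
      ((D : Matrix.GeneralLinearGroup (Fin n) F) : Matrix (Fin n) (Fin n) F) *ᵥ u = -u ∧
      ((D : Matrix.GeneralLinearGroup (Fin n) F) : Matrix (Fin n) (Fin n) F) *ᵥ v = v := by
  let b := Module.Basis.span hli
  let w : Fin 2 → Fˣ := ![-1, 1]
  let φ := b.equiv (b.unitsSMul w) (Equiv.refl _)
  have hX0 : ∀ x : Submodule.span F (Set.range ![u, v]), Q (x : Fin n → F) = 0 := by
    intro x
    have hx : (x : Fin n → F) ∈ Submodule.span F {u, v} := by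
      have h0 := x.2
      have hr : Set.range ![u, v] = {u, v} := by
        rw [Matrix.range_cons, Matrix.range_cons, Matrix.range_empty, Set.union_empty]
        rfl
      rw [← hr]
      exact h0
    obtain ⟨a, b', hab⟩ := Submodule.mem_span_pair.mp hx
    rw [← hab, Q_add, QuadraticMap.map_smul, QuadraticMap.map_smul, hu, hv,
      QuadraticMap.polar_smul_left, QuadraticMap.polar_smul_right]
    rw [huv]
    simp
  obtain ⟨d, hd, hdX⟩ := witt_quad Q hQ _ _ φ (fun x => by rw [hX0, hX0])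
  obtain ⟨D, hD⟩ := exists_of_linearEquiv Q d hd
  refine ⟨D, ?_, ?_⟩
  · rw [hD]
    have h1 := hdX (b 0)
    have h2 : ((b 0 : Submodule.span F (Set.range ![u, v])) : Fin n → F) = u := by
      rw [Module.Basis.span_apply]; rfl
    rw [h2] at h1
    rw [h1, Module.Basis.equiv_apply, Equiv.refl_apply, Module.Basis.unitsSMul_apply]
    show ((w 0 : F) • (b 0 : Submodule.span F (Set.range ![u, v])) : Fin n → F) = -u
    rw [h2]
    simp [w]
  · rw [hD]
    have h1 := hdX (b 1)
    have h2 : ((b 1 : Submodule.span F (Set.range ![u, v])) : Fin n → F) = v := by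
      rw [Module.Basis.span_apply]; rfl
    rw [h2] at h1
    rw [h1, Module.Basis.equiv_apply, Equiv.refl_apply, Module.Basis.unitsSMul_apply]
    show ((w 1 : F) • (b 1 : Submodule.span F (Set.range ![u, v])) : Fin n → F) = v
    rw [h2]
    simp [w]

theorem siegel_dep (Q : QuadraticForm F (Fin n → F)) (u v : Fin n → F) (c : F)
    (hli : ¬ LinearIndependent F ![u, v]) : Cfsg.siegelMatrix ⇑Q u v c = 1 := by
  rw [LinearIndependent.pair_iff] at hli
  push Not at hli
  obtain ⟨s, t, hst, hne⟩ := hli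
  rw [Matrix.ext_iff_mulVec]
  intro x
  rw [siegelMatrix_mulVec, Matrix.one_mulVec]
  suffices h : QuadraticMap.polar (⇑Q) u x • v - QuadraticMap.polar (⇑Q) v x • u = 0 by
    rw [h, smul_zero, add_zero]
  by_cases hs : s = 0
  · have ht : t ≠ 0 := hne hs
    have hv0 : v = 0 := by
      rw [hs, zero_smul, zero_add] at hst
      exact (smul_eq_zero.mp hst).resolve_left ht
    rw [hv0]
    simp
  · have hu' : u = (-(s⁻¹ * t)) • v := by
      have : s • u = -(t • v) := eq_neg_of_add_eq_zero_left hst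
      calc u = s⁻¹ • (s • u) := by rw [smul_smul, inv_mul_cancel₀ hs, one_smul]
        _ = (-(s⁻¹ * t)) • v := by rw [this, smul_neg, smul_smul, neg_smul]
    rw [hu', QuadraticMap.polar_smul_left, smul_smul, smul_eq_mul]
    rw [mul_comm, sub_self]

theorem main [Fintype F] (h2 : (2 : F) ≠ 0) (Q : QuadraticForm F (Fin n → F))
    (hQ : (QuadraticMap.polarBilin Q).Nondegenerate) (u v : Fin n → F) (hu : Q u = 0) (hv : Q v = 0)
    (huv : QuadraticMap.polar ⇑Q u v = 0) (c : F) (g : ↥(Cfsg.isometryGroup F ⇑Q))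
    (hg : ((g : Matrix.GeneralLinearGroup (Fin n) F) : Matrix (Fin n) (Fin n) F) = Cfsg.siegelMatrix ⇑Q u v c) :
    g ∈ commutatorSet ↥(Cfsg.isometryGroup F ⇑Q) ∧ g ∈ Cfsg.Omega F ⇑Q := by
  have hcomm : g ∈ commutatorSet ↥(Cfsg.isometryGroup F ⇑Q) := by
    by_cases hli : LinearIndependent F ![u, v]
    · obtain ⟨D, hDu, hDv⟩ := exists_D Q hQ u v hu hv huv hli
      set c' : F := -c / 2 with hc'
      set S := siegelElt Q u v hu hv huv c' with hS
      set S' := siegelElt Q u v hu hv huv (-c') with hS'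
      have hSinv : S⁻¹ = S' := siegelElt_inv Q u v hu hv huv c'
      have hDS : D * S = S' * D := by
        apply iso_ext
        rw [Matrix.ext_iff_mulVec]
        intro x
        rw [mul_mulVec, mul_mulVec, siegelElt_coe, siegelElt_coe, siegelMatrix_mulVec, siegelMatrix_mulVec]
        rw [Matrix.mulVec_add, Matrix.mulVec_smul, Matrix.mulVec_sub, Matrix.mulVec_smul, Matrix.mulVec_smul,
          hDu, hDv]
        have e1 : QuadraticMap.polar (⇑Q) u
            (((D : Matrix.GeneralLinearGroup (Fin n) F) : Matrix (Fin n) (Fin n) F) *ᵥ x)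
            = - QuadraticMap.polar (⇑Q) u x := by
          have := polar_iso Q D u x
          rw [hDu, QuadraticMap.polar_neg_left] at this
          rw [← this, neg_neg]
        have e2 : QuadraticMap.polar (⇑Q) v
            (((D : Matrix.GeneralLinearGroup (Fin n) F) : Matrix (Fin n) (Fin n) F) *ᵥ x)
            = QuadraticMap.polar (⇑Q) v x := by
          have := polar_iso Q D v x
          rw [hDv] at this
          exact this
        rw [e1, e2]
        module
      refine ⟨D, S, ?_⟩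
      rw [commutatorElement_def, hDS, mul_assoc S' D, mul_inv_cancel, mul_one, hSinv, hS', siegelElt_mul]
      apply iso_ext
      rw [siegelElt_coe, hg]
      congr 1
      rw [hc']
      field_simp
      ring
    · have hg1 : g = 1 := by
        apply iso_ext
        rw [hg, siegel_dep Q u v c hli]
        rfl
      rw [hg1]
      exact ⟨1, 1, by simp⟩
  refine ⟨hcomm, ?_⟩
  show g ∈ commutator ↥(Cfsg.isometryGroup F ⇑Q)
  rw [commutator_eq_closure]
  exact Subgroup.subset_closure hcomm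


/-- For q odd, n ≥ 5 and Q with non-degenerate polar form: an isometry whose matrix is a Siegel transformation T_(u,v)(c) (u, v singular and orthogonal) is a commutator in the isometry group, so lies in Ω. -/
theorem result {F : Type*} [Field F] [Fintype F] (h2 : (2 : F) ≠ 0) {n : ℕ} (hn : 5 ≤ n) (Q : QuadraticForm F (Fin n → F)) (hQ : (QuadraticMap.polarBilin Q).Nondegenerate) (u v : Fin n → F) (hu : Q u = 0) (hv : Q v = 0) (huv : QuadraticMap.polar ⇑Q u v = 0) (c : F) (g : ↥(Cfsg.isometryGroup F ⇑Q)) (hg : ((g : Matrix.GeneralLinearGroup (Fin n) F) : Matrix (Fin n) (Fin n) F) = Cfsg.siegelMatrix ⇑Q u v c) : g ∈ commutatorSet ↥(Cfsg.isometryGroup F ⇑Q) ∧ g ∈ Cfsg.Omega F ⇑Q := by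
  exact main h2 Q hQ u v hu hv huv c g hg

end Cfsg.Agent.S0794
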