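import Cfsg.Statements.S0795
import Cfsg.Agent.Lib.Helper28.OGen
import Cfsg.Agent.S0794
import Cfsg.Agent.S0786

set_option autoImplicit false
open Cfsg

namespace Cfsg.Agent.S0795

open Matrix Cfsg.Agent.Lib.helper6 Cfsg.Agent.Lib.helper6.CD Cfsg.Agent.Lib.Helper28.HForm
  Cfsg.Agent.Lib.Helper28.OGen Cfsg.Agent.S0794

variable {F : Type*} [Field F] {n : ℕ}

def pf (Q : QuadraticForm F (Fin n → F)) : (Fin n → F) → (Fin n → F) → F :=
  fun x y => QuadraticMap.polar (⇑Q) x y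

theorem pf_symF (Q : QuadraticForm F (Fin n → F))
    (hQ : (QuadraticMap.polarBilin Q).Nondegenerate) : SymF (pf Q) where
  involutive := fun a => rfl
  add_left := fun x y v => QuadraticMap.polar_add_left Q x y v
  smul_left := fun c x v => by
    show QuadraticMap.polar (⇑Q) (c • x) v = c * QuadraticMap.polar (⇑Q) x v
    rw [QuadraticMap.polar_smul_left, smul_eq_mul]
  herm := fun v w => QuadraticMap.polar_comm Q v w
  nondegenerate := by
    intro v hv
    constructor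
    · by_contra hcon
      push Not at hcon
      exact hv (hQ.2 v (fun x => hcon x))
    · by_contra hcon
      push Not at hcon
      exact hv (hQ.1 v (fun x => hcon x))

theorem pf_self (Q : QuadraticForm F (Fin n → F)) (x : Fin n → F) : pf Q x x = 2 * Q x := by
  show QuadraticMap.polar (⇑Q) x x = 2 * Q x
  rw [QuadraticMap.polar_self]
  simp

def Sset (Q : QuadraticForm F (Fin n → F)) : Set ↥(Cfsg.isometryGroup F ⇑Q) :=
  {g | ∃ (u v : Fin n → F) (c : F), Q u = 0 ∧ Q v = 0 ∧ QuadraticMap.polar ⇑Q u v = 0 ∧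
    ((g : Matrix.GeneralLinearGroup (Fin n) F) : Matrix (Fin n) (Fin n) F)
      = Cfsg.siegelMatrix ⇑Q u v c}

theorem inv_mulVec (Q : QuadraticForm F (Fin n → F)) (h : ↥(Cfsg.isometryGroup F ⇑Q))
    (x : Fin n → F) :
    ((h : Matrix.GeneralLinearGroup (Fin n) F) : Matrix (Fin n) (Fin n) F) *ᵥ
      (((h⁻¹ : ↥(Cfsg.isometryGroup F ⇑Q)) : Matrix.GeneralLinearGroup (Fin n) F) :
        Matrix (Fin n) (Fin n) F) *ᵥ x = x := by
  rw [← mul_mulVec, mul_inv_cancel]
  exact Matrix.one_mulVec x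

theorem conj_siegel (Q : QuadraticForm F (Fin n → F)) (h g : ↥(Cfsg.isometryGroup F ⇑Q))
    (hg : g ∈ Sset Q) : h * g * h⁻¹ ∈ Sset Q := by
  obtain ⟨u, v, c, hu, hv, huv, hgm⟩ := hg
  have hiso := (mem_iso Q h.1).mp h.2
  refine ⟨((h : Matrix.GeneralLinearGroup (Fin n) F) : Matrix (Fin n) (Fin n) F) *ᵥ u,
    ((h : Matrix.GeneralLinearGroup (Fin n) F) : Matrix (Fin n) (Fin n) F) *ᵥ v, c, ?_, ?_, ?_, ?_⟩
  · rw [hiso, hu]
  · rw [hiso, hv]
  · rw [polar_iso, huv]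
  · rw [Matrix.ext_iff_mulVec]
    intro x
    rw [mul_mulVec, mul_mulVec, hgm, siegelMatrix_mulVec, siegelMatrix_mulVec]
    have e1 : ∀ a : Fin n → F, QuadraticMap.polar (⇑Q) a
        ((((h⁻¹ : ↥(Cfsg.isometryGroup F ⇑Q)) : Matrix.GeneralLinearGroup (Fin n) F) :
          Matrix (Fin n) (Fin n) F) *ᵥ x) = QuadraticMap.polar (⇑Q)
        (((h : Matrix.GeneralLinearGroup (Fin n) F) : Matrix (Fin n) (Fin n) F) *ᵥ a) x := by
      intro a
      rw [← polar_iso Q h, inv_mulVec]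
    rw [e1, e1, Matrix.mulVec_add, inv_mulVec, Matrix.mulVec_smul, Matrix.mulVec_sub,
      Matrix.mulVec_smul, Matrix.mulVec_smul]

theorem closure_normal (Q : QuadraticForm F (Fin n → F)) :
    (Subgroup.closure (Sset Q)).Normal := by
  constructor
  intro a ha g
  have h1 : (Subgroup.closure (Sset Q)).map (MulAut.conj g).toMonoidHom
      ≤ Subgroup.closure (Sset Q) := by
    rw [MonoidHom.map_closure]
    apply Subgroup.closure_mono
    rintro _ ⟨b, hb, rfl⟩
    exact conj_siegel Q g b hb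
  exact h1 ⟨a, ha, rfl⟩

def Rel (Q : QuadraticForm F (Fin n → F)) (x y : Fin n → F) : Prop :=
  ∃ g ∈ Subgroup.closure (Sset Q),
    ((g : Matrix.GeneralLinearGroup (Fin n) F) : Matrix (Fin n) (Fin n) F) *ᵥ x = y

theorem rel_refl (Q : QuadraticForm F (Fin n → F)) (x : Fin n → F) : Rel Q x x :=
  ⟨1, Subgroup.one_mem _, Matrix.one_mulVec x⟩

theorem rel_trans (Q : QuadraticForm F (Fin n → F)) (x y z : Fin n → F) (h1 : Rel Q x y)
    (h2 : Rel Q y z) : Rel Q x z := by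
  obtain ⟨g, hg, hgx⟩ := h1
  obtain ⟨k, hk, hky⟩ := h2
  refine ⟨k * g, Subgroup.mul_mem _ hk hg, ?_⟩
  rw [mul_mulVec, hgx, hky]

theorem rel_step (h2 : (2 : F) ≠ 0) (Q : QuadraticForm F (Fin n → F)) (x u w : Fin n → F) (c : F)
    (hu : pf Q u u = 0) (hw : pf Q w w = 0) (huw : pf Q u w = 0) :
    Rel Q x (x + (c * pf Q x u) • w - (c * pf Q x w) • u) := by
  rw [pf_self] at hu hw
  have hu' : Q u = 0 := (mul_eq_zero.1 hu).resolve_left h2
  have hw' : Q w = 0 := (mul_eq_zero.1 hw).resolve_left h2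
  have huw' : QuadraticMap.polar (⇑Q) u w = 0 := huw
  refine ⟨siegelElt Q u w hu' hw' huw' c,
    Subgroup.subset_closure ⟨u, w, c, hu', hw', huw', rfl⟩, ?_⟩
  rw [siegelElt_coe, siegelMatrix_mulVec]
  show _ = x + (c * QuadraticMap.polar (⇑Q) x u) • w - (c * QuadraticMap.polar (⇑Q) x w) • u
  rw [QuadraticMap.polar_comm (⇑Q) x u, QuadraticMap.polar_comm (⇑Q) x w]
  module

theorem trans_S [Fintype F] (h2 : (2 : F) ≠ 0) (hn : 5 ≤ n) (Q : QuadraticForm F (Fin n → F))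
    (hQ : (QuadraticMap.polarBilin Q).Nondegenerate) (x y : Fin n → F) (hx : Q x ≠ 0)
    (hxy : Q y = Q x) : Rel Q x y := by
  apply trans_rel (Rel Q) (pf_symF Q hQ) h2 hn (rel_refl Q) (rel_trans Q)
    (fun x u w c hu hw huw => rel_step h2 Q x u w c hu hw huw)
  · rw [pf_self]
    exact mul_ne_zero h2 hx
  · rw [pf_self, pf_self, hxy]

theorem conj_refl (Q : QuadraticForm F (Fin n → F)) (h r : ↥(Cfsg.isometryGroup F ⇑Q))
    (a : Fin n → F)
    (hr : ((r : Matrix.GeneralLinearGroup (Fin n) F) : Matrix (Fin n) (Fin n) F)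
      = Cfsg.reflectionMatrix ⇑Q a) :
    (((h * r * h⁻¹ : ↥(Cfsg.isometryGroup F ⇑Q)) : Matrix.GeneralLinearGroup (Fin n) F) :
      Matrix (Fin n) (Fin n) F) = Cfsg.reflectionMatrix ⇑Q
        (((h : Matrix.GeneralLinearGroup (Fin n) F) : Matrix (Fin n) (Fin n) F) *ᵥ a) := by
  have hiso := (mem_iso Q h.1).mp h.2
  rw [Matrix.ext_iff_mulVec]
  intro x
  rw [mul_mulVec, mul_mulVec, hr, reflectionMatrix_mulVec, reflectionMatrix_mulVec]
  have e1 : QuadraticMap.polar (⇑Q) a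
      ((((h⁻¹ : ↥(Cfsg.isometryGroup F ⇑Q)) : Matrix.GeneralLinearGroup (Fin n) F) :
        Matrix (Fin n) (Fin n) F) *ᵥ x) = QuadraticMap.polar (⇑Q)
      (((h : Matrix.GeneralLinearGroup (Fin n) F) : Matrix (Fin n) (Fin n) F) *ᵥ a) x := by
    rw [← polar_iso Q h, inv_mulVec]
  rw [hiso, e1, Matrix.mulVec_sub, inv_mulVec, Matrix.mulVec_smul]

theorem comm_mem [Fintype F] (h2 : (2 : F) ≠ 0) (hn : 5 ≤ n) (Q : QuadraticForm F (Fin n → F))
    (hQ : (QuadraticMap.polarBilin Q).Nondegenerate) (h r : ↥(Cfsg.isometryGroup F ⇑Q))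
    (hr : r ∈ Rset Q) : h * r * h⁻¹ * r⁻¹ ∈ Subgroup.closure (Sset Q) := by
  obtain ⟨a, ha, hra⟩ := hr
  have hiso := (mem_iso Q h.1).mp h.2
  obtain ⟨s, hs, hsa⟩ := trans_S h2 hn Q hQ a
    (((h : Matrix.GeneralLinearGroup (Fin n) F) : Matrix (Fin n) (Fin n) F) *ᵥ a) ha (hiso a)
  have e : h * r * h⁻¹ = s * r * s⁻¹ := by
    apply iso_ext
    rw [conj_refl Q h r a hra, conj_refl Q s r a hra, hsa]
  rw [e]
  have h1 := (closure_normal Q).conj_mem s⁻¹ (inv_mem hs) r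
  have e2 : s * r * s⁻¹ * r⁻¹ = s * (r * s⁻¹ * r⁻¹) := by group
  rw [e2]
  exact mul_mem hs h1

theorem omega_le [Fintype F] (h2 : (2 : F) ≠ 0) (hn : 5 ≤ n) (Q : QuadraticForm F (Fin n → F))
    (hQ : (QuadraticMap.polarBilin Q).Nondegenerate) :
    Cfsg.Omega F ⇑Q ≤ Subgroup.closure (Sset Q) := by
  have hN := closure_normal Q
  have hgen : Subgroup.closure (Rset Q) = ⊤ :=
    Cfsg.Agent.S0786.result Q hQ (Or.inr (by omega))
  have hcen : ∀ a : ↥(Cfsg.isometryGroup F ⇑Q),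
      (QuotientGroup.mk' (Subgroup.closure (Sset Q))) a
        ∈ Subgroup.center (↥(Cfsg.isometryGroup F ⇑Q) ⧸ Subgroup.closure (Sset Q)) := by
    have h1 : Subgroup.closure (Rset Q) ≤ (Subgroup.center
        (↥(Cfsg.isometryGroup F ⇑Q) ⧸ Subgroup.closure (Sset Q))).comap
        (QuotientGroup.mk' (Subgroup.closure (Sset Q))) := by
      rw [Subgroup.closure_le]
      intro r hr
      show (QuotientGroup.mk' (Subgroup.closure (Sset Q))) r ∈ Subgroup.center _
      rw [Subgroup.mem_center_iff]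
      intro g
      obtain ⟨k, rfl⟩ := QuotientGroup.mk'_surjective (Subgroup.closure (Sset Q)) g
      rw [← map_mul, ← map_mul]
      show (QuotientGroup.mk (k * r) : ↥(Cfsg.isometryGroup F ⇑Q) ⧸ Subgroup.closure (Sset Q))
        = QuotientGroup.mk (r * k)
      rw [QuotientGroup.eq]
      have h3 := comm_mem h2 hn Q hQ k⁻¹ r hr
      have h4 := hN.conj_mem _ h3 r⁻¹
      have e : (k * r)⁻¹ * (r * k) = r⁻¹ * (k⁻¹ * r * k⁻¹⁻¹ * r⁻¹) * r⁻¹⁻¹ := by group
      rw [e]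
      exact h4
    intro a
    have : a ∈ Subgroup.closure (Rset Q) := by
      rw [hgen]
      exact Subgroup.mem_top a
    exact h1 this
  show commutator _ ≤ _
  rw [commutator_eq_closure, Subgroup.closure_le]
  rintro _ ⟨a, b, rfl⟩
  suffices h7 : a * b * a⁻¹ * b⁻¹ ∈ Subgroup.closure (Sset Q) from h7
  rw [← QuotientGroup.eq_one_iff]
  have h5 := (Subgroup.mem_center_iff.1 (hcen b)) ((QuotientGroup.mk' (Subgroup.closure (Sset Q))) a)
  have h6 : (QuotientGroup.mk (a * b) :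
      ↥(Cfsg.isometryGroup F ⇑Q) ⧸ Subgroup.closure (Sset Q)) = QuotientGroup.mk (b * a) := h5
  rw [QuotientGroup.mk_mul, QuotientGroup.mk_mul, h6, QuotientGroup.mk_mul, QuotientGroup.mk_inv,
    QuotientGroup.mk_inv]
  group

/-- Generation of Ω by root elements: for q odd, n ≥ 5 and Q with non-degenerate polar form on F^n, the commutator subgroup of the isometry group equals the subgroup generated by the isometries whose matrices are Siegel transformations T_(u,v)(c) with u, v singular and orthogonal. -/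
theorem result {F : Type*} [Field F] [Fintype F] (h2 : (2 : F) ≠ 0) {n : ℕ} (hn : 5 ≤ n) (Q : QuadraticForm F (Fin n → F)) (hQ : (QuadraticMap.polarBilin Q).Nondegenerate) : Cfsg.Omega F ⇑Q = Subgroup.closure {g : ↥(Cfsg.isometryGroup F ⇑Q) | ∃ (u v : Fin n → F) (c : F), Q u = 0 ∧ Q v = 0 ∧ QuadraticMap.polar ⇑Q u v = 0 ∧ ((g : Matrix.GeneralLinearGroup (Fin n) F) : Matrix (Fin n) (Fin n) F) = Cfsg.siegelMatrix ⇑Q u v c} := by
  apply le_antisymm
  · exact omega_le h2 hn Q hQ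
  · rw [Subgroup.closure_le]
    rintro g ⟨u, v, c, hu, hv, huv, hg⟩
    exact (Cfsg.Agent.S0794.result h2 hn Q hQ u v hu hv huv c g hg).2

end Cfsg.Agent.S0795
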