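import Cfsg.Statements.S0765
import Cfsg.Agent.Lib.helper6.Symp

set_option autoImplicit false
open Cfsg Cfsg.Agent.Lib.helper6

namespace Cfsg.Agent.S0765

local notation "Vec" m:max F:max => (Fin m ⊕ Fin m → F)
local notation "Mat" m:max F:max => Matrix (Fin m ⊕ Fin m) (Fin m ⊕ Fin m) F

def tgroup {F : Type*} [Field F] (m : ℕ) : Subgroup (Matrix.symplecticGroup (Fin m) F) :=
  Subgroup.closure {A : Matrix.symplecticGroup (Fin m) F | ∃ (w : Fin m ⊕ Fin m → F) (c : F), (A : Matrix (Fin m ⊕ Fin m) (Fin m ⊕ Fin m) F) = Cfsg.sympTransvection m w c}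

theorem mul_mulVec {F : Type*} [Field F] (m : ℕ) (A B : Matrix.symplecticGroup (Fin m) F)
    (x : Fin m ⊕ Fin m → F) :
    ((A * B : Matrix.symplecticGroup (Fin m) F) : Matrix (Fin m ⊕ Fin m) (Fin m ⊕ Fin m) F).mulVec x
      = (A : Matrix (Fin m ⊕ Fin m) (Fin m ⊕ Fin m) F).mulVec
          ((B : Matrix (Fin m ⊕ Fin m) (Fin m ⊕ Fin m) F).mulVec x) := by
  change ((A : Matrix (Fin m ⊕ Fin m) (Fin m ⊕ Fin m) F) * (B : Matrix (Fin m ⊕ Fin m) (Fin m ⊕ Fin m) F)).mulVec x = _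
  rw [← Matrix.mulVec_mulVec]

theorem step {F : Type*} [Field F] (m : ℕ) (x y : Fin m ⊕ Fin m → F)
    (h : Cfsg.sympForm m F x y ≠ 0) :
    ∃ A ∈ tgroup (F := F) m,
      (A : Matrix (Fin m ⊕ Fin m) (Fin m ⊕ Fin m) F).mulVec x = y ∧
      (∀ z, Cfsg.sympForm m F z (y - x) = 0 →
        (A : Matrix (Fin m ⊕ Fin m) (Fin m ⊕ Fin m) F).mulVec z = z) ∧
      ∀ (W : Submodule F (Fin m ⊕ Fin m → F)), y - x ∈ W → ∀ z ∈ W,
        (A : Matrix (Fin m ⊕ Fin m) (Fin m ⊕ Fin m) F).mulVec z ∈ W := by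
  refine ⟨⟨Cfsg.sympTransvection m (y - x) (Cfsg.sympForm m F x y)⁻¹, sympTransvection_mem m _ _⟩,
    Subgroup.subset_closure ⟨_, _, rfl⟩, ?_, ?_, ?_⟩
  · change (Cfsg.sympTransvection m (y - x) (Cfsg.sympForm m F x y)⁻¹).mulVec x = y
    rw [sympTransvection_mulVec, sympForm_sub_right, sympForm_self, sub_zero, inv_mul_cancel₀ h,
      one_smul]
    abel
  · intro z hz
    change (Cfsg.sympTransvection m (y - x) (Cfsg.sympForm m F x y)⁻¹).mulVec z = z
    rw [sympTransvection_mulVec, hz, mul_zero, zero_smul, add_zero]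
  · intro W hW z hz
    change (Cfsg.sympTransvection m (y - x) (Cfsg.sympForm m F x y)⁻¹).mulVec z ∈ W
    rw [sympTransvection_mulVec]
    exact W.add_mem hz (W.smul_mem _ hW)

theorem trans_vec {F : Type*} [Field F] (m : ℕ) (W : Submodule F (Fin m ⊕ Fin m → F))
    (hW : ∀ x ∈ W, x ≠ 0 → ∃ t ∈ W, Cfsg.sympForm m F x t ≠ 0)
    (x y : Fin m ⊕ Fin m → F) (hxW : x ∈ W) (hyW : y ∈ W)
    (hx : x ≠ 0) (hy : y ≠ 0) :
    ∃ A ∈ tgroup (F := F) m,
      (A : Matrix (Fin m ⊕ Fin m) (Fin m ⊕ Fin m) F).mulVec x = y ∧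
      (∀ z, (∀ w ∈ W, Cfsg.sympForm m F z w = 0) →
        (A : Matrix (Fin m ⊕ Fin m) (Fin m ⊕ Fin m) F).mulVec z = z) ∧
      ∀ z ∈ W, (A : Matrix (Fin m ⊕ Fin m) (Fin m ⊕ Fin m) F).mulVec z ∈ W := by
  by_cases hxy : Cfsg.sympForm m F x y = 0
  · have hex : ∃ t ∈ W, Cfsg.sympForm m F x t ≠ 0 ∧ Cfsg.sympForm m F t y ≠ 0 := by
      obtain ⟨x1, hx1W, hx1⟩ := hW x hxW hx
      obtain ⟨x2, hx2W, hx2⟩ := hW y hyW hy
      have hx2' : Cfsg.sympForm m F x2 y ≠ 0 := by
        rw [sympForm_swap]; exact neg_ne_zero.mpr hx2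
      by_cases h1 : Cfsg.sympForm m F x1 y = 0
      · by_cases h2 : Cfsg.sympForm m F x x2 = 0
        · refine ⟨x1 + x2, W.add_mem hx1W hx2W, ?_, ?_⟩
          · rw [sympForm_add_right, h2, add_zero]; exact hx1
          · rw [sympForm_add_left, h1, zero_add]; exact hx2'
        · exact ⟨x2, hx2W, h2, hx2'⟩
      · exact ⟨x1, hx1W, hx1, h1⟩
    obtain ⟨t, htW, ht1, ht2⟩ := hex
    obtain ⟨A, hA, hAx, hAfix, hAW⟩ := step m x t ht1
    obtain ⟨B, hB, hBt, hBfix, hBW⟩ := step m t y ht2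
    refine ⟨B * A, Subgroup.mul_mem _ hB hA, ?_, ?_, ?_⟩
    · rw [mul_mulVec, hAx, hBt]
    · intro z hz
      rw [mul_mulVec, hAfix z (hz _ (W.sub_mem htW hxW)), hBfix z (hz _ (W.sub_mem hyW htW))]
    · intro z hz
      rw [mul_mulVec]
      exact hBW W (W.sub_mem hyW htW) _ (hAW W (W.sub_mem htW hxW) z hz)
  · obtain ⟨A, hA, hAx, hAfix, hAW⟩ := step m x y hxy
    exact ⟨A, hA, hAx, fun z hz => hAfix z (hz _ (W.sub_mem hyW hxW)),
      hAW W (W.sub_mem hyW hxW)⟩

theorem trans_pair {F : Type*} [Field F] (m : ℕ) (W : Submodule F (Fin m ⊕ Fin m → F))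
    (hW : ∀ x ∈ W, x ≠ 0 → ∃ t ∈ W, Cfsg.sympForm m F x t ≠ 0)
    (u v u' v' : Fin m ⊕ Fin m → F) (huW : u ∈ W) (hvW : v ∈ W) (hu'W : u' ∈ W) (hv'W : v' ∈ W)
    (h : Cfsg.sympForm m F u v = 1) (h' : Cfsg.sympForm m F u' v' = 1) :
    ∃ A ∈ tgroup (F := F) m,
      (A : Matrix (Fin m ⊕ Fin m) (Fin m ⊕ Fin m) F).mulVec u = u' ∧
      (A : Matrix (Fin m ⊕ Fin m) (Fin m ⊕ Fin m) F).mulVec v = v' ∧
      ∀ z, (∀ w ∈ W, Cfsg.sympForm m F z w = 0) →
        (A : Matrix (Fin m ⊕ Fin m) (Fin m ⊕ Fin m) F).mulVec z = z := by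
  have hu : u ≠ 0 := by
    rintro rfl
    rw [sympForm_zero_left] at h
    exact zero_ne_one h
  have hu' : u' ≠ 0 := by
    rintro rfl
    rw [sympForm_zero_left] at h'
    exact zero_ne_one h'
  obtain ⟨A, hA, hAu, hAfix, hAW⟩ := trans_vec m W hW u u' huW hu'W hu hu'
  set v'' := (A : Matrix (Fin m ⊕ Fin m) (Fin m ⊕ Fin m) F).mulVec v with hv''
  have hv''W : v'' ∈ W := hAW v hvW
  have hAmem := (mem_symplecticGroup_iff_sympForm m (A : Matrix (Fin m ⊕ Fin m) (Fin m ⊕ Fin m) F)).mp A.2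
  have h'' : Cfsg.sympForm m F u' v'' = 1 := by
    rw [← hAu, hv'', hAmem, h]
  suffices hsuff : ∃ B ∈ tgroup (F := F) m,
      (B : Matrix (Fin m ⊕ Fin m) (Fin m ⊕ Fin m) F).mulVec u' = u' ∧
      (B : Matrix (Fin m ⊕ Fin m) (Fin m ⊕ Fin m) F).mulVec v'' = v' ∧
      ∀ z, (∀ w ∈ W, Cfsg.sympForm m F z w = 0) →
        (B : Matrix (Fin m ⊕ Fin m) (Fin m ⊕ Fin m) F).mulVec z = z by
    obtain ⟨B, hB, hBu, hBv, hBfix⟩ := hsuff
    refine ⟨B * A, Subgroup.mul_mem _ hB hA, ?_, ?_, ?_⟩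
    · rw [mul_mulVec, hAu, hBu]
    · rw [mul_mulVec, ← hv'', hBv]
    · intro z hz
      rw [mul_mulVec, hAfix z hz, hBfix z hz]
  by_cases hvv : Cfsg.sympForm m F v'' v' = 0
  · have e1 : Cfsg.sympForm m F v'' (v'' + u') ≠ 0 := by
      rw [sympForm_add_right, sympForm_self, zero_add, sympForm_swap, h'']
      exact neg_ne_zero.mpr one_ne_zero
    have e2 : Cfsg.sympForm m F (v'' + u') v' ≠ 0 := by
      rw [sympForm_add_left, hvv, zero_add, h']
      exact one_ne_zero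
    obtain ⟨B1, hB1, hB1v, hB1fix, -⟩ := step m v'' (v'' + u') e1
    obtain ⟨B2, hB2, hB2v, hB2fix, -⟩ := step m (v'' + u') v' e2
    have f1 : (B1 : Matrix (Fin m ⊕ Fin m) (Fin m ⊕ Fin m) F).mulVec u' = u' := by
      apply hB1fix
      rw [add_sub_cancel_left, sympForm_self]
    have f2 : (B2 : Matrix (Fin m ⊕ Fin m) (Fin m ⊕ Fin m) F).mulVec u' = u' := by
      apply hB2fix
      rw [sympForm_sub_right, sympForm_add_right, sympForm_self, h', h'']
      ring
    refine ⟨B2 * B1, Subgroup.mul_mem _ hB2 hB1, ?_, ?_, ?_⟩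
    · rw [mul_mulVec, f1, f2]
    · rw [mul_mulVec, hB1v, hB2v]
    · intro z hz
      have g1 : (B1 : Matrix (Fin m ⊕ Fin m) (Fin m ⊕ Fin m) F).mulVec z = z := by
        apply hB1fix
        rw [add_sub_cancel_left]
        exact hz _ hu'W
      have g2 : (B2 : Matrix (Fin m ⊕ Fin m) (Fin m ⊕ Fin m) F).mulVec z = z := by
        apply hB2fix
        exact hz _ (W.sub_mem hv'W (W.add_mem hv''W hu'W))
      rw [mul_mulVec, g1, g2]
  · obtain ⟨B, hB, hBv, hBfix, -⟩ := step m v'' v' hvv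
    refine ⟨B, hB, ?_, hBv, ?_⟩
    · apply hBfix
      rw [sympForm_sub_right, h', h'', sub_self]
    · intro z hz
      exact hBfix z (hz _ (W.sub_mem hv'W hv''W))

def perp {F : Type*} [Field F] (m : ℕ) (U : Submodule F (Fin m ⊕ Fin m → F)) :
    Submodule F (Fin m ⊕ Fin m → F) where
  carrier := {x | ∀ z ∈ U, Cfsg.sympForm m F z x = 0}
  add_mem' := by
    intro a b ha hb z hz
    rw [sympForm_add_right, ha z hz, hb z hz, add_zero]
  zero_mem' := by
    intro z _
    exact sympForm_zero_right m z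
  smul_mem' := by
    intro c a ha z hz
    rw [sympForm_smul_right, ha z hz, mul_zero]

theorem mem_perp {F : Type*} [Field F] (m : ℕ) (U : Submodule F (Fin m ⊕ Fin m → F))
    (x : Fin m ⊕ Fin m → F) : x ∈ perp m U ↔ ∀ z ∈ U, Cfsg.sympForm m F z x = 0 := Iff.rfl

theorem proj_mem {F : Type*} [Field F] (m : ℕ) (U : Submodule F (Fin m ⊕ Fin m → F))
    (x t b : Fin m ⊕ Fin m → F) (hx : x ∈ perp m U) (ht : t ∈ perp m U) (hb : b ∈ perp m U)
    (hxt : Cfsg.sympForm m F x t = 1) :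
    b - Cfsg.sympForm m F b t • x + Cfsg.sympForm m F b x • t
      ∈ perp m (U ⊔ Submodule.span F {x, t}) := by
  have htx : Cfsg.sympForm m F t x = -1 := by rw [sympForm_swap, hxt]
  intro z hz
  obtain ⟨a, ha, w, hw, rfl⟩ := Submodule.mem_sup.mp hz
  obtain ⟨c, d, rfl⟩ := Submodule.mem_span_pair.mp hw
  have h1 : Cfsg.sympForm m F a (b - Cfsg.sympForm m F b t • x + Cfsg.sympForm m F b x • t) = 0 := by
    have : b - Cfsg.sympForm m F b t • x + Cfsg.sympForm m F b x • t ∈ perp m U :=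
      (perp m U).add_mem ((perp m U).sub_mem hb ((perp m U).smul_mem _ hx))
        ((perp m U).smul_mem _ ht)
    exact this a ha
  rw [sympForm_add_left, h1, zero_add]
  simp only [sympForm_add_left, sympForm_add_right, sympForm_sub_right, sympForm_smul_left,
    sympForm_smul_right, sympForm_self, hxt, htx]
  rw [sympForm_swap m b x, sympForm_swap m b t]
  ring

theorem main {F : Type*} [Field F] (m : ℕ) : ∀ (n : ℕ) (U : Submodule F (Fin m ⊕ Fin m → F)),
    2 * m - Module.finrank F U = n →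
    (∀ v : Fin m ⊕ Fin m → F, ∃ a ∈ U, ∃ b ∈ perp m U, v = a + b) →
    (∀ x ∈ perp m U, x ≠ 0 → ∃ t ∈ perp m U, Cfsg.sympForm m F x t ≠ 0) →
    ∀ g : Matrix.symplecticGroup (Fin m) F,
      (∀ z ∈ U, (g : Matrix (Fin m ⊕ Fin m) (Fin m ⊕ Fin m) F).mulVec z = z) →
      g ∈ tgroup (F := F) m := by
  intro n
  induction n using Nat.strong_induction_on with
  | _ n ih =>
  intro U hn hdec hnd g hg
  by_cases hall : ∀ x ∈ perp m U, x = 0
  · have hfix : ∀ v, (g : Matrix (Fin m ⊕ Fin m) (Fin m ⊕ Fin m) F).mulVec v = v := by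
      intro v
      obtain ⟨a, ha, b, hb, rfl⟩ := hdec v
      rw [hall b hb, add_zero]
      exact hg a ha
    have : g = 1 := by
      apply Subtype.ext
      ext i j
      have := congrFun (hfix (Pi.single j 1)) i
      rw [Matrix.mulVec_single_one] at this
      change (g : Matrix (Fin m ⊕ Fin m) (Fin m ⊕ Fin m) F) i j = (1 : Matrix (Fin m ⊕ Fin m) (Fin m ⊕ Fin m) F) i j
      rw [Matrix.one_apply, Pi.single_apply] at *
      simpa [eq_comm] using this
    rw [this]
    exact Subgroup.one_mem _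
  · push Not at hall
    obtain ⟨x, hxW, hx0⟩ := hall
    obtain ⟨t0, ht0W, hxt0⟩ := hnd x hxW hx0
    set t := (Cfsg.sympForm m F x t0)⁻¹ • t0 with ht
    have htW : t ∈ perp m U := (perp m U).smul_mem _ ht0W
    have hxt : Cfsg.sympForm m F x t = 1 := by
      rw [ht, sympForm_smul_right, inv_mul_cancel₀ hxt0]
    have hgmem := (mem_symplecticGroup_iff_sympForm m (g : Matrix (Fin m ⊕ Fin m) (Fin m ⊕ Fin m) F)).mp g.2
    have hgW : ∀ y ∈ perp m U, (g : Matrix (Fin m ⊕ Fin m) (Fin m ⊕ Fin m) F).mulVec y ∈ perp m U := by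
      intro y hy z hz
      rw [← hg z hz, hgmem]
      exact hy z hz
    obtain ⟨h, hh, hhx, hht, hhfix⟩ := trans_pair m (perp m U) hnd
      ((g : Matrix (Fin m ⊕ Fin m) (Fin m ⊕ Fin m) F).mulVec x)
      ((g : Matrix (Fin m ⊕ Fin m) (Fin m ⊕ Fin m) F).mulVec t) x t
      (hgW x hxW) (hgW t htW) hxW htW (by rw [hgmem, hxt]) hxt
    have hhU : ∀ z ∈ U, (h : Matrix (Fin m ⊕ Fin m) (Fin m ⊕ Fin m) F).mulVec z = z := by
      intro z hz
      apply hhfix
      intro w hw
      exact hw z hz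
    set U' := U ⊔ Submodule.span F {x, t} with hU'
    have hxU' : x ∈ U' := Submodule.mem_sup_right (Submodule.subset_span (by simp))
    have htU' : t ∈ U' := Submodule.mem_sup_right (Submodule.subset_span (by simp))
    have hxU : x ∉ U := by
      intro hxU
      have := htW x hxU
      rw [hxt] at this
      exact one_ne_zero this
    have hlt : U < U' := by
      refine lt_of_le_of_ne le_sup_left ?_
      intro heq
      apply hxU
      rw [heq]
      exact hxU'
    have hfr : Module.finrank F U < Module.finrank F U' := Submodule.finrank_lt_finrank_of_lt hlt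
    have hfr' : Module.finrank F U' ≤ 2 * m := by
      have := Submodule.finrank_le U'
      rw [Module.finrank_fintype_fun_eq_card] at this
      simpa [two_mul] using this
    have hperp_le : perp m U' ≤ perp m U := by
      intro y hy z hz
      exact hy z (le_sup_left (a := U) hz)
    have hgh : (h * g) ∈ tgroup (F := F) m := by
      apply ih (2 * m - Module.finrank F U') (by omega) U' rfl
      · intro v
        obtain ⟨a, ha, b, hb, rfl⟩ := hdec v
        refine ⟨a + (Cfsg.sympForm m F b t • x - Cfsg.sympForm m F b x • t), ?_,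
          b - Cfsg.sympForm m F b t • x + Cfsg.sympForm m F b x • t,
          proj_mem m U x t b hxW htW hb hxt, by abel⟩
        exact U'.add_mem (le_sup_left (a := U) ha)
          (U'.sub_mem (U'.smul_mem _ hxU') (U'.smul_mem _ htU'))
      · intro y hy hy0
        obtain ⟨s, hs, hys⟩ := hnd y (hperp_le hy) hy0
        refine ⟨s - Cfsg.sympForm m F s t • x + Cfsg.sympForm m F s x • t,
          proj_mem m U x t s hxW htW hs hxt, ?_⟩
        have h1 : Cfsg.sympForm m F y x = 0 := by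
          rw [sympForm_swap, hy x hxU', neg_zero]
        have h2 : Cfsg.sympForm m F y t = 0 := by
          rw [sympForm_swap, hy t htU', neg_zero]
        simp only [sympForm_add_right, sympForm_sub_right, sympForm_smul_right, h1, h2, mul_zero,
          sub_zero, add_zero]
        exact hys
      · intro z hz
        obtain ⟨a, ha, w, hw, rfl⟩ := Submodule.mem_sup.mp hz
        obtain ⟨c, d, rfl⟩ := Submodule.mem_span_pair.mp hw
        rw [mul_mulVec]
        simp only [Matrix.mulVec_add, Matrix.mulVec_smul]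
        rw [hg a ha, hhU a ha, hhx, hht]
    have : g = h⁻¹ * (h * g) := by group
    rw [this]
    exact Subgroup.mul_mem _ (Subgroup.inv_mem _ hh) hgh

/-- Generation of the symplectic group by symplectic transvections: the subgroup of Sp_2m(F) generated by all matrices of maps x ↦ x + c f(x, w) w is the whole group. -/
theorem result {F : Type*} [Field F] (m : ℕ) : Subgroup.closure {A : Matrix.symplecticGroup (Fin m) F | ∃ (w : Fin m ⊕ Fin m → F) (c : F), (A : Matrix (Fin m ⊕ Fin m) (Fin m ⊕ Fin m) F) = Cfsg.sympTransvection m w c} = ⊤ := by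
  rw [eq_top_iff]
  intro g _
  apply main m (2 * m - Module.finrank F (⊥ : Submodule F (Fin m ⊕ Fin m → F))) ⊥ rfl
  · intro v
    refine ⟨0, Submodule.zero_mem _, v, ?_, by simp⟩
    intro z hz
    rw [(Submodule.mem_bot F).mp hz]
    exact sympForm_zero_left m v
  · intro x _ hx0
    obtain ⟨t, ht⟩ := sympForm_nondeg m x hx0
    refine ⟨t, ?_, ht⟩
    intro z hz
    rw [(Submodule.mem_bot F).mp hz]
    exact sympForm_zero_left m t
  · intro z hz
    rw [(Submodule.mem_bot F).mp hz]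
    exact Matrix.mulVec_zero _

end Cfsg.Agent.S0765
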