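import Mathlib
import Cfsg.Statements.S1018
import Cfsg.Agent.Lib.helper8.SylowBasic
import Cfsg.Agent.Lib.helper8.SylowConj
import Cfsg.Agent.Lib.helper8.SubgroupCard

set_option autoImplicit false
open Cfsg
open Cfsg.Agent.Lib.helper8

namespace Cfsg.Agent.S1018

open MulAction

theorem part_a {G : Type*} [Group G] [Finite G] (p : ℕ) [hp : Fact p.Prime] (P : Sylow p G)
    (hP : Nat.card ↥(P : Subgroup G) = p) (y : G) (hy : orderOf y = p) :
    Nat.card (MulAction.fixedBy (G ⧸ Subgroup.normalizer ((P : Subgroup G) : Set G)) y) = 1 := by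
  have hfact : (Nat.card G).factorization p = 1 := by
    have := P.card_eq_multiplicity
    rw [hP] at this
    have h2 : p ^ 1 = p ^ (Nat.card G).factorization p := by rw [pow_one]; exact this
    exact (Nat.pow_right_injective hp.out.two_le h2).symm
  let Y : Sylow p G := Sylow.ofCard (Subgroup.zpowers y) (by
    rw [Nat.card_zpowers, hy, hfact, pow_one])
  have hY : (Y : Subgroup G) = Subgroup.zpowers y := Sylow.coe_ofCard _ _
  obtain ⟨g0, hg0⟩ := MulAction.exists_smul_eq G P Y
  have hfix : ∀ g : G, (g : G ⧸ Subgroup.normalizer ((P : Subgroup G) : Set G)) ∈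
      MulAction.fixedBy (G ⧸ Subgroup.normalizer ((P : Subgroup G) : Set G)) y ↔
      g⁻¹ * y * g ∈ Subgroup.normalizer ((P : Subgroup G) : Set G) := by
    intro g
    rw [MulAction.mem_fixedBy, MulAction.Quotient.smul_mk, QuotientGroup.eq,
      ← Subgroup.inv_mem_iff]
    simp [mul_assoc]
  rw [Nat.card_eq_one_iff_unique]
  constructor
  · constructor
    rintro ⟨a, ha⟩ ⟨b, hb⟩
    obtain ⟨g, rfl⟩ := QuotientGroup.mk_surjective a
    obtain ⟨g', rfl⟩ := QuotientGroup.mk_surjective b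
    rw [Subtype.mk.injEq]
    have key : ∀ g : G, g⁻¹ * y * g ∈ Subgroup.normalizer ((P : Subgroup G) : Set G) → g • P = Y := by
      intro g hg
      have h1 : orderOf (g⁻¹ * y * g) = p ^ 1 := by
        rw [pow_one, ← hy, h8_orderOf_conj]
      have h2 := h8_mem_sylow_of_mem_normalizer p P _ 1 h1 hg
      have h3 : y ∈ ((g • P : Sylow p G) : Subgroup G) := (h8_mem_smul_sylow p g y P).mpr h2
      symm
      apply h8_sylow_eq_of_le p Y (g • P)
      rw [hY, Subgroup.zpowers_le]
      exact h3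
    have e1 := key g ((hfix g).mp ha)
    have e2 := key g' ((hfix g').mp hb)
    rw [QuotientGroup.eq]
    have e3 : (g⁻¹ * g') • P = P := by
      rw [mul_smul, e2, ← e1, inv_smul_smul]
    exact Sylow.smul_eq_iff_mem_normalizer.mp e3
  · refine ⟨⟨(g0 : G ⧸ Subgroup.normalizer ((P : Subgroup G) : Set G)), ?_⟩⟩
    rw [hfix]
    apply Subgroup.le_normalizer
    rw [← h8_mem_smul_sylow, hg0, hY]
    exact Subgroup.mem_zpowers y

theorem part_b {G : Type*} [Group G] [Finite G] (p : ℕ) [hp : Fact p.Prime] (P : Sylow p G)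
    (hP : Nat.card ↥(P : Subgroup G) = p) (x : G)
    (hxN : x ∈ Subgroup.normalizer ((P : Subgroup G) : Set G))
    (hxC : x ∉ Subgroup.centralizer ((P : Subgroup G) : Set G)) :
    Nat.card (MulAction.fixedBy (G ⧸ Subgroup.normalizer ((P : Subgroup G) : Set G)) x) ≤
      Nat.card (MulAction.orbitRel.Quotient ↥(P : Subgroup G)
        (G ⧸ Subgroup.normalizer ((P : Subgroup G) : Set G))) := by
  have key : ∀ (ω : G ⧸ Subgroup.normalizer ((P : Subgroup G) : Set G)) (u : G), u ∈ (P : Subgroup G) →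
      x • ω = ω → x • (u • ω) = u • ω → u • ω = ω := by
    intro ω u hu h1 h2
    obtain ⟨g, rfl⟩ := QuotientGroup.mk_surjective ω
    have hc : (x⁻¹ * u⁻¹ * x * u) • (g : G ⧸ Subgroup.normalizer ((P : Subgroup G) : Set G)) = g := by
      have h3 : (u⁻¹ * x * u) • (g : G ⧸ Subgroup.normalizer ((P : Subgroup G) : Set G)) = g := by
        rw [mul_smul, mul_smul, h2, inv_smul_smul]
      have e : x⁻¹ * u⁻¹ * x * u = x⁻¹ * (u⁻¹ * x * u) := by group
      rw [e, mul_smul, h3]
      conv_lhs => rw [← h1]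
      rw [inv_smul_smul]
    have hcP : x⁻¹ * u⁻¹ * x * u ∈ (P : Subgroup G) := by
      apply Subgroup.mul_mem _ _ hu
      have hx' : x⁻¹ ∈ Subgroup.normalizer ((P : Subgroup G) : Set G) := Subgroup.inv_mem _ hxN
      have := (Subgroup.mem_normalizer_iff.mp hx' u⁻¹).mp (Subgroup.inv_mem _ hu)
      rwa [inv_inv] at this
    by_cases hc1 : x⁻¹ * u⁻¹ * x * u = 1
    · have hcomm : x * u = u * x := by
        have : x * u = u * x * (x⁻¹ * u⁻¹ * x * u) := by group
        rw [this, hc1, mul_one]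
      by_cases hu1 : u = 1
      · rw [hu1, one_smul]
      · exfalso
        apply hxC
        rw [Subgroup.mem_centralizer_iff]
        intro h hh
        have hz := h8_zpowers_eq_of_prime_card p hp.out (P : Subgroup G) hP u hu hu1
        have hh' : h ∈ Subgroup.zpowers u := by rw [hz]; exact hh
        obtain ⟨k, rfl⟩ := Subgroup.mem_zpowers_iff.mp hh'
        exact ((Commute.zpow_right (show Commute x u from hcomm) k).eq).symm
    · have h3 : g⁻¹ * (x⁻¹ * u⁻¹ * x * u) * g ∈ Subgroup.normalizer ((P : Subgroup G) : Set G) := by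
        rw [MulAction.Quotient.smul_mk, QuotientGroup.eq, ← Subgroup.inv_mem_iff, smul_eq_mul] at hc
        have e : ((x⁻¹ * u⁻¹ * x * u * g)⁻¹ * g)⁻¹ = g⁻¹ * (x⁻¹ * u⁻¹ * x * u) * g := by group
        rwa [e] at hc
      have hz := h8_zpowers_eq_of_prime_card p hp.out (P : Subgroup G) hP _ hcP hc1
      have hord : orderOf (g⁻¹ * (x⁻¹ * u⁻¹ * x * u) * g) = p ^ 1 := by
        rw [h8_orderOf_conj, pow_one, ← hP, ← hz, Nat.card_zpowers]
      have h4 := h8_mem_sylow_of_mem_normalizer p P _ 1 hord h3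
      have hgN : g ∈ Subgroup.normalizer ((P : Subgroup G) : Set G) := by
        apply h8_mem_normalizer_of_conj_le p P g
        intro h hh
        have hh' : h ∈ Subgroup.zpowers (x⁻¹ * u⁻¹ * x * u) := by rw [hz]; exact hh
        obtain ⟨k, rfl⟩ := Subgroup.mem_zpowers_iff.mp hh'
        have e : g⁻¹ * (x⁻¹ * u⁻¹ * x * u) ^ k * g = (g⁻¹ * (x⁻¹ * u⁻¹ * x * u) * g) ^ k := by
          have := conj_zpow (a := g⁻¹) (b := x⁻¹ * u⁻¹ * x * u) (i := k)
          rw [inv_inv] at this
          exact this.symm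
        rw [e]
        exact Subgroup.zpow_mem _ h4 k
      rw [MulAction.Quotient.smul_mk, QuotientGroup.eq, smul_eq_mul]
      have e : (u * g)⁻¹ * g = g⁻¹ * u⁻¹ * g := by group
      rw [e]
      exact Subgroup.mul_mem _ (Subgroup.mul_mem _ (Subgroup.inv_mem _ hgN)
        (Subgroup.le_normalizer (Subgroup.inv_mem _ hu))) hgN
  let f : MulAction.fixedBy (G ⧸ Subgroup.normalizer ((P : Subgroup G) : Set G)) x →
      MulAction.orbitRel.Quotient ↥(P : Subgroup G)
        (G ⧸ Subgroup.normalizer ((P : Subgroup G) : Set G)) := fun ω => Quotient.mk'' ω.1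
  apply Nat.card_le_card_of_injective f
  rintro ⟨ω, hω⟩ ⟨ω', hω'⟩ h
  rw [Subtype.mk.injEq]
  have h1 : ω ∈ MulAction.orbit ↥(P : Subgroup G) ω' := by
    have := Quotient.exact h
    exact this
  obtain ⟨u, hu⟩ := h1
  have hu' : (u : G) • ω' = ω := hu
  rw [MulAction.mem_fixedBy] at hω hω'
  have := key ω' u.1 u.2 hω' (by rw [hu']; exact hω)
  rw [← hu', this]

theorem result {G : Type*} [Group G] [Finite G] (p : ℕ) [Fact p.Prime] (P : Sylow p G) (hP : Nat.card ↥(P : Subgroup G) = p) : (∀ y : G, orderOf y = p → Nat.card (MulAction.fixedBy (G ⧸ Subgroup.normalizer ((P : Subgroup G) : Set G)) y) = 1) ∧ ∀ x : G, x ∈ Subgroup.normalizer ((P : Subgroup G) : Set G) → x ∉ Subgroup.centralizer ((P : Subgroup G) : Set G) → Nat.card (MulAction.fixedBy (G ⧸ Subgroup.normalizer ((P : Subgroup G) : Set G)) x) ≤ Nat.card (MulAction.orbitRel.Quotient ↥(P : Subgroup G) (G ⧸ Subgroup.normalizer ((P : Subgroup G) : Set G))) :=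
  ⟨fun y hy => part_a p P hP y hy, fun x hxN hxC => part_b p P hP x hxN hxC⟩

end Cfsg.Agent.S1018
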