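import Mathlib
import Cfsg.Statements.S1019

set_option autoImplicit false
open Cfsg

namespace Cfsg.Agent.S1019

theorem card_subtype_of_fiber {α β : Type*} [Finite α] [Finite β] (f : α → β) (p : α → Prop)
    (q : β → Prop) (h : ∀ x, p x ↔ q (f x)) (c : ℕ)
    (hc : ∀ y, q y → Nat.card {x // f x = y} = c) :
    Nat.card (Subtype p) = Nat.card (Subtype q) * c := by
  classical
  haveI : Fintype (Subtype q) := Fintype.ofFinite _
  rw [← Nat.card_congr (Equiv.sigmaSubtypeFiberEquivSubtype f h), Nat.card_sigma]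
  rw [Finset.sum_congr rfl (fun y _ => hc y.1 y.2)]
  simp [Nat.card_eq_fintype_card]

theorem fiber_mk {G : Type*} [Group G] [Finite G] (H : Subgroup G) (y : G ⧸ H) :
    Nat.card {g : G // (g : G ⧸ H) = y} = Nat.card H := by
  obtain ⟨g0, rfl⟩ := QuotientGroup.mk_surjective y
  refine Nat.card_congr ?_
  refine ⟨fun g => ⟨g0⁻¹ * g.1, QuotientGroup.eq.mp g.2.symm⟩,
    fun h => ⟨g0 * h.1, ?_⟩, ?_, ?_⟩
  · rw [eq_comm, QuotientGroup.eq]
    simpa using h.2
  · intro g; simp
  · intro h; simp

theorem fiber_conj {G : Type*} [Group G] [Finite G] (x y : G) (hy : IsConj x y) :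
    Nat.card {g : G // g⁻¹ * x * g = y} = Nat.card (Subgroup.centralizer ({x} : Set G)) := by
  obtain ⟨c, hc⟩ := isConj_iff.mp hy
  have h0 : c * x * c⁻¹ = y := hc
  refine Nat.card_congr ?_
  refine ⟨fun g => ⟨g.1 * c, ?_⟩, fun k => ⟨k.1 * c⁻¹, ?_⟩, ?_, ?_⟩
  · rw [Subgroup.mem_centralizer_singleton_iff]
    have h5 : g.1⁻¹ * x * g.1 = c * x * c⁻¹ := g.2.trans h0.symm
    calc g.1 * c * x = g.1 * (c * x * c⁻¹) * c := by group
      _ = g.1 * (g.1⁻¹ * x * g.1) * c := by rw [h5]
      _ = x * (g.1 * c) := by group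
  · have := Subgroup.mem_centralizer_singleton_iff.mp k.2
    calc (k.1 * c⁻¹)⁻¹ * x * (k.1 * c⁻¹) = c * (k.1⁻¹ * (x * k.1)) * c⁻¹ := by group
      _ = c * (k.1⁻¹ * (k.1 * x)) * c⁻¹ := by rw [this]
      _ = c * x * c⁻¹ := by group
      _ = y := h0
  · intro g; simp
  · intro k; simp

theorem result {G : Type*} [Group G] [Finite G] (H : Subgroup G) (x : G) (hx : x ∈ H) : Nat.card (MulAction.fixedBy (G ⧸ H) x) * Nat.card {g : G // IsConj x g} = H.index * Nat.card {g : G // IsConj x g ∧ g ∈ H} := by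
  classical
  have h1 : Nat.card {g : G // g⁻¹ * x * g ∈ H} =
      Nat.card (MulAction.fixedBy (G ⧸ H) x) * Nat.card H := by
    apply card_subtype_of_fiber (fun g : G => (g : G ⧸ H)) (fun g => g⁻¹ * x * g ∈ H)
      (fun y => y ∈ MulAction.fixedBy (G ⧸ H) x)
    · intro g
      rw [MulAction.mem_fixedBy, MulAction.Quotient.smul_mk, QuotientGroup.eq]
      rw [← H.inv_mem_iff]
      simp [mul_assoc]
    · intro y _
      exact fiber_mk H y
  have h2 : Nat.card {g : G // g⁻¹ * x * g ∈ H} =
      Nat.card {g : G // IsConj x g ∧ g ∈ H} * Nat.card (Subgroup.centralizer ({x} : Set G)) := by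
    apply card_subtype_of_fiber (fun g : G => g⁻¹ * x * g) (fun g => g⁻¹ * x * g ∈ H)
      (fun y => IsConj x y ∧ y ∈ H)
    · intro g
      constructor
      · intro h
        refine ⟨isConj_iff.mpr ⟨g⁻¹, by simp⟩, h⟩
      · intro h; exact h.2
    · intro y hy
      exact fiber_conj x y hy.1
  have h3 : Nat.card G =
      Nat.card {g : G // IsConj x g} * Nat.card (Subgroup.centralizer ({x} : Set G)) := by
    have := card_subtype_of_fiber (fun g : G => g⁻¹ * x * g) (fun _ => True)
      (fun y => IsConj x y) (fun g => by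
        simp only [true_iff]
        exact isConj_iff.mpr ⟨g⁻¹, by simp⟩)
      (Nat.card (Subgroup.centralizer ({x} : Set G))) (fun y hy => fiber_conj x y hy)
    rw [← this]
    exact (Nat.card_congr (Equiv.subtypeUnivEquiv (fun _ => trivial))).symm
  have h4 := H.card_mul_index
  have hC : 0 < Nat.card (Subgroup.centralizer ({x} : Set G)) := Nat.card_pos
  have hH : 0 < Nat.card H := Nat.card_pos
  have key : (Nat.card (MulAction.fixedBy (G ⧸ H) x) * Nat.card {g : G // IsConj x g}) *
      (Nat.card H * Nat.card (Subgroup.centralizer ({x} : Set G))) =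
      (H.index * Nat.card {g : G // IsConj x g ∧ g ∈ H}) *
      (Nat.card H * Nat.card (Subgroup.centralizer ({x} : Set G))) := by
    calc (Nat.card (MulAction.fixedBy (G ⧸ H) x) * Nat.card {g : G // IsConj x g}) *
      (Nat.card H * Nat.card (Subgroup.centralizer ({x} : Set G)))
        = (Nat.card (MulAction.fixedBy (G ⧸ H) x) * Nat.card H) *
          (Nat.card {g : G // IsConj x g} * Nat.card (Subgroup.centralizer ({x} : Set G))) := by ring
      _ = (Nat.card {g : G // IsConj x g ∧ g ∈ H} * Nat.card (Subgroup.centralizer ({x} : Set G))) *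
          (Nat.card H * H.index) := by rw [← h1, h2, ← h3, h4]
      _ = _ := by ring
  exact Nat.eq_of_mul_eq_mul_right (Nat.mul_pos hH hC) key

end Cfsg.Agent.S1019
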