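import Mathlib
import Cfsg.Statements.S0856
import Cfsg.Agent.Lib.helper7.CharMul

set_option autoImplicit false
open Cfsg

namespace Cfsg.Agent.S0856

open Cfsg.Agent.Lib.helper7 Cfsg.Agent.Lib.Helper11
open scoped ComplexConjugate

theorem key_counting {ι : Type*} [Fintype ι] [DecidableEq ι] (a : ι → ℕ) (n : ι → ι → ℕ)
    (hdiag : ∀ i, 1 ≤ n i i)
    (hsum : ∑ i, ∑ j, a i * a j * n i j = ∑ i, a i * a i) :
    (∀ i, a i ≠ 0 → n i i = 1) ∧ (∀ i j, i ≠ j → a i ≠ 0 → a j ≠ 0 → n i j = 0) := by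
  have hle : ∀ p ∈ (Finset.univ : Finset (ι × ι)),
      (if p.1 = p.2 then a p.1 * a p.1 else 0) ≤ a p.1 * a p.2 * n p.1 p.2 := by
    intro p _
    split_ifs with h
    · rw [← h]
      exact Nat.le_mul_of_pos_right _ (hdiag p.1)
    · exact Nat.zero_le _
  have hS1 : ∑ p : ι × ι, (if p.1 = p.2 then a p.1 * a p.1 else 0) = ∑ i, a i * a i := by
    rw [Fintype.sum_prod_type]
    apply Finset.sum_congr rfl
    intro i _
    rw [Finset.sum_ite_eq]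
    simp
  have hS2 : ∑ p : ι × ι, a p.1 * a p.2 * n p.1 p.2 = ∑ i, ∑ j, a i * a j * n i j := by
    rw [Fintype.sum_prod_type]
  have heq := (Finset.sum_eq_sum_iff_of_le hle).mp (by rw [hS1, hS2, hsum])
  constructor
  · intro i hi
    have := heq (i, i) (Finset.mem_univ _)
    simp only [if_true] at this
    have hpos : 0 < a i * a i := Nat.mul_pos (Nat.pos_of_ne_zero hi) (Nat.pos_of_ne_zero hi)
    have h2 : a i * a i * 1 = a i * a i * n i i := by rw [mul_one]; exact this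
    exact (Nat.eq_of_mul_eq_mul_left hpos h2).symm
  · intro i j hij hi hj
    have := heq (i, j) (Finset.mem_univ _)
    simp only [if_neg hij] at this
    have hpos : a i * a j ≠ 0 := Nat.mul_ne_zero hi hj
    rcases Nat.mul_eq_zero.mp this.symm with h | h
    · exact absurd h hpos
    · exact h

theorem result {G : Type*} [Group G] [Fintype G] (N : Subgroup G) [hN : N.Normal] (φ ϑ : N → ℂ) (hφ : Cfsg.IsIrrCharacter N φ) (hϑ : Cfsg.IsIrrCharacter N ϑ) (hφinv : ∀ (g : G) (n : N), φ ⟨g * n * g⁻¹, hN.conj_mem (n : G) n.2 g⟩ = φ n) (hϑinv : ∀ (g : G) (n : N), ϑ ⟨g * n * g⁻¹, hN.conj_mem (n : G) n.2 g⟩ = ϑ n) (hprod : Cfsg.IsIrrCharacter N (φ * ϑ)) (χ : G → ℂ) (hχ : Cfsg.IsIrrCharacter G χ) (hext : ∀ n : N, χ n = ϑ n) : Set.BijOn (fun β : G → ℂ => β * χ) {β : G → ℂ | Cfsg.IsIrrCharacter G β ∧ Cfsg.classInner (Cfsg.indFun N φ) β ≠ 0} {ψ : G → ℂ | Cfsg.IsIrrCharacter G ψ ∧ Cfsg.classInner (Cfsg.indFun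 N (φ * ϑ)) ψ ≠ 0} := by
  classical
  have : Fintype N := Fintype.ofFinite _
  have : Fintype (Cfsg.IrrCharacter G) := Fintype.ofFinite _
  have hχc := h7_irr_isCharacter hχ
  have hcl := h7_irr_isClassFunction hχ
  have hϑeq : ϑ = fun n : N => χ n := by
    funext n; exact (hext n).symm
  have hφinv' : ∀ g : G, cj N φ g = φ := fun g => funext (fun n => hφinv g n)
  have hprodinv : ∀ g : G, cj N (φ * ϑ) g = φ * ϑ := by
    intro g
    funext n
    rw [cj_apply, Pi.mul_apply, Pi.mul_apply, hφinv g n, hϑinv g n]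
  have hindφ := Cfsg.Agent.Lib.helper2.isCharacter_indFun N φ (h7_irr_isCharacter hφ)
  obtain ⟨a, ha, hexp⟩ := Cfsg.Agent.Lib.helper2.isCharacter_expansion hindφ
  have hindprod : Cfsg.indFun N (φ * ϑ) = Cfsg.indFun N φ * χ := by
    rw [hϑeq]
    exact h7_indFun_mul_restrict N φ χ hcl
  have hP : ∀ β : Cfsg.IrrCharacter G, Cfsg.IsCharacter G ((β : G → ℂ) * χ) :=
    fun β => h7_isCharacter_mul (Cfsg.Agent.Lib.helper2.isCharacter_of_irr β) hχc
  have hnat : ∀ β γ : Cfsg.IrrCharacter G, ∃ k : ℕ,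
      Cfsg.classInner ((β : G → ℂ) * χ) ((γ : G → ℂ) * χ) = (k : ℂ) :=
    fun β γ => Cfsg.Agent.Lib.helper2.classInner_character_nat (hP β) (hP γ)
  choose n hn using hnat
  have hdiag : ∀ β, 1 ≤ n β β := by
    intro β
    have h1 : ((β : G → ℂ) * χ) 1 ≠ 0 := by
      rw [Pi.mul_apply]
      exact mul_ne_zero (Cfsg.Agent.Lib.Helper25.irr_one_ne_zero β)
        (Cfsg.Agent.Lib.Helper25.irr_one_ne_zero ⟨χ, hχ⟩)
    obtain ⟨k, hk, hk2⟩ := h7_char_norm_pos (hP β) h1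
    rw [hn β β] at hk2
    have : n β β = k := by exact_mod_cast hk2
    omega
  have hexp2 : Cfsg.indFun N (φ * ϑ) =
      ∑ β : Cfsg.IrrCharacter G, (a β : ℂ) • ((β : G → ℂ) * χ) := by
    rw [hindprod]
    conv_lhs => rw [hexp]
    rw [Finset.sum_mul]
    apply Finset.sum_congr rfl
    intro β _
    rw [smul_mul_assoc]
  have hinner_left : ∀ (F : G → ℂ), Cfsg.classInner (Cfsg.indFun N (φ * ϑ)) F =
      ∑ β : Cfsg.IrrCharacter G, (a β : ℂ) * Cfsg.classInner ((β : G → ℂ) * χ) F := by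
    intro F
    rw [hexp2, Cfsg.Agent.Lib.Helper25.classInner_sum_left]
    apply Finset.sum_congr rfl
    intro β _
    rw [Cfsg.Agent.Lib.Helper25.classInner_smul_left]
  have hnorm1 : Cfsg.classInner (Cfsg.indFun N (φ * ϑ)) (Cfsg.indFun N (φ * ϑ)) = (N.index : ℂ) :=
    h7_norm_indFun_invariant N (φ * ϑ) hprod hprodinv
  have hnorm2 : Cfsg.classInner (Cfsg.indFun N φ) (Cfsg.indFun N φ) = (N.index : ℂ) :=
    h7_norm_indFun_invariant N φ hφ hφinv'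
  have hsumA : ((∑ β : Cfsg.IrrCharacter G, a β * a β : ℕ) : ℂ) = (N.index : ℂ) := by
    rw [← hnorm2]
    have hpar := Cfsg.Agent.Lib.Helper25.classInner_parseval (Cfsg.indFun N φ)
      (h7_indFun_isClassFunction N φ)
    rw [hpar]
    push_cast
    apply Finset.sum_congr rfl
    intro β _
    rw [ha β, Complex.conj_natCast]
  have hsumB : ((∑ β : Cfsg.IrrCharacter G, ∑ γ : Cfsg.IrrCharacter G, a β * a γ * n β γ : ℕ) : ℂ) =
      (N.index : ℂ) := by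
    rw [← hnorm1, hinner_left]
    push_cast
    apply Finset.sum_congr rfl
    intro β _
    conv_rhs => rw [hexp2, h7_classInner_sum_right, Finset.mul_sum]
    apply Finset.sum_congr rfl
    intro γ _
    rw [h7_classInner_smul_right, hn β γ, Complex.conj_natCast]
    ring
  have hsum : ∑ β : Cfsg.IrrCharacter G, ∑ γ : Cfsg.IrrCharacter G, a β * a γ * n β γ =
      ∑ β : Cfsg.IrrCharacter G, a β * a β := by
    have : ((∑ β : Cfsg.IrrCharacter G, ∑ γ : Cfsg.IrrCharacter G, a β * a γ * n β γ : ℕ) : ℂ) =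
        ((∑ β : Cfsg.IrrCharacter G, a β * a β : ℕ) : ℂ) := by rw [hsumA, hsumB]
    exact_mod_cast this
  obtain ⟨hk1, hk2⟩ := key_counting a n hdiag hsum
  have hirr : ∀ β : Cfsg.IrrCharacter G, a β ≠ 0 → Cfsg.IsIrrCharacter G ((β : G → ℂ) * χ) := by
    intro β hβ
    apply h7_irr_of_norm_one (hP β)
    rw [hn β β, hk1 β hβ]
    simp
  have haS : ∀ β : Cfsg.IrrCharacter G, Cfsg.classInner (Cfsg.indFun N φ) (β : G → ℂ) ≠ 0 ↔ a β ≠ 0 := by
    intro β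
    rw [ha β]
    exact Nat.cast_ne_zero
  refine ⟨?_, ?_, ?_⟩
  · rintro β ⟨hβ, hβ2⟩
    have hβa : a ⟨β, hβ⟩ ≠ 0 := (haS ⟨β, hβ⟩).mp hβ2
    refine ⟨hirr ⟨β, hβ⟩ hβa, ?_⟩
    change Cfsg.classInner (Cfsg.indFun N (φ * ϑ)) (β * χ) ≠ 0
    rw [hinner_left, Finset.sum_eq_single (⟨β, hβ⟩ : Cfsg.IrrCharacter G)]
    · have := hn ⟨β, hβ⟩ ⟨β, hβ⟩
      simp only at this
      rw [this, hk1 ⟨β, hβ⟩ hβa]
      simpa using hβa
    · intro γ _ hγ
      by_cases hγa : a γ = 0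
      · rw [hγa]; simp
      · have := hn γ ⟨β, hβ⟩
        simp only at this
        rw [this, hk2 γ ⟨β, hβ⟩ hγ hγa hβa]
        simp
    · intro hh
      exact absurd (Finset.mem_univ _) hh
  · rintro β ⟨hβ, hβ2⟩ γ ⟨hγ, hγ2⟩ heq
    simp only at heq
    have hβa : a ⟨β, hβ⟩ ≠ 0 := (haS ⟨β, hβ⟩).mp hβ2
    have hγa : a ⟨γ, hγ⟩ ≠ 0 := (haS ⟨γ, hγ⟩).mp hγ2
    by_contra hne
    have hne' : (⟨β, hβ⟩ : Cfsg.IrrCharacter G) ≠ ⟨γ, hγ⟩ := fun h => hne (congrArg Subtype.val h)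
    have h0 := hk2 ⟨β, hβ⟩ ⟨γ, hγ⟩ hne' hβa hγa
    have h1 := hk1 ⟨β, hβ⟩ hβa
    have e0 := hn ⟨β, hβ⟩ ⟨γ, hγ⟩
    have e1 := hn ⟨β, hβ⟩ ⟨β, hβ⟩
    simp only at e0 e1
    rw [← heq, e1, h0, h1] at e0
    simp at e0
  · rintro ψ ⟨hψ, hψ2⟩
    rw [hinner_left] at hψ2
    obtain ⟨γ, -, hγ⟩ := Finset.exists_ne_zero_of_sum_ne_zero hψ2
    have hγa : a γ ≠ 0 := by
      intro h0
      apply hγ
      rw [h0]; simp
    have hγψ : Cfsg.classInner ((γ : G → ℂ) * χ) ψ ≠ 0 := right_ne_zero_of_mul hγ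
    refine ⟨(γ : G → ℂ), ⟨γ.2, (haS γ).mpr hγa⟩, ?_⟩
    by_contra hne
    exact hγψ (h7_irr_inner_ne (hirr γ hγa) hψ hne)

end Cfsg.Agent.S0856
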