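import Cfsg.Statements.S1364
import Cfsg.Agent.Lib.Helper10.PPairD
import Cfsg.Agent.Lib.Helper10.KStarMF
import Cfsg.Agent.S1366
import Cfsg.Agent.S1437

set_option autoImplicit false
open Cfsg

namespace Cfsg.Agent.S1364

/-- Let G be a minimal simple group of odd order, M a maximal subgroup with standard factorisation M = K U M_σ and K ≠ 1, and put K* = M_σ ∩ C_G(K). Then K* is cyclic, nontrivial and contained in M_F, while M_F itself is not cyclic. -/
theorem result {G : Type*} [Group G] [Finite G] (hG : Cfsg.IsMinSimpleOddOrder G)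
    (M : Subgroup G) (hM : IsCoatom M) (K U : Subgroup G) (hKU : Cfsg.IsSigmaDecomposition M K U) (hK1 : K ≠ ⊥) :
    IsCyclic ↥(Cfsg.sigmaCore M ⊓ Subgroup.centralizer (K : Set G)) ∧ (Cfsg.sigmaCore M ⊓ Subgroup.centralizer (K : Set G)) ≠ ⊥ ∧ (Cfsg.sigmaCore M ⊓ Subgroup.centralizer (K : Set G)) ≤ Cfsg.fittingHallOf M ∧ ¬ IsCyclic (Cfsg.fittingHallOf M) := by
  obtain ⟨Ms, ⟨hMs, hKst, hKstH⟩, -⟩ := Cfsg.Agent.S1366.result hG M hM K U hKU hK1
  have c : Cfsg.Agent.Lib.Helper10.PPair.Pair M Ms K :=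
    ⟨hG, hM, hMs, hKU.hall, hK1, hKst, hKstH⟩
  have hle : Cfsg.sigmaCore M ⊓ Subgroup.centralizer (K : Set G) ≤ Cfsg.fittingHallOf M := by
    by_cases hne : Cfsg.fittingHallOf M = Cfsg.sigmaCore M
    · rw [hne]; exact inf_le_left
    · obtain ⟨-, -, -, hq, hqd, -⟩ := Cfsg.Agent.S1437.result hG M hM K U hKU hne
      exact Cfsg.Agent.Lib.Helper10.KStarMF.kstar_le_of_prime c.hKsM hq hqd
  exact ⟨c.kstar_cyclic, c.hKs1, hle,
    Cfsg.Agent.Lib.Helper10.KStarMF.fittingHall_not_cyclic hG hM hKU.hall hK1 hle⟩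

end Cfsg.Agent.S1364
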