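import Cfsg.Statements.S1359
import Cfsg.Agent.S1412
import Cfsg.Agent.S1414
import Cfsg.Agent.S1416
import Cfsg.Agent.S1417
import Cfsg.Agent.Lib.Helper1.BG12b.PartOne
import Cfsg.Agent.Lib.Helper1.BG12b.Decomp

set_option autoImplicit false
open Cfsg

namespace Cfsg.Agent.S1359

/-- Let G be a minimal simple group of odd order and M a maximal subgroup with standard factorisation M = K U M_σ. Then the subgroup generated by those elements of U which centralize some non-identity element of M_σ is abelian. -/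
theorem result {G : Type*} [Group G] [Finite G] (hG : Cfsg.IsMinSimpleOddOrder G)
    (M : Subgroup G) (hM : IsCoatom M) (K U : Subgroup G) (hKU : Cfsg.IsSigmaDecomposition M K U) :
    IsMulCommutative (Subgroup.closure ((U : Set G) ∩ Cfsg.sigmaHat M)) := by
  have h16 : Cfsg.Agent.Lib.Helper28.BGt.T1416 G :=
    fun M hM p _ A hA => Cfsg.Agent.S1416.result hG M hM p A hA
  have h17 : Cfsg.Agent.Lib.Helper28.BGt.T1417 G :=
    fun M hM p _ hp A hA => Cfsg.Agent.S1417.result hG M hM p hp A hA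
  have nc : Cfsg.Agent.Lib.Helper28.BGt.NC G :=
    fun H hH s hs hsd hsb => ((Cfsg.Agent.S1414.result hG H hH).2.2.2.2 s hs hsd hsb).1
  have h12 : Cfsg.Agent.Lib.Helper28.BGt.T1412 G :=
    fun p _ P hr => Cfsg.Agent.S1412.result hG p P hr
  have c := Cfsg.Agent.Lib.Helper1.BG12b.regCtx_of_decomp hG h16 h17 nc h12 hM hKU
  obtain ⟨A₀, -, -, hA₀, hcent⟩ := Cfsg.Agent.Lib.Helper1.BG12b.part_one c
  have hle : Subgroup.closure ((U : Set G) ∩ Cfsg.sigmaHat M) ≤ A₀ := by
    rw [Subgroup.closure_le]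
    rintro u ⟨huU, -, y, hy, hy1, huy⟩
    apply hcent y hy hy1
    refine ⟨huU, ?_⟩
    show u ∈ Subgroup.centralizer ({y} : Set G)
    rw [Subgroup.mem_centralizer_iff]
    intro z hz
    rw [Set.mem_singleton_iff] at hz
    rw [hz]; exact huy.symm
  refine ⟨⟨?_⟩⟩
  rintro ⟨a, ha⟩ ⟨b, hb⟩
  apply Subtype.ext
  have := hA₀.is_comm.comm ⟨a, hle ha⟩ ⟨b, hle hb⟩
  simpa using congrArg Subtype.val this

end Cfsg.Agent.S1359
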