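import Cfsg.Statements.S1363
import Cfsg.Agent.Lib.Helper1.BG15b.SigG

set_option autoImplicit false
open Cfsg

namespace Cfsg.Agent.S1363

theorem result {G : Type*} [Group G] [Finite G] (hG : Cfsg.IsMinSimpleOddOrder G)
    (M : Subgroup G) (hM : IsCoatom M) (K U : Subgroup G) (hKU : Cfsg.IsSigmaDecomposition M K U) (hK1 : K ≠ ⊥) :
    IsMulCommutative U ∧ ¬ Subgroup.normalizer (U : Set G) ≤ M := by
  refine ⟨Cfsg.Agent.Lib.Helper1.BG14.U_abelian hG hM
    (Cfsg.Agent.Lib.Helper13.BG14.bg14_Hkappa hG hM)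
    (Cfsg.Agent.Lib.Helper13.BG14.bg14_T1312 hG hM) hKU hK1, ?_⟩
  by_cases hU1 : U = ⊥
  · intro h
    apply hM.1
    rw [eq_top_iff]
    refine le_trans ?_ h
    intro g _
    rw [hU1, Subgroup.mem_normalizer_iff]
    intro x
    simp only [Subgroup.mem_bot]
    constructor
    · rintro rfl; group
    · intro hx
      have : x = g⁻¹ * (g * x * g⁻¹) * g := by group
      rw [this, hx]; group
  · exact Cfsg.Agent.Lib.Helper1.BG15b.normalizer_U_not_le hG hM hKU hK1 hU1

end Cfsg.Agent.S1363
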