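import Cfsg.Statements.S1382
import Cfsg.Agent.Lib.Helper10.Sec16J
import Cfsg.Agent.S1355
import Cfsg.Agent.S1356
import Cfsg.Agent.S1357
import Cfsg.Agent.S1363
import Cfsg.Agent.S1364

set_option autoImplicit false
open Cfsg

namespace Cfsg.Agent.S1382

/-- Let G be a minimal simple group of odd order and M a maximal subgroup with standard factorisation M = K U M_σ. Then M is of Type III or of Type IV if and only if K ≠ 1, U = 1 and M_F ≠ M_σ. -/
theorem result {G : Type*} [Group G] [Finite G] (hG : Cfsg.IsMinSimpleOddOrder G)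
    (M : Subgroup G) (hM : IsCoatom M) (K U : Subgroup G) (hKU : Cfsg.IsSigmaDecomposition M K U) :
    (Cfsg.IsOfTypeIII M ∨ Cfsg.IsOfTypeIV M) ↔ (K ≠ ⊥ ∧ U = ⊥ ∧ Cfsg.fittingHallOf M ≠ Cfsg.sigmaCore M) := by
  constructor
  · intro h
    exact Cfsg.Agent.Lib.Helper10.Sec16.of_typeIII_IV hG hM hKU
      (fun hK1 => (Cfsg.Agent.S1363.result hG M hM K U hKU hK1).2) h
  · rintro ⟨hK1, hU, hne⟩
    obtain ⟨-, hTI, hKp⟩ := Cfsg.Agent.S1357.result hG M hM K U hKU hne
    obtain ⟨-, -, hKsF, hFnc⟩ := Cfsg.Agent.S1364.result hG M hM K U hKU hK1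
    exact Cfsg.Agent.Lib.Helper10.Sec16.typeIII_IV_of hG hM hKU hK1 hU hne
      (Cfsg.Agent.S1355.result hG M hM).2.2.2.2 (Cfsg.Agent.S1356.result hG M hM)
      hKsF hFnc hTI hKp

end Cfsg.Agent.S1382
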