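import Mathlib
import Cfsg.Statements.S3897

set_option autoImplicit false
open Cfsg

namespace Cfsg.Agent.S3897

section

variable {G : Type*} [Group G]

def conjAct (P : Subgroup G) : MulAction ↥(Subgroup.normalizer (P : Set G)) ↥P where
  smul n x := ⟨(n : G) * x * (n : G)⁻¹, (Subgroup.mem_normalizer_iff.mp n.2 x).mp x.2⟩
  one_smul x := by
    apply Subtype.ext
    show ((1 : ↥(Subgroup.normalizer (P : Set G))) : G) * x * ((1 : ↥(Subgroup.normalizer (P : Set G))) : G)⁻¹ = x
    simp
  mul_smul a b x := by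
    apply Subtype.ext
    show ((a * b : ↥(Subgroup.normalizer (P : Set G))) : G) * x *
      ((a * b : ↥(Subgroup.normalizer (P : Set G))) : G)⁻¹ = (a : G) * ((b : G) * x * (b : G)⁻¹) * (a : G)⁻¹
    simp [mul_assoc]

theorem conjAct_smul (P : Subgroup G) (n : ↥(Subgroup.normalizer (P : Set G))) (x : ↥P) :
    letI := conjAct P
    ((n • x : ↥P) : G) = (n : G) * x * (n : G)⁻¹ := rfl

theorem p_mul_card_le {Q : Type*} [Group Q] [Finite Q] {p : ℕ} [Fact p.Prime] (hQ : IsPGroup p Q)
    (H : Subgroup Q) (hH : H ≠ ⊤) : p * Nat.card H ≤ Nat.card Q := by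
  have hpp : p.Prime := Fact.out
  obtain ⟨m, hm⟩ := hQ.exists_card_eq
  have h1 : H.index ∣ p ^ m := hm ▸ Subgroup.index_dvd_card H
  obtain ⟨j, _, hj⟩ := (Nat.dvd_prime_pow hpp).mp h1
  have hj0 : j ≠ 0 := by
    rintro rfl
    rw [pow_zero] at hj
    exact hH (Subgroup.index_eq_one.mp hj)
  have h2 : p ∣ H.index := by
    rw [hj]
    exact dvd_pow_self p hj0
  have h3 : p ≤ H.index := Nat.le_of_dvd (Nat.pos_of_ne_zero Subgroup.index_ne_zero_of_finite) h2
  calc p * Nat.card H ≤ H.index * Nat.card H := Nat.mul_le_mul_right _ h3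
    _ = Nat.card Q := by rw [mul_comm, Subgroup.card_mul_index]

theorem pelt_of_mem {p : ℕ} [Fact p.Prime] (P : Sylow p G) (x : G) (hx : x ∈ (P : Subgroup G)) :
    ∃ k : ℕ, orderOf x = p ^ k := by
  obtain ⟨k, hk⟩ := (IsPGroup.iff_orderOf.mp P.2) ⟨x, hx⟩
  refine ⟨k, ?_⟩
  rw [← hk]
  exact (Subgroup.orderOf_mk x hx).symm

theorem class_pelt {p : ℕ} [Fact p.Prime] (P : Sylow p G) (x : G) (hx : x ∈ (P : Subgroup G)) :
    ∀ y ∈ (ConjClasses.mk x).carrier, ∃ k : ℕ, orderOf y = p ^ k := by
  intro y hy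
  have h1 : ConjClasses.mk y = ConjClasses.mk x := ConjClasses.mem_carrier_iff_mk_eq.mp hy
  have h2 : IsConj y x := ConjClasses.mk_eq_mk_iff_isConj.mp h1
  obtain ⟨c, hc⟩ := isConj_iff.mp h2
  obtain ⟨k, hk⟩ := pelt_of_mem P x hx
  refine ⟨k, ?_⟩
  rw [← hk, ← hc]
  exact (orderOf_injective (MulAut.conj c).toMonoidHom (MulAut.conj c).injective y).symm

theorem card_classes_le [Finite G] {p : ℕ} [Fact p.Prime] (P : Sylow p G) :
    letI := conjAct (P : Subgroup G)
    Nat.card {c : ConjClasses G // ∀ x ∈ c.carrier, ∃ k : ℕ, orderOf x = p ^ k} ≤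
      Nat.card (Quotient (MulAction.orbitRel ↥(Subgroup.normalizer ((P : Subgroup G) : Set G))
        ↥(P : Subgroup G))) := by
  letI := conjAct (P : Subgroup G)
  let f : ↥(P : Subgroup G) → {c : ConjClasses G // ∀ x ∈ c.carrier, ∃ k : ℕ, orderOf x = p ^ k} :=
    fun x => ⟨ConjClasses.mk (x : G), class_pelt P x x.2⟩
  have hf : ∀ a b : ↥(P : Subgroup G),
      (MulAction.orbitRel ↥(Subgroup.normalizer ((P : Subgroup G) : Set G)) ↥(P : Subgroup G)).r a b →
        f a = f b := by
    intro a b hab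
    obtain ⟨n, hn⟩ : ∃ n : ↥(Subgroup.normalizer ((P : Subgroup G) : Set G)), n • b = a := hab
    apply Subtype.ext
    show ConjClasses.mk (a : G) = ConjClasses.mk (b : G)
    rw [ConjClasses.mk_eq_mk_iff_isConj, isConj_comm, isConj_iff]
    refine ⟨(n : G), ?_⟩
    rw [← hn]
    rfl
  let F : Quotient (MulAction.orbitRel ↥(Subgroup.normalizer ((P : Subgroup G) : Set G))
      ↥(P : Subgroup G)) → {c : ConjClasses G // ∀ x ∈ c.carrier, ∃ k : ℕ, orderOf x = p ^ k} :=
    Quotient.lift f hf
  apply Nat.card_le_card_of_surjective F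
  rintro ⟨c, hc⟩
  obtain ⟨y, rfl⟩ := ConjClasses.exists_rep c
  obtain ⟨k, hk⟩ := hc y ConjClasses.mem_carrier_mk
  have hzp : IsPGroup p (Subgroup.zpowers y) := by
    apply IsPGroup.of_card (n := k)
    rw [Nat.card_zpowers, hk]
  obtain ⟨Q, hQ⟩ := hzp.exists_le_sylow
  obtain ⟨g, hg⟩ := MulAction.exists_smul_eq G Q P
  have hyQ : y ∈ Q := hQ (Subgroup.mem_zpowers y)
  have hgy : g * y * g⁻¹ ∈ P := by
    rw [← hg]
    exact Subgroup.smul_mem_pointwise_smul y (MulAut.conj g) (Q : Subgroup G) hyQ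
  refine ⟨Quotient.mk _ ⟨g * y * g⁻¹, hgy⟩, ?_⟩
  apply Subtype.ext
  show ConjClasses.mk (g * y * g⁻¹) = ConjClasses.mk y
  rw [ConjClasses.mk_eq_mk_iff_isConj, isConj_comm, isConj_iff]
  exact ⟨g, rfl⟩

theorem arith (p o a c d z idx : ℕ) (hp1 : 1 ≤ p) (hapos : 0 < a) (hsplit : c + d = a)
    (hidx : 2 ≤ idx) (hci : c * idx = a) (hmain : p * (o * a) ≤ c * (p * z) + d * z) :
    2 * p * o ≤ (p + 1) * z := by
  have hcd : c ≤ d := by
    have h2 : c * 2 ≤ c * idx := Nat.mul_le_mul_left c hidx
    omega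
  have hfin : 2 * p * o * a ≤ (p + 1) * z * a := by
    have h1 : c * p * z + d * z ≤ c * z + d * p * z := by
      obtain ⟨e, rfl⟩ : ∃ e, d = c + e := ⟨d - c, by omega⟩
      obtain ⟨q, rfl⟩ : ∃ q, p = q + 1 := ⟨p - 1, by omega⟩
      have : 0 ≤ e * q * z := Nat.zero_le _
      nlinarith
    calc 2 * p * o * a = 2 * (p * (o * a)) := by ring
      _ ≤ 2 * (c * (p * z) + d * z) := Nat.mul_le_mul_left 2 hmain
      _ = (c * p * z + d * z) + (c * p * z + d * z) := by ring
      _ ≤ (c * z + d * p * z) + (c * p * z + d * z) := Nat.add_le_add_right h1 _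
      _ = (p + 1) * z * (c + d) := by ring
      _ = (p + 1) * z * a := by rw [hsplit]
  exact Nat.le_of_mul_le_mul_right hfin hapos

theorem orbit_bound [Finite G] {p : ℕ} [Fact p.Prime] (P : Sylow p G)
    (hne : ¬ Subgroup.normalizer ((P : Subgroup G) : Set G) ≤
      Subgroup.centralizer ((P : Subgroup G) : Set G)) :
    letI := conjAct (P : Subgroup G)
    2 * p * Nat.card (Quotient (MulAction.orbitRel ↥(Subgroup.normalizer ((P : Subgroup G) : Set G))
        ↥(P : Subgroup G))) ≤ (p + 1) * Nat.card ↥(P : Subgroup G) := by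
  classical
  letI := conjAct (P : Subgroup G)
  have hpp : p.Prime := Fact.out
  haveI : Fintype ↥(Subgroup.normalizer ((P : Subgroup G) : Set G)) := Fintype.ofFinite _
  haveI : Fintype ↥(P : Subgroup G) := Fintype.ofFinite _
  haveI : Fintype (Quotient (MulAction.orbitRel ↥(Subgroup.normalizer ((P : Subgroup G) : Set G))
      ↥(P : Subgroup G))) := Fintype.ofFinite _
  have hB := MulAction.sum_card_fixedBy_eq_card_orbits_mul_card_group
    ↥(Subgroup.normalizer ((P : Subgroup G) : Set G)) ↥(P : Subgroup G)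
  have hfix_le : ∀ n : ↥(Subgroup.normalizer ((P : Subgroup G) : Set G)),
      Fintype.card (MulAction.fixedBy ↥(P : Subgroup G) n) ≤ Nat.card ↥(P : Subgroup G) := by
    intro n
    rw [Nat.card_eq_fintype_card]
    exact Fintype.card_subtype_le _
  have hfix_lt : ∀ n : ↥(Subgroup.normalizer ((P : Subgroup G) : Set G)),
      (n : G) ∉ Subgroup.centralizer ((P : Subgroup G) : Set G) →
      p * Fintype.card (MulAction.fixedBy ↥(P : Subgroup G) n) ≤ Nat.card ↥(P : Subgroup G) := by
    intro n hn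
    let H : Subgroup ↥(P : Subgroup G) :=
      (Subgroup.centralizer ({(n : G)} : Set G)).subgroupOf (P : Subgroup G)
    have hHset : (H : Set ↥(P : Subgroup G)) = MulAction.fixedBy ↥(P : Subgroup G) n := by
      ext x
      rw [MulAction.mem_fixedBy]
      constructor
      · intro hx
        have h1 : (x : G) ∈ Subgroup.centralizer ({(n : G)} : Set G) := hx
        rw [Subgroup.mem_centralizer_singleton_iff] at h1
        apply Subtype.ext
        rw [conjAct_smul]
        rw [← h1, mul_inv_cancel_right]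
      · intro hx
        show (x : G) ∈ Subgroup.centralizer ({(n : G)} : Set G)
        rw [Subgroup.mem_centralizer_singleton_iff]
        have h1 := congrArg Subtype.val hx
        rw [conjAct_smul] at h1
        exact (mul_inv_eq_iff_eq_mul.mp h1).symm
    have hHtop : H ≠ ⊤ := by
      intro hH
      apply hn
      rw [Subgroup.mem_centralizer_iff]
      intro x hx
      have h1 : (⟨x, hx⟩ : ↥(P : Subgroup G)) ∈ H := by rw [hH]; trivial
      have h2 : x ∈ Subgroup.centralizer ({(n : G)} : Set G) := h1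
      rw [Subgroup.mem_centralizer_singleton_iff] at h2
      exact h2
    have h3 := p_mul_card_le P.2 H hHtop
    have h4 : Fintype.card (MulAction.fixedBy ↥(P : Subgroup G) n) = Nat.card H := by
      rw [← Nat.card_eq_fintype_card]
      exact (Nat.card_congr (Equiv.setCongr hHset)).symm
    rw [h4]
    exact h3
  let C' : Subgroup ↥(Subgroup.normalizer ((P : Subgroup G) : Set G)) :=
    (Subgroup.centralizer ((P : Subgroup G) : Set G)).subgroupOf
      (Subgroup.normalizer ((P : Subgroup G) : Set G))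
  have hC'top : C' ≠ ⊤ := by
    intro h
    apply hne
    intro n hn
    have h1 : (⟨n, hn⟩ : ↥(Subgroup.normalizer ((P : Subgroup G) : Set G))) ∈ C' := by
      rw [h]; trivial
    exact h1
  have hidx : 2 ≤ C'.index := by
    have h0 : C'.index ≠ 0 := Subgroup.index_ne_zero_of_finite
    have h1 : C'.index ≠ 1 := fun h => hC'top (Subgroup.index_eq_one.mp h)
    omega
  have hcardN : Nat.card C' * C'.index =
      Fintype.card ↥(Subgroup.normalizer ((P : Subgroup G) : Set G)) := by
    rw [Subgroup.card_mul_index, Nat.card_eq_fintype_card]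
  set Cn : Finset ↥(Subgroup.normalizer ((P : Subgroup G) : Set G)) :=
    Finset.univ.filter (fun n => (n : G) ∈ Subgroup.centralizer ((P : Subgroup G) : Set G)) with hCn
  set Dn : Finset ↥(Subgroup.normalizer ((P : Subgroup G) : Set G)) :=
    Finset.univ.filter (fun n => ¬ (n : G) ∈ Subgroup.centralizer ((P : Subgroup G) : Set G)) with hDn
  have hCcard : Nat.card C' = Cn.card := by
    rw [Nat.card_eq_fintype_card, Fintype.card_subtype]
    rfl
  have hsplit : Cn.card + Dn.card =
      Fintype.card ↥(Subgroup.normalizer ((P : Subgroup G) : Set G)) := by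
    rw [hCn, hDn, Finset.card_filter_add_card_filter_not]
    rfl
  have hsum1 : ∑ n ∈ Cn, p * Fintype.card (MulAction.fixedBy ↥(P : Subgroup G) n) ≤
      Cn.card * (p * Nat.card ↥(P : Subgroup G)) := by
    have := Finset.sum_le_card_nsmul Cn
      (fun n => p * Fintype.card (MulAction.fixedBy ↥(P : Subgroup G) n))
      (p * Nat.card ↥(P : Subgroup G)) (fun n _ => Nat.mul_le_mul_left p (hfix_le n))
    simpa using this
  have hsum2 : ∑ n ∈ Dn, p * Fintype.card (MulAction.fixedBy ↥(P : Subgroup G) n) ≤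
      Dn.card * Nat.card ↥(P : Subgroup G) := by
    have := Finset.sum_le_card_nsmul Dn
      (fun n => p * Fintype.card (MulAction.fixedBy ↥(P : Subgroup G) n))
      (Nat.card ↥(P : Subgroup G)) (fun n hn => hfix_lt n (Finset.mem_filter.mp hn).2)
    simpa using this
  have htot : p * ∑ n : ↥(Subgroup.normalizer ((P : Subgroup G) : Set G)),
      Fintype.card (MulAction.fixedBy ↥(P : Subgroup G) n) =
      ∑ n ∈ Cn, p * Fintype.card (MulAction.fixedBy ↥(P : Subgroup G) n) +
      ∑ n ∈ Dn, p * Fintype.card (MulAction.fixedBy ↥(P : Subgroup G) n) := by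
    rw [Finset.mul_sum, hCn, hDn, Finset.sum_filter_add_sum_filter_not]
  rw [hB] at htot
  rw [Nat.card_eq_fintype_card (α := Quotient (MulAction.orbitRel
    ↥(Subgroup.normalizer ((P : Subgroup G) : Set G)) ↥(P : Subgroup G)))]
  have hmain : p * (Fintype.card (Quotient (MulAction.orbitRel
      ↥(Subgroup.normalizer ((P : Subgroup G) : Set G)) ↥(P : Subgroup G))) *
      Fintype.card ↥(Subgroup.normalizer ((P : Subgroup G) : Set G))) ≤
      Cn.card * (p * Nat.card ↥(P : Subgroup G)) + Dn.card * Nat.card ↥(P : Subgroup G) := by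
    rw [htot]
    exact Nat.add_le_add hsum1 hsum2
  exact arith p _ _ Cn.card Dn.card _ C'.index hpp.one_lt.le Fintype.card_pos hsplit hidx
    (by rw [← hCcard]; exact hcardN) hmain

end

theorem result {G : Type*} [Group G] [Finite G] {p : ℕ} [Fact p.Prime] (hp : p ≠ 2) (P : Sylow p G) :
    (p + 1) * Nat.card ↥(P : Subgroup G) < 2 * p * Nat.card {c : ConjClasses G // ∀ x ∈ c.carrier, ∃ k : ℕ, orderOf x = p ^ k} ↔
      Cfsg.HasNormalPComplement p G ∧ IsMulCommutative ↥(P : Subgroup G) := by
  have hpp : p.Prime := Fact.out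
  constructor
  · intro h
    have hP : Subgroup.normalizer ((P : Subgroup G) : Set G) ≤
        Subgroup.centralizer ((P : Subgroup G) : Set G) := by
      by_contra hne
      have h1 := orbit_bound P hne
      have h2 := card_classes_le P
      have h3 := Nat.mul_le_mul_left (2 * p) h2
      omega
    refine ⟨⟨P, (MonoidHom.transferSylow P hP).ker, inferInstance, ?_⟩, ?_⟩
    · exact MonoidHom.ker_transferSylow_isComplement' P hP
    · exact ⟨⟨fun a b => Subtype.ext (hP (Subgroup.le_normalizer b.2) a a.2)⟩⟩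
  · rintro ⟨⟨P', N, hNn, hc⟩, hab⟩
    haveI := hNn
    have hcard : Nat.card N * Nat.card (P' : Subgroup G) = Nat.card G := hc.card_mul
    have hPP' : Nat.card (P : Subgroup G) = Nat.card (P' : Subgroup G) := by
      rw [Sylow.card_eq_multiplicity, Sylow.card_eq_multiplicity]
    have hNidx : Nat.card N = (P' : Subgroup G).index := by
      have h1 := Subgroup.card_mul_index (P' : Subgroup G)
      have h2 : 0 < Nat.card (P' : Subgroup G) := Nat.card_pos
      have h3 : Nat.card N * Nat.card (P' : Subgroup G) =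
          (P' : Subgroup G).index * Nat.card (P' : Subgroup G) := by
        rw [hcard, ← h1, mul_comm]
      exact Nat.eq_of_mul_eq_mul_right h2 h3
    have hcop : (Nat.card N).Coprime (Nat.card (P : Subgroup G)) := by
      rw [Sylow.card_eq_multiplicity, hNidx]
      apply Nat.Coprime.pow_right
      exact ((Nat.Prime.coprime_iff_not_dvd hpp).mpr P'.not_dvd_index).symm
    have hdisj : N ⊓ (P : Subgroup G) = ⊥ := Subgroup.inf_eq_bot_of_coprime hcop
    have hc2 : Subgroup.IsComplement' N (P : Subgroup G) :=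
      Subgroup.isComplement'_of_coprime (by rw [hPP']; exact hcard) hcop
    have hsup : N ⊔ (P : Subgroup G) = ⊤ := hc2.sup_eq_top
    let f : ↥(P : Subgroup G) →
        {c : ConjClasses G // ∀ x ∈ c.carrier, ∃ k : ℕ, orderOf x = p ^ k} :=
      fun x => ⟨ConjClasses.mk (x : G), class_pelt P x x.2⟩
    have hinj : Function.Injective f := by
      intro x y hxy
      have h1 : ConjClasses.mk (x : G) = ConjClasses.mk (y : G) := congrArg Subtype.val hxy
      obtain ⟨g, hg⟩ := isConj_iff.mp (ConjClasses.mk_eq_mk_iff_isConj.mp h1)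
      have hgs : g ∈ N ⊔ (P : Subgroup G) := by rw [hsup]; trivial
      obtain ⟨n, hn, u, hu, rfl⟩ := Subgroup.mem_sup_of_normal_left.mp hgs
      have hux : u * (x : G) * u⁻¹ = x := by
        have h2 : (⟨u, hu⟩ : ↥(P : Subgroup G)) * x = x * ⟨u, hu⟩ := hab.is_comm.comm _ _
        have h3 : u * (x : G) = x * u := congrArg Subtype.val h2
        rw [h3, mul_inv_cancel_right]
      have hy : (y : G) = n * x * n⁻¹ := by
        rw [← hg, mul_inv_rev]
        calc n * u * ↑x * (u⁻¹ * n⁻¹) = n * (u * ↑x * u⁻¹) * n⁻¹ := by group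
          _ = n * x * n⁻¹ := by rw [hux]
      have hmem : (y : G) * (x : G)⁻¹ ∈ N ⊓ (P : Subgroup G) := by
        apply Subgroup.mem_inf.mpr
        constructor
        · rw [hy]
          have h4 : n * (x : G) * n⁻¹ * (x : G)⁻¹ = n * ((x : G) * n⁻¹ * (x : G)⁻¹) := by group
          rw [h4]
          exact N.mul_mem hn (hNn.conj_mem _ (N.inv_mem hn) _)
        · exact (P : Subgroup G).mul_mem y.2 ((P : Subgroup G).inv_mem x.2)
      rw [hdisj, Subgroup.mem_bot] at hmem
      apply Subtype.ext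
      exact (mul_inv_eq_one.mp hmem).symm
    have h5 := Nat.card_le_card_of_injective f hinj
    have h6 : 0 < Nat.card (P : Subgroup G) := Nat.card_pos
    have h7 : 2 ≤ p := hpp.two_le
    calc (p + 1) * Nat.card ↥(P : Subgroup G) < 2 * p * Nat.card ↥(P : Subgroup G) := by
          apply Nat.mul_lt_mul_of_pos_right _ h6
          omega
      _ ≤ 2 * p * Nat.card {c : ConjClasses G // ∀ x ∈ c.carrier, ∃ k : ℕ, orderOf x = p ^ k} :=
          Nat.mul_le_mul_left _ h5

end Cfsg.Agent.S3897
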