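import Cfsg.Statements.S3899
import Cfsg.Agent.S3897
import Cfsg.Agent.Lib.Helper1.PiClasses

set_option autoImplicit false
open Cfsg

namespace Cfsg.Agent.S3899

open Cfsg.Agent.Lib.Helper1.PiClasses

theorem inf_normal_index {G : Type*} [Group G] (s : Finset ℕ) (K : ℕ → Subgroup G)
    (hK : ∀ r ∈ s, (K r).Normal) :
    (s.inf K).Normal ∧ (s.inf K).index ∣ ∏ r ∈ s, (K r).index := by
  induction s using Finset.induction_on with
  | empty =>
    rw [Finset.inf_empty]
    exact ⟨inferInstance, by simp⟩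
  | insert a s ha ih =>
    have h1 := ih (fun r hr => hK r (Finset.mem_insert_of_mem hr))
    haveI := h1.1
    haveI := hK a (Finset.mem_insert_self a s)
    rw [Finset.inf_insert, Finset.prod_insert ha]
    refine ⟨inferInstance, ?_⟩
    have h2 : (K a ⊓ s.inf K).index = (s.inf K).relIndex (K a) * (K a).index := by
      rw [← Subgroup.relIndex_mul_index (inf_le_left : K a ⊓ s.inf K ≤ K a),
        Subgroup.inf_relIndex_left]
    rw [h2, mul_comm]
    exact Nat.mul_dvd_mul (dvd_refl _)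
      ((Subgroup.relIndex_dvd_index_of_normal (s.inf K) (K a)).trans h1.2)

theorem exists_complement {G : Type*} [Group G] [Finite G] (r : ℕ) (hr : r.Prime) (hr2 : r ≠ 2)
    (h : (r + 1) * r ^ (Nat.card G).factorization r < 2 * r * kk {r} G) :
    ∃ N : Subgroup G, N.Normal ∧ ¬ r ∣ Nat.card N ∧
      N.index = r ^ (Nat.card G).factorization r ∧ ∀ a b : G, a * b * a⁻¹ * b⁻¹ ∈ N := by
  haveI : Fact r.Prime := ⟨hr⟩
  rw [kk_single_eq r hr G] at h
  obtain ⟨P0⟩ : Nonempty (Sylow r G) := inferInstance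
  have h0 : (r + 1) * Nat.card (P0 : Subgroup G) <
      2 * r * Nat.card {c : ConjClasses G // ∀ x ∈ c.carrier, ∃ k : ℕ, orderOf x = r ^ k} := by
    rw [Sylow.card_eq_multiplicity P0]
    exact h
  obtain ⟨⟨P, N, hN, hc⟩, -⟩ := (Cfsg.Agent.S3897.result hr2 P0).mp h0
  have h1 : (r + 1) * Nat.card (P : Subgroup G) <
      2 * r * Nat.card {c : ConjClasses G // ∀ x ∈ c.carrier, ∃ k : ℕ, orderOf x = r ^ k} := by
    rw [Sylow.card_eq_multiplicity P]
    exact h
  obtain ⟨-, hab⟩ := (Cfsg.Agent.S3897.result hr2 P).mp h1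
  refine ⟨N, hN, ?_, ?_, ?_⟩
  · rw [← hc.index_eq_card]
    exact P.not_dvd_index
  · rw [hc.symm.index_eq_card, Sylow.card_eq_multiplicity]
  · intro a b
    have key : ∀ a : G, ∃ q ∈ (P : Subgroup G),
        (QuotientGroup.mk' N) a = (QuotientGroup.mk' N) q := by
      intro a
      obtain ⟨⟨⟨n, hn⟩, ⟨q, hq⟩⟩, hx, -⟩ := hc.existsUnique a
      refine ⟨q, hq, ?_⟩
      have hx' : n * q = a := hx
      rw [← hx', map_mul]
      have h3 : (QuotientGroup.mk' N) n = 1 := (QuotientGroup.eq_one_iff n).mpr hn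
      rw [h3, one_mul]
    obtain ⟨qa, hqa, ha⟩ := key a
    obtain ⟨qb, hqb, hb⟩ := key b
    have hcomm : qa * qb = qb * qa := by
      have h4 : (⟨qa, hqa⟩ : ↥(P : Subgroup G)) * ⟨qb, hqb⟩ = ⟨qb, hqb⟩ * ⟨qa, hqa⟩ :=
        hab.is_comm.comm _ _
      exact congrArg Subtype.val h4
    have h5 : (QuotientGroup.mk' N) (a * b * a⁻¹ * b⁻¹) = 1 := by
      rw [map_mul, map_mul, map_mul, map_inv, map_inv, ha, hb, ← map_inv, ← map_inv,
        ← map_mul, ← map_mul, ← map_mul]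
      have h6 : qa * qb * qa⁻¹ * qb⁻¹ = 1 := by
        rw [hcomm]
        group
      rw [h6, map_one]
    exact (QuotientGroup.eq_one_iff _).mp h5

/-- Let π be a finite non-empty set of odd primes with smallest member p and G a finite group. Write k_π(G) for the number of conjugacy classes of G consisting of π-elements (elements all of whose order's prime divisors lie in π) and |G|_π for the π-part of the order of G. If k_π(G) > (p + 1)|G|_π/(2p), then G has a normal π-complement (a normal subgroup of order prime to π whose index is a π-number) and an abelian Hall π-subgroup. -/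
theorem result {G : Type*} [Group G] [Finite G] (π : Finset ℕ) (hπ : ∀ r ∈ π, r.Prime) (h2 : 2 ∉ π) (p : ℕ) (hp : p ∈ π)
    (hmin : ∀ r ∈ π, p ≤ r) (hk : (p + 1) * π.prod (fun r => r ^ (Nat.card G).factorization r) < 2 * p * Nat.card {c : ConjClasses G // ∀ x ∈ c.carrier, ∀ r : ℕ, r.Prime → r ∣ orderOf x → r ∈ π}) :
    (∃ N : Subgroup G, N.Normal ∧ (∀ r : ℕ, r.Prime → r ∣ Nat.card ↥N → r ∉ π) ∧ ∀ r : ℕ, r.Prime → r ∣ N.index → r ∈ π) ∧ ∃ H : Subgroup G, Cfsg.IsPiHall (↑π : Set ℕ) H ∧ IsMulCommutative ↥H := by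
  have hk' : (p + 1) * part π (Nat.card G) < 2 * p * kk π G := hk
  have hex : ∀ r ∈ π, ∃ N : Subgroup G, N.Normal ∧ ¬ r ∣ Nat.card N ∧
      N.index = r ^ (Nat.card G).factorization r ∧ ∀ a b : G, a * b * a⁻¹ * b⁻¹ ∈ N := by
    intro r hr
    have hr2 : r ≠ 2 := fun h => h2 (h ▸ hr)
    exact exists_complement r (hπ r hr) hr2 (single_ineq π hπ p hp hmin G hk' r hr)
  choose! K hK using hex
  obtain ⟨hNn, hNi⟩ := inf_normal_index π K (fun r hr => (hK r hr).1)
  set N := π.inf K with hNdef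
  have hNle : ∀ r ∈ π, N ≤ K r := fun r hr => Finset.inf_le hr
  have hN1 : ∀ r : ℕ, r.Prime → r ∣ Nat.card ↥N → r ∉ π := by
    intro r _ hd hr
    exact (hK r hr).2.1 (hd.trans (Subgroup.card_dvd_of_le (hNle r hr)))
  have hN2 : ∀ r : ℕ, r.Prime → r ∣ N.index → r ∈ π := by
    intro r hr hd
    have h3 : r ∣ ∏ q ∈ π, (K q).index := hd.trans hNi
    obtain ⟨q, hq, hrq⟩ := (Prime.dvd_finset_prod_iff hr.prime _).mp h3
    rw [(hK q hq).2.2.1] at hrq
    have h4 : r ∣ q := hr.dvd_of_dvd_pow hrq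
    rw [(Nat.prime_dvd_prime_iff_eq hr (hπ q hq)).mp h4]
    exact hq
  have hNc : ∀ a b : G, a * b * a⁻¹ * b⁻¹ ∈ N := by
    intro a b
    rw [hNdef, Finset.inf_eq_iInf]
    simp only [Subgroup.mem_iInf]
    intro r hr
    exact (hK r hr).2.2.2 a b
  refine ⟨⟨N, hNn, hN1, hN2⟩, ?_⟩
  have hcop : Nat.Coprime (Nat.card N) N.index := by
    by_contra hne
    obtain ⟨q, hq, hq1, hq2⟩ := Nat.Prime.not_coprime_iff_dvd.mp hne
    exact hN1 q hq hq1 (hN2 q hq hq2)
  haveI := hNn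
  obtain ⟨H, hH⟩ := Subgroup.exists_right_complement'_of_coprime hcop
  refine ⟨H, ⟨?_, ?_⟩, ?_⟩
  · intro q hq hd
    rw [← hH.symm.index_eq_card] at hd
    exact hN2 q hq hd
  · intro q hq hqπ hd
    rw [hH.index_eq_card] at hd
    exact hN1 q hq hd hqπ
  · refine ⟨⟨fun a b => ?_⟩⟩
    have h3 : (a : G) * b * (a : G)⁻¹ * (b : G)⁻¹ ∈ N := hNc a b
    have h4 : (a : G) * b * (a : G)⁻¹ * (b : G)⁻¹ ∈ H :=
      H.mul_mem (H.mul_mem (H.mul_mem a.2 b.2) (H.inv_mem a.2)) (H.inv_mem b.2)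
    have h5 : (a : G) * b * (a : G)⁻¹ * (b : G)⁻¹ = 1 := by
      have h6 := hH.disjoint
      rw [Subgroup.disjoint_def] at h6
      exact h6 h3 h4
    apply Subtype.ext
    show (a : G) * b = b * a
    calc (a : G) * b = ((a : G) * b * (a : G)⁻¹ * (b : G)⁻¹) * (b * a) := by group
      _ = b * a := by rw [h5, one_mul]

end Cfsg.Agent.S3899
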