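import Cfsg.Statements.S0208
import Mathlib
import Cfsg.Agent.Lib.helper2.Dihedral

set_option autoImplicit false
open Cfsg

namespace Cfsg.Agent.S0208

open Cfsg.Agent.Lib.helper2



/-- If x, y are involutions and xy has odd order, then some element of the subgroup generated by x and y conjugates x to y. -/
theorem result {G : Type*} [Group G] [Finite G] (x y : G) (hx : orderOf x = 2) (hy : orderOf y = 2) (hodd : Odd (orderOf (x * y))) : ∃ d ∈ Subgroup.closure ({x, y} : Set G), d * x * d⁻¹ = y := by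
  have hx' := Dih.mul_self_of_orderOf hx
  have hy' := Dih.mul_self_of_orderOf hy
  obtain ⟨m, hm⟩ := hodd
  refine ⟨(x * y) ^ (m : ℤ), Subgroup.zpow_mem _ (Dih.rot_mem_closure x y) _, ?_⟩
  rw [Dih.conj_zpow_x hx' hy']
  refine Eq.trans ?_ (Dih.y_eq' hx' hy' (x := x) (y := y)).symm
  congr 1
  have h1 : (x * y) ^ ((2 * m + 1 : ℕ) : ℤ) = 1 := by
    rw [zpow_natCast, ← hm, pow_orderOf_eq_one]
  have h2 : (2 * (m : ℤ)) = ((2 * m + 1 : ℕ) : ℤ) + (-1) := by push_cast; ring
  rw [h2, zpow_add, h1, one_mul]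

end Cfsg.Agent.S0208
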