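import Mathlib
import Cfsg.Statements.S0943
import Cfsg.Agent.Lib.Helper25.CharOrth

set_option autoImplicit false
open Cfsg

namespace Cfsg.Agent.S0943

open Cfsg.Agent.Lib.Helper25

theorem result {G : Type*} [Group G] [Finite G] (χ : Cfsg.IrrCharacter G) (u v : G) (hc : ∀ x y : G, IsConj u x → IsConj v y → (χ : G → ℂ) (x * y) = (χ : G → ℂ) (u * v)) : (χ : G → ℂ) u * (χ : G → ℂ) v = (χ : G → ℂ) 1 * (χ : G → ℂ) (u * v) := by
  classical
  have := Fintype.ofFinite G
  have h1 := irr_sum_conj_conj χ u v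
  have h2 : ∀ a b : G, (χ : G → ℂ) (a * u * a⁻¹ * (b * v * b⁻¹)) = (χ : G → ℂ) (u * v) := by
    intro a b
    exact hc _ _ (isConj_iff.mpr ⟨a, rfl⟩) (isConj_iff.mpr ⟨b, rfl⟩)
  simp only [h2, Finset.sum_const, Finset.card_univ, nsmul_eq_mul] at h1
  have hne : (Nat.card G : ℂ) ≠ 0 := by exact_mod_cast Nat.card_pos.ne'
  have h1ne := irr_one_ne_zero χ
  rw [← Nat.card_eq_fintype_card] at h1
  field_simp at h1
  linear_combination -h1

end Cfsg.Agent.S0943
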