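import Cfsg.Statements.S1181
import Cfsg.Agent.Lib.Helper9.Isolated

set_option autoImplicit false
open Cfsg

namespace Cfsg.Agent.S1181

open Cfsg.Agent.Lib.Helper9

theorem result {G : Type*} [Group G] [Finite G] (z : G) (hz : Cfsg.IsIsolatedInvolution z) (N : Subgroup G) [N.Normal] (hzN : z ∉ N) : Subgroup.centralizer ({(QuotientGroup.mk z : G ⧸ N)} : Set (G ⧸ N)) = (Subgroup.centralizer ({z} : Set G)).map (QuotientGroup.mk' N) ∧ Cfsg.IsIsolatedInvolution (QuotientGroup.mk z : G ⧸ N) := by
  have hz2 := hz.1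
  have hzi : z⁻¹ = z := inv_eq_self_of_orderOf_two hz2
  have hzz : z * z = 1 := mul_self_of_orderOf_two hz2
  have hzbar2 : (QuotientGroup.mk z : G ⧸ N) * (QuotientGroup.mk z : G ⧸ N) = 1 := by
    rw [← QuotientGroup.mk_mul, hzz]; rfl
  have hzbar1 : (QuotientGroup.mk z : G ⧸ N) ≠ 1 := by
    intro h
    rw [QuotientGroup.eq_one_iff] at h
    exact hzN h
  have hzbari : (QuotientGroup.mk z : G ⧸ N)⁻¹ = (QuotientGroup.mk z : G ⧸ N) := by
    rw [inv_eq_iff_mul_eq_one, hzbar2]
  constructor
  · apply le_antisymm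
    · intro gbar hg
      obtain ⟨g, rfl⟩ := QuotientGroup.mk_surjective gbar
      rw [Subgroup.mem_centralizer_singleton_iff] at hg
      obtain ⟨k, hk⟩ := isolated_conj_by_zpow hz g
      set w := g * z * g⁻¹ with hw
      set r := z * w with hr
      have hrN : r ∈ N := by
        rw [← QuotientGroup.eq_one_iff]
        have : (QuotientGroup.mk w : G ⧸ N) = QuotientGroup.mk z := by
          rw [hw, QuotientGroup.mk_mul, QuotientGroup.mk_mul, hg, QuotientGroup.mk_inv]
          group
        rw [hr, QuotientGroup.mk_mul, this, hzbar2]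
      refine ⟨(r ^ k)⁻¹ * g, ?_, ?_⟩
      · change (r ^ k)⁻¹ * g ∈ Subgroup.centralizer {z}
        rw [Subgroup.mem_centralizer_singleton_iff]
        have : g * z = r ^ k * z * (r ^ k)⁻¹ * g := by rw [hk, hw]; group
        calc (r ^ k)⁻¹ * g * z = (r ^ k)⁻¹ * (g * z) := by group
          _ = (r ^ k)⁻¹ * (r ^ k * z * (r ^ k)⁻¹ * g) := by rw [this]
          _ = z * ((r ^ k)⁻¹ * g) := by group
      · have h1 : (QuotientGroup.mk' N) (r ^ k) = 1 := by
          rw [QuotientGroup.mk'_apply, QuotientGroup.eq_one_iff]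
          exact Subgroup.zpow_mem _ hrN k
        rw [map_mul, map_inv, h1, inv_one, one_mul]; rfl
    · rintro _ ⟨c, hc, rfl⟩
      rw [Subgroup.mem_centralizer_singleton_iff]
      have hc' : c * z = z * c := by
        have := (Subgroup.mem_centralizer_singleton_iff.1 hc)
        exact this
      change (QuotientGroup.mk c : G ⧸ N) * QuotientGroup.mk z = QuotientGroup.mk z * QuotientGroup.mk c
      rw [← QuotientGroup.mk_mul, ← QuotientGroup.mk_mul, hc']
  · refine ⟨?_, ?_⟩
    · exact orderOf_eq_prime (by rw [sq]; exact hzbar2) hzbar1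
    · intro gbar hcomm
      obtain ⟨g, rfl⟩ := QuotientGroup.mk_surjective gbar
      have hodd := isolated_mul_conj_odd hz g
      set w := g * z * g⁻¹ with hw
      have hwbar : (QuotientGroup.mk g : G ⧸ N) * QuotientGroup.mk z * (QuotientGroup.mk g : G ⧸ N)⁻¹ = QuotientGroup.mk w := by
        rw [hw, QuotientGroup.mk_mul, QuotientGroup.mk_mul, QuotientGroup.mk_inv]
      rw [hwbar] at hcomm ⊢
      have hw2 : orderOf w = 2 := conj_orderOf_two hz2 g
      have hww : w * w = 1 := mul_self_of_orderOf_two hw2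
      have hwbar2 : (QuotientGroup.mk w : G ⧸ N) * (QuotientGroup.mk w : G ⧸ N) = 1 := by
        rw [← QuotientGroup.mk_mul, hww]; rfl
      set rbar : G ⧸ N := QuotientGroup.mk z * QuotientGroup.mk w with hrbar
      have hr2 : rbar * rbar = 1 := by
        have := hcomm.eq
        calc rbar * rbar = QuotientGroup.mk z * (QuotientGroup.mk w * QuotientGroup.mk z) * QuotientGroup.mk w := by
              rw [hrbar]; group
          _ = QuotientGroup.mk z * (QuotientGroup.mk z * QuotientGroup.mk w) * QuotientGroup.mk w := by rw [this]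
          _ = (QuotientGroup.mk z * QuotientGroup.mk z) * (QuotientGroup.mk w * QuotientGroup.mk w) := by group
          _ = 1 := by rw [hzbar2, hwbar2, one_mul]
      have hrodd : Odd (orderOf rbar) := by
        have : rbar = (QuotientGroup.mk' N) (z * w) := by
          rw [hrbar]; rfl
        rw [this]
        exact Odd.of_dvd_nat hodd (orderOf_map_dvd _ _)
      have hr1 : rbar = 1 := by
        apply eq_of_sq_eq_of_odd hrodd (by simp)
        rw [hr2, one_mul]
      calc (QuotientGroup.mk w : G ⧸ N) = (QuotientGroup.mk z * QuotientGroup.mk z) * QuotientGroup.mk w := by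
            rw [hzbar2, one_mul]
        _ = QuotientGroup.mk z * rbar := by rw [hrbar]; group
        _ = QuotientGroup.mk z := by rw [hr1, mul_one]

end Cfsg.Agent.S1181
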