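import Cfsg.Statements.S0931
import Mathlib
import Cfsg.Agent.Lib.helper7.BlockInd2

set_option autoImplicit false
open Cfsg

namespace Cfsg.Agent.S0931


open Cfsg.Agent.Lib.helper7 Cfsg.Agent.Lib.Helper25 Cfsg.Agent.Lib.helper2

open scoped ComplexConjugate

theorem defect_zero_iff {G : Type*} [Group G] [Finite G] (p : ℕ) {M : Ideal Cfsg.AlgInt}
    (hP : M.IsPrime) (χ₀ : Cfsg.IrrCharacter G) :
    Cfsg.blockDefect p (Cfsg.blockOf M (χ₀ : G → ℂ)) = 0 ↔
      ∀ χ ∈ Cfsg.blockOf M (χ₀ : G → ℂ),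
        (Nat.card G).factorization p ≤ (Cfsg.charDegree (χ : G → ℂ)).factorization p := by
  haveI : Fintype G := Fintype.ofFinite G
  haveI : Fintype (Cfsg.IrrCharacter G) := Fintype.ofFinite _
  unfold Cfsg.blockDefect
  rw [Nat.sub_eq_zero_iff_le]
  constructor
  · intro h χ hχ
    exact h.trans (Nat.sInf_le ⟨χ, hχ, rfl⟩)
  · intro h
    have hne : ((fun χ : Cfsg.IrrCharacter G => (Cfsg.charDegree (χ : G → ℂ)).factorization p) ''
        Cfsg.blockOf M (χ₀ : G → ℂ)).Nonempty :=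
      ⟨_, χ₀, h7_sameBlock_refl hP _, rfl⟩
    obtain ⟨χ, hχ, heq⟩ := Nat.sInf_mem hne
    rw [← heq]
    exact h χ hχ

theorem full_iff_not_dvd {G : Type*} [Group G] [Finite G] (p : ℕ) [hp : Fact p.Prime]
    (χ : Cfsg.IrrCharacter G) :
    (Nat.card G).factorization p ≤ (Cfsg.charDegree (χ : G → ℂ)).factorization p ↔
      ¬ p ∣ Nat.card G / Cfsg.charDegree (χ : G → ℂ) := by
  obtain ⟨hd1, hd2, hd3⟩ := h7_charDegree_props χ
  obtain ⟨w, hw⟩ := hd1
  have hG0 : Nat.card G ≠ 0 := Nat.card_pos.ne'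
  have hw0 : w ≠ 0 := by
    rintro rfl
    rw [mul_zero] at hw
    exact hG0 hw
  rw [hw, Nat.mul_div_cancel_left w hd2, Nat.factorization_mul hd2.ne' hw0, Finsupp.add_apply]
  constructor
  · intro h hdvd
    have : 0 < w.factorization p := Nat.Prime.factorization_pos_of_dvd hp.out hw0 hdvd
    omega
  · intro h
    have : w.factorization p = 0 := Nat.factorization_eq_zero_of_not_dvd h
    omega

theorem key {G : Type*} [Group G] [Fintype G] [Fintype (Cfsg.IrrCharacter G)] (p : ℕ)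
    [hp : Fact p.Prime] (M : Ideal Cfsg.AlgInt) (hM : Cfsg.IsPModular p M) (H : Subgroup G)
    (ξ : Cfsg.IrrCharacter H) (χ : Cfsg.IrrCharacter G)
    (hcong : ∀ g : G, Cfsg.MemLocalIdeal M
      (Cfsg.inducedCentralChar H (ξ : H → ℂ) g - Cfsg.centralChar (χ : G → ℂ) g)) :
    ¬ p ∣ Nat.card H / Cfsg.charDegree (ξ : H → ℂ) ↔
      ¬ p ∣ Nat.card G / Cfsg.charDegree (χ : G → ℂ) := by
  classical
  haveI : Fintype H := Fintype.ofFinite _
  haveI : Fintype (Cfsg.IrrCharacter H) := Fintype.ofFinite _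
  have hP := hM.2.1.isPrime
  obtain ⟨hχd, hχpos, hχ1⟩ := h7_charDegree_props χ
  obtain ⟨hξd, hξpos, hξ1⟩ := h7_charDegree_props ξ
  obtain ⟨w, hw⟩ := hχd
  obtain ⟨u, hu⟩ := hξd
  rw [hw, hu, Nat.mul_div_cancel_left w hχpos, Nat.mul_div_cancel_left u hξpos]
  set Ψ := Cfsg.indFun H (ξ : H → ℂ) with hΨ
  have hΨcl : ∀ g h : G, Ψ (h * g * h⁻¹) = Ψ g := fun g h => h7_indFun_conj H _ g h
  have hΨchar : Cfsg.IsCharacter G Ψ := isCharacter_indFun H _ (isCharacter_of_irr ξ)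
  have hΨ1 : Ψ 1 = ((H.index * Cfsg.charDegree (ξ : H → ℂ) : ℕ) : ℂ) := by
    rw [hΨ, h7_indFun_one, ← hξ1]
    push_cast
    rfl
  have hcong' : ∀ g : G, Cfsg.MemLocalIdeal M
      (Cfsg.centralChar Ψ g - Cfsg.centralChar (χ : G → ℂ) g) := by
    intro g
    rw [hΨ, ← Cfsg.Agent.S0932.induced_eq]
    exact hcong g
  have hm : ∀ ψ : Cfsg.IrrCharacter G, ∃ m : ℕ, Cfsg.classInner Ψ (ψ : G → ℂ) = (m : ℂ) :=
    fun ψ => classInner_character_nat hΨchar (isCharacter_of_irr ψ)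
  choose m hm using hm
  have hGcard : Nat.card G = H.index * Nat.card H := (Subgroup.index_mul_card H).symm
  have hidx0 : (H.index : ℂ) ≠ 0 := by
    have : H.index ≠ 0 := Subgroup.index_ne_zero_of_finite
    exact_mod_cast this
  have hξd0 : ((Cfsg.charDegree (ξ : H → ℂ) : ℕ) : ℂ) ≠ 0 := by exact_mod_cast hξpos.ne'
  have hχd0 : ((Cfsg.charDegree (χ : G → ℂ) : ℕ) : ℂ) ≠ 0 := by exact_mod_cast hχpos.ne'
  have hrel : ∀ ψ : Cfsg.IrrCharacter G, Cfsg.MemLocalIdeal M
      (((m ψ * u : ℕ) : ℂ) - (if χ = ψ then ((w : ℕ) : ℂ) else 0)) := by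
    intro ψ
    have h := h7_induced_rel hP Ψ hΨcl χ ψ hcong'
    rw [hm ψ, hΨ1, ← hχ1, hGcard, hu] at h
    have e1 : ((m ψ : ℕ) : ℂ) * ((H.index * (Cfsg.charDegree (ξ : H → ℂ) * u) : ℕ) : ℂ) /
        ((H.index * Cfsg.charDegree (ξ : H → ℂ) : ℕ) : ℂ) = ((m ψ * u : ℕ) : ℂ) := by
      push_cast
      field_simp
    have e2 : ((H.index * (Cfsg.charDegree (ξ : H → ℂ) * u) : ℕ) : ℂ) /
        ((Cfsg.charDegree (χ : G → ℂ) : ℕ) : ℂ) = ((w : ℕ) : ℂ) := by
      rw [← hu, ← hGcard, hw]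
      push_cast
      field_simp
    rw [e1, e2] at h
    exact h
  constructor
  · intro hnu hdw
    have hall : ∀ ψ : Cfsg.IrrCharacter G, p ∣ m ψ := by
      intro ψ
      have h1 : Cfsg.MemLocalIdeal M ((m ψ * u : ℕ) : ℂ) := by
        have h := hrel ψ
        by_cases hψ : χ = ψ
        · rw [if_pos hψ] at h
          have := h7_memLocalIdeal_add hP h ((h7_memLocalIdeal_natCast_iff hM w).2 hdw)
          rwa [sub_add_cancel] at this
        · rw [if_neg hψ, sub_zero] at h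
          exact h
      have h2 := (h7_memLocalIdeal_natCast_iff hM _).1 h1
      exact ((Nat.Prime.dvd_mul hp.out).1 h2).resolve_right hnu
    have hΘchar : Cfsg.IsCharacter G (fun g => Ψ g / (p : ℂ)) := by
      apply isCharacter_of_classInner_nat
      · intro g h
        show Ψ (h * g * h⁻¹) / (p : ℂ) = Ψ g / (p : ℂ)
        rw [hΨcl]
      · intro ψ
        obtain ⟨k, hk⟩ := hall ψ
        refine ⟨k, ?_⟩
        have hp0 : (p : ℂ) ≠ 0 := by exact_mod_cast hp.out.ne_zero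
        have : Cfsg.classInner (fun g => Ψ g / (p : ℂ)) (ψ : G → ℂ) =
            Cfsg.classInner Ψ (ψ : G → ℂ) / (p : ℂ) := by
          unfold Cfsg.classInner
          rw [mul_div_assoc, Finset.sum_div]
          congr 1
          refine Finset.sum_congr rfl fun g _ => ?_
          ring
        rw [this, hm ψ, hk]
        push_cast
        field_simp
    have hξvan : ∀ h : H, p ∣ orderOf h → (ξ : H → ℂ) h = 0 := by
      intro h hh
      apply h7_defect_zero_vanish hM ξ _ h hh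
      rw [hu, Nat.mul_div_cancel_left u hξpos]
      exact hnu
    have hΘvan : ∀ y : G, p ∣ orderOf y → (fun g => Ψ g / (p : ℂ)) y = 0 := by
      intro y hy
      show Ψ y / (p : ℂ) = 0
      rw [hΨ, h7_indFun_vanish_psingular p H _ hξvan y hy, zero_div]
    obtain ⟨k, hk⟩ : p ∣ H.index * Cfsg.charDegree (ξ : H → ℂ) := by
      have h1 : ¬ p ∣ orderOf (1 : G) := by
        rw [orderOf_one]
        exact hp.out.one_lt.ne' ∘ Nat.dvd_one.mp
      by_contra hnd
      have hval : Ψ 1 = ∑ ψ : Cfsg.IrrCharacter G, (m ψ : ℂ) * (ψ : G → ℂ) 1 := by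
        have := congrFun (classFunction_expansion Ψ hΨcl) 1
        rw [this, Finset.sum_apply]
        refine Finset.sum_congr rfl fun ψ _ => ?_
        rw [Pi.smul_apply, smul_eq_mul, hm ψ]
      apply hnd
      have hsum : H.index * Cfsg.charDegree (ξ : H → ℂ) =
          ∑ ψ : Cfsg.IrrCharacter G, m ψ * Cfsg.charDegree (ψ : G → ℂ) := by
        have : ((H.index * Cfsg.charDegree (ξ : H → ℂ) : ℕ) : ℂ) =
            ((∑ ψ : Cfsg.IrrCharacter G, m ψ * Cfsg.charDegree (ψ : G → ℂ) : ℕ) : ℂ) := by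
          rw [← hΨ1, hval]
          push_cast
          refine Finset.sum_congr rfl fun ψ _ => ?_
          rw [(h7_charDegree_props ψ).2.2]
        exact_mod_cast this
      rw [hsum]
      exact Finset.dvd_sum fun ψ _ => Dvd.dvd.mul_right (hall ψ) _
    have hΘ1 : (fun g => Ψ g / (p : ℂ)) 1 = (k : ℂ) := by
      show Ψ 1 / (p : ℂ) = (k : ℂ)
      rw [hΨ1, hk]
      have hp0 : (p : ℂ) ≠ 0 := by exact_mod_cast hp.out.ne_zero
      push_cast
      field_simp
    have hdvd := h7_pow_dvd_of_vanish p _ hΘchar hΘvan k hΘ1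
    have hGe : Nat.card G = p * k * u := by rw [hGcard, hu, ← mul_assoc, hk]
    have hbig : p ^ ((Nat.card G).factorization p + 1) ∣ Nat.card G := by
      rw [pow_succ']
      exact (Dvd.dvd.mul_right (mul_dvd_mul_left p hdvd) u).trans (dvd_of_eq hGe.symm)
    exact Nat.pow_succ_factorization_not_dvd Nat.card_pos.ne' hp.out hbig
  · intro hnw hdu
    apply hnw
    have h := hrel χ
    rw [if_pos rfl] at h
    have h1 : Cfsg.MemLocalIdeal M ((m χ * u : ℕ) : ℂ) :=
      (h7_memLocalIdeal_natCast_iff hM _).2 (Dvd.dvd.mul_left hdu _)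
    have h2 := h7_memLocalIdeal_sub hP h1 h
    rw [sub_sub_cancel] at h2
    exact (h7_memLocalIdeal_natCast_iff hM w).1 h2


/-- Let H be a subgroup of the finite group G and fix a maximal ideal M of the algebraic integers containing the prime p. If the block b of H induces the block B of G, then b has defect 0 if and only if B has defect 0. -/
theorem result {G : Type*} [Group G] [Finite G] (p : ℕ) [Fact p.Prime] (M : Ideal Cfsg.AlgInt) (hM : Cfsg.IsPModular p M) (H : Subgroup G) (b : Set (Cfsg.IrrCharacter H)) (B : Set (Cfsg.IrrCharacter G)) (hind : Cfsg.IsInducedBlock M H b B) : Cfsg.blockDefect p b = 0 ↔ Cfsg.blockDefect p B = 0 := by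
  classical
  haveI : Fintype G := Fintype.ofFinite G
  haveI : Fintype (Cfsg.IrrCharacter G) := Fintype.ofFinite _
  haveI : Fintype H := Fintype.ofFinite _
  haveI : Fintype (Cfsg.IrrCharacter H) := Fintype.ofFinite _
  have hP := hM.2.1.isPrime
  obtain ⟨hb, hB, hcong⟩ := hind
  obtain ⟨ξ₀, rfl⟩ := hb
  obtain ⟨χ₀, rfl⟩ := hB
  rw [defect_zero_iff p hP, defect_zero_iff p hP]
  have hξ₀ : ξ₀ ∈ Cfsg.blockOf M (ξ₀ : H → ℂ) := h7_sameBlock_refl hP _
  have hχ₀ : χ₀ ∈ Cfsg.blockOf M (χ₀ : G → ℂ) := h7_sameBlock_refl hP _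
  constructor
  · intro h χ hχ
    rw [full_iff_not_dvd]
    rw [← key p M hM H ξ₀ χ (hcong ξ₀ hξ₀ χ hχ), ← full_iff_not_dvd]
    exact h ξ₀ hξ₀
  · intro h ξ hξ
    rw [full_iff_not_dvd]
    rw [key p M hM H ξ χ₀ (hcong ξ hξ χ₀ hχ₀), ← full_iff_not_dvd]
    exact h χ₀ hχ₀

end Cfsg.Agent.S0931
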