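import Cfsg.Statements.S0948
import Cfsg.Agent.Lib.helper7.KleinBlock
import Cfsg.Agent.Lib.helper7.SecondMain5
import Cfsg.Agent.S0914
import Cfsg.Agent.S0925
import Cfsg.Agent.S0931
import Cfsg.Agent.S0944
import Cfsg.Agent.S0947

set_option autoImplicit false
open Cfsg

namespace Cfsg.Agent.S0948

/-- Let the finite group G have a Sylow 2-subgroup P that is a Klein four-group, suppose all involutions of G are conjugate, and fix a maximal ideal M of the algebraic integers containing 2. Then the principal block consists of exactly four irreducible characters, the principal character and ζ₂, ζ₃, ζ₄, and there is a sign ε such that for every involution z: ζ₂ z = 1, ζ₃ z = ε, ζ₄ z = -1; moreover ζ₂ 1 ≡ 1, ζ₃ 1 ≡ ε, ζ₄ 1 ≡ -1 (mod 4), and 1 + ζ₂ y + ε ζ₃ y - ζ₄ y = 0 for every y of odd order. -/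
theorem result {G : Type*} [Group G] [Finite G] (M : Ideal Cfsg.AlgInt) (hM : Cfsg.IsPModular 2 M) (P : Sylow 2 G) (hP : IsKleinFour (P : Subgroup G)) (hone : ∀ s t : G, orderOf s = 2 → orderOf t = 2 → IsConj s t) : ∃ ζ₂ ζ₃ ζ₄ : Cfsg.IrrCharacter G, ∃ ε : ℤ, (ε = 1 ∨ ε = -1) ∧ (ζ₂ : G → ℂ) ≠ (fun _ => 1) ∧ (ζ₃ : G → ℂ) ≠ (fun _ => 1) ∧ ζ₂ ≠ ζ₃ ∧ ζ₂ ≠ ζ₄ ∧ ζ₃ ≠ ζ₄ ∧ Cfsg.principalBlock M G = {χ : Cfsg.IrrCharacter G | (χ : G → ℂ) = (fun _ => 1) ∨ χ = ζ₂ ∨ χ = ζ₃ ∨ χ = ζ₄} ∧ (∀ z : G, orderOf z = 2 → (ζ₂ : G → ℂ) z = 1 ∧ (ζ₃ : G → ℂ) z = (ε : ℂ) ∧ (ζ₄ : G → ℂ) z = -1) ∧ (4 : ℤ) ∣ (Cfsg.charDegree (ζ₂ : G → ℂ) : ℤ) - 1 ∧ (4 : ℤ) ∣ (Cfsg.charDegree (ζ₃ : G → ℂ) : ℤ) - ε ∧ (4 : ℤ) ∣ (Cfsg.charDegree (ζ₄ : G → ℂ) : ℤ) + 1 ∧ ∀ y : G, Odd (orderOf y) → 1 + (ζ₂ : G → ℂ) y + (ε : ℂ) * (ζ₃ : G → ℂ) y - (ζ₄ : G → ℂ) y = 0 := by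
  classical
  haveI : Fact (Nat.Prime 2) := ⟨Nat.prime_two⟩
  haveI : Fintype G := Fintype.ofFinite G
  haveI : Fintype (Cfsg.IrrCharacter G) := Fintype.ofFinite _
  have hPr := hM.2.1.isPrime
  obtain ⟨a, b, ha, hb, ha1, hb1, hab⟩ :=
    Cfsg.Agent.Lib.Helper24.ks_exists (P : Subgroup G) hP
  have hz2 : orderOf a = 2 := Cfsg.Agent.Lib.Helper24.ks_order_two _ hP ha ha1
  have haa : a * a = 1 := Cfsg.Agent.Lib.Helper24.ks_sq _ hP ha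
  have hainv : a⁻¹ = a := inv_eq_of_mul_eq_one_right haa
  obtain ⟨hnc, hfacH⟩ := Cfsg.Agent.Lib.helper7.h7_klein_centralizer_npc P hP a ha ha1
  obtain ⟨hcardP, hfacG, m, hm, hG⟩ := Cfsg.Agent.Lib.helper7.h7_klein_card P hP
  have h1reg : ¬ 2 ∣ orderOf (1 : Subgroup.centralizer ({a} : Set G)) := by
    rw [orderOf_one]
    norm_num
  have hsum := (Cfsg.Agent.S0947.result 2 M hM a ⟨1, by rw [hz2, pow_one]⟩ ha1 1 h1reg).2 hnc
  rw [hfacH] at hsum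
  simp only [Subgroup.coe_one, mul_one] at hsum
  have hint : ∀ ζ : Cfsg.IrrCharacter G, ∃ n : ℤ, (ζ : G → ℂ) a = (n : ℂ) ∧
      (4 : ℤ) ∣ (Cfsg.charDegree (ζ : G → ℂ) : ℤ) - n := by
    intro ζ
    obtain ⟨n, hn, -⟩ := Cfsg.Agent.S0944.result ζ a hz2
    exact ⟨n, hn, Cfsg.Agent.Lib.helper7.h7_klein_mod4 P hP hone ζ a hz2 n hn⟩
  choose n hn hn4 using hint
  obtain ⟨𝔹, h𝔹⟩ : ∃ 𝔹 : Finset (Cfsg.IrrCharacter G),
      𝔹 = Finset.univ.filter (fun ζ => ζ ∈ Cfsg.principalBlock M G) := ⟨_, rfl⟩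
  have hmem𝔹 : ∀ ζ, ζ ∈ 𝔹 ↔ ζ ∈ Cfsg.principalBlock M G := by
    intro ζ
    rw [h𝔹, Finset.mem_filter]
    simp
  have hsumZ : ∑ ζ ∈ 𝔹, (n ζ) ^ 2 = 4 := by
    rw [Cfsg.Agent.Lib.helper7.h7_finsum_mem_fintype] at hsum
    have h1 : ((∑ ζ ∈ 𝔹, (n ζ) ^ 2 : ℤ) : ℝ) = 4 := by
      have e : (((2 ^ 2 : ℕ) : ℕ) : ℝ) = 4 := by norm_num
      rw [← e, ← hsum, h𝔹, Finset.sum_filter]
      push_cast
      refine Finset.sum_congr rfl fun ζ _ => ?_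
      split_ifs
      · rw [hn ζ, Complex.norm_intCast, sq_abs]
      · rfl
    exact_mod_cast h1
  have htriv_mem : Cfsg.Agent.Lib.Helper25.trivIrr G ∈ 𝔹 := by
    rw [hmem𝔹]
    exact Cfsg.Agent.Lib.helper7.h7_sameBlock_refl hPr _
  have hntriv : n (Cfsg.Agent.Lib.Helper25.trivIrr G) = 1 := by
    have := hn (Cfsg.Agent.Lib.Helper25.trivIrr G)
    rw [Cfsg.Agent.Lib.Helper25.trivIrr_apply] at this
    exact_mod_cast this.symm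
  have hne0 : ∀ ζ ∈ 𝔹, n ζ ≠ 0 := by
    intro ζ hζ h0
    have h4 := hn4 ζ
    rw [h0, sub_zero] at h4
    have h4' : (2 : ℕ) ^ 2 ∣ Cfsg.charDegree (ζ : G → ℂ) := by
      have : (4 : ℕ) ∣ Cfsg.charDegree (ζ : G → ℂ) := by exact_mod_cast h4
      simpa using this
    obtain ⟨hd1, hd2, hd3⟩ := Cfsg.Agent.Lib.helper7.h7_charDegree_props ζ
    have hfull : (Nat.card G).factorization 2 ≤
        (Cfsg.charDegree (ζ : G → ℂ)).factorization 2 := by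
      rw [hfacG]
      exact (Nat.Prime.pow_dvd_iff_le_factorization Nat.prime_two hd2.ne').mp h4'
    have hnd := (Cfsg.Agent.S0931.full_iff_not_dvd 2 ζ).mp hfull
    have hsing := (Cfsg.Agent.S0914.result 2 M hM ζ).mp hnd
    have hζB : ζ ∈ Cfsg.principalBlock M G := (hmem𝔹 ζ).mp hζ
    have e := Cfsg.Agent.Lib.helper7.h7_blockOf_eq_of_mem hPr
      (Cfsg.Agent.Lib.Helper25.trivIrr G) ζ hζB
    have hmem : Cfsg.Agent.Lib.Helper25.trivIrr G ∈ Cfsg.blockOf M (ζ : G → ℂ) := by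
      rw [← e]
      exact Cfsg.Agent.Lib.helper7.h7_sameBlock_refl hPr _
    rw [hsing] at hmem
    have heq : Cfsg.Agent.Lib.Helper25.trivIrr G = ζ := hmem
    rw [← heq, hntriv] at h0
    exact one_ne_zero h0
  obtain ⟨𝔹', h𝔹'⟩ : ∃ 𝔹' : Finset (Cfsg.IrrCharacter G),
      𝔹' = 𝔹.erase (Cfsg.Agent.Lib.Helper25.trivIrr G) := ⟨_, rfl⟩
  have hsub : ∀ ζ ∈ 𝔹', ζ ∈ 𝔹 := fun ζ hζ => by
    rw [h𝔹'] at hζ
    exact Finset.mem_of_mem_erase hζ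
  have hsum' : ∑ ζ ∈ 𝔹', (n ζ) ^ 2 = 3 := by
    have := Finset.add_sum_erase 𝔹 (fun ζ => (n ζ) ^ 2) htriv_mem
    rw [hsumZ, ← h𝔹'] at this
    simp only [hntriv] at this
    linarith
  have hsq1 : ∀ ζ ∈ 𝔹', (n ζ) ^ 2 = 1 := by
    intro ζ hζ
    have hle : (n ζ) ^ 2 ≤ 3 := by
      rw [← hsum']
      exact Finset.single_le_sum (f := fun ξ => (n ξ) ^ 2) (fun ξ _ => sq_nonneg (n ξ)) hζ
    have h0 := hne0 ζ (hsub ζ hζ)
    have h1a : -1 ≤ n ζ := by nlinarith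
    have h1b : n ζ ≤ 1 := by nlinarith
    interval_cases (n ζ) <;> simp_all
  have hcard3 : 𝔹'.card = 3 := by
    have h1 : ∑ ζ ∈ 𝔹', (n ζ) ^ 2 = ∑ ζ ∈ 𝔹', (1 : ℤ) := Finset.sum_congr rfl hsq1
    rw [hsum', Finset.sum_const, nsmul_eq_mul, mul_one] at h1
    exact_mod_cast h1.symm
  have hn_pm : ∀ ζ ∈ 𝔹', n ζ = 1 ∨ n ζ = -1 := by
    intro ζ hζ
    have h1 := hsq1 ζ hζ
    have h2 : (n ζ - 1) * (n ζ + 1) = 0 := by ring_nf; linarith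
    rcases mul_eq_zero.mp h2 with h | h
    · left; linarith
    · right; linarith
  have horth : ∀ y : G, ¬ 2 ∣ orderOf y →
      ∑ ζ ∈ 𝔹, (ζ : G → ℂ) y * (n ζ : ℂ) = 0 := by
    intro y hy
    have h := (Cfsg.Agent.S0925.result 2 M hM).2 y a 1 a
      ⟨y, one_mul y, Commute.one_left y, ⟨0, by simp⟩, hy⟩
      ⟨1, mul_one a, Commute.one_right a, ⟨1, by rw [hz2, pow_one]⟩, by simp⟩
      (by
        rw [isConj_one_right]
        exact ha1)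
      (Cfsg.principalBlock M G) ⟨Cfsg.Agent.Lib.Helper25.trivIrr G, rfl⟩
    rw [Cfsg.Agent.Lib.helper7.h7_finsum_mem_fintype] at h
    have e : ∑ ζ ∈ 𝔹, (ζ : G → ℂ) y * (n ζ : ℂ) =
        ∑ ζ : Cfsg.IrrCharacter G, if ζ ∈ Cfsg.principalBlock M G then
          (ζ : G → ℂ) y * (ζ : G → ℂ) a⁻¹ else 0 := by
      rw [h𝔹, Finset.sum_filter]
      refine Finset.sum_congr rfl fun ζ _ => ?_
      split_ifs
      · rw [hainv, hn ζ]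
      · rfl
    rw [e]
    exact h
  have hdeg : ∀ ζ : Cfsg.IrrCharacter G, (ζ : G → ℂ) 1 =
      ((Cfsg.charDegree (ζ : G → ℂ) : ℤ) : ℂ) := by
    intro ζ
    rw [← (Cfsg.Agent.Lib.helper7.h7_charDegree_props ζ).2.2]
    simp
  have hdpos : ∀ ζ : Cfsg.IrrCharacter G, (1 : ℤ) ≤ (Cfsg.charDegree (ζ : G → ℂ) : ℤ) := by
    intro ζ
    have := (Cfsg.Agent.Lib.helper7.h7_charDegree_props ζ).2.1
    exact_mod_cast this
  have horth1 : ∑ ζ ∈ 𝔹', (Cfsg.charDegree (ζ : G → ℂ) : ℤ) * n ζ = -1 := by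
    have h := horth 1 (by simp)
    rw [← Finset.add_sum_erase 𝔹 _ htriv_mem, ← h𝔹', Cfsg.Agent.Lib.Helper25.trivIrr_apply,
      hntriv] at h
    have h2 : ((1 + ∑ ζ ∈ 𝔹', (Cfsg.charDegree (ζ : G → ℂ) : ℤ) * n ζ : ℤ) : ℂ) = 0 := by
      push_cast
      rw [← h]
      congr 1
      · simp
      · refine Finset.sum_congr rfl fun ζ _ => ?_
        rw [hdeg ζ]
        push_cast
        rfl
    have h3 : 1 + ∑ ζ ∈ 𝔹', (Cfsg.charDegree (ζ : G → ℂ) : ℤ) * n ζ = 0 := by exact_mod_cast h2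
    linarith
  obtain ⟨ζ₄, hζ₄, hn₄⟩ : ∃ ζ ∈ 𝔹', n ζ = -1 := by
    by_contra hcon
    push Not at hcon
    have hall : ∀ ζ ∈ 𝔹', n ζ = 1 := fun ζ hζ => (hn_pm ζ hζ).resolve_right (hcon ζ hζ)
    have h1 : 0 ≤ ∑ ζ ∈ 𝔹', (Cfsg.charDegree (ζ : G → ℂ) : ℤ) * n ζ :=
      Finset.sum_nonneg (fun ζ hζ => by
        rw [hall ζ hζ, mul_one]
        linarith [hdpos ζ])
    linarith
  obtain ⟨ζ₂, hζ₂, hn₂⟩ : ∃ ζ ∈ 𝔹', n ζ = 1 := by
    by_contra hcon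
    push Not at hcon
    have hall : ∀ ζ ∈ 𝔹', n ζ = -1 := fun ζ hζ => (hn_pm ζ hζ).resolve_left (hcon ζ hζ)
    have h1 : ∑ ζ ∈ 𝔹', (Cfsg.charDegree (ζ : G → ℂ) : ℤ) * n ζ ≤ ∑ ζ ∈ 𝔹', (-1 : ℤ) :=
      Finset.sum_le_sum (fun ζ hζ => by
        rw [hall ζ hζ]
        linarith [hdpos ζ])
    rw [Finset.sum_const, hcard3, horth1] at h1
    norm_num at h1
  have h24 : ζ₂ ≠ ζ₄ := by
    intro h
    rw [h, hn₄] at hn₂
    norm_num at hn₂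
  have hc1 : ((𝔹'.erase ζ₂).erase ζ₄).card = 1 := by
    rw [Finset.card_erase_of_mem (Finset.mem_erase.mpr ⟨h24.symm, hζ₄⟩),
      Finset.card_erase_of_mem hζ₂, hcard3]
  obtain ⟨ζ₃, hζ₃⟩ := Finset.card_eq_one.mp hc1
  have hζ₃mem : ζ₃ ∈ (𝔹'.erase ζ₂).erase ζ₄ := by
    rw [hζ₃]
    exact Finset.mem_singleton_self _
  have h34 : ζ₃ ≠ ζ₄ := (Finset.mem_erase.mp hζ₃mem).1
  have h32 : ζ₃ ≠ ζ₂ := (Finset.mem_erase.mp (Finset.mem_erase.mp hζ₃mem).2).1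
  have hζ₃' : ζ₃ ∈ 𝔹' := (Finset.mem_erase.mp (Finset.mem_erase.mp hζ₃mem).2).2
  have hmem_iff : ∀ χ, χ ∈ 𝔹' ↔ χ = ζ₂ ∨ χ = ζ₃ ∨ χ = ζ₄ := by
    intro χ
    constructor
    · intro hχ
      by_cases h2 : χ = ζ₂
      · left; exact h2
      · by_cases h4 : χ = ζ₄
        · right; right; exact h4
        · right; left
          have : χ ∈ (𝔹'.erase ζ₂).erase ζ₄ :=
            Finset.mem_erase.mpr ⟨h4, Finset.mem_erase.mpr ⟨h2, hχ⟩⟩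
          rw [hζ₃] at this
          exact Finset.mem_singleton.mp this
    · rintro (rfl | rfl | rfl)
      · exact hζ₂
      · exact hζ₃'
      · exact hζ₄
  have hset : 𝔹' = {ζ₂, ζ₃, ζ₄} := by
    ext χ
    rw [hmem_iff]
    simp
  have hnottriv : ∀ ζ ∈ 𝔹', (ζ : G → ℂ) ≠ (fun _ => 1) := by
    intro ζ hζ h
    rw [h𝔹'] at hζ
    apply (Finset.mem_erase.mp hζ).1
    apply Subtype.ext
    rw [h]
    rfl
  have htriv_iff : ∀ χ : Cfsg.IrrCharacter G, (χ : G → ℂ) = (fun _ => 1) ↔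
      χ = Cfsg.Agent.Lib.Helper25.trivIrr G := by
    intro χ
    constructor
    · intro h
      apply Subtype.ext
      rw [h]
      rfl
    · intro h
      rw [h]
      rfl
  have hvals : ∀ z : G, orderOf z = 2 → ∀ ζ : Cfsg.IrrCharacter G,
      (ζ : G → ℂ) z = (n ζ : ℂ) := by
    intro z hz ζ
    rw [Cfsg.Agent.Lib.Helper25.irr_isConj_eq ζ (hone z a hz hz2), hn ζ]
  refine ⟨ζ₂, ζ₃, ζ₄, n ζ₃, hn_pm ζ₃ hζ₃', hnottriv ζ₂ hζ₂, hnottriv ζ₃ hζ₃', h32.symm, h24, h34,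
    ?_, ?_, ?_, ?_, ?_, ?_⟩
  · ext χ
    rw [Set.mem_setOf_eq, ← hmem𝔹, htriv_iff, ← hmem_iff, h𝔹', Finset.mem_erase]
    constructor
    · intro h
      by_cases hc : χ = Cfsg.Agent.Lib.Helper25.trivIrr G
      · left; exact hc
      · right; exact ⟨hc, h⟩
    · rintro (h | h)
      · rw [h]; exact htriv_mem
      · exact h.2
  · intro z hz
    refine ⟨?_, ?_, ?_⟩
    · rw [hvals z hz, hn₂]; simp
    · rw [hvals z hz]
    · rw [hvals z hz, hn₄]; simp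
  · have := hn4 ζ₂
    rwa [hn₂] at this
  · exact hn4 ζ₃
  · have := hn4 ζ₄
    rw [hn₄] at this
    simpa using this
  · intro y hy
    have hy' : ¬ 2 ∣ orderOf y := by
      rw [← even_iff_two_dvd, Nat.not_even_iff_odd]
      exact hy
    have h := horth y hy'
    rw [← Finset.add_sum_erase 𝔹 _ htriv_mem, ← h𝔹', hset,
      Finset.sum_insert (by simp [h32.symm, h24]), Finset.sum_insert (by simp [h34]),
      Finset.sum_singleton, Cfsg.Agent.Lib.Helper25.trivIrr_apply, hntriv, hn₂, hn₄] at h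
    push_cast at h
    linear_combination h

end Cfsg.Agent.S0948
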