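import Cfsg.Statements.S0164
import Cfsg.Statements.S0164
import Cfsg.Agent.Lib.helper2.BrauerInd

set_option autoImplicit false
open Cfsg

namespace Cfsg.Agent.S0164

open Cfsg

open Cfsg.Agent.Lib.helper2 Cfsg.Agent.Lib.helper7 Cfsg.Agent.Lib.Helper11

theorem genChar_zero (G : Type*) [Group G] : Cfsg.IsGeneralizedCharacter G (0 : G → ℂ) :=
  ⟨0, 0, isCharacter_zero G, isCharacter_zero G, by simp⟩

theorem genChar_add {G : Type*} [Group G] {f g : G → ℂ} (hf : Cfsg.IsGeneralizedCharacter G f)
    (hg : Cfsg.IsGeneralizedCharacter G g) : Cfsg.IsGeneralizedCharacter G (f + g) := by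
  obtain ⟨a, b, ha, hb, rfl⟩ := hf
  obtain ⟨c, d, hc, hd, rfl⟩ := hg
  exact ⟨a + c, b + d, isCharacter_add ha hc, isCharacter_add hb hd, by abel⟩

theorem genChar_neg {G : Type*} [Group G] {f : G → ℂ} (hf : Cfsg.IsGeneralizedCharacter G f) :
    Cfsg.IsGeneralizedCharacter G (-f) := by
  obtain ⟨a, b, ha, hb, rfl⟩ := hf
  exact ⟨b, a, hb, ha, by abel⟩

theorem genChar_nsmul {G : Type*} [Group G] {f : G → ℂ} (hf : Cfsg.IsGeneralizedCharacter G f)
    (n : ℕ) : Cfsg.IsGeneralizedCharacter G (n • f) := by
  induction n with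
  | zero => rw [zero_smul]; exact genChar_zero G
  | succ n ih => rw [succ_nsmul]; exact genChar_add ih hf

theorem genChar_zsmul {G : Type*} [Group G] {f : G → ℂ} (hf : Cfsg.IsGeneralizedCharacter G f)
    (z : ℤ) : Cfsg.IsGeneralizedCharacter G (z • f) := by
  obtain ⟨n, rfl | rfl⟩ := Int.eq_nat_or_neg z
  · rw [natCast_zsmul]; exact genChar_nsmul hf n
  · rw [neg_zsmul, natCast_zsmul]; exact genChar_neg (genChar_nsmul hf n)



/-- Brauer's characterisation of characters: a class function on a finite group whose restriction to every elementary subgroup is a generalized character is a generalized character. -/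
theorem result {G : Type*} [Group G] [Finite G] (θ : G → ℂ) (hθ : Cfsg.IsClassFunction G θ) (hE : ∀ (E : Subgroup G) (p : ℕ), p.Prime → Cfsg.IsElementary p E → Cfsg.IsGeneralizedCharacter E (fun e : E => θ e)) : Cfsg.IsGeneralizedCharacter G θ := by
  haveI := Fintype.ofFinite G
  have key : ∀ f ∈ Submodule.span ℤ (gensAll G), Cfsg.IsGeneralizedCharacter G (f * θ) := by
    intro f hf
    induction hf using Submodule.span_induction with
    | mem f hf =>
      obtain ⟨p, hp, E, φ, hEl, hφ, rfl⟩ := hf
      rw [← h7_indFun_mul_restrict E φ θ hθ]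
      obtain ⟨a, b, ha, hb, hab⟩ := hE E p hp hEl
      rw [hab, mul_sub]
      have : Cfsg.indFun E (φ * a - φ * b) = Cfsg.indFun E (φ * a) - Cfsg.indFun E (φ * b) := by
        have h1 : φ * a - φ * b = φ * a + (-1 : ℂ) • (φ * b) := by
          funext x
          simp [sub_eq_add_neg]
        rw [h1, indFun_add, indFun_smul]
        funext x
        simp [sub_eq_add_neg]
      rw [this]
      exact ⟨_, _, isCharacter_indFun E _ (h7_isCharacter_mul hφ ha),
        isCharacter_indFun E _ (h7_isCharacter_mul hφ hb), rfl⟩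
    | zero => rw [zero_mul]; exact genChar_zero G
    | add f g _ _ ihf ihg => rw [add_mul]; exact genChar_add ihf ihg
    | smul z f _ ih => rw [smul_mul_assoc]; exact genChar_zsmul ih z
  have := key 1 one_mem_span_gensAll
  rw [one_mul] at this
  exact this

end Cfsg.Agent.S0164
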