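import Cfsg.Statements.S0961
import Cfsg.Agent.S0164
import Cfsg.Agent.Lib.helper2.DefectZero
import Cfsg.Agent.Lib.helper2.Elementary

set_option autoImplicit false
open Cfsg

namespace Cfsg.Agent.S0961


open scoped ComplexConjugate
open Cfsg.Agent.Lib.helper2 Cfsg.Agent.Lib.helper7 Cfsg.Agent.Lib.Helper25

theorem restrict_char {G : Type*} [Group G] [Finite G] (p : ℕ) [hpf : Fact p.Prime]
    (χ : Cfsg.IrrCharacter G) (E : Subgroup G) [Group.IsNilpotent E] :
    Cfsg.IsCharacter E (fun e : E => if p ∣ orderOf (e : G) then 0 else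
      ((p ^ (Nat.card G).factorization p : ℕ) : ℂ) * (χ : G → ℂ) (e : G)) := by
  classical
  have hp : p.Prime := hpf.out
  haveI : Fintype E := Fintype.ofFinite E
  have hG0 : Nat.card G ≠ 0 := Nat.card_pos.ne'
  obtain ⟨P, Q, hP, hQ, hcard, hcop, hcomm⟩ := exists_p_complement (E := E) p
  obtain ⟨b, hb⟩ := hP.exists_card_eq
  have hba : b ≤ (Nat.card G).factorization p := by
    apply (Nat.Prime.pow_dvd_iff_le_factorization hp hG0).mp
    rw [← hb]
    exact dvd_trans (Subgroup.card_subgroup_dvd_card P) (Subgroup.card_subgroup_dvd_card E)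
  have hχ : Cfsg.IsCharacter G (χ : G → ℂ) := isCharacter_of_irr χ
  have hχcl := isCharacter_isClassFunction hχ
  apply isCharacter_of_classInner_nat
  · intro e h
    have h1 : ((h * e * h⁻¹ : E) : G) = (h : G) * (e : G) * (h : G)⁻¹ := by simp
    have h2 : orderOf ((h : G) * (e : G) * (h : G)⁻¹) = orderOf (e : G) := by
      have := orderOf_injective (MulAut.conj (h : G)).toMonoidHom (MulAut.conj (h : G)).injective (e : G)
      simpa using this
    simp only [h1, h2, hχcl (e : G) (h : G)]
  · intro ψ
    haveI : Fintype Q := Fintype.ofFinite Q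
    have hsum : ∑ e : E, (if p ∣ orderOf (e : G) then 0 else
        ((p ^ (Nat.card G).factorization p : ℕ) : ℂ) * (χ : G → ℂ) (e : G)) *
          conj ((ψ : E → ℂ) e) =
        ∑ y : Q, ((p ^ (Nat.card G).factorization p : ℕ) : ℂ) * (χ : G → ℂ) ((y : E) : G) *
          conj ((ψ : E → ℂ) (y : E)) := by
      rw [← Finset.sum_subtype (Finset.univ.filter (fun e : E => e ∈ Q)) (by simp)
        (fun e : E => ((p ^ (Nat.card G).factorization p : ℕ) : ℂ) * (χ : G → ℂ) (e : G) *
          conj ((ψ : E → ℂ) e))]
      rw [Finset.sum_filter]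
      refine Finset.sum_congr rfl fun e _ => ?_
      rw [hQ e, Subgroup.orderOf_coe]
      by_cases h : p ∣ orderOf e
      · simp [h]
      · simp [h]
    have hχQ : Cfsg.IsCharacter Q (fun y : Q => (χ : G → ℂ) ((y : E) : G)) :=
      isCharacter_comp_hom hχ (E.subtype.comp Q.subtype)
    have hψQ : Cfsg.IsCharacter Q (fun y : Q => (ψ : E → ℂ) (y : E)) :=
      isCharacter_restrict (isCharacter_of_irr ψ) Q
    obtain ⟨m, hm⟩ := classInner_character_nat hχQ hψQ
    unfold Cfsg.classInner at hm
    have hQne : (Nat.card Q : ℂ) ≠ 0 := by exact_mod_cast Nat.card_pos.ne'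
    have hS : ∑ y : Q, (χ : G → ℂ) ((y : E) : G) * conj ((ψ : E → ℂ) (y : E)) =
        (Nat.card Q : ℂ) * (m : ℂ) := by
      rw [← hm, ← mul_assoc, mul_inv_cancel₀ hQne, one_mul]
    refine ⟨p ^ ((Nat.card G).factorization p - b) * m, ?_⟩
    unfold Cfsg.classInner
    rw [hsum]
    simp only [mul_assoc]
    rw [← Finset.mul_sum, hS, ← hcard, hb]
    have hpb : ((p : ℂ) ^ b) ≠ 0 := by
      apply pow_ne_zero
      exact_mod_cast hp.ne_zero
    obtain ⟨c, hc⟩ := Nat.exists_eq_add_of_le hba
    rw [hc, Nat.add_sub_cancel_left, pow_add]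
    push_cast
    field_simp

/-- Let χ be an irreducible character of the finite group G and let p ^ a be the largest power of the prime p dividing the order of G. Then the function equal to p ^ a * χ x at elements x of order prime to p and to 0 elsewhere is a generalized character (a difference of characters). -/
theorem result {G : Type*} [Group G] [Finite G] (p : ℕ) [Fact p.Prime] (χ : Cfsg.IrrCharacter G) : Cfsg.IsGeneralizedCharacter G (fun x : G => if p ∣ orderOf x then 0 else ((p ^ (Nat.card G).factorization p : ℕ) : ℂ) * (χ : G → ℂ) x) := by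
  classical
  apply Cfsg.Agent.S0164.result
  · intro g h
    have h2 : orderOf (h * g * h⁻¹) = orderOf g := by
      have := orderOf_injective (MulAut.conj h).toMonoidHom (MulAut.conj h).injective g
      simpa using this
    have h3 := isCharacter_isClassFunction (isCharacter_of_irr χ) g h
    simp only [h2, h3]
  · intro E q hq hE
    haveI : Group.IsNilpotent E := isNilpotent_of_isElementary q hq hE
    exact ⟨_, 0, restrict_char p χ E, isCharacter_zero E, (sub_zero _).symm⟩

end Cfsg.Agent.S0961
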