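import Cfsg.Statements.S0846
import Cfsg.Agent.Lib.helper7.BSFinal

set_option autoImplicit false
open Cfsg

namespace Cfsg.Agent.S0846

open Cfsg.Agent.Lib.helper7 Cfsg.Agent.Lib.Helper25 Cfsg.Agent.Lib.Helper21


/-- Suppose a Sylow 2-subgroup S of the finite group G is generalized quaternion of order at least 16. Then every Sylow 2-subgroup of the subgroup generated by the involutions of G is cyclic. -/
theorem result {G : Type*} [Group G] [Finite G] (S : Sylow 2 G) (n : ℕ) (e : (S : Subgroup G) ≃* QuaternionGroup (2 ^ (n + 2))) (Q : Sylow 2 ↥(Subgroup.closure {g : G | orderOf g = 2})) : IsCyclic Q := by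
  classical
  haveI := Fintype.ofFinite G
  haveI : Fact (Nat.Prime 2) := ⟨Nat.prime_two⟩
  haveI : NeZero (2 ^ (n + 2)) := ⟨by positivity⟩
  obtain ⟨χ₁, χ₂, h1, h2, hdeg, hinvol, hα⟩ := h7_bs_main S n e
  set M : Subgroup G := irrKer χ₁ ⊓ irrKer χ₂ with hM
  haveI hMn : M.Normal := Subgroup.normal_inf_normal _ _
  have hLM : Subgroup.closure {g : G | orderOf g = 2} ≤ M := by
    rw [Subgroup.closure_le]
    intro t ht
    exact ⟨(mem_irrKer χ₁ t).mpr (hinvol t ht).1, (mem_irrKer χ₂ t).mpr (hinvol t ht).2⟩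
  set α := quatGen (S : Subgroup G) e with hα'
  have hα2 : α ^ 2 ∉ M := fun h => hα ⟨(mem_irrKer χ₁ _).mp h.1, (mem_irrKer χ₂ _).mp h.2⟩
  have hSM : (S : Subgroup G) ⊓ M ≤ Subgroup.zpowers α := by
    rintro s ⟨hsS, hsM⟩
    by_contra hsA
    have hinvα := h7_quat_invert (S : Subgroup G) e s hsS hsA
    apply hα2
    have h3 : s * (α * s⁻¹ * α⁻¹) ∈ M := M.mul_mem hsM (hMn.conj_mem s⁻¹ (M.inv_mem hsM) α)
    have h4 : s * (α * s⁻¹ * α⁻¹) = (α ^ 2)⁻¹ := by
      calc s * (α * s⁻¹ * α⁻¹) = (s * α * s⁻¹) * α⁻¹ := by group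
        _ = α⁻¹ * α⁻¹ := by rw [hinvα]
        _ = (α ^ 2)⁻¹ := by group
    rw [h4] at h3
    exact (Subgroup.inv_mem_iff M).mp h3
  set Q₀ : Subgroup G := (Q : Subgroup ↥(Subgroup.closure {g : G | orderOf g = 2})).map
    (Subgroup.closure {g : G | orderOf g = 2}).subtype with hQ₀
  have hQ₀2 : IsPGroup 2 Q₀ := Q.isPGroup'.map _
  obtain ⟨T, hT⟩ := hQ₀2.exists_le_sylow
  obtain ⟨g, rfl⟩ := MulAction.exists_smul_eq G S T
  set f₀ : ↥(Q : Subgroup ↥(Subgroup.closure {g : G | orderOf g = 2})) →* G :=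
    ((MulAut.conj g⁻¹).toMonoidHom).comp
      ((Subgroup.closure {g : G | orderOf g = 2}).subtype.comp
        (Q : Subgroup ↥(Subgroup.closure {g : G | orderOf g = 2})).subtype) with hf₀
  have hf₀inj : Function.Injective f₀ := by
    rw [hf₀]
    exact (MulAut.conj g⁻¹).injective.comp
      ((Subgroup.subtype_injective _).comp (Subgroup.subtype_injective _))
  have hf₀mem : ∀ q, f₀ q ∈ Subgroup.zpowers α := by
    intro q
    apply hSM
    have hqQ₀ : ((q : ↥(Subgroup.closure {g : G | orderOf g = 2})) : G) ∈ Q₀ :=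
      ⟨q, q.2, rfl⟩
    refine ⟨?_, ?_⟩
    · have h3 := hT hqQ₀
      rw [Sylow.coe_subgroup_smul, Subgroup.mem_pointwise_smul_iff_inv_smul_mem] at h3
      have h5 : f₀ q = (MulAut.conj g)⁻¹ • ((q : ↥(Subgroup.closure {g : G | orderOf g = 2})) : G) := by
        simp [hf₀, MulAut.smul_def]
      rw [h5]
      exact h3
    · have h3 : ((q : ↥(Subgroup.closure {g : G | orderOf g = 2})) : G) ∈ M :=
        hLM (q : ↥(Subgroup.closure {g : G | orderOf g = 2})).2
      have h4 := hMn.conj_mem _ h3 g⁻¹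
      simpa [hf₀] using h4
  haveI : IsCyclic ↥(Subgroup.zpowers α) := inferInstance
  exact isCyclic_of_injective (f₀.codRestrict _ hf₀mem)
    (MonoidHom.injective_codRestrict _ _ _ |>.mpr hf₀inj)

end Cfsg.Agent.S0846
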