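import Mathlib
import Cfsg.Statements.S0950
import Cfsg.Agent.Lib.Helper21.QuatAut

set_option autoImplicit false
open Cfsg

namespace Cfsg.Agent.S0950

open Cfsg.Agent.Lib.Helper21 QuaternionGroup

theorem pigeon3 {α : Type*} (T1 T2 T3 x0 x1 x2 xB : α) (c0 : x0 = T1 ∨ x0 = T2 ∨ x0 = T3)
    (c1 : x1 = T1 ∨ x1 = T2 ∨ x1 = T3) (c2 : x2 = T1 ∨ x2 = T2 ∨ x2 = T3)
    (cB : xB = T1 ∨ xB = T2 ∨ xB = T3) (t01 : x1 ≠ x0) (t12 : x2 ≠ x1) (t02 : x2 ≠ x0) :
    xB = x0 ∨ xB = x1 ∨ xB = x2 := by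
  rcases c0 with rfl | rfl | rfl <;> rcases c1 with rfl | rfl | rfl <;>
    rcases c2 with rfl | rfl | rfl <;> rcases cB with rfl | rfl | rfl <;> simp_all

section
variable {G : Type*} [Group G] [Finite G]

/-- a subgroup of order dividing 4 of a group with quaternion Sylow 2-subgroup is cyclic -/
theorem cyclic_of_card_four (S : Sylow 2 G) (e : (S : Subgroup G) ≃* QuaternionGroup 2)
    (C : Subgroup G) (hC : Nat.card C = 4) : IsCyclic C := by
  haveI : Fact (Nat.Prime 2) := ⟨Nat.prime_two⟩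
  have hC2 : IsPGroup 2 C := IsPGroup.of_card (n := 2) (by rw [hC]; norm_num)
  have hcomm : IsMulCommutative C :=
    IsPGroup.isMulCommutative_of_card_eq_prime_sq (p := 2) (by rw [hC]; norm_num)
  apply quat_abelian_cyclic S e C hC2
  intro x hx y hy
  exact congrArg Subtype.val (hcomm.is_comm.comm (⟨x, hx⟩ : C) ⟨y, hy⟩)

theorem conj_map_le (S : Subgroup G) (g : G) (hg : g ∈ Subgroup.normalizer (S : Set G))
    (A : Subgroup G) (hA : A ≤ S) : A.map (MulAut.conj g).toMonoidHom ≤ S := by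
  rintro _ ⟨x, hx, rfl⟩
  have := (Subgroup.mem_normalizer_iff.mp hg x).mp (hA hx)
  simpa using this

theorem mem_normalizer_of_map_eq (A : Subgroup G) (g : G)
    (h : A.map (MulAut.conj g).toMonoidHom = A) : g ∈ Subgroup.normalizer (A : Set G) := by
  apply Cfsg.Agent.S1254.mem_normalizer_of_conj_mem A g
  intro u hu
  rw [← h]
  exact ⟨u, hu, by simp⟩

end

/-- Let S be a Sylow 2-subgroup of the finite group G that is isomorphic to the quaternion group of order 8, and suppose S has no normal complement in G. Then any two subgroups of order 4 of S are conjugate by an element of the normalizer of S. -/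
theorem result {G : Type*} [Group G] [Finite G] (S : Sylow 2 G) (e : (S : Subgroup G) ≃* QuaternionGroup 2) (hnc : ∀ N : Subgroup G, N.Normal → ¬ Subgroup.IsComplement' N (S : Subgroup G)) (A B : Subgroup G) (hA : A ≤ S) (hB : B ≤ S) (hA4 : Nat.card A = 4) (hB4 : Nat.card B = 4) : ∃ n ∈ Subgroup.normalizer ((S : Subgroup G) : Set G), B = A.map (MulAut.conj n).toMonoidHom := by
  classical
  haveI : Fact (Nat.Prime 2) := ⟨Nat.prime_two⟩
  have hScard : Nat.card (S : Subgroup G) = 8 := by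
    have := quat_card (S : Subgroup G) e
    omega
  -- Frobenius fails
  have hnF : ¬ FrobHyp 2 G := by
    intro hF
    obtain ⟨N, hN, hc⟩ := hF.exists_normal_complement S
    exact hnc N hN hc
  have hex : ∃ Q : Subgroup G, Q ≤ (S : Subgroup G) ∧ ∃ g ∈ Subgroup.normalizer (Q : Set G),
      Nat.Coprime (orderOf g) 2 ∧ g ∉ Subgroup.centralizer (Q : Set G) := by
    by_contra hno
    push Not at hno
    exact hnF (frobHyp_of_sylow S (fun Q hQ g hg hcop => hno Q hQ g hg hcop))
  obtain ⟨Q, hQS, g, hgQ, hodd, hgC⟩ := hex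
  have hQ2 : IsPGroup 2 Q := S.isPGroup'.to_le hQS
  have hQnc : ¬ IsCyclic Q := fun h =>
    hgC (Cfsg.Agent.S1254.centralizes_cyclic Q h hQ2 g hgQ hodd)
  -- Q = S
  have hQeq : Q = (S : Subgroup G) := by
    apply Subgroup.eq_of_le_of_card_ge hQS
    rw [hScard]
    by_contra hlt
    push Not at hlt
    have hdvd : Nat.card Q ∣ 8 := by rw [← hScard]; exact Subgroup.card_dvd_of_le hQS
    have hpos : 0 < Nat.card Q := Nat.card_pos
    have hcases : Nat.card Q = 1 ∨ Nat.card Q = 2 ∨ Nat.card Q = 4 := by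
      have : Nat.card Q ∈ Nat.divisors 8 := Nat.mem_divisors.mpr ⟨hdvd, by norm_num⟩
      have h8 : Nat.divisors 8 = {1, 2, 4, 8} := by decide
      rw [h8] at this
      simp only [Finset.mem_insert, Finset.mem_singleton] at this
      omega
    apply hQnc
    rcases hcases with h | h | h
    · haveI : Subsingleton Q := (Nat.card_eq_one_iff_unique.mp h).1
      infer_instance
    · exact isCyclic_of_prime_card h
    · exact cyclic_of_card_four S e Q h
  subst hQeq
  -- no subgroup of order 4 is normalized by g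
  have hno4 : ∀ C : Subgroup G, C ≤ (S : Subgroup G) → Nat.card C = 4 →
      g ∉ Subgroup.normalizer (C : Set G) := by
    intro C hCS hC4 hgN
    apply hgC
    have hidx : C.relIndex (S : Subgroup G) = 2 := by
      have h1 := Cfsg.Agent.Lib.Helper1.card_mul_relIndex_of_le hCS
      rw [hC4, hScard] at h1
      omega
    exact centralizes_of_normalizes_cyclic_index_two (S : Subgroup G) C hQ2 hCS
      (cyclic_of_card_four S e C hC4) hidx g hgQ hgN hodd
  -- the conjugates
  set A₁ := A.map (MulAut.conj g).toMonoidHom with hA₁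
  set A₂ := A₁.map (MulAut.conj g).toMonoidHom with hA₂
  have hA₁S : A₁ ≤ (S : Subgroup G) := conj_map_le _ g hgQ A hA
  have hA₂S : A₂ ≤ (S : Subgroup G) := conj_map_le _ g hgQ A₁ hA₁S
  have hA₁4 : Nat.card A₁ = 4 := by
    rw [hA₁, Subgroup.card_map_of_injective (MulAut.conj g).injective, hA4]
  have hA₂4 : Nat.card A₂ = 4 := by
    rw [hA₂, Subgroup.card_map_of_injective (MulAut.conj g).injective, hA₁4]
  have hA₂eq : A₂ = A.map (MulAut.conj (g * g)).toMonoidHom := by
    rw [hA₂, hA₁, Subgroup.map_map]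
    congr 1
    ext x
    simp [mul_assoc]
  have h01 : A₁ ≠ A := fun h => hno4 A hA hA4 (mem_normalizer_of_map_eq A g h)
  have h12 : A₂ ≠ A₁ := fun h => hno4 A₁ hA₁S hA₁4 (mem_normalizer_of_map_eq A₁ g h)
  have h02 : A₂ ≠ A := by
    intro h
    rw [hA₂eq] at h
    have hgg := mem_normalizer_of_map_eq A (g * g) h
    apply hno4 A hA hA4
    -- g is a power of g * g
    obtain ⟨m, hm⟩ : ∃ m, orderOf g = 2 * m + 1 := by
      have := Nat.coprime_two_right.mp hodd
      obtain ⟨m, hm⟩ := this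
      exact ⟨m, hm⟩
    have hpow : (g * g) ^ (m + 1) = g := by
      rw [← pow_two, ← pow_mul, show 2 * (m + 1) = (2 * m + 1) + 1 by ring, pow_succ, ← hm,
        pow_orderOf_eq_one, one_mul]
    rw [← hpow]
    exact Subgroup.pow_mem _ hgg _
  -- images in Q8
  set τ : Subgroup G → Subgroup (QuaternionGroup 2) := fun C =>
    (C.subgroupOf (S : Subgroup G)).map e.toMonoidHom with hτ
  have hτcard : ∀ C : Subgroup G, C ≤ (S : Subgroup G) → Nat.card C = 4 → Nat.card (τ C) = 4 := by
    intro C hCS hC4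
    rw [hτ]
    simp only []
    rw [Subgroup.card_map_of_injective e.injective,
      Nat.card_congr (Subgroup.subgroupOfEquivOfLe hCS).toEquiv, hC4]
  have hτinj : ∀ C D : Subgroup G, C ≤ (S : Subgroup G) → D ≤ (S : Subgroup G) → τ C = τ D → C = D := by
    intro C D hCS hDS h
    have h1 : C.subgroupOf (S : Subgroup G) = D.subgroupOf (S : Subgroup G) :=
      Subgroup.map_injective e.injective h
    rw [Subgroup.subgroupOf_inj, inf_eq_left.mpr hCS, inf_eq_left.mpr hDS] at h1
    exact h1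
  have c0 := q8_subgroup_card_four (τ A) (hτcard A hA hA4)
  have c1 := q8_subgroup_card_four (τ A₁) (hτcard A₁ hA₁S hA₁4)
  have c2 := q8_subgroup_card_four (τ A₂) (hτcard A₂ hA₂S hA₂4)
  have cB := q8_subgroup_card_four (τ B) (hτcard B hB hB4)
  have t01 : τ A₁ ≠ τ A := fun h => h01 (hτinj _ _ hA₁S hA h)
  have t12 : τ A₂ ≠ τ A₁ := fun h => h12 (hτinj _ _ hA₂S hA₁S h)
  have t02 : τ A₂ ≠ τ A := fun h => h02 (hτinj _ _ hA₂S hA h)
  have key : τ B = τ A ∨ τ B = τ A₁ ∨ τ B = τ A₂ :=
    pigeon3 _ _ _ _ _ _ _ c0 c1 c2 cB t01 t12 t02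
  rcases key with h | h | h
  · refine ⟨1, Subgroup.one_mem _, ?_⟩
    have := hτinj _ _ hB hA h
    rw [this]
    ext x; simp
  · exact ⟨g, hgQ, hτinj _ _ hB hA₁S h⟩
  · refine ⟨g * g, Subgroup.mul_mem _ hgQ hgQ, ?_⟩
    rw [← hA₂eq]
    exact hτinj _ _ hB hA₂S h

end Cfsg.Agent.S0950
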