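import Cfsg.Statements.S2429

import Cfsg.Agent.Lib.helper15.SL2Nonsplit
import Cfsg.Agent.S0809
set_option autoImplicit false
open Cfsg

namespace Cfsg.Agent.S2429


open Cfsg.Agent.Lib.helper15

section Helpers

theorem count_commuting {G : Type*} [Group G] [Finite G] (T N : Subgroup G) (hTN : T ≤ N) (m : ℕ)
    (hT : Nat.card T = m) (hN : Nat.card N = 2 * m)
    (e : G) (he : e ∈ T) (he1 : e ≠ 1) (hee : e * e = 1) (hecent : ∀ y : G, e * y = y * e)
    (hsq : ∀ y ∈ T, y * y = 1 → y = 1 ∨ y = e)
    (hTcent : ∀ x ∈ T, x * x ≠ 1 → ∀ y ∈ N, (x * y = y * x ↔ y ∈ T))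
    (hout : ∀ x ∈ N, x ∉ T → x * x = e ∧ ∀ y ∈ N, (x * y = y * x ↔ y ∈ Subgroup.zpowers x)) :
    Nat.card {p : ↥N × ↥N // Commute p.1 p.2} = m * m + 2 * m + 4 * m := by
  classical
  haveI : Fintype ↥N := Fintype.ofFinite _
  rw [Nat.card_congr (Equiv.subtypeProdEquivSigmaSubtype (fun x y : ↥N => Commute x y)),
    Nat.card_sigma]
  have hc : ∀ x : ↥N, Nat.card {y : ↥N // Commute x y} =
      if (x : G) ∈ T then (m + if x * x = 1 then m else 0) else 4 := by
    intro x
    by_cases hxT : (x : G) ∈ T
    · rw [if_pos hxT]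
      by_cases hxx : x * x = 1
      · rw [if_pos hxx]
        have hxc : ∀ y : G, (x : G) * y = y * x := by
          have hxx' : (x : G) * x = 1 := congrArg Subtype.val hxx
          rcases hsq x hxT hxx' with h | h
          · intro y
            rw [h, one_mul, mul_one]
          · intro y
            rw [h]
            exact hecent y
        rw [card_commute_eq N N le_rfl x (fun y hy => ⟨fun _ => hy, fun _ => hxc y⟩), hN]
        ring
      · rw [if_neg hxx, add_zero]
        have hxx' : (x : G) * x ≠ 1 := fun h => hxx (Subtype.ext h)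
        rw [card_commute_eq N T hTN x (hTcent x hxT hxx'), hT]
    · rw [if_neg hxT]
      obtain ⟨hxe, hcz⟩ := hout x x.2 hxT
      rw [card_commute_eq N (Subgroup.zpowers (x : G)) (Subgroup.zpowers_le.mpr x.2) x hcz,
        Nat.card_zpowers]
      have h1 : ¬ (x : G) ^ 2 ^ 1 = 1 := by
        rw [pow_one, pow_two, hxe]
        exact he1
      have h2 : (x : G) ^ 2 ^ (1 + 1) = 1 := by
        have : (x : G) ^ 2 ^ (1 + 1) = (x * x) * (x * x) := by
          norm_num
          rw [show (4 : ℕ) = 2 + 2 from rfl, pow_add, pow_two]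
        rw [this, hxe, hee]
      have := orderOf_eq_prime_pow h1 h2
      rw [this]
      norm_num
  rw [Finset.sum_congr rfl (fun x _ => hc x)]
  have n1 : (Finset.univ.filter (fun x : ↥N => (x : G) ∈ T)).card = m := by
    rw [← Fintype.card_subtype, ← Nat.card_eq_fintype_card, ← hT]
    apply Nat.card_congr
    exact ⟨fun x => ⟨x.1.1, x.2⟩, fun z => ⟨⟨z.1, hTN z.2⟩, z.2⟩, fun _ => rfl, fun _ => rfl⟩
  have n2 : (Finset.univ.filter (fun x : ↥N => ¬ (x : G) ∈ T)).card = m := by
    have := Finset.card_filter_add_card_filter_not (s := (Finset.univ : Finset ↥N))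
      (fun x : ↥N => (x : G) ∈ T)
    rw [n1, Finset.card_univ, ← Nat.card_eq_fintype_card, hN] at this
    omega
  have n3 : ((Finset.univ.filter (fun x : ↥N => (x : G) ∈ T)).filter
      (fun x : ↥N => x * x = 1)).card = 2 := by
    have hne : (1 : ↥N) ≠ ⟨e, hTN he⟩ := by
      intro h
      apply he1
      exact (congrArg Subtype.val h).symm
    rw [← Finset.card_pair hne]
    congr 1
    ext x
    simp only [Finset.mem_filter, Finset.mem_univ, true_and, Finset.mem_insert,
      Finset.mem_singleton]
    constructor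
    · rintro ⟨hxT, hxx⟩
      rcases hsq x hxT (congrArg Subtype.val hxx) with h | h
      · left
        exact Subtype.ext h
      · right
        exact Subtype.ext h
    · rintro (h | h)
      · rw [h]
        exact ⟨Subgroup.one_mem _, one_mul 1⟩
      · rw [h]
        exact ⟨he, Subtype.ext hee⟩
  rw [Finset.sum_ite, Finset.sum_const, Finset.sum_add_distrib, Finset.sum_const, Finset.sum_ite,
    Finset.sum_const, Finset.sum_const_zero, n1, n2, n3]
  simp only [smul_eq_mul]
  ring


variable {F : Type*} [Field F] [Fintype F]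

theorem two_ne_zero_of_odd (hF : Odd (Fintype.card F)) : (2 : F) ≠ 0 := by
  intro h
  have : CharP F 2 := CharTwo.of_one_ne_zero_of_two_eq_zero one_ne_zero h
  obtain ⟨n, _, hn⟩ := FiniteField.card F 2
  have h3 : 2 ∣ Fintype.card F := by
    rw [hn]
    exact dvd_pow_self 2 n.ne_zero
  have := Nat.odd_iff.mp hF
  omega

theorem neg_one_ne_one (h2 : (2 : F) ≠ 0) : (-1 : Matrix.SpecialLinearGroup (Fin 2) F) ≠ 1 := by
  intro h
  have h1 := congrArg (fun z : Matrix.SpecialLinearGroup (Fin 2) F =>
    (z : Matrix (Fin 2) (Fin 2) F) 0 0) h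
  simp only [Matrix.SpecialLinearGroup.coe_neg, Matrix.SpecialLinearGroup.coe_one,
    Matrix.neg_apply, Matrix.one_apply_eq] at h1
  apply h2
  linear_combination (-1 : F) * h1

theorem conj_classes_count {N : Type*} [Group N] (k m : ℕ) (hm : 0 < m)
    (hN : Nat.card N = 2 * m)
    (hcomm : Nat.card {p : N × N // Commute p.1 p.2} = m * (2 * k)) :
    Nat.card (ConjClasses N) = k := by
  have h := card_comm_eq_card_conjClasses_mul_card N
  rw [hcomm, hN] at h
  have h' : k * (2 * m) = Nat.card (ConjClasses N) * (2 * m) := by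
    rw [← h]
    ring
  exact (Nat.eq_of_mul_eq_mul_right (by omega) h').symm

end Helpers

/-- Let F be a finite field with q elements, q odd. Then SL₂ over F contains a cyclic subgroup T′ of order q + 1 (a non-split torus) with the following properties: T′ is its own centraliser, and indeed the centraliser of each element of T′ other than 1 and −1 is exactly T′; every element of SL₂ having no eigenvector in F² is conjugate to an element of T′; the normaliser of T′ has order 2(q + 1) and exactly (q + 7)/2 conjugacy classes; and every element of that normaliser outside T′ has square −1. -/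
theorem result {F : Type*} [Field F] [Fintype F] (hodd : Odd (Fintype.card F)) :
    ∃ T' : Subgroup (Matrix.SpecialLinearGroup (Fin 2) F), IsCyclic T' ∧ Nat.card T' = Fintype.card F + 1 ∧
      Subgroup.centralizer ((T' : Set (Matrix.SpecialLinearGroup (Fin 2) F))) = T' ∧
      (∀ g : Matrix.SpecialLinearGroup (Fin 2) F, g ∈ T' → (g : Matrix (Fin 2) (Fin 2) F) ≠ 1 → (g : Matrix (Fin 2) (Fin 2) F) ≠ -1 → Subgroup.centralizer ({g} : Set (Matrix.SpecialLinearGroup (Fin 2) F)) = T') ∧
      (∀ g : Matrix.SpecialLinearGroup (Fin 2) F, (∀ (c : F) (v : Fin 2 → F), v ≠ 0 → (g : Matrix (Fin 2) (Fin 2) F).mulVec v ≠ c • v) → ∃ h : Matrix.SpecialLinearGroup (Fin 2) F, h * g * h⁻¹ ∈ T') ∧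
      Nat.card (Subgroup.normalizer (T' : Set (Matrix.SpecialLinearGroup (Fin 2) F))) = 2 * (Fintype.card F + 1) ∧
      Nat.card (ConjClasses (Subgroup.normalizer (T' : Set (Matrix.SpecialLinearGroup (Fin 2) F)))) = (Fintype.card F + 7) / 2 ∧
      ∀ g : Matrix.SpecialLinearGroup (Fin 2) F, g ∈ Subgroup.normalizer (T' : Set (Matrix.SpecialLinearGroup (Fin 2) F)) → g ∉ T' → ((g * g) : Matrix (Fin 2) (Fin 2) F) = -1 := by
  have h2 := two_ne_zero_of_odd hodd
  have hodd' : Fintype.card F % 2 = 1 := Nat.odd_iff.mp hodd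
  obtain ⟨t, hns⟩ := exists_nonsplit_odd' (F := F) h2
  obtain ⟨g0, hg0⟩ : ∃ g0 : Matrix.SpecialLinearGroup (Fin 2) F, g0 = compSL t := ⟨_, rfl⟩
  have htr : (g0 : Matrix (Fin 2) (Fin 2) F).trace = t := by rw [hg0, compSL_trace]
  have hns' : ∀ l : F, l ^ 2 - (g0 : Matrix (Fin 2) (Fin 2) F).trace * l + 1 ≠ 0 := by
    rw [htr]
    exact hns
  have hg0n := nonscalar_of_nonsplit g0 hns'
  have ht4 : (g0 : Matrix (Fin 2) (Fin 2) F).trace ^ 2 ≠ 4 := by
    intro h
    apply hns' ((g0 : Matrix (Fin 2) (Fin 2) F).trace / 2)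
    field_simp
    linear_combination -h
  have huniv : ∀ n : F, n ≠ 0 → ∃ x : F × F, nrm (g0 : Matrix (Fin 2) (Fin 2) F).trace x = n :=
    fun n _ => nrm_universal hodd' h2 _ ht4 n
  have hcardT : Nat.card (Subgroup.centralizer ({g0} : Set (Matrix.SpecialLinearGroup (Fin 2) F))) =
      Fintype.card F + 1 := by
    rw [card_centralizer_eq g0 hg0n]
    exact card_normSet_nonsplit_odd hodd' h2 _ hns'
  have hcardN := card_normalizer_centralizer h2 g0 hg0n ht4 huniv
  rw [hcardT] at hcardN
  have hg0T : g0 ∈ Subgroup.centralizer ({g0} : Set (Matrix.SpecialLinearGroup (Fin 2) F)) := by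
    rw [Subgroup.mem_centralizer_singleton_iff]
  have hnegT : (-1 : Matrix.SpecialLinearGroup (Fin 2) F) ∈
      Subgroup.centralizer ({g0} : Set (Matrix.SpecialLinearGroup (Fin 2) F)) := by
    rw [Subgroup.mem_centralizer_singleton_iff, neg_mul, mul_neg, one_mul, mul_one]
  have hout : ∀ x ∈ Subgroup.normalizer ((Subgroup.centralizer
      ({g0} : Set (Matrix.SpecialLinearGroup (Fin 2) F)) :
        Subgroup (Matrix.SpecialLinearGroup (Fin 2) F)) :
          Set (Matrix.SpecialLinearGroup (Fin 2) F)),
      x ∉ Subgroup.centralizer ({g0} : Set (Matrix.SpecialLinearGroup (Fin 2) F)) →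
        x * g0 * x⁻¹ = g0⁻¹ := by
    intro x hx hxT
    rcases (mem_normalizer_centralizer_iff h2 g0 hg0n ht4 x).mp hx with h | h
    · exfalso
      apply hxT
      rw [Subgroup.mem_centralizer_singleton_iff]
      calc x * g0 = x * g0 * x⁻¹ * x := by group
        _ = g0 * x := by rw [h]
    · exact h
  refine ⟨Subgroup.centralizer ({g0} : Set (Matrix.SpecialLinearGroup (Fin 2) F)), ?_, hcardT,
    ?_, ?_, ?_, hcardN, ?_, ?_⟩
  · exact isCyclic_centralizer g0 hg0n (fun c hc => absurd hc (hns' c))
  · ext x
    constructor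
    · intro hx
      rw [Subgroup.mem_centralizer_singleton_iff]
      exact ((Subgroup.mem_centralizer_iff.mp hx) g0 hg0T).symm
    · intro hx
      rw [Subgroup.mem_centralizer_iff]
      intro y hy
      exact centralizer_comm g0 hg0n y x hy hx
  · intro g hg hg1 hgm1
    apply centralizer_eq_of_mem g0 hg0n g hg
    apply nonscalar_of_ne
    · intro h
      apply hg1
      rw [h]
      rfl
    · intro h
      apply hgm1
      rw [h, Matrix.SpecialLinearGroup.coe_neg]
      rfl
  · intro g hg
    have hgns := nonsplit_of_no_eigenvector g hg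
    have hgn := nonscalar_of_nonsplit g hgns
    obtain ⟨a, b, hab, habtr⟩ := exists_coords_of_trace h2 t (g : Matrix (Fin 2) (Fin 2) F).trace
      hns hgns
    have hdet : (a • (1 : Matrix (Fin 2) (Fin 2) F) + b • (g0 : Matrix (Fin 2) (Fin 2) F)).det = 1 := by
      rw [m2_det_lin _ g0.2, htr]
      exact hab
    have hh'tr : ((mkSL _ hdet : Matrix.SpecialLinearGroup (Fin 2) F) :
        Matrix (Fin 2) (Fin 2) F).trace = (g : Matrix (Fin 2) (Fin 2) F).trace := by
      rw [mkSL_coe, Matrix.trace_add, Matrix.trace_smul, Matrix.trace_smul, Matrix.trace_one,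
        Fintype.card_fin, htr, ← habtr]
      simp only [smul_eq_mul, Nat.cast_ofNat]
      ring
    have hh'n : ∀ c : F, ((mkSL _ hdet : Matrix.SpecialLinearGroup (Fin 2) F) :
        Matrix (Fin 2) (Fin 2) F) ≠ c • (1 : Matrix (Fin 2) (Fin 2) F) := by
      apply nonscalar_of_nonsplit
      rw [hh'tr]
      exact hgns
    have hgt4 : (g : Matrix (Fin 2) (Fin 2) F).trace ^ 2 ≠ 4 := by
      intro h
      apply hgns ((g : Matrix (Fin 2) (Fin 2) F).trace / 2)
      field_simp
      linear_combination -h
    obtain ⟨P, hP⟩ := conj_of_trace_eq g (mkSL _ hdet) hgn hh'n hh'tr.symm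
      (fun n _ => nrm_universal hodd' h2 _ hgt4 n)
    refine ⟨P, ?_⟩
    rw [hP]
    exact lin_mem_centralizer g0 a b hdet
  · apply conj_classes_count ((Fintype.card F + 7) / 2) (Fintype.card F + 1) (by omega) hcardN
    have hcount := count_commuting
      (Subgroup.centralizer ({g0} : Set (Matrix.SpecialLinearGroup (Fin 2) F)))
      (Subgroup.normalizer ((Subgroup.centralizer
        ({g0} : Set (Matrix.SpecialLinearGroup (Fin 2) F)) :
          Subgroup (Matrix.SpecialLinearGroup (Fin 2) F)) :
            Set (Matrix.SpecialLinearGroup (Fin 2) F)))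
      Subgroup.le_normalizer (Fintype.card F + 1) hcardT hcardN (-1) hnegT (neg_one_ne_one h2)
      (by rw [neg_mul_neg, one_mul]) (fun y => by rw [neg_mul, mul_neg, one_mul, mul_one])
      (fun y _ hyy => Cfsg.Agent.S0809.sq_eq_one_imp h2 y hyy) ?_ ?_
    · rw [hcount]
      obtain ⟨j, hj⟩ := hodd
      rw [hj]
      have e : (2 * j + 1 + 7) / 2 = j + 4 := by omega
      rw [e]
      ring
    · intro x hx hxx y _
      have hxn : ∀ c : F, (x : Matrix (Fin 2) (Fin 2) F) ≠ c • (1 : Matrix (Fin 2) (Fin 2) F) := by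
        apply nonscalar_of_ne
        · intro h
          apply hxx
          rw [h, one_mul]
        · intro h
          apply hxx
          rw [h, neg_mul_neg, one_mul]
      rw [← centralizer_eq_of_mem g0 hg0n x hx hxn, Subgroup.mem_centralizer_singleton_iff]
      exact eq_comm
    · intro x hx hxT
      have hxg := hout x hx hxT
      have hxx : x * x = -1 := by
        apply Subtype.ext
        rw [Matrix.SpecialLinearGroup.coe_mul, sq_eq_neg_one_of_conj_inv g0 hg0n x hxg,
          Matrix.SpecialLinearGroup.coe_neg]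
        rfl
      refine ⟨hxx, ?_⟩
      have hTx : ∀ y ∈ Subgroup.centralizer ({g0} : Set (Matrix.SpecialLinearGroup (Fin 2) F)),
          x * y = y * x → y = 1 ∨ y = -1 := by
        intro y hy hxy
        by_contra hcon
        push Not at hcon
        have hyn := nonscalar_of_ne y hcon.1 hcon.2
        apply hxT
        rw [← centralizer_eq_of_mem g0 hg0n y hy hyn, Subgroup.mem_centralizer_singleton_iff]
        exact hxy
      intro y hy
      constructor
      · intro hxy
        by_cases hyT : y ∈ Subgroup.centralizer ({g0} : Set (Matrix.SpecialLinearGroup (Fin 2) F))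
        · rcases hTx y hyT hxy with h | h
          · rw [h]
            exact Subgroup.one_mem _
          · rw [h, ← hxx]
            exact Subgroup.mul_mem _ (Subgroup.mem_zpowers x) (Subgroup.mem_zpowers x)
        · have hyg := hout y hy hyT
          have hy'T : x⁻¹ * y ∈ Subgroup.centralizer
              ({g0} : Set (Matrix.SpecialLinearGroup (Fin 2) F)) := by
            rw [Subgroup.mem_centralizer_singleton_iff]
            have h1 : y * g0 = g0⁻¹ * y := by
              calc y * g0 = y * g0 * y⁻¹ * y := by group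
                _ = g0⁻¹ * y := by rw [hyg]
            have h3 : x⁻¹ * g0⁻¹ = g0 * x⁻¹ := by
              calc x⁻¹ * g0⁻¹ = x⁻¹ * (x * g0 * x⁻¹) := by rw [hxg]
                _ = g0 * x⁻¹ := by group
            calc x⁻¹ * y * g0 = x⁻¹ * (y * g0) := by group
              _ = x⁻¹ * (g0⁻¹ * y) := by rw [h1]
              _ = (x⁻¹ * g0⁻¹) * y := by group
              _ = g0 * x⁻¹ * y := by rw [h3]
              _ = g0 * (x⁻¹ * y) := by group
          have hcomm' : x * (x⁻¹ * y) = (x⁻¹ * y) * x := by
            calc x * (x⁻¹ * y) = x⁻¹ * (x * y) := by group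
              _ = x⁻¹ * (y * x) := by rw [hxy]
              _ = _ := by group
          rcases hTx _ hy'T hcomm' with h | h
          · have : y = x := by
              calc y = x * (x⁻¹ * y) := by group
                _ = x := by rw [h, mul_one]
            rw [this]
            exact Subgroup.mem_zpowers x
          · have : y = x * (x * x) := by
              calc y = x * (x⁻¹ * y) := by group
                _ = x * (x * x) := by rw [h, hxx]
            rw [this]
            exact Subgroup.mul_mem _ (Subgroup.mem_zpowers x)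
              (Subgroup.mul_mem _ (Subgroup.mem_zpowers x) (Subgroup.mem_zpowers x))
      · intro hy'
        obtain ⟨k, hk⟩ := Subgroup.mem_zpowers_iff.mp hy'
        rw [← hk]
        exact ((Commute.refl x).zpow_right k).eq
  · intro g hg hgT
    have := sq_eq_neg_one_of_conj_inv g0 hg0n g (hout g hg hgT)
    exact this

end Cfsg.Agent.S2429
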