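import Mathlib
import Cfsg.Statements.S1496
import Cfsg.Agent.Lib.Helper11.CyclicSZ

set_option autoImplicit false
open Cfsg

namespace Cfsg.Agent.S1496

open Cfsg.Agent.Lib.Helper11

theorem result {G : Type*} [Group G] [Finite G] (H : Subgroup G) (g : G) (hg : g ∈ Subgroup.normalizer (H : Set G)) (hcop : Nat.Coprime (orderOf g) (Nat.card H)) (h : G) (hh : h ∈ H) : ∃ x ∈ H, ∃ c ∈ H, c * g = g * c ∧ x * (h * g) * x⁻¹ = c * g := by
  set n := orderOf g with hn
  set m := Nat.card H with hm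
  set w := h * g with hw
  obtain ⟨r, hr1, hr0⟩ := Nat.chineseRemainder hcop 1 0
  have hgn : g ^ n = 1 := pow_orderOf_eq_one g
  have hwg : w * g⁻¹ ∈ H := by
    rw [hw]; simpa using hh
  have hmr : m ∣ r := (Nat.modEq_zero_iff_dvd).mp hr0
  have hgr : g ^ r = g := pow_eq_of_modEq_one g n r hgn hr1
  have hy : w ^ r * g⁻¹ ∈ H := by
    have := pow_mem_pair H w g hg hwg r
    rwa [hgr] at this
  have hwn : w ^ n ∈ H := by
    have := pow_mem_pair H w g hg hwg n
    rwa [hgn, inv_one, mul_one] at this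
  have hwnm : w ^ (n * m) = 1 := by
    rw [pow_mul]
    have h1 : orderOf (w ^ n) ∣ m := Subgroup.orderOf_dvd_natCard H hwn
    exact orderOf_dvd_iff_pow_eq_one.mp h1
  have hyn : (w ^ r) ^ n = 1 := by
    rw [← pow_mul]
    apply pow_eq_one_of_dvd w (n * m) _ hwnm
    rw [mul_comm r n]
    exact Nat.mul_dvd_mul_left n hmr
  obtain ⟨x, hxH, hx⟩ := conj_of_coprime n H g (w ^ r) hg hy hgn hyn hcop
  refine ⟨x, hxH, x * w * x⁻¹ * g⁻¹, ?_, ?_, ?_⟩
  · have h1 : g * x⁻¹ * g⁻¹ ∈ H := (Subgroup.mem_normalizer_iff.mp hg _).mp (H.inv_mem hxH)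
    have h2 : x * w * x⁻¹ * g⁻¹ = x * (w * g⁻¹) * (g * x⁻¹ * g⁻¹) := by group
    rw [h2]
    exact H.mul_mem (H.mul_mem hxH hwg) h1
  · have hcomm : Commute (x * w * x⁻¹) g := by
      have h1 : Commute w (w ^ r) := (Commute.refl w).pow_right r
      have h2 : Commute (x * w * x⁻¹) (x * w ^ r * x⁻¹) := by
        unfold Commute SemiconjBy
        calc x * w * x⁻¹ * (x * w ^ r * x⁻¹) = x * (w * w ^ r) * x⁻¹ := by group
          _ = x * (w ^ r * w) * x⁻¹ := by rw [h1.eq]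
          _ = x * w ^ r * x⁻¹ * (x * w * x⁻¹) := by group
      rwa [hx] at h2
    calc x * w * x⁻¹ * g⁻¹ * g = x * w * x⁻¹ := by group
      _ = g * (x * w * x⁻¹) * g⁻¹ := by rw [← hcomm.eq]; group
      _ = g * (x * w * x⁻¹ * g⁻¹) := by group
  · group

end Cfsg.Agent.S1496
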