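import Mathlib
import Cfsg.Statements.S0985

set_option autoImplicit false
open Cfsg

namespace Cfsg.Agent.S0985

open MulAction

theorem card_modEq_one_of_orbits {H X : Type*} [Group H] [MulAction H X] [Finite X] (x0 : X) (d : ℕ)
    (h0 : ∀ h : H, h • x0 = x0) (hd : ∀ x : X, x ≠ x0 → d ∣ Nat.card (orbit H x)) :
    Nat.card X ≡ 1 [MOD d] := by
  classical
  haveI : Fintype (orbitRel.Quotient H X) := Fintype.ofFinite _
  rw [Nat.card_congr (selfEquivSigmaOrbits' H X), Nat.card_sigma]
  rw [← Finset.add_sum_erase Finset.univ _ (Finset.mem_univ (Quotient.mk'' x0 : orbitRel.Quotient H X))]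
  have h1 : Nat.card (orbitRel.Quotient.orbit (Quotient.mk'' x0 : orbitRel.Quotient H X)) = 1 := by
    rw [orbitRel.Quotient.orbit_mk]
    have : orbit H x0 = {x0} := by
      ext y
      simp only [mem_orbit_iff, Set.mem_singleton_iff]
      constructor
      · rintro ⟨h, rfl⟩; exact h0 h
      · rintro rfl; exact ⟨1, one_smul _ _⟩
    rw [this]
    simp
  rw [h1]
  have h2 : d ∣ ∑ ω ∈ Finset.univ.erase (Quotient.mk'' x0 : orbitRel.Quotient H X),
      Nat.card (orbitRel.Quotient.orbit ω) := by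
    apply Finset.dvd_sum
    intro ω hω
    induction ω using Quotient.inductionOn' with
    | h x =>
      rw [orbitRel.Quotient.orbit_mk]
      apply hd
      rintro rfl
      exact (Finset.mem_erase.mp hω).1 rfl
  obtain ⟨c, hc⟩ := h2
  rw [hc]
  have : 1 + d * c ≡ 1 + 0 [MOD d] := Nat.ModEq.add_left 1 ((Nat.modEq_zero_iff_dvd).mpr ⟨c, rfl⟩)
  simpa using this

theorem stabilizer_eq {G : Type*} [Group G] [Finite G] (p : ℕ) [Fact p.Prime] (P R : Sylow p G) :
    stabilizer (P : Subgroup G) R = (R : Subgroup G).subgroupOf (P : Subgroup G) := by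
  ext g
  rw [mem_stabilizer_iff, Subgroup.mem_subgroupOf, Subgroup.smul_def,
    Sylow.smul_eq_iff_mem_normalizer]
  constructor
  · intro h
    have h3 := P.2.inf_normalizer_sylow R
    have h2 : (g : G) ∈ (P : Subgroup G) ⊓ Subgroup.normalizer (R : Set G) := ⟨g.2, h⟩
    rw [h3] at h2
    exact h2.2
  · intro h
    exact Subgroup.le_normalizer h

theorem result {G : Type*} [Group G] [Finite G] (p k : ℕ) [Fact p.Prime] (h : ¬ Nat.card (Sylow p G) ≡ 1 [MOD p ^ k]) : ∃ P R : Sylow p G, P ≠ R ∧ ((R : Subgroup G).subgroupOf (P : Subgroup G)).index ≤ p ^ (k - 1) := by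
  have hp : p.Prime := Fact.out
  obtain ⟨P⟩ : Nonempty (Sylow p G) := inferInstance
  by_contra hcon
  simp only [not_exists, not_and, not_le] at hcon
  apply h
  apply card_modEq_one_of_orbits (H := (P : Subgroup G)) P (p ^ k)
  · intro g
    rw [Subgroup.smul_def, Sylow.smul_eq_iff_mem_normalizer]
    exact Subgroup.le_normalizer g.2
  · intro R hR
    have h1 := hcon P R (Ne.symm hR)
    rw [← stabilizer_eq, index_stabilizer, ← Nat.card_coe_set_eq] at h1
    obtain ⟨n, hn⟩ := P.2.card_orbit R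
    rw [hn] at h1 ⊢
    apply pow_dvd_pow
    by_contra hlt
    have : n ≤ k - 1 := by omega
    have := Nat.pow_le_pow_right hp.pos this
    omega

end Cfsg.Agent.S0985
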