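import Cfsg.Statements.S4341
import Cfsg.Agent.Lib.helper23.SylowQuot

set_option autoImplicit false
open Cfsg

namespace Cfsg.Agent.S4341

open Cfsg.Agent.Lib.helper23

theorem normalizer_le_normalizer_inf {G : Type*} [Group G] (P K : Subgroup G) [K.Normal] :
    Subgroup.normalizer (P : Set G) ≤ Subgroup.normalizer ((P ⊓ K : Subgroup G) : Set G) := by
  intro a ha
  rw [Subgroup.mem_normalizer_iff_map_conj_eq] at ha ⊢
  have hinj : Function.Injective ((MulAut.conj a : G ≃* G) : G →* G) := (MulAut.conj a).injective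
  rw [Subgroup.map_inf _ _ _ hinj, ha]
  congr 1
  exact Subgroup.Normal.map_conj_eq (H := K) a

/-- `P ⊓ K` has the order of a Sylow subgroup of the normal subgroup `K`. -/
theorem card_inf_normal {G : Type*} [Group G] [Finite G] {p : ℕ} [Fact p.Prime] (K : Subgroup G)
    [K.Normal] (P : Sylow p G) :
    Nat.card ((P : Subgroup G) ⊓ K : Subgroup G) = p ^ (Nat.card K).factorization p := by
  have hpg : IsPGroup p (((P : Subgroup G) ⊓ K).subgroupOf K) := by
    have h1 : IsPGroup p ((P : Subgroup G) ⊓ K : Subgroup G) := P.isPGroup'.to_le inf_le_left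
    exact h1.comap_subtype
  have hidx : ¬ p ∣ (((P : Subgroup G) ⊓ K).subgroupOf K).index := by
    change ¬ p ∣ ((P : Subgroup G) ⊓ K).relIndex K
    rw [Subgroup.inf_relIndex_right]
    have h2 : (P : Subgroup G).relIndex (K ⊔ (P : Subgroup G)) = (P : Subgroup G).relIndex K :=
      relIndex_sup_of_normal K (P : Subgroup G)
    rw [← h2]
    intro hdvd
    exact P.not_dvd_index (hdvd.trans (Subgroup.relIndex_dvd_index_of_le le_sup_right))
  have h3 := Sylow.card_eq_multiplicity (hpg.toSylow hidx)
  rw [← h3]
  exact Nat.card_congr (Subgroup.subgroupOfEquivOfLe inf_le_right).toEquiv.symm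

/-- Let K be a normal subgroup of a finite group G, p a prime and P a Sylow p-subgroup of G; let N be the normalizer of P ∩ K inside the subgroup PK. Then the number of Sylow p-subgroups of G equals the product of the numbers of Sylow p-subgroups of G/K, of K, and of N/(P ∩ K). (The normality of P ∩ K in N, which always holds, is assumed as a hypothesis so that the quotient can be formed.) -/
theorem result {G : Type*} [Group G] [Finite G]
    (p : ℕ) [Fact p.Prime] (K : Subgroup G) [K.Normal] (P : Sylow p G) (N : Subgroup G)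
    (hN : N = ((P : Subgroup G) ⊔ K) ⊓ Subgroup.normalizer (((P : Subgroup G) ⊓ K : Subgroup G) : Set G))
    [hn : (((P : Subgroup G) ⊓ K).subgroupOf N).Normal] :
    Nat.card (Sylow p G) =
      Nat.card (Sylow p (G ⧸ K)) * Nat.card (Sylow p K) * Nat.card (Sylow p (N ⧸ ((P : Subgroup G) ⊓ K).subgroupOf N)) := by
  set A := Subgroup.normalizer ((P : Subgroup G) : Set G) with hA
  set H := (P : Subgroup G) ⊔ K with hH
  set B := Subgroup.normalizer (((P : Subgroup G) ⊓ K : Subgroup G) : Set G) with hB
  have hAB : A ≤ B := normalizer_le_normalizer_inf _ K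
  have hPA : (P : Subgroup G) ≤ A := Subgroup.le_normalizer
  have hPH : (P : Subgroup G) ≤ H := le_sup_left
  have hKH : K ≤ H := le_sup_right
  have hPN : (P : Subgroup G) ≤ N := by
    rw [hN]; exact le_inf hPH (hPA.trans hAB)
  have hNH : N ≤ H := by rw [hN]; exact inf_le_left
  -- step 1
  have h1 := card_sylow_eq_mul K P
  -- step 2
  have h2 : A.relIndex H = A.relIndex N * N.relIndex H := by
    have h := Subgroup.relIndex_mul_relIndex (A ⊓ N) N H inf_le_right hNH
    rw [Subgroup.inf_relIndex_right] at h
    rw [h]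
    have : A ⊓ N = A ⊓ H := by
      rw [hN, ← inf_assoc, inf_comm A H, inf_assoc, inf_eq_left.mpr hAB]
    rw [this, Subgroup.inf_relIndex_right]
  -- step 3
  have h3 : N.relIndex H = B.relIndex K := by
    have hsup : K ⊔ N = H := by
      apply le_antisymm (sup_le hKH hNH)
      exact sup_le (hPN.trans le_sup_right) le_sup_left
    have h := relIndex_sup_of_normal K N
    rw [hsup] at h
    rw [h, ← Subgroup.inf_relIndex_right N K]
    have : N ⊓ K = B ⊓ K := by
      rw [hN, inf_comm H B, inf_assoc, inf_eq_right.mpr hKH]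
    rw [this, Subgroup.inf_relIndex_right]
  -- step 4
  have h4 : Nat.card (Sylow p K) = B.relIndex K :=
    card_sylow_eq_relIndex_normalizer K ((P : Subgroup G) ⊓ K) inf_le_right (card_inf_normal K P)
  -- step 5
  have h5 : Nat.card (Sylow p N) = A.relIndex N :=
    card_sylow_eq_relIndex_normalizer N (P : Subgroup G) hPN (card_sylow_of_le P N hPN)
  -- step 6
  have h6 : Nat.card (Sylow p (N ⧸ ((P : Subgroup G) ⊓ K).subgroupOf N)) = Nat.card (Sylow p N) := by
    have h := card_sylow_quotient (((P : Subgroup G) ⊓ K).subgroupOf N) (P.subtype hPN)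
    rw [h, Sylow.card_eq_index_normalizer (P.subtype hPN)]
    have hle : ((P : Subgroup G) ⊓ K).subgroupOf N ≤ ((P.subtype hPN : Sylow p N) : Subgroup N) := by
      rw [Sylow.coe_subtype]
      intro x hx
      rw [Subgroup.mem_subgroupOf] at hx ⊢
      exact hx.1
    rw [sup_eq_left.mpr hle]
    rfl
  rw [h1, h2, h3, ← h4, ← h5, ← h6]
  ring

end Cfsg.Agent.S4341
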