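import Cfsg.Statements.S4303
import Cfsg.Agent.S4341
import Cfsg.Agent.Lib.helper23.HallCount
import Cfsg.Agent.Lib.Lead.Coprime

set_option autoImplicit false
universe u
open Cfsg

namespace Cfsg.Agent.S4303

open Cfsg.Agent.Lib.helper23

/-- the property to be proved -/
def Good (p : ℕ) (G : Type u) [Group G] : Prop :=
  ∃ l : List ℕ, l.prod = Nat.card (Sylow p G) ∧
    ∀ m ∈ l, (IsPrimePow m ∧ m % p = 1) ∨
      ∃ (S : Type u) (_ : Group S) (_ : Finite S), IsSimpleGroup S ∧ m = Nat.card (Sylow p S)

theorem good_mul3 {p : ℕ} {G A B C : Type u} [Group G] [Group A] [Group B] [Group C]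
    (hA : Good p A) (hB : Good p B) (hC : Good p C)
    (h : Nat.card (Sylow p G) = Nat.card (Sylow p A) * Nat.card (Sylow p B) * Nat.card (Sylow p C)) :
    Good p G := by
  obtain ⟨l₁, h₁, g₁⟩ := hA
  obtain ⟨l₂, h₂, g₂⟩ := hB
  obtain ⟨l₃, h₃, g₃⟩ := hC
  refine ⟨l₁ ++ l₂ ++ l₃, ?_, ?_⟩
  · rw [List.prod_append, List.prod_append, h₁, h₂, h₃, h]
  · intro m hm
    rw [List.mem_append, List.mem_append] at hm
    rcases hm with (hm | hm) | hm
    · exact g₁ m hm
    · exact g₂ m hm
    · exact g₃ m hm

theorem main (p : ℕ) [hp : Fact p.Prime] :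
    ∀ (n : ℕ) (G : Type u) [Group G] [Finite G], Nat.card G = n → Good p G := by
  intro n
  induction n using Nat.strong_induction_on with
  | _ n ih =>
  intro G _ _ hn
  by_cases hs : IsSimpleGroup G
  · refine ⟨[Nat.card (Sylow p G)], by simp, ?_⟩
    intro m hm
    rw [List.mem_singleton] at hm
    right
    exact ⟨G, inferInstance, inferInstance, hs, hm⟩
  let P : Sylow p G := default
  by_cases hsub : Subsingleton G
  · refine ⟨[], ?_, by simp⟩
    rw [List.prod_nil]
    have h1 : Nat.card (Sylow p G) ∣ (P : Subgroup G).index := Sylow.card_dvd_index P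
    have h2 : (P : Subgroup G).index ∣ Nat.card G := Subgroup.index_dvd_card _
    have h3 : Nat.card G = 1 := Nat.card_eq_one_iff_unique.mpr ⟨hsub, ⟨1⟩⟩
    rw [h3] at h2
    exact (Nat.dvd_one.mp (dvd_trans h1 h2)).symm
  have hnt : Nontrivial G := not_subsingleton_iff_nontrivial.mp hsub
  obtain ⟨K, hKn, hKbot, hKtop⟩ : ∃ K : Subgroup G, K.Normal ∧ K ≠ ⊥ ∧ K ≠ ⊤ := by
    by_contra h
    push Not at h
    apply hs
    exact { exists_pair_ne := exists_pair_ne G
            eq_bot_or_eq_top_of_normal := fun H hH => by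
              by_contra hc
              push Not at hc
              exact hc.2 (h H hH hc.1) }
  by_cases hcase : (P : Subgroup G) ⊓ K = ⊥ ∧ (P : Subgroup G) ⊔ K = ⊤
  · -- coprime case
    have hcard := Cfsg.Agent.S4341.card_inf_normal K P
    rw [hcase.1, Subgroup.card_bot] at hcard
    have hcop : (Nat.card K).Coprime p := by
      have h0 : (Nat.card K).factorization p = 0 := by
        by_contra h0
        have : 1 < p ^ (Nat.card K).factorization p := Nat.one_lt_pow h0 hp.out.one_lt
        omega
      rcases (Nat.factorization_eq_zero_iff _ _).mp h0 with h | h | h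
      · exact absurd hp.out h
      · exact ((Nat.Prime.coprime_iff_not_dvd hp.out).mpr h).symm
      · exact absurd h Nat.card_pos.ne'
    obtain ⟨l, hl, hg⟩ := exists_list_of_coprime K hcop P hcase.2
    exact ⟨l, hl, fun m hm => Or.inl (hg m hm)⟩
  · -- general case
    set N : Subgroup G := ((P : Subgroup G) ⊔ K) ⊓
      Subgroup.normalizer (((P : Subgroup G) ⊓ K : Subgroup G) : Set G) with hN
    have hXN : (P : Subgroup G) ⊓ K ≤ N :=
      le_inf (le_trans inf_le_left le_sup_left) Subgroup.le_normalizer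
    have hn' : (((P : Subgroup G) ⊓ K).subgroupOf N).Normal :=
      (Subgroup.normal_subgroupOf_iff_le_normalizer hXN).mpr inf_le_right
    have hformula := Cfsg.Agent.S4341.result p K P N hN
    have hGK : Nat.card (G ⧸ K) < Nat.card G := by
      have h1 := Subgroup.card_eq_card_quotient_mul_card_subgroup K
      have h2 : 1 < Nat.card K := by
        rw [Finite.one_lt_card_iff_nontrivial]
        exact (Subgroup.nontrivial_iff_ne_bot K).mpr hKbot
      have h3 : 0 < Nat.card (G ⧸ K) := Nat.card_pos
      nlinarith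
    have hK : Nat.card K < Nat.card G := by
      have := Cfsg.Agent.Lib.Lead.card_lt_card_of_lt (lt_top_iff_ne_top.mpr hKtop)
      rwa [Subgroup.card_top] at this
    have hNX : Nat.card (N ⧸ ((P : Subgroup G) ⊓ K).subgroupOf N) < Nat.card G := by
      have h1 := Subgroup.card_eq_card_quotient_mul_card_subgroup
        (((P : Subgroup G) ⊓ K).subgroupOf N)
      have h2 : Nat.card (((P : Subgroup G) ⊓ K).subgroupOf N)
          = Nat.card ((P : Subgroup G) ⊓ K : Subgroup G) :=
        Nat.card_congr (Subgroup.subgroupOfEquivOfLe hXN).toEquiv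
      have h3 : Nat.card N ≤ Nat.card G := Subgroup.card_le_card_group N
      have h4 : 0 < Nat.card (N ⧸ ((P : Subgroup G) ⊓ K).subgroupOf N) := Nat.card_pos
      have h5 : 0 < Nat.card ((P : Subgroup G) ⊓ K : Subgroup G) := Nat.card_pos
      by_cases hPK : (P : Subgroup G) ⊓ K = ⊥
      · have hsup : (P : Subgroup G) ⊔ K ≠ ⊤ := fun h => hcase ⟨hPK, h⟩
        have h6 := Cfsg.Agent.Lib.Lead.card_lt_card_of_lt (lt_top_iff_ne_top.mpr hsup)
        rw [Subgroup.card_top] at h6
        have h7 : Nat.card N ≤ Nat.card ((P : Subgroup G) ⊔ K : Subgroup G) :=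
          Subgroup.card_le_of_le inf_le_left
        rw [h2] at h1
        nlinarith
      · have h6 : 1 < Nat.card ((P : Subgroup G) ⊓ K : Subgroup G) := by
          rw [Finite.one_lt_card_iff_nontrivial]
          exact (Subgroup.nontrivial_iff_ne_bot _).mpr hPK
        rw [h2] at h1
        nlinarith
    have g1 := ih _ (hn ▸ hGK) (G ⧸ K) rfl
    have g2 := ih _ (hn ▸ hK) K rfl
    have g3 := ih _ (hn ▸ hNX) (N ⧸ ((P : Subgroup G) ⊓ K).subgroupOf N) rfl
    exact good_mul3 g1 g2 g3 hformula

/-- For a finite group `G` and a prime `p`, the number of Sylow `p`-subgroups of `G` is a product of natural numbers each of which is either a prime power congruent to 1 modulo `p` or the number of Sylow `p`-subgroups of some finite simple group. -/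
theorem result {G : Type u} [Group G] [Finite G]
    (p : ℕ) [Fact p.Prime] :
    ∃ l : List ℕ, l.prod = Nat.card (Sylow p G) ∧
      ∀ m ∈ l, (IsPrimePow m ∧ m % p = 1) ∨
        ∃ (S : Type u) (_ : Group S) (_ : Finite S), IsSimpleGroup S ∧ m = Nat.card (Sylow p S) :=
  main p (Nat.card G) G rfl

end Cfsg.Agent.S4303
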