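import Cfsg.Statements.S3744
import Cfsg.Agent.Lib.Helper20.HallSep

set_option autoImplicit false
open Cfsg

namespace Cfsg.Agent.S3744


open Cfsg.Agent.Lib.Helper20 in
/-- a `p`-solvable group satisfies `PiSepS` for `π = p'` -/
theorem piSepS_of_isPSolvable.{u} {G : Type u} [Group G] [Finite G] {p : ℕ} [hp : Fact p.Prime]
    (hG : Cfsg.IsPSolvable p G) : PiSepS {q : ℕ | q ≠ p} G := by
  intro Q _ f hf hQ
  have hfin : Finite Q := Finite.of_surjective f hf
  obtain ⟨n, H, h0, hlast, hmono, hnorm, hfac⟩ := hG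
  have key : ∀ i : Fin (n + 1), (H i).map f = ⊥ ∨
      ∃ M : Subgroup Q, M.Normal ∧ M ≠ ⊥ ∧
        (PiNum {q : ℕ | q ≠ p} (Nat.card M) ∨
          (PiNum' {q : ℕ | q ≠ p} (Nat.card M) ∧ Group.IsSolvable M)) := by
    intro i
    induction i using Fin.induction with
    | zero => left; rw [h0, Subgroup.map_bot]
    | succ j ih =>
      rcases ih with ih | ih
      · by_cases hb : (H j.succ).map f = ⊥
        · exact Or.inl hb
        · right
          refine ⟨(H j.succ).map f, (hnorm j.succ).map f hf, hb, ?_⟩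
          have hle : H j.castSucc ≤ f.ker := (Subgroup.map_eq_bot_iff _).mp ih
          have hdvd : Nat.card ((H j.succ).map f) ∣ (H j.castSucc).relIndex (H j.succ) := by
            rw [← Subgroup.relIndex_ker]
            exact Subgroup.relIndex_dvd_of_le_left _ hle
          rcases hfac j with ⟨m, hm⟩ | hcop
          · right
            rw [hm] at hdvd
            obtain ⟨k, -, hk⟩ := (Nat.dvd_prime_pow hp.out).mp hdvd
            refine ⟨?_, ?_⟩
            · intro q hq hqp hqd
              rw [hk] at hqd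
              exact hqp ((Nat.prime_dvd_prime_iff_eq hq hp.out).mp (hq.dvd_of_dvd_pow hqd))
            · have : IsPGroup p ((H j.succ).map f) := IsPGroup.of_card hk
              have := this.isNilpotent
              infer_instance
          · left
            intro q hq hqd hqp
            rw [hqp] at hqd
            have h1 : p ∣ (H j.castSucc).relIndex (H j.succ) := hqd.trans hdvd
            have h2 := Nat.Coprime.symm hcop
            rw [Nat.Prime.coprime_iff_not_dvd hp.out] at h2
            exact h2 h1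
      · exact Or.inr ih
  rcases key (Fin.last n) with h | h
  · exfalso
    rw [hlast, Subgroup.map_top_of_surjective f hf] at h
    exact top_ne_bot h
  · exact h


/-- A finite p-soluble group has a p-complement, all its p-complements are conjugate, and every subgroup of order prime to p lies in one of them. Here a p-complement is a subgroup of order prime to p whose index is a power of p. -/
theorem result {G : Type*} [Group G] [Finite G] {p : ℕ} [Fact p.Prime] (hG : Cfsg.IsPSolvable p G) : (∃ H : Subgroup G, (Nat.card H).Coprime p ∧ ∃ n : ℕ, H.index = p ^ n) ∧ (∀ H₁ H₂ : Subgroup G, (Nat.card H₁).Coprime p → (∃ n : ℕ, H₁.index = p ^ n) → (Nat.card H₂).Coprime p → (∃ n : ℕ, H₂.index = p ^ n) → ∃ g : G, H₂ = H₁.map (MulAut.conj g).toMonoidHom) ∧ (∀ U : Subgroup G, (Nat.card U).Coprime p → ∃ H : Subgroup G, (Nat.card H).Coprime p ∧ (∃ n : ℕ, H.index = p ^ n) ∧ ∃ g : G, U.map (MulAut.conj g).toMonoidHom ≤ H) := by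
  classical
  have hp : p.Prime := Fact.out
  set π : Set ℕ := {q : ℕ | q ≠ p} with hπ
  have hsep := piSepS_of_isPSolvable hG
  -- translation between the two notions
  have tr1 : ∀ H : Subgroup G, (Nat.card H).Coprime p ↔
      Cfsg.Agent.Lib.Helper20.PiNum π (Nat.card H) := by
    intro H
    constructor
    · intro hc q hq hqd hqp
      rw [hqp] at hqd
      have := Nat.Coprime.symm hc
      rw [Nat.Prime.coprime_iff_not_dvd hp] at this
      exact this hqd
    · intro h
      apply Nat.Coprime.symm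
      rw [Nat.Prime.coprime_iff_not_dvd hp]
      intro hd
      exact h p hp hd rfl
  have tr2 : ∀ H : Subgroup G, (∃ n : ℕ, H.index = p ^ n) ↔
      Cfsg.Agent.Lib.Helper20.PiNum' π H.index := by
    intro H
    constructor
    · rintro ⟨n, hn⟩ q hq hqp hqd
      rw [hn] at hqd
      exact hqp ((Nat.prime_dvd_prime_iff_eq hq hp).mp (hq.dvd_of_dvd_pow hqd))
    · intro h
      refine ⟨_, Nat.eq_prime_pow_of_unique_prime_dvd (Subgroup.index_ne_zero_of_finite) ?_⟩
      intro d hd hdd
      by_contra hne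
      exact h d hd hne hdd
  have tr : ∀ H : Subgroup G, ((Nat.card H).Coprime p ∧ ∃ n : ℕ, H.index = p ^ n) ↔
      Cfsg.IsPiHall π H := fun H => and_congr (tr1 H) (tr2 H)
  obtain ⟨⟨H, hH⟩, hdom⟩ := Cfsg.Agent.Lib.Helper20.hall_of_piSepS π hsep
  refine ⟨⟨H, (tr H).mpr hH⟩, ?_, ?_⟩
  · intro H₁ H₂ h1 h1' h2 h2'
    have hH1 := (tr H₁).mp ⟨h1, h1'⟩
    have hH2 := (tr H₂).mp ⟨h2, h2'⟩
    -- conjugate H₁ into H₂
    obtain ⟨g, hg⟩ := Cfsg.Agent.Lib.Helper20.hall_conj_of_piSepS π hsep H₂ H₁ hH2 hH1
    exact ⟨g, hg.symm⟩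
  · intro U hU
    obtain ⟨g, hg⟩ := hdom H U hH ((tr1 U).mp hU)
    exact ⟨H, ((tr H).mpr hH).1, ((tr H).mpr hH).2, g, hg⟩

end Cfsg.Agent.S3744
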