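import Cfsg.Statements.S3736
import Cfsg.Agent.Lib.Helper20.HallHigman

set_option autoImplicit false
open Cfsg

namespace Cfsg.Agent.S3736

open Cfsg.Agent.Lib.Helper20 Cfsg.Agent.Lib.Lead
open scoped commutatorElement


/-- The Hall–Higman reduction for a minimal non-trivial action. Let B, A and P be subgroups of a finite group with P a p-group, B normalizing P, and A a normal subgroup of B of order prime to p. Suppose A does not centralize P but centralizes every proper B-invariant subgroup of P. Then [P, A] = P; P is elementary abelian or special; B acts irreducibly on P/Φ(P), that is, the only B-invariant subgroups of P containing Φ(P) are Φ(P) and P; and if p is odd then every element of P has order dividing p. -/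
theorem result {X : Type*} [Group X] [Finite X] {p : ℕ} [Fact p.Prime] (B A P : Subgroup X) (hP : IsPGroup p P) (hBP : B ≤ Subgroup.normalizer (P : Set X)) (hAB : A ≤ B) (hAn : B ≤ Subgroup.normalizer (A : Set X)) (hAp : (Nat.card A).Coprime p) (hnt : ⁅P, A⁆ ≠ ⊥) (hmin : ∀ U : Subgroup X, U < P → B ≤ Subgroup.normalizer (U : Set X) → ⁅U, A⁆ = ⊥) : ⁅P, A⁆ = P ∧ (Cfsg.IsElementaryAbelian p P ∨ Cfsg.IsSpecial p ↥P) ∧ (∀ U : Subgroup X, (frattini ↥P).map P.subtype ≤ U → U ≤ P → B ≤ Subgroup.normalizer (U : Set X) → U = (frattini ↥P).map P.subtype ∨ U = P) ∧ (p ≠ 2 → ∀ x ∈ P, x ^ p = 1) := by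
  classical
  have hpp : p.Prime := Fact.out
  have hAP : A ≤ Subgroup.normalizer (P : Set X) := hAB.trans hBP
  have hPA : ⁅P, A⁆ = P := hh_commutator_eq B A P hP hBP hAB hAn hAp hnt hmin
  -- P nontrivial
  have hPne : P ≠ ⊥ := by
    intro h
    apply hnt
    rw [h]; exact Subgroup.commutator_bot_left A
  haveI : Nontrivial P := (Subgroup.nontrivial_iff_ne_bot P).mpr hPne
  set Φ' : Subgroup X := (frattini ↥P).map P.subtype with hΦ'
  have hinj : Function.Injective (Subgroup.map P.subtype) :=
    Subgroup.map_injective P.subtype_injective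
  have htop : (⊤ : Subgroup P).map P.subtype = P := by
    rw [← MonoidHom.range_eq_map, Subgroup.range_subtype]
  have hΦle : Φ' ≤ P := Subgroup.map_subtype_le _
  have hΦlt : Φ' < P := by
    refine lt_of_le_of_ne hΦle ?_
    intro he
    exact Cfsg.Agent.Lib.Helper5.h5_frattini_ne_top_of_nontrivial (hinj (he.trans htop.symm))
  have hBΦ : B ≤ Subgroup.normalizer (Φ' : Set X) :=
    le_normalizer_map_characteristic P B hBP (frattini ↥P)
  have hPΦ : P ≤ Subgroup.normalizer (Φ' : Set X) :=
    le_normalizer_map_characteristic P P Subgroup.le_normalizer (frattini ↥P)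
  have hcommΦ : ⁅P, P⁆ ≤ Φ' := by
    rw [← Subgroup.map_subtype_commutator]
    exact Subgroup.map_mono (Cfsg.Agent.Lib.Helper1.pgroup_commutator_le_frattini hP)
  have hCA : P ⊓ Subgroup.centralizer (A : Set X) ≤ Φ' :=
    hh_fixed_le A P Φ' hP hAP hcommΦ hPA hAp
  -- every proper B-invariant subgroup lies in Φ'
  have hF : ∀ U : Subgroup X, U < P → B ≤ Subgroup.normalizer (U : Set X) → U ≤ Φ' := by
    intro U hU hBU
    have h1 := hmin U hU hBU
    rw [Subgroup.commutator_eq_bot_iff_le_centralizer] at h1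
    exact (le_inf hU.le h1).trans hCA
  have hΦA : ⁅Φ', A⁆ = ⊥ := hmin Φ' hΦlt hBΦ
  have hΦC : Φ' ≤ Subgroup.centralizer (P : Set X) :=
    hh_central_of_centralized A P Φ' hPA hPΦ hΦA
  have hΦCA : Φ' ≤ Subgroup.centralizer (A : Set X) :=
    Subgroup.commutator_eq_bot_iff_le_centralizer.mp hΦA
  have hcl : ⁅P, P⁆ ≤ Subgroup.centralizer (P : Set X) := hcommΦ.trans hΦC
  have hpowΦ : ∀ x ∈ P, x ^ p ∈ Φ' := by
    intro x hx
    refine ⟨⟨x, hx⟩ ^ p, Cfsg.Agent.Lib.Helper1.pgroup_pow_mem_frattini hP _, ?_⟩
    simp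
  refine ⟨hPA, ?_, ?_, ?_⟩
  · -- elementary abelian or special
    by_cases hab : ⁅P, P⁆ = ⊥
    · left
      have hab' : IsMulCommutative P := Subgroup.commutator_self_eq_bot_iff.mp hab
      exact ⟨hab', hh_abelian B A P hP hBP hAB hAp hnt hmin hab'⟩
    · right
      -- centre
      have hBZ : B ≤ Subgroup.normalizer (((Subgroup.center ↥P).map P.subtype : Subgroup X) : Set X) :=
        le_normalizer_map_characteristic P B hBP (Subgroup.center ↥P)
      have hZle : (Subgroup.center ↥P).map P.subtype ≤ P := Subgroup.map_subtype_le _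
      have hZlt : (Subgroup.center ↥P).map P.subtype < P := by
        refine lt_of_le_of_ne hZle ?_
        intro he
        have h1 : Subgroup.center ↥P = ⊤ := hinj (he.trans htop.symm)
        have h2 : IsMulCommutative P := Subgroup.center_eq_top_iff.mp h1
        exact hab (Subgroup.commutator_self_eq_bot_iff.mpr h2)
      have hZΦ : (Subgroup.center ↥P).map P.subtype ≤ Φ' := hF _ hZlt hBZ
      have h1 : Subgroup.center ↥P ≤ frattini ↥P :=
        (Subgroup.map_le_map_iff_of_injective P.subtype_injective).mp hZΦ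
      have h2 : frattini ↥P ≤ Subgroup.center ↥P := by
        intro y hy
        rw [Subgroup.mem_center_iff]
        intro z
        have hyΦ : (y : X) ∈ Φ' := ⟨y, hy, rfl⟩
        have := hΦC hyΦ
        rw [Subgroup.mem_centralizer_iff] at this
        apply Subtype.ext
        exact this z z.2
      have h3 : frattini ↥P = Subgroup.center ↥P := le_antisymm h2 h1
      -- Φ' ≤ [P,P]
      have h4 : P ⊓ Subgroup.centralizer (A : Set X) ≤ ⁅P, P⁆ :=
        hh_fixed_le A P ⁅P, P⁆ hP hAP le_rfl hPA hAp
      have h5 : Φ' ≤ ⁅P, P⁆ := (le_inf hΦle hΦCA).trans h4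
      have h6 : ⁅P, P⁆ = Φ' := le_antisymm hcommΦ h5
      rw [← Subgroup.map_subtype_commutator] at h6
      have h7 : commutator ↥P = frattini ↥P := hinj h6
      exact ⟨hP, h3, h7.trans h3⟩
  · -- irreducibility
    intro U hΦU hUP hBU
    by_cases hUeq : U = P
    · right; exact hUeq
    · left
      exact le_antisymm (hF U (lt_of_le_of_ne hUP hUeq) hBU) hΦU
  · -- exponent
    intro hp2 x hx
    have hpow : ∀ x ∈ P, ∀ a ∈ A, a * x ^ p = x ^ p * a := by
      intro x hx a ha
      have := hΦCA (hpowΦ x hx)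
      rw [Subgroup.mem_centralizer_iff] at this
      exact this a ha
    have := hh_exponent hpp hp2 A P hAP hcl hpow
    rw [hPA] at this
    exact this x hx

end Cfsg.Agent.S3736
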