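import Cfsg.Statements.S5957

set_option autoImplicit false
open scoped MatrixGroups
open Cfsg

namespace Cfsg.Agent.S5957


section gen
variable {F : Type*} [Field F] {V : Type*} [AddCommGroup V] [Module F V]

theorem iSup_cons {t : ℕ} (A : Submodule F V) (D : Fin t → Submodule F V) :
    iSup (Fin.cons A D : Fin (t+1) → Submodule F V) = A ⊔ iSup D := by
  apply le_antisymm
  · apply iSup_le
    intro j
    refine Fin.cases ?_ (fun j' => ?_) j
    · simp
    · simp only [Fin.cons_succ]
      exact le_sup_of_le_right (le_iSup D j')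
  · apply sup_le
    · exact le_iSup_of_le 0 (by simp)
    · apply iSup_le
      intro j'
      exact le_iSup_of_le j'.succ (by simp)

theorem indep_cons {t : ℕ} (A : Submodule F V) (D : Fin t → Submodule F V)
    (hD : iSupIndep D) (hA : Disjoint A (iSup D)) :
    iSupIndep (Fin.cons A D : Fin (t+1) → Submodule F V) := by
  rw [iSupIndep_def]
  intro i
  refine Fin.cases ?_ (fun i' => ?_) i
  · simp only [Fin.cons_zero]
    refine hA.mono_right ?_
    apply iSup₂_le
    intro j hj
    obtain ⟨j', rfl⟩ := Fin.exists_succ_eq_of_ne_zero hj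
    simp only [Fin.cons_succ]
    exact le_iSup D j'
  · simp only [Fin.cons_succ]
    have h1 : Disjoint (D i') (⨆ (j) (_ : j ≠ i'), D j) := (iSupIndep_def.mp hD) i'
    have h2 : Disjoint (D i' ⊔ ⨆ (j) (_ : j ≠ i'), D j) A := by
      refine (hA.mono_right ?_).symm
      apply sup_le (le_iSup D i')
      exact iSup₂_le (fun j _ => le_iSup D j)
    have h3 := h1.disjoint_sup_right_of_disjoint_sup_left h2
    refine h3.mono_right ?_
    apply iSup₂_le
    intro j hj
    revert hj
    refine Fin.cases ?_ (fun j' => ?_) j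
    · intro _
      simp only [Fin.cons_zero]
      exact le_sup_right
    · intro hj
      simp only [Fin.cons_succ]
      have : j' ≠ i' := fun h => hj (by rw [h])
      exact le_sup_of_le_left (le_iSup₂_of_le j' this le_rfl)

theorem split [FiniteDimensional F V] (L : Submodule F V) (i : ℕ) (hi : i ≤ Module.finrank F L) :
    ∃ L₀ L₁ : Submodule F V, L₀ ⊔ L₁ = L ∧ Disjoint L₀ L₁ ∧ Module.finrank F L₀ = i ∧
      Module.finrank F L₁ = Module.finrank F L - i := by
  obtain ⟨f, hf⟩ := exists_linearIndependent_of_le_finrank hi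
  have hf' : LinearIndependent F (fun k => (f k : V)) :=
    hf.map' L.subtype (Submodule.ker_subtype L)
  set L₀ : Submodule F V := Submodule.span F (Set.range (fun k => (f k : V))) with hL₀
  have hle : L₀ ≤ L := by
    rw [hL₀, Submodule.span_le]
    rintro _ ⟨k, rfl⟩
    exact (f k).2
  have hd0 : Module.finrank F L₀ = i := by
    rw [hL₀, finrank_span_eq_card hf']
    simp
  obtain ⟨C, hC⟩ := Submodule.exists_isCompl L₀
  refine ⟨L₀, C ⊓ L, ?_, ?_, hd0, ?_⟩
  · rw [← sup_inf_assoc_of_le C hle, hC.sup_eq_top, top_inf_eq]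
  · exact hC.disjoint.mono_right inf_le_left
  · have h1 : L₀ ⊔ (C ⊓ L) = L := by
      rw [← sup_inf_assoc_of_le C hle, hC.sup_eq_top, top_inf_eq]
    have h2 : L₀ ⊓ (C ⊓ L) = ⊥ := by
      have := hC.disjoint.mono_right (inf_le_left : C ⊓ L ≤ C)
      exact this.eq_bot
    have h3 := Submodule.finrank_sup_add_finrank_inf_eq L₀ (C ⊓ L)
    rw [h1, h2, finrank_bot, hd0] at h3
    omega

end gen

section inv
variable {F : Type*} [Field F] {V : Type*} [AddCommGroup V] [Module F V]
  (X : V →ₗ[F] V) (z : F)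

theorem inj_X (hz : z ≠ 0) (hX : ∀ v, X (X v) = z • v) : Function.Injective X := by
  intro u v huv
  have h1 : z • u = z • v := by rw [← hX u, ← hX v, huv]
  exact smul_right_injective V hz h1

theorem map_map_X (hz : z ≠ 0) (hX : ∀ v, X (X v) = z • v) (S : Submodule F V) :
    (S.map X).map X = S := by
  rw [← Submodule.map_comp]
  have : X ∘ₗ X = z • LinearMap.id := LinearMap.ext (fun v => by simp [hX])
  rw [this, Submodule.map_smul _ _ z hz, Submodule.map_id]

theorem map_eig (hz : z ≠ 0) (hX : ∀ v, X (X v) = z • v) (K : Submodule F V)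
    (h : ∀ v ∈ K, ∃ c : F, X v = c • v) : K.map X = K := by
  apply le_antisymm
  · rintro _ ⟨v, hv, rfl⟩
    obtain ⟨c, hc⟩ := h v hv
    rw [hc]
    exact K.smul_mem c hv
  · intro v hv
    obtain ⟨c, hc⟩ := h v hv
    refine ⟨z⁻¹ • X v, ?_, ?_⟩
    · rw [hc]
      exact K.smul_mem _ (K.smul_mem _ hv)
    · rw [map_smul, hX, smul_smul, inv_mul_cancel₀ hz, one_smul]

theorem finrank_map_X [FiniteDimensional F V] (hz : z ≠ 0) (hX : ∀ v, X (X v) = z • v)
    (S : Submodule F V) : Module.finrank F (S.map X) = Module.finrank F S :=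
  (Submodule.equivMapOfInjective X (inj_X X z hz hX) S).finrank_eq.symm

theorem dimM [FiniteDimensional F V] (hz : z ≠ 0) (hX : ∀ v, X (X v) = z • v)
    (L K : Submodule F V) (h1 : Disjoint L (L.map X)) (h3 : Disjoint (L ⊔ L.map X) K) :
    Module.finrank F ↥(L ⊔ L.map X ⊔ K) = 2 * Module.finrank F L + Module.finrank F K := by
  have e1 := Submodule.finrank_sup_add_finrank_inf_eq L (L.map X)
  have e2 := Submodule.finrank_sup_add_finrank_inf_eq (L ⊔ L.map X) K
  rw [h1.eq_bot, finrank_bot, finrank_map_X X z hz hX] at e1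
  rw [h3.eq_bot, finrank_bot] at e2
  omega

end inv

section main
variable {F : Type*} [Field F] {V : Type*} [AddCommGroup V] [Module F V] [FiniteDimensional F V]
  (X : V →ₗ[F] V) (z : F)

theorem disj_of_dim (A B : Submodule F V)
    (h : Module.finrank F A + Module.finrank F B ≤ Module.finrank F ↥(A ⊔ B)) : Disjoint A B := by
  have e := Submodule.finrank_sup_add_finrank_inf_eq A B
  rw [disjoint_iff, ← Submodule.finrank_eq_zero]
  omega

theorem decomp (hz : z ≠ 0) (hX : ∀ v, X (X v) = z • v) (a : ℕ) (ha : 1 ≤ a) :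
    ∀ (t : ℕ) (L K : Submodule F V), Disjoint L (L.map X) → (∀ v ∈ K, ∃ c : F, X v = c • v) →
      Disjoint (L ⊔ L.map X) K → 2 * Module.finrank F L + Module.finrank F K = a * t →
      ∃ D : Fin t → Submodule F V, (∀ j, Module.finrank F (D j) = a) ∧ iSupIndep D ∧
        iSup D = L ⊔ L.map X ⊔ K ∧ ∀ j, ∃ k, (D j).map X = D k := by
  intro t
  induction t using Nat.strong_induction_on with
  | _ t ih =>
  intro L K h1 h2 h3 hdim
  rcases t with _ | t
  · have hL : L = ⊥ := by
      rw [← Submodule.finrank_eq_zero]; omega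
    have hK : K = ⊥ := by
      rw [← Submodule.finrank_eq_zero]; omega
    refine ⟨fun j => j.elim0, fun j => j.elim0, iSupIndep_subsingleton _, ?_, fun j => j.elim0⟩
    rw [iSup_of_empty, hL, hK]
    simp
  · by_cases hcase : a / 2 < Module.finrank F L ∧ a % 2 = 1 ∧ Module.finrank F K = 0
    · obtain ⟨hc1, hc2, hc3⟩ := hcase
      have hK : K = ⊥ := by
        rw [← Submodule.finrank_eq_zero]; exact hc3
      rcases t with _ | t
      · exfalso
        rw [hc3] at hdim
        omega
      · have hdim' : 2 * Module.finrank F L = a * t + 2 * a := by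
          rw [hc3] at hdim
          have : a * (t + 1 + 1) = a * t + 2 * a := by ring
          omega
        obtain ⟨L₀, L₁, hL, hLd, hL0, hL1⟩ := split L a (by omega)
        have hL₁le : L₁ ≤ L := hL ▸ le_sup_right
        have hL₀le : L₀ ≤ L := hL ▸ le_sup_left
        have g1 : Disjoint L₁ (L₁.map X) := h1.mono hL₁le (Submodule.map_mono hL₁le)
        have g3 : Disjoint (L₁ ⊔ L₁.map X) K :=
          h3.mono_left (sup_le_sup hL₁le (Submodule.map_mono hL₁le))
        obtain ⟨D', hD1, hD2, hD3, hD4⟩ := ih t (by omega) L₁ K g1 h2 g3 (by omega)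
        have hM1 : Module.finrank F ↥(L₁ ⊔ L₁.map X ⊔ K) = a * t := by
          rw [dimM X z hz hX L₁ K g1 g3]; omega
        have hM : Module.finrank F ↥(L ⊔ L.map X ⊔ K) = a * t + 2 * a := by
          rw [dimM X z hz hX L K h1 h3]; omega
        have hsup : L₀ ⊔ (L₀.map X ⊔ (L₁ ⊔ L₁.map X ⊔ K)) = L ⊔ L.map X ⊔ K := by
          rw [← hL, Submodule.map_sup]
          ac_rfl
        have hX0 : Module.finrank F (L₀.map X) = a := by
          rw [finrank_map_X X z hz hX, hL0]
        have hle1 : Module.finrank F ↥(L₀.map X ⊔ (L₁ ⊔ L₁.map X ⊔ K)) ≤ a + a * t := by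
          have := Submodule.finrank_add_le_finrank_add_finrank (L₀.map X) (L₁ ⊔ L₁.map X ⊔ K)
          omega
        have hle2 : Module.finrank F ↥(L₀ ⊔ (L₀.map X ⊔ (L₁ ⊔ L₁.map X ⊔ K))) ≤
            a + Module.finrank F ↥(L₀.map X ⊔ (L₁ ⊔ L₁.map X ⊔ K)) := by
          have := Submodule.finrank_add_le_finrank_add_finrank L₀ (L₀.map X ⊔ (L₁ ⊔ L₁.map X ⊔ K))
          omega
        rw [hsup, hM] at hle2
        have d1 : Disjoint (L₀.map X) (L₁ ⊔ L₁.map X ⊔ K) := by
          apply disj_of_dim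
          omega
        have d2 : Disjoint L₀ (L₀.map X ⊔ (L₁ ⊔ L₁.map X ⊔ K)) := by
          apply disj_of_dim
          rw [hsup, hM]
          omega
        refine ⟨Fin.cons L₀ (Fin.cons (L₀.map X) D'), ?_, ?_, ?_, ?_⟩
        · intro j
          refine Fin.cases ?_ (fun j => ?_) j
          · exact hL0
          · refine Fin.cases ?_ (fun j => ?_) j
            · exact hX0
            · exact hD1 j
        · apply indep_cons
          · apply indep_cons _ _ hD2
            rw [hD3]; exact d1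
          · rw [iSup_cons, hD3]; exact d2
        · rw [iSup_cons, iSup_cons, hD3, hsup]
        · intro j
          refine Fin.cases ?_ (fun j => ?_) j
          · exact ⟨Fin.succ 0, by simp⟩
          · refine Fin.cases ?_ (fun j => ?_) j
            · exact ⟨0, by simp [map_map_X X z hz hX]⟩
            · obtain ⟨k, hk⟩ := hD4 j
              exact ⟨k.succ.succ, by simpa using hk⟩
    · have hexp : a * (t + 1) = a * t + a := by ring
      obtain ⟨i, hi1, hi2, hi3⟩ : ∃ i : ℕ, i ≤ Module.finrank F L ∧ 2 * i ≤ a ∧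
          a - 2 * i ≤ Module.finrank F K := by
        by_cases hs : Module.finrank F L ≤ a / 2
        · exact ⟨Module.finrank F L, le_rfl, by omega, by omega⟩
        · refine ⟨a / 2, by omega, by omega, ?_⟩
          by_contra hcon
          apply hcase
          omega
      obtain ⟨L₀, L₁, hL, hLd, hL0, hL1⟩ := split L i hi1
      obtain ⟨K₀, K₁, hK, hKd, hK0, hK1⟩ := split K (a - 2 * i) hi3
      have hL₁le : L₁ ≤ L := hL ▸ le_sup_right
      have hL₀le : L₀ ≤ L := hL ▸ le_sup_left
      have hK₁le : K₁ ≤ K := hK ▸ le_sup_right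
      have hK₀le : K₀ ≤ K := hK ▸ le_sup_left
      have g1 : Disjoint L₁ (L₁.map X) := h1.mono hL₁le (Submodule.map_mono hL₁le)
      have g2 : ∀ v ∈ K₁, ∃ c : F, X v = c • v := fun v hv => h2 v (hK₁le hv)
      have g3 : Disjoint (L₁ ⊔ L₁.map X) K₁ :=
        h3.mono (sup_le_sup hL₁le (Submodule.map_mono hL₁le)) hK₁le
      have f1 : Disjoint L₀ (L₀.map X) := h1.mono hL₀le (Submodule.map_mono hL₀le)
      have f2 : ∀ v ∈ K₀, ∃ c : F, X v = c • v := fun v hv => h2 v (hK₀le hv)
      have f3 : Disjoint (L₀ ⊔ L₀.map X) K₀ :=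
        h3.mono (sup_le_sup hL₀le (Submodule.map_mono hL₀le)) hK₀le
      obtain ⟨D', hD1, hD2, hD3, hD4⟩ := ih t (by omega) L₁ K₁ g1 g2 g3 (by omega)
      have hM1 : Module.finrank F ↥(L₁ ⊔ L₁.map X ⊔ K₁) = a * t := by
        rw [dimM X z hz hX L₁ K₁ g1 g3]; omega
      have hM0 : Module.finrank F ↥(L₀ ⊔ L₀.map X ⊔ K₀) = a := by
        rw [dimM X z hz hX L₀ K₀ f1 f3]; omega
      have hM : Module.finrank F ↥(L ⊔ L.map X ⊔ K) = a * t + a := by
        rw [dimM X z hz hX L K h1 h3]; omega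
      have hsup : (L₀ ⊔ L₀.map X ⊔ K₀) ⊔ (L₁ ⊔ L₁.map X ⊔ K₁) = L ⊔ L.map X ⊔ K := by
        rw [← hL, ← hK, Submodule.map_sup]
        ac_rfl
      have d1 : Disjoint (L₀ ⊔ L₀.map X ⊔ K₀) (L₁ ⊔ L₁.map X ⊔ K₁) := by
        apply disj_of_dim
        rw [hsup, hM]
        omega
      refine ⟨Fin.cons (L₀ ⊔ L₀.map X ⊔ K₀) D', ?_, ?_, ?_, ?_⟩
      · intro j
        refine Fin.cases ?_ (fun j => ?_) j
        · exact hM0
        · exact hD1 j
      · apply indep_cons _ _ hD2
        rw [hD3]; exact d1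
      · rw [iSup_cons, hD3, hsup]
      · intro j
        refine Fin.cases ?_ (fun j => ?_) j
        · refine ⟨0, ?_⟩
          simp only [Fin.cons_zero, Submodule.map_sup, map_map_X X z hz hX,
            map_eig X z hz hX K₀ f2]
          rw [sup_comm L₀]
        · obtain ⟨k, hk⟩ := hD4 j
          exact ⟨k.succ, by simpa using hk⟩

theorem exists_good (hz : z ≠ 0) (hX : ∀ v, X (X v) = z • v) :
    ∃ L K : Submodule F V, Disjoint L (L.map X) ∧ (∀ v ∈ K, ∃ c : F, X v = c • v) ∧
      Disjoint (L ⊔ L.map X) K ∧ L ⊔ L.map X ⊔ K = ⊤ := by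
  have hinj := inj_X X z hz hX
  obtain ⟨L, hL, hmax⟩ : ∃ L : Submodule F V, Disjoint L (L.map X) ∧
      ∀ L' : Submodule F V, Disjoint L' (L'.map X) → L ≤ L' → L' = L := by
    have wf : WellFounded ((· > ·) : Submodule F V → Submodule F V → Prop) := wellFounded_gt
    obtain ⟨L, hL, hmin⟩ := wf.has_min {L : Submodule F V | Disjoint L (L.map X)}
      ⟨⊥, by simp⟩
    refine ⟨L, hL, fun L' hL' hle => ?_⟩
    by_contra hne
    exact hmin L' hL' (lt_of_le_of_ne hle (Ne.symm hne))
  let f : (L × L) →ₗ[F] V := L.subtype.coprod (X ∘ₗ L.subtype)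
  have hfa : ∀ a b : L, f (a, b) = (a : V) + X (b : V) := by
    intro a b
    simp [f]
  have hf : LinearMap.ker f = ⊥ := by
    rw [LinearMap.ker_eq_bot']
    rintro ⟨a, b⟩ hab
    rw [hfa] at hab
    have h1 : (a : V) ∈ L.map X := by
      refine ⟨-(b : V), L.neg_mem b.2, ?_⟩
      rw [map_neg]
      exact (eq_neg_of_add_eq_zero_left hab).symm
    have ha0 : (a : V) = 0 := by
      have := (Submodule.disjoint_def.mp hL) (a : V) a.2 h1
      exact this
    rw [ha0, zero_add] at hab
    have hb0 : (b : V) = 0 := hinj (by rw [hab, map_zero])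
    ext <;> simp [ha0, hb0]
  obtain ⟨g, hg⟩ := LinearMap.exists_leftInverse_of_injective f hf
  have hg' : ∀ a b : L, g ((a : V) + X (b : V)) = (a, b) := by
    intro a b
    rw [← hfa]
    exact LinearMap.congr_fun hg (a, b)
  let ψ : V →ₗ[F] V := L.subtype ∘ₗ (LinearMap.snd F L L) ∘ₗ g
  have hψL : ∀ v, ψ v ∈ L := fun v => Submodule.coe_mem _
  have hψ1 : ∀ ℓ ∈ L, ψ ℓ = 0 := by
    intro ℓ hℓ
    have := hg' ⟨ℓ, hℓ⟩ 0
    simp only [ZeroMemClass.coe_zero, map_zero, add_zero] at this
    simp [ψ, this]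
  have hψ2 : ∀ ℓ ∈ L, ψ (X ℓ) = ℓ := by
    intro ℓ hℓ
    have := hg' 0 ⟨ℓ, hℓ⟩
    simp only [ZeroMemClass.coe_zero, zero_add] at this
    simp [ψ, this]
  let π : V →ₗ[F] V := ψ ∘ₗ X + X ∘ₗ ψ
  have hπ : ∀ v, π v = ψ (X v) + X (ψ v) := fun v => by simp [π]
  have hπX : ∀ v, π (X v) = X (π v) := by
    intro v
    rw [hπ, hπ, hX, map_add, hX, map_smul, add_comm]
  have hπr : ∀ v, π v ∈ L ⊔ L.map X := by
    intro v
    rw [hπ]
    exact Submodule.add_mem_sup (hψL _) (Submodule.mem_map_of_mem (hψL _))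
  have hπU : ∀ u ∈ L ⊔ L.map X, π u = u := by
    intro u hu
    obtain ⟨a, ha, b, hb, rfl⟩ := Submodule.mem_sup.mp hu
    obtain ⟨b', hb', rfl⟩ := hb
    rw [map_add, hπ a, hπ (X b'), hψ2 a ha, hψ1 a ha, hX, map_smul, hψ1 b' hb', hψ2 b' hb']
    simp
  have hdisj : Disjoint (L ⊔ L.map X) (LinearMap.ker π) := by
    rw [Submodule.disjoint_def]
    intro u hu hk
    rw [← hπU u hu]
    exact hk
  have htop : L ⊔ L.map X ⊔ LinearMap.ker π = ⊤ := by
    rw [eq_top_iff]
    intro v _
    have h1 : v - π v ∈ LinearMap.ker π := by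
      rw [LinearMap.mem_ker, map_sub, hπU _ (hπr v), sub_self]
    have : v = π v + (v - π v) := by abel
    rw [this]
    exact Submodule.add_mem_sup (hπr v) h1
  refine ⟨L, LinearMap.ker π, hL, ?_, hdisj, htop⟩
  intro v hv
  by_contra hcon
  have hcon' : ∀ c : F, X v ≠ c • v := fun c hc => hcon ⟨c, hc⟩
  have hv0 : v ≠ 0 := by
    rintro rfl
    exact hcon' 0 (by simp)
  have hXv : X v ∈ LinearMap.ker π := by
    rw [LinearMap.mem_ker, hπX, LinearMap.mem_ker.mp hv, map_zero]
  have hvL : v ∉ L := by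
    intro hvL
    apply hv0
    exact (Submodule.disjoint_def.mp hdisj) v (le_sup_left (a := L) hvL) hv
  have key : Disjoint (L ⊔ Submodule.span F {v}) ((L ⊔ Submodule.span F {v}).map X) := by
    rw [Submodule.disjoint_def]
    intro y hy1 hy2
    obtain ⟨ℓ, hℓ, w, hw, rfl⟩ := Submodule.mem_sup.mp hy1
    obtain ⟨α, rfl⟩ := Submodule.mem_span_singleton.mp hw
    obtain ⟨y', hy', hy'eq⟩ := hy2
    obtain ⟨ℓ', hℓ', w', hw', rfl⟩ := Submodule.mem_sup.mp hy'
    obtain ⟨β, rfl⟩ := Submodule.mem_span_singleton.mp hw'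
    rw [map_add, map_smul] at hy'eq
    have e1 : ℓ - X ℓ' = β • X v - α • v := by
      rw [sub_eq_sub_iff_add_eq_add, add_comm (β • X v), ← hy'eq]
    have m1 : ℓ - X ℓ' ∈ L ⊔ L.map X :=
      Submodule.sub_mem _ (le_sup_left (a := L) hℓ)
        (le_sup_right (a := L) (Submodule.mem_map_of_mem hℓ'))
    have m2 : ℓ - X ℓ' ∈ LinearMap.ker π := by
      rw [e1]
      exact Submodule.sub_mem _ (Submodule.smul_mem _ _ hXv) (Submodule.smul_mem _ _ hv)
    have e2 : ℓ - X ℓ' = 0 := (Submodule.disjoint_def.mp hdisj) _ m1 m2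
    have e3 : β • X v = α • v := by
      rw [e2] at e1
      exact (sub_eq_zero.mp e1.symm)
    have hβ : β = 0 := by
      by_contra hβ
      apply hcon' (β⁻¹ * α)
      rw [mul_smul, ← e3, smul_smul, inv_mul_cancel₀ hβ, one_smul]
    have hα : α = 0 := by
      rw [hβ, zero_smul] at e3
      rcases smul_eq_zero.mp e3.symm with h | h
      · exact h
      · exact absurd h hv0
    rw [hα, zero_smul, add_zero]
    have e4 : ℓ = X ℓ' := sub_eq_zero.mp e2
    exact (Submodule.disjoint_def.mp hL) ℓ hℓ (e4 ▸ Submodule.mem_map_of_mem hℓ')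
  have := hmax _ key le_sup_left
  apply hvL
  rw [← this]
  exact le_sup_right (a := L) (Submodule.mem_span_singleton_self v)

theorem main_decomp (hz : z ≠ 0) (hX : ∀ v, X (X v) = z • v) (a t : ℕ) (ha : 1 ≤ a)
    (hdim : Module.finrank F V = a * t) :
    ∃ D : Fin t → Submodule F V, (∀ j, Module.finrank F (D j) = a) ∧ iSupIndep D ∧
      iSup D = ⊤ ∧ ∃ σ : Equiv.Perm (Fin t), ∀ j, (D j).map X = D (σ j) := by
  obtain ⟨L, K, h1, h2, h3, h4⟩ := exists_good X z hz hX
  have hd := dimM X z hz hX L K h1 h3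
  rw [h4, finrank_top, hdim] at hd
  obtain ⟨D, hD1, hD2, hD3, hD4⟩ := decomp X z hz hX a ha t L K h1 h2 h3 hd.symm
  refine ⟨D, hD1, hD2, hD3.trans h4, ?_⟩
  choose σ hσ using hD4
  have hDinj : Function.Injective D := by
    apply hD2.injective
    intro j hj
    have := hD1 j
    rw [hj, finrank_bot] at this
    omega
  have hσinj : Function.Injective σ := by
    intro j j' hjj
    apply hDinj
    have e : (D j).map X = (D j').map X := by rw [hσ, hσ, hjj]
    exact Submodule.map_injective_of_injective (inj_X X z hz hX) e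
  exact ⟨Equiv.ofBijective σ (Finite.injective_iff_bijective.mp hσinj), fun j => by simpa using hσ j⟩

end main

/-- Involutions of PSL_n(q) and imprimitive subgroups. Here `T = PSL_n(F)` for a field `F` with `q = p^f` elements (`n ≥ 2`, `(n, q) ≠ (2, 2), (2, 3)`), `n = a·t` with `t ≥ 2`, and Ω is the set of direct-sum decompositions of `F^n` into `t` subspaces of dimension `a` (unordered; their number is the number of ordered ones divided by `t!`), whose stabilizers are the imprimitive subgroups of type GL_a(q) ≀ S_t (maximal except in some small cases; maximality is not assumed); an element of `T` of prime order `r` (a matrix `x` of determinant 1 with `x^r` scalar, `x` not scalar) fixes a point of Ω when it permutes the summands of some such decomposition. If the number of such decompositions is even, then every involution of `T` stabilizes one of them (the action is 2-elusive). -/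
theorem result {F : Type*} [Field F] [Fintype F] {p : ℕ} [Fact p.Prime] [CharP F p] {q : ℕ} (hq : Fintype.card F = q)
    (n a t : ℕ) (hn : 2 ≤ n) (hT : (n, q) ≠ (2, 2) ∧ (n, q) ≠ (2, 3)) (hat : n = a * t) (ha : 1 ≤ a) (ht : 2 ≤ t)
    (hΩ : 2 ∣ Nat.card {D : Fin t → Submodule F (Fin n → F) // Cfsg.Geo.IsMDecomposition a D} / Nat.factorial t)
    (x : Matrix.SpecialLinearGroup (Fin n) F)
    (hx1 : ∃ z : F, ((x ^ 2 : Matrix.SpecialLinearGroup (Fin n) F) : Matrix (Fin n) (Fin n) F) = z • (1 : Matrix (Fin n) (Fin n) F))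
    (hx2 : ∀ z : F, (x : Matrix (Fin n) (Fin n) F) ≠ z • (1 : Matrix (Fin n) (Fin n) F)) :
    ∃ D : Fin t → Submodule F (Fin n → F), Cfsg.Geo.IsMDecomposition a D ∧
        ∃ σ : Equiv.Perm (Fin t), ∀ j, (D j).map (Matrix.toLin' (x : Matrix (Fin n) (Fin n) F)) = D (σ j) := by
  obtain ⟨z, hz⟩ := hx1
  have hxx : (x : Matrix (Fin n) (Fin n) F) * (x : Matrix (Fin n) (Fin n) F) = z • 1 := by
    rw [← hz, Matrix.SpecialLinearGroup.coe_pow, pow_two]
  have hne : Nonempty (Fin n) := ⟨⟨0, by omega⟩⟩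
  have hz0 : z ≠ 0 := by
    rintro rfl
    have h1 : ((x : Matrix (Fin n) (Fin n) F) * (x : Matrix (Fin n) (Fin n) F)).det = 1 := by
      rw [Matrix.det_mul, x.det_coe, one_mul]
    rw [hxx, zero_smul, Matrix.det_zero] at h1
    exact zero_ne_one h1
  have hX : ∀ v, Matrix.toLin' (x : Matrix (Fin n) (Fin n) F)
      (Matrix.toLin' (x : Matrix (Fin n) (Fin n) F) v) = z • v := by
    intro v
    rw [Matrix.toLin'_apply, Matrix.toLin'_apply, Matrix.mulVec_mulVec, hxx,
      Matrix.smul_mulVec, Matrix.one_mulVec]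
  obtain ⟨D, hD1, hD2, hD3, σ, hσ⟩ := main_decomp (Matrix.toLin' (x : Matrix (Fin n) (Fin n) F))
    z hz0 hX a t ha (by rw [Module.finrank_fin_fun, hat])
  exact ⟨D, ⟨ht, ha, hD1, hD2, hD3⟩, σ, hσ⟩

end Cfsg.Agent.S5957
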