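import Cfsg.Statements.S5962

import Cfsg.Agent.Lib.helper6.SympBasis
set_option autoImplicit false
open scoped MatrixGroups
open Cfsg

namespace Cfsg.Agent.S5962


open Cfsg.Agent.Lib.helper6 Cfsg.Agent.Lib.helper6.SB

section gen
variable {F : Type*} [Field F] (d : ℕ)

local notation "ω" => Cfsg.sympForm d F

def Good (U W : Submodule F (Fin d ⊕ Fin d → F)) : Prop :=
  (∀ u ∈ U, ∀ u' ∈ U, ω u u' = 0) ∧ (∀ w ∈ W, ∀ w' ∈ W, ω w w' = 0) ∧
  (∀ u ∈ U, (∀ w ∈ W, ω u w = 0) → u = 0) ∧ (∀ w ∈ W, (∀ u ∈ U, ω u w = 0) → w = 0)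

theorem good_disj {U W : Submodule F (Fin d ⊕ Fin d → F)} (h : Good d U W) : Disjoint U W := by
  rw [Submodule.disjoint_def]
  intro u hu hw
  exact h.2.2.1 u hu (fun w hw' => h.2.1 u hw w hw')

theorem good_nondeg {U W : Submodule F (Fin d ⊕ Fin d → F)} (h : Good d U W) :
    ∀ m ∈ U ⊔ W, (∀ v ∈ U ⊔ W, ω m v = 0) → m = 0 := by
  intro m hm hmv
  obtain ⟨u, hu, w, hw, rfl⟩ := Submodule.mem_sup.mp hm
  have hu0 : u = 0 := by
    apply h.2.2.1 u hu
    intro w' hw'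
    have := hmv w' (le_sup_right (a := U) hw')
    rw [sympForm_add_left, h.2.1 w hw w' hw', add_zero] at this
    exact this
  have hw0 : w = 0 := by
    apply h.2.2.2 w hw
    intro u' hu'
    have := hmv u' (le_sup_left (b := W) hu')
    rw [sympForm_add_left, h.1 u hu u' hu', zero_add] at this
    rw [sympForm_swap, this, neg_zero]
  rw [hu0, hw0, add_zero]

theorem ext_good {U W : Submodule F (Fin d ⊕ Fin d → F)} (h : Good d U W)
    (u w : Fin d ⊕ Fin d → F) (hu : u ∈ orth d (U ⊔ W)) (hw : w ∈ orth d (U ⊔ W))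
    (huw : ω u w ≠ 0) : Good d (U ⊔ Submodule.span F {u}) (W ⊔ Submodule.span F {w}) := by
  have hu1 : ∀ m ∈ U ⊔ W, ω m u = 0 := (mem_orth d _ u).mp hu
  have hw1 : ∀ m ∈ U ⊔ W, ω m w = 0 := (mem_orth d _ w).mp hw
  have hu2 : ∀ m ∈ U ⊔ W, ω u m = 0 := fun m hm => by rw [sympForm_swap, hu1 m hm, neg_zero]
  have hw2 : ∀ m ∈ U ⊔ W, ω w m = 0 := fun m hm => by rw [sympForm_swap, hw1 m hm, neg_zero]
  have lU : U ≤ U ⊔ W := le_sup_left
  have lW : W ≤ U ⊔ W := le_sup_right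
  refine ⟨?_, ?_, ?_, ?_⟩
  · intro a ha b hb
    obtain ⟨a', ha', a'', ha'', rfl⟩ := Submodule.mem_sup.mp ha
    obtain ⟨b', hb', b'', hb'', rfl⟩ := Submodule.mem_sup.mp hb
    obtain ⟨α, rfl⟩ := Submodule.mem_span_singleton.mp ha''
    obtain ⟨β, rfl⟩ := Submodule.mem_span_singleton.mp hb''
    simp only [sympForm_add_left, sympForm_add_right, sympForm_smul_left, sympForm_smul_right,
      h.1 a' ha' b' hb', hu1 a' (lU ha'), hu2 b' (lU hb'), sympForm_self]
    ring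
  · intro a ha b hb
    obtain ⟨a', ha', a'', ha'', rfl⟩ := Submodule.mem_sup.mp ha
    obtain ⟨b', hb', b'', hb'', rfl⟩ := Submodule.mem_sup.mp hb
    obtain ⟨α, rfl⟩ := Submodule.mem_span_singleton.mp ha''
    obtain ⟨β, rfl⟩ := Submodule.mem_span_singleton.mp hb''
    simp only [sympForm_add_left, sympForm_add_right, sympForm_smul_left, sympForm_smul_right,
      h.2.1 a' ha' b' hb', hw1 a' (lW ha'), hw2 b' (lW hb'), sympForm_self]
    ring
  · intro a ha hab
    obtain ⟨a', ha', a'', ha'', rfl⟩ := Submodule.mem_sup.mp ha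
    obtain ⟨α, rfl⟩ := Submodule.mem_span_singleton.mp ha''
    have ha0 : a' = 0 := by
      apply h.2.2.1 a' ha'
      intro b hb
      have := hab b (le_sup_left (a := W) hb)
      rw [sympForm_add_left, sympForm_smul_left, hu2 b (lW hb), mul_zero, add_zero] at this
      exact this
    have := hab w (le_sup_right (a := W) (Submodule.mem_span_singleton_self w))
    rw [ha0, zero_add, sympForm_smul_left] at this
    rcases mul_eq_zero.mp this with h0 | h0
    · rw [ha0, h0, zero_smul, add_zero]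
    · exact absurd h0 huw
  · intro b hb hab
    obtain ⟨b', hb', b'', hb'', rfl⟩ := Submodule.mem_sup.mp hb
    obtain ⟨β, rfl⟩ := Submodule.mem_span_singleton.mp hb''
    have hb0 : b' = 0 := by
      apply h.2.2.2 b' hb'
      intro a ha
      have := hab a (le_sup_left (a := U) ha)
      rw [sympForm_add_right, sympForm_smul_right, hw1 a (lU ha), mul_zero, add_zero] at this
      exact this
    have := hab u (le_sup_right (a := U) (Submodule.mem_span_singleton_self u))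
    rw [hb0, zero_add, sympForm_smul_right] at this
    rcases mul_eq_zero.mp this with h0 | h0
    · rw [hb0, h0, zero_smul, add_zero]
    · exact absurd h0 huw

end gen

section maxi
variable {F : Type*} [Field F] (d : ℕ)
  (X : (Fin d ⊕ Fin d → F) →ₗ[F] (Fin d ⊕ Fin d → F)) (z : F)

local notation "ω" => Cfsg.sympForm d F

theorem orth_inv (hz : z ≠ 0) (hX : ∀ v, X (X v) = z • v)
    (hω : ∀ u v, ω (X u) (X v) = ω u v) (M : Submodule F (Fin d ⊕ Fin d → F))
    (hM : ∀ m ∈ M, X m ∈ M) : ∀ v ∈ orth d M, X v ∈ orth d M := by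
  intro v hv
  rw [mem_orth] at hv ⊢
  intro m hm
  have e : m = z⁻¹ • X (X m) := by
    rw [hX, smul_smul, inv_mul_cancel₀ hz, one_smul]
  rw [e, sympForm_smul_left, hω, hv _ (hM m hm), mul_zero]

theorem max_top (P : Submodule F (Fin d ⊕ Fin d → F) → Submodule F (Fin d ⊕ Fin d → F) → Prop)
    (hbot : P ⊥ ⊥)
    (hstep : ∀ U W, Good d U W → P U W → U ⊔ W ≠ ⊤ →
      ∃ u w, u ∈ orth d (U ⊔ W) ∧ w ∈ orth d (U ⊔ W) ∧ ω u w ≠ 0 ∧
        P (U ⊔ Submodule.span F {u}) (W ⊔ Submodule.span F {w})) :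
    ∃ U W, Good d U W ∧ P U W ∧ U ⊔ W = ⊤ := by
  have wf : WellFounded ((· > ·) : Submodule F (Fin d ⊕ Fin d → F) →
      Submodule F (Fin d ⊕ Fin d → F) → Prop) := wellFounded_gt
  obtain ⟨U, ⟨W, hG, hP⟩, hmin⟩ := wf.has_min
    {U : Submodule F (Fin d ⊕ Fin d → F) | ∃ W, Good d U W ∧ P U W}
    ⟨⊥, ⊥, ⟨by simp [sympForm_zero_left], by simp [sympForm_zero_left], by simp, by simp⟩, hbot⟩
  refine ⟨U, W, hG, hP, ?_⟩
  by_contra hne
  obtain ⟨u, w, hu, hw, huw, hP'⟩ := hstep U W hG hP hne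
  have hG' := ext_good d hG u w hu hw huw
  apply hmin (U ⊔ Submodule.span F {u}) ⟨_, hG', hP'⟩
  apply lt_of_le_of_ne le_sup_left
  intro heq
  have huU : u ∈ U := by
    rw [heq]
    exact le_sup_right (a := U) (Submodule.mem_span_singleton_self u)
  have hc := isCompl_orth d (U ⊔ W) (good_nondeg d hG)
  have hu0 : u = 0 :=
    (Submodule.disjoint_def.mp hc.disjoint) u (le_sup_left (b := W) huU) hu
  apply huw
  rw [hu0, sympForm_zero_left]

theorem orth_ne_bot {U W : Submodule F (Fin d ⊕ Fin d → F)} (hG : Good d U W)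
    (hne : U ⊔ W ≠ ⊤) : ∃ v ∈ orth d (U ⊔ W), v ≠ 0 := by
  have hc := isCompl_orth d (U ⊔ W) (good_nondeg d hG)
  by_contra hcon
  push Not at hcon
  apply hne
  have : orth d (U ⊔ W) = ⊥ := by
    rw [eq_bot_iff]
    intro v hv
    exact hcon v hv
  have h2 := hc.sup_eq_top
  rw [this, sup_bot_eq] at h2
  exact h2

theorem caseA (h2 : (2 : F) ≠ 0) (hX : ∀ v, X (X v) = v)
    (hω : ∀ u v, ω (X u) (X v) = ω u v) :
    ∃ U W, Good d U W ∧ ((∀ u ∈ U, X u ∈ U) ∧ (∀ w ∈ W, X w ∈ W)) ∧ U ⊔ W = ⊤ := by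
  apply max_top d (fun U W => (∀ u ∈ U, X u ∈ U) ∧ (∀ w ∈ W, X w ∈ W))
  · simp
  · intro U W hG hP hne
    have hXz : ∀ v, X (X v) = (1 : F) • v := fun v => by rw [hX, one_smul]
    have hMinv : ∀ m ∈ U ⊔ W, X m ∈ U ⊔ W := by
      intro m hm
      obtain ⟨a, ha, b, hb, rfl⟩ := Submodule.mem_sup.mp hm
      rw [map_add]
      exact Submodule.add_mem_sup (hP.1 a ha) (hP.2 b hb)
    have hNinv := orth_inv d X 1 one_ne_zero hXz hω (U ⊔ W) hMinv
    have hNnd := orth_nondeg d (U ⊔ W) (good_nondeg d hG)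
    obtain ⟨v, hv, hv0⟩ := orth_ne_bot d hG hne
    obtain ⟨u, ε, hu, hu0, hε, hXu⟩ : ∃ u ε, u ∈ orth d (U ⊔ W) ∧ u ≠ 0 ∧ ε * ε = (1 : F) ∧
        X u = ε • u := by
      by_cases h : v + X v = 0
      · refine ⟨v, -1, hv, hv0, by ring, ?_⟩
        rw [neg_one_smul]
        exact (eq_neg_of_add_eq_zero_right h)
      · refine ⟨v + X v, 1, Submodule.add_mem _ hv (hNinv v hv), h, by ring, ?_⟩
        rw [map_add, hX, one_smul, add_comm]
    obtain ⟨w₀, hw₀, hne0⟩ : ∃ w₀ ∈ orth d (U ⊔ W), ω u w₀ ≠ 0 := by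
      by_contra hcon
      push Not at hcon
      exact hu0 (hNnd u hu hcon)
    have hw : w₀ + ε • X w₀ ∈ orth d (U ⊔ W) :=
      Submodule.add_mem _ hw₀ (Submodule.smul_mem _ _ (hNinv w₀ hw₀))
    have e1 : ω u (X w₀) = ε * ω u w₀ := by
      have := hω u (X w₀)
      rw [hXu, hX, sympForm_smul_left] at this
      rw [← this]
    have e2 : ω u (w₀ + ε • X w₀) = 2 * ω u w₀ := by
      rw [sympForm_add_right, sympForm_smul_right, e1, ← mul_assoc, hε]
      ring
    have hXw : X (w₀ + ε • X w₀) = ε • (w₀ + ε • X w₀) := by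
      rw [map_add, map_smul, hX, smul_add, smul_smul, hε, one_smul, add_comm]
    refine ⟨u, w₀ + ε • X w₀, hu, hw, ?_, ?_, ?_⟩
    · rw [e2]
      exact mul_ne_zero h2 hne0
    · intro a ha
      obtain ⟨a', ha', a'', ha'', rfl⟩ := Submodule.mem_sup.mp ha
      obtain ⟨α, rfl⟩ := Submodule.mem_span_singleton.mp ha''
      rw [map_add, map_smul, hXu]
      exact Submodule.add_mem_sup (hP.1 a' ha')
        (Submodule.smul_mem _ _ (Submodule.smul_mem _ _ (Submodule.mem_span_singleton_self u)))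
    · intro a ha
      obtain ⟨a', ha', a'', ha'', rfl⟩ := Submodule.mem_sup.mp ha
      obtain ⟨α, rfl⟩ := Submodule.mem_span_singleton.mp ha''
      rw [map_add, map_smul, hXw]
      exact Submodule.add_mem_sup (hP.2 a' ha')
        (Submodule.smul_mem _ _ (Submodule.smul_mem _ _ (Submodule.mem_span_singleton_self _)))

theorem caseB (h2 : (2 : F) ≠ 0) (hX : ∀ v, X (X v) = -v)
    (hω : ∀ u v, ω (X u) (X v) = ω u v) :
    ∃ U W, Good d U W ∧ ((∀ u ∈ U, X u ∈ W) ∧ (∀ w ∈ W, X w ∈ U)) ∧ U ⊔ W = ⊤ := by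
  apply max_top d (fun U W => (∀ u ∈ U, X u ∈ W) ∧ (∀ w ∈ W, X w ∈ U))
  · simp
  · intro U W hG hP hne
    have hXz : ∀ v, X (X v) = (-1 : F) • v := fun v => by rw [hX, neg_one_smul]
    have hMinv : ∀ m ∈ U ⊔ W, X m ∈ U ⊔ W := by
      intro m hm
      obtain ⟨a, ha, b, hb, rfl⟩ := Submodule.mem_sup.mp hm
      rw [map_add, add_comm]
      exact Submodule.add_mem_sup (hP.2 b hb) (hP.1 a ha)
    have hNinv := orth_inv d X (-1) (neg_ne_zero.mpr one_ne_zero) hXz hω (U ⊔ W) hMinv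
    have hNnd := orth_nondeg d (U ⊔ W) (good_nondeg d hG)
    obtain ⟨v, hv, hv0⟩ := orth_ne_bot d hG hne
    have hsym : ∀ a b, ω a (X b) = ω b (X a) := by
      intro a b
      have := hω b (X a)
      rw [hX, sympForm_neg_right] at this
      rw [← this, sympForm_swap]
    obtain ⟨u, hu, huX⟩ : ∃ u ∈ orth d (U ⊔ W), ω u (X u) ≠ 0 := by
      by_contra hcon
      push Not at hcon
      have hall : ∀ a ∈ orth d (U ⊔ W), ∀ b ∈ orth d (U ⊔ W), ω a (X b) = 0 := by
        intro a ha b hb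
        have := hcon (a + b) (Submodule.add_mem _ ha hb)
        rw [map_add, sympForm_add_left, sympForm_add_right, sympForm_add_right, hcon a ha,
          hcon b hb, hsym b a] at this
        have h3 : 2 * ω a (X b) = 0 := by linear_combination this
        rcases mul_eq_zero.mp h3 with h | h
        · exact absurd h h2
        · exact h
      apply hv0
      apply hNnd v hv
      intro w hw
      have e : w = X (-(X w)) := by rw [map_neg, hX, neg_neg]
      rw [e]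
      exact hall v hv _ (Submodule.neg_mem _ (hNinv w hw))
    refine ⟨u, X u, hu, hNinv u hu, huX, ?_, ?_⟩
    · intro a ha
      obtain ⟨a', ha', a'', ha'', rfl⟩ := Submodule.mem_sup.mp ha
      obtain ⟨α, rfl⟩ := Submodule.mem_span_singleton.mp ha''
      rw [map_add, map_smul]
      exact Submodule.add_mem_sup (hP.1 a' ha')
        (Submodule.smul_mem _ _ (Submodule.mem_span_singleton_self _))
    · intro a ha
      obtain ⟨a', ha', a'', ha'', rfl⟩ := Submodule.mem_sup.mp ha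
      obtain ⟨α, rfl⟩ := Submodule.mem_span_singleton.mp ha''
      rw [map_add, map_smul, hX]
      exact Submodule.add_mem_sup (hP.2 a' ha')
        (Submodule.smul_mem _ _ (Submodule.neg_mem _ (Submodule.mem_span_singleton_self _)))

end maxi

/-- Involutions of PSp_n(q), q odd, and the subgroups GL_{n/2}(q).2. Here `T = PSp_n(q)`, `n = 2d ≥ 4`, `q` odd, realised through the symplectic matrices over the field `F` with `q` elements; Ω is the set of unordered pairs `{U, W}` of complementary totally isotropic `d`-spaces (`F^n = U ⊕ W`), whose stabilizers are the subgroups of type GL_d(q).2 (maximal except in some small cases; maximality is not assumed); an element of `T` of prime order `r` (a symplectic matrix `x` with `x^r` scalar, `x` not scalar) fixes such a pair when it fixes or interchanges `U` and `W`. If the number of such pairs is even, every involution of `T` fixes one of them (the action is 2-elusive). -/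
theorem result {F : Type*} [Field F] [Fintype F] {p : ℕ} [Fact p.Prime] [CharP F p] {q : ℕ} (hq : Fintype.card F = q)
    (d : ℕ) (hd : 2 ≤ d) (hT : (d, q) ≠ (2, 2)) (hodd : Odd q)
    (hΩ : 2 ∣ Nat.card {P : Submodule F (Fin d ⊕ Fin d → F) × Submodule F (Fin d ⊕ Fin d → F) // IsCompl P.1 P.2 ∧ (∀ u ∈ P.1, ∀ v ∈ P.1, Cfsg.sympForm d F u v = 0) ∧ (∀ u ∈ P.2, ∀ v ∈ P.2, Cfsg.sympForm d F u v = 0)} / 2)
    (x : ↥(Matrix.symplecticGroup (Fin d) F))
    (hx1 : ∃ z : F, ((x ^ 2 : ↥(Matrix.symplecticGroup (Fin d) F)) : Matrix (Fin d ⊕ Fin d) (Fin d ⊕ Fin d) F) = z • (1 : Matrix (Fin d ⊕ Fin d) (Fin d ⊕ Fin d) F))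
    (hx2 : ∀ z : F, (x : Matrix (Fin d ⊕ Fin d) (Fin d ⊕ Fin d) F) ≠ z • (1 : Matrix (Fin d ⊕ Fin d) (Fin d ⊕ Fin d) F)) :
    ∃ U W : Submodule F (Fin d ⊕ Fin d → F), IsCompl U W ∧ (∀ u ∈ U, ∀ v ∈ U, Cfsg.sympForm d F u v = 0) ∧ (∀ u ∈ W, ∀ v ∈ W, Cfsg.sympForm d F u v = 0) ∧
        ((U.map (Matrix.toLin' (x : Matrix (Fin d ⊕ Fin d) (Fin d ⊕ Fin d) F)) = U ∧ W.map (Matrix.toLin' (x : Matrix (Fin d ⊕ Fin d) (Fin d ⊕ Fin d) F)) = W) ∨
         (U.map (Matrix.toLin' (x : Matrix (Fin d ⊕ Fin d) (Fin d ⊕ Fin d) F)) = W ∧ W.map (Matrix.toLin' (x : Matrix (Fin d ⊕ Fin d) (Fin d ⊕ Fin d) F)) = U)) := by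
  obtain ⟨z, hz⟩ := hx1
  have hxx : (x : Matrix (Fin d ⊕ Fin d) (Fin d ⊕ Fin d) F) *
      (x : Matrix (Fin d ⊕ Fin d) (Fin d ⊕ Fin d) F) = z • 1 := by
    rw [← hz, SubmonoidClass.coe_pow, pow_two]
  have hX : ∀ v, Matrix.toLin' (x : Matrix (Fin d ⊕ Fin d) (Fin d ⊕ Fin d) F)
      (Matrix.toLin' (x : Matrix (Fin d ⊕ Fin d) (Fin d ⊕ Fin d) F) v) = z • v := by
    intro v
    rw [Matrix.toLin'_apply, Matrix.toLin'_apply, Matrix.mulVec_mulVec, hxx,
      Matrix.smul_mulVec, Matrix.one_mulVec]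
  have hω : ∀ u v, Cfsg.sympForm d F
      (Matrix.toLin' (x : Matrix (Fin d ⊕ Fin d) (Fin d ⊕ Fin d) F) u)
      (Matrix.toLin' (x : Matrix (Fin d ⊕ Fin d) (Fin d ⊕ Fin d) F) v) = Cfsg.sympForm d F u v := by
    intro u v
    rw [Matrix.toLin'_apply, Matrix.toLin'_apply]
    exact (mem_symplecticGroup_iff_sympForm d _).mp x.2 u v
  have h2 : (2 : F) ≠ 0 := by
    apply Ring.two_ne_zero
    intro h
    have := FiniteField.even_card_iff_char_two.mp h
    rw [hq] at this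
    rcases hodd with ⟨k, hk⟩
    omega
  have hzz : z * z = 1 := by
    have hu0 : (Pi.single (Sum.inl ⟨0, by omega⟩) 1 : Fin d ⊕ Fin d → F) ≠ 0 := by
      intro h
      have := congrFun h (Sum.inl ⟨0, by omega⟩)
      simp at this
    obtain ⟨v₀, hv₀⟩ := sympForm_nondeg d _ hu0
    have e := (hω
      (Matrix.toLin' (x : Matrix (Fin d ⊕ Fin d) (Fin d ⊕ Fin d) F) (Pi.single (Sum.inl ⟨0, by omega⟩) 1))
      (Matrix.toLin' (x : Matrix (Fin d ⊕ Fin d) (Fin d ⊕ Fin d) F) v₀)).trans (hω _ _)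
    rw [hX, hX, sympForm_smul_left, sympForm_smul_right, ← mul_assoc] at e
    exact mul_right_cancel₀ hv₀ (by rw [one_mul]; exact e)
  have hz' : z = 1 ∨ z = -1 := by
    have : (z - 1) * (z + 1) = 0 := by linear_combination hzz
    rcases mul_eq_zero.mp this with h | h
    · left; exact sub_eq_zero.mp h
    · right; exact eq_neg_of_add_eq_zero_left h
  rcases hz' with rfl | rfl
  · obtain ⟨U, W, hG, ⟨hP1, hP2⟩, htop⟩ := caseA d
      (Matrix.toLin' (x : Matrix (Fin d ⊕ Fin d) (Fin d ⊕ Fin d) F)) h2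
      (fun v => by rw [hX, one_smul]) hω
    have hX1 : ∀ v, Matrix.toLin' (x : Matrix (Fin d ⊕ Fin d) (Fin d ⊕ Fin d) F)
      (Matrix.toLin' (x : Matrix (Fin d ⊕ Fin d) (Fin d ⊕ Fin d) F) v) = v :=
      fun v => by rw [hX, one_smul]
    refine ⟨U, W, ⟨good_disj d hG, codisjoint_iff.mpr htop⟩, hG.1, hG.2.1, Or.inl ⟨?_, ?_⟩⟩
    · apply le_antisymm
      · rintro _ ⟨u, hu, rfl⟩
        exact hP1 u hu
      · intro u hu
        exact ⟨_, hP1 u hu, hX1 u⟩
    · apply le_antisymm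
      · rintro _ ⟨u, hu, rfl⟩
        exact hP2 u hu
      · intro u hu
        exact ⟨_, hP2 u hu, hX1 u⟩
  · have hX1 : ∀ v, Matrix.toLin' (x : Matrix (Fin d ⊕ Fin d) (Fin d ⊕ Fin d) F)
      (Matrix.toLin' (x : Matrix (Fin d ⊕ Fin d) (Fin d ⊕ Fin d) F) v) = -v :=
      fun v => by rw [hX, neg_one_smul]
    obtain ⟨U, W, hG, ⟨hP1, hP2⟩, htop⟩ := caseB d
      (Matrix.toLin' (x : Matrix (Fin d ⊕ Fin d) (Fin d ⊕ Fin d) F)) h2 hX1 hω
    refine ⟨U, W, ⟨good_disj d hG, codisjoint_iff.mpr htop⟩, hG.1, hG.2.1, Or.inr ⟨?_, ?_⟩⟩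
    · apply le_antisymm
      · rintro _ ⟨u, hu, rfl⟩
        exact hP1 u hu
      · intro w hw
        refine ⟨-(Matrix.toLin' (x : Matrix (Fin d ⊕ Fin d) (Fin d ⊕ Fin d) F) w),
          Submodule.neg_mem _ (hP2 w hw), ?_⟩
        rw [map_neg, hX1, neg_neg]
    · apply le_antisymm
      · rintro _ ⟨u, hu, rfl⟩
        exact hP2 u hu
      · intro w hw
        refine ⟨-(Matrix.toLin' (x : Matrix (Fin d ⊕ Fin d) (Fin d ⊕ Fin d) F) w),
          Submodule.neg_mem _ (hP1 w hw), ?_⟩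
        rw [map_neg, hX1, neg_neg]

end Cfsg.Agent.S5962
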