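import Cfsg.Statements.S5960

import Cfsg.Agent.Lib.helper6.SympBasis
import Cfsg.Agent.S5957
import Cfsg.Agent.S5962
set_option autoImplicit false
open scoped MatrixGroups
open Cfsg

namespace Cfsg.Agent.S5960


open Cfsg.Agent.Lib.helper6 Cfsg.Agent.Lib.helper6.SB

section gen
variable {F : Type*} [Field F] (d : ℕ)

local notation "ω" => Cfsg.sympForm d F

def ND (D : Submodule F (Fin d ⊕ Fin d → F)) : Prop :=
  ∀ u ∈ D, (∀ v ∈ D, ω u v = 0) → u = 0

theorem nd_bot : ND d (⊥ : Submodule F (Fin d ⊕ Fin d → F)) := by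
  intro u hu _
  exact (Submodule.mem_bot F).mp hu

def pl (u w : Fin d ⊕ Fin d → F) : Submodule F (Fin d ⊕ Fin d → F) :=
  Submodule.span F (Set.range ![u, w])

theorem mem_pl (u w x : Fin d ⊕ Fin d → F) : x ∈ pl d u w ↔ ∃ a b : F, x = a • u + b • w := by
  unfold pl
  rw [Submodule.mem_span_range_iff_exists_fun]
  constructor
  · rintro ⟨c, rfl⟩
    exact ⟨c 0, c 1, by simp [Fin.sum_univ_two]⟩
  · rintro ⟨a, b, rfl⟩
    exact ⟨![a, b], by simp [Fin.sum_univ_two]⟩

theorem left_mem_pl (u w : Fin d ⊕ Fin d → F) : u ∈ pl d u w :=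
  (mem_pl d u w u).mpr ⟨1, 0, by simp⟩

theorem right_mem_pl (u w : Fin d ⊕ Fin d → F) : w ∈ pl d u w :=
  (mem_pl d u w w).mpr ⟨0, 1, by simp⟩

theorem pl_finrank (u w : Fin d ⊕ Fin d → F) (h : ω u w ≠ 0) :
    Module.finrank F (pl d u w) = 2 := by
  have hli : LinearIndependent F ![u, w] := by
    rw [LinearIndependent.pair_iff]
    intro a b hab
    have h1 : ω (a • u + b • w) w = 0 := by rw [hab, sympForm_zero_left]
    have h2 : ω u (a • u + b • w) = 0 := by rw [hab, sympForm_zero_right]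
    rw [sympForm_add_left, sympForm_smul_left, sympForm_smul_left, sympForm_self, mul_zero,
      add_zero] at h1
    rw [sympForm_add_right, sympForm_smul_right, sympForm_smul_right, sympForm_self, mul_zero,
      zero_add] at h2
    exact ⟨(mul_eq_zero.mp h1).resolve_right h, (mul_eq_zero.mp h2).resolve_right h⟩
  unfold pl
  rw [finrank_span_eq_card hli]
  simp

theorem pl_nd (u w : Fin d ⊕ Fin d → F) (h : ω u w ≠ 0) : ND d (pl d u w) := by
  intro x hx hxv
  obtain ⟨a, b, rfl⟩ := (mem_pl d u w _).mp hx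
  have h1 := hxv w (right_mem_pl d u w)
  have h2 := hxv u (left_mem_pl d u w)
  rw [sympForm_add_left, sympForm_smul_left, sympForm_smul_left, sympForm_self, mul_zero,
    add_zero] at h1
  rw [sympForm_add_left, sympForm_smul_left, sympForm_smul_left, sympForm_self, mul_zero,
    zero_add, sympForm_swap, mul_neg, neg_eq_zero] at h2
  rw [(mul_eq_zero.mp h1).resolve_right h, (mul_eq_zero.mp h2).resolve_right h]
  simp

theorem pl_le (u w : Fin d ⊕ Fin d → F) (V' : Submodule F (Fin d ⊕ Fin d → F))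
    (hu : u ∈ V') (hw : w ∈ V') : pl d u w ≤ V' := by
  intro x hx
  obtain ⟨a, b, rfl⟩ := (mem_pl d u w _).mp hx
  exact V'.add_mem (V'.smul_mem a hu) (V'.smul_mem b hw)

theorem osum (D₁ D₂ : Submodule F (Fin d ⊕ Fin d → F)) (h1 : ND d D₁) (h2 : ND d D₂)
    (horth : ∀ a ∈ D₁, ∀ b ∈ D₂, ω a b = 0) :
    ND d (D₁ ⊔ D₂) ∧ Disjoint D₁ D₂ ∧
      Module.finrank F ↥(D₁ ⊔ D₂) = Module.finrank F D₁ + Module.finrank F D₂ := by
  have horth' : ∀ a ∈ D₁, ∀ b ∈ D₂, ω b a = 0 := fun a ha b hb => by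
    rw [sympForm_swap, horth a ha b hb, neg_zero]
  have hdisj : Disjoint D₁ D₂ := by
    rw [Submodule.disjoint_def]
    intro x hx1 hx2
    exact h1 x hx1 (fun v hv => horth' v hv x hx2)
  refine ⟨?_, hdisj, ?_⟩
  · intro x hx hxv
    obtain ⟨a, ha, b, hb, rfl⟩ := Submodule.mem_sup.mp hx
    have ha0 : a = 0 := by
      apply h1 a ha
      intro v hv
      have := hxv v (le_sup_left (b := D₂) hv)
      rw [sympForm_add_left, horth' v hv b hb, add_zero] at this
      exact this
    have hb0 : b = 0 := by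
      apply h2 b hb
      intro v hv
      have := hxv v (le_sup_right (a := D₁) hv)
      rw [sympForm_add_left, horth a ha v hv, zero_add] at this
      exact this
    rw [ha0, hb0, add_zero]
  · have e := Submodule.finrank_sup_add_finrank_inf_eq D₁ D₂
    rw [hdisj.eq_bot, finrank_bot] at e
    omega

theorem rel (V' M : Submodule F (Fin d ⊕ Fin d → F)) (hV : ND d V') (hM : ND d M) (hle : M ≤ V') :
    M ⊔ (V' ⊓ orth d M) = V' ∧ Disjoint M (V' ⊓ orth d M) ∧ ND d (V' ⊓ orth d M) ∧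
      Module.finrank F ↥(V' ⊓ orth d M) + Module.finrank F M = Module.finrank F V' := by
  have hc := isCompl_orth d M hM
  have hsup : M ⊔ (V' ⊓ orth d M) = V' := by
    rw [inf_comm, ← sup_inf_assoc_of_le (orth d M) hle, hc.sup_eq_top, top_inf_eq]
  have hdisj : Disjoint M (V' ⊓ orth d M) := hc.disjoint.mono_right inf_le_right
  refine ⟨hsup, hdisj, ?_, ?_⟩
  · intro u hu huv
    apply hV u hu.1
    intro v hv
    rw [← hsup] at hv
    obtain ⟨a, ha, b, hb, rfl⟩ := Submodule.mem_sup.mp hv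
    rw [sympForm_add_right, huv b hb, add_zero, sympForm_swap,
      (mem_orth d M u).mp hu.2 a ha, neg_zero]
  · have e := Submodule.finrank_sup_add_finrank_inf_eq M (V' ⊓ orth d M)
    rw [hsup, hdisj.eq_bot, finrank_bot] at e
    omega

end gen

section blk
variable {F : Type*} [Field F] (d : ℕ)
  (X : (Fin d ⊕ Fin d → F) →ₗ[F] (Fin d ⊕ Fin d → F)) (z : F)

local notation "ω" => Cfsg.sympForm d F

theorem block (hX : ∀ v, X (X v) = z • v)
    (V' : Submodule F (Fin d ⊕ Fin d → F)) (hinv : ∀ v ∈ V', X v ∈ V') (hnd : ND d V')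
    (hne : V' ≠ ⊥) :
    (∃ M ≤ V', (∀ v ∈ M, X v ∈ M) ∧ ND d M ∧ Module.finrank F M = 2) ∨
    (∃ P ≤ V', ND d P ∧ Module.finrank F P = 2 ∧ ∀ u ∈ P, ∀ v ∈ P, ω u (X v) = 0) := by
  by_cases h1 : ∃ v ∈ V', ω v (X v) ≠ 0
  · obtain ⟨v, hv, hvX⟩ := h1
    left
    refine ⟨pl d v (X v), pl_le d _ _ V' hv (hinv v hv), ?_, pl_nd d _ _ hvX, pl_finrank d _ _ hvX⟩
    intro m hm
    obtain ⟨a, b, rfl⟩ := (mem_pl d _ _ _).mp hm
    rw [map_add, map_smul, map_smul, hX]
    exact (mem_pl d _ _ _).mpr ⟨b * z, a, by rw [mul_smul]; abel⟩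
  · push Not at h1
    have hpol : ∀ u ∈ V', ∀ v ∈ V', ω u (X v) = - ω v (X u) := by
      intro u hu v hv
      have := h1 (u + v) (V'.add_mem hu hv)
      rw [map_add, sympForm_add_left, sympForm_add_right, sympForm_add_right, h1 u hu,
        h1 v hv] at this
      linear_combination this
    obtain ⟨u₀, hu₀, hu₀0⟩ : ∃ u ∈ V', u ≠ 0 := by
      by_contra hcon
      push Not at hcon
      apply hne
      rw [eq_bot_iff]
      intro v hv
      exact hcon v hv
    by_cases h2 : ∀ v ∈ V', ∃ c : F, X v = c • v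
    · left
      obtain ⟨w, hw, huw⟩ : ∃ w ∈ V', ω u₀ w ≠ 0 := by
        by_contra hcon
        push Not at hcon
        exact hu₀0 (hnd u₀ hu₀ hcon)
      refine ⟨pl d u₀ w, pl_le d _ _ V' hu₀ hw, ?_, pl_nd d _ _ huw, pl_finrank d _ _ huw⟩
      intro m hm
      obtain ⟨a, b, rfl⟩ := (mem_pl d _ _ _).mp hm
      obtain ⟨c₁, hc₁⟩ := h2 u₀ hu₀
      obtain ⟨c₂, hc₂⟩ := h2 w hw
      rw [map_add, map_smul, map_smul, hc₁, hc₂]
      exact (mem_pl d _ _ _).mpr ⟨a * c₁, b * c₂, by rw [mul_smul, mul_smul]⟩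
    · right
      push Not at h2
      obtain ⟨p₂, hp₂, hp₂e⟩ := h2
      have hp₂0 : p₂ ≠ 0 := by
        rintro rfl
        exact hp₂e 0 (by simp)
      have hXp₂ : X p₂ ∈ V' := hinv p₂ hp₂
      obtain ⟨p₁, hp₁, hp₁X, hp₁p⟩ : ∃ p₁ ∈ V', ω p₁ (X p₂) = 0 ∧ ω p₁ p₂ ≠ 0 := by
        by_contra hcon
        push Not at hcon
        have hXp₂0 : X p₂ ≠ 0 := by
          intro h
          exact hp₂e 0 (by rw [h, zero_smul])
        obtain ⟨y, hy, hyX⟩ : ∃ y ∈ V', ω y (X p₂) ≠ 0 := by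
          by_contra hcon2
          push Not at hcon2
          apply hXp₂0
          apply hnd _ hXp₂
          intro v hv
          rw [sympForm_swap, hcon2 v hv, neg_zero]
        set lam : F := ω y p₂ / ω y (X p₂) with hlam
        have hall : ∀ v ∈ V', ω v (p₂ - lam • X p₂) = 0 := by
          intro v hv
          have hv' : v - (ω v (X p₂) / ω y (X p₂)) • y ∈ V' :=
            V'.sub_mem hv (V'.smul_mem _ hy)
          have e1 : ω (v - (ω v (X p₂) / ω y (X p₂)) • y) (X p₂) = 0 := by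
            rw [sympForm_sub_left, sympForm_smul_left, div_mul_cancel₀ _ hyX, sub_self]
          have e2 := hcon _ hv' e1
          rw [sympForm_sub_left, sympForm_smul_left] at e2
          rw [sympForm_sub_right, sympForm_smul_right, hlam]
          field_simp
          field_simp at e2
          linear_combination e2
        have hzero : p₂ - lam • X p₂ = 0 := by
          apply hnd _ (V'.sub_mem hp₂ (V'.smul_mem _ hXp₂))
          intro v hv
          rw [sympForm_swap, hall v hv, neg_zero]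
        have hp₂eq : p₂ = lam • X p₂ := sub_eq_zero.mp hzero
        by_cases hl0 : lam = 0
        · rw [hl0, zero_smul] at hp₂eq
          exact hp₂0 hp₂eq
        · apply hp₂e lam⁻¹
          rw [hp₂eq, smul_smul, inv_mul_cancel₀ hl0, one_smul, ← hp₂eq]
      refine ⟨pl d p₁ p₂, pl_le d _ _ V' hp₁ hp₂, pl_nd d _ _ hp₁p, pl_finrank d _ _ hp₁p, ?_⟩
      intro u hu v hv
      obtain ⟨a, b, rfl⟩ := (mem_pl d _ _ _).mp hu
      obtain ⟨a', b', rfl⟩ := (mem_pl d _ _ _).mp hv
      have e3 : ω p₂ (X p₁) = 0 := by rw [hpol p₂ hp₂ p₁ hp₁, hp₁X, neg_zero]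
      simp only [map_add, map_smul, sympForm_add_left, sympForm_add_right, sympForm_smul_left,
        sympForm_smul_right, h1 p₁ hp₁, h1 p₂ hp₂, hp₁X, e3]
      ring

theorem orth_zero (M : Submodule F (Fin d ⊕ Fin d → F)) (a b : Fin d ⊕ Fin d → F)
    (ha : a ∈ orth d M) (hb : b ∈ M) : ω a b = 0 ∧ ω b a = 0 := by
  have h := (mem_orth d M a).mp ha b hb
  exact ⟨by rw [sympForm_swap, h, neg_zero], h⟩

theorem nd_map (hω : ∀ u v, ω (X u) (X v) = ω u v) (hinj : Function.Injective X)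
    (P : Submodule F (Fin d ⊕ Fin d → F)) (hP : ND d P) : ND d (P.map X) := by
  rintro _ ⟨p, hp, rfl⟩ h
  have : p = 0 := by
    apply hP p hp
    intro v hv
    rw [← hω]
    exact h _ (Submodule.mem_map_of_mem hv)
  rw [this, map_zero]

theorem twin_block (hz : z ≠ 0) (hX : ∀ v, X (X v) = z • v)
    (hω : ∀ u v, ω (X u) (X v) = ω u v)
    (P : Submodule F (Fin d ⊕ Fin d → F)) (hP : ND d P)
    (htw : ∀ u ∈ P, ∀ v ∈ P, ω u (X v) = 0) :
    (∀ v ∈ P ⊔ P.map X, X v ∈ P ⊔ P.map X) ∧ ND d (P ⊔ P.map X) ∧ Disjoint P (P.map X) ∧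
      Module.finrank F ↥(P ⊔ P.map X) = 2 * Module.finrank F P := by
  have hinj := Cfsg.Agent.S5957.inj_X X z hz hX
  have h1 := osum d P (P.map X) hP (nd_map d X hω hinj P hP) (by
    rintro a ha _ ⟨b, hb, rfl⟩
    exact htw a ha b hb)
  refine ⟨?_, h1.1, h1.2.1, ?_⟩
  · intro v hv
    obtain ⟨a, ha, b, hb, rfl⟩ := Submodule.mem_sup.mp hv
    obtain ⟨b', hb', rfl⟩ := hb
    rw [map_add, hX, add_comm]
    exact Submodule.add_mem_sup (P.smul_mem z hb') (Submodule.mem_map_of_mem ha)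
  · rw [h1.2.2, Cfsg.Agent.S5957.finrank_map_X X z hz hX]
    ring

theorem struct (hz : z ≠ 0) (hX : ∀ v, X (X v) = z • v)
    (hω : ∀ u v, ω (X u) (X v) = ω u v) :
    ∀ (d' : ℕ) (V' : Submodule F (Fin d ⊕ Fin d → F)), (∀ v ∈ V', X v ∈ V') → ND d V' →
      Module.finrank F V' = 2 * d' →
      ∃ s f : ℕ, 2 * s + f = d' ∧
        (∀ i ≤ s, ∀ j ≤ f, ∃ D ≤ V', (∀ v ∈ D, X v ∈ D) ∧ ND d D ∧
          Module.finrank F D = 4 * i + 2 * j) ∧
        (∀ i ≤ s, ∃ D ≤ V', ND d D ∧ (∀ u ∈ D, ∀ v ∈ D, ω u (X v) = 0) ∧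
          Module.finrank F D = 2 * i) := by
  intro d'
  induction d' using Nat.strong_induction_on with
  | _ d' ih =>
  intro V' hinv hnd hdim
  rcases d' with _ | d'
  · refine ⟨0, 0, rfl, ?_, ?_⟩
    · intro i hi j hj
      refine ⟨⊥, bot_le, by simp, nd_bot d, ?_⟩
      rw [finrank_bot]; omega
    · intro i hi
      refine ⟨⊥, bot_le, nd_bot d, by simp [sympForm_zero_left], ?_⟩
      rw [finrank_bot]; omega
  · have hne : V' ≠ ⊥ := by
      intro h
      rw [h, finrank_bot] at hdim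
      omega
    rcases block d X z hX V' hinv hnd hne with ⟨M, hMle, hMinv, hMnd, hMdim⟩ | ⟨P, hPle, hPnd, hPdim, hPtw⟩
    · obtain ⟨r1, r2, r3, r4⟩ := rel d V' M hnd hMnd hMle
      have hV''inv : ∀ v ∈ V' ⊓ orth d M, X v ∈ V' ⊓ orth d M := fun v hv =>
        ⟨hinv v hv.1, Cfsg.Agent.S5962.orth_inv d X z hz hX hω M hMinv v hv.2⟩
      obtain ⟨s, f, hsf, hA, hB⟩ := ih d' (by omega) (V' ⊓ orth d M) hV''inv r3 (by omega)
      refine ⟨s, f + 1, by omega, ?_, ?_⟩
      · intro i hi j hj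
        by_cases hjf : j ≤ f
        · obtain ⟨D, hD1, hD2⟩ := hA i hi j hjf
          exact ⟨D, hD1.trans inf_le_left, hD2⟩
        · have hj' : j = f + 1 := by omega
          obtain ⟨D, hD1, hD2, hD3, hD4⟩ := hA i hi f le_rfl
          have ho := osum d D M hD3 hMnd (fun a ha b hb => (orth_zero d M a b (hD1 ha).2 hb).1)
          refine ⟨D ⊔ M, sup_le (hD1.trans inf_le_left) hMle, ?_, ho.1, ?_⟩
          · intro v hv
            obtain ⟨a, ha, b, hb, rfl⟩ := Submodule.mem_sup.mp hv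
            rw [map_add]
            exact Submodule.add_mem_sup (hD2 a ha) (hMinv b hb)
          · rw [ho.2.2, hD4, hMdim, hj']
            ring
      · intro i hi
        obtain ⟨D, hD1, hD2⟩ := hB i hi
        exact ⟨D, hD1.trans inf_le_left, hD2⟩
    · obtain ⟨t1, t2, t3, t4⟩ := twin_block d X z hz hX hω P hPnd hPtw
      have hMle : P ⊔ P.map X ≤ V' := by
        apply sup_le hPle
        rintro _ ⟨p, hp, rfl⟩
        exact hinv p (hPle hp)
      obtain ⟨r1, r2, r3, r4⟩ := rel d V' (P ⊔ P.map X) hnd t2 hMle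
      have hV''inv : ∀ v ∈ V' ⊓ orth d (P ⊔ P.map X), X v ∈ V' ⊓ orth d (P ⊔ P.map X) :=
        fun v hv =>
        ⟨hinv v hv.1, Cfsg.Agent.S5962.orth_inv d X z hz hX hω _ t1 v hv.2⟩
      rw [t4, hPdim] at r4
      rcases d' with _ | d''
      · omega
      obtain ⟨s, f, hsf, hA, hB⟩ := ih d'' (by omega) (V' ⊓ orth d (P ⊔ P.map X)) hV''inv r3
        (by omega)
      refine ⟨s + 1, f, by omega, ?_, ?_⟩
      · intro i hi j hj
        by_cases his : i ≤ s
        · obtain ⟨D, hD1, hD2⟩ := hA i his j hj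
          exact ⟨D, hD1.trans inf_le_left, hD2⟩
        · have hi' : i = s + 1 := by omega
          obtain ⟨D, hD1, hD2, hD3, hD4⟩ := hA s le_rfl j hj
          have ho := osum d D (P ⊔ P.map X) hD3 t2
            (fun a ha b hb => (orth_zero d _ a b (hD1 ha).2 hb).1)
          refine ⟨D ⊔ (P ⊔ P.map X), sup_le (hD1.trans inf_le_left) hMle, ?_, ho.1, ?_⟩
          · intro v hv
            obtain ⟨a, ha, b, hb, rfl⟩ := Submodule.mem_sup.mp hv
            rw [map_add]
            exact Submodule.add_mem_sup (hD2 a ha) (t1 b hb)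
          · rw [ho.2.2, hD4, t4, hPdim, hi']
            ring
      · intro i hi
        by_cases his : i ≤ s
        · obtain ⟨D, hD1, hD2⟩ := hB i his
          exact ⟨D, hD1.trans inf_le_left, hD2⟩
        · have hi' : i = s + 1 := by omega
          obtain ⟨D, hD1, hD2, hD3, hD4⟩ := hB s le_rfl
          have hPM : P ≤ P ⊔ P.map X := le_sup_left
          have ho := osum d D P hD2 hPnd
            (fun a ha b hb => (orth_zero d _ a b (hD1 ha).2 (hPM hb)).1)
          refine ⟨D ⊔ P, sup_le (hD1.trans inf_le_left) hPle, ho.1, ?_, ?_⟩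
          · intro u hu v hv
            obtain ⟨a, ha, b, hb, rfl⟩ := Submodule.mem_sup.mp hu
            obtain ⟨a', ha', b', hb', rfl⟩ := Submodule.mem_sup.mp hv
            have hXb' : X b' ∈ P ⊔ P.map X :=
              le_sup_right (a := P) (Submodule.mem_map_of_mem hb')
            have hXa' : X a' ∈ orth d (P ⊔ P.map X) := (hV''inv a' (hD1 ha')).2
            rw [map_add, sympForm_add_left, sympForm_add_right, sympForm_add_right,
              hD3 a ha a' ha', (orth_zero d _ a (X b') (hD1 ha).2 hXb').1,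
              (orth_zero d _ (X a') b hXa' (hPM hb)).2, hPtw b hb b' hb']
            ring
          · rw [ho.2.2, hD4, hPdim, hi']
            ring

theorem disj_of_orth (A B : Submodule F (Fin d ⊕ Fin d → F)) (hA : ND d A)
    (h : ∀ a ∈ A, ∀ b ∈ B, ω a b = 0) : Disjoint A B := by
  rw [Submodule.disjoint_def]
  intro x hxA hxB
  apply hA x hxA
  intro u hu
  rw [sympForm_swap, h u hu x hxB, neg_zero]

theorem comb (s f a' t : ℕ) (ha' : 1 ≤ a') (h : 2 * s + f = a' * (t + 1)) :
    (∃ i ≤ s, ∃ j ≤ f, 2 * i + j = a') ∨ (a' ≤ s ∧ 1 ≤ t) := by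
  have hexp : a' * (t + 1) = a' * t + a' := by ring
  by_cases hs : s ≤ a' / 2
  · left
    exact ⟨s, le_rfl, a' - 2 * s, by omega, by omega⟩
  · by_cases hj : a' % 2 ≤ f
    · left
      exact ⟨a' / 2, by omega, a' % 2, hj, by omega⟩
    · right
      have hf : f = 0 := by omega
      have hodd : a' % 2 = 1 := by omega
      rcases t with _ | t
      · exfalso
        omega
      · refine ⟨?_, by omega⟩
        have : a' * (t + 1) = a' * t + a' := by ring
        have h3 : 0 ≤ a' * t := Nat.zero_le _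
        omega

theorem peel (hz : z ≠ 0) (hX : ∀ v, X (X v) = z • v)
    (hω : ∀ u v, ω (X u) (X v) = ω u v) (a' : ℕ) (ha' : 1 ≤ a') :
    ∀ (t : ℕ) (V' : Submodule F (Fin d ⊕ Fin d → F)), (∀ v ∈ V', X v ∈ V') → ND d V' →
      Module.finrank F V' = 2 * a' * t →
      ∃ D : Fin t → Submodule F (Fin d ⊕ Fin d → F), (∀ j, Module.finrank F (D j) = 2 * a') ∧
        (∀ j, ND d (D j)) ∧ (∀ j j', j ≠ j' → ∀ u ∈ D j, ∀ v ∈ D j', ω u v = 0) ∧
        iSupIndep D ∧ iSup D = V' ∧ ∀ j, ∃ k, (D j).map X = D k := by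
  intro t
  induction t using Nat.strong_induction_on with
  | _ t ih =>
  intro V' hinv hnd hdim
  rcases t with _ | t
  · have hV : V' = ⊥ := by
      rw [← Submodule.finrank_eq_zero]; omega
    refine ⟨fun j => j.elim0, fun j => j.elim0, fun j => j.elim0, fun j => j.elim0,
      iSupIndep_subsingleton _, ?_, fun j => j.elim0⟩
    rw [iSup_of_empty, hV]
  · have hexp : 2 * a' * (t + 1) = 2 * a' * t + 2 * a' := by ring
    obtain ⟨s, f, hsf, hA, hB⟩ := struct d X z hz hX hω (a' * (t + 1)) V' hinv hnd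
      (by rw [hdim]; ring)
    rcases comb s f a' t ha' hsf with ⟨i, hi, j, hj, hij⟩ | ⟨has, ht1⟩
    · obtain ⟨D₀, hD1, hD2, hD3, hD4⟩ := hA i hi j hj
      have hD4' : Module.finrank F D₀ = 2 * a' := by rw [hD4]; omega
      obtain ⟨r1, r2, r3, r4⟩ := rel d V' D₀ hnd hD3 hD1
      have hV''inv : ∀ v ∈ V' ⊓ orth d D₀, X v ∈ V' ⊓ orth d D₀ := fun v hv =>
        ⟨hinv v hv.1, Cfsg.Agent.S5962.orth_inv d X z hz hX hω D₀ hD2 v hv.2⟩
      obtain ⟨D', e1, e2, e3, e4, e5, e6⟩ := ih t (by omega) (V' ⊓ orth d D₀) hV''inv r3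
        (by omega)
      have hD'le : ∀ j, D' j ≤ orth d D₀ := fun j =>
        (le_iSup D' j).trans (e5.le.trans inf_le_right)
      refine ⟨Fin.cons D₀ D', ?_, ?_, ?_, ?_, ?_, ?_⟩
      · intro j
        refine Fin.cases ?_ (fun j => ?_) j
        · exact hD4'
        · exact e1 j
      · intro j
        refine Fin.cases ?_ (fun j => ?_) j
        · exact hD3
        · exact e2 j
      · intro j j'
        refine Fin.cases ?_ (fun j => ?_) j <;> refine Fin.cases ?_ (fun j' => ?_) j'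
        · intro h; exact absurd rfl h
        · intro _ u hu v hv
          exact (orth_zero d D₀ v u (hD'le j' hv) hu).2
        · intro _ u hu v hv
          exact (orth_zero d D₀ u v (hD'le j hu) hv).1
        · intro h u hu v hv
          exact e3 j j' (fun h' => h (by rw [h'])) u hu v hv
      · apply Cfsg.Agent.S5957.indep_cons _ _ e4
        rw [e5]; exact r2
      · rw [Cfsg.Agent.S5957.iSup_cons, e5, r1]
      · intro j
        refine Fin.cases ?_ (fun j => ?_) j
        · refine ⟨0, ?_⟩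
          simp only [Fin.cons_zero]
          apply Submodule.eq_of_le_of_finrank_eq
          · rintro _ ⟨v, hv, rfl⟩
            exact hD2 v hv
          · exact Cfsg.Agent.S5957.finrank_map_X X z hz hX D₀
        · obtain ⟨k, hk⟩ := e6 j
          exact ⟨k.succ, by simpa using hk⟩
    · rcases t with _ | t
      · omega
      obtain ⟨D₀, hD1, hD2, hD3, hD4⟩ := hB a' has
      obtain ⟨t1, t2, t3, t4⟩ := twin_block d X z hz hX hω D₀ hD2 hD3
      have hMle : D₀ ⊔ D₀.map X ≤ V' := by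
        apply sup_le hD1
        rintro _ ⟨p, hp, rfl⟩
        exact hinv p (hD1 hp)
      obtain ⟨r1, r2, r3, r4⟩ := rel d V' (D₀ ⊔ D₀.map X) hnd t2 hMle
      have hV''inv : ∀ v ∈ V' ⊓ orth d (D₀ ⊔ D₀.map X), X v ∈ V' ⊓ orth d (D₀ ⊔ D₀.map X) :=
        fun v hv =>
        ⟨hinv v hv.1, Cfsg.Agent.S5962.orth_inv d X z hz hX hω _ t1 v hv.2⟩
      rw [t4, hD4] at r4
      have hexp2 : 2 * a' * (t + 1 + 1) = 2 * a' * t + 2 * (2 * a') := by ring
      obtain ⟨D', e1, e2, e3, e4, e5, e6⟩ := ih t (by omega) (V' ⊓ orth d (D₀ ⊔ D₀.map X))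
        hV''inv r3 (by omega)
      have hD'le : ∀ j, D' j ≤ orth d (D₀ ⊔ D₀.map X) := fun j =>
        (le_iSup D' j).trans (e5.le.trans inf_le_right)
      have hinj := Cfsg.Agent.S5957.inj_X X z hz hX
      have l0 : D₀ ≤ D₀ ⊔ D₀.map X := le_sup_left
      have l1 : D₀.map X ≤ D₀ ⊔ D₀.map X := le_sup_right
      have h01 : ∀ u ∈ D₀, ∀ v ∈ D₀.map X, ω u v = 0 := by
        rintro u hu _ ⟨v, hv, rfl⟩
        exact hD3 u hu v hv
      refine ⟨Fin.cons D₀ (Fin.cons (D₀.map X) D'), ?_, ?_, ?_, ?_, ?_, ?_⟩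
      · intro j
        refine Fin.cases ?_ (fun j => ?_) j
        · exact hD4
        · refine Fin.cases ?_ (fun j => ?_) j
          · show Module.finrank F (D₀.map X) = 2 * a'
            rw [Cfsg.Agent.S5957.finrank_map_X X z hz hX, hD4]
          · exact e1 j
      · intro j
        refine Fin.cases ?_ (fun j => ?_) j
        · exact hD2
        · refine Fin.cases ?_ (fun j => ?_) j
          · exact nd_map d X hω hinj D₀ hD2
          · exact e2 j
      · intro j j'
        refine Fin.cases ?_ (fun j => ?_) j <;> refine Fin.cases ?_ (fun j' => ?_) j'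
        · intro h; exact absurd rfl h
        · refine Fin.cases ?_ (fun j' => ?_) j'
          · intro _ u hu v hv
            exact h01 u hu v hv
          · intro _ u hu v hv
            exact (orth_zero d _ v u (hD'le j' hv) (l0 hu)).2
        · refine Fin.cases ?_ (fun j => ?_) j
          · intro _ u hu v hv
            show ω u v = 0
            rw [sympForm_swap, h01 v hv u hu, neg_zero]
          · intro _ u hu v hv
            exact (orth_zero d _ u v (hD'le j hu) (l0 hv)).1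
        · refine Fin.cases ?_ (fun j => ?_) j <;> refine Fin.cases ?_ (fun j' => ?_) j'
          · intro h; exact absurd rfl h
          · intro _ u hu v hv
            exact (orth_zero d _ v u (hD'le j' hv) (l1 hu)).2
          · intro _ u hu v hv
            exact (orth_zero d _ u v (hD'le j hu) (l1 hv)).1
          · intro h u hu v hv
            exact e3 j j' (fun h' => h (by rw [h'])) u hu v hv
      · apply Cfsg.Agent.S5957.indep_cons
        · apply Cfsg.Agent.S5957.indep_cons _ _ e4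
          rw [e5]
          exact r2.mono_left l1
        · rw [Cfsg.Agent.S5957.iSup_cons, e5]
          apply disj_of_orth d _ _ hD2
          intro a ha b hb
          obtain ⟨y, hy, v, hv, rfl⟩ := Submodule.mem_sup.mp hb
          rw [sympForm_add_right, h01 a ha y hy, (orth_zero d _ v a hv.2 (l0 ha)).2, add_zero]
      · rw [Cfsg.Agent.S5957.iSup_cons, Cfsg.Agent.S5957.iSup_cons, e5, ← sup_assoc, r1]
      · intro j
        refine Fin.cases ?_ (fun j => ?_) j
        · exact ⟨Fin.succ 0, by simp⟩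
        · refine Fin.cases ?_ (fun j => ?_) j
          · exact ⟨0, by simp [Cfsg.Agent.S5957.map_map_X X z hz hX]⟩
          · obtain ⟨k, hk⟩ := e6 j
            exact ⟨k.succ.succ, by simpa using hk⟩

end blk

/-- Involutions of PSp_n(q) and imprimitive subgroups. Here `T = PSp_n(q)`, `n = 2d ≥ 4`, `(n, q) ≠ (4, 2)`, realised through the symplectic matrices over the field `F` with `q` elements and the standard alternating form; `n = a·t` with `a` even and `t ≥ 2`, and Ω is the (nonempty) set of orthogonal decompositions of `F^n` into `t` nondegenerate subspaces of dimension `a` (unordered; counted as ordered ones divided by `t!`), whose stabilizers are the imprimitive subgroups of type Sp_a(q) ≀ S_t (maximality is not assumed); an element of `T` of prime order `r` (a symplectic matrix `x` with `x^r` scalar, `x` not scalar) fixes a point of Ω when it permutes the summands of some such decomposition. If the number of such decompositions is even, then every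 involution of `T` stabilizes one of them (the action is 2-elusive). -/
theorem result {F : Type*} [Field F] [Fintype F] {p : ℕ} [Fact p.Prime] [CharP F p] {q : ℕ} (hq : Fintype.card F = q)
    (d : ℕ) (hd : 2 ≤ d) (hT : (d, q) ≠ (2, 2))
    (a t : ℕ) (hat : 2 * d = a * t) (ha : 2 ≤ a) (hae : Even a) (ht : 2 ≤ t) (hΩ : 2 ∣ Nat.card {D : Fin t → Submodule F (Fin d ⊕ Fin d → F) // (Cfsg.Geo.IsMDecomposition a D ∧ (∀ j, ∀ u ∈ D j, u ≠ 0 → ∃ v ∈ D j, Cfsg.sympForm d F u v ≠ 0) ∧
          (∀ j j', j ≠ j' → ∀ u ∈ D j, ∀ v ∈ D j', Cfsg.sympForm d F u v = 0))} / Nat.factorial t)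
    (x : ↥(Matrix.symplecticGroup (Fin d) F))
    (hx1 : ∃ z : F, ((x ^ 2 : ↥(Matrix.symplecticGroup (Fin d) F)) : Matrix (Fin d ⊕ Fin d) (Fin d ⊕ Fin d) F) = z • (1 : Matrix (Fin d ⊕ Fin d) (Fin d ⊕ Fin d) F))
    (hx2 : ∀ z : F, (x : Matrix (Fin d ⊕ Fin d) (Fin d ⊕ Fin d) F) ≠ z • (1 : Matrix (Fin d ⊕ Fin d) (Fin d ⊕ Fin d) F)) :
    ∃ D : Fin t → Submodule F (Fin d ⊕ Fin d → F), (Cfsg.Geo.IsMDecomposition a D ∧ (∀ j, ∀ u ∈ D j, u ≠ 0 → ∃ v ∈ D j, Cfsg.sympForm d F u v ≠ 0) ∧
          (∀ j j', j ≠ j' → ∀ u ∈ D j, ∀ v ∈ D j', Cfsg.sympForm d F u v = 0)) ∧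
        ∃ σ : Equiv.Perm (Fin t), ∀ j, (D j).map (Matrix.toLin' (x : Matrix (Fin d ⊕ Fin d) (Fin d ⊕ Fin d) F)) = D (σ j) := by
  obtain ⟨z, hz⟩ := hx1
  have hxx : (x : Matrix (Fin d ⊕ Fin d) (Fin d ⊕ Fin d) F) *
      (x : Matrix (Fin d ⊕ Fin d) (Fin d ⊕ Fin d) F) = z • 1 := by
    rw [← hz, SubmonoidClass.coe_pow, pow_two]
  have hX : ∀ v, Matrix.toLin' (x : Matrix (Fin d ⊕ Fin d) (Fin d ⊕ Fin d) F)
      (Matrix.toLin' (x : Matrix (Fin d ⊕ Fin d) (Fin d ⊕ Fin d) F) v) = z • v := by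
    intro v
    rw [Matrix.toLin'_apply, Matrix.toLin'_apply, Matrix.mulVec_mulVec, hxx,
      Matrix.smul_mulVec, Matrix.one_mulVec]
  have hω : ∀ u v, Cfsg.sympForm d F
      (Matrix.toLin' (x : Matrix (Fin d ⊕ Fin d) (Fin d ⊕ Fin d) F) u)
      (Matrix.toLin' (x : Matrix (Fin d ⊕ Fin d) (Fin d ⊕ Fin d) F) v) = Cfsg.sympForm d F u v := by
    intro u v
    rw [Matrix.toLin'_apply, Matrix.toLin'_apply]
    exact (mem_symplecticGroup_iff_sympForm d _).mp x.2 u v
  have hz0 : z ≠ 0 := by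
    rintro rfl
    have hu0 : (Pi.single (Sum.inl ⟨0, by omega⟩) 1 : Fin d ⊕ Fin d → F) ≠ 0 := by
      intro h
      have := congrFun h (Sum.inl ⟨0, by omega⟩)
      simp at this
    obtain ⟨v₀, hv₀⟩ := sympForm_nondeg d _ hu0
    have e := (hω
      (Matrix.toLin' (x : Matrix (Fin d ⊕ Fin d) (Fin d ⊕ Fin d) F) (Pi.single (Sum.inl ⟨0, by omega⟩) 1))
      (Matrix.toLin' (x : Matrix (Fin d ⊕ Fin d) (Fin d ⊕ Fin d) F) v₀)).trans (hω _ _)
    rw [hX, zero_smul, sympForm_zero_left] at e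
    exact hv₀ e.symm
  obtain ⟨a', ha'⟩ := hae
  have ha'1 : 1 ≤ a' := by omega
  have htop_nd : ND d (⊤ : Submodule F (Fin d ⊕ Fin d → F)) := by
    intro u _ hu
    by_contra hne
    obtain ⟨v, hv⟩ := sympForm_nondeg d u hne
    exact hv (hu v trivial)
  have hdimtop : Module.finrank F (⊤ : Submodule F (Fin d ⊕ Fin d → F)) = 2 * a' * t := by
    rw [finrank_top, Module.finrank_fintype_fun_eq_card, Fintype.card_sum, Fintype.card_fin]
    have : a * t = 2 * a' * t := by rw [ha']; ring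
    omega
  obtain ⟨D, e1, e2, e3, e4, e5, e6⟩ := peel d
    (Matrix.toLin' (x : Matrix (Fin d ⊕ Fin d) (Fin d ⊕ Fin d) F)) z hz0 hX hω a' ha'1 t ⊤
    (fun _ _ => trivial) htop_nd hdimtop
  have e1' : ∀ j, Module.finrank F (D j) = a := fun j => by rw [e1 j, ha']; ring
  refine ⟨D, ⟨⟨ht, by omega, e1', e4, e5⟩, ?_, e3⟩, ?_⟩
  · intro j u hu hu0
    by_contra hcon
    push Not at hcon
    exact hu0 (e2 j u hu hcon)
  · choose σ hσ using e6
    have hDinj : Function.Injective D := by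
      apply e4.injective
      intro j hj
      have := e1' j
      rw [hj, finrank_bot] at this
      omega
    have hσinj : Function.Injective σ := by
      intro j j' hjj
      apply hDinj
      have e : (D j).map (Matrix.toLin' (x : Matrix (Fin d ⊕ Fin d) (Fin d ⊕ Fin d) F)) =
          (D j').map (Matrix.toLin' (x : Matrix (Fin d ⊕ Fin d) (Fin d ⊕ Fin d) F)) := by
        rw [hσ, hσ, hjj]
      exact Submodule.map_injective_of_injective (Cfsg.Agent.S5957.inj_X _ z hz0 hX) e
    exact ⟨Equiv.ofBijective σ (Finite.injective_iff_bijective.mp hσinj), fun j => by simpa using hσ j⟩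

end Cfsg.Agent.S5960
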