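import Cfsg.Statements.S2613
import Cfsg.Agent.Lib.Helper16.SpinG

set_option autoImplicit false
open Cfsg
open Cfsg.Agent.Lib.Helper16

namespace Cfsg.Agent.S2613

/-- For the hyperbolic form Σ x_j y_j on F^(2m), F finite with q elements, q odd, and 1 ≤ i ≤ m: the involution negating the first i hyperbolic pairs (x_j, y_j ↦ −x_j, −y_j for j < i) and fixing the rest lies in Ω⁺_2m(q) (commutator subgroup of the orthogonal group) if and only if q^i ≡ 1 (mod 4); its (−1)-eigenspace is a hyperbolic 2i-space. -/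
theorem result {F : Type*} [Field F] [Fintype F] {q : ℕ} (hF : Fintype.card F = q) (hq : Odd q) {m : ℕ} (i : ℕ) (hi : 1 ≤ i) (him : i ≤ m) : (∃ g : ↥(Cfsg.isometryGroup F (Cfsg.quadFormPlus m F)), g ∈ Cfsg.Omega F (Cfsg.quadFormPlus m F) ∧ ((g : Matrix.GeneralLinearGroup (Fin m ⊕ Fin m) F) : Matrix (Fin m ⊕ Fin m) (Fin m ⊕ Fin m) F) = Matrix.diagonal (fun k : Fin m ⊕ Fin m => if (Sum.elim (fun j : Fin m => (j : ℕ)) (fun j : Fin m => (j : ℕ)) k) < i then (-1 : F) else 1)) ↔ q ^ i % 4 = 1 := by
  have h2 : (2 : F) ≠ 0 := by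
    intro h
    have hchar : ringChar F = 2 := by
      have : CharP F 2 := CharTwo.of_one_ne_zero_of_two_eq_zero one_ne_zero h
      exact ringChar.eq F 2
    have := FiniteField.even_card_of_char_two hchar
    rw [hF] at this
    obtain ⟨t, ht⟩ := hq
    omega
  rw [← neg_one_pow_isSquare_iff hF hq i]
  have key := negPairs_iff h2 (qfPlus m F) (Sum.inl : Fin m → Fin m ⊕ Fin m) Sum.inr
    (by intro j; simp)
    (by
      intro j x
      rw [qfPlus_coe, polar_plus]
      simp [Pi.single_apply])
    (by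
      intro j x
      rw [qfPlus_coe, polar_plus]
      simp [Pi.single_apply])
    (by
      intro j
      show Cfsg.quadFormPlus m F _ = 0
      simp [Cfsg.quadFormPlus, Pi.single_apply])
    (by
      intro j
      show Cfsg.quadFormPlus m F _ = 0
      simp [Cfsg.quadFormPlus, Pi.single_apply])
    (Sum.elim (fun j : Fin m => (j : ℕ)) (fun j : Fin m => (j : ℕ)))
    (by intro j; rfl) (by intro j; rfl) i him
    (by
      intro k _
      rcases k with j | j
      · exact ⟨j, Or.inl rfl⟩
      · exact ⟨j, Or.inr rfl⟩)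
  exact key

end Cfsg.Agent.S2613
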