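import Cfsg.Statements.S0286
import Cfsg.Agent.Lib.Lead.OrthOdd
import Mathlib

set_option autoImplicit false
open Cfsg

namespace Cfsg.Agent.S0286

open Finset Cfsg.Agent.Lib.Lead Cfsg.Agent.Lib.Lead.OG

theorem prod_formula (q : ℕ) (n : ℕ) :
    ∏ i ∈ Finset.range n, ((q ^ (2 * (i + 1)) - 1) * q ^ (2 * (i + 1) - 1)) =
      q ^ (n ^ 2) * ∏ i ∈ Finset.range n, (q ^ (2 * (i + 1)) - 1) := by
  induction n with
  | zero => simp
  | succ n ih =>
    rw [Finset.prod_range_succ, ih, Finset.prod_range_succ]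
    have h3 : q ^ ((n + 1) ^ 2) = q ^ (n ^ 2) * q ^ (2 * (n + 1) - 1) := by
      rw [← pow_add]; congr 1
      have : 2 * (n + 1) - 1 = 2 * n + 1 := by omega
      rw [this]; ring
    rw [h3]
    ring

theorem two_ne_zero_of_odd {F : Type*} [Field F] [Fintype F] {q : ℕ} (hF : Fintype.card F = q)
    (hodd : Odd q) : (2 : F) ≠ 0 := by
  intro h2
  obtain ⟨k, hk⟩ := hodd
  have h : ((2 * k + 1 : ℕ) : F) = 0 := by
    rw [← hk, ← hF]; exact Nat.cast_card_eq_zero F
  push_cast at h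
  rw [h2, zero_mul, zero_add] at h
  exact one_ne_zero h

/-- |GO_{2m+1}(q)| = 2 q^(m^2) prod_{i=1}^{m} (q^(2i) - 1) for q odd. -/
theorem result {F : Type*} [Field F] [Fintype F] {q : ℕ} (hF : Fintype.card F = q) (hodd : Odd q) (m : ℕ) : Nat.card (Cfsg.isometryGroup F (Cfsg.quadFormOdd m F)) = 2 * q ^ (m ^ 2) * ∏ i ∈ Finset.range m, (q ^ (2 * (i + 1)) - 1) := by
  classical
  have h2 := two_ne_zero_of_odd hF hodd
  rw [card_GOodd_eq_prod h2, hF, mul_comm, mul_assoc, ← prod_formula q m]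
  congr 1
  rw [← Finset.prod_range_reflect (fun i => (q ^ (2 * (i + 1)) - 1) * q ^ (2 * (i + 1) - 1)) m]
  refine Finset.prod_congr rfl (fun i hi => ?_)
  rw [Finset.mem_range] at hi
  have e : m - i = (m - 1 - i) + 1 := by omega
  rw [e]

end Cfsg.Agent.S0286
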