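import Cfsg.Statements.S0292
import Cfsg.Agent.S0286
import Cfsg.Agent.Lib.Lead.OmegaCenter
import Cfsg.Agent.Lib.Lead.Reindex
import Cfsg.Agent.Lib.Helper16.SpinG2

set_option autoImplicit false
open Cfsg

namespace Cfsg.Agent.S0292

open Cfsg.Agent.Lib.Lead Cfsg.Agent.Lib.Helper16 Matrix

theorem two_ne_zero_of_odd {F : Type*} [Field F] [Fintype F] {q : ℕ} (hF : Fintype.card F = q)
    (hq : Odd q) : (2 : F) ≠ 0 := by
  intro h
  have hchar : ringChar F = 2 := by
    have : CharP F 2 := CharTwo.of_one_ne_zero_of_two_eq_zero one_ne_zero h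
    exact ringChar.eq F 2
  have := FiniteField.even_card_of_char_two hchar
  rw [hF] at this
  obtain ⟨t, ht⟩ := hq
  omega

theorem nondeg_odd {F : Type*} [Field F] [Fintype F] (h2 : (2 : F) ≠ 0) (m : ℕ) :
    (QuadraticMap.polarBilin (qfOdd m F)).Nondegenerate := by
  have hqp := Cfsg.Agent.Lib.Lead.OG.isQP_odd (m := m) (F := F) h2
  have hB : ∀ x y, QuadraticMap.polarBilin (qfOdd m F) x y =
      Cfsg.Agent.Lib.Lead.OG.polarO F m x y := by
    intro x y
    rw [QuadraticMap.polarBilin_apply_apply, QuadraticMap.polar, qfOdd_coe, hqp.add x y]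
    ring
  have hsep : (QuadraticMap.polarBilin (qfOdd m F)).SeparatingLeft := by
    intro x hx
    by_contra hne
    obtain ⟨y, hy⟩ := hqp.nondeg x hne
    exact hy (by rw [← hB]; exact hx y)
  refine ⟨hsep, ?_⟩
  intro y hy
  apply hsep y
  intro x
  have := hy x
  rw [hB] at this ⊢
  rw [hqp.symm x y, one_mul]
  exact this

theorem center_trivial_gen {ι : Type} [Fintype ι] [DecidableEq ι] {F : Type*} [Field F] [Fintype F]
    (h2 : (2 : F) ≠ 0) (Q : QuadraticForm F (ι → F))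
    (hQ : (QuadraticMap.polarBilin Q).Nondegenerate) (hn : 4 ≤ Fintype.card ι)
    (hodd : Odd (Fintype.card ι)) :
    Subgroup.center ↥(Cfsg.Omega F ⇑Q) = ⊥ := by
  rw [eq_bot_iff]
  rintro ⟨z, hzΩ⟩ hz
  rw [Subgroup.mem_bot]
  have hcomm : ∀ t ∈ Cfsg.Omega F ⇑Q, z * t = t * z := by
    intro t ht
    have := Subgroup.mem_center_iff.mp hz ⟨t, ht⟩
    have h3 := congrArg Subtype.val this
    exact h3.symm
  obtain ⟨a, ha⟩ := OC.scalar_of_central h2 Q hQ hn z hcomm
  have hdet : ((z : Matrix.GeneralLinearGroup ι F) : Matrix ι ι F).det = 1 := by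
    have h1 : isoDet (⇑Q) z = 1 :=
      MonoidHom.mem_ker.mp (omega_le_ker (⇑Q) (isoDet (⇑Q)) hzΩ)
    have := congrArg Units.val h1
    rw [isoDet_coe] at this
    exact this
  rw [ha, Matrix.det_smul, Matrix.det_one, mul_one] at hdet
  have hsq : a * a = 1 := by
    have hne : Nonempty ι := by
      rw [← Fintype.card_pos_iff]; omega
    obtain ⟨i⟩ := hne
    have hx0 : (Pi.single i 1 : ι → F) ≠ 0 := by
      intro h
      have := congrFun h i
      simp at this
    have : ∃ y, QuadraticMap.polarBilin Q (Pi.single i 1) y ≠ 0 := by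
      by_contra hcon
      push Not at hcon
      exact hx0 (hQ.1 _ hcon)
    obtain ⟨y, hy⟩ := this
    have hp := polar_iso' Q z (Pi.single i 1) y
    rw [ha, Matrix.smul_mulVec, Matrix.one_mulVec, Matrix.smul_mulVec, Matrix.one_mulVec,
      QuadraticMap.polar_smul_left, QuadraticMap.polar_smul_right, smul_eq_mul, smul_eq_mul,
      ← mul_assoc] at hp
    rw [QuadraticMap.polarBilin_apply_apply] at hy
    have : (a * a - 1) * QuadraticMap.polar (⇑Q) (Pi.single i 1) y = 0 := by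
      rw [sub_mul, hp, one_mul, sub_self]
    rcases mul_eq_zero.mp this with h | h
    · exact sub_eq_zero.mp h
    · exact absurd h hy
  have ha1 : a = 1 := by
    obtain ⟨k, hk⟩ := hodd
    rw [hk, pow_succ, pow_mul, pow_two, hsq, one_pow, one_mul] at hdet
    exact hdet
  apply Subtype.ext
  apply iso_ext'
  rw [ha, ha1, one_smul]
  rfl

theorem center_trivial {F : Type*} [Field F] [Fintype F] (h2 : (2 : F) ≠ 0) (m : ℕ) (hm : 3 ≤ m) :
    Subgroup.center ↥(Cfsg.Omega F (Cfsg.quadFormOdd m F)) = ⊥ := by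
  have hcard : Fintype.card (Unit ⊕ (Fin m ⊕ Fin m)) = 2 * m + 1 := by
    simp only [Fintype.card_sum, Fintype.card_fin, Fintype.card_unit]; ring
  exact center_trivial_gen h2 (qfOdd m F) (nondeg_odd h2 m) (by rw [hcard]; omega)
    (by rw [hcard]; exact ⟨m, rfl⟩)

/-- 2 |PΩ_{2m+1}(q)| = q^(m^2) prod_{i=1}^{m} (q^(2i) - 1), for q odd and m at least 3 (type B_m). -/
theorem result {F : Type*} [Field F] [Fintype F] {q : ℕ} (hF : Fintype.card F = q) (hodd : Odd q) (m : ℕ) (hm : 3 ≤ m) : 2 * Nat.card (Cfsg.POmega F (Cfsg.quadFormOdd m F)) = q ^ (m ^ 2) * ∏ i ∈ Finset.range m, (q ^ (2 * (i + 1)) - 1) := by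
  have h2 := two_ne_zero_of_odd hF hodd
  have hGO := Cfsg.Agent.S0286.result hF hodd m
  have hcard : Fintype.card (Unit ⊕ (Fin m ⊕ Fin m)) = 2 * m + 1 := by
    simp only [Fintype.card_sum, Fintype.card_fin, Fintype.card_unit]; ring
  have hidx : (Cfsg.Omega F (Cfsg.quadFormOdd m F)).index = 4 := by
    have := RI.index_omega_general h2 (by rw [hcard]; omega) (qfOdd m F) (nondeg_odd h2 m)
    rw [qfOdd_coe] at this
    exact this
  have h1 := Subgroup.card_mul_index (Cfsg.Omega F (Cfsg.quadFormOdd m F))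
  rw [hidx, hGO] at h1
  have h3 := Subgroup.card_eq_card_quotient_mul_card_subgroup
    (Subgroup.center ↥(Cfsg.Omega F (Cfsg.quadFormOdd m F)))
  have h4 : Nat.card ↥(Subgroup.center ↥(Cfsg.Omega F (Cfsg.quadFormOdd m F))) = 1 := by
    rw [center_trivial h2 m hm]
    exact Subgroup.card_bot
  rw [h4, mul_one] at h3
  show 2 * Nat.card (↥(Cfsg.Omega F (Cfsg.quadFormOdd m F)) ⧸
    Subgroup.center ↥(Cfsg.Omega F (Cfsg.quadFormOdd m F))) = _
  rw [← h3]
  have : Nat.card ↥(Cfsg.Omega F (Cfsg.quadFormOdd m F)) * 4 =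
      2 * (q ^ (m ^ 2) * ∏ i ∈ Finset.range m, (q ^ (2 * (i + 1)) - 1)) := by
    rw [h1]; ring
  omega

end Cfsg.Agent.S0292
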