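import Cfsg.Statements.S0767
import Cfsg.Agent.Lib.helper6.Symp

set_option autoImplicit false
open Cfsg Cfsg.Agent.Lib.helper6

namespace Cfsg.Agent.S0767

/-- The root group of a point: T_v(c) T_v(d) = T_v(c + d), and for A in the symplectic group with A v = a v, the conjugate A T_v(c) A⁻¹ is again some T_v(d). -/
theorem result {F : Type*} [Field F] (m : ℕ) (v : Fin m ⊕ Fin m → F) : (∀ c d : F, Cfsg.sympTransvection m v c * Cfsg.sympTransvection m v d = Cfsg.sympTransvection m v (c + d)) ∧ ∀ (A : Matrix (Fin m ⊕ Fin m) (Fin m ⊕ Fin m) F) (a : F), A ∈ Matrix.symplecticGroup (Fin m) F → A.mulVec v = a • v → ∀ c : F, ∃ d : F, A * Cfsg.sympTransvection m v c * A⁻¹ = Cfsg.sympTransvection m v d := by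
  have h0 : (Matrix.J (Fin m) F).mulVec v ⬝ᵥ v = 0 := by
    rw [dotProduct_comm]; exact sympForm_self m v
  constructor
  · intro c d
    unfold Cfsg.sympTransvection
    rw [Matrix.add_mul, Matrix.one_mul, Matrix.mul_add, Matrix.mul_one, Matrix.smul_mul,
      Matrix.mul_smul, Matrix.vecMulVec_mul_vecMulVec, h0, zero_smul, Matrix.vecMulVec_zero,
      smul_zero, smul_zero, add_zero, add_smul, add_assoc, add_comm (d • _)]
  · intro A a hA hAv c
    refine ⟨c * a * a, ?_⟩
    have hdet : IsUnit A.det := SymplecticGroup.symplectic_det hA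
    have hinv : A⁻¹ = -(Matrix.J (Fin m) F) * A.transpose * Matrix.J (Fin m) F :=
      SymplecticGroup.inv_eq_symplectic_inv A hA
    unfold Cfsg.sympTransvection
    rw [Matrix.mul_add, Matrix.mul_one, Matrix.add_mul, Matrix.mul_nonsing_inv A hdet,
      Matrix.mul_smul, Matrix.smul_mul, Matrix.mul_vecMulVec, Matrix.vecMulVec_mul, hAv]
    have h1 : Matrix.vecMul ((Matrix.J (Fin m) F).mulVec v) A⁻¹ = a • (Matrix.J (Fin m) F).mulVec v := by
      rw [hinv, ← Matrix.vecMul_vecMul, ← Matrix.vecMul_vecMul, Matrix.vecMul_neg,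
        J_mulVec_vecMul_J, Matrix.vecMul_transpose, Matrix.mulVec_neg, hAv]
      have : Matrix.vecMul (-(a • v)) (Matrix.J (Fin m) F) = (Matrix.J (Fin m) F).transpose.mulVec (-(a • v)) := by
        rw [Matrix.mulVec_transpose]
      rw [this, Matrix.J_transpose, Matrix.neg_mulVec, Matrix.mulVec_neg, neg_neg,
        Matrix.mulVec_smul]
    rw [h1, Matrix.smul_vecMulVec, Matrix.vecMulVec_smul, smul_smul, smul_smul]

end Cfsg.Agent.S0767
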