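import Cfsg.Statements.S5646
import Cfsg.Agent.Lib.helper6.Symp
import Cfsg.Agent.S0765
import Cfsg.Agent.S0767

set_option autoImplicit false

open Cfsg

namespace Cfsg.Agent.S5646

open Matrix Cfsg.Agent.Lib.helper6

theorem mem_spGL_iff {m : ℕ} {F : Type*} [Field F]
    (g : Matrix.GeneralLinearGroup (Fin m ⊕ Fin m) F) :
    g ∈ Cfsg.spGL m F ↔ ∀ u v, Cfsg.sympForm m F ((g : Matrix (Fin m ⊕ Fin m) (Fin m ⊕ Fin m) F) *ᵥ u)
      ((g : Matrix (Fin m ⊕ Fin m) (Fin m ⊕ Fin m) F) *ᵥ v) = Cfsg.sympForm m F u v := Iff.rfl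

theorem mem_stabW_iff {m : ℕ} {F : Type*} [Field F] (W : Submodule F (Fin m ⊕ Fin m → F))
    (g : Matrix.GeneralLinearGroup (Fin m ⊕ Fin m) F) :
    g ∈ Cfsg.Geo.subspaceStabilizer W ↔
      ∀ v, v ∈ W ↔ (g : Matrix (Fin m ⊕ Fin m) (Fin m ⊕ Fin m) F) *ᵥ v ∈ W := Iff.rfl

theorem glx {m : ℕ} {F : Type*} [Field F] (g1 g2 : Matrix.GeneralLinearGroup (Fin m ⊕ Fin m) F)
    (h : ∀ x, (g1 : Matrix (Fin m ⊕ Fin m) (Fin m ⊕ Fin m) F) *ᵥ x =
      (g2 : Matrix (Fin m ⊕ Fin m) (Fin m ⊕ Fin m) F) *ᵥ x) : g1 = g2 :=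
  Units.ext (Matrix.ext_iff_mulVec.mpr h)

theorem ts_zero {m : ℕ} {F : Type*} [Field F] (v : Fin m ⊕ Fin m → F) :
    Cfsg.sympTransvection m v (0 : F) = 1 := by
  unfold Cfsg.sympTransvection
  rw [zero_smul, add_zero]

theorem tsGL {m : ℕ} {F : Type*} [Field F] (v : Fin m ⊕ Fin m → F) (c : F) :
    ∃ g : Matrix.GeneralLinearGroup (Fin m ⊕ Fin m) F,
      (g : Matrix (Fin m ⊕ Fin m) (Fin m ⊕ Fin m) F) = Cfsg.sympTransvection m v c ∧
      g ∈ Cfsg.spGL m F := by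
  have h1 := (Cfsg.Agent.S0767.result m v).1
  refine ⟨⟨Cfsg.sympTransvection m v c, Cfsg.sympTransvection m v (-c), ?_, ?_⟩, rfl, ?_⟩
  · rw [h1, add_neg_cancel, ts_zero]
  · rw [h1, neg_add_cancel, ts_zero]
  · rw [mem_spGL_iff]
    exact (mem_symplecticGroup_iff_sympForm m _).mp (sympTransvection_mem m v c)

theorem ts_apply {m : ℕ} {F : Type*} [Field F] (g : Matrix.GeneralLinearGroup (Fin m ⊕ Fin m) F)
    (v : Fin m ⊕ Fin m → F) (c : F)
    (hg : (g : Matrix (Fin m ⊕ Fin m) (Fin m ⊕ Fin m) F) = Cfsg.sympTransvection m v c)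
    (x : Fin m ⊕ Fin m → F) :
    (g : Matrix (Fin m ⊕ Fin m) (Fin m ⊕ Fin m) F) *ᵥ x = x + (c * Cfsg.sympForm m F x v) • v := by
  rw [hg, sympTransvection_mulVec]

theorem X_conj {m : ℕ} {F : Type*} [Field F]
    (M : Subgroup (Matrix.GeneralLinearGroup (Fin m ⊕ Fin m) F)) (hM : M ≤ Cfsg.spGL m F)
    (v : Fin m ⊕ Fin m → F)
    (hv : ∀ c : F, ∀ g : Matrix.GeneralLinearGroup (Fin m ⊕ Fin m) F,
      (g : Matrix (Fin m ⊕ Fin m) (Fin m ⊕ Fin m) F) = Cfsg.sympTransvection m v c → g ∈ M)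
    (h : Matrix.GeneralLinearGroup (Fin m ⊕ Fin m) F) (hh : h ∈ M) :
    ∀ c : F, ∀ g : Matrix.GeneralLinearGroup (Fin m ⊕ Fin m) F,
      (g : Matrix (Fin m ⊕ Fin m) (Fin m ⊕ Fin m) F) =
        Cfsg.sympTransvection m ((h : Matrix (Fin m ⊕ Fin m) (Fin m ⊕ Fin m) F) *ᵥ v) c → g ∈ M := by
  intro c g hg
  obtain ⟨g0, hg0, _⟩ := tsGL v c
  have hg0M : g0 ∈ M := hv c g0 hg0
  have hiso := (mem_spGL_iff h).mp (hM hh)
  have hcancel : ∀ x, (h : Matrix (Fin m ⊕ Fin m) (Fin m ⊕ Fin m) F) *ᵥ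
      (((h⁻¹ : Matrix.GeneralLinearGroup (Fin m ⊕ Fin m) F) :
        Matrix (Fin m ⊕ Fin m) (Fin m ⊕ Fin m) F) *ᵥ x) = x := by
    intro x
    rw [Matrix.mulVec_mulVec, ← Units.val_mul, mul_inv_cancel, Units.val_one, Matrix.one_mulVec]
  have : g = h * g0 * h⁻¹ := by
    apply glx
    intro x
    rw [ts_apply g _ c hg, Units.val_mul, Units.val_mul, ← Matrix.mulVec_mulVec,
      ← Matrix.mulVec_mulVec, ts_apply g0 v c hg0, Matrix.mulVec_add, Matrix.mulVec_smul, hcancel]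
    congr 2
    have := hiso (((h⁻¹ : Matrix.GeneralLinearGroup (Fin m ⊕ Fin m) F) :
        Matrix (Fin m ⊕ Fin m) (Fin m ⊕ Fin m) F) *ᵥ x) v
    rw [hcancel] at this
    rw [this]
  rw [this]
  exact M.mul_mem (M.mul_mem hh hg0M) (M.inv_mem hh)

theorem X_smul {m : ℕ} {F : Type*} [Field F]
    (M : Subgroup (Matrix.GeneralLinearGroup (Fin m ⊕ Fin m) F))
    (v : Fin m ⊕ Fin m → F)
    (hv : ∀ c : F, ∀ g : Matrix.GeneralLinearGroup (Fin m ⊕ Fin m) F,
      (g : Matrix (Fin m ⊕ Fin m) (Fin m ⊕ Fin m) F) = Cfsg.sympTransvection m v c → g ∈ M)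
    (a : F) :
    ∀ c : F, ∀ g : Matrix.GeneralLinearGroup (Fin m ⊕ Fin m) F,
      (g : Matrix (Fin m ⊕ Fin m) (Fin m ⊕ Fin m) F) =
        Cfsg.sympTransvection m (a • v) c → g ∈ M := by
  intro c g hg
  apply hv (c * a * a) g
  rw [hg, Matrix.ext_iff_mulVec]
  intro x
  rw [sympTransvection_mulVec, sympTransvection_mulVec, sympForm_smul_right, smul_smul]
  congr 2
  ring

theorem X_base {m : ℕ} {F : Type*} [Field F] (W : Submodule F (Fin m ⊕ Fin m → F))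
    (M : Subgroup (Matrix.GeneralLinearGroup (Fin m ⊕ Fin m) F))
    (hPM : Cfsg.Geo.subspaceStabilizer W ⊓ Cfsg.spGL m F ≤ M)
    (v : Fin m ⊕ Fin m → F) (hv : v ∈ W ∨ ∀ w ∈ W, Cfsg.sympForm m F w v = 0) :
    ∀ c : F, ∀ g : Matrix.GeneralLinearGroup (Fin m ⊕ Fin m) F,
      (g : Matrix (Fin m ⊕ Fin m) (Fin m ⊕ Fin m) F) = Cfsg.sympTransvection m v c → g ∈ M := by
  intro c g hg
  apply hPM
  refine Subgroup.mem_inf.mpr ⟨?_, ?_⟩
  · rw [mem_stabW_iff]
    intro x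
    rw [ts_apply g v c hg]
    rcases hv with hv | hv
    · constructor
      · intro hx
        exact W.add_mem hx (W.smul_mem _ hv)
      · intro hx
        have := W.sub_mem hx (W.smul_mem (c * Cfsg.sympForm m F x v) hv)
        simpa using this
    · constructor
      · intro hx
        rw [hv x hx, mul_zero, zero_smul, add_zero]
        exact hx
      · intro hx
        have h1 := hv _ hx
        rw [sympForm_add_left, sympForm_smul_left, sympForm_self, mul_zero, add_zero] at h1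
        rw [h1, mul_zero, zero_smul, add_zero] at hx
        exact hx
  · obtain ⟨g0, hg0, hg0S⟩ := tsGL v c
    have : g = g0 := Units.ext (hg.trans hg0.symm)
    rw [this]
    exact hg0S

theorem move {m : ℕ} {F : Type*} [Field F]
    (M : Subgroup (Matrix.GeneralLinearGroup (Fin m ⊕ Fin m) F)) (hM : M ≤ Cfsg.spGL m F)
    (A B : Submodule F (Fin m ⊕ Fin m → F))
    (hAX : ∀ v ∈ A, ∀ c : F, ∀ g : Matrix.GeneralLinearGroup (Fin m ⊕ Fin m) F,
      (g : Matrix (Fin m ⊕ Fin m) (Fin m ⊕ Fin m) F) = Cfsg.sympTransvection m v c → g ∈ M)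
    (hAB : ∀ a ∈ A, ∀ b ∈ B, Cfsg.sympForm m F a b = 0)
    (hnd : ∀ a ∈ A, a ≠ 0 → ∃ t ∈ A, Cfsg.sympForm m F a t ≠ 0)
    (a a' b : Fin m ⊕ Fin m → F) (ha : a ∈ A) (ha' : a' ∈ A) (ha0 : a ≠ 0) (ha'0 : a' ≠ 0)
    (hb : b ∈ B)
    (hab : ∀ c : F, ∀ g : Matrix.GeneralLinearGroup (Fin m ⊕ Fin m) F,
      (g : Matrix (Fin m ⊕ Fin m) (Fin m ⊕ Fin m) F) = Cfsg.sympTransvection m (a + b) c → g ∈ M) :
    ∀ c : F, ∀ g : Matrix.GeneralLinearGroup (Fin m ⊕ Fin m) F,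
      (g : Matrix (Fin m ⊕ Fin m) (Fin m ⊕ Fin m) F) =
        Cfsg.sympTransvection m (a' + b) c → g ∈ M := by
  have hstep : ∀ a1 a2 : Fin m ⊕ Fin m → F, a1 ∈ A → a2 ∈ A → Cfsg.sympForm m F a1 a2 ≠ 0 →
      (∀ c : F, ∀ g : Matrix.GeneralLinearGroup (Fin m ⊕ Fin m) F,
        (g : Matrix (Fin m ⊕ Fin m) (Fin m ⊕ Fin m) F) =
          Cfsg.sympTransvection m (a1 + b) c → g ∈ M) →
      ∀ c : F, ∀ g : Matrix.GeneralLinearGroup (Fin m ⊕ Fin m) F,
        (g : Matrix (Fin m ⊕ Fin m) (Fin m ⊕ Fin m) F) =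
          Cfsg.sympTransvection m (a2 + b) c → g ∈ M := by
    intro a1 a2 h1 h2 hne h1b
    obtain ⟨t, ht, _⟩ := tsGL (a2 - a1) (Cfsg.sympForm m F a1 a2)⁻¹
    have htM : t ∈ M := hAX _ (A.sub_mem h2 h1) _ t ht
    have := X_conj M hM _ h1b t htM
    have e : (t : Matrix (Fin m ⊕ Fin m) (Fin m ⊕ Fin m) F) *ᵥ (a1 + b) = a2 + b := by
      rw [ts_apply t _ _ ht, sympForm_add_left, sympForm_sub_right, sympForm_sub_right,
        sympForm_self, sub_zero]
      have hb2 : Cfsg.sympForm m F b a2 = 0 := by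
        rw [sympForm_swap, hAB a2 h2 b hb, neg_zero]
      have hb1 : Cfsg.sympForm m F b a1 = 0 := by
        rw [sympForm_swap, hAB a1 h1 b hb, neg_zero]
      rw [hb2, hb1, sub_zero, add_zero, inv_mul_cancel₀ hne, one_smul]
      abel
    rw [e] at this
    exact this
  by_cases h0 : Cfsg.sympForm m F a a' = 0
  · have hex : ∃ t ∈ A, Cfsg.sympForm m F a t ≠ 0 ∧ Cfsg.sympForm m F t a' ≠ 0 := by
      obtain ⟨x1, hx1A, hx1⟩ := hnd a ha ha0
      obtain ⟨x2, hx2A, hx2⟩ := hnd a' ha' ha'0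
      have hx2' : Cfsg.sympForm m F x2 a' ≠ 0 := by
        rw [sympForm_swap]
        exact neg_ne_zero.mpr hx2
      by_cases h1 : Cfsg.sympForm m F x1 a' = 0
      · by_cases h2 : Cfsg.sympForm m F a x2 = 0
        · refine ⟨x1 + x2, A.add_mem hx1A hx2A, ?_, ?_⟩
          · rw [sympForm_add_right, h2, add_zero]
            exact hx1
          · rw [sympForm_add_left, h1, zero_add]
            exact hx2'
        · exact ⟨x2, hx2A, h2, hx2'⟩
      · exact ⟨x1, hx1A, hx1, h1⟩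
    obtain ⟨t, htA, ht1, ht2⟩ := hex
    exact hstep t a' htA ha' ht2 (hstep a t ha htA ht1 hab)
  · exact hstep a a' ha ha' h0 hab

theorem all_into {ι : Type} [Fintype ι] [DecidableEq ι] {F : Type*} [Field F]
    (k : Matrix ι ι F) (A O1 O2 : Submodule F (ι → F)) (hdisj : O1 ⊓ O2 = ⊥)
    (hall : ∀ x ∈ A, k *ᵥ x ∈ O1 ∨ k *ᵥ x ∈ O2)
    (x0 : ι → F) (hx0 : x0 ∈ A) (hx0n : k *ᵥ x0 ∉ O1) : ∀ x ∈ A, k *ᵥ x ∈ O2 := by
  have h0 : k *ᵥ x0 ∈ O2 := (hall x0 hx0).resolve_left hx0n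
  intro x hx
  rcases hall x hx with h1 | h1
  · rcases hall (x + x0) (A.add_mem hx hx0) with h2 | h2
    · exfalso
      apply hx0n
      rw [Matrix.mulVec_add] at h2
      have := O1.sub_mem h2 h1
      simpa using this
    · rw [Matrix.mulVec_add] at h2
      have := O2.sub_mem h2 h0
      simpa using this
  · exact h1

theorem exists_mixed {ι : Type} [Fintype ι] [DecidableEq ι] {F : Type*} [Field F]
    (k : Matrix.GeneralLinearGroup ι F) (W O : Submodule F (ι → F)) (hdisj : W ⊓ O = ⊥)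
    (hsup : W ⊔ O = ⊤) (hW0 : W ≠ ⊥) (hlt : Module.finrank F W < Module.finrank F O)
    (w0 : ι → F) (hw0 : w0 ∈ W) (hkw0 : (k : Matrix ι ι F) *ᵥ w0 ∉ W) :
    ∃ x, (x ∈ W ∨ x ∈ O) ∧ (k : Matrix ι ι F) *ᵥ x ∉ W ∧ (k : Matrix ι ι F) *ᵥ x ∉ O := by
  by_contra hcon
  push_neg at hcon
  have hallW : ∀ x ∈ W, (k : Matrix ι ι F) *ᵥ x ∈ W ∨ (k : Matrix ι ι F) *ᵥ x ∈ O := by
    intro x hx
    by_cases h : (k : Matrix ι ι F) *ᵥ x ∈ W
    · exact Or.inl h
    · exact Or.inr (hcon x (Or.inl hx) h)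
  have hallO : ∀ x ∈ O, (k : Matrix ι ι F) *ᵥ x ∈ O ∨ (k : Matrix ι ι F) *ᵥ x ∈ W := by
    intro x hx
    by_cases h : (k : Matrix ι ι F) *ᵥ x ∈ W
    · exact Or.inr h
    · exact Or.inl (hcon x (Or.inr hx) h)
  have hWO : ∀ x ∈ W, (k : Matrix ι ι F) *ᵥ x ∈ O := all_into _ W W O hdisj hallW w0 hw0 hkw0
  have hdisj' : O ⊓ W = ⊥ := by rw [inf_comm]; exact hdisj
  have hinj : ∀ x y : ι → F, (k : Matrix ι ι F) *ᵥ x = (k : Matrix ι ι F) *ᵥ y → x = y := by
    intro x y hxy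
    have := congrArg (fun z => ((k⁻¹ : Matrix.GeneralLinearGroup ι F) : Matrix ι ι F) *ᵥ z) hxy
    simp only [Matrix.mulVec_mulVec, ← Units.val_mul, inv_mul_cancel, Units.val_one,
      Matrix.one_mulVec] at this
    exact this
  by_cases hO : ∀ b ∈ O, (k : Matrix ι ι F) *ᵥ b ∈ O
  · have hallV : ∀ v : ι → F, (k : Matrix ι ι F) *ᵥ v ∈ O := by
      intro v
      have hv : v ∈ W ⊔ O := by rw [hsup]; exact Submodule.mem_top
      rw [Submodule.mem_sup] at hv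
      obtain ⟨a, ha, b, hb, rfl⟩ := hv
      rw [Matrix.mulVec_add]
      exact O.add_mem (hWO a ha) (hO b hb)
    have hOtop : O = ⊤ := by
      rw [eq_top_iff]
      intro v _
      have := hallV (((k⁻¹ : Matrix.GeneralLinearGroup ι F) : Matrix ι ι F) *ᵥ v)
      rw [Matrix.mulVec_mulVec, ← Units.val_mul, mul_inv_cancel, Units.val_one,
        Matrix.one_mulVec] at this
      exact this
    rw [hOtop, inf_top_eq] at hdisj
    exact hW0 hdisj
  · push_neg at hO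
    obtain ⟨b0, hb0, hkb0⟩ := hO
    have hOW : ∀ x ∈ O, (k : Matrix ι ι F) *ᵥ x ∈ W := all_into _ O O W hdisj' hallO b0 hb0 hkb0
    have hle : Module.finrank F O ≤ Module.finrank F W := by
      apply LinearMap.finrank_le_finrank_of_injective
        (f := LinearMap.codRestrict W ((Matrix.mulVecLin (k : Matrix ι ι F)).domRestrict O)
          (fun b => hOW b.1 b.2))
      intro x y hxy
      have h1 := congrArg Subtype.val hxy
      exact Subtype.ext (hinj _ _ h1)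
    omega

theorem decomp {m : ℕ} {F : Type*} [Field F] (W : Submodule F (Fin m ⊕ Fin m → F))
    (hW : Cfsg.Geo.IsNondegenerateOn (Cfsg.sympForm m F) W) :
    ∃ O : Submodule F (Fin m ⊕ Fin m → F),
      (∀ v, v ∈ O ↔ ∀ w ∈ W, Cfsg.sympForm m F w v = 0) ∧ W ⊓ O = ⊥ ∧ W ⊔ O = ⊤ ∧
      Module.finrank F W + Module.finrank F O = 2 * m := by
  have hBf : ∀ u v, Matrix.toBilin' (Matrix.J (Fin m) F) u v = Cfsg.sympForm m F u v :=
    fun u v => Matrix.toBilin'_apply' _ _ _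
  have hrefl : (Matrix.toBilin' (Matrix.J (Fin m) F)).IsRefl := by
    intro u v h
    rw [hBf] at h ⊢
    rw [sympForm_swap, h, neg_zero]
  have hnd : ((Matrix.toBilin' (Matrix.J (Fin m) F)).restrict W).Nondegenerate := by
    constructor
    · intro x hx
      by_contra hne
      obtain ⟨_, ⟨y, hy, hxy⟩⟩ := hW x.1 x.2 (fun h => hne (Subtype.ext h))
      apply hxy
      have := hx ⟨y, hy⟩
      rw [LinearMap.BilinForm.restrict_apply, LinearMap.domRestrict_apply, hBf] at this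
      exact this
    · intro x hx
      by_contra hne
      obtain ⟨⟨y, hy, hxy⟩, _⟩ := hW x.1 x.2 (fun h => hne (Subtype.ext h))
      apply hxy
      have := hx ⟨y, hy⟩
      rw [LinearMap.BilinForm.restrict_apply, LinearMap.domRestrict_apply, hBf] at this
      exact this
  have hc := LinearMap.BilinForm.isCompl_orthogonal_of_restrict_nondegenerate hrefl hnd
  refine ⟨(Matrix.toBilin' (Matrix.J (Fin m) F)).orthogonal W, ?_, hc.inf_eq_bot, hc.sup_eq_top, ?_⟩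
  · intro v
    rw [LinearMap.BilinForm.mem_orthogonal_iff]
    simp only [hBf]
  · rw [Submodule.finrank_add_eq_of_isCompl hc, Module.finrank_fintype_fun_eq_card,
      Fintype.card_sum, Fintype.card_fin]
    ring

theorem sp_gen {m : ℕ} {F : Type*} [Field F]
    (M : Subgroup (Matrix.GeneralLinearGroup (Fin m ⊕ Fin m) F))
    (hall : ∀ (v : Fin m ⊕ Fin m → F) (c : F) (g : Matrix.GeneralLinearGroup (Fin m ⊕ Fin m) F),
      (g : Matrix (Fin m ⊕ Fin m) (Fin m ⊕ Fin m) F) = Cfsg.sympTransvection m v c → g ∈ M) :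
    Cfsg.spGL m F ≤ M := by
  intro g hg
  have hgS : (g : Matrix (Fin m ⊕ Fin m) (Fin m ⊕ Fin m) F) ∈ Matrix.symplecticGroup (Fin m) F :=
    (mem_symplecticGroup_iff_sympForm m _).mpr ((mem_spGL_iff g).mp hg)
  have htop := Cfsg.Agent.S0765.result (F := F) m
  have hle : Subgroup.closure {A : Matrix.symplecticGroup (Fin m) F |
      ∃ (w : Fin m ⊕ Fin m → F) (c : F),
        (A : Matrix (Fin m ⊕ Fin m) (Fin m ⊕ Fin m) F) = Cfsg.sympTransvection m w c} ≤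
      M.comap (MonoidHom.toHomUnits (Matrix.symplecticGroup (Fin m) F).subtype) := by
    rw [Subgroup.closure_le]
    rintro A ⟨w, c, hA⟩
    rw [SetLike.mem_coe, Subgroup.mem_comap]
    exact hall w c _ hA
  rw [htop] at hle
  have := hle (Subgroup.mem_top ⟨_, hgS⟩)
  rw [Subgroup.mem_comap] at this
  have e : MonoidHom.toHomUnits (Matrix.symplecticGroup (Fin m) F).subtype ⟨_, hgS⟩ = g :=
    Units.ext rfl
  rw [e] at this
  exact this

theorem result {F : Type*} [Field F] [Fintype F] (m : ℕ) (hm : 7 ≤ m) (W : Submodule F (Fin m ⊕ Fin m → F)) (hW0 : W ≠ ⊥) (hW : Cfsg.Geo.IsNondegenerateOn (Cfsg.sympForm m F) W) (hdim : Module.finrank F W < m) : Cfsg.Geo.IsMaximalIn (Cfsg.spGL m F) (Cfsg.Geo.subspaceStabilizer W ⊓ Cfsg.spGL m F) := by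
  obtain ⟨O, hO, hdisj, hsup, hfr⟩ := decomp W hW
  have hlt : Module.finrank F W < Module.finrank F O := by omega
  have hWnd : ∀ a ∈ W, a ≠ 0 → ∃ t ∈ W, Cfsg.sympForm m F a t ≠ 0 :=
    fun a ha h0 => (hW a ha h0).2
  have hWO : ∀ a ∈ W, ∀ b ∈ O, Cfsg.sympForm m F a b = 0 := fun a ha b hb => (hO b).mp hb a ha
  have hOW : ∀ b ∈ O, ∀ a ∈ W, Cfsg.sympForm m F b a = 0 := by
    intro b hb a ha
    rw [sympForm_swap, hWO a ha b hb, neg_zero]
  have hsplit : ∀ v : Fin m ⊕ Fin m → F, ∃ a ∈ W, ∃ b ∈ O, a + b = v := by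
    intro v
    have hv : v ∈ W ⊔ O := by
      rw [hsup]
      exact Submodule.mem_top
    exact Submodule.mem_sup.mp hv
  have hOnd : ∀ b ∈ O, b ≠ 0 → ∃ t ∈ O, Cfsg.sympForm m F b t ≠ 0 := by
    intro b hb hb0
    obtain ⟨x, hx⟩ := sympForm_nondeg m b hb0
    obtain ⟨xa, hxa, xb, hxb, rfl⟩ := hsplit x
    rw [sympForm_add_right, hOW b hb xa hxa, zero_add] at hx
    exact ⟨xb, hxb, hx⟩
  have hbot : ∀ x, x ∈ W → x ∈ O → x = 0 := by
    intro x hxW hxO
    have : x ∈ W ⊓ O := ⟨hxW, hxO⟩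
    rw [hdisj] at this
    exact (Submodule.mem_bot F).mp this
  refine ⟨?_, ?_⟩
  · rw [SetLike.lt_iff_le_and_exists]
    refine ⟨inf_le_right, ?_⟩
    obtain ⟨a, haW, ha0⟩ := Submodule.exists_mem_ne_zero_of_ne_bot hW0
    have hO0 : O ≠ ⊥ := by
      intro h
      rw [h, finrank_bot] at hlt
      omega
    obtain ⟨b, hbO, hb0⟩ := Submodule.exists_mem_ne_zero_of_ne_bot hO0
    obtain ⟨a', ha'W, ha'⟩ := hWnd a haW ha0
    obtain ⟨g, hg, hgS⟩ := tsGL (a + b) (1 : F)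
    refine ⟨g, hgS, ?_⟩
    intro hmem
    have hst := (mem_stabW_iff W g).mp hmem.1
    have h1 := (hst a').mp ha'W
    rw [ts_apply g _ _ hg, one_mul, sympForm_add_right, hWO a' ha'W b hbO, add_zero] at h1
    have hne : Cfsg.sympForm m F a' a ≠ 0 := by
      rw [sympForm_swap]
      exact neg_ne_zero.mpr ha'
    have h2 : (Cfsg.sympForm m F a' a) • (a + b) ∈ W := by
      have := W.sub_mem h1 ha'W
      simpa using this
    have h3 : a + b ∈ W := by
      have := W.smul_mem (Cfsg.sympForm m F a' a)⁻¹ h2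
      rwa [smul_smul, inv_mul_cancel₀ hne, one_smul] at this
    have h4 : b ∈ W := by
      have := W.sub_mem h3 haW
      simpa using this
    exact hb0 (hbot b h4 hbO)
  · intro M hPM hMS
    by_cases hMP : M = Cfsg.Geo.subspaceStabilizer W ⊓ Cfsg.spGL m F
    · exact Or.inl hMP
    · right
      have hex : ∃ h ∈ M, h ∉ Cfsg.Geo.subspaceStabilizer W := by
        by_contra hcon
        push_neg at hcon
        exact hMP (le_antisymm (fun x hx => ⟨hcon x hx, hMS hx⟩) hPM)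
      obtain ⟨h, hhM, hh⟩ := hex
      rw [mem_stabW_iff] at hh
      push_neg at hh
      obtain ⟨v, hv⟩ := hh
      have hkey : ∃ k ∈ M, ∃ w ∈ W,
          (k : Matrix (Fin m ⊕ Fin m) (Fin m ⊕ Fin m) F) *ᵥ w ∉ W := by
        rcases hv with ⟨h1, h2⟩ | ⟨h1, h2⟩
        · exact ⟨h, hhM, v, h1, h2⟩
        · refine ⟨h⁻¹, M.inv_mem hhM, (h : Matrix (Fin m ⊕ Fin m) (Fin m ⊕ Fin m) F) *ᵥ v, h2, ?_⟩
          rw [Matrix.mulVec_mulVec, ← Units.val_mul, inv_mul_cancel, Units.val_one,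
            Matrix.one_mulVec]
          exact h1
      obtain ⟨k, hkM, w0, hw0, hkw0⟩ := hkey
      obtain ⟨x, hx, hkxW, hkxO⟩ := exists_mixed k W O hdisj hsup hW0 hlt w0 hw0 hkw0
      have hWX : ∀ v ∈ W, ∀ c : F, ∀ g : Matrix.GeneralLinearGroup (Fin m ⊕ Fin m) F,
          (g : Matrix (Fin m ⊕ Fin m) (Fin m ⊕ Fin m) F) = Cfsg.sympTransvection m v c → g ∈ M :=
        fun v hv => X_base W M hPM v (Or.inl hv)
      have hOX : ∀ v ∈ O, ∀ c : F, ∀ g : Matrix.GeneralLinearGroup (Fin m ⊕ Fin m) F,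
          (g : Matrix (Fin m ⊕ Fin m) (Fin m ⊕ Fin m) F) = Cfsg.sympTransvection m v c → g ∈ M :=
        fun v hv => X_base W M hPM v (Or.inr ((hO v).mp hv))
      have hxX : ∀ c : F, ∀ g : Matrix.GeneralLinearGroup (Fin m ⊕ Fin m) F,
          (g : Matrix (Fin m ⊕ Fin m) (Fin m ⊕ Fin m) F) = Cfsg.sympTransvection m x c → g ∈ M := by
        rcases hx with hx | hx
        · exact hWX x hx
        · exact hOX x hx
      have hyX := X_conj M hMS x hxX k hkM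
      obtain ⟨a0, ha0W, b0, hb0O, hab0⟩ := hsplit ((k : Matrix (Fin m ⊕ Fin m) (Fin m ⊕ Fin m) F) *ᵥ x)
      have ha00 : a0 ≠ 0 := by
        intro h0
        rw [h0, zero_add] at hab0
        exact hkxO (hab0 ▸ hb0O)
      have hb00 : b0 ≠ 0 := by
        intro h0
        rw [h0, add_zero] at hab0
        exact hkxW (hab0 ▸ ha0W)
      rw [← hab0] at hyX
      apply le_antisymm hMS
      apply sp_gen M
      intro v
      obtain ⟨a, haW, b, hbO, rfl⟩ := hsplit v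
      by_cases ha : a = 0
      · rw [ha, zero_add]
        exact hOX b hbO
      · by_cases hb : b = 0
        · rw [hb, add_zero]
          exact hWX a haW
        · have h1 := move M hMS W O hWX hWO hWnd a0 a b0 ha0W haW ha00 ha hb0O hyX
          rw [add_comm] at h1
          have h2 := move M hMS O W hOX hOW hOnd b0 b a hb0O hbO hb00 hb haW h1
          rw [add_comm] at h2
          exact h2

end Cfsg.Agent.S5646
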