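import Cfsg.Statements.S5645
import Cfsg.Agent.S5646

set_option autoImplicit false

open Cfsg

namespace Cfsg.Agent.S5645

open Matrix Cfsg.Agent.Lib.helper6 Cfsg.Agent.S5646

theorem repr {m : ℕ} {F : Type*} [Field F] (φ : (Fin m ⊕ Fin m → F) →ₗ[F] F) :
    ∃ y : Fin m ⊕ Fin m → F, ∀ x, Cfsg.sympForm m F x y = φ x := by
  refine ⟨-(Matrix.J (Fin m) F *ᵥ (fun i => φ (Pi.single i 1))), ?_⟩
  intro x
  unfold Cfsg.sympForm
  rw [Matrix.mulVec_neg, J_mulVec_J_mulVec, neg_neg, LinearMap.pi_apply_eq_sum_univ φ x]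
  simp only [dotProduct, smul_eq_mul]
  refine Finset.sum_congr rfl (fun i _ => ?_)
  congr 2
  funext j
  simp [Pi.single_apply, eq_comm]

theorem dperp {m : ℕ} {F : Type*} [Field F] (S : Submodule F (Fin m ⊕ Fin m → F))
    (z : Fin m ⊕ Fin m → F) (hz : z ∉ S) :
    ∃ y : Fin m ⊕ Fin m → F, (∀ s ∈ S, Cfsg.sympForm m F s y = 0) ∧ Cfsg.sympForm m F z y = 1 := by
  obtain ⟨φ, hφz, hφS⟩ := Submodule.exists_le_ker_of_notMem hz
  obtain ⟨y, hy⟩ := repr ((φ z)⁻¹ • φ)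
  refine ⟨y, ?_, ?_⟩
  · intro s hs
    rw [hy, LinearMap.smul_apply, show φ s = 0 from hφS hs, smul_zero]
  · rw [hy, LinearMap.smul_apply, smul_eq_mul, inv_mul_cancel₀ hφz]

theorem ts_inv {m : ℕ} {F : Type*} [Field F] (t : Matrix.GeneralLinearGroup (Fin m ⊕ Fin m) F)
    (v : Fin m ⊕ Fin m → F) (c : F)
    (ht : (t : Matrix (Fin m ⊕ Fin m) (Fin m ⊕ Fin m) F) = Cfsg.sympTransvection m v c) :
    ((t⁻¹ : Matrix.GeneralLinearGroup (Fin m ⊕ Fin m) F) :
      Matrix (Fin m ⊕ Fin m) (Fin m ⊕ Fin m) F) = Cfsg.sympTransvection m v (-c) := by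
  obtain ⟨t', ht', _⟩ := tsGL v (-c)
  have h1 := (Cfsg.Agent.S0767.result m v).1
  have : t * t' = 1 := by
    apply Units.ext
    rw [Units.val_mul, ht, ht', h1, add_neg_cancel, ts_zero, Units.val_one]
  rw [inv_eq_of_mul_eq_one_right this, ht']

theorem pair_apply {m : ℕ} {F : Type*} [Field F]
    (t1 t2 : Matrix.GeneralLinearGroup (Fin m ⊕ Fin m) F) (u w : Fin m ⊕ Fin m → F) (c : F)
    (huw : Cfsg.sympForm m F u w = 0)
    (ht1 : (t1 : Matrix (Fin m ⊕ Fin m) (Fin m ⊕ Fin m) F) = Cfsg.sympTransvection m (u + w) c)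
    (ht2 : (t2 : Matrix (Fin m ⊕ Fin m) (Fin m ⊕ Fin m) F) = Cfsg.sympTransvection m u (-c))
    (x : Fin m ⊕ Fin m → F) :
    ((t1 * t2 : Matrix.GeneralLinearGroup (Fin m ⊕ Fin m) F) :
      Matrix (Fin m ⊕ Fin m) (Fin m ⊕ Fin m) F) *ᵥ x =
      x + (c * Cfsg.sympForm m F x w) • u +
        (c * (Cfsg.sympForm m F x u + Cfsg.sympForm m F x w)) • w := by
  rw [Units.val_mul, ← Matrix.mulVec_mulVec, ts_apply t2 u (-c) ht2, ts_apply t1 (u + w) c ht1]
  simp only [sympForm_add_left, sympForm_add_right, sympForm_smul_left, sympForm_self, huw]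
  module

theorem pair_apply' {m : ℕ} {F : Type*} [Field F]
    (t1 t2 : Matrix.GeneralLinearGroup (Fin m ⊕ Fin m) F) (u w : Fin m ⊕ Fin m → F) (c : F)
    (huw : Cfsg.sympForm m F u w = 0)
    (ht1 : (t1 : Matrix (Fin m ⊕ Fin m) (Fin m ⊕ Fin m) F) = Cfsg.sympTransvection m (u + w) c)
    (ht2 : (t2 : Matrix (Fin m ⊕ Fin m) (Fin m ⊕ Fin m) F) = Cfsg.sympTransvection m u (-c))
    (x : Fin m ⊕ Fin m → F) :
    (((t1 * t2)⁻¹ : Matrix.GeneralLinearGroup (Fin m ⊕ Fin m) F) :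
      Matrix (Fin m ⊕ Fin m) (Fin m ⊕ Fin m) F) *ᵥ x =
      x - (c * Cfsg.sympForm m F x w) • u -
        (c * (Cfsg.sympForm m F x u + Cfsg.sympForm m F x w)) • w := by
  have hwu : Cfsg.sympForm m F w u = 0 := by rw [sympForm_swap, huw, neg_zero]
  rw [_root_.mul_inv_rev, Units.val_mul, ← Matrix.mulVec_mulVec, ts_apply t1⁻¹ (u + w) (-c) (ts_inv t1 _ _ ht1),
    ts_apply t2⁻¹ u (- -c) (ts_inv t2 _ _ ht2)]
  simp only [sympForm_add_left, sympForm_add_right, sympForm_smul_left, sympForm_self, huw, hwu]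
  module

theorem stab_of_both {m : ℕ} {F : Type*} [Field F] (W : Submodule F (Fin m ⊕ Fin m → F))
    (g : Matrix.GeneralLinearGroup (Fin m ⊕ Fin m) F)
    (h1 : ∀ x ∈ W, (g : Matrix (Fin m ⊕ Fin m) (Fin m ⊕ Fin m) F) *ᵥ x ∈ W)
    (h2 : ∀ x ∈ W, ((g⁻¹ : Matrix.GeneralLinearGroup (Fin m ⊕ Fin m) F) :
      Matrix (Fin m ⊕ Fin m) (Fin m ⊕ Fin m) F) *ᵥ x ∈ W) :
    g ∈ Cfsg.Geo.subspaceStabilizer W := by
  rw [mem_stabW_iff]
  intro x
  refine ⟨h1 x, fun hx => ?_⟩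
  have := h2 _ hx
  rwa [Matrix.mulVec_mulVec, ← Units.val_mul, inv_mul_cancel, Units.val_one,
    Matrix.one_mulVec] at this

theorem pair_mem {m : ℕ} {F : Type*} [Field F] (W : Submodule F (Fin m ⊕ Fin m → F))
    (hW : Cfsg.Geo.IsTotallySingularFor (Cfsg.sympForm m F) W)
    (M : Subgroup (Matrix.GeneralLinearGroup (Fin m ⊕ Fin m) F))
    (hPM : Cfsg.Geo.subspaceStabilizer W ⊓ Cfsg.spGL m F ≤ M)
    (t1 t2 : Matrix.GeneralLinearGroup (Fin m ⊕ Fin m) F) (u w : Fin m ⊕ Fin m → F) (c : F)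
    (hw : w ∈ W) (huw : Cfsg.sympForm m F u w = 0)
    (ht1 : (t1 : Matrix (Fin m ⊕ Fin m) (Fin m ⊕ Fin m) F) = Cfsg.sympTransvection m (u + w) c)
    (ht2 : (t2 : Matrix (Fin m ⊕ Fin m) (Fin m ⊕ Fin m) F) = Cfsg.sympTransvection m u (-c))
    (ht1S : t1 ∈ Cfsg.spGL m F) (ht2S : t2 ∈ Cfsg.spGL m F) : t1 * t2 ∈ M := by
  apply hPM
  refine Subgroup.mem_inf.mpr ⟨?_, (Cfsg.spGL m F).mul_mem ht1S ht2S⟩
  apply stab_of_both
  · intro x hx
    rw [pair_apply t1 t2 u w c huw ht1 ht2, hW x hx w hw, mul_zero, zero_smul, add_zero, add_zero]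
    exact W.add_mem hx (W.smul_mem _ hw)
  · intro x hx
    rw [pair_apply' t1 t2 u w c huw ht1 ht2, hW x hx w hw, mul_zero, zero_smul, sub_zero, add_zero]
    exact W.sub_mem hx (W.smul_mem _ hw)

theorem result {F : Type*} [Field F] [Fintype F] (m : ℕ) (hm : 7 ≤ m) (W : Submodule F (Fin m ⊕ Fin m → F)) (hW0 : W ≠ ⊥) (hW : Cfsg.Geo.IsTotallySingularFor (Cfsg.sympForm m F) W) : Cfsg.Geo.IsMaximalIn (Cfsg.spGL m F) (Cfsg.Geo.subspaceStabilizer W ⊓ Cfsg.spGL m F) := by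
  refine ⟨?_, ?_⟩
  · rw [SetLike.lt_iff_le_and_exists]
    refine ⟨inf_le_right, ?_⟩
    obtain ⟨w, hwW, hw0⟩ := Submodule.exists_mem_ne_zero_of_ne_bot hW0
    obtain ⟨x, hx⟩ := sympForm_nondeg m w hw0
    have hxW : x ∉ W := fun h => hx (hW w hwW x h)
    obtain ⟨g, hg, hgS⟩ := tsGL x (1 : F)
    refine ⟨g, hgS, ?_⟩
    intro hmem
    have hst := (mem_stabW_iff W g).mp hmem.1
    have h1 := (hst w).mp hwW
    rw [ts_apply g _ _ hg, one_mul] at h1
    have h2 : (Cfsg.sympForm m F w x) • x ∈ W := by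
      have := W.sub_mem h1 hwW
      simpa using this
    apply hxW
    have := W.smul_mem (Cfsg.sympForm m F w x)⁻¹ h2
    rwa [smul_smul, inv_mul_cancel₀ hx, one_smul] at this
  · intro M hPM hMS
    by_cases hMP : M = Cfsg.Geo.subspaceStabilizer W ⊓ Cfsg.spGL m F
    · exact Or.inl hMP
    · right
      have hex : ∃ h ∈ M, h ∉ Cfsg.Geo.subspaceStabilizer W := by
        by_contra hcon
        push_neg at hcon
        exact hMP (le_antisymm (fun x hx => ⟨hcon x hx, hMS hx⟩) hPM)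
      obtain ⟨h, hhM, hh⟩ := hex
      rw [mem_stabW_iff] at hh
      push_neg at hh
      obtain ⟨v, hv⟩ := hh
      have hkey : ∃ k ∈ M, ∃ w ∈ W,
          (k : Matrix (Fin m ⊕ Fin m) (Fin m ⊕ Fin m) F) *ᵥ w ∉ W := by
        rcases hv with ⟨h1, h2⟩ | ⟨h1, h2⟩
        · exact ⟨h, hhM, v, h1, h2⟩
        · refine ⟨h⁻¹, M.inv_mem hhM, (h : Matrix (Fin m ⊕ Fin m) (Fin m ⊕ Fin m) F) *ᵥ v, h2, ?_⟩
          rw [Matrix.mulVec_mulVec, ← Units.val_mul, inv_mul_cancel, Units.val_one,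
            Matrix.one_mulVec]
          exact h1
      obtain ⟨k, hkM, w0, hw0, hkw0⟩ := hkey
      have hUX : ∀ v : Fin m ⊕ Fin m → F, (∀ w ∈ W, Cfsg.sympForm m F w v = 0) →
          ∀ c : F, ∀ g : Matrix.GeneralLinearGroup (Fin m ⊕ Fin m) F,
          (g : Matrix (Fin m ⊕ Fin m) (Fin m ⊕ Fin m) F) = Cfsg.sympTransvection m v c → g ∈ M :=
        fun v hv => X_base W M hPM v (Or.inr hv)
      have hWX : ∀ v ∈ W, ∀ c : F, ∀ g : Matrix.GeneralLinearGroup (Fin m ⊕ Fin m) F,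
          (g : Matrix (Fin m ⊕ Fin m) (Fin m ⊕ Fin m) F) = Cfsg.sympTransvection m v c → g ∈ M :=
        fun v hv => X_base W M hPM v (Or.inl hv)
      obtain ⟨y, hyW, hy1⟩ := dperp W _ hkw0
      have hkinv : ∀ x, (k : Matrix (Fin m ⊕ Fin m) (Fin m ⊕ Fin m) F) *ᵥ
          (((k⁻¹ : Matrix.GeneralLinearGroup (Fin m ⊕ Fin m) F) :
            Matrix (Fin m ⊕ Fin m) (Fin m ⊕ Fin m) F) *ᵥ x) = x := by
        intro x
        rw [Matrix.mulVec_mulVec, ← Units.val_mul, mul_inv_cancel, Units.val_one,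
          Matrix.one_mulVec]
      have hkiso := (mem_spGL_iff k).mp (hMS hkM)
      have hx0X := X_conj M hMS y (hUX y hyW) k⁻¹ (M.inv_mem hkM)
      have hx0w : Cfsg.sympForm m F
          (((k⁻¹ : Matrix.GeneralLinearGroup (Fin m ⊕ Fin m) F) :
            Matrix (Fin m ⊕ Fin m) (Fin m ⊕ Fin m) F) *ᵥ y) w0 ≠ 0 := by
        have := hkiso (((k⁻¹ : Matrix.GeneralLinearGroup (Fin m ⊕ Fin m) F) :
            Matrix (Fin m ⊕ Fin m) (Fin m ⊕ Fin m) F) *ᵥ y) w0
        rw [hkinv] at this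
        rw [← this, sympForm_swap, hy1]
        exact neg_ne_zero.mpr one_ne_zero
      generalize hx0def : ((k⁻¹ : Matrix.GeneralLinearGroup (Fin m ⊕ Fin m) F) :
            Matrix (Fin m ⊕ Fin m) (Fin m ⊕ Fin m) F) *ᵥ y = x0 at hx0X hx0w
      have hw0w0 : Cfsg.sympForm m F w0 w0 = 0 := sympForm_self m w0
      have hstep2 : ∀ u' : Fin m ⊕ Fin m → F, Cfsg.sympForm m F u' w0 = 0 →
          ∀ c : F, ∀ g : Matrix.GeneralLinearGroup (Fin m ⊕ Fin m) F,
          (g : Matrix (Fin m ⊕ Fin m) (Fin m ⊕ Fin m) F) =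
            Cfsg.sympTransvection m (x0 + u') c → g ∈ M := by
        intro u' hu'
        have huw : Cfsg.sympForm m F ((Cfsg.sympForm m F x0 w0)⁻¹ • u') w0 = 0 := by
          rw [sympForm_smul_left, hu', mul_zero]
        obtain ⟨t1, ht1, ht1S⟩ := tsGL ((Cfsg.sympForm m F x0 w0)⁻¹ • u' + w0) (1 : F)
        obtain ⟨t2, ht2, ht2S⟩ := tsGL ((Cfsg.sympForm m F x0 w0)⁻¹ • u') (-1 : F)
        have hpM := pair_mem W hW M hPM t1 t2 _ w0 1 hw0 huw ht1 ht2 ht1S ht2S
        have hzX := X_conj M hMS x0 hx0X (t1 * t2) hpM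
        rw [pair_apply t1 t2 _ w0 1 huw ht1 ht2, one_mul, smul_smul, mul_inv_cancel₀ hx0w,
          one_smul, one_mul] at hzX
        obtain ⟨tw, htw, _⟩ := tsGL w0
          (-(Cfsg.sympForm m F x0 ((Cfsg.sympForm m F x0 w0)⁻¹ • u') + Cfsg.sympForm m F x0 w0) *
            (Cfsg.sympForm m F x0 w0)⁻¹)
        have htwM := hWX w0 hw0 _ tw htw
        have hfin := X_conj M hMS _ hzX tw htwM
        have e : (tw : Matrix (Fin m ⊕ Fin m) (Fin m ⊕ Fin m) F) *ᵥ
            (x0 + u' + (Cfsg.sympForm m F x0 ((Cfsg.sympForm m F x0 w0)⁻¹ • u') +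
              Cfsg.sympForm m F x0 w0) • w0) = x0 + u' := by
          rw [ts_apply tw w0 _ htw]
          simp only [sympForm_add_left, sympForm_smul_left, hu', hw0w0, mul_zero, add_zero]
          rw [mul_assoc, inv_mul_cancel₀ hx0w, mul_one]
          module
        rw [e] at hfin
        exact hfin
      have hstar : ∀ u1 u2 : Fin m ⊕ Fin m → F,
          (∀ c : F, ∀ g : Matrix.GeneralLinearGroup (Fin m ⊕ Fin m) F,
            (g : Matrix (Fin m ⊕ Fin m) (Fin m ⊕ Fin m) F) =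
              Cfsg.sympTransvection m u1 c → g ∈ M) →
          (∀ c : F, ∀ g : Matrix.GeneralLinearGroup (Fin m ⊕ Fin m) F,
            (g : Matrix (Fin m ⊕ Fin m) (Fin m ⊕ Fin m) F) =
              Cfsg.sympTransvection m u2 c → g ∈ M) →
          Cfsg.sympForm m F u1 u2 ≠ 0 →
          ∀ c : F, ∀ g : Matrix.GeneralLinearGroup (Fin m ⊕ Fin m) F,
            (g : Matrix (Fin m ⊕ Fin m) (Fin m ⊕ Fin m) F) =
              Cfsg.sympTransvection m (u1 - u2) c → g ∈ M := by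
        intro u1 u2 h1 h2 hne
        obtain ⟨t, ht, _⟩ := tsGL u2 (-(Cfsg.sympForm m F u1 u2)⁻¹)
        have htM := h2 _ t ht
        have := X_conj M hMS u1 h1 t htM
        rw [ts_apply t u2 _ ht, neg_mul, inv_mul_cancel₀ hne, neg_one_smul, ← sub_eq_add_neg] at this
        exact this
      apply le_antisymm hMS
      apply sp_gen M
      intro v
      by_cases hlam : Cfsg.sympForm m F v w0 = 0
      · by_cases hvx0 : Cfsg.sympForm m F v x0 = 0
        · by_cases hvs : v ∈ Submodule.span F {w0}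
          · exact hWX v ((Submodule.span_singleton_le_iff_mem w0 W).mpr hw0 hvs)
          · obtain ⟨s, hs, hvs1⟩ := dperp _ v hvs
            have hsw0 : Cfsg.sympForm m F s w0 = 0 := by
              rw [sympForm_swap, hs w0 (Submodule.mem_span_singleton_self w0), neg_zero]
            have h1 := hstep2 (v + s) (by rw [sympForm_add_left, hlam, hsw0, add_zero])
            have h2 := hstep2 s hsw0
            have hne : Cfsg.sympForm m F (x0 + (v + s)) (x0 + s) ≠ 0 := by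
              simp only [sympForm_add_left, sympForm_add_right, sympForm_self, hvx0, hvs1]
              rw [sympForm_swap m s x0]
              simp
            have := hstar _ _ h1 h2 hne
            have e : x0 + (v + s) - (x0 + s) = v := by abel
            rw [e] at this
            exact this
        · have h1 := hstep2 v hlam
          have h2 := hstep2 0 (sympForm_zero_left m w0)
          have hne : Cfsg.sympForm m F (x0 + v) (x0 + 0) ≠ 0 := by
            rw [add_zero, sympForm_add_left, sympForm_self, zero_add]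
            exact hvx0
          have := hstar _ _ h1 h2 hne
          have e : x0 + v - (x0 + 0) = v := by abel
          rw [e] at this
          exact this
      · have hlam' : Cfsg.sympForm m F v w0 * (Cfsg.sympForm m F x0 w0)⁻¹ ≠ 0 :=
          mul_ne_zero hlam (inv_ne_zero hx0w)
        have hu' : Cfsg.sympForm m F
            ((Cfsg.sympForm m F v w0 * (Cfsg.sympForm m F x0 w0)⁻¹)⁻¹ •
              (v - (Cfsg.sympForm m F v w0 * (Cfsg.sympForm m F x0 w0)⁻¹) • x0)) w0 = 0 := by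
          rw [sympForm_smul_left, sympForm_sub_left, sympForm_smul_left, mul_assoc,
            inv_mul_cancel₀ hx0w, mul_one, sub_self, mul_zero]
        have h1 := hstep2 _ hu'
        have h2 := X_smul M _ h1 (Cfsg.sympForm m F v w0 * (Cfsg.sympForm m F x0 w0)⁻¹)
        have e : (Cfsg.sympForm m F v w0 * (Cfsg.sympForm m F x0 w0)⁻¹) •
            (x0 + (Cfsg.sympForm m F v w0 * (Cfsg.sympForm m F x0 w0)⁻¹)⁻¹ •
              (v - (Cfsg.sympForm m F v w0 * (Cfsg.sympForm m F x0 w0)⁻¹) • x0)) = v := by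
          rw [smul_add, smul_smul, mul_inv_cancel₀ hlam', one_smul]
          abel
        rw [e] at h2
        exact h2

end Cfsg.Agent.S5645
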