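import Cfsg.Statements.S0766
import Cfsg.Agent.Lib.helper6.Symp

set_option autoImplicit false
open Cfsg Cfsg.Agent.Lib.helper6

namespace Cfsg.Agent.S0766

theorem step {F : Type*} [Field F] (m : ℕ) (x y : Fin m ⊕ Fin m → F)
    (h : Cfsg.sympForm m F x y ≠ 0) :
    ∃ A ∈ Subgroup.closure {A : Matrix.symplecticGroup (Fin m) F | ∃ (w : Fin m ⊕ Fin m → F) (c : F), (A : Matrix (Fin m ⊕ Fin m) (Fin m ⊕ Fin m) F) = Cfsg.sympTransvection m w c},
      (A : Matrix (Fin m ⊕ Fin m) (Fin m ⊕ Fin m) F).mulVec x = y ∧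
      ∀ z, Cfsg.sympForm m F z (y - x) = 0 →
        (A : Matrix (Fin m ⊕ Fin m) (Fin m ⊕ Fin m) F).mulVec z = z := by
  refine ⟨⟨Cfsg.sympTransvection m (y - x) (Cfsg.sympForm m F x y)⁻¹, sympTransvection_mem m _ _⟩,
    Subgroup.subset_closure ⟨_, _, rfl⟩, ?_, ?_⟩
  · change (Cfsg.sympTransvection m (y - x) (Cfsg.sympForm m F x y)⁻¹).mulVec x = y
    rw [sympTransvection_mulVec, sympForm_sub_right, sympForm_self, sub_zero, inv_mul_cancel₀ h,
      one_smul]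
    abel
  · intro z hz
    change (Cfsg.sympTransvection m (y - x) (Cfsg.sympForm m F x y)⁻¹).mulVec z = z
    rw [sympTransvection_mulVec, hz, mul_zero, zero_smul, add_zero]

theorem trans_vec {F : Type*} [Field F] (m : ℕ) (x y : Fin m ⊕ Fin m → F)
    (hx : x ≠ 0) (hy : y ≠ 0) :
    ∃ A ∈ Subgroup.closure {A : Matrix.symplecticGroup (Fin m) F | ∃ (w : Fin m ⊕ Fin m → F) (c : F), (A : Matrix (Fin m ⊕ Fin m) (Fin m ⊕ Fin m) F) = Cfsg.sympTransvection m w c},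
      (A : Matrix (Fin m ⊕ Fin m) (Fin m ⊕ Fin m) F).mulVec x = y := by
  by_cases hxy : Cfsg.sympForm m F x y = 0
  · have hex : ∃ t, Cfsg.sympForm m F x t ≠ 0 ∧ Cfsg.sympForm m F t y ≠ 0 := by
      obtain ⟨x1, hx1⟩ := sympForm_nondeg m x hx
      obtain ⟨x2, hx2⟩ := sympForm_nondeg m y hy
      have hx2' : Cfsg.sympForm m F x2 y ≠ 0 := by
        rw [sympForm_swap]; exact neg_ne_zero.mpr hx2
      by_cases h1 : Cfsg.sympForm m F x1 y = 0
      · by_cases h2 : Cfsg.sympForm m F x x2 = 0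
        · refine ⟨x1 + x2, ?_, ?_⟩
          · rw [sympForm_add_right, h2, add_zero]; exact hx1
          · rw [sympForm_add_left, h1, zero_add]; exact hx2'
        · exact ⟨x2, h2, hx2'⟩
      · exact ⟨x1, hx1, h1⟩
    obtain ⟨t, ht1, ht2⟩ := hex
    obtain ⟨A, hA, hAx, -⟩ := step m x t ht1
    obtain ⟨B, hB, hBt, -⟩ := step m t y ht2
    refine ⟨B * A, Subgroup.mul_mem _ hB hA, ?_⟩
    change ((B : Matrix (Fin m ⊕ Fin m) (Fin m ⊕ Fin m) F) * (A : Matrix (Fin m ⊕ Fin m) (Fin m ⊕ Fin m) F)).mulVec x = y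
    rw [← Matrix.mulVec_mulVec, hAx, hBt]
  · obtain ⟨A, hA, hAx, -⟩ := step m x y hxy
    exact ⟨A, hA, hAx⟩

/-- The subgroup generated by the symplectic transvections acts transitively on ordered pairs (u, v) with f(u, v) = 1. -/
theorem result {F : Type*} [Field F] (m : ℕ) (u v u' v' : Fin m ⊕ Fin m → F) (h : Cfsg.sympForm m F u v = 1) (h' : Cfsg.sympForm m F u' v' = 1) : ∃ A ∈ Subgroup.closure {A : Matrix.symplecticGroup (Fin m) F | ∃ (w : Fin m ⊕ Fin m → F) (c : F), (A : Matrix (Fin m ⊕ Fin m) (Fin m ⊕ Fin m) F) = Cfsg.sympTransvection m w c}, (A : Matrix (Fin m ⊕ Fin m) (Fin m ⊕ Fin m) F).mulVec u = u' ∧ (A : Matrix (Fin m ⊕ Fin m) (Fin m ⊕ Fin m) F).mulVec v = v' := by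
  have hu : u ≠ 0 := by
    rintro rfl
    rw [sympForm_zero_left] at h
    exact zero_ne_one h
  have hu' : u' ≠ 0 := by
    rintro rfl
    rw [sympForm_zero_left] at h'
    exact zero_ne_one h'
  obtain ⟨A, hA, hAu⟩ := trans_vec m u u' hu hu'
  set v'' := (A : Matrix (Fin m ⊕ Fin m) (Fin m ⊕ Fin m) F).mulVec v with hv''
  have hAmem := (mem_symplecticGroup_iff_sympForm m (A : Matrix (Fin m ⊕ Fin m) (Fin m ⊕ Fin m) F)).mp A.2
  have h'' : Cfsg.sympForm m F u' v'' = 1 := by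
    rw [← hAu, hv'', hAmem, h]
  suffices hsuff : ∃ B ∈ Subgroup.closure {A : Matrix.symplecticGroup (Fin m) F | ∃ (w : Fin m ⊕ Fin m → F) (c : F), (A : Matrix (Fin m ⊕ Fin m) (Fin m ⊕ Fin m) F) = Cfsg.sympTransvection m w c},
      (B : Matrix (Fin m ⊕ Fin m) (Fin m ⊕ Fin m) F).mulVec u' = u' ∧
      (B : Matrix (Fin m ⊕ Fin m) (Fin m ⊕ Fin m) F).mulVec v'' = v' by
    obtain ⟨B, hB, hBu, hBv⟩ := hsuff
    refine ⟨B * A, Subgroup.mul_mem _ hB hA, ?_, ?_⟩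
    · change ((B : Matrix (Fin m ⊕ Fin m) (Fin m ⊕ Fin m) F) * (A : Matrix (Fin m ⊕ Fin m) (Fin m ⊕ Fin m) F)).mulVec u = u'
      rw [← Matrix.mulVec_mulVec, hAu, hBu]
    · change ((B : Matrix (Fin m ⊕ Fin m) (Fin m ⊕ Fin m) F) * (A : Matrix (Fin m ⊕ Fin m) (Fin m ⊕ Fin m) F)).mulVec v = v'
      rw [← Matrix.mulVec_mulVec, ← hv'', hBv]
  by_cases hvv : Cfsg.sympForm m F v'' v' = 0
  · have e1 : Cfsg.sympForm m F v'' (v'' + u') ≠ 0 := by
      rw [sympForm_add_right, sympForm_self, zero_add, sympForm_swap, h'']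
      exact neg_ne_zero.mpr one_ne_zero
    have e2 : Cfsg.sympForm m F (v'' + u') v' ≠ 0 := by
      rw [sympForm_add_left, hvv, zero_add, h']
      exact one_ne_zero
    obtain ⟨B1, hB1, hB1v, hB1fix⟩ := step m v'' (v'' + u') e1
    obtain ⟨B2, hB2, hB2v, hB2fix⟩ := step m (v'' + u') v' e2
    have f1 : (B1 : Matrix (Fin m ⊕ Fin m) (Fin m ⊕ Fin m) F).mulVec u' = u' := by
      apply hB1fix
      rw [add_sub_cancel_left, sympForm_self]
    have f2 : (B2 : Matrix (Fin m ⊕ Fin m) (Fin m ⊕ Fin m) F).mulVec u' = u' := by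
      apply hB2fix
      rw [sympForm_sub_right, sympForm_add_right, sympForm_self, h', h'']
      ring
    refine ⟨B2 * B1, Subgroup.mul_mem _ hB2 hB1, ?_, ?_⟩
    · change ((B2 : Matrix (Fin m ⊕ Fin m) (Fin m ⊕ Fin m) F) * (B1 : Matrix (Fin m ⊕ Fin m) (Fin m ⊕ Fin m) F)).mulVec u' = u'
      rw [← Matrix.mulVec_mulVec, f1, f2]
    · change ((B2 : Matrix (Fin m ⊕ Fin m) (Fin m ⊕ Fin m) F) * (B1 : Matrix (Fin m ⊕ Fin m) (Fin m ⊕ Fin m) F)).mulVec v'' = v'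
      rw [← Matrix.mulVec_mulVec, hB1v, hB2v]
  · obtain ⟨B, hB, hBv, hBfix⟩ := step m v'' v' hvv
    refine ⟨B, hB, ?_, hBv⟩
    apply hBfix
    rw [sympForm_sub_right, h', h'', sub_self]

end Cfsg.Agent.S0766
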