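import Cfsg.Statements.S0269
import Cfsg.Agent.S0765
import Cfsg.Agent.S0766
import Mathlib

set_option autoImplicit false
open Cfsg

namespace Cfsg.Agent.S0269

open Matrix Cfsg.Agent.Lib.helper6

variable {F : Type*} [Field F] {m : ℕ}

/-- The transvection as an element of the symplectic group. -/
def τ (v : Fin m ⊕ Fin m → F) (c : F) : Matrix.symplecticGroup (Fin m) F :=
  ⟨Cfsg.sympTransvection m v c, sympTransvection_mem m v c⟩

theorem τ_mulVec (v : Fin m ⊕ Fin m → F) (c : F) (x : Fin m ⊕ Fin m → F) :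
    ((τ v c : Matrix.symplecticGroup (Fin m) F) : Matrix (Fin m ⊕ Fin m) (Fin m ⊕ Fin m) F) *ᵥ x =
      x + (c * Cfsg.sympForm m F x v) • v :=
  sympTransvection_mulVec m v c x

theorem sp_ext {g h : Matrix.symplecticGroup (Fin m) F}
    (H : ∀ x, (g : Matrix (Fin m ⊕ Fin m) (Fin m ⊕ Fin m) F) *ᵥ x =
      (h : Matrix (Fin m ⊕ Fin m) (Fin m ⊕ Fin m) F) *ᵥ x) : g = h :=
  Subtype.ext (Matrix.ext_iff_mulVec.mpr H)

theorem mmv (A B : Matrix.symplecticGroup (Fin m) F) (x : Fin m ⊕ Fin m → F) :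
    ((A * B : Matrix.symplecticGroup (Fin m) F) : Matrix (Fin m ⊕ Fin m) (Fin m ⊕ Fin m) F) *ᵥ x =
      (A : Matrix (Fin m ⊕ Fin m) (Fin m ⊕ Fin m) F) *ᵥ
        ((B : Matrix (Fin m ⊕ Fin m) (Fin m ⊕ Fin m) F) *ᵥ x) :=
  Cfsg.Agent.S0765.mul_mulVec m A B x

theorem one_mv (x : Fin m ⊕ Fin m → F) :
    ((1 : Matrix.symplecticGroup (Fin m) F) : Matrix (Fin m ⊕ Fin m) (Fin m ⊕ Fin m) F) *ᵥ x = x := by
  show (1 : Matrix (Fin m ⊕ Fin m) (Fin m ⊕ Fin m) F) *ᵥ x = x
  rw [Matrix.one_mulVec]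

theorem τ_add (v : Fin m ⊕ Fin m → F) (c d : F) : τ v c * τ v d = τ v (c + d) := by
  apply sp_ext
  intro x
  rw [mmv, τ_mulVec, τ_mulVec, τ_mulVec, sympForm_add_left, sympForm_smul_left, sympForm_self]
  module

theorem τ_zero (v : Fin m ⊕ Fin m → F) : τ v 0 = 1 := by
  apply sp_ext
  intro x
  rw [τ_mulVec, one_mv]
  module

theorem τ_smul (k : F) (v : Fin m ⊕ Fin m → F) (c : F) : τ (k • v) c = τ v (k * k * c) := by
  apply sp_ext
  intro x
  rw [τ_mulVec, τ_mulVec, sympForm_smul_right]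
  module

theorem conj_τ (g : Matrix.symplecticGroup (Fin m) F) (v : Fin m ⊕ Fin m → F) (c : F) :
    g * τ v c = τ ((g : Matrix (Fin m ⊕ Fin m) (Fin m ⊕ Fin m) F) *ᵥ v) c * g := by
  apply sp_ext
  intro x
  rw [mmv, mmv, τ_mulVec, τ_mulVec, (mem_symplecticGroup_iff_sympForm m _).mp g.2,
    Matrix.mulVec_add, Matrix.mulVec_smul]

/-- The image of a transvection in the abelianization. -/
noncomputable def ab (v : Fin m ⊕ Fin m → F) (c : F) :
    Abelianization (Matrix.symplecticGroup (Fin m) F) :=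
  Abelianization.of (τ v c)

theorem ab_add (v : Fin m ⊕ Fin m → F) (c d : F) : ab v c * ab v d = ab v (c + d) := by
  rw [ab, ab, ab, ← map_mul, τ_add]

theorem ab_zero (v : Fin m ⊕ Fin m → F) : ab v 0 = 1 := by
  rw [ab, τ_zero, map_one]

theorem ab_neg (v : Fin m ⊕ Fin m → F) (c : F) : ab v (-c) = (ab v c)⁻¹ := by
  rw [eq_inv_iff_mul_eq_one, ab_add, neg_add_cancel, ab_zero]

theorem ab_conj (v v' : Fin m ⊕ Fin m → F) (hv : v ≠ 0) (hv' : v' ≠ 0) (c : F) :
    ab v c = ab v' c := by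
  obtain ⟨g, -, hg⟩ := Cfsg.Agent.S0766.trans_vec m v v' hv hv'
  have h := conj_τ g v c
  have hg' : (g : Matrix (Fin m ⊕ Fin m) (Fin m ⊕ Fin m) F) *ᵥ v = v' := hg
  rw [hg'] at h
  have h2 := congrArg (Abelianization.of (G := Matrix.symplecticGroup (Fin m) F)) h
  rw [map_mul, map_mul, mul_comm] at h2
  exact mul_right_cancel h2

theorem ab_smul (k : F) (v : Fin m ⊕ Fin m → F) (c : F) : ab (k • v) c = ab v (k * k * c) := by
  rw [ab, ab, τ_smul]

/-- If all transvections die in the abelianization, the group is perfect. -/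
theorem perfect_of_ab (h : ∀ (v : Fin m ⊕ Fin m → F) (c : F), ab v c = 1) :
    commutator (Matrix.symplecticGroup (Fin m) F) = ⊤ := by
  rw [eq_top_iff, ← Cfsg.Agent.S0765.result m, Subgroup.closure_le]
  rintro A ⟨w, c, hA⟩
  have hA' : A = τ w c := Subtype.ext hA
  rw [SetLike.mem_coe, ← Abelianization.ker_of, MonoidHom.mem_ker, hA']
  exact h w c

/-- Case `q ≥ 4`. -/
theorem case_big [Fintype F] (hq : 4 ≤ Fintype.card F) (v : Fin m ⊕ Fin m → F) (c : F) :
    ab v c = 1 := by
  classical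
  by_cases hv : v = 0
  · rw [hv, ← zero_smul F (0 : Fin m ⊕ Fin m → F), ab_smul, zero_mul, zero_mul, ab_zero]
  -- find k with k ≠ 0, k^2 ≠ 1
  obtain ⟨k, hk0, hk1⟩ : ∃ k : F, k ≠ 0 ∧ k * k ≠ 1 := by
    by_contra hcon
    push Not at hcon
    have hsub : (Finset.univ : Finset F) ⊆ {0, 1, -1} := by
      intro k _
      simp only [Finset.mem_insert, Finset.mem_singleton]
      by_cases hk : k = 0
      · left; exact hk
      · right
        have := hcon k hk
        have h2 : (k - 1) * (k + 1) = 0 := by linear_combination this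
        rcases mul_eq_zero.mp h2 with h | h
        · left; exact sub_eq_zero.mp h
        · right; exact eq_neg_of_add_eq_zero_left h
    have := Finset.card_le_card hsub
    have h3 : ({0, 1, -1} : Finset F).card ≤ 3 := Finset.card_le_three
    rw [Finset.card_univ] at this
    omega
  have hkv : k • v ≠ 0 := smul_ne_zero hk0 hv
  have h1 : ∀ c : F, ab v c = ab v (k * k * c) := by
    intro c
    rw [← ab_smul, ab_conj v (k • v) hv hkv]
  have hk2 : (1 - k * k) ≠ 0 := fun h => hk1 (by linear_combination -h)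
  have h2 : ∀ c : F, ab v ((1 - k * k) * c) = 1 := by
    intro c
    have : (1 - k * k) * c = c + -(k * k * c) := by ring
    rw [this, ← ab_add, ab_neg, ← h1, mul_inv_cancel]
  have := h2 (c / (1 - k * k))
  rwa [mul_div_cancel₀ _ hk2] at this

section vectors
variable (F m)

/-- Basis vector `e_i`. -/
def ev (i : Fin m) : Fin m ⊕ Fin m → F := Pi.single (Sum.inl i) 1

variable {F m}

theorem ev_orth (i j : Fin m) : Cfsg.sympForm m F (ev F m i) (ev F m j) = 0 := by
  unfold Cfsg.sympForm ev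
  simp [Matrix.J]

theorem ev_apply (i : Fin m) : ev F m i (Sum.inl i) = 1 := by
  simp [ev]

theorem ev_apply_ne {i j : Fin m} (h : i ≠ j) : ev F m i (Sum.inl j) = 0 := by
  simp [ev, h]

end vectors

/-- Case `q = 3`, `m ≥ 2`. -/
theorem case_three [Fintype F] (hq : Fintype.card F = 3) (hm : 2 ≤ m)
    (v : Fin m ⊕ Fin m → F) (c : F) : ab v c = 1 := by
  classical
  have h3 : (3 : F) = 0 := by
    have := Nat.cast_card_eq_zero F
    rw [hq] at this
    exact_mod_cast this
  by_cases hv : v = 0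
  · rw [hv, ← zero_smul F (0 : Fin m ⊕ Fin m → F), ab_smul, zero_mul, zero_mul, ab_zero]
  let v1 := ev F m ⟨0, by omega⟩
  let v2 := ev F m ⟨1, by omega⟩
  have h01 : (⟨0, by omega⟩ : Fin m) ≠ ⟨1, by omega⟩ := by
    intro h; simpa using congrArg Fin.val h
  have hv1 : v1 ≠ 0 := fun h => by
    have := congrFun h (Sum.inl ⟨0, by omega⟩)
    simp [v1, ev_apply] at this
  have hp : v1 + v2 ≠ 0 := fun h => by
    have := congrFun h (Sum.inl ⟨0, by omega⟩)
    simp [v1, v2, ev_apply, ev_apply_ne h01.symm] at this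
  have hmn : v1 - v2 ≠ 0 := fun h => by
    have := congrFun h (Sum.inl ⟨0, by omega⟩)
    simp [v1, v2, ev_apply, ev_apply_ne h01.symm] at this
  have hv2 : v2 ≠ 0 := fun h => by
    have := congrFun h (Sum.inl ⟨1, by omega⟩)
    simp [v2, ev_apply] at this
  have o11 : Cfsg.sympForm m F v1 v1 = 0 := ev_orth _ _
  have o12 : Cfsg.sympForm m F v1 v2 = 0 := ev_orth _ _
  have o21 : Cfsg.sympForm m F v2 v1 = 0 := ev_orth _ _
  have o22 : Cfsg.sympForm m F v2 v2 = 0 := ev_orth _ _
  -- key matrix identity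
  have key : τ (v1 + v2) c * τ (v1 - v2) c = τ v1 (2 * c) * τ v2 (2 * c) := by
    apply sp_ext
    intro x
    simp only [mmv, τ_mulVec, sympForm_add_left, sympForm_add_right, sympForm_sub_right,
      sympForm_sub_left, sympForm_smul_left, o11, o12, o21, o22, mul_zero, add_zero, sub_zero,
      sub_self]
    module
  have key2 := congrArg (Abelianization.of (G := Matrix.symplecticGroup (Fin m) F)) key
  rw [map_mul, map_mul] at key2
  change ab (v1 + v2) c * ab (v1 - v2) c = ab v1 (2 * c) * ab v2 (2 * c) at key2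
  rw [ab_conj (v1 + v2) v hp hv, ab_conj (v1 - v2) v hmn hv, ab_conj v1 v hv1 hv,
    ab_conj v2 v hv2 hv] at key2
  -- t_c^2 = t_{2c}^2 = t_c^4 and t_c^3 = 1
  set t := ab v c with ht
  have e2 : ab v (2 * c) = t * t := by rw [two_mul, ← ab_add]
  have e3 : t * t * t = 1 := by
    rw [ht, ab_add, ab_add, ← two_mul, ← add_one_mul]
    have : (2 + 1 : F) = 0 := by rw [← h3]; norm_num
    rw [this, zero_mul, ab_zero]
  rw [e2] at key2
  -- key2 : t * t = (t*t) * (t*t)
  have e4 : t * t = 1 := by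
    have : (t * t) * 1 = (t * t) * (t * t) := by rw [mul_one]; exact key2
    exact (mul_left_cancel this).symm
  rw [e4, one_mul] at e3
  exact e3

/-- Case `q = 2`, `m ≥ 3`. -/
theorem case_two [Fintype F] (hq : Fintype.card F = 2) (hm : 3 ≤ m)
    (v : Fin m ⊕ Fin m → F) (c : F) : ab v c = 1 := by
  classical
  have h2 : (2 : F) = 0 := by
    have := Nat.cast_card_eq_zero F
    rw [hq] at this
    exact_mod_cast this
  by_cases hv : v = 0
  · rw [hv, ← zero_smul F (0 : Fin m ⊕ Fin m → F), ab_smul, zero_mul, zero_mul, ab_zero]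
  have hc : c = 0 ∨ c = 1 := by
    by_contra hcon
    push Not at hcon
    have hsub : ({0, 1, c} : Finset F) ⊆ Finset.univ := Finset.subset_univ _
    have hcard : ({0, 1, c} : Finset F).card = 3 := by
      rw [Finset.card_insert_of_notMem, Finset.card_insert_of_notMem, Finset.card_singleton]
      · simp only [Finset.mem_singleton]; exact fun h => hcon.2 h.symm
      · simp only [Finset.mem_insert, Finset.mem_singleton]
        rintro (h | h)
        · exact zero_ne_one h
        · exact hcon.1 h.symm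
    have := Finset.card_le_card hsub
    rw [hcard, Finset.card_univ, hq] at this
    omega
  rcases hc with rfl | rfl
  · exact ab_zero v
  let v1 := ev F m ⟨0, by omega⟩
  let v2 := ev F m ⟨1, by omega⟩
  let v3 := ev F m ⟨2, by omega⟩
  have h01 : (⟨0, by omega⟩ : Fin m) ≠ ⟨1, by omega⟩ := by
    intro h; simpa using congrArg Fin.val h
  have h02 : (⟨0, by omega⟩ : Fin m) ≠ ⟨2, by omega⟩ := by
    intro h; simpa using congrArg Fin.val h
  have h12 : (⟨1, by omega⟩ : Fin m) ≠ ⟨2, by omega⟩ := by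
    intro h; simpa using congrArg Fin.val h
  have hv1 : v1 ≠ 0 := fun h => by
    have := congrFun h (Sum.inl ⟨0, by omega⟩)
    simp [v1, ev_apply] at this
  have hv2 : v2 ≠ 0 := fun h => by
    have := congrFun h (Sum.inl ⟨1, by omega⟩)
    simp [v2, ev_apply] at this
  have hv3 : v3 ≠ 0 := fun h => by
    have := congrFun h (Sum.inl ⟨2, by omega⟩)
    simp [v3, ev_apply] at this
  have hp12 : v1 + v2 ≠ 0 := fun h => by
    have := congrFun h (Sum.inl ⟨0, by omega⟩)
    simp [v1, v2, ev_apply, ev_apply_ne h01.symm] at this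
  have hp13 : v1 + v3 ≠ 0 := fun h => by
    have := congrFun h (Sum.inl ⟨0, by omega⟩)
    simp [v1, v3, ev_apply, ev_apply_ne h02.symm] at this
  have hp23 : v2 + v3 ≠ 0 := fun h => by
    have := congrFun h (Sum.inl ⟨1, by omega⟩)
    simp [v2, v3, ev_apply, ev_apply_ne h12.symm] at this
  have hp123 : v1 + v2 + v3 ≠ 0 := fun h => by
    have := congrFun h (Sum.inl ⟨0, by omega⟩)
    simp [v1, v2, v3, ev_apply, ev_apply_ne h01.symm, ev_apply_ne h02.symm] at this
  have o11 : Cfsg.sympForm m F v1 v1 = 0 := ev_orth _ _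
  have o12 : Cfsg.sympForm m F v1 v2 = 0 := ev_orth _ _
  have o13 : Cfsg.sympForm m F v1 v3 = 0 := ev_orth _ _
  have o21 : Cfsg.sympForm m F v2 v1 = 0 := ev_orth _ _
  have o22 : Cfsg.sympForm m F v2 v2 = 0 := ev_orth _ _
  have o23 : Cfsg.sympForm m F v2 v3 = 0 := ev_orth _ _
  have o31 : Cfsg.sympForm m F v3 v1 = 0 := ev_orth _ _
  have o32 : Cfsg.sympForm m F v3 v2 = 0 := ev_orth _ _
  have o33 : Cfsg.sympForm m F v3 v3 = 0 := ev_orth _ _
  have key : τ (v1 + v2 + v3) 1 * τ (v1 + v2) 1 * τ (v1 + v3) 1 * τ (v2 + v3) (1 : F) =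
      τ v1 1 * τ v2 1 * τ v3 1 := by
    apply sp_ext
    intro x
    simp only [mmv, τ_mulVec, sympForm_add_left, sympForm_add_right,
      sympForm_smul_left, o11, o12, o13, o21, o22, o23, o31, o32, o33, mul_zero, add_zero,
      one_mul]
    funext i
    simp only [Pi.add_apply, Pi.smul_apply, smul_eq_mul]
    linear_combination ((Cfsg.sympForm m F x v1 + Cfsg.sympForm m F x v2 + Cfsg.sympForm m F x v3) *
      (v1 i + v2 i + v3 i)) * h2
  have key2 := congrArg (Abelianization.of (G := Matrix.symplecticGroup (Fin m) F)) key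
  simp only [map_mul] at key2
  change ab (v1 + v2 + v3) 1 * ab (v1 + v2) 1 * ab (v1 + v3) 1 * ab (v2 + v3) 1 =
    ab v1 1 * ab v2 1 * ab v3 1 at key2
  rw [ab_conj (v1 + v2 + v3) v hp123 hv, ab_conj (v1 + v2) v hp12 hv, ab_conj (v1 + v3) v hp13 hv,
    ab_conj (v2 + v3) v hp23 hv, ab_conj v1 v hv1 hv, ab_conj v2 v hv2 hv,
    ab_conj v3 v hv3 hv] at key2
  set t := ab v 1 with ht
  have : (t * t * t) * t = (t * t * t) * 1 := by rw [mul_one]; exact key2
  exact mul_left_cancel this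

/-- Sp_{2m}(q) is perfect except for Sp_2(2), Sp_2(3) and Sp_4(2): stated as m at least 3, or m = 2 and q at least 3, or q at least 4. -/
theorem result {F : Type*} [Field F] [Fintype F] (m : ℕ) (h : 3 ≤ m ∨ (m = 2 ∧ 3 ≤ Fintype.card F) ∨ 4 ≤ Fintype.card F) : commutator (Matrix.symplecticGroup (Fin m) F) = ⊤ := by
  apply perfect_of_ab
  intro v c
  have hq2 : 2 ≤ Fintype.card F := Fintype.one_lt_card
  by_cases h4 : 4 ≤ Fintype.card F
  · exact case_big h4 v c
  rcases h with h | ⟨h, h'⟩ | h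
  · by_cases h3 : Fintype.card F = 3
    · exact case_three h3 (by omega) v c
    · exact case_two (by omega) h v c
  · exact case_three (by omega) (by omega) v c
  · exact absurd h h4

end Cfsg.Agent.S0269
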