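import Cfsg.Statements.S0768
import Mathlib
import Cfsg.Prelude.Def_ClassicalGeometry
import Cfsg.Agent.Lib.helper6.Symp
import Cfsg.Agent.Lib.helper6.Witt

set_option autoImplicit false
open scoped LinearAlgebra.Projectivization
open Cfsg

namespace Cfsg.Agent.S0768

open Matrix Cfsg.Agent.Lib.helper6 Cfsg.Agent.Lib.helper6.Witt
open scoped LinearAlgebra.Projectivization Pointwise

variable {F : Type*} [Field F] {m : ℕ}

noncomputable def sB (m : ℕ) (F : Type*) [Field F] : LinearMap.BilinForm F (Fin m ⊕ Fin m → F) :=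
  Matrix.toBilin' (Matrix.J (Fin m) F)

theorem sB_apply (u v : Fin m ⊕ Fin m → F) : sB m F u v = Cfsg.sympForm m F u v :=
  Matrix.toBilin'_apply' _ u v

theorem sB_eps : EpsHerm (RingHom.id F) (-1) (sB m F) := by
  refine ⟨fun a => rfl, by ring, rfl, ?_, ?_, ?_⟩
  · intro x y
    rw [RingHom.id_apply, sB_apply, sB_apply, sympForm_swap]; ring
  · intro x
    exact ⟨0, by rw [sB_apply, sympForm_self]; simp⟩
  · intro y hy
    by_contra hne
    obtain ⟨x, hx⟩ := sympForm_nondeg m y hne
    apply hx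
    rw [sympForm_swap, ← sB_apply, hy x, neg_zero]

/-- A linear isometry gives an element of `spGL`. -/
theorem exists_spGL_of_iso (g : (Fin m ⊕ Fin m → F) ≃ₗ[F] (Fin m ⊕ Fin m → F))
    (hg : g ∈ isoGroup (sB m F)) :
    ∃ A : ↥(Cfsg.spGL m F), ∀ v, ((A : Matrix.GeneralLinearGroup (Fin m ⊕ Fin m) F) :
      Matrix (Fin m ⊕ Fin m) (Fin m ⊕ Fin m) F) *ᵥ v = g v := by
  let M : Matrix (Fin m ⊕ Fin m) (Fin m ⊕ Fin m) F := LinearMap.toMatrix' (g : (Fin m ⊕ Fin m → F) →ₗ[F] (Fin m ⊕ Fin m → F))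
  let M' : Matrix (Fin m ⊕ Fin m) (Fin m ⊕ Fin m) F := LinearMap.toMatrix' (g.symm : (Fin m ⊕ Fin m → F) →ₗ[F] (Fin m ⊕ Fin m → F))
  have hMv : ∀ v, M *ᵥ v = g v := fun v => by
    show (LinearMap.toMatrix' _) *ᵥ v = _
    rw [LinearMap.toMatrix'_mulVec]; rfl
  have hM'v : ∀ v, M' *ᵥ v = g.symm v := fun v => by
    show (LinearMap.toMatrix' _) *ᵥ v = _
    rw [LinearMap.toMatrix'_mulVec]; rfl
  have h1 : M * M' = 1 := by
    rw [Matrix.ext_iff_mulVec]
    intro v
    rw [← Matrix.mulVec_mulVec, hM'v, hMv, LinearEquiv.apply_symm_apply, Matrix.one_mulVec]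
  have h2 : M' * M = 1 := by
    rw [Matrix.ext_iff_mulVec]
    intro v
    rw [← Matrix.mulVec_mulVec, hMv, hM'v, LinearEquiv.symm_apply_apply, Matrix.one_mulVec]
  refine ⟨⟨⟨M, M', h1, h2⟩, ?_⟩, hMv⟩
  intro u v
  show Cfsg.sympForm m F (M *ᵥ u) (M *ᵥ v) = Cfsg.sympForm m F u v
  rw [hMv, hMv, ← sB_apply, ← sB_apply]
  exact hg u v

/-- One-step Witt for `spGL`. -/
theorem sp_step (H : Submodule F (Fin m ⊕ Fin m → F)) (x y : Fin m ⊕ Fin m → F)
    (hx : x ∉ H) (hy : y ∉ H) (hHy : ∀ z ∈ H, Cfsg.sympForm m F z y = Cfsg.sympForm m F z x) :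
    ∃ A : ↥(Cfsg.spGL m F), (∀ z ∈ H, ((A : Matrix.GeneralLinearGroup (Fin m ⊕ Fin m) F) :
      Matrix (Fin m ⊕ Fin m) (Fin m ⊕ Fin m) F) *ᵥ z = z) ∧
      ((A : Matrix.GeneralLinearGroup (Fin m ⊕ Fin m) F) :
      Matrix (Fin m ⊕ Fin m) (Fin m ⊕ Fin m) F) *ᵥ x = y := by
  obtain ⟨g, hg, hgH, hgx⟩ := step_core (sB_eps (F := F) (m := m)) H x y hx hy
    (fun z hz => by rw [sB_apply, sB_apply]; exact hHy z hz)
    (by rw [sB_apply, sB_apply, sympForm_self, sympForm_self])
  obtain ⟨A, hA⟩ := exists_spGL_of_iso g hg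
  exact ⟨A, fun z hz => by rw [hA, hgH z hz], by rw [hA, hgx]⟩

abbrev VV (m : ℕ) (F : Type*) [Field F] := Fin m ⊕ Fin m → F

theorem smul_pt (A : ↥(Cfsg.spGL m F)) (v : VV m F) (hv : v ≠ 0) :
    ∃ hv' : ((A : Matrix.GeneralLinearGroup (Fin m ⊕ Fin m) F) :
      Matrix (Fin m ⊕ Fin m) (Fin m ⊕ Fin m) F) *ᵥ v ≠ 0,
    A • (Projectivization.mk F v hv : ℙ F (VV m F)) = Projectivization.mk F
      (((A : Matrix.GeneralLinearGroup (Fin m ⊕ Fin m) F) :
      Matrix (Fin m ⊕ Fin m) (Fin m ⊕ Fin m) F) *ᵥ v) hv' := by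
  have h := Projectivization.smul_mk (K := F) (A : Matrix.GeneralLinearGroup (Fin m ⊕ Fin m) F) hv
  have hne : (A : Matrix.GeneralLinearGroup (Fin m ⊕ Fin m) F) • v ≠ 0 := by
    intro h0
    apply hv
    have := congrArg (fun w => (A : Matrix.GeneralLinearGroup (Fin m ⊕ Fin m) F)⁻¹ • w) h0
    simpa using this
  exact ⟨hne, h⟩

theorem not_mem_span_of_ne (x y : VV m F) (hx : x ≠ 0) (hy : y ≠ 0)
    (h : (Projectivization.mk F x hx : ℙ F (VV m F)) ≠ Projectivization.mk F y hy) :
    y ∉ Submodule.span F {x} := by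
  intro hmem
  obtain ⟨c, hc⟩ := Submodule.mem_span_singleton.mp hmem
  apply h
  rw [Projectivization.mk_eq_mk_iff']
  have hc0 : c ≠ 0 := by
    rintro rfl
    rw [zero_smul] at hc
    exact hy hc.symm
  refine ⟨c⁻¹, ?_⟩
  rw [← hc, smul_smul, inv_mul_cancel₀ hc0, one_smul]

theorem pt_eq_of_mem_span (x z : VV m F) (hx : x ≠ 0) (hz : z ≠ 0) (h : z ∈ Submodule.span F {x}) :
    (Projectivization.mk F z hz : ℙ F (VV m F)) = Projectivization.mk F x hx := by
  obtain ⟨c, hc⟩ := Submodule.mem_span_singleton.mp h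
  rw [Projectivization.mk_eq_mk_iff']
  exact ⟨c, hc⟩

theorem move (B : Set (ℙ F (VV m F))) (hB : MulAction.IsBlock ↥(Cfsg.spGL m F) B)
    (x y y' : VV m F) (hx : x ≠ 0) (hy : y ≠ 0) (hy' : y' ≠ 0)
    (hxB : Projectivization.mk F x hx ∈ B) (hyB : Projectivization.mk F y hy ∈ B)
    (hyx : y ∉ Submodule.span F {x}) (hy'x : y' ∉ Submodule.span F {x})
    (hform : Cfsg.sympForm m F x y' = Cfsg.sympForm m F x y) :
    Projectivization.mk F y' hy' ∈ B := by
  obtain ⟨A, hAx, hAy⟩ := sp_step (Submodule.span F {x}) y y' hyx hy'x (by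
    intro z hz
    obtain ⟨c, rfl⟩ := Submodule.mem_span_singleton.mp hz
    rw [sympForm_smul_left, sympForm_smul_left, hform])
  have hAxx := hAx x (Submodule.mem_span_singleton_self x)
  obtain ⟨h1, h2⟩ := smul_pt A x hx
  obtain ⟨h3, h4⟩ := smul_pt A y hy
  have hfix : A • (Projectivization.mk F x hx : ℙ F (VV m F)) = Projectivization.mk F x hx := by
    rw [h2]
    congr 1
  have hAB : A • B = B := hB.smul_eq_of_mem hxB (by rw [hfix]; exact hxB)
  have : A • (Projectivization.mk F y hy : ℙ F (VV m F)) ∈ A • B := Set.smul_mem_smul_set hyB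
  rw [hAB, h4] at this
  convert this using 2
  exact hAy.symm

theorem form_span_zero (x z : VV m F) (hz : z ∈ Submodule.span F {x}) : Cfsg.sympForm m F x z = 0 := by
  obtain ⟨c, rfl⟩ := Submodule.mem_span_singleton.mp hz
  rw [sympForm_smul_right, sympForm_self, mul_zero]

theorem mem_of_nonorth (B : Set (ℙ F (VV m F))) (hB : MulAction.IsBlock ↥(Cfsg.spGL m F) B)
    (x y y' : VV m F) (hx : x ≠ 0) (hy : y ≠ 0) (hy' : y' ≠ 0)
    (hxB : Projectivization.mk F x hx ∈ B) (hyB : Projectivization.mk F y hy ∈ B)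
    (hxy : Cfsg.sympForm m F x y ≠ 0) (hxy' : Cfsg.sympForm m F x y' ≠ 0) :
    Projectivization.mk F y' hy' ∈ B := by
  set c := Cfsg.sympForm m F x y / Cfsg.sympForm m F x y' with hc
  have hc0 : c ≠ 0 := div_ne_zero hxy hxy'
  have hy'' : c • y' ≠ 0 := smul_ne_zero hc0 hy'
  have hform : Cfsg.sympForm m F x (c • y') = Cfsg.sympForm m F x y := by
    rw [sympForm_smul_right, hc]; field_simp
  have : (Projectivization.mk F y' hy' : ℙ F (VV m F)) = Projectivization.mk F (c • y') hy'' := by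
    rw [Projectivization.mk_eq_mk_iff']
    exact ⟨c⁻¹, by rw [smul_smul, inv_mul_cancel₀ hc0, one_smul]⟩
  rw [this]
  apply move B hB x y (c • y') hx hy hy'' hxB hyB _ _ hform
  · intro h; exact hxy (form_span_zero x y h)
  · intro h
    apply hxy
    rw [← hform]
    exact form_span_zero x _ h

theorem exists_nonorth_both (x z : VV m F) (hx : x ≠ 0) (hz : z ≠ 0) :
    ∃ w, Cfsg.sympForm m F x w ≠ 0 ∧ Cfsg.sympForm m F z w ≠ 0 := by
  obtain ⟨w₁, h₁⟩ := sympForm_nondeg m x hx
  obtain ⟨w₂, h₂⟩ := sympForm_nondeg m z hz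
  by_cases h3 : Cfsg.sympForm m F z w₁ = 0
  · by_cases h4 : Cfsg.sympForm m F x w₂ = 0
    · refine ⟨w₁ + w₂, ?_, ?_⟩
      · rw [sympForm_add_right, h4, add_zero]; exact h₁
      · rw [sympForm_add_right, h3, zero_add]; exact h₂
    · exact ⟨w₂, h4, h₂⟩
  · exact ⟨w₁, h₁, h3⟩

theorem block_univ (B : Set (ℙ F (VV m F))) (hB : MulAction.IsBlock ↥(Cfsg.spGL m F) B)
    (x y : VV m F) (hx : x ≠ 0) (hy : y ≠ 0)
    (hxB : Projectivization.mk F x hx ∈ B) (hyB : Projectivization.mk F y hy ∈ B)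
    (hyx : y ∉ Submodule.span F {x}) (z : VV m F) (hz : z ≠ 0) :
    Projectivization.mk F z hz ∈ B := by
  by_cases hzx : z ∈ Submodule.span F {x}
  · rw [pt_eq_of_mem_span x z hx hz hzx]; exact hxB
  by_cases hxy : Cfsg.sympForm m F x y = 0
  · -- orthogonal case
    by_cases hxz : Cfsg.sympForm m F x z = 0
    · exact move B hB x y z hx hy hz hxB hyB hyx hzx (by rw [hxz, hxy])
    · -- find w orthogonal to both x and z
      have hzx' : Cfsg.sympForm m F z x ≠ 0 := by
        rw [sympForm_swap]; exact neg_ne_zero.mpr hxz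
      set w := y - (Cfsg.sympForm m F z y / Cfsg.sympForm m F z x) • x with hw
      have hwx : w ∉ Submodule.span F {x} := by
        intro h
        apply hyx
        have : y = w + (Cfsg.sympForm m F z y / Cfsg.sympForm m F z x) • x := by rw [hw]; abel
        rw [this]
        exact Submodule.add_mem _ h (Submodule.smul_mem _ _ (Submodule.mem_span_singleton_self x))
      have hw0 : w ≠ 0 := fun h => hwx (h ▸ Submodule.zero_mem _)
      have hxw : Cfsg.sympForm m F x w = 0 := by
        rw [hw, sympForm_sub_right, sympForm_smul_right, sympForm_self, hxy]; ring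
      have hzw : Cfsg.sympForm m F z w = 0 := by
        rw [hw, sympForm_sub_right, sympForm_smul_right]; field_simp; ring
      have hwB : Projectivization.mk F w hw0 ∈ B :=
        move B hB x y w hx hy hw0 hxB hyB hyx hwx (by rw [hxw, hxy])
      have hxw' : x ∉ Submodule.span F {w} := by
        intro h
        obtain ⟨c, hc⟩ := Submodule.mem_span_singleton.mp h
        have hc0 : c ≠ 0 := by
          rintro rfl
          rw [zero_smul] at hc
          exact hx hc.symm
        apply hwx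
        rw [Submodule.mem_span_singleton]
        exact ⟨c⁻¹, by rw [← hc, smul_smul, inv_mul_cancel₀ hc0, one_smul]⟩
      have hzw' : z ∉ Submodule.span F {w} := by
        intro h
        obtain ⟨c, hc⟩ := Submodule.mem_span_singleton.mp h
        apply hxz
        rw [← hc, sympForm_smul_right, hxw, mul_zero]
      have hwx0 : Cfsg.sympForm m F w x = 0 := by rw [sympForm_swap, hxw, neg_zero]
      have hwz0 : Cfsg.sympForm m F w z = 0 := by rw [sympForm_swap, hzw, neg_zero]
      exact move B hB w x z hw0 hx hz hwB hxB hxw' hzw' (by rw [hwz0, hwx0])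
  · -- non-orthogonal case
    by_cases hxz : Cfsg.sympForm m F x z = 0
    · obtain ⟨w, hxw, hzw⟩ := exists_nonorth_both x z hx hz
      have hw0 : w ≠ 0 := by
        rintro rfl
        exact hxw (sympForm_zero_right m x)
      have hwB : Projectivization.mk F w hw0 ∈ B :=
        mem_of_nonorth B hB x y w hx hy hw0 hxB hyB hxy hxw
      have hwx : Cfsg.sympForm m F w x ≠ 0 := by
        rw [sympForm_swap]; exact neg_ne_zero.mpr hxw
      have hwz : Cfsg.sympForm m F w z ≠ 0 := by
        rw [sympForm_swap]; exact neg_ne_zero.mpr hzw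
      exact mem_of_nonorth B hB w x z hw0 hx hz hwB hxB hwx hwz
    · exact mem_of_nonorth B hB x y z hx hy hz hxB hyB hxy hxz

theorem main [Finite F] (m : ℕ) (hm : 1 ≤ m) : MulAction.IsPreprimitive ↥(Cfsg.spGL m F) (ℙ F (Fin m ⊕ Fin m → F)) := by
  have : MulAction.IsPretransitive ↥(Cfsg.spGL m F) (ℙ F (Fin m ⊕ Fin m → F)) := by
    constructor
    intro p q
    induction p using Projectivization.ind with
    | h x hx =>
      induction q using Projectivization.ind with
      | h y hy =>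
        obtain ⟨A, _, hAx⟩ := sp_step (⊥ : Submodule F (VV m F)) x y
          (by simpa using hx) (by simpa using hy)
          (by intro z hz; rw [Submodule.mem_bot] at hz; rw [hz, sympForm_zero_left, sympForm_zero_left])
        refine ⟨A, ?_⟩
        obtain ⟨h1, h2⟩ := smul_pt A x hx
        rw [h2]
        congr 1
  constructor
  intro B hB
  by_cases hsub : B.Subsingleton
  · exact Or.inl hsub
  · right
    rw [Set.not_subsingleton_iff] at hsub
    obtain ⟨p, hp, q, hq, hpq⟩ := hsub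
    induction p using Projectivization.ind with
    | h x hx =>
      induction q using Projectivization.ind with
      | h y hy =>
        have hyx := not_mem_span_of_ne x y hx hy hpq
        rw [Set.eq_univ_iff_forall]
        intro r
        induction r using Projectivization.ind with
        | h z hz => exact block_univ B hB x y hx hy hp hq hyx z hz


/-- Primitivity: for m ≥ 1 and F finite, the symplectic group of the form sympForm (as a subgroup of the general linear group) acts primitively on the projective space of F^(2m). -/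
theorem result {F : Type*} [Field F] [Finite F] (m : ℕ) (hm : 1 ≤ m) : MulAction.IsPreprimitive ↥(Cfsg.spGL m F) (ℙ F (Fin m ⊕ Fin m → F)) := by
  exact main m hm

end Cfsg.Agent.S0768
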