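import Cfsg.Statements.S0270
import Cfsg.Agent.S0246
import Cfsg.Agent.S0269
import Cfsg.Agent.S0768
import Mathlib

set_option autoImplicit false
open Cfsg

namespace Cfsg.Agent.S0270

open Matrix Cfsg.Agent.Lib.helper6 Cfsg.Agent.S0269
open scoped LinearAlgebra.Projectivization Pointwise

variable {F : Type*} [Field F] {m : ℕ}

abbrev Sp (m : ℕ) (F : Type*) [Field F] : Type _ := Matrix.symplecticGroup (Fin m) F
abbrev VV (m : ℕ) (F : Type*) [Field F] : Type _ := Fin m ⊕ Fin m → F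

/-- The symplectic group inside `GL`. -/
def toSpGL : Sp m F →* ↥(Cfsg.spGL m F) where
  toFun g := ⟨⟨g.1, (g⁻¹).1, by
      have : g * g⁻¹ = 1 := mul_inv_cancel g
      exact congrArg Subtype.val this, by
      have : g⁻¹ * g = 1 := inv_mul_cancel g
      exact congrArg Subtype.val this⟩, by
    intro u v
    exact (mem_symplecticGroup_iff_sympForm m g.1).mp g.2 u v⟩
  map_one' := by
    apply Subtype.ext
    apply Units.ext
    rfl
  map_mul' g h := by
    apply Subtype.ext
    apply Units.ext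
    rfl

theorem toSpGL_coe (g : Sp m F) :
    (((toSpGL g : ↥(Cfsg.spGL m F)) : Matrix.GeneralLinearGroup (Fin m ⊕ Fin m) F) :
      Matrix (Fin m ⊕ Fin m) (Fin m ⊕ Fin m) F) = g.1 := rfl

/-- A section of `toSpGL`. -/
def ofSpGL (A : ↥(Cfsg.spGL m F)) : Sp m F :=
  ⟨((A : Matrix.GeneralLinearGroup (Fin m ⊕ Fin m) F) : Matrix (Fin m ⊕ Fin m) (Fin m ⊕ Fin m) F),
    (mem_symplecticGroup_iff_sympForm m _).mpr (fun u v => A.2 u v)⟩

theorem toSpGL_ofSpGL (A : ↥(Cfsg.spGL m F)) : toSpGL (ofSpGL A) = A := by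
  apply Subtype.ext
  apply Units.ext
  rfl

/-- The action of the symplectic group on projective points. -/
noncomputable def spAction : MulAction (Sp m F) (ℙ F (VV m F)) :=
  MulAction.compHom _ (toSpGL (m := m) (F := F))

attribute [local instance] spAction

theorem sp_smul_def (g : Sp m F) (p : ℙ F (VV m F)) : g • p = toSpGL g • p := rfl

theorem sp_smul_mk (g : Sp m F) (v : VV m F) (hv : v ≠ 0) :
    ∃ hv' : g.1 *ᵥ v ≠ 0, g • (Projectivization.mk F v hv : ℙ F (VV m F)) =
      Projectivization.mk F (g.1 *ᵥ v) hv' := by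
  obtain ⟨h1, h2⟩ := Cfsg.Agent.S0768.smul_pt (toSpGL g) v hv
  exact ⟨h1, h2⟩

theorem sp_preprimitive [Finite F] (hm : 1 ≤ m) : MulAction.IsPreprimitive (Sp m F) (ℙ F (VV m F)) := by
  haveI := Cfsg.Agent.S0768.result (F := F) m hm
  let f : ℙ F (VV m F) →ₑ[(ofSpGL : ↥(Cfsg.spGL m F) → Sp m F)] ℙ F (VV m F) :=
    { toFun := id
      map_smul' := fun A p => by
        show A • p = toSpGL (ofSpGL A) • p
        rw [toSpGL_ofSpGL] }
  exact MulAction.IsPreprimitive.of_surjective (f := f) Function.surjective_id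

/-- The transvection subgroup of a vector. -/
def Tv (v : VV m F) : Subgroup (Sp m F) where
  carrier := {g | ∃ c : F, g = τ v c}
  mul_mem' := by
    rintro _ _ ⟨c, rfl⟩ ⟨d, rfl⟩
    exact ⟨c + d, τ_add v c d⟩
  one_mem' := ⟨0, (τ_zero v).symm⟩
  inv_mem' := by
    rintro _ ⟨c, rfl⟩
    refine ⟨-c, inv_eq_of_mul_eq_one_right ?_⟩
    rw [τ_add, add_neg_cancel, τ_zero]

theorem mem_Tv (v : VV m F) (g : Sp m F) : g ∈ Tv v ↔ ∃ c : F, g = τ v c := Iff.rfl

theorem Tv_smul (k : F) (hk : k ≠ 0) (v : VV m F) : Tv (k • v) = Tv v := by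
  ext g
  rw [mem_Tv, mem_Tv]
  constructor
  · rintro ⟨c, rfl⟩
    exact ⟨k * k * c, τ_smul k v c⟩
  · rintro ⟨c, rfl⟩
    refine ⟨c / (k * k), ?_⟩
    rw [τ_smul, mul_div_cancel₀ _ (mul_ne_zero hk hk)]

theorem Tv_conj (g : Sp m F) (v : VV m F) : MulAut.conj g • Tv v = Tv (g.1 *ᵥ v) := by
  ext x
  rw [Subgroup.mem_smul_pointwise_iff_exists, mem_Tv]
  constructor
  · rintro ⟨y, ⟨c, rfl⟩, rfl⟩
    refine ⟨c, ?_⟩
    rw [MulAut.smul_def, MulAut.conj_apply, conj_τ, mul_assoc, mul_inv_cancel, mul_one]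
  · rintro ⟨c, rfl⟩
    refine ⟨τ v c, ⟨c, rfl⟩, ?_⟩
    rw [MulAut.smul_def, MulAut.conj_apply, conj_τ, mul_assoc, mul_inv_cancel, mul_one]

theorem Tv_rep (w : VV m F) (hw : w ≠ 0) :
    Tv (Projectivization.mk F w hw : ℙ F (VV m F)).rep = Tv w := by
  obtain ⟨a, ha⟩ := Projectivization.exists_smul_eq_mk_rep F w hw
  rw [← ha, Units.smul_def, Tv_smul _ a.ne_zero]

/-- The Iwasawa structure. -/
noncomputable def iwasawa : MulAction.IwasawaStructure (Sp m F) (ℙ F (VV m F)) where
  T p := Tv p.rep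
  is_comm p := ⟨⟨by
    rintro ⟨_, c, rfl⟩ ⟨_, d, rfl⟩
    apply Subtype.ext
    show τ _ c * τ _ d = τ _ d * τ _ c
    rw [τ_add, τ_add, add_comm]⟩⟩
  is_conj g p := by
    rw [Tv_conj]
    obtain ⟨hv', h⟩ := sp_smul_mk g p.rep p.rep_nonzero
    rw [Projectivization.mk_rep] at h
    rw [h, Tv_rep]
  is_generator := by
    rw [eq_top_iff, ← Cfsg.Agent.S0765.result m, Subgroup.closure_le]
    rintro A ⟨w, c, hA⟩
    have hA' : A = τ w c := Subtype.ext hA
    by_cases hw : w = 0
    · have : A = 1 := by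
        rw [hA', hw, ← zero_smul F (0 : VV m F), τ_smul, zero_mul, zero_mul, τ_zero]
      rw [this]
      exact Subgroup.one_mem _
    · refine Subgroup.mem_iSup_of_mem (Projectivization.mk F w hw) ?_
      show A ∈ Tv _
      rw [Tv_rep]
      exact ⟨c, hA'⟩

/-- An element fixing all points is central. -/
theorem central_of_fixes (g : Sp m F) (hg : ∀ p : ℙ F (VV m F), g • p = p) :
    g ∈ Subgroup.center (Sp m F) := by
  obtain ⟨l, hl⟩ : ∃ l : F, g.1 = l • 1 := by
    apply Cfsg.Agent.S0246.scalar_of_all_eigen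
    intro u
    by_cases hu : u = 0
    · exact ⟨1, by rw [hu, Matrix.mulVec_zero, smul_zero]⟩
    obtain ⟨hv', h⟩ := sp_smul_mk g u hu
    rw [hg] at h
    have := (Projectivization.mk_eq_mk_iff F _ _ hu hv').mp h
    obtain ⟨a, ha⟩ := this
    refine ⟨((a⁻¹ : Fˣ) : F), ?_⟩
    have ha' : (a : F) • (g.1 *ᵥ u) = u := ha
    calc g.1 *ᵥ u = ((a⁻¹ : Fˣ) : F) • ((a : F) • (g.1 *ᵥ u)) := by
          rw [smul_smul]; simp
      _ = ((a⁻¹ : Fˣ) : F) • u := by rw [ha']
  rw [Subgroup.mem_center_iff]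
  intro h
  apply Subtype.ext
  show h.1 * g.1 = g.1 * h.1
  rw [hl, Matrix.mul_smul, Matrix.smul_mul, Matrix.mul_one, Matrix.one_mul]

theorem tau_ne_one (hm : 1 ≤ m) : ∃ g : Sp m F, g ≠ 1 := by
  let v : VV m F := ev F m ⟨0, hm⟩
  have hv : v ≠ 0 := fun h => by
    have := congrFun h (Sum.inl ⟨0, hm⟩)
    simp [v, ev_apply] at this
  obtain ⟨x, hx⟩ := sympForm_nondeg m v hv
  have hx' : Cfsg.sympForm m F x v ≠ 0 := by
    rw [sympForm_swap]; exact neg_ne_zero.mpr hx
  refine ⟨τ v 1, fun h => ?_⟩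
  have h1 := τ_mulVec v 1 x
  rw [h, one_mv] at h1
  have h2 : (1 * Cfsg.sympForm m F x v) • v = 0 := by
    have : x + 0 = x + (1 * Cfsg.sympForm m F x v) • v := by rw [add_zero]; exact h1
    exact (add_left_cancel this).symm
  rw [one_mul] at h2
  rcases smul_eq_zero.mp h2 with h3 | h3
  · exact hx' h3
  · exact hv h3

/-- PSp_{2m}(q) is simple for m at least 2 and (m, q) other than (2, 2). -/
theorem result {F : Type*} [Field F] [Fintype F] (m : ℕ) (hm : 2 ≤ m) (h : m = 2 → 3 ≤ Fintype.card F) : IsSimpleGroup (Cfsg.PSp m F) := by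
  classical
  have hperf : commutator (Sp m F) = ⊤ := Cfsg.Agent.S0269.result m (by
    by_cases h2 : m = 2
    · right; left; exact ⟨h2, h h2⟩
    · left; omega)
  haveI := sp_preprimitive (F := F) (m := m) (by omega)
  have key : ∀ N : Subgroup (Sp m F), N.Normal → N ≤ Subgroup.center (Sp m F) ∨ N = ⊤ := by
    intro N hN
    by_cases hfix : MulAction.fixedPoints N (ℙ F (VV m F)) = Set.univ
    · left
      intro g hg
      apply central_of_fixes
      intro p
      have hp : p ∈ MulAction.fixedPoints N (ℙ F (VV m F)) := by rw [hfix]; trivial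
      exact hp ⟨g, hg⟩
    · right
      have := iwasawa.commutator_le N hfix
      rw [hperf] at this
      exact top_le_iff.mp this
  have hne : Subgroup.center (Sp m F) ≠ ⊤ := by
    intro hc
    have hb : commutator (Sp m F) = ⊥ := (commutator_eq_bot_iff_center_eq_top (Sp m F)).mpr hc
    rw [hperf] at hb
    obtain ⟨g, hg⟩ := tau_ne_one (F := F) (m := m) (by omega)
    have : g ∈ (⊤ : Subgroup (Sp m F)) := Subgroup.mem_top g
    rw [hb, Subgroup.mem_bot] at this
    exact hg this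
  refine { exists_pair_ne := ?_, eq_bot_or_eq_top_of_normal := ?_ }
  · by_contra hcon
    apply hne
    rw [eq_top_iff]
    intro g _
    have : (QuotientGroup.mk g : Cfsg.PSp m F) = QuotientGroup.mk 1 := by
      by_contra hne'
      exact hcon ⟨_, _, hne'⟩
    rw [QuotientGroup.mk_one, QuotientGroup.eq_one_iff] at this
    exact this
  · intro Nb hNb
    have hN : (Nb.comap (QuotientGroup.mk' (Subgroup.center (Sp m F)))).Normal := hNb.comap _
    rcases key _ hN with h1 | h1
    · left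
      rw [eq_bot_iff]
      intro x hx
      obtain ⟨g, rfl⟩ := QuotientGroup.mk_surjective x
      have hg : g ∈ Nb.comap (QuotientGroup.mk' (Subgroup.center (Sp m F))) := hx
      have := h1 hg
      rw [Subgroup.mem_bot]
      exact (QuotientGroup.eq_one_iff g).mpr this
    · right
      rw [eq_top_iff]
      intro x _
      obtain ⟨g, rfl⟩ := QuotientGroup.mk_surjective x
      have hg : g ∈ Nb.comap (QuotientGroup.mk' (Subgroup.center (Sp m F))) := by
        rw [h1]; exact Subgroup.mem_top g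
      exact hg

end Cfsg.Agent.S0270
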