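import Cfsg.Statements.S0780
import Cfsg.Agent.Lib.Helper28.UGen2
import Cfsg.Agent.Lib.Helper28.UHerm

set_option autoImplicit false
open Cfsg

namespace Cfsg.Agent.S0780

open Cfsg.Agent.Lib.Helper28 Cfsg.Agent.Lib.Helper28.UForm Cfsg.Agent.Lib.Helper28.UGen

theorem two_skew {F : Type*} [Field F] [Fintype F] {q : ℕ} (hF : Fintype.card F = q ^ 2)
    (hq : 3 ≤ q) {n : ℕ} (σ : F ≃+* F) (hσ : ∀ x, σ x = x ^ q)
    (hf : Cfsg.Geo.IsUnitaryForm σ (Cfsg.hermForm n F q)) : UGen2.TwoSkew σ := by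
  classical
  obtain ⟨κ, hκ0, hκ⟩ := exists_K0 hf
  obtain ⟨g, hg⟩ := IsCyclic.exists_generator (α := Fˣ)
  have hord : orderOf g = q ^ 2 - 1 := by
    rw [orderOf_eq_card_of_forall_mem_zpowers hg, Nat.card_eq_fintype_card, Fintype.card_units,
      hF]
  have hne : (g : F) * σ (g : F) ≠ 1 := by
    intro h1
    have h2 : g ^ (q + 1) = 1 := by
      apply Units.ext
      rw [Units.val_pow_eq_pow_val, Units.val_one, pow_succ', ← hσ]
      exact h1
    have h3 := orderOf_dvd_of_pow_eq_one h2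
    rw [hord] at h3
    have h4 := Nat.le_of_dvd (by omega) h3
    have h5 : 3 * q ≤ q ^ 2 := by nlinarith
    omega
  have hg0 : (g : F) ≠ 0 := g.ne_zero
  have hσg0 : σ (g : F) ≠ 0 := by
    intro h
    apply hg0
    have := congrArg σ h
    rwa [hf.involutive, map_zero] at this
  refine ⟨κ, (g : F) * σ (g : F) * κ, hκ0, mul_ne_zero (mul_ne_zero hg0 hσg0) hκ0, hκ, ?_, ?_⟩
  · rw [map_mul, map_mul, hf.involutive, hκ]
    ring
  · intro h
    have h1 : ((g : F) * σ (g : F) - 1) * κ = 0 := by linear_combination -h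
    rcases mul_eq_zero.1 h1 with h2 | h2
    · exact hne (sub_eq_zero.1 h2)
    · exact hκ0 h2

/-- Generation of SU_n(q), n ≥ 3, (n, q) ≠ (3, 2), by unitary transvections: the subgroup generated by the elements whose matrix is x ↦ x + c h(x, v) v with v isotropic is all of SU_n(q). -/
theorem result {F : Type*} [Field F] [Fintype F] {q : ℕ} (hF : Fintype.card F = q ^ 2) (n : ℕ) (hn : 3 ≤ n) (h32 : ¬ (n = 3 ∧ q = 2)) : Subgroup.closure {A : ↥(Cfsg.SU n F q) | ∃ (v : Fin n → F) (c : F), Cfsg.hermForm n F q v v = 0 ∧ ((A : Matrix.SpecialLinearGroup (Fin n) F) : Matrix (Fin n) (Fin n) F) = Cfsg.unitaryTransvection n q v c} = ⊤ := by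
  classical
  obtain ⟨σ, hσ, hf⟩ := UHerm.herm_unitary hF n
  have h4 : 4 ≤ n ∨ UGen2.TwoSkew σ := by
    by_cases h : 4 ≤ n
    · exact Or.inl h
    · right
      have hn3 : n = 3 := by omega
      have hq2 := UHerm.two_le_q hF
      have hq : 3 ≤ q := by
        by_contra hcon
        exact h32 ⟨hn3, by omega⟩
      exact two_skew hF hq σ hσ hf
  rw [eq_top_iff]
  intro A _
  obtain ⟨φ, hφ⟩ : ∃ φ : ↥(Cfsg.SU n F q) →* Matrix.GeneralLinearGroup (Fin n) F,
      φ = Matrix.SpecialLinearGroup.toGL.comp (Cfsg.SU n F q).subtype := ⟨_, rfl⟩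
  have hφval : ∀ B : ↥(Cfsg.SU n F q), ((φ B : Matrix.GeneralLinearGroup (Fin n) F) :
      Matrix (Fin n) (Fin n) F) = ((B : Matrix.SpecialLinearGroup (Fin n) F) :
      Matrix (Fin n) (Fin n) F) := by
    intro B
    rw [hφ]
    rfl
  have hφinj : Function.Injective φ := by
    intro B C hBC
    apply Subtype.ext
    apply Subtype.ext
    rw [← hφval B, ← hφval C, hBC]
  have key : Subgroup.closure (UT (Cfsg.hermForm n F q) σ) ≤
      (Subgroup.closure {A : ↥(Cfsg.SU n F q) | ∃ (v : Fin n → F) (c : F),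
        Cfsg.hermForm n F q v v = 0 ∧ ((A : Matrix.SpecialLinearGroup (Fin n) F) :
          Matrix (Fin n) (Fin n) F) = Cfsg.unitaryTransvection n q v c}).map φ := by
    rw [Subgroup.closure_le]
    rintro g ⟨y, c, hy, hc, hg⟩
    have hgGA : g ∈ GA (Cfsg.hermForm n F q) (e0 : Fin 0 → (Fin n → F)) :=
      Ra_le_GA hf e0 (Subgroup.subset_closure ⟨y, c, hy, hc, perp_e0 y, hg⟩)
    have hdet : (g : Matrix (Fin n) (Fin n) F).det = 1 := det_of_SL g hgGA.2.1
    have hBSU : (⟨(g : Matrix (Fin n) (Fin n) F), hdet⟩ : Matrix.SpecialLinearGroup (Fin n) F) ∈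
        Cfsg.SU n F q := by
      intro u v
      exact hgGA.1 u v
    refine ⟨⟨⟨(g : Matrix (Fin n) (Fin n) F), hdet⟩, hBSU⟩, Subgroup.subset_closure
      ⟨y, σ c, hy, ?_⟩, ?_⟩
    · change (g : Matrix (Fin n) (Fin n) F) = _
      apply Matrix.ext_of_mulVec_single
      intro i
      rw [hg, Cfsg.Agent.S0779.utv_mulVec, f_smul_right hf]
    · apply Units.ext
      rw [hφval]
  have hA : φ A ∈ Subgroup.closure (UT (Cfsg.hermForm n F q) σ) := by
    apply UGen2.gen' hf hn h4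
    · intro x y
      rw [hφval]
      exact A.2 x y
    · unfold Cfsg.Geo.specialLinear
      rw [MonoidHom.mem_ker]
      apply Units.ext
      rw [Matrix.GeneralLinearGroup.val_det_apply, hφval]
      exact (A : Matrix.SpecialLinearGroup (Fin n) F).2
  obtain ⟨B, hB, hBA⟩ := key hA
  rw [← hφinj hBA]
  exact hB

end Cfsg.Agent.S0780
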