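import Cfsg.Statements.S1270
import Cfsg.Agent.Lib.Helper10.LBal4
import Cfsg.Agent.S1263

set_option autoImplicit false
open Cfsg

namespace Cfsg.Agent.S1270

open Cfsg.Agent.Lib.Helper10 Cfsg.Agent.Lib.Helper9
open scoped commutatorElement

section

variable {G : Type*} [Group G]

theorem commutator_eq_bot_of_le_centralizer {L V : Subgroup G} (hL : IsComponent L)
    (h : ⁅L, V⁆ ≤ Subgroup.centralizer (L : Set G)) : ⁅L, V⁆ = ⊥ := by
  have h1 : ⁅⁅L, V⁆, L⁆ = ⊥ := Subgroup.commutator_eq_bot_iff_le_centralizer.2 h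
  have h2 : ⁅⁅V, L⁆, L⁆ = ⊥ := by rw [Subgroup.commutator_comm V L]; exact h1
  have h3 : ⁅⁅L, L⁆, V⁆ = ⊥ := Subgroup.commutator_commutator_eq_bot_of_rotate h1 h2
  rwa [isComponent_commutator_self hL] at h3

theorem eq_or_le_centralizer_of_normal {L M : Subgroup G} (hL : IsComponent L) (hML : M ≤ L)
    (hN : L ≤ Subgroup.normalizer (M : Set G)) :
    M = L ∨ M ≤ Subgroup.centralizer (L : Set G) := by
  have hn : (M.subgroupOf L).Normal := Subgroup.normal_subgroupOf_of_le_normalizer hN
  rcases quasisimple_normal_top_or_central hL.2 (M.subgroupOf L) hn with h | h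
  · left
    apply le_antisymm hML
    intro l hl
    have : (⟨l, hl⟩ : ↥L) ∈ M.subgroupOf L := by rw [h]; exact Subgroup.mem_top _
    exact Subgroup.mem_subgroupOf.1 this
  · right
    intro m hm
    rw [Subgroup.mem_centralizer_iff]
    intro l hl
    have h1 : (⟨m, hML hm⟩ : ↥L) ∈ Subgroup.center ↥L := h (Subgroup.mem_subgroupOf.2 hm)
    have h2 := Subgroup.mem_center_iff.1 h1 ⟨l, hl⟩
    exact congrArg Subtype.val h2

end

section Fin

variable {G : Type*} [Group G] [Finite G]

theorem cj_pow_le_centralizer (p : ℕ) [Fact p.Prime] {x : G} (hx : orderOf x = p)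
    {L : Subgroup G} (hL : IsComponent L) (hxL : x ∉ Subgroup.normalizer (L : Set G))
    (k : ℕ) (hk1 : 1 ≤ k) (hkp : k < p) :
    cj ((x⁻¹) ^ k) L ≤ Subgroup.centralizer (L : Set G) := by
  have hp : p.Prime := Fact.out
  have hnot : (x⁻¹) ^ k ∉ Subgroup.normalizer (L : Set G) := by
    intro hmem
    apply hxL
    have h1 : x ^ k ∈ Subgroup.normalizer (L : Set G) := by
      have := Subgroup.inv_mem _ hmem
      rwa [inv_pow, inv_inv] at this
    have hcop : k.Coprime (orderOf x) := by
      rw [hx]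
      apply Nat.Coprime.symm
      rw [Nat.Prime.coprime_iff_not_dvd hp]
      intro hdvd
      have := Nat.le_of_dvd (by omega) hdvd
      omega
    exact mem_of_pow_mem_of_coprime _ h1 hcop
  have hne : cj ((x⁻¹) ^ k) L ≠ L := fun h => hnot (cj_eq_self_iff.1 h)
  have h2 := Cfsg.Agent.S1263.distinct_components_commute (isComponent_cj hL _) hL hne
  exact Subgroup.commutator_eq_bot_iff_le_centralizer.1 h2

theorem exists_diag (p : ℕ) [Fact p.Prime] {x : G} (hx : orderOf x = p)
    {L : Subgroup G} (hL : IsComponent L) (hxL : x ∉ Subgroup.normalizer (L : Set G))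
    {l : G} (hl : l ∈ L) :
    ∃ c ∈ Subgroup.centralizer (L : Set G), Commute (l * c) x := by
  have hp : p.Prime := Fact.out
  have claim : ∀ k, 1 ≤ k → k ≤ p → ∃ c ∈ Subgroup.centralizer (L : Set G),
      (l * x⁻¹) ^ k = l * c * (x⁻¹) ^ k := by
    intro k hk
    induction k, hk using Nat.le_induction with
    | base =>
      intro _
      exact ⟨1, Subgroup.one_mem _, by simp⟩
    | succ k hk1 ih =>
      intro hkp
      obtain ⟨c, hc, hck⟩ := ih (by omega)
      have hmem : (x⁻¹) ^ k * l * ((x⁻¹) ^ k)⁻¹ ∈ Subgroup.centralizer (L : Set G) :=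
        cj_pow_le_centralizer p hx hL hxL k hk1 (by omega) (conj_mem_cj hl)
      refine ⟨c * ((x⁻¹) ^ k * l * ((x⁻¹) ^ k)⁻¹), Subgroup.mul_mem _ hc hmem, ?_⟩
      rw [pow_succ, hck, pow_succ]
      group
  obtain ⟨c, hc, hcp⟩ := claim p hp.one_lt.le le_rfl
  have hxp : (x⁻¹) ^ p = 1 := by
    rw [inv_pow, ← hx, pow_orderOf_eq_one, inv_one]
  rw [hxp, mul_one] at hcp
  refine ⟨c, hc, ?_⟩
  have h1 : Commute (l * c) (l * x⁻¹) := by
    rw [← hcp]
    exact (Commute.refl _).pow_left p
  have hcl : Commute c l := by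
    rw [Subgroup.mem_centralizer_iff] at hc
    exact (hc l hl).symm
  have h2 : Commute (l * c) l := by
    have : Commute l l := Commute.refl l
    exact this.mul_left hcl
  have h3 : Commute (l * c) (l⁻¹ * (l * x⁻¹)) := h2.inv_right.mul_right h1
  rw [inv_mul_cancel_left] at h3
  have := h3.inv_right
  rwa [inv_inv] at this

theorem commutator_mem_sup (p : ℕ) [Fact p.Prime] {x : G} (hx : orderOf x = p)
    {L D : Subgroup G} (hL : IsComponent L) (hxL : x ∉ Subgroup.normalizer (L : Set G))
    (hDL : D ≤ Subgroup.normalizer (L : Set G))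
    (hCD : ∀ g : G, Commute g x → g ∈ Subgroup.normalizer (D : Set G))
    {l d : G} (hl : l ∈ L) (hd : d ∈ D) :
    ⁅l, d⁆ ∈ Subgroup.centralizer (L : Set G) ⊔ D := by
  obtain ⟨c, hc, hcomm⟩ := exists_diag p hx hL hxL hl
  have hδ : ⁅l * c, d⁆ ∈ D := by
    have hn := hCD _ hcomm
    rw [commutatorElement_def]
    have h1 : (l * c) * d * (l * c)⁻¹ ∈ D := (Subgroup.mem_normalizer_iff.1 hn d).1 hd
    exact D.mul_mem h1 (D.inv_mem hd)
  have hdZ : d ∈ Subgroup.normalizer ((Subgroup.centralizer (L : Set G) : Subgroup G) : Set G) :=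
    normalizer_le_normalizer_centralizer L (hDL hd)
  have hcd : ⁅c, d⁆ ∈ Subgroup.centralizer (L : Set G) := by
    rw [commutatorElement_def]
    have h1 : d * c⁻¹ * d⁻¹ ∈ Subgroup.centralizer (L : Set G) :=
      (Subgroup.mem_normalizer_iff.1 hdZ c⁻¹).1 (Subgroup.inv_mem _ hc)
    have e : c * d * c⁻¹ * d⁻¹ = c * (d * c⁻¹ * d⁻¹) := by group
    rw [e]
    exact Subgroup.mul_mem _ hc h1
  have hcomm2 : l * ⁅c, d⁆ * l⁻¹ = ⁅c, d⁆ := by
    rw [Subgroup.mem_centralizer_iff] at hcd
    have := hcd l hl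
    rw [this, mul_inv_cancel_right]
  have e : ⁅l, d⁆ = ⁅c, d⁆⁻¹ * ⁅l * c, d⁆ := by
    have e1 : ⁅l * c, d⁆ = (l * ⁅c, d⁆ * l⁻¹) * ⁅l, d⁆ := by
      simp only [commutatorElement_def]; group
    rw [e1, hcomm2, inv_mul_cancel_left]
  rw [e]
  exact Subgroup.mul_mem _ (Subgroup.mem_sup_left (Subgroup.inv_mem _ hcd))
    (Subgroup.mem_sup_right hδ)

end Fin

theorem commutator_le_left_of_le_normalizer {G : Type*} [Group G] {L V : Subgroup G}
    (h : V ≤ Subgroup.normalizer (L : Set G)) : ⁅L, V⁆ ≤ L := by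
  rw [Subgroup.commutator_le]
  intro l hl v hv
  rw [commutatorElement_def]
  have h1 : v * l⁻¹ * v⁻¹ ∈ L := (Subgroup.mem_normalizer_iff.1 (h hv) l⁻¹).1 (L.inv_mem hl)
  have e : l * v * l⁻¹ * v⁻¹ = l * (v * l⁻¹ * v⁻¹) := by group
  rw [e]
  exact L.mul_mem hl h1

theorem centralizer_zpowers_eq {G : Type*} [Group G] (x : G) :
    Subgroup.centralizer ((Subgroup.zpowers x : Subgroup G) : Set G) =
      Subgroup.centralizer ({x} : Set G) := by
  apply le_antisymm
  · apply Subgroup.centralizer_le
    intro y hy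
    rw [Set.mem_singleton_iff] at hy
    subst hy
    exact Subgroup.mem_zpowers y
  · intro g hg
    rw [Subgroup.mem_centralizer_iff] at hg ⊢
    rintro y hy
    obtain ⟨k, rfl⟩ := Subgroup.mem_zpowers_iff.1 hy
    have h1 : Commute x g := hg x rfl
    exact (h1.zpow_left k)

/-- Let G be finite with O_{p'}(G) = 1, x of order p, and L a component with ⁅L, ⟨x⟩⁆ ≠ L. Then ⁅L, O_{p'}(C_G(x))⁆ = 1. -/
theorem result {G : Type*} [Group G] [Finite G] (p : ℕ) [Fact p.Prime] (hO : Cfsg.pPrimeCore p G = ⊥) (x : G) (hx : orderOf x = p) (L : Subgroup G) (hL : Cfsg.IsComponent L) (hne : ⁅L, Subgroup.zpowers x⁆ ≠ L) : ⁅L, Cfsg.centralizerPPrimeCore p x⁆ = ⊥ := by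
  have hp : p.Prime := Fact.out
  have hDdef : Cfsg.centralizerPPrimeCore p x = coreOf p (Subgroup.centralizer ({x} : Set G)) := rfl
  rw [hDdef]
  have hP : IsPGroup p ↥(Subgroup.zpowers x) := by
    apply IsPGroup.of_card (n := 1)
    rw [Nat.card_zpowers, hx, pow_one]
  have hcentP := centralizer_zpowers_eq x
  have hDC : coreOf p (Subgroup.centralizer ({x} : Set G)) ≤ Subgroup.centralizer ({x} : Set G) :=
    coreOf_le p _
  have hVP : coreOf p (Subgroup.centralizer ({x} : Set G)) ≤
      Subgroup.centralizer ((Subgroup.zpowers x : Subgroup G) : Set G) := by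
    rw [hcentP]; exact hDC
  have hVc : (Nat.card ↥(coreOf p (Subgroup.centralizer ({x} : Set G)))).Coprime p :=
    coreOf_card_coprime p _
  have hCN : Subgroup.centralizer ({x} : Set G) ≤
      Subgroup.normalizer ((coreOf p (Subgroup.centralizer ({x} : Set G)) : Subgroup G) : Set G) :=
    Subgroup.le_normalizer.trans (coreOf_normalizer_le p _)
  have hCV : Subgroup.centralizer ((Subgroup.zpowers x : Subgroup G) : Set G) ≤
      Subgroup.normalizer ((coreOf p (Subgroup.centralizer ({x} : Set G)) : Subgroup G) : Set G) := by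
    rw [hcentP]; exact hCN
  have hDL := le_normalizer_component_of_centralizer p hO hL (Subgroup.zpowers x) hP
    (coreOf p (Subgroup.centralizer ({x} : Set G))) hVP hVc hCV
  have hCD : ∀ g : G, Commute g x →
      g ∈ Subgroup.normalizer ((coreOf p (Subgroup.centralizer ({x} : Set G)) : Subgroup G) : Set G) := by
    intro g hg
    apply hCN
    rw [Subgroup.mem_centralizer_iff]
    intro y hy
    rw [Set.mem_singleton_iff] at hy
    subst hy
    exact hg.eq.symm
  have key : ∀ l ∈ L, ∀ d ∈ coreOf p (Subgroup.centralizer ({x} : Set G)),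
      ⁅l, d⁆ ∈ Subgroup.centralizer (L : Set G) ⊔ coreOf p (Subgroup.centralizer ({x} : Set G)) := by
    intro l hl d hd
    by_cases hxL : x ∈ Subgroup.normalizer (L : Set G)
    · have hPL : Subgroup.zpowers x ≤ Subgroup.normalizer (L : Set G) := by
        rw [Subgroup.zpowers_le]; exact hxL
      have hle := commutator_le_left_of_le_normalizer hPL
      rcases eq_or_le_centralizer_of_normal hL hle (le_normalizer_commutator_left L _) with h | h
      · exact absurd h hne
      · have h0 := commutator_eq_bot_of_le_centralizer hL h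
        have hLC : L ≤ Subgroup.centralizer ({x} : Set G) := by
          rw [← hcentP]
          exact Subgroup.commutator_eq_bot_iff_le_centralizer.1 h0
        have hn := hCN (hLC hl)
        apply Subgroup.mem_sup_right
        rw [commutatorElement_def]
        have h1 : l * d * l⁻¹ ∈ coreOf p (Subgroup.centralizer ({x} : Set G)) :=
          (Subgroup.mem_normalizer_iff.1 hn d).1 hd
        exact Subgroup.mul_mem _ h1 (Subgroup.inv_mem _ hd)
    · exact commutator_mem_sup p hx hL hxL hDL hCD hl hd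
  have hLDle := commutator_le_left_of_le_normalizer hDL
  rcases eq_or_le_centralizer_of_normal hL hLDle (le_normalizer_commutator_left L _) with h | h
  · exfalso
    have hLle : L ≤ Subgroup.centralizer (L : Set G) ⊔
        coreOf p (Subgroup.centralizer ({x} : Set G)) := by
      have h' : ⁅L, coreOf p (Subgroup.centralizer ({x} : Set G))⁆ ≤
          Subgroup.centralizer (L : Set G) ⊔ coreOf p (Subgroup.centralizer ({x} : Set G)) := by
        rw [Subgroup.commutator_le]; exact key
      rwa [h] at h'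
    have hLZ : L ≤ Subgroup.normalizer
        ((Subgroup.centralizer (L : Set G) : Subgroup G) : Set G) :=
      Subgroup.le_normalizer.trans (normalizer_le_normalizer_centralizer L)
    have hDZ : coreOf p (Subgroup.centralizer ({x} : Set G)) ≤ Subgroup.normalizer
        ((Subgroup.centralizer (L : Set G) : Subgroup G) : Set G) :=
      hDL.trans (normalizer_le_normalizer_centralizer L)
    have e1 := relIndex_sup_of_le_normalizer L (Subgroup.centralizer (L : Set G)) hLZ
    have e2 := relIndex_sup_of_le_normalizer (coreOf p (Subgroup.centralizer ({x} : Set G)))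
      (Subgroup.centralizer (L : Set G)) hDZ
    have hle2 : L ⊔ Subgroup.centralizer (L : Set G) ≤
        coreOf p (Subgroup.centralizer ({x} : Set G)) ⊔ Subgroup.centralizer (L : Set G) := by
      apply sup_le _ le_sup_right
      rw [sup_comm]; exact hLle
    have e3 := Subgroup.relIndex_mul_relIndex (Subgroup.centralizer (L : Set G))
      (L ⊔ Subgroup.centralizer (L : Set G))
      (coreOf p (Subgroup.centralizer ({x} : Set G)) ⊔ Subgroup.centralizer (L : Set G))
      le_sup_right hle2
    rw [e1, e2] at e3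
    have hdvd : (Subgroup.centralizer (L : Set G)).relIndex L ∣
        Nat.card ↥(coreOf p (Subgroup.centralizer ({x} : Set G))) :=
      (Dvd.intro _ e3).trans (Subgroup.relIndex_dvd_card _ _)
    apply component_sylow_not_central p hO hL (Subgroup.centralizer (L : Set G)) _ inf_le_left
    rw [Subgroup.inf_relIndex_right]
    intro hpd
    have := Nat.Coprime.coprime_dvd_left hdvd hVc
    have h1 : p ∣ Nat.gcd ((Subgroup.centralizer (L : Set G)).relIndex L) p :=
      Nat.dvd_gcd hpd dvd_rfl
    rw [this] at h1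
    exact hp.one_lt.ne' (Nat.dvd_one.1 h1)
  · exact commutator_eq_bot_of_le_centralizer hL h

end Cfsg.Agent.S1270
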