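import Cfsg.Statements.S1271
import Cfsg.Agent.S1270
import Cfsg.Agent.S1265
import Cfsg.Agent.S1331
import Cfsg.Agent.Lib.Helper10.LBal7

set_option autoImplicit false
open Cfsg

namespace Cfsg.Agent.S1271

open Cfsg.Agent.Lib.Helper10 Cfsg.Agent.Lib.Helper9
open scoped commutatorElement

section Abstract

variable {H : Type*} [Group H]

theorem map_le_centralizerPPrimeCore (p : ℕ) [Fact p.Prime] (C : Subgroup H) [C.Normal] (x : H)
    (N : Subgroup H) (hNx : N ≤ Subgroup.centralizer ({x} : Set H))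
    (hNc : (Nat.card ↥N).Coprime p)
    (hY : ∀ y : H, ⁅y, x⁆ ∈ C → y ∈ Subgroup.normalizer (N : Set H)) :
    N.map (QuotientGroup.mk' C) ≤ Cfsg.centralizerPPrimeCore p (QuotientGroup.mk' C x) := by
  have hdef : Cfsg.centralizerPPrimeCore p (QuotientGroup.mk' C x) =
      coreOf p (Subgroup.centralizer ({QuotientGroup.mk' C x} : Set (H ⧸ C))) := rfl
  rw [hdef]
  apply le_coreOf
  · rintro _ ⟨n, hn, rfl⟩
    rw [Subgroup.mem_centralizer_iff]
    intro y hy
    rw [Set.mem_singleton_iff] at hy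
    subst hy
    have h1 := hNx hn
    rw [Subgroup.mem_centralizer_iff] at h1
    have h2 := h1 x rfl
    rw [← map_mul, ← map_mul, h2]
  · intro ybar hybar
    obtain ⟨y, rfl⟩ := QuotientGroup.mk'_surjective C ybar
    rw [Subgroup.mem_centralizer_iff] at hybar
    have h1 := hybar _ rfl
    have h2 : ⁅y, x⁆ ∈ C := by
      rw [← QuotientGroup.ker_mk' C, MonoidHom.mem_ker, commutatorElement_def, map_mul, map_mul,
        map_mul, map_inv, map_inv, ← h1]
      group
    exact Subgroup.le_normalizer_map _ ⟨y, hY y h2, rfl⟩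
  · exact Nat.Coprime.coprime_dvd_left (Subgroup.card_map_dvd N _) hNc

end Abstract

section Core

variable {G : Type*} [Group G] [Finite G]

omit [Finite G] in
theorem centralizer_le_normalizer_core (p : ℕ) (x : G) :
    Subgroup.centralizer ({x} : Set G) ≤
      Subgroup.normalizer ((coreOf p (Subgroup.centralizer ({x} : Set G)) : Subgroup G) : Set G) :=
  Subgroup.le_normalizer.trans (coreOf_normalizer_le p _)

omit [Finite G] in
theorem core_facts (p : ℕ) [Fact p.Prime] (x : G) (hx : orderOf x = p) :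
    IsPGroup p ↥(Subgroup.zpowers x) ∧
    coreOf p (Subgroup.centralizer ({x} : Set G)) ≤
      Subgroup.centralizer ((Subgroup.zpowers x : Subgroup G) : Set G) ∧
    Subgroup.centralizer ((Subgroup.zpowers x : Subgroup G) : Set G) ≤
      Subgroup.normalizer ((coreOf p (Subgroup.centralizer ({x} : Set G)) : Subgroup G) : Set G) := by
  refine ⟨?_, ?_, ?_⟩
  · apply IsPGroup.of_card (n := 1)
    rw [Nat.card_zpowers, hx, pow_one]
  · rw [Cfsg.Agent.S1270.centralizer_zpowers_eq]; exact coreOf_le p _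
  · rw [Cfsg.Agent.S1270.centralizer_zpowers_eq]; exact centralizer_le_normalizer_core p x

theorem core_le_centralizer_pCore (p : ℕ) [Fact p.Prime] (x : G) (hx : orderOf x = p) :
    coreOf p (Subgroup.centralizer ({x} : Set G)) ≤
      Subgroup.centralizer ((pCore p G : Subgroup G) : Set G) := by
  obtain ⟨h1, h2, h3⟩ := core_facts p x hx
  exact le_centralizer_pCore p (Subgroup.zpowers x) h1 _ h2 (coreOf_card_coprime p _) h3

theorem core_le_normalizer_component (p : ℕ) [Fact p.Prime] (hO : pPrimeCore p G = ⊥) (x : G)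
    (hx : orderOf x = p) {L : Subgroup G} (hL : IsComponent L) :
    coreOf p (Subgroup.centralizer ({x} : Set G)) ≤ Subgroup.normalizer (L : Set G) := by
  obtain ⟨h1, h2, h3⟩ := core_facts p x hx
  exact le_normalizer_component_of_centralizer p hO hL (Subgroup.zpowers x) h1 _ h2
    (coreOf_card_coprime p _) h3

theorem core_commute_center (p : ℕ) [Fact p.Prime] (hO : pPrimeCore p G = ⊥) (x : G)
    (hx : orderOf x = p) {L : Subgroup G} (hL : IsComponent L) {z d : G} (hzL : z ∈ L)
    (hzC : z ∈ Subgroup.centralizer (L : Set G))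
    (hd : d ∈ coreOf p (Subgroup.centralizer ({x} : Set G))) : d * z = z * d := by
  have h1 : z ∈ fittingSubgroup G := inf_centralizer_le_fitting hL.1 ⟨hzL, hzC⟩
  rw [Cfsg.Agent.S1327.fitting_eq_pCore p hO] at h1
  have h2 := core_le_centralizer_pCore p x hx hd
  rw [Subgroup.mem_centralizer_iff] at h2
  exact (h2 z h1).symm

end Core

section Alg

theorem alg0 {G : Type*} [Group G] (x l z : G) (hz : z = ⁅l, x⁆) :
    x * l = z⁻¹ * l * x ∧ x * l⁻¹ = l⁻¹ * z * x := by
  subst hz
  constructor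
  · rw [commutatorElement_def]; group
  · rw [commutatorElement_def]; group

theorem alg1 {G : Type*} [Group G] (x l c z : G) (hz : z = ⁅l, x⁆) (hc : x * c = c * x)
    (hzc : z⁻¹ * (l * c * l⁻¹) * z = l * c * l⁻¹) :
    x * (l * c * l⁻¹) = (l * c * l⁻¹) * x := by
  obtain ⟨e1, e2⟩ := alg0 x l z hz
  calc x * (l * c * l⁻¹) = (x * l) * c * l⁻¹ := by group
    _ = z⁻¹ * l * (x * c) * l⁻¹ := by rw [e1]; group
    _ = z⁻¹ * l * c * (x * l⁻¹) := by rw [hc]; group
    _ = (z⁻¹ * (l * c * l⁻¹) * z) * x := by rw [e2]; group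
    _ = (l * c * l⁻¹) * x := by rw [hzc]

theorem alg2 {G : Type*} [Group G] (x l d z : G) (hz : z = ⁅l, x⁆) (hd : x * d = d * x)
    (hzd : d * z = z * d)
    (hzc : z⁻¹ * ⁅l, d⁆ * z = ⁅l, d⁆) :
    x * ⁅l, d⁆ = ⁅l, d⁆ * x := by
  obtain ⟨e1, e2⟩ := alg0 x l z hz
  have hd' : x * d⁻¹ = d⁻¹ * x := by
    have : Commute x d := hd
    exact this.inv_right.eq
  have hzd' : z * d⁻¹ = d⁻¹ * z := by
    have : Commute d z := hzd
    exact this.symm.inv_right.eq
  calc x * ⁅l, d⁆ = (x * l) * d * l⁻¹ * d⁻¹ := by rw [commutatorElement_def]; group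
    _ = z⁻¹ * l * (x * d) * l⁻¹ * d⁻¹ := by rw [e1]; group
    _ = z⁻¹ * l * d * (x * l⁻¹) * d⁻¹ := by rw [hd]; group
    _ = z⁻¹ * l * d * l⁻¹ * z * (x * d⁻¹) := by rw [e2]; group
    _ = z⁻¹ * l * d * l⁻¹ * (z * d⁻¹) * x := by rw [hd']; group
    _ = (z⁻¹ * ⁅l, d⁆ * z) * x := by rw [hzd', commutatorElement_def]; group
    _ = ⁅l, d⁆ * x := by rw [hzc]

end Alg

section KN

variable {G : Type*} [Group G] [Finite G]

theorem conj_mem_K (p : ℕ) [Fact p.Prime] (hO : pPrimeCore p G = ⊥) (x : G)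
    (hx : orderOf x = p) {L : Subgroup G} (hL : IsComponent L)
    {l : G} (hl : l ∈ L) (hz : ⁅l, x⁆ ∈ Subgroup.centralizer (L : Set G))
    (hxL : x ∈ Subgroup.normalizer (L : Set G)) :
    ∀ u ∈ (L ⊓ Subgroup.centralizer ({x} : Set G)) ⊔ coreOf p (Subgroup.centralizer ({x} : Set G)),
      l * u * l⁻¹ ∈
        (L ⊓ Subgroup.centralizer ({x} : Set G)) ⊔ coreOf p (Subgroup.centralizer ({x} : Set G)) := by
  obtain ⟨z, hzdef⟩ : ∃ z, z = ⁅l, x⁆ := ⟨_, rfl⟩
  rw [← hzdef] at hz
  have hzL : z ∈ L := by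
    rw [hzdef, commutatorElement_def]
    have h1 : x * l⁻¹ * x⁻¹ ∈ L := (Subgroup.mem_normalizer_iff.1 hxL l⁻¹).1 (L.inv_mem hl)
    have e : l * x * l⁻¹ * x⁻¹ = l * (x * l⁻¹ * x⁻¹) := by group
    rw [e]; exact L.mul_mem hl h1
  have hzc : ∀ m ∈ L, z⁻¹ * m * z = m := by
    intro m hm
    rw [Subgroup.mem_centralizer_iff] at hz
    have := hz m hm
    rw [mul_assoc, this, ← mul_assoc, inv_mul_cancel, one_mul]
  have hDL := core_le_normalizer_component p hO x hx hL
  have key : (L ⊓ Subgroup.centralizer ({x} : Set G)) ⊔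
      coreOf p (Subgroup.centralizer ({x} : Set G)) ≤
      ((L ⊓ Subgroup.centralizer ({x} : Set G)) ⊔
        coreOf p (Subgroup.centralizer ({x} : Set G))).comap (MulAut.conj l).toMonoidHom := by
    apply sup_le
    · intro c hc
      rw [Subgroup.mem_comap]
      apply Subgroup.mem_sup_left
      show l * c * l⁻¹ ∈ L ⊓ Subgroup.centralizer ({x} : Set G)
      have hcL : c ∈ L := (Subgroup.mem_inf.1 hc).1
      have hcx : x * c = c * x := by
        have := (Subgroup.mem_inf.1 hc).2
        rw [Subgroup.mem_centralizer_iff] at this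
        exact this x rfl
      have hm : l * c * l⁻¹ ∈ L := L.mul_mem (L.mul_mem hl hcL) (L.inv_mem hl)
      refine Subgroup.mem_inf.2 ⟨hm, ?_⟩
      rw [Subgroup.mem_centralizer_iff]
      intro y hy
      rw [Set.mem_singleton_iff] at hy
      subst hy
      exact alg1 y l c z hzdef hcx (hzc _ hm)
    · intro d hd
      rw [Subgroup.mem_comap]
      show l * d * l⁻¹ ∈ _
      have hdx : x * d = d * x := by
        have := coreOf_le p _ hd
        rw [Subgroup.mem_centralizer_iff] at this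
        exact this x rfl
      have hcomm : ⁅l, d⁆ ∈ L := by
        rw [commutatorElement_def]
        have h1 : d * l⁻¹ * d⁻¹ ∈ L :=
          (Subgroup.mem_normalizer_iff.1 (hDL hd) l⁻¹).1 (L.inv_mem hl)
        have e : l * d * l⁻¹ * d⁻¹ = l * (d * l⁻¹ * d⁻¹) := by group
        rw [e]; exact L.mul_mem hl h1
      have hzd : d * z = z * d := core_commute_center p hO x hx hL hzL hz hd
      have h2 : x * ⁅l, d⁆ = ⁅l, d⁆ * x := alg2 x l d z hzdef hdx hzd (hzc _ hcomm)
      have e : l * d * l⁻¹ = ⁅l, d⁆ * d := by rw [commutatorElement_def]; group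
      rw [e]
      refine Subgroup.mul_mem _ (Subgroup.mem_sup_left (Subgroup.mem_inf.2 ⟨hcomm, ?_⟩))
        (Subgroup.mem_sup_right hd)
      rw [Subgroup.mem_centralizer_iff]
      intro y hy
      rw [Set.mem_singleton_iff] at hy
      subst hy
      exact h2
  intro u hu
  exact key hu

end KN

section Hard

variable {G : Type*} [Group G] [Finite G]

theorem mem_normalizer_of_conj_mem_finite {K : Subgroup G} {y : G}
    (h : ∀ u ∈ K, y * u * y⁻¹ ∈ K) : y ∈ Subgroup.normalizer (K : Set G) := by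
  rw [← cj_eq_self_iff]
  have hle : cj y K ≤ K := by
    rintro _ ⟨u, hu, rfl⟩
    exact h u hu
  have hcard : Nat.card ↥(cj y K) = Nat.card ↥K := by
    rw [cj_def]
    exact Subgroup.card_map_of_injective (MulAut.conj y).injective
  exact Subgroup.eq_of_le_of_card_ge hle hcard.ge

omit [Finite G] in
theorem commutator_mul_eq_of_commute {b x : G} (l : G) (hb : b * x = x * b) :
    ⁅l * b, x⁆ = ⁅l, x⁆ := by
  rw [commutatorElement_def, commutatorElement_def]
  have : l * b * x * (l * b)⁻¹ = l * (b * x) * b⁻¹ * l⁻¹ := by group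
  rw [this, hb]
  group

theorem hard_case (p : ℕ) [Fact p.Prime] (hO : Cfsg.pPrimeCore p G = ⊥) (x : G)
    (hx : orderOf x = p) (L : Subgroup G) (hL : Cfsg.IsComponent L)
    (heq : ⁅L, Subgroup.zpowers x⁆ = L)
    (h : ∀ H : Subgroup G, L ≤ H → (L.subgroupOf H).Normal →
      ∀ [((Subgroup.centralizer (L : Set G)).subgroupOf H).Normal],
        Cfsg.IsBalancedFor p (↥H ⧸ (Subgroup.centralizer (L : Set G)).subgroupOf H)) :
    ⁅L, coreOf p (Subgroup.centralizer ({x} : Set G))⁆ = ⊥ := by
  have hp : p.Prime := Fact.out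
  have hDc0 := coreOf_card_coprime p (Subgroup.centralizer ({x} : Set G))
  have hDx0 := coreOf_le p (Subgroup.centralizer ({x} : Set G))
  have hCN0 := centralizer_le_normalizer_core p x
  have hDL0 := core_le_normalizer_component p hO x hx hL
  have hconj0 := fun (l : G) (hl : l ∈ L) (hz : ⁅l, x⁆ ∈ Subgroup.centralizer (L : Set G))
    (hxL : x ∈ Subgroup.normalizer (L : Set G)) => conj_mem_K p hO x hx hL hl hz hxL
  obtain ⟨D, hDdef⟩ : ∃ D, D = coreOf p (Subgroup.centralizer ({x} : Set G)) := ⟨_, rfl⟩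
  rw [← hDdef] at hDc0 hDx0 hCN0 hDL0 hconj0 ⊢
  have hXL : Subgroup.zpowers x ≤ Subgroup.normalizer (L : Set G) := by
    have h1 := le_normalizer_commutator_left (Subgroup.zpowers x) L
    rw [Subgroup.commutator_comm, heq] at h1
    exact h1
  have hxL : x ∈ Subgroup.normalizer (L : Set G) := hXL (Subgroup.mem_zpowers x)
  have hXx : Subgroup.zpowers x ≤ Subgroup.centralizer ({x} : Set G) := by
    rw [Subgroup.zpowers_le, Subgroup.mem_centralizer_iff]
    intro y hy
    rw [Set.mem_singleton_iff] at hy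
    subst hy
    rfl
  obtain ⟨K, hKdef⟩ : ∃ K, K = (L ⊓ Subgroup.centralizer ({x} : Set G)) ⊔ D := ⟨_, rfl⟩
  rw [← hKdef] at hconj0
  have hKx : K ≤ Subgroup.centralizer ({x} : Set G) := by
    rw [hKdef]; exact sup_le inf_le_right hDx0
  have hDK : D ≤ K := by rw [hKdef]; exact le_sup_right
  have hKD : K ≤ Subgroup.normalizer (D : Set G) := hKx.trans hCN0
  have hDN : D ≤ coreOf p K := le_coreOf p hDK hKD hDc0
  have hNK : coreOf p K ≤ K := coreOf_le p K
  have hNc : (Nat.card ↥(coreOf p K)).Coprime p := coreOf_card_coprime p K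
  have hBL : D ⊔ Subgroup.zpowers x ≤ Subgroup.normalizer (L : Set G) := sup_le hDL0 hXL
  have hBx : D ⊔ Subgroup.zpowers x ≤ Subgroup.centralizer ({x} : Set G) := sup_le hDx0 hXx
  obtain ⟨H, hHdef⟩ : ∃ H, H = L ⊔ (D ⊔ Subgroup.zpowers x) := ⟨_, rfl⟩
  have hLH : L ≤ H := by rw [hHdef]; exact le_sup_left
  have hDH : D ≤ H := by rw [hHdef]; exact le_sup_left.trans le_sup_right
  have hxH : x ∈ H := by
    rw [hHdef]; exact (le_sup_right.trans le_sup_right : Subgroup.zpowers x ≤ _) (Subgroup.mem_zpowers x)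
  have hHL : H ≤ Subgroup.normalizer (L : Set G) := by
    rw [hHdef]; exact sup_le Subgroup.le_normalizer hBL
  have hKH : K ≤ H := by
    rw [hKdef]; exact sup_le (inf_le_left.trans hLH) hDH
  have hLn : (L.subgroupOf H).Normal := Subgroup.normal_subgroupOf_of_le_normalizer hHL
  have hCn : ((Subgroup.centralizer (L : Set G)).subgroupOf H).Normal :=
    Subgroup.normal_subgroupOf_of_le_normalizer (hHL.trans (normalizer_le_normalizer_centralizer L))
  have hbal := h H hLH hLn
  have hxp : x ^ p = 1 := by rw [← hx]; exact pow_orderOf_eq_one x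
  have hord : orderOf (QuotientGroup.mk' ((Subgroup.centralizer (L : Set G)).subgroupOf H)
      (⟨x, hxH⟩ : ↥H)) = p := by
    apply orderOf_eq_prime
    · rw [← map_pow]
      have : (⟨x, hxH⟩ : ↥H) ^ p = 1 := Subtype.ext (by simpa using hxp)
      rw [this, map_one]
    · intro h1
      rw [← MonoidHom.mem_ker, QuotientGroup.ker_mk', Subgroup.mem_subgroupOf] at h1
      have h2 : Subgroup.zpowers x ≤ Subgroup.centralizer (L : Set G) := by
        rw [Subgroup.zpowers_le]; exact h1
      have h3 : ⁅Subgroup.zpowers x, L⁆ = ⊥ := Subgroup.commutator_eq_bot_iff_le_centralizer.2 h2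
      rw [Subgroup.commutator_comm, heq] at h3
      exact isComponent_ne_bot hL h3
  have hb := hbal _ hord
  have hyN : ∀ y : G, y ∈ H → ⁅y, x⁆ ∈ Subgroup.centralizer (L : Set G) →
      y ∈ Subgroup.normalizer ((coreOf p K : Subgroup G) : Set G) := by
    intro y hyH hyc
    rw [hHdef] at hyH
    obtain ⟨l, hl, b, hb', rfl⟩ := exists_mul_of_mem_sup L _ hBL y hyH
    have hbx : b * x = x * b := by
      have := hBx hb'
      rw [Subgroup.mem_centralizer_iff] at this
      exact (this x rfl).symm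
    rw [commutator_mul_eq_of_commute l hbx] at hyc
    have h1 := hconj0 l hl hyc hxL
    have hbK : ∀ u ∈ K, b * u * b⁻¹ ∈ K := by
      have hBK : D ⊔ Subgroup.zpowers x ≤ Subgroup.normalizer (K : Set G) := by
        apply sup_le (hDK.trans Subgroup.le_normalizer)
        apply le_normalizer_of_commute
        intro a ha c hc
        obtain ⟨k, rfl⟩ := Subgroup.mem_zpowers_iff.1 hc
        have := hKx ha
        rw [Subgroup.mem_centralizer_iff] at this
        have h2 : Commute x a := this x rfl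
        exact (h2.zpow_left k).eq.symm
      intro u hu
      exact (Subgroup.mem_normalizer_iff.1 (hBK hb') u).1 hu
    apply coreOf_normalizer_le p K
    apply mem_normalizer_of_conj_mem_finite
    intro u hu
    have e : l * b * u * (l * b)⁻¹ = l * (b * u * b⁻¹) * l⁻¹ := by group
    rw [e]
    exact h1 _ (hbK u hu)
  have hNmap := map_le_centralizerPPrimeCore p ((Subgroup.centralizer (L : Set G)).subgroupOf H)
    (⟨x, hxH⟩ : ↥H) ((coreOf p K).subgroupOf H)
    (by
      intro n hn
      rw [Subgroup.mem_subgroupOf] at hn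
      have h1 := hKx (hNK hn)
      rw [Subgroup.mem_centralizer_iff] at h1 ⊢
      intro y hy
      rw [Set.mem_singleton_iff] at hy
      subst hy
      exact Subtype.ext (h1 x rfl))
    (by
      rw [Nat.card_congr (Subgroup.subgroupOfEquivOfLe (hNK.trans hKH)).toEquiv]
      exact hNc)
    (by
      intro y hy
      rw [Subgroup.mem_subgroupOf] at hy
      have h1 := hyN (y : G) y.2 hy
      exact Subgroup.le_normalizer_comap H.subtype h1)
  have hDO : ∀ d : ↥H, (d : G) ∈ D →
      QuotientGroup.mk' ((Subgroup.centralizer (L : Set G)).subgroupOf H) d ∈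
        Cfsg.pPrimeCore p (↥H ⧸ (Subgroup.centralizer (L : Set G)).subgroupOf H) := by
    intro d hd
    apply hb
    apply hNmap
    exact ⟨d, Subgroup.mem_subgroupOf.2 (hDN hd), rfl⟩
  have hOn : (Cfsg.pPrimeCore p (↥H ⧸ (Subgroup.centralizer (L : Set G)).subgroupOf H)).Normal :=
    Cfsg.Agent.Lib.Helper1.pPrimeCore_normal p
  obtain ⟨M, hMdef⟩ : ∃ M, M = ((Cfsg.pPrimeCore p
      (↥H ⧸ (Subgroup.centralizer (L : Set G)).subgroupOf H)).comap
      (QuotientGroup.mk' ((Subgroup.centralizer (L : Set G)).subgroupOf H))).map H.subtype :=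
    ⟨_, rfl⟩
  have hMmem : ∀ g : G, g ∈ M ↔ ∃ hg : g ∈ H,
      QuotientGroup.mk' ((Subgroup.centralizer (L : Set G)).subgroupOf H) ⟨g, hg⟩ ∈
        Cfsg.pPrimeCore p (↥H ⧸ (Subgroup.centralizer (L : Set G)).subgroupOf H) := by
    intro g
    rw [hMdef]
    constructor
    · rintro ⟨g', hg', rfl⟩
      exact ⟨g'.2, hg'⟩
    · rintro ⟨hg, hg'⟩
      exact ⟨⟨g, hg⟩, hg', rfl⟩
  have hDM : D ≤ M := by
    intro d hd
    rw [hMmem]
    exact ⟨hDH hd, hDO ⟨d, hDH hd⟩ hd⟩
  have hHM : H ≤ Subgroup.normalizer (M : Set G) := by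
    apply Cfsg.Agent.S1331.le_normalizer_of_conj_mem
    intro b hb' u hu
    rw [hMmem] at hu ⊢
    obtain ⟨huH, hu'⟩ := hu
    refine ⟨H.mul_mem (H.mul_mem hb' huH) (H.inv_mem hb'), ?_⟩
    have := hOn.conj_mem _ hu'
      (QuotientGroup.mk' ((Subgroup.centralizer (L : Set G)).subgroupOf H) ⟨b, hb'⟩)
    rw [← map_inv, ← map_mul, ← map_mul] at this
    exact this
  have hLD : ⁅L, D⁆ ≤ L ⊓ M := by
    apply le_inf (Cfsg.Agent.S1270.commutator_le_left_of_le_normalizer hDL0)
    rw [Subgroup.commutator_le]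
    intro l hl d hd
    rw [commutatorElement_def]
    have h1 : l * d * l⁻¹ ∈ M :=
      (Subgroup.mem_normalizer_iff.1 (hHM (hLH hl)) d).1 (hDM hd)
    exact M.mul_mem h1 (M.inv_mem (hDM hd))
  have hnorm : L ≤ Subgroup.normalizer ((L ⊓ M : Subgroup G) : Set G) :=
    le_trans (le_inf Subgroup.le_normalizer (hLH.trans hHM)) (normalizer_inf_le L M)
  rcases Cfsg.Agent.S1270.eq_or_le_centralizer_of_normal hL inf_le_left hnorm with h1 | h1
  · exfalso
    have hLM : L ≤ M := inf_eq_left.1 h1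
    have e1 : ((Subgroup.centralizer (L : Set G)).subgroupOf H).relIndex (L.subgroupOf H) =
        (Subgroup.centralizer (L : Set G)).relIndex L := Subgroup.relIndex_subgroupOf hLH
    have e2 := Subgroup.relIndex_ker (K := L.subgroupOf H)
      (QuotientGroup.mk' ((Subgroup.centralizer (L : Set G)).subgroupOf H))
    rw [QuotientGroup.ker_mk', e1] at e2
    have hle : (L.subgroupOf H).map
        (QuotientGroup.mk' ((Subgroup.centralizer (L : Set G)).subgroupOf H)) ≤
        Cfsg.pPrimeCore p (↥H ⧸ (Subgroup.centralizer (L : Set G)).subgroupOf H) := by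
      rintro _ ⟨l, hl, rfl⟩
      have hl' : (l : G) ∈ L := hl
      obtain ⟨_, h2⟩ := (hMmem _).1 (hLM hl')
      exact h2
    have hdvd := Subgroup.card_dvd_of_le hle
    rw [← e2] at hdvd
    have hcop : ((Subgroup.centralizer (L : Set G)).relIndex L).Coprime p :=
      Nat.Coprime.coprime_dvd_left hdvd (Cfsg.Agent.Lib.Helper1.pPrimeCore_card_coprime p)
    apply component_sylow_not_central p hO hL (Subgroup.centralizer (L : Set G)) _ inf_le_left
    rw [Subgroup.inf_relIndex_right]
    intro hpd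
    have h3 : p ∣ Nat.gcd ((Subgroup.centralizer (L : Set G)).relIndex L) p :=
      Nat.dvd_gcd hpd dvd_rfl
    rw [hcop] at h3
    exact hp.one_lt.ne' (Nat.dvd_one.1 h3)
  · exact Cfsg.Agent.S1270.commutator_eq_bot_of_le_centralizer hL (hLD.trans h1)

end Hard

/-- Let G be finite with O_{p'}(G) = 1. Suppose that for every component L of G and every subgroup H ≥ L in which L is normal, the quotient H / C_H(L) is balanced for the prime p. Then G is balanced for p. -/
theorem result {G : Type*} [Group G] [Finite G] (p : ℕ) [Fact p.Prime] (hO : Cfsg.pPrimeCore p G = ⊥) (h : ∀ L : Subgroup G, Cfsg.IsComponent L → ∀ H : Subgroup G, L ≤ H → (L.subgroupOf H).Normal → ∀ [((Subgroup.centralizer (L : Set G)).subgroupOf H).Normal], Cfsg.IsBalancedFor p (↥H ⧸ (Subgroup.centralizer (L : Set G)).subgroupOf H)) : Cfsg.IsBalancedFor p G := by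
  intro x hx
  have hDdef : Cfsg.centralizerPPrimeCore p x = coreOf p (Subgroup.centralizer ({x} : Set G)) := rfl
  rw [hDdef, hO]
  have hcomp : ∀ L : Subgroup G, IsComponent L →
      ⁅L, coreOf p (Subgroup.centralizer ({x} : Set G))⁆ = ⊥ := by
    intro L hL
    by_cases heq : ⁅L, Subgroup.zpowers x⁆ = L
    · exact hard_case p hO x hx L hL heq (h L hL)
    · exact Cfsg.Agent.S1270.result p hO x hx L hL heq
  have hlayer : layer G ≤
      Subgroup.centralizer ((coreOf p (Subgroup.centralizer ({x} : Set G)) : Subgroup G) : Set G) :=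
    sSup_le (fun L hL => Subgroup.commutator_eq_bot_iff_le_centralizer.1 (hcomp L hL))
  have hfit : fittingSubgroup G ≤
      Subgroup.centralizer ((coreOf p (Subgroup.centralizer ({x} : Set G)) : Subgroup G) : Set G) := by
    rw [Cfsg.Agent.S1327.fitting_eq_pCore p hO]
    exact Subgroup.le_centralizer_iff.1 (core_le_centralizer_pCore p x hx)
  have hFs : generalizedFittingSubgroup G ≤
      Subgroup.centralizer ((coreOf p (Subgroup.centralizer ({x} : Set G)) : Subgroup G) : Set G) :=
    sup_le hlayer hfit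
  have hD1 : coreOf p (Subgroup.centralizer ({x} : Set G)) ≤
      Subgroup.centralizer ((generalizedFittingSubgroup G : Subgroup G) : Set G) :=
    Subgroup.le_centralizer_iff.1 hFs
  have hD2 : coreOf p (Subgroup.centralizer ({x} : Set G)) ≤ generalizedFittingSubgroup G :=
    hD1.trans Cfsg.Agent.S1265.result
  have hFn : (generalizedFittingSubgroup G).Normal :=
    Cfsg.Agent.Lib.Helper12.generalizedFittingSubgroup_normal G
  have hD3 : coreOf p (Subgroup.centralizer ({x} : Set G)) ≤ fittingSubgroup G := fun d hd =>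
    inf_centralizer_le_fitting (Subgroup.Normal.isSubnormal hFn) ⟨hD2 hd, hD1 hd⟩
  rw [Cfsg.Agent.S1327.fitting_eq_pCore p hO] at hD3
  intro d hd
  rw [Subgroup.mem_bot]
  exact eq_one_of_mem_pGroup_of_mem_coprime p (Cfsg.Agent.Lib.Helper1.pCore_isPGroup p)
    (coreOf_card_coprime p _) (hD3 hd) hd

end Cfsg.Agent.S1271
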