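import Cfsg.Statements.S0295
import Cfsg.Agent.Lib.Helper28.OIwaQ
import Cfsg.Agent.S0292

set_option autoImplicit false
open Cfsg

namespace Cfsg.Agent.S0295

open Cfsg.Agent.Lib.Helper16 Cfsg.Agent.Lib.Helper28.OIwaQ

/-- PΩ_{2m+1}(q) is simple for q odd and m at least 3. -/
theorem result {F : Type*} [Field F] [Fintype F] (hodd : Odd (Fintype.card F)) (m : ℕ) (hm : 3 ≤ m) : IsSimpleGroup (Cfsg.POmega F (Cfsg.quadFormOdd m F)) := by
  have h2 : (2 : F) ≠ 0 := Cfsg.Agent.S0292.two_ne_zero_of_odd rfl hodd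
  have hcard : Fintype.card (Unit ⊕ (Fin m ⊕ Fin m)) = 2 * m + 1 := by
    simp only [Fintype.card_sum, Fintype.card_fin, Fintype.card_unit]
    ring
  have := pomega_simple_any h2 (by rw [hcard]; omega) (qfOdd m F) (Cfsg.Agent.S0292.nondeg_odd h2 m)
  exact this

end Cfsg.Agent.S0295
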