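import Cfsg.Statements.S0791
import Cfsg.Agent.S2621
import Cfsg.Agent.Lib.Helper16.SpinH
import Cfsg.Agent.Lib.Helper16.SpinG2
import Cfsg.Agent.Lib.Lead.OrthMinus

set_option autoImplicit false
open Cfsg
open Cfsg.Agent.Lib.Helper16

namespace Cfsg.Agent.S0791

theorem neg_one_mem_iff {ι : Type} [Fintype ι] [DecidableEq ι] {F : Type*} [Field F] [Fintype F]
    (h2 : (2 : F) ≠ 0) (he : Even (Fintype.card ι)) (Q : QuadraticForm F (ι → F))
    (hQ : (QuadraticMap.polarBilin Q).Nondegenerate) :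
    (∃ g : ↥(Cfsg.isometryGroup F ⇑Q), g ∈ Cfsg.Omega F ⇑Q ∧
      ((g : Matrix.GeneralLinearGroup ι F) : Matrix ι ι F) = -1) ↔
    IsSquare (Matrix.of (fun i j : ι => QuadraticMap.polar ⇑Q (Pi.single i 1) (Pi.single j 1))).det := by
  classical
  have : Invertible (2 : F) := invertibleOfNonzero h2
  have hsymm : LinearMap.IsSymm (QuadraticMap.polarBilin Q) :=
    LinearMap.BilinForm.isSymm_iff.mp (polarBilin_isSymm Q)
  obtain ⟨v, hv⟩ := LinearMap.BilinForm.exists_orthogonal_basis hsymm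
  have hfr : Module.finrank F (ι → F) = Fintype.card ι := Module.finrank_fintype_fun_eq_card F
  have hortho : ∀ i j, i ≠ j → QuadraticMap.polar (⇑Q) (v i) (v j) = 0 := by
    intro i j hij
    exact hv hij
  have hself : ∀ i, QuadraticMap.polarBilin Q (v i) (v i) ≠ 0 :=
    fun i => LinearMap.BilinForm.iIsOrtho.not_isOrtho_basis_self_of_nondegenerate hv hQ i
  have hQv : ∀ i, Q (v i) ≠ 0 := by
    intro i h0
    apply hself i
    rw [QuadraticMap.polarBilin_apply_apply, QuadraticMap.polar_self, h0, smul_zero]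
  let vs : List (ι → F) := List.ofFn (fun i => v i)
  have hvs : ∀ u ∈ vs, Q u ≠ 0 := by
    intro u hu
    obtain ⟨i, rfl⟩ := (List.mem_ofFn' _ _).mp hu
    exact hQv i
  have hnodup : vs.Nodup := List.nodup_ofFn.mpr v.injective
  have hmat : (vs.map (fun u => Cfsg.reflectionMatrix ⇑Q u)).prod = -1 :=
    prod_refl_basis h2 Q v hortho hQv vs hnodup (fun u => by
      rw [List.mem_ofFn']
      rfl)
  have hlen : vs.length = Fintype.card ι := by rw [List.length_ofFn, hfr]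
  have hprod : (vs.map (fun u => Q u)).prod = ∏ i, Q (v i) := by
    rw [List.map_ofFn, List.prod_ofFn]
    rfl
  obtain ⟨d, hd0, hd⟩ := gram_det_change_basis (QuadraticMap.polarBilin Q) v
  have hdiag : (Matrix.of (fun i j => QuadraticMap.polarBilin Q (v i) (v j))) =
      Matrix.diagonal (fun i => 2 * Q (v i)) := by
    ext i j
    by_cases hij : i = j
    · subst hij
      rw [Matrix.of_apply, Matrix.diagonal_apply_eq, QuadraticMap.polarBilin_apply_apply,
        QuadraticMap.polar_self, nsmul_eq_mul]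
      push_cast
      rfl
    · rw [Matrix.of_apply, Matrix.diagonal_apply_ne _ hij, QuadraticMap.polarBilin_apply_apply]
      exact hortho i j hij
  rw [hdiag, Matrix.det_diagonal, Finset.prod_mul_distrib, Finset.prod_const, Finset.card_univ,
    Fintype.card_fin] at hd
  have hG : LinearMap.BilinForm.toMatrix' (QuadraticMap.polarBilin Q) =
      Matrix.of (fun i j : ι => QuadraticMap.polar ⇑Q (Pi.single i 1) (Pi.single j 1)) := by
    ext i j
    rw [LinearMap.BilinForm.toMatrix'_apply, Matrix.of_apply, QuadraticMap.polarBilin_apply_apply]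
  rw [hG] at hd
  obtain ⟨k, hk⟩ := he
  have h2pow : (2 : F) ^ Module.finrank F (ι → F) = ((2 : F) ^ k) ^ 2 := by
    rw [hfr, hk, ← two_mul, pow_mul']
  rw [h2pow] at hd
  have hsqiff : IsSquare (∏ i, Q (v i)) ↔
      IsSquare (Matrix.of (fun i j : ι => QuadraticMap.polar ⇑Q (Pi.single i 1) (Pi.single j 1))).det := by
    rw [← isSquare_sq_mul_iff (x := (Matrix.of (fun i j : ι => QuadraticMap.polar ⇑Q (Pi.single i 1) (Pi.single j 1))).det) hd0, ← hd]
    have h2k : (2 : F) ^ k ≠ 0 := pow_ne_zero k h2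
    exact (isSquare_sq_mul_iff h2k).symm
  rw [← hsqiff, ← hprod]
  constructor
  · rintro ⟨g, hgΩ, hg⟩
    exact ((master h2 Q g vs hvs (by rw [hg, hmat])).mp hgΩ).2
  · intro hsq
    refine ⟨(vs.map (reflG' Q)).prod, ?_, ?_⟩
    · apply master_backward h2 Q vs hvs _ hsq
      rw [hlen, hk]
      exact ⟨k, rfl⟩
    · rw [prod_reflG'_coe Q vs hvs, hmat]

theorem two_ne_zero_of_odd {F : Type*} [Field F] [Fintype F] {q : ℕ} (hF : Fintype.card F = q)
    (hq : Odd q) : (2 : F) ≠ 0 := by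
  intro h
  have hchar : ringChar F = 2 := by
    have : CharP F 2 := CharTwo.of_one_ne_zero_of_two_eq_zero one_ne_zero h
    exact ringChar.eq F 2
  have := FiniteField.even_card_of_char_two hchar
  rw [hF] at this
  obtain ⟨t, ht⟩ := hq
  omega

theorem nondeg_minus {F : Type*} [Field F] [Fintype F] (k : ℕ) (a b : F)
    (hab : ∀ z₁ z₂ : F, z₁ ^ 2 + a * z₁ * z₂ + b * z₂ ^ 2 = 0 → z₁ = 0 ∧ z₂ = 0) :
    (QuadraticMap.polarBilin (qfMinus k F a b)).Nondegenerate := by
  have hqp := Cfsg.Agent.Lib.Lead.OG.isQP_minus (k := k) (F := F) (a := a) (b := b) hab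
  have hB : ∀ x y, QuadraticMap.polarBilin (qfMinus k F a b) x y =
      Cfsg.Agent.Lib.Lead.OG.polarM a b k x y := by
    intro x y
    rw [QuadraticMap.polarBilin_apply_apply, QuadraticMap.polar, qfMinus_coe, hqp.add x y]
    ring
  have hsep : (QuadraticMap.polarBilin (qfMinus k F a b)).SeparatingLeft := by
    intro x hx
    by_contra hne
    obtain ⟨y, hy⟩ := hqp.nondeg x hne
    exact hy (by rw [← hB]; exact hx y)
  refine ⟨hsep, ?_⟩
  intro y hy
  apply hsep y
  intro x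
  have := hy x
  rw [hB] at this ⊢
  rw [hqp.symm x y, one_mul]
  exact this

theorem arith (q m : ℕ) (hq : Odd q) : ¬ Even (m * (q - 1) / 2) ↔ q ^ m % 4 = 3 := by
  obtain ⟨t, rfl⟩ := hq
  have h1 : m * (2 * t + 1 - 1) / 2 = m * t := by
    rw [Nat.add_sub_cancel, mul_comm 2 t, ← mul_assoc, Nat.mul_div_cancel _ (by norm_num)]
  rw [h1]
  have hpow := odd_pow_mod_four (2 * t + 1) m ⟨t, rfl⟩
  have hodd : Odd ((2 * t + 1) ^ m) := Odd.pow ⟨t, rfl⟩
  have h13 : (2 * t + 1) ^ m % 4 = 1 ∨ (2 * t + 1) ^ m % 4 = 3 := by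
    obtain ⟨s, hs⟩ := hodd
    omega
  have ht : (2 * t + 1) % 4 = 1 ↔ Even t := by
    constructor
    · intro h
      exact ⟨t / 2, by omega⟩
    · rintro ⟨s, rfl⟩
      omega
  rw [Nat.even_mul]
  constructor
  · intro h
    rcases h13 with h1 | h3
    · exfalso
      apply h
      rcases hpow.mp h1 with hm | hq
      · exact Or.inl hm
      · exact Or.inr (ht.mp hq)
    · exact h3
  · intro h3 h
    have h1 : (2 * t + 1) ^ m % 4 = 1 := by
      apply hpow.mpr
      rcases h with hm | htt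
      · exact Or.inl hm
      · exact Or.inr (ht.mpr htt)
    omega

/-- −1 ∈ Ω⁻_2m(q) iff q^m ≡ 3 (mod 4), for q odd and m ≥ 1. -/
theorem result {F : Type*} [Field F] [Fintype F] {q : ℕ} (hF : Fintype.card F = q) (hodd : Odd q) (m : ℕ) (hm : 1 ≤ m) (a b : F) (hab : ∀ z₁ z₂ : F, z₁ ^ 2 + a * z₁ * z₂ + b * z₂ ^ 2 = 0 → z₁ = 0 ∧ z₂ = 0) : (∃ g : ↥(Cfsg.isometryGroup F (Cfsg.quadFormMinus (m - 1) F a b)), g ∈ Cfsg.Omega F (Cfsg.quadFormMinus (m - 1) F a b) ∧ ((g : Matrix.GeneralLinearGroup ((Fin (m - 1) ⊕ Fin (m - 1)) ⊕ Fin 2) F) : Matrix ((Fin (m - 1) ⊕ Fin (m - 1)) ⊕ Fin 2) ((Fin (m - 1) ⊕ Fin (m - 1)) ⊕ Fin 2) F) = -1) ↔ q ^ m % 4 = 3 := by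
  have h2 := two_ne_zero_of_odd hF hodd
  have hcard : Even (Fintype.card ((Fin (m - 1) ⊕ Fin (m - 1)) ⊕ Fin 2)) := by
    simp only [Fintype.card_sum, Fintype.card_fin]
    exact ⟨m - 1 + 1, by ring⟩
  have key := neg_one_mem_iff h2 hcard (qfMinus (m - 1) F a b) (nondeg_minus (m - 1) a b hab)
  rw [qfMinus_coe] at key
  rw [key]
  have h21 := Cfsg.Agent.S2621.result hF hodd hm a b hab (Pi.basisFun F ((Fin (m - 1) ⊕ Fin (m - 1)) ⊕ Fin 2))
  simp only [Pi.basisFun_apply] at h21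
  rw [h21]
  exact arith q m hodd

end Cfsg.Agent.S0791
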