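import Cfsg.Statements.S2728
import Cfsg.Agent.Lib.Lead.OrthAutMinus
import Cfsg.Agent.S0791
-- import your own Cfsg.Agent.* helpers here

set_option autoImplicit false
set_option maxHeartbeats 4000000
open Cfsg

namespace Cfsg.Agent.S2728

/-- Let T = PΩ⁻_{2m+2}(F) with m ≥ 3 and |F| = q odd (form with anisotropic binary part). The image G̃ of the conformal orthogonal group in Aut(T), taken modulo the inner automorphism group T, is dihedral of order 8 when m is even and q ≡ 3 (mod 4), and elementary abelian of order 4 otherwise. -/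
theorem result {F : Type*} [Field F] [Fintype F] (hodd : Odd (Fintype.card F)) {m : ℕ} (hm : 3 ≤ m) (a b : F) (hab : (∀ z₁ z₂ : F, z₁ ^ 2 + a * z₁ * z₂ + b * z₂ ^ 2 = 0 → z₁ = 0 ∧ z₂ = 0)) :
    ((Even m ∧ Fintype.card F % 4 = 3) → (∃ φ : ↥(Cfsg.pgoAut F (Cfsg.quadFormMinus m F a b)) →* DihedralGroup 4, Function.Surjective φ ∧ φ.ker = (Cfsg.Inn (Cfsg.POmega F (Cfsg.quadFormMinus m F a b))).subgroupOf (Cfsg.pgoAut F (Cfsg.quadFormMinus m F a b)))) ∧ (¬ (Even m ∧ Fintype.card F % 4 = 3) → (∃ φ : ↥(Cfsg.pgoAut F (Cfsg.quadFormMinus m F a b)) →* Multiplicative (ZMod 2 × ZMod 2), Function.Surjective φ ∧ φ.ker = (Cfsg.Inn (Cfsg.POmega F (Cfsg.quadFormMinus m F a b))).subgroupOf (Cfsg.pgoAut F (Cfsg.quadFormMinus m F a b)))) := by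
  have h2 := Cfsg.Agent.Lib.Lead.OAP.two_ne_zero_of_odd hodd
  have hQ := Cfsg.Agent.S0791.nondeg_minus m a b hab
  have hcard := Cfsg.Agent.Lib.Lead.OAM.card_minus (m := m)
  have hn : 4 ≤ Fintype.card ((Fin m ⊕ Fin m) ⊕ Fin 2) := by rw [hcard]; omega
  have hne := Cfsg.Agent.Lib.Lead.OA.exists_ne_zero (Cfsg.Agent.Lib.Helper16.qfMinus m F a b) h2 hQ
    (by omega)
  obtain ⟨δ, hδ0, hδ⟩ := Cfsg.Agent.Lib.Lead.OI.exists_nonsquare (F := F) h2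
  obtain ⟨w₁, w₂, hc⟩ := Cfsg.Agent.Lib.Lead.OAM.exists_norm_binary a b h2 hab δ hδ0
  have hc' : w₁ ^ 2 + a * w₁ * w₂ + b * w₂ ^ 2 = ((Units.mk0 δ hδ0 : Fˣ) : F) := hc
  have hg₁ : ¬ IsSquare ((Cfsg.Agent.Lib.Lead.OA.mult (Cfsg.Agent.Lib.Helper16.qfMinus m F a b)
      ⟨Cfsg.Agent.Lib.Lead.OAM.dMinus a b (Units.mk0 δ hδ0) w₁ w₂ hc',
        Cfsg.Agent.Lib.Lead.OAM.dMinus_mem a b _ w₁ w₂ hc'⟩ : Fˣ) : F) := by
    rw [Cfsg.Agent.Lib.Lead.OAM.mult_dMinus a b hne]; exact hδ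
  have hiff0 := Cfsg.Agent.S0791.result (F := F) rfl hodd (m + 1) (by omega) a b hab
  have hiff : (∃ g : ↥(Cfsg.isometryGroup F (Cfsg.quadFormMinus m F a b)),
      g ∈ Cfsg.Omega F (Cfsg.quadFormMinus m F a b) ∧
      ((g : Matrix.GeneralLinearGroup ((Fin m ⊕ Fin m) ⊕ Fin 2) F) :
        Matrix ((Fin m ⊕ Fin m) ⊕ Fin 2) ((Fin m ⊕ Fin m) ⊕ Fin 2) F) = -1) ↔
      Fintype.card F ^ (m + 1) % 4 = 3 := hiff0
  have hq : Fintype.card F % 2 = 1 := Nat.odd_iff.mp hodd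
  have har := Cfsg.Agent.Lib.Lead.OAP.pow_mod_four_iff3 (Fintype.card F) (m + 1) hq
  have hpar : Odd (m + 1) ↔ Even m := by
    rw [Nat.odd_add_one, Nat.not_odd_iff_even]
  constructor
  · intro hc0
    have hneg := hiff.mpr (har.mpr ⟨hpar.mpr hc0.1, hc0.2⟩)
    have h := Cfsg.Agent.Lib.Lead.OA.dihedral_quot (Cfsg.Agent.Lib.Helper16.qfMinus m F a b) h2 hQ hn
      (m + 1) hcard hne
      ⟨Cfsg.Agent.Lib.Lead.OAM.dMinus a b (Units.mk0 δ hδ0) w₁ w₂ hc',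
        Cfsg.Agent.Lib.Lead.OAM.dMinus_mem a b _ w₁ w₂ hc'⟩ hg₁
      (Cfsg.Agent.Lib.Lead.OAM.eps_dMinus a b hne _ w₁ w₂ hc') hneg
    rw [Cfsg.Agent.Lib.Lead.OA.pgoAut_eq]
    exact h
  · intro hc0
    have hno : ¬ ∃ g : ↥(Cfsg.isometryGroup F (Cfsg.quadFormMinus m F a b)),
        g ∈ Cfsg.Omega F (Cfsg.quadFormMinus m F a b) ∧
        ((g : Matrix.GeneralLinearGroup ((Fin m ⊕ Fin m) ⊕ Fin 2) F) :
          Matrix ((Fin m ⊕ Fin m) ⊕ Fin 2) ((Fin m ⊕ Fin m) ⊕ Fin 2) F) = -1 := by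
      intro hneg
      have := har.mp (hiff.mp hneg)
      exact hc0 ⟨hpar.mp this.1, this.2⟩
    have heq := Cfsg.Agent.Lib.Lead.OA.inn_eq_pso_of_not (Cfsg.Agent.Lib.Helper16.qfMinus m F a b) h2 hQ hn
      (m + 1) hcard hno
    have h := Cfsg.Agent.Lib.Lead.OA.klein_quot (Cfsg.Agent.Lib.Helper16.qfMinus m F a b) h2 hQ hn (m + 1)
      hcard hne
      ⟨Cfsg.Agent.Lib.Lead.OAM.dMinus a b (Units.mk0 δ hδ0) w₁ w₂ hc',
        Cfsg.Agent.Lib.Lead.OAM.dMinus_mem a b _ w₁ w₂ hc'⟩ hg₁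
      (Cfsg.Agent.Lib.Lead.OAM.eps_dMinus a b hne _ w₁ w₂ hc')
    have heq' : Cfsg.Inn (Cfsg.POmega F (Cfsg.quadFormMinus m F a b)) =
        Cfsg.psoAut F (Cfsg.quadFormMinus m F a b) := heq
    rw [heq', Cfsg.Agent.Lib.Lead.OA.pgoAut_eq, Cfsg.Agent.Lib.Lead.OA.psoAut_eq]
    exact h

end Cfsg.Agent.S2728
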