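import Cfsg.Statements.S1262
import Cfsg.Agent.Lib.Helper9.Components

set_option autoImplicit false
open Cfsg

namespace Cfsg.Agent.S1262

open Cfsg.Agent.Lib.Helper9

theorem result {G : Type*} [Group G] [Finite G] (L H : Subgroup G) (hL : Cfsg.IsComponent L) (hsolv : Group.IsSolvable ↥H) (hinv : L ≤ Subgroup.normalizer (H : Set G)) : ⁅L, H⁆ = ⊥ := by
  set M := H ⊔ L with hM
  have hHM : H ≤ M := le_sup_left
  have hLM : L ≤ M := le_sup_right
  have hMn : M ≤ Subgroup.normalizer (H : Set G) := sup_le Subgroup.le_normalizer hinv
  have hHn : (H.subgroupOf M).Normal := (Subgroup.normal_subgroupOf_iff_le_normalizer hHM).2 hMn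
  have h1 := component_le_or_commute (L.subgroupOf M) (H.subgroupOf M)
    (isComponent_subgroupOf hL hLM) hHn.isSubnormal
  rcases h1 with h1 | h1
  · rw [subgroupOf_le_subgroupOf_iff hLM] at h1
    -- L ≤ H solvable and perfect: L = ⊥
    have hLsolv : Group.IsSolvable L := by
      have : Function.Injective (Subgroup.inclusion h1) := Subgroup.inclusion_injective h1
      exact Group.isSolvable_of_isSolvable_injective this
    have hperf : Group.IsPerfect L := hL.2.1
    have hsub : Subsingleton L := by
      by_contra hns
      rw [not_subsingleton_iff_nontrivial] at hns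
      exact Group.IsPerfect.not_isSolvable L hLsolv
    have hLbot : L = ⊥ := Subgroup.eq_bot_of_subsingleton L
    rw [hLbot, Subgroup.commutator_bot_left]
  · exact (commutator_subgroupOf_eq_bot_iff hLM hHM).1 h1

end Cfsg.Agent.S1262
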