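import Mathlib
import Cfsg.Statements.S3963
import Cfsg.Prelude.Def_KGroupFacts
import Cfsg.Agent.Lib.Helper21.SchurCyclic

set_option autoImplicit false
open Cfsg

namespace Cfsg.Agent.S3963
open Cfsg.Agent.Lib.Helper21

lemma quat_gen (n : ℕ) [NeZero n] : Subgroup.closure {(QuaternionGroup.a 1 : QuaternionGroup n), QuaternionGroup.xa 0} = ⊤ := by
  rw [eq_top_iff]
  intro x _
  have h1 : (QuaternionGroup.a 1 : QuaternionGroup n) ∈
      Subgroup.closure {(QuaternionGroup.a 1 : QuaternionGroup n), QuaternionGroup.xa 0} :=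
    Subgroup.subset_closure (by simp)
  have h0 : (QuaternionGroup.xa 0 : QuaternionGroup n) ∈
      Subgroup.closure {(QuaternionGroup.a 1 : QuaternionGroup n), QuaternionGroup.xa 0} :=
    Subgroup.subset_closure (by simp)
  have hr : ∀ i : ZMod (2 * n), (QuaternionGroup.a i : QuaternionGroup n) ∈
      Subgroup.closure {(QuaternionGroup.a 1 : QuaternionGroup n), QuaternionGroup.xa 0} := by
    intro i
    have := Subgroup.pow_mem _ h1 i.val
    rw [QuaternionGroup.a_one_pow, ZMod.natCast_zmod_val] at this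
    exact this
  cases x with
  | a i => exact hr i
  | xa i =>
    have := Subgroup.mul_mem _ h0 (hr i)
    rw [QuaternionGroup.xa_mul_a, zero_add] at this
    exact this

lemma a_pow (n : ℕ) (i : ZMod (2 * n)) (k : ℕ) : (QuaternionGroup.a i : QuaternionGroup n) ^ k = QuaternionGroup.a (i * (k : ZMod (2 * n))) := by
  induction k with
  | zero => simp
  | succ k ih =>
    rw [pow_succ, ih, QuaternionGroup.a_mul_a]
    congr 1
    push_cast; ring

lemma inv_a (n : ℕ) (i : ZMod (2 * n)) : (QuaternionGroup.a i : QuaternionGroup n)⁻¹ = QuaternionGroup.a (-i) := by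
  apply inv_eq_of_mul_eq_one_right
  rw [QuaternionGroup.a_mul_a, add_neg_cancel, QuaternionGroup.a_zero]

lemma inv_xa (n : ℕ) (i : ZMod (2 * n)) : (QuaternionGroup.xa i : QuaternionGroup n)⁻¹ = QuaternionGroup.xa ((n : ZMod (2 * n)) + i) := by
  apply inv_eq_of_mul_eq_one_right
  rw [QuaternionGroup.xa_mul_xa, ← QuaternionGroup.a_zero]
  congr 1
  have : ((2 * n : ℕ) : ZMod (2 * n)) = 0 := ZMod.natCast_self _
  push_cast at this
  linear_combination this

lemma a_zpow (n : ℕ) (i : ZMod (2 * n)) (j : ℤ) : (QuaternionGroup.a i : QuaternionGroup n) ^ j = QuaternionGroup.a (i * (j : ZMod (2 * n))) := by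
  cases j with
  | ofNat k =>
    simp only [Int.ofNat_eq_natCast, zpow_natCast, Int.cast_natCast]
    exact a_pow n i k
  | negSucc k =>
    rw [zpow_negSucc, a_pow, inv_a]
    congr 1
    push_cast; ring

theorem result (n : ℕ) [NeZero n] : Cfsg.HasCyclicSchurMultiplier (QuaternionGroup n) 1 := by
  refine ⟨exists_trivial_stem (QuaternionGroup n), ?_⟩
  intro Γ _ _ σ hσ
  suffices h : ∀ k ∈ σ.ker, k = 1 by
    refine ⟨1, fun x => ⟨1, ?_⟩⟩
    exact Subtype.ext (by simpa using (h x.1 x.2).symm)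
  obtain ⟨hsurj, hc, hd⟩ := hσ
  obtain ⟨a, ha⟩ := hsurj (QuaternionGroup.a 1)
  obtain ⟨b, hb⟩ := hsurj (QuaternionGroup.xa 0)
  have hgenD : Subgroup.closure {σ a, σ b} = ⊤ := by rw [ha, hb]; exact quat_gen n
  have hgen := gen_lift σ a b hgenD
  have h2n : ((2 * n : ℕ) : ZMod (2 * n)) = 0 := ZMod.natCast_self _
  push_cast at h2n
  have hz : b * a * b⁻¹ * a ∈ σ.ker := by
    rw [MonoidHom.mem_ker]
    simp only [map_mul, map_inv, ha, hb, inv_xa, QuaternionGroup.xa_mul_a, QuaternionGroup.xa_mul_xa,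
      QuaternionGroup.a_mul_a]
    rw [← QuaternionGroup.a_zero]
    congr 1
    linear_combination h2n
  have hN : b * a ^ n = a ^ n * b := by
    have hk2 : (b ^ 2)⁻¹ * a ^ n ∈ σ.ker := by
      rw [MonoidHom.mem_ker, map_mul, map_inv, map_pow, map_pow, ha, hb, QuaternionGroup.xa_sq,
        QuaternionGroup.a_one_pow, inv_mul_cancel]
    have hcomm := Subgroup.mem_center_iff.mp (hc hk2) b
    have e : a ^ n = b ^ 2 * ((b ^ 2)⁻¹ * a ^ n) := by group
    rw [e]
    calc b * (b ^ 2 * ((b ^ 2)⁻¹ * a ^ n)) = b ^ 2 * (b * ((b ^ 2)⁻¹ * a ^ n)) := by group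
      _ = b ^ 2 * (((b ^ 2)⁻¹ * a ^ n) * b) := by rw [hcomm]
      _ = b ^ 2 * ((b ^ 2)⁻¹ * a ^ n) * b := by group
  obtain ⟨huN, hK⟩ := stem_core σ.ker hc hd a b hgen hz n hN
  intro k hk
  obtain ⟨j, hj⟩ := Subgroup.mem_zpowers_iff.mp (hK hk)
  have hσu : σ (a * b * a⁻¹ * b⁻¹) = QuaternionGroup.a 2 := by
    simp only [map_mul, map_inv, ha, hb, inv_a, inv_xa, QuaternionGroup.a_mul_xa, QuaternionGroup.xa_mul_a,
      QuaternionGroup.xa_mul_xa]
    congr 1
    linear_combination h2n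
  have h1 : (QuaternionGroup.a (2 : ZMod (2 * n))) ^ j = 1 := by
    rw [← hσu, ← map_zpow, hj]; exact hk
  rw [a_zpow, QuaternionGroup.one_def] at h1
  have h2 : ((2 * j : ℤ) : ZMod (2 * n)) = 0 := by
    have := QuaternionGroup.a.inj h1
    push_cast
    exact this
  rw [ZMod.intCast_zmod_eq_zero_iff_dvd] at h2
  have h3 : (n : ℤ) ∣ j := by
    have : ((2 * n : ℕ) : ℤ) = 2 * (n : ℤ) := by push_cast; ring
    rw [this] at h2
    exact Int.dvd_of_mul_dvd_mul_left (by norm_num) h2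
  obtain ⟨t, ht⟩ := h3
  rw [← hj, ht, zpow_mul, zpow_natCast, huN, one_zpow]

end Cfsg.Agent.S3963
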