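import Cfsg.Statements.S2618
import Cfsg.Agent.Lib.Helper16.Witt

set_option autoImplicit false
open Cfsg

namespace Cfsg.Agent.S2618

open Cfsg.Agent.Lib.Helper16
open Module

universe u v

theorem parab_family {F : Type u} [Field F] [Fintype F] : ∀ (m : ℕ) {V : Type v} [AddCommGroup V] [Module F V]
    [FiniteDimensional F V], finrank F V = 2 * m + 1 → ∀ Q : QuadraticForm F V,
    (QuadraticMap.polarBilin Q).Nondegenerate →
    ∃ (x : V) (e f : Fin m → V), 2 * Q x ≠ 0 ∧
      (∀ i, QuadraticMap.polar ⇑Q x (e i) = 0 ∧ QuadraticMap.polar ⇑Q x (f i) = 0) ∧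
      (∀ i, Q (e i) = 0 ∧ Q (f i) = 0) ∧
      (∀ i j, QuadraticMap.polar ⇑Q (e i) (f j) = if i = j then 1 else 0) ∧
      (∀ i j, QuadraticMap.polar ⇑Q (e i) (e j) = 0 ∧ QuadraticMap.polar ⇑Q (f i) (f j) = 0) := by
  intro m
  induction m with
  | zero =>
    intro V _ _ _ hV Q hQ
    have hnt : Nontrivial V := Module.nontrivial_of_finrank_pos (R := F) (by omega)
    obtain ⟨x, hx⟩ := exists_ne (0 : V)
    refine ⟨x, Fin.elim0, Fin.elim0, ?_, fun i => i.elim0, fun i => i.elim0, fun i => i.elim0, fun i => i.elim0⟩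
    intro hQx
    apply hx
    apply hQ.1 x
    intro y
    obtain ⟨c, rfl⟩ := (finrank_eq_one_iff_of_nonzero' x hx).mp (by omega) y
    rw [QuadraticMap.polarBilin_apply_apply, QuadraticMap.polar_smul_right, polar_self', hQx]
    simp
  | succ m ih =>
    intro V _ _ _ hV Q hQ
    obtain ⟨e₀, f₀, hQe, hQf, hef⟩ := exists_hyp_split Q hQ (by omega)
    have hfr := finrank_perp2 Q hQe hQf hef
    have hnd := perp2_nondeg Q hQ hQe hQf hef
    obtain ⟨x', e', f', hx', hxe', hQef', hef', hee'⟩ := ih (by omega) (Q.comp (perp2 Q e₀ f₀).subtype) hnd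
    have hfe : QuadraticMap.polar ⇑Q f₀ e₀ = 1 := by rw [QuadraticMap.polar_comm, hef]
    have hmem : ∀ w : perp2 Q e₀ f₀, QuadraticMap.polar ⇑Q e₀ (w : V) = 0 ∧ QuadraticMap.polar ⇑Q f₀ (w : V) = 0 :=
      fun w => (mem_perp2 Q e₀ f₀ w).mp w.2
    have hmem' : ∀ w : perp2 Q e₀ f₀, QuadraticMap.polar ⇑Q (w : V) e₀ = 0 ∧ QuadraticMap.polar ⇑Q (w : V) f₀ = 0 := by
      intro w
      rw [QuadraticMap.polar_comm ⇑Q _ e₀, QuadraticMap.polar_comm ⇑Q _ f₀]
      exact hmem w
    refine ⟨(x' : V), Fin.cons e₀ (fun i => (e' i : V)), Fin.cons f₀ (fun i => (f' i : V)), hx', ?_, ?_, ?_, ?_⟩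
    · intro i
      refine Fin.cases ?_ (fun i => ?_) i
      · simp only [Fin.cons_zero]
        exact hmem' x'
      · simp only [Fin.cons_succ]
        rw [← polar_comp_subtype, ← polar_comp_subtype]
        exact hxe' i
    · intro i
      refine Fin.cases ?_ (fun i => ?_) i
      · simp only [Fin.cons_zero]
        exact ⟨hQe, hQf⟩
      · simp only [Fin.cons_succ]
        exact hQef' i
    · intro i j
      refine Fin.cases ?_ (fun i => ?_) i <;> refine Fin.cases ?_ (fun j => ?_) j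
      · simp only [Fin.cons_zero]
        simpa using hef
      · simp only [Fin.cons_zero, Fin.cons_succ]
        rw [(hmem (f' j)).1, if_neg (Fin.succ_ne_zero j).symm]
      · simp only [Fin.cons_zero, Fin.cons_succ]
        rw [(hmem' (e' i)).2, if_neg (Fin.succ_ne_zero i)]
      · simp only [Fin.cons_succ, Fin.succ_inj]
        rw [← polar_comp_subtype]
        exact hef' i j
    · intro i j
      refine Fin.cases ?_ (fun i => ?_) i <;> refine Fin.cases ?_ (fun j => ?_) j
      · simp only [Fin.cons_zero, polar_self', hQe, hQf, mul_zero, and_self]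
      · simp only [Fin.cons_zero, Fin.cons_succ]
        exact ⟨(hmem (e' j)).1, (hmem (f' j)).2⟩
      · simp only [Fin.cons_zero, Fin.cons_succ]
        exact ⟨(hmem' (e' i)).1, (hmem' (f' i)).2⟩
      · simp only [Fin.cons_succ]
        rw [← polar_comp_subtype, ← polar_comp_subtype]
        exact hee' i j

/-- Standard (parabolic) basis of a non-degenerate quadratic space of odd dimension 2m + 1 over a finite field (the non-degeneracy of the polar form forces the characteristic to be odd): there is a basis e_i, f_i (i < m), x with Q(e_i) = Q(f_i) = 0, B(e_i, f_j) = δ_ij (B the polar form), the e's pairwise orthogonal and the f's pairwise orthogonal, x orthogonal to all of them and Q(x) ≠ 0. -/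
theorem result {F V : Type*} [Field F] [Finite F] [AddCommGroup V] [Module F V] [FiniteDimensional F V] {m : ℕ} (hV : Module.finrank F V = 2 * m + 1) (Q : QuadraticForm F V) (hQ : (QuadraticMap.polarBilin Q).Nondegenerate) : ∃ b : Module.Basis (Unit ⊕ (Fin m ⊕ Fin m)) F V, Q (b (Sum.inl ())) ≠ 0 ∧ (∀ i, QuadraticMap.polar ⇑Q (b (Sum.inl ())) (b (Sum.inr (Sum.inl i))) = 0 ∧ QuadraticMap.polar ⇑Q (b (Sum.inl ())) (b (Sum.inr (Sum.inr i))) = 0) ∧ (∀ i, Q (b (Sum.inr (Sum.inl i))) = 0 ∧ Q (b (Sum.inr (Sum.inr i))) = 0) ∧ (∀ i j, QuadraticMap.polar ⇑Q (b (Sum.inr (Sum.inl i))) (b (Sum.inr (Sum.inr j))) = if i = j then 1 else 0) ∧ (∀ i j, QuadraticMap.polar ⇑Q (b (Sum.inr (Sum.inl i))) (b (Sum.inr (Sum.inl j))) = 0 ∧ QuadraticMap.polar ⇑Q (b (Sum.inr (Sum.inr i))) (b (Sum.inr (Sum.inr j))) = 0) := by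
  have := Fintype.ofFinite F
  obtain ⟨x, e, f, hx, hxe, hQef, hef, hee⟩ := parab_family m hV Q hQ
  have hQx : Q x ≠ 0 := fun h => hx (by rw [h, mul_zero])
  set v : Unit ⊕ (Fin m ⊕ Fin m) → V := Sum.elim (fun _ => x) (Sum.elim e f) with hv
  set w : Unit ⊕ (Fin m ⊕ Fin m) → V := Sum.elim (fun _ => x) (Sum.elim f e) with hw
  set d : Unit ⊕ (Fin m ⊕ Fin m) → F := Sum.elim (fun _ => 2 * Q x) (fun _ => 1) with hd
  have hd0 : ∀ j, d j ≠ 0 := by
    rintro (j | j)
    · exact hx
    · exact one_ne_zero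
  have hdual : ∀ i j, QuadraticMap.polarBilin Q (v i) (w j) = if i = j then d j else 0 := by
    intro i j
    rw [QuadraticMap.polarBilin_apply_apply]
    rcases i with i | i | i <;> rcases j with j | j | j
    · simp [hv, hw, hd]
    · simp [hv, hw, (hxe j).2]
    · simp [hv, hw, (hxe j).1]
    · simp [hv, hw, QuadraticMap.polar_comm ⇑Q (e i) x, (hxe i).1]
    · simp only [hv, hw, hd, Sum.elim_inr, Sum.elim_inl, hef i j, Sum.inr.injEq, Sum.inl.injEq]
    · simp [hv, hw, (hee i j).1]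
    · simp [hv, hw, QuadraticMap.polar_comm ⇑Q (f i) x, (hxe i).2]
    · simp [hv, hw, (hee i j).2]
    · simp only [hv, hw, hd, Sum.elim_inr, Sum.inr.injEq]
      rw [QuadraticMap.polar_comm, hef j i]
      simp only [eq_comm]
  have hli := li_of_dual (QuadraticMap.polarBilin Q) v w d hd0 hdual
  have hcard : Fintype.card (Unit ⊕ (Fin m ⊕ Fin m)) = finrank F V := by
    rw [hV]; simp; ring
  refine ⟨basisOfLinearIndependentOfCardEqFinrank hli hcard, ?_⟩
  rw [coe_basisOfLinearIndependentOfCardEqFinrank]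
  refine ⟨hQx, hxe, hQef, hef, hee⟩

end Cfsg.Agent.S2618
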