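import Cfsg.Statements.S0287
import Cfsg.Agent.Lib.Lead.OrthPlus
import Mathlib

set_option autoImplicit false
open Cfsg

namespace Cfsg.Agent.S0287

open Finset Cfsg.Agent.Lib.Lead

theorem sub_one_mul_add_one (a : ℕ) (ha : 1 ≤ a) : (a - 1) * (a + 1) = a * a - 1 := by
  obtain ⟨b, rfl⟩ : ∃ b, a = b + 1 := ⟨a - 1, by omega⟩
  simp only [Nat.add_sub_cancel]
  have : (b + 1) * (b + 1) = b * (b + 1 + 1) + 1 := by ring
  omega

theorem E_eq (q i : ℕ) (hq : 1 ≤ q) :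
    (q ^ (i + 1) + (q ^ (i + 1) - 1) * q ^ (i + 1 - 1) - 1) * q ^ (2 * (i + 1) - 2) =
      (q ^ (i + 1) - 1) * (q ^ i + 1) * q ^ (2 * i) := by
  have h1 : 1 ≤ q ^ (i + 1) := Nat.one_le_pow _ _ hq
  have e1 : i + 1 - 1 = i := by omega
  have e2 : 2 * (i + 1) - 2 = 2 * i := by omega
  rw [e1, e2]
  congr 1
  generalize q ^ (i + 1) = X at *
  generalize q ^ i = Y
  obtain ⟨x, rfl⟩ : ∃ x, X = x + 1 := ⟨X - 1, by omega⟩
  simp only [Nat.add_sub_cancel]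
  have : x + 1 + x * Y - 1 = x + x * Y := by omega
  rw [this]; ring

theorem prod_formula (q : ℕ) (hq : 1 ≤ q) (n : ℕ) :
    ∏ i ∈ Finset.range (n + 1), ((q ^ (i + 1) - 1) * (q ^ i + 1) * q ^ (2 * i)) =
      2 * q ^ ((n + 1) * n) * (q ^ (n + 1) - 1) * ∏ i ∈ Finset.range n, (q ^ (2 * (i + 1)) - 1) := by
  induction n with
  | zero => simp; ring
  | succ n ih =>
    rw [Finset.prod_range_succ, ih, Finset.prod_range_succ]
    have h1 : 1 ≤ q ^ (n + 1) := Nat.one_le_pow _ _ hq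
    have h2 : q ^ (2 * (n + 1)) - 1 = (q ^ (n + 1) - 1) * (q ^ (n + 1) + 1) := by
      rw [sub_one_mul_add_one _ h1, ← pow_add]; congr 2; ring
    have h3 : q ^ ((n + 1 + 1) * (n + 1)) = q ^ ((n + 1) * n) * q ^ (2 * (n + 1)) := by
      rw [← pow_add]; congr 1; ring
    rw [h2, h3]
    ring

/-- |GO^+_{2m}(q)| = 2 q^(m(m-1)) (q^m - 1) prod_{i=1}^{m-1} (q^(2i) - 1), m at least 1, all q. -/
theorem result {F : Type*} [Field F] [Fintype F] {q : ℕ} (hF : Fintype.card F = q) (m : ℕ) (hm : 1 ≤ m) : Nat.card (Cfsg.isometryGroup F (Cfsg.quadFormPlus m F)) = 2 * q ^ (m * (m - 1)) * (q ^ m - 1) * ∏ i ∈ Finset.range (m - 1), (q ^ (2 * (i + 1)) - 1) := by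
  classical
  have hq : 1 ≤ q := by rw [← hF]; exact Fintype.card_pos
  rw [card_GOplus_eq_prod, hF]
  obtain ⟨n, rfl⟩ : ∃ n, m = n + 1 := ⟨m - 1, by omega⟩
  rw [Nat.add_sub_cancel, ← prod_formula q hq n]
  rw [← Finset.prod_range_reflect (fun i => (q ^ (i + 1) - 1) * (q ^ i + 1) * q ^ (2 * i)) (n + 1)]
  refine Finset.prod_congr rfl (fun i hi => ?_)
  rw [Finset.mem_range] at hi
  have e : n + 1 - i = (n + 1 - 1 - i) + 1 := by omega
  rw [e, E_eq q _ hq]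

end Cfsg.Agent.S0287
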