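import Cfsg.Statements.S0288
import Cfsg.Agent.Lib.Lead.OrthMinus
import Mathlib

set_option autoImplicit false
open Cfsg

namespace Cfsg.Agent.S0288

open Finset Cfsg.Agent.Lib.Lead Cfsg.Agent.Lib.Lead.OG

theorem prod_formula (q : ℕ) (hq : 1 ≤ q) (k : ℕ) :
    (∏ i ∈ Finset.range k,
        ((q ^ (i + 1 + 1) + 1) * (q ^ (i + 1) - 1) * q ^ (2 * (i + 1)))) * (q + 1) =
      q ^ ((k + 1) * k) * (q ^ (k + 1) + 1) * ∏ i ∈ Finset.range k, (q ^ (2 * (i + 1)) - 1) := by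
  induction k with
  | zero => simp
  | succ n ih =>
    rw [Finset.prod_range_succ, Finset.prod_range_succ]
    have h3 : q ^ ((n + 1 + 1) * (n + 1)) = q ^ ((n + 1) * n) * q ^ (2 * (n + 1)) := by
      rw [← pow_add]; congr 1; ring
    have hA : 1 ≤ q ^ (n + 1) := Nat.one_le_pow _ _ hq
    obtain ⟨A', hA'⟩ : ∃ A', q ^ (n + 1) = A' + 1 := ⟨q ^ (n + 1) - 1, by omega⟩
    have h4 : q ^ (2 * (n + 1)) - 1 = (q ^ (n + 1) - 1) * (q ^ (n + 1) + 1) := by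
      rw [two_mul, pow_add, hA', Nat.add_sub_cancel]
      have : (A' + 1) * (A' + 1) = A' * (A' + 1 + 1) + 1 := by ring
      rw [this, Nat.add_sub_cancel]
    rw [h3, h4]
    calc (∏ x ∈ Finset.range n, ((q ^ (x + 1 + 1) + 1) * (q ^ (x + 1) - 1) * q ^ (2 * (x + 1)))) *
          ((q ^ (n + 1 + 1) + 1) * (q ^ (n + 1) - 1) * q ^ (2 * (n + 1))) * (q + 1)
        = ((∏ x ∈ Finset.range n, ((q ^ (x + 1 + 1) + 1) * (q ^ (x + 1) - 1) * q ^ (2 * (x + 1)))) *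
          (q + 1)) * ((q ^ (n + 1 + 1) + 1) * (q ^ (n + 1) - 1) * q ^ (2 * (n + 1))) := by ring
      _ = _ := by rw [ih]; ring

/-- |GO^-_{2m}(q)| = 2 q^(m(m-1)) (q^m + 1) prod_{i=1}^{m-1} (q^(2i) - 1), m at least 1, all q; the form is quadFormMinus (m-1) with an anisotropic binary part. -/
theorem result {F : Type*} [Field F] [Fintype F] {q : ℕ} (hF : Fintype.card F = q) (m : ℕ) (hm : 1 ≤ m) (a b : F) (hab : ∀ z₁ z₂ : F, z₁ ^ 2 + a * z₁ * z₂ + b * z₂ ^ 2 = 0 → z₁ = 0 ∧ z₂ = 0) : Nat.card (Cfsg.isometryGroup F (Cfsg.quadFormMinus (m - 1) F a b)) = 2 * q ^ (m * (m - 1)) * (q ^ m + 1) * ∏ i ∈ Finset.range (m - 1), (q ^ (2 * (i + 1)) - 1) := by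
  classical
  have hq : 1 ≤ q := by rw [← hF]; exact Fintype.card_pos
  obtain ⟨k, rfl⟩ : ∃ k, m = k + 1 := ⟨m - 1, by omega⟩
  rw [Nat.add_sub_cancel]
  have hab' : Bin.Aniso a b := hab
  rw [card_GOminus_eq_prod hab', hF]
  have e : ∀ i ∈ Finset.range k,
      (q ^ (k - i + 1) + 1) * (q ^ (k - i) - 1) * q ^ (2 * (k - i)) =
        (q ^ (k - 1 - i + 1 + 1) + 1) * (q ^ (k - 1 - i + 1) - 1) * q ^ (2 * (k - 1 - i + 1)) := by
    intro i hi
    rw [Finset.mem_range] at hi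
    have e : k - i = (k - 1 - i) + 1 := by omega
    rw [e]
  rw [Finset.prod_congr rfl e, Finset.prod_range_reflect
    (fun i => (q ^ (i + 1 + 1) + 1) * (q ^ (i + 1) - 1) * q ^ (2 * (i + 1))) k]
  have := prod_formula q hq k
  calc (∏ j ∈ Finset.range k, ((q ^ (j + 1 + 1) + 1) * (q ^ (j + 1) - 1) * q ^ (2 * (j + 1)))) *
        ((q + 1) * 2)
      = 2 * ((∏ j ∈ Finset.range k, ((q ^ (j + 1 + 1) + 1) * (q ^ (j + 1) - 1) * q ^ (2 * (j + 1)))) *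
        (q + 1)) := by ring
    _ = _ := by rw [this]; ring

end Cfsg.Agent.S0288
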