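import Mathlib
import Cfsg.Statements.S0900
import Cfsg.Agent.Lib.helper7.Clifford

set_option autoImplicit false
open Cfsg

namespace Cfsg.Agent.S0900

open Cfsg.Agent.Lib.helper7 Cfsg.Agent.Lib.Helper11
open scoped ComplexConjugate

variable {G : Type*} [Group G] [Fintype G]

theorem sum_normSq_irr (χ : G → ℂ) (hχ : Cfsg.IsIrrCharacter G χ) :
    ∑ g : G, Complex.normSq (χ g) = (Nat.card G : ℝ) := by
  have h := h7_irr_norm hχ
  unfold Cfsg.classInner at h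
  have hG : (Nat.card G : ℂ) ≠ 0 := by exact_mod_cast Nat.card_pos.ne'
  have h2 : ∑ g : G, χ g * conj (χ g) = (Nat.card G : ℂ) := by
    field_simp at h
    exact h
  have h3 : ((∑ g : G, Complex.normSq (χ g) : ℝ) : ℂ) = ((Nat.card G : ℝ) : ℂ) := by
    push_cast
    rw [← h2]
    apply Finset.sum_congr rfl
    intro g _
    rw [Complex.mul_conj]
  exact_mod_cast h3

theorem sum_normSq_sub (N : Subgroup G) [Fintype N] (f : N → ℂ) :
    ∑ n : N, Complex.normSq (f n) = (Nat.card N : ℝ) * (Cfsg.classInner f f).re := by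
  unfold Cfsg.classInner
  have hN : (Nat.card N : ℝ) ≠ 0 := by exact_mod_cast Nat.card_pos.ne'
  have h1 : ∑ n : N, f n * conj (f n) = ((∑ n : N, Complex.normSq (f n) : ℝ) : ℂ) := by
    push_cast
    apply Finset.sum_congr rfl
    intro g _
    rw [Complex.mul_conj]
  rw [h1]
  have h2 : ((Nat.card N : ℂ)⁻¹ * ((∑ n : N, Complex.normSq (f n) : ℝ) : ℂ)) =
      (((Nat.card N : ℝ)⁻¹ * ∑ n : N, Complex.normSq (f n) : ℝ) : ℂ) := by
    push_cast
    rfl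
  rw [h2, Complex.ofReal_re]
  field_simp

theorem norm_smul_irr (N : Subgroup G) [Fintype N] (ϑ : N → ℂ) (hϑ : Cfsg.IsIrrCharacter N ϑ)
    (e : ℕ) : Cfsg.classInner ((e : ℂ) • ϑ) ((e : ℂ) • ϑ) = ((e ^ 2 : ℕ) : ℂ) := by
  rw [Cfsg.Agent.Lib.Helper25.classInner_smul_left, h7_classInner_smul_right, h7_irr_norm hϑ,
    Complex.conj_natCast]
  push_cast
  ring

theorem sum_normSq_restrict (N : Subgroup G) [Fintype N] [DecidablePred (· ∈ N)] (χ : G → ℂ) :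
    ∑ n : N, Complex.normSq (χ n) =
      ∑ g : G, (if g ∈ N then Complex.normSq (χ g) else 0) := by
  rw [h7_sum_subgroup N (fun g => Complex.normSq (χ g))]

theorem inv_iff (N : Subgroup G) [hN : N.Normal] (ϑ : N → ℂ) :
    (∀ (g : G) (n : N), ϑ ⟨g * n * g⁻¹, hN.conj_mem (n : G) n.2 g⟩ = ϑ n) ↔
      ∀ g : G, cj N ϑ g = ϑ := by
  constructor
  · intro h g
    funext n
    exact h g n
  · intro h g n
    exact congrFun (h g) n

theorem index_mul_card_real (N : Subgroup G) :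
    (N.index : ℝ) * (Nat.card N : ℝ) = (Nat.card G : ℝ) := by
  rw [← Subgroup.index_mul_card N]
  push_cast
  ring

theorem a_imp_inv (N : Subgroup G) [hN : N.Normal] [Fintype N] (χ : G → ℂ)
    (hχ : Cfsg.IsIrrCharacter G χ) (ϑ : N → ℂ) (e : ℕ)
    (h1 : (fun n : N => χ n) = (e : ℂ) • ϑ) (h2 : e ^ 2 = N.index) :
    ∀ (g : G) (n : N), ϑ ⟨g * n * g⁻¹, hN.conj_mem (n : G) n.2 g⟩ = ϑ n := by
  intro g n
  have he : (e : ℂ) ≠ 0 := by
    have : e ≠ 0 := by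
      intro h0
      rw [h0] at h2
      have : N.index ≠ 0 := Subgroup.index_ne_zero_of_finite
      apply this
      rw [← h2]
      rfl
    exact_mod_cast this
  have e1 := congrFun h1 ⟨g * n * g⁻¹, hN.conj_mem (n : G) n.2 g⟩
  have e2 := congrFun h1 n
  simp only [Pi.smul_apply, smul_eq_mul] at e1 e2
  have e3 : χ (g * n * g⁻¹) = χ n := h7_irr_isClassFunction hχ n g
  rw [e3, e2] at e1
  exact (mul_left_cancel₀ he e1).symm

theorem a_imp_vanish (N : Subgroup G) [hN : N.Normal] [Fintype N] (χ : G → ℂ)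
    (hχ : Cfsg.IsIrrCharacter G χ) (ϑ : N → ℂ) (hϑ : Cfsg.IsIrrCharacter N ϑ) (e : ℕ)
    (h1 : (fun n : N => χ n) = (e : ℂ) • ϑ) (h2 : e ^ 2 = N.index) :
    ∀ g : G, g ∉ N → χ g = 0 := by
  classical
  have hA : ∑ n : N, Complex.normSq (χ n) = (Nat.card N : ℝ) *
      (Cfsg.classInner (fun n : N => χ n) (fun n : N => χ n)).re :=
    sum_normSq_sub N (fun n : N => χ n)
  rw [h1, norm_smul_irr N ϑ hϑ e, h2] at hA
  have hre : ((N.index : ℕ) : ℂ).re = (N.index : ℝ) := by simp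
  rw [hre, mul_comm, index_mul_card_real N] at hA
  have hB := sum_normSq_irr χ hχ
  rw [sum_normSq_restrict N χ] at hA
  have hD : ∑ g : G, (Complex.normSq (χ g) - (if g ∈ N then Complex.normSq (χ g) else 0)) = 0 := by
    rw [Finset.sum_sub_distrib, hA, hB, sub_self]
  have hnn : ∀ g ∈ (Finset.univ : Finset G),
      0 ≤ Complex.normSq (χ g) - (if g ∈ N then Complex.normSq (χ g) else 0) := by
    intro g _
    split_ifs
    · simp
    · simp [Complex.normSq_nonneg]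
  intro g hg
  have := (Finset.sum_eq_zero_iff_of_nonneg hnn).mp hD g (Finset.mem_univ g)
  rw [if_neg hg, sub_zero] at this
  exact Complex.normSq_eq_zero.mp this

theorem b_imp_a (N : Subgroup G) [hN : N.Normal] [Fintype N] (χ : G → ℂ)
    (hχ : Cfsg.IsIrrCharacter G χ) (ϑ : N → ℂ) (hϑ : Cfsg.IsIrrCharacter N ϑ)
    (hcon : Cfsg.classInner (fun n : N => χ n) ϑ ≠ 0)
    (hvan : ∀ g : G, g ∉ N → χ g = 0)
    (hinv : ∀ (g : G) (n : N), ϑ ⟨g * n * g⁻¹, hN.conj_mem (n : G) n.2 g⟩ = ϑ n) :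
    ∃ e : ℕ, (fun n : N => χ n) = (e : ℂ) • ϑ ∧ e ^ 2 = N.index := by
  classical
  obtain ⟨e, he, -, hres⟩ := h7_clifford_invariant N χ hχ ϑ hϑ hcon ((inv_iff N ϑ).mp hinv)
  refine ⟨e, hres, ?_⟩
  have hA : ∑ n : N, Complex.normSq (χ n) = (Nat.card N : ℝ) *
      (Cfsg.classInner (fun n : N => χ n) (fun n : N => χ n)).re :=
    sum_normSq_sub N (fun n : N => χ n)
  rw [sum_normSq_restrict N χ] at hA
  have hB := sum_normSq_irr χ hχ
  have hC : ∑ g : G, (if g ∈ N then Complex.normSq (χ g) else 0) = ∑ g : G, Complex.normSq (χ g) := by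
    apply Finset.sum_congr rfl
    intro g _
    split_ifs with hg
    · rfl
    · rw [hvan g hg]; simp
  rw [hC, hB, hres, norm_smul_irr N ϑ hϑ e, ← index_mul_card_real N] at hA
  have hre : ((e ^ 2 : ℕ) : ℂ).re = ((e ^ 2 : ℕ) : ℝ) := Complex.natCast_re (e ^ 2)
  rw [hre] at hA
  have hN0 : (Nat.card N : ℝ) ≠ 0 := by exact_mod_cast Nat.card_pos.ne'
  have : ((N.index : ℕ) : ℝ) = ((e ^ 2 : ℕ) : ℝ) := by
    have h5 : (N.index : ℝ) * (Nat.card N : ℝ) = ((e ^ 2 : ℕ) : ℝ) * (Nat.card N : ℝ) := by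
      rw [hA]; ring
    exact mul_right_cancel₀ hN0 h5
  exact_mod_cast this.symm

theorem ind_inner_chi (N : Subgroup G) [hN : N.Normal] [Fintype N] (χ : G → ℂ)
    (hχ : Cfsg.IsIrrCharacter G χ) (ϑ : N → ℂ) (hϑ : Cfsg.IsIrrCharacter N ϑ) (e : ℕ)
    (h1 : (fun n : N => χ n) = (e : ℂ) • ϑ) :
    Cfsg.classInner (Cfsg.indFun N ϑ) χ = (e : ℂ) := by
  rw [h7_frobenius_irr N χ (h7_irr_isClassFunction hχ) ϑ, h1,
    Cfsg.Agent.Lib.Helper25.classInner_smul_left, h7_irr_norm hϑ, mul_one, Complex.conj_natCast]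

theorem a_imp_uniq (N : Subgroup G) [hN : N.Normal] [Fintype N] (χ : G → ℂ)
    (hχ : Cfsg.IsIrrCharacter G χ) (ϑ : N → ℂ) (hϑ : Cfsg.IsIrrCharacter N ϑ) (e : ℕ)
    (h1 : (fun n : N => χ n) = (e : ℂ) • ϑ) (h2 : e ^ 2 = N.index) :
    ∀ ψ : G → ℂ, Cfsg.IsIrrCharacter G ψ → Cfsg.classInner (Cfsg.indFun N ϑ) ψ ≠ 0 → ψ = χ := by
  classical
  have hind := Cfsg.Agent.Lib.helper2.isCharacter_indFun N ϑ (h7_irr_isCharacter hϑ)
  have hie := ind_inner_chi N χ hχ ϑ hϑ e h1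
  have hΔ : Cfsg.IsCharacter G (Cfsg.indFun N ϑ - (e : ℂ) • χ) := by
    apply Cfsg.Agent.Lib.helper2.isCharacter_of_classInner_nat
    · intro g h
      simp only [Pi.sub_apply, Pi.smul_apply, smul_eq_mul]
      rw [h7_indFun_conj, h7_irr_isClassFunction hχ g h]
    · intro μ
      rw [Cfsg.Agent.Lib.Helper25.classInner_sub_left, Cfsg.Agent.Lib.Helper25.classInner_smul_left]
      by_cases hμ : (μ : G → ℂ) = χ
      · refine ⟨0, ?_⟩
        rw [hμ, hie, h7_irr_norm hχ]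
        simp
      · rw [h7_irr_inner_ne hχ μ.2 (fun h => hμ h.symm), mul_zero, sub_zero]
        exact Cfsg.Agent.Lib.helper2.classInner_character_nat hind
          (Cfsg.Agent.Lib.helper2.isCharacter_of_irr μ)
  have hΔ1 : (Cfsg.indFun N ϑ - (e : ℂ) • χ) 1 = 0 := by
    simp only [Pi.sub_apply, Pi.smul_apply, smul_eq_mul]
    rw [h7_indFun_one, ← h2]
    have := congrFun h1 1
    simp only [Pi.smul_apply, smul_eq_mul] at this
    have h3 : χ 1 = (e : ℂ) * ϑ 1 := this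
    rw [h3]
    push_cast
    ring
  have hzero := h7_isCharacter_eq_zero hΔ hΔ1
  have hindeq : Cfsg.indFun N ϑ = (e : ℂ) • χ := sub_eq_zero.mp hzero
  intro ψ hψ hne
  by_contra hψχ
  apply hne
  rw [hindeq, Cfsg.Agent.Lib.Helper25.classInner_smul_left, h7_irr_inner_ne hχ hψ (fun h => hψχ h.symm),
    mul_zero]

theorem c_imp_a (N : Subgroup G) [hN : N.Normal] [Fintype N] (χ : G → ℂ)
    (hχ : Cfsg.IsIrrCharacter G χ) (ϑ : N → ℂ) (hϑ : Cfsg.IsIrrCharacter N ϑ)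
    (hcon : Cfsg.classInner (fun n : N => χ n) ϑ ≠ 0)
    (hinv : ∀ (g : G) (n : N), ϑ ⟨g * n * g⁻¹, hN.conj_mem (n : G) n.2 g⟩ = ϑ n)
    (huniq : ∀ ψ : G → ℂ, Cfsg.IsIrrCharacter G ψ → Cfsg.classInner (Cfsg.indFun N ϑ) ψ ≠ 0 → ψ = χ) :
    ∃ e : ℕ, (fun n : N => χ n) = (e : ℂ) • ϑ ∧ e ^ 2 = N.index := by
  classical
  have : Fintype (Cfsg.IrrCharacter G) := Fintype.ofFinite _
  obtain ⟨e, he, -, hres⟩ := h7_clifford_invariant N χ hχ ϑ hϑ hcon ((inv_iff N ϑ).mp hinv)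
  refine ⟨e, hres, ?_⟩
  have hind := Cfsg.Agent.Lib.helper2.isCharacter_indFun N ϑ (h7_irr_isCharacter hϑ)
  have hie := ind_inner_chi N χ hχ ϑ hϑ e hres
  obtain ⟨m, hm, hexp⟩ := Cfsg.Agent.Lib.helper2.isCharacter_expansion hind
  have hsingle : Cfsg.indFun N ϑ = (e : ℂ) • χ := by
    rw [hexp, Finset.sum_eq_single (⟨χ, hχ⟩ : Cfsg.IrrCharacter G)]
    · have := hm ⟨χ, hχ⟩
      rw [hie] at this
      rw [← this]
    · intro μ _ hμ
      have hmμ : m μ = 0 := by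
        by_contra h0
        apply hμ
        apply Subtype.ext
        apply huniq μ.1 μ.2
        rw [hm μ]
        exact_mod_cast h0
      rw [hmμ]; simp
    · intro hh
      exact absurd (Finset.mem_univ _) hh
  have h1 := congrFun hsingle 1
  simp only [Pi.smul_apply, smul_eq_mul] at h1
  rw [h7_indFun_one] at h1
  have h3 : χ 1 = (e : ℂ) * ϑ 1 := by
    have := congrFun hres 1
    simpa using this
  rw [h3] at h1
  have hϑ1 : ϑ 1 ≠ 0 := Cfsg.Agent.Lib.Helper25.irr_one_ne_zero ⟨ϑ, hϑ⟩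
  have h4 : ((N.index : ℕ) : ℂ) = ((e ^ 2 : ℕ) : ℂ) := by
    have : (N.index : ℂ) * ϑ 1 = ((e ^ 2 : ℕ) : ℂ) * ϑ 1 := by
      rw [h1]; push_cast; ring
    exact mul_right_cancel₀ hϑ1 this
  exact_mod_cast h4.symm

theorem result {G : Type*} [Group G] [Fintype G] (N : Subgroup G) [hN : N.Normal] [Fintype N] (χ : G → ℂ) (hχ : Cfsg.IsIrrCharacter G χ) (ϑ : N → ℂ) (hϑ : Cfsg.IsIrrCharacter N ϑ) (hcon : Cfsg.classInner (fun n : N => χ n) ϑ ≠ 0) : ((∃ e : ℕ, (fun n : N => χ n) = (e : ℂ) • ϑ ∧ e ^ 2 = N.index) ↔ ((∀ g : G, g ∉ N → χ g = 0) ∧ ∀ (g : G) (n : N), ϑ ⟨g * n * g⁻¹, hN.conj_mem (n : G) n.2 g⟩ = ϑ n)) ∧ ((∃ e : ℕ, (fun n : N => χ n) = (e : ℂ) • ϑ ∧ e ^ 2 = N.index) ↔ (∀ (g : G) (n : N), ϑ ⟨g * n * g⁻¹, hN.conj_mem (n : G) n.2 g⟩ = ϑ n ∧ ∀ ψ : G → ℂ, Cfsg.IsIrrCharacter G ψ → Cfsg.classInner (Cfsg.indFun N ϑ) ψ ≠ 0 → ψ = χ)) := by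
  constructor
  · constructor
    · rintro ⟨e, h1, h2⟩
      exact ⟨a_imp_vanish N χ hχ ϑ hϑ e h1 h2, a_imp_inv N χ hχ ϑ e h1 h2⟩
    · rintro ⟨hvan, hinv⟩
      exact b_imp_a N χ hχ ϑ hϑ hcon hvan hinv
  · constructor
    · rintro ⟨e, h1, h2⟩ g n
      exact ⟨a_imp_inv N χ hχ ϑ e h1 h2 g n, a_imp_uniq N χ hχ ϑ hϑ e h1 h2⟩
    · intro h
      have hinv : ∀ (g : G) (n : N), ϑ ⟨g * n * g⁻¹, hN.conj_mem (n : G) n.2 g⟩ = ϑ n :=
        fun g n => (h g n).1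
      exact c_imp_a N χ hχ ϑ hϑ hcon hinv (h 1 1).2

end Cfsg.Agent.S0900
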