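import Cfsg.Statements.S0887
import Mathlib
import Cfsg.Agent.Lib.helper7.Ramification
import Cfsg.Agent.Lib.helper7.CliffordSub
import Cfsg.Agent.Lib.helper7.Induction
import Cfsg.Agent.S0854
import Cfsg.Agent.S0900

set_option autoImplicit false
open Cfsg

namespace Cfsg.Agent.S0887

open Cfsg.Agent.Lib.helper7 Cfsg.Agent.Lib.Helper11

theorem invariant_case {G : Type*} [Group G] [Fintype G] (N : Subgroup G) [hN : N.Normal]
    [Fintype N] (χ : G → ℂ) (hχ : Cfsg.IsIrrCharacter G χ) (ϑ : N → ℂ)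
    (hϑ : Cfsg.IsIrrCharacter N ϑ)
    (hcon : Cfsg.classInner (fun n : N => χ n) ϑ ≠ 0)
    (hinv : ∀ g : G, cj N ϑ g = ϑ) :
    ∃ e : ℕ, χ 1 = (e : ℂ) * ϑ 1 ∧ e ∣ N.index := by
  classical
  obtain ⟨e, he, h1, h2⟩ := h7_clifford_invariant N χ hχ ϑ hϑ hcon hinv
  obtain ⟨c, X, hX, rfl⟩ := hχ
  obtain ⟨d, ρ, hρ, rfl⟩ := hϑ
  haveI := hX
  haveI := hρ
  have h5 : X.character 1 = (e : ℂ) * ρ.character 1 := by
    have := congrFun h2 1
    simpa using this
  refine ⟨e, h5, ?_⟩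
  let τ : Representation ℂ N (Fin c → ℂ) := X.comp N.subtype
  have h3 := Cfsg.Agent.Lib.helper2.classInner_rep_eq_finrank ρ τ
  have h4 : Module.finrank ℂ (h7_homN N ρ X) = e := by
    rw [(h7_homN_equiv N ρ X).finrank_eq]
    have hτ : τ.character = fun n : N => X.character n := rfl
    rw [hτ, h1] at h3
    exact_mod_cast h3.symm
  have hdim : Module.finrank ℂ (Fin c → ℂ) =
      Module.finrank ℂ (h7_homN N ρ X) * Module.finrank ℂ (Fin d → ℂ) := by
    rw [h4]
    rw [Representation.char_one, Representation.char_one] at h5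
    exact_mod_cast h5
  have hinv' : ∀ (g : G) (n : N), ρ.character (MulAut.conjNormal g n) = ρ.character n := by
    intro g n
    exact congrFun (hinv g) n
  have h6 := h7_ramification_dvd N ρ X hinv' hdim
  rwa [h4] at h6

theorem invariant_case_le {G : Type*} [Group G] (H T : Subgroup G) [hN : H.Normal] [Fintype H]
    [Fintype T] (hHT : H ≤ T) (ψ : T → ℂ) (hψ : Cfsg.IsIrrCharacter T ψ) (ϑ : H → ℂ)
    (hϑ : Cfsg.IsIrrCharacter H ϑ)
    (hcon : Cfsg.classInner (fun n : H => ψ ⟨(n : G), hHT n.2⟩) ϑ ≠ 0)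
    (hinv : ∀ t ∈ T, ∀ n : H, ϑ ⟨t * n * t⁻¹, hN.conj_mem (n : G) n.2 t⟩ = ϑ n) :
    ∃ e : ℕ, ψ 1 = (e : ℂ) * ϑ 1 ∧ e ∣ H.relIndex T := by
  classical
  have : Fintype (H.subgroupOf T) := Fintype.ofFinite _
  let e : H.subgroupOf T ≃* H := Subgroup.subgroupOfEquivOfLe hHT
  have hψe : (fun k : H.subgroupOf T => ψ (k : T)) =
      fun k => (fun n : H => ψ ⟨(n : G), hHT n.2⟩) (e k) := by
    funext k
    rfl
  have hce := h7_classInner_comp_equiv e (fun n : H => ψ ⟨(n : G), hHT n.2⟩) ϑ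
  have hcon' : Cfsg.classInner (fun k : H.subgroupOf T => ψ (k : T)) (fun k => ϑ (e k)) ≠ 0 := by
    rw [hψe, hce]
    exact hcon
  have hinv' : ∀ t : T, cj (H.subgroupOf T) (fun k => ϑ (e k)) t = fun k => ϑ (e k) := by
    intro t
    funext k
    rw [cj_apply]
    have := hinv (t : G) t.2 (e k)
    rw [← this]
    congr 1
  obtain ⟨f, h1, h2⟩ := invariant_case (H.subgroupOf T) ψ hψ (fun k => ϑ (e k))
    (h7_isIrr_comp_equiv e ϑ hϑ) hcon' hinv'
  refine ⟨f, ?_, h2⟩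
  rw [h1]
  congr 2

end Cfsg.Agent.S0887

namespace Cfsg.Agent.S0887

open Cfsg.Agent.Lib.helper7 Cfsg.Agent.Lib.Helper11

def inertia {G : Type*} [Group G] (N : Subgroup G) [hN : N.Normal] (ϑ : N → ℂ) : Subgroup G where
  carrier := {g | ∀ n : N, ϑ ⟨g * n * g⁻¹, hN.conj_mem (n : G) n.2 g⟩ = ϑ n}
  mul_mem' := by
    intro g h hg hh n
    have h1 := hg ⟨h * n * h⁻¹, hN.conj_mem (n : G) n.2 h⟩
    rw [← hh n, ← h1]
    congr 1
    apply Subtype.ext
    simp only
    group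
  one_mem' := by
    intro n
    congr 1
    apply Subtype.ext
    simp
  inv_mem' := by
    intro g hg n
    have h1 := hg ⟨g⁻¹ * n * g⁻¹⁻¹, hN.conj_mem (n : G) n.2 g⁻¹⟩
    rw [← h1]
    congr 1
    apply Subtype.ext
    simp only
    group

/-- Let N be a normal subgroup of the finite group G, χ an irreducible character of G and ϑ an irreducible character of N having nonzero inner product with the restriction of χ. If χ 1 = c and ϑ 1 = d as natural numbers, then d divides c and c / d divides the index of N. -/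
theorem result {G : Type*} [Group G] [Fintype G] (N : Subgroup G) [N.Normal] [Fintype N] (χ : G → ℂ) (hχ : Cfsg.IsIrrCharacter G χ) (ϑ : N → ℂ) (hϑ : Cfsg.IsIrrCharacter N ϑ) (hcon : Cfsg.classInner (fun n : N => χ n) ϑ ≠ 0) (c d : ℕ) (hc : χ 1 = c) (hd : ϑ 1 = d) : d ∣ c ∧ c / d ∣ N.index := by
  classical
  have hN : N.Normal := inferInstance
  let T : Subgroup G := inertia N ϑ
  have hT : ∀ g : G, g ∈ T ↔ ∀ n : N, ϑ ⟨g * n * g⁻¹, hN.conj_mem (n : G) n.2 g⟩ = ϑ n :=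
    fun g => Iff.rfl
  have hNT : N ≤ T := by
    intro m hm n
    have hcf := h7_irr_isClassFunction hϑ
    have := hcf n ⟨m, hm⟩
    rw [← this]
    congr 1
  haveI : Fintype T := Fintype.ofFinite T
  obtain ⟨ψ, hψ, hind, hinner⟩ := Cfsg.Agent.S0854.result N ϑ hϑ T hT hNT χ hχ hcon
  have hcon' : Cfsg.classInner (fun n : N => ψ ⟨(n : G), hNT n.2⟩) ϑ ≠ 0 := by
    rw [hinner]
    exact hcon
  obtain ⟨e, he1, he2⟩ := invariant_case_le N T hNT ψ hψ ϑ hϑ hcon'
    (fun t ht n => (hT t).mp ht n)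
  have h1 : (c : ℂ) = ((T.index * e * d : ℕ) : ℂ) := by
    rw [← hc, ← hind, h7_indFun_one, he1, hd]
    push_cast
    ring
  have h2 : c = T.index * e * d := by exact_mod_cast h1
  have hd0 : 0 < d := by
    rcases Nat.eq_zero_or_pos d with h | h
    · exfalso
      obtain ⟨k, ρ, hρ, hρc⟩ := hϑ
      haveI := hρ
      have h3 := Cfsg.Agent.Lib.Helper25.finrank_ne_zero_of_irr ρ
      rw [← hρc, Representation.char_one, h] at hd
      apply h3
      exact_mod_cast hd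
    · exact h
  refine ⟨⟨T.index * e, by rw [h2, mul_comm]⟩, ?_⟩
  rw [h2, Nat.mul_div_cancel _ hd0, ← Subgroup.relIndex_mul_index hNT, mul_comm]
  exact Nat.mul_dvd_mul_right he2 _

end Cfsg.Agent.S0887
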