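import Mathlib
import Cfsg.Statements.S1512
import Cfsg.Agent.S1496

set_option autoImplicit false
open Cfsg

namespace Cfsg.Agent.S1512

open Cfsg.Agent.Lib.Helper11

theorem fixed_rep {L : Type*} [Group L] [Finite L] (K : Subgroup L) [hK : K.Normal] (x : L)
    (hx : Nat.Coprime (orderOf x) (Nat.card K)) (k u : L) (_hkK : k ∈ K) (hu : u ∈ K)
    (huk : u * (x * k * x⁻¹) * u⁻¹ = k) :
    ∃ v ∈ K, x * (v * k * v⁻¹) = (v * k * v⁻¹) * x := by
  have hxN : x ∈ Subgroup.normalizer (K : Set L) := by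
    rw [Subgroup.normalizer_eq_top]
    exact Subgroup.mem_top x
  obtain ⟨v, hvK, c, hcK, hcx, hv⟩ := Cfsg.Agent.S1496.result K x hxN hx u hu
  refine ⟨v, hvK, ?_⟩
  obtain ⟨r, hr1, hr0⟩ := Nat.chineseRemainder hx 1 0
  have hxr : x ^ r = x := pow_eq_of_modEq_one x (orderOf x) r (pow_orderOf_eq_one x) hr1
  have hcr : c ^ r = 1 := by
    have h1 : orderOf c ∣ Nat.card K := Subgroup.orderOf_dvd_natCard K hcK
    have h2 : Nat.card K ∣ r := (Nat.modEq_zero_iff_dvd).mp hr0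
    exact orderOf_dvd_iff_pow_eq_one.mp (h1.trans h2)
  have hcomm : Commute c x := hcx
  have hpow : (c * x) ^ r = x := by
    rw [hcomm.mul_pow, hcr, hxr, one_mul]
  have h1 : Commute (u * x) k := by
    unfold Commute SemiconjBy
    calc u * x * k = (u * (x * k * x⁻¹) * u⁻¹) * (u * x) := by group
      _ = k * (u * x) := by rw [huk]
  have h2 : Commute (v * (u * x) * v⁻¹) (v * k * v⁻¹) := by
    unfold Commute SemiconjBy
    calc v * (u * x) * v⁻¹ * (v * k * v⁻¹) = v * ((u * x) * k) * v⁻¹ := by group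
      _ = v * (k * (u * x)) * v⁻¹ := by rw [h1.eq]
      _ = v * k * v⁻¹ * (v * (u * x) * v⁻¹) := by group
  rw [hv] at h2
  have h3 : Commute ((c * x) ^ r) (v * k * v⁻¹) := h2.pow_left r
  rw [hpow] at h3
  exact h3.eq

theorem result {L : Type*} [Group L] [Finite L] (K W₂ : Subgroup L) [hK : K.Normal] (x : L) (hx1 : x ≠ 1) (hx : Nat.Coprime (orderOf x) (Nat.card K)) (hC : ∀ y ∈ Subgroup.zpowers x, y ≠ 1 → K ⊓ Subgroup.centralizer ({y} : Set L) = W₂) : Nat.card {C : ConjClasses K // ConjClasses.map (MulEquiv.toMonoidHom ((MulAut.conjNormal x : MulAut K))) C = C} ≤ Nat.card W₂ := by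
  have hW : K ⊓ Subgroup.centralizer ({x} : Set L) = W₂ := hC x (Subgroup.mem_zpowers x) hx1
  have hWmem : ∀ z : L, z ∈ W₂ → z ∈ K ⊓ Subgroup.centralizer ({x} : Set L) := by
    intro z hz
    rw [hW]
    exact hz
  have hWK : ∀ w : W₂, (w : L) ∈ K := fun w => (hWmem w w.2).1
  have hWx : ∀ w : W₂, x * (w : L) * x⁻¹ = w := fun w => by
    have this := hWmem w w.2
    have h1 := Subgroup.mem_centralizer_singleton_iff.mp this.2
    rw [← h1]; group
  let f : W₂ → {C : ConjClasses K // ConjClasses.map (MulEquiv.toMonoidHom ((MulAut.conjNormal x : MulAut K))) C = C} :=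
    fun w => ⟨ConjClasses.mk ⟨(w : L), hWK w⟩, by
      show ConjClasses.mk ((MulAut.conjNormal x : MulAut K) ⟨(w : L), hWK w⟩) = _
      congr 1
      apply Subtype.ext
      rw [MulAut.conjNormal_apply]
      exact hWx w⟩
  apply Nat.card_le_card_of_surjective f
  rintro ⟨C, hCinv⟩
  obtain ⟨k, rfl⟩ := ConjClasses.mk_surjective C
  have h1 : ConjClasses.mk ((MulAut.conjNormal x : MulAut K) k) = ConjClasses.mk k := hCinv
  rw [ConjClasses.mk_eq_mk_iff_isConj, isConj_iff] at h1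
  obtain ⟨u, hu⟩ := h1
  have hu' : (u : L) * (x * (k : L) * x⁻¹) * (u : L)⁻¹ = k := by
    have := congrArg Subtype.val hu
    simpa using this
  obtain ⟨v, hvK, hv⟩ := fixed_rep K x hx k u k.2 u.2 hu'
  have hk'K : v * (k : L) * v⁻¹ ∈ K := hK.conj_mem _ k.2 v
  have hk'W : v * (k : L) * v⁻¹ ∈ W₂ := by
    rw [← hW]
    refine Subgroup.mem_inf.mpr ⟨hk'K, ?_⟩
    rw [Subgroup.mem_centralizer_singleton_iff]
    exact hv.symm
  refine ⟨⟨v * (k : L) * v⁻¹, hk'W⟩, ?_⟩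
  apply Subtype.ext
  show ConjClasses.mk (⟨v * (k : L) * v⁻¹, _⟩ : K) = ConjClasses.mk k
  rw [ConjClasses.mk_eq_mk_iff_isConj, isConj_iff]
  refine ⟨⟨v, hvK⟩⁻¹, ?_⟩
  apply Subtype.ext
  simp only [Subgroup.coe_mul, Subgroup.coe_inv, inv_inv]
  group

end Cfsg.Agent.S1512
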