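import Cfsg.Statements.S4429
import Cfsg.Agent.Lib.Helper29.M11D
import Cfsg.Agent.Lib.Helper29.M11E
import Cfsg.Agent.Lib.Helper29.M11F
import Cfsg.Agent.Lib.Helper24.Cdc1
import Cfsg.Agent.Lib.helper7.Thompson

set_option autoImplicit false
open Cfsg

namespace Cfsg.Agent.S4429

open Cfsg.Agent.Lib.Helper11 Cfsg.Agent.Lib.helper7 Cfsg.Agent.Lib.Helper25 Cfsg.Agent.Lib.helper2
open Cfsg.Agent.Lib.helper8 Cfsg.Agent.Lib.helper23 Cfsg.Agent.Lib.Helper24
open Cfsg.Agent.Lib.Helper26 Cfsg.Agent.Lib.Helper29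

set_option maxHeartbeats 800000 in
/-- Let G be a simple group of order 7920. Then G has exactly ten irreducible complex characters, and their degrees, listed with multiplicity, are 1, 10, 10, 10, 11, 16, 16, 44, 45, 55: for every natural number n, the number of irreducible characters of degree n is 1 if n ∈ {1, 11, 44, 45, 55}, 3 if n = 10, 2 if n = 16, and 0 otherwise. -/
theorem result {G : Type*} [Group G] [Finite G] [IsSimpleGroup G] (hG : Nat.card G = 7920) : Nat.card (Cfsg.IrrCharacter G) = 10 ∧ ∀ n : ℕ, Nat.card {χ : Cfsg.IrrCharacter G // Cfsg.charDegree (χ : G → ℂ) = n} = (if n = 1 ∨ n = 11 ∨ n = 44 ∨ n = 45 ∨ n = 55 then 1 else if n = 10 then 3 else if n = 16 then 2 else 0) := by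
  classical
  haveI : Fact (Nat.Prime 11) := ⟨by norm_num⟩
  haveI : Fact (Nat.Prime 5) := ⟨by norm_num⟩
  haveI : Fintype G := Fintype.ofFinite G
  haveI : Fintype (Cfsg.IrrCharacter G) := Fintype.ofFinite _
  have hnc : ¬ IsMulCommutative G := h8_not_comm_of_card (by rw [hG]; norm_num)
  -- the prime 11
  obtain ⟨P⟩ : Nonempty (Sylow 11 G) := inferInstance
  obtain ⟨hP, hn11, hNP, hCP⟩ := m11_syl11 hG P
  haveI : Fintype ((P : Subgroup G)) := Fintype.ofFinite _
  obtain ⟨ε, S, w, a, hε, hS, hwa, hnorm, hdeg, hcS, hcN, hw1, htS⟩ :=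
    exc_main (P : Subgroup G) (p := 11) (e := 5) (t := 2) hP hCP (by rw [hNP]) (by norm_num)
      (by norm_num)
  -- the prime 5
  obtain ⟨Q⟩ : Nonempty (Sylow 5 G) := inferInstance
  obtain ⟨hQ, hn5, hNQ, _⟩ := m11_syl5 hG Q
  obtain ⟨x', hx'⟩ := exists_prime_orderOf_dvd_card' 5
    (by rw [hQ] : 5 ∣ Nat.card (Q : Subgroup G))
  have hx : orderOf (x' : G) = 5 := by rw [Subgroup.orderOf_coe]; exact hx'
  have hx1 : (x' : G) ≠ 1 := by
    intro h; rw [h] at hx; simp at hx
  obtain ⟨hcx, hconj⟩ := m11_q5_conj hG Q (x' : G) x'.2 hx1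
  haveI : Fintype ((Q : Subgroup G)) := Fintype.ofFinite _
  obtain ⟨c, hc, hc2, hcd, hc5, hc1⟩ :=
    m11_rational_class 5 (Q : Subgroup G) hQ (x' : G) hx1 hconj hcx
  -- general facts
  have hsq : ∑ χ : Cfsg.IrrCharacter G, ((Cfsg.charDegree (χ : G → ℂ) : ℕ) : ℤ) ^ 2 = 7920 := by
    have h := h7_sum_degree_sq G
    rw [← Nat.card_eq_fintype_card, hG] at h
    have h2 : ((∑ χ : Cfsg.IrrCharacter G, (Cfsg.charDegree (χ : G → ℂ)) ^ 2 : ℕ) : ℤ) = 7920 := by
      rw [h]; norm_num
    push_cast at h2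
    exact h2
  have hcount := m11_count (fun χ : Cfsg.IrrCharacter G => Cfsg.charDegree (χ : G → ℂ)) w c S ε a
    (trivIrr G) hε hS hwa (by exact_mod_cast hnorm) hdeg
    (by
      intro χ hχ
      obtain ⟨m, hm⟩ := hcS χ hχ
      exact ⟨m, by push_cast at hm; exact hm⟩)
    (by
      intro χ hχ
      obtain ⟨m, hm⟩ := hcN χ hχ
      exact ⟨m, by push_cast at hm; exact hm⟩)
    hw1 htS (by exact_mod_cast hc2) hcd
    (by
      intro χ
      obtain ⟨k, hk⟩ := hc5 χ
      exact ⟨k, by push_cast at hk; linarith⟩)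
    hc1
    (by intro χ; rw [← hG]; exact cdc_degree_dvd χ)
    hsq
    (fun χ h => exc_linear_trivial hnc χ h)
    (exc_degree_triv G)
  have hsub : ∀ n : ℕ, Nat.card {χ : Cfsg.IrrCharacter G // Cfsg.charDegree (χ : G → ℂ) = n} =
      (Finset.univ.filter (fun χ : Cfsg.IrrCharacter G => Cfsg.charDegree (χ : G → ℂ) = n)).card := by
    intro n
    rw [Nat.card_eq_fintype_card, Fintype.card_subtype]
  constructor
  · rw [Nat.card_eq_fintype_card, ← Finset.card_univ]
    have hmem : ∀ χ ∈ (Finset.univ : Finset (Cfsg.IrrCharacter G)),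
        Cfsg.charDegree (χ : G → ℂ) ∈ ({1, 10, 11, 16, 44, 45, 55} : Finset ℕ) := by
      intro χ _
      by_contra hcon
      have h0 := hcount (Cfsg.charDegree (χ : G → ℂ))
      simp only [Finset.mem_insert, Finset.mem_singleton, not_or] at hcon
      obtain ⟨e1, e10, e11, e16, e44, e45, e55⟩ := hcon
      simp only [e1, e10, e11, e16, e44, e45, e55, or_self, if_false] at h0
      have : χ ∈ Finset.univ.filter (fun ψ : Cfsg.IrrCharacter G =>
          Cfsg.charDegree (ψ : G → ℂ) = Cfsg.charDegree (χ : G → ℂ)) := by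
        simp
      rw [Finset.card_eq_zero] at h0
      rw [h0] at this
      simp at this
    rw [Finset.card_eq_sum_card_fiberwise hmem]
    simp only [hcount]
    decide
  · intro n
    rw [hsub, hcount]

end Cfsg.Agent.S4429
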