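import Cfsg.Statements.S0962
import Mathlib
import Cfsg.Agent.Lib.helper7.BlockResidue
import Cfsg.Agent.Lib.helper7.BlockSing2
import Cfsg.Agent.Lib.helper7.BlockDefect2

set_option autoImplicit false
open Cfsg

namespace Cfsg.Agent.S0962


open Cfsg.Agent.Lib.helper7 Cfsg.Agent.Lib.Helper25 Cfsg.Agent.Lib.helper2

open scoped ComplexConjugate

theorem blockOf_eq_of_mem {G : Type*} [Group G] [Finite G] {M : Ideal Cfsg.AlgInt}
    (hP : M.IsPrime) (χ₀ χ : Cfsg.IrrCharacter G) (h : χ ∈ Cfsg.blockOf M (χ₀ : G → ℂ)) :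
    Cfsg.blockOf M (χ₀ : G → ℂ) = Cfsg.blockOf M (χ : G → ℂ) := by
  haveI : Fintype G := Fintype.ofFinite G
  haveI : Fintype (Cfsg.IrrCharacter G) := Fintype.ofFinite _
  ext ψ
  constructor
  · intro hψ
    exact h7_sameBlock_trans hP (h7_sameBlock_symm h) hψ
  · intro hψ
    exact h7_sameBlock_trans hP h hψ

theorem exists_rep {G : Type*} [Group G] [Finite G] (p : ℕ) {M : Ideal Cfsg.AlgInt}
    (hP : M.IsPrime) (B : Set (Cfsg.IrrCharacter G)) (hB : Cfsg.IsPBlock M B) :
    ∃ χ : Cfsg.IrrCharacter G, χ ∈ B ∧ B = Cfsg.blockOf M (χ : G → ℂ) ∧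
      Cfsg.blockDefect p B = (Nat.card G).factorization p -
        (Cfsg.charDegree (χ : G → ℂ)).factorization p := by
  haveI : Fintype G := Fintype.ofFinite G
  haveI : Fintype (Cfsg.IrrCharacter G) := Fintype.ofFinite _
  obtain ⟨χ₀, rfl⟩ := hB
  have hne : ((fun χ : Cfsg.IrrCharacter G => (Cfsg.charDegree (χ : G → ℂ)).factorization p) ''
      Cfsg.blockOf M (χ₀ : G → ℂ)).Nonempty :=
    ⟨_, χ₀, h7_sameBlock_refl hP _, rfl⟩
  obtain ⟨χ, hχ, heq⟩ := Nat.sInf_mem hne
  refine ⟨χ, hχ, blockOf_eq_of_mem hP χ₀ χ hχ, ?_⟩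
  unfold Cfsg.blockDefect
  rw [← heq]


/-- Fix a maximal ideal M of the algebraic integers containing the prime p and a natural number d. The number of blocks of the finite group G of defect at least d is at most the number of conjugacy classes of p-regular elements of G of defect at least d, where the defect of a class is the exponent of p in the order of the centralizer of any of its elements. -/
theorem result {G : Type*} [Group G] [Finite G] (p : ℕ) [Fact p.Prime] (M : Ideal Cfsg.AlgInt) (hM : Cfsg.IsPModular p M) (d : ℕ) : Nat.card {B : Set (Cfsg.IrrCharacter G) // Cfsg.IsPBlock M B ∧ d ≤ Cfsg.blockDefect p B} ≤ Nat.card {C : ConjClasses G // ∃ g : G, ConjClasses.mk g = C ∧ Cfsg.IsPRegular p g ∧ d ≤ (Nat.card (Subgroup.centralizer ({g} : Set G))).factorization p} := by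
  classical
  haveI : Fintype G := Fintype.ofFinite G
  haveI : Fintype (Cfsg.IrrCharacter G) := Fintype.ofFinite _
  haveI : Fintype (ConjClasses G) := Fintype.ofFinite _
  have hP := hM.2.1.isPrime
  haveI : Fintype {B : Set (Cfsg.IrrCharacter G) // Cfsg.IsPBlock M B ∧ d ≤ Cfsg.blockDefect p B} :=
    Fintype.ofFinite _
  rw [Nat.card_eq_fintype_card, Nat.card_eq_fintype_card]
  have hrep : ∀ B : {B : Set (Cfsg.IrrCharacter G) // Cfsg.IsPBlock M B ∧ d ≤ Cfsg.blockDefect p B},
      ∃ χ : Cfsg.IrrCharacter G, χ ∈ B.1 ∧ B.1 = Cfsg.blockOf M (χ : G → ℂ) ∧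
        Cfsg.blockDefect p B.1 = (Nat.card G).factorization p -
          (Cfsg.charDegree (χ : G → ℂ)).factorization p :=
    fun B => exists_rep p hP B.1 B.2.1
  choose χr hχr using hrep
  apply h7_card_le_of_mul_eq_one (R := h7_resRing M hP)
    (Matrix.of fun B C => h7_res M hP (Cfsg.blockCoeff B.1 (Quotient.out C.1)))
    (Matrix.of fun C B' => h7_res M hP (Cfsg.centralChar ((χr B' : Cfsg.IrrCharacter G) : G → ℂ)
      (Quotient.out C.1)))
  ext B B'
  rw [Matrix.mul_apply, Matrix.one_apply]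
  simp only [Matrix.of_apply]
  have hS1 : ∀ g : G, Cfsg.MemLocalRing M (Cfsg.blockCoeff B.1 g) := by
    intro g
    rw [(hχr B).2.1]
    exact h7_osima hP _ g
  have hS2 : ∀ g : G, Cfsg.MemLocalRing M
      (Cfsg.centralChar ((χr B' : Cfsg.IrrCharacter G) : G → ℂ) g) :=
    fun g => h7_memLocalRing_centralChar hP _ g
  have htot : (∑ K : ConjClasses G, Cfsg.blockCoeff B.1 (Quotient.out K) *
      Cfsg.centralChar ((χr B' : Cfsg.IrrCharacter G) : G → ℂ) (Quotient.out K)) =
      if χr B' ∈ B.1 then (1 : ℂ) else 0 := by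
    have := h7_eval_expand (fun χ : Cfsg.IrrCharacter G => if χ ∈ B.1 then (1 : ℂ) else 0) (χr B')
    rw [this]
    refine Finset.sum_congr rfl fun K _ => ?_
    rw [h7_coef_indicator]
  have hsplit := Fintype.sum_subtype_add_sum_subtype
    (fun C : ConjClasses G => ∃ g : G, ConjClasses.mk g = C ∧ Cfsg.IsPRegular p g ∧
      d ≤ (Nat.card (Subgroup.centralizer ({g} : Set G))).factorization p)
    (fun K : ConjClasses G => Cfsg.blockCoeff B.1 (Quotient.out K) *
      Cfsg.centralChar ((χr B' : Cfsg.IrrCharacter G) : G → ℂ) (Quotient.out K))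
  rw [htot] at hsplit
  have hrest : Cfsg.MemLocalIdeal M (∑ K : {C : ConjClasses G // ¬ ∃ g : G, ConjClasses.mk g = C ∧
      Cfsg.IsPRegular p g ∧
      d ≤ (Nat.card (Subgroup.centralizer ({g} : Set G))).factorization p},
      Cfsg.blockCoeff B.1 (Quotient.out K.1) *
      Cfsg.centralChar ((χr B' : Cfsg.IrrCharacter G) : G → ℂ) (Quotient.out K.1)) := by
    apply h7_memLocalIdeal_sum hP
    intro K _
    have hK : ¬ (Cfsg.IsPRegular p (Quotient.out K.1) ∧
        d ≤ (Nat.card (Subgroup.centralizer ({Quotient.out K.1} : Set G))).factorization p) :=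
      fun h => K.2 ⟨Quotient.out K.1, Quotient.out_eq K.1, h⟩
    by_cases hreg : p ∣ orderOf (Quotient.out K.1)
    · have : Cfsg.blockCoeff B.1 (Quotient.out K.1) = 0 := by
        rw [(hχr B).2.1]
        exact h7_blockCoeff_psingular hM _ _ hreg
      rw [this, zero_mul]
      exact h7_memLocalIdeal_zero hP
    · have hlt : (Nat.card (Subgroup.centralizer ({Quotient.out K.1} : Set G))).factorization p < d := by
        by_contra hge
        exact hK ⟨hreg, Nat.le_of_not_lt hge⟩
      apply h7_memLocalIdeal_mul_left hP (hS1 _)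
      by_contra hω
      have h1 := h7_defect_lower hM (χr B') (Quotient.out K.1) hω
      have h2 := (hχr B').2.2
      have h3 := B'.2.2
      have h4 : (Subgroup.centralizer ({Quotient.out K.1} : Set G)).index *
          Nat.card (Subgroup.centralizer ({Quotient.out K.1} : Set G)) = Nat.card G :=
        Subgroup.index_mul_card _
      have h5 : (Nat.card G).factorization p =
          (Subgroup.centralizer ({Quotient.out K.1} : Set G)).index.factorization p +
          (Nat.card (Subgroup.centralizer ({Quotient.out K.1} : Set G))).factorization p := by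
        rw [← h4, Nat.factorization_mul Subgroup.index_ne_zero_of_finite Nat.card_pos.ne',
          Finsupp.add_apply]
      omega
  have hsum_mem : ∀ C ∈ (Finset.univ : Finset {C : ConjClasses G // ∃ g : G, ConjClasses.mk g = C ∧
      Cfsg.IsPRegular p g ∧
      d ≤ (Nat.card (Subgroup.centralizer ({g} : Set G))).factorization p}),
      Cfsg.MemLocalRing M (Cfsg.blockCoeff B.1 (Quotient.out C.1) *
        Cfsg.centralChar ((χr B' : Cfsg.IrrCharacter G) : G → ℂ) (Quotient.out C.1)) :=
    fun C _ => h7_memLocalRing_mul hP (hS1 _) (hS2 _)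
  have hlhs : (∑ C : {C : ConjClasses G // ∃ g : G, ConjClasses.mk g = C ∧
      Cfsg.IsPRegular p g ∧
      d ≤ (Nat.card (Subgroup.centralizer ({g} : Set G))).factorization p},
      h7_res M hP (Cfsg.blockCoeff B.1 (Quotient.out C.1)) *
      h7_res M hP (Cfsg.centralChar ((χr B' : Cfsg.IrrCharacter G) : G → ℂ) (Quotient.out C.1))) =
      h7_res M hP (∑ C : {C : ConjClasses G // ∃ g : G, ConjClasses.mk g = C ∧
      Cfsg.IsPRegular p g ∧
      d ≤ (Nat.card (Subgroup.centralizer ({g} : Set G))).factorization p},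
      Cfsg.blockCoeff B.1 (Quotient.out C.1) *
        Cfsg.centralChar ((χr B' : Cfsg.IrrCharacter G) : G → ℂ) (Quotient.out C.1)) := by
    rw [h7_res_sum hP _ _ hsum_mem]
    refine Finset.sum_congr rfl fun C _ => ?_
    rw [h7_res_mul hP (hS1 _) (hS2 _)]
  rw [hlhs]
  have hδ : Cfsg.MemLocalRing M (if χr B' ∈ B.1 then (1 : ℂ) else 0) := by
    split_ifs
    · exact h7_memLocalRing_one hP
    · exact h7_memLocalRing_zero hP
  have heq : h7_res M hP (∑ C : {C : ConjClasses G // ∃ g : G, ConjClasses.mk g = C ∧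
      Cfsg.IsPRegular p g ∧
      d ≤ (Nat.card (Subgroup.centralizer ({g} : Set G))).factorization p},
      Cfsg.blockCoeff B.1 (Quotient.out C.1) *
        Cfsg.centralChar ((χr B' : Cfsg.IrrCharacter G) : G → ℂ) (Quotient.out C.1)) =
      h7_res M hP (if χr B' ∈ B.1 then (1 : ℂ) else 0) := by
    have e : ∀ a b c : ℂ, a + b = c → a - c = -b := by
      intro a b c h
      rw [← h]
      ring
    rw [h7_res_eq_iff hP (h7_memLocalRing_sum hP _ _ hsum_mem) hδ, e _ _ _ hsplit]
    exact h7_memLocalIdeal_neg hrest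
  rw [heq]
  by_cases hBB : B = B'
  · rw [if_pos hBB, hBB, if_pos (hχr B').1, h7_res_one]
  · rw [if_neg hBB]
    have : χr B' ∉ B.1 := by
      intro hmem
      apply hBB
      apply Subtype.ext
      rw [(hχr B').2.1, (hχr B).2.1]
      rw [(hχr B).2.1] at hmem
      exact blockOf_eq_of_mem hP _ _ hmem
    rw [if_neg this, h7_res_zero]

end Cfsg.Agent.S0962
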