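import Cfsg.Statements.S4250
import Cfsg.Agent.Lib.Helper1.EChain

set_option autoImplicit false
open Cfsg
open Cfsg.Agent.Lib.Helper1 Cfsg.Agent.Lib.Helper13 Cfsg.Agent.S0116
open scoped commutatorElement

namespace Cfsg.Agent.S4250

/-- Let P be a Sylow p-subgroup of a finite group G. Call an intersection H = P ∩ Q with a Sylow p-subgroup Q tame when N_P(H) and N_Q(H) are Sylow p-subgroups of N_G(H). Then P ∩ G′ is generated by [P, N_G(P)] together with the commutator subgroups [P ∩ Q, ⟨x⟩] for all tame intersections P ∩ Q and all p-elements x of N_G(P ∩ Q). -/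
theorem result {G : Type*} [Group G] [Finite G] (p : ℕ) [Fact p.Prime] (P : Sylow p G) :
    (P : Subgroup G) ⊓ commutator G =
      ⁅(P : Subgroup G), Subgroup.normalizer ((P : Subgroup G) : Set G)⁆ ⊔
        ⨆ (Q : Sylow p G) (_ : (¬ p ∣ ((P : Subgroup G) ⊓ Subgroup.normalizer (((P : Subgroup G) ⊓ (Q : Subgroup G) : Subgroup G) : Set G)).relIndex (Subgroup.normalizer (((P : Subgroup G) ⊓ (Q : Subgroup G) : Subgroup G) : Set G)) ∧ ¬ p ∣ ((Q : Subgroup G) ⊓ Subgroup.normalizer (((P : Subgroup G) ⊓ (Q : Subgroup G) : Subgroup G) : Set G)).relIndex (Subgroup.normalizer (((P : Subgroup G) ⊓ (Q : Subgroup G) : Subgroup G) : Set G))))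
          (x : G) (_ : x ∈ Subgroup.normalizer (((P : Subgroup G) ⊓ (Q : Subgroup G) : Subgroup G) : Set G) ∧ ∃ k : ℕ, orderOf x = p ^ k),
          ⁅(P : Subgroup G) ⊓ (Q : Subgroup G), Subgroup.zpowers x⁆ := by
  classical
  obtain ⟨K, hK⟩ : ∃ K : Subgroup G, K = ⁅(P : Subgroup G), Subgroup.normalizer ((P : Subgroup G) : Set G)⁆ ⊔
        ⨆ (Q : Sylow p G) (_ : (¬ p ∣ ((P : Subgroup G) ⊓ Subgroup.normalizer (((P : Subgroup G) ⊓ (Q : Subgroup G) : Subgroup G) : Set G)).relIndex (Subgroup.normalizer (((P : Subgroup G) ⊓ (Q : Subgroup G) : Subgroup G) : Set G)) ∧ ¬ p ∣ ((Q : Subgroup G) ⊓ Subgroup.normalizer (((P : Subgroup G) ⊓ (Q : Subgroup G) : Subgroup G) : Set G)).relIndex (Subgroup.normalizer (((P : Subgroup G) ⊓ (Q : Subgroup G) : Subgroup G) : Set G))))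
          (x : G) (_ : x ∈ Subgroup.normalizer (((P : Subgroup G) ⊓ (Q : Subgroup G) : Subgroup G) : Set G) ∧ ∃ k : ℕ, orderOf x = p ^ k),
          ⁅(P : Subgroup G) ⊓ (Q : Subgroup G), Subgroup.zpowers x⁆ := ⟨_, rfl⟩
  rw [← hK]
  have hstepK : ∀ (T : Subgroup G) (x : G), PStep p (P : Subgroup G) T x → ∀ t ∈ T, ⁅t, x⁻¹⁆ ∈ K := by
    rintro T x ⟨hT, hx, hor⟩ t ht
    rcases hor with h1 | ⟨k, hk⟩
    · rw [hK]
      apply Subgroup.mem_sup_left
      rw [h1] at ht hx
      exact Subgroup.commutator_mem_commutator ht (Subgroup.inv_mem _ hx)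
    · obtain ⟨Q, hQp, hQc, hTdef, ht1, ht2⟩ := hT
      have hcard : Nat.card Q = p ^ (Nat.card G).factorization p := by
        rw [hQc, Sylow.card_eq_multiplicity]
      obtain ⟨Q2, hQ2⟩ : ∃ Q2 : Sylow p G, (Q2 : Subgroup G) = Q :=
        ⟨Sylow.ofCard Q hcard, Sylow.coe_ofCard _ _⟩
      have e : (P : Subgroup G) ⊓ (Q2 : Subgroup G) = T := by rw [hQ2, hTdef]
      rw [← hQ2] at ht2
      subst e
      rw [hK]
      apply Subgroup.mem_sup_right
      refine Subgroup.mem_iSup_of_mem Q2 (Subgroup.mem_iSup_of_mem ⟨ht1, ht2⟩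
        (Subgroup.mem_iSup_of_mem x (Subgroup.mem_iSup_of_mem ⟨hx, k, hk⟩ ?_)))
      exact Subgroup.commutator_mem_commutator ht (Subgroup.inv_mem _ (Subgroup.mem_zpowers x))
  have hchainK : ∀ {R : Subgroup G} {g : G}, EChain (PStep p (P : Subgroup G)) R g →
      ∀ r ∈ R, r * (g⁻¹ * r⁻¹ * g) ∈ K := by
    intro R g hc
    induction hc with
    | nil R =>
      intro r _
      simp
    | cons R T x g2 hE hRT _ ih =>
      intro r hr
      have h1 := hstepK T x hE r (hRT hr)
      have h2 := ih (x⁻¹ * r * x) (rc_mem hr)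
      have e : r * ((x * g2)⁻¹ * r⁻¹ * (x * g2)) =
          ⁅r, x⁻¹⁆ * ((x⁻¹ * r * x) * (g2⁻¹ * (x⁻¹ * r * x)⁻¹ * g2)) := by
        rw [commutatorElement_def]
        group
      rw [e]
      exact K.mul_mem h1 h2
  apply le_antisymm
  · rw [inf_comm, Subgroup.commutator_inf_eq_focalSubgroup, Subgroup.focalSubgroup_def,
      Subgroup.closure_le]
    rintro _ ⟨hgP, x, hx, u, rfl⟩
    have hux : u * x * u⁻¹ ∈ (P : Subgroup G) := by
      have h1 := (P : Subgroup G).mul_mem ((P : Subgroup G).inv_mem hx) hgP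
      have e : x⁻¹ * ⁅x, u⁆ = (u * x * u⁻¹)⁻¹ := by
        rw [commutatorElement_def]
        group
      rw [e] at h1
      simpa using (P : Subgroup G).inv_mem h1
    have hRP : Subgroup.zpowers x ≤ (P : Subgroup G) := (Subgroup.zpowers_le).mpr hx
    have hRg : rc (Subgroup.zpowers x) u⁻¹ ≤ (P : Subgroup G) := by
      intro a ha
      rw [mem_rc] at ha
      obtain ⟨k, hk⟩ := Subgroup.mem_zpowers_iff.mp ha
      have e : a = (u * x * u⁻¹) ^ k := by
        rw [conj_zpow, hk]
        group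
      rw [e]
      exact Subgroup.zpow_mem _ hux k
    have hchain := pchain P _ _ hRP le_rfl u⁻¹ hRg
    have h3 := hchainK hchain x (Subgroup.mem_zpowers x)
    have e2 : x * (u⁻¹⁻¹ * x⁻¹ * u⁻¹) = ⁅x, u⁆ := by
      rw [commutatorElement_def]
      group
    rw [e2] at h3
    exact h3
  · rw [hK]
    apply sup_le
    · apply le_inf
      · rw [Subgroup.commutator_le]
        intro a ha b hb
        rw [commutatorElement_def]
        have h1 : b * a⁻¹ * b⁻¹ ∈ (P : Subgroup G) :=
          (Subgroup.mem_normalizer_iff.mp hb a⁻¹).mp ((P : Subgroup G).inv_mem ha)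
        have e : a * b * a⁻¹ * b⁻¹ = a * (b * a⁻¹ * b⁻¹) := by group
        rw [e]
        exact (P : Subgroup G).mul_mem ha h1
      · rw [commutator_def]
        exact Subgroup.commutator_mono le_top le_top
    · refine iSup_le (fun Q => iSup_le (fun _ => iSup_le (fun x => iSup_le (fun hx => ?_))))
      apply le_inf
      · rw [Subgroup.commutator_le]
        intro a ha b hb
        rw [commutatorElement_def]
        have hbN : b ∈ Subgroup.normalizer (((P : Subgroup G) ⊓ (Q : Subgroup G) : Subgroup G) : Set G) := by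
          obtain ⟨k, rfl⟩ := Subgroup.mem_zpowers_iff.mp hb
          exact Subgroup.zpow_mem _ hx.1 k
        have h1 : b * a⁻¹ * b⁻¹ ∈ (P : Subgroup G) ⊓ (Q : Subgroup G) :=
          (Subgroup.mem_normalizer_iff.mp hbN a⁻¹).mp (Subgroup.inv_mem _ ha)
        have e : a * b * a⁻¹ * b⁻¹ = a * (b * a⁻¹ * b⁻¹) := by group
        rw [e]
        exact (P : Subgroup G).mul_mem ha.1 h1.1
      · rw [commutator_def]
        exact Subgroup.commutator_mono le_top le_top

end Cfsg.Agent.S4250
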