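import Mathlib
import Cfsg.Statements.S0598
import Cfsg.Agent.Lib.Helper5.Replace

set_option autoImplicit false
open Cfsg

namespace Cfsg.Agent.S0598

open Cfsg.Agent.Lib.Helper5
open scoped commutatorElement

theorem hyps {G : Type*} [Group G] {p : ℕ} (V A : Subgroup G)
    (hV : Cfsg.IsElementaryAbelian p V) (hAV : A ≤ Subgroup.normalizer (V : Set G))
    (hab : ⁅A, A⁆ ≤ Subgroup.centralizer (V : Set G)) :
    (∀ v ∈ V, ∀ w ∈ V, v * w = w * v) ∧ (∀ a ∈ A, ∀ v ∈ V, a * v * a⁻¹ ∈ V) ∧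
    (∀ a ∈ A, ∀ b ∈ A, ∀ v ∈ V, a * b * v * b⁻¹ * a⁻¹ = b * a * v * a⁻¹ * b⁻¹) := by
  have hVc : ∀ v ∈ V, ∀ w ∈ V, v * w = w * v := by
    intro v hv w hw
    have := hV.1
    have h1 : (⟨v, hv⟩ : V) * ⟨w, hw⟩ = ⟨w, hw⟩ * ⟨v, hv⟩ := mul_comm' _ _
    exact congrArg Subtype.val h1
  have hAV' : ∀ a ∈ A, ∀ v ∈ V, a * v * a⁻¹ ∈ V := by
    intro a ha v hv
    exact (Subgroup.mem_normalizer_iff.mp (hAV ha) v).mp hv
  refine ⟨hVc, hAV', ?_⟩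
  intro a ha b hb v hv
  have hc : ⁅a, b⁆ ∈ Subgroup.centralizer (V : Set G) := hab (Subgroup.commutator_mem_commutator ha hb)
  have hw : b * a * v * a⁻¹ * b⁻¹ ∈ V := by
    have h1 := hAV' b hb _ (hAV' a ha v hv)
    have e : b * a * v * a⁻¹ * b⁻¹ = b * (a * v * a⁻¹) * b⁻¹ := by group
    rw [e]; exact h1
  have h2 := (Subgroup.mem_centralizer_iff.mp hc) _ hw
  rw [commutatorElement_def] at h2
  have e : a * b * v * b⁻¹ * a⁻¹ =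
      (a * b * a⁻¹ * b⁻¹) * (b * a * v * a⁻¹ * b⁻¹) * (a * b * a⁻¹ * b⁻¹)⁻¹ := by group
  rw [e, ← h2, mul_inv_cancel_right]

theorem result {G : Type*} [Group G] [Finite G] {p : ℕ} [Fact p.Prime] (V A : Subgroup G) (hV : Cfsg.IsElementaryAbelian p V) (hAV : A ≤ Subgroup.normalizer (V : Set G)) (hab : ⁅A, A⁆ ≤ Subgroup.centralizer (V : Set G)) (U : Subgroup G) (hU : U ≤ V) : ∃ B : Subgroup G, B ≤ A ∧ ((Nat.card A * Nat.card ↥(V ⊓ Subgroup.centralizer (A : Set G)) < Nat.card B * Nat.card ↥(V ⊓ Subgroup.centralizer (B : Set G))) ∨ (B = A ⊓ Subgroup.centralizer ((⁅U, A⁆ : Subgroup G) : Set G) ∧ (V ⊓ Subgroup.centralizer (B : Set G)) = ⁅U, A⁆ ⊔ (V ⊓ Subgroup.centralizer (A : Set G)) ∧ Nat.card A * Nat.card ↥(V ⊓ Subgroup.centralizer (A : Set G)) = Nat.card B * Nat.card ↥(V ⊓ Subgroup.centralizer (B : Set G)))) := by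
  obtain ⟨hVc, hAV', hAab⟩ := hyps V A hV hAV hab
  by_cases h : ∃ B : Subgroup G, B ≤ A ∧ Nat.card A * Nat.card ↥(V ⊓ Subgroup.centralizer (A : Set G)) < Nat.card B * Nat.card ↥(V ⊓ Subgroup.centralizer (B : Set G))
  · obtain ⟨B, hBA, hlt⟩ := h
    exact ⟨B, hBA, Or.inl hlt⟩
  · push Not at h
    obtain ⟨h1, h2⟩ := h5r_core hVc hAV' hAab h hU
    exact ⟨A ⊓ Subgroup.centralizer ((⁅U, A⁆ : Subgroup G) : Set G), inf_le_left, Or.inr ⟨rfl, h2, h1.symm⟩⟩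

end Cfsg.Agent.S0598
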