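import Mathlib
import Cfsg.Statements.S0599
import Cfsg.Agent.S0598
import Cfsg.Agent.Lib.Helper5.Replace2

set_option autoImplicit false
open Cfsg

namespace Cfsg.Agent.S0599

open Cfsg.Agent.Lib.Helper5 in
theorem result {G : Type*} [Group G] [Finite G] {p : ℕ} [Fact p.Prime] (V A : Subgroup G) (hV : Cfsg.IsElementaryAbelian p V) (hAV : A ≤ Subgroup.normalizer (V : Set G)) (hA : Cfsg.IsBestOffenderOn p V A) (U : Subgroup G) (hU : U ≤ V) : Cfsg.IsBestOffenderOn p V (A ⊓ Subgroup.centralizer ((⁅U, A⁆ : Subgroup G) : Set G)) ∧ V ⊓ Subgroup.centralizer ((A ⊓ Subgroup.centralizer ((⁅U, A⁆ : Subgroup G) : Set G) : Subgroup G) : Set G) = ⁅U, A⁆ ⊔ (V ⊓ Subgroup.centralizer (A : Set G)) ∧ (⁅V, A⁆ ≠ ⊥ → ⁅V, A ⊓ Subgroup.centralizer ((⁅U, A⁆ : Subgroup G) : Set G)⁆ ≠ ⊥) := by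
  obtain ⟨hmax, hcomm, hpow⟩ := hA
  obtain ⟨hVc, hAV', hAab⟩ := Cfsg.Agent.S0598.hyps V A hV hAV hcomm
  obtain ⟨hcard, hfix⟩ := h5r_core hVc hAV' hAab hmax hU
  refine ⟨⟨?_, ?_, ?_⟩, hfix, ?_⟩
  · intro B hB
    rw [hcard]
    exact hmax B (le_trans hB inf_le_left)
  · exact le_trans (Subgroup.commutator_mono inf_le_left inf_le_left) hcomm
  · intro a ha
    exact hpow a (Subgroup.mem_inf.mp ha).1
  · intro hne hbot
    have hVcent : V ≤ Subgroup.centralizer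
        ((A ⊓ Subgroup.centralizer ((⁅U, A⁆ : Subgroup G) : Set G) : Subgroup G) : Set G) :=
      Subgroup.commutator_eq_bot_iff_le_centralizer.mp hbot
    have hsup : V ≤ ⁅U, A⁆ ⊔ (V ⊓ Subgroup.centralizer (A : Set G)) := by
      rw [← hfix]
      exact le_inf le_rfl hVcent
    have hUAV : ⁅U, A⁆ ≤ V := by
      rw [Subgroup.commutator_le]
      intro u hu a ha
      rw [commutatorElement_def]
      have h1 : a * u⁻¹ * a⁻¹ ∈ V := hAV' a ha u⁻¹ (V.inv_mem (hU hu))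
      have : u * a * u⁻¹ * a⁻¹ = u * (a * u⁻¹ * a⁻¹) := by group
      rw [this]
      exact V.mul_mem (hU hu) h1
    have h1 : ⁅V, A⁆ ≤ ⁅⁅U, A⁆, A⁆ := h5r_comm_le_of_sup hVc hUAV hsup
    have h2 : ⁅V, A⁆ ≤ ⁅⁅V, A⁆, A⁆ :=
      le_trans h1 (Subgroup.commutator_mono (Subgroup.commutator_mono hU le_rfl) le_rfl)
    have hVAV : ⁅V, A⁆ ≤ V := by
      rw [Subgroup.commutator_le]
      intro u hu a ha
      rw [commutatorElement_def]
      have h1 : a * u⁻¹ * a⁻¹ ∈ V := hAV' a ha u⁻¹ (V.inv_mem hu)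
      have : u * a * u⁻¹ * a⁻¹ = u * (a * u⁻¹ * a⁻¹) := by group
      rw [this]
      exact V.mul_mem hu h1
    exact h5r_not_le_comm hV hAV hpow hVAV
      (Cfsg.Agent.Lib.Lead.right_le_normalizer_commutator V A hAV) hne h2

end Cfsg.Agent.S0599
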