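import Mathlib
import Cfsg.Statements.S0629
import Cfsg.Agent.Lib.Helper5.PConstr

set_option autoImplicit false
open Cfsg

namespace Cfsg.Agent.S0629

open Cfsg.Agent.Lib.Helper5 Cfsg.Agent.Lib.Helper1
open scoped Pointwise

theorem pPrimeCore_characteristic {X : Type*} [Group X] [Finite X] (p : ℕ) :
    (Cfsg.pPrimeCore p X).Characteristic := by
  rw [Subgroup.characteristic_iff_map_le]
  intro φ
  apply le_pPrimeCore
  · exact Subgroup.Normal.map (Cfsg.pPrimeCore_normal p X) φ.toMonoidHom φ.surjective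
  · rw [Subgroup.card_map_of_injective φ.injective]
    exact pPrimeCore_card_coprime p

theorem pCore_characteristic {X : Type*} [Group X] [Finite X] (p : ℕ) [Fact p.Prime] :
    (Cfsg.pCore p X).Characteristic := by
  rw [Subgroup.characteristic_iff_map_le]
  intro φ
  apply le_pCore
  · exact Subgroup.Normal.map (Cfsg.pCore_normal p X) φ.toMonoidHom φ.surjective
  · exact (pCore_isPGroup p).map _

theorem result {G : Type*} [Group G] [Finite G] {p : ℕ} [Fact p.Prime] (P : Sylow p ↥(Cfsg.pPrimePCore p G)) (hsol : Cfsg.IsPSolvable p ↥(Subgroup.centralizer (((P : Subgroup ↥(Cfsg.pPrimePCore p G)).map (Cfsg.pPrimePCore p G).subtype : Subgroup G) : Set G))) : Cfsg.IsPConstrained p G := by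
  set P₀ : Subgroup G := (P : Subgroup ↥(Cfsg.pPrimePCore p G)).map (Cfsg.pPrimePCore p G).subtype with hP₀
  set C : Subgroup G := Subgroup.centralizer (P₀ : Set G) with hC
  set N : Subgroup G := Cfsg.pPrimeCore p G with hN
  set π : G →* G ⧸ N := QuotientGroup.mk' N with hπ
  set Qb : Subgroup (G ⧸ N) := Cfsg.pCore p (G ⧸ N) with hQb
  set Cb : Subgroup (G ⧸ N) := Subgroup.centralizer (Qb : Set (G ⧸ N)) with hCb
  have hker : ∀ g : G, π g = 1 ↔ g ∈ N := fun g => QuotientGroup.eq_one_iff g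
  have hNcop : (Nat.card N).Coprime p := pPrimeCore_card_coprime p
  have hQn : Qb.Normal := Cfsg.pCore_normal p (G ⧸ N)
  have hQp : IsPGroup p Qb := pCore_isPGroup p
  have hKn : (Cfsg.pPrimePCore p G).Normal := h5_pPrimePCore_normal p G
  have hPmap : P₀.map π = Qb := h5_sylow_pPrimePCore_map P
  have hP₀p : IsPGroup p P₀ := P.isPGroup'.map _
  have hCmap : C.map π = Cb := by
    apply le_antisymm
    · intro xb hxb
      obtain ⟨x, hx, rfl⟩ := hxb
      have hx' : x ∈ C := hx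
      rw [hCb, Subgroup.mem_centralizer_iff]
      intro q hq
      have hq' : q ∈ P₀.map π := by rw [hPmap]; exact hq
      obtain ⟨a, ha, rfl⟩ := hq'
      have ha' : a ∈ P₀ := ha
      rw [hC, Subgroup.mem_centralizer_iff] at hx'
      rw [← map_mul, ← map_mul, hx' a ha']
    · intro yb hyb
      obtain ⟨y, hy⟩ := QuotientGroup.mk'_surjective N yb
      have hy' : π y = yb := hy
      subst hy'
      have hyc : π y ∈ Subgroup.centralizer ((P₀.map π : Subgroup (G ⧸ N)) : Set (G ⧸ N)) := by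
        rw [hPmap]; exact hyb
      obtain ⟨d, hd, hyd⟩ := h5_exists_lift_centralizer N hNcop P₀ hP₀p y hyc
      refine ⟨y * d, hyd, ?_⟩
      rw [map_mul, (hker d).mpr hd, mul_one]
  have hCbn : Cb.Normal := Subgroup.normal_centralizer
  have hCbsol : Cfsg.IsPSolvable p ↥Cb := by
    have h1 : Cfsg.IsPSolvable p ↥(C.map π) :=
      h5_isPSolvable_of_surjective (π.subgroupMap C) (π.subgroupMap_surjective C) hsol
    rw [hCmap] at h1
    exact h1
  have h1 : Cfsg.pPrimeCore p (G ⧸ N) = ⊥ := pPrimeCore_quotient_eq_bot p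
  have hO : Cfsg.pPrimeCore p ↥Cb = ⊥ := by
    have hchar := pPrimeCore_characteristic (X := ↥Cb) p
    have hn : ((Cfsg.pPrimeCore p ↥Cb).map Cb.subtype).Normal :=
      h5_normal_map_of_characteristic Cb _
    have hc : (Nat.card ((Cfsg.pPrimeCore p ↥Cb).map Cb.subtype)).Coprime p := by
      rw [Subgroup.card_map_of_injective Cb.subtype_injective]
      exact pPrimeCore_card_coprime p
    have hle := le_pPrimeCore hn hc
    rw [h1, le_bot_iff, Subgroup.map_eq_bot_iff_of_injective _ Cb.subtype_injective] at hle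
    exact hle
  have hHH := h5_centralizer_pCore_le hCbsol hO
  have hcentral : ∀ r ∈ Cfsg.pCore p ↥Cb, ∀ c : ↥Cb, r * c = c * r := by
    intro r hr c
    have hchar := pCore_characteristic (X := ↥Cb) p
    have hn : ((Cfsg.pCore p ↥Cb).map Cb.subtype).Normal :=
      h5_normal_map_of_characteristic Cb _
    have hp : IsPGroup p ↥((Cfsg.pCore p ↥Cb).map Cb.subtype) := (pCore_isPGroup p).map _
    have hle : (Cfsg.pCore p ↥Cb).map Cb.subtype ≤ Qb := le_pCore hn hp
    have hrQ : (r : G ⧸ N) ∈ Qb := hle ⟨r, hr, rfl⟩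
    have hc : (c : G ⧸ N) ∈ Subgroup.centralizer (Qb : Set (G ⧸ N)) := c.2
    rw [Subgroup.mem_centralizer_iff] at hc
    apply Subtype.ext
    exact hc _ hrQ
  have htop : Cfsg.pCore p ↥Cb = ⊤ := by
    rw [eq_top_iff]
    refine le_trans ?_ hHH
    intro c _
    rw [Subgroup.mem_centralizer_iff]
    intro r hr
    exact hcentral r hr c
  have hCbp : IsPGroup p ↥Cb := by
    have h2 : IsPGroup p ↥(Cfsg.pCore p ↥Cb) := pCore_isPGroup p
    rw [htop] at h2
    exact IsPGroup.of_surjective h2 (Subgroup.topEquiv : (⊤ : Subgroup ↥Cb) ≃* ↥Cb).toMonoidHom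
      (Subgroup.topEquiv : (⊤ : Subgroup ↥Cb) ≃* ↥Cb).surjective
  have hCbQ : Cb ≤ Qb := le_pCore hCbn hCbp
  have hCK : C ≤ Cfsg.pPrimePCore p G := by
    intro x hx
    rw [h5_mem_pPrimePCore_iff]
    apply hCbQ
    rw [← hCmap]
    exact ⟨x, hx, rfl⟩
  intro P'
  obtain ⟨g, hg⟩ := MulAction.exists_smul_eq (↥(Cfsg.pPrimePCore p G)) P P'
  intro x hx
  have hx' : (g : G)⁻¹ * x * (g : G) ∈ C := by
    rw [hC, Subgroup.mem_centralizer_iff]
    rintro _ ⟨a, ha, rfl⟩
    have h2 : g * a * g⁻¹ ∈ (P' : Subgroup ↥(Cfsg.pPrimePCore p G)) := by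
      rw [← hg, Sylow.coe_subgroup_smul]
      rw [Subgroup.mem_smul_pointwise_iff_exists]
      exact ⟨a, ha, by simp [MulAut.smul_def, MulAut.conj_apply]⟩
    have h3 : ((g * a * g⁻¹ : ↥(Cfsg.pPrimePCore p G)) : G) ∈ (P' : Subgroup ↥(Cfsg.pPrimePCore p G)).map (Cfsg.pPrimePCore p G).subtype := ⟨_, h2, rfl⟩
    rw [Subgroup.mem_centralizer_iff] at hx
    have h4 := hx _ h3
    have h5 : ((g * a * g⁻¹ : ↥(Cfsg.pPrimePCore p G)) : G) = (g : G) * (a : G) * (g : G)⁻¹ := by simp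
    rw [h5] at h4
    show (a : G) * ((g : G)⁻¹ * x * (g : G)) = (g : G)⁻¹ * x * (g : G) * (a : G)
    calc (a : G) * ((g : G)⁻¹ * x * (g : G))
        = (g : G)⁻¹ * (((g : G) * (a : G) * (g : G)⁻¹) * x) * (g : G) := by group
      _ = (g : G)⁻¹ * (x * ((g : G) * (a : G) * (g : G)⁻¹)) * (g : G) := by rw [h4]
      _ = (g : G)⁻¹ * x * (g : G) * (a : G) := by group
  have h6 : (g : G)⁻¹ * x * (g : G) ∈ Cfsg.pPrimePCore p G := hCK hx'
  have h7 : x = (g : G) * ((g : G)⁻¹ * x * (g : G)) * (g : G)⁻¹ := by group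
  rw [h7]
  exact Subgroup.mul_mem _ (Subgroup.mul_mem _ g.2 h6) (Subgroup.inv_mem _ g.2)

end Cfsg.Agent.S0629
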