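import Mathlib
import Cfsg.Statements.S1902
import Cfsg.Agent.S1302
import Cfsg.Agent.S0629
import Cfsg.Agent.Lib.Helper13.Conj
import Cfsg.Agent.Lib.Helper13.FusionLift

set_option autoImplicit false
open Cfsg

namespace Cfsg.Agent.S1902

open Cfsg.Agent.Lib.Helper13

theorem relIndex_dvd_relIndex_of_normal {G : Type*} [Group G] (N K L : Subgroup G) [N.Normal]
    (hKL : K ≤ L) : N.relIndex K ∣ N.relIndex L := by
  rw [← Subgroup.relIndex_sup_right K N, ← Subgroup.relIndex_sup_right L N]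
  have h1 : N ≤ K ⊔ N := le_sup_right
  have h2 : K ⊔ N ≤ L ⊔ N := sup_le_sup_right hKL N
  rw [← Subgroup.relIndex_mul_relIndex N (K ⊔ N) (L ⊔ N) h1 h2]
  exact dvd_mul_right _ _

theorem isPSolvable_subgroup {G : Type*} [Group G] {p : ℕ} [Fact p.Prime]
    (h : Cfsg.IsPSolvable p G) (M : Subgroup G) : Cfsg.IsPSolvable p ↥M := by
  have hp : p.Prime := Fact.out
  obtain ⟨n, H, h0, hlast, hmono, hnorm, hfac⟩ := h
  refine ⟨n, fun i => (H i).subgroupOf M, ?_, ?_, ?_, ?_, ?_⟩
  · show (H 0).subgroupOf M = ⊥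
    rw [h0, Subgroup.bot_subgroupOf]
  · show (H (Fin.last n)).subgroupOf M = ⊤
    rw [hlast, Subgroup.top_subgroupOf]
  · intro i j hij
    exact Subgroup.comap_mono (hmono hij)
  · intro i
    have := hnorm i
    infer_instance
  · intro i
    have hN := hnorm i.castSucc
    have key : ((H i.castSucc).subgroupOf M).relIndex ((H i.succ).subgroupOf M) ∣
        (H i.castSucc).relIndex (H i.succ) := by
      have e1 : (H i.succ).subgroupOf M = ((H i.succ) ⊓ M).subgroupOf M :=
        (Subgroup.inf_subgroupOf_right _ _).symm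
      rw [e1, Subgroup.relIndex_subgroupOf inf_le_right]
      exact relIndex_dvd_relIndex_of_normal _ _ _ inf_le_left
    rcases hfac i with ⟨m, hm⟩ | hc
    · left
      rw [hm] at key
      obtain ⟨m', _, hm'⟩ := (Nat.dvd_prime_pow hp).mp key
      exact ⟨m', hm'⟩
    · right
      exact Nat.Coprime.coprime_dvd_left key hc

theorem isPConstrained_of_isPSolvable {G : Type*} [Group G] [Finite G] {p : ℕ} [Fact p.Prime]
    (h : Cfsg.IsPSolvable p G) : Cfsg.IsPConstrained p G := by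
  obtain ⟨P⟩ : Nonempty (Sylow p ↥(Cfsg.pPrimePCore p G)) := inferInstance
  exact Cfsg.Agent.S0629.result P (isPSolvable_subgroup h _)

theorem mem_of_centralizes {G : Type*} [Group G] [Finite G] {p : ℕ} [Fact p.Prime]
    (B : Subgroup G) (hB : Cfsg.IsElementaryAbelian p B) (hBc : Nat.card B = p ^ 2)
    (b₀ : G) (hb₀ : b₀ ∈ B) (P : Sylow p ↥(Subgroup.centralizer ({b₀} : Set G)))
    (hBP : B = Subgroup.closure {x : G | x ∈ ((P : Subgroup ↥(Subgroup.centralizer ({b₀} : Set G))).map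
      (Subgroup.centralizer ({b₀} : Set G)).subtype : Subgroup G) ∧ orderOf x = p})
    (x : G) (hx : x ∈ Subgroup.centralizer (B : Set G)) (hxo : orderOf x = p) : x ∈ B := by
  have hp : p.Prime := Fact.out
  obtain ⟨C, hC⟩ : ∃ C, C = Subgroup.centralizer ({b₀} : Set G) := ⟨_, rfl⟩
  have hcomm : ∀ a ∈ B, ∀ b ∈ B, a * b = b * a := by
    intro a ha b hb
    have := hB.1.is_comm.comm (⟨a, ha⟩ : ↥B) ⟨b, hb⟩
    exact congrArg Subtype.val this
  have hxB : ∀ b ∈ B, b * x = x * b := fun b hb => Subgroup.mem_centralizer_iff.mp hx b hb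
  obtain ⟨D, hD⟩ : ∃ D, D = B ⊔ Subgroup.zpowers x := ⟨_, rfl⟩
  have hBD : B ≤ D := hD ▸ le_sup_left
  have hxD : x ∈ D := hD ▸ (le_sup_right : Subgroup.zpowers x ≤ _) (Subgroup.mem_zpowers x)
  have hDform : ∀ d ∈ D, ∃ b ∈ B, ∃ k : ℤ, d = b * x ^ k := by
    intro d hd
    rw [hD] at hd
    have hn : Subgroup.zpowers x ≤ Subgroup.normalizer (B : Set G) := by
      rw [Subgroup.zpowers_le]
      exact Subgroup.centralizer_le_normalizer _ hx
    rw [sup_comm] at hd
    obtain ⟨z, hz, b, hb, rfl⟩ := mem_sup_of_le_normalizer hn hd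
    obtain ⟨k, rfl⟩ := Subgroup.mem_zpowers_iff.mp hz
    refine ⟨b, hb, k, ?_⟩
    exact ((Commute.zpow_right (hxB b hb) k)).eq.symm
  have hDpow : ∀ d ∈ D, d ^ p = 1 := by
    intro d hd
    obtain ⟨b, hb, k, rfl⟩ := hDform d hd
    have hc : Commute b (x ^ k) := Commute.zpow_right (hxB b hb) k
    rw [hc.mul_pow, hB.2 b hb, one_mul, ← zpow_natCast, ← zpow_mul, mul_comm, zpow_mul,
      zpow_natCast, ← hxo, pow_orderOf_eq_one, one_zpow]
  have hDC : D ≤ C := by
    intro d hd
    obtain ⟨b, hb, k, rfl⟩ := hDform d hd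
    rw [hC, Subgroup.mem_centralizer_singleton_iff]
    have h1 : b * b₀ = b₀ * b := hcomm b hb b₀ hb₀
    have h2 : Commute (x ^ k) b₀ := Commute.zpow_left (hxB b₀ hb₀).symm k
    calc b * x ^ k * b₀ = b * (x ^ k * b₀) := by group
      _ = b * (b₀ * x ^ k) := by rw [h2.eq]
      _ = (b * b₀) * x ^ k := by group
      _ = (b₀ * b) * x ^ k := by rw [h1]
      _ = b₀ * (b * x ^ k) := by group
  subst hC
  have hDp : IsPGroup p ↥(D.subgroupOf (Subgroup.centralizer ({b₀} : Set G))) := by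
    intro d
    refine ⟨1, ?_⟩
    rw [pow_one]
    apply Subtype.ext
    apply Subtype.ext
    push_cast
    exact hDpow _ (Subgroup.mem_subgroupOf.mp d.2)
  obtain ⟨P₂, hP₂⟩ := hDp.exists_le_sylow
  obtain ⟨c, hc⟩ := MulAction.exists_smul_eq (↥(Subgroup.centralizer ({b₀} : Set G))) P P₂
  have hconj : ∀ d ∈ D, (c : G)⁻¹ * d * (c : G) ∈ B := by
    intro d hd
    have hdC := hDC hd
    have h1 : (⟨d, hdC⟩ : ↥(Subgroup.centralizer ({b₀} : Set G))) ∈ (P₂ : Subgroup _) :=
      hP₂ (Subgroup.mem_subgroupOf.mpr hd)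
    have h2 : (⟨d, hdC⟩ : ↥(Subgroup.centralizer ({b₀} : Set G))) ∈
        ((c • P : Sylow p _) : Subgroup _) := by rw [hc]; exact h1
    rw [sylow_smul_coe, mem_cj] at h2
    by_cases hd1 : d = 1
    · rw [hd1]
      have : (c : G)⁻¹ * 1 * (c : G) = 1 := by group
      rw [this]; exact B.one_mem
    · have ho : orderOf ((c : G)⁻¹ * d * (c : G)) = p := by
        have e1 : ((c : G)⁻¹ * d * (c : G)) ^ p = 1 := by
          have : ((c : G)⁻¹ * d * (c : G)) ^ p = (c : G)⁻¹ * d ^ p * (c : G) := by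
            have := conj_pow (a := (c : G)⁻¹) (b := d) (i := p)
            rw [inv_inv] at this
            exact this
          rw [this, hDpow d hd]; group
        have e2 : (c : G)⁻¹ * d * (c : G) ≠ 1 := by
          intro h
          apply hd1
          have : d = (c : G) * ((c : G)⁻¹ * d * (c : G)) * (c : G)⁻¹ := by group
          rw [this, h]; group
        exact orderOf_eq_prime e1 e2
      rw [hBP]
      apply Subgroup.subset_closure
      refine ⟨⟨_, h2, ?_⟩, ho⟩
      simp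
  have hle : D.map (MulAut.conj (c : G)⁻¹).toMonoidHom ≤ B := by
    rintro _ ⟨d, hd, rfl⟩
    have := hconj d hd
    simpa using this
  have hcard : Nat.card ↥D ≤ Nat.card ↥B := by
    rw [← card_cj (c : G)⁻¹ D]
    exact Subgroup.card_le_of_le hle
  have hDB : D = B := (Subgroup.eq_of_le_of_card_ge hBD hcard).symm
  rw [← hDB]
  exact hxD

/-- Let p be an odd prime, G a finite p-solvable group, and B an elementary abelian subgroup of order p² such that B is the subgroup generated by the elements of order p of some Sylow p-subgroup of C_G(b₀), for some nontrivial b₀ ∈ B. Then every B-invariant subgroup of G of order prime to p lies in O_{p'}(G). -/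
theorem result {G : Type*} [Group G] [Finite G] {p : ℕ} [Fact p.Prime] (hp : p ≠ 2)
    (hG : Cfsg.IsPSolvable p G) (B : Subgroup G) (hB : Cfsg.IsElementaryAbelian p B) (hBc : Nat.card B = p ^ 2)
    (b₀ : G) (hb₀ : b₀ ∈ B) (hb₁ : b₀ ≠ 1) (P : Sylow p ↥(Subgroup.centralizer ({b₀} : Set G)))
    (hBP : B = Subgroup.closure {x : G | x ∈ ((P : Subgroup ↥(Subgroup.centralizer ({b₀} : Set G))).map
      (Subgroup.centralizer ({b₀} : Set G)).subtype : Subgroup G) ∧ orderOf x = p})
    (Q : Subgroup G) (hQ : ¬ p ∣ Nat.card Q) (hinv : ∀ b ∈ B, ∀ x ∈ Q, b * x * b⁻¹ ∈ Q) :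
    Q ≤ Cfsg.pPrimeCore p G := by
  have hBp : IsPGroup p ↥B := by
    intro b
    refine ⟨1, ?_⟩
    rw [pow_one]
    apply Subtype.ext
    push_cast
    exact hB.2 b b.2
  apply Cfsg.Agent.S1302.result p hp (isPConstrained_of_isPSolvable hG) B hB.1 hBp
    (fun x hx hxo => mem_of_centralizes B hB hBc b₀ hb₀ P hBP x hx hxo) Q hQ
  intro b hb
  apply mem_normalizer_of_cj_le
  rintro _ ⟨x, hx, rfl⟩
  exact hinv b hb x hx

end Cfsg.Agent.S1902
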