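import Cfsg.Statements.S4034
import Mathlib
import Cfsg.Agent.S0143
import Cfsg.Agent.Lib.Helper22.Basic
import Cfsg.Agent.Lib.Helper22.Sylow
import Cfsg.Agent.Lib.Helper22.Sylow2
import Cfsg.Agent.Lib.Helper1.CFitting
import Cfsg.Agent.Lib.Helper1.Hall

set_option autoImplicit false
open Cfsg

namespace Cfsg.Agent.S4034

open Subgroup Cfsg.Agent.Lib.Helper22 Cfsg.Agent.Lib.Helper1

def Star (p : ℕ) (G : Type*) [Group G] : Prop :=
  ∀ x : G, (orderOf x).Coprime p → ∃ k : ℕ, (centralizer ({x} : Set G)).index = p ^ k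

theorem conjClass_ncard' {G : Type*} [Group G] (b : G) :
    (ConjClasses.mk b).carrier.ncard = (Subgroup.centralizer ({b} : Set G)).index := by
  rw [index_centralizer_eq_ncard_conj]
  have : (ConjClasses.mk b).carrier = {h : G | IsConj b h} := by
    ext x
    rw [ConjClasses.mem_carrier_iff_mk_eq, ConjClasses.mk_eq_mk_iff_isConj, Set.mem_ofPred_eq,
      isConj_comm]
  rw [this]

theorem relIndex_dvd_index_of_normal_right {G : Type*} [Group G] [Finite G] (C N : Subgroup G)
    [N.Normal] : C.relIndex N ∣ C.index := by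
  have h1 := card_sup_normal C N
  have h2 := Cfsg.Agent.Lib.Helper22.card_mul_relIndex_of_le (le_sup_left : C ≤ C ⊔ N)
  have h3 := Cfsg.Agent.Lib.Helper22.card_mul_relIndex_of_le (inf_le_right : C ⊓ N ≤ N)
  have h4 := Cfsg.Agent.Lib.Helper22.card_mul_relIndex_of_le (inf_le_left : C ⊓ N ≤ C)
  rw [Subgroup.inf_relIndex_right] at h3
  rw [inf_comm, Subgroup.inf_relIndex_right] at h4
  have h5 : C.relIndex (C ⊔ N) = C.relIndex N := by
    have hpos : 0 < Nat.card C := Nat.card_pos
    have : Nat.card C * C.relIndex (C ⊔ N) = Nat.card C * C.relIndex N := by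
      rw [h2, h1, ← h3, ← h4, inf_comm]
      ring
    exact Nat.eq_of_mul_eq_mul_left hpos this
  rw [← h5]
  exact Subgroup.relIndex_dvd_index_of_le le_sup_left

theorem centralizer_subgroupOf {G : Type*} [Group G] (N : Subgroup G) (x : N) :
    centralizer ({x} : Set N) = (centralizer ({(x : G)} : Set G)).subgroupOf N := by
  ext y
  rw [Subgroup.mem_subgroupOf, Subgroup.mem_centralizer_singleton_iff,
    Subgroup.mem_centralizer_singleton_iff]
  constructor
  · intro h
    have := congrArg Subtype.val h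
    simpa using this
  · intro h
    apply Subtype.ext
    simpa using h

theorem star_normal {G : Type*} [Group G] [Finite G] {p : ℕ} (hp : p.Prime) (N : Subgroup G)
    [N.Normal] (h : Star p G) : Star p N := by
  intro x hx
  have hx' : (orderOf (x : G)).Coprime p := by
    rwa [Subgroup.orderOf_coe]
  obtain ⟨k, hk⟩ := h (x : G) hx'
  have h1 : (centralizer ({x} : Set N)).index = (centralizer ({(x : G)} : Set G)).relIndex N := by
    rw [centralizer_subgroupOf]
    rfl
  have h2 := relIndex_dvd_index_of_normal_right (centralizer ({(x : G)} : Set G)) N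
  rw [hk, ← h1] at h2
  obtain ⟨j, _, hj⟩ := (Nat.dvd_prime_pow hp).1 h2
  exact ⟨j, hj⟩

theorem exists_lift {G : Type*} [Group G] [Finite G] {p : ℕ} [Fact p.Prime] (N : Subgroup G)
    [N.Normal] (x : G ⧸ N) (hx : (orderOf x).Coprime p) :
    ∃ b : G, (QuotientGroup.mk' N) b = x ∧ (orderOf b).Coprime p := by
  have hp : p.Prime := Fact.out
  obtain ⟨y, rfl⟩ := QuotientGroup.mk'_surjective N x
  obtain ⟨a, b, hab, -, ⟨k, hk⟩, hb, ha, -⟩ := exists_p_decomp p y
  refine ⟨b, ?_, hb⟩
  have h1 : orderOf ((QuotientGroup.mk' N) a) ∣ p ^ k := by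
    rw [← hk]
    exact orderOf_map_dvd _ a
  have h2 : orderOf ((QuotientGroup.mk' N) a) ∣ orderOf ((QuotientGroup.mk' N) y) := by
    obtain ⟨i, hi⟩ := Subgroup.mem_zpowers_iff.1 ha
    rw [← hi, map_zpow]
    exact orderOf_dvd_of_pow_eq_one (by
      rw [← zpow_natCast, ← zpow_mul, mul_comm, zpow_mul, zpow_natCast, pow_orderOf_eq_one, one_zpow])
  have h3 : orderOf ((QuotientGroup.mk' N) a) = 1 := by
    have hc : (orderOf ((QuotientGroup.mk' N) a)).Coprime (p ^ k) :=
      Nat.Coprime.pow_right k (Nat.Coprime.coprime_dvd_left h2 hx)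
    exact Nat.Coprime.eq_one_of_dvd hc h1
  rw [orderOf_eq_one_iff] at h3
  rw [hab, map_mul, h3, one_mul]

theorem map_centralizer_le {G H : Type*} [Group G] [Group H] (f : G →* H) (b : G) :
    (centralizer ({b} : Set G)).map f ≤ centralizer ({f b} : Set H) := by
  rintro _ ⟨c, hc, rfl⟩
  rw [SetLike.mem_coe, Subgroup.mem_centralizer_singleton_iff] at hc
  rw [Subgroup.mem_centralizer_singleton_iff, ← map_mul, ← map_mul, hc]

theorem star_quotient {G : Type*} [Group G] [Finite G] {p : ℕ} [Fact p.Prime] (N : Subgroup G)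
    [N.Normal] (h : Star p G) : Star p (G ⧸ N) := by
  have hp : p.Prime := Fact.out
  intro x hx
  obtain ⟨b, rfl, hb⟩ := exists_lift N x hx
  obtain ⟨k, hk⟩ := h b hb
  have h1 := Subgroup.index_dvd_of_le (map_centralizer_le (QuotientGroup.mk' N) b)
  have h2 := Subgroup.index_map_dvd (centralizer ({b} : Set G)) (QuotientGroup.mk'_surjective N)
  have h3 := dvd_trans h1 h2
  rw [hk] at h3
  obtain ⟨j, _, hj⟩ := (Nat.dvd_prime_pow hp).1 h3
  exact ⟨j, hj⟩

theorem isPGroup_of_no_regular {G : Type*} [Group G] [Finite G] {p : ℕ} [Fact p.Prime]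
    (h : ∀ x : G, (orderOf x).Coprime p → x = 1) : IsPGroup p G := by
  intro g
  obtain ⟨a, b, hab, -, ⟨k, hk⟩, hb, -, -⟩ := exists_p_decomp p g
  refine ⟨k, ?_⟩
  rw [hab, h b hb, mul_one, ← hk, pow_orderOf_eq_one]

theorem star_solvable.{u} (p : ℕ) [Fact p.Prime] : ∀ (n : ℕ) (G : Type u) [Group G] [Finite G],
    Nat.card G = n → Star p G → Group.IsSolvable G := by
  have hp : p.Prime := Fact.out
  intro n
  induction n using Nat.strong_induction_on with
  | _ n ih =>
    intro G _ _ hn hS
    by_cases hs : ∃ N : Subgroup G, N.Normal ∧ N ≠ ⊥ ∧ N ≠ ⊤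
    · obtain ⟨N, hN, hbot, htop⟩ := hs
      have hdvd : Nat.card N ∣ Nat.card G := Subgroup.card_subgroup_dvd_card N
      have hlt1 : Nat.card N < n := by
        rw [← hn]
        apply lt_of_le_of_ne (Nat.le_of_dvd Nat.card_pos hdvd)
        intro e
        exact htop ((Subgroup.card_eq_iff_eq_top N).1 e)
      have hmul : N.index * Nat.card N = Nat.card G := Subgroup.index_mul_card N
      have hN1 : 1 < Nat.card N := by
        rw [Subgroup.one_lt_card_iff_ne_bot]
        exact hbot
      have hlt2 : Nat.card (G ⧸ N) < n := by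
        rw [← hn, ← hmul]
        show N.index < _
        have hipos : 0 < N.index := Nat.pos_of_ne_zero (Subgroup.index_ne_zero_of_finite)
        nlinarith
      have h1 : Group.IsSolvable N := ih _ hlt1 N rfl (star_normal hp N hS)
      have h2 : Group.IsSolvable (G ⧸ N) := ih _ hlt2 (G ⧸ N) rfl (star_quotient N hS)
      apply Group.isSolvable_of_ker_le_range N.subtype (QuotientGroup.mk' N)
      rw [QuotientGroup.ker_mk', Subgroup.range_subtype]
    · push Not at hs
      rcases subsingleton_or_nontrivial G with hsub | hnt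
      · infer_instance
      · have hsimple : IsSimpleGroup G := by
          refine ⟨?_⟩
          intro H hH
          by_contra hc
          push Not at hc
          exact hc.2 (hs H hH hc.1)
        by_cases hx : ∃ x : G, x ≠ 1 ∧ (orderOf x).Coprime p
        · obtain ⟨x, hx1, hxp⟩ := hx
          obtain ⟨k, hk⟩ := hS x hxp
          have hprime := Cfsg.Agent.S0143.result p k hp x hx1 hk
          have : Fact (Nat.card G).Prime := ⟨hprime⟩
          have hcyc : IsCyclic G := isCyclic_of_prime_card rfl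
          let _ : CommGroup G := IsCyclic.commGroup
          infer_instance
        · push Not at hx
          have hpg : IsPGroup p G := isPGroup_of_no_regular (fun x hx' => by
            by_contra hne
            exact hx x hne hx')
          have := hpg.isNilpotent
          infer_instance

theorem core_le_centralizer {G : Type*} [Group G] [Finite G] {p : ℕ} [Fact p.Prime]
    (hS : Star p G) (x : G) (hx : (orderOf x).Coprime p) :
    Cfsg.pPrimeCore p G ≤ centralizer ({x} : Set G) := by
  have hp : p.Prime := Fact.out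
  have hn : (Cfsg.pPrimeCore p G).Normal := pPrimeCore_normal p
  obtain ⟨k, hk⟩ := hS x hx
  have h1 := relIndex_dvd_index_of_normal_right (centralizer ({x} : Set G)) (Cfsg.pPrimeCore p G)
  rw [hk] at h1
  have h2 : (centralizer ({x} : Set G)).relIndex (Cfsg.pPrimeCore p G) ∣
      Nat.card (Cfsg.pPrimeCore p G) := Subgroup.index_dvd_card _
  have h3 := pPrimeCore_card_coprime (G := G) p
  have h4 : ((centralizer ({x} : Set G)).relIndex (Cfsg.pPrimeCore p G)).Coprime (p ^ k) :=
    Nat.Coprime.pow_right k (Nat.Coprime.coprime_dvd_left h2 h3)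
  have h5 := Nat.Coprime.eq_one_of_dvd h4 h1
  exact Subgroup.relIndex_eq_one.1 h5

theorem core_coprime_of_mem {G : Type*} [Group G] [Finite G] {p : ℕ} (a : G)
    (ha : a ∈ Cfsg.pPrimeCore p G) : (orderOf a).Coprime p := by
  have h1 : orderOf (⟨a, ha⟩ : Cfsg.pPrimeCore p G) ∣ Nat.card (Cfsg.pPrimeCore p G) :=
    orderOf_dvd_natCard _
  rw [Subgroup.orderOf_mk] at h1
  exact Nat.Coprime.coprime_dvd_left h1 (pPrimeCore_card_coprime p)

theorem core_case {G : Type*} [Group G] [Finite G] {p : ℕ} [Fact p.Prime]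
    [Group.IsSolvable G] (hS : Star p G) (hO : Cfsg.pCore p G = ⊥) :
    IsMulCommutative (Cfsg.pPrimeCore p G) ∧ ¬ p ∣ Nat.card (Cfsg.pPrimeCore p G) ∧
      ∃ k : ℕ, (Cfsg.pPrimeCore p G).index = p ^ k := by
  have hp : p.Prime := Fact.out
  have hn : (Cfsg.pPrimeCore p G).Normal := pPrimeCore_normal p
  have hcomm : ∀ a ∈ Cfsg.pPrimeCore p G, ∀ b ∈ Cfsg.pPrimeCore p G, a * b = b * a := by
    intro a ha b hb
    have h1 := core_le_centralizer hS a (core_coprime_of_mem a ha) hb
    rw [Subgroup.mem_centralizer_singleton_iff] at h1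
    exact h1.symm
  have hab : IsMulCommutative (Cfsg.pPrimeCore p G) :=
    ⟨⟨fun a b => Subtype.ext (hcomm a a.2 b b.2)⟩⟩
  refine ⟨hab, ?_, ?_⟩
  · have h3 := pPrimeCore_card_coprime (G := G) p
    intro hdvd
    have := Nat.Coprime.eq_one_of_dvd h3.symm hdvd
    exact hp.one_lt.ne' this
  · have hnil : Group.IsNilpotent (Cfsg.pPrimeCore p G) := by
      let _ : CommGroup (Cfsg.pPrimeCore p G) :=
        { (inferInstance : Group (Cfsg.pPrimeCore p G)) with
          mul_comm := fun a b => Subtype.ext (hcomm a a.2 b b.2) }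
      infer_instance
    have hF : Cfsg.fittingSubgroup G = Cfsg.pPrimeCore p G := by
      apply le_antisymm
      · rw [fittingSubgroup_eq_iSup_pCore]
        apply iSup_le
        intro q
        by_cases hqp : (q : ℕ) = p
        · rw [hqp, hO]
          exact bot_le
        · exact pCore_le_pPrimeCore_of_ne hp q.2 hqp
      · exact le_fittingSubgroup hn hnil
    have hreg : ∀ x : G, (orderOf x).Coprime p → x ∈ Cfsg.pPrimeCore p G := by
      intro x hx
      have h1 := core_le_centralizer hS x hx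
      have h2 : x ∈ centralizer (Cfsg.fittingSubgroup G : Set G) := by
        rw [hF, Subgroup.mem_centralizer_iff]
        intro h hh
        have := h1 hh
        rw [Subgroup.mem_centralizer_singleton_iff] at this
        exact this
      have h3 := centralizer_fittingSubgroup_le (G := G) h2
      rwa [hF] at h3
    have hpg : IsPGroup p (G ⧸ Cfsg.pPrimeCore p G) := by
      intro g
      obtain ⟨g, rfl⟩ := QuotientGroup.mk_surjective g
      obtain ⟨a, b, hab', -, ⟨k, hk⟩, hb, -, -⟩ := exists_p_decomp p g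
      refine ⟨k, ?_⟩
      have hb' := hreg b hb
      have h1 : (QuotientGroup.mk g : G ⧸ Cfsg.pPrimeCore p G) = QuotientGroup.mk a := by
        rw [hab', QuotientGroup.mk_mul, (QuotientGroup.eq_one_iff b).2 hb', mul_one]
      rw [h1, ← QuotientGroup.mk_pow, ← hk, pow_orderOf_eq_one, QuotientGroup.mk_one]
    obtain ⟨k, hk⟩ := IsPGroup.iff_card.1 hpg
    exact ⟨k, by rw [Subgroup.index_eq_card, hk]⟩

theorem exists_internal_complement {G : Type*} [Group G] [Finite G] (V N : Subgroup G)
    (hVN : V ≤ N)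
    (hNV : N ≤ Subgroup.normalizer (V : Set G)) (hcop : (Nat.card V).Coprime (V.relIndex N)) :
    ∃ K : Subgroup G, K ≤ N ∧ V ⊓ K = ⊥ ∧ V ⊔ K = N ∧ Nat.card K = V.relIndex N := by
  have hnorm : (V.subgroupOf N).Normal :=
    (Subgroup.normal_subgroupOf_iff_le_normalizer hVN).mpr hNV
  have hcard : Nat.card (V.subgroupOf N) = Nat.card V :=
    Nat.card_congr (Subgroup.subgroupOfEquivOfLe hVN).toEquiv
  have hcop' : (Nat.card (V.subgroupOf N)).Coprime (V.subgroupOf N).index := by
    rw [hcard]; exact hcop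
  obtain ⟨K', hK'⟩ := Subgroup.exists_right_complement'_of_coprime hcop'
  refine ⟨K'.map N.subtype, Subgroup.map_subtype_le K', ?_, ?_, ?_⟩
  · rw [eq_bot_iff]
    rintro x ⟨hxV, k, hk, rfl⟩
    have hkV : k ∈ V.subgroupOf N := hxV
    have hbot := hK'.disjoint.eq_bot
    have : k ∈ V.subgroupOf N ⊓ K' := ⟨hkV, hk⟩
    rw [hbot, Subgroup.mem_bot] at this
    rw [this]; simp
  · have h1 := hK'.sup_eq_top
    have h2 := congrArg (Subgroup.map N.subtype) h1
    rw [Subgroup.map_sup, Subgroup.subgroupOf_map_subtype, inf_eq_left.mpr hVN,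
      ← MonoidHom.range_eq_map, Subgroup.range_subtype] at h2
    exact h2
  · rw [Subgroup.card_map_of_injective N.subtype_injective]
    exact hK'.symm.index_eq_card.symm

theorem pCore_quotient_pCore {G : Type*} [Group G] [Finite G] (p : ℕ) [Fact p.Prime]
    (N : Subgroup G) [N.Normal] (hN : N = Cfsg.pCore p G) : Cfsg.pCore p (G ⧸ N) = ⊥ := by
  have hQn : (Cfsg.pCore p (G ⧸ N)).Normal := pCore_normal p
  have hQp : IsPGroup p (Cfsg.pCore p (G ⧸ N)) := pCore_isPGroup p
  have hNp : IsPGroup p N := by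
    rw [hN]
    exact pCore_isPGroup p
  have h1 : IsPGroup p ((Cfsg.pCore p (G ⧸ N)).comap (QuotientGroup.mk' N)) := by
    apply hQp.comap_of_ker_isPGroup
    rw [QuotientGroup.ker_mk']
    exact hNp
  have h2 : (Cfsg.pCore p (G ⧸ N)).comap (QuotientGroup.mk' N) ≤ N := by
    have h2' : (Cfsg.pCore p (G ⧸ N)).comap (QuotientGroup.mk' N) ≤ Cfsg.pCore p G :=
      le_pCore (hQn.comap _) h1
    exact le_trans h2' (le_of_eq hN.symm)
  rw [eq_bot_iff]
  intro y hy
  obtain ⟨x, rfl⟩ := QuotientGroup.mk'_surjective N y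
  have h3 : x ∈ N := h2 hy
  rw [Subgroup.mem_bot]
  exact (QuotientGroup.eq_one_iff x).2 h3

theorem general_case {G : Type*} [Group G] [Finite G] {p : ℕ} [Fact p.Prime]
    [Group.IsSolvable G] (hS : Star p G) :
    ∃ H : Subgroup G, IsMulCommutative H ∧ ¬ p ∣ Nat.card H ∧ ∃ k : ℕ, H.index = p ^ k := by
  have hp : p.Prime := Fact.out
  obtain ⟨N, hNdef⟩ : ∃ N : Subgroup G, N = Cfsg.pCore p G := ⟨_, rfl⟩
  have hNn : N.Normal := by
    rw [hNdef]
    exact pCore_normal p
  have hNp : IsPGroup p N := by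
    rw [hNdef]
    exact pCore_isPGroup p
  have hO := pCore_quotient_pCore p N hNdef
  obtain ⟨hab, hnd, k, hk⟩ := core_case (G := G ⧸ N) (star_quotient N hS) hO
  obtain ⟨Lb, hLb⟩ : ∃ Lb : Subgroup (G ⧸ N), Lb = Cfsg.pPrimeCore p (G ⧸ N) := ⟨_, rfl⟩
  rw [← hLb] at hab hnd hk
  set L := Lb.comap (QuotientGroup.mk' N) with hL
  have hNL : N ≤ L := by
    intro x hx
    rw [hL, Subgroup.mem_comap]
    have : (QuotientGroup.mk' N) x = 1 := (QuotientGroup.eq_one_iff x).2 hx
    rw [this]
    exact Subgroup.one_mem _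
  have hmap : L.map (QuotientGroup.mk' N) = Lb :=
    Subgroup.map_comap_eq_self_of_surjective (QuotientGroup.mk'_surjective N) Lb
  have hrel : N.relIndex L = Nat.card Lb := by
    rw [← hmap, card_map_mk']
  obtain ⟨a, ha⟩ := IsPGroup.iff_card.1 hNp
  have hcop : (Nat.card N).Coprime (N.relIndex L) := by
    rw [ha, hrel]
    apply Nat.Coprime.pow_left
    exact (Nat.Prime.coprime_iff_not_dvd hp).2 hnd
  have hLnorm : L ≤ Subgroup.normalizer (N : Set G) := by
    rw [Subgroup.normalizer_eq_top]
    exact le_top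
  obtain ⟨K, hKL, hdis, -, hcardK⟩ := exists_internal_complement N L hNL hLnorm hcop
  have hcomm : ∀ x ∈ K, ∀ y ∈ K, x * y = y * x := by
    intro x hx y hy
    have hx' : (QuotientGroup.mk' N) x ∈ Lb := hKL hx
    have hy' : (QuotientGroup.mk' N) y ∈ Lb := hKL hy
    have h1 : (⟨_, hx'⟩ : Lb) * ⟨_, hy'⟩ = ⟨_, hy'⟩ * ⟨_, hx'⟩ :=
      (isMulCommutative_iff.1 hab) _ _
    have h2 : (QuotientGroup.mk' N) x * (QuotientGroup.mk' N) y =
        (QuotientGroup.mk' N) y * (QuotientGroup.mk' N) x := congrArg Subtype.val h1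
    have h3 : (QuotientGroup.mk' N) (x * y * (y * x)⁻¹) = 1 := by
      rw [map_mul, map_mul, map_inv, map_mul, h2, mul_inv_cancel]
    have h4 : x * y * (y * x)⁻¹ ∈ N := (QuotientGroup.eq_one_iff _).1 h3
    have h5 : x * y * (y * x)⁻¹ ∈ K :=
      K.mul_mem (K.mul_mem hx hy) (K.inv_mem (K.mul_mem hy hx))
    have h6 : x * y * (y * x)⁻¹ ∈ N ⊓ K := ⟨h4, h5⟩
    rw [hdis, Subgroup.mem_bot] at h6
    exact mul_inv_eq_one.1 h6
  refine ⟨K, ⟨⟨fun x y => Subtype.ext (hcomm x x.2 y y.2)⟩⟩, ?_, a + k, ?_⟩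
  · rw [hcardK, hrel]
    exact hnd
  · have e1 : K.index * Nat.card K = Nat.card G := Subgroup.index_mul_card K
    have e2 : N.index * Nat.card N = Nat.card G := Subgroup.index_mul_card N
    have e3 : Lb.index * Nat.card Lb = Nat.card (G ⧸ N) := Subgroup.index_mul_card Lb
    have e4 : Nat.card (G ⧸ N) = N.index := (Subgroup.index_eq_card N).symm
    have hKpos : 0 < Nat.card K := Nat.card_pos
    have : K.index * Nat.card K = p ^ (a + k) * Nat.card K := by
      rw [e1, ← e2, ← e4, ← e3, hk, ha, hcardK, hrel, pow_add]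
      ring
    exact Nat.eq_of_mul_eq_mul_right hKpos this

theorem exists_sylow_in_hall {G : Type*} [Group G] [Finite G] {p : ℕ} (hp : p.Prime)
    (H : Subgroup G) (k : ℕ) (hk : H.index = p ^ k) (q : ℕ) [Fact q.Prime] (hq : q ≠ p) :
    ∃ S : Subgroup G, S ≤ H ∧ IsPGroup q S ∧ ¬ q ∣ S.index := by
  have hqp : q.Prime := Fact.out
  obtain ⟨S0⟩ : Nonempty (Sylow q H) := inferInstance
  refine ⟨(S0 : Subgroup H).map H.subtype, Subgroup.map_subtype_le _, ?_, ?_⟩
  · exact S0.2.map H.subtype
  · rw [Subgroup.index_map_subtype, hk]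
    intro hdvd
    rcases (Nat.Prime.dvd_mul hqp).1 hdvd with h | h
    · exact S0.not_dvd_index h
    · exact hq ((Nat.prime_dvd_prime_iff_eq hqp hp).1 (hqp.dvd_of_dvd_pow h))

theorem conj_into_hall {G : Type*} [Group G] [Finite G] {p : ℕ} (hp : p.Prime)
    (H : Subgroup G) (hab : IsMulCommutative H) (k : ℕ) (hk : H.index = p ^ k) :
    ∀ (n : ℕ) (x : G), orderOf x = n → (orderOf x).Coprime p → ∃ g : G, g * x * g⁻¹ ∈ H := by
  intro n
  induction n using Nat.strong_induction_on with
  | _ n ih =>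
    intro x hn hx
    by_cases h1 : orderOf x = 1
    · rw [orderOf_eq_one_iff] at h1
      exact ⟨1, by rw [h1]; simp⟩
    · obtain ⟨q, hqprime, hqdvd⟩ := Nat.exists_prime_and_dvd h1
      have : Fact q.Prime := ⟨hqprime⟩
      have hqp : q ≠ p := by
        rintro rfl
        have := Nat.Coprime.eq_one_of_dvd hx.symm hqdvd
        exact hqprime.one_lt.ne' this
      obtain ⟨a, b, hab', hcomm, ⟨j, hj⟩, hb, ha, hbz⟩ := exists_p_decomp q x
      have hbdvd : orderOf b ∣ orderOf x := by
        obtain ⟨i, hi⟩ := Subgroup.mem_zpowers_iff.1 hbz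
        rw [← hi]
        exact orderOf_dvd_of_pow_eq_one (by
          rw [← zpow_natCast, ← zpow_mul, mul_comm, zpow_mul, zpow_natCast, pow_orderOf_eq_one,
            one_zpow])
      have hblt : orderOf b < n := by
        rw [← hn]
        apply lt_of_le_of_ne (Nat.le_of_dvd (orderOf_pos x) hbdvd)
        intro e
        rw [e] at hb
        have := Nat.Coprime.eq_one_of_dvd hb.symm hqdvd
        exact hqprime.one_lt.ne' this
      have hbp : (orderOf b).Coprime p := Nat.Coprime.coprime_dvd_left hbdvd hx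
      obtain ⟨g, hg⟩ := ih (orderOf b) hblt b rfl hbp
      set b' := g * b * g⁻¹ with hb'
      set a' := g * a * g⁻¹ with ha'
      have hcomm' : a' * b' = b' * a' := by
        have := hcomm.eq
        rw [ha', hb']
        calc g * a * g⁻¹ * (g * b * g⁻¹) = g * (a * b) * g⁻¹ := by group
          _ = g * (b * a) * g⁻¹ := by rw [this]
          _ = g * b * g⁻¹ * (g * a * g⁻¹) := by group
      have horda : orderOf a' = q ^ j := by
        rw [← hj, ha']
        have hs : SemiconjBy g a (g * a * g⁻¹) := by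
          unfold SemiconjBy; group
        exact (hs.orderOf_eq).symm
      obtain ⟨S, hSH, hSq, hSidx⟩ := exists_sylow_in_hall hp H k hk q hqp
      have hHN : H ≤ centralizer ({b'} : Set G) := by
        intro h hh
        rw [Subgroup.mem_centralizer_singleton_iff]
        have := (isMulCommutative_iff.1 hab) ⟨h, hh⟩ ⟨b', hg⟩
        exact congrArg Subtype.val this
      have haN : a' ∈ centralizer ({b'} : Set G) := by
        rw [Subgroup.mem_centralizer_singleton_iff]
        exact hcomm'
      have hidx : ¬ q ∣ S.relIndex (centralizer ({b'} : Set G)) := by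
        intro hd
        exact hSidx (dvd_trans hd (Subgroup.relIndex_dvd_index_of_le (le_trans hSH hHN)))
      obtain ⟨c, hc, hca⟩ := exists_conj_mem_of_pelement q (centralizer ({b'} : Set G)) S hSq hidx
        a' haN j horda
      rw [Subgroup.mem_centralizer_singleton_iff] at hc
      refine ⟨c⁻¹ * g, ?_⟩
      have e1 : c⁻¹ * g * x * (c⁻¹ * g)⁻¹ = (c⁻¹ * a' * c) * (c⁻¹ * b' * c) := by
        rw [hab', ha', hb']
        group
      have e2 : c⁻¹ * b' * c = b' := by
        rw [mul_assoc, ← hc, ← mul_assoc, inv_mul_cancel, one_mul]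
      rw [e1, e2]
      exact H.mul_mem (hSH hca) hg

/-- Let G be a finite group and p a prime. Every conjugacy class of p-regular elements of G (elements of order prime to p) has p-power size if and only if G has an abelian p-complement, i.e. an abelian subgroup of order prime to p and p-power index. -/
theorem result {G : Type*} [Group G] [Finite G] {p : ℕ} (hp : p.Prime) :
    (∀ x : G, (orderOf x).Coprime p → ∃ k : ℕ, (ConjClasses.mk x).carrier.ncard = p ^ k) ↔
    (∃ H : Subgroup G, IsMulCommutative H ∧ ¬ p ∣ Nat.card H ∧ ∃ k : ℕ, H.index = p ^ k) := by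
  have : Fact p.Prime := ⟨hp⟩
  constructor
  · intro h
    have hS : Star p G := by
      intro x hx
      obtain ⟨k, hk⟩ := h x hx
      rw [conjClass_ncard'] at hk
      exact ⟨k, hk⟩
    have hsol : Group.IsSolvable G := star_solvable p _ G rfl hS
    exact general_case hS
  · rintro ⟨H, hab, -, k, hk⟩ x hx
    obtain ⟨g, hg⟩ := conj_into_hall hp H hab k hk _ x rfl hx
    have hle : H ≤ centralizer ({g * x * g⁻¹} : Set G) := by
      intro h hh
      rw [Subgroup.mem_centralizer_singleton_iff]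
      have := (isMulCommutative_iff.1 hab) ⟨h, hh⟩ ⟨_, hg⟩
      exact congrArg Subtype.val this
    have h1 := Subgroup.index_dvd_of_le hle
    rw [hk, index_centralizer_conj] at h1
    obtain ⟨j, -, hj⟩ := (Nat.dvd_prime_pow hp).1 h1
    exact ⟨j, by rw [conjClass_ncard', hj]⟩

end Cfsg.Agent.S4034
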