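import Mathlib
import Cfsg.Statements.S0596
import Cfsg.Agent.S0594
import Cfsg.Agent.Lib.Helper5.QuadSep

set_option autoImplicit false
open Cfsg
open scoped commutatorElement

namespace Cfsg.Agent.S0596

open Cfsg.Agent.Lib.Helper5

theorem result {G : Type*} [Group G] [Finite G] {p : ℕ} [Fact p.Prime] (hp : p ≠ 2) (V H : Subgroup G) (hV : Cfsg.IsElementaryAbelian p V) (hHV : H ≤ Subgroup.normalizer (V : Set G)) (hf : H ⊓ Subgroup.centralizer (V : Set G) = ⊥) (hsep : Cfsg.IsPSolvable p H) (a : G) (haH : a ∈ H) (hq : ⁅⁅V, Subgroup.zpowers a⁆, Subgroup.zpowers a⁆ = ⊥) (hna : a ∉ (Cfsg.pCore p H).map H.subtype) : p = 3 ∧ ∃ (K L : Subgroup G) (hL : (L.subgroupOf K).Normal), K ≤ H ∧ Nonempty ((K ⧸ L.subgroupOf K) ≃* Matrix.SpecialLinearGroup (Fin 2) (ZMod 3)) := by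
  obtain ⟨hVc, hVp⟩ := hV
  letI : CommGroup ↥V := { (inferInstance : Group ↥V) with
    mul_comm := fun u v => hVc.is_comm.comm u v }
  have hE : ∀ v : V, v ^ p = 1 := by
    intro v
    apply Subtype.ext
    rw [Subgroup.coe_pow, Subgroup.coe_one]
    exact hVp v v.2
  have hinj : Function.Injective (S0593.conjAut V H hHV) := by
    rw [injective_iff_map_eq_one]
    intro g hg
    have hgc : (g : G) ∈ H ⊓ Subgroup.centralizer (V : Set G) := by
      refine ⟨g.2, (?_ : (g : G) ∈ Subgroup.centralizer (V : Set G))⟩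
      rw [Subgroup.mem_centralizer_iff]
      intro v hv
      have h1 := congrArg (fun f : MulAut ↥V => ((f ⟨v, hv⟩ : V) : G)) hg
      simp only [S0593.conjAut_apply, MulAut.one_apply] at h1
      calc v * (g : G) = ((g : G) * v * (g : G)⁻¹) * (g : G) := by rw [h1]
        _ = (g : G) * v := by group
    rw [hf, Subgroup.mem_bot] at hgc
    exact Subtype.ext hgc
  have hquad : QuadA (S0593.conjAut V H hHV) ⟨a, haH⟩ := by
    intro v
    have hq' := hq
    rw [S0623.quad_iff] at hq'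
    have h1 := hq' v v.2 1
    rw [zpow_one] at h1
    apply Subtype.ext
    rw [S0593.conjAut_apply, Subgroup.coe_div, S0593.conjAut_apply]
    show a * (a * v * a⁻¹ / v) * a⁻¹ = a * v * a⁻¹ / v
    have h2 : a * (v : G) * a⁻¹ / v = ⁅(v : G), a⁆⁻¹ := by
      rw [commutatorElement_def, div_eq_mul_inv]; group
    rw [h2]
    have h3 : Commute (⁅(v : G), a⁆⁻¹) a := h1.inv_left
    rw [← h3.eq]
    group
  letI : Module (ZMod p) (Additive ↥V) := AddCommGroup.zmodModule (n := p) (by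
    intro v
    show Additive.ofMul (v.toMul ^ p) = 0
    rw [hE]; rfl)
  have hxO : (⟨a, haH⟩ : H) ∉ Cfsg.pCore p H := by
    intro h
    exact hna ⟨⟨a, haH⟩, h, rfl⟩
  obtain ⟨h3, Y, f, hfs⟩ := abs596 hp (S0593.conjAut V H hHV) hinj hsep ⟨a, haH⟩ hquad hxO
  exact ⟨h3, S0594.section_of_surj H Y f hfs⟩

end Cfsg.Agent.S0596
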