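import Mathlib
import Cfsg.Statements.S0614
import Cfsg.Agent.Lib.Helper5.FF5

set_option autoImplicit false
open Cfsg

namespace Cfsg.Agent.S0614

open Cfsg.Agent.Lib.Helper5
open scoped commutatorElement

theorem nonabelian_aux {G : Type*} [Group G] [Finite G] {V H A : Subgroup G}
    (hM : MinOff 3 V H A) :
    IsPGroup 2 ↥(⁅ffK 3 H, A⁆) ∧ ¬ IsMulCommutative ↥(⁅ffK 3 H, A⁆) := by
  haveI : Fact (Nat.Prime 2) := ⟨Nat.prime_two⟩
  obtain ⟨x, hxK, hxA⟩ := hM.exists_not_cent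
  have hB := hM.conj (ffK_le H hxK)
  have hBA := hM.conj_le_sup hxK
  have hne := hM.conj_ne hxK hxA
  have hQ := hM.comm_ffK_eq hxK hxA
  have hcE := MinOff.card_sup_pair hM hB hBA
  have hcE' := MinOff.card_pair hM hB hBA hne
  rw [card_sl23] at hcE'
  rw [hcE', ← hQ] at hcE
  have hcQ : Nat.card ↥(⁅ffK 3 H, A⁆) = 8 := by omega
  have hP : IsPGroup 2 ↥(⁅ffK 3 H, A⁆) := IsPGroup.of_card (n := 3) (by rw [hcQ]; norm_num)
  refine ⟨hP, ?_⟩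
  intro hcomm
  obtain ⟨a, haA, ha1, haz⟩ := hM.exists_gen
  obtain ⟨b, hbB, hb1, hbz⟩ := hB.exists_gen
  have hEH : A ⊔ A.map (MulAut.conj x).toMonoidHom ≤ H := sup_le hM.hAH hB.hAH
  have hfE : (A ⊔ A.map (MulAut.conj x).toMonoidHom) ⊓ Subgroup.centralizer (V : Set G) = ⊥ := by
    rw [eq_bot_iff, ← hM.hf]; exact inf_le_inf_right _ hEH
  have hQE : ⁅ffK 3 H, A⁆ ≤ A ⊔ A.map (MulAut.conj x).toMonoidHom := by
    rw [hQ]; exact inf_le_left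
  have hcard : Nat.card ↥((⁅ffK 3 H, A⁆).subgroupOf (A ⊔ A.map (MulAut.conj x).toMonoidHom)) =
      2 ^ (Nat.card ↥(A ⊔ A.map (MulAut.conj x).toMonoidHom)).factorization 2 := by
    rw [hcE', factorization_24_2]
    rw [Nat.card_congr (Subgroup.subgroupOfEquivOfLe hQE).toEquiv, hcQ]
    norm_num
  have hres := Cfsg.Agent.S0593.result (p := 3) (by norm_num) V
    (A ⊔ A.map (MulAut.conj x).toMonoidHom) hM.hV (hEH.trans hM.hHV) hfE a b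
    (MinOff.sup_eq_closure_pair haz hbz) (hM.quad_gen haz) (hB.quad_gen hbz)
    (MinOff.not_isPGroup_sup hM hB hBA hne) (Sylow.ofCard _ hcard)
  apply hres
  refine ⟨⟨fun u v => ?_⟩⟩
  have h1 := hcomm.is_comm.comm (⟨(u : ↥(A ⊔ A.map (MulAut.conj x).toMonoidHom)), u.2⟩ :
    ↥(⁅ffK 3 H, A⁆)) ⟨(v : ↥(A ⊔ A.map (MulAut.conj x).toMonoidHom)), v.2⟩
  have h2 : ((u : ↥(A ⊔ A.map (MulAut.conj x).toMonoidHom)) : G) *
      ((v : ↥(A ⊔ A.map (MulAut.conj x).toMonoidHom)) : G) =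
      ((v : ↥(A ⊔ A.map (MulAut.conj x).toMonoidHom)) : G) *
      ((u : ↥(A ⊔ A.map (MulAut.conj x).toMonoidHom)) : G) := congrArg Subtype.val h1
  apply Subtype.ext
  apply Subtype.ext
  exact h2

theorem result {G : Type*} [Group G] [Finite G] {p : ℕ} [Fact p.Prime] (V H : Subgroup G) (hV : Cfsg.IsElementaryAbelian p V) (hHV : H ≤ Subgroup.normalizer (V : Set G)) (hf : H ⊓ Subgroup.centralizer (V : Set G) = ⊥) (hS1 : Subgroup.centralizer (Cfsg.pPrimeCore p ↥H : Set ↥H) ≤ Cfsg.pPrimeCore p ↥H) (hS3 : H = ⨆ A : {A : Subgroup G // A ≤ H ∧ Cfsg.IsBestOffenderOn p V A}, (A : Subgroup G)) (hH1 : H ≠ ⊥) (A : Subgroup G) (hAH : A ≤ H) (hA : Cfsg.IsBestOffenderOn p V A) (hAV : ⁅V, A⁆ ≠ ⊥) (hmin : ∀ B : Subgroup G, B ≤ A → Cfsg.IsBestOffenderOn p V B → ⁅V, B⁆ ≠ ⊥ → B = A) : (p = 2 ∧ IsPGroup 3 ↥(⁅((Cfsg.pPrimeCore p ↥H).map H.subtype), A⁆)) ∨ (p = 3 ∧ IsPGroup 2 ↥(⁅((Cfsg.pPrimeCore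 p ↥H).map H.subtype), A⁆) ∧ ¬ IsMulCommutative ↥(⁅((Cfsg.pPrimeCore p ↥H).map H.subtype), A⁆)) := by
  have hM : MinOff p V H A := ⟨hV, hHV, hf, hS1, hAH, hA, hAV, hmin⟩
  obtain ⟨x, hxK, hxA⟩ := hM.exists_not_cent
  have hB := hM.conj (ffK_le H hxK)
  have hBA := hM.conj_le_sup hxK
  have hne := hM.conj_ne hxK hxA
  rcases MinOff.prime_two_or_three hM hB hBA hne with h2 | h3
  · left
    subst h2
    refine ⟨rfl, ?_⟩
    haveI : Fact (Nat.Prime 3) := ⟨Nat.prime_three⟩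
    have hQ := hM.comm_ffK_eq hxK hxA
    have hcE := MinOff.card_sup_pair hM hB hBA
    have hcE' := MinOff.card_pair hM hB hBA hne
    rw [card_sl22] at hcE'
    rw [hcE', ← hQ] at hcE
    have hcQ : Nat.card ↥(⁅ffK 2 H, A⁆) = 3 := by omega
    exact IsPGroup.of_card (n := 1) (by rw [pow_one]; exact hcQ)
  · right
    subst h3
    exact ⟨rfl, nonabelian_aux hM⟩

end Cfsg.Agent.S0614
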