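import Mathlib
import Cfsg.Statements.S0617
import Cfsg.Agent.Lib.Helper5.FF8

set_option autoImplicit false
open Cfsg

namespace Cfsg.Agent.S0617

open Cfsg.Agent.Lib.Helper5
open scoped commutatorElement

abbrev IsE {G : Type*} [Group G] (p : ℕ) (V H E : Subgroup G) : Prop :=
  ∃ A : Subgroup G, A ≤ H ∧ Cfsg.IsBestOffenderOn p V A ∧ ⁅V, A⁆ ≠ ⊥ ∧ (∀ B : Subgroup G, B ≤ A → Cfsg.IsBestOffenderOn p V B → ⁅V, B⁆ ≠ ⊥ → B = A) ∧ E = ⁅((Cfsg.pPrimeCore p ↥H).map H.subtype), A⁆ ⊔ A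

theorem main {G : Type*} [Group G] [Finite G] {p : ℕ} [Fact p.Prime] (V H : Subgroup G) (hV : Cfsg.IsElementaryAbelian p V) (hHV : H ≤ Subgroup.normalizer (V : Set G)) (hf : H ⊓ Subgroup.centralizer (V : Set G) = ⊥) (hS1 : Subgroup.centralizer (Cfsg.pPrimeCore p ↥H : Set ↥H) ≤ Cfsg.pPrimeCore p ↥H) (hS3 : H = ⨆ A : {A : Subgroup G // A ≤ H ∧ Cfsg.IsBestOffenderOn p V A}, (A : Subgroup G)) (hH1 : H ≠ ⊥) : (p = 2 ∨ p = 3) ∧ (∀ E : {E : Subgroup G // IsE p V H E}, H ≤ Subgroup.normalizer ((E : Subgroup G) : Set G) ∧ Nonempty (↥(E : Subgroup G) ≃* Matrix.SpecialLinearGroup (Fin 2) (ZMod p)) ∧ Nat.card ↥(⁅V, (E : Subgroup G)⁆) = p ^ 2) ∧ iSupIndep (fun E : {E : Subgroup G // IsE p V H E} => (E : Subgroup G)) ∧ (⨆ E : {E : Subgroup G // IsE p V H E}, (E : Subgroup G)) = H ∧ iSupIndep (fun o : Option {E : Subgroup G // IsE p V H E} => o.elim (V ⊓ Subgroup.centralizer (H : Set G)) (fun E => ⁅V, (E : Subgroup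 G)⁆)) ∧ (V ⊓ Subgroup.centralizer (H : Set G)) ⊔ (⨆ E : {E : Subgroup G // IsE p V H E}, ⁅V, (E : Subgroup G)⁆) = V := by
  classical
  haveI : Fintype {E : Subgroup G // IsE p V H E} := Fintype.ofFinite _
  have hS : FFSetup p V H := FFSetup.of_hyp hV hHV hf hS1 hS3
  have hVc : ∀ x ∈ V, ∀ y ∈ V, x * y = y * x := fun x hx y hy =>
    congrArg Subtype.val (hV.1.is_comm.comm ⟨x, hx⟩ ⟨y, hy⟩)
  have hE : ∀ E : {E : Subgroup G // IsE p V H E},
      ∃ A, MinOff p V H A ∧ (E : Subgroup G) = ffE p H A := by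
    rintro ⟨E, A, hAH, hA, hAV, hmin, rfl⟩
    exact ⟨A, ⟨hV, hHV, hf, hS1, hAH, hA, hAV, hmin⟩, rfl⟩
  have hEH : ∀ E : {E : Subgroup G // IsE p V H E}, (E : Subgroup G) ≤ H := by
    intro E
    obtain ⟨A, hM, hEA⟩ := hE E
    rw [hEA]; exact hM.E_le
  have hsupE : (⨆ E : {E : Subgroup G // IsE p V H E}, (E : Subgroup G)) = H := by
    apply le_antisymm (iSup_le hEH)
    apply hS.hgen
    intro D hD
    exact le_iSup_of_le ⟨ffE p H D, D, hD.hAH, hD.hA, hD.hAV, hD.hmin, rfl⟩ hD.A_le_E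
  have hNC : ∀ E E' : {E : Subgroup G // IsE p V H E}, E ≠ E' →
      ⁅V, (E' : Subgroup G)⁆ ≤
        V ⊓ Subgroup.centralizer (((E : Subgroup G) : Subgroup G) : Set G) := by
    intro E E' hne
    obtain ⟨A, hM, hEA⟩ := hE E
    obtain ⟨D, hMD, hED⟩ := hE E'
    have hne' : ffE p H A ≠ ffE p H D := by
      intro h
      apply hne
      apply Subtype.ext
      rw [hEA, hED, h]
    rw [hEA, hED]
    exact hM.N_le_C_of_ne hS hMD hne'
  have hNinfC : ∀ E : {E : Subgroup G // IsE p V H E}, ⁅V, (E : Subgroup G)⁆ ⊓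
      (V ⊓ Subgroup.centralizer (((E : Subgroup G) : Subgroup G) : Set G)) = ⊥ := by
    intro E
    obtain ⟨A, hM, hEA⟩ := hE E
    rw [hEA]; exact hM.N_inf_C
  have hNsupC : ∀ E : {E : Subgroup G // IsE p V H E}, ⁅V, (E : Subgroup G)⁆ ⊔
      (V ⊓ Subgroup.centralizer (((E : Subgroup G) : Subgroup G) : Set G)) = V := by
    intro E
    obtain ⟨A, hM, hEA⟩ := hE E
    rw [hEA]; exact hM.N_sup_C
  have hNV : ∀ E : {E : Subgroup G // IsE p V H E}, ⁅V, (E : Subgroup G)⁆ ≤ V := fun E =>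
    Cfsg.Agent.Lib.Lead.commutator_le_left_of_le_normalizer V _ ((hEH E).trans hHV)
  have hZC : ∀ E : {E : Subgroup G // IsE p V H E}, V ⊓ Subgroup.centralizer (H : Set G) ≤
      V ⊓ Subgroup.centralizer (((E : Subgroup G) : Subgroup G) : Set G) := fun E =>
    inf_le_inf_left _ (Subgroup.centralizer_le (SetLike.coe_subset_coe.mpr (hEH E)))
  refine ⟨?_, ?_, ?_, hsupE, ?_, ?_⟩
  · have hex : ∃ D, MinOff p V H D := by
      by_contra hcon
      push_neg at hcon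
      apply hH1
      rw [eq_bot_iff]
      exact hS.hgen ⊥ (fun D hD => absurd hD (hcon D))
    obtain ⟨D, hD⟩ := hex
    exact hD.p23
  · intro E
    obtain ⟨A, hM, hEA⟩ := hE E
    rw [hEA]
    exact ⟨hM.H_norm_E hS, hM.isoE, hM.cardN⟩
  · intro E
    obtain ⟨A, hM, hEA⟩ := hE E
    have h1 : (⨆ (j) (_ : j ≠ E), ((j : {E : Subgroup G // IsE p V H E}) : Subgroup G)) ≤
        H ⊓ Subgroup.centralizer ((ffN p V H A : Subgroup G) : Set G) := by
      apply iSup₂_le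
      intro E' hne
      obtain ⟨D, hMD, hED⟩ := hE E'
      have hne' : ffE p H A ≠ ffE p H D := by
        intro h
        apply hne
        apply Subtype.ext
        rw [hEA, hED, h]
      rw [hED]
      exact le_inf hMD.E_le (hM.E_le_cent_N hS hMD hne')
    rw [disjoint_iff, eq_bot_iff]
    exact (inf_le_inf (le_of_eq hEA) h1).trans hM.E_inf_F.le
  · intro o
    cases o with
    | none =>
      rw [disjoint_iff, eq_bot_iff]
      have h1 : (⨆ (j) (_ : j ≠ (none : Option {E : Subgroup G // IsE p V H E})),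
          j.elim (V ⊓ Subgroup.centralizer (H : Set G)) (fun E => ⁅V, (E : Subgroup G)⁆)) ≤
          ⨆ E ∈ (Finset.univ : Finset {E : Subgroup G // IsE p V H E}),
            ⁅V, (E : Subgroup G)⁆ := by
        apply iSup₂_le
        intro j hj
        cases j with
        | none => exact absurd rfl hj
        | some E' =>
          exact le_iSup₂_of_le E' (Finset.mem_univ _) le_rfl
      have h2 := indep_aux V hVc
        (fun E : {E : Subgroup G // IsE p V H E} => ⁅V, (E : Subgroup G)⁆)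
        (fun E => V ⊓ Subgroup.centralizer (((E : Subgroup G) : Subgroup G) : Set G))
        (V ⊓ Subgroup.centralizer (H : Set G)) hNV hNinfC hZC
        (fun E E' hne => hNC E E' hne) Finset.univ
      exact (inf_le_inf_left _ h1).trans h2.le
    | some E =>
      rw [disjoint_iff, eq_bot_iff]
      have h1 : (⨆ (j) (_ : j ≠ (some E : Option {E : Subgroup G // IsE p V H E})),
          j.elim (V ⊓ Subgroup.centralizer (H : Set G)) (fun E => ⁅V, (E : Subgroup G)⁆)) ≤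
          V ⊓ Subgroup.centralizer (((E : Subgroup G) : Subgroup G) : Set G) := by
        apply iSup₂_le
        intro j hj
        cases j with
        | none => exact hZC E
        | some E' =>
          exact hNC E E' (fun h => hj (by rw [h]))
      exact (inf_le_inf_left _ h1).trans (hNinfC E).le
  · apply le_antisymm
    · apply sup_le inf_le_left
      apply iSup_le
      intro E
      exact hNV E
    · have h2 := span_aux V hVc
        (fun E : {E : Subgroup G // IsE p V H E} => ⁅V, (E : Subgroup G)⁆)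
        (fun E => V ⊓ Subgroup.centralizer (((E : Subgroup G) : Subgroup G) : Set G))
        hNV hNsupC (fun E E' hne => hNC E E' hne) Finset.univ
      refine h2.trans ?_
      rw [sup_comm]
      apply sup_le_sup
      · intro v hv
        obtain ⟨hvV, hvI⟩ := Subgroup.mem_inf.mp hv
        refine Subgroup.mem_inf.mpr ⟨hvV, ?_⟩
        simp only [Subgroup.mem_iInf] at hvI
        have h3 : ∀ E : {E : Subgroup G // IsE p V H E},
            (E : Subgroup G) ≤ Subgroup.centralizer (Subgroup.zpowers v : Set G) := by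
          intro E
          rw [Subgroup.le_centralizer_iff, Subgroup.zpowers_le]
          exact (Subgroup.mem_inf.mp (hvI E (Finset.mem_univ _))).2
        have h4 : H ≤ Subgroup.centralizer (Subgroup.zpowers v : Set G) := by
          rw [← hsupE]; exact iSup_le h3
        rw [Subgroup.le_centralizer_iff] at h4
        exact h4 (Subgroup.mem_zpowers v)
      · apply iSup₂_le
        intro E _
        exact le_iSup (fun E : {E : Subgroup G // IsE p V H E} => ⁅V, (E : Subgroup G)⁆) E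

theorem result {G : Type*} [Group G] [Finite G] {p : ℕ} [Fact p.Prime] (V H : Subgroup G) (hV : Cfsg.IsElementaryAbelian p V) (hHV : H ≤ Subgroup.normalizer (V : Set G)) (hf : H ⊓ Subgroup.centralizer (V : Set G) = ⊥) (hS1 : Subgroup.centralizer (Cfsg.pPrimeCore p ↥H : Set ↥H) ≤ Cfsg.pPrimeCore p ↥H) (hS3 : H = ⨆ A : {A : Subgroup G // A ≤ H ∧ Cfsg.IsBestOffenderOn p V A}, (A : Subgroup G)) (hH1 : H ≠ ⊥) : (p = 2 ∨ p = 3) ∧ (∀ E : {E : Subgroup G // ∃ A : Subgroup G, A ≤ H ∧ Cfsg.IsBestOffenderOn p V A ∧ ⁅V, A⁆ ≠ ⊥ ∧ (∀ B : Subgroup G, B ≤ A → Cfsg.IsBestOffenderOn p V B → ⁅V, B⁆ ≠ ⊥ → B = A) ∧ E = ⁅((Cfsg.pPrimeCore p ↥H).map H.subtype), A⁆ ⊔ A}, H ≤ Subgroup.normalizer ((E : Subgroup G) : Set G) ∧ Nonempty (↥(E : Subgroup G) ≃* Matrix.SpecialLinearGroup (Fin 2) (ZMod p)) ∧ Nat.card ↥(⁅V, (E : Subgroup G)⁆) = p ^ 2) ∧ iSupIndep (fun E : {E : Subgroup G // ∃ A : Subgroup G, A ≤ H ∧ Cfsg.IsBestOffenderOn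 p V A ∧ ⁅V, A⁆ ≠ ⊥ ∧ (∀ B : Subgroup G, B ≤ A → Cfsg.IsBestOffenderOn p V B → ⁅V, B⁆ ≠ ⊥ → B = A) ∧ E = ⁅((Cfsg.pPrimeCore p ↥H).map H.subtype), A⁆ ⊔ A} => (E : Subgroup G)) ∧ (⨆ E : {E : Subgroup G // ∃ A : Subgroup G, A ≤ H ∧ Cfsg.IsBestOffenderOn p V A ∧ ⁅V, A⁆ ≠ ⊥ ∧ (∀ B : Subgroup G, B ≤ A → Cfsg.IsBestOffenderOn p V B → ⁅V, B⁆ ≠ ⊥ → B = A) ∧ E = ⁅((Cfsg.pPrimeCore p ↥H).map H.subtype), A⁆ ⊔ A}, (E : Subgroup G)) = H ∧ iSupIndep (fun o : Option {E : Subgroup G // ∃ A : Subgroup G, A ≤ H ∧ Cfsg.IsBestOffenderOn p V A ∧ ⁅V, A⁆ ≠ ⊥ ∧ (∀ B : Subgroup G, B ≤ A → Cfsg.IsBestOffenderOn p V B → ⁅V, B⁆ ≠ ⊥ → B = A) ∧ E = ⁅((Cfsg.pPrimeCore p ↥H).map H.subtype), A⁆ ⊔ A} => o.elim (V ⊓ Subgroup.centralizer (H : Set G)) (fun E => ⁅V, (E : Subgroup G)⁆)) ∧ (V ⊓ Subgroup.centralizer (H : Set G)) ⊔ (⨆ E : {E : Subgroup G // ∃ A : Subgroup G, A ≤ H ∧ Cfsg.IsBestOffenderOn p V A ∧ ⁅V, A⁆ ≠ ⊥ ∧ (∀ B : Subgroup G, B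 ≤ A → Cfsg.IsBestOffenderOn p V B → ⁅V, B⁆ ≠ ⊥ → B = A) ∧ E = ⁅((Cfsg.pPrimeCore p ↥H).map H.subtype), A⁆ ⊔ A}, ⁅V, (E : Subgroup G)⁆) = V := by
  exact main V H hV hHV hf hS1 hS3 hH1

end Cfsg.Agent.S0617
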