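import Mathlib
import Cfsg.Statements.S1467

set_option autoImplicit false
open Cfsg

namespace Cfsg.Agent.S1467

theorem puigStep_antitone {G : Type*} [Group G] : Antitone (Cfsg.puigStep (G := G)) := by
  intro X Y hXY
  unfold Cfsg.puigStep
  apply sSup_le_sSup
  rintro A ⟨hA1, hA2⟩
  exact ⟨hA1, hXY.trans hA2⟩

theorem puigStep_bot {G : Type*} [Group G] : Cfsg.puigStep (⊥ : Subgroup G) = ⊤ := by
  rw [eq_top_iff]
  intro g _
  unfold Cfsg.puigStep
  have hmem : Subgroup.zpowers g ∈ {A : Subgroup G | IsMulCommutative A ∧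
      (⊥ : Subgroup G) ≤ Subgroup.normalizer (A : Set G)} := by
    refine ⟨?_, bot_le⟩
    infer_instance
  exact (le_sSup hmem) (Subgroup.mem_zpowers g)

theorem seq_succ {G : Type*} [Group G] (n : ℕ) :
    Cfsg.puigSeq G (n + 1) = Cfsg.puigStep (Cfsg.puigSeq G n) := rfl

theorem even_mono {G : Type*} [Group G] (n : ℕ) :
    Cfsg.puigSeq G (2 * n) ≤ Cfsg.puigSeq G (2 * n + 2) ∧
    Cfsg.puigSeq G (2 * n + 3) ≤ Cfsg.puigSeq G (2 * n + 1) := by
  induction n with
  | zero =>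
    have h0 : Cfsg.puigSeq G 0 ≤ Cfsg.puigSeq G 2 := by
      change (⊥ : Subgroup G) ≤ _
      exact bot_le
    refine ⟨h0, ?_⟩
    exact puigStep_antitone h0
  | succ n ih =>
    have h1 : Cfsg.puigSeq G (2 * n + 2) ≤ Cfsg.puigSeq G (2 * n + 4) := puigStep_antitone ih.2
    have h2 : Cfsg.puigSeq G (2 * n + 5) ≤ Cfsg.puigSeq G (2 * n + 3) := puigStep_antitone h1
    exact ⟨h1, h2⟩

theorem even_le_odd {G : Type*} [Group G] (n : ℕ) :
    ∀ m : ℕ, Cfsg.puigSeq G (2 * n) ≤ Cfsg.puigSeq G (2 * m + 1) := by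
  induction n with
  | zero =>
    intro m
    change (⊥ : Subgroup G) ≤ _
    exact bot_le
  | succ n ih =>
    intro m
    cases m with
    | zero =>
      change _ ≤ Cfsg.puigStep (⊥ : Subgroup G)
      rw [puigStep_bot]
      exact le_top
    | succ m =>
      have h1 : Cfsg.puigSeq G (2 * m + 2) ≤ Cfsg.puigSeq G (2 * n + 1) := puigStep_antitone (ih m)
      have h2 : Cfsg.puigSeq G (2 * n + 2) ≤ Cfsg.puigSeq G (2 * m + 3) := puigStep_antitone h1
      exact h2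

theorem even_monotone {G : Type*} [Group G] : Monotone (fun n => Cfsg.puigSeq G (2 * n)) :=
  monotone_nat_of_le_succ (fun n => (even_mono n).1)

theorem odd_antitone {G : Type*} [Group G] : Antitone (fun n => Cfsg.puigSeq G (2 * n + 1)) :=
  antitone_nat_of_succ_le (fun n => (even_mono n).2)

theorem result {G : Type*} [Group G] [Finite G] :
    Cfsg.puigSeq G 0 = ⊥ ∧ Cfsg.puigSeq G 1 = ⊤ ∧
      (∀ n m : ℕ, Cfsg.puigSeq G (2 * n) ≤ Cfsg.puigSeq G (2 * n + 2) ∧ Cfsg.puigSeq G (2 * n) ≤ Cfsg.puigSeq G (2 * m + 1) ∧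
        Cfsg.puigSeq G (2 * m + 3) ≤ Cfsg.puigSeq G (2 * m + 1)) ∧
      (∃ k : ℕ, ∀ n : ℕ, k ≤ n → Cfsg.puigSeq G (2 * n) = Cfsg.puigLower G ∧ Cfsg.puigSeq G (2 * n + 1) = Cfsg.puigSubgroup G) ∧
      Cfsg.puigLower G ≤ Cfsg.puigSubgroup G ∧
      Cfsg.puigStep (Cfsg.puigLower G) = Cfsg.puigSubgroup G ∧ Cfsg.puigStep (Cfsg.puigSubgroup G) = Cfsg.puigLower G := by
  have hstab : ∃ k : ℕ, ∀ n : ℕ, k ≤ n → Cfsg.puigSeq G (2 * k) = Cfsg.puigSeq G (2 * n) :=
    WellFoundedGT.monotone_chain_condition ⟨fun n => Cfsg.puigSeq G (2 * n), even_monotone⟩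
  obtain ⟨k, hk⟩ := hstab
  have hkodd : ∀ n : ℕ, k ≤ n → Cfsg.puigSeq G (2 * k + 1) = Cfsg.puigSeq G (2 * n + 1) := by
    intro n hn
    rw [seq_succ, seq_succ, hk n hn]
  have hlower : Cfsg.puigLower G = Cfsg.puigSeq G (2 * k) := by
    unfold Cfsg.puigLower
    apply le_antisymm
    · apply iSup_le
      intro n
      rcases le_total k n with h | h
      · rw [hk n h]
      · exact even_monotone h
    · exact le_iSup (fun n => Cfsg.puigSeq G (2 * n)) k
  have hupper : Cfsg.puigSubgroup G = Cfsg.puigSeq G (2 * k + 1) := by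
    unfold Cfsg.puigSubgroup
    apply le_antisymm
    · exact iInf_le (fun n => Cfsg.puigSeq G (2 * n + 1)) k
    · apply le_iInf
      intro n
      rcases le_total k n with h | h
      · rw [hkodd n h]
      · exact odd_antitone h
  refine ⟨rfl, puigStep_bot, ?_, ?_, ?_, ?_, ?_⟩
  · intro n m
    exact ⟨(even_mono n).1, even_le_odd n m, (even_mono m).2⟩
  · refine ⟨k, fun n hn => ?_⟩
    rw [hlower, hupper]
    exact ⟨(hk n hn).symm, (hkodd n hn).symm⟩
  · rw [hlower, hupper]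
    exact even_le_odd k k
  · rw [hlower, hupper]
    rfl
  · rw [hlower, hupper]
    have : Cfsg.puigStep (Cfsg.puigSeq G (2 * k + 1)) = Cfsg.puigSeq G (2 * (k + 1)) := rfl
    rw [this]
    exact (hk (k + 1) (Nat.le_succ k)).symm

end Cfsg.Agent.S1467
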