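import Mathlib
import Cfsg.Statements.S1466
import Cfsg.Agent.S1467
import Cfsg.Agent.Lib.Helper11.SelfCentralizing

set_option autoImplicit false
open Cfsg

namespace Cfsg.Agent.S1466

open Cfsg.Agent.Lib.Helper11

theorem centralizer_puigStep_le {R : Type*} [Group R] [Finite R] [Group.IsNilpotent R]
    (X : Subgroup R) :
    Subgroup.centralizer ((Cfsg.puigStep X : Subgroup R) : Set R) ≤ Cfsg.puigStep X := by
  obtain ⟨A, hAn, hAc, hmax⟩ := exists_maximal_normal_abelian (R := R)
  have hAle : A ≤ Cfsg.puigStep X := by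
    unfold Cfsg.puigStep
    apply le_sSup
    refine ⟨hAc, ?_⟩
    rw [Subgroup.normalizer_eq_top]
    exact le_top
  have h1 : Subgroup.centralizer ((Cfsg.puigStep X : Subgroup R) : Set R) ≤
      Subgroup.centralizer (A : Set R) := Subgroup.centralizer_le hAle
  exact (h1.trans (centralizer_le_of_maximal_normal_abelian A hAc hmax)).trans hAle

theorem ne_bot_of_centralizer_le {R : Type*} [Group R] [Nontrivial R] (L : Subgroup R)
    (h : Subgroup.centralizer (L : Set R) ≤ L) : L ≠ ⊥ := by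
  intro hL
  rw [hL] at h
  have : (⊤ : Subgroup R) ≤ ⊥ := by
    refine le_trans ?_ h
    intro x _
    rw [Subgroup.mem_centralizer_iff]
    intro y hy
    rw [Subgroup.coe_bot, Set.mem_singleton_iff] at hy
    subst hy
    simp
  exact (bot_ne_top (α := Subgroup R)) (le_antisymm bot_le this)

theorem result {R : Type*} [Group R] [Finite R] (p : ℕ) [Fact p.Prime] (hR : IsPGroup p R) [Nontrivial R] :
    (∀ i : ℕ, 0 < i → Subgroup.center R ≤ Subgroup.centralizer ((Cfsg.puigSeq R i : Subgroup R) : Set R) ∧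
        Subgroup.centralizer ((Cfsg.puigSeq R i : Subgroup R) : Set R) ≤ Cfsg.puigSeq R i) ∧
      (Subgroup.center R ≤ Subgroup.centralizer ((Cfsg.puigLower R : Subgroup R) : Set R) ∧ Subgroup.centralizer ((Cfsg.puigLower R : Subgroup R) : Set R) ≤ Cfsg.puigLower R) ∧
      (Subgroup.center R ≤ Subgroup.centralizer ((Cfsg.puigSubgroup R : Subgroup R) : Set R) ∧ Subgroup.centralizer ((Cfsg.puigSubgroup R : Subgroup R) : Set R) ≤ Cfsg.puigSubgroup R) ∧
      Cfsg.puigSubgroup R ≠ ⊥ ∧ Cfsg.puigLower R ≠ ⊥ := by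
  have hnil : Group.IsNilpotent R := hR.isNilpotent
  have hseq : ∀ i : ℕ, 0 < i →
      Subgroup.centralizer ((Cfsg.puigSeq R i : Subgroup R) : Set R) ≤ Cfsg.puigSeq R i := by
    intro i hi
    obtain ⟨j, rfl⟩ := Nat.exists_eq_succ_of_ne_zero hi.ne'
    exact centralizer_puigStep_le (Cfsg.puigSeq R j)
  obtain ⟨_, _, _, ⟨k, hk⟩, _, _, _⟩ := Cfsg.Agent.S1467.result (G := R)
  obtain ⟨hlow, hup⟩ := hk (k + 1) (Nat.le_succ k)
  have hL : Subgroup.centralizer ((Cfsg.puigLower R : Subgroup R) : Set R) ≤ Cfsg.puigLower R := by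
    rw [← hlow]
    exact hseq _ (by omega)
  have hU : Subgroup.centralizer ((Cfsg.puigSubgroup R : Subgroup R) : Set R) ≤ Cfsg.puigSubgroup R := by
    rw [← hup]
    exact hseq _ (by omega)
  refine ⟨fun i hi => ⟨Subgroup.center_le_centralizer _, hseq i hi⟩,
    ⟨Subgroup.center_le_centralizer _, hL⟩, ⟨Subgroup.center_le_centralizer _, hU⟩,
    ne_bot_of_centralizer_le _ hU, ne_bot_of_centralizer_le _ hL⟩

end Cfsg.Agent.S1466
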