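import Cfsg.Statements.S1465
import Cfsg.Agent.Lib.Helper11.PStableOdd2

set_option autoImplicit false
open Cfsg

namespace Cfsg.Agent.S1465

/-- Let p be an odd prime, G a solvable group of odd order, P a normal p-subgroup of G, and X the subgroup generated by a family of abelian p-subgroups of G each normalized by P. Then the image of X in G/C_G(P) lies in O_p(G/C_G(P)); and if O_{p'}(G) = 1 and O_p(G) ∩ C_G(P) ≤ P then X ≤ O_p(G). -/
theorem result {G : Type*} [Group G] [Finite G] [Group.IsSolvable G] (hodd : Odd (Nat.card G)) (p : ℕ) [Fact p.Prime] (hp : p ≠ 2) (P : Subgroup G) [P.Normal] (hP : IsPGroup p P)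
    (S : Set (Subgroup G)) (hS : ∀ B ∈ S, IsMulCommutative B ∧ IsPGroup p B ∧ P ≤ Subgroup.normalizer (B : Set G)) :
    (sSup S).map (QuotientGroup.mk' (Subgroup.centralizer (P : Set G))) ≤ Cfsg.pCore p (G ⧸ Subgroup.centralizer (P : Set G)) ∧
      (Cfsg.pPrimeCore p G = ⊥ → Cfsg.pCore p G ⊓ Subgroup.centralizer (P : Set G) ≤ P → sSup S ≤ Cfsg.pCore p G) := by
  have hmem : ∀ B ∈ S, ∀ b ∈ B, QuotientGroup.mk' (Subgroup.centralizer (P : Set G)) b ∈
      Cfsg.pCore p (G ⧸ Subgroup.centralizer (P : Set G)) := by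
    intro B hB b hb
    obtain ⟨hBc, hBp, hPB⟩ := hS B hB
    have hap : ∃ k : ℕ, b ^ p ^ k = 1 := by
      obtain ⟨k, hk⟩ := hBp ⟨b, hb⟩
      exact ⟨k, by simpa using congrArg Subtype.val hk⟩
    refine Cfsg.Agent.Lib.Helper11.PStableOdd2.quad_mem_pCore_normal p hp hodd P hP b hap
      (Cfsg.Agent.Lib.Helper11.PStableOdd2.quad_of_abelian P B ?_ hPB b hb)
    intro x hx y hy
    exact congrArg Subtype.val (hBc.is_comm.comm ⟨x, hx⟩ ⟨y, hy⟩)
  have h1 : sSup S ≤ (Cfsg.pCore p (G ⧸ Subgroup.centralizer (P : Set G))).comap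
      (QuotientGroup.mk' (Subgroup.centralizer (P : Set G))) :=
    sSup_le (fun B hB b hb => hmem B hB b hb)
  refine ⟨Subgroup.map_le_iff_le_comap.mpr h1, fun hO hQ => ?_⟩
  have hCp := Cfsg.Agent.Lib.Helper11.PStableOdd2.centralizer_isPGroup p P hP hO hQ
  have hQn : (Cfsg.pCore p (G ⧸ Subgroup.centralizer (P : Set G))).Normal :=
    Cfsg.Agent.Lib.Helper1.pCore_normal p
  refine le_trans h1 (Cfsg.Agent.Lib.Helper1.le_pCore (hQn.comap _) ?_)
  rintro ⟨d, hd⟩
  have hd' : QuotientGroup.mk' (Subgroup.centralizer (P : Set G)) d ∈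
      Cfsg.pCore p (G ⧸ Subgroup.centralizer (P : Set G)) := hd
  obtain ⟨k, hk⟩ := (Cfsg.Agent.Lib.Helper1.pCore_isPGroup p) ⟨_, hd'⟩
  have hk' : (QuotientGroup.mk' (Subgroup.centralizer (P : Set G)) d) ^ p ^ k = 1 := by
    simpa using congrArg Subtype.val hk
  have hdC : d ^ p ^ k ∈ Subgroup.centralizer (P : Set G) := by
    rw [← map_pow, QuotientGroup.mk'_apply, QuotientGroup.eq_one_iff] at hk'
    exact hk'
  obtain ⟨j, hj⟩ := hCp ⟨d ^ p ^ k, hdC⟩
  have hj' : (d ^ p ^ k) ^ p ^ j = 1 := by simpa using congrArg Subtype.val hj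
  refine ⟨k + j, Subtype.ext ?_⟩
  simp only [Subgroup.coe_pow, Subgroup.coe_one]
  rw [pow_add, pow_mul]
  exact hj'

end Cfsg.Agent.S1465
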