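import Mathlib
import Cfsg.Statements.S0662
import Cfsg.Agent.Lib.Helper21.MaxClassP

set_option autoImplicit false
open Cfsg

namespace Cfsg.Agent.S0662

open Cfsg.Agent.Lib.Helper21

section
variable {G : Type*} [Group G] [Finite G]

/-- if two consecutive terms of the lower central series agree, the series is constant from there -/
theorem lcs_const (i : ℕ)
    (h : (⊤ : Subgroup G).lowerCentralSeries (i + 1) = (⊤ : Subgroup G).lowerCentralSeries i) :
    ∀ j, (⊤ : Subgroup G).lowerCentralSeries (i + j) = (⊤ : Subgroup G).lowerCentralSeries i := by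
  intro j
  induction j with
  | zero => rfl
  | succ j ih =>
    rw [← add_assoc, Subgroup.lowerCentralSeries_succ, ih, ← Subgroup.lowerCentralSeries_succ, h]

/-- lower bound for the orders of the terms of the lower central series in a group of maximal
class -/
theorem lcs_card_ge {p : ℕ} [hp : Fact p.Prime] (n : ℕ) (hG : Nat.card G = p ^ n)
    (hcl : Group.nilpotencyClass G = n - 1) :
    ∀ k i : ℕ, i + k = n - 1 → p ^ k ∣ Nat.card ((⊤ : Subgroup G).lowerCentralSeries i) := by
  have hpg : IsPGroup p G := IsPGroup.of_card hG
  haveI : Group.IsNilpotent G := hpg.isNilpotent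
  intro k
  induction k with
  | zero => intro i _; rw [pow_zero]; exact one_dvd _
  | succ k ih =>
    intro i hik
    have h1 := ih (i + 1) (by omega)
    -- strictness
    have hlt : (⊤ : Subgroup G).lowerCentralSeries (i + 1) < (⊤ : Subgroup G).lowerCentralSeries i := by
      refine lt_of_le_of_ne (Subgroup.lowerCentralSeries_antitone _ (Nat.le_succ i)) ?_
      intro heq
      have hconst := lcs_const i heq (n - 1 - i)
      have hbot : (⊤ : Subgroup G).lowerCentralSeries (n - 1) = ⊥ := by
        rw [Subgroup.lowerCentralSeries_eq_bot_iff_nilpotencyClass_le, hcl]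
      have hi : i + (n - 1 - i) = n - 1 := by omega
      rw [hi, hbot] at hconst
      have : Group.nilpotencyClass G ≤ i :=
        Subgroup.lowerCentralSeries_eq_bot_iff_nilpotencyClass_le.mp hconst.symm
      omega
    -- cardinalities are powers of p
    obtain ⟨e1, he1⟩ := IsPGroup.iff_card.mp (hpg.to_subgroup ((⊤ : Subgroup G).lowerCentralSeries i))
    obtain ⟨e2, he2⟩ := IsPGroup.iff_card.mp
      (hpg.to_subgroup ((⊤ : Subgroup G).lowerCentralSeries (i + 1)))
    have hcardlt : Nat.card ((⊤ : Subgroup G).lowerCentralSeries (i + 1)) <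
        Nat.card ((⊤ : Subgroup G).lowerCentralSeries i) := by
      by_contra hge
      push Not at hge
      exact (ne_of_lt hlt) (Subgroup.eq_of_le_of_card_ge hlt.le hge)
    rw [he1, he2] at hcardlt
    have he : e2 < e1 := (Nat.pow_lt_pow_iff_right hp.out.one_lt).mp hcardlt
    rw [he2] at h1
    have hk : k ≤ e2 := (Nat.pow_dvd_pow_iff_le_right hp.out.one_lt).mp h1
    rw [he1]
    exact pow_dvd_pow p (by omega)


/-- a normal subgroup of prime index contains the commutator subgroup -/
theorem commutator_le_of_index_prime {p : ℕ} [hp : Fact p.Prime] (N : Subgroup G) [N.Normal]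
    (hidx : N.index = p) : commutator G ≤ N := by
  haveI : IsCyclic (G ⧸ N) :=
    isCyclic_of_prime_card (p := p) (by rw [← Subgroup.index_eq_card]; exact hidx)
  letI : CommGroup (G ⧸ N) := IsCyclic.commGroup
  have := Abelianization.commutator_subset_ker (QuotientGroup.mk' N)
  rwa [QuotientGroup.ker_mk'] at this

end

/-- In a p-group of maximal class of order at least p³ the normal subgroups of index at least p² are exactly the terms of the lower central series, and there are exactly p + 1 normal subgroups of index p. -/
theorem result {G : Type*} [Group G] [Finite G] {p : ℕ} [Fact p.Prime] (n : ℕ) (hG : Nat.card G = p ^ n) (hcl : Group.nilpotencyClass G = n - 1) (hn : 3 ≤ n) : (∀ (N : Subgroup G) [N.Normal] (r : ℕ), 2 ≤ r → N.index = p ^ r → N = (⊤ : Subgroup G).lowerCentralSeries (r - 1)) ∧ Nat.card {N : Subgroup G // N.Normal ∧ N.index = p} = p + 1 := by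
  classical
  have hp : Nat.Prime p := Fact.out
  have hpg : IsPGroup p G := IsPGroup.of_card hG
  haveI : Group.IsNilpotent G := hpg.isNilpotent
  refine ⟨?_, ?_⟩
  · intro N _ r hr hidx
    have hrn : r ≤ n := by
      have hdvd : N.index ∣ Nat.card G := Subgroup.index_dvd_card N
      rw [hidx, hG] at hdvd
      exact (Nat.pow_dvd_pow_iff_le_right hp.one_lt).mp hdvd
    have hQ : Nat.card (G ⧸ N) = p ^ r := by rw [← Subgroup.index_eq_card, hidx]
    have hQp : IsPGroup p (G ⧸ N) := IsPGroup.of_card hQ
    haveI : Group.IsNilpotent (G ⧸ N) := hQp.isNilpotent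
    have hclQ := mc_class_le p r (G ⧸ N) hQ hr
    have hbot : (⊤ : Subgroup (G ⧸ N)).lowerCentralSeries (r - 1) = ⊥ :=
      Subgroup.lowerCentralSeries_eq_bot_iff_nilpotencyClass_le.mpr hclQ
    have hle : (⊤ : Subgroup G).lowerCentralSeries (r - 1) ≤ N := by
      have h1 := Subgroup.map_lowerCentralSeries (⊤ : Subgroup G) (QuotientGroup.mk' N) (r - 1)
      rw [Subgroup.map_top_of_surjective _ (QuotientGroup.mk'_surjective N), hbot,
        Subgroup.map_eq_bot_iff, QuotientGroup.ker_mk'] at h1
      exact h1
    have hNcard : Nat.card N = p ^ (n - r) := by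
      have h1 := Subgroup.card_mul_index N
      rw [hidx, hG] at h1
      have h2 : p ^ n = p ^ (n - r) * p ^ r := by rw [← pow_add]; congr 1; omega
      rw [h2] at h1
      exact Nat.eq_of_mul_eq_mul_right (pow_pos hp.pos r) h1
    have hdvd := lcs_card_ge n hG hcl (n - r) (r - 1) (by omega)
    have hge : Nat.card N ≤ Nat.card ((⊤ : Subgroup G).lowerCentralSeries (r - 1)) := by
      rw [hNcard]
      exact Nat.le_of_dvd Nat.card_pos hdvd
    exact (Subgroup.eq_of_le_of_card_ge hle hge).symm
  · obtain ⟨hDidx, hDpow⟩ := mc_p_index p n G hn hG hcl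
    have hQcard : Nat.card (Abelianization G) = p ^ 2 := by
      rw [← hDidx, Subgroup.index_eq_card]; rfl
    haveI : Finite (Abelianization G) :=
      Nat.finite_of_card_ne_zero (by rw [hQcard]; exact pow_ne_zero _ hp.ne_zero)
    have hfs : Function.Surjective (Abelianization.of (G := G)) :=
      QuotientGroup.mk'_surjective (commutator G)
    have hexp : ∀ q : Abelianization G, q ^ p = 1 := by
      intro q
      obtain ⟨x, rfl⟩ := hfs q
      rw [← map_pow, ← MonoidHom.mem_ker, Abelianization.ker_of]
      exact hDpow x
    rw [← card_subgroups_prime_order p hQcard hexp]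
    apply Nat.card_congr
    have hcardidx : ∀ M : Subgroup (Abelianization G), Nat.card M = p ↔ M.index = p := by
      intro M
      have h1 := Subgroup.card_mul_index M
      rw [hQcard, pow_two] at h1
      constructor
      · intro h
        rw [h] at h1
        exact Nat.eq_of_mul_eq_mul_left hp.pos h1
      · intro h
        rw [h] at h1
        exact Nat.eq_of_mul_eq_mul_right hp.pos h1
    refine
      { toFun := fun N => ⟨N.1.map Abelianization.of, ?_⟩
        invFun := fun M => ⟨M.1.comap Abelianization.of, ?_, ?_⟩
        left_inv := ?_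
        right_inv := ?_ }
    · haveI := N.2.1
      rw [hcardidx, Subgroup.index_map_eq _ hfs
        (by rw [Abelianization.ker_of]; exact commutator_le_of_index_prime N.1 N.2.2)]
      exact N.2.2
    · haveI : M.1.Normal := inferInstance
      exact Subgroup.Normal.comap inferInstance _
    · rw [Subgroup.index_comap_of_surjective _ hfs]
      exact (hcardidx M.1).mp M.2
    · intro N
      haveI := N.2.1
      apply Subtype.ext
      exact Subgroup.comap_map_eq_self
        (by rw [Abelianization.ker_of]; exact commutator_le_of_index_prime N.1 N.2.2)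
    · intro M
      apply Subtype.ext
      exact Subgroup.map_comap_eq_self_of_surjective hfs M.1

end Cfsg.Agent.S0662
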