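import Cfsg.Statements.S4206

set_option autoImplicit false
open Cfsg

namespace Cfsg.Agent.S4206

theorem le_iff_map_eq_bot {G : Type*} [Group G] (N : Subgroup G) [N.Normal] (A : Subgroup G) :
    A ≤ N ↔ A.map (QuotientGroup.mk' N) = ⊥ := by
  rw [Subgroup.map_eq_bot_iff, QuotientGroup.ker_mk']

theorem three_subgroups_mod {G : Type*} [Group G] (N : Subgroup G) [N.Normal] (A B C : Subgroup G)
    (h1 : ⁅⁅B, C⁆, A⁆ ≤ N) (h2 : ⁅⁅C, A⁆, B⁆ ≤ N) : ⁅⁅A, B⁆, C⁆ ≤ N := by
  rw [le_iff_map_eq_bot, Subgroup.map_commutator, Subgroup.map_commutator] at h1 h2 ⊢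
  exact Subgroup.commutator_commutator_eq_bot_of_rotate h1 h2

theorem main {G : Type*} [Group G] (H : ℕ → Subgroup G) (hN : ∀ i, (H i).Normal)
    (L : Subgroup G) (hL : ∀ i, ⁅H i, L⁆ ≤ H (i + 1)) (j : ℕ) :
    ∀ i : ℕ, ⁅H i, L.lowerCentralSeries j⁆ ≤ H (i + j + 1) := by
  induction j with
  | zero =>
    intro i
    simpa using hL i
  | succ j ih =>
    intro i
    haveI := hN (i + (j + 1) + 1)
    rw [Subgroup.lowerCentralSeries_succ, Subgroup.commutator_comm]
    apply three_subgroups_mod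
    · have h1 : ⁅⁅L, H i⁆, L.lowerCentralSeries j⁆ ≤ ⁅H (i + 1), L.lowerCentralSeries j⁆ := by
        apply Subgroup.commutator_mono _ le_rfl
        rw [Subgroup.commutator_comm]
        exact hL i
      refine h1.trans ((ih (i + 1)).trans ?_)
      have : i + 1 + j + 1 = i + (j + 1) + 1 := by omega
      rw [this]
    · have h1 : ⁅⁅H i, L.lowerCentralSeries j⁆, L⁆ ≤ ⁅H (i + j + 1), L⁆ :=
        Subgroup.commutator_mono (ih i) le_rfl
      refine h1.trans ((hL (i + j + 1)).trans ?_)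
      have : i + j + 1 + 1 = i + (j + 1) + 1 := by omega
      rw [this]

/-- Let `H 0 ≥ H 1 ≥ H 2 ≥ ⋯` be normal subgroups of a finite group and `L` a subgroup with `⁅H i, L⁆ ≤ H (i+1)` for all `i`. Then `⁅H i, γ⁆ ≤ H (i + j + 1)` where `γ` is the `j`-th term of the lower central series of `L` (indexed from `0`, so the term with index `j` is the `(j+1)`-fold commutator). -/
theorem result {G : Type*} [Group G] [Finite G] (H : ℕ → Subgroup G) (hN : ∀ i, (H i).Normal) (hdesc : ∀ i, H (i + 1) ≤ H i) (L : Subgroup G) (hL : ∀ i, ⁅H i, L⁆ ≤ H (i + 1)) (i j : ℕ) : ⁅H i, L.lowerCentralSeries j⁆ ≤ H (i + j + 1) := by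
  exact main H hN L hL j i

end Cfsg.Agent.S4206
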