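import Mathlib
import Cfsg.Statements.S0572

set_option autoImplicit false
open Cfsg

namespace Cfsg.Agent.S0572

open scoped commutatorElement

theorem comm_left_mul {G : Type*} [Group G] (a₃ b₃ b : G) (h : b₃ * b = b * b₃) :
    ⁅a₃ * b₃, b⁆ = ⁅a₃, b⁆ := by
  rw [commutatorElement_def, commutatorElement_def]
  calc a₃ * b₃ * b * (a₃ * b₃)⁻¹ * b⁻¹ = a₃ * (b₃ * b) * b₃⁻¹ * a₃⁻¹ * b⁻¹ := by group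
    _ = a₃ * (b * b₃) * b₃⁻¹ * a₃⁻¹ * b⁻¹ := by rw [h]
    _ = a₃ * b * a₃⁻¹ * b⁻¹ := by group

theorem comm_right_mul {G : Type*} [Group G] (a b₂ a₂ : G) (h : a * a₂ = a₂ * a) :
    ⁅a, b₂ * a₂⁆ = ⁅a, b₂⁆ := by
  rw [commutatorElement_def, commutatorElement_def]
  calc a * (b₂ * a₂) * a⁻¹ * (b₂ * a₂)⁻¹ = a * b₂ * (a₂ * a⁻¹) * a₂⁻¹ * b₂⁻¹ := by group
    _ = a * b₂ * (a⁻¹ * a₂) * a₂⁻¹ * b₂⁻¹ := by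
        have : a₂ * a⁻¹ = a⁻¹ * a₂ := by
          calc a₂ * a⁻¹ = a⁻¹ * (a * a₂) * a⁻¹ := by group
            _ = a⁻¹ * (a₂ * a) * a⁻¹ := by rw [h]
            _ = a⁻¹ * a₂ := by group
        rw [this]
    _ = a * b₂ * a⁻¹ * b₂⁻¹ := by group

theorem result {G : Type*} [Group G] (A B : Subgroup G) [IsMulCommutative A] [IsMulCommutative B] (hAB : ∀ g : G, ∃ a ∈ A, ∃ b ∈ B, g = a * b) : derivedSeries G 2 = ⊥ := by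
  have hBA : ∀ g : G, ∃ b ∈ B, ∃ a ∈ A, g = b * a := by
    intro g
    obtain ⟨a, ha, b, hb, hg⟩ := hAB g⁻¹
    refine ⟨b⁻¹, B.inv_mem hb, a⁻¹, A.inv_mem ha, ?_⟩
    rw [← mul_inv_rev, ← hg, inv_inv]
  have hAc : ∀ x ∈ A, ∀ y ∈ A, x * y = y * x := fun x hx y hy => setLike_mul_comm hx hy
  have hBc : ∀ x ∈ B, ∀ y ∈ B, x * y = y * x := fun x hx y hy => setLike_mul_comm hx hy
  have key : ∀ a ∈ A, ∀ b ∈ B, ∀ a₁ ∈ A, ∀ b₁ ∈ B,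
      (a₁ * b₁) * ⁅a, b⁆ * (a₁ * b₁)⁻¹ = (b₁ * a₁) * ⁅a, b⁆ * (b₁ * a₁)⁻¹ := by
    intro a ha b hb a₁ ha₁ b₁ hb₁
    obtain ⟨a₃, ha₃, b₃, hb₃, e₃⟩ := hAB (b₁ * a * b₁⁻¹)
    obtain ⟨b₂, hb₂, a₂, ha₂, e₂⟩ := hBA (a₁ * b * a₁⁻¹)
    have hb₁b : b₁ * b * b₁⁻¹ = b := by
      rw [hBc b₁ hb₁ b hb]; group
    have ha₁a : a₁ * a * a₁⁻¹ = a := by
      rw [hAc a₁ ha₁ a ha]; group
    have ha₁a₃ : a₁ * a₃ * a₁⁻¹ = a₃ := by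
      rw [hAc a₁ ha₁ a₃ ha₃]; group
    have hb₁b₂ : b₁ * b₂ * b₁⁻¹ = b₂ := by
      rw [hBc b₁ hb₁ b₂ hb₂]; group
    have lhs : (a₁ * b₁) * ⁅a, b⁆ * (a₁ * b₁)⁻¹ = ⁅a₃, b₂⁆ := by
      calc (a₁ * b₁) * ⁅a, b⁆ * (a₁ * b₁)⁻¹
          = a₁ * (b₁ * ⁅a, b⁆ * b₁⁻¹) * a₁⁻¹ := by group
        _ = a₁ * ⁅b₁ * a * b₁⁻¹, b₁ * b * b₁⁻¹⁆ * a₁⁻¹ := by rw [conjugate_commutatorElement]
        _ = a₁ * ⁅a₃ * b₃, b⁆ * a₁⁻¹ := by rw [hb₁b, e₃]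
        _ = a₁ * ⁅a₃, b⁆ * a₁⁻¹ := by rw [comm_left_mul a₃ b₃ b (hBc b₃ hb₃ b hb)]
        _ = ⁅a₁ * a₃ * a₁⁻¹, a₁ * b * a₁⁻¹⁆ := by rw [conjugate_commutatorElement]
        _ = ⁅a₃, b₂ * a₂⁆ := by rw [ha₁a₃, e₂]
        _ = ⁅a₃, b₂⁆ := comm_right_mul a₃ b₂ a₂ (hAc a₃ ha₃ a₂ ha₂)
    have rhs : (b₁ * a₁) * ⁅a, b⁆ * (b₁ * a₁)⁻¹ = ⁅a₃, b₂⁆ := by
      calc (b₁ * a₁) * ⁅a, b⁆ * (b₁ * a₁)⁻¹
          = b₁ * (a₁ * ⁅a, b⁆ * a₁⁻¹) * b₁⁻¹ := by group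
        _ = b₁ * ⁅a₁ * a * a₁⁻¹, a₁ * b * a₁⁻¹⁆ * b₁⁻¹ := by rw [conjugate_commutatorElement]
        _ = b₁ * ⁅a, b₂ * a₂⁆ * b₁⁻¹ := by rw [ha₁a, e₂]
        _ = b₁ * ⁅a, b₂⁆ * b₁⁻¹ := by rw [comm_right_mul a b₂ a₂ (hAc a ha a₂ ha₂)]
        _ = ⁅b₁ * a * b₁⁻¹, b₁ * b₂ * b₁⁻¹⁆ := by rw [conjugate_commutatorElement]
        _ = ⁅a₃ * b₃, b₂⁆ := by rw [hb₁b₂, e₃]
        _ = ⁅a₃, b₂⁆ := comm_left_mul a₃ b₃ b₂ (hBc b₃ hb₃ b₂ hb₂)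
    rw [lhs, rhs]
  have hcomm : ∀ a ∈ A, ∀ b ∈ B, ∀ a₁ ∈ A, ∀ b₁ ∈ B, ⁅a, b⁆ * ⁅a₁, b₁⁆ = ⁅a₁, b₁⁆ * ⁅a, b⁆ := by
    intro a ha b hb a₁ ha₁ b₁ hb₁
    have h := key a ha b hb a₁⁻¹ (A.inv_mem ha₁) b₁⁻¹ (B.inv_mem hb₁)
    have e : ⁅a₁, b₁⁆ = (b₁⁻¹ * a₁⁻¹)⁻¹ * (a₁⁻¹ * b₁⁻¹) := by
      rw [commutatorElement_def]; group
    rw [e]
    calc ⁅a, b⁆ * ((b₁⁻¹ * a₁⁻¹)⁻¹ * (a₁⁻¹ * b₁⁻¹))
        = (b₁⁻¹ * a₁⁻¹)⁻¹ * ((b₁⁻¹ * a₁⁻¹) * ⁅a, b⁆ * (b₁⁻¹ * a₁⁻¹)⁻¹) * (a₁⁻¹ * b₁⁻¹) := by group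
      _ = (b₁⁻¹ * a₁⁻¹)⁻¹ * ((a₁⁻¹ * b₁⁻¹) * ⁅a, b⁆ * (a₁⁻¹ * b₁⁻¹)⁻¹) * (a₁⁻¹ * b₁⁻¹) := by rw [h]
      _ = (b₁⁻¹ * a₁⁻¹)⁻¹ * (a₁⁻¹ * b₁⁻¹) * ⁅a, b⁆ := by group
  set T : Subgroup G := ⁅A, B⁆ with hT
  have hTab : IsMulCommutative T := by
    rw [hT, Subgroup.commutator_def]
    apply Subgroup.isMulCommutative_closure
    rintro _ ⟨a, ha, b, hb, rfl⟩ _ ⟨a₁, ha₁, b₁, hb₁, rfl⟩
    exact hcomm a ha b hb a₁ ha₁ b₁ hb₁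
  have hTn : T.Normal := by
    rw [← Subgroup.normalizer_eq_top_iff, eq_top_iff]
    intro g _
    obtain ⟨a, ha, b, hb, rfl⟩ := hAB g
    exact mul_mem (Subgroup.normalizer_commutator_ge_left A B ha)
      (Subgroup.normalizer_commutator_ge_right A B hb)
  have hquot : IsMulCommutative (G ⧸ T) := by
    refine ⟨⟨?_⟩⟩
    intro x y
    obtain ⟨g, rfl⟩ := QuotientGroup.mk_surjective x
    obtain ⟨h, rfl⟩ := QuotientGroup.mk_surjective y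
    obtain ⟨a, ha, b, hb, rfl⟩ := hAB g
    obtain ⟨a', ha', b', hb', rfl⟩ := hAB h
    have hmk : ∀ x ∈ A, ∀ y ∈ B, Commute (QuotientGroup.mk x : G ⧸ T) (QuotientGroup.mk y) := by
      intro x hx y hy
      have h1 : ⁅x, y⁆ ∈ T := Subgroup.commutator_mem_commutator hx hy
      have h2 : (QuotientGroup.mk ⁅x, y⁆ : G ⧸ T) = 1 := (QuotientGroup.eq_one_iff _).mpr h1
      rw [commutatorElement_def] at h2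
      simp only [QuotientGroup.mk_mul, QuotientGroup.mk_inv] at h2
      rw [mul_inv_eq_one, mul_inv_eq_iff_eq_mul] at h2
      exact h2
    have c1 : Commute (QuotientGroup.mk a : G ⧸ T) (QuotientGroup.mk a') := by
      show _ * _ = _ * _
      rw [← QuotientGroup.mk_mul, ← QuotientGroup.mk_mul, hAc a ha a' ha']
    have c2 : Commute (QuotientGroup.mk b : G ⧸ T) (QuotientGroup.mk b') := by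
      show _ * _ = _ * _
      rw [← QuotientGroup.mk_mul, ← QuotientGroup.mk_mul, hBc b hb b' hb']
    have c3 := hmk a ha b' hb'
    have c4 := (hmk a' ha' b hb).symm
    rw [QuotientGroup.mk_mul, QuotientGroup.mk_mul]
    exact ((c1.mul_right c3).mul_left (c4.mul_right c2)).eq
  have hle : commutator G ≤ T := Subgroup.Normal.quotient_commutative_iff_commutator_le.mp hquot
  have hTT : ⁅T, T⁆ = ⊥ := Subgroup.commutator_self_eq_bot_iff.mpr hTab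
  rw [eq_bot_iff, ← hTT]
  have : derivedSeries G 2 = ⁅derivedSeries G 1, derivedSeries G 1⁆ := derivedSeries_succ G 1
  rw [this, derivedSeries_one]
  exact Subgroup.commutator_mono hle hle

end Cfsg.Agent.S0572
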