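import Cfsg.Statements.S0744
import Mathlib
import Cfsg.Agent.Lib.helper6.OrbitTools
import Cfsg.Agent.Lib.helper6.MultTrans

set_option autoImplicit false
open Cfsg Cfsg.Agent.Lib.helper6 MulAction

namespace Cfsg.Agent.S0744

theorem card_stab_fixing {G α : Type*} [Group G] [MulAction G α] (Y : Set α) (y : α) :
    Nat.card (stabilizer (fixingSubgroup G Y) y) = Nat.card (fixingSubgroup G (insert y Y)) := by
  apply Nat.card_congr
  exact
    { toFun := fun g => ⟨g.1.1, by
        rw [mem_fixingSubgroup_iff]
        intro z hz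
        rcases Set.mem_insert_iff.mp hz with rfl | hz
        · exact mem_stabilizer_iff.mp g.2
        · exact (mem_fixingSubgroup_iff G).mp g.1.2 z hz⟩
      invFun := fun g => ⟨⟨g.1, by
        rw [mem_fixingSubgroup_iff]
        intro z hz
        exact (mem_fixingSubgroup_iff G).mp g.2 z (Set.mem_insert_of_mem _ hz)⟩, by
        rw [mem_stabilizer_iff]
        exact (mem_fixingSubgroup_iff G).mp g.2 y (Set.mem_insert _ _)⟩
      left_inv := fun g => rfl
      right_inv := fun g => rfl }

theorem orbit_fixing_card {G α : Type*} [Group G] [MulAction G α] (Y : Set α) (y : α) :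
    (orbit (fixingSubgroup G Y) y).ncard * Nat.card (fixingSubgroup G (insert y Y))
      = Nat.card (fixingSubgroup G Y) := by
  rw [← card_stab_fixing, ncard_orbit_mul_card_stabilizer]

theorem not_mem_of_orbit_fixing {G α : Type*} [Group G] [MulAction G α] (Y : Set α) (b x : α)
    (hb : b ∉ Y) (hx : x ∈ orbit (fixingSubgroup G Y) b) : x ∉ Y := by
  obtain ⟨κ, rfl⟩ := hx
  intro h
  apply hb
  have h1 := (mem_fixingSubgroup_iff G).mp (Subgroup.inv_mem _ κ.2) _ h
  have h2 : (κ.1)⁻¹ • (κ • b) = b := by
    change (κ.1)⁻¹ • (κ.1 • b) = b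
    rw [inv_smul_smul]
  rw [h2] at h1
  rw [h1]
  exact h

/-- If for some `k > 1` the pointwise stabilisers of all `(k-1)`-subsets have the same order `> 1` and those of all `k`-subsets have the same order, then the group is `(k-1)`-transitive. -/
theorem result {α : Type*} [Fintype α] [DecidableEq α] (G : Subgroup (Equiv.Perm α)) {k : ℕ} (hk : 1 < k) (hkn : k ≤ Fintype.card α) (l m : ℕ) (hl : 1 < l) (hkm1 : ∀ s : Finset α, s.card = k - 1 → Nat.card (fixingSubgroup G (s : Set α)) = l) (hkm : ∀ s : Finset α, s.card = k → Nat.card (fixingSubgroup G (s : Set α)) = m) : MulAction.IsMultiplyPretransitive G α (k - 1) := by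
  apply isMultiplyPretransitive_of_fixing
  intro Z hZ a b haZ hbZ
  by_cases hab : a = b
  · exact ⟨1, G.one_mem, fun _ _ => rfl, by rw [hab]; rfl⟩
  have hsub : Z ⊆ Finset.univ \ {a, b} := by
    intro z hz
    rw [Finset.mem_sdiff, Finset.mem_insert, Finset.mem_singleton]
    refine ⟨Finset.mem_univ _, ?_⟩
    rintro (rfl | rfl)
    · exact haZ hz
    · exact hbZ hz
  have hcard2 : (Finset.univ \ ({a, b} : Finset α)).card = Fintype.card α - 2 := by
    rw [Finset.card_sdiff_of_subset (Finset.subset_univ _), Finset.card_univ, Finset.card_pair hab]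
  obtain ⟨Y, hZY, hYsub, hYcard⟩ := Finset.exists_subsuperset_card_eq hsub
    (show Z.card ≤ k - 2 by omega) (show k - 2 ≤ (Finset.univ \ ({a, b} : Finset α)).card by omega)
  have haY : a ∉ Y := by
    intro h
    have := hYsub h
    simp at this
  have hbY : b ∉ Y := by
    intro h
    have := hYsub h
    simp at this
  suffices hsuff : b ∈ orbit (fixingSubgroup G (Y : Set α)) a by
    obtain ⟨κ, hκ⟩ := hsuff
    refine ⟨κ.1.1, κ.1.2, ?_, hκ⟩
    intro z hz
    exact (mem_fixingSubgroup_iff G).mp κ.2 z (Finset.mem_coe.mpr (hZY hz))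
  by_contra hnot
  have hl1 : ∀ x : α, x ∉ Y → Nat.card (fixingSubgroup G (insert x (Y : Set α))) = l := by
    intro x hx
    have := hkm1 (insert x Y) (by rw [Finset.card_insert_of_notMem hx, hYcard]; omega)
    rw [Finset.coe_insert] at this
    exact this
  have hm1 : ∀ x y : α, x ∉ Y → y ∉ Y → y ≠ x →
      Nat.card (fixingSubgroup G (insert y (insert x (Y : Set α)))) = m := by
    intro x y hx hy hyx
    have hy' : y ∉ insert x Y := by
      rw [Finset.mem_insert]; rintro (h | h)
      · exact hyx h
      · exact hy h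
    have := hkm (insert y (insert x Y)) (by
      rw [Finset.card_insert_of_notMem hy', Finset.card_insert_of_notMem hx, hYcard]; omega)
    rw [Finset.coe_insert, Finset.coe_insert] at this
    exact this
  have hmpos : 0 < m := by
    obtain ⟨y, hy⟩ : ∃ y : α, y ∉ Y ∧ y ≠ a := ⟨b, hbY, fun h => hab h.symm⟩
    rw [← hm1 a y haY hy.1 hy.2]
    exact Nat.card_pos
  have horbQ : ∀ x y : α, x ∉ Y → y ∉ Y → y ≠ x →
      (orbit (fixingSubgroup G (insert x (Y : Set α))) y).ncard = l / m := by
    intro x y hx hy hyx
    have := orbit_fixing_card (G := G) (insert x (Y : Set α)) y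
    rw [hm1 x y hx hy hyx, hl1 x hx] at this
    exact (Nat.div_eq_of_eq_mul_left hmpos this.symm).symm
  have horbK : ∀ x : α, x ∉ Y →
      (orbit (fixingSubgroup G (Y : Set α)) x).ncard * l = Nat.card (fixingSubgroup G (Y : Set α)) := by
    intro x hx
    have := orbit_fixing_card (G := G) (Y : Set α) x
    rw [hl1 x hx] at this
    exact this
  have hseq : (orbit (fixingSubgroup G (Y : Set α)) a).ncard = (orbit (fixingSubgroup G (Y : Set α)) b).ncard := by
    have h1 := horbK a haY
    have h2 := horbK b hbY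
    have : (orbit (fixingSubgroup G (Y : Set α)) a).ncard * l = (orbit (fixingSubgroup G (Y : Set α)) b).ncard * l := by
      rw [h1, h2]
    exact Nat.eq_of_mul_eq_mul_right (by omega) this
  have ht2 : 2 ≤ l / m := by
    have hnt : ∃ q : fixingSubgroup G (insert a (Y : Set α)), q ≠ 1 := by
      by_contra hne
      push Not at hne
      have : Nat.card (fixingSubgroup G (insert a (Y : Set α))) = 1 := by
        rw [Nat.card_eq_one_iff_unique]
        exact ⟨⟨fun x y => by rw [hne x, hne y]⟩, ⟨1⟩⟩
      rw [hl1 a haY] at this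
      omega
    obtain ⟨q, hq⟩ := hnt
    obtain ⟨y, hy⟩ : ∃ y : α, q • y ≠ y := by
      by_contra hne
      push Not at hne
      apply hq
      apply Subtype.ext
      apply Subtype.ext
      ext z
      exact hne z
    have hyins : y ∉ insert a (Y : Set α) := by
      intro h
      exact hy ((mem_fixingSubgroup_iff G).mp q.2 y h)
    have hyY : y ∉ Y := fun h => hyins (Set.mem_insert_of_mem _ (Finset.mem_coe.mpr h))
    have hya : y ≠ a := fun h => hyins (by rw [h]; exact Set.mem_insert _ _)
    rw [← horbQ a y haY hyY hya]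
    have hfin : (orbit (fixingSubgroup G (insert a (Y : Set α))) y).Finite := Set.toFinite _
    have : ({y, q • y} : Set α) ⊆ orbit (fixingSubgroup G (insert a (Y : Set α))) y := by
      intro z hz
      rcases hz with rfl | rfl
      · exact mem_orbit_self _
      · exact mem_orbit _ _
    have h2 := Set.ncard_le_ncard this hfin
    rw [Set.ncard_pair (Ne.symm hy)] at h2
    exact h2
  have hQK : ∀ q : fixingSubgroup G (insert a (Y : Set α)), q.1 ∈ fixingSubgroup G (Y : Set α) := by
    intro q
    rw [mem_fixingSubgroup_iff]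
    intro z hz
    exact (mem_fixingSubgroup_iff G).mp q.2 z (Set.mem_insert_of_mem _ hz)
  have hinvK : ∀ c : α, ∀ q : fixingSubgroup G (insert a (Y : Set α)),
      ∀ x ∈ orbit (fixingSubgroup G (Y : Set α)) c, q • x ∈ orbit (fixingSubgroup G (Y : Set α)) c := by
    rintro c q _ ⟨κ, rfl⟩
    refine ⟨⟨q.1, hQK q⟩ * κ, ?_⟩
    change (⟨q.1, hQK q⟩ * κ : fixingSubgroup G (Y : Set α)) • c = q • (κ • c)
    rw [mul_smul]
    rfl
  have hanotb : a ∉ orbit (fixingSubgroup G (Y : Set α)) b := by
    intro h
    apply hnot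
    rw [orbit_eq_iff.mpr h]
    exact mem_orbit_self _
  have hd1 : l / m ∣ (orbit (fixingSubgroup G (Y : Set α)) b).ncard := by
    apply dvd_ncard_of_invariant (Q := fixingSubgroup G (insert a (Y : Set α))) (l / m) _
      (orbit (fixingSubgroup G (Y : Set α)) b) (Set.toFinite _) rfl (hinvK b)
    intro x hx
    apply horbQ a x haY (not_mem_of_orbit_fixing (Y : Set α) b x (by simpa using hbY) hx)
    rintro rfl
    exact hanotb hx
  have hd2 : l / m ∣ (orbit (fixingSubgroup G (Y : Set α)) a \ {a}).ncard := by
    apply dvd_ncard_of_invariant (Q := fixingSubgroup G (insert a (Y : Set α))) (l / m) _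
      (orbit (fixingSubgroup G (Y : Set α)) a \ {a}) (Set.toFinite _) rfl
    · intro q x hx
      refine ⟨hinvK a q x hx.1, ?_⟩
      intro hqx
      apply hx.2
      have hqa : q • a = a := (mem_fixingSubgroup_iff G).mp q.2 a (Set.mem_insert _ _)
      have h1 : q • x = q • a := by rw [hqa]; exact hqx
      exact MulAction.injective q h1
    · intro x hx
      exact horbQ a x haY (not_mem_of_orbit_fixing (Y : Set α) a x (by simpa using haY) hx.1) hx.2
  have hsub1 : (orbit (fixingSubgroup G (Y : Set α)) a \ {a}).ncard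
      = (orbit (fixingSubgroup G (Y : Set α)) a).ncard - 1 := by
    rw [Set.ncard_diff_singleton_of_mem (mem_orbit_self a)]
  have hspos : 0 < (orbit (fixingSubgroup G (Y : Set α)) a).ncard := by
    rw [Set.ncard_pos (Set.toFinite _)]
    exact ⟨a, mem_orbit_self a⟩
  rw [hsub1] at hd2
  rw [← hseq] at hd1
  have h1 : l / m ∣ 1 := by
    have := Nat.dvd_sub hd1 hd2
    have e : (orbit (fixingSubgroup G (Y : Set α)) a).ncard - ((orbit (fixingSubgroup G (Y : Set α)) a).ncard - 1) = 1 := by omega
    rw [e] at this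
    exact this
  have := Nat.le_of_dvd one_pos h1
  omega

end Cfsg.Agent.S0744
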