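import Cfsg.Statements.S0743
import Mathlib
import Cfsg.Agent.Lib.helper6.OrbitTools
import Cfsg.Agent.Lib.helper6.MultTrans

set_option autoImplicit false
open Cfsg Cfsg.Agent.Lib.helper6 MulAction

namespace Cfsg.Agent.S0743

theorem not_mem_of_orbit_fixing {G α : Type*} [Group G] [MulAction G α] (Y : Set α) (b x : α)
    (hb : b ∉ Y) (hx : x ∈ orbit (fixingSubgroup G Y) b) : x ∉ Y := by
  obtain ⟨κ, rfl⟩ := hx
  intro h
  apply hb
  have h1 := (mem_fixingSubgroup_iff G).mp (Subgroup.inv_mem _ κ.2) _ h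
  have h2 : (κ.1)⁻¹ • (κ • b) = b := by
    change (κ.1)⁻¹ • (κ.1 • b) = b
    rw [inv_smul_smul]
  rw [h2] at h1
  rw [h1]
  exact h

/-- Gleason's Lemma: let `p` be a prime and `1 ≤ k < n`; if every `k`-subset of the `n` points is exactly the fixed-point set of some `p`-subgroup of `G`, then `G` is `k`-transitive. -/
theorem result {α : Type*} [Fintype α] [DecidableEq α] (G : Subgroup (Equiv.Perm α)) {p k : ℕ} (hp : p.Prime) (hk : 1 ≤ k) (hkn : k < Fintype.card α) (h : ∀ s : Finset α, s.card = k → ∃ P : Subgroup G, IsPGroup p P ∧ MulAction.fixedPoints P α = (s : Set α)) : MulAction.IsMultiplyPretransitive G α k := by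
  haveI : Fact p.Prime := ⟨hp⟩
  apply isMultiplyPretransitive_of_fixing
  intro Z hZ a b haZ hbZ
  by_cases hab : a = b
  · exact ⟨1, G.one_mem, fun _ _ => rfl, by rw [hab]; rfl⟩
  suffices hsuff : b ∈ orbit (fixingSubgroup G (Z : Set α)) a by
    obtain ⟨κ, hκ⟩ := hsuff
    refine ⟨κ.1.1, κ.1.2, ?_, hκ⟩
    intro z hz
    exact (mem_fixingSubgroup_iff G).mp κ.2 z (Finset.mem_coe.mpr hz)
  by_contra hnot
  set O := orbit (fixingSubgroup G (Z : Set α)) a with hO
  have haO : a ∈ O := mem_orbit_self a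
  have hOZ : ∀ x ∈ O, x ∉ Z := by
    intro x hx
    have := not_mem_of_orbit_fixing (G := G) (Z : Set α) a x (by simpa using haZ) hx
    simpa using this
  have hsub : ({a} : Finset α) ⊆ Finset.univ \ (insert b Z) := by
    intro z hz
    rw [Finset.mem_singleton] at hz
    rw [hz, Finset.mem_sdiff, Finset.mem_insert]
    refine ⟨Finset.mem_univ _, ?_⟩
    rintro (h1 | h1)
    · exact hab h1
    · exact haZ h1
  have hcard2 : (Finset.univ \ (insert b Z)).card = Fintype.card α - (Z.card + 1) := by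
    rw [Finset.card_sdiff_of_subset (Finset.subset_univ _), Finset.card_univ,
      Finset.card_insert_of_notMem hbZ]
  obtain ⟨T, haT, hTsub, hTcard⟩ := Finset.exists_subsuperset_card_eq hsub
    (show ({a} : Finset α).card ≤ k - Z.card by rw [Finset.card_singleton]; omega)
    (show k - Z.card ≤ (Finset.univ \ (insert b Z)).card by omega)
  have haT' : a ∈ T := haT (Finset.mem_singleton_self a)
  have hTZ : ∀ x ∈ T, x ∉ Z ∧ x ≠ b := by
    intro x hx
    have := hTsub hx
    rw [Finset.mem_sdiff, Finset.mem_insert] at this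
    exact ⟨fun h => this.2 (Or.inr h), fun h => this.2 (Or.inl h)⟩
  have hdisj : Disjoint Z T := by
    rw [Finset.disjoint_left]
    intro x hxZ hxT
    exact (hTZ x hxT).1 hxZ
  set s := Z ∪ T with hs
  have hscard : s.card = k := by
    rw [hs, Finset.card_union_of_disjoint hdisj, hTcard]; omega
  set s' := insert b (Z ∪ T.erase a) with hs'
  have hs'card : s'.card = k := by
    have hd2 : Disjoint Z (T.erase a) := by
      rw [Finset.disjoint_left]
      intro x hxZ hxT
      exact (hTZ x (Finset.mem_of_mem_erase hxT)).1 hxZ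
    have hb' : b ∉ Z ∪ T.erase a := by
      rw [Finset.mem_union]
      rintro (h1 | h1)
      · exact hbZ h1
      · exact (hTZ b (Finset.mem_of_mem_erase h1)).2 rfl
    rw [hs', Finset.card_insert_of_notMem hb', Finset.card_union_of_disjoint hd2,
      Finset.card_erase_of_mem haT', hTcard]
    omega
  obtain ⟨P, hP, hPfix⟩ := h s hscard
  obtain ⟨P', hP', hP'fix⟩ := h s' hs'card
  have hinvP : ∀ (R : Subgroup G), (Z : Set α) ⊆ fixedPoints R α →
      ∀ q : R, ∀ x ∈ O, q • x ∈ O := by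
    intro R hR q x hx
    obtain ⟨κ, rfl⟩ := hx
    have hq : q.1 ∈ fixingSubgroup G (Z : Set α) := by
      rw [mem_fixingSubgroup_iff]
      intro z hz
      exact (hR hz) q
    refine ⟨⟨q.1, hq⟩ * κ, ?_⟩
    change (⟨q.1, hq⟩ * κ : fixingSubgroup G (Z : Set α)) • a = q • (κ • a)
    rw [mul_smul]
    rfl
  have hZs : (Z : Set α) ⊆ fixedPoints P α := by
    rw [hPfix, hs]
    intro z hz
    exact Finset.mem_coe.mpr (Finset.mem_union_left _ (Finset.mem_coe.mp hz))
  have hZs' : (Z : Set α) ⊆ fixedPoints P' α := by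
    rw [hP'fix, hs']
    intro z hz
    exact Finset.mem_coe.mpr (Finset.mem_insert_of_mem (Finset.mem_union_left _ (Finset.mem_coe.mp hz)))
  have h1 := pgroup_ncard_modEq hP O (hinvP P hZs)
  have h2 := pgroup_ncard_modEq hP' O (hinvP P' hZs')
  rw [hPfix] at h1
  rw [hP'fix] at h2
  have hset : O ∩ (s : Set α) = insert a (O ∩ (s' : Set α)) := by
    ext x
    simp only [Set.mem_inter_iff, Set.mem_insert_iff, Finset.mem_coe, hs, hs', Finset.mem_union,
      Finset.mem_insert, Finset.mem_erase]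
    constructor
    · rintro ⟨hxO, hxZ | hxT⟩
      · exact absurd hxZ (hOZ x hxO)
      · by_cases hxa : x = a
        · exact Or.inl hxa
        · exact Or.inr ⟨hxO, Or.inr (Or.inr ⟨hxa, hxT⟩)⟩
    · rintro (rfl | ⟨hxO, rfl | hxZ | ⟨hxa, hxT⟩⟩)
      · exact ⟨haO, Or.inr haT'⟩
      · exact absurd hxO hnot
      · exact absurd hxZ (hOZ x hxO)
      · exact ⟨hxO, Or.inr hxT⟩
  have hanot : a ∉ O ∩ (s' : Set α) := by
    rintro ⟨-, ha⟩
    rw [Finset.mem_coe, hs', Finset.mem_insert, Finset.mem_union, Finset.mem_erase] at ha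
    rcases ha with h3 | h3 | h3
    · exact hab h3
    · exact haZ h3
    · exact h3.1 rfl
  rw [hset, Set.ncard_insert_of_notMem hanot (Set.toFinite _)] at h1
  have h3 : (O ∩ (s' : Set α)).ncard + 1 ≡ (O ∩ (s' : Set α)).ncard + 0 [MOD p] := by
    rw [add_zero]
    exact h1.symm.trans h2
  have h4 : 1 ≡ 0 [MOD p] := Nat.ModEq.add_left_cancel' _ h3
  have h5 : p ∣ 1 := (Nat.modEq_zero_iff_dvd.mp h4)
  exact hp.one_lt.ne' (Nat.dvd_one.mp h5)

end Cfsg.Agent.S0743
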