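import Cfsg.Statements.S5944
-- import your own Cfsg.Agent.* helpers here

set_option autoImplicit false
open Cfsg

namespace Cfsg.Agent.S5944


/-- For n ≠ 4, every proper subgroup of the symmetric group S_n other than the alternating group A_n has index at least n. -/
theorem result (n : ℕ) (hn : n ≠ 4) (H : Subgroup (Equiv.Perm (Fin n))) (hH : H ≠ ⊤) (hA : H ≠ alternatingGroup (Fin n)) : n ≤ H.index := by
  classical
  have hidx0 : H.index ≠ 0 := Subgroup.index_ne_zero_of_finite
  have hidx1 : H.index ≠ 1 := fun h => hH (Subgroup.index_eq_one.mp h)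
  have hidx2 : H.index ≠ 2 := fun h => hA (Equiv.Perm.eq_alternatingGroup_of_index_eq_two h)
  by_cases hn5 : n < 5
  · omega
  push Not at hn5
  by_contra hlt
  push Not at hlt
  have hcard : 5 ≤ Nat.card (Fin n) := by simpa using hn5
  -- the core of H is trivial
  have hcore : H.normalCore = ⊥ := by
    by_contra hne
    have hnt : Nontrivial H.normalCore := (Subgroup.nontrivial_iff_ne_bot _).mpr hne
    have hle : alternatingGroup (Fin n) ≤ H :=
      (Equiv.Perm.alternatingGroup_le_of_normal hcard hnt).trans H.normalCore_le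
    have : Nontrivial (Fin n) := Fin.nontrivial_iff_two_le.mpr (by omega)
    have h2 := Subgroup.relIndex_mul_index hle
    rw [alternatingGroup.index_eq_two] at h2
    have hdvd : H.index ∣ 2 := Dvd.intro_left _ h2
    have := Nat.le_of_dvd (by norm_num) hdvd
    omega
  -- so Perm (Fin n) embeds into Perm (G ⧸ H)
  have hinj : Function.Injective (MulAction.toPermHom (Equiv.Perm (Fin n)) (Equiv.Perm (Fin n) ⧸ H)) := by
    rw [← MonoidHom.ker_eq_bot_iff, ← Subgroup.normalCore_eq_ker, hcore]
  have hle := Nat.card_le_card_of_injective _ hinj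
  rw [Nat.card_perm, Nat.card_perm, Nat.card_fin] at hle
  have : Nat.card (Equiv.Perm (Fin n) ⧸ H) = H.index := rfl
  rw [this] at hle
  have := (Nat.factorial_lt (Nat.pos_of_ne_zero hidx0)).mpr hlt
  omega

end Cfsg.Agent.S5944
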