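import Cfsg.Statements.S0736
import Mathlib
import Cfsg.Statements.S0736

set_option autoImplicit false
open Cfsg

namespace Cfsg.Agent.S0736

open scoped Pointwise

/-- p ∤ C(k + j, j) for j < q = p^a ∣ k. -/
theorem choose_not_dvd (p a k : ℕ) (hp : p.Prime) (hqk : p ^ a ∣ k) :
    ∀ j : ℕ, j < p ^ a → ¬ p ∣ (k + j).choose j := by
  intro j
  induction j with
  | zero =>
    intro _ h
    rw [Nat.choose_zero_right] at h
    exact hp.one_lt.ne' (Nat.dvd_one.mp h)
  | succ j ih =>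
    intro hj h
    have ih' := ih (by omega)
    -- (k + j + 1) * C(k+j, j) = C(k+j+1, j+1) * (j+1)
    have key : (k + j + 1) * (k + j).choose j = (k + (j + 1)).choose (j + 1) * (j + 1) := by
      have := Nat.add_one_mul_choose_eq (k + j) j
      rw [show k + (j + 1) = k + j + 1 by ring]
      exact this
    -- write j+1 = p^i * j' with p ∤ j'
    obtain ⟨i, j', hj', hjj⟩ := Nat.exists_eq_pow_mul_and_not_dvd (n := j + 1) (by omega) p hp.ne_one
    have hia : i < a := by
      by_contra hcon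
      push Not at hcon
      have : p ^ a ∣ j + 1 := by
        rw [hjj]
        exact Dvd.dvd.mul_right (pow_dvd_pow p hcon) j'
      have := Nat.le_of_dvd (by omega) this
      omega
    obtain ⟨k', hk'⟩ : p ^ (i + 1) ∣ k := (pow_dvd_pow p (by omega)).trans hqk
    have hpi : 0 < p ^ i := pow_pos hp.pos i
    have e1 : k + j + 1 = p ^ i * (p * k' + j') := by
      rw [mul_add, ← hjj, hk']; ring
    generalize (k + (j + 1)).choose (j + 1) = C' at key h
    rw [e1] at key
    have key2 : (p * k' + j') * (k + j).choose j = C' * j' := by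
      apply Nat.eq_of_mul_eq_mul_left hpi
      rw [← mul_assoc, key, hjj]; ring
    have h3 : p ∣ (p * k' + j') * (k + j).choose j := by
      rw [key2]; exact Dvd.dvd.mul_right h j'
    rcases (hp.dvd_mul).mp h3 with h4 | h4
    · exact hj' ((Nat.dvd_add_right (Dvd.intro k' rfl)).mp h4)
    · exact ih' h4

theorem double_count {α : Type*} [DecidableEq α] (O : Finset α → Prop) [DecidablePred O]
    (S : Finset α) (k q : ℕ) (hk : 1 ≤ k) (hq : 1 ≤ q) (hS : S.card = k + q - 1) :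
    ∑ Γ ∈ S.powersetCard k, (Γ.filter (fun x => O (Γ.erase x))).card
      = q * ((S.powersetCard (k - 1)).filter O).card := by
  classical
  have h1 : ∑ Γ ∈ S.powersetCard k, (Γ.filter (fun x => O (Γ.erase x))).card
      = ((S.powersetCard k).sigma (fun Γ => Γ.filter (fun x => O (Γ.erase x)))).card := by
    rw [Finset.card_sigma]
  have h2 : q * ((S.powersetCard (k - 1)).filter O).card
      = (((S.powersetCard (k - 1)).filter O).sigma (fun Δ => S \ Δ)).card := by
    rw [Finset.card_sigma]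
    rw [Finset.sum_const_nat (m := q)]
    · ring
    · intro Δ hΔ
      rw [Finset.mem_filter, Finset.mem_powersetCard] at hΔ
      rw [Finset.card_sdiff_of_subset hΔ.1.1, hS, hΔ.1.2]
      omega
  rw [h1, h2]
  apply Finset.card_nbij' (fun p => ⟨p.1.erase p.2, p.2⟩) (fun p => ⟨insert p.2 p.1, p.2⟩)
  · rintro ⟨Γ, x⟩ hp
    simp only [Finset.coe_sigma, Set.mem_sigma_iff, Finset.mem_coe, Finset.mem_powersetCard,
      Finset.mem_filter, Finset.mem_sdiff] at hp ⊢
    obtain ⟨⟨hΓS, hΓc⟩, hxΓ, hO⟩ := hp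
    refine ⟨⟨⟨(Finset.erase_subset _ _).trans hΓS, ?_⟩, hO⟩, hΓS hxΓ, Finset.notMem_erase x Γ⟩
    rw [Finset.card_erase_of_mem hxΓ, hΓc]
  · rintro ⟨Δ, x⟩ hp
    simp only [Finset.coe_sigma, Set.mem_sigma_iff, Finset.mem_coe, Finset.mem_powersetCard,
      Finset.mem_filter, Finset.mem_sdiff] at hp ⊢
    obtain ⟨⟨⟨hΔS, hΔc⟩, hO⟩, hxS, hxΔ⟩ := hp
    refine ⟨⟨?_, ?_⟩, Finset.mem_insert_self x Δ, ?_⟩
    · exact Finset.insert_subset hxS hΔS
    · rw [Finset.card_insert_of_notMem hxΔ, hΔc]; omega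
    · rw [Finset.erase_insert hxΔ]; exact hO
  · rintro ⟨Γ, x⟩ hp
    simp only [Finset.coe_sigma, Set.mem_sigma_iff, Finset.mem_coe, Finset.mem_powersetCard,
      Finset.mem_filter] at hp
    simp only [Finset.insert_erase hp.2.1]
  · rintro ⟨Δ, x⟩ hp
    simp only [Finset.coe_sigma, Set.mem_sigma_iff, Finset.mem_coe, Finset.mem_powersetCard,
      Finset.mem_filter, Finset.mem_sdiff] at hp
    simp only [Finset.erase_insert hp.2.2]

theorem main {α : Type*} [Fintype α] [DecidableEq α] (G : Subgroup (Equiv.Perm α)) {k : ℕ}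
    (hk : 2 ≤ k) (hG : MulAction.IsPretransitive G (Set.powersetCard α k))
    (hq : ∀ q : ℕ, IsPrimePow q → q ∣ k → k + q - 1 ≤ Fintype.card α) :
    MulAction.IsPretransitive G (Set.powersetCard α (k - 1)) := by
  classical
  refine ⟨fun Δ₀ Δ₁ => ?_⟩
  let O : Finset α → Prop := fun Δ => ∃ g : G, g • (Δ₀ : Finset α) = Δ
  have hOinv : ∀ (g : G) (Δ : Finset α), O Δ → O (g • Δ) := by
    rintro g Δ ⟨h, rfl⟩
    exact ⟨g * h, mul_smul g h _⟩
  let c : Finset α → ℕ := fun Γ => (Γ.filter (fun x => O (Γ.erase x))).card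
  have herase : ∀ (g : G) (Γ : Finset α) (x : α), (g • Γ).erase (g • x) = g • (Γ.erase x) := by
    intro g Γ x
    ext y
    rw [Finset.mem_erase, ← Finset.inv_smul_mem_iff, ← Finset.inv_smul_mem_iff, Finset.mem_erase]
    constructor
    · rintro ⟨h1, h2⟩
      refine ⟨fun h => h1 ?_, h2⟩
      rw [← h, smul_inv_smul]
    · rintro ⟨h1, h2⟩
      refine ⟨fun h => h1 ?_, h2⟩
      rw [h, inv_smul_smul]
  have hc_le : ∀ (g : G) (Γ : Finset α), c Γ ≤ c (g • Γ) := by
    intro g Γ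
    apply Finset.card_le_card_of_injOn (fun x => g • x)
    · intro x hx
      rw [Finset.mem_coe, Finset.mem_filter] at hx ⊢
      refine ⟨Finset.smul_mem_smul_finset hx.1, ?_⟩
      rw [herase]
      exact hOinv g _ hx.2
    · intro x _ y _ h
      exact MulAction.injective g h
  have hc_inv : ∀ (g : G) (Γ : Finset α), c (g • Γ) = c Γ := by
    intro g Γ
    apply le_antisymm _ (hc_le g Γ)
    have := hc_le g⁻¹ (g • Γ)
    rwa [inv_smul_smul] at this
  have hc_const : ∀ Γ Γ' : Finset α, Γ.card = k → Γ'.card = k → c Γ = c Γ' := by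
    intro Γ Γ' h h'
    obtain ⟨g, hg⟩ := hG.exists_smul_eq (⟨Γ, h⟩ : Set.powersetCard α k) ⟨Γ', h'⟩
    have hg' : g • Γ = Γ' := by
      have := congrArg (fun s : Set.powersetCard α k => (s : Finset α)) hg
      exact this
    rw [← hg', hc_inv]
  -- a prime dividing k
  obtain ⟨p₀, hp₀, hp₀k⟩ := Nat.exists_prime_and_dvd (show k ≠ 1 by omega)
  have hn : k + 1 ≤ Fintype.card α := by
    have := hq p₀ hp₀.isPrimePow hp₀k
    have := hp₀.two_le
    omega
  -- extend any (k-1)-set to a k-set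
  have hext : ∀ Δ : Finset α, Δ.card = k - 1 → ∃ x, x ∉ Δ := by
    intro Δ hΔ
    by_contra hcon
    push Not at hcon
    have : Δ = Finset.univ := Finset.eq_univ_iff_forall.mpr hcon
    rw [this, Finset.card_univ] at hΔ
    omega
  -- the constant value
  obtain ⟨x₀, hx₀⟩ := hext Δ₀ Δ₀.2
  set Γ₀ : Finset α := insert x₀ (Δ₀ : Finset α) with hΓ₀
  have hΓ₀c : Γ₀.card = k := by
    rw [hΓ₀, Finset.card_insert_of_notMem hx₀, Δ₀.2]; omega
  have hc_pos : 1 ≤ c Γ₀ := by
    apply Finset.card_pos.mpr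
    refine ⟨x₀, ?_⟩
    rw [Finset.mem_filter]
    refine ⟨Finset.mem_insert_self _ _, ?_⟩
    rw [hΓ₀, Finset.erase_insert hx₀]
    exact ⟨1, one_smul _ _⟩
  have hc_le_k : c Γ₀ ≤ k := by
    rw [← hΓ₀c]
    exact Finset.card_filter_le _ _
  -- divisibility
  have hdiv : k ∣ c Γ₀ := by
    rw [Nat.dvd_iff_prime_pow_dvd_dvd]
    intro p a hp hpa
    by_cases ha : a = 0
    · subst ha; simp
    have hqpos : 1 ≤ p ^ a := Nat.one_le_pow _ _ hp.pos
    have hcard := hq (p ^ a) (hp.isPrimePow.pow ha) hpa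
    obtain ⟨S, -, hS⟩ := Finset.exists_subset_card_eq (s := (Finset.univ : Finset α))
      (n := k + p ^ a - 1) (by rw [Finset.card_univ]; exact hcard)
    have hdc := double_count O S k (p ^ a) (by omega) hqpos hS
    have hsum : ∑ Γ ∈ S.powersetCard k, (Γ.filter (fun x => O (Γ.erase x))).card
        = (k + p ^ a - 1).choose k * c Γ₀ := by
      rw [Finset.sum_const_nat (m := c Γ₀), Finset.card_powersetCard, hS]
      intro Γ hΓ
      rw [Finset.mem_powersetCard] at hΓ
      exact hc_const Γ Γ₀ hΓ.2 hΓ₀c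
    rw [hsum] at hdc
    have hnd : ¬ p ∣ (k + p ^ a - 1).choose k := by
      have := choose_not_dvd p a k hp hpa (p ^ a - 1) (by omega)
      rw [show k + (p ^ a - 1) = k + p ^ a - 1 by omega] at this
      rw [← Nat.choose_symm (by omega), show k + p ^ a - 1 - k = p ^ a - 1 by omega]
      exact this
    have hcop : Nat.Coprime (p ^ a) ((k + p ^ a - 1).choose k) :=
      Nat.Coprime.pow_left a ((Nat.Prime.coprime_iff_not_dvd hp).mpr hnd)
    exact hcop.dvd_of_dvd_mul_left (Dvd.intro _ hdc.symm)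
  have hck : c Γ₀ = k := le_antisymm hc_le_k (Nat.le_of_dvd (by omega) hdiv)
  -- now Δ₁
  obtain ⟨x₁, hx₁⟩ := hext Δ₁ Δ₁.2
  set Γ₁ : Finset α := insert x₁ (Δ₁ : Finset α) with hΓ₁
  have hΓ₁c : Γ₁.card = k := by
    rw [hΓ₁, Finset.card_insert_of_notMem hx₁, Δ₁.2]; omega
  have hc1 : c Γ₁ = Γ₁.card := by rw [hc_const Γ₁ Γ₀ hΓ₁c hΓ₀c, hck, hΓ₁c]
  have hall : Γ₁.filter (fun x => O (Γ₁.erase x)) = Γ₁ :=
    Finset.eq_of_subset_of_card_le (Finset.filter_subset _ _) (le_of_eq hc1.symm)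
  have hx₁O : O (Γ₁.erase x₁) := by
    have : x₁ ∈ Γ₁.filter (fun x => O (Γ₁.erase x)) := by
      rw [hall]; exact Finset.mem_insert_self _ _
    exact (Finset.mem_filter.mp this).2
  rw [hΓ₁, Finset.erase_insert hx₁] at hx₁O
  obtain ⟨g, hg⟩ := hx₁O
  refine ⟨g, ?_⟩
  apply Subtype.ext
  exact hg


/-- A `k`-homogeneous permutation group of degree `n`, `k ≥ 2`, with `k + q - 1 ≤ n` for every prime power `q` dividing `k`, is `(k-1)`-homogeneous. -/
theorem result {α : Type*} [Fintype α] [DecidableEq α] (G : Subgroup (Equiv.Perm α)) {k : ℕ} (hk : 2 ≤ k) (hG : MulAction.IsPretransitive G (Set.powersetCard α k)) (hq : ∀ q : ℕ, IsPrimePow q → q ∣ k → k + q - 1 ≤ Fintype.card α) : MulAction.IsPretransitive G (Set.powersetCard α (k - 1)) := by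
  exact main G hk hG hq

end Cfsg.Agent.S0736
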