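import Cfsg.Statements.S0745
import Mathlib
import Cfsg.Agent.Lib.Helper10.LWP1
import Cfsg.Agent.Lib.Helper10.LWP2
import Cfsg.Agent.Lib.helper3.LWP3
import Cfsg.Agent.Lib.helper3.LWP8
import Cfsg.Agent.Lib.Helper25.LWP7
import Cfsg.Agent.Lib.Helper19.LWP5a
import Cfsg.Agent.Lib.Helper19.LWP6
import Cfsg.Agent.Lib.Helper22.LW.ThmC
import Cfsg.Agent.Lib.Helper22.LW.P9

set_option autoImplicit false
open Cfsg

namespace Cfsg.Agent.S0745

/-- Let `G` have degree `n` and `3 ≤ k ≤ n`; suppose `G` is `(k-2)`-transitive but not `(k-1)`-transitive, and is `(k-1)`-homogeneous and `k`-homogeneous. Then `k = n` and `G` is the alternating group, or `n = 5, k = 4, |G| = 20`, or `n = 6, k = 5, |G| = 120`, or `n = 9, k = 5, |G| ∈ {504, 1512}`. -/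
theorem result {α : Type*} [Fintype α] [DecidableEq α] (G : Subgroup (Equiv.Perm α)) {k : ℕ} (hk : 3 ≤ k) (hkn : k ≤ Fintype.card α) (ht : MulAction.IsMultiplyPretransitive G α (k - 2)) (hnt : ¬ MulAction.IsMultiplyPretransitive G α (k - 1)) (hh1 : MulAction.IsPretransitive G (Set.powersetCard α (k - 1))) (hh : MulAction.IsPretransitive G (Set.powersetCard α k)) : (k = Fintype.card α ∧ G = alternatingGroup α) ∨ (Fintype.card α = 5 ∧ k = 4 ∧ Nat.card G = 20) ∨ (Fintype.card α = 6 ∧ k = 5 ∧ Nat.card G = 120) ∨ (Fintype.card α = 9 ∧ k = 5 ∧ (Nat.card G = 504 ∨ Nat.card G = 1512)) := by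
  classical
  have hfix0 := Cfsg.Agent.Lib.Helper10.LWP1.fix_trivial G hk hkn hnt hh1 hh
  rcases Nat.eq_or_lt_of_le hkn with hkeq | hklt
  · left
    refine ⟨hkeq, ?_⟩
    apply Cfsg.Agent.Lib.Helper22.LW.eq_alternating G (by omega)
    · rw [← hkeq]; exact ht
    · rw [← hkeq]; exact hnt
  right
  obtain ⟨t, rfl⟩ : ∃ t, k = t + 2 := ⟨k - 2, by omega⟩
  have e1 : t + 2 - 2 = t := by omega
  have e2 : t + 2 - 1 = t + 1 := by omega
  rw [e1] at ht
  rw [e2] at hnt hh1 hfix0
  have ht1 : 1 ≤ t := by omega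
  obtain ⟨h, c, hh0, hc2, hn, hH, hcard, hd1, hd2⟩ :=
    Cfsg.Agent.Lib.Helper10.LWP2.numerics G t ht1 (by omega) ht hnt hfix0 hh1 hh
  have hhc3 : 3 ≤ h * c := by omega
  have hodd : Odd h := Cfsg.Agent.Lib.helper3.LWP3.h_odd G t h c ht1 hc2 hh0 hn ht hfix0 hH hh1
  by_cases ht4 : 4 ≤ t
  · exfalso
    by_cases h1 : h = 1
    · subst h1
      have hH' : ∀ s : Finset α, s.card = t → fixingSubgroup G (s : Set α) = ⊥ := by
        intro s hs
        have := hH s hs
        exact (Subgroup.card_eq_one).mp this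
      obtain ⟨hc7, ht5⟩ :=
        Cfsg.Agent.Lib.Helper19.LWP6.sharp_case G t c ht4 (by omega) (by rw [hn]; ring) ht hH'
      subst hc7
      have : t = 4 ∨ t = 5 := by omega
      rcases this with rfl | rfl
      · revert hd1; decide
      · revert hd1; decide
    · have h3 : 3 ≤ h := by
        obtain ⟨m, hm⟩ := hodd
        omega
      have hC : Cfsg.Agent.Lib.Helper19.LWP5.ThmCProp := by
        intro K β _ _ _ _ _ h' hodd' h3' hβ' hT' h5' h4'
        exact Cfsg.Agent.Lib.Helper22.LW.thmC h' hodd' h3' hβ' hT' h5' h4'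
      have := Cfsg.Agent.Lib.Helper19.LWP5.no_odd_ge_three_of hC G t h c ht4 hodd h3 (by omega) hn
        ht hfix0 hH
      omega
  · have ht3 : t ≤ 3 := by omega
    have hcases := Cfsg.Agent.Lib.helper3.LWP8.arith_small t h c ht1 ht3 hodd hc2 hhc3 hd1 hd2
    rcases hcases with ⟨rfl, rfl, rfl⟩ | ⟨rfl, rfl, rfl⟩ | ⟨rfl, rfl, rfl⟩ | ⟨rfl, rfl, rfl⟩ |
      ⟨rfl, rfl, rfl⟩ | ⟨rfl, rfl, rfl⟩ | ⟨rfl, rfl, rfl⟩ | ⟨rfl, rfl, rfl⟩
    · left
      refine ⟨by omega, rfl, ?_⟩
      rw [hcard, hn]; decide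
    · exfalso
      have hα : Fintype.card α = 11 := by omega
      apply Cfsg.Agent.Lib.Helper25.LWP7.kill_2_3_3 G hα (by rw [hcard, hα]; decide)
      have := ht
      exact MulAction.isPretransitive_of_is_two_pretransitive
    · right; right
      refine ⟨by omega, rfl, Or.inr ?_⟩
      rw [hcard, hn]; decide
    · right; left
      refine ⟨by omega, rfl, ?_⟩
      rw [hcard, hn]; decide
    · exfalso
      have hα : Fintype.card α = 12 := by omega
      apply Cfsg.Agent.Lib.Helper25.LWP7.kill_3_3_3 G hα (by rw [hcard, hα]; decide)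
      exact MulAction.isMultiplyPretransitive_of_le (n := 3) (by omega)
        (by rw [Nat.card_eq_fintype_card, hα]; norm_num)
    · exfalso
      have hα : Fintype.card α = 24 := by omega
      apply Cfsg.Agent.Lib.Helper25.LWP7.kill_3_7_3 G hα (by rw [hcard, hα]; decide)
      exact MulAction.isMultiplyPretransitive_of_le (n := 3) (by omega)
        (by rw [Nat.card_eq_fintype_card, hα]; norm_num)
    · exfalso
      have hα : Fintype.card α = 7 := by omega
      apply Cfsg.Agent.Lib.Helper25.LWP7.kill_3_1_4 G hα ht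
      intro s hs
      exact (Subgroup.card_eq_one).mp (hH s hs)
    · right; right
      refine ⟨by omega, rfl, Or.inl ?_⟩
      rw [hcard, hn]; decide

end Cfsg.Agent.S0745
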