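import Cfsg.Statements.S3747
import Cfsg.Agent.Lib.Helper10.Components
import Cfsg.Agent.S1265
import Cfsg.Agent.S3743

set_option autoImplicit false
open Cfsg

namespace Cfsg.Agent.S3747

/-- pairwise commuting centre-free subgroups generate a centre-free subgroup -/
theorem lemmaZ {G : Type*} [Group G] {ι : Type*} [DecidableEq ι] (H : ι → Subgroup G)
    (hcomm : ∀ i j, i ≠ j → H i ≤ Subgroup.centralizer (H j : Set G))
    (hcen : ∀ i, ∀ z ∈ H i, z ∈ Subgroup.centralizer (H i : Set G) → z = 1)
    (s : Finset ι) : ∀ z ∈ ⨆ i ∈ s, H i,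
      (∀ i ∈ s, z ∈ Subgroup.centralizer (H i : Set G)) → z = 1 := by
  induction s using Finset.induction_on with
  | empty => intro z hz _; simpa using hz
  | insert i t hit ih =>
    intro z hz hzc
    rw [Finset.iSup_insert] at hz
    set T := ⨆ j ∈ t, H j with hTdef
    have hT : T ≤ Subgroup.centralizer (H i : Set G) := by
      apply iSup₂_le
      intro j hj
      exact hcomm j i (by rintro rfl; exact hit hj)
    have hHi : H i ≤ Subgroup.normalizer (T : Set G) := by
      have h1 : H i ≤ Subgroup.centralizer (T : Set G) := Subgroup.le_centralizer_iff.mp hT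
      exact h1.trans (Subgroup.centralizer_le_normalizer _)
    have hcoe := Subgroup.coe_mul_of_left_le_normalizer_right (H i) T hHi
    have hz' : z ∈ ((H i ⊔ T : Subgroup G) : Set G) := hz
    rw [hcoe] at hz'
    obtain ⟨a, ha, b, hb, rfl⟩ := Set.mem_mul.mp hz'
    have ha1 : a = 1 := by
      apply hcen i a ha
      have h1 := hzc i (Finset.mem_insert_self i t)
      have h2 := hT hb
      have e : a = (a * b) * b⁻¹ := by group
      rw [e]; exact Subgroup.mul_mem _ h1 (Subgroup.inv_mem _ h2)
    subst ha1
    rw [one_mul] at hzc ⊢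
    exact ih b hb (fun j hj => hzc j (Finset.mem_insert_of_mem hj))

open Cfsg.Agent.Lib.Helper10 in
theorem partA {G : Type*} [Group G] [Finite G] (K : Subgroup G) (hK : Cfsg.IsComponent K)
    (hZ : Subgroup.center ↥K = ⊥) :
    Subgroup.normalClosure (K : Set G) ≠ ⊥ ∧ ∀ N : Subgroup G, N.Normal →
      N ≤ Subgroup.normalClosure (K : Set G) → N = ⊥ ∨ N = Subgroup.normalClosure (K : Set G) := by
  classical
  constructor
  · intro h
    apply isComponent_ne_bot hK
    rw [eq_bot_iff, ← h]
    exact Subgroup.le_normalClosure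
  intro N hN hNM
  let ι := {L : Subgroup G // ∃ g : G, L = K.map (MulAut.conj g).toMonoidHom}
  have : Fintype ι := Fintype.ofFinite _
  let H : ι → Subgroup G := fun L => L.1
  have hcompL : ∀ L : ι, Cfsg.IsComponent (H L) := by
    rintro ⟨L, g, rfl⟩
    exact isComponent_map_equiv (MulAut.conj g) hK
  have hcardL : ∀ L : ι, Nat.card (H L) = Nat.card K := by
    rintro ⟨L, g, rfl⟩
    exact (Nat.card_congr (K.equivMapOfInjective (MulAut.conj g).toMonoidHom
      (MulAut.conj g).injective).toEquiv).symm
  have hcomm : ∀ i j : ι, i ≠ j → H i ≤ Subgroup.centralizer (H j : Set G) := by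
    intro i j hij
    rcases component_le_or_commutator_eq_bot (H i) (H j) (hcompL i) (hcompL j).1 with h | h
    · exfalso
      apply hij
      apply Subtype.ext
      exact Subgroup.eq_of_le_of_card_ge h (by rw [hcardL i, hcardL j])
    · exact Subgroup.commutator_eq_bot_iff_le_centralizer.mp h
  have hcenK : ∀ z ∈ K, z ∈ Subgroup.centralizer (K : Set G) → z = 1 := by
    intro z hz hzc
    have : (⟨z, hz⟩ : K) ∈ Subgroup.center ↥K := by
      rw [Subgroup.mem_center_iff]
      intro k
      apply Subtype.ext
      exact Subgroup.mem_centralizer_iff.mp hzc k k.2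
    rw [hZ, Subgroup.mem_bot] at this
    exact congrArg Subtype.val this
  have hcen : ∀ i : ι, ∀ z ∈ H i, z ∈ Subgroup.centralizer (H i : Set G) → z = 1 := by
    rintro ⟨L, g, rfl⟩ z hz hzc
    obtain ⟨k, hk, rfl⟩ := hz
    have hk1 : k = 1 := by
      apply hcenK k hk
      rw [Subgroup.mem_centralizer_iff]
      intro k' hk'
      have h1 : (MulAut.conj g).toMonoidHom k' ∈ K.map (MulAut.conj g).toMonoidHom :=
        ⟨k', hk', rfl⟩
      have h2 := Subgroup.mem_centralizer_iff.mp hzc _ h1
      rw [← map_mul, ← map_mul] at h2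
      exact (MulAut.conj g).injective h2
    rw [hk1, map_one]
  -- the join of all conjugates is normal
  have hNorm : (⨆ L : ι, H L).Normal := by
    constructor
    intro n hn x
    have h1 : (MulAut.conj x).toMonoidHom n ∈ (⨆ L : ι, H L).map (MulAut.conj x).toMonoidHom :=
      ⟨n, hn, rfl⟩
    rw [Subgroup.map_iSup] at h1
    have h2 : (⨆ L : ι, (H L).map (MulAut.conj x).toMonoidHom) ≤ ⨆ L : ι, H L := by
      apply iSup_le
      rintro ⟨L, g, rfl⟩
      have hmem : ∃ g' : G, (K.map (MulAut.conj g).toMonoidHom).map (MulAut.conj x).toMonoidHom =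
          K.map (MulAut.conj g').toMonoidHom := by
        refine ⟨x * g, ?_⟩
        rw [Subgroup.map_map]
        congr 1
        ext y
        simp [mul_assoc]
      exact le_iSup H ⟨_, hmem⟩
    have := h2 h1
    simpa using this
  have hKle : K ≤ ⨆ L : ι, H L := by
    have hmem : ∃ g : G, K = K.map (MulAut.conj g).toMonoidHom := by
      refine ⟨1, ?_⟩
      rw [map_one]
      exact (Subgroup.map_id K).symm
    exact le_iSup H ⟨K, hmem⟩
  have hMle : Subgroup.normalClosure (K : Set G) ≤ ⨆ L : ι, H L :=
    Subgroup.normalClosure_le_normal hKle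
  by_cases hex : ∃ L : ι, H L ≤ N
  · right
    obtain ⟨⟨L, g, rfl⟩, hL⟩ := hex
    apply le_antisymm hNM
    apply Subgroup.normalClosure_le_normal
    intro k hk
    have h1 : (MulAut.conj g).toMonoidHom k ∈ N := hL ⟨k, hk, rfl⟩
    have h2 := hN.conj_mem _ h1 g⁻¹
    simpa [mul_assoc] using h2
  · left
    push Not at hex
    have hNc : ∀ L : ι, N ≤ Subgroup.centralizer (H L : Set G) := by
      intro L
      rcases component_le_or_commutator_eq_bot (H L) N (hcompL L) hN.isSubnormal with h | h
      · exact absurd h (hex L)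
      · exact Subgroup.le_centralizer_iff.mp (Subgroup.commutator_eq_bot_iff_le_centralizer.mp h)
    rw [eq_bot_iff]
    intro z hz
    rw [Subgroup.mem_bot]
    apply lemmaZ H hcomm hcen Finset.univ z
    · have := hMle (hNM hz)
      simpa using this
    · intro L _
      exact hNc L hz


/-- Let G be a finite group. (a) If K is a component of G with trivial centre, then the normal closure of K in G is a minimal normal subgroup of G. (b) If the Fitting subgroup of G is trivial, then the layer E(G) is generated by the minimal normal subgroups of G. -/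
theorem result {G : Type*} [Group G] [Finite G] : (∀ K : Subgroup G, Cfsg.IsComponent K → Subgroup.center ↥K = ⊥ → (Subgroup.normalClosure (K : Set G) ≠ ⊥ ∧ ∀ N : Subgroup G, N.Normal → N ≤ Subgroup.normalClosure (K : Set G) → N = ⊥ ∨ N = Subgroup.normalClosure (K : Set G))) ∧ (Cfsg.fittingSubgroup G = ⊥ → sSup {N : Subgroup G | N ≠ ⊥ ∧ N.Normal ∧ ∀ N' : Subgroup G, N'.Normal → N' ≤ N → N' = ⊥ ∨ N' = N} = Cfsg.layer G) := by
  classical
  refine ⟨fun K hK hZ => partA K hK hZ, ?_⟩
  intro hF
  have hlayerN : (Cfsg.layer G).Normal := by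
    have : (Cfsg.layer G).Characteristic := Cfsg.Agent.Lib.Helper10.layer_characteristic
    infer_instance
  apply le_antisymm
  · -- every minimal normal subgroup lies in the layer
    apply sSup_le
    rintro N ⟨hN1, hN, hmin⟩
    have hinfN : (N ⊓ Cfsg.layer G).Normal := inferInstance
    rcases hmin (N ⊓ Cfsg.layer G) hinfN inf_le_left with h | h
    · exfalso
      apply hN1
      have hcomm : ⁅N, Cfsg.layer G⁆ = ⊥ := by
        rw [eq_bot_iff, ← h]
        exact Subgroup.commutator_le_inf N (Cfsg.layer G)
      have h1 : N ≤ Subgroup.centralizer (Cfsg.layer G : Set G) :=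
        Subgroup.commutator_eq_bot_iff_le_centralizer.mp hcomm
      have hFs : Cfsg.generalizedFittingSubgroup G = Cfsg.layer G := by
        unfold Cfsg.generalizedFittingSubgroup
        rw [hF, sup_bot_eq]
      have h2 := Cfsg.Agent.S1265.result (G := G)
      rw [hFs] at h2
      rw [eq_bot_iff, ← h]
      exact le_inf le_rfl (h1.trans h2)
    · rw [← h]; exact inf_le_right
  · -- every component lies in a minimal normal subgroup
    unfold Cfsg.layer
    apply sSup_le
    intro K hK
    have hZ : Subgroup.center ↥K = ⊥ := by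
      have hsub : ((Subgroup.center ↥K).map K.subtype).IsSubnormal :=
        (Subgroup.Normal.isSubnormal inferInstance).trans' hK.1
      have hnil : Group.IsNilpotent ↥((Subgroup.center ↥K).map K.subtype) := by
        have h1 : Group.IsNilpotent ↥(Subgroup.center ↥K) := by
          refine ⟨⟨1, ?_⟩⟩
          rw [Subgroup.upperCentralSeries_one_eq_top_iff]
          infer_instance
        exact (Group.isNilpotent_congr ((Subgroup.center ↥K).equivMapOfInjective K.subtype
          K.subtype_injective)).mp h1
      have hle := (Cfsg.Agent.S3743.result _ hsub).1 hnil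
      rw [hF, le_bot_iff] at hle
      exact (Subgroup.map_eq_bot_iff_of_injective _ K.subtype_injective).mp hle
    obtain ⟨hne, hmin⟩ := partA K hK hZ
    have hMN : (Subgroup.normalClosure (K : Set G)).Normal := Subgroup.normalClosure_normal
    exact Subgroup.le_normalClosure.trans (le_sSup ⟨hne, hMN, hmin⟩)

end Cfsg.Agent.S3747
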