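import Mathlib
import Cfsg.Statements.S0444

set_option autoImplicit false
open Cfsg

namespace Cfsg.Agent.S0444

open DihedralGroup

theorem mul_self_of_order {G : Type*} [Group G] {d : G} (h : orderOf d = 2) : d * d = 1 := by
  have := pow_orderOf_eq_one d
  rw [h, pow_two] at this
  exact this

theorem cancel_left {G : Type*} [Group G] {d : G} (h : d * d = 1) (x : G) : d * (d * x) = x := by
  rw [← mul_assoc, h, one_mul]

theorem commute_of_sq {G : Type*} [Group G] {d e : G} (hd : d * d = 1) (he : e * e = 1)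
    (h : (e * d) ^ 2 = 1) : e * d = d * e := by
  have h1 : e * d * (e * d) = 1 := by rw [← pow_two]; exact h
  have h2 : e * d = (e * d)⁻¹ := eq_inv_of_mul_eq_one_left h1
  have h3 : (d * e) * (e * d) = 1 := by
    simp only [mul_assoc, cancel_left he, hd]
  have h4 : d * e = (e * d)⁻¹ := eq_inv_of_mul_eq_one_left h3
  rw [h4, ← h2]

section core

variable {G : Type*} [Group G] (d e : G)

def fn : DihedralGroup 3 → G
  | r i => (d * e) ^ i.val
  | sr i => d * (d * e) ^ i.val

variable {d e}

theorem pw_add (h3 : (d * e) ^ 3 = 1) (i j : ZMod 3) :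
    (d * e) ^ (i + j).val = (d * e) ^ i.val * (d * e) ^ j.val := by
  rw [ZMod.val_add, ← pow_add, ← pow_eq_pow_mod _ h3]

theorem pw_sub (h3 : (d * e) ^ 3 = 1) (i j : ZMod 3) :
    (d * e) ^ (j - i).val = ((d * e) ^ i.val)⁻¹ * (d * e) ^ j.val := by
  have h := pw_add h3 i (j - i)
  rw [add_sub_cancel] at h
  rw [h, inv_mul_cancel_left]

theorem inverts (hd : d * d = 1) (he : e * e = 1) (n : ℕ) :
    d * (d * e) ^ n * d = ((d * e) ^ n)⁻¹ := by
  have hdinv : d⁻¹ = d := inv_eq_of_mul_eq_one_left hd
  have heinv : e⁻¹ = e := inv_eq_of_mul_eq_one_left he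
  have h1 : d * (d * e) ^ n * d⁻¹ = (d * (d * e) * d⁻¹) ^ n := (conj_pow).symm
  rw [hdinv] at h1
  rw [h1]
  have h2 : d * (d * e) * d = (d * e)⁻¹ := by
    rw [mul_inv_rev, hdinv, heinv, ← mul_assoc, hd, one_mul]
  rw [h2, inv_pow]

theorem fn_mul (hd : d * d = 1) (he : e * e = 1) (h3 : (d * e) ^ 3 = 1) (a b : DihedralGroup 3) :
    fn d e (a * b) = fn d e a * fn d e b := by
  rcases a with i | i <;> rcases b with j | j
  · simp only [r_mul_r, fn]
    exact pw_add h3 i j
  · simp only [r_mul_sr, fn]
    rw [pw_sub h3, ← inverts hd he i.val]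
    simp only [mul_assoc, cancel_left hd]
  · simp only [sr_mul_r, fn]
    rw [pw_add h3, mul_assoc]
  · simp only [sr_mul_sr, fn]
    rw [pw_sub h3, ← inverts hd he i.val]
    simp only [mul_assoc, cancel_left hd]

def hom (hd : d * d = 1) (he : e * e = 1) (h3 : (d * e) ^ 3 = 1) : DihedralGroup 3 →* G :=
  MonoidHom.mk' (fn d e) (fn_mul hd he h3)

theorem hom_injective (hd : d * d = 1) (he : e * e = 1) (h3 : (d * e) ^ 3 = 1)
    (hne : ¬ Commute d e) : Function.Injective (hom hd he h3) := by
  rw [injective_iff_map_eq_one]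
  have hc1 : d * e ≠ 1 := by
    intro h
    apply hne
    have : d = e := by
      have h' : d * e = e * e := by rw [h, he]
      exact mul_right_cancel h'
    rw [this]
  have hc2 : (d * e) ^ 2 ≠ 1 := by
    intro h
    apply hc1
    have : (d * e) ^ 3 = (d * e) ^ 2 * (d * e) := pow_succ _ _
    rw [h3, h, one_mul] at this
    exact this.symm
  have hd1 : d ≠ 1 := by
    intro h
    apply hne
    rw [h]
    exact Commute.one_left e
  have he1 : e ≠ 1 := by
    intro h
    apply hne
    rw [h]
    exact Commute.one_right d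
  intro a ha
  change fn d e a = 1 at ha
  rcases a with i | i
  · have hk := ZMod.val_lt i
    obtain h0 | h1 | h2 : i.val = 0 ∨ i.val = 1 ∨ i.val = 2 := by omega
    · have : i = 0 := (ZMod.val_eq_zero i).mp h0
      rw [this]; rfl
    · exfalso
      apply hc1
      simpa [fn, h1] using ha
    · exfalso
      apply hc2
      simpa [fn, h2] using ha
  · exfalso
    have hk := ZMod.val_lt i
    obtain h0 | h1 | h2 : i.val = 0 ∨ i.val = 1 ∨ i.val = 2 := by omega
    · apply hd1
      simpa [fn, h0] using ha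
    · apply he1
      have h' : d * (d * e) = 1 := by simpa [fn, h1] using ha
      rwa [cancel_left hd] at h'
    · apply he1
      have h' : d * (d * e) ^ 2 = 1 := by
        simpa [fn, h2] using ha
      have h4 : (d * e) ^ 2 = (d * e)⁻¹ := by
        have : (d * e) ^ 2 * (d * e) = 1 := by rw [← pow_succ]; exact h3
        exact eq_inv_of_mul_eq_one_left this
      have hdinv : d⁻¹ = d := inv_eq_of_mul_eq_one_left hd
      have heinv : e⁻¹ = e := inv_eq_of_mul_eq_one_left he
      rw [h4, mul_inv_rev, hdinv, heinv] at h'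
      have : d * (e * d) = d * d := by rw [h', hd]
      have h5 := mul_left_cancel this
      have : e * d = 1 * d := by rw [h5, one_mul]
      exact mul_right_cancel this

theorem hom_range (hd : d * d = 1) (he : e * e = 1) (h3 : (d * e) ^ 3 = 1) :
    (hom hd he h3).range = Subgroup.closure ({d, e} : Set G) := by
  have hdm : d ∈ Subgroup.closure ({d, e} : Set G) := Subgroup.subset_closure (by simp)
  have hem : e ∈ Subgroup.closure ({d, e} : Set G) := Subgroup.subset_closure (by simp)
  apply le_antisymm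
  · rintro _ ⟨a, rfl⟩
    change fn d e a ∈ _
    rcases a with i | i
    · exact Subgroup.pow_mem _ (Subgroup.mul_mem _ hdm hem) _
    · exact Subgroup.mul_mem _ hdm (Subgroup.pow_mem _ (Subgroup.mul_mem _ hdm hem) _)
  · rw [Subgroup.closure_le]
    intro x hx
    rcases hx with rfl | rfl
    · refine ⟨sr 0, ?_⟩
      change fn x e (sr 0) = x
      simp [fn]
    · refine ⟨sr 1, ?_⟩
      change fn d x (sr 1) = x
      have : (1 : ZMod 3).val = 1 := rfl
      simp only [fn, this, pow_one]
      exact cancel_left hd x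

end core

theorem equivPerm : Nonempty (DihedralGroup 3 ≃* Equiv.Perm (Fin 3)) := by
  have hd : (Equiv.swap (0 : Fin 3) 1) * (Equiv.swap (0 : Fin 3) 1) = 1 := by decide
  have he : (Equiv.swap (1 : Fin 3) 2) * (Equiv.swap (1 : Fin 3) 2) = 1 := by decide
  have h3 : ((Equiv.swap (0 : Fin 3) 1) * (Equiv.swap (1 : Fin 3) 2)) ^ 3 = 1 := by decide
  have hne : ¬ Commute (Equiv.swap (0 : Fin 3) 1) (Equiv.swap (1 : Fin 3) 2) := by
    unfold Commute SemiconjBy
    decide
  have hinj := hom_injective hd he h3 hne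
  have hbij : Function.Bijective (hom hd he h3) := by
    rw [Fintype.bijective_iff_injective_and_card]
    refine ⟨hinj, ?_⟩
    rw [DihedralGroup.card, Fintype.card_perm, Fintype.card_fin]
    rfl
  exact ⟨MulEquiv.ofBijective _ hbij⟩

theorem result {G : Type*} [Group G] {E : Set G} (hE : Cfsg.IsThreeTranspositionSet E) {d e : G} (hd : d ∈ E) (he : e ∈ E) (h : ¬ Commute d e) : Nonempty (Subgroup.closure ({d, e} : Set G) ≃* Equiv.Perm (Fin 3)) := by
  have hdd := mul_self_of_order (hE.1 d hd)
  have hee := mul_self_of_order (hE.1 e he)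
  have h3 : (d * e) ^ 3 = 1 := by
    rcases hE.2 d hd e he with h2 | h3
    · exact absurd (commute_of_sq hee hdd h2) h
    · exact h3
  obtain ⟨φ⟩ := equivPerm
  have e1 := MonoidHom.ofInjective (hom_injective hdd hee h3 h)
  have e2 : (hom hdd hee h3).range ≃* Subgroup.closure ({d, e} : Set G) :=
    MulEquiv.subgroupCongr (hom_range hdd hee h3)
  exact ⟨(e2.symm.trans e1.symm).trans φ⟩

end Cfsg.Agent.S0444
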