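import Mathlib
import Cfsg.Statements.S1276
import Cfsg.Agent.Lib.Helper10.PComp2

set_option autoImplicit false
open Cfsg

namespace Cfsg.Agent.S1276
open Cfsg.Agent.Lib.Helper10 Cfsg.Agent.Lib.Helper9

theorem result {X : Type*} [Group X] [Finite X] (K : Subgroup X) (hK : Cfsg.IsPComponent 2 K) : Cfsg.IsQuasisimple ↥K ↔ ⁅K, ((Cfsg.oddCore ↥K).map K.subtype)⁆ = ⊥ := by
  have hp2 : Fact (Nat.Prime 2) := ⟨Nat.prime_two⟩
  constructor
  · intro hq
    rcases quasisimple_normal_top_or_central hq (oddCore ↥K) inferInstance with h | h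
    · exfalso
      have h1 : (Nat.card (oddCore ↥K)).Coprime 2 := Cfsg.Agent.Lib.Helper1.pPrimeCore_card_coprime 2
      rw [h, Subgroup.card_top] at h1
      have h2 := isPComponent_dvd_card 2 hK
      have h3 := Nat.Coprime.eq_one_of_dvd h1.symm h2
      omega
    · rw [Subgroup.commutator_eq_bot_iff_le_centralizer]
      intro k hk
      rw [Subgroup.mem_centralizer_iff]
      rintro _ ⟨x, hx, rfl⟩
      have h1 := h hx
      rw [Subgroup.mem_center_iff] at h1
      exact (congrArg Subtype.val (h1 ⟨k, hk⟩)).symm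
  · intro h
    rw [Subgroup.commutator_eq_bot_iff_le_centralizer] at h
    have hO : oddCore ↥K ≤ Subgroup.center ↥K := by
      intro x hx
      rw [Subgroup.mem_center_iff]
      intro k
      have h1 := h k.2
      rw [Subgroup.mem_centralizer_iff] at h1
      exact Subtype.ext (h1 _ ⟨x, hx, rfl⟩).symm
    have hperf : Group.IsPerfect ↥K := Subgroup.isPerfect_iff.2 (isPComponent_perfect 2 hK)
    exact isQuasisimple_of_central_quotient hperf (oddCore ↥K) hO
      (isPComponent_quotient_isQuasisimple 2 hK)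

end Cfsg.Agent.S1276
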