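import Cfsg.Statements.S1301
import Cfsg.Agent.S1878
import Cfsg.Agent.Lib.Helper10.LBalTwo2

set_option autoImplicit false
open Cfsg

namespace Cfsg.Agent.S1301

open Cfsg.Agent.Lib.Helper10 Cfsg.Agent.Lib.Helper9

/-- L-balance: for a finite group X and a 2-subgroup T ≤ X, L_{2'}(C_X(T)) ≤ L_{2'}(X). -/
theorem result {X : Type*} [Group X] [Finite X] (T : Subgroup X) (hT : IsPGroup 2 ↥T) : (Cfsg.pLayer 2 ↥(Subgroup.centralizer (T : Set X))).map (Subgroup.centralizer (T : Set X)).subtype ≤ Cfsg.pLayer 2 X := by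
  have : Fact (Nat.Prime 2) := ⟨Nat.prime_two⟩
  rw [Subgroup.map_le_iff_le_comap]
  apply sSup_le
  intro K hK
  rw [← Subgroup.map_le_iff_le_comap]
  obtain ⟨h1, h2, h3, h4⟩ := isPComponent_map_subtype_data 2 _ K hK
  apply Cfsg.Agent.S1878.le_pLayer_of_le_sup _ K hK
  have hNc : (Nat.card (pPrimeCore 2 X)).Coprime 2 :=
    Cfsg.Agent.Lib.Helper1.pPrimeCore_card_coprime 2
  have hmapN := map_normalizer_eq_of_coprime 2 (pPrimeCore 2 X) hNc T hT
  -- K is subnormal in the normalizer of T
  have hCN : Subgroup.centralizer (T : Set X) ≤ Subgroup.normalizer (T : Set X) :=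
    Subgroup.centralizer_le_normalizer _
  have h1' : K.map (Subgroup.centralizer (T : Set X)).subtype ≤ Subgroup.normalizer (T : Set X) :=
    h1.trans hCN
  have h2' : ((K.map (Subgroup.centralizer (T : Set X)).subtype).subgroupOf
      (Subgroup.normalizer (T : Set X))).IsSubnormal :=
    relSN_trans h1 hCN h2 (relSN_of_normal hCN (Cfsg.Agent.Lib.Helper10.PushUp.normalizer_le_normalizer_centralizer T))
  have hKN : (K.map (Subgroup.centralizer (T : Set X)).subtype).map
      (QuotientGroup.mk' (pPrimeCore 2 X)) ≤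
      Subgroup.normalizer ((T.map (QuotientGroup.mk' (pPrimeCore 2 X)) : Subgroup _) : Set _) := by
    rw [← hmapN]; exact Subgroup.map_mono h1'
  have hsn : (((K.map (Subgroup.centralizer (T : Set X)).subtype).map
      (QuotientGroup.mk' (pPrimeCore 2 X))).subgroupOf
      (Subgroup.normalizer ((T.map (QuotientGroup.mk' (pPrimeCore 2 X)) : Subgroup _) :
        Set _))).IsSubnormal := by
    rw [← hmapN]; exact relSN_map _ h1' h2'
  have hperf : ⁅(K.map (Subgroup.centralizer (T : Set X)).subtype).map
      (QuotientGroup.mk' (pPrimeCore 2 X)),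
      (K.map (Subgroup.centralizer (T : Set X)).subtype).map
      (QuotientGroup.mk' (pPrimeCore 2 X))⁆ =
      (K.map (Subgroup.centralizer (T : Set X)).subtype).map
      (QuotientGroup.mk' (pPrimeCore 2 X)) := by
    rw [← Subgroup.map_commutator, h3]
  have hker : (Nat.card ((QuotientGroup.mk' (pPrimeCore 2 X)).subgroupMap
      (K.map (Subgroup.centralizer (T : Set X)).subtype)).ker).Coprime 2 := by
    rw [ker_subgroupMap_mk']
    have hd : Nat.card ((pPrimeCore 2 X).subgroupOf
        (K.map (Subgroup.centralizer (T : Set X)).subtype)) ∣ Nat.card (pPrimeCore 2 X) := by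
      rw [← Subgroup.card_map_of_injective
        (K.map (Subgroup.centralizer (T : Set X)).subtype).subtype_injective,
        Subgroup.subgroupOf_map_subtype]
      exact Subgroup.card_dvd_of_le inf_le_left
    exact Nat.Coprime.coprime_dvd_left hd hNc
  have hqs := isQuasisimple_coreQuot_of_surjective 2 _
    ((QuotientGroup.mk' (pPrimeCore 2 X)).subgroupMap_surjective
      (K.map (Subgroup.centralizer (T : Set X)).subtype)) hker h4
  -- generation by 2-elements
  have hE0 := isPComponent_two_le_closure hK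
  have hE1 := map_le_closure_two_elements (Subgroup.centralizer (T : Set X)).subtype hE0
  have hE := map_le_closure_two_elements (QuotientGroup.mk' (pPrimeCore 2 X)) hE1
  have h5 := two_pqs_le_layer (pPrimeCore_quotient_eq_bot 2) _ (hT.map _) _ hKN hsn hperf hqs hE
  rw [← map_pLayer 2] at h5
  have h6 := Subgroup.comap_mono (f := QuotientGroup.mk' (pPrimeCore 2 X)) h5
  rw [Subgroup.comap_map_eq, Subgroup.comap_map_eq, QuotientGroup.ker_mk'] at h6
  exact le_sup_left.trans h6

end Cfsg.Agent.S1301
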