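import Cfsg.Statements.S0910
import Mathlib
import Cfsg.Agent.Lib.helper7.BlockCover
import Cfsg.Agent.Lib.helper2.Burnside2

set_option autoImplicit false
open Cfsg

namespace Cfsg.Agent.S0910

open Cfsg.Agent.Lib.helper7 Cfsg.Agent.Lib.Helper25 Cfsg.Agent.Lib.helper2
open scoped commutatorElement

theorem commutator_top_of_simple {G : Type*} [Group G] [IsSimpleGroup G]
    (hna : ∃ a b : G, a * b ≠ b * a) : commutator G = ⊤ := by
  have hN : (commutator G).Normal := inferInstance
  rcases hN.eq_bot_or_eq_top with h | h
  · exfalso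
    obtain ⟨a, b, hab⟩ := hna
    apply hab
    have h1 : ⁅a, b⁆ ∈ commutator G :=
      Subgroup.commutator_mem_commutator (Subgroup.mem_top _) (Subgroup.mem_top _)
    rw [h, Subgroup.mem_bot] at h1
    exact commutatorElement_eq_one_iff_mul_comm.mp h1
  · exact h


/-- Let G be a non-abelian finite simple group and p a prime. If an irreducible character χ lies in the principal block (relative to a maximal ideal of the algebraic integers containing p) and χ 1 is a power of p, then χ is the principal character. -/
theorem result {G : Type*} [Group G] [Finite G] (p : ℕ) [Fact p.Prime] (M : Ideal Cfsg.AlgInt) (hM : Cfsg.IsPModular p M) [IsSimpleGroup G] (hna : ∃ a b : G, a * b ≠ b * a) (χ : Cfsg.IrrCharacter G) (hχ : χ ∈ Cfsg.principalBlock M G) (k : ℕ) (hdeg : (χ : G → ℂ) 1 = (p : ℂ) ^ k) : (χ : G → ℂ) = fun _ => 1 := by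
  classical
  have hP := hM.2.1.isPrime
  have hp := (Fact.out : p.Prime)
  by_contra hne
  obtain ⟨n, ρ, hρ, hχρ⟩ := χ.2
  haveI := hρ
  have h1 : (χ : G → ℂ) 1 = (Module.finrank ℂ (Fin n → ℂ) : ℂ) := by
    rw [← hχρ, Representation.char_one]
  have hfin : Module.finrank ℂ (Fin n → ℂ) = p ^ k := by
    have : ((Module.finrank ℂ (Fin n → ℂ) : ℕ) : ℂ) = ((p ^ k : ℕ) : ℂ) := by
      rw [← h1, hdeg]
      push_cast
      rfl
    exact_mod_cast this
  rcases Nat.eq_zero_or_pos k with hk | hk
  · apply hne
    have hlin : (χ : G → ℂ) 1 = 1 := by rw [hdeg, hk, pow_zero]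
    funext g
    have hg : g ∈ commutator G := by
      rw [commutator_top_of_simple hna]
      exact Subgroup.mem_top g
    exact irr_linear_commutator χ hlin hg
  · have hdvd : Module.finrank ℂ (Fin n → ℂ) ∣ Nat.card G := degree_dvd_card ρ
    have hpG : p ∣ Nat.card G := by
      rw [hfin] at hdvd
      exact (dvd_pow_self p hk.ne').trans hdvd
    obtain ⟨P⟩ := (inferInstance : Nonempty (Sylow p G))
    have hPcard := P.card_eq_multiplicity
    have hPnt : Nontrivial (P : Subgroup G) := by
      apply (Subgroup.nontrivial_iff_ne_bot _).mpr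
      intro hbot
      have h2 : Nat.card (P : Subgroup G) = 1 := by
        rw [hbot]
        exact Subgroup.card_bot
      rw [h2] at hPcard
      have h3 : (Nat.card G).factorization p = 0 := by
        by_contra h0
        have : 1 < p ^ (Nat.card G).factorization p := Nat.one_lt_pow h0 hp.one_lt
        omega
      have h4 := (hp.dvd_iff_one_le_factorization Nat.card_pos.ne').mp hpG
      omega
    haveI := hPnt
    have hZ := P.isPGroup'.center_nontrivial
    obtain ⟨z, hz⟩ := exists_ne (1 : Subgroup.center (P : Subgroup G))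
    set g : G := ((z : (P : Subgroup G)) : G) with hg
    have hg1 : g ≠ 1 := by
      intro h0
      apply hz
      apply Subtype.ext
      apply Subtype.ext
      exact h0
    have hPle : (P : Subgroup G) ≤ Subgroup.centralizer ({g} : Set G) := by
      intro u hu
      rw [Subgroup.mem_centralizer_iff]
      intro y hy
      rw [Set.mem_singleton_iff] at hy
      rw [hy]
      have := z.2
      rw [Subgroup.mem_center_iff] at this
      have h5 : (⟨u, hu⟩ : (P : Subgroup G)) * (z : (P : Subgroup G)) =
          (z : (P : Subgroup G)) * ⟨u, hu⟩ := this ⟨u, hu⟩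
      have h6 := congrArg (fun w : (P : Subgroup G) => (w : G)) h5
      simp only [Subgroup.coe_mul] at h6
      exact h6.symm
    have hidx : ¬ p ∣ (Subgroup.centralizer ({g} : Set G)).index := by
      intro h0
      have h7 := Subgroup.index_dvd_of_le hPle
      exact P.not_dvd_index (h0.trans h7)
    have hcop : Nat.Coprime (Module.finrank ℂ (Fin n → ℂ))
        (Subgroup.centralizer ({g} : Set G)).index := by
      rw [hfin]
      exact ((Nat.Prime.coprime_iff_not_dvd hp).mpr hidx).pow_left k
    have hsame := hχ g
    unfold Cfsg.centralChar at hsame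
    rcases burnside_coprime ρ g hcop with h | h
    · rw [← hχρ, h] at hsame
      simp only [mul_one, div_one, mul_zero, zero_div, sub_zero] at hsame
      have h8 : Cfsg.MemLocalIdeal M
          (((Subgroup.centralizer ({g} : Set G)).index : Cfsg.AlgInt) : ℂ) := by
        simpa using hsame
      have h9 := (h7_memLocalIdeal_algInt_iff hP _).mp h8
      exact h7_natCast_not_mem hM _
        (Nat.Coprime.symm ((Nat.Prime.coprime_iff_not_dvd hp).mpr hidx)) h9
    · have h2 := (Cfsg.Agent.S0138.result ρ g).mp h
      have hnc : ¬ ∀ a b : G, a * b = b * a := by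
        obtain ⟨a, b, hab⟩ := hna
        exact fun h => hab (h a b)
      refine simple_noncomm_not_scalar hnc ρ ?_ g hg1 h2
      rw [hχρ]
      exact hne

end Cfsg.Agent.S0910
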