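import Cfsg.Statements.S0904
import Mathlib
import Cfsg.Agent.S0910
import Cfsg.Agent.S0907
import Cfsg.Agent.Lib.helper7.BlockInd2
import Cfsg.Agent.Lib.helper2.PModular2

set_option autoImplicit false
open Cfsg
open scoped ComplexConjugate

namespace Cfsg.Agent.S0904

open Cfsg.Agent.Lib.helper7 Cfsg.Agent.Lib.Helper25 Cfsg.Agent.Lib.helper2

/-- In a nonabelian simple group of order `s ^ a * t ^ b * r` no element has order divisible by
both `s` and `r`: weak block orthogonality in the principal `s`-block between `1` and `g`. -/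
theorem h23_no_mixed {G : Type*} [Group G] [Finite G] [IsSimpleGroup G]
    (hna : ∃ a b : G, a * b ≠ b * a)
    (s t r a b : ℕ) [hs : Fact s.Prime] [ht : Fact t.Prime] [hr : Fact r.Prime]
    (hst : s ≠ t) (hsr : s ≠ r) (htr : t ≠ r)
    (hcard : Nat.card G = s ^ a * t ^ b * r)
    (g : G) (hgs : s ∣ orderOf g) (hgr : r ∣ orderOf g) : False := by
  classical
  haveI : Fintype G := Fintype.ofFinite G
  haveI : Fintype (Cfsg.IrrCharacter G) := Fintype.ofFinite _
  obtain ⟨M, hM⟩ := exists_isPModular s hs.out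
  obtain ⟨M', hM'⟩ := exists_isPModular r hr.out
  have hP := hM.2.1.isPrime
  set B : Set (Cfsg.IrrCharacter G) := Cfsg.principalBlock M G with hBdef
  have hB : Cfsg.IsPBlock M B := ⟨trivIrr G, rfl⟩
  have h1reg : ¬ s ∣ orderOf (1 : G) := by
    rw [orderOf_one]
    exact hs.out.one_lt.ne' ∘ Nat.dvd_one.mp
  have hsum := Cfsg.Agent.S0907.result s M hM B hB 1 g h1reg hgs
  rw [finsum_mem_eq_finite_toFinset_sum _ (Set.toFinite B)] at hsum
  have htriv : trivIrr G ∈ (Set.toFinite B).toFinset := by
    rw [Set.Finite.mem_toFinset]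
    intro x
    show Cfsg.MemLocalIdeal M (Cfsg.centralChar (fun _ : G => (1 : ℂ)) x -
      Cfsg.centralChar (fun _ : G => (1 : ℂ)) x)
    rw [sub_self]
    exact h7_memLocalIdeal_zero hP
  rw [← Finset.add_sum_erase _ _ htriv] at hsum
  -- each remaining term is `t` times an algebraic integer
  have hterm : ∀ χ ∈ ((Set.toFinite B).toFinset.erase (trivIrr G)),
      ∃ z : ℂ, IsIntegral ℤ z ∧ (χ : G → ℂ) 1 * conj ((χ : G → ℂ) g) = (t : ℂ) * z := by
    intro χ hχ
    rw [Finset.mem_erase, Set.Finite.mem_toFinset] at hχ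
    obtain ⟨hne, hχB⟩ := hχ
    obtain ⟨hd1, hd2, hd3⟩ := h7_charDegree_props χ
    set d := Cfsg.charDegree (χ : G → ℂ) with hd
    by_cases hrd : r ∣ d
    · -- `r`-defect zero: vanishes at `g`
      refine ⟨0, isIntegral_zero, ?_⟩
      have hnd : ¬ r ∣ Nat.card G / d := by
        obtain ⟨d', hd'⟩ := hrd
        rw [hcard] at hd1 ⊢
        rw [hd'] at hd1 ⊢
        have hr0 : 0 < r := hr.out.pos
        have h2 : d' ∣ s ^ a * t ^ b := by
          have : r * d' ∣ r * (s ^ a * t ^ b) := by
            rwa [mul_comm r (s ^ a * t ^ b)]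
          exact (Nat.mul_dvd_mul_iff_left hr0).mp this
        have h3 : s ^ a * t ^ b * r / (r * d') = s ^ a * t ^ b / d' := by
          rw [mul_comm (s ^ a * t ^ b) r]
          exact Nat.mul_div_mul_left _ _ hr0
        rw [h3]
        intro h4
        have h5 : r ∣ s ^ a * t ^ b := h4.trans (Nat.div_dvd_of_dvd h2)
        rcases (Nat.Prime.dvd_mul hr.out).mp h5 with h6 | h6
        · exact hsr ((Nat.prime_dvd_prime_iff_eq hr.out hs.out).mp
            (hr.out.dvd_of_dvd_pow h6)).symm
        · exact htr ((Nat.prime_dvd_prime_iff_eq hr.out ht.out).mp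
            (hr.out.dvd_of_dvd_pow h6)).symm
      have h0 := h7_defect_zero_vanish hM' χ hnd g hgr
      rw [h0, map_zero, mul_zero, mul_zero]
    · by_cases htd : t ∣ d
      · obtain ⟨d', hd'⟩ := htd
        refine ⟨(d' : ℂ) * conj ((χ : G → ℂ) g), ?_, ?_⟩
        · have hint : IsIntegral ℤ ((d' : ℕ) : ℂ) := by
            have := isIntegral_algebraMap (R := ℤ) (A := ℂ) (x := (d' : ℤ))
            simpa using this
          exact IsIntegral.mul hint (map_isIntegral_int (starRingEnd ℂ) (irr_integral χ g))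
        · rw [← hd3, hd']
          push_cast
          ring
      · exfalso
        -- the degree is a power of `s`
        have h1 : d ∣ s ^ a * t ^ b := by
          rw [hcard] at hd1
          exact (Nat.Coprime.dvd_of_dvd_mul_right
            ((Nat.Prime.coprime_iff_not_dvd hr.out).mpr hrd).symm hd1)
        have h2 : d ∣ s ^ a := by
          refine Nat.Coprime.dvd_of_dvd_mul_right ?_ h1
          exact (((Nat.Prime.coprime_iff_not_dvd ht.out).mpr htd).symm).pow_right b
        obtain ⟨k, -, hk⟩ := (Nat.dvd_prime_pow hs.out).mp h2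
        have hdeg : (χ : G → ℂ) 1 = (s : ℂ) ^ k := by
          rw [← hd3, hk]
          push_cast
          rfl
        have h3 := Cfsg.Agent.S0910.result s M hM hna χ hχB k hdeg
        apply hne
        apply Subtype.ext
        rw [h3]
        rfl
  choose! z hz1 hz2 using hterm
  rw [Finset.sum_congr rfl hz2, ← Finset.mul_sum] at hsum
  have hZ : IsIntegral ℤ (∑ χ ∈ ((Set.toFinite B).toFinset.erase (trivIrr G)), z χ) :=
    IsIntegral.sum _ hz1
  set Z := ∑ χ ∈ ((Set.toFinite B).toFinset.erase (trivIrr G)), z χ with hZdef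
  have h11 : (trivIrr G : G → ℂ) 1 * conj ((trivIrr G : G → ℂ) g) = 1 := by
    simp
  rw [h11] at hsum
  have ht0 : (t : ℂ) ≠ 0 := by exact_mod_cast ht.out.pos.ne'
  have h5 : ((1 : ℕ) : ℂ) / (t : ℂ) = -Z := by
    rw [div_eq_iff ht0]
    push_cast
    linear_combination hsum
  have h6 : IsIntegral ℤ (((1 : ℕ) : ℂ) / (t : ℂ)) := by
    rw [h5]
    exact hZ.neg
  have h7 := nat_dvd_of_isIntegral_div 1 t ht.out.pos.ne' h6
  exact ht.out.one_lt.ne' (Nat.dvd_one.mp h7)

/-- Let G be a finite simple group of order p ^ a * q ^ b * r with p, q, r distinct primes. Then every Sylow r-subgroup S of G satisfies C_G(S) = S. -/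
theorem result {G : Type*} [Group G] [Finite G] [IsSimpleGroup G] (p q r a b : ℕ) (hp : p.Prime) (hq : q.Prime) [Fact r.Prime] (hpq : p ≠ q) (hpr : p ≠ r) (hqr : q ≠ r) (hcard : Nat.card G = p ^ a * q ^ b * r) (S : Sylow r G) : Subgroup.centralizer (S : Set G) = (S : Subgroup G) := by
  classical
  haveI hpF : Fact p.Prime := ⟨hp⟩
  haveI hqF : Fact q.Prime := ⟨hq⟩
  have hr := (Fact.out : r.Prime)
  have hrp : ¬ r ∣ p ^ a := fun h =>
    hpr ((Nat.prime_dvd_prime_iff_eq hr hp).mp (hr.dvd_of_dvd_pow h)).symm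
  have hrq : ¬ r ∣ q ^ b := fun h =>
    hqr ((Nat.prime_dvd_prime_iff_eq hr hq).mp (hr.dvd_of_dvd_pow h)).symm
  have hfr : (Nat.card G).factorization r = 1 := by
    rw [hcard, Nat.factorization_mul (mul_ne_zero (pow_ne_zero a hp.ne_zero)
      (pow_ne_zero b hq.ne_zero)) hr.ne_zero,
      Nat.factorization_mul (pow_ne_zero a hp.ne_zero) (pow_ne_zero b hq.ne_zero)]
    simp only [Finsupp.coe_add, Pi.add_apply]
    rw [Nat.factorization_eq_zero_of_not_dvd hrp, Nat.factorization_eq_zero_of_not_dvd hrq,
      hr.factorization_self]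
  have hSc : Nat.card (S : Subgroup G) = r := by
    rw [S.card_eq_multiplicity, hfr, pow_one]
  by_cases hna : ∃ x y : G, x * y ≠ y * x
  · -- nonabelian case
    haveI : Fact (Nat.card (S : Subgroup G)).Prime := ⟨by rw [hSc]; exact hr⟩
    haveI hcyc : IsCyclic (S : Subgroup G) := isCyclic_of_prime_card rfl
    have hScomm : ∀ x ∈ (S : Subgroup G), ∀ y ∈ (S : Subgroup G), x * y = y * x := by
      intro x hx y hy
      letI := IsCyclic.commGroup (α := (S : Subgroup G))
      have := mul_comm (⟨x, hx⟩ : (S : Subgroup G)) ⟨y, hy⟩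
      exact congrArg Subtype.val this
    have hle : (S : Subgroup G) ≤ Subgroup.centralizer (S : Set G) := by
      intro x hx
      rw [Subgroup.mem_centralizer_iff]
      intro h hh
      exact hScomm h hh x hx
    by_contra hne
    have hdvd1 : Nat.card (S : Subgroup G) ∣ Nat.card (Subgroup.centralizer (S : Set G)) :=
      Subgroup.card_dvd_of_le hle
    rw [hSc] at hdvd1
    obtain ⟨m, hm⟩ := hdvd1
    have hdvd2 : Nat.card (Subgroup.centralizer (S : Set G)) ∣ Nat.card G :=
      Subgroup.card_subgroup_dvd_card _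
    have hm1 : m ≠ 1 := by
      intro h1
      apply hne
      symm
      apply Subgroup.eq_of_le_of_card_ge hle
      rw [hm, h1, mul_one, hSc]
    have hmd : m ∣ p ^ a * q ^ b := by
      rw [hm, hcard, mul_comm r m] at hdvd2
      exact (Nat.mul_dvd_mul_iff_right hr.pos).mp hdvd2
    obtain ⟨u, hu, hum⟩ := Nat.exists_prime_and_dvd hm1
    haveI huF : Fact u.Prime := ⟨hu⟩
    have huC : u ∣ Nat.card (Subgroup.centralizer (S : Set G)) := by
      rw [hm]
      exact hum.trans (Dvd.intro_left r rfl)
    obtain ⟨y, hy⟩ := exists_prime_orderOf_dvd_card' (G := Subgroup.centralizer (S : Set G)) u huC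
    have hrS : r ∣ Nat.card (S : Subgroup G) := by rw [hSc]
    obtain ⟨π, hπ⟩ := exists_prime_orderOf_dvd_card' (G := (S : Subgroup G)) r hrS
    have hyG : orderOf (y : G) = u := by rw [Subgroup.orderOf_coe, hy]
    have hπG : orderOf (π : G) = r := by rw [Subgroup.orderOf_coe, hπ]
    have hcomm : Commute (π : G) (y : G) := by
      have := y.2
      rw [Subgroup.mem_centralizer_iff] at this
      exact this π π.2
    have hupq : u = p ∨ u = q := by
      rcases (Nat.Prime.dvd_mul hu).mp (hum.trans hmd) with h | h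
      · exact Or.inl ((Nat.prime_dvd_prime_iff_eq hu hp).mp (hu.dvd_of_dvd_pow h))
      · exact Or.inr ((Nat.prime_dvd_prime_iff_eq hu hq).mp (hu.dvd_of_dvd_pow h))
    have hur : u ≠ r := by
      rcases hupq with h | h
      · rw [h]; exact hpr
      · rw [h]; exact hqr
    have hco : (orderOf (π : G)).Coprime (orderOf (y : G)) := by
      rw [hyG, hπG]
      exact (Nat.coprime_primes hr hu).mpr (Ne.symm hur)
    have hord := hcomm.orderOf_mul_eq_mul_orderOf_of_coprime hco
    rw [hyG, hπG] at hord
    have hgu : u ∣ orderOf ((π : G) * (y : G)) := by rw [hord]; exact Dvd.intro_left r rfl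
    have hgr : r ∣ orderOf ((π : G) * (y : G)) := by rw [hord]; exact Dvd.intro u rfl
    rcases hupq with h | h
    · subst h
      exact h23_no_mixed hna u q r a b hpq hpr hqr hcard _ hgu hgr
    · subst h
      have hcard' : Nat.card G = u ^ b * p ^ a * r := by rw [hcard, mul_comm (p ^ a)]
      exact h23_no_mixed hna u p r b a (Ne.symm hpq) hqr hpr hcard' _ hgu hgr
  · -- abelian case: `S = ⊤`
    push_neg at hna
    have hSn : (S : Subgroup G).Normal := by
      refine ⟨fun n hn g => ?_⟩
      rw [hna g n, mul_inv_cancel_right]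
      exact hn
    have htop : (S : Subgroup G) = ⊤ := by
      rcases hSn.eq_bot_or_eq_top with h | h
      · exfalso
        rw [h, Subgroup.card_bot] at hSc
        exact hr.one_lt.ne hSc
      · exact h
    rw [htop]
    ext x
    simp only [Subgroup.mem_top, iff_true]
    rw [Subgroup.mem_centralizer_iff]
    intro h _
    exact hna h x

end Cfsg.Agent.S0904
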