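import Cfsg.Statements.S1001
-- import your own Cfsg.Agent.* helpers here
import Cfsg.Agent.S0904
import Cfsg.Agent.Lib.helper2.Burnside2

set_option autoImplicit false
open Cfsg

namespace Cfsg.Agent.S1001

open Cfsg.Agent.Lib.helper2

/-- In a finite simple group whose order has the form p * 3^a * 2^b with p prime, the centralizer of any element of order p is the cyclic group it generates. -/
theorem result {G : Type*} [Group G] [Finite G] [IsSimpleGroup G] (p a b : ℕ) (hp : p.Prime) (hG : Nat.card G = p * 3 ^ a * 2 ^ b) (x : G) (hx : orderOf x = p) : Subgroup.centralizer ({x} : Set G) = Subgroup.zpowers x := by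
  classical
  have hx1 : x ≠ 1 := by
    rintro rfl
    rw [orderOf_one] at hx
    exact hp.one_lt.ne hx
  have habel : (∀ u v : G, u * v = v * u) →
      Subgroup.centralizer ({x} : Set G) = Subgroup.zpowers x := by
    intro hc
    have hn : (Subgroup.zpowers x).Normal := by
      refine ⟨fun n hn g => ?_⟩
      rw [hc g n, mul_inv_cancel_right]
      exact hn
    have htop : Subgroup.zpowers x = ⊤ := by
      rcases hn.eq_bot_or_eq_top with h | h
      · exfalso
        exact hx1 (Subgroup.zpowers_eq_bot.mp h)
      · exact h
    rw [htop]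
    ext y
    simp only [Subgroup.mem_top, iff_true]
    rw [Subgroup.mem_centralizer_iff]
    intro h _
    exact hc h y
  by_cases h23 : p = 2 ∨ p = 3
  · have hsol : IsSolvable G := by
      rcases h23 with h | h
      · subst h
        exact burnside_pq 2 3 (b + 1) a Nat.prime_two Nat.prime_three (by rw [hG]; ring)
      · subst h
        exact burnside_pq 3 2 (a + 1) b Nat.prime_three Nat.prime_two (by rw [hG]; ring)
    exact habel (IsSimpleGroup.comm_iff_isSolvable.mpr hsol)
  · push_neg at h23
    haveI : Fact p.Prime := ⟨hp⟩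
    have hcard : Nat.card G = 3 ^ a * 2 ^ b * p := by rw [hG]; ring
    have hpg : IsPGroup p (Subgroup.zpowers x) :=
      IsPGroup.of_card (n := 1) (by rw [Nat.card_zpowers, hx, pow_one])
    obtain ⟨S, hS⟩ := hpg.exists_le_sylow
    have key := Cfsg.Agent.S0904.result 3 2 p a b Nat.prime_three Nat.prime_two (by norm_num)
      (Ne.symm h23.2) (Ne.symm h23.1) hcard S
    have hp3 : ¬ p ∣ 3 ^ a := fun h =>
      h23.2 ((Nat.prime_dvd_prime_iff_eq hp Nat.prime_three).mp (hp.dvd_of_dvd_pow h))
    have hp2 : ¬ p ∣ 2 ^ b := fun h =>
      h23.1 ((Nat.prime_dvd_prime_iff_eq hp Nat.prime_two).mp (hp.dvd_of_dvd_pow h))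
    have hfr : (Nat.card G).factorization p = 1 := by
      rw [hcard, Nat.factorization_mul (mul_ne_zero (pow_ne_zero a (by norm_num))
        (pow_ne_zero b (by norm_num))) hp.ne_zero,
        Nat.factorization_mul (pow_ne_zero a (by norm_num)) (pow_ne_zero b (by norm_num))]
      simp only [Finsupp.coe_add, Pi.add_apply]
      rw [Nat.factorization_eq_zero_of_not_dvd hp3, Nat.factorization_eq_zero_of_not_dvd hp2,
        hp.factorization_self]
    have hSc : Nat.card (S : Subgroup G) = p := by
      rw [S.card_eq_multiplicity, hfr, pow_one]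
    have hSeq : Subgroup.zpowers x = (S : Subgroup G) :=
      Subgroup.eq_of_le_of_card_ge hS (by rw [hSc, Nat.card_zpowers, hx])
    rw [hSeq]
    refine Eq.trans ?_ key
    ext y
    rw [Subgroup.mem_centralizer_iff, Subgroup.mem_centralizer_iff]
    constructor
    · intro h s hs
      have hs' : s ∈ Subgroup.zpowers x := by
        rw [hSeq]
        exact hs
      obtain ⟨k, rfl⟩ := Subgroup.mem_zpowers_iff.mp hs'
      have hc : Commute x y := h x (Set.mem_singleton x)
      exact (hc.zpow_left k).eq
    · intro h z hz
      rw [Set.mem_singleton_iff] at hz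
      subst hz
      exact h z (hS (Subgroup.mem_zpowers z))

end Cfsg.Agent.S1001
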