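import Cfsg.Statements.S5013

set_option autoImplicit false
open Cfsg

namespace Cfsg.Agent.S5013

theorem mem_conjBy_iff {G : Type*} [Group G] {A : Subgroup G} {g z : G} :
    z ∈ Cfsg.conjBy A g ↔ g⁻¹ * z * g ∈ A := by
  constructor
  · rintro ⟨x, hx, rfl⟩
    have : g⁻¹ * ((MulAut.conj g).toMonoidHom x) * g = x := by
      show g⁻¹ * (g * x * g⁻¹) * g = x
      group
    rw [this]
    exact hx
  · intro h
    refine ⟨g⁻¹ * z * g, h, ?_⟩
    show g * (g⁻¹ * z * g) * g⁻¹ = z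
    group

theorem conjBy_conjBy {G : Type*} [Group G] (A : Subgroup G) (g h : G) :
    Cfsg.conjBy (Cfsg.conjBy A g) h = Cfsg.conjBy A (h * g) := by
  ext z
  rw [mem_conjBy_iff, mem_conjBy_iff, mem_conjBy_iff]
  have : g⁻¹ * (h⁻¹ * z * h) * g = (h * g)⁻¹ * z * (h * g) := by group
  rw [this]

theorem conjBy_one {G : Type*} [Group G] (A : Subgroup G) : Cfsg.conjBy A 1 = A := by
  ext z
  rw [mem_conjBy_iff]
  simp

theorem conjBy_eq_of_mem_normalizer {G : Type*} [Group G] {A : Subgroup G} {g : G}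
    (hg : g ∈ Subgroup.normalizer (A : Set G)) : Cfsg.conjBy A g = A := by
  ext z
  rw [mem_conjBy_iff]
  exact (Subgroup.mem_normalizer_iff''.mp hg z).symm

theorem mem_normalizer_of_conjBy_eq {G : Type*} [Group G] {A : Subgroup G} {g : G}
    (h : Cfsg.conjBy A g = A) : g ∈ Subgroup.normalizer (A : Set G) := by
  rw [Subgroup.mem_normalizer_iff'']
  intro z
  rw [← mem_conjBy_iff, h]

theorem inf_normalizer_eq_bot {G : Type*} [Group G] {A B : Subgroup G} (hne : A ≠ B)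
    (h : Cfsg.RankOneCondition A B) : A ⊓ Subgroup.normalizer (B : Set G) = ⊥ := by
  rw [eq_bot_iff]
  rintro a ⟨haA, haN⟩
  rw [Subgroup.mem_bot]
  by_contra ha1
  obtain ⟨b, hbB, -, hb⟩ := h a haA ha1
  rw [conjBy_eq_of_mem_normalizer (Subgroup.inv_mem _ haN)] at hb
  apply hne
  have h2 := congrArg (fun K => Cfsg.conjBy K b) hb
  simp only [conjBy_conjBy, mul_inv_cancel, conjBy_one] at h2
  rw [h2]
  exact conjBy_eq_of_mem_normalizer (Subgroup.le_normalizer hbB)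

theorem unique_partner {G : Type*} [Group G] {A B : Subgroup G} (hne : A ≠ B)
    (hBA : Cfsg.RankOneCondition B A) {C : Subgroup G} {b b' : G} (hb : b ∈ B) (hb' : b' ∈ B)
    (h : Cfsg.conjBy A b⁻¹ = C) (h' : Cfsg.conjBy A b'⁻¹ = C) : b' = b := by
  have h1 : Cfsg.conjBy A (b' * b⁻¹) = A := by
    have := congrArg (fun K => Cfsg.conjBy K b') (h.trans h'.symm)
    simp only [conjBy_conjBy, mul_inv_cancel, conjBy_one] at this
    exact this
  have h2 : b' * b⁻¹ ∈ B ⊓ Subgroup.normalizer (A : Set G) :=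
    ⟨B.mul_mem hb' (B.inv_mem hb), mem_normalizer_of_conjBy_eq h1⟩
  rw [inf_normalizer_eq_bot hne.symm hBA, Subgroup.mem_bot] at h2
  exact mul_inv_eq_one.mp h2

theorem result {G : Type*} [Group G] {A B : Subgroup G} (h : Cfsg.IsRankOnePair A B) :
    (∀ a ∈ A, a ≠ 1 → ∃! b : G, b ∈ B ∧ b ≠ 1 ∧ Cfsg.conjBy A b⁻¹ = Cfsg.conjBy B a⁻¹) ∧
    (∀ b ∈ B, b ≠ 1 → ∃! a : G, a ∈ A ∧ a ≠ 1 ∧ Cfsg.conjBy A b⁻¹ = Cfsg.conjBy B a⁻¹) ∧
    A ⊓ Subgroup.normalizer (B : Set G) = ⊥ ∧ B ⊓ Subgroup.normalizer (A : Set G) = ⊥ := by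
  refine ⟨?_, ?_, inf_normalizer_eq_bot h.ne h.cond_left, inf_normalizer_eq_bot h.ne.symm h.cond_right⟩
  · intro a ha ha1
    obtain ⟨b, hb, hb1, hbe⟩ := h.cond_left a ha ha1
    refine ⟨b, ⟨hb, hb1, hbe⟩, ?_⟩
    rintro b' ⟨hb', -, hb'e⟩
    exact unique_partner h.ne h.cond_right hb hb' hbe hb'e
  · intro b hb hb1
    obtain ⟨a, ha, ha1, hae⟩ := h.cond_right b hb hb1
    refine ⟨a, ⟨ha, ha1, hae.symm⟩, ?_⟩
    rintro a' ⟨ha', -, ha'e⟩
    exact unique_partner h.ne.symm h.cond_left ha ha' hae ha'e.symm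

end Cfsg.Agent.S5013
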