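import Cfsg.Statements.S5014
import Cfsg.Agent.S5013

set_option autoImplicit false
open Cfsg

namespace Cfsg.Agent.S5014

open Cfsg.Agent.S5013

variable {G : Type*} [Group G]

theorem conjBy_injective (g : G) {C D : Subgroup G} (h : Cfsg.conjBy C g = Cfsg.conjBy D g) : C = D := by
  have := congrArg (fun K => Cfsg.conjBy K g⁻¹) h
  simpa only [conjBy_conjBy, inv_mul_cancel, conjBy_one] using this

theorem ne_bot_left {A B : Subgroup G} (h : Cfsg.IsRankOnePair A B) : ∃ a ∈ A, a ≠ 1 := by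
  by_contra hcon
  have hcon' : ∀ a ∈ A, a = 1 := by
    intro a ha
    by_contra ha1
    exact hcon ⟨a, ha, ha1⟩
  have hA : A = ⊥ := (Subgroup.eq_bot_iff_forall A).mpr hcon'
  have hB : B ≠ ⊥ := fun hB => h.ne (hA.trans hB.symm)
  obtain ⟨b, hb⟩ := (Subgroup.ne_bot_iff_exists_ne_one.mp hB)
  obtain ⟨a, ha, ha1, -⟩ := h.cond_right b.1 b.2 (fun h1 => hb (Subtype.ext h1))
  exact ha1 (hcon' a ha)

/-- the set `{A} ∪ {B^a}` -/
def delta (A B : Subgroup G) : Set (Subgroup G) := {C | C = A ∨ ∃ a ∈ A, C = Cfsg.conjBy B a}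

theorem conjBy_A_mem_delta {A B : Subgroup G} (h : Cfsg.IsRankOnePair A B) {b : G} (hb : b ∈ B) :
    Cfsg.conjBy A b ∈ delta A B := by
  by_cases hb1 : b = 1
  · left
    rw [hb1, conjBy_one]
  · right
    have hb1' : b⁻¹ ≠ 1 := fun h1 => hb1 (inv_eq_one.mp h1)
    obtain ⟨a, ha, -, hae⟩ := h.cond_right b⁻¹ (B.inv_mem hb) hb1'
    rw [inv_inv] at hae
    exact ⟨a⁻¹, A.inv_mem ha, hae.symm⟩

theorem delta_invariant_gen {A B : Subgroup G} (h : Cfsg.IsRankOnePair A B) {g : G}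
    (hg : g ∈ (A : Set G) ∪ (B : Set G)) {C : Subgroup G} (hC : C ∈ delta A B) :
    Cfsg.conjBy C g ∈ delta A B := by
  rcases hg with hg | hg
  · rcases hC with hCA | ⟨a, ha, hCa⟩
    · left
      rw [hCA]
      exact conjBy_eq_of_mem_normalizer (Subgroup.le_normalizer hg)
    · right
      rw [hCa]
      exact ⟨g * a, A.mul_mem hg ha, conjBy_conjBy B a g⟩
  · rcases hC with hCA | ⟨a, ha, hCa⟩
    · rw [hCA]
      exact conjBy_A_mem_delta h hg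
    · rw [hCa]
      by_cases ha1 : a = 1
      · right
        refine ⟨1, A.one_mem, ?_⟩
        rw [ha1, conjBy_one]
        exact conjBy_eq_of_mem_normalizer (Subgroup.le_normalizer hg)
      · have ha1' : a⁻¹ ≠ 1 := fun h1 => ha1 (inv_eq_one.mp h1)
        obtain ⟨b, hb, -, hbe⟩ := h.cond_left a⁻¹ (A.inv_mem ha) ha1'
        rw [inv_inv] at hbe
        rw [← hbe, conjBy_conjBy]
        exact conjBy_A_mem_delta h (B.mul_mem hg (B.inv_mem hb))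

theorem delta_invariant {A B : Subgroup G} (h : Cfsg.IsRankOnePair A B) {x : G} (hx : x ∈ A ⊔ B) :
    ∀ C ∈ delta A B, Cfsg.conjBy C x ∈ delta A B := by
  rw [Subgroup.sup_eq_closure] at hx
  refine Subgroup.closure_induction'' (p := fun x _ => ∀ C ∈ delta A B, Cfsg.conjBy C x ∈ delta A B)
    ?_ ?_ ?_ ?_ hx
  · intro g hg C hC
    exact delta_invariant_gen h hg hC
  · intro g hg C hC
    refine delta_invariant_gen h ?_ hC
    rcases hg with hg | hg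
    · exact Or.inl (A.inv_mem hg)
    · exact Or.inr (B.inv_mem hg)
  · intro C hC
    rw [conjBy_one]
    exact hC
  · intro x y _ _ hx hy C hC
    rw [← conjBy_conjBy]
    exact hx _ (hy C hC)

theorem unipotent_subset_delta {A B : Subgroup G} (h : Cfsg.IsRankOnePair A B) :
    Cfsg.unipotentSubgroups A B ⊆ delta A B := by
  rintro C ⟨x, hx, rfl⟩
  exact delta_invariant h hx A (Or.inl rfl)

theorem B_mem_unipotent {A B : Subgroup G} (h : Cfsg.IsRankOnePair A B) :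
    B ∈ Cfsg.unipotentSubgroups A B := by
  obtain ⟨a, ha, ha1⟩ := ne_bot_left h
  obtain ⟨b, hb, -, hbe⟩ := h.cond_left a ha ha1
  refine ⟨a * b⁻¹, Subgroup.mul_mem _ (Subgroup.mem_sup_left ha)
    (Subgroup.inv_mem _ (Subgroup.mem_sup_right hb)), ?_⟩
  rw [← conjBy_conjBy, hbe, conjBy_conjBy, mul_inv_cancel, conjBy_one]

theorem A_mem_unipotent (A B : Subgroup G) : A ∈ Cfsg.unipotentSubgroups A B :=
  ⟨1, Subgroup.one_mem _, (conjBy_one A).symm⟩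

theorem conjBy_mem_unipotent {A B : Subgroup G} {C : Subgroup G}
    (hC : C ∈ Cfsg.unipotentSubgroups A B) {x : G} (hx : x ∈ A ⊔ B) :
    Cfsg.conjBy C x ∈ Cfsg.unipotentSubgroups A B := by
  obtain ⟨y, hy, rfl⟩ := hC
  exact ⟨x * y, Subgroup.mul_mem _ hx hy, conjBy_conjBy A y x⟩

theorem conjBy_B_ne_A {A B : Subgroup G} (h : Cfsg.IsRankOnePair A B) {a : G} (ha : a ∈ A) :
    Cfsg.conjBy B a ≠ A := by
  intro hcon
  apply h.ne
  have h1 : Cfsg.conjBy A a = A := conjBy_eq_of_mem_normalizer (Subgroup.le_normalizer ha)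
  exact (conjBy_injective a (hcon.trans h1.symm)).symm

theorem regular {A B : Subgroup G} (h : Cfsg.IsRankOnePair A B) {C D : Subgroup G}
    (hC : C ∈ Cfsg.unipotentSubgroups A B) (hD : D ∈ Cfsg.unipotentSubgroups A B)
    (hCA : C ≠ A) (hDA : D ≠ A) : ∃! a : G, a ∈ A ∧ Cfsg.conjBy C a = D := by
  rcases unipotent_subset_delta h hC with rfl | ⟨a₁, ha₁, rfl⟩
  · exact absurd rfl hCA
  rcases unipotent_subset_delta h hD with rfl | ⟨a₂, ha₂, rfl⟩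
  · exact absurd rfl hDA
  refine ⟨a₂ * a₁⁻¹, ⟨A.mul_mem ha₂ (A.inv_mem ha₁), ?_⟩, ?_⟩
  · rw [conjBy_conjBy, inv_mul_cancel_right]
  · rintro a ⟨ha, hae⟩
    rw [conjBy_conjBy] at hae
    have h1 : Cfsg.conjBy B (a₂⁻¹ * (a * a₁)) = B := by
      rw [← conjBy_conjBy, hae, conjBy_conjBy, inv_mul_cancel, conjBy_one]
    have h2 : a₂⁻¹ * (a * a₁) ∈ A ⊓ Subgroup.normalizer (B : Set G) :=
      ⟨A.mul_mem (A.inv_mem ha₂) (A.mul_mem ha ha₁), mem_normalizer_of_conjBy_eq h1⟩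
    rw [inf_normalizer_eq_bot h.ne h.cond_left, Subgroup.mem_bot] at h2
    have : a * a₁ = a₂ := by
      have := inv_mul_eq_one.mp h2
      exact this.symm
    rw [← this]
    group

theorem result {G : Type*} [Group G] {A B : Subgroup G} (h : Cfsg.IsRankOnePair A B) :
    (∃ C₁ ∈ Cfsg.unipotentSubgroups A B, ∃ C₂ ∈ Cfsg.unipotentSubgroups A B, ∃ C₃ ∈ Cfsg.unipotentSubgroups A B,
      C₁ ≠ C₂ ∧ C₁ ≠ C₃ ∧ C₂ ≠ C₃) ∧
    (∀ C₁ ∈ Cfsg.unipotentSubgroups A B, ∀ C₂ ∈ Cfsg.unipotentSubgroups A B, ∀ D₁ ∈ Cfsg.unipotentSubgroups A B,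
      ∀ D₂ ∈ Cfsg.unipotentSubgroups A B, C₁ ≠ C₂ → D₁ ≠ D₂ →
        ∃ x ∈ A ⊔ B, Cfsg.conjBy C₁ x = D₁ ∧ Cfsg.conjBy C₂ x = D₂) ∧
    (∀ C ∈ Cfsg.unipotentSubgroups A B, ∀ D ∈ Cfsg.unipotentSubgroups A B, C ≠ A → D ≠ A →
      ∃! a : G, a ∈ A ∧ Cfsg.conjBy C a = D) := by
  refine ⟨?_, ?_, fun C hC D hD hCA hDA => regular h hC hD hCA hDA⟩
  · obtain ⟨a, ha, ha1⟩ := ne_bot_left h
    refine ⟨A, A_mem_unipotent A B, B, B_mem_unipotent h, Cfsg.conjBy B a,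
      conjBy_mem_unipotent (B_mem_unipotent h) (Subgroup.mem_sup_left ha), h.ne,
      (conjBy_B_ne_A h ha).symm, ?_⟩
    intro hcon
    have h2 : a ∈ A ⊓ Subgroup.normalizer (B : Set G) := ⟨ha, mem_normalizer_of_conjBy_eq hcon.symm⟩
    rw [inf_normalizer_eq_bot h.ne h.cond_left, Subgroup.mem_bot] at h2
    exact ha1 h2
  · intro C₁ hC₁ C₂ hC₂ D₁ hD₁ D₂ hD₂ hC hD
    obtain ⟨x₁, hx₁, rfl⟩ := hC₁
    obtain ⟨y₁, hy₁, rfl⟩ := hD₁
    have hx₁' : x₁⁻¹ ∈ A ⊔ B := Subgroup.inv_mem _ hx₁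
    have hy₁' : y₁⁻¹ ∈ A ⊔ B := Subgroup.inv_mem _ hy₁
    have hC₂' : Cfsg.conjBy C₂ x₁⁻¹ ∈ Cfsg.unipotentSubgroups A B := conjBy_mem_unipotent hC₂ hx₁'
    have hD₂' : Cfsg.conjBy D₂ y₁⁻¹ ∈ Cfsg.unipotentSubgroups A B := conjBy_mem_unipotent hD₂ hy₁'
    have hC₂A : Cfsg.conjBy C₂ x₁⁻¹ ≠ A := by
      intro hcon
      apply hC
      have : Cfsg.conjBy (Cfsg.conjBy A x₁) x₁⁻¹ = A := by
        rw [conjBy_conjBy, inv_mul_cancel, conjBy_one]
      exact conjBy_injective x₁⁻¹ (this.trans hcon.symm)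
    have hD₂A : Cfsg.conjBy D₂ y₁⁻¹ ≠ A := by
      intro hcon
      apply hD
      have : Cfsg.conjBy (Cfsg.conjBy A y₁) y₁⁻¹ = A := by
        rw [conjBy_conjBy, inv_mul_cancel, conjBy_one]
      exact conjBy_injective y₁⁻¹ (this.trans hcon.symm)
    obtain ⟨a, ⟨ha, hae⟩, -⟩ := regular h hC₂' hD₂' hC₂A hD₂A
    refine ⟨y₁ * a * x₁⁻¹, Subgroup.mul_mem _ (Subgroup.mul_mem _ hy₁ (Subgroup.mem_sup_left ha)) hx₁',
      ?_, ?_⟩
    · rw [conjBy_conjBy]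
      have e : y₁ * a * x₁⁻¹ * x₁ = y₁ * a := by group
      rw [e, ← conjBy_conjBy, conjBy_eq_of_mem_normalizer (Subgroup.le_normalizer ha)]
    · have e : Cfsg.conjBy C₂ (y₁ * a * x₁⁻¹) =
          Cfsg.conjBy (Cfsg.conjBy (Cfsg.conjBy C₂ x₁⁻¹) a) y₁ := by
        rw [conjBy_conjBy, conjBy_conjBy, mul_assoc]
      rw [e, hae, conjBy_conjBy, mul_inv_cancel, conjBy_one]

end Cfsg.Agent.S5014
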