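import Cfsg.Statements.S5016
import Cfsg.Agent.S5013

set_option autoImplicit false
open Cfsg

namespace Cfsg.Agent.S5016

open Matrix

def lowerSub (k : Type*) [Field k] : Subgroup (Matrix.SpecialLinearGroup (Fin 2) k) where
  carrier := {g | (g : Matrix (Fin 2) (Fin 2) k) 0 1 = 0 ∧ (g : Matrix (Fin 2) (Fin 2) k) 0 0 = 1 ∧
    (g : Matrix (Fin 2) (Fin 2) k) 1 1 = 1}
  one_mem' := by simp
  mul_mem' := by
    rintro a b ⟨h1, h2, h3⟩ ⟨h4, h5, h6⟩
    simp only [Set.mem_ofPred_eq, Matrix.SpecialLinearGroup.coe_mul, Matrix.mul_apply,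
      Fin.sum_univ_two] at *
    simp [h1, h2, h3, h4, h5, h6]
  inv_mem' := by
    rintro a ⟨h1, h2, h3⟩
    simp only [Set.mem_ofPred_eq, Matrix.SpecialLinearGroup.coe_inv, Matrix.adjugate_fin_two] at *
    simp [h1, h2, h3]

def upperSub (k : Type*) [Field k] : Subgroup (Matrix.SpecialLinearGroup (Fin 2) k) where
  carrier := {g | (g : Matrix (Fin 2) (Fin 2) k) 1 0 = 0 ∧ (g : Matrix (Fin 2) (Fin 2) k) 0 0 = 1 ∧
    (g : Matrix (Fin 2) (Fin 2) k) 1 1 = 1}
  one_mem' := by simp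
  mul_mem' := by
    rintro a b ⟨h1, h2, h3⟩ ⟨h4, h5, h6⟩
    simp only [Set.mem_ofPred_eq, Matrix.SpecialLinearGroup.coe_mul, Matrix.mul_apply,
      Fin.sum_univ_two] at *
    simp [h1, h2, h3, h4, h5, h6]
  inv_mem' := by
    rintro a ⟨h1, h2, h3⟩
    simp only [Set.mem_ofPred_eq, Matrix.SpecialLinearGroup.coe_inv, Matrix.adjugate_fin_two] at *
    simp [h1, h2, h3]

theorem lower_eq (k : Type*) [Field k] : Cfsg.lowerUnipotentSL2 k = lowerSub k :=
  Subgroup.closure_eq (lowerSub k)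

theorem upper_eq (k : Type*) [Field k] : Cfsg.upperUnipotentSL2 k = upperSub k :=
  Subgroup.closure_eq (upperSub k)

def L {k : Type*} [Field k] (t : k) : Matrix.SpecialLinearGroup (Fin 2) k :=
  ⟨!![1, 0; t, 1], by simp [Matrix.det_fin_two]⟩

def U {k : Type*} [Field k] (t : k) : Matrix.SpecialLinearGroup (Fin 2) k :=
  ⟨!![1, t; 0, 1], by simp [Matrix.det_fin_two]⟩

theorem mem_lower_iff {k : Type*} [Field k] {g : Matrix.SpecialLinearGroup (Fin 2) k} :
    g ∈ Cfsg.lowerUnipotentSL2 k ↔ ∃ t, g = L t := by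
  rw [lower_eq]
  constructor
  · rintro ⟨h1, h2, h3⟩
    refine ⟨(g : Matrix (Fin 2) (Fin 2) k) 1 0, ?_⟩
    ext i j
    fin_cases i <;> fin_cases j <;> simp [L, h1, h2, h3]
  · rintro ⟨t, rfl⟩
    refine ⟨?_, ?_, ?_⟩ <;> simp [L]

theorem mem_upper_iff {k : Type*} [Field k] {g : Matrix.SpecialLinearGroup (Fin 2) k} :
    g ∈ Cfsg.upperUnipotentSL2 k ↔ ∃ t, g = U t := by
  rw [upper_eq]
  constructor
  · rintro ⟨h1, h2, h3⟩
    refine ⟨(g : Matrix (Fin 2) (Fin 2) k) 0 1, ?_⟩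
    ext i j
    fin_cases i <;> fin_cases j <;> simp [U, h1, h2, h3]
  · rintro ⟨t, rfl⟩
    refine ⟨?_, ?_, ?_⟩ <;> simp [U]

theorem L_coe {k : Type*} [Field k] (t : k) :
    (L t : Matrix (Fin 2) (Fin 2) k) = !![1, 0; t, 1] := rfl

theorem U_coe {k : Type*} [Field k] (t : k) :
    (U t : Matrix (Fin 2) (Fin 2) k) = !![1, t; 0, 1] := rfl

theorem L_mul {k : Type*} [Field k] (s t : k) : L s * L t = L (s + t) := by
  apply Subtype.ext
  simp only [Matrix.SpecialLinearGroup.coe_mul, L_coe, U_coe]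
  ext i j
  fin_cases i <;> fin_cases j <;> simp [Matrix.mul_apply, Fin.sum_univ_two, add_comm]

theorem U_mul {k : Type*} [Field k] (s t : k) : U s * U t = U (s + t) := by
  apply Subtype.ext
  simp only [Matrix.SpecialLinearGroup.coe_mul, L_coe, U_coe]
  ext i j
  fin_cases i <;> fin_cases j <;> simp [Matrix.mul_apply, Fin.sum_univ_two, add_comm]

theorem L_zero {k : Type*} [Field k] : L (0 : k) = 1 := by
  ext i j
  fin_cases i <;> fin_cases j <;> simp [L]

theorem U_zero {k : Type*} [Field k] : U (0 : k) = 1 := by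
  ext i j
  fin_cases i <;> fin_cases j <;> simp [U]

theorem L_inv {k : Type*} [Field k] (t : k) : (L t)⁻¹ = L (-t) := by
  rw [inv_eq_iff_mul_eq_one, L_mul, add_neg_cancel, L_zero]

theorem U_inv {k : Type*} [Field k] (t : k) : (U t)⁻¹ = U (-t) := by
  rw [inv_eq_iff_mul_eq_one, U_mul, add_neg_cancel, U_zero]

theorem L_eq_one_iff {k : Type*} [Field k] {t : k} : L t = 1 ↔ t = 0 := by
  constructor
  · intro h
    have := congrArg (fun g : Matrix.SpecialLinearGroup (Fin 2) k => (g : Matrix (Fin 2) (Fin 2) k) 1 0) h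
    simpa [L] using this
  · rintro rfl
    exact L_zero

theorem U_eq_one_iff {k : Type*} [Field k] {t : k} : U t = 1 ↔ t = 0 := by
  constructor
  · intro h
    have := congrArg (fun g : Matrix.SpecialLinearGroup (Fin 2) k => (g : Matrix (Fin 2) (Fin 2) k) 0 1) h
    simpa [U] using this
  · rintro rfl
    exact U_zero

theorem conj_L {k : Type*} [Field k] {t : k} (ht : t ≠ 0) (x : k) :
    L t * U (-t⁻¹) * L x * (U t⁻¹ * L (-t)) = U (-x / t ^ 2) := by
  apply Subtype.ext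
  simp only [Matrix.SpecialLinearGroup.coe_mul, L_coe, U_coe]
  ext i j
  fin_cases i <;> fin_cases j <;> simp [Matrix.mul_apply, Fin.sum_univ_two] <;> field_simp <;> ring

theorem conj_U {k : Type*} [Field k] {t : k} (ht : t ≠ 0) (y : k) :
    U t⁻¹ * L (-t) * U y * (L t * U (-t⁻¹)) = L (-y * t ^ 2) := by
  apply Subtype.ext
  simp only [Matrix.SpecialLinearGroup.coe_mul, L_coe, U_coe]
  ext i j
  fin_cases i <;> fin_cases j <;> simp [Matrix.mul_apply, Fin.sum_univ_two] <;> field_simp <;> ring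

theorem conjBy_lower {k : Type*} [Field k] {t : k} (ht : t ≠ 0) :
    Cfsg.conjBy (Cfsg.lowerUnipotentSL2 k) (L t * (U t⁻¹)⁻¹) = Cfsg.upperUnipotentSL2 k := by
  ext z
  rw [Cfsg.Agent.S5013.mem_conjBy_iff, mem_lower_iff, mem_upper_iff, U_inv, _root_.mul_inv_rev, U_inv,
    L_inv, neg_neg]
  constructor
  · rintro ⟨x, hx⟩
    refine ⟨-x / t ^ 2, ?_⟩
    rw [← conj_L ht x, ← hx]
    have h1 : L t * U (-t⁻¹) * (U t⁻¹ * L (-t)) = 1 := by
      rw [← L_inv, ← U_inv]; group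
    calc z = (L t * U (-t⁻¹) * (U t⁻¹ * L (-t))) * z * (L t * U (-t⁻¹) * (U t⁻¹ * L (-t))) := by
          rw [h1]; simp
      _ = _ := by group
  · rintro ⟨y, rfl⟩
    exact ⟨-y * t ^ 2, conj_U ht y⟩

theorem partner {k : Type*} [Field k] {t : k} (ht : t ≠ 0) :
    Cfsg.conjBy (Cfsg.lowerUnipotentSL2 k) (U t⁻¹)⁻¹ =
      Cfsg.conjBy (Cfsg.upperUnipotentSL2 k) (L t)⁻¹ := by
  rw [← conjBy_lower ht, Cfsg.Agent.S5013.conjBy_conjBy]
  congr 1
  group

theorem special_identity {k : Type*} [Field k] {t : k} (ht : t ≠ 0) :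
    (U t⁻¹)⁻¹ * L t * U t⁻¹ = (L t)⁻¹ * (U t⁻¹)⁻¹ * L t := by
  rw [U_inv, L_inv]
  apply Subtype.ext
  simp only [Matrix.SpecialLinearGroup.coe_mul, L_coe, U_coe]
  ext i j
  fin_cases i <;> fin_cases j <;> simp [Matrix.mul_apply, Fin.sum_univ_two, ht] <;> field_simp <;> ring

theorem lower_ne_upper (k : Type*) [Field k] :
    Cfsg.lowerUnipotentSL2 k ≠ Cfsg.upperUnipotentSL2 k := by
  intro h
  have h1 : L (1 : k) ∈ Cfsg.lowerUnipotentSL2 k := mem_lower_iff.mpr ⟨1, rfl⟩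
  rw [h, mem_upper_iff] at h1
  obtain ⟨t, ht⟩ := h1
  have := congrArg (fun g : Matrix.SpecialLinearGroup (Fin 2) k =>
    (g : Matrix (Fin 2) (Fin 2) k) 1 0) ht
  simp [L_coe, U_coe] at this

theorem lower_comm (k : Type*) [Field k] : IsMulCommutative (Cfsg.lowerUnipotentSL2 k) := by
  refine ⟨⟨?_⟩⟩
  rintro ⟨a, ha⟩ ⟨b, hb⟩
  obtain ⟨s, rfl⟩ := mem_lower_iff.mp ha
  obtain ⟨t, rfl⟩ := mem_lower_iff.mp hb
  apply Subtype.ext
  show L s * L t = L t * L s
  rw [L_mul, L_mul, add_comm]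

theorem upper_comm (k : Type*) [Field k] : IsMulCommutative (Cfsg.upperUnipotentSL2 k) := by
  refine ⟨⟨?_⟩⟩
  rintro ⟨a, ha⟩ ⟨b, hb⟩
  obtain ⟨s, rfl⟩ := mem_upper_iff.mp ha
  obtain ⟨t, rfl⟩ := mem_upper_iff.mp hb
  apply Subtype.ext
  show U s * U t = U t * U s
  rw [U_mul, U_mul, add_comm]

theorem nilpotent_of_comm {G : Type*} [Group G] (h : IsMulCommutative G) : Group.IsNilpotent G :=
  ⟨⟨1, Subgroup.upperCentralSeries_one_eq_top_iff.mpr h⟩⟩

theorem cond_left (k : Type*) [Field k] :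
    Cfsg.RankOneCondition (Cfsg.lowerUnipotentSL2 k) (Cfsg.upperUnipotentSL2 k) := by
  intro a ha ha1
  obtain ⟨t, rfl⟩ := mem_lower_iff.mp ha
  have ht : t ≠ 0 := fun h => ha1 (L_eq_one_iff.mpr h)
  refine ⟨U t⁻¹, mem_upper_iff.mpr ⟨_, rfl⟩, ?_, partner ht⟩
  intro h
  exact inv_ne_zero ht (U_eq_one_iff.mp h)

theorem cond_right (k : Type*) [Field k] :
    Cfsg.RankOneCondition (Cfsg.upperUnipotentSL2 k) (Cfsg.lowerUnipotentSL2 k) := by
  intro b hb hb1
  obtain ⟨s, rfl⟩ := mem_upper_iff.mp hb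
  have hs : s ≠ 0 := fun h => hb1 (U_eq_one_iff.mpr h)
  refine ⟨L s⁻¹, mem_lower_iff.mpr ⟨_, rfl⟩, ?_, ?_⟩
  · intro h
    exact inv_ne_zero hs (L_eq_one_iff.mp h)
  · have := partner (inv_ne_zero hs)
    rw [inv_inv] at this
    exact this.symm

theorem pair (k : Type*) [Field k] :
    Cfsg.IsRankOnePair (Cfsg.lowerUnipotentSL2 k) (Cfsg.upperUnipotentSL2 k) :=
  ⟨lower_ne_upper k, nilpotent_of_comm (lower_comm k), nilpotent_of_comm (upper_comm k),
    cond_left k, cond_right k⟩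

theorem sup_eq_top (k : Type*) [Field k] :
    Cfsg.lowerUnipotentSL2 k ⊔ Cfsg.upperUnipotentSL2 k = ⊤ := by
  rw [eq_top_iff]
  intro g _
  refine Matrix.SL2.transvection_induction
    (fun g => g ∈ Cfsg.lowerUnipotentSL2 k ⊔ Cfsg.upperUnipotentSL2 k) ?_ ?_ g
  · intro i j hij c
    fin_cases i <;> fin_cases j
    · exact absurd rfl hij
    · apply Subgroup.mem_sup_right
      rw [mem_upper_iff]
      refine ⟨c, ?_⟩
      apply Subtype.ext
      rw [Matrix.SpecialLinearGroup.transvection_coe, U_coe]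
      ext i j
      fin_cases i <;> fin_cases j <;> simp [Matrix.single_apply]
    · apply Subgroup.mem_sup_left
      rw [mem_lower_iff]
      refine ⟨c, ?_⟩
      apply Subtype.ext
      rw [Matrix.SpecialLinearGroup.transvection_coe, L_coe]
      ext i j
      fin_cases i <;> fin_cases j <;> simp [Matrix.single_apply]
    · exact absurd rfl hij
  · intro A B hA hB
    exact Subgroup.mul_mem _ hA hB

theorem result (k : Type*) [Field k] :
    Cfsg.IsRankOneGroup (Matrix.SpecialLinearGroup (Fin 2) k) (Cfsg.lowerUnipotentSL2 k) (Cfsg.upperUnipotentSL2 k) ∧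
    Cfsg.IsSpecialRankOnePair (Cfsg.lowerUnipotentSL2 k) (Cfsg.upperUnipotentSL2 k) ∧
    Cfsg.HasAbelianUnipotents (Cfsg.lowerUnipotentSL2 k) (Cfsg.upperUnipotentSL2 k) := by
  refine ⟨⟨sup_eq_top k, pair k⟩, ⟨pair k, ?_⟩, lower_comm k, upper_comm k⟩
  intro a ha ha1 b hb hb1 hab
  obtain ⟨t, rfl⟩ := mem_lower_iff.mp ha
  have ht : t ≠ 0 := fun h => ha1 (L_eq_one_iff.mpr h)
  have hb' : b = U t⁻¹ :=
    Cfsg.Agent.S5013.unique_partner (lower_ne_upper k) (cond_right k)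
      (mem_upper_iff.mpr ⟨_, rfl⟩) hb (partner ht) hab
  rw [hb']
  exact special_identity ht

end Cfsg.Agent.S5016
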