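import Cfsg.Statements.S5028
import Cfsg.Agent.Lib.Helper26.RankOne

set_option autoImplicit false
open Cfsg

namespace Cfsg.Agent.S5028

open Cfsg.Agent.S5013 Cfsg.Agent.S5014 Cfsg.Agent.Lib.Helper26
open scoped commutatorElement

theorem exists_partner {G : Type*} [Group G] {S : Set (Subgroup G)}
    {A : Subgroup G} (hA : ¬ Cfsg.IsIsolatedIn (Cfsg.FAdj S) S A) (hAS : A ∈ S) :
    ∃ B ∈ S, Cfsg.IsRankOnePair A B := by
  unfold Cfsg.IsIsolatedIn at hA
  rw [not_and] at hA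
  have h1 := hA hAS
  rw [not_forall] at h1
  obtain ⟨B, hB⟩ := h1
  rw [not_and_or, not_not, not_not] at hB
  rcases hB with ⟨-, hBS, hp⟩ | ⟨hBS, -, hp⟩
  · exact ⟨B, hBS, hp⟩
  · exact ⟨B, hBS, Cfsg.RankOnePair_symm hp⟩

theorem commute_of_commutator_eq_bot {G : Type*} [Group G] {A C : Subgroup G} (h : ⁅A, C⁆ = ⊥)
    {x y : G} (hx : x ∈ A) (hy : y ∈ C) : x * y = y * x := by
  have h1 : ⁅x, y⁆ ∈ ⁅A, C⁆ := Subgroup.commutator_mem_commutator hx hy
  rw [h, Subgroup.mem_bot, commutatorElement_eq_one_iff_mul_comm] at h1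
  exact h1

theorem inter_trivial {G : Type*} [Group G] {S : Set (Subgroup G)} (hS : Cfsg.IsRootSubgroupSet S)
    {A B C : Subgroup G} (hAS : A ∈ S) (hBS : B ∈ S) (hCS : C ∈ S) (hAB : Cfsg.IsRankOnePair A B)
    {a : G} (haA : a ∈ A) (haC : a ∈ C) (ha1 : a ≠ 1) : A = C := by
  by_contra hne
  rcases hS.pair A hAS C hCS with h1 | h1 | h1
  · rcases hS.pair C hCS B hBS with h2 | h2 | h2
    · exact ha1 (rankOne_eq_one_of_commute hAB haA
        (fun b hb => commute_of_commutator_eq_bot h2 haC hb))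
    · obtain ⟨b, hb, hb1, hbe⟩ := hAB.cond_left a haA ha1
      obtain ⟨b', hb', hb'1, hb'e⟩ := h2.cond_left a haC ha1
      have h3 : C = Cfsg.conjBy A (b' * b⁻¹) := by
        have h4 := congrArg (fun K => Cfsg.conjBy K b') (hbe.trans hb'e.symm)
        simp only [conjBy_conjBy, mul_inv_cancel, conjBy_one] at h4
        exact h4.symm
      by_cases hβ : b' * b⁻¹ = 1
      · rw [hβ, conjBy_one] at h3
        exact hne h3.symm
      · apply rankOne_conj_not_commute hAB (B.mul_mem hb' (B.inv_mem hb)) hβ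
        intro x hx y hy
        rw [← h3] at hy
        exact commute_of_commutator_eq_bot h1 hx hy
    · exact rankOne_conj_centralizes_false hAB haA ha1
        (fun β hβ β' hβ' => commutatorCase_conj_commute (hS.commutative B hBS) h2 haC hβ hβ')
  · exact ha1 (rankOne_eq_one_of_mem_normalizer h1 haA (Subgroup.le_normalizer haC))
  · have h2 := h1.2.2.1 a haA ha1
    have h3 : Subgroup.closure ((fun b : G => a * b * a⁻¹ * b⁻¹) '' (C : Set G)) = ⊥ := by
      rw [Subgroup.closure_eq_bot_iff]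
      rintro _ ⟨c, hc, rfl⟩
      have h4 : a * c = c * a :=
        congrArg Subtype.val ((hS.commutative C hCS).is_comm.comm ⟨a, haC⟩ ⟨c, hc⟩)
      rw [Set.mem_singleton_iff]
      show a * c * a⁻¹ * c⁻¹ = 1
      rw [h4]
      group
    rw [h3] at h2
    exact hS.ne_bot _ h1.1 h2.symm

theorem result {G : Type*} [Group G] {S : Set (Subgroup G)} (hS : Cfsg.IsRootSubgroupSet S)
    {A : Subgroup G} (hA : ¬ Cfsg.IsIsolatedIn (Cfsg.FAdj S) S A) (hAS : A ∈ S) : ∀ B ∈ S, A ⊓ B = ⊥ ∨ A = B := by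
  intro C hCS
  obtain ⟨B, hBS, hAB⟩ := exists_partner hA hAS
  by_cases h : A ⊓ C = ⊥
  · exact Or.inl h
  · right
    obtain ⟨⟨a, haA, haC⟩, ha1⟩ := Subgroup.ne_bot_iff_exists_ne_one.mp h
    have ha1' : a ≠ 1 := fun h => ha1 (Subtype.ext h)
    exact inter_trivial hS hAS hBS hCS hAB haA haC ha1'

end Cfsg.Agent.S5028
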