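import Cfsg.Statements.S5025
import Cfsg.Agent.Lib.Helper26.RankOne
import Cfsg.Agent.S5028

set_option autoImplicit false
open Cfsg

namespace Cfsg.Agent.S5025

open Cfsg.Agent.S5013 Cfsg.Agent.S5014 Cfsg.Agent.Lib.Helper26
open scoped commutatorElement

theorem result {G : Type*} [Group G] {S : Set (Subgroup G)} (hS : Cfsg.IsRootSubgroupSet S)
    {A B : Subgroup G} (hA : A ∈ S) (hB : B ∈ Cfsg.rankOnePartners S A) {z : G}
    (hz : z ∈ Subgroup.centralizer ((A ⊔ B : Subgroup G) : Set G)) (hz1 : z ≠ 1) :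
    ∀ a ∈ A, a ≠ 1 → z * a ∉ Cfsg.rootElements S := by
  obtain ⟨hBS, hAB⟩ := hB
  rintro a ha ha1 ⟨hc1, C, hCS, hcC⟩
  rw [Subgroup.mem_centralizer_iff] at hz
  have hzA : ∀ x ∈ A, x * z = z * x := fun x hx => hz x (Subgroup.mem_sup_left hx)
  have hzB : ∀ x ∈ B, x * z = z * x := fun x hx => hz x (Subgroup.mem_sup_right hx)
  have hconj : ∀ β ∈ B, (z * a) * β * (z * a)⁻¹ = a * β * a⁻¹ := by
    intro β hβ
    have h1 : a * β * a⁻¹ ∈ A ⊔ B :=
      Subgroup.mul_mem _ (Subgroup.mul_mem _ (Subgroup.mem_sup_left ha) (Subgroup.mem_sup_right hβ))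
        (Subgroup.inv_mem _ (Subgroup.mem_sup_left ha))
    have h2 := hz _ h1
    calc (z * a) * β * (z * a)⁻¹ = z * (a * β * a⁻¹) * z⁻¹ := by group
      _ = (a * β * a⁻¹) * z * z⁻¹ := by rw [h2]
      _ = a * β * a⁻¹ := by group
  rcases hS.pair C hCS B hBS with h2 | h2 | h2
  · apply ha1
    apply rankOne_eq_one_of_commute hAB ha
    intro b hb
    have h3 := Cfsg.Agent.S5028.commute_of_commutator_eq_bot h2 hcC hb
    have h4 := hzB b hb
    calc a * b = z⁻¹ * ((z * a) * b) := by group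
      _ = z⁻¹ * (b * (z * a)) := by rw [h3]
      _ = z⁻¹ * ((b * z) * a) := by group
      _ = z⁻¹ * ((z * b) * a) := by rw [h4]
      _ = b * a := by group
  · obtain ⟨b', hb', hb'1, hb'e⟩ := h2.cond_left (z * a) hcC hc1
    obtain ⟨b, hb, hb1, hbe⟩ := hAB.cond_left a ha ha1
    have h3 : Cfsg.conjBy B (z * a)⁻¹ = Cfsg.conjBy B a⁻¹ := by
      have h4 : (z * a)⁻¹ = a⁻¹ * z⁻¹ := by group
      rw [h4, ← conjBy_conjBy]
      congr 1
      apply conjBy_eq_of_mem_normalizer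
      apply Subgroup.inv_mem
      rw [Subgroup.mem_normalizer_iff]
      intro x
      constructor
      · intro hx
        have : z * x * z⁻¹ = x := by rw [← hzB x hx]; group
        rw [this]; exact hx
      · intro hx
        have h5 := hzB _ hx
        have h6 : x = z * x * z⁻¹ := by
          calc x = z⁻¹ * ((z * x * z⁻¹) * z) := by group
            _ = z⁻¹ * (z * (z * x * z⁻¹)) := by rw [h5]
            _ = z * x * z⁻¹ := by group
        rw [h6]; exact hx
    have h5 : C = Cfsg.conjBy A (b' * b⁻¹) := by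
      have h6 := congrArg (fun K => Cfsg.conjBy K b') (hbe.trans (h3.symm.trans hb'e.symm))
      simp only [conjBy_conjBy, mul_inv_cancel, conjBy_one] at h6
      exact h6.symm
    obtain ⟨β, hβdef⟩ : ∃ β, β = b' * b⁻¹ := ⟨_, rfl⟩
    have hβ : β ∈ B := by rw [hβdef]; exact B.mul_mem hb' (B.inv_mem hb)
    rw [← hβdef] at h5
    have h7 : β⁻¹ * (z * a) * β ∈ A := by
      rw [h5, mem_conjBy_iff] at hcC
      exact hcC
    by_cases hβ1 : β = 1
    · rw [hβ1] at h7
      have h8 : z ∈ A := by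
        have h9 : z = ((1 : G)⁻¹ * (z * a) * 1) * a⁻¹ := by group
        rw [h9]
        exact A.mul_mem h7 (A.inv_mem ha)
      exact hz1 (rankOne_eq_one_of_commute hAB h8 (fun x hx => (hzB x hx).symm))
    · obtain ⟨a₂, ha₂, -, ha₂e⟩ :=
        rankOne_exists_right hAB (B.inv_mem hβ) (inv_ne_one.mpr hβ1)
      have h8 : β⁻¹ * a * β ∈ Cfsg.conjBy B a₂ := by
        rw [ha₂e, mem_conjBy_iff]
        have : β⁻¹⁻¹ * (β⁻¹ * a * β) * β⁻¹ = a := by group
        rw [this]; exact ha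
      rw [mem_conjBy_iff] at h8
      obtain ⟨y, hydef⟩ : ∃ y, y = a₂⁻¹ * (β⁻¹ * a * β) * a₂ := ⟨_, rfl⟩
      rw [← hydef] at h8
      obtain ⟨a₁, ha₁def⟩ : ∃ a₁, a₁ = β⁻¹ * (z * a) * β := ⟨_, rfl⟩
      rw [← ha₁def] at h7
      have h9 : a₁ = z * y := by
        have h10 : a₂⁻¹ * a₁ * a₂ = a₁ := by
          have := congrArg Subtype.val
            ((hS.commutative A hA).is_comm.comm ⟨a₁, h7⟩ ⟨a₂, ha₂⟩)
          have h11 : a₁ * a₂ = a₂ * a₁ := this
          rw [mul_assoc, h11]; group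
        have h12 : β⁻¹ * z = z * β⁻¹ := hzB _ (B.inv_mem hβ)
        have h13 : a₂⁻¹ * z = z * a₂⁻¹ := hzA _ (A.inv_mem ha₂)
        calc a₁ = a₂⁻¹ * a₁ * a₂ := h10.symm
          _ = a₂⁻¹ * ((β⁻¹ * z) * a * β) * a₂ := by rw [ha₁def]; group
          _ = a₂⁻¹ * ((z * β⁻¹) * a * β) * a₂ := by rw [h12]
          _ = (a₂⁻¹ * z) * (β⁻¹ * a * β) * a₂ := by group
          _ = (z * a₂⁻¹) * (β⁻¹ * a * β) * a₂ := by rw [h13]
          _ = z * (a₂⁻¹ * (β⁻¹ * a * β) * a₂) := by group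
          _ = z * y := by rw [hydef]
      have h14 : a₁ = 1 := by
        apply rankOne_eq_one_of_commute hAB h7
        intro x hx
        have h15 : y * x = x * y :=
          congrArg Subtype.val ((hS.commutative B hBS).is_comm.comm ⟨y, h8⟩ ⟨x, hx⟩)
        rw [h9, mul_assoc, h15, ← mul_assoc, ← hzB x hx, mul_assoc]
      have h16 : z = y⁻¹ := by
        rw [h9] at h14
        exact eq_inv_of_mul_eq_one_left h14
      apply hz1
      apply rankOne_eq_one_of_commute (Cfsg.RankOnePair_symm hAB) (a := z)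
      · rw [h16]; exact B.inv_mem h8
      · intro x hx
        exact (hzA x hx).symm
  · apply rankOne_conj_centralizes_false hAB ha ha1
    intro β hβ β' hβ'
    rw [← hconj β hβ]
    exact commutatorCase_conj_commute (hS.commutative B hBS) h2 hcC hβ hβ'

end Cfsg.Agent.S5025
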