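import Cfsg.Statements.S5029
import Cfsg.Agent.Lib.Helper26.RankOne
import Cfsg.Agent.S5028
import Cfsg.Agent.S5025

set_option autoImplicit false
open Cfsg

namespace Cfsg.Agent.S5029

open Cfsg.Agent.S5013 Cfsg.Agent.S5014 Cfsg.Agent.Lib.Helper26
open scoped commutatorElement

section Basics

variable {G : Type*} [Group G]

theorem rankOneCondition_conj {A B : Subgroup G} (h : Cfsg.RankOneCondition A B) (g : G) :
    Cfsg.RankOneCondition (Cfsg.conjBy A g) (Cfsg.conjBy B g) := by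
  intro a' ha' ha'1
  rw [mem_conjBy_iff] at ha'
  have ha1 : g⁻¹ * a' * g ≠ 1 := by
    intro h1
    apply ha'1
    calc a' = g * (g⁻¹ * a' * g) * g⁻¹ := by group
      _ = 1 := by rw [h1]; group
  obtain ⟨b, hb, hb1, hbe⟩ := h _ ha' ha1
  refine ⟨g * b * g⁻¹, ?_, ?_, ?_⟩
  · rw [mem_conjBy_iff]
    have : g⁻¹ * (g * b * g⁻¹) * g = b := by group
    rw [this]
    exact hb
  · intro h1
    apply hb1
    calc b = g⁻¹ * (g * b * g⁻¹) * g := by group
      _ = 1 := by rw [h1]; group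
  · rw [conjBy_conjBy, conjBy_conjBy]
    have e1 : (g * b * g⁻¹)⁻¹ * g = g * b⁻¹ := by group
    have e2 : a'⁻¹ * g = g * (g⁻¹ * a' * g)⁻¹ := by group
    rw [e1, e2, ← conjBy_conjBy, ← conjBy_conjBy, hbe]

theorem rankOnePair_conj {A B : Subgroup G} (h : Cfsg.IsRankOnePair A B) (g : G) :
    Cfsg.IsRankOnePair (Cfsg.conjBy A g) (Cfsg.conjBy B g) := by
  refine ⟨fun he => h.ne (conjBy_injective g he), ?_, ?_, rankOneCondition_conj h.cond_left g,
    rankOneCondition_conj h.cond_right g⟩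
  · haveI := h.nilpotent_left
    exact Group.nilpotent_of_mulEquiv
      (A.equivMapOfInjective (MulAut.conj g).toMonoidHom (MulAut.conj g).injective)
  · haveI := h.nilpotent_right
    exact Group.nilpotent_of_mulEquiv
      (B.equivMapOfInjective (MulAut.conj g).toMonoidHom (MulAut.conj g).injective)

theorem not_isolated_of_partner {S : Set (Subgroup G)} {A B : Subgroup G} (hA : A ∈ S) (hB : B ∈ S)
    (h : Cfsg.IsRankOnePair A B) : ¬ Cfsg.IsIsolatedIn (Cfsg.FAdj S) S A :=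
  fun hi => (hi.2 B).1 ⟨hA, hB, h⟩

theorem not_isolated_conj {S : Set (Subgroup G)} (hS : Cfsg.IsRootSubgroupSet S) {A : Subgroup G}
    (hA : ¬ Cfsg.IsIsolatedIn (Cfsg.FAdj S) S A) (hAS : A ∈ S) (g : G) :
    ¬ Cfsg.IsIsolatedIn (Cfsg.FAdj S) S (Cfsg.conjBy A g) := by
  obtain ⟨E, hES, hAE⟩ := Cfsg.Agent.S5028.exists_partner hA hAS
  exact not_isolated_of_partner (hS.conj_mem A hAS g) (hS.conj_mem E hES g) (rankOnePair_conj hAE g)

/-- TI-property in elementwise form. -/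
theorem eq_of_mem_of_mem {S : Set (Subgroup G)} (hS : Cfsg.IsRootSubgroupSet S) {A D : Subgroup G}
    (hA : ¬ Cfsg.IsIsolatedIn (Cfsg.FAdj S) S A) (hAS : A ∈ S) (hDS : D ∈ S) {x : G}
    (hxA : x ∈ A) (hxD : x ∈ D) (hx1 : x ≠ 1) : A = D := by
  rcases Cfsg.Agent.S5028.result hS hA hAS D hDS with h | h
  · exfalso
    have : x ∈ A ⊓ D := ⟨hxA, hxD⟩
    rw [h, Subgroup.mem_bot] at this
    exact hx1 this
  · exact h

end Basics

section CommCase

variable {G : Type*} [Group G] {S : Set (Subgroup G)}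

/-- In the commutator case `A ≠ ⁅A, B⁆`. -/
theorem ne_commutator (hS : Cfsg.IsRootSubgroupSet S) {A B : Subgroup G}
    (h : Cfsg.RootCommutatorCase S A B) : A ≠ ⁅A, B⁆ := by
  intro he
  apply hS.ne_bot _ h.1
  rw [Subgroup.commutator_eq_bot_iff_le_centralizer]
  intro a ha b hb
  have ha' : a ∈ ⁅A, B⁆ := he ▸ ha
  exact (h.2.1 a ha' b (Subgroup.mem_sup_right hb)).symm

/-- The homomorphism `b ↦ a⁻¹ b⁻¹ a b` from `B` to `G` in the commutator case. -/
def commHom (hS : Cfsg.IsRootSubgroupSet S) {A B : Subgroup G}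
    (h : Cfsg.RootCommutatorCase S A B) {a : G} (ha : a ∈ A) : B →* G where
  toFun b := a⁻¹ * (b : G)⁻¹ * a * b
  map_one' := by simp
  map_mul' b b' := by
    have hmem : ∀ x : B, a⁻¹ * (x : G)⁻¹ * a * x ∈ ⁅A, B⁆ := by
      intro x
      have := Subgroup.commutator_mem_commutator (A.inv_mem ha) (B.inv_mem x.2)
      rw [commutatorElement_def, inv_inv, inv_inv] at this
      exact this
    have h1 := h.2.1 _ (hmem b) b' (Subgroup.mem_sup_right b'.2)
    have h2 : (a⁻¹ * (b' : G)⁻¹ * a * b') * (a⁻¹ * (b : G)⁻¹ * a * b) =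
        (a⁻¹ * (b : G)⁻¹ * a * b) * (a⁻¹ * (b' : G)⁻¹ * a * b') := by
      have := (hS.commutative _ h.1).is_comm.comm ⟨_, hmem b'⟩ ⟨_, hmem b⟩
      exact congrArg Subtype.val this
    show a⁻¹ * ((b * b' : B) : G)⁻¹ * a * ((b * b' : B) : G) = _
    rw [Subgroup.coe_mul, ← h2]
    calc a⁻¹ * ((b : G) * b')⁻¹ * a * ((b : G) * b') =
        a⁻¹ * (b' : G)⁻¹ * a * ((a⁻¹ * (b : G)⁻¹ * a * b) * b') := by group
      _ = a⁻¹ * (b' : G)⁻¹ * a * (b' * (a⁻¹ * (b : G)⁻¹ * a * b)) := by rw [h1]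
      _ = _ := by group

theorem commHom_apply (hS : Cfsg.IsRootSubgroupSet S) {A B : Subgroup G}
    (h : Cfsg.RootCommutatorCase S A B) {a : G} (ha : a ∈ A) (b : B) :
    commHom hS h ha b = a⁻¹ * (b : G)⁻¹ * a * b := rfl

theorem commHom_mem (hS : Cfsg.IsRootSubgroupSet S) {A B : Subgroup G}
    (h : Cfsg.RootCommutatorCase S A B) {a : G} (ha : a ∈ A) (b : B) :
    commHom hS h ha b ∈ ⁅A, B⁆ := by
  have := Subgroup.commutator_mem_commutator (A.inv_mem ha) (B.inv_mem b.2)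
  rw [commutatorElement_def, inv_inv, inv_inv] at this
  exact this

theorem commHom_range (hS : Cfsg.IsRootSubgroupSet S) {A B : Subgroup G}
    (h : Cfsg.RootCommutatorCase S A B) {a : G} (ha : a ∈ A) (ha1 : a ≠ 1) :
    (commHom hS h ha).range = ⁅A, B⁆ := by
  apply le_antisymm
  · rintro _ ⟨b, rfl⟩
    exact commHom_mem hS h ha b
  · have h3 := h.2.2.1 a⁻¹ (A.inv_mem ha) (inv_ne_one.mpr ha1)
    rw [← h3, Subgroup.closure_le]
    rintro _ ⟨b, hb, rfl⟩
    refine ⟨⟨b⁻¹, B.inv_mem hb⟩, ?_⟩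
    rw [commHom_apply]
    simp

/-- Injectivity of `commHom`, from the TI-property of `A`. -/
theorem commHom_injective (hS : Cfsg.IsRootSubgroupSet S) {A B : Subgroup G}
    (hA : ¬ Cfsg.IsIsolatedIn (Cfsg.FAdj S) S A) (hAS : A ∈ S)
    (h : Cfsg.RootCommutatorCase S A B) {a : G} (ha : a ∈ A) (ha1 : a ≠ 1) :
    Function.Injective (commHom hS h ha) := by
  rw [injective_iff_map_eq_one]
  intro b hb
  by_contra hb1
  have hb1' : (b : G) ≠ 1 := fun h1 => hb1 (Subtype.ext h1)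
  rw [commHom_apply] at hb
  have hab : a * (b : G) = b * a := by
    calc a * (b : G) = b * a * (a⁻¹ * (b : G)⁻¹ * a * b) := by group
      _ = b * a := by rw [hb, mul_one]
  have hcomm : (b : G) * a * (b : G)⁻¹ = a := by
    rw [← hab]
    group
  have haconj : a ∈ Cfsg.conjBy A (b : G) := by
    rw [mem_conjBy_iff]
    have : (b : G)⁻¹ * a * b = a := by
      calc (b : G)⁻¹ * a * b = (b : G)⁻¹ * ((b : G) * a * (b : G)⁻¹) * b := by rw [hcomm]
        _ = a := by group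
    rw [this]
    exact ha
  have hAb : A = Cfsg.conjBy A (b : G) :=
    eq_of_mem_of_mem hS hA hAS (hS.conj_mem A hAS b) ha haconj ha1
  have hbN : (b : G) ∈ Subgroup.normalizer (A : Set G) := mem_normalizer_of_conjBy_eq hAb.symm
  have hAC : A ⊓ ⁅A, B⁆ = ⊥ := by
    rcases Cfsg.Agent.S5028.result hS hA hAS _ h.1 with h1 | h1
    · exact h1
    · exact absurd h1 (ne_commutator hS h)
  have h4 := h.2.2.2 (b : G) b.2 hb1'
  apply hS.ne_bot _ h.1
  rw [← h4, Subgroup.closure_eq_bot_iff]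
  rintro _ ⟨a', ha', rfl⟩
  rw [Set.mem_singleton_iff]
  have h5 : a' * b * a'⁻¹ * (b : G)⁻¹ ∈ A ⊓ ⁅A, B⁆ := by
    constructor
    · have h6 : (b : G) * a'⁻¹ * (b : G)⁻¹ ∈ A :=
        (Subgroup.mem_normalizer_iff.mp hbN _).mp (A.inv_mem ha')
      have h7 : a' * b * a'⁻¹ * (b : G)⁻¹ = a' * ((b : G) * a'⁻¹ * (b : G)⁻¹) := by group
      rw [h7]
      exact A.mul_mem ha' h6
    · have := Subgroup.commutator_mem_commutator ha' b.2
      rw [commutatorElement_def] at this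
      exact this
  rw [hAC, Subgroup.mem_bot] at h5
  exact h5

end CommCase

section RuleOut

variable {G : Type*} [Group G] {S : Set (Subgroup G)}

theorem mem_normalizer_of_forall' {P : Subgroup G} {g : G} (h1 : ∀ y ∈ P, g * y * g⁻¹ ∈ P)
    (h2 : ∀ y ∈ P, g⁻¹ * y * g ∈ P) : g ∈ Subgroup.normalizer (P : Set G) := by
  rw [Subgroup.mem_normalizer_iff]
  intro y
  constructor
  · exact h1 y
  · intro hy
    have := h2 _ hy
    have e : g⁻¹ * (g * y * g⁻¹) * g = y := by group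
    rw [e] at this
    exact this

/-- `A` normalizes `⁅A, B⁆`. -/
theorem conj_mem_commutator_left {A B : Subgroup G} {a' : G} (ha' : a' ∈ A) {y : G}
    (hy : y ∈ ⁅A, B⁆) : a' * y * a'⁻¹ ∈ ⁅A, B⁆ := by
  have hle : ⁅A, B⁆ ≤ (⁅A, B⁆ : Subgroup G).comap (MulAut.conj a').toMonoidHom := by
    rw [Subgroup.commutator_le]
    intro g₁ hg₁ g₂ hg₂
    show a' * ⁅g₁, g₂⁆ * a'⁻¹ ∈ ⁅A, B⁆
    have e : a' * ⁅g₁, g₂⁆ * a'⁻¹ = ⁅a' * g₁, g₂⁆ * ⁅a', g₂⁆⁻¹ := by
      simp only [commutatorElement_def]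
      group
    rw [e]
    exact Subgroup.mul_mem _ (Subgroup.commutator_mem_commutator (A.mul_mem ha' hg₁) hg₂)
      (Subgroup.inv_mem _ (Subgroup.commutator_mem_commutator ha' hg₂))
  exact hle hy

theorem left_le_normalizer_commutator (A B : Subgroup G) :
    A ≤ Subgroup.normalizer ((⁅A, B⁆ : Subgroup G) : Set G) := by
  intro a' ha'
  refine mem_normalizer_of_forall' (fun y hy => conj_mem_commutator_left ha' hy) (fun y hy => ?_)
  have := conj_mem_commutator_left (A.inv_mem ha') hy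
  rw [inv_inv] at this
  exact this

/-- A rank one pair in a set of abstract root subgroups cannot have its commutator in the set. -/
theorem not_rankOne_of_commutator_mem (hS : Cfsg.IsRootSubgroupSet S) {A B : Subgroup G}
    (hAS : A ∈ S) (hC : ⁅A, B⁆ ∈ S) (h : Cfsg.IsRankOnePair A B) : False := by
  have hAcomm : ∀ x ∈ A, ∀ y ∈ A, x * y = y * x := fun x hx y hy =>
    congrArg Subtype.val ((hS.commutative A hAS).is_comm.comm ⟨x, hx⟩ ⟨y, hy⟩)
  obtain ⟨a, ha, ha1⟩ := ne_bot_left h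
  obtain ⟨b, hb, hb1, hbe⟩ := h.cond_left a ha ha1
  -- the partner map
  have hpart : ∀ a' ∈ A, a * b⁻¹ * a' * b * a⁻¹ ∈ B := by
    intro a' ha'
    have h1 : b⁻¹ * a' * b ∈ Cfsg.conjBy A b⁻¹ := by
      rw [mem_conjBy_iff]
      have e : (b⁻¹)⁻¹ * (b⁻¹ * a' * b) * b⁻¹ = a' := by group
      rw [e]
      exact ha'
    rw [hbe, mem_conjBy_iff] at h1
    have e : (a⁻¹)⁻¹ * (b⁻¹ * a' * b) * a⁻¹ = a * b⁻¹ * a' * b * a⁻¹ := by group
    rw [e] at h1
    exact h1
  have hpart' : ∀ b' ∈ B, b * a⁻¹ * b' * a * b⁻¹ ∈ A := by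
    intro b' hb'
    have h1 : a⁻¹ * b' * a ∈ Cfsg.conjBy B a⁻¹ := by
      rw [mem_conjBy_iff]
      have e : (a⁻¹)⁻¹ * (a⁻¹ * b' * a) * a⁻¹ = b' := by group
      rw [e]
      exact hb'
    rw [← hbe, mem_conjBy_iff] at h1
    have e : (b⁻¹)⁻¹ * (a⁻¹ * b' * a) * b⁻¹ = b * a⁻¹ * b' * a * b⁻¹ := by group
    rw [e] at h1
    exact h1
  have hcmem : ∀ a' ∈ A, a'⁻¹ * (a * b⁻¹ * a' * b * a⁻¹) ∈ ⁅A, B⁆ := by
    intro a' ha'
    have h1 : ⁅a'⁻¹, b⁻¹⁆ ∈ ⁅A, B⁆ :=
      Subgroup.commutator_mem_commutator (A.inv_mem ha') (B.inv_mem hb)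
    have h2 := conj_mem_commutator_left (B := B) ha h1
    have h3 := hAcomm a'⁻¹ (A.inv_mem ha') a ha
    have e : a'⁻¹ * (a * b⁻¹ * a' * b * a⁻¹) = a * ⁅a'⁻¹, b⁻¹⁆ * a⁻¹ := by
      rw [commutatorElement_def, inv_inv, inv_inv]
      calc a'⁻¹ * (a * b⁻¹ * a' * b * a⁻¹) = (a'⁻¹ * a) * (b⁻¹ * a' * b * a⁻¹) := by group
        _ = (a * a'⁻¹) * (b⁻¹ * a' * b * a⁻¹) := by rw [h3]
        _ = _ := by group
    rw [e]
    exact h2
  -- every element of `B` is `a' * c'`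
  have hdecomp : ∀ b' ∈ B, ∃ a' ∈ A, ∃ c' ∈ ⁅A, B⁆, b' = a' * c' := by
    intro b' hb'
    refine ⟨_, hpart' b' hb', _, hcmem _ (hpart' b' hb'), ?_⟩
    group
  rcases hS.pair _ hC A hAS with h1 | h1 | h1
  · -- `⁅A, B⁆` commutes with `A`
    have hc' := hcmem a ha
    have h2 : a * (a⁻¹ * (a * b⁻¹ * a * b * a⁻¹)) = (a⁻¹ * (a * b⁻¹ * a * b * a⁻¹)) * a :=
      (Cfsg.Agent.S5028.commute_of_commutator_eq_bot h1 hc' ha).symm
    have hb' := hpart a ha
    have hb'1 : a * b⁻¹ * a * b * a⁻¹ ≠ 1 := by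
      intro h3
      apply ha1
      calc a = b * a⁻¹ * (a * b⁻¹ * a * b * a⁻¹) * a * b⁻¹ := by group
        _ = 1 := by rw [h3]; group
    have h4 : a * b⁻¹ * a * b * a⁻¹ ∈ B ⊓ Cfsg.conjBy B a := by
      refine ⟨hb', ?_⟩
      show _ ∈ Cfsg.conjBy B a
      rw [mem_conjBy_iff]
      have e : a⁻¹ * (a * b⁻¹ * a * b * a⁻¹) * a = a * b⁻¹ * a * b * a⁻¹ := by
        calc a⁻¹ * (a * b⁻¹ * a * b * a⁻¹) * a = (a⁻¹ * (a * b⁻¹ * a * b * a⁻¹)) * a := by group
          _ = a * (a⁻¹ * (a * b⁻¹ * a * b * a⁻¹)) := h2.symm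
          _ = _ := by group
      rw [e]
      exact hb'
    rw [rankOne_inf_conj_eq_bot (Cfsg.RankOnePair_symm h) ha ha1, Subgroup.mem_bot] at h4
    exact hb'1 h4
  · -- rank one pair `(⁅A, B⁆, A)`
    obtain ⟨c, hc, hc1⟩ := ne_bot_left h1
    obtain ⟨a', ha', -, hae⟩ := h1.cond_left c hc hc1
    rw [conjBy_eq_of_mem_normalizer
      (left_le_normalizer_commutator A B (A.inv_mem ha'))] at hae
    apply h1.ne
    have h2 := congrArg (fun K => Cfsg.conjBy K c) hae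
    simp only [conjBy_conjBy, mul_inv_cancel, conjBy_one] at h2
    exact (conjBy_eq_of_mem_normalizer (Subgroup.le_normalizer hc)).symm.trans h2
  · -- commutator case for `(⁅A, B⁆, A)`
    have hZ : ∀ z ∈ ⁅⁅A, B⁆, A⁆, ∀ x ∈ A, z * x = x * z := fun z hz x hx =>
      h1.2.1 z hz x (Subgroup.mem_sup_right hx)
    have hle : ⁅A, B⁆ ≤ ⁅⁅A, B⁆, A⁆ := by
      rw [Subgroup.commutator_le]
      intro a'' ha'' b' hb'
      obtain ⟨a', ha', c', hc', rfl⟩ := hdecomp b' hb'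
      have h2 : ⁅c', a''⁆ ∈ ⁅⁅A, B⁆, A⁆ := Subgroup.commutator_mem_commutator hc' ha''
      have h3 := hZ _ (Subgroup.inv_mem _ h2) a' ha'
      have h4 := hAcomm a'' ha'' a' ha'
      have e : ⁅a'', a' * c'⁆ = a' * ⁅c', a''⁆⁻¹ * a'⁻¹ := by
        simp only [commutatorElement_def]
        calc a'' * (a' * c') * a''⁻¹ * (a' * c')⁻¹ = (a'' * a') * (c' * a''⁻¹ * c'⁻¹ * a'⁻¹) := by
              group
          _ = (a' * a'') * (c' * a''⁻¹ * c'⁻¹ * a'⁻¹) := by rw [h4]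
          _ = _ := by group
      rw [e, ← h3, mul_inv_cancel_right]
      exact Subgroup.inv_mem _ h2
    apply hS.ne_bot _ h1.1
    rw [Subgroup.commutator_eq_bot_iff_le_centralizer]
    intro c hc
    rw [Subgroup.mem_centralizer_iff]
    intro x hx
    exact (hZ c (hle hc) x hx).symm

end RuleOut

section Main

variable {G : Type*} [Group G] {S : Set (Subgroup G)}

theorem commutatorCase_of_mem (hS : Cfsg.IsRootSubgroupSet S) {A B : Subgroup G} (hAS : A ∈ S)
    (hBS : B ∈ S) (hC : ⁅A, B⁆ ∈ S) : Cfsg.RootCommutatorCase S A B := by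
  rcases hS.pair A hAS B hBS with h | h | h
  · exact absurd h (hS.ne_bot _ hC)
  · exact (not_rankOne_of_commutator_mem hS hAS hC h).elim
  · exact h

theorem conjBy_le_sup {A B : Subgroup G} {b : G} (hb : b ∈ B) :
    Cfsg.conjBy A b ≤ A ⊔ ⁅A, B⁆ := by
  intro z hz
  rw [mem_conjBy_iff] at hz
  have e : z = (b⁻¹ * z * b) * ⁅(b⁻¹ * z * b)⁻¹, b⁆ := by
    rw [commutatorElement_def]
    group
  rw [e]
  exact Subgroup.mul_mem_sup hz (Subgroup.commutator_mem_commutator (A.inv_mem hz) hb)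

theorem exists_mul_of_mem_sup {A B : Subgroup G} {x : G} (hx : x ∈ A ⊔ ⁅A, B⁆) :
    ∃ a' ∈ A, ∃ c ∈ ⁅A, B⁆, x = a' * c := by
  have hx' : x ∈ ((A ⊔ ⁅A, B⁆ : Subgroup G) : Set G) := hx
  rw [Subgroup.coe_mul_of_left_le_normalizer_right A _ (left_le_normalizer_commutator A B)] at hx'
  obtain ⟨a', ha', c, hc, rfl⟩ := hx'
  exact ⟨a', ha', c, hc, rfl⟩

theorem inf_commutator_eq_bot (hS : Cfsg.IsRootSubgroupSet S) {A B : Subgroup G}
    (hA : ¬ Cfsg.IsIsolatedIn (Cfsg.FAdj S) S A) (hAS : A ∈ S)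
    (h : Cfsg.RootCommutatorCase S A B) : A ⊓ ⁅A, B⁆ = ⊥ := by
  rcases Cfsg.Agent.S5028.result hS hA hAS _ h.1 with h1 | h1
  · exact h1
  · exact absurd h1 (ne_commutator hS h)

/-- An element `a' * c` with `a' ≠ 1` lies in a conjugate of `A` by an element of `B`. -/
theorem exists_conj_of_mul (hS : Cfsg.IsRootSubgroupSet S) {A B : Subgroup G}
    (h : Cfsg.RootCommutatorCase S A B) {a' c : G} (ha' : a' ∈ A) (ha'1 : a' ≠ 1)
    (hc : c ∈ ⁅A, B⁆) : ∃ β ∈ B, a' * c ∈ Cfsg.conjBy A β := by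
  have hc' : c ∈ (commHom hS h ha').range := by rw [commHom_range hS h ha' ha'1]; exact hc
  obtain ⟨b, hb⟩ := hc'
  rw [commHom_apply] at hb
  refine ⟨(b : G)⁻¹, B.inv_mem b.2, ?_⟩
  rw [mem_conjBy_iff, ← hb]
  have e : ((b : G)⁻¹)⁻¹ * (a' * (a'⁻¹ * (b : G)⁻¹ * a' * b)) * (b : G)⁻¹ = a' := by group
  rw [e]
  exact ha'

theorem commute_commutator (hS : Cfsg.IsRootSubgroupSet S) {A B : Subgroup G}
    (h : Cfsg.RootCommutatorCase S A B) {a' c : G} (ha' : a' ∈ A) (hc : c ∈ ⁅A, B⁆) :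
    c * a' = a' * c := h.2.1 c hc a' (Subgroup.mem_sup_left ha')

/-- A member of `S` inside `⁅A, B⁆` is `⁅A, B⁆`. -/
theorem eq_commutator_of_le (hS : Cfsg.IsRootSubgroupSet S) {A B : Subgroup G}
    (hA : ¬ Cfsg.IsIsolatedIn (Cfsg.FAdj S) S A) (hAS : A ∈ S)
    (h : Cfsg.RootCommutatorCase S A B) {D : Subgroup G} (hDS : D ∈ S) (hDC : D ≤ ⁅A, B⁆) :
    D = ⁅A, B⁆ := by
  obtain ⟨E, hES, hAE⟩ := Cfsg.Agent.S5028.exists_partner hA hAS
  have hC := h.1
  obtain ⟨d, hd, hd1⟩ : ∃ d ∈ D, d ≠ 1 := by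
    by_contra hcon
    apply hS.ne_bot D hDS
    rw [eq_bot_iff]
    intro x hx
    rw [Subgroup.mem_bot]
    by_contra hx1
    exact hcon ⟨x, hx, hx1⟩
  obtain ⟨a, ha, ha1⟩ := ne_bot_left hAE
  have hdC : d ∈ ⁅A, B⁆ := hDC hd
  -- `d` does not centralize `E`
  have hnot : ¬ ∀ e ∈ E, d * e = e * d := by
    intro hcomm
    have hz : d ∈ Subgroup.centralizer ((A ⊔ E : Subgroup G) : Set G) := by
      have hle : A ⊔ E ≤ Subgroup.centralizer ({d} : Set G) := by
        apply sup_le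
        · intro x hx
          rw [Subgroup.mem_centralizer_iff]
          intro y hy
          rw [Set.mem_singleton_iff] at hy
          rw [hy]
          exact commute_commutator hS h hx hdC
        · intro x hx
          rw [Subgroup.mem_centralizer_iff]
          intro y hy
          rw [Set.mem_singleton_iff] at hy
          rw [hy]
          exact hcomm x hx
      rw [Subgroup.mem_centralizer_iff]
      intro x hx
      have := hle hx
      rw [Subgroup.mem_centralizer_iff] at this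
      exact (this d rfl).symm
    have hroot := Cfsg.Agent.S5025.result hS hAS ⟨hES, hAE⟩ hz hd1 a ha ha1
    apply hroot
    rw [commute_commutator hS h ha hdC]
    obtain ⟨β, hβ, hmem⟩ := exists_conj_of_mul hS h ha ha1 hdC
    refine ⟨?_, _, hS.conj_mem A hAS β, hmem⟩
    intro h1
    have h2 : a ∈ A ⊓ ⁅A, B⁆ := by
      refine ⟨ha, ?_⟩
      have e : a = d⁻¹ := eq_inv_of_mul_eq_one_left h1
      rw [e]
      exact Subgroup.inv_mem _ hdC
    rw [inf_commutator_eq_bot hS hA hAS h, Subgroup.mem_bot] at h2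
    exact ha1 h2
  have hEnoniso : ¬ Cfsg.IsIsolatedIn (Cfsg.FAdj S) S E :=
    not_isolated_of_partner hES hAS (Cfsg.RankOnePair_symm hAE)
  rcases hS.pair E hES D hDS with h1 | h1 | h1
  · exfalso
    apply hnot
    intro e he
    exact (Cfsg.Agent.S5028.commute_of_commutator_eq_bot h1 he hd).symm
  · exact eq_of_mem_of_mem hS (not_isolated_of_partner hDS hES (Cfsg.RankOnePair_symm h1)) hDS hC
      hd hdC hd1
  · rcases hS.pair E hES _ hC with h2 | h2 | h2
    · exfalso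
      apply hnot
      intro e he
      exact (Cfsg.Agent.S5028.commute_of_commutator_eq_bot h2 he hdC).symm
    · exact (eq_of_mem_of_mem hS (not_isolated_of_partner hC hES (Cfsg.RankOnePair_symm h2)) hC
        hDS hdC hd hd1).symm
    · -- both commutator cases
      have hFF : ⁅E, D⁆ = ⁅E, ⁅A, B⁆⁆ := by
        rw [← h1.2.2.2 d hd hd1, ← h2.2.2.2 d hdC hd1]
      obtain ⟨e, he, he1⟩ := ne_bot_left (Cfsg.RankOnePair_symm hAE)
      have hinj := commHom_injective hS hEnoniso hES h2 he he1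
      apply le_antisymm hDC
      intro c hc
      have h3 : commHom hS h2 he ⟨c, hc⟩ ∈ ⁅E, D⁆ := by
        rw [hFF]
        exact commHom_mem hS h2 he ⟨c, hc⟩
      have h4 : ⁅E, D⁆ ≤ (D.subgroupOf ⁅A, B⁆).map (commHom hS h2 he) := by
        rw [← h1.2.2.1 e⁻¹ (E.inv_mem he) (inv_ne_one.mpr he1), Subgroup.closure_le]
        rintro _ ⟨b, hb, rfl⟩
        refine ⟨⟨b⁻¹, hDC (D.inv_mem hb)⟩, Subgroup.mem_subgroupOf.mpr (D.inv_mem hb), ?_⟩
        rw [commHom_apply]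
        simp
      obtain ⟨d', hd', hd'e⟩ := h4 h3
      have h5 := hinj hd'e
      have h6 : (d' : G) ∈ D := Subgroup.mem_subgroupOf.mp hd'
      rw [h5] at h6
      exact h6

/-- Let S be a set of abstract root subgroups of G, A ∈ S having a rank one partner in S, and B ∈ S with C = ⁅A, B⁆ ∈ S. Then the members of S contained in AC are the conjugates of A by elements of B together with C, they partition AC, the members of S inside AC partition AC so that A is a line partner of C, and for every non-identity a ∈ A the map b ↦ a⁻¹ b⁻¹ a b is an isomorphism from B onto C. -/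
theorem result {G : Type*} [Group G] {S : Set (Subgroup G)} (hS : Cfsg.IsRootSubgroupSet S)
    {A B : Subgroup G} (hA : ¬ Cfsg.IsIsolatedIn (Cfsg.FAdj S) S A) (hAS : A ∈ S) (hB : B ∈ S) (hC : ⁅A, B⁆ ∈ S) :
    Cfsg.membersIn S (A ⊔ ⁅A, B⁆) = (fun b : G => Cfsg.conjBy A b) '' (B : Set G) ∪ {⁅A, B⁆} ∧
    Cfsg.IsSubgroupPartition (A ⊔ ⁅A, B⁆) (Cfsg.membersIn S (A ⊔ ⁅A, B⁆)) ∧
    A ∈ Cfsg.linePartners S ⁅A, B⁆ ∧
    ∀ a ∈ A, a ≠ 1 → ∃ φ : ↥B ≃* ↥⁅A, B⁆, ∀ b : ↥B, (φ b : G) = a⁻¹ * (b : G)⁻¹ * a * b := by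
  have h := commutatorCase_of_mem hS hAS hB hC
  have hAC := inf_commutator_eq_bot hS hA hAS h
  have hmem : Cfsg.membersIn S (A ⊔ ⁅A, B⁆) =
      (fun b : G => Cfsg.conjBy A b) '' (B : Set G) ∪ {⁅A, B⁆} := by
    ext D
    constructor
    · rintro ⟨hDS, hDle⟩
      by_cases hDC : D ≤ ⁅A, B⁆
      · right
        exact eq_commutator_of_le hS hA hAS h hDS hDC
      · left
        obtain ⟨x, hxD, hxC⟩ := SetLike.not_le_iff_exists.mp hDC
        obtain ⟨a', ha', c, hc, rfl⟩ := exists_mul_of_mem_sup (hDle hxD)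
        have ha'1 : a' ≠ 1 := by
          intro h1
          apply hxC
          rw [h1, one_mul]
          exact hc
        have hx1 : a' * c ≠ 1 := by
          intro h1
          apply hxC
          rw [h1]
          exact Subgroup.one_mem _
        obtain ⟨β, hβ, hmemβ⟩ := exists_conj_of_mul hS h ha' ha'1 hc
        refine ⟨β, hβ, ?_⟩
        exact eq_of_mem_of_mem hS (not_isolated_conj hS hA hAS β) (hS.conj_mem A hAS β) hDS
          hmemβ hxD hx1
    · rintro (⟨b, hb, rfl⟩ | hD)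
      · exact ⟨hS.conj_mem A hAS b, conjBy_le_sup hb⟩
      · rw [Set.mem_singleton_iff] at hD
        rw [hD]
        exact ⟨hC, le_sup_right⟩
  have hpart : Cfsg.IsSubgroupPartition (A ⊔ ⁅A, B⁆) (Cfsg.membersIn S (A ⊔ ⁅A, B⁆)) := by
    refine ⟨fun D hD => hD.2, fun x hx hx1 => ?_, fun D hD D' hD' hne => ?_⟩
    · obtain ⟨a', ha', c, hc, rfl⟩ := exists_mul_of_mem_sup hx
      by_cases ha'1 : a' = 1
      · refine ⟨⁅A, B⁆, ⟨hC, le_sup_right⟩, ?_⟩
        rw [ha'1, one_mul]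
        exact hc
      · obtain ⟨β, hβ, hmemβ⟩ := exists_conj_of_mul hS h ha' ha'1 hc
        exact ⟨_, ⟨hS.conj_mem A hAS β, conjBy_le_sup hβ⟩, hmemβ⟩
    · have hD2 := hD
      have hD'2 := hD'
      rw [hmem] at hD2 hD'2
      rcases hD2 with ⟨b, hb, rfl⟩ | hD2
      · rcases Cfsg.Agent.S5028.result hS (not_isolated_conj hS hA hAS b) (hS.conj_mem A hAS b)
          D' hD'.1 with h1 | h1
        · exact h1
        · exact absurd h1 hne
      · rcases hD'2 with ⟨b, hb, rfl⟩ | hD'2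
        · rcases Cfsg.Agent.S5028.result hS (not_isolated_conj hS hA hAS b)
            (hS.conj_mem A hAS b) D hD.1 with h1 | h1
          · rw [inf_comm]
            exact h1
          · exact absurd h1.symm hne
        · rw [Set.mem_singleton_iff] at hD2 hD'2
          exact absurd (hD2.trans hD'2.symm) hne
  refine ⟨hmem, hpart, ⟨⟨hAS, ne_commutator hS h, ?_⟩, ?_⟩, fun a ha ha1 => ?_⟩
  · rw [Subgroup.commutator_eq_bot_iff_le_centralizer]
    intro c hc
    rw [Subgroup.mem_centralizer_iff]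
    intro x hx
    exact (commute_commutator hS h hx hc).symm
  · rw [sup_comm]
    exact hpart
  · have hbij : Function.Bijective ((commHom hS h ha).codRestrict ⁅A, B⁆ (commHom_mem hS h ha)) := by
      constructor
      · intro x y hxy
        exact commHom_injective hS hA hAS h ha ha1 (congrArg Subtype.val hxy)
      · rintro ⟨c, hc⟩
        have hc' : c ∈ (commHom hS h ha).range := by rw [commHom_range hS h ha ha1]; exact hc
        obtain ⟨b, hb⟩ := hc'
        exact ⟨b, Subtype.ext hb⟩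
    exact ⟨MulEquiv.ofBijective _ hbij, fun b => rfl⟩

end Main

end Cfsg.Agent.S5029
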