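import Cfsg.Statements.S5031
import Cfsg.Agent.Lib.Helper26.RankOneNilp

set_option autoImplicit false
open Cfsg

namespace Cfsg.Agent.S5031

open Cfsg.Agent.Lib.Helper26

theorem exists_partner_of_component {G : Type*} [Group G] {S : Set (Subgroup G)} {A : Subgroup G}
    (h : ∃ A' ∈ Cfsg.componentOf (Cfsg.FAdj S) S A, A' ≠ A) : ∃ C, Cfsg.FAdj S A C := by
  obtain ⟨A', ⟨-, hpath⟩, hne⟩ := h
  rcases Relation.ReflTransGen.cases_head hpath with h1 | ⟨C, hAC, -⟩
  · exact absurd h1.symm hne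
  · exact ⟨C, hAC⟩

theorem component_eq_of_rtg {G : Type*} [Group G] {S : Set (Subgroup G)} {A B : Subgroup G}
    (h : Relation.ReflTransGen (Cfsg.FAdj S) A B) :
    Cfsg.componentOf (Cfsg.FAdj S) S A = Cfsg.componentOf (Cfsg.FAdj S) S B := by
  ext X
  constructor
  · rintro ⟨hX, hAX⟩
    exact ⟨hX, (rtg_symm (fun _ _ => fAdj_symm) h).trans hAX⟩
  · rintro ⟨hX, hBX⟩
    exact ⟨hX, h.trans hBX⟩

/-- Let S be a set of abstract root subgroups of G and let A, B ∈ S lie in different connected components of the graph of rank one pairs on S, each component having more than one member. Then B is not a line partner of A. -/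
theorem result {G : Type*} [Group G] {S : Set (Subgroup G)} (hS : Cfsg.IsRootSubgroupSet S)
    {A B : Subgroup G} (hA : A ∈ S) (hB : B ∈ S)
    (hne : Cfsg.componentOf (Cfsg.FAdj S) S A ≠ Cfsg.componentOf (Cfsg.FAdj S) S B)
    (hA2 : ∃ A' ∈ Cfsg.componentOf (Cfsg.FAdj S) S A, A' ≠ A) (hB2 : ∃ B' ∈ Cfsg.componentOf (Cfsg.FAdj S) S B, B' ≠ B) :
    B ∉ Cfsg.linePartners S A := by
  rintro ⟨⟨-, hBA, hcomm⟩, hpart⟩
  obtain ⟨C, -, hCS, hAC⟩ := exists_partner_of_component hA2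
  obtain ⟨D, -, hDS, hBD⟩ := exists_partner_of_component hB2
  have stepAC : Cfsg.FAdj S A C := ⟨hA, hCS, hAC⟩
  have stepBD : Cfsg.FAdj S B D := ⟨hB, hDS, hBD⟩
  have hBC : ¬ Cfsg.IsRankOnePair B C := by
    intro h
    apply hne
    apply component_eq_of_rtg
    exact Relation.ReflTransGen.head stepAC
      (Relation.ReflTransGen.single (fAdj_symm ⟨hB, hCS, h⟩))
  have hAD : ¬ Cfsg.IsRankOnePair A D := by
    intro h
    apply hne
    apply component_eq_of_rtg
    exact Relation.ReflTransGen.head ⟨hA, hDS, h⟩ (Relation.ReflTransGen.single (fAdj_symm stepBD))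
  have cAB : CommWith A B := commWith_of_commutator_eq_bot hcomm
  have cAA : CommOn A := commOn_of_mem hS hA
  have cBB : CommOn B := commOn_of_mem hS hB
  have hAm : A ∈ Cfsg.membersIn S (A ⊔ B) := ⟨hA, le_sup_left⟩
  have hBm : B ∈ Cfsg.membersIn S (A ⊔ B) := ⟨hB, le_sup_right⟩
  have hinf : A ⊓ B = ⊥ := hpart.2.2 A hAm B hBm (Ne.symm hBA)
  obtain ⟨a, ha, ha1⟩ := Cfsg.Agent.S5024.exists_ne_one (hS.ne_bot A hA)
  obtain ⟨b, hb, hb1⟩ := Cfsg.Agent.S5024.exists_ne_one (hS.ne_bot B hB)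
  have he : a * b ∈ A ⊔ B := Subgroup.mul_mem _ (Subgroup.mem_sup_left ha) (Subgroup.mem_sup_right hb)
  have he1 : a * b ≠ 1 := by
    intro h
    have h1 : a = b⁻¹ := eq_inv_of_mul_eq_one_left h
    have h2 : a ∈ A ⊓ B := ⟨ha, by rw [h1]; exact B.inv_mem hb⟩
    rw [hinf, Subgroup.mem_bot] at h2
    exact ha1 h2
  obtain ⟨E, ⟨hES, hEle⟩, heE⟩ := hpart.2.1 (a * b) he he1
  have cEB : CommWith E B := (CommWith.sup_left cAB cBB).mono hEle le_rfl
  have cEA : CommWith E A := (CommWith.sup_left cAA cAB.symm).mono hEle le_rfl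
  have hEC := rankOne_of_line hS hB hCS hES hAC hBC cEB ha ha1 hb heE
  have heE' : b * a ∈ E := by rw [← cAB a ha b hb]; exact heE
  have hED := rankOne_of_line hS hA hDS hES hBD hAD cEA hb hb1 ha heE'
  apply hne
  apply component_eq_of_rtg
  exact Relation.ReflTransGen.head stepAC
    (Relation.ReflTransGen.head (fAdj_symm ⟨hES, hCS, hEC⟩)
      (Relation.ReflTransGen.head ⟨hES, hDS, hED⟩
        (Relation.ReflTransGen.single (fAdj_symm stepBD))))

end Cfsg.Agent.S5031
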