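import Cfsg.Statements.S5032
import Cfsg.Agent.S5031

set_option autoImplicit false
open Cfsg

namespace Cfsg.Agent.S5032

open Cfsg.Agent.Lib.Helper26 Cfsg.Agent.S5013 Cfsg.Agent.S5014 Cfsg.Agent.S5029 Cfsg.Agent.S5031

variable {G : Type*} [Group G] {S : Set (Subgroup G)}

theorem fAdj_conj (hS : Cfsg.IsRootSubgroupSet S) {A B : Subgroup G} (h : Cfsg.FAdj S A B) (g : G) :
    Cfsg.FAdj S (Cfsg.conjBy A g) (Cfsg.conjBy B g) :=
  ⟨hS.conj_mem A h.1 g, hS.conj_mem B h.2.1 g, rankOnePair_conj h.2.2 g⟩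

theorem rtg_conj (hS : Cfsg.IsRootSubgroupSet S) {A B : Subgroup G}
    (h : Relation.ReflTransGen (Cfsg.FAdj S) A B) (g : G) :
    Relation.ReflTransGen (Cfsg.FAdj S) (Cfsg.conjBy A g) (Cfsg.conjBy B g) := by
  induction h with
  | refl => exact Relation.ReflTransGen.refl
  | tail _ hbc ih => exact Relation.ReflTransGen.tail ih (fAdj_conj hS hbc g)

theorem exists_conj_of_rtg {A B : Subgroup G}
    (h : Relation.ReflTransGen (Cfsg.FAdj S) A B) : ∃ g : G, B = Cfsg.conjBy A g := by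
  induction h with
  | refl => exact ⟨1, (conjBy_one A).symm⟩
  | tail _ hbc ih =>
    obtain ⟨g, rfl⟩ := ih
    obtain ⟨x, -, hx⟩ := B_mem_unipotent hbc.2.2
    exact ⟨x * g, by rw [hx, conjBy_conjBy]⟩

theorem not_isolated_of_fAdj {A C : Subgroup G} (h : Cfsg.FAdj S A C) :
    ¬ Cfsg.IsIsolatedIn (Cfsg.FAdj S) S A :=
  fun hi => (hi.2 C).1 h

theorem component_nontrivial {A : Subgroup G} (hA : ¬ Cfsg.IsIsolatedIn (Cfsg.FAdj S) S A)
    (hAS : A ∈ S) : ∃ A' ∈ Cfsg.componentOf (Cfsg.FAdj S) S A, A' ≠ A := by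
  obtain ⟨C, hCS, hAC⟩ := Cfsg.Agent.S5028.exists_partner hA hAS
  exact ⟨C, ⟨hCS, Relation.ReflTransGen.single ⟨hAS, hCS, hAC⟩⟩, hAC.ne.symm⟩

theorem component_eq_iff {A B : Subgroup G} (hB : B ∈ S) :
    Cfsg.componentOf (Cfsg.FAdj S) S A = Cfsg.componentOf (Cfsg.FAdj S) S B ↔
      Relation.ReflTransGen (Cfsg.FAdj S) A B := by
  constructor
  · intro h
    have : B ∈ Cfsg.componentOf (Cfsg.FAdj S) S B := ⟨hB, Relation.ReflTransGen.refl⟩
    rw [← h] at this
    exact this.2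
  · exact component_eq_of_rtg

/-- Members of different components commute. -/
theorem commWith_of_not_rtg (hS : Cfsg.IsRootSubgroupSet S)
    (hiso : ∀ A ∈ S, ¬ Cfsg.IsIsolatedIn (Cfsg.FAdj S) S A) {E E' : Subgroup G} (hE : E ∈ S)
    (hE' : E' ∈ S) (hn : ¬ Relation.ReflTransGen (Cfsg.FAdj S) E E') : CommWith E E' := by
  rcases hS.pair E hE E' hE' with h | h | h
  · exact commWith_of_commutator_eq_bot h
  · exact absurd (Relation.ReflTransGen.single ⟨hE, hE', h⟩) hn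
  · exfalso
    have hF : ⁅E, E'⁆ ∈ S := h.1
    have hF' : ⁅E', E⁆ ∈ S := by rw [Subgroup.commutator_comm]; exact hF
    have h1 : E ∈ Cfsg.linePartners S ⁅E, E'⁆ :=
      (Cfsg.Agent.S5029.result hS (hiso E hE) hE hE' hF).2.2.1
    have h2 : E' ∈ Cfsg.linePartners S ⁅E', E⁆ :=
      (Cfsg.Agent.S5029.result hS (hiso E' hE') hE' hE hF').2.2.1
    rw [Subgroup.commutator_comm] at h2
    have c1 : Relation.ReflTransGen (Cfsg.FAdj S) ⁅E, E'⁆ E := by
      by_contra hc
      have hne : Cfsg.componentOf (Cfsg.FAdj S) S ⁅E, E'⁆ ≠ Cfsg.componentOf (Cfsg.FAdj S) S E :=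
        fun he => hc ((component_eq_iff hE).mp he)
      exact Cfsg.Agent.S5031.result hS hF hE hne (component_nontrivial (hiso _ hF) hF)
        (component_nontrivial (hiso _ hE) hE) h1
    have c2 : Relation.ReflTransGen (Cfsg.FAdj S) ⁅E, E'⁆ E' := by
      by_contra hc
      have hne : Cfsg.componentOf (Cfsg.FAdj S) S ⁅E, E'⁆ ≠ Cfsg.componentOf (Cfsg.FAdj S) S E' :=
        fun he => hc ((component_eq_iff hE').mp he)
      exact Cfsg.Agent.S5031.result hS hF hE' hne (component_nontrivial (hiso _ hF) hF)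
        (component_nontrivial (hiso _ hE') hE') h2
    exact hn ((rtg_symm (fun _ _ => fAdj_symm) c1).trans c2)

/-- The stabilizer of the component of `A₀`. -/
def compStab (S : Set (Subgroup G)) (A₀ : Subgroup G) : Subgroup G where
  carrier := {g | ∀ E : Subgroup G, E ∈ Cfsg.componentOf (Cfsg.FAdj S) S A₀ ↔
    Cfsg.conjBy E g ∈ Cfsg.componentOf (Cfsg.FAdj S) S A₀}
  one_mem' := by
    intro E
    rw [conjBy_one]
  mul_mem' := by
    intro g h hg hh E
    rw [← conjBy_conjBy, ← hg, ← hh]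
  inv_mem' := by
    intro g hg E
    have := hg (Cfsg.conjBy E g⁻¹)
    rw [conjBy_conjBy_inv] at this
    exact this.symm

theorem mem_compStab_iff {A₀ : Subgroup G} {g : G} :
    g ∈ compStab S A₀ ↔ ∀ E : Subgroup G, E ∈ Cfsg.componentOf (Cfsg.FAdj S) S A₀ ↔
      Cfsg.conjBy E g ∈ Cfsg.componentOf (Cfsg.FAdj S) S A₀ := Iff.rfl

theorem conj_mem_component (hS : Cfsg.IsRootSubgroupSet S)
    (hiso : ∀ A ∈ S, ¬ Cfsg.IsIsolatedIn (Cfsg.FAdj S) S A) {A₀ A : Subgroup G} (hA : A ∈ S)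
    {g : G} (hg : g ∈ A) {E : Subgroup G} (hE : E ∈ Cfsg.componentOf (Cfsg.FAdj S) S A₀) :
    Cfsg.conjBy E g ∈ Cfsg.componentOf (Cfsg.FAdj S) S A₀ := by
  obtain ⟨hES, hpath⟩ := hE
  by_cases hEA : Relation.ReflTransGen (Cfsg.FAdj S) E A
  · refine ⟨hS.conj_mem E hES g, ?_⟩
    have h1 := rtg_conj hS hEA g
    have h2 : Cfsg.conjBy A g = A := conjBy_eq_of_mem_normalizer (Subgroup.le_normalizer hg)
    rw [h2] at h1
    exact (hpath.trans hEA).trans (rtg_symm (fun _ _ => fAdj_symm) h1)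
  · have hc := commWith_of_not_rtg hS hiso hES hA hEA
    have h2 : Cfsg.conjBy E g = E := by
      apply conjBy_eq_of_mem_normalizer
      apply Subgroup.centralizer_le_normalizer
      exact commWith_iff_le_centralizer.mp hc.symm hg
    rw [h2]
    exact ⟨hES, hpath⟩

theorem compStab_eq_top (hS : Cfsg.IsRootSubgroupSet S)
    (hiso : ∀ A ∈ S, ¬ Cfsg.IsIsolatedIn (Cfsg.FAdj S) S A) (A₀ : Subgroup G) :
    compStab S A₀ = ⊤ := by
  rw [eq_top_iff, ← hS.generates]
  apply iSup₂_le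
  intro A hA g hg
  rw [mem_compStab_iff]
  intro E
  constructor
  · exact fun hE => conj_mem_component hS hiso hA hg hE
  · intro hE
    have := conj_mem_component hS hiso hA (A.inv_mem hg) hE
    rw [conjBy_inv_conjBy] at this
    exact this

/-- Let S be a set of abstract root subgroups of G with more than one member. Then the graph of rank one pairs on S is connected if and only if S is a single conjugacy class of G and some member of S has a rank one partner in S. -/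
theorem result {G : Type*} [Group G] {S : Set (Subgroup G)} (hS : Cfsg.IsRootSubgroupSet S) (h2 : ∃ A ∈ S, ∃ B ∈ S, A ≠ B) :
    Cfsg.IsConnectedFamily (Cfsg.FAdj S) S ↔
      (Cfsg.IsConjClassOfSubgroups S ∧ ∃ A ∈ S, ¬ Cfsg.IsIsolatedIn (Cfsg.FAdj S) S A) := by
  constructor
  · intro hc
    obtain ⟨A, hA, B, hB, hAB⟩ := h2
    refine ⟨⟨⟨A, hA⟩, fun A' hA' B' hB' => exists_conj_of_rtg (hc A' hA' B' hB')⟩, A, hA, ?_⟩
    rcases Relation.ReflTransGen.cases_head (hc A hA B hB) with h1 | ⟨C, hAC, -⟩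
    · exact absurd h1 hAB
    · exact not_isolated_of_fAdj hAC
  · rintro ⟨⟨-, hconj⟩, A₀, hA₀, hA₀iso⟩
    have hiso : ∀ A ∈ S, ¬ Cfsg.IsIsolatedIn (Cfsg.FAdj S) S A := by
      intro A hA
      obtain ⟨g, rfl⟩ := hconj A₀ hA₀ A hA
      exact not_isolated_conj hS hA₀iso hA₀ g
    intro A hA B hB
    obtain ⟨g, rfl⟩ := hconj A hA B hB
    have hg : g ∈ compStab S A := by rw [compStab_eq_top hS hiso A]; exact Subgroup.mem_top g
    have h1 := (mem_compStab_iff.mp hg A).mp ⟨hA, Relation.ReflTransGen.refl⟩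
    exact h1.2

end Cfsg.Agent.S5032
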