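import Cfsg.Statements.S4502
import Cfsg.Agent.Lib.helper7.BD.Formula
import Cfsg.Agent.Lib.Helper20.BD5CARDN
import Cfsg.Agent.Lib.Helper20.BD5TRANSPORT
import Cfsg.Agent.Lib.Helper1.BD5NSIDE
import Cfsg.Agent.Lib.helper2.PModular2

set_option autoImplicit false
open Cfsg

namespace Cfsg.Agent.S4502

/-- Let G be a finite group whose order is divisible by the prime p exactly once, and let P be a Sylow p-subgroup. Then the number of irreducible characters of G of degree not divisible by p equals the number of conjugacy classes of the normalizer of P. -/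
theorem result {G : Type*} [Group G] [Finite G] (p : ℕ) [Fact p.Prime] (hdiv : p ∣ Nat.card G) (hsq : ¬ p ^ 2 ∣ Nat.card G) (P : Sylow p G) : Nat.card {χ : Cfsg.IrrCharacter G // ¬ p ∣ Cfsg.charDegree (χ : G → ℂ)} = Nat.card (ConjClasses (Subgroup.normalizer ((P : Subgroup G) : Set G))) := by
  classical
  haveI : Fintype G := Fintype.ofFinite G
  have hp := (Fact.out : p.Prime)
  obtain ⟨M, hM⟩ := Cfsg.Agent.Lib.helper2.exists_isPModular p hp
  have hP : Nat.card P = p := by
    have h1 : Nat.card (P : Subgroup G) = p ^ (Nat.card G).factorization p := P.card_eq_multiplicity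
    have h2 : (Nat.card G).factorization p = 1 := by
      have hpos : 0 < Nat.card G := Nat.card_pos
      apply le_antisymm
      · by_contra hcon
        push_neg at hcon
        exact hsq ((hp.pow_dvd_iff_le_factorization hpos.ne').mpr hcon)
      · exact (hp.dvd_iff_one_le_factorization hpos.ne').mp hdiv
    rw [h1, h2, pow_one]
  haveI : Fintype ↥(Subgroup.normalizer ((P : Subgroup G) : Set G)) := Fintype.ofFinite _
  have hPN : Nat.card (Cfsg.Agent.Lib.helper7.BD.sylowN P) = p := by
    rw [Cfsg.Agent.Lib.helper7.BD.card_sylowN, hP]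
  have h1 := Cfsg.Agent.Lib.helper7.BD.root_formula hM P hP
  have h2 := Cfsg.Agent.Lib.helper7.BD.root_formula hM (Cfsg.Agent.Lib.helper7.BD.sylowN P) hPN
  obtain ⟨h3, h4⟩ := Cfsg.Agent.Lib.helper7.BD.formula_transport P hP
  rw [h3, h4, ← h1, Cfsg.Agent.Lib.helper7.BD.card_pprime_normalizer P hP] at h2
  exact (Nat.eq_of_mul_eq_mul_left
    (Cfsg.Agent.Lib.helper7.BD.relIndex_centralizer_normalizer_pos P) h2).symm

end Cfsg.Agent.S4502
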