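import Mathlib
import Cfsg.Statements.S2904
import Cfsg.Agent.Lib.helper17.Zsig4

set_option autoImplicit false
open Cfsg

namespace Cfsg.Agent.S2904

open Cfsg.Agent.Lib.helper17 Polynomial

theorem result (a n : ℕ) (ha : 1 < a) (hn : 1 < n) (h6 : ¬ (a = 2 ∧ n = 6)) (h2 : ¬ (n = 2 ∧ ∃ m : ℕ, a + 1 = 2 ^ m)) : ∃ r : ℕ, r.Prime ∧ r ∣ a ^ n - 1 ∧ ∀ k : ℕ, 0 < k → k < n → ¬ r ∣ a ^ k - 1 := by
  by_contra hno
  have hn0 : n ≠ 0 := by omega
  have hNlt : (a - 1) ^ n.totient < (cycVal n a).natAbs :=
    sub_one_pow_totient_lt_natAbs_cyclotomic_eval hn (by omega)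
  have hN2 : 2 ≤ (cycVal n a).natAbs := by
    have : 1 ≤ (a - 1) ^ n.totient := Nat.one_le_pow _ _ (by omega)
    omega
  have hcast : ∀ s : ℕ, s ∣ (cycVal n a).natAbs → (s : ℤ) ∣ cycVal n a := by
    intro s hs
    rw [cycVal_eq_natAbs n ha]
    exact_mod_cast hs
  -- Step A
  have hA : ∀ r : ℕ, r.Prime → r ∣ (cycVal n a).natAbs → r ∣ n := by
    intro r hr hrN
    by_contra hrn
    have := Fact.mk hr
    exact hno ⟨r, hr, primitive_of_dvd_cycVal_of_not_dvd (by omega) (hcast r hrN) hrn⟩
  obtain ⟨r, hr, hrN⟩ := Nat.exists_prime_and_dvd (n := (cycVal n a).natAbs) (by omega)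
  have := Fact.mk hr
  have hrn := hA r hr hrN
  have huniq : ∀ {s : ℕ}, s.Prime → s ∣ (cycVal n a).natAbs → s = r := by
    intro s hs hsN
    by_contra hsr
    have := Fact.mk hs
    have h1 := lt_of_dvd_cycVal (r := r) hs hn0 (hcast r hrN) hrn (hA s hs hsN) hsr
    have h2 := lt_of_dvd_cycVal (r := s) hr hn0 (hcast s hsN) (hA s hs hsN) hrn (Ne.symm hsr)
    omega
  have hNpow := Nat.eq_prime_pow_of_unique_prime_dvd (n := (cycVal n a).natAbs) (by omega) huniq
  obtain ⟨k, m, hk, hnkm, hm, hmr, hm0, ham⟩ := structure_of_dvd_cycVal hn0 (hcast r hrN) hrn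
  rcases hr.eq_two_or_odd' with h2r | hodd
  · -- `r = 2`
    subst h2r
    have hm1 : m = 1 := by simpa using hmr
    subst hm1
    rw [mul_one] at hnkm
    obtain ⟨j, rfl⟩ : ∃ j, k = j + 1 := ⟨k - 1, by omega⟩
    rcases Nat.eq_zero_or_pos j with rfl | hj
    · -- `n = 2`
      apply h2
      refine ⟨by simpa using hnkm, (cycVal n a).natAbs.primeFactorsList.length, ?_⟩
      rw [← hNpow, hnkm]
      simp only [zero_add, pow_one]
      rw [cycVal_two]
      have : ((a : ℤ) + 1).natAbs = a + 1 := by
        have : ((a : ℤ) + 1) = ((a + 1 : ℕ) : ℤ) := by push_cast; ring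
        rw [this, Int.natAbs_natCast]
      rw [this]
    · -- `n = 2 ^ (j + 1)`, `j ≥ 1`
      obtain ⟨i, rfl⟩ : ∃ i, j = i + 1 := ⟨j - 1, by omega⟩
      have hval : (cycVal n a).natAbs = (a ^ (2 ^ i)) ^ 2 + 1 := by
        rw [hnkm, cycVal_two_pow]
        have : (1 : ℤ) + (a : ℤ) ^ (2 ^ (i + 1)) = (((a ^ (2 ^ i)) ^ 2 + 1 : ℕ) : ℤ) := by
          push_cast
          rw [← pow_mul, ← pow_succ]
          ring
        rw [this, Int.natAbs_natCast]
      have hb : 2 ≤ a ^ (2 ^ i) := by
        calc 2 ≤ a := ha
          _ = a ^ 1 := (pow_one a).symm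
          _ ≤ a ^ (2 ^ i) := Nat.pow_le_pow_right (by omega) (Nat.one_le_two_pow)
      have h5 : 5 ≤ (cycVal n a).natAbs := by
        rw [hval]
        nlinarith
      have h4 : 4 ∣ (cycVal n a).natAbs := by
        rw [hNpow]
        have : 2 ≤ (cycVal n a).natAbs.primeFactorsList.length := by
          by_contra hlt
          push Not at hlt
          have : 2 ^ (cycVal n a).natAbs.primeFactorsList.length ≤ 2 ^ 1 :=
            Nat.pow_le_pow_right (by norm_num) (by omega)
          rw [← hNpow] at this
          omega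
        exact (show (4 : ℕ) = 2 ^ 2 by norm_num) ▸ pow_dvd_pow 2 this
      rw [hval] at h4
      have key : ∀ x : ZMod 4, x ^ 2 + 1 ≠ 0 := by decide
      apply key ((a ^ (2 ^ i) : ℕ) : ZMod 4)
      have := (ZMod.natCast_eq_zero_iff _ 4).mpr h4
      push_cast at this ⊢
      exact this
  · -- `r` odd: `N = r`
    have hN : (cycVal n a).natAbs = r := by
      have hsq := not_sq_dvd_cycVal hodd ha hn0 (hcast r hrN) hrn
      have hle : (cycVal n a).natAbs.primeFactorsList.length ≤ 1 := by
        by_contra hlt
        push Not at hlt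
        apply hsq
        rw [hNpow]
        exact pow_dvd_pow r hlt
      have hge : 1 ≤ (cycVal n a).natAbs.primeFactorsList.length := by
        by_contra hlt
        push Not at hlt
        have : (cycVal n a).natAbs.primeFactorsList.length = 0 := by omega
        rw [this, pow_zero] at hNpow
        omega
      have : (cycVal n a).natAbs.primeFactorsList.length = 1 := by omega
      rw [this, pow_one] at hNpow
      exact hNpow
    have hr3 : 3 ≤ r := by
      have := hr.two_le
      rcases hodd with ⟨c, hc⟩
      omega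
    rcases Nat.lt_or_ge 2 a with ha3 | ha2
    · -- `a ≥ 3`
      have h1 : r - 1 ≤ n.totient := by
        have := Nat.totient_dvd_of_dvd hrn
        rw [Nat.totient_prime hr] at this
        exact Nat.le_of_dvd (Nat.totient_pos.mpr (by omega)) this
      have h2' : 2 ^ (r - 1) ≤ (a - 1) ^ n.totient :=
        calc 2 ^ (r - 1) ≤ 2 ^ n.totient := Nat.pow_le_pow_right (by norm_num) h1
          _ ≤ (a - 1) ^ n.totient := Nat.pow_le_pow_left (by omega) _
      have h3 : r - 1 < 2 ^ (r - 1) := Nat.lt_two_pow_self
      omega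
    · -- `a = 2`
      have ha2' : a = 2 := by omega
      subst ha2'
      rcases Nat.lt_or_ge 1 k with hk2 | hk1
      · -- `r² ∣ n`
        have hdiv : r ∣ n / r := by
          rw [hnkm]
          obtain ⟨j, rfl⟩ : ∃ j, k = j + 2 := ⟨k - 2, by omega⟩
          refine ⟨r ^ j * m, ?_⟩
          have e0 : r ^ (j + 2) * m = (r * (r ^ j * m)) * r := by ring
          rw [e0, Nat.mul_div_cancel _ hr.pos]
        have e := cycVal_mul_prime_of_dvd hr hdiv 2
        rw [Nat.div_mul_cancel hrn] at e
        have hlt : 1 < n / r := by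
          have := Nat.le_of_dvd (Nat.div_pos (Nat.le_of_dvd (by omega) hrn) hr.pos) hdiv
          omega
        have hb := sub_one_lt_natAbs_cyclotomic_eval (n := n / r) (q := 2 ^ r) hlt
          (by have := succ_lt_two_pow (r := r) (by omega); omega)
        have e' : (cycVal n 2).natAbs = (eval ((2 ^ r : ℕ) : ℤ) (cyclotomic (n / r) ℤ)).natAbs := by
          rw [e]; rfl
        rw [← e', hN] at hb
        have := succ_lt_two_pow (r := r) (by omega)
        omega
      · -- `n = r * m`
        have hk1' : k = 1 := by omega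
        subst hk1'
        rw [pow_one, mul_comm] at hnkm
        have e := cycVal_mul_prime_of_not_dvd hr hm 2
        rw [← hnkm, cycVal_eq_natAbs n (by norm_num : 1 < 2), hN] at e
        rcases Nat.lt_or_ge 1 m with hm2 | hm1
        · -- `m ≥ 2`
          rcases Nat.lt_or_ge r 5 with hr5 | hr5
          · -- `r = 3`
            have hr3' : r = 3 := by
              rcases hodd with ⟨c, hc⟩
              omega
            subst hr3'
            have : m ≤ 2 := Nat.le_of_dvd (by norm_num) hmr
            have hm2' : m = 2 := by omega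
            subst hm2'
            exact h6 ⟨rfl, hnkm⟩
          · -- `r ≥ 5`
            have hlow := sub_one_pow_totient_lt_natAbs_cyclotomic_eval (n := m) (q := 2 ^ r) hm2
              (by have := succ_lt_two_pow (r := r) (by omega); omega)
            have e' : (eval ((2 ^ r : ℕ) : ℤ) (cyclotomic m ℤ)) = cycVal m (2 ^ r) := rfl
            rw [e', e] at hlow
            have hup := cycVal_two_le m
            have hpos := cycVal_pos m (a := 2) (by norm_num)
            have htp : 0 < m.totient := Nat.totient_pos.mpr hm0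
            have h3r : 3 * r ≤ 2 ^ r - 1 := by
              have := three_mul_succ_le_two_pow hr5
              omega
            have h4 : (3 * r) ^ m.totient ≤ (2 ^ r - 1) ^ m.totient := Nat.pow_le_pow_left h3r _
            have h5 : 3 ^ m.totient * r ≤ (3 * r) ^ m.totient := by
              rw [mul_pow]
              exact Nat.mul_le_mul_left _ (Nat.le_self_pow htp.ne' r)
            have h6' : ((r : ℤ) * cycVal m 2).natAbs ≤ 3 ^ m.totient * r := by
              rw [Int.natAbs_mul, Int.natAbs_natCast, mul_comm]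
              apply Nat.mul_le_mul_right
              have : cycVal m 2 = ((cycVal m 2).natAbs : ℤ) := cycVal_eq_natAbs m (by norm_num)
              rw [this] at hup
              exact_mod_cast hup
            omega
        · -- `m = 1`
          have hm1' : m = 1 := by omega
          subst hm1'
          rw [cycVal_one, cycVal_one] at e
          have := succ_lt_two_pow (r := r) (by omega)
          have e2 : ((2 ^ r : ℕ) : ℤ) = (r : ℤ) + 1 := by
            push_cast at e ⊢
            linarith
          have e3 : 2 ^ r = r + 1 := by exact_mod_cast e2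
          omega

end Cfsg.Agent.S2904
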