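import Cfsg.Statements.S2379

import Cfsg.Agent.Lib.helper15.SylowVal
import Cfsg.Agent.Lib.helper15.SylowEmb
set_option autoImplicit false
open Cfsg

namespace Cfsg.Agent.S2379


open scoped MatrixGroups
open Cfsg.Agent.Lib.helper15.SylowVal Cfsg.Agent.Lib.helper15.SylowEmb
  Cfsg.Agent.Lib.helper15.BlockTri

section card

variable {F : Type*} [Field F] [Fintype F] {n : ℕ}

theorem ker_det_eq_range :
    (Matrix.GeneralLinearGroup.det : GL (Fin n) F →* Fˣ).ker =
      (Matrix.SpecialLinearGroup.toGL : Matrix.SpecialLinearGroup (Fin n) F →* GL (Fin n) F).range := by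
  ext x
  rw [MonoidHom.mem_ker, MonoidHom.mem_range]
  constructor
  · intro hx
    have hdet : (x : Matrix (Fin n) (Fin n) F).det = 1 := by
      have : ((Matrix.GeneralLinearGroup.det x : Fˣ) : F) = 1 := by rw [hx, Units.val_one]
      exact this
    refine ⟨⟨_, hdet⟩, ?_⟩
    apply Units.ext
    rfl
  · rintro ⟨s, rfl⟩
    apply Units.ext
    show ((Matrix.SpecialLinearGroup.toGL s : GL (Fin n) F) : Matrix (Fin n) (Fin n) F).det = 1
    rw [Matrix.SpecialLinearGroup.coe_GL_coe_matrix]
    exact s.2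

theorem card_SL_mul (hn : 1 ≤ n) :
    Nat.card (Matrix.SpecialLinearGroup (Fin n) F) * (Fintype.card F - 1) =
      Nat.card (GL (Fin n) F) := by
  have : Nonempty (Fin n) := ⟨⟨0, by omega⟩⟩
  have h1 := Subgroup.card_mul_index (Matrix.GeneralLinearGroup.det : GL (Fin n) F →* Fˣ).ker
  rw [Subgroup.index_ker, MonoidHom.range_eq_top.mpr Matrix.GeneralLinearGroup.det_surjective,
    Nat.card_congr Subgroup.topEquiv.toEquiv, Nat.card_units, Nat.card_eq_fintype_card (α := F),
    ker_det_eq_range,
    ← Nat.card_congr (MonoidHom.ofInjective Matrix.SpecialLinearGroup.toGL_injective).toEquiv] at h1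
  exact h1

end card

section diag

variable {F : Type*} [Field F] {k : ℕ}

def vv (u : Fin k → Fˣ) : Fin (k + 1) → Fˣ := Fin.snoc u (∏ i, u i)⁻¹

lemma vv_castSucc (u : Fin k → Fˣ) (i : Fin k) : vv u i.castSucc = u i := by
  simp [vv]

lemma vv_last (u : Fin k → Fˣ) : vv u (Fin.last k) = (∏ i, u i)⁻¹ := by
  simp [vv]

lemma vv_mul (u u' : Fin k → Fˣ) : vv (u * u') = vv u * vv u' := by
  funext i
  refine Fin.lastCases ?_ (fun j => ?_) i
  · simp only [Pi.mul_apply, vv_last, Finset.prod_mul_distrib, mul_inv]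
  · simp only [Pi.mul_apply, vv_castSucc]

lemma vv_one : vv (1 : Fin k → Fˣ) = 1 := by
  funext i
  refine Fin.lastCases ?_ (fun j => ?_) i
  · simp [vv_last]
  · simp [vv_castSucc]

lemma prod_vv (u : Fin k → Fˣ) : ∏ i, vv u i = 1 := by
  rw [Fin.prod_univ_castSucc]
  simp only [vv_castSucc, vv_last, mul_inv_cancel]

def diagSL : (Fin k → Fˣ) →* Matrix.SpecialLinearGroup (Fin (k + 1)) F where
  toFun u := ⟨Matrix.diagonal (fun i => ((vv u i : Fˣ) : F)), by
    rw [Matrix.det_diagonal, ← Units.coe_prod, prod_vv, Units.val_one]⟩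
  map_one' := by
    apply Subtype.ext
    simp [vv_one]
  map_mul' u u' := by
    apply Subtype.ext
    show Matrix.diagonal (fun i => ((vv (u * u') i : Fˣ) : F)) =
      Matrix.diagonal (fun i => ((vv u i : Fˣ) : F)) * Matrix.diagonal (fun i => ((vv u' i : Fˣ) : F))
    rw [Matrix.diagonal_mul_diagonal, vv_mul]
    rfl

lemma diagSL_injective : Function.Injective (diagSL (F := F) (k := k)) := by
  intro u u' h
  funext i
  have h1 := congrArg (fun A : Matrix.SpecialLinearGroup (Fin (k + 1)) F =>
    (A : Matrix (Fin (k + 1)) (Fin (k + 1)) F) i.castSucc i.castSucc) h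
  change Matrix.diagonal (fun i => ((vv u i : Fˣ) : F)) i.castSucc i.castSucc =
    Matrix.diagonal (fun i => ((vv u' i : Fˣ) : F)) i.castSucc i.castSucc at h1
  rw [Matrix.diagonal_apply_eq, Matrix.diagonal_apply_eq, vv_castSucc, vv_castSucc] at h1
  exact Units.ext h1

end diag

section lift

variable {F : Type*} [Field F] {n : ℕ}

def liftSL {A : Type*} [Group A] (Θ : A →* GL (Fin n) F)
    (h : ∀ a, ((Θ a : GL (Fin n) F) : Matrix (Fin n) (Fin n) F).det = 1) :
    A →* Matrix.SpecialLinearGroup (Fin n) F where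
  toFun a := ⟨((Θ a : GL (Fin n) F) : Matrix (Fin n) (Fin n) F), h a⟩
  map_one' := by
    apply Subtype.ext
    simp
  map_mul' a b := by
    apply Subtype.ext
    show ((Θ (a * b) : GL (Fin n) F) : Matrix (Fin n) (Fin n) F) =
      ((Θ a : GL (Fin n) F) : Matrix (Fin n) (Fin n) F) * ((Θ b : GL (Fin n) F) : Matrix (Fin n) (Fin n) F)
    rw [map_mul]
    rfl

lemma liftSL_injective {A : Type*} [Group A] (Θ : A →* GL (Fin n) F)
    (h : ∀ a, ((Θ a : GL (Fin n) F) : Matrix (Fin n) (Fin n) F).det = 1)
    (hΘ : Function.Injective Θ) : Function.Injective (liftSL Θ h) := by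
  intro a b hab
  apply hΘ
  apply Units.ext
  exact congrArg Subtype.val hab

end lift

/-- Sylow subgroups of `SL_n(q)` for large primes. Let `F` be a field with `q` elements and `r` a prime with `r > n` and `r ∤ q` (so `r` does not divide the order `n!` of the Weyl group). Let `d` be the multiplicative order of `q` modulo `r`, `a` the number of integers `i` with `2 ≤ i ≤ n` divisible by `d` (the degrees of the Weyl group are `2, …, n`), and `m` the `r`-part of the value at `q` of the `d`-th cyclotomic polynomial. Then every Sylow `r`-subgroup of `SL_n(q)` is a direct product of `a` cyclic groups of order `m`. -/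
theorem result {F : Type*} [Field F] [Fintype F] {q : ℕ} (hq : Fintype.card F = q) (n : ℕ)
    (r : ℕ) [Fact r.Prime] (hrn : n < r) (hrq : ¬ r ∣ q) (P : Sylow r (Matrix.SpecialLinearGroup (Fin n) F)) :
    Nonempty (↥(P : Subgroup (Matrix.SpecialLinearGroup (Fin n) F)) ≃*
      (Fin ((Finset.Icc 2 n).filter (fun i => orderOf (q : ZMod r) ∣ i)).card →
        Multiplicative (ZMod (r ^ padicValNat r ((Polynomial.cyclotomic (orderOf (q : ZMod r)) ℤ).eval (q : ℤ)).natAbs)))) := by
  classical
  subst hq
  have hr : r.Prime := Fact.out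
  have hq1 : 1 < Fintype.card F := Fintype.one_lt_card
  have hd0 : 0 < orderOf ((Fintype.card F : ℕ) : ZMod r) := orderOf_pos' _ hrq
  rcases Nat.eq_zero_or_pos n with hn0 | hn0
  · subst hn0
    have hc : ((Finset.Icc 2 0).filter
        (fun i => orderOf ((Fintype.card F : ℕ) : ZMod r) ∣ i)).card = 0 := by
      simp
    rw [hc]
    have : Subsingleton (Matrix.SpecialLinearGroup (Fin 0) F) :=
      ⟨fun a b => Subtype.ext (Subsingleton.elim _ _)⟩
    have : Unique ↥(P : Subgroup (Matrix.SpecialLinearGroup (Fin 0) F)) :=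
      ⟨⟨1⟩, fun a => Subsingleton.elim _ _⟩
    exact ⟨MulEquiv.ofUnique⟩
  have hSG := card_SL_mul (F := F) (n := n) hn0
  have hGL : padicValNat r (Nat.card (GL (Fin n) F)) =
      (n / orderOf ((Fintype.card F : ℕ) : ZMod r)) *
      padicValNat r ((Polynomial.cyclotomic (orderOf ((Fintype.card F : ℕ) : ZMod r)) ℤ).eval
        ((Fintype.card F : ℕ) : ℤ)).natAbs := by
    rw [Matrix.card_GL_field]
    exact val_gam (r := r) (Fintype.card F) hq1 hrq n hrn
  have hSL0 : Nat.card (Matrix.SpecialLinearGroup (Fin n) F) ≠ 0 := Nat.card_pos.ne'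
  have hq0 : Fintype.card F - 1 ≠ 0 := by omega
  have hval : padicValNat r (Nat.card (Matrix.SpecialLinearGroup (Fin n) F)) +
      padicValNat r (Fintype.card F - 1) = (n / orderOf ((Fintype.card F : ℕ) : ZMod r)) *
      padicValNat r ((Polynomial.cyclotomic (orderOf ((Fintype.card F : ℕ) : ZMod r)) ℤ).eval
        ((Fintype.card F : ℕ) : ℤ)).natAbs := by
    rw [← padicValNat.mul hSL0 hq0, hSG, hGL]
  have hv1 := val_pow_sub_one_eq (r := r) (Fintype.card F) hq1 hrq 1 one_pos hr.one_lt
  rw [pow_one] at hv1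
  by_cases hd1 : orderOf ((Fintype.card F : ℕ) : ZMod r) = 1
  · rw [hd1] at hval hv1 ⊢
    rw [if_pos dvd_rfl] at hv1
    have hc : ((Finset.Icc 2 n).filter (fun i => 1 ∣ i)).card = n - 1 := by
      simp
    rw [hc]
    obtain ⟨k, rfl⟩ : ∃ k, n = k + 1 := ⟨n - 1, by omega⟩
    rw [Nat.add_sub_cancel]
    have hm : r ^ padicValNat r ((Polynomial.cyclotomic 1 ℤ).eval
        ((Fintype.card F : ℕ) : ℤ)).natAbs ∣ Nat.card Fˣ := by
      rw [Nat.card_units, Nat.card_eq_fintype_card, ← hv1]
      exact pow_padicValNat_dvd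
    obtain ⟨ψ, hψ⟩ := exists_cyc F _ hm
    refine sylow_equiv_of_injective ((diagSL (F := F) (k := k)).comp (MonoidHom.compLeft ψ _))
      ?_ ?_ P
    · intro u v huv
      have := diagSL_injective huv
      funext i
      exact hψ (congrFun this i)
    · rw [Nat.card_fun, Nat.card_eq_fintype_card (α := Fin _), Fintype.card_fin,
        Nat.card_congr Multiplicative.toAdd, Nat.card_zmod, ← pow_mul]
      congr 1
      rw [Nat.div_one, hv1] at hval
      have : (k + 1) * padicValNat r ((Polynomial.cyclotomic 1 ℤ).eval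
          ((Fintype.card F : ℕ) : ℤ)).natAbs = k * padicValNat r ((Polynomial.cyclotomic 1 ℤ).eval
          ((Fintype.card F : ℕ) : ℤ)).natAbs + padicValNat r ((Polynomial.cyclotomic 1 ℤ).eval
          ((Fintype.card F : ℕ) : ℤ)).natAbs := by ring
      rw [this] at hval
      have := Nat.add_right_cancel hval
      rw [this, mul_comm]
  · have hnd : ¬ orderOf ((Fintype.card F : ℕ) : ZMod r) ∣ 1 := by
      intro h
      exact hd1 (Nat.dvd_one.1 h)
    rw [if_neg hnd] at hv1
    rw [hv1, add_zero] at hval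
    have hc : ((Finset.Icc 2 n).filter
        (fun i => orderOf ((Fintype.card F : ℕ) : ZMod r) ∣ i)).card =
        n / orderOf ((Fintype.card F : ℕ) : ZMod r) := by
      rw [← Nat.Ioc_filter_dvd_card_eq_div]
      congr 1
      ext i
      simp only [Finset.mem_filter, Finset.mem_Icc, Finset.mem_Ioc]
      constructor
      · rintro ⟨⟨h1, h2⟩, h3⟩
        exact ⟨⟨by omega, h2⟩, h3⟩
      · rintro ⟨⟨h1, h2⟩, h3⟩
        refine ⟨⟨?_, h2⟩, h3⟩
        by_contra hlt
        have : i = 1 := by omega
        rw [this] at h3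
        exact hnd h3
    rw [hc]
    have : Fact (ringChar F).Prime := ⟨CharP.char_is_prime F _⟩
    have : NeZero (orderOf ((Fintype.card F : ℕ) : ZMod r)) := ⟨hd0.ne'⟩
    let E := FiniteField.Extension F (ringChar F) (orderOf ((Fintype.card F : ℕ) : ZMod r))
    have hE : Module.finrank F E = orderOf ((Fintype.card F : ℕ) : ZMod r) :=
      FiniteField.finrank_extension F (ringChar F) _
    have hcE : Nat.card Eˣ = Fintype.card F ^ orderOf ((Fintype.card F : ℕ) : ZMod r) - 1 := by
      rw [Nat.card_units, FiniteField.natCard_extension, Nat.card_eq_fintype_card]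
    have hm : r ^ padicValNat r ((Polynomial.cyclotomic (orderOf ((Fintype.card F : ℕ) : ZMod r)) ℤ).eval
        ((Fintype.card F : ℕ) : ℤ)).natAbs ∣ Nat.card Eˣ := by
      rw [hcE, ← val_cyc _ hq1 hrq]
      exact pow_padicValNat_dvd
    obtain ⟨ψ, hψ⟩ := exists_cyc E _ hm
    obtain ⟨φ, hφ⟩ := exists_emb (F := F) E n (n / orderOf ((Fintype.card F : ℕ) : ZMod r))
      (by rw [hE]; exact Nat.div_mul_le_self _ _)
    have hcardA : Nat.card (Fin (n / orderOf ((Fintype.card F : ℕ) : ZMod r)) →
        Multiplicative (ZMod (r ^ padicValNat r ((Polynomial.cyclotomic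
          (orderOf ((Fintype.card F : ℕ) : ZMod r)) ℤ).eval ((Fintype.card F : ℕ) : ℤ)).natAbs))) =
        r ^ padicValNat r (Nat.card (Matrix.SpecialLinearGroup (Fin n) F)) := by
      rw [Nat.card_fun, Nat.card_eq_fintype_card (α := Fin _), Fintype.card_fin,
        Nat.card_congr Multiplicative.toAdd, Nat.card_zmod, ← pow_mul, hval, mul_comm]
    have hinj : Function.Injective (φ.comp (MonoidHom.compLeft ψ
        (Fin (n / orderOf ((Fintype.card F : ℕ) : ZMod r))))) := by
      intro u v huv
      have := hφ huv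
      funext i
      exact hψ (congrFun this i)
    have hdet : ∀ a, (((φ.comp (MonoidHom.compLeft ψ
        (Fin (n / orderOf ((Fintype.card F : ℕ) : ZMod r))))) a : GL (Fin n) F) :
        Matrix (Fin n) (Fin n) F).det = 1 := by
      intro a
      set Θ := φ.comp (MonoidHom.compLeft ψ (Fin (n / orderOf ((Fintype.card F : ℕ) : ZMod r))))
        with hΘ
      have h1 : (Matrix.GeneralLinearGroup.det (Θ a)) ^
          (r ^ padicValNat r (Nat.card (Matrix.SpecialLinearGroup (Fin n) F))) = 1 := by
        rw [← map_pow, ← map_pow, ← hcardA, pow_card_eq_one', map_one, map_one]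
      have h2 : (Matrix.GeneralLinearGroup.det (Θ a)) ^ (Fintype.card F - 1) = 1 := by
        have := pow_card_eq_one' (G := Fˣ) (x := Matrix.GeneralLinearGroup.det (Θ a))
        rwa [Nat.card_units, Nat.card_eq_fintype_card] at this
      have h3 := pow_gcd_eq_one.2 ⟨h1, h2⟩
      have h4 : Nat.gcd (r ^ padicValNat r (Nat.card (Matrix.SpecialLinearGroup (Fin n) F)))
          (Fintype.card F - 1) = 1 := by
        apply Nat.Coprime.pow_left
        rw [Nat.Prime.coprime_iff_not_dvd hr]
        intro h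
        have := (dvd_iff_padicValNat_ne_zero hq0).1 h
        exact this hv1
      rw [h4, pow_one] at h3
      have h5 := congrArg Units.val h3
      simpa using h5
    exact sylow_equiv_of_injective (liftSL _ hdet) (liftSL_injective _ hdet hinj) hcardA P

end Cfsg.Agent.S2379
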