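import Cfsg.Statements.S2394

import Cfsg.Agent.Lib.Lead.SympCount
import Cfsg.Agent.S2904
set_option autoImplicit false
open scoped MatrixGroups
open Cfsg

namespace Cfsg.Agent.S2394


lemma prime_dvd_card_GL {F : Type*} [Field F] [Fintype F] {d r : ℕ} (hr : r.Prime)
    (h : r ∣ Nat.card (GL (Fin d) F)) (hq : ¬ r ∣ Fintype.card F) :
    ∃ k, 0 < k ∧ k ≤ d ∧ r ∣ Fintype.card F ^ k - 1 := by
  rw [Matrix.card_GL_field] at h
  obtain ⟨i, -, hi⟩ := (Prime.dvd_finsetProd_iff hr.prime _).1 h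
  have h1 : Fintype.card F ^ d - Fintype.card F ^ (i : ℕ) =
      Fintype.card F ^ (i : ℕ) * (Fintype.card F ^ (d - (i : ℕ)) - 1) := by
    rw [Nat.mul_sub, mul_one, ← pow_add]
    congr 2
    have := i.2
    omega
  rw [h1] at hi
  rcases (Nat.Prime.dvd_mul hr).1 hi with h2 | h2
  · exact absurd (hr.dvd_of_dvd_pow h2) hq
  · exact ⟨d - i, by have := i.2; omega, by omega, h2⟩

lemma dvd_card_Sp {F : Type*} [Field F] [Fintype F] {n : ℕ} (hn : 0 < n) :
    Fintype.card F ^ (2 * n) - 1 ∣ Nat.card (Matrix.symplecticGroup (Fin n) F) := by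
  classical
  rw [Cfsg.Agent.Lib.Lead.card_Sp_eq_prod]
  have h0 : 0 ∈ Finset.range n := Finset.mem_range.2 hn
  refine dvd_trans ?_ (Finset.dvd_prod_of_mem _ h0)
  simp

lemma card_GL_two {F : Type*} [Field F] [Fintype F] (hF : Fintype.card F = 2) (d : ℕ) (hd : d ≤ 5) :
    ¬ 1451520 ∣ Nat.card (GL (Fin d) F) := by
  rw [Matrix.card_GL_field, hF]
  interval_cases d <;> simp [Fin.prod_univ_succ]

lemma case_one {F : Type*} [Field F] [Fintype F] {d : ℕ} (hd : d ≤ 1) :
    Nat.card (GL (Fin d) F) < Nat.card (Matrix.symplecticGroup (Fin 1) F) := by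
  classical
  have hq : 1 < Fintype.card F := Fintype.one_lt_card
  rw [Cfsg.Agent.Lib.Lead.card_Sp_eq_prod, Matrix.card_GL_field]
  generalize Fintype.card F = q at hq
  simp only [Finset.range_one, Finset.prod_singleton]
  have h3 : 3 ≤ q ^ 2 - 1 := by
    have : 4 ≤ q ^ 2 := by nlinarith
    omega
  have h4 : 3 * q ≤ (q ^ (2 * (1 - 0)) - 1) * q ^ (2 * (1 - 0) - 1) := by
    norm_num
    exact Nat.mul_le_mul_right _ h3
  have hd : d = 0 ∨ d = 1 := by omega
  rcases hd with rfl | rfl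
  · simp only [Finset.univ_eq_empty, Finset.prod_empty]
    omega
  · simp only [Finset.univ_unique, Fin.default_eq_zero, Fin.val_zero, pow_zero, pow_one,
      Finset.prod_singleton]
    omega

/-- The smallest degree of a faithful representation of the symplectic group `Sp_{2n}(q)` over its own field `F_q` is `2n`: every injective homomorphism from `Sp_{2n}(F)` to `GL_d(F)`, `F` the field with `q` elements, has `d ≥ 2n`. -/
theorem result {F : Type*} [Field F] [Fintype F] (n : ℕ) {d : ℕ}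
    (ρ : ↥(Matrix.symplecticGroup (Fin n) F) →* GL (Fin d) F) (hρ : Function.Injective ρ) : 2 * n ≤ d := by
  classical
  have hq : 1 < Fintype.card F := Fintype.one_lt_card
  have hcardSp := Cfsg.Agent.Lib.Lead.card_Sp_eq_prod (F := F) (m := n)
  have hdvd : Nat.card (Matrix.symplecticGroup (Fin n) F) ∣ Nat.card (GL (Fin d) F) :=
    Subgroup.card_dvd_of_injective ρ hρ
  rcases Nat.lt_or_ge n 1 with hn0 | hn1
  · omega
  rcases Nat.lt_or_ge n 2 with hn1' | hn2
  · have hn : n = 1 := by omega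
    subst hn
    by_contra hlt
    have hle : Nat.card (Matrix.symplecticGroup (Fin 1) F) ≤ Nat.card (GL (Fin d) F) :=
      Nat.card_le_card_of_injective ρ hρ
    have := case_one (F := F) (d := d) (by omega)
    omega
  by_cases hex : Fintype.card F = 2 ∧ n = 3
  · obtain ⟨hq2, rfl⟩ := hex
    by_contra hlt
    have hd : d ≤ 5 := by omega
    refine card_GL_two (F := F) hq2 d hd ?_
    rw [hcardSp, hq2] at hdvd
    have : (∏ i ∈ Finset.range 3, ((2 ^ (2 * (3 - i)) - 1) * 2 ^ (2 * (3 - i) - 1))) = 1451520 := by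
      decide
    rw [this] at hdvd
    exact hdvd
  · obtain ⟨r, hr, hr1, hr2⟩ := Cfsg.Agent.S2904.result (Fintype.card F) (2 * n) hq (by omega)
      (by rintro ⟨h1, h2⟩; exact hex ⟨h1, by omega⟩) (by rintro ⟨h1, -⟩; omega)
    have hrq : ¬ r ∣ Fintype.card F := by
      intro h
      have h1 : r ∣ Fintype.card F ^ (2 * n) := dvd_pow h (by omega)
      have h2 : 1 ≤ Fintype.card F ^ (2 * n) := Nat.one_le_pow _ _ (by omega)
      have h3 : r ∣ 1 := by
        have := Nat.dvd_sub h1 hr1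
        rwa [Nat.sub_sub_self h2] at this
      exact hr.one_lt.ne' (Nat.dvd_one.1 h3)
    have hrSp : r ∣ Nat.card (Matrix.symplecticGroup (Fin n) F) :=
      dvd_trans hr1 (dvd_card_Sp (by omega))
    obtain ⟨k, hk0, hkd, hk⟩ := prime_dvd_card_GL (F := F) (d := d) hr (dvd_trans hrSp hdvd) hrq
    by_contra hlt
    exact hr2 k hk0 (by omega) hk

end Cfsg.Agent.S2394
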