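import Cfsg.Statements.S2468

import Cfsg.Agent.Lib.helper15.SylowVal
import Cfsg.Agent.Lib.helper15.SylowEmb
import Cfsg.Agent.S2394
import Cfsg.Agent.S2379
set_option autoImplicit false
open Cfsg

namespace Cfsg.Agent.S2468


open scoped MatrixGroups
open Cfsg.Agent.Lib.helper15.SylowVal Cfsg.Agent.Lib.helper15.SylowEmb

section quot

lemma exists_orderOf_quotient_iff {G : Type*} [Group G] [Finite G] (K : Subgroup G) [K.Normal]
    (N : ℕ) (hcop : (Nat.card K).Coprime N) :
    (∃ x : G ⧸ K, orderOf x = N) ↔ (∃ g : G, orderOf g = N) := by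
  constructor
  · rintro ⟨x, hx⟩
    obtain ⟨g, rfl⟩ := QuotientGroup.mk_surjective x
    have hgN : g ^ N ∈ K := by
      rw [← QuotientGroup.eq_one_iff, QuotientGroup.mk_pow, ← hx, pow_orderOf_eq_one]
    refine ⟨g ^ Nat.card K, ?_⟩
    apply Nat.dvd_antisymm
    · apply orderOf_dvd_of_pow_eq_one
      rw [← pow_mul, mul_comm, pow_mul]
      have := pow_card_eq_one' (G := K) (x := ⟨g ^ N, hgN⟩)
      exact congrArg Subtype.val this
    · have h1 : orderOf ((QuotientGroup.mk g : G ⧸ K) ^ Nat.card K) = N := by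
        rw [Nat.Coprime.orderOf_pow, hx]
        rw [hx]
        exact hcop.symm
      rw [← h1, ← QuotientGroup.mk_pow]
      exact orderOf_map_dvd (QuotientGroup.mk' K) (g ^ Nat.card K)
  · rintro ⟨g, hg⟩
    refine ⟨(QuotientGroup.mk g : G ⧸ K), ?_⟩
    apply Nat.dvd_antisymm
    · rw [← hg]
      exact orderOf_map_dvd (QuotientGroup.mk' K) g
    · have h1 : g ^ orderOf (QuotientGroup.mk g : G ⧸ K) ∈ K := by
        rw [← QuotientGroup.eq_one_iff, QuotientGroup.mk_pow, pow_orderOf_eq_one]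
      have h2 : g ^ (orderOf (QuotientGroup.mk g : G ⧸ K) * Nat.card K) = 1 := by
        rw [pow_mul]
        have := pow_card_eq_one' (G := K) (x := ⟨_, h1⟩)
        exact congrArg Subtype.val this
      have h3 := orderOf_dvd_of_pow_eq_one h2
      rw [hg] at h3
      exact (Nat.Coprime.dvd_mul_right hcop.symm).1 h3

end quot

section fix

variable {F : Type*} [Field F] {V : Type*} [AddCommGroup V] [Module F V]

def fx (f : Module.End F V) : Submodule F V := LinearMap.ker (f - 1)

lemma mem_fx (f : Module.End F V) (v : V) : v ∈ fx f ↔ f v = v := by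
  simp [fx, sub_eq_zero]

lemma card_modEq [Finite V] (f : Module.End F V) (p : ℕ) [Fact p.Prime] (hf : f ^ p = 1)
    (W : Submodule F V) (hW : ∀ v ∈ W, f v ∈ W) :
    Nat.card W ≡ Nat.card ↥(W ⊓ fx f) [MOD p] := by
  classical
  have : Fintype W := Fintype.ofFinite _
  let φ : Function.End W := fun w => ⟨f w, hW w w.2⟩
  have hpow : ∀ n (w : W), ((φ ^ n) w : V) = (f ^ n) w := by
    intro n
    induction n with
    | zero => intro w; rfl
    | succ n ih =>
      intro w
      rw [pow_succ', pow_succ']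
      show f ((φ ^ n) w : V) = f ((f ^ n) w)
      rw [ih]
  have h1 := Equiv.Perm.card_fixedPoints_modEq (f := φ) (p := p) (n := 1) (by
    rw [pow_one]
    funext w
    apply Subtype.ext
    rw [hpow, hf]
    rfl)
  rw [← Nat.card_eq_fintype_card, ← Nat.card_eq_fintype_card] at h1
  have e : Function.fixedPoints φ ≃ ↥(W ⊓ fx f) :=
    { toFun := fun w => ⟨w.1.1, ⟨w.1.2, (mem_fx f _).2 (congrArg Subtype.val w.2)⟩⟩
      invFun := fun v => ⟨⟨v.1, v.2.1⟩, Subtype.ext ((mem_fx f _).1 v.2.2)⟩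
      left_inv := fun w => rfl
      right_inv := fun v => rfl }
  rw [Nat.card_congr e] at h1
  exact h1

end fix

section dims

variable {F : Type*} [Field F] [Fintype F] {V : Type*} [AddCommGroup V] [Module F V] [Finite V]

lemma dvd_finrank_sub (f : Module.End F V) (p : ℕ) [Fact p.Prime] (hf : f ^ p = 1)
    (hpq : ¬ p ∣ Fintype.card F)
    (W : Submodule F V) (hW : ∀ v ∈ W, f v ∈ W) :
    orderOf ((Fintype.card F : ℕ) : ZMod p) ∣
      Module.finrank F W - Module.finrank F ↥(W ⊓ fx f) := by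
  have h1 := card_modEq f p hf W hW
  have : Module.Finite F V := inferInstance
  rw [Module.natCard_eq_pow_finrank (K := F) (V := W),
    Module.natCard_eq_pow_finrank (K := F) (V := ↥(W ⊓ fx f)),
    Nat.card_eq_fintype_card] at h1
  have hle : Module.finrank F ↥(W ⊓ fx f) ≤ Module.finrank F W :=
    Submodule.finrank_mono inf_le_left
  have h2 := (ZMod.natCast_eq_natCast_iff _ _ _).2 h1
  rw [Nat.cast_pow, Nat.cast_pow] at h2
  have h0 : ((Fintype.card F : ℕ) : ZMod p) ≠ 0 := by
    rw [Ne, ZMod.natCast_eq_zero_iff]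
    exact hpq
  rw [orderOf_dvd_iff_pow_eq_one]
  have h3 : ((Fintype.card F : ℕ) : ZMod p) ^ Module.finrank F W =
      ((Fintype.card F : ℕ) : ZMod p) ^ (Module.finrank F W - Module.finrank F ↥(W ⊓ fx f)) *
      ((Fintype.card F : ℕ) : ZMod p) ^ Module.finrank F ↥(W ⊓ fx f) := by
    rw [← pow_add, Nat.sub_add_cancel hle]
  rw [h3] at h2
  have h4 : ((Fintype.card F : ℕ) : ZMod p) ^ Module.finrank F ↥(W ⊓ fx f) ≠ 0 := pow_ne_zero _ h0
  apply mul_right_cancel₀ h4
  rw [h2, one_mul]

omit [Fintype F] [Finite V] in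
lemma fx_lt_top (f : Module.End F V) (hf : f ≠ 1) : fx f ≠ ⊤ := by
  intro h
  apply hf
  ext v
  have : v ∈ fx f := by rw [h]; trivial
  exact (mem_fx f v).1 this

theorem key (f : Module.End F V) (r s : ℕ) [Fact r.Prime] [Fact s.Prime]
    (hrq : ¬ r ∣ Fintype.card F) (hsq : ¬ s ∣ Fintype.card F)
    (hf : f ^ (r * s) = 1) (hfs : f ^ s ≠ 1) (hfr : f ^ r ≠ 1) :
    orderOf ((Fintype.card F : ℕ) : ZMod r) + orderOf ((Fintype.card F : ℕ) : ZMod s) ≤
        Module.finrank F V ∨
      Nat.lcm (orderOf ((Fintype.card F : ℕ) : ZMod r)) (orderOf ((Fintype.card F : ℕ) : ZMod s)) ≤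
        Module.finrank F V := by
  have : Module.Finite F V := inferInstance
  set k := orderOf ((Fintype.card F : ℕ) : ZMod r) with hk
  set l := orderOf ((Fintype.card F : ℕ) : ZMod s) with hl
  have hk0 : 0 < k := orderOf_pos' _ hrq
  have hl0 : 0 < l := orderOf_pos' _ hsq
  have hxr : (f ^ s) ^ r = 1 := by rw [← pow_mul, mul_comm, hf]
  have hys : (f ^ r) ^ s = 1 := by rw [← pow_mul, hf]
  have hcomm : ∀ v, (f ^ s) ((f ^ r) v) = (f ^ r) ((f ^ s) v) := by
    intro v
    rw [← Module.End.mul_apply, ← Module.End.mul_apply, pow_mul_comm]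
  have hinvx : ∀ v ∈ fx (f ^ s), (f ^ r) v ∈ fx (f ^ s) := by
    intro v hv
    rw [mem_fx] at hv ⊢
    rw [hcomm, hv]
  have hinvy : ∀ v ∈ fx (f ^ r), (f ^ s) v ∈ fx (f ^ r) := by
    intro v hv
    rw [mem_fx] at hv ⊢
    rw [← hcomm, hv]
  have h1 := dvd_finrank_sub (f ^ s) r hxr hrq ⊤ (fun _ _ => trivial)
  have h2 := dvd_finrank_sub (f ^ r) s hys hsq ⊤ (fun _ _ => trivial)
  have h3 := dvd_finrank_sub (f ^ r) s hys hsq (fx (f ^ s)) hinvx
  have h4 := dvd_finrank_sub (f ^ s) r hxr hrq (fx (f ^ r)) hinvy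
  rw [top_inf_eq, finrank_top] at h1 h2
  rw [inf_comm] at h4
  have hx := Submodule.finrank_lt (fx_lt_top _ hfs)
  have hy := Submodule.finrank_lt (fx_lt_top _ hfr)
  have hcx : Module.finrank F ↥(fx (f ^ s) ⊓ fx (f ^ r)) ≤ Module.finrank F ↥(fx (f ^ s)) :=
    Submodule.finrank_mono inf_le_left
  have hcy : Module.finrank F ↥(fx (f ^ s) ⊓ fx (f ^ r)) ≤ Module.finrank F ↥(fx (f ^ r)) :=
    Submodule.finrank_mono inf_le_right
  rw [← hk] at h1 h4
  rw [← hl] at h2 h3
  generalize Module.finrank F ↥(fx (f ^ s) ⊓ fx (f ^ r)) = c at *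
  generalize Module.finrank F ↥(fx (f ^ s)) = cx at *
  generalize Module.finrank F ↥(fx (f ^ r)) = cy at *
  generalize Module.finrank F V = n at *
  by_cases hc1 : c < cx
  · left
    have := Nat.le_of_dvd (by omega) h3
    have := Nat.le_of_dvd (by omega) h1
    omega
  by_cases hc2 : c < cy
  · left
    have := Nat.le_of_dvd (by omega) h4
    have := Nat.le_of_dvd (by omega) h2
    omega
  right
  have e1 : cx = c := by omega
  have e2 : cy = c := by omega
  rw [e1] at h1
  rw [e2] at h2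
  have := Nat.le_of_dvd (by omega) (Nat.lcm_dvd h1 h2)
  omega

end dims

section embed

variable {F : Type*} [Field F]

theorem exists_emb_alg (A : Type*) [Ring A] [Algebra F A] [FiniteDimensional F A] (n : ℕ)
    (h : Module.finrank F A ≤ n) :
    ∃ φ : Aˣ →* GL (Fin n) F, Function.Injective φ := by
  obtain ⟨t, ht⟩ : ∃ t, n = Module.finrank F A + t := ⟨n - Module.finrank F A, by omega⟩
  have hfr : Module.finrank F (A × (Fin t → F)) = n := by
    rw [Module.finrank_prod, Module.finrank_fin_fun, ht]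
  let b : Module.Basis (Fin n) F (A × (Fin t → F)) := Module.finBasisOfFinrankEq F _ hfr
  let ρ : A →* Module.End F (A × (Fin t → F)) :=
    { toFun := fun u => (LinearMap.mulLeft F u).prodMap LinearMap.id
      map_one' := by ext x <;> simp
      map_mul' := fun u v => by ext x <;> simp }
  have hρ : Function.Injective ρ := by
    intro u v huv
    have h1 := congrArg (fun f => (f ((1 : A), (0 : Fin t → F))).1) huv
    simpa [ρ] using h1
  let Φ : A →* Matrix (Fin n) (Fin n) F :=
    (LinearMap.toMatrixAlgEquiv b).toAlgHom.toRingHom.toMonoidHom.comp ρ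
  have hΦ : Function.Injective Φ := by
    intro u v huv
    apply hρ
    exact (LinearMap.toMatrixAlgEquiv b).injective huv
  exact ⟨Units.map Φ, Units.map_injective hΦ⟩

variable [Fintype F]

theorem exists_SL_of_emb {n : ℕ} {A : Type*} [Group A] (φ : A →* GL (Fin n) F)
    (hφ : Function.Injective φ) (a : A) (hN : (orderOf a).Coprime (Fintype.card F - 1)) :
    ∃ g : Matrix.SpecialLinearGroup (Fin n) F, orderOf g = orderOf a := by
  have h1 : orderOf (Matrix.GeneralLinearGroup.det (φ a)) ∣ orderOf a :=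
    (orderOf_map_dvd _ _).trans (orderOf_map_dvd _ _)
  have h2 : orderOf (Matrix.GeneralLinearGroup.det (φ a)) ∣ Fintype.card F - 1 := by
    have := orderOf_dvd_natCard (Matrix.GeneralLinearGroup.det (φ a))
    rwa [Nat.card_units, Nat.card_eq_fintype_card] at this
  have h3 : orderOf (Matrix.GeneralLinearGroup.det (φ a)) = 1 :=
    Nat.eq_one_of_dvd_coprimes hN h1 h2
  rw [orderOf_eq_one_iff] at h3
  have hdet : ((φ a : GL (Fin n) F) : Matrix (Fin n) (Fin n) F).det = 1 := by
    have := congrArg Units.val h3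
    simpa using this
  obtain ⟨g, hg⟩ : ∃ g : Matrix.SpecialLinearGroup (Fin n) F,
      (g : Matrix (Fin n) (Fin n) F) = ((φ a : GL (Fin n) F) : Matrix (Fin n) (Fin n) F) :=
    ⟨⟨_, hdet⟩, rfl⟩
  refine ⟨g, ?_⟩
  have h4 : Matrix.SpecialLinearGroup.toGL g = φ a := Units.ext hg
  rw [← orderOf_injective φ hφ a, ← h4]
  exact (orderOf_injective _ Matrix.SpecialLinearGroup.toGL_injective g).symm

end embed

section final

theorem exists_unit_orderOf (E : Type*) [Field E] [Finite E] (m : ℕ) (hm : m ∣ Nat.card Eˣ) :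
    ∃ a : Eˣ, orderOf a = m := by
  obtain ⟨g, hg⟩ := IsCyclic.exists_ofOrder_eq_natCard (α := Eˣ)
  have hN : 0 < Nat.card Eˣ := Nat.card_pos
  obtain ⟨c, hc⟩ := hm
  have hc0 : 0 < c := by
    rcases Nat.eq_zero_or_pos c with h | h
    · rw [h, mul_zero] at hc
      omega
    · exact h
  refine ⟨g ^ c, ?_⟩
  rw [orderOf_pow' g hc0.ne', hg, hc, Nat.gcd_mul_left_left, Nat.mul_div_cancel _ hc0]

variable {F : Type*} [Field F] [Fintype F]

theorem exists_SL_orderOf (p : ℕ) [Fact p.Prime] [CharP F p] (n : ℕ)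
    (r s : ℕ) (hr : r.Prime) (hs : s.Prime) (hrs : r ≠ s)
    (hr1 : ¬ r ∣ Fintype.card F - 1) (hs1 : ¬ s ∣ Fintype.card F - 1)
    (k l : ℕ) (hk0 : 0 < k) (hl0 : 0 < l)
    (hrk : r ∣ Fintype.card F ^ k - 1) (hsl : s ∣ Fintype.card F ^ l - 1)
    (hrl : k ∣ l → r ∣ Fintype.card F ^ l - 1)
    (hln : l ≤ n) (h : k + l ≤ n ∨ k ∣ l) :
    ∃ g : Matrix.SpecialLinearGroup (Fin n) F, orderOf g = r * s := by
  have hcop : Nat.Coprime r s := (Nat.coprime_primes hr hs).2 hrs
  have hcop1 : (r * s).Coprime (Fintype.card F - 1) :=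
    Nat.Coprime.mul_left ((Nat.Prime.coprime_iff_not_dvd hr).2 hr1)
      ((Nat.Prime.coprime_iff_not_dvd hs).2 hs1)
  have : NeZero k := ⟨hk0.ne'⟩
  have : NeZero l := ⟨hl0.ne'⟩
  rcases h with h | h
  · let E₁ := FiniteField.Extension F p k
    let E₂ := FiniteField.Extension F p l
    have hfr : Module.finrank F (E₁ × E₂) ≤ n := by
      rw [Module.finrank_prod, FiniteField.finrank_extension, FiniteField.finrank_extension]
      exact h
    obtain ⟨φ, hφ⟩ := exists_emb_alg (F := F) (E₁ × E₂) n hfr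
    obtain ⟨a₁, ha₁⟩ := exists_unit_orderOf E₁ r (by
      rw [Nat.card_units, FiniteField.natCard_extension, Nat.card_eq_fintype_card]
      exact hrk)
    obtain ⟨a₂, ha₂⟩ := exists_unit_orderOf E₂ s (by
      rw [Nat.card_units, FiniteField.natCard_extension, Nat.card_eq_fintype_card]
      exact hsl)
    have ha : orderOf ((MulEquiv.prodUnits (M := E₁) (N := E₂)).symm (a₁, a₂)) = r * s := by
      rw [MulEquiv.orderOf_eq, Prod.orderOf, ha₁, ha₂]
      exact hcop.lcm_eq_mul
    obtain ⟨g, hg⟩ := exists_SL_of_emb φ hφ _ (by rw [ha]; exact hcop1)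
    exact ⟨g, hg.trans ha⟩
  · let E := FiniteField.Extension F p l
    have hfr : Module.finrank F E ≤ n := by
      rw [FiniteField.finrank_extension]
      exact hln
    obtain ⟨φ, hφ⟩ := exists_emb_alg (F := F) E n hfr
    obtain ⟨a, ha⟩ := exists_unit_orderOf E (r * s) (by
      rw [Nat.card_units, FiniteField.natCard_extension, Nat.card_eq_fintype_card]
      exact hcop.mul_dvd_of_dvd_of_dvd (hrl h) hsl)
    obtain ⟨g, hg⟩ := exists_SL_of_emb φ hφ a (by rw [ha]; exact hcop1)
    exact ⟨g, hg.trans ha⟩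

theorem no_SL_orderOf (n : ℕ) (r s : ℕ) [Fact r.Prime] [Fact s.Prime]
    (hrq : ¬ r ∣ Fintype.card F) (hsq : ¬ s ∣ Fintype.card F)
    (g : Matrix.SpecialLinearGroup (Fin n) F) (hg : orderOf g = r * s) :
    orderOf ((Fintype.card F : ℕ) : ZMod r) + orderOf ((Fintype.card F : ℕ) : ZMod s) ≤ n ∨
      Nat.lcm (orderOf ((Fintype.card F : ℕ) : ZMod r)) (orderOf ((Fintype.card F : ℕ) : ZMod s)) ≤
        n := by
  classical
  have hr : r.Prime := Fact.out
  have hs : s.Prime := Fact.out
  let f : Module.End F (Fin n → F) := Matrix.toLinAlgEquiv' (g : Matrix (Fin n) (Fin n) F)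
  have hpow : ∀ m, f ^ m = 1 ↔ g ^ m = 1 := by
    intro m
    show (Matrix.toLinAlgEquiv' (g : Matrix (Fin n) (Fin n) F)) ^ m = 1 ↔ _
    rw [← map_pow, EmbeddingLike.map_eq_one_iff, ← Matrix.SpecialLinearGroup.coe_pow,
      ← Matrix.SpecialLinearGroup.coe_one]
    exact ⟨fun h => Subtype.ext h, fun h => congrArg Subtype.val h⟩
  have hf : f ^ (r * s) = 1 := by
    rw [hpow, ← hg, pow_orderOf_eq_one]
  have hfs : f ^ s ≠ 1 := by
    rw [Ne, hpow]
    intro h
    have h1 := orderOf_dvd_of_pow_eq_one h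
    rw [hg] at h1
    have := Nat.le_of_dvd hs.pos h1
    have := hr.two_le
    nlinarith [hs.pos]
  have hfr : f ^ r ≠ 1 := by
    rw [Ne, hpow]
    intro h
    have h1 := orderOf_dvd_of_pow_eq_one h
    rw [hg] at h1
    have := Nat.le_of_dvd hr.pos h1
    have := hs.two_le
    nlinarith [hr.pos]
  have := key f r s hrq hsq hf hfs hfr
  rwa [Module.finrank_fin_fun] at this

end final

/-- Adjacency of two odd primes in the prime graph of PSL(n,q): let F be a finite field of characteristic p with q elements, n ≥ 2 with PSL(n,F) simple, and let r ≠ s be odd primes different from p dividing the order of PSL(n,F). Let k and l be the multiplicative orders of q modulo r and modulo s, and suppose 2 ≤ k ≤ l. Then PSL(n,F) has NO element of order r·s if and only if k + l > n and k does not divide l. -/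
theorem result {F : Type*} [Field F] [Fintype F] (p : ℕ) [Fact p.Prime] [CharP F p] (n : ℕ) (hn : 2 ≤ n) (hsmall : n = 2 → 4 ≤ Fintype.card F)
    (r s : ℕ) (hr : r.Prime) (hs : s.Prime) (hr2 : r ≠ 2) (hs2 : s ≠ 2) (hrp : r ≠ p) (hsp : s ≠ p) (hrs : r ≠ s)
    (hrG : r ∣ Nat.card (Matrix.ProjectiveSpecialLinearGroup (Fin n) F)) (hsG : s ∣ Nat.card (Matrix.ProjectiveSpecialLinearGroup (Fin n) F))
    (k l : ℕ) (hk : k = orderOf ((Fintype.card F : ℕ) : ZMod r)) (hl : l = orderOf ((Fintype.card F : ℕ) : ZMod s))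
    (h2k : 2 ≤ k) (hkl : k ≤ l) :
    (r * s ∉ Set.range (orderOf : Matrix.ProjectiveSpecialLinearGroup (Fin n) F → ℕ)) ↔ (n < k + l ∧ ¬ k ∣ l) := by
  classical
  have hq1 : 1 ≤ Fintype.card F := Fintype.card_pos
  have : Fact r.Prime := ⟨hr⟩
  have : Fact s.Prime := ⟨hs⟩
  have hpp : p.Prime := Fact.out
  obtain ⟨e, -, he⟩ := FiniteField.card F p
  have hrq : ¬ r ∣ Fintype.card F := by
    rw [he]
    intro h
    exact hrp ((Nat.prime_dvd_prime_iff_eq hr hpp).1 (hr.dvd_of_dvd_pow h))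
  have hsq : ¬ s ∣ Fintype.card F := by
    rw [he]
    intro h
    exact hsp ((Nat.prime_dvd_prime_iff_eq hs hpp).1 (hs.dvd_of_dvd_pow h))
  have hr1 : ¬ r ∣ Fintype.card F - 1 := by
    intro h
    have h1 := (dvd_pow_sub_one_iff (r := r) _ hq1 1).1 (by simpa using h)
    rw [← hk] at h1
    have := Nat.le_of_dvd one_pos h1
    omega
  have hs1 : ¬ s ∣ Fintype.card F - 1 := by
    intro h
    have h1 := (dvd_pow_sub_one_iff (r := s) _ hq1 1).1 (by simpa using h)
    rw [← hl] at h1
    have := Nat.le_of_dvd one_pos h1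
    omega
  have hcop : Nat.Coprime r s := (Nat.coprime_primes hr hs).2 hrs
  have hcen : (Nat.card (Subgroup.center (Matrix.SpecialLinearGroup (Fin n) F))).Coprime (r * s) := by
    have e := Matrix.SpecialLinearGroup.center_equiv_rootsOfUnity' (n := Fin n) (R := F) ⟨0, by omega⟩
    rw [Nat.card_congr e.toEquiv]
    have h1 : Nat.card (rootsOfUnity (Fintype.card (Fin n)) F) ∣ Fintype.card F - 1 := by
      have := Subgroup.card_subgroup_dvd_card (rootsOfUnity (Fintype.card (Fin n)) F)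
      rwa [Nat.card_units, Nat.card_eq_fintype_card (α := F)] at this
    apply Nat.Coprime.coprime_dvd_left h1
    exact (Nat.Coprime.mul_left ((Nat.Prime.coprime_iff_not_dvd hr).2 hr1)
      ((Nat.Prime.coprime_iff_not_dvd hs).2 hs1)).symm
  have hiff : r * s ∈ Set.range (orderOf : Matrix.ProjectiveSpecialLinearGroup (Fin n) F → ℕ) ↔
      ∃ g : Matrix.SpecialLinearGroup (Fin n) F, orderOf g = r * s :=
    exists_orderOf_quotient_iff _ _ hcen
  rw [hiff]
  constructor
  · intro hno
    by_contra hcon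
    apply hno
    have hsGL : s ∣ Nat.card (GL (Fin n) F) := by
      rw [← Cfsg.Agent.S2379.card_SL_mul (F := F) (n := n) (by omega)]
      apply Dvd.dvd.mul_right
      exact hsG.trans (Subgroup.card_quotient_dvd_card _)
    obtain ⟨i, hi0, hin, hi⟩ := Cfsg.Agent.S2394.prime_dvd_card_GL hs hsGL hsq
    have hli : l ∣ i := by
      rw [hl]
      exact (dvd_pow_sub_one_iff (r := s) _ hq1 i).1 hi
    have hln : l ≤ n := (Nat.le_of_dvd hi0 hli).trans hin
    refine exists_SL_orderOf p n r s hr hs hrs hr1 hs1 k l (by omega) (by omega) ?_ ?_ ?_ hln ?_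
    · rw [dvd_pow_sub_one_iff (r := r) _ hq1 k, hk]
    · rw [dvd_pow_sub_one_iff (r := s) _ hq1 l, hl]
    · intro hdvd
      rw [dvd_pow_sub_one_iff (r := r) _ hq1 l, ← hk]
      exact hdvd
    · by_contra h
      push Not at h
      exact hcon ⟨by omega, h.2⟩
  · rintro ⟨hnkl, hndvd⟩ ⟨g, hg⟩
    have h1 := no_SL_orderOf n r s hrq hsq g hg
    rw [← hk, ← hl] at h1
    rcases h1 with h1 | h1
    · omega
    · obtain ⟨j, hj⟩ := Nat.dvd_lcm_right k l
      have hpos : 0 < Nat.lcm k l := Nat.lcm_pos (by omega) (by omega)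
      rcases Nat.lt_or_ge j 2 with hj2 | hj2
      · have hj1 : j = 1 := by
          rcases Nat.eq_zero_or_pos j with h0 | h0
          · rw [h0, mul_zero] at hj
            omega
          · omega
        rw [hj1, mul_one] at hj
        apply hndvd
        rw [← hj]
        exact Nat.dvd_lcm_left k l
      · have : 2 * l ≤ l * j := by nlinarith
        omega

end Cfsg.Agent.S2468
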