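import Cfsg.Statements.S5947

import Cfsg.Agent.S2904
import Cfsg.Agent.S2468
import Cfsg.Agent.Lib.helper15.SylowVal
set_option autoImplicit false
open Cfsg

namespace Cfsg.Agent.S5947


theorem k_eq_one (p k m : ℕ) (hp : p.Prime) (hk : 1 ≤ k) (h : p ^ k + 1 = 2 ^ m) : k = 1 := by
  have hp2 : 2 ≤ p := hp.two_le
  have hodd : p % 2 = 1 := by
    rcases hp.eq_two_or_odd with h2 | h2
    · exfalso
      subst h2
      have h3 : 2 ∣ 2 ^ m := by
        rcases m with _ | m
        · have : 2 ^ k ≥ 2 := by
            calc 2 ^ k ≥ 2 ^ 1 := Nat.pow_le_pow_right (by omega) hk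
              _ = 2 := by norm_num
          simp at h
        · exact Dvd.intro_left _ rfl
      have h4 : 2 ∣ 2 ^ k := dvd_pow_self 2 (by omega)
      omega
    · exact h2
  rcases Nat.even_or_odd k with hke | hko
  · exfalso
    obtain ⟨j, hj⟩ := hke
    have hj1 : 1 ≤ j := by omega
    have hx : (p ^ j) % 2 = 1 := by
      rw [Nat.pow_mod, hodd]; simp
    have hx3 : 3 ≤ p ^ j := by
      have : p ^ 1 ≤ p ^ j := Nat.pow_le_pow_right (by omega) hj1
      have h0 : p ^ j ≠ 2 := by omega
      rw [pow_one] at this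
      omega
    have hsq : p ^ k = p ^ j * p ^ j := by rw [hj, pow_add]
    have h4 : (p ^ j * p ^ j) % 4 = 1 := by
      have : p ^ j % 4 = 1 ∨ p ^ j % 4 = 3 := by omega
      rcases this with h | h <;> simp [Nat.mul_mod, h]
    have hm : 2 ≤ m := by
      by_contra hm
      have : m = 0 ∨ m = 1 := by omega
      have h2m : 2 ^ m ≤ 2 := by
        rcases this with rfl | rfl <;> norm_num
      rw [hsq] at h
      nlinarith
    have h5 : 4 ∣ 2 ^ m := by
      obtain ⟨m', rfl⟩ := Nat.exists_eq_add_of_le hm
      exact ⟨2 ^ m', by rw [pow_add]; norm_num⟩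
    rw [← h, hsq] at h5
    omega
  · have hS : ((p : ℤ) ^ k + 1) = (∑ i ∈ Finset.range k, (-(p : ℤ)) ^ i) * ((p : ℤ) + 1) := by
      have := geom_sum_mul (-(p : ℤ)) k
      rw [hko.neg_pow] at this
      linear_combination this
    have hSodd : Odd (∑ i ∈ Finset.range k, (-(p : ℤ)) ^ i) := by
      rw [← ZMod.intCast_eq_one_iff_odd, Int.cast_sum]
      have : ∀ i ∈ Finset.range k, (((-(p : ℤ)) ^ i : ℤ) : ZMod 2) = 1 := by
        intro i _
        rw [ZMod.intCast_eq_one_iff_odd]
        apply Odd.pow
        apply Odd.neg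
        rw [Int.odd_iff]
        omega
      rw [Finset.sum_congr rfl this, Finset.sum_const, Finset.card_range, nsmul_eq_mul, mul_one]
      exact (ZMod.natCast_eq_one_iff_odd).mpr hko
    set S := ∑ i ∈ Finset.range k, (-(p : ℤ)) ^ i with hSdef
    have hdvd : S ∣ (2 : ℤ) ^ m := by
      refine ⟨(p : ℤ) + 1, ?_⟩
      rw [← hS]
      exact_mod_cast h.symm
    have hnat : S.natAbs ∣ 2 ^ m := by
      have := Int.natAbs_dvd_natAbs.mpr hdvd
      simpa [Int.natAbs_pow] using this
    have hSnat_odd : Odd S.natAbs := Int.natAbs_odd.mpr hSodd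
    have hcop : Nat.Coprime S.natAbs (2 ^ m) := by
      apply Nat.Coprime.pow_right
      exact Nat.coprime_two_right.mpr hSnat_odd
    have hS1 : S.natAbs = 1 := Nat.Coprime.eq_one_of_dvd hcop hnat
    have hpos : (0 : ℤ) < (p : ℤ) ^ k + 1 := by positivity
    have hS1' : S = 1 := by
      rcases Int.natAbs_eq S with h1 | h1
      · rw [h1, hS1]; rfl
      · exfalso
        rw [hS1] at h1
        rw [hS, h1] at hpos
        have : (0 : ℤ) ≤ (p : ℤ) := by positivity
        simp at hpos
        omega
    rw [hS1', one_mul] at hS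
    have hpk : p ^ k = p := by
      have : (p : ℤ) ^ k = p := by linarith
      exact_mod_cast this
    have := Nat.pow_right_injective hp2 (hpk.trans (pow_one p).symm)
    exact this

section irr
variable {F : Type*} [Field F] [Fintype F] {V : Type*} [AddCommGroup V] [Module F V] [Finite V]

open Cfsg.Agent.S2468

theorem irr_of_ppd (f : Module.End F V) (r : ℕ) [Fact r.Prime] (hf : f ^ r = 1) (hf1 : f ≠ 1)
    (hrq : ¬ r ∣ Fintype.card F)
    (hord : orderOf ((Fintype.card F : ℕ) : ZMod r) = Module.finrank F V)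
    (W : Submodule F V) (hW : ∀ v ∈ W, f v ∈ W) : W = ⊥ ∨ W = ⊤ := by
  have : Module.Finite F V := inferInstance
  have hfx : fx f = ⊥ := by
    have h1 := dvd_finrank_sub f r hf hrq ⊤ (fun _ _ => trivial)
    rw [hord, top_inf_eq, finrank_top] at h1
    have h2 : Module.finrank F (fx f) < Module.finrank F V :=
      Submodule.finrank_lt (fx_lt_top f hf1)
    have h3 : Module.finrank F V - Module.finrank F (fx f) = Module.finrank F V := by
      obtain ⟨c, hc⟩ := h1
      rcases c with _ | _ | c
      · omega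
      · omega
      · have : Module.finrank F V * (c + 1 + 1) = Module.finrank F V * c + 2 * Module.finrank F V := by
          ring
        omega
    rw [← Submodule.finrank_eq_zero]
    omega
  have h1 := dvd_finrank_sub f r hf hrq W hW
  rw [hord, hfx, inf_bot_eq, finrank_bot, Nat.sub_zero] at h1
  have hle : Module.finrank F W ≤ Module.finrank F V := Submodule.finrank_le W
  obtain ⟨c, hc⟩ := h1
  rcases c with _ | c
  · left
    rw [← Submodule.finrank_eq_zero]
    omega
  · right
    apply Submodule.eq_top_of_finrank_eq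
    have : Module.finrank F V * (c + 1) = Module.finrank F V * c + Module.finrank F V := by ring
    have h0 : 0 ≤ Module.finrank F V * c := Nat.zero_le _
    omega

omit [Fintype F] [Finite V] in
theorem comm_inj (f : Module.End F V)
    (hirr : ∀ W : Submodule F V, (∀ v ∈ W, f v ∈ W) → W = ⊥ ∨ W = ⊤)
    (g : Module.End F V) (hg : g * f = f * g) (hg0 : g ≠ 0) : LinearMap.ker g = ⊥ := by
  rcases hirr (LinearMap.ker g) (by
    intro v hv
    rw [LinearMap.mem_ker] at hv ⊢
    have : g (f v) = f (g v) := by
      have := LinearMap.congr_fun hg v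
      simpa using this
    rw [this, hv, map_zero]) with h | h
  · exact h
  · exfalso
    apply hg0
    ext v
    have : v ∈ LinearMap.ker g := by rw [h]; trivial
    simpa using this

end irr

open Cfsg.Agent.Lib.helper15.SylowVal in
theorem exists_ppd {F K : Type*} [Field F] [Fintype F] [Field K] [Fintype K] [Algebra F K] (n : ℕ)
    (hn : 2 ≤ n) (hdim : Module.finrank F K = n)
    (hex1 : ¬ (n = 6 ∧ Fintype.card F = 2))
    (hex2 : ¬ (n = 2 ∧ (Fintype.card F).Prime ∧ ∃ a : ℕ, Fintype.card F + 1 = 2 ^ a)) :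
    ∃ r : ℕ, r.Prime ∧ r ∣ Fintype.card K - 1 ∧ ¬ r ∣ Fintype.card F ∧
      orderOf ((Fintype.card F : ℕ) : ZMod r) = n := by
  have hq2 : 2 ≤ Fintype.card F := Fintype.one_lt_card
  have hKcard : Fintype.card K = Fintype.card F ^ n := by
    rw [Module.card_eq_pow_finrank (K := F) (V := K), hdim]
  have hz2 : ¬ (n = 2 ∧ ∃ m : ℕ, Fintype.card F + 1 = 2 ^ m) := by
    rintro ⟨hn2, m, hm⟩
    apply hex2
    refine ⟨hn2, ?_, m, hm⟩
    obtain ⟨p, hp⟩ := CharP.exists F
    obtain ⟨k, hpp, hc⟩ := FiniteField.card F p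
    have := k_eq_one p k m hpp k.pos (by rw [← hc]; exact hm)
    rw [hc, this, pow_one]
    exact hpp
  obtain ⟨r, hr, hrdvd, hrmin⟩ := Cfsg.Agent.S2904.result (Fintype.card F) n (by omega) (by omega)
    (fun h => hex1 ⟨h.2, h.1⟩) hz2
  haveI : Fact r.Prime := ⟨hr⟩
  have hpos : 1 ≤ Fintype.card F ^ n := Nat.one_le_pow _ _ (by omega)
  have hrq : ¬ r ∣ Fintype.card F := by
    intro h
    have h1 : r ∣ Fintype.card F ^ n := dvd_pow h (by omega)
    have h2 : r ∣ 1 := by
      have := Nat.dvd_sub h1 hrdvd
      rwa [Nat.sub_sub_self hpos] at this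
    exact hr.one_lt.ne' (Nat.dvd_one.mp h2)
  refine ⟨r, hr, by rw [hKcard]; exact hrdvd, hrq, ?_⟩
  have ho1 : orderOf ((Fintype.card F : ℕ) : ZMod r) ∣ n :=
    (dvd_pow_sub_one_iff (Fintype.card F) (by omega) n).mp hrdvd
  have ho2 : 0 < orderOf ((Fintype.card F : ℕ) : ZMod r) := orderOf_pos' _ hrq
  have ho3 : ¬ orderOf ((Fintype.card F : ℕ) : ZMod r) < n := by
    intro hlt
    exact hrmin _ ho2 hlt ((dvd_pow_sub_one_iff (Fintype.card F) (by omega) _).mpr dvd_rfl)
  have ho4 := Nat.le_of_dvd (by omega) ho1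
  omega

theorem main {F K : Type*} [Field F] [Fintype F] [Field K] [Fintype K] [Algebra F K]
    (r : ℕ) [Fact r.Prime] (hrdvd : r ∣ Fintype.card K - 1) (hrq : ¬ r ∣ Fintype.card F)
    (hord : orderOf ((Fintype.card F : ℕ) : ZMod r) = Module.finrank F K)
    (U : Subgroup (Module.End F K)ˣ) (hU : IsMulCommutative U)
    (hcard : Nat.card U = Fintype.card K - 1) :
    ∃ g : (Module.End F K)ˣ, U.map (MulAut.conj g).toMonoidHom =
      (Units.map ((Algebra.lmul F K : K →ₐ[F] Module.End F K) : K →* Module.End F K)).range := by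
  classical
  have hUfin : Finite U := by
    apply Nat.finite_of_card_ne_zero
    rw [hcard]
    have : 1 < Fintype.card K := Fintype.one_lt_card
    omega
  obtain ⟨u, hu⟩ := exists_prime_orderOf_dvd_card' r (hcard ▸ hrdvd)
  set f : Module.End F K := ((u : (Module.End F K)ˣ) : Module.End F K) with hf
  have hfr : f ^ r = 1 := by
    have h1 : u ^ r = 1 := by rw [← hu]; exact pow_orderOf_eq_one u
    have h2 : ((u ^ r : U) : (Module.End F K)ˣ) = 1 := by rw [h1]; rfl
    rw [Subgroup.coe_pow] at h2
    have h3 := congrArg Units.val h2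
    rw [Units.val_pow_eq_pow_val] at h3
    exact h3
  have hf1 : f ≠ 1 := by
    intro h
    have h1 : u = 1 := by
      apply Subtype.ext
      apply Units.ext
      exact h
    rw [h1, orderOf_one] at hu
    exact (Fact.out : r.Prime).one_lt.ne' hu.symm
  have hirr := irr_of_ppd f r hfr hf1 hrq hord
  have hmemE : ∀ g : Module.End F K, g ∈ Subalgebra.centralizer F ({f} : Set (Module.End F K)) ↔
      g * f = f * g := by
    intro g
    rw [Subalgebra.mem_centralizer_iff]
    constructor
    · intro h; exact (h f rfl).symm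
    · intro h x hx
      rw [Set.mem_singleton_iff] at hx
      rw [hx, h]
  have hUE : ∀ w : U, ((w : (Module.End F K)ˣ) : Module.End F K) ∈
      Subalgebra.centralizer F ({f} : Set (Module.End F K)) := by
    intro w
    rw [hmemE]
    have h1 : w * u = u * w := hU.is_comm.comm w u
    have h2 := congrArg (fun x : U => ((x : (Module.End F K)ˣ) : Module.End F K)) h1
    simpa using h2
  have h10 : (1 : K) ≠ 0 := one_ne_zero
  have hev : ∀ e : Module.End F K, e ∈ Subalgebra.centralizer F ({f} : Set (Module.End F K)) →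
      e 1 = 0 → e = 0 := by
    intro e he he1
    by_contra hne
    have := comm_inj f hirr e ((hmemE e).mp he) hne
    have h1 : (1 : K) ∈ LinearMap.ker e := he1
    rw [this] at h1
    exact h10 ((Submodule.mem_bot F).mp h1)
  set E : Subalgebra F (Module.End F K) :=
    Subalgebra.centralizer F ({f} : Set (Module.End F K)) with hE
  have hevinj : Function.Injective (fun e : E => (e : Module.End F K) 1) := by
    intro e₁ e₂ h
    have h1 : ((e₁ - e₂ : E) : Module.End F K) 1 = 0 := by
      have : (e₁ : Module.End F K) 1 = (e₂ : Module.End F K) 1 := h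
      simp [this]
    have := hev _ (e₁ - e₂).2 h1
    exact sub_eq_zero.mp (Subtype.ext this)
  have hEfin : Finite E := Finite.of_injective _ hevinj
  have hEle : Nat.card E ≤ Fintype.card K := by
    rw [← Nat.card_eq_fintype_card]
    exact Nat.card_le_card_of_injective _ hevinj
  have h01 : (0 : Module.End F K) ≠ 1 := by
    intro h
    have := LinearMap.congr_fun h (1 : K)
    simp at this
  have hunit0 : ∀ w : (Module.End F K)ˣ, (w : Module.End F K) ≠ 0 := by
    intro w h
    have := w.inv_mul
    rw [h, mul_zero] at this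
    exact h01 this
  let ι : U → {e : E // e ≠ 0} := fun w =>
    ⟨⟨((w : (Module.End F K)ˣ) : Module.End F K), hUE w⟩, fun h => hunit0 _ (congrArg Subtype.val h)⟩
  have hιinj : Function.Injective ι := by
    intro w w' h
    have h1 : ((w : (Module.End F K)ˣ) : Module.End F K) = ((w' : (Module.End F K)ˣ) : Module.End F K) :=
      congrArg (fun x : {e : E // e ≠ 0} => ((x : E) : Module.End F K)) h
    exact Subtype.ext (Units.ext h1)
  have hcardne : Nat.card {e : E // e ≠ 0} = Nat.card E - 1 := by
    haveI := Fintype.ofFinite E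
    rw [Nat.card_eq_fintype_card, Nat.card_eq_fintype_card, Fintype.card_subtype_compl,
      Fintype.card_subtype_eq]
  have hK2 : 1 < Fintype.card K := Fintype.one_lt_card
  have hle1 : Nat.card U ≤ Nat.card {e : E // e ≠ 0} := Nat.card_le_card_of_injective ι hιinj
  have hEcard : Nat.card E = Fintype.card K := by
    rw [hcard, hcardne] at hle1
    omega
  have hιbij : Function.Bijective ι := by
    apply hιinj.bijective_of_nat_card_le
    rw [hcardne, hcard, hEcard]
  have hsurj : ∀ e : E, e ≠ 0 → ∃ w : U, ((w : (Module.End F K)ˣ) : Module.End F K) = (e : Module.End F K) := by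
    intro e he
    obtain ⟨w, hw⟩ := hιbij.2 ⟨e, he⟩
    exact ⟨w, congrArg (fun x : {e : E // e ≠ 0} => ((x : E) : Module.End F K)) hw⟩
  have hEfield : IsField E := by
    refine ⟨⟨0, 1, fun h => h01 (congrArg Subtype.val h)⟩, ?_, ?_⟩
    · intro a b
      by_cases ha : a = 0
      · rw [ha, zero_mul, mul_zero]
      by_cases hb : b = 0
      · rw [hb, zero_mul, mul_zero]
      obtain ⟨wa, hwa⟩ := hsurj a ha
      obtain ⟨wb, hwb⟩ := hsurj b hb
      apply Subtype.ext
      show (a : Module.End F K) * (b : Module.End F K) = (b : Module.End F K) * (a : Module.End F K)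
      rw [← hwa, ← hwb]
      have h1 : wa * wb = wb * wa := hU.is_comm.comm wa wb
      have h2 := congrArg (fun x : U => ((x : (Module.End F K)ˣ) : Module.End F K)) h1
      simpa using h2
    · intro a ha
      obtain ⟨wa, hwa⟩ := hsurj a ha
      refine ⟨⟨((wa⁻¹ : U) : (Module.End F K)ˣ), hUE wa⁻¹⟩, ?_⟩
      apply Subtype.ext
      show (a : Module.End F K) * (((wa⁻¹ : U) : (Module.End F K)ˣ) : Module.End F K) = 1
      rw [← hwa]
      simp
  letI : Field E := hEfield.toField
  have hfinrank : Module.finrank F E = Module.finrank F K := by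
    have h1 : Nat.card E = Fintype.card F ^ Module.finrank F E := by
      rw [Module.natCard_eq_pow_finrank (K := F) (V := E), Nat.card_eq_fintype_card]
    have h2 : Fintype.card K = Fintype.card F ^ Module.finrank F K :=
      Module.card_eq_pow_finrank (K := F) (V := K)
    rw [hEcard, h2] at h1
    exact (Nat.pow_right_injective (Fintype.one_lt_card (α := F)) h1).symm
  obtain ⟨φ⟩ := FiniteField.nonempty_algHom_of_finrank_dvd (F := F) (K := K) (L := E)
    (dvd_of_eq hfinrank.symm)
  have hφinj : Function.Injective φ := φ.toRingHom.injective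
  have hφbij : Function.Bijective φ := hφinj.bijective_of_nat_card_le
    (by rw [hEcard, Nat.card_eq_fintype_card])
  let g₀ : K →ₗ[F] K :=
    { toFun := fun k => ((φ k : E) : Module.End F K) 1
      map_add' := by intro a b; simp
      map_smul' := by intro c a; simp }
  have hg₀mul : ∀ k v : K, g₀ (k * v) = ((φ k : E) : Module.End F K) (g₀ v) := by
    intro k v
    show ((φ (k * v) : E) : Module.End F K) 1 = _
    rw [map_mul]
    rfl
  have hg₀inj : Function.Injective g₀ := by
    rw [← LinearMap.ker_eq_bot, LinearMap.ker_eq_bot']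
    intro k hk
    have : (φ k : E) = 0 := Subtype.ext (hev _ (φ k).2 hk)
    exact hφinj (by rw [this, map_zero])
  have hg₀bij : Function.Bijective g₀ := Finite.injective_iff_bijective.mp hg₀inj
  let G : (Module.End F K)ˣ :=
    LinearMap.GeneralLinearGroup.ofLinearEquiv (LinearEquiv.ofBijective g₀ hg₀bij)
  have hGval : ∀ v, (G : Module.End F K) v = g₀ v := fun v => rfl
  have hkey : ∀ (k : Kˣ) (w : (Module.End F K)ˣ),
      (w : Module.End F K) = ((φ (k : K) : E) : Module.End F K) →
      (MulAut.conj G⁻¹) w = Units.map ((Algebra.lmul F K : K →ₐ[F] Module.End F K) : K →* Module.End F K) k := by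
    intro k w hw
    have h1 : G * Units.map ((Algebra.lmul F K : K →ₐ[F] Module.End F K) : K →* Module.End F K) k
        = w * G := by
      apply Units.ext
      apply LinearMap.ext
      intro v
      show (G : Module.End F K) ((k : K) * v) = (w : Module.End F K) ((G : Module.End F K) v)
      rw [hGval, hGval, hw, hg₀mul]
    rw [MulAut.conj_apply, inv_inv, mul_assoc, ← h1, ← mul_assoc, inv_mul_cancel, one_mul]
  refine ⟨G⁻¹, ?_⟩
  ext y
  rw [Subgroup.mem_map, MonoidHom.mem_range]
  constructor
  · rintro ⟨w, hw, rfl⟩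
    obtain ⟨k, hk⟩ := hφbij.2 ⟨(w : Module.End F K), hUE ⟨w, hw⟩⟩
    have hk0 : k ≠ 0 := by
      rintro rfl
      rw [map_zero] at hk
      exact hunit0 w (congrArg Subtype.val hk).symm
    refine ⟨Units.mk0 k hk0, ?_⟩
    rw [MulEquiv.coe_toMonoidHom]
    exact (hkey (Units.mk0 k hk0) w (by rw [Units.val_mk0, hk])).symm
  · rintro ⟨k, rfl⟩
    have hne : φ (k : K) ≠ 0 := by
      intro h
      exact k.ne_zero (hφinj (by rw [h, map_zero]))
    obtain ⟨w, hw⟩ := hsurj (φ (k : K)) hne
    refine ⟨w, w.2, ?_⟩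
    rw [MulEquiv.coe_toMonoidHom]
    exact hkey k w hw

/-- Let F ⊆ K be finite fields with |F| = q and [K : F] = n ≥ 2, regard K as an n-dimensional F-vector space, and let M ≤ GL_F(K) be the Singer group of multiplications by non-zero elements of K (cyclic of order q^n − 1). Assume (n, q) ≠ (6, 2), and that it is not the case that n = 2 with q a prime such that q + 1 is a power of 2. Then every abelian subgroup of GL_F(K) of order q^n − 1 is conjugate to M. -/
theorem result {F K : Type*} [Field F] [Fintype F] [Field K] [Fintype K] [Algebra F K] (n : ℕ) (hn : 2 ≤ n) (hdim : Module.finrank F K = n)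
    (hex1 : ¬ (n = 6 ∧ Fintype.card F = 2))
    (hex2 : ¬ (n = 2 ∧ (Fintype.card F).Prime ∧ ∃ a : ℕ, Fintype.card F + 1 = 2 ^ a))
    (U : Subgroup (Module.End F K)ˣ) (hU : IsMulCommutative U) (hcard : Nat.card U = Fintype.card K - 1) :
    ∃ g : (Module.End F K)ˣ, U.map (MulAut.conj g).toMonoidHom = (Units.map ((Algebra.lmul F K : K →ₐ[F] Module.End F K) : K →* Module.End F K)).range := by
  obtain ⟨r, hr, h1, h2, h3⟩ := exists_ppd n hn hdim hex1 hex2
  haveI : Fact r.Prime := ⟨hr⟩
  exact main r h1 h2 (h3.trans hdim.symm) U hU hcard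

end Cfsg.Agent.S5947
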