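import Cfsg.Statements.S2495

import Cfsg.Agent.S2904
import Cfsg.Agent.S5947
import Cfsg.Agent.Lib.helper15.SylowVal
set_option autoImplicit false
open Cfsg

namespace Cfsg.Agent.S2495


section arith

def gs (q k : ℕ) : ℕ := ∑ i ∈ Finset.range k, q ^ i

theorem gs_mul (q k : ℕ) (hq : 1 ≤ q) : gs q k * (q - 1) = q ^ k - 1 := by
  unfold gs
  have h1 : 1 ≤ q ^ k := Nat.one_le_pow _ _ hq
  have := geom_sum_mul (q : ℤ) k
  zify [hq, h1]
  exact this

theorem gs_double (q m : ℕ) : gs q (2 * m) = gs q m * (q ^ m + 1) := by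
  unfold gs
  rw [two_mul, Finset.sum_range_add]
  have : ∑ x ∈ Finset.range m, q ^ (m + x) = q ^ m * ∑ x ∈ Finset.range m, q ^ x := by
    rw [Finset.mul_sum]
    apply Finset.sum_congr rfl
    intro i _
    rw [pow_add]
  rw [this]
  ring

theorem gs_modEq (q k d : ℕ) (hq : 1 ≤ q) (hd : d ∣ q - 1) : gs q k ≡ k [MOD d] := by
  unfold gs
  have h1 : q ≡ 1 [MOD d] := by
    have : 1 ≡ q [MOD d] := (Nat.modEq_iff_dvd' hq).mpr hd
    exact this.symm
  have h2 : ∀ i ∈ Finset.range k, q ^ i ≡ 1 [MOD d] := by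
    intro i _
    have := h1.pow i
    rwa [one_pow] at this
  calc ∑ i ∈ Finset.range k, q ^ i ≡ ∑ _i ∈ Finset.range k, 1 [MOD d] := by
        induction k with
        | zero => simp [Nat.ModEq.refl]
        | succ k ih =>
          rw [Finset.sum_range_succ, Finset.sum_range_succ]
          apply Nat.ModEq.add
          · apply ih
            intro i hi
            exact h2 i (Finset.mem_range.mpr (Nat.lt_succ_of_lt (Finset.mem_range.mp hi)))
          · exact h2 k (Finset.mem_range.mpr (Nat.lt_succ_self k))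
    _ = k := by simp

theorem gs_dvd_iff (q k d : ℕ) (hq : 1 ≤ q) (hd : d ∣ q - 1) : d ∣ gs q k ↔ d ∣ k := by
  have h := gs_modEq q k d hq hd
  exact h.dvd_iff dvd_rfl

theorem coprime_aux (q m : ℕ) (hq : 2 ≤ q)
    (h2 : ∀ j, 2 ^ j ∣ q - 1 → 2 ^ j ∣ m) :
    Nat.Coprime (q ^ m + 1) ((q - 1) / Nat.gcd (gs q m) (q - 1)) := by
  set g' := Nat.gcd (gs q m) (q - 1) with hg'
  have hq1 : q - 1 ≠ 0 := by omega
  have hg'dvd : g' ∣ q - 1 := Nat.gcd_dvd_right _ _
  have hg'pos : 0 < g' := Nat.gcd_pos_of_pos_right _ (by omega)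
  set e' := (q - 1) / g' with he'
  have hmul : e' * g' = q - 1 := Nat.div_mul_cancel hg'dvd
  have he'dvd : e' ∣ q - 1 := ⟨g', hmul.symm⟩
  have he'odd : ¬ 2 ∣ e' := by
    intro h
    set a := padicValNat 2 (q - 1) with ha
    have h1 : 2 ^ a ∣ q - 1 := pow_padicValNat_dvd
    have h3 : 2 ^ a ∣ gs q m := (gs_dvd_iff q m _ (by omega) h1).mpr (h2 a h1)
    have h4 : 2 ^ a ∣ g' := Nat.dvd_gcd h3 h1
    have h5 : 2 ^ (a + 1) ∣ q - 1 := by
      rw [← hmul, pow_succ, mul_comm]
      exact Nat.mul_dvd_mul h h4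
    exact pow_succ_padicValNat_not_dvd hq1 h5
  set d := Nat.gcd (q ^ m + 1) e' with hd
  have hd1 : d ∣ q ^ m + 1 := Nat.gcd_dvd_left _ _
  have hd2 : d ∣ e' := Nat.gcd_dvd_right _ _
  have hd3 : d ∣ q - 1 := hd2.trans he'dvd
  have hd4 : d ∣ q ^ m - 1 := by
    have := gs_mul q m (by omega)
    rw [← this]
    exact Dvd.dvd.mul_left hd3 _
  have hpos : 1 ≤ q ^ m := Nat.one_le_pow _ _ (by omega)
  have hd5 : d ∣ 2 := by
    have h := Nat.dvd_sub hd1 hd4
    have : q ^ m + 1 - (q ^ m - 1) = 2 := by omega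
    rwa [this] at h
  have hd6 : d = 1 ∨ d = 2 := by
    have := Nat.le_of_dvd (by norm_num) hd5
    have hd0 : d ≠ 0 := by
      intro h0
      rw [h0] at hd5
      simp at hd5
    have hd7 : d ≤ 2 := this
    omega
  rcases hd6 with h | h
  · exact h
  · exfalso
    rw [h] at hd2
    exact he'odd hd2

end arith

theorem torsion_mem {F L : Type*} [Field F] [Fintype F] [Field L] [Algebra F L] (e : L)
    (he : e ^ (Fintype.card F - 1) = 1) : ∃ c : F, algebraMap F L c = e := by
  classical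
  have hq : 1 < Fintype.card F := Fintype.one_lt_card
  have hpos : 0 < Fintype.card F - 1 := by omega
  set S := Polynomial.nthRootsFinset (Fintype.card F - 1) (1 : L) with hS
  set T : Finset L := (Finset.univ : Finset Fˣ).image (fun c : Fˣ => algebraMap F L (c : F)) with hT
  have hTS : T ⊆ S := by
    intro y hy
    rw [hT, Finset.mem_image] at hy
    obtain ⟨c, _, rfl⟩ := hy
    rw [hS, Polynomial.mem_nthRootsFinset hpos, ← map_pow,
      FiniteField.pow_card_sub_one_eq_one _ c.ne_zero, map_one]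
  have hTcard : T.card = Fintype.card F - 1 := by
    rw [hT, Finset.card_image_of_injective, Finset.card_univ, Fintype.card_units]
    intro c c' h
    exact Units.ext ((algebraMap F L).injective h)
  have hScard : S.card ≤ Fintype.card F - 1 := by
    rw [hS, Polynomial.nthRootsFinset_def]
    exact (Multiset.toFinset_card_le _).trans (Polynomial.card_nthRoots _ _)
  have hTS' : T = S := Finset.eq_of_subset_of_card_le hTS (by rw [hTcard]; exact hScard)
  have heS : e ∈ S := by
    rw [hS, Polynomial.mem_nthRootsFinset hpos]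
    exact he
  rw [← hTS', hT, Finset.mem_image] at heS
  obtain ⟨c, _, hc⟩ := heS
  exact ⟨c, hc⟩

theorem mk_pow_eq_one_iff {F : Type*} [Field F] {n : ℕ} (x : Matrix.SpecialLinearGroup (Fin n) F)
    (t : ℕ) :
    ((QuotientGroup.mk x : Matrix.ProjectiveSpecialLinearGroup (Fin n) F) ^ t = 1) ↔
      ∃ c : F, ((x ^ t : Matrix.SpecialLinearGroup (Fin n) F) : Matrix (Fin n) (Fin n) F)
        = c • (1 : Matrix (Fin n) (Fin n) F) := by
  rw [← QuotientGroup.mk_pow, QuotientGroup.eq_one_iff, Matrix.SpecialLinearGroup.mem_center_iff]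
  constructor
  · rintro ⟨r, _, hr⟩
    refine ⟨r, ?_⟩
    rw [← hr, Matrix.smul_one_eq_diagonal]
    rfl
  · rintro ⟨c, hc⟩
    refine ⟨c, ?_, ?_⟩
    · have h1 := (x ^ t).det_coe
      rw [hc, Matrix.det_smul, Matrix.det_one, mul_one] at h1
      exact h1
    · rw [hc, Matrix.smul_one_eq_diagonal]
      rfl

theorem exists_y {F K : Type*} [Field F] [Fintype F] [Field K] [Fintype K] [Algebra F K] (m : ℕ)
    (hm : 1 ≤ m) (hfr : Module.finrank F K = 2 * m)
    (h2 : ∀ j, 2 ^ j ∣ Fintype.card F - 1 → 2 ^ j ∣ m) :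
    ∃ y : Kˣ, (y : K) ^ (gs (Fintype.card F) (2 * m)) = 1 ∧
      (∃ c : F, algebraMap F K c = (y : K) ^ (Fintype.card F ^ m + 1)) ∧
      ∀ t, (∃ c : F, algebraMap F K c = (y : K) ^ t) → (Fintype.card F ^ m + 1) ∣ t := by
  classical
  set q := Fintype.card F with hqdef
  have hq : 2 ≤ q := Fintype.one_lt_card
  have hK : Fintype.card K = q ^ (2 * m) := by
    rw [Module.card_eq_pow_finrank (K := F) (V := K), hfr]
  obtain ⟨ζ, hζ⟩ := IsCyclic.exists_generator (α := Kˣ)
  have hζo : orderOf ζ = q ^ (2 * m) - 1 := by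
    rw [orderOf_eq_card_of_forall_mem_zpowers hζ, Nat.card_eq_fintype_card, Fintype.card_units, hK]
  have hQ : gs q (2 * m) * (q - 1) = q ^ (2 * m) - 1 := gs_mul q (2 * m) (by omega)
  have hQR : gs q (2 * m) = gs q m * (q ^ m + 1) := gs_double q m
  set g' := Nat.gcd (gs q m) (q - 1) with hg'
  have hg'dvd : g' ∣ q - 1 := Nat.gcd_dvd_right _ _
  have hg'dvdR : g' ∣ gs q m := Nat.gcd_dvd_left _ _
  set e' := (q - 1) / g' with he'
  have hmul : e' * g' = q - 1 := Nat.div_mul_cancel hg'dvd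
  obtain ⟨R', hR'⟩ := hg'dvdR
  have hcop := coprime_aux q m hq h2
  rw [← hg', ← he'] at hcop
  have hRpos : 0 < gs q m := by
    unfold gs
    apply Finset.sum_pos
    · intro i _
      exact Nat.pow_pos (by omega)
    · exact ⟨0, Finset.mem_range.mpr (by omega)⟩
  have hpow1 : ∀ k : ℕ, (q ^ (2 * m) - 1) ∣ k → ζ ^ k = 1 := by
    intro k hk
    rw [← hζo] at hk
    exact orderOf_dvd_iff_pow_eq_one.mp hk
  refine ⟨ζ ^ (gs q m * e'), ?_, ?_, ?_⟩
  · have h1 : (ζ ^ (gs q m * e')) ^ (gs q (2 * m)) = 1 := by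
      rw [← pow_mul]
      apply hpow1
      refine ⟨R', ?_⟩
      rw [← hQ, ← hmul, hR']
      ring
    have := congrArg Units.val h1
    simpa using this
  · apply torsion_mem
    have h1 : ((ζ ^ (gs q m * e')) ^ (q ^ m + 1)) ^ (q - 1) = 1 := by
      rw [← pow_mul, ← pow_mul]
      apply hpow1
      refine ⟨e', ?_⟩
      rw [← hQ, hQR]
      ring
    have := congrArg Units.val h1
    simpa using this
  · rintro t ⟨c, hc⟩
    have hc0 : c ≠ 0 := by
      rintro rfl
      rw [map_zero] at hc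
      have : ((ζ ^ (gs q m * e') : Kˣ) : K) ^ t ≠ 0 := pow_ne_zero _ (Units.ne_zero _)
      exact this hc.symm
    have h1 : ((ζ ^ (gs q m * e')) ^ t) ^ (q - 1) = 1 := by
      apply Units.ext
      rw [Units.val_pow_eq_pow_val, Units.val_pow_eq_pow_val, ← hc, ← map_pow,
        FiniteField.pow_card_sub_one_eq_one c hc0, map_one]
      rfl
    rw [← pow_mul, ← pow_mul] at h1
    have h3 := orderOf_dvd_iff_pow_eq_one.mpr h1
    rw [hζo, ← hQ, hQR] at h3
    have h4 : gs q m * (q ^ m + 1) * (q - 1) ∣ gs q m * (e' * t) * (q - 1) := by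
      convert h3 using 1
      ring
    have h5 : gs q m * (q ^ m + 1) ∣ gs q m * (e' * t) :=
      Nat.dvd_of_mul_dvd_mul_right (by omega) h4
    have h6 : q ^ m + 1 ∣ e' * t := Nat.dvd_of_mul_dvd_mul_left hRpos h5
    exact hcop.dvd_of_dvd_mul_left h6

theorem exists_elt {F : Type*} [Field F] [Fintype F] (m : ℕ) (hm : 1 ≤ m)
    (h2 : ∀ j, 2 ^ j ∣ Fintype.card F - 1 → 2 ^ j ∣ m) :
    ∃ g : Matrix.ProjectiveSpecialLinearGroup (Fin (2 * m)) F,
      orderOf g = Fintype.card F ^ m + 1 := by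
  classical
  obtain ⟨p, hp⟩ := CharP.exists F
  haveI : Fact p.Prime := ⟨CharP.char_is_prime F p⟩
  haveI : NeZero (2 * m) := ⟨by omega⟩
  let K := FiniteField.Extension F p (2 * m)
  haveI : Fintype K := Fintype.ofFinite K
  have hfr : Module.finrank F K = 2 * m := FiniteField.finrank_extension F p (2 * m)
  have hq : 2 ≤ Fintype.card F := Fintype.one_lt_card
  obtain ⟨y, hy1, ⟨c₀, hc₀⟩, hy3⟩ := exists_y (F := F) (K := K) m hm hfr h2
  let b : Module.Basis (Fin (2 * m)) F K := Module.finBasisOfFinrankEq F K hfr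
  have hρinj : Function.Injective (Algebra.leftMulMatrix b) := Algebra.leftMulMatrix_injective b
  have hdet : (Algebra.leftMulMatrix b (y : K)).det = 1 := by
    rw [← Algebra.norm_eq_matrix_det b]
    have h := FiniteField.algebraMap_norm_eq_pow (K := F) (K' := K) (x := (y : K))
    have hexp : (Nat.card K - 1) / (Nat.card F - 1) = gs (Fintype.card F) (2 * m) := by
      rw [FiniteField.natCard_extension F p (2 * m), Nat.card_eq_fintype_card]
      exact Nat.div_eq_of_eq_mul_left (by omega) (gs_mul _ _ (by omega)).symm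
    rw [hexp, hy1] at h
    exact (algebraMap F K).injective (by rw [h, map_one])
  let X : Matrix.SpecialLinearGroup (Fin (2 * m)) F := ⟨Algebra.leftMulMatrix b (y : K), hdet⟩
  have hXpow : ∀ t : ℕ, ((X ^ t : Matrix.SpecialLinearGroup (Fin (2 * m)) F) :
      Matrix (Fin (2 * m)) (Fin (2 * m)) F) = Algebra.leftMulMatrix b ((y : K) ^ t) := by
    intro t
    rw [Matrix.SpecialLinearGroup.coe_pow, map_pow]
  have hscal : ∀ t : ℕ, (∃ c : F, ((X ^ t : Matrix.SpecialLinearGroup (Fin (2 * m)) F) :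
      Matrix (Fin (2 * m)) (Fin (2 * m)) F) = c • (1 : Matrix (Fin (2 * m)) (Fin (2 * m)) F)) ↔
      ∃ c : F, algebraMap F K c = (y : K) ^ t := by
    intro t
    rw [hXpow]
    constructor
    · rintro ⟨c, hc⟩
      refine ⟨c, hρinj ?_⟩
      rw [hc, AlgHom.commutes, Algebra.algebraMap_eq_smul_one]
    · rintro ⟨c, hc⟩
      refine ⟨c, ?_⟩
      rw [← hc, AlgHom.commutes, Algebra.algebraMap_eq_smul_one]
  refine ⟨QuotientGroup.mk X, ?_⟩
  rw [orderOf_eq_iff (by positivity)]
  constructor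
  · rw [mk_pow_eq_one_iff, hscal]
    exact ⟨c₀, hc₀⟩
  · intro t ht htpos h
    rw [mk_pow_eq_one_iff, hscal] at h
    have := Nat.le_of_dvd htpos (hy3 t h)
    omega

open Cfsg.Agent.Lib.helper15.SylowVal in
theorem ppd_num (q n : ℕ) (hq : 2 ≤ q) (hn : 3 ≤ n) (h6 : ¬ (q = 2 ∧ n = 6)) :
    ∃ r : ℕ, r.Prime ∧ r ∣ q ^ n - 1 ∧ ¬ r ∣ q ∧ orderOf ((q : ℕ) : ZMod r) = n ∧
      ∀ k : ℕ, 0 < k → k < n → ¬ r ∣ q ^ k - 1 := by
  obtain ⟨r, hr, hrdvd, hrmin⟩ := Cfsg.Agent.S2904.result q n (by omega) (by omega) h6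
    (fun h => by omega)
  haveI : Fact r.Prime := ⟨hr⟩
  have hpos : 1 ≤ q ^ n := Nat.one_le_pow _ _ (by omega)
  have hrq : ¬ r ∣ q := by
    intro h
    have h1 : r ∣ q ^ n := dvd_pow h (by omega)
    have h2 : r ∣ 1 := by
      have := Nat.dvd_sub h1 hrdvd
      rwa [Nat.sub_sub_self hpos] at this
    exact hr.one_lt.ne' (Nat.dvd_one.mp h2)
  refine ⟨r, hr, hrdvd, hrq, ?_, hrmin⟩
  have ho1 : orderOf ((q : ℕ) : ZMod r) ∣ n :=
    (dvd_pow_sub_one_iff q (by omega) n).mp hrdvd
  have ho2 : 0 < orderOf ((q : ℕ) : ZMod r) := orderOf_pos' _ hrq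
  have ho3 : ¬ orderOf ((q : ℕ) : ZMod r) < n := by
    intro hlt
    exact hrmin _ ho2 hlt ((dvd_pow_sub_one_iff q (by omega) _).mpr dvd_rfl)
  have ho4 := Nat.le_of_dvd (by omega) ho1
  omega

theorem of_elt {F : Type*} [Field F] [Fintype F] (m : ℕ) (hm : 2 ≤ m)
    (hodd : Odd (Fintype.card F))
    (x : Matrix.SpecialLinearGroup (Fin (2 * m)) F)
    (hx : orderOf (QuotientGroup.mk x : Matrix.ProjectiveSpecialLinearGroup (Fin (2 * m)) F) =
      Fintype.card F ^ m + 1) :
    ∀ j, 2 ^ j ∣ Fintype.card F - 1 → 2 ^ j ∣ m := by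
  classical
  set q := Fintype.card F with hqdef
  have hq : 2 ≤ q := Fintype.one_lt_card
  have hq3 : q ≠ 2 := by
    rintro h
    rw [h] at hodd
    exact absurd hodd (by decide)
  obtain ⟨r, hr, hrdvd, hrq, hord, hrmin⟩ := ppd_num q (2 * m) hq (by omega) (fun h => hq3 h.1)
  haveI : Fact r.Prime := ⟨hr⟩
  have hr1 : ¬ r ∣ q - 1 := by
    have := hrmin 1 (by omega) (by omega)
    rwa [pow_one] at this
  have hrm : ¬ r ∣ q ^ m - 1 := hrmin m (by omega) (by omega)
  have hqm1 : 1 ≤ q ^ m := Nat.one_le_pow _ _ (by omega)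
  have hfac : q ^ (2 * m) - 1 = (q ^ m - 1) * (q ^ m + 1) := by
    have : q ^ (2 * m) = q ^ m * q ^ m := by rw [two_mul, pow_add]
    rw [this]
    zify [hqm1, Nat.one_le_iff_ne_zero.mpr (Nat.mul_ne_zero (by omega : q ^ m ≠ 0) (by omega : q ^ m ≠ 0))]
    ring
  have hrN : r ∣ q ^ m + 1 := by
    rw [hfac] at hrdvd
    exact (hr.dvd_mul.mp hrdvd).resolve_left hrm
  obtain ⟨k, hk⟩ := hrN
  have hkpos : 0 < k := by
    rcases Nat.eq_zero_or_pos k with h | h
    · rw [h, mul_zero] at hk; omega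
    · exact h
  obtain ⟨c, hc⟩ := (mk_pow_eq_one_iff x (q ^ m + 1)).mp (by rw [← hx]; exact pow_orderOf_eq_one (QuotientGroup.mk x : Matrix.ProjectiveSpecialLinearGroup (Fin (2 * m)) F))
  have hc0 : c ≠ 0 := by
    rintro rfl
    have h1 := (x ^ (q ^ m + 1)).det_coe
    haveI : Nonempty (Fin (2 * m)) := ⟨⟨0, by omega⟩⟩
    rw [hc, zero_smul, Matrix.det_zero] at h1
    exact zero_ne_one h1
  set h := x ^ (k * (q - 1)) with hh
  have hhr : h ^ r = 1 := by
    apply Subtype.ext
    rw [hh, ← pow_mul]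
    have : k * (q - 1) * r = (q ^ m + 1) * (q - 1) := by rw [hk]; ring
    rw [this, pow_mul, Matrix.SpecialLinearGroup.coe_pow, hc, smul_pow, one_pow,
      FiniteField.pow_card_sub_one_eq_one c hc0, one_smul]
    rfl
  have hh1 : h ≠ 1 := by
    intro h1
    have h2 : (QuotientGroup.mk x : Matrix.ProjectiveSpecialLinearGroup (Fin (2 * m)) F) ^
        (k * (q - 1)) = 1 := by
      rw [← QuotientGroup.mk_pow, ← hh, h1]
      rfl
    have h3 := orderOf_dvd_iff_pow_eq_one.mpr h2
    rw [hx, hk] at h3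
    have h4 : r ∣ q - 1 := by
      have : k * r ∣ k * (q - 1) := by rwa [mul_comm k r]
      exact Nat.dvd_of_mul_dvd_mul_left hkpos this
    exact hr1 h4
  let T : Matrix (Fin (2 * m)) (Fin (2 * m)) F ≃ₐ[F] Module.End F (Fin (2 * m) → F) :=
    Matrix.toLinAlgEquiv'
  have hTdet : ∀ M : Matrix (Fin (2 * m)) (Fin (2 * m)) F, LinearMap.det (T M) = M.det := by
    intro M
    exact LinearMap.det_toLin' M
  set f : Module.End F (Fin (2 * m) → F) := T (h : Matrix (Fin (2 * m)) (Fin (2 * m)) F) with hf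
  have hfr : f ^ r = 1 := by
    rw [hf, ← map_pow, ← Matrix.SpecialLinearGroup.coe_pow, hhr]
    simp
  have hf1 : f ≠ 1 := by
    intro h1
    apply hh1
    apply Subtype.ext
    apply T.injective
    rw [← hf, h1]
    simp
  have hfinrank : Module.finrank F (Fin (2 * m) → F) = 2 * m := Module.finrank_fin_fun F
  have hirr := Cfsg.Agent.S5947.irr_of_ppd f r hfr hf1 hrq (hord.trans hfinrank.symm)
  have hmemE : ∀ g : Module.End F (Fin (2 * m) → F),
      g ∈ Subalgebra.centralizer F ({f} : Set (Module.End F (Fin (2 * m) → F))) ↔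
      g * f = f * g := by
    intro g
    rw [Subalgebra.mem_centralizer_iff]
    constructor
    · intro h; exact (h f rfl).symm
    · intro h x hx
      rw [Set.mem_singleton_iff] at hx
      rw [hx, h]
  set E : Subalgebra F (Module.End F (Fin (2 * m) → F)) :=
    Subalgebra.centralizer F ({f} : Set (Module.End F (Fin (2 * m) → F))) with hE
  have hfE : f ∈ E := (hmemE f).mpr rfl
  have hxE : T (x : Matrix (Fin (2 * m)) (Fin (2 * m)) F) ∈ E := by
    rw [hmemE, hf, hh, Matrix.SpecialLinearGroup.coe_pow, map_pow]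
    exact (Commute.pow_right (Commute.refl _) _).eq
  have hker : ∀ e : E, e ≠ 0 → LinearMap.ker (e : Module.End F (Fin (2 * m) → F)) = ⊥ := by
    intro e he
    apply Cfsg.Agent.S5947.comm_inj f hirr _ ((hmemE _).mp e.2)
    intro h0
    exact he (Subtype.ext h0)
  have h01 : (0 : Module.End F (Fin (2 * m) → F)) ≠ 1 := by
    intro h
    have := LinearMap.congr_fun h (Pi.single ⟨0, by omega⟩ 1)
    have h2 := congrFun this ⟨0, by omega⟩
    simp at h2
  haveI : Nontrivial E := ⟨⟨0, 1, fun h => h01 (congrArg Subtype.val h)⟩⟩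
  haveI : NoZeroDivisors E := by
    refine ⟨?_⟩
    intro a b hab
    by_cases ha : a = 0
    · left; exact ha
    · right
      have hka := hker a ha
      apply Subtype.ext
      apply LinearMap.ext
      intro v
      have h1 : (a : Module.End F (Fin (2 * m) → F)) ((b : Module.End F (Fin (2 * m) → F)) v) = 0 := by
        have := congrArg (fun e : E => (e : Module.End F (Fin (2 * m) → F)) v) hab
        simpa using this
      have h2 : (b : Module.End F (Fin (2 * m) → F)) v ∈
          LinearMap.ker (a : Module.End F (Fin (2 * m) → F)) := h1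
      rw [hka] at h2
      simpa using h2
  haveI : IsDomain E := NoZeroDivisors.to_isDomain E
  haveI : Finite E := by
    apply Finite.of_injective (fun e : E => ((e : Module.End F (Fin (2 * m) → F)) :
      (Fin (2 * m) → F) → (Fin (2 * m) → F)))
    intro a b hab
    apply Subtype.ext
    exact DFunLike.coe_injective hab
  have hEfield : IsField E := Finite.isDomain_to_isField E
  letI : Field E := hEfield.toField
  let v₀ : Fin (2 * m) → F := Pi.single ⟨0, by omega⟩ 1
  have hv₀ : v₀ ≠ 0 := by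
    intro h
    have h2 := congrFun h ⟨0, by omega⟩
    simp [v₀] at h2
  let ev : E →ₗ[F] (Fin (2 * m) → F) :=
    { toFun := fun e => (e : Module.End F (Fin (2 * m) → F)) v₀
      map_add' := by intro a b; simp
      map_smul' := by intro c a; simp }
  have hevapp : ∀ e : E, ev e = (e : Module.End F (Fin (2 * m) → F)) v₀ := fun e => rfl
  have hevinj : Function.Injective ev := by
    rw [← LinearMap.ker_eq_bot, LinearMap.ker_eq_bot']
    intro e he
    by_contra hne
    have h1 : v₀ ∈ LinearMap.ker (e : Module.End F (Fin (2 * m) → F)) := he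
    rw [hker e hne] at h1
    exact hv₀ ((Submodule.mem_bot F).mp h1)
  have hevsurj : Function.Surjective ev := by
    rw [← LinearMap.range_eq_top]
    rcases hirr (LinearMap.range ev) (by
      rintro _ ⟨e, rfl⟩
      refine ⟨⟨f, hfE⟩ * e, ?_⟩
      rw [hevapp, hevapp]
      rfl) with h | h
    · exfalso
      have h1 : v₀ ∈ LinearMap.range ev := ⟨1, by rw [hevapp]; rfl⟩
      rw [h] at h1
      exact hv₀ ((Submodule.mem_bot F).mp h1)
    · exact h
  let evE : E ≃ₗ[F] (Fin (2 * m) → F) := LinearEquiv.ofBijective ev ⟨hevinj, hevsurj⟩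
  have hEcard : Nat.card E = q ^ (2 * m) := by
    rw [Nat.card_congr evE.toEquiv, Nat.card_eq_fintype_card, Fintype.card_fun, Fintype.card_fin]
  set xE : E := ⟨T (x : Matrix (Fin (2 * m)) (Fin (2 * m)) F), hxE⟩ with hxEdef
  have hnorm : Algebra.norm F xE = 1 := by
    rw [Algebra.norm_apply, ← LinearMap.det_conj (Algebra.lmul F E xE) evE]
    have h2 : (evE : E →ₗ[F] (Fin (2 * m) → F)) ∘ₗ (Algebra.lmul F E xE) ∘ₗ
        (evE.symm : (Fin (2 * m) → F) →ₗ[F] E) = T (x : Matrix (Fin (2 * m)) (Fin (2 * m)) F) := by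
      apply LinearMap.ext
      intro v
      have h3 : ev (evE.symm v) = v := evE.apply_symm_apply v
      show ev (xE * evE.symm v) = _
      rw [hevapp]
      show (T (x : Matrix (Fin (2 * m)) (Fin (2 * m)) F))
        (((evE.symm v : E) : Module.End F (Fin (2 * m) → F)) v₀) = _
      rw [← hevapp, h3]
    rw [h2, hTdet, x.det_coe]
  have hpowQ : xE ^ (gs q (2 * m)) = 1 := by
    have h := FiniteField.algebraMap_norm_eq_pow (K := F) (K' := E) (x := xE)
    have hexp : (Nat.card E - 1) / (Nat.card F - 1) = gs q (2 * m) := by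
      rw [hEcard, Nat.card_eq_fintype_card]
      exact Nat.div_eq_of_eq_mul_left (by omega) (gs_mul _ _ (by omega)).symm
    rw [hnorm, map_one, hexp] at h
    exact h.symm
  set Q := gs q (2 * m) with hQdef
  set g := Nat.gcd Q (q - 1) with hgdef
  have hgQ : g ∣ Q := Nat.gcd_dvd_left _ _
  have hgq : g ∣ q - 1 := Nat.gcd_dvd_right _ _
  obtain ⟨t, ht⟩ := hgQ
  obtain ⟨s', hs'⟩ := hgq
  have hpow2 : (xE ^ t) ^ (q - 1) = 1 := by
    rw [← pow_mul]
    have : t * (q - 1) = Q * s' := by rw [ht, hs']; ring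
    rw [this, pow_mul, hpowQ, one_pow]
  obtain ⟨c', hc'⟩ := torsion_mem (F := F) (L := E) (xE ^ t) hpow2
  have hscal : ((x ^ t : Matrix.SpecialLinearGroup (Fin (2 * m)) F) :
      Matrix (Fin (2 * m)) (Fin (2 * m)) F) = c' • (1 : Matrix (Fin (2 * m)) (Fin (2 * m)) F) := by
    apply T.injective
    have h1 := congrArg (fun e : E => (e : Module.End F (Fin (2 * m) → F))) hc'
    simp only [Subalgebra.coe_algebraMap] at h1
    rw [Matrix.SpecialLinearGroup.coe_pow, map_pow, map_smul, map_one,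
      ← Algebra.algebraMap_eq_smul_one, h1]
    rfl
  have hdvd : q ^ m + 1 ∣ t := by
    rw [← hx]
    apply orderOf_dvd_iff_pow_eq_one.mpr
    rw [mk_pow_eq_one_iff]
    exact ⟨c', hscal⟩
  have hQR : Q = gs q m * (q ^ m + 1) := gs_double q m
  have hgR : g ∣ gs q m := by
    obtain ⟨t', ht'⟩ := hdvd
    refine ⟨t', ?_⟩
    have h1 : gs q m * (q ^ m + 1) = (g * t') * (q ^ m + 1) := by
      rw [← hQR, ht, ht']
      ring
    exact Nat.eq_of_mul_eq_mul_right (by omega) h1
  intro j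
  induction j with
  | zero => intro _; simp
  | succ j ih =>
    intro hj
    have hj' : 2 ^ j ∣ q - 1 := (pow_dvd_pow 2 (Nat.le_succ j)).trans hj
    have h1 : 2 ^ j ∣ m := ih hj'
    have h2 : 2 ^ (j + 1) ∣ 2 * m := by
      rw [pow_succ, mul_comm]
      exact Nat.mul_dvd_mul_left 2 h1
    have h3 : 2 ^ (j + 1) ∣ Q := (gs_dvd_iff q (2 * m) _ (by omega) hj).mpr h2
    have h4 : 2 ^ (j + 1) ∣ g := Nat.dvd_gcd h3 hj
    exact (gs_dvd_iff q m _ (by omega) hj).mp (h4.trans hgR)

/-- Let q be an odd prime power, n ≥ 4 even, and L = PSL(n,q). Then L has an element of order q^(n/2) + 1 if and only if the 2-part of n exceeds the 2-part of q − 1. -/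
theorem result {F : Type*} [Field F] [Fintype F] {q : ℕ} (hF : Fintype.card F = q) (hodd : Odd q)
    {n : ℕ} (hn : 4 ≤ n) (heven : Even n) :
    (∃ g : Matrix.ProjectiveSpecialLinearGroup (Fin n) F, orderOf g = q ^ (n / 2) + 1) ↔
      padicValNat 2 (q - 1) < padicValNat 2 n := by
  obtain ⟨m, hm⟩ := heven
  have hnm : n = 2 * m := by omega
  subst hnm
  subst hF
  have hm2 : 2 ≤ m := by omega
  have hdiv : 2 * m / 2 = m := by omega
  rw [hdiv]
  have hq : 2 ≤ Fintype.card F := Fintype.one_lt_card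
  have hq1 : Fintype.card F - 1 ≠ 0 := by omega
  have hval : padicValNat 2 (2 * m) = padicValNat 2 m + 1 := by
    rw [padicValNat.mul (by norm_num) (by omega), padicValNat_self]
    ring
  have hiff : padicValNat 2 (Fintype.card F - 1) < padicValNat 2 (2 * m) ↔
      ∀ j, 2 ^ j ∣ Fintype.card F - 1 → 2 ^ j ∣ m := by
    rw [hval, Nat.lt_succ_iff]
    constructor
    · intro h j hj
      have h1 : j ≤ padicValNat 2 (Fintype.card F - 1) := (padicValNat_dvd_iff_le hq1).mp hj
      exact (padicValNat_dvd_iff_le (by omega)).mpr (h1.trans h)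
    · intro h
      exact (padicValNat_dvd_iff_le (by omega)).mp (h _ pow_padicValNat_dvd)
  rw [hiff]
  constructor
  · rintro ⟨g, hg⟩
    obtain ⟨x, rfl⟩ := QuotientGroup.mk_surjective g
    exact of_elt m hm2 hodd x hg
  · intro h
    exact exists_elt m (by omega) h

end Cfsg.Agent.S2495
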