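import Cfsg.Statements.S2368

import Mathlib
set_option autoImplicit false
open Cfsg

namespace Cfsg.Agent.S2368


open Matrix

theorem nilp_pow_card {F : Type*} [Field F] {m : ℕ} (N : Matrix (Fin m) (Fin m) F)
    (hN : IsNilpotent N) : N ^ m = 0 := by
  have h1 := Matrix.isNilpotent_charpoly_sub_pow_of_isNilpotent hN
  have h2 : N.charpoly - Polynomial.X ^ (Fintype.card (Fin m)) = 0 := h1.eq_zero
  have h3 : N.charpoly = Polynomial.X ^ m := by
    rw [sub_eq_zero] at h2
    simpa using h2
  have h4 := Matrix.aeval_self_charpoly N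
  rw [h3] at h4
  simpa using h4

def J (F : Type*) [Field F] (m : ℕ) : Matrix (Fin m) (Fin m) F :=
  Matrix.of fun i j => if j.val = i.val + 1 then 1 else 0

theorem J_pow {F : Type*} [Field F] (m : ℕ) (t : ℕ) (i j : Fin m) :
    (J F m ^ t) i j = if j.val = i.val + t then 1 else 0 := by
  induction t generalizing i j with
  | zero =>
    simp [Matrix.one_apply, Fin.ext_iff, eq_comm]
  | succ t ih =>
    rw [pow_succ, Matrix.mul_apply]
    have hJ : ∀ b : Fin m, J F m b j = if j.val = b.val + 1 then 1 else 0 := fun b => rfl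
    simp only [ih, hJ]
    by_cases h : j.val = i.val + (t + 1)
    · rw [if_pos h]
      have hlt : i.val + t < m := by have := j.2; omega
      rw [Finset.sum_eq_single (⟨i.val + t, hlt⟩ : Fin m)]
      · simp [h]; omega
      · intro b _ hb
        by_cases hb' : b.val = i.val + t
        · exact absurd (Fin.ext hb') hb
        · simp [hb']
      · intro h'; exact absurd (Finset.mem_univ _) h'
    · rw [if_neg h]
      apply Finset.sum_eq_zero
      intro b _
      by_cases hb' : b.val = i.val + t
      · have : ¬ (j.val = b.val + 1) := by omega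
        simp [this]
      · simp [hb']

/-- Let F be a finite field of characteristic p and m ≥ 1. Every element of GL(m, F) of p-power order has order less than p·m, and GL(m, F) has an element of p-power order at least m; so the largest order of a p-element of GL(m, F) is the least power of p that is at least m. -/
theorem result {F : Type*} [Field F] [Fintype F] (p : ℕ) [Fact p.Prime] [CharP F p] (m : ℕ) (hm : 1 ≤ m) :
    (∀ g : Matrix.GeneralLinearGroup (Fin m) F, (∃ j : ℕ, orderOf g = p ^ j) → orderOf g < p * m) ∧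
      ∃ g : Matrix.GeneralLinearGroup (Fin m) F, (∃ j : ℕ, orderOf g = p ^ j) ∧ m ≤ orderOf g := by
  classical
  have hp : p.Prime := Fact.out
  have : Nonempty (Fin m) := ⟨⟨0, hm⟩⟩
  have : CharP (Matrix (Fin m) (Fin m) F) p := inferInstance
  set k := Nat.clog p m with hk
  have hmk : m ≤ p ^ k := Nat.le_pow_clog hp.one_lt m
  have hkm : p ^ k < p * m := by
    by_cases h1 : m = 1
    · subst h1
      have : k = 0 := by simp [hk]
      rw [this]; simp; exact hp.one_lt
    · have hm1 : 1 < m := by omega
      have hpos : 0 < k := Nat.clog_pos hp.one_lt hm1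
      have := Nat.pow_pred_clog_lt_self hp.one_lt hm1
      rw [← hk] at this
      have h2 : p ^ k = p * p ^ k.pred := by
        rw [← pow_succ']
        congr 1
        exact (Nat.succ_pred_eq_of_pos hpos).symm
      rw [h2]
      exact Nat.mul_lt_mul_of_pos_left this hp.pos
  have key : ∀ N : Matrix (Fin m) (Fin m) F, IsNilpotent N → (1 + N) ^ (p ^ k) = 1 := by
    intro N hN
    rw [add_pow_char_pow_of_commute _ _ (Commute.one_left N), one_pow]
    have : N ^ (p ^ k) = 0 := by
      have h0 := nilp_pow_card N hN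
      rw [← Nat.sub_add_cancel hmk, pow_add, h0, mul_zero]
    rw [this, add_zero]
  refine ⟨?_, ?_⟩
  · rintro g ⟨j, hj⟩
    have hg1 : (g : Matrix (Fin m) (Fin m) F) ^ (p ^ j) = 1 := by
      rw [← Units.val_pow_eq_pow_val, ← hj, pow_orderOf_eq_one]; rfl
    have hnil : IsNilpotent ((g : Matrix (Fin m) (Fin m) F) - 1) := by
      refine ⟨p ^ j, ?_⟩
      rw [sub_pow_char_pow_of_commute _ _ (Commute.one_right _), hg1, one_pow, sub_self]
    have h2 := key _ hnil
    rw [add_sub_cancel] at h2
    have h3 : g ^ (p ^ k) = 1 := by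
      apply Units.ext
      rw [Units.val_pow_eq_pow_val, h2]; rfl
    have h4 : orderOf g ∣ p ^ k := orderOf_dvd_of_pow_eq_one h3
    exact lt_of_le_of_lt (Nat.le_of_dvd (pow_pos hp.pos k) h4) hkm
  · have hJnil : IsNilpotent (J F m) := by
      refine ⟨m, ?_⟩
      ext i j
      rw [J_pow]
      have := j.2
      simp; omega
    have h1 := key _ hJnil
    have hu : IsUnit (1 + J F m) := IsUnit.of_pow_eq_one h1 (pow_pos hp.pos k).ne'
    obtain ⟨g, hg⟩ := hu
    have hgk : g ^ (p ^ k) = 1 := by
      apply Units.ext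
      rw [Units.val_pow_eq_pow_val, hg, h1]; rfl
    have hdvd : orderOf g ∣ p ^ k := orderOf_dvd_of_pow_eq_one hgk
    obtain ⟨j, hjk, hj⟩ := (Nat.dvd_prime_pow hp).mp hdvd
    refine ⟨g, ⟨j, hj⟩, ?_⟩
    by_contra hlt
    push Not at hlt
    have h2 : (1 + J F m) ^ (p ^ j) = 1 := by
      rw [← hg, ← Units.val_pow_eq_pow_val, ← hj, pow_orderOf_eq_one]; rfl
    rw [add_pow_char_pow_of_commute _ _ (Commute.one_left _), one_pow] at h2
    have h3 : J F m ^ (p ^ j) = 0 := by
      have := congrArg (fun x => x - 1) h2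
      simpa using this
    have hlt' : p ^ j < m := hj ▸ hlt
    have h4 := congrFun (congrFun h3 ⟨0, by omega⟩) ⟨p ^ j, hlt'⟩
    rw [J_pow] at h4
    simp at h4

end Cfsg.Agent.S2368
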