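import Cfsg.Statements.S0277
import Cfsg.Agent.Lib.Lead.Unitary
import Mathlib

set_option autoImplicit false
open Cfsg

namespace Cfsg.Agent.S0277

open Finset Cfsg.Agent.Lib.Lead

theorem hermB_succ (q : ℕ) (hq : 2 ≤ q) (k : ℕ) :
    (hermAB q (k + 1)).2 = q ^ k * (if Even k then q ^ (k + 1) + 1 else q ^ (k + 1) - 1) := by
  obtain ⟨-, hB⟩ := hermAB_closed q hq (k + 1)
  have hq0 : (q : ℤ) ≠ 0 := by exact_mod_cast (by omega : q ≠ 0)
  have hpow : 1 ≤ q ^ (k + 1) := Nat.one_le_pow _ _ (by omega)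
  apply Nat.cast_injective (R := ℤ)
  apply mul_left_cancel₀ hq0
  rw [hB]
  split_ifs with he
  · rw [(he.add_one).neg_one_pow]
    push_cast
    ring
  · rw [Nat.not_even_iff_odd] at he
    rw [(he.add_one).neg_one_pow]
    push_cast [Nat.cast_sub hpow]
    ring

theorem prod_formula (q : ℕ) (hq : 2 ≤ q) (n : ℕ) :
    ∏ j ∈ Finset.range n, (hermAB q (n - j)).2 =
      q ^ (n * (n - 1) / 2) * ∏ i ∈ Finset.range n,
        (if Even i then q ^ (i + 1) + 1 else q ^ (i + 1) - 1) := by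
  have h1 : ∏ j ∈ Finset.range n, (hermAB q (n - j)).2 =
      ∏ j ∈ Finset.range n, (hermAB q (j + 1)).2 := by
    rw [← Finset.prod_range_reflect (fun j => (hermAB q (j + 1)).2) n]
    refine Finset.prod_congr rfl (fun j hj => ?_)
    rw [Finset.mem_range] at hj
    congr 2
    omega
  rw [h1, Finset.prod_congr rfl (fun j _ => hermB_succ q hq j), Finset.prod_mul_distrib,
    Finset.prod_pow_eq_pow_sum, Finset.sum_range_id]

/-- Order of the general unitary group: |GU_n(q)| = q^(n(n-1)/2) * prod_{i=1}^{n} (q^i - (-1)^i). -/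
theorem result {F : Type*} [Field F] [Fintype F] {q : ℕ} (hF : Fintype.card F = q ^ 2) (n : ℕ) : Nat.card (Cfsg.GU n F q) = q ^ (n * (n - 1) / 2) * ∏ i ∈ Finset.range n, (if Even i then q ^ (i + 1) + 1 else q ^ (i + 1) - 1) := by
  classical
  rw [card_GU_eq_prod hF, prod_formula q (two_le_q hF) n]

end Cfsg.Agent.S0277
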