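import Cfsg.Statements.S0278
import Cfsg.Agent.S0277
import Mathlib

set_option autoImplicit false
open Cfsg

namespace Cfsg.Agent.S0278

open Finset Matrix Cfsg.Agent.Lib.Lead

section
variable {F : Type*} [Field F] {q n : ℕ}

/-- `det` restricted to `GU`. -/
noncomputable def detGU (n : ℕ) (F : Type*) [Field F] (q : ℕ) : Cfsg.GU n F q →* Fˣ :=
  Matrix.GeneralLinearGroup.det.comp (Cfsg.GU n F q).subtype

theorem mem_GU_iff (g : GL (Fin n) F) :
    g ∈ Cfsg.GU n F q ↔ ∀ u v, Cfsg.hermForm n F q ((g : Matrix (Fin n) (Fin n) F) *ᵥ u)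
      ((g : Matrix (Fin n) (Fin n) F) *ᵥ v) = Cfsg.hermForm n F q u v := Iff.rfl

theorem mem_SU_iff (A : Matrix.SpecialLinearGroup (Fin n) F) :
    A ∈ Cfsg.SU n F q ↔ ∀ u v, Cfsg.hermForm n F q ((A : Matrix (Fin n) (Fin n) F) *ᵥ u)
      ((A : Matrix (Fin n) (Fin n) F) *ᵥ v) = Cfsg.hermForm n F q u v := Iff.rfl

/-- The kernel of `det` on `GU` is `SU`. -/
noncomputable def kerEquivSU : (detGU n F q).ker ≃ Cfsg.SU n F q where
  toFun g := ⟨⟨((g.1.1 : GL (Fin n) F) : Matrix (Fin n) (Fin n) F), by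
      have h := g.2
      rw [MonoidHom.mem_ker] at h
      have := congrArg Units.val h
      simpa [detGU] using this⟩, (mem_GU_iff (g.1.1)).mp g.1.2⟩
  invFun A := ⟨⟨Matrix.SpecialLinearGroup.toGL A.1, (mem_SU_iff A.1).mp A.2⟩, by
      rw [MonoidHom.mem_ker]
      apply Units.ext
      simp [detGU]⟩
  left_inv g := by
    apply Subtype.ext
    apply Subtype.ext
    apply Units.ext
    rfl
  right_inv A := by
    apply Subtype.ext
    apply Subtype.ext
    rfl

end

section
variable {F : Type*} [Field F] [Fintype F] [DecidableEq F] {q n : ℕ}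

omit [DecidableEq F] in
theorem range_detGU (hF : Fintype.card F = q ^ 2) (hn : 1 ≤ n) :
    (detGU n F q).range = (powMonoidHom (q + 1) : Fˣ →* Fˣ).ker := by
  obtain ⟨σ, hσ⟩ := exists_frob hF
  ext u
  rw [MonoidHom.mem_range, MonoidHom.mem_ker, powMonoidHom_apply]
  constructor
  · rintro ⟨g, rfl⟩
    have h := (preserves_iff σ hσ ((g.1 : GL (Fin n) F) : Matrix (Fin n) (Fin n) F)).mp g.2
    have hdet := congrArg Matrix.det h
    rw [Matrix.det_mul, Matrix.det_transpose, Matrix.det_one] at hdet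
    have h2 : (((g.1 : GL (Fin n) F) : Matrix (Fin n) (Fin n) F).map σ).det =
        σ ((g.1 : GL (Fin n) F) : Matrix (Fin n) (Fin n) F).det := by
      rw [← RingHom.mapMatrix_apply, ← RingHom.map_det]
    rw [h2, hσ, ← pow_succ'] at hdet
    apply Units.ext
    simpa [detGU] using hdet
  · intro hu
    have hu' : (u : F) ^ (q + 1) = 1 := by
      have := congrArg Units.val hu
      simpa using this
    -- the diagonal matrix with `u` in position 0
    let i0 : Fin n := ⟨0, hn⟩
    let d : Fin n → F := fun i => if i = i0 then (u : F) else 1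
    have hd : (Matrix.diagonal d)ᵀ * (Matrix.diagonal d).map σ = 1 := by
      rw [Matrix.diagonal_transpose, Matrix.diagonal_map (map_zero σ), Matrix.diagonal_mul_diagonal,
        ← Matrix.diagonal_one]
      congr 1
      funext i
      by_cases hi : i = i0
      · simp only [d, if_pos hi, hσ]
        rw [← pow_succ']; exact hu'
      · simp only [d, if_neg hi, hσ, one_pow, mul_one]
    have hd' : (Matrix.diagonal d).map σ * (Matrix.diagonal d)ᵀ = 1 := mul_eq_one_comm.mp hd
    let g : GL (Fin n) F := ⟨Matrix.diagonal d, ((Matrix.diagonal d).map σ)ᵀ, by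
        have := congrArg Matrix.transpose hd'
        rwa [Matrix.transpose_mul, Matrix.transpose_transpose, Matrix.transpose_one] at this, by
        have := congrArg Matrix.transpose hd
        rwa [Matrix.transpose_mul, Matrix.transpose_transpose, Matrix.transpose_one] at this⟩
    refine ⟨⟨g, (preserves_iff σ hσ _).mpr hd⟩, ?_⟩
    apply Units.ext
    simp only [detGU, MonoidHom.comp_apply, Subgroup.subtype_apply,
      Matrix.GeneralLinearGroup.val_det_apply, g, Matrix.det_diagonal]
    rw [Finset.prod_eq_single i0]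
    · simp [d]
    · intro j _ hj; simp [d, hj]
    · intro h; exact absurd (Finset.mem_univ _) h

theorem card_GU_eq (hF : Fintype.card F = q ^ 2) (hn : 1 ≤ n) :
    Nat.card (Cfsg.GU n F q) = Nat.card (Cfsg.SU n F q) * (q + 1) := by
  have hq := two_le_q hF
  have h1 := (detGU n F q).ker.card_mul_index
  rw [Subgroup.index_ker, range_detGU hF hn, IsCyclic.card_powMonoidHom_ker,
    Nat.card_units, Nat.card_eq_fintype_card (α := F), hF] at h1
  have hfac : q ^ 2 - 1 = (q - 1) * (q + 1) := by
    obtain ⟨r, rfl⟩ : ∃ r, q = r + 1 := ⟨q - 1, by omega⟩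
    simp only [Nat.add_sub_cancel]
    have : (r + 1) ^ 2 = r * (r + 1 + 1) + 1 := by ring
    omega
  rw [hfac, Nat.gcd_mul_left_left, Nat.card_congr kerEquivSU] at h1
  exact h1.symm

end

/-- Order of SU_n(q): (q + 1) |SU_n(q)| = |GU_n(q)| = q^(n(n-1)/2) * prod_{i=1}^{n} (q^i - (-1)^i), n at least 1. -/
theorem result {F : Type*} [Field F] [Fintype F] {q : ℕ} (hF : Fintype.card F = q ^ 2) (n : ℕ) (hn : 1 ≤ n) : (q + 1) * Nat.card (Cfsg.SU n F q) = q ^ (n * (n - 1) / 2) * ∏ i ∈ Finset.range n, (if Even i then q ^ (i + 1) + 1 else q ^ (i + 1) - 1) := by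
  classical
  rw [← Cfsg.Agent.S0277.result hF n, card_GU_eq hF hn, mul_comm]

end Cfsg.Agent.S0278
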