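import Cfsg.Statements.S0279
import Cfsg.Agent.S0278
import Mathlib

set_option autoImplicit false
open Cfsg

namespace Cfsg.Agent.S0279

open Finset Matrix Cfsg.Agent.Lib.Lead

section
variable {F : Type*} [Field F] {q n : ℕ}

/-- Matrix criterion for membership in `SU`. -/
theorem mem_SU_iff' (σ : F →+* F) (hσ : ∀ x, σ x = x ^ q) (A : Matrix.SpecialLinearGroup (Fin n) F) :
    A ∈ Cfsg.SU n F q ↔
      (A : Matrix (Fin n) (Fin n) F)ᵀ * (A : Matrix (Fin n) (Fin n) F).map σ = 1 :=
  (Cfsg.Agent.S0278.mem_SU_iff A).trans (preserves_iff σ hσ _)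

/-- The signed swap of coordinates `i`, `j` as a matrix. -/
def swapMat (i j : Fin n) : Matrix (Fin n) (Fin n) F :=
  1 - single i i 1 - single j j 1 + single j i 1 - single i j 1

theorem swapMat_eq {i j : Fin n} (hij : i ≠ j) :
    (swapMat i j : Matrix (Fin n) (Fin n) F) =
      (1 + single i j (-1)) * (1 + single j i 1) * (1 + single i j (-1)) := by
  have hji : j ≠ i := hij.symm
  simp only [swapMat, mul_add, add_mul, mul_one, one_mul, single_mul_single_same,
    single_mul_single_of_ne _ _ _ _ hij, single_mul_single_of_ne _ _ _ _ hji, add_zero]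
  ext k l
  simp only [Matrix.add_apply, Matrix.sub_apply, Matrix.one_apply, Matrix.single_apply]
  simp only [@eq_comm _ i k, @eq_comm _ j k, @eq_comm _ i l, @eq_comm _ j l]
  by_cases hki : k = i <;> by_cases hkj : k = j <;> by_cases hli : l = i <;> by_cases hlj : l = j <;>
    by_cases hkl : k = l <;> simp_all

/-- The signed swap in `SL`. -/
def swapSL {i j : Fin n} (hij : i ≠ j) : Matrix.SpecialLinearGroup (Fin n) F :=
  Matrix.SpecialLinearGroup.transvection hij (-1) *
    Matrix.SpecialLinearGroup.transvection hij.symm 1 *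
    Matrix.SpecialLinearGroup.transvection hij (-1)

theorem swapSL_coe {i j : Fin n} (hij : i ≠ j) :
    ((swapSL hij : Matrix.SpecialLinearGroup (Fin n) F) : Matrix (Fin n) (Fin n) F) =
      swapMat i j := by
  rw [swapMat_eq hij]
  rfl

theorem swapMat_unitary (σ : F →+* F) {i j : Fin n} (hij : i ≠ j) :
    (swapMat i j : Matrix (Fin n) (Fin n) F)ᵀ * (swapMat i j).map σ = 1 := by
  have hji : j ≠ i := hij.symm
  have hmap : (swapMat i j : Matrix (Fin n) (Fin n) F).map σ = swapMat i j := by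
    ext k l
    simp only [swapMat, Matrix.map_apply, Matrix.add_apply, Matrix.sub_apply, Matrix.one_apply,
      Matrix.single_apply, map_add, map_sub]
    congr 1
    · congr 1
      · congr 1
        · congr 1
          · split_ifs <;> simp
          · split_ifs <;> simp
        · split_ifs <;> simp
      · split_ifs <;> simp
    · split_ifs <;> simp
  rw [hmap]
  simp only [swapMat, Matrix.transpose_add, Matrix.transpose_sub, Matrix.transpose_one,
    Matrix.transpose_single]
  simp only [mul_add, add_mul, mul_sub, sub_mul, mul_one, one_mul, single_mul_single_same,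
    single_mul_single_of_ne _ _ _ _ hij, single_mul_single_of_ne _ _ _ _ hji]
  ext k l
  simp only [Matrix.add_apply, Matrix.sub_apply, Matrix.one_apply, Matrix.single_apply,
    Matrix.zero_apply]
  simp only [@eq_comm _ i k, @eq_comm _ j k, @eq_comm _ i l, @eq_comm _ j l]
  by_cases hki : k = i <;> by_cases hkj : k = j <;> by_cases hli : l = i <;> by_cases hlj : l = j <;>
    by_cases hkl : k = l <;> simp_all

theorem swapMat_apply_ji {i j : Fin n} (hij : i ≠ j) :
    (swapMat i j : Matrix (Fin n) (Fin n) F) j i = 1 := by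
  have hji : j ≠ i := hij.symm
  simp [swapMat, Matrix.single_apply, Matrix.one_apply, hij, hji]

theorem swapSL_mem (σ : F →+* F) (hσ : ∀ x, σ x = x ^ q) {i j : Fin n} (hij : i ≠ j) :
    (swapSL hij : Matrix.SpecialLinearGroup (Fin n) F) ∈ Cfsg.SU n F q := by
  rw [mem_SU_iff' σ hσ, swapSL_coe]
  exact swapMat_unitary σ hij

theorem diag2n_mem (σ : F →+* F) (hσ : ∀ x, σ x = x ^ q) {i j : Fin n} (hij : i ≠ j) (u : F)
    (hu0 : u ≠ 0) (hu : u ^ (q + 1) = 1) :
    (Matrix.SpecialLinearGroup.diag2n hij u hu0 : Matrix.SpecialLinearGroup (Fin n) F) ∈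
      Cfsg.SU n F q := by
  rw [mem_SU_iff' σ hσ]
  have hcoe : ((Matrix.SpecialLinearGroup.diag2n hij u hu0 : Matrix.SpecialLinearGroup (Fin n) F) :
      Matrix (Fin n) (Fin n) F) = diagonal (fun k => if k = i then u else if k = j then u⁻¹ else 1) :=
    rfl
  rw [hcoe, Matrix.diagonal_transpose, Matrix.diagonal_map (map_zero σ),
    Matrix.diagonal_mul_diagonal, ← Matrix.diagonal_one]
  congr 1
  funext k
  simp only [hσ, ← pow_succ']
  split_ifs
  · exact hu
  · rw [inv_pow, hu, inv_one]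
  · exact one_pow _

end

section
variable {F : Type*} [Field F] [Fintype F] {q n : ℕ}

theorem exists_unit_norm_one (hF : Fintype.card F = q ^ 2) :
    ∃ u : F, u ≠ 0 ∧ u ^ (q + 1) = 1 ∧ u⁻¹ ≠ u := by
  classical
  have hq := two_le_q hF
  by_contra hcon
  push Not at hcon
  have hcardU : Nat.card Fˣ = q ^ 2 - 1 := by
    rw [Nat.card_units, Nat.card_eq_fintype_card, hF]
  have hfac : q ^ 2 - 1 = (q - 1) * (q + 1) := by
    obtain ⟨r, rfl⟩ : ∃ r, q = r + 1 := ⟨q - 1, by omega⟩
    simp only [Nat.add_sub_cancel]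
    have : (r + 1) ^ 2 = r * (r + 1 + 1) + 1 := by ring
    omega
  have hker : Nat.card (powMonoidHom (q + 1) : Fˣ →* Fˣ).ker = q + 1 := by
    rw [IsCyclic.card_powMonoidHom_ker, hcardU, hfac]
    exact Nat.gcd_mul_left_left _ _
  have hker2 : Nat.card (powMonoidHom 2 : Fˣ →* Fˣ).ker ≤ 2 := by
    rw [IsCyclic.card_powMonoidHom_ker]
    exact Nat.le_of_dvd (by norm_num) (Nat.gcd_dvd_right _ _)
  have hle : (powMonoidHom (q + 1) : Fˣ →* Fˣ).ker ≤ (powMonoidHom 2 : Fˣ →* Fˣ).ker := by
    intro u hu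
    rw [MonoidHom.mem_ker, powMonoidHom_apply] at hu ⊢
    have h1 : (u : F) ^ (q + 1) = 1 := by
      have := congrArg Units.val hu
      simpa using this
    have h2 := hcon (u : F) (Units.ne_zero u) h1
    apply Units.ext
    have h3 : (u : F) * (u : F)⁻¹ = 1 := mul_inv_cancel₀ (Units.ne_zero u)
    rw [h2] at h3
    simpa [sq] using h3
  have := Subgroup.card_le_of_le hle
  omega

/-- A central element of `SU_n` (n ≥ 2) is a scalar matrix. -/
theorem central_is_scalar (hF : Fintype.card F = q ^ 2) (hn : 2 ≤ n)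
    (A : Matrix.SpecialLinearGroup (Fin n) F)
    (hcomm : ∀ B : Matrix.SpecialLinearGroup (Fin n) F, B ∈ Cfsg.SU n F q → A * B = B * A) :
    ∃ l : F, (A : Matrix (Fin n) (Fin n) F) = Matrix.scalar (Fin n) l := by
  classical
  obtain ⟨σ, hσ⟩ := exists_frob hF
  obtain ⟨u, hu0, hu, hune⟩ := exists_unit_norm_one hF
  set M : Matrix (Fin n) (Fin n) F := (A : Matrix (Fin n) (Fin n) F) with hM
  have hcomm' : ∀ B : Matrix.SpecialLinearGroup (Fin n) F, B ∈ Cfsg.SU n F q →
      M * (B : Matrix (Fin n) (Fin n) F) = (B : Matrix (Fin n) (Fin n) F) * M := by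
    intro B hB
    have := congrArg (fun X : Matrix.SpecialLinearGroup (Fin n) F =>
      (X : Matrix (Fin n) (Fin n) F)) (hcomm B hB)
    simpa using this
  -- off-diagonal entries vanish
  have hoff : ∀ a b : Fin n, a ≠ b → M a b = 0 := by
    intro a b hab
    have h := hcomm' _ (diag2n_mem σ hσ hab u hu0 hu)
    have hcoe : ((Matrix.SpecialLinearGroup.diag2n hab u hu0 :
        Matrix.SpecialLinearGroup (Fin n) F) : Matrix (Fin n) (Fin n) F) =
        diagonal (fun k => if k = a then u else if k = b then u⁻¹ else 1) := rfl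
    rw [hcoe] at h
    have h2 := congrFun (congrFun h a) b
    rw [Matrix.mul_diagonal, Matrix.diagonal_mul] at h2
    simp only [if_true, if_neg hab.symm] at h2
    have h3 : M a b * (u⁻¹ - u) = 0 := by rw [mul_sub, h2]; ring
    rcases mul_eq_zero.mp h3 with h4 | h4
    · exact h4
    · exact absurd (sub_eq_zero.mp h4) hune
  have hdiag : M = diagonal (fun k => M k k) := by
    ext a b
    by_cases hab : a = b
    · subst hab; simp
    · rw [hoff a b hab, Matrix.diagonal_apply_ne _ hab]
  -- diagonal entries agree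
  have heq : ∀ i j : Fin n, i ≠ j → M j j = M i i := by
    intro i j hij
    have h := hcomm' _ (swapSL_mem σ hσ hij)
    rw [swapSL_coe, hdiag] at h
    have h2 := congrFun (congrFun h j) i
    rw [Matrix.diagonal_mul, Matrix.mul_diagonal, swapMat_apply_ji hij] at h2
    simpa using h2
  refine ⟨M ⟨0, by omega⟩ ⟨0, by omega⟩, ?_⟩
  rw [hdiag]
  ext a b
  by_cases hab : a = b
  · subst hab
    by_cases ha : a = ⟨0, by omega⟩
    · subst ha; simp
    · simp [heq _ _ (Ne.symm ha)]
  · simp [Matrix.diagonal_apply_ne _ hab, hab]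

/-- The subgroup of `Fˣ` of elements with `u^(q+1) = 1` and `u^n = 1`. -/
abbrev scalarGroup (F : Type*) [Field F] (q n : ℕ) : Subgroup Fˣ :=
  (powMonoidHom (q + 1) : Fˣ →* Fˣ).ker ⊓ (powMonoidHom n : Fˣ →* Fˣ).ker

theorem card_scalarGroup (hF : Fintype.card F = q ^ 2) :
    Nat.card (scalarGroup F q n) = Nat.gcd n (q + 1) := by
  classical
  have hq := two_le_q hF
  have hcardU : Nat.card Fˣ = q ^ 2 - 1 := by
    rw [Nat.card_units, Nat.card_eq_fintype_card, hF]
  have hfac : q ^ 2 - 1 = (q - 1) * (q + 1) := by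
    obtain ⟨r, rfl⟩ : ∃ r, q = r + 1 := ⟨q - 1, by omega⟩
    simp only [Nat.add_sub_cancel]
    have : (r + 1) ^ 2 = r * (r + 1 + 1) + 1 := by ring
    omega
  have heq : scalarGroup F q n = (powMonoidHom (Nat.gcd (q + 1) n) : Fˣ →* Fˣ).ker := by
    ext u
    simp only [Subgroup.mem_inf, MonoidHom.mem_ker, powMonoidHom_apply,
      ← orderOf_dvd_iff_pow_eq_one, Nat.dvd_gcd_iff]
  rw [heq, IsCyclic.card_powMonoidHom_ker, hcardU, hfac, Nat.gcd_comm n]
  apply Nat.gcd_eq_right
  exact Dvd.dvd.mul_left (Nat.gcd_dvd_left _ _) _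

omit [Fintype F] in
theorem scalarGroup_pow_n (u : scalarGroup F q n) : ((u.1 : Fˣ) : F) ^ n = 1 := by
  have h2 : (u.1 : Fˣ) ^ n = 1 := by
    have := (Subgroup.mem_inf.mp u.2).2
    rwa [MonoidHom.mem_ker, powMonoidHom_apply] at this
  have := congrArg Units.val h2
  simpa using this

omit [Fintype F] in
theorem scalarGroup_pow_q (u : scalarGroup F q n) : ((u.1 : Fˣ) : F) ^ (q + 1) = 1 := by
  have h2 : (u.1 : Fˣ) ^ (q + 1) = 1 := by
    have := (Subgroup.mem_inf.mp u.2).1
    rwa [MonoidHom.mem_ker, powMonoidHom_apply] at this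
  have := congrArg Units.val h2
  simpa using this

/-- The scalar matrix `l • 1` as an element of `SL`, when `l^n = 1`. -/
def scalarSL (l : F) (hl : l ^ n = 1) : Matrix.SpecialLinearGroup (Fin n) F :=
  ⟨Matrix.scalar (Fin n) l, by simp [Matrix.det_diagonal, hl]⟩

omit [Fintype F] in
theorem scalarSL_coe (l : F) (hl : l ^ n = 1) :
    ((scalarSL l hl : Matrix.SpecialLinearGroup (Fin n) F) : Matrix (Fin n) (Fin n) F) =
      Matrix.scalar (Fin n) l := rfl

omit [Fintype F] in
theorem scalarSL_mem (σ : F →+* F) (hσ : ∀ x, σ x = x ^ q) (l : F) (hl : l ^ n = 1)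
    (hl' : l ^ (q + 1) = 1) : scalarSL l hl ∈ Cfsg.SU n F q := by
  rw [mem_SU_iff' σ hσ, scalarSL_coe, Matrix.scalar_apply, Matrix.diagonal_transpose,
    Matrix.diagonal_map (map_zero σ), Matrix.diagonal_mul_diagonal, ← Matrix.diagonal_one]
  congr 1
  funext k
  simp only [hσ, ← pow_succ']
  exact hl'

/-- The scalar matrix `u • 1` as an element of `SU`, for `u` in the scalar group. -/
def scalarSU (σ : F →+* F) (hσ : ∀ x, σ x = x ^ q) (u : scalarGroup F q n) : Cfsg.SU n F q :=
  ⟨scalarSL ((u.1 : Fˣ) : F) (scalarGroup_pow_n u),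
    scalarSL_mem σ hσ _ _ (scalarGroup_pow_q u)⟩

theorem card_center_SU (hF : Fintype.card F = q ^ 2) (hn : 2 ≤ n) :
    Nat.card (Subgroup.center (Cfsg.SU n F q)) = Nat.gcd n (q + 1) := by
  classical
  obtain ⟨σ, hσ⟩ := exists_frob hF
  rw [← card_scalarGroup hF]
  symm
  have hcentral : ∀ u : scalarGroup F q n,
      scalarSU σ hσ u ∈ Subgroup.center (Cfsg.SU n F q) := by
    intro u
    rw [Subgroup.mem_center_iff]
    intro B
    apply Subtype.ext
    apply Subtype.ext
    show (B.1 : Matrix (Fin n) (Fin n) F) * Matrix.scalar (Fin n) ((u.1 : Fˣ) : F) =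
      Matrix.scalar (Fin n) ((u.1 : Fˣ) : F) * (B.1 : Matrix (Fin n) (Fin n) F)
    exact ((Matrix.scalar_commute _ (fun r => Commute.all _ r) _).eq).symm
  let ψ : scalarGroup F q n → Subgroup.center (Cfsg.SU n F q) :=
    fun u => ⟨scalarSU σ hσ u, hcentral u⟩
  refine Nat.card_congr (Equiv.ofBijective ψ ⟨?_, ?_⟩)
  · intro u v huv
    have h1 : ((ψ u).1.1 : Matrix (Fin n) (Fin n) F) ⟨0, by omega⟩ ⟨0, by omega⟩ =
        ((ψ v).1.1 : Matrix (Fin n) (Fin n) F) ⟨0, by omega⟩ ⟨0, by omega⟩ := by rw [huv]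
    have h2 : ((u.1 : Fˣ) : F) = ((v.1 : Fˣ) : F) := by
      have e1 : ∀ w : scalarGroup F q n,
          ((ψ w).1.1 : Matrix (Fin n) (Fin n) F) ⟨0, by omega⟩ ⟨0, by omega⟩ = ((w.1 : Fˣ) : F) := by
        intro w
        show (Matrix.scalar (Fin n) ((w.1 : Fˣ) : F)) ⟨0, by omega⟩ ⟨0, by omega⟩ = _
        simp
      rw [e1 u, e1 v] at h1
      exact h1
    exact Subtype.ext (Units.ext h2)
  · intro z
    have hz := z.2
    rw [Subgroup.mem_center_iff] at hz
    obtain ⟨l, hl⟩ := central_is_scalar hF hn z.1.1 (by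
      intro B hB
      have := hz ⟨B, hB⟩
      have h2 := congrArg (fun X : Cfsg.SU n F q => (X.1 : Matrix.SpecialLinearGroup (Fin n) F)) this
      exact h2.symm)
    have hdet : l ^ n = 1 := by
      have := z.1.1.2
      rw [hl] at this
      simpa [Matrix.det_diagonal] using this
    have hl0 : l ≠ 0 := by
      rintro rfl
      rw [zero_pow (by omega)] at hdet
      exact zero_ne_one hdet
    have hunit : l ^ (q + 1) = 1 := by
      have := (mem_SU_iff' σ hσ z.1.1).mp z.1.2
      rw [hl, Matrix.scalar_apply, Matrix.diagonal_transpose, Matrix.diagonal_map (map_zero σ),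
        Matrix.diagonal_mul_diagonal] at this
      have h2 := congrFun (congrFun this ⟨0, by omega⟩) ⟨0, by omega⟩
      simpa [hσ, ← pow_succ'] using h2
    refine ⟨⟨Units.mk0 l hl0, Subgroup.mem_inf.mpr ⟨?_, ?_⟩⟩, ?_⟩
    · rw [MonoidHom.mem_ker, powMonoidHom_apply]
      apply Units.ext
      simpa using hunit
    · rw [MonoidHom.mem_ker, powMonoidHom_apply]
      apply Units.ext
      simpa using hdet
    · apply Subtype.ext
      apply Subtype.ext
      apply Subtype.ext
      show Matrix.scalar (Fin n) l = _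
      exact hl.symm

end

/-- The centre of SU_n(q), n at least 3, has order gcd(n, q+1). -/
theorem result {F : Type*} [Field F] [Fintype F] {q : ℕ} (hF : Fintype.card F = q ^ 2) (n : ℕ) (hn : 3 ≤ n) : Nat.card (Subgroup.center (Cfsg.SU n F q)) = Nat.gcd n (q + 1) := by
  exact card_center_SU hF (by omega)

end Cfsg.Agent.S0279
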