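import Cfsg.Statements.S0783
import Mathlib
import Cfsg.Statements.S0783
import Cfsg.Agent.S0779

set_option autoImplicit false
open Cfsg

namespace Cfsg.Agent.S0783

open Matrix

variable {F : Type*} [Field F] {n q : ℕ}

theorem mem_GU_iff (g : GL (Fin n) F) :
    g ∈ Cfsg.GU n F q ↔ ∀ u v, Cfsg.hermForm n F q ((g : Matrix (Fin n) (Fin n) F) *ᵥ u)
      ((g : Matrix (Fin n) (Fin n) F) *ᵥ v) = Cfsg.hermForm n F q u v := Iff.rfl

theorem herm_single (i j : Fin n) (hq : 0 < q) :
    Cfsg.hermForm n F q (Pi.single i 1) (Pi.single j 1) = if i = j then 1 else 0 := by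
  unfold Cfsg.hermForm
  by_cases hij : i = j
  · subst hij
    rw [if_pos rfl, Finset.sum_eq_single i]
    · simp
    · intro b _ hb
      simp [hb]
    · simp
  · rw [if_neg hij]
    apply Finset.sum_eq_zero
    intro k _
    by_cases hk : k = i
    · subst hk
      have : k ≠ j := hij
      simp [this, hq.ne']
    · simp [hk]

/-- the determinant of a unitary matrix has norm one -/
theorem det_pow_of_mem (φ : F →+* F) (hφ : ∀ x, φ x = x ^ q) (hq : 0 < q) (g : GL (Fin n) F)
    (hg : g ∈ Cfsg.GU n F q) : (g : Matrix (Fin n) (Fin n) F).det ^ (q + 1) = 1 := by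
  have h1 : (g : Matrix (Fin n) (Fin n) F)ᵀ * (g : Matrix (Fin n) (Fin n) F).map φ = 1 := by
    ext i j
    rw [Matrix.mul_apply]
    have := (mem_GU_iff g).mp hg (Pi.single i 1) (Pi.single j 1)
    rw [herm_single i j hq] at this
    rw [Matrix.one_apply, ← this]
    unfold Cfsg.hermForm
    apply Finset.sum_congr rfl
    intro k _
    simp [hφ]
  have h2 := congrArg Matrix.det h1
  have h3 : ((g : Matrix (Fin n) (Fin n) F).map φ).det = φ (g : Matrix (Fin n) (Fin n) F).det :=
    (RingHom.map_det φ _).symm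
  rw [Matrix.det_mul, Matrix.det_transpose, Matrix.det_one, h3, hφ] at h2
  rw [pow_succ, mul_comm]
  exact h2

/-- diagonal unitary matrices -/
def diagGU (w : Fin n → F) (hw : ∀ i, w i ^ (q + 1) = 1) : ↥(Cfsg.GU n F q) :=
  ⟨⟨Matrix.diagonal w, Matrix.diagonal (fun i => w i ^ q),
    by rw [Matrix.diagonal_mul_diagonal]; simp only [← pow_succ', hw]; exact Matrix.diagonal_one,
    by rw [Matrix.diagonal_mul_diagonal]; simp only [← pow_succ, hw]; exact Matrix.diagonal_one⟩, by
    rw [mem_GU_iff]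
    intro u v
    show Cfsg.hermForm n F q (Matrix.diagonal w *ᵥ u) (Matrix.diagonal w *ᵥ v) = _
    unfold Cfsg.hermForm
    apply Finset.sum_congr rfl
    intro i _
    rw [Matrix.mulVec_diagonal, Matrix.mulVec_diagonal, mul_pow]
    have := hw i
    rw [pow_succ] at this
    linear_combination (u i * v i ^ q) * this⟩

theorem diagGU_coe (w : Fin n → F) (hw : ∀ i, w i ^ (q + 1) = 1) :
    (((diagGU w hw : ↥(Cfsg.GU n F q)) : GL (Fin n) F) : Matrix (Fin n) (Fin n) F) = Matrix.diagonal w := rfl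

/-- permutation matrices are unitary -/
def permGU (σ : Equiv.Perm (Fin n)) : ↥(Cfsg.GU n F q) :=
  ⟨⟨σ.permMatrix F, (σ⁻¹).permMatrix F,
    by rw [← Matrix.permMatrix_mul]; simp,
    by rw [← Matrix.permMatrix_mul]; simp⟩, by
    rw [mem_GU_iff]
    intro u v
    show Cfsg.hermForm n F q (σ.permMatrix F *ᵥ u) (σ.permMatrix F *ᵥ v) = _
    unfold Cfsg.hermForm
    rw [← Equiv.sum_comp σ (fun i => u i * v i ^ q)]
    apply Finset.sum_congr rfl
    intro i _
    rw [Matrix.permMatrix_mulVec, Matrix.permMatrix_mulVec]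
    rfl⟩

theorem permGU_coe (σ : Equiv.Perm (Fin n)) :
    (((permGU σ : ↥(Cfsg.GU n F q)) : GL (Fin n) F) : Matrix (Fin n) (Fin n) F) = σ.permMatrix F := rfl

theorem center_scalar (hq : 0 < q) (hn : 1 ≤ n) (z0 : F) (hz0 : z0 ^ (q + 1) = 1) (hz01 : z0 ≠ 1)
    (g : ↥(Cfsg.GU n F q)) (hg : g ∈ Subgroup.center ↥(Cfsg.GU n F q)) :
    ∃ y : F, y ^ (q + 1) = 1 ∧
      ((g : GL (Fin n) F) : Matrix (Fin n) (Fin n) F) = Matrix.diagonal (fun _ => y) := by
  rw [Subgroup.mem_center_iff] at hg
  set G : Matrix (Fin n) (Fin n) F := ((g : GL (Fin n) F) : Matrix (Fin n) (Fin n) F) with hG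
  have hoff : ∀ i j : Fin n, j ≠ i → G j i = 0 := by
    intro i j hji
    have hw : ∀ k, (Function.update (fun _ : Fin n => (1 : F)) i z0) k ^ (q + 1) = 1 := by
      intro k
      by_cases hk : k = i
      · rw [hk, Function.update_self]; exact hz0
      · rw [Function.update_of_ne hk]; exact one_pow _
    have h1 := hg (diagGU _ hw)
    have h2 := congrArg (fun x : ↥(Cfsg.GU n F q) => ((x : GL (Fin n) F) : Matrix (Fin n) (Fin n) F) j i) h1
    simp only [Subgroup.coe_mul, Units.val_mul, diagGU_coe, Matrix.diagonal_mul, Matrix.mul_diagonal,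
      Function.update_self, Function.update_of_ne hji] at h2
    have h3 : G j i * (1 - z0) = 0 := by
      rw [hG]; linear_combination h2
    rcases mul_eq_zero.mp h3 with h | h
    · exact h
    · exfalso; apply hz01; linear_combination -h
  have hdiag : ∀ i j : Fin n, G i i = G j j := by
    intro i j
    have h1 := hg (permGU (Equiv.swap i j))
    have h2 := congrArg (fun x : ↥(Cfsg.GU n F q) => ((x : GL (Fin n) F) : Matrix (Fin n) (Fin n) F) i j) h1
    simp only [Subgroup.coe_mul, Units.val_mul, permGU_coe] at h2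
    rw [Equiv.Perm.permMatrix, PEquiv.toMatrix_toPEquiv_mul, PEquiv.mul_toMatrix_toPEquiv] at h2
    simp only [Matrix.submatrix_apply, id, Equiv.swap_apply_left, Equiv.symm_swap, Equiv.swap_apply_right] at h2
    exact h2.symm
  let i0 : Fin n := ⟨0, hn⟩
  have hGd : G = Matrix.diagonal (fun _ => G i0 i0) := by
    ext i j
    by_cases hij : i = j
    · subst hij
      rw [Matrix.diagonal_apply_eq]
      exact hdiag i i0
    · rw [Matrix.diagonal_apply_ne _ hij]
      exact hoff j i hij
  refine ⟨G i0 i0, ?_, hGd⟩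
  have h1 := (mem_GU_iff (g : GL (Fin n) F)).mp g.2 (Pi.single i0 1) (Pi.single i0 1)
  rw [herm_single i0 i0 hq, if_pos rfl, ← hG, hGd] at h1
  unfold Cfsg.hermForm at h1
  rw [Finset.sum_eq_single i0] at h1
  · rw [Matrix.mulVec_diagonal] at h1
    simpa [pow_succ, mul_comm] using h1
  · intro b _ hb
    rw [Matrix.mulVec_diagonal]
    simp [hb]
  · simp

theorem zmod_ker (N n : ℕ) [NeZero N] (a : ZMod N) :
    (ZMod.castHom (Nat.gcd_dvd_right n N) (ZMod (Nat.gcd n N))) a = 0 ↔ ∃ t : ZMod N, a = n • t := by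
  constructor
  · intro h
    rw [ZMod.castHom_apply, ← ZMod.natCast_val, ZMod.natCast_eq_zero_iff] at h
    obtain ⟨k, hk⟩ := h
    have hbez := Nat.gcd_eq_gcd_ab n N
    have h1 : ((Nat.gcd n N : ℕ) : ZMod N) = (n : ZMod N) * ((Nat.gcdA n N : ℤ) : ZMod N) := by
      have := congrArg (fun z : ℤ => (z : ZMod N)) hbez
      simp only [Int.cast_natCast, Int.cast_add, Int.cast_mul, ZMod.natCast_self, zero_mul, add_zero] at this
      exact this
    refine ⟨((Nat.gcdA n N : ℤ) : ZMod N) * (k : ZMod N), ?_⟩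
    rw [nsmul_eq_mul, ← mul_assoc, ← h1]
    have h2 : a = ((a.val : ℕ) : ZMod N) := (ZMod.natCast_zmod_val a).symm
    rw [h2, hk]
    push_cast
    rfl
  · rintro ⟨t, rfl⟩
    rw [map_nsmul, nsmul_eq_mul]
    have : ((n : ℕ) : ZMod (Nat.gcd n N)) = 0 := by
      rw [ZMod.natCast_eq_zero_iff]
      exact Nat.gcd_dvd_left n N
    rw [this, zero_mul]

theorem exists_psi (M : Type*) [Group M] (N n : ℕ) [NeZero N] (g0 : M)
    (hg0 : ∀ x, x ∈ Subgroup.zpowers g0) (hN : Nat.card M = N) :
    ∃ ψ : M →* Multiplicative (ZMod (Nat.gcd n N)), Function.Surjective ψ ∧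
      ∀ x, ψ x = 1 ↔ ∃ y : M, y ^ n = x := by
  let e : Multiplicative (ZMod N) ≃* M := zmodMulEquivOfGenerator hg0 hN
  let c : Multiplicative (ZMod N) →* Multiplicative (ZMod (Nat.gcd n N)) :=
    AddMonoidHom.toMultiplicative (ZMod.castHom (Nat.gcd_dvd_right n N) (ZMod (Nat.gcd n N))).toAddMonoidHom
  refine ⟨c.comp e.symm.toMonoidHom, ?_, ?_⟩
  · have hc : Function.Surjective c := by
      intro z
      obtain ⟨a, ha⟩ := ZMod.castHom_surjective (Nat.gcd_dvd_right n N) (Multiplicative.toAdd z)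
      exact ⟨Multiplicative.ofAdd a, by
        show Multiplicative.ofAdd ((ZMod.castHom (Nat.gcd_dvd_right n N) (ZMod (Nat.gcd n N))) a) = z
        rw [ha]; rfl⟩
    intro z
    obtain ⟨a, ha⟩ := hc z
    exact ⟨e a, by simp [ha]⟩
  · intro x
    have h1 : (c.comp e.symm.toMonoidHom) x = 1 ↔
        (ZMod.castHom (Nat.gcd_dvd_right n N) (ZMod (Nat.gcd n N))) (Multiplicative.toAdd (e.symm x)) = 0 := by
      show Multiplicative.ofAdd ((ZMod.castHom (Nat.gcd_dvd_right n N) (ZMod (Nat.gcd n N)))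
        (Multiplicative.toAdd (e.symm x))) = 1 ↔ _
      rw [ofAdd_eq_one]
    rw [h1, zmod_ker]
    constructor
    · rintro ⟨t, ht⟩
      refine ⟨e (Multiplicative.ofAdd t), ?_⟩
      rw [← map_pow, ← ofAdd_nsmul, ← ht, ofAdd_toAdd, MulEquiv.apply_symm_apply]
    · rintro ⟨y, rfl⟩
      refine ⟨Multiplicative.toAdd (e.symm y), ?_⟩
      rw [map_pow, toAdd_pow]

theorem diagGU_det (w : Fin n → F) (hw : ∀ i, w i ^ (q + 1) = 1) :
    (((diagGU w hw : ↥(Cfsg.GU n F q)) : GL (Fin n) F) : Matrix (Fin n) (Fin n) F).det = ∏ i, w i := by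
  rw [diagGU_coe, Matrix.det_diagonal]

theorem scalar_central (y : F) (hy : y ^ (q + 1) = 1) :
    (diagGU (fun _ : Fin n => y) (fun _ => hy) : ↥(Cfsg.GU n F q)) ∈ Subgroup.center ↥(Cfsg.GU n F q) := by
  rw [Subgroup.mem_center_iff]
  intro h
  apply Subtype.ext
  apply Units.ext
  show ((h : GL (Fin n) F) : Matrix (Fin n) (Fin n) F) * Matrix.diagonal (fun _ => y)
    = Matrix.diagonal (fun _ => y) * ((h : GL (Fin n) F) : Matrix (Fin n) (Fin n) F)
  ext i j
  rw [Matrix.mul_diagonal, Matrix.diagonal_mul, mul_comm]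

theorem main [Fintype F] (hF : Fintype.card F = q ^ 2) (hn : 2 ≤ n) :
    ∃ φ : ↥(Cfsg.GU n F q) →* Multiplicative (ZMod (Nat.gcd n (q + 1))), Function.Surjective φ ∧
      φ.ker = (Matrix.GeneralLinearGroup.det : GL (Fin n) F →* Fˣ).ker.subgroupOf (Cfsg.GU n F q) ⊔
        Subgroup.center ↥(Cfsg.GU n F q) := by
  classical
  have hq2 : 2 ≤ q := by
    have h1 : 1 < Fintype.card F := Fintype.one_lt_card
    rw [hF] at h1
    by_contra hlt
    push Not at hlt
    interval_cases q <;> simp at h1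
  have hq : 0 < q := by omega
  obtain ⟨fr, hfr, -⟩ := Cfsg.Agent.S0779.exists_frob hF
  -- element of order q + 1
  obtain ⟨ζ, hζ⟩ := IsCyclic.exists_ofOrder_eq_natCard (α := Fˣ)
  have hcardU : Nat.card Fˣ = (q - 1) * (q + 1) := by
    rw [Nat.card_eq_fintype_card, Fintype.card_units, hF]
    have : q ^ 2 = (q - 1) * (q + 1) + 1 := by
      obtain ⟨k, rfl⟩ : ∃ k, q = k + 1 := ⟨q - 1, by omega⟩
      simp; ring
    omega
  have hω : orderOf (ζ ^ (q - 1)) = q + 1 := by
    rw [orderOf_pow' _ (by omega : q - 1 ≠ 0), hζ, hcardU]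
    have : ((q - 1) * (q + 1)).gcd (q - 1) = q - 1 := Nat.gcd_eq_right (Dvd.intro _ rfl)
    rw [this, Nat.mul_div_cancel_left _ (by omega : 0 < q - 1)]
  set ω : Fˣ := ζ ^ (q - 1) with hωdef
  have hprim : IsPrimitiveRoot ω (q + 1) := by rw [← hω]; exact IsPrimitiveRoot.orderOf ω
  have hcardμ : Nat.card (rootsOfUnity (q + 1) F) = q + 1 := hprim.card_rootsOfUnity'
  have hω1 : (ω : F) ≠ 1 := by
    intro h
    have : ω = 1 := Units.ext h
    rw [this, orderOf_one] at hω
    omega
  have hωpow : (ω : F) ^ (q + 1) = 1 := by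
    have := pow_orderOf_eq_one ω
    rw [hω] at this
    have h2 := congrArg Units.val this
    rwa [Units.val_pow_eq_pow_val, Units.val_one] at h2
  -- the determinant into μ
  let detμ : ↥(Cfsg.GU n F q) →* rootsOfUnity (q + 1) F :=
    MonoidHom.codRestrict ((Matrix.GeneralLinearGroup.det : GL (Fin n) F →* Fˣ).comp (Cfsg.GU n F q).subtype)
      (rootsOfUnity (q + 1) F) (fun g => by
        rw [mem_rootsOfUnity]
        apply Units.ext
        rw [Units.val_pow_eq_pow_val]
        exact det_pow_of_mem fr hfr hq g.1 g.2)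
  have hdetμ : ∀ g : ↥(Cfsg.GU n F q), (((detμ g : rootsOfUnity (q + 1) F) : Fˣ) : F)
      = ((g : GL (Fin n) F) : Matrix (Fin n) (Fin n) F).det := fun g => rfl
  obtain ⟨g0, hg0⟩ := (inferInstance : IsCyclic (rootsOfUnity (q + 1) F)).exists_generator
  obtain ⟨ψ, hψs, hψk⟩ := exists_psi (rootsOfUnity (q + 1) F) (q + 1) n g0 hg0 hcardμ
  have hμpow : ∀ y : rootsOfUnity (q + 1) F, ((y : Fˣ) : F) ^ (q + 1) = 1 := by
    intro y
    have := y.2
    rw [mem_rootsOfUnity] at this
    have h2 := congrArg Units.val this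
    rwa [Units.val_pow_eq_pow_val, Units.val_one] at h2
  refine ⟨ψ.comp detμ, ?_, ?_⟩
  · -- surjective
    apply Function.Surjective.comp hψs
    intro z
    let i0 : Fin n := ⟨0, by omega⟩
    have hw : ∀ k, (Function.update (fun _ : Fin n => (1 : F)) i0 ((z : Fˣ) : F)) k ^ (q + 1) = 1 := by
      intro k
      by_cases hk : k = i0
      · rw [hk, Function.update_self]; exact hμpow z
      · rw [Function.update_of_ne hk]; exact one_pow _
    refine ⟨diagGU _ hw, ?_⟩
    apply Subtype.ext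
    apply Units.ext
    rw [hdetμ, diagGU_det, Finset.prod_update_of_mem (Finset.mem_univ i0)]
    simp
  · -- kernel
    apply le_antisymm
    · intro g hg
      rw [MonoidHom.mem_ker, MonoidHom.comp_apply, hψk] at hg
      obtain ⟨y, hy⟩ := hg
      let s : ↥(Cfsg.GU n F q) := diagGU (fun _ : Fin n => ((y : Fˣ) : F)) (fun _ => hμpow y)
      have hs : s ∈ Subgroup.center ↥(Cfsg.GU n F q) := scalar_central _ (hμpow y)
      have hdets : (((s : GL (Fin n) F) : Matrix (Fin n) (Fin n) F)).det = ((y : Fˣ) : F) ^ n := by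
        rw [diagGU_det, Finset.prod_const, Finset.card_univ, Fintype.card_fin]
      have hgs : g * s⁻¹ ∈ (Matrix.GeneralLinearGroup.det : GL (Fin n) F →* Fˣ).ker.subgroupOf (Cfsg.GU n F q) := by
        rw [Subgroup.mem_subgroupOf, MonoidHom.mem_ker]
        apply Units.ext
        rw [Matrix.GeneralLinearGroup.val_det_apply]
        have h1 : (((g * s⁻¹ : ↥(Cfsg.GU n F q)) : GL (Fin n) F) : Matrix (Fin n) (Fin n) F).det *
            (((s : GL (Fin n) F) : Matrix (Fin n) (Fin n) F)).det
            = ((g : GL (Fin n) F) : Matrix (Fin n) (Fin n) F).det := by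
          rw [← Matrix.det_mul, ← Units.val_mul, ← Subgroup.coe_mul, inv_mul_cancel_right]
        have h2 : ((g : GL (Fin n) F) : Matrix (Fin n) (Fin n) F).det = ((y : Fˣ) : F) ^ n := by
          rw [← hdetμ, ← hy]
          simp
        rw [hdets, h2] at h1
        have hyne : ((y : Fˣ) : F) ^ n ≠ 0 := pow_ne_zero _ (Units.ne_zero _)
        have := mul_right_cancel₀ hyne (h1.trans (one_mul _).symm)
        simpa using this
      have : g = (g * s⁻¹) * s := by group
      rw [this]
      exact Subgroup.mul_mem_sup hgs hs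
    · apply sup_le
      · intro g hg
        rw [Subgroup.mem_subgroupOf, MonoidHom.mem_ker] at hg
        rw [MonoidHom.mem_ker, MonoidHom.comp_apply, hψk]
        refine ⟨1, ?_⟩
        rw [one_pow]
        apply Subtype.ext
        apply Units.ext
        rw [hdetμ, ← Matrix.GeneralLinearGroup.val_det_apply, hg]
        rfl
      · intro g hg
        obtain ⟨y, hy, hgy⟩ := center_scalar hq (by omega) (ω : F) hωpow hω1 g hg
        rw [MonoidHom.mem_ker, MonoidHom.comp_apply, hψk]
        have hy0 : y ≠ 0 := by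
          intro h0
          rw [h0, zero_pow (by omega)] at hy
          exact zero_ne_one hy
        refine ⟨⟨Units.mk0 y hy0, ?_⟩, ?_⟩
        · rw [mem_rootsOfUnity]
          apply Units.ext
          simpa using hy
        · apply Subtype.ext
          apply Units.ext
          rw [hdetμ, hgy, Matrix.det_diagonal, Finset.prod_const, Finset.card_univ, Fintype.card_fin]
          simp


/-- PGU_n(q)/PSU_n(q) is cyclic of order (n, q+1): for n ≥ 2 and |F| = q² there is a surjective homomorphism from GU_n(q) onto the cyclic group of order gcd(n, q + 1) whose kernel is generated by the determinant-one elements together with the centre. -/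
theorem result {F : Type*} [Field F] [Fintype F] {q : ℕ} (hF : Fintype.card F = q ^ 2) (n : ℕ) (hn : 2 ≤ n) : ∃ φ : ↥(Cfsg.GU n F q) →* Multiplicative (ZMod (Nat.gcd n (q + 1))), Function.Surjective φ ∧ φ.ker = (Matrix.GeneralLinearGroup.det : Matrix.GeneralLinearGroup (Fin n) F →* Fˣ).ker.subgroupOf (Cfsg.GU n F q) ⊔ Subgroup.center ↥(Cfsg.GU n F q) := by
  exact main hF hn

end Cfsg.Agent.S0783
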