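import Cfsg.Statements.S2574
import Cfsg.Agent.S2573

set_option autoImplicit false
open Cfsg

namespace Cfsg.Agent.S2574

open Cfsg.Agent.S2573

section
variable {F V : Type*} [Field F] [AddCommGroup V] [Module F V]

theorem ker_pow_mono (f : V →ₗ[F] V) {a b : ℕ} (h : a ≤ b) : LinearMap.ker (f ^ a) ≤ LinearMap.ker (f ^ b) := by
  intro x hx
  rw [LinearMap.mem_ker] at hx ⊢
  obtain ⟨c, rfl⟩ := Nat.exists_eq_add_of_le h
  rw [add_comm, pow_add, Module.End.mul_apply, hx, map_zero]

variable [FiniteDimensional F V]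

theorem inv_eq_ker_pow (f : V →ₗ[F] V) (n : ℕ) (hf : f ^ n = 0) (h1 : Module.finrank F (LinearMap.ker f) ≤ 1)
    (W : Submodule F V) (hW : ∀ v ∈ W, f v ∈ W) : W = LinearMap.ker (f ^ Module.finrank F W) := by
  apply Submodule.eq_of_le_of_finrank_le (nilp_restrict_pow f n hf W hW)
  calc Module.finrank F (LinearMap.ker (f ^ Module.finrank F W)) ≤ Module.finrank F W * Module.finrank F (LinearMap.ker f) := finrank_ker_pow_le f _
    _ ≤ Module.finrank F W * 1 := Nat.mul_le_mul_left _ h1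
    _ = Module.finrank F W := mul_one _

theorem chain (f : V →ₗ[F] V) (n : ℕ) (hf : f ^ n = 0) (h1 : Module.finrank F (LinearMap.ker f) ≤ 1)
    (W W' : Submodule F V) (hW : ∀ v ∈ W, f v ∈ W) (hW' : ∀ v ∈ W', f v ∈ W')
    (hd : Module.finrank F W ≤ Module.finrank F W') : W ≤ W' := by
  rw [inv_eq_ker_pow f n hf h1 W hW, inv_eq_ker_pow f n hf h1 W' hW']
  exact ker_pow_mono f hd
end

theorem mulVecLin_pow'' {F ι : Type*} [Field F] [Fintype ι] [DecidableEq ι] (A : Matrix ι ι F) (k : ℕ) :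
    Matrix.mulVecLin (A ^ k) = (Matrix.mulVecLin A) ^ k := by
  induction k with
  | zero =>
    rw [pow_zero, pow_zero, Matrix.mulVecLin_one]; rfl
  | succ k ih =>
    rw [pow_succ, pow_succ, Matrix.mulVecLin_mul, ih]; rfl

theorem symp_pres {F : Type*} [Field F] {m : ℕ} (U : Matrix (Fin m ⊕ Fin m) (Fin m ⊕ Fin m) F)
    (hU : U ∈ Matrix.symplecticGroup (Fin m) F) (v w : Fin m ⊕ Fin m → F) :
    Cfsg.sympForm m F (U.mulVec v) (U.mulVec w) = Cfsg.sympForm m F v w := by
  unfold Cfsg.sympForm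
  rw [SymplecticGroup.mem_iff'] at hU
  rw [Matrix.mulVec_mulVec, Matrix.dotProduct_mulVec, Matrix.vecMul_mulVec, ← Matrix.dotProduct_mulVec,
    ← Matrix.mul_assoc, hU]

theorem symp_skew {F : Type*} [Field F] {m : ℕ} (v w : Fin m ⊕ Fin m → F) :
    Cfsg.sympForm m F v w = - Cfsg.sympForm m F w v := by
  unfold Cfsg.sympForm
  rw [Matrix.dotProduct_mulVec, ← Matrix.mulVec_transpose, Matrix.J_transpose, Matrix.neg_mulVec,
    neg_dotProduct, dotProduct_comm]

/-- A regular unipotent element of the symplectic group has totally isotropic small invariant subspaces: over a finite field, if u ∈ Sp_2m(F) satisfies (u − 1)^(2m) = 0 and rank(u − 1) = 2m − 1, and W is a u-invariant subspace with 2 dim W ≤ 2m, then the alternating form vanishes identically on W. -/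
theorem result {F : Type*} [Field F] [Finite F] {m : ℕ} (u : Matrix.symplecticGroup (Fin m) F) (hnil : ((u : Matrix (Fin m ⊕ Fin m) (Fin m ⊕ Fin m) F) - 1) ^ (2 * m) = 0) (hreg : ((u : Matrix (Fin m ⊕ Fin m) (Fin m ⊕ Fin m) F) - 1).rank = 2 * m - 1) (W : Submodule F (Fin m ⊕ Fin m → F)) (hW : ∀ v ∈ W, (u : Matrix (Fin m ⊕ Fin m) (Fin m ⊕ Fin m) F).mulVec v ∈ W) (hdim : 2 * Module.finrank F W ≤ 2 * m) : ∀ v ∈ W, ∀ w ∈ W, Cfsg.sympForm m F v w = 0 := by
  have hinv : (↑(u⁻¹) : Matrix (Fin m ⊕ Fin m) (Fin m ⊕ Fin m) F) * (u : Matrix (Fin m ⊕ Fin m) (Fin m ⊕ Fin m) F) = 1 := by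
    have := congrArg Subtype.val (inv_mul_cancel u)
    exact this
  have hU := u.2
  set U := (u : Matrix (Fin m ⊕ Fin m) (Fin m ⊕ Fin m) F) with hUdef
  set f := Matrix.mulVecLin (U - 1) with hf
  set g := Matrix.mulVecLin U with hg
  have hfg : ∀ v, f v = g v - v := by
    intro v
    simp [hf, hg]
  have hfW : ∀ v ∈ W, f v ∈ W := by
    intro v hv
    rw [hfg]
    exact W.sub_mem (hW v hv) hv
  have hfn : f ^ (2 * m) = 0 := by
    rw [hf, ← mulVecLin_pow'', hnil]
    simp
  have h3 : Module.finrank F (LinearMap.ker f) ≤ 1 := by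
    have h4 := LinearMap.finrank_range_add_finrank_ker f
    have h5 : Module.finrank F (LinearMap.range f) = 2 * m - 1 := hreg
    rw [h5] at h4
    simp only [Module.finrank_fintype_fun_eq_card, Fintype.card_sum, Fintype.card_fin] at h4
    omega
  have hginj : Function.Injective g := by
    intro x y hxy
    have h1 : (↑(u⁻¹) : Matrix (Fin m ⊕ Fin m) (Fin m ⊕ Fin m) F).mulVec (U.mulVec x) =
        (↑(u⁻¹) : Matrix (Fin m ⊕ Fin m) (Fin m ⊕ Fin m) F).mulVec (U.mulVec y) := by
      have : U.mulVec x = U.mulVec y := hxy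
      rw [this]
    rwa [Matrix.mulVec_mulVec, Matrix.mulVec_mulVec, hinv, Matrix.one_mulVec, Matrix.one_mulVec] at h1
  have hgW : ∀ v ∈ W, g v ∈ W := hW
  have hsurj : Function.Surjective (g.restrict hgW) := by
    apply LinearMap.injective_iff_surjective.mp
    intro x y hxy
    have := congrArg Subtype.val hxy
    exact Subtype.ext (hginj this)
  let B : LinearMap.BilinForm F (Fin m ⊕ Fin m → F) := Matrix.toLinearMap₂' F (Matrix.J (Fin m) F)
  have hB : ∀ v w, B v w = Cfsg.sympForm m F v w := fun v w => Matrix.toLinearMap₂'_apply' _ v w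
  have hrefl : B.IsRefl := by
    intro x y hxy
    rw [hB] at hxy ⊢
    rw [symp_skew, hxy, neg_zero]
  set W' := B.orthogonal W with hW'
  have hgW' : ∀ v ∈ W', g v ∈ W' := by
    intro x hx
    rw [hW', LinearMap.BilinForm.mem_orthogonal_iff] at hx ⊢
    intro w hw
    obtain ⟨w', hw'⟩ := hsurj ⟨w, hw⟩
    have h1 : g w'.1 = w := congrArg Subtype.val hw'
    have h2 := hx w'.1 w'.2
    rw [hB] at h2 ⊢
    rw [← h1]
    exact (symp_pres U hU w'.1 x).trans h2
  have hfW' : ∀ v ∈ W', f v ∈ W' := by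
    intro v hv
    rw [hfg]
    exact W'.sub_mem (hgW' v hv) hv
  have hdimW' : Module.finrank F W ≤ Module.finrank F W' := by
    have := LinearMap.BilinForm.finrank_add_finrank_orthogonal hrefl W
    rw [← hW'] at this
    simp only [Module.finrank_fintype_fun_eq_card, Fintype.card_sum, Fintype.card_fin] at this
    omega
  have hle := chain f (2 * m) hfn h3 W W' hfW hfW' hdimW'
  intro v hv w hw
  have := hle hw
  rw [hW', LinearMap.BilinForm.mem_orthogonal_iff] at this
  have h2 := this v hv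
  rw [hB] at h2
  exact h2

end Cfsg.Agent.S2574
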