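import Cfsg.Statements.S5187
import Cfsg.Agent.Lib.Helper27.AbAut
import Cfsg.Agent.Lib.Helper26.StrongEmb

set_option autoImplicit false
universe u
open Cfsg

namespace Cfsg.Agent.S5187

/-- Let F be a saturated fusion system over a finite p-group S and H an abelian essential subgroup that can be generated by two elements (its Frattini quotient has order at most p²). Then H is elementary abelian of order p², or p ≤ 3 and H is homocyclic of rank two, that is isomorphic to C_{pᵏ} × C_{pᵏ} for some k. -/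
theorem result {Ω : Type u} [Group Ω] {S : Subgroup Ω} [Finite S] (p : ℕ) [Fact p.Prime] (hS : IsPGroup p S)
    (F : Cfsg.FusionSystem S) (hF : F.IsSaturated p) (H : Subgroup Ω) (hH : F.IsEssential p H) (hab : IsMulCommutative ↥H) (hrk : (frattini ↥H).index ≤ p ^ 2) :
    (Cfsg.IsElementaryAbelian p H ∧ Nat.card H = p ^ 2) ∨
      (p ≤ 3 ∧ ∃ k : ℕ, Nonempty (↥H ≃* Multiplicative (ZMod (p ^ k) × ZMod (p ^ k)))) := by
  obtain ⟨hcen, -, hnorm, E, hE⟩ := hH
  have hHS : H ≤ S := hcen.1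
  haveI : Finite ↥H := Finite.of_injective (Subgroup.inclusion hHS) (Subgroup.inclusion_injective hHS)
  have hHp : IsPGroup p ↥H := hS.to_le hHS
  letI cg : CommGroup ↥H := { (inferInstance : Group ↥H) with mul_comm := hab.is_comm.comm }
  have hInn : Cfsg.Inn ↥H = ⊥ := by
    rw [eq_bot_iff]
    rintro φ ⟨g, rfl⟩
    rw [Subgroup.mem_bot]
    ext x
    simp [MulAut.conj_apply, mul_comm]
  have hN : (Cfsg.Inn ↥H).subgroupOf (F.autGroup H) = ⊥ := by
    rw [hInn]
    exact Subgroup.bot_subgroupOf _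
  have h1 : p ∣ Nat.card (F.autGroup H) :=
    hE.1.trans (Subgroup.card_quotient_dvd_card _)
  have h2 : ∀ B : Subgroup (F.autGroup H), B.Normal → IsPGroup p B → B = ⊥ := by
    intro B hBn hBp
    have hmapn : (B.map (QuotientGroup.mk' ((Cfsg.Inn ↥H).subgroupOf (F.autGroup H)))).Normal :=
      hBn.map _ (QuotientGroup.mk'_surjective _)
    have hmapp : IsPGroup p (B.map (QuotientGroup.mk' ((Cfsg.Inn ↥H).subgroupOf (F.autGroup H)))) :=
      hBp.map _
    have hbot := Cfsg.Agent.Lib.Helper26.eq_bot_of_normal_of_stronglyPEmbedded hE hmapn hmapp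
    rw [eq_bot_iff]
    intro b hb
    have hb1 : QuotientGroup.mk' ((Cfsg.Inn ↥H).subgroupOf (F.autGroup H)) b ∈
        B.map (QuotientGroup.mk' ((Cfsg.Inn ↥H).subgroupOf (F.autGroup H))) :=
      Subgroup.mem_map_of_mem _ hb
    rw [hbot, Subgroup.mem_bot] at hb1
    have hb2 : b ∈ (Cfsg.Inn ↥H).subgroupOf (F.autGroup H) := (QuotientGroup.eq_one_iff b).mp hb1
    rw [hN] at hb2
    exact hb2
  rcases Cfsg.Agent.Lib.Helper27.AbAut.main (H := ↥H) hHp (F.autGroup H) h1 h2 hrk with h | ⟨hp3, k, ⟨e⟩⟩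
  · left
    refine ⟨⟨hab, ?_⟩, h.2⟩
    intro a ha
    have := h.1 ⟨a, ha⟩
    exact congrArg Subtype.val this
  · right
    exact ⟨hp3, k, ⟨e⟩⟩

end Cfsg.Agent.S5187
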