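import Cfsg.Statements.S5083
import Cfsg.Agent.S5082

set_option autoImplicit false
open Cfsg

namespace Cfsg.Agent.S5083

open Cfsg.Agent.Lib.Helper26 Cfsg.FusionSystem

theorem fusionSystem_ext {Ω : Type*} [Group Ω] {S : Subgroup Ω} {F E : FusionSystem S}
    (h : ∀ P, F.Hom P = E.Hom P) : F = E := by
  cases F
  cases E
  simp only [FusionSystem.mk.injEq]
  funext P
  exact h P

theorem fusionSystem_le_antisymm {Ω : Type*} [Group Ω] {S : Subgroup Ω} {F E : FusionSystem S}
    (h1 : F ≤ E) (h2 : E ≤ F) : F = E :=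
  fusionSystem_ext (fun P => Set.Subset.antisymm (h1 P) (h2 P))

theorem inner_le {Ω : Type*} [Group Ω] {S : Subgroup Ω} (F : FusionSystem S) :
    innerFusionSystem S ≤ F := by
  rintro P φ ⟨hP, g, hg, h⟩
  exact mem_of_forall_eq F (F.conj_mem hP hg) h

theorem not_essential_of_isPGroup {Ω : Type*} [Group Ω] {S : Subgroup Ω} [Finite S] (p : ℕ)
    [Fact p.Prime] (F : FusionSystem S) {P : Subgroup Ω} (h : IsPGroup p (F.autGroup P)) :
    ¬ F.IsEssential p P := by
  rintro ⟨-, hfn, hnorm, E, hE⟩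
  have hfinP : Finite P := finite_of_le hfn.1
  have hXp : IsPGroup p (F.autGroup P ⧸ (Inn P).subgroupOf (F.autGroup P)) :=
    h.to_quotient _
  have htop : (⊤ : Subgroup (F.autGroup P ⧸ (Inn P).subgroupOf (F.autGroup P))) = ⊥ := by
    refine eq_bot_of_normal_of_stronglyPEmbedded hE inferInstance ?_
    intro x
    obtain ⟨k, hk⟩ := hXp x
    exact ⟨k, Subtype.ext hk⟩
  have hcard : Nat.card (F.autGroup P ⧸ (Inn P).subgroupOf (F.autGroup P)) = 1 := by
    rw [← Subgroup.card_top, htop, Subgroup.card_bot]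
  have hdvd := hE.1
  rw [hcard] at hdvd
  exact (Fact.out : p.Prime).one_lt.ne' (Nat.dvd_one.mp hdvd)

theorem result {Ω : Type*} [Group Ω] {S : Subgroup Ω} [Finite S] (p : ℕ) [Fact p.Prime] (hS : IsPGroup p S) (F : Cfsg.FusionSystem S) (hF : F.IsSaturated p) (h : ∀ P : Subgroup Ω, P ≤ S → IsPGroup p (F.autGroup P)) : F = Cfsg.innerFusionSystem S := by
  refine fusionSystem_le_antisymm ?_ (inner_le F)
  refine Cfsg.Agent.S5082.result p hS F hF _ ?_
  rintro P (rfl | hess)
  · obtain ⟨-, ⟨-, R, hR⟩, -⟩ := saturated_fullyNormalized hS F hF (top_fullyNormalized F)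
    have hp : IsPGroup p (⊤ : Subgroup (F.autGroup P)) := by
      intro x
      obtain ⟨k, hk⟩ := h P le_rfl x.1
      exact ⟨k, Subtype.ext hk⟩
    have htop : (⊤ : Subgroup (F.autGroup P)) = R := R.is_maximal' hp le_top
    intro α hα
    have h1 : (⟨α, hα⟩ : F.autGroup P) ∈ (R : Subgroup (F.autGroup P)) := by
      rw [← htop]
      exact Subgroup.mem_top _
    rw [hR] at h1
    exact autInducedBy_le_autGroup (innerFusionSystem P) le_rfl (Subgroup.mem_subgroupOf.mp h1)
  · have hPS : P ≤ S := hess.2.1.1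
    exact absurd hess (not_essential_of_isPGroup p F (h P hPS))

end Cfsg.Agent.S5083
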