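import Cfsg.Statements.S5212
import Cfsg.Agent.S5083
import Cfsg.Agent.Lib.Helper27.MetaTwo
import Cfsg.Agent.Lib.Helper27.AbAut
import Cfsg.Agent.Lib.Helper9.Meta6
import Cfsg.Agent.Lib.Helper26.StrongEmb

set_option autoImplicit false
open Cfsg

namespace Cfsg.Agent.S5212

open Cfsg.Agent.Lib.Helper26 Cfsg.FusionSystem Cfsg.Agent.Lib.Helper27

/-- subgroups (more generally, groups embedding into) metacyclic groups are metacyclic -/
theorem isMetacyclic_of_injective {X : Type*} {Y : Type*} [Group X] [Group Y] (f : Y →* X)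
    (hf : Function.Injective f) (hm : Cfsg.IsMetacyclic X) : Cfsg.IsMetacyclic Y := by
  obtain ⟨N, hNn, hNc, hQc⟩ := hm
  refine ⟨N.comap f, hNn.comap f, ?_, ?_⟩
  · refine isCyclic_of_injective (f.subgroupComap N) ?_
    intro a b hab
    apply Subtype.ext
    apply hf
    exact congrArg Subtype.val hab
  · refine isCyclic_of_injective (QuotientGroup.map (N.comap f) N f le_rfl) ?_
    rw [injective_iff_map_eq_one]
    intro q
    induction q using QuotientGroup.induction_on with
    | H y =>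
      intro h
      rw [QuotientGroup.map_mk, QuotientGroup.eq_one_iff] at h
      rw [QuotientGroup.eq_one_iff]
      exact h

/-- an element outside a proper subgroup of a finite `2`-group normalizing it with square inside -/
theorem exists_sq_outer {X : Type*} [Group X] [Finite X] (hX : IsPGroup 2 X) (P : Subgroup X)
    (hP : P ≠ ⊤) : ∃ t ∈ Subgroup.normalizer (P : Set X), t ∉ P ∧ t * t ∈ P := by
  classical
  haveI : Fact (Nat.Prime 2) := ⟨Nat.prime_two⟩
  haveI := hX.isNilpotent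
  have hlt : P < Subgroup.normalizer (P : Set X) :=
    Group.normalizerCondition_of_isNilpotent P (lt_top_iff_ne_top.mpr hP)
  obtain ⟨t₀, ht₀N, ht₀P⟩ := SetLike.exists_of_lt hlt
  obtain ⟨k, hk⟩ := hX t₀
  have hex : ∃ j, t₀ ^ (2 ^ j) ∈ P := ⟨k, by rw [hk]; exact P.one_mem⟩
  have hjP : t₀ ^ (2 ^ Nat.find hex) ∈ P := Nat.find_spec hex
  have hj0 : Nat.find hex ≠ 0 := by
    intro h0
    rw [h0, pow_zero, pow_one] at hjP
    exact ht₀P hjP
  obtain ⟨i, hi⟩ := Nat.exists_eq_succ_of_ne_zero hj0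
  refine ⟨t₀ ^ (2 ^ i), Subgroup.pow_mem _ ht₀N _, ?_, ?_⟩
  · intro h
    exact Nat.find_min hex (m := i) (by omega) h
  · rw [← pow_add, ← two_mul, ← pow_succ']
    rw [hi] at hjP
    exact hjP

/-- An automorphism of a finite abelian `2`-group `H`, lying in a group `A` of automorphisms whose
image in `Out` has a strongly embedded subgroup, and inducing the identity modulo squares, is
trivial. -/
theorem aut_eq_one_of_sq {H : Type*} [Group H] [Finite H] (hab : ∀ a b : H, a * b = b * a)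
    (hH : IsPGroup 2 H) (A : Subgroup (MulAut H))
    (hn : ((Cfsg.Inn H).subgroupOf A).Normal)
    (E : Subgroup (↥A ⧸ (Cfsg.Inn H).subgroupOf A)) (hE : Cfsg.IsStronglyPEmbedded 2 E)
    (α : MulAut H) (hα : α ∈ A) (hsq : ∀ x, ∃ z : H, z * z = α x * x⁻¹) : α = 1 := by
  classical
  haveI : Fact (Nat.Prime 2) := ⟨Nat.prime_two⟩
  letI : CommGroup H := { (inferInstance : Group H) with mul_comm := hab }
  have hchar : ∀ (γ : MulAut H) (y : H), y ∈ frattini H → γ y ∈ frattini H := by
    intro γ y hy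
    exact (Subgroup.characteristic_iff_le_comap.mp frattini_characteristic γ) hy
  let K : Subgroup ↥A :=
    { carrier := {β | ∀ x, (β : MulAut H) x * x⁻¹ ∈ frattini H}
      one_mem' := by
        intro x
        simp
      mul_mem' := by
        intro β γ hβ hγ x
        have e : ((β * γ : ↥A) : MulAut H) x * x⁻¹ =
            ((β : MulAut H) ((γ : MulAut H) x) * ((γ : MulAut H) x)⁻¹) *
              ((γ : MulAut H) x * x⁻¹) := by
          rw [Subgroup.coe_mul, MulAut.mul_apply]
          group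
        rw [e]
        exact mul_mem (hβ _) (hγ _)
      inv_mem' := by
        intro β hβ x
        have h1 := hβ (((β : MulAut H)⁻¹) x)
        have e : ((β⁻¹ : ↥A) : MulAut H) x * x⁻¹ =
            ((β : MulAut H) (((β : MulAut H)⁻¹) x) * (((β : MulAut H)⁻¹) x)⁻¹)⁻¹ := by
          rw [Subgroup.coe_inv, MulAut.apply_inv_self, mul_inv_rev, inv_inv]
        rw [e]
        exact inv_mem h1 }
  have hKn : K.Normal := by
    constructor
    intro β hβ γ x
    have h1 := hβ (((γ : MulAut H)⁻¹) x)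
    have e : ((γ * β * γ⁻¹ : ↥A) : MulAut H) x * x⁻¹ =
        (γ : MulAut H) ((β : MulAut H) (((γ : MulAut H)⁻¹) x) * (((γ : MulAut H)⁻¹) x)⁻¹) := by
      rw [Subgroup.coe_mul, Subgroup.coe_mul, Subgroup.coe_inv, MulAut.mul_apply, MulAut.mul_apply,
        map_mul, map_inv, MulAut.apply_inv_self]
    rw [e]
    exact hchar _ _ h1
  have hKp : IsPGroup 2 ↥K := by
    intro β
    have hne : orderOf (β : ↥A) ≠ 0 := (orderOf_pos (β : ↥A)).ne'
    obtain ⟨e, m, hm, hem⟩ := Nat.exists_eq_pow_mul_and_not_dvd hne 2 (by norm_num)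
    refine ⟨e, ?_⟩
    have hγK : ((β : ↥A) ^ (2 ^ e)) ∈ K := K.pow_mem β.2 _
    have hγm : (((β : ↥A) ^ (2 ^ e) : ↥A) : MulAut H) ^ m = 1 := by
      rw [← Subgroup.coe_pow, ← pow_mul, ← hem, pow_orderOf_eq_one, Subgroup.coe_one]
    have hcop : (orderOf (((β : ↥A) ^ (2 ^ e) : ↥A) : MulAut H)).Coprime 2 := by
      have hd : orderOf (((β : ↥A) ^ (2 ^ e) : ↥A) : MulAut H) ∣ m := orderOf_dvd_of_pow_eq_one hγm
      have hm2 : m.Coprime 2 := ((Nat.Prime.coprime_iff_not_dvd Nat.prime_two).mpr hm).symm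
      exact Nat.Coprime.coprime_dvd_left hd hm2
    have h1 := AbAut.eq_one_of_coprime_of_frattini hH _ hcop hγK
    apply Subtype.ext
    apply Subtype.ext
    rw [Subgroup.coe_pow, Subgroup.coe_pow, Subgroup.coe_one, Subgroup.coe_one]
    rw [Subgroup.coe_pow] at h1
    exact h1
  have hmap : K.map (QuotientGroup.mk' ((Cfsg.Inn H).subgroupOf A)) = ⊥ :=
    eq_bot_of_normal_of_stronglyPEmbedded hE (hKn.map _ (QuotientGroup.mk'_surjective _))
      (hKp.map _)
  have hαK : (⟨α, hα⟩ : ↥A) ∈ K := by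
    intro x
    change α x * x⁻¹ ∈ frattini H
    rw [AbAut.frattini_eq_pw hH, AbAut.mem_pw]
    obtain ⟨z, hz⟩ := hsq x
    exact ⟨z, by rw [pow_two, hz]⟩
  have h2 : QuotientGroup.mk' ((Cfsg.Inn H).subgroupOf A) ⟨α, hα⟩ ∈
      K.map (QuotientGroup.mk' ((Cfsg.Inn H).subgroupOf A)) := Subgroup.mem_map_of_mem _ hαK
  rw [hmap, Subgroup.mem_bot, QuotientGroup.mk'_apply, QuotientGroup.eq_one_iff,
    Subgroup.mem_subgroupOf] at h2
  obtain ⟨g, hg⟩ := h2
  change MulAut.conj g = α at hg
  rw [← hg]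
  ext x
  rw [MulAut.conj_apply, MulAut.one_apply, hab g x, mul_inv_cancel_right]

section Homocyclic

variable {n : ℕ}

theorem cyc_pow (c : Multiplicative (ZMod (2 ^ n))) : c ^ (2 ^ n) = 1 := by
  apply Multiplicative.toAdd.injective
  rw [toAdd_pow, toAdd_one, nsmul_eq_mul, ZMod.natCast_self, zero_mul]

theorem cyc_card : Nat.card (Multiplicative (ZMod (2 ^ n))) = 2 ^ n := by
  rw [Nat.card_congr Multiplicative.toAdd, Nat.card_zmod]

variable {Y : Type*} [Group Y]
  (e : Y ≃* Multiplicative (ZMod (2 ^ n)) × Multiplicative (ZMod (2 ^ n)))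

include e

theorem hc_comm (x y : Y) : x * y = y * x := by
  apply e.injective
  rw [map_mul, map_mul, mul_comm]

theorem hc_pow (x : Y) : x ^ (2 ^ n) = 1 := by
  apply e.injective
  rw [map_pow, map_one]
  apply Prod.ext
  · rw [Prod.pow_fst, cyc_pow, Prod.fst_one]
  · rw [Prod.pow_snd, cyc_pow, Prod.snd_one]

theorem hc_card : Nat.card Y = 2 ^ n * 2 ^ n := by
  rw [Nat.card_congr e.toEquiv, Nat.card_prod, cyc_card]

theorem hc_nonsq (x : Y) (hx : ∀ z : Y, z * z ≠ x) : orderOf x = 2 ^ n := by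
  haveI : Fact (Nat.Prime 2) := ⟨Nat.prime_two⟩
  have hC2 : IsPGroup 2 (Multiplicative (ZMod (2 ^ n))) := IsPGroup.of_card (n := n) cyc_card
  have key : ∀ c : Multiplicative (ZMod (2 ^ n)), (∀ d, d * d ≠ c) → orderOf c = 2 ^ n := by
    intro c hc
    have h1 := MetaTwo.zpowers_eq_top_of_not_sq hC2 c hc
    rw [orderOf_eq_card_of_zpowers_eq_top h1, cyc_card]
  have hdvd : orderOf x ∣ 2 ^ n := orderOf_dvd_of_pow_eq_one (hc_pow e x)
  by_cases h1 : ∀ d, d * d ≠ (e x).1
  · have h2 := key _ h1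
    have h3 : orderOf (e x).1 ∣ orderOf x :=
      orderOf_map_dvd ((MonoidHom.fst _ _).comp e.toMonoidHom) x
    rw [h2] at h3
    exact Nat.dvd_antisymm hdvd h3
  · by_cases h1' : ∀ d, d * d ≠ (e x).2
    · have h2 := key _ h1'
      have h3 : orderOf (e x).2 ∣ orderOf x :=
        orderOf_map_dvd ((MonoidHom.snd _ _).comp e.toMonoidHom) x
      rw [h2] at h3
      exact Nat.dvd_antisymm hdvd h3
    · push Not at h1 h1'
      obtain ⟨c, hc⟩ := h1
      obtain ⟨d, hd⟩ := h1'
      exfalso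
      apply hx (e.symm (c, d))
      apply e.injective
      rw [map_mul, e.apply_symm_apply]
      apply Prod.ext
      · exact hc
      · exact hd

end Homocyclic

/-- the purely group-theoretic analysis of a self-centralizing subgroup `P` of a metacyclic
`2`-group with `Aut P` not a `2`-group -/
theorem centric_cases {X : Type*} [Group X] [Finite X] (hX : IsPGroup 2 X)
    (N : Subgroup X) [hNn : N.Normal] [hNc : IsCyclic N] [hQc : IsCyclic (X ⧸ N)]
    (P : Subgroup X) (hcen : Subgroup.centralizer (P : Set X) ≤ P)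
    (hAut : ¬ IsPGroup 2 (MulAut ↥P))
    (htr : (∀ x ∈ P, ∀ y ∈ P, x * y = y * x) → ∀ t ∈ Subgroup.normalizer (P : Set X), t ∉ P →
      ∃ x₀ ∈ P, ∀ z ∈ P, z * z ≠ t * x₀ * t⁻¹ * x₀⁻¹) :
    P = ⊤ ∨ (∃ k : ℕ, Nonempty (X ≃* DihedralGroup (2 ^ (k + 2)))) ∨
      (∃ k : ℕ, Nat.card X = 2 ^ (k + 4) ∧ ∃ a b : X, orderOf a = 2 ^ (k + 3) ∧ orderOf b = 2 ∧
        b * a * b⁻¹ = a ^ (2 ^ (k + 2) - 1)) ∨
      (∃ k : ℕ, Nonempty (X ≃* QuaternionGroup (2 ^ (k + 1)))) := by
  have hmX : Cfsg.IsMetacyclic X := ⟨N, hNn, hNc, hQc⟩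
  have hmP : Cfsg.IsMetacyclic ↥P :=
    isMetacyclic_of_injective P.subtype P.subtype_injective hmX
  rcases Cfsg.Agent.Lib.Helper9.mt_main (hX.to_subgroup P) hmP hAut with ⟨⟨e⟩⟩ | ⟨n, ⟨e⟩⟩
  · exact MetaTwo.quat_case hX N P hcen e
  · have hPab : ∀ x ∈ P, ∀ y ∈ P, x * y = y * x := fun x hx y hy =>
      congrArg Subtype.val (hc_comm e ⟨x, hx⟩ ⟨y, hy⟩)
    have hexp' : ∀ x ∈ P, x ^ (2 ^ n) = 1 := fun x hx =>
      congrArg Subtype.val (hc_pow e ⟨x, hx⟩)
    have hcard : Nat.card ↥P = 2 ^ n * 2 ^ n := hc_card e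
    rcases Nat.lt_or_ge n 2 with hn | hn
    · interval_cases n
      · left
        have hbot : P = ⊥ := Subgroup.eq_bot_of_card_eq P (by rw [hcard]; norm_num)
        rw [eq_top_iff]
        intro y _
        apply hcen
        rw [Subgroup.mem_centralizer_iff]
        intro h hh
        rw [hbot] at hh
        rw [Subgroup.mem_bot.mp hh, one_mul, mul_one]
      · refine MetaTwo.klein_case hX N P hcen (by rw [hcard]; norm_num) (fun x hx => ?_)
        have h1 := hexp' x hx
        rwa [pow_one, pow_two] at h1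
    · by_cases htop : P = ⊤
      · left
        exact htop
      · exfalso
        obtain ⟨t, htN, htP, ht2⟩ := exists_sq_outer hX P htop
        obtain ⟨x₀, hx₀, hns⟩ := htr hPab t htN htP
        refine MetaTwo.no_transvection hX N P hPab n hn ?_ hexp' t ?_ ht2 x₀ hx₀ hns
        · intro x hx hz
          have h1 := hc_nonsq e ⟨x, hx⟩ (fun z hzz => hz z.1 z.2 (congrArg Subtype.val hzz))
          rwa [Subgroup.orderOf_mk] at h1
        · intro x hx
          exact (Subgroup.mem_normalizer_iff.mp htN x).mp hx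

/-- `C × C` as functions on `Fin 2` -/
def prodEquivFinTwo (R : Type*) [AddGroup R] :
    Multiplicative R × Multiplicative R ≃* Multiplicative (Fin 2 → R) where
  toFun x := Multiplicative.ofAdd ![Multiplicative.toAdd x.1, Multiplicative.toAdd x.2]
  invFun f := (Multiplicative.ofAdd (Multiplicative.toAdd f 0),
    Multiplicative.ofAdd (Multiplicative.toAdd f 1))
  left_inv x := by
    apply Prod.ext <;> simp
  right_inv f := by
    apply Multiplicative.toAdd.injective
    funext i
    fin_cases i <;> simp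
  map_mul' x y := by
    apply Multiplicative.toAdd.injective
    funext i
    fin_cases i <;> simp

/-- Let S be a finite metacyclic 2-group that is not homocyclic abelian (a direct product of cyclic groups of one common order), not dihedral, not semidihedral and not generalized quaternion. Then every saturated fusion system over S is the inner fusion system of S. -/
theorem result {Ω : Type*} [Group Ω] {S : Subgroup Ω} [Finite S] (hS : IsPGroup 2 S) (F : Cfsg.FusionSystem S) (hF : F.IsSaturated 2) (hm : Cfsg.IsMetacyclic ↥S) (hh : ¬ ∃ n k : ℕ, Nonempty (↥S ≃* Multiplicative (Fin k → ZMod (2 ^ n)))) (hd : ¬ ∃ m : ℕ, Nonempty (↥S ≃* DihedralGroup m)) (hq : ¬ ∃ m : ℕ, Nonempty (↥S ≃* QuaternionGroup m)) (hsd : ¬ Cfsg.IsQuasiDihedral ↥S) : ∀ P : Subgroup Ω, F.Hom P = (Cfsg.innerFusionSystem S).Hom P := by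
  haveI : Fact (Nat.Prime 2) := ⟨Nat.prime_two⟩
  have hmS : Cfsg.IsMetacyclic ↥S := hm
  obtain ⟨N, hNn, hNc, hQc⟩ := hm
  have hAutS : IsPGroup 2 (MulAut ↥S) := by
    by_contra hA
    rcases Cfsg.Agent.Lib.Helper9.mt_main hS hmS hA with ⟨⟨e⟩⟩ | ⟨n, ⟨e⟩⟩
    · exact hq ⟨2, ⟨e⟩⟩
    · exact hh ⟨n, 2, ⟨e.trans (prodEquivFinTwo _)⟩⟩
  have key : F ≤ innerFusionSystem S := by
    refine Cfsg.Agent.S5082.result 2 hS F hF _ ?_
    intro P hP
    rcases hP with hPeq | hess
    · obtain ⟨-, ⟨-, R, hR⟩, -⟩ := saturated_fullyNormalized hS F hF (top_fullyNormalized F)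
      subst hPeq
      have hAP : IsPGroup 2 (F.autGroup P) := hAutS.to_subgroup _
      have hp : IsPGroup 2 (⊤ : Subgroup (F.autGroup P)) := by
        intro x
        obtain ⟨k, hk⟩ := hAP x.1
        exact ⟨k, Subtype.ext hk⟩
      have htop : (⊤ : Subgroup (F.autGroup P)) = R := R.is_maximal' hp le_top
      intro α hα
      have h1 : (⟨α, hα⟩ : F.autGroup P) ∈ (R : Subgroup (F.autGroup P)) := by
        rw [← htop]
        exact Subgroup.mem_top _
      rw [hR] at h1
      exact autInducedBy_le_autGroup (innerFusionSystem P) le_rfl (Subgroup.mem_subgroupOf.mp h1)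
    · exfalso
      have hess' := hess
      obtain ⟨hcen, hfn, hnorm, E, hE⟩ := hess
      have hPS : P ≤ S := hcen.1
      have hcenP : centralizerIn S P ≤ P := hcen.2 P (isConj_refl F hPS)
      haveI hfinP : Finite P := finite_of_le hPS
      have hP2 : IsPGroup 2 ↥P := hS.to_le hPS
      have hAutP : ¬ IsPGroup 2 (MulAut ↥P) := fun h =>
        Cfsg.Agent.S5083.not_essential_of_isPGroup 2 F (h.to_subgroup _) hess'
      let ι : ↥(P.subgroupOf S) ≃* ↥P := Subgroup.subgroupOfEquivOfLe hPS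
      have hcen' : Subgroup.centralizer ((P.subgroupOf S : Subgroup ↥S) : Set ↥S) ≤
          P.subgroupOf S := by
        intro y hy
        rw [Subgroup.mem_subgroupOf]
        apply hcenP
        refine ⟨y.2, ?_⟩
        change (y : Ω) ∈ Subgroup.centralizer (P : Set Ω)
        rw [Subgroup.mem_centralizer_iff]
        intro h hh
        have h1 := Subgroup.mem_centralizer_iff.mp hy ⟨h, hPS hh⟩ (Subgroup.mem_subgroupOf.mpr hh)
        exact congrArg Subtype.val h1
      have hAut' : ¬ IsPGroup 2 (MulAut ↥(P.subgroupOf S)) := fun h =>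
        hAutP (h.of_equiv (MulAut.congr ι))
      have htr : (∀ x ∈ P.subgroupOf S, ∀ y ∈ P.subgroupOf S, x * y = y * x) →
          ∀ t ∈ Subgroup.normalizer ((P.subgroupOf S : Subgroup ↥S) : Set ↥S),
            t ∉ P.subgroupOf S →
          ∃ x₀ ∈ P.subgroupOf S, ∀ z ∈ P.subgroupOf S, z * z ≠ t * x₀ * t⁻¹ * x₀⁻¹ := by
        intro hab t htN htP
        by_contra hno
        push Not at hno
        have hconj : ∀ (s : ↥S), s ∈ Subgroup.normalizer ((P.subgroupOf S : Subgroup ↥S) : Set ↥S) →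
            ∀ x ∈ P, (s : Ω) * x * (s : Ω)⁻¹ ∈ P := by
          intro s hs x hx
          have h1 := (Subgroup.mem_normalizer_iff.mp hs ⟨x, hPS hx⟩).mp
            (Subgroup.mem_subgroupOf.mpr hx)
          exact Subgroup.mem_subgroupOf.mp h1
        have hg : (t : Ω) ∈ Subgroup.normalizer (P : Set Ω) := by
          rw [Subgroup.mem_normalizer_iff]
          intro x
          constructor
          · exact hconj t htN x
          · intro hx
            have h1 := hconj t⁻¹ (inv_mem htN) _ hx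
            have e : ((t⁻¹ : ↥S) : Ω) * ((t : Ω) * x * (t : Ω)⁻¹) * ((t⁻¹ : ↥S) : Ω)⁻¹ = x := by
              rw [Subgroup.coe_inv]
              group
            rwa [e] at h1
        have hαA : conjAut P (t : Ω) hg ∈ F.autGroup P :=
          autInducedBy_le_autGroup F hPS (conjAut_mem_autInducedBy t.2 hg)
        have hPab : ∀ a b : ↥P, a * b = b * a := by
          intro a b
          have h1 := hab ⟨a.1, hPS a.2⟩ (Subgroup.mem_subgroupOf.mpr a.2) ⟨b.1, hPS b.2⟩
            (Subgroup.mem_subgroupOf.mpr b.2)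
          exact Subtype.ext (congrArg (fun u : ↥S => (u : Ω)) h1)
        have h1 : conjAut P (t : Ω) hg = 1 := by
          refine aut_eq_one_of_sq hPab hP2 (F.autGroup P) hnorm E hE _ hαA ?_
          intro x
          obtain ⟨z, hz, hzz⟩ := hno ⟨x.1, hPS x.2⟩ (Subgroup.mem_subgroupOf.mpr x.2)
          refine ⟨⟨z.1, Subgroup.mem_subgroupOf.mp hz⟩, Subtype.ext ?_⟩
          have h2 := congrArg (fun u : ↥S => (u : Ω)) hzz
          simpa [conjAut_apply] using h2
        apply htP
        rw [Subgroup.mem_subgroupOf]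
        apply hcenP
        refine ⟨t.2, ?_⟩
        change (t : Ω) ∈ Subgroup.centralizer (P : Set Ω)
        rw [Subgroup.mem_centralizer_iff]
        intro h hh
        have h2 := congrArg (fun β : MulAut ↥P => ((β ⟨h, hh⟩ : ↥P) : Ω)) h1
        simp only [conjAut_apply, MulAut.one_apply] at h2
        calc h * (t : Ω) = ((t : Ω) * h * (t : Ω)⁻¹) * (t : Ω) := by rw [h2]
          _ = (t : Ω) * h := by group
      rcases centric_cases hS N (P.subgroupOf S) hcen' hAut' htr with
        htop | ⟨k, ⟨e⟩⟩ | ⟨k, hcard, a, b, ha, hb, hab⟩ | ⟨k, ⟨e⟩⟩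
      · have eSP : ↥S ≃* ↥P :=
          (Subgroup.topEquiv.symm.trans (MulEquiv.subgroupCongr htop.symm)).trans ι
        have hmP : Cfsg.IsMetacyclic ↥P :=
          isMetacyclic_of_injective (Subgroup.inclusion hPS) (Subgroup.inclusion_injective hPS) hmS
        rcases Cfsg.Agent.Lib.Helper9.mt_main hP2 hmP hAutP with ⟨⟨e⟩⟩ | ⟨n, ⟨e⟩⟩
        · exact hq ⟨2, ⟨eSP.trans e⟩⟩
        · exact hh ⟨n, 2, ⟨(eSP.trans e).trans (prodEquivFinTwo _)⟩⟩
      · exact hd ⟨_, ⟨e⟩⟩
      · exact hsd ⟨k + 3, by omega, hcard, a, b, ha, hb, hab⟩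
      · exact hq ⟨_, ⟨e⟩⟩
  intro P
  exact Set.Subset.antisymm (key P) (Cfsg.Agent.S5083.inner_le F P)

end Cfsg.Agent.S5212
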