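import Cfsg.Statements.S5087
import Cfsg.Agent.Lib.Helper26.FusionNormal

set_option autoImplicit false
open Cfsg

namespace Cfsg.Agent.S5087

open Cfsg.Agent.Lib.Helper26 Cfsg.FusionSystem

theorem result {Ω : Type*} [Group Ω] {S : Subgroup Ω} [Finite S] (p : ℕ) [Fact p.Prime] (hS : IsPGroup p S) (F : Cfsg.FusionSystem S) (hF : F.IsSaturated p) (Q : Subgroup Ω) : F.IsNormal Q ↔ ∀ P : Subgroup Ω, (P = S ∨ F.IsEssential p P) → (Q ≤ P ∧ ∀ α ∈ F.autGroup P, (Q.subgroupOf P).map α.toMonoidHom = Q.subgroupOf P) := by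
  constructor
  · intro hQ P hP
    rcases hP with rfl | hess
    · exact ⟨hQ.1, fun α hα => isNormal_map_eq hQ le_rfl hα⟩
    · have hPS : P ≤ S := hess.2.1.1
      have hrad := Cfsg.Agent.S5080.result p hS F hF P hess
      have hC : centralizerIn S P ≤ P := hess.1.2 P (isConj_refl F hPS)
      exact ⟨isNormal_le_of_centric_radical hS hQ hPS hC hrad,
        fun α hα => isNormal_map_eq hQ hPS hα⟩
  · exact isNormal_of_forall_essential hS F hF Q

end Cfsg.Agent.S5087
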