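import Cfsg.Statements.S5235
import Cfsg.Agent.S5087
import Cfsg.Agent.S5212
import Cfsg.Agent.Lib.Helper27.MetaTwoB
import Cfsg.Agent.Lib.Helper27.EssStab
import Cfsg.Agent.Lib.Helper27.FratStab
import Cfsg.Agent.Lib.Helper27.FusLift

set_option autoImplicit false
open Cfsg

namespace Cfsg.Agent.S5235

open Cfsg.Agent.Lib.Helper26 Cfsg.FusionSystem Cfsg.Agent.Lib.Helper27

/-- the pull-back of a metacyclic structure along an injective homomorphism -/
theorem metacyclic_comap {X : Type*} {Y : Type*} [Group X] [Group Y] (f : Y →* X)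
    (hf : Function.Injective f) (N : Subgroup X) (hNn : N.Normal) (hNc : IsCyclic ↥N)
    (hQc : IsCyclic (X ⧸ N)) :
    IsCyclic ↥(N.comap f) ∧ IsCyclic (Y ⧸ N.comap f) := by
  constructor
  · refine isCyclic_of_injective (f.subgroupComap N) ?_
    intro a b hab
    apply Subtype.ext
    apply hf
    exact congrArg Subtype.val hab
  · refine isCyclic_of_injective (QuotientGroup.map (N.comap f) N f le_rfl) ?_
    rw [injective_iff_map_eq_one]
    intro q
    induction q using QuotientGroup.induction_on with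
    | H y =>
      intro h
      rw [QuotientGroup.map_mk, QuotientGroup.eq_one_iff] at h
      rw [QuotientGroup.eq_one_iff]
      exact h

/-- element form of `S5212.centric_cases` -/
theorem centric_cases_invert {X : Type*} [Group X] [Finite X] (hX : IsPGroup 2 X)
    (N : Subgroup X) [hNn : N.Normal] [hNc : IsCyclic N] [hQc : IsCyclic (X ⧸ N)]
    (P : Subgroup X) (hcen : Subgroup.centralizer (P : Set X) ≤ P)
    (hAut : ¬ IsPGroup 2 (MulAut ↥P))
    (htr : (∀ x ∈ P, ∀ y ∈ P, x * y = y * x) → ∀ t ∈ Subgroup.normalizer (P : Set X), t ∉ P →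
      ∃ x₀ ∈ P, ∀ z ∈ P, z * z ≠ t * x₀ * t⁻¹ * x₀⁻¹) :
    P = ⊤ ∨ ∃ h ∈ P, h ∉ N ∧ h * h ∈ N ∧ ∃ q ∈ N, orderOf q = 4 ∧ q * h ≠ h * q := by
  have hmX : Cfsg.IsMetacyclic X := ⟨N, hNn, hNc, hQc⟩
  have hmP : Cfsg.IsMetacyclic ↥P :=
    Cfsg.Agent.S5212.isMetacyclic_of_injective P.subtype P.subtype_injective hmX
  rcases Cfsg.Agent.Lib.Helper9.mt_main (hX.to_subgroup P) hmP hAut with ⟨⟨e⟩⟩ | ⟨n, ⟨e⟩⟩
  · exact MetaTwoB.quat_invert hX N P hcen e
  · have hPab : ∀ x ∈ P, ∀ y ∈ P, x * y = y * x := fun x hx y hy =>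
      congrArg Subtype.val (Cfsg.Agent.S5212.hc_comm e ⟨x, hx⟩ ⟨y, hy⟩)
    have hexp' : ∀ x ∈ P, x ^ (2 ^ n) = 1 := fun x hx =>
      congrArg Subtype.val (Cfsg.Agent.S5212.hc_pow e ⟨x, hx⟩)
    have hcard : Nat.card ↥P = 2 ^ n * 2 ^ n := Cfsg.Agent.S5212.hc_card e
    rcases Nat.lt_or_ge n 2 with hn | hn
    · interval_cases n
      · left
        have hbot : P = ⊥ := Subgroup.eq_bot_of_card_eq P (by rw [hcard]; norm_num)
        rw [eq_top_iff]
        intro y _
        apply hcen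
        rw [Subgroup.mem_centralizer_iff]
        intro h hh
        rw [hbot] at hh
        rw [Subgroup.mem_bot.mp hh, one_mul, mul_one]
      · refine MetaTwoB.klein_invert hX N P hcen (by rw [hcard]; norm_num) (fun x hx => ?_)
        have h1 := hexp' x hx
        rwa [pow_one, pow_two] at h1
    · by_cases htop : P = ⊤
      · left
        exact htop
      · exfalso
        obtain ⟨t, htN, htP, ht2⟩ := Cfsg.Agent.S5212.exists_sq_outer hX P htop
        obtain ⟨x₀, hx₀, hns⟩ := htr hPab t htN htP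
        refine MetaTwo.no_transvection hX N P hPab n hn ?_ hexp' t ?_ ht2 x₀ hx₀ hns
        · intro x hx hz
          have h1 := Cfsg.Agent.S5212.hc_nonsq e ⟨x, hx⟩
            (fun z hzz => hz z.1 z.2 (congrArg Subtype.val hzz))
          rwa [Subgroup.orderOf_mk] at h1
        · intro x hx
          exact (Subgroup.mem_normalizer_iff.mp htN x).mp hx


theorem normalizer_of_subgroupOf {Ω : Type*} [Group Ω] {W R : Subgroup Ω} (hRW : R ≤ W) {t : ↥W}
    (ht : t ∈ Subgroup.normalizer ((R.subgroupOf W : Subgroup ↥W) : Set ↥W)) :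
    (t : Ω) ∈ Subgroup.normalizer (R : Set Ω) := by
  have hconj : ∀ (s : ↥W), s ∈ Subgroup.normalizer ((R.subgroupOf W : Subgroup ↥W) : Set ↥W) →
      ∀ x ∈ R, (s : Ω) * x * (s : Ω)⁻¹ ∈ R := by
    intro s hs x hx
    have h1 := (Subgroup.mem_normalizer_iff.mp hs ⟨x, hRW hx⟩).mp (Subgroup.mem_subgroupOf.mpr hx)
    exact Subgroup.mem_subgroupOf.mp h1
  rw [Subgroup.mem_normalizer_iff]
  intro x
  constructor
  · exact hconj t ht x
  · intro hx
    have h1 := hconj t⁻¹ (inv_mem ht) _ hx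
    have e : ((t⁻¹ : ↥W) : Ω) * ((t : Ω) * x * (t : Ω)⁻¹) * ((t⁻¹ : ↥W) : Ω)⁻¹ = x := by
      rw [Subgroup.coe_inv]
      group
    rwa [e] at h1

/-- a strongly closed metacyclic `2`-subgroup not of maximal class lies in every essential
subgroup -/
theorem le_essential {Ω : Type*} [Group Ω] {S : Subgroup Ω} [Finite S] (hS : IsPGroup 2 S)
    (F : Cfsg.FusionSystem S) (P : Subgroup Ω) (hP : F.StronglyClosed P)
    (hm : Cfsg.IsMetacyclic ↥P)
    (hd : ¬ ∃ m : ℕ, Nonempty (↥P ≃* DihedralGroup m))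
    (hq : ¬ ∃ m : ℕ, Nonempty (↥P ≃* QuaternionGroup m))
    (hsd : ¬ Cfsg.IsQuasiDihedral ↥P)
    (R : Subgroup Ω) (hess : F.IsEssential 2 R) : P ≤ R := by
  haveI : Fact (Nat.Prime 2) := ⟨Nat.prime_two⟩
  by_contra hnot
  have hPS : P ≤ S := hP.1
  have hRS : R ≤ S := hess.1.1
  haveI hfinP : Finite P := finite_of_le hPS
  haveI hfinR : Finite R := finite_of_le hRS
  have hP2 : IsPGroup 2 ↥P := hS.to_le hPS
  have hPn : ∀ s ∈ S, ∀ x ∈ P, s * x * s⁻¹ ∈ P := by
    intro s hs x hx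
    exact hP.2 P le_rfl (conjHom P s) (F.conj_mem hPS hs) ⟨x, hx⟩
  have hRnP : R ≤ Subgroup.normalizer (P : Set Ω) := by
    intro r hr
    rw [Subgroup.mem_normalizer_iff]
    intro x
    constructor
    · exact hPn r (hRS hr) x
    · intro hx
      have h1 := hPn r⁻¹ (S.inv_mem (hRS hr)) _ hx
      have e : r⁻¹ * (r * x * r⁻¹) * r⁻¹⁻¹ = x := by group
      rwa [e] at h1
  -- `M = N_P(R)` is not contained in `R`
  have hMR : ¬ (P ⊓ Subgroup.normalizer (R : Set Ω)) ≤ R := by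
    intro hle
    apply hnot
    have hWS : R ⊔ P ≤ S := sup_le hRS hPS
    haveI hfinW : Finite ↥(R ⊔ P) := finite_of_le hWS
    by_cases htop : R.subgroupOf (R ⊔ P) = ⊤
    · intro x hx
      have h1 : (⟨x, (le_sup_right : P ≤ R ⊔ P) hx⟩ : ↥(R ⊔ P)) ∈ R.subgroupOf (R ⊔ P) := by
        rw [htop]
        exact Subgroup.mem_top _
      exact Subgroup.mem_subgroupOf.mp h1
    · exfalso
      obtain ⟨t, htN, htR, -⟩ :=
        Cfsg.Agent.S5212.exists_sq_outer (hS.to_le hWS) (R.subgroupOf (R ⊔ P)) htop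
      have htN' : (t : Ω) ∈ Subgroup.normalizer (R : Set Ω) :=
        normalizer_of_subgroupOf le_sup_left htN
      obtain ⟨r, hr, x, hx, hrx⟩ := exists_mul_of_mem_sup hRnP t.2
      have hxN : x ∈ Subgroup.normalizer (R : Set Ω) := by
        have e : x = r⁻¹ * (t : Ω) := by rw [hrx]; group
        rw [e]
        exact Subgroup.mul_mem _ (Subgroup.inv_mem _ (Subgroup.le_normalizer hr)) htN'
      have hxR : x ∈ R := hle ⟨hx, hxN⟩
      apply htR
      rw [Subgroup.mem_subgroupOf, hrx]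
      exact R.mul_mem hr hxR
  have hQR : P ⊓ R ≤ R := inf_le_right
  haveI hfinQ : Finite ↥(P ⊓ R) := finite_of_le (hQR.trans hRS)
  have hQ2 : IsPGroup 2 ↥(P ⊓ R) := hS.to_le (hQR.trans hRS)
  have hinv : ∀ α ∈ F.autGroup R, ∀ z (hz : z ∈ P ⊓ R), ((α ⟨z, hQR hz⟩ : R) : Ω) ∈ P ⊓ R := by
    intro α hα z hz
    refine ⟨?_, (α _).2⟩
    have h2 := (mem_autGroup_iff F hRS).mp hα
    exact hP.2 (P ⊓ R) inf_le_left _ (restrict_mem F h2 hQR) ⟨z, hz⟩
  -- elements of `M` normalize `Q = P ⊓ R`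
  have hMQ : ∀ u ∈ P ⊓ Subgroup.normalizer (R : Set Ω),
      u ∈ Subgroup.normalizer ((P ⊓ R : Subgroup Ω) : Set Ω) := by
    intro u hu
    have h1 : u ∈ Subgroup.normalizer (P : Set Ω) := Subgroup.le_normalizer hu.1
    rw [Subgroup.mem_normalizer_iff] at h1 ⊢
    have h2 := Subgroup.mem_normalizer_iff.mp hu.2
    intro x
    rw [Subgroup.mem_inf, Subgroup.mem_inf, h1 x, h2 x]
  -- the key consequence of essentiality
  have key : ∀ (B : Subgroup (MulAut ↥(P ⊓ R))), B.Normal → IsPGroup 2 ↥B →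
      ∀ u (hu : u ∈ P ⊓ Subgroup.normalizer (R : Set Ω)),
        conjAut (P ⊓ R) u (hMQ u hu) ∈ B → u ∈ R := by
    intro B hBn hBp u hu hβ
    refine EssStab.mem_of_stab hS F hess hQR hinv B hBn hBp u (hPS hu.1) hu.2 ?_
      ⟨_, hβ, fun y => rfl⟩
    intro x hx
    refine ⟨?_, ?_⟩
    · have h1 : x⁻¹ * u * x⁻¹⁻¹ ∈ P := hPn x⁻¹ (S.inv_mem (hRS hx)) u hu.1
      have e : x⁻¹ * (u * x * u⁻¹) = (x⁻¹ * u * x⁻¹⁻¹) * u⁻¹ := by group
      rw [e]
      exact P.mul_mem h1 (P.inv_mem hu.1)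
    · have h1 : u * x * u⁻¹ ∈ R := (Subgroup.mem_normalizer_iff.mp hu.2 x).mp hx
      exact R.mul_mem (R.inv_mem hx) h1
  obtain ⟨N, hNn, hNc, hQc⟩ := hm
  have hMP : P ⊓ Subgroup.normalizer (R : Set Ω) ≤ P := inf_le_left
  have hQM : P ⊓ R ≤ P ⊓ Subgroup.normalizer (R : Set Ω) :=
    fun x hx => ⟨hx.1, Subgroup.le_normalizer hx.2⟩
  haveI hfinM : Finite ↥(P ⊓ Subgroup.normalizer (R : Set Ω)) := finite_of_le (hMP.trans hPS)
  have hM2 : IsPGroup 2 ↥(P ⊓ Subgroup.normalizer (R : Set Ω)) := hS.to_le (hMP.trans hPS)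
  have hf : Function.Injective (Subgroup.inclusion hMP) := Subgroup.inclusion_injective hMP
  obtain ⟨hNMc, hQMc⟩ := metacyclic_comap (Subgroup.inclusion hMP) hf N hNn hNc hQc
  haveI hNMn : (N.comap (Subgroup.inclusion hMP)).Normal := hNn.comap _
  haveI := hNMc
  haveI := hQMc
  have hcen' : Subgroup.centralizer
      (((P ⊓ R).subgroupOf (P ⊓ Subgroup.normalizer (R : Set Ω)) :
        Subgroup ↥(P ⊓ Subgroup.normalizer (R : Set Ω))) : Set _) ≤
      (P ⊓ R).subgroupOf (P ⊓ Subgroup.normalizer (R : Set Ω)) := by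
    intro v hv
    rw [Subgroup.mem_subgroupOf]
    have hvR : (v : Ω) ∈ R := by
      refine key ⊥ inferInstance IsPGroup.of_bot v.1 v.2 ?_
      rw [Subgroup.mem_bot]
      apply MulEquiv.ext
      intro y
      apply Subtype.ext
      rw [conjAut_apply, MulAut.one_apply]
      have h1 := (Subgroup.mem_centralizer_iff.mp hv) ⟨y.1, hQM y.2⟩
        (Subgroup.mem_subgroupOf.mpr y.2)
      have h2 : (y : Ω) * (v : Ω) = (v : Ω) * (y : Ω) := congrArg Subtype.val h1
      rw [← h2]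
      group
    exact ⟨hMP v.2, hvR⟩
  have hAutQ : ¬ IsPGroup 2 (MulAut ↥(P ⊓ R)) := by
    intro hpg
    apply hMR
    intro u hu
    exact key ⊤ inferInstance (hpg.to_subgroup ⊤) u hu (Subgroup.mem_top _)
  have hAut' : ¬ IsPGroup 2
      (MulAut ↥((P ⊓ R).subgroupOf (P ⊓ Subgroup.normalizer (R : Set Ω)))) := fun hpg =>
    hAutQ (hpg.of_equiv (MulAut.congr (Subgroup.subgroupOfEquivOfLe hQM)))
  have htr : (∀ x ∈ (P ⊓ R).subgroupOf (P ⊓ Subgroup.normalizer (R : Set Ω)),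
        ∀ y ∈ (P ⊓ R).subgroupOf (P ⊓ Subgroup.normalizer (R : Set Ω)), x * y = y * x) →
      ∀ t ∈ Subgroup.normalizer
        (((P ⊓ R).subgroupOf (P ⊓ Subgroup.normalizer (R : Set Ω)) :
          Subgroup ↥(P ⊓ Subgroup.normalizer (R : Set Ω))) : Set _),
        t ∉ (P ⊓ R).subgroupOf (P ⊓ Subgroup.normalizer (R : Set Ω)) →
      ∃ x₀ ∈ (P ⊓ R).subgroupOf (P ⊓ Subgroup.normalizer (R : Set Ω)),
        ∀ z ∈ (P ⊓ R).subgroupOf (P ⊓ Subgroup.normalizer (R : Set Ω)),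
          z * z ≠ t * x₀ * t⁻¹ * x₀⁻¹ := by
    intro hab t _ htQ
    by_contra hall
    push Not at hall
    apply htQ
    rw [Subgroup.mem_subgroupOf]
    have habQ : ∀ a b : ↥(P ⊓ R), a * b = b * a := by
      intro a b
      have h1 := hab ⟨a.1, hQM a.2⟩ (Subgroup.mem_subgroupOf.mpr a.2) ⟨b.1, hQM b.2⟩
        (Subgroup.mem_subgroupOf.mpr b.2)
      apply Subtype.ext
      exact congrArg (fun u : ↥(P ⊓ Subgroup.normalizer (R : Set Ω)) => (u : Ω)) h1
    have htR : (t : Ω) ∈ R := by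
      refine key (FratStab.fratStab _) FratStab.fratStab_normal
        (FratStab.fratStab_isPGroup habQ hQ2) t.1 t.2 ?_
      refine FratStab.mem_fratStab_of_sq habQ hQ2 _ ?_
      intro y
      obtain ⟨z, hz, hzz⟩ := hall ⟨y.1, hQM y.2⟩ (Subgroup.mem_subgroupOf.mpr y.2)
      refine ⟨⟨z.1, Subgroup.mem_subgroupOf.mp hz⟩, Subtype.ext ?_⟩
      have h2 := congrArg (fun u : ↥(P ⊓ Subgroup.normalizer (R : Set Ω)) => (u : Ω)) hzz
      simpa [conjAut_apply] using h2
    exact ⟨hMP t.2, htR⟩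
  rcases centric_cases_invert hM2 (N.comap (Subgroup.inclusion hMP))
      ((P ⊓ R).subgroupOf (P ⊓ Subgroup.normalizer (R : Set Ω))) hcen' hAut' htr with
    htop | ⟨h, -, hhN, hsq, q, hqN, hq4, hqh⟩
  · apply hMR
    intro u hu
    have h1 : (⟨u, hu⟩ : ↥(P ⊓ Subgroup.normalizer (R : Set Ω))) ∈
        (P ⊓ R).subgroupOf (P ⊓ Subgroup.normalizer (R : Set Ω)) := by
      rw [htop]
      exact Subgroup.mem_top _
    exact (Subgroup.mem_subgroupOf.mp h1).2
  · have hsq' : Subgroup.inclusion hMP h * Subgroup.inclusion hMP h ∈ N := by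
      have h1 := Subgroup.mem_comap.mp hsq
      rwa [map_mul] at h1
    have hq4' : orderOf (Subgroup.inclusion hMP q) = 4 := by
      rw [orderOf_injective _ hf q, hq4]
    have hqh' : Subgroup.inclusion hMP q * Subgroup.inclusion hMP h ≠
        Subgroup.inclusion hMP h * Subgroup.inclusion hMP q := by
      intro e
      apply hqh
      apply hf
      rw [map_mul, map_mul]
      exact e
    rcases MetaTwoB.maxclass_of_invert hP2 N (Subgroup.inclusion hMP h)
        (fun hc => hhN (Subgroup.mem_comap.mpr hc)) hsq' (Subgroup.inclusion hMP q)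
        (Subgroup.mem_comap.mp hqN) hq4' hqh' with
      ⟨k, ⟨e⟩⟩ | ⟨k, hcard, a, b, ha, hb, hab⟩ | ⟨k, ⟨e⟩⟩
    · exact hd ⟨_, ⟨e⟩⟩
    · exact hsd ⟨k + 3, by omega, hcard, a, b, ha, hb, hab⟩
    · exact hq ⟨_, ⟨e⟩⟩

/-- Let F be a saturated fusion system over a finite 2-group S (p = 2) and P a metacyclic subgroup of S strongly closed in F that is not dihedral, not semidihedral and not generalized quaternion (here the group of order 2, the Klein four-group and the cyclic group of order 4 also count as excluded). Then P is normal in F. -/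
theorem result {Ω : Type*} [Group Ω] {S : Subgroup Ω} [Finite S] (p : ℕ) [Fact p.Prime] (hS : IsPGroup p S) (F : Cfsg.FusionSystem S) (hF : F.IsSaturated p) (P : Subgroup Ω) (hP : F.StronglyClosed P) (hp : p = 2) (hm : Cfsg.IsMetacyclic ↥P) (hd : ¬ ∃ m : ℕ, Nonempty (↥P ≃* DihedralGroup m)) (hq : ¬ ∃ m : ℕ, Nonempty (↥P ≃* QuaternionGroup m)) (hsd : ¬ Cfsg.IsQuasiDihedral ↥P) : F.IsNormal P := by
  subst hp
  rw [Cfsg.Agent.S5087.result 2 hS F hF P]
  intro R hR
  have hPR : P ≤ R := by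
    rcases hR with rfl | hess
    · exact hP.1
    · exact le_essential hS F P hP hm hd hq hsd R hess
  refine ⟨hPR, ?_⟩
  have hRS : R ≤ S := by
    rcases hR with rfl | hess
    · exact le_rfl
    · exact hess.1.1
  haveI hfinR : Finite R := finite_of_le hRS
  intro α hα
  have hle : (P.subgroupOf R).map α.toMonoidHom ≤ P.subgroupOf R := by
    rintro _ ⟨x, hx, rfl⟩
    rw [Subgroup.mem_subgroupOf]
    have h2 := (mem_autGroup_iff F hRS).mp hα
    exact hP.2 P le_rfl _ (restrict_mem F h2 hPR) ⟨x, Subgroup.mem_subgroupOf.mp hx⟩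
  refine Subgroup.eq_of_le_of_card_ge hle ?_
  rw [Subgroup.card_map_of_injective α.injective]

end Cfsg.Agent.S5235
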