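import Cfsg.Statements.S5234
import Cfsg.Agent.S5087
import Cfsg.Agent.S5212
import Cfsg.Agent.S5235
import Cfsg.Agent.Lib.Helper27.OddMeta
import Cfsg.Agent.Lib.Helper27.PlaneAut
import Cfsg.Agent.Lib.Helper27.EssStab2
import Cfsg.Agent.Lib.Helper27.EssExt
import Cfsg.Agent.Lib.Helper27.EssRes
import Cfsg.Agent.Lib.Helper27.FusLift

set_option autoImplicit false
open Cfsg

namespace Cfsg.Agent.S5234

open Cfsg.Agent.Lib.Helper26 Cfsg.FusionSystem Cfsg.Agent.Lib.Helper27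
  Cfsg.Agent.Lib.helper17.FusSmall Cfsg.Agent.Lib.Helper18

variable {Ω : Type*} [Group Ω] {S : Subgroup Ω}

theorem normalizer_of_conj_le {R : Subgroup Ω} {M : Subgroup Ω} (g : Ω → Ω)
    (hg : ∀ u ∈ M, ∀ x ∈ R, g u * x * (g u)⁻¹ ∈ R) (hinv : ∀ u ∈ M, g u⁻¹ = (g u)⁻¹)
    {u : Ω} (hu : u ∈ M) : g u ∈ Subgroup.normalizer (R : Set Ω) := by
  rw [Subgroup.mem_normalizer_iff]
  intro x
  constructor
  · exact hg u hu x
  · intro hx
    have h1 := hg u⁻¹ (M.inv_mem hu) _ hx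
    rw [hinv u hu] at h1
    have e : (g u)⁻¹ * (g u * x * (g u)⁻¹) * (g u)⁻¹⁻¹ = x := by group
    rwa [e] at h1

theorem isPGroup_zpowers {G : Type*} [Group G] {p : ℕ} (a : G) (k : ℕ) (ha : a ^ (p ^ k) = 1) :
    IsPGroup p ↥(Subgroup.zpowers a) := by
  rintro ⟨g, hg⟩
  obtain ⟨i, rfl⟩ := Subgroup.mem_zpowers_iff.mp hg
  refine ⟨k, Subtype.ext ?_⟩
  rw [Subgroup.coe_pow, Subgroup.coe_one, ← zpow_natCast, ← zpow_mul, mul_comm, zpow_mul,
    zpow_natCast, ha, one_zpow]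

theorem conjAut_pow (Q : Subgroup Ω) (u : Ω) (hu : u ∈ Subgroup.normalizer (Q : Set Ω)) (n : ℕ)
    (y : Q) : ((((conjAut Q u hu) ^ n) y : Q) : Ω) = u ^ n * y * (u ^ n)⁻¹ := by
  induction n generalizing y with
  | zero => simp
  | succ n ih =>
    rw [pow_succ, MulAut.mul_apply, ih, conjAut_apply, pow_succ]
    group

/-- a strongly closed subgroup not inside `R ≤ S` has an element normalizing `R` outside `R` -/
theorem exists_normalizer_outer [Finite S] {p : ℕ} [Fact p.Prime] (hS : IsPGroup p S)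
    (F : Cfsg.FusionSystem S) {P : Subgroup Ω} (hP : F.StronglyClosed P) {R : Subgroup Ω}
    (hRS : R ≤ S) (hnot : ¬ P ≤ R) :
    ∃ u ∈ P ⊓ Subgroup.normalizer (R : Set Ω), u ∉ R := by
  have hPS : P ≤ S := hP.1
  have hPn : ∀ s ∈ S, ∀ x ∈ P, s * x * s⁻¹ ∈ P := by
    intro s hs x hx
    exact hP.2 P le_rfl (conjHom P s) (F.conj_mem hPS hs) ⟨x, hx⟩
  have hRnP : R ≤ Subgroup.normalizer (P : Set Ω) := by
    intro r hr
    rw [Subgroup.mem_normalizer_iff]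
    intro x
    constructor
    · exact hPn r (hRS hr) x
    · intro hx
      have h1 := hPn r⁻¹ (S.inv_mem (hRS hr)) _ hx
      have e : r⁻¹ * (r * x * r⁻¹) * r⁻¹⁻¹ = x := by group
      rwa [e] at h1
  by_contra hno
  push Not at hno
  apply hnot
  have hWS : R ⊔ P ≤ S := sup_le hRS hPS
  haveI hfinW : Finite ↥(R ⊔ P) := finite_of_le hWS
  by_cases htop : R.subgroupOf (R ⊔ P) = ⊤
  · intro x hx
    have h1 : (⟨x, (le_sup_right : P ≤ R ⊔ P) hx⟩ : ↥(R ⊔ P)) ∈ R.subgroupOf (R ⊔ P) := by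
      rw [htop]
      exact Subgroup.mem_top _
    exact Subgroup.mem_subgroupOf.mp h1
  · exfalso
    haveI := (hS.to_le hWS).isNilpotent
    have hlt : R.subgroupOf (R ⊔ P) < Subgroup.normalizer ((R.subgroupOf (R ⊔ P) : Subgroup _) : Set _) :=
      Group.normalizerCondition_of_isNilpotent _ (lt_top_iff_ne_top.mpr htop)
    obtain ⟨t, htN, htR⟩ := SetLike.exists_of_lt hlt
    have htN' : (t : Ω) ∈ Subgroup.normalizer (R : Set Ω) :=
      Cfsg.Agent.S5235.normalizer_of_subgroupOf le_sup_left htN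
    obtain ⟨r, hr, x, hx, hrx⟩ := exists_mul_of_mem_sup hRnP t.2
    have hxN : x ∈ Subgroup.normalizer (R : Set Ω) := by
      have e : x = r⁻¹ * (t : Ω) := by rw [hrx]; group
      rw [e]
      exact Subgroup.mul_mem _ (Subgroup.inv_mem _ (Subgroup.le_normalizer hr)) htN'
    have hxR : x ∈ R := hno x ⟨hx, hxN⟩
    apply htR
    rw [Subgroup.mem_subgroupOf, hrx]
    exact R.mul_mem hr hxR

/-- the automorphisms of `H` fixing all elements with `x ^ p = 1` -/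
def fixPow (H : Type*) [Group H] (p : ℕ) : Subgroup (MulAut H) where
  carrier := {β | ∀ x : H, x ^ p = 1 → β x = x}
  one_mem' := fun x _ => rfl
  mul_mem' := by
    intro β γ hβ hγ x hx
    rw [MulAut.mul_apply, hγ x hx, hβ x hx]
  inv_mem' := by
    intro β hβ x hx
    have h1 := hβ x hx
    calc β⁻¹ x = β⁻¹ (β x) := by rw [h1]
      _ = x := MulAut.inv_apply_self _ _ _

theorem fixPow_conj {H : Type*} [Group H] (p : ℕ) (γ β : MulAut H) (hβ : β ∈ fixPow H p) :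
    γ * β * γ⁻¹ ∈ fixPow H p := by
  intro x hx
  have h1 : (γ⁻¹ x) ^ p = 1 := by rw [← map_pow, hx, map_one]
  rw [MulAut.mul_apply, MulAut.mul_apply, hβ _ h1, MulAut.apply_inv_self]

theorem inv_inf (F : Cfsg.FusionSystem S) {P R : Subgroup Ω} (hP : F.StronglyClosed P)
    (hRS : R ≤ S) : ∀ α ∈ F.autGroup R, ∀ z (hz : z ∈ P ⊓ R),
      ((α ⟨z, (inf_le_right : P ⊓ R ≤ R) hz⟩ : R) : Ω) ∈ P ⊓ R := by
  intro α hα z hz
  refine ⟨?_, (α _).2⟩
  have h2 := (mem_autGroup_iff F hRS).mp hα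
  exact hP.2 (P ⊓ R) inf_le_left _ (restrict_mem F h2 inf_le_right) ⟨z, hz⟩

theorem mem_normalizer_inf {P R : Subgroup Ω} {u : Ω}
    (hu : u ∈ P ⊓ Subgroup.normalizer (R : Set Ω)) :
    u ∈ Subgroup.normalizer ((P ⊓ R : Subgroup Ω) : Set Ω) := by
  have h1 : u ∈ Subgroup.normalizer (P : Set Ω) := Subgroup.le_normalizer hu.1
  rw [Subgroup.mem_normalizer_iff] at h1 ⊢
  have h2 := Subgroup.mem_normalizer_iff.mp hu.2
  intro x
  rw [Subgroup.mem_inf, Subgroup.mem_inf, h1 x, h2 x]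

/-- the key consequence of essentiality -/
theorem key [Finite S] {p : ℕ} [Fact p.Prime] (hS : IsPGroup p S) (F : Cfsg.FusionSystem S)
    {P R : Subgroup Ω} (hP : F.StronglyClosed P) (hess : F.IsEssential p R)
    [Finite ↥(P ⊓ R)] (B : Subgroup (MulAut ↥(P ⊓ R)))
    (hBn : ∀ γ (hγ : γ ∈ F.autGroup R), ∀ β ∈ B,
      restrictAut γ (P ⊓ R) inf_le_right (inv_inf F hP hess.1.1 γ hγ) * β *
        (restrictAut γ (P ⊓ R) inf_le_right (inv_inf F hP hess.1.1 γ hγ))⁻¹ ∈ B)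
    (hBp : IsPGroup p B) (u : Ω) (hu : u ∈ P ⊓ Subgroup.normalizer (R : Set Ω))
    (hβ : conjAut (P ⊓ R) u (mem_normalizer_inf hu) ∈ B) : u ∈ R := by
  have hPS : P ≤ S := hP.1
  have hRS : R ≤ S := hess.1.1
  have hPn : ∀ s ∈ S, ∀ x ∈ P, s * x * s⁻¹ ∈ P := by
    intro s hs x hx
    exact hP.2 P le_rfl (conjHom P s) (F.conj_mem hPS hs) ⟨x, hx⟩
  refine EssStab2.mem_of_stab' hS F hess inf_le_right (inv_inf F hP hRS) B hBn hBp u (hPS hu.1)
    hu.2 ?_ ⟨_, hβ, fun y => rfl⟩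
  intro x hx
  refine ⟨?_, ?_⟩
  · have h1 : x⁻¹ * u * x⁻¹⁻¹ ∈ P := hPn x⁻¹ (S.inv_mem (hRS hx)) u hu.1
    have e : x⁻¹ * (u * x * u⁻¹) = (x⁻¹ * u * x⁻¹⁻¹) * u⁻¹ := by group
    rw [e]
    exact P.mul_mem h1 (P.inv_mem hu.1)
  · have h1 : u * x * u⁻¹ ∈ R := (Subgroup.mem_normalizer_iff.mp hu.2 x).mp hx
    exact R.mul_mem (R.inv_mem hx) h1

theorem normalizer_of_hom_conj_le {R M : Subgroup Ω} (g : ↥M →* Ω)
    (hg : ∀ (u : ↥M), ∀ x ∈ R, g u * x * (g u)⁻¹ ∈ R) (u : ↥M) :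
    g u ∈ Subgroup.normalizer (R : Set Ω) := by
  rw [Subgroup.mem_normalizer_iff]
  intro x
  constructor
  · exact hg u x
  · intro hx
    have h1 := hg u⁻¹ _ hx
    rw [map_inv] at h1
    have e : (g u)⁻¹ * (g u * x * (g u)⁻¹) * (g u)⁻¹⁻¹ = x := by group
    rwa [e] at h1

/-- a strongly closed metacyclic `p`-subgroup, `p` odd, lies in every essential subgroup -/
theorem le_essential [Finite S] {p : ℕ} [Fact p.Prime] (hS : IsPGroup p S)
    (F : Cfsg.FusionSystem S) (hF : F.IsSaturated p) (P : Subgroup Ω) (hP : F.StronglyClosed P)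
    (hp : p ≠ 2) (hm : Cfsg.IsMetacyclic ↥P) (R : Subgroup Ω) (hess : F.IsEssential p R) :
    P ≤ R := by
  have hpp : p.Prime := Fact.out
  by_contra hnot
  have hPS : P ≤ S := hP.1
  have hRS : R ≤ S := hess.1.1
  obtain ⟨u₀, hu₀M, hu₀R⟩ := exists_normalizer_outer hS F hP hRS hnot
  have hQR : P ⊓ R ≤ R := inf_le_right
  have hQP : P ⊓ R ≤ P := inf_le_left
  have hMP : P ⊓ Subgroup.normalizer (R : Set Ω) ≤ P := inf_le_left
  have hMN : P ⊓ Subgroup.normalizer (R : Set Ω) ≤ Subgroup.normalizer (R : Set Ω) := inf_le_right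
  have hQM : P ⊓ R ≤ P ⊓ Subgroup.normalizer (R : Set Ω) :=
    fun x hx => ⟨hx.1, Subgroup.le_normalizer hx.2⟩
  haveI hfinR : Finite R := finite_of_le hRS
  haveI hfinQ : Finite ↥(P ⊓ R) := finite_of_le (hQR.trans hRS)
  haveI hfinM : Finite ↥(P ⊓ Subgroup.normalizer (R : Set Ω)) := finite_of_le (hMP.trans hPS)
  have hQp : IsPGroup p ↥(P ⊓ R) := hS.to_le (hQR.trans hRS)
  have hMp : IsPGroup p ↥(P ⊓ Subgroup.normalizer (R : Set Ω)) := hS.to_le (hMP.trans hPS)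
  have hQm : Cfsg.IsMetacyclic ↥(P ⊓ R) :=
    Cfsg.Agent.S5212.isMetacyclic_of_injective (Subgroup.inclusion hQP)
      (Subgroup.inclusion_injective hQP) hm
  have hMm : Cfsg.IsMetacyclic ↥(P ⊓ Subgroup.normalizer (R : Set Ω)) :=
    Cfsg.Agent.S5212.isMetacyclic_of_injective (Subgroup.inclusion hMP)
      (Subgroup.inclusion_injective hMP) hm
  have hinv := inv_inf F hP hRS
  obtain ⟨k₀, hk₀⟩ : ∃ k : ℕ, u₀ ^ (p ^ k) = 1 := by
    obtain ⟨k, hk⟩ := hS ⟨u₀, hPS hu₀M.1⟩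
    refine ⟨k, ?_⟩
    have := congrArg Subtype.val hk
    simpa using this
  have hCVp : IsPGroup p ↥(fixPow ↥(P ⊓ R) p) := by
    rintro ⟨β, hβ⟩
    obtain ⟨k, hk⟩ := OddMeta.pow_eq_one_of_fix hp hQp hQm β hβ
    exact ⟨k, Subtype.ext hk⟩
  -- elements of `M` outside `R` move an element of order `p` of `Q`
  have hmove : ∀ u (_ : u ∈ P ⊓ Subgroup.normalizer (R : Set Ω)), u ∉ R →
      ∃ x : ↥(P ⊓ R), x ^ p = 1 ∧ u * (x : Ω) * u⁻¹ ≠ x := by
    intro u hu huR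
    by_contra hno
    push Not at hno
    apply huR
    refine key hS F hP hess (fixPow _ p) (fun γ hγ β hβ => fixPow_conj p _ β hβ) hCVp u hu ?_
    intro x hx
    apply Subtype.ext
    rw [conjAut_apply]
    exact hno x hx
  -- `Q` is not cyclic
  have hQnc : ¬ IsCyclic ↥(P ⊓ R) := by
    intro hcyc
    apply hu₀R
    have hc : conjAut (P ⊓ R) u₀ (mem_normalizer_inf hu₀M) ^ (p ^ k₀) = 1 := by
      apply MulEquiv.ext
      intro y
      apply Subtype.ext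
      rw [conjAut_pow, hk₀]
      simp
    refine key hS F hP hess (Subgroup.zpowers (conjAut (P ⊓ R) u₀ (mem_normalizer_inf hu₀M))) ?_
      (isPGroup_zpowers _ k₀ hc) u₀ hu₀M (Subgroup.mem_zpowers _)
    intro γ hγ β hβ
    have hcomm : ∀ a b : MulAut ↥(P ⊓ R), a * b = b * a := by
      intro a b
      apply (IsCyclic.mulAutMulEquiv ↥(P ⊓ R)).injective
      rw [map_mul, map_mul, mul_comm]
    rw [hcomm, inv_mul_cancel_left]
    exact hβ
  obtain ⟨V, hV, hVcard, hVcomm⟩ := OddMeta.omega_sub hp hQp hQm hQnc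
  have hMnc : ¬ IsCyclic ↥(P ⊓ Subgroup.normalizer (R : Set Ω)) := by
    intro hcyc
    apply hQnc
    exact isCyclic_of_injective (Subgroup.inclusion hQM) (Subgroup.inclusion_injective hQM)
  obtain ⟨VM, hVM, hVMcard, -⟩ := OddMeta.omega_sub hp hMp hMm hMnc
  -- elements of order `p` of `M` lie in `Q`
  have hordQ : ∀ y ∈ P ⊓ Subgroup.normalizer (R : Set Ω), y ^ p = 1 → y ∈ P ⊓ R := by
    have hle : V.map (P ⊓ R).subtype ≤ VM.map (P ⊓ Subgroup.normalizer (R : Set Ω)).subtype := by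
      rintro _ ⟨v, hv, rfl⟩
      refine ⟨⟨v.1, hQM v.2⟩, ?_, rfl⟩
      apply (hVM _).mpr
      apply Subtype.ext
      have := congrArg Subtype.val ((hV v).mp hv)
      simpa using this
    haveI : Finite ↥(VM.map (P ⊓ Subgroup.normalizer (R : Set Ω)).subtype) :=
      Finite.of_equiv _ (VM.equivMapOfInjective _ (Subgroup.subtype_injective _)).toEquiv
    have heq : V.map (P ⊓ R).subtype = VM.map (P ⊓ Subgroup.normalizer (R : Set Ω)).subtype := by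
      apply Subgroup.eq_of_le_of_card_ge hle
      rw [Subgroup.card_map_of_injective (Subgroup.subtype_injective _),
        Subgroup.card_map_of_injective (Subgroup.subtype_injective _), hVcard, hVMcard]
    intro y hy hyp
    have h1 : y ∈ VM.map (P ⊓ Subgroup.normalizer (R : Set Ω)).subtype :=
      ⟨⟨y, hy⟩, (hVM _).mpr (Subtype.ext (by simpa using hyp)), rfl⟩
    rw [← heq] at h1
    obtain ⟨v, -, rfl⟩ := h1
    exact v.2
  -- the restriction to `V`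
  obtain ⟨ρ, hρdef⟩ : ∃ ρ : ↥(F.autGroup R) →* MulAut ↥V,
      ρ = (EssRes.resPow V p hV).comp (EssRes.resSub F R (P ⊓ R) hQR hinv) := ⟨_, rfl⟩
  have hρ : ∀ (α : ↥(F.autGroup R)) (v : ↥V), (((ρ α v : ↥V) : ↥(P ⊓ R)) : Ω) =
      (((α : MulAut R) ⟨v.1.1, hQR v.1.2⟩ : R) : Ω) := by
    intro α v
    rw [hρdef]
    rfl
  have hu₀N : u₀ ∈ Subgroup.normalizer (R : Set Ω) := hu₀M.2
  have hcu : conjAut R u₀ hu₀N ∈ F.autGroup R :=
    autInducedBy_le_autGroup F hRS (conjAut_mem_autInducedBy (hPS hu₀M.1) hu₀N)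
  obtain ⟨cu, hcudef⟩ : ∃ cu : ↥(F.autGroup R), cu = ⟨conjAut R u₀ hu₀N, hcu⟩ := ⟨_, rfl⟩
  have hρcu : ∀ v : ↥V, (((ρ cu v : ↥V) : ↥(P ⊓ R)) : Ω) = u₀ * ((v : ↥(P ⊓ R)) : Ω) * u₀⁻¹ := by
    intro v
    rw [hρ, hcudef]
    rfl
  have hcupow : cu ^ (p ^ k₀) = 1 := by
    rw [hcudef]
    apply Subtype.ext
    apply MulEquiv.ext
    intro y
    apply Subtype.ext
    rw [Subgroup.coe_pow]
    change ((((conjAut R u₀ hu₀N) ^ (p ^ k₀)) y : R) : Ω) = _
    rw [conjAut_pow, hk₀]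
    simp
  have ha : ρ cu ^ (p ^ k₀) = 1 := by rw [← map_pow, hcupow, map_one]
  have ha1 : ρ cu ≠ 1 := by
    intro h
    obtain ⟨x, hxp, hx⟩ := hmove u₀ hu₀M hu₀R
    apply hx
    have h1 := hρcu ⟨x, (hV x).mpr hxp⟩
    rw [h] at h1
    exact h1.symm
  have hresEq : ∀ γ (hγ : γ ∈ F.autGroup R),
      EssRes.resPow V p hV (restrictAut γ (P ⊓ R) inf_le_right (inv_inf F hP hess.1.1 γ hγ)) =
        ρ ⟨γ, hγ⟩ := by
    intro γ hγ
    rw [hρdef]
    rfl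
  have hex : ∃ α₁ : ↥(F.autGroup R), ρ (α₁ * cu * α₁⁻¹) ∉ Subgroup.zpowers (ρ cu) := by
    by_contra hno
    push Not at hno
    apply hu₀R
    refine key hS F hP hess ((Subgroup.zpowers (ρ cu)).comap (EssRes.resPow V p hV)) ?_ ?_ u₀ hu₀M ?_
    · intro γ hγ β hβ
      rw [Subgroup.mem_comap] at hβ ⊢
      obtain ⟨i, hi⟩ := Subgroup.mem_zpowers_iff.mp hβ
      rw [map_mul, map_mul, map_inv, ← hi, hresEq γ hγ]
      have h2 := hno ⟨γ, hγ⟩
      rw [map_mul, map_mul, map_inv] at h2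
      have e2 : ρ ⟨γ, hγ⟩ * ρ cu ^ i * (ρ ⟨γ, hγ⟩)⁻¹ =
          (ρ ⟨γ, hγ⟩ * ρ cu * (ρ ⟨γ, hγ⟩)⁻¹) ^ i := by rw [conj_zpow]
      rw [e2]
      exact Subgroup.zpow_mem _ h2 i
    · rintro ⟨β, hβ⟩
      rw [Subgroup.mem_comap] at hβ
      obtain ⟨i, hi⟩ := Subgroup.mem_zpowers_iff.mp hβ
      have h1 : EssRes.resPow V p hV (β ^ (p ^ k₀)) = 1 := by
        rw [map_pow, ← hi, ← zpow_natCast, ← zpow_mul, mul_comm, zpow_mul, zpow_natCast, ha,
          one_zpow]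
      have h2 : β ^ (p ^ k₀) ∈ fixPow ↥(P ⊓ R) p := by
        intro x hx
        have h3 := congrArg (fun w : MulAut ↥V => ((w ⟨x, (hV x).mpr hx⟩ : ↥V) : ↥(P ⊓ R))) h1
        exact h3
      obtain ⟨k', hk'⟩ := hCVp ⟨_, h2⟩
      refine ⟨k₀ + k', Subtype.ext ?_⟩
      have h4 := congrArg Subtype.val hk'
      rw [Subgroup.coe_pow, Subgroup.coe_one] at h4
      rw [Subgroup.coe_pow, Subgroup.coe_one, pow_add, pow_mul]
      exact h4
    · rw [Subgroup.mem_comap]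
      have e : EssRes.resPow V p hV (conjAut (P ⊓ R) u₀ (mem_normalizer_inf hu₀M)) = ρ cu := by
        apply MulEquiv.ext
        intro v
        apply Subtype.ext
        apply Subtype.ext
        rw [hρcu]
        rfl
      rw [e]
      exact Subgroup.mem_zpowers _
  obtain ⟨α₁, hα₁⟩ := hex
  have hVcomm' : ∀ x y : ↥V, x * y = y * x := fun x y => Subtype.ext (hVcomm x.1 x.2 y.1 y.2)
  have hVexp : ∀ x : ↥V, x ^ p = 1 := fun x => Subtype.ext ((hV x.1).mp x.2)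
  have hb : ρ (α₁ * cu * α₁⁻¹) ^ (p ^ k₀) = 1 := by
    rw [← map_pow, conj_pow, hcupow, mul_one, mul_inv_cancel, map_one]
  obtain ⟨w, hw, hwinv⟩ := PlaneAut.inversion_mem_closure hVcard hVcomm' hVexp (ρ cu)
    (ρ (α₁ * cu * α₁⁻¹)) k₀ ha hb ha1 hα₁
  have hcl : Subgroup.closure ({ρ cu, ρ (α₁ * cu * α₁⁻¹)} : Set (MulAut ↥V)) =
      (Subgroup.closure ({cu, α₁ * cu * α₁⁻¹} : Set ↥(F.autGroup R))).map ρ := by
    rw [MonoidHom.map_closure, Set.image_pair]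
  rw [hcl] at hw
  obtain ⟨α₂, hα₂cl, hα₂w⟩ := hw
  -- the stabilizer of `R / Q`
  have hstab : ∀ u (hu : u ∈ P ⊓ Subgroup.normalizer (R : Set Ω))
      (hcuu : conjAut R u (hMN hu) ∈ F.autGroup R),
      (⟨conjAut R u (hMN hu), hcuu⟩ : ↥(F.autGroup R)) ∈
        EssRes.stabSub F R (P ⊓ R) hQR hinv := by
    intro u hu hcuu x
    change (x : Ω)⁻¹ * (u * (x : Ω) * u⁻¹) ∈ P ⊓ R
    have hPn : ∀ s ∈ S, ∀ z ∈ P, s * z * s⁻¹ ∈ P := by
      intro s hs z hz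
      exact hP.2 P le_rfl (conjHom P s) (F.conj_mem hPS hs) ⟨z, hz⟩
    refine ⟨?_, ?_⟩
    · have h1 : (x : Ω)⁻¹ * u * (x : Ω)⁻¹⁻¹ ∈ P := hPn _ (S.inv_mem (hRS x.2)) u hu.1
      have e : (x : Ω)⁻¹ * (u * (x : Ω) * u⁻¹) = ((x : Ω)⁻¹ * u * (x : Ω)⁻¹⁻¹) * u⁻¹ := by group
      rw [e]
      exact P.mul_mem h1 (P.inv_mem hu.1)
    · have h1 : u * (x : Ω) * u⁻¹ ∈ R := (Subgroup.mem_normalizer_iff.mp hu.2 x).mp x.2
      exact R.mul_mem (R.inv_mem x.2) h1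
  have hcuA : cu ∈ EssRes.stabSub F R (P ⊓ R) hQR hinv := by
    rw [hcudef]
    exact hstab u₀ hu₀M hcu
  have hα₂A : α₂ ∈ EssRes.stabSub F R (P ⊓ R) hQR hinv := by
    have hle : Subgroup.closure ({cu, α₁ * cu * α₁⁻¹} : Set ↥(F.autGroup R)) ≤
        EssRes.stabSub F R (P ⊓ R) hQR hinv := by
      rw [Subgroup.closure_le]
      intro x hx
      rcases hx with rfl | hx
      · exact hcuA
      · rw [Set.mem_singleton_iff] at hx
        rw [hx]
        exact (EssRes.stabSub_normal F R (P ⊓ R) hQR hinv).conj_mem cu hcuA α₁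
    exact hle hα₂cl
  -- the Sylow subgroup `Aut_S(R)`
  obtain ⟨-, ⟨-, Sy, hSy⟩, -⟩ := saturated_fullyNormalized hS F hF hess.2.1
  have hT : Cfsg.Agent.Lib.Helper18.IsSylowIn p ((autInducedBy S R).subgroupOf (F.autGroup R)) ⊤ := by
    rw [← hSy]
    exact isSylowIn_top_of_sylow Sy
  have hcommK : ∀ t ∈ (autInducedBy S R).subgroupOf (F.autGroup R) ⊓
      EssRes.stabSub F R (P ⊓ R) hQR hinv, α₂ * t * α₂⁻¹ * t⁻¹ ∈ ρ.ker := by
    intro t _
    rw [MonoidHom.mem_ker, map_mul, map_mul, map_mul, map_inv, map_inv, hα₂w]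
    have hwc : w * ρ t = ρ t * w := by
      apply MulEquiv.ext
      intro v
      rw [MulAut.mul_apply, MulAut.mul_apply, hwinv, hwinv, map_inv]
    rw [hwc, mul_assoc (ρ t), mul_inv_cancel, mul_one, mul_inv_cancel]
  obtain ⟨k, hk, hkN⟩ := EssExt.exists_mul_mem_normalizer (p := p)
    ((autInducedBy S R).subgroupOf (F.autGroup R)) (EssRes.stabSub F R (P ⊓ R) hQR hinv) ρ.ker hT
    α₂ hα₂A hcommK
  have hρα : ρ (k * α₂) = w := by
    rw [map_mul, MonoidHom.mem_ker.mp hk.1, one_mul, hα₂w]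
  -- the extension
  have hext : ∀ u (hu : u ∈ P ⊓ Subgroup.normalizer (R : Set Ω)), ∃ h ∈ S, ∀ x : R,
      ((((k * α₂ : ↥(F.autGroup R)) : MulAut R)
        ⟨u * x * u⁻¹, conj_mem_of_mem_normalizer (hMN hu) x⟩ : R) : Ω) =
        h * ((((k * α₂ : ↥(F.autGroup R)) : MulAut R) x : R) : Ω) * h⁻¹ := by
    intro u hu
    have hcuu : conjAut R u (hMN hu) ∈ F.autGroup R :=
      autInducedBy_le_autGroup F hRS (conjAut_mem_autInducedBy (hPS hu.1) (hMN hu))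
    have hmemT : (⟨conjAut R u (hMN hu), hcuu⟩ : ↥(F.autGroup R)) ∈
        (autInducedBy S R).subgroupOf (F.autGroup R) ⊓ EssRes.stabSub F R (P ⊓ R) hQR hinv :=
      ⟨Subgroup.mem_subgroupOf.mpr (conjAut_mem_autInducedBy (hPS hu.1) (hMN hu)),
        hstab u hu hcuu⟩
    have h1 := (Subgroup.mem_normalizer_iff.mp hkN _).mp hmemT
    obtain ⟨h, hhS, hh⟩ := mem_autInducedBy_iff.mp (Subgroup.mem_subgroupOf.mp h1.1)
    refine ⟨h, hhS, fun x => ?_⟩
    have h2 := hh (((k * α₂ : ↥(F.autGroup R)) : MulAut R) x)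
    rw [← h2]
    simp only [Subgroup.coe_mul, Subgroup.coe_inv, MulAut.mul_apply]
    rw [show ((k : MulAut R) * (α₂ : MulAut R))⁻¹ ((k : MulAut R) ((α₂ : MulAut R) x)) = x from by
      have e1 : (k : MulAut R) ((α₂ : MulAut R) x) = ((k : MulAut R) * (α₂ : MulAut R)) x := rfl
      rw [e1, MulAut.inv_apply_self]]
    rfl
  obtain ⟨ψ, hψ, hψR⟩ := EssExt.exists_extension hS F hF hess.2.1
    ((k * α₂ : ↥(F.autGroup R)) : MulAut R) (k * α₂).2 (P ⊓ Subgroup.normalizer (R : Set Ω)) (hMP.trans hPS) hMN hext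
  have hMle : P ⊓ Subgroup.normalizer (R : Set Ω) ≤ R ⊔ (P ⊓ Subgroup.normalizer (R : Set Ω)) := le_sup_right
  have hψM : ψ.comp (Subgroup.inclusion hMle) ∈ F.Hom (P ⊓ Subgroup.normalizer (R : Set Ω)) := restrict_mem F hψ hMle
  have hψP : ∀ y : ↥(P ⊓ Subgroup.normalizer (R : Set Ω)), ψ (Subgroup.inclusion hMle y) ∈ P := fun y => hP.2 _ hMP _ hψM y
  -- agreement with `α` on `R`
  have hψR' : ∀ x (hx : x ∈ R), ψ ⟨x, (le_sup_left : R ≤ R ⊔ (P ⊓ Subgroup.normalizer (R : Set Ω))) hx⟩ =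
      ((((k * α₂ : ↥(F.autGroup R)) : MulAut R) ⟨x, hx⟩ : R) : Ω) := fun x hx => hψR ⟨x, hx⟩
  -- `ψ(u)` normalizes `R`
  have hψN : ∀ y : ↥(P ⊓ Subgroup.normalizer (R : Set Ω)), ψ (Subgroup.inclusion hMle y) ∈ Subgroup.normalizer (R : Set Ω) := by
    intro y
    refine normalizer_of_hom_conj_le (ψ.comp (Subgroup.inclusion hMle)) ?_ y
    intro u x hx
    obtain ⟨x', hx'⟩ : ∃ x' : R, ((k * α₂ : ↥(F.autGroup R)) : MulAut R) x' = ⟨x, hx⟩ :=
      ((k * α₂ : ↥(F.autGroup R)) : MulAut R).surjective _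
    have hx'' : x = ψ ⟨x'.1, (le_sup_left : R ≤ R ⊔ (P ⊓ Subgroup.normalizer (R : Set Ω))) x'.2⟩ := by
      rw [hψR' x'.1 x'.2]
      exact (congrArg Subtype.val hx').symm
    have hconjR : (u : Ω) * x' * (u : Ω)⁻¹ ∈ R :=
      (Subgroup.mem_normalizer_iff.mp (hMN u.2) x').mp x'.2
    have e : (ψ.comp (Subgroup.inclusion hMle)) u * x * ((ψ.comp (Subgroup.inclusion hMle)) u)⁻¹ =
        ψ ⟨(u : Ω) * x' * (u : Ω)⁻¹, (le_sup_left : R ≤ R ⊔ (P ⊓ Subgroup.normalizer (R : Set Ω))) hconjR⟩ := by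
      rw [hx'', MonoidHom.comp_apply, ← map_inv, ← map_mul, ← map_mul]
      rfl
    rw [e, hψR' _ hconjR]
    exact (((k * α₂ : ↥(F.autGroup R)) : MulAut R) _).2
  -- the induced automorphism of `M`
  obtain ⟨g, hg⟩ : ∃ g : ↥(P ⊓ Subgroup.normalizer (R : Set Ω)) →* ↥(P ⊓ Subgroup.normalizer (R : Set Ω)), ∀ y, ((g y : ↥(P ⊓ Subgroup.normalizer (R : Set Ω))) : Ω) = ψ (Subgroup.inclusion hMle y) :=
    ⟨(ψ.comp (Subgroup.inclusion hMle)).codRestrict (P ⊓ Subgroup.normalizer (R : Set Ω)) (fun y => ⟨hψP y, hψN y⟩), fun y => rfl⟩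
  have hginj : Function.Injective g := by
    intro a b hab
    apply F.injective_of_mem hψM
    have := congrArg Subtype.val hab
    rw [hg, hg] at this
    exact this
  obtain ⟨γ₀, hγ₀def⟩ : ∃ γ₀ : MulAut ↥(P ⊓ Subgroup.normalizer (R : Set Ω)), ∀ y, γ₀ y = g y :=
    ⟨MulEquiv.ofBijective g ⟨hginj, Finite.injective_iff_surjective.mp hginj⟩, fun y => rfl⟩
  have hγ₀ : ∀ y : ↥(P ⊓ Subgroup.normalizer (R : Set Ω)), y ^ p = 1 → γ₀ y = y⁻¹ := by
    intro y hy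
    have hyp : (y : Ω) ^ p = 1 := by
      have := congrArg Subtype.val hy
      simpa using this
    have hyQ : (y : Ω) ∈ P ⊓ R := hordQ y.1 y.2 hyp
    have hyV : (⟨y.1, hyQ⟩ : ↥(P ⊓ R)) ∈ V := (hV _).mpr (Subtype.ext hyp)
    apply Subtype.ext
    rw [hγ₀def, hg]
    have h1 : ψ (Subgroup.inclusion hMle y) =
        ((((k * α₂ : ↥(F.autGroup R)) : MulAut R) ⟨y.1, hQR hyQ⟩ : R) : Ω) := hψR' y.1 (hQR hyQ)
    rw [h1]
    have h2 := hρ (k * α₂) ⟨⟨y.1, hyQ⟩, hyV⟩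
    rw [hρα, hwinv] at h2
    rw [← h2]
    rfl
  have hMnab : ¬ ∀ a b : ↥(P ⊓ Subgroup.normalizer (R : Set Ω)), a * b = b * a := by
    intro hab
    obtain ⟨x, hxp, hx⟩ := hmove u₀ hu₀M hu₀R
    apply hx
    have h1 := hab ⟨u₀, hu₀M⟩ ⟨x.1, hQM x.2⟩
    have h2 : u₀ * (x : Ω) = x * u₀ := congrArg Subtype.val h1
    rw [h2]
    group
  exact OddMeta.not_invert hp hMp hMm hMnab γ₀ hγ₀

/-- Let p be an odd prime, F a saturated fusion system over a finite p-group S and P a metacyclic subgroup of S strongly closed in F. Then P is normal in F. -/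
theorem result {Ω : Type*} [Group Ω] {S : Subgroup Ω} [Finite S] (p : ℕ) [Fact p.Prime] (hS : IsPGroup p S) (F : Cfsg.FusionSystem S) (hF : F.IsSaturated p) (P : Subgroup Ω) (hP : F.StronglyClosed P) (hp : p ≠ 2) (hm : Cfsg.IsMetacyclic ↥P) : F.IsNormal P := by
  rw [Cfsg.Agent.S5087.result p hS F hF P]
  intro R hR
  have hPR : P ≤ R := by
    rcases hR with rfl | hess
    · exact hP.1
    · exact le_essential hS F hF P hP hp hm R hess
  refine ⟨hPR, ?_⟩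
  have hRS : R ≤ S := by
    rcases hR with rfl | hess
    · exact le_rfl
    · exact hess.1.1
  haveI hfinR : Finite R := finite_of_le hRS
  intro α hα
  have hle : (P.subgroupOf R).map α.toMonoidHom ≤ P.subgroupOf R := by
    rintro _ ⟨x, hx, rfl⟩
    rw [Subgroup.mem_subgroupOf]
    have h2 := (mem_autGroup_iff F hRS).mp hα
    exact hP.2 P le_rfl _ (restrict_mem F h2 hPR) ⟨x, Subgroup.mem_subgroupOf.mp hx⟩
  refine Subgroup.eq_of_le_of_card_ge hle ?_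
  rw [Subgroup.card_map_of_injective α.injective]

end Cfsg.Agent.S5234
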