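import Mathlib
import Cfsg.Statements.S0601
import Cfsg.Agent.Lib.Helper5.ElemAb
import Cfsg.Agent.Lib.Helper1.Cores
import Cfsg.Agent.Lib.helper17.SylowNormal
import Cfsg.Agent.Lib.helper23.SylowBasic

set_option autoImplicit false
open Cfsg

namespace Cfsg.Agent.S0601

open scoped Pointwise
open Cfsg.Agent.Lib.Helper5

theorem omegaZ_le_centralizer {G : Type*} [Group G] (p : ℕ) (S : Subgroup G) :
    Cfsg.omegaOne p (S ⊓ Subgroup.centralizer (S : Set G)) ≤ Subgroup.centralizer (S : Set G) := by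
  unfold Cfsg.omegaOne
  rw [Subgroup.closure_le]
  intro x hx
  exact (Subgroup.mem_inf.mp hx.1).2

theorem conj_omegaZ {G : Type*} [Group G] {p : ℕ} (g : G) (S : Sylow p G) :
    (Cfsg.omegaOne p ((S : Subgroup G) ⊓ Subgroup.centralizer ((S : Subgroup G) : Set G))).map
      (MulAut.conj g).toMonoidHom ≤
    Cfsg.omegaOne p (((g • S : Sylow p G) : Subgroup G) ⊓
      Subgroup.centralizer (((g • S : Sylow p G) : Subgroup G) : Set G)) := by
  unfold Cfsg.omegaOne
  rw [MonoidHom.map_closure]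
  apply Subgroup.closure_mono
  rintro _ ⟨x, ⟨hx, hxp⟩, rfl⟩
  obtain ⟨hxS, hxC⟩ := Subgroup.mem_inf.mp hx
  have e : (MulAut.conj g).toMonoidHom x = g * x * g⁻¹ := rfl
  rw [e]
  refine ⟨Subgroup.mem_inf.mpr ⟨?_, ?_⟩, ?_⟩
  · exact (Cfsg.Agent.Lib.helper23.mem_smul_sylow_iff' g S x).mpr hxS
  · rw [Subgroup.mem_centralizer_iff]
    intro y hy
    have h1 := (Cfsg.Agent.Lib.helper23.mem_smul_sylow_iff g S y).mp hy
    have hc := (Subgroup.mem_centralizer_iff.mp hxC) _ h1
    calc y * (g * x * g⁻¹) = g * ((g⁻¹ * y * g) * x) * g⁻¹ := by group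
      _ = g * (x * (g⁻¹ * y * g)) * g⁻¹ := by rw [hc]
      _ = g * x * g⁻¹ * y := by group
  · rw [conj_pow, hxp]
    group

theorem result {G : Type*} [Group G] [Finite G] {p : ℕ} [Fact p.Prime] (hc : Subgroup.centralizer (Cfsg.pCore p G : Set G) ≤ Cfsg.pCore p G) : (⨆ S : Sylow p G, Cfsg.omegaOne p (((S : Subgroup G)) ⊓ Subgroup.centralizer ((S : Subgroup G) : Set G))).Normal ∧ Cfsg.IsElementaryAbelian p (⨆ S : Sylow p G, Cfsg.omegaOne p (((S : Subgroup G)) ⊓ Subgroup.centralizer ((S : Subgroup G) : Set G))) ∧ ∀ D : Subgroup G, D.Normal → Subgroup.centralizer ((⨆ S : Sylow p G, Cfsg.omegaOne p (((S : Subgroup G)) ⊓ Subgroup.centralizer ((S : Subgroup G) : Set G)) : Subgroup G) : Set G) ≤ D → (∃ k : ℕ, (Subgroup.centralizer ((⨆ S : Sylow p G, Cfsg.omegaOne p (((S : Subgroup G)) ⊓ Subgroup.centralizer ((S : Subgroup G) : Set G)) : Subgroup G) : Set G)).relIndex D = p ^ k) → D = Subgroup.centralizer ((⨆ S : Sylow p G, Cfsg.omegaOne p (((S : Subgroup G)) ⊓ Subgroup.centralizer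 ((S : Subgroup G) : Set G)) : Subgroup G) : Set G) := by
  refine ⟨?_, ?_, ?_⟩
  · constructor
    intro y hy g
    have h1 : (MulAut.conj g).toMonoidHom y ∈ (⨆ S : Sylow p G, Cfsg.omegaOne p (((S : Subgroup G)) ⊓
        Subgroup.centralizer ((S : Subgroup G) : Set G))).map (MulAut.conj g).toMonoidHom :=
      Subgroup.mem_map_of_mem _ hy
    rw [Subgroup.map_iSup] at h1
    exact (iSup_le fun S => le_trans (conj_omegaZ g S)
      (le_iSup (fun S : Sylow p G => Cfsg.omegaOne p (((S : Subgroup G)) ⊓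
        Subgroup.centralizer ((S : Subgroup G) : Set G))) (g • S))) h1
  · have hΩ : Cfsg.IsElementaryAbelian p (Cfsg.omegaOne p (Cfsg.pCore p G ⊓
        Subgroup.centralizer (Cfsg.pCore p G : Set G))) := by
      unfold Cfsg.omegaOne
      apply elemAb_closure
      · rintro x ⟨hx, -⟩ y ⟨hy, -⟩
        exact ((Subgroup.mem_centralizer_iff.mp (Subgroup.mem_inf.mp hy).2) x
          (Subgroup.mem_inf.mp hx).1)
      · rintro x ⟨-, hx⟩
        exact hx
    refine elemAb_of_le ?_ hΩ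
    apply iSup_le
    intro S
    unfold Cfsg.omegaOne
    apply Subgroup.closure_mono
    rintro x ⟨hx, hxp⟩
    refine ⟨?_, hxp⟩
    have hxC : x ∈ Subgroup.centralizer (Cfsg.pCore p G : Set G) :=
      Subgroup.centralizer_le (SetLike.coe_subset_coe.mpr
        (Cfsg.Agent.Lib.Helper1.pCore_le_sylow p S)) (Subgroup.mem_inf.mp hx).2
    exact Subgroup.mem_inf.mpr ⟨hc hxC, hxC⟩
  · rintro D hDn hCD ⟨k, hk⟩
    apply le_antisymm _ hCD
    rw [Subgroup.le_centralizer_iff]
    apply iSup_le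
    intro S
    rw [← Subgroup.le_centralizer_iff]
    have hT : ¬ p ∣ ((S : Subgroup G) ⊓ D).relIndex D := by
      rw [Subgroup.inf_relIndex_right]
      exact Cfsg.Agent.Lib.helper17.not_dvd_relIndex_of_normal S D
    have h1 : (Subgroup.centralizer ((⨆ S : Sylow p G, Cfsg.omegaOne p (((S : Subgroup G)) ⊓
        Subgroup.centralizer ((S : Subgroup G) : Set G)) : Subgroup G) : Set G) ⊔
        ((S : Subgroup G) ⊓ D)).relIndex D ∣ p ^ k :=
      hk ▸ Subgroup.relIndex_dvd_of_le_left D le_sup_left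
    have h2 : (Subgroup.centralizer ((⨆ S : Sylow p G, Cfsg.omegaOne p (((S : Subgroup G)) ⊓
        Subgroup.centralizer ((S : Subgroup G) : Set G)) : Subgroup G) : Set G) ⊔
        ((S : Subgroup G) ⊓ D)).relIndex D ∣ ((S : Subgroup G) ⊓ D).relIndex D :=
      Subgroup.relIndex_dvd_of_le_left D le_sup_right
    have h3 : (Subgroup.centralizer ((⨆ S : Sylow p G, Cfsg.omegaOne p (((S : Subgroup G)) ⊓
        Subgroup.centralizer ((S : Subgroup G) : Set G)) : Subgroup G) : Set G) ⊔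
        ((S : Subgroup G) ⊓ D)).relIndex D = 1 := by
      obtain ⟨j, hj, hj'⟩ := (Nat.dvd_prime_pow Fact.out).mp h1
      cases j with
      | zero => simpa using hj'
      | succ j =>
        exfalso
        apply hT
        rw [hj'] at h2
        exact dvd_trans (dvd_pow_self p (Nat.succ_ne_zero j)) h2
    have h4 := Subgroup.relIndex_eq_one.mp h3
    refine le_trans h4 (sup_le ?_ ?_)
    · exact Subgroup.centralizer_le (SetLike.coe_subset_coe.mpr
        (le_iSup (fun S : Sylow p G => Cfsg.omegaOne p (((S : Subgroup G)) ⊓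
        Subgroup.centralizer ((S : Subgroup G) : Set G))) S))
    · refine le_trans inf_le_left ?_
      rw [Subgroup.le_centralizer_iff]
      exact omegaZ_le_centralizer p (S : Subgroup G)

end Cfsg.Agent.S0601
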