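import Mathlib
import Cfsg.Statements.S0608
import Cfsg.Agent.S0601
import Cfsg.Agent.Lib.Helper5.ElemAb
import Cfsg.Agent.Lib.helper17.SylowNormal
import Cfsg.Agent.Lib.helper23.SylowBasic
import Cfsg.Agent.Lib.Helper5.Glauberman

set_option autoImplicit false
open Cfsg

namespace Cfsg.Agent.S0608

open scoped Pointwise
open Cfsg.Agent.Lib.Helper5

section
variable {G : Type*} [Group G]

theorem Y_normal {p : ℕ} : (⨆ S : Sylow p G, Cfsg.omegaOne p (((S : Subgroup G)) ⊓
    Subgroup.centralizer ((S : Subgroup G) : Set G))).Normal := by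
  constructor
  intro y hy g
  have h1 : (MulAut.conj g).toMonoidHom y ∈ (⨆ S : Sylow p G, Cfsg.omegaOne p (((S : Subgroup G)) ⊓
      Subgroup.centralizer ((S : Subgroup G) : Set G))).map (MulAut.conj g).toMonoidHom :=
    Subgroup.mem_map_of_mem _ hy
  rw [Subgroup.map_iSup] at h1
  exact (iSup_le fun S => le_trans (Cfsg.Agent.S0601.conj_omegaZ g S)
    (le_iSup (fun S : Sylow p G => Cfsg.omegaOne p (((S : Subgroup G)) ⊓
      Subgroup.centralizer ((S : Subgroup G) : Set G))) (g • S))) h1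

theorem thompson_le_iSup [Finite G] {p : ℕ} [Fact p.Prime] :
    Cfsg.thompsonSubgroup p G ≤ ⨆ S : Sylow p G, Cfsg.thompsonSubgroupOf p (S : Subgroup G) := by
  unfold Cfsg.thompsonSubgroup
  apply sSup_le
  intro A hA
  obtain ⟨S, hS⟩ := (elemAb_isPGroup hA.1).exists_le_sylow
  exact le_trans (maxElemAb_le_thompsonSubgroupOf hA hS)
    (le_iSup (fun S : Sylow p G => Cfsg.thompsonSubgroupOf p (S : Subgroup G)) S)

theorem thompsonOf_le_sylow {p : ℕ} (S : Subgroup G) : Cfsg.thompsonSubgroupOf p S ≤ S := by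
  unfold Cfsg.thompsonSubgroupOf
  exact Subgroup.map_subtype_le _

theorem omegaZ_exists_conj {p : ℕ} (g : G) (S : Sylow p G) {z : G}
    (hz : z ∈ Cfsg.omegaOne p (((g • S : Sylow p G) : Subgroup G) ⊓
      Subgroup.centralizer (((g • S : Sylow p G) : Subgroup G) : Set G))) :
    g⁻¹ * z * g ∈ Cfsg.omegaOne p ((S : Subgroup G) ⊓
      Subgroup.centralizer ((S : Subgroup G) : Set G)) := by
  have h1 := Cfsg.Agent.S0601.conj_omegaZ g⁻¹ (g • S)
  have h2 : (g⁻¹ • (g • S) : Sylow p G) = S := inv_smul_smul g S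
  rw [h2] at h1
  have h3 : (MulAut.conj g⁻¹).toMonoidHom z ∈ (Cfsg.omegaOne p (((g • S : Sylow p G) : Subgroup G) ⊓
      Subgroup.centralizer (((g • S : Sylow p G) : Subgroup G) : Set G))).map
      (MulAut.conj g⁻¹).toMonoidHom := Subgroup.mem_map_of_mem _ hz
  have h4 := h1 h3
  have e : (MulAut.conj g⁻¹).toMonoidHom z = g⁻¹ * z * g := by
    simp [MulAut.conj_apply]
  rwa [e] at h4

theorem forward [Finite G] {p : ℕ} [Fact p.Prime] (hO : Cfsg.pPrimeCore p G = ⊥)
    (hTF : Cfsg.IsThompsonFactorizable p G) :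
    Cfsg.thompsonSubgroup p G ≤ Subgroup.centralizer ((⨆ S : Sylow p G, Cfsg.omegaOne p
      (((S : Subgroup G)) ⊓ Subgroup.centralizer ((S : Subgroup G) : Set G)) : Subgroup G) :
        Set G) := by
  refine le_trans thompson_le_iSup ?_
  apply iSup_le
  intro S'
  rw [Subgroup.le_centralizer_iff]
  apply iSup_le
  intro S''
  rw [← Subgroup.le_centralizer_iff]
  intro j hj
  rw [Subgroup.mem_centralizer_iff]
  intro z'' hz''
  obtain ⟨g, hg⟩ := MulAction.exists_smul_eq G S' S''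
  subst hg
  have hz := omegaZ_exists_conj g S' hz''
  obtain ⟨x, hx, c, hc, n, hn, hgcn⟩ := hTF S' g⁻¹
  rw [hO, Subgroup.mem_bot] at hx
  subst hx
  rw [one_mul] at hgcn
  have hg' : g = n⁻¹ * c⁻¹ := by
    have := congrArg (fun t => t⁻¹) hgcn
    simpa using this
  have hcz : c * (g⁻¹ * z'' * g) = (g⁻¹ * z'' * g) * c :=
    ((Subgroup.mem_centralizer_iff.mp hc) _ hz).symm
  have hnj : n * j * n⁻¹ ∈ Cfsg.thompsonSubgroupOf p (S' : Subgroup G) :=
    (Subgroup.mem_normalizer_iff.mp hn j).mp hj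
  have hzc : g⁻¹ * z'' * g ∈ Subgroup.centralizer ((S' : Subgroup G) : Set G) :=
    Cfsg.Agent.S0601.omegaZ_le_centralizer p (S' : Subgroup G) hz
  have hcomm : (n * j * n⁻¹) * (g⁻¹ * z'' * g) = (g⁻¹ * z'' * g) * (n * j * n⁻¹) :=
    (Subgroup.mem_centralizer_iff.mp hzc) _ (thompsonOf_le_sylow _ hnj)
  generalize hw : g⁻¹ * z'' * g = w at hcz hcomm
  have hz''w : z'' = g * w * g⁻¹ := by rw [← hw]; group
  rw [hz''w, hg']
  have hcw : c⁻¹ * w * c = w := by
    calc c⁻¹ * w * c = c⁻¹ * (w * c) := by group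
      _ = c⁻¹ * (c * w) := by rw [hcz]
      _ = w := by group
  calc n⁻¹ * c⁻¹ * w * (n⁻¹ * c⁻¹)⁻¹ * j = n⁻¹ * (c⁻¹ * w * c) * n * j := by group
    _ = n⁻¹ * w * n * j := by rw [hcw]
    _ = n⁻¹ * (w * (n * j * n⁻¹)) * n := by group
    _ = n⁻¹ * ((n * j * n⁻¹) * w) * n := by rw [hcomm]
    _ = j * (n⁻¹ * (c⁻¹ * w * c) * n) := by rw [hcw]; group
    _ = j * (n⁻¹ * c⁻¹ * w * (n⁻¹ * c⁻¹)⁻¹) := by group


theorem normalizer_le_thompson [Finite G] {p : ℕ} [Fact p.Prime] (S : Sylow p G) (T : Subgroup G)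
    (hJT : Cfsg.thompsonSubgroupOf p (S : Subgroup G) ≤ T) (hTS : T ≤ (S : Subgroup G)) :
    Subgroup.normalizer (T : Set G) ≤
      Subgroup.normalizer ((Cfsg.thompsonSubgroupOf p (S : Subgroup G) : Subgroup G) : Set G) := by
  intro g hg
  apply h5g_mem_normalizer_of_conj_le
  have hle : Cfsg.thompsonSubgroupOf p (S : Subgroup G) ≤
      (Cfsg.thompsonSubgroupOf p (S : Subgroup G)).comap (MulAut.conj g).toMonoidHom := by
    conv_lhs => unfold Cfsg.thompsonSubgroupOf Cfsg.thompsonSubgroup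
    rw [Subgroup.map_le_iff_le_comap]
    apply sSup_le
    intro A' hA'
    rw [← Subgroup.map_le_iff_le_comap]
    have hA := maxElemAb_map_subtype hA' (exists_maxElemAb_le_sylow S)
    have hAJ : A'.map (S : Subgroup G).subtype ≤ Cfsg.thompsonSubgroupOf p (S : Subgroup G) := by
      unfold Cfsg.thompsonSubgroupOf Cfsg.thompsonSubgroup
      exact Subgroup.map_mono (le_sSup hA')
    have hgA := maxElemAb_map_equiv (MulAut.conj g) hA
    have hgAS : (A'.map (S : Subgroup G).subtype).map (MulAut.conj g).toMonoidHom ≤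
        (S : Subgroup G) := by
      rintro _ ⟨a, ha, rfl⟩
      apply hTS
      exact (Subgroup.mem_normalizer_iff.mp hg a).mp (hJT (hAJ ha))
    rw [← Subgroup.map_le_iff_le_comap]
    exact maxElemAb_le_thompsonSubgroupOf hgA hgAS
  intro x hx
  exact hle hx

theorem backward [Finite G] {p : ℕ} [Fact p.Prime]
    (h : Cfsg.thompsonSubgroup p G ≤ Subgroup.centralizer ((⨆ S : Sylow p G, Cfsg.omegaOne p
      (((S : Subgroup G)) ⊓ Subgroup.centralizer ((S : Subgroup G) : Set G)) : Subgroup G) :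
        Set G)) : Cfsg.IsThompsonFactorizable p G := by
  intro S g
  have hYn := Y_normal (G := G) (p := p)
  have hCn : (Subgroup.centralizer ((⨆ S : Sylow p G, Cfsg.omegaOne p
      (((S : Subgroup G)) ⊓ Subgroup.centralizer ((S : Subgroup G) : Set G)) : Subgroup G) :
        Set G)).Normal := Subgroup.normal_centralizer
  have hJC : Cfsg.thompsonSubgroupOf p (S : Subgroup G) ≤ Subgroup.centralizer ((⨆ S : Sylow p G,
      Cfsg.omegaOne p (((S : Subgroup G)) ⊓ Subgroup.centralizer ((S : Subgroup G) : Set G)) :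
        Subgroup G) : Set G) :=
    le_trans (thompsonSubgroupOf_le_of_exists (exists_maxElemAb_le_sylow S)) h
  have hfr := Sylow.normalizer_sup_eq_top (Cfsg.Agent.Lib.helper17.sylowInfNormal S
    (Subgroup.centralizer ((⨆ S : Sylow p G, Cfsg.omegaOne p (((S : Subgroup G)) ⊓
      Subgroup.centralizer ((S : Subgroup G) : Set G)) : Subgroup G) : Set G)))
  rw [Cfsg.Agent.Lib.helper17.sylowInfNormal_map] at hfr
  have hN := normalizer_le_thompson S _ (le_inf (thompsonOf_le_sylow _) hJC) inf_le_left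
  have hg : g ∈ ((Subgroup.centralizer ((⨆ S : Sylow p G, Cfsg.omegaOne p (((S : Subgroup G)) ⊓
      Subgroup.centralizer ((S : Subgroup G) : Set G)) : Subgroup G) : Set G) ⊔
      Subgroup.normalizer ((((S : Subgroup G) ⊓ Subgroup.centralizer ((⨆ S : Sylow p G,
        Cfsg.omegaOne p (((S : Subgroup G)) ⊓ Subgroup.centralizer ((S : Subgroup G) : Set G)) :
        Subgroup G) : Set G) : Subgroup G)) : Set G) : Subgroup G) : Set G) := by
    rw [sup_comm, hfr]; trivial
  rw [Subgroup.normal_mul] at hg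
  obtain ⟨c, hc, n, hn, hcn⟩ := Set.mem_mul.mp hg
  have hcn' : c * n = g := hcn
  refine ⟨1, Subgroup.one_mem _, c, ?_, n, hN hn, by rw [one_mul, hcn']⟩
  exact Subgroup.centralizer_le (SetLike.coe_subset_coe.mpr
    (le_iSup (fun S : Sylow p G => Cfsg.omegaOne p (((S : Subgroup G)) ⊓
      Subgroup.centralizer ((S : Subgroup G) : Set G))) S)) hc

end

theorem result {G : Type*} [Group G] [Finite G] {p : ℕ} [Fact p.Prime] (hO : Cfsg.pPrimeCore p G = ⊥) : Cfsg.IsThompsonFactorizable p G ↔ Cfsg.thompsonSubgroup p G ≤ Subgroup.centralizer ((⨆ S : Sylow p G, Cfsg.omegaOne p (((S : Subgroup G)) ⊓ Subgroup.centralizer ((S : Subgroup G) : Set G)) : Subgroup G) : Set G) :=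
  ⟨forward hO, backward⟩

end Cfsg.Agent.S0608
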