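import Mathlib
import Cfsg.Statements.S0600

set_option autoImplicit false
open Cfsg

namespace Cfsg.Agent.S0600

theorem result {G : Type*} [Group G] [Finite G] {p : ℕ} [Fact p.Prime] (V : Subgroup G) [V.Normal] (hV : Cfsg.IsElementaryAbelian p V) (hgen : V = ⨆ S : Sylow p G, V ⊓ Subgroup.centralizer ((S : Subgroup G) : Set G)) : Cfsg.pCore p (G ⧸ Subgroup.centralizer (V : Set G)) = ⊥ := by
  set C : Subgroup G := Subgroup.centralizer (V : Set G) with hC
  rw [eq_bot_iff]
  apply sSup_le
  rintro N ⟨hNn, hNp⟩
  intro q hq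
  obtain ⟨d, rfl⟩ := QuotientGroup.mk_surjective q
  rw [Subgroup.mem_bot, QuotientGroup.eq_one_iff]
  have hsurj : Function.Surjective (QuotientGroup.mk' C) := QuotientGroup.mk'_surjective C
  have key : ∀ S : Sylow p G, ∀ v ∈ V ⊓ Subgroup.centralizer ((S : Subgroup G) : Set G),
      v * d = d * v := by
    intro S v hv
    have hle : N ≤ (S.mapSurjective hsurj : Subgroup (G ⧸ C)) :=
      hNp.le_sylow_of_normal (S.mapSurjective hsurj)
    have hmem := hle hq
    rw [Sylow.coe_mapSurjective] at hmem
    obtain ⟨s, hs, hsd⟩ := hmem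
    have hc : s⁻¹ * d ∈ C := by
      rw [← QuotientGroup.eq_one_iff, QuotientGroup.mk_mul, QuotientGroup.mk_inv]
      have : (QuotientGroup.mk' C) s = (d : G ⧸ C) := hsd
      rw [← this]
      simp
    have h1 : v * s = s * v := by
      have := (Subgroup.mem_centralizer_iff.mp hv.2) s hs
      exact this.symm
    have h2 : v * (s⁻¹ * d) = (s⁻¹ * d) * v := by
      have := (Subgroup.mem_centralizer_iff.mp hc) v hv.1
      exact this
    calc v * d = v * s * (s⁻¹ * d) := by group
      _ = s * v * (s⁻¹ * d) := by rw [h1]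
      _ = s * (v * (s⁻¹ * d)) := by group
      _ = s * ((s⁻¹ * d) * v) := by rw [h2]
      _ = d * v := by group
  have hle : V ≤ Subgroup.centralizer ({d} : Set G) := by
    rw [hgen]
    apply iSup_le
    intro S v hv
    rw [Subgroup.mem_centralizer_singleton_iff]
    exact (key S v hv)
  rw [Subgroup.mem_centralizer_iff]
  intro v hv
  have := hle hv
  rw [Subgroup.mem_centralizer_singleton_iff] at this
  exact this

end Cfsg.Agent.S0600
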