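import Mathlib
import Cfsg.Statements.S0602
import Cfsg.Agent.Lib.Helper5.ElemAb

set_option autoImplicit false
open Cfsg

namespace Cfsg.Agent.S0602

open Cfsg.Agent.Lib.Helper5 in
theorem result {G : Type*} [Group G] [Finite G] {p : ℕ} [Fact p.Prime] : (Cfsg.thompsonSubgroup p G).Characteristic ∧ (p ∣ Nat.card G → Cfsg.thompsonSubgroup p G ≠ ⊥) := by
  constructor
  · rw [Subgroup.characteristic_iff_map_le]
    intro φ
    rw [Subgroup.map_le_iff_le_comap]
    apply sSup_le
    intro A hA
    rw [← Subgroup.map_le_iff_le_comap]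
    exact maxElemAb_le_thompson (maxElemAb_map_equiv φ hA)
  · intro hdvd hbot
    obtain ⟨x, hx⟩ := exists_prime_orderOf_dvd_card' (G := G) p hdvd
    obtain ⟨A, hA⟩ := maxElemAb_nonempty (G := G) p
    have hAJ := maxElemAb_le_thompson hA
    rw [hbot, le_bot_iff] at hAJ
    have hZ : Cfsg.IsElementaryAbelian p (Subgroup.zpowers x) := by
      rw [Subgroup.zpowers_eq_closure]
      apply elemAb_closure
      · intro y hy z hz
        rw [Set.mem_singleton_iff] at hy hz; subst hy; subst hz; rfl
      · intro y hy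
        rw [Set.mem_singleton_iff] at hy; subst hy
        rw [← hx]; exact pow_orderOf_eq_one y
    have h1 := hA.2 _ hZ
    rw [hAJ, Nat.card_zpowers, hx, Subgroup.card_bot] at h1
    have := (Fact.out : p.Prime).two_le
    omega

end Cfsg.Agent.S0602
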