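import Mathlib
import Cfsg.Statements.S0606
import Cfsg.Agent.Lib.Helper5.ElemAb
import Cfsg.Agent.Lib.Helper5.Card

set_option autoImplicit false
open Cfsg

namespace Cfsg.Agent.S0606

open Cfsg.Agent.Lib.Helper5 in
theorem result {G : Type*} [Group G] [Finite G] {p : ℕ} [Fact p.Prime] (V : Subgroup G) [V.Normal] (hV : Cfsg.IsElementaryAbelian p V) (A : Subgroup G) (hA : A ∈ Cfsg.maxElementaryAbelianSubgroups p G) : Cfsg.IsBestOffenderOn p V A := by
  obtain ⟨⟨hAc, hAp⟩, hAmax⟩ := hA
  have hAcent : A ≤ Subgroup.centralizer (A : Set G) :=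
    Subgroup.le_centralizer_iff_isMulCommutative.mpr hAc
  refine ⟨?_, ?_, ?_⟩
  · intro B hBA
    set W : Subgroup G := V ⊓ Subgroup.centralizer (B : Set G) with hW
    have hD : Cfsg.IsElementaryAbelian p (B ⊔ W) := by
      have : B ⊔ W = Subgroup.closure ((B : Set G) ∪ (W : Set G)) := by
        rw [Subgroup.closure_union, Subgroup.closure_eq, Subgroup.closure_eq]
      rw [this]
      apply elemAb_closure
      · rintro y (hy | hy) z (hz | hz)
        · exact setLike_mul_comm (hBA hy) (hBA hz)
        · exact (hz.2 y hy)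
        · exact (hy.2 z hz).symm
        · have := hV.1
          exact setLike_mul_comm hy.1 hz.1
      · rintro y (hy | hy)
        · exact hAp y (hBA hy)
        · exact hV.2 y hy.1
    have h1 := card_mul_card_le_sup_mul_inf B W
    have h2 : Nat.card (B ⊔ W : Subgroup G) ≤ Nat.card A := hAmax _ hD
    have h3 : Nat.card (B ⊓ W : Subgroup G) ≤
        Nat.card (V ⊓ Subgroup.centralizer (A : Set G) : Subgroup G) := by
      apply Subgroup.card_le_of_le
      intro x hx
      exact ⟨hx.2.1, hAcent (hBA hx.1)⟩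
    calc Nat.card B * Nat.card W ≤ Nat.card (B ⊔ W : Subgroup G) * Nat.card (B ⊓ W : Subgroup G) := h1
      _ ≤ Nat.card A * Nat.card (V ⊓ Subgroup.centralizer (A : Set G) : Subgroup G) :=
        Nat.mul_le_mul h2 h3
  · have : ⁅A, A⁆ = ⊥ := Subgroup.commutator_self_eq_bot_iff.mpr hAc
    rw [this]
    exact bot_le
  · intro a ha
    rw [hAp a ha]
    exact one_mem _

end Cfsg.Agent.S0606
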