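import Mathlib
import Cfsg.Statements.S0618
import Cfsg.Agent.Lib.Helper5.Hol2
import Cfsg.Agent.S0600
import Cfsg.Agent.S0601
import Cfsg.Agent.S0602
import Cfsg.Agent.S0606
import Cfsg.Agent.S0608
import Cfsg.Agent.S0617

set_option autoImplicit false
open Cfsg

namespace Cfsg.Agent.S0618

open Cfsg.Agent.Lib.Helper5

theorem centralizer_iSup_set {G : Type*} [Group G] {ι : Sort*} (K : ι → Subgroup G) :
    Subgroup.centralizer (⨆ i, (K i : Set G)) =
      Subgroup.centralizer ((⨆ i, K i : Subgroup G) : Set G) := by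
  apply le_antisymm
  · intro x hx
    rw [Subgroup.mem_centralizer_iff] at hx ⊢
    have h1 : (⨆ i, K i) ≤ Subgroup.centralizer ({x} : Set G) := by
      apply iSup_le
      intro i y hy
      rw [Subgroup.mem_centralizer_iff]
      intro z hz
      rw [Set.mem_singleton_iff] at hz
      subst hz
      have h2 : y ∈ ⨆ i, (K i : Set G) := by
        rw [Set.iSup_eq_iUnion]
        exact Set.mem_iUnion.mpr ⟨i, hy⟩
      exact (hx y h2).symm
    intro y hy
    have h3 := h1 hy
    rw [Subgroup.mem_centralizer_iff] at h3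
    exact (h3 x rfl).symm
  · apply Subgroup.centralizer_le
    intro y hy
    rw [Set.iSup_eq_iUnion] at hy
    obtain ⟨i, hi⟩ := Set.mem_iUnion.mp hy
    exact (le_iSup K i) hi

theorem result {G : Type*} [Group G] [Finite G] {p : ℕ} [Fact p.Prime] (hsep : Cfsg.IsPSolvable p G) (hO : Cfsg.pPrimeCore p G = ⊥) (hnf : ¬ Cfsg.IsThompsonFactorizable p G) : (p = 2 ∨ p = 3) ∧ ∃ E : Subgroup G, Subgroup.centralizer ((⨆ S : Sylow p G, Cfsg.omegaOne p ((S : Subgroup G) ⊓ Subgroup.centralizer ((S : Subgroup G) : Set G))) : Set G) ≤ E ∧ E ≤ Cfsg.thompsonSubgroup p G ⊔ Subgroup.centralizer ((⨆ S : Sylow p G, Cfsg.omegaOne p ((S : Subgroup G) ⊓ Subgroup.centralizer ((S : Subgroup G) : Set G))) : Set G) ∧ Cfsg.thompsonSubgroup p G ⊔ Subgroup.centralizer ((⨆ S : Sylow p G, Cfsg.omegaOne p ((S : Subgroup G) ⊓ Subgroup.centralizer ((S : Subgroup G) : Set G))) : Set G) ≤ Subgroup.normalizer (E : Set G) ∧ ∃ hn : ((Subgroup.centralizer ((⨆ S : Sylow p G, Cfsg.omegaOne p ((S : Subgroup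 G) ⊓ Subgroup.centralizer ((S : Subgroup G) : Set G))) : Set G)).subgroupOf E).Normal, Nonempty ((↥E ⧸ (Subgroup.centralizer ((⨆ S : Sylow p G, Cfsg.omegaOne p ((S : Subgroup G) ⊓ Subgroup.centralizer ((S : Subgroup G) : Set G))) : Set G)).subgroupOf E) ≃* Matrix.SpecialLinearGroup (Fin 2) (ZMod p)) := by
  rw [centralizer_iSup_set]
  have hc := h5_centralizer_pCore_le hsep hO
  obtain ⟨hVn, hVe, -⟩ := Cfsg.Agent.S0601.result hc
  have hJC : ¬ Cfsg.thompsonSubgroup p G ≤ Subgroup.centralizer ((⨆ S : Sylow p G, Cfsg.omegaOne p ((S : Subgroup G) ⊓ Subgroup.centralizer ((S : Subgroup G) : Set G)) : Subgroup G) : Set G) :=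
    fun h => hnf ((Cfsg.Agent.S0608.result hO).mpr h)
  set V := ⨆ S : Sylow p G, Cfsg.omegaOne p ((S : Subgroup G) ⊓ Subgroup.centralizer ((S : Subgroup G) : Set G)) with hVdef
  haveI := hVn
  have hgen : V = ⨆ S : Sylow p G, V ⊓ Subgroup.centralizer ((S : Subgroup G) : Set G) := by
    apply le_antisymm
    · rw [hVdef]
      apply iSup_le
      intro S
      refine le_trans ?_ (le_iSup _ S)
      apply le_inf (le_iSup (fun S : Sylow p G => Cfsg.omegaOne p ((S : Subgroup G) ⊓ Subgroup.centralizer ((S : Subgroup G) : Set G))) S)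
      unfold Cfsg.omegaOne
      rw [Subgroup.closure_le]
      rintro x ⟨hx, -⟩
      exact (Subgroup.mem_inf.mp hx).2
    · exact iSup_le (fun S => inf_le_left)
  have hOC := Cfsg.Agent.S0600.result V hVe hgen
  haveI hJchar := (Cfsg.Agent.S0602.result (G := G) (p := p)).1
  have hV' := holV_elemAb V hVe
  haveI := holV_normal V
  have hHV' : (Cfsg.thompsonSubgroup p G).map (holPsi V) ≤
      Subgroup.normalizer ((holV V : Subgroup (HolG V)) : Set (HolG V)) :=
    Subgroup.le_normalizer_of_normal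
  have hmr : (Cfsg.thompsonSubgroup p G).map (holPsi V) ≤ (holPsi V).range := by
    rw [MonoidHom.range_eq_map]; exact Subgroup.map_mono le_top
  have hf' : (Cfsg.thompsonSubgroup p G).map (holPsi V) ⊓
      Subgroup.centralizer ((holV V : Subgroup (HolG V)) : Set (HolG V)) = ⊥ := by
    rw [eq_bot_iff, ← hol_faithful V]
    exact inf_le_inf_right _ hmr
  have hS1' := hol_map_hS1 V hsep hOC (Cfsg.thompsonSubgroup p G)
  have hS3' : (Cfsg.thompsonSubgroup p G).map (holPsi V) =
      ⨆ A : {A : Subgroup (HolG V) // A ≤ (Cfsg.thompsonSubgroup p G).map (holPsi V) ∧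
        Cfsg.IsBestOffenderOn p (holV V) A}, (A : Subgroup (HolG V)) := by
    apply le_antisymm
    · have h1 : (Cfsg.thompsonSubgroup p G).map (holPsi V) =
          ⨆ A : ↥(Cfsg.maxElementaryAbelianSubgroups p G), (A : Subgroup G).map (holPsi V) := by
        unfold Cfsg.thompsonSubgroup
        rw [sSup_eq_iSup', Subgroup.map_iSup]
      refine h1.le.trans ?_
      apply iSup_le
      intro A
      exact le_iSup (fun A : {A : Subgroup (HolG V) //
        A ≤ (Cfsg.thompsonSubgroup p G).map (holPsi V) ∧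
        Cfsg.IsBestOffenderOn p (holV V) A} => (A : Subgroup (HolG V)))
        ⟨A.1.map (holPsi V), Subgroup.map_mono (le_sSup A.2),
          hol_bestOffender V A.1 (Cfsg.Agent.S0606.result V hVe A.1 A.2)⟩
    · exact iSup_le (fun A => A.2.1)
  have hH1' : (Cfsg.thompsonSubgroup p G).map (holPsi V) ≠ ⊥ := by
    intro h
    apply hJC
    rw [Subgroup.map_eq_bot_iff, holPsi_ker] at h
    exact h
  obtain ⟨hp, hE, -, hsup, -, -⟩ := Cfsg.Agent.S0617.result (holV V)
    ((Cfsg.thompsonSubgroup p G).map (holPsi V)) hV' hHV' hf' hS1' hS3' hH1'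
  have key : ∃ E' : Subgroup (HolG V), E' ≤ (Cfsg.thompsonSubgroup p G).map (holPsi V) ∧
      (Cfsg.thompsonSubgroup p G).map (holPsi V) ≤ Subgroup.normalizer (E' : Set (HolG V)) ∧
      Nonempty (↥E' ≃* Matrix.SpecialLinearGroup (Fin 2) (ZMod p)) := by
    by_contra hcon
    apply hH1'
    rw [← hsup, iSup_eq_bot]
    intro E'
    exfalso
    apply hcon
    obtain ⟨hHE, he, -⟩ := hE E'
    exact ⟨E'.1, le_trans (le_iSup (fun E => E.1) E') hsup.le, hHE, he⟩
  obtain ⟨E', hE'H, hHE, ⟨e⟩⟩ := key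
  obtain ⟨hn, ⟨e2⟩⟩ := hol_pullback V E' (hE'H.trans hmr)
  refine ⟨hp, E'.comap (holPsi V), ?_, ?_, ?_, hn, ⟨e2.trans e⟩⟩
  · rw [← holPsi_ker V]
    intro x hx
    rw [MonoidHom.mem_ker] at hx
    rw [Subgroup.mem_comap, hx]
    exact one_mem _
  · intro x hx
    obtain ⟨j, hj, hjx⟩ := hE'H (Subgroup.mem_comap.mp hx)
    have hx2 : x = j * (j⁻¹ * x) := by group
    rw [hx2]
    apply Subgroup.mul_mem_sup hj
    rw [← holPsi_ker V, MonoidHom.mem_ker, map_mul, map_inv, hjx, inv_mul_cancel]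
  · have h1 : Cfsg.thompsonSubgroup p G ⊔ Subgroup.centralizer (V : Set G) ≤
        (Subgroup.normalizer (E' : Set (HolG V))).comap (holPsi V) := by
      apply sup_le
      · intro j hj
        exact hHE (Subgroup.mem_map_of_mem _ hj)
      · intro c hc
        rw [← holPsi_ker V, MonoidHom.mem_ker] at hc
        rw [Subgroup.mem_comap, hc]
        exact one_mem _
    exact h1.trans (Subgroup.le_normalizer_comap (holPsi V))

end Cfsg.Agent.S0618
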