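import Mathlib
import Cfsg.Statements.S3755
import Cfsg.Agent.Lib.Helper5.FFOp
import Cfsg.Agent.S0028
import Cfsg.Agent.S1324
import Cfsg.Agent.S0444

set_option autoImplicit false
open Cfsg

namespace Cfsg.Agent.S3755

open Cfsg.Agent.Lib.Helper5
open scoped Pointwise

variable {X : Type*} [Group X]

theorem inv_eq_of_sq {a : X} (ha : a * a = 1) : a⁻¹ = a := inv_eq_of_mul_eq_one_left ha

theorem exists_inverted [Finite X] {a : X} (ha : a * a = 1) {L : Subgroup X}
    (haL : a ∈ Subgroup.normalizer (L : Set X)) (hac : a ∉ Subgroup.centralizer (L : Set X))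
    (hL : ¬ 2 ∣ Nat.card L) :
    ∃ x ∈ L, ∃ r : ℕ, r.Prime ∧ r ≠ 2 ∧ orderOf x = r ∧ a * x * a⁻¹ = x⁻¹ := by
  have hai := inv_eq_of_sq ha
  rw [Subgroup.mem_centralizer_iff] at hac
  push Not at hac
  obtain ⟨y, hy, hya⟩ := hac
  have hyL : a * y * a⁻¹ ∈ L := (Subgroup.mem_normalizer_iff.mp haL y).mp hy
  have hx0L : y⁻¹ * (a * y * a⁻¹) ∈ L := mul_mem (inv_mem hy) hyL
  have hx0ne : y⁻¹ * (a * y * a⁻¹) ≠ 1 := by
    intro h
    apply hya
    have h1 : a * y * a⁻¹ = y := by
      have := congrArg (fun z => y * z) h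
      simpa using this
    calc y * a = (a * y * a⁻¹) * a := by rw [h1]
      _ = a * y := by group
  have hx0inv : a * (y⁻¹ * (a * y * a⁻¹)) * a⁻¹ = (y⁻¹ * (a * y * a⁻¹))⁻¹ := by
    have e1 : a * (y⁻¹ * (a * y * a⁻¹)) * a⁻¹ = a * y⁻¹ * a * y * (a⁻¹ * a⁻¹) := by group
    have e2 : (y⁻¹ * (a * y * a⁻¹))⁻¹ = a * y⁻¹ * a⁻¹ * y := by group
    rw [e1, e2, hai, ha, mul_one]
  set x₀ := y⁻¹ * (a * y * a⁻¹) with hx₀
  have hn1 : orderOf x₀ ≠ 1 := fun h => hx0ne (orderOf_eq_one_iff.mp h)
  have hnpos : 0 < orderOf x₀ := orderOf_pos x₀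
  have hr := Nat.minFac_prime hn1
  have hrd := Nat.minFac_dvd (orderOf x₀)
  have hordL : orderOf x₀ ∣ Nat.card L := by
    have h1 : orderOf (⟨x₀, hx0L⟩ : L) = orderOf x₀ := Subgroup.orderOf_mk x₀ hx0L
    rw [← h1]
    exact orderOf_dvd_natCard _
  refine ⟨x₀ ^ (orderOf x₀ / (orderOf x₀).minFac), pow_mem hx0L _, (orderOf x₀).minFac, hr, ?_, ?_, ?_⟩
  · intro h2
    apply hL
    rw [← h2]
    exact hrd.trans hordL
  · have hdvd : orderOf x₀ / (orderOf x₀).minFac ∣ orderOf x₀ := Nat.div_dvd_of_dvd hrd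
    have hne : orderOf x₀ / (orderOf x₀).minFac ≠ 0 := by
      intro h
      rw [Nat.div_eq_zero_iff] at h
      rcases h with h | h
      · exact hr.ne_zero h
      · exact absurd (Nat.le_of_dvd hnpos hrd) (not_le.mpr h)
    rw [orderOf_pow_of_dvd hne hdvd]
    exact Nat.div_div_self hrd hnpos.ne'
  · have h1 : a * x₀ ^ (orderOf x₀ / (orderOf x₀).minFac) * a⁻¹ =
        (a * x₀ * a⁻¹) ^ (orderOf x₀ / (orderOf x₀).minFac) := by
      rw [conj_pow]
    rw [h1, hx0inv, inv_pow]

theorem card_modEq_card_cent [Finite X] {q : ℕ} [Fact q.Prime] {W Y : Subgroup X}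
    (hYW : Y ≤ Subgroup.normalizer (W : Set X)) (hY : IsPGroup q Y) :
    Nat.card W ≡ Nat.card ↥(W ⊓ Subgroup.centralizer (Y : Set X)) [MOD q] := by
  letI : MulAction Y W := MulAction.compHom W (Cfsg.Agent.S0593.conjAut W Y hYW)
  have h1 := hY.card_modEq_card_fixedPoints W
  have hset : (MulAction.fixedPoints Y W : Set W) =
      (((Subgroup.centralizer (Y : Set X)).subgroupOf W : Subgroup W) : Set W) := by
    ext w
    rw [MulAction.mem_fixedPoints, SetLike.mem_coe, Subgroup.mem_subgroupOf,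
      Subgroup.mem_centralizer_iff]
    constructor
    · intro h y hy
      have h2 := congrArg (fun v : W => (v : X)) (h ⟨y, hy⟩)
      have h3 : y * (w : X) * y⁻¹ = w := h2
      calc y * (w : X) = (y * w * y⁻¹) * y := by group
        _ = w * y := by rw [h3]
    · intro h y
      apply Subtype.ext
      show (y : X) * w * (y : X)⁻¹ = w
      rw [h y y.2]; group
  have h2 : Nat.card (MulAction.fixedPoints Y W) =
      Nat.card ((Subgroup.centralizer (Y : Set X)).subgroupOf W) := by
    rw [hset]; rfl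
  rw [h2] at h1
  have h3 : Nat.card ((Subgroup.centralizer (Y : Set X)).subgroupOf W) =
      Nat.card ↥(W ⊓ Subgroup.centralizer (Y : Set X)) := by
    rw [inf_comm, ← Subgroup.inf_subgroupOf_right]
    exact card_subgroupOf_of_le inf_le_right
  rw [h3] at h1
  exact h1

theorem mem_cent_zpowers {u x : X} :
    u ∈ Subgroup.centralizer ((Subgroup.zpowers x : Subgroup X) : Set X) ↔ x * u = u * x := by
  rw [Subgroup.mem_centralizer_iff]
  constructor
  · intro h
    exact h x (Subgroup.mem_zpowers x)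
  · rintro h _ ⟨n, rfl⟩
    have hc : Commute x u := h
    exact (hc.zpow_left n).eq

theorem dihedral_bound [Finite X] {U : Subgroup X} (hU : Cfsg.IsElementaryAbelian 2 U) {a x : X}
    (ha : a * a = 1) (hxU : x ∈ Subgroup.normalizer (U : Set X)) {r : ℕ} (hr : r.Prime)
    (hr2 : r ≠ 2) (hr3 : r ≠ 3) (hxr : orderOf x = r) (hinv : a * x * a⁻¹ = x⁻¹)
    (hxc : x ∉ Subgroup.centralizer (U : Set X)) :
    4 * Nat.card ↥(U ⊓ Subgroup.centralizer ((Subgroup.zpowers a : Subgroup X) : Set X)) ≤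
      Nat.card U := by
  by_contra hlt
  push Not at hlt
  haveI : Fact r.Prime := ⟨hr⟩
  haveI : Fact (Nat.Prime 2) := ⟨Nat.prime_two⟩
  have hai := inv_eq_of_sq ha
  have hUc : ∀ u ∈ U, ∀ v ∈ U, u * v = v * u := by
    intro u hu v hv
    haveI := hU.1
    exact congrArg Subtype.val (mul_comm' (⟨u, hu⟩ : U) ⟨v, hv⟩)
  have hmap := map_conj_cent hxU (Subgroup.zpowers a)
  have hcard2 : Nat.card ↥(U ⊓ Subgroup.centralizer
      (((Subgroup.zpowers a).map (MulAut.conj x).toMonoidHom : Subgroup X) : Set X)) =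
      Nat.card ↥(U ⊓ Subgroup.centralizer ((Subgroup.zpowers a : Subgroup X) : Set X)) := by
    rw [← hmap, card_map_conj]
  have hint : (U ⊓ Subgroup.centralizer ((Subgroup.zpowers a : Subgroup X) : Set X)) ⊓
      (U ⊓ Subgroup.centralizer
        (((Subgroup.zpowers a).map (MulAut.conj x).toMonoidHom : Subgroup X) : Set X)) ≤
      U ⊓ Subgroup.centralizer ((Subgroup.zpowers x : Subgroup X) : Set X) := by
    intro u hu
    obtain ⟨hu1, hu2⟩ := Subgroup.mem_inf.mp hu
    obtain ⟨huU, hua⟩ := Subgroup.mem_inf.mp hu1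
    obtain ⟨-, hua'⟩ := Subgroup.mem_inf.mp hu2
    refine Subgroup.mem_inf.mpr ⟨huU, ?_⟩
    rw [mem_cent_zpowers]
    have h1 : Commute u a := ((Subgroup.mem_centralizer_iff.mp hua) a (Subgroup.mem_zpowers a)).symm
    have h2 : Commute u (x * a * x⁻¹) :=
      ((Subgroup.mem_centralizer_iff.mp hua') (x * a * x⁻¹)
        ⟨a, Subgroup.mem_zpowers a, rfl⟩).symm
    have h3 : a * (x * a * x⁻¹) = x⁻¹ * x⁻¹ := by
      calc a * (x * a * x⁻¹) = (a * x * a) * x⁻¹ := by group
        _ = (a * x * a⁻¹) * x⁻¹ := by rw [hai]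
        _ = x⁻¹ * x⁻¹ := by rw [hinv]
    have h4 : Commute u (x⁻¹ * x⁻¹) := by rw [← h3]; exact h1.mul_right h2
    have h5 : Commute u (x * x) := by
      have := h4.inv_right
      rwa [mul_inv_rev, inv_inv] at this
    obtain ⟨j, hj⟩ := (hr.eq_two_or_odd').resolve_left hr2
    have h6 : (x * x) ^ (j + 1) = x := by
      rw [← pow_two, ← pow_mul]
      have h7 : 2 * (j + 1) = r + 1 := by omega
      rw [h7, pow_succ, ← hxr, pow_orderOf_eq_one, one_mul]
    have h8 : Commute u x := by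
      rw [← h6]; exact h5.pow_right _
    exact h8.eq.symm
  have hprod := card_sup_mul_inf_abelian hUc
    (inf_le_left : U ⊓ Subgroup.centralizer ((Subgroup.zpowers a : Subgroup X) : Set X) ≤ U)
    (inf_le_left : U ⊓ Subgroup.centralizer
      (((Subgroup.zpowers a).map (MulAut.conj x).toMonoidHom : Subgroup X) : Set X) ≤ U)
  have hsup : Nat.card ↥((U ⊓ Subgroup.centralizer ((Subgroup.zpowers a : Subgroup X) : Set X)) ⊔
      (U ⊓ Subgroup.centralizer
        (((Subgroup.zpowers a).map (MulAut.conj x).toMonoidHom : Subgroup X) : Set X))) ≤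
      Nat.card U := Subgroup.card_le_of_le (sup_le inf_le_left inf_le_left)
  have hinf := Subgroup.card_le_of_le hint
  have hxz : Subgroup.zpowers x ≤ Subgroup.normalizer (U : Set X) := Subgroup.zpowers_le.mpr hxU
  have hzr : IsPGroup r (Subgroup.zpowers x) := by
    apply IsPGroup.of_card (n := 1)
    rw [Nat.card_zpowers, hxr, pow_one]
  have hmod := card_modEq_card_cent hxz hzr
  have hU2 : IsPGroup 2 U := elemAb_isPGroup hU
  obtain ⟨m, hm⟩ := hU2.exists_card_eq
  obtain ⟨i, hi⟩ := (hU2.to_le (inf_le_left : U ⊓ Subgroup.centralizer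
    ((Subgroup.zpowers x : Subgroup X) : Set X) ≤ U)).exists_card_eq
  obtain ⟨j, hj⟩ := (hU2.to_le (inf_le_left : U ⊓ Subgroup.centralizer
    ((Subgroup.zpowers a : Subgroup X) : Set X) ≤ U)).exists_card_eq
  rw [hcard2, hj] at hprod
  rw [hm] at hsup hmod hlt
  rw [hi] at hinf hmod
  rw [hj] at hlt
  have him : i ≤ m := by
    have h1 : Nat.card ↥(U ⊓ Subgroup.centralizer ((Subgroup.zpowers x : Subgroup X) : Set X)) ≤
        Nat.card U := Subgroup.card_le_of_le inf_le_left
    rw [hi, hm] at h1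
    exact (Nat.pow_le_pow_iff_right (by norm_num)).mp h1
  have h1 : 2 ^ j * 2 ^ j ≤ 2 ^ m * 2 ^ i := by
    rw [← hprod]
    exact Nat.mul_le_mul hsup hinf
  rw [← pow_add, ← pow_add] at h1
  have h2 : j + j ≤ m + i := (Nat.pow_le_pow_iff_right (by norm_num)).mp h1
  have h3 : (2 : ℕ) ^ m < 2 ^ (j + 2) := by
    rw [pow_add]; linarith
  have h4 : m < j + 2 := (Nat.pow_lt_pow_iff_right (by norm_num)).mp h3
  have h5 : m ≤ i + 2 := by omega
  obtain ⟨d, rfl⟩ := Nat.exists_eq_add_of_le him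
  have hd : d ≤ 2 := by omega
  have h6 : r ∣ 2 ^ (i + d) - 2 ^ i :=
    (Nat.modEq_iff_dvd' (Nat.pow_le_pow_right (by norm_num) (by omega))).mp hmod.symm
  have h7 : 2 ^ (i + d) - 2 ^ i = 2 ^ i * (2 ^ d - 1) := by
    rw [pow_add, Nat.mul_sub, mul_one]
  rw [h7] at h6
  have hcop : Nat.Coprime r (2 ^ i) := by
    apply Nat.Coprime.pow_right
    rw [Nat.coprime_primes hr Nat.prime_two]
    exact hr2
  have h8 : r ∣ 2 ^ d - 1 := hcop.dvd_of_dvd_mul_left h6
  interval_cases d
  · apply hxc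
    have h9 : U ⊓ Subgroup.centralizer ((Subgroup.zpowers x : Subgroup X) : Set X) = U := by
      apply Subgroup.eq_of_le_of_card_ge inf_le_left
      rw [hi, hm, add_zero]
    have h10 : U ≤ Subgroup.centralizer ((Subgroup.zpowers x : Subgroup X) : Set X) := by
      rw [← h9]; exact inf_le_right
    rw [Subgroup.mem_centralizer_iff]
    intro u hu
    exact (mem_cent_zpowers.mp (h10 hu)).symm
  · norm_num at h8
    exact hr.one_lt.ne' h8
  · norm_num at h8
    exact hr3 ((Nat.prime_dvd_prime_iff_eq hr Nat.prime_three).mp h8)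

theorem s3_involved {M : Subgroup X} {a x : X} (haM : a ∈ M) (hxM : x ∈ M) (ha : a * a = 1)
    (hx3 : orderOf x = 3) (hinv : a * x * a⁻¹ = x⁻¹) :
    Cfsg.Involves (Equiv.Perm (Fin 3)) ↥M := by
  have hai := inv_eq_of_sq ha
  have hx1 : x ≠ 1 := by
    rintro rfl
    rw [orderOf_one] at hx3
    norm_num at hx3
  have hxxx : x ^ 3 = 1 := by rw [← hx3]; exact pow_orderOf_eq_one x
  have hane : a ≠ 1 := by
    rintro rfl
    rw [one_mul, inv_one, mul_one] at hinv
    have h1 : x * x = 1 := by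
      calc x * x = x * x⁻¹ := by rw [← hinv]
        _ = 1 := mul_inv_cancel x
    apply hx1
    calc x = x ^ 3 * (x * x)⁻¹ := by group
      _ = 1 := by rw [hxxx, h1, inv_one, one_mul]
  have hax : a * x * (a * x) = 1 := by
    calc a * x * (a * x) = (a * x * a) * x := by group
      _ = (a * x * a⁻¹) * x := by rw [hai]
      _ = 1 := by rw [hinv, inv_mul_cancel]
  have hxx : x * x ≠ 1 := by
    intro h1
    apply hx1
    calc x = x ^ 3 * (x * x)⁻¹ := by group
      _ = 1 := by rw [hxxx, h1, inv_one, one_mul]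
  have haxne : a * x ≠ 1 := by
    intro h
    have h1 : x = a⁻¹ := eq_inv_of_mul_eq_one_right h
    rw [hai] at h1
    apply hxx
    rw [h1, ha]
  have hxinv : a * x * a = x⁻¹ := by
    calc a * x * a = a * x * a⁻¹ := by rw [hai]
      _ = x⁻¹ := hinv
  have hE : Cfsg.IsThreeTranspositionSet ({a, a * x} : Set X) := by
    constructor
    · intro d hd
      rcases hd with rfl | rfl
      · exact orderOf_eq_prime (by rw [pow_two]; exact ha) hane
      · exact orderOf_eq_prime (by rw [pow_two]; exact hax) haxne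
    · intro d hd e he
      rcases hd with rfl | rfl <;> rcases he with rfl | rfl
      · left; rw [ha, one_pow]
      · right
        have h1 : d * (d * x) = x := by rw [← mul_assoc, ha, one_mul]
        rw [h1, hxxx]
      · right
        rw [hxinv, inv_pow, hxxx, inv_one]
      · left; rw [hax, one_pow]
  have hnc : ¬ Commute a (a * x) := by
    intro h
    have h1 : a * (a * x) = x := by rw [← mul_assoc, ha, one_mul]
    have h2 : a * x * a = x := by rw [← h.eq, h1]
    rw [hxinv] at h2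
    apply hxx
    calc x * x = x * x⁻¹ := by rw [h2]
      _ = 1 := mul_inv_cancel x
  obtain ⟨iso⟩ := Cfsg.Agent.S0444.result hE (Set.mem_insert _ _)
    (Set.mem_insert_of_mem _ rfl) hnc
  have hle : Subgroup.closure ({a, a * x} : Set X) ≤ M := by
    rw [Subgroup.closure_le]
    rintro _ (rfl | rfl)
    · exact haM
    · exact mul_mem haM hxM
  have hbot : (⊥ : Subgroup ↥M).subgroupOf ((Subgroup.closure ({a, a * x} : Set X)).subgroupOf M) =
      ⊥ := Subgroup.bot_subgroupOf _
  refine ⟨(Subgroup.closure ({a, a * x} : Set X)).subgroupOf M, ⊥, ?_, ?_⟩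
  · rw [hbot]; infer_instance
  · exact ⟨((QuotientGroup.quotientMulEquivOfEq hbot).trans QuotientGroup.quotientBot).trans
      ((Subgroup.subgroupOfEquivOfLe hle).trans iso)⟩

theorem sup_zpowers_eq [Finite X] {A B : Subgroup X} {a : X} (hBA : B ≤ A) (ha : a ∈ A)
    (haB : a ∉ B) (hcard : Nat.card A = 2 * Nat.card B) : A = B ⊔ Subgroup.zpowers a := by
  have hle : B ⊔ Subgroup.zpowers a ≤ A := sup_le hBA (Subgroup.zpowers_le.mpr ha)
  symm
  apply Subgroup.eq_of_le_of_card_ge hle
  obtain ⟨k, hk⟩ := Subgroup.card_dvd_of_le (le_sup_left : B ≤ B ⊔ Subgroup.zpowers a)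
  have h2 : Nat.card ↥(B ⊔ Subgroup.zpowers a) ∣ 2 * Nat.card B := by
    rw [← hcard]; exact Subgroup.card_dvd_of_le hle
  have hBpos : 0 < Nat.card B := Nat.card_pos
  have hk1 : k ≠ 1 := by
    intro h1
    rw [h1, mul_one] at hk
    have h3 : B ⊔ Subgroup.zpowers a = B :=
      (Subgroup.eq_of_le_of_card_ge le_sup_left hk.le).symm
    apply haB
    rw [← h3]
    exact Subgroup.mem_sup_right (Subgroup.mem_zpowers a)
  have hk0 : k ≠ 0 := by
    intro h0
    rw [h0, mul_zero] at hk
    have : 0 < Nat.card ↥(B ⊔ Subgroup.zpowers a) := Nat.card_pos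
    omega
  rw [hcard, hk]
  have : 2 ≤ k := by omega
  nlinarith

theorem exists_hyperplane [Finite X] {A Kc : Subgroup X} (hA : Cfsg.IsElementaryAbelian 2 A)
    (hAne : A ≠ ⊥) (hAK : A ≤ Subgroup.normalizer (Kc : Set X)) (hK : ¬ 2 ∣ Nat.card Kc)
    (hf : A ⊓ Subgroup.centralizer (Kc : Set X) = ⊥) :
    ∃ B : Subgroup X, ∃ a : X, B ≤ A ∧ a ∈ A ∧ a ∉ B ∧ Nat.card A = 2 * Nat.card B ∧
      a ∉ Subgroup.centralizer ((Kc ⊓ Subgroup.centralizer (B : Set X) : Subgroup X) : Set X) := by
  haveI : Fact (Nat.Prime 2) := ⟨Nat.prime_two⟩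
  obtain ⟨n, hn⟩ := (elemAb_isPGroup hA).exists_card_eq
  obtain ⟨a₀, ha₀1⟩ := (Subgroup.ne_bot_iff_exists_ne_one).mp hAne
  have ha₀' : (a₀ : X) ≠ 1 := fun h => ha₀1 (Subtype.ext h)
  have ha₀c : (a₀ : X) ∉ Subgroup.centralizer (Kc : Set X) := by
    intro h
    have h1 : (a₀ : X) ∈ A ⊓ Subgroup.centralizer (Kc : Set X) := ⟨a₀.2, h⟩
    rw [hf, Subgroup.mem_bot] at h1
    exact ha₀' h1
  have hn0 : n ≠ 0 := by
    rintro rfl
    rw [pow_zero] at hn
    exact hAne (Subgroup.card_eq_one.mp hn)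
  by_cases hn1 : n = 1
  · refine ⟨⊥, a₀, bot_le, a₀.2, ?_, ?_, ?_⟩
    · rw [Subgroup.mem_bot]; exact ha₀'
    · rw [hn, hn1, Subgroup.card_bot]; norm_num
    · rw [centralizer_coe_bot, inf_top_eq]; exact ha₀c
  · have hA2 : 2 ^ 2 ≤ Nat.card A := by
      rw [hn]
      exact Nat.pow_le_pow_right (by norm_num) (by omega)
    have hgen := Cfsg.Agent.S1324.result 2 A Kc hA hA2 hK hAK
    by_contra hall
    push Not at hall
    apply ha₀c
    have hKle : Kc ≤ Subgroup.centralizer ((Subgroup.zpowers (a₀ : X) : Subgroup X) : Set X) := by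
      rw [hgen]
      apply iSup_le
      rintro ⟨B, hBA, hBi⟩
      show Kc ⊓ Subgroup.centralizer (B : Set X) ≤ _
      by_cases haB : (a₀ : X) ∈ B
      · exact inf_le_right.trans (Subgroup.centralizer_le
          (SetLike.coe_subset_coe.mpr (Subgroup.zpowers_le.mpr haB)))
      · have hne1 : B.relIndex A ≠ 1 := by
          intro h1
          exact haB (Subgroup.relIndex_eq_one.mp h1 a₀.2)
        have hne0 : B.relIndex A ≠ 0 := by
          show (B.subgroupOf A).index ≠ 0
          exact Subgroup.index_ne_zero_of_finite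
        have h2 : B.relIndex A = 2 := by omega
        have hcard : Nat.card A = 2 * Nat.card B := by
          have h3 := (B.subgroupOf A).card_mul_index
          rw [card_subgroupOf_of_le hBA] at h3
          have h4 : (B.subgroupOf A).index = 2 := h2
          rw [h4] at h3
          rw [← h3, mul_comm]
        have h5 := hall B a₀ hBA a₀.2 haB hcard
        intro g hg
        rw [mem_cent_zpowers]
        exact (Subgroup.mem_centralizer_iff.mp h5 g hg).symm
    rw [Subgroup.mem_centralizer_iff]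
    intro k hk
    exact (mem_cent_zpowers.mp (hKle hk)).symm

theorem key [Finite X] (M V : Subgroup X) (hV : Cfsg.IsElementaryAbelian 2 V)
    (hMV : M ≤ Subgroup.normalizer (V : Set X))
    (hfaith : M ⊓ Subgroup.centralizer (V : Set X) = ⊥)
    (hcon : Subgroup.centralizer (Cfsg.pPrimeCore 2 ↥M : Set ↥M) ≤ Cfsg.pPrimeCore 2 ↥M)
    (hno : ¬ Cfsg.Involves (Equiv.Perm (Fin 3)) ↥M) :
    ∀ n : ℕ, ∀ A : Subgroup X, A ≤ M → Cfsg.IsElementaryAbelian 2 A → Nat.card A ≤ n →
      Nat.card A ^ 2 * Nat.card ↥(V ⊓ Subgroup.centralizer (A : Set X)) ≤ Nat.card V := by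
  haveI : Fact (Nat.Prime 2) := ⟨Nat.prime_two⟩
  intro n
  induction n with
  | zero =>
    intro A _ _ h
    have := Nat.card_pos (α := A)
    omega
  | succ n ih =>
    intro A hAM hA hcard
    by_cases hAne : A = ⊥
    · subst hAne
      rw [Subgroup.card_bot, one_pow, one_mul]
      exact Subgroup.card_le_of_le inf_le_left
    have hKodd : ¬ 2 ∣ Nat.card (ffK 2 M) := by
      have h1 := ffK_coprime (p := 2) M
      intro h2
      have h3 := Nat.Coprime.eq_one_of_dvd h1.symm h2
      norm_num at h3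
    have hAK : A ≤ Subgroup.normalizer (ffK 2 M : Set X) := hAM.trans (ffK_normalized M)
    have hAp : IsPGroup 2 A := elemAb_isPGroup hA
    have hf : A ⊓ Subgroup.centralizer (ffK 2 M : Set X) = ⊥ := by
      apply eq_bot_of_pgroup_le_coprime (hAp.to_le inf_le_left) (ffK_coprime (p := 2) M)
      intro g hg
      exact ffK_self_cent M hcon (hAM hg.1) hg.2
    obtain ⟨B, a, hBA, haA, haB, hcardAB, hac⟩ := exists_hyperplane hA hAne hAK hKodd hf
    have hAeq := sup_zpowers_eq hBA haA haB hcardAB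
    have hBe : Cfsg.IsElementaryAbelian 2 B := elemAb_of_le hBA hA
    have hBpos : 0 < Nat.card B := Nat.card_pos
    have hBcard : Nat.card B ≤ n := by omega
    have ihB := ih B (hBA.trans hAM) hBe hBcard
    have haa : a * a = 1 := by rw [← pow_two]; exact hA.2 a haA
    have hAc : ∀ u ∈ A, ∀ v ∈ A, u * v = v * u := by
      intro u hu v hv
      haveI := hA.1
      exact congrArg Subtype.val (mul_comm' (⟨u, hu⟩ : A) ⟨v, hv⟩)
    have hAB : A ≤ Subgroup.centralizer (B : Set X) := by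
      intro u hu
      rw [Subgroup.mem_centralizer_iff]
      intro b hb
      exact hAc b (hBA hb) u hu
    have hCBN : Subgroup.centralizer (B : Set X) ≤
        Subgroup.normalizer ((Subgroup.centralizer (B : Set X) : Subgroup X) : Set X) :=
      le_normalizer_centralizer_of_le (Subgroup.centralizer_le_normalizer _)
    have haL : a ∈ Subgroup.normalizer
        ((ffK 2 M ⊓ Subgroup.centralizer (B : Set X) : Subgroup X) : Set X) :=
      le_normalizer_inf_of_le hAK (hAB.trans hCBN) haA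
    have hLodd : ¬ 2 ∣ Nat.card ↥(ffK 2 M ⊓ Subgroup.centralizer (B : Set X)) :=
      fun h => hKodd (h.trans (Subgroup.card_dvd_of_le inf_le_left))
    obtain ⟨x, hxL, r, hr, hr2, hxr, hinv⟩ := exists_inverted haa haL hac hLodd
    obtain ⟨hxK, hxCB⟩ := Subgroup.mem_inf.mp hxL
    have hxM : x ∈ M := ffK_le M hxK
    have haM : a ∈ M := hAM haA
    by_cases hr3 : r = 3
    · exact absurd (s3_involved haM hxM haa (hr3 ▸ hxr) hinv) hno
    have hxU : x ∈ Subgroup.normalizer
        ((V ⊓ Subgroup.centralizer (B : Set X) : Subgroup X) : Set X) := by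
      have h1 : Subgroup.zpowers x ≤ Subgroup.normalizer
          ((V ⊓ Subgroup.centralizer (B : Set X) : Subgroup X) : Set X) :=
        le_normalizer_inf_of_le (Subgroup.zpowers_le.mpr (hMV hxM))
          (Subgroup.zpowers_le.mpr (hCBN hxCB))
      exact h1 (Subgroup.mem_zpowers x)
    have hUe : Cfsg.IsElementaryAbelian 2 (V ⊓ Subgroup.centralizer (B : Set X)) :=
      elemAb_of_le inf_le_left hV
    have hx1 : x ≠ 1 := by
      rintro rfl
      rw [orderOf_one] at hxr
      exact hr.one_lt.ne' hxr.symm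
    have hxcU : x ∉ Subgroup.centralizer
        ((V ⊓ Subgroup.centralizer (B : Set X) : Subgroup X) : Set X) := by
      intro hx
      have hQ : (Nat.card (Subgroup.zpowers x)).Coprime 2 := by
        rw [Nat.card_zpowers, hxr, Nat.coprime_primes hr Nat.prime_two]
        exact hr2
      have hPQ : B ≤ Subgroup.centralizer ((Subgroup.zpowers x : Subgroup X) : Set X) := by
        intro b hb
        rw [mem_cent_zpowers]
        exact (Subgroup.mem_centralizer_iff.mp hxCB b hb).symm
      have hC : V ⊓ Subgroup.centralizer (B : Set X) ≤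
          Subgroup.centralizer ((Subgroup.zpowers x : Subgroup X) : Set X) := by
        intro u hu
        rw [mem_cent_zpowers]
        exact (Subgroup.mem_centralizer_iff.mp hx u hu).symm
      have h28 := Cfsg.Agent.S0028.result 2 B (Subgroup.zpowers x) V (hAp.to_le hBA) hQ
        (elemAb_isPGroup hV) hPQ ((hBA.trans hAM).trans hMV)
        (Subgroup.zpowers_le.mpr (hMV hxM)) hC
      have h1 : x ∈ M ⊓ Subgroup.centralizer (V : Set X) :=
        ⟨hxM, h28 (Subgroup.mem_zpowers x)⟩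
      rw [hfaith, Subgroup.mem_bot] at h1
      exact hx1 h1
    have hdb := dihedral_bound hUe haa hxU hr hr2 hr3 hxr hinv hxcU
    have hcent : V ⊓ Subgroup.centralizer (A : Set X) =
        (V ⊓ Subgroup.centralizer (B : Set X)) ⊓
          Subgroup.centralizer ((Subgroup.zpowers a : Subgroup X) : Set X) := by
      conv_lhs => rw [hAeq]
      rw [centralizer_sup_eq, inf_assoc]
    rw [hcent, hcardAB]
    calc (2 * Nat.card B) ^ 2 * Nat.card ↥((V ⊓ Subgroup.centralizer (B : Set X)) ⊓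
          Subgroup.centralizer ((Subgroup.zpowers a : Subgroup X) : Set X))
        = Nat.card B ^ 2 * (4 * Nat.card ↥((V ⊓ Subgroup.centralizer (B : Set X)) ⊓
          Subgroup.centralizer ((Subgroup.zpowers a : Subgroup X) : Set X))) := by ring
      _ ≤ Nat.card B ^ 2 * Nat.card ↥(V ⊓ Subgroup.centralizer (B : Set X)) :=
        Nat.mul_le_mul_left _ hdb
      _ ≤ Nat.card V := ihB

theorem result {X : Type*} [Group X] [Finite X] (M V : Subgroup X) (hV : Cfsg.IsElementaryAbelian 2 V) (hMV : M ≤ Subgroup.normalizer (V : Set X)) (hfaith : M ⊓ Subgroup.centralizer (V : Set X) = ⊥) (hcon : Subgroup.centralizer (Cfsg.pPrimeCore 2 ↥M : Set ↥M) ≤ Cfsg.pPrimeCore 2 ↥M) (A : Subgroup X) (hAM : A ≤ M) (hA : Cfsg.IsElementaryAbelian 2 A) (hsmall : (V ⊓ Subgroup.centralizer (A : Set X)).relIndex V < Nat.card A ^ 2) : Cfsg.Involves (Equiv.Perm (Fin 3)) ↥M := by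
  by_contra hno
  have h1 := key M V hV hMV hfaith hcon hno (Nat.card A) A hAM hA le_rfl
  have h2 := ((V ⊓ Subgroup.centralizer (A : Set X)).subgroupOf V).card_mul_index
  rw [card_subgroupOf_of_le inf_le_left] at h2
  have h3 : ((V ⊓ Subgroup.centralizer (A : Set X)).subgroupOf V).index =
      (V ⊓ Subgroup.centralizer (A : Set X)).relIndex V := rfl
  rw [h3] at h2
  have hpos : 0 < Nat.card ↥(V ⊓ Subgroup.centralizer (A : Set X)) := Nat.card_pos
  rw [← h2] at h1
  have h4 : Nat.card A ^ 2 ≤ (V ⊓ Subgroup.centralizer (A : Set X)).relIndex V := by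
    have h5 : Nat.card A ^ 2 * Nat.card ↥(V ⊓ Subgroup.centralizer (A : Set X)) ≤
        (V ⊓ Subgroup.centralizer (A : Set X)).relIndex V *
          Nat.card ↥(V ⊓ Subgroup.centralizer (A : Set X)) := by
      rw [mul_comm ((V ⊓ Subgroup.centralizer (A : Set X)).relIndex V)]
      exact h1
    exact Nat.le_of_mul_le_mul_right h5 hpos
  omega

end Cfsg.Agent.S3755
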