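import Cfsg.Statements.S0955
import Cfsg.Agent.Lib.helper7.BlockFirstMain
import Cfsg.Agent.Lib.Helper25.PCoreBlocks
import Cfsg.Agent.Lib.Helper1.Cores

set_option autoImplicit false
open Cfsg

namespace Cfsg.Agent.S0955


open Cfsg.Agent.Lib.helper7

/-- Let D be a defect group of a block of the finite group G relative to a maximal ideal M of the algebraic integers containing the prime p. Then D is the largest normal p-subgroup of its own normalizer: O_p(N_G(D)) = D. -/
theorem result {G : Type*} [Group G] [Finite G] (p : ℕ) [Fact p.Prime] (M : Ideal Cfsg.AlgInt) (hM : Cfsg.IsPModular p M) (B : Set (Cfsg.IrrCharacter G)) (hB : Cfsg.IsPBlock M B) (D : Subgroup G) (hD : Cfsg.IsDefectGroup p M B D) : (Cfsg.pCore p (Subgroup.normalizer (D : Set G))).map (Subgroup.normalizer (D : Set G)).subtype = D := by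
  classical
  haveI : Fintype G := Fintype.ofFinite _
  haveI : Fintype (Cfsg.IrrCharacter G) := Fintype.ofFinite _
  have hDp : IsPGroup p D := by
    obtain ⟨g, hg, Q, rfl⟩ := hD
    exact Q.isPGroup'.map _
  obtain ⟨b, hb1, hb2, hb3⟩ := h7_first_main_exists hM D hDp B hB hD
  have h1 := Cfsg.Agent.Lib.Helper25.an_pCore_le_defectGroup p M hM b hb1 _ hb2
  have h2 : D.subgroupOf (Subgroup.normalizer (D : Set G)) ≤
      Cfsg.pCore p (Subgroup.normalizer (D : Set G)) :=
    Cfsg.Agent.Lib.Helper1.le_pCore Subgroup.normal_in_normalizer hDp.comap_subtype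
  rw [le_antisymm h1 h2]
  exact Subgroup.map_subgroupOf_eq_of_le Subgroup.le_normalizer

end Cfsg.Agent.S0955
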