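import Cfsg.Statements.S2544

import Cfsg.Agent.Lib.helper15.StbSt2
import Cfsg.Agent.Lib.helper15.StbSt3
import Cfsg.Agent.Lib.Helper25.CharQuot
import Cfsg.Agent.Lib.helper2.CharInt
import Cfsg.Agent.S0139
set_option autoImplicit false
open Cfsg

namespace Cfsg.Agent.S2544


open Cfsg.Agent.Lib.helper15.StbSt Cfsg.Agent.Lib.Helper25

theorem irreducible_comp_surj {H G : Type*} [Group H] [Group G] {V : Type*} [AddCommGroup V] [Module ℂ V]
    (f : H →* G) (hf : Function.Surjective f) (ρ : Representation ℂ G V) [ρ.IsIrreducible] :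
    Representation.IsIrreducible (MonoidHom.comp ρ f : Representation ℂ H V) := by
  let σ : Representation ℂ H V := MonoidHom.comp ρ f
  have hσ : ∀ h : H, σ h = ρ (f h) := fun h => rfl
  let e : Subrepresentation ρ ≃o Subrepresentation σ :=
    { toFun := fun S => ⟨S.toSubmodule, by
        intro h v hv
        rw [hσ]
        exact S.apply_mem_toSubmodule (f h) hv⟩
      invFun := fun S => ⟨S.toSubmodule, by
        intro g v hv
        obtain ⟨h, rfl⟩ := hf g
        rw [← hσ]
        exact S.apply_mem_toSubmodule h hv⟩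
      left_inv := fun S => rfl
      right_inv := fun S => rfl
      map_rel_iff' := Iff.rfl }
  exact e.isSimpleOrder_iff.mp ‹ρ.IsIrreducible›

theorem sylow_card_of_ppart {G : Type*} [Group G] [Finite G] (p : ℕ) [Fact p.Prime] (a m : ℕ)
    (h : Nat.card G = p ^ a * m) (hm : ¬ p ∣ m) (P : Sylow p G) : Nat.card P = p ^ a := by
  have hp : p.Prime := Fact.out
  rw [Sylow.card_eq_multiplicity, h]
  have hm0 : m ≠ 0 := fun h0 => hm (h0 ▸ dvd_zero p)
  rw [Nat.factorization_mul (pow_ne_zero _ hp.ne_zero) hm0]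
  simp [hp.factorization_pow, Nat.factorization_eq_zero_of_not_dvd hm]

theorem fpc_central {G : Type*} [Group G] (H : Subgroup G) (z : G) (hz : z ∈ Subgroup.center G)
    (hzH : z ∈ H) : Cfsg.fixedPointCharacter H z = Cfsg.fixedPointCharacter H 1 := by
  unfold Cfsg.fixedPointCharacter
  congr 1
  have h1 : MulAction.fixedBy (G ⧸ H) z = Set.univ := by
    ext x
    simp only [MulAction.mem_fixedBy, Set.mem_univ, iff_true]
    induction x using QuotientGroup.induction_on with
    | H a =>
      rw [MulAction.Quotient.smul_coe, smul_eq_mul, QuotientGroup.eq]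
      have : (z * a)⁻¹ * a = z⁻¹ := by
        have hc : a * z = z * a := (Subgroup.mem_center_iff.mp hz a)
        rw [← hc]
        group
      rw [this]
      exact H.inv_mem hzH
  have h2 : MulAction.fixedBy (G ⧸ H) (1 : G) = Set.univ := by
    ext x
    simp
  rw [h1, h2]

theorem st_central {F : Type*} [Field F] {n : ℕ} (ν : Fin n → ℕ) (z : GL (Fin n) F)
    (hz : z ∈ Subgroup.center (GL (Fin n) F)) (hzP : ∀ μ : Fin n → ℕ, z ∈ Cfsg.parabolicGL n F μ) :
    Cfsg.unipotentCharacterGL n F ν z = Cfsg.unipotentCharacterGL n F ν 1 := by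
  unfold Cfsg.unipotentCharacterGL
  apply Finset.sum_congr rfl
  intro κ _
  split_ifs
  · rw [fpc_central _ z hz (hzP _)]
  · rfl

theorem toGL_center {F : Type*} [Field F] {n : ℕ} (z : Matrix.SpecialLinearGroup (Fin n) F)
    (hz : z ∈ Subgroup.center (Matrix.SpecialLinearGroup (Fin n) F)) :
    (Matrix.SpecialLinearGroup.toGL z) ∈ Subgroup.center (GL (Fin n) F) ∧
      ∀ μ : Fin n → ℕ, (Matrix.SpecialLinearGroup.toGL z) ∈ Cfsg.parabolicGL n F μ := by
  obtain ⟨r, _, hr⟩ := Matrix.SpecialLinearGroup.mem_center_iff.mp hz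
  have hval : ((Matrix.SpecialLinearGroup.toGL z : GL (Fin n) F) : Matrix (Fin n) (Fin n) F) =
      Matrix.scalar (Fin n) r := by
    rw [hr]
    rfl
  constructor
  · rw [Subgroup.mem_center_iff]
    intro g
    apply Units.ext
    rw [Units.val_mul, Units.val_mul, hval]
    exact (Matrix.scalar_commute (n := Fin n) r (Commute.all r) (g : Matrix (Fin n) (Fin n) F)).symm
  · intro μ
    show ((Matrix.SpecialLinearGroup.toGL z : GL (Fin n) F) : Matrix (Fin n) (Fin n) F).BlockTriangular
      (Cfsg.compLabel μ)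
    rw [hval]
    exact Matrix.blockTriangular_diagonal _

/-- Let F be a finite field of characteristic p and consider the projective special linear group PSL_n(F) with n ≥ 2. This group has an irreducible complex character χ whose degree equals the order of a Sylow p-subgroup (namely q^(n(n−1)/2) when #F = q) and whose restriction to any Sylow p-subgroup P is the regular character of P: χ vanishes on the non-identity elements of P. (This is the Steinberg character.) -/
theorem result {F : Type*} [Field F] [Fintype F] (p : ℕ) [Fact p.Prime] [CharP F p] (n : ℕ) (hn : 2 ≤ n) : ∃ χ : Matrix.ProjectiveSpecialLinearGroup (Fin n) F → ℂ, Cfsg.IsIrrCharacter (Matrix.ProjectiveSpecialLinearGroup (Fin n) F) χ ∧ ∀ P : Sylow p (Matrix.ProjectiveSpecialLinearGroup (Fin n) F), χ 1 = Nat.card P ∧ ∀ x : Matrix.ProjectiveSpecialLinearGroup (Fin n) F, x ∈ P → x ≠ 1 → χ x = 0 := by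
  classical
  have hp : p.Prime := Fact.out
  have : Fintype (GL (Fin n) F) := Fintype.ofFinite _
  set St : GL (Fin n) F → ℂ := Cfsg.unipotentCharacterGL n F (fun _ => 1) with hStdef
  have hSt : Cfsg.IsIrrCharacter (GL (Fin n) F) St :=
    Cfsg.Agent.S2421.result (F := F) (fun _ : Fin n => 1) monotone_const (by simp)
  have hvan : ∀ y : GL (Fin n) F, p ∣ orderOf y → St y = 0 := fun y hy => steinberg_vanish p n y hy
  set N : Subgroup (GL (Fin n) F) := (Matrix.GeneralLinearGroup.det : GL (Fin n) F →* Fˣ).ker with hNdef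
  have hNn : N.Normal := MonoidHom.normal_ker _
  obtain ⟨f, hf⟩ : ∃ f : ℕ, Fintype.card F = p ^ f := by
    obtain ⟨k, _, hk⟩ := FiniteField.card F p
    exact ⟨k, hk⟩
  obtain ⟨m, hm, hpm⟩ := card_GL_ppart (F := F) p n
  set a : ℕ := f * (n * (n - 1) / 2) with ha
  have hqa : Fintype.card F ^ (n * (n - 1) / 2) = p ^ a := by
    rw [hf, ← pow_mul]
  have hG : Nat.card (GL (Fin n) F) = p ^ a * m := by
    rw [hm, hqa]
  have hidx : N.index ∣ Fintype.card F - 1 := by
    rw [hNdef, Subgroup.index_ker]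
    have := Subgroup.card_subgroup_dvd_card (Matrix.GeneralLinearGroup.det : GL (Fin n) F →* Fˣ).range
    rwa [Nat.card_eq_fintype_card (α := Fˣ), Fintype.card_units] at this
  have hpidx : ¬ p ∣ N.index := by
    intro h
    have h1 := dvd_trans h hidx
    have h2 := char_dvd_card (F := F) p
    have h3 : 1 ≤ Fintype.card F := Fintype.card_pos
    have h4 : p ∣ 1 := by
      have := Nat.dvd_sub h2 h1
      rwa [Nat.sub_sub_self h3] at this
    exact hp.one_lt.ne' (Nat.dvd_one.mp h4)
  have hNcard : ∃ m' : ℕ, Nat.card N = p ^ a * m' ∧ ¬ p ∣ m' := by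
    have h1 : Nat.card N * N.index = Nat.card (GL (Fin n) F) := Subgroup.card_mul_index N
    have hcop : Nat.Coprime (p ^ a) N.index :=
      Nat.Coprime.pow_left _ ((Nat.Prime.coprime_iff_not_dvd hp).mpr hpidx)
    have hdvd : p ^ a ∣ Nat.card N := by
      apply hcop.dvd_of_dvd_mul_right
      rw [h1, hG]
      exact dvd_mul_right _ _
    obtain ⟨m', hm'⟩ := hdvd
    refine ⟨m', hm', ?_⟩
    intro hpm'
    apply hpm
    have h2 : p ^ a * (m' * N.index) = p ^ a * m := by
      rw [← mul_assoc, ← hm', h1, hG]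
    have h3 := Nat.eq_of_mul_eq_mul_left (pow_pos hp.pos _) h2
    rw [← h3]
    exact dvd_mul_of_dvd_left hpm' _
  obtain ⟨m', hNc, hpm'⟩ := hNcard
  obtain P : Sylow p N := default
  have hPc : Nat.card (P : Subgroup N) = p ^ a := sylow_card_of_ppart p a m' hNc hpm' P
  have hSt1 : St 1 = ((p ^ a : ℕ) : ℂ) := by
    rw [hStdef, steinberg_degree, ← hqa]
    push_cast
    rfl
  have hdeg : St 1 = (Nat.card (P : Subgroup N) : ℂ) := by
    rw [hPc, hSt1]
  obtain ⟨d, ρ, hρ, hρχ⟩ := restrict_irr_of_sylow_regular N p St hSt hvan P hdeg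
  have := hρ
  have hmemN : ∀ s : Matrix.SpecialLinearGroup (Fin n) F, Matrix.SpecialLinearGroup.toGL s ∈ N := by
    intro s
    rw [hNdef, MonoidHom.mem_ker]
    apply Units.ext
    rw [Matrix.GeneralLinearGroup.val_det_apply]
    show (s : Matrix (Fin n) (Fin n) F).det = 1
    exact s.2
  let ι : Matrix.SpecialLinearGroup (Fin n) F →* N :=
    (Matrix.SpecialLinearGroup.toGL).codRestrict N hmemN
  have hιval : ∀ s, ((ι s : N) : GL (Fin n) F) = Matrix.SpecialLinearGroup.toGL s := fun s => rfl
  have hιsurj : Function.Surjective ι := by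
    intro x
    have hx : (Matrix.GeneralLinearGroup.det : GL (Fin n) F →* Fˣ) (x : GL (Fin n) F) = 1 := x.2
    have hdet : ((x : GL (Fin n) F) : Matrix (Fin n) (Fin n) F).det = 1 := by
      have := congrArg Units.val hx
      rwa [Matrix.GeneralLinearGroup.val_det_apply] at this
    refine ⟨⟨((x : GL (Fin n) F) : Matrix (Fin n) (Fin n) F), hdet⟩, ?_⟩
    apply Subtype.ext
    apply Units.ext
    rfl
  let ρS : Representation ℂ (Matrix.SpecialLinearGroup (Fin n) F) (Fin d → ℂ) := MonoidHom.comp ρ ι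
  have hρS : ρS.IsIrreducible := irreducible_comp_surj ι hιsurj ρ
  have := hρS
  have hchar : ∀ s : Matrix.SpecialLinearGroup (Fin n) F,
      ρS.character s = St (Matrix.SpecialLinearGroup.toGL s) := by
    intro s
    show ρ.character (ι s) = _
    rw [hρχ]
    rfl
  have hK : Subgroup.center (Matrix.SpecialLinearGroup (Fin n) F) ≤ MonoidHom.ker ρS := by
    intro z hz
    rw [MonoidHom.mem_ker]
    obtain ⟨hzc, hzP⟩ := toGL_center z hz
    have h1 : ρS.character z = (Module.finrank ℂ (Fin d → ℂ) : ℂ) := by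
      rw [← Representation.char_one ρS, hchar, hchar, map_one]
      exact st_central _ _ hzc hzP
    exact (Cfsg.Agent.S0139.result ρS z).mp h1
  let σ : Representation ℂ (Matrix.ProjectiveSpecialLinearGroup (Fin n) F) (Fin d → ℂ) :=
    QuotientGroup.lift (Subgroup.center (Matrix.SpecialLinearGroup (Fin n) F)) ρS hK
  have hσ : σ.IsIrreducible := quotient_irreducible ρS _ hK
  have hσirr : Cfsg.IsIrrCharacter (Matrix.ProjectiveSpecialLinearGroup (Fin n) F) σ.character :=
    ⟨d, σ, hσ, rfl⟩
  have hσchar : ∀ s : Matrix.SpecialLinearGroup (Fin n) F,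
      σ.character (QuotientGroup.mk s : Matrix.ProjectiveSpecialLinearGroup (Fin n) F) =
        St (Matrix.SpecialLinearGroup.toGL s) := by
    intro s
    rw [← hchar]
    rfl
  have hvanQ : ∀ x : Matrix.ProjectiveSpecialLinearGroup (Fin n) F, p ∣ orderOf x → σ.character x = 0 := by
    intro x hx
    obtain ⟨s, rfl⟩ := QuotientGroup.mk_surjective x
    rw [hσchar]
    apply hvan
    have h1 : orderOf (QuotientGroup.mk' (Subgroup.center (Matrix.SpecialLinearGroup (Fin n) F)) s) ∣ orderOf s :=
      orderOf_map_dvd _ s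
    have h2 : orderOf (Matrix.SpecialLinearGroup.toGL s) = orderOf s :=
      orderOf_injective _ Matrix.SpecialLinearGroup.toGL_injective s
    rw [h2]
    exact dvd_trans hx h1
  have h1Q : σ.character 1 = ((p ^ a : ℕ) : ℂ) := by
    have := hσchar 1
    rw [map_one] at this
    rw [← hSt1, ← this]
    rfl
  refine ⟨σ.character, hσirr, ?_⟩
  intro Q
  have hQvan : ∀ x : Matrix.ProjectiveSpecialLinearGroup (Fin n) F, x ∈ Q → x ≠ 1 → σ.character x = 0 := by
    intro x hxQ hx1
    apply hvanQ
    have hx1' : (⟨x, hxQ⟩ : (Q : Subgroup (Matrix.ProjectiveSpecialLinearGroup (Fin n) F))) ≠ 1 := by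
      intro h
      exact hx1 (congrArg Subtype.val h)
    exact dvd_orderOf_of_mem_pgroup p (Q : Subgroup _) Q.isPGroup' ⟨x, hxQ⟩ hx1'
  refine ⟨?_, hQvan⟩
  have : Fintype (Q : Subgroup (Matrix.ProjectiveSpecialLinearGroup (Fin n) F)) := Fintype.ofFinite _
  obtain ⟨k, hk⟩ := sum_subgroup_irr (Q : Subgroup (Matrix.ProjectiveSpecialLinearGroup (Fin n) F))
    (⟨σ.character, hσirr⟩ : Cfsg.IrrCharacter (Matrix.ProjectiveSpecialLinearGroup (Fin n) F))
  have hsumQ : ∑ x : (Q : Subgroup (Matrix.ProjectiveSpecialLinearGroup (Fin n) F)),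
      σ.character (x : Matrix.ProjectiveSpecialLinearGroup (Fin n) F) = σ.character 1 := by
    rw [Finset.sum_eq_single (1 : (Q : Subgroup (Matrix.ProjectiveSpecialLinearGroup (Fin n) F)))]
    · rfl
    · intro x _ hx
      apply hQvan _ x.2
      intro h
      exact hx (Subtype.ext h)
    · intro h
      exact absurd (Finset.mem_univ _) h
  have hdvd1 : Nat.card (Q : Subgroup (Matrix.ProjectiveSpecialLinearGroup (Fin n) F)) ∣ p ^ a := by
    have h3 : ((p ^ a : ℕ) : ℂ) =
        ((Nat.card (Q : Subgroup (Matrix.ProjectiveSpecialLinearGroup (Fin n) F)) * k : ℕ) : ℂ) := by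
      rw [← h1Q, ← hsumQ]
      push_cast
      exact hk
    have h4 : p ^ a = Nat.card (Q : Subgroup (Matrix.ProjectiveSpecialLinearGroup (Fin n) F)) * k := by
      exact_mod_cast h3
    exact ⟨k, h4⟩
  have hdvd2 : p ^ a ∣ Nat.card (Q : Subgroup (Matrix.ProjectiveSpecialLinearGroup (Fin n) F)) := by
    obtain ⟨n', _, hn1, hn2⟩ := Cfsg.Agent.Lib.helper2.irr_degree_dvd_card
      (⟨σ.character, hσirr⟩ : Cfsg.IrrCharacter (Matrix.ProjectiveSpecialLinearGroup (Fin n) F))
    have hn' : n' = p ^ a := by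
      have : ((n' : ℕ) : ℂ) = ((p ^ a : ℕ) : ℂ) := by
        rw [← hn1]
        exact h1Q
      exact_mod_cast this
    rw [hn'] at hn2
    rw [Sylow.card_eq_multiplicity]
    apply pow_dvd_pow
    exact (hp.pow_dvd_iff_le_factorization Nat.card_pos.ne').mp hn2
  rw [h1Q]
  congr 1
  exact Nat.dvd_antisymm hdvd2 hdvd1

end Cfsg.Agent.S2544
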