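import Cfsg.Statements.S0190
import Mathlib
import Cfsg.Prelude.Def_Characters
import Cfsg.Agent.Lib.helper7.Induction

set_option autoImplicit false
open Cfsg

namespace Cfsg.Agent.S0190

open Cfsg.Agent.Lib.helper7



/-- For a transitive action of a finite group on X, the permutation character g ↦ (number of fixed points of g) is the function induced from the principal character of the stabilizer of any point. -/
theorem result {G : Type*} [Group G] [Fintype G] (X : Type*) [MulAction G X] [Finite X] [MulAction.IsPretransitive G X] (x : X) : (fun g : G => (Nat.card (MulAction.fixedBy X g) : ℂ)) = Cfsg.indFun (MulAction.stabilizer G x) (fun _ => 1) := by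
  classical
  have : Fintype X := Fintype.ofFinite X
  funext g
  unfold Cfsg.indFun
  have hSne : (Nat.card (MulAction.stabilizer G x) : ℂ) ≠ 0 := by
    exact_mod_cast (Nat.card_pos (α := MulAction.stabilizer G x)).ne'
  have hext : ∀ y : G, Cfsg.extendByZero (MulAction.stabilizer G x) (fun _ => (1:ℂ)) (y⁻¹ * g * y)
      = if g • (y • x) = y • x then 1 else 0 := by
    intro y
    by_cases h : g • (y • x) = y • x
    · rw [if_pos h, h7_extendByZero_mem]
      rw [MulAction.mem_stabilizer_iff, mul_smul, mul_smul, h, inv_smul_smul]
    · rw [if_neg h, h7_extendByZero_not_mem]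
      intro h2
      apply h
      rw [MulAction.mem_stabilizer_iff, mul_smul, mul_smul, inv_smul_eq_iff] at h2
      exact h2
  simp_rw [hext]
  -- fiberwise
  have hfib : ∀ z : X, (Finset.univ.filter (fun y : G => y • x = z)).card = Nat.card (MulAction.stabilizer G x) := by
    intro z
    obtain ⟨y₀, hy₀⟩ := MulAction.exists_smul_eq G x z
    rw [Nat.card_eq_fintype_card, ← Finset.card_univ]
    symm
    refine Finset.card_bij (fun s _ => y₀ * (s : G)) ?_ ?_ ?_
    · intro s _
      simp only [Finset.mem_filter, Finset.mem_univ, true_and]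
      rw [mul_smul, MulAction.mem_stabilizer_iff.mp s.2, hy₀]
    · intro s _ t _ hst
      exact Subtype.ext (mul_left_cancel hst)
    · intro y hy
      simp only [Finset.mem_filter, Finset.mem_univ, true_and] at hy
      refine ⟨⟨y₀⁻¹ * y, ?_⟩, Finset.mem_univ _, ?_⟩
      · rw [MulAction.mem_stabilizer_iff, mul_smul, hy, ← hy₀, inv_smul_smul]
      · simp
  have h1 : ∑ y : G, (if g • (y • x) = y • x then (1:ℂ) else 0)
      = ∑ z : X, ∑ y ∈ Finset.univ.filter (fun y : G => y • x = z), (if g • z = z then (1:ℂ) else 0) := by
    rw [← Finset.sum_fiberwise (s := Finset.univ) (g := fun y : G => y • x)]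
    refine Finset.sum_congr rfl fun z _ => ?_
    refine Finset.sum_congr rfl fun y hy => ?_
    simp only [Finset.mem_filter, Finset.mem_univ, true_and] at hy
    rw [hy]
  rw [h1]
  simp_rw [Finset.sum_const, hfib, nsmul_eq_mul]
  rw [← Finset.mul_sum, ← mul_assoc, inv_mul_cancel₀ hSne, one_mul]
  rw [Finset.sum_ite, Finset.sum_const_zero, add_zero, Finset.sum_const, nsmul_eq_mul, mul_one]
  congr 1
  rw [Nat.card_eq_fintype_card, Fintype.card_subtype]
  congr 1

end Cfsg.Agent.S0190
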