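import Cfsg.Statements.S0157
import Mathlib
import Cfsg.Prelude.Def_Characters
import Cfsg.Agent.Lib.helper2.CharInd
import Cfsg.Agent.Lib.helper7.CharTools
import Cfsg.Agent.Lib.Helper25.CharLinear
import Cfsg.Agent.S0190

set_option autoImplicit false
open Cfsg

namespace Cfsg.Agent.S0157

open Cfsg.Agent.Lib.helper2 Cfsg.Agent.Lib.Helper25 Cfsg.Agent.Lib.helper7
open scoped ComplexConjugate

/-- fixed points of `g` on pairs of distinct points -/
noncomputable def fixEmbEquiv {G : Type*} [Group G] (X : Type*) [MulAction G X] (g : G) :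
    MulAction.fixedBy (Fin 2 ↪ X) g ≃ (Fin 2 ↪ MulAction.fixedBy X g) where
  toFun e := ⟨fun i => ⟨e.1 i, by
      have h := e.2
      rw [MulAction.mem_fixedBy] at h ⊢
      have := congrArg (fun f : Fin 2 ↪ X => f i) h
      simpa using this⟩, by
    intro i j hij
    apply e.1.injective
    exact congrArg Subtype.val hij⟩
  invFun e := ⟨e.trans (Function.Embedding.subtype _), by
    rw [MulAction.mem_fixedBy]
    ext i
    have := (e i).2
    rw [MulAction.mem_fixedBy] at this
    simpa using this⟩
  left_inv e := by
    apply Subtype.ext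
    ext i
    rfl
  right_inv e := by
    ext i
    rfl



/-- For a transitive action of a finite group on a finite set with at least two points: the action is 2-transitive if and only if the function sending g to (number of fixed points of g) − 1 is an irreducible character. -/
theorem result {G : Type*} [Group G] [Finite G] (X : Type*) [MulAction G X] [Finite X] [MulAction.IsPretransitive G X] (hX : 2 ≤ Nat.card X) : Cfsg.IsIrrCharacter G (fun g => (Nat.card (MulAction.fixedBy X g) : ℂ) - 1) ↔ MulAction.IsMultiplyPretransitive G X 2 := by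
  classical
  have : Fintype G := Fintype.ofFinite G
  have : Fintype X := Fintype.ofFinite X
  have hXne : Nonempty X := by
    rw [← Fintype.card_pos_iff, ← Nat.card_eq_fintype_card]; omega
  obtain ⟨x₀⟩ := hXne
  have hYne : Nonempty (Fin 2 ↪ X) := by
    rw [← Fintype.card_pos_iff, Fintype.card_embedding_eq, Fintype.card_fin, ← Nat.card_eq_fintype_card]
    exact Nat.descFactorial_pos.mpr hX
  -- f g = number of fixed points
  set f : G → ℕ := fun g => Nat.card (MulAction.fixedBy X g) with hf
  have hfcard : ∀ g, f g = Fintype.card (MulAction.fixedBy X g) := fun g => Nat.card_eq_fintype_card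
  -- Burnside for X
  have hB1 : ∑ g : G, f g = Fintype.card G := by
    have h := MulAction.sum_card_fixedBy_eq_card_orbits_mul_card_group G X
    have hu : Fintype.card (Quotient (MulAction.orbitRel G X)) = 1 := by
      have : Nonempty X := ⟨x₀⟩
      obtain ⟨u⟩ := (MulAction.pretransitive_iff_unique_quotient_of_nonempty G X).mp inferInstance
      exact Fintype.card_eq_one_iff_nonempty_unique.mpr ⟨u⟩
    rw [hu, one_mul] at h
    rw [← h]
    exact Finset.sum_congr rfl fun g _ => hfcard g
  -- Burnside for pairs
  set r := Fintype.card (Quotient (MulAction.orbitRel G (Fin 2 ↪ X))) with hr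
  have hB2 : ∑ g : G, f g * (f g - 1) = r * Fintype.card G := by
    have h := MulAction.sum_card_fixedBy_eq_card_orbits_mul_card_group G (Fin 2 ↪ X)
    rw [← h]
    refine Finset.sum_congr rfl fun g _ => ?_
    rw [Fintype.card_congr (fixEmbEquiv X g), Fintype.card_embedding_eq, Fintype.card_fin, ← hfcard g]
    simp [Nat.descFactorial]
    ring
  have hB3 : ∑ g : G, (f g) ^ 2 = (r + 1) * Fintype.card G := by
    have : ∀ g, (f g) ^ 2 = f g * (f g - 1) + f g := by
      intro g
      rcases Nat.eq_zero_or_pos (f g) with h0 | hpos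
      · rw [h0]; rfl
      · obtain ⟨k, hk⟩ := Nat.exists_eq_succ_of_ne_zero hpos.ne'
        rw [hk]; simp; ring
    simp_rw [this]
    rw [Finset.sum_add_distrib, hB1, hB2]; ring
  have hcardG : (Nat.card G : ℂ) = (Fintype.card G : ℂ) := by rw [Nat.card_eq_fintype_card]
  have hGne : (Fintype.card G : ℂ) ≠ 0 := by exact_mod_cast Fintype.card_ne_zero
  -- norm of θ
  have hnorm : Cfsg.classInner (fun g : G => (f g : ℂ) - 1) (fun g : G => (f g : ℂ) - 1) = (r : ℂ) := by
    unfold Cfsg.classInner
    have h1 : ∀ g : G, ((f g : ℂ) - 1) * conj ((f g : ℂ) - 1) = ((f g) ^ 2 : ℕ) - 2 * (f g : ℕ) + 1 := by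
      intro g
      rw [map_sub, Complex.conj_natCast, map_one]
      push_cast; ring
    simp_rw [h1]
    rw [Finset.sum_add_distrib, Finset.sum_sub_distrib, ← Finset.mul_sum, ← Nat.cast_sum, ← Nat.cast_sum, hB1, hB3, hcardG]
    simp only [Finset.sum_const, Finset.card_univ, nsmul_eq_mul, mul_one]
    push_cast
    field_simp
    ring
  -- θ is a character
  have hπ : Cfsg.IsCharacter G (fun g : G => (f g : ℂ)) := by
    have h := Cfsg.Agent.S0190.result (G := G) X x₀
    have h' : (fun g : G => (f g : ℂ)) = Cfsg.indFun (MulAction.stabilizer G x₀) (fun _ => 1) := h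
    rw [h']
    exact isCharacter_indFun _ _ (isCharacter_of_irr (trivIrr _))
  have hπ1 : Cfsg.classInner (fun g : G => (f g : ℂ)) (fun _ : G => (1 : ℂ)) = 1 := by
    unfold Cfsg.classInner
    simp only [map_one, mul_one]
    rw [← Nat.cast_sum, hB1, hcardG, inv_mul_cancel₀ hGne]
  have hθ : Cfsg.IsCharacter G (fun g : G => (f g : ℂ) - 1) := by
    obtain ⟨Δ, hΔ, hsplit⟩ := h7_char_split hπ (fun _ : G => (1 : ℂ)) (trivIrr G).2 (by rw [hπ1]; exact one_ne_zero)
    have : (fun g : G => (f g : ℂ) - 1) = Δ := by
      funext g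
      have := congrFun hsplit g
      simp only [Pi.add_apply] at this
      rw [this]; ring
    rw [this]; exact hΔ
  show Cfsg.IsIrrCharacter G (fun g => (f g : ℂ) - 1) ↔ MulAction.IsPretransitive G (Fin 2 ↪ X)
  rw [MulAction.pretransitive_iff_unique_quotient_of_nonempty, ← Fintype.card_eq_one_iff_nonempty_unique]
  constructor
  · intro hirr
    have h1 := h7_irr_norm hirr
    rw [hnorm] at h1
    have : r = 1 := by exact_mod_cast h1
    exact this
  · intro hr1
    apply h7_irr_of_norm_one hθ
    rw [hnorm]
    have : r = 1 := hr1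
    rw [this]; simp

end Cfsg.Agent.S0157
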