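import Cfsg.Statements.S0881
import Cfsg.Statements.S0881
import Cfsg.Agent.Lib.helper2.Zass2

set_option autoImplicit false
open Cfsg

namespace Cfsg.Agent.S0881

open Cfsg
open scoped ComplexConjugate
open Cfsg.Agent.Lib.helper2 Cfsg.Agent.Lib.helper7 Cfsg.Agent.Lib.Helper25



/-- Let G be a finite simple Zassenhaus group on Ω with n points, a ≠ b points with two-point stabilizer E of odd order less than n - 2, and let H be the subgroup of the stabilizer of a consisting of the identity and the elements fixing no point other than a (given here as a subgroup of the stabilizer of order one less than the number of points whose non-identity elements fix only a; it is the Frobenius kernel of the stabilizer). Let μ be a character of degree 1 of the stabilizer of a that is identically 1 on H but not identically 1. Then the function induced from μ to G is an irreducible character of G, and it takes the value 1 at every non-identity element of H. -/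
theorem result {G Ω : Type*} [Group G] [Fintype G] [MulAction G Ω] [Fintype Ω] (hZ : Cfsg.IsZassenhausGroup G Ω) {a b : Ω} (hab : a ≠ b) [IsSimpleGroup G] (hodd : Odd (Nat.card ↥(MulAction.stabilizer G a ⊓ MulAction.stabilizer G b : Subgroup G))) (hlt : Nat.card ↥(MulAction.stabilizer G a ⊓ MulAction.stabilizer G b : Subgroup G) < Fintype.card Ω - 2) (H : Subgroup G) (hHa : H ≤ MulAction.stabilizer G a) (hHcard : Nat.card H + 1 = Fintype.card Ω) (hHfix : ∀ u ∈ H, u ≠ 1 → ∀ c : Ω, u • c = c → c = a) (μ : MulAction.stabilizer G a → ℂ) (hμ : Cfsg.IsCharacter (MulAction.stabilizer G a) μ ∧ μ 1 = 1) (hμH : ∀ u : MulAction.stabilizer G a, (u : G) ∈ H → μ u = 1) (hμne : μ ≠ fun _ => 1) : Cfsg.IsIrrCharacter G (Cfsg.indFun (MulAction.stabilizer G a) μ) ∧ ∀ u ∈ H, u ≠ 1 → Cfsg.indFun (MulAction.stabilizer G a) μ u = 1 := by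
  classical
  haveI : Fintype (MulAction.stabilizer G a) := Fintype.ofFinite _
  obtain ⟨hfaith, h2t, h3, ⟨g₀, hg₀, a', b', hab', hga', hgb'⟩, -⟩ := hZ
  rw [MulAction.is_two_pretransitive_iff] at h2t
  obtain ⟨hμc, hμ1⟩ := hμ
  have hecard : Nat.card ↥(MulAction.stabilizer G a ⊓ MulAction.stabilizer G b : Subgroup G) =
      stab2Card G a b := by
    rw [Nat.card_eq_fintype_card, Fintype.card_subtype]
    unfold stab2Card
    congr 1
    ext g
    simp [Subgroup.mem_inf, MulAction.mem_stabilizer_iff]
  rw [hecard] at hodd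
  have hmemP : ∀ x : G, x ∈ MulAction.stabilizer G a ↔ x • a = a := fun x =>
    MulAction.mem_stabilizer_iff
  -- G is perfect
  have hperf : commutator G = ⊤ := by
    rcases (inferInstance : (commutator G).Normal).eq_bot_or_eq_top with h | h
    · exfalso
      rw [commutator_eq_bot_iff_center_eq_top] at h
      apply hg₀
      apply hfaith.eq_of_smul_eq_smul
      intro ω
      rw [one_smul]
      by_cases hω : ω = a'
      · rw [hω, hga']
      · obtain ⟨t, hta, -⟩ := h2t hab' hω
        have hcomm : g₀ * t = t * g₀ := by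
          have : g₀ ∈ Subgroup.center G := by rw [h]; exact Subgroup.mem_top _
          exact (Subgroup.mem_center_iff.mp this t).symm
        rw [← hta, ← mul_smul, hcomm, mul_smul, hga']
    · exact h
  have hoff := fun g hg => zass_offdiag_zero h2t h3 hperf a b hab hodd H hHa hHcard hHfix μ hμc hμ1
    hμH hμne g hg
  have hon : ∀ g : G, g ∈ MulAction.stabilizer G a → ∑ x : MulAction.stabilizer G a,
      μ x * conj (Cfsg.extendByZero (MulAction.stabilizer G a) μ (g⁻¹ * (x : G) * g)) =
      (Nat.card (MulAction.stabilizer G a) : ℂ) := by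
    intro g hg
    have h1 : ∀ x : MulAction.stabilizer G a,
        μ x * conj (Cfsg.extendByZero (MulAction.stabilizer G a) μ (g⁻¹ * (x : G) * g)) = 1 := by
      intro x
      have e1 : g⁻¹ * (x : G) * g = g⁻¹ * (x : G) * g⁻¹⁻¹ := by rw [inv_inv]
      rw [e1, lin_conj _ μ hμc hμ1 (Subgroup.inv_mem _ hg) x.2, ← h7_extendByZero_coe _ μ x]
      exact lin_norm _ μ hμc hμ1 x.2
    simp only [h1]
    rw [Finset.sum_const, Finset.card_univ, nsmul_eq_mul, mul_one, Nat.card_eq_fintype_card]
  have hnorm : Cfsg.classInner (Cfsg.indFun (MulAction.stabilizer G a) μ)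
      (Cfsg.indFun (MulAction.stabilizer G a) μ) = 1 := by
    rw [indFun_norm_formula]
    have h1 : ∀ g : G, ∑ x : MulAction.stabilizer G a,
        μ x * conj (Cfsg.extendByZero (MulAction.stabilizer G a) μ (g⁻¹ * (x : G) * g)) =
        if g ∈ MulAction.stabilizer G a then (Nat.card (MulAction.stabilizer G a) : ℂ) else 0 := by
      intro g
      by_cases hg : g ∈ MulAction.stabilizer G a
      · rw [if_pos hg, hon g hg]
      · rw [if_neg hg, hoff g hg]
    simp only [h1]
    rw [Finset.sum_ite, Finset.sum_const_zero, add_zero, Finset.sum_const, nsmul_eq_mul]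
    have h2 : (Finset.univ.filter (fun g : G => g ∈ MulAction.stabilizer G a)).card =
        Nat.card (MulAction.stabilizer G a) := by
      rw [Nat.card_eq_fintype_card, Fintype.card_subtype]
    rw [h2]
    have hne : (Nat.card (MulAction.stabilizer G a) : ℂ) ≠ 0 := by
      exact_mod_cast Nat.card_pos.ne'
    field_simp
  refine ⟨h7_irr_of_norm_one (isCharacter_indFun _ μ hμc) hnorm, ?_⟩
  intro u hu hu1
  unfold Cfsg.indFun
  have h1 : ∀ x : G, Cfsg.extendByZero (MulAction.stabilizer G a) μ (x⁻¹ * u * x) =
      if x ∈ MulAction.stabilizer G a then 1 else 0 := by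
    intro x
    by_cases hx : x ∈ MulAction.stabilizer G a
    · rw [if_pos hx]
      have e1 : x⁻¹ * u * x = x⁻¹ * u * x⁻¹⁻¹ := by rw [inv_inv]
      rw [e1, lin_conj _ μ hμc hμ1 (Subgroup.inv_mem _ hx) (hHa hu),
        h7_extendByZero_mem _ μ u (hHa hu)]
      exact hμH ⟨u, hHa hu⟩ hu
    · rw [if_neg hx]
      apply h7_extendByZero_not_mem
      intro hmem
      apply hx
      rw [hmemP] at hmem ⊢
      have h2 : u • (x • a) = x • a := by
        rw [mul_smul, mul_smul] at hmem
        have := congrArg (fun ω => x • ω) hmem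
        simpa using this
      exact hHfix u hu hu1 _ h2
  simp only [h1]
  rw [Finset.sum_ite, Finset.sum_const_zero, add_zero, Finset.sum_const, nsmul_eq_mul, mul_one]
  have h2 : (Finset.univ.filter (fun g : G => g ∈ MulAction.stabilizer G a)).card =
      Nat.card (MulAction.stabilizer G a) := by
    rw [Nat.card_eq_fintype_card, Fintype.card_subtype]
  rw [h2]
  have hne : (Nat.card (MulAction.stabilizer G a) : ℂ) ≠ 0 := by
    exact_mod_cast Nat.card_pos.ne'
  field_simp

end Cfsg.Agent.S0881
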