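import Cfsg.Statements.S1360
import Cfsg.Agent.S1412
import Cfsg.Agent.S1414
import Cfsg.Agent.S1416
import Cfsg.Agent.S1417
import Cfsg.Agent.S1424
import Cfsg.Agent.Lib.Helper28.BGtL
import Cfsg.Agent.Lib.Helper1.BG12b.PartTwo

set_option autoImplicit false
open Cfsg

namespace Cfsg.Agent.S1360

/-- Let G be a minimal simple group of odd order and M a maximal subgroup with standard factorisation M = K U M_σ. Then U contains a subgroup U₀ with the same exponent as U such that no non-identity element of U₀ centralizes a non-identity element of M_σ. -/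
theorem result {G : Type*} [Group G] [Finite G] (hG : Cfsg.IsMinSimpleOddOrder G)
    (M : Subgroup G) (hM : IsCoatom M) (K U : Subgroup G) (hKU : Cfsg.IsSigmaDecomposition M K U) :
    ∃ U₀ : Subgroup G, U₀ ≤ U ∧ Monoid.exponent U₀ = Monoid.exponent U ∧ ∀ u ∈ U₀, u ∈ Cfsg.sigmaHat M → u = 1 := by
  have h16 : Cfsg.Agent.Lib.Helper28.BGt.T1416 G :=
    fun M hM p _ A hA => Cfsg.Agent.S1416.result hG M hM p A hA
  have h17 : Cfsg.Agent.Lib.Helper28.BGt.T1417 G :=
    fun M hM p _ hp A hA => Cfsg.Agent.S1417.result hG M hM p hp A hA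
  have nc : Cfsg.Agent.Lib.Helper28.BGt.NC G :=
    fun H hH s hs hsd hsb => ((Cfsg.Agent.S1414.result hG H hH).2.2.2.2 s hs hsd hsb).1
  have h12 : Cfsg.Agent.Lib.Helper28.BGt.T1412 G :=
    fun p _ P hr => Cfsg.Agent.S1412.result hG p P hr
  have h24 : Cfsg.Agent.Lib.Helper28.BGt.T1424 G :=
    fun M hM q _ hq X hXq hX1 hXM Ms hMs hne hNX S hXS =>
      Cfsg.Agent.S1424.result hG M hM q hq X hXq hX1 hXM Ms hMs hne hNX S hXS
  have h13 : Cfsg.Agent.Lib.Helper1.BG12b.T1427 G :=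
    fun M E hM hE p _ S hS hSc y hy hyo =>
      Cfsg.Agent.Lib.Helper28.BGt.thirteen_three_a hG h16 h17 nc h24 hM hE hS hSc hy hyo
  have c := Cfsg.Agent.Lib.Helper1.BG12b.regCtx_of_decomp hG h16 h17 nc h12 hM hKU
  obtain ⟨U₀, hU₀U, hexp, hreg⟩ := Cfsg.Agent.Lib.Helper1.BG12b.part_two c h13
    (Cfsg.Agent.Lib.Helper1.BG12b.decomp_hU2 hKU)
  refine ⟨U₀, hU₀U, hexp, ?_⟩
  rintro u hu ⟨-, y, hy, hy1, huy⟩
  by_contra hu1
  have h1 := hreg u hu hu1
  have h2 : y ∈ Cfsg.sigmaCore M ⊓ Subgroup.centralizer ({u} : Set G) :=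
    Cfsg.Agent.Lib.Helper1.BG12b.mem_inf_centralizer_singleton hy huy
  rw [h1, Subgroup.mem_bot] at h2
  exact hy1 h2

end Cfsg.Agent.S1360
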