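import Cfsg.Statements.S5643
import Cfsg.Agent.Lib.Helper28.UForm

set_option autoImplicit false

open Cfsg

namespace Cfsg.Agent.S5643

open Matrix Cfsg.Agent.S5632 Cfsg.Agent.S5631 Cfsg.Agent.Lib.Helper28.UForm

variable {n : ℕ} {F : Type*} [Field F] {σ : F ≃+* F} {f : (Fin n → F) → (Fin n → F) → F}

def TV (f : (Fin n → F) → (Fin n → F) → F) (M : Subgroup (Matrix.GeneralLinearGroup (Fin n) F))
    (w u : Fin n → F) : Prop :=
  ∀ g : Matrix.GeneralLinearGroup (Fin n) F,
    (∀ x, (g : Matrix (Fin n) (Fin n) F) *ᵥ x = x + f x u • w) → g ∈ M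

theorem tvGL (hf : Cfsg.Geo.IsUnitaryForm σ f) (w u : Fin n → F) (h : f w u = 0) :
    ∃ g : Matrix.GeneralLinearGroup (Fin n) F, g ∈ Cfsg.Geo.specialLinear (Fin n) F ∧
      ∀ x, (g : Matrix (Fin n) (Fin n) F) *ᵥ x = x + f x u • w := by
  have h0 : rho f u ⬝ᵥ w = 0 := by rw [← f_eq_dot hf, h]
  obtain ⟨g, hgS, hg⟩ := transv w (rho f u) h0
  exact ⟨g, hgS, fun x => by rw [hg, ← f_eq_dot hf]⟩

theorem inv_mv (g : Matrix.GeneralLinearGroup (Fin n) F) (y : Fin n → F) :
    ((g⁻¹ : Matrix.GeneralLinearGroup (Fin n) F) : Matrix (Fin n) (Fin n) F) *ᵥ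
      ((g : Matrix (Fin n) (Fin n) F) *ᵥ y) = y := by
  rw [Matrix.mulVec_mulVec, ← Units.val_mul, inv_mul_cancel, Units.val_one, Matrix.one_mulVec]

theorem inv_mv' (g : Matrix.GeneralLinearGroup (Fin n) F) (y : Fin n → F) :
    (g : Matrix (Fin n) (Fin n) F) *ᵥ
      (((g⁻¹ : Matrix.GeneralLinearGroup (Fin n) F) : Matrix (Fin n) (Fin n) F) *ᵥ y) = y := by
  rw [Matrix.mulVec_mulVec, ← Units.val_mul, mul_inv_cancel, Units.val_one, Matrix.one_mulVec]

theorem mul_mv (g h : Matrix.GeneralLinearGroup (Fin n) F) (y : Fin n → F) :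
    ((g * h : Matrix.GeneralLinearGroup (Fin n) F) : Matrix (Fin n) (Fin n) F) *ᵥ y =
      (g : Matrix (Fin n) (Fin n) F) *ᵥ ((h : Matrix (Fin n) (Fin n) F) *ᵥ y) := by
  rw [Units.val_mul, Matrix.mulVec_mulVec]

theorem TV_add (hf : Cfsg.Geo.IsUnitaryForm σ f)
    (M : Subgroup (Matrix.GeneralLinearGroup (Fin n) F)) (w u1 u2 : Fin n → F)
    (h1 : f w u1 = 0) (h2 : f w u2 = 0) (t1 : TV f M w u1) (t2 : TV f M w u2) :
    TV f M w (u1 + u2) := by
  intro g hg
  obtain ⟨g1, _, hg1⟩ := tvGL hf w u1 h1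
  obtain ⟨g2, _, hg2⟩ := tvGL hf w u2 h2
  have : g = g1 * g2 := by
    apply gl_ext
    intro x
    rw [mul_mv, hg, hg2, hg1, hf.add_left, hf.smul_left, h1, mul_zero, add_zero, f_add_right hf,
      add_smul]
    abel
  rw [this]
  exact M.mul_mem (t1 g1 hg1) (t2 g2 hg2)

theorem TV_neg (hf : Cfsg.Geo.IsUnitaryForm σ f)
    (M : Subgroup (Matrix.GeneralLinearGroup (Fin n) F)) (w u : Fin n → F)
    (h : f w u = 0) (t : TV f M w u) : TV f M w (-u) := by
  intro g hg
  obtain ⟨g1, _, hg1⟩ := tvGL hf w u h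
  have : g = g1⁻¹ := by
    rw [eq_inv_iff_mul_eq_one]
    apply gl_ext
    intro x
    rw [mul_mv, hg, hg1, hf.add_left, hf.smul_left, f_neg_right hf, f_neg_right hf, h, Units.val_one,
      Matrix.one_mulVec]
    simp
  rw [this]
  exact M.inv_mem (t g1 hg1)

theorem TV_scale (hf : Cfsg.Geo.IsUnitaryForm σ f)
    (M : Subgroup (Matrix.GeneralLinearGroup (Fin n) F)) (w u : Fin n → F) (a : F) :
    TV f M (a • w) u ↔ TV f M w (σ a • u) := by
  have key : ∀ x, f x (σ a • u) • w = f x u • (a • w) := by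
    intro x
    rw [f_smul_right hf, hf.involutive, smul_smul, mul_comm]
  constructor
  · intro t g hg
    exact t g (fun x => by rw [hg, key])
  · intro t g hg
    exact t g (fun x => by rw [hg, key])

theorem TV_add_centre (hf : Cfsg.Geo.IsUnitaryForm σ f)
    (M : Subgroup (Matrix.GeneralLinearGroup (Fin n) F)) (w1 w2 u : Fin n → F)
    (h1 : f w1 u = 0) (h2 : f w2 u = 0) (t1 : TV f M w1 u) (t2 : TV f M w2 u) :
    TV f M (w1 + w2) u := by
  intro g hg
  obtain ⟨g1, _, hg1⟩ := tvGL hf w1 u h1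
  obtain ⟨g2, _, hg2⟩ := tvGL hf w2 u h2
  have : g = g1 * g2 := by
    apply gl_ext
    intro x
    rw [mul_mv, hg, hg2, hg1, hf.add_left, hf.smul_left, h2, mul_zero, add_zero, smul_add]
    abel
  rw [this]
  exact M.mul_mem (t1 g1 hg1) (t2 g2 hg2)

theorem TV_neg_centre (hf : Cfsg.Geo.IsUnitaryForm σ f)
    (M : Subgroup (Matrix.GeneralLinearGroup (Fin n) F)) (w u : Fin n → F)
    (t : TV f M w (-u)) : TV f M (-w) u := by
  intro g hg
  apply t g
  intro x
  rw [hg, f_neg_right hf]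
  simp

theorem TV_conj_gen (hf : Cfsg.Geo.IsUnitaryForm σ f)
    (M : Subgroup (Matrix.GeneralLinearGroup (Fin n) F)) (w u u' : Fin n → F) (h : f w u = 0)
    (t : TV f M w u) (m : Matrix.GeneralLinearGroup (Fin n) F) (hm : m ∈ M)
    (hu' : ∀ x, f (((m⁻¹ : Matrix.GeneralLinearGroup (Fin n) F) :
      Matrix (Fin n) (Fin n) F) *ᵥ x) u = f x u') :
    TV f M ((m : Matrix (Fin n) (Fin n) F) *ᵥ w) u' := by
  intro g hg
  obtain ⟨g0, _, hg0⟩ := tvGL hf w u h
  have : g = m * g0 * m⁻¹ := by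
    apply gl_ext
    intro x
    rw [mul_mv, mul_mv, hg0, Matrix.mulVec_add, inv_mv', Matrix.mulVec_smul, hu', hg]
  rw [this]
  exact M.mul_mem (M.mul_mem hm (t g0 hg0)) (M.inv_mem hm)

theorem TV_conj_iso (hf : Cfsg.Geo.IsUnitaryForm σ f)
    (M : Subgroup (Matrix.GeneralLinearGroup (Fin n) F)) (w u : Fin n → F) (h : f w u = 0)
    (t : TV f M w u) (m : Matrix.GeneralLinearGroup (Fin n) F) (hm : m ∈ M)
    (hiso : ∀ x y, f ((m : Matrix (Fin n) (Fin n) F) *ᵥ x) ((m : Matrix (Fin n) (Fin n) F) *ᵥ y) =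
      f x y) :
    TV f M ((m : Matrix (Fin n) (Fin n) F) *ᵥ w) ((m : Matrix (Fin n) (Fin n) F) *ᵥ u) := by
  apply TV_conj_gen hf M w u _ h t m hm
  intro x
  rw [← hiso, inv_mv']

theorem utv_iso (hf : Cfsg.Geo.IsUnitaryForm σ f) (y : Fin n → F) (hy : f y y = 0) (c : F)
    (hc : σ c = -c) (g : Matrix.GeneralLinearGroup (Fin n) F)
    (hg : ∀ x, (g : Matrix (Fin n) (Fin n) F) *ᵥ x = x + f x (c • y) • y) (x x' : Fin n → F) :
    f ((g : Matrix (Fin n) (Fin n) F) *ᵥ x) ((g : Matrix (Fin n) (Fin n) F) *ᵥ x') = f x x' := by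
  rw [hg, hg, hf.add_left, f_add_right hf, f_add_right hf, hf.smul_left, hf.smul_left,
    f_smul_right hf (f x' (c • y)), f_smul_right hf (f x' (c • y)), hy, f_smul_right hf c,
    f_smul_right hf c, map_mul, hf.involutive, ← hf.herm y x', hc]
  ring

theorem utv_mem (hf : Cfsg.Geo.IsUnitaryForm σ f)
    (M : Subgroup (Matrix.GeneralLinearGroup (Fin n) F))
    (hHM : Cfsg.Geo.similarityGroup f ⊓ Cfsg.Geo.specialLinear (Fin n) F ≤ M)
    (y : Fin n → F) (hy : f y y = 0) (c : F)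
    (hc : σ c = -c) (g : Matrix.GeneralLinearGroup (Fin n) F)
    (hg : ∀ x, (g : Matrix (Fin n) (Fin n) F) *ᵥ x = x + f x (c • y) • y) : g ∈ M := by
  apply hHM
  refine ⟨⟨1, fun a b => ?_⟩, ?_⟩
  · rw [utv_iso hf y hy c hc g hg, Units.val_one, one_mul]
  · have h0 : rho f (c • y) ⬝ᵥ y = 0 := by
      rw [← f_eq_dot hf, f_smul_right hf, hy, mul_zero]
    apply isT_mem_SL g y (rho f (c • y)) h0
    intro x
    rw [hg, ← f_eq_dot hf]

theorem move (hf : Cfsg.Geo.IsUnitaryForm σ f)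
    (M : Subgroup (Matrix.GeneralLinearGroup (Fin n) F))
    (hHM : Cfsg.Geo.similarityGroup f ⊓ Cfsg.Geo.specialLinear (Fin n) F ≤ M)
    (w u y : Fin n → F) (hwu : f w u = 0) (t : TV f M w u) (hy : f y y = 0) (hwy : f w y = 0)
    (c : F) (hc : σ c = -c) : TV f M w ((c * f u y) • y) := by
  have hc' : σ (σ c) = -(σ c) := by rw [hf.involutive, hc, neg_neg]
  have h0 : f y (σ c • y) = 0 := by rw [f_smul_right hf, hy, mul_zero]
  obtain ⟨m, _, hm⟩ := tvGL hf y (σ c • y) h0
  have hmM : m ∈ M := utv_mem hf M hHM y hy (σ c) hc' m hm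
  have hiso := utv_iso hf y hy (σ c) hc' m hm
  have hm' : ∀ x, (m : Matrix (Fin n) (Fin n) F) *ᵥ x = x + (c * f x y) • y := by
    intro x
    rw [hm, f_smul_right hf, hf.involutive]
  have h1 := TV_conj_iso hf M w u hwu t m hmM hiso
  rw [hm' w, hwy, mul_zero, zero_smul, add_zero, hm' u] at h1
  have h2 : f w (u + (c * f u y) • y) = 0 := by
    rw [f_add_right hf, f_smul_right hf, hwu, hwy, mul_zero, add_zero]
  have h3 := TV_add hf M w _ _ h2 (by rw [f_neg_right hf, hwu, neg_zero]) h1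
    (TV_neg hf M w u hwu t)
  have e : u + (c * f u y) • y + -u = (c * f u y) • y := by abel
  rw [e] at h3
  exact h3

theorem two_step [Finite F] (hf : Cfsg.Geo.IsUnitaryForm σ f) (hn : 13 ≤ n)
    (M : Subgroup (Matrix.GeneralLinearGroup (Fin n) F))
    (hHM : Cfsg.Geo.similarityGroup f ⊓ Cfsg.Geo.specialLinear (Fin n) F ≤ M)
    (w z y : Fin n → F) (κ ρ : F) (hw0 : w ≠ 0) (hκ : κ ≠ 0) (hz : f z z = 0) (hwz : f w z = 0)
    (hzw : z ∉ Submodule.span F {w}) (t : TV f M w (κ • z)) (hy : f y y = 0) (hwy : f w y = 0)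
    (hyw : y ∉ Submodule.span F {w, z}) : TV f M w (ρ • y) := by
  obtain ⟨c0, hc0, hc0σ⟩ := exists_K0 hf
  obtain ⟨y1, hy1, h1w, h1z, h1y⟩ := ex3 hf (by omega) w z y hw0 hzw hyw 0 1 (ρ / (c0 * c0 * κ))
  have hwy1 : f w y1 = 0 := f_swap_zero hf h1w
  have hzy1 : f z y1 = 1 := by rw [hf.herm, h1z, map_one]
  have t1 := move hf M hHM w (κ • z) y1 (by rw [f_smul_right hf, hwz, mul_zero]) t hy1 hwy1 c0 hc0σ
  rw [hf.smul_left, hzy1, mul_one] at t1
  have t2 := move hf M hHM w ((c0 * κ) • y1) y (by rw [f_smul_right hf, hwy1, mul_zero]) t1 hy hwy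
    c0 hc0σ
  rw [hf.smul_left, h1y] at t2
  have e : c0 * (c0 * κ * (ρ / (c0 * c0 * κ))) = ρ := by field_simp
  rw [e] at t2
  exact t2

theorem all_iso [Finite F] (hf : Cfsg.Geo.IsUnitaryForm σ f) (hn : 13 ≤ n)
    (M : Subgroup (Matrix.GeneralLinearGroup (Fin n) F))
    (hHM : Cfsg.Geo.similarityGroup f ⊓ Cfsg.Geo.specialLinear (Fin n) F ≤ M)
    (w u0 : Fin n → F) (hw0 : w ≠ 0) (hwu : f w u0 = 0)
    (hu0 : u0 ∉ Submodule.span F {w}) (t : TV f M w u0) :
    ∀ y, f y y = 0 → f w y = 0 → y ∉ Submodule.span F {w} → ∀ ρ : F, TV f M w (ρ • y) := by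
  obtain ⟨c0, hc0, hc0σ⟩ := exists_K0 hf
  obtain ⟨z, hz, hzw, hzu⟩ := ex2 hf (by omega) w u0 hw0 hu0 0 1
  have hwz : f w z = 0 := f_swap_zero hf hzw
  have huz : f u0 z = 1 := by rw [hf.herm, hzu, map_one]
  have tz := move hf M hHM w u0 z hwu t hz hwz c0 hc0σ
  rw [huz, mul_one] at tz
  have hznot : z ∉ Submodule.span F {w} :=
    not_span1 hf (p := u0) hwu (by rw [hzu]; exact one_ne_zero)
  obtain ⟨y', hy', hy'w, hy'z⟩ := ex2 hf (by omega) w z hw0 hznot 0 1
  have hwy' : f w y' = 0 := f_swap_zero hf hy'w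
  have hy'not2 : y' ∉ Submodule.span F {w, z} :=
    not_span2 hf (p := z) hwz hz (by rw [hy'z]; exact one_ne_zero)
  have hy'not1 : y' ∉ Submodule.span F {w} :=
    not_span1 hf (p := z) hwz (by rw [hy'z]; exact one_ne_zero)
  have ty' : TV f M w ((1 : F) • y') :=
    two_step hf hn M hHM w z y' c0 1 hw0 hc0 hz hwz hznot tz hy' hwy' hy'not2
  intro y hy hwy hynot ρ
  by_cases hmem : y ∈ Submodule.span F {w, z}
  · have hyz : f y z = 0 := by
      obtain ⟨a, b, rfl⟩ := Submodule.mem_span_pair.mp hmem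
      rw [hf.add_left, hf.smul_left, hf.smul_left, hwz, hz]
      ring
    have hynot' : y ∉ Submodule.span F {w, y'} := by
      intro h
      obtain ⟨a, b, hab⟩ := Submodule.mem_span_pair.mp h
      have hb : f y z = b := by
        rw [← hab, hf.add_left, hf.smul_left, hf.smul_left, hwz, hy'z]
        ring
      rw [hyz] at hb
      apply hynot
      rw [Submodule.mem_span_singleton]
      exact ⟨a, by rw [← hab, ← hb, zero_smul, add_zero]⟩
    exact two_step hf hn M hHM w y' y 1 ρ hw0 one_ne_zero hy' hwy' hy'not1 ty' hy hwy hynot'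
  · exact two_step hf hn M hHM w z y c0 ρ hw0 hc0 hz hwz hznot tz hy hwy hmem

theorem full [Finite F] (hf : Cfsg.Geo.IsUnitaryForm σ f) (hn : 13 ≤ n)
    (M : Subgroup (Matrix.GeneralLinearGroup (Fin n) F))
    (hHM : Cfsg.Geo.similarityGroup f ⊓ Cfsg.Geo.specialLinear (Fin n) F ≤ M)
    (w u0 : Fin n → F) (hw : f w w = 0) (hw0 : w ≠ 0) (hwu : f w u0 = 0)
    (hu0 : u0 ∉ Submodule.span F {w}) (t : TV f M w u0) :
    ∀ x, f w x = 0 → TV f M w x := by
  have A := all_iso hf hn M hHM w u0 hw0 hwu hu0 t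
  obtain ⟨z, hz, hzw, hzu⟩ := ex2 hf (by omega) w u0 hw0 hu0 0 1
  have hwz : f w z = 0 := f_swap_zero hf hzw
  have hznot : z ∉ Submodule.span F {w} :=
    not_span1 hf (p := u0) hwu (by rw [hzu]; exact one_ne_zero)
  intro x hwx
  by_cases hxw : x ∈ Submodule.span F {w}
  · obtain ⟨a, rfl⟩ := Submodule.mem_span_singleton.mp hxw
    have h1 : f (z + a • w) (z + a • w) = 0 := by
      rw [hf.add_left, f_add_right hf, f_add_right hf, hf.smul_left, hf.smul_left,
        f_smul_right hf, f_smul_right hf, hz, hzw, hwz, hw]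
      ring
    have h2 : f w (z + a • w) = 0 := by
      rw [f_add_right hf, f_smul_right hf, hwz, hw]
      ring
    have h3 : z + a • w ∉ Submodule.span F {w} := by
      intro h
      apply hznot
      have := Submodule.sub_mem _ h (Submodule.smul_mem _ a (Submodule.mem_span_singleton_self w))
      simpa using this
    have t1 := A (z + a • w) h1 h2 h3 1
    have t2 := A z hz hwz hznot (-1)
    have t3 := TV_add hf M w _ _ (by rw [one_smul]; exact h2)
      (by rw [f_smul_right hf, hwz, mul_zero]) t1 t2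
    have e : (1 : F) • (z + a • w) + (-1 : F) • z = a • w := by
      rw [one_smul, neg_smul, one_smul]
      abel
    rw [e] at t3
    exact t3
  · by_cases hx : f x x = 0
    · have := A x hx hwx hxw 1
      rwa [one_smul] at this
    · obtain ⟨α, hα⟩ := trace_surj hf (f x x) (f_self_fixed hf x)
      obtain ⟨y1, hy1, hy1w, hy1x⟩ := ex2 hf (by omega) w x hw0 hxw 0 α
      have hwy1 : f w y1 = 0 := f_swap_zero hf hy1w
      have hxy1 : f x y1 = σ α := by rw [hf.herm, hy1x]
      have hα0 : α ≠ 0 := by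
        intro h
        rw [h, map_zero, add_zero] at hα
        exact hx hα.symm
      have hαx : α ≠ f x x := by
        intro h
        rw [h, f_self_fixed hf] at hα
        apply hx
        have : f x x + f x x = f x x + 0 := by rw [add_zero]; exact hα
        exact add_left_cancel this
      have hy1not : y1 ∉ Submodule.span F {w} := by
        intro h
        obtain ⟨a, rfl⟩ := Submodule.mem_span_singleton.mp h
        rw [hf.smul_left, hwx, mul_zero] at hy1x
        exact hα0 hy1x.symm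
      have hy2 : f (x - y1) (x - y1) = 0 := by
        rw [f_sub_left hf, f_sub_right hf, f_sub_right hf, hy1, hy1x, hxy1]
        linear_combination -hα
      have hwy2 : f w (x - y1) = 0 := by rw [f_sub_right hf, hwx, hwy1, sub_zero]
      have hy2not : x - y1 ∉ Submodule.span F {w} := by
        intro h
        obtain ⟨a, ha⟩ := Submodule.mem_span_singleton.mp h
        have e1 : y1 = x - a • w := by rw [ha]; abel
        have : f y1 x = f x x := by
          rw [e1, f_sub_left hf, hf.smul_left, hwx, mul_zero, sub_zero]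
        rw [hy1x] at this
        exact hαx this
      have t1 := A y1 hy1 hwy1 hy1not 1
      have t2 := A (x - y1) hy2 hwy2 hy2not 1
      rw [one_smul] at t1 t2
      have t3 := TV_add hf M w _ _ hwy1 hwy2 t1 t2
      have e : y1 + (x - y1) = x := by abel
      rw [e] at t3
      exact t3

def Full (f : (Fin n → F) → (Fin n → F) → F) (M : Subgroup (Matrix.GeneralLinearGroup (Fin n) F))
    (w : Fin n → F) : Prop :=
  ∀ x, f w x = 0 → TV f M w x

theorem full_step (hf : Cfsg.Geo.IsUnitaryForm σ f)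
    (M : Subgroup (Matrix.GeneralLinearGroup (Fin n) F))
    (hHM : Cfsg.Geo.similarityGroup f ⊓ Cfsg.Geo.specialLinear (Fin n) F ≤ M)
    (w1 w2 : Fin n → F) (hw1 : f w1 w1 = 0) (hw2 : f w2 w2 = 0) (ha : f w1 w2 ≠ 0)
    (haσ : σ (f w1 w2) = -(f w1 w2)) (h : Full f M w1) : Full f M w2 := by
  have h21 : f w2 w1 = -(f w1 w2) := by rw [hf.herm, haσ]
  have hy : f (w2 - w1) (w2 - w1) = 0 := by
    rw [f_sub_left hf, f_sub_right hf, f_sub_right hf, hw1, hw2, h21]
    ring
  have hc : σ (-(f w1 w2)⁻¹) = -(-(f w1 w2)⁻¹) := by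
    rw [map_neg, map_inv₀, haσ, inv_neg]
  have h0 : f (w2 - w1) ((-(f w1 w2)⁻¹) • (w2 - w1)) = 0 := by
    rw [f_smul_right hf, hy, mul_zero]
  obtain ⟨m, _, hm⟩ := tvGL hf (w2 - w1) ((-(f w1 w2)⁻¹) • (w2 - w1)) h0
  have hmM : m ∈ M := utv_mem hf M hHM _ hy _ hc m hm
  have hiso := utv_iso hf _ hy _ hc m hm
  have hmw : (m : Matrix (Fin n) (Fin n) F) *ᵥ w1 = w2 := by
    rw [hm, f_smul_right hf, hc, neg_neg, f_sub_right hf, hw1, sub_zero, inv_mul_cancel₀ ha,
      one_smul]
    abel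
  intro x hx
  have h1 : f w1 (((m⁻¹ : Matrix.GeneralLinearGroup (Fin n) F) :
      Matrix (Fin n) (Fin n) F) *ᵥ x) = 0 := by
    rw [← hiso, hmw, inv_mv', hx]
  have h2 := TV_conj_iso hf M w1 _ h1 (h _ h1) m hmM hiso
  rw [hmw, inv_mv'] at h2
  exact h2

theorem full_trans [Finite F] (hf : Cfsg.Geo.IsUnitaryForm σ f) (hn : 13 ≤ n)
    (M : Subgroup (Matrix.GeneralLinearGroup (Fin n) F))
    (hHM : Cfsg.Geo.similarityGroup f ⊓ Cfsg.Geo.specialLinear (Fin n) F ≤ M)
    (w w' : Fin n → F) (hw : f w w = 0) (hw0 : w ≠ 0) (hw' : f w' w' = 0)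
    (h : Full f M w) : Full f M w' := by
  by_cases hmem : w' ∈ Submodule.span F {w}
  · obtain ⟨a, rfl⟩ := Submodule.mem_span_singleton.mp hmem
    intro x hx
    rw [TV_scale hf]
    apply h
    rw [hf.smul_left] at hx
    rw [f_smul_right hf, hf.involutive]
    exact hx
  · obtain ⟨c0, hc0, hc0σ⟩ := exists_K0 hf
    obtain ⟨w2, hw2, h1, h2⟩ := ex2 hf (by omega) w w' hw0 hmem c0 c0
    have h3 : f w w2 = -c0 := by rw [hf.herm, h1, hc0σ]
    have s1 : Full f M w2 := full_step hf M hHM w w2 hw hw2 (by rw [h3]; exact neg_ne_zero.mpr hc0)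
      (by rw [h3, map_neg, hc0σ]) h
    exact full_step hf M hHM w2 w' hw2 hw' (by rw [h2]; exact hc0) (by rw [h2, hc0σ]) s1

theorem all_tv [Finite F] (hf : Cfsg.Geo.IsUnitaryForm σ f) (hn : 13 ≤ n)
    (M : Subgroup (Matrix.GeneralLinearGroup (Fin n) F))
    (hfull : ∀ w, f w w = 0 → w ≠ 0 → Full f M w) :
    ∀ (v r : Fin n → F), r ⬝ᵥ v = 0 → ∀ g : Matrix.GeneralLinearGroup (Fin n) F,
      (∀ x, (g : Matrix (Fin n) (Fin n) F) *ᵥ x = x + (r ⬝ᵥ x) • v) → g ∈ M := by
  intro v r hrv g hg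
  obtain ⟨u, hu⟩ := rho_surj hf r
  have hvu : f v u = 0 := by rw [hu, hrv]
  have key : TV f M v u := by
    by_cases hv0 : v = 0
    · intro g' hg'
      have : g' = 1 := by
        apply gl_ext
        intro x
        rw [hg', hv0, smul_zero, add_zero, Units.val_one, Matrix.one_mulVec]
      rw [this]
      exact M.one_mem
    · by_cases hv : f v v = 0
      · exact hfull v hv hv0 u hvu
      · obtain ⟨α, hα⟩ := trace_surj hf (f v v) (f_self_fixed hf v)
        obtain ⟨w1, hw1, hw1v⟩ := ex1 hf (by omega) v hv0 α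
        have hvw1 : f v w1 = σ α := by rw [hf.herm, hw1v]
        have hα0 : α ≠ 0 := by
          intro h
          rw [h, map_zero, add_zero] at hα
          exact hv hα.symm
        have hw10 : w1 ≠ 0 := by
          intro h
          rw [h, f_zero_left hf] at hw1v
          exact hα0 hw1v.symm
        have hw2 : f (v - w1) (v - w1) = 0 := by
          rw [f_sub_left hf, f_sub_right hf, f_sub_right hf, hw1, hw1v, hvw1]
          linear_combination -hα
        have hw20 : v - w1 ≠ 0 := by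
          intro h
          have : v = w1 := sub_eq_zero.mp h
          rw [this] at hv
          exact hv hw1
        have hnot : w1 ∉ Submodule.span F {v - w1} := by
          intro h
          obtain ⟨c, hc⟩ := Submodule.mem_span_singleton.mp h
          have e : v = (c + 1) • (v - w1) := by
            rw [add_smul, one_smul, hc]
            abel
          apply hv
          rw [e, hf.smul_left, f_smul_right hf, hw2]
          ring
        obtain ⟨u1, hu1⟩ := lin_solve hf ![v - w1, w1] (li2 _ _ hw20 hnot) ![0, 1]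
        have hu12 : f (v - w1) u1 = 0 := by
          have := hu1 0
          simp only [Matrix.cons_val_zero] at this
          exact f_swap_zero hf this
        have hu11 : f w1 u1 = 1 := by
          have := hu1 1
          simp only [Matrix.cons_val_one, Matrix.cons_val_zero] at this
          rw [hf.herm, this, map_one]
        obtain ⟨m, _, hm⟩ := tvGL hf (v - w1) u1 hu12
        have hmM : m ∈ M := hfull (v - w1) hw2 hw20 u1 hu12 m hm
        have hmw1 : (m : Matrix (Fin n) (Fin n) F) *ᵥ w1 = v := by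
          rw [hm, hu11, one_smul]
          abel
        let ψ : (Fin n → F) →ₗ[F] F :=
          { toFun := fun y => f ((m : Matrix (Fin n) (Fin n) F) *ᵥ y) u
            map_add' := by
              intro a b
              rw [Matrix.mulVec_add, hf.add_left]
            map_smul' := by
              intro c a
              rw [Matrix.mulVec_smul, hf.smul_left]
              rfl }
        obtain ⟨u2, hu2⟩ := riesz hf ψ
        have hu2' : ∀ y, f y u2 = f ((m : Matrix (Fin n) (Fin n) F) *ᵥ y) u := hu2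
        have h1 : f w1 u2 = 0 := by rw [hu2', hmw1, hvu]
        have t1 := hfull w1 hw1 hw10 u2 h1
        have t2 := TV_conj_gen hf M w1 u2 u h1 t1 m hmM (fun x => by rw [hu2', inv_mv'])
        rw [hmw1] at t2
        exact t2
  apply key g
  intro x
  rw [hg, hu]

theorem lam_pair (hf : Cfsg.Geo.IsUnitaryForm σ f) (g : Matrix.GeneralLinearGroup (Fin n) F)
    (v v2 : Fin n → F) (l l2 : F) (hne : f v2 v ≠ 0)
    (h : ∀ x, f ((g : Matrix (Fin n) (Fin n) F) *ᵥ x) ((g : Matrix (Fin n) (Fin n) F) *ᵥ v) =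
      l * f x v)
    (h2 : ∀ x, f ((g : Matrix (Fin n) (Fin n) F) *ᵥ x) ((g : Matrix (Fin n) (Fin n) F) *ᵥ v2) =
      l2 * f x v2) : l = σ l2 := by
  have e1 := h v2
  have e2 := h2 v
  rw [hf.herm, e2, map_mul, ← hf.herm v2 v] at e1
  have : (σ l2 - l) * f v2 v = 0 := by linear_combination e1
  rcases mul_eq_zero.mp this with h3 | h3
  · exact (sub_eq_zero.mp h3).symm
  · exact absurd h3 hne

theorem sim_of_local [Finite F] (hf : Cfsg.Geo.IsUnitaryForm σ f) (hn : 13 ≤ n)
    (g : Matrix.GeneralLinearGroup (Fin n) F)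
    (h : ∀ v, f v v = 0 → ∃ lam : F, ∀ x,
      f ((g : Matrix (Fin n) (Fin n) F) *ᵥ x) ((g : Matrix (Fin n) (Fin n) F) *ᵥ v) = lam * f x v) :
    g ∈ Cfsg.Geo.similarityGroup f := by
  have hn0 : (⟨0, by omega⟩ : Fin n) = ⟨0, by omega⟩ := rfl
  have he : (Pi.single (⟨0, by omega⟩ : Fin n) (1 : F) : Fin n → F) ≠ 0 := by
    intro h0
    have := congrFun h0 ⟨0, by omega⟩
    simp at this
  obtain ⟨v0, hv0, hv0e⟩ := ex1 hf (by omega) _ he 1
  have hv00 : v0 ≠ 0 := by
    intro h0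
    rw [h0, f_zero_left hf] at hv0e
    exact zero_ne_one hv0e
  obtain ⟨l0, hl0⟩ := h v0 hv0
  have hl00 : l0 ≠ 0 := by
    intro h0
    obtain ⟨x, hx⟩ := (hf.nondegenerate _ hv00).1
    have hgv : (g : Matrix (Fin n) (Fin n) F) *ᵥ v0 ≠ 0 := by
      intro h1
      apply hv00
      have := inv_mv g v0
      rw [h1, Matrix.mulVec_zero] at this
      exact this.symm
    obtain ⟨y, hy⟩ := (hf.nondegenerate _ hgv).1
    apply hy
    have := hl0 (((g⁻¹ : Matrix.GeneralLinearGroup (Fin n) F) : Matrix (Fin n) (Fin n) F) *ᵥ y)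
    rw [inv_mv', h0, zero_mul] at this
    exact this
  have hiso : ∀ v, f v v = 0 → ∀ x,
      f ((g : Matrix (Fin n) (Fin n) F) *ᵥ x) ((g : Matrix (Fin n) (Fin n) F) *ᵥ v) =
        l0 * f x v := by
    intro v hv x
    by_cases hmem : v ∈ Submodule.span F {v0}
    · obtain ⟨a, rfl⟩ := Submodule.mem_span_singleton.mp hmem
      rw [Matrix.mulVec_smul, f_smul_right hf, f_smul_right hf, hl0]
      ring
    · obtain ⟨l, hl⟩ := h v hv
      obtain ⟨v2, hv2, h20, h2v⟩ := ex2 hf (by omega) v0 v hv00 hmem 1 1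
      obtain ⟨l2, hl2⟩ := h v2 hv2
      have e1 := lam_pair hf g v0 v2 l0 l2 (by rw [h20]; exact one_ne_zero) hl0 hl2
      have e2 := lam_pair hf g v v2 l l2 (by rw [h2v]; exact one_ne_zero) hl hl2
      rw [hl, e2, ← e1]
  refine ⟨Units.mk0 l0 hl00, fun x y => ?_⟩
  rw [Units.val_mk0]
  by_cases hy : f y y = 0
  · exact hiso y hy x
  · have hy0 : y ≠ 0 := by
      intro h0
      rw [h0, f_zero_left hf] at hy
      exact hy rfl
    obtain ⟨α, hα⟩ := trace_surj hf (f y y) (f_self_fixed hf y)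
    obtain ⟨w1, hw1, hw1y⟩ := ex1 hf (by omega) y hy0 α
    have hyw1 : f y w1 = σ α := by rw [hf.herm, hw1y]
    have hw2 : f (y - w1) (y - w1) = 0 := by
      rw [f_sub_left hf, f_sub_right hf, f_sub_right hf, hw1, hw1y, hyw1]
      linear_combination -hα
    have e : y = w1 + (y - w1) := by abel
    rw [e, Matrix.mulVec_add, f_add_right hf, f_add_right hf, hiso w1 hw1, hiso _ hw2]
    ring

theorem start [Finite F] (hf : Cfsg.Geo.IsUnitaryForm σ f) (hn : 13 ≤ n)
    (M : Subgroup (Matrix.GeneralLinearGroup (Fin n) F))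
    (hHM : Cfsg.Geo.similarityGroup f ⊓ Cfsg.Geo.specialLinear (Fin n) F ≤ M)
    (g : Matrix.GeneralLinearGroup (Fin n) F) (hgM : g ∈ M)
    (hg : g ∉ Cfsg.Geo.similarityGroup f) :
    ∃ w u0 : Fin n → F, f w w = 0 ∧ w ≠ 0 ∧ f w u0 = 0 ∧ u0 ∉ Submodule.span F {w} ∧
      TV f M w u0 := by
  have hex : ∃ v, f v v = 0 ∧ ∀ lam : F, ∃ x,
      f ((g : Matrix (Fin n) (Fin n) F) *ᵥ x) ((g : Matrix (Fin n) (Fin n) F) *ᵥ v) ≠
        lam * f x v := by
    by_contra hcon
    push Not at hcon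
    exact hg (sim_of_local hf hn g hcon)
  obtain ⟨v, hv, hbad⟩ := hex
  have hv0 : v ≠ 0 := by
    intro h0
    obtain ⟨x, hx⟩ := hbad 0
    apply hx
    rw [h0, Matrix.mulVec_zero, f_zero_right hf, f_zero_right hf, mul_zero]
  obtain ⟨c0, hc0, hc0σ⟩ := exists_K0 hf
  have hvc : f v (c0 • v) = 0 := by rw [f_smul_right hf, hv, mul_zero]
  have t0 : TV f M v (c0 • v) := fun g' hg' => utv_mem hf M hHM v hv c0 hc0σ g' hg'
  let ψ : (Fin n → F) →ₗ[F] F :=
    { toFun := fun y => f (((g⁻¹ : Matrix.GeneralLinearGroup (Fin n) F) :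
        Matrix (Fin n) (Fin n) F) *ᵥ y) (c0 • v)
      map_add' := by
        intro a b
        rw [Matrix.mulVec_add, hf.add_left]
      map_smul' := by
        intro c a
        rw [Matrix.mulVec_smul, hf.smul_left]
        rfl }
  obtain ⟨u, hu⟩ := riesz hf ψ
  have hu' : ∀ y, f y u = f (((g⁻¹ : Matrix.GeneralLinearGroup (Fin n) F) :
        Matrix (Fin n) (Fin n) F) *ᵥ y) (c0 • v) := hu
  have t1 := TV_conj_gen hf M v (c0 • v) u hvc t0 g hgM (fun x => (hu' x).symm)
  have hrel : ∀ x, f ((g : Matrix (Fin n) (Fin n) F) *ᵥ x) u = σ c0 * f x v := by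
    intro x
    rw [hu', inv_mv, f_smul_right hf]
  have hw1u : f ((g : Matrix (Fin n) (Fin n) F) *ᵥ v) u = 0 := by rw [hrel, hv, mul_zero]
  have hgv0 : (g : Matrix (Fin n) (Fin n) F) *ᵥ v ≠ 0 := by
    intro h1
    apply hv0
    have := inv_mv g v
    rw [h1, Matrix.mulVec_zero] at this
    exact this.symm
  have hσc0 : σ c0 ≠ 0 := by
    rw [hc0σ]
    exact neg_ne_zero.mpr hc0
  have hu0 : u ≠ 0 := by
    intro h0
    obtain ⟨x, hx⟩ := (hf.nondegenerate v hv0).1
    have := hrel x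
    rw [h0, f_zero_right hf] at this
    rcases mul_eq_zero.mp this.symm with h1 | h1
    · exact hσc0 h1
    · exact hx h1
  by_cases hw1 : f ((g : Matrix (Fin n) (Fin n) F) *ᵥ v) ((g : Matrix (Fin n) (Fin n) F) *ᵥ v) = 0
  · by_cases hmem : u ∈ Submodule.span F {(g : Matrix (Fin n) (Fin n) F) *ᵥ v}
    · exfalso
      obtain ⟨b, hb⟩ := Submodule.mem_span_singleton.mp hmem
      have hb0 : b ≠ 0 := by
        intro h0
        rw [h0, zero_smul] at hb
        exact hu0 hb.symm
      obtain ⟨x, hx⟩ := hbad (σ c0 / σ b)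
      apply hx
      have := hrel x
      rw [← hb, f_smul_right hf] at this
      have hσb : σ b ≠ 0 := (map_ne_zero σ).mpr hb0
      field_simp
      linear_combination this
    · exact ⟨_, u, hw1, hgv0, hw1u, hmem, t1⟩
  · have hnot1 : u ∉ Submodule.span F {(g : Matrix (Fin n) (Fin n) F) *ᵥ v} := by
      intro hmem
      obtain ⟨b, hb⟩ := Submodule.mem_span_singleton.mp hmem
      have := hw1u
      rw [← hb, f_smul_right hf] at this
      rcases mul_eq_zero.mp this with h1 | h1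
      · have hb0 : b = 0 := by
          have := congrArg σ h1
          rwa [hf.involutive, map_zero] at this
        rw [hb0, zero_smul] at hb
        exact hu0 hb.symm
      · exact hw1 h1
    have hnot2 : (g : Matrix (Fin n) (Fin n) F) *ᵥ v ∉ Submodule.span F {u} := by
      intro hmem
      obtain ⟨b, hb⟩ := Submodule.mem_span_singleton.mp hmem
      have hb0 : b ≠ 0 := by
        intro h0
        rw [h0, zero_smul] at hb
        exact hgv0 hb.symm
      apply hnot1
      rw [Submodule.mem_span_singleton]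
      refine ⟨b⁻¹, ?_⟩
      rw [← hb, smul_smul, inv_mul_cancel₀ hb0, one_smul]
    obtain ⟨w, hw, hwu, hww1⟩ := ex2 hf (by omega) u _ hu0 hnot2 0 1
    have hw0 : w ≠ 0 := by
      intro h0
      rw [h0, f_zero_left hf] at hww1
      exact zero_ne_one hww1
    have huw : f u w = 0 := f_swap_zero hf hwu
    have hw1w : f ((g : Matrix (Fin n) (Fin n) F) *ᵥ v) w = 1 := by
      rw [hf.herm, hww1, map_one]
    have hwc : f w (c0 • w) = 0 := by rw [f_smul_right hf, hw, mul_zero]
    obtain ⟨b, _, hb⟩ := tvGL hf w (c0 • w) hwc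
    have hbM : b ∈ M := utv_mem hf M hHM w hw c0 hc0σ b hb
    have hbiso := utv_iso hf w hw c0 hc0σ b hb
    have t2 := TV_conj_iso hf M _ u hw1u t1 b hbM hbiso
    rw [hb u, f_smul_right hf, huw, mul_zero, zero_smul, add_zero, hb, f_smul_right hf, hw1w,
      mul_one] at t2
    have t3 : TV f M (-((g : Matrix (Fin n) (Fin n) F) *ᵥ v)) u :=
      TV_neg_centre hf M _ u (TV_neg hf M _ u hw1u t1)
    have t4 := TV_add_centre hf M _ _ u
      (by rw [hf.add_left, hf.smul_left, hw1u, hwu, mul_zero, add_zero])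
      (by rw [f_neg_left hf, hw1u, neg_zero]) t2 t3
    have e : (g : Matrix (Fin n) (Fin n) F) *ᵥ v + σ c0 • w +
        -((g : Matrix (Fin n) (Fin n) F) *ᵥ v) = σ c0 • w := by abel
    rw [e, TV_scale hf, hf.involutive] at t4
    refine ⟨w, c0 • u, hw, hw0, by rw [f_smul_right hf, hwu, mul_zero], ?_, t4⟩
    intro hmem
    obtain ⟨d, hd⟩ := Submodule.mem_span_singleton.mp hmem
    have h1 : f (c0 • u) ((g : Matrix (Fin n) (Fin n) F) *ᵥ v) = 0 := by
      rw [hf.smul_left, f_swap_zero hf hw1u, mul_zero]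
    rw [← hd, hf.smul_left, hww1, mul_one] at h1
    rw [h1, zero_smul] at hd
    rcases smul_eq_zero.mp hd.symm with h2 | h2
    · exact hc0 h2
    · exact hu0 h2

theorem not_sim_tv [Finite F] (hf : Cfsg.Geo.IsUnitaryForm σ f) (hn : 13 ≤ n) :
    ∃ g : Matrix.GeneralLinearGroup (Fin n) F, g ∈ Cfsg.Geo.specialLinear (Fin n) F ∧
      g ∉ Cfsg.Geo.similarityGroup f := by
  have htop : n < 2 * Module.finrank F (⊤ : Submodule F (Fin n → F)) := by
    rw [finrank_top, Module.finrank_fin_fun]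
    omega
  obtain ⟨v, _, hv⟩ := exists_noniso hf ⊤ htop
  have hv0 : v ≠ 0 := by
    intro h0
    rw [h0, f_zero_left hf] at hv
    exact hv rfl
  obtain ⟨w, hw, hwv⟩ := ex1 hf (by omega) v hv0 1
  have hnot : w ∉ Submodule.span F {v} := by
    intro hmem
    obtain ⟨a, rfl⟩ := Submodule.mem_span_singleton.mp hmem
    rw [hf.smul_left, f_smul_right hf] at hw
    have ha : a = 0 := by
      rcases mul_eq_zero.mp hw with h1 | h1
      · exact h1
      · rcases mul_eq_zero.mp h1 with h2 | h2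
        · have := congrArg σ h2
          rwa [hf.involutive, map_zero] at this
        · exact absurd h2 hv
    rw [ha, zero_smul, f_zero_left hf] at hwv
    exact zero_ne_one hwv
  obtain ⟨u, hu⟩ := lin_solve hf ![v, w] (li2 v w hv0 hnot) ![0, 1]
  have huv : f u v = 0 := by
    have := hu 0
    simpa using this
  have huw : f u w = 1 := by
    have := hu 1
    simpa using this
  have hu0 : u ≠ 0 := by
    intro h0
    rw [h0, f_zero_left hf] at huw
    exact zero_ne_one huw
  have hvu : f v u = 0 := f_swap_zero hf huv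
  obtain ⟨t, htS, ht⟩ := tvGL hf v u hvu
  refine ⟨t, htS, ?_⟩
  rintro ⟨c, hc⟩
  have htv : (t : Matrix (Fin n) (Fin n) F) *ᵥ v = v := by
    rw [ht, hvu, zero_smul, add_zero]
  have key : ∀ x, f x v + f x u * f v v = (c : F) * f x v := by
    intro x
    have := hc x v
    rw [htv, ht, hf.add_left, hf.smul_left] at this
    exact this
  have hc1 : (c : F) = 1 := by
    have := key v
    rw [hvu, zero_mul, add_zero] at this
    have h2 : ((c : F) - 1) * f v v = 0 := by linear_combination -this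
    rcases mul_eq_zero.mp h2 with h3 | h3
    · exact sub_eq_zero.mp h3
    · exact absurd h3 hv
  obtain ⟨x, hx⟩ := (hf.nondegenerate u hu0).1
  apply hx
  have := key x
  rw [hc1, one_mul] at this
  have h2 : f x u * f v v = 0 := by linear_combination this
  rcases mul_eq_zero.mp h2 with h3 | h3
  · exact h3
  · exact absurd h3 hv

theorem result {F : Type*} [Field F] [Fintype F] (n : ℕ) (hn : 13 ≤ n) (σ : F ≃+* F) (f : (Fin n → F) → (Fin n → F) → F) (hf : Cfsg.Geo.IsUnitaryForm σ f) : Cfsg.Geo.IsMaximalIn (Cfsg.Geo.specialLinear (Fin n) F) (Cfsg.Geo.similarityGroup f ⊓ Cfsg.Geo.specialLinear (Fin n) F) := by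
  refine ⟨?_, ?_⟩
  · rw [SetLike.lt_iff_le_and_exists]
    refine ⟨inf_le_right, ?_⟩
    obtain ⟨g, hgS, hg⟩ := not_sim_tv hf hn
    exact ⟨g, hgS, fun h => hg h.1⟩
  · intro M hHM hMS
    by_cases hMH : M = Cfsg.Geo.similarityGroup f ⊓ Cfsg.Geo.specialLinear (Fin n) F
    · exact Or.inl hMH
    · right
      apply le_antisymm hMS
      have hex : ∃ g ∈ M, g ∉ Cfsg.Geo.similarityGroup f := by
        by_contra hcon
        push Not at hcon
        exact hMH (le_antisymm (fun g hg => ⟨hcon g hg, hMS hg⟩) hHM)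
      obtain ⟨g, hgM, hgsim⟩ := hex
      obtain ⟨w, u0, hw, hw0, hwu, hu0, t⟩ := start hf hn M hHM g hgM hgsim
      have hF : Full f M w := full hf hn M hHM w u0 hw hw0 hwu hu0 t
      apply SL_le (by omega) M
      exact all_tv hf hn M (fun w' hw' _ => full_trans hf hn M hHM w w' hw hw0 hw' hF)

end Cfsg.Agent.S5643
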