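import Cfsg.Statements.S0781
import Mathlib
import Cfsg.Statements.S0781
import Cfsg.Agent.S0779

set_option autoImplicit false
open Cfsg

namespace Cfsg.Agent.S0781

open Matrix

variable {F : Type*} [Field F] {n q : ℕ}

theorem h_add_left (x y z : Fin n → F) :
    Cfsg.hermForm n F q (x + y) z = Cfsg.hermForm n F q x z + Cfsg.hermForm n F q y z := by
  unfold Cfsg.hermForm
  rw [← Finset.sum_add_distrib]
  apply Finset.sum_congr rfl
  intro i _
  rw [Pi.add_apply]; ring

theorem h_smul_left (a : F) (x z : Fin n → F) :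
    Cfsg.hermForm n F q (a • x) z = a * Cfsg.hermForm n F q x z := by
  unfold Cfsg.hermForm
  rw [Finset.mul_sum]
  apply Finset.sum_congr rfl
  intro i _
  rw [Pi.smul_apply, smul_eq_mul]; ring

section
variable (φ : F →+* F) (hφ : ∀ x, φ x = x ^ q)
include hφ

theorem h_add_right (x y z : Fin n → F) :
    Cfsg.hermForm n F q x (y + z) = Cfsg.hermForm n F q x y + Cfsg.hermForm n F q x z := by
  rw [Cfsg.Agent.S0779.herm_eq φ hφ, Cfsg.Agent.S0779.herm_eq φ hφ, Cfsg.Agent.S0779.herm_eq φ hφ]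
  rw [← Finset.sum_add_distrib]
  apply Finset.sum_congr rfl
  intro i _
  rw [Pi.add_apply, map_add]; ring

theorem h_smul_right (a : F) (x z : Fin n → F) :
    Cfsg.hermForm n F q x (a • z) = φ a * Cfsg.hermForm n F q x z := by
  rw [Cfsg.Agent.S0779.herm_eq φ hφ, Cfsg.Agent.S0779.herm_eq φ hφ]
  rw [Finset.mul_sum]
  apply Finset.sum_congr rfl
  intro i _
  rw [Pi.smul_apply, smul_eq_mul, map_mul]; ring

theorem h_symm (hφ2 : ∀ x, φ (φ x) = x) (x y : Fin n → F) :
    φ (Cfsg.hermForm n F q x y) = Cfsg.hermForm n F q y x := by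
  rw [Cfsg.Agent.S0779.herm_eq φ hφ, Cfsg.Agent.S0779.herm_eq φ hφ, map_sum]
  apply Finset.sum_congr rfl
  intro i _
  rw [map_mul, hφ2, mul_comm]

end

/-- rank one update -/
theorem r1_mulVec (a b x : Fin n → F) :
    (1 + vecMulVec a b) *ᵥ x = x + (b ⬝ᵥ x) • a := by
  rw [Matrix.add_mulVec, Matrix.one_mulVec, Matrix.vecMulVec_mulVec, op_smul_eq_smul]

theorem r1_det (a b : Fin n → F) : (1 + vecMulVec a b).det = 1 + b ⬝ᵥ a := by
  rw [Matrix.vecMulVec_eq Unit, Matrix.det_one_add_replicateCol_mul_replicateRow]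

/-- the Heisenberg-type matrices -/
noncomputable def Emat (φ : F →+* F) (u v : Fin n → F) (β γ : F) : Matrix (Fin n) (Fin n) F :=
  (1 + vecMulVec u (fun j => β * φ (v j))) *
    (1 + vecMulVec v (fun j => -φ β * φ (u j) + γ * φ (v j)))

section
variable (φ : F →+* F) (hφ : ∀ x, φ x = x ^ q) (hφ2 : ∀ x, φ (φ x) = x)
  (u v : Fin n → F) (huv : Cfsg.hermForm n F q u v = 0) (hvv : Cfsg.hermForm n F q v v = 0)
include hφ

theorem dot1 (β : F) (x : Fin n → F) :
    (fun j => β * φ (v j)) ⬝ᵥ x = β * Cfsg.hermForm n F q x v := by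
  rw [Cfsg.Agent.S0779.herm_eq φ hφ, Finset.mul_sum]
  unfold dotProduct
  apply Finset.sum_congr rfl
  intro i _
  ring

theorem dot2 (β γ : F) (x : Fin n → F) :
    (fun j => -φ β * φ (u j) + γ * φ (v j)) ⬝ᵥ x =
      -φ β * Cfsg.hermForm n F q x u + γ * Cfsg.hermForm n F q x v := by
  rw [Cfsg.Agent.S0779.herm_eq φ hφ, Cfsg.Agent.S0779.herm_eq φ hφ, Finset.mul_sum, Finset.mul_sum,
    ← Finset.sum_add_distrib]
  unfold dotProduct
  apply Finset.sum_congr rfl
  intro i _
  ring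

include hvv in
theorem Emat_mulVec (β γ : F) (x : Fin n → F) :
    Emat φ u v β γ *ᵥ x = x + (β * Cfsg.hermForm n F q x v) • u +
      (-φ β * Cfsg.hermForm n F q x u + γ * Cfsg.hermForm n F q x v) • v := by
  unfold Emat
  rw [← Matrix.mulVec_mulVec, r1_mulVec, r1_mulVec, dot2 φ hφ, dot1 φ hφ, h_add_left, h_smul_left, hvv,
    mul_zero, add_zero]
  abel

include huv hvv hφ2 in
theorem Emat_det (β γ : F) : (Emat φ u v β γ).det = 1 := by
  unfold Emat
  have hvu : Cfsg.hermForm n F q v u = 0 := by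
    rw [← h_symm φ hφ hφ2, huv, map_zero]
  rw [Matrix.det_mul, r1_det, r1_det, dot1 φ hφ, dot2 φ hφ, huv, hvu, hvv]
  simp

include huv hvv hφ2 in
theorem Emat_pres (β γ : F)
    (hc : γ + φ γ + β * φ β * Cfsg.hermForm n F q u u = 0) (x y : Fin n → F) :
    Cfsg.hermForm n F q (Emat φ u v β γ *ᵥ x) (Emat φ u v β γ *ᵥ y) = Cfsg.hermForm n F q x y := by
  have hvu : Cfsg.hermForm n F q v u = 0 := by
    rw [← h_symm φ hφ hφ2, huv, map_zero]
  rw [Emat_mulVec φ hφ u v hvv, Emat_mulVec φ hφ u v hvv]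
  simp only [h_add_left, h_add_right φ hφ, h_smul_left, h_smul_right φ hφ, huv, hvu, hvv, map_add, map_mul,
    map_neg, hφ2]
  rw [h_symm φ hφ hφ2 y u, h_symm φ hφ hφ2 y v]
  linear_combination (Cfsg.hermForm n F q x v * Cfsg.hermForm n F q v y) * hc

end

section
variable (φ : F →+* F) (hφ : ∀ x, φ x = x ^ q) (hφ2 : ∀ x, φ (φ x) = x)
  (u v : Fin n → F) (huv : Cfsg.hermForm n F q u v = 0) (hvv : Cfsg.hermForm n F q v v = 0)

/-- the group element -/
noncomputable def Eelt (β γ : F)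
    (hc : γ + φ γ + β * φ β * Cfsg.hermForm n F q u u = 0) : ↥(Cfsg.SU n F q) :=
  ⟨⟨Emat φ u v β γ, Emat_det φ hφ hφ2 u v huv hvv β γ⟩, by
    intro x y
    exact Emat_pres φ hφ hφ2 u v huv hvv β γ hc x y⟩

theorem Eelt_coe (β γ : F)
    (hc : γ + φ γ + β * φ β * Cfsg.hermForm n F q u u = 0) :
    ((Eelt φ hφ hφ2 u v huv hvv β γ hc : Matrix.SpecialLinearGroup (Fin n) F) :
      Matrix (Fin n) (Fin n) F) = Emat φ u v β γ := rfl

end

open Polynomial in
theorem exists_trace_one {F : Type*} [Field F] {q : ℕ} [Fintype F] (hF : Fintype.card F = q ^ 2) (φ : F →+* F)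
    (hφ : ∀ x, φ x = x ^ q) (hφ2 : ∀ x, φ (φ x) = x) : ∃ g : F, g + φ g = 1 := by
  classical
  have hq : 2 ≤ q := by
    have h1 : 1 < Fintype.card F := Fintype.one_lt_card
    rw [hF] at h1
    by_contra hlt
    have : q ≤ 1 := by omega
    have : q ^ 2 ≤ 1 := by nlinarith
    omega
  have hex : ∃ s : F, s + s ^ q ≠ 0 := by
    by_contra hne
    push Not at hne
    have hdeg : (X ^ q + X : F[X]).natDegree = q := by
      rw [Polynomial.natDegree_add_eq_left_of_natDegree_lt]
      · simp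
      · simp; omega
    have hP : (X ^ q + X : F[X]) ≠ 0 := by
      intro h0
      rw [h0] at hdeg
      simp at hdeg
      omega
    have hle : Fintype.card F ≤ q := by
      calc Fintype.card F = (Finset.univ : Finset F).card := rfl
        _ ≤ (X ^ q + X : F[X]).roots.toFinset.card := by
            apply Finset.card_le_card
            intro s _
            rw [Multiset.mem_toFinset, Polynomial.mem_roots hP]
            simp [hne s, add_comm]
        _ ≤ Multiset.card (X ^ q + X : F[X]).roots := Multiset.toFinset_card_le _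
        _ ≤ (X ^ q + X : F[X]).natDegree := Polynomial.card_roots' _
        _ = q := hdeg
    rw [hF] at hle
    nlinarith
  obtain ⟨s, hs⟩ := hex
  rw [← hφ] at hs
  refine ⟨s / (s + φ s), ?_⟩
  have ht : φ (s + φ s) = s + φ s := by rw [map_add, hφ2, add_comm]
  rw [map_div₀, ht, ← add_div, div_self hs]

section
variable (φ : F →+* F) (hφ : ∀ x, φ x = x ^ q)
include hφ

theorem h_single_left (j : Fin n) (x : Fin n → F) :
    Cfsg.hermForm n F q (Pi.single j 1) x = φ (x j) := by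
  rw [Cfsg.Agent.S0779.herm_eq φ hφ, Finset.sum_eq_single j]
  · simp
  · intro b _ hb
    simp [hb]
  · simp

theorem h_single_right (j : Fin n) (x : Fin n → F) :
    Cfsg.hermForm n F q x (Pi.single j 1) = x j := by
  rw [Cfsg.Agent.S0779.herm_eq φ hφ, Finset.sum_eq_single j]
  · simp
  · intro b _ hb
    simp [hb]
  · simp

theorem exists_u [Fintype F] (hF : Fintype.card F = q ^ 2) (hφ2 : ∀ x, φ (φ x) = x) (hn : 3 ≤ n)
    (v : Fin n → F) (hv : v ≠ 0) :
    ∃ u : Fin n → F, Cfsg.hermForm n F q u v = 0 ∧ Cfsg.hermForm n F q u u ≠ 0 := by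
  classical
  have hex : ∃ i, v i ≠ 0 := by
    by_contra h
    push Not at h
    exact hv (funext h)
  obtain ⟨i₀, hi₀⟩ := hex
  have ha : φ (v i₀) ≠ 0 := fun h0 => hi₀ ((map_eq_zero φ).mp h0)
  have hcard : 1 < (Finset.univ.erase i₀).card := by
    rw [Finset.card_erase_of_mem (Finset.mem_univ _), Finset.card_univ, Fintype.card_fin]
    omega
  obtain ⟨j, hj, k, hk, hjk⟩ := Finset.one_lt_card.mp hcard
  have hj0 : j ≠ i₀ := (Finset.mem_erase.mp hj).1
  have hk0 : k ≠ i₀ := (Finset.mem_erase.mp hk).1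
  -- the vectors w
  let w : Fin n → (Fin n → F) := fun j => φ (v i₀) • Pi.single j 1 - φ (v j) • Pi.single i₀ 1
  have hwv : ∀ j, Cfsg.hermForm n F q (w j) v = 0 := by
    intro j
    show Cfsg.hermForm n F q (φ (v i₀) • Pi.single j 1 - φ (v j) • Pi.single i₀ 1) v = 0
    rw [sub_eq_add_neg, ← neg_smul, h_add_left, h_smul_left, h_smul_left, h_single_left φ hφ,
      h_single_left φ hφ]
    ring
  have hww : ∀ j k, j ≠ i₀ → k ≠ i₀ → Cfsg.hermForm n F q (w j) (w k) =
      (if j = k then φ (v i₀) * v i₀ else 0) + v k * φ (v j) := by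
    intro j k hj hk
    show Cfsg.hermForm n F q (w j) (φ (v i₀) • Pi.single k 1 - φ (v k) • Pi.single i₀ 1) = _
    rw [sub_eq_add_neg, ← neg_smul, h_add_right φ hφ, h_smul_right φ hφ, h_smul_right φ hφ,
      h_single_right φ hφ, h_single_right φ hφ, map_neg, hφ2, hφ2]
    show v i₀ * (φ (v i₀) • Pi.single j 1 - φ (v j) • Pi.single i₀ 1 : Fin n → F) k +
      -v k * (φ (v i₀) • Pi.single j 1 - φ (v j) • Pi.single i₀ 1 : Fin n → F) i₀ = _
    simp only [Pi.sub_apply, Pi.smul_apply, smul_eq_mul, Pi.single_apply]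
    rw [if_neg hk, if_neg hj.symm, if_true]
    by_cases hjk : j = k
    · rw [if_pos hjk.symm, if_pos hjk]; ring
    · rw [if_neg (Ne.symm hjk), if_neg hjk]; ring
  by_cases hA : ∃ j, j ≠ i₀ ∧ φ (v i₀) * v i₀ + v j * φ (v j) ≠ 0
  · obtain ⟨j, hj, hne⟩ := hA
    refine ⟨w j, hwv j, ?_⟩
    rw [hww j j hj hj, if_pos rfl]
    exact hne
  · push Not at hA
    have hvj : v j ≠ 0 := by
      intro h0
      have := hA j hj0
      rw [h0, zero_mul, add_zero] at this
      rcases mul_eq_zero.mp this with h | h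
      · exact ha h
      · exact hi₀ h
    have hvk : v k ≠ 0 := by
      intro h0
      have := hA k hk0
      rw [h0, zero_mul, add_zero] at this
      rcases mul_eq_zero.mp this with h | h
      · exact ha h
      · exact hi₀ h
    obtain ⟨g, hg⟩ := exists_trace_one hF φ hφ hφ2
    have hz : v j * φ (v k) ≠ 0 := mul_ne_zero hvj (fun h0 => hvk ((map_eq_zero φ).mp h0))
    refine ⟨w j + (g / (v j * φ (v k))) • w k, ?_, ?_⟩
    · rw [h_add_left, h_smul_left, hwv, hwv]; ring
    · rw [h_add_left, h_add_right φ hφ, h_add_right φ hφ, h_smul_left, h_smul_left, h_smul_right φ hφ,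
        h_smul_right φ hφ, hww j j hj0 hj0, hww k k hk0 hk0, hww j k hj0 hk0, hww k j hk0 hj0,
        if_pos rfl, if_pos rfl, if_neg hjk, if_neg (Ne.symm hjk), hA j hj0, hA k hk0]
      rw [map_div₀, map_mul, hφ2]
      have hφj : φ (v j) ≠ 0 := fun h0 => hvj ((map_eq_zero φ).mp h0)
      have hφk : φ (v k) ≠ 0 := fun h0 => hvk ((map_eq_zero φ).mp h0)
      have key : ∀ X : F, X = g + φ g → X ≠ 0 := fun X hX => by rw [hX, hg]; exact one_ne_zero
      apply key
      field_simp
      ring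

end


theorem main [Fintype F] (hF : Fintype.card F = q ^ 2) (hn : 3 ≤ n)
    (A : ↥(Cfsg.SU n F q)) (v : Fin n → F) (c : F) (hv0 : Cfsg.hermForm n F q v v = 0)
    (hA : ((A : Matrix.SpecialLinearGroup (Fin n) F) : Matrix (Fin n) (Fin n) F) =
      Cfsg.unitaryTransvection n q v c) : A ∈ commutatorSet ↥(Cfsg.SU n F q) := by
  obtain ⟨φ, hφ, hφ2⟩ := Cfsg.Agent.S0779.exists_frob hF
  have hq1 : 1 ≤ q := by
    rcases Nat.eq_zero_or_pos q with h | h
    · rw [h] at hF
      have : 0 < Fintype.card F := Fintype.card_pos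
      omega
    · exact h
  by_cases hv : v = 0
  · have : A = 1 := by
      apply Subtype.ext
      apply Subtype.ext
      rw [hA, hv]
      unfold Cfsg.unitaryTransvection
      simp
    rw [this]
    exact ⟨1, 1, by simp⟩
  -- c^q = -c
  have hcq : φ c = -c := by
    have h1 : ∀ x y : Fin n → F, Cfsg.hermForm n F q ((Cfsg.unitaryTransvection n q v c).mulVec x)
        ((Cfsg.unitaryTransvection n q v c).mulVec y) = Cfsg.hermForm n F q x y := by
      intro x y
      have := A.2 x y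
      rw [← hA]
      exact this
    rcases (Cfsg.Agent.S0779.result hF n v hv hv0 c).mp h1 with h | h
    · rw [h, map_zero, neg_zero]
    · rw [hφ]
      have : c ^ q = c * c ^ (q - 1) := by
        rw [← pow_succ']; congr 1; omega
      rw [this, h]; ring
  obtain ⟨u, huv, huu⟩ := exists_u φ hφ hF hφ2 hn v hv
  obtain ⟨g, hg⟩ := exists_trace_one hF φ hφ hφ2
  have hη : φ (Cfsg.hermForm n F q u u) = Cfsg.hermForm n F q u u := h_symm φ hφ hφ2 u u
  -- the parameters
  have hc2 : (-(Cfsg.hermForm n F q u u * g)) + φ (-(Cfsg.hermForm n F q u u * g)) +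
      1 * φ 1 * Cfsg.hermForm n F q u u = 0 := by
    rw [map_neg, map_mul, hη, map_one]
    linear_combination (-Cfsg.hermForm n F q u u) * hg
  have hc1 : (-(g * c / Cfsg.hermForm n F q u u * φ (g * c / Cfsg.hermForm n F q u u) *
        Cfsg.hermForm n F q u u * g)) +
      φ (-(g * c / Cfsg.hermForm n F q u u * φ (g * c / Cfsg.hermForm n F q u u) *
        Cfsg.hermForm n F q u u * g)) +
      (g * c / Cfsg.hermForm n F q u u) * φ (g * c / Cfsg.hermForm n F q u u) *
        Cfsg.hermForm n F q u u = 0 := by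
    simp only [map_neg, map_mul, map_div₀, hη, hφ2, hcq]
    field_simp
    linear_combination (g * c * φ g * c) * hg
  refine ⟨Eelt φ hφ hφ2 u v huv hv0 _ _ hc1, Eelt φ hφ hφ2 u v huv hv0 _ _ hc2, ?_⟩
  rw [commutatorElement_def, mul_inv_eq_iff_eq_mul, mul_inv_eq_iff_eq_mul]
  apply Subtype.ext
  apply Subtype.ext
  rw [Subgroup.coe_mul, Subgroup.coe_mul, Subgroup.coe_mul, Matrix.SpecialLinearGroup.coe_mul,
    Matrix.SpecialLinearGroup.coe_mul, Matrix.SpecialLinearGroup.coe_mul, hA, Eelt_coe, Eelt_coe]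
  rw [Matrix.ext_iff_mulVec]
  intro x
  rw [← Matrix.mulVec_mulVec, ← Matrix.mulVec_mulVec, ← Matrix.mulVec_mulVec,
    Cfsg.Agent.S0779.utv_mulVec, Emat_mulVec φ hφ u v hv0, Emat_mulVec φ hφ u v hv0,
    Emat_mulVec φ hφ u v hv0, Emat_mulVec φ hφ u v hv0]
  have hvu : Cfsg.hermForm n F q v u = 0 := by
    rw [← h_symm φ hφ hφ2, huv, map_zero]
  simp only [h_add_left, h_smul_left, huv, hvu, hv0, map_one, map_mul, map_div₀, hη, hcq]
  ext i
  simp only [Pi.add_apply, Pi.smul_apply, smul_eq_mul]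
  field_simp
  linear_combination (Cfsg.hermForm n F q u u * c * Cfsg.hermForm n F q x v * v i) * hg


/-- In SU_n(q) with n ≥ 4, or n = 3 and q > 2, every element whose matrix is a unitary transvection x ↦ x + c h(x, v) v (v isotropic) is a commutator ⁅B, C⁆ of two elements of SU_n(q). -/
theorem result {F : Type*} [Field F] [Fintype F] {q : ℕ} (hF : Fintype.card F = q ^ 2) (n : ℕ) (hn : 4 ≤ n ∨ (n = 3 ∧ 3 ≤ q)) (A : ↥(Cfsg.SU n F q)) (v : Fin n → F) (c : F) (hv0 : Cfsg.hermForm n F q v v = 0) (hA : ((A : Matrix.SpecialLinearGroup (Fin n) F) : Matrix (Fin n) (Fin n) F) = Cfsg.unitaryTransvection n q v c) : A ∈ commutatorSet ↥(Cfsg.SU n F q) := by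
  exact main hF (by rcases hn with h | ⟨h, _⟩ <;> omega) A v c hv0 hA

end Cfsg.Agent.S0781
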