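import Cfsg.Statements.S1515
import Mathlib
import Cfsg.Agent.Lib.Helper11.VirtChar
import Cfsg.Agent.Lib.Helper11.LinChar

set_option autoImplicit false
open Cfsg

namespace Cfsg.Agent.S1515

open Cfsg.Agent.Lib.Helper11 Cfsg.Agent.Lib.Helper25 Cfsg.Agent.Lib.helper2
open scoped ComplexConjugate

/-- Let (S, τ, R) be a coherence system from L to G, χ ∈ S, and ψ an integer combination of S with ⟨χ, ψ⟩ = ⟨conj χ, ψ⟩ = 0. Let τ₁ be a linear isometry on the integer combinations of χ − ψ and χ − conj χ, with virtual-character values, agreeing with τ on integer multiples of χ − conj χ. Then the sum over α ∈ R χ of the squared absolute values of ⟨τ₁(χ − ψ), α⟩ is at least ⟨χ, χ⟩; and if ⟨τ₁(χ − ψ), τ₁(χ − ψ)⟩ minus that sum is at least ⟨ψ, ψ⟩, then the sum equals ⟨χ, χ⟩ and every ⟨τ₁(χ − ψ), α⟩ with α ∈ R χ is 0 or 1. -/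
theorem result {L : Type*} [Group L] [Fintype L] {G : Type*} [Group G] [Fintype G] (S : Set (L → ℂ)) (τ : (L → ℂ) → (G → ℂ)) (R : (L → ℂ) → Finset (G → ℂ)) (hS : Cfsg.IsCoherenceSystem S τ R) (χ : L → ℂ) (hχ : χ ∈ S) (ψ : L → ℂ) (hψ : ψ ∈ Cfsg.zspan S) (h1 : Cfsg.classInner χ ψ = 0) (h2 : Cfsg.classInner (Cfsg.conjFun χ) ψ = 0) (τ₁ : (L → ℂ) → (G → ℂ)) (hτ₁ : Cfsg.IsLinearIsometryOn (Cfsg.zspan {χ - ψ, χ - Cfsg.conjFun χ}) τ₁) (hagree : ∀ n : ℤ, τ₁ (n • (χ - Cfsg.conjFun χ)) = τ (n • (χ - Cfsg.conjFun χ))) : (Cfsg.classInner χ χ).re ≤ ∑ α ∈ R χ, ‖Cfsg.classInner (τ₁ (χ - ψ)) α‖ ^ 2 ∧ ((Cfsg.classInner ψ ψ).re ≤ (Cfsg.classInner (τ₁ (χ - ψ)) (τ₁ (χ - ψ))).re - ∑ α ∈ R χ, ‖Cfsg.classInner (τ₁ (χ - ψ)) α‖ ^ 2 → (∑ α ∈ R χ, ‖Cfsg.classInner (τ₁ (χ - ψ)) α‖ ^ 2 = (Cfsg.classInner χ χ).re ∧ ∀ α ∈ R χ, Cfsg.classInner (τ₁ (χ - ψ)) α = 0 ∨ Cfsg.classInner (τ₁ (χ - ψ)) α = 1)) := by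
  classical
  obtain ⟨hadd, hsmul, hiso, hgen⟩ := hτ₁
  have hm1 : χ - ψ ∈ Cfsg.zspan {χ - ψ, χ - Cfsg.conjFun χ} :=
    Submodule.subset_span (by simp)
  have hm2 : χ - Cfsg.conjFun χ ∈ Cfsg.zspan {χ - ψ, χ - Cfsg.conjFun χ} :=
    Submodule.subset_span (by simp)
  set X := τ₁ (χ - ψ) with hX
  have hXgen : Cfsg.IsGeneralizedCharacter G X := hgen _ hm1
  -- integrality
  have hint : ∀ α ∈ R χ, ∃ z : ℤ, Cfsg.classInner X α = (z : ℂ) := fun α hα =>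
    genChar_inner_genChar_int X α hXgen (hS.virtual χ hχ α hα)
  -- τ₁ (χ - conj χ) = ∑ α
  have hY : τ₁ (χ - Cfsg.conjFun χ) = ∑ α ∈ R χ, α := by
    have := hagree 1
    rw [one_smul] at this
    rw [this, hS.sum_eq χ hχ]
  have hψχ : Cfsg.classInner ψ χ = 0 := by
    rw [Cfsg.Agent.Lib.Helper11.classInner_conj_symm, h1, map_zero]
  have hψχ' : Cfsg.classInner ψ (Cfsg.conjFun χ) = 0 := by
    rw [Cfsg.Agent.Lib.Helper11.classInner_conj_symm, h2, map_zero]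
  have hχχ' : Cfsg.classInner χ (Cfsg.conjFun χ) = 0 :=
    hS.orthogonal χ hχ _ (hS.conj_mem χ hχ) (Ne.symm (hS.conj_ne χ hχ))
  have hsum : ∑ α ∈ R χ, Cfsg.classInner X α = Cfsg.classInner χ χ := by
    rw [← classInner_sum_right'', ← hY, hX, hiso _ hm1 _ hm2, classInner_sub_left',
      classInner_sub_right'', classInner_sub_right'', hχχ', hψχ, hψχ']
    ring
  have hXX : Cfsg.classInner X X = Cfsg.classInner χ χ + Cfsg.classInner ψ ψ := by
    rw [hX, hiso _ hm1 _ hm1, classInner_sub_left', classInner_sub_right'',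
      classInner_sub_right'', h1, hψχ]
    ring
  -- choose the integers
  have hint' : ∀ α : G → ℂ, ∃ z : ℤ, α ∈ R χ → Cfsg.classInner X α = (z : ℂ) := by
    intro α
    by_cases hα : α ∈ R χ
    · obtain ⟨z, hz⟩ := hint α hα
      exact ⟨z, fun _ => hz⟩
    · exact ⟨0, fun h => absurd h hα⟩
  choose z hz using hint'
  have hnorm : ∀ α ∈ R χ, ‖Cfsg.classInner X α‖ ^ 2 = ((z α * z α : ℤ) : ℝ) := by
    intro α hα
    rw [hz α hα]
    rw [Complex.norm_intCast, sq_abs]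
    push_cast
    ring
  have hre : (Cfsg.classInner χ χ).re = ((∑ α ∈ R χ, z α : ℤ) : ℝ) := by
    rw [← hsum, Finset.sum_congr rfl (fun α hα => hz α hα)]
    rw [← Int.cast_sum]
    simp
  have hsq : ∑ α ∈ R χ, ‖Cfsg.classInner X α‖ ^ 2 = ((∑ α ∈ R χ, z α * z α : ℤ) : ℝ) := by
    rw [Finset.sum_congr rfl hnorm]
    push_cast
    rfl
  have hle : ∀ α ∈ R χ, z α ≤ z α * z α := by
    intro α _
    nlinarith [sq_nonneg (z α), sq_nonneg (z α - 1)]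
  have hA : (∑ α ∈ R χ, z α : ℤ) ≤ ∑ α ∈ R χ, z α * z α := Finset.sum_le_sum hle
  constructor
  · rw [hre, hsq]
    exact_mod_cast hA
  · intro hB
    rw [hXX, Complex.add_re, hsq, hre] at hB
    have hB' : ((∑ α ∈ R χ, z α * z α : ℤ) : ℝ) ≤ ((∑ α ∈ R χ, z α : ℤ) : ℝ) := by linarith
    have hB'' : (∑ α ∈ R χ, z α * z α : ℤ) ≤ ∑ α ∈ R χ, z α := by exact_mod_cast hB'
    have heq : (∑ α ∈ R χ, z α : ℤ) = ∑ α ∈ R χ, z α * z α := le_antisymm hA hB''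
    constructor
    · rw [hsq, hre, heq]
    · intro α hα
      have h3 := (Finset.sum_eq_sum_iff_of_le hle).mp heq α hα
      rw [hz α hα]
      have h4 : z α * (z α - 1) = 0 := by
        have : z α * (z α - 1) = z α * z α - z α := by ring
        rw [this, ← h3, sub_self]
      rcases mul_eq_zero.mp h4 with h | h
      · left
        rw [h]
        simp
      · right
        have : z α = 1 := by omega
        rw [this]
        simp

end Cfsg.Agent.S1515
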