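import Cfsg.Statements.S1492
import Mathlib
import Cfsg.Agent.Lib.helper2.CharInd
import Cfsg.Agent.Lib.Helper25.CharAbelian
import Cfsg.Agent.Lib.Helper25.CharBound

set_option autoImplicit false
open Cfsg

namespace Cfsg.Agent.S1492

open Cfsg.Agent.Lib.Helper25 Cfsg.Agent.Lib.helper2 Cfsg.Agent.Lib.helper7
open scoped ComplexConjugate

theorem eq_of_sum_eq' {ι : Type*} (s : Finset ι) (z : ι → ℂ) (c : ι → ℝ)
    (hle : ∀ i ∈ s, ‖z i‖ ≤ c i) (hsum : ∑ i ∈ s, z i = ∑ i ∈ s, (c i : ℂ)) :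
    ∀ i ∈ s, z i = (c i : ℂ) := by
  have hre : ∑ i ∈ s, (z i).re = ∑ i ∈ s, c i := by
    have := congrArg Complex.re hsum
    rw [Complex.re_sum, Complex.re_sum] at this
    simpa using this
  have hle' : ∀ i ∈ s, (z i).re ≤ c i := fun i hi => (Complex.re_le_norm (z i)).trans (hle i hi)
  have h1 := (Finset.sum_eq_sum_iff_of_le hle').mp hre
  intro i hi
  have hr : (z i).re = c i := h1 i hi
  have hn := hle i hi
  have hc : 0 ≤ c i := (norm_nonneg _).trans hn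
  have hsq : ‖z i‖ ^ 2 ≤ c i ^ 2 := pow_le_pow_left₀ (norm_nonneg _) hn 2
  rw [Complex.sq_norm, Complex.normSq_apply, hr] at hsq
  have him : (z i).im = 0 := by nlinarith
  apply Complex.ext
  · simpa using hr
  · simpa using him

/-- an irreducible character whose values on the commutators `[D, C]` equal its degree has
`|D| ξ(1)^2 ≤ |C|` -/
theorem central_bound {C : Type*} [Group C] [Fintype C] (ξ : Cfsg.IrrCharacter C) (D : Subgroup C)
    (dξ : ℕ) (hdξ : (ξ : C → ℂ) 1 = (dξ : ℂ))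
    (hcomm : ∀ d ∈ D, ∀ c : C, (ξ : C → ℂ) (c * d⁻¹ * c⁻¹ * d) = (ξ : C → ℂ) 1) :
    Nat.card D * dξ ^ 2 ≤ Nat.card C := by
  classical
  obtain ⟨n, hn, hn1⟩ := irr_one_eq_finrank ξ
  have hdn : dξ = n := by
    rw [hdξ] at hn1
    exact_mod_cast hn1
  have hnorm : ∀ d ∈ D, ‖(ξ : C → ℂ) d‖ ^ 2 = (dξ : ℝ) ^ 2 := by
    intro d hd
    have h1 := irr_sum_conj_mul ξ d⁻¹ d
    rw [Finset.sum_congr rfl (fun c _ => hcomm d hd c), Finset.sum_const, Finset.card_univ,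
      nsmul_eq_mul, ← Nat.card_eq_fintype_card, irr_inv] at h1
    have hC : (Nat.card C : ℂ) ≠ 0 := by exact_mod_cast Nat.card_pos.ne'
    have h1ne : (ξ : C → ℂ) 1 ≠ 0 := irr_one_ne_zero ξ
    have h2 : (ξ : C → ℂ) 1 * (ξ : C → ℂ) 1 = conj ((ξ : C → ℂ) d) * (ξ : C → ℂ) d := by
      rw [eq_div_iff h1ne] at h1
      exact mul_left_cancel₀ hC (by linear_combination h1 :
        (Nat.card C : ℂ) * ((ξ : C → ℂ) 1 * (ξ : C → ℂ) 1) =
          (Nat.card C : ℂ) * (conj ((ξ : C → ℂ) d) * (ξ : C → ℂ) d))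
    rw [hdξ, mul_comm (conj _), Complex.mul_conj, Complex.normSq_eq_norm_sq] at h2
    have h3 : ((dξ : ℝ) * (dξ : ℝ) : ℝ) = ‖(ξ : C → ℂ) d‖ ^ 2 := by exact_mod_cast h2
    rw [sq (dξ : ℝ)]
    exact h3.symm
  have hsum := irr_sum_norm_sq ξ
  have hle : ∑ c ∈ Finset.univ.filter (fun c : C => c ∈ D), ‖(ξ : C → ℂ) c‖ ^ 2 ≤
      ∑ c : C, ‖(ξ : C → ℂ) c‖ ^ 2 :=
    Finset.sum_le_sum_of_subset_of_nonneg (Finset.filter_subset _ _)
      (fun i _ _ => sq_nonneg _)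
  rw [hsum, Finset.sum_congr rfl (fun c hc => hnorm c (Finset.mem_filter.mp hc).2),
    Finset.sum_const, nsmul_eq_mul] at hle
  have hcard : (Finset.univ.filter (fun c : C => c ∈ D)).card = Nat.card D := by
    rw [Nat.card_eq_fintype_card, Fintype.card_subtype]
  rw [hcard] at hle
  exact_mod_cast hle

/-- Let ψ be an irreducible character of the finite group G and B ≤ D ≤ C subgroups with B normal in C, every commutator of an element of D with an element of C lying in B (so D/B is central in C/B), and ψ constant equal to ψ 1 on B. Then ψ(1) ^ 2 * |C| * |D| ≤ |G| ^ 2. -/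
theorem result {G : Type*} [Group G] [Finite G] (ψ : G → ℂ) (hψ : Cfsg.IsIrrCharacter G ψ) (B C D : Subgroup G) (hBD : B ≤ D) (hDC : D ≤ C) (hBn : ∀ c ∈ C, ∀ b ∈ B, c * b * c⁻¹ ∈ B) (hcent : ∀ d ∈ D, ∀ c ∈ C, d * c * d⁻¹ * c⁻¹ ∈ B) (hker : ∀ b ∈ B, ψ b = ψ 1) : ‖ψ 1‖ ^ 2 * (Nat.card C : ℝ) * (Nat.card D : ℝ) ≤ (Nat.card G : ℝ) ^ 2 := by
  classical
  have : Fintype G := Fintype.ofFinite _
  have : Fintype C := Fintype.ofFinite _
  have : Fintype (Cfsg.IrrCharacter C) := Fintype.ofFinite _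
  have hψc := isCharacter_of_irr ⟨ψ, hψ⟩
  obtain ⟨dψ, hdψpos, hdψ⟩ := irr_one_eq_finrank ⟨ψ, hψ⟩
  simp only at hdψ
  have hres := isCharacter_restrict hψc C
  obtain ⟨n, hn, hexp⟩ := isCharacter_expansion hres
  have hne1 : (fun c : C => ψ c) 1 ≠ 0 := by
    show ψ ((1 : C) : G) ≠ 0
    rw [Subgroup.coe_one, hdψ]
    exact_mod_cast hdψpos.ne'
  obtain ⟨ξ, a, hapos, ha⟩ := isCharacter_exists_constituent hres hne1
  have hnξ : n ξ = a := by
    have := hn ξ
    rw [ha] at this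
    exact_mod_cast this.symm
  obtain ⟨dξ, hdξpos, hdξ⟩ := irr_one_eq_finrank ξ
  -- ξ = ξ 1 on B
  have hd : ∀ φ : Cfsg.IrrCharacter C, ∃ d : ℕ, (φ : C → ℂ) 1 = (d : ℂ) := by
    intro φ
    obtain ⟨k, _, h⟩ := irr_one_eq_finrank φ
    exact ⟨k, h⟩
  choose d hd using hd
  have hξB : ∀ b : C, (b : G) ∈ B → (ξ : C → ℂ) b = (ξ : C → ℂ) 1 := by
    intro b hb
    have e1 := congrFun hexp b
    have e2 := congrFun hexp 1
    simp only [Finset.sum_apply, Pi.smul_apply, smul_eq_mul] at e1 e2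
    rw [hker b hb] at e1
    rw [Subgroup.coe_one] at e2
    have hsum : ∑ φ : Cfsg.IrrCharacter C, (n φ : ℂ) * (φ : C → ℂ) b =
        ∑ φ : Cfsg.IrrCharacter C, (((n φ * d φ : ℕ) : ℝ) : ℂ) := by
      rw [← e1, e2]
      apply Finset.sum_congr rfl
      intro φ _
      rw [hd φ]
      push_cast
      rfl
    have := eq_of_sum_eq' Finset.univ (fun φ : Cfsg.IrrCharacter C => (n φ : ℂ) * (φ : C → ℂ) b)
      (fun φ => ((n φ * d φ : ℕ) : ℝ)) (by
        intro φ _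
        rw [norm_mul, Complex.norm_natCast]
        have h1 := irr_norm_le φ b
        rw [hd φ, Complex.norm_natCast] at h1
        push_cast
        exact mul_le_mul_of_nonneg_left h1 (Nat.cast_nonneg _)) hsum ξ (Finset.mem_univ _)
    rw [hnξ] at this
    have hane : (a : ℂ) ≠ 0 := by exact_mod_cast hapos.ne'
    apply mul_left_cancel₀ hane
    rw [this, hd ξ]
    push_cast
    rfl
  -- the bound |D| ξ(1)^2 ≤ |C|
  have hcb := central_bound ξ (D.subgroupOf C) dξ hdξ (by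
    intro dd hdd c
    apply hξB
    have hdD : ((dd : C) : G) ∈ D := Subgroup.mem_subgroupOf.mp hdd
    have h1 := hcent (dd : G)⁻¹ (D.inv_mem hdD) c c.2
    have h2 := B.inv_mem h1
    have e : ((c * dd⁻¹ * c⁻¹ * dd : C) : G) = ((dd : G)⁻¹ * c * (dd : G)⁻¹⁻¹ * (c : G)⁻¹)⁻¹ := by
      push_cast
      group
    rw [e]
    exact h2)
  have hcardD : Nat.card (D.subgroupOf C) = Nat.card D :=
    Nat.card_congr (Subgroup.subgroupOfEquivOfLe hDC).toEquiv
  rw [hcardD] at hcb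
  -- ψ(1) ≤ [G:C] ξ(1)
  have hIndChar := isCharacter_indFun C (ξ : C → ℂ) (isCharacter_of_irr ξ)
  have hind1 : Cfsg.indFun C (ξ : C → ℂ) 1 = ((C.index * dξ : ℕ) : ℂ) := by
    rw [h7_indFun_one, hdξ]
    push_cast
    rfl
  have hfrob : Cfsg.classInner (Cfsg.indFun C (ξ : C → ℂ)) ψ = (a : ℂ) := by
    rw [h7_frobenius_reciprocity C _ ψ (isCharacter_isClassFunction hψc)]
    exact classInner_symm_of_nat _ _ _ ha
  have hdeg := isCharacter_degree_ge hIndChar ⟨ψ, hψ⟩ a (C.index * dξ) dψ hfrob hind1 hdψ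
  have hdeg' : dψ ≤ C.index * dξ := by
    calc dψ = 1 * dψ := (one_mul _).symm
      _ ≤ a * dψ := Nat.mul_le_mul_right _ hapos
      _ ≤ _ := hdeg
  have hGC : C.index * Nat.card C = Nat.card G := Subgroup.index_mul_card C
  have hfinal : dψ ^ 2 * Nat.card C * Nat.card D ≤ Nat.card G ^ 2 := by
    calc dψ ^ 2 * Nat.card C * Nat.card D ≤ (C.index * dξ) ^ 2 * Nat.card C * Nat.card D := by
          apply Nat.mul_le_mul_right
          apply Nat.mul_le_mul_right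
          exact Nat.pow_le_pow_left hdeg' 2
      _ = C.index ^ 2 * Nat.card C * (Nat.card D * dξ ^ 2) := by ring
      _ ≤ C.index ^ 2 * Nat.card C * Nat.card C := Nat.mul_le_mul_left _ hcb
      _ = Nat.card G ^ 2 := by rw [← hGC]; ring
  rw [hdψ, Complex.norm_natCast]
  exact_mod_cast hfinal

end Cfsg.Agent.S1492
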