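import Cfsg.Statements.S1242
import Cfsg.Agent.Lib.Helper9.Transfer
import Cfsg.Agent.Lib.Helper13.PResidual

set_option autoImplicit false
open Cfsg

namespace Cfsg.Agent.S1242

open Cfsg.Agent.Lib.Helper9 Cfsg.Agent.Lib.Helper13
open scoped IsMulCommutative

theorem eq_one_of_pow_eq_one_of_coprime {p : ℕ} {Q : Type*} [Group Q] (hQ : IsPGroup p Q) (q : Q)
    (n : ℕ) (hn : Nat.Coprime p n) (h : q ^ n = 1) : q = 1 := by
  obtain ⟨k, hk⟩ := hQ q
  have h1 : orderOf q ∣ p ^ k := orderOf_dvd_of_pow_eq_one hk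
  have h2 : orderOf q ∣ n := orderOf_dvd_of_pow_eq_one h
  have h3 : orderOf q = 1 := Nat.eq_one_of_dvd_coprimes (Nat.Coprime.pow_left k hn) h1 h2
  exact orderOf_eq_one_iff.1 h3

/-- Let G be a finite group, p a prime and H a subgroup of index prime to p such that any two elements of H of p-power order that are conjugate in G are conjugate in H. Then (O^p(G)·G') ∩ H = O^p(H)·H', where O^p denotes the subgroup generated by the elements of order prime to p. -/
theorem result {G : Type*} [Group G] [Finite G] {p : ℕ} [Fact p.Prime] (H : Subgroup G) (hidx : Nat.Coprime p H.index) (hfus : ∀ g ∈ H, (∃ k : ℕ, orderOf g = p ^ k) → ∀ a : G, a * g * a⁻¹ ∈ H → ∃ h ∈ H, h * g * h⁻¹ = a * g * a⁻¹) : (Cfsg.pResidual p G ⊔ commutator G) ⊓ H = (Cfsg.pResidual p ↥H ⊔ commutator ↥H).map H.subtype := by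
  classical
  have hp : p.Prime := Fact.out
  have hnH := pResidual_normal' (G := H) p
  apply le_antisymm
  · intro x hx
    obtain ⟨hxA, hxH⟩ := Subgroup.mem_inf.1 hx
    have hK'n : (Cfsg.pResidual p ↥H ⊔ commutator ↥H).Normal := inferInstance
    have hcomm : IsMulCommutative (H ⧸ (Cfsg.pResidual p ↥H ⊔ commutator ↥H)) :=
      Subgroup.Normal.quotient_commutative_iff_commutator_le.mpr le_sup_right
    let ϕ : H →* (H ⧸ (Cfsg.pResidual p ↥H ⊔ commutator ↥H)) := QuotientGroup.mk' _
    have hQ : IsPGroup p (H ⧸ (Cfsg.pResidual p ↥H ⊔ commutator ↥H)) := by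
      intro q
      obtain ⟨y, rfl⟩ := QuotientGroup.mk_surjective q
      obtain ⟨k, hk⟩ := exists_pow_mem_pResidual p y
      refine ⟨k, ?_⟩
      rw [← QuotientGroup.mk_pow]
      exact (QuotientGroup.eq_one_iff _).2 (le_sup_left (a := Cfsg.pResidual p ↥H) hk)
    -- the transfer kills O^p(G) G'
    have hker : Cfsg.pResidual p G ⊔ commutator G ≤ (MonoidHom.transfer ϕ).ker := by
      apply sup_le
      · rw [show Cfsg.pResidual p G = Subgroup.closure {g : G | Nat.Coprime (orderOf g) p} from rfl,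
          Subgroup.closure_le]
        intro g hg
        have hg' : Nat.Coprime (orderOf g) p := hg
        rw [SetLike.mem_coe, MonoidHom.mem_ker]
        apply eq_one_of_pow_eq_one_of_coprime hQ _ (orderOf g) hg'.symm
        rw [← map_pow, pow_orderOf_eq_one, map_one]
      · exact Abelianization.commutator_subset_ker _
    -- on p-elements of H the transfer is the power map
    have hpow : ∀ y : G, ∀ hy : y ∈ H, (∃ k : ℕ, orderOf y = p ^ k) →
        MonoidHom.transfer ϕ y = ϕ ⟨y, hy⟩ ^ H.index := by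
      intro y hy hyp
      apply transfer_eq_pow_of_ctrl ϕ y hy
      intro k g₀ h
      obtain ⟨j, hj⟩ := hyp
      have hyk : ∃ i : ℕ, orderOf (y ^ k) = p ^ i := by
        have : orderOf (y ^ k) ∣ p ^ j := by
          rw [← hj]; exact orderOf_pow_dvd k
        obtain ⟨i, -, hi⟩ := (Nat.dvd_prime_pow hp).1 this
        exact ⟨i, hi⟩
      obtain ⟨c, hc, hc'⟩ := hfus (y ^ k) (H.pow_mem hy k) hyk g₀⁻¹ (by simpa using h)
      have e : (⟨g₀⁻¹ * y ^ k * g₀, h⟩ : H) = ⟨c, hc⟩ * ⟨y, hy⟩ ^ k * ⟨c, hc⟩⁻¹ := by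
        apply Subtype.ext
        simp only [Subgroup.coe_mul, Subgroup.coe_pow, Subgroup.coe_inv]
        rw [hc']; simp
      rw [e, map_mul, map_mul, map_inv, map_pow, mul_comm, inv_mul_cancel_left]
    -- reduce to the p-part
    have hx0 : orderOf x ≠ 0 := (orderOf_pos x).ne'
    obtain ⟨k, m, hm, hkm⟩ := Nat.exists_eq_pow_mul_and_not_dvd hx0 p hp.ne_one
    have hm0 : m ≠ 0 := by
      rintro rfl
      exact hm (dvd_zero p)
    have hord : orderOf (x ^ m) = p ^ k := by
      rw [orderOf_pow' x hm0, hkm, Nat.gcd_eq_right (dvd_mul_left _ _)]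
      exact Nat.mul_div_cancel _ (Nat.pos_of_ne_zero hm0)
    have h1 : MonoidHom.transfer ϕ (x ^ m) = 1 :=
      MonoidHom.mem_ker.1 (hker (Subgroup.pow_mem _ hxA m))
    rw [hpow (x ^ m) (H.pow_mem hxH m) ⟨k, hord⟩] at h1
    have h2 : ϕ ⟨x ^ m, H.pow_mem hxH m⟩ = 1 :=
      eq_one_of_pow_eq_one_of_coprime hQ _ _ hidx h1
    have h3 : ϕ ⟨x, hxH⟩ ^ m = 1 := by
      rw [← map_pow]
      exact h2
    have hpm : Nat.Coprime p m := (Nat.Prime.coprime_iff_not_dvd hp).2 hm
    have h4 : ϕ ⟨x, hxH⟩ = 1 := eq_one_of_pow_eq_one_of_coprime hQ _ _ hpm h3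
    have h5 : (⟨x, hxH⟩ : H) ∈ Cfsg.pResidual p ↥H ⊔ commutator ↥H :=
      (QuotientGroup.eq_one_iff _).1 h4
    exact ⟨⟨x, hxH⟩, h5, rfl⟩
  · rw [Subgroup.map_sup]
    apply le_inf
    · apply sup_le_sup
      · rw [show Cfsg.pResidual p ↥H = Subgroup.closure {g : ↥H | Nat.Coprime (orderOf g) p} from rfl,
          show Cfsg.pResidual p G = Subgroup.closure {g : G | Nat.Coprime (orderOf g) p} from rfl,
          MonoidHom.map_closure]
        apply Subgroup.closure_mono
        rintro _ ⟨y, hy, rfl⟩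
        have hy' : Nat.Coprime (orderOf y) p := hy
        show Nat.Coprime (orderOf (y : G)) p
        rwa [Subgroup.orderOf_coe]
      · rw [commutator_def, Subgroup.map_commutator, commutator_def]
        exact Subgroup.commutator_mono le_top le_top
    · rw [← Subgroup.map_sup]
      exact Subgroup.map_subtype_le _

end Cfsg.Agent.S1242
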