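import Cfsg.Statements.S0068
import Mathlib

set_option autoImplicit false
open Cfsg

namespace Cfsg.Agent.S0068

/-- Frobenius complements of even order: if H complements a nontrivial normal subgroup K, each nonidentity element of H has trivial centraliser in K, and H has even order, then H contains a unique involution s, K is abelian, and s inverts every element of K. -/
theorem result {G : Type*} [Group G] [Finite G] (K H : Subgroup G) [K.Normal]
    (hc : Subgroup.IsComplement' K H) (hK : K ≠ ⊥) (hfpf : ∀ h ∈ H, h ≠ 1 → K ⊓ Subgroup.centralizer {h} = ⊥)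
    (heven : 2 ∣ Nat.card H) :
    (∃ s ∈ H, orderOf s = 2 ∧ (∀ t ∈ H, orderOf t = 2 → t = s) ∧ ∀ k ∈ K, s * k * s⁻¹ = k⁻¹) ∧ IsMulCommutative K := by
  classical
  have hinv : ∀ t ∈ H, orderOf t = 2 → ∀ k ∈ K, t * k * t⁻¹ = k⁻¹ := by
    intro t htH ht2 k hk
    have ht1 : t ≠ 1 := by
      intro h
      rw [h, orderOf_one] at ht2
      omega
    have htt : t * t = 1 := by
      have := pow_orderOf_eq_one t
      rw [ht2, pow_two] at this
      exact this
    have htinv : t⁻¹ = t := inv_eq_of_mul_eq_one_left htt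
    let φ : K → K := fun a => ⟨(a : G)⁻¹ * (t * a * t⁻¹),
      K.mul_mem (K.inv_mem a.2) (Subgroup.Normal.conj_mem inferInstance _ a.2 t)⟩
    have hφinj : Function.Injective φ := by
      intro a b hab
      have h1 : (a : G)⁻¹ * (t * a * t⁻¹) = (b : G)⁻¹ * (t * b * t⁻¹) := congrArg Subtype.val hab
      have h2 : t * ((b : G) * (a : G)⁻¹) = ((b : G) * (a : G)⁻¹) * t := by
        have e1 : (b : G) * (a : G)⁻¹ = (t * b * t⁻¹) * (t * a * t⁻¹)⁻¹ := by
          have : (b : G) * ((a : G)⁻¹ * (t * a * t⁻¹)) = (t * b * t⁻¹) := by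
            rw [h1]; group
          calc (b : G) * (a : G)⁻¹ = (b : G) * ((a : G)⁻¹ * (t * a * t⁻¹)) * (t * a * t⁻¹)⁻¹ := by group
            _ = (t * b * t⁻¹) * (t * a * t⁻¹)⁻¹ := by rw [this]
        have e2 : (t * b * t⁻¹) * (t * a * t⁻¹)⁻¹ = t * ((b : G) * (a : G)⁻¹) * t⁻¹ := by group
        rw [e2] at e1
        calc t * ((b : G) * (a : G)⁻¹) = (t * ((b : G) * (a : G)⁻¹) * t⁻¹) * t := by group
          _ = ((b : G) * (a : G)⁻¹) * t := by rw [← e1]
      have h3 : (b : G) * (a : G)⁻¹ ∈ K ⊓ Subgroup.centralizer {t} := by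
        refine ⟨K.mul_mem b.2 (K.inv_mem a.2), ?_⟩
        apply Subgroup.mem_centralizer_iff.mpr
        intro z hz
        rw [Set.mem_singleton_iff] at hz
        rw [hz]
        exact h2
      rw [hfpf t htH ht1, Subgroup.mem_bot] at h3
      apply Subtype.ext
      exact (mul_inv_eq_one.mp h3).symm
    have hφsurj : Function.Surjective φ := Finite.surjective_of_injective hφinj
    obtain ⟨a, ha⟩ := hφsurj ⟨k, hk⟩
    have hk_eq : k = (a : G)⁻¹ * (t * a * t⁻¹) := (congrArg Subtype.val ha).symm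
    rw [hk_eq, htinv]
    have e1 : t * ((a : G)⁻¹ * (t * a * t)) * t = t * (a : G)⁻¹ * t * a * (t * t) := by group
    have e2 : ((a : G)⁻¹ * (t * a * t))⁻¹ = t⁻¹ * (a : G)⁻¹ * t⁻¹ * a := by group
    rw [e1, e2, htt, mul_one, htinv]
  have : Fact (Nat.Prime 2) := ⟨Nat.prime_two⟩
  obtain ⟨s0, hs0⟩ := exists_prime_orderOf_dvd_card' (G := H) 2 heven
  have hs2 : orderOf (s0 : G) = 2 := by rw [Subgroup.orderOf_coe]; exact hs0
  have hsinv := hinv (s0 : G) s0.2 hs2
  refine ⟨⟨(s0 : G), s0.2, hs2, ?_, hsinv⟩, ?_⟩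
  · intro t htH ht2
    have htinv := hinv t htH ht2
    by_contra hne
    have hst : (s0 : G) * t ≠ 1 := by
      intro h
      apply hne
      have hss : (s0 : G) * (s0 : G) = 1 := by
        have := pow_orderOf_eq_one (s0 : G)
        rw [hs2, pow_two] at this
        exact this
      calc t = ((s0 : G) * (s0 : G)) * t := by rw [hss, one_mul]
        _ = (s0 : G) * ((s0 : G) * t) := by group
        _ = (s0 : G) := by rw [h, mul_one]
    have h1 := hfpf ((s0 : G) * t) (H.mul_mem s0.2 htH) hst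
    apply hK
    rw [eq_bot_iff]
    intro k hk
    rw [← h1]
    refine ⟨hk, ?_⟩
    apply Subgroup.mem_centralizer_iff.mpr
    intro z hz
    rw [Set.mem_singleton_iff] at hz
    rw [hz]
    have e1 : t * k * t⁻¹ = k⁻¹ := htinv k hk
    have e2 : (s0 : G) * k⁻¹ * (s0 : G)⁻¹ = k⁻¹⁻¹ := hsinv k⁻¹ (K.inv_mem hk)
    have e3 : (s0 : G) * t * k * ((s0 : G) * t)⁻¹ = k := by
      calc (s0 : G) * t * k * ((s0 : G) * t)⁻¹ = (s0 : G) * (t * k * t⁻¹) * (s0 : G)⁻¹ := by group
        _ = k := by rw [e1, e2, inv_inv]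
    calc (s0 : G) * t * k = ((s0 : G) * t * k * ((s0 : G) * t)⁻¹) * ((s0 : G) * t) := by group
      _ = k * ((s0 : G) * t) := by rw [e3]
  · rw [isMulCommutative_iff]
    intro a b
    apply Subtype.ext
    have e1 := hsinv ((a : G) * b) (K.mul_mem a.2 b.2)
    have e2 := hsinv a a.2
    have e3 := hsinv b b.2
    have e4 : (s0 : G) * ((a : G) * b) * (s0 : G)⁻¹ =
        ((s0 : G) * a * (s0 : G)⁻¹) * ((s0 : G) * b * (s0 : G)⁻¹) := by group
    rw [e4, e2, e3] at e1
    have e5 : ((a : G)⁻¹ * (b : G)⁻¹)⁻¹ = (((a : G) * b)⁻¹)⁻¹ := by rw [e1]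
    rw [mul_inv_rev, inv_inv, inv_inv, inv_inv] at e5
    exact e5.symm

end Cfsg.Agent.S0068
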