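import Cfsg.Statements.S0040
import Cfsg.Agent.Lib.Helper1.TwoGroupUnique
import Cfsg.Agent.Lib.Helper1.FrobCenter
import Cfsg.Agent.S0068

set_option autoImplicit false
open Cfsg

namespace Cfsg.Agent.S0040

/-- Sylow subgroups of Frobenius complements: if H complements a nontrivial normal subgroup K and every nonidentity element of H has trivial centraliser in K, then each Sylow subgroup of H is cyclic or isomorphic to a generalized quaternion group. -/
theorem result {G : Type*} [Group G] [Finite G] (K H : Subgroup G) [K.Normal]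
    (hc : Subgroup.IsComplement' K H) (hK : K ≠ ⊥) (hfpf : ∀ h ∈ H, h ≠ 1 → K ⊓ Subgroup.centralizer {h} = ⊥)
    (p : ℕ) [Fact p.Prime] (P : Sylow p H) :
    IsCyclic P ∨ ∃ n : ℕ, Nonempty (P ≃* QuaternionGroup (2 ^ n)) := by
  classical
  have hpp : p.Prime := Fact.out
  have hmapH : (P : Subgroup H).map H.subtype ≤ H := Subgroup.map_subtype_le _
  by_cases hpH : p ∣ Nat.card H
  swap
  · left
    have h1 : Nat.card (P : Subgroup H) = 1 := by
      rw [Sylow.card_eq_multiplicity, Nat.factorization_eq_zero_of_not_dvd hpH, pow_zero]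
    have := (Nat.card_eq_one_iff_unique.mp h1).1
    exact isCyclic_of_subsingleton
  have hH : H ≠ ⊥ := by
    intro h
    rw [h, Subgroup.card_bot] at hpH
    exact hpp.one_lt.ne (Nat.dvd_one.mp hpH).symm
  by_cases hp2 : p = 2
  · subst hp2
    obtain ⟨⟨s, hsH, hs2, huniq, -⟩, -⟩ := Cfsg.Agent.S0068.result K H hc hK hfpf hpH
    apply Cfsg.Agent.Lib.Helper1.cyclic_or_quaternion_of_unique P.2
    have key : ∀ X : Subgroup (P : Subgroup H), Nat.card X = 2 →
        ∃ x : (P : Subgroup H), ((x : H) : G) = s ∧ X = Subgroup.zpowers x := by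
      intro X hX
      obtain ⟨x, hx⟩ := exists_prime_orderOf_dvd_card' (G := X) 2 (by rw [hX])
      have hxo : orderOf (((x : (P : Subgroup H)) : H) : G) = 2 := by
        rw [Subgroup.orderOf_coe, Subgroup.orderOf_coe, Subgroup.orderOf_coe]; exact hx
      refine ⟨(x : (P : Subgroup H)), huniq _ ((x : (P : Subgroup H)) : H).2 hxo, ?_⟩
      symm
      apply Subgroup.eq_of_le_of_card_ge
      · rw [Subgroup.zpowers_le]; exact x.2
      · rw [hX, Nat.card_zpowers, Subgroup.orderOf_coe, hx]
    intro X Y hX hY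
    obtain ⟨x, hxs, hXx⟩ := key X hX
    obtain ⟨y, hys, hYy⟩ := key Y hY
    have hxy : x = y := by
      apply Subtype.ext
      apply Subtype.ext
      rw [hxs, hys]
    rw [hXx, hYy, hxy]
  · left
    obtain ⟨V, hVc, hV, -, hHV, hfpfV⟩ :=
      Cfsg.Agent.Lib.Helper1.exists_fpf_abelian K H hc hK hH hfpf
    apply Cfsg.Agent.Lib.Helper1.isCyclic_of_map_subtype H (P : Subgroup H)
    exact Cfsg.Agent.Lib.Helper1.isCyclic_pgroup_of_fpf _ V hV (hmapH.trans hHV)
      (fun a ha => hfpfV a (hmapH ha)) p hp2 (P.2.map _)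

end Cfsg.Agent.S0040
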