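import Mathlib
import Cfsg.Statements.S0850
import Cfsg.Agent.Lib.helper7.Induction

set_option autoImplicit false
open Cfsg

namespace Cfsg.Agent.S0850

open Cfsg.Agent.Lib.helper7

theorem dvd_card_of_dvd_orbits {A β : Type*} [Group A] [Finite A] [Finite β] [MulAction A β]
    (m : ℕ) (hm : ∀ b : β, m ∣ Nat.card A / Nat.card (MulAction.stabilizer A b)) :
    m ∣ Nat.card β := by
  classical
  have := Fintype.ofFinite A
  have := Fintype.ofFinite β
  have := Fintype.ofFinite (Quotient (MulAction.orbitRel A β))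
  have hcf := MulAction.card_eq_sum_card_group_div_card_stabilizer A β
  rw [Nat.card_eq_fintype_card, hcf]
  apply Finset.dvd_sum
  intro ω _
  have := hm ω.out
  simpa [Nat.card_eq_fintype_card] using this

abbrev NonId {N : Type*} [Group N] (K' : Subgroup N) : Type _ := {k : N // k ∈ K' ∧ k ≠ 1}

@[reducible] def conjActNonId {N : Type*} [Group N] (K' : Subgroup N) [hK : K'.Normal] :
    MulAction N (NonId K') where
  smul n k := ⟨n * k.1 * n⁻¹, hK.conj_mem k.1 k.2.1 n, by
    intro h
    apply k.2.2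
    have := congrArg (fun t => n⁻¹ * t * n) h
    simpa [mul_assoc] using this⟩
  one_smul k := by
    apply Subtype.ext
    change 1 * k.1 * 1⁻¹ = k.1
    simp
  mul_smul a b k := by
    apply Subtype.ext
    change a * b * k.1 * (a * b)⁻¹ = a * (b * k.1 * b⁻¹) * a⁻¹
    group

theorem coprime_index_card {N : Type*} [Group N] [Finite N] (K' : Subgroup N) [hK : K'.Normal]
    (hC : ∀ k ∈ K', k ≠ 1 → ∀ n : N, n * k = k * n → n ∈ K') :
    Nat.Coprime K'.index (Nat.card K') := by
  classical
  let _ : MulAction N (NonId K') := conjActNonId K'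
  have hdvd : K'.index ∣ Nat.card (NonId K') := by
    apply dvd_card_of_dvd_orbits (A := N)
    intro b
    have hstab : MulAction.stabilizer N b ≤ K' := by
      intro n hn
      rw [MulAction.mem_stabilizer_iff] at hn
      have h1 : n * b.1 * n⁻¹ = b.1 := congrArg Subtype.val hn
      apply hC b.1 b.2.1 b.2.2 n
      calc n * b.1 = n * b.1 * n⁻¹ * n := by group
        _ = b.1 * n := by rw [h1]
    have h2 : Nat.card (MulAction.stabilizer N b) ∣ Nat.card K' := Subgroup.card_dvd_of_le hstab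
    have h3 : Nat.card N = K'.index * Nat.card K' := (Subgroup.index_mul_card K').symm
    rw [h3, Nat.mul_div_assoc _ h2]
    exact Dvd.intro _ rfl
  have hcard : Nat.card K' = Nat.card (NonId K') + 1 := by
    have := Fintype.ofFinite N
    have e : NonId K' ≃ {k : K' // k ≠ 1} :=
      { toFun := fun k => ⟨⟨k.1, k.2.1⟩, fun h => k.2.2 (congrArg Subtype.val h)⟩
        invFun := fun k => ⟨k.1.1, k.1.2, fun h => k.2 (Subtype.ext h)⟩
        left_inv := fun k => rfl
        right_inv := fun k => rfl }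
    rw [Nat.card_congr e, Nat.card_eq_fintype_card, Nat.card_eq_fintype_card,
      Fintype.card_subtype_compl, Fintype.card_subtype_eq]
    have : 0 < Fintype.card K' := Fintype.card_pos
    omega
  rw [hcard]
  obtain ⟨c, hc⟩ := hdvd
  rw [hc]
  have : Nat.Coprime K'.index (K'.index * c + 1) := by
    apply Nat.Coprime.symm
    apply Nat.coprime_of_dvd
    intro k hk hk1 hk2
    have h3 : k ∣ K'.index * c := Dvd.dvd.mul_right hk2 c
    have h4 : k ∣ 1 := (Nat.dvd_add_right h3).mp hk1
    exact hk.one_lt.ne' (Nat.dvd_one.mp h4)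
  exact this

theorem part_one {G : Type*} [Group G] [Finite G] (K : Subgroup G)
    (hTI : ∀ g : G, g ∉ Subgroup.normalizer (K : Set G) → ∀ k ∈ K, g * k * g⁻¹ ∈ K → k = 1)
    (hC : ∀ k ∈ K, k ≠ 1 → Subgroup.centralizer ({k} : Set G) ≤ K)
    (x : G) (hxN : x ∈ Subgroup.normalizer (K : Set G)) (hxK : x ∉ K) (g : G) :
    g * x * g⁻¹ ∉ K := by
  intro hk
  set N := Subgroup.normalizer (K : Set G) with hN
  set K' := K.subgroupOf N with hK'
  have hKN : K ≤ N := Subgroup.le_normalizer
  have hnorm : K'.Normal := Subgroup.normal_in_normalizer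
  have hcop : Nat.Coprime K'.index (Nat.card K') := by
    apply coprime_index_card K'
    intro k hk hk1 n hnk
    rw [hK', Subgroup.mem_subgroupOf] at hk ⊢
    have hk1' : (k : G) ≠ 1 := fun h => hk1 (Subtype.ext h)
    apply hC (k : G) hk hk1'
    rw [Subgroup.mem_centralizer_iff]
    intro y hy
    rw [Set.mem_singleton_iff] at hy
    subst hy
    have := congrArg Subtype.val hnk
    simpa using this.symm
  have hcardK : Nat.card K' = Nat.card K :=
    Nat.card_congr (Subgroup.subgroupOfEquivOfLe hKN).toEquiv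
  rw [hcardK] at hcop
  set e := K'.index with he
  have hxe : x ^ e ∈ K := by
    have := Subgroup.pow_index_mem K' (⟨x, hxN⟩ : N)
    rw [hK', Subgroup.mem_subgroupOf] at this
    simpa using this
  have hconj : g * x ^ e * g⁻¹ = (g * x * g⁻¹) ^ e := by
    rw [conj_pow]
  by_cases hy : x ^ e = 1
  · have h1 : (g * x * g⁻¹) ^ e = 1 := by rw [← hconj, hy]; group
    have h2 : (g * x * g⁻¹) ^ Nat.card K = 1 := by
      have h0 := pow_card_eq_one' (G := K) (x := ⟨g * x * g⁻¹, hk⟩)
      have h00 := congrArg Subtype.val h0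
      rw [Subgroup.coe_pow] at h00
      exact h00
    have h3 : orderOf (g * x * g⁻¹) ∣ e := orderOf_dvd_of_pow_eq_one h1
    have h4 : orderOf (g * x * g⁻¹) ∣ Nat.card K := orderOf_dvd_of_pow_eq_one h2
    have h5 : orderOf (g * x * g⁻¹) = 1 := Nat.eq_one_of_dvd_coprimes hcop h3 h4
    rw [orderOf_eq_one_iff] at h5
    have hx1 : x = 1 := by
      have := congrArg (fun t => g⁻¹ * t * g) h5
      simpa [mul_assoc] using this
    apply hxK
    rw [hx1]
    exact K.one_mem
  · have hgN : g ∈ N := by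
      by_contra hg
      exact hy (hTI g hg (x ^ e) hxe (by rw [hconj]; exact K.pow_mem hk e))
    apply hxK
    have hg' : g⁻¹ ∈ N := N.inv_mem hgN
    have := (Subgroup.mem_normalizer_iff.mp hg' (g * x * g⁻¹)).mp hk
    simpa [mul_assoc] using this

theorem part_two {G : Type*} [Group G] [Fintype G] (K N : Subgroup G)
    (hTI : ∀ g : G, g ∉ N → ∀ k ∈ K, g * k * g⁻¹ ∈ K → k = 1)
    (hp1 : ∀ x ∈ N, x ∉ K → ∀ g : G, g * x * g⁻¹ ∉ K)
    (ϑ : N → ℂ) (hϑc : Cfsg.IsClassFunction N ϑ) (hϑ0 : ∀ x : N, (x : G) ∉ K → ϑ x = 0)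
    (hϑ1 : ϑ 1 = 0) (x : N) : Cfsg.indFun N ϑ x = ϑ x := by
  classical
  have hNne : (Nat.card N : ℂ) ≠ 0 := by exact_mod_cast Nat.card_pos.ne'
  unfold Cfsg.indFun
  by_cases hxK : (x : G) ∈ K
  · by_cases hx1 : x = 1
    · subst hx1
      rw [hϑ1]
      have : ∀ g : G, Cfsg.extendByZero N ϑ (g⁻¹ * ((1 : N) : G) * g) = 0 := by
        intro g
        have : g⁻¹ * ((1 : N) : G) * g = ((1 : N) : G) := by simp
        rw [this, h7_extendByZero_coe, hϑ1]
      rw [Finset.sum_congr rfl (fun g _ => this g)]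
      simp
    · have hx1' : (x : G) ≠ 1 := fun h => hx1 (Subtype.ext h)
      have hterm : ∀ g : G, Cfsg.extendByZero N ϑ (g⁻¹ * (x : G) * g) =
          if g ∈ N then ϑ x else 0 := by
        intro g
        split_ifs with hg
        · have hmem : g⁻¹ * (x : G) * g ∈ N := N.mul_mem (N.mul_mem (N.inv_mem hg) x.2) hg
          rw [h7_extendByZero_mem N ϑ _ hmem]
          have := hϑc x (⟨g, hg⟩⁻¹ : N)
          rw [← this]
          congr 1
          apply Subtype.ext
          simp
        · by_cases hmem : g⁻¹ * (x : G) * g ∈ N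
          · rw [h7_extendByZero_mem N ϑ _ hmem]
            apply hϑ0
            intro hK
            apply hx1'
            have hg' : g⁻¹ ∉ N := fun h => hg (by simpa using N.inv_mem h)
            apply hTI g⁻¹ hg' (x : G) hxK
            simpa using hK
          · exact h7_extendByZero_not_mem N ϑ _ hmem
      simp only [hterm]
      rw [Finset.sum_ite, Finset.sum_const_zero, add_zero, Finset.sum_const, nsmul_eq_mul]
      have hcard : ((Finset.univ.filter (fun g : G => g ∈ N)).card : ℂ) = (Nat.card N : ℂ) := by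
        rw [Nat.card_eq_fintype_card, Fintype.card_subtype]
      rw [hcard]
      field_simp
  · rw [hϑ0 x hxK]
    have : ∀ g : G, Cfsg.extendByZero N ϑ (g⁻¹ * (x : G) * g) = 0 := by
      intro g
      by_cases hmem : g⁻¹ * (x : G) * g ∈ N
      · rw [h7_extendByZero_mem N ϑ _ hmem]
        apply hϑ0
        have := hp1 (x : G) x.2 hxK g⁻¹
        simpa using this
      · exact h7_extendByZero_not_mem N ϑ _ hmem
    simp [this]

theorem result {G : Type*} [Group G] [Fintype G] (K : Subgroup G) (hTI : ∀ g : G, g ∉ Subgroup.normalizer (K : Set G) → ∀ k ∈ K, g * k * g⁻¹ ∈ K → k = 1) (hlt : K < Subgroup.normalizer (K : Set G)) (hC : ∀ k ∈ K, k ≠ 1 → Subgroup.centralizer ({k} : Set G) ≤ K) : (∀ x ∈ Subgroup.normalizer (K : Set G), x ∉ K → ∀ g : G, g * x * g⁻¹ ∉ K) ∧ ∀ (ϑ : Subgroup.normalizer (K : Set G) → ℂ), Cfsg.IsClassFunction (Subgroup.normalizer (K : Set G)) ϑ → (∀ x : Subgroup.normalizer (K : Set G), (x : G) ∉ K → ϑ x = 0) → ϑ 1 = 0 → ∀ x : Subgroup.normalizer (K : Set G), Cfsg.indFun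 (Subgroup.normalizer (K : Set G)) ϑ x = ϑ x := by
  have hp1 := part_one K hTI hC
  refine ⟨fun x hxN hxK g => hp1 x hxN hxK g, ?_⟩
  intro ϑ hϑc hϑ0 hϑ1 x
  exact part_two K _ hTI hp1 ϑ hϑc hϑ0 hϑ1 x

end Cfsg.Agent.S0850
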