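import Cfsg.Statements.S0161
import Mathlib
import Cfsg.Prelude.Def_Characters
import Cfsg.Agent.Lib.helper2.CharInt
import Cfsg.Agent.Lib.Helper25.CharLinear

set_option autoImplicit false
open Cfsg

namespace Cfsg.Agent.S0161


open Cfsg.Agent.Lib.helper2 Cfsg.Agent.Lib.Helper25
open scoped ComplexConjugate

theorem inv_ne_self_of_odd {G : Type*} [Group G] [Finite G] (hodd : Odd (Nat.card G)) (g : G)
    (hg : g ≠ 1) : g⁻¹ ≠ g := by
  intro h
  apply hg
  have hxx' : g ^ 2 = 1 := by
    rw [pow_two]; exact inv_eq_iff_mul_eq_one.mp h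
  have h1 : orderOf g ∣ 2 := orderOf_dvd_of_pow_eq_one hxx'
  have h2 : orderOf g ∣ Nat.card G := orderOf_dvd_natCard g
  obtain ⟨j, hj⟩ := hodd
  rw [hj] at h2
  have h3 : orderOf g ∣ 1 := by
    have := Nat.dvd_gcd h1 h2
    have hg : Nat.gcd 2 (2 * j + 1) = 1 := by
      rw [Nat.gcd_comm]; simp
    rwa [hg] at this
  rw [← orderOf_eq_one_iff]
  exact Nat.dvd_one.mp h3

/-- In a group of odd order, a sum over the nonidentity elements of a function invariant under
inversion is twice a sum over a set of representatives. -/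
theorem sum_eq_two_mul_of_odd {G : Type*} [Group G] [Fintype G] (hodd : Odd (Nat.card G))
    (f : G → ℂ) (hf : ∀ g, f g⁻¹ = f g) :
    ∃ R : Finset G, ∑ g : G, f g = f 1 + 2 * ∑ g ∈ R, f g := by
  classical
  letI : LinearOrder G := LinearOrder.lift' (Fintype.equivFin G) (Fintype.equivFin G).injective
  refine ⟨Finset.univ.filter (fun g : G => g < g⁻¹), ?_⟩
  have h1 : (Finset.univ : Finset G) = insert 1 (Finset.univ.filter (fun g : G => g < g⁻¹) ∪
      Finset.univ.filter (fun g : G => g⁻¹ < g)) := by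
    ext g
    simp only [Finset.mem_univ, Finset.mem_insert, Finset.mem_union, Finset.mem_filter, true_and,
      true_iff]
    by_cases hg : g = 1
    · left; exact hg
    · right
      rcases lt_trichotomy g g⁻¹ with h | h | h
      · left; exact h
      · exact absurd h.symm (inv_ne_self_of_odd hodd g hg)
      · right; exact h
  have hdisj : Disjoint (Finset.univ.filter (fun g : G => g < g⁻¹))
      (Finset.univ.filter (fun g : G => g⁻¹ < g)) := by
    rw [Finset.disjoint_filter]
    intro g _ h1 h2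
    exact lt_asymm h1 h2
  have hnot : (1 : G) ∉ (Finset.univ.filter (fun g : G => g < g⁻¹) ∪
      Finset.univ.filter (fun g : G => g⁻¹ < g)) := by
    simp
  conv_lhs => rw [h1]
  rw [Finset.sum_insert hnot, Finset.sum_union hdisj]
  have h2 : ∑ g ∈ Finset.univ.filter (fun g : G => g⁻¹ < g), f g =
      ∑ g ∈ Finset.univ.filter (fun g : G => g < g⁻¹), f g := by
    refine Finset.sum_bij (fun g _ => g⁻¹) ?_ ?_ ?_ ?_
    · intro g hg
      simp only [Finset.mem_filter, Finset.mem_univ, true_and, inv_inv] at hg ⊢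
      exact hg
    · intro a _ b _ hab
      exact inv_injective hab
    · intro g hg
      simp only [Finset.mem_filter, Finset.mem_univ, true_and] at hg
      refine ⟨g⁻¹, ?_, inv_inv g⟩
      simp only [Finset.mem_filter, Finset.mem_univ, true_and, inv_inv]
      exact hg
    · intro g _
      exact (hf g).symm
  rw [h2]
  ring



/-- In a finite group of odd order, a real-valued irreducible complex character is the trivial character. -/
theorem result {G : Type*} [Group G] [Finite G] (hodd : Odd (Nat.card G)) (χ : Cfsg.IrrCharacter G) (hreal : ∀ g : G, ((χ : G → ℂ) g).im = 0) : (χ : G → ℂ) = fun _ => 1 := by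
  classical
  have : Fintype G := Fintype.ofFinite G
  by_contra hne
  have hχ : χ ≠ trivIrr G := by
    intro h
    apply hne
    rw [h]
    rfl
  have h0 := irr_classInner χ (trivIrr G)
  rw [if_neg hχ] at h0
  unfold Cfsg.classInner at h0
  have hcard : (Nat.card G : ℂ) ≠ 0 := by exact_mod_cast Nat.card_pos.ne'
  rw [mul_eq_zero] at h0
  have h1 : ∑ g : G, (χ : G → ℂ) g = 0 := by
    rcases h0 with h | h
    · exact absurd (inv_eq_zero.mp h) hcard
    · simpa using h
  have hinv : ∀ g : G, (χ : G → ℂ) g⁻¹ = (χ : G → ℂ) g := by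
    intro g
    rw [irr_inv]
    exact Complex.conj_eq_iff_im.mpr (hreal g)
  obtain ⟨R, hR⟩ := sum_eq_two_mul_of_odd hodd (χ : G → ℂ) hinv
  rw [h1] at hR
  obtain ⟨d, hd0, hd, hdvd⟩ := irr_degree_dvd_card χ
  have hB : IsIntegral ℤ (∑ g ∈ R, (χ : G → ℂ) g) := IsIntegral.sum _ fun g _ => irr_integral χ g
  have h2 : ((d : ℕ) : ℂ) / ((2 : ℕ) : ℂ) = -(∑ g ∈ R, (χ : G → ℂ) g) := by
    rw [div_eq_iff (by norm_num)]
    rw [← hd]
    push_cast
    linear_combination (-1 : ℂ) * hR
  have h3 : IsIntegral ℤ (((d : ℕ) : ℂ) / ((2 : ℕ) : ℂ)) := by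
    rw [h2]; exact hB.neg
  have h4 : 2 ∣ d := nat_dvd_of_isIntegral_div d 2 (by norm_num) h3
  have h5 : 2 ∣ Nat.card G := h4.trans hdvd
  obtain ⟨j, hj⟩ := hodd
  omega

end Cfsg.Agent.S0161
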