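import Mathlib
import Cfsg.Statements.S1509
import Cfsg.Agent.Lib.Helper25.CharOrth

set_option autoImplicit false
open Cfsg
open scoped ComplexConjugate

namespace Cfsg.Agent.S1509

open Cfsg.Agent.Lib.Helper25

theorem signed_decomp {X : Type*} [Group X] (f : X → ℂ)
    (h : Cfsg.IsIrrCharacter X f ∨ Cfsg.IsIrrCharacter X (-f)) :
    ∃ (ε : ℝ) (χ : Cfsg.IrrCharacter X), (ε = 1 ∨ ε = -1) ∧ f = (ε : ℂ) • (χ : X → ℂ) := by
  rcases h with h | h
  · exact ⟨1, ⟨f, h⟩, Or.inl rfl, by simp⟩
  · exact ⟨-1, ⟨-f, h⟩, Or.inr rfl, by simp⟩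

theorem inner_smul_smul {X : Type*} [Group X] [Fintype X] (c d : ℂ) (f h : X → ℂ) :
    Cfsg.classInner (c • f) (d • h) = c * conj d * Cfsg.classInner f h := by
  simp only [Cfsg.classInner, Pi.smul_apply, smul_eq_mul, map_mul, Finset.mul_sum]
  refine Finset.sum_congr rfl fun x _ => ?_
  ring

theorem inner_sub_left {X : Type*} [Group X] [Fintype X] (f g h : X → ℂ) :
    Cfsg.classInner (f - g) h = Cfsg.classInner f h - Cfsg.classInner g h := by
  simp only [Cfsg.classInner, Pi.sub_apply, sub_mul, Finset.sum_sub_distrib, mul_sub]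

theorem inner_sub_right {X : Type*} [Group X] [Fintype X] (f g h : X → ℂ) :
    Cfsg.classInner f (g - h) = Cfsg.classInner f g - Cfsg.classInner f h := by
  simp only [Cfsg.classInner, Pi.sub_apply, map_sub, mul_sub, Finset.sum_sub_distrib]

theorem inner_signed {X : Type*} [Group X] [Fintype X] (a b : ℝ) (χ ψ : Cfsg.IrrCharacter X) :
    Cfsg.classInner ((a : ℂ) • (χ : X → ℂ)) ((b : ℂ) • (ψ : X → ℂ)) =
      ((a * b * (if χ = ψ then 1 else 0) : ℝ) : ℂ) := by
  rw [inner_smul_smul, irr_classInner, Complex.conj_ofReal]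
  split_ifs <;> simp

noncomputable def deg {X : Type*} [Group X] (χ : Cfsg.IrrCharacter X) : ℝ := ((χ : X → ℂ) 1).re

theorem deg_pos {X : Type*} [Group X] (χ : Cfsg.IrrCharacter X) : 0 < deg χ := by
  obtain ⟨n, hn, h⟩ := irr_one_eq_finrank χ
  unfold deg
  rw [h]
  simpa using hn

theorem deg_eq {X : Type*} [Group X] (χ : Cfsg.IrrCharacter X) :
    (χ : X → ℂ) 1 = ((deg χ : ℝ) : ℂ) := by
  obtain ⟨n, hn, h⟩ := irr_one_eq_finrank χ
  unfold deg
  rw [h]
  simp

theorem result {X : Type*} [Group X] [Fintype X] (α β γ δ : X → ℂ) (hα : Cfsg.IsIrrCharacter X α ∨ Cfsg.IsIrrCharacter X (-α)) (hβ : Cfsg.IsIrrCharacter X β ∨ Cfsg.IsIrrCharacter X (-β)) (hγ : Cfsg.IsIrrCharacter X γ ∨ Cfsg.IsIrrCharacter X (-γ)) (hδ : Cfsg.IsIrrCharacter X δ ∨ Cfsg.IsIrrCharacter X (-δ)) (u v : ℝ) (hu : u ≠ 0) (hv : v ≠ 0) (hab : Cfsg.classInner α β = 0) (hcd : Cfsg.classInner γ δ = 0) (hmix : Cfsg.classInner (α - β) ((u : ℂ) • γ - (v : ℂ) • δ) = 0) (h1 : α 1 = β 1) (h2 : (u : ℂ) * γ 1 = (v : ℂ) * δ 1) : Cfsg.classInner α γ = 0 ∧ Cfsg.classInner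 α δ = 0 ∧ Cfsg.classInner β γ = 0 ∧ Cfsg.classInner β δ = 0 := by
  classical
  obtain ⟨a, χa, ha, rfl⟩ := signed_decomp α hα
  obtain ⟨b, χb, hb, rfl⟩ := signed_decomp β hβ
  obtain ⟨c, χc, hc, rfl⟩ := signed_decomp γ hγ
  obtain ⟨d, χd, hd, rfl⟩ := signed_decomp δ hδ
  rw [inner_sub_left, inner_sub_right, inner_sub_right, smul_smul, smul_smul,
    ← Complex.ofReal_mul, ← Complex.ofReal_mul, inner_signed, inner_signed, inner_signed,
    inner_signed] at hmix
  rw [inner_signed] at hab hcd
  rw [inner_signed, inner_signed, inner_signed, inner_signed]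
  simp only [Pi.smul_apply, smul_eq_mul, deg_eq] at h1 h2
  have h1' : a * deg χa = b * deg χb := by exact_mod_cast h1
  have h2' : u * (c * deg χc) = v * (d * deg χd) := by exact_mod_cast h2
  have hmix' : a * (u * c) * (if χa = χc then 1 else 0) - a * (v * d) * (if χa = χd then 1 else 0)
      - (b * (u * c) * (if χb = χc then 1 else 0) - b * (v * d) * (if χb = χd then 1 else 0)) = (0 : ℝ) := by
    exact_mod_cast hmix
  have hab' : a * b * (if χa = χb then 1 else 0) = (0 : ℝ) := by exact_mod_cast hab
  have hcd' : c * d * (if χc = χd then 1 else 0) = (0 : ℝ) := by exact_mod_cast hcd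
  have hpa := deg_pos χa
  have hpb := deg_pos χb
  have hpc := deg_pos χc
  have hpd := deg_pos χd
  have hne_ab : χa ≠ χb := by
    intro h
    rw [if_pos h] at hab'
    rcases ha with rfl | rfl <;> rcases hb with rfl | rfl <;> norm_num at hab'
  have hne_cd : χc ≠ χd := by
    intro h
    rw [if_pos h] at hcd'
    rcases hc with rfl | rfl <;> rcases hd with rfl | rfl <;> norm_num at hcd'
  have ha0 : a ≠ 0 := by rcases ha with rfl | rfl <;> norm_num
  have hb0 : b ≠ 0 := by rcases hb with rfl | rfl <;> norm_num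
  have hc0 : c ≠ 0 := by rcases hc with rfl | rfl <;> norm_num
  have hd0 : d ≠ 0 := by rcases hd with rfl | rfl <;> norm_num
  have hab_eq : a = b ∧ deg χa = deg χb := by
    rcases ha with rfl | rfl <;> rcases hb with rfl | rfl
    · exact ⟨rfl, by linarith⟩
    · exfalso; linarith
    · exfalso; linarith
    · exact ⟨rfl, by linarith⟩
  obtain ⟨hab1, hdeg⟩ := hab_eq
  subst hab1
  have two_case : ∀ x : ℝ, 0 < x → u * (c * x) = v * (d * x) → a * (u * c) + a * (v * d) = 0 → False := by
    intro x hx h3 h4
    have h5 : u * c = v * d := by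
      have : (u * c - v * d) * x = 0 := by ring_nf; ring_nf at h3; linarith
      rcases mul_eq_zero.mp this with h | h
      · linarith
      · exact absurd h hx.ne'
    have h6 : a * (2 * (u * c)) = 0 := by rw [← h5] at h4; linarith
    rcases mul_eq_zero.mp h6 with h | h
    · exact ha0 h
    · have : u * c = 0 := by linarith
      rcases mul_eq_zero.mp this with h | h
      · exact hu h
      · exact hc0 h
  by_cases e1 : χa = χc
  · subst e1
    have e2 : χa ≠ χd := hne_cd
    have e3 : χb ≠ χa := hne_ab.symm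
    by_cases e4 : χb = χd
    · subst e4
      exfalso
      simp only [eq_self_iff_true, if_true, if_neg e2, if_neg e3, mul_one, mul_zero, sub_zero, zero_sub] at hmix'
      apply two_case (deg χa) hpa
      · rw [hdeg]; rw [hdeg] at h2'; exact h2'
      · linarith
    · exfalso
      simp only [eq_self_iff_true, if_true, if_neg e2, if_neg e3, if_neg e4, mul_one, mul_zero, sub_zero, zero_sub] at hmix'
      rcases mul_eq_zero.mp hmix' with h | h
      · exact ha0 h
      · rcases mul_eq_zero.mp h with h | h
        · exact hu h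
        · exact hc0 h
  · by_cases e2 : χa = χd
    · subst e2
      have e4 : χb ≠ χa := hne_ab.symm
      by_cases e3 : χb = χc
      · subst e3
        exfalso
        simp only [eq_self_iff_true, if_true, if_neg e1, if_neg e4, mul_one, mul_zero, sub_zero, zero_sub] at hmix'
        apply two_case (deg χa) hpa
        · rw [← hdeg] at h2'; exact h2'
        · linarith
      · exfalso
        simp only [eq_self_iff_true, if_true, if_neg e1, if_neg e3, if_neg e4, mul_one, mul_zero, sub_zero, zero_sub] at hmix'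
        have h7 : a * (v * d) = 0 := by linarith
        rcases mul_eq_zero.mp h7 with h | h
        · exact ha0 h
        · rcases mul_eq_zero.mp h with h | h
          · exact hv h
          · exact hd0 h
    · by_cases e3 : χb = χc
      · subst e3
        have e4 : χb ≠ χd := hne_cd
        exfalso
        simp only [eq_self_iff_true, if_true, if_neg e1, if_neg e2, if_neg e4, mul_one, mul_zero, sub_zero, zero_sub] at hmix'
        have h7 : a * (u * c) = 0 := by linarith
        rcases mul_eq_zero.mp h7 with h | h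
        · exact ha0 h
        · rcases mul_eq_zero.mp h with h | h
          · exact hu h
          · exact hc0 h
      · by_cases e4 : χb = χd
        · subst e4
          exfalso
          simp only [eq_self_iff_true, if_true, if_neg e1, if_neg e2, if_neg e3, mul_one, mul_zero, sub_zero, zero_sub] at hmix'
          have h7 : a * (v * d) = 0 := by linarith
          rcases mul_eq_zero.mp h7 with h | h
          · exact ha0 h
          · rcases mul_eq_zero.mp h with h | h
            · exact hv h
            · exact hd0 h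
        · simp [if_neg e1, if_neg e2, if_neg e3, if_neg e4]

end Cfsg.Agent.S1509
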