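import Cfsg.Statements.S1514
import Mathlib
import Cfsg.Agent.Lib.Helper11.VirtChar
import Cfsg.Agent.S1509

set_option autoImplicit false
open Cfsg

namespace Cfsg.Agent.S1514

open Cfsg.Agent.Lib.Helper11 Cfsg.Agent.Lib.Helper25 Cfsg.Agent.Lib.helper2
open scoped ComplexConjugate

theorem inner_neg_left {X : Type*} [Group X] [Fintype X] (f h : X → ℂ) :
    Cfsg.classInner (-f) h = - Cfsg.classInner f h := by
  simp only [Cfsg.classInner, Pi.neg_apply, neg_mul, Finset.sum_neg_distrib, mul_neg]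

theorem inner_neg_right {X : Type*} [Group X] [Fintype X] (f h : X → ℂ) :
    Cfsg.classInner f (-h) = - Cfsg.classInner f h := by
  simp only [Cfsg.classInner, Pi.neg_apply, map_neg, mul_neg, Finset.sum_neg_distrib]

theorem inner_conjFun {X : Type*} [Group X] [Fintype X] (f h : X → ℂ) :
    Cfsg.classInner (Cfsg.conjFun f) (Cfsg.conjFun h) = conj (Cfsg.classInner f h) := by
  simp only [Cfsg.classInner, Cfsg.conjFun, map_mul, map_sum, map_inv₀, Complex.conj_natCast]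

theorem conjFun_conjFun {X : Type*} (f : X → ℂ) : Cfsg.conjFun (Cfsg.conjFun f) = f := by
  funext x
  simp [Cfsg.conjFun]

theorem irr_ne_neg_irr {G : Type*} [Group G] (η₁ η₂ : Cfsg.IrrCharacter G) :
    (η₁ : G → ℂ) ≠ -(η₂ : G → ℂ) := by
  intro h
  obtain ⟨d₁, hd₁, he₁⟩ := irr_one_eq_finrank η₁
  obtain ⟨d₂, hd₂, he₂⟩ := irr_one_eq_finrank η₂
  have := congrFun h 1
  rw [Pi.neg_apply, he₁, he₂] at this
  have h2 : ((d₁ : ℤ) : ℂ) = ((-(d₂ : ℤ) : ℤ) : ℂ) := by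
    push_cast
    exact this
  have h3 : (d₁ : ℤ) = -(d₂ : ℤ) := by exact_mod_cast h2
  omega

/-- Let S be a nonempty set of irreducible characters of the finite group L, closed under complex conjugation and containing no real-valued member, and τ a linear isometry on the integer combinations of S vanishing at 1, with values virtual characters of G vanishing at 1. Then there is a choice R making (S, τ, R) a coherence system. -/
theorem result {L : Type*} [Group L] [Fintype L] {G : Type*} [Group G] [Fintype G] (S : Set (L → ℂ)) (hS : S.Nonempty) (hirr : ∀ χ ∈ S, Cfsg.IsIrrCharacter L χ) (hconj : ∀ χ ∈ S, Cfsg.conjFun χ ∈ S ∧ Cfsg.conjFun χ ≠ χ) (τ : (L → ℂ) → (G → ℂ)) (hτ : Cfsg.IsLinearIsometryOn (Cfsg.zspanOn S {1}ᶜ) τ) (hτ1 : ∀ α ∈ Cfsg.zspanOn S {1}ᶜ, τ α 1 = 0) : ∃ R : (L → ℂ) → Finset (G → ℂ), Cfsg.IsCoherenceSystem S τ R := by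
  classical
  obtain ⟨hadd, hsmul, hiso, hgen⟩ := hτ
  have hirr_inner : ∀ χ ∈ S, ∀ φ ∈ S, Cfsg.classInner χ φ = if χ = φ then 1 else 0 := by
    intro χ hχ φ hφ
    have := irr_classInner ⟨χ, hirr χ hχ⟩ ⟨φ, hirr φ hφ⟩
    simp only at this
    rw [this]
    by_cases h : χ = φ
    · rw [if_pos h, if_pos (Subtype.ext h)]
    · rw [if_neg h, if_neg (fun h' => h (congrArg Subtype.val h'))]
  have hconj1 : ∀ χ ∈ S, Cfsg.conjFun χ 1 = χ 1 := by
    intro χ hχ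
    obtain ⟨n, _, hn⟩ := irr_one_eq_finrank ⟨χ, hirr χ hχ⟩
    simp only at hn
    simp only [Cfsg.conjFun]
    rw [hn, Complex.conj_natCast]
  have hmem : ∀ χ ∈ S, χ - Cfsg.conjFun χ ∈ Cfsg.zspanOn S {1}ᶜ := by
    intro χ hχ
    refine ⟨Submodule.sub_mem _ (Submodule.subset_span hχ) (Submodule.subset_span (hconj χ hχ).1), ?_⟩
    intro x hx
    have hx1 : x = 1 := by
      by_contra h
      exact hx h
    rw [hx1, Pi.sub_apply, hconj1 χ hχ, sub_self]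
  have hinner : ∀ χ ∈ S, ∀ φ ∈ S, Cfsg.classInner (φ - Cfsg.conjFun φ) (χ - Cfsg.conjFun χ) =
      Cfsg.classInner φ χ - Cfsg.classInner φ (Cfsg.conjFun χ)
        - conj (Cfsg.classInner φ (Cfsg.conjFun χ)) + conj (Cfsg.classInner φ χ) := by
    intro χ hχ φ hφ
    rw [Cfsg.Agent.S1509.inner_sub_left, Cfsg.Agent.S1509.inner_sub_right,
      Cfsg.Agent.S1509.inner_sub_right, inner_conjFun]
    have : Cfsg.classInner (Cfsg.conjFun φ) χ = conj (Cfsg.classInner φ (Cfsg.conjFun χ)) := by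
      rw [← inner_conjFun, conjFun_conjFun]
    rw [this]
    ring
  have key : ∀ χ ∈ S, ∃ (η₁ η₂ : Cfsg.IrrCharacter G), η₁ ≠ η₂ ∧
      τ (χ - Cfsg.conjFun χ) = (η₁ : G → ℂ) - (η₂ : G → ℂ) := by
    intro χ hχ
    apply genChar_norm_two _ (hgen _ (hmem χ hχ)) _ (hτ1 _ (hmem χ hχ))
    rw [hiso _ (hmem χ hχ) _ (hmem χ hχ), hinner χ hχ χ hχ, hirr_inner χ hχ χ hχ,
      hirr_inner χ hχ _ (hconj χ hχ).1, if_pos rfl, if_neg (Ne.symm (hconj χ hχ).2)]
    simp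
    norm_num
  choose η₁ η₂ hne heq using key
  refine ⟨fun χ => if h : χ ∈ S then {((η₁ χ h : Cfsg.IrrCharacter G) : G → ℂ),
    -((η₂ χ h : Cfsg.IrrCharacter G) : G → ℂ)} else ∅, ?_⟩
  have hR : ∀ χ (h : χ ∈ S), (if h : χ ∈ S then ({((η₁ χ h : Cfsg.IrrCharacter G) : G → ℂ),
    -((η₂ χ h : Cfsg.IrrCharacter G) : G → ℂ)} : Finset (G → ℂ)) else ∅) =
      {((η₁ χ h : Cfsg.IrrCharacter G) : G → ℂ), -((η₂ χ h : Cfsg.IrrCharacter G) : G → ℂ)} := by
    intro χ h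
    rw [dif_pos h]
  have h12 : ∀ χ (h : χ ∈ S), Cfsg.classInner ((η₁ χ h : Cfsg.IrrCharacter G) : G → ℂ)
      ((η₂ χ h : Cfsg.IrrCharacter G) : G → ℂ) = 0 := by
    intro χ h
    rw [irr_classInner, if_neg (hne χ h)]
  have h21 : ∀ χ (h : χ ∈ S), Cfsg.classInner ((η₂ χ h : Cfsg.IrrCharacter G) : G → ℂ)
      ((η₁ χ h : Cfsg.IrrCharacter G) : G → ℂ) = 0 := by
    intro χ h
    rw [irr_classInner, if_neg (Ne.symm (hne χ h))]
  have h11 : ∀ η : Cfsg.IrrCharacter G, Cfsg.classInner (η : G → ℂ) (η : G → ℂ) = 1 := by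
    intro η
    rw [irr_classInner, if_pos rfl]
  constructor
  · exact hS
  · intro χ hχ
    exact isCharacter_of_irr ⟨χ, hirr χ hχ⟩
  · intro χ hχ
    exact (hconj χ hχ).1
  · intro χ hχ
    exact (hconj χ hχ).2
  · exact ⟨hadd, hsmul, hiso, hgen⟩
  · exact hτ1
  · intro χ hχ φ hφ hne'
    rw [hirr_inner χ hχ φ hφ, if_neg hne']
  · intro χ hχ α hα β hβ
    simp only [hR χ hχ, Finset.mem_insert, Finset.mem_singleton] at hα hβ
    rcases hα with rfl | rfl <;> rcases hβ with rfl | rfl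
    · rw [h11, if_pos rfl]
    · rw [inner_neg_right, h12, neg_zero, if_neg (irr_ne_neg_irr _ _)]
    · rw [inner_neg_left, h21, neg_zero, if_neg (Ne.symm (irr_ne_neg_irr _ _))]
    · rw [inner_neg_left, inner_neg_right, h11, neg_neg, if_pos rfl]
  · intro χ hχ α hα
    simp only [hR χ hχ, Finset.mem_insert, Finset.mem_singleton] at hα
    rcases hα with rfl | rfl
    · exact ⟨((η₁ χ hχ : Cfsg.IrrCharacter G) : G → ℂ), 0, isCharacter_of_irr (η₁ χ hχ), isCharacter_zero G, by simp⟩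
    · exact ⟨0, ((η₂ χ hχ : Cfsg.IrrCharacter G) : G → ℂ), isCharacter_zero G, isCharacter_of_irr (η₂ χ hχ), by simp⟩
  · intro χ hχ
    simp only [hR χ hχ]
    rw [Finset.sum_pair (irr_ne_neg_irr _ _), heq χ hχ, sub_eq_add_neg]
  · intro χ hχ φ hφ hφχ hφχ' α hα β hβ
    have hmix : Cfsg.classInner (((η₁ φ hφ : Cfsg.IrrCharacter G) : G → ℂ) - ((η₂ φ hφ : Cfsg.IrrCharacter G) : G → ℂ))
        (((1 : ℝ) : ℂ) • ((η₁ χ hχ : Cfsg.IrrCharacter G) : G → ℂ) - ((1 : ℝ) : ℂ) • ((η₂ χ hχ : Cfsg.IrrCharacter G) : G → ℂ)) = 0 := by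
      simp only [Complex.ofReal_one, one_smul]
      rw [← heq φ hφ, ← heq χ hχ, hiso _ (hmem φ hφ) _ (hmem χ hχ), hinner χ hχ φ hφ, hφχ, hφχ']
      simp
    have hv1 : ((η₁ φ hφ : Cfsg.IrrCharacter G) : G → ℂ) 1 = ((η₂ φ hφ : Cfsg.IrrCharacter G) : G → ℂ) 1 := by
      have := hτ1 _ (hmem φ hφ)
      rw [heq φ hφ, Pi.sub_apply, sub_eq_zero] at this
      exact this
    have hv2 : ((1 : ℝ) : ℂ) * ((η₁ χ hχ : Cfsg.IrrCharacter G) : G → ℂ) 1 = ((1 : ℝ) : ℂ) * ((η₂ χ hχ : Cfsg.IrrCharacter G) : G → ℂ) 1 := by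
      have := hτ1 _ (hmem χ hχ)
      rw [heq χ hχ, Pi.sub_apply, sub_eq_zero] at this
      rw [this]
    obtain ⟨r1, r2, r3, r4⟩ := Cfsg.Agent.S1509.result
      ((η₁ φ hφ : Cfsg.IrrCharacter G) : G → ℂ) ((η₂ φ hφ : Cfsg.IrrCharacter G) : G → ℂ)
      ((η₁ χ hχ : Cfsg.IrrCharacter G) : G → ℂ) ((η₂ χ hχ : Cfsg.IrrCharacter G) : G → ℂ)
      (Or.inl (η₁ φ hφ).2) (Or.inl (η₂ φ hφ).2) (Or.inl (η₁ χ hχ).2) (Or.inl (η₂ χ hχ).2)
      1 1 one_ne_zero one_ne_zero (h12 φ hφ) (h12 χ hχ) hmix hv1 hv2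
    simp only [hR χ hχ, hR φ hφ, Finset.mem_insert, Finset.mem_singleton] at hα hβ
    rcases hα with rfl | rfl <;> rcases hβ with rfl | rfl
    · exact r1
    · rw [inner_neg_right, r2, neg_zero]
    · rw [inner_neg_left, r3, neg_zero]
    · rw [inner_neg_left, inner_neg_right, r4, neg_zero, neg_zero]

end Cfsg.Agent.S1514
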