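import Cfsg.Statements.S0851
import Mathlib
import Cfsg.Agent.S0850
import Cfsg.Agent.Lib.helper2.CharInd
import Cfsg.Agent.Lib.Helper11.TIFN
import Cfsg.Agent.Lib.Helper11.IndTrans
import Cfsg.Agent.Lib.Helper11.BrauerSuzuki

set_option autoImplicit false
open Cfsg

namespace Cfsg.Agent.S0851

open Cfsg.Agent.Lib.Helper11 Cfsg.Agent.Lib.helper7 Cfsg.Agent.Lib.Helper25 Cfsg.Agent.Lib.helper2

theorem indFun_sub' {G : Type*} [Group G] [Fintype G] (H : Subgroup G) (a b : H → ℂ) :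
    Cfsg.indFun H (a - b) = Cfsg.indFun H a - Cfsg.indFun H b := by
  have h1 : a - b = a + (-1 : ℂ) • b := by
    simp [sub_eq_add_neg]
  rw [h1, indFun_add, indFun_smul]
  simp [sub_eq_add_neg]

theorem tifn_abelian_degree {N : Type*} [Group N] [Fintype N] (K : Subgroup N) [K.Normal]
    (hC : ∀ k ∈ K, k ≠ 1 → Subgroup.centralizer ({k} : Set N) ≤ K)
    (hab : ∀ a b : N, a ∈ K → b ∈ K → a * b = b * a) {χ : N → ℂ}
    (hχ : χ ∈ tifnSet K) : χ 1 = (K.index : ℂ) := by
  obtain ⟨θ, hθ, rfl⟩ := tifn_induced K hC hχ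
  rw [h7_indFun_one]
  have : IsMulCommutative K := ⟨⟨fun a b => Subtype.ext (hab a b a.2 b.2)⟩⟩
  obtain ⟨m, τ, hτ, hμ⟩ := hθ
  have := hτ
  rw [← hμ, Representation.char_one,
    Representation.IsIrreducible.finrank_eq_one_of_isMulCommutative τ]
  simp

theorem tifn_abelian_bs {G : Type*} [Group G] [Fintype G] (N : Subgroup G) [Fintype N]
    (K : Subgroup N) [K.Normal]
    (hC : ∀ k ∈ K, k ≠ 1 → Subgroup.centralizer ({k} : Set N) ≤ K)
    (hab : ∀ a b : N, a ∈ K → b ∈ K → a * b = b * a)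
    (hind : ∀ ϑ : N → ℂ, Cfsg.IsClassFunction N ϑ → (∀ x : N, x ∉ K → ϑ x = 0) → ϑ 1 = 0 →
      ∀ x : N, Cfsg.indFun N ϑ x = ϑ x) :
    ∃ (ε : ℂ) (f : {χ : Cfsg.IrrCharacter N // ∃ k : N, k ∈ K ∧
        (χ : N → ℂ) k ≠ (χ : N → ℂ) 1} → Cfsg.IrrCharacter G),
      (ε = 1 ∨ ε = -1) ∧ Function.Injective f ∧
      ∀ χ ξ, Cfsg.indFun N ((χ.1 : N → ℂ) - (ξ.1 : N → ℂ)) =
        ε • ((f χ : G → ℂ) - (f ξ : G → ℂ)) := by
  classical
  by_cases hsub : Subsingleton {χ : Cfsg.IrrCharacter N // ∃ k : N, k ∈ K ∧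
        (χ : N → ℂ) k ≠ (χ : N → ℂ) 1}
  · refine ⟨1, fun _ => trivIrr G, Or.inl rfl, fun a b _ => Subsingleton.elim a b, ?_⟩
    intro χ ξ
    rw [Subsingleton.elim χ ξ]
    simp [indFun_zero']
  · rw [not_subsingleton_iff_nontrivial] at hsub
    obtain ⟨t₁, t₂, h12⟩ := exists_pair_ne {χ : Cfsg.IrrCharacter N // ∃ k : N, k ∈ K ∧
        (χ : N → ℂ) k ≠ (χ : N → ℂ) 1}
    have hmem : ∀ t : {χ : Cfsg.IrrCharacter N // ∃ k : N, k ∈ K ∧
        (χ : N → ℂ) k ≠ (χ : N → ℂ) 1}, (t.1 : N → ℂ) ∈ tifnSet K := fun t => ⟨t.1.2, t.2⟩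
    have hdeg := fun t => tifn_abelian_degree K hC hab (hmem t)
    have hcl : ∀ t s : {χ : Cfsg.IrrCharacter N // ∃ k : N, k ∈ K ∧
        (χ : N → ℂ) k ≠ (χ : N → ℂ) 1},
        Cfsg.IsClassFunction N ((t.1 : N → ℂ) - (s.1 : N → ℂ)) := by
      intro t s g x
      rw [Pi.sub_apply, Pi.sub_apply, irr_conj_invariant, irr_conj_invariant]
    have hvan : ∀ t s : {χ : Cfsg.IrrCharacter N // ∃ k : N, k ∈ K ∧
        (χ : N → ℂ) k ≠ (χ : N → ℂ) 1}, ∀ x : N, x ∉ K →
        ((t.1 : N → ℂ) - (s.1 : N → ℂ)) x = 0 := by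
      intro t s x hx
      rw [Pi.sub_apply, tifn_vanish K hC (hmem t) x hx, tifn_vanish K hC (hmem s) x hx, sub_zero]
    have hone' : ∀ t s : {χ : Cfsg.IrrCharacter N // ∃ k : N, k ∈ K ∧
        (χ : N → ℂ) k ≠ (χ : N → ℂ) 1}, ((t.1 : N → ℂ) - (s.1 : N → ℂ)) 1 = 0 := by
      intro t s
      rw [Pi.sub_apply, hdeg t, hdeg s, sub_self]
    have hiso : ∀ t s t' s' : {χ : Cfsg.IrrCharacter N // ∃ k : N, k ∈ K ∧
        (χ : N → ℂ) k ≠ (χ : N → ℂ) 1},
        Cfsg.classInner (Cfsg.indFun N ((t.1 : N → ℂ) - (s.1 : N → ℂ)))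
          (Cfsg.indFun N ((t'.1 : N → ℂ) - (s'.1 : N → ℂ))) =
        Cfsg.classInner ((t.1 : N → ℂ) - (s.1 : N → ℂ)) ((t'.1 : N → ℂ) - (s'.1 : N → ℂ)) := by
      intro t s t' s'
      rw [h7_frobenius_reciprocity N _ _ (h7_indFun_isClassFunction N _)]
      congr 1
      funext x
      exact hind _ (hcl _ _) (hvan _ _) (hone' _ _) x
    have hne : ∀ t s : {χ : Cfsg.IrrCharacter N // ∃ k : N, k ∈ K ∧
        (χ : N → ℂ) k ≠ (χ : N → ℂ) 1}, t ≠ s → t.1 ≠ s.1 := fun t s h h' => h (Subtype.ext h')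
    obtain ⟨ε, F, hε, hinj, hF⟩ := brauer_suzuki_lattice
      (fun t : {χ : Cfsg.IrrCharacter N // ∃ k : N, k ∈ K ∧
        (χ : N → ℂ) k ≠ (χ : N → ℂ) 1} => Cfsg.indFun N ((t₁.1 : N → ℂ) - (t.1 : N → ℂ)))
      t₁ t₂ h12.symm
      (by simp [indFun_zero'])
      (fun t => ⟨_, _, isCharacter_indFun N _ (isCharacter_of_irr t₁.1),
        isCharacter_indFun N _ (isCharacter_of_irr t.1), indFun_sub' N _ _⟩)
      (fun t => by
        rw [h7_indFun_one, hone', mul_zero])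
      (fun t ht => by
        rw [hiso, irr_diff_inner, if_pos rfl, if_pos rfl, if_neg (hne _ _ ht),
          if_neg (hne _ _ (Ne.symm ht))]
        norm_num)
      (fun t s ht hs hts => by
        rw [hiso, irr_diff_inner, if_pos rfl, if_neg (hne _ _ hts), if_neg (hne _ _ ht),
          if_neg (hne _ _ (Ne.symm hs))]
        norm_num)
    refine ⟨ε, F, hε, hinj, ?_⟩
    intro χ ξ
    rw [← hF χ ξ, ← indFun_sub']
    congr 1
    abel


/-- Let K be a subgroup of the finite group G that meets each conjugate by an element outside its normalizer N trivially, is properly contained in N, and contains the centralizer of each of its non-identity elements (a T.I. subgroup with Frobenius normalizer). Suppose K is abelian, let e be the index of K in N, and call an irreducible character of N relevant when it takes at some element of K a value different from its degree. Then either there is exactly one relevant character and K is an elementary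 abelian p-group of order e + 1 for some prime p, or there are a sign ε and an injective map f from the relevant characters to the irreducible characters of G such that inducing χ - ξ to G gives ε (f χ - f ξ) for all relevant χ and ξ. -/
theorem result {G : Type*} [Group G] [Fintype G] (K : Subgroup G) (hTI : ∀ g : G, g ∉ Subgroup.normalizer (K : Set G) → ∀ k ∈ K, g * k * g⁻¹ ∈ K → k = 1) (hlt : K < Subgroup.normalizer (K : Set G)) (hC : ∀ k ∈ K, k ≠ 1 → Subgroup.centralizer ({k} : Set G) ≤ K) (hab : ∀ a ∈ K, ∀ b ∈ K, a * b = b * a) : (Nat.card {χ : Cfsg.IrrCharacter (Subgroup.normalizer (K : Set G)) // ∃ k : Subgroup.normalizer (K : Set G), (k : G) ∈ K ∧ (χ : ↥(Subgroup.normalizer (K : Set G)) → ℂ) k ≠ (χ : ↥(Subgroup.normalizer (K : Set G)) → ℂ) 1} = 1 ∧ ∃ p : ℕ, p.Prime ∧ Cfsg.IsElementaryAbelian p K ∧ Nat.card K = (K.subgroupOf (Subgroup.normalizer (K : Set G))).index + 1) ∨ ∃ (ε : ℂ) (f : {χ : Cfsg.IrrCharacter (Subgroup.normalizer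 (K : Set G)) // ∃ k : Subgroup.normalizer (K : Set G), (k : G) ∈ K ∧ (χ : ↥(Subgroup.normalizer (K : Set G)) → ℂ) k ≠ (χ : ↥(Subgroup.normalizer (K : Set G)) → ℂ) 1} → Cfsg.IrrCharacter G), (ε = 1 ∨ ε = -1) ∧ Function.Injective f ∧ ∀ χ ξ, Cfsg.indFun (Subgroup.normalizer (K : Set G)) ((χ.1 : ↥(Subgroup.normalizer (K : Set G)) → ℂ) - (ξ.1 : ↥(Subgroup.normalizer (K : Set G)) → ℂ)) = ε • ((f χ : G → ℂ) - (f ξ : G → ℂ)) := by
  classical
  right
  have := Fintype.ofFinite ↥(Subgroup.normalizer (K : Set G))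
  have hp1 := Cfsg.Agent.S0850.part_one K hTI hC
  have hn : (K.subgroupOf (Subgroup.normalizer (K : Set G))).Normal := Subgroup.normal_in_normalizer
  exact tifn_abelian_bs (Subgroup.normalizer (K : Set G)) (K.subgroupOf (Subgroup.normalizer (K : Set G)))
    (by
      intro k hk hk1 x hx
      rw [Subgroup.mem_subgroupOf] at hk ⊢
      have hk1' : (k : G) ≠ 1 := fun h => hk1 (Subtype.ext h)
      apply hC (k : G) hk hk1'
      rw [Subgroup.mem_centralizer_iff] at hx ⊢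
      intro y hy
      rw [Set.mem_singleton_iff] at hy
      subst hy
      have := congrArg Subtype.val (hx k (Set.mem_singleton k))
      simpa using this)
    (fun a b ha hb => Subtype.ext (hab a ha b hb))
    (fun ϑ hc h0 h1 x => Cfsg.Agent.S0850.part_two K _ hTI hp1 ϑ hc h0 h1 x)

end Cfsg.Agent.S0851
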