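import Mathlib
import Cfsg.Statements.S1033
import Cfsg.Agent.Lib.helper8.ChevSimple
import Cfsg.Agent.Lib.helper8.ChevTabSLD4
import Cfsg.Agent.Lib.helper8.ChevTabSLE6
import Cfsg.Agent.Lib.helper8.ChevTabSLE7
import Cfsg.Agent.Lib.helper8.ChevTabSLE8
import Cfsg.Agent.Lib.helper8.ChevTabHG2
import Cfsg.Agent.Lib.helper8.ChevTabHB2
import Cfsg.Agent.Lib.helper8.ChevTabHF4
import Cfsg.Agent.Lib.helper8.ChevTabSimSLD4
import Cfsg.Agent.Lib.helper8.ChevTabSimSLE6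
import Cfsg.Agent.Lib.helper8.ChevTabSimSLE7
import Cfsg.Agent.Lib.helper8.ChevTabSimSLE8
import Cfsg.Agent.Lib.helper8.ChevTabSimRG2
import Cfsg.Agent.Lib.helper8.ChevTabSimRB2
import Cfsg.Agent.Lib.helper8.ChevTabSimRF4

set_option autoImplicit false
open Cfsg

namespace Cfsg.Agent.S1033

open Cfsg.Lie Cfsg.Lie.ChevalleyDatum Cfsg.Agent.Lib.helper8

theorem result {F : Type*} [Field F] (D : Cfsg.Lie.ChevalleyDatum) (hD : D ∈ [Cfsg.Lie.chevG2, Cfsg.Lie.chevB2, Cfsg.Lie.chevD4, Cfsg.Lie.chevF4, Cfsg.Lie.chevE6, Cfsg.Lie.chevE7, Cfsg.Lie.chevE8]) (i : ℕ) (hi : i < D.rank) (c : F) (hc : c ≠ 0) :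
    D.hMat F (D.simple i) c = Matrix.diagonal (Sum.elim (fun _ => (1 : F)) (fun s : Fin D.nroots => c ^ (D.cartan i s))) := by
  simp only [List.mem_cons, List.mem_nil_iff, or_false] at hD
  rcases hD with rfl | rfl | rfl | rfl | rfl | rfl | rfl
  · exact h8hMat_simple_refl _ h8hDiagChk_G2 h8simpleChkRefl_G2 i hi c hc
  · exact h8hMat_simple_refl _ h8hDiagChk_B2 h8simpleChkRefl_B2 i hi c hc
  · exact h8hMat_simple_SL _ h8SL_D4 h8simpleChkSL_D4 i hi c hc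
  · exact h8hMat_simple_refl _ h8hDiagChk_F4 h8simpleChkRefl_F4 i hi c hc
  · exact h8hMat_simple_SL _ h8SL_E6 h8simpleChkSL_E6 i hi c hc
  · exact h8hMat_simple_SL _ h8SL_E7 h8simpleChkSL_E7 i hi c hc
  · exact h8hMat_simple_SL _ h8SL_E8 h8simpleChkSL_E8 i hi c hc

end Cfsg.Agent.S1033
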