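import Mathlib
import Cfsg.Statements.S1032
import Cfsg.Agent.S1033
import Cfsg.Agent.Lib.helper8.ChevDiag
import Cfsg.Agent.Lib.helper8.ChevTabCAG2
import Cfsg.Agent.Lib.helper8.ChevTabCAB2
import Cfsg.Agent.Lib.helper8.ChevTabCAD4
import Cfsg.Agent.Lib.helper8.ChevTabCAF4
import Cfsg.Agent.Lib.helper8.ChevTabCAE6
import Cfsg.Agent.Lib.helper8.ChevTabCAE7
import Cfsg.Agent.Lib.helper8.ChevTabCAE8

set_option autoImplicit false
open Cfsg

namespace Cfsg.Agent.S1032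

open Cfsg.Lie Cfsg.Lie.ChevalleyDatum Cfsg.Agent.Lib.helper8

theorem main {F : Type*} [Field F] (D : ChevalleyDatum) (hCA : H8CA D) (i s : ℕ) (hi : i < D.rank)
    (hs : s < D.nroots) (c : F) (hc : c ≠ 0) (t : F)
    (hdiag : D.hMat F (D.simple i) c =
      Matrix.diagonal (Sum.elim (fun _ => (1 : F)) (fun s : Fin D.nroots => c ^ (D.cartan i s)))) :
    D.hMat F (D.simple i) c * D.x F s t = D.x F s (c ^ (D.cartan i s) * t) * D.hMat F (D.simple i) c := by
  rw [hdiag]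
  unfold ChevalleyDatum.x
  rw [dif_pos hs, dif_pos hs]
  exact h8diag_conj_xMat D c hc (D.cartan i) ⟨s, hs⟩ t (hCA.neg i hi s hs)
    (fun v u km hkm => hCA.add i hi s hs v.val u.val km hkm)

theorem result {F : Type*} [Field F] (D : Cfsg.Lie.ChevalleyDatum) (hD : D ∈ [Cfsg.Lie.chevG2, Cfsg.Lie.chevB2, Cfsg.Lie.chevD4, Cfsg.Lie.chevF4, Cfsg.Lie.chevE6, Cfsg.Lie.chevE7, Cfsg.Lie.chevE8]) (i s : ℕ) (hi : i < D.rank) (hs : s < D.nroots) (c : F) (hc : c ≠ 0) (t : F) :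
    D.hMat F (D.simple i) c * D.x F s t = D.x F s (c ^ (D.cartan i s) * t) * D.hMat F (D.simple i) c := by
  have hdiag := Cfsg.Agent.S1033.result D hD i hi c hc
  simp only [List.mem_cons, List.mem_nil_iff, or_false] at hD
  rcases hD with rfl | rfl | rfl | rfl | rfl | rfl | rfl
  · exact main _ h8CA_G2 i s hi hs c hc t hdiag
  · exact main _ h8CA_B2 i s hi hs c hc t hdiag
  · exact main _ h8CA_D4 i s hi hs c hc t hdiag
  · exact main _ h8CA_F4 i s hi hs c hc t hdiag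
  · exact main _ h8CA_E6 i s hi hs c hc t hdiag
  · exact main _ h8CA_E7 i s hi hs c hc t hdiag
  · exact main _ h8CA_E8 i s hi hs c hc t hdiag

end Cfsg.Agent.S1032
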