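import Cfsg.Statements.S0958
import Cfsg.Agent.Lib.helper7.BlockFirstMain2
import Cfsg.Agent.Lib.Helper25.PCoreBlocks
import Cfsg.Agent.Lib.Helper1.Cores

set_option autoImplicit false
open Cfsg

namespace Cfsg.Agent.S0958


open Cfsg.Agent.Lib.helper7

/-- Let P be a p-subgroup of the finite group G and H a subgroup with P ⊔ C_G(P) ≤ H ≤ N_G(P); fix a maximal ideal M of the algebraic integers containing p. Then a block B of G is induced by some block of H if and only if some conjugate of P is contained in a defect group of B. -/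
theorem result {G : Type*} [Group G] [Finite G] (p : ℕ) [Fact p.Prime] (M : Ideal Cfsg.AlgInt) (hM : Cfsg.IsPModular p M) (P H : Subgroup G) (hP : IsPGroup p P) (hPH : P ⊔ Subgroup.centralizer (P : Set G) ≤ H) (hHN : H ≤ Subgroup.normalizer (P : Set G)) (B : Set (Cfsg.IrrCharacter G)) (hB : Cfsg.IsPBlock M B) : (∃ b : Set (Cfsg.IrrCharacter H), Cfsg.IsInducedBlock M H b B) ↔ ∃ D : Subgroup G, Cfsg.IsDefectGroup p M B D ∧ ∃ x : G, P.map (MulAut.conj x).toMonoidHom ≤ D := by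
  classical
  haveI : Fintype G := Fintype.ofFinite _
  haveI : Fintype (Cfsg.IrrCharacter G) := Fintype.ofFinite _
  haveI : Fintype H := Fintype.ofFinite _
  haveI : Fintype (Cfsg.IrrCharacter H) := Fintype.ofFinite _
  have hPr := hM.2.1.isPrime
  have hPH' : P ≤ H := le_sup_left.trans hPH
  have hCH : Subgroup.centralizer (P : Set G) ≤ H := le_sup_right.trans hPH
  obtain ⟨χ₀, rfl⟩ := hB
  have hχ₀B : χ₀ ∈ Cfsg.blockOf M (χ₀ : G → ℂ) := h7_sameBlock_refl hPr _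
  constructor
  · rintro ⟨b, hind⟩
    obtain ⟨ξ₀, rfl⟩ := hind.1
    have hξ₀b : ξ₀ ∈ Cfsg.blockOf M (ξ₀ : H → ℂ) := h7_sameBlock_refl hPr _
    obtain ⟨l, hl⟩ := Cfsg.Agent.S0906.result p M hM (Cfsg.blockOf M (ξ₀ : H → ℂ)) ⟨ξ₀, rfl⟩
    obtain ⟨Q''⟩ : Nonempty (Sylow p (Subgroup.centralizer ({l} : Set H))) := inferInstance
    have hDb : Cfsg.IsDefectGroup p M (Cfsg.blockOf M (ξ₀ : H → ℂ))
        ((Q'' : Subgroup (Subgroup.centralizer ({l} : Set H))).map
          (Subgroup.centralizer ({l} : Set H)).subtype) := ⟨l, hl, Q'', rfl⟩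
    have h1 := Cfsg.Agent.Lib.Helper25.an_pCore_le_defectGroup p M hM _ ⟨ξ₀, rfl⟩ _ hDb
    have h2 : P.subgroupOf H ≤ Cfsg.pCore p H :=
      Cfsg.Agent.Lib.Helper1.le_pCore ((Subgroup.normal_subgroupOf_iff_le_normalizer hPH').mpr hHN)
        hP.comap_subtype
    obtain ⟨E, hE, hle⟩ := h7_induced_defect_le hM H ξ₀ χ₀
      (fun g => hind.2.2 ξ₀ hξ₀b χ₀ hχ₀B g) _ hDb
    refine ⟨E, hE, 1, ?_⟩
    rintro _ ⟨u, hu, rfl⟩
    simp only [map_one, MulEquiv.coe_toMonoidHom, MulAut.one_apply]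
    apply hle
    exact ⟨⟨u, hPH' hu⟩, h1 (h2 (Subgroup.mem_subgroupOf.mpr hu)), rfl⟩
  · rintro ⟨D, hD, x, hx⟩
    have hD' := h7_isDefectGroup_conj p M _ D hD x⁻¹
    have hPD' : P ≤ D.map (MulAut.conj x⁻¹).toMonoidHom := by
      intro u hu
      refine ⟨x * u * x⁻¹, hx ⟨u, hu, rfl⟩, ?_⟩
      simp only [MulEquiv.coe_toMonoidHom, MulAut.conj_apply, inv_inv]
      group
    obtain ⟨g, hg, Q, hQ⟩ := hD'
    have hPC : P ≤ Subgroup.centralizer ({g} : Set G) := by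
      refine hPD'.trans ?_
      rw [hQ]
      exact Subgroup.map_subtype_le _
    obtain ⟨ψ, hind⟩ := h7_exists_induced hM P H hP hPH' hCH hHN χ₀ g
      (h7_mem_centralizer_of_le hPC) hg.2.1
    exact ⟨_, hind⟩

end Cfsg.Agent.S0958
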