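import Cfsg.Statements.S0713
import Mathlib

set_option autoImplicit false
open Cfsg

namespace Cfsg.Agent.S0713

open MulAction Equiv Equiv.Perm
open scoped Pointwise

variable {α : Type*} [Fintype α] [DecidableEq α]

theorem multi_trans (G : Subgroup (Equiv.Perm α)) (hG : MulAction.IsPreprimitive G α) {p : ℕ}
    (hp : p.Prime) (hpn : p + 3 ≤ Fintype.card α) {g : Equiv.Perm α} (hgc : g.IsCycle)
    (hgp : g.support.card = p) (hg : g ∈ G) :
    IsMultiplyPretransitive G α (Fintype.card α - p) := by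
  classical
  have hp2 := hp.two_le
  obtain ⟨m, hm⟩ : ∃ m, Fintype.card α - p = m + 1 := ⟨Fintype.card α - p - 1, by omega⟩
  have hmp : IsMultiplyPreprimitive G α (m + 2) := by
    apply hG.isMultiplyPreprimitive (s := (g.supportᶜ : Set α))
    · apply Nat.add_left_cancel
      rw [Set.ncard_add_ncard_compl, Set.ncard_coe_finset, hgp, Nat.card_eq_fintype_card]
      omega
    · rw [Nat.card_eq_fintype_card]; omega
    have := isPretransitive_of_isCycle_mem hgc hg
    apply IsPreprimitive.of_prime_card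
    convert! hp
    rw [Nat.card_eq_fintype_card, Fintype.card_subtype, ← hgp]
    apply congr_arg
    ext x
    simp [SubMulAction.mem_ofFixingSubgroup_iff]
  have h1 : IsMultiplyPretransitive G α (m + 2) := IsMultiplyPreprimitive.isMultiplyPretransitive ..
  rw [hm]
  exact isMultiplyPretransitive_of_le (n := m + 2) (by omega) (by rw [Nat.card_eq_fintype_card]; omega)

theorem exists_inducing (G : Subgroup (Equiv.Perm α)) (D : Finset α)
    (hk : IsMultiplyPretransitive G α D.card) (σ : Equiv.Perm α) :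
    ∃ h ∈ G, ∀ z ∈ D, h z = σ z := by
  let e : Fin D.card ↪ α := D.equivFin.symm.toEmbedding.trans (Function.Embedding.subtype _)
  let e' : Fin D.card ↪ α := e.trans σ.toEmbedding
  obtain ⟨h, hh⟩ := hk.exists_smul_eq e e'
  refine ⟨h.1, h.2, ?_⟩
  intro z hz
  have := congrArg (fun f : Fin D.card ↪ α => f (D.equivFin ⟨z, hz⟩)) hh
  simp only [e, e'] at this
  have h2 : h • z = σ z := by simpa using this
  exact h2

theorem card_fix (p : ℕ) (S : Finset α) (hS : S.card = p) :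
    Nat.card (fixingSubgroup (Equiv.Perm α) ((S : Set α)ᶜ)) = p.factorial := by
  have hle : p ≤ Fintype.card α := hS ▸ Finset.card_le_univ S
  have hs : ((S : Set α)ᶜ).ncard = Fintype.card α - p := by
    have := Set.ncard_add_ncard_compl (S : Set α)
    rw [Set.ncard_coe_finset, hS, Nat.card_eq_fintype_card] at this
    omega
  have h1 := IsMultiplyPretransitive.index_of_fixingSubgroup_mul
    (Equiv.Perm.isMultiplyPretransitive α (Fintype.card α - p)) hs
  rw [Nat.card_eq_fintype_card] at h1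
  have h2 := Subgroup.card_mul_index (fixingSubgroup (Equiv.Perm α) ((S : Set α)ᶜ))
  rw [Nat.card_perm, Nat.card_eq_fintype_card (α := α)] at h2
  have h3 : Fintype.card α - (Fintype.card α - p) = p := by omega
  rw [h3] at h1
  have hidx : 0 < (fixingSubgroup (Equiv.Perm α) ((S : Set α)ᶜ)).index := by
    rcases Nat.eq_zero_or_pos (fixingSubgroup (Equiv.Perm α) ((S : Set α)ᶜ)).index with h | h
    · rw [h, zero_mul] at h1
      exact absurd h1.symm (Nat.factorial_ne_zero _)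
    · exact h
  apply Nat.eq_of_mul_eq_mul_right hidx
  rw [h2, mul_comm, h1]

theorem factorization_eq_one {p m : ℕ} (hp : p.Prime) (h1 : p ∣ m) (h2 : m ∣ p.factorial) :
    m.factorization p = 1 := by
  have hm0 : m ≠ 0 := by
    rintro rfl
    exact Nat.factorial_ne_zero p (zero_dvd_iff.mp h2)
  have ha : 1 ≤ m.factorization p := by
    rw [← hp.pow_dvd_iff_le_factorization hm0, pow_one]; exact h1
  have hb : ¬ 2 ≤ m.factorization p := by
    rw [← hp.pow_dvd_iff_le_factorization hm0]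
    intro h
    have h3 : p ^ 2 ∣ p.factorial := h.trans h2
    have hp1 : p = (p - 1) + 1 := by have := hp.two_le; omega
    rw [hp1, Nat.factorial_succ, ← hp1, pow_two] at h3
    have h4 : p ∣ (p - 1).factorial := Nat.dvd_of_mul_dvd_mul_left hp.pos h3
    rw [hp.dvd_factorial] at h4
    have := hp.two_le
    omega
  omega

theorem sylow_step (G : Subgroup (Equiv.Perm α)) {p : ℕ} (hp : p.Prime) {g : Equiv.Perm α}
    (hgc : g.IsCycle) (hgp : g.support.card = p) (hg : g ∈ G) (h : Equiv.Perm α) (hh : h ∈ G)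
    (hΔ : ∀ z, z ∉ g.support → h z ∉ g.support) :
    ∃ x ∈ G, (∀ z, z ∉ g.support → x z = z) ∧ (x * h) * g * (x * h)⁻¹ ∈ Subgroup.zpowers g := by
  classical
  have : Fact p.Prime := ⟨hp⟩
  set Fx := fixingSubgroup (Equiv.Perm α) ((g.support : Set α)ᶜ) with hFx
  have memFx : ∀ x : Equiv.Perm α, x ∈ Fx ↔ ∀ z, z ∉ g.support → x z = z := by
    intro x
    rw [hFx, mem_fixingSubgroup_iff]
    constructor
    · intro hx z hz
      exact hx z (by simpa using hz)
    · intro hx z hz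
      exact hx z (by simpa using hz)
  set K : Subgroup (Equiv.Perm α) := G ⊓ Fx with hK
  have hgK : g ∈ K := ⟨hg, (memFx g).mpr (fun z hz => by simpa using hz)⟩
  -- h permutes the complement of the support
  have hΔ' : ∀ z, z ∉ g.support → h⁻¹ z ∉ g.support := by
    intro z hz
    have hinj : Set.InjOn h (g.supportᶜ : Finset α) := h.injective.injOn
    have hmaps : Set.MapsTo h (g.supportᶜ : Finset α) (g.supportᶜ : Finset α) := by
      intro w hw
      have hw' : w ∉ g.support := by simpa using hw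
      have := hΔ w hw'
      simpa using this
    have hsurj : Set.SurjOn h (g.supportᶜ : Finset α) (g.supportᶜ : Finset α) :=
      Finset.surjOn_of_injOn_of_card_le h hmaps hinj le_rfl
    obtain ⟨w, hw, hwz⟩ := hsurj (by simpa using hz : z ∈ ((g.supportᶜ : Finset α) : Set α))
    rw [← hwz]
    have hw' : w ∉ g.support := by simpa using hw
    simpa using hw'
  have hg'K : h * g * h⁻¹ ∈ K := by
    refine ⟨G.mul_mem (G.mul_mem hh hg) (G.inv_mem hh), (memFx _).mpr ?_⟩
    intro z hz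
    have h1 : g (h⁻¹ z) = h⁻¹ z := by
      have := hΔ' z hz
      simpa using this
    simp only [Equiv.Perm.mul_apply, h1]
    simp
  have hcardK : (Nat.card K).factorization p = 1 := by
    apply factorization_eq_one hp
    · have h1 : orderOf (⟨g, hgK⟩ : K) = p := by rw [Subgroup.orderOf_mk, hgc.orderOf, hgp]
      rw [← h1]
      exact orderOf_dvd_natCard _
    · rw [← card_fix p g.support hgp]
      exact Subgroup.card_dvd_of_le inf_le_right
  have hc1 : Nat.card (Subgroup.zpowers (⟨g, hgK⟩ : K)) = p ^ (Nat.card K).factorization p := by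
    rw [hcardK, pow_one, Nat.card_zpowers, Subgroup.orderOf_mk, hgc.orderOf, hgp]
  have hc2 : Nat.card (Subgroup.zpowers (⟨h * g * h⁻¹, hg'K⟩ : K)) = p ^ (Nat.card K).factorization p := by
    rw [hcardK, pow_one, Nat.card_zpowers, Subgroup.orderOf_mk]
    have : h * g * h⁻¹ = MulAut.conj h g := by simp [MulAut.conj_apply]
    rw [this, (MulAut.conj h).orderOf_eq g, hgc.orderOf, hgp]
  let S1 : Sylow p K := Sylow.ofCard _ hc1
  let S2 : Sylow p K := Sylow.ofCard _ hc2
  obtain ⟨x, hx⟩ := MulAction.exists_smul_eq K S2 S1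
  have hmem : MulAut.conj x • (⟨h * g * h⁻¹, hg'K⟩ : K) ∈ MulAut.conj x • (S2 : Subgroup K) :=
    Subgroup.smul_mem_pointwise_smul _ _ _ (Subgroup.mem_zpowers _)
  rw [← Sylow.coe_subgroup_smul, hx] at hmem
  have hmem' : MulAut.conj x • (⟨h * g * h⁻¹, hg'K⟩ : K) ∈ Subgroup.zpowers (⟨g, hgK⟩ : K) := hmem
  obtain ⟨j, hj⟩ := Subgroup.mem_zpowers_iff.mp hmem'
  refine ⟨x.1, x.2.1, (memFx x.1).mp x.2.2, ?_⟩
  rw [Subgroup.mem_zpowers_iff]
  refine ⟨j, ?_⟩
  have := congrArg Subtype.val hj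
  simp only [MulAut.smul_def, MulAut.conj_apply] at this
  rw [Subgroup.coe_zpow] at this
  rw [this]
  simp only [Subgroup.coe_mul, Subgroup.coe_inv, mul_inv_rev]
  group

theorem comm_of_norm {H : Type*} [Group H] (g n₁ n₂ : H)
    (h1 : n₁ * g * n₁⁻¹ ∈ Subgroup.zpowers g) (h2 : n₂ * g * n₂⁻¹ ∈ Subgroup.zpowers g) :
    Commute (n₁⁻¹ * n₂⁻¹ * n₁ * n₂) g := by
  obtain ⟨a, ha⟩ := Subgroup.mem_zpowers_iff.mp h1
  obtain ⟨b, hb⟩ := Subgroup.mem_zpowers_iff.mp h2
  have e1 : (n₁ * n₂) * g * (n₁ * n₂)⁻¹ = g ^ (a * b) := by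
    have : (n₁ * n₂) * g * (n₁ * n₂)⁻¹ = n₁ * (n₂ * g * n₂⁻¹) * n₁⁻¹ := by group
    rw [this, ← hb]
    have : n₁ * g ^ b * n₁⁻¹ = (n₁ * g * n₁⁻¹) ^ b := by
      simp
    rw [this, ← ha, zpow_mul]
  have e2 : (n₂ * n₁) * g * (n₂ * n₁)⁻¹ = g ^ (a * b) := by
    have : (n₂ * n₁) * g * (n₂ * n₁)⁻¹ = n₂ * (n₁ * g * n₁⁻¹) * n₂⁻¹ := by group
    rw [this, ← ha]
    have : n₂ * g ^ a * n₂⁻¹ = (n₂ * g * n₂⁻¹) ^ a := by
      simp
    rw [this, ← hb, mul_comm a b, zpow_mul]
  have e3 := e1.trans e2.symm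
  show n₁⁻¹ * n₂⁻¹ * n₁ * n₂ * g = g * (n₁⁻¹ * n₂⁻¹ * n₁ * n₂)
  have : n₁⁻¹ * n₂⁻¹ * n₁ * n₂ * g = (n₂ * n₁)⁻¹ * ((n₁ * n₂) * g * (n₁ * n₂)⁻¹) * (n₁ * n₂) := by group
  rw [this, e3]
  group

theorem cycle_centralizer {g c : Equiv.Perm α} (hgc : g.IsCycle) (hc : Commute c g) :
    ∃ j : ℤ, ∀ x, g x ≠ x → c x = (g ^ j) x := by
  obtain ⟨a, ha, hall⟩ := hgc
  have hcomm : ∀ x, c (g x) = g (c x) := by
    intro x
    have := congrArg (fun f : Equiv.Perm α => f x) hc.eq
    simpa using this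
  have hca : g (c a) ≠ c a := by
    rw [← hcomm a]
    intro h
    exact ha (c.injective h)
  obtain ⟨j, hj⟩ := hall hca
  refine ⟨j, ?_⟩
  intro x hx
  obtain ⟨i, hi⟩ := hall hx
  have hci : ∀ i : ℤ, c ((g ^ i) a) = (g ^ i) (c a) := by
    intro i
    have h1 : Commute c (g ^ i) := hc.zpow_right i
    have := congrArg (fun f : Equiv.Perm α => f a) h1.eq
    simpa using this
  rw [← hi, hci, ← hj, ← Equiv.Perm.mul_apply, ← Equiv.Perm.mul_apply, ← zpow_add, ← zpow_add, add_comm]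

theorem induced_inv (n σ : Equiv.Perm α) (D : Set α) (hn : ∀ z ∈ D, n z = σ z)
    (hσ : ∀ z ∈ D, σ⁻¹ z ∈ D) : ∀ z ∈ D, n⁻¹ z = σ⁻¹ z := by
  intro z hz
  have h1 := hn (σ⁻¹ z) (hσ z hz)
  have h2 : σ (σ⁻¹ z) = z := by rw [Equiv.Perm.inv_def, Equiv.apply_symm_apply]
  rw [h2] at h1
  calc n⁻¹ z = n⁻¹ (n (σ⁻¹ z)) := by rw [h1]
    _ = σ⁻¹ z := by rw [Equiv.Perm.inv_def n, Equiv.symm_apply_apply]

theorem main (G : Subgroup (Equiv.Perm α)) (hG : MulAction.IsPreprimitive G α) {p : ℕ} (hp : p.Prime) (hn : 5 ≤ Fintype.card α) (hpn : p + 3 ≤ Fintype.card α) {g : Equiv.Perm α} (hgc : g.IsCycle) (hgp : g.support.card = p) (hg : g ∈ G) : alternatingGroup α ≤ G := by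
  classical
  have hk := multi_trans G hG hp hpn hgc hgp hg
  have hDcard : (g.supportᶜ : Finset α).card = Fintype.card α - p := by
    rw [Finset.card_compl, hgp]
  rw [← hDcard] at hk
  -- three fixed points
  have h3 : 2 < (g.supportᶜ : Finset α).card := by rw [hDcard]; omega
  obtain ⟨a, b, c', ha, hb, hc', hab, hac, hbc⟩ := Finset.two_lt_card_iff.mp h3
  have ha' : a ∉ g.support := by simpa using ha
  have hb' : b ∉ g.support := by simpa using hb
  have hc'' : c' ∉ g.support := by simpa using hc'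
  set D : Set α := {z | z ∉ g.support} with hD
  have swapD : ∀ u v : α, u ∈ D → v ∈ D → ∀ z ∈ D, Equiv.swap u v z ∈ D := by
    intro u v hu hv z hz
    by_cases h1 : z = u
    · rw [h1, Equiv.swap_apply_left]; exact hv
    · by_cases h2 : z = v
      · rw [h2, Equiv.swap_apply_right]; exact hu
      · rw [Equiv.swap_apply_of_ne_of_ne h1 h2]; exact hz
  -- elements inducing the swaps
  obtain ⟨h₁, hh₁G, hh₁⟩ := exists_inducing G _ hk (Equiv.swap a b)
  obtain ⟨h₂, hh₂G, hh₂⟩ := exists_inducing G _ hk (Equiv.swap b c')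
  have hh₁D : ∀ z ∈ D, h₁ z = Equiv.swap a b z := fun z hz => hh₁ z (by
    have : z ∉ g.support := hz
    simpa using this)
  have hh₂D : ∀ z ∈ D, h₂ z = Equiv.swap b c' z := fun z hz => hh₂ z (by
    have : z ∉ g.support := hz
    simpa using this)
  obtain ⟨x₁, hx₁G, hx₁D, hx₁n⟩ := sylow_step G hp hgc hgp hg h₁ hh₁G
    (fun z hz => by rw [hh₁D z hz]; exact swapD a b ha' hb' z hz)
  obtain ⟨x₂, hx₂G, hx₂D, hx₂n⟩ := sylow_step G hp hgc hgp hg h₂ hh₂G
    (fun z hz => by rw [hh₂D z hz]; exact swapD b c' hb' hc'' z hz)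
  set n₁ := x₁ * h₁ with hn₁
  set n₂ := x₂ * h₂ with hn₂
  have hn₁D : ∀ z ∈ D, n₁ z = Equiv.swap a b z := by
    intro z hz
    rw [hn₁, Equiv.Perm.mul_apply, hh₁D z hz]
    exact hx₁D _ (swapD a b ha' hb' z hz)
  have hn₂D : ∀ z ∈ D, n₂ z = Equiv.swap b c' z := by
    intro z hz
    rw [hn₂, Equiv.Perm.mul_apply, hh₂D z hz]
    exact hx₂D _ (swapD b c' hb' hc'' z hz)
  have hn₁inv : ∀ z ∈ D, n₁⁻¹ z = Equiv.swap a b z := by
    intro z hz
    have := induced_inv n₁ (Equiv.swap a b) D hn₁D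
      (fun z hz => by rw [Equiv.swap_inv]; exact swapD a b ha' hb' z hz) z hz
    rwa [Equiv.swap_inv] at this
  have hn₂inv : ∀ z ∈ D, n₂⁻¹ z = Equiv.swap b c' z := by
    intro z hz
    have := induced_inv n₂ (Equiv.swap b c') D hn₂D
      (fun z hz => by rw [Equiv.swap_inv]; exact swapD b c' hb' hc'' z hz) z hz
    rwa [Equiv.swap_inv] at this
  set c := n₁⁻¹ * n₂⁻¹ * n₁ * n₂ with hc
  have hcG : c ∈ G := by
    have hn₁G : n₁ ∈ G := G.mul_mem hx₁G hh₁G
    have hn₂G : n₂ ∈ G := G.mul_mem hx₂G hh₂G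
    exact G.mul_mem (G.mul_mem (G.mul_mem (G.inv_mem hn₁G) (G.inv_mem hn₂G)) hn₁G) hn₂G
  have hcomm : Commute c g := comm_of_norm g n₁ n₂ hx₁n hx₂n
  obtain ⟨j, hj⟩ := cycle_centralizer hgc hcomm
  set τ := Equiv.swap a b * Equiv.swap b c' * (Equiv.swap a b * Equiv.swap b c') with hτ
  have hcD : ∀ z ∈ D, c z = τ z := by
    intro z hz
    have z1 := swapD b c' hb' hc'' z hz
    have z2 := swapD a b ha' hb' _ z1
    have z3 := swapD b c' hb' hc'' _ z2
    simp only [hc, hτ, Equiv.Perm.mul_apply]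
    rw [hn₂D z hz, hn₁D _ z1, hn₂inv _ z2, hn₁inv _ z3]
  have hτsupp : ∀ x, x ∈ g.support → τ x = x := by
    intro x hx
    have hxa : x ≠ a := fun h => ha' (h ▸ hx)
    have hxb : x ≠ b := fun h => hb' (h ▸ hx)
    have hxc : x ≠ c' := fun h => hc'' (h ▸ hx)
    simp only [hτ, Equiv.Perm.mul_apply, Equiv.swap_apply_of_ne_of_ne hxb hxc,
      Equiv.swap_apply_of_ne_of_ne hxa hxb]
  have hτeq : c * g ^ (-j) = τ := by
    ext x
    rw [Equiv.Perm.mul_apply]
    by_cases hx : x ∈ g.support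
    · have hx' : (g ^ (-j)) x ∈ g.support := Equiv.Perm.zpow_apply_mem_support.mpr hx
      rw [hj _ (Equiv.Perm.mem_support.mp hx'), ← Equiv.Perm.mul_apply, ← zpow_add, add_neg_cancel,
        zpow_zero, Equiv.Perm.one_apply, hτsupp x hx]
    · have hfix : (g ^ (-j)) x = x := by
        apply Equiv.Perm.zpow_apply_eq_self_of_apply_eq_self
        simpa using hx
      rw [hfix]
      exact hcD x hx
  have hτG : τ ∈ G := by
    rw [← hτeq]
    exact G.mul_mem hcG (G.zpow_mem hg _)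
  have h3c : Equiv.Perm.IsThreeCycle τ := by
    rw [hτ]
    apply Equiv.Perm.IsThreeCycle.isThreeCycle_sq
    rw [Equiv.swap_comm a b]
    exact Equiv.Perm.isThreeCycle_swap_mul_swap_same (Ne.symm hab) hbc hac
  exact Equiv.Perm.alternatingGroup_le_of_isPreprimitive_of_isThreeCycle_mem hG h3c hτG


/-- Jordan's Theorem: a primitive permutation group of degree `n ≥ 5` containing a `p`-cycle for a prime `p ≤ n - 3` contains the alternating group. -/
theorem result {α : Type*} [Fintype α] [DecidableEq α] (G : Subgroup (Equiv.Perm α)) (hG : MulAction.IsPreprimitive G α) {p : ℕ} (hp : p.Prime) (hn : 5 ≤ Fintype.card α) (hpn : p + 3 ≤ Fintype.card α) {g : Equiv.Perm α} (hgc : g.IsCycle) (hgp : g.support.card = p) (hg : g ∈ G) : alternatingGroup α ≤ G := by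
  exact main G hG hp hn hpn hgc hgp hg

end Cfsg.Agent.S0713
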