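import Cfsg.Statements.S0775
import Mathlib
import Cfsg.Statements.S0775
import Cfsg.Agent.Lib.helper6.Symp
import Cfsg.Agent.Lib.helper6.SympBasis
import Cfsg.Agent.S0749
import Cfsg.Agent.S0245

set_option autoImplicit false
open Cfsg

namespace Cfsg.Agent.S0775

open Matrix Cfsg.Agent.Lib.helper6

variable {F : Type*} [Field F] {m : ℕ}

theorem sB_nondeg (m : ℕ) : (SB.sB m F).Nondegenerate := by
  constructor
  · intro x hx
    by_contra hne
    obtain ⟨y, hy⟩ := sympForm_nondeg m x hne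
    apply hy
    rw [← SB.sB_apply]
    exact hx y
  · intro y hy
    by_contra hne
    obtain ⟨x, hx⟩ := sympForm_nondeg m y hne
    apply hx
    rw [sympForm_swap, ← SB.sB_apply, hy x, neg_zero]

theorem sB_alt (m : ℕ) : (SB.sB m F).IsAlt := by
  intro x
  rw [SB.sB_apply, sympForm_self]

/-- a symplectic linear equivalence is given by a symplectic matrix -/
theorem exists_sp_of_linearEquiv (d : (Fin m ⊕ Fin m → F) ≃ₗ[F] (Fin m ⊕ Fin m → F))
    (hd : ∀ x y, Cfsg.sympForm m F (d x) (d y) = Cfsg.sympForm m F x y) :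
    ∃ D : Matrix.symplecticGroup (Fin m) F, ∀ x,
      (D : Matrix (Fin m ⊕ Fin m) (Fin m ⊕ Fin m) F) *ᵥ x = d x := by
  let M : Matrix (Fin m ⊕ Fin m) (Fin m ⊕ Fin m) F :=
    LinearMap.toMatrix' (d : (Fin m ⊕ Fin m → F) →ₗ[F] (Fin m ⊕ Fin m → F))
  have hMv : ∀ v, M *ᵥ v = d v := fun v => by
    show (LinearMap.toMatrix' _) *ᵥ v = _
    rw [LinearMap.toMatrix'_mulVec]; rfl
  refine ⟨⟨M, ?_⟩, hMv⟩
  rw [mem_symplecticGroup_iff_sympForm]
  intro u v
  rw [hMv, hMv, hd]

/-- the form vanishes on the span of an isotropic family -/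
theorem iso_span {k : ℕ} (f : Fin k → (Fin m ⊕ Fin m → F))
    (hf : ∀ i j, Cfsg.sympForm m F (f i) (f j) = 0) :
    ∀ x ∈ Submodule.span F (Set.range f), ∀ y ∈ Submodule.span F (Set.range f),
      Cfsg.sympForm m F x y = 0 := by
  intro x hx y hy
  induction hx using Submodule.span_induction with
  | mem x hx =>
    obtain ⟨i, rfl⟩ := hx
    induction hy using Submodule.span_induction with
    | mem y hy =>
      obtain ⟨j, rfl⟩ := hy
      exact hf i j
    | zero => exact sympForm_zero_right m _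
    | add a b _ _ ha hb => rw [sympForm_add_right, ha, hb, add_zero]
    | smul c a _ ha => rw [sympForm_smul_right, ha, mul_zero]
  | zero => exact sympForm_zero_left m _
  | add a b _ _ ha hb => rw [sympForm_add_left, ha, hb, add_zero]
  | smul c a _ ha => rw [sympForm_smul_left, ha, mul_zero]

/-- Witt: the symplectic group is transitive on isotropic frames -/
theorem witt_tuple {k : ℕ} (f f' : Fin k → (Fin m ⊕ Fin m → F))
    (hli : LinearIndependent F f) (hli' : LinearIndependent F f')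
    (hf : ∀ i j, Cfsg.sympForm m F (f i) (f j) = 0)
    (hf' : ∀ i j, Cfsg.sympForm m F (f' i) (f' j) = 0) :
    ∃ g : Matrix.symplecticGroup (Fin m) F, ∀ i,
      (g : Matrix (Fin m ⊕ Fin m) (Fin m ⊕ Fin m) F) *ᵥ f i = f' i := by
  let bX := Module.Basis.span hli
  let bY := Module.Basis.span hli'
  let φ := bX.equiv bY (Equiv.refl _)
  have hφ : ∀ x x' : Submodule.span F (Set.range f),
      SB.sB m F (φ x : Fin m ⊕ Fin m → F) (φ x' : Fin m ⊕ Fin m → F) =
        SB.sB m F (x : Fin m ⊕ Fin m → F) (x' : Fin m ⊕ Fin m → F) := by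
    intro x x'
    rw [SB.sB_apply, SB.sB_apply, iso_span f hf _ x.2 _ x'.2, iso_span f' hf' _ (φ x).2 _ (φ x').2]
  obtain ⟨d, hd, hdX⟩ := Cfsg.Agent.S0749.result (SB.sB m F) (sB_nondeg m) (sB_alt m) _ _ φ hφ
  obtain ⟨D, hD⟩ := exists_sp_of_linearEquiv d (fun x y => by
    have := hd x y
    rwa [SB.sB_apply, SB.sB_apply] at this)
  refine ⟨D, fun i => ?_⟩
  rw [hD]
  have h1 := hdX (bX i)
  have h2 : ((bX i : Submodule.span F (Set.range f)) : Fin m ⊕ Fin m → F) = f i := by
    rw [Module.Basis.span_apply]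
  rw [h2] at h1
  rw [h1, Module.Basis.equiv_apply, Equiv.refl_apply, Module.Basis.span_apply]

/-- the action of the symplectic group on tuples of vectors -/
instance tupAct (k : ℕ) :
    MulAction (Matrix.symplecticGroup (Fin m) F) (Fin k → (Fin m ⊕ Fin m → F)) where
  smul g f := fun i => (g : Matrix (Fin m ⊕ Fin m) (Fin m ⊕ Fin m) F) *ᵥ f i
  one_smul f := by
    funext i
    show ((1 : Matrix.symplecticGroup (Fin m) F) : Matrix (Fin m ⊕ Fin m) (Fin m ⊕ Fin m) F) *ᵥ f i = f i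
    show (1 : Matrix (Fin m ⊕ Fin m) (Fin m ⊕ Fin m) F) *ᵥ f i = f i
    rw [Matrix.one_mulVec]
  mul_smul g h f := by
    funext i
    show ((g * h : Matrix.symplecticGroup (Fin m) F) : Matrix (Fin m ⊕ Fin m) (Fin m ⊕ Fin m) F) *ᵥ f i =
      (g : Matrix (Fin m ⊕ Fin m) (Fin m ⊕ Fin m) F) *ᵥ
        ((h : Matrix (Fin m ⊕ Fin m) (Fin m ⊕ Fin m) F) *ᵥ f i)
    rw [Matrix.mulVec_mulVec]
    rfl

theorem tup_smul_apply {k : ℕ} (g : Matrix.symplecticGroup (Fin m) F) (f : Fin k → (Fin m ⊕ Fin m → F))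
    (i : Fin k) : (g • f) i = (g : Matrix (Fin m ⊕ Fin m) (Fin m ⊕ Fin m) F) *ᵥ f i := rfl

theorem sp_inv_mulVec (g : Matrix.symplecticGroup (Fin m) F) (v : Fin m ⊕ Fin m → F) :
    ((g⁻¹ : Matrix.symplecticGroup (Fin m) F) : Matrix (Fin m ⊕ Fin m) (Fin m ⊕ Fin m) F) *ᵥ
      ((g : Matrix (Fin m ⊕ Fin m) (Fin m ⊕ Fin m) F) *ᵥ v) = v := by
  rw [Matrix.mulVec_mulVec]
  have : ((g⁻¹ : Matrix.symplecticGroup (Fin m) F) : Matrix (Fin m ⊕ Fin m) (Fin m ⊕ Fin m) F) *
      (g : Matrix (Fin m ⊕ Fin m) (Fin m ⊕ Fin m) F) = 1 := by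
    have h := inv_mul_cancel g
    have := congrArg (fun x : Matrix.symplecticGroup (Fin m) F =>
      (x : Matrix (Fin m ⊕ Fin m) (Fin m ⊕ Fin m) F)) h
    exact this
  rw [this, Matrix.one_mulVec]

theorem sp_mulVec_inv (g : Matrix.symplecticGroup (Fin m) F) (v : Fin m ⊕ Fin m → F) :
    (g : Matrix (Fin m ⊕ Fin m) (Fin m ⊕ Fin m) F) *ᵥ
      (((g⁻¹ : Matrix.symplecticGroup (Fin m) F) : Matrix (Fin m ⊕ Fin m) (Fin m ⊕ Fin m) F) *ᵥ v) = v := by
  have := sp_inv_mulVec g⁻¹ v
  rwa [inv_inv] at this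

theorem sp_mulVec_injective (g : Matrix.symplecticGroup (Fin m) F) :
    Function.Injective (fun v => (g : Matrix (Fin m ⊕ Fin m) (Fin m ⊕ Fin m) F) *ᵥ v) := by
  intro v w h
  have := congrArg (fun x => ((g⁻¹ : Matrix.symplecticGroup (Fin m) F) :
    Matrix (Fin m ⊕ Fin m) (Fin m ⊕ Fin m) F) *ᵥ x) h
  simpa only [sp_inv_mulVec] using this

theorem li_smul {k : ℕ} (g : Matrix.symplecticGroup (Fin m) F) (f : Fin k → (Fin m ⊕ Fin m → F))
    (hli : LinearIndependent F f) : LinearIndependent F (g • f) := by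
  have : (g • f) = (Matrix.mulVecLin (g : Matrix (Fin m ⊕ Fin m) (Fin m ⊕ Fin m) F)) ∘ f := by
    funext i
    rfl
  rw [this]
  apply hli.map'
  rw [LinearMap.ker_eq_bot]
  exact sp_mulVec_injective g

theorem maps_span {k : ℕ} (g : Matrix.symplecticGroup (Fin m) F) (f f' : Fin k → (Fin m ⊕ Fin m → F))
    (h : ∀ i, (g : Matrix (Fin m ⊕ Fin m) (Fin m ⊕ Fin m) F) *ᵥ f i = f' i) :
    ∀ v ∈ Submodule.span F (Set.range f),
      (g : Matrix (Fin m ⊕ Fin m) (Fin m ⊕ Fin m) F) *ᵥ v ∈ Submodule.span F (Set.range f') := by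
  intro v hv
  induction hv using Submodule.span_induction with
  | mem x hx =>
    obtain ⟨i, rfl⟩ := hx
    rw [h]
    exact Submodule.subset_span ⟨i, rfl⟩
  | zero => rw [Matrix.mulVec_zero]; exact Submodule.zero_mem _
  | add a b _ _ ha hb => rw [Matrix.mulVec_add]; exact Submodule.add_mem _ ha hb
  | smul c a _ ha => rw [Matrix.mulVec_smul]; exact Submodule.smul_mem _ c ha

/-- isotropic frames -/
def IsoFr (m : ℕ) (F : Type*) [Field F] (k : ℕ) : Set (Fin k → (Fin m ⊕ Fin m → F)) :=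
  {f | LinearIndependent F f ∧ ∀ i j, Cfsg.sympForm m F (f i) (f j) = 0}

theorem orbit_eq_IsoFr {k : ℕ} (f₀ : Fin k → (Fin m ⊕ Fin m → F)) (hf₀ : f₀ ∈ IsoFr m F k) :
    MulAction.orbit (Matrix.symplecticGroup (Fin m) F) f₀ = IsoFr m F k := by
  ext f
  constructor
  · rintro ⟨g, rfl⟩
    refine ⟨li_smul g f₀ hf₀.1, fun i j => ?_⟩
    show Cfsg.sympForm m F ((g : Matrix (Fin m ⊕ Fin m) (Fin m ⊕ Fin m) F) *ᵥ f₀ i)
      ((g : Matrix (Fin m ⊕ Fin m) (Fin m ⊕ Fin m) F) *ᵥ f₀ j) = 0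
    rw [(mem_symplecticGroup_iff_sympForm m _).mp g.2, hf₀.2]
  · intro hf
    obtain ⟨g, hg⟩ := witt_tuple f₀ f hf₀.1 hf.1 hf₀.2 hf.2
    exact ⟨g, funext hg⟩

theorem orbit_stab_card {G X : Type*} [Group G] [MulAction G X] (x : X) :
    Nat.card G = Nat.card (MulAction.stabilizer G x) * (MulAction.orbit G x).ncard := by
  rw [← MulAction.index_stabilizer, Subgroup.card_mul_index]

theorem mem_P (W : Submodule F (Fin m ⊕ Fin m → F)) (g : Matrix.symplecticGroup (Fin m) F) :
    g ∈ Cfsg.stabilizing (Cfsg.spToMat m F) (W : Set (Fin m ⊕ Fin m → F)) ↔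
      ∀ v, v ∈ W ↔ (g : Matrix (Fin m ⊕ Fin m) (Fin m ⊕ Fin m) F) *ᵥ v ∈ W := Iff.rfl

theorem stab_le_P {k : ℕ} (W : Submodule F (Fin m ⊕ Fin m → F)) (f₀ : Fin k → (Fin m ⊕ Fin m → F))
    (hspan : Submodule.span F (Set.range f₀) = W) :
    MulAction.stabilizer (Matrix.symplecticGroup (Fin m) F) f₀ ≤
      Cfsg.stabilizing (Cfsg.spToMat m F) (W : Set (Fin m ⊕ Fin m → F)) := by
  intro g hg
  rw [MulAction.mem_stabilizer_iff] at hg
  have hfix : ∀ v ∈ W, (g : Matrix (Fin m ⊕ Fin m) (Fin m ⊕ Fin m) F) *ᵥ v = v := by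
    intro v hv
    rw [← hspan] at hv
    induction hv using Submodule.span_induction with
    | mem x hx =>
      obtain ⟨i, rfl⟩ := hx
      exact congrFun hg i
    | zero => rw [Matrix.mulVec_zero]
    | add a b _ _ ha hb => rw [Matrix.mulVec_add, ha, hb]
    | smul c a _ ha => rw [Matrix.mulVec_smul, ha]
  rw [mem_P]
  intro v
  constructor
  · intro hv
    rw [hfix v hv]; exact hv
  · intro hv
    have h1 := hfix _ hv
    have h2 : (g : Matrix (Fin m ⊕ Fin m) (Fin m ⊕ Fin m) F) *ᵥ v = v := sp_mulVec_injective g h1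
    rw [← h2]; exact hv

theorem orbit_P {k : ℕ} (W : Submodule F (Fin m ⊕ Fin m → F))
    (hW : ∀ u ∈ W, ∀ v ∈ W, Cfsg.sympForm m F u v = 0)
    (f₀ : Fin k → (Fin m ⊕ Fin m → F)) (hli : LinearIndependent F f₀)
    (hspan : Submodule.span F (Set.range f₀) = W) :
    MulAction.orbit (Cfsg.stabilizing (Cfsg.spToMat m F) (W : Set (Fin m ⊕ Fin m → F))) f₀ =
      {f | LinearIndependent F f ∧ Submodule.span F (Set.range f) = W} := by
  ext f
  constructor
  · rintro ⟨⟨g, hg⟩, rfl⟩
    refine ⟨li_smul g f₀ hli, ?_⟩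
    show Submodule.span F (Set.range (g • f₀)) = W
    rw [mem_P] at hg
    apply le_antisymm
    · rw [Submodule.span_le]
      rintro _ ⟨i, rfl⟩
      rw [tup_smul_apply]
      apply (hg _).mp
      rw [← hspan]
      exact Submodule.subset_span ⟨i, rfl⟩
    · intro w hw
      have h1 : ((g⁻¹ : Matrix.symplecticGroup (Fin m) F) :
          Matrix (Fin m ⊕ Fin m) (Fin m ⊕ Fin m) F) *ᵥ w ∈ W := by
        apply (hg _).mpr
        rw [sp_mulVec_inv]; exact hw
      rw [← hspan] at h1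
      have h2 := maps_span g f₀ (g • f₀) (fun i => rfl) _ h1
      rwa [sp_mulVec_inv] at h2
  · rintro ⟨hfli, hfspan⟩
    have hiso : ∀ (f : Fin k → (Fin m ⊕ Fin m → F)), Submodule.span F (Set.range f) = W →
        ∀ i j, Cfsg.sympForm m F (f i) (f j) = 0 := by
      intro f hf i j
      apply hW
      · rw [← hf]; exact Submodule.subset_span ⟨i, rfl⟩
      · rw [← hf]; exact Submodule.subset_span ⟨j, rfl⟩
    obtain ⟨g, hg⟩ := witt_tuple f₀ f hli hfli (hiso f₀ hspan) (hiso f hfspan)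
    have hgP : g ∈ Cfsg.stabilizing (Cfsg.spToMat m F) (W : Set (Fin m ⊕ Fin m → F)) := by
      rw [mem_P]
      intro v
      constructor
      · intro hv
        rw [← hspan] at hv
        have := maps_span g f₀ f hg v hv
        rwa [hfspan] at this
      · intro hv
        rw [← hfspan] at hv
        have h1 : ∀ i, ((g⁻¹ : Matrix.symplecticGroup (Fin m) F) :
            Matrix (Fin m ⊕ Fin m) (Fin m ⊕ Fin m) F) *ᵥ f i = f₀ i := by
          intro i
          rw [← hg i, sp_inv_mulVec]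
        have := maps_span g⁻¹ f f₀ h1 _ hv
        rwa [sp_inv_mulVec, hspan] at this
    exact ⟨⟨g, hgP⟩, funext hg⟩

theorem card_frames [Fintype F] {k : ℕ} (W : Submodule F (Fin m ⊕ Fin m → F))
    (hWk : Module.finrank F W = k) :
    ({f : Fin k → (Fin m ⊕ Fin m → F) | LinearIndependent F f ∧ Submodule.span F (Set.range f) = W}).ncard =
      ∏ i : Fin k, (Fintype.card F ^ k - Fintype.card F ^ (i : ℕ)) := by
  have h1 := card_linearIndependent (K := F) (V := W) (k := k) (by rw [hWk])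
  rw [hWk] at h1
  rw [← h1, ← Nat.card_coe_set_eq]
  apply Nat.card_congr
  refine
    { toFun := fun f => ⟨fun i => ⟨f.1 i, by
          have h0 : Submodule.span F (Set.range f.1) ≤ W := le_of_eq f.2.2
          exact h0 (Submodule.subset_span ⟨i, rfl⟩)⟩, ?_⟩
      invFun := fun s => ⟨fun i => (s.1 i : Fin m ⊕ Fin m → F), ?_, ?_⟩
      left_inv := fun f => rfl
      right_inv := fun s => rfl }
  · apply LinearIndependent.of_comp W.subtype
    exact f.2.1
  · exact s.2.map' W.subtype (Submodule.ker_subtype W)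
  · have h2 : Submodule.span F (Set.range s.1) = ⊤ := by
      apply LinearIndependent.span_eq_top_of_card_eq_finrank' s.2
      rw [Fintype.card_fin, hWk]
    have h3 : Set.range (fun i => (s.1 i : Fin m ⊕ Fin m → F)) = W.subtype '' Set.range s.1 := by
      rw [← Set.range_comp]; rfl
    rw [h3, Submodule.span_image, h2, Submodule.map_subtype_top]

/-- vectors extending an isotropic frame -/
def ExtSet {k : ℕ} (s : Fin k → (Fin m ⊕ Fin m → F)) : Set (Fin m ⊕ Fin m → F) :=
  {w | (∀ i, Cfsg.sympForm m F (s i) w = 0) ∧ w ∉ Submodule.span F (Set.range s)}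

/-- frames of length `k+1` are frames of length `k` with an extension vector -/
def isoFrEquiv (k : ℕ) : ↥(IsoFr m F (k + 1)) ≃ Σ s : ↥(IsoFr m F k), ↥(ExtSet (s : Fin k → (Fin m ⊕ Fin m → F))) where
  toFun f := ⟨⟨Fin.tail f.1, (linearIndependent_finSucc.mp f.2.1).1, fun i j => f.2.2 _ _⟩,
    ⟨f.1 0, fun i => f.2.2 _ _, (linearIndependent_finSucc.mp f.2.1).2⟩⟩
  invFun x := ⟨Fin.cons x.2.1 x.1.1, linearIndependent_finCons.mpr ⟨x.1.2.1, x.2.2.2⟩, by
    intro i j
    refine Fin.cases ?_ (fun i' => ?_) i <;> refine Fin.cases ?_ (fun j' => ?_) j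
    · simp only [Fin.cons_zero]; exact sympForm_self m _
    · simp only [Fin.cons_zero, Fin.cons_succ]
      rw [sympForm_swap, x.2.2.1 j', neg_zero]
    · simp only [Fin.cons_zero, Fin.cons_succ]
      exact x.2.2.1 i'
    · simp only [Fin.cons_succ]
      exact x.1.2.2 i' j'⟩
  left_inv f := by
    apply Subtype.ext
    simp only [Fin.cons_self_tail]
  right_inv := fun ⟨_, _⟩ => rfl

theorem card_ExtSet [Fintype F] {k : ℕ} (s : Fin k → (Fin m ⊕ Fin m → F)) (hs : s ∈ IsoFr m F k) :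
    (ExtSet s).ncard = Fintype.card F ^ (2 * m - k) - Fintype.card F ^ k := by
  classical
  have hU : Module.finrank F (Submodule.span F (Set.range s)) = k := by
    rw [finrank_span_eq_card hs.1, Fintype.card_fin]
  have hO : Module.finrank F (SB.orth m (Submodule.span F (Set.range s))) = 2 * m - k := by
    unfold SB.orth
    rw [LinearMap.BilinForm.finrank_orthogonal (sB_nondeg m), hU, Module.finrank_fintype_fun_eq_card,
      Fintype.card_sum, Fintype.card_fin]
    congr 1; ring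
  have hle : Submodule.span F (Set.range s) ≤ SB.orth m (Submodule.span F (Set.range s)) := by
    intro x hx
    rw [SB.mem_orth]
    intro w hw
    exact iso_span s hs.2 w hw x hx
  have hset : ExtSet s = (SB.orth m (Submodule.span F (Set.range s)) : Set (Fin m ⊕ Fin m → F)) \
      (Submodule.span F (Set.range s) : Set (Fin m ⊕ Fin m → F)) := by
    ext w
    simp only [ExtSet, Set.mem_ofPred_eq, Set.mem_sdiff, SetLike.mem_coe, SB.mem_orth]
    constructor
    · rintro ⟨h1, h2⟩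
      refine ⟨?_, h2⟩
      intro x hx
      induction hx using Submodule.span_induction with
      | mem x hx =>
        obtain ⟨i, rfl⟩ := hx
        exact h1 i
      | zero => exact sympForm_zero_left m _
      | add a b _ _ ha hb => rw [sympForm_add_left, ha, hb, add_zero]
      | smul c a _ ha => rw [sympForm_smul_left, ha, mul_zero]
    · rintro ⟨h1, h2⟩
      exact ⟨fun i => h1 _ (Submodule.subset_span ⟨i, rfl⟩), h2⟩
  rw [hset, Set.ncard_sdiff hle (Set.toFinite _), ← Nat.card_coe_set_eq, ← Nat.card_coe_set_eq]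
  have e1 : Nat.card ↥(SB.orth m (Submodule.span F (Set.range s))) = Fintype.card F ^ (2 * m - k) := by
    rw [Nat.card_eq_fintype_card, Module.card_eq_pow_finrank (K := F), hO]
  have e2 : Nat.card ↥(Submodule.span F (Set.range s)) = Fintype.card F ^ k := by
    rw [Nat.card_eq_fintype_card, Module.card_eq_pow_finrank (K := F), hU]
  exact congrArg₂ (· - ·) e1 e2

theorem card_IsoFr [Fintype F] (k : ℕ) :
    (IsoFr m F k).ncard = ∏ i ∈ Finset.range k, (Fintype.card F ^ (2 * m - i) - Fintype.card F ^ i) := by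
  classical
  induction k with
  | zero =>
    rw [Finset.prod_range_zero]
    have : IsoFr m F 0 = {fun i => Fin.elim0 i} := by
      ext f
      simp only [IsoFr, Set.mem_ofPred_eq, Set.mem_singleton_iff]
      constructor
      · intro _; funext i; exact Fin.elim0 i
      · intro _
        exact ⟨linearIndependent_empty_type, fun i => Fin.elim0 i⟩
    rw [this, Set.ncard_singleton]
  | succ k ih =>
    rw [Finset.prod_range_succ, ← ih, ← Nat.card_coe_set_eq, Nat.card_congr (isoFrEquiv k),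
      Nat.card_sigma]
    have : ∀ s : ↥(IsoFr m F k), Nat.card ↥(ExtSet (s : Fin k → (Fin m ⊕ Fin m → F))) =
        Fintype.card F ^ (2 * m - k) - Fintype.card F ^ k := by
      intro s
      rw [Nat.card_coe_set_eq, card_ExtSet _ s.2]
    simp only [this]
    rw [Finset.sum_const, smul_eq_mul, Finset.card_univ, ← Nat.card_eq_fintype_card, Nat.card_coe_set_eq]

theorem arith_aux (q m k : ℕ) (hk : k ≤ m) :
    q ^ (k * (k + 1) / 2 + 2 * k * (m - k)) * (q ^ ((m - k) ^ 2) * ∏ i ∈ Finset.range (m - k), (q ^ (2 * (i + 1)) - 1)) *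
      ∏ i ∈ Finset.range k, (q ^ (2 * m - i) - q ^ i) =
    q ^ (m ^ 2) * ∏ i ∈ Finset.range m, (q ^ (2 * (i + 1)) - 1) := by
  have h1 : ∏ i ∈ Finset.range k, (q ^ (2 * m - i) - q ^ i) =
      q ^ (∑ i ∈ Finset.range k, i) * ∏ i ∈ Finset.range k, (q ^ (2 * (m - i)) - 1) := by
    rw [← Finset.prod_pow_eq_pow_sum, ← Finset.prod_mul_distrib]
    apply Finset.prod_congr rfl
    intro i hi
    rw [Finset.mem_range] at hi
    rw [Nat.mul_sub, mul_one, ← pow_add]
    congr 2
    omega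
  have h2 : ∏ i ∈ Finset.range m, (q ^ (2 * (i + 1)) - 1) =
      (∏ i ∈ Finset.range (m - k), (q ^ (2 * (i + 1)) - 1)) * ∏ i ∈ Finset.range k, (q ^ (2 * (m - i)) - 1) := by
    have e : m = (m - k) + k := by omega
    conv_lhs => rw [e, Finset.prod_range_add]
    congr 1
    rw [← Finset.prod_range_reflect]
    apply Finset.prod_congr rfl
    intro i hi
    rw [Finset.mem_range] at hi
    congr 3
    omega
  have h3 : k * (k + 1) / 2 = (∑ i ∈ Finset.range k, i) + k := by
    apply Nat.div_eq_of_eq_mul_left (by norm_num)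
    have := Finset.sum_range_id_mul_two k
    rw [add_mul, this]
    rcases k with _ | k
    · rfl
    · simp only [Nat.add_sub_cancel]; ring
  have h4 : (∑ i ∈ Finset.range k, i) + k + 2 * k * (m - k) + (m - k) ^ 2 + (∑ i ∈ Finset.range k, i) = m ^ 2 := by
    have := Finset.sum_range_id_mul_two k
    obtain ⟨d, rfl⟩ := Nat.exists_eq_add_of_le hk
    simp only [Nat.add_sub_cancel_left]
    rcases k with _ | k
    · simp
    · simp only [Nat.add_sub_cancel] at this
      nlinarith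
  rw [h1, h2, h3]
  calc _ = q ^ ((∑ i ∈ Finset.range k, i) + k + 2 * k * (m - k) + (m - k) ^ 2 + (∑ i ∈ Finset.range k, i)) *
        ((∏ i ∈ Finset.range (m - k), (q ^ (2 * (i + 1)) - 1)) * ∏ i ∈ Finset.range k, (q ^ (2 * (m - i)) - 1)) := by
        rw [pow_add, pow_add (q) (_ + _ + _)]
        ring
    _ = _ := by rw [h4]


theorem main [Fintype F] {q : ℕ} (hF : Fintype.card F = q) (m k : ℕ) (hk : k ≤ m)
    (W : Submodule F (Fin m ⊕ Fin m → F)) (hWk : Module.finrank F W = k)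
    (hW : ∀ u ∈ W, ∀ v ∈ W, Cfsg.sympForm m F u v = 0) :
    Nat.card ↥(Cfsg.stabilizing (Cfsg.spToMat m F) (W : Set (Fin m ⊕ Fin m → F))) =
      q ^ (k * (k + 1) / 2 + 2 * k * (m - k)) *
        (q ^ ((m - k) ^ 2) * ∏ i ∈ Finset.range (m - k), (q ^ (2 * (i + 1)) - 1)) *
        ∏ i : Fin k, (q ^ k - q ^ (i : ℕ)) := by
  classical
  -- a basis of W
  let b := Module.finBasisOfFinrankEq F W hWk
  let f₀ : Fin k → (Fin m ⊕ Fin m → F) := fun i => (b i : Fin m ⊕ Fin m → F)
  have hli : LinearIndependent F f₀ := b.linearIndependent.map' W.subtype (Submodule.ker_subtype W)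
  have hspan : Submodule.span F (Set.range f₀) = W := by
    have h3 : Set.range f₀ = W.subtype '' Set.range b := by
      rw [← Set.range_comp]; rfl
    rw [h3, Submodule.span_image, b.span_eq, Submodule.map_subtype_top]
  have hiso : f₀ ∈ IsoFr m F k := ⟨hli, fun i j => hW _ (b i).2 _ (b j).2⟩
  -- orbit-stabiliser for Sp
  have h1 := orbit_stab_card (G := Matrix.symplecticGroup (Fin m) F) f₀
  rw [orbit_eq_IsoFr f₀ hiso, card_IsoFr, Cfsg.Agent.S0245.result hF m, hF] at h1
  -- orbit-stabiliser for P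
  have h2 := orbit_stab_card
    (G := ↥(Cfsg.stabilizing (Cfsg.spToMat m F) (W : Set (Fin m ⊕ Fin m → F)))) f₀
  rw [orbit_P W hW f₀ hli hspan, card_frames W hWk, hF] at h2
  -- the two stabilisers have the same size
  have h3 : Nat.card (MulAction.stabilizer
      (↥(Cfsg.stabilizing (Cfsg.spToMat m F) (W : Set (Fin m ⊕ Fin m → F)))) f₀) =
      Nat.card (MulAction.stabilizer (Matrix.symplecticGroup (Fin m) F) f₀) := by
    apply Nat.card_congr
    exact
      { toFun := fun g => ⟨g.1.1, g.2⟩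
        invFun := fun g => ⟨⟨g.1, stab_le_P W f₀ hspan g.2⟩, g.2⟩
        left_inv := fun g => rfl
        right_inv := fun g => rfl }
  rw [h3] at h2
  -- arithmetic
  have hq2 : 2 ≤ q := by
    rw [← hF]; exact Fintype.one_lt_card
  have hpos : 0 < ∏ i ∈ Finset.range k, (q ^ (2 * m - i) - q ^ i) := by
    apply Finset.prod_pos
    intro i hi
    rw [Finset.mem_range] at hi
    have : q ^ i < q ^ (2 * m - i) := Nat.pow_lt_pow_right (by omega) (by omega)
    omega
  apply Nat.eq_of_mul_eq_mul_right hpos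
  have e1 : q ^ (k * (k + 1) / 2 + 2 * k * (m - k)) *
        (q ^ ((m - k) ^ 2) * ∏ i ∈ Finset.range (m - k), (q ^ (2 * (i + 1)) - 1)) *
        (∏ i : Fin k, (q ^ k - q ^ (i : ℕ))) * ∏ i ∈ Finset.range k, (q ^ (2 * m - i) - q ^ i) =
      (q ^ (k * (k + 1) / 2 + 2 * k * (m - k)) *
        (q ^ ((m - k) ^ 2) * ∏ i ∈ Finset.range (m - k), (q ^ (2 * (i + 1)) - 1)) *
        ∏ i ∈ Finset.range k, (q ^ (2 * m - i) - q ^ i)) * ∏ i : Fin k, (q ^ k - q ^ (i : ℕ)) := by ring
  rw [e1, arith_aux q m k hk, h1, h2]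
  ring


/-- Maximal parabolics of the symplectic group: if W is a k-dimensional subspace of F^(2m) on which the symplectic form vanishes identically, its stabiliser in Sp_2m(q) has order q^(k(k+1)/2 + 2k(m−k)) · |Sp_(2m−2k)(q)| · |GL_k(q)|. -/
theorem result {F : Type*} [Field F] [Fintype F] {q : ℕ} (hF : Fintype.card F = q) (m k : ℕ) (hk : k ≤ m) (W : Submodule F (Fin m ⊕ Fin m → F)) (hWk : Module.finrank F W = k) (hW : ∀ u ∈ W, ∀ v ∈ W, Cfsg.sympForm m F u v = 0) : Nat.card ↥(Cfsg.stabilizing (Cfsg.spToMat m F) (W : Set (Fin m ⊕ Fin m → F))) = q ^ (k * (k + 1) / 2 + 2 * k * (m - k)) * (q ^ ((m - k) ^ 2) * ∏ i ∈ Finset.range (m - k), (q ^ (2 * (i + 1)) - 1)) * ∏ i : Fin k, (q ^ k - q ^ (i : ℕ)) := by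
  exact main hF m k hk W hWk hW

end Cfsg.Agent.S0775
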