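import Cfsg.Statements.S0999
import Cfsg.Agent.Lib.helper7.BR.Main

set_option autoImplicit false
set_option linter.style.haveILetI false
open Cfsg

open scoped commutatorElement

namespace Cfsg.Agent.S0999

/-- Let G be a non-cyclic finite simple group and p a prime divisor of its order with p^3 > |G|. Then p > 3 and G is isomorphic to the projective special linear group of dimension 2 over the field with p elements, or p - 1 is a power of 2 and G is isomorphic to that group over the field with p - 1 elements. -/
theorem result {G : Type*} [Group G] [Finite G] [IsSimpleGroup G] (hG : ¬ IsCyclic G) (p : ℕ) (hp : p.Prime) (hdvd : p ∣ Nat.card G) (hbig : Nat.card G < p ^ 3) : (∃ (F : Type) (_ : Field F) (_ : Fintype F), Fintype.card F = p ∧ 3 < p ∧ Nonempty (G ≃* Matrix.ProjectiveSpecialLinearGroup (Fin 2) F)) ∨ (∃ (m : ℕ) (F : Type) (_ : Field F) (_ : Fintype F), Fintype.card F = 2 ^ m ∧ p = 2 ^ m + 1 ∧ 3 < p ∧ Nonempty (G ≃* Matrix.ProjectiveSpecialLinearGroup (Fin 2) F)) := by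
  haveI : Fact p.Prime := ⟨hp⟩
  -- `G` is not commutative
  have hnc : ¬ ∀ a b : G, a * b = b * a := by
    intro hc
    letI : CommGroup G := { (inferInstance : Group G) with mul_comm := hc }
    exact hG (IsSimpleGroup.isCyclic (α := G))
  -- perfect
  have hperf : commutator G = ⊤ := by
    rcases (inferInstance : (commutator G).Normal).eq_bot_or_eq_top with h | h
    · exfalso
      apply hnc
      intro a b
      have : ⁅a, b⁆ ∈ commutator G := Subgroup.commutator_mem_commutator (Subgroup.mem_top a) (Subgroup.mem_top b)
      rw [h, Subgroup.mem_bot, commutatorElement_eq_one_iff_mul_comm] at this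
      exact this
    · exact h
  -- a Sylow `p`-subgroup is not normal
  obtain P : Sylow p G := default
  have hPn : ¬ (P : Subgroup G).Normal := by
    intro hn
    rcases hn.eq_bot_or_eq_top with h | h
    · have h1 : Nat.card ↥(P : Subgroup G) = 1 := by rw [h]; simp
      have h3 := P.card_eq_multiplicity
      rw [h1] at h3
      have h4 : (Nat.card G).factorization p = 0 := by
        rcases Nat.pow_eq_one.mp h3.symm with h | h
        · exact absurd h hp.one_lt.ne'
        · exact h
      have h5 : 0 < (Nat.card G).factorization p :=
        hp.factorization_pos_of_dvd Nat.card_pos.ne' hdvd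
      omega
    · -- `G` is a `p`-group, so has non-trivial centre
      have hPG : IsPGroup p G := by
        have := P.isPGroup'
        rw [h] at this
        exact IsPGroup.of_equiv this Subgroup.topEquiv
      haveI : Nontrivial G := IsSimpleGroup.toNontrivial
      have hZ : Subgroup.center G ≠ ⊥ := by
        have := hPG.center_nontrivial
        intro hb
        rw [hb] at this
        exact not_nontrivial _ this
      rcases (inferInstance : (Subgroup.center G).Normal).eq_bot_or_eq_top with h | h
      · exact hZ h
      · apply hnc
        intro a b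
        have : a ∈ Subgroup.center G := by rw [h]; exact Subgroup.mem_top a
        exact (Subgroup.mem_center_iff.mp this b).symm
  have h2 : ∀ N : Subgroup G, N.Normal → Nat.card N ≠ 2 := by
    intro N hN hc
    rcases hN.eq_bot_or_eq_top with h | h
    · rw [h] at hc; simp at hc
    · rw [h] at hc
      have h2' : Nat.card G = 2 := by rw [← hc]; simp
      exact hG (isCyclic_of_prime_card h2')
  rcases Cfsg.Agent.Lib.helper7.BR.br_main hperf p hdvd hbig P hPn h2 with h | ⟨m, F, i1, i2, h1, h3, h4, _, h5⟩
  · exact Or.inl h
  · exact Or.inr ⟨m, F, i1, i2, h1, h3, h4, h5⟩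

end Cfsg.Agent.S0999
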