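import Cfsg.Statements.S0997
import Cfsg.Agent.S0999
import Cfsg.Agent.Lib.helper6.P2OddD
import Cfsg.Agent.Lib.Helper13.BT.Main

set_option autoImplicit false
open Cfsg

namespace Cfsg.Agent.S0997

/-- Let G be a non-cyclic finite simple group of order p * q^b * g₀, where p and q are distinct primes and g₀ < p - 1. Then either p has the form 2^m + 1 or 2^m - 1 and G is isomorphic to the projective special linear group of dimension 2 over the field with p elements, or p = 2^m + 1 > 3 and G is isomorphic to that group over the field with 2^m elements. -/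
theorem result {G : Type*} [Group G] [Finite G] [IsSimpleGroup G] (hG : ¬ IsCyclic G) (p q b g₀ : ℕ) (hp : p.Prime) (hq : q.Prime) (hpq : p ≠ q) (hG' : Nat.card G = p * q ^ b * g₀) (hg : g₀ < p - 1) : (∃ (m : ℕ) (F : Type) (_ : Field F) (_ : Fintype F), Fintype.card F = p ∧ (p = 2 ^ m + 1 ∨ p = 2 ^ m - 1) ∧ Nonempty (G ≃* Matrix.ProjectiveSpecialLinearGroup (Fin 2) F)) ∨ (∃ (m : ℕ) (F : Type) (_ : Field F) (_ : Fintype F), Fintype.card F = 2 ^ m ∧ p = 2 ^ m + 1 ∧ 3 < p ∧ Nonempty (G ≃* Matrix.ProjectiveSpecialLinearGroup (Fin 2) F)) := by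
  have hbig := Cfsg.Agent.Lib.Helper13.BT.bt_main hG p q b g₀ hp hq hpq hG' hg
  have hdvd : p ∣ Nat.card G := by rw [hG', mul_assoc]; exact Dvd.intro _ rfl
  rcases Cfsg.Agent.S0999.result hG p hp hdvd hbig with ⟨F, iF, iFt, hF, h3, ⟨iso⟩⟩ | h
  · left
    have hodd : Odd (Fintype.card F) := by
      rw [hF]; exact hp.odd_of_ne_two (by omega)
    have hc := Cfsg.Agent.Lib.helper6.P2Odd.two_mul_card_psl2 (F := F) hodd
    rw [← Nat.card_congr iso.toEquiv, hF, hG'] at hc
    have hp5 : 5 ≤ p := by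
      by_contra hcon
      have : p = 4 := by omega
      rw [this] at hp
      exact (by decide : ¬ Nat.Prime 4) hp
    have hkey : 2 * (q ^ b * g₀) = p ^ 2 - 1 := by
      have h1 : p * (2 * (q ^ b * g₀)) = p * (p ^ 2 - 1) := by rw [← hc]; ring
      exact Nat.eq_of_mul_eq_mul_left hp.pos h1
    obtain ⟨m, hm⟩ := Cfsg.Agent.Lib.Helper13.BT.fermat_mersenne p q b g₀ hp hp5 hq hkey hg
    exact ⟨m, F, iF, iFt, hF, hm, ⟨iso⟩⟩
  · right
    exact h

end Cfsg.Agent.S0997
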