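import Mathlib
import Cfsg.Statements.S0575

set_option autoImplicit false
open Cfsg

namespace Cfsg.Agent.S0575

theorem result {G : Type*} [Group G] [Finite G] (H : Subgroup G) [H.Normal] : (frattini ↥H).map H.subtype ≤ frattini G := by
  set F : Subgroup G := (frattini ↥H).map H.subtype with hF
  have hFn : F.Normal := by rw [hF]; infer_instance
  have hFH : F ≤ H := by
    rw [hF]; rintro _ ⟨x, _, rfl⟩; exact x.2
  unfold frattini Order.radical
  apply le_iInf₂
  intro M hM
  by_contra hnot
  have htop : F ⊔ M = ⊤ := by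
    by_contra hne
    have hlt : M < F ⊔ M := by
      refine lt_of_le_of_ne le_sup_right ?_
      intro heq
      apply hnot
      rw [heq]
      exact le_sup_left
    exact hne (hM.2 _ hlt)
  have hgen : (M.subgroupOf H) ⊔ frattini ↥H = ⊤ := by
    rw [eq_top_iff]
    intro x _
    have hx : (x : G) ∈ F ⊔ M := by rw [htop]; trivial
    rw [Subgroup.mem_sup_of_normal_left] at hx
    obtain ⟨f, hf, m, hm, hfm⟩ := hx
    rw [hF] at hf
    obtain ⟨f', hf', rfl⟩ := hf
    rw [Subgroup.subtype_apply] at hfm
    have hmH : m ∈ H := by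
      have : m = (f' : G)⁻¹ * x := by rw [← hfm]; group
      rw [this]
      exact H.mul_mem (H.inv_mem f'.2) x.2
    have hx' : x = f' * ⟨m, hmH⟩ := Subtype.ext hfm.symm
    rw [hx', sup_comm]
    exact Subgroup.mul_mem_sup hf' (by simpa [Subgroup.mem_subgroupOf] using hm)
  have hMtop : M.subgroupOf H = ⊤ := frattini_nongenerating hgen
  rw [Subgroup.subgroupOf_eq_top] at hMtop
  exact hnot (hFH.trans hMtop)

end Cfsg.Agent.S0575
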