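import Mathlib
import Cfsg.Statements.S0577
import Cfsg.Agent.S0575
import Cfsg.Agent.Lib.Helper1.Frat
import Cfsg.Agent.Lib.Helper1.Fitting
import Cfsg.Agent.Lib.Helper5.PConstr

set_option autoImplicit false
open Cfsg

namespace Cfsg.Agent.S0577

open Cfsg.Agent.Lib.Helper5 Cfsg.Agent.Lib.Helper1
open scoped Pointwise commutatorElement

theorem commute_of_normal_pgroup_of_normal_coprime {L : Type*} [Group L] [Finite L] {q : ℕ}
    [Fact q.Prime] (A T : Subgroup L) [hAn : A.Normal] [hTn : T.Normal] (hA : IsPGroup q A)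
    (hT : (Nat.card T).Coprime q) : ∀ a ∈ A, ∀ t ∈ T, a * t = t * a := by
  intro a ha t ht
  have h1 : a * t * a⁻¹ * t⁻¹ ∈ A := by
    have e : a * t * a⁻¹ * t⁻¹ = a * (t * a⁻¹ * t⁻¹) := by group
    rw [e]; exact A.mul_mem ha (hAn.conj_mem _ (A.inv_mem ha) _)
  have h2 : a * t * a⁻¹ * t⁻¹ ∈ T := T.mul_mem (hTn.conj_mem _ ht _) (T.inv_mem ht)
  have h3 := h5_eq_one_of_mem_pgroup_of_mem_coprime hA hT h1 h2
  have e : a * t = (a * t * a⁻¹ * t⁻¹) * (t * a) := by group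
  rw [e, h3, one_mul]

theorem sylow_le_pPrimeCore_of_nilpotent {L : Type*} [Group L] [Finite L] [hL : Group.IsNilpotent L]
    {q r : ℕ} [hr : Fact r.Prime] (hq : q.Prime) (hrq : r ≠ q) (R : Sylow r L) :
    (R : Subgroup L) ≤ Cfsg.pPrimeCore q L := by
  have t := (Group.isNilpotent_of_finite_tfae (G := L)).out 0 3
  have hn : (R : Subgroup L).Normal := t.mp hL r hr R
  apply le_pPrimeCore hn
  obtain ⟨k, hk⟩ := R.isPGroup'.exists_card_eq
  rw [hk]
  exact Nat.Coprime.pow_left k ((Nat.coprime_primes hr.out hq).mpr hrq)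

theorem le_pPrimeCore_of_coprime_of_nilpotent {L : Type*} [Group L] [Finite L]
    [hL : Group.IsNilpotent L] {q : ℕ} [hq : Fact q.Prime] (H : Subgroup L)
    (hH : (Nat.card H).Coprime q) : H ≤ Cfsg.pPrimeCore q L := by
  have h1 : H = (⊤ : Subgroup ↥H).map H.subtype := by
    rw [← MonoidHom.range_eq_map, Subgroup.range_subtype]
  rw [h1, ← iSup_sylow_eq_top, Subgroup.map_iSup]
  apply iSup_le
  intro r
  rw [Subgroup.map_iSup]
  apply iSup_le
  intro R₀
  have hr : Fact (r : ℕ).Prime := ⟨r.2⟩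
  have hR₁ : IsPGroup (r : ℕ) ↥((R₀ : Subgroup ↥H).map H.subtype) := R₀.isPGroup'.map _
  by_cases hrq : (r : ℕ) = q
  · intro g hg
    have hcop : (Nat.card ↥((R₀ : Subgroup ↥H).map H.subtype)).Coprime (r : ℕ) := by
      have h2 : (Nat.card ↥((R₀ : Subgroup ↥H).map H.subtype)).Coprime q := by
        apply Nat.Coprime.coprime_dvd_left _ hH
        apply Subgroup.card_dvd_of_le
        rintro _ ⟨x, _, rfl⟩
        exact x.2
      rwa [← hrq] at h2
    have := h5_eq_one_of_mem_pgroup_of_mem_coprime hR₁ hcop hg hg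
    rw [this]; exact Subgroup.one_mem _
  · obtain ⟨R, hR⟩ := hR₁.exists_le_sylow
    exact le_trans hR (sylow_le_pPrimeCore_of_nilpotent hq.out hrq R)

theorem top_eq_sup_pPrimeCore_of_nilpotent {L : Type*} [Group L] [Finite L]
    [hL : Group.IsNilpotent L] {q : ℕ} [hq : Fact q.Prime] (Qs : Subgroup L)
    (hQs : ∀ R : Sylow q L, (R : Subgroup L) ≤ Qs) : Qs ⊔ Cfsg.pPrimeCore q L = ⊤ := by
  rw [eq_top_iff, ← iSup_sylow_eq_top]
  apply iSup_le
  intro r
  apply iSup_le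
  intro R
  have hr : Fact (r : ℕ).Prime := ⟨r.2⟩
  by_cases hrq : (r : ℕ) = q
  · subst hrq
    exact le_trans (hQs R) le_sup_left
  · exact le_trans (sylow_le_pPrimeCore_of_nilpotent hq.out hrq R) le_sup_right

theorem mk_comm_of_commutator_mem {G : Type*} [Group G] (N : Subgroup G) [N.Normal] {x y : G}
    (h : x * y * x⁻¹ * y⁻¹ ∈ N) : (x : G ⧸ N) * (y : G ⧸ N) = (y : G ⧸ N) * (x : G ⧸ N) := by
  have h1 : ((x * y * x⁻¹ * y⁻¹ : G) : G ⧸ N) = 1 := (QuotientGroup.eq_one_iff _).mpr h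
  have e : ((x : G ⧸ N) * (y : G ⧸ N)) = ((x * y * x⁻¹ * y⁻¹ : G) : G ⧸ N) * ((y : G ⧸ N) * (x : G ⧸ N)) := by
    simp only [QuotientGroup.mk_mul, QuotientGroup.mk_inv]
    group
  rw [e, h1, one_mul]

theorem quot_comm_of_commutator_mem {G : Type*} [Group G] (N : Subgroup G) [N.Normal]
    (h : ∀ x y : G, x * y * x⁻¹ * y⁻¹ ∈ N) : ∀ a b : G ⧸ N, a * b = b * a := by
  intro a b
  obtain ⟨x, rfl⟩ := QuotientGroup.mk_surjective a
  obtain ⟨y, rfl⟩ := QuotientGroup.mk_surjective b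
  exact mk_comm_of_commutator_mem N (h x y)

theorem commutator_mem_of_quot_comm {G : Type*} [Group G] (N : Subgroup G) [N.Normal]
    (h : ∀ a b : G ⧸ N, a * b = b * a) : ∀ x y : G, x * y * x⁻¹ * y⁻¹ ∈ N := by
  intro x y
  rw [← QuotientGroup.eq_one_iff]
  simp only [QuotientGroup.mk_mul, QuotientGroup.mk_inv]
  rw [h (x : G ⧸ N) (y : G ⧸ N)]
  group

theorem nilpotent_of_centralizes {G : Type*} [Group G] [Finite G] {q : ℕ} [Fact q.Prime]
    (Qs H : Subgroup G) (hQn : Qs.Normal) (hQp : IsPGroup q Qs) (hHnil : Group.IsNilpotent ↥H)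
    (hmul : ∀ g : G, ∃ x ∈ Qs, ∃ h ∈ H, g = x * h)
    (hcomm : ∀ x ∈ Qs, ∀ h ∈ H, x * h = h * x) : Group.IsNilpotent G := by
  have hHn : H.Normal := by
    constructor
    intro h hh g
    obtain ⟨x, hx, h₁, hh₁, rfl⟩ := hmul g
    have h2 : h₁ * h * h₁⁻¹ ∈ H := H.mul_mem (H.mul_mem hh₁ hh) (H.inv_mem hh₁)
    have h3 := hcomm x hx _ h2
    have e : x * h₁ * h * (x * h₁)⁻¹ = (x * (h₁ * h * h₁⁻¹)) * x⁻¹ := by group
    rw [e, h3, mul_inv_cancel_right]
    exact h2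
  have hQnil : Group.IsNilpotent ↥Qs := hQp.isNilpotent
  have h1 : Qs ≤ Cfsg.fittingSubgroup G := le_fittingSubgroup hQn hQnil
  have h2 : H ≤ Cfsg.fittingSubgroup G := le_fittingSubgroup hHn hHnil
  have htop : Cfsg.fittingSubgroup G = ⊤ := by
    rw [eq_top_iff]
    intro g _
    obtain ⟨x, hx, h, hh, rfl⟩ := hmul g
    exact Subgroup.mul_mem _ (h1 hx) (h2 hh)
  have h3 : Group.IsNilpotent ↥(Cfsg.fittingSubgroup G) := fittingSubgroup_nilpotent
  rw [htop] at h3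
  exact Group.nilpotent_of_mulEquiv (Subgroup.topEquiv : (⊤ : Subgroup G) ≃* G)

theorem result {G : Type*} [Group G] [Finite G] (hG : Cfsg.IsMinimalNonNilpotent G) (q : ℕ) [Fact q.Prime] (hq : q ∣ Nat.card G) (Q : Sylow q G) (hQ : (Q : Subgroup G).Normal) (D : Subgroup G) [D.Normal] (hD : D = (commutator ↥(Q : Subgroup G)).map (Q : Subgroup G).subtype) : ¬ IsMulCommutative (G ⧸ D) ∧ ∀ K : Subgroup (G ⧸ D), K ≠ ⊤ → IsMulCommutative K := by
  obtain ⟨hnn, hprop⟩ := hG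
  have hQp : IsPGroup q (Q : Subgroup G) := Q.isPGroup'
  have hQne : (Q : Subgroup G) ≠ ⊥ := Q.ne_bot_of_dvd_card hq
  obtain ⟨H, hH⟩ := Subgroup.exists_right_complement'_of_coprime Q.card_coprime_index
  have hdisj : (Q : Subgroup G) ⊓ H = ⊥ := hH.disjoint.eq_bot
  have hsup : (Q : Subgroup G) ⊔ H = ⊤ := hH.sup_eq_top
  have hmul : ∀ g : G, ∃ x ∈ (Q : Subgroup G), ∃ h ∈ H, g = x * h := by
    intro g
    have hg : g ∈ (Q : Subgroup G) ⊔ H := by rw [hsup]; trivial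
    rw [← SetLike.mem_coe, Subgroup.normal_mul] at hg
    obtain ⟨s, hs, h, hh, rfl⟩ := hg
    exact ⟨s, hs, h, hh, rfl⟩
  have hHcard : Nat.card H = (Q : Subgroup G).index := by
    have h1 := hH.card_mul_card
    have h2 := (Q : Subgroup G).card_mul_index
    rw [← h2] at h1
    exact Nat.eq_of_mul_eq_mul_left Nat.card_pos h1
  have hHcop : (Nat.card H).Coprime q := by
    rw [hHcard]
    exact ((Fact.out : q.Prime).coprime_iff_not_dvd.mpr Q.not_dvd_index).symm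
  have hHne : H ≠ ⊤ := by
    intro h
    rw [h, inf_top_eq] at hdisj
    exact hQne hdisj
  have hHnil : Group.IsNilpotent ↥H := hprop H hHne
  have claimA : ∀ H₀ : Subgroup G, H₀ ≤ H → H₀ ≠ H → ∀ x ∈ (Q : Subgroup G), ∀ h ∈ H₀, x * h = h * x := by
    intro H₀ hle hne x hx h hh
    set L : Subgroup G := (Q : Subgroup G) ⊔ H₀ with hL
    have hLne : L ≠ ⊤ := by
      intro hLtop
      apply hne
      apply le_antisymm hle
      intro y hy
      have hyL : y ∈ (Q : Subgroup G) ⊔ H₀ := by rw [← hL, hLtop]; trivial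
      rw [← SetLike.mem_coe, Subgroup.normal_mul] at hyL
      obtain ⟨s, hs, h₀, hh₀, hsy⟩ := hyL
      have hsy' : s * h₀ = y := hsy
      have hsH : s ∈ H := by
        have : s = y * h₀⁻¹ := by rw [← hsy']; group
        rw [this]; exact H.mul_mem hy (H.inv_mem (hle hh₀))
      have hs1 : s ∈ (Q : Subgroup G) ⊓ H := Subgroup.mem_inf.mpr ⟨hs, hsH⟩
      rw [hdisj, Subgroup.mem_bot] at hs1
      rw [← hsy', hs1, one_mul]; exact hh₀
    have hLnil : Group.IsNilpotent ↥L := hprop L hLne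
    have hQL : (Q : Subgroup G) ≤ L := le_sup_left
    have hHL : H₀ ≤ L := le_sup_right
    have hQLn : ((Q : Subgroup G).subgroupOf L).Normal := inferInstance
    have hQLp : IsPGroup q ↥((Q : Subgroup G).subgroupOf L) :=
      hQp.comap_of_injective L.subtype L.subtype_injective
    have hHLcop : (Nat.card ↥(H₀.subgroupOf L)).Coprime q := by
      rw [card_subgroupOf_of_le hHL]
      exact Nat.Coprime.coprime_dvd_left (Subgroup.card_dvd_of_le hle) hHcop
    have hHT := le_pPrimeCore_of_coprime_of_nilpotent (H₀.subgroupOf L) hHLcop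
    have hcomm := commute_of_normal_pgroup_of_normal_coprime ((Q : Subgroup G).subgroupOf L)
      (Cfsg.pPrimeCore q ↥L) hQLp (pPrimeCore_card_coprime q)
    have h1 := hcomm ⟨x, hQL hx⟩ (Subgroup.mem_subgroupOf.mpr hx) ⟨h, hHL hh⟩
      (hHT (Subgroup.mem_subgroupOf.mpr hh))
    exact congrArg Subtype.val h1
  have claimB : ∀ h₁ ∈ H, ∀ h₂ ∈ H, h₁ * h₂ = h₂ * h₁ := by
    by_cases hcyc : ∃ h ∈ H, Subgroup.zpowers h = H
    · obtain ⟨h, hh, hz⟩ := hcyc
      intro h₁ hh₁ h₂ hh₂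
      rw [← hz] at hh₁ hh₂
      obtain ⟨i, rfl⟩ := Subgroup.mem_zpowers_iff.mp hh₁
      obtain ⟨j, rfl⟩ := Subgroup.mem_zpowers_iff.mp hh₂
      rw [← zpow_add, ← zpow_add, add_comm]
    · exfalso
      push Not at hcyc
      apply hnn
      apply nilpotent_of_centralizes (Q : Subgroup G) H hQ hQp hHnil hmul
      intro x hx h hh
      have hzle : Subgroup.zpowers h ≤ H := by
        rw [Subgroup.zpowers_le]; exact hh
      exact claimA (Subgroup.zpowers h) hzle (hcyc h hh) x hx h (Subgroup.mem_zpowers h)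
  have claimD : ∀ g₁ g₂ : G, g₁ * g₂ * g₁⁻¹ * g₂⁻¹ ∈ (Q : Subgroup G) := by
    intro g₁ g₂
    obtain ⟨x₁, hx₁, h₁, hh₁, rfl⟩ := hmul g₁
    obtain ⟨x₂, hx₂, h₂, hh₂, rfl⟩ := hmul g₂
    rw [← QuotientGroup.eq_one_iff]
    simp only [QuotientGroup.mk_mul, QuotientGroup.mk_inv]
    rw [(QuotientGroup.eq_one_iff x₁).mpr hx₁, (QuotientGroup.eq_one_iff x₂).mpr hx₂]
    simp only [one_mul]
    have e : ((h₁ : G) : G ⧸ (Q : Subgroup G)) * (h₂ : G ⧸ (Q : Subgroup G)) =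
        (h₂ : G ⧸ (Q : Subgroup G)) * (h₁ : G ⧸ (Q : Subgroup G)) := by
      rw [← QuotientGroup.mk_mul, ← QuotientGroup.mk_mul, claimB h₁ hh₁ h₂ hh₂]
    rw [e]; group
  have hDle : D ≤ (Q : Subgroup G) := by
    rw [hD]; rintro _ ⟨x, _, rfl⟩; exact x.2
  have hQD : ∀ a₁ ∈ (Q : Subgroup G), ∀ a₂ ∈ (Q : Subgroup G), a₁ * a₂ * a₁⁻¹ * a₂⁻¹ ∈ D := by
    intro a₁ ha₁ a₂ ha₂
    rw [hD]
    refine ⟨⁅(⟨a₁, ha₁⟩ : ↥(Q : Subgroup G)), ⟨a₂, ha₂⟩⁆,
      Subgroup.commutator_mem_commutator (Subgroup.mem_top _) (Subgroup.mem_top _), ?_⟩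
    simp [commutatorElement_def]
  constructor
  · intro hcomm
    apply hnn
    have hall : ∀ x y : G, x * y * x⁻¹ * y⁻¹ ∈ D :=
      commutator_mem_of_quot_comm D (fun a b => mul_comm' a b)
    have hDfrat : D ≤ frattini G := by
      rw [hD]
      have h1 : commutator ↥(Q : Subgroup G) ≤ frattini ↥(Q : Subgroup G) :=
        pgroup_commutator_le_frattini hQp
      exact le_trans (Subgroup.map_mono h1) (Cfsg.Agent.S0575.result (Q : Subgroup G))
    apply nilpotent_of_frattini_quotient_nilpotent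
    have hc : ∀ a b : G ⧸ frattini G, a * b = b * a :=
      quot_comm_of_commutator_mem (frattini G) (fun x y => hDfrat (hall x y))
    exact ⟨⟨1, Subgroup.upperCentralSeries_one_eq_top_iff.mpr ⟨⟨hc⟩⟩⟩⟩
  · intro Kb hKb
    set π : G →* G ⧸ D := QuotientGroup.mk' D with hπ
    have hπs : Function.Surjective π := QuotientGroup.mk'_surjective D
    set K : Subgroup G := Kb.comap π with hK
    have hKne : K ≠ ⊤ := by
      intro h
      apply hKb
      rw [← Subgroup.map_comap_eq_self_of_surjective hπs Kb, ← hK, h,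
        Subgroup.map_top_of_surjective π hπs]
    have hKnil : Group.IsNilpotent ↥K := hprop K hKne
    set Kq : Subgroup ↥K := (Q : Subgroup G).subgroupOf K with hKq
    set TK : Subgroup ↥K := Cfsg.pPrimeCore q ↥K with hTK
    have hKqn : Kq.Normal := inferInstance
    have hKqp : IsPGroup q Kq := hQp.comap_of_injective K.subtype K.subtype_injective
    have hTKcop : (Nat.card TK).Coprime q := pPrimeCore_card_coprime q
    have hcomm1 : ∀ a ∈ Kq, ∀ t ∈ TK, a * t = t * a :=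
      commute_of_normal_pgroup_of_normal_coprime Kq TK hKqp hTKcop
    have hsyl : ∀ R : Sylow q ↥K, (R : Subgroup ↥K) ≤ Kq := by
      intro R x hx
      rw [hKq, Subgroup.mem_subgroupOf]
      have hR₁ : IsPGroup q ↥((R : Subgroup ↥K).map K.subtype) := R.isPGroup'.map _
      obtain ⟨Q', hQ'⟩ := hR₁.exists_le_sylow
      obtain ⟨g, hg⟩ := MulAction.exists_smul_eq G Q Q'
      have hQQ' : Q' = Q := by rw [← hg]; exact Sylow.smul_eq_of_normal
      rw [hQQ'] at hQ'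
      exact hQ' ⟨x, hx, rfl⟩
    have htop : Kq ⊔ TK = ⊤ := top_eq_sup_pPrimeCore_of_nilpotent Kq hsyl
    have hcommT : ∀ t₁ ∈ TK, ∀ t₂ ∈ TK, t₁ * t₂ = t₂ * t₁ := by
      intro t₁ ht₁ t₂ ht₂
      have h1 : t₁ * t₂ * t₁⁻¹ * t₂⁻¹ ∈ TK :=
        TK.mul_mem (TK.mul_mem (TK.mul_mem ht₁ ht₂) (TK.inv_mem ht₁)) (TK.inv_mem ht₂)
      have h2 : t₁ * t₂ * t₁⁻¹ * t₂⁻¹ ∈ Kq := by
        rw [hKq, Subgroup.mem_subgroupOf]
        have := claimD (t₁ : G) (t₂ : G)
        simpa using this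
      have h3 := h5_eq_one_of_mem_pgroup_of_mem_coprime hKqp hTKcop h2 h1
      have e : t₁ * t₂ = (t₁ * t₂ * t₁⁻¹ * t₂⁻¹) * (t₂ * t₁) := by group
      rw [e, h3, one_mul]
    set f : ↥K →* G ⧸ D := π.comp K.subtype with hf
    set S : Set ↥K := (Kq : Set ↥K) ∪ (TK : Set ↥K) with hS
    have hclS : Subgroup.closure S = ⊤ := by
      rw [hS, Subgroup.closure_union, Subgroup.closure_eq, Subgroup.closure_eq, htop]
    have hKbeq : Kb = Subgroup.closure (f '' S) := by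
      rw [← MonoidHom.map_closure, hclS, ← MonoidHom.range_eq_map]
      ext y
      constructor
      · intro hy
        obtain ⟨x, rfl⟩ := hπs y
        exact ⟨⟨x, hy⟩, rfl⟩
      · rintro ⟨x, rfl⟩
        exact x.2
    have hScomm : ∀ u ∈ f '' S, ∀ v ∈ f '' S, u * v = v * u := by
      rintro _ ⟨s₁, hs₁, rfl⟩ _ ⟨s₂, hs₂, rfl⟩
      rcases hs₁ with hs₁ | hs₁ <;> rcases hs₂ with hs₂ | hs₂
      · have h1 : (s₁ : G) ∈ (Q : Subgroup G) := Subgroup.mem_subgroupOf.mp hs₁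
        have h2 : (s₂ : G) ∈ (Q : Subgroup G) := Subgroup.mem_subgroupOf.mp hs₂
        exact mk_comm_of_commutator_mem D (hQD _ h1 _ h2)
      · rw [← map_mul, ← map_mul, hcomm1 s₁ hs₁ s₂ hs₂]
      · rw [← map_mul, ← map_mul, hcomm1 s₂ hs₂ s₁ hs₁]
      · rw [← map_mul, ← map_mul, hcommT s₁ hs₁ s₂ hs₂]
    rw [hKbeq]
    exact Subgroup.isMulCommutative_closure hScomm

end Cfsg.Agent.S0577
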