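import Mathlib
import Cfsg.Statements.S0582
import Cfsg.Agent.Lib.helper4.SupersolvableC
import Cfsg.Agent.Lib.helper23.SylowQuot
import Cfsg.Agent.Lib.Helper21.Zipper
import Cfsg.Agent.Lib.Helper5.Glauberman
import Cfsg.Agent.Lib.Helper5.Card

set_option autoImplicit false
open Pointwise
open Cfsg

namespace Cfsg.Agent.S0582

universe u

open Cfsg.Agent.Lib.helper4

theorem exists_normal_compl_aux (n : ℕ) : ∀ (X : Type u) [Group X] [Finite X],
    Nat.card X = n → IsSupersolvable X → ∀ q : ℕ, q.Prime →
    (∀ r : ℕ, r.Prime → r ∣ n → q ≤ r) →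
    ∃ T : Subgroup X, T.Normal ∧ ¬ q ∣ Nat.card T ∧ ∃ a : ℕ, T.index = q ^ a := by
  induction n using Nat.strong_induction_on with
  | _ n ih =>
    intro X _ _ hn hX q hq hmin
    have hn0 : n ≠ 0 := by rw [← hn]; exact Nat.card_pos.ne'
    by_cases hex : ∃ r : ℕ, r.Prime ∧ r ∣ n ∧ r ≠ q
    · obtain ⟨r, hr, hrn, hrq⟩ := hex
      have hne : (n.primeFactors).Nonempty := ⟨r, Nat.mem_primeFactors.mpr ⟨hr, hrn, hn0⟩⟩
      have hpmem := Finset.max'_mem _ hne
      set p := (n.primeFactors).max' hne with hpdef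
      obtain ⟨hp, hpn, _⟩ := Nat.mem_primeFactors.mp hpmem
      have hrp : r ≤ p := Finset.le_max' _ r (Nat.mem_primeFactors.mpr ⟨hr, hrn, hn0⟩)
      have hqr : q ≤ r := hmin r hr hrn
      have hqp : q < p := lt_of_lt_of_le (lt_of_le_of_ne hqr (Ne.symm hrq)) hrp
      have hmax : ∀ s : ℕ, s.Prime → s ∣ Nat.card X → s ≤ p := by
        intro s hs hsd
        rw [hn] at hsd
        exact Finset.le_max' _ s (Nat.mem_primeFactors.mpr ⟨hs, hsd, hn0⟩)
      obtain ⟨N, hN, hNc⟩ := exists_normal_largest_prime hX p hp (hn ▸ hpn) hmax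
      have := hN
      have hcard := Subgroup.card_eq_card_quotient_mul_card_subgroup N
      rw [hNc, hn] at hcard
      have hlt : Nat.card (X ⧸ N) < n := by
        rw [← hn]; exact card_quotient_lt N (hNc ▸ hp)
      have hmin' : ∀ s : ℕ, s.Prime → s ∣ Nat.card (X ⧸ N) → q ≤ s := by
        intro s hs hsd
        apply hmin s hs
        rw [hcard]
        exact Dvd.dvd.mul_right hsd p
      obtain ⟨Tb, hTb, hqTb, a, ha⟩ :=
        ih _ hlt (X ⧸ N) rfl (isSupersolvable_quotient N hX) q hq hmin'
      refine ⟨Tb.comap (QuotientGroup.mk' N), Subgroup.Normal.comap hTb _, ?_, a, ?_⟩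
      · have hidx : (Tb.comap (QuotientGroup.mk' N)).index = Tb.index :=
          Subgroup.index_comap_of_surjective Tb (QuotientGroup.mk'_surjective N)
        have h1 := Subgroup.card_mul_index (Tb.comap (QuotientGroup.mk' N))
        have h2 := Subgroup.card_mul_index Tb
        rw [hidx, hn, hcard, ← h2] at h1
        have hpos : 0 < Tb.index := Nat.pos_of_ne_zero Subgroup.index_ne_zero_of_finite
        have h3 : Nat.card (Tb.comap (QuotientGroup.mk' N)) = Nat.card Tb * p := by
          have : Nat.card (Tb.comap (QuotientGroup.mk' N)) * Tb.index =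
              (Nat.card Tb * p) * Tb.index := by rw [h1]; ring
          exact Nat.eq_of_mul_eq_mul_right hpos this
        rw [h3]
        intro hd
        rcases (Nat.Prime.dvd_mul hq).mp hd with h | h
        · exact hqTb h
        · have := (Nat.prime_dvd_prime_iff_eq hq hp).mp h
          omega
      · rw [Subgroup.index_comap_of_surjective Tb (QuotientGroup.mk'_surjective N)]
        exact ha
    · push Not at hex
      refine ⟨⊥, inferInstance, ?_, n.primeFactorsList.length, ?_⟩
      · rw [Subgroup.card_bot]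
        exact hq.one_lt.ne' ∘ Nat.dvd_one.mp
      · rw [Subgroup.index_bot, hn]
        exact Nat.eq_prime_pow_of_unique_prime_dvd hn0 (fun {d} hd hdn => hex d hd hdn)

theorem exists_normal_compl {X : Type u} [Group X] [Finite X] (hX : IsSupersolvable X)
    (q : ℕ) (hq : q.Prime) (hmin : ∀ r : ℕ, r.Prime → r ∣ Nat.card X → q ≤ r) :
    ∃ T : Subgroup X, T.Normal ∧ ¬ q ∣ Nat.card T ∧ ∃ a : ℕ, T.index = q ^ a :=
  exists_normal_compl_aux _ X rfl hX q hq hmin

section
variable {G : Type u} [Group G]

theorem mem_conj (g : G) (M : Subgroup G) (y : G) :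
    y ∈ MulAut.conj g • M ↔ g⁻¹ * y * g ∈ M :=
  Cfsg.Agent.Lib.helper23.mem_conj_smul_iff' M g y

theorem le_normalizer_map_subtype [Finite G] (K : Subgroup G) (T : Subgroup K) [hT : T.Normal] :
    K ≤ Subgroup.normalizer ((T.map K.subtype : Subgroup G) : Set G) := by
  intro k hk
  apply Cfsg.Agent.Lib.Helper5.h5g_mem_normalizer_of_conj_le
  rintro _ ⟨x, hx, rfl⟩
  exact ⟨⟨k, hk⟩ * x * ⟨k, hk⟩⁻¹, hT.conj_mem x hx ⟨k, hk⟩, by simp⟩

theorem conj_le_normalizer_conj [Finite G] (g : G) (H T : Subgroup G)
    (h : H ≤ Subgroup.normalizer (T : Set G)) :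
    MulAut.conj g • H ≤ Subgroup.normalizer ((MulAut.conj g • T : Subgroup G) : Set G) := by
  intro y hy
  rw [mem_conj] at hy
  apply Cfsg.Agent.Lib.Helper5.h5g_mem_normalizer_of_conj_le
  intro x hx
  rw [mem_conj] at hx ⊢
  have h1 := (Subgroup.mem_normalizer_iff.mp (h hy) _).mp hx
  have e : g⁻¹ * (y * x * y⁻¹) * g = g⁻¹ * y * g * (g⁻¹ * x * g) * (g⁻¹ * y * g)⁻¹ := by group
  rw [e]
  exact h1

theorem conj_of_common_normal [Finite G] (H K T S₁ S₂ : Subgroup G) (q : ℕ) [Fact q.Prime]
    (hHT : H ≤ Subgroup.normalizer (T : Set G)) (hKT : K ≤ Subgroup.normalizer (T : Set G))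
    (hS₁ : S₁ ≤ H) (hS₂ : S₂ ≤ K) (hH : H = T ⊔ S₁) (hK : K = T ⊔ S₂)
    (c1 : Nat.card S₁ = q ^ (Nat.card (Subgroup.normalizer (T : Set G))).factorization q)
    (c2 : Nat.card S₂ = q ^ (Nat.card (Subgroup.normalizer (T : Set G))).factorization q) :
    ∃ x : G, MulAut.conj x • H = K := by
  obtain ⟨k, hk, hiff⟩ := Cfsg.Agent.Lib.helper23.exists_conj_of_card
    (Subgroup.normalizer (T : Set G)) S₁ S₂ (hS₁.trans hHT) (hS₂.trans hKT) c1 c2
  refine ⟨k⁻¹, ?_⟩
  have h1 : MulAut.conj k⁻¹ • T = T :=
    (Cfsg.Agent.Lib.Helper21.conj_smul_eq_iff_mem_normalizer T k⁻¹).mpr (Subgroup.inv_mem _ hk)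
  have h2 : MulAut.conj k⁻¹ • S₁ = S₂ := by
    ext y
    rw [mem_conj, inv_inv, hiff]
    have e : k⁻¹ * (k * y * k⁻¹) * k = y := by group
    rw [e]
  rw [hH, hK, Subgroup.smul_sup, h1, h2]

theorem factorization_eq_of_dvd_of_dvd {q v N Gc : ℕ} (hq : q.Prime) (h1 : q ^ v ∣ N) (h2 : N ∣ Gc)
    (hG0 : Gc ≠ 0) (hG : Gc.factorization q = v) : N.factorization q = v := by
  have hN0 : N ≠ 0 := fun h => hG0 (by rw [h] at h2; exact Nat.eq_zero_of_zero_dvd h2)
  apply le_antisymm
  · rw [← hG]
    exact (Nat.factorization_le_iff_dvd hN0 hG0).mpr h2 q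
  · exact (hq.pow_dvd_iff_le_factorization hN0).mp h1

theorem factorization_of_mul_pow {q m a n : ℕ} (hq : q.Prime) (h : m * q ^ a = n) (hm : ¬ q ∣ m)
    (hn : n ≠ 0) : n.factorization q = a := by
  have hm0 : m ≠ 0 := by
    intro h0; rw [h0, zero_mul] at h; exact hn h.symm
  have hqa : q ^ a ≠ 0 := pow_ne_zero a hq.pos.ne'
  rw [← h, Nat.factorization_mul hm0 hqa, Finsupp.add_apply, Nat.factorization_pow,
    Finsupp.smul_apply, hq.factorization_self, Nat.factorization_eq_zero_of_not_dvd hm]
  simp

end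

theorem main_aux {G : Type u} [Group G] [Finite G] (n : ℕ) : ∀ (H K : Subgroup G),
    Nat.card H = n → Nat.card K = n → IsSupersolvable H → IsSupersolvable K →
    (Nat.card H).Coprime H.index → ∃ x : G, MulAut.conj x • H = K := by
  induction n using Nat.strong_induction_on with
  | _ n ih =>
    intro H K hHn hKn hHss hKss hcop
    have hn0 : n ≠ 0 := by rw [← hHn]; exact Nat.card_pos.ne'
    by_cases hn1 : n = 1
    · rw [hn1] at hHn hKn
      rw [Subgroup.card_eq_one] at hHn hKn
      refine ⟨1, ?_⟩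
      rw [hHn, hKn, map_one, one_smul]
    have hq : (n.minFac).Prime := Nat.minFac_prime hn1
    have hqn : n.minFac ∣ n := Nat.minFac_dvd n
    have hmin : ∀ r : ℕ, r.Prime → r ∣ n → n.minFac ≤ r := fun r hr hrn =>
      Nat.minFac_le_of_dvd hr.two_le hrn
    haveI : Fact (n.minFac).Prime := ⟨hq⟩
    obtain ⟨TH, hTHn, hqTH, a, ha⟩ := exists_normal_compl hHss n.minFac hq (by rw [hHn]; exact hmin)
    obtain ⟨TK, hTKn, hqTK, b, hb⟩ := exists_normal_compl hKss n.minFac hq (by rw [hKn]; exact hmin)
    have hcH := Subgroup.card_mul_index TH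
    have hcK := Subgroup.card_mul_index TK
    rw [ha, hHn] at hcH
    rw [hb, hKn] at hcK
    have hva := factorization_of_mul_pow hq hcH hqTH hn0
    have hvb := factorization_of_mul_pow hq hcK hqTK hn0
    have hTcard : Nat.card TH = Nat.card TK := by
      have hpos : 0 < n.minFac ^ a := pow_pos hq.pos a
      have hab : a = b := hva.symm.trans hvb
      rw [← hab] at hcK
      exact Nat.eq_of_mul_eq_mul_right hpos (hcH.trans hcK.symm)
    have hH₀c : Nat.card (TH.map H.subtype) = Nat.card TH :=
      Subgroup.card_map_of_injective H.subtype_injective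
    have hK₀c : Nat.card (TK.map K.subtype) = Nat.card TK :=
      Subgroup.card_map_of_injective K.subtype_injective
    have hmdvd : Nat.card TH ∣ n := ⟨_, hcH.symm⟩
    have hmlt : Nat.card TH < n := by
      apply lt_of_le_of_ne (Nat.le_of_dvd (Nat.pos_of_ne_zero hn0) hmdvd)
      intro h
      apply hqTH
      rw [h]; exact hqn
    have hH₀ss : IsSupersolvable ↥(TH.map H.subtype) :=
      isSupersolvable_of_mulEquiv (Subgroup.equivMapOfInjective TH H.subtype H.subtype_injective)
        (isSupersolvable_subgroup TH hHss)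
    have hK₀ss : IsSupersolvable ↥(TK.map K.subtype) :=
      isSupersolvable_of_mulEquiv (Subgroup.equivMapOfInjective TK K.subtype K.subtype_injective)
        (isSupersolvable_subgroup TK hKss)
    have hH₀le : TH.map H.subtype ≤ H := Subgroup.map_subtype_le TH
    have hK₀le : TK.map K.subtype ≤ K := Subgroup.map_subtype_le TK
    have hH₀idx : (TH.map H.subtype).index = n.minFac ^ a * H.index := by
      rw [← Subgroup.relIndex_mul_index hH₀le]
      congr 1
      rw [← ha]
      unfold Subgroup.relIndex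
      rw [Subgroup.subgroupOf, Subgroup.comap_map_eq_self_of_injective H.subtype_injective]
    have hcop₀ : (Nat.card (TH.map H.subtype)).Coprime (TH.map H.subtype).index := by
      rw [hH₀c, hH₀idx]
      apply Nat.Coprime.mul_right
      · exact Nat.Coprime.pow_right a ((Nat.Prime.coprime_iff_not_dvd hq).mpr hqTH).symm
      · rw [hHn] at hcop
        exact Nat.Coprime.coprime_dvd_left hmdvd hcop
    obtain ⟨g, hg⟩ := ih (Nat.card TH) hmlt (TH.map H.subtype) (TK.map K.subtype) hH₀c
      (hK₀c.trans hTcard.symm) hH₀ss hK₀ss hcop₀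
    obtain ⟨P⟩ := (inferInstance : Nonempty (Sylow n.minFac H))
    obtain ⟨Q⟩ := (inferInstance : Nonempty (Sylow n.minFac K))
    have hPc : Nat.card ((P : Subgroup H).map H.subtype) = n.minFac ^ a := by
      rw [Subgroup.card_map_of_injective H.subtype_injective, Sylow.card_eq_multiplicity, hHn, hva]
    have hQc : Nat.card ((Q : Subgroup K).map K.subtype) = n.minFac ^ a := by
      rw [Subgroup.card_map_of_injective K.subtype_injective, Sylow.card_eq_multiplicity, hKn, hva]
    have hsupH : H = TH.map H.subtype ⊔ (P : Subgroup H).map H.subtype := by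
      symm
      apply Subgroup.eq_of_le_of_card_ge (sup_le hH₀le (Subgroup.map_subtype_le _))
      have h1 := Cfsg.Agent.Lib.Helper5.card_mul_card_le_sup_mul_inf (TH.map H.subtype)
        ((P : Subgroup H).map H.subtype)
      have h2 : TH.map H.subtype ⊓ (P : Subgroup H).map H.subtype = ⊥ := by
        apply Disjoint.eq_bot
        apply Subgroup.disjoint_of_coprime_natCard
        rw [hH₀c, hPc]
        exact Nat.Coprime.pow_right a ((Nat.Prime.coprime_iff_not_dvd hq).mpr hqTH).symm
      rw [h2, Subgroup.card_bot, mul_one, hH₀c, hPc, hcH] at h1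
      rw [hHn]; exact h1
    have hsupK : K = TK.map K.subtype ⊔ (Q : Subgroup K).map K.subtype := by
      symm
      apply Subgroup.eq_of_le_of_card_ge (sup_le hK₀le (Subgroup.map_subtype_le _))
      have h1 := Cfsg.Agent.Lib.Helper5.card_mul_card_le_sup_mul_inf (TK.map K.subtype)
        ((Q : Subgroup K).map K.subtype)
      have h2 : TK.map K.subtype ⊓ (Q : Subgroup K).map K.subtype = ⊥ := by
        apply Disjoint.eq_bot
        apply Subgroup.disjoint_of_coprime_natCard
        rw [hK₀c, hQc]
        exact Nat.Coprime.pow_right a ((Nat.Prime.coprime_iff_not_dvd hq).mpr hqTK).symm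
      have hcK' : Nat.card TK * n.minFac ^ a = n := by rw [← hTcard]; exact hcH
      rw [h2, Subgroup.card_bot, mul_one, hK₀c, hQc, hcK'] at h1
      rw [hKn]; exact h1
    have hGfac : (Nat.card G).factorization n.minFac = a := by
      have h1 : (H.index * Nat.card TH) * n.minFac ^ a = Nat.card G := by
        have h := Subgroup.card_mul_index H
        rw [hHn] at h
        calc (H.index * Nat.card TH) * n.minFac ^ a = (Nat.card TH * n.minFac ^ a) * H.index := by
              ring
          _ = n * H.index := by rw [hcH]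
          _ = Nat.card G := h
      have h2 : ¬ n.minFac ∣ H.index * Nat.card TH := by
        intro hd
        rcases (Nat.Prime.dvd_mul hq).mp hd with h | h
        · rw [hHn] at hcop
          have := Nat.Coprime.coprime_dvd_left hqn hcop
          rw [Nat.Prime.coprime_iff_not_dvd hq] at this
          exact this h
        · exact hqTH h
      exact factorization_of_mul_pow hq h1 h2 Nat.card_pos.ne'
    have hHT' : MulAut.conj g • H ≤ Subgroup.normalizer ((TK.map K.subtype : Subgroup G) : Set G) := by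
      rw [← hg]
      exact conj_le_normalizer_conj g H _ (le_normalizer_map_subtype H TH)
    have hKT' : K ≤ Subgroup.normalizer ((TK.map K.subtype : Subgroup G) : Set G) :=
      le_normalizer_map_subtype K TK
    have hS₁ : MulAut.conj g • (P : Subgroup H).map H.subtype ≤ MulAut.conj g • H :=
      Subgroup.pointwise_smul_le_pointwise_smul_iff.mpr (Subgroup.map_subtype_le _)
    have hH' : MulAut.conj g • H = TK.map K.subtype ⊔ MulAut.conj g • (P : Subgroup H).map H.subtype := by
      conv_lhs => rw [hsupH]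
      rw [Subgroup.smul_sup, hg]
    have hNfac : (Nat.card (Subgroup.normalizer ((TK.map K.subtype : Subgroup G) : Set G))).factorization
        n.minFac = a := by
      apply factorization_eq_of_dvd_of_dvd hq _ (Subgroup.card_subgroup_dvd_card _)
        Nat.card_pos.ne' hGfac
      rw [← hQc]
      exact Subgroup.card_dvd_of_le ((Subgroup.map_subtype_le _).trans hKT')
    obtain ⟨x, hx⟩ := conj_of_common_normal (MulAut.conj g • H) K (TK.map K.subtype)
      (MulAut.conj g • (P : Subgroup H).map H.subtype) ((Q : Subgroup K).map K.subtype) n.minFac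
      hHT' hKT' hS₁ (Subgroup.map_subtype_le _) hH' hsupK
      (by rw [hNfac, Cfsg.Agent.Lib.Helper21.card_conj_smul, hPc]) (by rw [hNfac, hQc])
    refine ⟨x * g, ?_⟩
    rw [map_mul, mul_smul, hx]

theorem result {G : Type*} [Group G] [Finite G] (H K : Subgroup G) (hH : Cfsg.IsSupersolvable H) (hK : Cfsg.IsSupersolvable K) (hcard : Nat.card H = Nat.card K) (hHall : (Nat.card H).Coprime H.index) : ∃ x : G, MulAut.conj x • H = K :=
  main_aux (Nat.card H) H K rfl hcard.symm hH hK hHall

end Cfsg.Agent.S0582
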