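import Mathlib
import Cfsg.Statements.S0581
import Cfsg.Agent.Lib.Helper1.Schmidt2
import Cfsg.Agent.Lib.Helper1.MinNormal
import Cfsg.Agent.Lib.Helper5.PConstr
import Cfsg.Agent.S0577
import Cfsg.Agent.S0582
import Cfsg.Agent.Lib.Helper5.Card
import Cfsg.Agent.Lib.Helper1.Fitting

set_option autoImplicit false
open Pointwise
open Cfsg

namespace Cfsg.Agent.S0581

universe u

open Cfsg.Agent.Lib.Helper1 Cfsg.Agent.Lib.Helper5
open scoped commutatorElement

theorem exists_normal_sylow {X : Type u} [Group X] [Finite X] [Nontrivial X]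
    (hnil : ∀ M : Subgroup X, M ≠ ⊤ → Group.IsNilpotent M) :
    ∃ (p : ℕ) (_ : Fact p.Prime) (P : Sylow p X), (P : Subgroup X).Normal ∧ (P : Subgroup X) ≠ ⊥ := by
  have hX1 : 1 < Nat.card X := Finite.one_lt_card
  by_cases hXn : Group.IsNilpotent X
  · have hq : (Nat.card X).minFac.Prime := Nat.minFac_prime hX1.ne'
    haveI : Fact (Nat.card X).minFac.Prime := ⟨hq⟩
    obtain ⟨P⟩ := (inferInstance : Nonempty (Sylow (Nat.card X).minFac X))
    have t := (Group.isNilpotent_of_finite_tfae (G := X)).out 0 3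
    refine ⟨_, ⟨hq⟩, P, t.mp hXn _ ⟨hq⟩ P, ?_⟩
    intro h
    have hc := Sylow.card_eq_multiplicity P
    rw [h, Subgroup.card_bot] at hc
    have hfac : 0 < (Nat.card X).factorization (Nat.card X).minFac :=
      hq.factorization_pos_of_dvd (Nat.card_pos.ne') (Nat.minFac_dvd _)
    have := Nat.one_lt_pow hfac.ne' hq.one_lt
    omega
  · haveI hsol : Group.IsSolvable X := schmidt (fun M hM => hnil M hM.1)
    have hcomm : commutator X ≠ ⊤ := (Group.IsSolvable.commutator_lt_top_of_nontrivial X).ne
    rcases eq_top_or_exists_le_coatom (commutator X) with h | ⟨M, hM, hcM⟩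
    · exact absurd h hcomm
    have hMn : M.Normal := by
      constructor
      intro m hm g
      have e : g * m * g⁻¹ = ⁅g, m⁆ * m := by rw [commutatorElement_def]; group
      rw [e]
      apply M.mul_mem _ hm
      apply hcM
      rw [commutator_def]
      exact Subgroup.commutator_mem_commutator (Subgroup.mem_top g) (Subgroup.mem_top m)
    obtain ⟨p, k, hp, hk, hpk⟩ := coatom_index_primePow M hM
    have hMnil : Group.IsNilpotent M := hnil M hM.1
    have hcardX : Nat.card M * p ^ k = Nat.card X := by rw [hpk]; exact M.card_mul_index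
    by_cases hex : ∃ q : ℕ, q.Prime ∧ q ≠ p ∧ q ∣ Nat.card M
    · obtain ⟨q, hq, hqp, hqM⟩ := hex
      haveI : Fact q.Prime := ⟨hq⟩
      obtain ⟨Mq⟩ := (inferInstance : Nonempty (Sylow q M))
      have t := (Group.isNilpotent_of_finite_tfae (G := M)).out 0 3
      have hMqn : (Mq : Subgroup M).Normal := t.mp hMnil _ ⟨hq⟩ Mq
      haveI : (Mq : Subgroup M).Characteristic := Mq.characteristic_of_normal hMqn
      have hn : ((Mq : Subgroup M).map M.subtype).Normal := h5_normal_map_of_characteristic M _
      have hfacM : (Nat.card X).factorization q = (Nat.card M).factorization q := by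
        have hqpk : ¬ q ∣ p ^ k := by
          intro h
          exact hqp ((Nat.prime_dvd_prime_iff_eq hq hp.nat_prime).mp (hq.dvd_of_dvd_pow h))
        rw [← hcardX, Nat.factorization_mul Nat.card_pos.ne' (pow_ne_zero k hp.nat_prime.pos.ne'),
          Finsupp.add_apply, Nat.factorization_eq_zero_of_not_dvd hqpk, add_zero]
      have hcard : Nat.card ((Mq : Subgroup M).map M.subtype : Subgroup X) =
          q ^ (Nat.card X).factorization q := by
        rw [Subgroup.card_map_of_injective M.subtype_injective, Sylow.card_eq_multiplicity, hfacM]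
      refine ⟨q, ⟨hq⟩, Sylow.ofCard _ hcard, hn, ?_⟩
      intro h
      have h1 : Nat.card ((Mq : Subgroup M).map M.subtype : Subgroup X) = 1 := by
        have h2 : ((Sylow.ofCard _ hcard : Sylow q X) : Subgroup X) =
            (Mq : Subgroup M).map M.subtype := rfl
        rw [← h2, h, Subgroup.card_bot]
      rw [hcard, hfacM] at h1
      have hfac : 0 < (Nat.card M).factorization q :=
        hq.factorization_pos_of_dvd (Nat.card_pos.ne') hqM
      have := Nat.one_lt_pow hfac.ne' hq.one_lt
      omega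
    · exfalso
      push Not at hex
      apply hXn
      have hall : ∀ {d : ℕ}, d.Prime → d ∣ Nat.card M → d = p := by
        intro d hd hdM
        by_contra hne
        exact hex d hd hne hdM
      have hMc := Nat.eq_prime_pow_of_unique_prime_dvd (Nat.card_pos (α := M)).ne' hall
      haveI : Fact p.Prime := ⟨hp.nat_prime⟩
      have hXp : IsPGroup p X := by
        apply IsPGroup.of_card (n := (Nat.card M).primeFactorsList.length + k)
        rw [← hcardX, pow_add, ← hMc]
      exact hXp.isNilpotent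

section
variable {G : Type u} [Group G] [Finite G]

theorem conj_into {p : ℕ} [Fact p.Prime] (L A B : Subgroup G) (hA : A ≤ L) (hB : B ≤ L)
    (hAp : IsPGroup p A) (hBc : Nat.card B = p ^ (Nat.card L).factorization p) :
    ∃ x ∈ L, ∀ a ∈ A, x * a * x⁻¹ ∈ B := by
  have hA' : IsPGroup p (A.subgroupOf L) :=
    hAp.comap_of_injective L.subtype L.subtype_injective
  obtain ⟨R, hR⟩ := hA'.exists_le_sylow
  have hBc' : Nat.card (B.subgroupOf L) = p ^ (Nat.card L).factorization p := by
    rw [← hBc]; exact Nat.card_congr (Subgroup.subgroupOfEquivOfLe hB).toEquiv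
  obtain ⟨g, hg⟩ := MulAction.exists_smul_eq L R (Sylow.ofCard (B.subgroupOf L) hBc')
  refine ⟨g, g.2, fun a ha => ?_⟩
  have h1 : (⟨a, hA ha⟩ : L) ∈ (R : Subgroup L) := hR (by rw [Subgroup.mem_subgroupOf]; exact ha)
  have h2 : g * ⟨a, hA ha⟩ * g⁻¹ ∈ ((g • R : Sylow p L) : Subgroup L) := by
    rw [Sylow.coe_subgroup_smul]
    exact Subgroup.smul_mem_pointwise_smul _ _ _ h1
  rw [hg] at h2
  have h3 : g * ⟨a, hA ha⟩ * g⁻¹ ∈ B.subgroupOf L := h2
  rw [Subgroup.mem_subgroupOf] at h3
  exact h3

theorem conj_isNilpotent (H : Subgroup G) (hH : Group.IsNilpotent H) (x : G) :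
    Group.IsNilpotent (MulAut.conj x • H : Subgroup G) :=
  (Group.isNilpotent_congr (Subgroup.equivSMul (MulAut.conj x) H)).mp hH

end

section
variable {G : Type u} [Group G] [Finite G]

theorem stepA (n : ℕ)
    (ih : ∀ m < n, ∀ (L H : Subgroup G), Nat.card H = m → H ≤ L → Group.IsNilpotent H →
      (Nat.card H).Coprime (H.relIndex L) → ∀ K : Subgroup G, K ≤ L →
      (∀ q : ℕ, q.Prime → q ∣ Nat.card K → q ∣ Nat.card H) → ∃ x ∈ L, K ≤ MulAut.conj x • H)
    {p : ℕ} [hp : Fact p.Prime] (L H : Subgroup G) (hHn : Nat.card H = n) (hHL : H ≤ L)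
    (hH : Group.IsNilpotent H) (hHall : (Nat.card H).Coprime (H.relIndex L))
    (hpH : p ∣ Nat.card H) (Hp : Sylow p H) (P₁ Q₁ : Subgroup G)
    (hP₁ : P₁ ≤ (Hp : Subgroup H).map H.subtype) (hQ₁L : Q₁ ≤ L)
    (hQ₁N : Q₁ ≤ Subgroup.normalizer (P₁ : Set G))
    (hQ₁π : ∀ q : ℕ, q.Prime → q ∣ Nat.card Q₁ → q ∣ Nat.card H ∧ q ≠ p) :
    ∃ l ∈ L, P₁ ⊔ Q₁ ≤ MulAut.conj l • H := by
  haveI := hH
  have t := (Group.isNilpotent_of_finite_tfae (G := H)).out 0 3
  haveI hHpn : (Hp : Subgroup H).Normal := t.mp hH _ hp Hp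
  haveI hTn : (Cfsg.pPrimeCore p H).Normal := Cfsg.Agent.Lib.Helper1.pPrimeCore_normal p
  have hTcop : (Nat.card (Cfsg.pPrimeCore p H)).Coprime p :=
    Cfsg.Agent.Lib.Helper1.pPrimeCore_card_coprime p
  have hH₂H : (Cfsg.pPrimeCore p H).map H.subtype ≤ H := Subgroup.map_subtype_le _
  have hH₂c : Nat.card ((Cfsg.pPrimeCore p H).map H.subtype : Subgroup G) =
      Nat.card (Cfsg.pPrimeCore p H) := Subgroup.card_map_of_injective H.subtype_injective
  have hcomm := Cfsg.Agent.S0577.commute_of_normal_pgroup_of_normal_coprime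
    (Hp : Subgroup H) (Cfsg.pPrimeCore p H) Hp.isPGroup' hTcop
  have hH₂cent : (Cfsg.pPrimeCore p H).map H.subtype ≤ Subgroup.centralizer (P₁ : Set G) := by
    rintro _ ⟨t', ht', rfl⟩
    rw [Subgroup.mem_centralizer_iff]
    intro y hy
    obtain ⟨a', ha', rfl⟩ := hP₁ hy
    have := hcomm a' ha' t' ht'
    exact congrArg Subtype.val this
  have hH₂L' : (Cfsg.pPrimeCore p H).map H.subtype ≤ L ⊓ Subgroup.normalizer (P₁ : Set G) :=
    le_inf (hH₂H.trans hHL) (hH₂cent.trans (Subgroup.centralizer_le_normalizer _))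
  have hH₂dvd : Nat.card ((Cfsg.pPrimeCore p H).map H.subtype : Subgroup G) ∣ Nat.card H :=
    Subgroup.card_dvd_of_le hH₂H
  have hlt : Nat.card ((Cfsg.pPrimeCore p H).map H.subtype : Subgroup G) < n := by
    rw [← hHn]
    apply lt_of_le_of_ne (Nat.le_of_dvd Nat.card_pos hH₂dvd)
    intro h
    rw [← h, hH₂c] at hpH
    exact (Nat.Prime.coprime_iff_not_dvd hp.out).mp hTcop.symm hpH
  have hH₂nil : Group.IsNilpotent ((Cfsg.pPrimeCore p H).map H.subtype : Subgroup G) :=
    nilpotent_of_le hH₂H hH
  have hsyl : ∀ q : ℕ, q.Prime → q ≠ p →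
      q ^ (Nat.card H).factorization q ∣
        Nat.card ((Cfsg.pPrimeCore p H).map H.subtype : Subgroup G) := by
    intro q hq hqp
    haveI : Fact q.Prime := ⟨hq⟩
    obtain ⟨Sq⟩ := (inferInstance : Nonempty (Sylow q H))
    have h1 := Cfsg.Agent.S0577.sylow_le_pPrimeCore_of_nilpotent hp.out hqp Sq
    have h2 := Subgroup.card_dvd_of_le h1
    rw [Sylow.card_eq_multiplicity] at h2
    rw [hH₂c]
    exact h2
  have hHall₂ : (Nat.card ((Cfsg.pPrimeCore p H).map H.subtype : Subgroup G)).Coprime
      (((Cfsg.pPrimeCore p H).map H.subtype : Subgroup G).relIndex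
        (L ⊓ Subgroup.normalizer (P₁ : Set G))) := by
    apply Nat.coprime_of_dvd
    intro q hq hq1 hq2
    have hqp : q ≠ p := by
      rintro rfl
      rw [hH₂c] at hq1
      exact (Nat.Prime.coprime_iff_not_dvd hp.out).mp hTcop.symm hq1
    have hqH : q ∣ Nat.card H := hq1.trans hH₂dvd
    have h1 := hsyl q hq hqp
    have h2 := Cfsg.Agent.Lib.Helper5.card_mul_relIndex_of_le hH₂L'
    have h3 : q ^ ((Nat.card H).factorization q + 1) ∣
        Nat.card (L ⊓ Subgroup.normalizer (P₁ : Set G) : Subgroup G) := by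
      rw [← h2, pow_succ]
      exact Nat.mul_dvd_mul h1 hq2
    have h4 : q ^ ((Nat.card H).factorization q + 1) ∣ Nat.card L :=
      h3.trans (Subgroup.card_dvd_of_le inf_le_left)
    rw [← Cfsg.Agent.Lib.Helper5.card_mul_relIndex_of_le hHL] at h4
    have h5 : (q ^ ((Nat.card H).factorization q + 1)).Coprime (H.relIndex L) := by
      apply Nat.Coprime.pow_left
      exact Nat.Coprime.coprime_dvd_left hqH hHall
    exact Nat.pow_succ_factorization_not_dvd Nat.card_pos.ne' hq (h5.dvd_of_dvd_mul_right h4)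
  have hπ₂ : ∀ q : ℕ, q.Prime → q ∣ Nat.card Q₁ →
      q ∣ Nat.card ((Cfsg.pPrimeCore p H).map H.subtype : Subgroup G) := by
    intro q hq hqQ
    obtain ⟨hqH, hqp⟩ := hQ₁π q hq hqQ
    have hfac : 0 < (Nat.card H).factorization q :=
      hq.factorization_pos_of_dvd (Nat.card_pos.ne') hqH
    exact (dvd_pow_self q hfac.ne').trans (hsyl q hq hqp)
  obtain ⟨l, hl, hQl⟩ := ih _ hlt (L ⊓ Subgroup.normalizer (P₁ : Set G)) _ rfl hH₂L' hH₂nil hHall₂
    Q₁ (le_inf hQ₁L hQ₁N) hπ₂
  obtain ⟨hlL, hlN⟩ := Subgroup.mem_inf.mp hl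
  refine ⟨l, hlL, sup_le ?_ ?_⟩
  · have h1 : MulAut.conj l • P₁ = P₁ :=
      (Cfsg.Agent.Lib.Helper21.conj_smul_eq_iff_mem_normalizer P₁ l).mpr hlN
    rw [← h1]
    exact Subgroup.pointwise_smul_le_pointwise_smul_iff.mpr (hP₁.trans (Subgroup.map_subtype_le _))
  · exact hQl.trans (Subgroup.pointwise_smul_le_pointwise_smul_iff.mpr hH₂H)

end

theorem main_aux {G : Type u} [Group G] [Finite G] (n : ℕ) : ∀ (L H : Subgroup G),
    Nat.card H = n → H ≤ L → Group.IsNilpotent H →
    (Nat.card H).Coprime (H.relIndex L) → ∀ K : Subgroup G, K ≤ L →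
    (∀ q : ℕ, q.Prime → q ∣ Nat.card K → q ∣ Nat.card H) →
    ∃ x ∈ L, K ≤ MulAut.conj x • H := by
  induction n using Nat.strong_induction_on with
  | _ n ih =>
    intro L H hHn hHL hH hHall
    have inner : ∀ m : ℕ, ∀ K : Subgroup G, Nat.card K = m → K ≤ L →
        (∀ q : ℕ, q.Prime → q ∣ Nat.card K → q ∣ Nat.card H) →
        ∃ x ∈ L, K ≤ MulAut.conj x • H := by
      intro m
      induction m using Nat.strong_induction_on with
      | _ m ihm =>
        intro K hKm hKL hKπ
        by_cases hK1 : K = ⊥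
        · exact ⟨1, L.one_mem, by rw [hK1]; exact bot_le⟩
        haveI : Nontrivial K := (Subgroup.nontrivial_iff_ne_bot K).mpr hK1
        have hprop : ∀ M : Subgroup K, M ≠ ⊤ → Group.IsNilpotent M := by
          intro M hM
          have hMK : M.map K.subtype ≤ K := Subgroup.map_subtype_le _
          have hMc : Nat.card (M.map K.subtype : Subgroup G) = Nat.card M :=
            Subgroup.card_map_of_injective K.subtype_injective
          have hlt : Nat.card (M.map K.subtype : Subgroup G) < m := by
            rw [hMc, ← hKm]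
            apply lt_of_le_of_ne (Subgroup.card_le_card_group M)
            intro h
            exact hM ((Subgroup.card_eq_iff_eq_top M).mp h)
          obtain ⟨x, _, hMx⟩ := ihm _ hlt (M.map K.subtype) rfl (hMK.trans hKL)
            (fun q hq hqd => hKπ q hq (hqd.trans (Subgroup.card_dvd_of_le hMK)))
          have h1 : Group.IsNilpotent (M.map K.subtype : Subgroup G) :=
            nilpotent_of_le hMx (conj_isNilpotent H hH x)
          exact (Group.isNilpotent_congr
            (Subgroup.equivMapOfInjective M K.subtype K.subtype_injective)).mpr h1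
        obtain ⟨p, hp, P, hPn, hPne⟩ := exists_normal_sylow hprop
        haveI := hp
        haveI := hPn
        have hPc := Sylow.card_eq_multiplicity P
        have hpK : p ∣ Nat.card K := by
          have h0 : (Nat.card K).factorization p ≠ 0 := by
            intro h0
            rw [h0, pow_zero] at hPc
            exact hPne (Subgroup.card_eq_one.mp hPc)
          exact (dvd_pow_self p h0).trans (hPc ▸ Subgroup.card_subgroup_dvd_card (P : Subgroup K))
        have hpH := hKπ p hp.out hpK
        obtain ⟨Hp⟩ := (inferInstance : Nonempty (Sylow p H))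
        obtain ⟨Q, hQ⟩ := Subgroup.exists_right_complement'_of_coprime (Sylow.card_coprime_index P)
        have hsup : (P : Subgroup K).map K.subtype ⊔ Q.map K.subtype = K := by
          rw [← Subgroup.map_sup, hQ.sup_eq_top, ← MonoidHom.range_eq_map, Subgroup.range_subtype]
        have hP'K : (P : Subgroup K).map K.subtype ≤ K := Subgroup.map_subtype_le _
        have hQ'K : Q.map K.subtype ≤ K := Subgroup.map_subtype_le _
        have hKN : K ≤ Subgroup.normalizer (((P : Subgroup K).map K.subtype : Subgroup G) : Set G) :=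
          Cfsg.Agent.S0582.le_normalizer_map_subtype K (P : Subgroup K)
        have hHp'H : (Hp : Subgroup H).map H.subtype ≤ H := Subgroup.map_subtype_le _
        have hLfac : (Nat.card L).factorization p = (Nat.card H).factorization p := by
          have hnd : ¬ p ∣ H.relIndex L := by
            have := Nat.Coprime.coprime_dvd_left hpH hHall
            exact (Nat.Prime.coprime_iff_not_dvd hp.out).mp this
          rw [← Cfsg.Agent.Lib.Helper5.card_mul_relIndex_of_le hHL,
            Nat.factorization_mul Nat.card_pos.ne'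
              (Cfsg.Agent.Lib.Helper5.relIndex_ne_zero_of_finite H L),
            Finsupp.add_apply, Nat.factorization_eq_zero_of_not_dvd hnd, add_zero]
        have hHp'c : Nat.card ((Hp : Subgroup H).map H.subtype : Subgroup G) =
            p ^ (Nat.card L).factorization p := by
          rw [Subgroup.card_map_of_injective H.subtype_injective, Sylow.card_eq_multiplicity, hLfac]
        obtain ⟨x, hxL, hx⟩ := conj_into L ((P : Subgroup K).map K.subtype)
          ((Hp : Subgroup H).map H.subtype) (hP'K.trans hKL) (hHp'H.trans hHL)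
          (P.isPGroup'.map _) hHp'c
        have hP₁ : MulAut.conj x • ((P : Subgroup K).map K.subtype : Subgroup G) ≤
            (Hp : Subgroup H).map H.subtype := by
          intro y hy
          rw [Cfsg.Agent.S0582.mem_conj] at hy
          have := hx _ hy
          have e : x * (x⁻¹ * y * x) * x⁻¹ = y := by group
          rwa [e] at this
        have hQ₁L : MulAut.conj x • (Q.map K.subtype : Subgroup G) ≤ L := by
          intro y hy
          rw [Cfsg.Agent.S0582.mem_conj] at hy
          have h1 : x⁻¹ * y * x ∈ L := hKL (hQ'K hy)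
          have := L.mul_mem (L.mul_mem hxL h1) (L.inv_mem hxL)
          have e : x * (x⁻¹ * y * x) * x⁻¹ = y := by group
          rwa [e] at this
        have hQ₁N := Cfsg.Agent.S0582.conj_le_normalizer_conj x (Q.map K.subtype)
          ((P : Subgroup K).map K.subtype) (hQ'K.trans hKN)
        have hQ₁π : ∀ q : ℕ, q.Prime →
            q ∣ Nat.card (MulAut.conj x • (Q.map K.subtype : Subgroup G) : Subgroup G) →
            q ∣ Nat.card H ∧ q ≠ p := by
          intro q hq hqd
          rw [Cfsg.Agent.Lib.Helper21.card_conj_smul,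
            Subgroup.card_map_of_injective K.subtype_injective] at hqd
          refine ⟨hKπ q hq (hqd.trans (Subgroup.card_subgroup_dvd_card Q)), ?_⟩
          rintro rfl
          rw [← hQ.symm.index_eq_card] at hqd
          exact P.not_dvd_index hqd
        obtain ⟨l, hlL, hl⟩ := stepA n ih L H hHn hHL hH hHall hpH Hp _ _ hP₁ hQ₁L hQ₁N hQ₁π
        rw [← Subgroup.smul_sup, hsup] at hl
        refine ⟨x⁻¹ * l, L.mul_mem (L.inv_mem hxL) hlL, ?_⟩
        rw [map_mul, mul_smul]
        intro k hk
        rw [Cfsg.Agent.S0582.mem_conj, inv_inv]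
        apply hl
        rw [Cfsg.Agent.S0582.mem_conj]
        have e : x⁻¹ * (x * k * x⁻¹) * x = k := by group
        rw [e]
        exact hk
    intro K hKL hKπ
    exact inner _ K rfl hKL hKπ

theorem result {G : Type*} [Group G] [Finite G] (H K : Subgroup G) (hH : Group.IsNilpotent H) (hHall : (Nat.card H).Coprime H.index) (hK : ∀ p : ℕ, p.Prime → p ∣ Nat.card K → p ∣ Nat.card H) : ∃ x : G, K ≤ MulAut.conj x • H := by
  obtain ⟨x, _, hx⟩ := main_aux (Nat.card H) ⊤ H rfl le_top hH
    (by rw [Subgroup.relIndex_top_right]; exact hHall) K le_top hK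
  exact ⟨x, hx⟩

end Cfsg.Agent.S0581
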