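import Mathlib
import Cfsg.Statements.S0895
import Cfsg.Agent.Lib.Helper24.FrobSchurForm

set_option autoImplicit false
open Cfsg

namespace Cfsg.Agent.S0895

open Cfsg.Agent.Lib.Helper24

theorem result {G : Type*} [Group G] [Fintype G] (χ : G → ℂ) (hχ : Cfsg.IsIrrCharacter G χ) (hreal : ∀ g : G, (χ g).im = 0) (d : ℕ) (hd : χ 1 = d) (hodd : Odd d) : (Nat.card G : ℂ)⁻¹ * ∑ s : G, χ (s * s) = 1 := by
  obtain ⟨n, ρ, hρ, rfl⟩ := hχ
  have := hρ
  have hn : n = d := by
    rw [Representation.char_one] at hd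
    have : Module.finrank ℂ (Fin n → ℂ) = n := by simp
    rw [this] at hd
    exact_mod_cast hd
  obtain ⟨M, hM0, hM⟩ := fs_exists ρ hreal
  have hunit := fs_isUnit ρ M hM hM0
  have hsymm := fs_symm ρ M hM
  set ν : ℂ := (Nat.card G : ℂ)⁻¹ * ∑ s : G, ρ.character (s * s) with hν
  have hdet : M.det ≠ 0 := by
    have := (Matrix.isUnit_iff_isUnit_det M).mp hunit
    exact this.ne_zero
  have h1 : M.det = ν ^ n * M.det := by
    have h2 : M.transpose.det = (ν • M).det := by rw [hsymm]
    rw [Matrix.det_transpose, Matrix.det_smul, Fintype.card_fin] at h2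
    exact h2
  have hνn : ν ^ n = 1 := by
    have : 1 * M.det = ν ^ n * M.det := by rw [one_mul]; exact h1
    exact (mul_right_cancel₀ hdet this).symm
  have hν2 : ν ^ 2 = 1 := by
    have h3 : M = (ν * ν) • M := by
      have : M.transpose.transpose = (ν • M).transpose := by rw [hsymm]
      rw [Matrix.transpose_transpose, Matrix.transpose_smul, hsymm, smul_smul] at this
      exact this
    have h4 : (1 - ν * ν) • M = 0 := by
      rw [sub_smul, one_smul, ← h3, sub_self]
    rcases smul_eq_zero.mp h4 with h | h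
    · rw [pow_two]
      exact (sub_eq_zero.mp h).symm
    · exact absurd h hM0
  obtain ⟨k, hk⟩ := hodd
  have hn' : n = 2 * k + 1 := by rw [hn, hk]
  rw [hn', pow_succ, pow_mul, hν2, one_pow, one_mul] at hνn
  exact hνn

end Cfsg.Agent.S0895
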