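import Cfsg.Statements.S0158
import Mathlib
import Cfsg.Prelude.Def_Characters
import Cfsg.Agent.S4475
import Cfsg.Agent.Lib.Helper25.CharReal

set_option autoImplicit false
open Cfsg

namespace Cfsg.Agent.S0158

open scoped ComplexConjugate
open Cfsg.Agent.Lib.Helper25



/-- The Frobenius–Schur indicator of an irreducible complex representation of a finite group — the average over s of the character at s * s — is 0, 1 or −1, and it vanishes exactly when some character value is not real. -/
theorem result {G : Type*} [Group G] [Fintype G] {V : Type*} [AddCommGroup V] [Module ℂ V] [FiniteDimensional ℂ V] (ρ : Representation ℂ G V) [ρ.IsIrreducible] : ((Nat.card G : ℂ)⁻¹ * ∑ s : G, ρ.character (s * s) = 0 ∨ (Nat.card G : ℂ)⁻¹ * ∑ s : G, ρ.character (s * s) = 1 ∨ (Nat.card G : ℂ)⁻¹ * ∑ s : G, ρ.character (s * s) = -1) ∧ ((Nat.card G : ℂ)⁻¹ * ∑ s : G, ρ.character (s * s) = 0 ↔ ∃ s : G, (ρ.character s).im ≠ 0) := by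
  classical
  set ν : ℂ := (Nat.card G : ℂ)⁻¹ * ∑ s : G, ρ.character (s * s) with hν
  by_cases hreal : ∀ g : G, (ρ.character g).im = 0
  · obtain ⟨n, σ, hσ, hchar⟩ := isIrrCharacter_of_irreducible ρ
    have hreal' : ∀ g : G, (σ.character g).im = 0 := by
      intro g; rw [hchar]; exact hreal g
    obtain ⟨⟨M, hM0, hMinv⟩, hall⟩ := Cfsg.Agent.S4475.result n σ hσ hreal'
    have h1 := hall M hMinv
    rw [hchar] at h1
    change M.transpose = ν • M at h1
    have h2 : M = (ν * ν) • M := by
      have := congrArg Matrix.transpose h1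
      rw [Matrix.transpose_transpose, Matrix.transpose_smul, h1, smul_smul] at this
      exact this
    have h3 : ν * ν = 1 := by
      by_contra hne
      apply hM0
      have h4 : (ν * ν - 1) • M = 0 := by
        rw [sub_smul, one_smul, ← h2, sub_self]
      rcases smul_eq_zero.mp h4 with h | h
      · exact absurd (sub_eq_zero.mp h) hne
      · exact h
    have h4 : ν = 1 ∨ ν = -1 := mul_self_eq_one_iff.mp h3
    have hν0 : ν ≠ 0 := by
      rcases h4 with h | h <;> rw [h] <;> norm_num
    refine ⟨Or.inr h4, ?_⟩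
    constructor
    · intro h; exact absurd h hν0
    · rintro ⟨s, hs⟩; exact absurd (hreal s) hs
  · have hex : ∃ s : G, (ρ.character s).im ≠ 0 := by
      by_contra hcon
      apply hreal
      intro g
      by_contra hg
      exact hcon ⟨g, hg⟩
    have hex' : ∃ s : G, conj (ρ.character s) ≠ ρ.character s := by
      obtain ⟨s, hs⟩ := hex
      refine ⟨s, fun h => hs (Complex.conj_eq_iff_im.mp h)⟩
    have h0 : ν = 0 := by
      rw [hν, fs_zero_of_not_real ρ hex', mul_zero]
    exact ⟨Or.inl h0, ⟨fun _ => hex, fun _ => h0⟩⟩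

end Cfsg.Agent.S0158
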