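import Cfsg.Statements.S0988
import Mathlib
import Cfsg.Agent.Lib.helper8.Burnside
import Cfsg.Agent.Lib.helper8.SimpleEmbed

set_option autoImplicit false
open Cfsg

namespace Cfsg.Agent.S0988

open Subgroup
open Cfsg.Agent.Lib.helper8

theorem lemA {G : Type*} [Group G] [Finite G] [IsSimpleGroup G] (s m : ℕ) [hs : Fact s.Prime]
    (hG : Nat.card G = s ^ 1 * m) (hm : ¬ s ∣ m) (hm1 : 1 < m) :
    ∃ d, 1 < d ∧ d ∣ s - 1 ∧ d * Nat.card (Sylow s G) ∣ m := by
  obtain ⟨S⟩ : Nonempty (Sylow s G) := inferInstance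
  have hSc : Nat.card (S : Subgroup G) = s := by
    have := h8_sylow_card s 1 m hG hm S
    rwa [pow_one] at this
  have hnot := h8_simple_not_normalizer_le_centralizer s 1 m hG hm one_pos hm1 S
  set C := centralizer ((S : Subgroup G) : Set G) with hC
  set N := normalizer ((S : Subgroup G) : Set G) with hN
  have hd1 : C.relIndex N ≠ 1 := fun h => hnot (h8_normalizer_le_centralizer_of_relIndex _ h)
  have hdvd : C.relIndex N ∣ s - 1 :=
    h8_relIndex_centralizer_normalizer_dvd_prime s hs.out (S : Subgroup G) hSc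
  have h1 : Nat.card C * C.relIndex N = Nat.card N := h8_card_centralizer_mul_relIndex _
  have hd0 : C.relIndex N ≠ 0 := by
    intro h
    rw [h, mul_zero] at h1
    exact (Nat.card_pos (α := N)).ne' h1.symm
  have h2 : Nat.card N * Nat.card (Sylow s G) = Nat.card G := h8_card_normalizer_sylow s S
  haveI : IsCyclic (S : Subgroup G) := isCyclic_of_prime_card hSc
  have hSC : (S : Subgroup G) ≤ C := by
    intro x hx
    rw [hC, mem_centralizer_iff]
    intro y hy
    have := (IsCyclic.isMulCommutative (α := (S : Subgroup G))).is_comm.comm ⟨y, hy⟩ ⟨x, hx⟩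
    exact congrArg Subtype.val this
  obtain ⟨c', hc'⟩ : s ∣ Nat.card C := hSc ▸ Subgroup.card_dvd_of_le hSC
  refine ⟨C.relIndex N, by omega, hdvd, ?_⟩
  rw [← h1, hc', hG, pow_one] at h2
  have h3 : s * (c' * C.relIndex N * Nat.card (Sylow s G)) = s * m := by
    rw [← h2]; ring
  have h4 := Nat.eq_of_mul_eq_mul_left hs.out.pos h3
  exact ⟨c', by rw [← h4]; ring⟩

theorem lemB {G : Type*} [Group G] [Finite G] [IsSimpleGroup G] (a m : ℕ) [ha : Fact a.Prime]
    (hG : Nat.card G = a ^ 2 * m) (hm : ¬ a ∣ m) (hm1 : 1 < m) :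
    ∃ s, s.Prime ∧ s ∣ m ∧ s ∣ a ^ 2 - 1 := by
  obtain ⟨T⟩ : Nonempty (Sylow a G) := inferInstance
  have hTc : Nat.card (T : Subgroup G) = a ^ 2 := h8_sylow_card a 2 m hG hm T
  have hnot := h8_simple_not_normalizer_le_centralizer a 2 m hG hm (by norm_num) hm1 T
  have hcomm := h8_comm_of_card_prime_sq a (T : Subgroup G) hTc
  set C := centralizer ((T : Subgroup G) : Set G) with hC
  set N := normalizer ((T : Subgroup G) : Set G) with hN
  have hTC : (T : Subgroup G) ≤ C := by
    intro x hx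
    rw [hC, mem_centralizer_iff]
    intro y hy
    exact hcomm y hy x hx
  set φ := (T : Subgroup G).normalizerMonoidHom with hφ
  have hker : φ.ker = C.subgroupOf N := normalizerMonoidHom_ker _
  have hrc : Nat.card φ.range = C.relIndex N := by
    rw [← Subgroup.index_ker, hker]; rfl
  have hd1 : C.relIndex N ≠ 1 := fun h => hnot (h8_normalizer_le_centralizer_of_relIndex _ h)
  have h1 : Nat.card C * C.relIndex N = Nat.card N := h8_card_centralizer_mul_relIndex _
  have h2 : Nat.card N * Nat.card (Sylow a G) = Nat.card G := h8_card_normalizer_sylow a T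
  obtain ⟨c', hc'⟩ : a ^ 2 ∣ Nat.card C := hTc ▸ Subgroup.card_dvd_of_le hTC
  have hdm : C.relIndex N ∣ m := by
    rw [← h1, hc', hG] at h2
    have h3 : a ^ 2 * (c' * C.relIndex N * Nat.card (Sylow a G)) = a ^ 2 * m := by
      rw [← h2]; ring
    have h4 := Nat.eq_of_mul_eq_mul_left (pow_pos ha.out.pos 2) h3
    exact ⟨c' * Nat.card (Sylow a G), by rw [← h4]; ring⟩
  set s := (Nat.card φ.range).minFac with hs
  have hsp : s.Prime := Nat.minFac_prime (by rw [hrc]; exact hd1)
  haveI : Fact s.Prime := ⟨hsp⟩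
  have hsr : s ∣ Nat.card φ.range := Nat.minFac_dvd _
  have hsm : s ∣ m := hsr.trans (hrc ▸ hdm)
  refine ⟨s, hsp, hsm, ?_⟩
  obtain ⟨x, hx⟩ := exists_prime_orderOf_dvd_card' s hsr
  set σ : MulAut (T : Subgroup G) := (x : MulAut (T : Subgroup G)) with hσ
  have hσo : orderOf σ = s := by rw [hσ, Subgroup.orderOf_coe]; exact hx
  set S := zpowers σ with hS
  have hpg : IsPGroup s S := IsPGroup.of_card (n := 1) (by rw [Nat.card_zpowers, hσo, pow_one])
  set F : Subgroup (T : Subgroup G) := MonoidHom.eqLocus σ.toMonoidHom (MonoidHom.id _) with hF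
  have hFix : MulAction.fixedPoints S (T : Subgroup G) = (F : Set (T : Subgroup G)) := by
    ext t
    rw [MulAction.mem_fixedPoints]
    constructor
    · intro h
      exact h ⟨σ, mem_zpowers σ⟩
    · intro h τ
      have h3 : σ ∈ MulAction.stabilizer (MulAut (T : Subgroup G)) t := by
        rw [MulAction.mem_stabilizer_iff]; exact h
      have h4 : S ≤ MulAction.stabilizer (MulAut (T : Subgroup G)) t := by
        rw [hS, zpowers_le]; exact h3
      exact MulAction.mem_stabilizer_iff.mp (h4 τ.2)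
  have hcong := hpg.card_modEq_card_fixedPoints (α := (T : Subgroup G))
  have hcF : Nat.card (MulAction.fixedPoints S (T : Subgroup G)) = Nat.card F :=
    Nat.card_congr (Equiv.setCongr hFix)
  rw [hcF, hTc] at hcong
  have hFd : Nat.card F ∣ a ^ 2 := hTc ▸ Subgroup.card_subgroup_dvd_card F
  obtain ⟨j, hj, hFj⟩ := (Nat.dvd_prime_pow ha.out).mp hFd
  have hsa : s ≠ a := fun h => hm (h ▸ hsm)
  have ha2 := ha.out.two_le
  have hsq : a ^ 2 - 1 = (a - 1) * (a + 1) := by
    obtain ⟨k, rfl⟩ : ∃ k, a = k + 1 := ⟨a - 1, by omega⟩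
    rw [Nat.add_sub_cancel]
    have : (k + 1) ^ 2 = k * (k + 1 + 1) + 1 := by ring
    rw [this, Nat.add_sub_cancel]
  interval_cases j
  · rw [hFj, pow_zero] at hcong
    exact (Nat.modEq_iff_dvd' (Nat.one_le_pow _ _ ha.out.pos)).mp hcong.symm
  · rw [hFj, pow_one] at hcong
    have h5 : s ∣ a ^ 2 - a :=
      (Nat.modEq_iff_dvd' (by nlinarith)).mp hcong.symm
    have h6 : a ^ 2 - a = a * (a - 1) := by
      rw [Nat.mul_sub, mul_one, pow_two]
    rw [h6] at h5
    rcases (Nat.Prime.dvd_mul hsp).mp h5 with h7 | h7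
    · exact absurd ((Nat.prime_dvd_prime_iff_eq hsp ha.out).mp h7) hsa
    · rw [hsq]; exact Dvd.dvd.mul_right h7 _
  · exfalso
    have hFtop : F = ⊤ := by
      apply Subgroup.eq_top_of_card_eq
      rw [hFj, hTc]
    have hσ1 : σ = 1 := by
      ext t
      have : t ∈ F := by rw [hFtop]; trivial
      have h8 : σ t = t := this
      rw [h8]; rfl
    rw [hσ1, orderOf_one] at hσo
    exact hsp.one_lt.ne' hσo.symm

theorem lemC {G : Type*} [Group G] [Finite G] [IsSimpleGroup G] (hnc : ¬ IsMulCommutative G)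
    (s k m : ℕ) [hs : Fact s.Prime] (hG : Nat.card G = s ^ k * m) (hm : ¬ s ∣ m) (hk : 0 < k)
    (hm1 : 1 < m) : 2 * Nat.card G ∣ (Nat.card (Sylow s G)).factorial := by
  obtain ⟨S⟩ : Nonempty (Sylow s G) := inferInstance
  have hne := h8_simple_nsylow_ne_one s k m hG hm hk hm1
  have hidx := h8_nsylow_eq_index_normalizer s S
  rw [hidx]
  apply h8_simple_two_mul_card_dvd_factorial hnc
  intro h
  rw [h, Subgroup.index_top] at hidx
  exact hne hidx

theorem two_three {a b : ℕ} (ha : a.Prime) (hb : b.Prime) (hab : a < b) (h : b ∣ a ^ 2 - 1) :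
    a = 2 ∧ b = 3 := by
  have ha2 := ha.two_le
  obtain ⟨k, rfl⟩ : ∃ k, a = k + 1 := ⟨a - 1, by omega⟩
  have hsq : (k + 1) ^ 2 - 1 = k * (k + 2) := by
    have : (k + 1) ^ 2 = k * (k + 2) + 1 := by ring
    rw [this, Nat.add_sub_cancel]
  rw [hsq] at h
  have hk0 : 0 < k := by omega
  rcases (Nat.Prime.dvd_mul hb).mp h with h1 | h1
  · have := Nat.le_of_dvd hk0 h1
    omega
  · have h2 := Nat.le_of_dvd (by omega) h1
    have hbk : b = k + 2 := by omega
    subst hbk
    rcases ha.eq_two_or_odd with h3 | h3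
    · omega
    · rcases hb.eq_two_or_odd with h4 | h4
      · omega
      · omega

theorem prime_dvd_pow_eq {s a k : ℕ} (hs : s.Prime) (ha : a.Prime) (h : s ∣ a ^ k) : s = a :=
  (Nat.prime_dvd_prime_iff_eq hs ha).mp (hs.dvd_of_dvd_pow h)

theorem not_dvd_pow {s a k : ℕ} (hs : s.Prime) (ha : a.Prime) (hne : s ≠ a) : ¬ s ∣ a ^ k :=
  fun h => hne (prime_dvd_pow_eq hs ha h)

theorem caseI {G : Type*} [Group G] [Finite G] [IsSimpleGroup G] (hnc : ¬ IsMulCommutative G)
    (a : ℕ) (ha : a.Prime) (hG : Nat.card G = a ^ 4) : False := by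
  haveI := Fact.mk ha
  have hpg : IsPGroup a G := IsPGroup.of_card hG
  have hnt : Nontrivial (center G) := hpg.center_nontrivial
  rcases h8_simple_normal_eq (center G) with h | h
  · rw [Subgroup.nontrivial_iff_ne_bot] at hnt
    exact hnt h
  · apply hnc
    refine ⟨⟨fun x y => ?_⟩⟩
    have hx : x ∈ center G := by rw [h]; trivial
    exact (Subgroup.mem_center_iff.mp hx y).symm

theorem caseII {G : Type*} [Group G] [Finite G] [IsSimpleGroup G] (hnc : ¬ IsMulCommutative G)
    (a b : ℕ) (ha : a.Prime) (hb : b.Prime) (hab : a ≠ b) (hG : Nat.card G = a ^ 3 * b) :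
    False := by
  haveI := Fact.mk ha
  haveI := Fact.mk hb
  have ha2 := ha.two_le
  have hG' : Nat.card G = b ^ 1 * a ^ 3 := by rw [hG]; ring
  have hm : ¬ b ∣ a ^ 3 := not_dvd_pow hb ha (Ne.symm hab)
  have hm1 : 1 < a ^ 3 := Nat.one_lt_pow (by norm_num) ha.one_lt
  obtain ⟨d, hd1, hdb, hdn⟩ := lemA b (a ^ 3) hG' hm hm1
  have hne := h8_simple_nsylow_ne_one b 1 (a ^ 3) hG' hm one_pos hm1
  have hmod := h8_nsylow_mod (G := G) b
  set n := Nat.card (Sylow b G) with hn
  obtain ⟨i, hi, hdi⟩ := (Nat.dvd_prime_pow ha).mp (Dvd.dvd.trans (Dvd.intro _ rfl) hdn)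
  obtain ⟨j, hj, hnj⟩ := (Nat.dvd_prime_pow ha).mp (Dvd.dvd.trans (Dvd.intro_left _ rfl) hdn)
  have hi0 : i ≠ 0 := by rintro rfl; rw [pow_zero] at hdi; omega
  have hj0 : j ≠ 0 := by rintro rfl; rw [pow_zero] at hnj; exact hne hnj
  have hij : i + j ≤ 3 := by
    rw [hdi, hnj, ← pow_add] at hdn
    exact (Nat.pow_dvd_pow_iff_le_right ha.one_lt).mp hdn
  have hadb : a ∣ b - 1 := by
    refine Dvd.dvd.trans ?_ hdb
    rw [hdi]
    exact dvd_pow_self a hi0
  have hb2 := hb.two_le
  have halt : a < b := by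
    have := Nat.le_of_dvd (by omega) hadb
    omega
  have hj12 : j = 1 ∨ j = 2 := by omega
  rcases hj12 with rfl | rfl
  · rw [hnj, pow_one, Nat.mod_eq_of_lt halt] at hmod
    omega
  · have h1 : b ∣ a ^ 2 - 1 := by
      have : a ^ 2 % b = 1 % b := by rw [← hnj, hmod, Nat.mod_eq_of_lt hb.one_lt]
      exact (Nat.modEq_iff_dvd' (Nat.one_le_pow _ _ ha.pos)).mp (Nat.ModEq.symm this)
    obtain ⟨rfl, rfl⟩ := two_three ha hb halt h1
    have hG2 : Nat.card G = 2 ^ 3 * 3 := hG
    have h3 := lemC hnc 2 3 3 hG2 (by norm_num) (by norm_num) (by norm_num)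
    have h4 := h8_nsylow_dvd 2 3 3 hG2 (by norm_num)
    have h5 : Nat.card (Sylow 2 G) ≤ 3 := Nat.le_of_dvd (by norm_num) h4
    have h6 : (Nat.card (Sylow 2 G)).factorial ∣ Nat.factorial 3 := Nat.factorial_dvd_factorial h5
    have h7 := h3.trans h6
    rw [hG2] at h7
    revert h7
    decide


theorem caseIII {G : Type*} [Group G] [Finite G] [IsSimpleGroup G] (hnc : ¬ IsMulCommutative G)
    (a b : ℕ) (ha : a.Prime) (hb : b.Prime) (hab : a < b) (hG : Nat.card G = a ^ 2 * b ^ 2) :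
    False := by
  haveI := Fact.mk ha
  haveI := Fact.mk hb
  have hm : ¬ a ∣ b ^ 2 := not_dvd_pow ha hb hab.ne
  have hm1 : 1 < b ^ 2 := Nat.one_lt_pow (by norm_num) hb.one_lt
  obtain ⟨s, hsp, hsm, hsa⟩ := lemB a (b ^ 2) hG hm hm1
  have hsb : s = b := prime_dvd_pow_eq hsp hb hsm
  subst hsb
  obtain ⟨rfl, rfl⟩ := two_three ha hsp hab hsa
  have hG2 : Nat.card G = 3 ^ 2 * 4 := by rw [hG]; norm_num
  have h3 := lemC hnc 3 2 4 hG2 (by norm_num) (by norm_num) (by norm_num)
  have h4 := h8_nsylow_dvd 3 2 4 hG2 (by norm_num)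
  have h5 : Nat.card (Sylow 3 G) ≤ 4 := Nat.le_of_dvd (by norm_num) h4
  have h6 : (Nat.card (Sylow 3 G)).factorial ∣ Nat.factorial 4 := Nat.factorial_dvd_factorial h5
  have h7 := h3.trans h6
  rw [hG2] at h7
  revert h7
  decide

theorem lt_of_lemA {G : Type*} [Group G] [Finite G] [IsSimpleGroup G]
    (a b c : ℕ) (ha : a.Prime) (hb : b.Prime) (hc : c.Prime) (hab : a ≠ b)
    (hbc : b ≠ c) (hG : Nat.card G = a ^ 2 * b * c) : a < b ∨ c < b := by
  haveI := Fact.mk hb
  have hG' : Nat.card G = b ^ 1 * (a ^ 2 * c) := by rw [hG]; ring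
  have hm : ¬ b ∣ a ^ 2 * c := by
    intro h
    rcases (Nat.Prime.dvd_mul hb).mp h with h1 | h1
    · exact not_dvd_pow hb ha (Ne.symm hab) h1
    · exact hbc ((Nat.prime_dvd_prime_iff_eq hb hc).mp h1)
  have hm1 : 1 < a ^ 2 * c := by
    have := Nat.one_lt_pow (n := 2) (by norm_num) ha.one_lt
    have := hc.one_lt
    nlinarith
  obtain ⟨d, hd1, hdb, hdn⟩ := lemA b (a ^ 2 * c) hG' hm hm1
  have hdm : d ∣ a ^ 2 * c := Dvd.dvd.trans (Dvd.intro _ rfl) hdn
  obtain ⟨u, hup, hud⟩ := Nat.exists_prime_and_dvd (by omega : d ≠ 1)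
  have hub : u ∣ b - 1 := hud.trans hdb
  have hb2 := hb.two_le
  have hult : u < b := by
    have := Nat.le_of_dvd (by omega) hub
    omega
  rcases (Nat.Prime.dvd_mul hup).mp (hud.trans hdm) with h1 | h1
  · left
    rw [← prime_dvd_pow_eq hup ha h1]; exact hult
  · right
    rw [← (Nat.prime_dvd_prime_iff_eq hup hc).mp h1]; exact hult

theorem case12 {G : Type*} [Group G] [Finite G] [IsSimpleGroup G]
    (c : ℕ) (hc : c.Prime) (hc5 : 5 ≤ c) (hG : Nat.card G = 12 * c) : c = 5 := by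
  haveI := Fact.mk hc
  have hG' : Nat.card G = c ^ 1 * 12 := by rw [hG]; ring
  have hm : ¬ c ∣ 12 := by
    intro h
    have := Nat.le_of_dvd (by norm_num) h
    interval_cases c <;> first | omega | (norm_num at hc)
  obtain ⟨d, hd1, hdb, hdn⟩ := lemA c 12 hG' hm (by norm_num)
  have hne := h8_simple_nsylow_ne_one c 1 12 hG' hm one_pos (by norm_num)
  have hmod := h8_nsylow_mod (G := G) c
  set n := Nat.card (Sylow c G) with hn
  have hdn12 : d * n ≤ 12 := Nat.le_of_dvd (by norm_num) hdn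
  have hn0 : n ≠ 0 := by
    rintro h0
    rw [h0, mul_zero] at hdn
    simp at hdn
  have hn6 : n ≤ 6 := by nlinarith
  have hcn : c ∣ n - 1 := by
    have : 1 % c = n % c := by rw [hmod, Nat.mod_eq_of_lt hc.one_lt]
    exact (Nat.modEq_iff_dvd' (by omega)).mp this
  have hn2 : 2 ≤ n := by omega
  have hle := Nat.le_of_dvd (by omega) hcn
  omega


theorem five_le {c : ℕ} (hc : c.Prime) (h2 : 2 < c) (h3 : c ≠ 3) : 5 ≤ c := by
  by_contra h
  push Not at h
  interval_cases c
  · exact h3 rfl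
  · norm_num at hc

theorem caseIV {G : Type*} [Group G] [Finite G] [IsSimpleGroup G]
    (a b c : ℕ) (ha : a.Prime) (hb : b.Prime) (hc : c.Prime) (hab : a ≠ b) (hac : a ≠ c)
    (hbc : b ≠ c) (hG : Nat.card G = a ^ 2 * b * c) : Nat.card G = 60 := by
  haveI := Fact.mk ha
  have h1 := lt_of_lemA a b c ha hb hc hab hbc hG
  have hG' : Nat.card G = a ^ 2 * c * b := by rw [hG]; ring
  have h2 := lt_of_lemA a c b ha hc hb hac (Ne.symm hbc) hG'
  have halb : a < b := by omega
  have halc : a < c := by omega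
  have hG2 : Nat.card G = a ^ 2 * (b * c) := by rw [hG]; ring
  have hm : ¬ a ∣ b * c := by
    intro h
    rcases (Nat.Prime.dvd_mul ha).mp h with h3 | h3
    · exact hab ((Nat.prime_dvd_prime_iff_eq ha hb).mp h3)
    · exact hac ((Nat.prime_dvd_prime_iff_eq ha hc).mp h3)
  have hm1 : 1 < b * c := by
    have := hb.one_lt
    have := hc.one_lt
    nlinarith
  obtain ⟨s, hsp, hsm, hsa⟩ := lemB a (b * c) hG2 hm hm1
  rcases (Nat.Prime.dvd_mul hsp).mp hsm with h3 | h3
  · have hsb := (Nat.prime_dvd_prime_iff_eq hsp hb).mp h3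
    subst hsb
    obtain ⟨rfl, rfl⟩ := two_three ha hsp halb hsa
    have hc5 : 5 ≤ c := five_le hc halc (Ne.symm hbc)
    have hG3 : Nat.card G = 12 * c := by rw [hG]; norm_num
    have := case12 c hc hc5 hG3
    rw [hG3, this]
  · have hsc := (Nat.prime_dvd_prime_iff_eq hsp hc).mp h3
    subst hsc
    obtain ⟨rfl, rfl⟩ := two_three ha hsp halc hsa
    have hb5 : 5 ≤ b := five_le hb halb hbc
    have hG3 : Nat.card G = 12 * b := by rw [hG]; ring
    have := case12 b hb hb5 hG3
    rw [hG3, this]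

theorem result {G : Type*} [Group G] [Finite G] [IsSimpleGroup G] (p q r : ℕ) (hp : p.Prime) (hq : q.Prime) (hr : r.Prime) (hG : Nat.card G = p ^ 2 * q * r) : Nat.card G = 60 := by
  have hnp : ¬ (Nat.card G).Prime := by
    rw [hG]
    have h1 : p ^ 2 * q * r = p * (p * q * r) := by ring
    rw [h1]
    apply Nat.not_prime_mul hp.one_lt.ne'
    have := hp.one_lt
    have := hq.one_lt
    have := hr.one_lt
    have : 1 < p * q := by nlinarith
    nlinarith
  have hnc := h8_not_comm_of_card hnp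
  by_cases hqp : q = p
  · by_cases hrp : r = p
    · exfalso
      apply caseI hnc p hp
      rw [hG, hqp, hrp]; ring
    · exfalso
      apply caseII hnc p r hp hr (Ne.symm hrp)
      rw [hG, hqp]; ring
  · by_cases hrp : r = p
    · exfalso
      apply caseII hnc p q hp hq (Ne.symm hqp)
      rw [hG, hrp]; ring
    · by_cases hqr : q = r
      · exfalso
        rcases lt_or_gt_of_ne hqp with h | h
        · apply caseIII hnc q p hq hp h
          rw [hG, ← hqr]; ring
        · apply caseIII hnc p q hp hq h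
          rw [hG, ← hqr]; ring
      · exact caseIV p q r hp hq hr (Ne.symm hqp) (Ne.symm hrp) hqr hG

end Cfsg.Agent.S0988
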