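import Cfsg.Statements.S0992
import Mathlib
import Cfsg.Agent.S0988

set_option autoImplicit false
open Cfsg

namespace Cfsg.Agent.S0992

open Subgroup
open Cfsg.Agent.Lib.helper8

theorem klein_aut {K : Type*} [Group K] [IsKleinFour K] (R : Subgroup (MulAut K))
    (hodd : Odd (Nat.card R)) : Nat.card R = 1 ∨ Nat.card R = 3 := by
  haveI : Finite K := Nat.finite_of_card_ne_zero (by rw [IsKleinFour.card_four]; norm_num)
  haveI : Nontrivial K := by
    rw [← Finite.one_lt_card_iff_nontrivial, IsKleinFour.card_four]; norm_num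
  obtain ⟨t, ht⟩ := exists_ne (1 : K)
  have hstab : ∀ σ : R, σ • t = t → σ = 1 := by
    intro σ hσ
    have hσt : (σ : MulAut K) t = t := hσ
    have hsq : (σ : MulAut K) * (σ : MulAut K) = 1 := by
      ext x
      rw [MulAut.mul_apply, MulAut.one_apply]
      by_cases hx1 : x = 1
      · rw [hx1, map_one, map_one]
      by_cases hxt : x = t
      · rw [hxt, hσt, hσt]
      have h1 : (σ : MulAut K) x ≠ 1 := by
        intro h
        apply hx1
        apply (σ : MulAut K).injective
        rw [h, map_one]
      have h2 : (σ : MulAut K) x ≠ t := by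
        intro h
        apply hxt
        apply (σ : MulAut K).injective
        rw [h, hσt]
      by_cases h3 : (σ : MulAut K) x = x
      · rw [h3, h3]
      · have h4 := IsKleinFour.eq_mul_of_ne_all ht hx1 (Ne.symm hxt) h1 h2 h3
        rw [h4, map_mul, hσt, h4, ← mul_assoc, IsKleinFour.mul_self, one_mul]
    have ho2 : orderOf (σ : MulAut K) ∣ 2 := by
      apply orderOf_dvd_of_pow_eq_one
      rw [pow_two]; exact hsq
    have hoR : orderOf (σ : MulAut K) ∣ Nat.card R := by
      have := orderOf_dvd_natCard σ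
      rwa [← Subgroup.orderOf_coe] at this
    have ho1 : orderOf (σ : MulAut K) = 1 := by
      rcases (Nat.dvd_prime Nat.prime_two).mp ho2 with h | h
      · exact h
      · exfalso
        rw [h] at hoR
        obtain ⟨k, hk⟩ := hodd
        omega
    rw [orderOf_eq_one_iff] at ho1
    exact Subtype.ext ho1
  haveI : Finite (MulAut K) := Finite.of_injective (fun σ : MulAut K => (σ : K → K))
    (fun a b h => MulEquiv.ext (congrFun h))
  have hos : (MulAction.orbit R t).ncard * Nat.card (MulAction.stabilizer R t) = Nat.card R := by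
    rw [← MulAction.index_stabilizer, mul_comm]
    exact Subgroup.card_mul_index _
  have hst1 : Nat.card (MulAction.stabilizer R t) = 1 := by
    rw [Nat.card_eq_one_iff_unique]
    refine ⟨⟨fun a b => ?_⟩, ⟨1⟩⟩
    apply Subtype.ext
    rw [hstab a.1 (MulAction.mem_stabilizer_iff.mp a.2), hstab b.1 (MulAction.mem_stabilizer_iff.mp b.2)]
  rw [hst1, mul_one] at hos
  have hle : (MulAction.orbit R t).ncard ≤ 3 := by
    have hsub : MulAction.orbit R t ⊆ ({1} : Set K)ᶜ := by
      rintro y ⟨σ, rfl⟩
      intro h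
      apply ht
      have h5 : (σ : MulAut K) t = 1 := h
      apply (σ : MulAut K).injective
      rw [h5, map_one]
    have h6 := Set.ncard_le_ncard hsub
    rw [Set.ncard_compl, Set.ncard_singleton, IsKleinFour.card_four] at h6
    exact h6
  rw [hos] at hle
  obtain ⟨k, hk⟩ := hodd
  omega

theorem pgroup_comm {G : Type*} [Group G] [Finite G] [IsSimpleGroup G] (a k : ℕ) (ha : a.Prime)
    (hG : Nat.card G = a ^ k) : IsMulCommutative G := by
  haveI := Fact.mk ha
  have hpg : IsPGroup a G := IsPGroup.of_card hG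
  have hnt : Nontrivial (center G) := hpg.center_nontrivial
  rcases h8_simple_normal_eq (center G) with h | h
  · rw [Subgroup.nontrivial_iff_ne_bot] at hnt
    exact absurd h hnt
  · refine ⟨⟨fun x y => ?_⟩⟩
    have hx : x ∈ center G := by rw [h]; trivial
    exact (Subgroup.mem_center_iff.mp hx y).symm

theorem klein_of_not_cyclic {K : Type*} [Group K] (hc : Nat.card K = 4) (hn : ¬ IsCyclic K) :
    IsKleinFour K := by
  haveI : Finite K := Nat.finite_of_card_ne_zero (by rw [hc]; norm_num)
  refine ⟨hc, ?_⟩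
  have h2 : Monoid.exponent K ∣ 2 := by
    rw [Monoid.exponent_dvd]
    intro g
    have h4 : orderOf g ∣ 4 := hc ▸ orderOf_dvd_natCard g
    have hle := Nat.le_of_dvd (by norm_num) h4
    have hne : orderOf g ≠ 4 := fun h => hn (isCyclic_of_orderOf_eq_card g (h.trans hc.symm))
    interval_cases (orderOf g) <;> simp_all
  rcases (Nat.dvd_prime Nat.prime_two).mp h2 with h | h
  · exfalso
    rw [Monoid.exp_eq_one_iff] at h
    have := Nat.card_eq_one_iff_unique.mpr ⟨h, ⟨1⟩⟩
    omega
  · exact h

theorem result {G : Type*} [Group G] [Finite G] [IsSimpleGroup G] (hG : ¬ IsMulCommutative G) (h2 : Even (Nat.card G)) (h8 : ¬ 8 ∣ Nat.card G) (T : Sylow 2 G) : IsKleinFour ↥(T : Subgroup G) ∧ (Subgroup.centralizer ((T : Subgroup G) : Set G)).relIndex (Subgroup.normalizer ((T : Subgroup G) : Set G)) = 3 := by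
  haveI : Fact (Nat.Prime 2) := ⟨Nat.prime_two⟩
  obtain ⟨k, m, hm, hkm⟩ := Nat.exists_eq_pow_mul_and_not_dvd (Nat.card_pos (α := G)).ne' 2 (by norm_num)
  have hk0 : k ≠ 0 := by
    rintro rfl
    rw [pow_zero, one_mul] at hkm
    exact hm (hkm ▸ h2.two_dvd)
  have hk2 : k ≤ 2 := by
    by_contra h
    push Not at h
    apply h8
    rw [hkm]
    exact Dvd.dvd.mul_right (pow_dvd_pow 2 h : 2 ^ 3 ∣ 2 ^ k) m
  have hm0 : m ≠ 0 := fun h0 => hm (h0 ▸ dvd_zero 2)
  have hm1 : 1 < m := by
    by_contra h
    have h1 : m = 1 := by omega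
    rw [h1, mul_one] at hkm
    exact hG (pgroup_comm 2 k Nat.prime_two hkm)
  have hk12 : k = 1 ∨ k = 2 := by omega
  rcases hk12 with rfl | rfl
  · exfalso
    obtain ⟨d, hd1, hd2, _⟩ := Cfsg.Agent.S0988.lemA 2 m hkm hm hm1
    have := Nat.le_of_dvd (by norm_num) hd2
    omega
  · have hTc : Nat.card (T : Subgroup G) = 4 := by
      have := h8_sylow_card 2 2 m hkm hm T
      rw [this]; norm_num
    have hnot := h8_simple_not_normalizer_le_centralizer 2 2 m hkm hm (by norm_num) hm1 T
    have hcomm := h8_comm_of_card_prime_sq 2 (T : Subgroup G) (by rw [hTc]; norm_num)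
    set C := centralizer ((T : Subgroup G) : Set G) with hC
    set N := normalizer ((T : Subgroup G) : Set G) with hN
    have hTC : (T : Subgroup G) ≤ C := by
      intro x hx
      rw [hC, mem_centralizer_iff]
      intro y hy
      exact hcomm y hy x hx
    have hd1 : C.relIndex N ≠ 1 := fun h => hnot (h8_normalizer_le_centralizer_of_relIndex _ h)
    have h1 : Nat.card C * C.relIndex N = Nat.card N := h8_card_centralizer_mul_relIndex _
    have h2' : Nat.card N * Nat.card (Sylow 2 G) = Nat.card G := h8_card_normalizer_sylow 2 T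
    obtain ⟨c', hc'⟩ : 4 ∣ Nat.card C := hTc ▸ Subgroup.card_dvd_of_le hTC
    have hdm : C.relIndex N ∣ m := by
      rw [← h1, hc', hkm] at h2'
      have h3 : 4 * (c' * C.relIndex N * Nat.card (Sylow 2 G)) = 4 * m := by
        have : (2 : ℕ) ^ 2 * m = 4 * m := by norm_num
        rw [← this, ← h2']; ring
      have h4 := Nat.eq_of_mul_eq_mul_left (by norm_num) h3
      exact ⟨c' * Nat.card (Sylow 2 G), by rw [← h4]; ring⟩
    have hmodd : Odd m := by
      rw [← Nat.not_even_iff_odd, even_iff_two_dvd]; exact hm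
    have hdodd : Odd (C.relIndex N) := by
      obtain ⟨e, he⟩ := hdm
      rw [he] at hmodd
      exact (Nat.odd_mul.mp hmodd).1
    have hdaut := h8_relIndex_centralizer_normalizer_dvd (T : Subgroup G)
    have hncyc : ¬ IsCyclic (T : Subgroup G) := by
      intro hcyc
      rw [IsCyclic.card_mulAut, hTc] at hdaut
      have h22 : Nat.totient 4 = 2 := by decide
      rw [h22] at hdaut
      rcases (Nat.dvd_prime Nat.prime_two).mp hdaut with h | h
      · exact hd1 h
      · rw [h] at hdodd
        revert hdodd; decide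
    haveI hK : IsKleinFour (T : Subgroup G) := klein_of_not_cyclic hTc hncyc
    refine ⟨hK, ?_⟩
    set φ := (T : Subgroup G).normalizerMonoidHom with hφ
    have hker : φ.ker = C.subgroupOf N := normalizerMonoidHom_ker _
    have hrc : Nat.card φ.range = C.relIndex N := by
      rw [← Subgroup.index_ker, hker]; rfl
    rcases klein_aut φ.range (hrc ▸ hdodd) with h | h
    · exact absurd (hrc ▸ h) hd1
    · exact hrc ▸ h

end Cfsg.Agent.S0992
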