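import Cfsg.Statements.S0263
import Mathlib

set_option autoImplicit false
open Cfsg

namespace Cfsg.Agent.S0263

theorem prod_split (q n : ℕ) :
    ∏ i : Fin n, (q ^ n - q ^ (i : ℕ)) = q ^ (n * (n - 1) / 2) * ∏ i : Fin n, (q ^ (n - (i : ℕ)) - 1) := by
  have h1 : ∀ i : Fin n, q ^ n - q ^ (i : ℕ) = q ^ (i : ℕ) * (q ^ (n - (i : ℕ)) - 1) := by
    intro i
    have hi : (i : ℕ) ≤ n := i.2.le
    rw [Nat.mul_sub, mul_one, ← pow_add, Nat.add_sub_cancel' hi]
  rw [Finset.prod_congr rfl (fun i _ => h1 i), Finset.prod_mul_distrib, Finset.prod_pow_eq_pow_sum]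
  congr 2
  rw [Fin.sum_univ_eq_sum_range (fun i => i) n, Finset.sum_range_id]

theorem not_dvd_prod (p q n : ℕ) (hp : p.Prime) (hpq : p ∣ q) (hq : 1 ≤ q) :
    ¬ p ∣ ∏ i : Fin n, (q ^ (n - (i : ℕ)) - 1) := by
  intro h
  rw [Prime.dvd_finsetProd_iff hp.prime] at h
  obtain ⟨i, -, hi⟩ := h
  have hj : 1 ≤ n - (i : ℕ) := by have := i.2; omega
  have h2 : p ∣ q ^ (n - (i : ℕ)) := dvd_pow hpq (by omega)
  have h3 : 1 ≤ q ^ (n - (i : ℕ)) := Nat.one_le_pow _ _ hq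
  have h4 : p ∣ 1 := by
    have := (Nat.dvd_sub h2 hi)
    rwa [Nat.sub_sub_self h3] at this
  exact hp.one_lt.ne' (Nat.dvd_one.mp h4)

theorem result {F : Type*} [Field F] [Fintype F] {q : ℕ} (hF : Fintype.card F = q) (p : ℕ) [Fact p.Prime] [CharP F p] (n : ℕ) (P : Sylow p (Matrix.GeneralLinearGroup (Fin n) F)) : Nat.card P = q ^ (n * (n - 1) / 2) := by
  classical
  subst hF
  have hp : p.Prime := Fact.out
  obtain ⟨k, -, hk⟩ := FiniteField.card F p
  have hq1 : 1 ≤ Fintype.card F := Fintype.card_pos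
  have hpq : p ∣ Fintype.card F := by rw [hk]; exact dvd_pow_self p k.ne_zero
  rw [Sylow.card_eq_multiplicity, Matrix.card_GL_field, prod_split _ _]
  have hm := not_dvd_prod p (Fintype.card F) n hp hpq hq1
  have hm0 : ∏ i : Fin n, (Fintype.card F ^ (n - (i : ℕ)) - 1) ≠ 0 := by
    intro h0; rw [h0] at hm; exact hm (dvd_zero p)
  have hqN : Fintype.card F ^ (n * (n - 1) / 2) ≠ 0 := pow_ne_zero _ (by omega)
  rw [Nat.factorization_mul hqN hm0, Finsupp.add_apply, Nat.factorization_eq_zero_of_not_dvd hm,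
    add_zero]
  conv_lhs => rw [hk, ← pow_mul, hp.factorization_pow]
  rw [hk, ← pow_mul]
  simp

end Cfsg.Agent.S0263
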