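import Cfsg.Statements.S5122
import Cfsg.Agent.Lib.Helper26.FusionGroup
import Cfsg.Agent.Lib.Helper26.FusionAut
import Cfsg.Agent.Lib.Helper26.FusionFully

set_option autoImplicit false
open Cfsg

namespace Cfsg.Agent.S5122

open Cfsg.FusionSystem Cfsg.Agent.Lib.Helper26

theorem centralizer_sylow {G : Type*} [Group G] [Finite G] (p : ℕ) [Fact p.Prime] (S : Sylow p G)
    (Q : Subgroup G)
    (h : IsSylowIn p (Subgroup.normalizer (Q : Set G)) (normalizerIn (S : Subgroup G) Q)) :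
    IsSylowIn p (Subgroup.centralizer (Q : Set G)) (centralizerIn (S : Subgroup G) Q) := by
  refine isSylowIn_of_forall_card_le inf_le_right (S.isPGroup'.to_le inf_le_left) ?_
  intro L hLC hL _
  have hLN : L ≤ Subgroup.normalizer (Q : Set G) := hLC.trans (centralizer_le_normalizer_aux Q)
  obtain ⟨n, hn, hnL⟩ := h.exists_conj_le hLN hL
  have hle : cj L n ≤ centralizerIn (S : Subgroup G) Q := by
    rintro _ ⟨x, hx, rfl⟩
    refine ⟨(hnL x hx).1, ?_⟩
    have hcQ : cj Q n = Q := by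
      ext z
      rw [mem_cj_iff]
      exact ((Subgroup.mem_normalizer_iff''.mp hn) z).symm
    have : n * x * n⁻¹ ∈ Subgroup.centralizer ((cj Q n : Subgroup G) : Set G) := by
      rw [mem_centralizer_cj_iff]
      have e : n⁻¹ * (n * x * n⁻¹) * n = x := by group
      rw [e]
      exact hLC hx
    rw [hcQ] at this
    exact this
  exact card_le_of_cj_le hle

theorem aut_sylow {G : Type*} [Group G] [Finite G] (p : ℕ) [Fact p.Prime] (S : Sylow p G)
    (Q : Subgroup G)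
    (h : ∃ R : Sylow p ↥(Subgroup.normalizer (Q : Set G)),
      (R : Subgroup ↥(Subgroup.normalizer (Q : Set G))) =
        (normalizerIn (S : Subgroup G) Q).subgroupOf (Subgroup.normalizer (Q : Set G))) :
    ∃ R : Sylow p ↥(Cfsg.autInducedBy ⊤ Q), (R : Subgroup ↥(Cfsg.autInducedBy ⊤ Q)) =
      (Cfsg.autInducedBy (S : Subgroup G) Q).subgroupOf (Cfsg.autInducedBy ⊤ Q) := by
  obtain ⟨R0, hR0⟩ := h
  have hmem : ∀ x : ↥(Subgroup.normalizer (Q : Set G)),
      Subgroup.normalizerMonoidHom Q x ∈ Cfsg.autInducedBy ⊤ Q := by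
    intro x
    exact conjAut_mem_autInducedBy (Subgroup.mem_top _) x.2
  let f : ↥(Subgroup.normalizer (Q : Set G)) →* ↥(Cfsg.autInducedBy ⊤ Q) :=
    (Subgroup.normalizerMonoidHom Q).codRestrict _ hmem
  have hf : Function.Surjective f := by
    rintro ⟨β, hβ⟩
    obtain ⟨g, -, hg, rfl⟩ := mem_autInducedBy_iff'.mp hβ
    exact ⟨⟨g, hg⟩, Subtype.ext rfl⟩
  refine ⟨R0.mapSurjective hf, ?_⟩
  rw [Sylow.coe_mapSurjective, hR0]
  ext β
  rw [Subgroup.mem_subgroupOf, mem_autInducedBy_iff']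
  constructor
  · rintro ⟨x, hx, rfl⟩
    have hx' : (x : G) ∈ normalizerIn (S : Subgroup G) Q := Subgroup.mem_subgroupOf.mp hx
    exact ⟨x, hx'.1, x.2, rfl⟩
  · rintro ⟨g, hgS, hg, hβ⟩
    refine ⟨⟨g, hg⟩, Subgroup.mem_subgroupOf.mpr ⟨hgS, hg⟩, ?_⟩
    exact Subtype.ext hβ.symm

theorem result {G : Type*} [Group G] [Finite G] (p : ℕ) [Fact p.Prime] (S : Sylow p G) : (∀ P : Subgroup G, P ≤ S → ∃ g : G, P.map (MulAut.conj g).toMonoidHom ≤ S ∧ (∃ R : Sylow p ↥(Subgroup.normalizer ((P.map (MulAut.conj g).toMonoidHom : Subgroup G) : Set G)), (R : Subgroup ↥(Subgroup.normalizer ((P.map (MulAut.conj g).toMonoidHom : Subgroup G) : Set G))) = (Cfsg.FusionSystem.normalizerIn (S : Subgroup G) (P.map (MulAut.conj g).toMonoidHom)).subgroupOf (Subgroup.normalizer ((P.map (MulAut.conj g).toMonoidHom : Subgroup G) : Set G)))) ∧ ∀ Q : Subgroup G, Q ≤ S → (∃ R : Sylow p ↥(Subgroup.normalizer (Q : Set G)), (R : Subgroup ↥(Subgroup.normalizer (Q : Set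 G))) = (Cfsg.FusionSystem.normalizerIn (S : Subgroup G) Q).subgroupOf (Subgroup.normalizer (Q : Set G))) → (∃ R : Sylow p ↥(Subgroup.centralizer (Q : Set G)), (R : Subgroup ↥(Subgroup.centralizer (Q : Set G))) = (Cfsg.FusionSystem.centralizerIn (S : Subgroup G) Q).subgroupOf (Subgroup.centralizer (Q : Set G))) ∧ (∃ R : Sylow p ↥(Cfsg.autInducedBy ⊤ Q), (R : Subgroup ↥(Cfsg.autInducedBy ⊤ Q)) = (Cfsg.autInducedBy (S : Subgroup G) Q).subgroupOf (Cfsg.autInducedBy ⊤ Q)) := by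
  constructor
  · intro P hP
    obtain ⟨Q, hPQ, hQ⟩ := exists_fullyNormalized_conj (groupFusionSystem (S : Subgroup G)) hP
    obtain ⟨-, hQS, g, rfl⟩ := groupFS_isConj_iff.mp hPQ
    refine ⟨g, hQS, ?_⟩
    have key := fully_iff_isSylowIn S (fun K => Subgroup.normalizer (K : Set G))
      (fun K g => normalizer_cj K g) (fun K => le_rfl) (cj P g) hQS
    exact key.mp hQ.2
  · intro Q _ h
    exact ⟨centralizer_sylow p S Q h, aut_sylow p S Q h⟩

end Cfsg.Agent.S5122
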