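import Cfsg.Statements.S5123
import Cfsg.Agent.Lib.Helper26.FusionGroup

set_option autoImplicit false
open Cfsg

namespace Cfsg.Agent.S5123

open Cfsg.FusionSystem Cfsg.Agent.Lib.Helper26
open scoped Pointwise

theorem normalizer_le_normalizer_centralizer {G : Type*} [Group G] (Q : Subgroup G) :
    Subgroup.normalizer (Q : Set G) ≤
      Subgroup.normalizer ((Subgroup.centralizer (Q : Set G) : Subgroup G) : Set G) := by
  intro n hn
  have key : ∀ m : G, m ∈ Subgroup.normalizer (Q : Set G) → ∀ c : G,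
      c ∈ Subgroup.centralizer (Q : Set G) → m * c * m⁻¹ ∈ Subgroup.centralizer (Q : Set G) := by
    intro m hm c hc
    rw [Subgroup.mem_centralizer_iff]
    intro q hq
    have hq' : m⁻¹ * q * m ∈ Q := (Subgroup.mem_normalizer_iff''.mp hm q).mp hq
    have := hc _ hq'
    calc q * (m * c * m⁻¹) = m * (m⁻¹ * q * m * c) * m⁻¹ := by group
      _ = m * (c * (m⁻¹ * q * m)) * m⁻¹ := by rw [this]
      _ = m * c * m⁻¹ * q := by group
  rw [Subgroup.mem_normalizer_iff]
  intro c
  constructor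
  · exact key n hn c
  · intro h
    have := key n⁻¹ (Subgroup.inv_mem _ hn) _ h
    have e : n⁻¹ * (n * c * n⁻¹) * n⁻¹⁻¹ = c := by group
    rwa [e] at this

theorem result {G : Type*} [Group G] [Finite G] (p : ℕ) [Fact p.Prime] (S : Sylow p G) (P Q : Subgroup G) (hP : P ≤ S) (hQ : Q ≤ S) (g : G) (hg : P.map (MulAut.conj g).toMonoidHom = Q) (hN : (∃ R : Sylow p ↥(Subgroup.normalizer (Q : Set G)), (R : Subgroup ↥(Subgroup.normalizer (Q : Set G))) = (Cfsg.FusionSystem.normalizerIn (S : Subgroup G) Q).subgroupOf (Subgroup.normalizer (Q : Set G)))) : ∃ h ∈ Subgroup.centralizer (Q : Set G), ((Cfsg.FusionSystem.normalizerIn (S : Subgroup G) P) ⊓ (Cfsg.FusionSystem.normalizerIn (S : Subgroup G) Q ⊔ Subgroup.centralizer (Q : Set G)).comap (MulAut.conj g).toMonoidHom).map (MulAut.conj (h * g)).toMonoidHom ≤ S := by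
  have hN' : IsSylowIn p (Subgroup.normalizer (Q : Set G)) (normalizerIn (S : Subgroup G) Q) := hN
  set M : Subgroup G := normalizerIn (S : Subgroup G) Q ⊔ Subgroup.centralizer (Q : Set G) with hM
  set N : Subgroup G := normalizerIn (S : Subgroup G) P ⊓ M.comap (MulAut.conj g).toMonoidHom with hNdef
  have hNSQ_le : normalizerIn (S : Subgroup G) Q ≤ Subgroup.normalizer (Q : Set G) := inf_le_right
  have hMle : M ≤ Subgroup.normalizer (Q : Set G) :=
    sup_le hNSQ_le (centralizer_le_normalizer_aux Q)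
  have hNSQp : IsPGroup p (normalizerIn (S : Subgroup G) Q) := S.isPGroup'.to_le inf_le_left
  have hsylM : IsSylowIn p M (normalizerIn (S : Subgroup G) Q) := by
    refine isSylowIn_of_forall_card_le le_sup_left hNSQp ?_
    intro L hLM hL _
    exact hN'.card_le hNSQ_le (hLM.trans hMle) hL
  have hLM : cj N g ≤ M := by
    rintro _ ⟨x, hx, rfl⟩
    exact hx.2
  have hLp : IsPGroup p (cj N g) :=
    isPGroup_cj (S.isPGroup'.to_le (inf_le_left.trans inf_le_left)) g
  obtain ⟨m, hmM, hm⟩ := hsylM.exists_conj_le hLM hLp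
  have hnorm : normalizerIn (S : Subgroup G) Q ≤
      Subgroup.normalizer ((Subgroup.centralizer (Q : Set G) : Subgroup G) : Set G) :=
    hNSQ_le.trans (normalizer_le_normalizer_centralizer Q)
  have hmem : m ∈ ((normalizerIn (S : Subgroup G) Q : Subgroup G) : Set G) *
      ((Subgroup.centralizer (Q : Set G) : Subgroup G) : Set G) := by
    rw [← Subgroup.coe_mul_of_left_le_normalizer_right _ _ hnorm]
    exact hmM
  obtain ⟨s, hs, c, hc, rfl⟩ := Set.mem_mul.mp hmem
  refine ⟨c, hc, ?_⟩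
  rintro _ ⟨y, hy, rfl⟩
  have hx : g * y * g⁻¹ ∈ cj N g := conj_mem_cj hy
  have h1 := hm _ hx
  have h2 : s⁻¹ * (s * c * (g * y * g⁻¹) * (s * c)⁻¹) * s ∈ normalizerIn (S : Subgroup G) Q :=
    Subgroup.mul_mem _ (Subgroup.mul_mem _ (Subgroup.inv_mem _ hs) h1) hs
  have e : s⁻¹ * (s * c * (g * y * g⁻¹) * (s * c)⁻¹) * s = c * g * y * (c * g)⁻¹ := by group
  rw [e] at h2
  exact h2.1

end Cfsg.Agent.S5123
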