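import Cfsg.Statements.S5076
import Cfsg.Agent.Lib.Helper26.FusionGroup
import Cfsg.Agent.Lib.Helper26.FusionAut
import Cfsg.Agent.Lib.Helper26.FusionFully
import Cfsg.Agent.S5122
import Cfsg.Agent.S5123

set_option autoImplicit false
open Cfsg

namespace Cfsg.Agent.S5076

open Cfsg.FusionSystem Cfsg.Agent.Lib.Helper26

theorem groupFS_autGroup_eq {G : Type*} [Group G] {S : Subgroup G} {Q : Subgroup G} (hQ : Q ≤ S) :
    (groupFusionSystem S).autGroup Q = autInducedBy ⊤ Q := by
  ext α
  rw [mem_autGroup_iff _ hQ, mem_autInducedBy_iff]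
  constructor
  · rintro ⟨-, -, g, hg⟩
    exact ⟨g, Subgroup.mem_top _, hg⟩
  · rintro ⟨g, -, hg⟩
    exact ⟨hQ, fun x => hQ (α x).2, g, hg⟩

theorem result {G : Type*} [Group G] [Finite G] (p : ℕ) [Fact p.Prime] (S : Sylow p G) : (Cfsg.groupFusionSystem (S : Subgroup G)).IsSaturated p := by
  intro P hP
  obtain ⟨Q, hPQ, hQ⟩ := exists_fullyNormalized_conj (groupFusionSystem (S : Subgroup G)) hP
  have hQS : Q ≤ (S : Subgroup G) := hQ.1
  have hsyl : ∃ R : Sylow p ↥(Subgroup.normalizer (Q : Set G)),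
      (R : Subgroup ↥(Subgroup.normalizer (Q : Set G))) =
        (normalizerIn (S : Subgroup G) Q).subgroupOf (Subgroup.normalizer (Q : Set G)) := by
    have key := fully_iff_isSylowIn S (fun K => Subgroup.normalizer (K : Set G))
      (fun K g => normalizer_cj K g) (fun K => le_rfl) Q hQS
    exact key.mp hQ.2
  refine ⟨Q, hPQ, ⟨hQS, ?_⟩, hQS, ?_⟩
  · rw [groupFS_autGroup_eq hQS]
    exact ((Cfsg.Agent.S5122.result p S).2 Q hQS hsyl).2
  · rintro P' φ ⟨hP', hφS, g, hg⟩ hr
    have hφ : φ = conjHom P' g := MonoidHom.ext hg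
    have hcj : P'.map (MulAut.conj g).toMonoidHom = Q := by
      rw [← hr, hφ, range_conjHom]
    obtain ⟨c, hc, hcle⟩ := Cfsg.Agent.S5123.result p S P' Q hP' hQS g hcj hsyl
    have hNle : extender (S : Subgroup G) P' φ ≤
        normalizerIn (S : Subgroup G) P' ⊓
          (normalizerIn (S : Subgroup G) Q ⊔ Subgroup.centralizer (Q : Set G)).comap
            (MulAut.conj g).toMonoidHom := by
      intro x hx
      obtain ⟨hxS, hxN, h, hhS, hxh⟩ := mem_extender_iff.mp hx
      refine ⟨⟨hxS, hxN⟩, ?_⟩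
      show g * x * g⁻¹ ∈ normalizerIn (S : Subgroup G) Q ⊔ Subgroup.centralizer (Q : Set G)
      have hkey : ∀ y : P', g * (x * y * x⁻¹) * g⁻¹ = h * (g * y * g⁻¹) * h⁻¹ := by
        intro y
        have := hxh y
        rw [hg, hg] at this
        exact this
      have hQmem : ∀ z : G, z ∈ Q ↔ g⁻¹ * z * g ∈ P' := by
        intro z
        rw [← hcj]
        exact mem_cj_iff
      have hhN : h ∈ Subgroup.normalizer (Q : Set G) := by
        rw [Subgroup.mem_normalizer_iff]
        have hfor : ∀ z, z ∈ Q → h * z * h⁻¹ ∈ Q := by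
          intro z hz
          have hy : g⁻¹ * z * g ∈ P' := (hQmem z).mp hz
          have := hkey ⟨_, hy⟩
          have e : g * (g⁻¹ * z * g) * g⁻¹ = z := by group
          simp only [e] at this
          rw [← this, hQmem]
          have e2 : g⁻¹ * (g * (x * (g⁻¹ * z * g) * x⁻¹) * g⁻¹) * g = x * (g⁻¹ * z * g) * x⁻¹ := by
            group
          rw [e2]
          exact conj_mem_of_mem_normalizer hxN ⟨_, hy⟩
        intro z
        constructor
        · exact hfor z
        · intro hz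
          have hy : g⁻¹ * (h * z * h⁻¹) * g ∈ P' := (hQmem _).mp hz
          have hy2 := conj_inv_mem_of_mem_normalizer hxN ⟨_, hy⟩
          have := hkey ⟨_, hy2⟩
          have e : g * (x * (x⁻¹ * (g⁻¹ * (h * z * h⁻¹) * g) * x) * x⁻¹) * g⁻¹ = h * z * h⁻¹ := by
            group
          simp only [e] at this
          have e3 : z = g * (x⁻¹ * (g⁻¹ * (h * z * h⁻¹) * g) * x) * g⁻¹ := by
            have := mul_left_cancel (mul_right_cancel this)
            exact this
          rw [e3, hQmem]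
          have e4 : g⁻¹ * (g * (x⁻¹ * (g⁻¹ * (h * z * h⁻¹) * g) * x) * g⁻¹) * g =
              x⁻¹ * (g⁻¹ * (h * z * h⁻¹) * g) * x := by group
          rw [e4]
          exact hy2
      have hcent : h⁻¹ * (g * x * g⁻¹) ∈ Subgroup.centralizer (Q : Set G) := by
        rw [Subgroup.mem_centralizer_iff]
        intro z hz
        have hy : g⁻¹ * z * g ∈ P' := (hQmem z).mp hz
        have := hkey ⟨_, hy⟩
        have e : g * (g⁻¹ * z * g) * g⁻¹ = z := by group
        simp only [e] at this
        calc z * (h⁻¹ * (g * x * g⁻¹)) = h⁻¹ * (h * z * h⁻¹) * (g * x * g⁻¹) := by group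
          _ = h⁻¹ * (g * (x * (g⁻¹ * z * g) * x⁻¹) * g⁻¹) * (g * x * g⁻¹) := by rw [this]
          _ = h⁻¹ * (g * x * g⁻¹) * z := by group
      have : g * x * g⁻¹ = h * (h⁻¹ * (g * x * g⁻¹)) := by group
      rw [this]
      exact Subgroup.mul_mem _ (Subgroup.mem_sup_left ⟨hhS, hhN⟩) (Subgroup.mem_sup_right hcent)
    have hle : cj (extender (S : Subgroup G) P' φ) (c * g) ≤ (S : Subgroup G) :=
      (cj_mono hNle (c * g)).trans hcle
    have hNS : extender (S : Subgroup G) P' φ ≤ (S : Subgroup G) :=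
      (extender_le_normalizerIn _ _ _).trans inf_le_left
    refine ⟨conjHom _ (c * g), groupFS_conjHom_mem hNS (c * g) hle, ?_⟩
    intro x hxP hxN
    show c * g * x * (c * g)⁻¹ = φ ⟨x, hxP⟩
    rw [hg]
    have hz : g * x * g⁻¹ ∈ Q := by
      rw [← hcj]
      exact conj_mem_cj hxP
    have := conj_eq_of_mem_centralizer hc hz
    calc c * g * x * (c * g)⁻¹ = c * (g * x * g⁻¹) * c⁻¹ := by group
      _ = g * x * g⁻¹ := this

end Cfsg.Agent.S5076
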