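import Cfsg.Statements.S1200
import Cfsg.Agent.Lib.Helper9.Wr4

set_option autoImplicit false
open Cfsg

namespace Cfsg.Agent.S1200

open Cfsg.Agent.Lib.Helper9

/-- Let S be a wreathed 2-group of order 2^(2n+1) and Ω the subgroup generated by its involutions. Then Ω has order 2^(n+2) and S/Ω is cyclic: some s ∈ S together with Ω generates S. -/
theorem result {S : Type*} [Group S] [Finite S] (hS : Cfsg.IsWreathed S) (n : ℕ) (hn : Nat.card S = 2 ^ (2 * n + 1)) : Nat.card (Subgroup.closure {x : S | orderOf x = 2}) = 2 ^ (n + 2) ∧ ∃ s : S, Subgroup.closure {x : S | orderOf x = 2} ⊔ Subgroup.zpowers s = ⊤ := by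
  classical
  obtain ⟨D⟩ := exists_wd hS
  have hnD : n = D.n := by
    have h1 := D.card
    rw [hn] at h1
    have h2 := Nat.pow_right_injective (le_refl 2) h1
    omega
  subst hnD
  rw [D.closure_involutions]
  refine ⟨D.card_Om_two, D.A 1 0, ?_⟩
  rw [eq_top_iff]
  intro g _
  have hx : ∀ k : ZMod D.N, D.A k 0 ∈ Subgroup.zpowers (D.A 1 0) := by
    intro k
    have : D.A k 0 = (D.A 1 0) ^ k.val := by
      rw [D.A_pow, ZMod.natCast_zmod_val]
      congr 1 <;> ring
    rw [this]
    exact Subgroup.pow_mem _ (Subgroup.mem_zpowers _) _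
  rcases D.cases g with ⟨i, j, rfl⟩ | ⟨i, j, rfl⟩
  · have : D.A i j = D.A (-j) j * D.A (i + j) 0 := by
      rw [D.A_mul_A]; congr 1 <;> ring
    rw [this]
    apply Subgroup.mul_mem
    · exact Subgroup.mem_sup_left ((D.A_mem_Om _ _ _).mpr (by ring))
    · exact Subgroup.mem_sup_right (hx _)
  · have : D.B i j = D.A (i + j) 0 * D.B (-j) j := by
      rw [D.A_mul_B]; congr 1 <;> ring
    rw [this]
    apply Subgroup.mul_mem
    · exact Subgroup.mem_sup_right (hx _)
    · exact Subgroup.mem_sup_left ((D.B_mem_Om _ _ _).mpr (by ring))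

end Cfsg.Agent.S1200
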