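import Cfsg.Statements.S1202
import Cfsg.Agent.Lib.Helper9.AU4

set_option autoImplicit false
open Cfsg

namespace Cfsg.Agent.S1202

open Cfsg.Agent.Lib.Helper9

/-- Let S be a wreathed 2-group of order 2^(2n+1) and X a subgroup with C_S(X) ≤ X such that Aut(X) is not a 2-group. Then |N_S(X) : X| = 2, and either X is the commutative subgroup of order 2^(2n), or X = Q·Z(S) for some subgroup Q ≅ Q₈; in the latter case any two such subgroups are conjugate in S. -/
theorem result {S : Type*} [Group S] [Finite S] (hS : Cfsg.IsWreathed S) (n : ℕ) (hn : Nat.card S = 2 ^ (2 * n + 1)) (X : Subgroup S) (hC : Subgroup.centralizer (X : Set S) ≤ X) (hA : ¬ IsPGroup 2 (MulAut X)) : X.relIndex (Subgroup.normalizer (X : Set S)) = 2 ∧ ((IsMulCommutative X ∧ Nat.card X = 2 ^ (2 * n)) ∨ ∃ Q : Subgroup S, Nonempty (Q ≃* QuaternionGroup 2) ∧ X = Q ⊔ Subgroup.center S) ∧ ∀ X' : Subgroup S, Subgroup.centralizer (X' : Set S) ≤ X' → ¬ IsPGroup 2 (MulAut X') → ¬ IsMulCommutative X → ¬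 IsMulCommutative X' → ∃ s : S, X.map (MulAut.conj s).toMonoidHom = X' := by
  classical
  obtain ⟨D⟩ := exists_wd hS
  have hnD : n = D.n := by
    have h1 := D.card
    rw [hn] at h1
    have := Nat.pow_right_injective (le_refl 2) h1
    omega
  have hUcomm : IsMulCommutative D.U :=
    ⟨⟨fun a b => Subtype.ext (D.si_U_comm _ _ a.2 b.2)⟩⟩
  by_cases hXU : X ≤ D.U
  · have hXeq : X = D.U := D.au_eq_U_of_le X hC hXU
    have hXc : IsMulCommutative X := by rw [hXeq]; exact hUcomm
    refine ⟨?_, Or.inl ⟨hXc, ?_⟩, ?_⟩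
    · rw [hXeq]
      haveI := D.si_U_normal
      rw [Subgroup.normalizer_eq_top, Subgroup.relIndex_top_right, D.index_U]
    · rw [hXeq, D.card_U, hnD]
    · intro X' _ _ hnc _
      exact absurd hXc hnc
  · obtain ⟨a, b, m, hs, hab, hPu, hP⟩ := D.au_struct X hC hA hXU
    have hZ := WD.au_center_le X hC
    refine ⟨D.au_relIndex X hZ hs hPu hP, Or.inr (D.au_Q X hZ hs hab hPu hP), ?_⟩
    intro X' hC' hA' _ hnc'
    have hXU' : ¬ X' ≤ D.U := by
      intro h
      apply hnc'
      rw [D.au_eq_U_of_le X' hC' h]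
      exact hUcomm
    obtain ⟨a', b', m', hs', hab', hPu', hP'⟩ := D.au_struct X' hC' hA' hXU'
    have hZ' := WD.au_center_le X' hC'
    exact D.au_conj X X' hZ hZ' hs hab hPu hP hs' hab' hPu' hP'

end Cfsg.Agent.S1202
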