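import Cfsg.Statements.S1241
import Cfsg.Agent.Lib.Helper9.Transfer

set_option autoImplicit false
open Cfsg

namespace Cfsg.Agent.S1241

open Cfsg.Agent.Lib.Helper9

/-- Let G be a finite group, p a prime, H a subgroup of index prime to p, K a subgroup of H normal in H with H/K commutative, and g ∈ H ∖ K an element of p-power order such that for all integers m and all a ∈ G with a g^m a⁻¹ ∈ H one has a g^m a⁻¹ ∈ g^m K. Then g ∉ G'. -/
theorem result {G : Type*} [Group G] [Finite G] {p : ℕ} [Fact p.Prime] (H K : Subgroup G) (hHK : K ≤ H) (hKn : (K.subgroupOf H).Normal) (hab : ∀ x ∈ H, ∀ y ∈ H, x * y * x⁻¹ * y⁻¹ ∈ K) (hidx : Nat.Coprime p H.index) (g : G) (hgH : g ∈ H) (hgK : g ∉ K) (hgp : ∃ k : ℕ, orderOf g = p ^ k) (hctrl : ∀ (m : ℤ) (a : G), a * g ^ m * a⁻¹ ∈ H → (a * g ^ m * a⁻¹) * (g ^ m)⁻¹ ∈ K) : g ∉ commutator G := by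
  classical
  haveI := hKn
  letI : CommGroup (H ⧸ K.subgroupOf H) :=
    { (inferInstance : Group (H ⧸ K.subgroupOf H)) with
      mul_comm := by
        intro a b
        induction a using QuotientGroup.induction_on with
        | H x =>
          induction b using QuotientGroup.induction_on with
          | H y =>
            rw [← QuotientGroup.mk_mul, ← QuotientGroup.mk_mul, QuotientGroup.eq,
              Subgroup.mem_subgroupOf]
            have := hab (y : G)⁻¹ (H.inv_mem y.2) (x : G)⁻¹ (H.inv_mem x.2)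
            simpa [mul_assoc] using this }
  let ϕ : H →* (H ⧸ K.subgroupOf H) := QuotientGroup.mk' (K.subgroupOf H)
  have hϕ1 : ∀ x : H, (x : G) ∈ K → ϕ x = 1 := by
    intro x hx
    exact (QuotientGroup.eq_one_iff x).2 (Subgroup.mem_subgroupOf.2 hx)
  have key : ∀ (k : ℕ) (g₀ : G) (h : g₀⁻¹ * g ^ k * g₀ ∈ H),
      ϕ ⟨g₀⁻¹ * g ^ k * g₀, h⟩ = ϕ ⟨g, hgH⟩ ^ k := by
    intro k g₀ h
    have h1 := hctrl (k : ℤ) g₀⁻¹ (by simpa using h)
    simp only [zpow_natCast, inv_inv] at h1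
    have h2 : ϕ (⟨g₀⁻¹ * g ^ k * g₀, h⟩ * (⟨g, hgH⟩ ^ k)⁻¹) = 1 := by
      apply hϕ1
      simpa using h1
    rw [map_mul, map_inv, mul_inv_eq_one, map_pow] at h2
    exact h2
  have htr := transfer_eq_pow_of_ctrl ϕ g hgH key
  apply not_mem_commutator_of_hom_ne_one (MonoidHom.transfer ϕ) g
  rw [htr]
  intro h1
  obtain ⟨k, hk⟩ := hgp
  have hd1 : orderOf (ϕ ⟨g, hgH⟩) ∣ p ^ k := by
    have := orderOf_map_dvd ϕ (⟨g, hgH⟩ : H)
    rw [Subgroup.orderOf_mk, hk] at this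
    exact this
  have hd2 : orderOf (ϕ ⟨g, hgH⟩) ∣ H.index := orderOf_dvd_of_pow_eq_one h1
  have h3 : orderOf (ϕ ⟨g, hgH⟩) = 1 :=
    Nat.eq_one_of_dvd_coprimes (Nat.Coprime.pow_left k hidx) hd1 hd2
  rw [orderOf_eq_one_iff] at h3
  apply hgK
  have := (QuotientGroup.eq_one_iff (⟨g, hgH⟩ : H)).1 h3
  exact Subgroup.mem_subgroupOf.1 this

end Cfsg.Agent.S1241
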