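import Cfsg.Statements.S3116
import Mathlib.GroupTheory.Index
import Mathlib.GroupTheory.OrderOfElement
import Mathlib.Data.Nat.Totient
import Mathlib.FieldTheory.Finite.Basic

set_option autoImplicit false
open Cfsg

namespace Cfsg.Agent.S3116

theorem aut_isPGroup_two {X : Type*} [Group X] [Finite X] (n m : ℕ) (x : X) (hx : orderOf x = 2 ^ n)
    (hcard : Nat.card X = 2 ^ (n + 1)) (hout : ∀ g : X, g ∉ Subgroup.zpowers x → g ^ m = 1) (hxm : x ^ m ≠ 1) :
    IsPGroup 2 (MulAut X) := by
  set C := Subgroup.zpowers x with hC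
  have hn : 1 ≤ n := by
    rcases Nat.eq_zero_or_pos n with h0 | h0
    · exfalso
      rw [h0, pow_zero, orderOf_eq_one_iff] at hx
      rw [hx, one_pow] at hxm
      exact hxm rfl
    · exact h0
  have hidx : C.index = 2 := by
    have := Subgroup.card_mul_index C
    rw [Nat.card_zpowers, hx, hcard, pow_succ] at this
    exact Nat.eq_of_mul_eq_mul_left (pow_pos two_pos n) this
  have hpow : ∀ g ∈ C, ∃ k : ℕ, g = x ^ k := by
    intro g hg
    obtain ⟨k, hk⟩ := (mem_powers_iff_mem_zpowers.mpr hg)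
    exact ⟨k, hk.symm⟩
  have hφx : ∀ φ : MulAut X, φ x ∈ C := by
    intro φ
    by_contra h
    have := hout _ h
    rw [← map_pow] at this
    exact hxm ((map_eq_one_iff φ φ.injective).mp this)
  intro φ
  obtain ⟨i, hi⟩ := hpow _ (hφx φ)
  have hcop : Nat.Coprime i (2 ^ n) := by
    have h1 : orderOf (φ x) = 2 ^ n := by
      rw [← hx]
      exact orderOf_injective φ.toMonoidHom φ.injective x
    rw [hi, orderOf_pow, hx] at h1
    have hg : Nat.gcd (2 ^ n) i ∣ 2 ^ n := Nat.gcd_dvd_left _ _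
    have h2 := Nat.div_mul_cancel hg
    rw [h1] at h2
    have h3 : Nat.gcd (2 ^ n) i = 1 := by
      have hpos : 0 < 2 ^ n := pow_pos two_pos n
      nlinarith [Nat.pos_of_ne_zero (Nat.gcd_ne_zero_left (n := i) hpos.ne')]
    rw [Nat.coprime_comm]
    exact h3
  have hiter : ∀ t : ℕ, (φ ^ t) x = x ^ (i ^ t) := by
    intro t
    induction t with
    | zero => simp
    | succ t ih =>
      rw [pow_succ', MulAut.mul_apply, ih, map_pow, hi, ← pow_mul, ← pow_succ']
  set ψ := φ ^ (2 ^ (n - 1)) with hψ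
  have hψx : ψ x = x := by
    rw [hψ, hiter]
    have h1 : i ^ (2 ^ (n - 1)) ≡ 1 [MOD 2 ^ n] := by
      have := Nat.ModEq.pow_totient hcop
      rwa [Nat.totient_prime_pow Nat.prime_two hn, show 2 - 1 = 1 from rfl, mul_one] at this
    have h2 : x ^ (i ^ (2 ^ (n - 1))) = x ^ 1 := by
      rw [pow_eq_pow_iff_modEq, hx]
      exact h1
    rw [h2, pow_one]
  have hψpow : ∀ k : ℕ, ψ (x ^ k) = x ^ k := by
    intro k
    rw [map_pow, hψx]
  obtain ⟨y, hy⟩ : ∃ y : X, y ∉ C := by
    by_contra hcon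
    push Not at hcon
    have : C = ⊤ := by
      rw [eq_top_iff]
      intro g _
      exact hcon g
    rw [this, Subgroup.index_top] at hidx
    omega
  have hψy : ψ y ∉ C := by
    intro h
    obtain ⟨k, hk⟩ := hpow _ h
    rw [← hψpow k] at hk
    have := ψ.injective hk
    exact hy (this ▸ Subgroup.pow_mem _ (Subgroup.mem_zpowers x) k)
  have hc : y⁻¹ * ψ y ∈ C := by
    rw [Subgroup.mul_mem_iff_of_index_two hidx, inv_mem_iff]
    exact ⟨fun h => absurd h hy, fun h => absurd h hψy⟩
  obtain ⟨k, hk⟩ := hpow _ hc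
  have hψy' : ψ y = y * x ^ k := by
    rw [← hk]; group
  have hiter2 : ∀ t : ℕ, (ψ ^ t) y = y * (x ^ k) ^ t ∧ (ψ ^ t) x = x := by
    intro t
    induction t with
    | zero => simp
    | succ t ih =>
      constructor
      · rw [pow_succ', MulAut.mul_apply, ih.1, map_mul, map_pow, hψpow, hψy', pow_succ']
        group
      · rw [pow_succ', MulAut.mul_apply, ih.2, hψx]
  have hck : (x ^ k) ^ (2 ^ n) = 1 := by
    rw [← pow_mul, mul_comm, pow_mul, ← hx, pow_orderOf_eq_one, one_pow]
  set χ := ψ ^ (2 ^ n) with hχ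
  have hχy : χ y = y := by
    rw [hχ, (hiter2 _).1, hck, mul_one]
  have hχx : χ x = x := (hiter2 _).2
  have hχ1 : χ = 1 := by
    ext g
    rw [MulAut.one_apply]
    by_cases hg : g ∈ C
    · obtain ⟨j, rfl⟩ := hpow _ hg
      rw [map_pow, hχx]
    · have h1 : y⁻¹ * g ∈ C := by
        rw [Subgroup.mul_mem_iff_of_index_two hidx, inv_mem_iff]
        exact ⟨fun h => absurd h hy, fun h => absurd h hg⟩
      obtain ⟨j, hj⟩ := hpow _ h1
      have h2 : g = y * x ^ j := by rw [← hj]; group
      rw [h2, map_mul, map_pow, hχx, hχy]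
  refine ⟨n - 1 + n, ?_⟩
  rw [pow_add, pow_mul]
  exact hχ1

theorem result {X : Type*} [Group X] [Finite X] (h2 : IsPGroup 2 X)
    (h : (∃ n : ℕ, 4 ≤ n ∧ Nonempty (X ≃* DihedralGroup n)) ∨ Cfsg.IsQuasiDihedral X) : IsPGroup 2 (MulAut X) := by
  rcases h with ⟨N, hN, ⟨e⟩⟩ | ⟨n, hn, hcard, x, y, hx, hy, hyx⟩
  · -- dihedral case
    have : Fact (Nat.Prime 2) := ⟨Nat.prime_two⟩
    have hcardX : Nat.card X = 2 * N := by
      rw [Nat.card_congr e.toEquiv, DihedralGroup.nat_card]
    obtain ⟨k, hk⟩ := IsPGroup.iff_card.mp h2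
    rw [hcardX] at hk
    have hk1 : 1 ≤ k := by
      rcases Nat.eq_zero_or_pos k with h0 | h0
      · rw [h0] at hk; omega
      · exact h0
    obtain ⟨n, rfl⟩ : ∃ n, k = n + 1 := ⟨k - 1, by omega⟩
    have hNn : N = 2 ^ n := by
      rw [pow_succ] at hk; omega
    have hx : orderOf (e.symm (DihedralGroup.r 1)) = 2 ^ n := by
      rw [← hNn]
      have := orderOf_injective e.symm.toMonoidHom e.symm.injective (DihedralGroup.r (1 : ZMod N))
      rw [DihedralGroup.orderOf_r_one] at this
      exact this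
    apply aut_isPGroup_two n 2 (e.symm (DihedralGroup.r 1)) hx (by rw [hcardX, hNn, pow_succ, mul_comm])
    · intro g hg
      rcases hd : e g with i | i
      · exfalso
        apply hg
        have : g = e.symm (DihedralGroup.r 1) ^ i.val := by
          rw [← map_pow, DihedralGroup.r_one_pow]
          have hN0 : NeZero N := ⟨by omega⟩
          rw [ZMod.natCast_zmod_val, ← hd, e.symm_apply_apply]
        rw [this]
        exact Subgroup.pow_mem _ (Subgroup.mem_zpowers _) _
      · apply e.injective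
        rw [map_pow, hd, pow_two, DihedralGroup.sr_mul_self, map_one]
    · intro h
      have h1 : orderOf (e.symm (DihedralGroup.r 1)) ∣ 2 := orderOf_dvd_of_pow_eq_one h
      rw [hx, ← hNn] at h1
      have := Nat.le_of_dvd two_pos h1
      omega
  · -- quasi-dihedral case
    set C := Subgroup.zpowers x with hC
    have hidx : C.index = 2 := by
      have := Subgroup.card_mul_index C
      rw [Nat.card_zpowers, hx, hcard, pow_succ] at this
      exact Nat.eq_of_mul_eq_mul_left (pow_pos two_pos n) this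
    have hy2 : y * y = 1 := by
      have := pow_orderOf_eq_one y
      rw [hy, pow_two] at this; exact this
    have hyinv : y⁻¹ = y := inv_eq_of_mul_eq_one_left hy2
    have hpn : 2 ^ n = 2 ^ (n - 1) * 2 := by
      rw [← pow_succ]; congr 1; omega
    have hpn3 : 4 ≤ 2 ^ (n - 1) := by
      have : 2 ^ 2 ≤ 2 ^ (n - 1) := Nat.pow_le_pow_right two_pos (by omega)
      simpa using this
    have hyC : y ∉ C := by
      intro h
      obtain ⟨j, hj⟩ := Subgroup.mem_zpowers_iff.mp h
      have hcomm : y * x = x * y := by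
        rw [← hj]
        exact ((Commute.refl x).zpow_left j).eq
      have h1 : y * x * y⁻¹ = x := by rw [hcomm]; group
      rw [h1] at hyx
      have h2 : x ^ (2 ^ (n - 1) - 1) = x ^ 1 := by rw [← hyx, pow_one]
      rw [pow_eq_pow_iff_modEq, hx] at h2
      have h3 : (2 ^ (n - 1) - 1) % 2 ^ n = 1 % 2 ^ n := h2
      rw [Nat.mod_eq_of_lt (by omega), Nat.mod_eq_of_lt (by omega)] at h3
      omega
    apply aut_isPGroup_two n 4 x hx hcard
    · intro g hg
      have h1 : y⁻¹ * g ∈ C := by
        rw [Subgroup.mul_mem_iff_of_index_two hidx, inv_mem_iff]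
        exact ⟨fun h => absurd h hyC, fun h => absurd h hg⟩
      obtain ⟨j, hj⟩ := (mem_powers_iff_mem_zpowers.mpr h1)
      have hg' : g = y * x ^ j := by
        have hj' : x ^ j = y⁻¹ * g := hj
        rw [hj']; group
      have hconj : y * x ^ j * y⁻¹ = (x ^ (2 ^ (n - 1) - 1)) ^ j := by
        rw [← hyx, conj_pow]
      have hsq : g * g = x ^ (2 ^ (n - 1) * j) := by
        have e1 : g * g = (y * x ^ j * y⁻¹) * (y * y) * x ^ j := by rw [hg']; group
        rw [e1, hconj, hy2, mul_one, ← pow_mul, ← pow_add]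
        congr 1
        have : 2 ^ (n - 1) - 1 + 1 = 2 ^ (n - 1) := by omega
        calc (2 ^ (n - 1) - 1) * j + j = (2 ^ (n - 1) - 1 + 1) * j := by ring
          _ = 2 ^ (n - 1) * j := by rw [this]
      have : g ^ 4 = (g * g) * (g * g) := by
        rw [show 4 = 2 * 2 from rfl, pow_mul, pow_two, pow_two]
      rw [this, hsq, ← pow_add, ← two_mul, ← mul_assoc, mul_comm 2, ← hpn, pow_mul, ← hx,
        pow_orderOf_eq_one, one_pow]
    · intro h
      have h1 : orderOf x ∣ 4 := orderOf_dvd_of_pow_eq_one h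
      rw [hx] at h1
      have := Nat.le_of_dvd (by norm_num) h1
      omega

end Cfsg.Agent.S3116
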