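import Cfsg.Statements.S5111
import Cfsg.Agent.Lib.Helper26.FusionSat3

set_option autoImplicit false
open Cfsg

namespace Cfsg.Agent.S5111

theorem result {Ω : Type*} [Group Ω] {S : Subgroup Ω} [Finite S] (p : ℕ) [Fact p.Prime] (hS : IsPGroup p S) (F : Cfsg.FusionSystem S) : F.IsSaturated p ↔ (F.IsFullyAutomized p S ∧ ∀ P : Subgroup Ω, F.IsFullyNormalized P → F.IsReceptive P) :=
  Cfsg.Agent.Lib.Helper26.saturated_iff_top_automized_fn_receptive hS F

end Cfsg.Agent.S5111
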