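import Cfsg.Statements.S1691

set_option autoImplicit false

namespace Cfsg.Agent.S1691

open Cfsg Cfsg.Spor

/-- The relators of the presentation. -/
abbrev rels : Set (FreeGroup Fi24.Gen) := coxRelators Fi24.edges ∪ {r | r ∈ Fi24.extra}

/-- The image of a generator in the abelianisation. -/
noncomputable def gb (x : Fi24.Gen) : Abelianization Fi24 :=
  Abelianization.of (PresentedGroup.of x)

theorem cox_rel (x y : Fi24.Gen) (hx : x ∈ coxNodes Fi24.edges) (hy : y ∈ coxNodes Fi24.edges) :
    ((PresentedGroup.of x : Fi24) * PresentedGroup.of y) ^ coxLabel Fi24.edges x y = 1 := by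
  have hmem : (FreeGroup.of x * FreeGroup.of y) ^ coxLabel Fi24.edges x y ∈ rels :=
    Or.inl ⟨x, hx, y, hy, rfl⟩
  have := PresentedGroup.one_of_mem hmem
  rw [map_pow, map_mul] at this
  exact this

theorem gb_sq (x : Fi24.Gen) (hx : x ∈ coxNodes Fi24.edges) : gb x * gb x = 1 := by
  have h := cox_rel x x hx hx
  have hl : coxLabel Fi24.edges x x = 1 := if_pos rfl
  rw [hl, pow_one] at h
  rw [gb, ← map_mul, h, map_one]

theorem gb_eq (x y : Fi24.Gen) (hx : x ∈ coxNodes Fi24.edges) (hy : y ∈ coxNodes Fi24.edges)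
    (hl : coxLabel Fi24.edges x y = 3) : gb x = gb y := by
  have h := cox_rel x y hx hy
  rw [hl] at h
  have h2 : (gb x * gb y) ^ 3 = 1 := by
    rw [gb, gb, ← map_mul, ← map_pow, h, map_one]
  have hx2 := gb_sq x hx
  have hy2 := gb_sq y hy
  have e : (gb x * gb y) ^ 3 = gb x * gb y := by
    rw [mul_pow, pow_succ, pow_two, hx2, one_mul, pow_succ, pow_two, hy2, one_mul]
  rw [e] at h2
  calc gb x = gb x * (gb y * gb y) := by rw [hy2, mul_one]
    _ = (gb x * gb y) * gb y := by rw [mul_assoc]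
    _ = gb y := by rw [h2, one_mul]

theorem nodes_all : ∀ x : Fi24.Gen, x ∈ coxNodes Fi24.edges := by
  intro x; cases x <;> decide

theorem gb_all (x : Fi24.Gen) : gb x = gb Fi24.Gen.d := by
  have n := nodes_all
  have e1 : gb Fi24.Gen.l = gb Fi24.Gen.k := gb_eq _ _ (n _) (n _) (by decide)
  have e2 : gb Fi24.Gen.k = gb Fi24.Gen.a := gb_eq _ _ (n _) (n _) (by decide)
  have e3 : gb Fi24.Gen.a = gb Fi24.Gen.b := gb_eq _ _ (n _) (n _) (by decide)
  have e4 : gb Fi24.Gen.b = gb Fi24.Gen.c := gb_eq _ _ (n _) (n _) (by decide)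
  have e5 : gb Fi24.Gen.c = gb Fi24.Gen.d := gb_eq _ _ (n _) (n _) (by decide)
  have e6 : gb Fi24.Gen.d = gb Fi24.Gen.e := gb_eq _ _ (n _) (n _) (by decide)
  have e7 : gb Fi24.Gen.d = gb Fi24.Gen.h := gb_eq _ _ (n _) (n _) (by decide)
  have e8 : gb Fi24.Gen.e = gb Fi24.Gen.f := gb_eq _ _ (n _) (n _) (by decide)
  have e9 : gb Fi24.Gen.f = gb Fi24.Gen.g := gb_eq _ _ (n _) (n _) (by decide)
  have e10 : gb Fi24.Gen.g = gb Fi24.Gen.j := gb_eq _ _ (n _) (n _) (by decide)
  have e11 : gb Fi24.Gen.h = gb Fi24.Gen.i := gb_eq _ _ (n _) (n _) (by decide)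
  cases x
  · rw [e1, e2, e3, e4, e5]
  · rw [e2, e3, e4, e5]
  · rw [e3, e4, e5]
  · rw [e4, e5]
  · rw [e5]
  · rfl
  · rw [← e6]
  · rw [← e8, ← e6]
  · rw [← e9, ← e8, ← e6]
  · rw [← e10, ← e9, ← e8, ← e6]
  · rw [← e7]
  · rw [← e11, ← e7]

/-- The nontrivial element of the group with two elements. -/
def tt : Multiplicative (ZMod 2) := Multiplicative.ofAdd 1

theorem tt_mul : tt * tt = 1 := by decide

/-- The sign homomorphism. -/
noncomputable def sgn : Fi24 →* Multiplicative (ZMod 2) :=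
  PresentedGroup.toGroup (f := fun _ : Fi24.Gen => tt) (by
    intro r hr
    rcases hr with ⟨x, _, y, _, rfl⟩ | hr
    · rw [map_pow, map_mul, FreeGroup.lift_apply_of, FreeGroup.lift_apply_of, tt_mul, one_pow]
    · have hr' : r ∈ Fi24.extra := hr
      rcases List.mem_cons.mp hr' with rfl | hr''
      on_goal 2 => have hr3 := List.mem_singleton.mp hr''; subst hr3
      · simp only [map_mul, map_inv, map_pow, FreeGroup.lift_apply_of]
        decide
      · simp only [map_mul, map_pow, FreeGroup.lift_apply_of]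
        decide)

theorem sgn_of (x : Fi24.Gen) : sgn (PresentedGroup.of x) = tt := by
  rw [sgn, PresentedGroup.toGroup.of]

theorem gb_ne_one : gb Fi24.Gen.d ≠ 1 := by
  intro h
  have h1 : Abelianization.lift sgn (gb Fi24.Gen.d) = tt := by
    rw [gb, Abelianization.lift_apply_of, sgn_of]
  rw [h, map_one] at h1
  exact absurd h1 (by decide)

theorem all_mem (z : Abelianization Fi24) : z = 1 ∨ z = gb Fi24.Gen.d := by
  have hsq : gb Fi24.Gen.d * gb Fi24.Gen.d = 1 := gb_sq _ (nodes_all _)
  let S : Subgroup (Abelianization Fi24) :=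
    { carrier := {z | z = 1 ∨ z = gb Fi24.Gen.d}
      one_mem' := Or.inl rfl
      mul_mem' := by
        rintro a b (rfl | rfl) (rfl | rfl)
        · exact Or.inl (one_mul _)
        · exact Or.inr (one_mul _)
        · exact Or.inr (mul_one _)
        · exact Or.inl hsq
      inv_mem' := by
        rintro a (rfl | rfl)
        · exact Or.inl inv_one
        · exact Or.inr (inv_eq_of_mul_eq_one_right hsq) }
  have hle : Subgroup.closure (Set.range (PresentedGroup.of : Fi24.Gen → Fi24)) ≤
      S.comap Abelianization.of := by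
    rw [Subgroup.closure_le]
    rintro _ ⟨x, rfl⟩
    exact Or.inr (gb_all x)
  rw [PresentedGroup.closure_range_of] at hle
  obtain ⟨w, rfl⟩ := QuotientGroup.mk_surjective z
  exact hle (Subgroup.mem_top w)

/-- The commutator subgroup of the presented group Fi₂₄ has index 2 (the presented group is Fi₂₄′:2 with Fi₂₄′ its derived subgroup). -/
theorem result : (commutator Cfsg.Spor.Fi24).index = 2 := by
  rw [Subgroup.index_eq_card]
  show Nat.card (Abelianization Fi24) = 2
  rw [Nat.card_eq_two_iff]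
  refine ⟨1, gb Fi24.Gen.d, fun h => gb_ne_one h.symm, ?_⟩
  ext z
  simp only [Set.mem_insert_iff, Set.mem_singleton_iff, Set.mem_univ, iff_true]
  exact all_mem z

end Cfsg.Agent.S1691
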