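import Cfsg.Statements.S1059
import Cfsg.Agent.Lib.helper8.ChevOrdFin
import Cfsg.Agent.Lib.helper8.ChevCoxDataG2
import Cfsg.Agent.Lib.helper8.ChevH5

set_option autoImplicit false
open Cfsg

namespace Cfsg.Agent.S1059

/-- `|G₂(q)| = q⁶ (q² - 1)(q⁶ - 1)`. -/
theorem result {F : Type*} [Field F] [Fintype F] {q : ℕ} (hq : Fintype.card F = q) : Nat.card ↥(Cfsg.Lie.chevG2.group F) = q ^ 6 * (q ^ 2 - 1) * (q ^ 6 - 1) := by
  subst hq
  have hD : Cfsg.Lie.chevG2 ∈ [Cfsg.Lie.chevG2, Cfsg.Lie.chevB2, Cfsg.Lie.chevD4, Cfsg.Lie.chevF4,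
      Cfsg.Lie.chevE6, Cfsg.Lie.chevE7, Cfsg.Lie.chevE8] := by simp
  have h := Cfsg.Agent.Lib.helper8.h8order_main (F := F) Cfsg.Lie.chevG2 hD [2, 6]
    (fun q => Cfsg.Agent.Lib.helper8.h8poin_G2 _ q) rfl 1
    (by rw [one_mul]; exact Cfsg.Agent.Lib.helper8.h8H_card_G2)
  rw [one_mul] at h
  rw [h]
  simp only [List.map_cons, List.map_nil, List.prod_cons, List.prod_nil, mul_one]
  have hn : Cfsg.Lie.chevG2.nroots / 2 = 6 := rfl
  rw [hn]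
  simp only [mul_assoc]

end Cfsg.Agent.S1059
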