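import Cfsg.Statements.S1561
import Cfsg.Agent.Lib.Helper12.Golay.Homog

set_option autoImplicit false
open scoped Pointwise
open Cfsg

namespace Cfsg.Agent.S1561

open Cfsg.Agent.Lib.Helper12.Golay

/-- Inverse tables of generators of the stabiliser of the standard dodecad. -/
def stabGens : List (List ℕ) := [[1,18,0,2,12,22,3,11,6,13,23,21,8,4,14,17,16,7,9,10,19,5,20,15],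
  [2,13,6,18,0,15,8,14,16,1,23,22,9,3,21,20,4,7,12,5,11,10,19,17]]

/-- The stabiliser of the standard dodecad in the group of the code. -/
def H₀ : Subgroup (Equiv.Perm GolayPt) :=
  M24 ⊓ MulAction.stabilizer (Equiv.Perm GolayPt) (fs d₀)

theorem stabGens_ok : ∀ T ∈ stabGens, ValidT T ∧ permT T ∈ H₀ := by
  have h : ∀ T ∈ stabGens, okK T = true ∧ actK T d₀ = d₀ := by decide +kernel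
  intro T hT
  obtain ⟨h1, h2⟩ := h T hT
  exact ⟨okK_valid h1, permT_mem_M24' h1, permT_mem_stabilizer_fs (okK_valid h1) (by decide) h2⟩

/-- Representative of the dodecads meeting the standard dodecad in 12 points (1 dodecads). -/
def rep12 : ℕ := 340831

/-- Instructions enumerating the dodecads meeting the standard dodecad in 12 points. -/
def ins12 : List ℕ := []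

/-- Representative of the dodecads meeting the standard dodecad in 8 points (495 dodecads). -/
def rep8 : ℕ := 28637

/-- Instructions enumerating the dodecads meeting the standard dodecad in 8 points. -/
def ins8 : List ℕ := [1,1,1,1,1,1,1,1,2,0,0,2,1,0,0,0,2,1,1,0,2,1,0,2,0,0,0,2,1,0,2,2,0,0,0,0,0,2,1,1,
  1,1,0,2,0,0,2,1,0,0,0,0,2,1,0,2,2,2,0,0,0,0,0,0,2,1,2,1,1,1,0,2,0,0,2,0,0,2,2,0,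
  0,0,0,2,1,1,1,1,0,0,0,0,2,1,1,1,0,0,2,2,0,0,0,2,2,1,0,0,0,0,0,0,0,2,1,1,1,1,1,0,
  2,2,0,0,0,2,1,0,2,2,1,0,0,0,0,0,2,1,1,2,0,0,0,2,0,0,0,2,1,1,1,0,2,1,0,0,0,2,1,0,
  0,0,2,1,1,2,0,0,0,2,1,2,0,0,0,0,0,0,2,1,1,1,0,2,1,2,0,0,2,0,0,0,2,1,0,2,0,0,0,0,
  0,0,2,1,1,1,1,1,2,1,0,0,0,2,2,0,0,0,2,1,2,0,0,0,0,2,1,1,1,2,0,0,2,1,0,0,0,0,2,2,
  2,2,0,0,0,0,0,0,2,1,1,2,1,1,2,0,0,0,0,0,2,1,1,1,0,0,2,0,0,2,1,2,0,0,2,1,0,0,0,0,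
  0,2,1,1,2,2,0,0,0,0,2,0,0,0,0,2,1,1,1,1,1,0,2,2,0,0,0,0,2,1,1,1,0,0,2,1,0,0,0,2,
  1,0,0,0,0,2,1,1,1,1,0,2,0,0,0,2,2,0,0,0,2,2,2,0,0,0,0,0,2,1,1,1,2,1,0,2,2,0,0,0,
  0,2,0,0,0,2,1,1,1,1,1,0,0,2,0,0,0,2,0,0,2,1,2,1,2,0,0,0,0,0,0,0,0,0,0,2,1,1,1,1,
  1,1,0,2,1,0,2,0,0,0,2,1,0,2,2,2,0,0,0,0,0,2,1,1,1,0,2,2,2,0,0,0,0,2,1,2,0,0,0,0,
  2,1,0,0,0,0,2,1,1,1,0,0,2,1,1,2,2,0,0,0,0,0,0,2,1,2,2,0,0,0,2,2,0,0,0,0,0,2,1,1,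
  1,1,1,1,0,2,0,0,2,0,0,2,1,1,0,0,0,0,2,1,0,2,1,2,0,0,2,0,0,0,0,2,1,1,0,2,2,0,0,0,
  2,1,1,1,0,0,2,1,0,2,0,0,0,2,2,2,0,0,0,0,0,0,2,1,1,1,2,2,0,0,0,0,2,1,1,1,0,0,2,2,
  2,0,0,0,0,0,0,2,1,1,1,1,0,0,2,2,0,0,0,0,2,1,0,2,1,2,2,0,0,0,0,0,0,0,0,0,2,1,1,1,
  1,1,1,0,0,0,0,2,1,1,1,0,0,2,1,2,0,0,2,2,0,0,0,0,2,2,1,0,0,0,0,0,2,1,1,2,1,0,0,0,
  0,2,1,1,1,0,2,0,0,0,2,1,0,2,2,0,0,0,0,0,0,2,1,1,1,1,1,0,0,2,0,0,2,2,2,0,0,0,0,2,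
  1,1,2,1,0,0,0,0,0,0,2,2,0,0,0,0,0,0,2,1,2,1,1,1,1,1,1,2,1,0,0,0,0,0,2,1,1,2,0,0,
  0,0,0,0,2,1,1,1,1,1,0,0,0,2,1,0,0,0,0,2,1,1,1,0,0,0,2,2,1,2,0,0,0,0,0,0,0,2,1,1,
  1,2,1,0,2,1,0,0,0,0,2,1,1,0,2,2,0,0,0,0,0,2,1,2,0,0,2,2,0,0,0,0,2,1,1,1,1,1,0,0,
  2,0,0,0,0,2,1,0,2,1,2,0,0,0,0,0,0,0,0,2,1,1,1,1,1,1,1,1,0,0,0,2,0,0,2,1,1,0,2,0,
  0,0,0,2,1,1,1,0,2,1,0,0,0,2,1,0,0,0,0,0,0,2,1,1,2,1,1,0,0,0,0,2,2,1,0,2,1,2,0,0,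
  0,0,0,0,2,1,2,1,0,2,1,0,0,0,0,2,1,1,2,0,0,2,1,0,0,0,2,1,0,2,0,0,0,0,0,0,2,1,1,1,
  1,1,1,0,2,0,0,2,2,2,0,0,0,0,2,1,1,0,0,2,1,0,2,1,0,2,0,0,0,0,0,2,1,0,2,1,0,2,0,0,
  0,0,2,1,1,2,2,0,0,0,2,2,1,2,0,0,2,2]

/-- Representative of the dodecads meeting the standard dodecad in 6 points (1584 dodecads). -/
def rep6 : ℕ := 57274

/-- Instructions enumerating the dodecads meeting the standard dodecad in 6 points. -/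
def ins6 : List ℕ := [1,1,1,1,1,1,1,1,1,2,0,0,2,1,2,0,0,2,1,0,2,1,0,2,0,0,0,0,0,2,1,1,1,0,2,1,0,0,0,2,
  1,1,2,0,0,2,0,0,2,2,2,0,0,0,0,0,2,1,1,1,0,0,2,0,0,2,0,0,0,0,2,1,1,0,2,1,1,1,0,0,
  0,2,1,2,0,0,2,1,1,0,0,2,0,0,0,0,0,2,1,0,2,1,0,0,0,0,0,2,1,1,1,2,1,0,0,0,2,1,2,2,
  0,0,0,2,2,1,0,2,0,0,0,0,0,2,1,1,1,1,0,0,2,2,0,0,0,0,2,1,2,1,0,0,0,2,1,0,0,0,0,0,
  2,1,1,1,2,1,0,0,0,2,2,1,1,0,0,0,0,0,2,1,1,0,2,2,1,0,2,0,0,0,0,2,1,1,0,0,2,1,0,0,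
  0,0,0,2,1,1,2,0,0,2,1,1,1,0,0,2,2,0,0,0,2,1,2,0,0,2,0,0,0,0,2,1,1,0,0,0,0,0,0,0,
  2,1,1,1,2,1,0,2,2,2,0,0,0,0,0,2,1,1,0,0,0,0,2,1,1,1,0,2,0,0,2,0,0,2,1,1,1,0,2,0,
  0,2,0,0,2,0,0,0,0,2,1,1,2,1,1,1,0,0,2,2,0,0,0,2,0,0,0,2,1,1,2,0,0,0,2,1,1,1,0,2,
  0,0,0,2,1,1,0,2,2,1,0,0,0,0,2,1,0,0,0,0,0,0,2,1,1,2,1,0,0,0,2,1,0,2,2,2,1,0,0,0,
  0,0,0,2,1,1,2,1,0,0,0,2,2,1,0,0,0,0,2,1,0,0,0,0,0,0,0,2,1,1,1,1,1,1,0,2,1,0,2,0,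
  0,0,2,1,2,0,0,2,0,0,0,0,0,2,1,1,1,1,0,0,2,1,0,0,0,2,1,1,1,0,2,0,0,2,1,0,2,0,0,0,
  2,0,0,0,2,1,1,1,1,1,0,0,2,1,2,0,0,0,0,0,2,1,1,1,1,0,0,0,2,2,0,0,0,2,0,0,0,2,1,1,
  1,1,1,0,0,0,0,2,0,0,2,1,1,0,0,2,0,0,0,0,0,0,2,1,1,1,1,2,1,0,2,1,1,0,0,0,0,0,2,1,
  2,1,0,0,0,0,0,2,2,1,0,0,0,0,2,1,1,1,1,1,0,0,2,0,0,2,1,2,0,0,0,0,2,2,2,2,0,0,0,0,
  0,2,1,2,1,0,2,1,2,0,0,0,0,0,2,1,2,2,0,0,0,0,0,0,0,2,1,1,1,1,1,0,0,2,0,0,2,1,0,2,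
  1,1,0,0,0,0,0,2,1,1,1,0,2,0,0,2,1,0,2,0,0,0,2,1,1,0,2,2,0,0,0,0,0,0,2,1,1,1,1,0,
  2,0,0,0,2,2,2,1,1,0,0,2,0,0,0,0,0,2,1,1,0,2,1,2,0,0,2,2,1,0,0,0,0,0,0,0,0,0,0,0,
  2,1,1,1,1,1,1,1,2,2,1,0,0,0,0,2,2,0,0,0,0,0,2,1,1,1,2,0,0,2,0,0,0,2,1,1,2,0,0,0,
  2,1,2,2,1,0,0,0,0,2,2,0,0,0,0,0,0,2,1,1,1,1,1,0,0,2,2,2,0,0,0,0,2,1,1,0,0,2,2,1,
  0,2,0,0,0,0,0,2,1,2,1,1,0,0,0,0,2,1,1,0,0,0,0,0,2,1,1,2,0,0,2,1,2,0,0,2,1,2,0,0,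
  2,0,0,0,0,2,1,1,2,1,0,0,0,0,0,0,0,0,2,1,1,1,1,1,0,2,1,0,2,2,2,0,0,0,0,0,2,1,1,1,
  0,2,0,0,2,1,0,0,0,2,0,0,0,2,1,1,1,0,0,0,2,1,2,1,0,0,0,2,1,1,0,2,0,0,0,0,0,0,2,1,
  1,2,0,0,2,1,2,1,0,0,0,2,0,0,0,2,1,1,2,0,0,0,2,2,1,1,0,0,0,0,0,0,0,2,1,1,1,1,1,0,
  0,0,2,1,0,2,1,0,0,0,0,2,1,1,1,0,0,2,1,0,0,0,2,1,2,1,0,0,0,0,0,0,2,1,1,1,1,2,0,0,
  2,1,0,0,0,2,1,1,0,0,2,2,0,0,0,0,0,2,1,0,2,1,0,0,0,0,0,0,0,2,1,1,1,2,1,1,0,0,0,0,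
  2,1,1,2,0,0,2,1,1,2,1,0,0,0,2,0,0,2,0,0,0,2,1,1,1,0,2,2,0,0,0,0,0,0,0,2,1,1,1,1,
  2,1,0,0,0,2,0,0,0,2,1,1,1,1,0,2,0,0,0,0,2,1,0,2,2,0,0,0,0,0,2,1,1,1,2,1,0,0,0,0,
  2,1,1,1,0,2,0,0,2,1,0,2,1,0,0,0,0,0,0,2,1,2,1,0,2,1,0,0,0,0,0,0,0,0,2,1,1,1,1,1,
  1,0,0,0,2,2,2,2,0,0,0,0,0,0,0,2,1,1,0,2,1,1,0,0,2,1,2,2,0,0,0,2,1,0,2,0,0,0,0,0,
  2,1,2,1,0,2,0,0,0,0,0,0,0,0,0,2,1,1,1,1,1,1,1,1,2,0,0,2,1,0,2,2,0,0,0,0,2,1,1,0,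
  0,2,2,0,0,0,0,2,1,1,2,0,0,0,0,0,2,1,1,1,2,0,0,2,1,0,2,0,0,0,2,1,1,1,0,0,0,2,0,0,
  0,2,2,1,1,1,1,0,0,0,0,0,0,0,0,2,1,1,1,1,2,0,0,0,2,2,0,0,0,2,2,1,2,0,0,0,0,0,2,1,
  1,1,1,0,0,2,1,0,2,0,0,0,2,2,2,1,0,0,0,0,0,2,1,1,1,0,2,1,0,0,0,2,1,0,0,0,0,0,0,0,
  2,1,1,2,1,1,2,0,0,2,0,0,2,2,2,2,0,0,0,0,0,0,2,1,1,1,0,2,1,0,0,0,2,2,2,0,0,0,0,2,
  1,0,0,0,0,2,1,1,2,1,2,2,0,0,0,2,0,0,0,2,1,1,1,0,2,0,0,2,1,2,0,0,2,2,0,0,0,0,2,1,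
  1,1,0,0,0,2,2,2,0,0,0,0,0,0,2,1,1,1,1,2,0,0,2,0,0,0,2,2,2,0,0,0,0,2,1,1,1,1,0,0,
  2,0,0,2,0,0,0,0,0,0,0,2,1,1,1,1,1,1,0,2,1,0,0,0,2,1,1,0,2,1,0,2,2,0,0,0,0,2,0,0,
  0,2,1,1,1,1,0,2,0,0,2,1,0,2,0,0,0,0,2,0,0,0,2,1,1,0,0,2,1,1,1,2,0,0,0,2,0,0,2,1,
  2,2,0,0,0,2,2,1,0,0,0,0,0,0,0,0,2,1,1,1,1,1,1,2,0,0,0,2,2,2,0,0,0,0,2,1,0,2,1,0,
  2,0,0,0,0,2,1,2,2,0,0,0,2,1,1,0,0,2,1,0,0,0,0,0,2,1,1,1,0,0,2,2,2,0,0,0,0,2,1,2,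
  1,0,2,0,0,0,2,1,1,0,0,2,0,0,0,0,0,2,2,2,1,1,0,0,0,0,0,0,0,0,2,1,1,1,1,1,1,1,0,0,
  0,2,2,1,1,0,2,0,0,0,0,0,2,1,1,1,1,0,2,1,1,0,0,0,0,2,1,1,0,2,0,0,2,0,0,0,0,2,2,1,
  2,1,0,0,0,0,0,0,0,2,1,1,2,1,0,2,1,1,0,0,2,0,0,0,0,2,1,1,2,0,0,0,2,1,1,0,0,0,0,0,
  2,2,1,1,1,0,2,2,0,0,0,0,2,1,1,0,2,1,0,0,0,2,1,1,0,2,0,0,0,0,0,0,0,0,2,1,1,1,2,1,
  1,2,0,0,0,2,1,1,0,0,2,0,0,0,0,2,2,1,0,0,0,0,2,1,1,2,1,0,0,0,2,1,1,1,0,0,0,0,0,2,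
  1,1,2,0,0,2,0,0,2,2,0,0,0,0,0,2,1,1,1,2,1,0,2,1,2,0,0,0,0,0,0,0,2,1,1,2,1,0,0,0,
  2,1,2,0,0,0,0,2,1,0,2,0,0,0,0,0,0,2,1,1,1,1,1,1,0,2,1,0,2,1,1,0,0,0,0,0,2,1,2,0,
  0,2,1,0,2,0,0,0,0,2,1,1,1,0,2,0,0,2,1,0,0,0,0,0,2,1,0,2,2,1,2,0,0,0,0,0,0,2,1,1,
  1,1,2,0,0,0,2,1,2,1,0,0,0,2,2,0,0,0,0,2,1,2,2,0,0,0,2,1,2,2,0,0,0,2,2,2,0,0,0,0,
  0,0,2,1,1,1,1,0,0,2,2,0,0,0,2,0,0,2,1,1,0,2,1,0,0,0,2,2,0,0,0,0,0,0,2,1,1,2,1,1,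
  1,1,0,0,2,0,0,2,0,0,2,0,0,0,2,1,1,1,1,0,0,0,2,1,1,0,2,1,0,0,0,2,2,0,0,0,0,2,1,1,
  1,2,0,0,2,0,0,0,0,0,0,2,1,1,1,0,0,2,1,0,2,1,1,2,0,0,0,0,0,0,0,0,0,0,0,0,2,1,1,1,
  1,1,1,1,2,2,0,0,0,2,1,1,0,2,1,0,2,0,0,0,2,1,1,1,1,0,0,0,0,2,1,1,0,0,0,0,0,0,2,1,
  1,1,2,0,0,2,1,1,0,0,0,0,2,2,2,1,0,0,0,0,0,2,1,1,0,2,1,1,0,0,2,0,0,0,2,1,0,0,0,0,
  0,2,1,1,1,1,0,2,0,0,2,1,0,0,0,2,1,1,2,0,0,2,0,0,0,0,2,1,1,1,0,0,2,1,2,0,0,0,0,2,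
  2,2,0,0,0,0,0,0,2,1,1,1,1,1,2,2,0,0,0,2,0,0,2,1,1,0,0,0,0,2,1,1,0,0,2,1,2,0,0,0,
  0,0,2,1,1,1,1,0,2,0,0,0,2,2,2,0,0,0,0,2,1,2,2,0,0,0,2,1,2,0,0,2,2,1,0,0,0,0,0,0,
  0,0,0,2,1,1,1,1,2,0,0,2,1,1,0,2,0,0,0,0,2,1,1,1,1,0,2,0,0,2,1,0,0,0,2,1,2,0,0,2,
  1,0,0,0,0,2,1,1,2,1,0,0,0,0,2,1,1,0,2,0,0,2,0,0,0,0,0,2,1,1,1,0,2,2,0,0,0,0,2,1,
  1,2,1,0,0,0,0,2,1,2,1,0,2,0,0,0,2,0,0,0,0,0,2,1,1,1,1,1,0,2,2,0,0,0,2,1,0,0,0,2,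
  2,1,0,0,0,0,2,1,1,1,0,2,2,0,0,0,0,2,1,2,1,0,2,0,0,0,2,0,0,0,0,2,1,1,1,2,0,0,2,1,
  0,2,0,0,0,2,1,0,2,1,0,2,1,0,0,0,0,0,2,2,0,0,0,0,0,0,2,1,1,1,1,2,2,2,0,0,0,0,2,1,
  1,1,1,0,2,1,0,0,0,2,0,0,0,2,1,2,1,0,0,0,2,0,0,0,0,2,1,1,1,1,2,2,0,0,0,2,0,0,2,0,
  0,2,0,0,2,1,2,1,1,0,0,2,0,0,0,2,2,1,0,0,0,0,0,0,2,1,1,2,1,0,2,0,0,0,0,2,2,1,1,1,
  0,0,2,1,2,0,0,2,1,0,2,0,0,0,0,0,0,0,0,2,1,1,2,2,1,1,2,0,0,0,0,0,0,2,1,1,1,2,0,0,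
  2,1,2,0,0,0,0,2,1,2,1,0,2,0,0,0,2,2,2,1,0,0,0,0,0,0,2,2,1,1,1,0,2,0,0,2,1,1,0,0,
  0,0,2,1,1,0,2,2,0,0,0,2,0,0,0,0,0,0,2,1,1,1,1,1,1,0,0,0,2,1,2,0,0,0,0,0,2,1,1,1,
  2,1,0,0,0,2,1,1,0,0,2,0,0,0,2,2,0,0,0,0,0,2,1,2,2,1,0,2,1,2,0,0,2,0,0,0,0,0,2,1,
  1,2,0,0,2,0,0,0,0,0,0,0,0,2,1,1,1,1,1,1,2,1,1,0,0,2,0,0,0,0,2,1,1,1,0,2,1,0,0,0,
  0,0,0,0,2,1,1,1,1,0,2,0,0,2,1,0,0,0,2,2,1,2,0,0,2,2,0,0,0,0,0,2,0,0,0,2,2,1,1,1,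
  1,1,2,0,0,2,1,0,0,0,2,2,2,0,0,0,0,0,0,2,1,1,1,1,1,0,2,2,0,0,0,2,0,0,0,2,1,1,1,1,
  0,0,2,0,0,2,0,0,2,1,1,0,0,0,0,0,2,0,0,0,0,0,2,1,1,1,1,1,2,1,0,2,0,0,0,2,1,2,1,2,
  0,0,0,0,0,0,2,1,1,1,0,2,2,0,0,0,2,1,0,2,0,0,0,2,2,1,1,1,0,2,0,0,0,2,2,0,0,0,0,0,
  0,2,1,1,0,2,1,1,2,0,0,2,0,0,2,0,0,0,0,0,2,1,1,1,2,2,0,0,0,2,2,1,1,2,2,0,0,0,0,2,
  2,2,0,0,0,0,0,0,2,1,1,1,1,0,2,0,0,2,0,0,2,0,0,2,1,1,1,2,1,0,0,0,2,0,0,2,0,0,2,2,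
  0,0,0,0,0,2,1,2,2,2,1,0,0,0,0,0,2,1,1,1,1,0,0,0,0,2,0,0,0,0,0,2,1,1,1,2,1,1,0,0,
  2,2,0,0,0,0,2,1,2,2,0,0,0,2,1,0,2,1,2,2,0,0,0,2,0,0,0,0,0,2,1,1,1,1,0,2,1,0,0,0,
  2,2,1,0,2,0,0,0,0,0,2,1,1,2,2,0,0,0,2,1,1,1,0,0,0,2,1,1,0,0,0,0,0,2,1,0,2,1,0,0,
  0,0,0,0,2,1,1,1,1,0,2,0,0,2,1,2,1,0,0,0,2,2,2,0,0,0,0,0,2,1,1,1,0,0,2,1]

/-- Representative of the dodecads meeting the standard dodecad in 4 points (495 dodecads). -/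
def rep4 : ℕ := 1035448

/-- Instructions enumerating the dodecads meeting the standard dodecad in 4 points. -/
def ins4 : List ℕ := [1,1,1,1,1,1,1,1,1,1,0,0,0,2,0,0,2,2,1,0,2,0,0,0,0,2,1,1,0,2,1,0,0,0,0,0,2,1,1,2,
  1,1,1,0,0,0,0,0,2,1,1,1,0,0,2,1,0,0,0,2,1,1,2,0,0,0,2,1,0,0,0,0,0,2,2,1,0,2,1,0,
  2,0,0,0,0,0,0,2,1,1,1,1,2,2,0,0,0,2,1,0,0,0,2,2,0,0,0,2,1,1,2,0,0,0,2,1,1,0,0,2,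
  0,0,0,0,2,1,1,0,0,2,1,0,2,2,1,1,1,0,0,0,0,0,0,0,0,0,2,1,1,1,2,1,1,1,0,2,0,0,0,2,
  1,1,1,0,2,0,0,0,0,0,0,2,1,1,1,1,0,0,2,1,1,0,0,0,0,2,1,0,0,0,2,1,2,0,0,2,2,1,0,0,
  0,0,0,0,2,1,1,1,0,2,2,1,0,0,0,0,2,1,1,0,2,0,0,2,1,0,2,0,0,0,0,2,1,1,1,1,2,0,0,0,
  0,2,1,0,2,2,2,0,0,0,0,0,2,1,0,2,0,0,0,0,0,2,1,1,1,1,1,1,2,0,0,0,2,0,0,0,0,0,2,1,
  1,1,2,2,1,0,2,0,0,0,0,2,2,0,0,0,2,1,0,2,1,0,0,0,0,0,0,0,0,2,1,1,1,1,1,1,1,0,2,2,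
  0,0,0,2,1,1,0,0,2,0,0,0,2,1,2,2,2,0,0,0,0,0,0,2,1,1,1,1,0,2,0,0,0,0,2,0,0,0,2,2,
  1,1,0,0,2,1,1,2,0,0,0,2,1,1,1,0,0,0,2,0,0,0,0,0,0,2,1,1,1,2,0,0,2,1,0,0,0,2,1,1,
  1,1,1,0,0,0,2,1,0,0,0,2,1,1,0,2,0,0,0,0,2,2,2,0,0,0,0,0,2,1,1,2,1,2,2,0,0,0,0,0,
  2,1,2,2,0,0,0,2,2,0,0,0,0,2,2,0,0,0,0,0,2,1,1,1,1,0,2,0,0,2,1,2,0,0,2,1,0,2,1,1,
  0,0,0,0,0,0,2,1,1,1,1,2,1,0,0,0,0,2,2,0,0,0,2,1,2,0,0,2,1,0,2,1,0,2,1,0,0,0,0,0,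
  0,2,1,1,2,2,0,0,0,2,1,2,0,0,2,1,0,0,0,0,2,1,2,1,0,0,0,0,0,0,0,2,1,1,1,1,1,2,0,0,
  2,0,0,2,2,0,0,0,2,1,1,2,0,0,2,2,0,0,0,0,0,2,1,1,1,2,0,0,0,2,1,0,2,2,0,0,0,0,2,2,
  1,1,0,2,0,0,0,0,0,0,2,1,1,0,2,1,1,2,2,0,0,0,2,0,0,0,0,2,1,1,0,0,0,0,0,0,0,0,2,1,
  1,1,1,1,1,2,1,0,0,0,2,1,2,0,0,2,0,0,0,2,1,1,0,2,1,0,2,1,0,0,0,0,2,1,0,2,1,0,0,0,
  0,0,2,1,1,1,1,1,2,0,0,0,0,0,2,1,0,0,0,2,1,1,1,2,0,0,2,1,0,2,0,0,0,2,2,0,0,0,2,1,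
  2,1,0,0,0,2,0,0,0,0,0,2,1,2,2,2,1,0,0,0,0,0,2,1,2,0,0,2,2,2,1,0,0,0,0,0,0,0,2,1,
  1,1,1,1,1,0,0,2,1,0,0,0,2,1,1,1,0,0,0,0,0,2,0,0,2,1,1,1,0,0,0,2,1,2,0,0,2,2,1,0,
  2,0,0,0,0,0,0,2,1,1,1,2,0,0,2,2,0,0,0,2,1,1,2,2,0,0,0,2,1,0,0,0,2,2,0,0,0,0,2,1,
  1,1,1,0,2,1,0,0,0,0,2,1,1,0,0,0,0,2,2,1,1,0,0,0,0,0,0,0,0,2,1,2,1,1,1,1,1,0,2,1,
  0,0,0,2,1,0,0,0,2,1,1,0,2,1,0,2,0,0,0,2,2,0,0,0,0,2,1,1,1,0,0,0,2,2,0,0,0,0,2,1,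
  1,1,1,0,2,0,0,2,2,0,0,0,0,0,0,0,2,2,1,1,1,0,2,2,0,0,0,2,1,1,1,0,2,1,0,0,0,2,1,0,
  0,0,0,0,2,1,1,2,1,2,1,0,0,0,0,0,2,2,1]

/-- Representative of the dodecads meeting the standard dodecad in 0 points (1 dodecads). -/
def rep0 : ℕ := 16436384

/-- Instructions enumerating the dodecads meeting the standard dodecad in 0 points. -/
def ins0 : List ℕ := []

theorem check12 : complK 12 (fun m => Nat.beq (popcF (Nat.land d₀ m)) 12)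
    (keysetK (orbK stabGens ins12 rep12) 0) = true := by decide +kernel

theorem class12 (S : Finset GolayPt) (hS : S ∈ dodecads) (hc : (fs d₀ ∩ S).card = 12) :
    ∃ g ∈ H₀, g • fs rep12 = S :=
  orbit_complete H₀ inf_le_left stabGens stabGens_ok ins12 rep12 (by decide) (by decide +kernel) 12
    _ check12 S hS (by rw [card_fs_inter (by decide)] at hc; exact natBeq_iff.mpr hc)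

theorem check8 : complK 12 (fun m => Nat.beq (popcF (Nat.land d₀ m)) 8)
    (keysetK (orbK stabGens ins8 rep8) 0) = true := by decide +kernel

theorem class8 (S : Finset GolayPt) (hS : S ∈ dodecads) (hc : (fs d₀ ∩ S).card = 8) :
    ∃ g ∈ H₀, g • fs rep8 = S :=
  orbit_complete H₀ inf_le_left stabGens stabGens_ok ins8 rep8 (by decide) (by decide +kernel) 12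
    _ check8 S hS (by rw [card_fs_inter (by decide)] at hc; exact natBeq_iff.mpr hc)

theorem check6 : complK 12 (fun m => Nat.beq (popcF (Nat.land d₀ m)) 6)
    (keysetK (orbK stabGens ins6 rep6) 0) = true := by decide +kernel

theorem class6 (S : Finset GolayPt) (hS : S ∈ dodecads) (hc : (fs d₀ ∩ S).card = 6) :
    ∃ g ∈ H₀, g • fs rep6 = S :=
  orbit_complete H₀ inf_le_left stabGens stabGens_ok ins6 rep6 (by decide) (by decide +kernel) 12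
    _ check6 S hS (by rw [card_fs_inter (by decide)] at hc; exact natBeq_iff.mpr hc)

theorem check4 : complK 12 (fun m => Nat.beq (popcF (Nat.land d₀ m)) 4)
    (keysetK (orbK stabGens ins4 rep4) 0) = true := by decide +kernel

theorem class4 (S : Finset GolayPt) (hS : S ∈ dodecads) (hc : (fs d₀ ∩ S).card = 4) :
    ∃ g ∈ H₀, g • fs rep4 = S :=
  orbit_complete H₀ inf_le_left stabGens stabGens_ok ins4 rep4 (by decide) (by decide +kernel) 12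
    _ check4 S hS (by rw [card_fs_inter (by decide)] at hc; exact natBeq_iff.mpr hc)

theorem check0 : complK 12 (fun m => Nat.beq (popcF (Nat.land d₀ m)) 0)
    (keysetK (orbK stabGens ins0 rep0) 0) = true := by decide +kernel

theorem class0 (S : Finset GolayPt) (hS : S ∈ dodecads) (hc : (fs d₀ ∩ S).card = 0) :
    ∃ g ∈ H₀, g • fs rep0 = S :=
  orbit_complete H₀ inf_le_left stabGens stabGens_ok ins0 rep0 (by decide) (by decide +kernel) 12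
    _ check0 S hS (by rw [card_fs_inter (by decide)] at hc; exact natBeq_iff.mpr hc)

theorem inter_cases : allK 4096 (fun u => !(Nat.beq (popcF (encF u)) 12) ||
    (Nat.beq (popcF (Nat.land d₀ (encF u))) 12 ||
     Nat.beq (popcF (Nat.land d₀ (encF u))) 8 ||
     Nat.beq (popcF (Nat.land d₀ (encF u))) 6 ||
     Nat.beq (popcF (Nat.land d₀ (encF u))) 4 ||
     Nat.beq (popcF (Nat.land d₀ (encF u))) 0)) = true := by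
  decide +kernel

theorem inter_card (S : Finset GolayPt) (hS : S ∈ dodecads) :
    (fs d₀ ∩ S).card = 12 ∨ (fs d₀ ∩ S).card = 8 ∨ (fs d₀ ∩ S).card = 6 ∨ (fs d₀ ∩ S).card = 4 ∨ (fs d₀ ∩ S).card = 0 := by
  rw [card_fs_inter (by decide)]
  obtain ⟨hc, hw⟩ := (mem_dodecads_iff S).mp hS
  obtain ⟨u, hu, hue⟩ := isCode_iff.mp hc
  have h := allK_spec inter_cases u hu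
  rw [encF_eq hu, hue, popcF_eq (mask_lt S), hw] at h
  simpa [Nat.beq_refl, natBeq_iff, or_assoc] using h

/-- The representative attached to an intersection size. -/
def rep (c : ℕ) : Finset GolayPt :=
  if c = 12 then fs rep12 else if c = 8 then fs rep8 else if c = 6 then fs rep6 else if c = 4 then fs rep4 else fs rep0

theorem base (b : Finset GolayPt) (hb : b ∈ dodecads) :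
    ∃ g : H₀, g • rep ((fs d₀ ∩ b).card) = b := by
  rcases inter_card b hb with h | h | h | h | h
  · obtain ⟨g, hg, hgb⟩ := class12 b hb h
    exact ⟨⟨g, hg⟩, by rw [h]; exact hgb⟩
  · obtain ⟨g, hg, hgb⟩ := class8 b hb h
    exact ⟨⟨g, hg⟩, by rw [h]; exact hgb⟩
  · obtain ⟨g, hg, hgb⟩ := class6 b hb h
    exact ⟨⟨g, hg⟩, by rw [h]; exact hgb⟩
  · obtain ⟨g, hg, hgb⟩ := class4 b hb h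
    exact ⟨⟨g, hg⟩, by rw [h]; exact hgb⟩
  · obtain ⟨g, hg, hgb⟩ := class0 b hb h
    exact ⟨⟨g, hg⟩, by rw [h]; exact hgb⟩

/-- Two dodecads meeting a fixed dodecad in equally many points lie in one orbit of its stabiliser. -/
theorem result (d d' d'' : Finset Cfsg.GolayPt) (hd : d ∈ Cfsg.dodecads) (hd' : d' ∈ Cfsg.dodecads) (hd'' : d'' ∈ Cfsg.dodecads) (h : (d ∩ d').card = (d ∩ d'').card) : ∃ g : Equiv.Perm Cfsg.GolayPt, g ∈ Cfsg.M24 ∧ g • d = d ∧ g • d' = d'' := by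
  have key := homogeneous_of_base (G := M24) (A := Finset GolayPt) (B := Finset GolayPt)
    (fs d₀) dodecads (fun g b hb => smul_mem_dodecads g.2 hb) (fun a b => (a ∩ b).card)
    (fun g a b => card_smul_inter (g : Equiv.Perm GolayPt) a b)
    (by
      intro b hb b' hb' hbb'
      obtain ⟨g, hg⟩ := conj_of_reps (G := H₀) dodecads (fun b => (fs d₀ ∩ b).card) rep base b b' hb hb' hbb'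
      exact ⟨⟨g.1, g.2.1⟩, g.2.2, hg⟩)
    d (by obtain ⟨g, hg, hgo⟩ := dodecads_transitive d hd; exact ⟨⟨g, hg⟩, hgo⟩) d' d'' hd' hd'' h
  obtain ⟨g, hg1, hg2⟩ := key
  exact ⟨g.1, g.2, hg1, hg2⟩

end Cfsg.Agent.S1561
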