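import Cfsg.Statements.S1560
import Cfsg.Agent.Lib.Helper12.Golay.Count
import Cfsg.Agent.S1561

set_option autoImplicit false
open scoped Pointwise
open Cfsg

namespace Cfsg.Agent.S1560

open Cfsg.Agent.Lib.Helper12.Golay

theorem count_base (c n : ℕ)
    (h : countK 4096 (fun u => Nat.beq (popcF (encF u)) 12 &&
      Nat.beq (popcF (Nat.land d₀ (encF u))) c) = n) :
    {d' : Finset GolayPt | d' ∈ dodecads ∧ (fs d₀ ∩ d').card = c}.ncard = n := by
  rw [← h]
  apply ncard_wordsOfWeightK 12 (fun s => (fs d₀ ∩ s).card = c)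
    (fun m => Nat.beq (popcF (Nat.land d₀ m)) c)
  intro m hm
  rw [card_fs_inter (by decide), mask_fs hm, natBeq_iff]

theorem count4 : {d' : Finset GolayPt | d' ∈ dodecads ∧ (fs d₀ ∩ d').card = 4}.ncard = 495 :=
  count_base 4 495 (by decide +kernel)

theorem count6 : {d' : Finset GolayPt | d' ∈ dodecads ∧ (fs d₀ ∩ d').card = 6}.ncard = 1584 :=
  count_base 6 1584 (by decide +kernel)

theorem count8 : {d' : Finset GolayPt | d' ∈ dodecads ∧ (fs d₀ ∩ d').card = 8}.ncard = 495 :=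
  count_base 8 495 (by decide +kernel)

theorem count_general (d : Finset GolayPt) (hd : d ∈ dodecads) (c : ℕ) :
    {d' : Finset GolayPt | d' ∈ dodecads ∧ (d ∩ d').card = c}.ncard =
      {d' : Finset GolayPt | d' ∈ dodecads ∧ (fs d₀ ∩ d').card = c}.ncard := by
  obtain ⟨g, hg, rfl⟩ := dodecads_transitive d hd
  exact ncard_invariant (G := M24) (A := Finset GolayPt) (B := Finset GolayPt) dodecads
    (fun g b hb => smul_mem_dodecads g.2 hb) (fun a b => (a ∩ b).card)
    (fun g a b => card_smul_inter (g : Equiv.Perm GolayPt) a b) (fun n => n = c) ⟨g, hg⟩ (fs d₀)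

/-- Intersection sizes of dodecads, and how many dodecads meet a given one in 4, 6 or 8 points. -/
theorem result (d : Finset Cfsg.GolayPt) (hd : d ∈ Cfsg.dodecads) : (∀ d' ∈ Cfsg.dodecads, d' ≠ d → (d ∩ d').card = 0 ∨ (d ∩ d').card = 4 ∨ (d ∩ d').card = 6 ∨ (d ∩ d').card = 8) ∧ {d' : Finset Cfsg.GolayPt | d' ∈ Cfsg.dodecads ∧ (d ∩ d').card = 4}.ncard = 495 ∧ {d' : Finset Cfsg.GolayPt | d' ∈ Cfsg.dodecads ∧ (d ∩ d').card = 6}.ncard = 1584 ∧ {d' : Finset Cfsg.GolayPt | d' ∈ Cfsg.dodecads ∧ (d ∩ d').card = 8}.ncard = 495 := by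
  refine ⟨?_, ?_, ?_, ?_⟩
  · intro d' hd' hne
    obtain ⟨g, hg, rfl⟩ := dodecads_transitive d hd
    have h1 : (g • fs d₀ ∩ d').card = (fs d₀ ∩ g⁻¹ • d').card := by
      conv_lhs => rw [← smul_inv_smul g d']
      exact card_smul_inter g _ _
    have hd'' : g⁻¹ • d' ∈ dodecads := smul_mem_dodecads (M24.inv_mem hg) hd'
    rw [h1]
    rcases Cfsg.Agent.S1561.inter_card _ hd'' with h | h | h | h | h
    · exfalso
      apply hne
      have hc1 : (fs d₀).card = 12 := by rw [card_fs]; decide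
      have hc2 : (g⁻¹ • d').card = 12 := hd''.2
      have hsub : fs d₀ ∩ g⁻¹ • d' = fs d₀ :=
        Finset.eq_of_subset_of_card_le Finset.inter_subset_left (by rw [h, hc1])
      have hsub2 : fs d₀ ∩ g⁻¹ • d' = g⁻¹ • d' :=
        Finset.eq_of_subset_of_card_le Finset.inter_subset_right (by rw [h, hc2])
      have : fs d₀ = g⁻¹ • d' := hsub.symm.trans hsub2
      rw [this, smul_inv_smul]
    · exact Or.inr (Or.inr (Or.inr h))
    · exact Or.inr (Or.inr (Or.inl h))
    · exact Or.inr (Or.inl h)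
    · exact Or.inl h
  · rw [count_general d hd, count4]
  · rw [count_general d hd, count6]
  · rw [count_general d hd, count8]

end Cfsg.Agent.S1560
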