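import Cfsg.Statements.S1639
import Cfsg.Agent.Lib.Helper12.Golay.Flags2

set_option autoImplicit false
open scoped Pointwise
open Cfsg

namespace Cfsg.Agent.S1639

open Cfsg.Agent.Lib.Helper12.Golay

/-- The stabiliser of the standard dodecad in the group of the code. -/
def stabD : Subgroup (Equiv.Perm GolayPt) :=
  M24 ⊓ MulAction.stabilizer (Equiv.Perm GolayPt) (fs d₀)

/-- The stabiliser of the standard dodecad and of its point `0`. -/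
def stabD0 : Subgroup (Equiv.Perm GolayPt) :=
  stabD ⊓ MulAction.stabilizer (Equiv.Perm GolayPt) (pt 0)

/-- Inverse tables of generators of `stabD`. -/
def stabDGens : List (List ℕ) := [[1,18,0,2,12,22,3,11,6,13,23,21,8,4,14,17,16,7,9,10,19,5,20,15],
  [2,13,6,18,0,15,8,14,16,1,23,22,9,3,21,20,4,7,12,5,11,10,19,17]]

/-- Inverse tables of generators of `stabD0`. -/
def stabD0Gens : List (List ℕ) := [[0,3,12,1,2,22,9,10,18,8,7,5,4,16,15,19,6,21,13,14,17,11,20,23],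
  [0,2,3,13,6,11,16,17,12,9,19,10,4,18,23,14,8,15,1,22,20,21,5,7]]

theorem stabDGens_ok : ∀ T ∈ stabDGens, ValidT T ∧ permT T ∈ stabD := by
  have h : ∀ T ∈ stabDGens, okK T = true ∧ actK T d₀ = d₀ := by decide +kernel
  intro T hT
  obtain ⟨h1, h2⟩ := h T hT
  exact ⟨okK_valid h1, permT_mem_M24' h1, permT_mem_stabilizer_fs (okK_valid h1) (by decide) h2⟩

theorem stabD0Gens_ok : ∀ T ∈ stabD0Gens, ValidT T ∧ permT T ∈ stabD0 := by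
  have h : ∀ T ∈ stabD0Gens, okK T = true ∧ actK T d₀ = d₀ ∧ T.getD 0 0 = 0 := by decide +kernel
  intro T hT
  obtain ⟨h1, h2, h3⟩ := h T hT
  exact ⟨okK_valid h1, ⟨permT_mem_M24' h1, permT_mem_stabilizer_fs (okK_valid h1) (by decide) h2⟩,
    permT_mem_stabilizer_pt (okK_valid h1) (by decide) h3⟩

theorem stabD0_le : stabD0 ≤ M24 := inf_le_left.trans inf_le_left

/-- `stabD` is transitive on the points of the standard dodecad. -/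
theorem stabD_trans_in (x : GolayPt) (hx : x ∈ fs d₀) : ∃ g ∈ stabD, g (pt 0) = x :=
  point_transitive stabD stabDGens stabDGens_ok [1,1,1,0,0,0,2,1,1,1,0,2,0,0,2,0,0,2,2] 0 (by decide) (tb d₀)
    (by decide +kernel) x (mem_fs_iff_tb.mp hx)

/-- The group of the code is transitive on pairs (dodecad, point of it). -/
theorem dflag_in (d : Finset GolayPt) (hd : d ∈ dodecads) (x : GolayPt) (hx : x ∈ d) :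
    ∃ k : M24, k • ((fs d₀, pt 0) : Finset GolayPt × GolayPt) = (d, x) := by
  apply extend_transitive (G := M24) (fs d₀) (pt 0) (fun a c => c ∈ a)
    (fun g a c => mem_smul_finset_iff_M24 g c a) _ d _ x hx
  · intro c hc
    obtain ⟨g, hg, hgc⟩ := stabD_trans_in c hc
    exact ⟨⟨g, hg.1⟩, hg.2, hgc⟩
  · obtain ⟨g, hg, hgo⟩ := dodecads_transitive d hd
    exact ⟨⟨g, hg⟩, hgo⟩

/-- Class values, representatives and instructions for the orbits of the stabiliser of the standard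
dodecad and its point `0` on the dodecads through `0`. -/
def reps : List (ℕ × ℕ × List ℕ) := [(8, 28637, [1,1,1,1,1,2,1,0,2,1,2,0,0,2,0,0,0,0,2,1,1,1,2,1,0,2,0,0,0,2,1,0,2,2,0,0,0,0,0,2,
  1,2,2,0,0,0,2,2,1,0,0,0,0,0,0,2,1,1,2,1,1,2,0,0,2,0,0,0,0,2,2,0,0,0,2,2,1,1,1,0,
  0,2,2,0,0,0,2,1,0,0,0,0,0,0,2,1,1,1,1,0,2,1,1,0,0,2,1,2,0,0,0,0,0,2,1,1,1,1,0,0,
  2,0,0,2,2,0,0,0,2,2,1,2,0,0,0,0,0,0,2,2,1,1,0,2,1,1,0,0,0,0,2,1,1,0,2,1,0,2,0,0,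
  0,2,1,0,0,0,0,0,0,2,2,1,1,0,2,2,1,0,0,0,0,2,0,0,0,0,0,2,1,1,1,1,1,2,1,0,0,0,2,1,
  0,2,2,1,0,0,0,0,0,2,1,1,0,2,0,0,2,1,0,0,0,0,2,1,1,1,1,0,0,0,2,0,0,2,1,1,2,2,0,0,
  0,2,0,0,0,0,0,2,2,1,1,2,2,2,0,0,0,0,2,1,1,0,0,2,2,2,0,0,0,0,0,2,1,1,2,0,0,0,2,0,
  0,0,0,0,2,1,1,1,1,0,2,0,0,2,1,1,1,2,0,0,0,2,0,0,2,1,0,2,0,0,0,0,2,1,1,1,2,1,2,0,
  0,2,0,0,0,2,1,0,0,0,0,2,1,2,2,2,2,0,0,0,0,0,2,2,0,0,0,0,0,2,1,1,2,1,0,2,1,0,0,0,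
  0,2,2,0,0,0,2,1,2,0,0,0,0,0,0,0,2,1,1,1,1,1,2,0,0,2,1,2,0,0,0,0,2,1,2,2,1,1,0,0,
  0,0,0,0,0,2,1,1,2,1,1,0,0,2,1,1,0,2,0,0,0,0,0,2,2,2,1,0,2,1,0,0,0,0,0,0,2,1,2,2,
  2,0,0,0,0,0,0,0,2,1,1,1,1,2,1,0,0,0,2,0,0,2,2,1,0,0,0,0,0,2,2,1,1,1,0,0,2,1,1,0,
  0,2,0,0,0,2,1,1,2,0,0,0,0,0,0,0,0,2,1,1,1,1,1,2,1,1,0,2,0,0,0,0,2,1,0,2,1,2,0,0,
  0,0,0,2,1,0,0,0,2,1,1,0,2,0,0,2,1,1,2,0,0,0,2,2,1,0,0,0,0,0,0,2,1,1,1,2,1,2,0,0,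
  0,0,2,1,1,0,0,0,0,0,2,2,1,0,2,1,2,0,0,0,0,0,0,0,2,1,1,1,1,1,0,2,2,0,0,0,2,2,0,0,
  0,2,1,1,2,2,0,0,0,0,0,0,2,1,1,0,0,2,1,2,0,0,2,1,0,2,0,0,0,0,0,2,1,1,1,1,0,0,2,2,
  0,0,0,2,1,1,2,0,0,0,2]),
  (6, 195645, [1,1,1,1,1,2,1,1,1,1,2,0,0,2,1,1,2,0,0,2,0,0,0,0,2,1,1,0,2,0,0,2,1,1,1,0,0,0,2,2,
  0,0,0,0,0,2,0,0,2,1,1,1,1,0,0,0,0,0,0,0,2,1,1,1,1,1,2,1,0,0,0,2,0,0,2,1,1,1,0,0,
  2,0,0,2,0,0,0,2,1,1,0,2,2,1,0,2,0,0,0,0,0,0,2,2,1,1,2,1,1,0,0,0,0,0,2,2,1,0,0,0,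
  0,0,0,2,1,1,1,1,0,2,1,0,0,0,2,2,2,2,0,0,0,0,0,2,1,1,1,0,0,0,2,0,0,0,2,1,1,1,0,0,
  0,2,1,1,1,2,0,0,2,2,0,0,0,0,0,0,0,0,0,2,1,1,1,1,1,2,1,0,0,0,0,0,2,1,2,2,1,0,2,0,
  0,0,0,2,1,2,0,0,2,1,2,0,0,0,0,0,0,2,2,1,1,2,0,0,2,1,0,0,0,2,2,1,1,0,2,2,0,0,0,0,
  0,0,0,0,2,1,1,1,0,2,1,1,2,0,0,2,0,0,2,0,0,0,2,1,1,1,2,1,0,0,0,0,0,2,2,2,1,0,0,0,
  0,0,0,2,2,1,1,2,0,0,0,0,0,0,0,0,2,1,1,1,1,1,2,1,0,0,0,2,1,1,1,0,0,0,2,1,1,0,0,0,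
  0,0,2,1,1,1,0,2,0,0,0,2,1,0,0,0,0,2,1,0,2,1,2,1,1,0,0,2,1,0,0,0,0,0,0,0,2,2,1,1,
  0,2,1,1,1,0,0,0,2,2,0,0,0,0,2,1,1,1,0,2,2,0,0,0,2,1,1,0,0,0,0,2,1,1,2,0,0,2,1,0,
  0,0,0,0,0,0,0,2,1,1,1,1,1,2,2,0,0,0,2,0,0,2,1,1,2,2,0,0,0,2,2,1,0,0,0,0,2,0,0,0,
  2,2,1,0,2,2,0,0,0,0,0,2,1,1,2,2,1,0,2,0,0,0,0,0,2,1,1,2,0,0,2,2,2,2,0,0,0,0,0,2,
  1,2,1,0,0,0,0,0,0,0,2,1,1,1,1,0,2,1,2,0,0,2,0,0,0,2,1,2,0,0,2,0,0,0,2,1,1,2,0,0,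
  0,2,1,2,1,0,0,0,0,0,0,2,1,1,0,0,0,0,0,0,0,2,1,1,1,1,1,2,1,0,0,0,2,1,1,2,0,0,0,2,
  1,1,2,0,0,2,0,0,2,0,0,0,0,2,1,1,1,2,1,0,0,0,2,0,0,2,2,1,1,0,0,0,0,0,2,0,0,0,2,1,
  1,1,1,1,0,0,2,1,1,0,0,2,0,0,0,0,2,2,1,2,0,0,2,1,0,0,0,0,0,2,1,1,1,1,0,0,2,1,0,2,
  2,0,0,0,0,2,1,1,2,2,0,0,0,0,2,2,1,1,0,0,0,0,0,0,0,0,0,2,2,1,1,1,1,1,2,0,0,2,0,0,
  2,1,1,0,0,0,0,2,1,2,0,0,0,0,2,1,1,1,0,0,0,2,1,1,0,2,0,0,2,1,0,2,1,2,0,0,0,0,0,0,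
  0,2,1,1,1,0,0,2,1,1,2,0,0,0,0,0,2,1,2,1,0,2,0,0,0,0,0,0,0,0,2,1,1,1,1,1,2,2,2,0,
  0,0,0,2,1,2,0,0,2,2,0,0,0,0,2,1,1,1,0,2,0,0,2,0,0,2,1,1,0,2,2,0,0,0,2,1,1,0,0,2,
  0,0,0,0,0,2,1,1,1,2,0,0,2,2,0,0,0,2,0,0,2,1,1,1,0,2,0,0,0,2,1,1,0,2,1,0,0,0,2,1,
  0,0,0,0,0,0,2,1,1,1,2,1,0,0,0,2,2,1,0,2,2,0,0,0,0,0,0,2,1,2,1,0,2,0,0,0,0,0,0,2,
  1,1,1,1,1,0,2,1,1,0,0,2,2,2,0,0,0,0,0,0,2,1,1,0,2,0,0,2,1,2,2,0,0,0,2,1,0,2,1,0,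
  0,0,0,0,0,2,1,1,2,1,0,2,2,0,0,0,0,0,2,1,2,1,1,0,0,0,0,2,1,1,0,2,2,1,0,2,0,0,0,0,
  2,1,1,0,0,0,0,0,0,0,2,1,1,1,1,0,2,1,0,0,0,2,1,0,2,0,0,0,2,1,1,2,0,0,0,2,0,0,0,0,
  0,0,0,0,2,1,1,1,1,1,2,1,2,0,0,2,1,0,0,0,0,2,1,1,1,2,0,0,0,0,2,1,2,1,0,2,1,0,0,0,
  0,2,1,1,0,0,2,0,0,0,0,0,2,1,1,1,1,1,0,0,0,0,2,0,0,2,1,2,1,0,0,0,2,0,0,0,0,2,1,1,
  1,1,1,2,0,0,2,2,2,0,0,0,0,2,2,0,0,0,2,1,2,2,0,0,0,2,1,2,2,0,0,0,2,2,0,0,0,0,0,2,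
  0,0,2,1,1,1,1,1,0,2,0,0,0,2,0,0,2,1,1,0,0,2,2,1,0,0,0,0,0,2,1,2,1,0,2,0,0,0,2,0,
  0,0,0,0,2,1,1,1,1,0,2,1,1,1,1,0,2,0,0,2,0,0,2,0,0,2,0,0,0,2,1,1,1,1,2,0,0,0,2,1,
  0,0,0,0,2,1,1,2,1,0,0,0,0,2,1,0,2,1,0,0,0,0,0,0,0,0,0,2,1,1,1,1,2,2,2,1,1,0,0,0,
  0,0,0,2,1,1,1,0,2,1,1,1,0,2,0,0,0,2,1,1,0,0,0,0,0,2,2,1,0,2,0,0,0,0,2,1,1,1,0,2,
  0,0,2,0,0,2,0,0,0,0,2,1,1,2,1,2,0,0,2,2,0,0,0,0,2,0,0,2,1,1,1,0,2,1,0,2,0,0,0,2,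
  1,1,0,0,2,2,2,1,0,0,0,0,0,0,2,2,1,0,0,0,0,0,0,2,1,1,1,1,1,2,0,0,2,1,2,0,0,0,0,2,
  1,1,1,0,0,2,0,0,2,1,0,0,0,0,0,0,2,1,1,1,1,1,2,0,0,0,2,1,2,0,0,0,0,2,2,2,2,0,0,0,
  0,0,2,1,0,2,2,1,0,0,0,0,0,2,1,1,1,2,0,0,2,2,2,0,0,0,0,2,1,0,2,0,0,0,2,1,0,0,0,0,
  0,0,2,1,1,1,1,2,1,1,1,0,2,0,0,0,0,0,2,2,0,0,0,2,1,1,1,2,1,0,0,0,2,2,0,0,0,2,0,0,
  2,2,2,0,0,0,0,0,2,2,1,1,1,1,0,0,2,1,2,0,0,0,0,2,1,0,0,0,2,1,2,0,0,2,1,1,0,0,0,0,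
  0,0,0,2,1,1,1,1,2,0,0,2,2,0,0,0,2,1,1,2,0,0,2,0,0,2,1,0,0,0,0,2,2,1,1,1,1,0,0,2,
  0,0,0,2,1,2,0,0,2,1,1]),
  (12, 340831, []),
  (4, 1727659, [1,1,2,1,1,1,1,1,0,2,2,0,0,0,2,1,1,0,0,0,0,2,1,1,1,0,0,2,2,0,0,0,2,0,0,0,2,2,0,0,
  0,2,1,2,1,1,2,0,0,0,2,0,0,0,2,0,0,0,0,2,1,1,1,1,1,2,0,0,2,2,0,0,0,2,1,1,0,0,2,0,
  0,0,2,2,1,1,1,1,0,0,0,2,2,2,0,0,0,0,0,0,0,2,2,1,1,2,1,0,2,0,0,0,0,0,0,0,2,1,1,1,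
  1,0,2,1,0,0,0,2,1,2,0,0,2,2,2,0,0,0,0,0,2,1,1,1,2,0,0,0,0,2,1,1,2,0,0,2,1,0,2,1,
  0,0,0,0,2,1,0,2,0,0,0,0,0,0,0,0,2,1,1,1,1,1,2,1,1,0,0,2,0,0,0,2,1,0,0,0,2,1,1,2,
  1,0,2,0,0,0,2,0,0,0,0,0,2,1,1,1,1,1,2,0,0,2,0,0,2,0,0,2,1,0,0,0,0,2,1,1,2,2,0,0,
  0,2,1,0,0,0,2,0,0,0,0,2,1,1,1,1,1,2,0,0,2,1,0,2,0,0,0,2,0,0,2,1,2,0,0,2,1,0,2,1,
  0,0,0,0,0,2,1,1,1,0,2,1,0,0,0,0,0,0,2,1,1,1,0,2,0,0,2,1,1,0,0,2,1,1,0,0,0,0,0,2,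
  1,1])]

theorem reps_ok : allL reps (repOK stabD0Gens 12 (fun m => tb m 0)
    (fun m => popcF (Nat.land d₀ m))) = true := by decide +kernel

theorem cases_ok : casesOK 12 (fun m => tb m 0) (fun m => popcF (Nat.land d₀ m))
    (reps.map fun r => r.1) = true := by decide +kernel

theorem count_base (c n : ℕ)
    (h : countK 4096 (fun u => Nat.beq (popcF (encF u)) 12 &&
      (tb (encF u) 0 && Nat.beq (popcF (Nat.land d₀ (encF u))) c)) = n) :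
    {d' : Finset GolayPt | d' ∈ dodecads ∧ pt 0 ∈ d' ∧ (fs d₀ ∩ d').card = c}.ncard = n := by
  rw [← h]
  apply ncard_wordsOfWeightK 12 (fun s => pt 0 ∈ s ∧ (fs d₀ ∩ s).card = c)
    (fun m => tb m 0 && Nat.beq (popcF (Nat.land d₀ m)) c)
  intro m hm
  rw [card_fs_inter (by decide), mask_fs hm, Bool.and_eq_true, natBeq_iff, mem_fs_pt (by decide)]

theorem count_general (x : GolayPt) (d : Finset GolayPt) (hd : d ∈ dodecads) (hx : x ∈ d) (c : ℕ) :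
    {d' : Finset GolayPt | d' ∈ dodecads ∧ x ∈ d' ∧ (d ∩ d').card = c}.ncard =
      {d' : Finset GolayPt | d' ∈ dodecads ∧ pt 0 ∈ d' ∧ (fs d₀ ∩ d').card = c}.ncard := by
  obtain ⟨k, hk⟩ := dflag_in d hd x hx
  have := ncard_invariant (G := M24) (A := Finset GolayPt × GolayPt) (B := Finset GolayPt) dodecads
    (fun g b hb => smul_mem_dodecads g.2 hb) (fun a b => (a.2 ∈ b, (a.1 ∩ b).card))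
    (fun g a b => by
      rw [smul_flag]
      refine Prod.ext (propext ?_) (card_smul_inter (g : Equiv.Perm GolayPt) a.1 b)
      exact Finset.smul_mem_smul_finset_iff (g : Equiv.Perm GolayPt))
    (fun t => t.1 ∧ t.2 = c) k (fs d₀, pt 0)
  rw [hk] at this
  exact this

/-- Orbits of the stabiliser of a dodecad and a point of it on the dodecads through that point. -/
theorem result (x : Cfsg.GolayPt) (d : Finset Cfsg.GolayPt) (hd : d ∈ Cfsg.dodecads) (hx : x ∈ d) : {d' : Finset Cfsg.GolayPt | d' ∈ Cfsg.dodecads ∧ x ∈ d' ∧ (d ∩ d').card = 4}.ncard = 165 ∧ {d' : Finset Cfsg.GolayPt | d' ∈ Cfsg.dodecads ∧ x ∈ d' ∧ (d ∩ d').card = 8}.ncard = 330 ∧ {d' : Finset Cfsg.GolayPt | d' ∈ Cfsg.dodecads ∧ x ∈ d' ∧ (d ∩ d').card = 6}.ncard = 792 ∧ ∀ d' d'' : Finset Cfsg.GolayPt,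 d' ∈ Cfsg.dodecads → d'' ∈ Cfsg.dodecads → x ∈ d' → x ∈ d'' → (d ∩ d').card = (d ∩ d'').card → ∃ g : Equiv.Perm Cfsg.GolayPt, g ∈ Cfsg.M24 ∧ g x = x ∧ g • d = d ∧ g • d' = d'' := by
  refine ⟨?_, ?_, ?_, ?_⟩
  · rw [count_general x d hd hx]
    exact count_base 4 165 (by decide +kernel)
  · rw [count_general x d hd hx]
    exact count_base 8 330 (by decide +kernel)
  · rw [count_general x d hd hx]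
    exact count_base 6 792 (by decide +kernel)
  · intro d' d'' hd' hd'' hxd' hxd'' hcard
    have key := homogeneous_of_base' (G := M24) (A := Finset GolayPt × GolayPt)
      (B := Finset GolayPt) (fs d₀, pt 0) (fun a => {b | b ∈ dodecads ∧ a.2 ∈ b})
      (fun g a b hb => ⟨smul_mem_dodecads g.2 hb.1,
        (Finset.smul_mem_smul_finset_iff (g : Equiv.Perm GolayPt)).mpr hb.2⟩)
      (fun a b => (a.1 ∩ b).card)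
      (fun g a b => card_smul_inter (g : Equiv.Perm GolayPt) a.1 b)
      (by
        intro b hb b' hb' hbb'
        have hinv : popcF (Nat.land d₀ (mask b)) = popcF (Nat.land d₀ (mask b')) := by
          rw [← card_fs_inter (by decide), ← card_fs_inter (by decide)]; exact hbb'
        obtain ⟨g, hg, hgb⟩ := classes_homog stabD0 stabD0_le stabD0Gens stabD0Gens_ok 12
          (fun m => tb m 0) (fun m => popcF (Nat.land d₀ m)) reps reps_ok cases_ok b b' hb.1 hb'.1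
          (by rw [← mem_fs_pt (by decide), fs_mask]; exact hb.2)
          (by rw [← mem_fs_pt (by decide), fs_mask]; exact hb'.2) hinv
        refine ⟨⟨g, stabD0_le hg⟩, ?_, hgb⟩
        rw [smul_flag]
        exact Prod.ext hg.1.2 hg.2)
      (d, x) (dflag_in d hd x hx) d' d'' ⟨hd', hxd'⟩ ⟨hd'', hxd''⟩ hcard
    obtain ⟨g, hg1, hg2⟩ := key
    rw [smul_flag] at hg1
    exact ⟨g.1, g.2, (Prod.ext_iff.mp hg1).2, (Prod.ext_iff.mp hg1).1, hg2⟩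

end Cfsg.Agent.S1639
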