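import Cfsg.Statements.S1566
import Cfsg.Agent.Lib.Helper12.Golay.Trans
import Cfsg.Agent.Lib.Helper12.Maximal
import Cfsg.Agent.S1560
import Cfsg.Agent.S1561
import Cfsg.Agent.S1639

set_option autoImplicit false
open scoped Pointwise
open Cfsg

namespace Cfsg.Agent.S1566

open Cfsg.Agent.Lib.Helper12 Cfsg.Agent.Lib.Helper12.Golay

theorem fs_full : fs 16777215 = (Finset.univ : Finset GolayPt) := by
  ext p
  rw [mem_fs]
  simp only [Finset.mem_univ, iff_true]
  revert p
  decide

theorem mask_univ : mask (Finset.univ : Finset GolayPt) = 16777215 := by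
  rw [← fs_full, mask_fs (by norm_num)]

theorem mask_compl (e : Finset GolayPt) : mask eᶜ = 16777215 ^^^ mask e := by
  have : eᶜ = symmDiff Finset.univ e := by
    ext p
    simp [Finset.mem_symmDiff]
  rw [this, mask_symmDiff, mask_univ]

theorem isCode_xor {a b : ℕ} (ha : isCode a = true) (hb : isCode b = true) :
    isCode (a ^^^ b) = true := by
  obtain ⟨u, hu, rfl⟩ := isCode_iff.mp ha
  obtain ⟨v, hv, rfl⟩ := isCode_iff.mp hb
  rw [← enc_xor]
  exact isCode_enc (Nat.xor_lt_two_pow (n := 12) hu hv)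

theorem compl_mem_dodecads {e : Finset GolayPt} (he : e ∈ dodecads) : eᶜ ∈ dodecads := by
  rw [mem_dodecads_iff] at he ⊢
  refine ⟨?_, ?_⟩
  · rw [mask_compl]
    exact isCode_xor (by decide +kernel) he.1
  · rw [← card_eq_popc_mask, Finset.card_compl, card_eq_popc_mask, he.2, Fintype.card_option,
      ZMod.card]

theorem smul_compl (g : M24) (e : Finset GolayPt) : g • eᶜ = (g • e)ᶜ := by
  rw [Finset.compl_eq_univ_sdiff, Finset.smul_finset_sdiff, Finset.smul_finset_univ,
    ← Finset.compl_eq_univ_sdiff]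

/-- The pair consisting of a set and its complement. -/
def φ (e : Finset GolayPt) : Finset (Finset GolayPt) := {e, eᶜ}

theorem smul_φ (g : M24) (e : Finset GolayPt) : g • φ e = φ (g • e) := by
  rw [φ, φ, Finset.smul_finset_insert, Finset.smul_finset_singleton, smul_compl]

theorem φ_compl (e : Finset GolayPt) : φ eᶜ = φ e := by
  rw [φ, φ, compl_compl, Finset.pair_comm]

theorem card_inter_compl (d e : Finset GolayPt) (hd : d.card = 12) :
    (d ∩ eᶜ).card = 12 - (d ∩ e).card := by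
  have := Finset.card_sdiff_add_card_inter d e
  rw [Finset.sdiff_eq_inter_compl] at this
  omega

theorem ne_compl (e : Finset GolayPt) : e ≠ eᶜ := by
  intro h
  have hmem : (none : GolayPt) ∈ e ∨ (none : GolayPt) ∈ eᶜ := by
    rw [Finset.mem_compl]; exact em _
  rcases hmem with h1 | h1
  · have h2 := h1
    rw [h, Finset.mem_compl] at h2
    exact h2 h1
  · have h2 := h1
    rw [← h] at h2
    rw [Finset.mem_compl] at h1
    exact h1 h2

/-- The invariant of a pair `{e, eᶜ}`: the larger of the two intersection sizes with `d`. -/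
def sup' (d : Finset GolayPt) (P : Finset (Finset GolayPt)) : ℕ := P.sup fun e => (d ∩ e).card

theorem sup'_φ (d e : Finset GolayPt) (hd : d.card = 12) :
    sup' d (φ e) = max (d ∩ e).card (12 - (d ∩ e).card) := by
  rw [sup', φ, Finset.sup_insert, Finset.sup_singleton, card_inter_compl d e hd]

/-- The class of a pair: `0` if the invariant is 12, `1` if it is 8, `2` otherwise. -/
def cls (d : Finset GolayPt) (P : Finset (Finset GolayPt)) : Fin 3 :=
  if sup' d P = 12 then 0 else if sup' d P = 8 then 1 else 2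

/-- The pairs `{e, eᶜ}` with `e` a dodecad. -/
def Y : Set (Finset (Finset GolayPt)) := {P | ∃ e ∈ dodecads, P = φ e}

theorem inter_values (d e : Finset GolayPt) (hd : d ∈ dodecads) (he : e ∈ dodecads) :
    (d ∩ e).card = 12 ∨ (d ∩ e).card = 8 ∨ (d ∩ e).card = 6 ∨ (d ∩ e).card = 4 ∨
      (d ∩ e).card = 0 := by
  by_cases hed : e = d
  · left; rw [hed, Finset.inter_self]; exact hd.2
  · rcases (Cfsg.Agent.S1560.result d hd).1 e he hed with h | h | h | h
    · exact Or.inr (Or.inr (Or.inr (Or.inr h)))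
    · exact Or.inr (Or.inr (Or.inr (Or.inl h)))
    · exact Or.inr (Or.inr (Or.inl h))
    · exact Or.inr (Or.inl h)

theorem cls_φ_iff (d e : Finset GolayPt) (hd : d ∈ dodecads) (he : e ∈ dodecads) :
    (cls d (φ e) = 0 ↔ ((d ∩ e).card = 12 ∨ (d ∩ e).card = 0)) ∧
    (cls d (φ e) = 1 ↔ ((d ∩ e).card = 8 ∨ (d ∩ e).card = 4)) ∧
    (cls d (φ e) = 2 ↔ (d ∩ e).card = 6) := by
  have hs := sup'_φ d e hd.2
  rw [cls]
  rcases inter_values d e hd he with h | h | h | h | h <;> rw [h] at hs <;>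
    simp [hs, h]

theorem eq_of_inter_full (d e : Finset GolayPt) (hd : d.card = 12) (he : e.card = 12)
    (h : (d ∩ e).card = 12) : e = d := by
  have e1 : d ∩ e = d := Finset.eq_of_subset_of_card_le Finset.inter_subset_left (by rw [h, hd])
  have e2 : d ∩ e = e := Finset.eq_of_subset_of_card_le Finset.inter_subset_right (by rw [h, he])
  exact e2.symm.trans e1

theorem homog (d : Finset GolayPt) (hd : d ∈ dodecads) (P P' : Finset (Finset GolayPt))
    (hP : P ∈ Y) (hP' : P' ∈ Y) (hc : cls d P = cls d P') :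
    ∃ g : M24, g • φ d = φ d ∧ g • P = P' := by
  obtain ⟨e, he, rfl⟩ := hP
  obtain ⟨e', he', rfl⟩ := hP'
  obtain ⟨a0, a1, a2⟩ := cls_φ_iff d e hd he
  obtain ⟨b0, b1, b2⟩ := cls_φ_iff d e' hd he'
  have hcompl : (d ∩ e'ᶜ).card = 12 - (d ∩ e').card := card_inter_compl d e' hd.2
  -- either the intersection sizes agree, or they agree after complementing e'
  have key : (d ∩ e).card = (d ∩ e').card ∨ (d ∩ e).card = (d ∩ e'ᶜ).card := by
    rw [hcompl]
    have h3 : ∀ i : Fin 3, i = 0 ∨ i = 1 ∨ i = 2 := by decide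
    rcases h3 (cls d (φ e')) with h | h | h
    · have h' := hc.trans h
      rcases a0.mp h' with x | x <;> rcases b0.mp h with y | y <;> omega
    · have h' := hc.trans h
      rcases a1.mp h' with x | x <;> rcases b1.mp h with y | y <;> omega
    · have h' := hc.trans h
      have x := a2.mp h'
      have y := b2.mp h
      omega
  rcases key with hk | hk
  · obtain ⟨g, hg, hgd, hge⟩ := Cfsg.Agent.S1561.result d e e' hd he he' hk
    refine ⟨⟨g, hg⟩, ?_, ?_⟩
    · rw [smul_φ]; exact congrArg φ hgd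
    · rw [smul_φ]; exact congrArg φ hge
  · obtain ⟨g, hg, hgd, hge⟩ := Cfsg.Agent.S1561.result d e e'ᶜ hd he (compl_mem_dodecads he') hk
    refine ⟨⟨g, hg⟩, ?_, ?_⟩
    · rw [smul_φ]; exact congrArg φ hgd
    · rw [smul_φ, ← φ_compl e']; exact congrArg φ hge

theorem φ_injOn (x : GolayPt) : Set.InjOn φ {e : Finset GolayPt | x ∈ e} := by
  intro e he e' he' h
  have hmem : e ∈ φ e' := by rw [← h, φ]; exact Finset.mem_insert_self _ _
  rw [φ, Finset.mem_insert, Finset.mem_singleton] at hmem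
  rcases hmem with h1 | h1
  · exact h1
  · exfalso
    have hx : x ∈ e'ᶜ := h1 ▸ he
    rw [Finset.mem_compl] at hx
    exact hx he'

theorem class_eq_image (d : Finset GolayPt) (x : GolayPt) (i : Fin 3) :
    {P : Finset (Finset GolayPt) | P ∈ Y ∧ cls d P = i} =
      φ '' {e : Finset GolayPt | e ∈ dodecads ∧ x ∈ e ∧ cls d (φ e) = i} := by
  ext P
  constructor
  · rintro ⟨⟨e, he, rfl⟩, hc⟩
    by_cases hx : x ∈ e
    · exact ⟨e, ⟨he, hx, hc⟩, rfl⟩
    · refine ⟨eᶜ, ⟨compl_mem_dodecads he, Finset.mem_compl.mpr hx, ?_⟩, φ_compl e⟩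
      rw [φ_compl]; exact hc
  · rintro ⟨e, ⟨he, _, hc⟩, rfl⟩
    exact ⟨⟨e, he, rfl⟩, hc⟩

/-- The class sizes. -/
def nOf (i : ℕ) : ℕ := if i = 0 then 1 else if i = 1 then 495 else if i = 2 then 792 else 0

theorem ncard_class (d : Finset GolayPt) (hd : d ∈ dodecads) (i : Fin 3) :
    {P : Finset (Finset GolayPt) | P ∈ Y ∧ cls d P = i}.ncard = nOf i := by
  have hdne : d.Nonempty := by
    rw [← Finset.card_pos, hd.2]; norm_num
  obtain ⟨x, hx⟩ := hdne
  rw [class_eq_image d x i, Set.InjOn.ncard_image ((φ_injOn x).mono (fun e he => he.2.1))]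
  obtain ⟨c165, c330, c792, _⟩ := Cfsg.Agent.S1639.result x d hd hx
  have h3 : ∀ i : Fin 3, i = 0 ∨ i = 1 ∨ i = 2 := by decide
  rcases h3 i with rfl | rfl | rfl
  · -- class 0: only d itself
    have : {e : Finset GolayPt | e ∈ dodecads ∧ x ∈ e ∧ cls d (φ e) = 0} = {d} := by
      ext e
      simp only [Set.mem_ofPred_eq, Set.mem_singleton_iff]
      constructor
      · rintro ⟨he, hxe, hc⟩
        rcases (cls_φ_iff d e hd he).1.mp hc with h | h
        · exact eq_of_inter_full d e hd.2 he.2 h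
        · exfalso
          have : x ∈ d ∩ e := Finset.mem_inter.mpr ⟨hx, hxe⟩
          rw [Finset.card_eq_zero] at h
          rw [h] at this
          exact absurd this (Finset.notMem_empty x)
      · rintro rfl
        refine ⟨hd, hx, (cls_φ_iff e e hd hd).1.mpr (Or.inl ?_)⟩
        rw [Finset.inter_self]; exact hd.2
    rw [this, Set.ncard_singleton]
    rfl
  · -- class 1: intersection 8 or 4
    have : {e : Finset GolayPt | e ∈ dodecads ∧ x ∈ e ∧ cls d (φ e) = 1} =
        {e : Finset GolayPt | e ∈ dodecads ∧ x ∈ e ∧ (d ∩ e).card = 8} ∪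
        {e : Finset GolayPt | e ∈ dodecads ∧ x ∈ e ∧ (d ∩ e).card = 4} := by
      ext e
      simp only [Set.mem_ofPred_eq, Set.mem_union]
      constructor
      · rintro ⟨he, hxe, hc⟩
        rcases (cls_φ_iff d e hd he).2.1.mp hc with h | h
        · exact Or.inl ⟨he, hxe, h⟩
        · exact Or.inr ⟨he, hxe, h⟩
      · rintro (⟨he, hxe, h⟩ | ⟨he, hxe, h⟩)
        · exact ⟨he, hxe, (cls_φ_iff d e hd he).2.1.mpr (Or.inl h)⟩
        · exact ⟨he, hxe, (cls_φ_iff d e hd he).2.1.mpr (Or.inr h)⟩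
    rw [this, Set.ncard_union_eq _ (Set.toFinite _) (Set.toFinite _), c330, c165]
    · rfl
    · rw [Set.disjoint_left]
      rintro e ⟨_, _, h8⟩ ⟨_, _, h4⟩
      omega
  · -- class 2: intersection 6
    have : {e : Finset GolayPt | e ∈ dodecads ∧ x ∈ e ∧ cls d (φ e) = 2} =
        {e : Finset GolayPt | e ∈ dodecads ∧ x ∈ e ∧ (d ∩ e).card = 6} := by
      ext e
      simp only [Set.mem_ofPred_eq]
      constructor
      · rintro ⟨he, hxe, hc⟩
        exact ⟨he, hxe, (cls_φ_iff d e hd he).2.2.mp hc⟩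
      · rintro ⟨he, hxe, h⟩
        exact ⟨he, hxe, (cls_φ_iff d e hd he).2.2.mpr h⟩
    rw [this, c792]
    rfl

theorem ncard_Y (d : Finset GolayPt) (hd : d ∈ dodecads) : Y.ncard = 1288 := by
  have h0 := ncard_class d hd 0
  have h1 := ncard_class d hd 1
  have h2 := ncard_class d hd 2
  have hY : Y = ({P | P ∈ Y ∧ cls d P = 0} ∪ {P | P ∈ Y ∧ cls d P = 1}) ∪
      {P | P ∈ Y ∧ cls d P = 2} := by
    ext P
    simp only [Set.mem_union, Set.mem_ofPred_eq]
    have h3 : ∀ i : Fin 3, i = 0 ∨ i = 1 ∨ i = 2 := by decide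
    constructor
    · intro hP
      rcases h3 (cls d P) with h | h | h
      · exact Or.inl (Or.inl ⟨hP, h⟩)
      · exact Or.inl (Or.inr ⟨hP, h⟩)
      · exact Or.inr ⟨hP, h⟩
    · rintro ((⟨hP, _⟩ | ⟨hP, _⟩) | ⟨hP, _⟩) <;> exact hP
  rw [hY, Set.ncard_union_eq _ (Set.toFinite _) (Set.toFinite _),
    Set.ncard_union_eq _ (Set.toFinite _) (Set.toFinite _), h0, h1, h2]
  · rfl
  · rw [Set.disjoint_left]
    rintro P ⟨_, h⟩ ⟨_, h'⟩
    rw [h] at h'
    exact absurd h' (by decide)
  · rw [Set.disjoint_left]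
    rintro P (⟨_, h⟩ | ⟨_, h⟩) ⟨_, h'⟩ <;> rw [h] at h' <;> exact absurd h' (by decide)

set_option maxRecDepth 100000 in
theorem arith : ∀ I : Finset (Fin 3), (0 : Fin 3) ∈ I → (∀ i ∈ I, nOf i ≠ 0) →
    (∑ i ∈ I, nOf i) ∣ 1288 → I = {0} ∨ ∀ i : Fin 3, nOf i ≠ 0 → i ∈ I := by decide +kernel

/-- The setwise stabiliser of a dodecad together with its complement is a maximal proper subgroup of the group of the length-24 code. -/
theorem result (d : Finset Cfsg.GolayPt) (hd : d ∈ Cfsg.dodecads) : IsCoatom (MulAction.stabilizer Cfsg.M24 ({d, dᶜ} : Finset (Finset Cfsg.GolayPt))) := by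
  have hcls_d : cls d (φ d) = 0 := by
    refine (cls_φ_iff d d hd hd).1.mpr (Or.inl ?_)
    rw [Finset.inter_self]; exact hd.2
  apply isCoatom_stabilizer_of_classes (G := M24) (X := Finset (Finset GolayPt)) (ι := Fin 3) (φ d)
    Y (Set.toFinite _) _ (cls d) _ (fun i => nOf i) (ncard_class d hd) _ _ _
  · intro P
    constructor
    · rintro ⟨e, he, rfl⟩
      obtain ⟨a, ha, had⟩ := dodecads_transitive d hd
      obtain ⟨b, hb, hbe⟩ := dodecads_transitive e he
      refine ⟨⟨b, hb⟩ * ⟨a, ha⟩⁻¹, ?_⟩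
      rw [smul_φ]
      apply congrArg φ
      rw [mul_smul]
      have : ((⟨a, ha⟩ : M24)⁻¹ • d) = fs d₀ := by
        rw [inv_smul_eq_iff]; exact had.symm
      rw [this]; exact hbe
    · rintro ⟨g, rfl⟩
      exact ⟨g • d, smul_mem_dodecads g.2 hd, smul_φ g d⟩
  · intro P hP P' hP' hc
    obtain ⟨g, hg1, hg2⟩ := homog d hd P P' hP hP' hc
    exact ⟨g, hg1, hg2⟩
  · rintro P ⟨e, he, rfl⟩ hc
    rw [hcls_d] at hc
    rcases (cls_φ_iff d e hd he).1.mp hc with h | h
    · rw [eq_of_inter_full d e hd.2 he.2 h]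
    · have h12 : (d ∩ eᶜ).card = 12 := by rw [card_inter_compl d e hd.2, h]
      have := eq_of_inter_full d eᶜ hd.2 (compl_mem_dodecads he).2 h12
      rw [← φ_compl e, this]
  · have h1 := ncard_class d hd 1
    have hne : {P : Finset (Finset GolayPt) | P ∈ Y ∧ cls d P = 1}.Nonempty := by
      apply Set.nonempty_of_ncard_ne_zero
      rw [h1]; decide
    obtain ⟨P, hP, hc⟩ := hne
    refine ⟨P, hP, ?_⟩
    rintro rfl
    rw [hcls_d] at hc
    exact absurd hc (by decide)
  · intro I hI hnz hdvd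
    rw [hcls_d] at hI ⊢
    rw [ncard_Y d hd] at hdvd
    exact arith I hI hnz hdvd

end Cfsg.Agent.S1566
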