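import Cfsg.Statements.S1557
import Cfsg.Agent.S1566

set_option autoImplicit false
open scoped Pointwise
open Cfsg

namespace Cfsg.Agent.S1557

open Cfsg.Agent.Lib.Helper12 Cfsg.Agent.Lib.Helper12.Golay

theorem part1 (o o' : Finset GolayPt) (ho : o ∈ octads) (ho' : o' ∈ octads) (hd : Disjoint o o') :
    (o ∪ o')ᶜ ∈ octads := by
  rw [mem_octads_iff] at ho ho' ⊢
  have hu : o ∪ o' = symmDiff o o' := by
    rw [symmDiff_eq_sup_sdiff_inf, Finset.sup_eq_union, Finset.inf_eq_inter,
      Finset.disjoint_iff_inter_eq_empty.mp hd, Finset.sdiff_empty]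
  refine ⟨?_, ?_⟩
  · rw [Cfsg.Agent.S1566.mask_compl, hu, mask_symmDiff]
    exact Cfsg.Agent.S1566.isCode_xor (by decide +kernel) (Cfsg.Agent.S1566.isCode_xor ho.1 ho'.1)
  · rw [← card_eq_popc_mask, Finset.card_compl, Finset.card_union_of_disjoint hd,
      card_eq_popc_mask o, card_eq_popc_mask o', ho.2, ho'.2, Fintype.card_option, ZMod.card]

theorem card_of_mem {o : Finset GolayPt} (ho : o ∈ octads) : o.card = 8 := ho.2

theorem smul_trios (g : M24) (T : Finset (Finset GolayPt)) (hT : T ∈ trios) : g • T ∈ trios := by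
  obtain ⟨h1, h2, h3⟩ := hT
  refine ⟨by rw [Finset.card_smul_finset]; exact h1, ?_, ?_⟩
  · intro o ho
    obtain ⟨o1, ho1, rfl⟩ := Finset.mem_smul_finset.mp ho
    exact smul_mem_octads g.2 (h2 o1 ho1)
  · intro o ho o' ho' hne
    obtain ⟨o1, ho1, rfl⟩ := Finset.mem_smul_finset.mp ho
    obtain ⟨o2, ho2, rfl⟩ := Finset.mem_smul_finset.mp ho'
    have hne' : o1 ≠ o2 := fun h => hne (by rw [h])
    have := h3 o1 ho1 o2 ho2 hne'
    rw [Finset.disjoint_iff_inter_eq_empty] at this ⊢
    rw [← Finset.smul_finset_inter, this, Finset.smul_finset_empty]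

/-- The trio determined by two disjoint octads. -/
def ψ (a b : Finset GolayPt) : Finset (Finset GolayPt) := {a, b, (a ∪ b)ᶜ}

theorem ψ_mem (a b : Finset GolayPt) (ha : a ∈ octads) (hb : b ∈ octads) (hd : Disjoint a b) :
    ψ a b ∈ trios := by
  have hc := part1 a b ha hb hd
  have ca := card_of_mem ha
  have cb := card_of_mem hb
  have cc := card_of_mem hc
  have dac : Disjoint a (a ∪ b)ᶜ := by
    rw [Finset.disjoint_left]
    intro x hx hx'
    rw [Finset.mem_compl] at hx'
    exact hx' (Finset.mem_union_left _ hx)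
  have dbc : Disjoint b (a ∪ b)ᶜ := by
    rw [Finset.disjoint_left]
    intro x hx hx'
    rw [Finset.mem_compl] at hx'
    exact hx' (Finset.mem_union_right _ hx)
  have ne_of_disj : ∀ x y : Finset GolayPt, x.card = 8 → Disjoint x y → x ≠ y := by
    intro x y hx hxy h
    rw [← h, disjoint_self, Finset.bot_eq_empty] at hxy
    rw [hxy] at hx
    simp at hx
  have nab := ne_of_disj a b ca hd
  have nac := ne_of_disj a _ ca dac
  have nbc := ne_of_disj b _ cb dbc
  refine ⟨?_, ?_, ?_⟩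
  · rw [ψ, Finset.card_insert_of_notMem, Finset.card_insert_of_notMem, Finset.card_singleton]
    · rw [Finset.mem_singleton]; exact nbc
    · rw [Finset.mem_insert, Finset.mem_singleton]
      rintro (h | h)
      · exact nab h
      · exact nac h
  · intro o ho
    rw [ψ, Finset.mem_insert, Finset.mem_insert, Finset.mem_singleton] at ho
    rcases ho with rfl | rfl | rfl
    · exact ha
    · exact hb
    · exact hc
  · intro o ho o' ho' hne
    rw [ψ, Finset.mem_insert, Finset.mem_insert, Finset.mem_singleton] at ho ho'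
    rcases ho with rfl | rfl | rfl <;> rcases ho' with rfl | rfl | rfl
    · exact absurd rfl hne
    · exact hd
    · exact dac
    · exact hd.symm
    · exact absurd rfl hne
    · exact dbc
    · exact dac.symm
    · exact dbc.symm
    · exact absurd rfl hne

theorem eq_compl_of_disjoint (a b c : Finset GolayPt) (ha : a.card = 8) (hb : b.card = 8)
    (hc : c.card = 8) (hab : Disjoint a b) (hac : Disjoint a c) (hbc : Disjoint b c) :
    c = (a ∪ b)ᶜ := by
  apply Finset.eq_of_subset_of_card_le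
  · intro x hx
    rw [Finset.mem_compl, Finset.mem_union]
    rintro (h | h)
    · exact Finset.disjoint_left.mp hac h hx
    · exact Finset.disjoint_left.mp hbc h hx
  · rw [Finset.card_compl, Finset.card_union_of_disjoint hab, ha, hb, hc, Fintype.card_option,
      ZMod.card]

theorem ψ_swap (a b c : Finset GolayPt) (hc : c = (a ∪ b)ᶜ) (hb : b = (a ∪ c)ᶜ) :
    ψ a b = ψ a c := by
  rw [ψ, ψ, ← hc, ← hb]
  ext x
  simp only [Finset.mem_insert, Finset.mem_singleton]
  tauto

theorem pt5_notMem : pt 5 ∉ fs o₀ := by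
  rw [mem_fs_pt (by decide)]
  decide

theorem fiber_eq : {T : Finset (Finset GolayPt) | T ∈ trios ∧ fs o₀ ∈ T} =
    ψ (fs o₀) '' {b : Finset GolayPt | b ∈ octads ∧ (Disjoint (fs o₀) b ∧ pt 5 ∈ b)} := by
  have ho₀ : fs o₀ ∈ octads := by
    rw [fs_mem_octads_iff (by decide)]
    decide +kernel
  ext T
  constructor
  · rintro ⟨⟨h1, h2, h3⟩, h0⟩
    obtain ⟨x, y, z, hxy, hxz, hyz, rfl⟩ := Finset.card_eq_three.mp h1
    have key : ∀ a b : Finset GolayPt, a ∈ octads → b ∈ octads → Disjoint (fs o₀) a →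
        Disjoint (fs o₀) b → Disjoint a b →
        ∃ c, (c ∈ octads ∧ (Disjoint (fs o₀) c ∧ pt 5 ∈ c)) ∧
          ψ (fs o₀) c = {fs o₀, a, b} := by
      intro a b ha hb hda hdb hab
      have e1 := eq_compl_of_disjoint (fs o₀) a b (card_of_mem ho₀) (card_of_mem ha)
        (card_of_mem hb) hda hdb hab
      have e2 := eq_compl_of_disjoint (fs o₀) b a (card_of_mem ho₀) (card_of_mem hb)
        (card_of_mem ha) hdb hda hab.symm
      by_cases h5 : pt 5 ∈ a
      · exact ⟨a, ⟨ha, hda, h5⟩, by rw [ψ, ← e1]⟩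
      · refine ⟨b, ⟨hb, hdb, ?_⟩, ?_⟩
        · rw [e1, Finset.mem_compl, Finset.mem_union]
          rintro (h | h)
          · exact pt5_notMem h
          · exact h5 h
        · rw [ψ, ← e2]
          ext t
          simp only [Finset.mem_insert, Finset.mem_singleton]
          tauto
    have mx : x ∈ ({x, y, z} : Finset (Finset GolayPt)) := by simp
    have my : y ∈ ({x, y, z} : Finset (Finset GolayPt)) := by simp
    have mz : z ∈ ({x, y, z} : Finset (Finset GolayPt)) := by simp
    rw [Finset.mem_insert, Finset.mem_insert, Finset.mem_singleton] at h0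
    rcases h0 with h0 | h0 | h0
    · obtain ⟨c, hc, e⟩ := key y z (h2 y my) (h2 z mz) (h0 ▸ h3 x mx y my hxy)
        (h0 ▸ h3 x mx z mz hxz) (h3 y my z mz hyz)
      refine ⟨c, hc, ?_⟩
      rw [e, h0]
    · obtain ⟨c, hc, e⟩ := key x z (h2 x mx) (h2 z mz) (h0 ▸ h3 y my x mx hxy.symm)
        (h0 ▸ h3 y my z mz hyz) (h3 x mx z mz hxz)
      refine ⟨c, hc, ?_⟩
      rw [e, h0]
      ext t
      simp only [Finset.mem_insert, Finset.mem_singleton]
      tauto
    · obtain ⟨c, hc, e⟩ := key x y (h2 x mx) (h2 y my) (h0 ▸ h3 z mz x mx hxz.symm)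
        (h0 ▸ h3 z mz y my hyz.symm) (h3 x mx y my hxy)
      refine ⟨c, hc, ?_⟩
      rw [e, h0]
      ext t
      simp only [Finset.mem_insert, Finset.mem_singleton]
      tauto
  · rintro ⟨b, ⟨hb, hd, _⟩, rfl⟩
    refine ⟨ψ_mem _ _ ho₀ hb hd, ?_⟩
    rw [ψ]
    exact Finset.mem_insert_self _ _

theorem ψ_injOn : Set.InjOn (ψ (fs o₀))
    {b : Finset GolayPt | b ∈ octads ∧ (Disjoint (fs o₀) b ∧ pt 5 ∈ b)} := by
  rintro b ⟨_, hd, h5⟩ b' ⟨_, hd', h5'⟩ h
  have hm : b' ∈ ψ (fs o₀) b := by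
    rw [h, ψ]
    simp
  rw [ψ, Finset.mem_insert, Finset.mem_insert, Finset.mem_singleton] at hm
  rcases hm with hm | hm | hm
  · exact absurd (hm ▸ h5') pt5_notMem
  · exact hm.symm
  · exfalso
    rw [hm, Finset.mem_compl] at h5'
    exact h5' (Finset.mem_union_right _ h5)

theorem count_base : {T : Finset (Finset GolayPt) | T ∈ trios ∧ fs o₀ ∈ T}.ncard = 15 := by
  rw [fiber_eq, Set.InjOn.ncard_image ψ_injOn]
  have h : countK 4096 (fun u => Nat.beq (popcF (encF u)) 8 &&
      (Nat.beq (Nat.land o₀ (encF u)) 0 && tb (encF u) 5)) = 15 := by decide +kernel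
  rw [← h]
  apply ncard_wordsOfWeightK 8 (fun s => Disjoint (fs o₀) s ∧ pt 5 ∈ s)
    (fun m => Nat.beq (Nat.land o₀ m) 0 && tb m 5)
  intro m hm
  rw [Bool.and_eq_true, ← mem_fs_pt (by decide), natBeq_iff,
    Finset.disjoint_iff_inter_eq_empty, ← fs_and, ← fs_zero]
  constructor
  · rintro ⟨h1, h2⟩
    exact ⟨fs_inj (lt_of_le_of_lt Nat.and_le_right hm) (by decide) h1, h2⟩
  · rintro ⟨h1, h2⟩
    refine ⟨?_, h2⟩
    have : o₀ &&& m = 0 := h1
    rw [this]

theorem count_all (o : Finset GolayPt) (ho : o ∈ octads) :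
    {T : Finset (Finset GolayPt) | T ∈ trios ∧ o ∈ T}.ncard = 15 := by
  obtain ⟨g, hg, rfl⟩ := octads_transitive o ho
  rw [← count_base]
  exact ncard_invariant (G := M24) (A := Finset GolayPt) (B := Finset (Finset GolayPt)) trios
    smul_trios (fun a T => a ∈ T)
    (fun k a T => propext (Finset.smul_mem_smul_finset_iff k)) (fun p => p) ⟨g, hg⟩ (fs o₀)

theorem result : (∀ o o' : Finset Cfsg.GolayPt, o ∈ Cfsg.octads → o' ∈ Cfsg.octads → Disjoint o o' → (o ∪ o')ᶜ ∈ Cfsg.octads) ∧ Cfsg.trios.ncard = 3795 := by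
  classical
  refine ⟨part1, ?_⟩
  let tF : Finset (Finset (Finset GolayPt)) := Finset.univ.filter (· ∈ trios)
  let oF : Finset (Finset GolayPt) := Finset.univ.filter (· ∈ octads)
  have htF : ∀ T, T ∈ tF ↔ T ∈ trios := fun T => by simp [tF]
  have hoF : ∀ o, o ∈ oF ↔ o ∈ octads := fun o => by simp [oF]
  have hdc := Finset.sum_card_bipartiteAbove_eq_sum_card_bipartiteBelow (s := tF) (t := oF)
    (fun T o => o ∈ T)
  have hl : ∀ T ∈ tF, (Finset.bipartiteAbove (fun T o => o ∈ T) oF T).card = 3 := by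
    intro T hT
    have hT' := (htF T).mp hT
    have : Finset.bipartiteAbove (fun T o => o ∈ T) oF T = T := by
      ext o
      rw [Finset.mem_bipartiteAbove, hoF]
      exact ⟨fun h => h.2, fun h => ⟨hT'.2.1 o h, h⟩⟩
    rw [this]
    exact hT'.1
  have hr : ∀ o ∈ oF, (Finset.bipartiteBelow (fun T o => o ∈ T) tF o).card = 15 := by
    intro o ho
    rw [← count_all o ((hoF o).mp ho), ← Set.ncard_coe_finset]
    refine congrArg Set.ncard (Set.ext fun T => ?_)
    rw [Finset.mem_coe, Finset.mem_bipartiteBelow, htF]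
    exact Iff.rfl
  rw [Finset.sum_congr rfl hl, Finset.sum_congr rfl hr, Finset.sum_const, Finset.sum_const,
    smul_eq_mul, smul_eq_mul] at hdc
  have hoc : oF.card = 759 := by
    rw [← Cfsg.Agent.Lib.helper3.octads_ncard, ← Set.ncard_coe_finset]
    refine congrArg Set.ncard (Set.ext fun o => ?_)
    rw [Finset.mem_coe, hoF]
  have htc : tF.card = trios.ncard := by
    rw [← Set.ncard_coe_finset]
    refine congrArg Set.ncard (Set.ext fun T => ?_)
    rw [Finset.mem_coe, htF]
  rw [← htc]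
  omega

end Cfsg.Agent.S1557
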