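import Mathlib
import Cfsg.Statements.S3335
import Cfsg.Agent.Lib.helper15.BraidBound
-- import your own Cfsg.Agent.* helpers here

set_option autoImplicit false
open Cfsg

namespace Cfsg.Agent.S3335


open Cfsg.Agent.Lib.helper15

section Bound
variable {G : Type*} [Group G]

structure AltRel (s : ℕ → G) (n : ℕ) : Prop where
  cube : s 0 * s 0 * s 0 = 1
  sq : ∀ i, 1 ≤ i → i < n → s i * s i = 1
  br01 : 1 < n → s 0 * s 1 * s 0 * s 1 * s 0 * s 1 = 1
  braid : ∀ i, 1 ≤ i → i + 1 < n → s i * s (i + 1) * s i = s (i + 1) * s i * s (i + 1)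
  comm : ∀ i j, 1 ≤ i → i + 1 < j → j < n → s i * s j = s j * s i
  inv0 : ∀ j, 2 ≤ j → j < n → s j * s 0 * s j = (s 0)⁻¹

theorem AltRel.mono {s : ℕ → G} {n n' : ℕ} (h : AltRel s n) (hn : n' ≤ n) : AltRel s n' where
  cube := h.cube
  sq i h1 hi := h.sq i h1 (lt_of_lt_of_le hi hn)
  br01 h1 := h.br01 (lt_of_lt_of_le h1 hn)
  braid i h1 hi := h.braid i h1 (lt_of_lt_of_le hi hn)
  comm i j h1 hij hj := h.comm i j h1 hij (lt_of_lt_of_le hj hn)
  inv0 j h2 hj := h.inv0 j h2 (lt_of_lt_of_le hj hn)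

/-- the shifted sequence of involutions -/
def tl (s : ℕ → G) : ℕ → G := fun i => s (i + 1)

theorem AltRel.braidRel {s : ℕ → G} {n : ℕ} (h : AltRel s (n + 1)) : BraidRel (tl s) n where
  sq i hi := h.sq (i + 1) (by omega) (by omega)
  comm i j hij hj := h.comm (i + 1) (j + 1) (by omega) (by omega) (by omega)
  braid i hi := h.braid (i + 1) (by omega) (by omega)

theorem s0_inv {s : ℕ → G} {n : ℕ} (h : AltRel s n) : (s 0)⁻¹ = s 0 * s 0 := by
  rw [inv_eq_iff_mul_eq_one, ← mul_assoc]; exact h.cube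

/-- an involution `u` inverting `a` -/
theorem inv_pass {u a : G} (hu : u * u = 1) (h : u * a * u = a⁻¹) :
    u * a = a⁻¹ * u ∧ u * a⁻¹ = a * u := by
  have h1 : u * a = a⁻¹ * u := by
    calc u * a = u * a * (u * u) := by rw [hu, mul_one]
      _ = (u * a * u) * u := by group
      _ = a⁻¹ * u := by rw [h]
  refine ⟨h1, ?_⟩
  calc u * a⁻¹ = a * (a⁻¹ * u) * a⁻¹ := by group
    _ = a * (u * a) * a⁻¹ := by rw [h1]
    _ = a * u := by group

/-- moving `s 0` (or its inverse) through a descending product of involutions of index `≥ 2` -/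
theorem pass {s : ℕ → G} {n : ℕ} (h : AltRel s (n + 1)) (a m : ℕ) (ha : 1 ≤ a) (hm : a + m ≤ n) :
    (∃ z, (z = s 0 ∨ z = (s 0)⁻¹) ∧ descProd (tl s) a m * s 0 = z * descProd (tl s) a m) ∧
    (∃ z, (z = s 0 ∨ z = (s 0)⁻¹) ∧ descProd (tl s) a m * (s 0)⁻¹ = z * descProd (tl s) a m) := by
  induction m with
  | zero => exact ⟨⟨s 0, Or.inl rfl, by simp [descProd]⟩, ⟨(s 0)⁻¹, Or.inr rfl, by simp [descProd]⟩⟩
  | succ m ih =>
    obtain ⟨⟨z1, hz1, e1⟩, ⟨z2, hz2, e2⟩⟩ := ih (by omega)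
    have hu : tl s (a + m) * tl s (a + m) = 1 := h.sq (a + m + 1) (by omega) (by omega)
    have hinv : tl s (a + m) * s 0 * tl s (a + m) = (s 0)⁻¹ := h.inv0 (a + m + 1) (by omega) (by omega)
    obtain ⟨p1, p2⟩ := inv_pass hu hinv
    have key : ∀ z, (z = s 0 ∨ z = (s 0)⁻¹) → ∃ z', (z' = s 0 ∨ z' = (s 0)⁻¹) ∧
        tl s (a + m) * z = z' * tl s (a + m) := by
      rintro z (rfl | rfl)
      · exact ⟨_, Or.inr rfl, p1⟩
      · exact ⟨_, Or.inl rfl, p2⟩
    constructor
    · obtain ⟨z', hz', e'⟩ := key z1 hz1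
      refine ⟨z', hz', ?_⟩
      rw [descProd_succ, mul_assoc, e1, ← mul_assoc, e', mul_assoc]
    · obtain ⟨z', hz', e'⟩ := key z2 hz2
      refine ⟨z', hz', ?_⟩
      rw [descProd_succ, mul_assoc, e2, ← mul_assoc, e', mul_assoc]


def rho (s : ℕ → G) (n j : ℕ) : G := descProd (tl s) j (n - j)

theorem rho_self (s : ℕ → G) (n : ℕ) : rho s n n = 1 := by
  unfold rho; rw [Nat.sub_self]; rfl

theorem genSub_tl_le (s : ℕ → G) (n : ℕ) : genSub (tl s) n ≤ genSub s (n + 1) := by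
  unfold genSub
  apply Subgroup.closure_mono
  rintro g ⟨i, hi, rfl⟩
  exact ⟨i + 1, by omega, rfl⟩

theorem genSub_mono (s : ℕ → G) {n n' : ℕ} (h : n ≤ n') : genSub s n ≤ genSub s n' := by
  unfold genSub
  apply Subgroup.closure_mono
  rintro g ⟨i, hi, rfl⟩
  exact ⟨i, by omega, rfl⟩

/-- right multiplication of a coset representative by an involution generator -/
theorem rho_mul_tl {s : ℕ → G} {n : ℕ} (h : AltRel s (n + 2)) (j : ℕ) (hj : j ≤ n + 1) (i : ℕ)
    (hi : i < n + 1) :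
    ∃ x ∈ genSub s (n + 1), ∃ j', j' ≤ n + 1 ∧ rho s (n + 1) j * tl s i = x * rho s (n + 1) j' := by
  have hb : BraidRel (tl s) (n + 1) := h.braidRel
  have hmem : rho s (n + 1) j ∈ cosetUnion (tl s) n :=
    ⟨j, hj, 1, (genSub (tl s) n).one_mem, by rw [one_mul]; rfl⟩
  obtain ⟨j', hj', x, hx, e⟩ := cosetUnion_mul_gen hb _ hmem i hi
  exact ⟨x, genSub_tl_le s n hx, j', hj', e⟩

/-- `ρ_0 * s i = s (i-1) * ρ_0` for `2 ≤ i ≤ n` -/
theorem rho_zero_mul {s : ℕ → G} {n : ℕ} (h : AltRel s (n + 1)) (i : ℕ) (hi2 : 2 ≤ i) (hin : i ≤ n) :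
    rho s n 0 * s i = s (i - 1) * rho s n 0 := by
  have hb : BraidRel (tl s) n := h.braidRel
  have := hb.shift 0 n (i - 2) (by omega) (by omega) (by omega)
  unfold rho
  rw [Nat.sub_zero]
  have e1 : tl s (i - 2 + 1) = s i := by unfold tl; congr 1; omega
  have e2 : tl s (i - 2) = s (i - 1) := by unfold tl; congr 1; omega
  rw [e1, e2] at this
  exact this

def cosU (s : ℕ → G) (n : ℕ) : Set G :=
  {g | ∃ x ∈ genSub s n, (∃ j, j ≤ n ∧ g = x * rho s n j) ∨ g = x * rho s n 0 * s 0 ∨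
    g = x * rho s n 0 * s 0 * s 0}


theorem s1_conj {s : ℕ → G} {n : ℕ} (h : AltRel s n) (hn : 1 < n) :
    s 1 * s 0 * s 1 = (s 0)⁻¹ * s 1 * (s 0)⁻¹ ∧ s 1 * (s 0)⁻¹ * s 1 = s 0 * s 1 * s 0 := by
  have hb : s 1 * s 1 = 1 := h.sq 1 (le_refl 1) hn
  have hbi : (s 1)⁻¹ = s 1 := inv_eq_of_mul_eq_one_right hb
  have h3 := h.br01 hn
  have k1 : s 1 * s 0 * s 1 = (s 0)⁻¹ * s 1 * (s 0)⁻¹ := by
    have : s 1 * s 0 * s 1 = (s 0)⁻¹ * (s 1)⁻¹ * (s 0)⁻¹ := by
      calc s 1 * s 0 * s 1 = (s 0)⁻¹ * (s 0 * s 1 * s 0 * s 1 * s 0 * s 1) * (s 1)⁻¹ * (s 0)⁻¹ := by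
            group
        _ = (s 0)⁻¹ * (s 1)⁻¹ * (s 0)⁻¹ := by rw [h3]; group
    rw [this, hbi]
  refine ⟨k1, ?_⟩
  have : s 1 * (s 0)⁻¹ * s 1 = (s 1 * s 0 * s 1)⁻¹ := by
    rw [mul_inv_rev, mul_inv_rev, hbi, mul_assoc]
  rw [this, k1, mul_inv_rev, mul_inv_rev, inv_inv, hbi, mul_assoc]

theorem rho_zero_peel (s : ℕ → G) (n : ℕ) : rho s (n + 1) 0 = rho s (n + 1) 1 * s 1 := by
  unfold rho
  rw [Nat.sub_zero, descProd_peel]
  rfl

theorem mem_s0 (s : ℕ → G) {n : ℕ} (hn : 1 ≤ n) {z : G} (hz : z = s 0 ∨ z = (s 0)⁻¹) :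
    z ∈ genSub s n := by
  rcases hz with rfl | rfl
  · exact mem_genSub s (by omega)
  · exact (genSub s n).inv_mem (mem_genSub s (by omega))

theorem cosU_mul_gen {s : ℕ → G} {n : ℕ} (h : AltRel s (n + 1)) (g : G) (hg : g ∈ cosU s n) (i : ℕ)
    (hi : i ≤ n) : g * s i ∈ cosU s n := by
  obtain ⟨x, hx, hcase⟩ := hg
  have hinv0 := s0_inv h
  rcases Nat.eq_zero_or_pos i with rfl | hipos
  · -- multiplication by `s 0`
    rcases hcase with ⟨j, hj, rfl⟩ | rfl | rfl
    · rcases Nat.eq_zero_or_pos j with rfl | hjpos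
      · exact ⟨x, hx, Or.inr (Or.inl rfl)⟩
      · obtain ⟨⟨z, hz, e⟩, _⟩ := pass h j (n - j) hjpos (by omega)
        refine ⟨x * z, (genSub s n).mul_mem hx (mem_s0 s (by omega) hz), Or.inl ⟨j, hj, ?_⟩⟩
        unfold rho
        rw [mul_assoc, e, mul_assoc]
    · exact ⟨x, hx, Or.inr (Or.inr rfl)⟩
    · refine ⟨x, hx, Or.inl ⟨0, Nat.zero_le _, ?_⟩⟩
      rw [mul_assoc, mul_assoc, mul_assoc, ← mul_assoc (s 0), h.cube, mul_one]
  · -- multiplication by an involution `s i`, `1 ≤ i ≤ n`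
    obtain ⟨n, rfl⟩ : ∃ n', n = n' + 1 := ⟨n - 1, by omega⟩
    rcases hcase with ⟨j, hj, rfl⟩ | rfl | rfl
    · obtain ⟨i', rfl⟩ : ∃ i', i = i' + 1 := ⟨i - 1, by omega⟩
      obtain ⟨y, hy, j', hj', e⟩ := rho_mul_tl h j hj i' (by omega)
      refine ⟨x * y, (genSub s (n + 1)).mul_mem hx hy, Or.inl ⟨j', hj', ?_⟩⟩
      have : s (i' + 1) = tl s i' := rfl
      rw [this, mul_assoc, e, mul_assoc]
    · rcases Nat.lt_or_ge i 2 with hlt | hge
      · have hi1 : i = 1 := by omega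
        subst hi1
        obtain ⟨k1, _⟩ := s1_conj h (by omega)
        obtain ⟨_, ⟨z, hz, e⟩⟩ := pass h 1 (n + 1 - 1) (le_refl 1) (by omega)
        refine ⟨x * z, (genSub s (n + 1)).mul_mem hx (mem_s0 s (by omega) hz), Or.inr (Or.inr ?_)⟩
        have e' : rho s (n + 1) 1 * (s 0)⁻¹ = z * rho s (n + 1) 1 := e
        calc x * rho s (n + 1) 0 * s 0 * s 1
            = x * (rho s (n + 1) 1 * (s 1 * s 0 * s 1)) := by rw [rho_zero_peel]; group
          _ = x * ((rho s (n + 1) 1 * (s 0)⁻¹) * s 1 * (s 0)⁻¹) := by rw [k1]; group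
          _ = x * z * (rho s (n + 1) 1 * s 1) * (s 0)⁻¹ := by rw [e']; group
          _ = x * z * rho s (n + 1) 0 * s 0 * s 0 := by rw [← rho_zero_peel, hinv0]; group
      · have hsq : s i * s i = 1 := h.sq i (by omega) (by omega)
        have hinv : s i * s 0 * s i = (s 0)⁻¹ := h.inv0 i hge (by omega)
        obtain ⟨p1, p2⟩ := inv_pass hsq hinv
        have hsw : s 0 * s i = s i * (s 0)⁻¹ := p2.symm
        have hr := rho_zero_mul h i hge hi
        have hmem : s (i - 1) ∈ genSub s (n + 1) := mem_genSub s (by omega)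
        refine ⟨x * s (i - 1), (genSub s (n + 1)).mul_mem hx hmem, Or.inr (Or.inr ?_)⟩
        calc x * rho s (n + 1) 0 * s 0 * s i
            = x * rho s (n + 1) 0 * (s 0 * s i) := by group
          _ = x * (rho s (n + 1) 0 * s i) * (s 0)⁻¹ := by rw [hsw]; group
          _ = x * s (i - 1) * rho s (n + 1) 0 * s 0 * s 0 := by rw [hr, hinv0]; group
    · rcases Nat.lt_or_ge i 2 with hlt | hge
      · have hi1 : i = 1 := by omega
        subst hi1
        obtain ⟨_, k2⟩ := s1_conj h (by omega)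
        obtain ⟨⟨z, hz, e⟩, _⟩ := pass h 1 (n + 1 - 1) (le_refl 1) (by omega)
        refine ⟨x * z, (genSub s (n + 1)).mul_mem hx (mem_s0 s (by omega) hz), Or.inr (Or.inl ?_)⟩
        have e' : rho s (n + 1) 1 * s 0 = z * rho s (n + 1) 1 := e
        calc x * rho s (n + 1) 0 * s 0 * s 0 * s 1
            = x * (rho s (n + 1) 1 * (s 1 * (s 0 * s 0) * s 1)) := by rw [rho_zero_peel]; group
          _ = x * (rho s (n + 1) 1 * (s 1 * (s 0)⁻¹ * s 1)) := by rw [← hinv0]
          _ = x * ((rho s (n + 1) 1 * s 0) * s 1 * s 0) := by rw [k2]; group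
          _ = x * z * (rho s (n + 1) 1 * s 1) * s 0 := by rw [e']; group
          _ = x * z * rho s (n + 1) 0 * s 0 := by rw [← rho_zero_peel]
      · have hsq : s i * s i = 1 := h.sq i (by omega) (by omega)
        have hinv : s i * s 0 * s i = (s 0)⁻¹ := h.inv0 i hge (by omega)
        obtain ⟨p1, p2⟩ := inv_pass hsq hinv
        have hsw : s 0 * s i = s i * (s 0)⁻¹ := p2.symm
        have hr := rho_zero_mul h i hge hi
        have hmem : s (i - 1) ∈ genSub s (n + 1) := mem_genSub s (by omega)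
        have hcube : (s 0)⁻¹ * (s 0)⁻¹ = s 0 := by
          rw [← mul_inv_rev, inv_eq_iff_mul_eq_one, mul_assoc]
          rw [← mul_assoc] ; exact h.cube
        refine ⟨x * s (i - 1), (genSub s (n + 1)).mul_mem hx hmem, Or.inr (Or.inl ?_)⟩
        calc x * rho s (n + 1) 0 * s 0 * s 0 * s i
            = x * rho s (n + 1) 0 * s 0 * (s 0 * s i) := by group
          _ = x * rho s (n + 1) 0 * s 0 * (s i * (s 0)⁻¹) := by rw [hsw]
          _ = x * rho s (n + 1) 0 * (s 0 * s i) * (s 0)⁻¹ := by group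
          _ = x * rho s (n + 1) 0 * (s i * (s 0)⁻¹) * (s 0)⁻¹ := by rw [hsw]
          _ = x * (rho s (n + 1) 0 * s i) * ((s 0)⁻¹ * (s 0)⁻¹) := by group
          _ = x * (s (i - 1) * rho s (n + 1) 0) * s 0 := by rw [hr, hcube]
          _ = x * s (i - 1) * rho s (n + 1) 0 * s 0 := by group


theorem genSub_le_cosU {s : ℕ → G} {n : ℕ} (h : AltRel s (n + 1)) (g : G)
    (hg : g ∈ genSub s (n + 1)) : g ∈ cosU s n := by
  unfold genSub at hg
  induction hg using Subgroup.closure_induction_right with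
  | one =>
    exact ⟨1, (genSub s n).one_mem, Or.inl ⟨n, le_refl n, by rw [rho_self, mul_one]⟩⟩
  | mul_right x hx y hy ih =>
    obtain ⟨i, hi, rfl⟩ := hy
    exact cosU_mul_gen h x ih i (by omega)
  | mul_inv_cancel x hx y hy ih =>
    obtain ⟨i, hi, rfl⟩ := hy
    rcases Nat.eq_zero_or_pos i with rfl | hpos
    · rw [s0_inv h, ← mul_assoc]
      exact cosU_mul_gen h _ (cosU_mul_gen h x ih 0 (by omega)) 0 (by omega)
    · have : (s i)⁻¹ = s i := inv_eq_of_mul_eq_one_right (h.sq i hpos hi)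
      rw [this]
      exact cosU_mul_gen h x ih i (by omega)

def rep (s : ℕ → G) (n k : ℕ) : G :=
  if k ≤ n then rho s n k else if k = n + 1 then rho s n 0 * s 0 else rho s n 0 * s 0 * s 0

theorem alt_card_le {s : ℕ → G} (n : ℕ) (h : AltRel s n) :
    Finite (genSub s n) ∧ 2 * Nat.card (genSub s n) ≤ (n + 2).factorial := by
  induction n with
  | zero =>
    have : genSub s 0 = ⊥ := by
      unfold genSub
      rw [Subgroup.closure_eq_bot_iff]
      rintro g ⟨i, hi, _⟩
      omega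
    rw [this]
    exact ⟨inferInstance, by simp⟩
  | succ n ih =>
    obtain ⟨hfin, hcard⟩ := ih (h.mono (Nat.le_succ n))
    let F : Fin (n + 3) × genSub s n → G := fun p => (p.2 : G) * rep s n p.1
    have hsub : (genSub s (n + 1) : Set G) ⊆ Set.range F := by
      intro g hg
      obtain ⟨x, hx, hcase⟩ := genSub_le_cosU h g hg
      rcases hcase with ⟨j, hj, rfl⟩ | rfl | rfl
      · refine ⟨(⟨j, by omega⟩, ⟨x, hx⟩), ?_⟩
        show x * rep s n j = _
        unfold rep
        rw [if_pos hj]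
      · refine ⟨(⟨n + 1, by omega⟩, ⟨x, hx⟩), ?_⟩
        show x * rep s n (n + 1) = _
        unfold rep
        rw [if_neg (by omega), if_pos rfl, mul_assoc]
      · refine ⟨(⟨n + 2, by omega⟩, ⟨x, hx⟩), ?_⟩
        show x * rep s n (n + 2) = _
        unfold rep
        rw [if_neg (by omega), if_neg (by omega), mul_assoc, mul_assoc, mul_assoc]
    have hfinR : (Set.range F).Finite := Set.finite_range F
    have hfin' : Finite (genSub s (n + 1)) := (hfinR.subset hsub).to_subtype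
    refine ⟨hfin', ?_⟩
    have h1 : Nat.card (genSub s (n + 1)) ≤ Nat.card (Set.range F) :=
      Nat.card_mono hfinR hsub
    have h2 : Nat.card (Set.range F) ≤ Nat.card (Fin (n + 3) × genSub s n) :=
      Nat.card_le_card_of_surjective (Set.rangeFactorization F) Set.rangeFactorization_surjective
    rw [Nat.card_prod, Nat.card_fin] at h2
    have h3 : Nat.card (genSub s (n + 1)) ≤ (n + 3) * Nat.card (genSub s n) := le_trans h1 h2
    calc 2 * Nat.card (genSub s (n + 1)) ≤ 2 * ((n + 3) * Nat.card (genSub s n)) :=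
          Nat.mul_le_mul_left _ h3
      _ = (n + 3) * (2 * Nat.card (genSub s n)) := by ring
      _ ≤ (n + 3) * (n + 2).factorial := Nat.mul_le_mul_left _ hcard
      _ = (n + 1 + 2).factorial := by rw [Nat.factorial_succ (n + 2)]

end Bound


section Pres

/-- the relators of statement S3335 (with `k = n - 2` generators) -/
abbrev relsA (k : ℕ) : Set (FreeGroup (Fin k)) :=
  {g : FreeGroup (Fin k) | ∃ i : Fin k, i.val = 0 ∧ g = FreeGroup.of i ^ 3} ∪
   {g | ∃ i : Fin k, 1 ≤ i.val ∧ g = FreeGroup.of i ^ 2} ∪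
   {g | ∃ i j : Fin k, j.val = i.val + 1 ∧ g = (FreeGroup.of i * FreeGroup.of j) ^ 3} ∪
   {g | ∃ i j : Fin k, i.val + 1 < j.val ∧ g = (FreeGroup.of i * FreeGroup.of j) ^ 2}

abbrev PA (k : ℕ) := PresentedGroup (relsA k)

theorem relA1 (k : ℕ) (i : Fin k) (hi : i.val = 0) : (PresentedGroup.of i : PA k) ^ 3 = 1 := by
  have h : (FreeGroup.of i ^ 3 : FreeGroup (Fin k)) ∈ relsA k :=
    Or.inl (Or.inl (Or.inl ⟨i, hi, rfl⟩))
  have := PresentedGroup.one_of_mem h
  rwa [map_pow] at this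

theorem relA2 (k : ℕ) (i : Fin k) (hi : 1 ≤ i.val) : (PresentedGroup.of i : PA k) ^ 2 = 1 := by
  have h : (FreeGroup.of i ^ 2 : FreeGroup (Fin k)) ∈ relsA k :=
    Or.inl (Or.inl (Or.inr ⟨i, hi, rfl⟩))
  have := PresentedGroup.one_of_mem h
  rwa [map_pow] at this

theorem relA3 (k : ℕ) (i j : Fin k) (hij : j.val = i.val + 1) :
    ((PresentedGroup.of i : PA k) * PresentedGroup.of j) ^ 3 = 1 := by
  have h : ((FreeGroup.of i * FreeGroup.of j) ^ 3 : FreeGroup (Fin k)) ∈ relsA k :=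
    Or.inl (Or.inr ⟨i, j, hij, rfl⟩)
  have := PresentedGroup.one_of_mem h
  rwa [map_pow, map_mul] at this

theorem relA4 (k : ℕ) (i j : Fin k) (hij : i.val + 1 < j.val) :
    ((PresentedGroup.of i : PA k) * PresentedGroup.of j) ^ 2 = 1 := by
  have h : ((FreeGroup.of i * FreeGroup.of j) ^ 2 : FreeGroup (Fin k)) ∈ relsA k :=
    Or.inr ⟨i, j, hij, rfl⟩
  have := PresentedGroup.one_of_mem h
  rwa [map_pow, map_mul] at this

/-- the generators as a sequence indexed by `ℕ` -/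
def sP (k : ℕ) : ℕ → PA k := fun i => if h : i < k then PresentedGroup.of ⟨i, h⟩ else 1

theorem sP_of_lt (k : ℕ) {i : ℕ} (h : i < k) : sP k i = PresentedGroup.of ⟨i, h⟩ := dif_pos h

theorem braid_of_cube {G : Type*} [Group G] {a b : G} (ha : a * a = 1) (hb : b * b = 1)
    (h : (a * b) ^ 3 = 1) : a * b * a = b * a * b := by
  have hai : a⁻¹ = a := inv_eq_of_mul_eq_one_right ha
  have hbi : b⁻¹ = b := inv_eq_of_mul_eq_one_right hb
  have h3 : a * b * (a * b) * (a * b) = 1 := by rw [← h]; simp [pow_succ]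
  calc a * b * a = (a * b * (a * b) * (a * b)) * b⁻¹ * a⁻¹ * b⁻¹ := by group
    _ = b * a * b := by rw [h3, hai, hbi]; group

theorem comm_of_sq {G : Type*} [Group G] {a b : G} (ha : a * a = 1) (hb : b * b = 1)
    (h : (a * b) ^ 2 = 1) : a * b = b * a := by
  have hai : a⁻¹ = a := inv_eq_of_mul_eq_one_right ha
  have hbi : b⁻¹ = b := inv_eq_of_mul_eq_one_right hb
  have h2 : a * b * (a * b) = 1 := by rw [← h]; simp [pow_succ]
  calc a * b = (a * b * (a * b)) * b⁻¹ * a⁻¹ := by group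
    _ = b * a := by rw [h2, hai, hbi]; group

theorem altRel_sP (k : ℕ) : AltRel (sP k) k where
  cube := by
    by_cases h : 0 < k
    · rw [sP_of_lt k h]
      have := relA1 k ⟨0, h⟩ rfl
      rw [← this]; simp [pow_succ]
    · have : sP k 0 = 1 := dif_neg h
      rw [this]; simp
  sq i h1 hi := by
    rw [sP_of_lt k hi]
    have := relA2 k ⟨i, hi⟩ h1
    rw [← this]; simp [pow_succ]
  br01 h1 := by
    rw [sP_of_lt k (show 0 < k by omega), sP_of_lt k h1]
    have := relA3 k ⟨0, by omega⟩ ⟨1, h1⟩ rfl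
    rw [← this]; simp [pow_succ, mul_assoc]
  braid i h1 hi := by
    have hi' : i < k := by omega
    rw [sP_of_lt k hi', sP_of_lt k hi]
    apply braid_of_cube
    · have := relA2 k ⟨i, hi'⟩ h1
      rw [← this]; simp [pow_succ]
    · have := relA2 k ⟨i + 1, hi⟩ (by simp)
      rw [← this]; simp [pow_succ]
    · exact relA3 k ⟨i, hi'⟩ ⟨i + 1, hi⟩ rfl
  comm i j h1 hij hj := by
    have hi' : i < k := by omega
    rw [sP_of_lt k hi', sP_of_lt k hj]
    apply comm_of_sq
    · have := relA2 k ⟨i, hi'⟩ h1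
      rw [← this]; simp [pow_succ]
    · have := relA2 k ⟨j, hj⟩ (by simp; omega)
      rw [← this]; simp [pow_succ]
    · exact relA4 k ⟨i, hi'⟩ ⟨j, hj⟩ hij
  inv0 j h2 hj := by
    have h0 : 0 < k := by omega
    rw [sP_of_lt k h0, sP_of_lt k hj]
    have hsq := relA4 k ⟨0, h0⟩ ⟨j, hj⟩ (by simp; omega)
    have h2' : (PresentedGroup.of ⟨0, h0⟩ : PA k) * PresentedGroup.of ⟨j, hj⟩ *
        (PresentedGroup.of ⟨0, h0⟩ * PresentedGroup.of ⟨j, hj⟩) = 1 := by
      rw [← hsq]; simp [pow_succ]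
    rw [eq_inv_iff_mul_eq_one]
    calc (PresentedGroup.of ⟨j, hj⟩ : PA k) * PresentedGroup.of ⟨0, h0⟩ * PresentedGroup.of ⟨j, hj⟩ *
          PresentedGroup.of ⟨0, h0⟩
        = (PresentedGroup.of ⟨0, h0⟩)⁻¹ * ((PresentedGroup.of ⟨0, h0⟩ : PA k) *
          PresentedGroup.of ⟨j, hj⟩ * (PresentedGroup.of ⟨0, h0⟩ * PresentedGroup.of ⟨j, hj⟩)) *
          PresentedGroup.of ⟨0, h0⟩ := by group
      _ = 1 := by rw [h2']; group

theorem genSub_sP (k : ℕ) : genSub (sP k) k = ⊤ := by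
  rw [eq_top_iff, ← PresentedGroup.closure_range_of (relsA k)]
  unfold genSub
  apply Subgroup.closure_mono
  rintro g ⟨i, rfl⟩
  exact ⟨i.val, i.2, (sP_of_lt k i.2).symm⟩

theorem PA_card (k : ℕ) : Finite (PA k) ∧ 2 * Nat.card (PA k) ≤ (k + 2).factorial := by
  obtain ⟨hfin, hcard⟩ := alt_card_le k (altRel_sP k)
  rw [genSub_sP] at hfin hcard
  have e : (⊤ : Subgroup (PA k)) ≃ PA k := Subgroup.topEquiv.toEquiv
  refine ⟨Finite.of_equiv _ e, ?_⟩
  rwa [Nat.card_congr e] at hcard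

end Pres



section Perms
open Equiv

/-- the point `a` of `Fin (k+2)` -/
def q (k a : ℕ) : Fin (k + 2) := Fin.ofNat (k + 2) a

theorem q_val (k : ℕ) {a : ℕ} (ha : a < k + 2) : (q k a).val = a := by
  simp [q, Fin.ofNat, Nat.mod_eq_of_lt ha]

theorem q_ne (k : ℕ) {a b : ℕ} (ha : a < k + 2) (hb : b < k + 2) (hab : a ≠ b) : q k a ≠ q k b := by
  intro h
  have := congrArg Fin.val h
  rw [q_val k ha, q_val k hb] at this
  exact hab this

/-- adjacent transposition `(a, a+1)` -/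
def tau (k a : ℕ) : Perm (Fin (k + 2)) := swap (q k a) (q k (a + 1))

theorem tau_sq (k a : ℕ) : tau k a * tau k a = 1 := by
  unfold tau; exact swap_mul_self _ _

theorem swap_comm_of_ne {α : Type*} [DecidableEq α] {x y z t : α} (hxy : x ≠ y) (hzt : z ≠ t)
    (hxz : x ≠ z) (hxt : x ≠ t)
    (hyz : y ≠ z) (hyt : y ≠ t) : swap x y * swap z t = swap z t * swap x y := by
  have hd : (swap x y).Disjoint (swap z t) := by
    apply Equiv.Perm.disjoint_swap_swap
    simp only [List.nodup_cons, List.mem_cons, List.not_mem_nil, or_false, not_or, List.nodup_nil,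
      and_true, not_false_eq_true]
    exact ⟨⟨hxy, hxz, hxt⟩, ⟨hyz, hyt⟩, hzt⟩
  exact hd.commute.eq

theorem tau_comm (k : ℕ) {a b : ℕ} (hab : a + 1 < b) (hb : b ≤ k) :
    tau k a * tau k b = tau k b * tau k a := by
  unfold tau
  apply swap_comm_of_ne <;> apply q_ne <;> omega

theorem swap_cube {α : Type*} [DecidableEq α] [Fintype α] {x y z : α} (hxy : x ≠ y) (hxz : x ≠ z)
    (hyz : y ≠ z) : (swap x y * swap y z) ^ 3 = 1 := by
  have h := Equiv.Perm.isThreeCycle_swap_mul_swap_same hxy.symm hyz hxz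
  rw [swap_comm y x] at h
  rw [← h.orderOf]
  exact pow_orderOf_eq_one _

theorem tau_cube (k : ℕ) {a : ℕ} (ha : a + 1 ≤ k) : (tau k a * tau k (a + 1)) ^ 3 = 1 := by
  unfold tau
  apply swap_cube <;> apply q_ne <;> omega

theorem tau_conj (k : ℕ) (hk : 1 ≤ k) : tau k 0 * tau k 1 * tau k 0 = swap (q k 0) (q k 2) := by
  unfold tau
  have h := swap_mul_swap_mul_swap (x := q k 2) (y := q k 1) (z := q k 0)
    (q_ne k (by omega) (by omega) (by omega)) (q_ne k (by omega) (by omega) (by omega))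
  rw [swap_comm (q k 1) (q k 0), swap_comm (q k 2) (q k 1)] at h
  exact h

theorem sq_of_comm {G : Type*} [Group G] {x y : G} (hx : x * x = 1) (hy : y * y = 1)
    (h : x * y = y * x) : (x * y) ^ 2 = 1 := by
  rw [sq]
  calc x * y * (x * y) = x * (y * x) * y := by group
    _ = x * (x * y) * y := by rw [h]
    _ = (x * x) * (y * y) := by group
    _ = 1 := by rw [hx, hy, one_mul]

/-- images of the generators -/
def gP (k : ℕ) : ℕ → Perm (Fin (k + 2)) :=
  fun i => if i = 0 then tau k 0 * tau k 1 else tau k 0 * tau k (i + 1)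

theorem gP_zero (k : ℕ) : gP k 0 = tau k 0 * tau k 1 := if_pos rfl

theorem gP_pos (k : ℕ) {i : ℕ} (hi : 1 ≤ i) : gP k i = tau k 0 * tau k (i + 1) :=
  if_neg (by omega)

theorem R1 (k : ℕ) (hk : 1 ≤ k) : gP k 0 ^ 3 = 1 := by
  rw [gP_zero]; exact tau_cube k (by omega)

theorem R2 (k : ℕ) {i : ℕ} (hi : 1 ≤ i) (hik : i < k) : gP k i ^ 2 = 1 := by
  rw [gP_pos k hi]
  exact sq_of_comm (tau_sq k 0) (tau_sq k _) (tau_comm k (by omega) (by omega))

theorem gP_mul (k : ℕ) {i j : ℕ} (hi : 1 ≤ i) (hj : 1 ≤ j) (hik : i < k) :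
    gP k i * gP k j = tau k (i + 1) * tau k (j + 1) := by
  rw [gP_pos k hi, gP_pos k hj]
  have hc := tau_comm k (a := 0) (b := i + 1) (by omega) (by omega)
  calc tau k 0 * tau k (i + 1) * (tau k 0 * tau k (j + 1))
      = tau k 0 * (tau k (i + 1) * tau k 0) * tau k (j + 1) := by group
    _ = tau k 0 * (tau k 0 * tau k (i + 1)) * tau k (j + 1) := by rw [hc]
    _ = (tau k 0 * tau k 0) * tau k (i + 1) * tau k (j + 1) := by group
    _ = tau k (i + 1) * tau k (j + 1) := by rw [tau_sq, one_mul]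

theorem gP_zero_mul (k : ℕ) (hk : 1 ≤ k) {j : ℕ} (hj : 1 ≤ j) :
    gP k 0 * gP k j = swap (q k 0) (q k 2) * tau k (j + 1) := by
  rw [gP_zero, gP_pos k hj, ← tau_conj k hk]; group

theorem R3 (k : ℕ) {i j : ℕ} (hij : j = i + 1) (hjk : j < k) : (gP k i * gP k j) ^ 3 = 1 := by
  subst hij
  rcases Nat.eq_zero_or_pos i with rfl | hi
  · rw [gP_zero_mul k (by omega) (le_refl 1)]
    unfold tau
    apply swap_cube <;> apply q_ne <;> omega
  · rw [gP_mul k hi (by omega) (by omega)]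
    exact tau_cube k (by omega)

theorem R4 (k : ℕ) {i j : ℕ} (hij : i + 1 < j) (hjk : j < k) : (gP k i * gP k j) ^ 2 = 1 := by
  rcases Nat.eq_zero_or_pos i with rfl | hi
  · rw [gP_zero_mul k (by omega) (by omega)]
    apply sq_of_comm (swap_mul_self _ _) (tau_sq k _)
    unfold tau
    apply swap_comm_of_ne <;> apply q_ne <;> omega
  · rw [gP_mul k hi (by omega) (by omega)]
    exact sq_of_comm (tau_sq k _) (tau_sq k _) (tau_comm k (by omega) (by omega))


/-- the subgroup generated by the images of the generators -/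
def KA (k : ℕ) : Subgroup (Perm (Fin (k + 2))) := Subgroup.closure {g | ∃ i, i < k ∧ g = gP k i}

theorem gP_mem (k : ℕ) {i : ℕ} (hi : i < k) : gP k i ∈ KA k :=
  Subgroup.subset_closure ⟨i, hi, rfl⟩

theorem sign_tau (k : ℕ) {a : ℕ} (ha : a ≤ k) : Perm.sign (tau k a) = -1 := by
  unfold tau
  exact Perm.sign_swap (q_ne k (by omega) (by omega) (by omega))

theorem KA_le_alt (k : ℕ) : KA k ≤ alternatingGroup (Fin (k + 2)) := by
  unfold KA
  rw [Subgroup.closure_le]
  rintro g ⟨i, hi, rfl⟩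
  rw [SetLike.mem_coe, Equiv.Perm.mem_alternatingGroup]
  rcases Nat.eq_zero_or_pos i with rfl | hpos
  · rw [gP_zero, map_mul, sign_tau k (by omega), sign_tau k (by omega)]; rfl
  · rw [gP_pos k hpos, map_mul, sign_tau k (by omega), sign_tau k (by omega)]; rfl

theorem tau_inv (k a : ℕ) : (tau k a)⁻¹ = tau k a := inv_eq_of_mul_eq_one_right (tau_sq k a)

theorem conj_mem (k : ℕ) {x : Perm (Fin (k + 2))} (hx : x ∈ KA k) :
    tau k 0 * x * (tau k 0)⁻¹ ∈ KA k := by
  unfold KA at hx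
  induction hx using Subgroup.closure_induction with
  | mem g hg =>
    obtain ⟨i, hi, rfl⟩ := hg
    rcases Nat.eq_zero_or_pos i with rfl | hpos
    · have : tau k 0 * gP k 0 * (tau k 0)⁻¹ = (gP k 0)⁻¹ := by
        rw [gP_zero, mul_inv_rev, tau_inv, tau_inv, ← mul_assoc, tau_sq, one_mul]
      rw [this]
      exact (KA k).inv_mem (gP_mem k hi)
    · have : tau k 0 * gP k i * (tau k 0)⁻¹ = gP k i := by
        rw [gP_pos k hpos, tau_inv, ← mul_assoc, tau_sq, one_mul]
        exact (tau_comm k (by omega) (by omega)).symm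
      rw [this]
      exact gP_mem k hi
  | one =>
    have : tau k 0 * 1 * (tau k 0)⁻¹ = 1 := by group
    rw [this]; exact (KA k).one_mem
  | mul x y _ _ ihx ihy =>
    have : tau k 0 * (x * y) * (tau k 0)⁻¹ =
        (tau k 0 * x * (tau k 0)⁻¹) * (tau k 0 * y * (tau k 0)⁻¹) := by group
    rw [this]; exact (KA k).mul_mem ihx ihy
  | inv x _ ih =>
    have : tau k 0 * x⁻¹ * (tau k 0)⁻¹ = (tau k 0 * x * (tau k 0)⁻¹)⁻¹ := by group
    rw [this]; exact (KA k).inv_mem ih

theorem tau_decomp (k : ℕ) {a : ℕ} (ha : a ≤ k) : ∃ y ∈ KA k, tau k a = tau k 0 * y := by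
  rcases Nat.lt_or_ge a 2 with h2 | h2
  · rcases Nat.eq_zero_or_pos a with rfl | hpos
    · exact ⟨1, (KA k).one_mem, by rw [mul_one]⟩
    · have : a = 1 := by omega
      subst this
      exact ⟨gP k 0, gP_mem k (by omega), by rw [gP_zero, ← mul_assoc, tau_sq, one_mul]⟩
  · refine ⟨gP k (a - 1), gP_mem k (by omega), ?_⟩
    rw [gP_pos k (by omega), ← mul_assoc, tau_sq, one_mul]
    congr 1
    omega

theorem adj_eq (k : ℕ) (i : Fin (k + 1)) :
    (swap i.castSucc i.succ : Perm (Fin (k + 1 + 1))) = tau k i.val := by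
  unfold tau
  have h1 : (i.castSucc : Fin (k + 1 + 1)) = q k i.val := by
    apply Fin.ext
    rw [q_val k (by omega)]
    rfl
  have h2 : (i.succ : Fin (k + 1 + 1)) = q k (i.val + 1) := by
    apply Fin.ext
    rw [q_val k (by omega)]
    rfl
  rw [h1, h2]

theorem cover (k : ℕ) (g : Perm (Fin (k + 2))) : g ∈ KA k ∨ g * tau k 0 ∈ KA k := by
  have hg : g ∈ Submonoid.closure (Set.range fun i : Fin (k + 1) =>
      (swap i.castSucc i.succ : Perm (Fin (k + 1 + 1)))) := by
    rw [Equiv.Perm.mclosure_swap_castSucc_succ]; trivial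
  induction hg using Submonoid.closure_induction_left with
  | one => exact Or.inl (KA k).one_mem
  | mul_left x hx y _ ih =>
    obtain ⟨i, rfl⟩ := hx
    obtain ⟨z, hz, e⟩ := tau_decomp k (a := i.val) (by omega)
    show swap i.castSucc i.succ * y ∈ KA k ∨ swap i.castSucc i.succ * y * tau k 0 ∈ KA k
    rw [adj_eq, e]
    rcases ih with h | h
    · right
      have : tau k 0 * z * y * tau k 0 = tau k 0 * (z * y) * (tau k 0)⁻¹ := by
        rw [tau_inv]; group
      rw [this]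
      exact conj_mem k ((KA k).mul_mem hz h)
    · left
      have : tau k 0 * z * y = tau k 0 * (z * (y * tau k 0)) * (tau k 0)⁻¹ := by group
      rw [this]
      exact conj_mem k ((KA k).mul_mem hz h)

theorem KA_eq (k : ℕ) : KA k = alternatingGroup (Fin (k + 2)) := by
  classical
  apply Subgroup.eq_of_le_of_card_ge (KA_le_alt k)
  have hA : 2 * Nat.card (alternatingGroup (Fin (k + 2))) = (k + 2).factorial := by
    have := two_mul_card_alternatingGroup (α := Fin (k + 2))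
    rw [Fintype.card_perm, Fintype.card_fin] at this
    rw [Nat.card_eq_fintype_card]; exact this
  let φ : Perm (Fin (k + 2)) → (KA k) ⊕ (KA k) := fun g =>
    if h : g ∈ KA k then Sum.inl ⟨g, h⟩ else Sum.inr ⟨g * tau k 0, (cover k g).resolve_left h⟩
  have hφ : Function.Injective φ := by
    intro g1 g2 h12
    by_cases h1 : g1 ∈ KA k <;> by_cases h2 : g2 ∈ KA k
    · simp only [φ, dif_pos h1, dif_pos h2, Sum.inl.injEq, Subtype.mk.injEq] at h12
      exact h12
    · simp only [φ, dif_pos h1, dif_neg h2] at h12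
      exact absurd h12 (by simp)
    · simp only [φ, dif_neg h1, dif_pos h2] at h12
      exact absurd h12 (by simp)
    · simp only [φ, dif_neg h1, dif_neg h2, Sum.inr.injEq, Subtype.mk.injEq] at h12
      exact mul_right_cancel h12
  have hle := Nat.card_le_card_of_injective φ hφ
  rw [Nat.card_sum, Nat.card_eq_fintype_card (α := Perm (Fin (k + 2))), Fintype.card_perm,
    Fintype.card_fin] at hle
  omega

end Perms


section Final
open Equiv

/-- generator images indexed by `Fin k` -/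
def fgen (k : ℕ) : Fin k → Perm (Fin (k + 2)) := fun i => gP k i.val

theorem hrelA (k : ℕ) : ∀ r ∈ relsA k, FreeGroup.lift (fgen k) r = 1 := by
  intro r hr
  rcases hr with ((⟨i, hi, rfl⟩ | ⟨i, hi, rfl⟩) | ⟨i, j, hij, rfl⟩) | ⟨i, j, hij, rfl⟩
  · rw [map_pow, FreeGroup.lift_apply_of]
    show gP k i.val ^ 3 = 1
    rw [hi]
    exact R1 k (by have := i.2; omega)
  · rw [map_pow, FreeGroup.lift_apply_of]
    exact R2 k hi i.2
  · rw [map_pow, map_mul, FreeGroup.lift_apply_of, FreeGroup.lift_apply_of]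
    exact R3 k hij j.2
  · rw [map_pow, map_mul, FreeGroup.lift_apply_of, FreeGroup.lift_apply_of]
    exact R4 k hij j.2

def fA (k : ℕ) : PA k →* Perm (Fin (k + 2)) := PresentedGroup.toGroup (hrelA k)

theorem fA_of (k : ℕ) (i : Fin k) : fA k (PresentedGroup.of i) = gP k i.val :=
  PresentedGroup.toGroup.of (hrelA k)

theorem fA_range (k : ℕ) : (fA k).range = alternatingGroup (Fin (k + 2)) := by
  rw [← KA_eq, MonoidHom.range_eq_map, ← PresentedGroup.closure_range_of, MonoidHom.map_closure]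
  unfold KA
  congr 1
  ext g
  constructor
  · rintro ⟨_, ⟨i, rfl⟩, rfl⟩
    exact ⟨i.val, i.2, fA_of k i⟩
  · rintro ⟨i, hi, rfl⟩
    exact ⟨PresentedGroup.of ⟨i, hi⟩, ⟨⟨i, hi⟩, rfl⟩, fA_of k ⟨i, hi⟩⟩

theorem main (k : ℕ) : Nonempty (PA k ≃* alternatingGroup (Fin (k + 2))) := by
  classical
  obtain ⟨hfin, hcard⟩ := PA_card k
  have hA : 2 * Nat.card (alternatingGroup (Fin (k + 2))) = (k + 2).factorial := by
    have := two_mul_card_alternatingGroup (α := Fin (k + 2))
    rw [Fintype.card_perm, Fintype.card_fin] at this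
    rw [Nat.card_eq_fintype_card]; exact this
  have hsurj : Function.Surjective (fA k).rangeRestrict := (fA k).rangeRestrict_surjective
  have hbij : Function.Bijective (fA k).rangeRestrict :=
    hsurj.bijective_of_nat_card_le (by rw [fA_range]; omega)
  exact ⟨(MulEquiv.ofBijective _ hbij).trans (MulEquiv.subgroupCongr (fA_range k))⟩

end Final



/-- A presentation of the alternating group of degree n ≥ 3 on generators x_1, …, x_{n−2} (indexed here by 0, …, n−3): the first generator cubes to 1, every other generator squares to 1, the product of two consecutive generators has order dividing 3, and the product of two generators at distance at least 2 has order dividing 2. The group so presented is isomorphic to the alternating group of degree n. -/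
theorem result (n : ℕ) (hn : 3 ≤ n) :
    Nonempty (PresentedGroup
      ({g : FreeGroup (Fin (n - 2)) | ∃ i : Fin (n - 2), i.val = 0 ∧ g = FreeGroup.of i ^ 3} ∪
       {g | ∃ i : Fin (n - 2), 1 ≤ i.val ∧ g = FreeGroup.of i ^ 2} ∪
       {g | ∃ i j : Fin (n - 2), j.val = i.val + 1 ∧ g = (FreeGroup.of i * FreeGroup.of j) ^ 3} ∪
       {g | ∃ i j : Fin (n - 2), i.val + 1 < j.val ∧ g = (FreeGroup.of i * FreeGroup.of j) ^ 2})
      ≃* alternatingGroup (Fin n)) := by
  obtain ⟨k, rfl⟩ : ∃ k, n = k + 2 := ⟨n - 2, by omega⟩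
  exact main k

end Cfsg.Agent.S3335
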