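import Cfsg.Statements.S2644
import Cfsg.Agent.Lib.Helper28.UGen
import Cfsg.Agent.Lib.Helper28.UHerm

set_option autoImplicit false
open Cfsg

namespace Cfsg.Agent.S2644

open Matrix Cfsg.Agent.Lib.Helper28 Cfsg.Agent.Lib.Helper28.UForm Cfsg.Agent.Lib.Helper28.UGen

theorem char_tv {n : ℕ} {F : Type*} [Field F] {σ : F ≃+* F}
    {f : (Fin n → F) → (Fin n → F) → F} (hf : Cfsg.Geo.IsUnitaryForm σ f)
    (M : Matrix (Fin n) (Fin n) F) (hrank : (M - 1).rank = 1) (hsq : (M - 1) * (M - 1) = 0)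
    (hiso : ∀ x y, f (M *ᵥ x) (M *ᵥ y) = f x y) :
    ∃ (a : Fin n → F) (c : F), a ≠ 0 ∧ f a a = 0 ∧ c ≠ 0 ∧ σ c = -c ∧
      ∀ x, M *ᵥ x = x + f x (c • a) • a := by
  unfold Matrix.rank at hrank
  rw [finrank_eq_one_iff'] at hrank
  obtain ⟨⟨a, ha_mem⟩, ha0, hall⟩ := hrank
  have ha0' : a ≠ 0 := by
    intro h
    apply ha0
    exact Subtype.ext h
  obtain ⟨x₀, hx₀⟩ := ha_mem
  rw [Matrix.mulVecLin_apply] at hx₀
  have hM : ∀ x, M *ᵥ x = x + (M - 1) *ᵥ x := by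
    intro x
    rw [Matrix.sub_mulVec, Matrix.one_mulVec]
    abel
  have hAa : (M - 1) *ᵥ a = 0 := by
    rw [← hx₀, Matrix.mulVec_mulVec, hsq, Matrix.zero_mulVec]
  have hex : ∀ x, ∃ c : F, (M - 1) *ᵥ x = c • a := by
    intro x
    obtain ⟨c, hc⟩ := hall ⟨(M - 1) *ᵥ x, ⟨x, by rw [Matrix.mulVecLin_apply]⟩⟩
    refine ⟨c, ?_⟩
    have := congrArg Subtype.val hc
    simpa using this.symm
  have haa : f a a = 0 := by
    have h := hiso x₀ a
    rw [hM x₀, hM a, hAa, add_zero, hx₀, hf.add_left] at h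
    linear_combination h
  obtain ⟨β, hβ⟩ : ∃ β, β = f a x₀ := ⟨_, rfl⟩
  have key : ∀ x c, (M - 1) *ᵥ x = c • a → f x a + c * β = 0 := by
    intro x c hc
    have h := hiso x x₀
    rw [hM x, hM x₀, hx₀, hc, hf.add_left, f_add_right hf, f_add_right hf, hf.smul_left,
      hf.smul_left, haa, ← hβ] at h
    linear_combination h
  have hσβ : σ β = -β := by
    have h := key x₀ 1 (by rw [hx₀, one_smul])
    rw [hf.herm x₀ a, ← hβ] at h
    linear_combination h
  have hβ0 : β ≠ 0 := by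
    intro h0
    obtain ⟨⟨w, hw⟩, _⟩ := hf.nondegenerate a ha0'
    obtain ⟨c, hc⟩ := hex w
    have h := key w c hc
    rw [h0, mul_zero, add_zero] at h
    exact hw h
  refine ⟨a, 1 / β, ha0', haa, one_div_ne_zero hβ0, ?_, ?_⟩
  · rw [map_div₀, map_one, hσβ]
    field_simp
  · intro x
    obtain ⟨c, hc⟩ := hex x
    have h := key x c hc
    rw [hM, hc, f_smul_right hf, map_div₀, map_one, hσβ]
    congr 1
    have : c = 1 / -β * f x a := by
      field_simp
      linear_combination h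
    rw [this]

/-- In the special unitary group SU_n(q) with n ≥ 3 (isometries of Σ u_i v_i^q of determinant one over the field with q² elements), any two transvections (elements t with t − 1 of rank one and square zero) are conjugate. -/
theorem result {K : Type*} [Field K] [Fintype K] {q n : ℕ} (hK : Fintype.card K = q ^ 2) (hn : 3 ≤ n) (s t : ↥(Cfsg.SU n K q)) (hs : Cfsg.IsTransvection (((s : GL (Fin n) K) : Matrix (Fin n) (Fin n) K))) (ht : Cfsg.IsTransvection (((t : GL (Fin n) K) : Matrix (Fin n) (Fin n) K))) : IsConj s t := by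
  classical
  obtain ⟨σ, hσ, hf⟩ := UHerm.herm_unitary hK n
  have hs1 : ((s : GL (Fin n) K) : Matrix (Fin n) (Fin n) K) =
    ((s : Matrix.SpecialLinearGroup (Fin n) K) : Matrix (Fin n) (Fin n) K) := rfl
  have ht1 : ((t : GL (Fin n) K) : Matrix (Fin n) (Fin n) K) =
    ((t : Matrix.SpecialLinearGroup (Fin n) K) : Matrix (Fin n) (Fin n) K) := rfl
  rw [hs1] at hs
  rw [ht1] at ht
  obtain ⟨a, c, ha0, haa, hc0, hc, hS⟩ := char_tv hf _ hs.1 hs.2 (fun x y => s.2 x y)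
  obtain ⟨a', c', ha'0, ha'a', hc'0, hc', hT⟩ := char_tv hf _ ht.1 ht.2 (fun x y => t.2 x y)
  have hfix : σ (c' / c) = c' / c := by
    rw [map_div₀, hc, hc', neg_div_neg_eq]
  obtain ⟨μ, hμ⟩ := norm_surj hf (c' / c) hfix
  have hμ0 : μ ≠ 0 := by
    intro h
    rw [h, zero_mul] at hμ
    exact div_ne_zero hc'0 hc0 hμ.symm
  obtain ⟨r, hr, hra⟩ := h1 hf e0 nd_e0 (by omega) a (μ • a') ha0 (smul_ne_zero hμ0 ha'0) haa
    (by rw [hf.smul_left, f_smul_right hf, ha'a', mul_zero, mul_zero]) (perp_e0 _) (perp_e0 _)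
  have hrGA := Ra_le_GA hf e0 hr
  rw [isConj_iff]
  refine ⟨⟨⟨(r : Matrix (Fin n) (Fin n) K), det_of_SL r hrGA.2.1⟩, fun u v => hrGA.1 u v⟩, ?_⟩
  rw [mul_inv_eq_iff_eq_mul]
  apply Subtype.ext
  apply Subtype.ext
  change (r : Matrix (Fin n) (Fin n) K) * ((s : Matrix.SpecialLinearGroup (Fin n) K) :
    Matrix (Fin n) (Fin n) K) = ((t : Matrix.SpecialLinearGroup (Fin n) K) :
    Matrix (Fin n) (Fin n) K) * (r : Matrix (Fin n) (Fin n) K)
  apply Matrix.ext_of_mulVec_single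
  intro i
  rw [← Matrix.mulVec_mulVec, ← Matrix.mulVec_mulVec, hS, hT, Matrix.mulVec_add,
    Matrix.mulVec_smul, hra]
  congr 1
  rw [← hrGA.1 (Pi.single i 1) (c • a), Matrix.mulVec_smul, hra, f_smul_right hf,
    f_smul_right hf, f_smul_right hf, smul_smul]
  congr 1
  have h2 : σ c * (c' / c) = σ c' := by
    rw [hc, hc']
    field_simp
  have h3 : σ c * (σ μ * Cfsg.hermForm n K q ((r : Matrix (Fin n) (Fin n) K) *ᵥ Pi.single i 1) a') * μ =
      σ c * (μ * σ μ) * Cfsg.hermForm n K q ((r : Matrix (Fin n) (Fin n) K) *ᵥ Pi.single i 1) a' := by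
    ring
  rw [h3, hμ, h2]

end Cfsg.Agent.S2644
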