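import Cfsg.Statements.S1631
import Cfsg.Agent.S2644
import Cfsg.Agent.S0780

set_option autoImplicit false
open scoped MatrixGroups
open Cfsg

namespace Cfsg.Agent.S1631

open Matrix Cfsg.Agent.Lib.Helper28 Cfsg.Agent.Lib.Helper28.UForm Cfsg.Agent.Lib.Helper28.UGen

theorem rank_one_of_formula {n : ℕ} {F : Type*} [Field F] (M : Matrix (Fin n) (Fin n) F)
    (a : Fin n → F) (ha : a ≠ 0) (φ : (Fin n → F) → F) (hM : ∀ x, M *ᵥ x = x + φ x • a)
    (x₁ : Fin n → F) (hx₁ : φ x₁ ≠ 0) : (M - 1).rank = 1 := by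
  unfold Matrix.rank
  have hA : ∀ x, (M - 1) *ᵥ x = φ x • a := by
    intro x
    rw [Matrix.sub_mulVec, hM, Matrix.one_mulVec]
    abel
  have hrange : LinearMap.range (M - 1).mulVecLin = Submodule.span F {a} := by
    apply le_antisymm
    · rintro _ ⟨x, rfl⟩
      rw [Matrix.mulVecLin_apply, hA]
      exact Submodule.smul_mem _ _ (Submodule.mem_span_singleton_self a)
    · rw [Submodule.span_singleton_le_iff_mem]
      refine ⟨(φ x₁)⁻¹ • x₁, ?_⟩
      rw [Matrix.mulVecLin_apply, Matrix.mulVec_smul, hA, smul_smul, inv_mul_cancel₀ hx₁,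
        one_smul]
  rw [hrange, finrank_span_singleton ha]

theorem sq_zero {n : ℕ} {F : Type*} [Field F] (M : Matrix (Fin n) (Fin n) F)
    (hrank : (M - 1).rank = 1) (hdet : M.det = 1) : (M - 1) * (M - 1) = 0 := by
  unfold Matrix.rank at hrank
  rw [finrank_eq_one_iff'] at hrank
  obtain ⟨⟨a, ha_mem⟩, ha0, hall⟩ := hrank
  have hex : ∀ x, ∃ c : F, (M - 1) *ᵥ x = c • a := by
    intro x
    obtain ⟨c, hc⟩ := hall ⟨(M - 1) *ᵥ x, ⟨x, by rw [Matrix.mulVecLin_apply]⟩⟩
    refine ⟨c, ?_⟩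
    have := congrArg Subtype.val hc
    simpa using this.symm
  choose φ hφ using fun j => hex (Pi.single j 1)
  have hA : M - 1 = Matrix.vecMulVec a φ := by
    ext i j
    have := congrFun (hφ j) i
    rw [Matrix.mulVec_single_one] at this
    rw [Matrix.vecMulVec_apply, mul_comm]
    simpa using this
  have hve := Matrix.vecMulVec_eq (Fin 1) a φ
  have hM : M = 1 + Matrix.vecMulVec a φ := by
    rw [← hA]
    abel
  rw [hM, hve, Matrix.det_one_add_replicateCol_mul_replicateRow] at hdet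
  have hφa : φ ⬝ᵥ a = 0 := by linear_combination hdet
  rw [hA, Matrix.vecMulVec_mul_vecMulVec, hφa]
  ext i j
  simp [Matrix.vecMulVec_apply]

theorem char2 {F : Type*} [Field F] [Fintype F] (hF : Fintype.card F = 4) : (2 : F) = 0 := by
  have h4 : ((Fintype.card F : ℕ) : F) = 0 := Nat.cast_card_eq_zero F
  rw [hF] at h4
  have h5 : (2 : F) * 2 = 0 := by
    have : ((4 : ℕ) : F) = 2 * 2 := by norm_num
    rw [← this]
    exact h4
  exact mul_self_eq_zero.1 h5

section

variable {n : ℕ} {F : Type*} [Field F] {σ : F ≃+* F}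

theorem su_ext {q : ℕ} (g h : ↥(Cfsg.SU n F q))
    (H : ∀ x, ((g : Matrix.SpecialLinearGroup (Fin n) F) : Matrix (Fin n) (Fin n) F) *ᵥ x =
      ((h : Matrix.SpecialLinearGroup (Fin n) F) : Matrix (Fin n) (Fin n) F) *ᵥ x) : g = h := by
  apply Subtype.ext
  apply Subtype.ext
  apply Matrix.ext_of_mulVec_single
  intro i
  exact H _

theorem su_mul_mv {q : ℕ} (g h : ↥(Cfsg.SU n F q)) (x : Fin n → F) :
    (((g * h : ↥(Cfsg.SU n F q)) : Matrix.SpecialLinearGroup (Fin n) F) :
      Matrix (Fin n) (Fin n) F) *ᵥ x =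
    ((g : Matrix.SpecialLinearGroup (Fin n) F) : Matrix (Fin n) (Fin n) F) *ᵥ
      (((h : Matrix.SpecialLinearGroup (Fin n) F) : Matrix (Fin n) (Fin n) F) *ᵥ x) := by
  rw [Matrix.mulVec_mulVec]
  rfl

theorem su_one_mv {q : ℕ} (x : Fin n → F) :
    (((1 : ↥(Cfsg.SU n F q)) : Matrix.SpecialLinearGroup (Fin n) F) :
      Matrix (Fin n) (Fin n) F) *ᵥ x = x := by
  change (1 : Matrix (Fin n) (Fin n) F) *ᵥ x = x
  rw [Matrix.one_mulVec]

theorem su_iso {q : ℕ} (g : ↥(Cfsg.SU n F q)) (x y : Fin n → F) :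
    Cfsg.hermForm n F q
      (((g : Matrix.SpecialLinearGroup (Fin n) F) : Matrix (Fin n) (Fin n) F) *ᵥ x)
      (((g : Matrix.SpecialLinearGroup (Fin n) F) : Matrix (Fin n) (Fin n) F) *ᵥ y) =
    Cfsg.hermForm n F q x y := g.2 x y

def Fm {q : ℕ} (g : ↥(Cfsg.SU n F q)) (a : Fin n → F) : Prop :=
  ∀ x, ((g : Matrix.SpecialLinearGroup (Fin n) F) : Matrix (Fin n) (Fin n) F) *ᵥ x =
    x + Cfsg.hermForm n F q x a • a

theorem mkT {q : ℕ} (hf : Cfsg.Geo.IsUnitaryForm σ (Cfsg.hermForm n F q)) (h2 : (2 : F) = 0)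
    (a : Fin n → F) (haa : Cfsg.hermForm n F q a a = 0) : ∃ g : ↥(Cfsg.SU n F q), Fm g a := by
  obtain ⟨t, htS, ht⟩ := Cfsg.Agent.S5643.tvGL hf a a haa
  have h1 : σ (1 : F) = -1 := by
    rw [map_one]
    linear_combination h2
  have hiso := Cfsg.Agent.S5643.utv_iso hf a haa 1 h1 t (by
    intro x
    rw [ht, one_smul])
  exact ⟨⟨⟨(t : Matrix (Fin n) (Fin n) F), det_of_SL t htS⟩, fun u v => hiso u v⟩, ht⟩

theorem sq_one {q : ℕ} (hf : Cfsg.Geo.IsUnitaryForm σ (Cfsg.hermForm n F q)) (h2 : (2 : F) = 0)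
    (g : ↥(Cfsg.SU n F q)) (a : Fin n → F) (haa : Cfsg.hermForm n F q a a = 0) (hg : Fm g a) :
    g * g = 1 := by
  apply su_ext
  intro x
  rw [su_mul_mv, su_one_mv, hg, hg, hf.add_left, hf.smul_left, haa, mul_zero, add_zero, add_assoc,
    ← add_smul]
  have : Cfsg.hermForm n F q x a + Cfsg.hermForm n F q x a = 0 := by
    linear_combination (Cfsg.hermForm n F q x a) * h2
  rw [this, zero_smul, add_zero]

theorem conjT {q : ℕ} (g t t' : ↥(Cfsg.SU n F q)) (a : Fin n → F) (ht : Fm t a)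
    (ht' : Fm t' (((g : Matrix.SpecialLinearGroup (Fin n) F) : Matrix (Fin n) (Fin n) F) *ᵥ a)) :
    g * t = t' * g := by
  apply su_ext
  intro x
  rw [su_mul_mv, su_mul_mv, ht, ht', Matrix.mulVec_add, Matrix.mulVec_smul, su_iso g x a]

theorem scaleT {q : ℕ} (hf : Cfsg.Geo.IsUnitaryForm σ (Cfsg.hermForm n F q))
    (t t' : ↥(Cfsg.SU n F q)) (a : Fin n → F) (β : F) (hβ : β * σ β = 1) (ht : Fm t a)
    (ht' : Fm t' (β • a)) : t = t' := by
  apply su_ext
  intro x
  rw [ht, ht', f_smul_right hf, smul_smul]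
  congr 2
  linear_combination (-(Cfsg.hermForm n F q x a)) * hβ

theorem comm_case {q : ℕ} (hf : Cfsg.Geo.IsUnitaryForm σ (Cfsg.hermForm n F q))
    (d e : ↥(Cfsg.SU n F q)) (a b : Fin n → F) (hd : Fm d a) (he : Fm e b)
    (hab : Cfsg.hermForm n F q a b = 0) : d * e = e * d := by
  have hba : Cfsg.hermForm n F q b a = 0 := f_swap_zero hf hab
  apply su_ext
  intro x
  rw [su_mul_mv, su_mul_mv, he, hd, hd, he, hf.add_left, hf.add_left, hf.smul_left, hf.smul_left,
    hab, hba, mul_zero, mul_zero, add_zero, add_zero]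
  abel

end

/-- The unitary transvections of SU(n, 2), n ≥ 4, form a generating conjugacy class of 3-transpositions. -/
theorem result (F : Type) [Field F] [Fintype F] [DecidableEq F] (hF : Fintype.card F = 4) (n : ℕ) (hn : 4 ≤ n) : Cfsg.IsThreeTranspositionClass {g : ↥(Cfsg.SU n F 2) | (((g : Matrix.SpecialLinearGroup (Fin n) F) : Matrix (Fin n) (Fin n) F) - 1).rank = 1} := by
  have hF' : Fintype.card F = 2 ^ 2 := by rw [hF]; norm_num
  obtain ⟨σ, hσ, hf⟩ := UHerm.herm_unitary hF' n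
  have h2 : (2 : F) = 0 := char2 hF
  have formula : ∀ g : ↥(Cfsg.SU n F 2),
      (((g : Matrix.SpecialLinearGroup (Fin n) F) : Matrix (Fin n) (Fin n) F) - 1).rank = 1 →
      ∃ a, a ≠ 0 ∧ Cfsg.hermForm n F 2 a a = 0 ∧ Fm g a := by
    intro g hg
    have hsq := sq_zero _ hg (g : Matrix.SpecialLinearGroup (Fin n) F).2
    obtain ⟨a, c, ha0, haa, hc0, hc, hS⟩ := Cfsg.Agent.S2644.char_tv hf _ hg hsq
      (fun x y => g.2 x y)
    have hc1 : c = 1 := by
      have h3 : c ^ 2 = c := by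
        rw [← hσ, hc]
        linear_combination (-c) * h2
      have h4 : c * (c - 1) = 0 := by linear_combination h3
      rcases mul_eq_zero.1 h4 with h | h
      · exact absurd h hc0
      · exact sub_eq_zero.1 h
    refine ⟨a, ha0, haa, fun x => ?_⟩
    rw [hS, hc1, one_smul]
  have rank1 : ∀ (g : ↥(Cfsg.SU n F 2)) (a : Fin n → F), a ≠ 0 → Fm g a →
      (((g : Matrix.SpecialLinearGroup (Fin n) F) : Matrix (Fin n) (Fin n) F) - 1).rank = 1 := by
    intro g a ha0 hg
    obtain ⟨⟨w, hw⟩, _⟩ := hf.nondegenerate a ha0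
    exact rank_one_of_formula _ a ha0 (fun x => Cfsg.hermForm n F 2 x a) hg w hw
  have norm1 : ∀ β : F, β ≠ 0 → β * σ β = 1 := by
    intro β hβ
    have := FiniteField.pow_card_sub_one_eq_one β hβ
    rw [hF] at this
    rw [hσ]
    linear_combination this
  refine ⟨⟨?_, ?_⟩, ?_, ?_⟩
  · intro d hd
    obtain ⟨a, ha0, haa, hda⟩ := formula d hd
    apply orderOf_eq_prime
    · rw [pow_two]
      exact sq_one hf h2 d a haa hda
    · intro h1
      change (((d : Matrix.SpecialLinearGroup (Fin n) F) : Matrix (Fin n) (Fin n) F) -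
        1).rank = 1 at hd
      rw [h1] at hd
      have : (((1 : ↥(Cfsg.SU n F 2)) : Matrix.SpecialLinearGroup (Fin n) F) :
          Matrix (Fin n) (Fin n) F) = 1 := rfl
      rw [this, sub_self, Matrix.rank_zero] at hd
      exact zero_ne_one hd
  · intro d hd e he
    obtain ⟨a, ha0, haa, hda⟩ := formula d hd
    obtain ⟨b, hb0, hbb, heb⟩ := formula e he
    have hdd := sq_one hf h2 d a haa hda
    have hee := sq_one hf h2 e b hbb heb
    by_cases hab : Cfsg.hermForm n F 2 a b = 0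
    · left
      have hc := comm_case hf d e a b hda heb hab
      calc (d * e) ^ 2 = d * (e * d) * e := by rw [pow_two]; group
        _ = d * (d * e) * e := by rw [hc]
        _ = (d * d) * (e * e) := by group
        _ = 1 := by rw [hdd, hee, one_mul]
    · right
      obtain ⟨β, hβ⟩ : ∃ β, β = Cfsg.hermForm n F 2 a b := ⟨_, rfl⟩
      have hβ0 : β ≠ 0 := by rw [hβ]; exact hab
      have hββ := norm1 β hβ0
      have hba : Cfsg.hermForm n F 2 b a = σ β := by rw [hβ, ← hf.herm]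
      have hdb : ((d : Matrix.SpecialLinearGroup (Fin n) F) : Matrix (Fin n) (Fin n) F) *ᵥ b =
          b + σ β • a := by rw [hda, hba]
      have hea : ((e : Matrix.SpecialLinearGroup (Fin n) F) : Matrix (Fin n) (Fin n) F) *ᵥ a =
          β • (((d : Matrix.SpecialLinearGroup (Fin n) F) : Matrix (Fin n) (Fin n) F) *ᵥ b) := by
        rw [heb, hdb, ← hβ, smul_add, smul_smul, hββ, one_smul]
        abel
      obtain ⟨t₁, ht₁⟩ := mkT hf h2 (((d : Matrix.SpecialLinearGroup (Fin n) F) :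
        Matrix (Fin n) (Fin n) F) *ᵥ b) (by rw [su_iso d b b]; exact hbb)
      obtain ⟨t₂, ht₂⟩ := mkT hf h2 (((e : Matrix.SpecialLinearGroup (Fin n) F) :
        Matrix (Fin n) (Fin n) F) *ᵥ a) (by rw [su_iso e a a]; exact haa)
      have h12 : t₁ = t₂ := scaleT hf t₁ t₂ _ β hββ ht₁ (by rw [← hea]; exact ht₂)
      have c1 : d * e = t₁ * d := conjT d e t₁ b heb ht₁
      have c2 : e * d = t₂ * e := conjT e d t₂ a hda ht₂
      have b1 : d * e * d = t₁ := by rw [c1, mul_assoc, hdd, mul_one]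
      have b2 : e * d * e = t₂ := by rw [c2, mul_assoc, hee, mul_one]
      have hbraid : d * e * d = e * d * e := by rw [b1, b2, h12]
      calc (d * e) ^ 3 = (d * e * d) * (e * d * e) := by rw [pow_succ, pow_two]; group
        _ = (e * d * e) * (e * d * e) := by rw [hbraid]
        _ = e * d * (e * e) * d * e := by group
        _ = e * (d * d) * e := by rw [hee]; group
        _ = 1 := by rw [hdd, mul_one, hee]
  · obtain ⟨u, v, hu, hv, hvu, _, _⟩ := ex_hyp hf (e0 : Fin 0 → (Fin n → F)) nd_e0 (by omega)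
    have hu0 : u ≠ 0 := by
      intro h
      rw [h, f_zero_right hf] at hvu
      exact zero_ne_one hvu
    obtain ⟨d₀, hd₀⟩ := mkT hf h2 u hu
    have hd₀D := rank1 d₀ u hu0 hd₀
    refine ⟨d₀, hd₀D, ?_⟩
    ext g
    change (((g : Matrix.SpecialLinearGroup (Fin n) F) : Matrix (Fin n) (Fin n) F) -
      1).rank = 1 ↔ IsConj d₀ g
    constructor
    · intro hg
      exact Cfsg.Agent.S2644.result hF' (by omega) d₀ g
        ⟨hd₀D, sq_zero _ hd₀D (d₀ : Matrix.SpecialLinearGroup (Fin n) F).2⟩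
        ⟨hg, sq_zero _ hg (g : Matrix.SpecialLinearGroup (Fin n) F).2⟩
    · intro hconj
      rw [isConj_iff] at hconj
      obtain ⟨c, hc⟩ := hconj
      obtain ⟨t', ht'⟩ := mkT hf h2 (((c : Matrix.SpecialLinearGroup (Fin n) F) :
        Matrix (Fin n) (Fin n) F) *ᵥ u) (by rw [su_iso c u u]; exact hu)
      have h1 : c * d₀ = t' * c := conjT c d₀ t' u hd₀ ht'
      have h3 : g = t' := by rw [← hc, h1, mul_assoc, mul_inv_cancel, mul_one]
      rw [h3]
      apply rank1 t' _ _ ht'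
      intro h0
      have := su_iso c v u
      rw [h0, f_zero_right hf, hvu] at this
      exact zero_ne_one this
  · rw [eq_top_iff, ← Cfsg.Agent.S0780.result hF' n (by omega) (by omega),
      Subgroup.closure_le]
    rintro A ⟨v, c, hv, hA⟩
    have hAx : ∀ x, ((A : Matrix.SpecialLinearGroup (Fin n) F) : Matrix (Fin n) (Fin n) F) *ᵥ x =
        x + (c * Cfsg.hermForm n F 2 x v) • v := by
      intro x
      rw [hA, Cfsg.Agent.S0779.utv_mulVec]
    by_cases h0 : c = 0 ∨ v = 0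
    · have hA1 : A = 1 := by
        apply su_ext
        intro x
        rw [hAx, su_one_mv]
        rcases h0 with h | h
        · rw [h, zero_mul, zero_smul, add_zero]
        · rw [h, smul_zero, add_zero]
      rw [hA1]
      exact Subgroup.one_mem _
    · push Not at h0
      apply Subgroup.subset_closure
      obtain ⟨⟨w, hw⟩, _⟩ := hf.nondegenerate v h0.2
      exact rank_one_of_formula _ v h0.2 (fun x => c * Cfsg.hermForm n F 2 x v) hAx w
        (mul_ne_zero h0.1 hw)

end Cfsg.Agent.S1631
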