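import Cfsg.Statements.S0283
import Cfsg.Agent.Lib.Helper28.UMax2
import Cfsg.Agent.Lib.Helper28.UHerm
import Cfsg.Agent.Lib.Helper28.Iwa
import Cfsg.Agent.S0780
import Cfsg.Agent.S0781
import Cfsg.Agent.S1631

set_option autoImplicit false
open Cfsg

namespace Cfsg.Agent.S0283

open Matrix Cfsg.Agent.Lib.Helper28 Cfsg.Agent.Lib.Helper28.UForm Cfsg.Agent.Lib.Helper28.UGen
  Cfsg.Agent.Lib.Helper28.UNd Cfsg.Agent.Lib.Helper28.UMax Cfsg.Agent.S1631

section

variable {n : ℕ} {F : Type*} [Field F] {σ : F ≃+* F} {q : ℕ}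

def Fc (σ : F ≃+* F) (g : ↥(Cfsg.SU n F q)) (a : Fin n → F) (c : F) : Prop :=
  ∀ x, ((g : Matrix.SpecialLinearGroup (Fin n) F) : Matrix (Fin n) (Fin n) F) *ᵥ x =
    x + (σ c * Cfsg.hermForm n F q x a) • a

theorem ofGA (r : Matrix.GeneralLinearGroup (Fin n) F)
    (hr : r ∈ GA (Cfsg.hermForm n F q) (e0 : Fin 0 → (Fin n → F))) :
    ∃ g : ↥(Cfsg.SU n F q), ((g : Matrix.SpecialLinearGroup (Fin n) F) :
      Matrix (Fin n) (Fin n) F) = (r : Matrix (Fin n) (Fin n) F) :=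
  ⟨⟨⟨(r : Matrix (Fin n) (Fin n) F), det_of_SL r hr.2.1⟩, fun u v => hr.1 u v⟩, rfl⟩

theorem mkTc (hf : Cfsg.Geo.IsUnitaryForm σ (Cfsg.hermForm n F q)) (a : Fin n → F)
    (haa : Cfsg.hermForm n F q a a = 0) (c : F) (hc : σ c = -c) :
    ∃ g : ↥(Cfsg.SU n F q), Fc σ g a c := by
  obtain ⟨t, htS, ht⟩ := Cfsg.Agent.S5643.tvGL hf a (c • a) (by
    rw [f_smul_right hf, haa, mul_zero])
  have hiso := Cfsg.Agent.S5643.utv_iso hf a haa c hc t ht
  refine ⟨⟨⟨(t : Matrix (Fin n) (Fin n) F), det_of_SL t htS⟩, fun u v => hiso u v⟩, fun x => ?_⟩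
  change (t : Matrix (Fin n) (Fin n) F) *ᵥ x = _
  rw [ht, f_smul_right hf]

theorem trans_iso [Finite F] (hf : Cfsg.Geo.IsUnitaryForm σ (Cfsg.hermForm n F q)) (hn : 3 ≤ n)
    (u v : Fin n → F) (hu0 : u ≠ 0) (hv0 : v ≠ 0) (hu : Cfsg.hermForm n F q u u = 0)
    (hv : Cfsg.hermForm n F q v v = 0) :
    ∃ g : ↥(Cfsg.SU n F q), ((g : Matrix.SpecialLinearGroup (Fin n) F) :
      Matrix (Fin n) (Fin n) F) *ᵥ u = v := by
  obtain ⟨r, hr, hru⟩ := h1 hf e0 nd_e0 (by omega) u v hu0 hv0 hu hv (perp_e0 _) (perp_e0 _)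
  obtain ⟨g, hg⟩ := ofGA r (Ra_le_GA hf e0 hr)
  exact ⟨g, by rw [hg, hru]⟩

theorem Fc_mul (hf : Cfsg.Geo.IsUnitaryForm σ (Cfsg.hermForm n F q)) (A B : ↥(Cfsg.SU n F q))
    (u : Fin n → F) (hu : Cfsg.hermForm n F q u u = 0) (c d : F) (hA : Fc σ A u c)
    (hB : Fc σ B u d) : Fc σ (A * B) u (c + d) := by
  intro x
  rw [su_mul_mv, hB, hA, hf.add_left, hf.smul_left, hu, mul_zero, add_zero, map_add]
  module

theorem Fc_ext (A B : ↥(Cfsg.SU n F q)) (u : Fin n → F) (c : F) (hA : Fc σ A u c)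
    (hB : Fc σ B u c) : A = B := by
  apply su_ext
  intro x
  rw [hA, hB]

def Tsub (hf : Cfsg.Geo.IsUnitaryForm σ (Cfsg.hermForm n F q)) (u : Fin n → F)
    (hu : Cfsg.hermForm n F q u u = 0) : Subgroup ↥(Cfsg.SU n F q) where
  carrier := {A | ∃ c, σ c = -c ∧ Fc σ A u c}
  one_mem' := ⟨0, by rw [map_zero, neg_zero], fun x => by
    rw [su_one_mv, map_zero, zero_mul, zero_smul, add_zero]⟩
  mul_mem' := by
    rintro A B ⟨c, hc, hA⟩ ⟨d, hd, hB⟩
    exact ⟨c + d, by rw [map_add, hc, hd]; ring, Fc_mul hf A B u hu c d hA hB⟩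
  inv_mem' := by
    rintro A ⟨c, hc, hA⟩
    obtain ⟨B, hB⟩ := mkTc hf u hu (-c) (by rw [map_neg, hc])
    have h1 : A * B = 1 := by
      have h2 := Fc_mul hf A B u hu c (-c) hA hB
      apply su_ext
      intro x
      rw [h2, su_one_mv, add_neg_cancel, map_zero, zero_mul, zero_smul, add_zero]
    rw [inv_eq_of_mul_eq_one_right h1]
    exact ⟨-c, by rw [map_neg, hc], hB⟩

theorem pair_eq (hf : Cfsg.Geo.IsUnitaryForm σ (Cfsg.hermForm n F q))
    (X : Matrix (Fin n) (Fin n) F) (a b : Fin n → F) (haa : Cfsg.hermForm n F q a a = 0)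
    (hbb : Cfsg.hermForm n F q b b = 0) (hba : Cfsg.hermForm n F q b a ≠ 0)
    (hX : ∀ v, Cfsg.hermForm n F q v v = 0 → ∃ l : F, X *ᵥ v = l • v) (la lb : F)
    (hla : X *ᵥ a = la • a) (hlb : X *ᵥ b = lb • b) : la = lb := by
  obtain ⟨κ, hκ0, hκ⟩ := exists_K0 hf
  obtain ⟨c, hcdef⟩ : ∃ c, c = κ / Cfsg.hermForm n F q b a := ⟨_, rfl⟩
  have hcba : c * Cfsg.hermForm n F q b a = κ := by
    rw [hcdef]
    field_simp
  have hc0 : c ≠ 0 := by
    intro h
    rw [h, zero_mul] at hcba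
    exact hκ0 hcba.symm
  have hab : Cfsg.hermForm n F q a b ≠ 0 := f_swap_ne hf hba
  have hiso : Cfsg.hermForm n F q (a + c • b) (a + c • b) = 0 := by
    rw [hf.add_left, f_add_right hf, f_add_right hf, hf.smul_left, hf.smul_left,
      f_smul_right hf, f_smul_right hf, haa, hbb]
    have h1 : σ c * Cfsg.hermForm n F q a b = σ κ := by
      rw [hf.herm a b, ← map_mul, hcba]
    rw [h1, hcba, hκ]
    ring
  obtain ⟨ν, hν⟩ := hX _ hiso
  rw [Matrix.mulVec_add, Matrix.mulVec_smul, hla, hlb] at hν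
  have h1 := congrArg (fun w => Cfsg.hermForm n F q w a) hν
  have h2 := congrArg (fun w => Cfsg.hermForm n F q w b) hν
  simp only [hf.add_left, hf.smul_left, haa, hbb, mul_zero, zero_add, add_zero] at h1 h2
  have e1 : lb = ν := by
    have : (lb - ν) * (c * Cfsg.hermForm n F q b a) = 0 := by linear_combination h1
    rcases mul_eq_zero.1 this with h | h
    · exact sub_eq_zero.1 h
    · exact absurd h (mul_ne_zero hc0 hba)
  have e2 : la = ν := by
    have : (la - ν) * Cfsg.hermForm n F q a b = 0 := by linear_combination h2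
    rcases mul_eq_zero.1 this with h | h
    · exact sub_eq_zero.1 h
    · exact absurd h hab
  rw [e1, e2]

theorem scalar_of_iso [Finite F] (hf : Cfsg.Geo.IsUnitaryForm σ (Cfsg.hermForm n F q))
    (hn : 2 ≤ n) (X : Matrix (Fin n) (Fin n) F)
    (hX : ∀ v, Cfsg.hermForm n F q v v = 0 → ∃ l : F, X *ᵥ v = l • v) :
    ∃ l : F, ∀ w, X *ᵥ w = l • w := by
  obtain ⟨u, v, hu, hv, hvu, _, _⟩ := ex_hyp hf (e0 : Fin 0 → (Fin n → F)) nd_e0 (by omega)
  have hu0 : u ≠ 0 := by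
    intro h
    rw [h, f_zero_right hf] at hvu
    exact zero_ne_one hvu
  obtain ⟨l, hl⟩ := hX u hu
  have claim : ∀ w, Cfsg.hermForm n F q w w = 0 → X *ᵥ w = l • w := by
    intro w hw
    by_cases hw0 : w = 0
    · rw [hw0, Matrix.mulVec_zero, smul_zero]
    obtain ⟨lw, hlw⟩ := hX w hw
    by_cases hwu : Cfsg.hermForm n F q w u = 0
    · have huw : Cfsg.hermForm n F q u w = 0 := f_swap_zero hf hwu
      obtain ⟨z, hzz, _, huz, hzw⟩ := ex_nonperp hf e0 nd_e0 u w hu0 hw0 (perp_e0 _) (perp_e0 _)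
        hu huw
      obtain ⟨lz, hlz⟩ := hX z hzz
      have e1 : l = lz := pair_eq hf X u z hu hzz (f_swap_ne hf huz) hX l lz hl hlz
      have e2 : lz = lw := pair_eq hf X z w hzz hw (f_swap_ne hf hzw) hX lz lw hlz hlw
      rw [hlw, ← e2, ← e1]
    · have e := pair_eq hf X u w hu hw hwu hX l lw hl hlw
      rw [hlw, ← e]
  refine ⟨l, fun w => ?_⟩
  obtain ⟨y₁, y₂, β, h1, h2, _, _, hw⟩ := iso_split hf (e0 : Fin 0 → (Fin n → F)) nd_e0
    (by omega) w (perp_e0 w)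
  rw [hw, Matrix.mulVec_add, Matrix.mulVec_smul, claim y₁ h1, claim y₂ h2, smul_add, smul_comm]

end

/-- PSU_n(q) is simple for n at least 3 and (n, q) other than (3, 2). -/
theorem result {F : Type*} [Field F] [Fintype F] {q : ℕ} (hF : Fintype.card F = q ^ 2) (n : ℕ) (hn : 3 ≤ n) (h : ¬ (n = 3 ∧ q = 2)) : IsSimpleGroup (Cfsg.PSU n F q) := by
  classical
  obtain ⟨σ, hσ, hf⟩ := UHerm.herm_unitary hF n
  have hq2 := UHerm.two_le_q hF
  have hq3 : n = 3 → 3 ≤ q := by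
    intro hn3
    by_contra hcon
    exact h ⟨hn3, by omega⟩
  have h4 : 4 ≤ n ∨ UGen2.TwoSkew σ := by
    by_cases h' : 4 ≤ n
    · exact Or.inl h'
    · right
      exact Cfsg.Agent.S0780.two_skew hF (hq3 (by omega)) σ hσ hf
  have hgen := fun g hiso hSL => UGen2.gen' hf hn h4 g hiso hSL
  obtain ⟨u, v, hu, hv, hvu, _, _⟩ := ex_hyp hf (e0 : Fin 0 → (Fin n → F)) nd_e0 (by omega)
  have hu0 : u ≠ 0 := by
    intro h
    rw [h, f_zero_right hf] at hvu
    exact zero_ne_one hvu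
  obtain ⟨W, hWdef⟩ : ∃ W : Submodule F (Fin n → F), W = Submodule.span F {u} := ⟨_, rfl⟩
  have huW : u ∈ W := by
    rw [hWdef]
    exact Submodule.mem_span_singleton_self u
  have hW0 : W ≠ ⊥ := by
    intro h0
    rw [h0, Submodule.mem_bot] at huW
    exact hu0 huW
  have hW : Cfsg.Geo.IsTotallySingularFor (Cfsg.hermForm n F q) W := by
    intro a ha b hb
    rw [hWdef, Submodule.mem_span_singleton] at ha hb
    obtain ⟨c, rfl⟩ := ha
    obtain ⟨d, rfl⟩ := hb
    rw [hf.smul_left, f_smul_right hf, hu, mul_zero, mul_zero]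
  obtain ⟨Ggl, hGgl⟩ : ∃ Ggl : Subgroup (Matrix.GeneralLinearGroup (Fin n) F),
      Ggl = Cfsg.GU n F q ⊓ Cfsg.Geo.specialLinear (Fin n) F := ⟨_, rfl⟩
  have hG : ∀ g : Matrix.GeneralLinearGroup (Fin n) F, g ∈ Ggl ↔
      (∀ x y, Cfsg.hermForm n F q ((g : Matrix (Fin n) (Fin n) F) *ᵥ x)
        ((g : Matrix (Fin n) (Fin n) F) *ᵥ y) = Cfsg.hermForm n F q x y) ∧
        g ∈ Cfsg.Geo.specialLinear (Fin n) F := by
    intro g
    rw [hGgl, Subgroup.mem_inf]
    exact Iff.rfl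
  have hmaxGL := UMax2.ts_max' hf hgen W hW0 hW Ggl hG
  obtain ⟨φ, hφ⟩ : ∃ φ : ↥(Cfsg.SU n F q) →* Matrix.GeneralLinearGroup (Fin n) F,
      φ = Matrix.SpecialLinearGroup.toGL.comp (Cfsg.SU n F q).subtype := ⟨_, rfl⟩
  have hφval : ∀ B : ↥(Cfsg.SU n F q), ((φ B : Matrix.GeneralLinearGroup (Fin n) F) :
      Matrix (Fin n) (Fin n) F) = ((B : Matrix.SpecialLinearGroup (Fin n) F) :
      Matrix (Fin n) (Fin n) F) := by
    intro B
    rw [hφ]
    rfl
  have hφinj : Function.Injective φ := by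
    intro B C hBC
    apply Subtype.ext
    apply Subtype.ext
    rw [← hφval B, ← hφval C, hBC]
  have hφG : ∀ A : ↥(Cfsg.SU n F q), φ A ∈ Ggl := by
    intro A
    rw [hG]
    constructor
    · intro x y
      rw [hφval]
      exact A.2 x y
    · unfold Cfsg.Geo.specialLinear
      rw [MonoidHom.mem_ker]
      apply Units.ext
      rw [Matrix.GeneralLinearGroup.val_det_apply, hφval]
      exact (A : Matrix.SpecialLinearGroup (Fin n) F).2
  have hGφ : ∀ g ∈ Ggl, ∃ A : ↥(Cfsg.SU n F q), φ A = g := by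
    intro g hg
    rw [hG] at hg
    refine ⟨⟨⟨(g : Matrix (Fin n) (Fin n) F), det_of_SL g hg.2⟩, fun x y => hg.1 x y⟩, ?_⟩
    apply Units.ext
    rw [hφval]
  obtain ⟨H, hHdef⟩ : ∃ H : Subgroup ↥(Cfsg.SU n F q),
      H = (Cfsg.Geo.subspaceStabilizer W).comap φ := ⟨_, rfl⟩
  have hHmem : ∀ A : ↥(Cfsg.SU n F q), A ∈ H → ∃ l : F,
      ((A : Matrix.SpecialLinearGroup (Fin n) F) : Matrix (Fin n) (Fin n) F) *ᵥ u = l • u := by
    intro A hA
    rw [hHdef, Subgroup.mem_comap, mem_stab_iff] at hA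
    have h1 := (hA u).1 huW
    rw [hφval, hWdef, Submodule.mem_span_singleton] at h1
    obtain ⟨l, hl⟩ := h1
    exact ⟨l, hl.symm⟩
  have hmax : ∀ K : Subgroup ↥(Cfsg.SU n F q), H ≤ K → K = H ∨ K = ⊤ := by
    intro K hHK
    have h1 : Cfsg.Geo.subspaceStabilizer W ⊓ Ggl ≤ K.map φ := by
      intro g hg
      obtain ⟨A, hA⟩ := hGφ g hg.2
      refine ⟨A, hHK ?_, hA⟩
      rw [hHdef, Subgroup.mem_comap, hA]
      exact hg.1
    have h2 : K.map φ ≤ Ggl := by
      rintro _ ⟨A, _, rfl⟩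
      exact hφG A
    rcases hmaxGL.2 (K.map φ) h1 h2 with h3 | h3
    · left
      apply le_antisymm _ hHK
      intro k hk
      have h5 : φ k ∈ K.map φ := ⟨k, hk, rfl⟩
      rw [h3] at h5
      rw [hHdef, Subgroup.mem_comap]
      exact h5.1
    · right
      rw [eq_top_iff]
      intro A _
      have h5 : φ A ∈ K.map φ := by
        rw [h3]
        exact hφG A
      obtain ⟨k, hk, hkA⟩ := h5
      rw [← hφinj hkA]
      exact hk
  have hTcomm : ∀ a ∈ Tsub hf u hu, ∀ b ∈ Tsub hf u hu, a * b = b * a := by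
    rintro a ⟨c, _, ha⟩ b ⟨d, _, hb⟩
    have h1 := Fc_mul hf a b u hu c d ha hb
    have h2 := Fc_mul hf b a u hu d c hb ha
    rw [add_comm] at h2
    exact Fc_ext _ _ u _ h1 h2
  have hnorm : ∀ h ∈ H, ∀ t ∈ Tsub hf u hu, h * t * h⁻¹ ∈ Tsub hf u hu := by
    rintro h hh t ⟨c, hc, ht⟩
    obtain ⟨l, hl⟩ := hHmem h hh
    have hskew : σ (c * l * σ l) = -(c * l * σ l) := by
      rw [map_mul, map_mul, hf.involutive, hc]
      ring
    obtain ⟨t', ht'⟩ := mkTc hf u hu (c * l * σ l) hskew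
    have hl0 : l ≠ 0 := by
      intro h0
      have h1 := su_iso h v u
      rw [hl, h0, zero_smul, f_zero_right hf, hvu] at h1
      exact zero_ne_one h1
    have hσl0 : σ l ≠ 0 := by
      intro h0
      apply hl0
      have := congrArg σ h0
      rwa [hf.involutive, map_zero] at this
    have key : h * t = t' * h := by
      apply su_ext
      intro x
      rw [su_mul_mv, su_mul_mv, ht, ht', Matrix.mulVec_add, Matrix.mulVec_smul, hl, smul_smul]
      have h1 := su_iso h x u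
      rw [hl, f_smul_right hf] at h1
      rw [← h1, map_mul, map_mul, hf.involutive]
      congr 2
      ring
    have : h * t * h⁻¹ = t' := by rw [key, mul_assoc, mul_inv_cancel, mul_one]
    rw [this]
    exact ⟨_, hskew, ht'⟩
  have hgenT : Subgroup.closure {x | ∃ g : ↥(Cfsg.SU n F q), ∃ t ∈ Tsub hf u hu,
      x = g * t * g⁻¹} = ⊤ := by
    rw [eq_top_iff, ← Cfsg.Agent.S0780.result hF n hn h, Subgroup.closure_le]
    rintro A ⟨w, c, hw, hA⟩
    have hAx : ∀ x, ((A : Matrix.SpecialLinearGroup (Fin n) F) : Matrix (Fin n) (Fin n) F) *ᵥ x =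
        x + (c * Cfsg.hermForm n F q x w) • w := by
      intro x
      rw [hA, Cfsg.Agent.S0779.utv_mulVec]
    by_cases h0 : c = 0 ∨ w = 0
    · have hA1 : A = 1 := by
        apply su_ext
        intro x
        rw [hAx, su_one_mv]
        rcases h0 with h' | h'
        · rw [h', zero_mul, zero_smul, add_zero]
        · rw [h', smul_zero, add_zero]
      rw [hA1]
      exact Subgroup.one_mem _
    · push Not at h0
      apply Subgroup.subset_closure
      have hcq : c ^ (q - 1) = -1 := by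
        have h1 := (Cfsg.Agent.S0779.result hF n w h0.2 hw c).1 (by
          intro x y
          rw [← hA]
          exact A.2 x y)
        rcases h1 with h1 | h1
        · exact absurd h1 h0.1
        · exact h1
      have hσc : σ c = -c := by
        rw [hσ]
        have : q = (q - 1) + 1 := by omega
        rw [this, pow_succ, hcq]
        ring
      obtain ⟨g, hg⟩ := trans_iso hf hn u w hu0 h0.2 hu hw
      obtain ⟨t, ht⟩ := mkTc hf u hu (σ c) (by rw [hf.involutive, hσc, neg_neg])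
      refine ⟨g, t, ⟨σ c, by rw [hf.involutive, hσc, neg_neg], ht⟩, ?_⟩
      rw [eq_mul_inv_iff_mul_eq]
      apply su_ext
      intro x
      rw [su_mul_mv, su_mul_mv, hAx, ht, Matrix.mulVec_add, Matrix.mulVec_smul, hg,
        hf.involutive, ← hg, su_iso g x u]
  have hperf : commutator ↥(Cfsg.SU n F q) = ⊤ := by
    rw [eq_top_iff, ← Cfsg.Agent.S0780.result hF n hn h, commutator_eq_closure]
    apply Subgroup.closure_mono
    rintro A ⟨w, c, hw, hA⟩
    exact Cfsg.Agent.S0781.result hF n (by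
      by_cases h' : 4 ≤ n
      · exact Or.inl h'
      · right
        exact ⟨by omega, hq3 (by omega)⟩) A w c hw hA
  have hcore : ∀ N : Subgroup ↥(Cfsg.SU n F q), N.Normal → N ≤ H →
      N ≤ Subgroup.center ↥(Cfsg.SU n F q) := by
    intro N hN hNH x hx
    have hX : ∀ w, Cfsg.hermForm n F q w w = 0 → ∃ l : F,
        ((x : Matrix.SpecialLinearGroup (Fin n) F) : Matrix (Fin n) (Fin n) F) *ᵥ w = l • w := by
      intro w hw
      by_cases hw0 : w = 0
      · exact ⟨0, by rw [hw0, Matrix.mulVec_zero, smul_zero]⟩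
      obtain ⟨g, hg⟩ := trans_iso hf hn u w hu0 hw0 hu hw
      have h1 : g⁻¹ * x * g ∈ N := by
        have := hN.conj_mem x hx g⁻¹
        rwa [inv_inv] at this
      obtain ⟨l, hl⟩ := hHmem _ (hNH h1)
      refine ⟨l, ?_⟩
      have h2 : g * (g⁻¹ * x * g) = x * g := by group
      have h3 := congrArg (fun B : ↥(Cfsg.SU n F q) =>
        ((B : Matrix.SpecialLinearGroup (Fin n) F) : Matrix (Fin n) (Fin n) F) *ᵥ u) h2
      change ((((g * (g⁻¹ * x * g) : ↥(Cfsg.SU n F q)) : Matrix.SpecialLinearGroup (Fin n) F) :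
        Matrix (Fin n) (Fin n) F) *ᵥ u) = ((((x * g : ↥(Cfsg.SU n F q)) :
        Matrix.SpecialLinearGroup (Fin n) F) : Matrix (Fin n) (Fin n) F) *ᵥ u) at h3
      rw [su_mul_mv, hl, Matrix.mulVec_smul, hg, su_mul_mv, hg] at h3
      exact h3.symm
    obtain ⟨l, hl⟩ := scalar_of_iso hf (by omega) _ hX
    rw [Subgroup.mem_center_iff]
    intro B
    apply su_ext
    intro y
    rw [su_mul_mv, su_mul_mv, hl, hl, Matrix.mulVec_smul]
  have hnt : ∃ g : ↥(Cfsg.SU n F q), g ≠ 1 := by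
    obtain ⟨κ, hκ0, hκ⟩ := exists_K0 hf
    obtain ⟨t, ht⟩ := mkTc hf u hu κ hκ
    refine ⟨t, fun h1 => ?_⟩
    have h2 := ht v
    rw [h1, su_one_mv, hvu, mul_one] at h2
    have h3 : σ κ • u = 0 := by
      have : v + 0 = v + σ κ • u := by rw [add_zero]; exact h2
      exact (add_left_cancel this).symm
    rcases smul_eq_zero.1 h3 with h4 | h4
    · rw [hκ] at h4
      exact hκ0 (neg_eq_zero.1 h4)
    · exact hu0 h4
  exact Iwa.simple_of_iwasawa H (Tsub hf u hu) hmax hTcomm hnorm hgenT hperf hcore hnt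

end Cfsg.Agent.S0283
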