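import Cfsg.Statements.S4508
import Cfsg.Agent.Lib.Helper29.ScVanish
import Cfsg.Agent.Lib.Helper29.ScDet

set_option autoImplicit false
open Cfsg Cfsg.Agent.Lib.Helper29 Cfsg.Agent.Lib.Helper25

namespace Cfsg.Agent.S4508

/-- Let the finite group G contain an element x of prime order p with C_G(x) = ⟨x⟩, and let t be the number of conjugacy classes of elements of order p. If G has an irreducible character of degree p − 1, then t is even or the commutator subgroup has even index. -/
theorem result {G : Type*} [Group G] [Finite G] (p : ℕ) (hp : p.Prime) (x : G) (hx : orderOf x = p) (hC : Subgroup.centralizer ({x} : Set G) = Subgroup.zpowers x) (t : ℕ) (ht : Nat.card {C : ConjClasses G // ∃ g ∈ C.carrier, orderOf g = p} = t) (χ : Cfsg.IrrCharacter G) (hχ : Cfsg.charDegree (χ : G → ℂ) + 1 = p) : Even t ∨ Even (commutator G).index := by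
  classical
  have : Fact p.Prime := ⟨hp⟩
  have : Fintype G := Fintype.ofFinite _
  by_cases hp2 : p = 2
  · right
    subst hp2
    exact scg_two hx hC
  -- the order of the normalizer
  have hdvd : p ∣ Nat.card ↥(Subgroup.normalizer ((Subgroup.zpowers x : Subgroup G) : Set G)) := by
    have h1 := Subgroup.card_dvd_of_le
      (Subgroup.le_normalizer (H := (Subgroup.zpowers x : Subgroup G)))
    rwa [scg_card hx] at h1
  obtain ⟨e, he'⟩ := hdvd
  have he : Nat.card ↥(Subgroup.normalizer ((Subgroup.zpowers x : Subgroup G) : Set G)) = e * p := by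
    rw [he', mul_comm]
  have hcount := scg_count hx hC t ht e he
  by_cases hte : Even t
  · left
    exact hte
  right
  have hto : Odd t := Nat.not_even_iff_odd.mp hte
  have hpodd : Odd p := hp.eq_two_or_odd'.resolve_left hp2
  have hp3 : 3 ≤ p := by
    have := hp.two_le
    omega
  have hev : Even (t * e) := by
    rw [hcount]
    obtain ⟨k, hk⟩ := hpodd
    exact ⟨k, by omega⟩
  have hee : Even e := by
    rcases Nat.even_mul.mp hev with h1 | h1
    · exact absurd h1 hte
    · exact h1
  have he0 : e ≠ 0 := by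
    rintro rfl
    rw [mul_zero] at hcount
    omega
  have he2 : 2 ≤ e := by
    obtain ⟨k, hk⟩ := hee
    omega
  -- the degree
  have hdeg : (χ : G → ℂ) 1 = (p : ℂ) - 1 := by
    rw [← (charDegree_irr χ).1, ← hχ]
    push_cast
    ring
  have h := scc_setup hx hC
  obtain ⟨hm0, -⟩ := scc_restrict hx h χ hdeg hp2 e he2 he
  obtain ⟨-, hh, hhN, hhe, hhk⟩ := scg_exists_h hx hC e he
  have hvan : ∀ k, 0 < k → k < e → (χ : G → ℂ) (hh ^ k) = 0 := fun k hk0 hke =>
    scv_vanish hx hC χ hm0 (hh ^ k) (Subgroup.pow_mem _ hhN k) (hhk k hk0 hke)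
  -- a representation affording χ
  obtain ⟨n, ρ, -, hρ⟩ := χ.2
  have hA : (ρ hh) ^ e = 1 := by rw [← map_pow, hhe, map_one]
  have htr : ∀ k, 0 < k → k < e →
      LinearMap.trace ℂ (Fin n → ℂ) ((ρ hh) ^ k) = 0 := by
    intro k hk0 hke
    rw [← map_pow]
    have := hvan k hk0 hke
    rw [← hρ] at this
    exact this
  have hfin : Module.finrank ℂ (Fin n → ℂ) = e * t := by
    have h1 : ρ.character 1 = (p : ℂ) - 1 := by rw [hρ]; exact hdeg
    rw [Representation.char_one] at h1
    have h2 : ((p - 1 : ℕ) : ℂ) = (p : ℂ) - 1 := by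
      rw [Nat.cast_sub hp.pos]
      simp
    rw [← h2] at h1
    have h3 := Nat.cast_injective h1
    rw [h3, ← hcount, mul_comm]
  have hdet := scd_det_neg_one (Nat.pos_of_ne_zero he0) hee hA
    (Complex.isPrimitiveRoot_exp e he0) htr t hto hfin
  -- the determinant character
  set δ : G →* ℂˣ := (LinearMap.det.comp ρ).toHomUnits with hδ
  have hδh : ((δ hh : ℂˣ) : ℂ) = -1 := by
    rw [hδ]
    exact hdet
  have hδ1 : δ hh ≠ 1 := by
    intro h1
    rw [h1] at hδh
    norm_num at hδh
  have hδ2 : (δ hh) ^ 2 = 1 := by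
    apply Units.ext
    rw [Units.val_pow_eq_pow_val, hδh]
    norm_num
  have : Fact (Nat.Prime 2) := ⟨Nat.prime_two⟩
  have hord : orderOf (δ hh) = 2 := orderOf_eq_prime hδ2 hδ1
  have hcomm : commutator G ≤ δ.ker := Abelianization.commutator_subset_ker δ
  have heven : Even δ.ker.index := by
    rw [Subgroup.index_ker, even_iff_two_dvd, ← hord]
    have h1 := orderOf_dvd_natCard (⟨δ hh, ⟨hh, rfl⟩⟩ : ↥δ.range)
    rwa [← Subgroup.orderOf_coe] at h1
  exact scg_even_of_le hcomm heven

end Cfsg.Agent.S4508
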