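import Cfsg.Statements.S1575
import Cfsg.Agent.Lib.Lead.ConwayOct

set_option autoImplicit false
open Cfsg

namespace Cfsg.Agent.S1575

/-- The stabiliser of a minimal vector is transitive on the minimal vectors of customary inner product −1 with it. -/
theorem result (v w w' : ↥Cfsg.leechLattice) (hv : Cfsg.sqNorm (v : Cfsg.GolayPt → ℤ) = 32) (hw : Cfsg.sqNorm (w : Cfsg.GolayPt → ℤ) = 32) (hw' : Cfsg.sqNorm (w' : Cfsg.GolayPt → ℤ) = 32) (hd : Cfsg.dotInt (v : Cfsg.GolayPt → ℤ) (w : Cfsg.GolayPt → ℤ) = -8) (hd' : Cfsg.dotInt (v : Cfsg.GolayPt → ℤ) (w' : Cfsg.GolayPt → ℤ) = -8) : ∃ g : ↥Cfsg.Co0, g • v = v ∧ g • w = w' := by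
  obtain ⟨g1, h1v, h1w⟩ := Cfsg.Agent.Lib.Lead.CP.oct_trans v w hv hw hd
  obtain ⟨g2, h2v, h2w⟩ := Cfsg.Agent.Lib.Lead.CP.oct_trans v w' hv hw' hd'
  have hinv : ∀ x y : ↥Cfsg.leechLattice, g1.1 x = g2.1 y → (g2⁻¹ * g1).1 x = y := by
    intro x y h
    show g2⁻¹.1 (g1.1 x) = y
    rw [h]
    show (g2⁻¹ * g2).1 y = y
    rw [inv_mul_cancel]
    rfl
  refine ⟨g2⁻¹ * g1, ?_, ?_⟩
  · exact hinv v v (h1v.trans h2v.symm)
  · exact hinv w w' (h1w.trans h2w.symm)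

end Cfsg.Agent.S1575
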