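import Mathlib
import Cfsg.Statements.S3377
-- import your own Cfsg.Agent.* helpers here

set_option autoImplicit false
open Cfsg

namespace Cfsg.Agent.S3377

/-- the relators -/
abbrev rels : Set (FreeGroup (Fin 2)) :=
  {FreeGroup.of (0 : Fin 2) ^ 3, FreeGroup.of (1 : Fin 2) ^ 5,
    (FreeGroup.of (0 : Fin 2) * FreeGroup.of 1) ^ 2}

abbrev P := PresentedGroup rels

def X : P := PresentedGroup.of 0
def Y : P := PresentedGroup.of 1

lemma relX : X * X * X = 1 := by
  have h : (FreeGroup.of (0 : Fin 2) ^ 3 : FreeGroup (Fin 2)) ∈ rels := by simp [rels]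
  have := PresentedGroup.one_of_mem h
  rw [map_pow] at this
  rw [← this]; simp only [pow_succ, pow_zero, one_mul]; rfl

lemma relY : Y * Y * Y * Y * Y = 1 := by
  have h : (FreeGroup.of (1 : Fin 2) ^ 5 : FreeGroup (Fin 2)) ∈ rels := by simp [rels]
  have := PresentedGroup.one_of_mem h
  rw [map_pow] at this
  rw [← this]; simp only [pow_succ, pow_zero, one_mul]; rfl

lemma relXY : X * Y * X * Y = 1 := by
  have h : ((FreeGroup.of (0 : Fin 2) * FreeGroup.of 1) ^ 2 : FreeGroup (Fin 2)) ∈ rels := by simp [rels]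
  have := PresentedGroup.one_of_mem h
  rw [map_pow, map_mul] at this
  rw [← this]; simp only [pow_succ, pow_zero, one_mul, mul_assoc]; rfl

lemma relYX : Y * X * Y * X = 1 := by
  have h := relXY
  calc Y * X * Y * X = X⁻¹ * (X * Y * X * Y) * X := by group
    _ = 1 := by rw [h]; group

section ded
variable {G : Type*} [Group G]

lemma ded3 {a b h1 h2 h3 : G} (e1 : b * h2 * h3 = a) (e2 : h1 * h2 * h3 = 1) : a * h1 = b := by
  have h : h2 * h3 * h1 = 1 := by
    calc h2 * h3 * h1 = h1⁻¹ * (h1 * h2 * h3) * h1 := by group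
      _ = 1 := by rw [e2]; group
  rw [← e1]
  calc b * h2 * h3 * h1 = b * (h2 * h3 * h1) := by group
    _ = b := by rw [h, mul_one]

lemma ded4 {a b h1 h2 h3 h4 : G} (e1 : b * h2 * h3 * h4 = a) (e2 : h1 * h2 * h3 * h4 = 1) :
    a * h1 = b := by
  have h : h2 * h3 * h4 * h1 = 1 := by
    calc h2 * h3 * h4 * h1 = h1⁻¹ * (h1 * h2 * h3 * h4) * h1 := by group
      _ = 1 := by rw [e2]; group
  rw [← e1]
  calc b * h2 * h3 * h4 * h1 = b * (h2 * h3 * h4 * h1) := by group
    _ = b := by rw [h, mul_one]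

lemma ded5 {a b h1 h2 h3 h4 h5 : G} (e1 : b * h2 * h3 * h4 * h5 = a)
    (e2 : h1 * h2 * h3 * h4 * h5 = 1) : a * h1 = b := by
  have h : h2 * h3 * h4 * h5 * h1 = 1 := by
    calc h2 * h3 * h4 * h5 * h1 = h1⁻¹ * (h1 * h2 * h3 * h4 * h5) * h1 := by group
      _ = 1 := by rw [e2]; group
  rw [← e1]
  calc b * h2 * h3 * h4 * h5 * h1 = b * (h2 * h3 * h4 * h5 * h1) := by group
    _ = b := by rw [h, mul_one]

end ded

def w0 : P := 1
def w1 : P := w0 * X
def w2 : P := w0 * Y
def w3 : P := w1 * X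
def w4 : P := w1 * Y
def w5 : P := w2 * X
def w6 : P := w2 * Y
def w7 : P := w3 * Y
def w8 : P := w4 * X
def w9 : P := w4 * Y
def w10 : P := w5 * X
def w11 : P := w6 * X
def w12 : P := w6 * Y
def w13 : P := w7 * X
def w14 : P := w7 * Y
def w15 : P := w8 * X
def w16 : P := w9 * X
def w17 : P := w9 * Y
def w18 : P := w10 * Y
def w19 : P := w11 * X
def w20 : P := w12 * X
def w21 : P := w13 * X
def w22 : P := w14 * X
def w23 : P := w14 * Y
def w24 : P := w15 * Y
def w25 : P := w16 * X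
def w26 : P := w17 * X
def w27 : P := w18 * Y
def w28 : P := w19 * Y
def w29 : P := w21 * Y
def w30 : P := w22 * X
def w31 : P := w23 * X
def w32 : P := w24 * Y
def w33 : P := w25 * Y
def w34 : P := w27 * X
def w35 : P := w27 * Y
def w36 : P := w28 * Y
def w37 : P := w29 * Y
def w38 : P := w30 * Y
def w39 : P := w32 * X
def w40 : P := w32 * Y
def w41 : P := w33 * Y
def w42 : P := w34 * X
def w43 : P := w35 * X
def w44 : P := w36 * X
def w45 : P := w37 * X
def w46 : P := w37 * Y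
def w47 : P := w38 * Y
def w48 : P := w39 * X
def w49 : P := w40 * X
def w50 : P := w41 * X
def w51 : P := w42 * Y
def w52 : P := w44 * X
def w53 : P := w45 * X
def w54 : P := w46 * X
def w55 : P := w47 * X
def w56 : P := w50 * X
def w57 : P := w51 * Y
def w58 : P := w52 * Y
def w59 : P := w56 * Y

lemma e0X : w0 * X = w1 := rfl
lemma e0Y : w0 * Y = w2 := rfl
lemma e1X : w1 * X = w3 := rfl
lemma e1Y : w1 * Y = w4 := rfl
lemma e2X : w2 * X = w5 := rfl
lemma e2Y : w2 * Y = w6 := rfl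
lemma e3Y : w3 * Y = w7 := rfl
lemma e4X : w4 * X = w8 := rfl
lemma e4Y : w4 * Y = w9 := rfl
lemma e5X : w5 * X = w10 := rfl
lemma e6X : w6 * X = w11 := rfl
lemma e6Y : w6 * Y = w12 := rfl
lemma e7X : w7 * X = w13 := rfl
lemma e7Y : w7 * Y = w14 := rfl
lemma e8X : w8 * X = w15 := rfl
lemma e9X : w9 * X = w16 := rfl
lemma e9Y : w9 * Y = w17 := rfl
lemma e10Y : w10 * Y = w18 := rfl
lemma e11X : w11 * X = w19 := rfl
lemma e12X : w12 * X = w20 := rfl
lemma e13X : w13 * X = w21 := rfl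
lemma e14X : w14 * X = w22 := rfl
lemma e14Y : w14 * Y = w23 := rfl
lemma e15Y : w15 * Y = w24 := rfl
lemma e16X : w16 * X = w25 := rfl
lemma e17X : w17 * X = w26 := rfl
lemma e18Y : w18 * Y = w27 := rfl
lemma e19Y : w19 * Y = w28 := rfl
lemma e21Y : w21 * Y = w29 := rfl
lemma e22X : w22 * X = w30 := rfl
lemma e23X : w23 * X = w31 := rfl
lemma e24Y : w24 * Y = w32 := rfl
lemma e25Y : w25 * Y = w33 := rfl
lemma e27X : w27 * X = w34 := rfl
lemma e27Y : w27 * Y = w35 := rfl
lemma e28Y : w28 * Y = w36 := rfl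
lemma e29Y : w29 * Y = w37 := rfl
lemma e30Y : w30 * Y = w38 := rfl
lemma e32X : w32 * X = w39 := rfl
lemma e32Y : w32 * Y = w40 := rfl
lemma e33Y : w33 * Y = w41 := rfl
lemma e34X : w34 * X = w42 := rfl
lemma e35X : w35 * X = w43 := rfl
lemma e36X : w36 * X = w44 := rfl
lemma e37X : w37 * X = w45 := rfl
lemma e37Y : w37 * Y = w46 := rfl
lemma e38Y : w38 * Y = w47 := rfl
lemma e39X : w39 * X = w48 := rfl
lemma e40X : w40 * X = w49 := rfl
lemma e41X : w41 * X = w50 := rfl
lemma e42Y : w42 * Y = w51 := rfl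
lemma e44X : w44 * X = w52 := rfl
lemma e45X : w45 * X = w53 := rfl
lemma e46X : w46 * X = w54 := rfl
lemma e47X : w47 * X = w55 := rfl
lemma e50X : w50 * X = w56 := rfl
lemma e51Y : w51 * Y = w57 := rfl
lemma e52Y : w52 * Y = w58 := rfl
lemma e56Y : w56 * Y = w59 := rfl

lemma e3X : w3 * X = w0 := by
  have e1 : w0 * X * X = w3 := by rw [e0X, e1X]
  exact ded3 e1 relX
lemma e5Y : w5 * Y = w3 := by
  have e1 : w3 * X * Y * X = w5 := by rw [e3X, e0Y, e2X]
  exact ded4 e1 relYX
lemma e8Y : w8 * Y = w0 := by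
  have e1 : w0 * X * Y * X = w8 := by rw [e0X, e1Y, e4X]
  exact ded4 e1 relYX
lemma e10X : w10 * X = w2 := by
  have e1 : w2 * X * X = w10 := by rw [e2X, e5X]
  exact ded3 e1 relX
lemma e11Y : w11 * Y = w10 := by
  have e1 : w10 * X * Y * X = w11 := by rw [e10X, e2Y, e6X]
  exact ded4 e1 relYX
lemma e12Y : w12 * Y = w8 := by
  have e1 : w8 * Y * Y * Y * Y = w12 := by rw [e8Y, e0Y, e2Y, e6Y]
  exact ded5 e1 relY
lemma e13Y : w13 * Y = w1 := by
  have e1 : w1 * X * Y * X = w13 := by rw [e1X, e3Y, e7X]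
  exact ded4 e1 relYX
lemma e15X : w15 * X = w4 := by
  have e1 : w4 * X * X = w15 := by rw [e4X, e8X]
  exact ded3 e1 relX
lemma e16Y : w16 * Y = w15 := by
  have e1 : w15 * X * Y * X = w16 := by rw [e15X, e4Y, e9X]
  exact ded4 e1 relYX
lemma e17Y : w17 * Y = w13 := by
  have e1 : w13 * Y * Y * Y * Y = w17 := by rw [e13Y, e1Y, e4Y, e9Y]
  exact ded5 e1 relY
lemma e19X : w19 * X = w6 := by
  have e1 : w6 * X * X = w19 := by rw [e6X, e11X]
  exact ded3 e1 relX
lemma e20Y : w20 * Y = w19 := by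
  have e1 : w19 * X * Y * X = w20 := by rw [e19X, e6Y, e12X]
  exact ded4 e1 relYX
lemma e21X : w21 * X = w7 := by
  have e1 : w7 * X * X = w21 := by rw [e7X, e13X]
  exact ded3 e1 relX
lemma e22Y : w22 * Y = w21 := by
  have e1 : w21 * X * Y * X = w22 := by rw [e21X, e7Y, e14X]
  exact ded4 e1 relYX
lemma e23Y : w23 * Y = w5 := by
  have e1 : w5 * Y * Y * Y * Y = w23 := by rw [e5Y, e3Y, e7Y, e14Y]
  exact ded5 e1 relY
lemma e24X : w24 * X = w12 := by
  have e1 : w12 * Y * X * Y = w24 := by rw [e12Y, e8X, e15Y]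
  exact ded4 e1 relXY
lemma e25X : w25 * X = w9 := by
  have e1 : w9 * X * X = w25 := by rw [e9X, e16X]
  exact ded3 e1 relX
lemma e26Y : w26 * Y = w25 := by
  have e1 : w25 * X * Y * X = w26 := by rw [e25X, e9Y, e17X]
  exact ded4 e1 relYX
lemma e29X : w29 * X = w17 := by
  have e1 : w17 * Y * X * Y = w29 := by rw [e17Y, e13X, e21Y]
  exact ded4 e1 relXY
lemma e30X : w30 * X = w14 := by
  have e1 : w14 * X * X = w30 := by rw [e14X, e22X]
  exact ded3 e1 relX
lemma e31Y : w31 * Y = w30 := by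
  have e1 : w30 * X * Y * X = w31 := by rw [e30X, e14Y, e23X]
  exact ded4 e1 relYX
lemma e35Y : w35 * Y = w11 := by
  have e1 : w11 * Y * Y * Y * Y = w35 := by rw [e11Y, e10Y, e18Y, e27Y]
  exact ded5 e1 relY
lemma e40Y : w40 * Y = w16 := by
  have e1 : w16 * Y * Y * Y * Y = w40 := by rw [e16Y, e15Y, e24Y, e32Y]
  exact ded5 e1 relY
lemma e42X : w42 * X = w27 := by
  have e1 : w27 * X * X = w42 := by rw [e27X, e34X]
  exact ded3 e1 relX
lemma e43Y : w43 * Y = w42 := by
  have e1 : w42 * X * Y * X = w43 := by rw [e42X, e27Y, e35X]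
  exact ded4 e1 relYX
lemma e46Y : w46 * Y = w22 := by
  have e1 : w22 * Y * Y * Y * Y = w46 := by rw [e22Y, e21Y, e29Y, e37Y]
  exact ded5 e1 relY
lemma e48X : w48 * X = w32 := by
  have e1 : w32 * X * X = w48 := by rw [e32X, e39X]
  exact ded3 e1 relX
lemma e49Y : w49 * Y = w48 := by
  have e1 : w48 * X * Y * X = w49 := by rw [e48X, e32Y, e40X]
  exact ded4 e1 relYX
lemma e52X : w52 * X = w36 := by
  have e1 : w36 * X * X = w52 := by rw [e36X, e44X]
  exact ded3 e1 relX
lemma e53X : w53 * X = w37 := by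
  have e1 : w37 * X * X = w53 := by rw [e37X, e45X]
  exact ded3 e1 relX
lemma e54Y : w54 * Y = w53 := by
  have e1 : w53 * X * Y * X = w54 := by rw [e53X, e37Y, e46X]
  exact ded4 e1 relYX
lemma e56X : w56 * X = w41 := by
  have e1 : w41 * X * X = w56 := by rw [e41X, e50X]
  exact ded3 e1 relX
lemma e18X : w18 * X = w23 := by
  have e1 : w23 * Y * X * Y = w18 := by rw [e23Y, e5X, e10Y]
  exact ded4 e1 relXY
lemma e20X : w20 * X = w24 := by
  have e1 : w24 * X * X = w20 := by rw [e24X, e12X]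
  exact ded3 e1 relX
lemma e26X : w26 * X = w29 := by
  have e1 : w29 * X * X = w26 := by rw [e29X, e17X]
  exact ded3 e1 relX
lemma e28X : w28 * X = w35 := by
  have e1 : w35 * Y * X * Y = w28 := by rw [e35Y, e11X, e19Y]
  exact ded4 e1 relXY
lemma e31X : w31 * X = w18 := by
  have e1 : w18 * X * X = w31 := by rw [e18X, e23X]
  exact ded3 e1 relX
lemma e33X : w33 * X = w40 := by
  have e1 : w40 * Y * X * Y = w33 := by rw [e40Y, e16X, e25Y]
  exact ded4 e1 relXY
lemma e34Y : w34 * Y = w31 := by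
  have e1 : w31 * X * Y * X = w34 := by rw [e31X, e18Y, e27X]
  exact ded4 e1 relYX
lemma e38X : w38 * X = w46 := by
  have e1 : w46 * Y * X * Y = w38 := by rw [e46Y, e22X, e30Y]
  exact ded4 e1 relXY
lemma e39Y : w39 * Y = w20 := by
  have e1 : w20 * X * Y * X = w39 := by rw [e20X, e24Y, e32X]
  exact ded4 e1 relYX
lemma e43X : w43 * X = w28 := by
  have e1 : w28 * X * X = w43 := by rw [e28X, e35X]
  exact ded3 e1 relX
lemma e44Y : w44 * Y = w43 := by
  have e1 : w43 * X * Y * X = w44 := by rw [e43X, e28Y, e36X]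
  exact ded4 e1 relYX
lemma e45Y : w45 * Y = w26 := by
  have e1 : w26 * X * Y * X = w45 := by rw [e26X, e29Y, e37X]
  exact ded4 e1 relYX
lemma e47Y : w47 * Y = w34 := by
  have e1 : w34 * Y * Y * Y * Y = w47 := by rw [e34Y, e31Y, e30Y, e38Y]
  exact ded5 e1 relY
lemma e49X : w49 * X = w33 := by
  have e1 : w33 * X * X = w49 := by rw [e33X, e40X]
  exact ded3 e1 relX
lemma e50Y : w50 * Y = w49 := by
  have e1 : w49 * X * Y * X = w50 := by rw [e49X, e33Y, e41X]
  exact ded4 e1 relYX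
lemma e51X : w51 * X = w47 := by
  have e1 : w47 * Y * X * Y = w51 := by rw [e47Y, e34X, e42Y]
  exact ded4 e1 relXY
lemma e54X : w54 * X = w38 := by
  have e1 : w38 * X * X = w54 := by rw [e38X, e46X]
  exact ded3 e1 relX
lemma e55X : w55 * X = w51 := by
  have e1 : w51 * X * X = w55 := by rw [e51X, e47X]
  exact ded3 e1 relX
lemma e55Y : w55 * Y = w54 := by
  have e1 : w54 * X * Y * X = w55 := by rw [e54X, e38Y, e47X]
  exact ded4 e1 relYX
lemma e57Y : w57 * Y = w44 := by
  have e1 : w44 * Y * Y * Y * Y = w57 := by rw [e44Y, e43Y, e42Y, e51Y]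
  exact ded5 e1 relY
lemma e58X : w58 * X = w57 := by
  have e1 : w57 * Y * X * Y = w58 := by rw [e57Y, e44X, e52Y]
  exact ded4 e1 relXY
lemma e36Y : w36 * Y = w39 := by
  have e1 : w39 * Y * Y * Y * Y = w36 := by rw [e39Y, e20Y, e19Y, e28Y]
  exact ded5 e1 relY
lemma e41Y : w41 * Y = w45 := by
  have e1 : w45 * Y * Y * Y * Y = w41 := by rw [e45Y, e26Y, e25Y, e33Y]
  exact ded5 e1 relY
lemma e48Y : w48 * Y = w52 := by
  have e1 : w52 * X * Y * X = w48 := by rw [e52X, e36Y, e39X]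
  exact ded4 e1 relYX
lemma e53Y : w53 * Y = w56 := by
  have e1 : w56 * X * Y * X = w53 := by rw [e56X, e41Y, e45X]
  exact ded4 e1 relYX
lemma e58Y : w58 * Y = w50 := by
  have e1 : w50 * Y * Y * Y * Y = w58 := by rw [e50Y, e49Y, e48Y, e52Y]
  exact ded5 e1 relY
lemma e59Y : w59 * Y = w55 := by
  have e1 : w55 * Y * Y * Y * Y = w59 := by rw [e55Y, e54Y, e53Y, e56Y]
  exact ded5 e1 relY
lemma e59X : w59 * X = w58 := by
  have e1 : w58 * Y * X * Y = w59 := by rw [e58Y, e50X, e56Y]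
  exact ded4 e1 relXY
lemma e57X : w57 * X = w59 := by
  have e1 : w59 * X * X = w57 := by rw [e59X, e58X]
  exact ded3 e1 relX

def w : Fin 60 → P := ![w0, w1, w2, w3, w4, w5, w6, w7, w8, w9, w10, w11, w12, w13, w14, w15, w16, w17, w18, w19, w20, w21, w22, w23, w24, w25, w26, w27, w28, w29, w30, w31, w32, w33, w34, w35, w36, w37, w38, w39, w40, w41, w42, w43, w44, w45, w46, w47, w48, w49, w50, w51, w52, w53, w54, w55, w56, w57, w58, w59]
def nx : Fin 60 → Fin 60 := ![1, 3, 5, 0, 8, 10, 11, 13, 15, 16, 2, 19, 20, 21, 22, 4, 25, 26, 23, 6, 24, 7, 30, 31, 12, 9, 29, 34, 35, 17, 14, 18, 39, 40, 42, 43, 44, 45, 46, 48, 49, 50, 27, 28, 52, 53, 54, 55, 32, 33, 56, 47, 36, 37, 38, 51, 41, 59, 57, 58]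
def ny : Fin 60 → Fin 60 := ![2, 4, 6, 7, 9, 3, 12, 14, 0, 17, 18, 10, 8, 1, 23, 24, 15, 13, 27, 28, 19, 29, 21, 5, 32, 33, 25, 35, 36, 37, 38, 30, 40, 41, 31, 11, 39, 46, 47, 20, 16, 45, 51, 42, 43, 26, 22, 34, 52, 48, 49, 57, 58, 56, 53, 54, 59, 44, 50, 55]

lemma stepX : ∀ c : Fin 60, w c * X = w (nx c) := by
  intro c
  fin_cases c
  · exact e0X
  · exact e1X
  · exact e2X
  · exact e3X
  · exact e4X
  · exact e5X
  · exact e6X
  · exact e7X
  · exact e8X
  · exact e9X
  · exact e10X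
  · exact e11X
  · exact e12X
  · exact e13X
  · exact e14X
  · exact e15X
  · exact e16X
  · exact e17X
  · exact e18X
  · exact e19X
  · exact e20X
  · exact e21X
  · exact e22X
  · exact e23X
  · exact e24X
  · exact e25X
  · exact e26X
  · exact e27X
  · exact e28X
  · exact e29X
  · exact e30X
  · exact e31X
  · exact e32X
  · exact e33X
  · exact e34X
  · exact e35X
  · exact e36X
  · exact e37X
  · exact e38X
  · exact e39X
  · exact e40X
  · exact e41X
  · exact e42X
  · exact e43X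
  · exact e44X
  · exact e45X
  · exact e46X
  · exact e47X
  · exact e48X
  · exact e49X
  · exact e50X
  · exact e51X
  · exact e52X
  · exact e53X
  · exact e54X
  · exact e55X
  · exact e56X
  · exact e57X
  · exact e58X
  · exact e59X

lemma stepY : ∀ c : Fin 60, w c * Y = w (ny c) := by
  intro c
  fin_cases c
  · exact e0Y
  · exact e1Y
  · exact e2Y
  · exact e3Y
  · exact e4Y
  · exact e5Y
  · exact e6Y
  · exact e7Y
  · exact e8Y
  · exact e9Y
  · exact e10Y
  · exact e11Y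
  · exact e12Y
  · exact e13Y
  · exact e14Y
  · exact e15Y
  · exact e16Y
  · exact e17Y
  · exact e18Y
  · exact e19Y
  · exact e20Y
  · exact e21Y
  · exact e22Y
  · exact e23Y
  · exact e24Y
  · exact e25Y
  · exact e26Y
  · exact e27Y
  · exact e28Y
  · exact e29Y
  · exact e30Y
  · exact e31Y
  · exact e32Y
  · exact e33Y
  · exact e34Y
  · exact e35Y
  · exact e36Y
  · exact e37Y
  · exact e38Y
  · exact e39Y
  · exact e40Y
  · exact e41Y
  · exact e42Y
  · exact e43Y
  · exact e44Y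
  · exact e45Y
  · exact e46Y
  · exact e47Y
  · exact e48Y
  · exact e49Y
  · exact e50Y
  · exact e51Y
  · exact e52Y
  · exact e53Y
  · exact e54Y
  · exact e55Y
  · exact e56Y
  · exact e57Y
  · exact e58Y
  · exact e59Y


lemma Xinv : X⁻¹ = X * X := by
  have := relX
  calc X⁻¹ = X⁻¹ * (X * X * X) := by rw [this, mul_one]
    _ = X * X := by group

lemma Yinv : Y⁻¹ = Y * Y * Y * Y := by
  have := relY
  calc Y⁻¹ = Y⁻¹ * (Y * Y * Y * Y * Y) := by rw [this, mul_one]
    _ = Y * Y * Y * Y := by group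

theorem all (p : P) : ∀ c : Fin 60, ∃ d : Fin 60, w c * p = w d := by
  induction p using PresentedGroup.induction_on with
  | H z =>
    induction z using FreeGroup.induction_on with
    | C1 => intro c; exact ⟨c, by rw [map_one, mul_one]⟩
    | of i =>
      intro c
      fin_cases i
      · exact ⟨nx c, stepX c⟩
      · exact ⟨ny c, stepY c⟩
    | inv_of i _ =>
      intro c
      fin_cases i
      · refine ⟨nx (nx c), ?_⟩
        have : (PresentedGroup.mk rels) (FreeGroup.of (0 : Fin 2))⁻¹ = X⁻¹ := by rw [map_inv]; rfl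
        show w c * (PresentedGroup.mk rels) (FreeGroup.of (0 : Fin 2))⁻¹ = _
        rw [this, Xinv, ← mul_assoc, stepX, stepX]
      · refine ⟨ny (ny (ny (ny c))), ?_⟩
        have : (PresentedGroup.mk rels) (FreeGroup.of (1 : Fin 2))⁻¹ = Y⁻¹ := by rw [map_inv]; rfl
        show w c * (PresentedGroup.mk rels) (FreeGroup.of (1 : Fin 2))⁻¹ = _
        rw [this, Yinv, ← mul_assoc, ← mul_assoc, ← mul_assoc, stepY, stepY, stepY, stepY]
    | mul a b ha hb =>
      intro c
      obtain ⟨d, hd⟩ := ha c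
      obtain ⟨e, he⟩ := hb d
      exact ⟨e, by rw [map_mul, ← mul_assoc, hd, he]⟩

theorem w_surjective : Function.Surjective w := by
  intro p
  obtain ⟨d, hd⟩ := all p 0
  refine ⟨d, ?_⟩
  rw [← hd]
  show w0 * p = p
  rw [show w0 = (1 : P) from rfl, one_mul]

theorem card_le : Nat.card P ≤ 60 := by
  have := Nat.card_le_card_of_surjective w w_surjective
  simpa using this

/-- generators in Alt(5) -/
def sx : Equiv.Perm (Fin 5) := ⟨![0, 4, 1, 3, 2], ![0, 2, 4, 3, 1], by decide, by decide⟩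
def sy : Equiv.Perm (Fin 5) := ⟨![1, 2, 3, 4, 0], ![4, 0, 1, 2, 3], by decide, by decide⟩

lemma sx_mem : sx ∈ alternatingGroup (Fin 5) := by
  rw [Equiv.Perm.mem_alternatingGroup]; decide

lemma sy_mem : sy ∈ alternatingGroup (Fin 5) := by
  rw [Equiv.Perm.mem_alternatingGroup]; decide

def ax : alternatingGroup (Fin 5) := ⟨sx, sx_mem⟩
def ay : alternatingGroup (Fin 5) := ⟨sy, sy_mem⟩


lemma sx_pow : sx ^ 3 = 1 := by decide
lemma sy_pow : sy ^ 5 = 1 := by decide
lemma sxy_pow : (sx * sy) ^ 2 = 1 := by decide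
lemma sx_ne : sx ≠ 1 := by decide
lemma sy_ne : sy ≠ 1 := by decide
lemma sxy_ne : sx * sy ≠ 1 := by decide

lemma ax_pow : ax ^ 3 = 1 := Subtype.ext sx_pow
lemma ay_pow : ay ^ 5 = 1 := Subtype.ext sy_pow
lemma axy_pow : (ax * ay) ^ 2 = 1 := Subtype.ext sxy_pow
lemma ax_ne : ax ≠ 1 := fun h => sx_ne (congrArg Subtype.val h)
lemma ay_ne : ay ≠ 1 := fun h => sy_ne (congrArg Subtype.val h)
lemma axy_ne : ax * ay ≠ 1 := fun h => sxy_ne (congrArg Subtype.val h)

def fgen : Fin 2 → alternatingGroup (Fin 5) := ![ax, ay]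

lemma hrel : ∀ r ∈ rels, FreeGroup.lift fgen r = 1 := by
  intro r hr
  simp only [rels, Set.mem_insert_iff, Set.mem_singleton_iff] at hr
  rcases hr with rfl | rfl | rfl
  · rw [map_pow, FreeGroup.lift_apply_of]; exact ax_pow
  · rw [map_pow, FreeGroup.lift_apply_of]; exact ay_pow
  · rw [map_pow, map_mul, FreeGroup.lift_apply_of, FreeGroup.lift_apply_of]; exact axy_pow

def f : P →* alternatingGroup (Fin 5) := PresentedGroup.toGroup hrel

lemma fX : f X = ax := PresentedGroup.toGroup.of hrel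
lemma fY : f Y = ay := PresentedGroup.toGroup.of hrel

lemma card_alt : Nat.card (alternatingGroup (Fin 5)) = 60 := by
  rw [nat_card_alternatingGroup]; simp [Nat.factorial]

theorem f_surjective : Function.Surjective f := by
  rw [← MonoidHom.range_eq_top]
  have hX : ax ∈ f.range := ⟨X, fX⟩
  have hY : ay ∈ f.range := ⟨Y, fY⟩
  have hXY : ax * ay ∈ f.range := f.range.mul_mem hX hY
  have h3 : 3 ∣ Nat.card f.range := by
    have h := orderOf_dvd_natCard (⟨ax, hX⟩ : f.range)
    rwa [Subgroup.orderOf_mk, orderOf_eq_prime ax_pow ax_ne] at h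
  have h5 : 5 ∣ Nat.card f.range := by
    have : Fact (Nat.Prime 5) := ⟨by norm_num⟩
    have h := orderOf_dvd_natCard (⟨ay, hY⟩ : f.range)
    rwa [Subgroup.orderOf_mk, orderOf_eq_prime ay_pow ay_ne] at h
  have h2 : 2 ∣ Nat.card f.range := by
    have h := orderOf_dvd_natCard (⟨ax * ay, hXY⟩ : f.range)
    rwa [Subgroup.orderOf_mk, orderOf_eq_prime axy_pow axy_ne] at h
  have h60 : Nat.card f.range ∣ 60 := by
    rw [← card_alt]; exact Subgroup.card_subgroup_dvd_card _
  have h30 : 30 ∣ Nat.card f.range := by omega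
  have hidx := f.range.card_mul_index
  rw [card_alt] at hidx
  have hpos : 0 < Nat.card f.range := Nat.card_pos
  have hcases : Nat.card f.range = 30 ∨ Nat.card f.range = 60 := by
    obtain ⟨k, hk⟩ := h30
    have : Nat.card f.range ≤ 60 := Nat.le_of_dvd (by norm_num) h60
    omega
  rcases hcases with h | h
  · exfalso
    have hi : f.range.index = 2 := by rw [h] at hidx; omega
    have hn : f.range.Normal := Subgroup.normal_of_index_eq_two hi
    rcases hn.eq_bot_or_eq_top with hb | ht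
    · rw [hb] at h; simp at h
    · rw [ht] at hi; simp at hi
  · exact (Subgroup.card_eq_iff_eq_top _).mp (by rw [h, card_alt])

theorem f_bijective : Function.Bijective f := by
  have : Finite P := Finite.of_surjective w w_surjective
  apply f_surjective.bijective_of_nat_card_le
  rw [card_alt]; exact card_le


/-- The alternating group of degree 5 has the presentation ⟨x, y | x³ = 1, y⁵ = 1, (xy)² = 1⟩: the group so presented is isomorphic to Alt(5). -/
theorem result :
    Nonempty (PresentedGroup ({FreeGroup.of (0 : Fin 2) ^ 3, FreeGroup.of (1 : Fin 2) ^ 5,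
        (FreeGroup.of (0 : Fin 2) * FreeGroup.of 1) ^ 2} : Set (FreeGroup (Fin 2))) ≃* alternatingGroup (Fin 5)) := by
  exact ⟨MulEquiv.ofBijective f f_bijective⟩

end Cfsg.Agent.S3377
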