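import Cfsg.Statements.S0804

import Cfsg.Agent.S3377
import Cfsg.Agent.S2508
import Cfsg.Agent.Lib.helper15.SL2Nonsplit
import Cfsg.Agent.Lib.helper15.SL2Card
import Cfsg.Agent.Lib.helper15.SL2Odd
import Cfsg.Agent.Lib.helper15.SL2Order
import Cfsg.Agent.Lib.helper15.SL2Cent
set_option autoImplicit false
open Cfsg

namespace Cfsg.Agent.S0804


open Cfsg.Agent.Lib.helper15 Cfsg.Agent.S2508

section Abstract

theorem exists_A5 {K : Type*} [Group K] (x y : K) (hx : x ^ 3 = 1) (hy : y ^ 5 = 1)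
    (hxy : (x * y) ^ 2 = 1) (hx1 : x ≠ 1) :
    ∃ H : Subgroup K, Nonempty (H ≃* alternatingGroup (Fin 5)) := by
  obtain ⟨e⟩ := Cfsg.Agent.S3377.result
  have hrel : ∀ r ∈ ({FreeGroup.of (0 : Fin 2) ^ 3, FreeGroup.of (1 : Fin 2) ^ 5,
      (FreeGroup.of (0 : Fin 2) * FreeGroup.of 1) ^ 2} : Set (FreeGroup (Fin 2))),
      FreeGroup.lift (![x, y] : Fin 2 → K) r = 1 := by
    intro r hr
    simp only [Set.mem_insert_iff, Set.mem_singleton_iff] at hr
    rcases hr with rfl | rfl | rfl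
    · simp [hx]
    · simp [hy]
    · simp [hxy]
  obtain ⟨ψ, hψ⟩ : ∃ ψ : alternatingGroup (Fin 5) →* K, ψ = (PresentedGroup.toGroup hrel).comp
      e.symm.toMonoidHom := ⟨_, rfl⟩
  have hker : ψ.ker = ⊥ := by
    rcases (inferInstance : ψ.ker.Normal).eq_bot_or_eq_top with h | h
    · exact h
    · exfalso
      apply hx1
      have h1 : e (PresentedGroup.of (0 : Fin 2)) ∈ ψ.ker := by
        rw [h]
        exact Subgroup.mem_top _
      rw [MonoidHom.mem_ker, hψ] at h1
      simpa using h1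
  have hinj : Function.Injective ψ := (MonoidHom.ker_eq_bot_iff ψ).mp hker
  exact ⟨ψ.range, ⟨(MonoidHom.ofInjective hinj).symm⟩⟩

end Abstract

section Mat

variable {F : Type*} [Field F]

theorem pow5 (M : Matrix (Fin 2) (Fin 2) F) (t : F) (h : M * M = t • M - 1) :
    M ^ 5 = (t ^ 4 - 3 * t ^ 2 + 1) • M - (t ^ 3 - 2 * t) • (1 : Matrix (Fin 2) (Fin 2) F) := by
  have h3 : M * M * M = (t ^ 2 - 1) • M - t • (1 : Matrix (Fin 2) (Fin 2) F) := by
    rw [h, Matrix.sub_mul, Matrix.smul_mul, h, Matrix.one_mul]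
    ext i j
    simp only [Matrix.sub_apply, Matrix.smul_apply, smul_eq_mul]
    ring
  have h4 : M * M * M * M = (t ^ 3 - 2 * t) • M - (t ^ 2 - 1) • (1 : Matrix (Fin 2) (Fin 2) F) := by
    rw [h3, Matrix.sub_mul, Matrix.smul_mul, Matrix.smul_mul, h, Matrix.one_mul]
    ext i j
    simp only [Matrix.sub_apply, Matrix.smul_apply, smul_eq_mul]
    ring
  have h5 : M * M * M * M * M =
      (t ^ 4 - 3 * t ^ 2 + 1) • M - (t ^ 3 - 2 * t) • (1 : Matrix (Fin 2) (Fin 2) F) := by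
    rw [h4, Matrix.sub_mul, Matrix.smul_mul, Matrix.smul_mul, h, Matrix.one_mul]
    ext i j
    simp only [Matrix.sub_apply, Matrix.smul_apply, smul_eq_mul]
    ring
  rw [← h5, pow_succ, pow_succ, pow_succ, pow_succ, pow_one]

theorem golden_of_order5 (Y : Matrix.SpecialLinearGroup (Fin 2) F) (hY : orderOf Y = 5) :
    (Y : Matrix (Fin 2) (Fin 2) F).trace ^ 2 + (Y : Matrix (Fin 2) (Fin 2) F).trace - 1 = 0 := by
  obtain ⟨t, ht⟩ : ∃ t, t = (Y : Matrix (Fin 2) (Fin 2) F).trace := ⟨_, rfl⟩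
  rw [← ht]
  have hns : ∀ c : F, (Y : Matrix (Fin 2) (Fin 2) F) ≠ c • (1 : Matrix (Fin 2) (Fin 2) F) := by
    intro c hc
    have hsq : Y ^ 2 = 1 := by
      rcases scalar_cases Y c hc with h | h
      · rw [h]; simp
      · rw [h]; simp
    have hd := orderOf_dvd_of_pow_eq_one hsq
    rw [hY] at hd
    omega
  have h5 : (Y : Matrix (Fin 2) (Fin 2) F) ^ 5 = 1 := by
    have := pow_orderOf_eq_one Y
    rw [hY] at this
    have h' := congrArg (fun g : Matrix.SpecialLinearGroup (Fin 2) F =>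
      (g : Matrix (Fin 2) (Fin 2) F)) this
    simpa using h'
  have hsq := m2_sq (Y : Matrix (Fin 2) (Fin 2) F) Y.2
  rw [← ht] at hsq
  rw [pow5 _ t hsq] at h5
  have h6 : (-(t ^ 3 - 2 * t)) • (1 : Matrix (Fin 2) (Fin 2) F) +
      (t ^ 4 - 3 * t ^ 2 + 1) • (Y : Matrix (Fin 2) (Fin 2) F) =
      (1 : F) • (1 : Matrix (Fin 2) (Fin 2) F) + (0 : F) • (Y : Matrix (Fin 2) (Fin 2) F) := by
    calc (-(t ^ 3 - 2 * t)) • (1 : Matrix (Fin 2) (Fin 2) F) +
        (t ^ 4 - 3 * t ^ 2 + 1) • (Y : Matrix (Fin 2) (Fin 2) F)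
        = (t ^ 4 - 3 * t ^ 2 + 1) • (Y : Matrix (Fin 2) (Fin 2) F) -
          (t ^ 3 - 2 * t) • (1 : Matrix (Fin 2) (Fin 2) F) := by
          rw [neg_smul]
          abel
      _ = 1 := h5
      _ = _ := by simp
  obtain ⟨e2, e1⟩ := m2_lin_injective _ hns _ _ _ _ h6
  linear_combination (-t) * e2 - e1

def Z0 : Matrix.SpecialLinearGroup (Fin 2) F := ⟨!![0, -1; 1, 0], by simp [Matrix.det_fin_two]⟩

theorem Z0_sq : (Z0 : Matrix.SpecialLinearGroup (Fin 2) F) * Z0 = -1 := by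
  apply Subtype.ext
  rw [Matrix.SpecialLinearGroup.coe_mul, Matrix.SpecialLinearGroup.coe_neg,
    Matrix.SpecialLinearGroup.coe_one]
  ext i j
  fin_cases i <;> fin_cases j <;> simp [Z0, Matrix.mul_apply, Fin.sum_univ_two]

theorem exists_X_of_sol (t b d : F) (h : d ^ 2 + b ^ 2 - d - t * b + 1 = 0) :
    ∃ X : Matrix.SpecialLinearGroup (Fin 2) F, (X : Matrix (Fin 2) (Fin 2) F).trace = 1 ∧
      ((Z0 * X : Matrix.SpecialLinearGroup (Fin 2) F) : Matrix (Fin 2) (Fin 2) F).trace = t := by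
  have hdet : (!![1 - d, b; b - t, d] : Matrix (Fin 2) (Fin 2) F).det = 1 := by
    rw [Matrix.det_fin_two_of]
    linear_combination -h
  obtain ⟨X, hX⟩ : ∃ X : Matrix.SpecialLinearGroup (Fin 2) F,
      (X : Matrix (Fin 2) (Fin 2) F) = !![1 - d, b; b - t, d] := ⟨⟨_, hdet⟩, rfl⟩
  refine ⟨X, ?_, ?_⟩
  · rw [hX, Matrix.trace_fin_two_of]
    ring
  · rw [Matrix.SpecialLinearGroup.coe_mul, hX]
    show ((!![0, -1; 1, 0] : Matrix (Fin 2) (Fin 2) F) * !![1 - d, b; b - t, d]).trace = t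
    rw [Matrix.mul_fin_two, Matrix.trace_fin_two_of]
    ring

end Mat

section Fin

variable {F : Type*} [Field F] [Fintype F]

theorem exists_X (t : F) (ht : t ^ 2 + t - 1 = 0) :
    ∃ X : Matrix.SpecialLinearGroup (Fin 2) F, (X : Matrix (Fin 2) (Fin 2) F).trace = 1 ∧
      ((Z0 * X : Matrix.SpecialLinearGroup (Fin 2) F) : Matrix (Fin 2) (Fin 2) F).trace = t := by
  by_cases h : ringChar F = 2
  · have h2 : (2 : F) = 0 := by
      have := CharP.cast_eq_zero F (ringChar F)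
      rw [h] at this
      exact_mod_cast this
    apply exists_X_of_sol t t t
    linear_combination ht + (1 - t) * h2
  · have h2 : (2 : F) ≠ 0 := Ring.two_ne_zero h
    have hodd : Fintype.card F % 2 = 1 := FiniteField.odd_card_of_char_ne_two h
    have h4 : (0 : F) ^ 2 ≠ 4 := by
      have : (4 : F) = 2 * 2 := by norm_num
      rw [this]
      simp [h2]
    obtain ⟨⟨u, v⟩, huv⟩ := nrm_universal hodd h2 0 h4 (t ^ 2 - 3)
    simp only [nrm] at huv
    apply exists_X_of_sol t ((v + t) / 2) ((u + 1) / 2)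
    field_simp
    linear_combination huv

end Fin

/-- PSL_2(q) has a subgroup isomorphic to A_5 iff 5 ∣ q(q² − 1). -/
theorem result {F : Type*} [Field F] [Fintype F] {q : ℕ} (hF : Fintype.card F = q) : (∃ H : Subgroup (Matrix.ProjectiveSpecialLinearGroup (Fin 2) F), Nonempty (H ≃* alternatingGroup (Fin 5))) ↔ 5 ∣ q * (q ^ 2 - 1) := by
  have hcard : Nat.card (Matrix.SpecialLinearGroup (Fin 2) F) = q * (q ^ 2 - 1) := by
    rw [card_SL2, hF]
  constructor
  · rintro ⟨H, ⟨e⟩⟩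
    have h60 : Nat.card H = 60 := by
      rw [Nat.card_congr e.toEquiv, Nat.card_eq_fintype_card]
      have h2 := two_mul_card_alternatingGroup (α := Fin 5)
      rw [Fintype.card_perm, Fintype.card_fin] at h2
      have h120 : Nat.factorial 5 = 120 := rfl
      omega
    have h1 : Nat.card H ∣ Nat.card (Matrix.ProjectiveSpecialLinearGroup (Fin 2) F) :=
      Subgroup.card_subgroup_dvd_card H
    have h2 : Nat.card (Matrix.ProjectiveSpecialLinearGroup (Fin 2) F) ∣
        Nat.card (Matrix.SpecialLinearGroup (Fin 2) F) :=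
      Subgroup.card_quotient_dvd_card _
    rw [h60] at h1
    rw [hcard] at h2
    exact dvd_trans (by norm_num) (dvd_trans h1 h2)
  · intro h5
    rw [← hcard] at h5
    haveI : Fact (Nat.Prime 5) := ⟨by norm_num⟩
    obtain ⟨Y, hY⟩ := exists_prime_orderOf_dvd_card' 5 h5
    have hg := golden_of_order5 Y hY
    obtain ⟨t, ht⟩ : ∃ t, t = (Y : Matrix (Fin 2) (Fin 2) F).trace := ⟨_, rfl⟩
    rw [← ht] at hg
    obtain ⟨X, hX1, hXt⟩ := exists_X t hg
    have hm1 : (QuotientGroup.mk (-1 : Matrix.SpecialLinearGroup (Fin 2) F) :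
        Matrix.ProjectiveSpecialLinearGroup (Fin 2) F) = 1 := by
      rw [QuotientGroup.eq_one_iff, mem_center_iff']
      exact ⟨-1, by ring, by rw [neg_smul, one_smul, Matrix.SpecialLinearGroup.coe_neg]; rfl⟩
    have hX3 : X ^ 3 = -1 := by
      apply Subtype.ext
      have hsq := m2_sq (X : Matrix (Fin 2) (Fin 2) F) X.2
      rw [hX1, one_smul] at hsq
      rw [pow_succ, pow_two, Matrix.SpecialLinearGroup.coe_mul, Matrix.SpecialLinearGroup.coe_mul,
        hsq, Matrix.sub_mul, hsq, Matrix.one_mul, Matrix.SpecialLinearGroup.coe_neg,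
        Matrix.SpecialLinearGroup.coe_one]
      abel
    have hY5 : (Z0 * X) ^ 5 = 1 := by
      apply Subtype.ext
      have hsq := m2_sq ((Z0 * X : Matrix.SpecialLinearGroup (Fin 2) F) :
        Matrix (Fin 2) (Fin 2) F) (Z0 * X).2
      rw [hXt] at hsq
      rw [Matrix.SpecialLinearGroup.coe_pow, pow5 _ t hsq, Matrix.SpecialLinearGroup.coe_one]
      have e1 : t ^ 4 - 3 * t ^ 2 + 1 = 0 := by linear_combination (t ^ 2 - t - 1) * hg
      have e2 : t ^ 3 - 2 * t = -1 := by linear_combination (t - 1) * hg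
      rw [e1, e2, zero_smul, neg_smul, one_smul]
      simp
    have hxy : (X⁻¹ * (Z0 * X)) ^ 2 = -1 := by
      have : (X⁻¹ * (Z0 * X)) ^ 2 = X⁻¹ * (Z0 * Z0) * X := by
        rw [pow_two]
        group
      rw [this, Z0_sq]
      simp
    apply exists_A5 (QuotientGroup.mk X⁻¹ : Matrix.ProjectiveSpecialLinearGroup (Fin 2) F)
      (QuotientGroup.mk (Z0 * X))
    · rw [← QuotientGroup.mk_pow, inv_pow, hX3]
      simpa using hm1
    · rw [← QuotientGroup.mk_pow, hY5]
      rfl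
    · rw [← QuotientGroup.mk_mul, ← QuotientGroup.mk_pow, hxy]
      exact hm1
    · intro h1
      rw [QuotientGroup.eq_one_iff] at h1
      have h1' : X ∈ Subgroup.center (Matrix.SpecialLinearGroup (Fin 2) F) := by
        have := Subgroup.inv_mem _ h1
        simpa using this
      obtain ⟨c, _, hc⟩ := (mem_center_iff' X).mp h1'
      have ht0 : t = 0 := by
        rw [← hXt, Matrix.SpecialLinearGroup.coe_mul, hc, Matrix.mul_smul, Matrix.mul_one,
          Matrix.trace_smul]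
        show c • (!![0, -1; 1, 0] : Matrix (Fin 2) (Fin 2) F).trace = 0
        rw [Matrix.trace_fin_two_of]
        simp
      rw [ht0] at hg
      simp at hg

end Cfsg.Agent.S0804
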