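import Cfsg.Statements.S0254

import Cfsg.Agent.S0804
import Cfsg.Agent.Lib.helper15.SL2Card
set_option autoImplicit false
open Cfsg

namespace Cfsg.Agent.S0254


open Matrix

section
variable {F : Type*} [Field F] [Fintype F]

theorem card_center (hodd : Fintype.card F % 2 = 1) :
    Nat.card (Subgroup.center (Matrix.SpecialLinearGroup (Fin 2) F)) = 2 := by
  have e := Matrix.SpecialLinearGroup.center_equiv_rootsOfUnity' (n := Fin 2) (R := F) 0
  rw [Nat.card_congr e.toEquiv, Fintype.card_fin]
  have h1 : (rootsOfUnity 2 F) = (powMonoidHom 2 : Fˣ →* Fˣ).ker := by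
    ext x
    simp [mem_rootsOfUnity, MonoidHom.mem_ker]
  rw [h1, IsCyclic.card_powMonoidHom_ker, Nat.card_units, Nat.card_eq_fintype_card]
  have hq : 1 < Fintype.card F := Fintype.one_lt_card
  have h2 : 2 ∣ Fintype.card F - 1 := by omega
  exact Nat.gcd_eq_right h2

theorem card_psl2 (hodd : Fintype.card F % 2 = 1) :
    Nat.card (Matrix.ProjectiveSpecialLinearGroup (Fin 2) F) * 2 =
      Fintype.card F * (Fintype.card F ^ 2 - 1) := by
  have h2 := Subgroup.card_eq_card_quotient_mul_card_subgroup
    (Subgroup.center (Matrix.SpecialLinearGroup (Fin 2) F))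
  rw [card_center hodd, Cfsg.Agent.Lib.helper15.card_SL2] at h2
  exact h2.symm

end

theorem iso_alt_of_index {G : Type*} [Group G] [Finite G] [IsSimpleGroup G] (H : Subgroup G)
    (hH : H ≠ ⊤) (hidx : H.index = 6) (hcard : Nat.card G = 360) :
    Nonempty (G ≃* alternatingGroup (Fin 6)) := by
  classical
  letI : Fintype (G ⧸ H) := Fintype.ofFinite _
  have hc6 : Fintype.card (G ⧸ H) = 6 := by
    rw [← Nat.card_eq_fintype_card]
    exact hidx
  let e6 : (G ⧸ H) ≃ Fin 6 := Fintype.equivFinOfCardEq hc6
  let φ : G →* Equiv.Perm (Fin 6) :=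
    (Equiv.permCongrHom e6).toMonoidHom.comp (MulAction.toPermHom G (G ⧸ H))
  have hker : φ.ker = ⊥ := by
    have h1 : φ.ker = (MulAction.toPermHom G (G ⧸ H)).ker := by
      ext g
      simp only [MonoidHom.mem_ker, φ, MonoidHom.comp_apply, MulEquiv.coe_toMonoidHom,
        EmbeddingLike.map_eq_one_iff]
    rw [h1, ← Subgroup.normalCore_eq_ker]
    rcases (Subgroup.Normal.eq_bot_or_eq_top (H := H.normalCore) inferInstance) with h | h
    · exact h
    · exfalso
      apply hH
      rw [eq_top_iff, ← h]
      exact Subgroup.normalCore_le H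
  have hinj : Function.Injective φ := (MonoidHom.ker_eq_bot_iff φ).mp hker
  have hrange : Nat.card φ.range = 360 := by
    rw [← hcard]
    exact (Nat.card_congr (MonoidHom.ofInjective hinj).toEquiv).symm
  have hidx2 : φ.range.index = 2 := by
    have h1 := Subgroup.card_mul_index φ.range
    rw [hrange, Nat.card_perm, Nat.card_eq_fintype_card, Fintype.card_fin] at h1
    have : (720 : ℕ) = 360 * 2 := by norm_num
    have h6 : Nat.factorial 6 = 720 := by decide
    rw [h6, this] at h1
    exact Nat.eq_of_mul_eq_mul_left (by norm_num) h1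
  have halt := Equiv.Perm.eq_alternatingGroup_of_index_eq_two hidx2
  exact ⟨(MonoidHom.ofInjective hinj).trans (MulEquiv.subgroupCongr halt)⟩

/-- PSL_2(9) is isomorphic to A_6. -/
theorem result {F : Type*} [Field F] [Fintype F] (hF : Fintype.card F = 9) : Nonempty (Matrix.ProjectiveSpecialLinearGroup (Fin 2) F ≃* alternatingGroup (Fin 6)) := by
  have : IsSimpleGroup (Matrix.ProjectiveSpecialLinearGroup (Fin 2) F) :=
    Matrix.ProjectiveSpecialLinearGroup.rank_two_simple (by rw [Nat.card_eq_fintype_card, hF]; norm_num)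
  have hcard : Nat.card (Matrix.ProjectiveSpecialLinearGroup (Fin 2) F) = 360 := by
    have := card_psl2 (F := F) (by rw [hF])
    rw [hF] at this
    omega
  obtain ⟨H, ⟨e⟩⟩ := (Cfsg.Agent.S0804.result hF).2 (by norm_num)
  have hH60 : Nat.card H = 60 := by
    rw [Nat.card_congr e.toEquiv, nat_card_alternatingGroup, Nat.card_eq_fintype_card, Fintype.card_fin]
    decide
  have hidx : H.index = 6 := by
    have h1 := Subgroup.card_mul_index H
    rw [hH60, hcard] at h1
    omega
  have hne : H ≠ ⊤ := by
    intro h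
    rw [h, Subgroup.index_top] at hidx
    omega
  exact iso_alt_of_index H hne hidx hcard

end Cfsg.Agent.S0254
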