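import Mathlib
import Cfsg.Statements.S0870
import Cfsg.Agent.Lib.helper7.Induction
import Cfsg.Agent.Lib.helper7.OrbitSum

set_option autoImplicit false
open Cfsg

namespace Cfsg.Agent.S0870

open Cfsg.Agent.Lib.helper7

variable {G : Type*} [Group G]

noncomputable def iota (U : Subgroup G) (y : G) : ℂ := Cfsg.extendByZero U (fun _ => (1 : ℂ)) y

theorem iota_mem (U : Subgroup G) (y : G) (h : y ∈ U) : iota U y = 1 :=
  h7_extendByZero_mem U _ y h

theorem iota_not_mem (U : Subgroup G) (y : G) (h : y ∉ U) : iota U y = 0 :=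
  h7_extendByZero_not_mem U _ y h

theorem iota_congr (U V : Subgroup G) (y z : G) (h : y ∈ U ↔ z ∈ V) : iota U y = iota V z := by
  by_cases hy : y ∈ U
  · rw [iota_mem U y hy, iota_mem V z (h.mp hy)]
  · rw [iota_not_mem U y hy, iota_not_mem V z (fun hz => hy (h.mpr hz))]

theorem iota_mul (U V : Subgroup G) (y : G) : iota U y * iota V y = iota (U ⊓ V) y := by
  by_cases hU : y ∈ U
  · by_cases hV : y ∈ V
    · rw [iota_mem U y hU, iota_mem V y hV, iota_mem (U ⊓ V) y ⟨hU, hV⟩, mul_one]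
    · rw [iota_not_mem V y hV, iota_not_mem (U ⊓ V) y (fun h => hV h.2), mul_zero]
  · rw [iota_not_mem U y hU, iota_not_mem (U ⊓ V) y (fun h => hU h.1), zero_mul]

noncomputable def cnt [Fintype G] (U : Subgroup G) : G → ℂ :=
  fun x => ∑ s : G, iota U (s⁻¹ * x * s)

theorem indFun_one_eq [Fintype G] (U : Subgroup G) :
    Cfsg.indFun U (fun _ => (1 : ℂ)) = (Nat.card U : ℂ)⁻¹ • cnt U := by
  funext x
  rfl

theorem cnt_eq [Fintype G] (U : Subgroup G) :
    cnt U = (Nat.card U : ℂ) • Cfsg.indFun U (fun _ => (1 : ℂ)) := by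
  have hU : (Nat.card U : ℂ) ≠ 0 := by exact_mod_cast Nat.card_pos.ne'
  rw [indFun_one_eq, smul_smul, mul_inv_cancel₀ hU, one_smul]

def Ug (H K : Subgroup G) (g : G) : Subgroup G :=
  H ⊓ K.map (MulAut.conj g).toMonoidHom

theorem mem_Ug (H K : Subgroup G) (g y : G) :
    y ∈ Ug H K g ↔ y ∈ H ∧ g⁻¹ * y * g ∈ K := by
  unfold Ug
  rw [Subgroup.mem_inf, Subgroup.mem_map_equiv, MulAut.conj_symm_apply]

theorem cnt_mul_cnt [Fintype G] (H K : Subgroup G) :
    cnt H * cnt K = ∑ g : G, cnt (Ug H K g) := by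
  funext x
  rw [Pi.mul_apply, Finset.sum_apply]
  unfold cnt
  rw [Finset.sum_mul_sum]
  have h1 : ∀ s : G, ∑ t : G, iota H (s⁻¹ * x * s) * iota K (t⁻¹ * x * t) =
      ∑ g : G, iota (Ug H K g) (s⁻¹ * x * s) := by
    intro s
    rw [← Equiv.sum_comp (Equiv.mulLeft s)]
    apply Finset.sum_congr rfl
    intro g _
    rw [Equiv.coe_mulLeft]
    have h2 : iota K ((s * g)⁻¹ * x * (s * g)) =
        iota (K.map (MulAut.conj g).toMonoidHom) (s⁻¹ * x * s) := by
      apply iota_congr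
      rw [Subgroup.mem_map_equiv, MulAut.conj_symm_apply]
      have : (s * g)⁻¹ * x * (s * g) = g⁻¹ * (s⁻¹ * x * s) * g := by group
      rw [this]
    rw [h2, iota_mul]
    rfl
  rw [Finset.sum_congr rfl (fun s _ => h1 s)]
  exact Finset.sum_comm

theorem cnt_conj [Fintype G] (U V : Subgroup G) (h : G)
    (hUV : ∀ y, y ∈ V ↔ h⁻¹ * y * h ∈ U) : cnt V = cnt U := by
  funext x
  unfold cnt
  rw [← Equiv.sum_comp (Equiv.mulRight h) (fun s => iota U (s⁻¹ * x * s))]
  apply Finset.sum_congr rfl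
  intro s _
  apply iota_congr
  rw [hUV, Equiv.coe_mulRight]
  have : (s * h)⁻¹ * x * (s * h) = h⁻¹ * (s⁻¹ * x * s) * h := by group
  rw [this]

@[instance_reducible] def dcAction (H K : Subgroup G) : MulAction (H × K) G where
  smul p g := (p.1 : G) * g * ((p.2 : G))⁻¹
  one_smul g := by
    change ((1 : H × K).1 : G) * g * (((1 : H × K).2 : G))⁻¹ = g
    simp
  mul_smul p q g := by
    change ((p * q).1 : G) * g * (((p * q).2 : G))⁻¹ =
      (p.1 : G) * ((q.1 : G) * g * ((q.2 : G))⁻¹) * ((p.2 : G))⁻¹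
    simp only [Prod.fst_mul, Prod.snd_mul, Subgroup.coe_mul, mul_inv_rev]
    group

theorem dc_smul_def (H K : Subgroup G) (p : H × K) (g : G) :
    (dcAction H K).toSMul.smul p g = (p.1 : G) * g * ((p.2 : G))⁻¹ := rfl

theorem cnt_invariant [Fintype G] (H K : Subgroup G) (p : H × K) (g : G) :
    cnt (Ug H K ((p.1 : G) * g * ((p.2 : G))⁻¹)) = cnt (Ug H K g) := by
  apply cnt_conj _ _ (p.1 : G)
  intro y
  rw [mem_Ug, mem_Ug]
  constructor
  · rintro ⟨h1, h2⟩
    refine ⟨H.mul_mem (H.mul_mem (H.inv_mem p.1.2) h1) p.1.2, ?_⟩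
    have : g⁻¹ * ((p.1 : G)⁻¹ * y * (p.1 : G)) * g =
        (p.2 : G)⁻¹ * (((p.1 : G) * g * ((p.2 : G))⁻¹)⁻¹ * y * ((p.1 : G) * g * ((p.2 : G))⁻¹)) * (p.2 : G) := by
      group
    rw [this]
    exact K.mul_mem (K.mul_mem (K.inv_mem p.2.2) h2) p.2.2
  · rintro ⟨h1, h2⟩
    constructor
    · have : y = (p.1 : G) * ((p.1 : G)⁻¹ * y * (p.1 : G)) * (p.1 : G)⁻¹ := by group
      rw [this]
      exact H.mul_mem (H.mul_mem p.1.2 h1) (H.inv_mem p.1.2)
    · have : ((p.1 : G) * g * ((p.2 : G))⁻¹)⁻¹ * y * ((p.1 : G) * g * ((p.2 : G))⁻¹) =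
        (p.2 : G) * (g⁻¹ * ((p.1 : G)⁻¹ * y * (p.1 : G)) * g) * (p.2 : G)⁻¹ := by
        group
      rw [this]
      exact K.mul_mem (K.mul_mem p.2.2 h2) (K.inv_mem p.2.2)

theorem card_stab (H K : Subgroup G) (g : G) :
    Nat.card (@MulAction.stabilizer (H × K) G _ (dcAction H K) g) = Nat.card (Ug H K g) := by
  letI := dcAction H K
  have hst : ∀ p : H × K, p ∈ MulAction.stabilizer (H × K) g ↔
      (p.1 : G) * g * ((p.2 : G))⁻¹ = g := by
    intro p
    rw [MulAction.mem_stabilizer_iff]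
    rfl
  have hmem : ∀ p : MulAction.stabilizer (H × K) g, ((p.1.1 : H) : G) ∈ Ug H K g := by
    intro p
    rw [mem_Ug]
    refine ⟨p.1.1.2, ?_⟩
    have h := (hst p.1).mp p.2
    have : g⁻¹ * ((p.1.1 : H) : G) * g = ((p.1.2 : K) : G) := by
      have h' : ((p.1.1 : H) : G) = g * ((p.1.2 : K) : G) * g⁻¹ := by
        calc ((p.1.1 : H) : G) = (((p.1.1 : H) : G) * g * (((p.1.2 : K) : G))⁻¹) * ((p.1.2 : K) : G) * g⁻¹ := by group
          _ = g * ((p.1.2 : K) : G) * g⁻¹ := by rw [h]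
      rw [h']; group
    rw [this]
    exact p.1.2.2
  apply Nat.card_congr
  refine Equiv.ofBijective (fun p => ⟨((p.1.1 : H) : G), hmem p⟩) ⟨?_, ?_⟩
  · intro p q hpq
    have h1 : ((p.1.1 : H) : G) = ((q.1.1 : H) : G) := by
      simpa using congrArg Subtype.val hpq
    have hp := (hst p.1).mp p.2
    have hq := (hst q.1).mp q.2
    have h2 : ((p.1.2 : K) : G) = ((q.1.2 : K) : G) := by
      have e1 : ((p.1.2 : K) : G) = g⁻¹ * ((p.1.1 : H) : G) * g := by
        calc ((p.1.2 : K) : G) = (((p.1.1 : H) : G) * g * (((p.1.2 : K) : G))⁻¹)⁻¹ * ((p.1.1 : H) : G) * g := by group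
          _ = g⁻¹ * ((p.1.1 : H) : G) * g := by rw [hp]
      have e2 : ((q.1.2 : K) : G) = g⁻¹ * ((q.1.1 : H) : G) * g := by
        calc ((q.1.2 : K) : G) = (((q.1.1 : H) : G) * g * (((q.1.2 : K) : G))⁻¹)⁻¹ * ((q.1.1 : H) : G) * g := by group
          _ = g⁻¹ * ((q.1.1 : H) : G) * g := by rw [hq]
      rw [e1, e2, h1]
    apply Subtype.ext
    apply Prod.ext
    · exact Subtype.ext h1
    · exact Subtype.ext h2
  · intro u
    have hu := (mem_Ug H K g u.1).mp u.2
    refine ⟨⟨(⟨u.1, hu.1⟩, ⟨g⁻¹ * u.1 * g, hu.2⟩), ?_⟩, ?_⟩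
    · rw [hst]
      change (u.1 : G) * g * (g⁻¹ * u.1 * g)⁻¹ = g
      group
    · apply Subtype.ext
      rfl

theorem result {G : Type*} [Group G] [Fintype G] (H K : Subgroup G) : ∃ a : Subgroup G → ℕ, (∀ U, a U ≠ 0 → U ≤ H) ∧ Cfsg.indFun H (fun _ => 1) * Cfsg.indFun K (fun _ => 1) = ∑ U : Subgroup G, (a U : ℂ) • Cfsg.indFun U (fun _ => 1) := by
  classical
  letI := dcAction H K
  haveI : Fintype (Quotient (MulAction.orbitRel (H × K) G)) := Fintype.ofFinite _
  refine ⟨fun U => (Finset.univ.filter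
    (fun ω : Quotient (MulAction.orbitRel (H × K) G) => Ug H K (Quotient.out ω) = U)).card, ?_, ?_⟩
  · intro U hU
    have hne : (Finset.univ.filter
      (fun ω : Quotient (MulAction.orbitRel (H × K) G) => Ug H K (Quotient.out ω) = U)).Nonempty := by
      rw [Finset.nonempty_iff_ne_empty]
      intro h
      apply hU
      simp only [h, Finset.card_empty]
    obtain ⟨ω, hω⟩ := hne
    have := (Finset.mem_filter.mp hω).2
    rw [← this]
    exact inf_le_left
  · have hHK : (Nat.card H : ℂ) ≠ 0 := by exact_mod_cast Nat.card_pos.ne'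
    have hK : (Nat.card K : ℂ) ≠ 0 := by exact_mod_cast Nat.card_pos.ne'
    have horb := h7_sum_eq_sum_orbits (A := H × K) (X := G) (fun g => cnt (Ug H K g))
      (fun p g => cnt_invariant H K p g)
    have hterm : ∀ ω : Quotient (MulAction.orbitRel (H × K) G),
        (Nat.card (H × K) / Nat.card (MulAction.stabilizer (H × K) (Quotient.out ω))) •
          cnt (Ug H K (Quotient.out ω)) =
        ((Nat.card H : ℂ) * (Nat.card K : ℂ)) • Cfsg.indFun (Ug H K (Quotient.out ω)) (fun _ => (1 : ℂ)) := by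
      intro ω
      have hdvd : Nat.card (MulAction.stabilizer (H × K) (Quotient.out ω)) ∣ Nat.card (H × K) :=
        Subgroup.card_subgroup_dvd_card _
      obtain ⟨c, hc⟩ := hdvd
      have hpos : 0 < Nat.card (MulAction.stabilizer (H × K) (Quotient.out ω)) := Nat.card_pos
      rw [hc, Nat.mul_div_cancel_left _ hpos, cnt_eq, ← Nat.cast_smul_eq_nsmul ℂ, smul_smul]
      congr 1
      have h3 : (Nat.card H : ℂ) * (Nat.card K : ℂ) = ((Nat.card (H × K) : ℕ) : ℂ) := by
        rw [Nat.card_prod]; push_cast; ring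
      rw [h3, hc, ← card_stab H K (Quotient.out ω)]
      push_cast
      ring
    rw [indFun_one_eq, indFun_one_eq, smul_mul_smul_comm, cnt_mul_cnt, horb,
      Finset.sum_congr rfl (fun ω _ => hterm ω), ← Finset.smul_sum, smul_smul]
    have h4 : (Nat.card H : ℂ)⁻¹ * (Nat.card K : ℂ)⁻¹ * ((Nat.card H : ℂ) * (Nat.card K : ℂ)) = 1 := by
      field_simp
    rw [h4, one_smul]
    rw [← Finset.sum_fiberwise Finset.univ (fun ω : Quotient (MulAction.orbitRel (H × K) G) =>
      Ug H K (Quotient.out ω))]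
    apply Finset.sum_congr rfl
    intro U _
    have h5 : ∀ ω ∈ Finset.univ.filter
      (fun ω : Quotient (MulAction.orbitRel (H × K) G) => Ug H K (Quotient.out ω) = U),
        Cfsg.indFun (Ug H K (Quotient.out ω)) (fun _ => (1 : ℂ)) = Cfsg.indFun U (fun _ => (1 : ℂ)) := by
      intro ω hω
      rw [(Finset.mem_filter.mp hω).2]
    rw [Finset.sum_congr rfl h5, Finset.sum_const, Nat.cast_smul_eq_nsmul]

end Cfsg.Agent.S0870
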