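import Mathlib
import Cfsg.Statements.S0871
import Cfsg.Agent.Lib.helper7.Induction

set_option autoImplicit false
open Cfsg

namespace Cfsg.Agent.S0871

open Cfsg.Agent.Lib.helper7

theorem conj_count {Γ : Type*} [Group Γ] (S : Subgroup Γ) (x : Γ) :
    Nat.card {s : Γ // s⁻¹ * x * s ∈ S} =
      Nat.card S * Nat.card {r : Γ ⧸ S // x • r = r} := by
  have h := QuotientGroup.card_preimage_mk S {r : Γ ⧸ S | x • r = r}
  have h' : Nat.card {r : Γ ⧸ S // x • r = r} = Nat.card ↑{r : Γ ⧸ S | x • r = r} := rfl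
  rw [h', ← h]
  apply Nat.card_congr
  apply Equiv.subtypeEquivRight
  intro s
  change s⁻¹ * x * s ∈ S ↔ x • (QuotientGroup.mk s : Γ ⧸ S) = QuotientGroup.mk s
  rw [MulAction.Quotient.smul_mk, QuotientGroup.eq, smul_eq_mul]
  constructor
  · intro hs
    have : (x * s)⁻¹ * s = (s⁻¹ * x * s)⁻¹ := by group
    rw [this]
    exact S.inv_mem hs
  · intro hs
    have : s⁻¹ * x * s = ((x * s)⁻¹ * s)⁻¹ := by group
    rw [this]
    exact S.inv_mem hs

theorem fix_not_dvd {Γ : Type*} [Group Γ] [Finite Γ] (p : ℕ) [Fact p.Prime] (S : Subgroup Γ)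
    (x : Γ) (a : ℕ) (hx : x ^ (p ^ a) = 1) (hS : ¬ p ∣ S.index) :
    ¬ p ∣ Nat.card {r : Γ ⧸ S // x • r = r} := by
  have hpg : IsPGroup p (Subgroup.zpowers x) := by
    rintro ⟨z, hz⟩
    obtain ⟨k, rfl⟩ := Subgroup.mem_zpowers_iff.mp hz
    refine ⟨a, ?_⟩
    apply Subtype.ext
    simp only [Subgroup.coe_pow, Subgroup.coe_one]
    rw [← zpow_natCast, ← zpow_mul, mul_comm, zpow_mul, zpow_natCast, hx, one_zpow]
  have h1 := hpg.card_modEq_card_fixedPoints (Γ ⧸ S)
  have h2 : Nat.card (MulAction.fixedPoints (Subgroup.zpowers x) (Γ ⧸ S)) =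
      Nat.card {r : Γ ⧸ S // x • r = r} := by
    apply Nat.card_congr
    apply Equiv.subtypeEquivRight
    intro r
    rw [MulAction.mem_fixedPoints]
    constructor
    · intro h
      exact h ⟨x, Subgroup.mem_zpowers x⟩
    · intro h z
      have hle : Subgroup.zpowers x ≤ MulAction.stabilizer Γ r :=
        Subgroup.zpowers_le.mpr (MulAction.mem_stabilizer_iff.mpr h)
      exact MulAction.mem_stabilizer_iff.mp (hle z.2)
  rw [h2, ← Subgroup.index_eq_card] at h1
  intro hdvd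
  apply hS
  exact (Nat.modEq_zero_iff_dvd.mp ((h1.trans (Nat.modEq_zero_iff_dvd.mpr hdvd))))

theorem indFun_one_count {G : Type*} [Group G] [Fintype G] (H : Subgroup G) (x : G) :
    Cfsg.indFun H (fun _ => (1 : ℂ)) x =
      (Nat.card H : ℂ)⁻¹ * (Nat.card {s : G // s⁻¹ * x * s ∈ H} : ℂ) := by
  classical
  unfold Cfsg.indFun
  congr 1
  have h1 : ∀ s : G, Cfsg.extendByZero H (fun _ => (1 : ℂ)) (s⁻¹ * x * s) =
      if s⁻¹ * x * s ∈ H then 1 else 0 := by
    intro s
    split_ifs with h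
    · exact h7_extendByZero_mem H _ _ h
    · exact h7_extendByZero_not_mem H _ _ h
  rw [Finset.sum_congr rfl (fun s _ => h1 s), Finset.sum_boole, Nat.card_eq_fintype_card,
    Fintype.card_subtype]

theorem result {G : Type*} [Group G] [Fintype G] (x : G) (p : ℕ) (hp : p.Prime) : ∃ H : Subgroup G, (∃ C : Subgroup G, C ≤ H ∧ H ≤ Subgroup.normalizer (C : Set G) ∧ IsCyclic C ∧ Nat.Coprime (Nat.card C) p ∧ ∃ k : ℕ, C.relIndex H = p ^ k) ∧ ∃ n : ℕ, Cfsg.indFun H (fun _ => 1) x = (n : ℂ) ∧ ¬ p ∣ n := by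
  classical
  have : Fact p.Prime := ⟨hp⟩
  obtain ⟨a, m, hm, ho⟩ := Nat.exists_eq_pow_mul_and_not_dvd (orderOf_pos x).ne' p hp.ne_one
  have hpa : 0 < p ^ a := pow_pos hp.pos a
  set y : G := x ^ (p ^ a) with hy
  have hyord : orderOf y = m := by
    rw [hy, orderOf_pow_of_dvd hpa.ne' ⟨m, ho⟩, ho, Nat.mul_div_cancel_left _ hpa]
  set C : Subgroup G := Subgroup.zpowers y with hC
  have hCcard : Nat.card C = m := by rw [hC, Nat.card_zpowers, hyord]
  have hmpos : 0 < m := by rw [← hCcard]; exact Nat.card_pos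
  have hCcop : Nat.Coprime (Nat.card C) p := by
    rw [hCcard]
    exact ((Nat.Prime.coprime_iff_not_dvd hp).mpr hm).symm
  have hxcomm : ∀ c ∈ C, x * c * x⁻¹ = c := by
    intro c hc
    obtain ⟨k, rfl⟩ := Subgroup.mem_zpowers_iff.mp hc
    have : Commute x (y ^ k) := ((Commute.refl x).pow_right (p ^ a)).zpow_right k
    rw [this.eq, mul_inv_cancel_right]
  have hxN : x ∈ Subgroup.normalizer (C : Set G) := by
    apply Subgroup.mem_normalizer_fintype
    intro c hc
    rw [hxcomm c hc]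
    exact hc
  set N : Subgroup G := Subgroup.normalizer (C : Set G) with hN
  have hCN : C ≤ N := Subgroup.le_normalizer
  set C' : Subgroup N := C.subgroupOf N with hC'
  have : C'.Normal := Subgroup.normal_in_normalizer
  set x' : N := ⟨x, hxN⟩ with hx'
  set xbar : N ⧸ C' := QuotientGroup.mk x' with hxbar
  have hxbarpow : xbar ^ (p ^ a) = 1 := by
    rw [hxbar, ← QuotientGroup.mk_pow, QuotientGroup.eq_one_iff, hC', Subgroup.mem_subgroupOf]
    simp only [Subgroup.coe_pow, hx']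
    exact Subgroup.mem_zpowers y
  have hpg : IsPGroup p (Subgroup.zpowers xbar) := by
    rintro ⟨z, hz⟩
    obtain ⟨k, rfl⟩ := Subgroup.mem_zpowers_iff.mp hz
    refine ⟨a, ?_⟩
    apply Subtype.ext
    simp only [Subgroup.coe_pow, Subgroup.coe_one]
    rw [← zpow_natCast, ← zpow_mul, mul_comm, zpow_mul, zpow_natCast, hxbarpow, one_zpow]
  obtain ⟨Sbar, hSbar⟩ := hpg.exists_le_sylow
  set H' : Subgroup N := (Sbar : Subgroup (N ⧸ C')).comap (QuotientGroup.mk' C') with hH'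
  set H : Subgroup G := H'.map N.subtype with hH
  have hmemH : ∀ g : G, g ∈ H ↔ ∃ hg : g ∈ N, (QuotientGroup.mk (⟨g, hg⟩ : N) : N ⧸ C') ∈ Sbar := by
    intro g
    rw [hH, Subgroup.mem_map]
    constructor
    · rintro ⟨h', hh', rfl⟩
      exact ⟨h'.2, hh'⟩
    · rintro ⟨hg, h⟩
      exact ⟨⟨g, hg⟩, h, rfl⟩
  have hCH : C ≤ H := by
    intro c hc
    rw [hmemH]
    refine ⟨hCN hc, ?_⟩
    have : (QuotientGroup.mk (⟨c, hCN hc⟩ : N) : N ⧸ C') = 1 := by
      rw [QuotientGroup.eq_one_iff, hC', Subgroup.mem_subgroupOf]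
      exact hc
    rw [this]
    exact Subgroup.one_mem _
  have hHN : H ≤ N := by
    intro g hg
    obtain ⟨hgN, -⟩ := (hmemH g).mp hg
    exact hgN
  have hcardC' : Nat.card C' = Nat.card C :=
    Nat.card_congr (Subgroup.subgroupOfEquivOfLe hCN).toEquiv
  obtain ⟨k, hk⟩ := IsPGroup.iff_card.mp Sbar.isPGroup'
  have hcardH' : Nat.card H' = Nat.card C' * Nat.card Sbar :=
    QuotientGroup.card_preimage_mk C' ((Sbar : Subgroup (N ⧸ C')) : Set (N ⧸ C'))
  have hcardH : Nat.card H = Nat.card C * p ^ k := by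
    rw [← hcardC', ← hk, ← hcardH']
    exact (Nat.card_congr (H'.equivMapOfInjective N.subtype N.subtype_injective).toEquiv).symm
  have hrel : C.relIndex H = p ^ k := by
    have h1 : (C.subgroupOf H).index * Nat.card (C.subgroupOf H) = Nat.card H :=
      Subgroup.index_mul_card _
    have h2 : Nat.card (C.subgroupOf H) = Nat.card C :=
      Nat.card_congr (Subgroup.subgroupOfEquivOfLe hCH).toEquiv
    rw [h2, hcardH, mul_comm (Nat.card C)] at h1
    have hCpos : 0 < Nat.card C := Nat.card_pos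
    exact Nat.eq_of_mul_eq_mul_right hCpos h1
  have hHall : ∀ h ∈ H, Nat.Coprime (orderOf h) p → h ∈ C := by
    intro h hh hcop
    obtain ⟨hhN, hS⟩ := (hmemH h).mp hh
    have h1 : (QuotientGroup.mk (⟨h, hhN⟩ : N) : N ⧸ C') ^ (orderOf h) = 1 := by
      rw [← QuotientGroup.mk_pow]
      have : (⟨h, hhN⟩ : N) ^ orderOf h = 1 := by
        apply Subtype.ext
        simp [pow_orderOf_eq_one]
      rw [this]
      rfl
    obtain ⟨j, hj⟩ := (Sbar.isPGroup' ⟨_, hS⟩)
    have h2 : (QuotientGroup.mk (⟨h, hhN⟩ : N) : N ⧸ C') ^ (p ^ j) = 1 := by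
      have := congrArg Subtype.val hj
      simpa using this
    have h3 : orderOf (QuotientGroup.mk (⟨h, hhN⟩ : N) : N ⧸ C') ∣ Nat.gcd (orderOf h) (p ^ j) :=
      Nat.dvd_gcd (orderOf_dvd_of_pow_eq_one h1) (orderOf_dvd_of_pow_eq_one h2)
    have h4 : Nat.gcd (orderOf h) (p ^ j) = 1 := Nat.Coprime.pow_right j hcop
    rw [h4, Nat.dvd_one, orderOf_eq_one_iff, QuotientGroup.eq_one_iff, hC',
      Subgroup.mem_subgroupOf] at h3
    exact h3
  have hTN : ∀ s : G, s⁻¹ * x * s ∈ H → s ∈ N := by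
    intro s hs
    have hy' : s⁻¹ * y * s ∈ H := by
      have : s⁻¹ * y * s = (s⁻¹ * x * s) ^ (p ^ a) := by
        rw [hy]
        have := conj_pow (a := s⁻¹) (b := x) (i := p ^ a)
        rw [inv_inv] at this
        exact this.symm
      rw [this]
      exact H.pow_mem hs _
    have hord : orderOf (s⁻¹ * y * s) = m := by
      have hsc : SemiconjBy s⁻¹ y (s⁻¹ * y * s) := by
        unfold SemiconjBy
        group
      rw [← SemiconjBy.orderOf_eq s⁻¹ hsc, hyord]
    have hyC : s⁻¹ * y * s ∈ C := by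
      apply hHall _ hy'
      rw [hord]
      exact ((Nat.Prime.coprime_iff_not_dvd hp).mpr hm).symm
    have hsinv : s⁻¹ ∈ N := by
      apply Subgroup.mem_normalizer_fintype
      intro c hc
      obtain ⟨j, rfl⟩ := Subgroup.mem_zpowers_iff.mp hc
      have : s⁻¹ * y ^ j * (s⁻¹)⁻¹ = (s⁻¹ * y * s) ^ j := by
        rw [inv_inv]
        have := conj_zpow (a := s⁻¹) (b := y) (i := j)
        rw [inv_inv] at this
        exact this.symm
      rw [this]
      exact C.zpow_mem hyC j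
    have := N.inv_mem hsinv
    rwa [inv_inv] at this
  have hcount1 : Nat.card {s : G // s⁻¹ * x * s ∈ H} =
      Nat.card {s' : N // s'⁻¹ * x' * s' ∈ H'} := by
    symm
    apply Nat.card_congr
    refine Equiv.ofBijective (fun s' => ⟨(s'.1 : G), ?_⟩) ⟨?_, ?_⟩
    · rw [hH, Subgroup.mem_map]
      exact ⟨s'.1⁻¹ * x' * s'.1, s'.2, rfl⟩
    · intro s1 s2 h12
      apply Subtype.ext
      apply Subtype.ext
      have := congrArg Subtype.val h12
      exact this
    · rintro ⟨s, hs⟩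
      have hsN := hTN s hs
      refine ⟨⟨⟨s, hsN⟩, ?_⟩, rfl⟩
      obtain ⟨hgN, hS⟩ := (hmemH _).mp hs
      exact hS
  have hcount2 : Nat.card {s' : N // s'⁻¹ * x' * s' ∈ H'} =
      Nat.card C' * Nat.card {q : N ⧸ C' // q⁻¹ * xbar * q ∈ (Sbar : Subgroup (N ⧸ C'))} := by
    have h := QuotientGroup.card_preimage_mk C'
      {q : N ⧸ C' | q⁻¹ * xbar * q ∈ (Sbar : Subgroup (N ⧸ C'))}
    exact h
  have hcount3 := conj_count (Sbar : Subgroup (N ⧸ C')) xbar
  have hnd := fix_not_dvd p (Sbar : Subgroup (N ⧸ C')) xbar a hxbarpow Sbar.not_dvd_index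
  refine ⟨H, ⟨C, hCH, hHN, inferInstance, hCcop, k, hrel⟩,
    Nat.card {r : (N ⧸ C') ⧸ (Sbar : Subgroup (N ⧸ C')) // xbar • r = r}, ?_, hnd⟩
  rw [indFun_one_count, hcount1, hcount2, hcount3, hcardH, hcardC', hk]
  have h1 : (Nat.card C : ℂ) ≠ 0 := by exact_mod_cast Nat.card_pos.ne'
  have h2 : ((p ^ k : ℕ) : ℂ) ≠ 0 := by exact_mod_cast (pow_pos hp.pos k).ne'
  push_cast
  push_cast at h2
  field_simp

end Cfsg.Agent.S0871
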