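import Mathlib
import Cfsg.Statements.S0872
import Cfsg.Agent.Lib.helper7.Induction
import Cfsg.Agent.S0870
import Cfsg.Agent.S0871

set_option autoImplicit false
open Cfsg

namespace Cfsg.Agent.S0872

open Cfsg.Agent.Lib.helper7

variable {G : Type*} [Group G]

def QE (p : ℕ) (H : Subgroup G) : Prop :=
  ∃ C : Subgroup G, C ≤ H ∧ H ≤ Subgroup.normalizer (C : Set G) ∧ IsCyclic C ∧
    Nat.Coprime (Nat.card C) p ∧ ∃ k : ℕ, C.relIndex H = p ^ k

theorem QE_of_le [Finite G] (p : ℕ) (hp : p.Prime) {U H : Subgroup G} (hUH : U ≤ H)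
    (hH : QE p H) : QE p U := by
  obtain ⟨C, hCH, hHN, hcyc, hcop, k, hk⟩ := hH
  refine ⟨C ⊓ U, inf_le_right, ?_, ?_, ?_, ?_⟩
  · intro u hu
    have huN := hHN (hUH hu)
    rw [Subgroup.mem_normalizer_iff] at huN ⊢
    intro h
    constructor
    · rintro ⟨h1, h2⟩
      exact ⟨(huN h).mp h1, U.mul_mem (U.mul_mem hu h2) (U.inv_mem hu)⟩
    · rintro ⟨h1, h2⟩
      refine ⟨(huN h).mpr h1, ?_⟩
      have : h = u⁻¹ * (u * h * u⁻¹) * u := by group
      rw [this]
      exact U.mul_mem (U.mul_mem (U.inv_mem hu) h2) hu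
  · haveI := hcyc
    exact Subgroup.isCyclic_of_le (inf_le_left : C ⊓ U ≤ C)
  · exact Nat.Coprime.coprime_dvd_left (Subgroup.card_dvd_of_le inf_le_left) hcop
  · rw [Subgroup.inf_relIndex_right]
    have : (C.subgroupOf H).Normal :=
      (Subgroup.normal_subgroupOf_iff_le_normalizer hCH).mpr hHN
    have h1 : (C.subgroupOf H).relIndex (U.subgroupOf H) ∣ (C.subgroupOf H).index :=
      Subgroup.relIndex_dvd_index_of_normal _ _
    rw [Subgroup.relIndex_subgroupOf hUH] at h1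
    have h2 : (C.subgroupOf H).index = C.relIndex H := rfl
    rw [h2, hk] at h1
    obtain ⟨j, -, hj⟩ := (Nat.dvd_prime_pow hp).mp h1
    exact ⟨j, hj⟩

noncomputable def fixCount (H : Subgroup G) : G → ℤ :=
  fun x => (Nat.card {r : G ⧸ H // x • r = r} : ℤ)

theorem indFun_one_eq_fixCount [Fintype G] (H : Subgroup G) (x : G) :
    Cfsg.indFun H (fun _ => (1 : ℂ)) x = ((fixCount H x : ℤ) : ℂ) := by
  rw [Cfsg.Agent.S0871.indFun_one_count, Cfsg.Agent.S0871.conj_count]
  unfold fixCount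
  have h1 : (Nat.card H : ℂ) ≠ 0 := by exact_mod_cast Nat.card_pos.ne'
  push_cast
  field_simp

theorem fix_mul [Fintype G] (H K : Subgroup G) :
    ∃ b : Subgroup G → ℕ, (∀ U, b U ≠ 0 → U ≤ H) ∧
      fixCount H * fixCount K = ∑ U : Subgroup G, (b U : ℤ) • fixCount U := by
  obtain ⟨b, hb, heq⟩ := Cfsg.Agent.S0870.result H K
  refine ⟨b, hb, ?_⟩
  funext x
  have h1 := congrFun heq x
  rw [Pi.mul_apply, indFun_one_eq_fixCount, indFun_one_eq_fixCount, Finset.sum_apply] at h1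
  simp only [Pi.smul_apply, smul_eq_mul, indFun_one_eq_fixCount] at h1
  rw [Pi.mul_apply, Finset.sum_apply]
  simp only [Pi.smul_apply, smul_eq_mul]
  have h2 : ((fixCount H x * fixCount K x : ℤ) : ℂ) =
      ((∑ U : Subgroup G, (b U : ℤ) * fixCount U x : ℤ) : ℂ) := by
    push_cast
    exact h1
  exact_mod_cast h2

def R0 [Fintype G] (p : ℕ) : AddSubgroup (G → ℤ) where
  carrier := {f | ∃ a : Subgroup G → ℤ, (∀ H, a H ≠ 0 → QE p H) ∧
    f = ∑ H : Subgroup G, a H • fixCount H}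
  zero_mem' := ⟨0, fun H h => absurd rfl h, by simp⟩
  add_mem' := by
    rintro f g ⟨a, ha, rfl⟩ ⟨b, hb, rfl⟩
    refine ⟨a + b, ?_, ?_⟩
    · intro H hH
      by_cases h : a H = 0
      · apply hb
        intro h'
        apply hH
        rw [Pi.add_apply, h, h', add_zero]
      · exact ha H h
    · rw [← Finset.sum_add_distrib]
      apply Finset.sum_congr rfl
      intro H _
      rw [Pi.add_apply, add_smul]
  neg_mem' := by
    rintro f ⟨a, ha, rfl⟩
    refine ⟨-a, ?_, ?_⟩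
    · intro H hH
      apply ha
      intro h
      apply hH
      rw [Pi.neg_apply, h, neg_zero]
    · rw [← Finset.sum_neg_distrib]
      apply Finset.sum_congr rfl
      intro H _
      rw [Pi.neg_apply, neg_smul]

theorem fixCount_mem_R0 [Fintype G] (p : ℕ) (H : Subgroup G) (hH : QE p H) :
    fixCount H ∈ R0 (G := G) p := by
  classical
  refine ⟨Pi.single H 1, ?_, ?_⟩
  · intro K hK
    by_cases h : K = H
    · rw [h]; exact hH
    · exfalso
      apply hK
      rw [Pi.single_apply, if_neg h]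
  · rw [Finset.sum_eq_single H]
    · simp
    · intro K _ hK
      rw [Pi.single_apply, if_neg hK, zero_smul]
    · intro h
      exact absurd (Finset.mem_univ _) h

theorem R0_mul [Fintype G] (p : ℕ) (hp : p.Prime) (f g : G → ℤ) (hf : f ∈ R0 (G := G) p)
    (hg : g ∈ R0 (G := G) p) : f * g ∈ R0 (G := G) p := by
  obtain ⟨a, ha, rfl⟩ := hf
  obtain ⟨b, hb, rfl⟩ := hg
  rw [Finset.sum_mul_sum]
  apply AddSubgroup.sum_mem
  intro H _
  apply AddSubgroup.sum_mem
  intro K _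
  rw [smul_mul_smul_comm]
  by_cases hH : a H = 0
  · rw [hH, zero_mul, zero_smul]
    exact AddSubgroup.zero_mem _
  · apply AddSubgroup.zsmul_mem
    obtain ⟨c, hc, heq⟩ := fix_mul H K
    rw [heq]
    apply AddSubgroup.sum_mem
    intro U _
    by_cases hU : c U = 0
    · rw [hU]
      simp
    · apply AddSubgroup.zsmul_mem
      exact fixCount_mem_R0 p U (QE_of_le p hp (hc U hU) (ha H hH))

theorem local_unit {S : Type*} [Fintype S] (R : AddSubgroup (S → ℤ))
    (hmul : ∀ f ∈ R, ∀ g ∈ R, f * g ∈ R) (p : ℕ) (hp : p.Prime)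
    (h : ∀ x : S, ∃ f ∈ R, ¬ (p : ℤ) ∣ f x) :
    ∃ m : ℤ, ¬ (p : ℤ) ∣ m ∧ (fun _ : S => m) ∈ R := by
  classical
  have hpow : ∀ f ∈ R, ∀ n : ℕ, f ^ (n + 1) ∈ R := by
    intro f hf n
    induction n with
    | zero => simpa using hf
    | succ n ih => rw [pow_succ]; exact hmul _ ih _ hf
  choose F hFR hFx using h
  have hpos : p - 1 = (p - 2) + 1 := by have := hp.two_le; omega
  have hG : ∀ x, (F x) ^ (p - 1) ∈ R := by
    intro x
    rw [hpos]
    exact hpow _ (hFR x) _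
  have hGx : ∀ x, ((F x) ^ (p - 1)) x ≡ 1 [ZMOD p] := by
    intro x
    rw [Pi.pow_apply]
    apply Int.ModEq.pow_card_sub_one_eq_one hp
    have hpi : Prime (p : ℤ) := Nat.prime_iff_prime_int.mp hp
    exact (Int.isCoprime_iff_gcd_eq_one.mpr
      (by
        rw [Int.gcd_comm]
        exact (Int.isCoprime_iff_gcd_eq_one.mp
          ((Prime.coprime_iff_not_dvd hpi).mpr (hFx x))))).symm.symm
  have key : ∀ s : Finset S, ∃ r ∈ R, ∏ x ∈ s, (1 - (F x) ^ (p - 1)) = 1 - r := by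
    intro s
    induction s using Finset.induction_on with
    | empty => exact ⟨0, R.zero_mem, by simp⟩
    | insert a s ha ih =>
      obtain ⟨r, hr, hprod⟩ := ih
      rw [Finset.prod_insert ha, hprod]
      refine ⟨(F a) ^ (p - 1) + r - (F a) ^ (p - 1) * r, ?_, by ring⟩
      exact R.sub_mem (R.add_mem (hG a) hr) (hmul _ (hG a) _ hr)
  obtain ⟨r, hr, hprod⟩ := key Finset.univ
  have hr1 : ∀ y : S, r y ≡ 1 [ZMOD p] := by
    intro y
    have h1 := congrFun hprod y
    rw [Finset.prod_apply] at h1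
    have h2 : (p : ℤ) ∣ ∏ x : S, (1 - (F x) ^ (p - 1)) y := by
      apply Dvd.dvd.trans _ (Finset.dvd_prod_of_mem _ (Finset.mem_univ y))
      have := (hGx y).dvd
      simpa using this
    rw [h1] at h2
    simp only [Pi.sub_apply, Pi.one_apply] at h2
    exact (Int.modEq_iff_dvd.mpr h2)
  have key2 : ∀ s : Finset ℤ, ∃ r' ∈ R,
      ∏ v ∈ s, (r - fun _ => v) = (fun _ => ∏ v ∈ s, (-v)) + r' := by
    intro s
    induction s using Finset.induction_on with
    | empty =>
      refine ⟨0, R.zero_mem, ?_⟩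
      funext y
      simp
    | insert a s ha ih =>
      obtain ⟨r', hr', hprod'⟩ := ih
      rw [Finset.prod_insert ha, hprod', Finset.prod_insert ha]
      refine ⟨(∏ v ∈ s, (-v)) • r + r * r' - a • r', ?_, ?_⟩
      · exact R.sub_mem (R.add_mem (R.zsmul_mem hr _) (hmul _ hr _ hr')) (R.zsmul_mem hr' _)
      · funext y
        simp only [Pi.mul_apply, Pi.sub_apply, Pi.add_apply, Pi.smul_apply, smul_eq_mul]
        ring
  obtain ⟨r', hr', hprod'⟩ := key2 (Finset.univ.image r)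
  have hzero : ∏ v ∈ Finset.univ.image r, (r - fun _ => v) = 0 := by
    funext y
    rw [Finset.prod_apply]
    apply Finset.prod_eq_zero (Finset.mem_image_of_mem r (Finset.mem_univ y))
    simp
  rw [hzero] at hprod'
  refine ⟨-∏ v ∈ Finset.univ.image r, (-v), ?_, ?_⟩
  · rw [dvd_neg]
    have hpi : Prime (p : ℤ) := Nat.prime_iff_prime_int.mp hp
    rw [Prime.dvd_finsetProd_iff hpi]
    rintro ⟨v, hv, hdvd⟩
    obtain ⟨y, -, rfl⟩ := Finset.mem_image.mp hv
    rw [dvd_neg] at hdvd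
    have h1 := hr1 y
    have h2 : (r y) ≡ 0 [ZMOD p] := (Int.modEq_zero_iff_dvd.mpr hdvd)
    have h3 : (1 : ℤ) ≡ 0 [ZMOD p] := h1.symm.trans h2
    have h4 := Int.modEq_zero_iff_dvd.mp h3
    have h5 : (p : ℤ) ∣ 1 := h4
    have := Int.natAbs_dvd_natAbs.mpr h5
    simp at this
    exact hp.one_lt.ne' this
  · have : (fun _ : S => -∏ v ∈ Finset.univ.image r, (-v)) = r' := by
      funext y
      have := congrFun hprod' y
      simp only [Pi.zero_apply, Pi.add_apply] at this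
      linarith
    rw [this]
    exact hr'

theorem result {G : Type*} [Group G] [Fintype G] (p : ℕ) (hp : p.Prime) : ∃ (m : ℤ) (a : Subgroup G → ℤ), ¬ (p : ℤ) ∣ m ∧ (∀ H, a H ≠ 0 → (∃ C : Subgroup G, C ≤ H ∧ H ≤ Subgroup.normalizer (C : Set G) ∧ IsCyclic C ∧ Nat.Coprime (Nat.card C) p ∧ ∃ k : ℕ, C.relIndex H = p ^ k)) ∧ (fun _ : G => (m : ℂ)) = ∑ H : Subgroup G, (a H : ℂ) • Cfsg.indFun H (fun _ => 1) := by
  classical
  have hloc : ∀ x : G, ∃ f ∈ R0 (G := G) p, ¬ (p : ℤ) ∣ f x := by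
    intro x
    obtain ⟨H, hQE, n, hn, hpn⟩ := Cfsg.Agent.S0871.result x p hp
    refine ⟨fixCount H, fixCount_mem_R0 p H hQE, ?_⟩
    rw [indFun_one_eq_fixCount] at hn
    have : fixCount H x = (n : ℤ) := by exact_mod_cast hn
    rw [this]
    exact_mod_cast hpn
  obtain ⟨m, hm, hmem⟩ := local_unit (R0 (G := G) p) (fun f hf g hg => R0_mul p hp f g hf hg) p hp hloc
  obtain ⟨a, ha, heq⟩ := hmem
  refine ⟨m, a, hm, ha, ?_⟩
  funext x
  have h1 := congrFun heq x
  rw [Finset.sum_apply] at h1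
  simp only [Pi.smul_apply, smul_eq_mul] at h1
  rw [Finset.sum_apply]
  simp only [Pi.smul_apply, smul_eq_mul, indFun_one_eq_fixCount]
  rw [h1]
  push_cast
  rfl

end Cfsg.Agent.S0872
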