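import Cfsg.Statements.S0165
import Cfsg.Statements.S0165
import Cfsg.Agent.Lib.helper2.DefectZero
import Cfsg.Agent.S0164

set_option autoImplicit false
open Cfsg

namespace Cfsg.Agent.S0165

open Cfsg
open scoped ComplexConjugate

open Cfsg.Agent.Lib.helper2 Cfsg.Agent.Lib.helper7 Cfsg.Agent.Lib.Helper11 Cfsg.Agent.Lib.Helper25



/-- If p ^ n is the exact power of the prime p dividing the order of a finite group and p ^ n divides the degree of an irreducible complex representation, then its character vanishes at every element of order divisible by p. -/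
theorem result {G : Type*} [Group G] [Finite G] {V : Type*} [AddCommGroup V] [Module ℂ V] [FiniteDimensional ℂ V] (ρ : Representation ℂ G V) [ρ.IsIrreducible] (p n : ℕ) (hp : p.Prime) (hn : p ^ n ∣ Nat.card G) (hn' : ¬ p ^ (n + 1) ∣ Nat.card G) (hdeg : p ^ n ∣ Module.finrank ℂ V) (x : G) (hx : p ∣ orderOf x) : ρ.character x = 0 := by
  classical
  haveI : Fintype G := Fintype.ofFinite G
  have hχ : Cfsg.IsCharacter G ρ.character := isCharacter_of_rep ρ
  have hχcl := isCharacter_isClassFunction hχ
  obtain ⟨θ, hθdef⟩ : ∃ θ : G → ℂ, θ = fun g => if p ∣ orderOf g then 0 else ρ.character g :=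
    ⟨_, rfl⟩
  have hθcl : Cfsg.IsClassFunction G θ := by
    intro g h
    have h2 : orderOf (h * g * h⁻¹) = orderOf g := by
      have := orderOf_injective (MulAut.conj h).toMonoidHom (MulAut.conj h).injective g
      simpa using this
    rw [hθdef]
    simp only [h2, hχcl g h]
  have hgen : Cfsg.IsGeneralizedCharacter G θ := by
    apply Cfsg.Agent.S0164.result θ hθcl
    intro E q hq hEl
    haveI : Group.IsNilpotent E := isNilpotent_of_isElementary q hq hEl
    refine ⟨_, 0, ?_, isCharacter_zero _, (sub_zero _).symm⟩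
    rw [hθdef]
    exact defect_zero_restrict ρ p n hp hn' hdeg E
  obtain ⟨z, hz⟩ := genChar_inner_genChar_int θ θ hgen hgen
  have hirr : Cfsg.classInner ρ.character ρ.character = 1 := by
    have := irr_classInner (⟨ρ.character, isIrrCharacter_of_irreducible ρ⟩ : Cfsg.IrrCharacter G)
      ⟨ρ.character, isIrrCharacter_of_irreducible ρ⟩
    simpa using this
  have hGne : (Nat.card G : ℝ) ≠ 0 := by exact_mod_cast Nat.card_pos.ne'
  have hGpos : (0 : ℝ) < (Nat.card G : ℝ) := by exact_mod_cast Nat.card_pos
  have hA : (z : ℝ) = (Nat.card G : ℝ)⁻¹ * ∑ g : G, Complex.normSq (θ g) := by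
    unfold Cfsg.classInner at hz
    have h1 : ∀ g : G, θ g * conj (θ g) = ((Complex.normSq (θ g) : ℝ) : ℂ) :=
      fun g => Complex.mul_conj (θ g)
    simp only [h1] at hz
    have : ((z : ℝ) : ℂ) = (((Nat.card G : ℝ)⁻¹ * ∑ g : G, Complex.normSq (θ g) : ℝ) : ℂ) := by
      push_cast
      rw [← hz]
    exact Complex.ofReal_injective this
  have hB : (1 : ℝ) = (Nat.card G : ℝ)⁻¹ * ∑ g : G, Complex.normSq (ρ.character g) := by
    unfold Cfsg.classInner at hirr
    have h1 : ∀ g : G, ρ.character g * conj (ρ.character g) =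
        ((Complex.normSq (ρ.character g) : ℝ) : ℂ) :=
      fun g => Complex.mul_conj (ρ.character g)
    simp only [h1] at hirr
    have : ((1 : ℝ) : ℂ) =
        (((Nat.card G : ℝ)⁻¹ * ∑ g : G, Complex.normSq (ρ.character g) : ℝ) : ℂ) := by
      push_cast
      rw [← hirr]
    exact Complex.ofReal_injective this
  have hle : ∀ g : G, Complex.normSq (θ g) ≤ Complex.normSq (ρ.character g) := by
    intro g
    rw [hθdef]
    by_cases h : p ∣ orderOf g
    · simp only [h, if_true, map_zero]
      exact Complex.normSq_nonneg _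
    · simp only [h, if_false, le_refl]
  have hθ1 : θ 1 = ρ.character 1 := by
    rw [hθdef]
    have : ¬ p ∣ orderOf (1 : G) := by
      rw [orderOf_one]
      exact hp.one_lt.ne' ∘ Nat.dvd_one.mp
    simp only [this, if_false]
  have hpos1 : 0 < Complex.normSq (θ 1) := by
    rw [hθ1, Representation.char_one, Complex.normSq_pos]
    exact_mod_cast finrank_ne_zero_of_irr ρ
  have hApos : 0 < ∑ g : G, Complex.normSq (θ g) := by
    calc 0 < Complex.normSq (θ 1) := hpos1
      _ ≤ ∑ g : G, Complex.normSq (θ g) :=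
        Finset.single_le_sum (f := fun g => Complex.normSq (θ g))
          (fun g _ => Complex.normSq_nonneg _) (Finset.mem_univ 1)
  have hAB : ∑ g : G, Complex.normSq (θ g) ≤ ∑ g : G, Complex.normSq (ρ.character g) :=
    Finset.sum_le_sum fun g _ => hle g
  have hz0 : (0 : ℝ) < (z : ℝ) := by
    rw [hA]
    positivity
  have hz1 : (z : ℝ) ≤ 1 := by
    rw [hA, hB]
    exact mul_le_mul_of_nonneg_left hAB (by positivity)
  have hz' : z = 1 := by
    have h0 : (0 : ℤ) < z := by exact_mod_cast hz0
    have h1 : z ≤ 1 := by exact_mod_cast hz1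
    omega
  have hEq : ∑ g : G, Complex.normSq (θ g) = ∑ g : G, Complex.normSq (ρ.character g) := by
    have h1 : (Nat.card G : ℝ)⁻¹ * ∑ g : G, Complex.normSq (θ g) =
        (Nat.card G : ℝ)⁻¹ * ∑ g : G, Complex.normSq (ρ.character g) := by
      rw [← hA, ← hB, hz']
      simp
    exact mul_left_cancel₀ (inv_ne_zero hGne) h1
  have hall : ∀ g ∈ (Finset.univ : Finset G),
      Complex.normSq (θ g) = Complex.normSq (ρ.character g) :=
    (Finset.sum_eq_sum_iff_of_le (fun g _ => hle g)).mp hEq
  have hxeq := hall x (Finset.mem_univ x)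
  rw [hθdef] at hxeq
  simp only [hx, if_true, map_zero] at hxeq
  exact Complex.normSq_eq_zero.mp hxeq.symm

end Cfsg.Agent.S0165
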