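import Cfsg.Statements.S0299
import Cfsg.Agent.S0287
import Cfsg.Agent.S0292
import Cfsg.Agent.Lib.Lead.PSL2Orth
import Cfsg.Agent.Lib.Lead.PSL2Orth4
import Cfsg.Agent.Lib.Lead.CenterQuot
import Cfsg.Agent.Lib.Lead.DicksonGen
import Cfsg.Agent.Lib.Helper16.PlusFam
import Cfsg.Agent.Lib.helper14.SL2Card

set_option autoImplicit false
open Cfsg

namespace Cfsg.Agent.S0299

open Cfsg.Agent.Lib.Lead Cfsg.Agent.Lib.Helper16 Matrix

theorem transvection_pow_four {F : Type*} [Field F] (h4 : (4 : F) ≠ 0) {i j : Fin 2} (h : i ≠ j)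
    (c : F) :
    Matrix.SpecialLinearGroup.transvection h c =
      (Matrix.SpecialLinearGroup.transvection h (c / 4)) ^ 4 := by
  have : c = c / 4 + c / 4 + c / 4 + c / 4 := by field_simp; ring
  conv_lhs => rw [this]
  rw [Matrix.SpecialLinearGroup.transvection_add, Matrix.SpecialLinearGroup.transvection_add,
    Matrix.SpecialLinearGroup.transvection_add]
  simp [pow_succ]

/-- a hom from `SL₂(F)` (odd characteristic) lands in any subgroup containing all fourth powers -/
theorem sl2_hom_mem_of_pow {F : Type*} [Field F] {G' : Type*} [Group G']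
    (f : Matrix.SpecialLinearGroup (Fin 2) F →* G') (N : Subgroup G') (h4 : (4 : F) ≠ 0)
    (hN : ∀ g : G', g ^ 4 ∈ N) (A : Matrix.SpecialLinearGroup (Fin 2) F) : f A ∈ N := by
  refine Matrix.SL2.transvection_induction (fun A => f A ∈ N) ?_ ?_ A
  · intro i j h c
    rw [transvection_pow_four h4 h c, map_pow]
    exact hN _
  · intro A B hA hB
    rw [map_mul]; exact mul_mem hA hB

/-- a hom from a perfect `SL₂(F)` lands in the commutator subgroup -/
theorem sl2_hom_mem_of_perfect {F : Type*} [Field F] {G' : Type*} [Group G']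
    (f : Matrix.SpecialLinearGroup (Fin 2) F →* G') {a : F} (ha : a ≠ 0) (hasq : a ^ 2 ≠ 1)
    (A : Matrix.SpecialLinearGroup (Fin 2) F) : f A ∈ commutator G' := by
  have h1 : A ∈ commutator (Matrix.SpecialLinearGroup (Fin 2) F) := by
    rw [Matrix.SL2.commutator_eq_top ha hasq]; exact Subgroup.mem_top _
  have h2 : f A ∈ (commutator (Matrix.SpecialLinearGroup (Fin 2) F)).map f :=
    Subgroup.mem_map_of_mem f h1
  rw [map_commutator_eq] at h2
  rw [commutator_def]
  exact Subgroup.commutator_mono le_top le_top h2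

section main

variable {F : Type*} [Field F] [Fintype F]

theorem rho_split (p : Matrix.SpecialLinearGroup (Fin 2) F × Matrix.SpecialLinearGroup (Fin 2) F) :
    PO4.rho p = (PO4.rho.comp (MonoidHom.inl _ _)) p.1 * (PO4.rho.comp (MonoidHom.inr _ _)) p.2 := by
  rw [MonoidHom.comp_apply, MonoidHom.comp_apply, ← map_mul]
  congr 1
  simp

theorem exists_unit_of_char2 (h2 : (2 : F) = 0) (hF : 3 ≤ Fintype.card F) :
    ∃ a : F, a ≠ 0 ∧ a ^ 2 ≠ 1 := by
  classical
  by_contra hcon
  push Not at hcon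
  have hsub : (Finset.univ : Finset F) ⊆ {0, 1} := by
    intro a _
    by_cases ha : a = 0
    · simp [ha]
    · have h1 := hcon a ha
      have : (a - 1) ^ 2 = 0 := by
        have : (a - 1) ^ 2 = a ^ 2 - 2 * a + 1 := by ring
        rw [this, h1, h2]; ring_nf
        calc (2 : F) = 0 := h2
          _ = 0 := rfl
      have : a = 1 := by
        have := pow_eq_zero_iff (two_ne_zero) |>.mp this
        exact sub_eq_zero.mp this
      simp [this]
  have := Finset.card_le_card hsub
  rw [Finset.card_univ] at this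
  have h3 : ({0, 1} : Finset F).card ≤ 2 := Finset.card_le_two
  omega

theorem index_omega4_odd (h2 : (2 : F) ≠ 0) :
    (Cfsg.Omega F (Cfsg.quadFormPlus 2 F)).index = 4 := by
  have hcard : Fintype.card (Fin 2 ⊕ Fin 2) = 4 := by
    simp only [Fintype.card_sum, Fintype.card_fin]
  have := RI.index_omega_general h2 (by rw [hcard]; omega) (qfPlus 2 F) (qfPlus_nondeg 2 F)
  rw [qfPlus_coe] at this
  exact this

theorem index_omega4_even (h2 : (2 : F) = 0) (hF : 3 ≤ Fintype.card F) :
    (Cfsg.Omega F (Cfsg.quadFormPlus 2 F)).index = 2 := by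
  have : CharP F 2 := CharTwo.of_one_ne_zero_of_two_eq_zero one_ne_zero h2
  have hcard : Fintype.card (Fin 2 ⊕ Fin 2) = 4 := by
    simp only [Fintype.card_sum, Fintype.card_fin]
  have := DK.index_omega_char2 (qfPlus 2 F) (qfPlus_nondeg 2 F) (by rw [hcard]; omega)
    (Or.inl (by omega))
  rw [qfPlus_coe] at this
  exact this

theorem range_le (hF : 3 ≤ Fintype.card F) :
    (PO4.rho (F := F)).range ≤ Cfsg.Omega F (Cfsg.quadFormPlus 2 F) := by
  have key : ∀ f : Matrix.SpecialLinearGroup (Fin 2) F →*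
      ↥(Cfsg.isometryGroup F (Cfsg.quadFormPlus 2 F)), ∀ A,
      f A ∈ Cfsg.Omega F (Cfsg.quadFormPlus 2 F) := by
    intro f A
    by_cases h2 : (2 : F) = 0
    · obtain ⟨a, ha, hasq⟩ := exists_unit_of_char2 h2 hF
      exact sl2_hom_mem_of_perfect f ha hasq A
    · have hidx := index_omega4_odd h2
      have h4 : (4 : F) ≠ 0 := by
        have : (4 : F) = 2 * 2 := by norm_num
        rw [this]; exact mul_ne_zero h2 h2
      refine sl2_hom_mem_of_pow f _ h4 (fun g => ?_) A
      rw [← hidx]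
      exact Subgroup.pow_index_mem _ _
  rintro _ ⟨p, rfl⟩
  rw [rho_split]
  exact mul_mem (key _ _) (key _ _)

theorem ker_subset :
    ((PO4.rho (F := F)).ker : Set (Matrix.SpecialLinearGroup (Fin 2) F ×
      Matrix.SpecialLinearGroup (Fin 2) F)) ⊆ {1, (-1, -1)} := by
  intro p hp
  rw [SetLike.mem_coe, MonoidHom.mem_ker, PO4.rho_eq_one_iff] at hp
  obtain ⟨a, ha, hA, hB⟩ := PO4.ker_scalar p.1 p.2 hp
  rcases sq_eq_one_iff.mp ha with h | h
  · left
    refine Prod.ext (Subtype.ext ?_) (Subtype.ext ?_)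
    · rw [← hA, h]; simp
    · rw [← hB, h]; simp
  · right
    refine Prod.ext (Subtype.ext ?_) (Subtype.ext ?_)
    · rw [← hA, h, Matrix.SpecialLinearGroup.coe_neg, Matrix.SpecialLinearGroup.coe_one,
        Matrix.scalar_apply, ← Matrix.smul_one_eq_diagonal, neg_one_smul]
    · rw [← hB, h, Matrix.SpecialLinearGroup.coe_neg, Matrix.SpecialLinearGroup.coe_one,
        Matrix.scalar_apply, ← Matrix.smul_one_eq_diagonal, neg_one_smul]

theorem card_ker_le : Nat.card ↥(PO4.rho (F := F)).ker ≤ 2 := by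
  classical
  have h1 : Nat.card ↥(PO4.rho (F := F)).ker =
      ((PO4.rho (F := F)).ker : Set (Matrix.SpecialLinearGroup (Fin 2) F ×
      Matrix.SpecialLinearGroup (Fin 2) F)).ncard := rfl
  rw [h1]
  refine le_trans (Set.ncard_le_ncard ker_subset (Set.toFinite _)) ?_
  refine le_trans (Set.ncard_insert_le _ _) ?_
  rw [Set.ncard_singleton]

theorem card_ker_char2 (h2 : (2 : F) = 0) : Nat.card ↥(PO4.rho (F := F)).ker = 1 := by
  have : (PO4.rho (F := F)).ker = ⊥ := by
    rw [eq_bot_iff]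
    intro p hp
    rw [Subgroup.mem_bot]
    have hneg : (-1 : Matrix.SpecialLinearGroup (Fin 2) F) = 1 := by
      apply Subtype.ext
      rw [Matrix.SpecialLinearGroup.coe_neg, Matrix.SpecialLinearGroup.coe_one]
      have : (-1 : F) = 1 := by
        rw [neg_eq_iff_add_eq_zero, one_add_one_eq_two, h2]
      rw [← neg_one_smul F (1 : Matrix (Fin 2) (Fin 2) F), this, one_smul]
    rcases ker_subset hp with h | h
    · exact h
    · rw [Set.mem_singleton_iff] at h
      rw [h, hneg]; rfl
  rw [this]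
  exact Subgroup.card_bot

theorem card_prod_eq :
    Nat.card (Matrix.SpecialLinearGroup (Fin 2) F × Matrix.SpecialLinearGroup (Fin 2) F) =
      Nat.card ↥(PO4.rho (F := F)).range * Nat.card ↥(PO4.rho (F := F)).ker := by
  have h1 := Subgroup.card_eq_card_quotient_mul_card_subgroup (PO4.rho (F := F)).ker
  have h2 : Nat.card ((Matrix.SpecialLinearGroup (Fin 2) F × Matrix.SpecialLinearGroup (Fin 2) F) ⧸
      (PO4.rho (F := F)).ker) = Nat.card ↥(PO4.rho (F := F)).range :=
    Nat.card_congr (QuotientGroup.quotientKerEquivRange (PO4.rho (F := F))).toEquiv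
  rw [h1, h2]

theorem range_eq (hF : 3 ≤ Fintype.card F) :
    (PO4.rho (F := F)).range = Cfsg.Omega F (Cfsg.quadFormPlus 2 F) := by
  have hGO := Cfsg.Agent.S0287.result (F := F) rfl 2 (by norm_num)
  have h1 := Subgroup.card_mul_index (Cfsg.Omega F (Cfsg.quadFormPlus 2 F))
  have hsl := Cfsg.Agent.Lib.helper14.card_sl2 (F := F)
  have hprod := card_prod_eq (F := F)
  rw [Nat.card_prod, hsl] at hprod
  simp only [Nat.add_one_sub_one, Nat.reduceSub, mul_one, Finset.prod_range_one, zero_add] at hGO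
  rw [hGO] at h1
  apply Subgroup.eq_of_le_of_card_ge (range_le hF)
  set q := Fintype.card F with hq
  set N := q * (q ^ 2 - 1) with hN
  have hN2 : 2 * q ^ 2 * (q ^ 2 - 1) * (q ^ 2 - 1) = 2 * (N * N) := by rw [hN]; ring
  rw [hN2] at h1
  by_cases h2 : (2 : F) = 0
  · rw [index_omega4_even h2 hF] at h1
    rw [card_ker_char2 h2, mul_one] at hprod
    omega
  · rw [index_omega4_odd h2] at h1
    have := card_ker_le (F := F)
    have h3 : N * N ≤ Nat.card ↥(PO4.rho (F := F)).range * 2 := by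
      rw [hprod]; exact Nat.mul_le_mul_left _ this
    omega

end main

/-- Ω_4^+(q) = SL_2(q) o SL_2(q) mod centre is PSL_2(q) x PSL_2(q), for q at least 3. -/
theorem result {F : Type*} [Field F] [Fintype F] (hF : 3 ≤ Fintype.card F) : Nonempty (Cfsg.POmega F (Cfsg.quadFormPlus 2 F) ≃* Matrix.ProjectiveSpecialLinearGroup (Fin 2) F × Matrix.ProjectiveSpecialLinearGroup (Fin 2) F) := by
  set Z := Subgroup.center (Matrix.SpecialLinearGroup (Fin 2) F) with hZ
  let φ : Matrix.SpecialLinearGroup (Fin 2) F × Matrix.SpecialLinearGroup (Fin 2) F →*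
      ↥(Cfsg.Omega F (Cfsg.quadFormPlus 2 F)) :=
    (PO4.rho (F := F)).codRestrict _ (fun p => range_le hF ⟨p, rfl⟩)
  let π : Matrix.SpecialLinearGroup (Fin 2) F × Matrix.SpecialLinearGroup (Fin 2) F →*
      Matrix.ProjectiveSpecialLinearGroup (Fin 2) F × Matrix.ProjectiveSpecialLinearGroup (Fin 2) F :=
    MonoidHom.prodMap (QuotientGroup.mk' Z) (QuotientGroup.mk' Z)
  have hφ : Function.Surjective φ := by
    rintro ⟨z, hz⟩
    rw [← range_eq hF] at hz
    obtain ⟨p, hp⟩ := hz
    exact ⟨p, Subtype.ext hp⟩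
  have hπ : Function.Surjective π := by
    rintro ⟨x, y⟩
    obtain ⟨a, rfl⟩ := QuotientGroup.mk'_surjective Z x
    obtain ⟨b, rfl⟩ := QuotientGroup.mk'_surjective Z y
    exact ⟨(a, b), rfl⟩
  have hπk : ∀ p, p ∈ π.ker ↔ p.1 ∈ Z ∧ p.2 ∈ Z := by
    intro p
    rw [MonoidHom.mem_ker]
    change (QuotientGroup.mk' Z p.1, QuotientGroup.mk' Z p.2) = 1 ↔ _
    rw [Prod.mk_eq_one, QuotientGroup.mk'_apply, QuotientGroup.mk'_apply,
      QuotientGroup.eq_one_iff, QuotientGroup.eq_one_iff]
  refine CQ.pquot_equiv φ hφ π hπ ?_ ?_ ?_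
  · intro p hp
    rw [hπk]
    have h1 : PO4.rho p = 1 := by
      have := MonoidHom.mem_ker.mp hp
      exact congrArg Subtype.val this
    rw [PO4.rho_eq_one_iff] at h1
    obtain ⟨a, ha, hA, hB⟩ := PO4.ker_scalar p.1 p.2 h1
    constructor
    · rw [hZ, Matrix.SpecialLinearGroup.mem_center_iff]
      exact ⟨a, by simpa using ha, hA⟩
    · rw [hZ, Matrix.SpecialLinearGroup.mem_center_iff]
      exact ⟨a, by simpa using ha, hB⟩
  · intro p hp
    rw [hπk] at hp
    rw [Subgroup.mem_center_iff]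
    intro g
    refine Prod.ext ?_ ?_
    · exact Subgroup.mem_center_iff.mp hp.1 g.1
    · exact Subgroup.mem_center_iff.mp hp.2 g.2
  · rw [eq_bot_iff]
    intro z hz
    rw [Subgroup.mem_bot]
    have h1 : z.1 ∈ Subgroup.center (Matrix.ProjectiveSpecialLinearGroup (Fin 2) F) := by
      rw [Subgroup.mem_center_iff]
      intro y
      have := Subgroup.mem_center_iff.mp hz (y, 1)
      exact congrArg Prod.fst this
    have h2 : z.2 ∈ Subgroup.center (Matrix.ProjectiveSpecialLinearGroup (Fin 2) F) := by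
      rw [Subgroup.mem_center_iff]
      intro y
      have := Subgroup.mem_center_iff.mp hz (1, y)
      exact congrArg Prod.snd this
    rw [PO3.center_psl2, Subgroup.mem_bot] at h1 h2
    exact Prod.ext h1 h2

end Cfsg.Agent.S0299
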