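import Cfsg.Statements.S4208
import Cfsg.Agent.Lib.helper23.FrattiniGen
import Cfsg.Agent.Lib.helper23.FreeAction

set_option autoImplicit false
open Cfsg

namespace Cfsg.Agent.S4208

open Cfsg.Agent.Lib.helper23

theorem closure_range_smul {P : Type*} [Group P] {r : ℕ} (α : MulAut P) (s : Fin r → P)
    (hs : Subgroup.closure (Set.range s) = ⊤) : Subgroup.closure (Set.range (α • s)) = ⊤ := by
  have h1 : Set.range (α • s) = α.toMonoidHom '' Set.range s := by
    rw [← Set.range_comp]
    rfl
  rw [h1, ← MonoidHom.map_closure, hs]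
  exact Subgroup.map_top_of_surjective _ α.surjective

theorem eq_one_of_smul_eq {P : Type*} [Group P] {r : ℕ} (α : MulAut P) (s : Fin r → P)
    (hs : Subgroup.closure (Set.range s) = ⊤) (h : α • s = s) : α = 1 := by
  have h1 : α.toMonoidHom = MonoidHom.id P := by
    apply MonoidHom.eq_of_eqOn_dense hs
    rintro _ ⟨i, rfl⟩
    exact congrFun h i
  ext x
  exact DFunLike.congr_fun h1 x

/-- the generating tuples, with the action of the automorphism group -/
def genSub (P : Type*) [Group P] (r : ℕ) : SubMulAction (MulAut P) (Fin r → P) where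
  carrier := {s | Subgroup.closure (Set.range s) = ⊤}
  smul_mem' := fun α s hs => closure_range_smul α s hs

theorem card_frattini {P : Type*} [Group P] [Finite P] {p n r : ℕ} [Fact p.Prime]
    (hP : Nat.card P = p ^ n) (hr : (frattini P).index = p ^ r) :
    r ≤ n ∧ Nat.card (frattini P) = p ^ (n - r) := by
  have hp : p.Prime := Fact.out
  have h1 := (frattini P).card_mul_index
  rw [hP, hr] at h1
  have hle : r ≤ n := by
    have : p ^ r ∣ p ^ n := Dvd.intro_left _ h1
    exact (Nat.pow_dvd_pow_iff_le_right hp.one_lt).mp this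
  refine ⟨hle, ?_⟩
  have h2 : p ^ n = p ^ (n - r) * p ^ r := by rw [← pow_add, Nat.sub_add_cancel hle]
  rw [h2] at h1
  exact Nat.eq_of_mul_eq_mul_right (pow_pos hp.pos r) h1

/-- Let `P` be a group of order `p^n` whose Frattini subgroup has index `p^r`. Then the order of the automorphism group of `P` divides `p^(r(n-r)) · (p^r - 1)(p^r - p) ⋯ (p^r - p^(r-1))`. -/
theorem result {P : Type*} [Group P] [Finite P] {p n r : ℕ} [Fact p.Prime] (hP : Nat.card P = p ^ n) (hr : (frattini P).index = p ^ r) : Nat.card (MulAut P) ∣ p ^ (r * (n - r)) * ∏ i ∈ Finset.range r, (p ^ r - p ^ i) := by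
  have hPG : IsPGroup p P := IsPGroup.of_card hP
  obtain ⟨hle, hΦ⟩ := card_frattini hP hr
  have hcard := card_generating_of_pgroup hPG hr
  rw [hΦ, ← pow_mul, mul_comm (n - r) r] at hcard
  rw [← hcard]
  have hfree : ∀ (α : MulAut P) (s : genSub P r), α • s = s → α = 1 := by
    intro α s h
    apply eq_one_of_smul_eq α s.1 s.2
    exact congrArg Subtype.val h
  have h := card_dvd_of_free (G := MulAut P) (X := genSub P r) hfree
  exact h

end Cfsg.Agent.S4208
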