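import Cfsg.Statements.S4207
import Cfsg.Agent.Lib.helper23.FrattiniGen
import Cfsg.Agent.Lib.helper23.FreeAction
import Cfsg.Agent.S4208

set_option autoImplicit false
open Cfsg

namespace Cfsg.Agent.S4207

open Cfsg.Agent.Lib.helper23
open scoped commutatorElement

/-- the tuples reducing to a given tuple modulo the Frattini subgroup, with the action of a group
of automorphisms inducing the identity on the Frattini quotient -/
def fiberSub {P : Type*} [Group P] (A : Subgroup (MulAut P))
    (hA : ∀ α ∈ A, ∀ x : P, α x * x⁻¹ ∈ frattini P) (r : ℕ) (v : Fin r → P ⧸ frattini P) :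
    SubMulAction A (Fin r → P) where
  carrier := (fratMap P r) ⁻¹' {v}
  smul_mem' := fun α s hs => by
    rw [Set.mem_preimage, Set.mem_singleton_iff] at hs ⊢
    rw [← hs]
    funext i
    rw [fratMap_apply, fratMap_apply]
    exact (QuotientGroup.eq_iff_div_mem).mpr (by
      rw [div_eq_mul_inv]
      exact hA α.1 α.2 (s i))

/-- Let `P` be a group of order `p^n` whose Frattini subgroup has index `p^r`. Then any group of automorphisms of `P` each of which induces the identity on the Frattini quotient has order dividing `p^(r(n-r))`; in particular it is a `p`-group. -/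
theorem result {P : Type*} [Group P] [Finite P] {p n r : ℕ} [Fact p.Prime] (hP : Nat.card P = p ^ n) (hr : (frattini P).index = p ^ r) (A : Subgroup (MulAut P)) (hA : ∀ α ∈ A, ∀ x : P, α x * x⁻¹ ∈ frattini P) : Nat.card A ∣ p ^ (r * (n - r)) := by
  have hPG : IsPGroup p P := IsPGroup.of_card hP
  obtain ⟨hle, hΦ⟩ := Cfsg.Agent.S4208.card_frattini hP hr
  -- a generating tuple of the Frattini quotient
  have hcomm : ∀ a b : P ⧸ frattini P, a * b = b * a := by
    intro a b
    obtain ⟨a, rfl⟩ := QuotientGroup.mk_surjective a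
    obtain ⟨b, rfl⟩ := QuotientGroup.mk_surjective b
    rw [← QuotientGroup.mk_mul, ← QuotientGroup.mk_mul, QuotientGroup.eq]
    apply Cfsg.Agent.Lib.Helper1.pgroup_commutator_le_frattini hPG
    have : (a * b)⁻¹ * (b * a) = ⁅b⁻¹, a⁻¹⁆ := by
      rw [commutatorElement_def]; group
    rw [this]
    exact Subgroup.commutator_mem_commutator (Subgroup.mem_top _) (Subgroup.mem_top _)
  have hexp : ∀ a : P ⧸ frattini P, a ^ p = 1 := by
    intro a
    obtain ⟨a, rfl⟩ := QuotientGroup.mk_surjective a
    rw [← QuotientGroup.mk_pow, QuotientGroup.eq_one_iff]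
    exact Cfsg.Agent.Lib.Helper1.pgroup_pow_mem_frattini hPG a
  have hQ : Nat.card (P ⧸ frattini P) = p ^ r := hr
  obtain ⟨v, hv⟩ := exists_generating_of_elementary hcomm hexp hQ
  -- the fibre over v has the right size
  have hcard := card_preimage_of_surjective (fratMap P r) (fratMap_surjective r) {v}
  have hone : Nat.card (({v} : Set (Fin r → P ⧸ frattini P))) = 1 := by
    rw [Nat.card_coe_set_eq, Set.ncard_singleton]
  rw [card_ker_fratMap, hΦ, ← pow_mul, mul_comm (n - r) r, hone, one_mul] at hcard
  rw [← hcard]
  have hfree : ∀ (α : A) (s : fiberSub A hA r v), α • s = s → α = 1 := by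
    intro α s h
    have hs : Subgroup.closure (Set.range s.1) = ⊤ := by
      rw [closure_eq_top_iff_fratMap]
      have := s.2
      change s.1 ∈ (fratMap P r) ⁻¹' {v} at this
      rw [Set.mem_preimage, Set.mem_singleton_iff] at this
      rw [this]; exact hv
    have h2 : (α : MulAut P) • s.1 = s.1 := congrArg Subtype.val h
    apply Subtype.ext
    exact Cfsg.Agent.S4208.eq_one_of_smul_eq α.1 s.1 hs h2
  have h := card_dvd_of_free (G := A) (X := fiberSub A hA r v) hfree
  exact h

end Cfsg.Agent.S4207
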