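import Cfsg.Statements.S1038
import Cfsg.Agent.Lib.helper8.ChevBaseAll
import Cfsg.Agent.Lib.helper8.ChevReflAll
import Cfsg.Agent.Lib.helper8.ChevOrbAll

set_option autoImplicit false
open Cfsg

namespace Cfsg.Agent.S1038

theorem result {F : Type*} [Field F] (D : Cfsg.Lie.ChevalleyDatum) (hD : D ∈ [Cfsg.Lie.chevG2, Cfsg.Lie.chevB2, Cfsg.Lie.chevD4, Cfsg.Lie.chevF4, Cfsg.Lie.chevE6, Cfsg.Lie.chevE7, Cfsg.Lie.chevE8]) : ((D.diagonalSubgroup F).subgroupOf (D.monomialSubgroup F)).Normal := by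
  obtain ⟨dep, par, h⟩ := Cfsg.Agent.Lib.helper8.h8orb_chk_all D hD
  exact Cfsg.Agent.Lib.helper8.h8H_normal_N D (Cfsg.Agent.Lib.helper8.h8base_all D hD)
    (Cfsg.Agent.Lib.helper8.h8reflAll D hD) dep par h

end Cfsg.Agent.S1038
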