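import Cfsg.Statements.S2412
import Cfsg.Agent.Lib.Helper29.UG.UMain
import Cfsg.Agent.Lib.Helper28.UHerm

set_option autoImplicit false
open Cfsg

namespace Cfsg.Agent.S2412

open Cfsg.Agent.Lib.Helper28 Cfsg.Agent.Lib.Helper28.UGen Cfsg.Agent.Lib.Helper29.UG

/-- two-generation passes along surjective homomorphisms. -/
theorem twoGen_surj {A B : Type*} [Group A] [Group B] (φ : A →* B)
    (hφ : Function.Surjective φ)
    (h : ∃ a b : A, Subgroup.closure ({a, b} : Set A) = ⊤) :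
    ∃ a b : B, Subgroup.closure ({a, b} : Set B) = ⊤ := by
  obtain ⟨a, b, hab⟩ := h
  refine ⟨φ a, φ b, ?_⟩
  have h1 := MonoidHom.map_closure φ {a, b}
  rw [hab, Subgroup.map_top_of_surjective _ hφ, Set.image_pair] at h1
  exact h1.symm

/-- `SU_n(q)`, `n ≥ 3`, `(n, q) ≠ (3, 2)`, is generated by two of its elements. -/
theorem su_twoGen {F : Type*} [Field F] [Fintype F] {q : ℕ} (hF : Fintype.card F = q ^ 2)
    (n : ℕ) (hn : 3 ≤ n) (h32 : ¬ (n = 3 ∧ q = 2)) :
    ∃ a b : ↥(Cfsg.SU n F q), Subgroup.closure ({a, b} : Set ↥(Cfsg.SU n F q)) = ⊤ := by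
  classical
  obtain ⟨σ, hσ, hf⟩ := UHerm.herm_unitary hF n
  obtain ⟨φ, hφ⟩ : ∃ φ : ↥(Cfsg.SU n F q) →* Matrix.GeneralLinearGroup (Fin n) F,
      φ = Matrix.SpecialLinearGroup.toGL.comp (Cfsg.SU n F q).subtype := ⟨_, rfl⟩
  have hφval : ∀ B : ↥(Cfsg.SU n F q), ((φ B : Matrix.GeneralLinearGroup (Fin n) F) :
      Matrix (Fin n) (Fin n) F) = ((B : Matrix.SpecialLinearGroup (Fin n) F) :
      Matrix (Fin n) (Fin n) F) := by
    intro B
    rw [hφ]
    rfl
  have hφinj : Function.Injective φ := by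
    intro B C hBC
    apply Subtype.ext
    apply Subtype.ext
    rw [← hφval B, ← hφval C, hBC]
  have hG : IsSUGroup (Cfsg.hermForm n F q) (MonoidHom.range φ) := by
    intro g
    constructor
    · rintro ⟨B, rfl⟩
      refine ⟨?_, ?_⟩
      · intro x y
        rw [hφval]
        exact B.2 x y
      · unfold Cfsg.Geo.specialLinear
        rw [MonoidHom.mem_ker]
        apply Units.ext
        rw [Matrix.GeneralLinearGroup.val_det_apply, hφval]
        exact (B : Matrix.SpecialLinearGroup (Fin n) F).2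
    · rintro ⟨hiso, hsl⟩
      have hdet : (g : Matrix (Fin n) (Fin n) F).det = 1 := det_of_SL g hsl
      have hBSU : (⟨(g : Matrix (Fin n) (Fin n) F), hdet⟩ :
          Matrix.SpecialLinearGroup (Fin n) F) ∈ Cfsg.SU n F q := by
        intro u v
        exact hiso u v
      refine ⟨⟨⟨(g : Matrix (Fin n) (Fin n) F), hdet⟩, hBSU⟩, ?_⟩
      apply Units.ext
      rw [hφval]
  obtain ⟨a, ha, b, hb, hab⟩ := su_two_gen hF hσ hf hn h32 hG
  obtain ⟨a', rfl⟩ := ha
  obtain ⟨b', rfl⟩ := hb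
  refine ⟨a', b', ?_⟩
  apply Subgroup.map_injective hφinj
  rw [MonoidHom.map_closure, Set.image_pair, hab, ← MonoidHom.range_eq_map]

/-- The projective special unitary group `PSU_n(q)` with `n ≥ 3`, realised over the field with `q²` elements, `(n, q) ≠ (3, 2)`, is generated by two of its elements. -/
theorem result {F : Type*} [Field F] [Fintype F] {q : ℕ} (hq : IsPrimePow q) (hF : Fintype.card F = q ^ 2) (n : ℕ) (hn : 3 ≤ n) (h32 : n = 3 → q ≠ 2) :
    ∃ a b : Cfsg.PSU n F q, Subgroup.closure ({a, b} : Set (Cfsg.PSU n F q)) = ⊤ := by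
  have h32' : ¬ (n = 3 ∧ q = 2) := fun h => h32 h.1 h.2
  exact twoGen_surj (QuotientGroup.mk' _) (QuotientGroup.mk'_surjective _)
    (su_twoGen hF n hn h32')

end Cfsg.Agent.S2412
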