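import Cfsg.Statements.S3056
import Cfsg.Agent.Lib.Helper18.SylowIn
import Cfsg.Agent.Lib.Helper18.PPrimeCore
import Mathlib.Logic.Relation

set_option autoImplicit false
open Cfsg

namespace Cfsg.Agent.S3056

open Cfsg.Agent.Lib.Helper18

variable {G : Type*} [Group G] {p : ℕ}

/-- adjacency in the Sylow graph. -/
def adj (S T : Sylow p G) : Prop := S ≠ T ∧ (S : Subgroup G) ⊓ (T : Subgroup G) ≠ ⊥

/-- connectivity in the Sylow graph. -/
def conn (S T : Sylow p G) : Prop := Relation.ReflTransGen adj S T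

theorem adj_symm {S T : Sylow p G} (h : adj S T) : adj T S :=
  ⟨h.1.symm, by rw [inf_comm]; exact h.2⟩

theorem conn_symm {S T : Sylow p G} (h : conn S T) : conn T S := by
  induction h with
  | refl => exact Relation.ReflTransGen.refl
  | tail _ hbc ih => exact Relation.ReflTransGen.head (adj_symm hbc) ih

theorem adj_smul (g : G) {S T : Sylow p G} (h : adj S T) : adj (g • S) (g • T) := by
  refine ⟨fun he => h.1 (MulAction.injective g he), ?_⟩
  intro hbot
  apply h.2
  rw [eq_bot_iff]
  intro x hx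
  have h1 : g * x * g⁻¹ ∈ ((g • S : Sylow p G) : Subgroup G) ⊓ ((g • T : Sylow p G) : Subgroup G) := by
    constructor
    · apply mem_smul_sylow_iff.mpr
      have : g⁻¹ * (g * x * g⁻¹) * g = x := by group
      rw [this]; exact hx.1
    · apply mem_smul_sylow_iff.mpr
      have : g⁻¹ * (g * x * g⁻¹) * g = x := by group
      rw [this]; exact hx.2
  rw [hbot, Subgroup.mem_bot] at h1
  rw [Subgroup.mem_bot]
  have : x = g⁻¹ * (g * x * g⁻¹) * g := by group
  rw [this, h1]; group

theorem conn_smul (g : G) {S T : Sylow p G} (h : conn S T) : conn (g • S) (g • T) := by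
  induction h with
  | refl => exact Relation.ReflTransGen.refl
  | tail _ hbc ih => exact Relation.ReflTransGen.tail ih (adj_smul g hbc)

theorem chain_of_conn {S T : Sylow p G} (h : conn S T) :
    ∃ (n : ℕ) (c : Fin (n + 1) → Sylow p G), c 0 = S ∧ c (Fin.last n) = T ∧
      ∀ i : Fin n, adj (c i.castSucc) (c i.succ) := by
  induction h using Relation.ReflTransGen.head_induction_on with
  | refl => exact ⟨0, fun _ => T, rfl, rfl, fun i => i.elim0⟩
  | @head a b hab _ ih =>
    obtain ⟨n, c, h0, hl, hstep⟩ := ih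
    refine ⟨n + 1, (Fin.cons a c : Fin (n + 1 + 1) → Sylow p G), Fin.cons_zero _ _, ?_, ?_⟩
    · rw [show Fin.last (n + 1) = (Fin.last n).succ from rfl, Fin.cons_succ]; exact hl
    · intro i
      refine Fin.cases ?_ (fun j => ?_) i
      · rw [Fin.castSucc_zero, Fin.cons_zero, Fin.cons_succ, h0]; exact hab
      · rw [show j.succ.castSucc = j.castSucc.succ from rfl, Fin.cons_succ, Fin.cons_succ]
        exact hstep j

theorem conn_of_chain {n : ℕ} (c : Fin (n + 1) → Sylow p G)
    (hstep : ∀ i : Fin n, adj (c i.castSucc) (c i.succ)) : conn (c 0) (c (Fin.last n)) := by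
  have : ∀ i : Fin (n + 1), conn (c 0) (c i) := by
    intro i
    induction i using Fin.induction with
    | zero => exact Relation.ReflTransGen.refl
    | succ i ih => exact Relation.ReflTransGen.tail ih (hstep i)
  exact this _

theorem connected_iff : Cfsg.IsSylowChainConnected p G ↔ ∀ S T : Sylow p G, conn S T := by
  constructor
  · intro h S T
    obtain ⟨n, c, h0, hl, -, hstep⟩ := h S T
    have := conn_of_chain c (fun i => hstep i)
    rwa [h0, hl] at this
  · intro h S T
    by_cases hST : S = T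
    · subst hST
      exact ⟨0, fun _ => S, rfl, rfl, fun _ => inf_le_left, fun i => i.elim0⟩
    by_cases hb : (S : Subgroup G) ⊓ (T : Subgroup G) = ⊥
    · obtain ⟨n, c, h0, hl, hstep⟩ := chain_of_conn (h S T)
      exact ⟨n, c, h0, hl, fun i => by rw [hb]; exact bot_le, hstep⟩
    · refine ⟨1, ![S, T], rfl, rfl, ?_, ?_⟩
      · intro i
        fin_cases i
        · exact inf_le_left
        · exact inf_le_right
      · intro i
        fin_cases i
        exact ⟨hST, hb⟩

/-- the stabilizer of the component of `S`. -/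
def compStab (S : Sylow p G) : Subgroup G where
  carrier := {g | conn S (g • S)}
  one_mem' := by
    show conn S ((1 : G) • S)
    rw [one_smul]; exact Relation.ReflTransGen.refl
  mul_mem' := by
    intro a b ha hb
    show conn S ((a * b) • S)
    rw [mul_smul]
    exact Relation.ReflTransGen.trans ha (conn_smul a hb)
  inv_mem' := by
    intro a ha
    show conn S (a⁻¹ • S)
    have := conn_smul a⁻¹ ha
    rw [inv_smul_smul] at this
    exact conn_symm this

theorem mem_compStab {S : Sylow p G} {g : G} : g ∈ compStab S ↔ conn S (g • S) := Iff.rfl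

theorem le_compStab (S : Sylow p G) : (S : Subgroup G) ≤ compStab S := by
  intro s hs
  rw [mem_compStab]
  have : s • S = S := Sylow.smul_eq_iff_mem_normalizer.mpr (Subgroup.le_normalizer hs)
  rw [this]
  exact Relation.ReflTransGen.refl

theorem conn_of_inf_ne_bot {S T : Sylow p G} (h : (S : Subgroup G) ⊓ (T : Subgroup G) ≠ ⊥) : conn S T := by
  by_cases hST : S = T
  · subst hST; exact Relation.ReflTransGen.refl
  · exact Relation.ReflTransGen.single ⟨hST, h⟩

theorem exists_conj_mem_sylow [Finite G] [Fact p.Prime] (S : Sylow p G) {H : Subgroup G}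
    (hSH : (S : Subgroup G) ≤ H) {y : G} (hy : y ∈ H) (hyo : orderOf y = p) :
    ∃ h ∈ H, h * y * h⁻¹ ∈ (S : Subgroup G) := by
  have hXp : IsPGroup p (Subgroup.zpowers y) := by
    apply IsPGroup.of_card (n := 1)
    rw [Nat.card_zpowers, hyo, pow_one]
  obtain ⟨h, hh, hle⟩ := (isSylowIn_of_sylow_le S hSH).exists_conj_le
    (R := Subgroup.zpowers y) (by rw [Subgroup.zpowers_le]; exact hy) hXp
  exact ⟨h, hh, hle (conj_mem_conjSub (Subgroup.mem_zpowers y))⟩

theorem forward [Finite G] [Fact p.Prime] (h : ¬ Cfsg.IsSylowChainConnected p G) :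
    ∃ H : Subgroup G, H ≠ ⊤ ∧ p ∣ Nat.card H ∧
      ∀ g : G, g ∉ H → ¬ p ∣ Nat.card ↥(H ⊓ H.map (MulAut.conj g).toMonoidHom) := by
  rw [connected_iff] at h
  push Not at h
  obtain ⟨S, T, hST⟩ := h
  refine ⟨compStab S, ?_, ?_, ?_⟩
  · intro htop
    obtain ⟨g, hg⟩ := MulAction.exists_smul_eq G S T
    have : g ∈ compStab S := by rw [htop]; trivial
    rw [mem_compStab, hg] at this
    exact hST this
  · have hSne : (S : Subgroup G) ≠ ⊥ := by
      intro hbot
      apply hST
      obtain ⟨g, hg⟩ := MulAction.exists_smul_eq G S T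
      have : T = S := by
        apply Sylow.ext
        rw [← hg, coe_smul_sylow_eq_map, hbot, Subgroup.map_bot]
      rw [this]; exact Relation.ReflTransGen.refl
    have h1 : p ∣ Nat.card (S : Subgroup G) := by
      rcases S.isPGroup'.card_eq_or_dvd with h0 | h0
      · exact absurd (Subgroup.card_eq_one.mp h0) hSne
      · exact h0
    exact dvd_trans h1 (Subgroup.card_dvd_of_le (le_compStab S))
  · intro g hg hdvd
    apply hg
    set H := compStab S with hH
    obtain ⟨x, hx⟩ := exists_prime_orderOf_dvd_card' (G := ↥(H ⊓ conjSub g H)) p hdvd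
    have hx1 : (x : G) ≠ 1 := by
      intro h0
      have : x = 1 := Subtype.ext h0
      rw [this, orderOf_one] at hx
      exact (Fact.out : p.Prime).one_lt.ne hx
    have hxo : orderOf (x : G) = p := by rw [← hx]; exact Subgroup.orderOf_coe x
    have hxH : (x : G) ∈ H := x.2.1
    have hxg : g⁻¹ * (x : G) * g ∈ H := mem_conjSub.mp x.2.2
    have hxgo : orderOf (g⁻¹ * (x : G) * g) = p := by
      rw [← hxo]
      symm
      apply SemiconjBy.orderOf_eq g⁻¹
      unfold SemiconjBy
      group
    obtain ⟨h₁, hh₁, hm₁⟩ := exists_conj_mem_sylow S (le_compStab S) hxH hxo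
    obtain ⟨h₂, hh₂, hm₂⟩ := exists_conj_mem_sylow S (le_compStab S) hxg hxgo
    have m1 : (x : G) ∈ ((h₁⁻¹ • S : Sylow p G) : Subgroup G) := by
      apply mem_smul_sylow_iff.mpr
      rw [inv_inv]; exact hm₁
    have m2 : (x : G) ∈ (((g * h₂⁻¹) • S : Sylow p G) : Subgroup G) := by
      apply mem_smul_sylow_iff.mpr
      have : (g * h₂⁻¹)⁻¹ * (x : G) * (g * h₂⁻¹) = h₂ * (g⁻¹ * (x : G) * g) * h₂⁻¹ := by group
      rw [this]; exact hm₂
    have hne : ((h₁⁻¹ • S : Sylow p G) : Subgroup G) ⊓ (((g * h₂⁻¹) • S : Sylow p G) : Subgroup G) ≠ ⊥ := by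
      intro hbot
      have : (x : G) ∈ ((h₁⁻¹ • S : Sylow p G) : Subgroup G) ⊓ (((g * h₂⁻¹) • S : Sylow p G) : Subgroup G) :=
        ⟨m1, m2⟩
      rw [hbot, Subgroup.mem_bot] at this
      exact hx1 this
    have c1 : conn S (h₁⁻¹ • S) := mem_compStab.mp (H.inv_mem hh₁)
    have c2 : conn S ((g * h₂⁻¹) • S) := Relation.ReflTransGen.trans c1 (conn_of_inf_ne_bot hne)
    have : g * h₂⁻¹ ∈ H := mem_compStab.mpr c2
    have h3 := H.mul_mem this hh₂
    rwa [inv_mul_cancel_right] at h3

theorem backward [Finite G] [Fact p.Prime] (H : Subgroup G) (hH1 : H ≠ ⊤) (hH2 : p ∣ Nat.card H)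
    (hH3 : ∀ g : G, g ∉ H → ¬ p ∣ Nat.card ↥(H ⊓ H.map (MulAut.conj g).toMonoidHom)) :
    ¬ Cfsg.IsSylowChainConnected p G := by
  rw [connected_iff]
  intro hconn
  have K : ∀ (D : Subgroup G) (g : G), IsPGroup p D → D ≠ ⊥ → D ≤ H → D ≤ conjSub g H → g ∈ H := by
    intro D g hDp hD1 hDH hDg
    by_contra hg
    apply hH3 g hg
    have h1 : p ∣ Nat.card D := by
      rcases hDp.card_eq_or_dvd with h0 | h0
      · exact absurd (Subgroup.card_eq_one.mp h0) hD1
      · exact h0
    exact dvd_trans h1 (Subgroup.card_dvd_of_le (le_inf hDH hDg))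
  -- step 1
  obtain ⟨S, hSH⟩ : ∃ S : Sylow p G, (S : Subgroup G) ≤ H := by
    obtain ⟨P⟩ := (inferInstance : Nonempty (Sylow p ↥H))
    have hP := isSylowIn_of_sylow P
    set P₀ := (P : Subgroup ↥H).map H.subtype with hP₀
    have hP1 : P₀ ≠ ⊥ := by
      intro hbot
      apply hP.not_dvd
      rw [hbot, Subgroup.relIndex_bot_left]
      exact hH2
    obtain ⟨S, hS⟩ := hP.isPGroup.exists_le_sylow
    refine ⟨S, ?_⟩
    by_contra hnot
    have hQ : (S : Subgroup G) ⊓ H = P₀ :=
      hP.eq_of_le inf_le_right (S.isPGroup'.to_le inf_le_left) (le_inf hS hP.le)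
    have hlt : P₀ < (S : Subgroup G) := by
      refine lt_of_le_of_ne hS ?_
      intro he
      apply hnot
      rw [← he]; exact hP.le
    obtain ⟨z, hzS, hzN, hzP⟩ := exists_mem_normalizer_not_mem_of_lt_pGroup S.isPGroup' hlt
    have hzH : z ∉ H := by
      intro hz
      apply hzP
      rw [← hQ]; exact ⟨hzS, hz⟩
    apply hzH
    apply K P₀ z hP.isPGroup hP1 hP.le
    calc P₀ = conjSub z P₀ := (conjSub_eq_of_mem_normalizer hzN).symm
      _ ≤ conjSub z H := conjSub_mono hP.le
  -- step 2
  have step2 : ∀ T : Sylow p G, conn S T → (T : Subgroup G) ≤ H := by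
    intro T hT
    induction hT with
    | refl => exact hSH
    | @tail T' U _ hab ih =>
      obtain ⟨g, hg⟩ := MulAction.exists_smul_eq G T' U
      have hU : (U : Subgroup G) = conjSub g (T' : Subgroup G) := by
        rw [← hg, coe_smul_sylow_eq_map]
      have hgH : g ∈ H := by
        apply K ((T' : Subgroup G) ⊓ (U : Subgroup G)) g (T'.isPGroup'.to_le inf_le_left) hab.2
          (le_trans inf_le_left ih)
        calc (T' : Subgroup G) ⊓ (U : Subgroup G) ≤ (U : Subgroup G) := inf_le_right
          _ = conjSub g (T' : Subgroup G) := hU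
          _ ≤ conjSub g H := conjSub_mono ih
      rw [hU]
      exact conjSub_le_of_mem ih hgH
  -- step 3
  obtain ⟨g, hg⟩ : ∃ g : G, g ∉ H := by
    by_contra hcon
    push Not at hcon
    apply hH1
    rw [eq_top_iff]
    intro x _
    exact hcon x
  apply hg
  have hSne : (S : Subgroup G) ≠ ⊥ := by
    intro hbot
    have h1 : p ∣ Nat.card (S : Subgroup G) := by
      have := (isSylowIn_of_sylow_le S hSH).not_dvd
      by_contra hnd
      apply this
      rw [hbot, Subgroup.relIndex_bot_left]
      exact hH2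
    rw [hbot] at h1
    simp at h1
    exact (Fact.out : p.Prime).one_lt.ne' h1
  have hT := step2 (g • S) (hconn S (g • S))
  rw [coe_smul_sylow_eq_map] at hT
  apply K (conjSub g (S : Subgroup G)) g (conjSub_isPGroup S.isPGroup') ?_ hT (conjSub_mono hSH)
  intro hbot
  apply hSne
  have := card_conjSub g (S : Subgroup G)
  rw [hbot] at this
  simp at this
  exact Subgroup.card_eq_one.mp this.symm

theorem result {G : Type*} [Group G] [Finite G]
    (p : ℕ) [Fact p.Prime] :
    ¬ Cfsg.IsSylowChainConnected p G ↔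
      ∃ H : Subgroup G, H ≠ ⊤ ∧ p ∣ Nat.card H ∧
        ∀ g : G, g ∉ H → ¬ p ∣ Nat.card ↥(H ⊓ H.map (MulAut.conj g).toMonoidHom) := by
  constructor
  · exact forward
  · rintro ⟨H, hH1, hH2, hH3⟩
    exact backward H hH1 hH2 hH3

end Cfsg.Agent.S3056
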