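import Cfsg.Statements.S3058
import Cfsg.Agent.Lib.Helper18.StronglyEmbedded
import Cfsg.Agent.Lib.Helper18.ThompsonReplacement
import Cfsg.Agent.Lib.Helper18.ChermakDelgado4
import Cfsg.Agent.S3056
import Cfsg.Agent.S0058
import Mathlib.GroupTheory.SpecificGroups.Cyclic

set_option autoImplicit false
open Cfsg

namespace Cfsg.Agent.S3058

open Cfsg.Agent.Lib.Helper18

theorem pow_eq_one_of_mem_sup {G : Type*} [Group G] {p : ℕ} {a b : G} (ha : a ^ p = 1) (hb : b ^ p = 1)
    (hab : a * b = b * a) : ∀ x ∈ Subgroup.zpowers a ⊔ Subgroup.zpowers b, x ^ p = 1 := by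
  have hE : IsMulCommutative ↥(Subgroup.zpowers a ⊔ Subgroup.zpowers b) := by
    apply isMulCommutative_sup_of_le_centralizer inferInstance inferInstance
    rw [Subgroup.zpowers_le, Subgroup.mem_centralizer_iff]
    intro y hy
    obtain ⟨k, rfl⟩ := Subgroup.mem_zpowers_iff.mp hy
    have hc : Commute a b := hab
    exact (hc.zpow_left k).eq
  let T : Subgroup G :=
    { carrier := {x | x ∈ Subgroup.zpowers a ⊔ Subgroup.zpowers b ∧ x ^ p = 1}
      one_mem' := ⟨Subgroup.one_mem _, one_pow p⟩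
      mul_mem' := by
        rintro x y ⟨hx, hxp⟩ ⟨hy, hyp⟩
        refine ⟨Subgroup.mul_mem _ hx hy, ?_⟩
        have hc : Commute x y := by
          have := hE.is_comm.comm ⟨x, hx⟩ ⟨y, hy⟩
          exact congrArg Subtype.val this
        rw [hc.mul_pow, hxp, hyp, one_mul]
      inv_mem' := by
        rintro x ⟨hx, hxp⟩
        exact ⟨Subgroup.inv_mem _ hx, by rw [inv_pow, hxp, inv_one]⟩ }
  have h1 : Subgroup.zpowers a ≤ T := by
    rw [Subgroup.zpowers_le]
    exact ⟨Subgroup.mem_sup_left (Subgroup.mem_zpowers a), ha⟩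
  have h2 : Subgroup.zpowers b ≤ T := by
    rw [Subgroup.zpowers_le]
    exact ⟨Subgroup.mem_sup_right (Subgroup.mem_zpowers b), hb⟩
  intro x hx
  exact ((sup_le h1 h2) hx).2

theorem not_isCyclic_sup {G : Type*} [Group G] [Finite G] {p : ℕ} [Fact p.Prime] {a b : G}
    (ha : orderOf a = p) (hb : b ^ p = 1) (hab : a * b = b * a) (hba : b ∉ Subgroup.zpowers a) :
    ¬ IsCyclic ↥(Subgroup.zpowers a ⊔ Subgroup.zpowers b) := by
  intro hcyc
  have hap : a ^ p = 1 := by rw [← ha]; exact pow_orderOf_eq_one a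
  have h1 := IsCyclic.exponent_eq_card (α := ↥(Subgroup.zpowers a ⊔ Subgroup.zpowers b))
  have h2 : Monoid.exponent ↥(Subgroup.zpowers a ⊔ Subgroup.zpowers b) ∣ p := by
    apply Monoid.exponent_dvd_of_forall_pow_eq_one
    intro x
    apply Subtype.ext
    rw [Subgroup.coe_pow]
    exact pow_eq_one_of_mem_sup hap hb hab x x.2
  have h3 : p < Nat.card ↥(Subgroup.zpowers a ⊔ Subgroup.zpowers b) := by
    have hlt : Subgroup.zpowers a < Subgroup.zpowers a ⊔ Subgroup.zpowers b := by
      refine lt_of_le_of_ne le_sup_left ?_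
      intro he
      apply hba
      rw [he]
      exact Subgroup.mem_sup_right (Subgroup.mem_zpowers b)
    have := Nat.lt_of_le_of_ne (Subgroup.card_le_of_le hlt.le)
      (fun h => hlt.ne (Subgroup.eq_of_le_of_card_ge hlt.le h.ge))
    rwa [Nat.card_zpowers, ha] at this
  have h4 := Nat.le_of_dvd (Fact.out : p.Prime).pos h2
  omega

theorem result {G : Type*} [Group G] [Finite G]
    (p : ℕ) [Fact p.Prime] (hG : ¬ Cfsg.IsSylowChainConnected p G)
    (N M : Subgroup G) [N.Normal] [M.Normal] (hN : p ∣ Nat.card N) (hM : p ∣ Nat.card M) :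
    p ∣ Nat.card ↥(N ⊓ M) := by
  by_contra hK
  obtain ⟨H, hH⟩ : ∃ H : Subgroup G, IsSPE p H := Cfsg.Agent.S3056.forward hG
  obtain ⟨S, hSH⟩ := hH.exists_sylow_le
  have hp : p.Prime := Fact.out
  have hKn : (N ⊓ M).Normal := Subgroup.normal_inf_normal N M
  have hNn : N.Normal := inferInstance
  have hMn : M.Normal := inferInstance
  set K := N ⊓ M with hKdef
  have hSN : IsSylowIn p ((S : Subgroup G) ⊓ N) N :=
    (isSylowIn_top_of_sylow S).inf_of_normal le_top (by rw [Subgroup.normalizer_eq_top])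
  have hSM : IsSylowIn p ((S : Subgroup G) ⊓ M) M :=
    (isSylowIn_top_of_sylow S).inf_of_normal le_top (by rw [Subgroup.normalizer_eq_top])
  set A := (S : Subgroup G) ⊓ N with hA
  set B := (S : Subgroup G) ⊓ M with hB
  have hA1 : p ∣ Nat.card A := by
    have h1 := card_eq_card_mul_relIndex (hSN.le)
    rw [h1] at hN
    exact (hp.dvd_mul.mp hN).resolve_right hSN.not_dvd
  have hB1 : p ∣ Nat.card B := by
    have h1 := card_eq_card_mul_relIndex (hSM.le)
    rw [h1] at hM
    exact (hp.dvd_mul.mp hM).resolve_right hSM.not_dvd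
  have hAne : A ≠ ⊥ := by
    intro h0
    rw [h0] at hA1
    simp at hA1
    exact hp.one_lt.ne' hA1
  have hBne : B ≠ ⊥ := by
    intro h0
    rw [h0] at hB1
    simp at hB1
    exact hp.one_lt.ne' hB1
  have hSK : (S : Subgroup G) ⊓ K = ⊥ := by
    have hpg : IsPGroup p ↥((S : Subgroup G) ⊓ K) := S.isPGroup'.to_le inf_le_left
    rcases hpg.card_eq_or_dvd with h0 | h0
    · exact Subgroup.card_eq_one.mp h0
    · exact absurd (dvd_trans h0 (Subgroup.card_dvd_of_le inf_le_right)) hK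
  obtain ⟨a', ha'⟩ := exists_prime_orderOf_dvd_card' (G := ↥A) p hA1
  obtain ⟨b', hb'⟩ := exists_prime_orderOf_dvd_card' (G := ↥B) p hB1
  have hao : orderOf (a' : G) = p := by rw [← ha']; exact Subgroup.orderOf_coe a'
  have hbo : orderOf (b' : G) = p := by rw [← hb']; exact Subgroup.orderOf_coe b'
  obtain ⟨a, haA⟩ := a'
  obtain ⟨b, hbB⟩ := b'
  simp only at hao hbo
  have hab : a * b = b * a := by
    have hc : a * b * a⁻¹ * b⁻¹ ∈ (S : Subgroup G) ⊓ K := by
      refine ⟨?_, ?_, ?_⟩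
      · exact Subgroup.mul_mem _ (Subgroup.mul_mem _ (Subgroup.mul_mem _ haA.1 hbB.1)
          (Subgroup.inv_mem _ haA.1)) (Subgroup.inv_mem _ hbB.1)
      · have : a * b * a⁻¹ * b⁻¹ = a * (b * a⁻¹ * b⁻¹) := by group
        rw [this]; exact N.mul_mem haA.2 (hNn.conj_mem _ (N.inv_mem haA.2) b)
      · exact M.mul_mem (hMn.conj_mem _ hbB.2 a) (M.inv_mem hbB.2)
    rw [hSK, Subgroup.mem_bot] at hc
    calc a * b = (a * b * a⁻¹ * b⁻¹) * (b * a) := by group
      _ = b * a := by rw [hc, one_mul]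
  have hba : b ∉ Subgroup.zpowers a := by
    intro hmem
    have hbA : b ∈ A := (Subgroup.zpowers_le.mpr haA) hmem
    have : b ∈ (S : Subgroup G) ⊓ K := ⟨hbB.1, hbA.2, hbB.2⟩
    rw [hSK, Subgroup.mem_bot] at this
    rw [this, orderOf_one] at hbo
    exact hp.one_lt.ne hbo
  set E := Subgroup.zpowers a ⊔ Subgroup.zpowers b with hE
  have hES : E ≤ (S : Subgroup G) :=
    sup_le (Subgroup.zpowers_le.mpr haA.1) (Subgroup.zpowers_le.mpr hbB.1)
  have hEc : IsMulCommutative ↥E := by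
    apply isMulCommutative_sup_of_le_centralizer inferInstance inferInstance
    rw [Subgroup.zpowers_le, Subgroup.mem_centralizer_iff]
    intro y hy
    obtain ⟨k, rfl⟩ := Subgroup.mem_zpowers_iff.mp hy
    have hc : Commute a b := hab
    exact (hc.zpow_left k).eq
  have hEnc : ¬ IsCyclic ↥E :=
    not_isCyclic_sup hao (by rw [← hbo]; exact pow_orderOf_eq_one b) hab hba
  have hEK : E ≤ Subgroup.normalizer (K : Set G) := by rw [Subgroup.normalizer_eq_top]; exact le_top
  have hcop : (Nat.card ↥E).Coprime (Nat.card ↥K) := by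
    have hEp : IsPGroup p ↥E := S.isPGroup'.to_le hES
    obtain ⟨n, hn⟩ := IsPGroup.iff_card.mp hEp
    rw [hn]
    exact Nat.Coprime.pow_left n ((Nat.Prime.coprime_iff_not_dvd hp).mpr hK)
  have hgen := Cfsg.Agent.S0058.result E K hEnc hEK hcop
  have hKH : K ≤ H := by
    rw [← hgen]
    apply iSup₂_le
    rintro e ⟨heE, he1⟩
    exact le_trans inf_le_right (hH.centralizer_le (hSH (hES heE)) he1
      (S.isPGroup'.to_le (Subgroup.zpowers_le.mpr (hES heE))))
  have hNH : N ≤ H := by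
    intro n hn
    set L := B ⊔ K with hL
    have hBL : IsSylowIn p B L := by
      refine ⟨le_sup_left, S.isPGroup'.to_le inf_le_left, ?_⟩
      rw [relIndex_sup_of_normal B K]
      intro hd
      exact hK (dvd_trans hd (Subgroup.relIndex_dvd_card B K))
    have hconj : conjSub n B ≤ L := by
      rintro _ ⟨y, hy, rfl⟩
      show n * y * n⁻¹ ∈ L
      have : n * y * n⁻¹ = (n * y * n⁻¹ * y⁻¹) * y := by group
      rw [this]
      refine L.mul_mem (Subgroup.mem_sup_right ⟨?_, ?_⟩) (Subgroup.mem_sup_left hy)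
      · have : n * y * n⁻¹ * y⁻¹ = n * (y * n⁻¹ * y⁻¹) := by group
        rw [this]; exact N.mul_mem hn (hNn.conj_mem _ (N.inv_mem hn) y)
      · exact M.mul_mem (hMn.conj_mem _ hy.2 n) (M.inv_mem hy.2)
    obtain ⟨x, hxL, hle⟩ := hBL.exists_conj_le hconj (conjSub_isPGroup hBL.isPGroup)
    rw [conjSub_mul] at hle
    have hxn : x * n ∈ H := hH.normalizer_le hBL.isPGroup hBne (inf_le_left.trans hSH)
      (mem_normalizer_of_conjSub_le hle)
    have hxH : x ∈ H := (sup_le (inf_le_left.trans hSH) hKH) hxL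
    have : n = x⁻¹ * (x * n) := by group
    rw [this]; exact H.mul_mem (H.inv_mem hxH) hxn
  apply hH.1
  rw [eq_top_iff]
  intro g _
  obtain ⟨n, hn, hng⟩ := hSN.frattini (g := g) (by rw [Subgroup.normalizer_eq_top]; trivial)
  have h1 : n * g ∈ H := hH.normalizer_le hSN.isPGroup hAne (inf_le_left.trans hSH) hng
  have : g = n⁻¹ * (n * g) := by group
  rw [this]; exact H.mul_mem (H.inv_mem (hNH hn)) h1

end Cfsg.Agent.S3058
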