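import Cfsg.Statements.S5652
import Cfsg.Agent.S5646

set_option autoImplicit false

open Cfsg

namespace Cfsg.Agent.S5652

open Matrix Cfsg.Agent.Lib.helper6 Cfsg.Agent.S5646

variable {m : ℕ} {F : Type*} [Field F]

theorem Q_add {Q : (Fin m ⊕ Fin m → F) → F}
    (hpol : ∀ u v, QuadraticMap.polar Q u v = Cfsg.sympForm m F u v) (x y : Fin m ⊕ Fin m → F) :
    Q (x + y) = Q x + Q y + Cfsg.sympForm m F x y := by
  have := hpol x y
  unfold QuadraticMap.polar at this
  linear_combination this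

theorem Q_zero {Q : (Fin m ⊕ Fin m → F) → F} (hQ : Cfsg.Geo.IsNondegenerateQuadraticForm Q) :
    Q 0 = 0 := by
  have := hQ.smul 0 0
  simpa using this

theorem char_two [Fintype F] (heven : ¬ Odd (Fintype.card F)) : (2 : F) = 0 := by
  have h1 : Fintype.card F % 2 = 0 := by
    rcases Nat.even_or_odd (Fintype.card F) with h | h
    · exact Nat.even_iff.mp h
    · exact absurd h heven
  have h2 : ringChar F = 2 := (FiniteField.even_card_iff_char_two).mpr h1
  haveI : CharP F 2 := by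
    rw [← h2]
    exact ringChar.charP F
  exact CharP.cast_eq_zero F 2

theorem sqrt_exists [Fintype F] (h2 : (2 : F) = 0) (a : F) : ∃ b : F, b ^ 2 = a := by
  have hinj : Function.Injective (fun b : F => b ^ 2) := by
    intro x y hxy
    simp only at hxy
    have : (x - y) ^ 2 = 0 := by
      have e : (x - y) ^ 2 = x ^ 2 - y ^ 2 - (x * y) * 2 + y ^ 2 * 2 := by ring
      rw [e, h2, hxy]
      ring
    exact sub_eq_zero.mp (pow_eq_zero_iff (by norm_num) |>.mp this)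
  have hsurj : Function.Surjective (fun b : F => b ^ 2) := Finite.injective_iff_surjective.mp hinj
  exact hsurj a

theorem Q_tv {Q : (Fin m ⊕ Fin m → F) → F} (hQ : Cfsg.Geo.IsNondegenerateQuadraticForm Q)
    (hpol : ∀ u v, QuadraticMap.polar Q u v = Cfsg.sympForm m F u v)
    (x v : Fin m ⊕ Fin m → F) (c : F) :
    Q (x + (c * Cfsg.sympForm m F x v) • v) =
      Q x + c * (Cfsg.sympForm m F x v) ^ 2 * (1 + c * Q v) := by
  rw [Q_add hpol, hQ.smul, sympForm_smul_right]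
  ring

theorem rep (r : Fin m ⊕ Fin m → F) :
    ∃ a : Fin m ⊕ Fin m → F, ∀ x, Cfsg.sympForm m F x a = r ⬝ᵥ x := by
  refine ⟨-(Matrix.J (Fin m) F *ᵥ r), fun x => ?_⟩
  unfold Cfsg.sympForm
  rw [Matrix.mulVec_neg, J_mulVec_J_mulVec, neg_neg, dotProduct_comm]

def PP (M : Subgroup (Matrix.GeneralLinearGroup (Fin m ⊕ Fin m) F))
    (v : Fin m ⊕ Fin m → F) (c : F) : Prop :=
  ∀ g : Matrix.GeneralLinearGroup (Fin m ⊕ Fin m) F,
    (g : Matrix (Fin m ⊕ Fin m) (Fin m ⊕ Fin m) F) = Cfsg.sympTransvection m v c → g ∈ M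

theorem inv_mv (g : Matrix.GeneralLinearGroup (Fin m ⊕ Fin m) F) (y : Fin m ⊕ Fin m → F) :
    (g : Matrix (Fin m ⊕ Fin m) (Fin m ⊕ Fin m) F) *ᵥ
      (((g⁻¹ : Matrix.GeneralLinearGroup (Fin m ⊕ Fin m) F) :
        Matrix (Fin m ⊕ Fin m) (Fin m ⊕ Fin m) F) *ᵥ y) = y := by
  rw [Matrix.mulVec_mulVec, ← Units.val_mul, mul_inv_cancel, Units.val_one, Matrix.one_mulVec]

theorem inv_mv' (g : Matrix.GeneralLinearGroup (Fin m ⊕ Fin m) F) (y : Fin m ⊕ Fin m → F) :
    ((g⁻¹ : Matrix.GeneralLinearGroup (Fin m ⊕ Fin m) F) :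
        Matrix (Fin m ⊕ Fin m) (Fin m ⊕ Fin m) F) *ᵥ
      ((g : Matrix (Fin m ⊕ Fin m) (Fin m ⊕ Fin m) F) *ᵥ y) = y := by
  rw [Matrix.mulVec_mulVec, ← Units.val_mul, inv_mul_cancel, Units.val_one, Matrix.one_mulVec]

theorem conj_ts (h t : Matrix.GeneralLinearGroup (Fin m ⊕ Fin m) F) (hh : h ∈ Cfsg.spGL m F)
    (v : Fin m ⊕ Fin m → F) (c : F)
    (ht : (t : Matrix (Fin m ⊕ Fin m) (Fin m ⊕ Fin m) F) = Cfsg.sympTransvection m v c) :
    ((h * t * h⁻¹ : Matrix.GeneralLinearGroup (Fin m ⊕ Fin m) F) :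
      Matrix (Fin m ⊕ Fin m) (Fin m ⊕ Fin m) F) =
      Cfsg.sympTransvection m ((h : Matrix (Fin m ⊕ Fin m) (Fin m ⊕ Fin m) F) *ᵥ v) c := by
  rw [Matrix.ext_iff_mulVec]
  intro x
  have hiso := (mem_spGL_iff h).mp hh
  have e : Cfsg.sympForm m F (((h⁻¹ : Matrix.GeneralLinearGroup (Fin m ⊕ Fin m) F) :
      Matrix (Fin m ⊕ Fin m) (Fin m ⊕ Fin m) F) *ᵥ x) v =
      Cfsg.sympForm m F x ((h : Matrix (Fin m ⊕ Fin m) (Fin m ⊕ Fin m) F) *ᵥ v) := by
    rw [← hiso, inv_mv]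
  rw [Units.val_mul, Units.val_mul, ← Matrix.mulVec_mulVec, ← Matrix.mulVec_mulVec, ht,
    sympTransvection_mulVec, sympTransvection_mulVec, Matrix.mulVec_add, inv_mv,
    Matrix.mulVec_smul, e]

theorem PP_conj (M : Subgroup (Matrix.GeneralLinearGroup (Fin m ⊕ Fin m) F))
    (hM : M ≤ Cfsg.spGL m F) (h : Matrix.GeneralLinearGroup (Fin m ⊕ Fin m) F) (hh : h ∈ M)
    (v : Fin m ⊕ Fin m → F) (c : F) (hP : PP M v c) :
    PP M ((h : Matrix (Fin m ⊕ Fin m) (Fin m ⊕ Fin m) F) *ᵥ v) c := by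
  intro g hg
  obtain ⟨t, ht, _⟩ := tsGL v c
  have htM : t ∈ M := hP t ht
  have : g = h * t * h⁻¹ := by
    apply Units.ext
    rw [hg, conj_ts h t (hM hh) v c ht]
  rw [this]
  exact M.mul_mem (M.mul_mem hh htM) (M.inv_mem hh)

theorem ts_smul (v : Fin m ⊕ Fin m → F) (t c : F) :
    Cfsg.sympTransvection m (t • v) c = Cfsg.sympTransvection m v (t ^ 2 * c) := by
  rw [Matrix.ext_iff_mulVec]
  intro x
  rw [sympTransvection_mulVec, sympTransvection_mulVec, sympForm_smul_right, smul_smul]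
  congr 2
  ring

theorem PP_smul (M : Subgroup (Matrix.GeneralLinearGroup (Fin m ⊕ Fin m) F))
    (v : Fin m ⊕ Fin m → F) (t c : F) : PP M (t • v) c ↔ PP M v (t ^ 2 * c) := by
  unfold PP
  rw [ts_smul]

theorem PP_add (M : Subgroup (Matrix.GeneralLinearGroup (Fin m ⊕ Fin m) F))
    (v : Fin m ⊕ Fin m → F) (c d : F) (hc : PP M v c) (hd : PP M v d) : PP M v (c + d) := by
  intro g hg
  obtain ⟨t1, ht1, _⟩ := tsGL v c
  obtain ⟨t2, ht2, _⟩ := tsGL v d
  have : g = t1 * t2 := by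
    apply Units.ext
    rw [hg, Units.val_mul, ht1, ht2, (Cfsg.Agent.S0767.result m v).1]
  rw [this]
  exact M.mul_mem (hc t1 ht1) (hd t2 ht2)

theorem PP_zero (M : Subgroup (Matrix.GeneralLinearGroup (Fin m ⊕ Fin m) F))
    (v : Fin m ⊕ Fin m → F) : PP M v 0 := by
  intro g hg
  have : g = 1 := by
    apply Units.ext
    rw [hg, ts_zero]
    rfl
  rw [this]
  exact M.one_mem

theorem PP_orth {Q : (Fin m ⊕ Fin m → F) → F} (hQ : Cfsg.Geo.IsNondegenerateQuadraticForm Q)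
    (hpol : ∀ u v, QuadraticMap.polar Q u v = Cfsg.sympForm m F u v)
    (M : Subgroup (Matrix.GeneralLinearGroup (Fin m ⊕ Fin m) F))
    (hHM : Cfsg.Geo.quadSimilarityGroup Q ⊓ Cfsg.spGL m F ≤ M)
    (v : Fin m ⊕ Fin m → F) (c : F) (hc : c * Q v = 1) (h2 : (2 : F) = 0) : PP M v c := by
  intro g hg
  obtain ⟨t, ht, htS⟩ := tsGL v c
  have : g = t := Units.ext (by rw [hg, ht])
  rw [this]
  apply hHM
  refine ⟨⟨1, fun x => ?_⟩, htS⟩
  rw [ts_apply t v c ht, Q_tv hQ hpol, hc, Units.val_one, one_mul]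
  linear_combination (c * Cfsg.sympForm m F x v ^ 2) * h2

theorem sum_sq (h2 : (2 : F) = 0) {ι : Type*} (s : Finset ι) (a : ι → F) :
    (∑ i ∈ s, a i) ^ 2 = ∑ i ∈ s, (a i) ^ 2 := by
  classical
  induction s using Finset.induction_on with
  | empty => simp
  | insert j s hj ih =>
    rw [Finset.sum_insert hj, Finset.sum_insert hj, ← ih]
    linear_combination (a j * ∑ i ∈ s, a i) * h2

theorem delta [Fintype F] {Q : (Fin m ⊕ Fin m → F) → F}
    (hQ : Cfsg.Geo.IsNondegenerateQuadraticForm Q)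
    (hpol : ∀ u v, QuadraticMap.polar Q u v = Cfsg.sympForm m F u v) (h2 : (2 : F) = 0)
    (g : Matrix.GeneralLinearGroup (Fin m ⊕ Fin m) F) (hg : g ∈ Cfsg.spGL m F) :
    ∃ r : Fin m ⊕ Fin m → F, ∀ x, Q ((g : Matrix (Fin m ⊕ Fin m) (Fin m ⊕ Fin m) F) *ᵥ x) =
      Q x + (r ⬝ᵥ x) ^ 2 := by
  have hiso := (mem_spGL_iff g).mp hg
  let ψ : (Fin m ⊕ Fin m → F) →+ F :=
    { toFun := fun x => Q ((g : Matrix (Fin m ⊕ Fin m) (Fin m ⊕ Fin m) F) *ᵥ x) - Q x
      map_zero' := by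
        simp only [Matrix.mulVec_zero, Q_zero hQ, sub_self]
      map_add' := by
        intro x y
        simp only [Matrix.mulVec_add, Q_add hpol, hiso]
        ring }
  have hψ : ∀ x, ψ x = Q ((g : Matrix (Fin m ⊕ Fin m) (Fin m ⊕ Fin m) F) *ᵥ x) - Q x := fun x => rfl
  have hψs : ∀ (c : F) x, ψ (c • x) = c ^ 2 * ψ x := by
    intro c x
    rw [hψ, hψ, Matrix.mulVec_smul, hQ.smul, hQ.smul]
    ring
  have hr : ∀ i : Fin m ⊕ Fin m, ∃ b : F, b ^ 2 = ψ (Pi.single i 1) := fun i => sqrt_exists h2 _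
  choose r hr using hr
  refine ⟨r, fun x => ?_⟩
  have hx : x = ∑ i, x i • (Pi.single i (1 : F) : Fin m ⊕ Fin m → F) := by
    ext j
    simp [Finset.sum_apply, Pi.single_apply]
  have h1 : ψ x = (r ⬝ᵥ x) ^ 2 := by
    conv_lhs => rw [hx]
    rw [map_sum]
    unfold dotProduct
    rw [sum_sq h2]
    apply Finset.sum_congr rfl
    intro i _
    rw [hψs, ← hr i]
    ring
  rw [← h1, hψ]
  ring

theorem exists_singular [Fintype F] {Q : (Fin m ⊕ Fin m → F) → F}
    (hQ : Cfsg.Geo.IsNondegenerateQuadraticForm Q)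
    (hpol : ∀ u v, QuadraticMap.polar Q u v = Cfsg.sympForm m F u v) (h2 : (2 : F) = 0)
    (hm : 2 ≤ m) : ∃ s : Fin m ⊕ Fin m → F, s ≠ 0 ∧ Q s = 0 := by
  set e1 : Fin m ⊕ Fin m → F := Pi.single (Sum.inl ⟨0, by omega⟩) 1 with he1
  set e2 : Fin m ⊕ Fin m → F := Pi.single (Sum.inl ⟨1, by omega⟩) 1 with he2
  have h12 : Cfsg.sympForm m F e1 e2 = 0 := by
    unfold Cfsg.sympForm
    rw [he1, he2, Matrix.mulVec_single_one, single_one_dotProduct]
    simp [Matrix.J, Matrix.fromBlocks_apply₁₁]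
  have he1ne : e1 ≠ 0 := by
    intro h0
    have := congrFun h0 (Sum.inl ⟨0, by omega⟩)
    simp [he1] at this
  have he2ne : e2 ≠ 0 := by
    intro h0
    have := congrFun h0 (Sum.inl ⟨1, by omega⟩)
    simp [he2] at this
  by_cases ha : Q e1 = 0
  · exact ⟨e1, he1ne, ha⟩
  · by_cases hb : Q e2 = 0
    · exact ⟨e2, he2ne, hb⟩
    · obtain ⟨α, hα⟩ := sqrt_exists h2 (Q e1)
      obtain ⟨β, hβ⟩ := sqrt_exists h2 (Q e2)
      have hβ0 : β ≠ 0 := by
        intro h0
        rw [h0] at hβ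
        exact hb (by rw [← hβ]; ring)
      refine ⟨β • e1 + α • e2, ?_, ?_⟩
      · intro h0
        have := congrFun h0 (Sum.inl ⟨0, by omega⟩)
        simp [he1, he2] at this
        exact hβ0 this
      · rw [Q_add hpol, hQ.smul, hQ.smul, sympForm_smul_left, sympForm_smul_right, h12, hβ, ← hα]
        linear_combination (α ^ 2 * Q e2) * h2

theorem exists_partner {Q : (Fin m ⊕ Fin m → F) → F}
    (hQ : Cfsg.Geo.IsNondegenerateQuadraticForm Q)
    (hpol : ∀ u v, QuadraticMap.polar Q u v = Cfsg.sympForm m F u v) (h2 : (2 : F) = 0)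
    (s : Fin m ⊕ Fin m → F) (hs0 : s ≠ 0) (hs : Q s = 0) :
    ∃ s' : Fin m ⊕ Fin m → F, Q s' = 0 ∧ Cfsg.sympForm m F s s' = 1 := by
  obtain ⟨y1, h1⟩ : ∃ y1, Cfsg.sympForm m F s y1 = 1 := by
    obtain ⟨y, hy⟩ := sympForm_nondeg m s hs0
    exact ⟨(Cfsg.sympForm m F s y)⁻¹ • y, by rw [sympForm_smul_right, inv_mul_cancel₀ hy]⟩
  refine ⟨y1 + Q y1 • s, ?_, ?_⟩
  · rw [Q_add hpol, hQ.smul, hs, sympForm_smul_right, sympForm_swap, h1]
    linear_combination (Q y1) * h2 - (Q y1) * h2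
  · rw [sympForm_add_right, sympForm_smul_right, sympForm_self, h1]
    ring

theorem two_func' (v w : Fin m ⊕ Fin m → F) (hv : v ≠ 0) (hw : w ≠ 0) :
    ∃ y, Cfsg.sympForm m F v y ≠ 0 ∧ Cfsg.sympForm m F w y ≠ 0 := by
  obtain ⟨x1, hx1⟩ := sympForm_nondeg m v hv
  obtain ⟨x2, hx2⟩ := sympForm_nondeg m w hw
  by_cases h1 : Cfsg.sympForm m F w x1 = 0
  · by_cases h2 : Cfsg.sympForm m F v x2 = 0
    · refine ⟨x1 + x2, ?_, ?_⟩
      · rw [sympForm_add_right, h2, add_zero]; exact hx1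
      · rw [sympForm_add_right, h1, zero_add]; exact hx2
    · exact ⟨x2, h2, hx2⟩
  · exact ⟨x1, hx1, h1⟩

theorem orth_mem {Q : (Fin m ⊕ Fin m → F) → F} (hQ : Cfsg.Geo.IsNondegenerateQuadraticForm Q)
    (hpol : ∀ u v, QuadraticMap.polar Q u v = Cfsg.sympForm m F u v) (h2 : (2 : F) = 0)
    (v : Fin m ⊕ Fin m → F) (c : F) (hc : c * Q v = 1)
    (t : Matrix.GeneralLinearGroup (Fin m ⊕ Fin m) F)
    (ht : (t : Matrix (Fin m ⊕ Fin m) (Fin m ⊕ Fin m) F) = Cfsg.sympTransvection m v c)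
    (htS : t ∈ Cfsg.spGL m F) : t ∈ Cfsg.Geo.quadSimilarityGroup Q ⊓ Cfsg.spGL m F := by
  refine ⟨⟨1, fun x => ?_⟩, htS⟩
  rw [ts_apply t v c ht, Q_tv hQ hpol, hc, Units.val_one, one_mul]
  linear_combination (c * Cfsg.sympForm m F x v ^ 2) * h2

theorem dilation {Q : (Fin m ⊕ Fin m → F) → F} (hQ : Cfsg.Geo.IsNondegenerateQuadraticForm Q)
    (hpol : ∀ u v, QuadraticMap.polar Q u v = Cfsg.sympForm m F u v) (h2 : (2 : F) = 0)
    (s s' : Fin m ⊕ Fin m → F) (hs : Q s = 0) (hs' : Q s' = 0)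
    (hss' : Cfsg.sympForm m F s s' = 1) (t : F) (ht : t ≠ 0) :
    ∃ h ∈ Cfsg.Geo.quadSimilarityGroup Q ⊓ Cfsg.spGL m F,
      (h : Matrix (Fin m ⊕ Fin m) (Fin m ⊕ Fin m) F) *ᵥ s = t • s := by
  have hs's : Cfsg.sympForm m F s' s = -1 := by rw [sympForm_swap, hss']
  have hQ1 : Q (s + s') = 1 := by
    rw [Q_add hpol, hs, hs', hss']
    ring
  have hQt : Q (s + t • s') = t := by
    rw [Q_add hpol, hQ.smul, hs, hs', sympForm_smul_right, hss']
    ring
  obtain ⟨a, ha, haS⟩ := tsGL (s + s') (1 : F)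
  obtain ⟨b, hb, hbS⟩ := tsGL (s + t • s') (t⁻¹ : F)
  have haH := orth_mem hQ hpol h2 (s + s') 1 (by rw [hQ1, mul_one]) a ha haS
  have hbH := orth_mem hQ hpol h2 (s + t • s') t⁻¹ (by rw [hQt, inv_mul_cancel₀ ht]) b hb hbS
  refine ⟨a * b, (Cfsg.Geo.quadSimilarityGroup Q ⊓ Cfsg.spGL m F).mul_mem haH hbH, ?_⟩
  have e1 : (b : Matrix (Fin m ⊕ Fin m) (Fin m ⊕ Fin m) F) *ᵥ s = t • s' := by
    rw [ts_apply b _ _ hb, sympForm_add_right, sympForm_self, sympForm_smul_right, hss',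
      zero_add, mul_one, inv_mul_cancel₀ ht, one_smul, ← add_assoc]
    have : s + s = 0 := by rw [← two_smul F s, h2, zero_smul]
    rw [this, zero_add]
  rw [Units.val_mul, ← Matrix.mulVec_mulVec, e1, Matrix.mulVec_smul, ts_apply a _ _ ha,
    sympForm_add_right, hs's, sympForm_self, add_zero, one_mul]
  have : s' + (-1 : F) • (s + s') = s := by
    have h11 : (-1 : F) = 1 := by linear_combination -h2
    rw [h11, one_smul, add_comm s s', ← add_assoc]
    have : s' + s' = 0 := by rw [← two_smul F s', h2, zero_smul]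
    rw [this, zero_add]
  rw [this]

theorem ts_sq (h2 : (2 : F) = 0) (v : Fin m ⊕ Fin m → F) (c : F)
    (t : Matrix.GeneralLinearGroup (Fin m ⊕ Fin m) F)
    (ht : (t : Matrix (Fin m ⊕ Fin m) (Fin m ⊕ Fin m) F) = Cfsg.sympTransvection m v c)
    (x : Fin m ⊕ Fin m → F) :
    (t : Matrix (Fin m ⊕ Fin m) (Fin m ⊕ Fin m) F) *ᵥ
      ((t : Matrix (Fin m ⊕ Fin m) (Fin m ⊕ Fin m) F) *ᵥ x) = x := by
  rw [Matrix.mulVec_mulVec, ht, (Cfsg.Agent.S0767.result m v).1]
  have : c + c = 0 := by linear_combination c * h2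
  rw [this, ts_zero, Matrix.one_mulVec]

theorem result {F : Type*} [Field F] [Fintype F] (m : ℕ) (hm : 7 ≤ m) (heven : ¬ Odd (Fintype.card F)) (Q : (Fin m ⊕ Fin m → F) → F) (hQ : Cfsg.Geo.IsNondegenerateQuadraticForm Q) (hpol : ∀ u v, QuadraticMap.polar Q u v = Cfsg.sympForm m F u v) : Cfsg.Geo.IsMaximalIn (Cfsg.spGL m F) (Cfsg.Geo.quadSimilarityGroup Q ⊓ Cfsg.spGL m F) := by
  have h2 : (2 : F) = 0 := char_two heven
  obtain ⟨s0, hs00, hs0⟩ := exists_singular hQ hpol h2 (by omega)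
  refine ⟨?_, ?_⟩
  · rw [SetLike.lt_iff_le_and_exists]
    refine ⟨inf_le_right, ?_⟩
    obtain ⟨s', hs', hss'⟩ := exists_partner hQ hpol h2 s0 hs00 hs0
    obtain ⟨t, ht, htS⟩ := tsGL s0 (1 : F)
    refine ⟨t, htS, ?_⟩
    rintro ⟨⟨c, hc⟩, _⟩
    have := hc s'
    rw [ts_apply t s0 1 ht, Q_tv hQ hpol, hs', hs0, sympForm_swap, hss'] at this
    simp at this
  · intro M hHM hMS
    by_cases hMH : M = Cfsg.Geo.quadSimilarityGroup Q ⊓ Cfsg.spGL m F
    · exact Or.inl hMH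
    · right
      apply le_antisymm hMS
      have hex : ∃ g ∈ M, g ∉ Cfsg.Geo.quadSimilarityGroup Q := by
        by_contra hcon
        push Not at hcon
        exact hMH (le_antisymm (fun g hg => ⟨hcon g hg, hMS hg⟩) hHM)
      obtain ⟨g, hgM, hgsim⟩ := hex
      obtain ⟨r, hr⟩ := delta hQ hpol h2 g (hMS hgM)
      obtain ⟨a, ha⟩ := rep (m := m) r
      have hga : ∀ x, Q ((g : Matrix (Fin m ⊕ Fin m) (Fin m ⊕ Fin m) F) *ᵥ x) =
          Q x + (Cfsg.sympForm m F x a) ^ 2 := by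
        intro x
        rw [hr, ha]
      have ha0 : a ≠ 0 := by
        intro h0
        apply hgsim
        refine ⟨1, fun x => ?_⟩
        rw [hga, h0, sympForm_zero_right, Units.val_one]
        ring
      have grule : ∀ v c, c * (Q v + (Cfsg.sympForm m F v a) ^ 2) = 1 → PP M v c := by
        intro v c hc
        have h1 : PP M ((g : Matrix (Fin m ⊕ Fin m) (Fin m ⊕ Fin m) F) *ᵥ v) c :=
          PP_orth hQ hpol M hHM _ c (by rw [hga]; exact hc) h2
        have h3 := PP_conj M hMS g⁻¹ (M.inv_mem hgM) _ c h1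
        rw [inv_mv'] at h3
        exact h3
      have S1 : ∀ s, s ≠ 0 → Q s = 0 → ∀ c0, c0 ≠ 0 → PP M s c0 → ∀ c, PP M s c := by
        intro s hs0' hs c0 hc0 hP c
        by_cases hc : c = 0
        · rw [hc]
          exact PP_zero M s
        · obtain ⟨s', hs', hss'⟩ := exists_partner hQ hpol h2 s hs0' hs
          obtain ⟨t, ht⟩ := sqrt_exists h2 (c / c0)
          have ht0 : t ≠ 0 := by
            intro h0
            rw [h0] at ht
            have : c / c0 = 0 := by rw [← ht]; ring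
            rcases div_eq_zero_iff.mp this with h | h
            · exact hc h
            · exact hc0 h
          obtain ⟨h, hhH, hhs⟩ := dilation hQ hpol h2 s s' hs hs' hss' t ht0
          have h3 := PP_conj M hMS h (hHM hhH) s c0 hP
          rw [hhs, PP_smul, ht, div_mul_cancel₀ c hc0] at h3
          exact h3
      have S2 : ∀ s, s ≠ 0 → Q s = 0 → Cfsg.sympForm m F s a ≠ 0 → ∀ c, PP M s c := by
        intro s hs0' hs hsa
        apply S1 s hs0' hs ((Cfsg.sympForm m F s a) ^ 2)⁻¹ (inv_ne_zero (pow_ne_zero 2 hsa))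
        apply grule
        rw [hs, zero_add, inv_mul_cancel₀ (pow_ne_zero 2 hsa)]
      have S3 : ∀ s, s ≠ 0 → Q s = 0 → ∀ c, PP M s c := by
        intro s hs0' hs c
        by_cases hsa : Cfsg.sympForm m F s a = 0
        · obtain ⟨y, hsy, hay⟩ := two_func' s a hs0' ha0
          obtain ⟨v, hQv, hsv, hva⟩ : ∃ v, Q v ≠ 0 ∧ Cfsg.sympForm m F s v ≠ 0 ∧
              Cfsg.sympForm m F v a ≠ 0 := by
            by_cases hQy : Q y = 0
            · refine ⟨y + s, ?_, ?_, ?_⟩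
              · rw [Q_add hpol, hQy, hs, zero_add, zero_add, sympForm_swap]
                exact neg_ne_zero.mpr hsy
              · rw [sympForm_add_right, sympForm_self, add_zero]
                exact hsy
              · rw [sympForm_add_left, hsa, add_zero, sympForm_swap]
                exact neg_ne_zero.mpr hay
            · exact ⟨y, hQy, hsy, by rw [sympForm_swap]; exact neg_ne_zero.mpr hay⟩
          obtain ⟨h, hh, hhS⟩ := tsGL v (Q v)⁻¹
          have hhM : h ∈ M := hHM (orth_mem hQ hpol h2 v _ (inv_mul_cancel₀ hQv) h hh hhS)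
          set s1 := (h : Matrix (Fin m ⊕ Fin m) (Fin m ⊕ Fin m) F) *ᵥ s with hs1
          have hs1' : s1 = s + ((Q v)⁻¹ * Cfsg.sympForm m F s v) • v := by
            rw [hs1, ts_apply h v _ hh]
          have hQs1 : Q s1 = 0 := by
            rw [hs1', Q_tv hQ hpol, hs, inv_mul_cancel₀ hQv]
            linear_combination ((Q v)⁻¹ * Cfsg.sympForm m F s v ^ 2) * h2
          have hs1a : Cfsg.sympForm m F s1 a ≠ 0 := by
            rw [hs1', sympForm_add_left, hsa, zero_add, sympForm_smul_left]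
            exact mul_ne_zero (mul_ne_zero (inv_ne_zero hQv) hsv) hva
          have hs10 : s1 ≠ 0 := by
            intro h0
            rw [h0, sympForm_zero_left] at hs1a
            exact hs1a rfl
          have h3 := PP_conj M hMS h hhM s1 c (S2 s1 hs10 hQs1 hs1a c)
          rw [hs1, ts_sq h2 v _ h hh] at h3
          exact h3
        · exact S2 s hs0' hs hsa c
      have N1 : ∀ v, Q v ≠ 0 → ∀ c, PP M v c := by
        intro v hQv c
        by_cases hc : c = 0
        · rw [hc]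
          exact PP_zero M v
        · have hv0 : v ≠ 0 := by
            intro h0
            rw [h0, Q_zero hQ] at hQv
            exact hQv rfl
          obtain ⟨s, hs0', hs, hvs⟩ : ∃ s, s ≠ 0 ∧ Q s = 0 ∧ Cfsg.sympForm m F v s ≠ 0 := by
            by_cases hv0s : Cfsg.sympForm m F v s0 = 0
            · obtain ⟨y, hs0y, hvy⟩ := two_func' s0 v hs00 hv0
              have hys0 : Cfsg.sympForm m F y s0 ≠ 0 := by
                rw [sympForm_swap]
                exact neg_ne_zero.mpr hs0y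
              have hvs : Cfsg.sympForm m F v (y + (Q y / Cfsg.sympForm m F y s0) • s0) ≠ 0 := by
                rw [sympForm_add_right, sympForm_smul_right, hv0s, mul_zero, add_zero]
                exact hvy
              refine ⟨y + (Q y / Cfsg.sympForm m F y s0) • s0, ?_, ?_, hvs⟩
              · intro h0
                rw [h0, sympForm_zero_right] at hvs
                exact hvs rfl
              · rw [Q_add hpol, hQ.smul, hs0, sympForm_smul_right, div_mul_cancel₀ _ hys0]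
                linear_combination (Q y) * h2
            · exact ⟨s0, hs00, hs0, hv0s⟩
          set d := (c⁻¹ - Q v) / (Cfsg.sympForm m F v s) ^ 2 with hd
          obtain ⟨h, hh, hhS⟩ := tsGL s d
          have hhM : h ∈ M := S3 s hs0' hs d h hh
          set v1 := (h : Matrix (Fin m ⊕ Fin m) (Fin m ⊕ Fin m) F) *ᵥ v with hv1
          have hQv1 : Q v1 = c⁻¹ := by
            rw [hv1, ts_apply h s d hh, Q_tv hQ hpol, hs, hd, mul_zero, add_zero, mul_one,
              div_mul_cancel₀ _ (pow_ne_zero 2 hvs)]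
            ring
          have h3 := PP_conj M hMS h hhM v1 c
            (PP_orth hQ hpol M hHM v1 c (by rw [hQv1, mul_inv_cancel₀ hc]) h2)
          rw [hv1, ts_sq h2 s d h hh] at h3
          exact h3
      apply sp_gen M
      intro v c g' hg'
      by_cases hv0 : v = 0
      · have : g' = 1 := by
          apply Units.ext
          rw [hg', hv0]
          unfold Cfsg.sympTransvection
          simp
        rw [this]
        exact M.one_mem
      · by_cases hQv : Q v = 0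
        · exact S3 v hv0 hQv c g' hg'
        · exact N1 v hQv c g' hg'

end Cfsg.Agent.S5652
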