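import Cfsg.Statements.S1959
import Cfsg.Agent.Lib.Helper13.FamilyFusion

set_option autoImplicit false
open Cfsg

namespace Cfsg.Agent.S1959

open Cfsg.Agent.Lib.Helper13

section

variable {G : Type*} [Group G]

/-- A conjugation chain whose local steps are reachable is reachable. -/
theorem reach_of_conjChain {𝓦 : Set (Subgroup G → Subgroup G)} {S : Subgroup G}
    {𝓕 : Set (Subgroup G)} (h𝓕 : ∀ T ∈ 𝓕, T ≤ S)
    (hstep : ∀ T ∈ 𝓕, ∀ x ∈ Subgroup.normalizer ((T : Subgroup G) : Set G), ∀ A : Set G,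
      A ⊆ (T : Set G) → Reach 𝓦 ⊤ S A x⁻¹)
    {R : Subgroup G} {k : G} (h : ConjChain 𝓕 R k) :
    R ≤ S → Reach 𝓦 ⊤ S (R : Set G) k⁻¹ := by
  induction h with
  | nil R =>
    intro hRS
    rw [inv_one]
    exact Reach.one hRS
  | cons R T x g hT hx hRT _ ih =>
    intro hRS
    have h1 := hstep T hT x hx (R : Set G) hRT
    have hrcT : rc R x ≤ T := by
      have := rc_mono hRT x
      rwa [rc_of_mem_normalizer hx] at this
    have h2 := ih (hrcT.trans (h𝓕 T hT))
    rw [mul_inv_rev]
    apply h1.comp h2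
    intro a ha
    rw [SetLike.mem_coe, mem_rc]
    have e : x * (x⁻¹ * a * x⁻¹⁻¹) * x⁻¹ = a := by group
    rw [e]; exact ha

end

section

variable {G : Type*} [Group G] [Finite G] {p : ℕ} [Fact p.Prime] (S : Sylow p G)
  (𝓦 : Set (Subgroup G → Subgroup G)) (h𝓦 : ∀ W ∈ 𝓦, Cfsg.IsConjugacyFunctor p W)
  (hloc : ∀ T : Subgroup G, T ≤ (S : Subgroup G) → T ≠ ⊥ →
    ¬ p ∣ ((S : Subgroup G) ⊓ Subgroup.normalizer ((T : Subgroup G) : Set G)).relIndex
      (Subgroup.normalizer ((T : Subgroup G) : Set G)) →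
    Cfsg.FamilyControlsStrongFusionIn p 𝓦 (Subgroup.normalizer ((T : Subgroup G) : Set G)))

include h𝓦 hloc in
/-- The combined induction. -/
theorem main (k : ℕ) :
    (∀ T ∈ fullyNormalized p (S : Subgroup G), T ≠ ⊥ →
      Nat.card ↥(S : Subgroup G) -
        Nat.card ↥((S : Subgroup G) ⊓ Subgroup.normalizer ((T : Subgroup G) : Set G)) ≤ k →
      ∀ x ∈ Subgroup.normalizer ((T : Subgroup G) : Set G), ∀ A : Set G,
        A ⊆ (((S : Subgroup G) ⊓ Subgroup.normalizer ((T : Subgroup G) : Set G) : Subgroup G) : Set G) →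
        (∀ a ∈ A, x * a * x⁻¹ ∈ (S : Subgroup G) ⊓ Subgroup.normalizer ((T : Subgroup G) : Set G)) →
        Reach 𝓦 ⊤ (S : Subgroup G) A x) ∧
    (∀ R : Subgroup G, R ≤ (S : Subgroup G) → Nat.card ↥(S : Subgroup G) - Nat.card ↥R ≤ k →
      ∀ h : G, R.map (MulAut.conj h).toMonoidHom ≤ (S : Subgroup G) →
        Reach 𝓦 ⊤ (S : Subgroup G) (R : Set G) h) := by
  have hSp : IsPGroup p ↥(S : Subgroup G) := S.isPGroup'
  induction k using Nat.strong_induction_on with
  | _ k IH =>
  have part1 : ∀ T ∈ fullyNormalized p (S : Subgroup G), T ≠ ⊥ →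
      Nat.card ↥(S : Subgroup G) -
        Nat.card ↥((S : Subgroup G) ⊓ Subgroup.normalizer ((T : Subgroup G) : Set G)) ≤ k →
      ∀ x ∈ Subgroup.normalizer ((T : Subgroup G) : Set G), ∀ A : Set G,
        A ⊆ (((S : Subgroup G) ⊓ Subgroup.normalizer ((T : Subgroup G) : Set G) : Subgroup G) : Set G) →
        (∀ a ∈ A, x * a * x⁻¹ ∈ (S : Subgroup G) ⊓ Subgroup.normalizer ((T : Subgroup G) : Set G)) →
        Reach 𝓦 ⊤ (S : Subgroup G) A x := by
    intro T hT hTne hk x hx A hAQ hxA
    set H := Subgroup.normalizer ((T : Subgroup G) : Set G) with hH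
    set Q := (S : Subgroup G) ⊓ H with hQ
    have hQp : IsPGroup p ↥Q := hSp.to_le inf_le_left
    have hc := hloc T hT.1 hTne hT.2
    have hTQ : T ≤ Q := le_inf hT.1 Subgroup.le_normalizer
    have hQne : Q ≠ ⊥ := fun h => hTne (le_bot_iff.mp (h ▸ hTQ))
    -- the step claim
    have stepClaim : ∀ (B : Set G) (y : G) (W : Subgroup G → Subgroup G), W ∈ 𝓦 →
        y ∈ H ⊓ Subgroup.normalizer ((W Q : Subgroup G) : Set G) → B ⊆ (Q : Set G) →
        (∀ b ∈ B, y * b * y⁻¹ ∈ Q) → Reach 𝓦 ⊤ (S : Subgroup G) B y := by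
      intro B y W hWmem hy hBQ hyB
      have hWc := h𝓦 W hWmem
      by_cases hQS : Q = (S : Subgroup G)
      · refine ⟨y, FReach.single hWmem ?_ (hBQ.trans (by rw [hQS])) ?_, fun _ _ => rfl⟩
        · rw [hQS] at hy
          exact Subgroup.mem_inf.mpr ⟨Subgroup.mem_top _, (Subgroup.mem_inf.mp hy).2⟩
        · intro b hb
          have := hyB b hb
          rwa [hQS] at this
      · set T1 := W Q with hT1
        have hT1Q : T1 ≤ Q := (hWc Q hQp).1
        have hT1ne : T1 ≠ ⊥ := (hWc Q hQp).2.1 hQne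
        set Q1 := (S : Subgroup G) ⊓ Subgroup.normalizer ((T1 : Subgroup G) : Set G) with hQ1
        have hNQ : (S : Subgroup G) ⊓ Subgroup.normalizer ((Q : Subgroup G) : Set G) ≤ Q1 :=
          inf_le_inf_left _ (normalizer_le_normalizer_functor hWc hQp)
        have hQQ1 : Q ≤ Q1 := (le_inf inf_le_left Subgroup.le_normalizer).trans hNQ
        have hlt : Nat.card ↥Q < Nat.card ↥Q1 :=
          lt_of_lt_of_le (card_lt_card_inf_normalizer hSp inf_le_left hQS)
            (Subgroup.card_le_of_le hNQ)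
        obtain ⟨c, hc1, hc2⟩ := exists_cj_fullyNormalized S T1
        set T2 := T1.map (MulAut.conj c).toMonoidHom with hT2
        have hT1Q1 : T1 ≤ Q1 := hT1Q.trans hQQ1
        have hT2S : T2 ≤ (S : Subgroup G) := (cj_mono hT1Q1).trans hc1
        have hT2fn : T2 ∈ fullyNormalized p (S : Subgroup G) := ⟨hT2S, hc2⟩
        have hT2ne : T2 ≠ ⊥ := by
          intro h
          apply hT1ne
          have := card_cj c T1
          rw [← hT2, h, Subgroup.card_bot] at this
          exact Subgroup.card_eq_one.mp this.symm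
        set Q2 := (S : Subgroup G) ⊓ Subgroup.normalizer ((T2 : Subgroup G) : Set G) with hQ2
        have hQ1Q2 : Q1.map (MulAut.conj c).toMonoidHom ≤ Q2 := by
          apply le_inf hc1
          rw [hT2, normalizer_cj]
          exact cj_mono inf_le_right
        have hcard2 : Nat.card ↥Q1 ≤ Nat.card ↥Q2 := by
          rw [← card_cj c Q1]; exact Subgroup.card_le_of_le hQ1Q2
        have hQ2S : Nat.card ↥Q2 ≤ Nat.card ↥(S : Subgroup G) := Subgroup.card_le_of_le inf_le_left
        have hQ1S : Nat.card ↥Q1 ≤ Nat.card ↥(S : Subgroup G) := Subgroup.card_le_of_le inf_le_left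
        -- induction hypotheses
        have IH2 := (IH (Nat.card ↥(S : Subgroup G) - Nat.card ↥Q2) (by omega)).1 T2 hT2fn hT2ne
          le_rfl
        have IH1 := (IH (Nat.card ↥(S : Subgroup G) - Nat.card ↥Q1) (by omega)).2 Q1 inf_le_left
          le_rfl c hc1
        have IH1' := (IH (Nat.card ↥(S : Subgroup G) - Nat.card ↥Q1) (by omega)).2
          (Q1.map (MulAut.conj c).toMonoidHom) hc1 (by rw [card_cj]) c⁻¹
          (by rw [cj_inv_cj]; exact inf_le_left)
        -- (i)
        have r1 : Reach 𝓦 ⊤ (S : Subgroup G) B c := IH1.mono (hBQ.trans hQQ1)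
        -- (ii)
        have hyN : y ∈ Subgroup.normalizer ((T1 : Subgroup G) : Set G) := (Subgroup.mem_inf.mp hy).2
        have r2 : Reach 𝓦 ⊤ (S : Subgroup G) ((fun b => c * b * c⁻¹) '' B) (c * y * c⁻¹) := by
          apply IH2 (c * y * c⁻¹)
          · rw [hT2, normalizer_cj]; exact cj_mem hyN
          · rintro _ ⟨b, hb, rfl⟩
            exact hQ1Q2 (cj_mem (hQQ1 (hBQ hb)))
          · rintro _ ⟨b, hb, rfl⟩
            have e : c * y * c⁻¹ * (c * b * c⁻¹) * (c * y * c⁻¹)⁻¹ = c * (y * b * y⁻¹) * c⁻¹ := by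
              group
            rw [e]
            exact hQ1Q2 (cj_mem (hQQ1 (hyB b hb)))
        -- (iii)
        have r3 : Reach 𝓦 ⊤ (S : Subgroup G) ((fun b => c * (y * b * y⁻¹) * c⁻¹) '' B) c⁻¹ := by
          apply IH1'.mono
          rintro _ ⟨b, hb, rfl⟩
          exact cj_mem (hQQ1 (hyB b hb))
        have r12 := r1.comp r2 (fun b hb => ⟨b, hb, rfl⟩)
        have r123 := r12.comp r3 (fun b hb => ⟨b, hb, by group⟩)
        have e : c⁻¹ * (c * y * c⁻¹ * c) = y := by group
        rw [e] at r123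
        exact r123
    -- convert the local chain
    have hconv : ∀ {c : G}, FReach 𝓦 H Q A c → Reach 𝓦 ⊤ (S : Subgroup G) A c := by
      intro c hc
      induction hc with
      | one hA => exact Reach.one (hA.trans (fun _ h => (Subgroup.mem_inf.mp h).1))
      | step c y W hWmem hy hc hA ih =>
        apply ih.comp (stepClaim ((fun a => c * a * c⁻¹) '' A) y W hWmem hy ?_ ?_)
          (fun a ha => ⟨a, ha, rfl⟩)
        · rintro _ ⟨a, ha, rfl⟩
          exact hc.conj_mem a ha
        · rintro _ ⟨a, ha, rfl⟩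
          have := hA a ha
          have e : y * (c * a * c⁻¹) * y⁻¹ = y * c * a * (y * c)⁻¹ := by group
          rw [e]; exact this
    obtain ⟨c, hc, hca⟩ := family_fusion_of_sylow h𝓦 hc (inf_le_right : Q ≤ H) hQp hT.2 A x hx hAQ
      (by rintro _ ⟨a, ha, rfl⟩; exact hxA a ha)
    exact (hconv hc).congr hca
  refine ⟨part1, ?_⟩
  intro R hRS hk h hh
  have hrc : rc R h⁻¹ ≤ (S : Subgroup G) := by rw [rc_def, inv_inv]; exact hh
  have hchain := (conjChain_fullyNormalized S R hRS h⁻¹ hrc).restrict_card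
  have := reach_of_conjChain (𝓦 := 𝓦) (S := (S : Subgroup G)) (fun T hT => hT.1.1) ?_ hchain hRS
  · rwa [inv_inv] at this
  · rintro T ⟨hT, hcard⟩ x hx A hAT
    by_cases hTb : T = ⊥
    · have hA1 : ∀ a ∈ A, a = 1 := by
        intro a ha
        have := hAT ha
        rw [hTb] at this
        exact this
      apply (Reach.one (hAT.trans hT.1)).congr
      intro a ha
      rw [hA1 a ha]; group
    · have hTN : Nat.card ↥T ≤ Nat.card ↥((S : Subgroup G) ⊓
          Subgroup.normalizer ((T : Subgroup G) : Set G)) :=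
        Subgroup.card_le_of_le (le_inf hT.1 Subgroup.le_normalizer)
      have hTQ : T ≤ (S : Subgroup G) ⊓ Subgroup.normalizer ((T : Subgroup G) : Set G) :=
        le_inf hT.1 Subgroup.le_normalizer
      apply part1 T hT hTb (by omega) x⁻¹ (Subgroup.inv_mem _ hx) A (hAT.trans hTQ)
      intro a ha
      apply hTQ
      exact (Subgroup.mem_normalizer_iff.mp (Subgroup.inv_mem _ hx) a).mp (hAT ha)

end

/-- Let p be a prime, G a finite group with Sylow p-subgroup S, and 𝓦 a set of conjugacy functors for p on G. Suppose that 𝓦 controls strong fusion in N_G(T) for every nonidentity subgroup T of S for which N_S(T) is a Sylow p-subgroup of N_G(T). Then 𝓦 controls strong fusion in G. (A set of functors controls strong fusion in a subgroup H when, for a Sylow p-subgroup T' of H, every conjugation of a tuple of elements of T' into T' by an element of H is a composite of conjugations inside the normalizers N_H(W(T')), W ∈ 𝓦, all intermediate tuples staying in T'.) -/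
theorem result {G : Type*} [Group G] [Finite G] {p : ℕ} [Fact p.Prime] (S : Sylow p G) (𝓦 : Set (Subgroup G → Subgroup G)) (h𝓦 : ∀ W ∈ 𝓦, Cfsg.IsConjugacyFunctor p W) (hloc : ∀ T : Subgroup G, T ≤ (S : Subgroup G) → T ≠ ⊥ → ¬ p ∣ ((S : Subgroup G) ⊓ Subgroup.normalizer ((T : Subgroup G) : Set G)).relIndex (Subgroup.normalizer ((T : Subgroup G) : Set G)) → Cfsg.FamilyControlsStrongFusionIn p 𝓦 (Subgroup.normalizer ((T : Subgroup G) : Set G))) : Cfsg.FamilyControlsStrongFusionIn p 𝓦 ⊤ := by
  rw [familyControlsStrongFusionIn_iff]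
  refine ⟨(S : Subgroup G), le_top, S.isPGroup', ?_, ?_⟩
  · rw [Subgroup.relIndex_top_right]; exact S.not_dvd_index
  · intro A h _ hA hhA
    have hRS : Subgroup.closure A ≤ (S : Subgroup G) := (Subgroup.closure_le _).mpr hA
    have hcj : (Subgroup.closure A).map (MulAut.conj h).toMonoidHom ≤ (S : Subgroup G) := by
      rw [MonoidHom.map_closure, Subgroup.closure_le]
      rintro _ ⟨a, ha, rfl⟩
      exact hhA ⟨a, ha, rfl⟩
    have := (main S 𝓦 h𝓦 hloc (Nat.card ↥(S : Subgroup G))).2 (Subgroup.closure A) hRS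
      (Nat.sub_le _ _) h hcj
    exact this.mono Subgroup.subset_closure

end Cfsg.Agent.S1959
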