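import Cfsg.Statements.S1960
import Cfsg.Agent.Lib.Helper13.FamilyCtl

set_option autoImplicit false
open Cfsg

namespace Cfsg.Agent.S1960

open Cfsg.Agent.Lib.Helper13
open scoped commutatorElement

section

variable {G : Type*} [Group G] [Finite G] {p : ℕ} [Fact p.Prime] (S : Sylow p G)
  (𝓦 : Set (Subgroup G → Subgroup G)) (h𝓦 : ∀ W ∈ 𝓦, Cfsg.IsConjugacyFunctor p W)
  (hloc : ∀ T : Subgroup G, T ≤ (S : Subgroup G) → T ≠ ⊥ →
    ¬ p ∣ ((S : Subgroup G) ⊓ Subgroup.normalizer ((T : Subgroup G) : Set G)).relIndex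
      (Subgroup.normalizer ((T : Subgroup G) : Set G)) →
    Cfsg.FamilyControlsTransferIn p 𝓦 (Subgroup.normalizer ((T : Subgroup G) : Set G)))

/-- the target subgroup `⟨S ∩ N(W(S))' : W ∈ 𝓦⟩` -/
def target : Subgroup G :=
  ⨆ W ∈ 𝓦, (S : Subgroup G) ⊓ ⁅Subgroup.normalizer ((W (S : Subgroup G) : Subgroup G) : Set G),
    Subgroup.normalizer ((W (S : Subgroup G) : Subgroup G) : Set G)⁆

include h𝓦 hloc in
/-- The combined induction. -/
theorem main (k : ℕ) :
    (∀ T ∈ fullyNormalized p (S : Subgroup G), T ≠ ⊥ →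
      Nat.card ↥(S : Subgroup G) -
        Nat.card ↥((S : Subgroup G) ⊓ Subgroup.normalizer ((T : Subgroup G) : Set G)) ≤ k →
      (S : Subgroup G) ⊓ ⁅Subgroup.normalizer ((T : Subgroup G) : Set G),
        Subgroup.normalizer ((T : Subgroup G) : Set G)⁆ ≤ target S 𝓦) ∧
    (∀ R : Subgroup G, R ≤ (S : Subgroup G) → Nat.card ↥(S : Subgroup G) - Nat.card ↥R ≤ k →
      ∀ g : G, rc R g ≤ (S : Subgroup G) → ∀ a ∈ R, a⁻¹ * (g⁻¹ * a * g) ∈ target S 𝓦) := by
  have hSp : IsPGroup p ↥(S : Subgroup G) := S.isPGroup'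
  induction k using Nat.strong_induction_on with
  | _ k IH =>
  -- first part at level k
  have part1 : ∀ T ∈ fullyNormalized p (S : Subgroup G), T ≠ ⊥ →
      Nat.card ↥(S : Subgroup G) -
        Nat.card ↥((S : Subgroup G) ⊓ Subgroup.normalizer ((T : Subgroup G) : Set G)) ≤ k →
      (S : Subgroup G) ⊓ ⁅Subgroup.normalizer ((T : Subgroup G) : Set G),
        Subgroup.normalizer ((T : Subgroup G) : Set G)⁆ ≤ target S 𝓦 := by
    intro T hT hTne hk
    set H := Subgroup.normalizer ((T : Subgroup G) : Set G) with hH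
    set Q := (S : Subgroup G) ⊓ H with hQ
    have hQp : IsPGroup p ↥Q := hSp.to_le inf_le_left
    have hc := hloc T hT.1 hTne hT.2
    have heq := family_transfer_of_sylow h𝓦 hc (inf_le_right : Q ≤ H) hQp hT.2
    have hTQ : T ≤ Q := le_inf hT.1 Subgroup.le_normalizer
    have hQne : Q ≠ ⊥ := fun h => hTne (le_bot_iff.mp (h ▸ hTQ))
    have hterms : (⨆ W ∈ 𝓦, Q ⊓ ⁅H ⊓ Subgroup.normalizer ((W Q : Subgroup G) : Set G),
        H ⊓ Subgroup.normalizer ((W Q : Subgroup G) : Set G)⁆) ≤ target S 𝓦 := by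
      apply iSup₂_le
      intro W hWmem
      have hWc := h𝓦 W hWmem
      by_cases hQS : Q = (S : Subgroup G)
      · rw [hQS]
        refine le_trans ?_ (le_iSup₂ (f := fun W (_ : W ∈ 𝓦) => (S : Subgroup G) ⊓
          ⁅Subgroup.normalizer ((W (S : Subgroup G) : Subgroup G) : Set G),
          Subgroup.normalizer ((W (S : Subgroup G) : Subgroup G) : Set G)⁆) W hWmem)
        exact inf_le_inf_left _ (Subgroup.commutator_mono inf_le_right inf_le_right)
      · -- Q < S
        set T1 := W Q with hT1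
        have hT1Q : T1 ≤ Q := (hWc Q hQp).1
        have hT1ne : T1 ≠ ⊥ := (hWc Q hQp).2.1 hQne
        set Q1 := (S : Subgroup G) ⊓ Subgroup.normalizer ((T1 : Subgroup G) : Set G) with hQ1
        have hNQ : (S : Subgroup G) ⊓ Subgroup.normalizer ((Q : Subgroup G) : Set G) ≤ Q1 :=
          inf_le_inf_left _ (normalizer_le_normalizer_functor hWc hQp)
        have hQQ1 : Q ≤ Q1 := (le_inf inf_le_left Subgroup.le_normalizer).trans hNQ
        have hlt : Nat.card ↥Q < Nat.card ↥Q1 :=
          lt_of_lt_of_le (card_lt_card_inf_normalizer hSp inf_le_left hQS)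
            (Subgroup.card_le_of_le hNQ)
        obtain ⟨c, hc1, hc2⟩ := exists_cj_fullyNormalized S T1
        set T2 := T1.map (MulAut.conj c).toMonoidHom with hT2
        have hT1Q1 : T1 ≤ Q1 := hT1Q.trans hQQ1
        have hT2S : T2 ≤ (S : Subgroup G) := (cj_mono hT1Q1).trans hc1
        have hT2fn : T2 ∈ fullyNormalized p (S : Subgroup G) := ⟨hT2S, hc2⟩
        have hT2ne : T2 ≠ ⊥ := by
          intro h
          apply hT1ne
          have := card_cj c T1
          rw [← hT2, h, Subgroup.card_bot] at this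
          exact Subgroup.card_eq_one.mp this.symm
        set Q2 := (S : Subgroup G) ⊓ Subgroup.normalizer ((T2 : Subgroup G) : Set G) with hQ2
        have hQ1Q2 : Q1.map (MulAut.conj c).toMonoidHom ≤ Q2 := by
          apply le_inf hc1
          rw [hT2, normalizer_cj]
          exact cj_mono inf_le_right
        have hcard2 : Nat.card ↥Q1 ≤ Nat.card ↥Q2 := by
          rw [← card_cj c Q1]; exact Subgroup.card_le_of_le hQ1Q2
        have hQ2S : Nat.card ↥Q2 ≤ Nat.card ↥(S : Subgroup G) := Subgroup.card_le_of_le inf_le_left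
        have hQ1S : Nat.card ↥Q1 ≤ Nat.card ↥(S : Subgroup G) := Subgroup.card_le_of_le inf_le_left
        -- induction hypotheses
        have IH2 := (IH (Nat.card ↥(S : Subgroup G) - Nat.card ↥Q2) (by omega)).1 T2 hT2fn hT2ne
          le_rfl
        have IH1 := (IH (Nat.card ↥(S : Subgroup G) - Nat.card ↥Q1) (by omega)).2 Q1 inf_le_left
          le_rfl c⁻¹ (by rw [rc_def, inv_inv]; exact hc1)
        intro z hz
        have hzQ := (Subgroup.mem_inf.mp hz).1
        have hzc : z ∈ ⁅Subgroup.normalizer ((T1 : Subgroup G) : Set G),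
            Subgroup.normalizer ((T1 : Subgroup G) : Set G)⁆ :=
          Subgroup.commutator_mono inf_le_right inf_le_right (Subgroup.mem_inf.mp hz).2
        have h1 : c * z * c⁻¹ ∈ target S 𝓦 := by
          apply IH2
          refine Subgroup.mem_inf.mpr ⟨hc1 (cj_mem (hQQ1 hzQ)), ?_⟩
          rw [hT2, normalizer_cj, ← Subgroup.map_commutator]
          exact cj_mem hzc
        have h2 := IH1 z (hQQ1 hzQ)
        rw [inv_inv] at h2
        have e : z = (c * z * c⁻¹) * (z⁻¹ * (c * z * c⁻¹))⁻¹ := by group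
        rw [e]
        exact Subgroup.mul_mem _ h1 (Subgroup.inv_mem _ h2)
    intro x hx
    have hxS := (Subgroup.mem_inf.mp hx).1
    have hxH' := (Subgroup.mem_inf.mp hx).2
    have hxH : x ∈ H := Subgroup.commutator_le_self H hxH'
    have hx1 : x ∈ Q ⊓ ⁅H, H⁆ :=
      Subgroup.mem_inf.mpr ⟨Subgroup.mem_inf.mpr ⟨hxS, hxH⟩, hxH'⟩
    rw [heq] at hx1
    exact hterms hx1
  refine ⟨part1, ?_⟩
  -- second part at level k
  intro R hRS hk g hg a ha
  have hchain := (conjChain_fullyNormalized S R hRS g hg).restrict_card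
  refine hchain.comm_mem ?_ a ha
  rintro T ⟨hT, hcard⟩ b hb x hx
  by_cases hTb : T = ⊥
  · have : b = 1 := by rw [hTb] at hb; exact hb
    rw [this]
    have e : (1 : G)⁻¹ * (x⁻¹ * 1 * x) = 1 := by group
    rw [e]; exact Subgroup.one_mem _
  · have hTN : Nat.card ↥T ≤ Nat.card ↥((S : Subgroup G) ⊓
        Subgroup.normalizer ((T : Subgroup G) : Set G)) :=
      Subgroup.card_le_of_le (le_inf hT.1 Subgroup.le_normalizer)
    apply part1 T hT hTb (by omega)
    have hxb : x⁻¹ * b * x ∈ T := by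
      have := (Subgroup.mem_normalizer_iff.mp (Subgroup.inv_mem _ hx) b).mp hb
      rwa [inv_inv] at this
    refine Subgroup.mem_inf.mpr ⟨hT.1 (T.mul_mem (T.inv_mem hb) hxb), ?_⟩
    have e : b⁻¹ * (x⁻¹ * b * x) = ⁅b⁻¹, x⁻¹⁆ := by
      rw [commutatorElement_def]; group
    rw [e]
    exact Subgroup.commutator_mem_commutator
      (Subgroup.inv_mem _ (Subgroup.le_normalizer hb)) (Subgroup.inv_mem _ hx)

end

/-- Let p be a prime, G a finite group with Sylow p-subgroup S, and 𝓦 a set of conjugacy functors for p on G. Suppose that 𝓦 controls transfer in N_G(T) for every nonidentity subgroup T of S for which N_S(T) is a Sylow p-subgroup of N_G(T): for a Sylow p-subgroup T' of N_G(T), the intersection of T' with the derived subgroup of N_G(T) is generated by its intersections with the derived subgroups of the normalizers in N_G(T) of the W(T'), W ∈ 𝓦. Then 𝓦 controls transfer in G: S ∩ G' is generated by the subgroups S ∩ (N_G(W(S)))', W ∈ 𝓦. -/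
theorem result {G : Type*} [Group G] [Finite G] {p : ℕ} [Fact p.Prime] (S : Sylow p G) (𝓦 : Set (Subgroup G → Subgroup G)) (h𝓦 : ∀ W ∈ 𝓦, Cfsg.IsConjugacyFunctor p W) (hloc : ∀ T : Subgroup G, T ≤ (S : Subgroup G) → T ≠ ⊥ → ¬ p ∣ ((S : Subgroup G) ⊓ Subgroup.normalizer ((T : Subgroup G) : Set G)).relIndex (Subgroup.normalizer ((T : Subgroup G) : Set G)) → Cfsg.FamilyControlsTransferIn p 𝓦 (Subgroup.normalizer ((T : Subgroup G) : Set G))) : Cfsg.FamilyControlsTransferIn p 𝓦 ⊤ := by
  refine ⟨(S : Subgroup G), le_top, S.isPGroup', ?_, ?_⟩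
  · rw [Subgroup.relIndex_top_right]; exact S.not_dvd_index
  · have htarget : (⨆ W ∈ 𝓦, (S : Subgroup G) ⊓
        ⁅⊤ ⊓ Subgroup.normalizer ((W (S : Subgroup G) : Subgroup G) : Set G),
         ⊤ ⊓ Subgroup.normalizer ((W (S : Subgroup G) : Subgroup G) : Set G)⁆) = target S 𝓦 := by
      unfold target
      simp only [top_inf_eq]
    rw [htarget]
    apply le_antisymm
    · apply sylow_inf_commutator_le
      intro x hx u hg
      have hux : u * x * u⁻¹ ∈ (S : Subgroup G) := by
        have h1 : u * x * u⁻¹ = (x⁻¹ * (x * u * x⁻¹ * u⁻¹))⁻¹ := by group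
        rw [h1]
        exact Subgroup.inv_mem _ (Subgroup.mul_mem _ (Subgroup.inv_mem _ hx) hg)
      have hRS : Subgroup.zpowers x ≤ (S : Subgroup G) := by
        rw [Subgroup.zpowers_le]; exact hx
      have hrc : rc (Subgroup.zpowers x) u⁻¹ ≤ (S : Subgroup G) := by
        intro y hy
        rw [mem_rc, Subgroup.mem_zpowers_iff] at hy
        obtain ⟨n, hn⟩ := hy
        have : y = (u * x * u⁻¹) ^ n := by
          rw [conj_zpow, hn]; group
        rw [this]
        exact Subgroup.zpow_mem _ hux n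
      have := (main S 𝓦 h𝓦 hloc (Nat.card ↥(S : Subgroup G))).2 (Subgroup.zpowers x) hRS
        (Nat.sub_le _ _) u⁻¹ hrc x⁻¹ (Subgroup.inv_mem _ (Subgroup.mem_zpowers x))
      have e : x⁻¹⁻¹ * (u⁻¹⁻¹ * x⁻¹ * u⁻¹) = x * u * x⁻¹ * u⁻¹ := by group
      rw [e] at this
      exact this
    · unfold target
      apply iSup₂_le
      intro W _
      exact inf_le_inf_left _ (Subgroup.commutator_mono le_top le_top)

end Cfsg.Agent.S1960
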