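import Cfsg.Statements.S3011
import Cfsg.Agent.Lib.Helper22.BaerSuzuki
import Cfsg.Agent.Lib.Helper1.Cores

set_option autoImplicit false
open Cfsg

namespace Cfsg.Agent.S3011

open Cfsg.Agent.Lib.Helper22 Cfsg.Agent.Lib.Helper1

theorem orderOf_conj_h18 {G : Type*} [Group G] (g x : G) : orderOf (g * x * g⁻¹) = orderOf x := by
  symm
  apply SemiconjBy.orderOf_eq g
  unfold SemiconjBy
  group

theorem eq_one_of_sq_of_odd {G : Type*} [Group G] (x : G) (hodd : Odd (orderOf x)) (h2 : x * x = 1) : x = 1 := by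
  have hd : orderOf x ∣ 2 := orderOf_dvd_of_pow_eq_one (by rw [pow_two]; exact h2)
  rcases (Nat.dvd_prime Nat.prime_two).mp hd with h | h
  · exact orderOf_eq_one_iff.mp h
  · rw [h] at hodd; exact absurd hodd (by decide)

theorem commute_of_sq_of_odd {G : Type*} [Group G] (x k : G) (hodd : Odd (orderOf x)) (hc : Commute (x * x) k) :
    Commute x k := by
  obtain ⟨j, hj⟩ := hodd
  have e : (x * x) ^ (j + 1) = x := by
    rw [← pow_two, ← pow_mul, show 2 * (j + 1) = orderOf x + 1 by omega, pow_succ, pow_orderOf_eq_one, one_mul]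
  have := hc.pow_left (j + 1)
  rwa [e] at this

theorem eq_one_of_inverts_of_commute {G : Type*} [Group G] (b k : G) (hk : Odd (orderOf k))
    (hbk : b * k * b⁻¹ = k⁻¹) (hc : Commute b k) : k = 1 := by
  have h1 : b * k * b⁻¹ = k := by rw [hc.eq, mul_assoc, mul_inv_cancel, mul_one]
  rw [h1] at hbk
  apply eq_one_of_sq_of_odd k hk
  calc k * k = k * k⁻¹ := by rw [← hbk]
    _ = 1 := mul_inv_cancel k

theorem comm_of_mem {G : Type*} [Group G] {V : Subgroup G} (hV : IsMulCommutative V) {x y : G}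
    (hx : x ∈ V) (hy : y ∈ V) : x * y = y * x := by
  have := hV.is_comm.comm ⟨x, hx⟩ ⟨y, hy⟩
  exact congrArg Subtype.val this

theorem pair_sylow {G : Type*} [Group G] [Finite G] (s t : G) (hs : orderOf s = 2) (ht : orderOf t = 2)
    (hno : ∀ x : G, Odd (orderOf x) → s * x * s⁻¹ = x⁻¹ → x = 1) :
    ∃ R : Sylow 2 G, s ∈ (R : Subgroup G) ∧ t ∈ (R : Subgroup G) := by
  have : Fact (Nat.Prime 2) := ⟨Nat.prime_two⟩
  obtain ⟨k, m, hm, hkm⟩ := Nat.exists_eq_two_pow_mul_odd (orderOf_pos (s * t)).ne'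
  have hs2 : s * s = 1 := by
    have := pow_orderOf_eq_one s
    rw [hs, pow_two] at this; exact this
  have ht2 : t * t = 1 := by
    have := pow_orderOf_eq_one t
    rw [ht, pow_two] at this; exact this
  have hsinv : s⁻¹ = s := inv_eq_of_mul_eq_one_left hs2
  have htinv : t⁻¹ = t := inv_eq_of_mul_eq_one_left ht2
  have hconj : s * (s * t) * s⁻¹ = (s * t)⁻¹ := by
    rw [mul_inv_rev, hsinv, htinv, ← mul_assoc, hs2, one_mul]
  have ho : orderOf ((s * t) ^ (2 ^ k)) = m := by
    rw [orderOf_pow_of_dvd (pow_ne_zero _ two_ne_zero) (by rw [hkm]; exact dvd_mul_right _ _), hkm,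
      Nat.mul_div_cancel_left _ (pow_pos two_pos k)]
  have h1 : (s * t) ^ (2 ^ k) = 1 := by
    apply hno _ (by rw [ho]; exact hm)
    rw [← conj_pow, hconj, inv_pow]
  have hk : orderOf (s * t) = 2 ^ k := by
    rw [h1, orderOf_one] at ho
    rw [hkm, ← ho, mul_one]
  have hT : IsPGroup 2 (Subgroup.zpowers s ⊔ Subgroup.zpowers (s * t) : Subgroup G) := by
    apply IsPGroup.to_sup_of_normal_right'
    · apply IsPGroup.of_card (n := 1)
      rw [Nat.card_zpowers, hs, pow_one]
    · apply IsPGroup.of_card (n := k)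
      rw [Nat.card_zpowers, hk]
    · rw [Subgroup.zpowers_le]
      apply Subgroup.mem_normalizer_fintype
      rintro n ⟨i, rfl⟩
      show s * (s * t) ^ i * s⁻¹ ∈ Subgroup.zpowers (s * t)
      rw [← conj_zpow, hconj]
      exact Subgroup.zpow_mem _ (Subgroup.inv_mem _ (Subgroup.mem_zpowers _)) i
  obtain ⟨R, hR⟩ := hT.exists_le_sylow
  refine ⟨R, hR (Subgroup.mem_sup_left (Subgroup.mem_zpowers s)), ?_⟩
  have h1 : t = s * (s * t) := by rw [← mul_assoc, hs2, one_mul]
  rw [h1]
  exact hR (Subgroup.mul_mem _ (Subgroup.mem_sup_left (Subgroup.mem_zpowers s))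
    (Subgroup.mem_sup_right (Subgroup.mem_zpowers (s * t))))

theorem mem_pCore_of_noInvert {G : Type*} [Group G] [Finite G] (v : G) (hv : orderOf v = 2)
    (hno : ∀ x : G, Odd (orderOf x) → v * x * v⁻¹ = x⁻¹ → x = 1) : v ∈ Cfsg.pCore 2 G := by
  have : Fact (Nat.Prime 2) := ⟨Nat.prime_two⟩
  rw [pCore_eq_iInf_sylow, Subgroup.mem_iInf]
  intro P
  have key := baer_suzuki 2 {s : G | ∃ g : G, s = g * v * g⁻¹} ?_ ?_ P
  · exact key ⟨1, by simp⟩
  · rintro x ⟨g, rfl⟩ g'
    exact ⟨g' * g, by group⟩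
  · rintro s ⟨g, rfl⟩ t ⟨g', rfl⟩
    apply pair_sylow _ _ (by rw [orderOf_conj_h18, hv]) (by rw [orderOf_conj_h18, hv])
    intro x hx hinv
    have h1 : g⁻¹ * x * g = 1 := by
      apply hno _ (by rw [show g⁻¹ * x * g = g⁻¹ * x * g⁻¹⁻¹ by rw [inv_inv], orderOf_conj_h18]; exact hx)
      have : v * (g⁻¹ * x * g) * v⁻¹ = g⁻¹ * (g * v * g⁻¹ * x * (g * v * g⁻¹)⁻¹) * g := by group
      rw [this, hinv]; group
    have : x = g * (g⁻¹ * x * g) * g⁻¹ := by group
    rw [this, h1]; group

theorem key4 {G : Type*} [Group G] {V : Subgroup G} (hV : Cfsg.IsElementaryAbelian 2 V)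
    (hS : Cfsg.IsSidkiPair V) {a b : G} (ha : a ∈ V) (hb : b ∈ V)
    (hlist : ∀ w ∈ V, w = 1 ∨ w = a ∨ w = b ∨ w = a * b)
    (h k : G) (hh : Odd (orderOf h)) (hk : Odd (orderOf k))
    (hah : a * h * a⁻¹ = h⁻¹) (hbh : b * h = h * b) (hbk : b * k * b⁻¹ = k⁻¹) (hak : a * k = k * a) :
    h = 1 ∨ k = 1 := by
  have hab : a * b = b * a := comm_of_mem hV.1 ha hb
  have ha2 : a * a = 1 := by have := hV.2 a ha; rwa [pow_two] at this
  have hb2 : b * b = 1 := by have := hV.2 b hb; rwa [pow_two] at this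
  have hainv : a⁻¹ = a := inv_eq_of_mul_eq_one_left ha2
  have hbinv : b⁻¹ = b := inv_eq_of_mul_eq_one_left hb2
  have hCbh : Commute b h := hbh
  have hCak : Commute a k := hak
  -- step 1
  have hodd1 : Odd (orderOf (h⁻¹ * k * h)) := by
    rw [show h⁻¹ * k * h = h⁻¹ * k * h⁻¹⁻¹ by rw [inv_inv], orderOf_conj_h18]; exact hk
  have hinv1 : b * (h⁻¹ * k * h) * b⁻¹ = (h⁻¹ * k * h)⁻¹ := by
    have e1 : b * (h⁻¹ * k * h) * b⁻¹ = h⁻¹ * (b * k * b⁻¹) * h := by
      have hbh' : b * h⁻¹ = h⁻¹ * b := (hCbh.inv_right).eq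
      calc b * (h⁻¹ * k * h) * b⁻¹ = (b * h⁻¹) * k * h * b⁻¹ := by group
        _ = h⁻¹ * b * k * (h * b⁻¹) := by rw [hbh']; group
        _ = h⁻¹ * b * k * (b⁻¹ * h) := by rw [(hCbh.inv_left).eq]
        _ = h⁻¹ * (b * k * b⁻¹) * h := by group
    rw [e1, hbk]; group
  obtain ⟨w, hwV, hw1, hwc⟩ := hS (h⁻¹ * k * h) b hb hodd1 hinv1
  have hcomm : Commute (h * w * h⁻¹) k := by
    show (h * w * h⁻¹) * k = k * (h * w * h⁻¹)
    calc (h * w * h⁻¹) * k = h * (w * (h⁻¹ * k * h)) * h⁻¹ := by group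
      _ = h * ((h⁻¹ * k * h) * w) * h⁻¹ := by rw [hwc]
      _ = k * (h * w * h⁻¹) := by group
  have hcase : k = 1 ∨ Commute h k := by
    rcases hlist w hwV with h0 | h0 | h0 | h0 <;> subst w
    · exact absurd rfl hw1
    · right
      have h2 : Commute (a * (h * a * h⁻¹)) k := hCak.mul_left hcomm
      have e : a * (h * a * h⁻¹) = (h * h)⁻¹ := by
        calc a * (h * a * h⁻¹) = (a * h * a⁻¹) * h⁻¹ := by rw [hainv]; group
          _ = (h * h)⁻¹ := by rw [hah]; group
      rw [e] at h2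
      exact commute_of_sq_of_odd h k hh (Commute.inv_left_iff.mp h2)
    · left
      apply eq_one_of_inverts_of_commute b k hk hbk
      have : h * b * h⁻¹ = b := by rw [← hbh]; group
      rwa [this] at hcomm
    · left
      apply eq_one_of_inverts_of_commute b k hk hbk
      have h2 : Commute (a * (h * (a * b) * h⁻¹)) k := hCak.mul_left hcomm
      have e : a * (h * (a * b) * h⁻¹) = (h * h)⁻¹ * b := by
        calc a * (h * (a * b) * h⁻¹) = (a * h * a⁻¹) * (b * h⁻¹) := by rw [hainv]; group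
          _ = h⁻¹ * (h⁻¹ * b) := by rw [hah, (hCbh.inv_right).eq]
          _ = (h * h)⁻¹ * b := by group
      rw [e] at h2
      have hc2 : Commute ((h * h)⁻¹) b := ((hCbh.mul_right hCbh).inv_right).symm
      have h3 := h2.pow_left (orderOf h)
      rw [hc2.mul_pow, inv_pow, ← pow_two, ← pow_mul, mul_comm 2, pow_mul, pow_orderOf_eq_one, one_pow,
        inv_one, one_mul] at h3
      obtain ⟨j, hj⟩ := hh
      have : b ^ orderOf h = b := by
        rw [hj, pow_succ, pow_mul, pow_two, hb2, one_pow, one_mul]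
      rwa [this] at h3
  rcases hcase with hk1 | hC
  · exact Or.inr hk1
  -- step 2
  have hodd2 : Odd (orderOf (h * k)) := by
    have hd := hC.orderOf_mul_dvd_lcm
    have hl : Odd (Nat.lcm (orderOf h) (orderOf k)) := by
      rw [Nat.odd_iff] at hh hk ⊢
      by_contra hcon
      have h2 : 2 ∣ Nat.lcm (orderOf h) (orderOf k) := by omega
      have hcop1 : Nat.Coprime 2 (orderOf h) := by
        rw [Nat.coprime_two_left]; exact Nat.odd_iff.mpr hh
      have hcop2 : Nat.Coprime 2 (orderOf k) := by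
        rw [Nat.coprime_two_left]; exact Nat.odd_iff.mpr hk
      have : 2 ∣ orderOf h * orderOf k := dvd_trans h2 (Nat.lcm_dvd_mul _ _)
      have := (Nat.Coprime.dvd_mul_left hcop1).mp this
      have := Nat.eq_one_of_dvd_coprimes hcop2 (dvd_refl 2) this
      omega
    exact Odd.of_dvd_nat hl hd
  have hbk' : b * k = k⁻¹ * b := by
    calc b * k = (b * k * b⁻¹) * b := by group
      _ = k⁻¹ * b := by rw [hbk]
  have hah' : a * h = h⁻¹ * a := by
    calc a * h = (a * h * a⁻¹) * a := by group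
      _ = h⁻¹ * a := by rw [hah]
  have hinv2 : (a * b) * (h * k) * (a * b)⁻¹ = (h * k)⁻¹ := by
    have e1 : (a * b) * (h * k) * (a * b)⁻¹ = (a * h * a⁻¹) * (a * (b * k * b⁻¹) * a⁻¹) := by
      calc (a * b) * (h * k) * (a * b)⁻¹ = a * (b * h) * k * b⁻¹ * a⁻¹ := by group
        _ = a * (h * b) * k * b⁻¹ * a⁻¹ := by rw [hbh]
        _ = (a * h * a⁻¹) * (a * (b * k * b⁻¹) * a⁻¹) := by group
    rw [e1, hah, hbk]
    have : a * k⁻¹ * a⁻¹ = k⁻¹ := by rw [(hCak.inv_right).eq]; group
    rw [this, mul_inv_rev, (hC.inv_inv).eq]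
  obtain ⟨w, hwV, hw1, hwc⟩ := hS (h * k) (a * b) (V.mul_mem ha hb) hodd2 hinv2
  rcases hlist w hwV with h0 | h0 | h0 | h0 <;> subst w
  · exact absurd rfl hw1
  · left
    have e : a * (h * k) = (h⁻¹ * k) * a := by
      calc a * (h * k) = (a * h) * k := by group
        _ = h⁻¹ * (a * k) := by rw [hah']; group
        _ = (h⁻¹ * k) * a := by rw [hak]; group
    rw [e] at hwc
    have : h⁻¹ * k = h * k := mul_right_cancel hwc
    have : h⁻¹ = h := mul_right_cancel this
    apply eq_one_of_sq_of_odd h hh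
    calc h * h = h⁻¹ * h := by rw [this]
      _ = 1 := inv_mul_cancel h
  · right
    have e : b * (h * k) = (h * k⁻¹) * b := by
      calc b * (h * k) = (b * h) * k := by group
        _ = h * (b * k) := by rw [hbh]; group
        _ = (h * k⁻¹) * b := by rw [hbk']; group
    rw [e] at hwc
    have : h * k⁻¹ = h * k := mul_right_cancel hwc
    have : k⁻¹ = k := mul_left_cancel this
    apply eq_one_of_sq_of_odd k hk
    calc k * k = k⁻¹ * k := by rw [this]
      _ = 1 := inv_mul_cancel k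
  · left
    have hc : Commute (a * b) (h * k) := hwc
    have h1 : h * k = 1 := eq_one_of_inverts_of_commute (a * b) (h * k) hodd2 hinv2 hc
    have hk' : k = h⁻¹ := by
      calc k = h⁻¹ * (h * k) := by group
        _ = h⁻¹ := by rw [h1, mul_one]
    have hCah : Commute a h := by
      have : Commute a h⁻¹ := hk' ▸ hCak
      exact Commute.inv_right_iff.mp this
    exact eq_one_of_inverts_of_commute a h hh hah hCah

theorem result {G : Type*} [Group G] [Finite G] (V : Subgroup G) (hV : Cfsg.IsElementaryAbelian 2 V) (hV1 : V ≠ ⊥) (hS : Cfsg.IsSidkiPair V) (h4 : Nat.card V ≤ 4) : V ⊓ Cfsg.pCore 2 G ≠ ⊥ := by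
  classical
  have : Fact (Nat.Prime 2) := ⟨Nat.prime_two⟩
  have hord : ∀ v ∈ V, v ≠ 1 → orderOf v = 2 := fun v hv hv1 => orderOf_eq_prime (hV.2 v hv) hv1
  by_cases hex : ∃ v ∈ V, v ≠ 1 ∧ ∀ x : G, Odd (orderOf x) → v * x * v⁻¹ = x⁻¹ → x = 1
  · obtain ⟨v, hvV, hv1, hno⟩ := hex
    intro hbot
    have : v ∈ V ⊓ Cfsg.pCore 2 G := ⟨hvV, mem_pCore_of_noInvert v (hord v hvV hv1) hno⟩
    rw [hbot, Subgroup.mem_bot] at this
    exact hv1 this
  exfalso
  push Not at hex
  obtain ⟨a, haV, ha1⟩ : ∃ a ∈ V, a ≠ 1 := by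
    by_contra hcon
    push Not at hcon
    apply hV1
    rw [eq_bot_iff]
    intro x hx
    rw [Subgroup.mem_bot]
    exact hcon x hx
  obtain ⟨h, hh, hah, hh1⟩ := hex a haV ha1
  obtain ⟨b, hbV, hb1, hbh⟩ := hS h a haV hh hah
  have hba : b ≠ a := by
    rintro rfl
    exact hh1 (eq_one_of_inverts_of_commute b h hh hah hbh)
  have ha2 : a * a = 1 := by have := hV.2 a haV; rwa [pow_two] at this
  have hb2 : b * b = 1 := by have := hV.2 b hbV; rwa [pow_two] at this
  have hainv : a⁻¹ = a := inv_eq_of_mul_eq_one_left ha2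
  have hbinv : b⁻¹ = b := inv_eq_of_mul_eq_one_left hb2
  have hab : a * b = b * a := comm_of_mem hV.1 haV hbV
  have hlist : ∀ w ∈ V, w = 1 ∨ w = a ∨ w = b ∨ w = a * b := by
    intro w hw
    by_contra hcon
    push Not at hcon
    obtain ⟨hw1, hwa, hwb, hwab⟩ := hcon
    have hab1 : a * b ≠ 1 := by
      intro h0
      apply hba
      calc b = a⁻¹ * (a * b) := by group
        _ = a := by rw [h0, mul_one, hainv]
    have haba : a * b ≠ a := by
      intro h0
      apply hb1
      calc b = a⁻¹ * (a * b) := by group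
        _ = 1 := by rw [h0, inv_mul_cancel]
    have habb : a * b ≠ b := by
      intro h0
      apply ha1
      calc a = (a * b) * b⁻¹ := by group
        _ = 1 := by rw [h0, mul_inv_cancel]
    let F : Finset G := {1, a, b, a * b, w}
    have hF : F.card = 5 := by
      simp only [F]
      rw [Finset.card_insert_of_notMem, Finset.card_insert_of_notMem, Finset.card_insert_of_notMem,
        Finset.card_insert_of_notMem, Finset.card_singleton]
      · simp only [Finset.mem_singleton]; exact fun h0 => hwab h0.symm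
      · simp only [Finset.mem_insert, Finset.mem_singleton, not_or]
        exact ⟨fun h0 => habb h0.symm, fun h0 => hwb h0.symm⟩
      · simp only [Finset.mem_insert, Finset.mem_singleton, not_or]
        exact ⟨fun h0 => hba h0.symm, fun h0 => haba h0.symm, fun h0 => hwa h0.symm⟩
      · simp only [Finset.mem_insert, Finset.mem_singleton, not_or]
        exact ⟨fun h0 => ha1 h0.symm, fun h0 => hb1 h0.symm, fun h0 => hab1 h0.symm, fun h0 => hw1 h0.symm⟩
    have hsub : (F : Set G) ⊆ (V : Set G) := by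
      intro x hx
      simp only [F, Finset.coe_insert, Finset.coe_singleton, Set.mem_insert_iff, Set.mem_singleton_iff] at hx
      rcases hx with rfl | rfl | rfl | rfl | rfl
      · exact V.one_mem
      · exact haV
      · exact hbV
      · exact V.mul_mem haV hbV
      · exact hw
    have h5 : 5 ≤ Nat.card V := by
      have := Set.ncard_le_ncard hsub (Set.toFinite _)
      rw [Set.ncard_coe_finset, hF] at this
      exact this
    omega
  -- now b inverts some k
  obtain ⟨k, hk, hbk, hk1⟩ := hex b hbV hb1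
  obtain ⟨w, hwV, hw1, hwk⟩ := hS k b hbV hk hbk
  rcases hlist w hwV with h0 | h0 | h0 | h0 <;> subst w
  · exact hw1 rfl
  · rcases key4 hV hS haV hbV hlist h k hh hk hah hbh hbk hwk with h0 | h0
    · exact hh1 h0
    · exact hk1 h0
  · exact hk1 (eq_one_of_inverts_of_commute b k hk hbk hwk)
  · have hlist' : ∀ w ∈ V, w = 1 ∨ w = a * b ∨ w = b ∨ w = a * b * b := by
      intro w hw
      have e : a * b * b = a := by rw [mul_assoc, hb2, mul_one]
      rw [e]
      rcases hlist w hw with h0 | h0 | h0 | h0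
      · exact Or.inl h0
      · exact Or.inr (Or.inr (Or.inr h0))
      · exact Or.inr (Or.inr (Or.inl h0))
      · exact Or.inr (Or.inl h0)
    have hinv' : (a * b) * h * (a * b)⁻¹ = h⁻¹ := by
      calc (a * b) * h * (a * b)⁻¹ = a * (b * h) * b⁻¹ * a⁻¹ := by group
        _ = a * (h * b) * b⁻¹ * a⁻¹ := by rw [hbh]
        _ = a * h * a⁻¹ := by group
        _ = h⁻¹ := hah
    rcases key4 hV hS (V.mul_mem haV hbV) hbV hlist' h k hh hk hinv' hbh hbk hwk with h0 | h0
    · exact hh1 h0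
    · exact hk1 h0

end Cfsg.Agent.S3011
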