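import Cfsg.Statements.S3012

set_option autoImplicit false
open Cfsg

namespace Cfsg.Agent.S3012

theorem exists_odd_orderOf_pow_two_pow {G : Type*} [Group G] [Finite G] (t : G) :
    ∃ a : ℕ, Odd (orderOf (t ^ 2 ^ a)) := by
  obtain ⟨a, m, hm, hn⟩ := Nat.exists_eq_pow_mul_and_not_dvd (orderOf_pos t).ne' 2 (by norm_num)
  refine ⟨a, ?_⟩
  rw [orderOf_pow' t (pow_ne_zero a (by norm_num)), hn]
  have hg : Nat.gcd (2 ^ a * m) (2 ^ a) = 2 ^ a := Nat.gcd_eq_right (dvd_mul_right _ _)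
  rw [hg, Nat.mul_div_cancel_left _ (pow_pos (by norm_num) a)]
  exact Nat.odd_iff.mpr (Nat.two_dvd_ne_zero.mp hm)

theorem result {G : Type*} [Group G] [Finite G] (V K : Subgroup G) [K.Normal] (hV : Cfsg.IsElementaryAbelian 2 V) (hV1 : V ≠ ⊥) (hS : Cfsg.IsSidkiPair V) (hVK : V ⊓ K = ⊥) : Cfsg.IsSidkiPair (V.map (QuotientGroup.mk' K)) := by
  intro hbar vbar hvbar hodd hinv
  obtain ⟨v, hvV, rfl⟩ := hvbar
  obtain ⟨h, rfl⟩ := QuotientGroup.mk_surjective hbar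
  have hv2 : v * v = 1 := by
    have := hV.2 v hvV
    rwa [pow_two] at this
  have hvinv : v⁻¹ = v := inv_eq_of_mul_eq_one_right hv2
  set t : G := v * (h * v * h⁻¹) with ht
  have htinv : v * t * v⁻¹ = t⁻¹ := by
    rw [ht, hvinv]
    have : (v * (h * v * h⁻¹))⁻¹ = h * v * h⁻¹ * v := by
      rw [mul_inv_rev, mul_inv_rev, mul_inv_rev, inv_inv, hvinv]
      simp [mul_assoc]
    rw [this]
    calc v * (v * (h * v * h⁻¹)) * v = (v * v) * (h * v * h⁻¹) * v := by simp [mul_assoc]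
      _ = h * v * h⁻¹ * v := by rw [hv2, one_mul]
  obtain ⟨a, ha⟩ := exists_odd_orderOf_pow_two_pow t
  have hinv' : v * (t ^ 2 ^ a) * v⁻¹ = (t ^ 2 ^ a)⁻¹ := by
    rw [← conj_pow, htinv, inv_pow]
  obtain ⟨w, hwV, hw1, hwc⟩ := hS (t ^ 2 ^ a) v hvV ha hinv'
  refine ⟨QuotientGroup.mk' K w, ⟨w, hwV, rfl⟩, ?_, ?_⟩
  · intro hw
    apply hw1
    have hwK : w ∈ K := by
      rw [← QuotientGroup.ker_mk' K, MonoidHom.mem_ker]
      exact hw
    have : w ∈ V ⊓ K := ⟨hwV, hwK⟩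
    rw [hVK] at this
    exact Subgroup.mem_bot.mp this
  · set hb : G ⧸ K := QuotientGroup.mk' K h with hhb
    set vb : G ⧸ K := QuotientGroup.mk' K v with hvb
    set wb : G ⧸ K := QuotientGroup.mk' K w with hwb
    have hvb2 : vb * vb = 1 := by
      rw [hvb, ← map_mul, hv2, map_one]
    have hvbinv : vb⁻¹ = vb := inv_eq_of_mul_eq_one_right hvb2
    have hinvb : vb * hb * vb = hb⁻¹ := by
      have := hinv
      rw [hvbinv] at this
      exact this
    have htb : QuotientGroup.mk' K t = (hb ^ 2)⁻¹ := by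
      rw [ht, map_mul, map_mul, map_mul, map_inv]
      rw [← hvb, ← hhb]
      calc vb * (hb * vb * hb⁻¹) = (vb * hb * vb) * hb⁻¹ := by simp [mul_assoc]
        _ = hb⁻¹ * hb⁻¹ := by rw [hinvb]
        _ = (hb ^ 2)⁻¹ := by rw [pow_two, mul_inv_rev]
    have hcb : Commute wb ((hb ^ 2)⁻¹ ^ 2 ^ a) := by
      have h1 : QuotientGroup.mk' K (w * t ^ 2 ^ a) = QuotientGroup.mk' K (t ^ 2 ^ a * w) := by rw [hwc]
      rw [map_mul, map_mul, map_pow, htb] at h1
      exact h1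
    have hcb2 : Commute wb (hb ^ (2 * 2 ^ a)) := by
      have : (hb ^ 2)⁻¹ ^ 2 ^ a = (hb ^ (2 * 2 ^ a))⁻¹ := by
        rw [inv_pow, ← pow_mul]
      rw [this] at hcb
      exact (Commute.inv_right_iff).mp hcb
    have hcop : Nat.Coprime (2 * 2 ^ a) (orderOf hb) := by
      have h2 : Nat.Coprime 2 (orderOf hb) := Nat.coprime_two_left.mpr hodd
      exact Nat.Coprime.mul_left h2 (Nat.Coprime.pow_left _ h2)
    obtain ⟨m, hm⟩ := exists_pow_eq_self_of_coprime hcop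
    have : Commute wb hb := by
      rw [← hm]
      exact hcb2.pow_right m
    exact this.eq

end Cfsg.Agent.S3012
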