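import Cfsg.Statements.S3013

set_option autoImplicit false
open Cfsg

namespace Cfsg.Agent.S3013

theorem eq_of_sq_eq_of_odd {G : Type*} [Group G] {x y : G} (hx : Odd (orderOf x))
    (hy : orderOf y = orderOf x) (h : x ^ 2 = y ^ 2) : x = y := by
  have hcop : Nat.Coprime 2 (orderOf x) := Nat.coprime_two_left.mpr hx
  obtain ⟨m, hm⟩ := exists_pow_eq_self_of_coprime hcop
  have hcopy : Nat.Coprime 2 (orderOf y) := by rw [hy]; exact hcop
  have hmy : (y ^ 2) ^ m = y := by
    have h1 : (y ^ 2) ^ m = y ^ (2 * m) := (pow_mul y 2 m).symm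
    have h2 : x ^ (2 * m) = x := by rw [pow_mul]; exact hm
    rw [h1]
    have h3 : 2 * m ≡ 1 [MOD orderOf x] := by
      rw [← pow_eq_pow_iff_modEq, pow_one]; exact h2
    rw [← hy] at h3
    have := (pow_eq_pow_iff_modEq (x := y)).mpr h3
    rwa [pow_one] at this
  rw [← hm, h, hmy]

theorem result {G : Type*} [Group G] [Finite G] (V : Subgroup G) (hV : Cfsg.IsElementaryAbelian 2 V) (hV1 : V ≠ ⊥) (hS : Cfsg.IsSidkiPair V) (v x : G) (hv : v ∈ V) (hx : Odd (orderOf x)) (hinv : v * x * v⁻¹ = x⁻¹) (C : Subgroup G) (hC : C = Subgroup.centralizer ({v} : Set G) ⊓ Subgroup.centralizer ({x} : Set G)) : C ⊓ V ≠ ⊥ ∧ Cfsg.IsSidkiPair ((C ⊓ V).subgroupOf C) := by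
  have hab : ∀ a ∈ V, ∀ b ∈ V, a * b = b * a := by
    intro a ha b hb
    have := hV.1.is_comm.comm (⟨a, ha⟩ : ↥V) ⟨b, hb⟩
    exact congrArg Subtype.val this
  have hsq : ∀ a ∈ V, a⁻¹ = a := by
    intro a ha
    have := hV.2 a ha
    rw [pow_two] at this
    exact inv_eq_of_mul_eq_one_right this
  have hmemC : ∀ y : G, y ∈ C ↔ (v * y = y * v ∧ x * y = y * x) := by
    intro y
    rw [hC, Subgroup.mem_inf, Subgroup.mem_centralizer_iff, Subgroup.mem_centralizer_iff]
    constructor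
    · rintro ⟨h1, h2⟩
      exact ⟨h1 v (Set.mem_singleton v), h2 x (Set.mem_singleton x)⟩
    · rintro ⟨h1, h2⟩
      refine ⟨?_, ?_⟩
      · intro z hz; rw [Set.mem_singleton_iff] at hz; rw [hz]; exact h1
      · intro z hz; rw [Set.mem_singleton_iff] at hz; rw [hz]; exact h2
  refine ⟨?_, ?_⟩
  · obtain ⟨w, hwV, hw1, hwc⟩ := hS x v hv hx hinv
    intro hbot
    apply hw1
    have : w ∈ C ⊓ V := ⟨(hmemC w).mpr ⟨hab v hv w hwV, hwc.symm⟩, hwV⟩
    rw [hbot] at this
    exact Subgroup.mem_bot.mp this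
  · intro h u hu hodd hinvu
    have huC : (u : G) ∈ C := u.2
    have huV : (u : G) ∈ V := by
      have : (u : G) ∈ C ⊓ V := by simpa [Subgroup.mem_subgroupOf] using hu
      exact this.2
    have hhC : (h : G) ∈ C := h.2
    obtain ⟨hvh, hxh⟩ := (hmemC h).mp hhC
    obtain ⟨hvu, hxu⟩ := (hmemC u).mp huC
    have hinvu' : (u : G) * (h : G) * (u : G)⁻¹ = (h : G)⁻¹ := by
      have := congrArg Subtype.val hinvu
      simpa using this
    have hoddh : Odd (orderOf (h : G)) := by
      rwa [Subgroup.orderOf_coe]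
    set y : G := x * (h : G) with hy
    have hcomm : Commute x (h : G) := hxh
    have hyodd : Odd (orderOf y) := by
      have h1 : orderOf y ∣ Nat.lcm (orderOf x) (orderOf (h : G)) := hcomm.orderOf_mul_dvd_lcm
      have h2 : Nat.lcm (orderOf x) (orderOf (h : G)) ∣ orderOf x * orderOf (h : G) := Nat.lcm_dvd_mul _ _
      exact Odd.of_dvd_nat (Odd.mul hx hoddh) (dvd_trans h1 h2)
    have huvV : (u : G) * v ∈ V := V.mul_mem huV hv
    have hyinv : ((u : G) * v) * y * ((u : G) * v)⁻¹ = y⁻¹ := by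
      have e1 : ((u : G) * v) * y * ((u : G) * v)⁻¹ =
          ((u : G) * (v * x * v⁻¹) * (u : G)⁻¹) * ((u : G) * (v * (h : G) * v⁻¹) * (u : G)⁻¹) := by
        rw [hy]; simp [mul_assoc]
      have e2 : v * (h : G) * v⁻¹ = (h : G) := by rw [hvh]; simp
      have e3 : (u : G) * x⁻¹ * (u : G)⁻¹ = x⁻¹ := by
        have : (u : G) * x * (u : G)⁻¹ = x := by rw [← hxu]; simp
        rw [← conj_inv, this]
      rw [e1, hinv, e2, e3, hinvu', hy, mul_inv_rev]
      exact (hcomm.inv_inv).eq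
    obtain ⟨w, hwV, hw1, hwc⟩ := hS y ((u : G) * v) huvV hyodd hyinv
    have hwv : w * v = v * w := hab w hwV v hv
    have hwu : w * (u : G) = (u : G) * w := hab w hwV u huV
    set x' : G := w * x * w⁻¹ with hx'
    set h' : G := w * (h : G) * w⁻¹ with hh'
    have e1 : x' * h' = x * (h : G) := by
      rw [hx', hh']
      calc w * x * w⁻¹ * (w * (h : G) * w⁻¹) = w * (x * (h : G)) * w⁻¹ := by simp [mul_assoc]
        _ = (x * (h : G)) * w * w⁻¹ := by rw [← hy, hwc]
        _ = x * (h : G) := by simp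
    have hvx' : v * x' * v⁻¹ = x'⁻¹ := by
      rw [hx']
      calc v * (w * x * w⁻¹) * v⁻¹ = (v * w) * x * (w⁻¹ * v⁻¹) := by simp [mul_assoc]
        _ = (w * v) * x * (v⁻¹ * w⁻¹) := by
            rw [hwv]
            have : w⁻¹ * v⁻¹ = v⁻¹ * w⁻¹ := by rw [← mul_inv_rev, ← mul_inv_rev, hwv]
            rw [this]
        _ = w * (v * x * v⁻¹) * w⁻¹ := by simp [mul_assoc]
        _ = (w * x * w⁻¹)⁻¹ := by rw [hinv]; simp [mul_assoc]
    have hvh' : v * h' * v⁻¹ = h' := by
      rw [hh']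
      calc v * (w * (h : G) * w⁻¹) * v⁻¹ = (v * w) * (h : G) * (w⁻¹ * v⁻¹) := by simp [mul_assoc]
        _ = (w * v) * (h : G) * (v⁻¹ * w⁻¹) := by
            rw [hwv]
            have : w⁻¹ * v⁻¹ = v⁻¹ * w⁻¹ := by rw [← mul_inv_rev, ← mul_inv_rev, hwv]
            rw [this]
        _ = w * (v * (h : G) * v⁻¹) * w⁻¹ := by simp [mul_assoc]
        _ = w * (h : G) * w⁻¹ := by rw [hvh]; simp
    have e2 : x'⁻¹ * h' = x⁻¹ * (h : G) := by
      have h1 : v * (x' * h') * v⁻¹ = v * (x * (h : G)) * v⁻¹ := by rw [e1]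
      have h2 : v * (x' * h') * v⁻¹ = (v * x' * v⁻¹) * (v * h' * v⁻¹) := by simp [mul_assoc]
      have h3 : v * (x * (h : G)) * v⁻¹ = (v * x * v⁻¹) * (v * (h : G) * v⁻¹) := by simp [mul_assoc]
      have h4 : v * (h : G) * v⁻¹ = (h : G) := by rw [hvh]; simp
      rw [h2, h3, hvx', hvh', hinv, h4] at h1
      exact h1
    have e3 : x ^ 2 = x' ^ 2 := by
      have h1 : h' = x'⁻¹ * (x * (h : G)) := by rw [← e1]; simp
      have h2 : x'⁻¹ * (x'⁻¹ * (x * (h : G))) = x⁻¹ * (h : G) := by rw [← h1]; exact e2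
      have h3 : x'⁻¹ * x'⁻¹ * x = x⁻¹ := by
        have := congrArg (fun z => z * (h : G)⁻¹) h2
        simpa [mul_assoc] using this
      have h4 : x * x = x' * x' := by
        have := congrArg (fun z => x' * x' * z * x) h3
        simp only [mul_assoc, mul_inv_cancel_left, inv_mul_cancel, mul_one] at this
        exact this
      rw [pow_two, pow_two, h4]
    have hox' : orderOf x' = orderOf x := by
      have := orderOf_injective (MulAut.conj w).toMonoidHom (MulAut.conj w).injective x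
      simpa [hx'] using this
    have e4 : x = x' := eq_of_sq_eq_of_odd hx hox' e3
    have hwx : w * x = x * w := by
      have : w * x * w⁻¹ = x := by rw [← hx']; exact e4.symm
      calc w * x = (w * x * w⁻¹) * w := by simp
        _ = x * w := by rw [this]
    have e5 : h' = (h : G) := by
      have := e1
      rw [← e4] at this
      exact mul_left_cancel this
    have hwh : w * (h : G) = (h : G) * w := by
      calc w * (h : G) = (w * (h : G) * w⁻¹) * w := by simp
        _ = (h : G) * w := by rw [← hh', e5]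
    have hwC : w ∈ C := (hmemC w).mpr ⟨hwv.symm, hwx.symm⟩
    refine ⟨⟨w, hwC⟩, ?_, ?_, ?_⟩
    · rw [Subgroup.mem_subgroupOf]
      exact ⟨hwC, hwV⟩
    · intro hcon
      apply hw1
      have := congrArg Subtype.val hcon
      simpa using this
    · apply Subtype.ext
      simpa using hwh

end Cfsg.Agent.S3013
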