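import Mathlib
import Cfsg.Statements.S0585

set_option autoImplicit false
open Pointwise
open Cfsg

namespace Cfsg.Agent.S0585

theorem result {G : Type*} [Group G] [Finite G] (hΦ : frattini G = ⊥) (A : Subgroup G) [A.Normal] [IsMulCommutative A] : ∃ H : Subgroup G, Subgroup.IsComplement' A H := by
  classical
  have hfin : Set.Finite {H : Subgroup G | A ⊔ H = ⊤} := Set.toFinite _
  have hne : {H : Subgroup G | A ⊔ H = ⊤}.Nonempty := ⟨⊤, sup_top_eq A⟩
  obtain ⟨H, hH, hmin⟩ := Set.exists_min_image _ (fun H : Subgroup G => Nat.card H) hfin hne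
  have hH' : A ⊔ H = ⊤ := hH
  refine ⟨H, ?_⟩
  have hD : A ⊓ H = ⊥ := by
    by_contra hDne
    set D : Subgroup G := A ⊓ H with hDdef
    have hDA : D ≤ A := inf_le_left
    have hDH : D ≤ H := inf_le_right
    have hDn : D.Normal := by
      constructor
      intro d hd g
      have hg : g ∈ A ⊔ H := by rw [hH']; trivial
      rw [Subgroup.mem_sup_of_normal_left] at hg
      obtain ⟨a, ha, h, hh, rfl⟩ := hg
      have h1 : h * d * h⁻¹ ∈ D := by
        refine Subgroup.mem_inf.mpr ⟨?_, ?_⟩
        · exact (inferInstance : A.Normal).conj_mem d (hDA hd) h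
        · exact H.mul_mem (H.mul_mem hh (hDH hd)) (H.inv_mem hh)
      have h2 : a * (h * d * h⁻¹) = (h * d * h⁻¹) * a := setLike_mul_comm ha (hDA h1)
      have : a * h * d * (a * h)⁻¹ = h * d * h⁻¹ := by
        calc a * h * d * (a * h)⁻¹ = a * (h * d * h⁻¹) * a⁻¹ := by group
          _ = (h * d * h⁻¹) * a * a⁻¹ := by rw [h2]
          _ = h * d * h⁻¹ := by group
      rw [this]
      exact h1
    have hM : ∃ M : Subgroup G, IsCoatom M ∧ ¬ D ≤ M := by
      by_contra hcon
      push Not at hcon
      apply hDne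
      rw [eq_bot_iff, ← hΦ]
      unfold frattini Order.radical
      exact le_iInf₂ (fun M hM => hcon M hM)
    obtain ⟨M, hMco, hDM⟩ := hM
    have htop : D ⊔ M = ⊤ := by
      by_contra hne'
      have hlt : M < D ⊔ M := by
        refine lt_of_le_of_ne le_sup_right ?_
        intro heq
        apply hDM
        rw [heq]
        exact le_sup_left
      exact hne' (hMco.2 _ hlt)
    have hnew : A ⊔ (H ⊓ M) = ⊤ := by
      rw [eq_top_iff]
      intro g _
      have hg : g ∈ A ⊔ H := by rw [hH']; trivial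
      rw [Subgroup.mem_sup_of_normal_left] at hg
      obtain ⟨a, ha, h, hh, rfl⟩ := hg
      have hh' : h ∈ D ⊔ M := by rw [htop]; trivial
      rw [Subgroup.mem_sup_of_normal_left] at hh'
      obtain ⟨d, hd, m, hm, rfl⟩ := hh'
      have hmH : m ∈ H := by
        have : m = d⁻¹ * (d * m) := by group
        rw [this]
        exact H.mul_mem (H.inv_mem (hDH hd)) hh
      have : a * (d * m) = (a * d) * m := by group
      rw [this]
      exact Subgroup.mul_mem_sup (A.mul_mem ha (hDA hd)) (Subgroup.mem_inf.mpr ⟨hmH, hm⟩)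
    have hcard := hmin (H ⊓ M) hnew
    have heq : H ⊓ M = H := Subgroup.eq_of_le_of_card_ge inf_le_left hcard
    apply hDM
    calc D ≤ H := hDH
      _ = H ⊓ M := heq.symm
      _ ≤ M := inf_le_right
  apply Subgroup.isComplement'_of_disjoint_and_mul_eq_univ
  · exact disjoint_iff.mpr hD
  · rw [← Subgroup.normal_mul, hH']
    rfl

end Cfsg.Agent.S0585
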