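import Mathlib
import Cfsg.Statements.S0586
import Cfsg.Agent.S0575
import Cfsg.Agent.S0585
import Cfsg.Agent.Lib.Helper1.Fitting

set_option autoImplicit false
open Cfsg

namespace Cfsg.Agent.S0586

open Cfsg.Agent.Lib.Helper1
open scoped commutatorElement

theorem comm_le_coatom_of_nilpotent {X : Type*} [Group X] [Finite X] [Group.IsNilpotent X]
    (M : Subgroup X) (hM : IsCoatom M) : commutator X ≤ M := by
  have hn : M.Normal :=
    Subgroup.NormalizerCondition.normal_of_coatom M Group.normalizerCondition_of_isNilpotent hM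
  have hcomm : ∀ q r : X ⧸ M, q * r = r * q := by
    intro q r
    by_cases hq : q = 1
    · rw [hq]; simp
    · have hK : (Subgroup.zpowers q).comap (QuotientGroup.mk' M) = ⊤ := by
        apply hM.2
        refine lt_of_le_of_ne ?_ ?_
        · intro x hx
          rw [Subgroup.mem_comap]
          have : (QuotientGroup.mk' M) x = 1 := (QuotientGroup.eq_one_iff x).mpr hx
          rw [this]; exact one_mem _
        · intro heq
          obtain ⟨a, rfl⟩ := QuotientGroup.mk_surjective q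
          have ha : a ∈ (Subgroup.zpowers (a : X ⧸ M)).comap (QuotientGroup.mk' M) := by
            rw [Subgroup.mem_comap]; exact Subgroup.mem_zpowers _
          rw [← heq] at ha
          exact hq ((QuotientGroup.eq_one_iff a).mpr ha)
      obtain ⟨b, rfl⟩ := QuotientGroup.mk_surjective r
      have hb : b ∈ (Subgroup.zpowers q).comap (QuotientGroup.mk' M) := by rw [hK]; trivial
      rw [Subgroup.mem_comap] at hb
      obtain ⟨k, hk⟩ := Subgroup.mem_zpowers_iff.mp hb
      have : (b : X ⧸ M) = q ^ k := hk.symm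
      rw [this]
      exact (Commute.self_zpow q k)
  rw [commutator_def, Subgroup.commutator_le]
  intro a _ b _
  rw [← QuotientGroup.eq_one_iff (N := M)]
  have := hcomm (a : X ⧸ M) (b : X ⧸ M)
  rw [commutatorElement_def]
  simp only [QuotientGroup.mk_mul, QuotientGroup.mk_inv]
  rw [this]; group


theorem exists_min_normal_le {G : Type*} [Group G] [Finite G] (D : Subgroup G) (hDn : D.Normal)
    (hD : D ≠ ⊥) : ∃ N : Subgroup G, N.Normal ∧ N ≠ ⊥ ∧ N ≤ D ∧
      ∀ K : Subgroup G, K.Normal → K ≤ N → K = ⊥ ∨ K = N := by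
  classical
  have hfin : Set.Finite {N : Subgroup G | N.Normal ∧ N ≠ ⊥ ∧ N ≤ D} := Set.toFinite _
  have hne : {N : Subgroup G | N.Normal ∧ N ≠ ⊥ ∧ N ≤ D}.Nonempty := ⟨D, hDn, hD, le_refl _⟩
  obtain ⟨N, hN, hmin⟩ := Set.exists_min_image _ (fun H : Subgroup G => Nat.card H) hfin hne
  obtain ⟨hNn, hNb, hND⟩ := hN
  refine ⟨N, hNn, hNb, hND, ?_⟩
  intro K hKn hKN
  by_cases hKb : K = ⊥
  · exact Or.inl hKb
  · right
    have h1 := hmin K ⟨hKn, hKb, le_trans hKN hND⟩
    exact Subgroup.eq_of_le_of_card_ge hKN h1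

theorem result {G : Type*} [Group G] [Finite G] (hΦ : frattini G = ⊥) : Cfsg.fittingSubgroup G = sSup {N : Subgroup G | N.Normal ∧ N ≠ ⊥ ∧ IsMulCommutative N ∧ ∀ K : Subgroup G, K.Normal → K ≤ N → K = ⊥ ∨ K = N} := by
  set F := Cfsg.fittingSubgroup G with hF
  set Soc := sSup {N : Subgroup G | N.Normal ∧ N ≠ ⊥ ∧ IsMulCommutative N ∧ ∀ K : Subgroup G, K.Normal → K ≤ N → K = ⊥ ∨ K = N} with hSoc
  have hFn : F.Normal := fittingSubgroup_normal
  have hFnil : Group.IsNilpotent F := fittingSubgroup_nilpotent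
  have hΦF : frattini F = ⊥ := by
    have := Cfsg.Agent.S0575.result F
    rw [hΦ, le_bot_iff, Subgroup.map_eq_bot_iff_of_injective _ F.subtype_injective] at this
    exact this
  have hFab : ∀ a ∈ F, ∀ b ∈ F, a * b = b * a := by
    have hc : commutator F ≤ frattini F := by
      unfold frattini Order.radical
      apply le_iInf₂
      intro M hM
      exact comm_le_coatom_of_nilpotent M hM
    rw [hΦF, le_bot_iff] at hc
    intro a ha b hb
    have h1 : ⁅(⟨a, ha⟩ : F), ⟨b, hb⟩⁆ ∈ commutator F :=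
      Subgroup.commutator_mem_commutator (Subgroup.mem_top _) (Subgroup.mem_top _)
    rw [hc, Subgroup.mem_bot] at h1
    have h2 := commutatorElement_eq_one_iff_mul_comm.mp h1
    exact congrArg Subtype.val h2
  have hSocF : Soc ≤ F := by
    apply sSup_le
    rintro N ⟨hNn, _, hNc, _⟩
    apply le_fittingSubgroup hNn
    exact ⟨⟨1, Subgroup.upperCentralSeries_one_eq_top_iff.mpr hNc⟩⟩
  have hSocn : Soc.Normal := Subgroup.sSup_normal _ (fun _ hH => hH.1)
  have hSocc : IsMulCommutative Soc := by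
    rw [isMulCommutative_iff]
    rintro ⟨a, ha⟩ ⟨b, hb⟩
    apply Subtype.ext
    exact hFab a (hSocF ha) b (hSocF hb)
  obtain ⟨H, hH⟩ := Cfsg.Agent.S0585.result hΦ Soc
  have hdisj : Soc ⊓ H = ⊥ := hH.disjoint.eq_bot
  have hsup : Soc ⊔ H = ⊤ := hH.sup_eq_top
  have hmul : ∀ g : G, ∃ s ∈ Soc, ∃ h ∈ H, g = s * h := by
    intro g
    have hg : g ∈ Soc ⊔ H := by rw [hsup]; trivial
    rw [← SetLike.mem_coe, Subgroup.normal_mul] at hg
    obtain ⟨s, hs, h, hh, rfl⟩ := hg
    exact ⟨s, hs, h, hh, rfl⟩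
  have hDn : (F ⊓ H).Normal := by
    constructor
    intro d hd g
    obtain ⟨s, hs, h, hh, rfl⟩ := hmul g
    have h1 : h * d * h⁻¹ ∈ F := hFn.conj_mem d hd.1 h
    have h2 : h * d * h⁻¹ ∈ H := H.mul_mem (H.mul_mem hh hd.2) (H.inv_mem hh)
    have h3 : s * h * d * (s * h)⁻¹ = h * d * h⁻¹ := by
      have := hFab s (hSocF hs) (h * d * h⁻¹) h1
      calc s * h * d * (s * h)⁻¹ = (s * (h * d * h⁻¹)) * s⁻¹ := by group
        _ = ((h * d * h⁻¹) * s) * s⁻¹ := by rw [this]
        _ = h * d * h⁻¹ := by group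
    rw [h3]
    exact ⟨h1, h2⟩
  have hDbot : F ⊓ H = ⊥ := by
    by_contra hD
    obtain ⟨N, hNn, hNb, hND, hNmin⟩ := exists_min_normal_le (F ⊓ H) hDn hD
    have hNc : IsMulCommutative N := by
      rw [isMulCommutative_iff]
      rintro ⟨a, ha⟩ ⟨b, hb⟩
      apply Subtype.ext
      exact hFab a (hND ha).1 b (hND hb).1
    have hNS : N ≤ Soc := le_sSup ⟨hNn, hNb, hNc, hNmin⟩
    have : N ≤ Soc ⊓ H := le_inf hNS (le_trans hND inf_le_right)
    rw [hdisj, le_bot_iff] at this
    exact hNb this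
  apply le_antisymm _ hSocF
  intro x hx
  obtain ⟨s, hs, h, hh, rfl⟩ := hmul x
  have h1 : h ∈ F ⊓ H := by
    refine ⟨?_, hh⟩
    have : h = s⁻¹ * (s * h) := by group
    rw [this]
    exact F.mul_mem (F.inv_mem (hSocF hs)) hx
  rw [hDbot, Subgroup.mem_bot] at h1
  rw [h1, mul_one]
  exact hs

end Cfsg.Agent.S0586
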