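import Mathlib
import Cfsg.Statements.S3909
import Cfsg.Prelude.Def_Transfer

set_option autoImplicit false
open Cfsg

namespace Cfsg.Agent.S3909

theorem result {G : Type*} [Group G] [Finite G] (hB : ∀ A B : Subgroup G, IsMulCommutative ↥A → IsMulCommutative ↥B → Nat.card ↥A = Nat.card ↥B → ∃ g : G, B = A.map (MulAut.conj g).toMonoidHom) (M : Subgroup G) [M.Normal] :
    (∀ a : G, (∃ m ∈ M, orderOf m = orderOf a) → a ∈ M) ∧
    ∀ (p t : ℕ) [Fact p.Prime], 2 ≤ t → Nat.card ↥M = p ^ t → Cfsg.IsElementaryAbelian p M → ∀ P : Sylow p G, (P : Subgroup G) = M := by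
  have hMn : M.Normal := inferInstance
  have h1 : ∀ a : G, (∃ m ∈ M, orderOf m = orderOf a) → a ∈ M := by
    rintro a ⟨m, hm, ho⟩
    obtain ⟨g, hg⟩ := hB (Subgroup.zpowers m) (Subgroup.zpowers a) inferInstance inferInstance
      (by rw [Nat.card_zpowers, Nat.card_zpowers, ho])
    have : a ∈ (Subgroup.zpowers m).map (MulAut.conj g).toMonoidHom := hg ▸ Subgroup.mem_zpowers a
    obtain ⟨y, hy, rfl⟩ := this
    have hyM : y ∈ M := (Subgroup.zpowers_le.mpr hm) hy
    exact hMn.conj_mem y hyM g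
  refine ⟨h1, ?_⟩
  intro p t hp ht hcard hel P
  have hpp := hp.out
  obtain ⟨hMc, hMe⟩ := hel
  have hMp : IsPGroup p M := IsPGroup.of_card hcard
  -- M ≤ P
  have hMP : M ≤ (P : Subgroup G) := by
    obtain ⟨Q, hQ⟩ := hMp.exists_le_sylow
    obtain ⟨g, hg⟩ := MulAction.exists_smul_eq G Q P
    intro m hm
    rw [← hg, Sylow.coe_subgroup_smul, Subgroup.mem_pointwise_smul_iff_inv_smul_mem]
    apply hQ
    have := hMn.conj_mem m hm g⁻¹
    simpa [MulAut.smul_def] using this
  -- a subgroup of order p^2 in M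
  obtain ⟨B0, hB0⟩ := Sylow.exists_subgroup_card_pow_prime (G := M) p (n := 2)
    (by rw [hcard]; exact pow_dvd_pow p ht)
  set B : Subgroup G := B0.map M.subtype with hBdef
  have hBcard : Nat.card B = p ^ 2 := by
    rw [hBdef, Subgroup.card_map_of_injective M.subtype_injective]; exact hB0
  have hBM : B ≤ M := by
    rw [hBdef]; exact Subgroup.map_subtype_le B0
  have hBc : IsMulCommutative B := by
    refine ⟨⟨?_⟩⟩
    rintro ⟨x, hx⟩ ⟨y, hy⟩
    apply Subtype.ext
    have := hMc.is_comm.comm ⟨x, hBM hx⟩ ⟨y, hBM hy⟩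
    exact congrArg (fun z : M => (z : G)) this
  -- no element of order p^2
  have hno : ∀ y : G, orderOf y ≠ p ^ 2 := by
    intro y hy
    obtain ⟨g, hg⟩ := hB B (Subgroup.zpowers y) hBc inferInstance
      (by rw [Nat.card_zpowers, hy, hBcard])
    have : y ∈ B.map (MulAut.conj g).toMonoidHom := hg ▸ Subgroup.mem_zpowers y
    obtain ⟨b, hb, rfl⟩ := this
    have hbp : b ^ p = 1 := hMe b (hBM hb)
    have : ((MulAut.conj g).toMonoidHom b) ^ p = 1 := by
      rw [← map_pow, hbp, map_one]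
    have hdvd := orderOf_dvd_of_pow_eq_one this
    rw [hy] at hdvd
    have : p ^ 2 ≤ p := Nat.le_of_dvd hpp.pos hdvd
    have := hpp.two_le
    nlinarith
  -- elements of P have order dividing p
  have hPp : ∀ x ∈ (P : Subgroup G), x ^ p = 1 := by
    intro x hx
    obtain ⟨k, hk⟩ := (IsPGroup.iff_orderOf.mp (IsPGroup.of_card (Sylow.card_eq_multiplicity P))) ⟨x, hx⟩
    rw [Subgroup.orderOf_mk] at hk
    by_cases hk2 : k < 2
    · have : orderOf x ∣ p := by
        rw [hk]
        interval_cases k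
        · simp
        · simp
      exact orderOf_dvd_iff_pow_eq_one.mp this
    · exfalso
      push_neg at hk2
      apply hno (x ^ (p ^ (k - 2)))
      rw [orderOf_pow_of_dvd (pow_ne_zero _ hpp.ne_zero) (by rw [hk]; exact pow_dvd_pow p (by omega)), hk,
        Nat.pow_div (by omega) hpp.pos]
      congr 1
      omega
  -- M has element of order p
  have hMnt : ∃ m ∈ M, orderOf m = p := by
    have : Nontrivial M := by
      rw [← Finite.one_lt_card_iff_nontrivial, hcard]
      exact Nat.one_lt_pow (by omega) hpp.one_lt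
    obtain ⟨⟨m, hm⟩, hne⟩ := exists_ne (1 : M)
    refine ⟨m, hm, orderOf_eq_prime (hMe m hm) ?_⟩
    intro h
    apply hne
    exact Subtype.ext h
  apply le_antisymm _ hMP
  intro x hx
  by_cases hx1 : x = 1
  · rw [hx1]; exact one_mem _
  · obtain ⟨m, hm, hom⟩ := hMnt
    apply h1
    refine ⟨m, hm, ?_⟩
    rw [hom, orderOf_eq_prime (hPp x hx) hx1]

end Cfsg.Agent.S3909
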