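import Cfsg.Statements.S0184
import Mathlib
import Cfsg.Prelude.Def_Characters
import Cfsg.Agent.Lib.helper2.CenterIndex
import Cfsg.Agent.Lib.Helper25.CharOrth
import Cfsg.Agent.Lib.Helper25.CharLinear
import Cfsg.Agent.Lib.Helper1.Nilp
import Cfsg.Agent.S0139

set_option autoImplicit false
open Cfsg

namespace Cfsg.Agent.S0184

open Cfsg.Agent.Lib.helper2 Cfsg.Agent.Lib.Helper25
open scoped ComplexConjugate

/-- some irreducible representation does not have a given nontrivial element in its kernel -/
theorem exists_irr_not_ker {G : Type*} [Group G] [Finite G] (z : G) (hz : z ≠ 1) :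
    ∃ χ : Cfsg.IrrCharacter G, (χ : G → ℂ) z ≠ (χ : G → ℂ) 1 := by
  classical
  have : Fintype G := Fintype.ofFinite G
  have : Fintype (Cfsg.IrrCharacter G) := Fintype.ofFinite _
  by_contra hcon
  have hall : ∀ χ : Cfsg.IrrCharacter G, (χ : G → ℂ) z = (χ : G → ℂ) 1 := by
    intro χ
    by_contra h
    exact hcon ⟨χ, h⟩
  have h1 := irr_column_orthogonality (G := G) z 1
  have h2 := irr_column_orthogonality (G := G) 1 1
  rw [if_pos (IsConj.refl 1)] at h2
  have hnc : ¬ IsConj (1 : G) z := by
    intro h
    rw [isConj_iff] at h
    obtain ⟨c, hc⟩ := h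
    apply hz
    rw [← hc]; group
  rw [if_neg hnc] at h1
  simp_rw [hall] at h1
  rw [h1] at h2
  have : (Nat.card (Subgroup.centralizer ({1} : Set G)) : ℂ) ≠ 0 := by
    exact_mod_cast (Nat.card_pos (α := Subgroup.centralizer ({1} : Set G))).ne'
  exact this h2.symm



/-- A finite p-group admits a faithful irreducible complex representation if and only if its centre is cyclic. -/
theorem result {G : Type*} [Group G] [Finite G] (p : ℕ) [Fact p.Prime] (hG : IsPGroup p G) : (∃ (n : ℕ) (ρ : Representation ℂ G (Fin n → ℂ)), ρ.IsIrreducible ∧ Function.Injective ρ) ↔ IsCyclic (Subgroup.center G) := by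
  classical
  have hp : p.Prime := Fact.out
  constructor
  · rintro ⟨n, ρ, hρ, hinj⟩
    have := hρ
    have hn0 : Module.finrank ℂ (Fin n → ℂ) ≠ 0 := finrank_ne_zero_of_irr ρ
    have : Nontrivial (Fin n → ℂ) := Module.nontrivial_of_finrank_pos (R := ℂ) (Nat.pos_of_ne_zero hn0)
    obtain ⟨v, hv⟩ := exists_ne (0 : Fin n → ℂ)
    have hsc : ∀ z : Subgroup.center G, ∃ c : ℂ, ρ (z : G) = c • LinearMap.id := by
      intro z
      obtain ⟨c, _, hc⟩ := center_scalar ρ z z.2
      exact ⟨c, hc⟩
    choose c hc using hsc
    have hcinj : ∀ a b : ℂ, a • (LinearMap.id : (Fin n → ℂ) →ₗ[ℂ] (Fin n → ℂ)) = b • LinearMap.id → a = b := by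
      intro a b hab
      have h1 := congrArg (fun f : (Fin n → ℂ) →ₗ[ℂ] (Fin n → ℂ) => f v) hab
      simp only [LinearMap.smul_apply, LinearMap.id_coe, id_eq] at h1
      have h2 : (a - b) • v = 0 := by rw [sub_smul, h1, sub_self]
      rcases smul_eq_zero.mp h2 with h | h
      · exact sub_eq_zero.mp h
      · exact absurd h hv
    let f : Subgroup.center G →* ℂ :=
      { toFun := c
        map_one' := by
          apply hcinj
          rw [← hc, one_smul]
          simp
          rfl
        map_mul' := by
          intro a b
          apply hcinj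
          rw [← hc, Subgroup.coe_mul, map_mul, hc a, hc b]
          ext w i
          simp [mul_smul]
          ring }
    have hfinj : Function.Injective f := by
      intro a b hab
      have hab' : c a = c b := hab
      apply Subtype.ext
      apply hinj
      rw [hc a, hc b, hab']
    exact isCyclic_of_injective_ringHom f hfinj
  · intro hcyc
    by_cases htriv : Subsingleton G
    · refine ⟨1, Representation.trivial ℂ G (Fin 1 → ℂ), isIrreducible_of_finrank_eq_one _ (by simp), ?_⟩
      intro a b _
      exact Subsingleton.elim a b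
    · rw [not_subsingleton_iff_nontrivial] at htriv
      have hZnt : Nontrivial (Subgroup.center G) := hG.center_nontrivial
      have hZp : IsPGroup p (Subgroup.center G) := hG.to_subgroup _
      -- an element of order p in the center
      have hpZ : p ∣ Nat.card (Subgroup.center G) := by
        obtain ⟨k, hk⟩ := IsPGroup.iff_card.mp hZp
        have hk0 : k ≠ 0 := by
          rintro rfl
          rw [pow_zero] at hk
          have := Finite.one_lt_card (α := Subgroup.center G)
          omega
        rw [hk]
        exact dvd_pow_self p hk0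
      obtain ⟨z₀, hz₀⟩ := exists_prime_orderOf_dvd_card' p hpZ
      have hz₀1 : (z₀ : G) ≠ 1 := by
        intro h
        have : z₀ = 1 := Subtype.ext h
        rw [this, orderOf_one] at hz₀
        exact hp.one_lt.ne hz₀
      obtain ⟨χ, hχ⟩ := exists_irr_not_ker (z₀ : G) hz₀1
      obtain ⟨n, ρ, hρ, hρχ⟩ := χ.2
      refine ⟨n, ρ, hρ, ?_⟩
      have := hρ
      rw [injective_iff_map_eq_one]
      by_contra hker
      have hkerne : ρ.ker ≠ ⊥ := by
        intro hbot
        apply hker
        intro a ha
        have : a ∈ ρ.ker := MonoidHom.mem_ker.mpr ha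
        rw [hbot, Subgroup.mem_bot] at this
        exact this
      have : Group.IsNilpotent G := hG.isNilpotent
      have hmeet := Cfsg.Agent.Lib.Helper1.normal_inf_center_ne_bot ρ.ker hkerne
      -- an element of order p in ker ∩ Z
      have hMp : IsPGroup p (ρ.ker ⊓ Subgroup.center G : Subgroup G) := hG.to_subgroup _
      have hMnt : Nontrivial (ρ.ker ⊓ Subgroup.center G : Subgroup G) :=
        (Subgroup.nontrivial_iff_ne_bot _).mpr hmeet
      have hpM : p ∣ Nat.card (ρ.ker ⊓ Subgroup.center G : Subgroup G) := by
        obtain ⟨k, hk⟩ := IsPGroup.iff_card.mp hMp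
        have hk0 : k ≠ 0 := by
          rintro rfl
          rw [pow_zero] at hk
          have := Finite.one_lt_card (α := (ρ.ker ⊓ Subgroup.center G : Subgroup G))
          omega
        rw [hk]
        exact dvd_pow_self p hk0
      obtain ⟨w, hw⟩ := exists_prime_orderOf_dvd_card' p hpM
      -- view w in the center
      let w' : Subgroup.center G := ⟨w, w.2.2⟩
      have hw' : orderOf w' = p := by
        rw [← hw, ← Subgroup.orderOf_coe w', ← Subgroup.orderOf_coe w]
      -- the unique subgroup of order p in the cyclic group Z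
      have : Fintype (Subgroup.center G) := Fintype.ofFinite _
      have hS := IsCyclic.card_pow_eq_one_le (α := Subgroup.center G) hp.pos
      have hsub : (Finset.univ.filter (fun a : Subgroup.center G => a ∈ Subgroup.zpowers w')) ⊆
          Finset.univ.filter (fun a : Subgroup.center G => a ^ p = 1) := by
        intro a ha
        simp only [Finset.mem_filter, Finset.mem_univ, true_and] at ha ⊢
        obtain ⟨k, rfl⟩ := ha
        rw [← zpow_natCast, ← zpow_mul, mul_comm, zpow_mul, zpow_natCast, ← hw', pow_orderOf_eq_one, one_zpow]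
      have hcardzp : (Finset.univ.filter (fun a : Subgroup.center G => a ∈ Subgroup.zpowers w')).card = p := by
        rw [← Fintype.card_subtype, ← Nat.card_eq_fintype_card]
        exact (Nat.card_zpowers w').trans hw'
      have heq := Finset.eq_of_subset_of_card_le hsub (by rw [hcardzp]; exact hS)
      have hz₀mem : z₀ ∈ Finset.univ.filter (fun a : Subgroup.center G => a ^ p = 1) := by
        simp only [Finset.mem_filter, Finset.mem_univ, true_and]
        rw [← hz₀, pow_orderOf_eq_one]
      rw [← heq] at hz₀mem
      simp only [Finset.mem_filter, Finset.mem_univ, true_and] at hz₀mem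
      obtain ⟨k, hk⟩ := hz₀mem
      -- so z₀ ∈ ker ρ
      have hz₀ker : (z₀ : G) ∈ ρ.ker := by
        have h1 : (z₀ : G) = (w : G) ^ k := by
          rw [← hk]
          simp [w']
        rw [h1]
        exact Subgroup.zpow_mem _ w.2.1 k
      apply hχ
      rw [← hρχ]
      rw [MonoidHom.mem_ker] at hz₀ker
      show LinearMap.trace ℂ _ (ρ (z₀ : G)) = LinearMap.trace ℂ _ (ρ 1)
      rw [hz₀ker, map_one ρ]

end Cfsg.Agent.S0184
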