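import Cfsg.Statements.S0175
import Mathlib
import Cfsg.Prelude.Def_Characters
import Cfsg.Agent.Lib.helper2.CharInt
import Cfsg.Agent.Lib.helper2.CharInd
import Cfsg.Agent.Lib.helper7.CharTools
import Cfsg.Agent.Lib.Helper25.CharLinear
import Cfsg.Agent.Lib.Helper25.CharBound
import Cfsg.Agent.S0184

set_option autoImplicit false
open Cfsg

namespace Cfsg.Agent.S0175

open Cfsg.Agent.Lib.helper2 Cfsg.Agent.Lib.Helper25 Cfsg.Agent.Lib.helper7
open scoped ComplexConjugate commutatorElement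

theorem irr_norm_le {G : Type*} [Group G] [Finite G] (μ : Cfsg.IrrCharacter G) (d : ℕ)
    (hd : (μ : G → ℂ) 1 = (d : ℂ)) (x : G) : ‖(μ : G → ℂ) x‖ ≤ (d : ℝ) := by
  obtain ⟨n, ρ, hρ, hμ⟩ := μ.2
  have h := norm_char_le ρ x
  rw [hμ] at h
  have h1 : (μ : G → ℂ) 1 = (Module.finrank ℂ (Fin n → ℂ) : ℂ) := by
    rw [← hμ, Representation.char_one]
  rw [hd] at h1
  have : d = Module.finrank ℂ (Fin n → ℂ) := by exact_mod_cast h1
  rw [this]; exact h

theorem eq_of_re_eq_of_norm_le (z : ℂ) (d : ℝ) (hre : z.re = d) (hn : ‖z‖ ≤ d) : z = (d : ℂ) := by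
  have hd0 : 0 ≤ d := le_trans (norm_nonneg z) hn
  have h1 : ‖z‖ ^ 2 ≤ d ^ 2 := pow_le_pow_left₀ (norm_nonneg z) hn 2
  rw [← Complex.normSq_eq_norm_sq, Complex.normSq_apply, hre] at h1
  have him : z.im = 0 := by nlinarith [mul_self_nonneg z.im]
  apply Complex.ext
  · simpa using hre
  · simpa using him

/-- if a character takes its degree at `x`, so does every irreducible constituent -/
theorem constituent_ker {G : Type*} [Group G] [Fintype G] {Ψ : G → ℂ} (hΨ : Cfsg.IsCharacter G Ψ)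
    (x : G) (hx : Ψ x = Ψ 1) (χ : Cfsg.IrrCharacter G) (hχ : Cfsg.classInner Ψ (χ : G → ℂ) ≠ 0) :
    (χ : G → ℂ) x = (χ : G → ℂ) 1 := by
  classical
  have : Fintype (Cfsg.IrrCharacter G) := Fintype.ofFinite _
  obtain ⟨m, hm, hexp⟩ := isCharacter_expansion hΨ
  choose d hdpos hd1 _ using (fun μ : Cfsg.IrrCharacter G => irr_degree_dvd_card μ)
  have hsum : ∑ μ : Cfsg.IrrCharacter G, (m μ : ℝ) * ((d μ : ℝ) - ((μ : G → ℂ) x).re) = 0 := by
    have h1 : Ψ 1 - Ψ x = 0 := by rw [hx, sub_self]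
    have h2 : Ψ 1 - Ψ x = ∑ μ : Cfsg.IrrCharacter G, (m μ : ℂ) * ((d μ : ℂ) - (μ : G → ℂ) x) := by
      conv_lhs => rw [hexp]
      simp only [Finset.sum_apply, Pi.smul_apply, smul_eq_mul]
      rw [← Finset.sum_sub_distrib]
      refine Finset.sum_congr rfl fun μ _ => ?_
      rw [hd1 μ]; ring
    rw [h2] at h1
    have h3 := congrArg Complex.re h1
    rw [Complex.re_sum] at h3
    simp only [Complex.zero_re] at h3
    rw [← h3]
    refine Finset.sum_congr rfl fun μ _ => ?_
    simp [Complex.mul_re]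
  have hnonneg : ∀ μ ∈ (Finset.univ : Finset (Cfsg.IrrCharacter G)), 0 ≤ (m μ : ℝ) * ((d μ : ℝ) - ((μ : G → ℂ) x).re) := by
    intro μ _
    apply mul_nonneg (Nat.cast_nonneg _)
    have h1 := irr_norm_le μ (d μ) (hd1 μ) x
    have h2 := Complex.re_le_norm ((μ : G → ℂ) x)
    linarith
  have hzero := (Finset.sum_eq_zero_iff_of_nonneg hnonneg).mp hsum χ (Finset.mem_univ _)
  have hmχ : (m χ : ℝ) ≠ 0 := by
    have : m χ ≠ 0 := by
      intro h0
      apply hχ
      rw [hm χ, h0]; simp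
    exact_mod_cast this
  have hre : ((χ : G → ℂ) x).re = (d χ : ℝ) := by
    rcases mul_eq_zero.mp hzero with h | h
    · exact absurd h hmχ
    · linarith
  have := eq_of_re_eq_of_norm_le _ _ hre (irr_norm_le χ (d χ) (hd1 χ) x)
  rw [this, hd1 χ]
  simp

/-- induced from a linear character trivial on a normal subgroup `N ≤ H` -/
theorem ind_linear_ker {G : Type*} [Group G] [Fintype G] (H : Subgroup G) (lam : H →* ℂˣ)
    (N : Subgroup G) [N.Normal] (hNH : N ≤ H) (hlam : ∀ y : H, (y : G) ∈ N → lam y = 1) (x : G) (hx : x ∈ N) :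
    Cfsg.indFun H (fun h => (lam h : ℂ)) x = Cfsg.indFun H (fun h => (lam h : ℂ)) 1 := by
  unfold Cfsg.indFun
  congr 1
  refine Finset.sum_congr rfl fun g _ => ?_
  have h1 : g⁻¹ * x * g ∈ N := by
    have := Subgroup.Normal.conj_mem (inferInstance : N.Normal) x hx g⁻¹
    simpa using this
  have h2 : g⁻¹ * 1 * g ∈ N := by simp
  rw [h7_extendByZero_mem H _ _ (hNH h1), h7_extendByZero_mem H _ _ (hNH h2), hlam _ h1, hlam _ h2]

/-- the permutation character `1_H^G` takes its degree only on elements of `H` -/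
theorem ind_one_ker {G : Type*} [Group G] [Fintype G] (H : Subgroup G) (x : G)
    (hx : Cfsg.indFun H (fun _ => (1 : ℂ)) x = Cfsg.indFun H (fun _ => (1 : ℂ)) 1) : x ∈ H := by
  classical
  unfold Cfsg.indFun at hx
  have hne : (Nat.card H : ℂ)⁻¹ ≠ 0 := by
    apply inv_ne_zero
    exact_mod_cast (Nat.card_pos (α := H)).ne'
  have h1 := mul_left_cancel₀ hne hx
  have hext : ∀ y : G, Cfsg.extendByZero H (fun _ => (1 : ℂ)) y = if y ∈ H then 1 else 0 := by
    intro y
    by_cases hy : y ∈ H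
    · rw [if_pos hy, h7_extendByZero_mem H _ _ hy]
    · rw [if_neg hy, h7_extendByZero_not_mem H _ _ hy]
  simp_rw [hext] at h1
  simp only [mul_one, inv_mul_cancel, Subgroup.one_mem, if_true, Finset.sum_const, Finset.card_univ, nsmul_eq_mul] at h1
  rw [Finset.sum_boole] at h1
  have h2 : (Finset.univ.filter (fun g : G => g⁻¹ * x * g ∈ H)).card = Fintype.card G := by exact_mod_cast h1
  have h3 : Finset.univ.filter (fun g : G => g⁻¹ * x * g ∈ H) = Finset.univ := by
    apply Finset.eq_univ_of_card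
    exact h2
  have h4 : (1 : G) ∈ Finset.univ.filter (fun g : G => g⁻¹ * x * g ∈ H) := by rw [h3]; exact Finset.mem_univ _
  simpa using h4

theorem taketa_step {G : Type*} [Group G] [Fintype G] (hM : ∀ χ : G → ℂ, Cfsg.IsIrrCharacter G χ → ∃ (H : Subgroup G) (lam : H →* ℂˣ), χ = Cfsg.indFun H (fun h => (lam h : ℂ)))
    (d : ℕ) : ∃ n : ℕ, ∀ χ : Cfsg.IrrCharacter G, ∀ dχ : ℕ, (χ : G → ℂ) 1 = (dχ : ℂ) → dχ ≤ d + 1 →
      ∀ x ∈ derivedSeries G n, (χ : G → ℂ) x = (χ : G → ℂ) 1 := by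
  classical
  induction d with
  | zero =>
    refine ⟨1, ?_⟩
    intro χ dχ hdχ hle x hx
    have hpos : dχ ≠ 0 := by
      rintro rfl
      exact irr_one_ne_zero χ (by rw [hdχ]; simp)
    have h1 : dχ = 1 := by omega
    have hχ1 : (χ : G → ℂ) 1 = 1 := by rw [hdχ, h1]; simp
    rw [derivedSeries_one] at hx
    rw [irr_linear_commutator χ hχ1 hx, hχ1]
  | succ d ih =>
    obtain ⟨n, hn⟩ := ih
    refine ⟨n + 1, ?_⟩
    intro χ dχ hdχ hle x hx
    by_cases hsmall : dχ ≤ d + 1
    · exact hn χ dχ hdχ hsmall x (derivedSeries_antitone G (Nat.le_succ n) hx)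
    have hdeq : dχ = d + 2 := by omega
    obtain ⟨H, lam, hχ⟩ := hM (χ : G → ℂ) χ.2
    have : Fintype H := Fintype.ofFinite H
    -- index of H
    have hidx : H.index = d + 2 := by
      have h1 := h7_indFun_one H (fun h => (lam h : ℂ))
      rw [← hχ, hdχ, map_one, Units.val_one, mul_one, hdeq] at h1
      exact_mod_cast h1.symm
    -- the permutation character
    set Ψ := Cfsg.indFun H (fun _ => (1 : ℂ)) with hΨ
    have hΨc : Cfsg.IsCharacter G Ψ := isCharacter_indFun H _ (isCharacter_of_irr (trivIrr H))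
    have hΨ1 : Ψ 1 = ((d + 2 : ℕ) : ℂ) := by
      rw [hΨ, h7_indFun_one, mul_one, hidx]
    have hΨtriv : Cfsg.classInner Ψ (fun _ : G => (1 : ℂ)) = 1 := by
      have hcl : Cfsg.IsClassFunction G (fun _ : G => (1 : ℂ)) := fun _ _ => rfl
      rw [hΨ, h7_frobenius_reciprocity H _ _ hcl]
      exact h7_irr_norm (trivIrr H).2
    -- constituents of Ψ have degree ≤ d + 1
    have hcons : ∀ μ : Cfsg.IrrCharacter G, Cfsg.classInner Ψ (μ : G → ℂ) ≠ 0 →
        ∀ y ∈ derivedSeries G n, (μ : G → ℂ) y = (μ : G → ℂ) 1 := by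
      intro μ hμ y hy
      obtain ⟨dμ, hdμpos, hdμ, _⟩ := irr_degree_dvd_card μ
      obtain ⟨m, hm⟩ := classInner_character_nat hΨc (isCharacter_of_irr μ)
      have hm0 : m ≠ 0 := by
        rintro rfl
        apply hμ; rw [hm]; simp
      have hle2 := isCharacter_degree_ge hΨc μ m (d + 2) dμ hm hΨ1 hdμ
      have hdμle : dμ ≤ d + 1 := by
        by_contra hcon
        have hdμ2 : dμ = d + 2 := by
          have : 1 ≤ m := Nat.pos_of_ne_zero hm0
          nlinarith
        -- then Ψ = μ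
        obtain ⟨Δ, hΔ, hsplit⟩ := h7_char_split hΨc (μ : G → ℂ) μ.2 hμ
        have hΔ1 : Δ 1 = 0 := by
          have := congrFun hsplit 1
          simp only [Pi.add_apply] at this
          rw [hΨ1, hdμ, hdμ2] at this
          exact (add_eq_left.mp this.symm)
        have hΔ0 := h7_isCharacter_eq_zero hΔ hΔ1
        rw [hΔ0, add_zero] at hsplit
        have hμtriv : (μ : G → ℂ) = fun _ => (1 : ℂ) := by
          by_contra hne
          have h5 : Cfsg.classInner (μ : G → ℂ) (fun _ : G => (1 : ℂ)) = 0 :=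
            h7_irr_inner_ne μ.2 (trivIrr G).2 hne
          rw [← hsplit, hΨtriv] at h5
          exact one_ne_zero h5
        have : (μ : G → ℂ) 1 = 1 := by rw [hμtriv]
        rw [hdμ, hdμ2] at this
        have h2 : d + 2 = 1 := by exact_mod_cast this
        omega
      exact hn μ dμ hdμ hdμle y hy
    -- so D_n ≤ H
    have hDH : derivedSeries G n ≤ H := by
      intro y hy
      apply ind_one_ker H y
      have : Fintype (Cfsg.IrrCharacter G) := Fintype.ofFinite _
      obtain ⟨mm, hmm, hexp⟩ := isCharacter_expansion hΨc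
      show Ψ y = Ψ 1
      rw [hexp]
      simp only [Finset.sum_apply, Pi.smul_apply, smul_eq_mul]
      refine Finset.sum_congr rfl fun μ _ => ?_
      by_cases h0 : mm μ = 0
      · rw [h0]; simp
      · have hμ : Cfsg.classInner Ψ (μ : G → ℂ) ≠ 0 := by
          rw [hmm μ]; exact_mod_cast h0
        rw [hcons μ hμ y hy]
    -- lam is trivial on D_{n+1}
    have hNn : (derivedSeries G (n + 1)).Normal := derivedSeries_normal G (n + 1)
    have hNH : derivedSeries G (n + 1) ≤ H := (derivedSeries_antitone G (Nat.le_succ n)).trans hDH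
    have hker : derivedSeries G (n + 1) ≤ (lam.ker).map H.subtype := by
      rw [derivedSeries_succ, Subgroup.commutator_le]
      intro a ha b hb
      refine ⟨⁅(⟨a, hDH ha⟩ : H), ⟨b, hDH hb⟩⁆, ?_, rfl⟩
      show ⁅(⟨a, hDH ha⟩ : H), ⟨b, hDH hb⟩⁆ ∈ lam.ker
      rw [MonoidHom.mem_ker, map_commutatorElement]
      exact commutatorElement_eq_one_iff_commute.mpr (Commute.all _ _)
    have hlam : ∀ y : H, (y : G) ∈ derivedSeries G (n + 1) → lam y = 1 := by
      intro y hy
      obtain ⟨k, hk, hky⟩ := hker hy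
      have : k = y := Subtype.ext hky
      rw [← this]
      exact MonoidHom.mem_ker.mp hk
    rw [hχ]
    exact ind_linear_ker H lam (derivedSeries G (n + 1)) hNH hlam x hx



/-- Taketa's Theorem on M-groups: if every irreducible complex character of a finite group is induced from a linear character (a homomorphism to ℂˣ) of some subgroup, the group is solvable. -/
theorem result {G : Type*} [Group G] [Fintype G] (hM : ∀ χ : G → ℂ, Cfsg.IsIrrCharacter G χ → ∃ (H : Subgroup G) (lam : H →* ℂˣ), χ = Cfsg.indFun H (fun h => (lam h : ℂ))) : Group.IsSolvable G := by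
  classical
  obtain ⟨n, hn⟩ := taketa_step hM (Nat.card G)
  refine ⟨⟨n, ?_⟩⟩
  rw [eq_bot_iff]
  intro z hz
  rw [Subgroup.mem_bot]
  by_contra hz1
  obtain ⟨χ, hχ⟩ := Cfsg.Agent.S0184.exists_irr_not_ker z hz1
  obtain ⟨dχ, _, hdχ, hdvd⟩ := irr_degree_dvd_card χ
  have hle : dχ ≤ Nat.card G + 1 := (Nat.le_of_dvd Nat.card_pos hdvd).trans (Nat.le_succ _)
  exact hχ (hn χ dχ hdχ hle z hz)

end Cfsg.Agent.S0175
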