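import Cfsg.Statements.S2575

set_option autoImplicit false
open Cfsg

namespace Cfsg.Agent.S2575

theorem padicValNat_two_pow_mul_odd (a n' : ℕ) (h : Odd n') : padicValNat 2 (2 ^ a * n') = a := by
  have hn0 : n' ≠ 0 := by rintro rfl; simp at h
  have h2 : ¬ 2 ∣ n' := by
    rw [Nat.odd_iff] at h
    omega
  rw [padicValNat.mul (by positivity) hn0, padicValNat.prime_pow,
    padicValNat.eq_zero_of_not_dvd h2, add_zero]

section
variable {F : Type*} [Field F] [Fintype F]

theorem ringChar_ne_two_of_odd (hq : Odd (Fintype.card F)) : ringChar F ≠ 2 := by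
  intro h
  have := FiniteField.even_card_of_char_two h
  rw [Nat.odd_iff] at hq
  omega

theorem neg_one_ne_one_of_odd (hq : Odd (Fintype.card F)) : (-1 : F) ≠ 1 :=
  Ring.neg_one_ne_one_of_char_ne_two (ringChar_ne_two_of_odd hq)

theorem exists_gen (hq : Odd (Fintype.card F)) :
    ∃ g : F, g ≠ 0 ∧ g ^ ((Fintype.card F - 1) / 2) = -1 := by
  have hc := ringChar_ne_two_of_odd hq
  obtain ⟨a, ha⟩ := FiniteField.exists_nonsquare hc
  have ha0 : a ≠ 0 := by
    rintro rfl
    exact ha ⟨0, by simp⟩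
  have hdiv : (Fintype.card F - 1) / 2 = Fintype.card F / 2 := by
    rw [Nat.odd_iff] at hq
    omega
  refine ⟨a, ha0, ?_⟩
  rw [hdiv]
  rcases FiniteField.pow_dichotomy hc ha0 with h | h
  · exact absurd ((FiniteField.isSquare_iff hc ha0).mpr h) ha
  · exact h

theorem exists_pow_eq_neg_one_iff (hq : Odd (Fintype.card F)) {n : ℕ} (hn : 1 ≤ n) :
    (∃ c : F, c ^ n = -1) ↔ padicValNat 2 n < padicValNat 2 (Fintype.card F - 1) := by
  have hq1 : Fintype.card F - 1 ≠ 0 := by
    have := Fintype.one_lt_card (α := F)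
    omega
  obtain ⟨a, n', hn', rfl⟩ := Nat.exists_eq_two_pow_mul_odd (n := n) (by omega)
  obtain ⟨b, m', hm', hbm⟩ := Nat.exists_eq_two_pow_mul_odd hq1
  rw [padicValNat_two_pow_mul_odd a n' hn', hbm, padicValNat_two_pow_mul_odd b m' hm']
  have hb1 : 1 ≤ b := by
    rcases Nat.eq_zero_or_pos b with rfl | h
    · exfalso
      rw [pow_zero, one_mul] at hbm
      rw [Nat.odd_iff] at hq hm'
      omega
    · exact h
  have hhalf : (Fintype.card F - 1) / 2 = 2 ^ (b - 1) * m' := by
    rw [hbm]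
    obtain ⟨b', rfl⟩ : ∃ b', b = b' + 1 := ⟨b - 1, by omega⟩
    rw [pow_succ, Nat.add_sub_cancel, mul_assoc, mul_comm 2 m', ← mul_assoc, Nat.mul_div_cancel _ (by norm_num)]
  constructor
  · rintro ⟨c, hc⟩
    by_contra hab
    push Not at hab
    have hc0 : c ≠ 0 := by
      rintro rfl
      rw [zero_pow (by omega)] at hc
      have h01 : (0 : F) ≠ -1 := by simp
      exact h01 hc
    have h1 : c ^ (Fintype.card F - 1) = 1 := FiniteField.pow_card_sub_one_eq_one c hc0
    have h2 : (c ^ (2 ^ a * n')) ^ m' = -1 := by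
      rw [hc, Odd.neg_one_pow hm']
    have h3 : (c ^ (2 ^ a * n')) ^ m' = 1 := by
      obtain ⟨d, rfl⟩ : ∃ d, a = b + d := ⟨a - b, by omega⟩
      rw [← pow_mul]
      have : 2 ^ (b + d) * n' * m' = (2 ^ b * m') * (2 ^ d * n') := by ring
      rw [this, pow_mul, ← hbm, h1, one_pow]
    exact neg_one_ne_one_of_odd hq (h2.symm.trans h3)
  · intro hab
    obtain ⟨g, hg0, hg⟩ := exists_gen hq
    refine ⟨g ^ (m' * 2 ^ (b - 1 - a)), ?_⟩
    rw [← pow_mul]
    have : m' * 2 ^ (b - 1 - a) * (2 ^ a * n') = (2 ^ (b - 1) * m') * n' := by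
      have : 2 ^ (b - 1) = 2 ^ (b - 1 - a) * 2 ^ a := by
        rw [← pow_add]; congr 1; omega
      rw [this]; ring
    rw [this, pow_mul, ← hhalf, hg, Odd.neg_one_pow hn']
end

theorem det_smul_diag {F : Type*} [Field F] {n : ℕ} (i : ℕ) (hi : i ≤ n) (c : F) :
    (c • Matrix.diagonal (fun j : Fin n => if (j : ℕ) < i then (-1 : F) else 1)).det = c ^ n * (-1) ^ i := by
  rw [Matrix.det_smul, Matrix.det_diagonal, Fintype.card_fin, Finset.prod_ite, Finset.prod_const,
    Finset.prod_const_one, mul_one, Fin.card_filter_val_lt, min_eq_right hi]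

theorem result {F : Type*} [Field F] [Fintype F] {q : ℕ} (hF : Fintype.card F = q) (hq : Odd q) {n : ℕ} (hn : 1 ≤ n) (i : ℕ) (hi : i ≤ n) : (∃ c : F, c ≠ 0 ∧ (c • Matrix.diagonal (fun j : Fin n => if (j : ℕ) < i then (-1 : F) else 1)).det = 1) ↔ (Even i ∨ padicValNat 2 n < padicValNat 2 (q - 1)) := by
  subst hF
  simp only [det_smul_diag i hi]
  rcases Nat.even_or_odd i with hev | hodd
  · simp only [hev, true_or, iff_true]
    exact ⟨1, one_ne_zero, by rw [one_pow, one_mul, Even.neg_one_pow hev]⟩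
  · have hne : ¬ Even i := Nat.not_even_iff_odd.mpr hodd
    simp only [hne, false_or, Odd.neg_one_pow hodd]
    rw [← exists_pow_eq_neg_one_iff hq hn]
    constructor
    · rintro ⟨c, _, hc⟩
      refine ⟨c, ?_⟩
      have : c ^ n = -(c ^ n * -1) := by ring
      rw [this, hc]
    · rintro ⟨c, hc⟩
      refine ⟨c, ?_, ?_⟩
      · rintro rfl
        rw [zero_pow (by omega)] at hc
        have h01 : (0 : F) ≠ -1 := by simp
        exact h01 hc
      · rw [hc]; ring

end Cfsg.Agent.S2575
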