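import Cfsg.Statements.S2640
import Cfsg.Agent.Lib.Helper16.OrthEmbed
import Cfsg.Agent.Lib.Helper16.FieldExt
import Cfsg.Agent.S2575

set_option autoImplicit false
open Cfsg

namespace Cfsg.Agent.S2640

open Cfsg.Agent.Lib.Helper16
open Module

theorem exists_norm_neg_one {K : Type*} [Field K] [Fintype K] {q : ℕ} (hq : 2 ≤ q) (hK : Fintype.card K = q ^ 2) :
    ∃ ε : K, ε ^ (q + 1) = -1 := by
  rcases Nat.even_or_odd q with he | ho
  · have hcard : Fintype.card K % 2 = 0 := by
      rw [hK]
      obtain ⟨r, rfl⟩ := he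
      have : (r + r) ^ 2 = 2 * (2 * r * r) := by ring
      rw [this]; omega
    have hchar : ringChar K = 2 := (FiniteField.even_card_iff_char_two).mpr hcard
    have : CharP K 2 := ringChar.of_eq hchar
    exact ⟨1, by rw [one_pow, CharTwo.neg_eq]⟩
  · have hoddK : Odd (Fintype.card K) := by rw [hK]; exact ho.pow
    rw [Cfsg.Agent.S2575.exists_pow_eq_neg_one_iff hoddK (by omega), hK]
    have h1 : q ^ 2 - 1 = (q - 1) * (q + 1) := by
      obtain ⟨r, rfl⟩ : ∃ r, q = r + 1 := ⟨q - 1, by omega⟩
      simp only [Nat.add_sub_cancel]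
      have : (r + 1) ^ 2 = r * (r + 1 + 1) + 1 := by ring
      rw [this, Nat.add_sub_cancel]
    rw [h1, padicValNat.mul (by omega) (by omega)]
    have h2 : 1 ≤ padicValNat 2 (q - 1) := by
      apply one_le_padicValNat_of_dvd (by omega)
      obtain ⟨r, hr⟩ := ho
      exact ⟨r, by omega⟩
    omega

section
variable {K F : Type*} [Field K] [Fintype K] [Field F] [Fintype F]

theorem herm_setup {q : ℕ} (hK : Fintype.card K = q ^ 2) (hF : Fintype.card F = q) [Algebra F K]
    (hfr : finrank F K = 2) (m : ℕ) :
    ∃ Q : QuadraticForm F (Fin m → K), (QuadraticMap.polarBilin Q).Nondegenerate ∧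
      (∀ v, Cfsg.hermForm m K q v v = 0 → Q v = 0) ∧
      (∀ (A : Matrix (Fin m) (Fin m) K), (∀ u v, Cfsg.hermForm m K q (A.mulVec u) (A.mulVec v) = Cfsg.hermForm m K q u v) →
        ∀ v, Q (A.mulVec v) = Q v) := by
  set σ : K →ₐ[F] K := FiniteField.frobeniusAlgHom F K with hσ
  have hσapp : ∀ x, σ x = x ^ q := by
    intro x
    rw [hσ, FiniteField.coe_frobeniusAlgHom, hF]
  have hσσ : ∀ x, σ (σ x) = x := by
    intro x
    rw [hσapp, hσapp, ← pow_mul, ← pow_two, ← hK, FiniteField.pow_card]
  have hσne1 : σ ≠ 1 := by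
    intro h1
    have h2 := FiniteField.orderOf_frobeniusAlgHom F K
    rw [← hσ, h1, orderOf_one, hfr] at h2
    omega
  have hσne : ∃ x₀, x₀ + σ x₀ ≠ 0 := by
    by_contra hcon
    push Not at hcon
    apply hσne1
    have h11 : (1 : K) + 1 = 0 := by
      have := hcon 1
      rwa [map_one] at this
    apply AlgHom.ext
    intro x
    rw [AlgHom.one_apply]
    have h3 := hcon x
    have h4 : x + x = 0 := by
      have : x + x = x * (1 + 1) := by ring
      rw [this, h11, mul_zero]
    have : σ x = x := by
      have h5 : σ x = -x := by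
        rw [eq_neg_iff_add_eq_zero, add_comm]; exact h3
      rw [h5]
      exact neg_eq_of_add_eq_zero_left h4
    exact this
  obtain ⟨x₀, hx₀⟩ := hσne
  obtain ⟨lam, hlam⟩ : ∃ lam : K →ₗ[F] F, lam (x₀ + σ x₀) ≠ 0 := by
    by_contra hcon
    push Not at hcon
    exact hx₀ ((Module.forall_dual_apply_eq_zero_iff F (x₀ + σ x₀)).mp hcon)
  have hh : ∀ u v : Fin m → K, Cfsg.hermForm m K q u v = ∑ i, u i * σ (v i) := by
    intro u v
    unfold Cfsg.hermForm
    simp only [hσapp]
  let β : LinearMap.BilinForm F (Fin m → K) := LinearMap.mk₂ F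
    (fun u v => lam (∑ i, u i * σ (v i)))
    (by intro u u' v; simp only [Pi.add_apply, add_mul, Finset.sum_add_distrib, map_add])
    (by
      intro c u v
      simp only [Pi.smul_apply, smul_mul_assoc, ← Finset.smul_sum, map_smul])
    (by intro u v v'; simp only [Pi.add_apply, map_add, mul_add, Finset.sum_add_distrib])
    (by
      intro c u v
      simp only [Pi.smul_apply, map_smul, mul_smul_comm, ← Finset.smul_sum])
  have hβ : ∀ u v, β u v = lam (Cfsg.hermForm m K q u v) := by
    intro u v
    rw [hh]
    rfl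
  have hswap : ∀ u v, Cfsg.hermForm m K q v u = σ (Cfsg.hermForm m K q u v) := by
    intro u v
    rw [hh, hh, map_sum]
    apply Finset.sum_congr rfl
    intro i _
    rw [map_mul, hσσ, mul_comm]
  have hpolar : ∀ u v, QuadraticMap.polar ⇑β.toQuadraticMap u v =
      lam (Cfsg.hermForm m K q u v + σ (Cfsg.hermForm m K q u v)) := by
    intro u v
    rw [LinearMap.BilinMap.polar_toQuadraticMap, hβ, hβ, hswap u v, map_add]
  have hleft : ∀ u, (∀ v, QuadraticMap.polar ⇑β.toQuadraticMap u v = 0) → u = 0 := by
    intro u hu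
    have h1 : ∀ v, Cfsg.hermForm m K q u v = 0 := by
      intro v
      by_contra hne
      apply hlam
      have h2 := hu ((σ (x₀ / Cfsg.hermForm m K q u v)) • v)
      rw [hpolar] at h2
      have h3 : Cfsg.hermForm m K q u (σ (x₀ / Cfsg.hermForm m K q u v) • v) = x₀ := by
        rw [hh]
        simp only [Pi.smul_apply, smul_eq_mul, map_mul, hσσ]
        have : ∀ i, u i * (x₀ / Cfsg.hermForm m K q u v * σ (v i)) = (x₀ / Cfsg.hermForm m K q u v) * (u i * σ (v i)) := by
          intro i; ring
        simp only [this, ← Finset.mul_sum, ← hh]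
        field_simp
      rw [h3] at h2
      exact h2
    funext i
    have h4 := h1 (Pi.single i 1)
    rw [hh] at h4
    rw [Finset.sum_eq_single i] at h4
    · simpa using h4
    · intro j _ hji
      simp [Pi.single_apply, hji]
    · intro h; exact absurd (Finset.mem_univ i) h
  refine ⟨β.toQuadraticMap, ⟨?_, ?_⟩, ?_, ?_⟩
  · intro u hu
    apply hleft
    intro v
    have := hu v
    rwa [QuadraticMap.polarBilin_apply_apply] at this
  · intro v hv
    apply hleft
    intro u
    have := hv u
    rwa [QuadraticMap.polarBilin_apply_apply, QuadraticMap.polar_comm] at this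
  · intro v hv
    rw [LinearMap.BilinMap.toQuadraticMap_apply, hβ, hv, map_zero]
  · intro A hA v
    rw [LinearMap.BilinMap.toQuadraticMap_apply, LinearMap.BilinMap.toQuadraticMap_apply, hβ, hβ, hA]

end

/-- For m even, the unitary group GU_m(q) (over the field with q² elements) embeds in the orthogonal group O⁺_2m(q) of the hyperbolic form Σ x_i y_i over the field with q elements (there is an injective homomorphism). -/
theorem result {K F : Type*} [Field K] [Fintype K] [Field F] [Fintype F] {q : ℕ} (hK : Fintype.card K = q ^ 2) (hF : Fintype.card F = q) (m : ℕ) (hm : Even m) : ∃ φ : ↥(Cfsg.GU m K q) →* ↥(Cfsg.isometryGroup F (Cfsg.quadFormPlus m F)), Function.Injective φ := by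
  obtain ⟨alg, hfr⟩ := exists_algebra_of_card hK hF
  letI := alg
  have hq : 2 ≤ q := by rw [← hF]; exact Fintype.one_lt_card
  obtain ⟨k, rfl⟩ := hm
  have hV : finrank F (Fin (k + k) → K) = 2 * (k + k) := by
    rw [Module.finrank_pi_fintype]
    simp only [hfr, Finset.sum_const, Finset.card_univ, Fintype.card_fin, smul_eq_mul]
    ring
  obtain ⟨Q, hQnd, hQts, hQinv⟩ := herm_setup hK hF hfr (k + k)
  obtain ⟨ε, hε⟩ := exists_norm_neg_one hq hK
  let ι : (Fin k → K) →ₗ[F] (Fin (k + k) → K) :=
    { toFun := fun x j => Sum.elim x (fun i => ε * x i) (finSumFinEquiv.symm j)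
      map_add' := by
        intro x y
        funext j
        show Sum.elim (x + y) (fun i => ε * (x + y) i) (finSumFinEquiv.symm j) =
          Sum.elim x (fun i => ε * x i) (finSumFinEquiv.symm j) + Sum.elim y (fun i => ε * y i) (finSumFinEquiv.symm j)
        generalize finSumFinEquiv.symm j = s
        rcases s with i | i <;> simp [mul_add]
      map_smul' := by
        intro c x
        funext j
        show Sum.elim (c • x) (fun i => ε * (c • x) i) (finSumFinEquiv.symm j) =
          c • Sum.elim x (fun i => ε * x i) (finSumFinEquiv.symm j)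
        generalize finSumFinEquiv.symm j = s
        rcases s with i | i <;> simp [mul_smul_comm] }
  have hιapp : ∀ x s, ι x (finSumFinEquiv s) = Sum.elim x (fun i => ε * x i) s := by
    intro x s
    show Sum.elim x (fun i => ε * x i) (finSumFinEquiv.symm (finSumFinEquiv s)) = _
    rw [Equiv.symm_apply_apply]
  have hιinj : Function.Injective ι := by
    intro x y hxy
    funext i
    have := congrFun hxy (finSumFinEquiv (Sum.inl i))
    rwa [hιapp, hιapp] at this
  have hιts : ∀ x, Q (ι x) = 0 := by
    intro x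
    apply hQts
    unfold Cfsg.hermForm
    rw [← Equiv.sum_comp finSumFinEquiv, Fintype.sum_sum_type]
    simp only [hιapp, Sum.elim_inl, Sum.elim_inr]
    rw [← Finset.sum_add_distrib]
    apply Finset.sum_eq_zero
    intro i _
    have : x i * x i ^ q + ε * x i * (ε * x i) ^ q = x i * x i ^ q * (1 + ε ^ (q + 1)) := by
      rw [mul_pow, pow_succ]; ring
    rw [this, hε]
    ring
  set U := LinearMap.range ι with hU
  have hUdim : k + k ≤ finrank F U := by
    rw [hU, LinearMap.finrank_range_of_inj hιinj, Module.finrank_pi_fintype]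
    simp only [hfr, Finset.sum_const, Finset.card_univ, Fintype.card_fin, smul_eq_mul]
    omega
  have hUts : ∀ u ∈ U, Q u = 0 := by
    rintro u ⟨x, rfl⟩
    exact hιts x
  obtain ⟨e, f, hQef, hef, hee⟩ := hyp_of_ts (k + k) hV Q hQnd U hUts hUdim
  obtain ⟨T, hT⟩ := exists_iso_plus hV Q e f hQef hef hee
  let ρ : ↥(Cfsg.GU (k + k) K q) →* ((Fin (k + k) → K) →ₗ[F] (Fin (k + k) → K)) :=
    { toFun := fun A => (Matrix.toLin' ((A : GL (Fin (k + k)) K) : Matrix (Fin (k + k)) (Fin (k + k)) K)).restrictScalars F
      map_one' := by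
        apply LinearMap.ext
        intro v
        simp
      map_mul' := by
        intro A B
        apply LinearMap.ext
        intro v
        simp [Matrix.toLin'_mul] }
  have hρapp : ∀ A v, ρ A v = ((A : GL (Fin (k + k)) K) : Matrix (Fin (k + k)) (Fin (k + k)) K).mulVec v := fun A v => rfl
  refine embed_isometry T (Cfsg.quadFormPlus (k + k) F) (fun v => Q v) hT ρ ?_ ?_
  · intro A v
    rw [hρapp]
    exact hQinv _ (fun u v => A.2 u v) v
  · intro A B hAB
    apply Subtype.ext
    apply Units.ext
    apply Matrix.toLin'.injective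
    apply LinearMap.ext
    intro v
    have := congrArg (fun l => l v) hAB
    exact this

end Cfsg.Agent.S2640
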