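import Cfsg.Statements.S1054
import Cfsg.Agent.Lib.helper8.ChevTits5

set_option autoImplicit false
open Cfsg

namespace Cfsg.Agent.S1054

/-- The Chevalley groups of types D₄, F₄, E₆, E₇, E₈ are simple over every field. -/
theorem result {F : Type*} [Field F] (D : Cfsg.Lie.ChevalleyDatum)
    (hD : D ∈ [Cfsg.Lie.chevD4, Cfsg.Lie.chevF4, Cfsg.Lie.chevE6, Cfsg.Lie.chevE7, Cfsg.Lie.chevE8]) :
    IsSimpleGroup ↥(D.group F) ∧ ¬ IsMulCommutative ↥(D.group F) := by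
  have hD' : D ∈ [Cfsg.Lie.chevG2, Cfsg.Lie.chevB2, Cfsg.Lie.chevD4, Cfsg.Lie.chevF4,
      Cfsg.Lie.chevE6, Cfsg.Lie.chevE7, Cfsg.Lie.chevE8] :=
    List.mem_cons_of_mem _ (List.mem_cons_of_mem _ hD)
  apply Cfsg.Agent.Lib.helper8.h8simple_main D hD'
  intro h
  exfalso
  simp only [List.mem_cons, List.not_mem_nil, or_false] at hD
  have hG2 : Cfsg.Lie.chevG2.rank = 2 := rfl
  have hB2 : Cfsg.Lie.chevB2.rank = 2 := rfl
  have hD4 : Cfsg.Lie.chevD4.rank = 4 := rfl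
  have hF4 : Cfsg.Lie.chevF4.rank = 4 := rfl
  have hE6 : Cfsg.Lie.chevE6.rank = 6 := rfl
  have hE7 : Cfsg.Lie.chevE7.rank = 7 := rfl
  have hE8 : Cfsg.Lie.chevE8.rank = 8 := rfl
  rcases h with h | h <;> rcases hD with h' | h' | h' | h' | h' <;>
    · have := congrArg Cfsg.Lie.ChevalleyDatum.rank (h.symm.trans h')
      simp only [hG2, hB2, hD4, hF4, hE6, hE7, hE8] at this
      omega

end Cfsg.Agent.S1054
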