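import Cfsg.Statements.S2161
import Cfsg.Agent.Lib.helper8.ChevAut6
import Cfsg.Agent.Lib.helper8.ChevBaseAll
import Cfsg.Agent.Lib.helper8.ChevReflAll
import Cfsg.Agent.Lib.helper8.ChevBNAll

set_option autoImplicit false
open Cfsg

namespace Cfsg.Agent.S2161

open Cfsg.Agent.Lib.helper8 in
theorem symD4 (π : Equiv.Perm (Fin Cfsg.Lie.chevD4.rank)) (hπ : Cfsg.Lie.chevD4.IsDiagramSymmetry π) :
    ∃ L ∈ [h8aP_D4_0, h8aP_D4_1, h8aP_D4_2, h8aP_D4_3, h8aP_D4_4, h8aP_D4_5],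
      ∀ i : Fin Cfsg.Lie.chevD4.rank, (π i).val = L.getD i.val 0 := by
  have hne : ∀ i j : Fin Cfsg.Lie.chevD4.rank, i ≠ j → π i ≠ π j :=
    fun i j h hh => h (π.injective hh)
  have h0 : ∀ k : ℕ, k < 4 → k < Cfsg.Lie.chevD4.rank := fun k hk => hk
  have fne : ∀ (a b : ℕ) (ha : a < Cfsg.Lie.chevD4.rank) (hb : b < Cfsg.Lie.chevD4.rank), a ≠ b →
      (⟨a, ha⟩ : Fin Cfsg.Lie.chevD4.rank) ≠ ⟨b, hb⟩ := fun a b ha hb h hh => h (Fin.mk.inj hh)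
  have key := h8symD4_aux (π ⟨0, h0 0 (by norm_num)⟩) (π ⟨1, h0 1 (by norm_num)⟩)
    ⟨hne _ _ (fne _ _ _ _ (by decide)), hπ _ _ (fne _ _ _ _ (by decide))⟩
    (π ⟨2, h0 2 (by norm_num)⟩)
    ⟨hne _ _ (fne _ _ _ _ (by decide)), hne _ _ (fne _ _ _ _ (by decide)), hπ _ _ (fne _ _ _ _ (by decide)), hπ _ _ (fne _ _ _ _ (by decide))⟩
    (π ⟨3, h0 3 (by norm_num)⟩)
    ⟨hne _ _ (fne _ _ _ _ (by decide)), hne _ _ (fne _ _ _ _ (by decide)), hne _ _ (fne _ _ _ _ (by decide)),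
      hπ _ _ (fne _ _ _ _ (by decide)), hπ _ _ (fne _ _ _ _ (by decide)), hπ _ _ (fne _ _ _ _ (by decide))⟩
  refine ⟨_, key, ?_⟩
  rintro ⟨i, hi⟩
  have hi4 : i < 4 := hi
  interval_cases i <;> rfl

open Cfsg.Agent.Lib.helper8 in
theorem symE6 (π : Equiv.Perm (Fin Cfsg.Lie.chevE6.rank)) (hπ : Cfsg.Lie.chevE6.IsDiagramSymmetry π) :
    ∃ L ∈ [h8aP_E6_0, h8aP_E6_1],
      ∀ i : Fin Cfsg.Lie.chevE6.rank, (π i).val = L.getD i.val 0 := by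
  have hne : ∀ i j : Fin Cfsg.Lie.chevE6.rank, i ≠ j → π i ≠ π j :=
    fun i j h hh => h (π.injective hh)
  have h0 : ∀ k : ℕ, k < 6 → k < Cfsg.Lie.chevE6.rank := fun k hk => hk
  have fne : ∀ (a b : ℕ) (ha : a < Cfsg.Lie.chevE6.rank) (hb : b < Cfsg.Lie.chevE6.rank), a ≠ b →
      (⟨a, ha⟩ : Fin Cfsg.Lie.chevE6.rank) ≠ ⟨b, hb⟩ := fun a b ha hb h hh => h (Fin.mk.inj hh)
  have key := h8symE6_aux (π ⟨0, h0 0 (by norm_num)⟩) (π ⟨1, h0 1 (by norm_num)⟩)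
    ⟨hne _ _ (fne _ _ _ _ (by decide)), hπ _ _ (fne _ _ _ _ (by decide))⟩
    (π ⟨2, h0 2 (by norm_num)⟩)
    ⟨hne _ _ (fne _ _ _ _ (by decide)), hne _ _ (fne _ _ _ _ (by decide)), hπ _ _ (fne _ _ _ _ (by decide)), hπ _ _ (fne _ _ _ _ (by decide))⟩
    (π ⟨3, h0 3 (by norm_num)⟩)
    ⟨hne _ _ (fne _ _ _ _ (by decide)), hne _ _ (fne _ _ _ _ (by decide)), hne _ _ (fne _ _ _ _ (by decide)),
      hπ _ _ (fne _ _ _ _ (by decide)), hπ _ _ (fne _ _ _ _ (by decide)), hπ _ _ (fne _ _ _ _ (by decide))⟩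
    (π ⟨4, h0 4 (by norm_num)⟩)
    ⟨hne _ _ (fne _ _ _ _ (by decide)), hne _ _ (fne _ _ _ _ (by decide)), hne _ _ (fne _ _ _ _ (by decide)), hne _ _ (fne _ _ _ _ (by decide)),
      hπ _ _ (fne _ _ _ _ (by decide)), hπ _ _ (fne _ _ _ _ (by decide)), hπ _ _ (fne _ _ _ _ (by decide)), hπ _ _ (fne _ _ _ _ (by decide))⟩
    (π ⟨5, h0 5 (by norm_num)⟩)
    ⟨hne _ _ (fne _ _ _ _ (by decide)), hne _ _ (fne _ _ _ _ (by decide)), hne _ _ (fne _ _ _ _ (by decide)), hne _ _ (fne _ _ _ _ (by decide)),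
      hne _ _ (fne _ _ _ _ (by decide)),
      hπ _ _ (fne _ _ _ _ (by decide)), hπ _ _ (fne _ _ _ _ (by decide)), hπ _ _ (fne _ _ _ _ (by decide)), hπ _ _ (fne _ _ _ _ (by decide)),
      hπ _ _ (fne _ _ _ _ (by decide))⟩
  refine ⟨_, key, ?_⟩
  rintro ⟨i, hi⟩
  have hi6 : i < 6 := hi
  interval_cases i <;> rfl

open Cfsg.Agent.Lib.helper8 in
/-- For the Chevalley groups of types D₄ and E₆ (one root length) over any field: if `π` is a symmetry of the Dynkin diagram and `φ` is an automorphism sending `x_{p_i}(t)` to `x_{p_{π i}}(t)` and `x_{-p_i}(t)` to `x_{-p_{π i}}(t)` for every fundamental root `p_i`, then for every root `r` there is a sign `ε = ±1` with `φ(x_r(t)) = x_{π·r}(ε t)` for all `t`, where `π·r` is the root whose coefficients are those of `r` permuted by `π`. -/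
theorem result {F : Type*} [Field F] (D : Cfsg.Lie.ChevalleyDatum) (hD : D ∈ [Cfsg.Lie.chevD4, Cfsg.Lie.chevE6])
    (π : Equiv.Perm (Fin D.rank)) (hπ : D.IsDiagramSymmetry π) (φ : ↥(D.group F) ≃* ↥(D.group F))
    (hφ : ∀ (g : ↥(D.group F)) (i : Fin D.rank) (t : F),
      (((g : GL D.Idx F) : Matrix D.Idx D.Idx F) = D.x F (D.simple i) t →
        ((φ g : GL D.Idx F) : Matrix D.Idx D.Idx F) = D.x F (D.simple (π i)) t) ∧
      (((g : GL D.Idx F) : Matrix D.Idx D.Idx F) = D.x F (D.neg (D.simple i)) t →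
        ((φ g : GL D.Idx F) : Matrix D.Idx D.Idx F) = D.x F (D.neg (D.simple (π i))) t))
    (r : ℕ) (hr : r < D.nroots) :
    ∃ ε : F, (ε = 1 ∨ ε = -1) ∧ ∀ (g : ↥(D.group F)) (t : F),
      ((g : GL D.Idx F) : Matrix D.Idx D.Idx F) = D.x F r t →
        ((φ g : GL D.Idx F) : Matrix D.Idx D.Idx F) = D.x F (D.permRoot π r) (ε * t) := by
  simp only [List.mem_cons, List.mem_nil_iff, or_false] at hD
  rcases hD with rfl | rfl
  · have hB := h8base_all Cfsg.Lie.chevD4 (by simp)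
    have hR := h8reflAll Cfsg.Lie.chevD4 (by simp)
    have hBN := h8bn_all Cfsg.Lie.chevD4 (by simp)
    obtain ⟨L, hL, hπL⟩ := symD4 π hπ
    simp only [List.mem_cons, List.mem_nil_iff, or_false] at hL
    rcases hL with rfl | rfl | rfl | rfl | rfl | rfl
    · exact h8graph_unique _ hB hR hBN h8ceChk_D4 _ _ _ _ _ h8aChk_D4_0 h8aX_D4_0 π hπL φ hφ r hr
    · exact h8graph_unique _ hB hR hBN h8ceChk_D4 _ _ _ _ _ h8aChk_D4_1 h8aX_D4_1 π hπL φ hφ r hr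
    · exact h8graph_unique _ hB hR hBN h8ceChk_D4 _ _ _ _ _ h8aChk_D4_2 h8aX_D4_2 π hπL φ hφ r hr
    · exact h8graph_unique _ hB hR hBN h8ceChk_D4 _ _ _ _ _ h8aChk_D4_3 h8aX_D4_3 π hπL φ hφ r hr
    · exact h8graph_unique _ hB hR hBN h8ceChk_D4 _ _ _ _ _ h8aChk_D4_4 h8aX_D4_4 π hπL φ hφ r hr
    · exact h8graph_unique _ hB hR hBN h8ceChk_D4 _ _ _ _ _ h8aChk_D4_5 h8aX_D4_5 π hπL φ hφ r hr
  · have hB := h8base_all Cfsg.Lie.chevE6 (by simp)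
    have hR := h8reflAll Cfsg.Lie.chevE6 (by simp)
    have hBN := h8bn_all Cfsg.Lie.chevE6 (by simp)
    obtain ⟨L, hL, hπL⟩ := symE6 π hπ
    simp only [List.mem_cons, List.mem_nil_iff, or_false] at hL
    rcases hL with rfl | rfl
    · exact h8graph_unique _ hB hR hBN h8ceChk_E6 _ _ _ _ _ h8aChk_E6_0 h8aX_E6_0 π hπL φ hφ r hr
    · exact h8graph_unique _ hB hR hBN h8ceChk_E6 _ _ _ _ _ h8aChk_E6_1 h8aX_E6_1 π hπL φ hφ r hr

end Cfsg.Agent.S2161
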