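import Cfsg.Statements.S2622
import Cfsg.Agent.Lib.Helper16.OrthoBasis

set_option autoImplicit false
open Cfsg

namespace Cfsg.Agent.S2622

open Cfsg.Agent.Lib.Helper16
open Module

universe u v

theorem exists_good {F : Type u} [Field F] [Finite F] [CharP F 2] {V : Type v} [AddCommGroup V] [Module F V]
    [FiniteDimensional F V] {d : ℕ} (hV : finrank F V = d + 1) (B : LinearMap.BilinForm F V)
    (hS : B.IsSymm) (hB : B.Nondegenerate) (hna : ∃ v : V, B v v ≠ 0) :
    ∃ x : V, B x x = 1 ∧ (d = 0 ∨ ∃ w ∈ B.orthogonal (F ∙ x), B w w ≠ 0) := by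
  obtain ⟨v, hv⟩ := hna
  obtain ⟨s, hs⟩ := FiniteField.isSquare_of_char_two (ringChar.eq F 2) (B v v)
  have hs0 : s ≠ 0 := by
    rintro rfl
    rw [mul_zero] at hs
    exact hv hs
  set x₀ := s⁻¹ • v with hx₀
  have hx₀1 : B x₀ x₀ = 1 := by
    simp only [hx₀, map_smul, LinearMap.smul_apply, smul_eq_mul, hs]
    field_simp
  have hx₀ne : B x₀ x₀ ≠ 0 := by rw [hx₀1]; exact one_ne_zero
  by_cases hd : d = 0
  · exact ⟨x₀, hx₀1, Or.inl hd⟩
  by_cases hex : ∃ w ∈ B.orthogonal (F ∙ x₀), B w w ≠ 0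
  · exact ⟨x₀, hx₀1, Or.inr hex⟩
  push Not at hex
  have hfr := finrank_orthogonal_singleton hx₀ne hV
  have hnd := LinearMap.BilinForm.restrict_nondegenerate_orthogonal_spanSingleton B hB hS.isRefl hx₀ne
  have hnt : Nontrivial (B.orthogonal (F ∙ x₀)) := by
    apply Module.nontrivial_of_finrank_pos (R := F)
    omega
  obtain ⟨e, he⟩ := exists_ne (0 : B.orthogonal (F ∙ x₀))
  have : ∃ f : B.orthogonal (F ∙ x₀), (B.restrict (B.orthogonal (F ∙ x₀))) e f ≠ 0 := by
    by_contra hcon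
    push Not at hcon
    exact he (hnd.1 e hcon)
  obtain ⟨f, hf⟩ := this
  have hef : B e.1 f.1 ≠ 0 := hf
  set f' := (B e.1 f.1)⁻¹ • f.1 with hf'
  have hf'mem : f' ∈ B.orthogonal (F ∙ x₀) := Submodule.smul_mem _ _ f.2
  have hef' : B e.1 f' = 1 := by
    rw [hf', map_smul, smul_eq_mul, inv_mul_cancel₀ hef]
  have hx₀e : B x₀ e.1 = 0 := e.2 x₀ (Submodule.mem_span_singleton_self x₀)
  have hex₀ : B e.1 x₀ = 0 := hS.isRefl _ _ hx₀e
  have hx₀f : B x₀ f' = 0 := hf'mem x₀ (Submodule.mem_span_singleton_self x₀)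
  have hfx₀ : B f' x₀ = 0 := hS.isRefl _ _ hx₀f
  have hee : B e.1 e.1 = 0 := hex e.1 e.2
  have hff : B f' f' = 0 := hex f' hf'mem
  have h2 : (1 : F) + 1 = 0 := CharTwo.add_self_eq_zero 1
  refine ⟨x₀ + e.1, ?_, Or.inr ⟨x₀ + f', ?_, ?_⟩⟩
  · simp only [map_add, LinearMap.add_apply, hx₀1, hx₀e, hex₀, hee]
    ring
  · intro z hz
    obtain ⟨c, rfl⟩ := Submodule.mem_span_singleton.1 hz
    simp only [map_add, LinearMap.add_apply, map_smul, LinearMap.smul_apply, hx₀1, hx₀f, hex₀, hef', smul_eq_mul]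
    linear_combination c * h2
  · simp only [map_add, LinearMap.add_apply, hx₀1, hx₀f, hfx₀, hff]
    simp

theorem aux {F : Type u} [Field F] [Finite F] [CharP F 2] : ∀ (d : ℕ) {V : Type v} [AddCommGroup V] [Module F V]
    [FiniteDimensional F V], finrank F V = d → ∀ (B : LinearMap.BilinForm F V), B.IsSymm → B.Nondegenerate →
    (d = 0 ∨ ∃ v : V, B v v ≠ 0) → ∃ b : Basis (Fin d) F V, ∀ i j, B (b i) (b j) = if i = j then 1 else 0 := by
  intro d
  induction d with
  | zero =>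
    intro V _ _ _ hV B _ _ _
    exact ⟨basisOfFinrankZero hV, fun i => i.elim0⟩
  | succ d ih =>
    intro V _ _ _ hV B hS hB hna
    have hna' : ∃ v : V, B v v ≠ 0 := by
      rcases hna with h | h
      · omega
      · exact h
    obtain ⟨x, hx1, hx2⟩ := exists_good hV B hS hB hna'
    have hxne : B x x ≠ 0 := by rw [hx1]; exact one_ne_zero
    have hfr := finrank_orthogonal_singleton hxne hV
    have hnd := LinearMap.BilinForm.restrict_nondegenerate_orthogonal_spanSingleton B hB hS.isRefl hxne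
    have hS' : (B.restrict (B.orthogonal (F ∙ x))).IsSymm := ⟨fun a b => hS.eq a.1 b.1⟩
    have hna'' : d = 0 ∨ ∃ w : B.orthogonal (F ∙ x), (B.restrict (B.orthogonal (F ∙ x))) w w ≠ 0 := by
      rcases hx2 with h | ⟨w, hw, hww⟩
      · exact Or.inl h
      · exact Or.inr ⟨⟨w, hw⟩, hww⟩
    obtain ⟨v', hv'⟩ := ih hfr (B.restrict (B.orthogonal (F ∙ x))) hS' hnd hna''
    refine ⟨consBasis hxne v', ?_⟩
    intro i j
    refine Fin.cases ?_ (fun i => ?_) i <;> refine Fin.cases ?_ (fun j => ?_) j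
    · rw [consBasis_zero, hx1]; simp
    · rw [consBasis_zero_succ]
      rw [if_neg (Fin.succ_ne_zero j).symm]
    · rw [consBasis_succ_zero hS.isRefl]
      rw [if_neg (Fin.succ_ne_zero i)]
    · rw [consBasis_succ_succ, hv']
      simp only [Fin.succ_inj]

/-- Over a finite field of characteristic two, a non-degenerate symmetric bilinear form that is not alternating (some vector v has B(v, v) ≠ 0) admits an orthonormal basis. -/
theorem result {F V : Type*} [Field F] [Finite F] [CharP F 2] [AddCommGroup V] [Module F V] [FiniteDimensional F V] {n : ℕ} (hV : Module.finrank F V = n) (B : LinearMap.BilinForm F V) (hS : B.IsSymm) (hB : B.Nondegenerate) (hna : ∃ v : V, B v v ≠ 0) : ∃ b : Module.Basis (Fin n) F V, ∀ i j, B (b i) (b j) = if i = j then 1 else 0 :=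
  aux n hV B hS hB (Or.inr hna)

end Cfsg.Agent.S2622
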