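import Cfsg.Statements.S5335
import Cfsg.Agent.S5082
import Cfsg.Agent.Lib.Helper27.FusCentric2
import Cfsg.Agent.Lib.Helper27.FusTop

set_option autoImplicit false
open Cfsg

namespace Cfsg.Agent.S5335

open Cfsg.FusionSystem Cfsg.Agent.Lib.Helper26 Cfsg.Agent.Lib.Helper27

theorem exists_min_centric {Ω : Type*} [Group Ω] {S : Subgroup Ω} [Finite S] (F : FusionSystem S) :
    ∀ (n : ℕ) (P : Subgroup Ω), Nat.card P = n → F.IsCentric P →
      ∃ Q : Subgroup Ω, Q ≤ P ∧ F.IsCentric Q ∧ ∀ R : Subgroup Ω, R < Q → ¬ F.IsCentric R := by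
  intro n
  induction n using Nat.strong_induction_on with
  | _ n ih =>
    intro P hn hP
    by_cases hmin : ∀ R : Subgroup Ω, R < P → ¬ F.IsCentric R
    · exact ⟨P, le_rfl, hP, hmin⟩
    · push Not at hmin
      obtain ⟨R, hRP, hR⟩ := hmin
      have hfinP : Finite P := finite_of_le hP.1
      obtain ⟨Q, hQR, hQ, hQmin⟩ := ih (Nat.card R) (hn ▸ card_lt_card_of_lt hRP) R rfl hR
      exact ⟨Q, hQR.trans hRP.le, hQ, hQmin⟩

theorem isCentric_top {Ω : Type*} [Group Ω] {S : Subgroup Ω} [Finite S] (F : FusionSystem S) :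
    F.IsCentric S := by
  refine ⟨le_rfl, fun Q hQ => ?_⟩
  obtain ⟨φ, hφ, hr⟩ := hQ
  rw [← hr, range_eq_top_of_hom F hφ]
  exact inf_le_left

/-- Let F′ ≤ F be saturated fusion systems over the same finite p-group S. If the maps of F and of F′ with source Q coincide for every F-centric subgroup Q that is minimal among F-centric subgroups, then F = F′. -/
theorem result {Ω : Type*} [Group Ω] {S : Subgroup Ω} [Finite S] (p : ℕ) [Fact p.Prime] (hS : IsPGroup p S) (F : Cfsg.FusionSystem S) (hF : F.IsSaturated p) (F' : Cfsg.FusionSystem S) (hF' : F'.IsSaturated p) (hle : F' ≤ F) (hmin : ∀ Q : Subgroup Ω, F.IsCentric Q → (∀ R : Subgroup Ω, R < Q → ¬ F.IsCentric R) → F.Hom Q = F'.Hom Q) (P : Subgroup Ω) : F.Hom P = F'.Hom P := by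
  apply Set.Subset.antisymm _ (hle P)
  revert P
  show F ≤ F'
  apply Cfsg.Agent.S5082.result p hS F hF F'
  intro P hP
  have hcen : F.IsCentric P := by
    rcases hP with rfl | hess
    · exact isCentric_top F
    · exact hess.1
  have hPS : P ≤ S := hcen.1
  obtain ⟨Q, hQP, hQ, hQmin⟩ := exists_min_centric F _ P rfl hcen
  intro α hα
  have hαF := (mem_autGroup_iff F hPS).mp hα
  rw [mem_autGroup_iff F' hPS]
  apply mem_of_restrict_centric hS F hF F' hF' hle _ hQP hPS hQ rfl hαF
  rw [← hmin Q hQ hQmin]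
  exact restrict_mem F hαF hQP

end Cfsg.Agent.S5335
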