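import Cfsg.Statements.S0305
import Mathlib

set_option autoImplicit false
open Cfsg

namespace Cfsg.Agent.S0305

open Matrix

variable {F : Type*} [Field F]

abbrev I2 : Type := Fin 1 ⊕ Fin 1

/-- A 2x2 matrix over the index type `Fin 1 ⊕ Fin 1`. -/
def M2 (a b c d : F) : Matrix I2 I2 F :=
  Matrix.of fun i j => Sum.elim (fun _ => Sum.elim (fun _ => a) (fun _ => b) j)
    (fun _ => Sum.elim (fun _ => c) (fun _ => d) j) i

theorem M2_mul (a b c d a' b' c' d' : F) :
    M2 a b c d * M2 a' b' c' d' =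
      M2 (a * a' + b * c') (a * b' + b * d') (c * a' + d * c') (c * b' + d * d') := by
  ext i j
  rcases i with i | i <;> rcases j with j | j <;>
    simp [M2, Matrix.mul_apply, Fintype.sum_sum_type]

theorem M2_one : M2 (1 : F) 0 0 1 = 1 := by
  ext i j
  rcases i with i | i <;> rcases j with j | j <;>
    simp [M2, Matrix.one_apply, Subsingleton.elim i j]

theorem M2_eta (A : Matrix I2 I2 F) :
    A = M2 (A (.inl 0) (.inl 0)) (A (.inl 0) (.inr 0)) (A (.inr 0) (.inl 0)) (A (.inr 0) (.inr 0)) := by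
  ext i j
  rcases i with i | i <;> rcases j with j | j <;>
    simp [M2, Subsingleton.elim i 0, Subsingleton.elim j 0]

theorem M2_mulVec (a b c d : F) (v : I2 → F) :
    M2 a b c d *ᵥ v = fun i => Sum.elim (fun _ => a * v (.inl 0) + b * v (.inr 0))
      (fun _ => c * v (.inl 0) + d * v (.inr 0)) i := by
  funext i
  rcases i with i | i <;>
    simp [M2, Matrix.mulVec, dotProduct, Fintype.sum_sum_type]

theorem quad_eq (v : I2 → F) : Cfsg.quadFormPlus 1 F v = v (.inl 0) * v (.inr 0) := by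
  simp [Cfsg.quadFormPlus]

theorem mem_iso_iff (g : GL I2 F) :
    g ∈ Cfsg.isometryGroup F (Cfsg.quadFormPlus 1 F) ↔
      ∀ u, Cfsg.quadFormPlus 1 F ((g : Matrix I2 I2 F) *ᵥ u) = Cfsg.quadFormPlus 1 F u :=
  ⟨fun h u => h u u, fun h u _ => h u⟩

/-- Diagonal element. -/
def Dgl (u : Fˣ) : GL I2 F :=
  ⟨M2 (u : F) 0 0 ((u⁻¹ : Fˣ) : F), M2 ((u⁻¹ : Fˣ) : F) 0 0 (u : F),
    by rw [M2_mul]; simp [M2_one], by rw [M2_mul]; simp [M2_one]⟩

/-- Antidiagonal element. -/
def Sgl (u : Fˣ) : GL I2 F :=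
  ⟨M2 0 ((u⁻¹ : Fˣ) : F) (u : F) 0, M2 0 ((u⁻¹ : Fˣ) : F) (u : F) 0,
    by rw [M2_mul]; simp [M2_one], by rw [M2_mul]; simp [M2_one]⟩

theorem Dgl_coe (u : Fˣ) : ((Dgl u : GL I2 F) : Matrix I2 I2 F) = M2 (u : F) 0 0 ((u⁻¹ : Fˣ) : F) := rfl
theorem Sgl_coe (u : Fˣ) : ((Sgl u : GL I2 F) : Matrix I2 I2 F) = M2 0 ((u⁻¹ : Fˣ) : F) (u : F) 0 := rfl

theorem Dgl_mem (u : Fˣ) : Dgl u ∈ Cfsg.isometryGroup F (Cfsg.quadFormPlus 1 F) := by
  rw [mem_iso_iff]
  intro v
  rw [Dgl_coe, M2_mulVec, quad_eq, quad_eq]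
  simp only [Sum.elim_inl, Sum.elim_inr, zero_mul, add_zero, zero_add]
  have : (u : F) * ((u⁻¹ : Fˣ) : F) = 1 := by simp
  linear_combination (v (.inl 0) * v (.inr 0)) * this

theorem Sgl_mem (u : Fˣ) : Sgl u ∈ Cfsg.isometryGroup F (Cfsg.quadFormPlus 1 F) := by
  rw [mem_iso_iff]
  intro v
  rw [Sgl_coe, M2_mulVec, quad_eq, quad_eq]
  simp only [Sum.elim_inl, Sum.elim_inr, zero_mul, add_zero, zero_add]
  have : (u : F) * ((u⁻¹ : Fˣ) : F) = 1 := by simp
  linear_combination (v (.inl 0) * v (.inr 0)) * this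

theorem DD (u v : Fˣ) : Dgl u * Dgl v = Dgl (u * v) := by
  apply Units.ext
  rw [Units.val_mul, Dgl_coe, Dgl_coe, Dgl_coe, M2_mul]
  simp [mul_comm]

theorem DS (u v : Fˣ) : Dgl u * Sgl v = Sgl (v * u⁻¹) := by
  apply Units.ext
  rw [Units.val_mul, Dgl_coe, Sgl_coe, Sgl_coe, M2_mul]
  simp [mul_comm]

theorem SD (u v : Fˣ) : Sgl u * Dgl v = Sgl (u * v) := by
  apply Units.ext
  rw [Units.val_mul, Dgl_coe, Sgl_coe, Sgl_coe, M2_mul]
  simp [mul_comm]

theorem SS (u v : Fˣ) : Sgl u * Sgl v = Dgl (v * u⁻¹) := by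
  apply Units.ext
  rw [Units.val_mul, Dgl_coe, Sgl_coe, Sgl_coe, M2_mul]
  simp [mul_comm]

theorem Dgl_one : Dgl (1 : Fˣ) = 1 := by
  apply Units.ext
  rw [Dgl_coe]
  simp [M2_one]

theorem M2_inj {a b c d a' b' c' d' : F} (h : M2 a b c d = M2 a' b' c' d') :
    a = a' ∧ b = b' ∧ c = c' ∧ d = d' := by
  refine ⟨?_, ?_, ?_, ?_⟩
  · simpa [M2] using congrFun (congrFun h (.inl 0)) (.inl 0)
  · simpa [M2] using congrFun (congrFun h (.inl 0)) (.inr 0)
  · simpa [M2] using congrFun (congrFun h (.inr 0)) (.inl 0)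
  · simpa [M2] using congrFun (congrFun h (.inr 0)) (.inr 0)

/-- Every isometry is diagonal or antidiagonal. -/
theorem iso_cases (g : GL I2 F) (hg : g ∈ Cfsg.isometryGroup F (Cfsg.quadFormPlus 1 F)) :
    (∃ u : Fˣ, g = Dgl u) ∨ (∃ u : Fˣ, g = Sgl u) := by
  rw [mem_iso_iff] at hg
  set a := (g : Matrix I2 I2 F) (.inl 0) (.inl 0) with ha
  set b := (g : Matrix I2 I2 F) (.inl 0) (.inr 0) with hb
  set c := (g : Matrix I2 I2 F) (.inr 0) (.inl 0) with hc
  set d := (g : Matrix I2 I2 F) (.inr 0) (.inr 0) with hd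
  have hM : (g : Matrix I2 I2 F) = M2 a b c d := M2_eta _
  have h1 := hg (fun i => Sum.elim (fun _ => 1) (fun _ => 0) i)
  have h2 := hg (fun i => Sum.elim (fun _ => 0) (fun _ => 1) i)
  have h3 := hg (fun i => Sum.elim (fun _ => 1) (fun _ => 1) i)
  rw [hM, M2_mulVec, quad_eq, quad_eq] at h1 h2 h3
  simp only [Sum.elim_inl, Sum.elim_inr, mul_one, mul_zero, add_zero, zero_add] at h1 h2 h3
  have h4 : a * d + b * c = 1 := by linear_combination h3 - h1 - h2
  by_cases ha0 : a = 0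
  · right
    rw [ha0] at h4
    have hb0 : b ≠ 0 := by
      rintro hb0; rw [hb0] at h4; simp at h4
    have hd0 : d = 0 := by
      rcases mul_eq_zero.mp h2 with h | h
      · exact absurd h hb0
      · exact h
    have hbc : b * c = 1 := by rw [hd0] at h4; simpa using h4
    have hc0 : c ≠ 0 := by
      rintro hc0; rw [hc0] at hbc; simp at hbc
    refine ⟨Units.mk0 c hc0, ?_⟩
    apply Units.ext
    rw [hM, Sgl_coe, ha0, hd0]
    congr 1
    simp only [Units.val_inv_eq_inv_val, Units.val_mk0]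
    exact eq_inv_of_mul_eq_one_left hbc
  · left
    have hc0 : c = 0 := by
      rcases mul_eq_zero.mp h1 with h | h
      · exact absurd h ha0
      · exact h
    have had : a * d = 1 := by rw [hc0] at h4; simpa using h4
    have hd0 : d ≠ 0 := by
      rintro hd0; rw [hd0] at had; simp at had
    have hb0 : b = 0 := by
      rcases mul_eq_zero.mp h2 with h | h
      · exact h
      · exact absurd h hd0
    refine ⟨Units.mk0 a ha0, ?_⟩
    apply Units.ext
    rw [hM, Dgl_coe, hb0, hc0]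
    congr 1
    simp only [Units.val_inv_eq_inv_val, Units.val_mk0]
    exact eq_inv_of_mul_eq_one_right had

theorem Dgl_ne_Sgl (u v : Fˣ) : Dgl u ≠ Sgl v := by
  intro h
  have := congrArg (fun g : GL I2 F => (g : Matrix I2 I2 F)) h
  simp only [Dgl_coe, Sgl_coe] at this
  have h1 := (M2_inj this).1
  exact u.ne_zero h1

theorem Dgl_inj {u v : Fˣ} (h : Dgl u = Dgl v) : u = v := by
  have := congrArg (fun g : GL I2 F => (g : Matrix I2 I2 F)) h
  simp only [Dgl_coe] at this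
  exact Units.ext (M2_inj this).1

theorem Sgl_inj {u v : Fˣ} (h : Sgl u = Sgl v) : u = v := by
  have := congrArg (fun g : GL I2 F => (g : Matrix I2 I2 F)) h
  simp only [Sgl_coe] at this
  exact Units.ext (M2_inj this).2.2.1

/-- GO^+_2(q) is dihedral of order 2(q-1). -/
theorem result {F : Type*} [Field F] [Fintype F] {q : ℕ} (hF : Fintype.card F = q) : Nonempty (Cfsg.isometryGroup F (Cfsg.quadFormPlus 1 F) ≃* DihedralGroup (q - 1)) := by
  classical
  have hn : Nat.card Fˣ = q - 1 := by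
    rw [Nat.card_eq_fintype_card, Fintype.card_units, hF]
  have e : Multiplicative (ZMod (q - 1)) ≃* Fˣ := by
    rw [← hn]; exact zmodCyclicMulEquiv inferInstance
  let φ : ZMod (q - 1) → Fˣ := fun i => e (Multiplicative.ofAdd i)
  have φ_add : ∀ i j, φ (i + j) = φ i * φ j := fun i j => by
    show e (Multiplicative.ofAdd (i + j)) = _
    rw [ofAdd_add, map_mul]
  have φ_zero : φ 0 = 1 := by
    show e (Multiplicative.ofAdd 0) = 1
    rw [ofAdd_zero, map_one]
  have φ_sub : ∀ i j, φ (j - i) = φ j * (φ i)⁻¹ := fun i j => by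
    show e (Multiplicative.ofAdd (j - i)) = _
    rw [ofAdd_sub, map_div, div_eq_mul_inv]
  have φ_inj : Function.Injective φ := fun i j h => by
    have := e.injective h
    exact Multiplicative.ofAdd.injective this
  have φ_surj : Function.Surjective φ := fun u => by
    obtain ⟨x, hx⟩ := e.surjective u
    exact ⟨Multiplicative.toAdd x, hx⟩
  let f : DihedralGroup (q - 1) → Cfsg.isometryGroup F (Cfsg.quadFormPlus 1 F) := fun x =>
    match x with
    | .r i => ⟨Dgl (φ i), Dgl_mem _⟩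
    | .sr i => ⟨Sgl (φ i), Sgl_mem _⟩
  have f_mul : ∀ x y, f (x * y) = f x * f y := by
    intro x y
    rcases x with i | i <;> rcases y with j | j
    · apply Subtype.ext
      show Dgl (φ (i + j)) = Dgl (φ i) * Dgl (φ j)
      rw [DD, φ_add]
    · apply Subtype.ext
      show Sgl (φ (j - i)) = Dgl (φ i) * Sgl (φ j)
      rw [DS, φ_sub]
    · apply Subtype.ext
      show Sgl (φ (i + j)) = Sgl (φ i) * Dgl (φ j)
      rw [SD, φ_add]
    · apply Subtype.ext
      show Dgl (φ (j - i)) = Sgl (φ i) * Sgl (φ j)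
      rw [SS, φ_sub]
  let Ψ : DihedralGroup (q - 1) →* Cfsg.isometryGroup F (Cfsg.quadFormPlus 1 F) :=
    { toFun := f
      map_one' := by
        apply Subtype.ext
        show Dgl (φ 0) = 1
        rw [φ_zero, Dgl_one]
      map_mul' := f_mul }
  have hinj : Function.Injective Ψ := by
    intro x y hxy
    have hxy' : (f x).1 = (f y).1 := congrArg Subtype.val hxy
    rcases x with i | i <;> rcases y with j | j
    · have : Dgl (φ i) = Dgl (φ j) := hxy'
      rw [φ_inj (Dgl_inj this)]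
    · have : Dgl (φ i) = Sgl (φ j) := hxy'
      exact absurd this (Dgl_ne_Sgl _ _)
    · have : Sgl (φ i) = Dgl (φ j) := hxy'
      exact absurd this.symm (Dgl_ne_Sgl _ _)
    · have : Sgl (φ i) = Sgl (φ j) := hxy'
      rw [φ_inj (Sgl_inj this)]
  have hsurj : Function.Surjective Ψ := by
    intro g
    rcases iso_cases g.1 g.2 with ⟨u, hu⟩ | ⟨u, hu⟩
    · obtain ⟨i, hi⟩ := φ_surj u
      refine ⟨.r i, Subtype.ext ?_⟩
      show Dgl (φ i) = g.1
      rw [hi, hu]
    · obtain ⟨i, hi⟩ := φ_surj u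
      refine ⟨.sr i, Subtype.ext ?_⟩
      show Sgl (φ i) = g.1
      rw [hi, hu]
  exact ⟨(MulEquiv.ofBijective Ψ ⟨hinj, hsurj⟩).symm⟩

end Cfsg.Agent.S0305
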