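import Cfsg.Statements.S0306

import Mathlib
set_option autoImplicit false
open Cfsg

namespace Cfsg.Agent.S0306


open Matrix

section Helpers

variable {F : Type*} [Field F]

abbrev J : Type := (Fin 0 ⊕ Fin 0) ⊕ Fin 2

def M2 (x y z w : F) : Matrix J J F :=
  Matrix.of fun i j => Sum.elim (fun _ => 0)
    (fun i' => Sum.elim (fun _ => 0) (fun j' => !![x, y; z, w] i' j') j) i

theorem M2_mul (a b c d a' b' c' d' : F) :
    M2 a b c d * M2 a' b' c' d' =
      M2 (a * a' + b * c') (a * b' + b * d') (c * a' + d * c') (c * b' + d * d') := by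
  ext i j
  rcases i with (i | i) | i
  · exact i.elim0
  · exact i.elim0
  rcases j with (j | j) | j
  · exact j.elim0
  · exact j.elim0
  fin_cases i <;> fin_cases j <;>
    simp [M2, Matrix.mul_apply, Fintype.sum_sum_type, Fin.sum_univ_two]

theorem M2_one : M2 (1 : F) 0 0 1 = 1 := by
  ext i j
  rcases i with (i | i) | i
  · exact i.elim0
  · exact i.elim0
  rcases j with (j | j) | j
  · exact j.elim0
  · exact j.elim0
  fin_cases i <;> fin_cases j <;> simp [M2, Matrix.one_apply]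

theorem M2_eta (A : Matrix J J F) :
    A = M2 (A (.inr 0) (.inr 0)) (A (.inr 0) (.inr 1)) (A (.inr 1) (.inr 0)) (A (.inr 1) (.inr 1)) := by
  ext i j
  rcases i with (i | i) | i
  · exact i.elim0
  · exact i.elim0
  rcases j with (j | j) | j
  · exact j.elim0
  · exact j.elim0
  fin_cases i <;> fin_cases j <;> simp [M2]

theorem M2_mulVec (a b c d : F) (v : J → F) :
    M2 a b c d *ᵥ v = fun i => Sum.elim (fun _ => 0)
      (fun i' => ![a * v (.inr 0) + b * v (.inr 1), c * v (.inr 0) + d * v (.inr 1)] i') i := by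
  funext i
  rcases i with (i | i) | i
  · exact i.elim0
  · exact i.elim0
  fin_cases i <;>
    simp [M2, Matrix.mulVec, dotProduct, Fintype.sum_sum_type, Fin.sum_univ_two]

theorem M2_inj {a b c d a' b' c' d' : F} (h : M2 a b c d = M2 a' b' c' d') :
    a = a' ∧ b = b' ∧ c = c' ∧ d = d' := by
  refine ⟨?_, ?_, ?_, ?_⟩
  · simpa [M2] using congrFun (congrFun h (.inr 0)) (.inr 0)
  · simpa [M2] using congrFun (congrFun h (.inr 0)) (.inr 1)
  · simpa [M2] using congrFun (congrFun h (.inr 1)) (.inr 0)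
  · simpa [M2] using congrFun (congrFun h (.inr 1)) (.inr 1)

theorem quad_eq (a b : F) (v : J → F) : Cfsg.quadFormMinus 0 F a b v =
    v (.inr 0) ^ 2 + a * v (.inr 0) * v (.inr 1) + b * v (.inr 1) ^ 2 := by
  simp [Cfsg.quadFormMinus]

theorem mem_iso_iff (a b : F) (g : GL J F) :
    g ∈ Cfsg.isometryGroup F (Cfsg.quadFormMinus 0 F a b) ↔
      ∀ u, Cfsg.quadFormMinus 0 F a b ((g : Matrix J J F) *ᵥ u) = Cfsg.quadFormMinus 0 F a b u :=
  ⟨fun h u => h u u, fun h u _ => h u⟩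

def vec (s t : F) : J → F := fun i => Sum.elim (fun _ => 0) (fun i' => ![s, t] i') i

theorem quad_M2_vec (a b x y z w s t : F) :
    Cfsg.quadFormMinus 0 F a b (M2 x y z w *ᵥ vec s t) =
      (x * s + y * t) ^ 2 + a * (x * s + y * t) * (z * s + w * t) + b * (z * s + w * t) ^ 2 := by
  rw [M2_mulVec, quad_eq]
  simp [vec]

end Helpers

section Quad

variable {F : Type*} [Field F] (a b : F)

abbrev KK : Type _ := QuadraticAlgebra F (-b) a

def Mu (u : KK a b) : Matrix J J F := M2 u.re (-b * u.im) u.im (u.re + a * u.im)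

theorem Mu_mul (u v : KK a b) : Mu a b (u * v) = Mu a b u * Mu a b v := by
  rw [Mu, Mu, Mu, M2_mul]
  congr 1 <;> simp [QuadraticAlgebra.re_mul, QuadraticAlgebra.im_mul] <;> ring

theorem Mu_one : Mu a b (1 : KK a b) = 1 := by
  have h1 : (1 : KK a b).re = 1 := rfl
  have h2 : (1 : KK a b).im = 0 := rfl
  rw [Mu, ← M2_one, h1, h2]
  congr 1 <;> ring

def MuHom : KK a b →* Matrix J J F where
  toFun := Mu a b
  map_one' := Mu_one a b
  map_mul' := Mu_mul a b

def Dgl : (KK a b)ˣ →* GL J F := Units.map (MuHom a b)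

theorem Dgl_coe (u : (KK a b)ˣ) : ((Dgl a b u : GL J F) : Matrix J J F) = Mu a b (u : KK a b) := rfl

def Cgl : GL J F :=
  ⟨M2 1 a 0 (-1), M2 1 a 0 (-1), by rw [M2_mul, ← M2_one]; congr 1 <;> ring,
    by rw [M2_mul, ← M2_one]; congr 1 <;> ring⟩

theorem Cgl_coe : ((Cgl a : GL J F) : Matrix J J F) = M2 1 a 0 (-1) := rfl

theorem Cgl_mul_self : Cgl a * Cgl a = (1 : GL J F) := by
  apply Units.ext
  rw [Units.val_mul, Cgl_coe, M2_mul, Units.val_one, ← M2_one]
  congr 1 <;> ring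

theorem Mu_mul_C (u : KK a b) : Mu a b u * M2 1 a 0 (-1) = M2 1 a 0 (-1) * Mu a b (star u) := by
  rw [Mu, Mu, M2_mul, M2_mul]
  congr 1 <;> simp [QuadraticAlgebra.re_star, QuadraticAlgebra.im_star] <;> ring

end Quad

section Fld

variable {F : Type*} [Field F] (a b : F) [hab : Fact (∀ r : F, r ^ 2 ≠ -b + a * r)]

def U : Subgroup (KK a b)ˣ := (Units.map (QuadraticAlgebra.norm : KK a b →* F)).ker

theorem mem_U (u : (KK a b)ˣ) : u ∈ U a b ↔ QuadraticAlgebra.norm (u : KK a b) = 1 := by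
  rw [U, MonoidHom.mem_ker, Units.ext_iff]
  rfl

theorem star_eq_inv (u : (KK a b)ˣ) (hu : u ∈ U a b) :
    star (u : KK a b) = ((u⁻¹ : (KK a b)ˣ) : KK a b) := by
  rw [mem_U] at hu
  have h := QuadraticAlgebra.algebraMap_norm_eq_mul_star (u : KK a b)
  rw [hu, map_one] at h
  exact (Units.inv_eq_of_mul_eq_one_right h.symm).symm

theorem D_mul_C (u : (KK a b)ˣ) (hu : u ∈ U a b) :
    Dgl a b u * Cgl a = Cgl a * Dgl a b u⁻¹ := by
  apply Units.ext
  rw [Units.val_mul, Units.val_mul, Dgl_coe, Dgl_coe, Cgl_coe, Mu_mul_C, star_eq_inv a b u hu]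

def Sgl (u : (KK a b)ˣ) : GL J F := Cgl a * Dgl a b u

theorem DD (u v : (KK a b)ˣ) : Dgl a b u * Dgl a b v = Dgl a b (u * v) := (map_mul _ _ _).symm

theorem SD (u v : (KK a b)ˣ) : Sgl a b u * Dgl a b v = Sgl a b (u * v) := by
  rw [Sgl, Sgl, mul_assoc, DD]

theorem DS (u v : (KK a b)ˣ) (hu : u ∈ U a b) : Dgl a b u * Sgl a b v = Sgl a b (v * u⁻¹) := by
  rw [Sgl, Sgl, ← mul_assoc, D_mul_C a b u hu, mul_assoc, DD, mul_comm]

theorem SS (u v : (KK a b)ˣ) (hu : u ∈ U a b) : Sgl a b u * Sgl a b v = Dgl a b (v * u⁻¹) := by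
  rw [Sgl, Sgl, mul_assoc, ← mul_assoc (Dgl a b u), D_mul_C a b u hu, mul_assoc, ← mul_assoc,
    Cgl_mul_self, one_mul, DD, mul_comm]

theorem Dgl_mem (u : (KK a b)ˣ) (hu : u ∈ U a b) :
    Dgl a b u ∈ Cfsg.isometryGroup F (Cfsg.quadFormMinus 0 F a b) := by
  rw [mem_iso_iff]
  intro v
  rw [mem_U, QuadraticAlgebra.norm_def] at hu
  rw [Dgl_coe, Mu, M2_mulVec, quad_eq, quad_eq]
  simp only [Sum.elim_inr, Matrix.cons_val_zero, Matrix.cons_val_one]
  linear_combination (v (.inr 0) ^ 2 + a * v (.inr 0) * v (.inr 1) + b * v (.inr 1) ^ 2) * hu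

theorem Cgl_mem : Cgl a ∈ Cfsg.isometryGroup F (Cfsg.quadFormMinus 0 F a b) := by
  rw [mem_iso_iff]
  intro v
  rw [Cgl_coe, M2_mulVec, quad_eq, quad_eq]
  simp only [Sum.elim_inr, Matrix.cons_val_zero, Matrix.cons_val_one]
  ring

theorem Sgl_mem (u : (KK a b)ˣ) (hu : u ∈ U a b) :
    Sgl a b u ∈ Cfsg.isometryGroup F (Cfsg.quadFormMinus 0 F a b) :=
  Subgroup.mul_mem _ (Cgl_mem a b) (Dgl_mem a b u hu)

end Fld

section Card

variable {F : Type*} [Field F] [Fintype F] (a b : F) [hab : Fact (∀ r : F, r ^ 2 ≠ -b + a * r)]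

instance instFiniteKK : Finite (KK a b) := Finite.of_equiv _ (QuadraticAlgebra.equivProd (-b) a).symm

theorem card_KK : Nat.card (KK a b) = Fintype.card F ^ 2 := by
  rw [Nat.card_congr (QuadraticAlgebra.equivProd (-b) a), Nat.card_prod, Nat.card_eq_fintype_card,
    pow_two]

theorem algNorm_eq (z : KK a b) : Algebra.norm F z = QuadraticAlgebra.norm z := by
  rw [Algebra.norm_apply, ← QuadraticAlgebra.det_toLinearMap_eq_norm]
  congr 1

theorem norm_units_surjective :
    Function.Surjective (Units.map (QuadraticAlgebra.norm : KK a b →* F)) := by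
  intro n
  obtain ⟨x, hx⟩ := FiniteField.unitsMap_norm_surjective F (KK a b) n
  refine ⟨x, ?_⟩
  apply Units.ext
  have := congrArg Units.val hx
  rw [Units.coe_map] at this ⊢
  rw [← this]
  exact (algNorm_eq a b _).symm

theorem card_U : Nat.card (U a b) = Fintype.card F + 1 := by
  have hq : 2 ≤ Fintype.card F := Fintype.one_lt_card
  have h1 := Subgroup.card_mul_index (U a b)
  have h3 : Nat.card Fˣ = Fintype.card F - 1 := by
    rw [Nat.card_units, Nat.card_eq_fintype_card]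
  have h4 : (U a b).index = Fintype.card F - 1 := by
    rw [U, Subgroup.index_ker, MonoidHom.range_eq_top.mpr (norm_units_surjective a b),
      Nat.card_congr Subgroup.topEquiv.toEquiv, h3]
  rw [h4, Nat.card_units, card_KK] at h1
  obtain ⟨k, hk⟩ : ∃ k, Fintype.card F = k + 1 := ⟨Fintype.card F - 1, by omega⟩
  rw [hk] at h1 ⊢
  simp only [Nat.add_sub_cancel] at h1
  have e : (k + 1) ^ 2 - 1 = (k + 1 + 1) * k := by
    have : (k + 1) ^ 2 = (k + 1 + 1) * k + 1 := by ring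
    rw [this, Nat.add_sub_cancel]
  rw [e] at h1
  exact Nat.eq_of_mul_eq_mul_right (by omega) h1

instance instCyclicU : IsCyclic (U a b) := inferInstance

end Card

section Classify

variable {F : Type*} [Field F] [Fintype F] (a b : F)

theorem a_ne_zero_of_two
    (hab' : ∀ z₁ z₂ : F, z₁ ^ 2 + a * z₁ * z₂ + b * z₂ ^ 2 = 0 → z₁ = 0 ∧ z₂ = 0)
    (h2 : (2 : F) = 0) : a ≠ 0 := by
  intro ha
  haveI : CharP F 2 := CharTwo.of_one_ne_zero_of_two_eq_zero one_ne_zero h2
  obtain ⟨β, hβ⟩ := FiniteField.isSquare_of_char_two (ringChar.eq F 2) b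
  have := (hab' β 1 (by rw [ha, hβ]; linear_combination (β * β) * h2)).2
  exact one_ne_zero this

theorem solve (hab' : ∀ z₁ z₂ : F, z₁ ^ 2 + a * z₁ * z₂ + b * z₂ ^ 2 = 0 → z₁ = 0 ∧ z₂ = 0)
    (s t : F) (h2 : s ^ 2 + a * s * t + b * t ^ 2 = b) (hlin : 2 * s + a * t = a) :
    (s = 0 ∧ t = 1) ∨ (s = a ∧ t = -1) := by
  by_cases h2F : (2 : F) = 0
  · have ha := a_ne_zero_of_two a b hab' h2F
    have ht : t = 1 := by
      have : a * (t - 1) = 0 := by linear_combination hlin - s * h2F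
      rcases mul_eq_zero.mp this with h | h
      · exact absurd h ha
      · exact sub_eq_zero.mp h
    rw [ht] at h2
    have hs : s * (s + a) = 0 := by linear_combination h2
    rcases mul_eq_zero.mp hs with h | h
    · left
      exact ⟨h, ht⟩
    · right
      refine ⟨?_, ?_⟩
      · linear_combination h - a * h2F
      · rw [ht]
        linear_combination h2F
  · have hD : a ^ 2 - 4 * b ≠ 0 := by
      intro hD
      have := (hab' a (-2) (by linear_combination -hD)).2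
      apply h2F
      linear_combination -this
    have h3 : (1 - t) * ((1 + t) * (a ^ 2 - 4 * b)) = 0 := by
      linear_combination 4 * h2 - (2 * s + a + a * t) * hlin
    rcases mul_eq_zero.mp h3 with h | h
    · left
      have ht : t = 1 := by linear_combination -h
      refine ⟨?_, ht⟩
      rw [ht] at hlin
      have : 2 * s = 0 := by linear_combination hlin
      rcases mul_eq_zero.mp this with h' | h'
      · exact absurd h' h2F
      · exact h'
    · rcases mul_eq_zero.mp h with h' | h'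
      · right
        have ht : t = -1 := by linear_combination h'
        refine ⟨?_, ht⟩
        rw [ht] at hlin
        have : 2 * (s - a) = 0 := by linear_combination hlin
        rcases mul_eq_zero.mp this with h'' | h''
        · exact absurd h'' h2F
        · exact sub_eq_zero.mp h''
      · exact absurd h' hD

variable [hab : Fact (∀ r : F, r ^ 2 ≠ -b + a * r)]

theorem iso_cases
    (hab' : ∀ z₁ z₂ : F, z₁ ^ 2 + a * z₁ * z₂ + b * z₂ ^ 2 = 0 → z₁ = 0 ∧ z₂ = 0)
    (g : GL J F) (hg : g ∈ Cfsg.isometryGroup F (Cfsg.quadFormMinus 0 F a b)) :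
    (∃ u ∈ U a b, g = Dgl a b u) ∨ (∃ u ∈ U a b, g = Sgl a b u) := by
  have hg0 := hg
  rw [mem_iso_iff] at hg
  obtain ⟨x, hx⟩ : ∃ x, x = (g : Matrix J J F) (.inr 0) (.inr 0) := ⟨_, rfl⟩
  obtain ⟨z, hz⟩ : ∃ z, z = (g : Matrix J J F) (.inr 0) (.inr 1) := ⟨_, rfl⟩
  obtain ⟨y, hy⟩ : ∃ y, y = (g : Matrix J J F) (.inr 1) (.inr 0) := ⟨_, rfl⟩
  obtain ⟨w, hw⟩ : ∃ w, w = (g : Matrix J J F) (.inr 1) (.inr 1) := ⟨_, rfl⟩
  have hM : (g : Matrix J J F) = M2 x z y w := by
    rw [hx, hz, hy, hw]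
    exact M2_eta _
  have h1 := hg (vec 1 0)
  rw [hM, quad_M2_vec, quad_eq] at h1
  simp only [vec, Sum.elim_inr, Matrix.cons_val_zero, Matrix.cons_val_one] at h1
  have hN : x ^ 2 + a * x * y + b * y ^ 2 = 1 := by linear_combination h1
  have hnorm : QuadraticAlgebra.norm (⟨x, y⟩ : KK a b) = 1 := by
    rw [QuadraticAlgebra.norm_def]
    linear_combination hN
  have hmul : (⟨x, y⟩ : KK a b) * star (⟨x, y⟩ : KK a b) = 1 := by
    rw [← QuadraticAlgebra.algebraMap_norm_eq_mul_star, hnorm, map_one]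
  let u : (KK a b)ˣ := ⟨⟨x, y⟩, star (⟨x, y⟩ : KK a b), hmul, by rw [mul_comm]; exact hmul⟩
  have hu : u ∈ U a b := by
    rw [mem_U]
    exact hnorm
  have hg' : (Dgl a b u)⁻¹ * g ∈ Cfsg.isometryGroup F (Cfsg.quadFormMinus 0 F a b) :=
    Subgroup.mul_mem _ (Subgroup.inv_mem _ (Dgl_mem a b u hu)) hg0
  have hM' : (((Dgl a b u)⁻¹ * g : GL J F) : Matrix J J F) =
      M2 1 ((x + a * y) * z + b * y * w) 0 (x * w - y * z) := by
    rw [Units.val_mul, ← map_inv, Dgl_coe, hM, Mu, M2_mul]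
    have e1 : ((u⁻¹ : (KK a b)ˣ) : KK a b) = star (⟨x, y⟩ : KK a b) := rfl
    have r1 : (star (⟨x, y⟩ : KK a b)).re = x + a * y := by
      simp [QuadraticAlgebra.re_star]
    have r2 : (star (⟨x, y⟩ : KK a b)).im = -y := by
      simp [QuadraticAlgebra.im_star]
    rw [e1, r1, r2]
    congr 1
    · linear_combination hN
    · ring
    · ring
    · ring
  obtain ⟨s, hs⟩ : ∃ s, s = (x + a * y) * z + b * y * w := ⟨_, rfl⟩
  obtain ⟨t, ht⟩ : ∃ t, t = x * w - y * z := ⟨_, rfl⟩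
  rw [← hs, ← ht] at hM'
  rw [mem_iso_iff] at hg'
  have h2 := hg' (vec 0 1)
  have h3 := hg' (vec 1 1)
  rw [hM', quad_M2_vec, quad_eq] at h2 h3
  simp only [vec, Sum.elim_inr, Matrix.cons_val_zero, Matrix.cons_val_one] at h2 h3
  have h2' : s ^ 2 + a * s * t + b * t ^ 2 = b := by linear_combination h2
  have hlin : 2 * s + a * t = a := by linear_combination h3 - h2
  rcases solve a b hab' s t h2' hlin with ⟨hs0, ht1⟩ | ⟨hsa, htm⟩
  · left
    refine ⟨u, hu, ?_⟩
    have : (Dgl a b u)⁻¹ * g = 1 := by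
      apply Units.ext
      rw [hM', hs0, ht1, M2_one]
      rfl
    calc g = Dgl a b u * ((Dgl a b u)⁻¹ * g) := by group
      _ = Dgl a b u := by rw [this, mul_one]
  · right
    refine ⟨u⁻¹, Subgroup.inv_mem _ hu, ?_⟩
    have : (Dgl a b u)⁻¹ * g = Cgl a := by
      apply Units.ext
      rw [hM', hsa, htm, Cgl_coe]
    calc g = Dgl a b u * ((Dgl a b u)⁻¹ * g) := by group
      _ = Dgl a b u * Cgl a := by rw [this]
      _ = Sgl a b u⁻¹ := by rw [D_mul_C a b u hu, Sgl]

theorem Dgl_inj {u v : (KK a b)ˣ} (h : Dgl a b u = Dgl a b v) : u = v := by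
  have := congrArg (fun g : GL J F => (g : Matrix J J F)) h
  simp only [Dgl_coe, Mu] at this
  obtain ⟨h1, -, h3, -⟩ := M2_inj this
  apply Units.ext
  exact QuadraticAlgebra.ext h1 h3

theorem Dgl_ne_Sgl
    (hab' : ∀ z₁ z₂ : F, z₁ ^ 2 + a * z₁ * z₂ + b * z₂ ^ 2 = 0 → z₁ = 0 ∧ z₂ = 0)
    (u v : (KK a b)ˣ) : Dgl a b u ≠ Sgl a b v := by
  intro h
  have h1 : Cgl a = Dgl a b (u * v⁻¹) := by
    rw [← DD, h, Sgl, mul_assoc, DD, mul_inv_cancel, map_one, mul_one]
  have := congrArg (fun g : GL J F => (g : Matrix J J F)) h1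
  simp only [Dgl_coe, Cgl_coe, Mu] at this
  obtain ⟨e1, e2, e3, e4⟩ := M2_inj this
  rw [← e3] at e2 e4
  have ha : a = 0 := by linear_combination e2
  have h2 : (2 : F) = 0 := by linear_combination e1 - e4
  exact a_ne_zero_of_two a b hab' h2 ha

theorem Sgl_inj {u v : (KK a b)ˣ} (h : Sgl a b u = Sgl a b v) : u = v := by
  rw [Sgl, Sgl] at h
  exact Dgl_inj a b (mul_left_cancel h)

end Classify

/-- GO^-_2(q) is dihedral of order 2(q+1). -/
theorem result {F : Type*} [Field F] [Fintype F] {q : ℕ} (hF : Fintype.card F = q) (a b : F) (hab : ∀ z₁ z₂ : F, z₁ ^ 2 + a * z₁ * z₂ + b * z₂ ^ 2 = 0 → z₁ = 0 ∧ z₂ = 0) : Nonempty (Cfsg.isometryGroup F (Cfsg.quadFormMinus 0 F a b) ≃* DihedralGroup (q + 1)) := by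
  classical
  haveI hfact : Fact (∀ r : F, r ^ 2 ≠ -b + a * r) := ⟨fun r h => by
    have := (hab r (-1) (by linear_combination h)).2
    have h1 : (1 : F) = 0 := by linear_combination -this
    exact one_ne_zero h1⟩
  have hn : Nat.card (U a b) = q + 1 := by
    rw [card_U, hF]
  have e : Multiplicative (ZMod (q + 1)) ≃* U a b := by
    rw [← hn]
    exact zmodCyclicMulEquiv inferInstance
  let φ : ZMod (q + 1) → (KK a b)ˣ := fun i => (e (Multiplicative.ofAdd i) : (KK a b)ˣ)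
  have φ_mem : ∀ i, φ i ∈ U a b := fun i => (e (Multiplicative.ofAdd i)).2
  have φ_add : ∀ i j, φ (i + j) = φ i * φ j := fun i j => by
    show ((e (Multiplicative.ofAdd (i + j)) : U a b) : (KK a b)ˣ) = _
    rw [ofAdd_add, map_mul]
    rfl
  have φ_zero : φ 0 = 1 := by
    show ((e (Multiplicative.ofAdd 0) : U a b) : (KK a b)ˣ) = 1
    rw [ofAdd_zero, map_one]
    rfl
  have φ_sub : ∀ i j, φ (j - i) = φ j * (φ i)⁻¹ := fun i j => by
    show ((e (Multiplicative.ofAdd (j - i)) : U a b) : (KK a b)ˣ) = _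
    rw [ofAdd_sub, map_div, div_eq_mul_inv]
    rfl
  have φ_inj : Function.Injective φ := fun i j h => by
    have := e.injective (Subtype.ext h)
    exact Multiplicative.ofAdd.injective this
  have φ_surj : ∀ u ∈ U a b, ∃ i, φ i = u := fun u hu => by
    obtain ⟨x, hx⟩ := e.surjective ⟨u, hu⟩
    exact ⟨Multiplicative.toAdd x, congrArg Subtype.val hx⟩
  let f : DihedralGroup (q + 1) → Cfsg.isometryGroup F (Cfsg.quadFormMinus 0 F a b) := fun x =>
    match x with
    | .r i => ⟨Dgl a b (φ i), Dgl_mem a b _ (φ_mem i)⟩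
    | .sr i => ⟨Sgl a b (φ i), Sgl_mem a b _ (φ_mem i)⟩
  have f_mul : ∀ x y, f (x * y) = f x * f y := by
    intro x y
    rcases x with i | i <;> rcases y with j | j
    · apply Subtype.ext
      show Dgl a b (φ (i + j)) = Dgl a b (φ i) * Dgl a b (φ j)
      rw [DD, φ_add]
    · apply Subtype.ext
      show Sgl a b (φ (j - i)) = Dgl a b (φ i) * Sgl a b (φ j)
      rw [DS a b _ _ (φ_mem i), φ_sub]
    · apply Subtype.ext
      show Sgl a b (φ (i + j)) = Sgl a b (φ i) * Dgl a b (φ j)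
      rw [SD, φ_add]
    · apply Subtype.ext
      show Dgl a b (φ (j - i)) = Sgl a b (φ i) * Sgl a b (φ j)
      rw [SS a b _ _ (φ_mem i), φ_sub]
  let Ψ : DihedralGroup (q + 1) →* Cfsg.isometryGroup F (Cfsg.quadFormMinus 0 F a b) :=
    { toFun := f
      map_one' := by
        apply Subtype.ext
        show Dgl a b (φ 0) = 1
        rw [φ_zero, map_one]
      map_mul' := f_mul }
  have hinj : Function.Injective Ψ := by
    intro x y hxy
    have hxy' : (f x).1 = (f y).1 := congrArg Subtype.val hxy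
    rcases x with i | i <;> rcases y with j | j
    · have : Dgl a b (φ i) = Dgl a b (φ j) := hxy'
      rw [φ_inj (Dgl_inj a b this)]
    · have : Dgl a b (φ i) = Sgl a b (φ j) := hxy'
      exact absurd this (Dgl_ne_Sgl a b hab _ _)
    · have : Sgl a b (φ i) = Dgl a b (φ j) := hxy'
      exact absurd this.symm (Dgl_ne_Sgl a b hab _ _)
    · have : Sgl a b (φ i) = Sgl a b (φ j) := hxy'
      rw [φ_inj (Sgl_inj a b this)]
  have hsurj : Function.Surjective Ψ := by
    intro g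
    rcases iso_cases a b hab g.1 g.2 with ⟨u, hu, hgu⟩ | ⟨u, hu, hgu⟩
    · obtain ⟨i, hi⟩ := φ_surj u hu
      refine ⟨.r i, Subtype.ext ?_⟩
      show Dgl a b (φ i) = g.1
      rw [hi, hgu]
    · obtain ⟨i, hi⟩ := φ_surj u hu
      refine ⟨.sr i, Subtype.ext ?_⟩
      show Sgl a b (φ i) = g.1
      rw [hi, hgu]
  exact ⟨(MulEquiv.ofBijective Ψ ⟨hinj, hsurj⟩).symm⟩

end Cfsg.Agent.S0306
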