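import Cfsg.Statements.S0756
import Mathlib
import Cfsg.Agent.S0755

set_option autoImplicit false
open Cfsg

namespace Cfsg.Agent.S0756

open Cfsg.Agent.S0755

theorem rep_one {F : Type*} [Field F] [Finite F] (h2 : (2 : F) ≠ 0) (a b : F) (ha : a ≠ 0) (hb : b ≠ 0) :
    ∃ x y : F, a * x ^ 2 + b * y ^ 2 = 1 := by
  classical
  have : Fintype F := Fintype.ofFinite _
  have hodd : Fintype.card F % 2 = 1 := by
    apply FiniteField.odd_card_of_char_ne_two
    intro h
    apply h2
    have h1 : CharP F 2 := by
      have := ringChar.charP F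
      rwa [h] at this
    exact CharTwo.two_eq_zero
  have hf : (Polynomial.C a * Polynomial.X ^ 2 + Polynomial.C 0 * Polynomial.X + Polynomial.C 0).degree = 2 :=
    Polynomial.degree_quadratic ha
  have hg : (Polynomial.C b * Polynomial.X ^ 2 + Polynomial.C 0 * Polynomial.X + Polynomial.C (-1)).degree = 2 :=
    Polynomial.degree_quadratic hb
  obtain ⟨x, y, hxy⟩ := FiniteField.exists_root_sum_quadratic hf hg hodd
  simp only [Polynomial.eval_add, Polynomial.eval_mul, Polynomial.eval_C, Polynomial.eval_pow,
    Polynomial.eval_X, zero_mul, add_zero] at hxy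
  exact ⟨x, y, by linear_combination hxy⟩

theorem sq_quot {F : Type*} [Field F] [Finite F] (c α : F) (hc : ¬ IsSquare c) (hα : ¬ IsSquare α) :
    ∃ t : F, t ^ 2 * c = α := by
  classical
  have : Fintype F := Fintype.ofFinite _
  have hc0 : c ≠ 0 := fun h => hc (h ▸ IsSquare.zero)
  have hα0 : α ≠ 0 := fun h => hα (h ▸ IsSquare.zero)
  have h1 : quadraticChar F c = -1 := quadraticChar_neg_one_iff_not_isSquare.mpr hc
  have h2 : quadraticChar F α = -1 := quadraticChar_neg_one_iff_not_isSquare.mpr hα
  have h3 : quadraticChar F (α * c) = 1 := by rw [map_mul, h1, h2]; norm_num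
  obtain ⟨s, hs⟩ := (quadraticChar_one_iff_isSquare (mul_ne_zero hα0 hc0)).mp h3
  refine ⟨s / c, ?_⟩
  field_simp
  linear_combination -hs

variable {F V : Type*} [Field F] [AddCommGroup V] [Module F V]

theorem polar_zero (h2 : (2 : F) ≠ 0) (B : LinearMap.BilinForm F V) (hS : B.IsSymm)
    (R : Submodule F V) (h0 : ∀ w ∈ R, B w w = 0) (x y : V) (hx : x ∈ R) (hy : y ∈ R) :
    B x y = 0 := by
  have := h0 (x + y) (R.add_mem hx hy)
  simp only [map_add, LinearMap.add_apply, h0 x hx, h0 y hy, hS.eq y x] at this
  have h3 : 2 * B x y = 0 := by linear_combination this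
  exact (mul_eq_zero.mp h3).resolve_left h2

theorem main [Finite F] [FiniteDimensional F V] (h2 : (2 : F) ≠ 0) (B : LinearMap.BilinForm F V) (hS : B.IsSymm) (hB : B.Nondegenerate) {n : ℕ} (hn : Module.finrank F V = n + 1) (α : F) (hα : ¬ IsSquare α) : ∃ b : Module.Basis (Fin (n + 1)) F V, (∀ i j, i ≠ j → B (b i) (b j) = 0) ∧ (∀ i, i ≠ Fin.last n → B (b i) (b i) = 1) ∧ (B (b (Fin.last n)) (b (Fin.last n)) = 1 ∨ B (b (Fin.last n)) (b (Fin.last n)) = α) := by
  classical
  have hS' : LinearMap.IsSymm (I := RingHom.id F) B := ⟨fun x y => hS.eq x y⟩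
  have hex : ∃ m, (∃ e : Fin m → V, ON (RingHom.id F) B m e) ∧
      ¬ (∃ e : Fin (m + 1) → V, ON (RingHom.id F) B (m + 1) e) := by
    by_contra hcon
    push Not at hcon
    have hall : ∀ m, ∃ e : Fin m → V, ON (RingHom.id F) B m e := by
      intro m
      induction m with
      | zero => exact ⟨fun i => i.elim0, fun i => i.elim0⟩
      | succ m ih => exact hcon m ih
    obtain ⟨e, h⟩ := hall (Module.finrank F V + 1)
    have := h.bound
    omega
  obtain ⟨m, ⟨e, h⟩, hmax⟩ := hex
  have hne1 : ∀ w ∈ ON.perp (σ := RingHom.id F) B e, B w w ≠ 1 := by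
    intro w hw h1
    exact hmax ⟨_, h.extend hS' w hw h1⟩
  have hperp_symm : ∀ x ∈ ON.perp (σ := RingHom.id F) B e, ∀ i, B x (e i) = 0 := by
    intro x hx i
    rw [hS.eq]; exact hx i
  have hdec : ∀ v : V, v = (v - ∑ i, B (e i) v • e i) + ∑ i, B (e i) v • e i := fun v => by abel
  by_cases hcase : ∀ w ∈ ON.perp (σ := RingHom.id F) B e, B w w = 0
  · have hzero := polar_zero h2 B hS _ hcase
    have hperp0 : ∀ x ∈ ON.perp (σ := RingHom.id F) B e, x = 0 := by
      intro x hx
      apply hB.1
      intro v
      have hd := h.decomp v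
      rw [hdec v, map_add, hzero x _ hx hd, map_sum]
      simp [hperp_symm x hx]
    have hsp : ⊤ ≤ Submodule.span F (Set.range e) := by
      intro v _
      have hd := hperp0 _ (h.decomp v)
      have hv : v = ∑ i, B (e i) v • e i := sub_eq_zero.mp hd
      rw [hv]
      exact Submodule.sum_mem _ (fun j _ => Submodule.smul_mem _ _ (Submodule.subset_span ⟨j, rfl⟩))
    have hm : m = n + 1 := by
      have := Module.finrank_eq_card_basis (Module.Basis.mk h.li hsp)
      rw [hn] at this
      simpa using this.symm
    subst hm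
    refine ⟨Module.Basis.mk h.li hsp, ?_, ?_, ?_⟩
    · intro i j hij
      simp only [Module.Basis.mk_apply]
      rw [h i j, if_neg hij]
    · intro i _
      simp only [Module.Basis.mk_apply]
      rw [h i i, if_pos rfl]
    · left
      simp only [Module.Basis.mk_apply]
      rw [h _ _, if_pos rfl]
  · push Not at hcase
    obtain ⟨u, hu, hc⟩ := hcase
    set c := B u u with hcdef
    have hstep : ∀ w ∈ ON.perp (σ := RingHom.id F) B e, B u w = 0 → B w w = 0 := by
      intro w hw huw
      by_contra hb
      obtain ⟨x, y, hxy⟩ := rep_one h2 c (B w w) hc hb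
      apply hne1 (x • u + y • w) (Submodule.add_mem _ (Submodule.smul_mem _ _ hu) (Submodule.smul_mem _ _ hw))
      simp only [map_add, map_smul, LinearMap.add_apply, LinearMap.smul_apply, smul_eq_mul, huw,
        hS.eq w u]
      rw [← hcdef]
      linear_combination hxy
    let R' : Submodule F V := ON.perp (σ := RingHom.id F) B e ⊓ LinearMap.ker (B u)
    have hR' : ∀ w ∈ R', B w w = 0 := fun w hw => hstep w hw.1 (LinearMap.mem_ker.mp hw.2)
    have hzero := polar_zero h2 B hS R' hR'
    have hproj : ∀ r ∈ ON.perp (σ := RingHom.id F) B e, r - (B u r / c) • u ∈ R' := by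
      intro r hr
      refine ⟨Submodule.sub_mem _ hr (Submodule.smul_mem _ _ hu), ?_⟩
      show r - (B u r / c) • u ∈ LinearMap.ker (B u)
      rw [LinearMap.mem_ker, map_sub, map_smul, smul_eq_mul, ← hcdef]
      field_simp
      ring
    have hR'0 : ∀ w ∈ R', w = 0 := by
      intro w hw
      apply hB.1
      intro v
      have hd := h.decomp v
      have hp := hproj _ hd
      set r := v - ∑ i, B (e i) v • e i with hr
      have hv : v = (r - (B u r / c) • u) + (B u r / c) • u + ∑ i, B (e i) v • e i := by
        rw [hr]; abel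
      rw [hv, map_add, map_add, hzero w _ hw hp, map_sum, map_smul]
      have : B w u = 0 := by rw [hS.eq]; exact LinearMap.mem_ker.mp hw.2
      simp [hperp_symm w hw.1, this]
    have hRu : ∀ r ∈ ON.perp (σ := RingHom.id F) B e, r = (B u r / c) • u := by
      intro r hr
      exact sub_eq_zero.mp (hR'0 _ (hproj r hr))
    -- scaling
    have hscale : ∃ t : F, t ≠ 0 ∧ (t ^ 2 * c = 1 ∨ t ^ 2 * c = α) := by
      by_cases hsq : IsSquare c
      · obtain ⟨s, hs⟩ := hsq
        have hs0 : s ≠ 0 := by
          rintro rfl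
          exact hc (by rw [hs]; ring)
        refine ⟨s⁻¹, inv_ne_zero hs0, Or.inl ?_⟩
        rw [hs]; field_simp
      · obtain ⟨t, ht⟩ := sq_quot c α hsq hα
        refine ⟨t, ?_, Or.inr ht⟩
        rintro rfl
        apply hα
        rw [← ht]
        exact ⟨0, by ring⟩
    obtain ⟨t, ht0, ht⟩ := hscale
    have hu' : t • u ∈ ON.perp (σ := RingHom.id F) B e := Submodule.smul_mem _ _ hu
    have hnorm : B (t • u) (t • u) = t ^ 2 * c := by
      simp only [map_smul, LinearMap.smul_apply, smul_eq_mul]
      rw [← hcdef]; ring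
    have hnorm0 : B (t • u) (t • u) ≠ 0 := by
      rw [hnorm]
      exact mul_ne_zero (pow_ne_zero 2 ht0) hc
    let e' : Fin (m + 1) → V := Fin.snoc (α := fun _ => V) e (t • u)
    have he'c : ∀ i : Fin m, e' i.castSucc = e i := fun i => by simp [e']
    have he'l : e' (Fin.last m) = t • u := by simp [e']
    have horth : ∀ i j, i ≠ j → B (e' i) (e' j) = 0 := by
      intro i j
      refine Fin.lastCases ?_ (fun i => ?_) i <;> refine Fin.lastCases ?_ (fun j => ?_) j
      · intro hij; exact absurd rfl hij
      · intro _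
        rw [he'c, he'l]
        exact hperp_symm _ hu' j
      · intro _
        rw [he'c, he'l]
        exact hu' i
      · intro hij
        rw [he'c, he'c, h i j, if_neg (fun hh => hij (by rw [hh]))]
    have hself : ∀ i, B (e' i) (e' i) ≠ 0 := by
      intro i
      refine Fin.lastCases ?_ (fun i => ?_) i
      · rw [he'l]; exact hnorm0
      · rw [he'c, h i i, if_pos rfl]; exact one_ne_zero
    have hli : LinearIndependent F e' :=
      LinearMap.BilinForm.linearIndependent_of_iIsOrtho (B := B) (fun i j hij => horth i j hij) hself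
    have hsp : ⊤ ≤ Submodule.span F (Set.range e') := by
      intro v _
      have hd := h.decomp v
      have hr := hRu _ hd
      rw [hdec v, hr]
      refine Submodule.add_mem _ ?_ ?_
      · have : u = t⁻¹ • e' (Fin.last m) := by rw [he'l, smul_smul, inv_mul_cancel₀ ht0, one_smul]
        rw [this]
        exact Submodule.smul_mem _ _ (Submodule.smul_mem _ _ (Submodule.subset_span ⟨_, rfl⟩))
      · refine Submodule.sum_mem _ (fun j _ => Submodule.smul_mem _ _ ?_)
        rw [← he'c j]
        exact Submodule.subset_span ⟨_, rfl⟩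
    have hm : m = n := by
      have := Module.finrank_eq_card_basis (Module.Basis.mk hli hsp)
      rw [hn] at this
      simpa using this.symm
    subst hm
    refine ⟨Module.Basis.mk hli hsp, ?_, ?_, ?_⟩
    · intro i j hij
      simp only [Module.Basis.mk_apply]
      exact horth i j hij
    · intro i hi
      simp only [Module.Basis.mk_apply]
      revert hi
      refine Fin.lastCases ?_ (fun i => ?_) i
      · intro hi; exact absurd rfl hi
      · intro _
        rw [he'c, h i i, if_pos rfl]
    · simp only [Module.Basis.mk_apply]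
      rw [he'l, hnorm]
      exact ht


/-- Classification of symmetric bilinear forms over finite fields of odd characteristic: if B is non-degenerate symmetric on V of dimension n + 1 and α is a fixed non-square of F, there is an orthogonal basis b_0, ..., b_n with B(b_i, b_i) = 1 for i < n and B(b_n, b_n) ∈ {1, α}. -/
theorem result {F V : Type*} [Field F] [Finite F] [AddCommGroup V] [Module F V] [FiniteDimensional F V] (h2 : (2 : F) ≠ 0) (B : LinearMap.BilinForm F V) (hS : B.IsSymm) (hB : B.Nondegenerate) {n : ℕ} (hn : Module.finrank F V = n + 1) (α : F) (hα : ¬ IsSquare α) : ∃ b : Module.Basis (Fin (n + 1)) F V, (∀ i j, i ≠ j → B (b i) (b j) = 0) ∧ (∀ i, i ≠ Fin.last n → B (b i) (b i) = 1) ∧ (B (b (Fin.last n)) (b (Fin.last n)) = 1 ∨ B (b (Fin.last n)) (b (Fin.last n)) = α) := by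
  exact main h2 B hS hB hn α hα

end Cfsg.Agent.S0756
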