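import Cfsg.Statements.S0838
import Cfsg.Agent.S0756
import Mathlib

set_option autoImplicit false
open Cfsg

namespace Cfsg.Agent.S0838

open QuadraticMap

section
variable {F : Type*} [Field F] {m : ℕ}

/-- `Q` has an orthogonal basis with polar values `1, ..., 1, ε`. -/
def HasType (Q : QuadraticForm F (Fin (m + 1) → F)) (ε : F) : Prop :=
  ∃ b : Module.Basis (Fin (m + 1)) F (Fin (m + 1) → F),
    (∀ i j, i ≠ j → polar Q (b i) (b j) = 0) ∧
    (∀ i, i ≠ Fin.last m → polar Q (b i) (b i) = 1) ∧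
    polar Q (b (Fin.last m)) (b (Fin.last m)) = ε

theorem Q_sum_orth (Q : QuadraticForm F (Fin (m + 1) → F)) {τ : Type*} (s : Finset τ)
    (z : τ → (Fin (m + 1) → F)) (horth : ∀ a b, a ≠ b → polar Q (z a) (z b) = 0) :
    Q (∑ a ∈ s, z a) = ∑ a ∈ s, Q (z a) := by
  classical
  induction s using Finset.induction_on with
  | empty => simp
  | insert a s ha ih =>
    rw [Finset.sum_insert ha, Finset.sum_insert ha]
    have hp : polar Q (z a) (∑ b ∈ s, z b) = 0 := by
      show polarBilin Q (z a) (∑ b ∈ s, z b) = 0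
      rw [map_sum]
      apply Finset.sum_eq_zero
      intro b hb
      exact horth a b (fun h => ha (h ▸ hb))
    have : Q (z a + ∑ b ∈ s, z b) = Q (z a) + Q (∑ b ∈ s, z b) + polar Q (z a) (∑ b ∈ s, z b) := by
      unfold polar; ring
    rw [this, hp, add_zero, ih]

theorem Q_repr (Q : QuadraticForm F (Fin (m + 1) → F))
    (b : Module.Basis (Fin (m + 1)) F (Fin (m + 1) → F))
    (horth : ∀ i j, i ≠ j → polar Q (b i) (b j) = 0) (v : Fin (m + 1) → F) :
    2 * Q v = ∑ i, b.repr v i * b.repr v i * polar Q (b i) (b i) := by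
  conv_lhs => rw [← b.sum_repr v]
  rw [Q_sum_orth Q Finset.univ (fun i => b.repr v i • b i) (by
    intro i j hij
    rw [polar_smul_left, polar_smul_right, horth i j hij, smul_zero, smul_zero]),
    Finset.mul_sum]
  refine Finset.sum_congr rfl (fun i _ => ?_)
  rw [QuadraticMap.map_smul, polar_self, smul_eq_mul, nsmul_eq_mul]
  push_cast
  ring

theorem same_type (h2 : (2 : F) ≠ 0) (Q₁ Q₂ : QuadraticForm F (Fin (m + 1) → F)) (ε : F)
    (h₁ : HasType Q₁ ε) (h₂ : HasType Q₂ ε) :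
    ∃ g : (Fin (m + 1) → F) ≃ₗ[F] (Fin (m + 1) → F), ∀ v, Q₂ (g v) = Q₁ v := by
  obtain ⟨b₁, ho₁, hd₁, hl₁⟩ := h₁
  obtain ⟨b₂, ho₂, hd₂, hl₂⟩ := h₂
  refine ⟨b₁.equiv b₂ (Equiv.refl _), fun v => ?_⟩
  apply mul_left_cancel₀ h2
  rw [Q_repr Q₂ b₂ ho₂, Q_repr Q₁ b₁ ho₁]
  refine Finset.sum_congr rfl (fun i _ => ?_)
  have hrepr : b₂.repr ((b₁.equiv b₂ (Equiv.refl _)) v) i = b₁.repr v i := by
    have : (b₁.equiv b₂ (Equiv.refl _)) v =
        ∑ j, b₁.repr v j • b₂ j := by
      conv_lhs => rw [← b₁.sum_repr v]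
      rw [map_sum]
      refine Finset.sum_congr rfl (fun j _ => ?_)
      rw [map_smul, Module.Basis.equiv_apply, Equiv.refl_apply]
    rw [this, Module.Basis.repr_sum_self]
  rw [hrepr]
  by_cases hi : i = Fin.last m
  · subst hi; rw [hl₁, hl₂]
  · rw [hd₁ i hi, hd₂ i hi]

end

section fin
variable {F : Type*} [Field F] [Fintype F] {m : ℕ}

theorem has_type (h2 : (2 : F) ≠ 0) (Q : QuadraticForm F (Fin (m + 1) → F))
    (hQ : (polarBilin Q).Nondegenerate) (α : F) (hα : ¬ IsSquare α) :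
    HasType Q 1 ∨ HasType Q α := by
  have hS : LinearMap.BilinForm.IsSymm (polarBilin Q) :=
    LinearMap.BilinForm.isSymm_def.mpr (fun x y => polar_comm Q x y)
  obtain ⟨b, h1, h2', h3⟩ := Cfsg.Agent.S0756.result h2 (polarBilin Q) hS hQ
    (by rw [Module.finrank_fin_fun]) α hα
  rcases h3 with h3 | h3
  · exact Or.inl ⟨b, h1, h2', h3⟩
  · exact Or.inr ⟨b, h1, h2', h3⟩

omit [Fintype F] in
theorem smul_nondeg (Q : QuadraticForm F (Fin (m + 1) → F))
    (hQ : (polarBilin Q).Nondegenerate) (α : F) (hα : α ≠ 0) :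
    (polarBilin (α • Q)).Nondegenerate := by
  have hp : ∀ x y, polarBilin (α • Q) x y = α * polarBilin Q x y := by
    intro x y
    simp only [polarBilin_apply_apply]
    show polar (α • ⇑Q) x y = α * polar Q x y
    rw [polar_smul, smul_eq_mul]
  constructor
  · intro x hx
    apply hQ.1 x
    intro y
    have := hx y
    rw [hp] at this
    exact (mul_eq_zero.mp this).resolve_left hα
  · intro y hy
    apply hQ.2 y
    intro x
    have := hy x
    rw [hp] at this
    exact (mul_eq_zero.mp this).resolve_left hα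

omit [Fintype F] in
/-- A form is not isometric to its multiple by a non-square in odd dimension. -/
theorem not_self_similar (Q : QuadraticForm F (Fin (m + 1) → F))
    (hQ : (polarBilin Q).Nondegenerate) (hm : Even m) (α : F) (hα : ¬ IsSquare α)
    (g : (Fin (m + 1) → F) ≃ₗ[F] (Fin (m + 1) → F)) (hg : ∀ v, α * Q (g v) = Q v) : False := by
  classical
  have hα0 : α ≠ 0 := by
    rintro rfl
    exact hα ⟨0, by simp⟩
  set B : LinearMap.BilinForm F (Fin (m + 1) → F) := polarBilin Q with hB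
  have hcomp : α • (LinearMap.BilinForm.comp B g.toLinearMap g.toLinearMap) = B := by
    refine LinearMap.ext₂ (fun x y => ?_)
    simp only [LinearMap.smul_apply, LinearMap.BilinForm.comp_apply, LinearEquiv.coe_coe,
      smul_eq_mul, hB, polarBilin_apply_apply]
    unfold polar
    rw [← map_add, ← hg (x + y), ← hg x, ← hg y]
    ring
  have hmat := congrArg LinearMap.BilinForm.toMatrix' hcomp
  rw [map_smul, LinearMap.BilinForm.toMatrix'_comp] at hmat
  have hdet := congrArg Matrix.det hmat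
  rw [Matrix.det_smul, Matrix.det_mul, Matrix.det_mul, Matrix.det_transpose, Fintype.card_fin]
    at hdet
  have hG : (LinearMap.BilinForm.toMatrix' B).det ≠ 0 := by
    rw [← Matrix.nondegenerate_iff_det_ne_zero, LinearMap.BilinForm.nondegenerate_toMatrix'_iff]
    exact hQ
  set d := (LinearMap.toMatrix' g.toLinearMap).det with hd
  have h1 : α ^ (m + 1) * (d * d) = 1 := by
    have : (α ^ (m + 1) * (d * d)) * (LinearMap.BilinForm.toMatrix' B).det =
        1 * (LinearMap.BilinForm.toMatrix' B).det := by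
      linear_combination hdet
    exact mul_right_cancel₀ hG this
  obtain ⟨k, hk⟩ := hm
  have hd0 : d ≠ 0 := by
    rintro h0
    rw [h0] at h1
    simp at h1
  apply hα
  refine ⟨(α ^ k * d)⁻¹, ?_⟩
  have hk0 : α ^ k ≠ 0 := pow_ne_zero _ hα0
  have : α * ((α ^ k * d) * (α ^ k * d)) = 1 := by
    rw [← h1, hk]; ring
  field_simp
  linear_combination this

end fin

/-- Over a finite field with 2 ≠ 0 and n odd: two quadratic forms Q₁, Q₂ on F^n with non-degenerate polar forms are similar — there are an invertible linear map g and a scalar c ≠ 0 with Q₂ (g v) = c · Q₁ v for all v. -/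
theorem result {F : Type*} [Field F] [Fintype F] (h2 : (2 : F) ≠ 0) {n : ℕ} (hn : Odd n) (Q₁ Q₂ : QuadraticForm F (Fin n → F)) (h₁ : (QuadraticMap.polarBilin Q₁).Nondegenerate) (h₂ : (QuadraticMap.polarBilin Q₂).Nondegenerate) : ∃ (g : (Fin n → F) ≃ₗ[F] (Fin n → F)) (c : F), c ≠ 0 ∧ ∀ v, Q₂ (g v) = c * Q₁ v := by
  obtain ⟨k, rfl⟩ := hn
  have hchar : ringChar F ≠ 2 := by
    intro h
    apply h2
    have := ringChar.Nat.cast_ringChar (R := F)
    rw [h] at this
    exact_mod_cast this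
  obtain ⟨α, hα⟩ := FiniteField.exists_nonsquare hchar
  have hα0 : α ≠ 0 := by
    rintro rfl
    exact hα ⟨0, by simp⟩
  have hm : Even (2 * k) := ⟨k, by ring⟩
  have t1 := has_type h2 Q₁ h₁ α hα
  have t2 := has_type h2 Q₂ h₂ α hα
  have t1' := has_type h2 (α • Q₁) (smul_nondeg Q₁ h₁ α hα0) α hα
  -- same type: c = 1
  have case_same : ∀ ε, HasType Q₁ ε → HasType Q₂ ε →
      ∃ (g : (Fin (2 * k + 1) → F) ≃ₗ[F] (Fin (2 * k + 1) → F)) (c : F),
        c ≠ 0 ∧ ∀ v, Q₂ (g v) = c * Q₁ v := by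
    intro ε h h'
    obtain ⟨g, hg⟩ := same_type h2 Q₁ Q₂ ε h h'
    exact ⟨g, 1, one_ne_zero, fun v => by rw [hg, one_mul]⟩
  have case_scaled : ∀ ε, HasType (α • Q₁) ε → HasType Q₂ ε →
      ∃ (g : (Fin (2 * k + 1) → F) ≃ₗ[F] (Fin (2 * k + 1) → F)) (c : F),
        c ≠ 0 ∧ ∀ v, Q₂ (g v) = c * Q₁ v := by
    intro ε h h'
    obtain ⟨g, hg⟩ := same_type h2 (α • Q₁) Q₂ ε h h'
    exact ⟨g, α, hα0, fun v => by rw [hg]; rfl⟩
  have case_bad : ∀ ε, HasType Q₁ ε → HasType (α • Q₁) ε → False := by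
    intro ε h h'
    obtain ⟨g, hg⟩ := same_type h2 Q₁ (α • Q₁) ε h h'
    exact not_self_similar Q₁ h₁ hm α hα g (fun v => hg v)
  rcases t1 with a | a <;> rcases t2 with b | b
  · exact case_same _ a b
  · rcases t1' with c | c
    · exact (case_bad _ a c).elim
    · exact case_scaled _ c b
  · rcases t1' with c | c
    · exact case_scaled _ c b
    · exact (case_bad _ a c).elim
  · exact case_same _ a b

end Cfsg.Agent.S0838
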