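import Cfsg.Statements.S0301
import Cfsg.Agent.S0286
import Cfsg.Agent.S0292
import Cfsg.Agent.S0245
import Cfsg.Agent.S0246
import Cfsg.Agent.S0765
import Cfsg.Agent.S0767
import Cfsg.Agent.Lib.Lead.PSp4Orth
import Cfsg.Agent.Lib.Lead.CenterQuot
import Cfsg.Agent.Lib.helper6.Symp

set_option autoImplicit false
open Cfsg

namespace Cfsg.Agent.S0301

open Cfsg.Agent.Lib.Lead Cfsg.Agent.Lib.Helper16 Cfsg.Agent.Lib.helper6 Matrix

section main

variable {F : Type*} [Field F]

/-- the transvection as a group element -/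
def tv (v : Fin 2 ⊕ Fin 2 → F) (c : F) : ↥(Matrix.symplecticGroup (Fin 2) F) :=
  ⟨Cfsg.sympTransvection 2 v c, sympTransvection_mem 2 v c⟩

theorem tv_pow_four (h4 : (4 : F) ≠ 0) (v : Fin 2 ⊕ Fin 2 → F) (c : F) :
    tv v c = (tv v (c / 4)) ^ 4 := by
  apply Subtype.ext
  rw [SubmonoidClass.coe_pow]
  change Cfsg.sympTransvection 2 v c = (Cfsg.sympTransvection 2 v (c / 4)) ^ 4
  have hadd := (Cfsg.Agent.S0767.result (F := F) 2 v).1
  rw [pow_succ, pow_succ, pow_succ, pow_one, hadd, hadd, hadd]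
  congr 1
  field_simp
  ring

theorem trace_tv (v : Fin 2 ⊕ Fin 2 → F) (c : F) :
    Matrix.trace (Cfsg.sympTransvection 2 v c) = 4 := by
  unfold Cfsg.sympTransvection
  rw [Matrix.trace_add, Matrix.trace_one, Matrix.trace_smul, Matrix.trace_vecMulVec]
  have := sympForm_self 2 v
  unfold Cfsg.sympForm at this
  rw [this, smul_zero, add_zero]
  simp

/-- the centre of `PSp₄(F)` is trivial in odd characteristic -/
theorem center_psp4 (h2 : (2 : F) ≠ 0) : Subgroup.center (Cfsg.PSp 2 F) = ⊥ := by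
  rw [eq_bot_iff]
  intro z hz
  rw [Subgroup.mem_bot]
  induction z using QuotientGroup.induction_on with
  | H g =>
    rw [QuotientGroup.eq_one_iff]
    have hcomm : ∀ x : ↥(Matrix.symplecticGroup (Fin 2) F),
        (x * g)⁻¹ * (g * x) ∈ Subgroup.center ↥(Matrix.symplecticGroup (Fin 2) F) := by
      intro x
      have := Subgroup.mem_center_iff.mp hz (QuotientGroup.mk x)
      rw [← QuotientGroup.mk_mul, ← QuotientGroup.mk_mul, QuotientGroup.eq] at this
      exact this
    have h4 : (4 : F) ≠ 0 := by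
      have : (4 : F) = 2 * 2 := by norm_num
      rw [this]; exact mul_ne_zero h2 h2
    have htv : ∀ (v : Fin 2 ⊕ Fin 2 → F) (c : F), g * tv v c = tv v c * g := by
      intro v c
      rcases Cfsg.Agent.S0246.center_cases (by norm_num) _ (hcomm (tv v c)) with h | h
      · have : g * tv v c = (tv v c * g) * ((tv v c * g)⁻¹ * (g * tv v c)) := by
          rw [mul_inv_cancel_left]
        rw [this, h, mul_one]
      · exfalso
        have e1 : g * tv v c = (tv v c * g) * Cfsg.Agent.S0246.negOne F 2 := by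
          rw [← h, mul_inv_cancel_left]
        have e2 : (g : Matrix (Fin 2 ⊕ Fin 2) (Fin 2 ⊕ Fin 2) F) * Cfsg.sympTransvection 2 v c =
            -(Cfsg.sympTransvection 2 v c * (g : Matrix (Fin 2 ⊕ Fin 2) (Fin 2 ⊕ Fin 2) F)) := by
          have := congrArg Subtype.val e1
          rw [Submonoid.coe_mul, Submonoid.coe_mul, Submonoid.coe_mul, Cfsg.Agent.S0246.negOne_coe,
            Matrix.mul_neg, Matrix.mul_one] at this
          exact this
        have e3 : ((g⁻¹ : ↥(Matrix.symplecticGroup (Fin 2) F)) :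
            Matrix (Fin 2 ⊕ Fin 2) (Fin 2 ⊕ Fin 2) F) *
            (g : Matrix (Fin 2 ⊕ Fin 2) (Fin 2 ⊕ Fin 2) F) = 1 := by
          rw [← Submonoid.coe_mul, inv_mul_cancel]; rfl
        have e4 : (g : Matrix (Fin 2 ⊕ Fin 2) (Fin 2 ⊕ Fin 2) F) *
            ((g⁻¹ : ↥(Matrix.symplecticGroup (Fin 2) F)) :
            Matrix (Fin 2 ⊕ Fin 2) (Fin 2 ⊕ Fin 2) F) = 1 := by
          rw [← Submonoid.coe_mul, mul_inv_cancel]; rfl
        have t1 : Matrix.trace ((g : Matrix (Fin 2 ⊕ Fin 2) (Fin 2 ⊕ Fin 2) F) *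
            Cfsg.sympTransvection 2 v c * ((g⁻¹ : ↥(Matrix.symplecticGroup (Fin 2) F)) :
            Matrix (Fin 2 ⊕ Fin 2) (Fin 2 ⊕ Fin 2) F)) = 4 := by
          rw [Matrix.trace_mul_comm, ← Matrix.mul_assoc, e3, Matrix.one_mul, trace_tv]
        have t2 : Matrix.trace ((g : Matrix (Fin 2 ⊕ Fin 2) (Fin 2 ⊕ Fin 2) F) *
            Cfsg.sympTransvection 2 v c * ((g⁻¹ : ↥(Matrix.symplecticGroup (Fin 2) F)) :
            Matrix (Fin 2 ⊕ Fin 2) (Fin 2 ⊕ Fin 2) F)) = -4 := by
          rw [e2, Matrix.neg_mul, Matrix.trace_neg, Matrix.mul_assoc, e4, Matrix.mul_one, trace_tv]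
        rw [t1] at t2
        have : (4 : F) * 2 = 0 := by linear_combination t2
        rcases mul_eq_zero.mp this with h | h
        · exact h4 h
        · exact h2 h
    -- `g` centralises the closure of the transvections
    have hle : Subgroup.closure {A : Matrix.symplecticGroup (Fin 2) F |
        ∃ (w : Fin 2 ⊕ Fin 2 → F) (c : F),
          (A : Matrix (Fin 2 ⊕ Fin 2) (Fin 2 ⊕ Fin 2) F) = Cfsg.sympTransvection 2 w c} ≤
        Subgroup.centralizer {g} := by
      rw [Subgroup.closure_le]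
      rintro A ⟨w, c, hA⟩
      have hA' : A = tv w c := Subtype.ext hA
      rw [SetLike.mem_coe, Subgroup.mem_centralizer_iff]
      intro h hh
      rw [Set.mem_singleton_iff] at hh
      rw [hh, hA']
      exact htv w c
    rw [Cfsg.Agent.S0765.result 2] at hle
    rw [Subgroup.mem_center_iff]
    intro y
    have := Subgroup.mem_centralizer_iff.mp (hle (Subgroup.mem_top y)) g (Set.mem_singleton g)
    exact this.symm

variable [Fintype F]

theorem index_omega5 (h2 : (2 : F) ≠ 0) :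
    (Cfsg.Omega F (Cfsg.quadFormOdd 2 F)).index = 4 := by
  have hcard : Fintype.card (Unit ⊕ (Fin 2 ⊕ Fin 2)) = 5 := by
    simp only [Fintype.card_sum, Fintype.card_fin, Fintype.card_unit]
  have := RI.index_omega_general h2 (by rw [hcard]; omega) (qfOdd 2 F) (S0292.nondeg_odd h2 2)
  rw [qfOdd_coe] at this
  exact this

theorem range_le (h2 : (2 : F) ≠ 0) :
    (PO5.rho (F := F)).range ≤ Cfsg.Omega F (Cfsg.quadFormOdd 2 F) := by
  have hidx := index_omega5 h2
  have h4 : (4 : F) ≠ 0 := by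
    have : (4 : F) = 2 * 2 := by norm_num
    rw [this]; exact mul_ne_zero h2 h2
  have hle : Subgroup.closure {A : Matrix.symplecticGroup (Fin 2) F |
      ∃ (w : Fin 2 ⊕ Fin 2 → F) (c : F),
        (A : Matrix (Fin 2 ⊕ Fin 2) (Fin 2 ⊕ Fin 2) F) = Cfsg.sympTransvection 2 w c} ≤
      (Cfsg.Omega F (Cfsg.quadFormOdd 2 F)).comap PO5.rho := by
    rw [Subgroup.closure_le]
    rintro A ⟨w, c, hA⟩
    have hA' : A = tv w c := Subtype.ext hA
    rw [SetLike.mem_coe, Subgroup.mem_comap, hA', tv_pow_four h4, map_pow, ← hidx]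
    exact Subgroup.pow_index_mem _ _
  rw [Cfsg.Agent.S0765.result 2] at hle
  rintro _ ⟨A, rfl⟩
  exact hle (Subgroup.mem_top A)

theorem ker_subset (h2 : (2 : F) ≠ 0) :
    ((PO5.rho (F := F)).ker : Set ↥(Matrix.symplecticGroup (Fin 2) F)) ⊆
      {1, Cfsg.Agent.S0246.negOne F 2} := by
  intro A hA
  rw [SetLike.mem_coe, MonoidHom.mem_ker, PO5.rho_eq_one_iff] at hA
  obtain ⟨a, ha, hA⟩ := PO5.ker_scalar h2 A hA
  rcases sq_eq_one_iff.mp ha with h | h
  · left
    apply Subtype.ext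
    rw [← hA, h]; simp
  · right
    rw [Set.mem_singleton_iff]
    apply Subtype.ext
    rw [← hA, h, Cfsg.Agent.S0246.negOne_coe, Matrix.scalar_apply, ← Matrix.smul_one_eq_diagonal,
      neg_one_smul]

theorem card_ker_le (h2 : (2 : F) ≠ 0) : Nat.card ↥(PO5.rho (F := F)).ker ≤ 2 := by
  classical
  have h1 : Nat.card ↥(PO5.rho (F := F)).ker =
      ((PO5.rho (F := F)).ker : Set ↥(Matrix.symplecticGroup (Fin 2) F)).ncard := rfl
  rw [h1]
  refine le_trans (Set.ncard_le_ncard (ker_subset h2) (Set.toFinite _)) ?_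
  refine le_trans (Set.ncard_insert_le _ _) ?_
  rw [Set.ncard_singleton]

theorem card_eq :
    Nat.card ↥(Matrix.symplecticGroup (Fin 2) F) =
      Nat.card ↥(PO5.rho (F := F)).range * Nat.card ↥(PO5.rho (F := F)).ker := by
  have h1 := Subgroup.card_eq_card_quotient_mul_card_subgroup (PO5.rho (F := F)).ker
  have h2 : Nat.card (↥(Matrix.symplecticGroup (Fin 2) F) ⧸ (PO5.rho (F := F)).ker) =
      Nat.card ↥(PO5.rho (F := F)).range :=
    Nat.card_congr (QuotientGroup.quotientKerEquivRange (PO5.rho (F := F))).toEquiv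
  rw [h1, h2]

theorem range_eq (hodd : Odd (Fintype.card F)) :
    (PO5.rho (F := F)).range = Cfsg.Omega F (Cfsg.quadFormOdd 2 F) := by
  have h2 : (2 : F) ≠ 0 := S0292.two_ne_zero_of_odd rfl hodd
  have hGO := Cfsg.Agent.S0286.result (F := F) rfl hodd 2
  have hSp := Cfsg.Agent.S0245.result (F := F) rfl 2
  have h1 := Subgroup.card_mul_index (Cfsg.Omega F (Cfsg.quadFormOdd 2 F))
  rw [index_omega5 h2, hGO] at h1
  have hprod := card_eq (F := F)
  have hk := card_ker_le (F := F) h2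
  apply Subgroup.eq_of_le_of_card_ge (range_le h2)
  have h3 : Nat.card ↥(Matrix.symplecticGroup (Fin 2) F) ≤
      Nat.card ↥(PO5.rho (F := F)).range * 2 := by
    rw [hprod]; exact Nat.mul_le_mul_left _ hk
  rw [hSp] at h3
  rw [mul_assoc] at h1
  omega

end main

/-- PΩ_5(q) is isomorphic to PSp_4(q) for q odd. -/
theorem result {F : Type*} [Field F] [Fintype F] (hodd : Odd (Fintype.card F)) : Nonempty (Cfsg.POmega F (Cfsg.quadFormOdd 2 F) ≃* Cfsg.PSp 2 F) := by
  have h2 : (2 : F) ≠ 0 := S0292.two_ne_zero_of_odd rfl hodd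
  set Z := Subgroup.center ↥(Matrix.symplecticGroup (Fin 2) F) with hZ
  let φ : ↥(Matrix.symplecticGroup (Fin 2) F) →* ↥(Cfsg.Omega F (Cfsg.quadFormOdd 2 F)) :=
    (PO5.rho (F := F)).codRestrict _ (fun p => range_le h2 ⟨p, rfl⟩)
  have hφ : Function.Surjective φ := by
    rintro ⟨z, hz⟩
    rw [← range_eq hodd] at hz
    obtain ⟨p, hp⟩ := hz
    exact ⟨p, Subtype.ext hp⟩
  refine CQ.pquot_equiv φ hφ (QuotientGroup.mk' Z) (QuotientGroup.mk'_surjective Z) ?_ ?_
    (center_psp4 h2)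
  · intro p hp
    rw [QuotientGroup.ker_mk']
    have h1 : p ∈ (PO5.rho (F := F)).ker := by
      have := MonoidHom.mem_ker.mp hp
      exact MonoidHom.mem_ker.mpr (congrArg Subtype.val this)
    rcases ker_subset h2 h1 with h | h
    · rw [h]; exact one_mem _
    · rw [Set.mem_singleton_iff] at h
      rw [h]; exact Cfsg.Agent.S0246.negOne_mem_center
  · rw [QuotientGroup.ker_mk']

end Cfsg.Agent.S0301
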