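import Cfsg.Statements.S2724
import Cfsg.Agent.Lib.Lead.OrthAutPlus
import Cfsg.Agent.S0790
-- import your own Cfsg.Agent.* helpers here

set_option autoImplicit false
open Cfsg

namespace Cfsg.Agent.S2724

/-- Let T = PΩ⁺_{2m}(F) with m ≥ 4 and |F| = q odd. The image G̃ of the conformal orthogonal group in Aut(T), taken modulo the inner automorphism group T, is elementary abelian of order 4 when m is odd and q ≡ 3 (mod 4), and dihedral of order 8 otherwise. -/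
theorem result {F : Type*} [Field F] [Fintype F] (hodd : Odd (Fintype.card F)) {m : ℕ} (hm : 4 ≤ m) :
    ((Odd m ∧ Fintype.card F % 4 = 3) → (∃ φ : ↥(Cfsg.pgoAut F (Cfsg.quadFormPlus m F)) →* Multiplicative (ZMod 2 × ZMod 2), Function.Surjective φ ∧ φ.ker = (Cfsg.Inn (Cfsg.POmega F (Cfsg.quadFormPlus m F))).subgroupOf (Cfsg.pgoAut F (Cfsg.quadFormPlus m F)))) ∧ (¬ (Odd m ∧ Fintype.card F % 4 = 3) → (∃ φ : ↥(Cfsg.pgoAut F (Cfsg.quadFormPlus m F)) →* DihedralGroup 4, Function.Surjective φ ∧ φ.ker = (Cfsg.Inn (Cfsg.POmega F (Cfsg.quadFormPlus m F))).subgroupOf (Cfsg.pgoAut F (Cfsg.quadFormPlus m F)))) := by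
  have h2 := Cfsg.Agent.Lib.Lead.OAP.two_ne_zero_of_odd hodd
  have hQ := Cfsg.Agent.Lib.Helper16.qfPlus_nondeg m F
  have hcard := Cfsg.Agent.Lib.Lead.OAP.card_plus (m := m)
  have hn : 4 ≤ Fintype.card (Fin m ⊕ Fin m) := by rw [hcard]; omega
  have hne := Cfsg.Agent.Lib.Lead.OA.exists_ne_zero (Cfsg.Agent.Lib.Helper16.qfPlus m F) h2 hQ
    (by omega)
  obtain ⟨δ, hδ0, hδ⟩ := Cfsg.Agent.Lib.Lead.OI.exists_nonsquare (F := F) h2
  have hg₁ : ¬ IsSquare ((Cfsg.Agent.Lib.Lead.OA.mult (Cfsg.Agent.Lib.Helper16.qfPlus m F)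
      ⟨Cfsg.Agent.Lib.Lead.OAP.dPlus (Units.mk0 δ hδ0), Cfsg.Agent.Lib.Lead.OAP.dPlus_mem _⟩ : Fˣ) : F) := by
    rw [Cfsg.Agent.Lib.Lead.OAP.mult_dPlus hne]; exact hδ
  have hiff := Cfsg.Agent.S0790.result (F := F) rfl hodd m (by omega)
  have hq : Fintype.card F % 2 = 1 := Nat.odd_iff.mp hodd
  have har := Cfsg.Agent.Lib.Lead.OAP.pow_mod_four_iff (Fintype.card F) m hq
  constructor
  · intro hc
    have hno : ¬ ∃ g : ↥(Cfsg.isometryGroup F (Cfsg.quadFormPlus m F)),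
        g ∈ Cfsg.Omega F (Cfsg.quadFormPlus m F) ∧
        ((g : Matrix.GeneralLinearGroup (Fin m ⊕ Fin m) F) : Matrix (Fin m ⊕ Fin m) (Fin m ⊕ Fin m) F) = -1 :=
      fun hneg => (har.mp (hiff.mp hneg)) hc
    have heq := Cfsg.Agent.Lib.Lead.OA.inn_eq_pso_of_not (Cfsg.Agent.Lib.Helper16.qfPlus m F) h2 hQ hn m
      hcard hno
    have h := Cfsg.Agent.Lib.Lead.OA.klein_quot (Cfsg.Agent.Lib.Helper16.qfPlus m F) h2 hQ hn m hcard hne
      ⟨Cfsg.Agent.Lib.Lead.OAP.dPlus (Units.mk0 δ hδ0), Cfsg.Agent.Lib.Lead.OAP.dPlus_mem _⟩ hg₁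
      (Cfsg.Agent.Lib.Lead.OAP.eps_dPlus hne _)
    have heq' : Cfsg.Inn (Cfsg.POmega F (Cfsg.quadFormPlus m F)) = Cfsg.psoAut F (Cfsg.quadFormPlus m F) := heq
    rw [heq', Cfsg.Agent.Lib.Lead.OA.pgoAut_eq, Cfsg.Agent.Lib.Lead.OA.psoAut_eq]
    exact h
  · intro hc
    have hneg := hiff.mpr (har.mpr hc)
    have h := Cfsg.Agent.Lib.Lead.OA.dihedral_quot (Cfsg.Agent.Lib.Helper16.qfPlus m F) h2 hQ hn m hcard hne
      ⟨Cfsg.Agent.Lib.Lead.OAP.dPlus (Units.mk0 δ hδ0), Cfsg.Agent.Lib.Lead.OAP.dPlus_mem _⟩ hg₁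
      (Cfsg.Agent.Lib.Lead.OAP.eps_dPlus hne _) hneg
    rw [Cfsg.Agent.Lib.Lead.OA.pgoAut_eq]
    exact h

end Cfsg.Agent.S2724
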