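import Cfsg.Statements.S2611
import Cfsg.Agent.Lib.Helper16.PlusRho
import Cfsg.Agent.Lib.Helper16.GLComm
import Cfsg.Agent.Lib.Helper16.HypPair
import Cfsg.Agent.Lib.Helper16.SpinE3

set_option autoImplicit false
open Cfsg
open Cfsg.Agent.Lib.Helper16
open Matrix

namespace Cfsg.Agent.S2611

theorem aux_decomp {F : Type*} [Field F] [Fintype F] {m : ℕ}
    (h : Fintype.card F ≠ 2 ∨ m ≠ 2) (A : GL (Fin m) F) (D : GL (Fin m) F)
    (hD : (D : Matrix (Fin m) (Fin m) F).det = (A : Matrix (Fin m) (Fin m) F).det) :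
    rhoO (A * D⁻¹) ∈ Cfsg.Omega F (Cfsg.quadFormPlus m F) := by
  have hdet : ((A * D⁻¹ : GL (Fin m) F) : Matrix (Fin m) (Fin m) F).det = 1 := by
    rw [Units.val_mul, Matrix.det_mul, Matrix.coe_units_inv, Matrix.det_nonsing_inv, hD]
    have hA : (A : Matrix (Fin m) (Fin m) F).det ≠ 0 := by
      have := (Matrix.isUnit_iff_isUnit_det _).mp A.isUnit
      exact this.ne_zero
    rw [Ring.inverse_eq_inv', mul_inv_cancel₀ hA]
  have h' : Fintype.card F ≠ 2 ∨ Fintype.card (Fin m) ≠ 2 := by
    rw [Fintype.card_fin]; exact h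
  have := SL_le_GL_commutator h' (⟨((A * D⁻¹ : GL (Fin m) F) : Matrix (Fin m) (Fin m) F), hdet⟩ :
    Matrix.SpecialLinearGroup (Fin m) F)
  have h3 : SpecialLinearGroup.toGL (⟨((A * D⁻¹ : GL (Fin m) F) : Matrix (Fin m) (Fin m) F), hdet⟩ :
    Matrix.SpecialLinearGroup (Fin m) F) = A * D⁻¹ := Units.ext rfl
  rw [h3] at this
  exact rhoO_comm_mem _ this

theorem aux_D {F : Type*} [Field F] {m : ℕ} (i0 : Fin m) (lam : F) (hlam : lam ≠ 0) :
    ∀ k : Fin m, (fun k => if k = i0 then lam else (1 : F)) k ≠ 0 := by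
  intro k
  show (if k = i0 then lam else (1 : F)) ≠ 0
  split_ifs
  · exact hlam
  · exact one_ne_zero

theorem aux_D_det {F : Type*} [Field F] {m : ℕ} (i0 : Fin m) (lam : F) (hlam : lam ≠ 0) :
    ((diagUnit (fun k => if k = i0 then lam else (1 : F)) (aux_D i0 lam hlam) : GL (Fin m) F) :
      Matrix (Fin m) (Fin m) F).det = lam := by
  rw [diagUnit_coe, Matrix.det_diagonal, Finset.prod_ite_eq']
  simp

theorem aux_D_rho {F : Type*} [Field F] {m : ℕ} (i0 : Fin m) (lam : F) (hlam : lam ≠ 0) :
    (((rhoO (diagUnit (fun k => if k = i0 then lam else (1 : F)) (aux_D i0 lam hlam)) :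
      ↥(Cfsg.isometryGroup F (Cfsg.quadFormPlus m F))) : GL (Fin m ⊕ Fin m) F) :
      Matrix (Fin m ⊕ Fin m) (Fin m ⊕ Fin m) F)
      = Matrix.diagonal (fun k => if k = Sum.inl i0 then lam else
          if k = Sum.inr i0 then lam⁻¹ else 1) := by
  show fromBlocks (diagonal _) 0 0 (diagonal _)ᵀ = _
  rw [Matrix.diagonal_transpose, Matrix.fromBlocks_diagonal]
  congr 1
  funext k
  rcases k with k | k
  · simp
  · by_cases hk : k = i0
    · simp [hk]
    · simp [hk]

theorem aux_odd {F : Type*} [Field F] [Fintype F] (h2 : (2 : F) ≠ 0) {m : ℕ} (i0 : Fin m)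
    (lam : F) (hlam : lam ≠ 0)
    (hmem : rhoO (diagUnit (fun k => if k = i0 then lam else (1 : F)) (aux_D i0 lam hlam))
      ∈ Cfsg.Omega F (Cfsg.quadFormPlus m F)) : IsSquare lam := by
  have hne : (Sum.inl i0 : Fin m ⊕ Fin m) ≠ Sum.inr i0 := by simp
  obtain ⟨h1, h3, h4⟩ := hypPair_two_refl (qfPlus m F) (Sum.inl i0) (Sum.inr i0) hne
    (by
      intro x
      rw [qfPlus_coe, polar_plus]
      simp [Pi.single_apply])
    (by
      intro x
      rw [qfPlus_coe, polar_plus]
      simp [Pi.single_apply])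
    (by
      show Cfsg.quadFormPlus m F _ = 0
      simp [Cfsg.quadFormPlus, Pi.single_apply])
    (by
      show Cfsg.quadFormPlus m F _ = 0
      simp [Cfsg.quadFormPlus, Pi.single_apply]) lam hlam
  have key := master h2 (qfPlus m F)
    (rhoO (diagUnit (fun k => if k = i0 then lam else (1 : F)) (aux_D i0 lam hlam)))
    [Pi.single (Sum.inl i0) 1 - Pi.single (Sum.inr i0) 1,
      Pi.single (Sum.inl i0) 1 - lam • Pi.single (Sum.inr i0) 1]
    (by
      intro v hv
      simp only [List.mem_cons, List.not_mem_nil, or_false] at hv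
      rcases hv with rfl | rfl
      · rw [h1]; simp
      · rw [h3]; simpa using hlam)
    (by
      rw [aux_D_rho i0 lam hlam]
      simp only [List.map_cons, List.map_nil, List.prod_cons, List.prod_nil, mul_one]
      exact h4.symm)
  have := (key.mp hmem).2
  simp only [List.map_cons, List.map_nil, List.prod_cons, List.prod_nil, mul_one] at this
  rw [h1, h3] at this
  simpa using this

/-- For the hyperbolic quadratic form Σ x_i y_i on F^(2m) (F finite, m ≥ 1, excluding m = 2 over the field of two elements) and an invertible m × m matrix A, the block-diagonal isometry diag(A, (A⁻¹)ᵀ), which stabilises the two maximal totally singular subspaces x = 0 and y = 0, lies in Ω⁺_2m(F) (the commutator subgroup of the orthogonal group) if and only if det A is a square in F. -/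
theorem result {F : Type*} [Field F] [Fintype F] {m : ℕ} (hm : 1 ≤ m) (h : Fintype.card F ≠ 2 ∨ m ≠ 2) (A : GL (Fin m) F) : (∃ g : ↥(Cfsg.isometryGroup F (Cfsg.quadFormPlus m F)), g ∈ Cfsg.Omega F (Cfsg.quadFormPlus m F) ∧ ((g : Matrix.GeneralLinearGroup (Fin m ⊕ Fin m) F) : Matrix (Fin m ⊕ Fin m) (Fin m ⊕ Fin m) F) = Matrix.fromBlocks (A : Matrix (Fin m) (Fin m) F) 0 0 ((A : Matrix (Fin m) (Fin m) F)⁻¹).transpose) ↔ IsSquare (A : Matrix (Fin m) (Fin m) F).det := by
  have hA0 : (A : Matrix (Fin m) (Fin m) F).det ≠ 0 :=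
    ((Matrix.isUnit_iff_isUnit_det _).mp A.isUnit).ne_zero
  let i0 : Fin m := ⟨0, hm⟩
  constructor
  · rintro ⟨g, hg, hgA⟩
    by_cases h2 : (2 : F) = 0
    · have : CharP F 2 := CharTwo.of_one_ne_zero_of_two_eq_zero one_ne_zero h2
      exact FiniteField.isSquare_of_char_two (ringChar.eq F 2) _
    · have hgρ : g = rhoO A := iso_ext' _ _ _ (by rw [hgA, rhoO_coe])
      set lam := (A : Matrix (Fin m) (Fin m) F).det with hlam
      have h3 := aux_decomp h A (diagUnit (fun k => if k = i0 then lam else (1 : F))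
        (aux_D i0 lam hA0)) (aux_D_det i0 lam hA0)
      apply aux_odd h2 i0 lam hA0
      have h4 : rhoO (diagUnit (fun k => if k = i0 then lam else (1 : F)) (aux_D i0 lam hA0))
          = (rhoO (A * (diagUnit (fun k => if k = i0 then lam else (1 : F))
            (aux_D i0 lam hA0))⁻¹))⁻¹ * g := by
        rw [hgρ, ← map_inv, ← map_mul]
        congr 1
        group
      rw [h4]
      exact mul_mem (inv_mem h3) hg
  · rintro ⟨s, hs⟩
    refine ⟨rhoO A, ?_, rhoO_coe A⟩
    have hs0 : s ≠ 0 := by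
      rintro rfl
      rw [mul_zero] at hs
      exact hA0 hs
    have hDD : diagUnit (fun k => if k = i0 then s else (1 : F)) (aux_D i0 s hs0) *
        diagUnit (fun k => if k = i0 then s else (1 : F)) (aux_D i0 s hs0)
        = diagUnit (fun k => if k = i0 then s * s else (1 : F)) (aux_D i0 (s * s)
          (mul_ne_zero hs0 hs0)) := by
      apply Units.ext
      rw [Units.val_mul, diagUnit_coe, diagUnit_coe, Matrix.diagonal_mul_diagonal]
      congr 1
      funext k
      split_ifs <;> simp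
    have h3 := aux_decomp h A (diagUnit (fun k => if k = i0 then s * s else (1 : F))
        (aux_D i0 (s * s) (mul_ne_zero hs0 hs0)))
        (by rw [aux_D_det i0 (s * s) (mul_ne_zero hs0 hs0), hs])
    have h4 := rho_symm_sq_mem (diagUnit (fun k => if k = i0 then s else (1 : F)) (aux_D i0 s hs0))
      (by rw [diagUnit_coe, Matrix.diagonal_transpose])
    rw [hDD] at h4
    have h5 : rhoO A = rhoO (A * (diagUnit (fun k => if k = i0 then s * s else (1 : F))
        (aux_D i0 (s * s) (mul_ne_zero hs0 hs0)))⁻¹) *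
        rhoO (diagUnit (fun k => if k = i0 then s * s else (1 : F))
        (aux_D i0 (s * s) (mul_ne_zero hs0 hs0))) := by
      rw [← map_mul]
      congr 1
      group
    rw [h5]
    exact mul_mem h3 h4

end Cfsg.Agent.S2611
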