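import Mathlib
import Cfsg.Statements.S3808
import Cfsg.Prelude.Def_Transfer
import Cfsg.Agent.Lib.Helper1.Nilp

set_option autoImplicit false
open Cfsg

namespace Cfsg.Agent.S3808

open Cfsg.Agent.Lib.Helper1

lemma normal_of_index_p {S : Type*} [Group S] [Finite S] (p : ℕ) [Fact p.Prime] (hS : IsPGroup p S)
    (Q : Subgroup S) (hQi : Q.index = p) : Q.Normal := by
  apply Subgroup.normal_of_index_eq_minFac_card
  obtain ⟨n, hn⟩ := IsPGroup.iff_card.mp hS
  have hn0 : n ≠ 0 := by
    rintro rfl
    rw [pow_zero] at hn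
    have h1 : Q.index ∣ Nat.card S := Subgroup.index_dvd_card Q
    rw [hn, hQi] at h1
    exact (Nat.Prime.one_lt Fact.out).ne' (Nat.dvd_one.mp h1)
  rw [hQi, hn, Nat.Prime.pow_minFac Fact.out hn0]

theorem result {S : Type*} [Group S] [Finite S] (p : ℕ) [Fact p.Prime] (hS : IsPGroup p S) (Q : Subgroup S) (hQ : Cfsg.IsExtraspecial p ↥Q) (hQi : Q.index = p) :
    Subgroup.center S = (Subgroup.center ↥Q).map Q.subtype ∨
      (Q ⊔ Subgroup.center S = ⊤ ∧ Nat.card (Subgroup.center S) = p ^ 2) := by
  have hp : p.Prime := Fact.out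
  have hQn : Q.Normal := normal_of_index_p p hS Q hQi
  have : Group.IsNilpotent S := hS.isNilpotent
  set ZQ : Subgroup S := (Subgroup.center ↥Q).map Q.subtype with hZQ
  have hZQcard : Nat.card ZQ = p := by
    rw [hZQ, Subgroup.card_map_of_injective Q.subtype_injective]
    exact hQ.2
  have hQne : Q ≠ ⊥ := by
    rintro rfl
    have : Nat.card (Subgroup.center (⊥ : Subgroup S)) = 1 := by
      rw [Nat.card_eq_one_iff_unique]
      exact ⟨inferInstance, ⟨1⟩⟩
    rw [hQ.2] at this
    exact hp.one_lt.ne' this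
  have hle : Q ⊓ Subgroup.center S ≤ ZQ := by
    rintro z ⟨hzQ, hzZ⟩
    have hzQ : z ∈ Q := hzQ
    have hzZ : z ∈ Subgroup.center S := hzZ
    refine ⟨⟨z, hzQ⟩, ?_, rfl⟩
    show (⟨z, hzQ⟩ : Q) ∈ Subgroup.center Q
    rw [Subgroup.mem_center_iff]
    intro g
    apply Subtype.ext
    simp only [Subgroup.coe_mul]
    exact (Subgroup.mem_center_iff.mp hzZ) g
  have hne : Q ⊓ Subgroup.center S ≠ ⊥ := normal_inf_center_ne_bot Q hQne
  have heq : Q ⊓ Subgroup.center S = ZQ := by
    have hdvd : Nat.card (Q ⊓ Subgroup.center S : Subgroup S) ∣ Nat.card ZQ := Subgroup.card_dvd_of_le hle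
    rw [hZQcard] at hdvd
    rcases (Nat.dvd_prime hp).mp hdvd with h1 | h1
    · exfalso
      apply hne
      exact Subgroup.card_eq_one.mp h1
    · apply Subgroup.eq_of_le_of_card_ge hle
      rw [h1, hZQcard]
  by_cases hZ : Subgroup.center S ≤ Q
  · left
    rw [← heq, inf_eq_right.mpr hZ]
  · right
    have htop : Q ⊔ Subgroup.center S = ⊤ := by
      have hlt : Q < Q ⊔ Subgroup.center S := by
        refine lt_of_le_of_ne le_sup_left ?_
        intro h
        apply hZ
        rw [h]
        exact le_sup_right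
      have hdvd : (Q ⊔ Subgroup.center S).index ∣ Q.index := Subgroup.index_dvd_of_le le_sup_left
      rw [hQi] at hdvd
      rcases (Nat.dvd_prime hp).mp hdvd with h1 | h1
      · exact Subgroup.index_eq_one.mp h1
      · exfalso
        have h2 := Subgroup.relIndex_mul_index hlt.le
        rw [h1, hQi] at h2
        have h3 : Q.relIndex (Q ⊔ Subgroup.center S) = 1 := by
          have hp0 : 0 < p := hp.pos
          exact Nat.eq_of_mul_eq_mul_right hp0 (by rw [h2, one_mul])
        exact (not_le_of_gt hlt) (Subgroup.relIndex_eq_one.mp h3)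
    refine ⟨htop, ?_⟩
    have h1 : Q.relIndex (Subgroup.center S ⊔ Q) = Q.relIndex (Subgroup.center S) :=
      Subgroup.relIndex_sup_right (Subgroup.center S) Q
    rw [sup_comm, htop, Subgroup.relIndex_top_right, hQi] at h1
    have h2 : (Q ⊓ Subgroup.center S).relIndex (Subgroup.center S) = p := by
      rw [Subgroup.inf_relIndex_right, ← h1]
    have h3 := Subgroup.card_mul_index ((Q ⊓ Subgroup.center S).subgroupOf (Subgroup.center S))
    have h4 : Nat.card ((Q ⊓ Subgroup.center S).subgroupOf (Subgroup.center S)) = p := by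
      rw [← hZQcard, ← heq]
      exact Nat.card_congr (Subgroup.subgroupOfEquivOfLe inf_le_right).toEquiv
    rw [h4] at h3
    have h5 : ((Q ⊓ Subgroup.center S).subgroupOf (Subgroup.center S)).index = p := h2
    rw [h5] at h3
    rw [← h3, pow_two]

end Cfsg.Agent.S3808
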