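import Mathlib
import Cfsg.Statements.S3864
import Cfsg.Agent.S1254
import Cfsg.Agent.S0111
import Cfsg.Agent.Lib.Helper1.Fusion

set_option autoImplicit false
open Cfsg

namespace Cfsg.Agent.S3864

open DihedralGroup

section dih

variable {m : ℕ}

/-- the reflection automorphism swapping the two classes of non-central involutions -/
def swapFun : DihedralGroup m → DihedralGroup m
  | r i => r (-i)
  | sr i => sr (1 - i)

theorem swapFun_mul (x y : DihedralGroup m) : swapFun (x * y) = swapFun x * swapFun y := by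
  rcases x with i | i <;> rcases y with j | j <;>
    simp only [swapFun, r_mul_r, r_mul_sr, sr_mul_r, sr_mul_sr] <;> congr 1 <;> ring

theorem swapFun_swapFun (x : DihedralGroup m) : swapFun (swapFun x) = x := by
  rcases x with i | i <;> simp [swapFun]

/-- the reflection automorphism as a `MulEquiv` -/
def swapEquiv : DihedralGroup m ≃* DihedralGroup m where
  toFun := swapFun
  invFun := swapFun
  left_inv := swapFun_swapFun
  right_inv := swapFun_swapFun
  map_mul' := swapFun_mul

/-- parity homomorphism -/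
def parFun (h2 : 2 ∣ m) : DihedralGroup m → Multiplicative (ZMod 2)
  | r i => Multiplicative.ofAdd (ZMod.castHom h2 (ZMod 2) i)
  | sr i => Multiplicative.ofAdd (ZMod.castHom h2 (ZMod 2) i)

theorem parFun_mul (h2 : 2 ∣ m) (x y : DihedralGroup m) :
    parFun h2 (x * y) = parFun h2 x * parFun h2 y := by
  have hneg : ∀ a : ZMod 2, -a = a := by decide
  rcases x with i | i <;> rcases y with j | j <;>
    simp only [parFun, r_mul_r, r_mul_sr, sr_mul_r, sr_mul_sr, ← ofAdd_add, map_add, map_sub,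
      map_neg, sub_eq_add_neg, hneg] <;> congr 1 <;> ring

/-- parity homomorphism -/
def parHom (h2 : 2 ∣ m) : DihedralGroup m →* Multiplicative (ZMod 2) where
  toFun := parFun h2
  map_one' := by
    show parFun h2 (r 0) = 1
    simp [parFun]
  map_mul' := parFun_mul h2

theorem half_add_half (h2 : 2 ∣ m) : ((m / 2 : ℕ) : ZMod m) + ((m / 2 : ℕ) : ZMod m) = 0 := by
  rw [← Nat.cast_add, ← two_mul, Nat.mul_div_cancel' h2, ZMod.natCast_self]

theorem quarter_add_quarter (h4 : 4 ∣ m) :
    ((m / 4 : ℕ) : ZMod m) + ((m / 4 : ℕ) : ZMod m) = ((m / 2 : ℕ) : ZMod m) := by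
  rw [← Nat.cast_add]
  congr 1
  omega

/-- (d1) classification of involutions -/
theorem invol_classify [NeZero m] (h2 : 2 ∣ m) (x : DihedralGroup m) (hx : x * x = 1) (hx1 : x ≠ 1) :
    x = r ((m / 2 : ℕ) : ZMod m) ∨ ∃ i, x = sr i := by
  rcases x with i | i
  · left
    rw [r_mul_r, one_def] at hx
    have hi : i + i = 0 := by injection hx
    have hi0 : i ≠ 0 := by
      rintro rfl
      exact hx1 (by rw [one_def])
    have h1 : ((i.val + i.val : ℕ) : ZMod m) = 0 := by
      rw [Nat.cast_add, ZMod.natCast_zmod_val]; exact hi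
    rw [ZMod.natCast_eq_zero_iff] at h1
    have hlt : i.val < m := ZMod.val_lt i
    have hpos : i.val ≠ 0 := by
      intro h0
      exact hi0 ((ZMod.val_eq_zero i).mp h0)
    obtain ⟨c, hc⟩ := h1
    have hc1 : c = 1 := by
      rcases c with _ | _ | c
      · omega
      · rfl
      · exfalso
        have : m * (c + 1 + 1) ≥ m * 2 := Nat.mul_le_mul_left m (by omega)
        omega
    subst hc1
    have hval : i.val = m / 2 := by omega
    congr 1
    rw [← hval, ZMod.natCast_zmod_val]
  · right; exact ⟨i, rfl⟩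

/-- (d2) every reflection is conjugate to `sr 0` or `sr 1` -/
theorem sr_conj [NeZero m] (i : ZMod m) :
    ∃ y : DihedralGroup m, y * sr i * y⁻¹ = sr 0 ∨ y * sr i * y⁻¹ = sr 1 := by
  rcases Nat.even_or_odd' i.val with ⟨k, hk | hk⟩
  · refine ⟨r (k : ZMod m), Or.inl ?_⟩
    rw [inv_r, r_mul_sr, sr_mul_r]
    congr 1
    have : i = ((2 * k : ℕ) : ZMod m) := by rw [← hk, ZMod.natCast_zmod_val]
    rw [this]; push_cast; ring
  · refine ⟨r (k : ZMod m), Or.inr ?_⟩
    rw [inv_r, r_mul_sr, sr_mul_r]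
    congr 1
    have : i = ((2 * k + 1 : ℕ) : ZMod m) := by rw [← hk, ZMod.natCast_zmod_val]
    rw [this]; push_cast; ring

/-- (d3) `r (m/2)` is central -/
theorem r_half_central (h2 : 2 ∣ m) (x : DihedralGroup m) :
    r ((m / 2 : ℕ) : ZMod m) * x = x * r ((m / 2 : ℕ) : ZMod m) := by
  have h := half_add_half h2
  rcases x with i | i
  · rw [r_mul_r, r_mul_r, add_comm]
  · rw [r_mul_sr, sr_mul_r]
    congr 1
    have : -((m / 2 : ℕ) : ZMod m) = ((m / 2 : ℕ) : ZMod m) := by
      rw [neg_eq_iff_add_eq_zero]; exact h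
    rw [sub_eq_add_neg, this]

/-- (d4) `sr 0` and `sr 1` are not conjugate -/
theorem sr_zero_not_conj_sr_one (h2 : 2 ∣ m) (y : DihedralGroup m) : y * sr 0 * y⁻¹ ≠ sr 1 := by
  intro h
  have h1 := congrArg (parHom h2) h
  rw [map_mul, map_mul, map_inv, mul_comm, inv_mul_cancel_left] at h1
  have h2' : parHom h2 (sr 0) = Multiplicative.ofAdd 0 := by
    show parFun h2 (sr 0) = _
    simp [parFun]
  have h3 : parHom h2 (sr 1) = Multiplicative.ofAdd 1 := by
    show parFun h2 (sr 1) = _
    simp only [parFun, map_one]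
  rw [h2', h3] at h1
  have : (0 : ZMod 2) = 1 := Multiplicative.ofAdd.injective h1
  exact absurd this (by decide)

/-- (d5) -/
theorem conj_quarter (h4 : 4 ∣ m) (i : ZMod m) :
    r ((m / 4 : ℕ) : ZMod m) * sr i * (r ((m / 4 : ℕ) : ZMod m))⁻¹ =
      r ((m / 2 : ℕ) : ZMod m) * sr i := by
  rw [inv_r, r_mul_sr, sr_mul_r, r_mul_sr]
  congr 1
  rw [← quarter_add_quarter h4]; ring

end dih

section emb

variable {G : Type*} [Group G] {m : ℕ} (P : Subgroup G) (eP : P ≃* DihedralGroup m)

/-- the embedding of the dihedral group as the subgroup `P` -/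
noncomputable def emb : DihedralGroup m →* G := P.subtype.comp eP.symm.toMonoidHom

theorem emb_apply (x : DihedralGroup m) : emb P eP x = ((eP.symm x : P) : G) := rfl

theorem emb_mem (x : DihedralGroup m) : emb P eP x ∈ P := (eP.symm x).2

theorem emb_injective : Function.Injective (emb P eP) := by
  intro x y h
  have : eP.symm x = eP.symm y := Subtype.ext h
  exact eP.symm.injective this

theorem exists_emb_eq (u : G) (hu : u ∈ P) : ∃ x, emb P eP x = u :=
  ⟨eP ⟨u, hu⟩, by simp [emb_apply]⟩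

theorem emb_trans_swap (x : DihedralGroup m) :
    emb P (eP.trans swapEquiv) x = emb P eP (swapFun x) := rfl

theorem emb_r_mem_rot (i : ZMod m) :
    emb P eP (r i) ∈ Subgroup.zpowers (Cfsg.Agent.S1254.rotGen P eP) := by
  apply Cfsg.Agent.S1254.mem_zpowers_rotGen_of_r P eP _ (emb_mem P eP _) i
  simp [emb_apply]

theorem emb_sr_not_mem_rot (i : ZMod m) :
    emb P eP (sr i) ∉ Subgroup.zpowers (Cfsg.Agent.S1254.rotGen P eP) := by
  intro h
  obtain ⟨j, hj⟩ := Cfsg.Agent.S1254.eS_of_mem_zpowers_rotGen P eP _ (emb_mem P eP _) h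
  simp [emb_apply] at hj

theorem orderOf_emb (x : DihedralGroup m) : orderOf (emb P eP x) = orderOf x :=
  orderOf_injective _ (emb_injective P eP) x

/-- conjugate in the dihedral group implies conjugate in `G` -/
theorem isConj_emb (x y c : DihedralGroup m) (h : c * x * c⁻¹ = y) :
    IsConj (emb P eP x) (emb P eP y) := by
  rw [isConj_iff]
  exact ⟨emb P eP c, by rw [← h, map_mul, map_mul, map_inv]⟩

end emb

section invol

variable {G : Type*} [Group G] {m : ℕ} [NeZero m] (P : Subgroup G) (eP : P ≃* DihedralGroup m)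

/-- (G1) involutions of `P` -/
theorem invol_in_P (h2 : 2 ∣ m) (u : G) (hu : u ∈ P) (hord : orderOf u = 2) :
    u = emb P eP (r ((m / 2 : ℕ) : ZMod m)) ∨ IsConj u (emb P eP (sr 0)) ∨
      IsConj u (emb P eP (sr 1)) := by
  obtain ⟨x, rfl⟩ := exists_emb_eq P eP u hu
  rw [orderOf_emb] at hord
  have hx2 : x * x = 1 := by rw [← pow_two, ← hord, pow_orderOf_eq_one]
  have hx1 : x ≠ 1 := by rintro rfl; simp at hord
  rcases invol_classify h2 x hx2 hx1 with rfl | ⟨i, rfl⟩
  · left; rfl
  · right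
    obtain ⟨y, hy | hy⟩ := sr_conj i
    · left; exact isConj_emb P eP _ _ y hy
    · right; exact isConj_emb P eP _ _ y hy

/-- a rotation involution is `z` -/
theorem invol_rot (h2 : 2 ∣ m) (u : G) (hu : u ∈ P) (hu2 : u * u = 1) (hu1 : u ≠ 1)
    (hrot : u ∈ Subgroup.zpowers (Cfsg.Agent.S1254.rotGen P eP)) :
    u = emb P eP (r ((m / 2 : ℕ) : ZMod m)) := by
  obtain ⟨x, rfl⟩ := exists_emb_eq P eP u hu
  have hx2 : x * x = 1 := by
    apply emb_injective P eP; rw [map_mul, hu2, map_one]
  have hx1 : x ≠ 1 := by rintro rfl; exact hu1 (map_one _)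
  rcases invol_classify h2 x hx2 hx1 with rfl | ⟨i, rfl⟩
  · rfl
  · exact absurd hrot (emb_sr_not_mem_rot P eP i)

theorem orderOf_z (h2 : 2 ∣ m) (hm2 : 2 < m) : orderOf (emb P eP (r ((m / 2 : ℕ) : ZMod m))) = 2 := by
  rw [orderOf_emb]
  apply orderOf_eq_prime
  · rw [pow_two, r_mul_r, half_add_half h2, r_zero]
  · rw [one_def]
    intro h
    have h0 : ((m / 2 : ℕ) : ZMod m) = 0 := by injection h
    rw [ZMod.natCast_eq_zero_iff] at h0
    have := Nat.le_of_dvd (by omega) h0
    omega

theorem orderOf_s_emb (i : ZMod m) : orderOf (emb P eP (sr i)) = 2 := by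
  rw [orderOf_emb, orderOf_sr]

end invol

section sylow

variable {G : Type*} [Group G] [Finite G]

/-- (G2) every involution is conjugate into the Sylow `2`-subgroup -/
theorem invol_conj_into (P : Sylow 2 G) (g : G) (hg : orderOf g = 2) :
    ∃ x : G, x * g * x⁻¹ ∈ (P : Subgroup G) := by
  haveI : Fact (Nat.Prime 2) := ⟨Nat.prime_two⟩
  have hz : IsPGroup 2 (Subgroup.zpowers g) := by
    apply IsPGroup.of_card (n := 1)
    rw [Nat.card_zpowers, hg, pow_one]
  obtain ⟨Q, hQ⟩ := hz.exists_le_sylow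
  obtain ⟨a, ha⟩ := MulAction.exists_smul_eq G Q P
  refine ⟨a, ?_⟩
  rw [← ha]
  show a * g * a⁻¹ ∈ a • Q
  rw [Cfsg.Agent.Lib.Helper1.mem_sylow_smul_iff]
  have : a⁻¹ * (a * g * a⁻¹) * a = g := by group
  rw [this]
  exact hQ (Subgroup.mem_zpowers g)

/-- fusion is controlled by a Sylow subgroup with a normal complement -/
theorem conj_in_sylow_of_normal_complement {p : ℕ} (S : Sylow p G) (N : Subgroup G) (hNn : N.Normal)
    (hN : N.IsComplement' (S : Subgroup G)) (a b : G) (ha : a ∈ (S : Subgroup G))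
    (hb : b ∈ (S : Subgroup G)) (g : G) (hg : g * a * g⁻¹ = b) :
    ∃ s ∈ (S : Subgroup G), s * a * s⁻¹ = b := by
  obtain ⟨⟨⟨n, hn⟩, ⟨s, hs⟩⟩, hns, -⟩ := hN.existsUnique g
  simp only at hns
  have hdisj := hN.disjoint
  rw [Subgroup.disjoint_def] at hdisj
  refine ⟨s, hs, ?_⟩
  have h2 : b = n * (s * a * s⁻¹) * n⁻¹ := by rw [← hg, ← hns]; group
  have ha' : s * a * s⁻¹ ∈ (S : Subgroup G) :=
    Subgroup.mul_mem _ (Subgroup.mul_mem _ hs ha) (Subgroup.inv_mem _ hs)
  have h3 : n * (s * a * s⁻¹) * n⁻¹ * (s * a * s⁻¹)⁻¹ ∈ (S : Subgroup G) := by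
    rw [← h2]; exact Subgroup.mul_mem _ hb (Subgroup.inv_mem _ ha')
  have h4 : n * (s * a * s⁻¹) * n⁻¹ * (s * a * s⁻¹)⁻¹ ∈ N := by
    have : n * (s * a * s⁻¹) * n⁻¹ * (s * a * s⁻¹)⁻¹ =
        n * ((s * a * s⁻¹) * n⁻¹ * (s * a * s⁻¹)⁻¹) := by group
    rw [this]
    exact N.mul_mem hn (hNn.conj_mem _ (N.inv_mem hn) _)
  have h5 := hdisj h4 h3
  rw [h2]
  exact (mul_inv_eq_one.mp h5).symm

end sylow

section caseI

variable {G : Type*} [Group G] [Finite G] {m : ℕ} [NeZero m] (P : Subgroup G)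
  (eP : P ≃* DihedralGroup m)

theorem comm_of_conj_eq {g x : G} (h : g * x * g⁻¹ = x) : x * g = g * x := by
  have : g * x = x * g := by
    calc g * x = g * x * g⁻¹ * g := by group
      _ = x * g := by rw [h]
  exact this.symm

/-- the four-group condition when `z` is not fused to a non-central involution -/
theorem klein_four_normalizer (h4 : 4 ∣ m)
    (hzs : ¬ IsConj (emb P eP (r ((m / 2 : ℕ) : ZMod m))) (emb P eP (sr 0)))
    (hzt : ¬ IsConj (emb P eP (r ((m / 2 : ℕ) : ZMod m))) (emb P eP (sr 1)))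
    (U : Subgroup G) (hU : U ≤ P) (hK : IsKleinFour U) :
    Subgroup.normalizer (U : Set G) =
      Subgroup.centralizer (U : Set G) ⊔ (P ⊓ Subgroup.normalizer (U : Set G)) := by
  have h2 : 2 ∣ m := Dvd.dvd.trans (by norm_num) h4
  apply le_antisymm _ (sup_le (Subgroup.centralizer_le_normalizer _) inf_le_right)
  set R := Subgroup.zpowers (Cfsg.Agent.S1254.rotGen P eP) with hR
  set z := emb P eP (r ((m / 2 : ℕ) : ZMod m)) with hz
  have hzR : z ∈ R := emb_r_mem_rot P eP _
  have hzP : z ∈ P := emb_mem P eP _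
  have hsq : ∀ x ∈ U, x * x = 1 := by
    intro x hx
    have := hK.mul_self (⟨x, hx⟩ : U)
    exact congrArg Subtype.val this
  -- 1. an element of U outside R
  obtain ⟨u, huU, huR⟩ : ∃ u ∈ U, u ∉ R := by
    by_contra hcon
    push Not at hcon
    have hle : U ≤ R := hcon
    haveI : IsCyclic U := Subgroup.isCyclic_of_le hle
    exact hK.not_isCyclic inferInstance
  have hu1 : u ≠ 1 := by
    rintro rfl; exact huR R.one_mem
  -- 2. a further element
  obtain ⟨v, hvU, hv1, hvu⟩ : ∃ v ∈ U, v ≠ 1 ∧ v ≠ u := by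
    by_contra hcon
    push Not at hcon
    have hsub : (U : Set G) ⊆ {1, u} := by
      intro x hx
      by_cases hx1 : x = 1
      · left; exact hx1
      · right; exact hcon x hx hx1
    have h1 : Nat.card U ≤ 2 := by
      have h0 : Nat.card U = (U : Set G).ncard := Nat.card_coe_set_eq (U : Set G)
      rw [h0]
      calc (U : Set G).ncard ≤ ({1, u} : Set G).ncard := Set.ncard_le_ncard hsub (Set.toFinite _)
        _ ≤ 2 := by
          have := Set.ncard_insert_le (1 : G) ({u} : Set G)
          rw [Set.ncard_singleton] at this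
          exact this
    rw [hK.card_four] at h1
    omega
  -- 3. z ∈ U
  have hzU : z ∈ U := by
    by_cases hvR : v ∈ R
    · have := invol_rot P eP h2 v (hU hvU) (hsq v hvU) hv1 hvR
      rw [← hz] at this
      rw [← this]; exact hvU
    · have hw : u⁻¹ * v ∈ R :=
        Cfsg.Agent.S1254.inv_mul_mem_of_not_mem P eP u v (hU huU) (hU hvU) huR hvR
      have hwU : u⁻¹ * v ∈ U := U.mul_mem (U.inv_mem huU) hvU
      have hw1 : u⁻¹ * v ≠ 1 := by
        intro h
        apply hvu
        have := inv_mul_eq_one.mp h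
        exact this.symm
      have := invol_rot P eP h2 _ (hU hwU) (hsq _ hwU) hw1 hw
      rw [← hz] at this
      rw [← this]; exact hwU
  have hzu : z ≠ u := by
    intro h; rw [← h] at huR; exact huR hzR
  have hz1 : z ≠ 1 := by
    intro h
    have h3 : orderOf z = 2 := orderOf_z P eP h2 (by
      obtain ⟨c, hc⟩ := h4
      have : m ≠ 0 := NeZero.ne m
      omega)
    rw [h, orderOf_one] at h3
    omega
  -- 5. the elements of U
  have hU4 : ∀ x ∈ U, x = 1 ∨ x = z ∨ x = u ∨ x = z * u := by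
    intro x hx
    by_cases hx1 : x = 1
    · left; exact hx1
    by_cases hxz : x = z
    · right; left; exact hxz
    by_cases hxu : x = u
    · right; right; left; exact hxu
    right; right; right
    have := hK.eq_mul_of_ne_all (x := (⟨z, hzU⟩ : U)) (y := ⟨u, huU⟩) (z := ⟨x, hx⟩)
      (by intro h; exact hz1 (congrArg Subtype.val h))
      (by intro h; exact hu1 (congrArg Subtype.val h))
      (by intro h; exact hzu (congrArg Subtype.val h))
      (by intro h; exact hx1 (congrArg Subtype.val h))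
      (by intro h; exact hxz (congrArg Subtype.val h))
      (by intro h; exact hxu (congrArg Subtype.val h))
    exact congrArg Subtype.val this
  have hzuU : z * u ∈ U := U.mul_mem hzU huU
  have hzuR : z * u ∉ R := by
    intro h
    apply huR
    have : u = z⁻¹ * (z * u) := by group
    rw [this]; exact R.mul_mem (R.inv_mem hzR) h
  have hzz : z * z = 1 := hsq z hzU
  -- non-fusion of z with elements of U outside R
  have hnf : ∀ w ∈ U, w ∉ R → ¬ IsConj z w := by
    intro w hwU hwR hconj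
    have hw1 : w ≠ 1 := by rintro rfl; exact hwR R.one_mem
    have hword : orderOf w = 2 := by
      apply orderOf_eq_prime
      · rw [pow_two]; exact hsq w hwU
      · exact hw1
    rcases invol_in_P P eP h2 w (hU hwU) hword with h | h | h
    · rw [← hz] at h; rw [h] at hwR; exact hwR hzR
    · exact hzs (hconj.trans h)
    · exact hzt (hconj.trans h)
  intro g hg
  have hgU : ∀ x ∈ U, g * x * g⁻¹ ∈ U := fun x hx => (Subgroup.mem_normalizer_iff.mp hg x).mp hx
  -- g fixes z
  have hgz : g * z * g⁻¹ = z := by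
    rcases hU4 _ (hgU z hzU) with h | h | h | h
    · exfalso; apply hz1
      have : z = g⁻¹ * (g * z * g⁻¹) * g := by group
      rw [this, h]; group
    · exact h
    · exfalso; exact hnf u huU huR (isConj_iff.mpr ⟨g, h⟩)
    · exfalso; exact hnf _ hzuU hzuR (isConj_iff.mpr ⟨g, h⟩)
  -- a criterion for centralizing U
  have hcent : ∀ c : G, c * z * c⁻¹ = z → c * u * c⁻¹ = u → c ∈ Subgroup.centralizer (U : Set G) := by
    intro c hcz hcu
    rw [Subgroup.mem_centralizer_iff]
    intro x hx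
    rcases hU4 x hx with rfl | rfl | rfl | rfl
    · simp
    · exact comm_of_conj_eq hcz
    · exact comm_of_conj_eq hcu
    · apply comm_of_conj_eq
      calc c * (z * u) * c⁻¹ = (c * z * c⁻¹) * (c * u * c⁻¹) := by group
        _ = z * u := by rw [hcz, hcu]
  rcases hU4 _ (hgU u huU) with h | h | h | h
  · exfalso; apply hu1
    have : u = g⁻¹ * (g * u * g⁻¹) * g := by group
    rw [this, h]; group
  · exfalso; apply hzu
    have h' : g * u * g⁻¹ = g * z * g⁻¹ := by rw [h, hgz]
    have := mul_right_cancel h'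
    exact (mul_left_cancel this).symm
  · exact Subgroup.mem_sup_left (hcent g hgz h)
  · -- the swap is induced by an element of P
    obtain ⟨x, hx⟩ := exists_emb_eq P eP u (hU huU)
    have hxsr : ∃ i, x = sr i := by
      rcases x with i | i
      · exfalso; apply huR; rw [← hx]; exact emb_r_mem_rot P eP i
      · exact ⟨i, rfl⟩
    obtain ⟨i, rfl⟩ := hxsr
    set p := emb P eP (r ((m / 4 : ℕ) : ZMod m)) with hp
    have hpP : p ∈ P := emb_mem P eP _
    have hpu : p * u * p⁻¹ = z * u := by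
      rw [← hx, hp, hz, ← map_inv, ← map_mul, ← map_mul, ← map_mul, conj_quarter h4]
    have hpz : p * z * p⁻¹ = z := by
      rw [hp, hz, ← map_inv, ← map_mul, ← map_mul, ← r_half_central h2, mul_inv_cancel_right]
    have hpzu : p * (z * u) * p⁻¹ = u := by
      calc p * (z * u) * p⁻¹ = (p * z * p⁻¹) * (p * u * p⁻¹) := by group
        _ = z * (z * u) := by rw [hpz, hpu]
        _ = u := by rw [← mul_assoc, hzz, one_mul]
    have hpN : p ∈ Subgroup.normalizer (U : Set G) := by
      apply Cfsg.Agent.S1254.mem_normalizer_of_conj_mem U p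
      intro y hy
      rcases hU4 y hy with rfl | rfl | rfl | rfl
      · simp
      · rw [hpz]; exact hzU
      · rw [hpu]; exact hzuU
      · rw [hpzu]; exact huU
    have hc : p⁻¹ * g ∈ Subgroup.centralizer (U : Set G) := by
      apply hcent
      · calc p⁻¹ * g * z * (p⁻¹ * g)⁻¹ = p⁻¹ * (g * z * g⁻¹) * p := by group
          _ = p⁻¹ * (p * z * p⁻¹) * p := by rw [hgz, hpz]
          _ = z := by group
      · calc p⁻¹ * g * u * (p⁻¹ * g)⁻¹ = p⁻¹ * (g * u * g⁻¹) * p := by group
          _ = p⁻¹ * (p * u * p⁻¹) * p := by rw [h, hpu]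
          _ = u := by group
    have : g = p * (p⁻¹ * g) := by group
    rw [this]
    exact Subgroup.mul_mem _ (Subgroup.mem_sup_right ⟨hpP, hpN⟩) (Subgroup.mem_sup_left hc)

end caseI

section classes

variable {G : Type*} [Group G] [Finite G] {m : ℕ} [NeZero m] (P : Sylow 2 G)
  (eP : (P : Subgroup G) ≃* DihedralGroup m)

/-- the set of classes of involutions -/
def invSet (G : Type*) [Group G] : Set (ConjClasses G) :=
  {C | ∃ g : G, ConjClasses.mk g = C ∧ orderOf g = 2}

theorem card_invSet (G : Type*) [Group G] :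
    Nat.card {C : ConjClasses G // ∃ g : G, ConjClasses.mk g = C ∧ orderOf g = 2} =
      (invSet G).ncard := Nat.card_coe_set_eq (invSet G)

theorem invSet_eq (h4 : 4 ∣ m) : invSet G =
    {ConjClasses.mk (emb (P : Subgroup G) eP (r ((m / 2 : ℕ) : ZMod m))),
      ConjClasses.mk (emb (P : Subgroup G) eP (sr 0)),
      ConjClasses.mk (emb (P : Subgroup G) eP (sr 1))} := by
  have h2 : 2 ∣ m := Dvd.dvd.trans (by norm_num) h4
  have hm2 : 2 < m := by
    obtain ⟨c, hc⟩ := h4
    have : m ≠ 0 := NeZero.ne m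
    omega
  ext C
  constructor
  · rintro ⟨g, rfl, hg⟩
    obtain ⟨x, hx⟩ := invol_conj_into P g hg
    have hord : orderOf (x * g * x⁻¹) = 2 := by
      have : x * g * x⁻¹ = MulAut.conj x g := rfl
      rw [this, MulEquiv.orderOf_eq]; exact hg
    have hgc : ConjClasses.mk g = ConjClasses.mk (x * g * x⁻¹) :=
      ConjClasses.mk_eq_mk_iff_isConj.mpr (isConj_iff.mpr ⟨x, rfl⟩)
    rw [hgc]
    rcases invol_in_P (P : Subgroup G) eP h2 _ hx hord with h | h | h
    · left; rw [h]
    · right; left; exact ConjClasses.mk_eq_mk_iff_isConj.mpr h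
    · right; right; exact ConjClasses.mk_eq_mk_iff_isConj.mpr h
  · rintro (rfl | rfl | rfl)
    · exact ⟨_, rfl, orderOf_z (P : Subgroup G) eP h2 hm2⟩
    · exact ⟨_, rfl, orderOf_s_emb (P : Subgroup G) eP 0⟩
    · exact ⟨_, rfl, orderOf_s_emb (P : Subgroup G) eP 1⟩

/-- Case I: three classes and a normal complement -/
theorem caseI (h4 : 4 ∣ m)
    (hzs : ¬ IsConj (emb (P : Subgroup G) eP (r ((m / 2 : ℕ) : ZMod m))) (emb (P : Subgroup G) eP (sr 0)))
    (hzt : ¬ IsConj (emb (P : Subgroup G) eP (r ((m / 2 : ℕ) : ZMod m))) (emb (P : Subgroup G) eP (sr 1))) :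
    (invSet G).ncard = 3 ∧ Cfsg.HasNormalPComplement 2 G := by
  haveI : Fact (Nat.Prime 2) := ⟨Nat.prime_two⟩
  have h2 : 2 ∣ m := Dvd.dvd.trans (by norm_num) h4
  have hyp := klein_four_normalizer (P : Subgroup G) eP h4 hzs hzt
  have hF : Cfsg.Agent.Lib.Helper21.FrobHyp 2 G := Cfsg.Agent.Lib.Helper21.frobHyp_of_sylow P
    (fun Q hQ g hg hodd =>
      Cfsg.Agent.S1254.centralizes_of_dihedral (P : Subgroup G) eP P.isPGroup' hyp Q hQ g hg hodd)
  obtain ⟨N, hNn, hNc⟩ := hF.exists_normal_complement P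
  refine ⟨?_, ⟨P, N, hNn, hNc⟩⟩
  have hst : ¬ IsConj (emb (P : Subgroup G) eP (sr 0)) (emb (P : Subgroup G) eP (sr 1)) := by
    intro h
    obtain ⟨g, hg⟩ := isConj_iff.mp h
    obtain ⟨p, hpP, hp⟩ := conj_in_sylow_of_normal_complement P N hNn hNc _ _
      (emb_mem _ eP _) (emb_mem _ eP _) g hg
    obtain ⟨y, rfl⟩ := exists_emb_eq (P : Subgroup G) eP p hpP
    rw [← map_inv, ← map_mul, ← map_mul] at hp
    exact sr_zero_not_conj_sr_one h2 y (emb_injective _ eP hp)
  rw [invSet_eq P eP h4, Set.ncard_eq_three]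
  refine ⟨_, _, _, ?_, ?_, ?_, rfl⟩
  · intro h; exact hzs (ConjClasses.mk_eq_mk_iff_isConj.mp h)
  · intro h; exact hzt (ConjClasses.mk_eq_mk_iff_isConj.mp h)
  · intro h; exact hst (ConjClasses.mk_eq_mk_iff_isConj.mp h)

/-- if `s`, `t` lie in a subgroup `N` then so does `P` -/
theorem le_of_s_t_mem (N : Subgroup G) (hs : emb (P : Subgroup G) eP (sr 0) ∈ N)
    (ht : emb (P : Subgroup G) eP (sr 1) ∈ N) : (P : Subgroup G) ≤ N := by
  have hr1 : emb (P : Subgroup G) eP (r 1) ∈ N := by
    have : (r 1 : DihedralGroup m) = sr 0 * sr 1 := by rw [sr_mul_sr, sub_zero]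
    rw [this, map_mul]; exact N.mul_mem hs ht
  have hr : ∀ i : ZMod m, emb (P : Subgroup G) eP (r i) ∈ N := by
    intro i
    have : (r i : DihedralGroup m) = (r 1) ^ i.val := by
      rw [r_one_pow, ZMod.natCast_zmod_val]
    rw [this, map_pow]; exact N.pow_mem hr1 _
  intro u hu
  obtain ⟨x, rfl⟩ := exists_emb_eq (P : Subgroup G) eP u hu
  rcases x with i | i
  · exact hr i
  · have : (sr i : DihedralGroup m) = sr 0 * r i := by rw [sr_mul_r, zero_add]
    rw [this, map_mul]; exact N.mul_mem hs (hr i)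

/-- Case II: one class and no normal subgroup of index two -/
theorem caseII (h4 : 4 ∣ m)
    (hzs : IsConj (emb (P : Subgroup G) eP (r ((m / 2 : ℕ) : ZMod m))) (emb (P : Subgroup G) eP (sr 0)))
    (hzt : IsConj (emb (P : Subgroup G) eP (r ((m / 2 : ℕ) : ZMod m))) (emb (P : Subgroup G) eP (sr 1))) :
    (invSet G).ncard = 1 ∧ ∀ N : Subgroup G, N.Normal → N.index ≠ 2 := by
  haveI : Fact (Nat.Prime 2) := ⟨Nat.prime_two⟩
  constructor
  · rw [invSet_eq P eP h4, ← ConjClasses.mk_eq_mk_iff_isConj.mpr hzs,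
      ← ConjClasses.mk_eq_mk_iff_isConj.mpr hzt]
    simp
  · intro N hNn hidx
    have hzN : emb (P : Subgroup G) eP (r ((m / 2 : ℕ) : ZMod m)) ∈ N := by
      have : (r ((m / 2 : ℕ) : ZMod m) : DihedralGroup m) = (r ((m / 4 : ℕ) : ZMod m)) ^ 2 := by
        rw [pow_two, r_mul_r, quarter_add_quarter h4]
      rw [this, map_pow]
      exact Subgroup.sq_mem_of_index_two hidx _
    have hsN : emb (P : Subgroup G) eP (sr 0) ∈ N := by
      obtain ⟨g, hg⟩ := isConj_iff.mp hzs
      rw [← hg]; exact hNn.conj_mem _ hzN g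
    have htN : emb (P : Subgroup G) eP (sr 1) ∈ N := by
      obtain ⟨g, hg⟩ := isConj_iff.mp hzt
      rw [← hg]; exact hNn.conj_mem _ hzN g
    have hle := le_of_s_t_mem P eP N hsN htN
    have hdvd := Subgroup.index_dvd_of_le hle
    rw [hidx] at hdvd
    exact P.not_dvd_index hdvd

theorem parHom_r (h2 : 2 ∣ m) (i : ZMod m) :
    parHom h2 (r i) = Multiplicative.ofAdd (ZMod.castHom h2 (ZMod 2) i) := rfl

theorem parHom_sr (h2 : 2 ∣ m) (i : ZMod m) :
    parHom h2 (sr i) = Multiplicative.ofAdd (ZMod.castHom h2 (ZMod 2) i) := rfl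

theorem two_dvd_val_of_cast (h2 : 2 ∣ m) (i : ZMod m) (h : ZMod.castHom h2 (ZMod 2) i = 0) :
    2 ∣ i.val := by
  rw [ZMod.castHom_apply, ← ZMod.natCast_val, ZMod.natCast_eq_zero_iff] at h
  exact h

theorem zmod_two_one_ne_zero : ¬ (1 : ZMod 2) = 0 := by decide

theorem zmod_two_zero_ne_one : ¬ (0 : ZMod 2) = 1 := by decide

theorem mult_zmod_two_cases (a : Multiplicative (ZMod 2)) :
    Xor (a * Multiplicative.ofAdd 1 = 1) (a = 1) := by
  revert a; decide

/-- Case III: two classes, a normal subgroup of index two, none of index four -/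
theorem caseIII (h4 : 4 ∣ m)
    (hzs : IsConj (emb (P : Subgroup G) eP (r ((m / 2 : ℕ) : ZMod m))) (emb (P : Subgroup G) eP (sr 0)))
    (hzt : ¬ IsConj (emb (P : Subgroup G) eP (r ((m / 2 : ℕ) : ZMod m))) (emb (P : Subgroup G) eP (sr 1))) :
    (invSet G).ncard = 2 ∧ (∃ N : Subgroup G, N.Normal ∧ N.index = 2) ∧
      ∀ N : Subgroup G, N.Normal → N.index ≠ 4 := by
  haveI : Fact (Nat.Prime 2) := ⟨Nat.prime_two⟩
  have h2 : 2 ∣ m := Dvd.dvd.trans (by norm_num) h4
  set z := emb (P : Subgroup G) eP (r ((m / 2 : ℕ) : ZMod m)) with hz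
  set s := emb (P : Subgroup G) eP (sr 0) with hs
  set t := emb (P : Subgroup G) eP (sr 1) with ht
  -- the maximal subgroup M₁
  set M₁ : Subgroup G := (parHom h2).ker.map (emb (P : Subgroup G) eP) with hM₁
  have hmemM : ∀ y : DihedralGroup m, emb (P : Subgroup G) eP y ∈ M₁ ↔ parHom h2 y = 1 := by
    intro y
    constructor
    · rintro ⟨w, hw, hwy⟩
      rw [← emb_injective _ eP hwy]; exact hw
    · intro h; exact ⟨y, h, rfl⟩
  have hM₁P : M₁ ≤ (P : Subgroup G) := by
    rintro _ ⟨w, -, rfl⟩; exact emb_mem _ eP w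
  have htM : t ∉ M₁ := by
    rw [ht, hmemM, parHom_sr]
    intro h
    have : ZMod.castHom h2 (ZMod 2) 1 = 0 := Multiplicative.ofAdd.injective h
    rw [map_one] at this
    exact absurd this zmod_two_one_ne_zero
  have hidx : M₁.relIndex (P : Subgroup G) = 2 := by
    rw [Subgroup.relIndex_eq_two_iff]
    refine ⟨t, emb_mem _ eP _, ?_⟩
    intro b hb
    obtain ⟨y, rfl⟩ := exists_emb_eq (P : Subgroup G) eP b hb
    rw [ht, ← map_mul, hmemM, hmemM, map_mul, parHom_sr, map_one]
    exact mult_zmod_two_cases _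
  -- elements of M₁ lie in any normal subgroup containing z, s and r 2
  have hMle : ∀ N : Subgroup G, emb (P : Subgroup G) eP (r 2) ∈ N → s ∈ N → M₁ ≤ N := by
    intro N hr2 hsN
    have hr : ∀ i : ZMod m, 2 ∣ i.val → emb (P : Subgroup G) eP (r i) ∈ N := by
      intro i ⟨k, hk⟩
      have : (r i : DihedralGroup m) = (r 2) ^ k := by
        rw [r_pow]
        congr 1
        rw [← ZMod.natCast_zmod_val i, hk]; push_cast; ring
      rw [this, map_pow]; exact N.pow_mem hr2 _
    rintro _ ⟨w, hw, rfl⟩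
    have hw : parHom h2 w = 1 := hw
    rcases w with i | i
    · rw [parHom_r] at hw
      exact hr i (two_dvd_val_of_cast h2 i (Multiplicative.ofAdd.injective hw))
    · rw [parHom_sr] at hw
      have : (sr i : DihedralGroup m) = sr 0 * r i := by rw [sr_mul_r, zero_add]
      rw [this, map_mul]
      exact N.mul_mem hsN (hr i (two_dvd_val_of_cast h2 i (Multiplicative.ofAdd.injective hw)))
  refine ⟨?_, ?_, ?_⟩
  · rw [invSet_eq P eP h4, ← ConjClasses.mk_eq_mk_iff_isConj.mpr hzs]
    rw [Set.insert_eq_of_mem (Set.mem_insert _ _)]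
    apply Set.ncard_pair
    intro h; exact hzt (ConjClasses.mk_eq_mk_iff_isConj.mp h)
  · rcases Cfsg.Agent.S0111.result P M₁ hM₁P hidx t (orderOf_s_emb _ eP 1) (emb_mem _ eP _) htM with
      ⟨M, hMn, hMi, -⟩ | ⟨g, hg⟩
    · exact ⟨M, hMn, hMi⟩
    · exfalso
      obtain ⟨y, hy⟩ := exists_emb_eq (P : Subgroup G) eP _ (hM₁P hg)
      rw [← hy, hmemM] at hg
      have hord : orderOf y = 2 := by
        rw [← orderOf_emb (P : Subgroup G) eP, hy]
        have : g * t * g⁻¹ = MulAut.conj g t := rfl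
        rw [this, MulEquiv.orderOf_eq]; exact orderOf_s_emb _ eP 1
      have hy2 : y * y = 1 := by rw [← pow_two, ← hord, pow_orderOf_eq_one]
      have hy1 : y ≠ 1 := by rintro rfl; simp at hord
      have hty : IsConj t (emb (P : Subgroup G) eP y) := isConj_iff.mpr ⟨g, hy.symm⟩
      rcases invol_classify h2 y hy2 hy1 with rfl | ⟨i, rfl⟩
      · exact hzt hty.symm
      · obtain ⟨c, hc | hc⟩ := sr_conj i
        · have h1 : IsConj (emb (P : Subgroup G) eP (sr i)) s := isConj_emb _ eP _ _ c hc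
          exact hzt (hzs.trans (h1.symm.trans hty.symm))
        · have h1 := congrArg (parHom h2) hc
          rw [map_mul, map_mul, map_inv, mul_comm, inv_mul_cancel_left, hg, parHom_sr, map_one] at h1
          have : (0 : ZMod 2) = 1 := Multiplicative.ofAdd.injective h1
          exact absurd this zmod_two_zero_ne_one
  · intro N hNn hidx4
    haveI := hNn
    -- G ⧸ N is commutative
    have hcard : Nat.card (G ⧸ N) = 2 ^ 2 := by rw [← Subgroup.index_eq_card, hidx4]; norm_num
    have hcomm : ∀ a b : G ⧸ N, a * b = b * a := by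
      haveI := IsPGroup.isMulCommutative_of_card_eq_prime_sq hcard
      intro a b
      exact mul_comm' a b
    have hcommN : ∀ a b : G, a * b * a⁻¹ * b⁻¹ ∈ N := by
      intro a b
      rw [← QuotientGroup.eq_one_iff]
      simp only [QuotientGroup.mk_mul, QuotientGroup.mk_inv]
      rw [hcomm (a : G ⧸ N) b]; group
    have hr2 : emb (P : Subgroup G) eP (r 2) ∈ N := by
      have : (r 2 : DihedralGroup m) = r 1 * sr 0 * (r 1)⁻¹ * (sr 0)⁻¹ := by
        rw [inv_r, inv_sr, r_mul_sr, sr_mul_r, sr_mul_sr]; congr 1; ring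
      rw [this, map_mul, map_mul, map_mul, map_inv, map_inv]
      exact hcommN _ _
    have hzN : z ∈ N := by
      have hh : 2 ∣ (m / 2) := by
        obtain ⟨c, hc⟩ := h4
        exact ⟨c, by omega⟩
      obtain ⟨k, hk⟩ := hh
      have : (r ((m / 2 : ℕ) : ZMod m) : DihedralGroup m) = (r 2) ^ k := by
        rw [r_pow]; congr 1; rw [hk]; push_cast; ring
      rw [hz, this, map_pow]; exact N.pow_mem hr2 _
    have hsN : s ∈ N := by
      obtain ⟨g, hg⟩ := isConj_iff.mp hzs
      rw [← hg]; exact hNn.conj_mem _ hzN g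
    have hle : M₁ ≤ N := hMle N hr2 hsN
    have hdvd : N.relIndex (P : Subgroup G) ∣ 2 := by
      have := Subgroup.relIndex_dvd_of_le_left (P : Subgroup G) hle
      rw [hidx] at this
      exact this
    -- P ⊔ N = ⊤
    have htop : (P : Subgroup G) ⊔ N = ⊤ := by
      rw [← Subgroup.index_eq_one]
      have h1 : ((P : Subgroup G) ⊔ N).index ∣ (P : Subgroup G).index :=
        Subgroup.index_dvd_of_le le_sup_left
      have h2' : ((P : Subgroup G) ⊔ N).index ∣ 4 := by
        rw [← hidx4]; exact Subgroup.index_dvd_of_le le_sup_right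
      have hodd : Nat.Coprime (P : Subgroup G).index 4 := by
        have : Nat.Coprime (P : Subgroup G).index 2 := by
          rw [Nat.coprime_comm, Nat.Prime.coprime_iff_not_dvd Nat.prime_two]
          exact P.not_dvd_index
        exact Nat.Coprime.pow_right 2 this
      exact Nat.eq_one_of_dvd_coprimes hodd h1 h2'
    have h4' : N.relIndex (P : Subgroup G) = 4 := by
      rw [← Subgroup.relIndex_sup_right, htop, Subgroup.relIndex_top_right, hidx4]
    rw [h4'] at hdvd
    omega

end classes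

/-- Let G be a finite group whose Sylow 2-subgroups are dihedral of order 2 ^ n with n ≥ 3, and count the conjugacy classes of involutions of G. Then exactly one of the following holds: there is one class of involutions and no normal subgroup of index 2; there are two classes of involutions, a normal subgroup of index 2 and none of index 4; there are three classes of involutions and G has a normal 2-complement. -/
theorem result {G : Type*} [Group G] [Finite G] (P : Sylow 2 G) (n : ℕ) (hn : 3 ≤ n) (hdih : Nonempty (↥(P : Subgroup G) ≃* DihedralGroup (2 ^ (n - 1)))) : (Nat.card {C : ConjClasses G // ∃ g : G, ConjClasses.mk g = C ∧ orderOf g = 2} = 1 ∧ ∀ N : Subgroup G, N.Normal → N.index ≠ 2) ∨ (Nat.card {C : ConjClasses G // ∃ g : G, ConjClasses.mk g = C ∧ orderOf g = 2} = 2 ∧ (∃ N : Subgroup G, N.Normal ∧ N.index = 2) ∧ ∀ N : Subgroup G, N.Normal → N.index ≠ 4) ∨ (Nat.card {C : ConjClasses G // ∃ g : G, ConjClasses.mk g = C ∧ orderOf g = 2} = 3 ∧ Cfsg.HasNormalPComplement 2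 G) := by
  obtain ⟨eP⟩ := hdih
  have h4 : 4 ∣ 2 ^ (n - 1) := by
    refine ⟨2 ^ (n - 3), ?_⟩
    have : n - 1 = 2 + (n - 3) := by omega
    rw [this, pow_add]; norm_num
  have h2 : 2 ∣ 2 ^ (n - 1) := Dvd.dvd.trans (by norm_num) h4
  haveI : NeZero (2 ^ (n - 1)) := ⟨by positivity⟩
  rw [card_invSet]
  by_cases hzs : IsConj (emb (P : Subgroup G) eP (r ((2 ^ (n - 1) / 2 : ℕ) : ZMod (2 ^ (n - 1)))))
      (emb (P : Subgroup G) eP (sr 0))
  · by_cases hzt : IsConj (emb (P : Subgroup G) eP (r ((2 ^ (n - 1) / 2 : ℕ) : ZMod (2 ^ (n - 1)))))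
        (emb (P : Subgroup G) eP (sr 1))
    · left; exact caseII P eP h4 hzs hzt
    · right; left; exact caseIII P eP h4 hzs hzt
  · by_cases hzt : IsConj (emb (P : Subgroup G) eP (r ((2 ^ (n - 1) / 2 : ℕ) : ZMod (2 ^ (n - 1)))))
        (emb (P : Subgroup G) eP (sr 1))
    · right; left
      have hneg : -(((2 ^ (n - 1) / 2 : ℕ) : ZMod (2 ^ (n - 1)))) = ((2 ^ (n - 1) / 2 : ℕ) : ZMod (2 ^ (n - 1))) := by
        rw [neg_eq_iff_add_eq_zero]; exact half_add_half h2
      have e1 : emb (P : Subgroup G) (eP.trans swapEquiv) (r ((2 ^ (n - 1) / 2 : ℕ) : ZMod (2 ^ (n - 1)))) =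
          emb (P : Subgroup G) eP (r ((2 ^ (n - 1) / 2 : ℕ) : ZMod (2 ^ (n - 1)))) := by
        rw [emb_trans_swap]; simp only [swapFun]; rw [hneg]
      have e2 : emb (P : Subgroup G) (eP.trans swapEquiv) (sr 0) = emb (P : Subgroup G) eP (sr 1) := by
        rw [emb_trans_swap]; simp only [swapFun, sub_zero]
      have e3 : emb (P : Subgroup G) (eP.trans swapEquiv) (sr 1) = emb (P : Subgroup G) eP (sr 0) := by
        rw [emb_trans_swap]; simp only [swapFun, sub_self]
      exact caseIII P (eP.trans swapEquiv) h4 (by rw [e1, e2]; exact hzt) (by rw [e1, e3]; exact hzs)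
    · right; right; exact caseI P eP h4 hzs hzt

end Cfsg.Agent.S3864
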