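import Mathlib
import Cfsg.Statements.S0107
import Cfsg.Agent.S3864

set_option autoImplicit false
open Cfsg

namespace Cfsg.Agent.S0107

open DihedralGroup Cfsg.Agent.S3864

/-- a normal subgroup of `2`-power index contains every element of odd order -/
theorem mem_of_odd_order {G : Type*} [Group G] (N : Subgroup G) [N.Normal] (k : ℕ)
    (hidx : N.index = 2 ^ k) (g : G) (hg : (orderOf g).Coprime 2) : g ∈ N := by
  rw [← QuotientGroup.eq_one_iff]
  apply Cfsg.Agent.S1254.eq_one_of_orderOf_coprime _ (orderOf g) k _ _ hg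
  · rw [← QuotientGroup.mk_pow, pow_orderOf_eq_one]; rfl
  · rw [← hidx, Subgroup.index_eq_card]; exact pow_card_eq_one'

/-- a proper normal subgroup of `2`-power index contradicts `O^2(G) = G` -/
theorem false_of_normal_two_power_index {G : Type*} [Group G] (hO : Cfsg.pResidual 2 G = ⊤)
    (N : Subgroup G) (hN : N.Normal) (k : ℕ) (hk : k ≠ 0) (hidx : N.index = 2 ^ k) : False := by
  haveI := hN
  have hle : Cfsg.pResidual 2 G ≤ N := by
    rw [Cfsg.pResidual, Subgroup.closure_le]
    intro g hg
    exact mem_of_odd_order N k hidx g hg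
  rw [hO, top_le_iff] at hle
  rw [hle, Subgroup.index_top] at hidx
  have : 2 ≤ 2 ^ k := by
    calc 2 = 2 ^ 1 := by norm_num
      _ ≤ 2 ^ k := Nat.pow_le_pow_right (by norm_num) (by omega)
  omega

/-- A finite group with no nontrivial 2-group quotient and dihedral Sylow 2-subgroups of order at least 8 has a single class of involutions. -/
theorem result {G : Type*} [Group G] [Finite G] (T : Sylow 2 G) (n : ℕ) (hn : 2 ≤ n) (hT : Nonempty ((T : Subgroup G) ≃* DihedralGroup (2 ^ n))) (hO : Cfsg.pResidual 2 G = ⊤) (x y : G) (hx : orderOf x = 2) (hy : orderOf y = 2) : ∃ g : G, g * x * g⁻¹ = y := by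
  haveI : Fact (Nat.Prime 2) := ⟨Nat.prime_two⟩
  obtain ⟨eP⟩ := hT
  have h4 : 4 ∣ 2 ^ n := by
    refine ⟨2 ^ (n - 2), ?_⟩
    have : n = 2 + (n - 2) := by omega
    rw [this, pow_add]; norm_num
  have h2 : 2 ∣ 2 ^ n := Dvd.dvd.trans (by norm_num) h4
  haveI : NeZero (2 ^ n) := ⟨by positivity⟩
  by_cases hzs : IsConj (emb (T : Subgroup G) eP (r ((2 ^ n / 2 : ℕ) : ZMod (2 ^ n))))
      (emb (T : Subgroup G) eP (sr 0))
  · by_cases hzt : IsConj (emb (T : Subgroup G) eP (r ((2 ^ n / 2 : ℕ) : ZMod (2 ^ n))))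
        (emb (T : Subgroup G) eP (sr 1))
    · -- all involutions are conjugate to z
      have hall : ∀ w : G, orderOf w = 2 →
          IsConj w (emb (T : Subgroup G) eP (r ((2 ^ n / 2 : ℕ) : ZMod (2 ^ n)))) := by
        intro w hw
        obtain ⟨c, hc⟩ := invol_conj_into T w hw
        have hord : orderOf (c * w * c⁻¹) = 2 := by
          have : c * w * c⁻¹ = MulAut.conj c w := rfl
          rw [this, MulEquiv.orderOf_eq]; exact hw
        have h1 : IsConj w (c * w * c⁻¹) := isConj_iff.mpr ⟨c, rfl⟩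
        rcases invol_in_P (T : Subgroup G) eP h2 _ hc hord with h | h | h
        · rw [← h]; exact h1
        · exact h1.trans (h.trans hzs.symm)
        · exact h1.trans (h.trans hzt.symm)
      exact isConj_iff.mp ((hall x hx).trans (hall y hy).symm)
    · exfalso
      obtain ⟨-, ⟨N, hNn, hNi⟩, -⟩ := caseIII T eP h4 hzs hzt
      exact false_of_normal_two_power_index hO N hNn 1 one_ne_zero (by rw [hNi]; norm_num)
  · by_cases hzt : IsConj (emb (T : Subgroup G) eP (r ((2 ^ n / 2 : ℕ) : ZMod (2 ^ n))))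
        (emb (T : Subgroup G) eP (sr 1))
    · exfalso
      have hneg : -(((2 ^ n / 2 : ℕ) : ZMod (2 ^ n))) = ((2 ^ n / 2 : ℕ) : ZMod (2 ^ n)) := by
        rw [neg_eq_iff_add_eq_zero]; exact half_add_half h2
      have e1 : emb (T : Subgroup G) (eP.trans swapEquiv) (r ((2 ^ n / 2 : ℕ) : ZMod (2 ^ n))) =
          emb (T : Subgroup G) eP (r ((2 ^ n / 2 : ℕ) : ZMod (2 ^ n))) := by
        rw [emb_trans_swap]; simp only [swapFun]; rw [hneg]
      have e2 : emb (T : Subgroup G) (eP.trans swapEquiv) (sr 0) = emb (T : Subgroup G) eP (sr 1) := by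
        rw [emb_trans_swap]; simp only [swapFun, sub_zero]
      have e3 : emb (T : Subgroup G) (eP.trans swapEquiv) (sr 1) = emb (T : Subgroup G) eP (sr 0) := by
        rw [emb_trans_swap]; simp only [swapFun, sub_self]
      obtain ⟨-, ⟨N, hNn, hNi⟩, -⟩ := caseIII T (eP.trans swapEquiv) h4
        (by rw [e1, e2]; exact hzt) (by rw [e1, e3]; exact hzs)
      exact false_of_normal_two_power_index hO N hNn 1 one_ne_zero (by rw [hNi]; norm_num)
    · exfalso
      obtain ⟨-, ⟨P', N, hNn, hNc⟩⟩ := caseI T eP h4 hzs hzt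
      have hNidx : N.index = Nat.card (P' : Subgroup G) :=
        Cfsg.Agent.Lib.Helper1.index_eq_card_of_isComplement' hNc
      obtain ⟨k, hk⟩ := IsPGroup.iff_card.mp P'.2
      have hk0 : k ≠ 0 := by
        rintro rfl
        -- the Sylow 2-subgroup would be trivial
        have h1 : Nat.card (T : Subgroup G) = Nat.card (P' : Subgroup G) := by
          rw [Sylow.card_eq_multiplicity, Sylow.card_eq_multiplicity]
        have h3 : Nat.card (T : Subgroup G) = 2 * 2 ^ n := by
          rw [Nat.card_congr eP.toEquiv, DihedralGroup.nat_card]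
        rw [h1, hk] at h3
        have : 0 < 2 ^ n := by positivity
        omega
      exact false_of_normal_two_power_index hO N hNn k hk0 (hNidx.trans hk)

end Cfsg.Agent.S0107
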