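import Mathlib
import Cfsg.Statements.S3279
import Cfsg.Agent.S0215
import Cfsg.Agent.Lib.Helper19.ThreeInv
-- import your own Cfsg.Agent.* helpers here

set_option autoImplicit false
open Cfsg

namespace Cfsg.Agent.S3279

/-- Let G be a finite simple group and x an involution of G whose centralizer contains at most three involutions. Then C_G(x) contains a Sylow 2-subgroup of G, and all involutions of G are conjugate. -/
theorem result {G : Type*} [Group G] [Finite G] [IsSimpleGroup G] (x : G) (hx : orderOf x = 2)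
    (h3 : Nat.card {u : ↥(Subgroup.centralizer ({x} : Set G)) // orderOf u = 2} ≤ 3) :
    (∃ S : Sylow 2 G, (S : Subgroup G) ≤ Subgroup.centralizer ({x} : Set G)) ∧
      ∀ u v : G, orderOf u = 2 → orderOf v = 2 → IsConj u v := by
  have hI : (Cfsg.Agent.Lib.Helper19.ThreeInv.invs x).ncard ≤ 3 := by
    rw [← Nat.card_coe_set_eq]
    refine le_trans ?_ h3
    apply Nat.card_le_card_of_injective
      (fun u : Cfsg.Agent.Lib.Helper19.ThreeInv.invs x =>
        (⟨⟨u.1, Subgroup.mem_centralizer_singleton_iff.mpr u.2.2⟩, by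
          rw [← Subgroup.orderOf_coe]; exact u.2.1⟩ :
          {u : ↥(Subgroup.centralizer ({x} : Set G)) // orderOf u = 2}))
    intro u v h
    apply Subtype.ext
    exact congrArg (fun w : {u : ↥(Subgroup.centralizer ({x} : Set G)) // orderOf u = 2} =>
      ((w.1 : ↥(Subgroup.centralizer ({x} : Set G))) : G)) h
  obtain ⟨S, hS, hxS⟩ := Cfsg.Agent.Lib.Helper19.ThreeInv.two_central hx hI
  exact ⟨⟨S, hS⟩, Cfsg.Agent.Lib.Helper19.ThreeInv.one_class hx hI S hS hxS
    (fun u hu huS hiso => Cfsg.Agent.S0215.result S u hu huS hiso)⟩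

end Cfsg.Agent.S3279
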