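import Cfsg.Statements.S4480
import Cfsg.Agent.S4479
import Cfsg.Agent.Lib.Helper24.KleinOrder8

set_option autoImplicit false
open Cfsg

namespace Cfsg.Agent.S4480

theorem result {G : Type*} [Group G] [Finite G] (M : Ideal Cfsg.AlgInt) (hM : Cfsg.IsPModular 2 M) (g₀ : ℕ) (hg₀ : Odd g₀) (hG : Nat.card G = 4 * g₀) (hnc : ¬ ∃ N : Subgroup G, N.Normal ∧ Nat.card N = g₀) (P : Sylow 2 G) (J : G) (hJ : J ∈ (P : Subgroup G)) (hJ2 : orderOf J = 2) (χ₁ χ₂ χ₃ : Cfsg.IrrCharacter G) (ε₁ ε₂ ε₃ : ℤ) (hB : Cfsg.principalBlock M G = {χ : Cfsg.IrrCharacter G | (χ : G → ℂ) = (fun _ => 1) ∨ χ = χ₁ ∨ χ = χ₂ ∨ χ = χ₃}) (hdist : (χ₁ : G → ℂ) ≠ (fun _ => 1) ∧ (χ₂ : G → ℂ) ≠ (fun _ => 1) ∧ (χ₃ : G → ℂ) ≠ (fun _ => 1) ∧ χ₁ ≠ χ₂ ∧ χ₁ ≠ χ₃ ∧ χ₂ ≠ χ₃) (hε : (ε₁ = 1 ∨ ε₁ = -1) ∧ (ε₂ = 1 ∨ ε₂ = -1) ∧ (ε₃ = 1 ∨ ε₃ = -1)) (hval : (χ₁ : G → ℂ) J = ε₁ ∧ (χ₂ : G →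 ℂ) J = ε₂ ∧ (χ₃ : G → ℂ) J = ε₃) (hprod : ε₁ * ε₂ * ε₃ = -1) (hε₃ : ε₃ = -1) : ∃ m : ℕ, 4 * Nat.card (Subgroup.centralizer ({J} : Set G)) = m * Nat.card (Subgroup.centralizer ((P : Subgroup G) : Set G)) * (Cfsg.charDegree (χ₃ : G → ℂ) + 1) ∧ 8 * Nat.card G = m ^ 3 * Nat.card (Subgroup.centralizer ((P : Subgroup G) : Set G)) * (Cfsg.charDegree (χ₃ : G → ℂ) ^ 3 - Cfsg.charDegree (χ₃ : G → ℂ)) := by
  classical
  haveI : Fintype G := Fintype.ofFinite G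
  obtain ⟨hcard, hK, hall⟩ := Cfsg.Agent.Lib.Helper24.kf_setup g₀ hg₀ hG hnc P
  have hPsq : ∀ x ∈ (P : Subgroup G), x * x = 1 := fun x hx =>
    Cfsg.Agent.Lib.Helper24.ks_sq _ hK hx
  obtain ⟨O, hO, hOcore⟩ := Cfsg.Agent.Lib.Helper24.kf_exists_O J hJ2 P hJ hcard hPsq
  have h4479 := Cfsg.Agent.S4479.result M hM g₀ hg₀ hG hnc P J hJ hJ2 χ₁ χ₂ χ₃ ε₁ ε₂ ε₃ hB hdist
    hε hval
  have hrel := Cfsg.Agent.Lib.Helper24.kf_hrel M hM J hJ2 χ₁ χ₂ χ₃ ε₁ ε₂ ε₃ hB hdist hval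
  obtain ⟨hd1, hp1⟩ := Cfsg.Agent.Lib.Helper25.charDegree_irr χ₁
  obtain ⟨hd2, hp2⟩ := Cfsg.Agent.Lib.Helper25.charDegree_irr χ₂
  obtain ⟨hd3, hp3⟩ := Cfsg.Agent.Lib.Helper25.charDegree_irr χ₃
  set f₁ := Cfsg.charDegree (χ₁ : G → ℂ) with hf₁
  set f₂ := Cfsg.charDegree (χ₂ : G → ℂ) with hf₂
  set f₃ := Cfsg.charDegree (χ₃ : G → ℂ) with hf₃
  set c := Nat.card (Subgroup.centralizer ({J} : Set G)) with hc
  set cP := Nat.card (Subgroup.centralizer ((P : Subgroup G) : Set G)) with hcP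
  have he12 : ε₁ = 1 ∧ ε₂ = 1 := by
    rw [hε₃] at hprod hrel
    rcases hε.1 with h1 | h1 <;> rcases hε.2.1 with h2 | h2
    · exact ⟨h1, h2⟩
    · rw [h1, h2] at hprod; norm_num at hprod
    · rw [h1, h2] at hprod; norm_num at hprod
    · exfalso
      rw [h1, h2] at hrel
      have e1 : (1 : ℤ) ≤ f₁ := by exact_mod_cast hp1
      have e2 : (1 : ℤ) ≤ f₂ := by exact_mod_cast hp2
      have e3 : (1 : ℤ) ≤ f₃ := by exact_mod_cast hp3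
      linarith
  obtain ⟨he1, he2⟩ := he12
  subst he1 he2 hε₃
  have hconj := Cfsg.Agent.Lib.Helper24.kf_irrConj_eq M hM hO hOcore χ₁ χ₂ χ₃ hB hdist hval
  have hf12 : f₂ = f₁ := by
    have h1 : ((f₂ : ℕ) : ℂ) = ((f₁ : ℕ) : ℂ) := by
      rw [hd2, ← hconj, Cfsg.Agent.Lib.Helper25.irrConj_apply, ← hd1, Complex.conj_natCast]
    exact_mod_cast h1
  have hq : f₃ = 2 * f₁ + 1 := by
    rw [hf12] at hrel
    omega
  have hcpos : 0 < c := Nat.card_pos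
  have hcPpos : 0 < cP := Nat.card_pos
  have hNa : Nat.card G = c * (Subgroup.centralizer ({J} : Set G)).index :=
    (Subgroup.card_mul_index _).symm
  have hJval3 : (χ₃ : G → ℂ) J = -1 := by rw [hval.2.2]; norm_num
  have hJval1 : (χ₁ : G → ℂ) J = 1 := by rw [hval.1]; norm_num
  have hqa : f₃ ∣ (Subgroup.centralizer ({J} : Set G)).index := by
    apply Cfsg.Agent.Lib.helper2.nat_dvd_of_isIntegral_div _ _ hp3.ne'
    have := Cfsg.Agent.Lib.helper2.irr_central_char_integral χ₃ J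
    rw [hJval3, ← hd3] at this
    have h2 := this.neg
    convert h2 using 1
    ring
  have hfa : f₁ ∣ (Subgroup.centralizer ({J} : Set G)).index := by
    apply Cfsg.Agent.Lib.helper2.nat_dvd_of_isIntegral_div _ _ hp1.ne'
    have := Cfsg.Agent.Lib.helper2.irr_central_char_integral χ₁ J
    rw [hJval1, ← hd1, mul_one] at this
    exact this
  have hfull : Nat.card G * ((f₁ + 1) * (f₁ + 1) * (2 * f₁)) * cP ^ 2 =
      8 * c ^ 3 * (f₁ * f₁ * f₃) := by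
    rw [hf12] at h4479
    have hf3q : (f₃ : ℚ) = 2 * f₁ + 1 := by exact_mod_cast hq
    have hden : (((f₁ : ℚ) + ((1 : ℤ) : ℚ)) * ((f₁ : ℚ) + ((1 : ℤ) : ℚ)) *
        ((f₃ : ℚ) + ((-1 : ℤ) : ℚ))) = ((f₁ : ℚ) + 1) * (f₁ + 1) * (2 * f₁) := by
      rw [hf3q]; push_cast; ring
    have hdenne : ((f₁ : ℚ) + 1) * (f₁ + 1) * (2 * f₁) ≠ 0 := by
      have : (0 : ℚ) < f₁ := by exact_mod_cast hp1
      positivity
    have hcPq : (cP : ℚ) ≠ 0 := by exact_mod_cast hcPpos.ne'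
    rw [hden, eq_div_iff (pow_ne_zero 2 hcPq), mul_div_assoc', div_mul_eq_mul_div,
      eq_div_iff hdenne] at h4479
    have h5 : ((Nat.card G * ((f₁ + 1) * (f₁ + 1) * (2 * f₁)) * cP ^ 2 : ℕ) : ℚ) =
        ((8 * c ^ 3 * (f₁ * f₁ * f₃) : ℕ) : ℚ) := by
      push_cast
      linear_combination h4479
    exact_mod_cast h5
  exact Cfsg.Agent.Lib.Helper24.kf_arith (Nat.card G) c cP _ f₁ f₃ hcpos hcPpos hp1 hq hNa hqa hfa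
    hfull

end Cfsg.Agent.S4480
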