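import Cfsg.Statements.S3277
import Cfsg.Agent.Lib.Helper9.V4CentF
import Cfsg.Agent.S3278

set_option autoImplicit false
open Cfsg

namespace Cfsg.Agent.S3277

open Cfsg.Agent.Lib.Helper9

/-- Let G be a finite group containing an involution whose centralizer is elementary abelian of order 4. If G has no normal 2-complement and no normal elementary abelian 2-subgroup of order 2 or 4, then G is isomorphic to the alternating group of degree 5 (that is, to PSL(2, 5)). -/
theorem result {G : Type*} [Group G] [Finite G] (x : G) (hx : orderOf x = 2)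
    (hC4 : Nat.card ↥(Subgroup.centralizer ({x} : Set G)) = 4) (hCe : ∀ c ∈ Subgroup.centralizer ({x} : Set G), c ^ 2 = 1)
    (hnc : ¬ Cfsg.HasNormalPComplement 2 G)
    (hne : ∀ E : Subgroup G, E.Normal → Cfsg.IsElementaryAbelian 2 E → Nat.card ↥E ≠ 2 ∧ Nat.card ↥E ≠ 4) :
    Nonempty (G ≃* ↥(alternatingGroup (Fin 5))) := by
  classical
  haveI : Fact (Nat.Prime 2) := ⟨Nat.prime_two⟩
  have hx1 : x ≠ 1 := by
    intro h
    rw [h, orderOf_one] at hx
    omega
  have hx2 : x * x = 1 := by
    have := pow_orderOf_eq_one x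
    rw [hx, pow_two] at this
    exact this
  have hVe : ∀ c ∈ Subgroup.centralizer ({x} : Set G), c * c = 1 := by
    intro c hc
    rw [← pow_two]; exact hCe c hc
  have hVp : IsPGroup 2 (Subgroup.centralizer ({x} : Set G)) :=
    IsPGroup.of_card (n := 2) (by rw [hC4]; norm_num)
  obtain ⟨S, hVS⟩ := hVp.exists_le_sylow
  by_cases hS : (S : Subgroup G) = Subgroup.centralizer ({x} : Set G)
  · haveI := v4a_simple x hx2 hx1 hC4 hVe S hS hnc hne
    refine Cfsg.Agent.S3278.result x hx (Subgroup.centralizer ({x} : Set G)) le_rfl ?_ ?_ ?_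
    · refine ⟨hC4, ?_⟩
      have h2 : Monoid.exponent ↥(Subgroup.centralizer ({x} : Set G)) ∣ 2 := by
        apply Monoid.exponent_dvd_of_forall_pow_eq_one
        intro c
        apply Subtype.ext
        rw [Subgroup.coe_pow, Subgroup.coe_one]
        exact hCe c c.2
      have h1 : Monoid.exponent ↥(Subgroup.centralizer ({x} : Set G)) ≠ 1 := by
        intro h
        have hsub := Monoid.exp_eq_one_iff.mp h
        have hx' : x ∈ Subgroup.centralizer ({x} : Set G) := by
          rw [Subgroup.mem_centralizer_singleton_iff]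
        have := Subsingleton.elim (⟨x, hx'⟩ : ↥(Subgroup.centralizer ({x} : Set G))) 1
        exact hx1 (congrArg Subtype.val this)
      rcases (Nat.dvd_prime Nat.prime_two).mp h2 with h | h
      · exact absurd h h1
      · exact h
    · rw [Subgroup.relIndex_self]
      norm_num
    · rw [Subgroup.subgroupOf_self]
      infer_instance
  · exfalso
    -- the normalizer condition inside the Sylow subgroup
    haveI : Group.IsNilpotent ↥(S : Subgroup G) := S.isPGroup'.isNilpotent
    have hnc' := Group.normalizerCondition_of_isNilpotent (G := ↥(S : Subgroup G))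
    have hlt : (Subgroup.centralizer ({x} : Set G)).subgroupOf (S : Subgroup G) < ⊤ := by
      rw [lt_top_iff_ne_top, Ne, Subgroup.subgroupOf_eq_top]
      intro h
      exact hS (le_antisymm h hVS)
    obtain ⟨t', htn', htV'⟩ := SetLike.exists_of_lt (hnc' _ hlt)
    rw [Subgroup.mem_normalizer_iff] at htn'
    have htV : (t' : G) ∉ Subgroup.centralizer ({x} : Set G) := by
      intro h
      exact htV' (Subgroup.mem_subgroupOf.mpr h)
    have htn : ∀ v, v ∈ Subgroup.centralizer ({x} : Set G) ↔
        (t' : G) * v * (t' : G)⁻¹ ∈ Subgroup.centralizer ({x} : Set G) := by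
      intro v
      constructor
      · intro hv
        have := (htn' ⟨v, hVS hv⟩).mp (Subgroup.mem_subgroupOf.mpr hv)
        exact Subgroup.mem_subgroupOf.mp this
      · intro hv
        have hvS : v ∈ (S : Subgroup G) := by
          have h1 : (t' : G)⁻¹ * ((t' : G) * v * (t' : G)⁻¹) * (t' : G) ∈ (S : Subgroup G) :=
            (S : Subgroup G).mul_mem ((S : Subgroup G).mul_mem ((S : Subgroup G).inv_mem t'.2)
              (hVS hv)) t'.2
          have h2 : (t' : G)⁻¹ * ((t' : G) * v * (t' : G)⁻¹) * (t' : G) = v := by group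
          rwa [h2] at h1
        have := (htn' ⟨v, hvS⟩).mpr (Subgroup.mem_subgroupOf.mpr hv)
        exact Subgroup.mem_subgroupOf.mp this
    obtain ⟨k, hk⟩ := S.isPGroup' t'
    have htk : (t' : G) ^ (2 ^ k) = 1 := by
      have := congrArg Subtype.val hk
      rwa [Subgroup.coe_pow, Subgroup.coe_one] at this
    obtain ⟨E, hEn, hEe, hEc⟩ := v4b_main x hx2 hx1 hC4 hVe (t' : G) htV htn k htk
    rcases hEc with h | h
    · exact (hne E hEn hEe).1 h
    · exact (hne E hEn hEe).2 h

end Cfsg.Agent.S3277
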