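import Cfsg.Statements.S1012
import Mathlib
import Cfsg.Agent.Lib.helper8.Burnside
import Cfsg.Agent.Lib.helper8.SylowConj

set_option autoImplicit false
open Cfsg

namespace Cfsg.Agent.S1012

open Subgroup
open Cfsg.Agent.Lib.helper8

theorem result {G : Type*} [Group G] [Finite G] (h : Nat.card G = 24) (h6 : ∀ g : G, orderOf g ≠ 6) : Nonempty (G ≃* Equiv.Perm (Fin 4)) := by
  haveI : Fact (Nat.Prime 3) := ⟨Nat.prime_three⟩
  haveI : Fact (Nat.Prime 2) := ⟨Nat.prime_two⟩
  have hG3 : Nat.card G = 3 ^ 1 * 8 := by rw [h]; norm_num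
  have hm : ¬ 3 ∣ 8 := by norm_num
  have hn_dvd := h8_nsylow_dvd 3 1 8 hG3 hm
  have hn_mod := h8_nsylow_mod (G := G) 3
  obtain ⟨x, hx⟩ := exists_prime_orderOf_dvd_card' (G := G) 3 (by rw [h]; norm_num)
  have hno : ∀ y : G, orderOf y = 2 → ∀ x : G, orderOf x = 3 → ¬ Commute x y := by
    intro y hy x hx hc
    have := hc.orderOf_mul_eq_mul_orderOf_of_coprime (by rw [hx, hy]; norm_num)
    rw [hx, hy] at this
    exact h6 (x * y) this
  have hScard : ∀ Q : Sylow 3 G, Nat.card (Q : Subgroup G) = 3 := by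
    intro Q
    have := h8_sylow_card 3 1 8 hG3 hm Q
    rwa [pow_one] at this
  obtain ⟨n, hn⟩ : ∃ n, n = Nat.card (Sylow 3 G) := ⟨_, rfl⟩
  rw [← hn] at hn_dvd hn_mod
  have hn14 : n = 1 ∨ n = 4 := by
    have := Nat.le_of_dvd (by norm_num) hn_dvd
    interval_cases n <;> omega
  rcases hn14 with h1 | h4
  · exfalso
    obtain ⟨Q⟩ : Nonempty (Sylow 3 G) := inferInstance
    haveI hQn := h8_normal_of_nsylow_eq_one 3 (hn ▸ h1) Q
    have hQc := hScard Q
    have hd := h8_relIndex_centralizer_normalizer_dvd_prime 3 Nat.prime_three (Q : Subgroup G) hQc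
    have hN : normalizer ((Q : Subgroup G) : Set G) = ⊤ := normalizer_eq_top _
    have hcm := h8_card_centralizer_mul_relIndex (Q : Subgroup G)
    rw [hN, card_top, h] at hcm
    have h2C : 2 ∣ Nat.card (centralizer ((Q : Subgroup G) : Set G)) := by
      have hd' : (centralizer ((Q : Subgroup G) : Set G)).relIndex ⊤ ∣ 2 := by
        rw [← hN]; exact hd
      rcases (Nat.dvd_prime Nat.prime_two).mp hd' with h5 | h5
      · rw [h5, mul_one] at hcm
        rw [hcm]; norm_num
      · rw [h5] at hcm
        have : Nat.card (centralizer ((Q : Subgroup G) : Set G)) = 12 := by omega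
        rw [this]; norm_num
    obtain ⟨y, hy⟩ := exists_prime_orderOf_dvd_card' 2 h2C
    obtain ⟨x0, hx0⟩ := exists_prime_orderOf_dvd_card' (G := (Q : Subgroup G)) 3 (by rw [hQc])
    apply hno (y : G) (by rw [Subgroup.orderOf_coe]; exact hy) (x0 : G)
      (by rw [Subgroup.orderOf_coe]; exact hx0)
    exact (mem_centralizer_iff.mp y.2 x0 x0.2)
  · let φ : G →* Equiv.Perm (Sylow 3 G) := MulAction.toPermHom G (Sylow 3 G)
    have hKN : ∀ g ∈ φ.ker, ∀ Q : Sylow 3 G, g ∈ normalizer ((Q : Subgroup G) : Set G) := by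
      intro g hg Q
      rw [MonoidHom.mem_ker] at hg
      have h1 : g • Q = Q := by
        have := congrArg (fun σ : Equiv.Perm (Sylow 3 G) => σ Q) hg
        simpa [φ] using this
      exact Sylow.smul_eq_iff_mem_normalizer.mp h1
    obtain ⟨Q⟩ : Nonempty (Sylow 3 G) := inferInstance
    have hNc : Nat.card (normalizer ((Q : Subgroup G) : Set G)) = 6 := by
      have := h8_card_normalizer_sylow 3 Q
      rw [← hn, h4, h] at this
      omega
    have hK6 : Nat.card φ.ker ∣ 6 := by
      rw [← hNc]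
      exact Subgroup.card_dvd_of_le (fun g hg => hKN g hg Q)
    have hK3 : ¬ 3 ∣ Nat.card φ.ker := by
      intro h3
      obtain ⟨z, hz⟩ := exists_prime_orderOf_dvd_card' 3 h3
      have hz' : orderOf (z : G) = 3 ^ 1 := by rw [Subgroup.orderOf_coe, pow_one]; exact hz
      have hall : ∀ Q' : Sylow 3 G, zpowers (z : G) = (Q' : Subgroup G) := by
        intro Q'
        have hmem := h8_mem_sylow_of_mem_normalizer 3 Q' (z : G) 1 hz' (hKN z z.2 Q')
        apply Subgroup.eq_of_le_of_card_ge
        · rw [zpowers_le]; exact hmem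
        · rw [Nat.card_zpowers, hz', hScard Q']; norm_num
      have hsub : Subsingleton (Sylow 3 G) := by
        refine ⟨fun A B => Sylow.ext ?_⟩
        rw [← hall A, ← hall B]
      have := Nat.card_eq_one_iff_unique.mpr ⟨hsub, ⟨Q⟩⟩
      omega
    have hK12 : Nat.card φ.ker = 1 ∨ Nat.card φ.ker = 2 := by
      have hpos : 0 < Nat.card φ.ker := Nat.card_pos
      obtain ⟨k, hk⟩ : ∃ k, k = Nat.card φ.ker := ⟨_, rfl⟩
      rw [← hk] at hK6 hK3 hpos ⊢
      have := Nat.le_of_dvd (by norm_num) hK6
      interval_cases k <;> omega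
    have hKbot : φ.ker = ⊥ := by
      rcases hK12 with h5 | h5
      · exact Subgroup.card_eq_one.mp h5
      · exfalso
        obtain ⟨z, hz⟩ := exists_prime_orderOf_dvd_card' 2 (by rw [h5] : 2 ∣ Nat.card φ.ker)
        have hz1 : z ≠ 1 := by
          intro h0
          rw [h0, orderOf_one] at hz
          omega
        obtain ⟨w, hw1, hw2⟩ := (Nat.card_eq_two_iff' (1 : φ.ker)).mp h5
        have hcentral : ∀ g : G, g * (z : G) * g⁻¹ = (z : G) := by
          intro g
          have hmem : g * (z : G) * g⁻¹ ∈ φ.ker := (inferInstance : φ.ker.Normal).conj_mem _ z.2 g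
          have hne : (⟨g * (z : G) * g⁻¹, hmem⟩ : φ.ker) ≠ 1 := by
            intro h0
            apply hz1
            have h7 : g * (z : G) * g⁻¹ = 1 := congrArg Subtype.val h0
            apply Subtype.ext
            have h8 : (z : G) = g⁻¹ * (g * (z : G) * g⁻¹) * g := by group
            rw [h8, h7]; simp
          have e1 := hw2 _ hne
          have e2 := hw2 z hz1
          have := e1.trans e2.symm
          exact congrArg Subtype.val this
        apply hno (z : G) (by rw [Subgroup.orderOf_coe]; exact hz) x hx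
        have := hcentral x
        unfold Commute SemiconjBy
        calc x * (z : G) = (x * (z : G) * x⁻¹) * x := by group
          _ = (z : G) * x := by rw [this]
    have hinj : Function.Injective φ := (MonoidHom.ker_eq_bot_iff φ).mp hKbot
    have hcard : Nat.card G = Nat.card (Equiv.Perm (Sylow 3 G)) := by
      rw [Nat.card_perm, ← hn, h4, h]; rfl
    have hbij : Function.Bijective φ := (Nat.bijective_iff_injective_and_card φ).mpr ⟨hinj, hcard⟩
    let e : Sylow 3 G ≃ Fin 4 := Finite.equivFinOfCardEq (hn ▸ h4)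
    exact ⟨(MulEquiv.ofBijective φ hbij).trans (Equiv.permCongrHom e)⟩

end Cfsg.Agent.S1012
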