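import Cfsg.Statements.S4163
import Mathlib
import Cfsg.Agent.Lib.Helper22.Sylow2

set_option autoImplicit false
open Cfsg

namespace Cfsg.Agent.S4163

open scoped commutatorElement

theorem ncard_conj_orbit {G : Type*} [Group G] (H : Subgroup G) (g : G) :
    {y : G | ∃ h ∈ H, y = h * g * h⁻¹}.ncard =
      (Subgroup.centralizer ({g} : Set G)).relIndex H := by
  set N := (Subgroup.centralizer ({g} : Set G)).subgroupOf H with hN
  have hwd : ∀ a b : ↥H, QuotientGroup.leftRel N a b →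
      (a : G) * g * (a : G)⁻¹ = (b : G) * g * (b : G)⁻¹ := by
    intro a b hab
    rw [QuotientGroup.leftRel_apply] at hab
    have h1 : ((a⁻¹ * b : ↥H) : G) ∈ Subgroup.centralizer ({g} : Set G) :=
      Subgroup.mem_subgroupOf.mp hab
    have h2 := Subgroup.mem_centralizer_iff.mp h1 g rfl
    have h3 : g * ((a : G)⁻¹ * (b : G)) = (a : G)⁻¹ * (b : G) * g := by
      simpa using h2
    calc (a : G) * g * (a : G)⁻¹ = (a : G) * (g * ((a : G)⁻¹ * (b : G))) * (b : G)⁻¹ := by group
      _ = (a : G) * ((a : G)⁻¹ * (b : G) * g) * (b : G)⁻¹ := by rw [h3]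
      _ = (b : G) * g * (b : G)⁻¹ := by group
  let f : ↥H ⧸ N → G := fun q => Quotient.liftOn' q (fun a => (a : G) * g * (a : G)⁻¹) hwd
  have hf : Function.Injective f := by
    intro q1 q2
    induction q1 using Quotient.inductionOn' with
    | h a =>
      induction q2 using Quotient.inductionOn' with
      | h b =>
        intro hab
        have h1 : (a : G) * g * (a : G)⁻¹ = (b : G) * g * (b : G)⁻¹ := hab
        apply Quotient.sound'
        rw [QuotientGroup.leftRel_apply]
        apply Subgroup.mem_subgroupOf.mpr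
        apply Subgroup.mem_centralizer_iff.mpr
        intro y hy
        rw [Set.mem_singleton_iff.mp hy]
        have : g * ((a : G)⁻¹ * (b : G)) = (a : G)⁻¹ * (b : G) * g := by
          calc g * ((a : G)⁻¹ * (b : G)) = (a : G)⁻¹ * ((a : G) * g * (a : G)⁻¹) * (b : G) := by group
            _ = (a : G)⁻¹ * ((b : G) * g * (b : G)⁻¹) * (b : G) := by rw [h1]
            _ = (a : G)⁻¹ * (b : G) * g := by group
        simpa using this
  have hrange : Set.range f = {y : G | ∃ h ∈ H, y = h * g * h⁻¹} := by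
    ext y
    constructor
    · rintro ⟨q, rfl⟩
      induction q using Quotient.inductionOn' with
      | h a => exact ⟨a, a.2, rfl⟩
    · rintro ⟨h, hh, rfl⟩
      exact ⟨Quotient.mk'' ⟨h, hh⟩, rfl⟩
  rw [← hrange, ← Nat.card_coe_set_eq, Nat.card_range_of_injective hf]
  rfl



theorem comm_mem_center {G : Type*} [Group G] [Finite G] (K : Subgroup G) [hKn : K.Normal]
    (hK : ∀ a ∈ K, ∀ b ∈ K, a * b = b * a) (m : ℕ)
    (hmin : ∀ y : G, 1 < (Subgroup.centralizer ({y} : Set G)).index →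
      m ≤ (Subgroup.centralizer ({y} : Set G)).index)
    (x : G) (hx : (Subgroup.centralizer ({x} : Set G)).index = m) (k₀ : G) (hk₀ : k₀ ∈ K) :
    ⁅k₀, x⁆ ∈ Subgroup.center G := by
  by_contra hℓ
  have hℓdef : ⁅k₀, x⁆ = (k₀ * x * k₀⁻¹) * x⁻¹ := commutatorElement_def k₀ x
  set ℓ := ⁅k₀, x⁆ with hℓ0
  set x' := k₀ * x * k₀⁻¹ with hx'
  have hℓK : ℓ ∈ K := by
    rw [hℓdef, hx']
    have h1 : x * k₀⁻¹ * x⁻¹ ∈ K := hKn.conj_mem _ (K.inv_mem hk₀) x
    have : k₀ * x * k₀⁻¹ * x⁻¹ = k₀ * (x * k₀⁻¹ * x⁻¹) := by group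
    rw [this]
    exact K.mul_mem hk₀ h1
  have hℓ1 : x' ≠ x := by
    intro h
    apply hℓ
    rw [hℓdef, h, mul_inv_cancel]
    exact Subgroup.one_mem _
  set C := Subgroup.centralizer ({x} : Set G) with hC
  set C' := Subgroup.centralizer ({x'} : Set G) with hC'
  have hDℓ : C ⊓ C' ≤ Subgroup.centralizer ({ℓ} : Set G) := by
    rintro u ⟨hu1, hu2⟩
    have h1 : x * u = u * x := Subgroup.mem_centralizer_iff.mp hu1 x rfl
    have h2 : x' * u = u * x' := Subgroup.mem_centralizer_iff.mp hu2 x' rfl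
    apply Subgroup.mem_centralizer_iff.mpr
    intro y hy
    rw [Set.mem_singleton_iff.mp hy, hℓdef]
    have h3 : x⁻¹ * u = u * x⁻¹ := by
      calc x⁻¹ * u = x⁻¹ * (u * x) * x⁻¹ := by group
        _ = x⁻¹ * (x * u) * x⁻¹ := by rw [h1]
        _ = u * x⁻¹ := by group
    calc x' * x⁻¹ * u = x' * (x⁻¹ * u) := by group
      _ = x' * (u * x⁻¹) := by rw [h3]
      _ = (x' * u) * x⁻¹ := by group
      _ = (u * x') * x⁻¹ := by rw [h2]
      _ = u * (x' * x⁻¹) := by group
  have hKℓ : K ≤ Subgroup.centralizer ({ℓ} : Set G) := by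
    intro k hk
    apply Subgroup.mem_centralizer_iff.mpr
    intro y hy
    rw [Set.mem_singleton_iff.mp hy]
    exact hK ℓ hℓK k hk
  have hsup : K ⊔ (C ⊓ C') ≤ Subgroup.centralizer ({ℓ} : Set G) := sup_le hKℓ hDℓ
  have hr := ncard_conj_orbit K x
  have hs := ncard_conj_orbit C x'
  have hfin : ∀ S : Set G, S.Finite := fun S => Set.toFinite S
  have hsub : {y : G | ∃ u ∈ C, y = u * x' * u⁻¹} ⊆ {y : G | ∃ k ∈ K, y = k * x * k⁻¹} \ {x} := by
    rintro y ⟨u, hu, rfl⟩
    have h1 : x * u = u * x := Subgroup.mem_centralizer_iff.mp hu x rfl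
    have h2 : u * x * u⁻¹ = x := by rw [← h1]; group
    refine ⟨⟨u * k₀ * u⁻¹, hKn.conj_mem _ hk₀ u, ?_⟩, ?_⟩
    · rw [hx']
      calc u * (k₀ * x * k₀⁻¹) * u⁻¹ = (u * k₀ * u⁻¹) * (u * x * u⁻¹) * (u * k₀ * u⁻¹)⁻¹ := by group
        _ = (u * k₀ * u⁻¹) * x * (u * k₀ * u⁻¹)⁻¹ := by rw [h2]
    · intro h
      have h3 : u * x' * u⁻¹ = x := h
      apply hℓ1
      calc x' = u⁻¹ * (u * x' * u⁻¹) * u := by group
        _ = u⁻¹ * x * u := by rw [h3]
        _ = u⁻¹ * (u * x * u⁻¹) * u := by rw [h2]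
        _ = x := by group
  have hxT : x ∈ {y : G | ∃ k ∈ K, y = k * x * k⁻¹} := ⟨1, K.one_mem, by group⟩
  have hlt : C'.relIndex C < C.relIndex K := by
    rw [← hr, ← hs]
    calc {y : G | ∃ u ∈ C, y = u * x' * u⁻¹}.ncard
        ≤ ({y : G | ∃ k ∈ K, y = k * x * k⁻¹} \ {x}).ncard := Set.ncard_le_ncard hsub (hfin _)
      _ < {y : G | ∃ k ∈ K, y = k * x * k⁻¹}.ncard :=
          Set.ncard_sdiff_singleton_lt_of_mem hxT (hfin _)
  have hKD : K ⊓ (C ⊓ C') = K ⊓ C := by
    apply le_antisymm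
    · exact inf_le_inf_left K inf_le_left
    · rintro k ⟨hkK, hkC⟩
      refine ⟨hkK, hkC, ?_⟩
      have h1 : x * k = k * x := Subgroup.mem_centralizer_iff.mp hkC x rfl
      have h2 : k₀⁻¹ * k = k * k₀⁻¹ := hK _ (K.inv_mem hk₀) k hkK
      have h3 : k₀ * k = k * k₀ := hK _ hk₀ k hkK
      apply Subgroup.mem_centralizer_iff.mpr
      intro y hy
      rw [Set.mem_singleton_iff.mp hy, hx']
      calc k₀ * x * k₀⁻¹ * k = k₀ * x * (k₀⁻¹ * k) := by group
        _ = k₀ * x * (k * k₀⁻¹) := by rw [h2]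
        _ = k₀ * (x * k) * k₀⁻¹ := by group
        _ = k₀ * (k * x) * k₀⁻¹ := by rw [h1]
        _ = (k₀ * k) * x * k₀⁻¹ := by group
        _ = (k * k₀) * x * k₀⁻¹ := by rw [h3]
        _ = k * (k₀ * x * k₀⁻¹) := by group
  have h1 : Nat.card (K ⊔ (C ⊓ C') : Subgroup G) = Nat.card (C ⊓ C' : Subgroup G) * C.relIndex K := by
    have e1 : Nat.card ((C ⊓ C') ⊔ K : Subgroup G) = Nat.card K * K.relIndex (C ⊓ C') :=
      Cfsg.Agent.Lib.Helper22.card_sup_normal (C ⊓ C') K
    have e2 : Nat.card (K ⊓ (C ⊓ C') : Subgroup G) * (K ⊓ (C ⊓ C')).relIndex K = Nat.card K :=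
      Cfsg.Agent.Lib.Helper22.card_mul_relIndex_of_le inf_le_left
    have e3 : Nat.card (K ⊓ (C ⊓ C') : Subgroup G) * (K ⊓ (C ⊓ C')).relIndex (C ⊓ C') =
        Nat.card (C ⊓ C' : Subgroup G) :=
      Cfsg.Agent.Lib.Helper22.card_mul_relIndex_of_le inf_le_right
    have e4 : (K ⊓ (C ⊓ C')).relIndex (C ⊓ C') = K.relIndex (C ⊓ C') :=
      Subgroup.inf_relIndex_right K (C ⊓ C')
    have e5 : (K ⊓ (C ⊓ C')).relIndex K = C.relIndex K := by
      rw [hKD]; exact Subgroup.inf_relIndex_left K C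
    rw [sup_comm, e1, ← e2, ← e3, e4, e5]
    ring
  have h2 : Nat.card C = Nat.card (C ⊓ C' : Subgroup G) * C'.relIndex C := by
    have e1 : Nat.card (C ⊓ C' : Subgroup G) * (C ⊓ C').relIndex C = Nat.card C :=
      Cfsg.Agent.Lib.Helper22.card_mul_relIndex_of_le inf_le_left
    rw [← e1, Subgroup.inf_relIndex_left]
  have hDpos : 0 < Nat.card (C ⊓ C' : Subgroup G) := Nat.card_pos
  have h3 : Nat.card C < Nat.card (Subgroup.centralizer ({ℓ} : Set G)) := by
    calc Nat.card C = Nat.card (C ⊓ C' : Subgroup G) * C'.relIndex C := h2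
      _ < Nat.card (C ⊓ C' : Subgroup G) * C.relIndex K := Nat.mul_lt_mul_of_pos_left hlt hDpos
      _ = Nat.card (K ⊔ (C ⊓ C') : Subgroup G) := h1.symm
      _ ≤ Nat.card (Subgroup.centralizer ({ℓ} : Set G)) := Subgroup.card_le_of_le hsup
  have h4 : (Subgroup.centralizer ({ℓ} : Set G)).index < m := by
    by_contra hge
    push Not at hge
    have e1 := Subgroup.card_mul_index C
    have e2 := Subgroup.card_mul_index (Subgroup.centralizer ({ℓ} : Set G))
    rw [hx] at e1
    have hm0 : 0 < m := by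
      rw [← hx]
      exact Nat.pos_of_ne_zero (Subgroup.index_ne_zero_of_finite)
    have : Nat.card C * m < Nat.card (Subgroup.centralizer ({ℓ} : Set G)) *
        (Subgroup.centralizer ({ℓ} : Set G)).index :=
      calc Nat.card C * m < Nat.card (Subgroup.centralizer ({ℓ} : Set G)) * m :=
            Nat.mul_lt_mul_of_pos_right h3 hm0
        _ ≤ _ := Nat.mul_le_mul_left _ hge
    rw [e1, e2] at this
    exact lt_irrefl _ this
  have h5 : 1 < (Subgroup.centralizer ({ℓ} : Set G)).index := by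
    have hne0 : (Subgroup.centralizer ({ℓ} : Set G)).index ≠ 0 := Subgroup.index_ne_zero_of_finite
    have hne1 : (Subgroup.centralizer ({ℓ} : Set G)).index ≠ 1 := by
      intro h
      rw [Subgroup.index_eq_one] at h
      apply hℓ
      rw [Subgroup.mem_center_iff]
      intro g
      have hg : g ∈ Subgroup.centralizer ({ℓ} : Set G) := by rw [h]; exact Subgroup.mem_top g
      exact (Subgroup.mem_centralizer_iff.mp hg ℓ rfl).symm
    omega
  exact absurd (hmin ℓ h5) (not_le.mpr h4)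



theorem lcs_three_eq_bot {G : Type*} [Group G] [Finite G]
    (A : Subgroup G) [hAn : A.Normal] (hA : ∀ a ∈ A, ∀ b ∈ A, a * b = b * a)
    (hCA : Subgroup.centralizer (A : Set G) = A) (m : ℕ)
    (hmin : ∀ x : G, 1 < (Subgroup.centralizer ({x} : Set G)).index →
      m ≤ (Subgroup.centralizer ({x} : Set G)).index) :
    (Subgroup.closure {x : G | (Subgroup.centralizer ({x} : Set G)).index = 1 ∨
      (Subgroup.centralizer ({x} : Set G)).index = m}).lowerCentralSeries 3 = ⊥ := by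
  set M := Subgroup.closure {x : G | (Subgroup.centralizer ({x} : Set G)).index = 1 ∨
      (Subgroup.centralizer ({x} : Set G)).index = m} with hM
  have hcen : ∀ z ∈ Subgroup.center G, ∀ g : G, g * z = z * g :=
    fun z hz g => Subgroup.mem_center_iff.mp hz g
  have key : ∀ y ∈ M, ∀ a ∈ A, ⁅a, y⁆ ∈ Subgroup.center G := by
    intro y hy
    induction hy using Subgroup.closure_induction with
    | mem y hy =>
      intro a ha
      rcases hy with h1 | h1
      · rw [Subgroup.index_eq_one] at h1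
        have hay : a ∈ Subgroup.centralizer ({y} : Set G) := by rw [h1]; exact Subgroup.mem_top a
        have h2 : y * a = a * y := Subgroup.mem_centralizer_iff.mp hay y rfl
        have : ⁅a, y⁆ = 1 := by
          rw [commutatorElement_def, ← h2]; group
        rw [this]; exact Subgroup.one_mem _
      · exact comm_mem_center A hA m hmin y h1 a ha
    | one =>
      intro a _
      have : ⁅a, (1 : G)⁆ = 1 := by rw [commutatorElement_def]; group
      rw [this]; exact Subgroup.one_mem _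
    | mul y z _ _ ihy ihz =>
      intro a ha
      have h1 := ihy a ha
      have h2 := ihz a ha
      have h3 : ⁅a, y * z⁆ = ⁅a, y⁆ * (y * ⁅a, z⁆ * y⁻¹) := by
        simp only [commutatorElement_def]; group
      have h4 : y * ⁅a, z⁆ * y⁻¹ = ⁅a, z⁆ := by
        rw [hcen _ h2 y]; group
      rw [h3, h4]
      exact Subgroup.mul_mem _ h1 h2
    | inv y _ ih =>
      intro a ha
      have h1 := ih a ha
      have h3 : ⁅a, y⁻¹⁆ = y⁻¹ * ⁅a, y⁆⁻¹ * y := by
        simp only [commutatorElement_def]; group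
      have h4 : y⁻¹ * ⁅a, y⁆⁻¹ * y = ⁅a, y⁆⁻¹ := by
        have h5 := hcen _ (Subgroup.inv_mem _ h1) y⁻¹
        rw [h5]; group
      rw [h3, h4]
      exact Subgroup.inv_mem _ h1
  have hAM : ⁅A, M⁆ ≤ Subgroup.center G :=
    Subgroup.commutator_le.mpr (fun a ha y hy => key y hy a ha)
  have hcenM : ∀ H : Subgroup G, H ≤ Subgroup.center G → ⁅H, M⁆ = ⊥ := by
    intro H hH
    rw [Subgroup.commutator_eq_bot_iff_le_centralizer]
    exact le_trans hH (Subgroup.center_le_centralizer _)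
  have h1 : ⁅⁅A, M⁆, M⁆ = ⊥ := hcenM _ hAM
  have h2 : ⁅⁅M, A⁆, M⁆ = ⊥ := by rw [Subgroup.commutator_comm M A]; exact h1
  have h3 : ⁅⁅M, M⁆, A⁆ = ⊥ := Subgroup.commutator_commutator_eq_bot_of_rotate h2 h1
  have h4 : ⁅M, M⁆ ≤ A := by
    rw [Subgroup.commutator_eq_bot_iff_le_centralizer, hCA] at h3
    exact h3
  have h5 : ⁅⁅M, M⁆, M⁆ ≤ Subgroup.center G :=
    le_trans (Subgroup.commutator_mono h4 le_rfl) hAM
  change ⁅⁅⁅M, M⁆, M⁆, M⁆ = ⊥
  exact hcenM _ h5



/-- Let G be a finite group with a normal abelian subgroup A satisfying C_G(A) = A. Suppose some conjugacy class of G has size greater than 1, let m be the smallest such size, and let M be the subgroup generated by the elements whose class has size 1 or m. Then M is nilpotent of class at most 3. -/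
theorem result {G : Type*} [Group G] [Finite G]
    (A : Subgroup G) [A.Normal] (hA : IsMulCommutative A) (hCA : Subgroup.centralizer (A : Set G) = A)
    (m : ℕ) (hm1 : 1 < m) (hm : ∃ x : G, (Subgroup.centralizer ({x} : Set G)).index = m) (hmin : ∀ x : G, 1 < (Subgroup.centralizer ({x} : Set G)).index → m ≤ (Subgroup.centralizer ({x} : Set G)).index) :
    Subgroup.upperCentralSeries ↥(Subgroup.closure {x : G | (Subgroup.centralizer ({x} : Set G)).index = 1 ∨ (Subgroup.centralizer ({x} : Set G)).index = m}) 3 = ⊤ := by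
  have hA' : ∀ a ∈ A, ∀ b ∈ A, a * b = b * a :=
    fun a ha b hb => setLike_mul_comm ha hb
  have h3 := lcs_three_eq_bot A hA' hCA m hmin
  rw [← Subgroup.top_subtype_lowerCentralSeries] at h3
  have h4 := (Subgroup.map_eq_bot_iff_of_injective _ (Subgroup.subtype_injective _)).mp h3
  exact Subgroup.lowerCentralSeries_eq_bot_iff_upperCentralSeries_eq_top.mp h4

end Cfsg.Agent.S4163
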