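import Mathlib
import Cfsg.Statements.S0580

set_option autoImplicit false
open Cfsg

namespace Cfsg.Agent.S0580

universe u

theorem sylow_normal_of_largest {G : Type u} [Group G] [Finite G]
    (h : ∀ M : Subgroup G, IsCoatom M → M.index.Prime) (p : ℕ) [hp : Fact p.Prime]
    (hmax : ∀ q : ℕ, q.Prime → q ∣ Nat.card G → q ≤ p) (P : Sylow p G) :
    (P : Subgroup G).Normal := by
  rw [← Subgroup.normalizer_eq_top_iff]
  by_contra hne
  obtain ⟨M, hM, hNM⟩ := (eq_top_or_exists_le_coatom
    (Subgroup.normalizer ((P : Subgroup G) : Set G))).resolve_left hne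
  have hq := h M hM
  have hPM : (P : Subgroup G) ≤ M := Subgroup.le_normalizer.trans hNM
  have h1 : Nat.card (Sylow p G) ≡ 1 [MOD p] := card_sylow_modEq_one p G
  have h2 : Nat.card (Sylow p M) ≡ 1 [MOD p] := card_sylow_modEq_one p M
  rw [Sylow.card_eq_index_normalizer P] at h1
  rw [Sylow.card_eq_index_normalizer (P.subtype hPM)] at h2
  have h3 : (Subgroup.normalizer (((P.subtype hPM : Sylow p M) : Subgroup M) : Set M)).index =
      (Subgroup.normalizer ((P : Subgroup G) : Set G)).relIndex M := by
    rw [Sylow.coe_subtype, ← Subgroup.subgroupOf_normalizer_eq hPM]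
    rfl
  have h2' : (Subgroup.normalizer (((P.subtype hPM : Sylow p M) : Subgroup M) : Set M)).index ≡
      1 [MOD p] := h2
  rw [h3] at h2'
  have h1' : (Subgroup.normalizer ((P : Subgroup G) : Set G)).index ≡ 1 [MOD p] := h1
  have h4 := Subgroup.relIndex_mul_index hNM
  have h5 : M.index ≡ 1 [MOD p] := by
    have : (Subgroup.normalizer ((P : Subgroup G) : Set G)).relIndex M * M.index ≡ 1 * M.index [MOD p] :=
      Nat.ModEq.mul_right _ h2'
    rw [h4, one_mul] at this
    exact this.symm.trans h1'
  have h6 : M.index ∣ Nat.card G := Subgroup.index_dvd_card M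
  have h7 := hmax _ hq h6
  have h8 : M.index % p = 1 := by
    have := h5
    unfold Nat.ModEq at this
    rw [this]
    exact Nat.mod_eq_of_lt hp.out.one_lt
  have h9 : M.index ≠ p := by
    intro heq
    rw [heq, Nat.mod_self] at h8
    exact zero_ne_one h8
  have h10 : M.index < p := lt_of_le_of_ne h7 h9
  rw [Nat.mod_eq_of_lt h10] at h8
  rw [h8] at hq
  exact Nat.not_prime_one hq

theorem aux : ∀ (n : ℕ) (G : Type u) [Group G] [Finite G], Nat.card G = n →
    (∀ M : Subgroup G, IsCoatom M → M.index.Prime) → Group.IsSolvable G := by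
  intro n
  induction n using Nat.strong_induction_on with
  | _ n ih =>
    intro G _ _ hcard h
    by_cases htriv : Nat.card G = 1
    · have : Subsingleton G := (Nat.card_eq_one_iff_unique.mp htriv).1
      infer_instance
    · have hpos : 0 < Nat.card G := Nat.card_pos
      have hne : (Nat.card G).primeFactors.Nonempty := by
        rw [Nat.nonempty_primeFactors]
        omega
      set p := (Nat.card G).primeFactors.max' hne with hpdef
      have hpmem : p ∈ (Nat.card G).primeFactors := Finset.max'_mem _ hne
      have hpp : p.Prime := Nat.prime_of_mem_primeFactors hpmem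
      have hpdvd : p ∣ Nat.card G := Nat.dvd_of_mem_primeFactors hpmem
      have : Fact p.Prime := ⟨hpp⟩
      have hmax : ∀ q : ℕ, q.Prime → q ∣ Nat.card G → q ≤ p := by
        intro q hq hqd
        apply Finset.le_max'
        exact Nat.mem_primeFactors.mpr ⟨hq, hqd, hpos.ne'⟩
      obtain ⟨P⟩ : Nonempty (Sylow p G) := inferInstance
      have hPn : (P : Subgroup G).Normal := sylow_normal_of_largest h p hmax P
      have hPne : (P : Subgroup G) ≠ ⊥ := P.ne_bot_of_dvd_card hpdvd
      have hPsol : Group.IsSolvable (P : Subgroup G) := by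
        have : Group.IsNilpotent (P : Subgroup G) := P.2.isNilpotent
        infer_instance
      have hlt : Nat.card (G ⧸ (P : Subgroup G)) < n := by
        rw [← hcard]
        have h1 := Subgroup.card_eq_card_quotient_mul_card_subgroup (P : Subgroup G)
        have h2 : 1 < Nat.card (P : Subgroup G) := by
          rw [Finite.one_lt_card_iff_nontrivial]
          exact (Subgroup.nontrivial_iff_ne_bot _).mpr hPne
        have h3 : 0 < Nat.card (G ⧸ (P : Subgroup G)) := Nat.card_pos
        nlinarith
      have hQ : Group.IsSolvable (G ⧸ (P : Subgroup G)) := by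
        apply ih _ hlt (G ⧸ (P : Subgroup G)) rfl
        intro M hM
        have hsurj : Function.Surjective (QuotientGroup.mk' (P : Subgroup G)) :=
          QuotientGroup.mk'_surjective _
        have hco := Subgroup.isCoatom_comap_of_surjective hsurj hM
        have := h _ hco
        rwa [Subgroup.index_comap_of_surjective _ hsurj] at this
      exact Group.isSolvable_of_ker_le_range (P : Subgroup G).subtype (QuotientGroup.mk' (P : Subgroup G))
        (by rw [QuotientGroup.ker_mk', Subgroup.range_subtype])

theorem result {G : Type*} [Group G] [Finite G] (h : ∀ M : Subgroup G, IsCoatom M → M.index.Prime) : Group.IsSolvable G :=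
  aux (Nat.card G) G rfl h

end Cfsg.Agent.S0580
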