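import Mathlib
import Cfsg.Statements.S0579
import Cfsg.Agent.S0580
import Cfsg.Agent.Lib.helper4.Supersolvable
import Cfsg.Agent.Lib.helper4.SupersolvableB
import Cfsg.Agent.Lib.Lead.Coprime
import Cfsg.Agent.Lib.Helper5.PGroup

set_option autoImplicit false
open Cfsg

namespace Cfsg.Agent.S0579

open scoped commutatorElement Pointwise

section Eigen

open Polynomial

theorem prod_X_sub_C_zmod (p : ℕ) [Fact p.Prime] :
    ((Finset.univ : Finset (ZMod p)).toList.map (fun a => (X - C a : (ZMod p)[X]))).prod = X ^ p - X := by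
  have hcard : Fintype.card (ZMod p) = p := ZMod.card p
  have hp1 : 1 < p := (Fact.out : p.Prime).one_lt
  have hmonic : (X ^ p - X : (ZMod p)[X]).Monic := by
    apply Polynomial.monic_X_pow_sub
    rw [degree_X]
    exact_mod_cast hp1
  have hroots : (X ^ p - X : (ZMod p)[X]).roots = Finset.univ.val := by
    have := FiniteField.roots_X_pow_card_sub_X (ZMod p)
    rwa [hcard] at this
  have hdeg : (X ^ p - X : (ZMod p)[X]).natDegree = p :=
    FiniteField.X_pow_card_sub_X_natDegree_eq (ZMod p) hp1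
  have h := Polynomial.prod_multiset_X_sub_C_of_monic_of_roots_card_eq hmonic
    (by rw [hroots, hdeg]; simp [hcard])
  rw [hroots] at h
  rw [← h]
  have h2 := Finset.prod_map_toList (Finset.univ : Finset (ZMod p)) (fun a => (X - C a : (ZMod p)[X]))
  rw [h2]
  rfl

theorem exists_eigen (p : ℕ) [Fact p.Prime] (V : Type*) [AddCommGroup V] [Module (ZMod p) V]
    [Nontrivial V] (T : V →ₗ[ZMod p] V) (hT : T ^ p = T) :
    ∃ a : ZMod p, ∃ v : V, v ≠ 0 ∧ T v = a • v := by
  by_contra hcon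
  push Not at hcon
  have hinj : ∀ a : ZMod p, Function.Injective (T - algebraMap (ZMod p) (Module.End (ZMod p) V) a) := by
    intro a
    rw [← LinearMap.ker_eq_bot, LinearMap.ker_eq_bot']
    intro v hv
    by_contra hv0
    apply hcon a v hv0
    have : T v - a • v = 0 := by simpa using hv
    exact sub_eq_zero.mp this
  have hprod : ∀ l : List (ZMod p), Function.Injective
      ((l.map (fun a => T - algebraMap (ZMod p) (Module.End (ZMod p) V) a)).prod) := by
    intro l
    induction l with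
    | nil => simp only [List.map_nil, List.prod_nil]; exact fun _ _ h => h
    | cons a l ih =>
      rw [List.map_cons, List.prod_cons, Module.End.mul_eq_comp]
      exact (hinj a).comp ih
  have hzero : (((Finset.univ : Finset (ZMod p)).toList.map
      (fun a => T - algebraMap (ZMod p) (Module.End (ZMod p) V) a)).prod) = 0 := by
    have h1 := congrArg (aeval T) (prod_X_sub_C_zmod p)
    rw [map_list_prod, List.map_map] at h1
    have h2 : (⇑(aeval T) ∘ fun a : ZMod p => (X - C a : (ZMod p)[X])) =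
        fun a => T - algebraMap (ZMod p) (Module.End (ZMod p) V) a := by
      funext a
      simp
    rw [h2] at h1
    rw [h1]
    simp only [map_sub, aeval_X, map_pow]
    rw [hT, sub_self]
  have h3 := hprod (Finset.univ : Finset (ZMod p)).toList
  rw [hzero] at h3
  obtain ⟨x, y, hxy⟩ := exists_pair_ne V
  exact hxy (h3 (by simp))


theorem exists_eigen_add (p : ℕ) [Fact p.Prime] (V : Type*) [AddCommGroup V] [Module (ZMod p) V]
    [Nontrivial V] (f : V →+ V) (hf : ∀ x, f^[p] x = f x) :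
    ∃ v : V, v ≠ 0 ∧ ∃ k : ℕ, f v = k • v := by
  have hTapp : ∀ v : V, (f.toZModLinearMap p) v = f v := fun v => rfl
  have hiter : ∀ (n : ℕ) (v : V), ((f.toZModLinearMap p) ^ n) v = f^[n] v := by
    intro n
    induction n with
    | zero => intro v; simp
    | succ n ih =>
      intro v
      rw [pow_succ, Module.End.mul_apply, ih, hTapp, Function.iterate_succ_apply]
  have hT : (f.toZModLinearMap p) ^ p = f.toZModLinearMap p := by
    ext v
    rw [hiter, hTapp, hf]
  obtain ⟨a, v, hv0, hva⟩ := exists_eigen p V (f.toZModLinearMap p) hT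
  refine ⟨v, hv0, a.val, ?_⟩
  have h1 : a • v = (a.val : ℕ) • v := by
    conv_lhs => rw [← ZMod.natCast_zmod_val a]
    rw [Nat.cast_smul_eq_nsmul]
  rw [h1, hTapp] at hva
  exact hva

theorem exists_eigen_comm (p : ℕ) [Fact p.Prime] (E : Type*) [CommGroup E] [Nontrivial E]
    (hEp : ∀ x : E, x ^ p = 1) (φ : E →* E) (hφ : ∀ x, φ^[p] x = φ x) :
    ∃ v : E, v ≠ 1 ∧ ∃ k : ℕ, φ v = v ^ k := by
  letI : Module (ZMod p) (Additive E) := AddCommGroup.zmodModule (n := p) (by
    intro x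
    show Additive.ofMul (x.toMul ^ p) = 0
    rw [hEp]; rfl)
  have hiter : ∀ (n : ℕ) (x : Additive E), (MonoidHom.toAdditive φ)^[n] x = Additive.ofMul (φ^[n] x.toMul) := by
    intro n
    induction n with
    | zero => intro x; rfl
    | succ n ih =>
      intro x
      rw [Function.iterate_succ_apply, ih, Function.iterate_succ_apply]
      rfl
  obtain ⟨v, hv0, k, hk⟩ := exists_eigen_add p (Additive E) (MonoidHom.toAdditive φ) (by
    intro x
    rw [hiter, hφ]
    rfl)
  refine ⟨v.toMul, ?_, k, ?_⟩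
  · intro h
    apply hv0
    show Additive.ofMul v.toMul = 0
    rw [h]; rfl
  · have := congrArg Additive.toMul hk
    simpa using this


theorem exists_eigen_group {G : Type*} [Group G] {p : ℕ} [Fact p.Prime] (E : Subgroup G)
    [hEn : E.Normal] (hEc : ∀ x ∈ E, ∀ y ∈ E, x * y = y * x) (hEp : ∀ x ∈ E, x ^ p = 1)
    (hE : E ≠ ⊥) (g : G) (hg : ∀ v ∈ E, g ^ (p - 1) * v * (g ^ (p - 1))⁻¹ = v) :
    ∃ v ∈ E, v ≠ 1 ∧ ∃ k : ℕ, g * v * g⁻¹ = v ^ k := by
  letI : CommGroup ↥E := { (inferInstance : Group ↥E) with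
    mul_comm := fun a b => Subtype.ext (hEc a.1 a.2 b.1 b.2) }
  have hnt : Nontrivial ↥E := (Subgroup.nontrivial_iff_ne_bot E).mpr hE
  have hp1 : 1 ≤ p := (Fact.out : p.Prime).one_lt.le
  have hiter : ∀ (n : ℕ) (x : ↥E),
      ((((MulAut.conjNormal g : MulAut ↥E).toMonoidHom)^[n] x : ↥E) : G) = g ^ n * x * (g ^ n)⁻¹ := by
    intro n
    induction n with
    | zero => intro x; simp
    | succ n ih =>
      intro x
      rw [Function.iterate_succ_apply, ih]
      rw [MulEquiv.coe_toMonoidHom, MulAut.conjNormal_apply, pow_succ]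
      group
  obtain ⟨v, hv1, k, hk⟩ := exists_eigen_comm p ↥E (fun x => Subtype.ext (by
      rw [Subgroup.coe_pow, hEp x.1 x.2]; rfl)) (MulAut.conjNormal g : MulAut ↥E).toMonoidHom (by
    intro x
    apply Subtype.ext
    rw [hiter, MulEquiv.coe_toMonoidHom, MulAut.conjNormal_apply]
    have h1 : g ^ p = g * g ^ (p - 1) := by
      rw [← pow_succ', Nat.sub_add_cancel hp1]
    rw [h1]
    have h2 := hg x.1 x.2
    calc g * g ^ (p - 1) * ↑x * (g * g ^ (p - 1))⁻¹
        = g * (g ^ (p - 1) * ↑x * (g ^ (p - 1))⁻¹) * g⁻¹ := by group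
      _ = g * ↑x * g⁻¹ := by rw [h2])
  refine ⟨v.1, v.2, ?_, k, ?_⟩
  · intro h
    apply hv1
    exact Subtype.ext h
  · have := congrArg Subtype.val hk
    rw [MulEquiv.coe_toMonoidHom, MulAut.conjNormal_apply] at this
    rw [this]
    rfl


theorem exists_common_eigen {G : Type*} [Group G] [Finite G] {p : ℕ} [Fact p.Prime] (E : Subgroup G)
    [hEn : E.Normal] (hEc : ∀ x ∈ E, ∀ y ∈ E, x * y = y * x) (hEp : ∀ x ∈ E, x ^ p = 1)
    (hE : E ≠ ⊥)
    (hcomm : ∀ g h : G, ∀ v ∈ E, ⁅g, h⁆ * v = v * ⁅g, h⁆)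
    (hexp : ∀ g : G, ∀ v ∈ E, g ^ (p - 1) * v * (g ^ (p - 1))⁻¹ = v) (s : Finset G) :
    ∃ E' : Subgroup G, E' ≤ E ∧ E' ≠ ⊥ ∧ E'.Normal ∧
      ∀ g ∈ s, ∃ k : ℕ, ∀ v ∈ E', g * v * g⁻¹ = v ^ k := by
  classical
  induction s using Finset.induction_on with
  | empty => exact ⟨E, le_rfl, hE, hEn, fun g hg => absurd hg (Finset.notMem_empty g)⟩
  | insert g₀ s hg₀ ih =>
    obtain ⟨E', hE'E, hE'ne, hE'n, hE's⟩ := ih
    obtain ⟨v₀, hv₀E, hv₀1, k₀, hk₀⟩ := exists_eigen_group (p := p) E'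
      (fun x hx y hy => hEc x (hE'E hx) y (hE'E hy)) (fun x hx => hEp x (hE'E hx)) hE'ne g₀
      (fun v hv => hexp g₀ v (hE'E hv))
    let E'' : Subgroup G :=
      { carrier := {v | v ∈ E' ∧ g₀ * v * g₀⁻¹ = v ^ k₀}
        one_mem' := ⟨E'.one_mem, by simp⟩
        mul_mem' := by
          rintro a b ⟨ha, ha'⟩ ⟨hb, hb'⟩
          refine ⟨E'.mul_mem ha hb, ?_⟩
          have hc : Commute a b := hEc a (hE'E ha) b (hE'E hb)
          rw [hc.mul_pow, ← ha', ← hb']
          group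
        inv_mem' := by
          rintro a ⟨ha, ha'⟩
          refine ⟨E'.inv_mem ha, ?_⟩
          rw [inv_pow, ← ha']
          group }
    have hmem : ∀ v, v ∈ E'' ↔ v ∈ E' ∧ g₀ * v * g₀⁻¹ = v ^ k₀ := fun v => Iff.rfl
    refine ⟨E'', fun v hv => hE'E ((hmem v).mp hv).1, ?_, ?_, ?_⟩
    · intro hbot
      have : v₀ ∈ E'' := (hmem v₀).mpr ⟨hv₀E, hk₀⟩
      rw [hbot, Subgroup.mem_bot] at this
      exact hv₀1 this
    · refine ⟨fun v hv h => ?_⟩
      obtain ⟨hvE', hvk⟩ := (hmem v).mp hv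
      refine (hmem _).mpr ⟨hE'n.conj_mem v hvE' h, ?_⟩
      have hc := hcomm g₀⁻¹ h⁻¹ v (hE'E hvE')
      have h1 : h⁻¹ * g₀ * h = g₀ * ⁅g₀⁻¹, h⁻¹⁆ := by
        rw [commutatorElement_def]; group
      have h2 : ⁅g₀⁻¹, h⁻¹⁆ * v * ⁅g₀⁻¹, h⁻¹⁆⁻¹ = v := by
        rw [hc]; group
      calc g₀ * (h * v * h⁻¹) * g₀⁻¹ = h * ((h⁻¹ * g₀ * h) * v * (h⁻¹ * g₀ * h)⁻¹) * h⁻¹ := by group
        _ = h * (g₀ * (⁅g₀⁻¹, h⁻¹⁆ * v * ⁅g₀⁻¹, h⁻¹⁆⁻¹) * g₀⁻¹) * h⁻¹ := by rw [h1]; group
        _ = h * (g₀ * v * g₀⁻¹) * h⁻¹ := by rw [h2]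
        _ = h * v ^ k₀ * h⁻¹ := by rw [hvk]
        _ = (h * v * h⁻¹) ^ k₀ := by rw [conj_pow]
    · intro g hg
      rcases Finset.mem_insert.mp hg with rfl | hgs
      · exact ⟨k₀, fun v hv => ((hmem v).mp hv).2⟩
      · obtain ⟨k, hk⟩ := hE's g hgs
        exact ⟨k, fun v hv => hk v ((hmem v).mp hv).1⟩

theorem exists_normal_prime_of_eigen {G : Type*} [Group G] [Finite G] {p : ℕ} [Fact p.Prime]
    (E : Subgroup G) [hEn : E.Normal] (hEc : ∀ x ∈ E, ∀ y ∈ E, x * y = y * x)
    (hEp : ∀ x ∈ E, x ^ p = 1) (hE : E ≠ ⊥)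
    (hcomm : ∀ g h : G, ∀ v ∈ E, ⁅g, h⁆ * v = v * ⁅g, h⁆)
    (hexp : ∀ g : G, ∀ v ∈ E, g ^ (p - 1) * v * (g ^ (p - 1))⁻¹ = v) :
    ∃ v : G, v ≠ 1 ∧ v ^ p = 1 ∧ (Subgroup.zpowers v).Normal := by
  classical
  haveI : Fintype G := Fintype.ofFinite G
  obtain ⟨E', hE'E, hE'ne, hE'n, hE's⟩ := exists_common_eigen E hEc hEp hE hcomm hexp Finset.univ
  obtain ⟨v, hv1⟩ := (Subgroup.ne_bot_iff_exists_ne_one).mp hE'ne
  refine ⟨v.1, fun h => hv1 (Subtype.ext h), hEp v.1 (hE'E v.2), ⟨fun x hx g => ?_⟩⟩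
  obtain ⟨i, rfl⟩ := Subgroup.mem_zpowers_iff.mp hx
  obtain ⟨k, hk⟩ := hE's g (Finset.mem_univ g)
  have : g * v.1 ^ i * g⁻¹ = (v.1 ^ k) ^ i := by
    rw [← hk v.1 v.2, conj_zpow]
  rw [this]
  exact Subgroup.zpow_mem _ (Subgroup.pow_mem _ (Subgroup.mem_zpowers _) k) i


end Eigen

theorem cyclic_normal_central {H : Type*} [Group H] (C : Subgroup H) [hC : C.Normal] [IsCyclic C]
    (g h : H) (c : H) (hc : c ∈ C) : ⁅g, h⁆ * c * ⁅g, h⁆⁻¹ = c := by
  have hcomm : ∀ a b : MulAut C, a * b = b * a := by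
    intro a b
    apply (IsCyclic.mulAutMulEquiv C).injective
    rw [map_mul, map_mul, mul_comm]
  have h1 : (MulAut.conjNormal ⁅g, h⁆ : MulAut C) = 1 := by
    rw [commutatorElement_def, map_mul, map_mul, map_mul, map_inv, map_inv]
    rw [hcomm (MulAut.conjNormal g) (MulAut.conjNormal h)]
    group
  have h2 := congrArg (fun f : MulAut C => ((f ⟨c, hc⟩ : C) : H)) h1
  rw [MulAut.conjNormal_apply] at h2
  exact h2

theorem cyclic_normal_pow {H : Type*} [Group H] [Finite H] (C : Subgroup H) [hC : C.Normal]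
    (p : ℕ) [hp : Fact p.Prime] (hcard : Nat.card C = p) (g : H) (c : H) (hc : c ∈ C) :
    g ^ (p - 1) * c * (g ^ (p - 1))⁻¹ = c := by
  haveI : IsCyclic C := isCyclic_of_prime_card hcard
  have h0 : Nat.card (MulAut C) = p - 1 := by
    rw [IsCyclic.card_mulAut, hcard, Nat.totient_prime hp.out]
  have h1 : (MulAut.conjNormal (g ^ (p - 1)) : MulAut C) = 1 := by
    rw [map_pow, ← h0]
    exact pow_card_eq_one'
  have h2 := congrArg (fun f : MulAut C => ((f ⟨c, hc⟩ : C) : H)) h1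
  rw [MulAut.conjNormal_apply] at h2
  exact h2

theorem cyclic_normal_self {H : Type*} [Group H] (C : Subgroup H) [IsCyclic C]
    (y : H) (hy : y ∈ C) (c : H) (hc : c ∈ C) : y * c * y⁻¹ = c := by
  obtain ⟨g, hg⟩ := IsCyclic.exists_generator (α := C)
  obtain ⟨i, hi⟩ := Subgroup.mem_zpowers_iff.mp (hg ⟨y, hy⟩)
  obtain ⟨j, hj⟩ := Subgroup.mem_zpowers_iff.mp (hg ⟨c, hc⟩)
  have hy' : y = (g : H) ^ i := by
    have := congrArg Subtype.val hi
    simpa using this.symm
  have hc' : c = (g : H) ^ j := by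
    have := congrArg Subtype.val hj
    simpa using this.symm
  rw [hy', hc']
  have : Commute ((g : H) ^ i) ((g : H) ^ j) := (Commute.refl (g : H)).zpow_zpow i j
  rw [this.eq]
  group


theorem relIndex_eq_p {G : Type*} [Group G] [Finite G] {p : ℕ} [hp : Fact p.Prime] (P : Sylow p G)
    [hPn : (P : Subgroup G).Normal] (h : ∀ M : Subgroup G, IsCoatom M → M.index.Prime)
    (M : Subgroup G) (hM : IsCoatom M) (hPM : ¬ (P : Subgroup G) ≤ M) :
    M ⊔ (P : Subgroup G) = ⊤ ∧ M.relIndex (P : Subgroup G) = p := by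
  have hsup : M ⊔ (P : Subgroup G) = ⊤ := by
    apply hM.2
    apply lt_of_le_of_ne le_sup_left
    intro heq
    apply hPM
    rw [heq]
    exact le_sup_right
  refine ⟨hsup, ?_⟩
  have h1 := Cfsg.Agent.Lib.helper4.relIndex_mul_index_sup (P : Subgroup G) M
  rw [hsup, Subgroup.index_top, mul_one] at h1
  have hq := h M hM
  rw [← h1] at hq
  have hdvd : M.relIndex (P : Subgroup G) ∣ Nat.card (P : Subgroup G) := Subgroup.relIndex_dvd_card _ _
  obtain ⟨n, hn⟩ := P.2.exists_card_eq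
  rw [hn] at hdvd
  exact (Nat.prime_dvd_prime_iff_eq hq hp.out).mp (hq.dvd_of_dvd_pow hdvd)

theorem inf_normal {G : Type*} [Group G] [Finite G] {p : ℕ} [hp : Fact p.Prime] (P : Sylow p G)
    [hPn : (P : Subgroup G).Normal] (h : ∀ M : Subgroup G, IsCoatom M → M.index.Prime)
    (M : Subgroup G) (hM : IsCoatom M) (hPM : ¬ (P : Subgroup G) ≤ M) :
    ((P : Subgroup G) ⊓ M).Normal := by
  obtain ⟨hsup, hrel⟩ := relIndex_eq_p P h M hM hPM
  have hPne : Nat.card (P : Subgroup G) ≠ 1 := by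
    intro h1
    apply hPM
    rw [Subgroup.card_eq_one.mp h1]
    exact bot_le
  have hnorm : (M.subgroupOf (P : Subgroup G)).Normal := by
    apply Subgroup.normal_of_index_eq_minFac_card
    obtain ⟨n, hn⟩ := P.2.exists_card_eq
    have hn0 : n ≠ 0 := by
      rintro rfl
      exact hPne (by rw [hn, pow_zero])
    rw [hn, Nat.Prime.pow_minFac hp.out hn0]
    exact hrel
  rw [← Subgroup.normalizer_eq_top_iff]
  rw [eq_top_iff, ← hsup]
  apply sup_le
  · intro m hm
    rw [Subgroup.mem_normalizer_iff]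
    intro x
    constructor
    · intro hx
      exact ⟨hPn.conj_mem x hx.1 m, M.mul_mem (M.mul_mem hm hx.2) (M.inv_mem hm)⟩
    · intro hx
      have e : x = m⁻¹ * (m * x * m⁻¹) * m⁻¹⁻¹ := by group
      rw [e]
      exact ⟨hPn.conj_mem _ hx.1 m⁻¹, M.mul_mem (M.mul_mem (M.inv_mem hm) hx.2) (M.inv_mem (M.inv_mem hm))⟩
  · intro y hy
    have key : ∀ z : G, z ∈ (P : Subgroup G) → ∀ x ∈ (P : Subgroup G) ⊓ M,
        z * x * z⁻¹ ∈ (P : Subgroup G) ⊓ M := by
      intro z hz x hx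
      refine ⟨(P : Subgroup G).mul_mem ((P : Subgroup G).mul_mem hz hx.1) ((P : Subgroup G).inv_mem hz), ?_⟩
      have := hnorm.conj_mem ⟨x, hx.1⟩ (Subgroup.mem_subgroupOf.mpr hx.2) ⟨z, hz⟩
      rw [Subgroup.mem_subgroupOf] at this
      exact this
    rw [Subgroup.mem_normalizer_iff]
    intro x
    constructor
    · intro hx
      exact key y hy x hx
    · intro hx
      have e : x = y⁻¹ * (y * x * y⁻¹) * y⁻¹⁻¹ := by group
      rw [e]
      exact key _ ((P : Subgroup G).inv_mem hy) _ hx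

theorem card_map_eq_p {G : Type*} [Group G] [Finite G] {p : ℕ} [hp : Fact p.Prime] (P : Sylow p G)
    [hPn : (P : Subgroup G).Normal] (h : ∀ M : Subgroup G, IsCoatom M → M.index.Prime)
    (M : Subgroup G) (hM : IsCoatom M) (hPM : ¬ (P : Subgroup G) ≤ M)
    [hN : ((P : Subgroup G) ⊓ M).Normal] :
    Nat.card ((P : Subgroup G).map (QuotientGroup.mk' ((P : Subgroup G) ⊓ M))) = p := by
  obtain ⟨hsup, hrel⟩ := relIndex_eq_p P h M hM hPM
  have h1 := Subgroup.relIndex_map_map (QuotientGroup.mk' ((P : Subgroup G) ⊓ M)) ⊥ (P : Subgroup G)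
  rw [Subgroup.map_bot, Subgroup.relIndex_bot_left, QuotientGroup.ker_mk', bot_sup_eq,
    sup_of_le_left inf_le_left, Subgroup.inf_relIndex_left] at h1
  rw [h1, hrel]


theorem comm_mem_of_central {G : Type*} [Group G] (N P : Subgroup G) [N.Normal] (a x : G)
    (hx : x ∈ P)
    (hcent : ∀ c ∈ P.map (QuotientGroup.mk' N),
      (QuotientGroup.mk' N a) * c * (QuotientGroup.mk' N a)⁻¹ = c) : ⁅a, x⁆ ∈ N := by
  rw [← QuotientGroup.eq_one_iff]
  have h1 := hcent (QuotientGroup.mk' N x) (Subgroup.mem_map_of_mem _ hx)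
  have h2 : ((⁅a, x⁆ : G) : G ⧸ N) =
      (QuotientGroup.mk' N a) * (QuotientGroup.mk' N x) * (QuotientGroup.mk' N a)⁻¹ *
        (QuotientGroup.mk' N x)⁻¹ := by
    rw [commutatorElement_def]
    rfl
  rw [h2, h1, mul_inv_cancel]

theorem coatom_facts {G : Type*} [Group G] [Finite G] {p : ℕ} [hp : Fact p.Prime] (P : Sylow p G)
    [hPn : (P : Subgroup G).Normal] (h : ∀ M : Subgroup G, IsCoatom M → M.index.Prime)
    (M : Subgroup G) (hM : IsCoatom M) (x : G) (hx : x ∈ (P : Subgroup G)) :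
    (∀ g k : G, ⁅⁅g, k⁆, x⁆ ∈ M) ∧ (∀ g : G, ⁅g ^ (p - 1), x⁆ ∈ M) ∧
      (∀ y ∈ (P : Subgroup G), ⁅y, x⁆ ∈ M) := by
  by_cases hPM : (P : Subgroup G) ≤ M
  · have key : ∀ a : G, ⁅a, x⁆ ∈ M := by
      intro a
      apply hPM
      rw [commutatorElement_def]
      exact (P : Subgroup G).mul_mem (hPn.conj_mem x hx a) ((P : Subgroup G).inv_mem hx)
    exact ⟨fun g k => key _, fun g => key _, fun y _ => key _⟩
  · haveI hN : ((P : Subgroup G) ⊓ M).Normal := inf_normal P h M hM hPM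
    have hcard := card_map_eq_p P h M hM hPM
    haveI hCn : ((P : Subgroup G).map (QuotientGroup.mk' ((P : Subgroup G) ⊓ M))).Normal :=
      Subgroup.Normal.map hPn _ (QuotientGroup.mk'_surjective _)
    haveI hcyc : IsCyclic ((P : Subgroup G).map (QuotientGroup.mk' ((P : Subgroup G) ⊓ M))) :=
      isCyclic_of_prime_card hcard
    refine ⟨fun g k => ?_, fun g => ?_, fun y hy => ?_⟩
    · apply (inf_le_right : (P : Subgroup G) ⊓ M ≤ M)
      apply comm_mem_of_central _ (P : Subgroup G) _ _ hx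
      intro c hc
      rw [map_commutatorElement]
      exact cyclic_normal_central _ _ _ c hc
    · apply (inf_le_right : (P : Subgroup G) ⊓ M ≤ M)
      apply comm_mem_of_central _ (P : Subgroup G) _ _ hx
      intro c hc
      rw [map_pow]
      exact cyclic_normal_pow _ p hcard _ c hc
    · apply (inf_le_right : (P : Subgroup G) ⊓ M ≤ M)
      apply comm_mem_of_central _ (P : Subgroup G) _ _ hx
      intro c hc
      exact cyclic_normal_self _ _ (Subgroup.mem_map_of_mem _ hy) c hc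

def K1 {G : Type*} [Group G] (P N : Subgroup G) [hN : N.Normal] : Subgroup G where
  carrier := {g | ∀ x ∈ P, ⁅g, x⁆ ∈ N}
  one_mem' := by
    intro x _
    rw [commutatorElement_def]
    simp
  mul_mem' := by
    intro a b ha hb x hx
    have e : ⁅a * b, x⁆ = a * ⁅b, x⁆ * a⁻¹ * ⁅a, x⁆ := by
      simp only [commutatorElement_def]; group
    rw [e]
    exact N.mul_mem (hN.conj_mem _ (hb x hx) a) (ha x hx)
  inv_mem' := by
    intro a ha x hx
    have e : ⁅a⁻¹, x⁆ = a⁻¹ * ⁅a, x⁆⁻¹ * a⁻¹⁻¹ := by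
      simp only [commutatorElement_def]; group
    rw [e]
    exact hN.conj_mem _ (N.inv_mem (ha x hx)) a⁻¹

theorem mem_K1 {G : Type*} [Group G] (P N : Subgroup G) [hN : N.Normal] (g : G) :
    g ∈ K1 P N ↔ ∀ x ∈ P, ⁅g, x⁆ ∈ N := Iff.rfl

theorem K1_normal {G : Type*} [Group G] (P N : Subgroup G) [hN : N.Normal] [hP : P.Normal] :
    (K1 P N).Normal := by
  refine ⟨fun a ha t => ?_⟩
  rw [mem_K1]
  intro x hx
  have e : ⁅t * a * t⁻¹, x⁆ = t * ⁅a, t⁻¹ * x * t⁻¹⁻¹⁆ * t⁻¹ := by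
    simp only [commutatorElement_def]; group
  rw [e]
  exact hN.conj_mem _ (ha _ (hP.conj_mem x hx t⁻¹)) t


def omegaZ {G : Type*} [Group G] (P : Subgroup G) (p : ℕ) : Subgroup G where
  carrier := {x | x ∈ P ∧ (∀ y ∈ P, y * x = x * y) ∧ x ^ p = 1}
  one_mem' := ⟨P.one_mem, fun y _ => by simp, one_pow p⟩
  mul_mem' := by
    rintro a b ⟨ha, hac, hap⟩ ⟨hb, hbc, hbp⟩
    refine ⟨P.mul_mem ha hb, fun y hy => ?_, ?_⟩
    · rw [← mul_assoc, hac y hy, mul_assoc, hbc y hy, mul_assoc]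
    · have hc : Commute a b := (hbc a ha)
      rw [hc.mul_pow, hap, hbp, one_mul]
  inv_mem' := by
    rintro a ⟨ha, hac, hap⟩
    refine ⟨P.inv_mem ha, fun y hy => ?_, by rw [inv_pow, hap, inv_one]⟩
    have := hac y hy
    calc y * a⁻¹ = a⁻¹ * (a * y) * a⁻¹ := by group
      _ = a⁻¹ * (y * a) * a⁻¹ := by rw [this]
      _ = a⁻¹ * y := by group

theorem mem_omegaZ {G : Type*} [Group G] (P : Subgroup G) (p : ℕ) (x : G) :
    x ∈ omegaZ P p ↔ x ∈ P ∧ (∀ y ∈ P, y * x = x * y) ∧ x ^ p = 1 := Iff.rfl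

theorem omegaZ_normal {G : Type*} [Group G] (P : Subgroup G) (p : ℕ) [hP : P.Normal] :
    (omegaZ P p).Normal := by
  refine ⟨fun a ha t => ?_⟩
  obtain ⟨haP, hac, hap⟩ := ha
  refine ⟨hP.conj_mem a haP t, fun y hy => ?_, ?_⟩
  · have := hac (t⁻¹ * y * t⁻¹⁻¹) (hP.conj_mem y hy t⁻¹)
    calc y * (t * a * t⁻¹) = t * ((t⁻¹ * y * t⁻¹⁻¹) * a) * t⁻¹ := by group
      _ = t * (a * (t⁻¹ * y * t⁻¹⁻¹)) * t⁻¹ := by rw [this]
      _ = t * a * t⁻¹ * y := by group
  · rw [conj_pow, hap]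
    group

theorem omegaZ_ne_bot {G : Type*} [Group G] [Finite G] {p : ℕ} [hp : Fact p.Prime] (P : Sylow p G)
    [hPn : (P : Subgroup G).Normal] (hPne : (P : Subgroup G) ≠ ⊥) :
    omegaZ (P : Subgroup G) p ≠ ⊥ := by
  haveI : Nontrivial (P : Subgroup G) := (Subgroup.nontrivial_iff_ne_bot _).mpr hPne
  haveI hZ : Nontrivial (Subgroup.center (P : Subgroup G)) := P.2.center_nontrivial
  have hZp : IsPGroup p (Subgroup.center (P : Subgroup G)) := P.2.to_subgroup _
  have hdvd : p ∣ Nat.card (Subgroup.center (P : Subgroup G)) := by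
    rcases hZp.card_eq_or_dvd with h1 | h1
    · exfalso
      have := Finite.one_lt_card_iff_nontrivial.mpr hZ
      omega
    · exact h1
  obtain ⟨z, hz⟩ := exists_prime_orderOf_dvd_card' p hdvd
  intro hbot
  have hzmem : ((z : (P : Subgroup G)) : G) ∈ omegaZ (P : Subgroup G) p := by
    refine ⟨(z : (P : Subgroup G)).2, fun y hy => ?_, ?_⟩
    · have := Subgroup.mem_center_iff.mp z.2 ⟨y, hy⟩
      exact congrArg Subtype.val this
    · have : z ^ p = 1 := by
        have h3 := pow_orderOf_eq_one z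
        rwa [hz] at h3
      have h2 := congrArg (fun w : Subgroup.center (P : Subgroup G) => ((w : (P : Subgroup G)) : G)) this
      simpa using h2
  rw [hbot, Subgroup.mem_bot] at hzmem
  have hz1 : z = 1 := by
    apply Subtype.ext
    apply Subtype.ext
    exact hzmem
  rw [hz1, orderOf_one] at hz
  exact hp.out.one_lt.ne hz


theorem exists_normal_prime {G : Type*} [Group G] [Finite G] {p : ℕ} [hp : Fact p.Prime]
    (P : Sylow p G) [hPn : (P : Subgroup G).Normal] (hPne : (P : Subgroup G) ≠ ⊥)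
    (h : ∀ M : Subgroup G, IsCoatom M → M.index.Prime) :
    ∃ v : G, v ≠ 1 ∧ v ^ p = 1 ∧ (Subgroup.zpowers v).Normal := by
  haveI hΦ : (frattini G).Normal := Subgroup.normal_of_characteristic _
  haveI hK1n : (K1 (P : Subgroup G) (frattini G)).Normal := K1_normal _ _
  have hfacts : ∀ x ∈ (P : Subgroup G), (∀ g k : G, ⁅⁅g, k⁆, x⁆ ∈ frattini G) ∧
      (∀ g : G, ⁅g ^ (p - 1), x⁆ ∈ frattini G) ∧
      (∀ y ∈ (P : Subgroup G), ⁅y, x⁆ ∈ frattini G) := by
    intro x hx
    refine ⟨fun g k => ?_, fun g => ?_, fun y hy => ?_⟩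
    · rw [Cfsg.Agent.Lib.Helper5.h5_mem_frattini_iff]
      intro M hM
      exact (coatom_facts P h M hM x hx).1 g k
    · rw [Cfsg.Agent.Lib.Helper5.h5_mem_frattini_iff]
      intro M hM
      exact (coatom_facts P h M hM x hx).2.1 g
    · rw [Cfsg.Agent.Lib.Helper5.h5_mem_frattini_iff]
      intro M hM
      exact (coatom_facts P h M hM x hx).2.2 y hy
  have hcommK1 : ∀ g k : G, ⁅g, k⁆ ∈ K1 (P : Subgroup G) (frattini G) :=
    fun g k x hx => (hfacts x hx).1 g k
  have hpowK1 : ∀ g : G, g ^ (p - 1) ∈ K1 (P : Subgroup G) (frattini G) :=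
    fun g x hx => (hfacts x hx).2.1 g
  have hPK1 : (P : Subgroup G) ≤ K1 (P : Subgroup G) (frattini G) :=
    fun y hy x hx => (hfacts x hx).2.2 y hy
  obtain ⟨K, hK⟩ := Subgroup.exists_right_complement'_of_coprime (N := (P : Subgroup G))
    P.card_coprime_index
  have hKcard : (P : Subgroup G).index = Nat.card K := hK.symm.index_eq_card
  have hK0norm : K ≤ Subgroup.normalizer ((K1 (P : Subgroup G) (frattini G) ⊓ K : Subgroup G) : Set G) := by
    intro k hk
    have key : ∀ t : G, t ∈ K → ∀ x ∈ K1 (P : Subgroup G) (frattini G) ⊓ K,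
        t * x * t⁻¹ ∈ K1 (P : Subgroup G) (frattini G) ⊓ K := by
      intro t ht x hx
      exact ⟨hK1n.conj_mem x hx.1 t, K.mul_mem (K.mul_mem ht hx.2) (K.inv_mem ht)⟩
    rw [Subgroup.mem_normalizer_iff]
    intro x
    constructor
    · intro hx
      exact key k hk x hx
    · intro hx
      have e : x = k⁻¹ * (k * x * k⁻¹) * k⁻¹⁻¹ := by group
      rw [e]
      exact key _ (K.inv_mem hk) _ hx
  have hDn : ((P : Subgroup G) ⊓ frattini G).Normal := Subgroup.normal_inf_normal _ _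
  have hcop : (Nat.card (K1 (P : Subgroup G) (frattini G) ⊓ K : Subgroup G)).Coprime
      (Nat.card ((P : Subgroup G) ⊓ frattini G : Subgroup G)) := by
    have h1 : Nat.card (K1 (P : Subgroup G) (frattini G) ⊓ K : Subgroup G) ∣ (P : Subgroup G).index := by
      rw [hKcard]
      exact Subgroup.card_dvd_of_le inf_le_right
    have h2 : Nat.card ((P : Subgroup G) ⊓ frattini G : Subgroup G) ∣ Nat.card (P : Subgroup G) :=
      Subgroup.card_dvd_of_le inf_le_left
    exact Nat.Coprime.coprime_dvd_left h1 (Nat.Coprime.coprime_dvd_right h2 P.card_coprime_index.symm)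
  have hDsolv : Group.IsSolvable ((P : Subgroup G) ⊓ frattini G : Subgroup G) := by
    have hpg : IsPGroup p ((P : Subgroup G) ⊓ frattini G : Subgroup G) := P.2.to_le inf_le_left
    have : Group.IsNilpotent ((P : Subgroup G) ⊓ frattini G : Subgroup G) := hpg.isNilpotent
    infer_instance
  have hfix : ∀ x ∈ (P : Subgroup G), ∃ d ∈ (P : Subgroup G) ⊓ frattini G,
      x * d ∈ Subgroup.centralizer ((K1 (P : Subgroup G) (frattini G) ⊓ K : Subgroup G) : Set G) := by
    intro x hx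
    apply Cfsg.Agent.Lib.Lead.coset_fixed _ _ _ hcop (Or.inr hDsolv) x
    · intro a ha
      have hxi : x⁻¹ ∈ (P : Subgroup G) := (P : Subgroup G).inv_mem hx
      have e : x⁻¹ * (a * x * a⁻¹) = (⁅a, x⁻¹⁆)⁻¹ := by
        simp only [commutatorElement_def]; group
      rw [e]
      refine ⟨?_, (frattini G).inv_mem (ha.1 _ hxi)⟩
      apply (P : Subgroup G).inv_mem
      rw [commutatorElement_def]
      exact (P : Subgroup G).mul_mem (hPn.conj_mem _ hxi a) ((P : Subgroup G).inv_mem hxi)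
    · rw [Subgroup.normalizer_eq_top_iff.mpr hDn]
      exact le_top
  have hK0n : (K1 (P : Subgroup G) (frattini G) ⊓ K : Subgroup G).Normal := by
    rw [← Subgroup.normalizer_eq_top_iff]
    apply frattini_nongenerating
    rw [eq_top_iff, ← hK.sup_eq_top]
    apply sup_le
    · intro x hx
      obtain ⟨d, hd, hxd⟩ := hfix x hx
      have e : x = (x * d) * d⁻¹ := by group
      rw [e]
      exact Subgroup.mul_mem _ (Subgroup.mem_sup_left (Subgroup.centralizer_le_normalizer _ hxd))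
        (Subgroup.mem_sup_right ((frattini G).inv_mem hd.2))
    · exact hK0norm.trans le_sup_left
  have hdisj : Disjoint (K1 (P : Subgroup G) (frattini G) ⊓ K : Subgroup G) (P : Subgroup G) := by
    apply Subgroup.disjoint_of_coprime_natCard
    have h1 : Nat.card (K1 (P : Subgroup G) (frattini G) ⊓ K : Subgroup G) ∣ (P : Subgroup G).index := by
      rw [hKcard]
      exact Subgroup.card_dvd_of_le inf_le_right
    exact Nat.Coprime.coprime_dvd_left h1 P.card_coprime_index.symm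
  have hK0P : ∀ k ∈ (K1 (P : Subgroup G) (frattini G) ⊓ K : Subgroup G), ∀ x ∈ (P : Subgroup G),
      Commute k x := fun k hk x hx =>
    Subgroup.commute_of_normal_of_disjoint _ _ hK0n hPn hdisj k x hk hx
  have hK1E : ∀ g ∈ K1 (P : Subgroup G) (frattini G), ∀ v ∈ omegaZ (P : Subgroup G) p,
      g * v = v * g := by
    intro g hg v hv
    have hgtop : g ∈ (P : Subgroup G) ⊔ K := by rw [hK.sup_eq_top]; exact Subgroup.mem_top g
    have hgtop' : g ∈ ((P : Subgroup G) : Set G) * (K : Set G) := by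
      rw [← Subgroup.normal_mul]
      exact hgtop
    obtain ⟨x, hx, k, hk, rfl⟩ := Set.mem_mul.mp hgtop'
    have hkK1 : k ∈ K1 (P : Subgroup G) (frattini G) := by
      have e : k = x⁻¹ * (x * k) := by group
      rw [e]
      exact Subgroup.mul_mem _ (Subgroup.inv_mem _ (hPK1 hx)) hg
    have h1 : Commute k v := hK0P k ⟨hkK1, hk⟩ v hv.1
    have h2 : x * v = v * x := hv.2.1 x hx
    rw [mul_assoc, h1.eq, ← mul_assoc, h2, mul_assoc]
  haveI hEn : (omegaZ (P : Subgroup G) p).Normal := omegaZ_normal _ _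
  apply exists_normal_prime_of_eigen (p := p) (omegaZ (P : Subgroup G) p)
  · intro x hx y hy
    exact (hy.2.1 x hx.1)
  · intro x hx
    exact hx.2.2
  · exact omegaZ_ne_bot P hPne
  · intro g k v hv
    exact hK1E _ (hcommK1 g k) v hv
  · intro g v hv
    rw [hK1E _ (hpowK1 g) v hv]
    group


universe u

theorem aux : ∀ (n : ℕ) (G : Type u) [Group G] [Finite G], Nat.card G = n →
    (∀ M : Subgroup G, IsCoatom M → M.index.Prime) → Cfsg.IsSupersolvable G := by
  intro n
  induction n using Nat.strong_induction_on with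
  | _ n ih =>
    intro G _ _ hcard h
    by_cases htriv : Nat.card G = 1
    · have : Subsingleton G := (Nat.card_eq_one_iff_unique.mp htriv).1
      exact Cfsg.Agent.Lib.helper4.isSupersolvable_of_subsingleton
    · have hpos : 0 < Nat.card G := Nat.card_pos
      have hne : (Nat.card G).primeFactors.Nonempty := by
        rw [Nat.nonempty_primeFactors]
        omega
      set p := (Nat.card G).primeFactors.max' hne with hpdef
      have hpmem : p ∈ (Nat.card G).primeFactors := Finset.max'_mem _ hne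
      have hpp : p.Prime := Nat.prime_of_mem_primeFactors hpmem
      have hpdvd : p ∣ Nat.card G := Nat.dvd_of_mem_primeFactors hpmem
      have : Fact p.Prime := ⟨hpp⟩
      have hmax : ∀ q : ℕ, q.Prime → q ∣ Nat.card G → q ≤ p := by
        intro q hq hqd
        apply Finset.le_max'
        exact Nat.mem_primeFactors.mpr ⟨hq, hqd, hpos.ne'⟩
      obtain ⟨P⟩ : Nonempty (Sylow p G) := inferInstance
      have hPn : (P : Subgroup G).Normal := Cfsg.Agent.S0580.sylow_normal_of_largest h p hmax P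
      have hPne : (P : Subgroup G) ≠ ⊥ := P.ne_bot_of_dvd_card hpdvd
      obtain ⟨v, hv1, hvp, hvn⟩ := exists_normal_prime P hPne h
      have hord : orderOf v = p := orderOf_eq_prime hvp hv1
      have hZcard : Nat.card (Subgroup.zpowers v) = p := by rw [Nat.card_zpowers, hord]
      have hlt : Nat.card (G ⧸ Subgroup.zpowers v) < n := by
        rw [← hcard]
        exact Cfsg.Agent.Lib.helper4.card_quotient_lt _ (by rw [hZcard]; exact hpp)
      have hQ : Cfsg.IsSupersolvable (G ⧸ Subgroup.zpowers v) := by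
        apply ih _ hlt (G ⧸ Subgroup.zpowers v) rfl
        intro M hM
        have hsurj : Function.Surjective (QuotientGroup.mk' (Subgroup.zpowers v)) :=
          QuotientGroup.mk'_surjective _
        have hco := Subgroup.isCoatom_comap_of_surjective hsurj hM
        have := h _ hco
        rwa [Subgroup.index_comap_of_surjective _ hsurj] at this
      exact Cfsg.Agent.Lib.helper4.isSupersolvable_of_cyclic_normal (Subgroup.zpowers v) hQ

theorem result {G : Type*} [Group G] [Finite G] (h : ∀ M : Subgroup G, IsCoatom M → M.index.Prime) : Cfsg.IsSupersolvable G := by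
  exact aux (Nat.card G) G rfl h

end Cfsg.Agent.S0579
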