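import Mathlib
import Cfsg.Statements.S0559

set_option autoImplicit false
open Pointwise
open Cfsg

namespace Cfsg.Agent.S0559

theorem result {G : Type*} [Group G] [Finite G] (H K A B : Subgroup G) (hHK : ∀ g : G, ∃ h ∈ H, ∃ k ∈ K, g = h * k) (hA : ∃ x : G, A = MulAut.conj x • H) (hB : ∃ y : G, B = MulAut.conj y • K) : (∀ g : G, ∃ a ∈ A, ∃ b ∈ B, g = a * b) ∧ ∃ g : G, A = MulAut.conj g • H ∧ B = MulAut.conj g • K := by
  obtain ⟨x, rfl⟩ := hA
  obtain ⟨y, rfl⟩ := hB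
  obtain ⟨h, hh, k, hk, hxy⟩ := hHK (x⁻¹ * y)
  have hg : x * h = y * k⁻¹ := by
    have : y = x * (h * k) := by rw [← hxy]; group
    rw [this]; group
  have h1 : MulAut.conj (x * h) • H = MulAut.conj x • H := by
    rw [map_mul, mul_smul, Subgroup.conj_smul_eq_self_of_mem hh]
  have h2 : MulAut.conj (x * h) • K = MulAut.conj y • K := by
    rw [hg, map_mul, mul_smul, Subgroup.conj_smul_eq_self_of_mem (K.inv_mem hk)]
  have key : ∃ g : G, MulAut.conj x • H = MulAut.conj g • H ∧ MulAut.conj y • K = MulAut.conj g • K :=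
    ⟨x * h, h1.symm, h2.symm⟩
  refine ⟨?_, key⟩
  obtain ⟨g, e1, e2⟩ := key
  rw [e1, e2]
  intro z
  obtain ⟨a, ha, b, hb, hz⟩ := hHK (g⁻¹ * z * g)
  refine ⟨g * a * g⁻¹, ?_, g * b * g⁻¹, ?_, ?_⟩
  · exact (Subgroup.mem_smul_pointwise_iff_exists _ _ _).2 ⟨a, ha, by simp [MulAut.smul_def]⟩
  · exact (Subgroup.mem_smul_pointwise_iff_exists _ _ _).2 ⟨b, hb, by simp [MulAut.smul_def]⟩
  · have : z = g * (g⁻¹ * z * g) * g⁻¹ := by group
    rw [this, hz]; group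

end Cfsg.Agent.S0559
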