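import Mathlib
import Cfsg.Statements.S0562

set_option autoImplicit false
open Pointwise
open Cfsg

namespace Cfsg.Agent.S0562

theorem mem_normalizer_of_le_map {G : Type*} [Group G] [Finite G] (J : Subgroup G) (k : G)
    (h : J ≤ J.map (MulAut.conj k).toMonoidHom) : k ∈ Subgroup.normalizer (J : Set G) := by
  rw [Subgroup.mem_normalizer_iff_map_conj_eq]
  have hcard : Nat.card (J.map (MulAut.conj k).toMonoidHom) = Nat.card J :=
    Subgroup.card_map_of_injective (MulAut.conj k).injective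
  exact (Subgroup.eq_of_le_of_card_ge h hcard.le).symm

theorem result {G : Type*} [Group G] [Finite G] (H K A B : Subgroup G) (hHK : ∀ g : G, ∃ h ∈ H, ∃ k ∈ K, g = h * k) (hA : A ≤ H) (hAn : (A.subgroupOf H).Normal) (hB : B ≤ K) (hBn : (B.subgroupOf K).Normal) : ∀ g ∈ Subgroup.normalizer ((A ⊔ B : Subgroup G) : Set G), ∃ h ∈ Subgroup.normalizer ((A ⊔ B : Subgroup G) : Set G) ⊓ H, ∃ k ∈ Subgroup.normalizer ((A ⊔ B : Subgroup G) : Set G) ⊓ K, g = h * k := by
  intro g hg
  obtain ⟨h, hh, k, hk, rfl⟩ := hHK g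
  have hHA : H ≤ Subgroup.normalizer (A : Set G) := Subgroup.le_normalizer_of_normal_subgroupOf hA
  have hKB : K ≤ Subgroup.normalizer (B : Set G) := Subgroup.le_normalizer_of_normal_subgroupOf hB
  set J : Subgroup G := A ⊔ B with hJ
  have hgJ : ∀ x, x ∈ J ↔ (h * k) * x * (h * k)⁻¹ ∈ J := Subgroup.mem_normalizer_iff.mp hg
  have hkN : k ∈ Subgroup.normalizer (J : Set G) := by
    apply mem_normalizer_of_le_map
    rw [hJ]
    apply sup_le
    · intro a ha
      have h1 : h * a * h⁻¹ ∈ A := (Subgroup.mem_normalizer_iff.mp (hHA hh) a).mp ha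
      have h2 : h * a * h⁻¹ ∈ J := Subgroup.mem_sup_left h1
      have h3 : (h * k)⁻¹ * (h * a * h⁻¹) * (h * k) ∈ J := by
        rw [hgJ]
        convert h2 using 1
        group
      refine ⟨(h * k)⁻¹ * (h * a * h⁻¹) * (h * k), h3, ?_⟩
      simp only [MulEquiv.coe_toMonoidHom, MulAut.conj_apply]
      group
    · intro b hb
      have h1 : k⁻¹ * b * k ∈ B := (Subgroup.mem_normalizer_iff''.mp (hKB hk) b).mp hb
      refine ⟨k⁻¹ * b * k, Subgroup.mem_sup_right h1, ?_⟩
      simp only [MulEquiv.coe_toMonoidHom, MulAut.conj_apply]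
      group
  have hhN : h ∈ Subgroup.normalizer (J : Set G) := by
    have : h = (h * k) * k⁻¹ := by group
    rw [this]
    exact mul_mem hg (inv_mem hkN)
  exact ⟨h, ⟨hhN, hh⟩, k, ⟨hkN, hk⟩, rfl⟩

end Cfsg.Agent.S0562
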