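import Mathlib
import Cfsg.Statements.S0566

set_option autoImplicit false
open Cfsg
open scoped Pointwise

namespace Cfsg.Agent.S0566

variable {G : Type*} [Group G]

def Perm (H K : Subgroup G) : Prop :=
  ∀ h ∈ H, ∀ k ∈ K, ∃ k' ∈ K, ∃ h' ∈ H, h * k = k' * h'

theorem perm_of_eq {H K S : Subgroup G} (hS : (S : Set G) = (H : Set G) * (K : Set G)) :
    Perm H K := by
  intro h hh k hk
  have h1 : h * k ∈ S := by
    rw [← SetLike.mem_coe, hS]; exact Set.mul_mem_mul hh hk
  have h2 : (h * k)⁻¹ ∈ (S : Set G) := S.inv_mem h1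
  rw [hS] at h2
  obtain ⟨h', hh', k', hk', heq⟩ := h2
  refine ⟨k'⁻¹, K.inv_mem hk', h'⁻¹, H.inv_mem hh', ?_⟩
  have heq' : h' * k' = (h * k)⁻¹ := heq
  have h3 : h * k = (h' * k')⁻¹ := by rw [heq']; simp
  rw [h3]; group

theorem perm_symm {H K : Subgroup G} (h : Perm H K) : Perm K H := by
  intro k hk x hx
  obtain ⟨k', hk', h', hh', heq⟩ := h x⁻¹ (H.inv_mem hx) k⁻¹ (K.inv_mem hk)
  refine ⟨h'⁻¹, H.inv_mem hh', k'⁻¹, K.inv_mem hk', ?_⟩
  have h3 : k * x = (x⁻¹ * k⁻¹)⁻¹ := by group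
  rw [h3, heq]; group

theorem exists_subgroup_of_perm {H K : Subgroup G} (h : Perm H K) :
    ∃ S : Subgroup G, (S : Set G) = (H : Set G) * (K : Set G) := by
  have h' := perm_symm h
  refine ⟨{ carrier := (H : Set G) * (K : Set G), mul_mem' := ?_, one_mem' := ?_,
            inv_mem' := ?_ }, rfl⟩
  · rintro _ _ ⟨a, ha, b, hb, rfl⟩ ⟨c, hc, d, hd, rfl⟩
    obtain ⟨c', hc', b', hb', heq⟩ := h' b hb c hc
    refine ⟨a * c', H.mul_mem ha hc', b' * d, K.mul_mem hb' hd, ?_⟩
    calc a * c' * (b' * d) = a * (c' * b') * d := by group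
      _ = a * (b * c) * d := by rw [heq]
      _ = a * b * (c * d) := by group
  · exact ⟨1, H.one_mem, 1, K.one_mem, by simp⟩
  · rintro _ ⟨a, ha, b, hb, rfl⟩
    obtain ⟨a', ha', b', hb', heq⟩ := h' b⁻¹ (K.inv_mem hb) a⁻¹ (H.inv_mem ha)
    refine ⟨a', ha', b', hb', ?_⟩
    show a' * b' = (a * b)⁻¹
    rw [← heq]; group

theorem perm_sup {H₁ H₂ K : Subgroup G} (h₁ : Perm H₁ K) (h₂ : Perm H₂ K) :
    Perm (H₁ ⊔ H₂) K := by
  have key : ∀ l ∈ H₁ ⊔ H₂,
      (∀ k ∈ K, ∃ k' ∈ K, ∃ l' ∈ H₁ ⊔ H₂, l * k = k' * l') ∧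
      (∀ k ∈ K, ∃ l' ∈ H₁ ⊔ H₂, ∃ k' ∈ K, k * l = l' * k') := by
    intro l hl
    have hl' : l ∈ Subgroup.closure ((H₁ : Set G) ∪ (H₂ : Set G)) := by
      rw [Subgroup.closure_union, Subgroup.closure_eq, Subgroup.closure_eq]; exact hl
    refine Subgroup.closure_induction
      (p := fun l _ => (∀ k ∈ K, ∃ k' ∈ K, ∃ l' ∈ H₁ ⊔ H₂, l * k = k' * l') ∧
        (∀ k ∈ K, ∃ l' ∈ H₁ ⊔ H₂, ∃ k' ∈ K, k * l = l' * k')) ?_ ?_ ?_ ?_ hl'
    · intro x hx
      rcases hx with hx | hx
      · constructor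
        · intro k hk
          obtain ⟨k', hk', x', hx', heq⟩ := h₁ x hx k hk
          exact ⟨k', hk', x', Subgroup.mem_sup_left hx', heq⟩
        · intro k hk
          obtain ⟨x', hx', k', hk', heq⟩ := perm_symm h₁ k hk x hx
          exact ⟨x', Subgroup.mem_sup_left hx', k', hk', heq⟩
      · constructor
        · intro k hk
          obtain ⟨k', hk', x', hx', heq⟩ := h₂ x hx k hk
          exact ⟨k', hk', x', Subgroup.mem_sup_right hx', heq⟩
        · intro k hk
          obtain ⟨x', hx', k', hk', heq⟩ := perm_symm h₂ k hk x hx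
          exact ⟨x', Subgroup.mem_sup_right hx', k', hk', heq⟩
    · constructor
      · intro k hk
        exact ⟨k, hk, 1, Subgroup.one_mem _, by simp⟩
      · intro k hk
        exact ⟨1, Subgroup.one_mem _, k, hk, by simp⟩
    · rintro x y _ _ ⟨hx1, hx2⟩ ⟨hy1, hy2⟩
      constructor
      · intro k hk
        obtain ⟨k₁, hk₁, y', hy', e₁⟩ := hy1 k hk
        obtain ⟨k₂, hk₂, x', hx', e₂⟩ := hx1 k₁ hk₁
        refine ⟨k₂, hk₂, x' * y', Subgroup.mul_mem _ hx' hy', ?_⟩
        calc x * y * k = x * (y * k) := by group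
          _ = x * (k₁ * y') := by rw [e₁]
          _ = (x * k₁) * y' := by group
          _ = (k₂ * x') * y' := by rw [e₂]
          _ = k₂ * (x' * y') := by group
      · intro k hk
        obtain ⟨x', hx', k₁, hk₁, e₁⟩ := hx2 k hk
        obtain ⟨y', hy', k₂, hk₂, e₂⟩ := hy2 k₁ hk₁
        refine ⟨x' * y', Subgroup.mul_mem _ hx' hy', k₂, hk₂, ?_⟩
        calc k * (x * y) = (k * x) * y := by group
          _ = (x' * k₁) * y := by rw [e₁]
          _ = x' * (k₁ * y) := by group
          _ = x' * (y' * k₂) := by rw [e₂]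
          _ = x' * y' * k₂ := by group
    · rintro x _ ⟨hx1, hx2⟩
      constructor
      · intro k hk
        obtain ⟨x', hx', k', hk', e⟩ := hx2 k⁻¹ (K.inv_mem hk)
        refine ⟨k'⁻¹, K.inv_mem hk', x'⁻¹, Subgroup.inv_mem _ hx', ?_⟩
        have h3 : x⁻¹ * k = (k⁻¹ * x)⁻¹ := by group
        rw [h3, e]; group
      · intro k hk
        obtain ⟨k', hk', x', hx', e⟩ := hx1 k⁻¹ (K.inv_mem hk)
        refine ⟨x'⁻¹, Subgroup.inv_mem _ hx', k'⁻¹, K.inv_mem hk', ?_⟩
        have h3 : k * x⁻¹ = (x * k⁻¹)⁻¹ := by group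
        rw [h3, e]; group
  intro l hl k hk
  exact (key l hl).1 k hk

theorem mem_conj_smul {H : Subgroup G} {g x : G} :
    x ∈ MulAut.conj g • H ↔ ∃ h ∈ H, x = g * h * g⁻¹ := by
  rw [Subgroup.mem_smul_pointwise_iff_exists]
  constructor
  · rintro ⟨s, hs, rfl⟩
    exact ⟨s, hs, by simp [MulAut.smul_def, MulAut.conj_apply]⟩
  · rintro ⟨h, hh, rfl⟩
    exact ⟨h, hh, by simp [MulAut.smul_def, MulAut.conj_apply]⟩

theorem card_conj_smul (g : G) (H : Subgroup G) :
    Nat.card (MulAut.conj g • H : Subgroup G) = Nat.card H := by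
  have h1 : Nat.card ((MulAut.conj g • H : Subgroup G) : Set G) = Nat.card (H : Set G) := by
    rw [Subgroup.coe_pointwise_smul]; exact Set.natCard_smul_set _ _
  exact h1

theorem perm_conj {H K : Subgroup G} (g : G) (h : Perm H K) :
    Perm (MulAut.conj g • H) (MulAut.conj g • K) := by
  intro x hx y hy
  obtain ⟨a, ha, rfl⟩ := mem_conj_smul.mp hx
  obtain ⟨b, hb, rfl⟩ := mem_conj_smul.mp hy
  obtain ⟨b', hb', a', ha', e⟩ := h a ha b hb
  refine ⟨g * b' * g⁻¹, mem_conj_smul.mpr ⟨b', hb', rfl⟩, g * a' * g⁻¹,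
    mem_conj_smul.mpr ⟨a', ha', rfl⟩, ?_⟩
  calc g * a * g⁻¹ * (g * b * g⁻¹) = g * (a * b) * g⁻¹ := by group
    _ = g * (b' * a') * g⁻¹ := by rw [e]
    _ = g * b' * g⁻¹ * (g * a' * g⁻¹) := by group

theorem key_lemma [Finite G] (B : Subgroup G)
    (hBtop : Subgroup.normalClosure (B : Set G) = ⊤) :
    ∀ (n : ℕ) (A : Subgroup G), Nat.card G - Nat.card A = n →
      (∀ x : G, ∃ S : Subgroup G, S ≠ ⊤ ∧
        (S : Set G) = (A : Set G) * ((MulAut.conj x • B : Subgroup G) : Set G)) →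
      Subgroup.normalClosure (A : Set G) ≠ ⊤ := by
  intro n
  induction n using Nat.strong_induction_on with
  | _ n ih =>
    intro A hn h hAtop
    have hperm : ∀ x : G, Perm A (MulAut.conj x • B) := by
      intro x
      obtain ⟨S, _, hS⟩ := h x
      exact perm_of_eq hS
    have hex : ∃ x : G, ∃ b ∈ MulAut.conj x • B, MulAut.conj b • A ≠ A := by
      by_contra hcon
      push Not at hcon
      set Tn : Subgroup G := (MulAction.stabilizer (MulAut G) A).comap MulAut.conj with hTn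
      have hmem : ∀ g : G, g ∈ Tn ↔ MulAut.conj g • A = A := by
        intro g
        rw [hTn, Subgroup.mem_comap, MulAction.mem_stabilizer_iff]
      have hle : Subgroup.normalClosure (B : Set G) ≤ Tn := by
        unfold Subgroup.normalClosure
        rw [Subgroup.closure_le]
        intro c hc
        rw [Group.mem_conjugatesOfSet_iff] at hc
        obtain ⟨b₀, hb₀, hconj⟩ := hc
        rw [isConj_iff] at hconj
        obtain ⟨x, rfl⟩ := hconj
        rw [SetLike.mem_coe, hmem]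
        exact hcon x _ (mem_conj_smul.mpr ⟨b₀, hb₀, rfl⟩)
      rw [hBtop, top_le_iff] at hle
      have hAn : A.Normal := by
        constructor
        intro a ha g
        have hg : g ∈ Tn := by rw [hle]; trivial
        rw [hmem] at hg
        rw [← hg]
        exact mem_conj_smul.mpr ⟨a, ha, rfl⟩
      rw [Subgroup.normalClosure_eq_self] at hAtop
      obtain ⟨S, hS1, hS2⟩ := h 1
      apply hS1
      rw [eq_top_iff]
      intro g _
      rw [← SetLike.mem_coe, hS2, hAtop]
      exact ⟨g, trivial, 1, Subgroup.one_mem _, by simp⟩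
    obtain ⟨x, b, hb, hbA⟩ := hex
    set A' : Subgroup G := A ⊔ MulAut.conj b • A with hA'
    have hAA' : A < A' := by
      refine lt_of_le_of_ne le_sup_left ?_
      intro heq
      apply hbA
      have hle : MulAut.conj b • A ≤ A := le_of_le_of_eq le_sup_right heq.symm
      apply Subgroup.eq_of_le_of_card_ge hle
      rw [card_conj_smul]
    have hperm' : ∀ y : G, Perm A' (MulAut.conj y • B) := by
      intro y
      apply perm_sup (hperm y)
      have h1 := perm_conj b (hperm (b⁻¹ * y))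
      have h2 : MulAut.conj b • MulAut.conj (b⁻¹ * y) • B = MulAut.conj y • B := by
        have e : b * (b⁻¹ * y) = y := by group
        rw [smul_smul, ← map_mul, e]
      rw [h2] at h1
      exact h1
    by_cases hcase : ∀ y : G, ((A' : Set G) * ((MulAut.conj y • B : Subgroup G) : Set G)) ≠ Set.univ
    · have hlt : Nat.card G - Nat.card A' < n := by
        have h1 : Nat.card A < Nat.card A' :=
          lt_of_le_of_ne (Subgroup.card_le_of_le hAA'.le)
            (fun hc => hAA'.ne (Subgroup.eq_of_le_of_card_ge hAA'.le hc.ge))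
        have h2 : Nat.card A' ≤ Nat.card G := Subgroup.card_le_card_group A'
        omega
      refine ih _ hlt A' rfl ?_ ?_
      · intro y
        obtain ⟨S, hS⟩ := exists_subgroup_of_perm (hperm' y)
        refine ⟨S, ?_, hS⟩
        intro hStop
        apply hcase y
        rw [← hS, hStop]; rfl
      · rw [eq_top_iff, ← hAtop]
        exact Subgroup.normalClosure_mono (SetLike.coe_subset_coe.mpr hAA'.le)
    · push Not at hcase
      obtain ⟨y, hy⟩ := hcase
      have hmem : x * y⁻¹ ∈ (A' : Set G) * ((MulAut.conj y • B : Subgroup G) : Set G) := by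
        rw [hy]; trivial
      obtain ⟨a, ha, c, hc, hac⟩ := hmem
      have hxB : MulAut.conj x • B = MulAut.conj a • MulAut.conj y • B := by
        have h1 : MulAut.conj x • B = MulAut.conj (x * y⁻¹) • MulAut.conj y • B := by
          have e : x * y⁻¹ * y = x := by group
          rw [smul_smul, ← map_mul, e]
        rw [h1, ← hac, map_mul, mul_smul, Subgroup.conj_smul_eq_self_of_mem hc]
      obtain ⟨S, hS1, hS2⟩ := h x
      apply hS1
      have hAS : A ≤ S := by
        intro z hz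
        rw [← SetLike.mem_coe, hS2]
        exact ⟨z, hz, 1, Subgroup.one_mem _, by simp⟩
      have hBS : MulAut.conj x • B ≤ S := by
        intro z hz
        rw [← SetLike.mem_coe, hS2]
        exact ⟨1, Subgroup.one_mem _, z, hz, by simp⟩
      have hA'S : A' ≤ S := by
        apply sup_le hAS
        intro z hz
        obtain ⟨a₀, ha₀, rfl⟩ := mem_conj_smul.mp hz
        exact S.mul_mem (S.mul_mem (hBS hb) (hAS ha₀)) (S.inv_mem (hBS hb))
      rw [eq_top_iff]
      intro g _
      have hg : a⁻¹ * g * a ∈ (A' : Set G) * ((MulAut.conj y • B : Subgroup G) : Set G) := by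
        rw [hy]; trivial
      obtain ⟨a₁, ha₁, c₁, hc₁, e⟩ := hg
      have hg2 : g = (a * a₁ * a⁻¹) * (a * c₁ * a⁻¹) := by
        have : g = a * (a⁻¹ * g * a) * a⁻¹ := by group
        rw [this, ← e]; group
      rw [hg2]
      apply S.mul_mem
      · apply hA'S
        exact A'.mul_mem (A'.mul_mem ha ha₁) (A'.inv_mem ha)
      · apply hBS
        rw [hxB]
        exact mem_conj_smul.mpr ⟨c₁, hc₁, rfl⟩

theorem result {G : Type*} [Group G] [Finite G] (A B : Subgroup G) (hA : A ≠ ⊥) (hB : B ≠ ⊥) (h : ∀ x : G, ∃ S : Subgroup G, S ≠ ⊤ ∧ (S : Set G) = (A : Set G) * ((MulAut.conj x • B : Subgroup G) : Set G)) : ∃ N : Subgroup G, N.Normal ∧ N ≠ ⊤ ∧ (A ≤ N ∨ B ≤ N) := by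
  by_cases hBtop : Subgroup.normalClosure (B : Set G) = ⊤
  · refine ⟨Subgroup.normalClosure (A : Set G), inferInstance, ?_, Or.inl Subgroup.le_normalClosure⟩
    exact key_lemma B hBtop _ A rfl h
  · exact ⟨Subgroup.normalClosure (B : Set G), inferInstance, hBtop, Or.inr Subgroup.le_normalClosure⟩

end Cfsg.Agent.S0566
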