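import Cfsg.Statements.S5092
import Cfsg.Agent.Lib.Helper26.FusionHyp2

set_option autoImplicit false
open Cfsg

namespace Cfsg.Agent.S5092

open Cfsg.Agent.Lib.Helper26 Cfsg.FusionSystem
open scoped commutatorElement

theorem commutator_le_focal {Ω : Type*} [Group Ω] {S : Subgroup Ω} (F : FusionSystem S) :
    ⁅(S : Subgroup Ω), (S : Subgroup Ω)⁆ ≤ F.focalSubgroup := by
  rw [Subgroup.commutator_le]
  intro a ha b hb
  refine Subgroup.subset_closure ⟨S, conjHom S b, ⟨a⁻¹, S.inv_mem ha⟩, F.conj_mem le_rfl hb, ?_⟩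
  rw [conjHom_apply]
  show a * b * a⁻¹ * b⁻¹ = (a⁻¹)⁻¹ * (b * a⁻¹ * b⁻¹)
  group

theorem hyperfocal_le_focal {Ω : Type*} [Group Ω] {S : Subgroup Ω} (F : FusionSystem S) (p : ℕ) :
    F.hyperfocalSubgroup p ≤ F.focalSubgroup := by
  refine (Subgroup.closure_le _).mpr ?_
  rintro _ ⟨P, α, x, hPS, -, rfl⟩
  exact Subgroup.subset_closure ⟨P, P.subtype.comp (α : MulAut P).toMonoidHom, x,
    (mem_autGroup_iff F hPS).mp α.2, rfl⟩

theorem result {Ω : Type*} [Group Ω] {S : Subgroup Ω} [Finite S] (p : ℕ) [Fact p.Prime] (hS : IsPGroup p S) (F : Cfsg.FusionSystem S) (hF : F.IsSaturated p) : F.focalSubgroup = F.hyperfocalSubgroup p ⊔ ⁅(S : Subgroup Ω), (S : Subgroup Ω)⁆ := by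
  apply le_antisymm
  · have hNS : F.hyperfocalSubgroup p ⊔ ⁅(S : Subgroup Ω), (S : Subgroup Ω)⁆ ≤ S :=
      sup_le (hyperfocal_le F p) (Subgroup.commutator_le.mpr (fun a ha b hb =>
        S.mul_mem (S.mul_mem (S.mul_mem ha hb) (S.inv_mem ha)) (S.inv_mem hb)))
    have hconj : ∀ s ∈ S, ∀ n ∈ F.hyperfocalSubgroup p ⊔ ⁅(S : Subgroup Ω), (S : Subgroup Ω)⁆,
        s * n * s⁻¹ ∈ F.hyperfocalSubgroup p ⊔ ⁅(S : Subgroup Ω), (S : Subgroup Ω)⁆ := by
      intro s hs n hn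
      have h1 : ⁅s, n⁆ ∈ ⁅(S : Subgroup Ω), (S : Subgroup Ω)⁆ :=
        Subgroup.commutator_mem_commutator hs (hNS hn)
      have e : s * n * s⁻¹ = ⁅s, n⁆ * n := by
        rw [commutatorElement_def]
        group
      rw [e]
      exact Subgroup.mul_mem _ ((le_sup_right : _ ≤ F.hyperfocalSubgroup p ⊔ _) h1) hn
    have hnorm : S ≤ Subgroup.normalizer
        ((F.hyperfocalSubgroup p ⊔ ⁅(S : Subgroup Ω), (S : Subgroup Ω)⁆ : Subgroup Ω) : Set Ω) := by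
      intro s hs
      refine mem_normalizer_of_forall (hconj s hs) (fun y hy => ?_)
      have := hconj s⁻¹ (S.inv_mem hs) y hy
      rwa [inv_inv] at this
    have hle := le_cosetSystem hS F hF _ hnorm le_sup_left
    refine (Subgroup.closure_le _).mpr ?_
    rintro _ ⟨P, φ, x, hφ, rfl⟩
    obtain ⟨-, hφN⟩ := hle P hφ
    obtain ⟨s, hs, hsn⟩ := hφN x
    have hxS : (x : Ω) ∈ S := source_le F hφ x.2
    have h1 : ⁅(x : Ω)⁻¹, s⁆ ∈ ⁅(S : Subgroup Ω), (S : Subgroup Ω)⁆ :=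
      Subgroup.commutator_mem_commutator (S.inv_mem hxS) hs
    have e : (x : Ω)⁻¹ * φ x = ⁅(x : Ω)⁻¹, s⁆ * ((s * (x : Ω) * s⁻¹)⁻¹ * φ x) := by
      rw [commutatorElement_def]
      group
    rw [e]
    exact Subgroup.mul_mem _ ((le_sup_right : _ ≤ F.hyperfocalSubgroup p ⊔ _) h1) hsn
  · exact sup_le (hyperfocal_le_focal F p) (commutator_le_focal F)

end Cfsg.Agent.S5092
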