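import Cfsg.Statements.S5093
import Cfsg.Agent.Lib.Helper26.FusionHyp3
import Cfsg.Agent.Lib.Helper18.SylowIn
import Cfsg.Agent.S5092

set_option autoImplicit false
open Cfsg

namespace Cfsg.Agent.S5093

open Cfsg.Agent.Lib.Helper26 Cfsg.FusionSystem
open scoped commutatorElement

theorem inf_pResidual_le_hyperfocal {G : Type*} [Group G] [Finite G] (p : ℕ) [Fact p.Prime]
    (S : Sylow p G) :
    (S : Subgroup G) ⊓ Cfsg.pResidual p G ≤
      (Cfsg.groupFusionSystem (S : Subgroup G)).hyperfocalSubgroup p := by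
  have hn : (pResidual p G).Normal := Cfsg.Agent.Lib.Helper1.pResidual_normal p
  have hsyl := (Cfsg.Agent.Lib.Helper18.isSylowIn_top_of_sylow S).inf_of_normal
    (N := pResidual p G) le_top (by rw [Subgroup.normalizer_eq_top_iff.mpr hn])
  obtain ⟨T, hT⟩ := hsyl.exists_sylow
  have hTS : (T : Subgroup ↥(pResidual p G)).map (pResidual p G).subtype ≤ (S : Subgroup G) := by
    rintro _ ⟨t, ht, rfl⟩
    have : t ∈ ((S : Subgroup G) ⊓ pResidual p G).subgroupOf (pResidual p G) := hT ▸ ht
    exact (Subgroup.mem_subgroupOf.mp this).1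
  have hsat := Cfsg.Agent.S5076.result p T
  have hfoc := Cfsg.Agent.S5092.result p T.isPGroup' _ hsat
  have h1 : (T : Subgroup ↥(pResidual p G)) ≤
      (groupFusionSystem (T : Subgroup ↥(pResidual p G))).focalSubgroup := by
    have h2 := Subgroup.commutator_inf_eq_focalSubgroup T
    rw [inf_eq_right.mpr (sylow_le_commutator_pResidual T)] at h2
    calc (T : Subgroup ↥(pResidual p G)) = (T : Subgroup ↥(pResidual p G)).focalSubgroup := h2
      _ ≤ _ := mathlib_focal_le_groupFS_focal _
  rw [hfoc] at h1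
  have h3 : (T : Subgroup ↥(pResidual p G)) ≤
      (groupFusionSystem (T : Subgroup ↥(pResidual p G))).hyperfocalSubgroup p :=
    le_of_le_sup_commutator T.isPGroup' (hyperfocal_le _ p) h1
  intro s hs
  have hsT : (⟨s, hs.2⟩ : ↥(pResidual p G)) ∈ (T : Subgroup ↥(pResidual p G)) := by
    rw [hT]
    exact Subgroup.mem_subgroupOf.mpr hs
  exact map_hyperfocal_groupFS_le p _ _ hTS ⟨_, h3 hsT, rfl⟩

theorem result {G : Type*} [Group G] [Finite G] (p : ℕ) [Fact p.Prime] (S : Sylow p G) : (Cfsg.groupFusionSystem (S : Subgroup G)).hyperfocalSubgroup p = (S : Subgroup G) ⊓ Cfsg.pResidual p G := by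
  apply le_antisymm
  · exact le_inf (hyperfocal_le _ p) (hyperfocal_groupFS_le_pResidual p _)
  · exact inf_pResidual_le_hyperfocal p S

end Cfsg.Agent.S5093
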