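import Cfsg.Statements.S0078
import Cfsg.Agent.S5093
import Cfsg.Agent.Lib.Helper13.FamilyCtl

set_option autoImplicit false
open Cfsg

namespace Cfsg.Agent.S0078

open Cfsg.Agent.Lib.Helper26 Cfsg.FusionSystem Cfsg.Agent.Lib.Helper13

section
variable {G : Type*} [Group G] [Finite G] {p : ℕ} [Fact p.Prime]

/-- an automorphism of `P` of order prime to `p` induced by `g` is induced by a `p'`-power of `g` -/
theorem exists_pow_coprime_inducing {P : Subgroup G} {β : MulAut P}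
    (hβ : Nat.Coprime (orderOf β) p) {g : G} (hg : ∀ x : P, ((β x : P) : G) = g * (x : G) * g⁻¹) :
    ∃ k : ℕ, Nat.Coprime (orderOf (g ^ k)) p ∧
      ∀ x : P, ((β x : P) : G) = g ^ k * (x : G) * (g ^ k)⁻¹ := by
  have hp : p.Prime := Fact.out
  have hpow : ∀ (n : ℕ) (x : P), (((β ^ n) x : P) : G) = g ^ n * (x : G) * (g ^ n)⁻¹ := by
    intro n
    induction n with
    | zero => intro x; simp
    | succ n ih =>
      intro x
      rw [pow_succ', MulAut.mul_apply, hg, ih, pow_succ']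
      group
  obtain ⟨q, hq⟩ : ∃ q, q = p ^ (Nat.card G).factorization p := ⟨_, rfl⟩
  have hcop : Nat.Coprime q (orderOf β) := by
    rw [hq]; exact (Nat.Coprime.pow_left _ hβ.symm)
  obtain ⟨m, hm⟩ := exists_pow_eq_self_of_coprime hcop
  refine ⟨q * m, ?_, fun x => ?_⟩
  · rw [pow_mul]
    have h1 : (g ^ q) ^ (Nat.card G / q) = 1 := by
      rw [← pow_mul, hq, Nat.mul_div_cancel' (Nat.ordProj_dvd _ _), pow_card_eq_one']
    have h2 : orderOf (g ^ q) ∣ Nat.card G / q := orderOf_dvd_of_pow_eq_one h1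
    have h3 : Nat.Coprime (Nat.card G / q) p := by
      rw [hq]; exact (Nat.coprime_ordCompl hp Nat.card_pos.ne').symm
    have h4 : orderOf ((g ^ q) ^ m) ∣ orderOf (g ^ q) := orderOf_pow_dvd m
    exact Nat.Coprime.coprime_dvd_left (h4.trans h2) h3
  · have h5 := hpow (q * m) x
    rw [pow_mul, hm] at h5
    exact h5

theorem exists_normalizer_inducing (P : Sylow p G)
    (hn : ∀ Q : Sylow p G, (P : Subgroup G) ⊓ Subgroup.centralizer (P : Set G) ≤ (Q : Subgroup G) →
      (Q : Subgroup G) ⊓ Subgroup.centralizer (Q : Set G) =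
        (P : Subgroup G) ⊓ Subgroup.centralizer (P : Set G))
    {T : Subgroup G} (hTP : T ≤ (P : Subgroup G)) {g : G}
    (hg : g ∈ Subgroup.normalizer (T : Set G)) :
    ∃ w ∈ Subgroup.normalizer
        ((((P : Subgroup G) ⊓ Subgroup.centralizer (P : Set G) : Subgroup G)) : Set G),
      ∀ x ∈ T, w * x * w⁻¹ = g * x * g⁻¹ := by
  obtain ⟨Z, hZ⟩ : ∃ Z : Subgroup G, Z = (P : Subgroup G) ⊓ Subgroup.centralizer (P : Set G) :=
    ⟨_, rfl⟩
  rw [← hZ] at hn ⊢
  have hZP : Z ≤ (P : Subgroup G) := hZ ▸ inf_le_left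
  have hZp : IsPGroup p Z := P.2.to_le hZP
  obtain ⟨C, hC⟩ : ∃ C : Subgroup G, C = Subgroup.centralizer (T : Set G) := ⟨_, rfl⟩
  have hZcent : ∀ z ∈ Z, ∀ t ∈ T, t * z = z * t := by
    intro z hz t ht
    rw [hZ] at hz
    exact Subgroup.mem_centralizer_iff.mp (Subgroup.mem_inf.mp hz).2 t (hTP ht)
  have hZC : Z ≤ C := by
    intro z hz
    rw [hC, Subgroup.mem_centralizer_iff]
    exact fun t ht => hZcent z hz t ht
  have hZgC : Z.map (MulAut.conj g).toMonoidHom ≤ C := by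
    rintro _ ⟨z, hz, rfl⟩
    rw [hC, Subgroup.mem_centralizer_iff]
    intro t ht
    have ht' : g⁻¹ * t * g ∈ T := by
      have := (Subgroup.mem_normalizer_iff.mp (Subgroup.inv_mem _ hg) t).mp ht
      simpa using this
    have h1 := hZcent z hz _ ht'
    show t * (g * z * g⁻¹) = g * z * g⁻¹ * t
    have e1 : t * (g * z * g⁻¹) = g * ((g⁻¹ * t * g) * z) * g⁻¹ := by group
    have e2 : g * z * g⁻¹ * t = g * (z * (g⁻¹ * t * g)) * g⁻¹ := by group
    rw [e1, e2, h1]
  obtain ⟨Y, hZY, hYC, hYp, hYi⟩ := exists_sylow_between (p := p) hZC hZp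
  obtain ⟨c, hcC, hcle⟩ := exists_mem_cj_le_of_relIndex (p := p) hYC hYp hYi hZgC
    (hZp.map _)
  obtain ⟨Q', hQ'⟩ := hYp.exists_le_sylow
  have hZQ' : Z ≤ (Q' : Subgroup G) := hZY.trans hQ'
  have hcenQ' := hn Q' hZQ'
  have hwZ : ∀ z ∈ Z, (c * g) * z * (c * g)⁻¹ ∈ (Q' : Subgroup G) := by
    intro z hz
    apply hQ'
    apply hcle
    refine ⟨g * z * g⁻¹, ⟨z, hz, rfl⟩, ?_⟩
    show c * (g * z * g⁻¹) * c⁻¹ = _
    group
  -- the conjugate Sylow subgroup
  obtain ⟨Q'', hQ''⟩ : ∃ Q'' : Sylow p G, (Q'' : Subgroup G) =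
      (Q' : Subgroup G).map (MulAut.conj (c * g)⁻¹).toMonoidHom := by
    refine ⟨(c * g)⁻¹ • Q', ?_⟩
    rw [Sylow.coe_subgroup_smul, Subgroup.pointwise_smul_def]
    rfl
  have hZQ'' : Z ≤ (Q'' : Subgroup G) := by
    intro z hz
    rw [hQ'']
    refine ⟨_, hwZ z hz, ?_⟩
    show (c * g)⁻¹ * ((c * g) * z * (c * g)⁻¹) * (c * g)⁻¹⁻¹ = z
    group
  have hcenQ'' := hn Q'' hZQ''
  refine ⟨c * g, ?_, ?_⟩
  · apply mem_normalizer_of_cj_le
    rintro _ ⟨z, hz, rfl⟩
    show (c * g) * z * (c * g)⁻¹ ∈ Z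
    rw [← hcenQ']
    refine Subgroup.mem_inf.mpr ⟨hwZ z hz, ?_⟩
    rw [Subgroup.mem_centralizer_iff]
    intro q hq
    have hz'' : z ∈ Subgroup.centralizer (Q'' : Set G) := by
      have : z ∈ (Q'' : Subgroup G) ⊓ Subgroup.centralizer (Q'' : Set G) := by
        rw [hcenQ'']; exact hz
      exact (Subgroup.mem_inf.mp this).2
    have hq'' : (c * g)⁻¹ * q * (c * g) ∈ (Q'' : Subgroup G) := by
      rw [hQ'']
      refine ⟨q, hq, ?_⟩
      show (c * g)⁻¹ * q * (c * g)⁻¹⁻¹ = _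
      rw [inv_inv]
    have h1 := Subgroup.mem_centralizer_iff.mp hz'' _ hq''
    have e1 : q * ((c * g) * z * (c * g)⁻¹) = (c * g) * (((c * g)⁻¹ * q * (c * g)) * z) * (c * g)⁻¹ := by
      group
    have e2 : (c * g) * z * (c * g)⁻¹ * q = (c * g) * (z * ((c * g)⁻¹ * q * (c * g))) * (c * g)⁻¹ := by
      group
    rw [e1, e2, h1]
  · intro x hx
    have hgx : g * x * g⁻¹ ∈ T := (Subgroup.mem_normalizer_iff.mp hg x).mp hx
    have hcomm : g * x * g⁻¹ * c = c * (g * x * g⁻¹) := by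
      rw [hC] at hcC
      exact Subgroup.mem_centralizer_iff.mp hcC _ hgx
    calc c * g * x * (c * g)⁻¹ = c * (g * x * g⁻¹) * c⁻¹ := by group
      _ = g * x * g⁻¹ * c * c⁻¹ := by rw [hcomm]
      _ = g * x * g⁻¹ := by group

end


/-- In a p-normal group, a Sylow p-subgroup P meets O^p(G) exactly where it meets O^p(V), for any subgroup V containing the normalizer of the centre of P. -/
theorem result {G : Type*} [Group G] [Finite G] {p : ℕ} [Fact p.Prime] (P : Sylow p G) (hn : ∀ Q : Sylow p G, (P : Subgroup G) ⊓ Subgroup.centralizer (P : Set G) ≤ (Q : Subgroup G) → (Q : Subgroup G) ⊓ Subgroup.centralizer (Q : Set G) = (P : Subgroup G) ⊓ Subgroup.centralizer (P : Set G)) (V : Subgroup G) (hV : Subgroup.normalizer (((P : Subgroup G) ⊓ Subgroup.centralizer (P : Set G) : Subgroup G) : Set G) ≤ V) : (P : Subgroup G) ⊓ Cfsg.pResidual p G = (P : Subgroup G) ⊓ (Cfsg.pResidual p V).map V.subtype := by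
  have hPV : (P : Subgroup G) ≤ V := by
    intro x hx
    apply hV
    apply mem_normalizer_of_cj_le
    rintro _ ⟨z, hz, rfl⟩
    have hzc := Subgroup.mem_centralizer_iff.mp (Subgroup.mem_inf.mp hz).2 x hx
    show x * z * x⁻¹ ∈ _
    rw [hzc, mul_inv_cancel_right]
    exact hz
  have hnV : (pResidual p ↥V).Normal := Cfsg.Agent.Lib.Helper1.pResidual_normal p
  apply le_antisymm
  · rw [← Cfsg.Agent.S5093.result p P]
    apply le_inf (hyperfocal_le _ p)
    refine (Subgroup.closure_le _).mpr ?_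
    rintro _ ⟨Q, α, x, hQP, hα, rfl⟩
    have key : ∀ β : (groupFusionSystem (P : Subgroup G)).autGroup Q,
        β ∈ pResidual p ((groupFusionSystem (P : Subgroup G)).autGroup Q) →
        ∀ x : Q, (x : G)⁻¹ * (((β : MulAut Q) x : Q) : G) ∈ (pResidual p ↥V).map V.subtype := by
      intro β hβ
      have hβ' : β ∈ Subgroup.closure {g : (groupFusionSystem (P : Subgroup G)).autGroup Q |
        Nat.Coprime (orderOf g) p} := hβ
      refine Subgroup.closure_induction
        (p := fun (β : (groupFusionSystem (P : Subgroup G)).autGroup Q) _ => ∀ x : Q,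
          (x : G)⁻¹ * (((β : MulAut Q) x : Q) : G) ∈ (pResidual p ↥V).map V.subtype) ?_ ?_ ?_ ?_ hβ'
      · intro γ hγ x
        have hγ' : Nat.Coprime (orderOf (γ : MulAut Q)) p := by
          rw [Subgroup.orderOf_coe]
          exact hγ
        have hmem : (γ : MulAut Q) ∈ autInducedBy ⊤ Q := by
          rw [← Cfsg.Agent.S5076.groupFS_autGroup_eq hQP]
          exact γ.2
        obtain ⟨g, -, hg⟩ := mem_autInducedBy_iff.mp hmem
        have hgN : g ∈ Subgroup.normalizer (Q : Set G) := mem_normalizer_of_conj_aut hg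
        obtain ⟨w, hwN, hw⟩ := exists_normalizer_inducing P hn hQP hgN
        have hg' : ∀ x : Q, (((γ : MulAut Q) x : Q) : G) = w * (x : G) * w⁻¹ :=
          fun x => (hg x).trans (hw x x.2).symm
        obtain ⟨k, hk, hkx⟩ := exists_pow_coprime_inducing hγ' hg'
        rw [hkx]
        have hhV : w ^ k ∈ V := V.pow_mem (hV hwN) k
        have hhK : (⟨w ^ k, hhV⟩ : ↥V) ∈ pResidual p ↥V := by
          apply Cfsg.Agent.Lib.Helper1.mem_pResidual_of_coprime
          rw [Subgroup.orderOf_mk]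
          exact hk
        have hxV : (x : G) ∈ V := hPV (hQP x.2)
        refine ⟨(⟨(x : G), hxV⟩ : ↥V)⁻¹ * ⟨w ^ k, hhV⟩ * (⟨(x : G), hxV⟩ : ↥V)⁻¹⁻¹ *
          (⟨w ^ k, hhV⟩ : ↥V)⁻¹, ?_, ?_⟩
        · exact Subgroup.mul_mem _ (hnV.conj_mem _ hhK _) (Subgroup.inv_mem _ hhK)
        · show (x : G)⁻¹ * w ^ k * (x : G)⁻¹⁻¹ * (w ^ k)⁻¹ = _
          group
      · intro x
        simp
      · intro a b _ _ ha hb x
        have e : (x : G)⁻¹ * ((((a * b : (groupFusionSystem (P : Subgroup G)).autGroup Q) : MulAut Q) x : Q) : G) =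
            ((x : G)⁻¹ * (((b : MulAut Q) x : Q) : G)) *
            ((((b : MulAut Q) x : Q) : G)⁻¹ * (((a : MulAut Q) ((b : MulAut Q) x) : Q) : G)) := by
          rw [Subgroup.coe_mul, MulAut.mul_apply]
          group
        rw [e]
        exact Subgroup.mul_mem _ (hb x) (ha _)
      · intro a _ ha x
        have h1 := ha ((a : MulAut Q)⁻¹ x)
        rw [MulAut.apply_inv_self] at h1
        have e : (x : G)⁻¹ * ((((a⁻¹ : (groupFusionSystem (P : Subgroup G)).autGroup Q) : MulAut Q) x : Q) : G) =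
            (((((a : MulAut Q)⁻¹ x : Q) : G))⁻¹ * (x : G))⁻¹ := by
          rw [Subgroup.coe_inv]
          group
        rw [e]
        exact Subgroup.inv_mem _ h1
    exact key α hα x
  · exact inf_le_inf_left _ (map_pResidual_le p V.subtype V.subtype_injective)

end Cfsg.Agent.S0078
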