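import Mathlib
import Cfsg.Statements.S0560
import Cfsg.Agent.Lib.Helper5.Card

set_option autoImplicit false
open Pointwise
open Cfsg

namespace Cfsg.Agent.S0560

open Cfsg.Agent.Lib.Helper5

theorem smul_eq_map {G : Type*} [Group G] (g : G) (S : Subgroup G) :
    MulAut.conj g • S = S.map (MulAut.conj g).toMonoidHom := by
  ext x
  rw [Subgroup.mem_smul_pointwise_iff_exists]
  simp [Subgroup.mem_map, MulAut.smul_def]

theorem sylow_sub_conj {G : Type*} [Group G] {p : ℕ} [Fact p.Prime] (H : Subgroup G)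
    (P₀ : Sylow p H) (h : G) (hh : h ∈ H) :
    ∃ P : Sylow p H, ((P : Subgroup H).map H.subtype : Subgroup G) =
      ((P₀ : Subgroup H).map H.subtype).map (MulAut.conj h).toMonoidHom := by
  refine ⟨(⟨h, hh⟩ : H) • P₀, ?_⟩
  rw [Sylow.coe_subgroup_smul, smul_eq_map]
  ext x
  simp only [Subgroup.mem_map, MulEquiv.coe_toMonoidHom, MulAut.conj_apply, Subgroup.subtype_apply,
    exists_exists_and_eq_and]
  constructor
  · rintro ⟨y, hy, rfl⟩
    exact ⟨y, hy, rfl⟩
  · rintro ⟨y, hy, rfl⟩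
    exact ⟨y, hy, rfl⟩

theorem result {G : Type*} [Group G] [Finite G] (H K : Subgroup G) (hHK : ∀ g : G, ∃ h ∈ H, ∃ k ∈ K, g = h * k) (p : ℕ) [Fact p.Prime] : ∃ (P : Sylow p H) (Q : Sylow p K) (R : Sylow p G), ((R : Subgroup G) : Set G) = (((P : Subgroup H).map H.subtype : Subgroup G) : Set G) * (((Q : Subgroup K).map K.subtype : Subgroup G) : Set G) := by
  have hp : p.Prime := Fact.out
  obtain ⟨P₀⟩ : Nonempty (Sylow p H) := inferInstance
  obtain ⟨Q₀⟩ : Nonempty (Sylow p K) := inferInstance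
  obtain ⟨R₁, hR₁⟩ := (P₀.2.map H.subtype).exists_le_sylow
  obtain ⟨R₂, hR₂⟩ := (Q₀.2.map K.subtype).exists_le_sylow
  obtain ⟨x, hx⟩ := MulAction.exists_smul_eq G R₁ R₂
  obtain ⟨h', hh', k', hk', hxinv⟩ := hHK x⁻¹
  -- x = k'⁻¹ * h'⁻¹
  set h := h'⁻¹ with hhdef
  set k := k'⁻¹ with hkdef
  have hh : h ∈ H := H.inv_mem hh'
  have hk : k ∈ K := K.inv_mem hk'
  have hxe : x = k * h := by
    rw [hhdef, hkdef, ← mul_inv_rev, ← hxinv, inv_inv]
  let R : Sylow p G := h • R₁
  have hR : (R : Subgroup G) = (R₁ : Subgroup G).map (MulAut.conj h).toMonoidHom := by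
    show ((h • R₁ : Sylow p G) : Subgroup G) = _
    rw [Sylow.coe_subgroup_smul, smul_eq_map]
  have hR' : (R : Subgroup G) = (R₂ : Subgroup G).map (MulAut.conj k⁻¹).toMonoidHom := by
    have h2 : (R₂ : Subgroup G) = (R₁ : Subgroup G).map (MulAut.conj (k * h)).toMonoidHom := by
      rw [← hx, hxe, Sylow.coe_subgroup_smul, smul_eq_map]
    rw [hR, h2, Subgroup.map_map]
    congr 1
    ext y
    simp only [MonoidHom.coe_comp, MulEquiv.coe_toMonoidHom, Function.comp_apply, MulAut.conj_apply]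
    group
  obtain ⟨P, hP⟩ := sylow_sub_conj H P₀ h hh
  obtain ⟨Q, hQ⟩ := sylow_sub_conj K Q₀ k⁻¹ (K.inv_mem hk)
  refine ⟨P, Q, R, ?_⟩
  set P' : Subgroup G := (P : Subgroup H).map H.subtype with hP'
  set Q' : Subgroup G := (Q : Subgroup K).map K.subtype with hQ'
  have hPR : P' ≤ R := by
    rw [hP, hR]
    exact Subgroup.map_mono hR₁
  have hQR : Q' ≤ R := by
    rw [hQ, hR']
    exact Subgroup.map_mono hR₂
  have hsub : (P' : Set G) * (Q' : Set G) ⊆ ((R : Subgroup G) : Set G) := by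
    rintro _ ⟨a, ha, b, hb, rfl⟩
    exact (R : Subgroup G).mul_mem (hPR ha) (hQR hb)
  -- cardinalities
  have cR : Nat.card (R : Subgroup G) = p ^ (Nat.card G).factorization p := R.card_eq_multiplicity
  have cP : Nat.card P' = p ^ (Nat.card H).factorization p := by
    rw [hP', Subgroup.card_map_of_injective H.subtype_injective]
    exact P.card_eq_multiplicity
  have cQ : Nat.card Q' = p ^ (Nat.card K).factorization p := by
    rw [hQ', Subgroup.card_map_of_injective K.subtype_injective]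
    exact Q.card_eq_multiplicity
  have hPH : P' ≤ H := by
    rw [hP']; rintro _ ⟨y, _, rfl⟩; exact y.2
  have hQK : Q' ≤ K := by
    rw [hQ']; rintro _ ⟨y, _, rfl⟩; exact y.2
  have hPQp : IsPGroup p (P' ⊓ Q' : Subgroup G) := by
    have : IsPGroup p P' := P.2.map H.subtype
    exact this.to_le inf_le_left
  obtain ⟨n, hn⟩ := IsPGroup.iff_card.mp hPQp
  have hdvd : Nat.card (P' ⊓ Q' : Subgroup G) ∣ Nat.card (H ⊓ K : Subgroup G) :=
    Subgroup.card_dvd_of_le (inf_le_inf hPH hQK)
  have hHKpos : Nat.card (H ⊓ K : Subgroup G) ≠ 0 := Nat.card_pos.ne'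
  have hn_le : n ≤ (Nat.card (H ⊓ K : Subgroup G)).factorization p := by
    rw [hn] at hdvd
    exact (hp.pow_dvd_iff_le_factorization hHKpos).mp hdvd
  have huniv : (H : Set G) * (K : Set G) = Set.univ := by
    rw [Set.eq_univ_iff_forall]
    intro g
    obtain ⟨a, ha, b, hb, rfl⟩ := hHK g
    exact ⟨a, ha, b, hb, rfl⟩
  have hGprod : Nat.card G * Nat.card (H ⊓ K : Subgroup G) = Nat.card H * Nat.card K := by
    have := card_mul_set_mul_card_inf H K
    rw [huniv] at this
    rw [← this]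
    congr 1
    exact (Nat.card_congr (Equiv.Set.univ G)).symm
  have hfact : (Nat.card G).factorization p + (Nat.card (H ⊓ K : Subgroup G)).factorization p =
      (Nat.card H).factorization p + (Nat.card K).factorization p := by
    have h1 := congrArg (fun m => m.factorization p) hGprod
    beta_reduce at h1
    rw [Nat.factorization_mul Nat.card_pos.ne' hHKpos,
      Nat.factorization_mul Nat.card_pos.ne' Nat.card_pos.ne'] at h1
    simpa using h1
  have hprod := card_mul_set_mul_card_inf P' Q'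
  rw [hn, cP, cQ, ← pow_add] at hprod
  have hge : Nat.card (R : Subgroup G) ≤ Nat.card ((P' : Set G) * (Q' : Set G) : Set G) := by
    rw [cR]
    have h3 : p ^ ((Nat.card G).factorization p) * p ^ n ≤
        Nat.card ((P' : Set G) * (Q' : Set G) : Set G) * p ^ n := by
      rw [hprod, ← pow_add]
      apply Nat.pow_le_pow_right hp.pos
      omega
    exact Nat.le_of_mul_le_mul_right h3 (pow_pos hp.pos n)
  symm
  apply Set.eq_of_subset_of_ncard_le hsub
  rw [← Nat.card_coe_set_eq, ← Nat.card_coe_set_eq]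
  exact hge

end Cfsg.Agent.S0560
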