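import Cfsg.Statements.S1003
import Mathlib
import Cfsg.Agent.Lib.helper8.Burnside
import Cfsg.Agent.Lib.helper8.SylowConj
import Cfsg.Agent.Lib.helper8.SimpleEmbed
import Cfsg.Agent.S0988

set_option autoImplicit false
open Cfsg

namespace Cfsg.Agent.S1003

open Subgroup
open Cfsg.Agent.Lib.helper8

theorem cent_card {G : Type*} [Group G] [Finite G] [IsSimpleGroup G] (s m : ℕ) [hs : Fact s.Prime]
    (hG : Nat.card G = s ^ 1 * m) (hm : ¬ s ∣ m) (hm1 : 1 < m) (S : Sylow s G) :
    Nat.card (centralizer ((S : Subgroup G) : Set G)) *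
      (centralizer ((S : Subgroup G) : Set G)).relIndex (normalizer ((S : Subgroup G) : Set G)) *
      Nat.card (Sylow s G) = Nat.card G ∧
    (centralizer ((S : Subgroup G) : Set G)).relIndex (normalizer ((S : Subgroup G) : Set G)) ≠ 1 ∧
    (centralizer ((S : Subgroup G) : Set G)).relIndex (normalizer ((S : Subgroup G) : Set G)) ∣ s - 1
    := by
  have hSc : Nat.card (S : Subgroup G) = s := by
    have := h8_sylow_card s 1 m hG hm S
    rwa [pow_one] at this
  have hnot := h8_simple_not_normalizer_le_centralizer s 1 m hG hm one_pos hm1 S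
  refine ⟨?_, fun h => hnot (h8_normalizer_le_centralizer_of_relIndex _ h),
    h8_relIndex_centralizer_normalizer_dvd_prime s hs.out (S : Subgroup G) hSc⟩
  rw [h8_card_centralizer_mul_relIndex]
  exact h8_card_normalizer_sylow s S

theorem exists_not_normalize {G : Type*} [Group G] [Finite G] [IsSimpleGroup G] (s : ℕ)
    [Fact s.Prime] (hn : Nat.card (Sylow s G) ≠ 1) (x : G) (hx : x ≠ 1) :
    ∃ R : Sylow s G, x ∉ normalizer ((R : Subgroup G) : Set G) := by
  by_contra hcon
  push Not at hcon
  let φ : G →* Equiv.Perm (Sylow s G) := MulAction.toPermHom G (Sylow s G)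
  have hxk : x ∈ φ.ker := by
    rw [MonoidHom.mem_ker]
    ext R : 1
    have : x • R = R := Sylow.smul_eq_iff_mem_normalizer.mpr (hcon R)
    simpa [φ] using this
  rcases h8_simple_normal_eq φ.ker with h | h
  · rw [h, mem_bot] at hxk
    exact hx hxk
  · apply hn
    obtain ⟨R0⟩ : Nonempty (Sylow s G) := inferInstance
    rw [Nat.card_eq_one_iff_unique]
    refine ⟨⟨fun A B => ?_⟩, ⟨R0⟩⟩
    obtain ⟨g, hg⟩ := MulAction.exists_smul_eq G A B
    have hgk : g ∈ φ.ker := by rw [h]; trivial
    rw [MonoidHom.mem_ker] at hgk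
    have := congrArg (fun σ : Equiv.Perm (Sylow s G) => σ A) hgk
    have h2 : g • A = A := by simpa [φ] using this
    rw [← hg, h2]

theorem result {G : Type*} [Group G] [Finite G] [IsSimpleGroup G] (h : Nat.card G = 168) : Nat.card (Sylow 2 G) = 21 ∧ Nat.card (Sylow 3 G) = 28 ∧ Nat.card (Sylow 7 G) = 8 := by
  haveI : Fact (Nat.Prime 2) := ⟨Nat.prime_two⟩
  haveI : Fact (Nat.Prime 3) := ⟨Nat.prime_three⟩
  haveI : Fact (Nat.Prime 7) := ⟨by norm_num⟩
  have hnc : ¬ IsMulCommutative G := h8_not_comm_of_card (by rw [h]; norm_num)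
  have hG7 : Nat.card G = 7 ^ 1 * 24 := by rw [h]; norm_num
  have hG3 : Nat.card G = 3 ^ 1 * 56 := by rw [h]; norm_num
  have hG2 : Nat.card G = 2 ^ 3 * 21 := by rw [h]; norm_num
  -- Sylow 7
  have h7 : Nat.card (Sylow 7 G) = 8 := by
    have hd := h8_nsylow_dvd 7 1 24 hG7 (by norm_num)
    have hmod := h8_nsylow_mod (G := G) 7
    have hne := h8_simple_nsylow_ne_one 7 1 24 hG7 (by norm_num) one_pos (by norm_num)
    obtain ⟨n, hn⟩ : ∃ n, n = Nat.card (Sylow 7 G) := ⟨_, rfl⟩
    rw [← hn] at hd hmod hne ⊢
    have := Nat.le_of_dvd (by norm_num) hd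
    interval_cases n <;> omega
  have hN7 : ∀ R : Sylow 7 G, Nat.card (normalizer ((R : Subgroup G) : Set G)) = 21 := by
    intro R
    have := h8_card_normalizer_sylow 7 R
    rw [h7, h] at this
    omega
  -- Sylow 3
  have hS3c : ∀ Q : Sylow 3 G, Nat.card (Q : Subgroup G) = 3 := by
    intro Q
    have := h8_sylow_card 3 1 56 hG3 (by norm_num) Q
    rwa [pow_one] at this
  have h3key : Nat.card (Sylow 3 G) = 28 ∧
      ∀ Q : Sylow 3 G, Nat.card (centralizer ((Q : Subgroup G) : Set G)) = 3 := by
    obtain ⟨Q0⟩ : Nonempty (Sylow 3 G) := inferInstance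
    have hd := h8_nsylow_dvd 3 1 56 hG3 (by norm_num)
    have hmod := h8_nsylow_mod (G := G) 3
    have hne := h8_simple_nsylow_ne_one 3 1 56 hG3 (by norm_num) one_pos (by norm_num)
    have hC3 := Cfsg.Agent.S0988.lemC hnc 3 1 56 hG3 (by norm_num) one_pos (by norm_num)
    have hcc : ∀ Q : Sylow 3 G, Nat.card (centralizer ((Q : Subgroup G) : Set G)) * 2 *
        Nat.card (Sylow 3 G) = 168 := by
      intro Q
      obtain ⟨e1, e2, e3⟩ := cent_card 3 56 hG3 (by norm_num) (by norm_num) Q
      have h5 : (centralizer ((Q : Subgroup G) : Set G)).relIndex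
          (normalizer ((Q : Subgroup G) : Set G)) = 2 := by
        rcases (Nat.dvd_prime Nat.prime_two).mp e3 with h5 | h5
        · exact absurd h5 e2
        · exact h5
      rw [h5, h] at e1
      exact e1
    suffices hn28 : Nat.card (Sylow 3 G) = 28 by
      refine ⟨hn28, fun Q => ?_⟩
      have := hcc Q
      rw [hn28] at this
      omega
    have hcc0 := hcc Q0
    obtain ⟨n, hn⟩ : ∃ n, n = Nat.card (Sylow 3 G) := ⟨_, rfl⟩
    rw [← hn] at hd hmod hne hC3 hcc0 ⊢
    have hle := Nat.le_of_dvd (by norm_num) hd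
    have hcases : n = 4 ∨ n = 7 ∨ n = 28 := by interval_cases n <;> omega
    rcases hcases with rfl | rfl | rfl
    · exfalso
      rw [h] at hC3
      revert hC3
      decide
    · exfalso
      have hC12 : Nat.card (centralizer ((Q0 : Subgroup G) : Set G)) = 12 := by omega
      set C := centralizer ((Q0 : Subgroup G) : Set G) with hC
      have hQN : ∀ R : Sylow 7 G, (Q0 : Subgroup G) ≤ normalizer ((R : Subgroup G) : Set G) := by
        intro R
        set NR := normalizer ((R : Subgroup G) : Set G) with hNR
        have e1 := h8_card_inf_mul_relIndex NR C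
        have e2 : NR.relIndex C ≤ 8 := by
          have := relIndex_le_of_le_right (H := NR) (K := C) (L := ⊤) le_top
            (by rw [relIndex_top_right]; exact index_ne_zero_of_finite)
          rw [relIndex_top_right, ← h8_nsylow_eq_index_normalizer 7 R, h7] at this
          exact this
        have e3 : Nat.card (NR ⊓ C : Subgroup G) ∣ 21 := (hN7 R) ▸ card_dvd_of_le inf_le_left
        have e4 : Nat.card (NR ⊓ C : Subgroup G) ∣ 12 := hC12 ▸ card_dvd_of_le inf_le_right
        have e5 : Nat.card (NR ⊓ C : Subgroup G) = 3 := by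
          have h6 : Nat.card (NR ⊓ C : Subgroup G) ∣ 3 := by
            have := Nat.dvd_gcd e3 e4
            simpa using this
          rcases (Nat.dvd_prime Nat.prime_three).mp h6 with h5 | h5
          · exfalso
            rw [h5, hC12] at e1
            omega
          · exact h5
        have e6 : IsPGroup 3 (NR ⊓ C : Subgroup G) :=
          IsPGroup.of_card (n := 1) (by rw [e5]; norm_num)
        have e7 : (NR ⊓ C : Subgroup G) ≤ normalizer ((Q0 : Subgroup G) : Set G) :=
          inf_le_right.trans (centralizer_le_normalizer _)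
        have e8 := h8_le_sylow_of_le_normalizer 3 Q0 _ e6 e7
        have e9 : (NR ⊓ C : Subgroup G) = Q0 :=
          eq_of_le_of_card_ge e8 (by rw [e5, hS3c Q0])
        rw [← e9]
        exact inf_le_left
      obtain ⟨x, hx⟩ := exists_prime_orderOf_dvd_card' (G := (Q0 : Subgroup G)) 3
        (by rw [hS3c Q0])
      have hx1 : (x : G) ≠ 1 := by
        intro h0
        have : orderOf (x : G) = 3 := by rw [Subgroup.orderOf_coe]; exact hx
        rw [h0, orderOf_one] at this
        omega
      obtain ⟨R, hR⟩ := exists_not_normalize 7 (by rw [h7]; norm_num) (x : G) hx1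
      exact hR (hQN R x.2)
    · rfl
  obtain ⟨h3, hC3⟩ := h3key
  have h2 : Nat.card (Sylow 2 G) = 21 := by
    have hd := h8_nsylow_dvd 2 3 21 hG2 (by norm_num)
    have hne := h8_simple_nsylow_ne_one 2 3 21 hG2 (by norm_num) (by norm_num) (by norm_num)
    have hC2 := Cfsg.Agent.S0988.lemC hnc 2 3 21 hG2 (by norm_num) (by norm_num) (by norm_num)
    obtain ⟨T⟩ : Nonempty (Sylow 2 G) := inferInstance
    have hNT := h8_card_normalizer_sylow 2 T
    have hTc : Nat.card (T : Subgroup G) = 8 := by
      have := h8_sylow_card 2 3 21 hG2 (by norm_num) T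
      rw [this]; norm_num
    obtain ⟨n, hn⟩ : ∃ n, n = Nat.card (Sylow 2 G) := ⟨_, rfl⟩
    rw [← hn] at hd hne hC2 hNT ⊢
    have hle := Nat.le_of_dvd (by norm_num) hd
    have hcases : n = 3 ∨ n = 7 ∨ n = 21 := by interval_cases n <;> omega
    rcases hcases with rfl | rfl | rfl
    · exfalso
      rw [h] at hC2
      revert hC2
      decide
    · exfalso
      have hN24 : Nat.card (normalizer ((T : Subgroup G) : Set G)) = 24 := by
        rw [h] at hNT; omega
      obtain ⟨x1, hx1⟩ := exists_prime_orderOf_dvd_card'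
        (G := normalizer ((T : Subgroup G) : Set G)) 3 (by rw [hN24]; norm_num)
      set φ := (T : Subgroup G).normalizerMonoidHom with hφ
      set σ := φ x1 with hσ
      have hσ3 : σ ^ 3 = 1 := by rw [hσ, ← map_pow, ← hx1, pow_orderOf_eq_one, map_one]
      set S := zpowers σ with hS
      have hpg : IsPGroup 3 S := by
        have : orderOf σ ∣ 3 := orderOf_dvd_of_pow_eq_one hσ3
        rcases (Nat.dvd_prime Nat.prime_three).mp this with h5 | h5
        · exact IsPGroup.of_card (n := 0) (by rw [Nat.card_zpowers, h5, pow_zero])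
        · exact IsPGroup.of_card (n := 1) (by rw [Nat.card_zpowers, h5, pow_one])
      set F : Subgroup (T : Subgroup G) := MonoidHom.eqLocus σ.toMonoidHom (MonoidHom.id _) with hF
      have hFix : MulAction.fixedPoints S (T : Subgroup G) = (F : Set (T : Subgroup G)) := by
        ext t
        rw [MulAction.mem_fixedPoints]
        constructor
        · intro h
          exact h ⟨σ, mem_zpowers σ⟩
        · intro h τ
          have h3 : σ ∈ MulAction.stabilizer (MulAut (T : Subgroup G)) t := by
            rw [MulAction.mem_stabilizer_iff]; exact h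
          have h4 : S ≤ MulAction.stabilizer (MulAut (T : Subgroup G)) t := by
            rw [hS, zpowers_le]; exact h3
          exact MulAction.mem_stabilizer_iff.mp (h4 τ.2)
      have hcong := hpg.card_modEq_card_fixedPoints (α := (T : Subgroup G))
      have hcF : Nat.card (MulAction.fixedPoints S (T : Subgroup G)) = Nat.card F :=
        Nat.card_congr (Equiv.setCongr hFix)
      rw [hcF, hTc] at hcong
      have hF1 : Nat.card F ≠ 1 := by
        intro h1
        rw [h1] at hcong
        revert hcong
        decide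
      obtain ⟨t, htF, ht1⟩ : ∃ t ∈ F, t ≠ 1 := by
        by_contra hcon
        push Not at hcon
        apply hF1
        rw [Subgroup.card_eq_one, Subgroup.eq_bot_iff_forall]
        exact hcon
      have hcomm : (x1 : G) * (t : G) * (x1 : G)⁻¹ = (t : G) := by
        have h5 : σ t = t := htF
        have h6 := congrArg Subtype.val h5
        rw [hσ, hφ, normalizerMonoidHom_apply_apply_coe] at h6
        exact h6
      -- the Sylow 3-subgroup generated by x1
      have hx1o : orderOf (x1 : G) = 3 := by rw [Subgroup.orderOf_coe]; exact hx1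
      have hpgz : IsPGroup 3 (zpowers (x1 : G)) :=
        IsPGroup.of_card (n := 1) (by rw [Nat.card_zpowers, hx1o, pow_one])
      obtain ⟨Q1, hQ1⟩ := hpgz.exists_le_sylow
      have hQ1e : zpowers (x1 : G) = (Q1 : Subgroup G) :=
        eq_of_le_of_card_ge hQ1 (by rw [Nat.card_zpowers, hx1o, hS3c Q1])
      have htC : (t : G) ∈ centralizer ((Q1 : Subgroup G) : Set G) := by
        rw [← hQ1e, mem_centralizer_iff]
        intro y hy
        rw [SetLike.mem_coe, mem_zpowers_iff] at hy
        obtain ⟨k, rfl⟩ := hy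
        have hc : Commute (x1 : G) (t : G) := by
          unfold Commute SemiconjBy
          calc (x1 : G) * (t : G) = ((x1 : G) * (t : G) * (x1 : G)⁻¹) * (x1 : G) := by group
            _ = (t : G) * (x1 : G) := by rw [hcomm]
        exact (hc.zpow_left k).eq
      have ho3 : orderOf (t : G) ∣ 3 := by
        rw [← hC3 Q1]
        exact Subgroup.orderOf_dvd_natCard _ htC
      have ho8 : orderOf (t : G) ∣ 8 := by
        rw [← hTc]
        exact Subgroup.orderOf_dvd_natCard _ t.2
      have ho1 : orderOf (t : G) = 1 := by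
        have := Nat.dvd_gcd ho3 ho8
        simpa using this
      rw [orderOf_eq_one_iff] at ho1
      exact ht1 (Subtype.ext ho1)
    · rfl
  exact ⟨h2, h3, h7⟩

end Cfsg.Agent.S1003
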