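import Cfsg.Statements.S0995
import Mathlib
import Cfsg.Agent.Lib.helper8.Burnside
import Cfsg.Agent.Lib.helper8.SylowConj
import Cfsg.Agent.Lib.helper8.CountOrder
import Cfsg.Agent.Lib.Helper18.ConjCount

set_option autoImplicit false
open Cfsg

namespace Cfsg.Agent.S0995

open Subgroup
open Cfsg.Agent.Lib.helper8 Cfsg.Agent.Lib.Helper18

theorem fiber_count {E T : Type*} [Finite E] [Finite T] (f : E → T) (m : ℕ)
    (hf : ∀ c : T, Nat.card {e : E // f e = c} = m) : Nat.card E = Nat.card T * m := by
  classical
  haveI := Fintype.ofFinite T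
  rw [← Nat.card_congr (Equiv.sigmaFiberEquiv f), Nat.card_sigma]
  simp only [hf, Finset.sum_const, Finset.card_univ, smul_eq_mul, Nat.card_eq_fintype_card]

theorem result {G : Type*} [Group G] [Finite G] (hperf : commutator G = ⊤) (p : ℕ) [Fact p.Prime] (z : G) (hz : orderOf z = p) (hC : Subgroup.centralizer ({z} : Set G) = Subgroup.zpowers z) : ∃ n t : ℕ, t = Nat.card {c : ConjClasses G // ∃ g : G, ConjClasses.mk g = c ∧ orderOf g = p} ∧ t ∣ p - 1 ∧ Nat.card (Sylow p G) = 1 + n * p ∧ Nat.card G * t = (p - 1) * p * (1 + n * p) := by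
  classical
  have hpp : p.Prime := Fact.out
  have hp2 := hpp.two_le
  have hz1 : z ≠ 1 := by
    intro h0
    rw [h0, orderOf_one] at hz
    omega
  set Z := zpowers z with hZ
  have hZc : Nat.card Z = p := by rw [hZ, Nat.card_zpowers, hz]
  -- a Sylow p-subgroup containing z equals Z
  have hpgZ : IsPGroup p Z := IsPGroup.of_card (n := 1) (by rw [hZc, pow_one])
  obtain ⟨S, hS⟩ := hpgZ.exists_le_sylow
  have hzS : z ∈ (S : Subgroup G) := hS (mem_zpowers z)
  -- key: anything commuting with a nontrivial element of Z lies in Z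
  have hkey : ∀ y ∈ Z, y ≠ 1 → ∀ c : G, c * y = y * c → c ∈ Z := by
    intro y hy hy1 c hc
    have h1 : zpowers y = Z := h8_zpowers_eq_of_prime_card p hpp Z hZc y hy hy1
    have h2 : z ∈ zpowers y := by rw [h1]; exact mem_zpowers z
    obtain ⟨k, hk⟩ := mem_zpowers_iff.mp h2
    have h3 : Commute c y := hc
    have h4 : Commute c z := by rw [← hk]; exact h3.zpow_right k
    have h5 : c ∈ centralizer ({z} : Set G) := by
      rw [mem_centralizer_iff]
      intro w hw
      rw [Set.mem_singleton_iff] at hw
      rw [hw]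
      exact h4.eq.symm
    rw [hC] at h5
    exact h5
  have hSZ : (S : Subgroup G) = Z := by
    apply le_antisymm _ hS
    haveI : Nontrivial (S : Subgroup G) := ⟨⟨⟨z, hzS⟩, 1, fun h => hz1 (congrArg Subtype.val h)⟩⟩
    have hnt := (S.isPGroup').center_nontrivial
    obtain ⟨w, hw1⟩ := exists_ne (1 : center (S : Subgroup G))
    have hw1' : ((w : (S : Subgroup G)) : G) ≠ 1 := by
      intro h0
      apply hw1
      apply Subtype.ext
      apply Subtype.ext
      exact h0
    have hwc : ∀ s : (S : Subgroup G), (s : G) * ((w : (S : Subgroup G)) : G) =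
        ((w : (S : Subgroup G)) : G) * (s : G) := by
      intro s
      have := Subgroup.mem_center_iff.mp w.2 s
      exact congrArg Subtype.val this
    have hwZ : ((w : (S : Subgroup G)) : G) ∈ Z := by
      have h1 := hwc ⟨z, hzS⟩
      have h5 : ((w : (S : Subgroup G)) : G) ∈ centralizer ({z} : Set G) := by
        rw [mem_centralizer_iff]
        intro y hy
        rw [Set.mem_singleton_iff] at hy
        rw [hy]
        exact h1
      rw [hC] at h5
      exact h5
    intro s hs
    exact hkey _ hwZ hw1' s (hwc ⟨s, hs⟩)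
  have hSc : Nat.card (S : Subgroup G) = p := by rw [hSZ]; exact hZc
  set m := (S : Subgroup G).index with hm
  have hG : Nat.card G = p * m := by
    rw [← hSc]; exact ((S : Subgroup G).card_mul_index).symm
  have hmp : ¬ p ∣ m := S.not_dvd_index
  have hG' : Nat.card G = p ^ 1 * m := by rw [pow_one]; exact hG
  have hcent : ∀ x : G, orderOf x = p → Nat.card (centralizer ({x} : Set G)) = p := by
    intro x hx
    have hpgx : IsPGroup p (zpowers x) :=
      IsPGroup.of_card (n := 1) (by rw [Nat.card_zpowers, hx, pow_one])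
    obtain ⟨S', hS'⟩ := hpgx.exists_le_sylow
    obtain ⟨g, hg⟩ := MulAction.exists_smul_eq G S S'
    have hxS' : x ∈ (S' : Subgroup G) := hS' (mem_zpowers x)
    rw [← hg, h8_mem_smul_sylow] at hxS'
    obtain ⟨y, hy⟩ : ∃ y, y = g⁻¹ * x * g := ⟨_, rfl⟩
    rw [← hy] at hxS'
    have hyZ : y ∈ Z := hSZ ▸ hxS'
    have hyo : orderOf y = p := by rw [hy, h8_orderOf_conj, hx]
    have hy1 : y ≠ 1 := by
      intro h0
      rw [h0, orderOf_one] at hyo
      omega
    have hCy : centralizer ({y} : Set G) = Z := by
      apply le_antisymm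
      · intro c hc
        rw [mem_centralizer_iff] at hc
        exact hkey y hyZ hy1 c (hc y rfl).symm
      · intro c hc
        rw [mem_centralizer_iff]
        intro w hw
        rw [Set.mem_singleton_iff] at hw
        rw [hw]
        obtain ⟨i, rfl⟩ := mem_zpowers_iff.mp hc
        obtain ⟨j, hj⟩ := mem_zpowers_iff.mp hyZ
        rw [← hj]
        exact (Commute.zpow_zpow_self z j i).eq
    have hconj : IsConj x y := by
      rw [isConj_iff]
      exact ⟨g⁻¹, by rw [hy, inv_inv]⟩
    rw [card_centralizer_eq_of_isConj hconj, hCy]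
    exact hZc
  have hfib : ∀ c : {c : ConjClasses G // ∃ g : G, ConjClasses.mk g = c ∧ orderOf g = p},
      Nat.card {e : {g : G // orderOf g = p} //
        (⟨ConjClasses.mk e.1, e.1, rfl, e.2⟩ :
          {c : ConjClasses G // ∃ g : G, ConjClasses.mk g = c ∧ orderOf g = p}) = c} = m := by
    intro c
    obtain ⟨g0, hg0c, hg0⟩ := c.2
    have h1 := card_isConj_mul_card_centralizer g0
    rw [hcent g0 hg0, hG, mul_comm] at h1
    have h2 : Nat.card {h : G // IsConj g0 h} = m := Nat.eq_of_mul_eq_mul_left hpp.pos h1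
    rw [← h2]
    apply Nat.card_congr
    refine ⟨fun e => ⟨e.1.1, ?_⟩, fun h => ⟨⟨h.1, ?_⟩, ?_⟩, ?_, ?_⟩
    · have h3 := congrArg Subtype.val e.2
      simp only at h3
      rw [← hg0c, ConjClasses.mk_eq_mk_iff_isConj] at h3
      exact h3.symm
    · obtain ⟨d, hd⟩ := isConj_iff.mp h.2
      rw [← hd]
      have := h8_orderOf_conj d⁻¹ g0
      rw [inv_inv] at this
      rw [this, hg0]
    · apply Subtype.ext
      simp only
      rw [← hg0c, ConjClasses.mk_eq_mk_iff_isConj]
      exact h.2.symm
    · intro e
      rfl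
    · intro h
      rfl
  have hcount := fiber_count (E := {g : G // orderOf g = p})
    (T := {c : ConjClasses G // ∃ g : G, ConjClasses.mk g = c ∧ orderOf g = p})
    (fun e => ⟨ConjClasses.mk e.1, e.1, rfl, e.2⟩) m hfib
  have h8c := h8_card_orderOf_eq_prime p m hG hmp
  rw [h8c] at hcount
  set t := Nat.card {c : ConjClasses G // ∃ g : G, ConjClasses.mk g = c ∧ orderOf g = p} with ht
  have hmod := h8_nsylow_mod (G := G) p
  set np := Nat.card (Sylow p G) with hnp
  -- normalizer / centralizer of S
  have hrel := h8_relIndex_centralizer_normalizer_dvd_prime p hpp (S : Subgroup G) hSc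
  have hCN := h8_card_centralizer_mul_relIndex (S : Subgroup G)
  have hNn := h8_card_normalizer_sylow p S
  have hCS : Nat.card (centralizer ((S : Subgroup G) : Set G)) = p := by
    have : centralizer ((S : Subgroup G) : Set G) = centralizer ({z} : Set G) := by
      rw [hSZ, hZ, zpowers_eq_closure, centralizer_closure]
    rw [this, hC]
    exact hZc
  rw [hCS] at hCN
  obtain ⟨e, he⟩ := hrel
  -- p * relIndex * np = p * m
  have hm_eq : (centralizer ((S : Subgroup G) : Set G)).relIndex
      (normalizer ((S : Subgroup G) : Set G)) * np = m := by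
    rw [← hCN, hG] at hNn
    have : p * ((centralizer ((S : Subgroup G) : Set G)).relIndex
      (normalizer ((S : Subgroup G) : Set G)) * np) = p * m := by rw [← hNn]; ring
    exact Nat.eq_of_mul_eq_mul_left hpp.pos this
  set r := (centralizer ((S : Subgroup G) : Set G)).relIndex
      (normalizer ((S : Subgroup G) : Set G)) with hr
  have hnppos : 0 < np := Nat.card_pos
  -- np * (p - 1) = t * m = t * (r * np)
  have hte : t * r = p - 1 := by
    have : np * (t * r) = np * (p - 1) := by
      rw [hcount, ← hm_eq]; ring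
    exact Nat.eq_of_mul_eq_mul_left hnppos this
  have hdm : 1 + np / p * p = np := by
    have := Nat.div_add_mod np p
    rw [hmod] at this
    obtain ⟨q, hq⟩ : ∃ q, q = np / p := ⟨_, rfl⟩
    rw [← hq] at this ⊢
    linarith [mul_comm p q]
  refine ⟨np / p, t, rfl, ⟨r, hte.symm⟩, hdm.symm, ?_⟩
  · rw [hdm, hG]
    calc p * m * t = p * (t * m) := by ring
      _ = p * (np * (p - 1)) := by rw [hcount]
      _ = (p - 1) * p * np := by ring

end Cfsg.Agent.S0995
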