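import Cfsg.Statements.S3079
import Cfsg.Agent.Lib.Helper10.ZJsc

set_option autoImplicit false
open Cfsg

namespace Cfsg.Agent.S3079

open Cfsg.Agent.Lib.Helper9 Cfsg.Agent.Lib.Helper10.ZJsc

theorem centerThompsonOf_eq_map {G : Type*} [Group G] (p : ℕ) (D : Subgroup G) :
    Cfsg.centerThompsonOf p D =
      (Cfsg.thompsonSubgroup p ↥D ⊓
        Subgroup.centralizer (Cfsg.thompsonSubgroup p ↥D : Set ↥D)).map D.subtype := by
  unfold Cfsg.centerThompsonOf Cfsg.thompsonSubgroupOf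
  ext y
  rw [Subgroup.mem_inf, Subgroup.mem_map]
  constructor
  · rintro ⟨hyJ, hyC⟩
    obtain ⟨x, hx, rfl⟩ := Subgroup.mem_map.mp hyJ
    refine ⟨x, Subgroup.mem_inf.mpr ⟨hx, ?_⟩, rfl⟩
    rw [Subgroup.mem_centralizer_iff]
    intro j hj
    rw [Subgroup.mem_centralizer_iff] at hyC
    have h1 := hyC (D.subtype j) (Subgroup.mem_map.mpr ⟨j, hj, rfl⟩)
    apply Subtype.ext
    simpa using h1
  · rintro ⟨x, hx, rfl⟩
    obtain ⟨hxJ, hxC⟩ := Subgroup.mem_inf.mp hx
    refine ⟨Subgroup.mem_map.mpr ⟨x, hxJ, rfl⟩, ?_⟩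
    rw [Subgroup.mem_centralizer_iff]
    intro y hy
    obtain ⟨j, hj, rfl⟩ := Subgroup.mem_map.mp hy
    rw [Subgroup.mem_centralizer_iff] at hxC
    have h1 := hxC j hj
    have h2 := congrArg Subtype.val h1
    simpa using h2

theorem omegaOne_map_subtype {G : Type*} [Group G] (p : ℕ) (D : Subgroup G) (H : Subgroup ↥D) :
    (Cfsg.omegaOne p H).map D.subtype = Cfsg.omegaOne p (H.map D.subtype) := by
  unfold Cfsg.omegaOne
  rw [MonoidHom.map_closure]
  congr 1
  ext y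
  constructor
  · rintro ⟨x, ⟨hx, hxp⟩, rfl⟩
    refine ⟨⟨x, hx, rfl⟩, ?_⟩
    have := congrArg Subtype.val hxp
    simpa using this
  · rintro ⟨⟨x, hx, rfl⟩, hyp⟩
    refine ⟨x, ⟨hx, ?_⟩, rfl⟩
    apply Subtype.ext
    simpa using hyp

/-- Glauberman's ZJ-Theorem for strongly closed subgroups, p odd. -/
theorem result {G : Type*} [Group G] [Finite G] {p : ℕ} [Fact p.Prime] (hp : p ≠ 2) (P : Sylow p G) (D : Subgroup G) (hD : Cfsg.IsStronglyClosed D (P : Subgroup G)) (hst : Cfsg.IsNormalizerPStable p G) (hc : Subgroup.centralizer ((Cfsg.pCore p G : Subgroup G) : Set G) ≤ Cfsg.pCore p G) : (Cfsg.centerThompsonAOf D).Normal ∧ (Cfsg.omegaOne p (Cfsg.centerThompsonOf p D)).Normal := by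
  constructor
  · rw [← zfam_eq_centerThompsonAOf D]
    exact zfam_normal_sc _ P (zjhyp_comm hp P) D hD hc hst
  · have hDp : IsPGroup p D := P.isPGroup'.to_le hD.1
    rw [centerThompsonOf_eq_map, ← omegaOne_map_subtype]
    have h1 := zfam_eq_omegaCenterThompson (p := p) D hDp
    unfold Cfsg.omegaCenterThompson at h1
    rw [← h1]
    exact zfam_normal_sc _ P (zjhyp_elem hp P) D hD hc hst

end Cfsg.Agent.S3079
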