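import Cfsg.Statements.S3035
import Mathlib
import Cfsg.Agent.Lib.Helper18.CD8B
import Cfsg.Agent.Lib.Helper18.CD8C
import Cfsg.Agent.Lib.Helper18.CD8K

set_option autoImplicit false
open Cfsg

namespace Cfsg.Agent.S3035

theorem result {G : Type*} [Group G] [Finite G] (z : G) (hz : orderOf z = 2)
    (hC : Nonempty (↥(Subgroup.centralizer ({z} : Set G)) ≃* DihedralGroup 4)) :
    Subgroup.centralizer ({z} : Set G) ⊔ Cfsg.oddCore G = ⊤ ∨ Nonempty (G ≃* Equiv.Perm (Fin 4)) ∨ Nonempty (G ≃* Equiv.Perm (Fin 5)) ∨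
      Nonempty (G ≃* Matrix.SpecialLinearGroup (Fin 3) (ZMod 2)) ∨ Nonempty (G ≃* ↥(alternatingGroup (Fin 6))) := by
  obtain ⟨e⟩ := hC
  have ht1 : z ≠ 1 := Cfsg.Agent.Lib.Helper19.D8Conj.ne_one_of_orderOf hz
  have htt : z * z = 1 := Cfsg.Agent.Lib.Helper19.D8Conj.sq_eq_one_of_orderOf hz
  by_cases hiso : ∀ g : G, g * z * g⁻¹ ∈ Subgroup.centralizer ({z} : Set G) → g * z * g⁻¹ = z
  · left
    exact Cfsg.Agent.Lib.Helper18.CD8.isolated_case e hz hiso
  · right
    push Not at hiso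
    obtain ⟨g, hgC, hgt⟩ := hiso
    by_cases hG : ∀ H : Subgroup G, H.index ≠ 2
    · right; right
      exact Cfsg.Agent.Lib.Helper18.CD8.simple_case e hz hG
    · push Not at hG
      obtain ⟨M, hM⟩ := hG
      have hw1 : g * z * g⁻¹ ≠ 1 := by
        intro hh
        apply ht1
        have : z = g⁻¹ * (g * z * g⁻¹) * g := by group
        rw [this, hh]; group
      have hww : (g * z * g⁻¹) * (g * z * g⁻¹) = 1 := by
        calc (g * z * g⁻¹) * (g * z * g⁻¹) = g * (z * z) * g⁻¹ := by group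
          _ = 1 := by rw [htt]; group
      have hcomm : z * (g * z * g⁻¹) = (g * z * g⁻¹) * z :=
        (Subgroup.mem_centralizer_singleton_iff.mp hgC).symm
      let e' : ↥(Subgroup.centralizer ({g * z * g⁻¹} : Set G)) ≃* DihedralGroup 4 :=
        (Cfsg.Agent.Lib.Helper19.D8A6.centralizerConj g z (g * z * g⁻¹) rfl).symm.trans e
      obtain ⟨a, a', hfd⟩ := Cfsg.Agent.Lib.Helper18.CD8.exists_fd e e' ht1 htt hw1 hww hgt hcomm
      rcases Cfsg.Agent.Lib.Helper18.CD8.index_two_case e e' hfd M hM with hcl | hf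
      · left
        exact Cfsg.Agent.Lib.Helper18.CD8.s4_case e e' hfd hcl
      · right; left
        obtain ⟨f⟩ := hf
        exact Cfsg.Agent.Lib.Helper18.CD8.s5_case e e' hfd M hM f

end Cfsg.Agent.S3035
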