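import Cfsg.Statements.S4457
import Mathlib
import Cfsg.Agent.S4456
import Cfsg.Agent.Lib.helper2.Cd2D
import Cfsg.Agent.Lib.helper2.Cd2E

set_option autoImplicit false
open Cfsg

namespace Cfsg.Agent.S4457

open Cfsg
open scoped commutatorElement

open Cfsg.Agent.Lib.helper2 Cfsg.Agent.Lib.Helper25 in


/-- Let G be a finite group whose irreducible character degrees are exactly 1 and m (m ≠ 1). Then either G has an abelian normal subgroup of index m, or m is a power of a prime p and G is the direct product of a p-group and an abelian group: there are normal subgroups P and A with P a p-group, A abelian, P ⊓ A = 1 and P ⊔ A = G. -/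
theorem result {G : Type*} [Group G] [Finite G] (m : ℕ) (hcd : ∀ χ : Cfsg.IrrCharacter G, Cfsg.charDegree (χ : G → ℂ) = 1 ∨ Cfsg.charDegree (χ : G → ℂ) = m) (hm : ∃ χ : Cfsg.IrrCharacter G, Cfsg.charDegree (χ : G → ℂ) = m) (hm1 : m ≠ 1) : (∃ A : Subgroup G, A.Normal ∧ (∀ a ∈ A, ∀ b ∈ A, a * b = b * a) ∧ A.index = m) ∨ ∃ p e : ℕ, p.Prime ∧ m = p ^ e ∧ ∃ P A : Subgroup G, P.Normal ∧ A.Normal ∧ IsPGroup p P ∧ (∀ a ∈ A, ∀ b ∈ A, a * b = b * a) ∧ P ⊓ A = ⊥ ∧ P ⊔ A = ⊤ := by
  classical
  obtain ⟨χ₀, hχ₀⟩ := hm
  have hm0 : m ≠ 0 := by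
    rw [← hχ₀]
    exact (charDegree_irr χ₀).2.ne'
  -- Thompson complements
  have hthom : ∀ r : ℕ, r ∈ m.primeFactors → ∃ N : Subgroup G, N.Normal ∧ (Nat.card N).Coprime r ∧
      ∃ k : ℕ, N.index = r ^ k := by
    intro r hr
    have hrp := Nat.prime_of_mem_primeFactors hr
    have hrm := Nat.dvd_of_mem_primeFactors hr
    apply Cfsg.Agent.S4456.result r hrp
    intro χ hχ
    rcases hcd χ with h | h
    · exact absurd h hχ
    · rw [h]; exact hrm
  set p := m.minFac with hpdef
  have hp : p.Prime := Nat.minFac_prime hm1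
  have hpm : p ∣ m := Nat.minFac_dvd m
  have hpmem : p ∈ m.primeFactors := Nat.mem_primeFactors.mpr ⟨hp, hpm, hm0⟩
  by_cases hpow : ∀ q : ℕ, q.Prime → q ∣ m → q = p
  · -- m is a power of p
    have hmpow : m = p ^ m.primeFactorsList.length :=
      Nat.eq_prime_pow_of_unique_prime_dvd hm0 (fun {d} hd hdm => hpow d hd hdm)
    obtain ⟨L, hLn, hLcop, k, hLidx⟩ := hthom p hpmem
    haveI := hLn
    have hLm : (Nat.card L).Coprime m := by
      rw [hmpow]
      exact Nat.Coprime.pow_right _ hLcop
    have hLab := cd2_normal_abelian L m hcd hLm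
    have hcopidx : (Nat.card L).Coprime L.index := by
      rw [hLidx]
      exact Nat.Coprime.pow_right _ hLcop
    obtain ⟨S, hc⟩ := Subgroup.exists_left_complement'_of_coprime hcopidx
    have hScard : Nat.card S = L.index := hc.index_eq_card.symm
    have hcop : (Nat.card S).Coprime (Nat.card L) := by
      rw [hScard]
      exact hcopidx.symm
    rcases cd2_main hc hLab hcop m hcd hm1 with h | h
    · right
      refine ⟨p, m.primeFactorsList.length, hp, hmpow, S, L, ?_, hLn, ?_, hLab, ?_, ?_⟩
      · -- S normal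
        rw [← Subgroup.normalizer_eq_top_iff]
        apply top_le_iff.mp
        rw [← hc.sup_eq_top]
        apply sup_le
        · exact Subgroup.le_normalizer
        · intro l hl
          rw [Subgroup.mem_normalizer_iff]
          intro s
          constructor
          · intro hs
            have h1 : l * s * l⁻¹ = s := by
              rw [← h s hs l hl]; group
            rw [h1]; exact hs
          · intro hs
            have h2 : l⁻¹ * (l * s * l⁻¹) * l = s := by group
            have h3 := h _ hs l hl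
            have h4 : l * s * l⁻¹ = s := by
              have : (l * s * l⁻¹) = l⁻¹ * (l * s * l⁻¹) * l := by
                rw [mul_assoc l⁻¹, h3]; group
              rw [this, h2]
            rw [← h4]; exact hs
      · exact IsPGroup.of_card (n := k) (by rw [hScard, hLidx])
      · exact hc.disjoint.eq_bot
      · exact hc.sup_eq_top
    · left
      exact h
  · -- m is not a prime power
    push Not at hpow
    obtain ⟨q, hq, hqm, hqp⟩ := hpow
    choose! N hNn hNcop hNidx using hthom
    choose! kk hkk using hNidx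
    set L := m.primeFactors.inf N with hLdef
    obtain ⟨hLn, hLdvd⟩ := cd2_inf_index_dvd m.primeFactors N hNn
    haveI := hLn
    -- commutator in L
    have hcomm : commutator G ≤ L := by
      rw [hLdef]
      apply Finset.le_inf
      intro r hr
      haveI := hNn r hr
      have hrp := Nat.prime_of_mem_primeFactors hr
      by_cases hrq : q = r
      · -- use p instead
        have hpr : p ≠ r := by rw [← hrq]; exact fun h => hqp h.symm
        exact cd2_quot_abelian (N r) m r (kk r) p hrp hp hpr hpm hcd (hkk r hr)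
      · exact cd2_quot_abelian (N r) m r (kk r) q hrp hq hrq hqm hcd (hkk r hr)
    have hLm : (Nat.card L).Coprime m := by
      apply Nat.Coprime.symm
      apply Nat.coprime_of_dvd
      intro r hrp hrm hrL
      have hr : r ∈ m.primeFactors := Nat.mem_primeFactors.mpr ⟨hrp, hrm, hm0⟩
      have h1 : Nat.card L ∣ Nat.card (N r) :=
        Subgroup.card_dvd_of_le (Finset.inf_le hr)
      have h2 := (hNcop r hr)
      exact (Nat.Prime.coprime_iff_not_dvd hrp).mp h2.symm (hrL.trans h1)
    have hLab := cd2_normal_abelian L m hcd hLm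
    have hcopidx : (Nat.card L).Coprime L.index := by
      apply Nat.Coprime.symm
      apply Nat.coprime_of_dvd
      intro t htp htidx htL
      have h1 : t ∣ ∏ r ∈ m.primeFactors, (N r).index := htidx.trans hLdvd
      obtain ⟨r, hr, htr⟩ := (Prime.dvd_finsetProd_iff htp.prime _).mp h1
      rw [hkk r hr] at htr
      have h2 := htp.dvd_of_dvd_pow htr
      have hrp := Nat.prime_of_mem_primeFactors hr
      have h3 : t = r := (Nat.prime_dvd_prime_iff_eq htp hrp).mp h2
      have h4 : t ∣ m := h3 ▸ Nat.dvd_of_mem_primeFactors hr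
      exact (Nat.Prime.coprime_iff_not_dvd htp).mp (Nat.Coprime.symm (Nat.Coprime.coprime_dvd_right h4 hLm)) htL
    obtain ⟨S, hc⟩ := Subgroup.exists_left_complement'_of_coprime hcopidx
    have hScard : Nat.card S = L.index := hc.index_eq_card.symm
    have hcop : (Nat.card S).Coprime (Nat.card L) := by
      rw [hScard]
      exact hcopidx.symm
    have hSab : ∀ s ∈ S, ∀ t ∈ S, s * t = t * s := by
      intro s hs t ht
      have h1 : ⁅s, t⁆ ∈ L := hcomm (by
        rw [commutator_def]
        exact Subgroup.commutator_mem_commutator (Subgroup.mem_top _) (Subgroup.mem_top _))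
      have h2 : ⁅s, t⁆ ∈ S := by
        rw [commutatorElement_def]
        exact S.mul_mem (S.mul_mem (S.mul_mem hs ht) (S.inv_mem hs)) (S.inv_mem ht)
      have h3 : ⁅s, t⁆ ∈ S ⊓ L := ⟨h2, h1⟩
      rw [hc.disjoint.eq_bot, Subgroup.mem_bot] at h3
      exact commutatorElement_eq_one_iff_mul_comm.mp h3
    rcases cd2_main hc hLab hcop m hcd hm1 with h | h
    · exfalso
      -- G is abelian
      have hGab : ∀ a b : G, a * b = b * a := by
        intro a b
        obtain ⟨⟨s₁, l₁⟩, rfl⟩ := hc.2 a
        obtain ⟨⟨s₂, l₂⟩, rfl⟩ := hc.2 b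
        simp only
        have e1 : (s₂ : G) * l₁ = l₁ * s₂ := h s₂ s₂.2 l₁ l₁.2
        have e2 : (s₁ : G) * l₂ = l₂ * s₁ := h s₁ s₁.2 l₂ l₂.2
        have e3 : (l₁ : G) * l₂ = l₂ * l₁ := hLab l₁ l₁.2 l₂ l₂.2
        have e4 : (s₁ : G) * s₂ = s₂ * s₁ := hSab s₁ s₁.2 s₂ s₂.2
        calc (s₁ : G) * l₁ * (s₂ * l₂) = s₁ * (l₁ * s₂) * l₂ := by group
          _ = s₁ * (s₂ * l₁) * l₂ := by rw [e1]
          _ = (s₁ * s₂) * (l₁ * l₂) := by group
          _ = (s₂ * s₁) * (l₂ * l₁) := by rw [e3, e4]
          _ = s₂ * (s₁ * l₂) * l₁ := by group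
          _ = s₂ * (l₂ * s₁) * l₁ := by rw [e2]
          _ = s₂ * l₂ * (s₁ * l₁) := by group
      letI : CommGroup G := { (inferInstance : Group G) with mul_comm := hGab }
      have h1 := irr_one_of_comm χ₀
      have h2 := (charDegree_irr χ₀).1
      rw [h1, hχ₀] at h2
      exact hm1 (by exact_mod_cast h2)
    · left
      exact h

end Cfsg.Agent.S4457
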