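import Cfsg.Statements.S4458
import Mathlib
import Cfsg.Agent.S4457
import Cfsg.Agent.Lib.helper2.Cd2F

set_option autoImplicit false
open Cfsg

namespace Cfsg.Agent.S4458

open Cfsg
open scoped commutatorElement

open Cfsg.Agent.Lib.helper2 Cfsg.Agent.Lib.Helper25 in


/-- If a finite group has exactly two irreducible character degrees, 1 and m with m ≠ 1, then its commutator subgroup is abelian. -/
theorem result {G : Type*} [Group G] [Finite G] (m : ℕ) (hcd : ∀ χ : Cfsg.IrrCharacter G, Cfsg.charDegree (χ : G → ℂ) = 1 ∨ Cfsg.charDegree (χ : G → ℂ) = m) (hm : ∃ χ : Cfsg.IrrCharacter G, Cfsg.charDegree (χ : G → ℂ) = m) (hm1 : m ≠ 1) : ∀ a ∈ commutator G, ∀ b ∈ commutator G, a * b = b * a := by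
  classical
  rcases Cfsg.Agent.S4457.result m hcd hm hm1 with ⟨A, hAn, hAab, hAidx⟩ | ⟨p, e, hp, hme, P, A, hPn, hAn, hP, hAab, hPA, hsup⟩
  · have hle := cd2_comm_le_of_index A m hcd hm1 hAidx
    intro a ha b hb
    exact hAab a (hle ha) b (hle hb)
  · haveI := hPn
    haveI := hAn
    haveI : Fact p.Prime := ⟨hp⟩
    -- A is central
    have hPAcomm : ∀ x ∈ P, ∀ y ∈ A, x * y = y * x := by
      intro x hx y hy
      have h1 : ⁅x, y⁆ ∈ P := by
        rw [commutatorElement_def]
        have := hPn.conj_mem x⁻¹ (P.inv_mem hx) y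
        have h2 := P.mul_mem hx this
        convert h2 using 1
        group
      have h2 : ⁅x, y⁆ ∈ A := by
        rw [commutatorElement_def]
        have := hAn.conj_mem y hy x
        have h3 := A.mul_mem this (A.inv_mem hy)
        convert h3 using 1
      have h3 : ⁅x, y⁆ ∈ P ⊓ A := ⟨h1, h2⟩
      rw [hPA, Subgroup.mem_bot] at h3
      exact commutatorElement_eq_one_iff_mul_comm.mp h3
    have hdecomp : ∀ g : G, ∃ x ∈ P, ∃ y ∈ A, g = x * y := by
      intro g
      have hg : g ∈ P ⊔ A := by rw [hsup]; exact Subgroup.mem_top g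
      rw [← SetLike.mem_coe, Subgroup.mul_normal] at hg
      obtain ⟨x, hx, y, hy, rfl⟩ := Set.mem_mul.mp hg
      exact ⟨x, hx, y, hy, rfl⟩
    have hAcen : A ≤ Subgroup.center G := by
      intro y hy
      rw [Subgroup.mem_center_iff]
      intro g
      obtain ⟨x, hx, y', hy', rfl⟩ := hdecomp g
      have e1 := hPAcomm x hx y hy
      have e2 := hAab y' hy' y hy
      calc x * y' * y = x * (y' * y) := by group
        _ = x * (y * y') := by rw [e2]
        _ = (x * y) * y' := by group
        _ = (y * x) * y' := by rw [e1]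
        _ = y * (x * y') := by group
    -- the quotient is a p-group
    have hQ : IsPGroup p (G ⧸ A) := by
      intro q
      obtain ⟨g, rfl⟩ := QuotientGroup.mk_surjective q
      obtain ⟨x, hx, y, hy, rfl⟩ := hdecomp g
      obtain ⟨k, hk⟩ := hP ⟨x, hx⟩
      refine ⟨k, ?_⟩
      have h1 : ((x * y : G) : G ⧸ A) = (x : G ⧸ A) := by
        rw [QuotientGroup.mk_mul, (QuotientGroup.eq_one_iff y).mpr hy, mul_one]
      rw [h1, ← QuotientGroup.mk_pow]
      have h2 : x ^ p ^ k = 1 := by
        have := congrArg Subtype.val hk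
        simpa using this
      rw [h2, QuotientGroup.mk_one]
    haveI : Group.IsNilpotent (G ⧸ A) := hQ.isNilpotent
    haveI : Group.IsNilpotent G := by
      apply Subgroup.isNilpotent_of_ker_le_center (QuotientGroup.mk' A)
      rw [QuotientGroup.ker_mk']
      exact hAcen
    exact cd2_taketa m hcd hm1

end Cfsg.Agent.S4458
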