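import Mathlib
import Cfsg.Statements.S3742
import Cfsg.Agent.S1012
import Cfsg.Agent.Lib.helper14.Quat

set_option autoImplicit false
open Cfsg

namespace Cfsg.Agent.S3742

open QuaternionGroup

/-- evaluation of the endomorphism of `Q₈` with `a 1 ↦ u`, `xa 0 ↦ v` -/
def q8ev (u v : QuaternionGroup 2) : QuaternionGroup 2 → QuaternionGroup 2
  | a k => u ^ k.val
  | xa k => v * u ^ k.val

theorem a_eq_pow : ∀ k : ZMod (2 * 2), (a k : QuaternionGroup 2) = (a 1) ^ k.val := by decide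

theorem xa_eq_pow : ∀ k : ZMod (2 * 2), (xa k : QuaternionGroup 2) = xa 0 * (a 1) ^ k.val := by decide

theorem aut_eq_ev (σ : MulAut (QuaternionGroup 2)) (g : QuaternionGroup 2) :
    σ g = q8ev (σ (a 1)) (σ (xa 0)) g := by
  rcases g with k | k
  · conv_lhs => rw [a_eq_pow k, map_pow]
    rfl
  · conv_lhs => rw [xa_eq_pow k, map_mul, map_pow]
    rfl

/-- the pair of images of the generators -/
def gens (σ : MulAut (QuaternionGroup 2)) : QuaternionGroup 2 × QuaternionGroup 2 :=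
  (σ (a 1), σ (xa 0))

theorem gens_injective : Function.Injective gens := by
  intro σ τ h
  have h1 : σ (a 1) = τ (a 1) := congrArg Prod.fst h
  have h2 : σ (xa 0) = τ (xa 0) := congrArg Prod.snd h
  ext g
  rw [aut_eq_ev σ g, aut_eq_ev τ g, h1, h2]

/-- the admissible pairs of generator images -/
def goodPairs : Finset (QuaternionGroup 2 × QuaternionGroup 2) :=
  Finset.univ.filter (fun p => p.1 * p.1 ≠ 1 ∧ p.2 * p.2 ≠ 1 ∧ p.2 ≠ p.1 ∧ p.2 ≠ p.1⁻¹)

theorem card_goodPairs : goodPairs.card = 24 := by decide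

theorem gens_mem (σ : MulAut (QuaternionGroup 2)) : gens σ ∈ goodPairs := by
  simp only [goodPairs, gens, Finset.mem_filter, Finset.mem_univ, true_and]
  refine ⟨?_, ?_, ?_, ?_⟩
  · rw [← map_mul, Ne, EmbeddingLike.map_eq_one_iff]; decide
  · rw [← map_mul, Ne, EmbeddingLike.map_eq_one_iff]; decide
  · intro h; exact absurd (σ.injective h) (by decide)
  · rw [← map_inv]; intro h; exact absurd (σ.injective h) (by decide)

theorem good_rel : ∀ u v : QuaternionGroup 2, u * u ≠ 1 → v * v ≠ 1 → v ≠ u → v ≠ u⁻¹ →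
    (u ^ 2 ≠ 1 ∧ u ^ 4 = 1 ∧ v * v = u ^ 2 ∧ v * u * v⁻¹ = u⁻¹) := by decide

theorem gens_surj (p : QuaternionGroup 2 × QuaternionGroup 2) (hp : p ∈ goodPairs) :
    ∃ σ : MulAut (QuaternionGroup 2), gens σ = p := by
  obtain ⟨u, v⟩ := p
  simp only [goodPairs, Finset.mem_filter, Finset.mem_univ, true_and] at hp
  obtain ⟨h1, h2, h3, h4⟩ := hp
  obtain ⟨hu2, hu4, hvv, hvu⟩ := good_rel u v h1 h2 h3 h4
  haveI : Fact (Nat.Prime 2) := ⟨Nat.prime_two⟩
  have hord : orderOf u = 2 * 2 := by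
    have := orderOf_eq_prime_pow (p := 2) (n := 1) (x := u) (by simpa using hu2) (by simpa using hu4)
    simpa using this
  obtain ⟨ψ, hψinj, hψa, hψx⟩ := Cfsg.Agent.Lib.helper14.exists_quatHom 2 (by norm_num) u v hord hvv hvu
  have hbij : Function.Bijective ψ := Finite.injective_iff_bijective.mp hψinj
  refine ⟨MulEquiv.ofBijective ψ hbij, ?_⟩
  show (ψ (a 1), ψ (xa 0)) = (u, v)
  rw [hψa, hψx]

theorem card_aut : Nat.card (MulAut (QuaternionGroup 2)) = 24 := by
  have e : MulAut (QuaternionGroup 2) ≃ goodPairs :=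
    Equiv.ofBijective (fun σ => ⟨gens σ, gens_mem σ⟩)
      ⟨fun σ τ h => gens_injective (congrArg Subtype.val h),
       fun p => by
        obtain ⟨σ, hσ⟩ := gens_surj p.1 p.2
        exact ⟨σ, Subtype.ext hσ⟩⟩
  rw [Nat.card_congr e, Nat.card_eq_fintype_card, Fintype.card_coe, card_goodPairs]

theorem no_six : ∀ u v : QuaternionGroup 2, u * u ≠ 1 → v * v ≠ 1 → v ≠ u → v ≠ u⁻¹ →
    q8ev u v (q8ev u v (q8ev u v (q8ev u v (q8ev u v (q8ev u v (a 1)))))) = a 1 →
    q8ev u v (q8ev u v (q8ev u v (q8ev u v (q8ev u v (q8ev u v (xa 0)))))) = xa 0 →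
    (q8ev u v (q8ev u v (a 1)) = a 1 ∧ q8ev u v (q8ev u v (xa 0)) = xa 0) ∨
    (q8ev u v (q8ev u v (q8ev u v (a 1))) = a 1 ∧ q8ev u v (q8ev u v (q8ev u v (xa 0))) = xa 0) := by
  decide

theorem orderOf_ne_six (σ : MulAut (QuaternionGroup 2)) : orderOf σ ≠ 6 := by
  intro h6
  have hmem := gens_mem σ
  simp only [goodPairs, gens, Finset.mem_filter, Finset.mem_univ, true_and] at hmem
  obtain ⟨h1, h2, h3, h4⟩ := hmem
  have hev : ∀ g, σ g = q8ev (σ (a 1)) (σ (xa 0)) g := aut_eq_ev σ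
  have hpow6 : σ ^ 6 = 1 := by rw [← h6]; exact pow_orderOf_eq_one σ
  have h6a : ∀ g, σ (σ (σ (σ (σ (σ g))))) = g := by
    intro g
    have := congrArg (fun τ : MulAut (QuaternionGroup 2) => τ g) hpow6
    exact this
  have key := no_six (σ (a 1)) (σ (xa 0)) h1 h2 h3 h4
    (by simp only [← hev]; exact h6a _) (by simp only [← hev]; exact h6a _)
  simp only [← hev] at key
  rcases key with ⟨k1, k2⟩ | ⟨k1, k2⟩
  · have : σ ^ 2 = 1 := by
      apply gens_injective
      show ((σ ^ 2) (a 1), (σ ^ 2) (xa 0)) = (a 1, xa 0)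
      rw [pow_two]
      exact Prod.ext k1 k2
    have := orderOf_dvd_of_pow_eq_one this
    rw [h6] at this
    omega
  · have : σ ^ 3 = 1 := by
      apply gens_injective
      show ((σ ^ 3) (a 1), (σ ^ 3) (xa 0)) = (a 1, xa 0)
      rw [pow_succ, pow_two]
      exact Prod.ext k1 k2
    have := orderOf_dvd_of_pow_eq_one this
    rw [h6] at this
    omega

theorem result : Nonempty (MulAut (QuaternionGroup 2) ≃* Equiv.Perm (Fin 4)) := by
  haveI : Finite (MulAut (QuaternionGroup 2)) := Finite.of_injective gens gens_injective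
  exact Cfsg.Agent.S1012.result card_aut orderOf_ne_six

end Cfsg.Agent.S3742
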