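import Mathlib
import Cfsg.Statements.S3379
-- import your own Cfsg.Agent.* helpers here

set_option autoImplicit false
open Cfsg

namespace Cfsg.Agent.S3379

section aux

variable {G : Type*} [Group G]

/-- Iterated conjugation: if `x⁻¹ y x = y ^ r` then `(x ^ j)⁻¹ y (x ^ j) = y ^ (r ^ j)`. -/
theorem conj_pow_iter (x y : G) (r : ℕ) (h : x⁻¹ * y * x = y ^ r) (j : ℕ) :
    (x ^ j)⁻¹ * y * x ^ j = y ^ (r ^ j) := by
  induction j with
  | zero => simp
  | succ j ih =>
    have e : (x ^ (j + 1))⁻¹ * y * x ^ (j + 1) = x⁻¹ * ((x ^ j)⁻¹ * y * x ^ j) * x := by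
      rw [pow_succ]; group
    rw [e, ih]
    have e2 : x⁻¹ * y ^ (r ^ j) * x = (x⁻¹ * y * x) ^ (r ^ j) := by
      have := conj_pow (a := x⁻¹) (b := y) (i := r ^ j)
      rw [inv_inv] at this
      exact this.symm
    rw [e2, h, ← pow_mul, pow_succ, mul_comm]

theorem conj_zpow_eq (x y : G) (r : ℕ) (h : x⁻¹ * y * x = y ^ r) (s : ℕ) (j : ℤ) :
    x⁻¹ * (y ^ s) ^ j * x = ((y ^ s) ^ r) ^ j := by
  have e1 : x⁻¹ * (y ^ s) ^ j * x = ((x⁻¹ * y * x) ^ s) ^ j := by
    have h1 := conj_zpow (a := x⁻¹) (b := y ^ s) (i := j)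
    have h2 := conj_pow (a := x⁻¹) (b := y) (i := s)
    rw [inv_inv] at h1 h2
    rw [← h1, ← h2]
  rw [e1, h, ← pow_mul, ← pow_mul, mul_comm]

end aux

/-- Let G be a finite group all of whose Sylow subgroups are cyclic. Then G is generated by two elements x and y of coprime orders n and m with x⁻¹yx = y^r, where gcd(r − 1, m) = 1 and r^n ≡ 1 (mod m). -/
theorem result {G : Type*} [Group G] [Finite G]
    (hZ : ∀ (p : ℕ) [Fact p.Prime] (P : Sylow p G), IsCyclic (P : Subgroup G)) :
    ∃ (x y : G) (n m r : ℕ), Subgroup.closure {x, y} = ⊤ ∧ orderOf x = n ∧ orderOf y = m ∧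
      x⁻¹ * y * x = y ^ r ∧ Nat.Coprime (r - 1) m ∧ Nat.Coprime n m ∧ 1 ≤ r ∧ r ^ n % m = 1 % m := by
  classical
  have hG : IsZGroup G := ⟨fun p hp P => by haveI := Fact.mk hp; exact hZ p P⟩
  have hNc : IsCyclic (commutator G) := IsZGroup.isCyclic_commutator G
  have hcop := IsZGroup.coprime_commutator_index G
  obtain ⟨H, hH⟩ := Subgroup.exists_right_complement'_of_coprime hcop
  have h1 : Abelianization G ≃* H := hH.symm.QuotientMulEquiv
  have hHc : IsCyclic H := isCyclic_of_surjective _ h1.surjective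
  obtain ⟨y0, hy0⟩ := hNc.exists_generator
  obtain ⟨x0, hx0⟩ := hHc.exists_generator
  have hyN : Subgroup.zpowers (y0 : G) = commutator G := by
    have h2 : Subgroup.zpowers y0 = ⊤ := (Subgroup.eq_top_iff' _).mpr hy0
    have h3 := congrArg (Subgroup.map (commutator G).subtype) h2
    rw [MonoidHom.map_zpowers, ← MonoidHom.range_eq_map, Subgroup.range_subtype] at h3
    exact h3
  have hxH : Subgroup.zpowers (x0 : G) = H := by
    have h2 : Subgroup.zpowers x0 = ⊤ := (Subgroup.eq_top_iff' _).mpr hx0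
    have h3 := congrArg (Subgroup.map H.subtype) h2
    rw [MonoidHom.map_zpowers, ← MonoidHom.range_eq_map, Subgroup.range_subtype] at h3
    exact h3
  set y : G := (y0 : G) with hy
  set x : G := (x0 : G) with hx
  have hm : orderOf y = Nat.card (commutator G) := by rw [← Nat.card_zpowers, hyN]
  have hn : orderOf x = Nat.card H := by rw [← Nat.card_zpowers, hxH]
  have hidx : (commutator G).index = Nat.card H := hH.symm.index_eq_card
  have hclosure : Subgroup.closure {x, y} = ⊤ := by
    rw [eq_top_iff, ← hH.sup_eq_top]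
    apply sup_le
    · rw [← hyN, Subgroup.zpowers_le]
      exact Subgroup.subset_closure (by simp)
    · rw [← hxH, Subgroup.zpowers_le]
      exact Subgroup.subset_closure (by simp)
  have hmpos : 0 < orderOf y := orderOf_pos y
  -- conjugation
  have hconjmem : x⁻¹ * y * x ∈ Subgroup.zpowers y := by
    rw [hyN]
    have hn' : (commutator G).Normal := inferInstance
    have := hn'.conj_mem y y0.2 x⁻¹
    rwa [inv_inv] at this
  obtain ⟨r₀, hr₀⟩ : ∃ r₀ : ℕ, y ^ r₀ = x⁻¹ * y * x := by
    rw [← mem_powers_iff_mem_zpowers] at hconjmem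
    exact hconjmem
  set r := r₀ + orderOf y with hr
  have hconj : x⁻¹ * y * x = y ^ r := by
    rw [hr, pow_add, pow_orderOf_eq_one, mul_one, hr₀]
  have hr1 : 1 ≤ r := by omega
  refine ⟨x, y, orderOf x, orderOf y, r, hclosure, rfl, rfl, hconj, ?_, ?_, hr1, ?_⟩
  · -- gcd (r - 1, m) = 1
    set K : Subgroup G := Subgroup.zpowers (y ^ (r - 1)) with hK
    have hyK : y ∈ Subgroup.normalizer (K : Set G) := by
      apply Subgroup.mem_normalizer_fintype
      intro k hk
      obtain ⟨j, rfl⟩ := Subgroup.mem_zpowers_iff.mp hk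
      have : y * (y ^ (r - 1)) ^ j * y⁻¹ = (y ^ (r - 1)) ^ j := by
        rw [← zpow_natCast, ← zpow_mul]
        have h2 : y * y ^ ((↑(r - 1) : ℤ) * j) = y ^ ((↑(r - 1) : ℤ) * j) * y :=
          ((Commute.refl y).zpow_right _).eq
        rw [h2, mul_inv_cancel_right]
      rw [this]
      exact hk
    have hxK : x ∈ Subgroup.normalizer (K : Set G) := by
      have hxinv : x⁻¹ ∈ Subgroup.normalizer (K : Set G) := by
        apply Subgroup.mem_normalizer_fintype
        intro k hk
        obtain ⟨j, rfl⟩ := Subgroup.mem_zpowers_iff.mp hk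
        rw [inv_inv, conj_zpow_eq x y r hconj]
        show ((y ^ (r - 1)) ^ r) ^ j ∈ K
        exact K.zpow_mem (K.pow_mem (Subgroup.mem_zpowers _) r) j
      have := (Subgroup.normalizer (K : Set G)).inv_mem hxinv
      rwa [inv_inv] at this
    have hKn : K.Normal := by
      rw [← Subgroup.normalizer_eq_top_iff, eq_top_iff, ← hclosure, Subgroup.closure_le]
      intro g hg
      rcases hg with rfl | rfl
      · exact hxK
      · exact hyK
    -- the quotient is commutative
    have hcommq : IsMulCommutative (G ⧸ K) := by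
      have hπ : Function.Surjective (QuotientGroup.mk' K) := QuotientGroup.mk'_surjective K
      have hgen : Subgroup.closure ((QuotientGroup.mk' K) '' {x, y}) = ⊤ := by
        rw [← MonoidHom.map_closure, hclosure, ← MonoidHom.range_eq_map,
          MonoidHom.range_eq_top.mpr hπ]
      have hxy : (QuotientGroup.mk' K) x * (QuotientGroup.mk' K) y =
          (QuotientGroup.mk' K) y * (QuotientGroup.mk' K) x := by
        rw [← map_mul, ← map_mul]
        apply (QuotientGroup.eq).mpr
        -- (x*y)⁻¹ * (y*x) = y⁻¹ * (x⁻¹ y x) = y⁻¹ * y^r = y^(r-1)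
        have e : (x * y)⁻¹ * (y * x) = y ^ (r - 1) := by
          have : (x * y)⁻¹ * (y * x) = y⁻¹ * (x⁻¹ * y * x) := by group
          rw [this, hconj]
          have hr' : r = (r - 1) + 1 := by omega
          conv_lhs => rw [hr', pow_succ']
          rw [inv_mul_cancel_left]
        rw [e]
        exact Subgroup.mem_zpowers _
      have hc := Subgroup.isMulCommutative_closure (k := (QuotientGroup.mk' K) '' {x, y}) (by
        rintro a ⟨a', ha', rfl⟩ b ⟨b', hb', rfl⟩
        rcases ha' with rfl | rfl <;> rcases hb' with rfl | rfl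
        · rfl
        · exact hxy
        · exact hxy.symm
        · rfl)
      rw [hgen] at hc
      refine ⟨⟨fun a b => ?_⟩⟩
      have := (isMulCommutative_iff (M := (⊤ : Subgroup (G ⧸ K)))).mp hc ⟨a, Subgroup.mem_top a⟩
        ⟨b, Subgroup.mem_top b⟩
      exact congrArg Subtype.val this
    have hle : commutator G ≤ K := Subgroup.Normal.quotient_commutative_iff_commutator_le.mp hcommq
    have hyK' : y ∈ K := hle y0.2
    obtain ⟨j, hj⟩ := Subgroup.mem_zpowers_iff.mp hyK'
    have h3 : y ^ ((↑(r - 1) : ℤ) * j - 1) = 1 := by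
      rw [zpow_sub, zpow_mul, zpow_natCast, hj, zpow_one, mul_inv_cancel]
    have h4 : (orderOf y : ℤ) ∣ (↑(r - 1) : ℤ) * j - 1 := orderOf_dvd_iff_zpow_eq_one.mpr h3
    obtain ⟨c, hc⟩ := h4
    rw [← Nat.isCoprime_iff_coprime]
    exact ⟨j, -c, by linarith⟩
  · -- gcd (n, m) = 1
    rw [hn, hm, ← hidx]
    exact hcop.symm
  · -- r ^ n ≡ 1 mod m
    have h5 := conj_pow_iter x y r hconj (orderOf x)
    rw [pow_orderOf_eq_one, inv_one, one_mul, mul_one] at h5
    have h6 : y ^ (r ^ orderOf x) = y ^ 1 := by rw [← h5, pow_one]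
    exact (pow_eq_pow_iff_modEq.mp h6)

end Cfsg.Agent.S3379
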