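import Mathlib
import Cfsg.Statements.S3443

set_option autoImplicit false
open Cfsg

namespace Cfsg.Agent.S3443

open SemidirectProduct

variable {G : Type*} [Group G]

/-- the multiplication map `(v, g) ↦ v * g`. -/
def mulHom (V : Subgroup G) [V.Normal] : V ⋊[MulAut.conjNormal] G →* G :=
  SemidirectProduct.lift V.subtype (MonoidHom.id G) (by
    intro g
    ext v
    simp [MulAut.conjNormal_apply])

theorem mulHom_apply (V : Subgroup G) [V.Normal] (x : V ⋊[MulAut.conjNormal] G) :
    mulHom V x = (x.left : G) * x.right := by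
  simp [mulHom, SemidirectProduct.lift]

theorem ker_pow (V : Subgroup G) [V.Normal] (p : ℕ)
    (hexp : ∀ x : V, x ^ p = 1) (y : V ⋊[MulAut.conjNormal] G) (hy : mulHom V y = 1) : y ^ p = 1 := by
  have hr : y.right = (y.left : G)⁻¹ := by
    rw [mulHom_apply] at hy
    exact (eq_inv_of_mul_eq_one_right hy)
  have key : ∀ k : ℕ, (y ^ k).left = y.left ^ k ∧ (y ^ k).right = ((y.left : G) ^ k)⁻¹ := by
    intro k
    induction k with
    | zero => simp
    | succ k ih =>
      rw [pow_succ']
      refine ⟨?_, ?_⟩
      · rw [mul_left, ih.1, hr]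
        apply Subtype.ext
        rw [Subgroup.coe_mul, MulAut.conjNormal_apply]
        simp only [Subgroup.coe_pow, inv_inv]
        rw [pow_succ']
        group
      · rw [mul_right, ih.2, hr, pow_succ, mul_inv_rev]
  have h1 := key p
  rw [hexp] at h1
  ext
  · rw [h1.1]; rfl
  · rw [h1.2]
    have : ((y.left : G) ^ p) = 1 := by
      have := congrArg (fun z : V => (z : G)) (hexp y.left)
      simpa using this
    rw [this]
    simp

theorem result {G : Type*} [Group G] [Finite G] (V : Subgroup G) [V.Normal] (p : ℕ) (hp : p.Prime)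
    (hcomm : ∀ x y : V, x * y = y * x) (hexp : ∀ x : V, x ^ p = 1) :
    Set.range (orderOf : V ⋊[MulAut.conjNormal] G → ℕ) = Set.range (orderOf : G → ℕ) := by
  apply Set.eq_of_subset_of_subset
  · rintro N ⟨x, rfl⟩
    set n := orderOf x.right with hn
    set m := orderOf (mulHom V x) with hm
    have hnN : n ∣ orderOf x := by
      have : x.right = rightHom x := rfl
      rw [hn, this]
      exact orderOf_map_dvd _ x
    have hmN : m ∣ orderOf x := orderOf_map_dvd _ x
    have hn0 : 0 < n := orderOf_pos _
    have hm0 : 0 < m := orderOf_pos _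
    -- x ^ n lies in the kernel of rightHom
    have hxn : (x ^ n).right = 1 := by
      have : (x ^ n).right = (x.right) ^ n := by
        show rightHom (x ^ n) = (rightHom x) ^ n
        rw [map_pow]
      rw [this, hn, pow_orderOf_eq_one]
    have hxn' : x ^ n = inl (x ^ n).left := by
      ext
      · simp
      · rw [hxn]; simp
    have hxnp : x ^ (n * p) = 1 := by
      rw [pow_mul, hxn', ← map_pow, hexp, map_one]
    have hxmp : x ^ (m * p) = 1 := by
      rw [pow_mul]
      apply ker_pow V p hexp
      rw [map_pow, hm, pow_orderOf_eq_one]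
    have hNnp : orderOf x ∣ n * p := orderOf_dvd_of_pow_eq_one hxnp
    have hNmp : orderOf x ∣ m * p := orderOf_dvd_of_pow_eq_one hxmp
    -- orderOf x = n or n * p
    obtain ⟨d, hd⟩ := hnN
    have hdp : d ∣ p := by
      rw [hd] at hNnp
      exact Nat.dvd_of_mul_dvd_mul_left hn0 hNnp
    rcases (Nat.dvd_prime hp).mp hdp with hd1 | hd1
    · exact ⟨x.right, by rw [hd, hd1, mul_one]⟩
    · rw [hd1] at hd
      obtain ⟨e, he⟩ := hmN
      have hep : e ∣ p := by
        rw [he] at hNmp
        exact Nat.dvd_of_mul_dvd_mul_left hm0 hNmp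
      rcases (Nat.dvd_prime hp).mp hep with he1 | he1
      · exact ⟨mulHom V x, by rw [he, he1, mul_one]⟩
      · rw [he1] at he
        -- then n = m
        have hnm : n = m := by
          have : n * p = m * p := by rw [← hd, ← he]
          exact Nat.eq_of_mul_eq_mul_right hp.pos this
        -- x ^ n = inl w, and mulHom (x ^ n) = 1, so w = 1
        have h1 : mulHom V (x ^ n) = 1 := by
          rw [map_pow, hnm, hm, pow_orderOf_eq_one]
        rw [hxn', mulHom_apply] at h1
        simp only [left_inl, right_inl, mul_one] at h1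
        have hw : (x ^ n).left = 1 := by
          apply Subtype.ext
          simpa using h1
        rw [hw, map_one] at hxn'
        have hdvd : orderOf x ∣ n := orderOf_dvd_of_pow_eq_one hxn'
        refine ⟨x.right, ?_⟩
        have hnd : n ∣ orderOf x := ⟨p, hd⟩
        exact Nat.dvd_antisymm hnd hdvd
  · rintro N ⟨g, rfl⟩
    refine ⟨inr g, ?_⟩
    exact orderOf_injective (inr : G →* V ⋊[MulAut.conjNormal] G) inr_injective g

end Cfsg.Agent.S3443
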