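import Cfsg.Statements.S4214
import Cfsg.Agent.Lib.helper23.HallNum
import Cfsg.Agent.Lib.Helper1.MinNormal

set_option autoImplicit false
open Cfsg

namespace Cfsg.Agent.S4214

open Cfsg.Agent.Lib.helper23 Cfsg.Agent.Lib.Helper1 Cfsg.Agent.Lib.Helper22
open scoped Pointwise

universe u

/-- `f` divides the order of a chief factor of `G` -/
def ChiefDiv (G : Type*) [Group G] (f : ℕ) : Prop :=
  ∃ K L : Subgroup G, K.Normal ∧ L.Normal ∧ K < L ∧
    (∀ M : Subgroup G, M.Normal → K ≤ M → M ≤ L → M = K ∨ M = L) ∧ f ∣ K.relIndex L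

theorem chiefDiv_of_quotient {G : Type*} [Group G] (N : Subgroup G) [N.Normal] (f : ℕ)
    (h : ChiefDiv (G ⧸ N) f) : ChiefDiv G f := by
  obtain ⟨K, L, hK, hL, hKL, hmin, hdvd⟩ := h
  have hs := QuotientGroup.mk'_surjective N
  refine ⟨K.comap (QuotientGroup.mk' N), L.comap (QuotientGroup.mk' N), hK.comap _, hL.comap _,
    (Subgroup.comap_lt_comap_of_surjective hs).mpr hKL, ?_, ?_⟩
  · intro M hM hKM hML
    have hker : (QuotientGroup.mk' N).ker ≤ M := by
      refine le_trans ?_ hKM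
      intro x hx
      rw [Subgroup.mem_comap, MonoidHom.mem_ker.mp hx]
      exact Subgroup.one_mem K
    have hMn : (M.map (QuotientGroup.mk' N)).Normal := hM.map _ hs
    have h1 : K ≤ M.map (QuotientGroup.mk' N) := by
      rw [← Subgroup.map_comap_eq_self_of_surjective hs K]
      exact Subgroup.map_mono hKM
    have h2 : M.map (QuotientGroup.mk' N) ≤ L := by
      rw [← Subgroup.map_comap_eq_self_of_surjective hs L]
      exact Subgroup.map_mono hML
    rcases hmin _ hMn h1 h2 with h | h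
    · left
      rw [← h, Subgroup.comap_map_eq_self hker]
    · right
      rw [← h, Subgroup.comap_map_eq_self hker]
  · rw [Subgroup.relIndex_comap, Subgroup.map_comap_eq_self_of_surjective hs]
    exact hdvd

/-- counting the subgroups of order `m` by a normalizer index -/
theorem card_hall_eq_index {G : Type*} [Group G] [Finite G] [Group.IsSolvable G] (m n : ℕ)
    (hG : Nat.card G = m * n) (hmn : Nat.Coprime m n) (H₀ : Subgroup G) (hH₀ : Nat.card H₀ = m) :
    Nat.card {H : Subgroup G // Nat.card H = m} = (Subgroup.normalizer (H₀ : Set G)).index := by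
  apply card_conj_class_eq_index_normalizer H₀ {H : Subgroup G | Nat.card H = m}
  intro H
  constructor
  · intro hH
    exact hall_conj m n hG hmn H₀ H hH₀ hH
  · rintro ⟨g, rfl⟩
    show Nat.card (MulAut.conj g • H₀ : Subgroup G) = m
    rw [← Nat.card_congr (Subgroup.equivSMul (MulAut.conj g) H₀).toEquiv, hH₀]

theorem main : ∀ (c : ℕ) (G : Type u) [Group G] [Finite G] [Group.IsSolvable G],
    Nat.card G = c → ∀ m n : ℕ, Nat.card G = m * n → Nat.Coprime m n →
    ∃ l : List ℕ, l.prod = Nat.card {H : Subgroup G // Nat.card H = m} ∧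
      ∀ f ∈ l, (∃ q e : ℕ, q.Prime ∧ f = q ^ e) ∧ ChiefDiv G f ∧
        ∃ q : ℕ, q.Prime ∧ q ∣ m ∧ f ≡ 1 [MOD q] := by
  intro c
  induction c using Nat.strong_induction_on with
  | _ c ih =>
  intro G _ _ _ hc m n hG hmn
  obtain ⟨H₀, hH₀⟩ := hall_exists m n hG hmn
  have hcount := card_hall_eq_index m n hG hmn H₀ hH₀
  by_cases hsub : Subsingleton G
  · refine ⟨[], ?_, by simp⟩
    rw [List.prod_nil, hcount]
    have : Subgroup.normalizer (H₀ : Set G) = ⊤ := Subsingleton.elim _ _
    rw [this, Subgroup.index_top]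
  have hnt : Nontrivial G := not_subsingleton_iff_nontrivial.mp hsub
  obtain ⟨N, hNn, hN0, hNmin⟩ := exists_minimal_normal (G := G)
  obtain ⟨-, r, hr, hrN⟩ := minimal_normal_of_solvable N hN0 hNmin
  have hrf : Fact r.Prime := ⟨hr⟩
  have hNp : IsPGroup r N := by
    intro x
    refine ⟨1, ?_⟩
    apply Subtype.ext
    rw [pow_one, Subgroup.coe_pow, Subgroup.coe_one]
    exact hrN x x.2
  have hm0 : 0 < m := by
    rcases Nat.eq_zero_or_pos m with h | h
    · rw [h, zero_mul] at hG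
      exact absurd hG Nat.card_pos.ne'
    · exact h
  -- the quotient
  have hs := QuotientGroup.mk'_surjective N
  set m' := N.relIndex H₀ with hm'
  set n' := (H₀ ⊔ N).index with hn'
  have hcardQ : Nat.card (G ⧸ N) = m' * n' := by
    have h1 : N.index = N.relIndex (H₀ ⊔ N) * (H₀ ⊔ N).index :=
      (Subgroup.relIndex_mul_index (le_sup_right : N ≤ H₀ ⊔ N)).symm
    rw [Subgroup.relIndex_sup_right] at h1
    exact h1
  have hm'm : m' ∣ m := hH₀ ▸ Subgroup.relIndex_dvd_card N H₀
  have hidx : H₀.index = n := by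
    have := Subgroup.card_mul_index H₀
    rw [hH₀, hG] at this
    exact Nat.eq_of_mul_eq_mul_left hm0 this
  have hn'n : n' ∣ n := hidx ▸ Subgroup.index_dvd_of_le (le_sup_left : H₀ ≤ H₀ ⊔ N)
  have hcop' : Nat.Coprime m' n' :=
    Nat.Coprime.coprime_dvd_left hm'm (Nat.Coprime.coprime_dvd_right hn'n hmn)
  have hlt : Nat.card (G ⧸ N) < c := by
    rw [← hc]
    have h1 := Subgroup.card_eq_card_quotient_mul_card_subgroup N
    have h2 : 1 < Nat.card N := by
      rw [Finite.one_lt_card_iff_nontrivial]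
      exact (Subgroup.nontrivial_iff_ne_bot N).mpr hN0
    have h3 : 0 < Nat.card (G ⧸ N) := Nat.card_pos
    nlinarith
  obtain ⟨l', hl', hg'⟩ := ih _ hlt (G ⧸ N) rfl m' n' hcardQ hcop'
  have hH₀' : Nat.card (H₀.map (QuotientGroup.mk' N)) = m' := card_map_mk' H₀ N
  have hcount' := card_hall_eq_index m' n' hcardQ hcop' (H₀.map (QuotientGroup.mk' N)) hH₀'
  rw [← Subgroup.index_comap_of_surjective _ hs,
    Subgroup.comap_normalizer_eq_of_surjective _ hs, Subgroup.comap_map_eq,
    QuotientGroup.ker_mk'] at hcount'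
  -- Frattini
  set j := H₀.relIndex (H₀ ⊔ N) with hj
  have hX : Nat.card (H₀ ⊔ N : Subgroup G) = m * j := by
    rw [← hH₀]
    exact (Cfsg.Agent.Lib.Helper22.card_mul_relIndex_of_le (le_sup_left : H₀ ≤ H₀ ⊔ N)).symm
  have hjn : j ∣ n := hidx ▸ Subgroup.relIndex_dvd_index_of_le (le_sup_left : H₀ ≤ H₀ ⊔ N)
  have hmj : Nat.Coprime m j := Nat.Coprime.coprime_dvd_right hjn hmn
  have hfr := relIndex_normalizer_sup_hall N H₀ m j hX hmj hH₀
  have hmul : (Subgroup.normalizer (H₀ : Set G)).index =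
      (Subgroup.normalizer (H₀ : Set G)).relIndex (H₀ ⊔ N) *
        Nat.card {H : Subgroup (G ⧸ N) // Nat.card H = m'} := by
    rw [hcount', ← hfr]
    exact (Subgroup.relIndex_mul_index (normalizer_le_normalizer_sup H₀ N)).symm
  -- transfer of the properties from the quotient
  have htrans : ∀ f ∈ l', (∃ q e : ℕ, q.Prime ∧ f = q ^ e) ∧ ChiefDiv G f ∧
      ∃ q : ℕ, q.Prime ∧ q ∣ m ∧ f ≡ 1 [MOD q] := by
    intro f hf
    obtain ⟨h1, h2, q, hq, hqm, hfq⟩ := hg' f hf
    exact ⟨h1, chiefDiv_of_quotient N f h2, q, hq, dvd_trans hqm hm'm, hfq⟩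
  by_cases hrm : r ∣ m
  · -- N ≤ H₀
    have hrn : ¬ r ∣ n := fun h => hr.one_lt.ne' (Nat.eq_one_of_dvd_coprimes hmn hrm h)
    obtain ⟨a, ha⟩ := IsPGroup.iff_card.mp hNp
    have hNn' : (Nat.card N).Coprime n := by
      rw [ha]
      exact Nat.Coprime.pow_left a ((Nat.Prime.coprime_iff_not_dvd hr).mpr hrn)
    obtain ⟨g, hg⟩ := hall_le_conj m n hG hmn H₀ N hH₀ hNn'
    have hNH : N ≤ H₀ := by
      intro x hx
      have h1 : g * x * g⁻¹ ∈ N := hNn.conj_mem x hx g
      have h2 := hg h1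
      rw [Subgroup.mem_pointwise_smul_iff_inv_smul_mem] at h2
      have e : (MulAut.conj g)⁻¹ • (g * x * g⁻¹) = x := by
        rw [← map_inv, MulAut.smul_def, MulAut.conj_apply]
        group
      rwa [e] at h2
    have hsup : H₀ ⊔ N = H₀ := sup_eq_left.mpr hNH
    have hone : (Subgroup.normalizer (H₀ : Set G)).relIndex (H₀ ⊔ N) = 1 := by
      rw [hsup, Subgroup.relIndex_eq_one]
      exact Subgroup.le_normalizer
    refine ⟨l', ?_, htrans⟩
    rw [hl', hcount, hmul, hone, one_mul]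
  · -- N ∩ H₀ = 1
    have hcopmr : (Nat.card H₀).Coprime r := by
      rw [hH₀]
      exact ((Nat.Prime.coprime_iff_not_dvd hr).mpr hrm).symm
    have hinf : H₀ ⊓ N = ⊥ := by
      apply inf_eq_bot_of_coprime_card
      obtain ⟨a, ha⟩ := IsPGroup.iff_card.mp hNp
      rw [ha]
      exact Nat.Coprime.pow_right a hcopmr
    have hrel := relIndex_normalizer_eq_relIndex_centralizer N H₀ hinf
    obtain ⟨l₂, hl₂, hg₂⟩ := split_centralizer_index N r hNp _ H₀ rfl hcopmr
    refine ⟨l₂ ++ l', ?_, ?_⟩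
    · rw [List.prod_append, hl', hl₂, hcount, hmul, hrel]
    · intro f hf
      rw [List.mem_append] at hf
      rcases hf with hf | hf
      · obtain ⟨⟨e, he⟩, hdvd, q, hq, hqd, hfq⟩ := hg₂ f hf
        refine ⟨⟨r, e, hr, he⟩, ?_, q, hq, hH₀ ▸ hqd, hfq⟩
        refine ⟨⊥, N, Subgroup.normal_bot, hNn, bot_lt_iff_ne_bot.mpr hN0, ?_, ?_⟩
        · intro M hM _ hMN
          exact hNmin M hM hMN
        · rw [Subgroup.relIndex_bot_left]
          exact hdvd
      · exact htrans f hf

/-- Let `G` be a finite solvable group of order `mn` with `gcd(m, n) = 1`. Then the number of subgroups of order `m` is a product of natural numbers each of which is a power of a prime, divides the order of some chief factor of `G` (a quotient `L/K` of normal subgroups `K < L` of `G` with no normal subgroup of `G` strictly between them), and is congruent to `1` modulo some prime divisor of `m`. -/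
theorem result {G : Type*} [Group G] [Finite G] [Group.IsSolvable G] (m n : ℕ) (hG : Nat.card G = m * n) (hmn : Nat.Coprime m n) : ∃ (k : ℕ) (f : Fin k → ℕ), Nat.card {H : Subgroup G // Nat.card H = m} = ∏ i, f i ∧ ∀ i, (∃ q e : ℕ, q.Prime ∧ f i = q ^ e) ∧ (∃ K L : Subgroup G, K.Normal ∧ L.Normal ∧ K < L ∧ (∀ M : Subgroup G, M.Normal → K ≤ M → M ≤ L → M = K ∨ M = L) ∧ f i ∣ K.relIndex L) ∧ (∃ q : ℕ, q.Prime ∧ q ∣ m ∧ f i ≡ 1 [MOD q]) := by
  obtain ⟨l, hl, hg⟩ := main _ G rfl m n hG hmn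
  refine ⟨l.length, fun i => l.get i, ?_, ?_⟩
  · rw [← hl, ← List.prod_ofFn, List.ofFn_get]
  · intro i
    exact hg _ (List.get_mem l i)

end Cfsg.Agent.S4214
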