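import Cfsg.Statements.S2426

import Cfsg.Agent.Lib.helper15.St2
set_option autoImplicit false
open Cfsg

namespace Cfsg.Agent.S2426


open Cfsg.Agent.Lib.helper15.St2

def stP {K : Type*} [Field K] (rels : Set (FreeGroup (Bool × K)))
    (h1 : ∀ (b : Bool) (t u : K),
      FreeGroup.of (b, t) * FreeGroup.of (b, u) * (FreeGroup.of (b, t + u))⁻¹ ∈ rels)
    (h2 : ∀ (b : Bool) (t u : K), t ≠ 0 →
      (FreeGroup.of (b, t) * FreeGroup.of (!b, -t⁻¹) * FreeGroup.of (b, t)) * FreeGroup.of (b, u) *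
        (FreeGroup.of (b, t) * FreeGroup.of (!b, -t⁻¹) * FreeGroup.of (b, t))⁻¹ *
        (FreeGroup.of (!b, -(t⁻¹ ^ 2 * u)))⁻¹ ∈ rels) :
    St K (PresentedGroup rels) where
  X b t := PresentedGroup.of (b, t)
  add b t u := by
    have h := PresentedGroup.one_of_mem (h1 b t u)
    rw [map_mul, map_mul, map_inv] at h
    exact mul_inv_eq_one.mp h
  rel b t u ht := by
    have h := PresentedGroup.one_of_mem (h2 b t u ht)
    simp only [map_mul, map_inv] at h
    unfold cj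
    exact mul_inv_eq_one.mp h

/-- The rank-one Steinberg presentation of `SL₂` over a finite field `K`: generators `x(t)`, `y(t)` (`t ∈ K`; the two opposite root subgroups) subject to additivity `x(t)x(u) = x(t+u)`, `y(t)y(u) = y(t+u)` and, with `w(t) = x(t) y(−t⁻¹) x(t)` and `w'(t) = y(t) x(−t⁻¹) y(t)` for `t ≠ 0`, the relations `w(t) x(u) w(t)⁻¹ = y(−t⁻² u)` and `w'(t) y(u) w'(t)⁻¹ = x(−t⁻² u)`, present `SL₂(K)`, with `x(t) ↦ (1 t; 0 1)` and `y(t) ↦ (1 0; t 1)`. -/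
theorem result {K : Type*} [Field K] [Finite K] :
    ∃ e : PresentedGroup
        ({g : FreeGroup (Bool × K) | ∃ (b : Bool) (t u : K), g = FreeGroup.of (b, t) * FreeGroup.of (b, u) * (FreeGroup.of (b, t + u))⁻¹} ∪
          {g | ∃ (b : Bool) (t u : K), t ≠ 0 ∧
            g = (FreeGroup.of (b, t) * FreeGroup.of (!b, -t⁻¹) * FreeGroup.of (b, t)) * FreeGroup.of (b, u) *
                  (FreeGroup.of (b, t) * FreeGroup.of (!b, -t⁻¹) * FreeGroup.of (b, t))⁻¹ * (FreeGroup.of (!b, -(t⁻¹ ^ 2 * u)))⁻¹})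
        ≃* Matrix.SpecialLinearGroup (Fin 2) K,
      (∀ t : K, ((e (PresentedGroup.of (true, t)) : Matrix (Fin 2) (Fin 2) K)) = !![1, t; 0, 1]) ∧
      (∀ t : K, ((e (PresentedGroup.of (false, t)) : Matrix (Fin 2) (Fin 2) K)) = !![1, 0; t, 1]) := by
  classical
  set rels : Set (FreeGroup (Bool × K)) :=
    ({g : FreeGroup (Bool × K) | ∃ (b : Bool) (t u : K), g = FreeGroup.of (b, t) * FreeGroup.of (b, u) * (FreeGroup.of (b, t + u))⁻¹} ∪
          {g | ∃ (b : Bool) (t u : K), t ≠ 0 ∧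
            g = (FreeGroup.of (b, t) * FreeGroup.of (!b, -t⁻¹) * FreeGroup.of (b, t)) * FreeGroup.of (b, u) *
                  (FreeGroup.of (b, t) * FreeGroup.of (!b, -t⁻¹) * FreeGroup.of (b, t))⁻¹ * (FreeGroup.of (!b, -(t⁻¹ ^ 2 * u)))⁻¹}) with hrels
  let S : St K (PresentedGroup rels) :=
    stP rels (fun b t u => Or.inl ⟨b, t, u, rfl⟩) (fun b t u ht => Or.inr ⟨b, t, u, ht, rfl⟩)
  have hlift : ∀ r ∈ rels, FreeGroup.lift (fun p : Bool × K => (stSL (K := K)).X p.1 p.2) r = 1 := by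
    rintro r (⟨b, t, u, rfl⟩ | ⟨b, t, u, ht, rfl⟩)
    · simp only [map_mul, map_inv, FreeGroup.lift_apply_of]
      exact mul_inv_eq_one.2 ((stSL (K := K)).add b t u)
    · simp only [map_mul, map_inv, FreeGroup.lift_apply_of]
      exact mul_inv_eq_one.2 ((stSL (K := K)).rel b t u ht)
  let φ : PresentedGroup rels →* Matrix.SpecialLinearGroup (Fin 2) K := PresentedGroup.toGroup hlift
  have hx : ∀ t, φ (S.x t) = xm t := fun t => PresentedGroup.toGroup.of hlift
  have hy : ∀ t, φ (S.y t) = ym t := fun t => PresentedGroup.toGroup.of hlift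
  have hgen : Subgroup.closure (Set.range fun p : Bool × K => S.X p.1 p.2) = ⊤ :=
    PresentedGroup.closure_range_of rels
  have hinj : Function.Injective φ := S.injective_of hgen φ hx hy
  have hsurj : Function.Surjective φ :=
    surjective_of φ (fun t => ⟨S.x t, hx t⟩) (fun t => ⟨S.y t, hy t⟩)
  refine ⟨MulEquiv.ofBijective φ ⟨hinj, hsurj⟩, fun t => ?_, fun t => ?_⟩
  · show ((φ (S.x t) : Matrix.SpecialLinearGroup (Fin 2) K) : Matrix (Fin 2) (Fin 2) K) = _
    rw [hx]; rfl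
  · show ((φ (S.y t) : Matrix.SpecialLinearGroup (Fin 2) K) : Matrix (Fin 2) (Fin 2) K) = _
    rw [hy]; rfl

end Cfsg.Agent.S2426
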