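import Cfsg.Statements.S0255

import Cfsg.Agent.S2426
import Cfsg.Agent.S0254
import Cfsg.Agent.Lib.helper15.St2
set_option autoImplicit false
open Cfsg

namespace Cfsg.Agent.S0255


open Cfsg.Agent.Lib.helper15.St2 Matrix

section general

variable {K : Type*} [Field K] {G : Type*} [Group G]

def mapHom {H : Type*} [Group H] (S : St K G) (f : G →* H) : St K H where
  X b t := f (S.X b t)
  add b t u := by rw [← map_mul, S.add]
  rel b t u ht := by
    have h := congrArg f (S.rel b t u ht)
    unfold cj at h ⊢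
    simp only [map_mul, map_inv] at h
    exact h

def comapRing {L : Type*} [Field L] (S : St K G) (e : L ≃+* K) : St L G where
  X b t := S.X b (e t)
  add b t u := by rw [S.add, map_add]
  rel b t u ht := by
    have h := S.rel b (e t) (e u) ((map_ne_zero e).2 ht)
    rw [map_neg, map_inv₀, map_neg, map_mul, map_pow, map_inv₀]
    exact h

def rels (K : Type*) [Field K] : Set (FreeGroup (Bool × K)) :=
  ({g : FreeGroup (Bool × K) | ∃ (b : Bool) (t u : K), g = FreeGroup.of (b, t) * FreeGroup.of (b, u) * (FreeGroup.of (b, t + u))⁻¹} ∪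
    {g | ∃ (b : Bool) (t u : K), t ≠ 0 ∧
      g = (FreeGroup.of (b, t) * FreeGroup.of (!b, -t⁻¹) * FreeGroup.of (b, t)) * FreeGroup.of (b, u) *
            (FreeGroup.of (b, t) * FreeGroup.of (!b, -t⁻¹) * FreeGroup.of (b, t))⁻¹ * (FreeGroup.of (!b, -(t⁻¹ ^ 2 * u)))⁻¹})

theorem exists_lift [Finite K] (S : St K G) :
    ∃ ψ : Matrix.SpecialLinearGroup (Fin 2) K →* G,
      (∀ t, ψ (xm t) = S.X true t) ∧ (∀ t, ψ (ym t) = S.X false t) := by
  obtain ⟨e, he1, he2⟩ : ∃ e : PresentedGroup (rels K) ≃* Matrix.SpecialLinearGroup (Fin 2) K,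
      (∀ t : K, ((e (PresentedGroup.of (true, t)) : Matrix (Fin 2) (Fin 2) K)) = !![1, t; 0, 1]) ∧
      (∀ t : K, ((e (PresentedGroup.of (false, t)) : Matrix (Fin 2) (Fin 2) K)) = !![1, 0; t, 1]) :=
    Cfsg.Agent.S2426.result (K := K)
  have hlift : ∀ r ∈ rels K, FreeGroup.lift (fun p : Bool × K => S.X p.1 p.2) r = 1 := by
    rintro r (⟨b, t, u, rfl⟩ | ⟨b, t, u, ht, rfl⟩)
    · simp only [map_mul, map_inv, FreeGroup.lift_apply_of]
      exact mul_inv_eq_one.2 (S.add b t u)
    · simp only [map_mul, map_inv, FreeGroup.lift_apply_of]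
      exact mul_inv_eq_one.2 (S.rel b t u ht)
  refine ⟨(PresentedGroup.toGroup hlift).comp e.symm.toMonoidHom, fun t => ?_, fun t => ?_⟩
  · have h1 : e (PresentedGroup.of (true, t)) = xm t := Subtype.ext (he1 t)
    rw [← h1]
    show PresentedGroup.toGroup hlift (e.symm (e (PresentedGroup.of (true, t)))) = _
    rw [e.symm_apply_apply, PresentedGroup.toGroup.of]
  · have h1 : e (PresentedGroup.of (false, t)) = ym t := Subtype.ext (he2 t)
    rw [← h1]
    show PresentedGroup.toGroup hlift (e.symm (e (PresentedGroup.of (false, t)))) = _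
    rw [e.symm_apply_apply, PresentedGroup.toGroup.of]

end general

section concrete

def A0 : Matrix (Fin 3) (Fin 3) (ZMod 2) := !![0,0,1;1,0,0;0,1,1]
def B0 : Matrix (Fin 3) (Fin 3) (ZMod 2) := !![0,1,0;0,0,1;1,1,0]
def M0 (b : Bool) (t : ZMod 7) : Matrix (Fin 3) (Fin 3) (ZMod 2) := (cond b A0 B0) ^ t.val

set_option maxRecDepth 100000 in
lemma M0_add : ∀ (b : Bool) (t u : ZMod 7), M0 b t * M0 b u = M0 b (t+u) := by decide

set_option maxRecDepth 100000 in
lemma M0_rel : ∀ (b : Bool) (t s u : ZMod 7), t * s = 1 →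
    (M0 b t * M0 (!b) (-s) * M0 b t) * M0 b u =
      M0 (!b) (-(s ^ 2 * u)) * (M0 b t * M0 (!b) (-s) * M0 b t) := by decide

lemma M0_ne : M0 true 1 ≠ 1 := by decide

set_option maxRecDepth 100000 in
lemma M0_w : (M0 true 1 * M0 false (-1) * M0 true 1) * (M0 true 1 * M0 false (-1) * M0 true 1) = 1 := by
  decide

lemma M0_det (b : Bool) (t : ZMod 7) : (M0 b t).det = 1 := by
  unfold M0
  rw [Matrix.det_pow]
  cases b <;> simp [A0, B0, Matrix.det_fin_three]

def N0 (b : Bool) (t : ZMod 7) : Matrix.SpecialLinearGroup (Fin 3) (ZMod 2) := ⟨M0 b t, M0_det b t⟩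

instance : Fact (Nat.Prime 7) := ⟨by norm_num⟩

def S0 : St (ZMod 7) (Matrix.SpecialLinearGroup (Fin 3) (ZMod 2)) where
  X := N0
  add b t u := Subtype.ext (M0_add b t u)
  rel b t u ht := by
    unfold cj
    rw [mul_inv_eq_iff_eq_mul]
    apply Subtype.ext
    have h := M0_rel b t t⁻¹ u (mul_inv_cancel₀ ht)
    exact h

end concrete

section more

lemma N0_w : (N0 true 1 * N0 false (-1) * N0 true 1) * (N0 true 1 * N0 false (-1) * N0 true 1) = 1 :=
  Subtype.ext M0_w

lemma neg_one_eq (K : Type*) [Field K] :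
    (-1 : Matrix.SpecialLinearGroup (Fin 2) K) =
      (xm 1 * ym (-1) * xm 1) * (xm 1 * ym (-1) * xm 1) := by
  apply Subtype.ext
  rw [mul_coe', mul_coe', mul_coe', xm_coe, ym_coe, Matrix.mul_fin_two, Matrix.mul_fin_two,
    Matrix.mul_fin_two, Matrix.SpecialLinearGroup.coe_neg, Matrix.SpecialLinearGroup.coe_one]
  ext i j
  fin_cases i <;> fin_cases j <;> simp

lemma center_sl2 {K : Type*} [Field K] (z : Matrix.SpecialLinearGroup (Fin 2) K)
    (hz : z ∈ Subgroup.center (Matrix.SpecialLinearGroup (Fin 2) K)) : z = 1 ∨ z = -1 := by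
  rw [Matrix.SpecialLinearGroup.mem_center_iff] at hz
  obtain ⟨r, hr, hrz⟩ := hz
  rw [Fintype.card_fin, pow_two, mul_self_eq_one_iff] at hr
  rcases hr with rfl | rfl
  · left
    apply Subtype.ext
    rw [← hrz]
    simp
  · right
    apply Subtype.ext
    rw [← hrz, map_neg, map_one, Matrix.SpecialLinearGroup.coe_neg,
      Matrix.SpecialLinearGroup.coe_one]

end more

/-- PSL_2(7) is isomorphic to PSL_3(2). -/
theorem result {F K : Type*} [Field F] [Fintype F] [Field K] [Fintype K] (hF : Fintype.card F = 7) (hK : Fintype.card K = 2) : Nonempty (Matrix.ProjectiveSpecialLinearGroup (Fin 2) F ≃* Matrix.ProjectiveSpecialLinearGroup (Fin 3) K) := by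
  classical
  have hp7 : Nat.Prime 7 := by norm_num
  let e7 : ZMod 7 ≃+* F := ZMod.ringEquivOfPrime F hp7 hF
  let e2 : ZMod 2 ≃+* K := ZMod.ringEquivOfPrime K Nat.prime_two hK
  let f2 : Matrix.SpecialLinearGroup (Fin 3) (ZMod 2) →* Matrix.SpecialLinearGroup (Fin 3) K :=
    Matrix.SpecialLinearGroup.map (e2 : ZMod 2 →+* K)
  let S' : St F (Matrix.SpecialLinearGroup (Fin 3) K) := comapRing (mapHom S0 f2) e7.symm
  obtain ⟨ψ, hψx, hψy⟩ := exists_lift S'
  have hX : ∀ b t, S'.X b t = f2 (N0 b (e7.symm t)) := fun b t => rfl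
  have hneg : ψ (-1) = 1 := by
    rw [neg_one_eq, map_mul, map_mul, map_mul, hψx, hψy, hX, hX, map_neg, map_one,
      ← map_mul, ← map_mul, ← map_mul, N0_w, map_one]
  have hcen : ∀ z ∈ Subgroup.center (Matrix.SpecialLinearGroup (Fin 2) F), ψ z = 1 := by
    intro z hz
    rcases center_sl2 z hz with rfl | rfl
    · exact map_one ψ
    · exact hneg
  let ψ1 : Matrix.ProjectiveSpecialLinearGroup (Fin 2) F →* Matrix.SpecialLinearGroup (Fin 3) K :=
    QuotientGroup.lift _ ψ hcen
  let ψ2 : Matrix.ProjectiveSpecialLinearGroup (Fin 2) F →*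
      Matrix.ProjectiveSpecialLinearGroup (Fin 3) K :=
    (QuotientGroup.mk' _).comp ψ1
  have hsimple : IsSimpleGroup (Matrix.ProjectiveSpecialLinearGroup (Fin 2) F) :=
    Matrix.ProjectiveSpecialLinearGroup.rank_two_simple
      (by rw [Nat.card_eq_fintype_card, hF]; norm_num)
  have hK01 : ∀ r : K, r = 0 ∨ r = 1 := by
    intro r
    have h : ∀ x : ZMod 2, x = 0 ∨ x = 1 := by decide
    rcases h (e2.symm r) with h | h
    · left
      have := congrArg e2 h
      rwa [e2.apply_symm_apply, map_zero] at this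
    · right
      have := congrArg e2 h
      rwa [e2.apply_symm_apply, map_one] at this
  have hne : ψ2 (QuotientGroup.mk (xm 1)) ≠ 1 := by
    intro h
    have h1 : f2 (N0 true 1) ∈ Subgroup.center (Matrix.SpecialLinearGroup (Fin 3) K) := by
      have : ψ2 (QuotientGroup.mk (xm 1)) = QuotientGroup.mk (ψ (xm 1)) := rfl
      rw [this, hψx, hX, map_one] at h
      exact (QuotientGroup.eq_one_iff _).1 h
    rw [Matrix.SpecialLinearGroup.mem_center_iff] at h1
    obtain ⟨r, hr, hrz⟩ := h1
    have hr1 : r = 1 := by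
      rcases hK01 r with rfl | rfl
      · simp at hr
      · rfl
    subst hr1
    apply M0_ne
    ext i j
    have := congrFun (congrFun hrz i) j
    rw [Matrix.SpecialLinearGroup.map_apply_coe] at this
    simp only [map_one] at this
    apply e2.injective
    have h2 : e2 ((1 : Matrix (Fin 3) (Fin 3) (ZMod 2)) i j) =
        (1 : Matrix (Fin 3) (Fin 3) K) i j := by
      by_cases hij : i = j
      · subst hij
        simp
      · simp [Matrix.one_apply_ne hij]
    rw [h2]
    exact this.symm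
  have hinj : Function.Injective ψ2 := by
    rw [← MonoidHom.ker_eq_bot_iff]
    rcases (Subgroup.Normal.eq_bot_or_eq_top (H := ψ2.ker) inferInstance) with h | h
    · exact h
    · exfalso
      apply hne
      have : (QuotientGroup.mk (xm 1) : Matrix.ProjectiveSpecialLinearGroup (Fin 2) F) ∈ ψ2.ker := by
        rw [h]
        trivial
      exact this
  have hc2 : Nat.card (Matrix.ProjectiveSpecialLinearGroup (Fin 2) F) = 168 := by
    have := Cfsg.Agent.S0254.card_psl2 (F := F) (by rw [hF])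
    rw [hF] at this
    omega
  have hc3 : Nat.card (Matrix.ProjectiveSpecialLinearGroup (Fin 3) K) ≤ 168 := by
    calc Nat.card (Matrix.ProjectiveSpecialLinearGroup (Fin 3) K)
        ≤ Nat.card (Matrix.SpecialLinearGroup (Fin 3) K) :=
          Nat.card_le_card_of_surjective _ (QuotientGroup.mk_surjective)
      _ ≤ Nat.card (GL (Fin 3) K) :=
          Nat.card_le_card_of_injective _ Matrix.SpecialLinearGroup.toGL_injective
      _ = 168 := by
          rw [Matrix.card_GL_field, hK]
          simp [Fin.prod_univ_three]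
  have hbij : Function.Bijective ψ2 :=
    Function.Injective.bijective_of_nat_card_le hinj (by rw [hc2]; exact hc3)
  exact ⟨MulEquiv.ofBijective ψ2 hbij⟩

end Cfsg.Agent.S0255
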