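import Cfsg.Statements.S2530

import Cfsg.Agent.Lib.helper15.BraidBound
set_option autoImplicit false
open Cfsg

namespace Cfsg.Agent.S2530


open Cfsg.Agent.Lib.helper15

def fswap (n : ℕ) (i : Fin n) : Equiv.Perm (Fin (n + 1)) := Equiv.swap i.castSucc i.succ

theorem swap_braid {α : Type*} [DecidableEq α] (a b c : α) (hab : a ≠ b) (hac : a ≠ c) (hbc : b ≠ c) :
    (Equiv.swap a b * Equiv.swap b c) ^ 3 = 1 := by
  have h1 : Equiv.swap b c * Equiv.swap a b * Equiv.swap b c = Equiv.swap c a :=
    Equiv.swap_mul_swap_mul_swap hab hac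
  have h2 : Equiv.swap b a * Equiv.swap c b * Equiv.swap b a = Equiv.swap a c :=
    Equiv.swap_mul_swap_mul_swap hbc.symm hac.symm
  rw [Equiv.swap_comm b a, Equiv.swap_comm c b] at h2
  rw [pow_succ, pow_two]
  calc Equiv.swap a b * Equiv.swap b c * (Equiv.swap a b * Equiv.swap b c) * (Equiv.swap a b * Equiv.swap b c)
      = (Equiv.swap a b * Equiv.swap b c * Equiv.swap a b) * (Equiv.swap b c * Equiv.swap a b * Equiv.swap b c) := by
        simp only [mul_assoc]
    _ = 1 := by rw [h1, h2, Equiv.swap_comm c a, Equiv.swap_mul_self]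

theorem swap_comm_disjoint {α : Type*} [DecidableEq α] (a b c d : α) (hac : a ≠ c) (had : a ≠ d)
    (hbc : b ≠ c) (hbd : b ≠ d) : (Equiv.swap a b * Equiv.swap c d) ^ 2 = 1 := by
  have hcomm : Equiv.swap a b * Equiv.swap c d = Equiv.swap c d * Equiv.swap a b := by
    ext x
    simp only [Equiv.Perm.coe_mul, Function.comp_apply]
    by_cases hxa : x = a
    · subst hxa
      rw [Equiv.swap_apply_of_ne_of_ne hac had, Equiv.swap_apply_left,
        Equiv.swap_apply_of_ne_of_ne hbc hbd]
    · by_cases hxb : x = b
      · subst hxb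
        rw [Equiv.swap_apply_of_ne_of_ne hbc hbd, Equiv.swap_apply_right,
          Equiv.swap_apply_of_ne_of_ne hac had]
      · rw [Equiv.swap_apply_of_ne_of_ne hxa hxb]
        by_cases hxc : x = c
        · subst hxc
          rw [Equiv.swap_apply_left, Equiv.swap_apply_of_ne_of_ne had.symm hbd.symm]
        · by_cases hxd : x = d
          · subst hxd
            rw [Equiv.swap_apply_right, Equiv.swap_apply_of_ne_of_ne hac.symm hbc.symm]
          · rw [Equiv.swap_apply_of_ne_of_ne hxc hxd, Equiv.swap_apply_of_ne_of_ne hxa hxb]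
  rw [pow_two]
  calc Equiv.swap a b * Equiv.swap c d * (Equiv.swap a b * Equiv.swap c d)
      = Equiv.swap a b * Equiv.swap c d * (Equiv.swap c d * Equiv.swap a b) := by rw [hcomm]
    _ = Equiv.swap a b * (Equiv.swap c d * Equiv.swap c d) * Equiv.swap a b := by
        simp only [mul_assoc]
    _ = 1 := by rw [Equiv.swap_mul_self, mul_one, Equiv.swap_mul_self]

theorem A_apply (n : ℕ) (i j : Fin n) : (CoxeterMatrix.A n) i j =
    if i = j then 1 else (if (j : ℕ) + 1 = i ∨ (i : ℕ) + 1 = j then 3 else 2) := rfl

theorem liftable (n : ℕ) : (CoxeterMatrix.A n).IsLiftable (fswap n) := by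
  intro i j
  rw [A_apply]
  unfold fswap
  by_cases hij : i = j
  · subst hij
    rw [if_pos rfl, pow_one, Equiv.swap_mul_self]
  · rw [if_neg hij]
    have hij' : (i : ℕ) ≠ j := fun h => hij (Fin.ext h)
    by_cases hadj : (j : ℕ) + 1 = i ∨ (i : ℕ) + 1 = j
    · rw [if_pos hadj]
      rcases hadj with h | h
      · have e : i.castSucc = j.succ := by
          apply Fin.ext
          simp only [Fin.val_castSucc, Fin.val_succ]
          omega
        rw [e, Equiv.swap_comm j.succ i.succ]
        have hb := swap_braid j.castSucc j.succ i.succ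
          (by intro h'; have := congrArg Fin.val h'; simp only [Fin.val_castSucc, Fin.val_succ] at this; omega)
          (by intro h'; have := congrArg Fin.val h'; simp only [Fin.val_castSucc, Fin.val_succ] at this; omega)
          (by intro h'; have := congrArg Fin.val h'; simp only [Fin.val_succ] at this; omega)
        have hinv : (Equiv.swap i.succ j.succ * Equiv.swap j.castSucc j.succ)
            = (Equiv.swap j.castSucc j.succ * Equiv.swap j.succ i.succ)⁻¹ := by
          rw [mul_inv_rev, Equiv.swap_inv, Equiv.swap_inv, Equiv.swap_comm i.succ j.succ]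
        rw [hinv, inv_pow, hb, inv_one]
      · have e : j.castSucc = i.succ := by
          apply Fin.ext
          simp only [Fin.val_castSucc, Fin.val_succ]
          omega
        rw [e]
        exact swap_braid i.castSucc i.succ j.succ
          (by intro h'; have := congrArg Fin.val h'; simp only [Fin.val_castSucc, Fin.val_succ] at this; omega)
          (by intro h'; have := congrArg Fin.val h'; simp only [Fin.val_castSucc, Fin.val_succ] at this; omega)
          (by intro h'; have := congrArg Fin.val h'; simp only [Fin.val_succ] at this; omega)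
    · rw [if_neg hadj]
      push Not at hadj
      apply swap_comm_disjoint
      · intro h'; have := congrArg Fin.val h'; simp only [Fin.val_castSucc] at this; omega
      · intro h'; have := congrArg Fin.val h'; simp only [Fin.val_castSucc, Fin.val_succ] at this; omega
      · intro h'; have := congrArg Fin.val h'; simp only [Fin.val_castSucc, Fin.val_succ] at this; omega
      · intro h'; have := congrArg Fin.val h'; simp only [Fin.val_succ] at this; omega

noncomputable def fhom (n : ℕ) : (CoxeterMatrix.A n).Group →* Equiv.Perm (Fin (n + 1)) :=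
  (CoxeterMatrix.A n).toCoxeterSystem.lift ⟨fswap n, liftable n⟩

theorem fhom_simple (n : ℕ) (i : Fin n) : fhom n ((CoxeterMatrix.A n).simple i) = fswap n i :=
  (CoxeterMatrix.A n).toCoxeterSystem.lift_apply_simple (liftable n) i

theorem fhom_surjective (n : ℕ) : Function.Surjective (fhom n) := by
  rw [← MonoidHom.mrange_eq_top]
  apply top_unique
  rw [← Equiv.Perm.mclosure_swap_castSucc_succ n, Submonoid.closure_le]
  rintro _ ⟨i, rfl⟩
  exact ⟨(CoxeterMatrix.A n).simple i, fhom_simple n i⟩

noncomputable def sgen (n : ℕ) (i : ℕ) : (CoxeterMatrix.A n).Group :=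
  if h : i < n then (CoxeterMatrix.A n).simple ⟨i, h⟩ else 1

theorem sgen_of_lt (n : ℕ) {i : ℕ} (h : i < n) : sgen n i = (CoxeterMatrix.A n).simple ⟨i, h⟩ := by
  unfold sgen
  rw [dif_pos h]

theorem braidRel_sgen (n : ℕ) : BraidRel (sgen n) n where
  sq i hi := by
    rw [sgen_of_lt n hi]
    exact (CoxeterMatrix.A n).toCoxeterSystem.simple_mul_simple_self ⟨i, hi⟩
  comm i j hij hj := by
    have hi : i < n := by omega
    rw [sgen_of_lt n hi, sgen_of_lt n hj]
    have h := (CoxeterMatrix.A n).toCoxeterSystem.simple_mul_simple_pow ⟨i, hi⟩ ⟨j, hj⟩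
    have hM : (CoxeterMatrix.A n) ⟨i, hi⟩ ⟨j, hj⟩ = 2 := by
      rw [A_apply]
      have h1 : (⟨i, hi⟩ : Fin n) ≠ ⟨j, hj⟩ := by
        intro h'
        have := congrArg Fin.val h'
        simp only at this
        omega
      rw [if_neg h1, if_neg]
      simp only
      omega
    rw [hM] at h
    have ha := (CoxeterMatrix.A n).toCoxeterSystem.simple_mul_simple_self ⟨i, hi⟩
    have hb := (CoxeterMatrix.A n).toCoxeterSystem.simple_mul_simple_self ⟨j, hj⟩
    rw [CoxeterMatrix.toCoxeterSystem_simple] at h ha hb
    generalize (CoxeterMatrix.A n).simple ⟨i, hi⟩ = a at *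
    generalize (CoxeterMatrix.A n).simple ⟨j, hj⟩ = b at *
    have ha' : a⁻¹ = a := inv_eq_of_mul_eq_one_right ha
    have hb' : b⁻¹ = b := inv_eq_of_mul_eq_one_right hb
    rw [pow_two] at h
    have h2 : a * b = (a * b)⁻¹ := (inv_eq_of_mul_eq_one_right h).symm
    rw [mul_inv_rev, ha', hb'] at h2
    exact h2
  braid i hi := by
    have hi' : i < n := by omega
    rw [sgen_of_lt n hi', sgen_of_lt n hi]
    have h := (CoxeterMatrix.A n).toCoxeterSystem.simple_mul_simple_pow ⟨i, hi'⟩ ⟨i + 1, hi⟩
    have hM : (CoxeterMatrix.A n) ⟨i, hi'⟩ ⟨i + 1, hi⟩ = 3 := by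
      rw [A_apply]
      have h1 : (⟨i, hi'⟩ : Fin n) ≠ ⟨i + 1, hi⟩ := by
        intro h'
        have := congrArg Fin.val h'
        simp only at this
        omega
      rw [if_neg h1, if_pos]
      right
      rfl
    rw [hM] at h
    have ha := (CoxeterMatrix.A n).toCoxeterSystem.simple_mul_simple_self ⟨i, hi'⟩
    have hb := (CoxeterMatrix.A n).toCoxeterSystem.simple_mul_simple_self ⟨i + 1, hi⟩
    rw [CoxeterMatrix.toCoxeterSystem_simple] at h ha hb
    generalize (CoxeterMatrix.A n).simple ⟨i, hi'⟩ = a at *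
    generalize (CoxeterMatrix.A n).simple ⟨i + 1, hi⟩ = b at *
    have ha' : a⁻¹ = a := inv_eq_of_mul_eq_one_right ha
    have hb' : b⁻¹ = b := inv_eq_of_mul_eq_one_right hb
    have h3 : (a * b * a) * (b * a * b) = 1 := by
      rw [pow_succ, pow_two] at h
      simpa only [mul_assoc] using h
    have h4 : a * b * a = (b * a * b)⁻¹ := eq_inv_of_mul_eq_one_left h3
    rw [mul_inv_rev, mul_inv_rev, ha', hb', ← mul_assoc] at h4
    exact h4

theorem genSub_sgen (n : ℕ) : genSub (sgen n) n = ⊤ := by
  apply top_unique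
  rw [← (CoxeterMatrix.A n).toCoxeterSystem.subgroup_closure_range_simple]
  unfold genSub
  apply Subgroup.closure_mono
  rintro _ ⟨i, rfl⟩
  exact ⟨i, i.2, (sgen_of_lt n i.2).symm⟩

theorem fhom_bijective (n : ℕ) : Function.Bijective (fhom n) := by
  obtain ⟨hfin, hcard⟩ := braid_card_le n (braidRel_sgen n)
  rw [genSub_sgen] at hfin hcard
  have hfinG : Finite (CoxeterMatrix.A n).Group :=
    Finite.of_equiv _ Subgroup.topEquiv.toEquiv
  have hcardG : Nat.card (CoxeterMatrix.A n).Group ≤ (n + 1).factorial := by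
    rw [← Nat.card_congr (Subgroup.topEquiv (G := (CoxeterMatrix.A n).Group)).toEquiv]
    exact hcard
  apply (fhom_surjective n).bijective_of_nat_card_le
  rw [Nat.card_eq_fintype_card (α := Equiv.Perm (Fin (n + 1))), Fintype.card_perm, Fintype.card_fin]
  exact hcardG

/-- The Coxeter presentation of the symmetric group: for every n, the symmetric group on n+1 letters is the Coxeter group of type A_n with the adjacent transpositions (i, i+1) as simple reflections; that is, it is presented by generators r_1, …, r_n subject to r_i² = 1, (r_i r_j)² = 1 for |i − j| > 1 and (r_i r_{i+1})³ = 1, with r_i mapping to (i, i+1). -/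
theorem result (n : ℕ) :
    ∃ cs : CoxeterSystem (CoxeterMatrix.A n) (Equiv.Perm (Fin (n + 1))), ∀ i : Fin n, cs.simple i = Equiv.swap i.castSucc i.succ := by
  refine ⟨⟨(MulEquiv.ofBijective (fhom n) (fhom_bijective n)).symm⟩, ?_⟩
  intro i
  show (MulEquiv.ofBijective (fhom n) (fhom_bijective n)).symm.symm (PresentedGroup.of i) = _
  rw [MulEquiv.symm_symm]
  exact fhom_simple n i

end Cfsg.Agent.S2530
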