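import Cfsg.Statements.S3209

import Cfsg.Agent.S0809
set_option autoImplicit false
open Cfsg

namespace Cfsg.Agent.S3209


open Cfsg.Agent.Lib.helper15 Cfsg.Agent.S0809

section Helpers

variable {G : Type*} [Group G] {F : Type*} [Field F] [Fintype F]

theorem two_ne_zero_of_odd (hF : Odd (Fintype.card F)) : (2 : F) ≠ 0 := by
  intro h
  have : CharP F 2 := CharTwo.of_one_ne_zero_of_two_eq_zero one_ne_zero h
  obtain ⟨n, _, hn⟩ := FiniteField.card F 2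
  have h3 : 2 ∣ Fintype.card F := by
    rw [hn]
    exact dvd_pow_self 2 n.ne_zero
  have := Nat.odd_iff.mp hF
  omega

theorem e_j (hF : Odd (Fintype.card F)) (L : Subgroup G)
    (e : ↥L ≃* Matrix.SpecialLinearGroup (Fin 2) F) (j : G) (hjL : j ∈ L) (hj : orderOf j = 2) :
    e ⟨j, hjL⟩ = -1 := by
  have h2 := two_ne_zero_of_odd hF
  have hjj : j * j = 1 := by
    have := pow_orderOf_eq_one j
    rw [hj, pow_two] at this
    exact this
  have h1 : e ⟨j, hjL⟩ * e ⟨j, hjL⟩ = 1 := by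
    rw [← map_mul]
    have : (⟨j, hjL⟩ : L) * ⟨j, hjL⟩ = 1 := Subtype.ext hjj
    rw [this, map_one]
  rcases sq_eq_one_imp h2 _ h1 with h | h
  · exfalso
    have h3 : (⟨j, hjL⟩ : L) = 1 := by
      apply e.injective
      rw [h, map_one]
    have h4 : j = 1 := congrArg Subtype.val h3
    rw [h4, orderOf_one] at hj
    omega
  · exact h

theorem sq_one_cases (hF : Odd (Fintype.card F)) (L : Subgroup G)
    (e : ↥L ≃* Matrix.SpecialLinearGroup (Fin 2) F) (j : G) (hjL : j ∈ L) (hj : orderOf j = 2)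
    (a : G) (haL : a ∈ L) (ha : a * a = 1) : a = 1 ∨ a = j := by
  have h2 := two_ne_zero_of_odd hF
  have h1 : e ⟨a, haL⟩ * e ⟨a, haL⟩ = 1 := by
    rw [← map_mul]
    have : (⟨a, haL⟩ : L) * ⟨a, haL⟩ = 1 := Subtype.ext ha
    rw [this, map_one]
  rcases sq_eq_one_imp h2 _ h1 with h | h
  · left
    have h3 : (⟨a, haL⟩ : L) = 1 := by
      apply e.injective
      rw [h, map_one]
    exact congrArg Subtype.val h3
  · right
    have h3 : (⟨a, haL⟩ : L) = ⟨j, hjL⟩ := by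
      apply e.injective
      rw [h, e_j hF L e j hjL hj]
    exact congrArg Subtype.val h3

theorem exists_sqrt_j (hF : Odd (Fintype.card F)) (L : Subgroup G)
    (e : ↥L ≃* Matrix.SpecialLinearGroup (Fin 2) F) (j : G) (hjL : j ∈ L) (hj : orderOf j = 2) :
    ∃ w ∈ L, w * w = j := by
  have hdW : (!![0, -1; 1, 0] : Matrix (Fin 2) (Fin 2) F).det = 1 := by
    simp [Matrix.det_fin_two]
  have hWW : mkSL !![0, -1; 1, 0] hdW * mkSL !![0, -1; 1, 0] hdW = (-1 : Matrix.SpecialLinearGroup (Fin 2) F) := by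
    apply Subtype.ext
    rw [Matrix.SpecialLinearGroup.coe_mul, mkSL_coe, Matrix.SpecialLinearGroup.coe_neg,
      Matrix.SpecialLinearGroup.coe_one, Matrix.mul_fin_two, Matrix.one_fin_two]
    simp
  refine ⟨(e.symm (mkSL _ hdW) : L), (e.symm (mkSL _ hdW)).2, ?_⟩
  have h1 : e.symm (mkSL _ hdW) * e.symm (mkSL _ hdW) = (⟨j, hjL⟩ : L) := by
    apply e.injective
    rw [map_mul, e.apply_symm_apply, hWW, e_j hF L e j hjL hj]
  exact congrArg Subtype.val h1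

theorem conj_sqrt_j (hF : Odd (Fintype.card F)) (L : Subgroup G)
    (e : ↥L ≃* Matrix.SpecialLinearGroup (Fin 2) F) (j : G) (hjL : j ∈ L) (hj : orderOf j = 2)
    (a b : G) (haL : a ∈ L) (hbL : b ∈ L) (ha : a * a = j) (hb : b * b = j) :
    ∃ g ∈ L, g * a * g⁻¹ = b := by
  have h2 := two_ne_zero_of_odd hF
  have hodd : Fintype.card F % 2 = 1 := Nat.odd_iff.mp hF
  have hA : e ⟨a, haL⟩ * e ⟨a, haL⟩ = -1 := by
    rw [← map_mul, ← e_j hF L e j hjL hj]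
    congr 1
    exact Subtype.ext ha
  have hB : e ⟨b, hbL⟩ * e ⟨b, hbL⟩ = -1 := by
    rw [← map_mul, ← e_j hF L e j hjL hj]
    congr 1
    exact Subtype.ext hb
  obtain ⟨P, hP⟩ := conj_of_trace_zero hodd h2 _ _ (trace_zero_of_sq _ hA) (trace_zero_of_sq _ hB)
  refine ⟨(e.symm P : L), (e.symm P).2, ?_⟩
  have h1 : e.symm P * ⟨a, haL⟩ * (e.symm P)⁻¹ = (⟨b, hbL⟩ : L) := by
    apply e.injective
    rw [map_mul, map_mul, map_inv, e.apply_symm_apply, hP]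
  exact congrArg Subtype.val h1

end Helpers

/-- Let L₁ ≅ SL₂(q₁) and L₂ ≅ SL₂(q₂), q₁ and q₂ odd, be elementwise-commuting subgroups of a finite group meeting in ⟨j⟩ for an involution j. Then L₁L₂ has exactly two conjugacy classes of involutions: the central involution j, and one further class (there is an involution x ≠ j in L₁L₂, and every involution of L₁L₂ other than j is conjugate to x by an element of L₁L₂). -/
theorem result {G : Type*} [Group G] [Finite G]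
    {F₁ : Type*} [Field F₁] [Fintype F₁] {F₂ : Type*} [Field F₂] [Fintype F₂]
    (hF₁ : Odd (Fintype.card F₁)) (hF₂ : Odd (Fintype.card F₂)) (L₁ L₂ : Subgroup G)
    (e₁ : ↥L₁ ≃* Matrix.SpecialLinearGroup (Fin 2) F₁) (e₂ : ↥L₂ ≃* Matrix.SpecialLinearGroup (Fin 2) F₂)
    (hc : ∀ x ∈ L₁, ∀ y ∈ L₂, x * y = y * x) (j : G) (hj : orderOf j = 2) (hm : L₁ ⊓ L₂ = Subgroup.zpowers j) :
    ∃ x ∈ L₁ ⊔ L₂, orderOf x = 2 ∧ x ≠ j ∧
      ∀ y ∈ L₁ ⊔ L₂, orderOf y = 2 → y = j ∨ ∃ g ∈ L₁ ⊔ L₂, g * x * g⁻¹ = y := by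
  have hjm : j ∈ L₁ ⊓ L₂ := by rw [hm]; exact Subgroup.mem_zpowers j
  have hj1 : j ∈ L₁ := hjm.1
  have hj2 : j ∈ L₂ := hjm.2
  have hjj : j * j = 1 := by
    have := pow_orderOf_eq_one j
    rw [hj, pow_two] at this
    exact this
  have hjne : j ≠ 1 := by
    intro h
    rw [h, orderOf_one] at hj
    omega
  have hinter : ∀ a : G, a ∈ L₁ → a ∈ L₂ → a = 1 ∨ a = j := by
    intro a ha1 ha2
    have : a ∈ L₁ ⊓ L₂ := ⟨ha1, ha2⟩
    rw [hm, Subgroup.mem_zpowers_iff] at this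
    obtain ⟨k, rfl⟩ := this
    rw [← zpow_mod_orderOf, hj]
    have h0 : 0 ≤ k % 2 := Int.emod_nonneg _ (by norm_num)
    have h1 : k % 2 < 2 := Int.emod_lt_of_pos _ (by norm_num)
    have h2 : k % 2 = 0 ∨ k % 2 = 1 := by omega
    rcases h2 with h | h
    · left
      rw [show ((2 : ℕ) : ℤ) = 2 by norm_num, h, zpow_zero]
    · right
      rw [show ((2 : ℕ) : ℤ) = 2 by norm_num, h, zpow_one]
  obtain ⟨w₁, hw₁L, hw₁⟩ := exists_sqrt_j hF₁ L₁ e₁ j hj1 hj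
  obtain ⟨w₂, hw₂L, hw₂⟩ := exists_sqrt_j hF₂ L₂ e₂ j hj2 hj
  have hw₁ne : ¬ (w₁ = 1 ∨ w₁ = j) := by
    rintro (h | h)
    · rw [h, one_mul] at hw₁
      exact hjne hw₁.symm
    · rw [h, hjj] at hw₁
      exact hjne hw₁.symm
  have hxx : (w₁ * w₂) * (w₁ * w₂) = 1 := by
    calc (w₁ * w₂) * (w₁ * w₂) = w₁ * (w₂ * w₁) * w₂ := by group
      _ = w₁ * (w₁ * w₂) * w₂ := by rw [hc w₁ hw₁L w₂ hw₂L]
      _ = (w₁ * w₁) * (w₂ * w₂) := by group
      _ = 1 := by rw [hw₁, hw₂, hjj]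
  have hsup : ∀ a ∈ L₁, ∀ b ∈ L₂, a * b ∈ L₁ ⊔ L₂ := fun a ha b hb =>
    Subgroup.mul_mem _ (Subgroup.mem_sup_left ha) (Subgroup.mem_sup_right hb)
  refine ⟨w₁ * w₂, hsup w₁ hw₁L w₂ hw₂L, ?_, ?_, ?_⟩
  · apply orderOf_eq_prime
    · rw [pow_two]
      exact hxx
    · intro h
      apply hw₁ne
      have hw₁eq : w₁ = w₂⁻¹ := eq_inv_of_mul_eq_one_left h
      exact hinter w₁ hw₁L (by rw [hw₁eq]; exact Subgroup.inv_mem _ hw₂L)
  · intro h
    apply hw₁ne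
    have hw₁eq : w₁ = j * w₂⁻¹ := by
      rw [← h]
      group
    exact hinter w₁ hw₁L (by rw [hw₁eq]; exact Subgroup.mul_mem _ hj2 (Subgroup.inv_mem _ hw₂L))
  · intro y hy hyord
    have hnorm : L₁ ≤ Subgroup.normalizer (L₂ : Set G) := by
      intro a ha
      rw [Subgroup.mem_normalizer_iff]
      intro b
      constructor
      · intro hb
        have : a * b * a⁻¹ = b := by rw [hc a ha b hb]; group
        rw [this]
        exact hb
      · intro hb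
        have h1 : a⁻¹ * (a * b * a⁻¹) = (a * b * a⁻¹) * a⁻¹ :=
          hc a⁻¹ (Subgroup.inv_mem _ ha) _ hb
        have h2 : b = a * b * a⁻¹ := by
          have e1 : a⁻¹ * (a * b * a⁻¹) = b * a⁻¹ := by group
          rw [e1] at h1
          exact mul_right_cancel h1
        rw [h2]
        exact hb
    have hset := Subgroup.coe_mul_of_left_le_normalizer_right L₁ L₂ hnorm
    have hy' : y ∈ ((L₁ ⊔ L₂ : Subgroup G) : Set G) := hy
    rw [hset, Set.mem_mul] at hy'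
    obtain ⟨y₁, hy₁, y₂, hy₂, rfl⟩ := hy'
    have hy₁' : y₁ ∈ L₁ := hy₁
    have hy₂' : y₂ ∈ L₂ := hy₂
    have hyy : (y₁ * y₂) * (y₁ * y₂) = 1 := by
      have := pow_orderOf_eq_one (y₁ * y₂)
      rw [hyord, pow_two] at this
      exact this
    have hyy' : (y₁ * y₁) * (y₂ * y₂) = 1 := by
      calc (y₁ * y₁) * (y₂ * y₂) = y₁ * (y₁ * y₂) * y₂ := by group
        _ = y₁ * (y₂ * y₁) * y₂ := by rw [hc y₁ hy₁' y₂ hy₂']
        _ = (y₁ * y₂) * (y₁ * y₂) := by group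
        _ = 1 := hyy
    have h11 : y₁ * y₁ = (y₂ * y₂)⁻¹ := eq_inv_of_mul_eq_one_left hyy'
    have hcase := hinter (y₁ * y₁) (Subgroup.mul_mem _ hy₁' hy₁')
      (by rw [h11]; exact Subgroup.inv_mem _ (Subgroup.mul_mem _ hy₂' hy₂'))
    have hyne : y₁ * y₂ ≠ 1 := by
      intro h
      rw [h, orderOf_one] at hyord
      omega
    rcases hcase with h | h
    · left
      have h22 : y₂ * y₂ = 1 := by
        rw [h, one_mul] at hyy'
        exact hyy'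
      rcases sq_one_cases hF₁ L₁ e₁ j hj1 hj y₁ hy₁' h with ha | ha <;>
        rcases sq_one_cases hF₂ L₂ e₂ j hj2 hj y₂ hy₂' h22 with hb | hb
      · rw [ha, hb, one_mul] at hyne
        exact absurd rfl hyne
      · rw [ha, hb, one_mul]
      · rw [ha, hb, mul_one]
      · rw [ha, hb, hjj] at hyne
        exact absurd rfl hyne
    · right
      have h22 : y₂ * y₂ = j := by
        rw [h] at hyy'
        have : y₂ * y₂ = j⁻¹ := eq_inv_of_mul_eq_one_right hyy'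
        rw [this]
        exact inv_eq_of_mul_eq_one_right hjj
      obtain ⟨g₁, hg₁L, hg₁⟩ := conj_sqrt_j hF₁ L₁ e₁ j hj1 hj w₁ y₁ hw₁L hy₁' hw₁ h
      obtain ⟨g₂, hg₂L, hg₂⟩ := conj_sqrt_j hF₂ L₂ e₂ j hj2 hj w₂ y₂ hw₂L hy₂' hw₂ h22
      refine ⟨g₁ * g₂, hsup g₁ hg₁L g₂ hg₂L, ?_⟩
      have c1 : g₂ * w₁ = w₁ * g₂ := (hc w₁ hw₁L g₂ hg₂L).symm
      have c2 : g₂⁻¹ * g₁⁻¹ = g₁⁻¹ * g₂⁻¹ :=
        (hc g₁⁻¹ (Subgroup.inv_mem _ hg₁L) g₂⁻¹ (Subgroup.inv_mem _ hg₂L)).symm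
      have c3 : (g₂ * w₂ * g₂⁻¹) * g₁⁻¹ = g₁⁻¹ * (g₂ * w₂ * g₂⁻¹) :=
        (hc g₁⁻¹ (Subgroup.inv_mem _ hg₁L) _
          (Subgroup.mul_mem _ (Subgroup.mul_mem _ hg₂L hw₂L) (Subgroup.inv_mem _ hg₂L))).symm
      calc g₁ * g₂ * (w₁ * w₂) * (g₁ * g₂)⁻¹
          = g₁ * (g₂ * w₁) * w₂ * (g₂⁻¹ * g₁⁻¹) := by group
        _ = g₁ * (w₁ * g₂) * w₂ * (g₂⁻¹ * g₁⁻¹) := by rw [c1]
        _ = g₁ * w₁ * ((g₂ * w₂ * g₂⁻¹) * g₁⁻¹) := by group
        _ = g₁ * w₁ * (g₁⁻¹ * (g₂ * w₂ * g₂⁻¹)) := by rw [c3]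
        _ = (g₁ * w₁ * g₁⁻¹) * (g₂ * w₂ * g₂⁻¹) := by group
        _ = y₁ * y₂ := by rw [hg₁, hg₂]

end Cfsg.Agent.S3209
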