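import Cfsg.Statements.S1754

set_option autoImplicit false
open Cfsg

namespace Cfsg.Agent.S1754

theorem quasisimple_of_mulEquiv {H H' : Type*} [Group H] [Group H'] (e : H ≃* H')
    (h : Cfsg.IsQuasisimple H) : Cfsg.IsQuasisimple H' := by
  obtain ⟨hp, hs⟩ := h
  refine ⟨?_, ?_⟩
  · have := hp
    exact Group.IsPerfect.ofSurjective (f := e.toMonoidHom) e.surjective
  · have hc : (Subgroup.center H).map e.toMonoidHom = Subgroup.center H' := by
      ext x
      simp only [Subgroup.mem_map, Subgroup.mem_center_iff, MulEquiv.coe_toMonoidHom]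
      constructor
      · rintro ⟨y, hy, rfl⟩ g
        obtain ⟨g', rfl⟩ := e.surjective g
        rw [← map_mul, ← map_mul, hy g']
      · intro hx
        refine ⟨e.symm x, fun g => ?_, by simp⟩
        apply e.injective
        simp only [map_mul, MulEquiv.apply_symm_apply]
        exact hx (e g)
    have e' : H ⧸ Subgroup.center H ≃* H' ⧸ Subgroup.center H' :=
      QuotientGroup.congr (Subgroup.center H) (Subgroup.center H') e hc
    have := hs
    exact MulEquiv.isSimpleGroup e'.symm

theorem result {G : Type*} [Group G] [Finite G]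
    (A : Subgroup G) (hA : Cfsg.IsStandardSubgroup A) (t : G) (ht : orderOf t = 2) (htA : t ∈ Subgroup.centralizer (A : Set G)) :
    Subgroup.centralizer ({t} : Set G) ≤ Subgroup.normalizer (A : Set G) ∧
      Cfsg.IsComponent (A.subgroupOf (Subgroup.centralizer ({t} : Set G))) := by
  obtain ⟨hq, ⟨_, htight⟩, _, hN⟩ := hA
  have h1 : Subgroup.centralizer ({t} : Set G) ≤ Subgroup.normalizer (A : Set G) := by
    intro g hg
    rw [hN]
    by_contra hcon
    have hodd := htight g hcon
    have hgt : g * t = t * g := (Subgroup.mem_centralizer_singleton_iff.mp hg)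
    have htmem : t ∈ Subgroup.centralizer (A : Set G) ⊓
        (Subgroup.centralizer (A : Set G)).map (MulAut.conj g).toMonoidHom := by
      refine ⟨htA, ?_⟩
      refine ⟨t, htA, ?_⟩
      simp only [MulEquiv.coe_toMonoidHom, MulAut.conj_apply]
      rw [hgt, mul_assoc, mul_inv_cancel, mul_one]
    have hdvd : 2 ∣ Nat.card ↥(Subgroup.centralizer (A : Set G) ⊓
        (Subgroup.centralizer (A : Set G)).map (MulAut.conj g).toMonoidHom) := by
      have := Subgroup.orderOf_dvd_natCard _ htmem
      rwa [ht] at this
    exact (Nat.not_even_iff_odd.mpr hodd) (even_iff_two_dvd.mpr hdvd)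
  have hle : A ≤ Subgroup.centralizer ({t} : Set G) := by
    intro a ha
    rw [Subgroup.mem_centralizer_singleton_iff]
    have := (Subgroup.mem_centralizer_iff.mp htA) a ha
    exact this
  refine ⟨h1, ?_, ?_⟩
  · have hnorm : (A.subgroupOf (Subgroup.centralizer ({t} : Set G))).Normal :=
      (Subgroup.normal_subgroupOf_iff_le_normalizer hle).mpr h1
    exact hnorm.isSubnormal
  · exact quasisimple_of_mulEquiv (Subgroup.subgroupOfEquivOfLe hle).symm hq

end Cfsg.Agent.S1754
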