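import Cfsg.Statements.S0051
import Cfsg.Agent.Lib.Helper1.Crossed

set_option autoImplicit false
open Cfsg
open Cfsg.Agent.Lib.Helper1

namespace Cfsg.Agent.S0051

/-- Gaschütz's Theorem, existence: an abelian normal subgroup K that is complemented inside a subgroup U ≥ K whose index is coprime to the order of K is complemented in the whole group. -/
theorem result {G : Type*} [Group G] [Finite G] (K U : Subgroup G) [K.Normal] [IsMulCommutative K]
    (hKU : K ≤ U) (hcop : (Nat.card K).Coprime U.index)
    (A : Subgroup G) (hAU : A ≤ U) (hAK : A ⊓ K = ⊥) (hKA : K ⊔ A = U) :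
    ∃ H : Subgroup G, Subgroup.IsComplement' K H := by
  obtain ⟨π, hπ, hπ1, -⟩ := exists_crossed_of_complement (K := K) (U := U) A hAK hKA
  have hπK : ∀ k : K, π k = k := fun k => by simpa using hπ1 k 1 A.one_mem
  obtain ⟨δ, hδ, hδK⟩ := exists_corestriction hKU hπ hπK
  have hδ2 := hδ.zpow ((Nat.card K).gcdB U.index)
  obtain ⟨H, hH, -⟩ := exists_complement_of_crossed hδ2 (fun k => by
    show δ k ^ _ = k
    rw [hδK]
    exact (powCoprime hcop).left_inv k)
  exact ⟨H, hH⟩

end Cfsg.Agent.S0051
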