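import Cfsg.Statements.S3738
import Cfsg.Agent.Lib.Helper20.ThreeOnTwo
import Cfsg.Agent.S3736

set_option autoImplicit false
open Cfsg

namespace Cfsg.Agent.S3738

open Cfsg.Agent.Lib.Helper20 Cfsg.Agent.Lib.Lead
open scoped commutatorElement


/-- Let d be a non-identity 3-element of a finite group and P a 2-subgroup normalized by d on which ⟨d⟩ acts faithfully (no non-identity power of d centralizes P) and without non-identity fixed points (C_P(d) = 1). If every abelian subgroup of P has 2-rank at most 2, then d has order 3. -/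
theorem result {X : Type*} [Group X] [Finite X] (d : X) (n : ℕ) (hn : 1 ≤ n) (hd : orderOf d = 3 ^ n) (P : Subgroup X) (hP : IsPGroup 2 P) (hdP : d ∈ Subgroup.normalizer (P : Set X)) (hfaith : Subgroup.zpowers d ⊓ Subgroup.centralizer (P : Set X) = ⊥) (hfpf : P ⊓ Subgroup.centralizer {d} = ⊥) (hrank : ∀ V : Subgroup X, V ≤ P → IsMulCommutative V → Cfsg.PRankLE 2 2 V) : orderOf d = 3 := by
  classical
  by_contra hne
  have hn2 : 2 ≤ n := by
    rcases Nat.lt_or_ge n 2 with h | h
    · exfalso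
      have : n = 1 := by omega
      rw [this, pow_one] at hd
      exact hne hd
    · exact h
  haveI : Fact (Nat.Prime 2) := ⟨Nat.prime_two⟩
  have h9 : 9 ∣ 3 ^ n := by
    have : (3 : ℕ) ^ 2 ∣ 3 ^ n := pow_dvd_pow 3 hn2
    simpa using this
  set D : Subgroup X := Subgroup.zpowers d with hD
  set d₀ : X := d ^ 3 ^ (n - 1) with hd₀
  set D₀ : Subgroup X := Subgroup.zpowers d₀ with hD₀
  have hDcard : Nat.card D = 3 ^ n := by rw [hD, Nat.card_zpowers, hd]
  have hd₀ord : orderOf d₀ = 3 := by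
    rw [hd₀, orderOf_pow_of_dvd (by positivity) (by rw [hd]; exact pow_dvd_pow 3 (by omega)), hd,
      Nat.pow_div (by omega) (by norm_num)]
    have : n - (n - 1) = 1 := by omega
    rw [this, pow_one]
  have hD₀card : Nat.card D₀ = 3 := by rw [hD₀, Nat.card_zpowers, hd₀ord]
  have hd₀D : d₀ ∈ D := Subgroup.pow_mem _ (Subgroup.mem_zpowers d) _
  have hD₀D : D₀ ≤ D := by rw [hD₀, Subgroup.zpowers_le]; exact hd₀D
  have hDcomm : ∀ a ∈ D, ∀ b ∈ D, a * b = b * a := by
    intro a ha b hb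
    obtain ⟨i, rfl⟩ := Subgroup.mem_zpowers_iff.mp ha
    obtain ⟨j, rfl⟩ := Subgroup.mem_zpowers_iff.mp hb
    exact (Commute.refl d).zpow_zpow i j
  have hDP : D ≤ Subgroup.normalizer (P : Set X) := by rw [hD, Subgroup.zpowers_le]; exact hdP
  have hDn : D ≤ Subgroup.normalizer (D₀ : Set X) := by
    refine le_trans ?_ (Subgroup.centralizer_le_normalizer _)
    intro a ha
    rw [Subgroup.mem_centralizer_iff]
    intro b hb
    exact hDcomm b (hD₀D hb) a ha
  have hcop : (Nat.card D₀).Coprime 2 := by rw [hD₀card]; decide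
  -- D₀ acts nontrivially on P
  have hntP : ⁅P, D₀⁆ ≠ ⊥ := by
    intro h
    rw [Subgroup.commutator_eq_bot_iff_le_centralizer] at h
    have h1 : D₀ ≤ Subgroup.centralizer (P : Set X) := Subgroup.le_centralizer_iff.mp h
    have h2 : d₀ ∈ Subgroup.zpowers d ⊓ Subgroup.centralizer (P : Set X) :=
      ⟨hd₀D, h1 (Subgroup.mem_zpowers d₀)⟩
    rw [hfaith, Subgroup.mem_bot] at h2
    rw [h2, orderOf_one] at hd₀ord
    omega
  -- minimal D-invariant subgroup on which D₀ acts nontrivially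
  let 𝒮 : Set (Subgroup X) := {U | U ≤ P ∧ D ≤ Subgroup.normalizer (U : Set X) ∧ ⁅U, D₀⁆ ≠ ⊥}
  have hfin : 𝒮.Finite := Set.toFinite _
  have hne𝒮 : 𝒮.Nonempty := ⟨P, le_rfl, hDP, hntP⟩
  obtain ⟨P₀, hP₀𝒮, hP₀min⟩ := hfin.exists_minimal hne𝒮
  obtain ⟨hP₀P, hDP₀, hnt⟩ := hP₀𝒮
  have hP₀ : IsPGroup 2 P₀ := hP.to_le hP₀P
  have hmin : ∀ U : Subgroup X, U < P₀ → D ≤ Subgroup.normalizer (U : Set X) → ⁅U, D₀⁆ = ⊥ := by
    intro U hlt hN
    by_contra hne'
    have hmem : U ∈ 𝒮 := ⟨hlt.le.trans hP₀P, hN, hne'⟩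
    exact (not_le_of_gt hlt) (hP₀min hmem hlt.le)
  obtain ⟨hPA, hstruct, _, _⟩ := Cfsg.Agent.S3736.result D D₀ P₀ hP₀ hDP₀ hD₀D hDn hcop hnt hmin
  -- Frattini data
  have hP₀ne : P₀ ≠ ⊥ := by
    intro h
    apply hnt
    rw [h]; exact Subgroup.commutator_bot_left D₀
  haveI : Nontrivial P₀ := (Subgroup.nontrivial_iff_ne_bot P₀).mpr hP₀ne
  set Φ' : Subgroup X := (frattini ↥P₀).map P₀.subtype with hΦ'
  have hinj : Function.Injective (Subgroup.map P₀.subtype) :=
    Subgroup.map_injective P₀.subtype_injective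
  have htop : (⊤ : Subgroup P₀).map P₀.subtype = P₀ := by
    rw [← MonoidHom.range_eq_map, Subgroup.range_subtype]
  have hΦle : Φ' ≤ P₀ := Subgroup.map_subtype_le _
  have hΦlt : Φ' < P₀ := by
    refine lt_of_le_of_ne hΦle ?_
    intro he
    exact Cfsg.Agent.Lib.Helper5.h5_frattini_ne_top_of_nontrivial (hinj (he.trans htop.symm))
  have hDΦ : D ≤ Subgroup.normalizer (Φ' : Set X) :=
    le_normalizer_map_characteristic P₀ D hDP₀ (frattini ↥P₀)
  have hcommΦ : ⁅P₀, P₀⁆ ≤ Φ' := by
    rw [← Subgroup.map_subtype_commutator]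
    exact Subgroup.map_mono (Cfsg.Agent.Lib.Helper1.pgroup_commutator_le_frattini hP₀)
  have hCA : P₀ ⊓ Subgroup.centralizer (D₀ : Set X) ≤ Φ' :=
    hh_fixed_le D₀ P₀ Φ' hP₀ (hD₀D.trans hDP₀) hcommΦ hPA hcop
  -- semiregularity
  have hfree : ∀ g ∈ D, g ≠ 1 → ∀ x ∈ P₀, x ∉ Φ' → g * x * g⁻¹ ≠ x := by
    intro g hg hg1 x hx hxΦ heq
    have hgx : Commute g x := by
      have : g * x = x * g := by
        calc g * x = g * x * g⁻¹ * g := by group
          _ = x * g := by rw [heq]
      exact this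
    have hdvd : orderOf g ∣ 3 ^ n := by
      rw [← hDcard]
      have := orderOf_dvd_natCard (⟨g, hg⟩ : D)
      rwa [Subgroup.orderOf_mk] at this
    obtain ⟨i, hi, hgi⟩ := (Nat.dvd_prime_pow Nat.prime_three).mp hdvd
    have hi0 : i ≠ 0 := by
      rintro rfl
      rw [pow_zero, orderOf_eq_one_iff] at hgi
      exact hg1 hgi
    set h := g ^ 3 ^ (i - 1) with hh
    have hhord : orderOf h = 3 := by
      rw [hh, orderOf_pow_of_dvd (by positivity) (by rw [hgi]; exact pow_dvd_pow 3 (by omega)), hgi,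
        Nat.pow_div (by omega) (by norm_num)]
      have : i - (i - 1) = 1 := by omega
      rw [this, pow_one]
    have hhD : h ∈ D := Subgroup.pow_mem _ hg _
    have hh3 : h ^ 3 = 1 := by rw [← hhord]; exact pow_orderOf_eq_one h
    have hhD₀ : h ∈ D₀ := mem_zpowers_pow_of_pow_three d n hn hd h hhD hh3
    have hhx : Commute h x := hgx.pow_left _
    have hzh : Subgroup.zpowers h = D₀ := by
      apply Subgroup.eq_of_le_of_card_ge
      · rw [Subgroup.zpowers_le]; exact hhD₀
      · rw [hD₀card, Nat.card_zpowers, hhord]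
    have hxC : x ∈ Subgroup.centralizer (D₀ : Set X) := by
      rw [Subgroup.mem_centralizer_iff]
      intro y hy
      rw [SetLike.mem_coe, ← hzh] at hy
      obtain ⟨k, rfl⟩ := Subgroup.mem_zpowers_iff.mp hy
      exact (hhx.zpow_left k).eq
    exact hxΦ (hCA ⟨hx, hxC⟩)
  have hdiv : 3 ^ n ∣ Nat.card P₀ - Nat.card Φ' := by
    rw [← hDcard]
    exact card_dvd_sub_of_semiregular D P₀ Φ' hDP₀ hDΦ hΦle hfree
  have hcardlt : Nat.card Φ' < Nat.card P₀ := card_lt_card_of_lt hΦlt
  rcases hstruct with ⟨hab, hexp⟩ | ⟨_, hfc, hcc⟩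
  · -- elementary abelian case
    have hcomm : ∀ a ∈ P₀, ∀ b ∈ P₀, a * b = b * a := by
      intro a ha b hb
      exact congrArg Subtype.val (hab.is_comm.comm ⟨a, ha⟩ ⟨b, hb⟩)
    have h4 := card_le_four_of_elemAb P hrank P₀ hP₀P hcomm hexp
    have h5 : 9 ∣ Nat.card P₀ - Nat.card Φ' := h9.trans hdiv
    have h6 := Nat.le_of_dvd (by omega) h5
    omega
  · -- special case
    have hZeq : (Subgroup.center ↥P₀).map P₀.subtype = Φ' := by rw [hΦ', hfc]
    have hZc : Φ' ≤ Subgroup.centralizer (P₀ : Set X) := by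
      rw [← hZeq]
      rintro _ ⟨w, hw, rfl⟩
      rw [Subgroup.mem_centralizer_iff]
      intro g hg
      exact congrArg Subtype.val ((Subgroup.mem_center_iff.mp hw) ⟨g, hg⟩)
    have hcommZ : ⁅P₀, P₀⁆ = Φ' := by
      rw [← Subgroup.map_subtype_commutator, hcc, hZeq]
    have hsq : ∀ g ∈ P₀, g ^ 2 ∈ Φ' := by
      intro g hg
      refine ⟨⟨g, hg⟩ ^ 2, Cfsg.Agent.Lib.Helper1.pgroup_pow_mem_frattini hP₀ _, ?_⟩
      simp
    have hcen : ∀ w ∈ Φ', ∀ g ∈ P₀, g * w = w * g := by
      intro w hw g hg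
      exact (Subgroup.mem_centralizer_iff.mp (hZc hw)) g hg
    -- exponent 2
    have hZ2 : ∀ w ∈ Φ', w ^ 2 = 1 := by
      let Ω : Subgroup X :=
        { carrier := {w | w ∈ Φ' ∧ w ^ 2 = 1}
          mul_mem' := by
            rintro a b ⟨ha, ha2⟩ ⟨hb, hb2⟩
            refine ⟨Φ'.mul_mem ha hb, ?_⟩
            have : Commute a b := (hcen b hb a (hΦle ha))
            rw [this.mul_pow, ha2, hb2, one_mul]
          one_mem' := ⟨Φ'.one_mem, one_pow _⟩
          inv_mem' := by
            rintro a ⟨ha, ha2⟩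
            exact ⟨Φ'.inv_mem ha, by rw [inv_pow, ha2, inv_one]⟩ }
      have hΩ : ⁅P₀, P₀⁆ ≤ Ω := by
        rw [Subgroup.commutator_le]
        intro g hg h hh
        have hc : ⁅g, h⁆ ∈ Φ' := hcommΦ (Subgroup.commutator_mem_commutator hg hh)
        refine ⟨hc, ?_⟩
        have e : ⁅g * g, h⁆ = g * ⁅g, h⁆ * g⁻¹ * ⁅g, h⁆ := by
          simp only [commutatorElement_def]; group
        have e2 : ⁅g * g, h⁆ = 1 := by
          rw [commutatorElement_eq_one_iff_commute]
          have := hsq g hg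
          rw [pow_two] at this
          exact (hcen _ this h hh).symm
        rw [hcen _ hc g hg, mul_inv_cancel_right, e2] at e
        rw [pow_two]; exact e.symm
      intro w hw
      rw [← hcommZ] at hw
      exact (hΩ hw).2
    have hΦP : Φ' ≤ P := hΦle.trans hP₀P
    have hZ4le : Nat.card Φ' ≤ 4 :=
      card_le_four_of_elemAb P hrank Φ' hΦP (fun a ha b hb => hcen b hb a (hΦle ha)) hZ2
    have hmod : Nat.card Φ' ≡ 1 [MOD 3] := by
      apply card_modEq_one_of_no_fixed D Φ' n hDcard hDΦ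
      intro w hw hfix
      have h1 := hfix d (Subgroup.mem_zpowers d)
      have h2 : w ∈ P ⊓ Subgroup.centralizer {d} := by
        refine ⟨hΦP hw, ?_⟩
        show w ∈ Subgroup.centralizer {d}
        rw [Subgroup.mem_centralizer_iff]
        intro y hy
        rw [Set.mem_singleton_iff] at hy
        rw [hy]
        calc d * w = d * w * d⁻¹ * d := by group
          _ = w * d := by rw [h1]
      rw [hfpf, Subgroup.mem_bot] at h2
      exact h2
    have hΦne : Φ' ≠ ⊥ := by
      intro h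
      rw [h] at hcommZ
      have h1 : IsMulCommutative P₀ := Subgroup.commutator_self_eq_bot_iff.mp hcommZ
      have h2 : Subgroup.center ↥P₀ = ⊤ := Subgroup.center_eq_top_iff.mpr h1
      rw [h2, htop] at hZeq
      exact hP₀ne (hZeq.trans h)
    obtain ⟨j, hj⟩ := IsPGroup.iff_card.mp (hP₀.to_le hΦle)
    have hZ4 : Nat.card Φ' = 4 := by
      have hj2 : j ≤ 2 := by
        by_contra hcon
        push Not at hcon
        have : 2 ^ 3 ≤ 2 ^ j := Nat.pow_le_pow_right (by norm_num) hcon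
        omega
      have hj0 : j ≠ 0 := by
        rintro rfl
        rw [pow_zero] at hj
        exact hΦne (Subgroup.card_eq_one.mp hj)
      have hj12 : j = 1 ∨ j = 2 := by omega
      rcases hj12 with rfl | rfl
      · rw [hj] at hmod; exact absurd hmod (by decide)
      · rw [hj]; norm_num
    -- involutions central
    have hinv : ∀ g ∈ P₀, g ^ 2 = 1 → g ∈ Φ' := by
      intro g hg hg2
      by_contra hgΦ
      set K : Set X := (Φ' : Set X) ∪ {g} with hK
      have hKcomm : ∀ a ∈ K, ∀ b ∈ K, a * b = b * a := by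
        rintro a (ha | ha) b (hb | hb)
        · exact hcen b hb a (hΦle ha)
        · rw [Set.mem_singleton_iff] at hb; rw [hb]; exact (hcen a ha g hg).symm
        · rw [Set.mem_singleton_iff] at ha; rw [ha]; exact hcen b hb g hg
        · rw [Set.mem_singleton_iff] at ha hb; rw [ha, hb]
      have hKsq : ∀ a ∈ K, a ^ 2 = 1 := by
        rintro a (ha | ha)
        · exact hZ2 a ha
        · rw [Set.mem_singleton_iff] at ha; rw [ha]; exact hg2
      obtain ⟨hEc, hE2⟩ := elemAb_closure K hKcomm hKsq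
      have hEP : Subgroup.closure K ≤ P := by
        rw [Subgroup.closure_le]
        rintro a (ha | ha)
        · exact hΦP ha
        · rw [Set.mem_singleton_iff] at ha; rw [ha]; exact hP₀P hg
      have hE4 := card_le_four_of_elemAb P hrank _ hEP hEc hE2
      have hlt : Φ' < Subgroup.closure K := by
        refine lt_of_le_of_ne ?_ ?_
        · intro a ha; exact Subgroup.subset_closure (Or.inl ha)
        · intro he
          apply hgΦ
          rw [he]
          exact Subgroup.subset_closure (Or.inr rfl)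
      have := card_lt_card_of_lt hlt
      omega
    have h128 := card_le_of_involutions_central P₀ Φ' hΦle hZc hcommΦ hsq hZ2 hZ4 hinv
    obtain ⟨k, hk⟩ := IsPGroup.iff_card.mp hP₀
    have h5 : 9 ∣ Nat.card P₀ - Nat.card Φ' := h9.trans hdiv
    rw [hZ4, hk] at h5
    rw [hZ4, hk] at hcardlt
    rw [hk] at h128
    have hk7 : k ≤ 7 := by
      by_contra hcon
      push Not at hcon
      have : 2 ^ 8 ≤ 2 ^ k := Nat.pow_le_pow_right (by norm_num) hcon
      omega
    interval_cases k <;> omega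

end Cfsg.Agent.S3738
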