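import Cfsg.Statements.S4216
import Cfsg.Agent.Lib.Helper13.FamilyCtl

set_option autoImplicit false
open Cfsg

namespace Cfsg.Agent.S4216

open Cfsg.Agent.Lib.Helper13
open scoped commutatorElement

section
variable {G : Type*} [Group G]

/-- the Grün subgroup -/
def grunD (P : Subgroup G) : Subgroup G :=
  (P ⊓ ⁅Subgroup.normalizer (P : Set G), Subgroup.normalizer (P : Set G)⁆) ⊔
    ⨆ z : G, P ⊓ (⁅P, P⁆).map (MulAut.conj z).toMonoidHom

theorem conj_mem_of_mem_normalizer {T : Subgroup G} {u t : G}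
    (hu : u ∈ Subgroup.normalizer (T : Set G)) (ht : t ∈ T) : u⁻¹ * t * u ∈ T := by
  have := (Subgroup.mem_normalizer_iff.mp (Subgroup.inv_mem _ hu) t).mp ht
  simpa using this

theorem conj_mem_of_mem_normalizer' {T : Subgroup G} {u t : G}
    (hu : u ∈ Subgroup.normalizer (T : Set G)) (ht : t ∈ T) : u * t * u⁻¹ ∈ T :=
  (Subgroup.mem_normalizer_iff.mp hu t).mp ht

/-- elements of `N(T)` acting on `T` trivially modulo `D` -/
def actTriv (T D : Subgroup G) : Subgroup G where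
  carrier := {u | u ∈ Subgroup.normalizer (T : Set G) ∧ ∀ t ∈ T, t⁻¹ * (u⁻¹ * t * u) ∈ D}
  one_mem' := by
    refine ⟨Subgroup.one_mem _, fun t _ => ?_⟩
    have : t⁻¹ * ((1 : G)⁻¹ * t * 1) = 1 := by group
    rw [this]; exact D.one_mem
  mul_mem' := by
    rintro u v ⟨hu, hu'⟩ ⟨hv, hv'⟩
    refine ⟨Subgroup.mul_mem _ hu hv, fun t ht => ?_⟩
    have e : t⁻¹ * ((u * v)⁻¹ * t * (u * v)) =
        (t⁻¹ * (u⁻¹ * t * u)) * ((u⁻¹ * t * u)⁻¹ * (v⁻¹ * (u⁻¹ * t * u) * v)) := by group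
    rw [e]
    exact D.mul_mem (hu' t ht) (hv' _ (conj_mem_of_mem_normalizer hu ht))
  inv_mem' := by
    rintro u ⟨hu, hu'⟩
    refine ⟨Subgroup.inv_mem _ hu, fun t ht => ?_⟩
    have e : t⁻¹ * (u⁻¹⁻¹ * t * u⁻¹) =
        ((u * t * u⁻¹)⁻¹ * (u⁻¹ * (u * t * u⁻¹) * u))⁻¹ := by group
    rw [e]
    exact D.inv_mem (hu' _ (conj_mem_of_mem_normalizer' hu ht))

theorem mem_actTriv {T D : Subgroup G} {u : G} : u ∈ actTriv T D ↔
    u ∈ Subgroup.normalizer (T : Set G) ∧ ∀ t ∈ T, t⁻¹ * (u⁻¹ * t * u) ∈ D := Iff.rfl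

end


section
variable {G : Type*} [Group G] [Finite G] {p : ℕ} [Fact p.Prime]

theorem rc_le_actTriv (P : Subgroup G) {T : Subgroup G} (hTP : T ≤ P) {n : G}
    (hn : n ∈ Subgroup.normalizer (T : Set G)) :
    rc (P ⊓ Subgroup.normalizer (T : Set G)) n ≤ actTriv T (grunD P) := by
  intro u hu
  rw [mem_rc] at hu
  obtain ⟨hsP, hsN⟩ := Subgroup.mem_inf.mp hu
  have huN : u ∈ Subgroup.normalizer (T : Set G) := by
    have : u = n⁻¹ * (n * u * n⁻¹) * n := by group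
    rw [this]
    exact Subgroup.mul_mem _ (Subgroup.mul_mem _ (Subgroup.inv_mem _ hn) hsN) hn
  refine mem_actTriv.mpr ⟨huN, fun t ht => ?_⟩
  have hτ : n * t * n⁻¹ ∈ T := conj_mem_of_mem_normalizer' hn ht
  have hmemT : t⁻¹ * (u⁻¹ * t * u) ∈ T :=
    T.mul_mem (T.inv_mem ht) (conj_mem_of_mem_normalizer huN ht)
  have hcomm : ⁅(n * t * n⁻¹)⁻¹, (n * u * n⁻¹)⁻¹⁆ ∈ ⁅P, P⁆ :=
    Subgroup.commutator_mem_commutator (P.inv_mem (hTP hτ)) (P.inv_mem hsP)
  have hmap : t⁻¹ * (u⁻¹ * t * u) ∈ (⁅P, P⁆).map (MulAut.conj n⁻¹).toMonoidHom := by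
    refine ⟨_, hcomm, ?_⟩
    show n⁻¹ * ⁅(n * t * n⁻¹)⁻¹, (n * u * n⁻¹)⁻¹⁆ * n⁻¹⁻¹ = _
    rw [commutatorElement_def]
    group
  have h1 : t⁻¹ * (u⁻¹ * t * u) ∈ P ⊓ (⁅P, P⁆).map (MulAut.conj n⁻¹).toMonoidHom :=
    Subgroup.mem_inf.mpr ⟨hTP hmemT, hmap⟩
  have h2 : P ⊓ (⁅P, P⁆).map (MulAut.conj n⁻¹).toMonoidHom ≤ grunD P :=
    le_trans (le_iSup (fun z : G => P ⊓ (⁅P, P⁆).map (MulAut.conj z).toMonoidHom) n⁻¹) le_sup_right
  exact h2 h1

theorem core (P : Sylow p G) (T : Subgroup G) (hTP : T ≤ (P : Subgroup G))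
    (hfn : ¬ p ∣ ((P : Subgroup G) ⊓ Subgroup.normalizer (T : Set G)).relIndex
      (Subgroup.normalizer (T : Set G)))
    (IH : ∀ R : Subgroup G, R ≤ (P : Subgroup G) → Nat.card T < Nat.card R →
      ∀ g : G, rc R g ≤ (P : Subgroup G) → ∀ a ∈ R, a⁻¹ * (g⁻¹ * a * g) ∈ grunD (P : Subgroup G)) :
    ∀ a ∈ T, ∀ x ∈ Subgroup.normalizer (T : Set G),
      a⁻¹ * (x⁻¹ * a * x) ∈ grunD (P : Subgroup G) := by
  intro a ha x hx
  have hPp : IsPGroup p (P : Subgroup G) := P.2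
  by_cases hTtop : T = (P : Subgroup G)
  · subst hTtop
    have h1 : a⁻¹ * (x⁻¹ * a * x) ∈ (P : Subgroup G) :=
      Subgroup.mul_mem _ (Subgroup.inv_mem _ ha) (conj_mem_of_mem_normalizer hx ha)
    have h2 : a⁻¹ * (x⁻¹ * a * x) ∈ ⁅Subgroup.normalizer ((P : Subgroup G) : Set G),
        Subgroup.normalizer ((P : Subgroup G) : Set G)⁆ := by
      have : a⁻¹ * (x⁻¹ * a * x) = ⁅a⁻¹, x⁻¹⁆ := by rw [commutatorElement_def]; group
      rw [this]
      exact Subgroup.commutator_mem_commutator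
        (Subgroup.inv_mem _ (Subgroup.le_normalizer ha)) (Subgroup.inv_mem _ hx)
    exact (le_sup_left : _ ≤ grunD (P : Subgroup G)) (Subgroup.mem_inf.mpr ⟨h1, h2⟩)
  · obtain ⟨N, hN⟩ : ∃ N : Subgroup G, N = Subgroup.normalizer (T : Set G) := ⟨_, rfl⟩
    obtain ⟨P₁, hP₁⟩ : ∃ P₁ : Subgroup G, P₁ = (P : Subgroup G) ⊓ N := ⟨_, rfl⟩
    rw [← hN] at hfn hx
    rw [← hP₁] at hfn
    have hgrow : Nat.card T < Nat.card P₁ := by
      rw [hP₁, hN]; exact card_lt_card_inf_normalizer hPp hTP hTtop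
    have hP₁P : P₁ ≤ (P : Subgroup G) := hP₁ ▸ inf_le_left
    have hP₁N : P₁ ≤ N := hP₁ ▸ inf_le_right
    have hTP₁ : T ≤ P₁ := by
      rw [hP₁, hN]; exact le_inf hTP Subgroup.le_normalizer
    obtain ⟨U, hU⟩ : ∃ U : Subgroup G, U = actTriv T (grunD (P : Subgroup G)) := ⟨_, rfl⟩
    have hUN : U ≤ N := by
      intro u hu
      rw [hU] at hu
      rw [hN]; exact (mem_actTriv.mp hu).1
    have h1 : P₁ ≤ U := by
      have := rc_le_actTriv (P : Subgroup G) hTP (n := 1) (Subgroup.one_mem _)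
      rw [rc_one, ← hN, ← hP₁, ← hU] at this
      exact this
    have h2 : rc P₁ x ≤ U := by
      have := rc_le_actTriv (P : Subgroup G) hTP (n := x) (hN ▸ hx)
      rw [← hN, ← hP₁, ← hU] at this
      exact this
    obtain ⟨M, hM⟩ : ∃ M : Subgroup G, M = P₁ ⊔ rc P₁ x := ⟨_, rfl⟩
    have hMU : M ≤ U := hM ▸ sup_le h1 h2
    have hP₁M : P₁ ≤ M := hM ▸ le_sup_left
    have hsylM : ¬ p ∣ P₁.relIndex M := by
      intro hdvd
      apply hfn
      rw [← Subgroup.relIndex_mul_relIndex P₁ M N hP₁M (hMU.trans hUN)]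
      exact Dvd.dvd.mul_right hdvd _
    obtain ⟨m, hmM, hle⟩ := exists_mem_cj_le_of_relIndex (p := p) hP₁M (hPp.to_le hP₁P) hsylM
      (hM ▸ le_sup_right : rc P₁ x ≤ M) (isPGroup_rc x (hPp.to_le hP₁P))
    have hmU : m ∈ U := hMU hmM
    have hmN : m ∈ N := hUN hmU
    -- y = x * m⁻¹ normalizes P₁
    have hy : rc P₁ (x * m⁻¹) ≤ P₁ := by
      rw [← rc_rc, rc_def _ m⁻¹, inv_inv]
      exact hle
    have hyN : x * m⁻¹ ∈ Subgroup.normalizer (T : Set G) := by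
      rw [← hN]; exact N.mul_mem hx (N.inv_mem hmN)
    have hIH := IH P₁ hP₁P hgrow (x * m⁻¹) (hy.trans hP₁P) a (hTP₁ ha)
    have ht' : (x * m⁻¹)⁻¹ * a * (x * m⁻¹) ∈ T := conj_mem_of_mem_normalizer hyN ha
    have hm2 := (mem_actTriv.mp (hU ▸ hmU)).2 _ ht'
    have e : a⁻¹ * (x⁻¹ * a * x) = (a⁻¹ * ((x * m⁻¹)⁻¹ * a * (x * m⁻¹))) *
        (((x * m⁻¹)⁻¹ * a * (x * m⁻¹))⁻¹ * (m⁻¹ * ((x * m⁻¹)⁻¹ * a * (x * m⁻¹)) * m)) := by group
    rw [e]
    exact Subgroup.mul_mem _ hIH hm2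

theorem theta (P : Sylow p G) : ∀ (k : ℕ) (R : Subgroup G), R ≤ (P : Subgroup G) →
    Nat.card (P : Subgroup G) - Nat.card R < k →
    ∀ g : G, rc R g ≤ (P : Subgroup G) → ∀ a ∈ R, a⁻¹ * (g⁻¹ * a * g) ∈ grunD (P : Subgroup G) := by
  intro k
  induction k with
  | zero => intro R _ h; omega
  | succ k ih =>
    intro R hRP hk g hg
    have chain := (conjChain_fullyNormalized P R hRP g hg).restrict_card
    apply chain.comm_mem
    rintro T ⟨⟨hTP, hfn⟩, hcard⟩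
    apply core P T hTP hfn
    intro R₁ hR₁P hlt
    apply ih R₁ hR₁P
    have := Subgroup.card_le_of_le hR₁P
    omega

end


/-- Grün's first Theorem: if `P` is a Sylow `p`-subgroup of the finite group `G`, then `P ∩ G'` is the subgroup generated by `P ∩ N_G(P)'` together with the subgroups `P ∩ z P' z⁻¹` for all `z ∈ G`, where `'` denotes the derived subgroup and `N_G(P)` the normalizer of `P`. -/
theorem result {G : Type*} [Group G] [Finite G] {p : ℕ} [Fact p.Prime] (P : Sylow p G) : (P : Subgroup G) ⊓ commutator G = ((P : Subgroup G) ⊓ ⁅Subgroup.normalizer ((P : Subgroup G) : Set G), Subgroup.normalizer ((P : Subgroup G) : Set G)⁆) ⊔ ⨆ z : G, (P : Subgroup G) ⊓ (⁅(P : Subgroup G), (P : Subgroup G)⁆).map (MulAut.conj z).toMonoidHom := by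
  show _ = grunD (P : Subgroup G)
  apply le_antisymm
  · have hcomm : commutator G = ⁅(⊤ : Subgroup G), ⊤⁆ := rfl
    rw [hcomm]
    apply sylow_inf_commutator_le
    intro x hx u hg
    have hux : u * x * u⁻¹ ∈ (P : Subgroup G) := by
      have h1 : u * x * u⁻¹ = (x⁻¹ * (x * u * x⁻¹ * u⁻¹))⁻¹ := by group
      rw [h1]
      exact Subgroup.inv_mem _ (Subgroup.mul_mem _ (Subgroup.inv_mem _ hx) hg)
    have hRS : Subgroup.zpowers x ≤ (P : Subgroup G) := by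
      rw [Subgroup.zpowers_le]; exact hx
    have hrc : rc (Subgroup.zpowers x) u⁻¹ ≤ (P : Subgroup G) := by
      intro y hy
      rw [mem_rc, Subgroup.mem_zpowers_iff] at hy
      obtain ⟨n, hn⟩ := hy
      have : y = (u * x * u⁻¹) ^ n := by
        rw [conj_zpow, hn]; group
      rw [this]
      exact Subgroup.zpow_mem _ hux n
    have := theta P (Nat.card (P : Subgroup G) - Nat.card (Subgroup.zpowers x) + 1)
      (Subgroup.zpowers x) hRS (Nat.lt_succ_self _) u⁻¹ hrc x⁻¹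
      (Subgroup.inv_mem _ (Subgroup.mem_zpowers x))
    have e : x⁻¹⁻¹ * (u⁻¹⁻¹ * x⁻¹ * u⁻¹) = x * u * x⁻¹ * u⁻¹ := by group
    rw [e] at this
    exact this
  · have hcomm : commutator G = ⁅(⊤ : Subgroup G), ⊤⁆ := rfl
    rw [hcomm]
    apply sup_le
    · exact inf_le_inf_left _ (Subgroup.commutator_mono le_top le_top)
    · apply iSup_le
      intro z
      apply inf_le_inf_left
      rw [Subgroup.map_commutator]
      exact Subgroup.commutator_mono le_top le_top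

end Cfsg.Agent.S4216
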