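import Cfsg.Statements.S4056
import Mathlib

set_option autoImplicit false
open Cfsg

namespace Cfsg.Agent.S4056

open scoped commutatorElement

theorem frattini_le_of_elem_ab {P : Type*} [Group P] [Finite P] (N : Subgroup P)
    (hsq : ∀ x : P, x * x ∈ N) (hcomm : ∀ x y : P, x * y * x⁻¹ * y⁻¹ ∈ N) : frattini P ≤ N := by
  intro g hg
  by_contra hgN
  have hne : Nonempty {M : Subgroup P // N ≤ M ∧ g ∉ M} := ⟨⟨N, le_rfl, hgN⟩⟩
  obtain ⟨⟨M, hNM, hgM⟩, hmax⟩ := Finite.exists_max
    (fun M : {M : Subgroup P // N ≤ M ∧ g ∉ M} => Nat.card (M : Subgroup P))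
  have hmax' : ∀ K : Subgroup P, M < K → g ∈ K := by
    intro K hMK
    by_contra hgK
    have h1 := hmax ⟨K, le_trans hNM hMK.le, hgK⟩
    have h2 : M = K := Subgroup.eq_of_le_of_card_ge hMK.le h1
    exact hMK.ne h2
  have hMn : M.Normal := by
    constructor
    intro m hm x
    have : x * m * x⁻¹ = (x * m * x⁻¹ * m⁻¹) * m := by group
    rw [this]
    exact M.mul_mem (hNM (hcomm x m)) hm
  have hcoatom : IsCoatom M := by
    constructor
    · intro h
      apply hgM
      rw [h]; exact Subgroup.mem_top _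
    · intro K hMK
      rw [eq_top_iff]
      intro v _
      by_cases hvM : v ∈ M
      · exact hMK.le hvM
      have hgK : g ∈ K := hmax' K hMK
      have hlt : M < Subgroup.zpowers v ⊔ M := by
        refine lt_of_le_of_ne le_sup_right ?_
        intro h
        apply hvM
        rw [h]
        exact Subgroup.mem_sup_left (Subgroup.mem_zpowers v)
      have hgT : g ∈ Subgroup.zpowers v ⊔ M := hmax' _ hlt
      rw [← SetLike.mem_coe, Subgroup.mul_normal] at hgT
      obtain ⟨w, hw, m, hm, hwm⟩ := Set.mem_mul.1 hgT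
      obtain ⟨k, rfl⟩ := Subgroup.mem_zpowers_iff.1 hw
      have hv2 : ∀ j : ℤ, v ^ (2 * j) ∈ M := by
        intro j
        rw [zpow_mul]
        apply Subgroup.zpow_mem
        have : v ^ (2 : ℤ) = v * v := by
          rw [show (2 : ℤ) = 1 + 1 from rfl, zpow_add, zpow_one]
        rw [this]
        exact hNM (hsq v)
      have hk : k = 2 * (k / 2) + k % 2 := (Int.mul_ediv_add_emod k 2).symm
      rcases Int.emod_two_eq_zero_or_one k with h0 | h1
      · exfalso
        apply hgM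
        rw [← hwm]
        refine M.mul_mem ?_ hm
        rw [hk, h0, add_zero]
        exact hv2 _
      · have h3 : v ^ k = v ^ (2 * (k / 2)) * v := by
          nth_rewrite 1 [hk]
          rw [h1, zpow_add, zpow_one]
        have h4 : v = (v ^ (2 * (k / 2)))⁻¹ * (g * m⁻¹) := by
          rw [← hwm, h3]; group
        rw [h4]
        exact K.mul_mem (K.inv_mem (hMK.le (hv2 _))) (K.mul_mem hgK (K.inv_mem (hMK.le hm)))
  exact hgM (frattini_le_coatom hcoatom hg)

theorem pow_mul_comm_central {P : Type*} [Group P] (x y c : P) (hc : ∀ g : P, g * c = c * g)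
    (h : x * y = c * (y * x)) (m : ℕ) : x ^ m * y = c ^ m * (y * x ^ m) := by
  induction m with
  | zero => simp
  | succ m ih =>
    have hcm : ∀ g : P, g * c ^ m = c ^ m * g := by
      intro g
      have : Commute g c := hc g
      exact (this.pow_right m).eq
    calc x ^ (m + 1) * y = x * (x ^ m * y) := by rw [pow_succ']; group
      _ = x * (c ^ m * (y * x ^ m)) := by rw [ih]
      _ = c ^ m * ((x * y) * x ^ m) := by rw [← mul_assoc x, hcm x]; group
      _ = c ^ m * ((c * (y * x)) * x ^ m) := by rw [h]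
      _ = c ^ (m + 1) * (y * x ^ (m + 1)) := by rw [pow_succ, pow_succ']; group

theorem comm_sq_eq_one {P : Type*} [Group P] (h4 : ∀ z : P, z ^ 4 = 1) (x y c : P)
    (hc : ∀ g : P, g * c = c * g) (h : x * y = c * (y * x)) : c ^ 2 = 1 := by
  have hc2 : ∀ g : P, g * c ^ 2 = c ^ 2 * g := by
    intro g
    have : Commute g c := hc g
    exact (this.pow_right 2).eq
  have hci : ∀ g : P, g * c⁻¹ = c⁻¹ * g := by
    intro g
    have : Commute g c := hc g
    exact this.inv_right.eq
  have hc2i : ∀ g : P, g * (c ^ 2)⁻¹ = (c ^ 2)⁻¹ * g := by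
    intro g
    have : Commute g (c ^ 2) := hc2 g
    exact this.inv_right.eq
  have e1 : x ^ 2 * y = c ^ 2 * (y * x ^ 2) := pow_mul_comm_central x y c hc h 2
  have e2 : y * x ^ 2 = (c ^ 2)⁻¹ * (x ^ 2 * y) := by rw [e1]; group
  have e3 : y ^ 2 * x ^ 2 = ((c ^ 2)⁻¹) ^ 2 * (x ^ 2 * y ^ 2) :=
    pow_mul_comm_central y (x ^ 2) ((c ^ 2)⁻¹) hc2i e2 2
  have e4 : ((c ^ 2)⁻¹) ^ 2 = 1 := by
    rw [inv_pow, ← pow_mul, h4, inv_one]
  rw [e4, one_mul] at e3
  have e5 : (x * y) ^ 2 = c⁻¹ * (x ^ 2 * y ^ 2) := by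
    have hyx : y * x = c⁻¹ * (x * y) := by rw [h]; group
    calc (x * y) ^ 2 = x * (y * x) * y := by rw [pow_two]; group
      _ = x * (c⁻¹ * (x * y)) * y := by rw [hyx]
      _ = c⁻¹ * (x ^ 2 * y ^ 2) := by rw [← mul_assoc x, hci x, pow_two, pow_two]; group
  have e6 : (x * y) ^ 4 = (c ^ 2)⁻¹ := by
    calc (x * y) ^ 4 = ((x * y) ^ 2) ^ 2 := by rw [← pow_mul]
      _ = (c⁻¹ * (x ^ 2 * y ^ 2)) * (c⁻¹ * (x ^ 2 * y ^ 2)) := by rw [e5, pow_two]
      _ = c⁻¹ * c⁻¹ * (x ^ 2 * (y ^ 2 * x ^ 2) * y ^ 2) := by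
          rw [mul_assoc c⁻¹ (x ^ 2 * y ^ 2), ← mul_assoc (x ^ 2 * y ^ 2) c⁻¹, hci (x ^ 2 * y ^ 2)]
          group
      _ = c⁻¹ * c⁻¹ * (x ^ 2 * (x ^ 2 * y ^ 2) * y ^ 2) := by rw [e3]
      _ = c⁻¹ * c⁻¹ * (x ^ 4 * y ^ 4) := by group
      _ = (c ^ 2)⁻¹ := by rw [h4, h4]; group
  rw [h4] at e6
  exact inv_eq_one.1 e6.symm

/-- In a finite 2-group of nilpotency class at most 2 and exponent dividing 4, the Frattini subgroup lies in the centre and is elementary abelian. -/
theorem result {P : Type*} [Group P] [Finite P] (hP : IsPGroup 2 P)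
    (hcl : Group.nilpotencyClass P ≤ 2) (hexp : Monoid.exponent P ∣ 4) :
    frattini P ≤ Subgroup.center P ∧ Cfsg.IsElementaryAbelian 2 (frattini P) := by
  have hnil : Group.IsNilpotent P := hP.isNilpotent
  have hucs : Subgroup.upperCentralSeries P 2 = ⊤ :=
    Subgroup.upperCentralSeries_eq_top_iff_nilpotencyClass_le.2 hcl
  have hcc : ∀ x y : P, x * y * x⁻¹ * y⁻¹ ∈ Subgroup.center P := by
    intro x y
    have hx : x ∈ Subgroup.upperCentralSeries P (1 + 1) := by rw [hucs]; exact Subgroup.mem_top _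
    rw [Subgroup.mem_upperCentralSeries_succ_iff] at hx
    have := hx y
    rw [Subgroup.upperCentralSeries_one, commutatorElement_def] at this
    exact this
  have h4 : ∀ x : P, x ^ 4 = 1 := by
    intro x
    obtain ⟨k, hk⟩ := hexp
    rw [hk, pow_mul, Monoid.pow_exponent_eq_one, one_pow]
  have hcsq : ∀ x y : P, (x * y * x⁻¹ * y⁻¹) ^ 2 = 1 := by
    intro x y
    apply comm_sq_eq_one h4 x y
    · exact fun g => Subgroup.mem_center_iff.1 (hcc x y) g
    · group
  have hsqc : ∀ x : P, x * x ∈ Subgroup.center P := by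
    intro x
    rw [Subgroup.mem_center_iff]
    intro y
    have e1 := pow_mul_comm_central x y (x * y * x⁻¹ * y⁻¹)
      (fun g => Subgroup.mem_center_iff.1 (hcc x y) g) (by group) 2
    rw [hcsq, one_mul, pow_two] at e1
    exact e1.symm
  set N := Subgroup.closure ({z : P | ∃ x : P, z = x * x} ∪ {z : P | ∃ x y : P, z = x * y * x⁻¹ * y⁻¹})
    with hN
  have hfN : frattini P ≤ N := by
    apply frattini_le_of_elem_ab
    · intro x
      exact Subgroup.subset_closure (Or.inl ⟨x, rfl⟩)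
    · intro x y
      exact Subgroup.subset_closure (Or.inr ⟨x, y, rfl⟩)
  have hNc : N ≤ Subgroup.center P := by
    rw [hN, Subgroup.closure_le]
    rintro z (⟨x, rfl⟩ | ⟨x, y, rfl⟩)
    · exact hsqc x
    · exact hcc x y
  have hN2 : ∀ z ∈ N, z ^ 2 = 1 := by
    intro z hz
    rw [hN] at hz
    induction hz using Subgroup.closure_induction with
    | mem z hz =>
      rcases hz with ⟨x, rfl⟩ | ⟨x, y, rfl⟩
      · rw [← pow_two, ← pow_mul]; exact h4 x
      · exact hcsq x y
    | one => simp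
    | mul a b ha hb iha ihb =>
      have hac : a ∈ Subgroup.center P := hNc (by rw [hN]; exact ha)
      have : Commute a b := (Subgroup.mem_center_iff.1 hac b).symm
      rw [this.mul_pow, iha, ihb, one_mul]
    | inv a ha iha => rw [inv_pow, iha, inv_one]
  refine ⟨le_trans hfN hNc, ?_, ?_⟩
  · refine ⟨⟨?_⟩⟩
    rintro ⟨a, ha⟩ ⟨b, hb⟩
    apply Subtype.ext
    exact (Subgroup.mem_center_iff.1 (hNc (hfN hb)) a)
  · intro a ha
    exact hN2 a (hfN ha)

end Cfsg.Agent.S4056
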