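import Cfsg.Statements.S3977
import Mathlib
import Cfsg.Agent.S4056

set_option autoImplicit false
open Cfsg

namespace Cfsg.Agent.S3977

theorem mul_pow_class_two {P : Type*} [Group P] (x y c : P) (hc : ∀ g : P, g * c = c * g)
    (h : x * y = c * (y * x)) (n : ℕ) :
    (x * y) ^ n * c ^ (n * (n - 1) / 2) = x ^ n * y ^ n := by
  have hci : ∀ g : P, g * c⁻¹ = c⁻¹ * g := by
    intro g
    have : Commute g c := hc g
    exact this.inv_right.eq
  have hyx : y * x = c⁻¹ * (x * y) := by rw [h]; group
  have hcm : ∀ (k : ℕ) (g : P), g * c ^ k = c ^ k * g := by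
    intro k g
    have : Commute g c := hc g
    exact (this.pow_right k).eq
  have hcim : ∀ (k : ℕ) (g : P), g * c⁻¹ ^ k = c⁻¹ ^ k * g := by
    intro k g
    have : Commute g c⁻¹ := hci g
    exact (this.pow_right k).eq
  induction n with
  | zero => simp
  | succ n ih =>
    have key : y ^ n * x = c⁻¹ ^ n * (x * y ^ n) :=
      Cfsg.Agent.S4056.pow_mul_comm_central y x c⁻¹ hci hyx n
    calc (x * y) ^ (n + 1) * c ^ ((n + 1) * (n + 1 - 1) / 2)
        = (x * y) ^ n * (x * y) * (c ^ (n * (n - 1) / 2) * c ^ n) := by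
          rw [Nat.triangle_succ, pow_succ, pow_add]
      _ = ((x * y) ^ n * c ^ (n * (n - 1) / 2)) * ((x * y) * c ^ n) := by
          rw [mul_assoc ((x * y) ^ n), ← mul_assoc (x * y), hcm _ (x * y)]
          group
      _ = x ^ n * y ^ n * ((x * y) * c ^ n) := by rw [ih]
      _ = x ^ n * (y ^ n * x) * y * c ^ n := by group
      _ = x ^ n * (c⁻¹ ^ n * (x * y ^ n)) * y * c ^ n := by rw [key]
      _ = c⁻¹ ^ n * (x ^ (n + 1) * y ^ (n + 1)) * c ^ n := by
          rw [← mul_assoc (x ^ n), hcim n (x ^ n), pow_succ, pow_succ]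
          group
      _ = x ^ (n + 1) * y ^ (n + 1) := by
          rw [hcm n, ← mul_assoc, inv_pow, mul_inv_cancel, one_mul]

theorem comm_of_mem_cyclic {G : Type*} [Group G] (N : Subgroup G) [IsCyclic N] {a b : G}
    (ha : a ∈ N) (hb : b ∈ N) : a * b = b * a := by
  letI := IsCyclic.commGroup (α := N)
  have h : (⟨a, ha⟩ : N) * ⟨b, hb⟩ = ⟨b, hb⟩ * ⟨a, ha⟩ := mul_comm _ _
  exact congrArg Subtype.val h

theorem card_ker_le {G : Type*} [Group G] [Finite G] (U : Subgroup G) [IsCyclic U] (q : ℕ)
    (hq : 0 < q) (φ : G →* G) (hφ : ∀ g, φ g = g ^ q) (hU : ∀ g : G, g ^ q = 1 → g ∈ U) :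
    Nat.card φ.ker ≤ q := by
  have hle : φ.ker ≤ U := by
    intro g hg
    apply hU
    rw [← hφ]
    exact hg
  haveI : IsCyclic φ.ker := Subgroup.isCyclic_of_le hle
  obtain ⟨k, hk⟩ := IsCyclic.exists_generator (α := φ.ker)
  rw [← orderOf_eq_card_of_forall_mem_zpowers hk]
  apply Nat.le_of_dvd hq
  apply orderOf_dvd_of_pow_eq_one
  apply Subtype.ext
  have := k.2
  rw [MonoidHom.mem_ker, hφ] at this
  simpa using this

theorem aux.{u} (p : ℕ) (hp : p.Prime) : ∀ (m : ℕ) (G : Type u) [Group G] [Finite G],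
    Nat.card G = p ^ m → ∀ s : ℕ, 1 ≤ s → s < m → (p ≠ 2 ∨ 2 ≤ s) →
    (∀ H K : Subgroup G, Nat.card H = p ^ s → Nat.card K = p ^ s → H = K) → IsCyclic G := by
  intro m
  induction m using Nat.strong_induction_on with
  | _ m ih =>
  intro G _ _ hG s hs hsm h2 huniq
  haveI : Fact p.Prime := ⟨hp⟩
  by_contra hnc
  have hpows : ∀ H : Subgroup G, ∃ k ≤ m, Nat.card H = p ^ k := by
    intro H
    have := H.card_subgroup_dvd_card
    rw [hG] at this
    exact (Nat.dvd_prime_pow hp).1 this
  have hdvd : ∀ k ≤ m, p ^ k ∣ Nat.card G := by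
    intro k hk; rw [hG]; exact pow_dvd_pow p hk
  obtain ⟨U, hU⟩ := Sylow.exists_subgroup_card_pow_prime p (hdvd s hsm.le)
  have hsmall : ∀ (H : Subgroup G) (k : ℕ), Nat.card H = p ^ k → k ≤ s → H ≤ U := by
    intro H k hH hk
    obtain ⟨K, hK, hHK⟩ := Sylow.exists_subgroup_card_pow_prime_le p (hdvd s hsm.le) H hH hk
    have := huniq K U hK hU
    rwa [this] at hHK
  have hbig : ∀ (H : Subgroup G) (k : ℕ), Nat.card H = p ^ k → s ≤ k → U ≤ H := by
    intro H k hH hk
    have hd : p ^ s ∣ Nat.card H := by rw [hH]; exact pow_dvd_pow p hk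
    obtain ⟨K, hK⟩ := Sylow.exists_subgroup_card_pow_prime p hd
    have h1 : Nat.card (K.map H.subtype) = p ^ s := by
      rw [Subgroup.card_map_of_injective H.subtype_injective]; exact hK
    have h3 := huniq _ U h1 hU
    rw [← h3]
    exact Subgroup.map_subtype_le K
  have hm1 : m - 1 ≤ m := Nat.sub_le m 1
  have hpm : p ^ m = p ^ (m - 1) * p := by
    rw [← pow_succ]; congr 1; omega
  obtain ⟨M, hM⟩ := Sylow.exists_subgroup_card_pow_prime p (hdvd (m - 1) hm1)
  have hMtop : M ≠ ⊤ := by
    intro h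
    have := (Subgroup.card_eq_iff_eq_top M).2 h
    rw [hM, hG] at this
    have := Nat.pow_right_injective hp.two_le this
    omega
  obtain ⟨x, hx⟩ : ∃ x, x ∉ M := by
    by_contra hcon
    push Not at hcon
    exact hMtop (eq_top_iff.2 fun g _ => hcon g)
  obtain ⟨k, hkm, hk⟩ := hpows (Subgroup.zpowers x)
  have hkm1 : k ≤ m - 1 := by
    by_contra hcon
    have hkeq : k = m := by omega
    apply hnc
    have htop : Subgroup.zpowers x = ⊤ := by
      apply Subgroup.eq_top_of_card_eq
      rw [hk, hkeq, hG]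
    exact ⟨⟨x, fun g => by
      have : g ∈ Subgroup.zpowers x := by rw [htop]; exact Subgroup.mem_top g
      exact this⟩⟩
  obtain ⟨M', hM', hxM'⟩ :=
    Sylow.exists_subgroup_card_pow_prime_le p (hdvd (m - 1) hm1) _ hk hkm1
  have hxM'' : x ∈ M' := hxM' (Subgroup.mem_zpowers x)
  have hne : M ≠ M' := fun h => hx (h ▸ hxM'')
  have hsm1 : s < m - 1 := by
    by_contra hcon
    have hsm' : m - 1 = s := by omega
    apply hne
    apply huniq
    · rw [← hsm']; exact hM
    · rw [← hsm']; exact hM'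
  have hcycsub : ∀ N : Subgroup G, Nat.card N = p ^ (m - 1) → IsCyclic N := by
    intro N hN
    apply ih (m - 1) (by omega) N hN s hs hsm1 h2
    intro H K hH hK
    have h1 : Nat.card (H.map N.subtype) = p ^ s := by
      rw [Subgroup.card_map_of_injective N.subtype_injective]; exact hH
    have h2 : Nat.card (K.map N.subtype) = p ^ s := by
      rw [Subgroup.card_map_of_injective N.subtype_injective]; exact hK
    exact Subgroup.map_injective N.subtype_injective (huniq _ _ h1 h2)
  have hidx : ∀ N : Subgroup G, Nat.card N = p ^ (m - 1) → N.index = p := by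
    intro N hN
    have := N.card_mul_index
    rw [hN, hG, hpm] at this
    exact Nat.eq_of_mul_eq_mul_left (pow_pos hp.pos _) this
  have hnorm : ∀ N : Subgroup G, Nat.card N = p ^ (m - 1) → N.Normal := by
    intro N hN
    apply Subgroup.normal_of_index_eq_minFac_card
    rw [hidx N hN, hG, hp.pow_minFac (by omega)]
  haveI hMn := hnorm M hM
  haveI hMn' := hnorm M' hM'
  haveI hMc := hcycsub M hM
  haveI hMc' := hcycsub M' hM'
  haveI hUc : IsCyclic U := Subgroup.isCyclic_of_le (hbig M (m - 1) hM (by omega))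
  have hpowD : ∀ g : G, g ^ p ∈ M ⊓ M' := by
    intro g
    constructor
    · have := Subgroup.pow_index_mem M g; rwa [hidx M hM] at this
    · have := Subgroup.pow_index_mem M' g; rwa [hidx M' hM'] at this
  have hcommN : ∀ N : Subgroup G, Nat.card N = p ^ (m - 1) →
      ∀ a b : G, a * b * a⁻¹ * b⁻¹ ∈ N := by
    intro N hN a b
    haveI := hnorm N hN
    have hq : Nat.card (G ⧸ N) = p := by rw [← Subgroup.index_eq_card]; exact hidx N hN
    haveI : IsCyclic (G ⧸ N) := isCyclic_of_prime_card hq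
    rw [← QuotientGroup.eq_one_iff]
    simp only [QuotientGroup.mk_mul, QuotientGroup.mk_inv]
    have hc : (a : G ⧸ N) * (b : G ⧸ N) = b * a := by
      letI := IsCyclic.commGroup (α := G ⧸ N)
      exact mul_comm _ _
    rw [hc]; group
  have hsup : M ⊔ M' = ⊤ := by
    by_contra hcon
    have h1 : (M ⊔ M').index ∣ p := by
      rw [← hidx M hM]; exact Subgroup.index_dvd_of_le le_sup_left
    rcases (Nat.dvd_prime hp).1 h1 with h | h
    · exact hcon (Subgroup.index_eq_one.1 h)
    · have hc1 : Nat.card (M ⊔ M' : Subgroup G) = p ^ (m - 1) := by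
        have := (M ⊔ M').card_mul_index
        rw [h, hG, hpm] at this
        exact Nat.eq_of_mul_eq_mul_right hp.pos this
      have e1 : M = M ⊔ M' := Subgroup.eq_of_le_of_card_ge le_sup_left (by rw [hc1, hM])
      have e2 : M' = M ⊔ M' := Subgroup.eq_of_le_of_card_ge le_sup_right (by rw [hc1, hM'])
      exact hne (e1.trans e2.symm)
  have hcentral : ∀ d ∈ M ⊓ M', ∀ g : G, g * d = d * g := by
    intro d hd g
    have hle : M ⊔ M' ≤ Subgroup.centralizer {d} := by
      apply sup_le
      · intro a ha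
        rw [Subgroup.mem_centralizer_singleton_iff]
        exact comm_of_mem_cyclic M ha hd.1
      · intro a ha
        rw [Subgroup.mem_centralizer_singleton_iff]
        exact comm_of_mem_cyclic M' ha hd.2
    have hg : g ∈ Subgroup.centralizer {d} := hle (hsup ▸ Subgroup.mem_top g)
    rw [Subgroup.mem_centralizer_singleton_iff] at hg
    exact hg
  have hDM : p * Nat.card (M ⊓ M' : Subgroup G) ≤ Nat.card M := by
    obtain ⟨j, hj, hjc⟩ := hpows (M ⊓ M')
    have hlt : j < m - 1 := by
      by_contra hcon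
      have h1 : Nat.card M ≤ Nat.card (M ⊓ M' : Subgroup G) := by
        rw [hM, hjc]; exact Nat.pow_le_pow_right hp.pos (by omega)
      have e1 : M ⊓ M' = M := Subgroup.eq_of_le_of_card_ge inf_le_left h1
      have h2 : M ≤ M' := by rw [← e1]; exact inf_le_right
      exact hne (Subgroup.eq_of_le_of_card_ge h2 (by rw [hM, hM']))
    rw [hjc, hM, ← pow_succ']
    exact Nat.pow_le_pow_right hp.pos (by omega)
  have hkerU : ∀ e : ℕ, e ≤ s → ∀ g : G, g ^ (p ^ e) = 1 → g ∈ U := by
    intro e he g hg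
    have h1 : orderOf g ∣ p ^ e := orderOf_dvd_of_pow_eq_one hg
    obtain ⟨j, hj, hjo⟩ := (Nat.dvd_prime_pow hp).1 h1
    have h2 : Nat.card (Subgroup.zpowers g) = p ^ j := by rw [Nat.card_zpowers, hjo]
    exact hsmall _ j h2 (by omega) (Subgroup.mem_zpowers g)
  have hcD : ∀ a b : G, a * b * a⁻¹ * b⁻¹ ∈ M ⊓ M' :=
    fun a b => ⟨hcommN M hM a b, hcommN M' hM' a b⟩
  have hmulpow : ∀ (n : ℕ) (a b : G),
      (a * b) ^ n * (a * b * a⁻¹ * b⁻¹) ^ (n * (n - 1) / 2) = a ^ n * b ^ n := by
    intro n a b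
    apply mul_pow_class_two a b _ (hcentral _ (hcD a b))
    group
  have hcp : ∀ a b : G, (a * b * a⁻¹ * b⁻¹) ^ p = 1 := by
    intro a b
    have hc := hcentral _ (hcD a b)
    have h1 := Cfsg.Agent.S4056.pow_mul_comm_central a b (a * b * a⁻¹ * b⁻¹) hc (by group) p
    have h2 : a ^ p * b = b * a ^ p := (hcentral _ (hpowD a) b).symm
    rw [h2] at h1
    have h3 : (a * b * a⁻¹ * b⁻¹) ^ p * (b * a ^ p) = 1 * (b * a ^ p) := by
      rw [one_mul]; exact h1.symm
    exact mul_right_cancel h3
  have hMlt : Nat.card M < Nat.card G := by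
    rw [hM, hG]; exact Nat.pow_lt_pow_right hp.one_lt (by omega)
  by_cases hp2 : p = 2
  · subst hp2
    have hs2 : 2 ≤ s := h2.resolve_left (by simp)
    have hmul : ∀ a b : G, (a * b) ^ 4 = a ^ 4 * b ^ 4 := by
      intro a b
      have h1 := hmulpow 4 a b
      have h6 : 4 * (4 - 1) / 2 = 2 * 3 := by norm_num
      rw [h6, pow_mul, hcp, one_pow, mul_one] at h1
      exact h1
    let φ : G →* G :=
      { toFun := fun g => g ^ 4
        map_one' := one_pow 4
        map_mul' := hmul }
    have hφ : ∀ g, φ g = g ^ 4 := fun g => rfl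
    have hker : Nat.card φ.ker ≤ 4 := by
      apply card_ker_le U 4 (by norm_num) φ hφ
      intro g hg
      apply hkerU 2 hs2 g
      have h4 : 2 ^ 2 = 4 := by norm_num
      rw [h4]
      exact hg
    let ψ : ↥(M ⊓ M') →* G :=
      { toFun := fun d => (d : G) ^ 2
        map_one' := by simp
        map_mul' := fun d e => by
          have hc : Commute (d : G) (e : G) := hcentral (e : G) e.2 (d : G)
          simpa using hc.mul_pow 2 }
    have hrange : φ.range ≤ ψ.range := by
      rintro _ ⟨g, rfl⟩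
      refine ⟨⟨g ^ 2, hpowD g⟩, ?_⟩
      show (g ^ 2) ^ 2 = g ^ 4
      rw [← pow_mul]
    have hcardφ : Nat.card φ.ker * Nat.card φ.range = Nat.card G := by
      rw [← Subgroup.index_ker]; exact Subgroup.card_mul_index _
    have hcardψ : Nat.card ψ.ker * Nat.card ψ.range = Nat.card (M ⊓ M' : Subgroup G) := by
      rw [← Subgroup.index_ker]; exact Subgroup.card_mul_index _
    have hkerψ : 2 ≤ Nat.card ψ.ker := by
      have hd : 2 ∣ Nat.card U := by rw [hU]; exact dvd_pow_self 2 (by omega)
      obtain ⟨z, hz⟩ := exists_prime_orderOf_dvd_card' 2 hd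
      have hzD : (z : G) ∈ M ⊓ M' :=
        ⟨hbig M (m - 1) hM (by omega) z.2, hbig M' (m - 1) hM' (by omega) z.2⟩
      have hzker : (⟨z, hzD⟩ : ↥(M ⊓ M')) ∈ ψ.ker := by
        rw [MonoidHom.mem_ker]
        show (z : G) ^ 2 = 1
        rw [← hz, ← Subgroup.orderOf_coe]
        exact pow_orderOf_eq_one _
      have hne' : ψ.ker ≠ ⊥ := by
        intro h
        rw [h, Subgroup.mem_bot] at hzker
        have hz1 : z = 1 := by
          apply Subtype.ext
          have h5 : ((⟨z, hzD⟩ : ↥(M ⊓ M')) : G) = ((1 : ↥(M ⊓ M')) : G) := by rw [hzker]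
          exact h5
        rw [hz1, orderOf_one] at hz
        omega
      have := (Subgroup.one_lt_card_iff_ne_bot _).2 hne'
      omega
    have : Nat.card G ≤ Nat.card M := by
      calc Nat.card G = Nat.card φ.ker * Nat.card φ.range := hcardφ.symm
        _ ≤ 4 * Nat.card ψ.range := Nat.mul_le_mul hker (Subgroup.card_le_of_le hrange)
        _ = 2 * (2 * Nat.card ψ.range) := by ring
        _ ≤ 2 * (Nat.card ψ.ker * Nat.card ψ.range) := by gcongr
        _ = 2 * Nat.card (M ⊓ M' : Subgroup G) := by rw [hcardψ]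
        _ ≤ Nat.card M := hDM
    omega
  · have hodd : Odd p := hp.eq_two_or_odd'.resolve_left hp2
    have h2d : 2 ∣ p - 1 := by
      obtain ⟨t, ht⟩ := hodd
      exact ⟨t, by omega⟩
    have hmul : ∀ a b : G, (a * b) ^ p = a ^ p * b ^ p := by
      intro a b
      have h1 := hmulpow p a b
      rw [Nat.mul_div_assoc p h2d, pow_mul, hcp, one_pow, mul_one] at h1
      exact h1
    let φ : G →* G :=
      { toFun := fun g => g ^ p
        map_one' := one_pow p
        map_mul' := hmul }
    have hφ : ∀ g, φ g = g ^ p := fun g => rfl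
    have hker : Nat.card φ.ker ≤ p := by
      apply card_ker_le U p hp.pos φ hφ
      intro g hg
      apply hkerU 1 hs g
      rwa [pow_one]
    have hrange : Nat.card φ.range ≤ Nat.card (M ⊓ M' : Subgroup G) := by
      apply Subgroup.card_le_of_le
      rintro _ ⟨g, rfl⟩
      exact hpowD g
    have hcard : Nat.card φ.ker * Nat.card φ.range = Nat.card G := by
      rw [← Subgroup.index_ker]; exact Subgroup.card_mul_index _
    have : Nat.card G ≤ Nat.card M := by
      calc Nat.card G = Nat.card φ.ker * Nat.card φ.range := hcard.symm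
        _ ≤ p * Nat.card (M ⊓ M' : Subgroup G) := Nat.mul_le_mul hker hrange
        _ ≤ Nat.card M := hDM
    omega

/-- Let `p` be a prime and `G` a group of order `p ^ m` which has exactly one subgroup of order `p ^ s`, where `1 ≤ s < m`, and where `s ≥ 2` if `p = 2`. Then `G` is cyclic. (For `p = 2` and `s = 1` the generalized quaternion groups also occur; that case is the classical criterion for a unique involution.) -/
theorem result {G : Type*} [Group G] [Finite G] (p m s : ℕ) (hp : p.Prime) (hG : Nat.card G = p ^ m) (hs : 1 ≤ s) (hsm : s < m) (h2 : p ≠ 2 ∨ 2 ≤ s) (huniq : ∀ H K : Subgroup G, Nat.card H = p ^ s → Nat.card K = p ^ s → H = K) : IsCyclic G :=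
  aux p hp m G hG s hs hsm h2 huniq

end Cfsg.Agent.S3977
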