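import Cfsg.Statements.S4023
import Mathlib
import Cfsg.Agent.S4056
import Cfsg.Agent.S3977
import Cfsg.Agent.Lib.Helper22.Sylow2
import Cfsg.Agent.Lib.Helper19.UniqueInvolution
import Cfsg.Agent.Lib.helper14.Quat
import Cfsg.Agent.Lib.Helper24.AutBound
import Cfsg.Agent.Lib.Helper1.Nilp

set_option autoImplicit false
open Cfsg

namespace Cfsg.Agent.S4023

theorem card_closure_pair_le {Γ : Type*} [Group Γ] [Finite Γ] (p : ℕ) (hp : 0 < p) (x y d : Γ)
    (hd : ∀ g : Γ, g * d = d * g) (h : y * x = d * (x * y))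
    (hx : x ^ p = 1) (hy : y ^ p = 1) (hdp : d ^ p = 1) :
    Nat.card (Subgroup.closure ({x, y} : Set Γ)) ≤ p ^ 3 := by
  have hdk : ∀ (k : ℕ) (g : Γ), g * d ^ k = d ^ k * g := by
    intro k g
    have : Commute g d := hd g
    exact (this.pow_right k).eq
  have hmx : ∀ g : Γ, (∃ i j k : ℕ, g = x ^ i * y ^ j * d ^ k) →
      ∃ i j k : ℕ, g * x = x ^ i * y ^ j * d ^ k := by
    rintro _ ⟨i, j, k, rfl⟩
    refine ⟨i + 1, j, k + j, ?_⟩
    have h1 : y ^ j * x = d ^ j * (x * y ^ j) :=
      Cfsg.Agent.S4056.pow_mul_comm_central y x d hd h j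
    calc x ^ i * y ^ j * d ^ k * x = x ^ i * y ^ j * (x * d ^ k) := by
          rw [mul_assoc (x ^ i * y ^ j), hdk k x]
      _ = x ^ i * (y ^ j * x) * d ^ k := by simp only [mul_assoc]
      _ = x ^ i * (d ^ j * (x * y ^ j)) * d ^ k := by rw [h1]
      _ = x ^ i * ((x * y ^ j) * d ^ j) * d ^ k := by rw [hdk j (x * y ^ j)]
      _ = x ^ (i + 1) * y ^ j * d ^ (k + j) := by
          rw [pow_succ x i, show k + j = j + k from add_comm k j, pow_add d j k]
          simp only [mul_assoc]
  have hmy : ∀ g : Γ, (∃ i j k : ℕ, g = x ^ i * y ^ j * d ^ k) →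
      ∃ i j k : ℕ, g * y = x ^ i * y ^ j * d ^ k := by
    rintro _ ⟨i, j, k, rfl⟩
    refine ⟨i, j + 1, k, ?_⟩
    rw [mul_assoc (x ^ i * y ^ j), ← hdk k y, pow_succ]
    simp only [mul_assoc]
  have hmxp : ∀ (m : ℕ) (g : Γ), (∃ i j k : ℕ, g = x ^ i * y ^ j * d ^ k) →
      ∃ i j k : ℕ, g * x ^ m = x ^ i * y ^ j * d ^ k := by
    intro m
    induction m with
    | zero => intro g hg; simpa using hg
    | succ m ih =>
      intro g hg
      rw [pow_succ, ← mul_assoc]
      exact hmx _ (ih g hg)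
  have hmyp : ∀ (m : ℕ) (g : Γ), (∃ i j k : ℕ, g = x ^ i * y ^ j * d ^ k) →
      ∃ i j k : ℕ, g * y ^ m = x ^ i * y ^ j * d ^ k := by
    intro m
    induction m with
    | zero => intro g hg; simpa using hg
    | succ m ih =>
      intro g hg
      rw [pow_succ, ← mul_assoc]
      exact hmy _ (ih g hg)
  have hxinv : x⁻¹ = x ^ (p - 1) := by
    apply inv_eq_of_mul_eq_one_right
    rw [← pow_succ', Nat.sub_add_cancel hp, hx]
  have hyinv : y⁻¹ = y ^ (p - 1) := by
    apply inv_eq_of_mul_eq_one_right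
    rw [← pow_succ', Nat.sub_add_cancel hp, hy]
  have hall : ∀ g ∈ Subgroup.closure ({x, y} : Set Γ), ∃ i j k : ℕ, g = x ^ i * y ^ j * d ^ k := by
    intro g hg
    induction hg using Subgroup.closure_induction_right with
    | one => exact ⟨0, 0, 0, by simp⟩
    | mul_right g hg z hz ih =>
      rcases hz with rfl | rfl
      · exact hmx g ih
      · exact hmy g ih
    | mul_inv_cancel g hg z hz ih =>
      rcases hz with rfl | rfl
      · rw [hxinv]; exact hmxp _ g ih
      · rw [hyinv]; exact hmyp _ g ih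
  let f : Fin p × Fin p × Fin p → Γ := fun t => x ^ (t.1 : ℕ) * y ^ (t.2.1 : ℕ) * d ^ (t.2.2 : ℕ)
  have hsurj : ∀ g : Subgroup.closure ({x, y} : Set Γ), ∃ t, f t = (g : Γ) := by
    intro g
    obtain ⟨i, j, k, hg⟩ := hall g g.2
    refine ⟨(⟨i % p, Nat.mod_lt _ hp⟩, ⟨j % p, Nat.mod_lt _ hp⟩, ⟨k % p, Nat.mod_lt _ hp⟩), ?_⟩
    show x ^ (i % p) * y ^ (j % p) * d ^ (k % p) = g
    rw [hg, ← pow_eq_pow_mod i hx, ← pow_eq_pow_mod j hy, ← pow_eq_pow_mod k hdp]
  choose t ht using hsurj
  have hinj : Function.Injective t := by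
    intro a b hab
    apply Subtype.ext
    rw [← ht a, ← ht b, hab]
  have h5 := Nat.card_le_card_of_injective t hinj
  rw [Nat.card_prod, Nat.card_prod, Nat.card_fin] at h5
  calc Nat.card (Subgroup.closure ({x, y} : Set Γ)) ≤ p * (p * p) := h5
    _ = p ^ 3 := by ring


theorem exists_central_prime {Q : Type*} [Group Q] [Finite Q] {p : ℕ} [Fact p.Prime]
    (hQ : IsPGroup p Q) [Nontrivial Q] : ∃ z : Q, z ∈ Subgroup.center Q ∧ orderOf z = p := by
  haveI := hQ.center_nontrivial
  have hZ : IsPGroup p (Subgroup.center Q) := hQ.to_subgroup _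
  have hd : p ∣ Nat.card (Subgroup.center Q) := by
    rcases hZ.card_eq_or_dvd with h | h
    · exfalso
      have := (Finite.one_lt_card_iff_nontrivial (α := Subgroup.center Q)).2 inferInstance
      omega
    · exact h
  obtain ⟨z, hz⟩ := exists_prime_orderOf_dvd_card' p hd
  exact ⟨(z : Q), z.2, by rw [Subgroup.orderOf_coe]; exact hz⟩

theorem exists_second_center {Q : Type*} [Group Q] [Finite Q] {p : ℕ} [Fact p.Prime]
    (hQ : IsPGroup p Q) (hna : ¬ ∀ a b : Q, a * b = b * a) :
    ∃ x : Q, x ∉ Subgroup.center Q ∧ ∀ g : Q, x * g * x⁻¹ * g⁻¹ ∈ Subgroup.center Q := by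
  have hQZ : IsPGroup p (Q ⧸ Subgroup.center Q) := hQ.to_quotient _
  haveI : Nontrivial (Q ⧸ Subgroup.center Q) := by
    by_contra hcon
    rw [not_nontrivial_iff_subsingleton] at hcon
    apply hna
    intro a b
    have ha : a ∈ Subgroup.center Q := by
      rw [← QuotientGroup.eq_one_iff]
      exact Subsingleton.elim _ _
    exact (Subgroup.mem_center_iff.1 ha b).symm
  obtain ⟨w, hwZ, hwo⟩ := exists_central_prime hQZ
  obtain ⟨x, rfl⟩ := QuotientGroup.mk_surjective w
  refine ⟨x, ?_, ?_⟩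
  · intro hx
    have h1 : (x : Q ⧸ Subgroup.center Q) = 1 := (QuotientGroup.eq_one_iff x).2 hx
    rw [h1, orderOf_one] at hwo
    exact (Fact.out : p.Prime).one_lt.ne hwo
  · intro g
    rw [← QuotientGroup.eq_one_iff]
    simp only [QuotientGroup.mk_mul, QuotientGroup.mk_inv]
    have h1 := Subgroup.mem_center_iff.1 hwZ (g : Q ⧸ Subgroup.center Q)
    rw [← h1]
    group


theorem comm_transfer {Q : Type*} [Group Q] {H K : Subgroup Q} (e : H ≃* K)
    (h : ∀ a ∈ H, ∀ b ∈ H, a * b = b * a) : ∀ a ∈ K, ∀ b ∈ K, a * b = b * a := by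
  intro a ha b hb
  have h1 := h (e.symm ⟨a, ha⟩) (e.symm ⟨a, ha⟩).2 (e.symm ⟨b, hb⟩) (e.symm ⟨b, hb⟩).2
  have h2 : e.symm ⟨a, ha⟩ * e.symm ⟨b, hb⟩ = e.symm ⟨b, hb⟩ * e.symm ⟨a, ha⟩ := Subtype.ext h1
  rw [← map_mul, ← map_mul] at h2
  have h3 := e.symm.injective h2
  exact congrArg Subtype.val h3

theorem pow_transfer {Q : Type*} [Group Q] {H K : Subgroup Q} (e : H ≃* K) (n : ℕ)
    (h : ∀ a ∈ H, a ^ n = 1) : ∀ a ∈ K, a ^ n = 1 := by
  intro a ha
  have h1 := h (e.symm ⟨a, ha⟩) (e.symm ⟨a, ha⟩).2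
  have h2 : (e.symm ⟨a, ha⟩) ^ n = 1 := Subtype.ext (by simpa using h1)
  rw [← map_pow] at h2
  have h3 : (⟨a, ha⟩ : K) ^ n = 1 := e.symm.injective (h2.trans (map_one e.symm).symm)
  exact congrArg Subtype.val h3

theorem exists_abelian_cube {Q : Type*} [Group Q] [Finite Q] {p : ℕ} [Fact p.Prime]
    (hQ : IsPGroup p Q) (m : ℕ) (hm : Nat.card Q = p ^ m) (h4 : 4 ≤ m) :
    ∃ B : Subgroup Q, Nat.card B = p ^ 3 ∧ ∀ a ∈ B, ∀ b ∈ B, a * b = b * a := by
  have hp : p.Prime := Fact.out
  haveI hnil : Group.IsNilpotent Q := hQ.isNilpotent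
  obtain ⟨A, -, hAmax⟩ := Finite.exists_le_maximal
    (p := fun M : Subgroup Q => M.Normal ∧ IsMulCommutative M) (a := ⊥)
    ⟨inferInstance, ⟨⟨fun a b => by
      apply Subtype.ext
      have ha := Subgroup.mem_bot.mp a.2
      have hb := Subgroup.mem_bot.mp b.2
      simp [ha, hb]⟩⟩⟩
  obtain ⟨⟨hAn, hAc⟩, hAm⟩ := hAmax
  have hCA : Subgroup.centralizer (A : Set Q) = A := by
    apply Cfsg.Agent.Lib.Helper1.centralizer_eq_self_of_max_abelian_normal A
    intro M hMn hMc hle
    exact le_antisymm (hAm ⟨hMn, hMc⟩ hle) hle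
  obtain ⟨a, ha⟩ := (IsPGroup.iff_card).1 (hQ.to_subgroup A)
  have hidx := Cfsg.Agent.Lib.Helper24.ab_index_le hQ a A ha
  rw [hCA] at hidx
  have hci := A.card_mul_index
  rw [ha, hm] at hci
  have ham : a ≤ m := by
    have h1 : p ^ a ∣ p ^ m := ⟨_, hci.symm⟩
    exact (Nat.pow_dvd_pow_iff_le_right hp.one_lt).1 h1
  have hidx' : A.index = p ^ (m - a) := by
    have h1 : p ^ m = p ^ a * p ^ (m - a) := by rw [← pow_add]; congr 1; omega
    rw [h1] at hci
    exact Nat.eq_of_mul_eq_mul_left (pow_pos hp.pos a) hci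
  rw [hidx'] at hidx
  have hle : m - a ≤ a * (a - 1) / 2 := (Nat.pow_le_pow_iff_right hp.one_lt).1 hidx
  have ha3 : 3 ≤ a := by
    by_contra hcon
    push Not at hcon
    interval_cases a <;> simp at hle <;> omega
  have hcard3 : p ^ 3 ≤ Nat.card A := by
    rw [ha]; exact Nat.pow_le_pow_right hp.pos ha3
  obtain ⟨B, hBA, hB⟩ := Sylow.exists_subgroup_le_card_pow_prime_of_le_card hp hQ hcard3
  refine ⟨B, hB, ?_⟩
  intro x hx y hy
  have hcomm := (Cfsg.Agent.Lib.Helper1.isMulCommutative_subgroup_iff A).mp hAc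
  exact hcomm x (hBA hx) y (hBA hy)

theorem exists_nonabelian_cube {Q : Type*} [Group Q] [Finite Q] {p : ℕ} [Fact p.Prime]
    (hQ : IsPGroup p Q) (hexp : ∀ g : Q, g ^ p = 1) (hna : ¬ ∀ a b : Q, a * b = b * a) :
    ∃ H : Subgroup Q, Nat.card H = p ^ 3 ∧ ¬ ∀ a ∈ H, ∀ b ∈ H, a * b = b * a := by
  have hp : p.Prime := Fact.out
  obtain ⟨x, hxZ, hxc⟩ := exists_second_center hQ hna
  have hex : ∃ y : Q, y * x ≠ x * y := by
    by_contra hcon
    push Not at hcon
    exact hxZ (Subgroup.mem_center_iff.2 hcon)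
  obtain ⟨y, hy⟩ := hex
  have hdZ : y * x * y⁻¹ * x⁻¹ ∈ Subgroup.center Q := by
    have h1 : y * x * y⁻¹ * x⁻¹ = (x * y * x⁻¹ * y⁻¹)⁻¹ := by group
    rw [h1]
    exact Subgroup.inv_mem _ (hxc y)
  have hd : ∀ g : Q, g * (y * x * y⁻¹ * x⁻¹) = (y * x * y⁻¹ * x⁻¹) * g :=
    Subgroup.mem_center_iff.1 hdZ
  have hrel : y * x = (y * x * y⁻¹ * x⁻¹) * (x * y) := by group
  have hle := card_closure_pair_le p hp.pos x y _ hd hrel (hexp x) (hexp y) (hexp _)
  have hxm : x ∈ Subgroup.closure ({x, y} : Set Q) := Subgroup.subset_closure (by simp)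
  have hym : y ∈ Subgroup.closure ({x, y} : Set Q) := Subgroup.subset_closure (by simp)
  refine ⟨Subgroup.closure ({x, y} : Set Q), ?_, ?_⟩
  · obtain ⟨e, he⟩ := (IsPGroup.iff_card).1 (hQ.to_subgroup (Subgroup.closure ({x, y} : Set Q)))
    rw [he] at hle ⊢
    have he3 : e ≤ 3 := (Nat.pow_le_pow_iff_right hp.one_lt).1 hle
    by_contra hne
    have he2 : e ≤ 2 := by
      have : e ≠ 3 := fun h => hne (by rw [h])
      omega
    have hab : IsMulCommutative (Subgroup.closure ({x, y} : Set Q)) := by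
      interval_cases e
      · rw [pow_zero] at he
        haveI : Subsingleton (Subgroup.closure ({x, y} : Set Q)) :=
          (Nat.card_eq_one_iff_unique.1 he).1
        exact ⟨⟨fun a b => Subsingleton.elim _ _⟩⟩
      · rw [pow_one] at he
        haveI := isCyclic_of_prime_card he
        exact IsCyclic.isMulCommutative
      · exact IsPGroup.isMulCommutative_of_card_eq_prime_sq he
    have h1 := hab.is_comm.comm ⟨y, hym⟩ ⟨x, hxm⟩
    exact hy (congrArg Subtype.val h1)
  · intro hcomm
    exact hy (hcomm y hym x hxm)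

theorem quat_not_comm : ¬ ∀ a b : QuaternionGroup 2, a * b = b * a := by
  intro h
  have := h (QuaternionGroup.a 1) (QuaternionGroup.xa 0)
  revert this
  decide

theorem two_case {Q : Type*} [Group Q] [Finite Q] (hQ : IsPGroup 2 Q)
    (hiso : ∀ H K : Subgroup Q, Nat.card H = Nat.card K → Nonempty (H ≃* K))
    (z : Q) (hzo : orderOf z = 2) (huniq : ∀ u : Q, u * u = 1 → u = 1 ∨ u = z) :
    IsCyclic Q ∨ Nonempty (Q ≃* QuaternionGroup 2) := by
  have hz1 : z ≠ 1 := by
    intro h
    rw [h, orderOf_one] at hzo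
    norm_num at hzo
  have hz2 : z * z = 1 := by
    have h5 := pow_orderOf_eq_one z
    rw [hzo, pow_two] at h5
    exact h5
  by_cases hab : ∀ a b : Q, a * b = b * a
  · left
    obtain ⟨a, _, ha⟩ := Cfsg.Agent.Lib.Helper19.cyclic_of_comm_unique_involution hQ z huniq ⊤
      (fun a _ b _ => hab a b)
    exact ⟨⟨a, fun g => by
      have h1 : g ∈ (⊤ : Subgroup Q) := Subgroup.mem_top g
      rw [ha] at h1
      exact h1⟩⟩
  · right
    obtain ⟨n, hn2, a, y, hao, hya, hinv, hyy, haz, hcover, hcardQ⟩ :=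
      Cfsg.Agent.Lib.Helper19.quaternion_structure hQ z hz1 hz2 huniq hab
    by_cases hn : n = 2
    · subst hn
      obtain ⟨hqc, ⟨e⟩⟩ := Cfsg.Agent.Lib.helper14.quaternion_closure 2 (by norm_num) a y
        (by rw [hao]; norm_num) (by rw [hyy, ← haz]; norm_num) hinv
      have htop : Subgroup.closure ({a, y} : Set Q) = ⊤ := by
        apply Subgroup.eq_top_of_card_eq
        rw [hqc, hcardQ]
        norm_num
      exact ⟨(Subgroup.topEquiv.symm.trans (MulEquiv.subgroupCongr htop.symm)).trans e⟩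
    · exfalso
      have hn3 : 3 ≤ n := by omega
      have hot : orderOf (a ^ (2 ^ (n - 2))) = 4 := by
        rw [orderOf_pow_of_dvd (pow_pos (by norm_num) _).ne'
          (by rw [hao]; exact pow_dvd_pow 2 (by omega)), hao,
          Nat.pow_div (by omega) (by norm_num)]
        have : n - (n - 2) = 2 := by omega
        rw [this]
      have hos : orderOf (a ^ (2 ^ (n - 3))) = 8 := by
        rw [orderOf_pow_of_dvd (pow_pos (by norm_num) _).ne'
          (by rw [hao]; exact pow_dvd_pow 2 (by omega)), hao,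
          Nat.pow_div (by omega) (by norm_num)]
        have : n - (n - 3) = 3 := by omega
        rw [this]
      have hw : y * y = (a ^ (2 ^ (n - 2))) ^ 2 := by
        rw [hyy, ← haz, ← pow_mul, ← pow_succ]
        congr 2
        omega
      have hwt : y * a ^ (2 ^ (n - 2)) * y⁻¹ = (a ^ (2 ^ (n - 2)))⁻¹ := by
        rw [← conj_pow, hinv, inv_pow]
      obtain ⟨hqc, ⟨e⟩⟩ := Cfsg.Agent.Lib.helper14.quaternion_closure 2 (by norm_num)
        (a ^ (2 ^ (n - 2))) y (by rw [hot]) hw hwt
      have hc8 : Nat.card (Subgroup.zpowers (a ^ (2 ^ (n - 3)))) = 8 := by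
        rw [Nat.card_zpowers, hos]
      obtain ⟨f⟩ := hiso (Subgroup.zpowers (a ^ (2 ^ (n - 3))))
        (Subgroup.closure ({a ^ (2 ^ (n - 2)), y} : Set Q)) (by rw [hc8, hqc])
      have hcomm : ∀ u ∈ Subgroup.zpowers (a ^ (2 ^ (n - 3))),
          ∀ v ∈ Subgroup.zpowers (a ^ (2 ^ (n - 3))), u * v = v * u := by
        intro u hu v hv
        obtain ⟨i, rfl⟩ := Subgroup.mem_zpowers_iff.1 hu
        obtain ⟨j, rfl⟩ := Subgroup.mem_zpowers_iff.1 hv
        rw [← zpow_add, ← zpow_add, add_comm]
      have hcomm2 := comm_transfer f hcomm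
      apply quat_not_comm
      intro u v
      have h1 := hcomm2 (e.symm u) (e.symm u).2 (e.symm v) (e.symm v).2
      have h2 : e.symm u * e.symm v = e.symm v * e.symm u := Subtype.ext h1
      rw [← map_mul, ← map_mul] at h2
      exact e.symm.injective h2

theorem abstract_main {Q : Type*} [Group Q] [Finite Q] {p : ℕ} [Fact p.Prime]
    (hQ : IsPGroup p Q)
    (hiso : ∀ H K : Subgroup Q, Nat.card H = Nat.card K → Nonempty (H ≃* K)) :
    IsCyclic Q ∨ ((∀ a b : Q, a * b = b * a) ∧ ∀ a : Q, a ^ p = 1) ∨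
      (p = 2 ∧ Nonempty (Q ≃* QuaternionGroup 2)) ∨
      (p ≠ 2 ∧ (¬ ∀ a b : Q, a * b = b * a) ∧ Nat.card Q = p ^ 3 ∧ Monoid.exponent Q = p) := by
  have hp : p.Prime := Fact.out
  obtain ⟨m, hm⟩ := (IsPGroup.iff_card).1 hQ
  by_cases huni : ∀ H K : Subgroup Q, Nat.card H = p → Nat.card K = p → H = K
  · by_cases hm2 : m < 2
    · left
      interval_cases m
      · rw [pow_zero] at hm
        haveI : Subsingleton Q := (Nat.card_eq_one_iff_unique.1 hm).1
        infer_instance
      · rw [pow_one] at hm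
        exact isCyclic_of_prime_card hm
    · push Not at hm2
      by_cases hp2 : p = 2
      · subst hp2
        have h2d : 2 ∣ Nat.card Q := by rw [hm]; exact dvd_pow_self 2 (by omega)
        obtain ⟨z, hzo⟩ := exists_prime_orderOf_dvd_card' 2 h2d
        have huniq : ∀ u : Q, u * u = 1 → u = 1 ∨ u = z := by
          intro u hu
          by_cases hu1 : u = 1
          · left; exact hu1
          · right
            have h1 : orderOf u ∣ 2 := orderOf_dvd_of_pow_eq_one (by rw [pow_two]; exact hu)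
            have huo : orderOf u = 2 := by
              rcases (Nat.dvd_prime Nat.prime_two).1 h1 with h | h
              · exact (hu1 (orderOf_eq_one_iff.1 h)).elim
              · exact h
            have h2 : Subgroup.zpowers u = Subgroup.zpowers z :=
              huni _ _ (by rw [Nat.card_zpowers, huo]) (by rw [Nat.card_zpowers, hzo])
            have h3 : u ∈ Subgroup.zpowers z := h2 ▸ Subgroup.mem_zpowers u
            have h4 := Cfsg.Agent.Lib.Helper19.unique_involution_zpowers z 1 le_rfl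
              (by rw [hzo, pow_one]) u h3 hu hu1
            simpa using h4
        rcases two_case hQ hiso z hzo huniq with h | h
        · left; exact h
        · right; right; left; exact ⟨rfl, h⟩
      · left
        apply Cfsg.Agent.S3977.aux p hp m Q hm 1 le_rfl (by omega) (Or.inl hp2)
        intro H K hH hK
        rw [pow_one] at hH hK
        exact huni H K hH hK
  · push Not at huni
    obtain ⟨H₁, H₂, h₁, h₂, hne⟩ := huni
    haveI : Nontrivial Q := by
      rw [← Finite.one_lt_card_iff_nontrivial]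
      have h1 := Subgroup.card_le_card_group H₁
      have h2 := hp.two_le
      omega
    obtain ⟨z, hzZ, hzo⟩ := exists_central_prime hQ
    have hzc : ∀ g : Q, g * z = z * g := Subgroup.mem_center_iff.1 hzZ
    obtain ⟨H, hH, hHz⟩ : ∃ H : Subgroup Q, Nat.card H = p ∧ H ≠ Subgroup.zpowers z := by
      by_cases h : H₁ = Subgroup.zpowers z
      · exact ⟨H₂, h₂, fun h' => hne (h.trans h'.symm)⟩
      · exact ⟨H₁, h₁, h⟩
    obtain ⟨x, hxH, hxz⟩ : ∃ x ∈ H, x ∉ Subgroup.zpowers z := by
      by_contra hcon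
      push Not at hcon
      apply hHz
      exact Subgroup.eq_of_le_of_card_ge hcon (by rw [Nat.card_zpowers, hzo, hH])
    have hx1 : x ≠ 1 := fun h => hxz (h ▸ Subgroup.one_mem _)
    have hxo : orderOf x = p := by
      have h1 : orderOf x ∣ p := hH ▸ Subgroup.orderOf_dvd_natCard H hxH
      rcases (Nat.dvd_prime hp).1 h1 with h | h
      · exact (hx1 (orderOf_eq_one_iff.1 h)).elim
      · exact h
    have hzp : z ^ p = 1 := by rw [← hzo]; exact pow_orderOf_eq_one z
    have hxp : x ^ p = 1 := by rw [← hxo]; exact pow_orderOf_eq_one x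
    have hpair : ∀ u ∈ ({z, x} : Set Q), ∀ v ∈ ({z, x} : Set Q), u * v = v * u := by
      intro u hu v hv
      rcases hu with rfl | rfl <;> rcases hv with rfl | rfl
      · rfl
      · exact (hzc _).symm
      · exact hzc _
      · rfl
    have hEc : IsMulCommutative (Subgroup.closure ({z, x} : Set Q)) :=
      Subgroup.isMulCommutative_closure hpair
    have hEcomm : ∀ a ∈ Subgroup.closure ({z, x} : Set Q),
        ∀ b ∈ Subgroup.closure ({z, x} : Set Q), a * b = b * a :=
      (Cfsg.Agent.Lib.Helper1.isMulCommutative_subgroup_iff _).mp hEc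
    have hEexp : ∀ a ∈ Subgroup.closure ({z, x} : Set Q), a ^ p = 1 := by
      intro a ha
      induction ha using Subgroup.closure_induction with
      | mem u hu =>
        rcases hu with rfl | rfl
        · exact hzp
        · exact hxp
      | one => exact one_pow p
      | mul u v hu hv ihu ihv =>
        have hc : Commute u v := hEcomm u hu v hv
        rw [hc.mul_pow, ihu, ihv, one_mul]
      | inv u hu ihu => rw [inv_pow, ihu, inv_one]
    have hzE : z ∈ Subgroup.closure ({z, x} : Set Q) := Subgroup.subset_closure (by simp)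
    have hxE : x ∈ Subgroup.closure ({z, x} : Set Q) := Subgroup.subset_closure (by simp)
    have hEcard : p ^ 2 ≤ Nat.card (Subgroup.closure ({z, x} : Set Q)) := by
      obtain ⟨e, he⟩ := (IsPGroup.iff_card).1 (hQ.to_subgroup (Subgroup.closure ({z, x} : Set Q)))
      rw [he]
      apply Nat.pow_le_pow_right hp.pos
      by_contra hcon
      push Not at hcon
      have hle : Subgroup.zpowers z ≤ Subgroup.closure ({z, x} : Set Q) := by
        rw [Subgroup.zpowers_le]; exact hzE
      have hcz : Nat.card (Subgroup.zpowers z) = p := by rw [Nat.card_zpowers, hzo]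
      have h1 : Subgroup.zpowers z = Subgroup.closure ({z, x} : Set Q) := by
        apply Subgroup.eq_of_le_of_card_ge hle
        rw [he, hcz]
        calc p ^ e ≤ p ^ 1 := Nat.pow_le_pow_right hp.pos (by omega)
          _ = p := pow_one p
      exact hxz (h1 ▸ hxE)
    obtain ⟨E', hE'E, hE'⟩ := Sylow.exists_subgroup_le_card_pow_prime_of_le_card hp hQ hEcard
    have hE'exp : ∀ a ∈ E', a ^ p = 1 := fun a ha => hEexp a (hE'E ha)
    have hexp : ∀ g : Q, g ^ p = 1 := by
      intro g
      obtain ⟨k, hk⟩ := (IsPGroup.iff_orderOf.1 hQ) g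
      by_cases hk1 : k ≤ 1
      · apply orderOf_dvd_iff_pow_eq_one.1
        rw [hk]
        calc p ^ k ∣ p ^ 1 := pow_dvd_pow p hk1
          _ = p := pow_one p
      · exfalso
        push Not at hk1
        have hd : p ^ (k - 2) ∣ orderOf g := by rw [hk]; exact pow_dvd_pow p (by omega)
        have ho : orderOf (g ^ (p ^ (k - 2))) = p ^ 2 := by
          rw [orderOf_pow_of_dvd (pow_pos hp.pos _).ne' hd, hk, Nat.pow_div (by omega) hp.pos]
          congr 1
          omega
        have hcC : Nat.card (Subgroup.zpowers (g ^ (p ^ (k - 2)))) = p ^ 2 := by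
          rw [Nat.card_zpowers, ho]
        obtain ⟨f⟩ := hiso E' (Subgroup.zpowers (g ^ (p ^ (k - 2)))) (by rw [hE', hcC])
        have h1 := pow_transfer f p hE'exp (g ^ (p ^ (k - 2))) (Subgroup.mem_zpowers _)
        have h2 := orderOf_dvd_of_pow_eq_one h1
        rw [ho] at h2
        have h3 := Nat.le_of_dvd hp.pos h2
        have h4 : p < p ^ 2 := by
          have := hp.two_le
          nlinarith
        omega
    by_cases hab : ∀ a b : Q, a * b = b * a
    · right; left
      exact ⟨hab, hexp⟩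
    · right; right; right
      have hp2 : p ≠ 2 := by
        intro h2
        apply hab
        intro a b
        have ha : a * a = 1 := by have := hexp a; rwa [h2, pow_two] at this
        have hb : b * b = 1 := by have := hexp b; rwa [h2, pow_two] at this
        have hab' : a * b * (a * b) = 1 := by have := hexp (a * b); rwa [h2, pow_two] at this
        calc a * b = a * (a * b * (a * b)) * b := by rw [hab', mul_one]
          _ = (a * a) * (b * a) * (b * b) := by group
          _ = b * a := by rw [ha, hb, one_mul, mul_one]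
      refine ⟨hp2, hab, ?_, ?_⟩
      · obtain ⟨H₃, hH₃, hH₃na⟩ := exists_nonabelian_cube hQ hexp hab
        have hm3 : 3 ≤ m := by
          have h1 := Subgroup.card_le_card_group H₃
          rw [hH₃, hm] at h1
          exact (Nat.pow_le_pow_iff_right hp.one_lt).1 h1
        by_cases hm4 : 4 ≤ m
        · exfalso
          obtain ⟨B, hB, hBc⟩ := exists_abelian_cube hQ m hm hm4
          obtain ⟨f⟩ := hiso B H₃ (by rw [hB, hH₃])
          exact hH₃na (comm_transfer f hBc)
        · have : m = 3 := by omega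
          rw [hm, this]
      · rw [Monoid.exponent_eq_prime_iff hp]
        intro g hg1
        have h1 : orderOf g ∣ p := orderOf_dvd_of_pow_eq_one (hexp g)
        rcases (Nat.dvd_prime hp).1 h1 with h | h
        · exact (hg1 (orderOf_eq_one_iff.1 h)).elim
        · exact h

/-- Let p be a prime and G a finite group in which any two p-subgroups of the same order are conjugate, with Sylow p-subgroup P. Then P is cyclic, or elementary abelian, or p = 2 and P is a quaternion group of order 8, or p is odd and P is non-abelian of order p³ and exponent p. -/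
theorem result {G : Type*} [Group G] [Finite G]
    {p : ℕ} [Fact p.Prime] (hC : ∀ H K : Subgroup G, IsPGroup p H → IsPGroup p K → Nat.card H = Nat.card K →
      ∃ g : G, K = H.map (MulAut.conj g).toMonoidHom) (P : Sylow p G) :
    IsCyclic P ∨ Cfsg.IsElementaryAbelian p (P : Subgroup G) ∨
      (p = 2 ∧ Nonempty ((P : Subgroup G) ≃* QuaternionGroup 2)) ∨
      (p ≠ 2 ∧ ¬ IsMulCommutative P ∧ Nat.card P = p ^ 3 ∧ Monoid.exponent P = p) := by
  have hQ : IsPGroup p ↥(P : Subgroup G) := P.isPGroup'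
  have hiso : ∀ H K : Subgroup ↥(P : Subgroup G), Nat.card H = Nat.card K →
      Nonempty (H ≃* K) := by
    intro H K hHK
    have hH' : IsPGroup p (H.map (P : Subgroup G).subtype) := (hQ.to_subgroup H).map _
    have hK' : IsPGroup p (K.map (P : Subgroup G).subtype) := (hQ.to_subgroup K).map _
    have hc : Nat.card (H.map (P : Subgroup G).subtype) =
        Nat.card (K.map (P : Subgroup G).subtype) := by
      rw [Subgroup.card_map_of_injective (Subgroup.subtype_injective _),
        Subgroup.card_map_of_injective (Subgroup.subtype_injective _), hHK]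
    obtain ⟨g, hg⟩ := hC _ _ hH' hK' hc
    let e1 := H.equivMapOfInjective _ (Subgroup.subtype_injective (P : Subgroup G))
    let e2 := (H.map (P : Subgroup G).subtype).equivMapOfInjective (MulAut.conj g).toMonoidHom
      (MulAut.conj g).injective
    let e3 := K.equivMapOfInjective _ (Subgroup.subtype_injective (P : Subgroup G))
    exact ⟨(e1.trans e2).trans ((MulEquiv.subgroupCongr hg.symm).trans e3.symm)⟩
  rcases abstract_main hQ hiso with h | h | h | h
  · left; exact h
  · right; left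
    refine ⟨⟨⟨fun a b => h.1 a b⟩⟩, fun a ha => ?_⟩
    have h1 := h.2 ⟨a, ha⟩
    exact congrArg Subtype.val h1
  · right; right; left; exact h
  · right; right; right
    obtain ⟨h1, h2, h3, h4⟩ := h
    refine ⟨h1, ?_, h3, h4⟩
    intro hc
    exact h2 (fun a b => hc.is_comm.comm a b)

end Cfsg.Agent.S4023
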