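import Cfsg.Statements.S4024
import Mathlib
import Cfsg.Agent.S4023
import Cfsg.Agent.Lib.Helper22.Sylow

set_option autoImplicit false
open Cfsg

namespace Cfsg.Agent.S4024

open Cfsg.Agent.Lib.Helper22

theorem isPSolvable_quot {X Y : Type*} [Group X] [Group Y] {p : ℕ} [Fact p.Prime]
    (f : X →* Y) (hf : Function.Surjective f) (h : Cfsg.IsPSolvable p X) :
    Cfsg.IsPSolvable p Y := by
  obtain ⟨n, H, h0, hlast, hmono, hnorm, hfac⟩ := h
  refine ⟨n, fun i => (H i).map f, ?_, ?_, ?_, ?_, ?_⟩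
  · show (H 0).map f = ⊥
    rw [h0, Subgroup.map_bot]
  · show (H (Fin.last n)).map f = ⊤
    rw [hlast, Subgroup.map_top_of_surjective f hf]
  · intro i j hij
    exact Subgroup.map_mono (hmono hij)
  · intro i
    exact Subgroup.Normal.map (hnorm i) f hf
  · intro i
    have hdvd : ((H i.castSucc).map f).relIndex ((H i.succ).map f) ∣
        (H i.castSucc).relIndex (H i.succ) := by
      rw [← Subgroup.relIndex_comap, Subgroup.comap_map_eq]
      exact Subgroup.relIndex_dvd_of_le_left (H i.succ) le_sup_left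
    rcases hfac i with ⟨m, hm⟩ | hcop
    · left
      rw [hm] at hdvd
      obtain ⟨j, _, hj⟩ := (Nat.dvd_prime_pow (Fact.out : p.Prime)).mp hdvd
      exact ⟨j, hj⟩
    · right
      exact Nat.Coprime.coprime_dvd_left hdvd hcop

theorem exists_normal_p_or_p' {X : Type*} [Group X] [Nontrivial X] {p : ℕ}
    (h : Cfsg.IsPSolvable p X) :
    ∃ M : Subgroup X, M.Normal ∧ M ≠ ⊥ ∧ ((∃ m : ℕ, Nat.card M = p ^ m) ∨ (Nat.card M).Coprime p) := by
  obtain ⟨n, H, h0, hlast, hmono, hnorm, hfac⟩ := h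
  by_contra hno
  push Not at hno
  have hall : ∀ (i : ℕ) (hi : i < n + 1), H ⟨i, hi⟩ = ⊥ := by
    intro i
    induction i with
    | zero => intro hi; exact h0
    | succ i ih =>
      intro hi
      have hi' : i < n := by omega
      have h1 := ih (by omega)
      by_contra hne
      have h2 := hfac ⟨i, hi'⟩
      have e1 : (⟨i, hi'⟩ : Fin n).castSucc = ⟨i, by omega⟩ := rfl
      have e2 : (⟨i, hi'⟩ : Fin n).succ = ⟨i + 1, hi⟩ := rfl
      rw [e1, e2, h1, Subgroup.relIndex_bot_left] at h2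
      have h3 := hno (H ⟨i + 1, hi⟩) (hnorm _) hne
      rcases h2 with h2 | h2
      · exact h3.1 h2.choose h2.choose_spec
      · exact h3.2 h2
  have h1 := hall n (by omega)
  have h2 : (⟨n, by omega⟩ : Fin (n + 1)) = Fin.last n := rfl
  rw [h2, hlast] at h1
  exact top_ne_bot h1

theorem normal_pgroup_le_sylow {X : Type*} [Group X] [Finite X] {p : ℕ} [Fact p.Prime]
    (M : Subgroup X) [hMn : M.Normal] (hM : IsPGroup p M) (P : Sylow p X) : M ≤ P := by
  obtain ⟨P', hP'⟩ := hM.exists_le_sylow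
  obtain ⟨g, hg⟩ := MulAction.exists_smul_eq X P' P
  intro m hm
  rw [← hg]
  show m ∈ ((g • P' : Sylow p X) : Subgroup X)
  rw [mem_smul_sylow_iff]
  apply hP'
  have := hMn.conj_mem m hm g⁻¹
  simpa using this


theorem zpowers_eq_of_mem {X : Type*} [Group X] {p : ℕ} (hp : p.Prime) (z w : X) (hz : z ^ p = 1)
    (hw : w ∈ Subgroup.zpowers z) (hw1 : w ≠ 1) : Subgroup.zpowers z = Subgroup.zpowers w := by
  have hz1 : z ≠ 1 := by
    intro h
    rw [h, Subgroup.zpowers_one_eq_bot, Subgroup.mem_bot] at hw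
    exact hw1 hw
  have hzo : orderOf z = p := by
    rcases (Nat.dvd_prime hp).1 (orderOf_dvd_of_pow_eq_one hz) with h | h
    · exact (hz1 (orderOf_eq_one_iff.1 h)).elim
    · exact h
  have hwp : w ^ p = 1 := by
    obtain ⟨k, rfl⟩ := Subgroup.mem_zpowers_iff.1 hw
    rw [← zpow_natCast, ← zpow_mul, mul_comm, zpow_mul, zpow_natCast, hz, one_zpow]
  have hwo : orderOf w = p := by
    rcases (Nat.dvd_prime hp).1 (orderOf_dvd_of_pow_eq_one hwp) with h | h
    · exact (hw1 (orderOf_eq_one_iff.1 h)).elim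
    · exact h
  have hfin : Finite (Subgroup.zpowers z) := by
    apply Nat.finite_of_card_ne_zero
    rw [Nat.card_zpowers, hzo]
    exact hp.ne_zero
  symm
  apply Subgroup.eq_of_le_of_card_ge
  · rw [Subgroup.zpowers_le]; exact hw
  · rw [Nat.card_zpowers, Nat.card_zpowers, hzo, hwo]

theorem claim.{u} (p : ℕ) [Fact p.Prime] : ∀ (N : ℕ) (X : Type u) [Group X] [Finite X],
    Nat.card X = N → Cfsg.IsPSolvable p X → ∀ (P : Sylow p X) (z : X), z ∈ P → z ≠ 1 →
    (∀ a ∈ P, a ^ p = 1) →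
    (∀ a ∈ P, a ≠ 1 → ∃ g : X, g * a * g⁻¹ ∈ Subgroup.zpowers z) →
    ∀ a ∈ P, ∀ b ∈ P, a * b = b * a := by
  have hp : p.Prime := Fact.out
  intro N
  induction N using Nat.strong_induction_on with
  | _ N ih =>
  intro X _ _ hN hsol P z hzP hz1 hexp hconj
  haveI : Nontrivial X := ⟨⟨z, 1, hz1⟩⟩
  obtain ⟨M, hMn, hMbot, hM⟩ := exists_normal_p_or_p' hsol
  rcases hM with ⟨e, hMe⟩ | hMcop
  · have hMp : IsPGroup p M := IsPGroup.of_card hMe
    have hMP : M ≤ P := normal_pgroup_le_sylow M hMp P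
    obtain ⟨⟨m, hmM⟩, hm1⟩ := (Subgroup.ne_bot_iff_exists_ne_one).1 hMbot
    have hm1' : m ≠ 1 := fun h => hm1 (Subtype.ext h)
    have hzp : z ^ p = 1 := hexp z hzP
    obtain ⟨g, hg⟩ := hconj m (hMP hmM) hm1'
    have hgM : g * m * g⁻¹ ∈ M := hMn.conj_mem m hmM g
    have hg1 : g * m * g⁻¹ ≠ 1 := by
      intro h
      apply hm1'
      have : m = g⁻¹ * (g * m * g⁻¹) * g := by group
      rw [this, h]; group
    have hzw := zpowers_eq_of_mem hp z _ hzp hg hg1
    have hzM : Subgroup.zpowers z ≤ M := by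
      rw [hzw, Subgroup.zpowers_le]; exact hgM
    have hPM : (P : Subgroup X) ≤ M := by
      intro a ha
      by_cases ha1 : a = 1
      · rw [ha1]; exact M.one_mem
      · obtain ⟨g', hg'⟩ := hconj a ha ha1
        have h1 := hMn.conj_mem _ (hzM hg') g'⁻¹
        have h2 : g'⁻¹ * (g' * a * g'⁻¹) * g'⁻¹⁻¹ = a := by group
        rwa [h2] at h1
    have hPn : ∀ a ∈ P, ∀ g' : X, g' * a * g'⁻¹ ∈ P := by
      intro a ha g'
      exact hMP (hMn.conj_mem a (hPM ha) g')
    have hPp : IsPGroup p (P : Subgroup X) := P.isPGroup'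
    haveI : Nontrivial (P : Subgroup X) := ⟨⟨⟨z, hzP⟩, 1, fun h => hz1 (congrArg Subtype.val h)⟩⟩
    obtain ⟨c, hcZ, hco⟩ := Cfsg.Agent.S4023.exists_central_prime hPp
    have hc1 : (c : X) ≠ 1 := by
      intro h
      have : c = 1 := Subtype.ext h
      rw [this, orderOf_one] at hco
      exact hp.one_lt.ne hco
    have hcc : ∀ b ∈ P, b * (c : X) = (c : X) * b := by
      intro b hb
      have := Subgroup.mem_center_iff.1 hcZ ⟨b, hb⟩
      exact congrArg Subtype.val this
    obtain ⟨g₂, hg₂⟩ := hconj c c.2 hc1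
    have hg₂1 : g₂ * c * g₂⁻¹ ≠ 1 := by
      intro h
      apply hc1
      have : (c : X) = g₂⁻¹ * (g₂ * c * g₂⁻¹) * g₂ := by group
      rw [this, h]; group
    have hzw₂ := zpowers_eq_of_mem hp z _ hzp hg₂ hg₂1
    have hwc : ∀ b ∈ P, b * (g₂ * c * g₂⁻¹) = (g₂ * c * g₂⁻¹) * b := by
      intro b hb
      have h1 := hcc (g₂⁻¹ * b * g₂⁻¹⁻¹) (hPn b hb g₂⁻¹)
      calc b * (g₂ * c * g₂⁻¹) = g₂ * ((g₂⁻¹ * b * g₂⁻¹⁻¹) * c) * g₂⁻¹ := by group
        _ = g₂ * (c * (g₂⁻¹ * b * g₂⁻¹⁻¹)) * g₂⁻¹ := by rw [h1]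
        _ = (g₂ * c * g₂⁻¹) * b := by group
    have hzcent : ∀ w ∈ Subgroup.zpowers z, ∀ b ∈ P, b * w = w * b := by
      intro w hw b hb
      rw [hzw₂] at hw
      obtain ⟨k, rfl⟩ := Subgroup.mem_zpowers_iff.1 hw
      have : Commute b (g₂ * c * g₂⁻¹) := hwc b hb
      exact (this.zpow_right k).eq
    intro a ha b hb
    by_cases ha1 : a = 1
    · rw [ha1]; simp
    · obtain ⟨g₃, hg₃⟩ := hconj a ha ha1
      have h1 := hzcent _ hg₃ (g₃ * b * g₃⁻¹) (hPn b hb g₃)
      have h2 : g₃ * (b * a) * g₃⁻¹ = g₃ * (a * b) * g₃⁻¹ := by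
        calc g₃ * (b * a) * g₃⁻¹ = (g₃ * b * g₃⁻¹) * (g₃ * a * g₃⁻¹) := by group
          _ = (g₃ * a * g₃⁻¹) * (g₃ * b * g₃⁻¹) := h1
          _ = g₃ * (a * b) * g₃⁻¹ := by group
      have h3 := mul_left_cancel (mul_right_cancel h2)
      exact h3.symm
  · have hdisj : M ⊓ (P : Subgroup X) = ⊥ := by
      apply (Subgroup.disjoint_of_coprime_natCard _).eq_bot
      obtain ⟨e, he⟩ := (IsPGroup.iff_card).1 P.isPGroup'
      rw [he]
      exact Nat.Coprime.pow_right e hMcop
    have hcardlt : Nat.card (X ⧸ M) < N := by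
      have h1 := M.card_mul_index
      rw [Subgroup.index_eq_card] at h1
      have h2 : 1 < Nat.card M := (Subgroup.one_lt_card_iff_ne_bot M).2 hMbot
      rw [← hN, ← h1]
      have h3 : 0 < Nat.card (X ⧸ M) := Nat.card_pos
      nlinarith
    have hsol' : Cfsg.IsPSolvable p (X ⧸ M) :=
      isPSolvable_quot (QuotientGroup.mk' M) (QuotientGroup.mk'_surjective M) hsol
    have hmemP : ∀ x : X ⧸ M, x ∈ P.mapSurjective (QuotientGroup.mk'_surjective M) ↔
        x ∈ (P : Subgroup X).map (QuotientGroup.mk' M) := by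
      intro x
      have h1 : x ∈ P.mapSurjective (QuotientGroup.mk'_surjective M) ↔
          x ∈ ((P.mapSurjective (QuotientGroup.mk'_surjective M) : Sylow p (X ⧸ M)) :
            Subgroup (X ⧸ M)) := Iff.rfl
      rw [h1, Sylow.coe_mapSurjective]
    have hbar := ih (Nat.card (X ⧸ M)) hcardlt (X ⧸ M) rfl hsol'
      (P.mapSurjective (QuotientGroup.mk'_surjective M)) (QuotientGroup.mk' M z)
      (by
        rw [hmemP]
        exact Subgroup.mem_map_of_mem _ hzP)
      (by
        intro h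
        have h1 : z ∈ M := (QuotientGroup.eq_one_iff z).1 h
        have h2 : z ∈ M ⊓ (P : Subgroup X) := ⟨h1, hzP⟩
        rw [hdisj, Subgroup.mem_bot] at h2
        exact hz1 h2)
      (by
        intro a ha
        rw [hmemP] at ha
        obtain ⟨a', ha', rfl⟩ := Subgroup.mem_map.1 ha
        rw [← map_pow, hexp a' ha', map_one])
      (by
        intro a ha ha1
        rw [hmemP] at ha
        obtain ⟨a', ha', rfl⟩ := Subgroup.mem_map.1 ha
        have ha'1 : a' ≠ 1 := by
          intro h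
          rw [h, map_one] at ha1
          exact ha1 rfl
        obtain ⟨g, hg⟩ := hconj a' ha' ha'1
        refine ⟨QuotientGroup.mk' M g, ?_⟩
        rw [← map_inv, ← map_mul, ← map_mul, ← MonoidHom.map_zpowers]
        exact Subgroup.mem_map_of_mem _ hg)
    intro a ha b hb
    have h1 := hbar (QuotientGroup.mk' M a)
      (by rw [hmemP]; exact Subgroup.mem_map_of_mem _ ha)
      (QuotientGroup.mk' M b)
      (by rw [hmemP]; exact Subgroup.mem_map_of_mem _ hb)
    rw [← map_mul, ← map_mul] at h1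
    have h2 : (a * b) * (b * a)⁻¹ ∈ M := by
      rw [← QuotientGroup.eq_one_iff]
      have : ((a * b * (b * a)⁻¹ : X) : X ⧸ M) =
          QuotientGroup.mk' M (a * b) * (QuotientGroup.mk' M (b * a))⁻¹ := by
        simp
      rw [this, h1, mul_inv_cancel]
    have h3 : (a * b) * (b * a)⁻¹ ∈ M ⊓ (P : Subgroup X) :=
      ⟨h2, Subgroup.mul_mem _ (Subgroup.mul_mem _ ha hb)
        (Subgroup.inv_mem _ (Subgroup.mul_mem _ hb ha))⟩
    rw [hdisj, Subgroup.mem_bot] at h3
    exact mul_inv_eq_one.1 h3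

theorem card_center_of_card_cube {Q : Type*} [Group Q] [Finite Q] {p : ℕ} [Fact p.Prime]
    (hcard : Nat.card Q = p ^ 3) (hna : ¬ IsMulCommutative Q) :
    Nat.card (Subgroup.center Q) = p := by
  have hp : p.Prime := Fact.out
  have hQ : IsPGroup p Q := IsPGroup.of_card hcard
  haveI : Nontrivial Q := by
    rw [← Finite.one_lt_card_iff_nontrivial, hcard]
    exact Nat.one_lt_pow (by norm_num) hp.one_lt
  haveI := hQ.center_nontrivial
  have h1 : 1 < Nat.card (Subgroup.center Q) :=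
    (Finite.one_lt_card_iff_nontrivial (α := Subgroup.center Q)).2 inferInstance
  have hdvd : Nat.card (Subgroup.center Q) ∣ p ^ 3 := hcard ▸ Subgroup.card_subgroup_dvd_card _
  obtain ⟨k, hk3, hk⟩ := (Nat.dvd_prime_pow hp).1 hdvd
  have hidx := (Subgroup.center Q).card_mul_index
  interval_cases k
  · rw [hk] at h1; norm_num at h1
  · rw [hk, pow_one]
  · exfalso
    rw [hk, hcard] at hidx
    have h2 : (Subgroup.center Q).index = p := by
      have h3 : p ^ 3 = p ^ 2 * p := by ring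
      rw [h3] at hidx
      exact Nat.eq_of_mul_eq_mul_left (pow_pos hp.pos 2) hidx
    have h4 : Nat.card (Q ⧸ Subgroup.center Q) = p := by rw [← Subgroup.index_eq_card]; exact h2
    haveI := isCyclic_of_prime_card h4
    apply hna
    apply MonoidHom.isMulCommutative_of_isCyclic_of_ker_le_center
      (QuotientGroup.mk' (Subgroup.center Q))
    rw [QuotientGroup.ker_mk']
  · exfalso
    apply hna
    have htop : Subgroup.center Q = ⊤ := by
      apply Subgroup.eq_top_of_card_eq
      rw [hk, hcard]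
    refine ⟨⟨fun a b => ?_⟩⟩
    have ha : a ∈ Subgroup.center Q := htop ▸ Subgroup.mem_top a
    exact (Subgroup.mem_center_iff.1 ha b).symm

/-- Let p be an odd prime and G a finite group in which any two p-subgroups of the same order are conjugate, with Sylow p-subgroup P. If H is a normal p-solvable subgroup of G whose order is divisible by p, then P is abelian, and either P ≤ H or P is cyclic. -/
theorem result {G : Type*} [Group G] [Finite G]
    {p : ℕ} [Fact p.Prime] (hp : p ≠ 2) (hC : ∀ H K : Subgroup G, IsPGroup p H → IsPGroup p K → Nat.card H = Nat.card K →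
      ∃ g : G, K = H.map (MulAut.conj g).toMonoidHom) (P : Sylow p G)
    (H : Subgroup G) [H.Normal] (hsolv : Cfsg.IsPSolvable p H) (hdiv : p ∣ Nat.card H) :
    IsMulCommutative P ∧ ((P : Subgroup G) ≤ H ∨ IsCyclic P) := by
  have hpp : p.Prime := Fact.out
  have hHn : H.Normal := inferInstance
  have hord : ∀ a : G, a ^ p = 1 → a ≠ 1 → orderOf a = p := by
    intro a hap ha1
    rcases (Nat.dvd_prime hpp).1 (orderOf_dvd_of_pow_eq_one hap) with h | h
    · exact (ha1 (orderOf_eq_one_iff.1 h)).elim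
    · exact h
  have hLH : (∀ a ∈ (P : Subgroup G), a ^ p = 1) → (P : Subgroup G) ≤ H := by
    intro hexp a ha
    by_cases ha1 : a = 1
    · rw [ha1]; exact H.one_mem
    obtain ⟨h, hh⟩ := exists_prime_orderOf_dvd_card' p hdiv
    have hao : orderOf a = p := hord a (hexp a ha) ha1
    have c1 : Nat.card (Subgroup.zpowers (h : G)) = p := by
      rw [Nat.card_zpowers, Subgroup.orderOf_coe, hh]
    have c2 : Nat.card (Subgroup.zpowers a) = p := by rw [Nat.card_zpowers, hao]
    obtain ⟨g, hg⟩ := hC (Subgroup.zpowers (h : G)) (Subgroup.zpowers a)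
      (IsPGroup.of_card (n := 1) (by rw [c1, pow_one]))
      (IsPGroup.of_card (n := 1) (by rw [c2, pow_one])) (c1.trans c2.symm)
    have h1 : a ∈ (Subgroup.zpowers (h : G)).map (MulAut.conj g).toMonoidHom :=
      hg ▸ Subgroup.mem_zpowers a
    obtain ⟨w, hw, rfl⟩ := Subgroup.mem_map.1 h1
    have hwH : w ∈ H := (Subgroup.zpowers_le.2 h.2) hw
    exact hHn.conj_mem w hwH g
  rcases Cfsg.Agent.S4023.result hC P with h1 | h1 | h1 | h1
  · haveI := h1
    exact ⟨IsCyclic.isMulCommutative, Or.inr h1⟩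
  · obtain ⟨hc, hexp⟩ := h1
    exact ⟨hc, Or.inl (hLH hexp)⟩
  · exact (hp h1.1).elim
  · exfalso
    obtain ⟨_, hna, hcard, hexpo⟩ := h1
    have hexp : ∀ a ∈ (P : Subgroup G), a ^ p = 1 := by
      intro a ha
      have h2 := Monoid.pow_exponent_eq_one (⟨a, ha⟩ : (P : Subgroup G))
      rw [hexpo] at h2
      exact congrArg Subtype.val h2
    have hPH := hLH hexp
    have hcZ := card_center_of_card_cube hcard hna
    haveI := isCyclic_of_prime_card hcZ
    obtain ⟨⟨⟨z, hzP⟩, hzZ⟩, hzgen⟩ :=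
      IsCyclic.exists_generator (α := Subgroup.center (P : Subgroup G))
    have hz1 : z ≠ 1 := by
      intro h
      have h2 : ∀ x : Subgroup.center (P : Subgroup G), x = 1 := by
        intro x
        have h3 := hzgen x
        obtain ⟨k, hk⟩ := Subgroup.mem_zpowers_iff.1 h3
        rw [← hk]
        have h4 : (⟨⟨z, hzP⟩, hzZ⟩ : Subgroup.center (P : Subgroup G)) = 1 := by
          apply Subtype.ext; apply Subtype.ext; exact h
        rw [h4, one_zpow]
      have h5 : Nat.card (Subgroup.center (P : Subgroup G)) = 1 := by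
        rw [Nat.card_eq_one_iff_unique]
        exact ⟨⟨fun a b => by rw [h2 a, h2 b]⟩, ⟨1⟩⟩
      rw [hcZ] at h5
      exact hpp.one_lt.ne' h5
    have hzp : z ^ p = 1 := hexp z hzP
    have hzc : ∀ c ∈ (P : Subgroup G), c * z = z * c := by
      intro c hc
      have h2 := Subgroup.mem_center_iff.1 hzZ ⟨c, hc⟩
      exact congrArg Subtype.val h2
    have hcenter_mem : ∀ w : G, w ∈ (P : Subgroup G) →
        (∀ c ∈ (P : Subgroup G), c * w = w * c) → w ∈ Subgroup.zpowers z := by
      intro w hw hwc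
      have hwZ : (⟨w, hw⟩ : (P : Subgroup G)) ∈ Subgroup.center (P : Subgroup G) := by
        rw [Subgroup.mem_center_iff]
        intro c
        exact Subtype.ext (hwc c c.2)
      obtain ⟨k, hk⟩ := Subgroup.mem_zpowers_iff.1 (hzgen ⟨⟨w, hw⟩, hwZ⟩)
      rw [Subgroup.mem_zpowers_iff]
      refine ⟨k, ?_⟩
      have h2 := congrArg (fun x : Subgroup.center (P : Subgroup G) => ((x : (P : Subgroup G)) : G)) hk
      simpa using h2
    have hnz : ∀ n ∈ Subgroup.normalizer ((P : Subgroup G) : Set G), ∀ w ∈ Subgroup.zpowers z,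
        n * w * n⁻¹ ∈ Subgroup.zpowers z := by
      intro n hn w hw
      have hnP : ∀ c ∈ (P : Subgroup G), n * c * n⁻¹ ∈ (P : Subgroup G) :=
        fun c hc => (Subgroup.mem_normalizer_iff.1 hn c).1 hc
      have hnP' : ∀ c ∈ (P : Subgroup G), n⁻¹ * c * n ∈ (P : Subgroup G) := by
        intro c hc
        have h2 := (Subgroup.mem_normalizer_iff.1 hn (n⁻¹ * c * n)).2
          (by
            have : n * (n⁻¹ * c * n) * n⁻¹ = c := by group
            rw [this]; exact hc)
        exact h2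
      obtain ⟨k, rfl⟩ := Subgroup.mem_zpowers_iff.1 hw
      have hzkP : z ^ k ∈ (P : Subgroup G) := Subgroup.zpow_mem _ hzP k
      apply hcenter_mem _ (hnP _ hzkP)
      intro c hc
      have h2 : Commute (n⁻¹ * c * n) z := hzc _ (hnP' c hc)
      have h3 := (h2.zpow_right k).eq
      calc c * (n * z ^ k * n⁻¹) = n * ((n⁻¹ * c * n) * z ^ k) * n⁻¹ := by group
        _ = n * (z ^ k * (n⁻¹ * c * n)) * n⁻¹ := by rw [h3]
        _ = (n * z ^ k * n⁻¹) * c := by group
    have hfr : Subgroup.normalizer ((P : Subgroup G) : Set G) ⊔ H = ⊤ := by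
      have h2 := Sylow.normalizer_sup_eq_top (P.subtype hPH)
      rw [Sylow.coe_subtype, Subgroup.subgroupOf_map_subtype, inf_eq_left.2 hPH] at h2
      exact h2
    have hconjH : ∀ b ∈ (P : Subgroup G), b ≠ 1 → ∃ h ∈ H, h * b * h⁻¹ ∈ Subgroup.zpowers z := by
      intro b hb hb1
      have hbo : orderOf b = p := hord b (hexp b hb) hb1
      have hzo : orderOf z = p := hord z hzp hz1
      have c1 : Nat.card (Subgroup.zpowers b) = p := by rw [Nat.card_zpowers, hbo]
      have c2 : Nat.card (Subgroup.zpowers z) = p := by rw [Nat.card_zpowers, hzo]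
      obtain ⟨g, hg⟩ := hC (Subgroup.zpowers b) (Subgroup.zpowers z)
        (IsPGroup.of_card (n := 1) (by rw [c1, pow_one]))
        (IsPGroup.of_card (n := 1) (by rw [c2, pow_one])) (c1.trans c2.symm)
      have h2 : g * b * g⁻¹ ∈ Subgroup.zpowers z := by
        rw [hg]
        exact Subgroup.mem_map.2 ⟨b, Subgroup.mem_zpowers b, rfl⟩
      have hgtop : g ∈ Subgroup.normalizer ((P : Subgroup G) : Set G) ⊔ H :=
        hfr ▸ Subgroup.mem_top g
      rw [← SetLike.mem_coe, Subgroup.mul_normal] at hgtop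
      obtain ⟨n, hn, h, hh, rfl⟩ := Set.mem_mul.1 hgtop
      refine ⟨h, hh, ?_⟩
      have hn' : n⁻¹ ∈ Subgroup.normalizer ((P : Subgroup G) : Set G) := Subgroup.inv_mem _ hn
      have h3 := hnz n⁻¹ hn' _ h2
      have h4 : n⁻¹ * (n * h * b * (n * h)⁻¹) * n⁻¹⁻¹ = h * b * h⁻¹ := by group
      rwa [h4] at h3
    have hmemS : ∀ x : H, x ∈ P.subtype hPH ↔ (x : G) ∈ (P : Subgroup G) := by
      intro x
      have h2 : x ∈ P.subtype hPH ↔ x ∈ ((P.subtype hPH : Sylow p H) : Subgroup H) := Iff.rfl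
      rw [h2, Sylow.coe_subtype, Subgroup.mem_subgroupOf]
    have hcl := claim p (Nat.card H) H rfl hsolv (P.subtype hPH) ⟨z, hPH hzP⟩
      (by rw [hmemS]; exact hzP)
      (fun h => hz1 (congrArg Subtype.val h))
      (by
        intro a ha
        rw [hmemS] at ha
        exact Subtype.ext (by simpa using hexp _ ha))
      (by
        intro a ha ha1
        rw [hmemS] at ha
        have ha1' : (a : G) ≠ 1 := fun h => ha1 (Subtype.ext h)
        obtain ⟨h, hh, hh2⟩ := hconjH _ ha ha1'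
        refine ⟨⟨h, hh⟩, ?_⟩
        obtain ⟨k, hk⟩ := Subgroup.mem_zpowers_iff.1 hh2
        rw [Subgroup.mem_zpowers_iff]
        refine ⟨k, ?_⟩
        apply Subtype.ext
        simpa using hk)
    apply hna
    refine ⟨⟨fun a b => ?_⟩⟩
    have h2 := hcl ⟨a, hPH a.2⟩ (by rw [hmemS]; exact a.2) ⟨b, hPH b.2⟩ (by rw [hmemS]; exact b.2)
    apply Subtype.ext
    have h3 := congrArg (fun x : H => (x : G)) h2
    simpa using h3

end Cfsg.Agent.S4024
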