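import Cfsg.Statements.S1160
import Cfsg.Agent.S3977

set_option autoImplicit false
open Cfsg

namespace Cfsg.Agent.S1160

universe u

theorem zpowers_normal {P : Type*} [Group P] (z : P) (hz : z ∈ Subgroup.center P) :
    (Subgroup.zpowers z).Normal := by
  constructor
  intro n hn g
  have hc : n ∈ Subgroup.center P := (Subgroup.zpowers_le.2 hz) hn
  rw [Subgroup.mem_center_iff] at hc
  have h : g * n * g⁻¹ = n := by
    rw [hc g]
    group
  rw [h]
  exact hn

theorem zpowers_eq_of_mem {P : Type*} [Group P] [Finite P] {p : ℕ} (hp : p.Prime) {z w : P}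
    (hz : orderOf z = p) (hw : w ∈ Subgroup.zpowers z) (hw1 : w ≠ 1) :
    Subgroup.zpowers w = Subgroup.zpowers z := by
  have hle : Subgroup.zpowers w ≤ Subgroup.zpowers z := Subgroup.zpowers_le.2 hw
  apply Subgroup.eq_of_le_of_card_ge hle
  rw [Nat.card_zpowers, Nat.card_zpowers, hz]
  have hwp : w ^ p = 1 := by
    obtain ⟨k, rfl⟩ := Subgroup.mem_zpowers_iff.1 hw
    rw [← zpow_natCast, ← zpow_mul, mul_comm, zpow_mul, zpow_natCast, ← hz, pow_orderOf_eq_one,
      one_zpow]
  have hdvd : orderOf w ∣ p := orderOf_dvd_of_pow_eq_one hwp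
  rcases (Nat.dvd_prime hp).1 hdvd with h | h
  · exact absurd (orderOf_eq_one_iff.1 h) hw1
  · exact h.ge

theorem central_mod {P : Type*} [Group P] (Z : Subgroup P) [Z.Normal] (x : P)
    (hx : (QuotientGroup.mk x : P ⧸ Z) ∈ Subgroup.center (P ⧸ Z)) (g : P) :
    g * x * g⁻¹ * x⁻¹ ∈ Z ∧ x * g * x⁻¹ * g⁻¹ ∈ Z := by
  rw [Subgroup.mem_center_iff] at hx
  have h := hx (QuotientGroup.mk g)
  constructor
  · rw [← QuotientGroup.eq_one_iff]
    simp only [QuotientGroup.mk_mul, QuotientGroup.mk_inv]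
    rw [h]
    group
  · rw [← QuotientGroup.eq_one_iff]
    simp only [QuotientGroup.mk_mul, QuotientGroup.mk_inv]
    rw [← h]
    group

theorem pow_eq_one_of_mem {P : Type*} [Group P] {p : ℕ} {z c : P} (hz : orderOf z = p)
    (hc : c ∈ Subgroup.zpowers z) : c ^ p = 1 := by
  obtain ⟨k, rfl⟩ := Subgroup.mem_zpowers_iff.1 hc
  rw [← zpow_natCast, ← zpow_mul, mul_comm, zpow_mul, zpow_natCast, ← hz, pow_orderOf_eq_one,
    one_zpow]

theorem class_two_pow {P : Type*} [Group P] {p : ℕ} (hp : p.Prime) (hp2 : p ≠ 2) {z : P}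
    (hz : z ∈ Subgroup.center P) (hzo : orderOf z = p) (x y : P)
    (hc : x * y * x⁻¹ * y⁻¹ ∈ Subgroup.zpowers z) : (x * y) ^ p = x ^ p * y ^ p := by
  have hcen : x * y * x⁻¹ * y⁻¹ ∈ Subgroup.center P := (Subgroup.zpowers_le.2 hz) hc
  rw [Subgroup.mem_center_iff] at hcen
  have h := Cfsg.Agent.S3977.mul_pow_class_two x y (x * y * x⁻¹ * y⁻¹) hcen (by group) p
  have hodd : p % 2 = 1 := by
    rcases hp.eq_two_or_odd with h2 | h2
    · exact absurd h2 hp2
    · exact h2
  have h2 : p * (p - 1) / 2 = p * ((p - 1) / 2) := by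
    apply Nat.mul_div_assoc
    omega
  rw [h2, pow_mul, pow_eq_one_of_mem hzo hc, one_pow, mul_one] at h
  exact h

theorem comm_central {Q : Type*} [Group Q] (g y c : Q) (hc : ∀ x : Q, x * c = c * x) :
    g * (y * c) * g⁻¹ * (y * c)⁻¹ = g * y * g⁻¹ * y⁻¹ := by
  calc g * (y * c) * g⁻¹ * (y * c)⁻¹ = g * y * (c * g⁻¹) * c⁻¹ * y⁻¹ := by group
    _ = g * y * (g⁻¹ * c) * c⁻¹ * y⁻¹ := by rw [hc g⁻¹]
    _ = g * y * g⁻¹ * y⁻¹ := by group

theorem exists_good (p : ℕ) (hp : p.Prime) (hp2 : p ≠ 2) :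
    ∀ (n : ℕ) (P : Type u) [Group P] [Finite P], Nat.card P = n → IsPGroup p P → ¬ IsCyclic P →
      ∀ z : P, z ∈ Subgroup.center P → orderOf z = p →
        ∃ y : P, y ^ p = 1 ∧ y ∉ Subgroup.zpowers z ∧
          ∀ g : P, g * y * g⁻¹ * y⁻¹ ∈ Subgroup.zpowers z := by
  intro n
  induction n using Nat.strong_induction_on with
  | _ n ih =>
  intro P _ _ hcard hP hnc z hz hzo
  have : Fact p.Prime := ⟨hp⟩
  by_contra H0
  push Not at H0
  have H1 : ∀ y : P, y ^ p = 1 → (∀ g : P, g * y * g⁻¹ * y⁻¹ ∈ Subgroup.zpowers z) →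
      y ∈ Subgroup.zpowers z := by
    intro y hy hg
    by_contra hyn
    obtain ⟨g, hg'⟩ := H0 y hy hyn
    exact hg' (hg g)
  have hZn : (Subgroup.zpowers z).Normal := zpowers_normal z hz
  have hZcard : Nat.card (Subgroup.zpowers z) = p := by rw [Nat.card_zpowers, hzo]
  have hZle : Subgroup.zpowers z ≤ Subgroup.center P := Subgroup.zpowers_le.2 hz
  have hQcard : Nat.card (P ⧸ Subgroup.zpowers z) * p = n := by
    rw [← hZcard, ← hcard]
    exact (Subgroup.card_eq_card_quotient_mul_card_subgroup _).symm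
  have hQp : IsPGroup p (P ⧸ Subgroup.zpowers z) := hP.to_quotient _
  by_cases hQc : IsCyclic (P ⧸ Subgroup.zpowers z)
  · have hcomm : ∀ a b : P, a * b = b * a := by
      have hmc := MonoidHom.isMulCommutative_of_isCyclic_of_ker_le_center
        (QuotientGroup.mk' (Subgroup.zpowers z)) (by rw [QuotientGroup.ker_mk']; exact hZle)
      intro a b
      exact hmc.is_comm.comm a b
    have Hall : ∀ y : P, y ^ p = 1 → y ∈ Subgroup.zpowers z := by
      intro y hy
      apply H1 y hy
      intro g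
      have h1 : g * y * g⁻¹ * y⁻¹ = 1 := by
        rw [hcomm g y]
        group
      rw [h1]
      exact one_mem _
    obtain ⟨m, hm⟩ := (IsPGroup.iff_card).1 hP
    have hm2 : 1 < m := by
      by_contra hlt
      push Not at hlt
      interval_cases m
      · apply hnc
        have : Subsingleton P := (Nat.card_eq_one_iff_unique.1 (by simpa using hm)).1
        exact isCyclic_of_subsingleton
      · apply hnc
        exact isCyclic_of_prime_card (p := p) (by simpa using hm)
    apply hnc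
    refine Cfsg.Agent.S3977.result p m 1 hp hm (le_refl 1) hm2 (Or.inl hp2) ?_
    have key : ∀ L : Subgroup P, Nat.card L = p ^ 1 → L = Subgroup.zpowers z := by
      intro L hL
      rw [pow_one] at hL
      apply Subgroup.eq_of_le_of_card_ge
      · intro h hh
        apply Hall
        have h1 := pow_card_eq_one' (G := L) (x := ⟨h, hh⟩)
        rw [hL] at h1
        have h2 := congrArg Subtype.val h1
        simpa using h2
      · rw [hZcard, hL]
    intro H K hH hK
    rw [key H hH, key K hK]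
  · have : Nontrivial (P ⧸ Subgroup.zpowers z) := by
      by_contra hnt
      rw [not_nontrivial_iff_subsingleton] at hnt
      exact hQc isCyclic_of_subsingleton
    have hcn : Nontrivial (Subgroup.center (P ⧸ Subgroup.zpowers z)) := hQp.center_nontrivial
    have hcp : IsPGroup p (Subgroup.center (P ⧸ Subgroup.zpowers z)) := hQp.to_subgroup _
    obtain ⟨zb, hzb⟩ : ∃ x : Subgroup.center (P ⧸ Subgroup.zpowers z), orderOf x = p := by
      apply exists_prime_orderOf_dvd_card' p
      obtain ⟨k, hk⟩ := (IsPGroup.iff_card).1 hcp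
      rw [hk]
      have hk0 : k ≠ 0 := by
        rintro rfl
        have h1 : Nat.card (Subgroup.center (P ⧸ Subgroup.zpowers z)) = 1 := by simpa using hk
        have h2 := Finite.one_lt_card_iff_nontrivial.2 hcn
        omega
      exact dvd_pow_self p hk0
    have hzbo : orderOf (zb : P ⧸ Subgroup.zpowers z) = p := by
      rw [Subgroup.orderOf_coe]
      exact hzb
    have hlt : Nat.card (P ⧸ Subgroup.zpowers z) < n := by
      have h2 : 2 ≤ p := hp.two_le
      have hpos : 0 < Nat.card (P ⧸ Subgroup.zpowers z) := Nat.card_pos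
      nlinarith
    obtain ⟨yb, hybp, hybn, hybc⟩ := ih (Nat.card (P ⧸ Subgroup.zpowers z)) hlt
      (P ⧸ Subgroup.zpowers z) rfl hQp hQc (zb : P ⧸ Subgroup.zpowers z) zb.2 hzbo
    obtain ⟨t, ht⟩ := QuotientGroup.mk_surjective (zb : P ⧸ Subgroup.zpowers z)
    obtain ⟨u, hu⟩ := QuotientGroup.mk_surjective yb
    have htc : ∀ (j : ℤ) (g : P), g * t ^ j * g⁻¹ * (t ^ j)⁻¹ ∈ Subgroup.zpowers z ∧
        t ^ j * g * (t ^ j)⁻¹ * g⁻¹ ∈ Subgroup.zpowers z := by
      intro j g
      apply central_mod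
      rw [QuotientGroup.mk_zpow, ht]
      exact Subgroup.zpow_mem _ zb.2 j
    have htnZ : t ∉ Subgroup.zpowers z := by
      intro h
      have h1 : (zb : P ⧸ Subgroup.zpowers z) = 1 := by
        rw [← ht]
        exact (QuotientGroup.eq_one_iff t).2 h
      rw [h1, orderOf_one] at hzbo
      exact hp.one_lt.ne hzbo
    have htp : t ^ p ∈ Subgroup.zpowers z := by
      rw [← QuotientGroup.eq_one_iff, QuotientGroup.mk_pow, ht, ← hzbo, pow_orderOf_eq_one]
    have htp1 : t ^ p ≠ 1 := by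
      intro h
      apply htnZ
      apply H1 t h
      intro g
      have := (htc 1 g).1
      simpa using this
    have hgen : Subgroup.zpowers (t ^ p) = Subgroup.zpowers z := zpowers_eq_of_mem hp hzo htp htp1
    have hup : u ^ p ∈ Subgroup.zpowers z := by
      rw [← QuotientGroup.eq_one_iff, QuotientGroup.mk_pow, hu, hybp]
    obtain ⟨k, hk⟩ : ∃ k : ℤ, (t ^ p) ^ k = u ^ p := by
      rw [← hgen] at hup
      exact Subgroup.mem_zpowers_iff.1 hup
    have hb : (u * t ^ (-k)) ^ p = 1 := by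
      have h1 := class_two_pow hp hp2 hz hzo u (t ^ (-k)) (htc (-k) u).1
      rw [h1]
      have h2 : (t ^ (-k)) ^ p = ((t ^ p) ^ k)⁻¹ := by
        rw [← zpow_natCast, ← zpow_mul, ← zpow_natCast t p, ← zpow_mul, ← zpow_neg]
        congr 1
        ring
      rw [h2, hk, mul_inv_cancel]
    have hbnZ : u * t ^ (-k) ∉ Subgroup.zpowers z := by
      intro h
      have h1 : ((u * t ^ (-k) : P) : P ⧸ Subgroup.zpowers z) = 1 :=
        (QuotientGroup.eq_one_iff _).2 h
      rw [QuotientGroup.mk_mul, QuotientGroup.mk_zpow, hu, ht] at h1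
      apply hybn
      have h2 : yb = (zb : P ⧸ Subgroup.zpowers z) ^ k := by
        rw [zpow_neg] at h1
        exact mul_inv_eq_one.1 h1
      rw [h2]
      exact Subgroup.zpow_mem_zpowers _ k
    obtain ⟨g, hg⟩ := H0 (u * t ^ (-k)) hb hbnZ
    obtain ⟨m, hm⟩ : ∃ m : ℤ, (zb : P ⧸ Subgroup.zpowers z) ^ m =
        ((g * (u * t ^ (-k)) * g⁻¹ * (u * t ^ (-k))⁻¹ : P) : P ⧸ Subgroup.zpowers z) := by
      have h1 := hybc (g : P ⧸ Subgroup.zpowers z)
      have hzc := zb.2
      rw [Subgroup.mem_center_iff] at hzc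
      have h2 : ((g * (u * t ^ (-k)) * g⁻¹ * (u * t ^ (-k))⁻¹ : P) : P ⧸ Subgroup.zpowers z)
          = (g : P ⧸ Subgroup.zpowers z) * yb * (g : P ⧸ Subgroup.zpowers z)⁻¹ * yb⁻¹ := by
        simp only [QuotientGroup.mk_mul, QuotientGroup.mk_inv, QuotientGroup.mk_zpow, hu, ht]
        apply comm_central
        intro x
        have : Commute x (zb : P ⧸ Subgroup.zpowers z) := hzc x
        exact (this.zpow_right (-k)).eq
      rw [h2]
      exact Subgroup.mem_zpowers_iff.1 h1
    have hw : g * (u * t ^ (-k)) * g⁻¹ * (u * t ^ (-k))⁻¹ * (t ^ m)⁻¹ ∈ Subgroup.zpowers z := by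
      rw [← QuotientGroup.eq_one_iff, QuotientGroup.mk_mul, ← hm, QuotientGroup.mk_inv,
        QuotientGroup.mk_zpow, ht, mul_inv_cancel]
    set b := u * t ^ (-k) with hbdef
    set w := g * b * g⁻¹ * b⁻¹ * (t ^ m)⁻¹ with hwdef
    have hconj : g * b * g⁻¹ = w * (t ^ m * b) := by
      rw [hwdef]
      group
    have h3 : (g * b * g⁻¹) ^ p = 1 := by
      rw [conj_pow, hb]
      group
    have hwc : ∀ x : P, x * w = w * x := by
      have := hZle hw
      rwa [Subgroup.mem_center_iff] at this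
    have h4 : (w * (t ^ m * b)) ^ p = w ^ p * (t ^ m * b) ^ p := by
      have : Commute w (t ^ m * b) := (hwc (t ^ m * b)).symm
      exact this.mul_pow p
    have h5 : (t ^ m * b) ^ p = (t ^ m) ^ p := by
      rw [class_two_pow hp hp2 hz hzo (t ^ m) b (htc m b).2, hb, mul_one]
    rw [hconj, h4, pow_eq_one_of_mem hzo hw, one_mul, h5] at h3
    have h6 : (t ^ p) ^ m = 1 := by
      rw [← h3, ← zpow_natCast (t ^ m), ← zpow_mul, ← zpow_natCast t p, ← zpow_mul, mul_comm]
    have h7 : (orderOf (t ^ p) : ℤ) ∣ m := orderOf_dvd_iff_zpow_eq_one.2 h6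
    have h8 : orderOf (t ^ p) = p := by
      rw [← Nat.card_zpowers, hgen, hZcard]
    rw [h8] at h7
    obtain ⟨m', rfl⟩ := h7
    apply hg
    have h9 : g * b * g⁻¹ * b⁻¹ = w * t ^ ((p : ℤ) * m') := by
      rw [hwdef]
      group
    rw [h9]
    apply Subgroup.mul_mem _ hw
    rw [zpow_mul, zpow_natCast, ← hgen]
    exact Subgroup.zpow_mem_zpowers _ m'

section action

variable {P E : Type*} [Group P] [AddCommGroup E] [DistribMulAction P E] {p : ℕ} [Fact p.Prime]

def pw (p : ℕ) (x : P) (j : ZMod p) : P := x ^ j.val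

theorem pw_zero (x : P) : pw p x 0 = 1 := by simp [pw]

theorem pw_one (x : P) : pw p x 1 = x := by
  have : Fact (1 < p) := ⟨(Fact.out : p.Prime).one_lt⟩
  simp [pw, ZMod.val_one]

theorem pw_add (x : P) (hx : x ^ p = 1) (i j : ZMod p) :
    pw p x (i + j) = pw p x i * pw p x j := by
  unfold pw
  rw [ZMod.val_add, ← pow_add, ← pow_eq_pow_mod _ hx]

theorem pw_mul (x : P) (hx : x ^ p = 1) (i j : ZMod p) :
    pw p x (i * j) = pw p (pw p x i) j := by
  unfold pw
  rw [ZMod.val_mul, ← pow_mul, ← pow_eq_pow_mod _ hx]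

omit [Fact p.Prime] in
theorem pw_pow (x : P) (hx : x ^ p = 1) (j : ZMod p) : (pw p x j) ^ p = 1 := by
  unfold pw
  rw [← pow_mul, mul_comm, pow_mul, hx, one_pow]

omit [Fact p.Prime] in
theorem pw_mul_comm (x y : P) (hxy : x * y = y * x) (j : ZMod p) :
    pw p (x * y) j = pw p x j * pw p y j := by
  unfold pw
  have : Commute x y := hxy
  exact this.mul_pow _

omit [Fact p.Prime] in
theorem pw_comm (x g : P) (h : g * x = x * g) (j : ZMod p) : g * pw p x j = pw p x j * g := by
  unfold pw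
  have : Commute g x := h
  exact (this.pow_right _).eq

def Nm (p : ℕ) [Fact p.Prime] (x : P) (a : E) : E := ∑ j : ZMod p, pw p x j • a

theorem Nm_add (x : P) (a b : E) : Nm p x (a + b) = Nm p x a + Nm p x b := by
  unfold Nm
  rw [← Finset.sum_add_distrib]
  exact Finset.sum_congr rfl fun j _ => smul_add _ _ _

theorem Nm_sub (x : P) (a b : E) : Nm p x (a - b) = Nm p x a - Nm p x b := by
  unfold Nm
  rw [← Finset.sum_sub_distrib]
  exact Finset.sum_congr rfl fun j _ => smul_sub _ _ _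

theorem Nm_zero (x : P) : Nm p x (0 : E) = 0 := by
  unfold Nm
  simp

theorem Nm_smul_comm (x g : P) (h : g * x = x * g) (a : E) : Nm p x (g • a) = g • Nm p x a := by
  unfold Nm
  rw [Finset.smul_sum]
  refine Finset.sum_congr rfl fun j _ => ?_
  rw [smul_smul, smul_smul, pw_comm x g h]

theorem Nm_fixed (x : P) (hx : x ^ p = 1) (a : E) : x • Nm p x a = Nm p x a := by
  unfold Nm
  rw [Finset.smul_sum]
  have h1 : ∀ j : ZMod p, x • pw p x j • a = pw p x (1 + j) • a := by
    intro j
    rw [smul_smul, pw_add x hx, pw_one]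
  simp only [h1]
  exact Equiv.sum_comp (Equiv.addLeft (1 : ZMod p)) (fun j => pw p x j • a)

omit [Fact p.Prime] in
theorem pw_smul_fixed (x : P) (v : E) (hv : x • v = v) (j : ZMod p) : pw p x j • v = v := by
  unfold pw
  induction j.val with
  | zero => simp
  | succ n ih => rw [pow_succ, mul_smul, hv, ih]

theorem Nm_of_fixed (x : P) (v : E) (hv : x • v = v) : Nm p x v = p • v := by
  unfold Nm
  simp only [pw_smul_fixed x v hv]
  rw [Finset.sum_const, Finset.card_univ, ZMod.card]

theorem Nm_reindex (z : P) (i : ZMod p) (hi : i ≠ 0) (a : E) :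
    ∑ j : ZMod p, pw p z (i * j) • a = Nm p z a := by
  unfold Nm
  exact Equiv.sum_comp (Equiv.mulLeft₀ i hi) (fun j => pw p z j • a)

omit [DistribMulAction P E] [Fact p.Prime] in
theorem pinv {q : ℕ} (hp : p.Prime) (hq : q.Prime) (hpq : q ≠ p) (hE : ∀ e : E, q • e = 0) (a : E)
    (h : p • a = 0) : a = 0 := by
  have hcop : Nat.Coprime p q := (Nat.coprime_primes hp hq).2 (Ne.symm hpq)
  obtain ⟨u, v, huv⟩ := (Nat.isCoprime_iff_coprime.2 hcop)
  have h1 : a = (u * (p : ℤ) + v * (q : ℤ)) • a := by rw [huv, one_smul]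
  rw [add_smul, mul_smul, mul_smul, natCast_zsmul, natCast_zsmul, h, hE a, smul_zero, smul_zero,
    add_zero] at h1
  exact h1

omit [Fact p.Prime] in
theorem smul_nsmul_c (g : P) (n : ℕ) (e : E) : g • (n • e) = n • (g • e) := by
  induction n with
  | zero => simp
  | succ n ih => rw [succ_nsmul, succ_nsmul, smul_add, ih]

theorem fix_central [Finite P] [FaithfulSMul P E]
    (hpinv : ∀ a : E, p • a = 0 → a = 0)
    (hconst : ∀ a b : E, a ≠ 0 → b ≠ 0 →
      Nat.card (MulAction.stabilizer P a) = Nat.card (MulAction.stabilizer P b))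
    (z : P) (hz : z ∈ Subgroup.center P) (hz1 : z ≠ 1) (hzp : z ^ p = 1) :
    ∀ a : E, z • a = a → a = 0 := by
  intro a ha
  by_contra ha0
  rw [Subgroup.mem_center_iff] at hz
  obtain ⟨e, he⟩ : ∃ e : E, z • e ≠ e := by
    by_contra hcon
    push Not at hcon
    apply hz1
    apply FaithfulSMul.eq_of_smul_eq_smul (α := E)
    intro e
    rw [hcon e, one_smul]
  set b := p • e - Nm p z e with hb
  have hNfix : ∀ v : E, z • v = v → Nm p z v = p • v := fun v hv => Nm_of_fixed z v hv
  have hNb : Nm p z b = 0 := by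
    rw [hb, Nm_sub, hNfix (Nm p z e) (Nm_fixed z hzp e)]
    have : Nm p z (p • e) = p • Nm p z e := by
      unfold Nm
      rw [Finset.smul_sum]
      exact Finset.sum_congr rfl fun j _ => smul_nsmul_c _ _ _
    rw [this, sub_self]
  have hb0 : b ≠ 0 := by
    intro h0
    apply he
    have h1 : p • e = Nm p z e := sub_eq_zero.1 (hb ▸ h0)
    have h2 : z • (p • e) = p • e := by rw [h1]; exact Nm_fixed z hzp e
    have h3 : p • (z • e - e) = 0 := by
      rw [smul_sub, ← smul_nsmul_c, h2, sub_self]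
    exact sub_eq_zero.1 (hpinv _ h3)
  have hzero : ∀ w : E, z • w = w → Nm p z w = 0 → w = 0 := by
    intro w hw1 hw2
    apply hpinv
    rw [← hNfix w hw1, hw2]
  have hab : a + b ≠ 0 := by
    intro h0
    apply hb0
    apply hzero b _ hNb
    have : b = -a := eq_neg_of_add_eq_zero_right h0
    rw [this, smul_neg, ha]
  have hle : MulAction.stabilizer P (a + b) ≤ MulAction.stabilizer P a ⊓ MulAction.stabilizer P b := by
    intro g hg
    rw [MulAction.mem_stabilizer_iff, smul_add] at hg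
    have hw : g • a - a = 0 := by
      apply hzero
      · rw [smul_sub, smul_smul, ← hz g, mul_smul, ha]
      · have : g • a - a = b - g • b := by
          rw [sub_eq_sub_iff_add_eq_add, hg, add_comm]
        rw [this, Nm_sub, Nm_smul_comm z g (hz g), hNb, smul_zero, sub_zero]
    have hga : g • a = a := sub_eq_zero.1 hw
    rw [hga] at hg
    exact ⟨hga, add_left_cancel hg⟩
  have h1 : MulAction.stabilizer P (a + b) = MulAction.stabilizer P a :=
    Subgroup.eq_of_le_of_card_ge (hle.trans inf_le_left) (hconst a (a + b) ha0 hab).le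
  have h2 : MulAction.stabilizer P (a + b) = MulAction.stabilizer P b :=
    Subgroup.eq_of_le_of_card_ge (hle.trans inf_le_right) (hconst b (a + b) hb0 hab).le
  have hzb : z ∈ MulAction.stabilizer P b := by
    rw [← h2, h1]
    exact ha
  exact hb0 (hzero b hzb hNb)

theorem exists_fixed (hpinv : ∀ a : E, p • a = 0 → a = 0)
    (z : P) (hz : z ∈ Subgroup.center P) (hzp : z ^ p = 1)
    (hzfix : ∀ a : E, z • a = a → a = 0) (y : P) (hyp : y ^ p = 1) (a : E) (ha : a ≠ 0) :
    ∃ j : ZMod p, ∃ a' : E, a' ≠ 0 ∧ (y * pw p z j) • a' = a' := by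
  by_contra hcon
  push Not at hcon
  rw [Subgroup.mem_center_iff] at hz
  have hyz : ∀ j : ZMod p, y * pw p z j = pw p z j * y := fun j => pw_comm z y (hz y) j
  have hpj : ∀ j : ZMod p, (y * pw p z j) ^ p = 1 := by
    intro j
    have : Commute y (pw p z j) := hyz j
    rw [this.mul_pow, hyp, pw_pow z hzp, one_mul]
  have h0 : ∀ j : ZMod p, Nm p (y * pw p z j) a = 0 := by
    intro j
    by_contra hne
    exact hcon j _ hne (Nm_fixed _ (hpj j) a)
  have hNz : Nm p z a = 0 := hzfix _ (Nm_fixed z hzp a)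
  have hT : ∑ j : ZMod p, Nm p (y * pw p z j) a = p • a := by
    unfold Nm
    rw [Finset.sum_comm]
    have hterm : ∀ i j : ZMod p, pw p (y * pw p z j) i • a = pw p y i • pw p z (i * j) • a := by
      intro i j
      rw [pw_mul_comm y (pw p z j) (hyz j), ← pw_mul z hzp, mul_comm j i, mul_smul]
    simp only [hterm, ← Finset.smul_sum]
    rw [Finset.sum_eq_single (0 : ZMod p)]
    · simp only [zero_mul, pw_zero, one_smul]
      rw [Finset.sum_const, Finset.card_univ, ZMod.card]
    · intro i _ hi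
      rw [Nm_reindex z i hi a, hNz, smul_zero]
    · intro h
      exact absurd (Finset.mem_univ _) h
  apply ha
  apply hpinv
  rw [← hT]
  exact Finset.sum_eq_zero fun j _ => h0 j

theorem proj_ne (z : P) (hz : z ∈ Subgroup.center P) (hzp : z ^ p = 1)
    (hzfix : ∀ a : E, z • a = a → a = 0) (y : P) (k l : ZMod p) (hkl : k ≠ l)
    (v : E) (hv : (pw p z l * y) • v = v) : Nm p (pw p z k * y) v = 0 := by
  rw [Subgroup.mem_center_iff] at hz
  have hcomm : ∀ j : ZMod p, pw p z j * y = y * pw p z j := fun j => (pw_comm z y (hz y) j).symm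
  have hterm : ∀ i : ZMod p, pw p (pw p z k * y) i • v = pw p z ((k - l) * i) • v := by
    intro i
    have h1 : pw p (pw p z l * y) i • v = v := pw_smul_fixed _ v hv i
    rw [pw_mul_comm _ _ (hcomm l), ← pw_mul z hzp, mul_smul] at h1
    rw [pw_mul_comm _ _ (hcomm k), ← pw_mul z hzp, mul_smul]
    have h2 : (k - l) * i = k * i + (-(l * i)) := by ring
    rw [h2, pw_add z hzp, mul_smul]
    congr 1
    have h3 : pw p z (-(l * i)) • pw p z (l * i) • pw p y i • v = pw p y i • v := by
      rw [smul_smul, ← pw_add z hzp, neg_add_cancel, pw_zero, one_smul]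
    rw [← h3, h1]
  unfold Nm
  simp only [hterm]
  rw [Nm_reindex z (k - l) (sub_ne_zero.2 hkl) v]
  exact hzfix _ (Nm_fixed z hzp v)

theorem trivial_of_eq [Finite P] [Finite E] [FaithfulSMul P E] (hP : IsPGroup p P)
    (hE : ∀ e : E, p • e = 0)
    (hconst : ∀ a b : E, a ≠ 0 → b ≠ 0 →
      Nat.card (MulAction.stabilizer P a) = Nat.card (MulAction.stabilizer P b)) :
    Subsingleton P := by
  have hp : p.Prime := Fact.out
  have key : ∀ (g : P) (e : E), g • e = e := by
    by_cases hE1 : Subsingleton E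
    · intro g e
      exact Subsingleton.elim _ _
    · rw [not_subsingleton_iff_nontrivial] at hE1
      obtain ⟨e0, he0⟩ := exists_ne (0 : E)
      have hdvd : p ∣ Nat.card E := by
        have h1 : addOrderOf e0 ∣ p := addOrderOf_dvd_of_nsmul_eq_zero (hE e0)
        rcases (Nat.dvd_prime hp).1 h1 with h | h
        · exact absurd (AddMonoid.addOrderOf_eq_one_iff.1 h) he0
        · rw [← h]
          exact addOrderOf_dvd_natCard e0
      have hmod := hP.card_modEq_card_fixedPoints E
      have hdvd2 : p ∣ Nat.card (MulAction.fixedPoints P E) :=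
        (Nat.modEq_zero_iff_dvd.1 ((hmod.symm).trans (Nat.modEq_zero_iff_dvd.2 hdvd)))
      have hpos : 0 < Nat.card (MulAction.fixedPoints P E) := by
        have : Nonempty (MulAction.fixedPoints P E) := ⟨⟨0, fun g => smul_zero g⟩⟩
        exact Nat.card_pos
      have h2 : 1 < Nat.card (MulAction.fixedPoints P E) := by
        have := Nat.le_of_dvd hpos hdvd2
        have := hp.two_le
        omega
      have hnt := Finite.one_lt_card_iff_nontrivial.1 h2
      obtain ⟨x, hx⟩ := exists_ne (⟨0, fun g => smul_zero g⟩ : MulAction.fixedPoints P E)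
      have ha0 : (x : E) ≠ 0 := by
        intro h
        apply hx
        exact Subtype.ext h
      have htop : MulAction.stabilizer P (x : E) = ⊤ := by
        rw [eq_top_iff]
        intro g _
        exact x.2 g
      intro g e
      by_cases he : e = 0
      · rw [he, smul_zero]
      · have h3 := hconst e (x : E) he ha0
        rw [htop, Subgroup.card_top] at h3
        have h4 : MulAction.stabilizer P e = ⊤ := (Subgroup.card_eq_iff_eq_top _).1 h3
        have : g ∈ MulAction.stabilizer P e := by rw [h4]; exact Subgroup.mem_top g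
        exact this
  constructor
  intro g h
  apply FaithfulSMul.eq_of_smul_eq_smul (α := E)
  intro e
  rw [key g e, key h e]

end action

theorem zpow_eq_pw {P : Type*} [Group P] {p : ℕ} [Fact p.Prime] (z : P) (hzp : z ^ p = 1) (k : ℤ) :
    z ^ k = pw p z (k : ZMod p) := by
  unfold pw
  have hp : p.Prime := Fact.out
  have h1 : ((k : ZMod p).val : ℤ) = k % p := ZMod.val_intCast k
  have h2 : z ^ k = z ^ (k % (p : ℤ)) := by
    conv_lhs => rw [← Int.emod_add_mul_ediv k p]
    rw [zpow_add, zpow_mul, zpow_natCast, hzp, one_zpow, mul_one]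
  rw [h2, ← h1, zpow_natCast]

theorem main_noncyclic {P E : Type*} [Group P] [Finite P]
    [AddCommGroup E] [DistribMulAction P E] [FaithfulSMul P E]
    {p : ℕ} [Fact p.Prime] (hp2 : p ≠ 2) (hP : IsPGroup p P)
    (hpinv : ∀ a : E, p • a = 0 → a = 0)
    (hconst : ∀ a b : E, a ≠ 0 → b ≠ 0 →
      Nat.card (MulAction.stabilizer P a) = Nat.card (MulAction.stabilizer P b))
    (hF : ∀ z : P, z ∈ Subgroup.center P → z ≠ 1 → z ^ p = 1 → ∀ a : E, z • a = a → a = 0)
    (z0 : P) (hz0 : z0 ∈ Subgroup.center P) (hz0o : orderOf z0 = p) (e0 : E) (he0 : e0 ≠ 0) :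
    IsCyclic P := by
  have hp : p.Prime := Fact.out
  by_contra hnc
  obtain ⟨y, hyp, hyn, hyc⟩ := exists_good p hp hp2 (Nat.card P) P rfl hP hnc z0 hz0 hz0o
  have hz0p : z0 ^ p = 1 := by rw [← hz0o, pow_orderOf_eq_one]
  have hz01 : z0 ≠ 1 := by
    intro h
    rw [h, orderOf_one] at hz0o
    exact hp.one_lt.ne hz0o
  have hz0c := hz0
  rw [Subgroup.mem_center_iff] at hz0c
  obtain ⟨j, a, ha0, hya⟩ := exists_fixed hpinv z0 hz0 hz0p (hF z0 hz0 hz01 hz0p) y hyp e0 he0
  set y1 := y * pw p z0 j with hy1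
  have hcj : ∀ x : P, x * pw p z0 j = pw p z0 j * x := fun x => pw_comm z0 x (hz0c x) j
  have hy1p : y1 ^ p = 1 := by
    have : Commute y (pw p z0 j) := hcj y
    rw [hy1, this.mul_pow, hyp, pw_pow z0 hz0p, one_mul]
  have hy11 : y1 ≠ 1 := by
    intro h
    apply hyn
    have h2 : y = (pw p z0 j)⁻¹ := eq_inv_of_mul_eq_one_left h
    rw [h2]
    apply Subgroup.inv_mem
    unfold pw
    exact Subgroup.pow_mem _ (Subgroup.mem_zpowers z0) _
  have hy1c : ∀ g : P, g * y1 * g⁻¹ * y1⁻¹ ∈ Subgroup.zpowers z0 := by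
    intro g
    rw [hy1, comm_central g y (pw p z0 j) hcj]
    exact hyc g
  have hy1nc : y1 ∉ Subgroup.center P := by
    intro h
    exact ha0 (hF y1 h hy11 hy1p a hya)
  rw [Subgroup.mem_center_iff] at hy1nc
  push Not at hy1nc
  obtain ⟨g0, hg0⟩ := hy1nc
  set z1 := g0 * y1 * g0⁻¹ * y1⁻¹ with hz1
  have hz1m : z1 ∈ Subgroup.zpowers z0 := hy1c g0
  have hz11 : z1 ≠ 1 := by
    intro h
    apply hg0
    have : g0 * y1 * g0⁻¹ * y1⁻¹ = 1 := h
    calc g0 * y1 = (g0 * y1 * g0⁻¹ * y1⁻¹) * (y1 * g0) := by group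
      _ = y1 * g0 := by rw [this, one_mul]
  have hz1cen : z1 ∈ Subgroup.center P := (Subgroup.zpowers_le.2 hz0) hz1m
  have hz1p : z1 ^ p = 1 := pow_eq_one_of_mem hz0o hz1m
  have hgen : Subgroup.zpowers z1 = Subgroup.zpowers z0 := zpowers_eq_of_mem hp hz0o hz1m hz11
  have hz1fix := hF z1 hz1cen hz11 hz1p
  have hz1c := hz1cen
  rw [Subgroup.mem_center_iff] at hz1c
  have hconj : ∀ h : P, ∃ m : ZMod p, h * y1 * h⁻¹ = pw p z1 m * y1 := by
    intro h
    have h1 := hy1c h
    rw [← hgen] at h1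
    obtain ⟨k, hk⟩ := Subgroup.mem_zpowers_iff.1 h1
    refine ⟨(k : ZMod p), ?_⟩
    rw [← zpow_eq_pw z1 hz1p k, hk]
    group
  have hg0conj : g0 * y1 * g0⁻¹ = pw p z1 1 * y1 := by
    rw [pw_one, hz1]
    group
  have hmove : ∀ (h : P) (m k : ZMod p) (v : E), h * y1 * h⁻¹ = pw p z1 m * y1 →
      (pw p z1 k * y1) • v = v → (pw p z1 (k + m) * y1) • (h • v) = h • v := by
    intro h m k v hm hv
    rw [pw_add z1 hz1p, mul_assoc, ← hm, smul_smul]
    have h1 : pw p z1 k * (h * y1 * h⁻¹) * h = h * (pw p z1 k * y1) := by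
      calc pw p z1 k * (h * y1 * h⁻¹) * h = (pw p z1 k * h) * y1 := by group
        _ = (h * pw p z1 k) * y1 := by rw [pw_comm z1 h (hz1c h) k]
        _ = h * (pw p z1 k * y1) := by group
    rw [h1, mul_smul, hv]
  have hY0 : pw p z1 0 * y1 = y1 := by rw [pw_zero, one_mul]
  have ha_fix : (pw p z1 0 * y1) • a = a := by rw [hY0]; exact hya
  set b := g0 • a with hb
  have hb_fix : (pw p z1 1 * y1) • b = b := by
    have := hmove g0 1 0 a hg0conj ha_fix
    rwa [zero_add] at this
  have hb0 : b ≠ 0 := by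
    intro h
    apply ha0
    exact (smul_eq_zero_iff_eq g0).1 h
  have h01 : (0 : ZMod p) ≠ 1 := zero_ne_one
  have hN0a : Nm p (pw p z1 0 * y1) a = p • a := Nm_of_fixed _ a ha_fix
  have hN0b : Nm p (pw p z1 0 * y1) b = 0 := proj_ne z1 hz1cen hz1p hz1fix y1 0 1 h01 b hb_fix
  have hN1a : Nm p (pw p z1 1 * y1) a = 0 := proj_ne z1 hz1cen hz1p hz1fix y1 1 0 h01.symm a ha_fix
  have hN1b : Nm p (pw p z1 1 * y1) b = p • b := Nm_of_fixed _ b hb_fix
  have hab : a + b ≠ 0 := by
    intro h
    apply ha0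
    apply hpinv
    have := congrArg (Nm p (pw p z1 0 * y1)) h
    rw [Nm_add, hN0a, hN0b, add_zero, Nm_zero] at this
    exact this
  have h2ne : (-1 : ZMod p) ≠ 1 := by
    intro h
    have h2 : ((2 : ℕ) : ZMod p) = 0 := by
      have : (1 : ZMod p) + 1 = 0 := by
        have h' : (-1 : ZMod p) + 1 = 0 := by ring
        rwa [h] at h'
      rw [← this]
      norm_num
    have h3 := (ZMod.natCast_eq_zero_iff 2 p).1 h2
    exact hp2 ((Nat.prime_dvd_prime_iff_eq hp Nat.prime_two).1 h3)
  have hle : MulAction.stabilizer P (a + b) ≤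
      MulAction.stabilizer P a ⊓ MulAction.stabilizer P b := by
    intro h hh
    rw [MulAction.mem_stabilizer_iff, smul_add] at hh
    obtain ⟨m, hm⟩ := hconj h
    have hha : (pw p z1 (0 + m) * y1) • (h • a) = h • a := hmove h m 0 a hm ha_fix
    have hhb : (pw p z1 (1 + m) * y1) • (h • b) = h • b := hmove h m 1 b hm hb_fix
    rw [zero_add] at hha
    have hm0 : m = 0 := by
      by_contra hm0
      have e0 := congrArg (Nm p (pw p z1 0 * y1)) hh
      rw [Nm_add, Nm_add, hN0a, hN0b, add_zero,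
        proj_ne z1 hz1cen hz1p hz1fix y1 0 m (Ne.symm hm0) _ hha, zero_add] at e0
      by_cases hm1 : 1 + m = 0
      · have e1 := congrArg (Nm p (pw p z1 1 * y1)) hh
        have hmne : (1 : ZMod p) ≠ m := by
          intro h1m
          apply h2ne
          rw [← h1m] at hm1
          have : (-1 : ZMod p) = 1 := by
            rw [neg_eq_iff_add_eq_zero]
            exact hm1
          exact this
        rw [Nm_add, Nm_add, hN1a, hN1b, zero_add,
          proj_ne z1 hz1cen hz1p hz1fix y1 1 m hmne _ hha, zero_add] at e1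
        rw [hm1] at hhb
        rw [proj_ne z1 hz1cen hz1p hz1fix y1 1 0 h01.symm _ hhb] at e1
        exact hb0 (hpinv b e1.symm)
      · rw [proj_ne z1 hz1cen hz1p hz1fix y1 0 (1 + m) (Ne.symm hm1) _ hhb] at e0
        exact ha0 (hpinv a e0.symm)
    rw [hm0] at hha hhb
    rw [add_zero] at hhb
    have e0 := congrArg (Nm p (pw p z1 0 * y1)) hh
    rw [Nm_add, Nm_add, hN0a, hN0b, add_zero, Nm_of_fixed _ _ hha,
      proj_ne z1 hz1cen hz1p hz1fix y1 0 1 h01 _ hhb, add_zero] at e0
    have hga : h • a = a := by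
      have : p • (h • a - a) = 0 := by rw [smul_sub, e0, sub_self]
      exact sub_eq_zero.1 (hpinv _ this)
    rw [hga] at hh
    exact ⟨hga, add_left_cancel hh⟩
  have h1 : MulAction.stabilizer P (a + b) = MulAction.stabilizer P a :=
    Subgroup.eq_of_le_of_card_ge (hle.trans inf_le_left) (hconst a (a + b) ha0 hab).le
  have h2 : MulAction.stabilizer P (a + b) = MulAction.stabilizer P b :=
    Subgroup.eq_of_le_of_card_ge (hle.trans inf_le_right) (hconst b (a + b) hb0 hab).le
  have hyb : y1 ∈ MulAction.stabilizer P b := by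
    rw [← h2, h1]
    exact hya
  have hyb' : (pw p z1 0 * y1) • b = b := by rw [hY0]; exact hyb
  have hfin := Nm_of_fixed (p := p) (pw p z1 0 * y1) b hyb'
  rw [hN0b] at hfin
  exact hb0 (hpinv b hfin.symm)

theorem result {P E : Type*} [Group P] [Finite P]
    [AddCommGroup E] [Finite E] [DistribMulAction P E] [FaithfulSMul P E]
    {p q : ℕ} [Fact p.Prime] (hp2 : p ≠ 2) (hP : IsPGroup p P) (hq : q.Prime) (hE : ∀ e : E, q • e = 0)
    (hconst : ∀ a b : E, a ≠ 0 → b ≠ 0 →
      Nat.card (MulAction.stabilizer P a) = Nat.card (MulAction.stabilizer P b)) :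
    IsCyclic P ∧ ∀ g : P, g ≠ 1 → ∀ a : E, g • a = a → a = 0 := by
  have hp : p.Prime := Fact.out
  by_cases hsub : Subsingleton P
  · exact ⟨isCyclic_of_subsingleton, fun g hg => absurd (Subsingleton.elim g 1) hg⟩
  by_cases hqp : q = p
  · subst hqp
    exact absurd (trivial_of_eq hP hE hconst) hsub
  have hpinv : ∀ a : E, p • a = 0 → a = 0 := pinv hp hq hqp hE
  have hF : ∀ z : P, z ∈ Subgroup.center P → z ≠ 1 → z ^ p = 1 → ∀ a : E, z • a = a → a = 0 :=
    fun z hz hz1 hzp => fix_central hpinv hconst z hz hz1 hzp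
  rw [not_subsingleton_iff_nontrivial] at hsub
  have hcn : Nontrivial (Subgroup.center P) := hP.center_nontrivial
  have hcp : IsPGroup p (Subgroup.center P) := hP.to_subgroup _
  obtain ⟨zb, hzb⟩ : ∃ x : Subgroup.center P, orderOf x = p := by
    apply exists_prime_orderOf_dvd_card' p
    obtain ⟨k, hk⟩ := (IsPGroup.iff_card).1 hcp
    rw [hk]
    have hk0 : k ≠ 0 := by
      rintro rfl
      have h1 : Nat.card (Subgroup.center P) = 1 := by simpa using hk
      have h2 := Finite.one_lt_card_iff_nontrivial.2 hcn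
      omega
    exact dvd_pow_self p hk0
  have hz0o : orderOf (zb : P) = p := by
    rw [Subgroup.orderOf_coe]
    exact hzb
  have hz01 : (zb : P) ≠ 1 := by
    intro h
    rw [h, orderOf_one] at hz0o
    exact hp.one_lt.ne hz0o
  obtain ⟨e0, he0⟩ : ∃ e : E, e ≠ 0 := by
    by_contra hcon
    push Not at hcon
    apply hz01
    apply FaithfulSMul.eq_of_smul_eq_smul (α := E)
    intro e
    rw [hcon e, smul_zero, smul_zero]
  have hcyc : IsCyclic P := main_noncyclic hp2 hP hpinv hconst hF (zb : P) zb.2 hz0o e0 he0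
  refine ⟨hcyc, ?_⟩
  intro g hg a hga
  obtain ⟨k, hk⟩ := (IsPGroup.iff_orderOf).1 hP g
  have hk0 : k ≠ 0 := by
    rintro rfl
    rw [pow_zero, orderOf_eq_one_iff] at hk
    exact hg hk
  obtain ⟨k', rfl⟩ := Nat.exists_eq_succ_of_ne_zero hk0
  have hg'p : (g ^ (p ^ k')) ^ p = 1 := by
    rw [← pow_mul, ← pow_succ, ← hk, pow_orderOf_eq_one]
  have hg'1 : g ^ (p ^ k') ≠ 1 := by
    intro h
    have h1 := orderOf_dvd_of_pow_eq_one h
    rw [hk] at h1
    have h2 := (Nat.pow_dvd_pow_iff_le_right hp.one_lt).1 h1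
    omega
  have hg'a : (g ^ (p ^ k')) • a = a := by
    have h1 : g ∈ MulAction.stabilizer P a := hga
    exact Subgroup.pow_mem _ h1 _
  have hg'c : g ^ (p ^ k') ∈ Subgroup.center P := by
    obtain ⟨c, hc⟩ := IsCyclic.exists_generator (α := P)
    rw [Subgroup.mem_center_iff]
    intro h
    obtain ⟨i, hi⟩ := Subgroup.mem_zpowers_iff.1 (hc (g ^ (p ^ k')))
    obtain ⟨j, hj⟩ := Subgroup.mem_zpowers_iff.1 (hc h)
    rw [← hi, ← hj]
    exact zpow_mul_comm c j i
  exact hF _ hg'c hg'1 hg'p a hg'a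

end Cfsg.Agent.S1160
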