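import Mathlib
import Cfsg.Statements.S3910
import Cfsg.Agent.Lib.Helper11.SelfCentralizing
import Cfsg.Agent.Lib.Helper18.CyclicSylow

set_option autoImplicit false
open Cfsg

namespace Cfsg.Agent.S3910
open Cfsg.Agent.Lib.Helper11 Cfsg.Agent.Lib.Helper18

theorem coprime_commute (G : Type*) [Group G] [hn : Group.IsNilpotent G] :
    ∀ (y a : G) (m n : ℕ), y ^ m = 1 → a ^ n = 1 → Nat.Coprime m n → y * a = a * y := by
  refine Group.nilpotent_center_quotient_ind
    (P := fun G _ _ => ∀ (y a : G) (m n : ℕ), y ^ m = 1 → a ^ n = 1 → Nat.Coprime m n → y * a = a * y) G ?_ ?_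
  · intro G _ _ y a m n _ _ _
    exact Subsingleton.elim _ _
  · intro G _ _ ih y a m n hy ha hmn
    have h1 := ih (QuotientGroup.mk y) (QuotientGroup.mk a) m n
      (by rw [← QuotientGroup.mk_pow, hy]; rfl) (by rw [← QuotientGroup.mk_pow, ha]; rfl) hmn
    set z := y * a * y⁻¹ * a⁻¹ with hzdef
    have hz : z ∈ Subgroup.center G := by
      rw [← QuotientGroup.eq_one_iff, hzdef]
      simp only [QuotientGroup.mk_mul, QuotientGroup.mk_inv]
      rw [h1]
      group
    have hzc : ∀ g, g * z = z * g := Subgroup.mem_center_iff.mp hz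
    have hzn : z ^ n = 1 := by
      have e1 : y * a * y⁻¹ = z * a := by rw [hzdef]; group
      have e2 : (z * a) ^ n = z ^ n * a ^ n := Commute.mul_pow (hzc a).symm n
      have e3 : (y * a * y⁻¹) ^ n = 1 := by rw [conj_pow, ha]; group
      rw [e1, e2, ha, mul_one] at e3
      exact e3
    have hzm : z ^ m = 1 := by
      have e1 : y⁻¹ * z = a * y⁻¹ * a⁻¹ := by rw [hzdef]; group
      have e2 : (y⁻¹ * z) ^ m = (y⁻¹) ^ m * z ^ m := Commute.mul_pow (hzc y⁻¹) m
      have e3 : (a * y⁻¹ * a⁻¹) ^ m = 1 := by rw [conj_pow, inv_pow, hy]; group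
      rw [← e1, e2, inv_pow, hy, inv_one, one_mul] at e3
      exact e3
    have hz1 : z = 1 := by
      have h1 := orderOf_dvd_of_pow_eq_one hzm
      have h2 := orderOf_dvd_of_pow_eq_one hzn
      have h3 := Nat.dvd_gcd h1 h2
      rw [hmn] at h3
      exact orderOf_eq_one_iff.mp (Nat.dvd_one.mp h3)
    have : y * a = z * (a * y) := by rw [hzdef]; group
    rw [this, hz1, one_mul]

open scoped IsMulCommutative in
theorem exists_order_eq_exp {G : Type*} [Group G] [Finite G] [IsMulCommutative G] :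
    ∃ g : G, orderOf g = Monoid.exponent G := by
  have h := Monoid.exists_orderOf_eq_exponent (G := G) (Monoid.ExponentExists.of_finite)
  exact h

theorem abelian_case {G : Type*} [Group G] [Finite G] (hB : ∀ A B : Subgroup G, IsMulCommutative ↥A → IsMulCommutative ↥B → Nat.card ↥A = Nat.card ↥B → ∃ g : G, B = A.map (MulAut.conj g).toMonoidHom)
    (hc : ∀ a b : G, a * b = b * a) : IsCyclic G := by
  haveI : IsMulCommutative G := ⟨⟨hc⟩⟩
  obtain ⟨g, hg⟩ := exists_order_eq_exp (G := G)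
  refine ⟨g, fun x => ?_⟩
  have hdvd : orderOf x ∣ orderOf g := hg ▸ Monoid.order_dvd_exponent x
  obtain ⟨d, hd⟩ := hdvd
  have hgpos : 0 < orderOf g := orderOf_pos g
  have hd0 : d ≠ 0 := by
    rintro rfl
    rw [mul_zero] at hd
    omega
  have ho : orderOf (g ^ d) = orderOf x := by
    rw [orderOf_pow_of_dvd hd0 ⟨orderOf x, by rw [hd, mul_comm]⟩, hd]
    exact Nat.mul_div_cancel _ (Nat.pos_of_ne_zero hd0)
  obtain ⟨c, hcx⟩ := hB (Subgroup.zpowers (g ^ d)) (Subgroup.zpowers x) inferInstance inferInstance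
    (by rw [Nat.card_zpowers, Nat.card_zpowers, ho])
  have hx : x ∈ (Subgroup.zpowers (g ^ d)).map (MulAut.conj c).toMonoidHom := hcx ▸ Subgroup.mem_zpowers x
  obtain ⟨w, hw, rfl⟩ := hx
  have : (MulAut.conj c).toMonoidHom w = w := by
    simp only [MulEquiv.coe_toMonoidHom, MulAut.conj_apply]
    rw [hc c w, mul_assoc, mul_inv_cancel, mul_one]
  rw [this]
  exact Subgroup.zpowers_le.mpr (Subgroup.pow_mem _ (Subgroup.mem_zpowers g) d) hw

theorem result {G : Type*} [Group G] [Finite G] (hB : ∀ A B : Subgroup G, IsMulCommutative ↥A → IsMulCommutative ↥B → Nat.card ↥A = Nat.card ↥B → ∃ g : G, B = A.map (MulAut.conj g).toMonoidHom) (hnil : Group.IsNilpotent G) : IsCyclic G := by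
  classical
  obtain ⟨A, hAn, hAc, hAmax⟩ := exists_maximal_normal_abelian (R := G)
  have hCA : Subgroup.centralizer (A : Set G) ≤ A := centralizer_le_of_maximal_normal_abelian A hAc hAmax
  have hAcomm : ∀ a ∈ A, ∀ b ∈ A, a * b = b * a := by
    intro a ha b hb
    have := hAc.is_comm.comm ⟨a, ha⟩ ⟨b, hb⟩
    exact congrArg (fun z : A => (z : G)) this
  suffices hAtop : A = ⊤ by
    apply abelian_case hB
    intro a b
    exact hAcomm a (hAtop ▸ Subgroup.mem_top a) b (hAtop ▸ Subgroup.mem_top b)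
  by_contra hne
  -- pick y ∉ A of minimal order
  have hex : ∃ y : G, y ∉ A := by
    by_contra h
    push_neg at h
    exact hne (top_le_iff.mp (fun x _ => h x))
  obtain ⟨y, hyA, hymin⟩ : ∃ y : G, y ∉ A ∧ ∀ x : G, x ∉ A → orderOf y ≤ orderOf x := by
    have := (Set.toFinite {x : G | x ∉ A}).exists_minimalFor orderOf _ hex
    obtain ⟨y, hy, hmin⟩ := this
    refine ⟨y, hy, fun x hx => ?_⟩
    by_contra hlt
    push_neg at hlt
    have := hmin hx hlt.le
    omega
  have hy1 : y ≠ 1 := fun h => hyA (h ▸ one_mem A)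
  set n := orderOf y with hn
  have hnpos : 0 < n := orderOf_pos y
  have hn1 : n ≠ 1 := fun h => hy1 (orderOf_eq_one_iff.mp h)
  have hpowA : ∀ d : ℕ, d ∣ n → d ≠ 1 → y ^ d ∈ A := by
    intro d hd hd1
    by_contra hnot
    have h1 := hymin _ hnot
    have hd0 : d ≠ 0 := by
      rintro rfl
      rw [zero_dvd_iff] at hd
      omega
    rw [orderOf_pow_of_dvd hd0 hd] at h1
    have h1' : n ≤ n / d := h1
    have : n / d < n := Nat.div_lt_self hnpos (by omega)
    omega
  set q := n.minFac with hq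
  have hqp : q.Prime := Nat.minFac_prime hn1
  haveI : Fact q.Prime := ⟨hqp⟩
  obtain ⟨k, m', hm', hnk⟩ := Nat.exists_eq_pow_mul_and_not_dvd (hnpos.ne') q hqp.ne_one
  have hk : 1 ≤ k := by
    by_contra h
    push_neg at h
    have hk0 : k = 0 := by omega
    subst hk0
    rw [pow_zero, one_mul] at hnk
    exact hm' (hnk ▸ Nat.minFac_dvd n)
  have hqk1 : q ^ k ≠ 1 := by
    have := Nat.one_lt_pow (by omega : k ≠ 0) hqp.one_lt
    omega
  have hm1 : m' = 1 := by
    by_contra hne1
    have h1 : y ^ m' ∈ A := hpowA m' ⟨q ^ k, by rw [hnk, mul_comm]⟩ hne1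
    have h2 : y ^ (q ^ k) ∈ A := hpowA (q ^ k) ⟨m', hnk⟩ hqk1
    have hcop : Nat.Coprime m' (q ^ k) :=
      Nat.Coprime.pow_right k ((Nat.Prime.coprime_iff_not_dvd hqp).mpr hm').symm
    obtain ⟨α, β, hαβ⟩ := Nat.isCoprime_iff_coprime.mpr hcop
    have h3 : y = (y ^ m') ^ α * (y ^ (q ^ k)) ^ β := by
      rw [← zpow_natCast y m', ← zpow_natCast y (q ^ k), ← zpow_mul, ← zpow_mul, ← zpow_add]
      have : (m' : ℤ) * α + ((q ^ k : ℕ) : ℤ) * β = 1 := by linarith
      rw [this, zpow_one]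
    apply hyA
    rw [h3]
    exact A.mul_mem (A.zpow_mem h1 _) (A.zpow_mem h2 _)
  have hnqk : n = q ^ k := by rw [hnk, hm1, mul_one]
  have hyq : y ^ q ∈ A := hpowA q (Nat.minFac_dvd n) hqp.ne_one
  have hndvd : ¬ q ^ k ∣ Nat.card A := by
    intro hdvd
    obtain ⟨B0, hB0⟩ := Sylow.exists_subgroup_card_pow_prime (G := A) q hdvd
    set B : Subgroup G := B0.map A.subtype with hBdef
    have hBcard : Nat.card B = q ^ k := by
      rw [hBdef, Subgroup.card_map_of_injective A.subtype_injective]; exact hB0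
    have hBA : B ≤ A := by rw [hBdef]; exact Subgroup.map_subtype_le B0
    have hBc : IsMulCommutative B :=
      ⟨⟨fun ⟨x, hx⟩ ⟨z, hz⟩ => Subtype.ext (hAcomm x (hBA hx) z (hBA hz))⟩⟩
    obtain ⟨g, hg⟩ := hB B (Subgroup.zpowers y) hBc inferInstance
      (by rw [Nat.card_zpowers, hBcard, ← hnqk])
    have : y ∈ B.map (MulAut.conj g).toMonoidHom := hg ▸ Subgroup.mem_zpowers y
    obtain ⟨b, hb, rfl⟩ := this
    exact hyA (hAn.conj_mem b (hBA hb) g)
  have hoyq : orderOf (y ^ q) = q ^ (k - 1) := by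
    rw [orderOf_pow_of_dvd hqp.ne_zero (Nat.minFac_dvd n), ← hn, hnqk]
    have : q ^ k = q ^ (k - 1) * q := by rw [← pow_succ]; congr 1; omega
    rw [this]
    exact Nat.mul_div_cancel _ hqp.pos
  have hqel : ∀ a ∈ A, ∀ j : ℕ, a ^ (q ^ j) = 1 → a ∈ Subgroup.zpowers (y ^ q) := by
    intro a ha j haj
    set Y := Subgroup.zpowers (y ^ q) with hY
    set S := Subgroup.zpowers a ⊔ Y with hS
    have hYA : Y ≤ A := Subgroup.zpowers_le.mpr hyq
    have hSA : S ≤ A := sup_le (Subgroup.zpowers_le.mpr ha) hYA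
    have hYp : IsPGroup q Y := IsPGroup.of_card (n := k - 1) (by rw [hY, Nat.card_zpowers, hoyq])
    obtain ⟨i0, _, hi0⟩ := (Nat.dvd_prime_pow hqp).mp (orderOf_dvd_of_pow_eq_one haj)
    have hap : IsPGroup q (Subgroup.zpowers a) := IsPGroup.of_card (n := i0) (by rw [Nat.card_zpowers, hi0])
    have hnorm : Subgroup.zpowers a ≤ Subgroup.normalizer (Y : Set G) := by
      rw [Subgroup.zpowers_le, Subgroup.mem_normalizer_iff]
      intro h
      constructor
      · intro hh
        have : a * h * a⁻¹ = h := by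
          rw [hAcomm a ha h (hYA hh)]; group
        rw [this]; exact hh
      · intro hh
        have h1 : a⁻¹ * (a * h * a⁻¹) * a = a * h * a⁻¹ := by
          have := hAcomm a⁻¹ (A.inv_mem ha) _ (hYA hh)
          rw [this]; group
        have h2 : a⁻¹ * (a * h * a⁻¹) * a = h := by group
        rw [← h2, h1]; exact hh
    have hSp : IsPGroup q S := IsPGroup.to_sup_of_normal_right' hap hYp hnorm
    obtain ⟨i, hi⟩ := IsPGroup.iff_card.mp hSp
    have hdiv : q ^ i ∣ Nat.card A := hi ▸ Subgroup.card_dvd_of_le hSA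
    have hik : i ≤ k - 1 := by
      by_contra h
      push_neg at h
      exact hndvd (dvd_trans (pow_dvd_pow q (by omega)) hdiv)
    have hYS : Y = S := Subgroup.eq_of_le_of_card_ge le_sup_right
      (by rw [hi, hY, Nat.card_zpowers, hoyq]; exact Nat.pow_le_pow_right hqp.pos hik)
    rw [hYS]
    exact Subgroup.mem_sup_left (Subgroup.mem_zpowers a)
  have hycomm : ∀ a ∈ A, Commute a y := by
    intro a ha
    obtain ⟨j, m2, hm2, hoa⟩ := Nat.exists_eq_pow_mul_and_not_dvd (orderOf_pos a).ne' q hqp.ne_one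
    have hcop0 : Nat.Coprime q m2 := (Nat.Prime.coprime_iff_not_dvd hqp).mpr hm2
    have hcop : Nat.Coprime m2 (q ^ j) := Nat.Coprime.pow_right j hcop0.symm
    apply commute_of_pow_commute_of_coprime hcop
    · have h1 : (a ^ m2) ^ (q ^ j) = 1 := by
        rw [← pow_mul, mul_comm, ← hoa]; exact pow_orderOf_eq_one a
      have h2 := hqel (a ^ m2) (A.pow_mem ha _) j h1
      obtain ⟨t, ht⟩ := Subgroup.mem_zpowers_iff.mp h2
      rw [← ht]
      exact ((Commute.refl y).pow_left q).zpow_left t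
    · have h1 : (a ^ (q ^ j)) ^ m2 = 1 := by
        rw [← pow_mul, ← hoa]; exact pow_orderOf_eq_one a
      have h2 : y ^ (q ^ k) = 1 := by rw [← hnqk]; exact pow_orderOf_eq_one y
      have := coprime_commute G y (a ^ (q ^ j)) (q ^ k) m2 h2 h1 (Nat.Coprime.pow_left k hcop0)
      exact this.symm
  apply hyA
  apply hCA
  rw [Subgroup.mem_centralizer_iff]
  intro a ha
  exact (hycomm a ha).eq

end Cfsg.Agent.S3910
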