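import Mathlib
import Cfsg.Statements.S1897
import Cfsg.Agent.S0279
import Cfsg.Agent.S0255
import Cfsg.Agent.Lib.Helper19.L27
-- import your own Cfsg.Agent.* helpers here

set_option autoImplicit false
open Cfsg

namespace Cfsg.Agent.S1897

open Matrix Cfsg.Agent.Lib.Helper19.L27 Cfsg.Agent.Lib.helper15.St2

theorem mem_SU_iff_pow {F : Type*} [Field F] [Fintype F] (hF : Fintype.card F = 9)
    (A : Matrix.SpecialLinearGroup (Fin 3) F) :
    A ∈ Cfsg.SU 3 F 3 ↔ (A.1)ᵀ * (A.1).map (· ^ 3) = 1 := by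
  have hF' : Fintype.card F = 3 ^ 2 := by rw [hF]; norm_num
  obtain ⟨σ, hσ⟩ := Cfsg.Agent.Lib.Lead.exists_frob hF'
  rw [Cfsg.Agent.S0279.mem_SU_iff' σ hσ]
  have h : (A.1).map σ = (A.1).map (· ^ 3) := by
    ext i j
    simp [hσ]
  rw [h]

noncomputable def slEquiv9 {F : Type*} [Field F] (e : F ≃+* F9) :
    Matrix.SpecialLinearGroup (Fin 3) F ≃* S39 where
  toFun := Matrix.SpecialLinearGroup.map e.toRingHom
  invFun := Matrix.SpecialLinearGroup.map e.symm.toRingHom
  left_inv y := by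
    apply Subtype.ext
    ext i j <;> simp [Matrix.SpecialLinearGroup.map_apply_coe]
  right_inv y := by
    apply Subtype.ext
    ext i j <;> simp [Matrix.SpecialLinearGroup.map_apply_coe]
  map_mul' := map_mul _

theorem slEquiv9_coe {F : Type*} [Field F] (e : F ≃+* F9)
    (A : Matrix.SpecialLinearGroup (Fin 3) F) : (slEquiv9 e A).1 = (A.1).map e := by
  ext i j <;> simp [slEquiv9, Matrix.SpecialLinearGroup.map_apply_coe]

theorem isU_iff {F : Type*} [Field F] [Fintype F] (hF : Fintype.card F = 9) (e : F ≃+* F9)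
    (A : Matrix.SpecialLinearGroup (Fin 3) F) :
    A ∈ Cfsg.SU 3 F 3 ↔ (slEquiv9 e A).1ᵀ * (slEquiv9 e A).1.map (· ^ 3) = 1 := by
  rw [mem_SU_iff_pow hF, slEquiv9_coe]
  have h2 : ((A.1).map e).map (· ^ 3) = ((A.1).map (· ^ 3)).map e := by
    apply Matrix.ext
    intro i j
    simp only [Matrix.map_apply, map_pow]
  rw [h2, ← Matrix.transpose_map, ← Matrix.map_mul]
  constructor
  · intro h
    rw [h, Matrix.map_one e (map_zero e) (map_one e)]
  · intro h
    apply Matrix.map_injective e.injective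
    show ((A.1)ᵀ * (A.1).map (· ^ 3)).map e = (1 : Matrix (Fin 3) (Fin 3) F).map e
    rw [h, Matrix.map_one e (map_zero e) (map_one e)]

theorem center_SU_eq_bot {F : Type*} [Field F] [Fintype F] (hF : Fintype.card F = 9) :
    Subgroup.center (Cfsg.SU 3 F 3) = ⊥ := by
  have hF' : Fintype.card F = 3 ^ 2 := by rw [hF]; norm_num
  have h := Cfsg.Agent.S0279.card_center_SU (n := 3) hF' (by norm_num)
  rw [← Subgroup.card_eq_one, h]
  rfl

instance fact7 : Fact (Nat.Prime 7) := ⟨by norm_num⟩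

/-- the Steinberg datum in `SU₃(F)` -/
noncomputable def stSU {F : Type*} [Field F] [Fintype F] (hF : Fintype.card F = 9) (e : F ≃+* F9) :
    St (ZMod 7) (Cfsg.SU 3 F 3) where
  X b t := ⟨(slEquiv9 e).symm (N0 b t), by
    rw [isU_iff hF e, MulEquiv.apply_symm_apply]
    exact N0_isU b t⟩
  add b t u := by
    apply Subtype.ext
    show (slEquiv9 e).symm (N0 b t) * (slEquiv9 e).symm (N0 b u) = (slEquiv9 e).symm (N0 b (t + u))
    rw [← map_mul, N0_add]
  rel b t u ht := by
    unfold cj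
    rw [mul_inv_eq_iff_eq_mul]
    apply Subtype.ext
    show (slEquiv9 e).symm (N0 b t) * (slEquiv9 e).symm (N0 (!b) (-t⁻¹)) *
        (slEquiv9 e).symm (N0 b t) * (slEquiv9 e).symm (N0 b u) =
      (slEquiv9 e).symm (N0 (!b) (-(t⁻¹ ^ 2 * u))) * ((slEquiv9 e).symm (N0 b t) *
        (slEquiv9 e).symm (N0 (!b) (-t⁻¹)) * (slEquiv9 e).symm (N0 b t))
    simp only [← map_mul]
    rw [N0_rel b t t⁻¹ u (mul_inv_cancel₀ ht)]

/-- The projective special unitary group PSU₃(3) (realised over the field with 9 elements) has a subgroup isomorphic to PSL₂(7). -/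
theorem result {F : Type*} [Field F] [Fintype F] (hF : Fintype.card F = 9)
    {K : Type*} [Field K] [Fintype K] (hK : Fintype.card K = 7) :
    ∃ H : Subgroup (Cfsg.PSU 3 F 3), Nonempty (H ≃* Matrix.ProjectiveSpecialLinearGroup (Fin 2) K) := by
  have hcard : Fintype.card F = Fintype.card F9 := by rw [hF, F9.card]
  let e : F ≃+* F9 := FiniteField.ringEquivOfCardEq hcard
  have p7 : Nat.Prime 7 := by norm_num
  let e7 : ZMod 7 ≃+* K := ZMod.ringEquivOfPrime K p7 hK
  let S1 := stSU hF e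
  let S' : St K (Cfsg.SU 3 F 3) := Cfsg.Agent.S0255.comapRing S1 e7.symm
  obtain ⟨ψ, hψx, hψy⟩ := Cfsg.Agent.S0255.exists_lift S'
  have hX : ∀ b t, S'.X b t = S1.X b (e7.symm t) := fun b t => rfl
  have hX1 : ∀ b t, ((S1.X b t : Cfsg.SU 3 F 3) : Matrix.SpecialLinearGroup (Fin 3) F) =
      (slEquiv9 e).symm (N0 b t) := fun b t => rfl
  have hneg : ψ (-1) = 1 := by
    rw [Cfsg.Agent.S0255.neg_one_eq, map_mul, map_mul, map_mul, hψx, hψy, hX, hX, map_neg, map_one]
    apply Subtype.ext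
    simp only [Subgroup.coe_mul, hX1, Subgroup.coe_one, ← map_mul]
    rw [N0_w, map_one]
  have hcen : ∀ z ∈ Subgroup.center (Matrix.SpecialLinearGroup (Fin 2) K), ψ z = 1 := by
    intro z hz
    rcases Cfsg.Agent.S0255.center_sl2 z hz with rfl | rfl
    · exact map_one ψ
    · exact hneg
  let ψ1 : Matrix.ProjectiveSpecialLinearGroup (Fin 2) K →* Cfsg.SU 3 F 3 :=
    QuotientGroup.lift _ ψ hcen
  let ψ2 : Matrix.ProjectiveSpecialLinearGroup (Fin 2) K →* Cfsg.PSU 3 F 3 :=
    (QuotientGroup.mk' _).comp ψ1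
  have hsimple : IsSimpleGroup (Matrix.ProjectiveSpecialLinearGroup (Fin 2) K) :=
    Matrix.ProjectiveSpecialLinearGroup.rank_two_simple
      (by rw [Nat.card_eq_fintype_card, hK]; norm_num)
  have hne : ψ2 (QuotientGroup.mk (xm 1)) ≠ 1 := by
    intro h
    have h0 : ψ2 (QuotientGroup.mk (xm 1)) = QuotientGroup.mk (ψ (xm 1)) := rfl
    rw [h0, hψx, hX, map_one, QuotientGroup.eq_one_iff, center_SU_eq_bot hF,
      Subgroup.mem_bot] at h
    have h1 := congrArg Subtype.val h
    rw [hX1] at h1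
    have h2 : (slEquiv9 e).symm (N0 true 1) = 1 := h1
    rw [MulEquiv.map_eq_one_iff] at h2
    exact N0_ne h2
  have hinj : Function.Injective ψ2 := by
    rw [← MonoidHom.ker_eq_bot_iff]
    rcases (Subgroup.Normal.eq_bot_or_eq_top (H := ψ2.ker) inferInstance) with h | h
    · exact h
    · exfalso
      apply hne
      have : (QuotientGroup.mk (xm 1) : Matrix.ProjectiveSpecialLinearGroup (Fin 2) K) ∈ ψ2.ker := by
        rw [h]
        trivial
      exact this
  exact ⟨ψ2.range, ⟨(MonoidHom.ofInjective hinj).symm⟩⟩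

end Cfsg.Agent.S1897
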