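import Cfsg.Statements.S5326
import Cfsg.Agent.Lib.Helper26.StrongEmb2
import Cfsg.Agent.Lib.Helper26.FusionAlperin2
import Cfsg.Agent.Lib.Helper26.FusionSat3

set_option autoImplicit false
open Cfsg

namespace Cfsg.Agent.S5326

open Cfsg.FusionSystem Cfsg.Agent.Lib.Helper26

variable {Ω : Type*} [Group Ω] {S : Subgroup Ω}

/-- Chosen normalizer maps onto `Q` and the isomorphisms they induce. -/
structure Frame (F : FusionSystem S) (Q : Subgroup Ω) where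
  N : ∀ R : Subgroup Ω, F.IsConj R Q → NormalizerHom F R Q
  e : ∀ R : Subgroup Ω, F.IsConj R Q → R ≃* Q
  iso : ∀ (R : Subgroup Ω) (hR : F.IsConj R Q), IsIso F (e R hR)
  spec : ∀ (R : Subgroup Ω) (hR : F.IsConj R Q) (x : R) (hx : (x : Ω) ∈ normalizerIn S R),
    ((e R hR x : Q) : Ω) = (N R hR).φ ⟨x, hx⟩

theorem nonempty_frame [Finite S] {p : ℕ} [Fact p.Prime] (hS : IsPGroup p S) (F : FusionSystem S)
    {Q : Subgroup Ω} (h₁ : F.IsFullyAutomized p Q) (h₂ : F.IsReceptive Q) :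
    Nonempty (Frame F Q) := by
  classical
  have hN : ∀ R (_ : F.IsConj R Q), Nonempty (NormalizerHom F R Q) :=
    fun R hR => nonempty_normalizerHom hS F h₁ h₂ hR
  let N : ∀ R : Subgroup Ω, F.IsConj R Q → NormalizerHom F R Q :=
    fun R hR => Classical.choice (hN R hR)
  have he : ∀ R (hR : F.IsConj R Q), ∃ e : R ≃* Q, IsIso F e ∧
      ∀ x : R, ((e x : Q) : Ω) = (N R hR).restrictQ (isConj_le_left F hR) x :=
    fun R hR => exists_iso_of_hom F ((N R hR).restrictQ_mem _) ((N R hR).restrictQ_range _)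
  exact ⟨⟨N, fun R hR => (he R hR).choose, fun R hR => (he R hR).choose_spec.1,
    fun R hR x hx => (he R hR).choose_spec.2 x⟩⟩

/-- An isomorphism between conjugates of `Q` is good when, read on `Q`, it lies in `M`. -/
def Good {F : FusionSystem S} {Q : Subgroup Ω} (Fr : Frame F Q) (M : Subgroup (MulAut Q))
    {R R' : Subgroup Ω} (hR : F.IsConj R Q) (hR' : F.IsConj R' Q) (ε : R ≃* R') : Prop :=
  ((Fr.e R hR).symm.trans (ε.trans (Fr.e R' hR')) : MulAut Q) ∈ M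

theorem good_of_ne [Finite S] {p : ℕ} [Fact p.Prime] (hS : IsPGroup p S) (F : FusionSystem S)
    {Q : Subgroup Ω} (Fr : Frame F Q) (M : Subgroup (MulAut Q))
    (hKP : ∀ α ∈ F.autGroup Q, ∀ h ∈ S, h ∉ Q → ∀ hh : h ∈ Subgroup.normalizer (Q : Set Ω),
      α * conjAut Q h hh * α⁻¹ ∈ autInducedBy S Q → α ∈ M)
    {P R R' : Subgroup Ω} {φ : P →* Ω} (hφ : φ ∈ F.Hom P) (hRP : R ≤ P) (hne : R ≠ P)
    (hR : F.IsConj R Q) (hR' : F.IsConj R' Q) (ε : R ≃* R')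
    (hε : ∀ x : R, ((ε x : R') : Ω) = φ (Subgroup.inclusion hRP x)) : Good Fr M hR hR' ε := by
  have hPS : P ≤ S := source_le F hφ
  have hRS : R ≤ S := hRP.trans hPS
  have hR'S : R' ≤ S := isConj_le_left F hR'
  have hQS : Q ≤ S := isConj_le_right F hR
  have hfinP : Finite P := finite_of_le hPS
  obtain ⟨g, hgP, hgR, hgN⟩ := exists_normalizing_of_lt (hS.to_le hPS) hRP hne
  have hgS : g ∈ S := hPS hgP
  have hgNS : g ∈ normalizerIn S R := ⟨hgS, hgN⟩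
  have hg'S : φ ⟨g, hgP⟩ ∈ S := apply_mem F hφ _
  have hconj : ∀ (x : R) (hx : g * (x : Ω) * g⁻¹ ∈ R),
      ((ε ⟨g * x * g⁻¹, hx⟩ : R') : Ω) = φ ⟨g, hgP⟩ * ((ε x : R') : Ω) * (φ ⟨g, hgP⟩)⁻¹ := by
    intro x hx
    rw [hε, hε, ← map_inv, ← map_mul, ← map_mul]
    congr 1
  have hconj' : ∀ (x : R) (hx : g⁻¹ * (x : Ω) * g ∈ R),
      ((ε ⟨g⁻¹ * x * g, hx⟩ : R') : Ω) = (φ ⟨g, hgP⟩)⁻¹ * ((ε x : R') : Ω) * φ ⟨g, hgP⟩ := by
    intro x hx
    rw [hε, hε, ← map_inv, ← map_mul, ← map_mul]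
    congr 1
  have hg'N : φ ⟨g, hgP⟩ ∈ Subgroup.normalizer (R' : Set Ω) := by
    refine mem_normalizer_of_forall (fun y hy => ?_) (fun y hy => ?_)
    · have hy' : ((ε (ε.symm ⟨y, hy⟩) : R') : Ω) = y := by simp
      rw [← hy', ← hconj _ (conj_mem_of_mem_normalizer hgN _)]
      exact (ε _).2
    · have hy' : ((ε (ε.symm ⟨y, hy⟩) : R') : Ω) = y := by simp
      rw [← hy', ← hconj' _ (conj_inv_mem_of_mem_normalizer hgN _)]
      exact (ε _).2
  have hg'NS : φ ⟨g, hgP⟩ ∈ normalizerIn S R' := ⟨hg'S, hg'N⟩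
  have hhN : (Fr.N R hR).φ ⟨g, hgNS⟩ ∈ normalizerIn S Q := (Fr.N R hR).maps _
  have hh'N : (Fr.N R' hR').φ ⟨φ ⟨g, hgP⟩, hg'NS⟩ ∈ normalizerIn S Q := (Fr.N R' hR').maps _
  have hhQ : (Fr.N R hR).φ ⟨g, hgNS⟩ ∉ Q := by
    intro hq
    obtain ⟨x, hx⟩ := (Fr.N R hR).exists_preimage hRS hq
    have h2 := (Fr.N R hR).injective hx
    apply hgR
    have h3 : (x : Ω) = g := congrArg Subtype.val h2
    rw [← h3]
    exact x.2
  have hεiso : IsIso F ε := mem_of_forall_eq F (restrict_mem F hφ hRP) (fun x => hε x)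
  have hαF : ((Fr.e R hR).symm.trans (ε.trans (Fr.e R' hR')) : MulAut Q) ∈ F.autGroup Q :=
    (isIso_iff_mem_autGroup F hQS _).mp ((Fr.iso R hR).symm.trans (hεiso.trans (Fr.iso R' hR')))
  refine hKP _ hαF _ hhN.1 hhQ hhN.2 ?_
  refine mem_autInducedBy_iff.mpr ⟨_, hh'N.1, fun y => ?_⟩
  have hxn : ∀ x : R, g * (x : Ω) * g⁻¹ ∈ R := fun x => conj_mem_of_mem_normalizer hgN x
  have hRN : ∀ x : R, (x : Ω) ∈ normalizerIn S R := fun x => le_normalizerIn_self hRS x.2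
  have hR'N : ∀ x : R', (x : Ω) ∈ normalizerIn S R' := fun x => le_normalizerIn_self hR'S x.2
  -- step 1
  have step1 : ∀ x : R, conjAut Q ((Fr.N R hR).φ ⟨g, hgNS⟩) hhN.2 (Fr.e R hR x) =
      Fr.e R hR ⟨g * x * g⁻¹, hxn x⟩ := by
    intro x
    apply Subtype.ext
    rw [conjAut_apply, Fr.spec R hR x (hRN x), Fr.spec R hR ⟨g * x * g⁻¹, hxn x⟩ (hRN _),
      ← map_inv, ← map_mul, ← map_mul]
    congr 1
  -- step 2
  have step2 : ∀ x : R, ((Fr.e R' hR' (ε ⟨g * x * g⁻¹, hxn x⟩) : Q) : Ω) =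
      (Fr.N R' hR').φ ⟨φ ⟨g, hgP⟩, hg'NS⟩ * ((Fr.e R' hR' (ε x) : Q) : Ω) *
        ((Fr.N R' hR').φ ⟨φ ⟨g, hgP⟩, hg'NS⟩)⁻¹ := by
    intro x
    rw [Fr.spec R' hR' _ (hR'N _), Fr.spec R' hR' _ (hR'N _), ← map_inv, ← map_mul, ← map_mul]
    congr 1
    apply Subtype.ext
    exact hconj x (hxn x)
  have hy : y = Fr.e R' hR' (ε (ε.symm ((Fr.e R' hR').symm y))) := by simp
  have hinv : (((Fr.e R hR).symm.trans (ε.trans (Fr.e R' hR')) : MulAut Q))⁻¹ y =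
      Fr.e R hR (ε.symm ((Fr.e R' hR').symm y)) := by
    rw [MulAut.inv_def]
    rfl
  rw [MulAut.mul_apply, MulAut.mul_apply, hinv, step1]
  have happ : ((Fr.e R hR).symm.trans (ε.trans (Fr.e R' hR')) : MulAut Q)
      (Fr.e R hR ⟨g * (ε.symm ((Fr.e R' hR').symm y) : R) * g⁻¹, hxn _⟩) =
      Fr.e R' hR' (ε ⟨g * (ε.symm ((Fr.e R' hR').symm y) : R) * g⁻¹, hxn _⟩) := by
    show (Fr.e R' hR') (ε ((Fr.e R hR).symm (Fr.e R hR _))) = _
    rw [MulEquiv.symm_apply_apply]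
  rw [happ, step2]
  conv_rhs => rw [hy]

theorem good_trans {F : FusionSystem S} {Q : Subgroup Ω} (Fr : Frame F Q) (M : Subgroup (MulAut Q))
    {R R' R'' : Subgroup Ω} (hR : F.IsConj R Q) (hR' : F.IsConj R' Q) (hR'' : F.IsConj R'' Q)
    {ε₁ : R ≃* R'} {ε₂ : R' ≃* R''} (h₁ : Good Fr M hR hR' ε₁) (h₂ : Good Fr M hR' hR'' ε₂) :
    Good Fr M hR hR'' (ε₁.trans ε₂) := by
  have h := M.mul_mem h₂ h₁
  have e : ((Fr.e R' hR').symm.trans (ε₂.trans (Fr.e R'' hR'')) : MulAut Q) *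
      ((Fr.e R hR).symm.trans (ε₁.trans (Fr.e R' hR')) : MulAut Q) =
      ((Fr.e R hR).symm.trans ((ε₁.trans ε₂).trans (Fr.e R'' hR'')) : MulAut Q) := by
    apply MulEquiv.ext
    intro y
    rw [MulAut.mul_apply]
    simp only [MulEquiv.trans_apply, MulEquiv.symm_apply_apply]
  unfold Good
  rw [← e]
  exact h

theorem good_symm {F : FusionSystem S} {Q : Subgroup Ω} (Fr : Frame F Q) (M : Subgroup (MulAut Q))
    {R R' : Subgroup Ω} (hR : F.IsConj R Q) (hR' : F.IsConj R' Q)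
    {ε : R ≃* R'} (h : Good Fr M hR hR' ε) : Good Fr M hR' hR ε.symm := by
  have h1 := M.inv_mem h
  have e : (((Fr.e R hR).symm.trans (ε.trans (Fr.e R' hR')) : MulAut Q))⁻¹ =
      ((Fr.e R' hR').symm.trans (ε.symm.trans (Fr.e R hR)) : MulAut Q) := by
    rw [MulAut.inv_def]
    rfl
  unfold Good
  rw [← e]
  exact h1

/-- The subsystem of maps all of whose restrictions to conjugates of `Q` are good. -/
def sys (F : FusionSystem S) {Q : Subgroup Ω} (Fr : Frame F Q) (M : Subgroup (MulAut Q))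
    (hML : ∀ {P R R' : Subgroup Ω} {φ : P →* Ω}, φ ∈ F.Hom P → ∀ (hRP : R ≤ P), R ≠ P →
      ∀ (hR : F.IsConj R Q) (hR' : F.IsConj R' Q) (ε : R ≃* R'),
      (∀ x : R, ((ε x : R') : Ω) = φ (Subgroup.inclusion hRP x)) → Good Fr M hR hR' ε)
    (hne : ∀ R : Subgroup Ω, F.IsConj R Q → R ≠ S) : FusionSystem S where
  Hom P := {φ | φ ∈ F.Hom P ∧ ∀ (R R' : Subgroup Ω) (hRP : R ≤ P) (hR : F.IsConj R Q)
    (hR' : F.IsConj R' Q) (ε : R ≃* R'),
    (∀ x : R, ((ε x : R') : Ω) = φ (Subgroup.inclusion hRP x)) → Good Fr M hR hR' ε}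
  le_of_mem := fun h => F.le_of_mem h.1
  injective_of_mem := fun h => F.injective_of_mem h.1
  conj_mem := by
    intro P g hP hg
    refine ⟨F.conj_mem hP hg, fun R R' hRP hR hR' ε hε => ?_⟩
    exact hML (F.conj_mem le_rfl hg) (hRP.trans hP) (hne R hR) hR hR' ε (fun x => hε x)
  comp_mem := by
    intro P Q' φ ψ hφ hψ h
    refine ⟨F.comp_mem hφ.1 hψ.1 h, fun R R'' hRP hR hR'' ε hε => ?_⟩
    obtain ⟨ε₁, hε₁iso, hε₁⟩ := exists_iso_of_hom F (restrict_mem F hφ.1 hRP) rfl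
    have hR' : F.IsConj (φ.comp (Subgroup.inclusion hRP)).range Q :=
      isConj_trans F (isConj_symm F hε₁iso.isConj) hR
    have hR'Q' : (φ.comp (Subgroup.inclusion hRP)).range ≤ Q' := by
      rintro _ ⟨x, rfl⟩
      exact h _
    have hg1 := hφ.2 R _ hRP hR hR' ε₁ (fun x => hε₁ x)
    have hg2 := hψ.2 _ R'' hR'Q' hR' hR'' (ε₁.symm.trans ε) (fun y => by
      obtain ⟨x, rfl⟩ := ε₁.surjective y
      show ((ε (ε₁.symm (ε₁ x)) : R'') : Ω) = _
      rw [MulEquiv.symm_apply_apply, hε x]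
      show ψ (φ.codRestrict Q' h (Subgroup.inclusion hRP x)) = _
      congr 1
      apply Subtype.ext
      exact (hε₁ x).symm)
    have hg3 := good_trans Fr M hR hR' hR'' hg1 hg2
    have e : ε₁.trans (ε₁.symm.trans ε) = ε := by
      ext x
      simp
    rwa [e] at hg3
  inv_mem := by
    intro P φ hφ
    obtain ⟨ψ, hψ, hψe⟩ := F.inv_mem hφ.1
    refine ⟨ψ, ⟨hψ, fun R' R'' hR'P hR' hR'' ε hε => ?_⟩, hψe⟩
    have hR''P : R'' ≤ P := by
      intro z hz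
      have h1 : ((ε (ε.symm ⟨z, hz⟩) : R'') : Ω) = z := by simp
      rw [hε] at h1
      obtain ⟨x, hx⟩ := hR'P (ε.symm ⟨z, hz⟩).2
      have h2 : Subgroup.inclusion hR'P (ε.symm ⟨z, hz⟩) = ⟨φ x, ⟨x, rfl⟩⟩ := Subtype.ext hx.symm
      rw [h2, hψe] at h1
      rw [← h1]
      exact x.2
    have hg := hφ.2 R'' R' hR''P hR'' hR' ε.symm (fun z => by
      obtain ⟨y, rfl⟩ := ε.surjective z
      rw [MulEquiv.symm_apply_apply]
      obtain ⟨x, hx⟩ := hR'P y.2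
      have h2 : Subgroup.inclusion hR'P y = ⟨φ x, ⟨x, rfl⟩⟩ := Subtype.ext hx.symm
      have h3 : ((ε y : R'') : Ω) = x := by rw [hε, h2, hψe]
      rw [← hx]
      congr 1
      apply Subtype.ext
      exact h3.symm)
    have := good_symm Fr M hR'' hR' hg
    rwa [MulEquiv.symm_symm] at this

theorem not_essential_top [Finite S] {p : ℕ} [Fact p.Prime] (hS : IsPGroup p S)
    (F : FusionSystem S) (hF : F.IsSaturated p) (hQ : F.IsEssential p S) : False := by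
  obtain ⟨-, hfn, hn, Y, hY⟩ := hQ
  obtain ⟨-, hfa, -⟩ := saturated_fullyNormalized hS F hF hfn
  obtain ⟨R, hR⟩ := hfa.2
  have hT : ((R.mapSurjective (QuotientGroup.mk'_surjective
      ((Inn S).subgroupOf (F.autGroup S)))) :
      Subgroup (↥(F.autGroup S) ⧸ (Inn ↥S).subgroupOf (F.autGroup S))) = ⊥ := by
    rw [Sylow.coe_mapSurjective, hR, eq_bot_iff]
    rintro _ ⟨α, hα, rfl⟩
    rw [Subgroup.mem_bot, QuotientGroup.mk'_apply, QuotientGroup.eq_one_iff,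
      Subgroup.mem_subgroupOf]
    obtain ⟨g, hg, hgα⟩ := mem_autInducedBy_iff.mp (Subgroup.mem_subgroupOf.mp hα)
    refine ⟨⟨g, hg⟩, ?_⟩
    ext x
    rw [hgα x]
    rfl
  have h1 := (R.mapSurjective (QuotientGroup.mk'_surjective
      ((Inn S).subgroupOf (F.autGroup S)))).not_dvd_index
  rw [hT, Subgroup.index_bot] at h1
  exact h1 hY.1

theorem ne_top_of_essential [Finite S] {p : ℕ} [Fact p.Prime] (hS : IsPGroup p S)
    (F : FusionSystem S) (hF : F.IsSaturated p) {Q : Subgroup Ω} (hQ : F.IsEssential p Q) :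
    Q ≠ S := by
  intro h
  rw [h] at hQ
  exact not_essential_top hS F hF hQ

/-- Let F be a saturated fusion system over a finite p-group S and Q an essential subgroup. Then the F-conjugacy class of Q cannot be left out of a generating family: there is a fusion system E over S whose automorphism group of every subgroup R ≤ S not F-conjugate to Q contains Aut_F(R), and yet E does not contain every map of F. -/
theorem result {Ω : Type*} [Group Ω] {S : Subgroup Ω} [Finite S] (p : ℕ) [Fact p.Prime] (hS : IsPGroup p S) (F : Cfsg.FusionSystem S) (hF : F.IsSaturated p) (Q : Subgroup Ω) (hQ : F.IsEssential p Q) : ∃ E : Cfsg.FusionSystem S, (∀ R : Subgroup Ω, R ≤ S → ¬ F.IsConj Q R → F.autGroup R ≤ E.autGroup R) ∧ ¬ F ≤ E := by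
  have hQneS : Q ≠ S := ne_top_of_essential hS F hF hQ
  obtain ⟨hcen, hfn, hn, Y, hY⟩ := hQ
  have hQS : Q ≤ S := hfn.1
  have hfinQ : Finite Q := finite_of_le hQS
  obtain ⟨-, hfa, hrec⟩ := saturated_fullyNormalized hS F hF hfn
  obtain ⟨R, hR⟩ := hfa.2
  have hC : centralizerIn S Q ≤ Q := hcen.2 Q (isConj_refl F hQS)
  obtain ⟨Y', hY'top, hY'⟩ := exists_proper_of_stronglyPEmbedded hY
    (R.mapSurjective (QuotientGroup.mk'_surjective _))
  obtain ⟨M, hMmem, hMmem'⟩ : ∃ M : Subgroup (MulAut Q),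
      (∀ α (hα : α ∈ F.autGroup Q),
        (QuotientGroup.mk' ((Inn Q).subgroupOf (F.autGroup Q))) ⟨α, hα⟩ ∈ Y' → α ∈ M) ∧
      (∀ α ∈ M, ∃ hα : α ∈ F.autGroup Q,
        (QuotientGroup.mk' ((Inn Q).subgroupOf (F.autGroup Q))) ⟨α, hα⟩ ∈ Y') := by
    refine ⟨(Y'.comap (QuotientGroup.mk' ((Inn Q).subgroupOf (F.autGroup Q)))).map
      (F.autGroup Q).subtype, fun α hα h => ⟨⟨α, hα⟩, h, rfl⟩, ?_⟩
    rintro _ ⟨β, hβ, rfl⟩
    exact ⟨β.2, hβ⟩
  have hKP : ∀ α ∈ F.autGroup Q, ∀ h ∈ S, h ∉ Q → ∀ hh : h ∈ Subgroup.normalizer (Q : Set Ω),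
      α * conjAut Q h hh * α⁻¹ ∈ autInducedBy S Q → α ∈ M := by
    intro α hα h hhS hhQ hhN hc
    have hmem : conjAut Q h hhN ∈ F.autGroup Q :=
      autInducedBy_le_autGroup F hQS (conjAut_mem_autInducedBy hhS hhN)
    refine hMmem α hα (hY' ((QuotientGroup.mk' ((Inn Q).subgroupOf (F.autGroup Q)))
      ⟨conjAut Q h hhN, hmem⟩) _ ?_ ?_ ?_)
    · rw [← SetLike.mem_coe, ← Sylow.coe_coe, SetLike.mem_coe, Sylow.coe_mapSurjective, hR]
      exact ⟨_, Subgroup.mem_subgroupOf.mpr (conjAut_mem_autInducedBy hhS hhN), rfl⟩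
    · intro h1
      rw [QuotientGroup.mk'_apply, QuotientGroup.eq_one_iff, Subgroup.mem_subgroupOf] at h1
      exact notMem_inn_of_centric hQS hC hhS hhQ hhN h1
    · rw [← SetLike.mem_coe, ← Sylow.coe_coe, SetLike.mem_coe, Sylow.coe_mapSurjective, hR]
      refine ⟨⟨α, hα⟩ * ⟨conjAut Q h hhN, hmem⟩ * ⟨α, hα⟩⁻¹, Subgroup.mem_subgroupOf.mpr hc, ?_⟩
      rw [map_mul, map_mul, map_inv]
  obtain ⟨Fr⟩ := nonempty_frame hS F hfa hrec
  have hne : ∀ R₁ : Subgroup Ω, F.IsConj R₁ Q → R₁ ≠ S := by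
    rintro R₁ hR₁ rfl
    apply hQneS
    apply Subgroup.eq_of_le_of_card_ge hQS
    obtain ⟨e, -⟩ := exists_iso_of_isConj F hR₁
    exact (Nat.card_congr e.toEquiv).le
  have hML : ∀ {P R₁ R' : Subgroup Ω} {φ : P →* Ω}, φ ∈ F.Hom P → ∀ (hRP : R₁ ≤ P), R₁ ≠ P →
      ∀ (hR₁ : F.IsConj R₁ Q) (hR' : F.IsConj R' Q) (ε : R₁ ≃* R'),
      (∀ x : R₁, ((ε x : R') : Ω) = φ (Subgroup.inclusion hRP x)) → Good Fr M hR₁ hR' ε :=
    fun hφ hRP hne' hR₁ hR' ε hε => good_of_ne hS F Fr M hKP hφ hRP hne' hR₁ hR' ε hε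
  refine ⟨sys F Fr M hML hne, ?_, ?_⟩
  · intro R₁ hR₁S hnc α hα
    rw [mem_autGroup_iff _ hR₁S] at hα ⊢
    refine ⟨hα, fun R₂ R' hRP hR₂ hR' ε hε => hML hα hRP ?_ hR₂ hR' ε hε⟩
    rintro rfl
    exact hnc (isConj_symm F hR₂)
  · intro hle
    have hex : ∃ α₀ ∈ F.autGroup Q, α₀ ∉ M := by
      by_contra hall
      apply hY'top
      rw [eq_top_iff]
      intro y _
      obtain ⟨β, rfl⟩ := QuotientGroup.mk'_surjective _ y
      have hβM : (β : MulAut Q) ∈ M := by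
        by_contra hβM
        exact hall ⟨β.1, β.2, hβM⟩
      obtain ⟨hβ, hβY⟩ := hMmem' _ hβM
      exact hβY
    obtain ⟨α₀, hα₀, hα₀M⟩ := hex
    have hQQ : F.IsConj Q Q := isConj_refl F hQS
    have hβ : IsIso F ((Fr.e Q hQQ).trans (α₀.trans (Fr.e Q hQQ).symm)) :=
      (Fr.iso Q hQQ).trans (((isIso_iff_mem_autGroup F hQS α₀).mpr hα₀).trans (Fr.iso Q hQQ).symm)
    have hβE := hle Q hβ
    have hg := hβE.2 Q Q le_rfl hQQ hQQ ((Fr.e Q hQQ).trans (α₀.trans (Fr.e Q hQQ).symm))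
      (fun x => rfl)
    apply hα₀M
    have e : ((Fr.e Q hQQ).symm.trans (((Fr.e Q hQQ).trans (α₀.trans (Fr.e Q hQQ).symm)).trans
        (Fr.e Q hQQ)) : MulAut Q) = α₀ := by
      apply MulEquiv.ext
      intro y
      simp only [MulEquiv.trans_apply, MulEquiv.apply_symm_apply]
    rw [← e]
    exact hg

end Cfsg.Agent.S5326
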