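import Cfsg.Statements.S2381

import Cfsg.Agent.Lib.helper15.SylowVal
import Cfsg.Agent.Lib.helper15.SylowEmb
import Cfsg.Agent.Lib.Helper16.Symplectic
import Cfsg.Agent.Lib.Helper16.SympTrans
import Cfsg.Agent.Lib.Lead.SympCount
set_option autoImplicit false
open Cfsg

namespace Cfsg.Agent.S2381


open scoped MatrixGroups
open Cfsg.Agent.Lib.helper15.SylowVal Cfsg.Agent.Lib.helper15.SylowEmb
  Cfsg.Agent.Lib.helper15.BlockTri Polynomial

section val

variable {r : ℕ} [hr : Fact r.Prime]

lemma val_pow_sub_one_eq' (q : ℕ) (hq : 1 < q) (hrq : ¬ r ∣ q) (k : ℕ) (hk : 0 < k)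
    (hkr : ∀ j, k = orderOf (q : ZMod r) * j → ¬ r ∣ j) :
    padicValNat r (q ^ k - 1) = if orderOf (q : ZMod r) ∣ k then
      padicValNat r ((cyclotomic (orderOf (q : ZMod r)) ℤ).eval (q : ℤ)).natAbs else 0 := by
  split_ifs with h
  · obtain ⟨j, hj⟩ := h
    have hjr := hkr j hj
    rw [hj, pow_mul, val_pow_sub_one (q ^ orderOf (q : ZMod r)) j (Nat.one_le_pow _ _ (by omega))
      ((dvd_pow_sub_one_iff q (by omega) _).2 dvd_rfl) hjr, val_cyc q hq hrq]
  · apply padicValNat.eq_zero_of_not_dvd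
    rw [dvd_pow_sub_one_iff q (by omega)]
    exact h

lemma val_Sp_aux (q : ℕ) (hq : 1 < q) (hrq : ¬ r ∣ q) (hr2 : r ≠ 2) (n : ℕ) (hn : n < r) :
    padicValNat r (∏ i ∈ Finset.range n, ((q ^ (2 * (n - i)) - 1) * q ^ (2 * (n - i) - 1))) =
      ((Finset.Icc 1 n).filter (fun i => orderOf (q : ZMod r) ∣ 2 * i)).card *
      padicValNat r ((cyclotomic (orderOf (q : ZMod r)) ℤ).eval (q : ℤ)).natAbs := by
  have hne : ∀ j, 0 < j → q ^ j - 1 ≠ 0 := by
    intro j hj
    have : 2 ≤ q ^ j := by
      calc 2 ≤ q := hq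
        _ = q ^ 1 := (pow_one q).symm
        _ ≤ q ^ j := Nat.pow_le_pow_right (by omega) hj
    omega
  have h1 : ∀ m, m ≤ n → padicValNat r (∏ i ∈ Finset.range m,
      ((q ^ (2 * (m - i)) - 1) * q ^ (2 * (m - i) - 1))) =
      ∑ j ∈ Finset.range m, padicValNat r (q ^ (2 * (j + 1)) - 1) := by
    intro m
    induction m with
    | zero => intro _; simp
    | succ m ih =>
      intro hm
      rw [Finset.prod_range_succ', Finset.sum_range_succ]
      have e1 : ∀ i ∈ Finset.range m, (q ^ (2 * (m + 1 - (i + 1))) - 1) *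
          q ^ (2 * (m + 1 - (i + 1)) - 1) = (q ^ (2 * (m - i)) - 1) * q ^ (2 * (m - i) - 1) := by
        intro i _
        rw [Nat.add_sub_add_right]
      rw [Finset.prod_congr rfl e1]
      have hP : ∏ i ∈ Finset.range m, ((q ^ (2 * (m - i)) - 1) * q ^ (2 * (m - i) - 1)) ≠ 0 := by
        rw [Finset.prod_ne_zero_iff]
        intro i hi
        have := Finset.mem_range.1 hi
        exact mul_ne_zero (hne _ (by omega)) (pow_ne_zero _ (by omega))
      have hQ : (q ^ (2 * (m + 1 - 0)) - 1) * q ^ (2 * (m + 1 - 0) - 1) ≠ 0 :=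
        mul_ne_zero (hne _ (by omega)) (pow_ne_zero _ (by omega))
      rw [padicValNat.mul hP hQ, ih (by omega), padicValNat.mul (hne _ (by omega))
        (pow_ne_zero _ (by omega)), padicValNat.pow, padicValNat.eq_zero_of_not_dvd hrq, mul_zero,
        add_zero, Nat.sub_zero]
  rw [h1 n le_rfl]
  have h2 : ∀ j ∈ Finset.range n, padicValNat r (q ^ (2 * (j + 1)) - 1) =
      if orderOf (q : ZMod r) ∣ 2 * (j + 1) then
        padicValNat r ((cyclotomic (orderOf (q : ZMod r)) ℤ).eval (q : ℤ)).natAbs else 0 := by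
    intro j hj
    have hjn := Finset.mem_range.1 hj
    apply val_pow_sub_one_eq' q hq hrq (2 * (j + 1)) (by omega)
    intro t ht hrt
    have hd0 : 0 < orderOf (q : ZMod r) := orderOf_pos' q hrq
    have ht0 : 0 < t := by
      rcases Nat.eq_zero_or_pos t with h | h
      · rw [h, mul_zero] at ht
        omega
      · exact h
    obtain ⟨s, rfl⟩ := hrt
    have hs0 : 0 < s := by
      rcases Nat.eq_zero_or_pos s with h | h
      · rw [h, mul_zero] at ht0
        omega
      · exact h
    have hd1 : orderOf (q : ZMod r) = 1 := by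
      by_contra hne1
      have h2 : 2 ≤ orderOf (q : ZMod r) := by omega
      have : 2 * (r * s) ≤ orderOf (q : ZMod r) * (r * s) := Nat.mul_le_mul_right _ h2
      have : r ≤ r * s := Nat.le_mul_of_pos_right _ hs0
      omega
    rw [hd1, one_mul] at ht
    have h3 : r ∣ 2 * (j + 1) := ⟨s, ht⟩
    rcases (Nat.Prime.dvd_mul hr.out).1 h3 with h4 | h4
    · exact hr2 ((Nat.prime_dvd_prime_iff_eq hr.out Nat.prime_two).1 h4)
    · have := Nat.le_of_dvd (by omega) h4
      omega
  rw [Finset.sum_congr rfl h2, ← Finset.sum_filter, Finset.sum_const, smul_eq_mul]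
  congr 1
  apply Finset.card_bij (fun j _ => j + 1)
  · intro j hj
    simp only [Finset.mem_filter, Finset.mem_range, Finset.mem_Icc] at hj ⊢
    exact ⟨⟨by omega, by omega⟩, hj.2⟩
  · intro a _ b _ h
    omega
  · intro b hb
    simp only [Finset.mem_filter, Finset.mem_range, Finset.mem_Icc] at hb ⊢
    exact ⟨b - 1, ⟨by omega, by rw [Nat.sub_add_cancel hb.1.1]; exact hb.2⟩,
      Nat.sub_add_cancel hb.1.1⟩

end val

section form

variable {F : Type*} [Field F] {E : Type*} [Field E] [Algebra F E] [FiniteDimensional F E]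

noncomputable def tw (σ : E ≃ₐ[F] E) (c : E) : LinearMap.BilinForm F E :=
  (Algebra.traceForm F E).comp (LinearMap.mulLeft F c) σ.toLinearMap
  - (Algebra.traceForm F E).comp ((LinearMap.mulLeft F c).comp σ.toLinearMap) LinearMap.id

lemma tw_apply (σ : E ≃ₐ[F] E) (c x y : E) :
    tw σ c x y = Algebra.trace F E (c * x * σ y) - Algebra.trace F E (c * σ x * y) := by
  simp [tw, Algebra.traceForm_apply]

lemma tw_isAlt (σ : E ≃ₐ[F] E) (c : E) : (tw σ c).IsAlt := by
  intro x
  rw [tw_apply]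
  have : c * x * σ x = c * σ x * x := by ring
  rw [this, sub_self]

lemma tw_eq (σ : E ≃ₐ[F] E) (hσ : ∀ x, σ (σ x) = x) (c x y : E) :
    tw σ c x y = Algebra.trace F E ((c - σ c) * x * σ y) := by
  rw [tw_apply]
  have h1 : Algebra.trace F E (c * σ x * y) = Algebra.trace F E (σ (c * σ x * y)) :=
    (Algebra.trace_eq_of_algEquiv σ _).symm
  rw [h1, map_mul σ, map_mul σ, hσ, ← map_sub]
  congr 1
  ring

lemma tw_sepLeft [Algebra.IsSeparable F E] (σ : E ≃ₐ[F] E) (hσ : ∀ x, σ (σ x) = x) (c : E)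
    (hc : σ c ≠ c) (x : E) (hx : ∀ y, tw σ c x y = 0) : x = 0 := by
  by_contra hx0
  have ht : (c - σ c) * x ≠ 0 := mul_ne_zero (sub_ne_zero.2 (Ne.symm hc)) hx0
  obtain ⟨z, hz⟩ := Algebra.trace_surjective F E (1 : F)
  have h1 := hx (σ (z / ((c - σ c) * x)))
  rw [tw_eq σ hσ, hσ, mul_div_cancel₀ _ ht, hz] at h1
  exact one_ne_zero h1

lemma tw_inv (σ : E ≃ₐ[F] E) (c u : E) (hu : u * σ u = 1) (x y : E) :
    tw σ c (u * x) (u * y) = tw σ c x y := by
  rw [tw_apply, tw_apply, map_mul σ, map_mul σ]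
  have h1 : c * (u * x) * (σ u * σ y) = (u * σ u) * (c * x * σ y) := by ring
  have h2 : c * (σ u * σ x) * (u * y) = (u * σ u) * (c * σ x * y) := by ring
  rw [h1, h2, hu, one_mul, one_mul]

end form

section sum

variable {F : Type*} [Field F] {E : Type*} [Field E] [Algebra F E]
  {W : Type*} [AddCommGroup W] [Module F W] {k : ℕ}

noncomputable def bigForm (ω : LinearMap.BilinForm F E) (β : LinearMap.BilinForm F W) :
    LinearMap.BilinForm F ((Fin k → E) × W) :=
  (∑ i : Fin k, ω.comp ((LinearMap.proj i).comp (LinearMap.fst F (Fin k → E) W))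
      ((LinearMap.proj i).comp (LinearMap.fst F (Fin k → E) W)))
    + β.comp (LinearMap.snd F (Fin k → E) W) (LinearMap.snd F (Fin k → E) W)

lemma bigForm_apply (ω : LinearMap.BilinForm F E) (β : LinearMap.BilinForm F W)
    (v v' : (Fin k → E) × W) :
    bigForm ω β v v' = ∑ i, ω (v.1 i) (v'.1 i) + β v.2 v'.2 := by
  simp [bigForm, LinearMap.BilinForm.comp_apply, LinearMap.sum_apply]

lemma bigForm_isAlt (ω : LinearMap.BilinForm F E) (β : LinearMap.BilinForm F W)
    (hω : ω.IsAlt) (hβ : β.IsAlt) : (bigForm (k := k) ω β).IsAlt := by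
  intro v
  rw [bigForm_apply, hβ.self_eq_zero, add_zero]
  exact Finset.sum_eq_zero fun i _ => hω.self_eq_zero _

lemma bigForm_sepLeft (ω : LinearMap.BilinForm F E) (β : LinearMap.BilinForm F W)
    (hω : ∀ x, (∀ y, ω x y = 0) → x = 0) (hβ : ∀ w, (∀ w', β w w' = 0) → w = 0)
    (v : (Fin k → E) × W) (hv : ∀ v', bigForm ω β v v' = 0) : v = 0 := by
  obtain ⟨x, w⟩ := v
  have hx : x = 0 := by
    funext i
    apply hω
    intro y
    have h1 := hv (Pi.single i y, 0)
    rw [bigForm_apply] at h1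
    simp only [map_zero, add_zero] at h1
    rw [Finset.sum_eq_single i] at h1
    · simpa using h1
    · intro j _ hj
      rw [Pi.single_eq_of_ne hj, map_zero]
    · intro h
      exact absurd (Finset.mem_univ _) h
  have hw : w = 0 := by
    apply hβ
    intro w'
    have h1 := hv (0, w')
    rw [bigForm_apply] at h1
    simpa using h1
  rw [hx, hw]
  rfl

lemma bigForm_nondeg (ω : LinearMap.BilinForm F E) (β : LinearMap.BilinForm F W)
    (hω : ω.IsAlt) (hβ : β.IsAlt)
    (hω' : ∀ x, (∀ y, ω x y = 0) → x = 0) (hβ' : ∀ w, (∀ w', β w w' = 0) → w = 0) :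
    (bigForm (k := k) ω β).Nondegenerate := by
  exact ((bigForm_isAlt ω β hω hβ).isRefl.nondegenerate_iff_separatingLeft).2
    (bigForm_sepLeft ω β hω' hβ')

def act2 : (Fin k → E) →* Module.End F ((Fin k → E) × W) where
  toFun u := (LinearMap.mulLeft F u).prodMap LinearMap.id
  map_one' := by
    ext x <;> simp
  map_mul' u v := by
    ext x <;> simp [mul_assoc]

lemma act2_apply (u : Fin k → E) (v : (Fin k → E) × W) :
    act2 (F := F) (W := W) u v = (u * v.1, v.2) := rfl

lemma act2_injective : Function.Injective (act2 (F := F) (E := E) (W := W) (k := k)) := by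
  intro u v h
  have h1 := congrArg (fun f => (f ((1 : Fin k → E), (0 : W))).1) h
  simpa [act2] using h1

lemma bigForm_inv (ω : LinearMap.BilinForm F E) (β : LinearMap.BilinForm F W)
    (u : Fin k → E) (hu : ∀ i x y, ω (u i * x) (u i * y) = ω x y) (v v' : (Fin k → E) × W) :
    bigForm ω β (act2 (F := F) (W := W) u v) (act2 (F := F) (W := W) u v') = bigForm ω β v v' := by
  rw [bigForm_apply, bigForm_apply, act2_apply, act2_apply]
  simp only [Pi.mul_apply, hu]

end sum

section embs

open Cfsg.Agent.Lib.Lead Cfsg.Agent.Lib.Helper16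

theorem exists_emb_even {F : Type*} [Field F] (E : Type*) [Field E] [Algebra F E]
    [FiniteDimensional F E] [Algebra.IsSeparable F E]
    (σ : E ≃ₐ[F] E) (hσ : ∀ x, σ (σ x) = x) (c : E) (hc : σ c ≠ c) (e n k : ℕ)
    (hE : Module.finrank F E = 2 * e) (hk : k * e ≤ n)
    {A : Type*} [Group A] (ψ : A →* Eˣ) (hψ : Function.Injective ψ)
    (hu : ∀ a, ((ψ a : Eˣ) : E) * σ ((ψ a : Eˣ) : E) = 1) :
    ∃ φ : (Fin k → A) →* Matrix.symplecticGroup (Fin n) F, Function.Injective φ := by
  obtain ⟨l, hl⟩ : ∃ l, n = k * e + l := ⟨n - k * e, by omega⟩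
  have hV : Module.finrank F ((Fin k → E) × (Fin l ⊕ Fin l → F)) = 2 * n := by
    rw [Module.finrank_prod, Module.finrank_pi_fintype, Module.finrank_fintype_fun_eq_card, hl]
    simp only [hE, Finset.sum_const, Finset.card_univ, Fintype.card_fin, smul_eq_mul,
      Fintype.card_sum]
    ring
  have hAlt := bigForm_isAlt (k := k) (tw σ c) (sympB F l) (tw_isAlt σ c) sympB_isAlt
  have hnd := bigForm_nondeg (k := k) (tw σ c) (sympB F l) (tw_isAlt σ c) sympB_isAlt
    (tw_sepLeft σ hσ c hc) (sympB_nondegenerate (F := F) (m := l)).1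
  obtain ⟨b, hb⟩ := symplectic_basis (m := n) hV _ hAlt hnd
  let κ : (Fin k → A) →* (Fin k → E) := MonoidHom.compLeft ((Units.coeHom E).comp ψ) (Fin k)
  have hκ : Function.Injective κ := by
    intro u v huv
    funext i
    apply hψ
    apply Units.ext
    exact congrFun huv i
  refine embed_of_invariant b _ hb ((act2 (F := F) (W := (Fin l ⊕ Fin l → F))).comp κ) ?_
    (act2_injective.comp hκ)
  intro g v v'
  apply bigForm_inv
  intro i x y
  exact tw_inv σ c _ (hu (g i)) x y

theorem exists_levi {F : Type*} [Field F] (n : ℕ) :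
    ∃ φ : GL (Fin n) F →* Matrix.symplecticGroup (Fin n) F, Function.Injective φ := by
  have hmem : ∀ g : GL (Fin n) F, Matrix.fromBlocks (g : Matrix (Fin n) (Fin n) F) 0 0
      ((g⁻¹ : GL (Fin n) F) : Matrix (Fin n) (Fin n) F).transpose ∈
      Matrix.symplecticGroup (Fin n) F := by
    intro g
    rw [SymplecticGroup.mem_iff, Matrix.J, Matrix.fromBlocks_transpose, Matrix.fromBlocks_multiply,
      Matrix.fromBlocks_multiply]
    have h1 : (g : Matrix (Fin n) (Fin n) F) * ((g⁻¹ : GL (Fin n) F) : Matrix (Fin n) (Fin n) F) = 1 := by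
      rw [← Matrix.GeneralLinearGroup.coe_mul, mul_inv_cancel]
      rfl
    have h2 : ((g⁻¹ : GL (Fin n) F) : Matrix (Fin n) (Fin n) F) * (g : Matrix (Fin n) (Fin n) F) = 1 := by
      rw [← Matrix.GeneralLinearGroup.coe_mul, inv_mul_cancel]
      rfl
    simp [h1, ← Matrix.transpose_mul, h2]
  refine ⟨{ toFun := fun g => ⟨_, hmem g⟩, map_one' := ?_, map_mul' := ?_ }, ?_⟩
  · apply Subtype.ext
    simp [Matrix.fromBlocks_one]
  · intro g h
    apply Subtype.ext
    show Matrix.fromBlocks ((g * h : GL (Fin n) F) : Matrix (Fin n) (Fin n) F) 0 0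
      (((g * h)⁻¹ : GL (Fin n) F) : Matrix (Fin n) (Fin n) F).transpose =
      Matrix.fromBlocks (g : Matrix (Fin n) (Fin n) F) 0 0
        ((g⁻¹ : GL (Fin n) F) : Matrix (Fin n) (Fin n) F).transpose *
      Matrix.fromBlocks (h : Matrix (Fin n) (Fin n) F) 0 0
        ((h⁻¹ : GL (Fin n) F) : Matrix (Fin n) (Fin n) F).transpose
    rw [Matrix.fromBlocks_multiply, mul_inv_rev, Matrix.GeneralLinearGroup.coe_mul,
      Matrix.GeneralLinearGroup.coe_mul, Matrix.transpose_mul]
    simp
  · intro g h hgh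
    have h1 := congrArg Subtype.val hgh
    change Matrix.fromBlocks (g : Matrix (Fin n) (Fin n) F) 0 0 _ =
      Matrix.fromBlocks (h : Matrix (Fin n) (Fin n) F) 0 0 _ at h1
    rw [Matrix.fromBlocks_inj] at h1
    exact Units.ext h1.1

end embs

/-- Sylow subgroups of `Sp_{2n}(q)` for large primes. Let `F` be a field with `q` elements and `r` an odd prime with `r > n` and `r ∤ q` (so `r` does not divide the order `2^n n!` of the Weyl group). Let `d` be the multiplicative order of `q` modulo `r`, `a` the number of `i` with `1 ≤ i ≤ n` and `d ∣ 2i` (the degrees being `2, 4, …, 2n`), and `m` the `r`-part of the value at `q` of the `d`-th cyclotomic polynomial. Then every Sylow `r`-subgroup of the symplectic group `Sp_{2n}(q)` is a direct product of `a` cyclic groups of order `m`. -/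
theorem result {F : Type*} [Field F] [Fintype F] {q : ℕ} (hq : Fintype.card F = q) (n : ℕ)
    (r : ℕ) [Fact r.Prime] (hr2 : r ≠ 2) (hrn : n < r) (hrq : ¬ r ∣ q) (P : Sylow r ↥(Matrix.symplecticGroup (Fin n) F)) :
    Nonempty (↥(P : Subgroup ↥(Matrix.symplecticGroup (Fin n) F)) ≃*
      (Fin ((Finset.Icc 1 n).filter (fun i => orderOf (q : ZMod r) ∣ 2 * i)).card →
        Multiplicative (ZMod (r ^ padicValNat r ((Polynomial.cyclotomic (orderOf (q : ZMod r)) ℤ).eval (q : ℤ)).natAbs)))) := by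
  classical
  subst hq
  have hr : r.Prime := Fact.out
  have hq1 : 1 < Fintype.card F := Fintype.one_lt_card
  have hd0 : 0 < orderOf ((Fintype.card F : ℕ) : ZMod r) := orderOf_pos' _ hrq
  have hval : padicValNat r (Nat.card (Matrix.symplecticGroup (Fin n) F)) =
      ((Finset.Icc 1 n).filter (fun i => orderOf ((Fintype.card F : ℕ) : ZMod r) ∣ 2 * i)).card *
      padicValNat r ((cyclotomic (orderOf ((Fintype.card F : ℕ) : ZMod r)) ℤ).eval
        ((Fintype.card F : ℕ) : ℤ)).natAbs := by
    rw [Cfsg.Agent.Lib.Lead.card_Sp_eq_prod]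
    exact val_Sp_aux (Fintype.card F) hq1 hrq hr2 n hrn
  have : Fact (ringChar F).Prime := ⟨CharP.char_is_prime F _⟩
  have : NeZero (orderOf ((Fintype.card F : ℕ) : ZMod r)) := ⟨hd0.ne'⟩
  let E := FiniteField.Extension F (ringChar F) (orderOf ((Fintype.card F : ℕ) : ZMod r))
  have hE : Module.finrank F E = orderOf ((Fintype.card F : ℕ) : ZMod r) :=
    FiniteField.finrank_extension F (ringChar F) _
  have hcE : Nat.card Eˣ = Fintype.card F ^ orderOf ((Fintype.card F : ℕ) : ZMod r) - 1 := by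
    rw [Nat.card_units, FiniteField.natCard_extension, Nat.card_eq_fintype_card]
  have hm : r ^ padicValNat r ((Polynomial.cyclotomic (orderOf ((Fintype.card F : ℕ) : ZMod r)) ℤ).eval
      ((Fintype.card F : ℕ) : ℤ)).natAbs ∣ Nat.card Eˣ := by
    rw [hcE, ← val_cyc _ hq1 hrq]
    exact pow_padicValNat_dvd
  obtain ⟨ψ, hψ⟩ := exists_cyc E _ hm
  have hcardA : ∀ k, Nat.card (Fin k → Multiplicative (ZMod (r ^ padicValNat r ((Polynomial.cyclotomic
      (orderOf ((Fintype.card F : ℕ) : ZMod r)) ℤ).eval ((Fintype.card F : ℕ) : ℤ)).natAbs))) =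
      r ^ (k * padicValNat r ((Polynomial.cyclotomic
      (orderOf ((Fintype.card F : ℕ) : ZMod r)) ℤ).eval ((Fintype.card F : ℕ) : ℤ)).natAbs) := by
    intro k
    rw [Nat.card_fun, Nat.card_eq_fintype_card (α := Fin _), Fintype.card_fin,
      Nat.card_congr Multiplicative.toAdd, Nat.card_zmod, ← pow_mul, mul_comm]
  rcases Nat.even_or_odd (orderOf ((Fintype.card F : ℕ) : ZMod r)) with hev | hodd
  · obtain ⟨e, he⟩ := hev
    have he' : orderOf ((Fintype.card F : ℕ) : ZMod r) = 2 * e := by omega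
    have he0 : 0 < e := by omega
    have hc : ((Finset.Icc 1 n).filter
        (fun i => orderOf ((Fintype.card F : ℕ) : ZMod r) ∣ 2 * i)).card = n / e := by
      rw [← Nat.Ioc_filter_dvd_card_eq_div]
      congr 1
      ext i
      simp only [Finset.mem_filter, Finset.mem_Icc, Finset.mem_Ioc, he']
      rw [Nat.mul_dvd_mul_iff_left (by omega)]
      constructor
      · rintro ⟨⟨h1, h2⟩, h3⟩
        exact ⟨⟨by omega, h2⟩, h3⟩
      · rintro ⟨⟨h1, h2⟩, h3⟩
        exact ⟨⟨by omega, h2⟩, h3⟩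
    rw [hc] at hval ⊢
    let σ : E ≃ₐ[F] E := (FiniteField.Extension.frob F (ringChar F)
      (orderOf ((Fintype.card F : ℕ) : ZMod r))) ^ e
    have hσa : ∀ x : E, σ x = x ^ (Fintype.card F ^ e) := by
      intro x
      have := FiniteField.Extension.frob_iterate_apply F (ringChar F)
        (orderOf ((Fintype.card F : ℕ) : ZMod r)) e (x := x)
      rw [Nat.card_eq_fintype_card] at this
      exact this
    have hcardE : Nat.card E = Fintype.card F ^ (2 * e) := by
      rw [FiniteField.natCard_extension, Nat.card_eq_fintype_card, he']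
    have hσ : ∀ x : E, σ (σ x) = x := by
      intro x
      rw [hσa, hσa, ← pow_mul, ← pow_add, ← two_mul, ← hcardE]
      have := Fintype.ofFinite E
      rw [Nat.card_eq_fintype_card]
      exact FiniteField.pow_card x
    have hqe : 1 < Fintype.card F ^ e := Nat.one_lt_pow he0.ne' hq1
    have hfac : Fintype.card F ^ (2 * e) - 1 = (Fintype.card F ^ e - 1) * (Fintype.card F ^ e + 1) := by
      rw [two_mul, pow_add]
      have : 1 ≤ Fintype.card F ^ e := by omega
      zify [this, Nat.one_le_iff_ne_zero.2 (mul_ne_zero (by omega : Fintype.card F ^ e ≠ 0)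
        (by omega : Fintype.card F ^ e ≠ 0))]
      ring
    obtain ⟨c, hc⟩ : ∃ c : E, σ c ≠ c := by
      obtain ⟨g, hg⟩ := IsCyclic.exists_ofOrder_eq_natCard (α := Eˣ)
      refine ⟨(g : E), ?_⟩
      intro h
      rw [hσa] at h
      have h1 : g ^ (Fintype.card F ^ e) = g := by
        apply Units.ext
        rw [Units.val_pow_eq_pow_val]
        exact h
      have h2 : g ^ (Fintype.card F ^ e - 1) = 1 := by
        have : g ^ (Fintype.card F ^ e - 1) * g = g := by
          rw [← pow_succ, Nat.sub_add_cancel (by omega)]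
          exact h1
        exact mul_eq_right.1 this
      have h3 := orderOf_dvd_of_pow_eq_one h2
      rw [hg, hcE, he', hfac] at h3
      have h4 := Nat.le_of_dvd (by omega) h3
      have : (Fintype.card F ^ e - 1) * 2 ≤ (Fintype.card F ^ e - 1) * (Fintype.card F ^ e + 1) :=
        Nat.mul_le_mul_left _ (by omega)
      omega
    have hmdvd : r ^ padicValNat r ((Polynomial.cyclotomic (orderOf ((Fintype.card F : ℕ) : ZMod r)) ℤ).eval
        ((Fintype.card F : ℕ) : ℤ)).natAbs ∣ Fintype.card F ^ e + 1 := by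
      have h1 : r ^ padicValNat r ((Polynomial.cyclotomic (orderOf ((Fintype.card F : ℕ) : ZMod r)) ℤ).eval
          ((Fintype.card F : ℕ) : ℤ)).natAbs ∣ (Fintype.card F ^ e - 1) * (Fintype.card F ^ e + 1) := by
        rw [← hfac, ← he', ← hcE]
        exact hm
      refine Nat.Coprime.dvd_of_dvd_mul_left ?_ h1
      apply Nat.Coprime.pow_left
      rw [Nat.Prime.coprime_iff_not_dvd hr, dvd_pow_sub_one_iff _ (by omega), he']
      intro h
      have := Nat.le_of_dvd he0 h
      omega
    have hu : ∀ a, ((ψ a : Eˣ) : E) * σ ((ψ a : Eˣ) : E) = 1 := by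
      intro a
      rw [hσa, ← pow_succ', ← Units.val_pow_eq_pow_val]
      have h1 : (ψ a) ^ (r ^ padicValNat r ((Polynomial.cyclotomic (orderOf ((Fintype.card F : ℕ) : ZMod r)) ℤ).eval
          ((Fintype.card F : ℕ) : ℤ)).natAbs) = 1 := by
        rw [← map_pow]
        have := pow_card_eq_one' (G := Multiplicative (ZMod (r ^ padicValNat r ((Polynomial.cyclotomic
          (orderOf ((Fintype.card F : ℕ) : ZMod r)) ℤ).eval ((Fintype.card F : ℕ) : ℤ)).natAbs))) (x := a)
        rw [Nat.card_congr Multiplicative.toAdd, Nat.card_zmod] at this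
        rw [this, map_one]
      obtain ⟨t, ht⟩ := hmdvd
      rw [ht, pow_mul, h1, one_pow, Units.val_one]
    have : Algebra.IsSeparable F E := inferInstance
    obtain ⟨φ, hφ⟩ := exists_emb_even (F := F) E σ hσ c hc e n (n / e) (by rw [hE, he'])
      (Nat.div_mul_le_self _ _) ψ hψ hu
    exact sylow_equiv_of_injective φ hφ (by rw [hcardA, hval]) P
  · have hc : ((Finset.Icc 1 n).filter
        (fun i => orderOf ((Fintype.card F : ℕ) : ZMod r) ∣ 2 * i)).card =
        n / orderOf ((Fintype.card F : ℕ) : ZMod r) := by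
      rw [← Nat.Ioc_filter_dvd_card_eq_div]
      congr 1
      ext i
      simp only [Finset.mem_filter, Finset.mem_Icc, Finset.mem_Ioc]
      have hcop : Nat.Coprime (orderOf ((Fintype.card F : ℕ) : ZMod r)) 2 :=
        Nat.Coprime.symm (Nat.coprime_two_left.2 hodd)
      constructor
      · rintro ⟨⟨h1, h2⟩, h3⟩
        exact ⟨⟨by omega, h2⟩, hcop.dvd_of_dvd_mul_left h3⟩
      · rintro ⟨⟨h1, h2⟩, h3⟩
        exact ⟨⟨by omega, h2⟩, Dvd.dvd.mul_left h3 2⟩
    rw [hc] at hval ⊢
    obtain ⟨φ, hφ⟩ := exists_emb (F := F) E n (n / orderOf ((Fintype.card F : ℕ) : ZMod r))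
      (by rw [hE]; exact Nat.div_mul_le_self _ _)
    obtain ⟨lev, hlev⟩ := exists_levi (F := F) n
    refine sylow_equiv_of_injective (lev.comp (φ.comp (MonoidHom.compLeft ψ _))) ?_
      (by rw [hcardA, hval]) P
    intro u v huv
    have := hφ (hlev huv)
    funext i
    exact hψ (congrFun this i)

end Cfsg.Agent.S2381
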