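import Cfsg.Statements.S2469

import Cfsg.Agent.Lib.helper15.SpRegSemi2
import Cfsg.Agent.Lib.helper15.SpProd
import Cfsg.Agent.Lib.Lead.SympCount
import Cfsg.Agent.S0246
import Cfsg.Agent.S2381
set_option autoImplicit false
open Cfsg

namespace Cfsg.Agent.S2469


open Cfsg.Agent.Lib.helper15.SpRegSemi Cfsg.Agent.Lib.helper15.SpRegSemi2 Cfsg.Agent.Lib.helper15.SpProd
open Cfsg.Agent.Lib.helper15.SylowEmb

theorem to_psp {F : Type*} [Field F] (n : ℕ) (hn : 1 ≤ n) (x : Matrix.symplecticGroup (Fin n) F)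
    (N : ℕ) (hN : orderOf x = N) (hodd : Odd N) :
    N ∈ Set.range (orderOf : Cfsg.PSp n F → ℕ) := by
  refine ⟨QuotientGroup.mk x, ?_⟩
  obtain ⟨o, ho⟩ : ∃ o, o = orderOf (QuotientGroup.mk x : Cfsg.PSp n F) := ⟨_, rfl⟩
  rw [← ho]
  have hodvd : o ∣ N := by
    rw [ho]
    apply orderOf_dvd_of_pow_eq_one
    rw [← QuotientGroup.mk_pow, ← hN, pow_orderOf_eq_one, QuotientGroup.mk_one]
  have hmem : x ^ o ∈ Subgroup.center (Matrix.symplecticGroup (Fin n) F) := by
    rw [← QuotientGroup.eq_one_iff, QuotientGroup.mk_pow, ho]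
    exact pow_orderOf_eq_one _
  have hsq : (x ^ o) ^ 2 = 1 := by
    rcases Cfsg.Agent.S0246.center_cases hn _ hmem with h | h
    · rw [h, one_pow]
    · rw [h]
      apply Subtype.ext
      show (Cfsg.Agent.S0246.negOne F n : Matrix (Fin n ⊕ Fin n) (Fin n ⊕ Fin n) F) ^ 2 = 1
      rw [Cfsg.Agent.S0246.negOne_coe, neg_sq, one_pow]
  rw [← pow_mul] at hsq
  have h1 : N ∣ o * 2 := by
    rw [← hN]
    exact orderOf_dvd_of_pow_eq_one hsq
  have hcop : Nat.Coprime N 2 := Nat.Coprime.symm (Nat.coprime_two_left.2 hodd)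
  exact Nat.dvd_antisymm hodvd (hcop.dvd_of_dvd_mul_right h1)

theorem exists_order_sp {F : Type*} [Field F] [Fintype F] (a : ℕ) (r : ℕ) (hr : r.Prime) (i : ℕ)
    (hi1 : 1 ≤ i) (hia : i ≤ a) (hri : r ∣ Fintype.card F ^ (2 * i) - 1) :
    ∃ x : Matrix.symplecticGroup (Fin a) F, orderOf x = r := by
  classical
  have hfr : Fact r.Prime := ⟨hr⟩
  apply exists_prime_orderOf_dvd_card' r
  rw [Cfsg.Agent.Lib.Lead.card_Sp_eq_prod]
  have hmem : a - i ∈ Finset.range a := Finset.mem_range.2 (by omega)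
  refine dvd_trans ?_ (Finset.dvd_prod_of_mem _ hmem)
  have e1 : a - (a - i) = i := by omega
  rw [e1]
  exact Dvd.dvd.mul_right hri _

theorem eta_le {F : Type*} [Field F] [Fintype F] (n : ℕ) (s : ℕ) (hs : s.Prime)
    (hsq : ¬ s ∣ Fintype.card F) (hsG : s ∣ Nat.card (Cfsg.PSp n F))
    (l ηl : ℕ) (hl : l = orderOf ((Fintype.card F : ℕ) : ZMod s))
    (hηl : (Odd l ∧ ηl = l) ∨ (Even l ∧ 2 * ηl = l)) : ηl ≤ n := by
  classical
  have h1 : s ∣ Nat.card (Matrix.symplecticGroup (Fin n) F) := by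
    refine dvd_trans hsG ?_
    exact Subgroup.card_quotient_dvd_card _
  rw [Cfsg.Agent.Lib.Lead.card_Sp_eq_prod] at h1
  obtain ⟨i, hi, h2⟩ := (Prime.dvd_finset_prod_iff (Nat.prime_iff.1 hs) _).1 h1
  rw [Finset.mem_range] at hi
  have h3 : s ∣ Fintype.card F ^ (2 * (n - i)) - 1 := by
    rcases (Nat.Prime.dvd_mul hs).1 h2 with h | h
    · exact h
    · exact absurd (hs.dvd_of_dvd_pow h) hsq
  have hq1 : 1 ≤ Fintype.card F ^ (2 * (n - i)) := Nat.one_le_pow _ _ Fintype.card_pos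
  have h4 : ((Fintype.card F : ℕ) : ZMod s) ^ (2 * (n - i)) = 1 := by
    rw [← ZMod.natCast_eq_zero_iff, Nat.cast_sub hq1] at h3
    push_cast at h3
    exact sub_eq_zero.1 h3
  have h5 : l ∣ 2 * (n - i) := by
    rw [hl]
    exact orderOf_dvd_of_pow_eq_one h4
  rcases hηl with ⟨hodd, hη⟩ | ⟨hev, hη⟩
  · have hcop : Nat.Coprime l 2 := Nat.Coprime.symm (Nat.coprime_two_left.2 hodd)
    have h6 : l ∣ n - i := hcop.dvd_of_dvd_mul_left h5
    have := Nat.le_of_dvd (by omega) h6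
    omega
  · rw [← hη] at h5
    have h6 : ηl ∣ n - i := (Nat.mul_dvd_mul_iff_left (by omega)).1 h5
    have := Nat.le_of_dvd (by omega) h6
    omega

theorem orderOf_single (m : ℕ) (hm : 0 < m) :
    orderOf (fun _ : Fin 1 => Multiplicative.ofAdd (1 : ZMod m)) = m := by
  have hne : NeZero m := ⟨hm.ne'⟩
  have h1 : (fun _ : Fin 1 => Multiplicative.ofAdd (1 : ZMod m)) =
      MonoidHom.mulSingle (fun _ : Fin 1 => Multiplicative (ZMod m)) 0 (Multiplicative.ofAdd (1 : ZMod m)) := by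
    funext i
    have : i = 0 := Subsingleton.elim _ _
    rw [this]
    simp
  have hinj : Function.Injective (MonoidHom.mulSingle (fun _ : Fin 1 => Multiplicative (ZMod m)) 0) := by
    intro a b hab
    have := congrFun hab 0
    simpa using this
  rw [h1, orderOf_injective _ hinj, orderOf_ofAdd_eq_addOrderOf, ZMod.addOrderOf_one]

theorem exists_cyc_sp_even {F : Type*} [Field F] [Fintype F] (n e m : ℕ) (he0 : 0 < e) (hen : e ≤ n)
    (hm : m ∣ Fintype.card F ^ e + 1) :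
    ∃ x : Matrix.symplecticGroup (Fin n) F, orderOf x = m := by
  classical
  have hq1 : 1 < Fintype.card F := Fintype.one_lt_card
  have hfp : Fact (ringChar F).Prime := ⟨CharP.char_is_prime F _⟩
  have hne : NeZero (2 * e) := ⟨by omega⟩
  let E := FiniteField.Extension F (ringChar F) (2 * e)
  have hE : Module.finrank F E = 2 * e := FiniteField.finrank_extension F (ringChar F) _
  have hcE : Nat.card Eˣ = Fintype.card F ^ (2 * e) - 1 := by
    rw [Nat.card_units, FiniteField.natCard_extension, Nat.card_eq_fintype_card]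
  have hqe : 1 < Fintype.card F ^ e := Nat.one_lt_pow he0.ne' hq1
  have hfac : Fintype.card F ^ (2 * e) - 1 = (Fintype.card F ^ e - 1) * (Fintype.card F ^ e + 1) := by
    rw [two_mul, pow_add]
    have : 1 ≤ Fintype.card F ^ e := by omega
    zify [this, Nat.one_le_iff_ne_zero.2 (mul_ne_zero (by omega : Fintype.card F ^ e ≠ 0)
      (by omega : Fintype.card F ^ e ≠ 0))]
    ring
  have hm0 : 0 < m := Nat.pos_of_dvd_of_pos hm (by omega)
  have hmE : m ∣ Nat.card Eˣ := by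
    rw [hcE, hfac]
    exact Dvd.dvd.mul_left hm _
  obtain ⟨ψ, hψ⟩ := exists_cyc E m hmE
  let σ : E ≃ₐ[F] E := (FiniteField.Extension.frob F (ringChar F) (2 * e)) ^ e
  have hσa : ∀ x : E, σ x = x ^ (Fintype.card F ^ e) := by
    intro x
    have := FiniteField.Extension.frob_iterate_apply F (ringChar F) (2 * e) e (x := x)
    rw [Nat.card_eq_fintype_card] at this
    exact this
  have hcardE : Nat.card E = Fintype.card F ^ (2 * e) := by
    rw [FiniteField.natCard_extension, Nat.card_eq_fintype_card]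
  have hσ : ∀ x : E, σ (σ x) = x := by
    intro x
    rw [hσa, hσa, ← pow_mul, ← pow_add, ← two_mul, ← hcardE]
    have := Fintype.ofFinite E
    rw [Nat.card_eq_fintype_card]
    exact FiniteField.pow_card x
  obtain ⟨c, hc⟩ : ∃ c : E, σ c ≠ c := by
    obtain ⟨g, hg⟩ := IsCyclic.exists_ofOrder_eq_natCard (α := Eˣ)
    refine ⟨(g : E), ?_⟩
    intro h
    rw [hσa] at h
    have h1 : g ^ (Fintype.card F ^ e) = g := by
      apply Units.ext
      rw [Units.val_pow_eq_pow_val]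
      exact h
    have h2 : g ^ (Fintype.card F ^ e - 1) = 1 := by
      have : g ^ (Fintype.card F ^ e - 1) * g = g := by
        rw [← pow_succ, Nat.sub_add_cancel (by omega)]
        exact h1
      exact mul_eq_right.1 this
    have h3 := orderOf_dvd_of_pow_eq_one h2
    rw [hg, hcE, hfac] at h3
    have h4 := Nat.le_of_dvd (by omega) h3
    have : (Fintype.card F ^ e - 1) * 2 ≤ (Fintype.card F ^ e - 1) * (Fintype.card F ^ e + 1) :=
      Nat.mul_le_mul_left _ (by omega)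
    omega
  have hu : ∀ a, ((ψ a : Eˣ) : E) * σ ((ψ a : Eˣ) : E) = 1 := by
    intro a
    rw [hσa, ← pow_succ', ← Units.val_pow_eq_pow_val]
    have h1 : (ψ a) ^ m = 1 := by
      rw [← map_pow]
      have := pow_card_eq_one' (G := Multiplicative (ZMod m)) (x := a)
      rw [Nat.card_congr Multiplicative.toAdd, Nat.card_zmod] at this
      rw [this, map_one]
    obtain ⟨t, ht⟩ := hm
    rw [ht, pow_mul, h1, one_pow, Units.val_one]
  have hsep : Algebra.IsSeparable F E := inferInstance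
  obtain ⟨φ, hφ⟩ := Cfsg.Agent.S2381.exists_emb_even (F := F) E σ hσ c hc e n 1 hE (by omega) ψ hψ hu
  refine ⟨φ (fun _ => Multiplicative.ofAdd (1 : ZMod m)), ?_⟩
  rw [orderOf_injective φ hφ, orderOf_single m hm0]

theorem exists_cyc_sp_odd {F : Type*} [Field F] [Fintype F] (n d m : ℕ) (hd0 : 0 < d) (hdn : d ≤ n)
    (hm : m ∣ Fintype.card F ^ d - 1) :
    ∃ x : Matrix.symplecticGroup (Fin n) F, orderOf x = m := by
  classical
  have hq1 : 1 < Fintype.card F := Fintype.one_lt_card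
  have hfp : Fact (ringChar F).Prime := ⟨CharP.char_is_prime F _⟩
  have hne : NeZero d := ⟨by omega⟩
  let E := FiniteField.Extension F (ringChar F) d
  have hE : Module.finrank F E = d := FiniteField.finrank_extension F (ringChar F) _
  have hcE : Nat.card Eˣ = Fintype.card F ^ d - 1 := by
    rw [Nat.card_units, FiniteField.natCard_extension, Nat.card_eq_fintype_card]
  have hqd : 1 < Fintype.card F ^ d := Nat.one_lt_pow hd0.ne' hq1
  have hm0 : 0 < m := Nat.pos_of_dvd_of_pos hm (by omega)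
  have hmE : m ∣ Nat.card Eˣ := by
    rw [hcE]
    exact hm
  obtain ⟨ψ, hψ⟩ := exists_cyc E m hmE
  obtain ⟨φ, hφ⟩ := exists_emb (F := F) E n 1 (by rw [hE]; omega)
  obtain ⟨lev, hlev⟩ := Cfsg.Agent.S2381.exists_levi (F := F) n
  refine ⟨lev (φ (fun _ => ψ (Multiplicative.ofAdd (1 : ZMod m)))), ?_⟩
  rw [orderOf_injective lev hlev, orderOf_injective φ hφ]
  have h1 : (fun _ : Fin 1 => ψ (Multiplicative.ofAdd (1 : ZMod m))) =
      (MonoidHom.compLeft ψ (Fin 1)) (fun _ : Fin 1 => Multiplicative.ofAdd (1 : ZMod m)) := rfl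
  rw [h1, orderOf_injective (MonoidHom.compLeft ψ (Fin 1)) ?_, orderOf_single m hm0]
  intro u v huv
  funext i
  exact hψ (congrFun huv i)

theorem dvd_pow_sub_one_of_ord {r q k : ℕ} (hq1 : 1 ≤ q) (hk : k = orderOf ((q : ℕ) : ZMod r)) (j : ℕ)
    (hkj : k ∣ j) : r ∣ q ^ j - 1 := by
  have h1 : ((q : ℕ) : ZMod r) ^ j = 1 := by
    rw [hk] at hkj
    exact orderOf_dvd_iff_pow_eq_one.1 hkj
  rw [← ZMod.natCast_eq_zero_iff, Nat.cast_sub (Nat.one_le_pow _ _ hq1)]
  push_cast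
  rw [h1, sub_self]

theorem dvd_pow_add_one_of_ord {r q k k' : ℕ} (hr : r.Prime) (hrq : ¬ r ∣ q)
    (hk : k = orderOf ((q : ℕ) : ZMod r)) (hkk : k = 2 * k') : r ∣ q ^ k' + 1 := by
  have hfact : Fact r.Prime := ⟨hr⟩
  have hkpos : 0 < k := by rw [hk]; exact ord_pos hr hrq
  have h1 : (((q : ℕ) : ZMod r) ^ k') ^ 2 = 1 := by
    rw [← pow_mul, mul_comm, ← hkk, hk, pow_orderOf_eq_one]
  rcases sq_eq_one_iff.1 h1 with h2 | h2
  · exfalso
    have h3 := orderOf_dvd_of_pow_eq_one h2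
    rw [← hk] at h3
    have := Nat.le_of_dvd (by omega) h3
    omega
  · rw [← ZMod.natCast_eq_zero_iff]
    push_cast
    rw [h2, neg_add_cancel]

theorem exists_rs_torus {F : Type*} [Field F] [Fintype F] (n : ℕ)
    (r s : ℕ) (hr : r.Prime) (hs : s.Prime) (hrs : r ≠ s)
    (hrq : ¬ r ∣ Fintype.card F) (hsq : ¬ s ∣ Fintype.card F)
    (k l ηl : ℕ) (hk : k = orderOf ((Fintype.card F : ℕ) : ZMod r))
    (hl : l = orderOf ((Fintype.card F : ℕ) : ZMod s))
    (hηl : (Odd l ∧ ηl = l) ∨ (Even l ∧ 2 * ηl = l))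
    (t : ℕ) (ht : Odd t) (hlt : l = k * t) (hηn : ηl ≤ n) :
    ∃ x : Matrix.symplecticGroup (Fin n) F, orderOf x = r * s := by
  have hcop : Nat.Coprime r s := (Nat.coprime_primes hr hs).2 hrs
  have hq1 : 1 ≤ Fintype.card F := Fintype.card_pos
  have hlpos : 0 < l := by rw [hl]; exact ord_pos hs hsq
  rcases hηl with ⟨hlodd, hη⟩ | ⟨hlev, hη⟩
  · apply exists_cyc_sp_odd n l (r * s) hlpos (by omega)
    apply hcop.mul_dvd_of_dvd_of_dvd
    · exact dvd_pow_sub_one_of_ord hq1 hk l ⟨t, hlt⟩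
    · exact dvd_pow_sub_one_of_ord hq1 hl l dvd_rfl
  · have hkev : Even k := by
      rw [hlt] at hlev
      rcases Nat.even_mul.1 hlev with h | h
      · exact h
      · exact absurd h (Nat.not_even_iff_odd.2 ht)
    obtain ⟨k', hk'⟩ := hkev
    have hk2 : k = 2 * k' := by omega
    have hη2 : ηl = k' * t := by
      have : 2 * ηl = 2 * (k' * t) := by
        rw [hη, hlt, hk2]
        ring
      omega
    apply exists_cyc_sp_even n ηl (r * s) (by omega) hηn
    apply hcop.mul_dvd_of_dvd_of_dvd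
    · have h1 : r ∣ Fintype.card F ^ k' + 1 := dvd_pow_add_one_of_ord hr hrq hk hk2
      have h2 := ht.nat_add_dvd_pow_add_pow (Fintype.card F ^ k') 1
      rw [one_pow, ← pow_mul, ← hη2] at h2
      exact dvd_trans h1 h2
    · exact dvd_pow_add_one_of_ord hs hsq hl hη.symm

theorem exists_rs_sum {F : Type*} [Field F] [Fintype F] (n : ℕ)
    (r s : ℕ) (hr : r.Prime) (hs : s.Prime) (hrs : r ≠ s)
    (hrq : ¬ r ∣ Fintype.card F) (hsq : ¬ s ∣ Fintype.card F)
    (k l ηk ηl : ℕ) (hk : k = orderOf ((Fintype.card F : ℕ) : ZMod r))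
    (hl : l = orderOf ((Fintype.card F : ℕ) : ZMod s))
    (hηk : (Odd k ∧ ηk = k) ∨ (Even k ∧ 2 * ηk = k))
    (hηl : (Odd l ∧ ηl = l) ∨ (Even l ∧ 2 * ηl = l)) (hsum : ηk + ηl ≤ n) :
    ∃ x : Matrix.symplecticGroup (Fin n) F, orderOf x = r * s := by
  have hcop : Nat.Coprime r s := (Nat.coprime_primes hr hs).2 hrs
  have hq1 : 1 ≤ Fintype.card F := Fintype.card_pos
  have hlpos : 0 < l := by rw [hl]; exact ord_pos hs hsq
  have hkpos : 0 < k := by rw [hk]; exact ord_pos hr hrq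
  have hηk1 : 1 ≤ ηk := by
    rcases hηk with ⟨-, h⟩ | ⟨-, h⟩ <;> omega
  have hηl1 : 1 ≤ ηl := by
    rcases hηl with ⟨-, h⟩ | ⟨-, h⟩ <;> omega
  have hdk : k ∣ 2 * ηk := by
    rcases hηk with ⟨-, h⟩ | ⟨-, h⟩
    · rw [h]
      exact dvd_mul_left k 2
    · rw [h]
  have hdl : l ∣ 2 * ηl := by
    rcases hηl with ⟨-, h⟩ | ⟨-, h⟩
    · rw [h]
      exact dvd_mul_left l 2
    · rw [h]
  obtain ⟨b, rfl⟩ : ∃ b, n = ηk + b := ⟨n - ηk, by omega⟩
  obtain ⟨x₁, hx₁⟩ := exists_order_sp (F := F) ηk r hr ηk hηk1 le_rfl (dvd_pow_sub_one_of_ord hq1 hk _ hdk)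
  obtain ⟨x₂, hx₂⟩ := exists_order_sp (F := F) b s hs ηl hηl1 (by omega) (dvd_pow_sub_one_of_ord hq1 hl _ hdl)
  obtain ⟨φ, hφ⟩ := exists_prod_emb (F := F) ηk b
  refine ⟨φ (x₁, x₂), ?_⟩
  rw [orderOf_injective φ hφ, Prod.orderOf, hx₁, hx₂]
  exact hcop.lcm_eq_mul


theorem no_rs {F : Type*} [Field F] [Fintype F] (p : ℕ) [Fact p.Prime] [CharP F p] (n : ℕ)
    (r s : ℕ) (hr : r.Prime) (hs : s.Prime) (hr2 : r ≠ 2) (hs2 : s ≠ 2) (hrp : r ≠ p) (hsp : s ≠ p) (hrs : r ≠ s)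
    (k l ηk ηl : ℕ) (hk : k = orderOf ((Fintype.card F : ℕ) : ZMod r)) (hl : l = orderOf ((Fintype.card F : ℕ) : ZMod s))
    (hηk : (Odd k ∧ ηk = k) ∨ (Even k ∧ 2 * ηk = k)) (hηl : (Odd l ∧ ηl = l) ∨ (Even l ∧ 2 * ηl = l)) (hkl : ηk ≤ ηl)
    (hn : n < ηk + ηl) (hodd : ¬ ∃ t : ℕ, Odd t ∧ l = k * t) :
    r * s ∉ Set.range (orderOf : Cfsg.PSp n F → ℕ) := by
  rintro ⟨gbar, hg⟩
  obtain ⟨g, rfl⟩ := QuotientGroup.mk_surjective gbar
  have hdvd : r * s ∣ orderOf g := by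
    rw [← hg]
    exact orderOf_dvd_of_pow_eq_one (by rw [← QuotientGroup.mk_pow, pow_orderOf_eq_one, QuotientGroup.mk_one])
  have ho : orderOf g ≠ 0 := (orderOf_pos g).ne'
  obtain ⟨y, hydef⟩ : ∃ y, y = g ^ (orderOf g / (r * s)) := ⟨_, rfl⟩
  have hyo : orderOf y = r * s := by
    rw [hydef]
    exact orderOf_pow_orderOf_div ho hdvd
  have hy : y ^ (r * s) = 1 := by
    rw [← hyo]
    exact pow_orderOf_eq_one y
  have hyr : y ^ r ≠ 1 := by
    intro h
    have h1 := orderOf_dvd_of_pow_eq_one h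
    rw [hyo] at h1
    have h2 := Nat.le_of_dvd hr.pos h1
    have h3 : r * 2 ≤ r * s := Nat.mul_le_mul_left r hs.two_le
    have := hr.pos
    omega
  have hys : y ^ s ≠ 1 := by
    intro h
    have h1 := orderOf_dvd_of_pow_eq_one h
    rw [hyo] at h1
    have h2 := Nat.le_of_dvd hs.pos h1
    have h3 : 2 * s ≤ r * s := Nat.mul_le_mul_right s hr.two_le
    have := hs.pos
    omega
  exact sp_no_rs p n r s hr hs hr2 hs2 hrp hsp hrs k l ηk ηl hk hl hηk hηl hkl hn hodd y hy hyr hys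

/-- Adjacency of two odd primes in the prime graph of PSp(2n,q): let F be a finite field of characteristic p with q elements, n ≥ 2 with PSp(2n,F) simple, and let r ≠ s be odd primes different from p dividing the order of PSp(2n,F). Let k, l be the multiplicative orders of q modulo r and s, put η(m) = m for odd m and η(m) = m/2 for even m, and suppose η(k) ≤ η(l). Then PSp(2n,F) has NO element of order r·s if and only if η(k) + η(l) > n and l/k is not an odd integer. -/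
theorem result {F : Type*} [Field F] [Fintype F] (p : ℕ) [Fact p.Prime] [CharP F p] (n : ℕ) (hn : 2 ≤ n) (hsmall : n = 2 → 3 ≤ Fintype.card F)
    (r s : ℕ) (hr : r.Prime) (hs : s.Prime) (hr2 : r ≠ 2) (hs2 : s ≠ 2) (hrp : r ≠ p) (hsp : s ≠ p) (hrs : r ≠ s)
    (hrG : r ∣ Nat.card (Cfsg.PSp n F)) (hsG : s ∣ Nat.card (Cfsg.PSp n F))
    (k l ηk ηl : ℕ) (hk : k = orderOf ((Fintype.card F : ℕ) : ZMod r)) (hl : l = orderOf ((Fintype.card F : ℕ) : ZMod s))
    (hηk : (Odd k ∧ ηk = k) ∨ (Even k ∧ 2 * ηk = k)) (hηl : (Odd l ∧ ηl = l) ∨ (Even l ∧ 2 * ηl = l)) (hkl : ηk ≤ ηl) :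
    (r * s ∉ Set.range (orderOf : Cfsg.PSp n F → ℕ)) ↔ (n < ηk + ηl ∧ ¬ ∃ t : ℕ, Odd t ∧ l = k * t) := by
  have hp : p.Prime := Fact.out
  have hrq : ¬ r ∣ Fintype.card F := by
    obtain ⟨f, -, hf⟩ := FiniteField.card F p
    rw [hf]
    intro h
    exact hrp ((Nat.prime_dvd_prime_iff_eq hr hp).1 (hr.dvd_of_dvd_pow h))
  have hsq : ¬ s ∣ Fintype.card F := by
    obtain ⟨f, -, hf⟩ := FiniteField.card F p
    rw [hf]
    intro h
    exact hsp ((Nat.prime_dvd_prime_iff_eq hs hp).1 (hs.dvd_of_dvd_pow h))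
  have hoddrs : Odd (r * s) := by
    apply Nat.odd_mul.2
    exact ⟨hr.odd_of_ne_two hr2, hs.odd_of_ne_two hs2⟩
  constructor
  · intro h
    refine ⟨?_, ?_⟩
    · by_contra hle
      obtain ⟨x, hx⟩ := exists_rs_sum (F := F) n r s hr hs hrs hrq hsq k l ηk ηl hk hl hηk hηl (by omega)
      exact h (to_psp n (by omega) x (r * s) hx hoddrs)
    · rintro ⟨t, ht, hlt⟩
      have hηn := eta_le n s hs hsq hsG l ηl hl hηl
      obtain ⟨x, hx⟩ := exists_rs_torus (F := F) n r s hr hs hrs hrq hsq k l ηl hk hl hηl t ht hlt hηn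
      exact h (to_psp n (by omega) x (r * s) hx hoddrs)
  · rintro ⟨h1, h2⟩
    exact no_rs p n r s hr hs hr2 hs2 hrp hsp hrs k l ηk ηl hk hl hηk hηl hkl h1 h2

end Cfsg.Agent.S2469
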