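import Cfsg.Statements.S2472

import Cfsg.Agent.Lib.helper15.SpRegSemi
import Cfsg.Agent.Lib.Helper16.SympTrans
import Cfsg.Agent.Lib.Lead.SympCount
import Cfsg.Agent.Lib.helper6.Symp
set_option autoImplicit false
open Cfsg

namespace Cfsg.Agent.S2472


open Cfsg.Agent.Lib.helper15.SpRegSemi

open Cfsg.Agent.Lib.helper6


theorem tv_fix {F : Type*} [Field F] (n : ℕ) (w : Fin n ⊕ Fin n → F) (c : F) :
    (Cfsg.sympTransvection n w c).mulVec w = w := by
  rw [sympTransvection_mulVec, sympForm_self, mul_zero, zero_smul, add_zero]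

theorem tv_mul {F : Type*} [Field F] (n : ℕ) (w : Fin n ⊕ Fin n → F) (c d : F) :
    Cfsg.sympTransvection n w c * Cfsg.sympTransvection n w d = Cfsg.sympTransvection n w (c + d) := by
  rw [Matrix.ext_iff_mulVec]
  intro v
  rw [← Matrix.mulVec_mulVec, sympTransvection_mulVec, sympTransvection_mulVec, sympTransvection_mulVec,
    sympForm_add_left, sympForm_smul_left, sympForm_self, mul_zero, add_zero, add_assoc, ← add_smul]
  congr 2
  ring

theorem tv_zero {F : Type*} [Field F] (n : ℕ) (w : Fin n ⊕ Fin n → F) :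
    Cfsg.sympTransvection n w (0 : F) = 1 := by
  unfold Cfsg.sympTransvection
  rw [zero_smul, add_zero]

theorem tv_pow {F : Type*} [Field F] (n : ℕ) (w : Fin n ⊕ Fin n → F) (c : F) (k : ℕ) :
    (Cfsg.sympTransvection n w c) ^ k = Cfsg.sympTransvection n w ((k : F) * c) := by
  induction k with
  | zero => rw [pow_zero, Nat.cast_zero, zero_mul, tv_zero]
  | succ k ih =>
    rw [pow_succ, ih, tv_mul]
    congr 1
    push_cast
    ring

theorem tv_ne_one {F : Type*} [Field F] (n : ℕ) (w : Fin n ⊕ Fin n → F) (hw : w ≠ 0) (c : F) (hc : c ≠ 0) :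
    Cfsg.sympTransvection n w c ≠ 1 := by
  intro h
  obtain ⟨v, hv⟩ := sympForm_nondeg n w hw
  have h1 := sympTransvection_mulVec n w c v
  rw [h, Matrix.one_mulVec] at h1
  have h2 : (c * Cfsg.sympForm n F v w) • w = 0 := by
    have := h1
    rw [eq_comm, add_eq_left] at this
    exact this
  rcases smul_eq_zero.1 h2 with h3 | h3
  · rcases mul_eq_zero.1 h3 with h4 | h4
    · exact hc h4
    · apply hv
      rw [sympForm_swap, h4, neg_zero]
  · exact hw h3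

theorem tv_comm {F : Type*} [Field F] (n : ℕ) (w : Fin n ⊕ Fin n → F) (c : F)
    (x : Matrix (Fin n ⊕ Fin n) (Fin n ⊕ Fin n) F) (hx : x ∈ Matrix.symplecticGroup (Fin n) F)
    (hxw : x.mulVec w = w) :
    x * Cfsg.sympTransvection n w c = Cfsg.sympTransvection n w c * x := by
  rw [Matrix.ext_iff_mulVec]
  intro v
  rw [← Matrix.mulVec_mulVec, ← Matrix.mulVec_mulVec, sympTransvection_mulVec, sympTransvection_mulVec,
    Matrix.mulVec_add, Matrix.mulVec_smul, hxw]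
  congr 3
  have h1 := (mem_symplecticGroup_iff_sympForm n x).1 hx v w
  rw [hxw] at h1
  exact h1.symm



theorem k_pos {r q : ℕ} (hr : r.Prime) (hrq : ¬ r ∣ q) : 0 < orderOf ((q : ℕ) : ZMod r) := by
  have hfact : Fact r.Prime := ⟨hr⟩
  have hq0 : ((q : ℕ) : ZMod r) ≠ 0 := by
    rw [Ne, ZMod.natCast_eq_zero_iff]
    exact hrq
  have h1 := ZMod.pow_card_sub_one_eq_one hq0
  rw [orderOf_pos_iff, isOfFinOrder_iff_pow_eq_one]
  exact ⟨r - 1, by have := hr.two_le; omega, h1⟩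

theorem r_dvd_pow_sub {r q k ηk : ℕ} (hq1 : 1 ≤ q) (hk : k = orderOf ((q : ℕ) : ZMod r))
    (hηk : (Odd k ∧ ηk = k) ∨ (Even k ∧ 2 * ηk = k)) : r ∣ q ^ (2 * ηk) - 1 := by
  have hdvd : k ∣ 2 * ηk := by
    rcases hηk with ⟨-, h⟩ | ⟨-, h⟩
    · rw [h]
      exact dvd_mul_left k 2
    · rw [h]
  have h1 : ((q : ℕ) : ZMod r) ^ (2 * ηk) = 1 := by
    rw [hk] at hdvd
    exact orderOf_dvd_iff_pow_eq_one.1 hdvd
  rw [← ZMod.natCast_eq_zero_iff, Nat.cast_sub (Nat.one_le_pow _ _ hq1)]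
  push_cast
  rw [h1, sub_self]

theorem r_dvd_stab {F : Type*} [Field F] [Fintype F] (m : ℕ) (w : Fin (m + 1) ⊕ Fin (m + 1) → F)
    (hw : w ≠ 0) (r i : ℕ) (hi1 : 1 ≤ i) (hi : i ≤ m) (hri : r ∣ Fintype.card F ^ (2 * i) - 1) :
    r ∣ Nat.card {g : Matrix.symplecticGroup (Fin (m + 1)) F //
        (g : Matrix (Fin (m + 1) ⊕ Fin (m + 1)) (Fin (m + 1) ⊕ Fin (m + 1)) F).mulVec w = w} := by
  classical
  have h1 := Cfsg.Agent.Lib.Helper16.card_stab m w hw
  rw [Cfsg.Agent.Lib.Lead.card_Sp_eq_prod, Finset.prod_range_succ'] at h1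
  have hq1 : 1 < Fintype.card F := Fintype.one_lt_card
  have hpos : 0 < Fintype.card F ^ (2 * (m + 1)) - 1 := by
    have : 2 ≤ Fintype.card F ^ (2 * (m + 1)) := by
      calc 2 ≤ Fintype.card F := hq1
        _ = Fintype.card F ^ 1 := (pow_one _).symm
        _ ≤ Fintype.card F ^ (2 * (m + 1)) := Nat.pow_le_pow_right (by omega) (by omega)
    omega
  have e0 : m + 1 - 0 = m + 1 := by omega
  rw [e0, mul_comm (∏ k ∈ Finset.range m, _) _, mul_assoc] at h1
  have h2 := Nat.eq_of_mul_eq_mul_left hpos h1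
  rw [h2]
  apply Dvd.dvd.mul_left
  have hmem : m - i ∈ Finset.range m := Finset.mem_range.2 (by omega)
  refine dvd_trans ?_ (Finset.dvd_prod_of_mem _ hmem)
  have e1 : m + 1 - (m - i + 1) = i := by omega
  rw [e1]
  exact Dvd.dvd.mul_right hri _



def stab {F : Type*} [Field F] (n : ℕ) (w : Fin n ⊕ Fin n → F) :
    Subgroup (Matrix.symplecticGroup (Fin n) F) where
  carrier := {g | (g : Matrix (Fin n ⊕ Fin n) (Fin n ⊕ Fin n) F).mulVec w = w}
  mul_mem' := by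
    intro a b ha hb
    show ((a * b : Matrix.symplecticGroup (Fin n) F) : Matrix (Fin n ⊕ Fin n) (Fin n ⊕ Fin n) F).mulVec w = w
    have e : ((a * b : Matrix.symplecticGroup (Fin n) F) : Matrix (Fin n ⊕ Fin n) (Fin n ⊕ Fin n) F) =
        (a : Matrix (Fin n ⊕ Fin n) (Fin n ⊕ Fin n) F) * (b : Matrix (Fin n ⊕ Fin n) (Fin n ⊕ Fin n) F) := rfl
    rw [e, ← Matrix.mulVec_mulVec]
    have hb' : (b : Matrix (Fin n ⊕ Fin n) (Fin n ⊕ Fin n) F).mulVec w = w := hb
    rw [hb']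
    exact ha
  one_mem' := Matrix.one_mulVec w
  inv_mem' := by
    intro a ha
    show ((a⁻¹ : Matrix.symplecticGroup (Fin n) F) : Matrix (Fin n ⊕ Fin n) (Fin n ⊕ Fin n) F).mulVec w = w
    have ha' : (a : Matrix (Fin n ⊕ Fin n) (Fin n ⊕ Fin n) F).mulVec w = w := ha
    have e : ((a⁻¹ : Matrix.symplecticGroup (Fin n) F) : Matrix (Fin n ⊕ Fin n) (Fin n ⊕ Fin n) F) *
        (a : Matrix (Fin n ⊕ Fin n) (Fin n ⊕ Fin n) F) = 1 := by
      have := congrArg Subtype.val (inv_mul_cancel a)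
      exact this
    nth_rewrite 1 [← ha']
    rw [Matrix.mulVec_mulVec, e, Matrix.one_mulVec]

theorem mem_stab {F : Type*} [Field F] (n : ℕ) (w : Fin n ⊕ Fin n → F)
    (g : Matrix.symplecticGroup (Fin n) F) :
    g ∈ stab n w ↔ (g : Matrix (Fin n ⊕ Fin n) (Fin n ⊕ Fin n) F).mulVec w = w := Iff.rfl

theorem central_fix {F : Type*} [Field F] (m : ℕ) (w : Fin (m + 1) ⊕ Fin (m + 1) → F) (hw : w ≠ 0)
    (z : Matrix.symplecticGroup (Fin (m + 1)) F)
    (hz : z ∈ Subgroup.center (Matrix.symplecticGroup (Fin (m + 1)) F))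
    (hzw : (z : Matrix (Fin (m + 1) ⊕ Fin (m + 1)) (Fin (m + 1) ⊕ Fin (m + 1)) F).mulVec w = w) :
    z = 1 := by
  apply Subtype.ext
  show (z : Matrix (Fin (m + 1) ⊕ Fin (m + 1)) (Fin (m + 1) ⊕ Fin (m + 1)) F) = 1
  rw [Matrix.ext_iff_mulVec]
  intro v
  rw [Matrix.one_mulVec]
  by_cases hv : v = 0
  · rw [hv, Matrix.mulVec_zero]
  · obtain ⟨A, hA⟩ := Cfsg.Agent.Lib.Helper16.sp_transitive m w v hw hv
    rw [Subgroup.mem_center_iff] at hz
    have h1 := congrArg Subtype.val (hz A)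
    have h2 : (A : Matrix (Fin (m + 1) ⊕ Fin (m + 1)) (Fin (m + 1) ⊕ Fin (m + 1)) F) *
        (z : Matrix (Fin (m + 1) ⊕ Fin (m + 1)) (Fin (m + 1) ⊕ Fin (m + 1)) F) =
        (z : Matrix (Fin (m + 1) ⊕ Fin (m + 1)) (Fin (m + 1) ⊕ Fin (m + 1)) F) *
        (A : Matrix (Fin (m + 1) ⊕ Fin (m + 1)) (Fin (m + 1) ⊕ Fin (m + 1)) F) := h1
    rw [← hA, Matrix.mulVec_mulVec, ← h2, ← Matrix.mulVec_mulVec, hzw]

theorem no_elt {F : Type*} [Field F] [Fintype F] (p : ℕ) [Fact p.Prime] [CharP F p] (n : ℕ) (hn : 2 ≤ n)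
    (r : ℕ) (hr : r.Prime) (hr2 : r ≠ 2) (hrp : r ≠ p)
    (k ηk : ℕ) (hk : k = orderOf ((Fintype.card F : ℕ) : ZMod r))
    (hηk : (Odd k ∧ ηk = k) ∨ (Even k ∧ 2 * ηk = k)) (hlt : n - 1 < ηk) :
    r * p ∉ Set.range (orderOf : Cfsg.PSp n F → ℕ) := by
  have hp : p.Prime := Fact.out
  rintro ⟨gbar, hg⟩
  obtain ⟨g, rfl⟩ := QuotientGroup.mk_surjective gbar
  have hdvd : r * p ∣ orderOf g := by
    rw [← hg]
    exact orderOf_dvd_of_pow_eq_one (by rw [← QuotientGroup.mk_pow, pow_orderOf_eq_one, QuotientGroup.mk_one])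
  have ho : orderOf g ≠ 0 := (orderOf_pos g).ne'
  have hrd : r ∣ orderOf g := dvd_trans (dvd_mul_right r p) hdvd
  have hpd : p ∣ orderOf g := dvd_trans (dvd_mul_left p r) hdvd
  obtain ⟨x, hxdef⟩ : ∃ x, x = g ^ (orderOf g / r) := ⟨_, rfl⟩
  obtain ⟨u, hudef⟩ : ∃ u, u = g ^ (orderOf g / p) := ⟨_, rfl⟩
  have hxo : orderOf x = r := by
    rw [hxdef]
    exact orderOf_pow_orderOf_div ho hrd
  have huo : orderOf u = p := by
    rw [hudef]
    exact orderOf_pow_orderOf_div ho hpd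
  have hcomm : u * x = x * u := by
    rw [hxdef, hudef, ← pow_add, ← pow_add, add_comm]
  have hx1 : x ≠ 1 := by
    intro h
    rw [h, orderOf_one] at hxo
    exact hr.one_lt.ne hxo
  have hxr : x ^ (r ^ 1) = 1 := by
    rw [pow_one, ← hxo]
    exact pow_orderOf_eq_one x
  have hup : u ^ (p ^ 1) = 1 := by
    rw [pow_one, ← huo]
    exact pow_orderOf_eq_one u
  have h1 := sp_no_commuting p n (by omega) r hr hr2 hrp k ηk hk hηk (by omega) x u 1 hxr hx1 1 hup hcomm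
  rw [h1, orderOf_one] at huo
  exact hp.one_lt.ne huo


theorem exists_elt {F : Type*} [Field F] [Fintype F] (p : ℕ) [Fact p.Prime] [CharP F p] (n : ℕ) (hn : 2 ≤ n)
    (r : ℕ) (hr : r.Prime) (hrp : r ≠ p)
    (k ηk : ℕ) (hk : k = orderOf ((Fintype.card F : ℕ) : ZMod r))
    (hηk : (Odd k ∧ ηk = k) ∨ (Even k ∧ 2 * ηk = k)) (hle : ηk ≤ n - 1) :
    r * p ∈ Set.range (orderOf : Cfsg.PSp n F → ℕ) := by
  classical
  have hp : p.Prime := Fact.out
  obtain ⟨m, rfl⟩ : ∃ m, n = m + 1 := ⟨n - 1, by omega⟩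
  have hrq : ¬ r ∣ Fintype.card F := by
    obtain ⟨f, -, hf⟩ := FiniteField.card F p
    rw [hf]
    intro h
    exact hrp ((Nat.prime_dvd_prime_iff_eq hr hp).1 (hr.dvd_of_dvd_pow h))
  have hkpos : 0 < k := by
    rw [hk]
    exact k_pos hr hrq
  have hη1 : 1 ≤ ηk := by
    rcases hηk with ⟨-, h⟩ | ⟨-, h⟩ <;> omega
  have hrd : r ∣ Fintype.card F ^ (2 * ηk) - 1 := r_dvd_pow_sub Fintype.card_pos hk hηk
  obtain ⟨w, hw⟩ : ∃ w : Fin (m + 1) ⊕ Fin (m + 1) → F, w ≠ 0 := by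
    refine ⟨Pi.single (Sum.inl 0) 1, ?_⟩
    intro h
    have := congrFun h (Sum.inl 0)
    simp at this
  have hcard : r ∣ Nat.card (stab (m + 1) w) := r_dvd_stab m w hw r ηk hη1 (by omega) hrd
  have hfr : Fact r.Prime := ⟨hr⟩
  obtain ⟨y, hy⟩ := exists_prime_orderOf_dvd_card' r hcard
  obtain ⟨x, hxdef⟩ : ∃ x : Matrix.symplecticGroup (Fin (m + 1)) F, x = (y : Matrix.symplecticGroup (Fin (m + 1)) F) :=
    ⟨_, rfl⟩
  have hxo : orderOf x = r := by
    rw [hxdef, Subgroup.orderOf_coe, hy]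
  have hxmem : x ∈ stab (m + 1) w := by
    rw [hxdef]
    exact y.2
  obtain ⟨u, hudef⟩ : ∃ u : Matrix.symplecticGroup (Fin (m + 1)) F,
      u = ⟨Cfsg.sympTransvection (m + 1) w 1, sympTransvection_mem (m + 1) w 1⟩ := ⟨_, rfl⟩
  have hucoe : (u : Matrix (Fin (m + 1) ⊕ Fin (m + 1)) (Fin (m + 1) ⊕ Fin (m + 1)) F) =
      Cfsg.sympTransvection (m + 1) w 1 := by
    rw [hudef]
  have hu1 : u ≠ 1 := by
    intro h
    have h1 := congrArg Subtype.val h
    rw [hucoe] at h1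
    exact tv_ne_one (m + 1) w hw 1 one_ne_zero h1
  have hup : u ^ p = 1 := by
    apply Subtype.ext
    show (u : Matrix (Fin (m + 1) ⊕ Fin (m + 1)) (Fin (m + 1) ⊕ Fin (m + 1)) F) ^ p = 1
    rw [hucoe, tv_pow, CharP.cast_eq_zero, zero_mul, tv_zero]
  have huo : orderOf u = p := orderOf_eq_prime hup hu1
  have humem : u ∈ stab (m + 1) w := by
    rw [mem_stab, hucoe]
    exact tv_fix (m + 1) w 1
  have hcomm : Commute x u := by
    apply Subtype.ext
    show (x : Matrix (Fin (m + 1) ⊕ Fin (m + 1)) (Fin (m + 1) ⊕ Fin (m + 1)) F) *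
      (u : Matrix (Fin (m + 1) ⊕ Fin (m + 1)) (Fin (m + 1) ⊕ Fin (m + 1)) F) =
      (u : Matrix (Fin (m + 1) ⊕ Fin (m + 1)) (Fin (m + 1) ⊕ Fin (m + 1)) F) *
      (x : Matrix (Fin (m + 1) ⊕ Fin (m + 1)) (Fin (m + 1) ⊕ Fin (m + 1)) F)
    rw [hucoe]
    exact tv_comm (m + 1) w 1 _ x.2 ((mem_stab _ _ _).1 hxmem)
  have hrpcop : Nat.Coprime r p := (Nat.coprime_primes hr hp).2 hrp
  have hcop : Nat.Coprime (orderOf x) (orderOf u) := by
    rw [hxo, huo]
    exact hrpcop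
  have hgo : orderOf (x * u) = r * p := by
    rw [hcomm.orderOf_mul_eq_mul_orderOf_of_coprime hcop, hxo, huo]
  refine ⟨QuotientGroup.mk (x * u), ?_⟩
  obtain ⟨o, ho⟩ : ∃ o, o = orderOf (QuotientGroup.mk (x * u) : Cfsg.PSp (m + 1) F) := ⟨_, rfl⟩
  have hodvd : o ∣ r * p := by
    rw [ho]
    apply orderOf_dvd_of_pow_eq_one
    rw [← QuotientGroup.mk_pow, ← hgo, pow_orderOf_eq_one, QuotientGroup.mk_one]
  have hmem : ∀ t : ℕ, o ∣ t →
      (x * u) ^ t ∈ Subgroup.center (Matrix.symplecticGroup (Fin (m + 1)) F) := by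
    intro t ht
    rw [← QuotientGroup.eq_one_iff, QuotientGroup.mk_pow]
    rw [ho] at ht
    exact orderOf_dvd_iff_pow_eq_one.1 ht
  have hr_o : r ∣ o := by
    by_contra hnr
    have hc : Nat.Coprime o r := Nat.Coprime.symm ((Nat.Prime.coprime_iff_not_dvd hr).2 hnr)
    have hop : o ∣ p := hc.dvd_of_dvd_mul_left hodvd
    have h1 := hmem p hop
    rw [hcomm.mul_pow, hup, mul_one] at h1
    have h2 := central_fix m w hw (x ^ p) h1 ((mem_stab _ _ _).1 ((stab (m + 1) w).pow_mem hxmem p))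
    have h3 := orderOf_dvd_of_pow_eq_one h2
    rw [hxo] at h3
    exact hrp ((Nat.prime_dvd_prime_iff_eq hr hp).1 h3)
  have hp_o : p ∣ o := by
    by_contra hnp
    have hc : Nat.Coprime o p := Nat.Coprime.symm ((Nat.Prime.coprime_iff_not_dvd hp).2 hnp)
    have hor : o ∣ r := hc.dvd_of_dvd_mul_right hodvd
    have h1 := hmem r hor
    have hxr : x ^ r = 1 := by
      rw [← hxo]
      exact pow_orderOf_eq_one x
    rw [hcomm.mul_pow, hxr, one_mul] at h1
    have h2 := central_fix m w hw (u ^ r) h1 ((mem_stab _ _ _).1 ((stab (m + 1) w).pow_mem humem r))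
    have h3 := orderOf_dvd_of_pow_eq_one h2
    rw [huo] at h3
    exact hrp ((Nat.prime_dvd_prime_iff_eq hp hr).1 h3).symm
  rw [← ho]
  exact Nat.dvd_antisymm hodvd (hrpcop.mul_dvd_of_dvd_of_dvd hr_o hp_o)

/-- Adjacency of a prime and the characteristic in the prime graph of PSp(2n,q): let F be a finite field of characteristic p with q elements, n ≥ 2 with PSp(2n,F) simple, and let r ≠ p be an odd prime dividing the order of PSp(2n,F), with k the multiplicative order of q modulo r and η(k) = k for odd k, k/2 for even k. Then PSp(2n,F) has NO element of order r·p if and only if η(k) > n − 1. -/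
theorem result {F : Type*} [Field F] [Fintype F] (p : ℕ) [Fact p.Prime] [CharP F p] (n : ℕ) (hn : 2 ≤ n) (hsmall : n = 2 → 3 ≤ Fintype.card F)
    (r : ℕ) (hr : r.Prime) (hr2 : r ≠ 2) (hrp : r ≠ p) (hrG : r ∣ Nat.card (Cfsg.PSp n F))
    (k ηk : ℕ) (hk : k = orderOf ((Fintype.card F : ℕ) : ZMod r)) (hηk : (Odd k ∧ ηk = k) ∨ (Even k ∧ 2 * ηk = k)) :
    (r * p ∉ Set.range (orderOf : Cfsg.PSp n F → ℕ)) ↔ n - 1 < ηk := by
  constructor
  · intro h
    by_contra hlt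
    exact h (exists_elt p n hn r hr hrp k ηk hk hηk (by omega))
  · intro h
    exact no_elt p n hn r hr hr2 hrp k ηk hk hηk h

end Cfsg.Agent.S2472
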