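import Mathlib
import Cfsg.Statements.S4400
import Cfsg.Agent.Lib.Helper21.SecRank

set_option autoImplicit false
open Cfsg

namespace Cfsg.Agent.S4400

open scoped commutatorElement Pointwise
open Cfsg.Agent.Lib.Helper21.SecRank

/-- a non-identity element of `P ∩ Z(S)` generates the image of the centre of `P` when that
centre has order two -/
theorem center_map_eq_zpowers {S : Type*} [Group S] [Finite S] (P : Subgroup S)
    (hZP : Nat.card ↥(Subgroup.center ↥P) = 2) (w : S) (hwP : w ∈ P) (hwZ : w ∈ Subgroup.center S)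
    (hw1 : w ≠ 1) : (Subgroup.center ↥P).map P.subtype = Subgroup.zpowers w := by
  have hmem : w ∈ (Subgroup.center ↥P).map P.subtype := by
    refine ⟨⟨w, hwP⟩, ?_, rfl⟩
    rw [SetLike.mem_coe, Subgroup.mem_center_iff]
    intro g
    apply Subtype.ext
    rw [Subgroup.mem_center_iff] at hwZ
    exact hwZ g
  have hle : Subgroup.zpowers w ≤ (Subgroup.center ↥P).map P.subtype := by
    rw [Subgroup.zpowers_le]; exact hmem
  have hcard : Nat.card ((Subgroup.center ↥P).map P.subtype) = 2 := by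
    rw [Subgroup.card_map_of_injective P.subtype_injective, hZP]
  symm
  apply Subgroup.eq_of_le_of_card_ge hle
  rw [hcard, Nat.card_zpowers]
  have h0 : 0 < orderOf w := orderOf_pos w
  have h1 : orderOf w ≠ 1 := fun h => hw1 (orderOf_eq_one_iff.mp h)
  omega

theorem result {S : Type*} [Group S] [Finite S] (h2 : IsPGroup 2 S) (hr : Cfsg.SectionalPRankLE 2 4 S)
    (P Q : Subgroup S) [P.Normal] [Q.Normal] (hP : ¬ IsMulCommutative ↥P) (hQ : ¬ IsMulCommutative ↥Q)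
    (hZP : Nat.card ↥(Subgroup.center ↥P) = 2) (hZQ : Nat.card ↥(Subgroup.center ↥Q) = 2)
    (hne : (Subgroup.center ↥P).map P.subtype ≠ (Subgroup.center ↥Q).map Q.subtype) :
    ⁅P, Q⁆ = ⊥ ∧ P ⊓ Q = ⊥ ∧ Subgroup.centralizer ((P ⊔ Q : Subgroup S) : Set S) ≤ P ⊔ Q := by
  haveI : Fact (Nat.Prime 2) := ⟨Nat.prime_two⟩
  haveI hnil : Group.IsNilpotent S := h2.isNilpotent
  -- P ⊓ Q = ⊥
  have hPQ : P ⊓ Q = ⊥ := by
    by_contra h
    have h1 := Cfsg.Agent.Lib.Helper1.normal_inf_center_ne_bot (P ⊓ Q) h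
    obtain ⟨⟨w, hw⟩, hw1⟩ := (Subgroup.ne_bot_iff_exists_ne_one).mp h1
    have hw1' : w ≠ 1 := fun e => hw1 (Subtype.ext e)
    obtain ⟨hwPQ, hwZ⟩ := Subgroup.mem_inf.mp hw
    obtain ⟨hwP, hwQ⟩ := Subgroup.mem_inf.mp hwPQ
    apply hne
    rw [center_map_eq_zpowers P hZP w hwP hwZ hw1', center_map_eq_zpowers Q hZQ w hwQ hwZ hw1']
  have hcomm : ⁅P, Q⁆ = ⊥ := by
    rw [eq_bot_iff, ← hPQ]
    exact Subgroup.commutator_le_inf P Q
  refine ⟨hcomm, hPQ, ?_⟩
  have hPcQ : ∀ x ∈ P, ∀ y ∈ Q, x * y = y * x := by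
    intro x hx y hy
    have := (Subgroup.commutator_eq_bot_iff_le_centralizer.mp hcomm) hx
    rw [Subgroup.mem_centralizer_iff] at this
    exact (this y hy).symm
  -- non-commutativity
  have hPnc : ∃ x y : ↥P, x * y ≠ y * x := by
    by_contra h; push_neg at h; exact hP ⟨⟨h⟩⟩
  have hQnc : ∃ x y : ↥Q, x * y ≠ y * x := by
    by_contra h; push_neg at h; exact hQ ⟨⟨h⟩⟩
  have hPp : IsPGroup 2 ↥P := h2.to_subgroup P
  have hQp : IsPGroup 2 ↥Q := h2.to_subgroup Q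
  -- the Frattini subgroups
  obtain ⟨ΦP, hΦP⟩ : ∃ ΦP : Subgroup S, ΦP = (frattini ↥P).map P.subtype := ⟨_, rfl⟩
  obtain ⟨ΦQ, hΦQ⟩ : ∃ ΦQ : Subgroup S, ΦQ = (frattini ↥Q).map Q.subtype := ⟨_, rfl⟩
  haveI hΦPn : ΦP.Normal := by rw [hΦP]; infer_instance
  haveI hΦQn : ΦQ.Normal := by rw [hΦQ]; infer_instance
  have hΦPP : ΦP ≤ P := by
    rw [hΦP]; rintro _ ⟨x, -, rfl⟩; exact x.2
  have hΦQQ : ΦQ ≤ Q := by
    rw [hΦQ]; rintro _ ⟨x, -, rfl⟩; exact x.2
  have hcardΦP : 2 * 2 * Nat.card ΦP ≤ Nat.card P := by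
    rw [hΦP, Subgroup.card_map_of_injective P.subtype_injective]
    exact sq_mul_card_frattini_le hPp hPnc
  have hcardΦQ : 2 * 2 * Nat.card ΦQ ≤ Nat.card Q := by
    rw [hΦQ, Subgroup.card_map_of_injective Q.subtype_injective]
    exact sq_mul_card_frattini_le hQp hQnc
  -- squares and commutators
  have hsqP : ∀ x ∈ P, x ^ 2 ∈ ΦP := by
    intro x hx
    rw [hΦP]
    exact ⟨⟨x, hx⟩ ^ 2, Cfsg.Agent.Lib.Helper1.pgroup_pow_mem_frattini hPp ⟨x, hx⟩, rfl⟩
  have hsqQ : ∀ x ∈ Q, x ^ 2 ∈ ΦQ := by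
    intro x hx
    rw [hΦQ]
    exact ⟨⟨x, hx⟩ ^ 2, Cfsg.Agent.Lib.Helper1.pgroup_pow_mem_frattini hQp ⟨x, hx⟩, rfl⟩
  have hcoP : ∀ x ∈ P, ∀ y ∈ P, x * y * x⁻¹ * y⁻¹ ∈ ΦP := by
    intro x hx y hy
    rw [hΦP]
    refine ⟨⁅(⟨x, hx⟩ : ↥P), ⟨y, hy⟩⁆, ?_, by simp [commutatorElement_def]⟩
    exact Cfsg.Agent.Lib.Helper1.pgroup_commutator_le_frattini hPp
      (Subgroup.commutator_mem_commutator (Subgroup.mem_top _) (Subgroup.mem_top _))
  have hcoQ : ∀ x ∈ Q, ∀ y ∈ Q, x * y * x⁻¹ * y⁻¹ ∈ ΦQ := by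
    intro x hx y hy
    rw [hΦQ]
    refine ⟨⁅(⟨x, hx⟩ : ↥Q), ⟨y, hy⟩⁆, ?_, by simp [commutatorElement_def]⟩
    exact Cfsg.Agent.Lib.Helper1.pgroup_commutator_le_frattini hQp
      (Subgroup.commutator_mem_commutator (Subgroup.mem_top _) (Subgroup.mem_top _))
  -- central elements
  have hcenP : ∀ a ∈ P, (∀ x ∈ P, a * x = x * a) → a ∈ ΦP := by
    intro a ha hac
    rw [hΦP]
    refine ⟨⟨a, ha⟩, center_le_frattini hPp hPnc hZP ?_, rfl⟩
    rw [Subgroup.mem_center_iff]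
    intro g
    exact Subtype.ext (hac g g.2).symm
  have hcenQ : ∀ a ∈ Q, (∀ x ∈ Q, a * x = x * a) → a ∈ ΦQ := by
    intro a ha hac
    rw [hΦQ]
    refine ⟨⟨a, ha⟩, center_le_frattini hQp hQnc hZQ ?_, rfl⟩
    rw [Subgroup.mem_center_iff]
    intro g
    exact Subtype.ext (hac g g.2).symm
  -- main argument
  by_contra hC
  obtain ⟨c₀, hc₀C, hc₀⟩ := SetLike.not_le_iff_exists.mp hC
  -- choose c with c ∉ PQ and c² ∈ PQ
  have hex : ∃ j : ℕ, c₀ ^ (2 ^ j) ∈ P ⊔ Q := by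
    obtain ⟨k, hk⟩ := h2 c₀
    exact ⟨k, by rw [hk]; exact one_mem _⟩
  classical
  have hj0 : Nat.find hex ≠ 0 := by
    intro h
    have := Nat.find_spec hex
    rw [h, pow_zero, pow_one] at this
    exact hc₀ this
  obtain ⟨j, hj⟩ := Nat.exists_eq_succ_of_ne_zero hj0
  obtain ⟨c, hcdef⟩ : ∃ c, c = c₀ ^ (2 ^ j) := ⟨_, rfl⟩
  have hcC : c ∈ Subgroup.centralizer ((P ⊔ Q : Subgroup S) : Set S) := by
    rw [hcdef]; exact pow_mem hc₀C _
  have hcn : c ∉ P ⊔ Q := by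
    rw [hcdef]
    exact Nat.find_min hex (by omega)
  have hc2 : c ^ 2 ∈ P ⊔ Q := by
    have := Nat.find_spec hex
    rw [hj, pow_succ, pow_mul] at this
    rw [hcdef]; exact this
  have hccomm : ∀ x ∈ P ⊔ Q, c * x = x * c := by
    intro x hx
    rw [Subgroup.mem_centralizer_iff] at hcC
    exact (hcC x hx).symm
  -- c² ∈ N
  obtain ⟨N, hNdef⟩ : ∃ N : Subgroup S, N = ΦP ⊔ ΦQ := ⟨_, rfl⟩
  haveI hNn : N.Normal := by rw [hNdef]; infer_instance
  have hΦPN : ΦP ≤ N := by rw [hNdef]; exact le_sup_left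
  have hΦQN : ΦQ ≤ N := by rw [hNdef]; exact le_sup_right
  have hc2N : c ^ 2 ∈ N := by
    have hmem : c ^ 2 ∈ ((P : Set S) * (Q : Set S)) := by
      rw [← Subgroup.mul_normal]; exact hc2
    obtain ⟨a, ha, b, hb, hab⟩ := Set.mem_mul.mp hmem
    have hc2c : ∀ x ∈ P ⊔ Q, c ^ 2 * x = x * c ^ 2 := by
      intro x hx
      exact ((show Commute c x from hccomm x hx).pow_left 2).eq
    have haZ : ∀ x ∈ P, a * x = x * a := by
      intro x hx
      have h1 := hc2c x (Subgroup.mem_sup_left hx)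
      rw [← hab] at h1
      have h3 : x * b = b * x := hPcQ x hx b hb
      have h4 : a * x * b = x * a * b := by
        calc a * x * b = a * (x * b) := by group
          _ = a * (b * x) := by rw [h3]
          _ = a * b * x := by group
          _ = x * (a * b) := h1
          _ = x * a * b := by group
      exact mul_right_cancel h4
    have hbZ : ∀ x ∈ Q, b * x = x * b := by
      intro x hx
      have h1 := hc2c x (Subgroup.mem_sup_right hx)
      rw [← hab] at h1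
      have h3 : a * x = x * a := hPcQ a ha x hx
      have h4 : a * (b * x) = a * (x * b) := by
        calc a * (b * x) = a * b * x := by group
          _ = x * (a * b) := h1
          _ = x * a * b := by group
          _ = a * x * b := by rw [h3]
          _ = a * (x * b) := by group
      exact mul_left_cancel h4
    rw [← hab]
    exact mul_mem (hΦPN (hcenP a ha haZ)) (hΦQN (hcenQ b hb hbZ))
  -- the section
  obtain ⟨H, hHdef⟩ : ∃ H : Subgroup S, H = (P ⊔ Q) ⊔ Subgroup.zpowers c := ⟨_, rfl⟩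
  have hPH : P ≤ H := by rw [hHdef]; exact le_sup_left.trans le_sup_left
  have hQH : Q ≤ H := by rw [hHdef]; exact le_sup_right.trans le_sup_left
  have hcH : c ∈ H := by rw [hHdef]; exact Subgroup.mem_sup_right (Subgroup.mem_zpowers c)
  have hNH : N ≤ H := by
    rw [hNdef]; exact sup_le (hΦPP.trans hPH) (hΦQQ.trans hQH)
  -- generators
  let T : Set (S ⧸ N) := {t | ∃ s : S, (s ∈ P ∨ s ∈ Q ∨ s = c) ∧ t = QuotientGroup.mk s}
  have hTcomm : ∀ x ∈ T, ∀ y ∈ T, x * y = y * x := by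
    rintro _ ⟨s, hs, rfl⟩ _ ⟨t, ht, rfl⟩
    rw [← QuotientGroup.mk_mul, ← QuotientGroup.mk_mul]
    have key : ∀ s t : S, (s ∈ P ∨ s ∈ Q ∨ s = c) → (t ∈ P ∨ t ∈ Q ∨ t = c) →
        s * t * s⁻¹ * t⁻¹ ∈ N := by
      intro s t hs ht
      rcases hs with hs | hs | hs
      · rcases ht with ht | ht | ht
        · exact hΦPN (hcoP s hs t ht)
        · rw [hPcQ s hs t ht]; simp
        · rw [ht, ← hccomm s (Subgroup.mem_sup_left hs)]; simp
      · rcases ht with ht | ht | ht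
        · rw [← hPcQ t ht s hs]; simp
        · exact hΦQN (hcoQ s hs t ht)
        · rw [ht, ← hccomm s (Subgroup.mem_sup_right hs)]; simp
      · rcases ht with ht | ht | ht
        · rw [hs, hccomm t (Subgroup.mem_sup_left ht)]; simp
        · rw [hs, hccomm t (Subgroup.mem_sup_right ht)]; simp
        · rw [hs, ht]; simp
    have h1 := key t s ht hs
    rw [QuotientGroup.eq]
    have e : (s * t)⁻¹ * (t * s) = (s * t)⁻¹ * (t * s * t⁻¹ * s⁻¹) * (s * t)⁻¹⁻¹ := by group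
    rw [e]
    exact hNn.conj_mem _ h1 _
  have hHT : H.map (QuotientGroup.mk' N) ≤ Subgroup.closure T := by
    rw [hHdef, Subgroup.map_sup, Subgroup.map_sup]
    refine sup_le (sup_le ?_ ?_) ?_
    · rintro _ ⟨s, hs, rfl⟩
      exact Subgroup.subset_closure ⟨s, Or.inl hs, rfl⟩
    · rintro _ ⟨s, hs, rfl⟩
      exact Subgroup.subset_closure ⟨s, Or.inr (Or.inl hs), rfl⟩
    · rw [MonoidHom.map_zpowers, Subgroup.zpowers_le]
      exact Subgroup.subset_closure ⟨c, Or.inr (Or.inr rfl), rfl⟩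
  have hcommH := closure_comm T hTcomm
  have hquot_comm : ∀ x ∈ H, ∀ y ∈ H, (QuotientGroup.mk x : S ⧸ N) * QuotientGroup.mk y =
      QuotientGroup.mk y * QuotientGroup.mk x := by
    intro x hx y hy
    exact hcommH _ (hHT ⟨x, hx, rfl⟩) _ (hHT ⟨y, hy, rfl⟩)
  have hsec_comm : ∀ x ∈ H, ∀ y ∈ H, x * y * x⁻¹ * y⁻¹ ∈ N := by
    intro x hx y hy
    have := hquot_comm x hx y hy
    rw [← QuotientGroup.mk_mul, ← QuotientGroup.mk_mul, QuotientGroup.eq] at this
    have e : x * y * x⁻¹ * y⁻¹ = (y * x) * ((x * y)⁻¹ * (y * x))⁻¹ * (y * x)⁻¹ := by group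
    rw [e]
    exact hNn.conj_mem _ (inv_mem this) _
  -- squares
  have hsec_pow : ∀ x ∈ H, x ^ 2 ∈ N := by
    let E : Subgroup S :=
      { carrier := {x | x ∈ H ∧ x ^ 2 ∈ N}
        mul_mem' := by
          rintro a b ⟨ha, ha2⟩ ⟨hb, hb2⟩
          refine ⟨mul_mem ha hb, ?_⟩
          have h1 : (QuotientGroup.mk (a * b) : S ⧸ N) ^ 2 = 1 := by
            rw [QuotientGroup.mk_mul, Commute.mul_pow (hquot_comm a ha b hb), ← QuotientGroup.mk_pow,
              ← QuotientGroup.mk_pow, (QuotientGroup.eq_one_iff _).mpr ha2,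
              (QuotientGroup.eq_one_iff _).mpr hb2, one_mul]
          rw [← QuotientGroup.mk_pow, QuotientGroup.eq_one_iff] at h1
          exact h1
        one_mem' := ⟨one_mem _, by rw [one_pow]; exact one_mem _⟩
        inv_mem' := by
          rintro a ⟨ha, ha2⟩
          exact ⟨inv_mem ha, by rw [inv_pow]; exact inv_mem ha2⟩ }
    have hle : H ≤ E := by
      rw [hHdef]
      refine sup_le (sup_le ?_ ?_) ?_
      · intro x hx; exact ⟨hPH hx, hΦPN (hsqP x hx)⟩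
      · intro x hx; exact ⟨hQH hx, hΦQN (hsqQ x hx)⟩
      · rw [Subgroup.zpowers_le]; exact ⟨hcH, hc2N⟩
    intro x hx
    exact (hle hx).2
  have hsec := card_le_of_section hr H N hNH (fun h _ n hn => hNn.conj_mem n hn h) hsec_comm hsec_pow
  -- cardinalities
  have h1 : Nat.card ↥(P ⊔ Q) = Nat.card P * Nat.card Q := by
    have := card_sup_normal P Q
    rw [inf_comm, hPQ, Subgroup.card_bot, mul_one] at this
    exact this
  have h2' : Nat.card N ≤ Nat.card ΦP * Nat.card ΦQ := by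
    have := card_sup_normal ΦP ΦQ
    rw [← hNdef] at this
    rw [← this]
    exact Nat.le_mul_of_pos_right _ Nat.card_pos
  have h3 : Nat.card ↥(P ⊔ Q) * 2 ≤ Nat.card H := by
    apply Cfsg.Agent.Lib.Helper20.card_mul_le_of_lt h2
    rw [hHdef]
    refine lt_of_le_of_ne le_sup_left (fun e => hcn ?_)
    rw [e]; exact Subgroup.mem_sup_right (Subgroup.mem_zpowers c)
  have hNpos : 0 < Nat.card N := Nat.card_pos
  have h4 : 32 * Nat.card N ≤ Nat.card H := by
    calc 32 * Nat.card N ≤ 32 * (Nat.card ΦP * Nat.card ΦQ) := Nat.mul_le_mul_left _ h2'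
      _ = (2 * 2 * Nat.card ΦP) * (2 * 2 * Nat.card ΦQ) * 2 := by ring
      _ ≤ Nat.card P * Nat.card Q * 2 := Nat.mul_le_mul_right _ (Nat.mul_le_mul hcardΦP hcardΦQ)
      _ = Nat.card ↥(P ⊔ Q) * 2 := by rw [h1]
      _ ≤ Nat.card H := h3
  have : 32 * Nat.card N ≤ 2 ^ 4 * Nat.card N := h4.trans hsec
  omega

end Cfsg.Agent.S4400
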