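import Mathlib
import Cfsg.Statements.S0677
import Cfsg.Agent.S0676

set_option autoImplicit false
open Cfsg

namespace Cfsg.Agent.S0677

open Cfsg.Agent.Lib.Helper5

section
variable {Γ : Type*} [Group Γ] {α β : Type*} [Fintype α] [DecidableEq α] [Fintype β]
  [DecidableEq β] [MulAction Γ α] [MulAction Γ β] {p : ℕ} [Fact p.Prime] {K : Type*} [Field K]
  [CharP K p]

open scoped Pointwise in
theorem mixed_hom_zero (hp3 : 3 ≤ p) (hβ : Fintype.card β = p)
    (eα : ZMod p ≃ α) (eβ : ZMod p ≃ β) (cα cβ : ZMod p) (s t : Γ)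
    (hsα : ∀ j, s • eα j = eα (j + 1)) (htα : ∀ j, t • eα j = eα (cα - j))
    (hsβ : ∀ j, s • eβ j = eβ (j + 1)) (htβ : ∀ j, t • eβ j = eβ (cβ - j))
    (hirr : ∀ W : Subrepresentation (Cfsg.permRep K Γ β),
      (Cfsg.permConstants K Γ β).toSubmodule ≤ W.toSubmodule →
      W.toSubmodule ≤ (Cfsg.permSumZero K Γ β).toSubmodule →
      W = Cfsg.permConstants K Γ β ∨ W = Cfsg.permSumZero K Γ β)
    (ψ : (β → K) →ₗ[K] (Set.powersetCard α 2 → K))
    (hψ : ∀ (g : Γ) (v : β → K), ψ (Cfsg.permRep K Γ β g v) =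
      Cfsg.permRep K Γ (Set.powersetCard α 2) g (ψ v))
    (hψ1 : ψ (fun _ => 1) = 0) : ∀ v : β → K, ∑ b, v b = 0 → ψ v = 0 := by
  have hp : p.Prime := Fact.out
  have hNZ : NeZero p := ⟨hp.ne_zero⟩
  have hmemC : ∀ v : β → K, v ∈ (Cfsg.permConstants K Γ β).toSubmodule ↔
      ∃ k : K, v = fun _ => k := by
    intro v
    show v ∈ Submodule.span K {fun _ => (1 : K)} ↔ _
    rw [Submodule.mem_span_singleton]
    constructor
    · rintro ⟨k, rfl⟩
      exact ⟨k, by funext x; simp⟩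
    · rintro ⟨k, rfl⟩
      exact ⟨k, by funext x; simp⟩
  have hψc : ∀ k : K, ψ (fun _ => k) = 0 := by
    intro k
    have : (fun _ : β => k) = k • (fun _ : β => (1 : K)) := by funext x; simp
    rw [this, map_smul, hψ1, smul_zero]
  have hsmuls : ∀ b : β, s⁻¹ • b = eβ (eβ.symm b - 1) := by
    intro b
    rw [inv_smul_eq_iff, hsβ, sub_add_cancel, Equiv.apply_symm_apply]
  have hsmult : ∀ b : β, t⁻¹ • b = eβ (cβ - eβ.symm b) := by
    intro b
    rw [inv_smul_eq_iff, htβ, sub_sub_cancel, Equiv.apply_symm_apply]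
  have hsmultα : ∀ a : α, t⁻¹ • a = eα (cα - eα.symm a) := by
    intro a
    rw [inv_smul_eq_iff, htα, sub_sub_cancel, Equiv.apply_symm_apply]
  have hsX : Cfsg.permRep K Γ β s (fun b => (ZMod.cast (eβ.symm b) : K)) =
      (fun b => (ZMod.cast (eβ.symm b) : K)) - (fun _ => (1 : K)) := by
    funext b
    show (ZMod.cast (eβ.symm (s⁻¹ • b)) : K) = ZMod.cast (eβ.symm b) - 1
    rw [hsmuls, Equiv.symm_apply_apply, Cfsg.Agent.S0673.cast_sub_one]
  have htX : Cfsg.permRep K Γ β t (fun b => (ZMod.cast (eβ.symm b) : K)) =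
      (fun _ => (ZMod.cast cβ : K)) - (fun b => (ZMod.cast (eβ.symm b) : K)) := by
    funext b
    show (ZMod.cast (eβ.symm (t⁻¹ • b)) : K) = (ZMod.cast cβ : K) - ZMod.cast (eβ.symm b)
    rw [hsmult, Equiv.symm_apply_apply, ZMod.cast_sub (dvd_refl p)]
  have hψs : ∀ Q : Set.powersetCard α 2,
      ψ (fun b => (ZMod.cast (eβ.symm b) : K)) (s⁻¹ • Q) =
      ψ (fun b => (ZMod.cast (eβ.symm b) : K)) Q := by
    intro Q
    have h1 := hψ s (fun b => (ZMod.cast (eβ.symm b) : K))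
    rw [hsX, map_sub, hψ1, sub_zero] at h1
    exact (congrFun h1 Q).symm
  have hψs1 : ∀ Q : Set.powersetCard α 2,
      ψ (fun b => (ZMod.cast (eβ.symm b) : K)) (s • Q) =
      ψ (fun b => (ZMod.cast (eβ.symm b) : K)) Q := by
    intro Q
    have := hψs (s • Q)
    rw [inv_smul_smul] at this
    exact this.symm
  have hψsn : ∀ (n : ℕ) (Q : Set.powersetCard α 2),
      ψ (fun b => (ZMod.cast (eβ.symm b) : K)) (s ^ n • Q) =
      ψ (fun b => (ZMod.cast (eβ.symm b) : K)) Q := by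
    intro n
    induction n with
    | zero => intro Q; rw [pow_zero, one_smul]
    | succ n ih =>
      intro Q
      rw [pow_succ, mul_smul, ih, hψs1]
  have hψt : ∀ Q : Set.powersetCard α 2,
      ψ (fun b => (ZMod.cast (eβ.symm b) : K)) (t⁻¹ • Q) =
      - ψ (fun b => (ZMod.cast (eβ.symm b) : K)) Q := by
    intro Q
    have h1 := hψ t (fun b => (ZMod.cast (eβ.symm b) : K))
    rw [htX, map_sub, hψc, zero_sub] at h1
    exact (congrFun h1 Q).symm
  have hpowα : ∀ (n : ℕ) (a : α), s ^ n • a = eα (eα.symm a + n) := by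
    intro n
    induction n with
    | zero => intro a; simp
    | succ n ih =>
      intro a
      rw [pow_succ', mul_smul, ih, hsα]
      congr 1
      push_cast
      ring
  have hkey : ∀ Q : Set.powersetCard α 2, ∃ n : ℕ, t⁻¹ • Q = s ^ n • Q := by
    intro Q
    obtain ⟨a₁, a₂, hne, hQ⟩ := Finset.card_eq_two.mp Q.2
    refine ⟨(cα - eα.symm a₁ - eα.symm a₂).val, ?_⟩
    have hc1 := Set.powersetCard.coe_smul (g := t⁻¹) (s := Q)
    have hc2 := Set.powersetCard.coe_smul (g := s ^ (cα - eα.symm a₁ - eα.symm a₂).val) (s := Q)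
    have hQ' : (Q : Finset α) = {a₁, a₂} := hQ
    have hmid : t⁻¹ • (Q : Finset α) =
        s ^ (cα - eα.symm a₁ - eα.symm a₂).val • (Q : Finset α) := by
      rw [hQ', Finset.smul_finset_insert, Finset.smul_finset_singleton, Finset.smul_finset_insert,
        Finset.smul_finset_singleton, hsmultα, hsmultα, hpowα, hpowα, ZMod.natCast_zmod_val]
      have e1 : eα.symm a₁ + (cα - eα.symm a₁ - eα.symm a₂) = cα - eα.symm a₂ := by ring
      have e2 : eα.symm a₂ + (cα - eα.symm a₁ - eα.symm a₂) = cα - eα.symm a₁ := by ring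
      rw [e1, e2, Finset.pair_comm]
    apply Subtype.ext
    exact hc1.trans (hmid.trans hc2.symm)
  have h2K : (2 : K) ≠ 0 := by
    intro h
    have h' : ((2 : ℕ) : K) = 0 := by exact_mod_cast h
    rw [CharP.cast_eq_zero_iff K p] at h'
    have := Nat.le_of_dvd (by norm_num) h'
    omega
  have hψ0 : ψ (fun b => (ZMod.cast (eβ.symm b) : K)) = 0 := by
    funext Q
    obtain ⟨n, hn⟩ := hkey Q
    have h1 := hψt Q
    rw [hn, hψsn] at h1
    have h2 : (2 : K) * ψ (fun b => (ZMod.cast (eβ.symm b) : K)) Q = 0 := by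
      rw [two_mul]
      nth_rewrite 1 [h1]
      exact neg_add_cancel _
    rcases mul_eq_zero.mp h2 with h3 | h3
    · exact absurd h3 h2K
    · exact h3
  have hx₀ : (fun b => (ZMod.cast (eβ.symm b) : K)) ∈ (Cfsg.permSumZero K Γ β).toSubmodule := by
    show ∑ b : β, (ZMod.cast (eβ.symm b) : K) = 0
    rw [Fintype.sum_equiv eβ.symm (fun b => (ZMod.cast (eβ.symm b) : K))
      (fun j => (ZMod.cast j : K)) (fun a => rfl)]
    have := pd_sum_pow_cast (p := p) (K := K) 1 (by omega)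
    simpa using this
  let W : Subrepresentation (Cfsg.permRep K Γ β) :=
    { toSubmodule := LinearMap.ker ψ ⊓ (Cfsg.permSumZero K Γ β).toSubmodule
      apply_mem_toSubmodule := by
        intro g v hv
        obtain ⟨hv1, hv2⟩ := Submodule.mem_inf.mp hv
        refine Submodule.mem_inf.mpr ⟨?_, (Cfsg.permSumZero K Γ β).apply_mem_toSubmodule g hv2⟩
        rw [LinearMap.mem_ker] at hv1 ⊢
        rw [hψ, hv1, map_zero] }
  have hCZ : (Cfsg.permConstants K Γ β).toSubmodule ≤ (Cfsg.permSumZero K Γ β).toSubmodule := by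
    intro v hv
    obtain ⟨k, rfl⟩ := (hmemC v).mp hv
    show ∑ _x : β, k = 0
    rw [Finset.sum_const, Finset.card_univ, hβ, nsmul_eq_mul, CharP.cast_eq_zero, zero_mul]
  have hCW : (Cfsg.permConstants K Γ β).toSubmodule ≤ W.toSubmodule := by
    intro v hv
    refine Submodule.mem_inf.mpr ⟨?_, hCZ hv⟩
    obtain ⟨k, rfl⟩ := (hmemC v).mp hv
    exact LinearMap.mem_ker.mpr (hψc k)
  have hXW : (fun b => (ZMod.cast (eβ.symm b) : K)) ∈ W.toSubmodule :=
    Submodule.mem_inf.mpr ⟨LinearMap.mem_ker.mpr hψ0, hx₀⟩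
  rcases hirr W hCW inf_le_right with hW | hW
  · exfalso
    rw [hW] at hXW
    obtain ⟨k, hk⟩ := (hmemC _).mp hXW
    have h0 := congrFun hk (eβ 0)
    have h1 := congrFun hk (eβ 1)
    simp only [Equiv.symm_apply_apply] at h0 h1
    have hc : ∀ a : ZMod p, (ZMod.cast a : K) = ZMod.castHom (dvd_refl p) K a := fun a => rfl
    rw [hc, map_zero] at h0
    rw [hc, map_one] at h1
    rw [← h0] at h1
    exact one_ne_zero h1
  · intro v hv
    have hvW : v ∈ W.toSubmodule := by rw [hW]; exact hv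
    exact LinearMap.mem_ker.mp (Submodule.mem_inf.mp hvW).1

noncomputable def Tk' (κ : β → Set.powersetCard α 2 → K) :
    (β → K) →ₗ[K] (Set.powersetCard α 2 → K) where
  toFun f := fun Q => ∑ x, κ x Q * f x
  map_add' f₁ f₂ := by
    funext Q
    simp only [Pi.add_apply, mul_add, Finset.sum_add_distrib]
  map_smul' c f := by
    funext Q
    simp only [Pi.smul_apply, smul_eq_mul, RingHom.id_apply, Finset.mul_sum]
    apply Finset.sum_congr rfl
    intro x _
    ring

theorem claim'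
    (hM : ∀ ψ : (β → K) →ₗ[K] (Set.powersetCard α 2 → K),
      (∀ (g : Γ) (v : β → K), ψ (Cfsg.permRep K Γ β g v) =
        Cfsg.permRep K Γ (Set.powersetCard α 2) g (ψ v)) →
      ψ (fun _ => 1) = 0 → ∀ v : β → K, ∑ b, v b = 0 → ψ v = 0)
    (κ : β → Set.powersetCard α 2 → K)
    (hinv : ∀ (g : Γ) (b : β) (Q : Set.powersetCard α 2), κ (g • b) (g • Q) = κ b Q)
    (hsum : ∀ Q, ∑ b, κ b Q = 0) : ∀ b b' Q, κ b Q = κ b' Q := by
  have h0 := hM (Tk' κ)
    (by
      intro g v
      funext Q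
      show (∑ x, κ x Q * v (g⁻¹ • x)) = ∑ x, κ x (g⁻¹ • Q) * v x
      apply Fintype.sum_equiv (MulAction.toPerm g⁻¹)
      intro x
      rw [MulAction.toPerm_apply, hinv])
    (by
      funext Q
      show (∑ x, κ x Q * (1 : K)) = 0
      simp only [mul_one]
      exact hsum Q)
  intro b b' Q
  have h1 := h0 (Pi.single b (1 : K) - Pi.single b' (1 : K))
    (by
      simp only [Pi.sub_apply, Finset.sum_sub_distrib]
      rw [Finset.sum_pi_single', Finset.sum_pi_single']
      simp)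
  have h2 : (∑ z, κ z Q * (Pi.single b (1 : K) - Pi.single b' (1 : K) : β → K) z) = 0 :=
    congrFun h1 Q
  simp only [Pi.sub_apply, mul_sub, Finset.sum_sub_distrib, Pi.single_apply, mul_ite, mul_one,
    mul_zero, Finset.sum_ite_eq', Finset.mem_univ, if_true] at h2
  exact sub_eq_zero.mp h2

open Classical in
noncomputable def ind' (Γ : Type*) [Group Γ] (K : Type*) [Field K] {α β : Type*} [DecidableEq α]
    [MulAction Γ α] [MulAction Γ β] (b₀ : β) (Q₀ : Set.powersetCard α 2) :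
    β → Set.powersetCard α 2 → K :=
  fun b Q => if ∃ g : Γ, g • b₀ = b ∧ g • Q₀ = Q then 1 else 0

theorem ind'_pos (b₀ : β) (Q₀ : Set.powersetCard α 2) (b : β) (Q : Set.powersetCard α 2)
    (hx : ∃ g : Γ, g • b₀ = b ∧ g • Q₀ = Q) : ind' Γ K b₀ Q₀ b Q = 1 := by
  classical
  exact if_pos hx

theorem ind'_neg (b₀ : β) (Q₀ : Set.powersetCard α 2) (b : β) (Q : Set.powersetCard α 2)
    (hx : ¬ ∃ g : Γ, g • b₀ = b ∧ g • Q₀ = Q) : ind' Γ K b₀ Q₀ b Q = 0 := by
  classical
  exact if_neg hx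

theorem ind'_inv (b₀ : β) (Q₀ : Set.powersetCard α 2) (g : Γ) (b : β)
    (Q : Set.powersetCard α 2) :
    ind' Γ K b₀ Q₀ (g • b) (g • Q) = ind' Γ K b₀ Q₀ b Q := by
  have hiff : (∃ h : Γ, h • b₀ = g • b ∧ h • Q₀ = g • Q) ↔ (∃ h : Γ, h • b₀ = b ∧ h • Q₀ = Q) := by
    constructor
    · rintro ⟨h, h1, h2⟩
      exact ⟨g⁻¹ * h, by rw [mul_smul, h1, inv_smul_smul], by rw [mul_smul, h2, inv_smul_smul]⟩
    · rintro ⟨h, h1, h2⟩
      exact ⟨g * h, by rw [mul_smul, h1], by rw [mul_smul, h2]⟩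
  by_cases hx : ∃ h : Γ, h • b₀ = b ∧ h • Q₀ = Q
  · rw [ind'_pos _ _ _ _ hx, ind'_pos _ _ _ _ (hiff.mpr hx)]
  · rw [ind'_neg _ _ _ _ hx, ind'_neg _ _ _ _ (fun h' => hx (hiff.mp h'))]

theorem ind'_sum_inv (b₀ : β) (Q₀ : Set.powersetCard α 2) (g : Γ) (Q : Set.powersetCard α 2) :
    ∑ b, ind' Γ K b₀ Q₀ b (g • Q) = ∑ b, ind' Γ K b₀ Q₀ b Q := by
  symm
  apply Fintype.sum_equiv (MulAction.toPerm g)
  intro x
  rw [MulAction.toPerm_apply, ind'_inv]

theorem ind'_translate (b₀ : β) (Q₀ : Set.powersetCard α 2) (g' : Γ) (Q : Set.powersetCard α 2)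
    (hno : ¬ ∃ h : Γ, h • b₀ = b₀ ∧ h • Q₀ = g'⁻¹ • Q) :
    ind' Γ K b₀ Q₀ (g' • b₀) Q = 0 := by
  apply ind'_neg
  rintro ⟨g, h1, h2⟩
  apply hno
  exact ⟨g'⁻¹ * g, by rw [mul_smul, h1, inv_smul_smul], by rw [mul_smul, h2]⟩

theorem two_orbits
    (hM : ∀ ψ : (β → K) →ₗ[K] (Set.powersetCard α 2 → K),
      (∀ (g : Γ) (v : β → K), ψ (Cfsg.permRep K Γ β g v) =
        Cfsg.permRep K Γ (Set.powersetCard α 2) g (ψ v)) →
      ψ (fun _ => 1) = 0 → ∀ v : β → K, ∑ b, v b = 0 → ψ v = 0)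
    [MulAction.IsPretransitive Γ (Set.powersetCard α 2)] (b₀ : β)
    (Q₁ Q₂ Q₃ : Set.powersetCard α 2) :
    (∃ g : Γ, g • b₀ = b₀ ∧ g • Q₁ = Q₂) ∨ (∃ g : Γ, g • b₀ = b₀ ∧ g • Q₁ = Q₃) ∨
    (∃ g : Γ, g • b₀ = b₀ ∧ g • Q₂ = Q₃) := by
  by_contra hcon
  push Not at hcon
  obtain ⟨h12, h13, h23⟩ := hcon
  have h21 : ¬ ∃ g : Γ, g • b₀ = b₀ ∧ g • Q₂ = Q₁ := by
    rintro ⟨g, hg1, hg2⟩
    apply h12 g⁻¹
    · rw [inv_smul_eq_iff, hg1]
    · rw [inv_smul_eq_iff, hg2]
  have hk : ∀ (Q₀ Q : Set.powersetCard α 2),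
      ∑ b, ind' Γ K b₀ Q₀ b Q = ∑ b, ind' Γ K b₀ Q₀ b Q₁ := by
    intro Q₀ Q
    obtain ⟨g, rfl⟩ := MulAction.exists_smul_eq Γ Q₁ Q
    exact ind'_sum_inv b₀ Q₀ g Q₁
  obtain ⟨g₂, hg₂⟩ := MulAction.exists_smul_eq Γ Q₂ Q₁
  obtain ⟨g₃, hg₃⟩ := MulAction.exists_smul_eq Γ Q₃ Q₁
  have hg₂' : g₂⁻¹ • Q₁ = Q₂ := by rw [inv_smul_eq_iff, hg₂]
  have hg₃' : g₃⁻¹ • Q₁ = Q₃ := by rw [inv_smul_eq_iff, hg₃]
  have e1 : ind' Γ K b₀ Q₁ b₀ Q₁ = 1 := ind'_pos _ _ _ _ ⟨1, one_smul _ _, one_smul _ _⟩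
  have e2 : ind' Γ K b₀ Q₂ b₀ Q₁ = 0 := ind'_neg _ _ _ _ h21
  have e3 : ind' Γ K b₀ Q₁ (g₂ • b₀) Q₁ = 0 := by
    apply ind'_translate
    rw [hg₂']
    exact fun ⟨g, hg1, hg2⟩ => h12 g hg1 hg2
  have e4 : ind' Γ K b₀ Q₂ (g₂ • b₀) Q₁ = 1 := ind'_pos _ _ _ _ ⟨g₂, rfl, hg₂⟩
  have e5 : ind' Γ K b₀ Q₁ (g₃ • b₀) Q₁ = 0 := by
    apply ind'_translate
    rw [hg₃']
    exact fun ⟨g, hg1, hg2⟩ => h13 g hg1 hg2
  have e6 : ind' Γ K b₀ Q₂ (g₃ • b₀) Q₁ = 0 := by
    apply ind'_translate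
    rw [hg₃']
    exact fun ⟨g, hg1, hg2⟩ => h23 g hg1 hg2
  have hκ := claim' hM
    (fun b Q => (∑ z, ind' Γ K b₀ Q₂ z Q₁) * ind' Γ K b₀ Q₁ b Q -
      (∑ z, ind' Γ K b₀ Q₁ z Q₁) * ind' Γ K b₀ Q₂ b Q)
    (by
      intro g b Q
      simp only [ind'_inv])
    (by
      intro Q
      simp only [Finset.sum_sub_distrib, ← Finset.mul_sum]
      rw [hk Q₁ Q, hk Q₂ Q]
      ring)
  have h3 := hκ b₀ (g₂ • b₀) Q₁
  have h4 := hκ b₀ (g₃ • b₀) Q₁
  simp only [e1, e2, e3, e4, e5, e6, mul_zero, mul_one, sub_zero, zero_sub] at h3 h4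
  have hκ' := claim' hM (ind' Γ K b₀ Q₁) (fun g b Q => ind'_inv b₀ Q₁ g b Q)
    (by
      intro Q
      rw [hk Q₁ Q]
      rw [h4] at h3
      exact neg_eq_zero.mp h3.symm)
  have h5 := hκ' b₀ (g₂ • b₀) Q₁
  rw [e1, e3] at h5
  exact one_ne_zero h5

theorem pairs_trans (h2 : MulAction.IsMultiplyPretransitive Γ α 2) :
    MulAction.IsPretransitive Γ (Set.powersetCard α 2) :=
  Set.powersetCard.isPretransitive_of_isMultiplyPretransitive Γ h2

open scoped Pointwise in
theorem mem_smul_pair (g : Γ) (a b : α) (hab : a ≠ b) (z : α)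
    (hz : z ∈ ((g • (⟨{a, b}, Set.powersetCard.mem_iff.mpr (Finset.card_pair hab)⟩ :
      Set.powersetCard α 2) : Set.powersetCard α 2) : Finset α)) : z = g • a ∨ z = g • b := by
  rw [Set.powersetCard.coe_smul] at hz
  have hz' : z ∈ g • ({a, b} : Finset α) := hz
  rw [Finset.smul_finset_insert, Finset.smul_finset_singleton, Finset.mem_insert,
    Finset.mem_singleton] at hz'
  exact hz'

theorem exists_fixed
    (hM : ∀ ψ : (β → K) →ₗ[K] (Set.powersetCard α 2 → K),
      (∀ (g : Γ) (v : β → K), ψ (Cfsg.permRep K Γ β g v) =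
        Cfsg.permRep K Γ (Set.powersetCard α 2) g (ψ v)) →
      ψ (fun _ => 1) = 0 → ∀ v : β → K, ∑ b, v b = 0 → ψ v = 0)
    [MulAction.IsPretransitive Γ (Set.powersetCard α 2)] (b₀ : β)
    (x y : α) (hxy : ∀ g : Γ, g • b₀ = b₀ → g • x ≠ y) :
    ∃ a : α, ∀ g : Γ, g • b₀ = b₀ → g • a = a := by
  by_contra hcon
  push Not at hcon
  obtain ⟨gx, hgx, hx'⟩ := hcon x
  obtain ⟨gy, hgy, hy'⟩ := hcon y
  have hne : x ≠ y := by
    intro h
    exact hxy 1 (one_smul _ _) (by rw [one_smul]; exact h)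
  have hmemQ : ∀ (a b : α) (hab : a ≠ b) (z : α), z = a ∨ z = b →
      z ∈ ((⟨{a, b}, Set.powersetCard.mem_iff.mpr (Finset.card_pair hab)⟩ :
        Set.powersetCard α 2) : Finset α) := by
    intro a b hab z hz
    show z ∈ ({a, b} : Finset α)
    rw [Finset.mem_insert, Finset.mem_singleton]
    exact hz
  rcases two_orbits hM b₀
    (⟨{x, gx • x}, Set.powersetCard.mem_iff.mpr (Finset.card_pair hx'.symm)⟩ :
      Set.powersetCard α 2)
    (⟨{y, gy • y}, Set.powersetCard.mem_iff.mpr (Finset.card_pair hy'.symm)⟩ :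
      Set.powersetCard α 2)
    (⟨{x, y}, Set.powersetCard.mem_iff.mpr (Finset.card_pair hne)⟩ :
      Set.powersetCard α 2) with ⟨g, hg, hQ⟩ | ⟨g, hg, hQ⟩ | ⟨g, hg, hQ⟩
  · have h1 : y ∈ ((g • (⟨{x, gx • x}, Set.powersetCard.mem_iff.mpr
        (Finset.card_pair hx'.symm)⟩ : Set.powersetCard α 2) : Set.powersetCard α 2) :
        Finset α) := by
      rw [hQ]
      exact hmemQ y (gy • y) hy'.symm y (Or.inl rfl)
    rcases mem_smul_pair g x (gx • x) hx'.symm y h1 with h2 | h2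
    · exact hxy g hg h2.symm
    · apply hxy (g * gx) (by rw [mul_smul, hgx, hg])
      rw [mul_smul]
      exact h2.symm
  · have h1 : y ∈ ((g • (⟨{x, gx • x}, Set.powersetCard.mem_iff.mpr
        (Finset.card_pair hx'.symm)⟩ : Set.powersetCard α 2) : Set.powersetCard α 2) :
        Finset α) := by
      rw [hQ]
      exact hmemQ x y hne y (Or.inr rfl)
    rcases mem_smul_pair g x (gx • x) hx'.symm y h1 with h2 | h2
    · exact hxy g hg h2.symm
    · apply hxy (g * gx) (by rw [mul_smul, hgx, hg])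
      rw [mul_smul]
      exact h2.symm
  · have h1 : x ∈ ((g • (⟨{y, gy • y}, Set.powersetCard.mem_iff.mpr
        (Finset.card_pair hy'.symm)⟩ : Set.powersetCard α 2) : Set.powersetCard α 2) :
        Finset α) := by
      rw [hQ]
      exact hmemQ x y hne x (Or.inl rfl)
    rcases mem_smul_pair g y (gy • y) hy'.symm x h1 with h2 | h2
    · apply hxy g⁻¹ (by rw [inv_smul_eq_iff, hg])
      rw [inv_smul_eq_iff]
      exact h2
    · apply hxy (g * gy)⁻¹ (by rw [inv_smul_eq_iff, mul_smul, hgy, hg])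
      rw [inv_smul_eq_iff, mul_smul]
      exact h2

end

section concrete
variable {α : Type*} [Fintype α] [DecidableEq α] {p : ℕ} [Fact p.Prime]

theorem not_dvd_card_H (hα : Fintype.card α = p) (G : Subgroup (Equiv.Perm α))
    [MulAction.IsPretransitive G α] (H : Subgroup G) (hH : H.index = p) :
    ¬ p ∣ Nat.card H := by
  have hp : p.Prime := Fact.out
  intro hdvd
  obtain ⟨P⟩ := (inferInstance : Nonempty (Sylow p G))
  have hP := Cfsg.Agent.S0676.sylow_card hα G P
  have h1 : p ^ 2 ∣ Nat.card G := by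
    rw [← Subgroup.index_mul_card H, hH, sq]
    exact Nat.mul_dvd_mul_left p hdvd
  have h2 := P.pow_dvd_card_of_pow_dvd_card h1
  rw [hP] at h2
  have h3 := Nat.le_of_dvd hp.pos h2
  have h4 := hp.one_lt
  nlinarith

theorem phi_injective (hα : Fintype.card α = p) (G : Subgroup (Equiv.Perm α))
    [MulAction.IsPretransitive G α] (H : Subgroup G) (hH : H.index = p) :
    Function.Injective (MulAction.toPermHom G (G ⧸ H)) := by
  have hp : p.Prime := Fact.out
  have hprim : MulAction.IsPreprimitive G α :=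
    MulAction.IsPreprimitive.of_prime_card (by rw [Nat.card_eq_fintype_card, hα]; exact hp)
  rw [← MonoidHom.ker_eq_bot_iff, Subgroup.eq_bot_iff_forall]
  intro n hn
  by_contra hn1
  have hex : ∃ a : α, n • a ≠ a := by
    by_contra hall
    push Not at hall
    apply hn1
    apply Subtype.ext
    ext a
    exact hall a
  obtain ⟨a, ha⟩ := hex
  have hfix : MulAction.fixedPoints (MulAction.toPermHom G (G ⧸ H)).ker α ≠ Set.univ := by
    intro h
    have hmem : a ∈ MulAction.fixedPoints (MulAction.toPermHom G (G ⧸ H)).ker α := by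
      rw [h]; exact Set.mem_univ a
    exact ha (hmem ⟨n, hn⟩)
  have htrans : MulAction.IsPretransitive (MulAction.toPermHom G (G ⧸ H)).ker α :=
    MulAction.IsQuasiPreprimitive.isPretransitive_of_normal hfix
  have h1 := MulAction.index_stabilizer_of_transitive (MulAction.toPermHom G (G ⧸ H)).ker a
  have h2 : p ∣ Nat.card (MulAction.toPermHom G (G ⧸ H)).ker := by
    rw [← hα, ← Nat.card_eq_fintype_card, ← h1]
    exact Subgroup.index_dvd_card _
  have hle : (MulAction.toPermHom G (G ⧸ H)).ker ≤ H := by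
    intro m hm
    have h3 : m • ((1 : G) : G ⧸ H) = ((1 : G) : G ⧸ H) := by
      have := congrArg (fun π : Equiv.Perm (G ⧸ H) => π ((1 : G) : G ⧸ H))
        (MonoidHom.mem_ker.mp hm)
      simpa using this
    rw [← MulAction.stabilizer_quotient H]
    exact h3
  exact not_dvd_card_H hα G H hH (h2.trans (Subgroup.card_dvd_of_le hle))

theorem eq_stabilizer_of_fixed (hα : Fintype.card α = p) (G : Subgroup (Equiv.Perm α))
    [MulAction.IsPretransitive G α] (H : Subgroup G) (hH : H.index = p) (a : α)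
    (hfix : ∀ g ∈ H, g • a = a) : H = MulAction.stabilizer G a := by
  have hp : p.Prime := Fact.out
  have hle : H ≤ MulAction.stabilizer G a := fun g hg => hfix g hg
  have h1 : (MulAction.stabilizer G a).index = p := by
    rw [MulAction.index_stabilizer_of_transitive, Nat.card_eq_fintype_card, hα]
  have h2 := Subgroup.relIndex_mul_index hle
  rw [h1, hH] at h2
  have h3 : H.relIndex (MulAction.stabilizer G a) = 1 := by
    have : H.relIndex (MulAction.stabilizer G a) * p = 1 * p := by rw [h2, one_mul]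
    exact Nat.eq_of_mul_eq_mul_right hp.pos this
  exact le_antisymm hle (Subgroup.relIndex_eq_one.mp h3)

theorem heart_beta_irr (hα : Fintype.card α = p) (G : Subgroup (Equiv.Perm α))
    [MulAction.IsPretransitive G α] (hG : ¬ Group.IsSolvable G) (H : Subgroup G)
    (hH : H.index = p) {K : Type*} [Field K] [CharP K p] [Fintype (G ⧸ H)]
    [DecidableEq (G ⧸ H)] (W : Subrepresentation (Cfsg.permRep K G (G ⧸ H)))
    (h₁ : (Cfsg.permConstants K G (G ⧸ H)).toSubmodule ≤ W.toSubmodule)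
    (h₂ : W.toSubmodule ≤ (Cfsg.permSumZero K G (G ⧸ H)).toSubmodule) :
    W = Cfsg.permConstants K G (G ⧸ H) ∨ W = Cfsg.permSumZero K G (G ⧸ H) := by
  have hinj := phi_injective hα G H hH
  have hcard : Fintype.card (G ⧸ H) = p := by
    rw [← Nat.card_eq_fintype_card, ← Subgroup.index_eq_card, hH]
  have htr : MulAction.IsPretransitive (MulAction.toPermHom G (G ⧸ H)).range (G ⧸ H) := by
    constructor
    intro b b'
    obtain ⟨g, hg⟩ := MulAction.exists_smul_eq G b b'
    exact ⟨⟨MulAction.toPermHom G (G ⧸ H) g, g, rfl⟩, hg⟩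
  have hns : ¬ Group.IsSolvable (MulAction.toPermHom G (G ⧸ H)).range := by
    intro hsol
    apply hG
    exact Group.isSolvable_of_isSolvable_injective
      (f := (MulAction.toPermHom G (G ⧸ H)).rangeRestrict)
      (MonoidHom.rangeRestrict_injective_iff.mpr hinj)
  let W' : Subrepresentation
      (Cfsg.permRep K (MulAction.toPermHom G (G ⧸ H)).range (G ⧸ H)) :=
    { toSubmodule := W.toSubmodule
      apply_mem_toSubmodule := by
        rintro ⟨_, g, rfl⟩ v hv
        have h := W.apply_mem_toSubmodule g hv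
        have e : Cfsg.permRep K (MulAction.toPermHom G (G ⧸ H)).range (G ⧸ H)
            ⟨MulAction.toPermHom G (G ⧸ H) g, g, rfl⟩ v = Cfsg.permRep K G (G ⧸ H) g v := by
          funext b
          show v ((⟨MulAction.toPermHom G (G ⧸ H) g, g, rfl⟩ :
            (MulAction.toPermHom G (G ⧸ H)).range)⁻¹ • b) = v (g⁻¹ • b)
          congr 1
        rw [e]
        exact h }
  rcases Cfsg.Agent.S0674.result hcard (MulAction.toPermHom G (G ⧸ H)).range hns W' h₁ h₂
    with h | h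
  · left
    apply Subrepresentation.toSubmodule_injective
    have h' := congrArg Subrepresentation.toSubmodule h
    exact h'
  · right
    apply Subrepresentation.toSubmodule_injective
    have h' := congrArg Subrepresentation.toSubmodule h
    exact h'

theorem exists_sigma_t (hα : Fintype.card α = p) (G : Subgroup (Equiv.Perm α))
    [MulAction.IsPretransitive G α] (P : Sylow p G)
    (heven : Even (Nat.card (Subgroup.normalizer ((P : Subgroup G) : Set G)))) :
    ∃ s t : G, orderOf s = p ∧ t * t = 1 ∧ t ≠ 1 ∧ t * s * t⁻¹ ∈ Subgroup.zpowers s := by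
  have hPcard := Cfsg.Agent.S0676.sylow_card hα G P
  have hF2 : Fact (Nat.Prime 2) := ⟨Nat.prime_two⟩
  obtain ⟨t0, ht0⟩ := exists_prime_orderOf_dvd_card'
    (G := Subgroup.normalizer ((P : Subgroup G) : Set G)) 2 (even_iff_two_dvd.mp heven)
  obtain ⟨σ0, hσ0⟩ := exists_prime_orderOf_dvd_card' (G := (P : Subgroup G)) p
    (by rw [hPcard])
  have hord : orderOf (σ0 : G) = p := by rw [Subgroup.orderOf_coe, hσ0]
  have hordt : orderOf (t0 : G) = 2 := by rw [Subgroup.orderOf_coe, ht0]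
  have hPz : (P : Subgroup G) = Subgroup.zpowers (σ0 : G) := by
    symm
    apply Subgroup.eq_of_le_of_card_ge
    · rw [Subgroup.zpowers_le]
      exact σ0.2
    · rw [hPcard, Nat.card_zpowers, hord]
  refine ⟨(σ0 : G), (t0 : G), hord, ?_, ?_, ?_⟩
  · have := pow_orderOf_eq_one (t0 : G)
    rwa [hordt, sq] at this
  · intro h
    rw [h, orderOf_one] at hordt
    norm_num at hordt
  · have h1 : (t0 : G) * (σ0 : G) * (t0 : G)⁻¹ ∈ (P : Subgroup G) :=
      (Subgroup.mem_normalizer_iff.mp t0.2 (σ0 : G)).mp σ0.2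
    exact hPz.le h1

theorem nonsolvable_case (hα : Fintype.card α = p) (G : Subgroup (Equiv.Perm α))
    [MulAction.IsPretransitive G α] (hG : ¬ Group.IsSolvable G) (P : Sylow p G)
    (heven : Even (Nat.card (Subgroup.normalizer ((P : Subgroup G) : Set G))))
    (H : Subgroup G) (hH : H.index = p) : ∃ a : α, H = MulAction.stabilizer G a := by
  have hp : p.Prime := Fact.out
  have hDβ : DecidableEq (G ⧸ H) := Classical.decEq _
  have hp3 : 3 ≤ p := by
    by_contra hlt
    apply hG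
    have hp2 : p = 2 := by have := hp.two_le; omega
    have hfr : Module.finrank (ZMod p) (⊤ : Submodule (ZMod p) (α → ZMod p)) = 2 := by
      rw [finrank_top, Module.finrank_fintype_fun_eq_card, hα, hp2]
    exact pd_solvable_of_invariant hα G (⊤ : Submodule (ZMod p) (α → ZMod p))
      (fun _ _ _ _ => Submodule.mem_top) (by rw [hfr]) (Or.inl (by rw [hfr]; omega))
  have hp2 : p ≠ 2 := by omega
  have hFβ : Fintype (G ⧸ H) := Fintype.ofFinite _
  have hβ : Fintype.card (G ⧸ H) = p := by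
    rw [← Nat.card_eq_fintype_card, ← Subgroup.index_eq_card, hH]
  have hinj := phi_injective hα G H hH
  obtain ⟨s, t, hords, htt, ht1, hnorm⟩ := exists_sigma_t hα G P heven
  obtain ⟨eα, cα, hsα, htα⟩ := Cfsg.Agent.S0676.normal_form hα hp2 (s : Equiv.Perm α)
    (t : Equiv.Perm α) (by rw [Subgroup.orderOf_coe, hords])
    (by
      have := congrArg (fun x : G => (x : Equiv.Perm α)) htt
      simpa using this)
    (by
      intro h
      apply ht1
      exact Subtype.ext h)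
    (by
      rw [Subgroup.mem_zpowers_iff] at hnorm ⊢
      obtain ⟨k, hk⟩ := hnorm
      refine ⟨k, ?_⟩
      have := congrArg (fun x : G => (x : Equiv.Perm α)) hk
      simpa using this)
  obtain ⟨eβ, cβ, hsβ, htβ⟩ := Cfsg.Agent.S0676.normal_form hβ hp2
    (MulAction.toPermHom G (G ⧸ H) s) (MulAction.toPermHom G (G ⧸ H) t)
    (by rw [orderOf_injective _ hinj, hords])
    (by rw [← map_mul, htt, map_one])
    (by
      intro h
      apply ht1
      apply hinj
      rw [h, map_one])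
    (by
      rw [Subgroup.mem_zpowers_iff] at hnorm ⊢
      obtain ⟨k, hk⟩ := hnorm
      refine ⟨k, ?_⟩
      rw [← map_zpow, hk, map_mul, map_mul, map_inv])
  have h2 : MulAction.IsMultiplyPretransitive G α 2 := by
    rcases Cfsg.Agent.S0675.result (hα ▸ hp) G with h | h
    · exact absurd h hG
    · exact h
  have htrP := pairs_trans (Γ := G) (α := α) h2
  have hM := mixed_hom_zero (Γ := G) (α := α) (β := G ⧸ H) (K := ZMod p) hp3 hβ eα eβ cα cβ s t
    hsα htα hsβ htβ (fun W h₁ h₂ => heart_beta_irr hα G hG H hH W h₁ h₂)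
  have hnt : ∃ x y : α, ∀ g : G, g • ((1 : G) : G ⧸ H) = ((1 : G) : G ⧸ H) → g • x ≠ y := by
    by_contra hcon
    push Not at hcon
    have htrH : MulAction.IsPretransitive H α := by
      constructor
      intro x y
      obtain ⟨g, hg, hgx⟩ := hcon x y
      have hgH : g ∈ H := by
        rw [← MulAction.stabilizer_quotient H]
        exact hg
      exact ⟨⟨g, hgH⟩, hgx⟩
    obtain ⟨a⟩ : Nonempty α := Fintype.card_pos_iff.mp (by rw [hα]; exact hp.pos)
    have h1 := MulAction.index_stabilizer_of_transitive H a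
    apply not_dvd_card_H hα G H hH
    rw [← hα, ← Nat.card_eq_fintype_card, ← h1]
    exact Subgroup.index_dvd_card _
  obtain ⟨x, y, hxy⟩ := hnt
  obtain ⟨a, ha⟩ := exists_fixed hM ((1 : G) : G ⧸ H) x y hxy
  refine ⟨a, eq_stabilizer_of_fixed hα G H hH a ?_⟩
  intro g hg
  apply ha
  have : g ∈ MulAction.stabilizer G ((1 : G) : G ⧸ H) := by
    rw [MulAction.stabilizer_quotient H]
    exact hg
  exact this

end concrete



section solv
variable {α : Type*} [Fintype α] [DecidableEq α] {p : ℕ} [Fact p.Prime]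

theorem exists_abelian_normal {Γ : Type*} [Group Γ] [Nontrivial Γ] (hG : Group.IsSolvable Γ) :
    ∃ A : Subgroup Γ, A.Normal ∧ A ≠ ⊥ ∧ ∀ x ∈ A, ∀ y ∈ A, x * y = y * x := by
  classical
  have hex := (Group.isSolvable_def Γ).mp hG
  have hn0 : Nat.find hex ≠ 0 := by
    intro h0
    have := Nat.find_spec hex
    rw [h0, derivedSeries_zero] at this
    exact top_ne_bot this
  refine ⟨derivedSeries Γ (Nat.find hex - 1), derivedSeries_normal Γ _, ?_, ?_⟩
  · exact Nat.find_min hex (by omega)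
  · have h1 : ⁅derivedSeries Γ (Nat.find hex - 1), derivedSeries Γ (Nat.find hex - 1)⁆ = ⊥ := by
      have := Nat.find_spec hex
      have h2 : Nat.find hex = (Nat.find hex - 1) + 1 := by omega
      rw [h2, derivedSeries_succ] at this
      exact this
    rw [Subgroup.commutator_eq_bot_iff_le_centralizer] at h1
    intro x hx y hy
    exact (Subgroup.mem_centralizer_iff.mp (h1 hx) y hy).symm

theorem affine_of_normalizes (σ g : Equiv.Perm α) (e : ZMod p ≃ α)
    (hσ : ∀ j, σ (e j) = e (j + 1)) (hn : g * σ * g⁻¹ ∈ Subgroup.zpowers σ) :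
    ∃ k c : ZMod p, ∀ j, g (e j) = e (c + k * j) := by
  have hp : p.Prime := Fact.out
  have hNZ : NeZero p := ⟨hp.ne_zero⟩
  have hfin : IsOfFinOrder σ := isOfFinOrder_of_finite σ
  rw [← mem_powers_iff_mem_zpowers, Submonoid.mem_powers_iff] at hn
  obtain ⟨n, hn⟩ := hn
  have hcomm : σ ^ n * g = g * σ := by
    rw [hn, inv_mul_cancel_right]
  have hstep : ∀ j : ZMod p, e.symm (g (e (j + 1))) = e.symm (g (e j)) + n := by
    intro j
    have h1 := congrArg (fun π : Equiv.Perm α => π (e j)) hcomm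
    simp only [Equiv.Perm.mul_apply] at h1
    rw [hσ] at h1
    rw [← h1]
    have h2 : g (e j) = e (e.symm (g (e j))) := (Equiv.apply_symm_apply e _).symm
    rw [h2, Cfsg.Agent.S0676.pow_apply_e σ e hσ, Equiv.symm_apply_apply, Equiv.symm_apply_apply]
  have hlin : ∀ m : ℕ, e.symm (g (e (m : ZMod p))) = e.symm (g (e 0)) + n * m := by
    intro m
    induction m with
    | zero => simp
    | succ m ih =>
      push_cast
      rw [hstep, ih]
      ring
  refine ⟨n, e.symm (g (e 0)), fun j => ?_⟩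
  have := hlin j.val
  rw [ZMod.natCast_zmod_val] at this
  rw [← this, Equiv.apply_symm_apply]

theorem solvable_case (hα : Fintype.card α = p) (G : Subgroup (Equiv.Perm α))
    [MulAction.IsPretransitive G α] (hG : Group.IsSolvable G) (H : Subgroup G)
    (hH : H.index = p) : ∃ a : α, H = MulAction.stabilizer G a := by
  have hp : p.Prime := Fact.out
  have hNZ : NeZero p := ⟨hp.ne_zero⟩
  obtain ⟨a₀⟩ : Nonempty α := Fintype.card_pos_iff.mp (by rw [hα]; exact hp.pos)
  obtain ⟨σ', hσ'G, hord', -⟩ := pd_exists_cycle hα G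
  have hnt : Nontrivial G := by
    refine ⟨⟨⟨σ', hσ'G⟩, 1, ?_⟩⟩
    intro h
    have h1 : σ' = 1 := congrArg Subtype.val h
    rw [h1, orderOf_one] at hord'
    exact hp.one_lt.ne hord'
  obtain ⟨A, hAn, hAne, hAc⟩ := exists_abelian_normal hG
  have hprim : MulAction.IsPreprimitive G α :=
    MulAction.IsPreprimitive.of_prime_card (by rw [Nat.card_eq_fintype_card, hα]; exact hp)
  have hfix : MulAction.fixedPoints A α ≠ Set.univ := by
    intro hall
    apply hAne
    rw [Subgroup.eq_bot_iff_forall]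
    intro x hx
    apply Subtype.ext
    ext a
    have hmem : a ∈ MulAction.fixedPoints A α := by rw [hall]; exact Set.mem_univ a
    exact hmem ⟨x, hx⟩
  have htrA : MulAction.IsPretransitive A α :=
    MulAction.IsQuasiPreprimitive.isPretransitive_of_normal hfix
  have hstab : MulAction.stabilizer A a₀ = ⊥ := by
    rw [Subgroup.eq_bot_iff_forall]
    intro x hx
    apply Subtype.ext
    apply Subtype.ext
    ext b
    obtain ⟨y, hy⟩ := MulAction.exists_smul_eq A a₀ b
    have hxy : x * y = y * x := Subtype.ext (hAc x.1 x.2 y.1 y.2)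
    have hx' : x • a₀ = a₀ := hx
    show x • b = b
    rw [← hy, ← mul_smul, hxy, mul_smul, hx']
  have hAcard : Nat.card A = p := by
    have h1 := MulAction.index_stabilizer_of_transitive A a₀
    rw [hstab, Subgroup.index_bot] at h1
    rw [h1, Nat.card_eq_fintype_card, hα]
  obtain ⟨σ0, hσ0⟩ := exists_prime_orderOf_dvd_card' (G := A) p (by rw [hAcard])
  have hordG : orderOf (σ0 : G) = p := by rw [Subgroup.orderOf_coe, hσ0]
  have hAz : A = Subgroup.zpowers (σ0 : G) := by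
    symm
    apply Subgroup.eq_of_le_of_card_ge
    · rw [Subgroup.zpowers_le]
      exact σ0.2
    · rw [hAcard, Nat.card_zpowers, hordG]
  have hordσ : orderOf (((σ0 : G) : Equiv.Perm α)) = p := by
    rw [Subgroup.orderOf_coe, hordG]
  obtain ⟨e, he⟩ := pd_exists_equiv hα _ hordσ (Cfsg.Agent.S0676.cycle_trans hα _ hordσ)
  have haff : ∀ g : G, ∃ k c : ZMod p, ∀ j, (g : Equiv.Perm α) (e j) = e (c + k * j) := by
    intro g
    apply affine_of_normalizes _ _ e he
    have h1 : g * (σ0 : G) * g⁻¹ ∈ A := hAn.conj_mem _ σ0.2 g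
    have h1' : g * (σ0 : G) * g⁻¹ ∈ Subgroup.zpowers (σ0 : G) := hAz.le h1
    rw [Subgroup.mem_zpowers_iff] at h1' ⊢
    obtain ⟨k, hk⟩ := h1'
    refine ⟨k, ?_⟩
    have := congrArg (fun x : G => (x : Equiv.Perm α)) hk
    simpa using this
  have hpH := not_dvd_card_H hα G H hH
  have htriv : ∀ h ∈ H, ∀ d : ZMod p, (∀ j, (h : Equiv.Perm α) (e j) = e (j + d)) → h = 1 := by
    intro h hh d hd
    have h1 : h = (σ0 : G) ^ d.val := by
      apply Subtype.ext
      ext a
      have ha : a = e (e.symm a) := (Equiv.apply_symm_apply e a).symm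
      rw [ha, hd, Subgroup.coe_pow, Cfsg.Agent.S0676.pow_apply_e _ e he, ZMod.natCast_zmod_val]
    have h2 : h ^ p = 1 := by
      rw [h1, ← pow_mul, mul_comm, pow_mul]
      have : (σ0 : G) ^ p = 1 := by rw [← hordG]; exact pow_orderOf_eq_one _
      rw [this, one_pow]
    have h3 : orderOf h ∣ p := orderOf_dvd_of_pow_eq_one h2
    have h4 : orderOf h ∣ Nat.card H := by
      have := orderOf_dvd_natCard (⟨h, hh⟩ : H)
      rwa [Subgroup.orderOf_mk] at this
    rcases (Nat.dvd_prime hp).mp h3 with h5 | h5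
    · exact orderOf_eq_one_iff.mp h5
    · exact absurd (h5 ▸ h4) hpH
  by_cases hHbot : ∀ h ∈ H, h = 1
  · exact ⟨a₀, eq_stabilizer_of_fixed hα G H hH a₀
      (fun g hg => by rw [hHbot g hg, one_smul])⟩
  push Not at hHbot
  obtain ⟨h₀, hh₀, hh₀1⟩ := hHbot
  obtain ⟨k₀, c₀, hk₀⟩ := haff h₀
  have hk₀1 : k₀ ≠ 1 := by
    intro h
    apply hh₀1
    apply htriv h₀ hh₀ c₀
    intro j
    rw [hk₀, h, one_mul, add_comm]
  have h1k : (1 - k₀) ≠ 0 := sub_ne_zero.mpr hk₀1.symm
  have hj₀ : c₀ + k₀ * (c₀ / (1 - k₀)) = c₀ / (1 - k₀) := by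
    field_simp
    ring
  have huniq : ∀ i, c₀ + k₀ * i = i → i = c₀ / (1 - k₀) := by
    intro i hi
    rw [eq_div_iff h1k]
    linear_combination (-1 : ZMod p) * hi
  refine ⟨e (c₀ / (1 - k₀)), eq_stabilizer_of_fixed hα G H hH _ ?_⟩
  intro h hh
  obtain ⟨k, c, hk⟩ := haff h
  have hcomm : h * h₀ = h₀ * h := by
    have hw : (h * h₀) * (h₀ * h)⁻¹ = 1 := by
      apply htriv _ (H.mul_mem (H.mul_mem hh hh₀) (H.inv_mem (H.mul_mem hh₀ hh)))
        ((c + k * c₀) - (c₀ + k₀ * c))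
      intro i
      have hv : ((h₀ * h : G) : Equiv.Perm α) (e (e.symm (((h₀ * h : G) : Equiv.Perm α)⁻¹ (e i))))
          = e i := by
        rw [Equiv.apply_symm_apply, Equiv.Perm.inv_def, Equiv.apply_symm_apply]
      have hv2 : ((h₀ * h : G) : Equiv.Perm α)
          (e (e.symm (((h₀ * h : G) : Equiv.Perm α)⁻¹ (e i)))) =
          e (c₀ + k₀ * (c + k * e.symm (((h₀ * h : G) : Equiv.Perm α)⁻¹ (e i)))) := by
        rw [Subgroup.coe_mul, Equiv.Perm.mul_apply, hk, hk₀]
      have hi : i = c₀ + k₀ * (c + k * e.symm (((h₀ * h : G) : Equiv.Perm α)⁻¹ (e i))) := by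
        apply e.injective
        rw [← hv2, hv]
      have hw1 : (((h * h₀) * (h₀ * h)⁻¹ : G) : Equiv.Perm α) (e i) =
          e (c + k * (c₀ + k₀ * e.symm (((h₀ * h : G) : Equiv.Perm α)⁻¹ (e i)))) := by
        rw [Subgroup.coe_mul, Equiv.Perm.mul_apply, Subgroup.coe_inv]
        have : ((h₀ * h : G) : Equiv.Perm α)⁻¹ (e i) =
            e (e.symm (((h₀ * h : G) : Equiv.Perm α)⁻¹ (e i))) :=
          (Equiv.apply_symm_apply e _).symm
        rw [this, Subgroup.coe_mul, Equiv.Perm.mul_apply, hk₀, hk, Equiv.symm_apply_apply]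
      rw [hw1]
      congr 1
      conv_rhs => rw [hi]
      ring
    exact mul_inv_eq_one.mp hw
  show (h : Equiv.Perm α) (e (c₀ / (1 - k₀))) = e (c₀ / (1 - k₀))
  have h1 : (h₀ : Equiv.Perm α) ((h : Equiv.Perm α) (e (c₀ / (1 - k₀)))) =
      (h : Equiv.Perm α) (e (c₀ / (1 - k₀))) := by
    have h2 := congrArg (fun x : G => (x : Equiv.Perm α) (e (c₀ / (1 - k₀)))) hcomm
    simp only [Subgroup.coe_mul, Equiv.Perm.mul_apply] at h2
    rw [← h2, hk₀, hj₀]
  rw [hk] at h1 ⊢
  rw [hk₀] at h1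
  have h3 := huniq _ (e.injective h1)
  rw [h3]

end solv


theorem result {α : Type*} [Fintype α] [DecidableEq α] {p : ℕ} [Fact p.Prime] (hα : Fintype.card α = p) (G : Subgroup (Equiv.Perm α)) [MulAction.IsPretransitive G α] (P : Sylow p G) (heven : Even (Nat.card (Subgroup.normalizer ((P : Subgroup G) : Set G)))) (H : Subgroup G) (hH : H.index = p) : ∃ a : α, H = MulAction.stabilizer G a := by
  by_cases hG : Group.IsSolvable G
  · exact solvable_case hα G hG H hH
  · exact nonsolvable_case hα G hG P heven H hH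

end Cfsg.Agent.S0677
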