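import Cfsg.Statements.S0695
import Mathlib
import Cfsg.Statements.S0695

set_option autoImplicit false
open Cfsg

namespace Cfsg.Agent.S0695

open MulAction SubMulAction
open scoped Pointwise

theorem key {G X : Type*} [Group G] [MulAction G X] (s : Set X)
    (hprim : IsPreprimitive (fixingSubgroup G s) (ofFixingSubgroup G s)) (B' : Set X) (hB's : B' ⊆ sᶜ)
    (hblock : ∀ g ∈ fixingSubgroup G s, g • B' = B' ∨ Disjoint (g • B') B') :
    B'.Subsingleton ∨ B' = sᶜ := by
  let B : Set (ofFixingSubgroup G s) := Subtype.val ⁻¹' B'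
  have hsm : ∀ g : fixingSubgroup G s, g • B = Subtype.val ⁻¹' ((g : G) • B') := by
    intro g
    ext y
    constructor
    · rintro ⟨z, hz, rfl⟩
      exact ⟨z.1, hz, rfl⟩
    · rintro ⟨z, hz, hzy⟩
      have hzs : z ∈ ofFixingSubgroup G s := by
        rw [mem_ofFixingSubgroup_iff]
        exact hB's hz
      refine ⟨⟨z, hzs⟩, hz, ?_⟩
      apply Subtype.ext
      exact hzy
  have hB : IsBlock (fixingSubgroup G s) B := by
    rw [isBlock_iff_smul_eq_or_disjoint]
    intro g
    rcases hblock g.1 g.2 with h | h
    · left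
      rw [hsm, h]
    · right
      rw [hsm]
      exact Disjoint.preimage _ h
  rcases hprim.isTrivialBlock_of_isBlock hB with h | h
  · left
    intro x hx y hy
    have hxs : x ∈ ofFixingSubgroup G s := by
      rw [mem_ofFixingSubgroup_iff]; exact hB's hx
    have hys : y ∈ ofFixingSubgroup G s := by
      rw [mem_ofFixingSubgroup_iff]; exact hB's hy
    have hx' : (⟨x, hxs⟩ : ofFixingSubgroup G s) ∈ B := hx
    have hy' : (⟨y, hys⟩ : ofFixingSubgroup G s) ∈ B := hy
    exact congrArg Subtype.val (h hx' hy')
  · right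
    apply Set.Subset.antisymm hB's
    intro x hx
    have hxs : x ∈ ofFixingSubgroup G s := by
      rw [mem_ofFixingSubgroup_iff]; exact hx
    have : (⟨x, hxs⟩ : ofFixingSubgroup G s) ∈ B := by rw [h]; trivial
    exact this

theorem main {G : Type*} [Group G] {X : Type*} [Fintype X] [MulAction G X] (hX : 2 ≤ Fintype.card X)
    (h2 : MulAction.IsMultiplyPreprimitive G X 2) (N : Subgroup G) [N.Normal]
    (htrans : MulAction.IsPretransitive N X) (hreg : ∀ x : X, MulAction.stabilizer N x = ⊥) :
    Fintype.card X = 3 ∨ (IsMulCommutative N ∧ (∀ n ∈ N, n ^ 2 = 1) ∧ ∃ m : ℕ, Fintype.card X = 2 ^ m) := by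
  classical
  have hne : Nonempty X := by
    rw [← Fintype.card_pos_iff]; omega
  obtain ⟨a⟩ := hne
  -- regularity
  have hinj : ∀ n n' : N, n • a = n' • a → n = n' := by
    intro n n' h
    have h1 : n'⁻¹ * n ∈ MulAction.stabilizer N a := by
      rw [MulAction.mem_stabilizer_iff, mul_smul, h, inv_smul_smul]
    rw [hreg a, Subgroup.mem_bot] at h1
    exact (inv_mul_eq_one.mp h1).symm
  have hbij : Function.Bijective (fun n : N => n • a) :=
    ⟨fun n n' h => hinj n n' h, fun x => MulAction.exists_smul_eq N a x⟩
  have hcard : Nat.card N = Fintype.card X := by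
    rw [Nat.card_eq_of_bijective _ hbij, Nat.card_eq_fintype_card]
  have hfin : Finite N := Finite.of_injective _ hbij.1
  have hprim : IsPreprimitive (fixingSubgroup G ({a} : Set X)) (ofFixingSubgroup G ({a} : Set X)) :=
    h2.isPreprimitive_ofFixingSubgroup (s := {a}) (by simp; rfl)
  have claim : ∀ n : N, n ≠ 1 → n ^ 2 = 1 ∨ Fintype.card X ≤ 3 := by
    intro n hn
    have hna : n • a ≠ a := by
      intro h
      apply hn
      apply hinj
      rw [h, one_smul]
    have hna' : n⁻¹ • a ≠ a := by
      intro h
      apply hn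
      rw [← inv_inj]
      apply hinj
      rw [h, inv_one, one_smul]
    have hsub : ({n • a, n⁻¹ • a} : Set X) ⊆ ({a} : Set X)ᶜ := by
      intro x hx
      rcases hx with rfl | rfl
      · exact hna
      · exact hna'
    have hblock : ∀ g ∈ fixingSubgroup G ({a} : Set X),
        g • ({n • a, n⁻¹ • a} : Set X) = {n • a, n⁻¹ • a} ∨ Disjoint (g • ({n • a, n⁻¹ • a} : Set X)) {n • a, n⁻¹ • a} := by
      intro g hg
      have hga : g • a = a := by
        rw [mem_fixingSubgroup_iff] at hg
        exact hg a rfl
      let n' : N := ⟨g * n * g⁻¹, ‹N.Normal›.conj_mem n n.2 g⟩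
      have h1 : g • (n • a) = n' • a := by
        show g • ((n : G) • a) = (g * n * g⁻¹) • a
        rw [mul_smul, mul_smul]
        congr 2
        rw [eq_inv_smul_iff, hga]
      have h2' : g • (n⁻¹ • a) = n'⁻¹ • a := by
        show g • (((n⁻¹ : N) : G) • a) = (((n'⁻¹ : N)) : G) • a
        have : ((n'⁻¹ : N) : G) = g * (n : G)⁻¹ * g⁻¹ := by
          show (g * n * g⁻¹)⁻¹ = _
          group
        rw [this, mul_smul, mul_smul]
        congr 2
        rw [eq_inv_smul_iff, hga]
      have hgB : g • ({n • a, n⁻¹ • a} : Set X) = {n' • a, n'⁻¹ • a} := by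
        rw [Set.smul_set_insert, Set.smul_set_singleton, h1, h2']
      rw [hgB]
      by_cases hc1 : n' = n
      · left; rw [hc1]
      by_cases hc2 : n' = n⁻¹
      · left; rw [hc2, inv_inv, Set.pair_comm]
      right
      rw [Set.disjoint_left]
      intro x hx hx'
      rcases hx with rfl | rfl
      · rcases hx' with h | h
        · exact hc1 (hinj _ _ h)
        · exact hc2 (hinj _ _ h)
      · rcases hx' with h | h
        · apply hc2
          rw [← inv_inv n', hinj _ _ h]
        · apply hc1
          rw [← inv_inj]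
          exact hinj _ _ h
    rcases key ({a} : Set X) hprim _ hsub hblock with h | h
    · left
      have := h (Set.mem_insert _ _) (Set.mem_insert_of_mem _ rfl)
      have h3 := hinj _ _ this
      rw [pow_two]
      nth_rewrite 2 [h3]
      exact mul_inv_cancel n
    · right
      have h3 : Fintype.card X = Fintype.card (({a} : Set X)ᶜ : Set X) + 1 := by
        rw [Fintype.card_compl_set]
        simp
        omega
      have h4 : Fintype.card (({a} : Set X)ᶜ : Set X) ≤ 2 := by
        rw [← Nat.card_eq_fintype_card, ← h]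
        rw [Nat.card_coe_set_eq]
        exact (Set.ncard_insert_le _ _).trans (by simp)
      omega
  by_cases h3 : Fintype.card X = 3
  · left; exact h3
  right
  have hsq : ∀ n : N, n ^ 2 = 1 := by
    intro n
    by_cases hn : n = 1
    · rw [hn, one_pow]
    rcases claim n hn with h | h
    · exact h
    · have : Nat.card N = 2 := by omega
      rw [← this]
      exact pow_card_eq_one'
  refine ⟨⟨⟨fun x y => ?_⟩⟩, ?_, ?_⟩
  · have h1 := hsq (x * y)
    have hx := hsq x
    have hy := hsq y
    calc x * y = x * (x * y * (x * y)) * y := by rw [← pow_two, h1, mul_one]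
      _ = (x * x) * (y * x) * (y * y) := by group
      _ = y * x := by rw [← pow_two, ← pow_two, hx, hy, one_mul, mul_one]
  · intro n hn
    exact congrArg Subtype.val (hsq ⟨n, hn⟩)
  · have hp : IsPGroup 2 N := fun g => ⟨1, by simpa using hsq g⟩
    obtain ⟨m, hm⟩ := IsPGroup.iff_card.mp hp
    exact ⟨m, by rw [← hcard, hm]⟩


/-- A regular normal subgroup of a doubly primitive group of finite degree at least 2 is an elementary abelian 2-group (and the degree is a power of 2), unless the degree is 3. -/
theorem result {G : Type*} [Group G] {X : Type*} [Fintype X] [MulAction G X] (hX : 2 ≤ Fintype.card X) (h2 : MulAction.IsMultiplyPreprimitive G X 2) (N : Subgroup G) [N.Normal] (htrans : MulAction.IsPretransitive N X) (hreg : ∀ x : X, MulAction.stabilizer N x = ⊥) : Fintype.card X = 3 ∨ (IsMulCommutative N ∧ (∀ n ∈ N, n ^ 2 = 1) ∧ ∃ m : ℕ, Fintype.card X = 2 ^ m) := by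
  exact main hX h2 N htrans hreg

end Cfsg.Agent.S0695
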