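import Cfsg.Statements.S0696
import Mathlib
import Cfsg.Statements.S0696
import Cfsg.Agent.S0695

set_option autoImplicit false
open Cfsg

namespace Cfsg.Agent.S0696

open MulAction SubMulAction
open scoped Pointwise

theorem main {G : Type*} [Group G] {X : Type*} [Fintype X] [MulAction G X] (hX : 3 ≤ Fintype.card X)
    (h3 : MulAction.IsMultiplyPreprimitive G X 3) (N : Subgroup G) [N.Normal]
    (htrans : MulAction.IsPretransitive N X) (hreg : ∀ x : X, MulAction.stabilizer N x = ⊥) :
    Fintype.card X = 3 ∨ Fintype.card X = 4 := by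
  classical
  have h2 : IsMultiplyPreprimitive G X 2 := by
    apply isMultiplyPreprimitive_of_le G X h3 (by norm_num)
    rw [ENat.card_eq_coe_fintype_card]
    exact_mod_cast hX
  rcases Cfsg.Agent.S0695.result (by omega) h2 N htrans hreg with h | ⟨-, hsq, -⟩
  · left; exact h
  obtain ⟨a, b, c, hab, hac, hbc⟩ := Fintype.two_lt_card_iff.mp (by omega : 2 < Fintype.card X)
  have hinj : ∀ n n' : N, n • a = n' • a → n = n' := by
    intro n n' h
    have h1 : n'⁻¹ * n ∈ MulAction.stabilizer N a := by
      rw [MulAction.mem_stabilizer_iff, mul_smul, h, inv_smul_smul]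
    rw [hreg a, Subgroup.mem_bot] at h1
    exact (inv_mul_eq_one.mp h1).symm
  obtain ⟨n, hn⟩ := MulAction.exists_smul_eq N a b
  obtain ⟨x, hx⟩ := MulAction.exists_smul_eq N a c
  have hn1 : n ≠ 1 := by
    rintro rfl
    rw [one_smul] at hn
    exact hab hn
  have hx1 : x ≠ 1 := by
    rintro rfl
    rw [one_smul] at hx
    exact hac hx
  have hxn : x ≠ n := by
    rintro rfl
    exact hbc (hn.symm.trans hx)
  have hnn : n * n = 1 := by
    apply Subtype.ext
    have := hsq n n.2
    rw [pow_two] at this
    exact this
  have hprim : IsPreprimitive (fixingSubgroup G ({a, b} : Set X)) (ofFixingSubgroup G ({a, b} : Set X)) :=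
    h3.isPreprimitive_ofFixingSubgroup (s := {a, b}) (by rw [Set.encard_pair hab]; rfl)
  have hsub : ({x • a, (n * x) • a} : Set X) ⊆ ({a, b} : Set X)ᶜ := by
    intro y hy
    rcases hy with rfl | rfl
    · rw [hx]
      intro h
      rcases h with h | h
      · exact hac h.symm
      · exact hbc h.symm
    · intro h
      rcases h with h | h
      · have h1 := hinj (n * x) 1 (by rw [h, one_smul])
        apply hxn
        calc x = (n * n) * x := by rw [hnn, one_mul]
          _ = n * (n * x) := by group
          _ = n := by rw [h1, mul_one]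
      · have h1 := hinj (n * x) n (by rw [show (n * x) • a = b from h, hn])
        exact hx1 (mul_left_cancel (h1.trans (mul_one n).symm))
  have hblock : ∀ g ∈ fixingSubgroup G ({a, b} : Set X),
      g • ({x • a, (n * x) • a} : Set X) = {x • a, (n * x) • a} ∨
        Disjoint (g • ({x • a, (n * x) • a} : Set X)) {x • a, (n * x) • a} := by
    intro g hg
    rw [mem_fixingSubgroup_iff] at hg
    have hga : g • a = a := hg a (Set.mem_insert _ _)
    have hgb : g • b = b := hg b (Set.mem_insert_of_mem _ rfl)
    have hconj : ∀ y : N, g • (y • a) = (⟨g * y * g⁻¹, ‹N.Normal›.conj_mem y y.2 g⟩ : N) • a := by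
      intro y
      show g • ((y : G) • a) = (g * y * g⁻¹) • a
      rw [mul_smul, mul_smul]
      congr 2
      rw [eq_inv_smul_iff, hga]
    have hn' : (⟨g * n * g⁻¹, ‹N.Normal›.conj_mem n n.2 g⟩ : N) = n := by
      apply hinj
      rw [← hconj, hn, hgb]
    let x' : N := ⟨g * x * g⁻¹, ‹N.Normal›.conj_mem x x.2 g⟩
    have h1 : g • (x • a) = x' • a := hconj x
    have h2' : g • ((n * x) • a) = (n * x') • a := by
      rw [hconj]
      congr 1
      apply Subtype.ext
      have : ((n : N) : G) = g * n * g⁻¹ := (congrArg Subtype.val hn').symm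
      show g * ((n : G) * x) * g⁻¹ = (n : G) * (g * x * g⁻¹)
      nth_rewrite 2 [this]
      group
    have hgB : g • ({x • a, (n * x) • a} : Set X) = {x' • a, (n * x') • a} := by
      rw [Set.smul_set_insert, Set.smul_set_singleton, h1, h2']
    rw [hgB]
    by_cases hc1 : x' = x
    · left; rw [hc1]
    by_cases hc2 : x' = n * x
    · left
      rw [hc2, ← mul_assoc, hnn, one_mul, Set.pair_comm]
    right
    rw [Set.disjoint_left]
    intro y hy hy'
    rcases hy with rfl | rfl
    · rcases hy' with h | h
      · exact hc1 (hinj _ _ h)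
      · exact hc2 (hinj _ _ h)
    · rcases hy' with h | h
      · apply hc2
        have := hinj _ _ h
        calc x' = (n * n) * x' := by rw [hnn, one_mul]
          _ = n * (n * x') := by group
          _ = n * x := by rw [this]
      · apply hc1
        exact mul_left_cancel (hinj _ _ h)
  rcases Cfsg.Agent.S0695.key ({a, b} : Set X) hprim _ hsub hblock with h | h
  · exfalso
    have := h (Set.mem_insert _ _) (Set.mem_insert_of_mem _ rfl)
    have h3' := hinj _ _ this
    apply hn1
    exact mul_right_cancel (h3'.symm.trans (one_mul x).symm)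
  · have h4 : Fintype.card X = Fintype.card (({a, b} : Set X)ᶜ : Set X) + 2 := by
      rw [Fintype.card_compl_set]
      have : Fintype.card ({a, b} : Set X) = 2 := by
        rw [← Nat.card_eq_fintype_card, Nat.card_coe_set_eq, Set.ncard_pair hab]
      omega
    have h5 : Fintype.card (({a, b} : Set X)ᶜ : Set X) ≤ 2 := by
      rw [← Nat.card_eq_fintype_card, ← h]
      rw [Nat.card_coe_set_eq]
      exact (Set.ncard_insert_le _ _).trans (by simp)
    omega


/-- A triply primitive group of degree at least 3 having a regular normal subgroup has degree 3 or 4. -/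
theorem result {G : Type*} [Group G] {X : Type*} [Fintype X] [MulAction G X] (hX : 3 ≤ Fintype.card X) (h3 : MulAction.IsMultiplyPreprimitive G X 3) (N : Subgroup G) [N.Normal] (htrans : MulAction.IsPretransitive N X) (hreg : ∀ x : X, MulAction.stabilizer N x = ⊥) : Fintype.card X = 3 ∨ Fintype.card X = 4 := by
  exact main hX h3 N htrans hreg

end Cfsg.Agent.S0696
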