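import Cfsg.Statements.S0698
import Mathlib
import Cfsg.Statements.S0698
import Cfsg.Agent.S0680
import Cfsg.Agent.S0695
import Cfsg.Agent.S0696

set_option autoImplicit false
open Cfsg

namespace Cfsg.Agent.S0698

open MulAction SubMulAction

universe u v

section helpers

variable {G : Type u} {X : Type v} [Group G] [MulAction G X]

/-- a normal subgroup of a 2-transitive group acting non-trivially is transitive -/
theorem T1 (h2 : IsMultiplyPretransitive G X 2) (N : Subgroup G) [N.Normal]
    (hN : ∃ g ∈ N, ∃ x : X, g • x ≠ x) : IsPretransitive N X := by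
  have hprim : IsPreprimitive G X := isPreprimitive_of_is_two_pretransitive h2
  apply IsQuasiPreprimitive.isPretransitive_of_normal (G := G)
  intro h
  obtain ⟨g, hg, x, hx⟩ := hN
  have : x ∈ fixedPoints N X := by rw [h]; exact Set.mem_univ x
  exact hx (this ⟨g, hg⟩)

/-- semiregular at one point implies semiregular everywhere for a transitive subgroup -/
theorem T2 (N : Subgroup G) (htr : IsPretransitive N X) (a : X) (ha : stabilizer N a = ⊥) :
    ∀ x : X, stabilizer N x = ⊥ := by
  intro x
  obtain ⟨m, hm⟩ := htr.exists_smul_eq a x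
  rw [eq_bot_iff]
  intro n hn
  rw [mem_stabilizer_iff] at hn
  have h1 : m⁻¹ * n * m ∈ stabilizer N a := by
    rw [mem_stabilizer_iff, mul_smul, mul_smul, hm, hn, ← hm, inv_smul_smul]
  rw [ha, Subgroup.mem_bot] at h1
  rw [Subgroup.mem_bot]
  have : n = m * (m⁻¹ * n * m) * m⁻¹ := by group
  rw [this, h1]; group


instance faithful_stab [FaithfulSMul G X] (a : X) : FaithfulSMul (stabilizer G a) (ofStabilizer G a) := by
  constructor
  intro g h hgh
  apply Subtype.ext
  apply FaithfulSMul.eq_of_smul_eq_smul (α := X)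
  intro x
  by_cases hx : x = a
  · rw [hx, g.2, h.2]
  · have := hgh ⟨x, hx⟩
    exact congrArg Subtype.val this

theorem T3 (N : Subgroup G) (a : X) (m : ℕ)
    (h : IsMultiplyPretransitive (N.subgroupOf (stabilizer G a)) (ofStabilizer G a) m) :
    IsMultiplyPretransitive (stabilizer N a) (ofStabilizer N a) m := by
  constructor
  intro x y
  let ι : ofStabilizer N a ↪ ofStabilizer G a :=
    ⟨fun z => ⟨z.1, z.2⟩, fun z z' hzz => Subtype.ext (congrArg Subtype.val hzz)⟩
  obtain ⟨g, hg⟩ := h.exists_smul_eq (x.trans ι) (y.trans ι)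
  have hgN : ((g : stabilizer G a) : G) ∈ N := Subgroup.mem_subgroupOf.mp g.2
  have hga : (⟨((g : stabilizer G a) : G), hgN⟩ : N) ∈ stabilizer N a := by
    rw [mem_stabilizer_iff]
    exact (g : stabilizer G a).2
  refine ⟨⟨⟨((g : stabilizer G a) : G), hgN⟩, hga⟩, ?_⟩
  ext i
  have h1 := congrArg (fun f : Fin m ↪ ofStabilizer G a => ((f i : ofStabilizer G a) : X)) hg
  simp only [Function.Embedding.smul_apply, Function.Embedding.trans_apply] at h1
  exact h1

theorem finite_of_faithful [FaithfulSMul G X] [Finite X] : Finite G := by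
  have hinj : Function.Injective (MulAction.toPermHom G X) := MulAction.toPerm_injective
  exact Finite.of_injective _ hinj

/-- a regular normal subgroup from a sharply 2-transitive normal subgroup -/
theorem exists_regular_normal [FaithfulSMul G X] [Finite X] (N : Subgroup G) [N.Normal]
    (htr : IsPretransitive N X) (a : X)
    (htr' : IsPretransitive (N.subgroupOf (stabilizer G a)) (ofStabilizer G a))
    (hreg' : ∀ x : ofStabilizer G a, stabilizer (N.subgroupOf (stabilizer G a)) x = ⊥)
    (hX : 2 ≤ Nat.card X) :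
    ∃ K : Subgroup G, K.Normal ∧ IsPretransitive K X ∧ ∀ x : X, stabilizer K x = ⊥ := by
  classical
  have : Finite G := finite_of_faithful (X := X)
  have : Fintype X := Fintype.ofFinite X
  have : Fintype N := Fintype.ofFinite N
  have hX' : 2 ≤ Fintype.card X := by rwa [← Nat.card_eq_fintype_card]
  have H2T : ∀ a₁ b₁ c d : X, a₁ ≠ b₁ → c ≠ d → ∃ n : N, n • a₁ = c ∧ n • b₁ = d := by
    intro a₁ b₁ c d hab hcd
    obtain ⟨n₁, hn₁⟩ := htr.exists_smul_eq a₁ a
    obtain ⟨n₂, hn₂⟩ := htr.exists_smul_eq c a
    have h1 : n₁ • b₁ ≠ a := by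
      rw [← hn₁]; intro h; exact hab (MulAction.injective n₁ h).symm
    have h2 : n₂ • d ≠ a := by
      rw [← hn₂]; intro h; exact hcd (MulAction.injective n₂ h).symm
    obtain ⟨g, hg⟩ := htr'.exists_smul_eq (⟨n₁ • b₁, h1⟩ : ofStabilizer G a) ⟨n₂ • d, h2⟩
    have hgN : ((g : stabilizer G a) : G) ∈ N := Subgroup.mem_subgroupOf.mp g.2
    have hga : ((g : stabilizer G a) : G) • a = a := (g : stabilizer G a).2
    have hg' : ((g : stabilizer G a) : G) • (n₁ • b₁) = n₂ • d := congrArg Subtype.val hg
    refine ⟨n₂⁻¹ * ⟨_, hgN⟩ * n₁, ?_, ?_⟩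
    · rw [mul_smul, mul_smul, hn₁, inv_smul_eq_iff, hn₂]
      exact hga
    · rw [mul_smul, mul_smul, inv_smul_eq_iff]
      exact hg'
  have HS : ∀ (n : N) (a₁ b₁ : X), a₁ ≠ b₁ → n • a₁ = a₁ → n • b₁ = b₁ → n = 1 := by
    intro n a₁ b₁ hab ha hb
    obtain ⟨n₁, hn₁⟩ := htr.exists_smul_eq a₁ a
    have h1 : n₁ • b₁ ≠ a := by
      rw [← hn₁]; intro h; exact hab (MulAction.injective n₁ h).symm
    have h2 : (n₁ * n * n₁⁻¹) • a = a := by
      rw [mul_smul, mul_smul, ← hn₁, inv_smul_smul, ha]
    have h3 : (n₁ * n * n₁⁻¹) • (n₁ • b₁) = n₁ • b₁ := by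
      rw [mul_smul, mul_smul, inv_smul_smul, hb]
    let g₀ : stabilizer G a := ⟨((n₁ * n * n₁⁻¹ : N) : G), h2⟩
    have hg₀ : g₀ ∈ N.subgroupOf (stabilizer G a) := Subgroup.mem_subgroupOf.mpr (n₁ * n * n₁⁻¹ : N).2
    have h4 : (⟨g₀, hg₀⟩ : N.subgroupOf (stabilizer G a)) ∈
        stabilizer (N.subgroupOf (stabilizer G a)) (⟨n₁ • b₁, h1⟩ : ofStabilizer G a) := by
      rw [mem_stabilizer_iff]
      apply Subtype.ext
      exact h3
    rw [hreg', Subgroup.mem_bot] at h4
    have h5 : ((n₁ * n * n₁⁻¹ : N) : G) = 1 := by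
      have := congrArg (fun z : N.subgroupOf (stabilizer G a) => ((z : stabilizer G a) : G)) h4
      exact this
    have h6 : n₁ * n * n₁⁻¹ = 1 := Subtype.ext h5
    have : n = n₁⁻¹ * (n₁ * n * n₁⁻¹) * n₁ := by group
    rw [this, h6]; group
  obtain ⟨K, p, j, hp, hj1, hj, hK, hnormal, hcomm, hexp, hKcard⟩ :=
    Cfsg.Agent.S0680.structure_thm H2T HS hX'
  have hmemK' : ∀ g : G, g ∈ K.map N.subtype ↔ g ∈ N ∧ (g = 1 ∨ ∀ x : X, g • x ≠ x) := by
    intro g
    rw [Subgroup.mem_map]
    constructor
    · rintro ⟨k, hk, rfl⟩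
      refine ⟨k.2, ?_⟩
      rcases (hK k).mp hk with h | h
      · left; rw [h]; rfl
      · right; exact h
    · rintro ⟨hgN, h⟩
      refine ⟨⟨g, hgN⟩, ?_, rfl⟩
      rw [hK]
      rcases h with h | h
      · left; exact Subtype.ext h
      · right; exact h
  refine ⟨K.map N.subtype, ?_, ?_, ?_⟩
  · constructor
    intro g hg h
    rw [hmemK'] at hg ⊢
    refine ⟨‹N.Normal›.conj_mem g hg.1 h, ?_⟩
    rcases hg.2 with h1 | h1
    · left; rw [h1]; group
    · right
      intro x hx
      apply h1 (h⁻¹ • x)
      rw [mul_smul, mul_smul] at hx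
      have h' := congrArg (fun b => h⁻¹ • b) hx
      simpa using h'
  · -- transitive
    have hne : Nonempty X := by
      rw [← Fintype.card_pos_iff]; omega
    obtain ⟨o⟩ := hne
    constructor
    have hinj : Function.Injective (fun k : K => (k : N) • o) := by
      intro k k' hkk
      simp only at hkk
      by_contra hne
      have h1 : (k'⁻¹ * k : K) ≠ 1 := fun h => hne (inv_mul_eq_one.mp h).symm
      have h3 : ((k'⁻¹ * k : K) : N) ≠ 1 := fun h => h1 (Subtype.ext h)
      rcases (hK _).mp (k'⁻¹ * k : K).2 with h | h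
      · exact h3 h
      · apply h o
        show ((k'⁻¹ * k : K) : N) • o = o
        rw [Subgroup.coe_mul, mul_smul, hkk, Subgroup.coe_inv, inv_smul_smul]
    have hbij : Function.Bijective (fun k : K => (k : N) • o) := by
      have : Finite K := inferInstance
      apply Function.Injective.bijective_of_nat_card_le hinj
      rw [hKcard, Nat.card_eq_fintype_card]
    have key : ∀ x : X, ∃ k ∈ K.map N.subtype, k • o = x := by
      intro x
      obtain ⟨k, hk⟩ := hbij.2 x
      exact ⟨((k : N) : G), Subgroup.mem_map_of_mem _ k.2, hk⟩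
    intro x y
    obtain ⟨k₁, hk₁, hx⟩ := key x
    obtain ⟨k₂, hk₂, hy⟩ := key y
    refine ⟨⟨k₂ * k₁⁻¹, Subgroup.mul_mem _ hk₂ (Subgroup.inv_mem _ hk₁)⟩, ?_⟩
    show (k₂ * k₁⁻¹) • x = y
    rw [mul_smul, ← hx, inv_smul_smul, hy]
  · intro x
    rw [eq_bot_iff]
    intro k hk
    rw [mem_stabilizer_iff] at hk
    rw [Subgroup.mem_bot]
    rcases ((hmemK' _).mp k.2).2 with h | h
    · exact Subtype.ext h
    · exact absurd hk (h x)

end helpers

theorem jordan_aux (j : ℕ) (hj : 2 ≤ j) :
    ∀ (G : Type u) (X : Type v) [Group G] [MulAction G X] [FaithfulSMul G X] [Finite X]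
      (N : Subgroup G) [N.Normal], N ≠ ⊥ → IsMultiplyPretransitive G X j → j < Nat.card X →
      IsMultiplyPretransitive N X (j - 1) ∨
        (j = 3 ∧ IsPretransitive N X ∧ (∀ x : X, stabilizer N x = ⊥) ∧ ∀ n ∈ N, n ^ 2 = 1) := by
  induction j, hj using Nat.le_induction with
  | base =>
    intro G X _ _ _ _ N _ hN h2 hcard
    left
    have hNX : ∃ g ∈ N, ∃ x : X, g • x ≠ x := by
      by_contra hne
      push Not at hne
      apply hN
      rw [eq_bot_iff]
      intro g hg
      rw [Subgroup.mem_bot]
      apply FaithfulSMul.eq_of_smul_eq_smul (α := X)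
      intro x
      rw [hne g hg x, one_smul]
    have := T1 h2 N hNX
    show IsMultiplyPretransitive N X 1
    rw [is_one_pretransitive_iff]
    exact this
  | succ j hj ih =>
    intro G X _ _ _ _ N _ hN hjt hcard
    classical
    have hfinG : Finite G := finite_of_faithful (X := X)
    have hFX : Fintype X := Fintype.ofFinite X
    have hcardF : Fintype.card X = Nat.card X := (Nat.card_eq_fintype_card).symm
    have hENat : ∀ m : ℕ, m ≤ Nat.card X → (m : ENat) ≤ ENat.card X := by
      intro m hm
      rw [ENat.card_eq_coe_natCard]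
      exact_mod_cast hm
    have h2 : IsMultiplyPretransitive G X 2 :=
      isMultiplyPretransitive_of_le' (n := j + 1) (by omega) (hENat _ (by omega))
    have h3 : IsMultiplyPretransitive G X 3 :=
      isMultiplyPretransitive_of_le' (n := j + 1) (by omega) (hENat _ (by omega))
    have hNX : ∃ g ∈ N, ∃ x : X, g • x ≠ x := by
      by_contra hne
      push Not at hne
      apply hN
      rw [eq_bot_iff]
      intro g hg
      rw [Subgroup.mem_bot]
      apply FaithfulSMul.eq_of_smul_eq_smul (α := X)
      intro x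
      rw [hne g hg x, one_smul]
    have htr : IsPretransitive N X := T1 h2 N hNX
    have htrG : IsPretransitive G X := @isPretransitive_of_is_two_pretransitive G X _ _ h2
    have hne : Nonempty X := by
      rw [← Fintype.card_pos_iff]; omega
    obtain ⟨a⟩ := hne
    have hpre2 : IsMultiplyPreprimitive G X 2 :=
      isMultiplyPreprimitive_of_isMultiplyPretransitive_succ G X (hENat _ (by omega))
    by_cases hA : stabilizer N a = ⊥
    · -- regular case
      have hreg := T2 N htr a hA
      rcases Cfsg.Agent.S0695.result (by omega) hpre2 N htr hreg with h | ⟨hc, he, m, hm⟩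
      · omega
      · by_cases hj3 : j + 1 = 3
        · right
          exact ⟨hj3, htr, hreg, he⟩
        · exfalso
          have h4 : IsMultiplyPretransitive G X 4 :=
            isMultiplyPretransitive_of_le' (n := j + 1) (by omega) (hENat _ (by omega))
          have hpre3 : IsMultiplyPreprimitive G X 3 :=
            isMultiplyPreprimitive_of_isMultiplyPretransitive_succ G X (hENat _ (by omega))
          rcases Cfsg.Agent.S0696.result (by omega) hpre3 N htr hreg with h | h <;> omega
    · -- stabiliser non-trivial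
      left
      have hjt' : IsMultiplyPretransitive (stabilizer G a) (ofStabilizer G a) j :=
        ofStabilizer.isMultiplyPretransitive.mp hjt
      have hcard' : j < Nat.card (ofStabilizer G a) := by
        have := nat_card_ofStabilizer_add_one_eq (G := G) a
        omega
      have hN' : N.subgroupOf (stabilizer G a) ≠ ⊥ := by
        intro h0
        apply hA
        rw [eq_bot_iff]
        intro n hn
        rw [Subgroup.mem_bot]
        have h1 : (⟨(n : G), hn⟩ : stabilizer G a) ∈ N.subgroupOf (stabilizer G a) :=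
          Subgroup.mem_subgroupOf.mpr n.2
        rw [h0, Subgroup.mem_bot] at h1
        apply Subtype.ext
        have h2' : (n : G) = 1 := congrArg Subtype.val h1
        exact h2'
      rcases ih (stabilizer G a) (ofStabilizer G a) (N.subgroupOf (stabilizer G a)) hN' hjt' hcard' with
        h | ⟨hj3, htr', hreg', _⟩
      · have h1 := T3 N a (j - 1) h
        have h2 : IsMultiplyPretransitive N X (j - 1).succ := ofStabilizer.isMultiplyPretransitive.mpr h1
        have : (j - 1).succ = j + 1 - 1 := by omega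
        rw [← this]
        exact h2
      · exfalso
        obtain ⟨K, hKn, hKtr, hKreg⟩ := exists_regular_normal N htr a htr' hreg' (by omega)
        have h4 : IsMultiplyPretransitive G X 4 :=
          isMultiplyPretransitive_of_le' (n := j + 1) (by omega) (hENat _ (by omega))
        have hpre3 : IsMultiplyPreprimitive G X 3 :=
          isMultiplyPreprimitive_of_isMultiplyPretransitive_succ G X (hENat _ (by omega))
        rcases Cfsg.Agent.S0696.result (by omega) hpre3 K hKtr hKreg with h | h <;> omega

theorem main {α : Type*} [Fintype α] [DecidableEq α] (G : Subgroup (Equiv.Perm α)) {k : ℕ} (hk : 1 < k)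
    (hdeg : k < Fintype.card α) (hG : MulAction.IsMultiplyPretransitive G α k) (N : Subgroup G) [N.Normal]
    (hN : N ≠ ⊥) :
    MulAction.IsMultiplyPretransitive N α (k - 1) ∨ (k = 3 ∧ IsMulCommutative N ∧ ∀ n ∈ N, n ^ 2 = 1) := by
  rcases jordan_aux k (by omega) G α N hN hG (by rwa [Nat.card_eq_fintype_card]) with h | ⟨h3, _, _, hexp⟩
  · exact Or.inl h
  · right
    refine ⟨h3, ⟨⟨fun a b => ?_⟩⟩, hexp⟩
    apply Subtype.ext
    show (a : G) * (b : G) = (b : G) * (a : G)
    have ha := hexp a a.2
    have hb := hexp b b.2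
    have hab := hexp ((a : G) * (b : G)) (N.mul_mem a.2 b.2)
    have ha' : (a : G)⁻¹ = a := by
      rw [inv_eq_iff_mul_eq_one, ← sq]; exact ha
    have hb' : (b : G)⁻¹ = b := by
      rw [inv_eq_iff_mul_eq_one, ← sq]; exact hb
    have : ((a : G) * (b : G))⁻¹ = (a : G) * (b : G) := by
      rw [inv_eq_iff_mul_eq_one, ← sq]; exact hab
    rw [mul_inv_rev, ha', hb'] at this
    exact this.symm


/-- Jordan's Theorem on normal subgroups of multiply transitive groups: if `G` is `k`-transitive (`k > 1`) of degree greater than `k`, a non-trivial normal subgroup is `(k-1)`-transitive, except possibly for `k = 3` when it may be an elementary abelian 2-group. -/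
theorem result {α : Type*} [Fintype α] [DecidableEq α] (G : Subgroup (Equiv.Perm α)) {k : ℕ} (hk : 1 < k) (hdeg : k < Fintype.card α) (hG : MulAction.IsMultiplyPretransitive G α k) (N : Subgroup G) [N.Normal] (hN : N ≠ ⊥) : MulAction.IsMultiplyPretransitive N α (k - 1) ∨ (k = 3 ∧ IsMulCommutative N ∧ ∀ n ∈ N, n ^ 2 = 1) := by
  exact main G hk hdeg hG N hN

end Cfsg.Agent.S0698
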