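import Mathlib
import Cfsg.Statements.S0678
import Cfsg.Agent.S0675
import Cfsg.Agent.S0676
import Cfsg.Agent.S0677
import Cfsg.Agent.S0698

set_option autoImplicit false
open Cfsg

namespace Cfsg.Agent.S0678

open Cfsg.Agent.Lib.Helper5

theorem emb_dvd {M : Type*} [Group M] [Finite M] {α : Type*} [Fintype α] [DecidableEq α]
    [MulAction M α] (k : ℕ) (h : MulAction.IsMultiplyPretransitive M α k)
    (hk : k ≤ Fintype.card α) : (Fintype.card α).descFactorial k ∣ Nat.card M := by
  have hne : Nonempty (Fin k ↪ α) := by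
    rw [Function.Embedding.nonempty_iff_card_le, Fintype.card_fin]
    exact hk
  obtain ⟨x⟩ := hne
  have h1 := MulAction.index_stabilizer_of_transitive M x
  have h2 : Nat.card (Fin k ↪ α) = (Fintype.card α).descFactorial k := by
    rw [Nat.card_eq_fintype_card, Fintype.card_embedding_eq, Fintype.card_fin]
  rw [← h2, ← h1]
  exact Subgroup.index_dvd_card _

theorem support_ge {α : Type*} [Fintype α] [DecidableEq α] (G : Subgroup (Equiv.Perm α))
    (hprim : MulAction.IsPreprimitive G α) (hA : ¬ alternatingGroup α ≤ G)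
    (g : Equiv.Perm α) (hg : g ∈ G) (hg1 : g ≠ 1) : 4 ≤ g.support.card := by
  by_contra hlt
  apply hA
  have h0 : g.support.card ≠ 0 := by
    rw [Ne, Equiv.Perm.card_support_eq_zero]
    exact hg1
  have h1 : g.support.card ≠ 1 := Equiv.Perm.card_support_ne_one g
  have h23 : g.support.card = 2 ∨ g.support.card = 3 := by omega
  rcases h23 with h2' | h3'
  · have := Equiv.Perm.subgroup_eq_top_of_isPreprimitive_of_isSwap_mem hprim g
      (Equiv.Perm.card_support_eq_two.mp h2') hg
    rw [this]
    exact le_top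
  · exact Equiv.Perm.alternatingGroup_le_of_isPreprimitive_of_isThreeCycle_mem hprim
      (_root_.card_support_eq_three_iff.mp h3') hg

theorem card_le_840 {α : Type*} [Fintype α] [DecidableEq α] (hα : Fintype.card α = 7)
    (G : Subgroup (Equiv.Perm α))
    (hsupp : ∀ g : Equiv.Perm α, g ∈ G → g ≠ 1 → 4 ≤ g.support.card) : Nat.card G ≤ 840 := by
  have hne : Nonempty (Fin 4 ↪ α) := by
    rw [Function.Embedding.nonempty_iff_card_le, Fintype.card_fin, hα]
    norm_num
  obtain ⟨x⟩ := hne
  have hcard : Nat.card (Fin 4 ↪ α) = 840 := by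
    rw [Nat.card_eq_fintype_card, Fintype.card_embedding_eq, Fintype.card_fin, hα]
    rfl
  rw [← hcard]
  apply Nat.card_le_card_of_injective (fun g : G => g • x)
  intro g h hgh
  by_contra hne
  have hne' : (h⁻¹ * g : G) ≠ 1 := by
    intro h1
    apply hne
    rw [inv_mul_eq_one] at h1
    exact h1.symm
  have hfix : ∀ i : Fin 4, ((h⁻¹ * g : G) : Equiv.Perm α) (x i) = x i := by
    intro i
    have hgh' : g • x = h • x := hgh
    have h1 : (g • x) i = (h • x) i := by rw [hgh']
    rw [Function.Embedding.smul_apply, Function.Embedding.smul_apply] at h1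
    have h2 : (g : Equiv.Perm α) (x i) = (h : Equiv.Perm α) (x i) := h1
    rw [Subgroup.coe_mul, Subgroup.coe_inv, Equiv.Perm.mul_apply, h2, Equiv.Perm.inv_def,
      Equiv.symm_apply_apply]
  have h4 := hsupp _ (h⁻¹ * g : G).2 (fun h1 => hne' (Subtype.ext h1))
  have hsub : ((h⁻¹ * g : G) : Equiv.Perm α).support ⊆ Finset.univ \ Finset.image x Finset.univ := by
    intro y hy
    rw [Finset.mem_sdiff]
    refine ⟨Finset.mem_univ _, ?_⟩
    intro hy'
    obtain ⟨i, -, rfl⟩ := Finset.mem_image.mp hy'
    exact (Equiv.Perm.mem_support.mp hy) (hfix i)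
  have hc := Finset.card_le_card hsub
  rw [Finset.card_sdiff_of_subset (Finset.subset_univ _), Finset.card_univ, hα,
    Finset.card_image_of_injective _ x.injective, Finset.card_univ, Fintype.card_fin] at hc
  omega

theorem card_dvd_5040 {α : Type*} [Fintype α] [DecidableEq α] (hα : Fintype.card α = 7)
    (G : Subgroup (Equiv.Perm α)) : Nat.card G ∣ 5040 := by
  have h := Subgroup.card_subgroup_dvd_card G
  rw [Nat.card_eq_fintype_card (α := Equiv.Perm α), Fintype.card_perm, hα] at h
  exact h

theorem mem_zpowers_of_commute {α : Type*} [Fintype α] [DecidableEq α] {p : ℕ} [Fact p.Prime]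
    (hα : Fintype.card α = p) (τ g : Equiv.Perm α) (hord : orderOf τ = p)
    (hcomm : g * τ = τ * g) : g ∈ Subgroup.zpowers τ := by
  have hp : p.Prime := Fact.out
  have hNZ : NeZero p := ⟨hp.ne_zero⟩
  obtain ⟨e, he⟩ := pd_exists_equiv hα τ hord (Cfsg.Agent.S0676.cycle_trans hα τ hord)
  have hn : g * τ * g⁻¹ ∈ Subgroup.zpowers τ := by
    rw [hcomm, mul_inv_cancel_right]
    exact Subgroup.mem_zpowers τ
  obtain ⟨k, c, hkc⟩ := Cfsg.Agent.S0677.affine_of_normalizes τ g e he hn
  have h1 : g (τ (e 0)) = τ (g (e 0)) := by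
    rw [← Equiv.Perm.mul_apply, ← Equiv.Perm.mul_apply, hcomm]
  rw [he, hkc, hkc, he] at h1
  have h2 := e.injective h1
  have hk : k = 1 := by
    have h3 : k * (0 + 1) = k * 0 + 1 := add_left_cancel (by rw [← add_assoc]; exact h2)
    rw [zero_add, mul_one, mul_zero, zero_add] at h3
    exact h3
  have hg : g = τ ^ (ZMod.val c) := by
    ext x
    obtain ⟨j, rfl⟩ := e.surjective x
    rw [hkc, Cfsg.Agent.S0676.pow_apply_e τ e he, hk, one_mul, ZMod.natCast_val, ZMod.cast_id',
      id_eq, add_comm]
  rw [hg]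
  exact Subgroup.pow_mem _ (Subgroup.mem_zpowers τ) _

theorem centralizer_le {α : Type*} [Fintype α] [DecidableEq α] {p : ℕ} [Fact p.Prime]
    (hα : Fintype.card α = p) (G : Subgroup (Equiv.Perm α)) [MulAction.IsPretransitive G α]
    (P : Sylow p G) :
    Subgroup.centralizer ((P : Subgroup G) : Set G) ≤ (P : Subgroup G) := by
  have hp : p.Prime := Fact.out
  have hPc : Nat.card (P : Subgroup G) = p := Cfsg.Agent.S0676.sylow_card hα G P
  have hnt : Nontrivial (P : Subgroup G) := by
    rw [← Finite.one_lt_card_iff_nontrivial, hPc]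
    exact hp.one_lt
  obtain ⟨τ, hτ⟩ := exists_ne (1 : (P : Subgroup G))
  have hordτ : orderOf τ = p := by
    have h1 := orderOf_dvd_natCard τ
    rw [hPc] at h1
    rcases (Nat.dvd_prime hp).mp h1 with h | h
    · exact absurd (orderOf_eq_one_iff.mp h) hτ
    · exact h
  have hord' : orderOf ((τ : G) : Equiv.Perm α) = p := by
    rw [Subgroup.orderOf_coe, Subgroup.orderOf_coe, hordτ]
  have hzp : Subgroup.zpowers (τ : G) = (P : Subgroup G) := by
    apply Subgroup.eq_of_le_of_card_ge
    · rw [Subgroup.zpowers_le]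
      exact τ.2
    · rw [Nat.card_zpowers, Subgroup.orderOf_coe, hordτ, hPc]
  intro g hg
  rw [Subgroup.mem_centralizer_iff] at hg
  have h1 := hg (τ : G) τ.2
  have h2 : (g : Equiv.Perm α) * ((τ : G) : Equiv.Perm α) =
      ((τ : G) : Equiv.Perm α) * (g : Equiv.Perm α) := by
    have := congrArg (Subtype.val : G → Equiv.Perm α) h1
    rw [Subgroup.coe_mul, Subgroup.coe_mul] at this
    exact this.symm
  have h3 := mem_zpowers_of_commute hα _ _ hord' h2
  rw [← hzp]
  rw [Subgroup.mem_zpowers_iff] at h3 ⊢
  obtain ⟨n, hn⟩ := h3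
  refine ⟨n, ?_⟩
  apply Subtype.ext
  rw [Subgroup.coe_zpow]
  exact hn

theorem normalizer_card {α : Type*} [Fintype α] [DecidableEq α]
    (hα : Fintype.card α = 7) (G : Subgroup (Equiv.Perm α)) [MulAction.IsPretransitive G α]
    [Fact (Nat.Prime 7)] (P : Sylow 7 G) :
    ∃ d, d ∣ 6 ∧ Nat.card (Subgroup.normalizer ((P : Subgroup G) : Set G)) = 7 * d := by
  have hPc : Nat.card (P : Subgroup G) = 7 := Cfsg.Agent.S0676.sylow_card hα G P
  have hcyc : IsCyclic (P : Subgroup G) := isCyclic_of_prime_card hPc
  have hcomm : IsMulCommutative (P : Subgroup G) := hcyc.isMulCommutative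
  have hPC : (P : Subgroup G) ≤ Subgroup.centralizer ((P : Subgroup G) : Set G) :=
    Subgroup.le_centralizer _
  have hCP := centralizer_le hα G P
  have hCeq : Subgroup.centralizer ((P : Subgroup G) : Set G) = (P : Subgroup G) :=
    le_antisymm hCP hPC
  have key := Subgroup.card_dvd_of_injective _
    (QuotientGroup.kerLift_injective (P : Subgroup G).normalizerMonoidHom)
  rw [Subgroup.normalizerMonoidHom_ker, ← Subgroup.index, ← Subgroup.relIndex] at key
  rw [hcyc.card_mulAut, hPc, Nat.totient_prime (by norm_num)] at key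
  refine ⟨_, key, ?_⟩
  have hCN : Subgroup.centralizer ((P : Subgroup G) : Set G) ≤
      Subgroup.normalizer ((P : Subgroup G) : Set G) := by
    rw [hCeq]
    exact Subgroup.le_normalizer
  have h1 := Subgroup.card_mul_index ((Subgroup.centralizer ((P : Subgroup G) : Set G)).subgroupOf
    (Subgroup.normalizer ((P : Subgroup G) : Set G)))
  have h2 : Nat.card ((Subgroup.centralizer ((P : Subgroup G) : Set G)).subgroupOf
      (Subgroup.normalizer ((P : Subgroup G) : Set G))) = 7 := by
    rw [Nat.card_congr (Subgroup.subgroupOfEquivOfLe hCN).toEquiv, hCeq, hPc]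
  rw [h2] at h1
  rw [← h1]
  rfl

theorem seven_dvd_of_normal {α : Type*} [Fintype α] [DecidableEq α] (hα : Fintype.card α = 7)
    (G : Subgroup (Equiv.Perm α)) (h2 : MulAction.IsMultiplyPretransitive G α 2)
    (K : Subgroup G) [K.Normal] (hK : K ≠ ⊥) :
    MulAction.IsPretransitive K α ∧ 7 ∣ Nat.card K := by
  have h1 := Cfsg.Agent.S0698.result G (k := 2) (by norm_num) (by rw [hα]; norm_num) h2 K hK
  have htr : MulAction.IsPretransitive K α := by
    rcases h1 with h1 | h1
    · exact MulAction.is_one_pretransitive_iff.mp h1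
    · exact absurd h1.1 (by norm_num)
  refine ⟨htr, ?_⟩
  have hpos : 0 < Fintype.card α := by rw [hα]; norm_num
  obtain ⟨a⟩ := Fintype.card_pos_iff.mp hpos
  have h3 := MulAction.index_stabilizer_of_transitive K a
  rw [Nat.card_eq_fintype_card, hα] at h3
  rw [← h3]
  exact Subgroup.index_dvd_card _

theorem burnside_case {α : Type*} [Fintype α] [DecidableEq α] (hα : Fintype.card α = 7)
    (G : Subgroup (Equiv.Perm α)) [MulAction.IsPretransitive G α]
    (h2 : MulAction.IsMultiplyPretransitive G α 2) (hG : ¬ Group.IsSolvable G)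
    [Fact (Nat.Prime 7)] (P : Sylow 7 G)
    (hN : Nat.card (Subgroup.normalizer ((P : Subgroup G) : Set G)) = 7) : False := by
  have hPc : Nat.card (P : Subgroup G) = 7 := Cfsg.Agent.S0676.sylow_card hα G P
  have hcyc : IsCyclic (P : Subgroup G) := isCyclic_of_prime_card hPc
  have hcomm : IsMulCommutative (P : Subgroup G) := hcyc.isMulCommutative
  have hNP : Subgroup.normalizer ((P : Subgroup G) : Set G) = (P : Subgroup G) := by
    symm
    apply Subgroup.eq_of_le_of_card_ge Subgroup.le_normalizer
    rw [hN, hPc]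
  have hNC : Subgroup.normalizer ((P : Subgroup G) : Set G) ≤
      Subgroup.centralizer ((P : Subgroup G) : Set G) := by
    rw [hNP]
    exact Subgroup.le_centralizer _
  have hcomp := MonoidHom.ker_transferSylow_isComplement' P hNC
  have hcard := hcomp.card_mul_card
  rw [hPc] at hcard
  by_cases hK : (MonoidHom.transferSylow P hNC).ker = ⊥
  · rw [hK, Subgroup.card_bot, one_mul] at hcard
    apply hG
    have hcycG : IsCyclic G := isCyclic_of_prime_card hcard.symm
    exact Group.isSolvable_of_comm (fun a b => hcycG.isMulCommutative.is_comm.comm a b)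
  · obtain ⟨-, h7⟩ := seven_dvd_of_normal hα G h2 _ hK
    have h49 : 49 ∣ Nat.card G := by
      rw [← hcard]
      exact Nat.mul_dvd_mul h7 (dvd_refl 7)
    have h5040 := card_dvd_5040 hα G
    have := h49.trans h5040
    omega

theorem two_odd_case {α : Type*} [Fintype α] [DecidableEq α] (hα : Fintype.card α = 7)
    (G : Subgroup (Equiv.Perm α)) (h3 : MulAction.IsMultiplyPretransitive G α 3)
    (hn : Nat.card G = 210 ∨ Nat.card G = 630) : False := by
  have hf2 : Fact (Nat.Prime 2) := ⟨Nat.prime_two⟩
  have h2dvd : 2 ∣ Nat.card G := by omega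
  have h4 : ¬ 4 ∣ Nat.card G := by omega
  have hmin : (Nat.card G).minFac = 2 := by
    rw [Nat.minFac_eq_two_iff]
    exact h2dvd
  obtain ⟨T⟩ : Nonempty (Sylow 2 G) := inferInstance
  have hT2 : Nat.card (T : Subgroup G) = 2 := by
    obtain ⟨k, hk⟩ := T.2.exists_card_eq
    have hk1 : k ≤ 1 := by
      by_contra hk2
      apply h4
      have h1 : 2 ^ 2 ∣ 2 ^ k := pow_dvd_pow 2 (by omega)
      have h2 : 2 ^ k ∣ Nat.card G := by
        rw [← hk]
        exact Subgroup.card_subgroup_dvd_card _
      exact h1.trans h2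
    have hk0 : k ≠ 0 := by
      intro h0
      rw [h0, pow_zero] at hk
      have hbot : (T : Subgroup G) = ⊥ := Subgroup.card_eq_one.mp hk
      exact T.ne_bot_of_dvd_card h2dvd hbot
    have : k = 1 := by omega
    rw [hk, this, pow_one]
  have hTcyc : IsCyclic (T : Subgroup G) := isCyclic_of_prime_card hT2
  have hcomp := IsCyclic.isComplement' hmin hTcyc
  have hidx := hcomp.symm.index_eq_card
  rw [hT2] at hidx
  have hHne : (MonoidHom.transferSylow T (hTcyc.normalizer_le_centralizer hmin)).ker ≠ ⊥ := by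
    intro hb
    rw [hb, Subgroup.index_bot] at hidx
    omega
  have hcard := Subgroup.card_mul_index
    (MonoidHom.transferSylow T (hTcyc.normalizer_le_centralizer hmin)).ker
  rw [hidx] at hcard
  have hodd : ¬ 2 ∣ Nat.card (MonoidHom.transferSylow T (hTcyc.normalizer_le_centralizer hmin)).ker := by
    intro h
    apply h4
    rw [← hcard]
    exact Nat.mul_dvd_mul h (dvd_refl 2)
  have h1 := Cfsg.Agent.S0698.result G (k := 3) (by norm_num) (by rw [hα]; norm_num) h3
    (MonoidHom.transferSylow T (hTcyc.normalizer_le_centralizer hmin)).ker hHne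
  rcases h1 with h1 | ⟨-, -, h1⟩
  · have h42 := emb_dvd 2 h1 (by rw [hα]; norm_num)
    rw [hα] at h42
    apply hodd
    exact (by decide : 2 ∣ Nat.descFactorial 7 2).trans h42
  · apply hHne
    rw [Subgroup.eq_bot_iff_forall]
    intro x hx
    have hx2 := h1 x hx
    have hord : orderOf x ∣ 2 := orderOf_dvd_of_pow_eq_one hx2
    have hord' : orderOf x ∣ Nat.card (MonoidHom.transferSylow T
        (hTcyc.normalizer_le_centralizer hmin)).ker := by
      have := orderOf_dvd_natCard (⟨x, hx⟩ : (MonoidHom.transferSylow T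
        (hTcyc.normalizer_le_centralizer hmin)).ker)
      rwa [Subgroup.orderOf_mk] at this
    rcases (Nat.dvd_prime Nat.prime_two).mp hord with h | h
    · exact orderOf_eq_one_iff.mp h
    · rw [h] at hord'
      exact absurd hord' hodd

theorem arith3 (n m : ℕ) (h1 : n = 21 * m) (h2 : m % 7 = 1) (h3 : 42 ∣ n) (h4 : n ≤ 840)
    (h5 : n ∣ 5040) : n = 168 := by
  subst h1
  have hm : m ≤ 40 := by omega
  interval_cases m <;> omega

theorem two_trans {α : Type*} [Fintype α] [DecidableEq α] (hα : Fintype.card α = 7)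
    (G : Subgroup (Equiv.Perm α)) [MulAction.IsPretransitive G α] (hG : ¬ Group.IsSolvable G) :
    MulAction.IsMultiplyPretransitive G α 2 := by
  have hαp : (Fintype.card α).Prime := by rw [hα]; norm_num
  exact (Cfsg.Agent.S0675.result hαp G).resolve_left hG

theorem order_facts {α : Type*} [Fintype α] [DecidableEq α] (hα : Fintype.card α = 7)
    (G : Subgroup (Equiv.Perm α)) [MulAction.IsPretransitive G α] (hG : ¬ Group.IsSolvable G)
    (hA : ¬ alternatingGroup α ≤ G) [Fact (Nat.Prime 7)] (P : Sylow 7 G) :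
    Nat.card G = 168 ∧ Nat.card (Subgroup.normalizer ((P : Subgroup G) : Set G)) = 21 := by
  have h2 := two_trans hα G hG
  have hprim := MulAction.isPreprimitive_of_is_two_pretransitive h2
  have hsupp := support_ge G hprim hA
  have h840 := card_le_840 hα G hsupp
  have h5040 := card_dvd_5040 hα G
  have h42 : 42 ∣ Nat.card G := by
    have := emb_dvd 2 h2 (by rw [hα]; norm_num)
    rw [hα] at this
    exact this
  obtain ⟨d, hd6, hNd⟩ := normalizer_card hα G P
  have hidx := Subgroup.card_mul_index (Subgroup.normalizer ((P : Subgroup G) : Set G))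
  have hn7 : (Subgroup.normalizer ((P : Subgroup G) : Set G)).index % 7 = 1 := by
    have h1 := card_sylow_modEq_one 7 G
    rw [Sylow.card_eq_index_normalizer P] at h1
    exact h1
  rw [hNd] at hidx
  have hd : d = 1 ∨ d = 2 ∨ d = 3 ∨ d = 6 := by
    have hle : d ≤ 6 := Nat.le_of_dvd (by norm_num) hd6
    have hpos : 0 < d := Nat.pos_of_dvd_of_pos hd6 (by norm_num)
    interval_cases d <;> omega
  have heven_case : Even (Nat.card (Subgroup.normalizer ((P : Subgroup G) : Set G))) →
      (Nat.card G = 210 ∨ Nat.card G = 630) → False := by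
    intro heven hn
    have h3 := Cfsg.Agent.S0676.result hα G hG P heven
    exact two_odd_case hα G h3 hn
  have h210 : Even (Nat.card (Subgroup.normalizer ((P : Subgroup G) : Set G))) →
      210 ∣ Nat.card G := by
    intro heven
    have h3 := Cfsg.Agent.S0676.result hα G hG P heven
    have := emb_dvd 3 h3 (by rw [hα]; norm_num)
    rw [hα] at this
    exact this
  rcases hd with rfl | rfl | rfl | rfl
  · exact (burnside_case hα G h2 hG P (by rw [hNd])).elim
  · exfalso
    have heven : Even (Nat.card (Subgroup.normalizer ((P : Subgroup G) : Set G))) := by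
      rw [hNd]
      decide
    have h210' := h210 heven
    apply heven_case heven
    omega
  · constructor
    · exact arith3 _ _ (by rw [← hidx]) hn7 h42 h840 h5040
    · rw [hNd]
  · exfalso
    have heven : Even (Nat.card (Subgroup.normalizer ((P : Subgroup G) : Set G))) := by
      rw [hNd]
      decide
    have h210' := h210 heven
    apply heven_case heven
    omega

theorem solvable_of_56 {α : Type*} [Fintype α] [DecidableEq α] (hα : Fintype.card α = 7)
    (G : Subgroup (Equiv.Perm α)) (K : Subgroup G) (htr : MulAction.IsPretransitive K α)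
    (hK : Nat.card K = 56) : Group.IsSolvable K := by
  have hαp : (Fintype.card α).Prime := by rw [hα]; norm_num
  have htr' : MulAction.IsPretransitive (K.map G.subtype) α := by
    constructor
    intro a b
    obtain ⟨k, hk⟩ := htr.exists_smul_eq a b
    exact ⟨⟨(k : G), Subgroup.mem_map_of_mem _ k.2⟩, hk⟩
  have hcard : Nat.card (K.map G.subtype) = 56 := by
    rw [Subgroup.card_map_of_injective G.subtype_injective, hK]
  rcases Cfsg.Agent.S0675.result hαp (K.map G.subtype) with hs | h2
  · exact Group.isSolvable_of_isSolvable_injective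
      (f := (K.equivMapOfInjective G.subtype G.subtype_injective).toMonoidHom)
      (K.equivMapOfInjective G.subtype G.subtype_injective).injective
  · exfalso
    have h42 := emb_dvd 2 h2 (by rw [hα]; norm_num)
    rw [hα, hcard] at h42
    revert h42
    decide

theorem simple_of_168 {α : Type*} [Fintype α] [DecidableEq α] (hα : Fintype.card α = 7)
    (G : Subgroup (Equiv.Perm α)) [MulAction.IsPretransitive G α] (hG : ¬ Group.IsSolvable G)
    (hA : ¬ alternatingGroup α ≤ G) : IsSimpleGroup G := by
  have hf7 : Fact (Nat.Prime 7) := ⟨by norm_num⟩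
  have h2 := two_trans hα G hG
  obtain ⟨P0⟩ : Nonempty (Sylow 7 G) := inferInstance
  have h168 := (order_facts hα G hG hA P0).1
  have hnt : Nontrivial G := by
    rw [← Finite.one_lt_card_iff_nontrivial, h168]
    norm_num
  refine { exists_pair_ne := hnt.exists_pair_ne, eq_bot_or_eq_top_of_normal := ?_ }
  intro K hKn
  by_contra hcon
  push Not at hcon
  obtain ⟨hKbot, hKtop⟩ := hcon
  obtain ⟨htr, h7⟩ := seven_dvd_of_normal hα G h2 K hKbot
  obtain ⟨x, hx⟩ := exists_prime_orderOf_dvd_card' 7 h7
  have hxp : IsPGroup 7 (Subgroup.zpowers (x : G)) := by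
    apply IsPGroup.of_card (n := 1)
    rw [Nat.card_zpowers, Subgroup.orderOf_coe, hx, pow_one]
  obtain ⟨P, hP⟩ := hxp.exists_le_sylow
  have hPc : Nat.card (P : Subgroup G) = 7 := Cfsg.Agent.S0676.sylow_card hα G P
  have hPeq : Subgroup.zpowers (x : G) = (P : Subgroup G) := by
    apply Subgroup.eq_of_le_of_card_ge hP
    rw [Nat.card_zpowers, Subgroup.orderOf_coe, hx, hPc]
  have hPK : (P : Subgroup G) ≤ K := by
    rw [← hPeq, Subgroup.zpowers_le]
    exact x.2
  have hN21 := (order_facts hα G hG hA P).2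
  have hfr : Subgroup.normalizer ((P : Subgroup G) : Set G) ⊔ K = ⊤ :=
    Sylow.normalizer_sup_eq_top' P hPK
  have hidx1 : K.index ∣ 21 := by
    have h1 : K.relIndex (Subgroup.normalizer ((P : Subgroup G) : Set G) ⊔ K) =
        K.relIndex (Subgroup.normalizer ((P : Subgroup G) : Set G)) :=
      Subgroup.relIndex_sup_right _ _
    rw [hfr, Subgroup.relIndex_top_right] at h1
    rw [h1, ← hN21]
    exact Subgroup.relIndex_dvd_card _ _
  have hmul := Subgroup.card_mul_index K
  rw [h168] at hmul
  have hKcard : Nat.card K = 56 := by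
    obtain ⟨c, hc⟩ := h7
    have hi1 : K.index ≠ 1 := fun h => hKtop (Subgroup.index_eq_one.mp h)
    have hile : K.index ≤ 21 := Nat.le_of_dvd (by norm_num) hidx1
    have hipos : 0 < K.index := Nat.pos_of_dvd_of_pos hidx1 (by norm_num)
    rw [hc] at hmul ⊢
    generalize K.index = i at *
    interval_cases i <;> omega
  have hidx3 : K.index = 3 := by
    rw [hKcard] at hmul
    omega
  apply hG
  rw [Group.isSolvable_iff_subgroup_quotient K]
  refine ⟨solvable_of_56 hα G K htr hKcard, ?_⟩
  have hq : Nat.card (G ⧸ K) = 3 := hidx3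
  have hf3 : Fact (Nat.Prime 3) := ⟨by norm_num⟩
  have hcyc : IsCyclic (G ⧸ K) := isCyclic_of_prime_card hq
  exact Group.isSolvable_of_comm (fun a b => hcyc.isMulCommutative.is_comm.comm a b)

theorem result {α : Type*} [Fintype α] [DecidableEq α] (hα : Fintype.card α = 7) (G : Subgroup (Equiv.Perm α)) [MulAction.IsPretransitive G α] (hG : ¬ Group.IsSolvable G) (hA : ¬ alternatingGroup α ≤ G) : Nat.card G = 168 ∧ IsSimpleGroup G := by
  have hf7 : Fact (Nat.Prime 7) := ⟨by norm_num⟩
  obtain ⟨P0⟩ : Nonempty (Sylow 7 G) := inferInstance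
  exact ⟨(order_facts hα G hG hA P0).1, simple_of_168 hα G hG hA⟩

end Cfsg.Agent.S0678
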