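import Mathlib
import Cfsg.Statements.S0706

set_option autoImplicit false
open Cfsg

namespace Cfsg.Agent.S0706

section
variable {α : Type*} [Fintype α] [DecidableEq α]

def fixG (G : Subgroup (Equiv.Perm α)) (A : Finset α) : Subgroup (Equiv.Perm α) :=
  G ⊓ fixingSubgroup (Equiv.Perm α) (A : Set α)

theorem mem_fixG {G : Subgroup (Equiv.Perm α)} {A : Finset α} {g : Equiv.Perm α} :
    g ∈ fixG G A ↔ g ∈ G ∧ ∀ x ∈ A, g x = x := by
  rw [fixG, Subgroup.mem_inf, mem_fixingSubgroup_iff]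
  constructor
  · rintro ⟨h1, h2⟩
    exact ⟨h1, fun x hx => h2 x (by exact_mod_cast hx)⟩
  · rintro ⟨h1, h2⟩
    exact ⟨h1, fun x hx => h2 x (by exact_mod_cast hx)⟩

theorem mem_orbit_iff (G : Subgroup (Equiv.Perm α)) (Γ : Finset α) (x y : α) :
    y ∈ MulAction.orbit (fixingSubgroup G (Γ : Set α)) x ↔ ∃ h ∈ fixG G Γ, h x = y := by
  constructor
  · rintro ⟨h, rfl⟩
    refine ⟨h.1.1, mem_fixG.mpr ⟨h.1.2, ?_⟩, rfl⟩
    intro z hz
    exact (mem_fixingSubgroup_iff G).mp h.2 z (by exact_mod_cast hz)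
  · rintro ⟨h, hh, rfl⟩
    rw [mem_fixG] at hh
    have hmem : (⟨h, hh.1⟩ : G) ∈ fixingSubgroup G (Γ : Set α) := by
      rw [mem_fixingSubgroup_iff]
      intro z hz
      exact hh.2 z (by exact_mod_cast hz)
    exact ⟨⟨⟨h, hh.1⟩, hmem⟩, rfl⟩

theorem maps_iff (g : Equiv.Perm α) (S : Set α) (h : ∀ x ∈ S, g x ∈ S) :
    ∀ x, g x ∈ S ↔ x ∈ S := by
  intro x
  constructor
  · intro hx
    let φ : S → S := fun y => ⟨g y, h y y.2⟩
    have hinj : Function.Injective φ :=
      fun a b hab => Subtype.ext (g.injective (congrArg Subtype.val hab))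
    obtain ⟨y, hy⟩ := (Finite.injective_iff_surjective.mp hinj) ⟨g x, hx⟩
    have h1 : g y = g x := congrArg Subtype.val hy
    rw [← g.injective h1]
    exact y.2
  · exact h x

theorem card_fixG_le (G : Subgroup (Equiv.Perm α)) (A A' : Finset α) (g : Equiv.Perm α)
    (hgG : g ∈ G) (hg : ∀ x ∈ A, g x ∈ A') :
    Nat.card (fixG G A') ≤ Nat.card (fixG G A) := by
  have hmem : ∀ h : fixG G A', g⁻¹ * h.1 * g ∈ fixG G A := by
    intro h
    have hh := mem_fixG.mp h.2
    rw [mem_fixG]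
    refine ⟨G.mul_mem (G.mul_mem (G.inv_mem hgG) hh.1) hgG, ?_⟩
    intro x hx
    rw [Equiv.Perm.mul_apply, Equiv.Perm.mul_apply, hh.2 _ (hg x hx), Equiv.Perm.inv_def,
      Equiv.symm_apply_apply]
  apply Nat.card_le_card_of_injective (fun h : fixG G A' => (⟨g⁻¹ * h.1 * g, hmem h⟩ : fixG G A))
  intro h1 h2 h12
  have h3 : g⁻¹ * h1.1 * g = g⁻¹ * h2.1 * g := congrArg Subtype.val h12
  apply Subtype.ext
  have h4 := mul_right_cancel h3
  exact mul_left_cancel h4

theorem card_fixG_exchange (G : Subgroup (Equiv.Perm α)) {k : ℕ}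
    (hgen : ∀ s : Finset α, s.card = k + 1 → ∀ σ : Equiv.Perm ↥s, ∃ g ∈ G, ∀ x : ↥s, g (x : α) = σ x)
    (A : Finset α) (hA : A.card = k) {a b : α} (ha : a ∈ A) (hb : b ∉ A) :
    Nat.card (fixG G (insert b (A.erase a))) = Nat.card (fixG G A) := by
  have hs : (insert b A).card = k + 1 := by rw [Finset.card_insert_of_notMem hb, hA]
  have has : a ∈ insert b A := Finset.mem_insert_of_mem ha
  have hbs : b ∈ insert b A := Finset.mem_insert_self b A
  have hab : a ≠ b := fun h => hb (h ▸ ha)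
  obtain ⟨g, hgG, hg⟩ := hgen (insert b A) hs (Equiv.swap ⟨a, has⟩ ⟨b, hbs⟩)
  have hga : g a = b := by
    have := hg ⟨a, has⟩
    rw [Equiv.swap_apply_left] at this
    exact this
  have hgb : g b = a := by
    have := hg ⟨b, hbs⟩
    rw [Equiv.swap_apply_right] at this
    exact this
  have hgx : ∀ x ∈ A, x ≠ a → g x = x := by
    intro x hx hxa
    have hxs : x ∈ insert b A := Finset.mem_insert_of_mem hx
    have := hg ⟨x, hxs⟩
    rw [Equiv.swap_apply_of_ne_of_ne] at this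
    · exact this
    · intro h
      exact hxa (congrArg Subtype.val h)
    · intro h
      have hxb : x = b := congrArg Subtype.val h
      exact hb (hxb ▸ hx)
  apply le_antisymm
  · apply card_fixG_le G A _ g hgG
    intro x hx
    by_cases hxa : x = a
    · rw [hxa, hga]
      exact Finset.mem_insert_self _ _
    · rw [hgx x hx hxa]
      exact Finset.mem_insert_of_mem (Finset.mem_erase.mpr ⟨hxa, hx⟩)
  · apply card_fixG_le G _ A g hgG
    intro x hx
    rw [Finset.mem_insert] at hx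
    rcases hx with rfl | hx
    · rw [hgb]
      exact ha
    · rw [Finset.mem_erase] at hx
      rw [hgx x hx.2 hx.1]
      exact hx.2

theorem card_fixG_eq (G : Subgroup (Equiv.Perm α)) {k : ℕ}
    (hgen : ∀ s : Finset α, s.card = k + 1 → ∀ σ : Equiv.Perm ↥s, ∃ g ∈ G, ∀ x : ↥s, g (x : α) = σ x) :
    ∀ n : ℕ, ∀ A B : Finset α, A.card = k → B.card = k → (A \ B).card = n →
      Nat.card (fixG G A) = Nat.card (fixG G B) := by
  intro n
  induction n with
  | zero =>
    intro A B hA hB h0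
    rw [Finset.card_eq_zero, Finset.sdiff_eq_empty_iff_subset] at h0
    rw [Finset.eq_of_subset_of_card_le h0 (by omega)]
  | succ n ih =>
    intro A B hA hB hn
    have h1 : (B \ A).card = n + 1 := by
      have := Finset.card_sdiff_add_card_inter A B
      have := Finset.card_sdiff_add_card_inter B A
      rw [Finset.inter_comm] at this
      omega
    obtain ⟨a, ha⟩ := Finset.card_pos.mp (by omega : 0 < (A \ B).card)
    obtain ⟨b, hb⟩ := Finset.card_pos.mp (by omega : 0 < (B \ A).card)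
    rw [Finset.mem_sdiff] at ha hb
    rw [← card_fixG_exchange G hgen A hA ha.1 hb.2]
    apply ih
    · rw [Finset.card_insert_of_notMem, Finset.card_erase_of_mem ha.1, hA]
      · have : 0 < A.card := Finset.card_pos.mpr ⟨a, ha.1⟩
        omega
      · intro h
        exact hb.2 (Finset.mem_of_mem_erase h)
    · exact hB
    · have he : insert b (A.erase a) \ B = (A \ B).erase a := by
        ext x
        simp only [Finset.mem_sdiff, Finset.mem_insert, Finset.mem_erase]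
        constructor
        · rintro ⟨h | h, hxB⟩
          · exact absurd (h ▸ hb.1) hxB
          · exact ⟨h.1, h.2, hxB⟩
        · rintro ⟨h1, h2, h3⟩
          exact ⟨Or.inr ⟨h1, h2⟩, h3⟩
      rw [he, Finset.card_erase_of_mem (Finset.mem_sdiff.mpr ha), hn]
      rfl


def bigM (G : Subgroup (Equiv.Perm α)) (Γ' C : Finset α) {ι : Type*} (O : ι → Set α) :
    Subgroup (Equiv.Perm α) where
  carrier := {g | g ∈ G ∧ (∀ x ∈ Γ', g x = x) ∧ (∀ x, g x ∈ C ↔ x ∈ C) ∧
    ∀ i, ∀ x, g x ∈ O i ↔ x ∈ O i}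
  one_mem' := ⟨G.one_mem, fun _ _ => rfl, fun _ => Iff.rfl, fun _ _ => Iff.rfl⟩
  mul_mem' := by
    rintro g g' ⟨h1, h2, h3, h4⟩ ⟨h1', h2', h3', h4'⟩
    refine ⟨G.mul_mem h1 h1', ?_, ?_, ?_⟩
    · intro x hx
      rw [Equiv.Perm.mul_apply, h2' x hx, h2 x hx]
    · intro x
      rw [Equiv.Perm.mul_apply, h3, h3']
    · intro i x
      rw [Equiv.Perm.mul_apply, h4, h4']
  inv_mem' := by
    rintro g ⟨h1, h2, h3, h4⟩
    refine ⟨G.inv_mem h1, ?_, ?_, ?_⟩
    · intro x hx
      rw [Equiv.Perm.inv_eq_iff_eq]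
      exact (h2 x hx).symm
    · intro x
      rw [← h3 (g⁻¹ x), Equiv.Perm.inv_def, Equiv.apply_symm_apply]
    · intro i x
      rw [← h4 i (g⁻¹ x), Equiv.Perm.inv_def, Equiv.apply_symm_apply]

theorem mem_bigM {G : Subgroup (Equiv.Perm α)} {Γ' C : Finset α} {ι : Type*} {O : ι → Set α}
    {g : Equiv.Perm α} : g ∈ bigM G Γ' C O ↔ g ∈ G ∧ (∀ x ∈ Γ', g x = x) ∧
      (∀ x, g x ∈ C ↔ x ∈ C) ∧ ∀ i, ∀ x, g x ∈ O i ↔ x ∈ O i := Iff.rfl

theorem pres (G : Subgroup (Equiv.Perm α)) (Γ : Finset α) (u : Equiv.Perm α) (huG : u ∈ G)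
    (huΓ : ∀ x ∈ Γ, u x ∈ Γ) (δ : α)
    (hδ : u δ ∈ MulAction.orbit (fixingSubgroup G (Γ : Set α)) δ) :
    ∀ x ∈ MulAction.orbit (fixingSubgroup G (Γ : Set α)) δ,
      u x ∈ MulAction.orbit (fixingSubgroup G (Γ : Set α)) δ := by
  intro x hx
  rw [mem_orbit_iff] at hx hδ ⊢
  obtain ⟨h, hh, rfl⟩ := hx
  obtain ⟨h', hh', hδ'⟩ := hδ
  refine ⟨u * h * u⁻¹ * h', ?_, ?_⟩
  · rw [mem_fixG] at hh hh' ⊢
    refine ⟨G.mul_mem (G.mul_mem (G.mul_mem huG hh.1) (G.inv_mem huG)) hh'.1, ?_⟩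
    intro y hy
    have hiff := maps_iff u (Γ : Set α) (fun x hx => huΓ x hx)
    have hy' : u⁻¹ y ∈ Γ := by
      have := hiff (u⁻¹ y)
      rw [Equiv.Perm.inv_def, Equiv.apply_symm_apply] at this
      exact this.mp hy
    rw [Equiv.Perm.mul_apply, hh'.2 y hy, Equiv.Perm.mul_apply, Equiv.Perm.mul_apply,
      hh.2 _ hy', Equiv.Perm.inv_def, Equiv.apply_symm_apply]
  · rw [Equiv.Perm.mul_apply, hδ', Equiv.Perm.mul_apply, Equiv.Perm.mul_apply,
      Equiv.Perm.inv_def, Equiv.symm_apply_apply]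

end

theorem result {α : Type*} [Fintype α] [DecidableEq α] (G : Subgroup (Equiv.Perm α)) {k : ℕ} (hk : k < Fintype.card α) (hgen : ∀ s : Finset α, s.card = k + 1 → ∀ σ : Equiv.Perm ↥s, ∃ g ∈ G, ∀ x : ↥s, g (x : α) = σ x) {p : ℕ} (hp : p.Prime) (hpk : p ≤ k) (Γ : Finset α) (hΓ : Γ.card = k) (f : Fin p → α) (hf : ∀ i, f i ∉ Γ) (hdist : ∀ i j, i ≠ j → f j ∉ MulAction.orbit (fixingSubgroup G (Γ : Set α)) (f i)) : ∃ i, p ∣ Nat.card (MulAction.orbit (fixingSubgroup G (Γ : Set α)) (f i)) := by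
  by_contra hcon
  push Not at hcon
  have hfact : Fact p.Prime := ⟨hp⟩
  obtain ⟨C, hCΓ, hCp⟩ := Finset.exists_subset_card_eq (s := Γ) (n := p) (by omega)
  obtain ⟨σ₀, hcyc, hsupp⟩ := Finset.exists_cycleOn C
  have hσC : ∀ x ∈ C, σ₀ x ∈ C := fun x hx => hcyc.1.mapsTo hx
  have hσnC : ∀ x, x ∉ C → σ₀ x = x :=
    fun x hx => Equiv.Perm.notMem_support.mp (fun h => hx (hsupp h))
  have hσΓ : ∀ x ∈ Γ, σ₀ x ∈ Γ := by
    intro x hx
    by_cases hxC : x ∈ C
    · exact hCΓ (hσC x hxC)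
    · rw [hσnC x hxC]
      exact hx
  have ht : ∀ i, ∃ t ∈ G, (∀ x ∈ Γ, t x = σ₀ x) ∧ t (f i) = f i := by
    intro i
    have hs : (insert (f i) Γ).card = k + 1 := by
      rw [Finset.card_insert_of_notMem (hf i), hΓ]
    have hσs : ∀ x, σ₀ x ∈ insert (f i) Γ ↔ x ∈ insert (f i) Γ := by
      intro x
      by_cases hxC : x ∈ C
      · constructor
        · intro _
          exact Finset.mem_insert_of_mem (hCΓ hxC)
        · intro _
          exact Finset.mem_insert_of_mem (hCΓ (hσC x hxC))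
      · rw [hσnC x hxC]
    obtain ⟨t, htG, ht⟩ := hgen _ hs (σ₀.subtypePerm hσs)
    refine ⟨t, htG, ?_, ?_⟩
    · intro x hx
      have := ht ⟨x, Finset.mem_insert_of_mem hx⟩
      rw [Equiv.Perm.subtypePerm_apply] at this
      exact this
    · have := ht ⟨f i, Finset.mem_insert_self _ _⟩
      rw [Equiv.Perm.subtypePerm_apply] at this
      rw [this]
      exact hσnC _ (fun h => hf i (hCΓ h))
  choose t htG htΓ htf using ht
  have htΓ' : ∀ i, ∀ x ∈ Γ, t i x ∈ Γ := by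
    intro i x hx
    rw [htΓ i x hx]
    exact hσΓ x hx
  have hHM : fixG G Γ ≤ bigM G (Γ \ C) C
      (fun i => MulAction.orbit (fixingSubgroup G (Γ : Set α)) (f i)) := by
    intro h hh
    rw [mem_fixG] at hh
    rw [mem_bigM]
    refine ⟨hh.1, fun x hx => hh.2 x (Finset.mem_sdiff.mp hx).1, ?_, ?_⟩
    · exact maps_iff h (C : Set α) (fun x hx => by
        rw [hh.2 x (hCΓ hx)]
        exact hx)
    · intro i
      apply maps_iff h
      intro x hx
      rw [mem_orbit_iff] at hx ⊢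
      obtain ⟨h', hh', rfl⟩ := hx
      exact ⟨h * h', (fixG G Γ).mul_mem (mem_fixG.mpr hh) hh', rfl⟩
  have htH : ∀ i j, t i * (t j)⁻¹ ∈ fixG G Γ := by
    intro i j
    rw [mem_fixG]
    refine ⟨G.mul_mem (htG i) (G.inv_mem (htG j)), ?_⟩
    intro x hx
    have hiff := maps_iff (t j) (Γ : Set α) (htΓ' j)
    have hy : (t j)⁻¹ x ∈ Γ := by
      have := hiff ((t j)⁻¹ x)
      rw [Equiv.Perm.inv_def, Equiv.apply_symm_apply] at this
      exact this.mp hx
    rw [Equiv.Perm.mul_apply, htΓ i _ hy, ← htΓ j _ hy, Equiv.Perm.inv_def,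
      Equiv.apply_symm_apply]
  have htM : t ⟨0, hp.pos⟩ ∈ bigM G (Γ \ C) C
      (fun i => MulAction.orbit (fixingSubgroup G (Γ : Set α)) (f i)) := by
    rw [mem_bigM]
    refine ⟨htG _, ?_, ?_, ?_⟩
    · intro x hx
      rw [Finset.mem_sdiff] at hx
      rw [htΓ _ x hx.1, hσnC x hx.2]
    · apply maps_iff (t ⟨0, hp.pos⟩) (C : Set α)
      intro x hx
      rw [htΓ _ x (hCΓ hx)]
      exact hσC x hx
    · intro i
      apply maps_iff (t ⟨0, hp.pos⟩)
      apply pres G Γ (t ⟨0, hp.pos⟩) (htG _) (htΓ' _) (f i)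
      rw [mem_orbit_iff]
      refine ⟨t ⟨0, hp.pos⟩ * (t i)⁻¹, htH _ i, ?_⟩
      rw [Equiv.Perm.mul_apply]
      have : (t i)⁻¹ (f i) = f i := by
        rw [Equiv.Perm.inv_eq_iff_eq]
        exact (htf i).symm
      rw [this]
  have hnorm : ((fixG G Γ).subgroupOf (bigM G (Γ \ C) C
      (fun i => MulAction.orbit (fixingSubgroup G (Γ : Set α)) (f i)))).Normal := by
    constructor
    intro h hh m
    rw [Subgroup.mem_subgroupOf] at hh ⊢
    obtain ⟨hm1, hm2, hm3, hm4⟩ := mem_bigM.mp m.2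
    rw [mem_fixG] at hh
    rw [Subgroup.coe_mul, Subgroup.coe_mul, Subgroup.coe_inv, mem_fixG]
    refine ⟨G.mul_mem (G.mul_mem hm1 hh.1) (G.inv_mem hm1), ?_⟩
    intro x hx
    have hy : m.1⁻¹ x ∈ Γ := by
      by_cases hxC : x ∈ C
      · have := hm3 (m.1⁻¹ x)
        rw [Equiv.Perm.inv_def, Equiv.apply_symm_apply] at this
        exact hCΓ (this.mp hxC)
      · have : m.1⁻¹ x = x := by
          rw [Equiv.Perm.inv_eq_iff_eq]
          exact (hm2 x (Finset.mem_sdiff.mpr ⟨hx, hxC⟩)).symm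
        rw [this]
        exact hx
    rw [Equiv.Perm.mul_apply, Equiv.Perm.mul_apply, hh.2 _ hy, Equiv.Perm.inv_def,
      Equiv.apply_symm_apply]
  have hpow : ∀ n : ℕ, ∀ y ∈ Γ, ((t ⟨0, hp.pos⟩) ^ n) y = (σ₀ ^ n) y ∧ (σ₀ ^ n) y ∈ Γ := by
    intro n
    induction n with
    | zero =>
      intro y hy
      exact ⟨rfl, hy⟩
    | succ n ih =>
      intro y hy
      rw [pow_succ', pow_succ', Equiv.Perm.mul_apply, Equiv.Perm.mul_apply, (ih y hy).1,
        htΓ _ _ (ih y hy).2]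
      exact ⟨rfl, hσΓ _ (ih y hy).2⟩
  have hidx : p ∣ ((fixG G Γ).subgroupOf (bigM G (Γ \ C) C
      (fun i => MulAction.orbit (fixingSubgroup G (Γ : Set α)) (f i)))).index := by
    have hnorm' := hnorm
    have hord : orderOf (QuotientGroup.mk (⟨t ⟨0, hp.pos⟩, htM⟩ : bigM G (Γ \ C) C
        (fun i => MulAction.orbit (fixingSubgroup G (Γ : Set α)) (f i))) :
        _ ⧸ (fixG G Γ).subgroupOf (bigM G (Γ \ C) C
          (fun i => MulAction.orbit (fixingSubgroup G (Γ : Set α)) (f i)))) = p := by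
      apply orderOf_eq_prime
      · rw [← QuotientGroup.mk_pow, QuotientGroup.eq_one_iff, Subgroup.mem_subgroupOf,
          Subgroup.coe_pow, mem_fixG]
        refine ⟨G.pow_mem (htG _) p, ?_⟩
        intro x hx
        rw [(hpow p x hx).1]
        by_cases hxC : x ∈ C
        · rw [← hCp]
          exact hcyc.pow_card_apply hxC
        · exact Equiv.Perm.pow_apply_eq_self_of_apply_eq_self (hσnC x hxC) p
      · rw [Ne, QuotientGroup.eq_one_iff, Subgroup.mem_subgroupOf, mem_fixG]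
        rintro ⟨-, h⟩
        obtain ⟨a, ha⟩ : C.Nonempty := by
          rw [← Finset.card_pos, hCp]
          exact hp.pos
        have h1 := h a (hCΓ ha)
        rw [htΓ _ a (hCΓ ha)] at h1
        have h2 := (hcyc.pow_apply_eq ha (n := 1)).mp (by rw [pow_one]; exact h1)
        rw [hCp] at h2
        exact hp.one_lt.ne' (Nat.dvd_one.mp h2)
    have hdv := orderOf_dvd_natCard (QuotientGroup.mk (⟨t ⟨0, hp.pos⟩, htM⟩ : bigM G (Γ \ C) C
        (fun i => MulAction.orbit (fixingSubgroup G (Γ : Set α)) (f i))) :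
        _ ⧸ (fixG G Γ).subgroupOf (bigM G (Γ \ C) C
          (fun i => MulAction.orbit (fixingSubgroup G (Γ : Set α)) (f i))))
    rw [hord] at hdv
    exact hdv
  have hcardH' : Nat.card ((fixG G Γ).subgroupOf (bigM G (Γ \ C) C
      (fun i => MulAction.orbit (fixingSubgroup G (Γ : Set α)) (f i)))) = Nat.card (fixG G Γ) :=
    Nat.card_congr (Subgroup.subgroupOfEquivOfLe hHM).toEquiv
  have hdvdM : p ^ ((Nat.card (fixG G Γ)).factorization p + 1) ∣ Nat.card (bigM G (Γ \ C) C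
      (fun i => MulAction.orbit (fixingSubgroup G (Γ : Set α)) (f i))) := by
    rw [← Subgroup.card_mul_index ((fixG G Γ).subgroupOf (bigM G (Γ \ C) C
      (fun i => MulAction.orbit (fixingSubgroup G (Γ : Set α)) (f i)))), hcardH', pow_succ]
    exact Nat.mul_dvd_mul (Nat.ordProj_dvd _ _) hidx
  obtain ⟨Q, hQ⟩ := Sylow.exists_subgroup_card_pow_prime p hdvdM
  have hQp : IsPGroup p Q := IsPGroup.of_card hQ
  have hfixpt : ∀ i, ∃ β ∈ MulAction.orbit (fixingSubgroup G (Γ : Set α)) (f i),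
      ∀ q : Q, (q.1.1 : Equiv.Perm α) β = β := by
    intro i
    let hact : MulAction Q (MulAction.orbit (fixingSubgroup G (Γ : Set α)) (f i)) :=
      { smul := fun q x => ⟨q.1.1 x.1, (((mem_bigM.mp q.1.2).2.2.2 i x.1).mpr x.2)⟩
        one_smul := fun x => Subtype.ext rfl
        mul_smul := fun q q' x => Subtype.ext rfl }
    obtain ⟨β, hβ⟩ := hQp.nonempty_fixed_point_of_prime_not_dvd_card
      (MulAction.orbit (fixingSubgroup G (Γ : Set α)) (f i)) (hcon i)
    refine ⟨β.1, β.2, fun q => ?_⟩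
    have := hβ q
    exact congrArg Subtype.val this
  choose β hβO hβfix using hfixpt
  have hβinj : Function.Injective β := by
    intro i j hij
    by_contra hne
    apply hdist i j hne
    have h1 := MulAction.orbit_eq_iff.mpr (hβO i)
    have h2 := MulAction.orbit_eq_iff.mpr (hβO j)
    rw [← h1, hij, h2]
    exact MulAction.mem_orbit_self _
  have hβΓ : ∀ i, β i ∉ Γ := by
    intro i hmem
    have := hβO i
    rw [mem_orbit_iff] at this
    obtain ⟨h, hh, hhf⟩ := this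
    rw [mem_fixG] at hh
    have h1 : h (β i) = β i := hh.2 _ hmem
    have h2 : f i = β i := h.injective (by rw [hhf, h1])
    exact hf i (h2 ▸ hmem)
  have hΓ₁card : ((Γ \ C) ∪ Finset.image β Finset.univ).card = k := by
    rw [Finset.card_union_of_disjoint, Finset.card_image_of_injective _ hβinj, Finset.card_univ,
      Fintype.card_fin, Finset.card_sdiff_of_subset hCΓ, hΓ, hCp]
    · omega
    · rw [Finset.disjoint_left]
      intro x hx hx'
      obtain ⟨i, -, rfl⟩ := Finset.mem_image.mp hx'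
      exact hβΓ i (Finset.mem_sdiff.mp hx).1
  have hcardeq := card_fixG_eq G hgen _ ((Γ \ C) ∪ Finset.image β Finset.univ) Γ hΓ₁card hΓ rfl
  have hQle : Nat.card Q ∣ Nat.card (fixG G ((Γ \ C) ∪ Finset.image β Finset.univ)) := by
    have hle : Q.map (Subgroup.subtype _) ≤ fixG G ((Γ \ C) ∪ Finset.image β Finset.univ) := by
      rintro _ ⟨q, hq, rfl⟩
      rw [mem_fixG]
      obtain ⟨hq1, hq2, -, -⟩ := mem_bigM.mp q.2
      refine ⟨hq1, ?_⟩
      intro x hx
      rw [Finset.mem_union] at hx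
      rcases hx with hx | hx
      · exact hq2 x hx
      · obtain ⟨i, -, rfl⟩ := Finset.mem_image.mp hx
        exact hβfix i ⟨q, hq⟩
    have h1 := Subgroup.card_dvd_of_le hle
    rwa [Subgroup.card_map_of_injective (Subgroup.subtype_injective _)] at h1
  rw [hQ, hcardeq] at hQle
  exact Nat.pow_succ_factorization_not_dvd (Nat.card_pos.ne') hp hQle

end Cfsg.Agent.S0706
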