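import Mathlib
import Cfsg.Statements.S0711

set_option autoImplicit false
open Cfsg

namespace Cfsg.Agent.S0711

theorem exists_fixing {α : Type*} [Fintype α] [DecidableEq α] (G : Subgroup (Equiv.Perm α)) {k : ℕ}
    (hkn : k ≤ Fintype.card α) (hG : MulAction.IsMultiplyPretransitive G α k) (S : Finset α)
    (hS : S.card + 1 ≤ k) {δ ε : α} (hδ : δ ∉ S) (hε : ε ∉ S) :
    ∃ t ∈ G, (∀ x ∈ S, t x = x) ∧ t δ = ε := by
  have h1 : MulAction.IsMultiplyPretransitive (fixingSubgroup G (S : Set α))
      (SubMulAction.ofFixingSubgroup G (S : Set α)) 1 := by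
    apply SubMulAction.ofFixingSubgroup.isMultiplyPretransitive' (G := G) (n := k) (S : Set α)
    · rw [Set.ncard_coe_finset]
      exact hS
    · rw [ENat.card_eq_coe_fintype_card]
      exact_mod_cast hkn
  rw [MulAction.is_one_pretransitive_iff] at h1
  have hδ' : δ ∈ SubMulAction.ofFixingSubgroup G (S : Set α) := by
    rw [SubMulAction.mem_ofFixingSubgroup_iff]
    exact_mod_cast hδ
  have hε' : ε ∈ SubMulAction.ofFixingSubgroup G (S : Set α) := by
    rw [SubMulAction.mem_ofFixingSubgroup_iff]
    exact_mod_cast hε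
  obtain ⟨t, ht⟩ := h1.exists_smul_eq ⟨δ, hδ'⟩ ⟨ε, hε'⟩
  refine ⟨t.1.1, t.1.2, ?_, ?_⟩
  · intro x hx
    have := (mem_fixingSubgroup_iff G).mp t.2 x (by exact_mod_cast hx)
    exact this
  · have := congrArg Subtype.val ht
    exact this

section
variable {α : Type*} [Fintype α] [DecidableEq α]

theorem comm_support (g t : Equiv.Perm α) (S T : Finset α)
    (hSt : ∀ x ∈ S, t x = x)
    (hT : T ⊆ g.support ∩ (t * g * t⁻¹).support) (hSΔ : S ⊆ g.support) :
    (g⁻¹ * (t * g * t⁻¹)).support.card + (S.filter (fun x => g x ∈ S)).card + T.card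
      ≤ 2 * g.support.card := by
  have hcard' : (t * g * t⁻¹).support.card = g.support.card := by
    rw [Equiv.Perm.support_conj, Finset.card_map]
  have hsub : (g⁻¹ * (t * g * t⁻¹)).support ⊆
      (g.support ∪ (t * g * t⁻¹).support) \ (S.filter (fun x => g x ∈ S)) := by
    intro x hx
    rw [Finset.mem_sdiff]
    constructor
    · have h1 := Equiv.Perm.support_mul_le g⁻¹ (t * g * t⁻¹) hx
      rw [Equiv.Perm.support_inv] at h1
      exact h1
    · intro hxA
      rw [Finset.mem_filter] at hxA
      rw [Equiv.Perm.mem_support] at hx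
      apply hx
      have h1 : t⁻¹ x = x := by
        rw [Equiv.Perm.inv_eq_iff_eq]
        exact (hSt x hxA.1).symm
      rw [Equiv.Perm.mul_apply, Equiv.Perm.mul_apply, Equiv.Perm.mul_apply, h1, hSt _ hxA.2,
        Equiv.Perm.inv_def, Equiv.symm_apply_apply]
  have hA : (S.filter (fun x => g x ∈ S)) ⊆ g.support ∪ (t * g * t⁻¹).support :=
    fun x hx => Finset.mem_union_left _ (hSΔ (Finset.mem_filter.mp hx).1)
  have h1 := Finset.card_le_card hsub
  rw [Finset.card_sdiff_of_subset hA] at h1
  have h2 := Finset.card_union_add_card_inter g.support (t * g * t⁻¹).support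
  have h3 := Finset.card_le_card hT
  have h4 := Finset.card_le_card hA
  omega

theorem exists_seg (g : Equiv.Perm α) (Δ : Finset α) (hΔ : ∀ x ∈ Δ, g x ∈ Δ) :
    ∀ s ≤ Δ.card, ∃ S ⊆ Δ, S.card = s ∧ (S.filter (fun x => g x ∉ S)).card ≤ 1 := by
  intro s
  induction s with
  | zero =>
    intro _
    exact ⟨∅, Finset.empty_subset _, rfl, by simp⟩
  | succ s ih =>
    intro hs
    obtain ⟨S, hSΔ, hSc, hSf⟩ := ih (by omega)
    have hz : ∃ z ∈ Δ, z ∉ S ∧ ∀ x ∈ S, g x ∉ S → g x = z := by
      rcases Nat.eq_zero_or_pos (S.filter (fun x => g x ∉ S)).card with h0 | h0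
      · rw [Finset.card_eq_zero] at h0
        obtain ⟨z, hz, hzS⟩ := Finset.exists_mem_notMem_of_card_lt_card
          (s := S) (t := Δ) (by omega)
        refine ⟨z, hz, hzS, ?_⟩
        intro x hx hgx
        exfalso
        have : x ∈ S.filter (fun x => g x ∉ S) := Finset.mem_filter.mpr ⟨hx, hgx⟩
        rw [h0] at this
        exact Finset.notMem_empty _ this
      · have h1 : (S.filter (fun x => g x ∉ S)).card = 1 := by omega
        rw [Finset.card_eq_one] at h1
        obtain ⟨y, hy⟩ := h1
        have hyS : y ∈ S.filter (fun x => g x ∉ S) := by rw [hy]; exact Finset.mem_singleton_self _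
        rw [Finset.mem_filter] at hyS
        refine ⟨g y, hΔ y (hSΔ hyS.1), hyS.2, ?_⟩
        intro x hx hgx
        have : x ∈ S.filter (fun x => g x ∉ S) := Finset.mem_filter.mpr ⟨hx, hgx⟩
        rw [hy, Finset.mem_singleton] at this
        rw [this]
    obtain ⟨z, hzΔ, hzS, hz⟩ := hz
    refine ⟨insert z S, ?_, ?_, ?_⟩
    · intro x hx
      rw [Finset.mem_insert] at hx
      rcases hx with rfl | hx
      · exact hzΔ
      · exact hSΔ hx
    · rw [Finset.card_insert_of_notMem hzS, hSc]
    · have hsub : (insert z S).filter (fun x => g x ∉ insert z S) ⊆ {z} := by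
        intro x hx
        rw [Finset.mem_filter, Finset.mem_insert] at hx
        rw [Finset.mem_singleton]
        rcases hx.1 with h | h
        · exact h
        · exfalso
          apply hx.2
          rw [Finset.mem_insert]
          by_cases hgx : g x ∈ S
          · exact Or.inr hgx
          · exact Or.inl (hz x h hgx)
      exact (Finset.card_le_card hsub).trans (by simp)

end


theorem conj_mem_support {α : Type*} [Fintype α] [DecidableEq α] (g t : Equiv.Perm α) {x : α}
    (hx : x ∈ g.support) : t x ∈ (t * g * t⁻¹).support := by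
  rw [Equiv.Perm.support_conj, Finset.mem_map]
  exact ⟨x, hx, rfl⟩

theorem step {α : Type*} [Fintype α] [DecidableEq α] (G : Subgroup (Equiv.Perm α)) {k : ℕ}
    (hkn : k ≤ Fintype.card α) (hG : MulAction.IsMultiplyPretransitive G α k)
    (g : Equiv.Perm α) (hg : g ∈ G) (hm4 : 4 ≤ g.support.card)
    (hm : g.support.card < 2 * k - 2) (hn : g.support.card < Fintype.card α) :
    ∃ c ∈ G, c ≠ 1 ∧ c.support.card < g.support.card := by
  have hΔ : ∀ x ∈ g.support, g x ∈ g.support := fun x hx => Equiv.Perm.apply_mem_support.mpr hx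
  obtain ⟨S, hSΔ, hSc, hSf⟩ := exists_seg g g.support hΔ (min (k - 1) (g.support.card - 1))
    (by omega)
  obtain ⟨ε, -, hε⟩ := Finset.exists_mem_notMem_of_card_lt_card
    (s := g.support) (t := Finset.univ) (by rw [Finset.card_univ]; exact hn)
  have hεS : ε ∉ S := fun h => hε (hSΔ h)
  have hgε : g ε = ε := Equiv.Perm.notMem_support.mp hε
  have hsplit := Finset.card_filter_add_card_filter_not (s := S) (fun x => g x ∈ S)
  have hcS : ∀ t : Equiv.Perm α, t ∈ G → g⁻¹ * (t * g * t⁻¹) ∈ G := fun t ht =>
    G.mul_mem (G.inv_mem hg) (G.mul_mem (G.mul_mem ht hg) (G.inv_mem ht))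
  have hSsub : ∀ t : Equiv.Perm α, (∀ x ∈ S, t x = x) → S ⊆ g.support ∩ (t * g * t⁻¹).support := by
    intro t htS x hx
    rw [Finset.mem_inter]
    refine ⟨hSΔ hx, ?_⟩
    have := conj_mem_support g t (hSΔ hx)
    rwa [htS x hx] at this
  rcases Nat.eq_zero_or_pos (S.filter (fun x => g x ∉ S)).card with h0 | h0
  · obtain ⟨δ, hδΔ, hδS⟩ := Finset.exists_mem_notMem_of_card_lt_card
      (s := S) (t := g.support) (by omega)
    obtain ⟨t, htG, htS, htδ⟩ := exists_fixing G hkn hG S (by omega) hδS hεS
    refine ⟨g⁻¹ * (t * g * t⁻¹), hcS t htG, ?_, ?_⟩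
    · intro h1
      have h2 : (g⁻¹ * (t * g * t⁻¹)) ε = ε := by rw [h1]; rfl
      rw [Equiv.Perm.mul_apply, Equiv.Perm.inv_eq_iff_eq, hgε, Equiv.Perm.mul_apply,
        Equiv.Perm.mul_apply] at h2
      have h3 : t⁻¹ ε = δ := by
        rw [Equiv.Perm.inv_eq_iff_eq]
        exact htδ.symm
      rw [h3, ← htδ] at h2
      have h4 := t.injective h2
      exact (Equiv.Perm.mem_support.mp hδΔ) h4
    · have hb := comm_support g t S S htS (hSsub t htS) hSΔ
      omega
  · have h1 : (S.filter (fun x => g x ∉ S)).card = 1 := by omega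
    obtain ⟨y, hy⟩ := Finset.card_eq_one.mp h1
    have hyS : y ∈ S.filter (fun x => g x ∉ S) := by rw [hy]; exact Finset.mem_singleton_self _
    rw [Finset.mem_filter] at hyS
    have hδΔ : g y ∈ g.support := hΔ y (hSΔ hyS.1)
    have hsd : (g.support \ S).card = g.support.card - S.card := Finset.card_sdiff_of_subset hSΔ
    by_cases h2 : 2 ≤ (g.support \ S).card
    · obtain ⟨δ', hδ', hne⟩ := Finset.exists_mem_ne (by omega : 1 < (g.support \ S).card) (g y)
      rw [Finset.mem_sdiff] at hδ'
      obtain ⟨t, htG, htS, htδ⟩ := exists_fixing G hkn hG S (by omega) hyS.2 hδ'.2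
      refine ⟨g⁻¹ * (t * g * t⁻¹), hcS t htG, ?_, ?_⟩
      · intro h1'
        have h2' : (g⁻¹ * (t * g * t⁻¹)) y = y := by rw [h1']; rfl
        rw [Equiv.Perm.mul_apply, Equiv.Perm.inv_eq_iff_eq, Equiv.Perm.mul_apply,
          Equiv.Perm.mul_apply] at h2'
        have h3 : t⁻¹ y = y := by
          rw [Equiv.Perm.inv_eq_iff_eq]
          exact (htS y hyS.1).symm
        rw [h3, htδ] at h2'
        exact hne h2'
      · have hT : insert δ' S ⊆ g.support ∩ (t * g * t⁻¹).support := by
          intro x hx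
          rw [Finset.mem_insert] at hx
          rcases hx with rfl | hx
          · rw [Finset.mem_inter]
            refine ⟨hδ'.1, ?_⟩
            have := conj_mem_support g t hδΔ
            rwa [htδ] at this
          · exact hSsub t htS hx
        have hb := comm_support g t S (insert δ' S) htS hT hSΔ
        rw [Finset.card_insert_of_notMem hδ'.2] at hb
        omega
    · obtain ⟨t, htG, htS, htδ⟩ := exists_fixing G hkn hG S (by omega) hyS.2 hεS
      refine ⟨g⁻¹ * (t * g * t⁻¹), hcS t htG, ?_, ?_⟩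
      · intro h1'
        have h2' : (g⁻¹ * (t * g * t⁻¹)) y = y := by rw [h1']; rfl
        rw [Equiv.Perm.mul_apply, Equiv.Perm.inv_eq_iff_eq, Equiv.Perm.mul_apply,
          Equiv.Perm.mul_apply] at h2'
        have h3 : t⁻¹ y = y := by
          rw [Equiv.Perm.inv_eq_iff_eq]
          exact (htS y hyS.1).symm
        rw [h3, htδ] at h2'
        apply hε
        rw [h2']
        exact hδΔ
      · have hb := comm_support g t S S htS (hSsub t htS) hSΔ
        omega

theorem exists_small {α : Type*} [Fintype α] [DecidableEq α] (G : Subgroup (Equiv.Perm α)) {k : ℕ}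
    (hk : 3 ≤ k) (hkn : k ≤ Fintype.card α) (hG : MulAction.IsMultiplyPretransitive G α k) :
    ∀ m : ℕ, ∀ g : Equiv.Perm α, g ∈ G → g ≠ 1 → g.support.card = m → m < 2 * k - 2 →
      ∃ h : Equiv.Perm α, h ∈ G ∧ h ≠ 1 ∧ h.support.card ≤ 3 := by
  intro m
  induction m using Nat.strong_induction_on with
  | _ m ih =>
    intro g hg hg1 hgm hm
    by_cases h3 : m ≤ 3
    · exact ⟨g, hg, hg1, by omega⟩
    by_cases hn : g.support.card < Fintype.card α
    · obtain ⟨c, hc, hc1, hcm⟩ := step G hkn hG g hg (by omega) (by omega) hn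
      exact ih c.support.card (by omega) c hc hc1 rfl (by omega)
    · have hle : g.support.card ≤ Fintype.card α := by
        rw [← Finset.card_univ]
        exact Finset.card_le_card (Finset.subset_univ _)
      have h3α : 2 < Fintype.card α := by omega
      obtain ⟨a, b, c, hab, hac, hbc⟩ := Fintype.two_lt_card_iff.mp h3α
      obtain ⟨t, htG, htS, htb⟩ := exists_fixing G hkn hG {a} (by simp; omega)
        (δ := b) (ε := c) (by simpa using hab.symm) (by simpa using hac.symm)
      have ht1 : t ≠ 1 := by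
        intro h
        rw [h] at htb
        exact hbc htb
      have hta : a ∉ t.support := by
        rw [Equiv.Perm.notMem_support]
        exact htS a (Finset.mem_singleton_self a)
      have hlt : t.support.card < Fintype.card α := by
        rw [← Finset.card_univ]
        apply Finset.card_lt_card
        rw [Finset.ssubset_iff]
        exact ⟨a, hta, Finset.subset_univ _⟩
      exact ih t.support.card (by omega) t htG ht1 rfl (by omega)

theorem result {α : Type*} [Fintype α] [DecidableEq α] (G : Subgroup (Equiv.Perm α)) {k : ℕ} (hk : 3 ≤ k) (hkn : k ≤ Fintype.card α) (hG : MulAction.IsMultiplyPretransitive G α k) (g : Equiv.Perm α) (hg : g ∈ G) (hg1 : g ≠ 1) (hsupp : g.support.card < 2 * k - 2) : (∃ h : Equiv.Perm α, h ∈ G ∧ h ≠ 1 ∧ h.support.card ≤ 3) ∧ alternatingGroup α ≤ G := by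
  have hex := exists_small G hk hkn hG g.support.card g hg hg1 rfl hsupp
  refine ⟨hex, ?_⟩
  obtain ⟨h, hhG, hh1, hh3⟩ := hex
  have hc : Nat.card α = Fintype.card α := Nat.card_eq_fintype_card
  have h2 : MulAction.IsMultiplyPretransitive G α 2 :=
    MulAction.isMultiplyPretransitive_of_le (n := k) (by omega) (by omega)
  have hprim : MulAction.IsPreprimitive G α := MulAction.isPreprimitive_of_is_two_pretransitive h2
  have h0 : h.support.card ≠ 0 := by
    rw [Ne, Equiv.Perm.card_support_eq_zero]
    exact hh1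
  have h1 : h.support.card ≠ 1 := Equiv.Perm.card_support_ne_one h
  have h23 : h.support.card = 2 ∨ h.support.card = 3 := by omega
  rcases h23 with h2' | h3'
  · have := Equiv.Perm.subgroup_eq_top_of_isPreprimitive_of_isSwap_mem hprim h
      (Equiv.Perm.card_support_eq_two.mp h2') hhG
    rw [this]
    exact le_top
  · exact Equiv.Perm.alternatingGroup_le_of_isPreprimitive_of_isThreeCycle_mem hprim
      (_root_.card_support_eq_three_iff.mp h3') hhG

end Cfsg.Agent.S0711
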