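import Mathlib
import Cfsg.Statements.S0699
import Cfsg.Agent.S0698
import Cfsg.Agent.S0706
import Cfsg.Agent.S0711
import Cfsg.Agent.Lib.helper6.MultTrans

set_option autoImplicit false
open Cfsg

namespace Cfsg.Agent.S0699

section
variable {α : Type*} [Fintype α] [DecidableEq α]

theorem pretrans_of_map (G : Subgroup (Equiv.Perm α)) (N : Subgroup G) (k : ℕ)
    (h : MulAction.IsMultiplyPretransitive (N.map G.subtype) α k) :
    MulAction.IsMultiplyPretransitive N α k := by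
  constructor
  intro x y
  obtain ⟨n', hn'⟩ := h.exists_smul_eq x y
  obtain ⟨n, hn, hnn'⟩ := n'.2
  refine ⟨⟨n, hn⟩, ?_⟩
  rw [← hn']
  ext i
  show ((n : G) : Equiv.Perm α) (x i) = (n' : Equiv.Perm α) (x i)
  rw [← hnn']
  rfl

theorem two_trans_N (G : Subgroup (Equiv.Perm α)) (hodd : Odd (Fintype.card α))
    (h5 : 5 ≤ Fintype.card α) (hG : MulAction.IsMultiplyPretransitive G α 3) (N : Subgroup G)
    [N.Normal] (hN : N ≠ ⊥) : MulAction.IsMultiplyPretransitive N α 2 := by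
  have h1 := Cfsg.Agent.S0698.result G (k := 3) (by norm_num) (by omega) hG N hN
  rcases h1 with h1 | ⟨-, -, h1⟩
  · exact h1
  · exfalso
    have hc : Nat.card α = Fintype.card α := Nat.card_eq_fintype_card
    have hG2 : MulAction.IsMultiplyPretransitive G α 2 :=
      MulAction.isMultiplyPretransitive_of_le (n := 3) (by norm_num) (by omega)
    have h2 := Cfsg.Agent.S0698.result G (k := 2) (by norm_num) (by omega) hG2 N hN
    have htr : MulAction.IsPretransitive N α := by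
      rcases h2 with h2 | h2
      · exact MulAction.is_one_pretransitive_iff.mp h2
      · exact absurd h2.1 (by norm_num)
    have hpos : 0 < Fintype.card α := by omega
    obtain ⟨a⟩ := Fintype.card_pos_iff.mp hpos
    have h3 := MulAction.index_stabilizer_of_transitive N a
    have hdvd : Fintype.card α ∣ Nat.card N := by
      rw [← hc, ← h3]
      exact Subgroup.index_dvd_card _
    have hf2 : Fact (Nat.Prime 2) := ⟨Nat.prime_two⟩
    have hp : IsPGroup 2 N := by
      intro x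
      refine ⟨1, ?_⟩
      rw [pow_one]
      apply Subtype.ext
      rw [Subgroup.coe_pow]
      exact h1 x.1 x.2
    obtain ⟨k, hk⟩ := IsPGroup.iff_card.mp hp
    rw [hk] at hdvd
    obtain ⟨j, -, hj⟩ := (Nat.dvd_prime_pow Nat.prime_two).mp hdvd
    rcases Nat.eq_zero_or_pos j with h0 | h0
    · rw [h0, pow_zero] at hj
      omega
    · have heven : Even (Fintype.card α) := by
        rw [hj]
        exact (Nat.even_pow.mpr ⟨even_two, h0.ne'⟩)
      exact (Nat.not_even_iff_odd.mpr hodd) heven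

theorem odd_pow_swap (t : Equiv.Perm α) {a b : α} (hta : t a = b) (htb : t b = a) (i : ℕ) :
    (t ^ (2 * i + 1)) a = b ∧ (t ^ (2 * i + 1)) b = a := by
  induction i with
  | zero => simp [hta, htb]
  | succ i ih =>
    have e : 2 * (i + 1) + 1 = (2 * i + 1) + 1 + 1 := by ring
    have h1 : ∀ x : α, (t ^ ((2 * i + 1) + 1 + 1)) x = (t ^ (2 * i + 1)) (t (t x)) := by
      intro x
      rw [pow_succ, pow_succ, Equiv.Perm.mul_apply, Equiv.Perm.mul_apply]
    rw [e]
    constructor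
    · rw [h1 a, hta, htb]
      exact ih.1
    · rw [h1 b, htb, hta]
      exact ih.2

theorem swap_fix (G : Subgroup (Equiv.Perm α)) (hodd : Odd (Fintype.card α))
    (h5 : 5 ≤ Fintype.card α) (hG : MulAction.IsMultiplyPretransitive G α 3) (N : Subgroup G)
    [N.Normal] (h2N : MulAction.IsMultiplyPretransitive N α 2) {a b c : α} (hab : a ≠ b)
    (hac : a ≠ c) (hbc : b ≠ c) :
    ∃ u ∈ N.map G.subtype, u a = b ∧ u b = a ∧ u c = c := by
  have hf2 : Fact (Nat.Prime 2) := ⟨Nat.prime_two⟩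
  have h2' : ∀ (a b c d : α), a ≠ b → c ≠ d → ∃ g : N, g • a = c ∧ g • b = d := by
    intro a b c d hab hcd
    exact (MulAction.is_two_pretransitive_iff.mp h2N) hab hcd
  obtain ⟨t, hta, htb⟩ := h2' a b b a hab hab.symm
  have hta' : ((t : G) : Equiv.Perm α) a = b := hta
  have htb' : ((t : G) : Equiv.Perm α) b = a := htb
  obtain ⟨j, m, hm, hjm⟩ := Nat.exists_eq_two_pow_mul_odd
    (orderOf_pos ((t : G) : Equiv.Perm α)).ne'
  obtain ⟨i, hi⟩ := hm
  have hw := odd_pow_swap ((t : G) : Equiv.Perm α) hta' htb' i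
  rw [← hi] at hw
  have hmpos : 0 < m := by omega
  have hordw : orderOf (((t : G) : Equiv.Perm α) ^ m) = 2 ^ j := by
    rw [orderOf_pow_of_dvd hmpos.ne' (Dvd.intro_left _ hjm.symm), hjm,
      Nat.mul_div_cancel _ hmpos]
  have hp : IsPGroup 2 (Subgroup.zpowers (((t : G) : Equiv.Perm α) ^ m)) := by
    apply IsPGroup.of_card (n := j)
    rw [Nat.card_zpowers, hordw]
  have hnd : ¬ 2 ∣ Nat.card α := by
    rw [Nat.card_eq_fintype_card]
    intro h
    exact (Nat.not_even_iff_odd.mpr hodd) (even_iff_two_dvd.mpr h)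
  obtain ⟨c₀, hc₀⟩ := hp.nonempty_fixed_point_of_prime_not_dvd_card α hnd
  have hwc₀ : (((t : G) : Equiv.Perm α) ^ m) c₀ = c₀ :=
    hc₀ ⟨_, Subgroup.mem_zpowers _⟩
  have hc₀a : c₀ ≠ a := by
    intro h
    rw [h, hw.1] at hwc₀
    exact hab hwc₀.symm
  have hc₀b : c₀ ≠ b := by
    intro h
    rw [h, hw.2] at hwc₀
    exact hab hwc₀
  obtain ⟨g, hgG, hgS, hgc⟩ := Cfsg.Agent.S0711.exists_fixing G (k := 3) (by omega) hG
    ({a, b} : Finset α) (by
      have := Finset.card_le_two (a := a) (b := b)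
      omega) (δ := c₀) (ε := c)
    (by simp [hc₀a, hc₀b]) (by simp [hac.symm, hbc.symm])
  have hga : g a = a := hgS a (by simp)
  have hgb : g b = b := hgS b (by simp)
  have hginv : ∀ x y : α, g x = y → g⁻¹ y = x := by
    intro x y h
    rw [Equiv.Perm.inv_eq_iff_eq]
    exact h.symm
  refine ⟨g * (((t : G) : Equiv.Perm α) ^ m) * g⁻¹, ?_, ?_, ?_, ?_⟩
  · refine ⟨(⟨g, hgG⟩ : G) * ((t : G) ^ m) * (⟨g, hgG⟩ : G)⁻¹, ?_, ?_⟩
    · apply Subgroup.Normal.conj_mem inferInstance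
      exact N.pow_mem t.2 m
    · rfl
  · rw [Equiv.Perm.mul_apply, Equiv.Perm.mul_apply, hginv a a hga, hw.1, hgb]
  · rw [Equiv.Perm.mul_apply, Equiv.Perm.mul_apply, hginv b b hgb, hw.2, hga]
  · rw [Equiv.Perm.mul_apply, Equiv.Perm.mul_apply, hginv c₀ c hgc, hwc₀, hgc]

theorem generous (N' : Subgroup (Equiv.Perm α))
    (hsw : ∀ a b c : α, a ≠ b → a ≠ c → b ≠ c → ∃ u ∈ N', u a = b ∧ u b = a ∧ u c = c) :
    ∀ s : Finset α, s.card = 2 + 1 → ∀ σ : Equiv.Perm ↥s,
      ∃ g ∈ N', ∀ x : ↥s, g (x : α) = σ x := by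
  intro s hs σ
  induction σ using Equiv.Perm.swap_induction_on with
  | one => exact ⟨1, N'.one_mem, fun x => rfl⟩
  | swap_mul f x y hxy ih =>
    obtain ⟨g, hg, hgf⟩ := ih
    have hxy' : (x : α) ≠ (y : α) := fun h => hxy (Subtype.ext h)
    have hc1 : ((s.erase (x : α)).erase (y : α)).card = 1 := by
      rw [Finset.card_erase_of_mem, Finset.card_erase_of_mem x.2, hs]
      exact Finset.mem_erase.mpr ⟨hxy'.symm, y.2⟩
    obtain ⟨z, hz⟩ := Finset.card_eq_one.mp hc1
    have hzmem : z ∈ (s.erase (x : α)).erase (y : α) := by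
      rw [hz]
      exact Finset.mem_singleton_self z
    rw [Finset.mem_erase, Finset.mem_erase] at hzmem
    obtain ⟨hzy, hzx, hzs⟩ := hzmem
    have hthird : ∀ w ∈ s, w ≠ (x : α) → w ≠ (y : α) → w = z := by
      intro w hw hwx hwy
      have : w ∈ (s.erase (x : α)).erase (y : α) :=
        Finset.mem_erase.mpr ⟨hwy, Finset.mem_erase.mpr ⟨hwx, hw⟩⟩
      rw [hz, Finset.mem_singleton] at this
      exact this
    obtain ⟨u, hu, hux, huy, huz⟩ := hsw (x : α) (y : α) z hxy' hzx.symm hzy.symm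
    refine ⟨u * g, N'.mul_mem hu hg, ?_⟩
    intro w
    rw [Equiv.Perm.mul_apply, hgf w, Equiv.Perm.mul_apply]
    by_cases h1 : f w = x
    · rw [h1, Equiv.swap_apply_left]
      exact hux
    by_cases h2 : f w = y
    · rw [h2, Equiv.swap_apply_right]
      exact huy
    rw [Equiv.swap_apply_of_ne_of_ne h1 h2]
    have h3 := hthird (f w : α) (f w).2 (fun h => h1 (Subtype.ext h)) (fun h => h2 (Subtype.ext h))
    rw [h3]
    exact huz

theorem orbit_card_le (G N' : Subgroup (Equiv.Perm α))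
    (hnorm : ∀ g ∈ G, ∀ n ∈ N', g⁻¹ * n * g ∈ N') (Γ : Finset α) (g : Equiv.Perm α) (hg : g ∈ G)
    (hgΓ : ∀ x ∈ Γ, g x = x) (x : α) :
    Nat.card (MulAction.orbit (fixingSubgroup N' (Γ : Set α)) (g x)) ≤
      Nat.card (MulAction.orbit (fixingSubgroup N' (Γ : Set α)) x) := by
  have hmem : ∀ y : MulAction.orbit (fixingSubgroup N' (Γ : Set α)) (g x),
      g⁻¹ (y : α) ∈ MulAction.orbit (fixingSubgroup N' (Γ : Set α)) x := by
    intro y
    have hy := y.2
    rw [Cfsg.Agent.S0706.mem_orbit_iff] at hy ⊢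
    obtain ⟨h, hh, hhy⟩ := hy
    rw [Cfsg.Agent.S0706.mem_fixG] at hh
    refine ⟨g⁻¹ * h * g, ?_, ?_⟩
    · rw [Cfsg.Agent.S0706.mem_fixG]
      refine ⟨hnorm g hg h hh.1, ?_⟩
      intro z hz
      rw [Equiv.Perm.mul_apply, Equiv.Perm.mul_apply, hgΓ z hz, hh.2 z hz,
        Equiv.Perm.inv_eq_iff_eq, hgΓ z hz]
    · rw [Equiv.Perm.mul_apply, Equiv.Perm.mul_apply, hhy]
  apply Nat.card_le_card_of_injective
    (fun y : MulAction.orbit (fixingSubgroup N' (Γ : Set α)) (g x) =>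
      (⟨g⁻¹ (y : α), hmem y⟩ : MulAction.orbit (fixingSubgroup N' (Γ : Set α)) x))
  intro y1 y2 h12
  have h1 : g⁻¹ (y1 : α) = g⁻¹ (y2 : α) := congrArg Subtype.val h12
  exact Subtype.ext (g⁻¹.injective h1)

theorem exists_odd_orbit (N' : Subgroup (Equiv.Perm α)) (hodd : Odd (Fintype.card α))
    (Γ : Finset α) (hΓ : Γ.card = 2) :
    ∃ c : α, c ∉ Γ ∧ ¬ 2 ∣ Nat.card (MulAction.orbit (fixingSubgroup N' (Γ : Set α)) c) := by
  have hf2 : Fact (Nat.Prime 2) := ⟨Nat.prime_two⟩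
  obtain ⟨T⟩ : Nonempty (Sylow 2 (fixingSubgroup N' (Γ : Set α))) := inferInstance
  have hTfix : ∀ q : (T : Subgroup (fixingSubgroup N' (Γ : Set α))), ∀ x ∈ Γ,
      (((q : fixingSubgroup N' (Γ : Set α)) : N') : Equiv.Perm α) x = x := by
    intro q x hx
    exact (mem_fixingSubgroup_iff N').mp (q : fixingSubgroup N' (Γ : Set α)).2 x
      (by exact_mod_cast hx)
  let hact : MulAction (T : Subgroup (fixingSubgroup N' (Γ : Set α))) {x : α // x ∉ Γ} :=
    { smul := fun q x => ⟨(((q : fixingSubgroup N' (Γ : Set α)) : N') : Equiv.Perm α) x.1, by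
        intro hmem
        apply x.2
        have h1 := hTfix q _ hmem
        have h2 := (((q : fixingSubgroup N' (Γ : Set α)) : N') : Equiv.Perm α).injective h1
        rw [← h2]
        exact hmem⟩
      one_smul := fun x => Subtype.ext rfl
      mul_smul := fun q q' x => Subtype.ext rfl }
  have hcard : Nat.card {x : α // x ∉ Γ} = Fintype.card α - 2 := by
    rw [Nat.card_eq_fintype_card, Fintype.card_subtype_compl, Fintype.card_coe, hΓ]
  have hnd : ¬ 2 ∣ Nat.card {x : α // x ∉ Γ} := by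
    rw [hcard]
    obtain ⟨i, hi⟩ := hodd
    have hcΓ : Γ.card ≤ Fintype.card α := Finset.card_le_univ Γ
    omega
  obtain ⟨c, hc⟩ := T.2.nonempty_fixed_point_of_prime_not_dvd_card {x : α // x ∉ Γ} hnd
  refine ⟨c.1, c.2, ?_⟩
  have hle : (T : Subgroup (fixingSubgroup N' (Γ : Set α))) ≤
      MulAction.stabilizer (fixingSubgroup N' (Γ : Set α)) c.1 := by
    intro q hq
    rw [MulAction.mem_stabilizer_iff]
    have := hc ⟨q, hq⟩
    exact congrArg Subtype.val this
  have h1 := Subgroup.index_dvd_of_le hle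
  have h2 : ¬ 2 ∣ (T : Subgroup (fixingSubgroup N' (Γ : Set α))).index := T.not_dvd_index
  rw [MulAction.index_stabilizer, ← _root_.Nat.card_coe_set_eq] at h1
  intro h3
  exact h2 (h3.trans h1)


theorem pretrans_map (G : Subgroup (Equiv.Perm α)) (N : Subgroup G) (k : ℕ)
    (h : MulAction.IsMultiplyPretransitive N α k) :
    MulAction.IsMultiplyPretransitive (N.map G.subtype) α k := by
  constructor
  intro x y
  obtain ⟨n, hn⟩ := h.exists_smul_eq x y
  refine ⟨⟨((n : G) : Equiv.Perm α), Subgroup.mem_map_of_mem _ n.2⟩, ?_⟩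
  rw [← hn]
  ext i
  rfl

theorem fix_trans (G : Subgroup (Equiv.Perm α)) (hodd : Odd (Fintype.card α))
    (h5 : 5 ≤ Fintype.card α) (hG : MulAction.IsMultiplyPretransitive G α 3) (N : Subgroup G)
    [N.Normal] (h2N : MulAction.IsMultiplyPretransitive N α 2) {a b : α} (hab : a ≠ b)
    {c c' : α} (hca : c ≠ a) (hcb : c ≠ b) (hc'a : c' ≠ a) (hc'b : c' ≠ b) :
    ∃ h ∈ N.map G.subtype, h a = a ∧ h b = b ∧ h c = c' := by
  have hnorm : ∀ g ∈ G, ∀ n ∈ N.map G.subtype, g⁻¹ * n * g ∈ N.map G.subtype := by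
    rintro g hg _ ⟨n, hn, rfl⟩
    refine ⟨(⟨g, hg⟩ : G)⁻¹ * n * (⟨g, hg⟩ : G), ?_, rfl⟩
    have := Subgroup.Normal.conj_mem (inferInstance : N.Normal) n hn (⟨g, hg⟩ : G)⁻¹
    rwa [inv_inv] at this
  have hgen := generous (N.map G.subtype)
    (fun a b c hab hac hbc => swap_fix G hodd h5 hG N h2N hab hac hbc)
  have hΓ : ({a, b} : Finset α).card = 2 := Finset.card_pair hab
  obtain ⟨c₁, hc₁Γ, hc₁odd⟩ := exists_odd_orbit (N.map G.subtype) hodd ({a, b} : Finset α) hΓ
  have key : ∀ x : α, x ∉ ({a, b} : Finset α) →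
      x ∈ MulAction.orbit (fixingSubgroup (N.map G.subtype) (({a, b} : Finset α) : Set α)) c₁ := by
    intro x hxΓ
    by_contra hx
    obtain ⟨g, hgG, hgS, hgx⟩ := Cfsg.Agent.S0711.exists_fixing G (k := 3) (by omega) hG
      ({a, b} : Finset α) (by omega) (δ := c₁) (ε := x) hc₁Γ hxΓ
    have hginvS : ∀ z ∈ ({a, b} : Finset α), g⁻¹ z = z := by
      intro z hz
      rw [Equiv.Perm.inv_eq_iff_eq]
      exact (hgS z hz).symm
    have hle1 := orbit_card_le G (N.map G.subtype) hnorm ({a, b} : Finset α) g hgG hgS c₁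
    have hle2 := orbit_card_le G (N.map G.subtype) hnorm ({a, b} : Finset α) g⁻¹
      (G.inv_mem hgG) hginvS x
    have hgx' : g⁻¹ x = c₁ := by
      rw [Equiv.Perm.inv_eq_iff_eq]
      exact hgx.symm
    rw [hgx] at hle1
    rw [hgx'] at hle2
    have heq := le_antisymm hle1 hle2
    have hf : ∀ i : Fin 2, (![c₁, x] : Fin 2 → α) i ∉ ({a, b} : Finset α) := by
      intro i
      fin_cases i
      · exact hc₁Γ
      · exact hxΓ
    have hdist : ∀ i j : Fin 2, i ≠ j → (![c₁, x] : Fin 2 → α) j ∉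
        MulAction.orbit (fixingSubgroup (N.map G.subtype) (({a, b} : Finset α) : Set α))
          ((![c₁, x] : Fin 2 → α) i) := by
      intro i j hij
      fin_cases i <;> fin_cases j
      · exact absurd rfl hij
      · exact hx
      · intro h
        apply hx
        rw [MulAction.mem_orbit_symm]
        exact h
      · exact absurd rfl hij
    obtain ⟨i, hi⟩ := Cfsg.Agent.S0706.result (N.map G.subtype) (k := 2) (by omega) hgen
      (p := 2) Nat.prime_two le_rfl ({a, b} : Finset α) hΓ ![c₁, x] hf hdist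
    fin_cases i
    · exact hc₁odd hi
    · apply hc₁odd
      rw [← heq]
      exact hi
  have hcΓ : c ∉ ({a, b} : Finset α) := by simp [hca, hcb]
  have hc'Γ : c' ∉ ({a, b} : Finset α) := by simp [hc'a, hc'b]
  have h1 := key c hcΓ
  have h2 := key c' hc'Γ
  rw [Cfsg.Agent.S0706.mem_orbit_iff] at h1 h2
  obtain ⟨k₁, hk₁, hk₁c⟩ := h1
  obtain ⟨k₂, hk₂, hk₂c⟩ := h2
  have hmem := (Cfsg.Agent.S0706.fixG (N.map G.subtype) ({a, b} : Finset α)).mul_mem hk₂
    ((Cfsg.Agent.S0706.fixG (N.map G.subtype) ({a, b} : Finset α)).inv_mem hk₁)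
  rw [Cfsg.Agent.S0706.mem_fixG] at hmem
  refine ⟨k₂ * k₁⁻¹, hmem.1, hmem.2 a (by simp), hmem.2 b (by simp), ?_⟩
  rw [Equiv.Perm.mul_apply]
  have : k₁⁻¹ c = c₁ := by
    rw [Equiv.Perm.inv_eq_iff_eq]
    exact hk₁c.symm
  rw [this, hk₂c]

end

theorem result {α : Type*} [Fintype α] [DecidableEq α] (G : Subgroup (Equiv.Perm α)) (hodd : Odd (Fintype.card α)) (h5 : 5 ≤ Fintype.card α) (hG : MulAction.IsMultiplyPretransitive G α 3) (N : Subgroup G) [N.Normal] (hN : N ≠ ⊥) : MulAction.IsMultiplyPretransitive N α 3 := by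
  have h2N := two_trans_N G hodd h5 hG N hN
  apply pretrans_of_map G N 3
  apply Cfsg.Agent.Lib.helper6.isMultiplyPretransitive_of_fixing (N.map G.subtype) 3
  intro Z hZ a b haZ hbZ
  by_cases hZ2 : Z.card = 2
  · by_cases hab : a = b
    · subst hab
      exact ⟨1, Subgroup.one_mem _, fun _ _ => rfl, rfl⟩
    obtain ⟨z₁, z₂, hz12, rfl⟩ := Finset.card_eq_two.mp hZ2
    simp only [Finset.mem_insert, Finset.mem_singleton, not_or] at haZ hbZ
    obtain ⟨h, hh, h1, h2, h3⟩ := fix_trans G hodd h5 hG N h2N hz12 haZ.1 haZ.2 hbZ.1 hbZ.2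
    refine ⟨h, hh, ?_, h3⟩
    intro z hz
    simp only [Finset.mem_insert, Finset.mem_singleton] at hz
    rcases hz with rfl | rfl
    · exact h1
    · exact h2
  · exact Cfsg.Agent.S0711.exists_fixing (N.map G.subtype) (k := 2) (by omega)
      (pretrans_map G N 2 h2N) Z (by omega) haZ hbZ

end Cfsg.Agent.S0699
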