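import Cfsg.Statements.S2302

set_option autoImplicit false
open Cfsg

namespace Cfsg.Agent.S2302

section
variable {F : Type*} [Field F]

theorem mat2_congr (p q r s p' q' r' s' : F) (h1 : p = p') (h2 : q = q') (h3 : r = r') (h4 : s = s') :
    (!![p, q; r, s] : Matrix (Fin 2) (Fin 2) F) = !![p', q'; r', s'] := by
  subst h1 h2 h3 h4; rfl

def Jsl (F : Type*) [Field F] : Matrix.SpecialLinearGroup (Fin 2) F :=
  ⟨!![1, 1; 0, 1], by simp [Matrix.det_fin_two]⟩

variable [CharP F 2]

theorem two_eq_zero' : (2 : F) = 0 := by exact_mod_cast CharP.cast_eq_zero F 2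

theorem sq_inj {x y : F} (h : x * x = y * y) : x = y := by
  have h2 : (2 : F) = 0 := two_eq_zero'
  have : (x - y) * (x - y) = 0 := by linear_combination h + (y * y - x * y) * h2
  exact sub_eq_zero.mp (mul_self_eq_zero.mp this)

variable [Fintype F]

theorem exists_sqrt (x : F) : ∃ y : F, y * y = x := by
  have hF : ringChar F = 2 := ringChar.eq F 2
  obtain ⟨y, hy⟩ := FiniteField.isSquare_of_char_two hF x
  exact ⟨y, hy.symm⟩

noncomputable def sq2 (x : F) : F := Classical.choose (exists_sqrt x)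

theorem sq2_mul_self (x : F) : sq2 x * sq2 x = x := Classical.choose_spec (exists_sqrt x)

theorem invol_eqs (g : Matrix.SpecialLinearGroup (Fin 2) F) (hg : orderOf g = 2) :
    ((g : Matrix (Fin 2) (Fin 2) F) 0 0 = (g : Matrix (Fin 2) (Fin 2) F) 1 1) ∧
    (((g : Matrix (Fin 2) (Fin 2) F) 0 0 + 1) * ((g : Matrix (Fin 2) (Fin 2) F) 0 0 + 1) =
      (g : Matrix (Fin 2) (Fin 2) F) 0 1 * (g : Matrix (Fin 2) (Fin 2) F) 1 0) ∧
    ¬ ((g : Matrix (Fin 2) (Fin 2) F) 0 1 = 0 ∧ (g : Matrix (Fin 2) (Fin 2) F) 1 0 = 0) := by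
  have h2 : (2 : F) = 0 := two_eq_zero'
  set M : Matrix (Fin 2) (Fin 2) F := (g : Matrix (Fin 2) (Fin 2) F) with hM
  have hg2 : g ^ 2 = 1 := by
    have := pow_orderOf_eq_one g
    rwa [hg] at this
  have hM2 : M * M = 1 := by
    have := congrArg (fun x : Matrix.SpecialLinearGroup (Fin 2) F => (x : Matrix (Fin 2) (Fin 2) F)) hg2
    simpa [pow_two] using this
  have hg1 : g ≠ 1 := by
    intro h
    rw [h, orderOf_one] at hg
    omega
  have hM1 : M ≠ 1 := by
    intro h
    apply hg1
    exact Subtype.ext h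
  set a := M 0 0 with ha
  set b := M 0 1 with hb
  set c := M 1 0 with hc
  set d := M 1 1 with hd
  have hMeta : M = !![a, b; c, d] := Matrix.eta_fin_two M
  rw [hMeta, Matrix.mul_fin_two, Matrix.one_fin_two] at hM2
  have e00 : a * a + b * c = 1 := by
    have := congrFun (congrFun hM2 0) 0
    simpa using this
  have e01 : a * b + b * d = 0 := by
    have := congrFun (congrFun hM2 0) 1
    simpa using this
  have e10 : c * a + d * c = 0 := by
    have := congrFun (congrFun hM2 1) 0
    simpa using this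
  have e11 : c * b + d * d = 1 := by
    have := congrFun (congrFun hM2 1) 1
    simpa using this
  have hbc : ¬ (b = 0 ∧ c = 0) := by
    rintro ⟨hb0, hc0⟩
    apply hM1
    have ha1 : a = 1 := by
      have : (a - 1) * (a - 1) = 0 := by
        rw [hb0] at e00
        linear_combination e00 + (1 - a) * h2
      exact sub_eq_zero.mp (mul_self_eq_zero.mp this)
    have hd1 : d = 1 := by
      have : (d - 1) * (d - 1) = 0 := by
        rw [hb0] at e11
        linear_combination e11 + (1 - d) * h2
      exact sub_eq_zero.mp (mul_self_eq_zero.mp this)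
    rw [hMeta, ha1, hd1, hb0, hc0]
    exact Matrix.one_fin_two.symm
  have had : a = d := by
    by_cases hb0 : b = 0
    · have hc0 : c ≠ 0 := fun h => hbc ⟨hb0, h⟩
      have : c * (a + d) = 0 := by linear_combination e10
      rcases mul_eq_zero.mp this with h | h
      · exact absurd h hc0
      · linear_combination h - d * h2
    · have : b * (a + d) = 0 := by linear_combination e01
      rcases mul_eq_zero.mp this with h | h
      · exact absurd h hb0
      · linear_combination h - d * h2
  refine ⟨had, ?_, hbc⟩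
  linear_combination e00 + (a + 1 - b * c) * h2

theorem conj_J (g : Matrix.SpecialLinearGroup (Fin 2) F) (hg : orderOf g = 2) : IsConj (Jsl F) g := by
  have h2 : (2 : F) = 0 := two_eq_zero'
  obtain ⟨had, hsq, hbc⟩ := invol_eqs g hg
  set M : Matrix (Fin 2) (Fin 2) F := (g : Matrix (Fin 2) (Fin 2) F) with hM
  set a := M 0 0 with ha
  set b := M 0 1 with hb
  set c := M 1 0 with hc
  set d := M 1 1 with hd
  have hMeta : M = !![a, b; c, d] := Matrix.eta_fin_two M
  rw [isConj_iff]
  by_cases hc0 : c = 0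
  · have hb0 : b ≠ 0 := fun h => hbc ⟨h, hc0⟩
    have ha1 : a = 1 := by
      rw [hc0, mul_zero] at hsq
      have := mul_self_eq_zero.mp hsq
      linear_combination this - h2
    obtain ⟨x, hx⟩ := exists_sqrt (b⁻¹)
    have hxb : x * x * b = 1 := by rw [hx]; exact inv_mul_cancel₀ hb0
    let P : Matrix.SpecialLinearGroup (Fin 2) F :=
      ⟨!![x * b, 0; 0, x], by rw [Matrix.det_fin_two_of]; linear_combination hxb⟩
    refine ⟨P, ?_⟩
    rw [mul_inv_eq_iff_eq_mul]
    apply Subtype.ext
    show (!![x * b, 0; 0, x] : Matrix (Fin 2) (Fin 2) F) * !![1, 1; 0, 1] = M * !![x * b, 0; 0, x]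
    rw [hMeta, ← had, ha1, hc0, Matrix.mul_fin_two, Matrix.mul_fin_two]
    apply mat2_congr <;> ring
  · obtain ⟨x, hx⟩ := exists_sqrt (c⁻¹)
    have hxc : x * x * c = 1 := by rw [hx]; exact inv_mul_cancel₀ hc0
    let P : Matrix.SpecialLinearGroup (Fin 2) F :=
      ⟨!![x * (a + 1), x; x * c, 0], by rw [Matrix.det_fin_two_of]; linear_combination (-1 : F) * hxc - h2⟩
    refine ⟨P, ?_⟩
    rw [mul_inv_eq_iff_eq_mul]
    apply Subtype.ext
    show (!![x * (a + 1), x; x * c, 0] : Matrix (Fin 2) (Fin 2) F) * !![1, 1; 0, 1] = M * !![x * (a + 1), x; x * c, 0]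
    rw [hMeta, ← had, Matrix.mul_fin_two, Matrix.mul_fin_two]
    apply mat2_congr
    · linear_combination x * hsq - (x * (a * a + a)) * h2
    · linear_combination x * h2
    · linear_combination (-(a * c * x)) * h2
    · ring

noncomputable def mkInv (b c : F) : Matrix.SpecialLinearGroup (Fin 2) F :=
  ⟨!![1 + sq2 (b * c), b; c, 1 + sq2 (b * c)], by
    have h2 : (2 : F) = 0 := two_eq_zero'
    rw [Matrix.det_fin_two_of]
    linear_combination sq2_mul_self (b * c) + (sq2 (b * c)) * h2⟩

theorem mkInv_order (b c : F) (hbc : ¬ (b = 0 ∧ c = 0)) : orderOf (mkInv b c) = 2 := by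
  have h2 : (2 : F) = 0 := two_eq_zero'
  have : Fact (Nat.Prime 2) := ⟨Nat.prime_two⟩
  apply orderOf_eq_prime
  · apply Subtype.ext
    rw [Matrix.SpecialLinearGroup.coe_pow, pow_two]
    show (!![1 + sq2 (b * c), b; c, 1 + sq2 (b * c)] : Matrix (Fin 2) (Fin 2) F) * !![1 + sq2 (b * c), b; c, 1 + sq2 (b * c)] = 1
    rw [Matrix.mul_fin_two, Matrix.one_fin_two]
    apply mat2_congr
    · linear_combination sq2_mul_self (b * c) + (sq2 (b * c) + b * c) * h2
    · linear_combination (b * (1 + sq2 (b * c))) * h2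
    · linear_combination (c * (1 + sq2 (b * c))) * h2
    · linear_combination sq2_mul_self (b * c) + (sq2 (b * c) + b * c) * h2
  · intro h
    have h' := congrArg (fun x : Matrix.SpecialLinearGroup (Fin 2) F => (x : Matrix (Fin 2) (Fin 2) F)) h
    have hb : b = 0 := by
      have := congrFun (congrFun h' 0) 1
      simpa [mkInv] using this
    have hc : c = 0 := by
      have := congrFun (congrFun h' 1) 0
      simpa [mkInv] using this
    exact hbc ⟨hb, hc⟩

noncomputable def invEquiv :
    {h : Matrix.SpecialLinearGroup (Fin 2) F // orderOf h = 2} ≃ {bc : F × F // bc ≠ 0} where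
  toFun h := ⟨((h.1 : Matrix (Fin 2) (Fin 2) F) 0 1, (h.1 : Matrix (Fin 2) (Fin 2) F) 1 0), by
    intro h0
    have := (invol_eqs h.1 h.2).2.2
    apply this
    exact ⟨congrArg Prod.fst h0, congrArg Prod.snd h0⟩⟩
  invFun bc := ⟨mkInv bc.1.1 bc.1.2, mkInv_order bc.1.1 bc.1.2 (by
    rintro ⟨h1, h2⟩
    apply bc.2
    exact Prod.ext h1 h2)⟩
  left_inv h := by
    have h2 : (2 : F) = 0 := two_eq_zero'
    obtain ⟨had, hsq, hbc⟩ := invol_eqs h.1 h.2
    apply Subtype.ext
    apply Subtype.ext
    set M : Matrix (Fin 2) (Fin 2) F := (h.1 : Matrix (Fin 2) (Fin 2) F) with hM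
    have hMeta : M = !![M 0 0, M 0 1; M 1 0, M 1 1] := Matrix.eta_fin_two M
    have hs : M 0 0 + 1 = sq2 (M 0 1 * M 1 0) := by
      apply sq_inj
      rw [sq2_mul_self]
      exact hsq
    show (!![1 + sq2 (M 0 1 * M 1 0), M 0 1; M 1 0, 1 + sq2 (M 0 1 * M 1 0)] : Matrix (Fin 2) (Fin 2) F) = M
    rw [hMeta]
    apply mat2_congr
    · simp only [Matrix.of_apply, Matrix.cons_val', Matrix.cons_val_zero, Matrix.cons_val_one]
      linear_combination (-1 : F) * hs + h2
    · rfl
    · rfl
    · simp only [Matrix.of_apply, Matrix.cons_val', Matrix.cons_val_zero, Matrix.cons_val_one]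
      linear_combination (-1 : F) * hs + h2 + had
  right_inv bc := by
    apply Subtype.ext
    apply Prod.ext
    · simp [mkInv]
    · simp [mkInv]

theorem card_invol : Nat.card {h : Matrix.SpecialLinearGroup (Fin 2) F // orderOf h = 2} = Fintype.card F ^ 2 - 1 := by
  classical
  rw [Nat.card_congr invEquiv, Nat.card_eq_fintype_card]
  have : Fintype.card {bc : F × F // bc ≠ 0} = Fintype.card (F × F) - Fintype.card {bc : F × F // bc = 0} :=
    Fintype.card_subtype_compl (fun bc : F × F => bc = 0)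
  rw [this, Fintype.card_subtype_eq, Fintype.card_prod, pow_two]

end

theorem result {F : Type*} [Field F] [Fintype F] [CharP F 2] (g h : Matrix.SpecialLinearGroup (Fin 2) F) (hg : orderOf g = 2) (hh : orderOf h = 2) :
    IsConj g h ∧ Nat.card (ConjClasses.mk g).carrier = Fintype.card F ^ 2 - 1 := by
  refine ⟨(conj_J g hg).symm.trans (conj_J h hh), ?_⟩
  have hset : (ConjClasses.mk g).carrier = {h : Matrix.SpecialLinearGroup (Fin 2) F | orderOf h = 2} := by
    ext k
    rw [ConjClasses.mem_carrier_iff_mk_eq, ConjClasses.mk_eq_mk_iff_isConj, Set.mem_ofPred_eq]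
    constructor
    · intro hc
      obtain ⟨c, hc⟩ := isConj_iff.mp hc
      rw [← hc] at hg
      have : orderOf (c * k * c⁻¹) = orderOf k := by
        rw [← MulAut.conj_apply]
        exact MulEquiv.orderOf_eq (MulAut.conj c) k
      rw [← this]; exact hg
    · intro hk
      exact (conj_J k hk).symm.trans (conj_J g hg)
  rw [hset]
  exact card_invol

end Cfsg.Agent.S2302
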