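import Mathlib
import Cfsg.Statements.S1095
import Cfsg.Agent.Lib.helper8.ChevN
import Cfsg.Agent.Lib.helper8.ChevTabNG2
import Cfsg.Agent.Lib.helper8.ChevTabNB2
import Cfsg.Agent.Lib.helper8.ChevTabND4
import Cfsg.Agent.Lib.helper8.ChevTabNF4
import Cfsg.Agent.Lib.helper8.ChevTabNE6
import Cfsg.Agent.Lib.helper8.ChevTabNE7
import Cfsg.Agent.Lib.helper8.ChevTabNE8

set_option autoImplicit false
open Cfsg

namespace Cfsg.Agent.S1095

open Cfsg.Lie Cfsg.Lie.ChevalleyDatum Cfsg.Agent.Lib.helper8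

theorem main {F : Type*} [Field F] (D : ChevalleyDatum) (i : ℕ) (hi : i < D.rank) (eta : List ℤ)
    (h : h8nChk D i eta = true ∧ h8etaChk D i eta = true) :
    ∃ η : ℕ → ℤ, (∀ s < D.nroots, η s = 1 ∨ η s = -1) ∧ η (D.simple i) = -1 ∧ η (D.neg (D.simple i)) = -1 ∧
      (∀ s < D.nroots, η s * η (D.reflectRoot i s) = (-1) ^ (D.cartan i s).natAbs ∧ η s * η (D.neg s) = 1) ∧
      D.nMat F (D.simple i) 1 = Matrix.of (fun (row col : D.Idx) =>
        Sum.elim
          (fun j' : Fin D.rank => Sum.elim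
            (fun j : Fin D.rank => (if j' = j then (1 : F) else 0) - (if (j' : ℕ) = i then ((D.cartan j (D.simple i) : ℤ) : F) else 0))
            (fun _ => (0 : F)) col)
          (fun s' : Fin D.nroots => Sum.elim
            (fun _ => (0 : F))
            (fun s : Fin D.nroots => if (s' : ℕ) = D.reflectRoot i s then ((η s : ℤ) : F) else 0) col)
          row) := by
  obtain ⟨e1, e2, e3, e4⟩ := h8eta_of_chk D i eta h.2
  exact ⟨fun s => eta.getD s 0, e1, e2, e3, e4, h8nMat_of_chk D i hi eta h.1⟩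

theorem result {F : Type*} [Field F] (D : Cfsg.Lie.ChevalleyDatum) (hD : D ∈ [Cfsg.Lie.chevG2, Cfsg.Lie.chevB2, Cfsg.Lie.chevD4, Cfsg.Lie.chevF4, Cfsg.Lie.chevE6, Cfsg.Lie.chevE7, Cfsg.Lie.chevE8]) (i : ℕ) (hi : i < D.rank) :
    ∃ η : ℕ → ℤ, (∀ s < D.nroots, η s = 1 ∨ η s = -1) ∧ η (D.simple i) = -1 ∧ η (D.neg (D.simple i)) = -1 ∧
      (∀ s < D.nroots, η s * η (D.reflectRoot i s) = (-1) ^ (D.cartan i s).natAbs ∧ η s * η (D.neg s) = 1) ∧
      D.nMat F (D.simple i) 1 = Matrix.of (fun (row col : D.Idx) =>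
        Sum.elim
          (fun j' : Fin D.rank => Sum.elim
            (fun j : Fin D.rank => (if j' = j then (1 : F) else 0) - (if (j' : ℕ) = i then ((D.cartan j (D.simple i) : ℤ) : F) else 0))
            (fun _ => (0 : F)) col)
          (fun s' : Fin D.nroots => Sum.elim
            (fun _ => (0 : F))
            (fun s : Fin D.nroots => if (s' : ℕ) = D.reflectRoot i s then ((η s : ℤ) : F) else 0) col)
          row) := by
  simp only [List.mem_cons, List.mem_nil_iff, or_false] at hD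
  rcases hD with rfl | rfl | rfl | rfl | rfl | rfl | rfl
  · exact main _ i hi _ (h8n_G2 i hi)
  · exact main _ i hi _ (h8n_B2 i hi)
  · exact main _ i hi _ (h8n_D4 i hi)
  · exact main _ i hi _ (h8n_F4 i hi)
  · exact main _ i hi _ (h8n_E6 i hi)
  · exact main _ i hi _ (h8n_E7 i hi)
  · exact main _ i hi _ (h8n_E8 i hi)

end Cfsg.Agent.S1095
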