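import Cfsg.Statements.S4448
import Cfsg.Agent.Lib.helper2.InvAbove4

set_option autoImplicit false
open Cfsg

namespace Cfsg.Agent.S4448

open Cfsg
open scoped ComplexConjugate
open Cfsg.Agent.Lib.helper2 Cfsg.Agent.Lib.helper7 Cfsg.Agent.Lib.Helper11 Cfsg.Agent.Lib.Helper25

theorem ia_over_trans {Γ : Type*} [Group Γ] (G M N : Subgroup Γ) [Fintype M] [Fintype N]
    (hMG : M ≤ G) (hNM : N ≤ M) (χ : G → ℂ) (hχ : Cfsg.IsCharacter G χ) (η : M → ℂ)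
    (hη : Cfsg.IsIrrCharacter M η) (θ : N → ℂ) (hθ : Cfsg.IsIrrCharacter N θ)
    (h1 : Cfsg.classInner (fun m : M => χ ⟨m, hMG m.2⟩) η ≠ 0)
    (h2 : Cfsg.classInner (fun n : N => η ⟨n, hNM n.2⟩) θ ≠ 0) :
    Cfsg.classInner (fun n : N => χ ⟨n, hMG (hNM n.2)⟩) θ ≠ 0 := by
  have hχM : Cfsg.IsCharacter M (fun m : M => χ ⟨m, hMG m.2⟩) :=
    isCharacter_comp_hom hχ (Subgroup.inclusion hMG)
  obtain ⟨Δ, hΔ, hsplit⟩ := h7_char_split hχM η hη h1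
  have hηN : Cfsg.IsCharacter N (fun n : N => η ⟨n, hNM n.2⟩) :=
    isCharacter_comp_hom (h7_irr_isCharacter hη) (Subgroup.inclusion hNM)
  have hΔN : Cfsg.IsCharacter N (fun n : N => Δ ⟨n, hNM n.2⟩) :=
    isCharacter_comp_hom hΔ (Subgroup.inclusion hNM)
  have e : (fun n : N => χ ⟨n, hMG (hNM n.2)⟩) =
      (fun n : N => η ⟨n, hNM n.2⟩) + (fun n : N => Δ ⟨n, hNM n.2⟩) := by
    funext n
    have := congrFun hsplit ⟨n, hNM n.2⟩
    simpa using this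
  rw [e, classInner_add_left]
  obtain ⟨m₁, hm₁⟩ := classInner_character_nat hηN (h7_irr_isCharacter hθ)
  obtain ⟨m₂, hm₂⟩ := classInner_character_nat hΔN (h7_irr_isCharacter hθ)
  rw [hm₁] at h2 ⊢
  rw [hm₂]
  have : m₁ ≠ 0 := by
    intro h
    apply h2
    rw [h]
    simp
  exact_mod_cast (by omega : m₁ + m₂ ≠ 0)

theorem ia_chain_step {Γ : Type*} [Group Γ] [Fintype Γ] (M0 M1 N S : Subgroup Γ) [Fintype N]
    (h10 : M1 ≤ M0) (hN1 : N ≤ M1) (hnormal : (M1.subgroupOf M0).Normal)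
    (hS0 : ∀ s ∈ S, ∀ g ∈ M0, s * g * s⁻¹ ∈ M0) (hS1 : ∀ s ∈ S, ∀ g ∈ M1, s * g * s⁻¹ ∈ M1)
    (hcop : (M1.relIndex M0).Coprime (Nat.card S))
    (hcomm : ∀ x y : M0, x * y * x⁻¹ * y⁻¹ ∈ M1.subgroupOf M0)
    (θ : Cfsg.IrrCharacter N) (η : Cfsg.IrrCharacter M1)
    (hη1 : Cfsg.classInner (fun x : N => (η : M1 → ℂ) ⟨x, hN1 x.2⟩) (θ : N → ℂ) ≠ 0)
    (hη2 : ∀ s ∈ S, ∀ g g' : M1, (g' : Γ) = s * g * s⁻¹ → (η : M1 → ℂ) g' = (η : M1 → ℂ) g) :
    ∃ χ : Cfsg.IrrCharacter M0,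
      Cfsg.classInner (fun x : N => (χ : M0 → ℂ) ⟨x, h10 (hN1 x.2)⟩) (θ : N → ℂ) ≠ 0 ∧
      (∀ s ∈ S, ∀ g g' : M0, (g' : Γ) = s * g * s⁻¹ → (χ : M0 → ℂ) g' = (χ : M0 → ℂ) g) := by
  classical
  haveI : Fintype M0 := Fintype.ofFinite _
  haveI : Fintype M1 := Fintype.ofFinite _
  haveI := hnormal
  obtain ⟨χ, hχ1, hχ2⟩ := ia_ab_step M0 S M1 hS0 h10 hS1 hcop hcomm η hη2
  refine ⟨χ, ?_, hχ2⟩
  have h := Cfsg.Agent.Lib.helper2.isCharacter_of_irr χ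
  exact ia_over_trans M0 M1 N h10 hN1 (χ : M0 → ℂ) h (η : M1 → ℂ) η.2
    (θ : N → ℂ) θ.2 hχ1 hη1



/-- Inside a finite group Γ let S normalise G and also normalise a normal subgroup N of G, with the order of S coprime to the index of N in G and G/N solvable. Then for every S-invariant irreducible character ϑ of N, the induced character ϑ^G has an S-invariant irreducible constituent. -/
theorem result {Γ : Type*} [Group Γ] [Fintype Γ] (G S N : Subgroup Γ) [Fintype G] [Fintype N] (hnorm : ∀ s ∈ S, ∀ g ∈ G, s * g * s⁻¹ ∈ G) (hNG : N ≤ G) [hNn : (N.subgroupOf G).Normal] (hNS : ∀ s ∈ S, ∀ n ∈ N, s * n * s⁻¹ ∈ N) (hcop : (N.relIndex G).Coprime (Nat.card S)) (hsolv : Group.IsSolvable (G ⧸ N.subgroupOf G)) (θ : Cfsg.IrrCharacter N) (hinv : (∀ s ∈ S, ∀ g g' : N, (g' : Γ) = s * g * s⁻¹ → (θ : N → ℂ) g' = (θ : N → ℂ) g)) : ∃ χ : Cfsg.IrrCharacter G, Cfsg.classInner (fun n : N => (χ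 : G → ℂ) ⟨n, hNG n.2⟩) (θ : N → ℂ) ≠ 0 ∧ (∀ s ∈ S, ∀ g g' : G, (g' : Γ) = s * g * s⁻¹ → (χ : G → ℂ) g' = (χ : G → ℂ) g) := by
  classical
  obtain ⟨n, hn⟩ := hsolv.solvable
  have hchain : ∀ k i : ℕ, i + k = n → ∃ η : Cfsg.IrrCharacter (iaM G N i),
      Cfsg.classInner (fun x : N => (η : iaM G N i → ℂ) ⟨x, iaM_ge G N hNG i x.2⟩)
        (θ : N → ℂ) ≠ 0 ∧
      (∀ s ∈ S, ∀ g g' : iaM G N i, (g' : Γ) = s * g * s⁻¹ →
        (η : iaM G N i → ℂ) g' = (η : iaM G N i → ℂ) g) := by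
    intro k
    induction k with
    | zero =>
      intro i hi
      have hi' : i = n := by omega
      subst hi'
      have hMN : iaM G N i = N := iaM_of_bot G N hNG i hn
      let ec : iaM G N i ≃* N := MulEquiv.subgroupCongr hMN
      refine ⟨⟨fun x => (θ : N → ℂ) (ec x), h7_isIrr_comp_equiv ec _ θ.2⟩, ?_, ?_⟩
      · simp only
        have : (fun x : N => (θ : N → ℂ) (ec ⟨x, iaM_ge G N hNG i x.2⟩)) = (θ : N → ℂ) := by
          funext x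
          exact congrArg (θ : N → ℂ) (Subtype.ext rfl)
        rw [this, h7_irr_norm θ.2]
        exact one_ne_zero
      · intro s hs g g' hgg'
        simp only
        exact hinv s hs (ec g) (ec g') hgg'
    | succ k ih =>
      intro i hi
      obtain ⟨η, hη1, hη2⟩ := ih (i + 1) (by omega)
      have hcop' : ((iaM G N (i + 1)).relIndex (iaM G N i)).Coprime (Nat.card S) :=
        Nat.Coprime.coprime_dvd_left (iaM_relIndex_dvd G N hNG i) hcop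
      exact ia_chain_step (iaM G N i) (iaM G N (i + 1)) N S (iaM_anti G N i)
        (iaM_ge G N hNG (i + 1)) (iaM_normal G N i) (iaM_inv G S N hnorm hNS i)
        (iaM_inv G S N hnorm hNS (i + 1)) hcop' (iaM_comm G N i) θ η hη1 hη2
  obtain ⟨η, hη1, hη2⟩ := hchain n 0 (by omega)
  have hM0 : G = iaM G N 0 := (iaM_zero G N).symm
  let ec : G ≃* iaM G N 0 := MulEquiv.subgroupCongr hM0
  refine ⟨⟨fun x => (η : iaM G N 0 → ℂ) (ec x), h7_isIrr_comp_equiv ec _ η.2⟩, ?_, ?_⟩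
  · simp only
    have : (fun x : N => (η : iaM G N 0 → ℂ) (ec ⟨x, hNG x.2⟩)) =
        fun x : N => (η : iaM G N 0 → ℂ) ⟨x, iaM_ge G N hNG 0 x.2⟩ := by
      funext x
      exact congrArg (η : iaM G N 0 → ℂ) (Subtype.ext rfl)
    rw [this]
    exact hη1
  · intro s hs g g' hgg'
    simp only
    exact hη2 s hs (ec g) (ec g') hgg'

end Cfsg.Agent.S4448
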