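import Cfsg.Statements.S0154
import Mathlib
import Cfsg.Prelude.Def_Characters
import Cfsg.Agent.Lib.Helper25.CharLinear

set_option autoImplicit false
open Cfsg

namespace Cfsg.Agent.S0154

open scoped ComplexConjugate

open Cfsg.Agent.Lib.Helper25

theorem linear_surj {G : Type*} [Group G] (φ : G →* ℂˣ) : ∃ χ : Cfsg.IrrCharacter G, ∀ g, (χ : G → ℂ) g = (φ g : ℂ) := by
  let ρ : Representation ℂ G (Fin 1 → ℂ) :=
    { toFun := fun g => ((φ g : ℂˣ) : ℂ) • LinearMap.id
      map_one' := by
        simp only [map_one, Units.val_one, one_smul]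
        rfl
      map_mul' := by
        intro a b
        simp only [map_mul, Units.val_mul, Module.End.mul_eq_comp, LinearMap.comp_smul,
          LinearMap.smul_comp, LinearMap.id_comp, smul_smul]
        rw [mul_comm] }
  have hirr : ρ.IsIrreducible := isIrreducible_of_finrank_eq_one ρ (by simp)
  refine ⟨⟨ρ.character, 1, ρ, hirr, rfl⟩, ?_⟩
  intro g
  show LinearMap.trace ℂ (Fin 1 → ℂ) (((φ g : ℂˣ) : ℂ) • LinearMap.id) = _
  rw [map_smul, LinearMap.trace_id]
  simp



/-- A finite group has exactly as many irreducible complex characters of degree 1 as the index of its commutator subgroup. -/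
theorem result {G : Type*} [Group G] [Finite G] : Nat.card {χ : Cfsg.IrrCharacter G // (χ : G → ℂ) 1 = 1} = (commutator G).index := by
  have h1 : Nat.card {χ : Cfsg.IrrCharacter G // (χ : G → ℂ) 1 = 1} = Nat.card (G →* ℂˣ) := by
    apply Nat.card_congr
    refine Equiv.ofBijective (fun χ => irrLinearHom χ.1 χ.2) ⟨?_, ?_⟩
    · intro χ ψ h
      apply Subtype.ext
      apply Subtype.ext
      funext g
      have := congrArg (fun f : G →* ℂˣ => ((f g : ℂˣ) : ℂ)) h
      simpa [irrLinearHom_apply] using this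
    · intro φ
      obtain ⟨χ, hχ⟩ := linear_surj φ
      have h1 : (χ : G → ℂ) 1 = 1 := by rw [hχ]; simp
      refine ⟨⟨χ, h1⟩, ?_⟩
      ext g
      rw [irrLinearHom_apply, hχ]
  have h2 : Nat.card (G →* ℂˣ) = Nat.card (Abelianization G →* ℂˣ) :=
    Nat.card_congr (Abelianization.lift (G := G) (A := ℂˣ))
  have : NeZero (Monoid.exponent (Abelianization G)) := ⟨Monoid.exponent_ne_zero_of_finite⟩
  have h3 := CommGroup.card_monoidHom_of_hasEnoughRootsOfUnity (Abelianization G) ℂ
  rw [h1, h2, h3]
  rfl

end Cfsg.Agent.S0154
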