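import Mathlib
import Cfsg.Statements.S3975

set_option autoImplicit false
open Cfsg

namespace Cfsg.Agent.S3975
open scoped Pointwise

lemma choose_pred_modEq_one (p : ℕ) [hp : Fact p.Prime] (β m : ℕ) (hm : 0 < m) :
    Nat.choose (p ^ β * m - 1) (p ^ β - 1) ≡ 1 [MOD p] := by
  have hpp := hp.out
  induction β with
  | zero => simp [Nat.ModEq]
  | succ β ih =>
    have hpos : 0 < p ^ β * m := Nat.mul_pos (pow_pos hpp.pos β) hm
    have hposk : 0 < p ^ β := pow_pos hpp.pos β
    have hn : p ^ (β + 1) * m - 1 = p * (p ^ β * m - 1) + (p - 1) := by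
      have : p ^ (β + 1) * m = p * (p ^ β * m) := by rw [pow_succ]; ring
      rw [this]
      have h1 : p * (p ^ β * m) = p * (p ^ β * m - 1) + p := by
        rw [← Nat.mul_succ]; congr 1; omega
      have := hpp.pos
      omega
    have hk : p ^ (β + 1) - 1 = p * (p ^ β - 1) + (p - 1) := by
      have : p ^ (β + 1) = p * p ^ β := by rw [pow_succ]; ring
      rw [this]
      have h1 : p * p ^ β = p * (p ^ β - 1) + p := by
        rw [← Nat.mul_succ]; congr 1; omega
      have := hpp.pos
      omega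
    have hlt : p - 1 < p := Nat.sub_lt hpp.pos one_pos
    have h1 := Choose.choose_modEq_choose_mod_mul_choose_div_nat (p := p)
      (n := p ^ (β + 1) * m - 1) (k := p ^ (β + 1) - 1)
    have hnmod : (p ^ (β + 1) * m - 1) % p = p - 1 := by
      rw [hn, Nat.mul_add_mod, Nat.mod_eq_of_lt hlt]
    have hndiv : (p ^ (β + 1) * m - 1) / p = p ^ β * m - 1 := by
      rw [hn, Nat.mul_add_div hpp.pos, Nat.div_eq_of_lt hlt, add_zero]
    have hkmod : (p ^ (β + 1) - 1) % p = p - 1 := by
      rw [hk, Nat.mul_add_mod, Nat.mod_eq_of_lt hlt]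
    have hkdiv : (p ^ (β + 1) - 1) / p = p ^ β - 1 := by
      rw [hk, Nat.mul_add_div hpp.pos, Nat.div_eq_of_lt hlt, add_zero]
    rw [hnmod, hndiv, hkmod, hkdiv, Nat.choose_self, one_mul] at h1
    exact h1.trans ih

lemma dvd_card_of_forall_dvd_index {G X : Type*} [Group G] [MulAction G X] [Finite G] [Finite X] (d : ℕ)
    (h : ∀ x : X, d ∣ (MulAction.stabilizer G x).index) : d ∣ Nat.card X := by
  classical
  haveI : Fintype (MulAction.orbitRel.Quotient G X) := Fintype.ofFinite _
  rw [Nat.card_congr (MulAction.selfEquivSigmaOrbitsQuotientStabilizer G X), Nat.card_sigma]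
  apply Finset.dvd_sum
  intro ω _
  exact h _

variable {G : Type*} [Group G] [Fintype G] [DecidableEq G]

lemma card_stabilizer_dvd (S : Finset G) : Nat.card (MulAction.stabilizer G S) ∣ S.card := by
  set H := MulAction.stabilizer G S with hH
  set S' : Set G := {x | x⁻¹ ∈ S} with hS'
  have hsat : S' = (QuotientGroup.mk : G → G ⧸ H) ⁻¹' ((QuotientGroup.mk : G → G ⧸ H) '' S') := by
    apply Set.Subset.antisymm (Set.subset_preimage_image _ _)
    intro x hx
    obtain ⟨y, hy, hxy⟩ := hx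
    rw [QuotientGroup.eq] at hxy
    have hmem : y⁻¹ * x ∈ MulAction.stabilizer G S := hxy
    have hfix : (y⁻¹ * x)⁻¹ • S = S := by
      have := MulAction.mem_stabilizer_iff.mp (Subgroup.inv_mem _ hmem)
      exact this
    show x⁻¹ ∈ S
    have h1 : x⁻¹ = (y⁻¹ * x)⁻¹ • y⁻¹ := by simp [smul_eq_mul]
    rw [h1, ← hfix]
    exact Finset.smul_mem_smul_finset hy
  have hcard1 : Nat.card S' = S.card := by
    rw [← Nat.card_eq_finsetCard]
    apply Nat.card_congr
    exact ⟨fun x => ⟨x.1⁻¹, x.2⟩, fun s => ⟨s.1⁻¹, by show (s.1⁻¹)⁻¹ ∈ S; rw [inv_inv]; exact s.2⟩,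
      fun x => by simp, fun s => by simp⟩
  have e := QuotientGroup.preimageMkEquivSubgroupProdSet H ((QuotientGroup.mk : G → G ⧸ H) '' S')
  have hcard2 := Nat.card_congr e
  rw [Nat.card_prod, ← hsat, hcard1] at hcard2
  exact ⟨_, hcard2⟩

open Classical in
noncomputable def cosetF (H : Subgroup G) (g : G) : Finset G :=
  Finset.univ.filter (fun x => g⁻¹ * x ∈ H)

omit [DecidableEq G] in
lemma mem_cosetF {H : Subgroup G} {g x : G} : x ∈ cosetF H g ↔ g⁻¹ * x ∈ H := by
  simp [cosetF]

omit [DecidableEq G] in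
lemma card_cosetF (H : Subgroup G) (g : G) : (cosetF H g).card = Nat.card H := by
  rw [← Nat.card_eq_finsetCard]
  apply Nat.card_congr
  refine ⟨fun x => ⟨g⁻¹ * x.1, mem_cosetF.mp x.2⟩, fun h => ⟨g * h.1, mem_cosetF.mpr (by simp)⟩, ?_, ?_⟩
  · intro x; simp
  · intro h; simp

lemma exists_coset_of_card_stabilizer (S : Finset G) (hne : S.Nonempty)
    (h : Nat.card (MulAction.stabilizer G S) = S.card) :
    ∃ (H : Subgroup G) (g : G), Nat.card H = S.card ∧ S = cosetF H g := by
  obtain ⟨s, hs⟩ := hne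
  set H0 := MulAction.stabilizer G S with hH0
  set H : Subgroup G := H0.map (MulAut.conj s⁻¹).toMonoidHom with hH
  have hcardH : Nat.card H = Nat.card H0 := by
    rw [hH]
    exact Subgroup.card_map_of_injective (MulAut.conj s⁻¹).injective
  refine ⟨H, s, by rw [hcardH, h], ?_⟩
  symm
  apply Finset.eq_of_subset_of_card_le
  · intro x hx
    rw [mem_cosetF, hH] at hx
    obtain ⟨h0, hh0, hx'⟩ := hx
    have hx'' : s⁻¹ * h0 * s⁻¹⁻¹ = s⁻¹ * x := hx'
    have hxe : x = h0 * s := by
      have : s⁻¹ * x = s⁻¹ * (h0 * s) := by rw [← hx'']; group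
      exact mul_left_cancel this
    rw [hxe]
    have hfix : h0 • S = S := MulAction.mem_stabilizer_iff.mp hh0
    rw [← hfix]
    exact Finset.smul_mem_smul_finset hs
  · rw [card_cosetF, hcardH, h]

omit [DecidableEq G] in
lemma cosetF_eq_iff (H : Subgroup G) (g g' : G) : cosetF H g = cosetF H g' ↔ g⁻¹ * g' ∈ H := by
  constructor
  · intro h
    have : g' ∈ cosetF H g' := mem_cosetF.mpr (by simp)
    rw [← h] at this
    exact mem_cosetF.mp this
  · intro h
    ext x
    rw [mem_cosetF, mem_cosetF]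
    constructor
    · intro hx
      have : g'⁻¹ * x = (g⁻¹ * g')⁻¹ * (g⁻¹ * x) := by group
      rw [this]
      exact H.mul_mem (H.inv_mem h) hx
    · intro hx
      have : g⁻¹ * x = (g⁻¹ * g') * (g'⁻¹ * x) := by group
      rw [this]
      exact H.mul_mem h hx

omit [DecidableEq G] in
lemma subgroup_eq_of_cosetF_eq {H H' : Subgroup G} {g g' : G} (h : cosetF H g = cosetF H' g') :
    H = H' := by
  have h1 : g'⁻¹ * g ∈ H' := by
    have : g ∈ cosetF H g := mem_cosetF.mpr (by simp)
    rw [h] at this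
    exact mem_cosetF.mp this
  ext x
  have hx : x ∈ H ↔ g * x ∈ cosetF H g := by
    rw [mem_cosetF]; simp
  rw [hx, h, mem_cosetF]
  have : g'⁻¹ * (g * x) = (g'⁻¹ * g) * x := by group
  rw [this]
  constructor
  · intro h2
    have : x = (g'⁻¹ * g)⁻¹ * ((g'⁻¹ * g) * x) := by group
    rw [this]
    exact H'.mul_mem (H'.inv_mem h1) h2
  · intro h2
    exact H'.mul_mem h1 h2

lemma smul_cosetF (a : G) (H : Subgroup G) (g : G) : a • cosetF H g = cosetF H (a * g) := by
  ext x
  rw [← Finset.inv_smul_mem_iff, mem_cosetF, mem_cosetF, smul_eq_mul]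
  have : (a * g)⁻¹ * x = g⁻¹ * (a⁻¹ * x) := by group
  rw [this]

def IsCosetK (k : ℕ) (S : Finset G) : Prop :=
  ∃ (H : Subgroup G) (g : G), Nat.card H = k ∧ S = cosetF H g

omit [DecidableEq G] in
lemma IsCosetK.card_eq {k : ℕ} {S : Finset G} (h : IsCosetK k S) : S.card = k := by
  obtain ⟨H, g, hH, rfl⟩ := h
  rw [card_cosetF, hH]

def nonCoset (k : ℕ) : SubMulAction G (Finset G) where
  carrier := {S | S.card = k ∧ ¬ IsCosetK k S}
  smul_mem' := by
    rintro a S ⟨hS, hnc⟩
    refine ⟨by rw [Finset.card_smul_finset]; exact hS, ?_⟩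
    rintro ⟨H, g, hH, hSg⟩
    apply hnc
    refine ⟨H, a⁻¹ * g, hH, ?_⟩
    rw [← smul_cosetF, ← hSg, inv_smul_smul]

omit [DecidableEq G] in
lemma card_cosets (k : ℕ) (hk : 0 < k) :
    Nat.card {S : Finset G // IsCosetK k S} =
      Nat.card {H : Subgroup G // Nat.card H = k} * (Nat.card G / k) := by
  classical
  let f : (Σ H : {H : Subgroup G // Nat.card H = k}, G ⧸ H.1) → {S : Finset G // IsCosetK k S} :=
    fun x => ⟨cosetF x.1.1 x.2.out, ⟨x.1.1, x.2.out, x.1.2, rfl⟩⟩
  have hinj : Function.Injective f := by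
    rintro ⟨⟨H, hH⟩, q⟩ ⟨⟨H', hH'⟩, q'⟩ hxy
    have h1 : cosetF H q.out = cosetF H' q'.out := congrArg Subtype.val hxy
    have hHH' : H = H' := subgroup_eq_of_cosetF_eq h1
    subst hHH'
    have h2 := (cosetF_eq_iff H q.out q'.out).mp h1
    have h3 : (QuotientGroup.mk q.out : G ⧸ H) = QuotientGroup.mk q'.out := QuotientGroup.eq.mpr h2
    rw [QuotientGroup.out_eq', QuotientGroup.out_eq'] at h3
    subst h3
    rfl
  have hsurj : Function.Surjective f := by
    rintro ⟨S, H, g, hH, rfl⟩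
    refine ⟨⟨⟨H, hH⟩, QuotientGroup.mk g⟩, ?_⟩
    apply Subtype.ext
    show cosetF H (QuotientGroup.mk g : G ⧸ H).out = cosetF H g
    rw [cosetF_eq_iff]
    have : (QuotientGroup.mk (QuotientGroup.mk g : G ⧸ H).out : G ⧸ H) = QuotientGroup.mk g :=
      QuotientGroup.out_eq' _
    exact QuotientGroup.eq.mp this
  rw [← Nat.card_congr (Equiv.ofBijective f ⟨hinj, hsurj⟩)]
  haveI : Fintype {H : Subgroup G // Nat.card H = k} := Fintype.ofFinite _
  rw [Nat.card_sigma]
  have : ∀ H : {H : Subgroup G // Nat.card H = k}, Nat.card (G ⧸ H.1) = Nat.card G / k := by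
    rintro ⟨H, hH⟩
    have h1 := Subgroup.card_mul_index H
    rw [hH] at h1
    show H.index = _
    rw [← h1, Nat.mul_div_cancel_left _ hk]
  simp only [this, Finset.sum_const, Finset.card_univ, smul_eq_mul, Nat.card_eq_fintype_card]


lemma dvd_index_stabilizer (p β m : ℕ) [hp : Fact p.Prime] (hG : Nat.card G = p ^ β * m)
    (S : Finset G) (hS : S ∈ (nonCoset (p ^ β) : SubMulAction G (Finset G))) :
    p * m ∣ (MulAction.stabilizer G S).index := by
  obtain ⟨hcard, hnc⟩ := hS
  have hpp := hp.out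
  have h1 : Nat.card (MulAction.stabilizer G S) ∣ p ^ β := by
    rw [← hcard]; exact card_stabilizer_dvd S
  obtain ⟨j, hj, hjc⟩ := (Nat.dvd_prime_pow hpp).mp h1
  have hjlt : j < β := by
    rcases lt_or_eq_of_le hj with h | h
    · exact h
    · exfalso
      subst h
      apply hnc
      have hne : S.Nonempty := by
        rw [← Finset.card_pos, hcard]; exact pow_pos hpp.pos _
      obtain ⟨H, g, hH, hSg⟩ := exists_coset_of_card_stabilizer S hne (by rw [hjc, hcard])
      exact ⟨H, g, by rw [hH, hcard], hSg⟩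
  have h2 := Subgroup.card_mul_index (MulAction.stabilizer G S)
  rw [hjc, hG] at h2
  have h3 : p ^ β = p ^ j * (p * p ^ (β - j - 1)) := by
    rw [← pow_succ', ← pow_add]; congr 1; omega
  rw [h3, mul_assoc] at h2
  have h4 := Nat.eq_of_mul_eq_mul_left (pow_pos hpp.pos j) h2
  rw [h4]
  exact ⟨p ^ (β - j - 1), by ring⟩

lemma dvd_card_nonCoset (p β m : ℕ) [hp : Fact p.Prime] (hG : Nat.card G = p ^ β * m) :
    p * m ∣ Nat.card (nonCoset (p ^ β) : SubMulAction G (Finset G)) := by
  apply dvd_card_of_forall_dvd_index (G := G)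
  intro x
  rw [SubMulAction.stabilizer_of_subMul]
  exact dvd_index_stabilizer p β m hG x.1 x.2

lemma card_split (k : ℕ) :
    Nat.card {S : Finset G // S.card = k} =
      Nat.card {S : Finset G // IsCosetK k S} +
        Nat.card (nonCoset k : SubMulAction G (Finset G)) := by
  classical
  have e : {S : Finset G // S.card = k} ≃
      {S : Finset G // IsCosetK k S} ⊕ (nonCoset k : SubMulAction G (Finset G)) :=
    { toFun := fun S => if h : IsCosetK k S.1 then Sum.inl ⟨S.1, h⟩ else Sum.inr ⟨S.1, ⟨S.2, h⟩⟩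
      invFun := fun x => match x with
        | Sum.inl S => ⟨S.1, S.2.card_eq⟩
        | Sum.inr S => ⟨S.1, S.2.1⟩
      left_inv := by
        intro S
        by_cases h : IsCosetK k S.1
        · simp [h]
        · simp [h]
      right_inv := by
        rintro (S | S)
        · simp [S.2]
        · have : ¬ IsCosetK k S.1 := S.2.2
          simp [this] }
  rw [Nat.card_congr e, Nat.card_sum]

lemma card_finset_len_eq (k : ℕ) :
    Nat.card {S : Finset G // S.card = k} = (Nat.card G).choose k := by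
  rw [Nat.card_eq_fintype_card, Fintype.card_finset_len, Nat.card_eq_fintype_card]

lemma choose_mul_eq (k m : ℕ) (hk : 0 < k) (hm : 0 < m) :
    (k * m).choose k = m * (k * m - 1).choose (k - 1) := by
  have h := Nat.add_one_mul_choose_eq (k * m - 1) (k - 1)
  have h1 : (k * m - 1) + 1 = k * m := by
    have : 0 < k * m := Nat.mul_pos hk hm
    omega
  have h2 : (k - 1) + 1 = k := by omega
  rw [h1, h2] at h
  have h3 : k * (m * (k * m - 1).choose (k - 1)) = k * (k * m).choose k := by
    rw [← mul_assoc, h, mul_comm]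
  exact (Nat.eq_of_mul_eq_mul_left hk h3).symm

lemma main (p β m : ℕ) [hp : Fact p.Prime] (hm : 0 < m) (hG : Nat.card G = p ^ β * m) :
    Nat.card {H : Subgroup G // Nat.card H = p ^ β} ≡ 1 [MOD p] := by
  have hpp := hp.out
  have hk : 0 < p ^ β := pow_pos hpp.pos β
  have h1 := card_split (G := G) (p ^ β)
  rw [card_finset_len_eq, card_cosets _ hk, hG, Nat.mul_div_cancel_left _ hk,
    choose_mul_eq _ _ hk hm] at h1
  obtain ⟨r, hr⟩ := dvd_card_nonCoset p β m hG
  rw [hr] at h1
  have h2 : m * (p ^ β * m - 1).choose (p ^ β - 1) =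
      m * (Nat.card {H : Subgroup G // Nat.card H = p ^ β} + p * r) := by
    rw [h1]; ring
  have h3 := Nat.eq_of_mul_eq_mul_left hm h2
  have h4 := choose_pred_modEq_one p β m hm
  rw [h3] at h4
  have h5 : Nat.card {H : Subgroup G // Nat.card H = p ^ β} + p * r ≡
      Nat.card {H : Subgroup G // Nat.card H = p ^ β} [MOD p] := by
    have : p * r ≡ 0 [MOD p] := (Nat.modEq_zero_iff_dvd).mpr ⟨r, rfl⟩
    simpa using Nat.ModEq.add_left (Nat.card {H : Subgroup G // Nat.card H = p ^ β}) this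
  exact h5.symm.trans h4


theorem result {G : Type*} [Group G] [Finite G] (p β : ℕ) (hp : p.Prime) (hdiv : p ^ β ∣ Nat.card G) : Nat.card {H : Subgroup G // Nat.card H = p ^ β} ≡ 1 [MOD p] := by
  classical
  haveI := Fintype.ofFinite G
  haveI : Fact p.Prime := ⟨hp⟩
  obtain ⟨m, hm⟩ := hdiv
  have hmpos : 0 < m := by
    rcases Nat.eq_zero_or_pos m with h | h
    · subst h
      rw [mul_zero] at hm
      exact absurd hm Nat.card_pos.ne'
    · exact h
  exact main p β m hmpos hm

end Cfsg.Agent.S3975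


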