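import Cfsg.Statements.S5283
import Cfsg.Agent.Lib.Helper27.SsChain
import Cfsg.Agent.Lib.Helper27.SsEigen
import Cfsg.Agent.Lib.Helper27.AutSystem
import Cfsg.Agent.Lib.Helper27.FusTop
import Cfsg.Agent.Lib.Helper26.FusionNormal
import Cfsg.Agent.Lib.Helper26.PuigExt
import Cfsg.Agent.Lib.Helper26.FusionSat3
import Cfsg.Agent.S5080

set_option autoImplicit false
open Cfsg

namespace Cfsg.Agent.S5283

open Cfsg.FusionSystem Cfsg.Agent.Lib.Helper26 Cfsg.Agent.Lib.Helper27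
  Cfsg.Agent.Lib.Helper27.SsChain Cfsg.Agent.Lib.Helper27.SsEigen

section Sub

variable {Ω : Type*} [Group Ω] {S : Subgroup Ω}

/-- restriction of a chain of subgroups of the ambient group to a subgroup -/
def sub {m : ℕ} (c : Fin (m + 1) → Subgroup Ω) (P : Subgroup Ω) : Fin (m + 1) → Subgroup ↥P :=
  fun i => (c i).subgroupOf P

theorem sub_isChn {m : ℕ} (c : Fin (m + 1) → Subgroup Ω) (h0 : c 0 = ⊥)
    (hl : c (Fin.last m) = S) (hle : ∀ i : Fin m, c i.castSucc ≤ c i.succ) {P : Subgroup Ω}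
    (hPS : P ≤ S) : IsChn (sub c P) := by
  refine ⟨?_, ?_, ?_⟩
  · show (c 0).subgroupOf P = ⊥
    rw [h0, Subgroup.bot_subgroupOf]
  · show (c (Fin.last m)).subgroupOf P = ⊤
    rw [hl, Subgroup.subgroupOf_eq_top]
    exact hPS
  · intro i x hx
    exact Subgroup.mem_subgroupOf.mpr (hle i (Subgroup.mem_subgroupOf.mp hx))

theorem conj_mem_of_closed (F : FusionSystem S) {T : Subgroup Ω} (hT : F.StronglyClosed T)
    {g t : Ω} (hg : g ∈ S) (ht : t ∈ T) : g * t * g⁻¹ ∈ T := by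
  have h1 : conjHom T g ∈ F.Hom T := F.conj_mem hT.1 hg
  have h2 := hT.2 T le_rfl _ h1 ⟨t, ht⟩
  rwa [conjHom_apply] at h2

theorem sub_normal (F : FusionSystem S) {m : ℕ} (c : Fin (m + 1) → Subgroup Ω)
    (hsc : ∀ i, F.StronglyClosed (c i)) {P : Subgroup Ω} (hPS : P ≤ S) (i : Fin (m + 1)) :
    (sub c P i).Normal := by
  refine ⟨fun t ht g => ?_⟩
  exact Subgroup.mem_subgroupOf.mpr
    (conj_mem_of_closed F (hsc i) (hPS g.2) (Subgroup.mem_subgroupOf.mp ht))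

theorem sub_pres (F : FusionSystem S) {m : ℕ} (c : Fin (m + 1) → Subgroup Ω)
    (hsc : ∀ i, F.StronglyClosed (c i)) {P : Subgroup Ω} (hPS : P ≤ S) :
    ∀ α ∈ F.autGroup P, ∀ i, ∀ t ∈ sub c P i, α t ∈ sub c P i := by
  intro α hα i t ht
  rw [mem_autGroup_iff F hPS] at hα
  exact Subgroup.mem_subgroupOf.mpr
    (apply_mem_of_stronglyClosed F (hsc i) hα t (Subgroup.mem_subgroupOf.mp ht))

theorem zpowers_subgroupOf {x : Ω} (hx : x ∈ S) :
    (Subgroup.zpowers x).subgroupOf S = Subgroup.zpowers (⟨x, hx⟩ : ↥S) := by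
  ext y
  rw [Subgroup.mem_subgroupOf, Subgroup.mem_zpowers_iff, Subgroup.mem_zpowers_iff]
  constructor
  · rintro ⟨k, hk⟩
    exact ⟨k, Subtype.ext (by rw [Subgroup.coe_zpow]; exact hk)⟩
  · rintro ⟨k, hk⟩
    refine ⟨k, ?_⟩
    have := congrArg Subtype.val hk
    rwa [Subgroup.coe_zpow] at this

theorem sub_cyc (F : FusionSystem S) {m : ℕ} (c : Fin (m + 1) → Subgroup Ω)
    (hsc : ∀ i, F.StronglyClosed (c i))
    (hst : ∀ i : Fin m, c i.castSucc ≤ c i.succ ∧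
      ∃ x ∈ S, c i.succ = c i.castSucc ⊔ Subgroup.zpowers x)
    {P : Subgroup Ω} (hPS : P ≤ S) [hn : ∀ i, (sub c P i).Normal] (i : Fin m) :
    IsCyclic ↥((sub c P i.succ).map (QuotientGroup.mk' (sub c P i.castSucc))) := by
  obtain ⟨-, x, hx, hstep⟩ := hst i
  haveI hnS : (sub c S i.castSucc).Normal := sub_normal F c hsc le_rfl i.castSucc
  have e1 : sub c S i.succ = sub c S i.castSucc ⊔ Subgroup.zpowers (⟨x, hx⟩ : ↥S) := by
    show (c i.succ).subgroupOf S = (c i.castSucc).subgroupOf S ⊔ _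
    have hz : Subgroup.zpowers x ≤ S := by
      rw [Subgroup.zpowers_le]
      exact hx
    rw [hstep, Subgroup.subgroupOf_sup (hsc i.castSucc).1 hz, zpowers_subgroupOf hx]
  have h1 := cyc_of_sup (sub c S i.castSucc) (sub c S i.succ) ⟨x, hx⟩ e1
  refine cyc_comap (Subgroup.inclusion hPS) (sub c S i.castSucc) (sub c S i.succ)
    (sub c P i.castSucc) (sub c P i.succ) ?_ ?_ h1
  · ext y
    rfl
  · intro y hy
    exact hy

theorem isNormal_of_chain [Finite S] {p : ℕ} [Fact p.Prime] (hS : IsPGroup p ↥S)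
    (F : FusionSystem S) (hF : F.IsSaturated p) {m : ℕ} (c : Fin (m + 1) → Subgroup Ω)
    (h0 : c 0 = ⊥) (hl : c (Fin.last m) = S) (hsc : ∀ i, F.StronglyClosed (c i))
    (hst : ∀ i : Fin m, c i.castSucc ≤ c i.succ ∧
      ∃ x ∈ S, c i.succ = c i.castSucc ⊔ Subgroup.zpowers x) : F.IsNormal S := by
  apply isNormal_of_forall_essential hS F hF S
  intro P hP
  rcases hP with hP | hE
  · subst hP
    refine ⟨le_rfl, fun α _ => ?_⟩
    rw [Subgroup.subgroupOf_self, ← MonoidHom.range_eq_map, MonoidHom.range_eq_top]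
    exact α.surjective
  · exfalso
    obtain ⟨hcen, hfn, hnorm, E, hE⟩ := hE
    have hPS : P ≤ S := hcen.1
    haveI : Finite ↥P := finite_of_le hPS
    have hchn := sub_isChn c h0 hl (fun i => (hst i).1) hPS
    haveI hn : ∀ i, (sub c P i).Normal := sub_normal F c hsc hPS
    have hcyc := sub_cyc F c hsc hst hPS
    have hK := sub_pres F c hsc hPS
    obtain ⟨n, hX⟩ := IsPGroup.iff_card.mp (hS.to_le hPS)
    have hNp : IsPGroup p ↥((stabSub (sub c P) hchn).subgroupOf (F.autGroup P)) :=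
      (stabSub_isPGroup hX hchn).comap_subtype
    haveI hNn : ((stabSub (sub c P) hchn).subgroupOf (F.autGroup P)).Normal := by
      refine ⟨fun γ hγ α => ?_⟩
      exact Subgroup.mem_subgroupOf.mpr
        (conj_mem_stabSub hchn hK α.2 (Subgroup.mem_subgroupOf.mp hγ))
    have hcomm : ∀ a b : ↥(F.autGroup P),
        a * b * a⁻¹ * b⁻¹ ∈ (stabSub (sub c P) hchn).subgroupOf (F.autGroup P) := by
      intro a b
      have h1 := comm_mem_stabSub hchn hcyc hK ((F.autGroup P).inv_mem a.2)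
        ((F.autGroup P).inv_mem b.2)
      rw [inv_inv, inv_inv] at h1
      exact Subgroup.mem_subgroupOf.mpr h1
    exact no_spe ((Inn ↥P).subgroupOf (F.autGroup P))
      ((stabSub (sub c P) hchn).subgroupOf (F.autGroup P)) hNp hcomm E hE

theorem aut_of_chain [Finite S] {p : ℕ} [Fact p.Prime] (hS : IsPGroup p ↥S)
    (hyp : ∀ F : FusionSystem S, F.IsSaturated p →
      ∃ (m : ℕ) (c : Fin (m + 1) → Subgroup Ω), c 0 = ⊥ ∧ c (Fin.last m) = S ∧
        (∀ i : Fin (m + 1), F.StronglyClosed (c i)) ∧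
        ∀ i : Fin m, c i.castSucc ≤ c i.succ ∧
          ∃ x ∈ S, c i.succ = c i.castSucc ⊔ Subgroup.zpowers x)
    (H : Subgroup (MulAut ↥S)) (hcop : (Nat.card ↥H).Coprime p) :
    IsMulCommutative ↥H ∧ ∀ h ∈ H, h ^ (p - 1) = 1 := by
  have hsat := autSystem_saturated S H hS hcop
  obtain ⟨m, c, h0, hl, hsc, hst⟩ := hyp _ hsat
  have hchn := sub_isChn c h0 hl (fun i => (hst i).1) (le_refl S)
  haveI hn : ∀ i, (sub c S i).Normal := sub_normal _ c hsc le_rfl
  have hcyc := sub_cyc _ c hsc hst (le_refl S)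
  have hK0 := sub_pres _ c hsc (le_refl S)
  have hK : ∀ α ∈ H, ∀ i, ∀ t ∈ sub c S i, α t ∈ sub c S i := by
    intro α hα
    apply hK0
    rw [autSystem_autGroup]
    exact Subgroup.mem_sup_right hα
  obtain ⟨n, hX⟩ := IsPGroup.iff_card.mp hS
  exact ⟨⟨⟨fun a b => Subtype.ext (comm_of_coprime hX hchn hcyc hK hcop a.2 b.2)⟩⟩,
    fun h hh => pow_of_coprime hX hchn hcyc hK hcop hh⟩

theorem autInducedBy_self {Ω : Type*} [Group Ω] (S : Subgroup Ω) :
    Cfsg.autInducedBy S S = Cfsg.Inn ↥S := by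
  have h : {α : MulAut ↥S | ∃ g ∈ S, ∀ x : ↥S, ((α x : ↥S) : Ω) = g * (x : Ω) * g⁻¹} =
      ((Cfsg.Inn ↥S : Subgroup (MulAut ↥S)) : Set (MulAut ↥S)) := by
    ext α
    constructor
    · rintro ⟨g, hg, hα⟩
      refine ⟨⟨g, hg⟩, ?_⟩
      ext x
      rw [hα x]
      rfl
    · rintro ⟨s, rfl⟩
      exact ⟨s.1, s.2, fun x => rfl⟩
  unfold Cfsg.autInducedBy
  rw [h, Subgroup.closure_eq]

theorem ext_of_normal [Finite S] (F : FusionSystem S) (hN : F.IsNormal S) {R : Subgroup Ω}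
    {φ : R →* Ω} (hφ : φ ∈ F.Hom R) :
    ∃ α ∈ F.autGroup S, ∀ (x : R) (hx : (x : Ω) ∈ S), φ x = ((α ⟨x, hx⟩ : ↥S) : Ω) := by
  obtain ⟨ψ, hψ, hext, -⟩ := hN.2 R φ hφ
  have hRS : R ≤ S := source_le F hφ
  have heq : R ⊔ S = S := sup_eq_right.mpr hRS
  obtain ⟨ψ', hψ', hcast⟩ := hom_cast F heq ψ hψ
  refine ⟨autOfHom F hψ' (range_eq_top_of_hom F hψ'), autOfHom_mem F hψ' _, fun x hx => ?_⟩
  rw [autOfHom_apply, hcast x (le_sup_left (a := R) (b := S) x.2) hx, ← hext x]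
  rfl

theorem chain_of_aut [Finite S] {p : ℕ} [Fact p.Prime] (hS : IsPGroup p ↥S)
    (hab : ∀ H : Subgroup (MulAut ↥S), (Nat.card ↥H).Coprime p →
      IsMulCommutative ↥H ∧ ∀ h ∈ H, h ^ (p - 1) = 1)
    (F : FusionSystem S) (hF : F.IsSaturated p) (hN : F.IsNormal S) :
    ∃ (m : ℕ) (c : Fin (m + 1) → Subgroup Ω), c 0 = ⊥ ∧ c (Fin.last m) = S ∧
      (∀ i : Fin (m + 1), F.StronglyClosed (c i)) ∧
      ∀ i : Fin m, c i.castSucc ≤ c i.succ ∧
        ∃ x ∈ S, c i.succ = c i.castSucc ⊔ Subgroup.zpowers x := by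
  obtain ⟨-, R, hR⟩ := (saturated_fullyNormalized hS F hF (top_fullyNormalized F)).2.1
  rw [autInducedBy_self] at hR
  haveI hnorm : ((Inn ↥S).subgroupOf (F.autGroup S)).Normal := inn_subgroupOf_normal _ _
  have hcopi : (Nat.card ↥((Inn ↥S).subgroupOf (F.autGroup S))).Coprime
      ((Inn ↥S).subgroupOf (F.autGroup S)).index := by
    rw [← hR]
    exact R.card_coprime_index
  have hndvd : ¬ p ∣ ((Inn ↥S).subgroupOf (F.autGroup S)).index := by
    rw [← hR]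
    exact R.not_dvd_index
  obtain ⟨H', hcomp⟩ := Subgroup.exists_right_complement'_of_coprime hcopi
  have hcardH' : Nat.card ↥H' = ((Inn ↥S).subgroupOf (F.autGroup S)).index :=
    (hcomp.symm.index_eq_card).symm
  have hcopH : (Nat.card ↥(H'.map (F.autGroup S).subtype)).Coprime p := by
    rw [Subgroup.card_map_of_injective (Subgroup.subtype_injective _), hcardH']
    exact ((Nat.Prime.coprime_iff_not_dvd (Fact.out : p.Prime)).mpr hndvd).symm
  obtain ⟨hcm, hex⟩ := hab _ hcopH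
  have hcommH : ∀ h₁ ∈ H', ∀ h₂ ∈ H', h₁ * h₂ = h₂ * h₁ := by
    intro h₁ hh₁ h₂ hh₂
    have := hcm.is_comm.comm (⟨(h₁ : MulAut ↥S), ⟨h₁, hh₁, rfl⟩⟩ :
      ↥(H'.map (F.autGroup S).subtype)) ⟨(h₂ : MulAut ↥S), ⟨h₂, hh₂, rfl⟩⟩
    have h3 : ((h₁ : MulAut ↥S) * (h₂ : MulAut ↥S)) = (h₂ : MulAut ↥S) * (h₁ : MulAut ↥S) :=
      congrArg Subtype.val this
    exact Subtype.ext h3
  have hexpH : ∀ h ∈ H', h ^ (p - 1) = 1 := by
    intro h hh
    have := hex (h : MulAut ↥S) ⟨h, hh, rfl⟩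
    exact Subtype.ext this
  have hrep : ∀ a : ↥(F.autGroup S), ∃ h ∈ H',
      (QuotientGroup.mk a : ↥(F.autGroup S) ⧸ (Inn ↥S).subgroupOf (F.autGroup S)) =
        QuotientGroup.mk h := by
    intro a
    obtain ⟨⟨n, h⟩, hnh⟩ := (Subgroup.isComplement'_def.mp hcomp).2 a
    refine ⟨h.1, h.2, ?_⟩
    have e : a = n.1 * h.1 := hnh.symm
    rw [e, QuotientGroup.mk_mul, (QuotientGroup.eq_one_iff n.1).mpr n.2, one_mul]
  have hc : ∀ a b : ↥(F.autGroup S),
      a * b * a⁻¹ * b⁻¹ ∈ (Inn ↥S).subgroupOf (F.autGroup S) := by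
    intro a b
    obtain ⟨h₁, hh₁, e₁⟩ := hrep a
    obtain ⟨h₂, hh₂, e₂⟩ := hrep b
    rw [← QuotientGroup.eq_one_iff, QuotientGroup.mk_mul, QuotientGroup.mk_mul,
      QuotientGroup.mk_mul, QuotientGroup.mk_inv, QuotientGroup.mk_inv, e₁, e₂,
      ← QuotientGroup.mk_inv, ← QuotientGroup.mk_inv, ← QuotientGroup.mk_mul,
      ← QuotientGroup.mk_mul, ← QuotientGroup.mk_mul, hcommH h₁ hh₁ h₂ hh₂,
      mul_inv_cancel_right, mul_inv_cancel, QuotientGroup.mk_one]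
  have he : ∀ a : ↥(F.autGroup S), a ^ (p - 1) ∈ (Inn ↥S).subgroupOf (F.autGroup S) := by
    intro a
    obtain ⟨h, hh, e⟩ := hrep a
    rw [← QuotientGroup.eq_one_iff, QuotientGroup.mk_pow, e, ← QuotientGroup.mk_pow,
      hexpH h hh, QuotientGroup.mk_one]
  have hPn : IsPGroup p ↥((Inn ↥S).subgroupOf (F.autGroup S)) :=
    (Cfsg.Agent.S5080.isPGroup_inn hS (le_refl S)).comap_subtype
  obtain ⟨n, hX⟩ := IsPGroup.iff_card.mp hS
  obtain ⟨m, e, e0, el, einv, est⟩ :=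
    chain_exists ((Inn ↥S).subgroupOf (F.autGroup S)) hPn hc he n ↥S hX (F.autGroup S).subtype
  refine ⟨m, fun i => (e i).map S.subtype, ?_, ?_, ?_, ?_⟩
  · show (e 0).map S.subtype = ⊥
    rw [e0, Subgroup.map_bot]
  · show (e (Fin.last m)).map S.subtype = S
    rw [el, ← MonoidHom.range_eq_map, Subgroup.range_subtype]
  · intro i
    refine ⟨Subgroup.map_subtype_le _, fun R hR φ hφ x => ?_⟩
    obtain ⟨α, hα, hαx⟩ := ext_of_normal F hN hφ
    obtain ⟨t, ht, htx⟩ := hR x.2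
    have hxS : (x : Ω) ∈ S := htx ▸ t.2
    rw [hαx x hxS]
    have : (⟨(x : Ω), hxS⟩ : ↥S) = t := Subtype.ext htx.symm
    rw [this]
    exact ⟨α t, einv i ⟨α, hα⟩ t ht, rfl⟩
  · intro i
    obtain ⟨hle, y, hy⟩ := est i
    refine ⟨Subgroup.map_mono hle, (y : Ω), y.2, ?_⟩
    show (e i.succ).map S.subtype = (e i.castSucc).map S.subtype ⊔ _
    rw [hy, Subgroup.map_sup, MonoidHom.map_zpowers]
    rfl

end Sub

/-- Call a saturated fusion system F over a finite p-group S supersoluble when S has a chain of subgroups 1 = S_0 ≤ S_1 ≤ … ≤ S_m = S, each strongly closed in F, with each S_{i+1} generated by S_i together with one further element (cyclic steps). Then every saturated fusion system over S is supersoluble if and only if S is normal in every saturated fusion system over S (S is resistant) and every subgroup of Aut(S) of order prime to p is abelian of exponent dividing p − 1. -/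
theorem result {Ω : Type*} [Group Ω] {S : Subgroup Ω} [Finite S] (p : ℕ) [Fact p.Prime] (hS : IsPGroup p ↥S) : (∀ F : Cfsg.FusionSystem S, F.IsSaturated p → (∃ (m : ℕ) (c : Fin (m + 1) → Subgroup Ω), c 0 = ⊥ ∧ c (Fin.last m) = S ∧ (∀ i : Fin (m + 1), F.StronglyClosed (c i)) ∧ ∀ i : Fin m, c i.castSucc ≤ c i.succ ∧ ∃ x ∈ S, c i.succ = c i.castSucc ⊔ Subgroup.zpowers x)) ↔ (∀ F : Cfsg.FusionSystem S, F.IsSaturated p → F.IsNormal S) ∧ ∀ H : Subgroup (MulAut ↥S), (Nat.card ↥H).Coprime p → IsMulCommutative ↥H ∧ ∀ h ∈ H, h ^ (p - 1) = 1 := by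
  constructor
  · intro hyp
    refine ⟨fun F hF => ?_, fun H hcop => aut_of_chain hS hyp H hcop⟩
    obtain ⟨m, c, h0, hl, hsc, hst⟩ := hyp F hF
    exact isNormal_of_chain hS F hF c h0 hl hsc hst
  · rintro ⟨hres, hab⟩ F hF
    exact chain_of_aut hS hab F hF (hres F hF)

end Cfsg.Agent.S5283
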