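import Cfsg.Statements.S4153
import Cfsg.Agent.Lib.Helper22.Basic
import Cfsg.Agent.Lib.Helper22.Sylow2

set_option autoImplicit false
open Cfsg

namespace Cfsg.Agent.S4153

theorem exists_plift {G : Type*} [Group G] [Finite G] (p : ℕ) [Fact p.Prime] (N : Subgroup G) [N.Normal]
    (a : G ⧸ N) (k : ℕ) (ha : orderOf a = p ^ k) :
    ∃ x : G, (∃ l : ℕ, orderOf x = p ^ l) ∧ (QuotientGroup.mk x : G ⧸ N) = a := by
  obtain ⟨x₀, hx₀⟩ := QuotientGroup.mk_surjective a
  obtain ⟨x, b, hxb, hcomm, ⟨l, hl⟩, hbcop, hxz, hbz⟩ := Lib.Helper22.exists_p_decomp p x₀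
  have hb1 : (QuotientGroup.mk b : G ⧸ N) = 1 := by
    have h1 : orderOf (QuotientGroup.mk b : G ⧸ N) ∣ orderOf b :=
      orderOf_map_dvd (QuotientGroup.mk' N) b
    have h2 : orderOf (QuotientGroup.mk b : G ⧸ N) ∣ p ^ k := by
      rw [← ha]
      apply orderOf_dvd_of_mem_zpowers
      obtain ⟨i, hi⟩ := hbz
      refine ⟨i, ?_⟩
      rw [← hx₀, ← hi]
      simp
    have h3 : (orderOf (QuotientGroup.mk b : G ⧸ N)).Coprime (p ^ k) :=
      (Nat.Coprime.coprime_dvd_left h1 hbcop).pow_right k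
    exact orderOf_eq_one_iff.1 (h3.eq_one_of_dvd h2)
  refine ⟨x, ⟨l, hl⟩, ?_⟩
  rw [← hx₀, hxb, QuotientGroup.mk_mul, hb1, mul_one]

theorem card_sylow_eq {G : Type*} [Group G] [Finite G] (p : ℕ) [Fact p.Prime] (N : Subgroup G) [N.Normal]
    (P R : Sylow p G) (Pbar : Sylow p (G ⧸ N)) :
    Nat.card (P : Subgroup G) = Nat.card (N ⊓ (R : Subgroup G) : Subgroup G) *
      Nat.card (Pbar : Subgroup (G ⧸ N)) := by
  have h1 : Nat.card (P : Subgroup G) = Nat.card (R : Subgroup G) := by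
    rw [Sylow.card_eq_multiplicity, Sylow.card_eq_multiplicity]
  have h2 : Nat.card (Pbar : Subgroup (G ⧸ N)) =
      Nat.card ((R.mapSurjective (QuotientGroup.mk'_surjective N) : Sylow p (G ⧸ N)) : Subgroup (G ⧸ N)) := by
    rw [Sylow.card_eq_multiplicity, Sylow.card_eq_multiplicity]
  rw [h1, h2, Sylow.coe_mapSurjective, ← Subgroup.relIndex_ker, QuotientGroup.ker_mk',
    ← Subgroup.inf_relIndex_right]
  exact (Lib.Helper22.card_mul_relIndex_of_le inf_le_right).symm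

theorem result {G : Type*} [Group G] [Finite G] (p : ℕ) [Fact p.Prime] (N : Subgroup G) [N.Normal]
    (P : Sylow p G) (Pbar : Sylow p (G ⧸ N)) :
    Nat.card {g : (G ⧸ N) // ∃ k : ℕ, orderOf g = p ^ k} * Nat.card (P : Subgroup G) ≤ Nat.card {g : G // ∃ k : ℕ, orderOf g = p ^ k} * Nat.card (Pbar : Subgroup (G ⧸ N)) ∧
    (N ≤ Subgroup.center G → Nat.card {g : (G ⧸ N) // ∃ k : ℕ, orderOf g = p ^ k} * Nat.card (P : Subgroup G) = Nat.card {g : G // ∃ k : ℕ, orderOf g = p ^ k} * Nat.card (Pbar : Subgroup (G ⧸ N))) := by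
  have hp : p.Prime := Fact.out
  have hmkp : ∀ g : G, (∃ k : ℕ, orderOf g = p ^ k) →
      ∃ k : ℕ, orderOf (QuotientGroup.mk g : G ⧸ N) = p ^ k := by
    rintro g ⟨k, hk⟩
    have h1 : orderOf (QuotientGroup.mk g : G ⧸ N) ∣ p ^ k := by
      rw [← hk]; exact orderOf_map_dvd (QuotientGroup.mk' N) g
    obtain ⟨j, -, hj⟩ := (Nat.dvd_prime_pow hp).1 h1
    exact ⟨j, hj⟩
  let f : {g : G // ∃ k : ℕ, orderOf g = p ^ k} → {g : (G ⧸ N) // ∃ k : ℕ, orderOf g = p ^ k} :=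
    fun g => ⟨QuotientGroup.mk g.1, hmkp g.1 g.2⟩
  let _ : Fintype {g : (G ⧸ N) // ∃ k : ℕ, orderOf g = p ^ k} := Fintype.ofFinite _
  have hcardX : Nat.card {g : G // ∃ k : ℕ, orderOf g = p ^ k} =
      ∑ b : {g : (G ⧸ N) // ∃ k : ℕ, orderOf g = p ^ k}, Nat.card {a // f a = b} := by
    rw [← Nat.card_sigma]; exact Nat.card_congr (Equiv.sigmaFiberEquiv f).symm
  have hfiber : ∀ b : {g : (G ⧸ N) // ∃ k : ℕ, orderOf g = p ^ k}, ∃ R : Sylow p G,
      Nat.card (N ⊓ (R : Subgroup G) : Subgroup G) ≤ Nat.card {a // f a = b} ∧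
      (N ≤ Subgroup.center G → Nat.card (N ⊓ (R : Subgroup G) : Subgroup G) = Nat.card {a // f a = b}) := by
    rintro ⟨yb, k, hk⟩
    obtain ⟨y, ⟨l, hl⟩, hy⟩ := exists_plift p N yb k hk
    have hpg : IsPGroup p (Subgroup.zpowers y) := by
      apply IsPGroup.of_card (n := l)
      rw [Nat.card_zpowers, hl]
    obtain ⟨R, hR⟩ := hpg.exists_le_sylow
    have hyR : y ∈ (R : Subgroup G) := hR (Subgroup.mem_zpowers y)
    have hmem : ∀ t : (N ⊓ (R : Subgroup G) : Subgroup G), ∃ k : ℕ, orderOf (y * (t : G)) = p ^ k :=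
      fun t => Lib.Helper22.orderOf_of_mem_pgroup p (R : Subgroup G) R.2 _
        ((R : Subgroup G).mul_mem hyR (Subgroup.mem_inf.1 t.2).2)
    have hfib : ∀ t : (N ⊓ (R : Subgroup G) : Subgroup G),
        f ⟨y * (t : G), hmem t⟩ = ⟨yb, k, hk⟩ := by
      intro t
      apply Subtype.ext
      show (QuotientGroup.mk (y * (t : G)) : G ⧸ N) = yb
      rw [QuotientGroup.mk_mul, hy, (QuotientGroup.eq_one_iff (t : G)).2 (Subgroup.mem_inf.1 t.2).1, mul_one]
    let φ : (N ⊓ (R : Subgroup G) : Subgroup G) → {a // f a = ⟨yb, k, hk⟩} :=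
      fun t => ⟨⟨y * (t : G), hmem t⟩, hfib t⟩
    have hφinj : Function.Injective φ := by
      intro t t' h
      have h1 : y * (t : G) = y * (t' : G) := congrArg (fun a => (a.1.1 : G)) h
      exact Subtype.ext (mul_left_cancel h1)
    refine ⟨R, Nat.card_le_card_of_injective φ hφinj, ?_⟩
    intro hcen
    apply Nat.card_eq_of_bijective φ ⟨hφinj, ?_⟩
    rintro ⟨⟨g, k', hk'⟩, ha⟩
    have h1 : (QuotientGroup.mk g : G ⧸ N) = yb := congrArg Subtype.val ha
    have htN : y⁻¹ * g ∈ N := by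
      rw [← QuotientGroup.eq, hy, h1]
    have htc : ∀ c : G, c * (y⁻¹ * g) = (y⁻¹ * g) * c := Subgroup.mem_center_iff.1 (hcen htN)
    have hcomm : Commute y⁻¹ g := by
      have h2 := htc y
      have h3 : g = y⁻¹ * g * y := by
        have : y * (y⁻¹ * g) = g := by group
        rw [← h2, this]
      have h4 : y * g = g * y := by
        calc y * g = y * (y⁻¹ * g * y) := by rw [← h3]
          _ = g * y := by group
      exact Commute.inv_left h4
    have htord : ∃ j : ℕ, orderOf (y⁻¹ * g) = p ^ j := by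
      have h2 := hcomm.orderOf_mul_dvd_lcm
      rw [orderOf_inv, hl, hk'] at h2
      have h3 : (p ^ l).lcm (p ^ k') ∣ p ^ (max l k') :=
        Nat.lcm_dvd (pow_dvd_pow p (le_max_left l k')) (pow_dvd_pow p (le_max_right l k'))
      obtain ⟨j, -, hj⟩ := (Nat.dvd_prime_pow hp).1 (dvd_trans h2 h3)
      exact ⟨j, hj⟩
    obtain ⟨j, hj⟩ := htord
    have htR : y⁻¹ * g ∈ (R : Subgroup G) := by
      have hpg' : IsPGroup p (Subgroup.zpowers (y⁻¹ * g)) := by
        apply IsPGroup.of_card (n := j)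
        rw [Nat.card_zpowers, hj]
      obtain ⟨R', hR'⟩ := hpg'.exists_le_sylow
      obtain ⟨c, hc⟩ := MulAction.exists_smul_eq G R R'
      have h4 : y⁻¹ * g ∈ ((c • R : Sylow p G) : Subgroup G) := by
        rw [hc]; exact hR' (Subgroup.mem_zpowers _)
      rw [Lib.Helper22.mem_smul_sylow_iff] at h4
      have h5 : c⁻¹ * (y⁻¹ * g) * c = y⁻¹ * g := by
        rw [htc c⁻¹]; group
      rwa [h5] at h4
    refine ⟨⟨y⁻¹ * g, Subgroup.mem_inf.2 ⟨htN, htR⟩⟩, ?_⟩
    apply Subtype.ext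
    apply Subtype.ext
    show y * (y⁻¹ * g) = g
    group
  choose R hRle hReq using hfiber
  have hPR : ∀ b, Nat.card (P : Subgroup G) = Nat.card (N ⊓ (R b : Subgroup G) : Subgroup G) *
      Nat.card (Pbar : Subgroup (G ⧸ N)) := fun b => card_sylow_eq p N P (R b) Pbar
  have hlhs : Nat.card {g : (G ⧸ N) // ∃ k : ℕ, orderOf g = p ^ k} * Nat.card (P : Subgroup G) =
      ∑ b : {g : (G ⧸ N) // ∃ k : ℕ, orderOf g = p ^ k},
        Nat.card (N ⊓ (R b : Subgroup G) : Subgroup G) * Nat.card (Pbar : Subgroup (G ⧸ N)) := by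
    rw [Nat.card_eq_fintype_card, ← Finset.card_univ, ← smul_eq_mul, ← Finset.sum_const]
    exact Finset.sum_congr rfl (fun b _ => hPR b)
  constructor
  · rw [hlhs, hcardX, Finset.sum_mul]
    exact Finset.sum_le_sum (fun b _ => Nat.mul_le_mul_right _ (hRle b))
  · intro hcen
    rw [hlhs, hcardX, Finset.sum_mul]
    exact Finset.sum_congr rfl (fun b _ => by rw [hReq b hcen])

end Cfsg.Agent.S4153
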