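import Cfsg.Statements.S3995
import Mathlib
import Cfsg.Agent.Lib.Helper22.Frobenius
import Cfsg.Agent.Lib.Helper19.UniqueInvolution
import Cfsg.Agent.Lib.helper14.Quat

set_option autoImplicit false
open Cfsg

namespace Cfsg.Agent.S3995

open Cfsg.Agent.Lib.Helper22

noncomputable def cnt (G : Type*) [Group G] (e : ℕ) : ℕ := Nat.card {g : G // orderOf g = e}

section
variable {G : Type*} [Group G] [Finite G]

theorem card_pow_eq_one_eq_sum (d : ℕ) (T : Finset ℕ) (hT : ∀ e ∈ T, e ∣ d)
    (hcover : ∀ g : G, g ^ d = 1 → orderOf g ∈ T) :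
    Nat.card {g : G // g ^ d = 1} = ∑ e ∈ T, cnt G e := by
  classical
  let _ : Fintype G := Fintype.ofFinite G
  rw [Nat.card_eq_fintype_card, Fintype.card_subtype]
  rw [Finset.card_eq_sum_card_fiberwise (f := orderOf) (t := T)]
  · apply Finset.sum_congr rfl
    intro e he
    unfold cnt
    rw [Nat.card_eq_fintype_card, Fintype.card_subtype]
    congr 1
    ext g
    simp only [Finset.mem_filter, Finset.mem_univ, true_and]
    constructor
    · rintro ⟨_, h⟩; exact h
    · intro h
      refine ⟨?_, h⟩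
      rw [← h] at he
      exact orderOf_dvd_iff_pow_eq_one.1 (hT _ he)
  · intro g hg
    simp only [Finset.coe_filter, Finset.mem_univ, true_and, Set.mem_setOf_eq] at hg
    exact hcover g hg

theorem frob_sum (d : ℕ) (hd : d ∣ Nat.card G) (T : Finset ℕ) (hT : ∀ e ∈ T, e ∣ d)
    (hcover : ∀ e : ℕ, e ∣ d → e ∈ T) : d ∣ ∑ e ∈ T, cnt G e := by
  rw [← card_pow_eq_one_eq_sum d T hT (fun g hg => hcover _ (orderOf_dvd_of_pow_eq_one hg))]
  exact frobenius d hd

theorem cnt_one : cnt G 1 = 1 := by
  unfold cnt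
  rw [Nat.card_eq_one_iff_unique]
  constructor
  · constructor
    rintro ⟨a, ha⟩ ⟨b, hb⟩
    apply Subtype.ext
    rw [orderOf_eq_one_iff] at ha hb
    show a = b
    rw [ha, hb]
  · exact ⟨⟨1, orderOf_one⟩⟩

theorem cnt_eq_zero (e : ℕ) (h : ¬ ∃ g : G, orderOf g = e) : cnt G e = 0 := by
  unfold cnt
  have : IsEmpty {g : G // orderOf g = e} := ⟨fun x => h ⟨x.1, x.2⟩⟩
  exact Nat.card_of_isEmpty

theorem cnt_ne_one (g : G) (h3 : 3 ≤ orderOf g) : cnt G (orderOf g) ≠ 1 := by
  intro h
  unfold cnt at h
  rw [Nat.card_eq_one_iff_unique] at h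
  obtain ⟨hs, _⟩ := h
  have h1 : (⟨g, rfl⟩ : {x : G // orderOf x = orderOf g}) = ⟨g⁻¹, orderOf_inv g⟩ :=
    Subsingleton.elim _ _
  have h2 : g = g⁻¹ := congrArg Subtype.val h1
  have h4 : g ^ 2 = 1 := by
    rw [pow_two]
    nth_rewrite 2 [h2]
    exact mul_inv_cancel g
  have h5 := orderOf_le_of_pow_eq_one (by norm_num : 0 < 2) h4
  omega

end

theorem uniq_of_cnt_two {G : Type*} [Group G] (hc2 : cnt G 2 = 1) (z : G) (hz : orderOf z = 2) :
    ∀ x : G, orderOf x = 2 → x = z := by
  intro x hx
  unfold cnt at hc2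
  rw [Nat.card_eq_one_iff_unique] at hc2
  obtain ⟨hs, _⟩ := hc2
  have h1 : (⟨x, hx⟩ : {g : G // orderOf g = 2}) = ⟨z, hz⟩ := Subsingleton.elim _ _
  exact congrArg Subtype.val h1

theorem dvd_absurd1 (p a b : ℕ) (hp : p.Prime) (h1 : p ∣ a) (h2 : p ∣ b) (k : ℕ)
    (h : k * a = b + 1) : False := by
  have h3 : p ∣ b + 1 := by rw [← h]; exact h1.mul_left k
  have h4 : p ∣ 1 := (Nat.dvd_add_right h2).1 h3
  exact hp.not_dvd_one h4

theorem dvd_absurd2 (p a b : ℕ) (hp : p.Prime) (hp2 : p ≠ 2) (h1 : p ∣ a) (h2 : p ∣ b) (k : ℕ)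
    (h : k * a = b + 2) : False := by
  have h3 : p ∣ b + 2 := by rw [← h]; exact h1.mul_left k
  have h4 : p ∣ 2 := (Nat.dvd_add_right h2).1 h3
  exact hp2 ((Nat.prime_dvd_prime_iff_eq hp Nat.prime_two).1 h4)

section
variable {G : Type*} [Group G] [Finite G] (n : ℕ)
  (hA : ∀ g : G, cnt G (orderOf g) = 1 ∨ cnt G (orderOf g) = n)
include hA

theorem cnt_big (g : G) (h3 : 3 ≤ orderOf g) : cnt G (orderOf g) = n :=
  (hA g).resolve_left (cnt_ne_one g h3)

theorem cnt_eps (e : ℕ) (h3 : 3 ≤ e) : cnt G e = 0 ∨ cnt G e = n := by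
  by_cases h : ∃ g : G, orderOf g = e
  · obtain ⟨g, rfl⟩ := h
    exact Or.inr (cnt_big n hA g h3)
  · exact Or.inl (cnt_eq_zero e h)

theorem cnt_prime (p : ℕ) (hp : p.Prime) (h3 : 3 ≤ p) (hd : p ∣ Nat.card G) : cnt G p = n := by
  haveI : Fact p.Prime := ⟨hp⟩
  obtain ⟨g, hg⟩ := exists_prime_orderOf_dvd_card' p hd
  rw [← hg]
  exact cnt_big n hA g (by rw [hg]; exact h3)

theorem step1 (p : ℕ) (hp : p.Prime) (hd : p ∣ Nat.card G) : p ∣ 1 + cnt G p := by
  have h := frob_sum (G := G) p hd {1, p} (by
    intro e he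
    simp only [Finset.mem_insert, Finset.mem_singleton] at he
    rcases he with rfl | rfl
    · exact one_dvd _
    · exact dvd_rfl) (by
    intro e he
    simp only [Finset.mem_insert, Finset.mem_singleton]
    exact (Nat.dvd_prime hp).1 he)
  rw [Finset.sum_pair hp.one_lt.ne, cnt_one] at h
  exact h

theorem step2 (p : ℕ) (hp : p.Prime) (hp2 : p ≠ 2) (g : G) (hg : orderOf g = p ^ 2) : False := by
  have h3 : 3 ≤ p := by have := hp.two_le; omega
  have hd2 : p ^ 2 ∣ Nat.card G := hg ▸ orderOf_dvd_natCard g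
  have hd : p ∣ Nat.card G := (dvd_pow_self p (by norm_num)).trans hd2
  have hcp : cnt G p = n := cnt_prime n hA p hp h3 hd
  have hcp2 : cnt G (p ^ 2) = n := by
    rw [← hg]; exact cnt_big n hA g (by rw [hg]; nlinarith)
  have h := frob_sum (G := G) (p ^ 2) hd2 {1, p, p ^ 2} (by
    intro e he
    simp only [Finset.mem_insert, Finset.mem_singleton] at he
    rcases he with rfl | rfl | rfl
    · exact one_dvd _
    · exact dvd_pow_self _ (by norm_num)
    · exact dvd_rfl) (by
    intro e he
    simp only [Finset.mem_insert, Finset.mem_singleton]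
    obtain ⟨k, hk, rfl⟩ := (Nat.dvd_prime_pow hp).1 he
    interval_cases k
    · left; simp
    · right; left; simp
    · right; right; rfl)
  have hlt : p < p ^ 2 := by nlinarith
  rw [Finset.sum_insert (by simp; omega), Finset.sum_pair (by omega), cnt_one, hcp, hcp2] at h
  have h1 := step1 n hA p hp hd
  rw [hcp] at h1
  have h2 : p ∣ 1 + (n + n) := (dvd_pow_self p (by norm_num)).trans h
  exact dvd_absurd1 p (1 + n) (1 + (n + n)) hp h1 h2 2 (by ring)

theorem cnt_two_of_mem (g : G) (hg : orderOf g = 2) : cnt G 2 = 1 ∨ cnt G 2 = n := by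
  have := hA g
  rwa [hg] at this

theorem step3 (g : G) (hg : orderOf g = 8) : False := by
  have hd8 : 8 ∣ Nat.card G := hg ▸ orderOf_dvd_natCard g
  have hd4 : 4 ∣ Nat.card G := (by norm_num : 4 ∣ 8).trans hd8
  have hd2 : 2 ∣ Nat.card G := (by norm_num : 2 ∣ 8).trans hd8
  have ho4 : orderOf (g ^ 2) = 4 := by
    rw [orderOf_pow_of_dvd (by norm_num) (by rw [hg]; norm_num), hg]
  have ho2 : orderOf (g ^ 4) = 2 := by
    rw [orderOf_pow_of_dvd (by norm_num) (by rw [hg]; norm_num), hg]
  have hc8 : cnt G 8 = n := by rw [← hg]; exact cnt_big n hA g (by rw [hg]; norm_num)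
  have hc4 : cnt G 4 = n := by rw [← ho4]; exact cnt_big n hA _ (by rw [ho4]; norm_num)
  have hc2 := cnt_two_of_mem n hA _ ho2
  have h8 := frob_sum (G := G) 8 hd8 {1, 2, 4, 8} (by decide) (by
    intro e he
    have hle : e ≤ 8 := Nat.le_of_dvd (by norm_num) he
    interval_cases e <;> simp_all)
  have h4 := frob_sum (G := G) 4 hd4 {1, 2, 4} (by decide) (by
    intro e he
    have hle : e ≤ 4 := Nat.le_of_dvd (by norm_num) he
    interval_cases e <;> simp_all)
  have h2 := frob_sum (G := G) 2 hd2 {1, 2} (by decide) (by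
    intro e he
    have hle : e ≤ 2 := Nat.le_of_dvd (by norm_num) he
    interval_cases e <;> simp_all)
  rw [Finset.sum_insert (by decide), Finset.sum_insert (by decide), Finset.sum_pair (by decide),
    cnt_one, hc4, hc8] at h8
  rw [Finset.sum_insert (by decide), Finset.sum_pair (by decide), cnt_one, hc4] at h4
  rw [Finset.sum_pair (by decide), cnt_one] at h2
  rcases hc2 with h | h <;> rw [h] at h8 h4 h2 <;> omega

theorem step7 (g : G) (hg : orderOf g = 4) : cnt G 2 = 1 := by
  have hd4 : 4 ∣ Nat.card G := hg ▸ orderOf_dvd_natCard g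
  have hd2 : 2 ∣ Nat.card G := (by norm_num : 2 ∣ 4).trans hd4
  have ho2 : orderOf (g ^ 2) = 2 := by
    rw [orderOf_pow_of_dvd (by norm_num) (by rw [hg]; norm_num), hg]
  have hc4 : cnt G 4 = n := by rw [← hg]; exact cnt_big n hA g (by rw [hg]; norm_num)
  have hc2 := cnt_two_of_mem n hA _ ho2
  have h4 := frob_sum (G := G) 4 hd4 {1, 2, 4} (by decide) (by
    intro e he
    have hle : e ≤ 4 := Nat.le_of_dvd (by norm_num) he
    interval_cases e <;> simp_all)
  have h2 := frob_sum (G := G) 2 hd2 {1, 2} (by decide) (by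
    intro e he
    have hle : e ≤ 2 := Nat.le_of_dvd (by norm_num) he
    interval_cases e <;> simp_all)
  rw [Finset.sum_insert (by decide), Finset.sum_pair (by decide), cnt_one, hc4] at h4
  rw [Finset.sum_pair (by decide), cnt_one] at h2
  rcases hc2 with h | h
  · exact h
  · rw [h] at h4 h2; omega

theorem step4 (p q : ℕ) (hp : p.Prime) (hq : q.Prime) (hp2 : p ≠ 2) (hq2 : q ≠ 2)
    (hpd : p ∣ Nat.card G) (hqd : q ∣ Nat.card G) : p = q := by
  by_contra hne
  have hp3 : 3 ≤ p := by have := hp.two_le; omega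
  have hq3 : 3 ≤ q := by have := hq.two_le; omega
  have hcop : Nat.Coprime p q := (Nat.coprime_primes hp hq).2 hne
  have hd : p * q ∣ Nat.card G := hcop.mul_dvd_of_dvd_of_dvd hpd hqd
  have hcp : cnt G p = n := cnt_prime n hA p hp hp3 hpd
  have hcq : cnt G q = n := cnt_prime n hA q hq hq3 hqd
  have hlt1 : p < p * q := by nlinarith
  have hlt2 : q < p * q := by nlinarith
  have h := frob_sum (G := G) (p * q) hd {1, p, q, p * q} (by
    intro e he
    simp only [Finset.mem_insert, Finset.mem_singleton] at he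
    rcases he with rfl | rfl | rfl | rfl
    · exact one_dvd _
    · exact dvd_mul_right _ _
    · exact dvd_mul_left _ _
    · exact dvd_rfl) (by
    intro e he
    simp only [Finset.mem_insert, Finset.mem_singleton]
    obtain ⟨a, b, ha, hb, rfl⟩ := Nat.dvd_mul.1 he
    rcases (Nat.dvd_prime hp).1 ha with rfl | rfl <;> rcases (Nat.dvd_prime hq).1 hb with rfl | rfl
    · left; simp
    · right; right; left; simp
    · right; left; simp
    · right; right; right; rfl)
  rw [Finset.sum_insert (by simp; omega), Finset.sum_insert (by simp; omega),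
    Finset.sum_pair (by omega), cnt_one, hcp, hcq] at h
  have h1 := step1 n hA p hp hpd
  rw [hcp] at h1
  have h2 : p ∣ 1 + (n + (n + cnt G (p * q))) := (dvd_mul_right p q).trans h
  rcases cnt_eps n hA (p * q) (by nlinarith) with h0 | h0 <;> rw [h0] at h2
  · exact dvd_absurd1 p (1 + n) (1 + (n + (n + 0))) hp h1 h2 2 (by ring)
  · exact dvd_absurd2 p (1 + n) (1 + (n + (n + n))) hp hp2 h1 h2 3 (by ring)

theorem step5 (p : ℕ) (hp : p.Prime) (hp2 : p ≠ 2) (hpd : p ∣ Nat.card G)
    (h2d : 2 ∣ Nat.card G) : cnt G 2 = 1 ∧ cnt G (2 * p) = n := by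
  have hp3 : 3 ≤ p := by have := hp.two_le; omega
  have hcop : Nat.Coprime 2 p := (Nat.coprime_primes Nat.prime_two hp).2 (Ne.symm hp2)
  have hd : 2 * p ∣ Nat.card G := hcop.mul_dvd_of_dvd_of_dvd h2d hpd
  have hcp : cnt G p = n := cnt_prime n hA p hp hp3 hpd
  haveI : Fact (Nat.Prime 2) := ⟨Nat.prime_two⟩
  obtain ⟨t, ht⟩ := exists_prime_orderOf_dvd_card' 2 h2d
  have hc2 := cnt_two_of_mem n hA t ht
  have h := frob_sum (G := G) (2 * p) hd {1, 2, p, 2 * p} (by
    intro e he
    simp only [Finset.mem_insert, Finset.mem_singleton] at he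
    rcases he with rfl | rfl | rfl | rfl
    · exact one_dvd _
    · exact dvd_mul_right _ _
    · exact dvd_mul_left _ _
    · exact dvd_rfl) (by
    intro e he
    simp only [Finset.mem_insert, Finset.mem_singleton]
    obtain ⟨a, b, ha, hb, rfl⟩ := Nat.dvd_mul.1 he
    rcases (Nat.dvd_prime Nat.prime_two).1 ha with rfl | rfl <;>
      rcases (Nat.dvd_prime hp).1 hb with rfl | rfl
    · left; simp
    · right; right; left; simp
    · right; left; simp
    · right; right; right; rfl)
  rw [Finset.sum_insert (by simp; omega), Finset.sum_insert (by simp; omega),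
    Finset.sum_pair (by omega), cnt_one, hcp] at h
  have h1 := step1 n hA p hp hpd
  rw [hcp] at h1
  have h2 : p ∣ 1 + (cnt G 2 + (n + cnt G (2 * p))) := (dvd_mul_left p 2).trans h
  rcases hc2 with hc | hc <;> rcases cnt_eps n hA (2 * p) (by omega) with h0 | h0 <;>
    rw [hc, h0] at h2
  · exact (dvd_absurd1 p (1 + (1 + (n + 0))) (1 + n) hp h2 h1 1 (by ring)).elim
  · exact ⟨hc, h0⟩
  · exact (dvd_absurd1 p (1 + n) (1 + (n + (n + 0))) hp h1 h2 2 (by ring)).elim
  · exact (dvd_absurd2 p (1 + n) (1 + (n + (n + n))) hp hp2 h1 h2 3 (by ring)).elim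

omit hA in
theorem exists_order_four (h4 : 4 ∣ Nat.card G) (hc2 : cnt G 2 = 1) : ∃ g : G, orderOf g = 4 := by
  haveI : Fact (Nat.Prime 2) := ⟨Nat.prime_two⟩
  obtain ⟨K, hK⟩ := Sylow.exists_subgroup_card_pow_prime 2 (show 2 ^ 2 ∣ Nat.card G from h4)
  by_contra hno
  have h2d : 2 ∣ Nat.card G := (by norm_num : 2 ∣ 4).trans h4
  obtain ⟨z, hz⟩ := exists_prime_orderOf_dvd_card' 2 h2d
  have huniq : ∀ x : G, orderOf x = 2 → x = z := by
    intro x hx
    unfold cnt at hc2
    rw [Nat.card_eq_one_iff_unique] at hc2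
    obtain ⟨hs, _⟩ := hc2
    have h1 : (⟨x, hx⟩ : {g : G // orderOf g = 2}) = ⟨z, hz⟩ := Subsingleton.elim _ _
    exact congrArg Subtype.val h1
  have hK2 : ∀ x ∈ K, x = 1 ∨ x = z := by
    intro x hx
    have h1 : orderOf x ∣ 2 ^ 2 := hK ▸ Subgroup.orderOf_dvd_natCard K hx
    obtain ⟨k, hk, hko⟩ := (Nat.dvd_prime_pow Nat.prime_two).1 h1
    interval_cases k
    · left; rw [pow_zero] at hko; exact orderOf_eq_one_iff.1 hko
    · right; exact huniq x (by rw [hko]; norm_num)
    · exact (hno ⟨x, by rw [hko]; norm_num⟩).elim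
  have hsub : (K : Set G) ⊆ {1, z} := by
    intro x hx
    rcases hK2 x hx with h | h
    · left; exact h
    · right; exact h
  have hcard : Nat.card K ≤ 2 := by
    have h5 : Nat.card K = (K : Set G).ncard := Nat.card_coe_set_eq (K : Set G)
    rw [h5]
    have h6 : ({1, z} : Set G).ncard ≤ 2 := by
      have := Set.ncard_insert_le (1 : G) ({z} : Set G)
      rw [Set.ncard_singleton] at this
      exact this
    exact (Set.ncard_le_ncard hsub (Set.toFinite _)).trans h6
  rw [hK] at hcard
  norm_num at hcard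

theorem step6 (p : ℕ) (hp : p.Prime) (hp2 : p ≠ 2) (hpd : p ∣ Nat.card G)
    (h4d : 4 ∣ Nat.card G) : False := by
  have hp3 : 3 ≤ p := by have := hp.two_le; omega
  have h2d : 2 ∣ Nat.card G := (by norm_num : 2 ∣ 4).trans h4d
  obtain ⟨hc2, hc2p⟩ := step5 n hA p hp hp2 hpd h2d
  obtain ⟨g4, hg4⟩ := exists_order_four h4d hc2
  have hc4 : cnt G 4 = n := by rw [← hg4]; exact cnt_big n hA g4 (by rw [hg4]; norm_num)
  have hcp : cnt G p = n := cnt_prime n hA p hp hp3 hpd
  have hcop : Nat.Coprime 4 p := by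
    have : Nat.Coprime 2 p := (Nat.coprime_primes Nat.prime_two hp).2 (Ne.symm hp2)
    exact Nat.Coprime.pow_left 2 this
  have hd : 4 * p ∣ Nat.card G := hcop.mul_dvd_of_dvd_of_dvd h4d hpd
  have hp4 : p ≠ 4 := by
    intro h
    rw [h] at hp
    exact absurd hp (by decide)
  have h := frob_sum (G := G) (4 * p) hd {1, 2, 4, p, 2 * p, 4 * p} (by
    intro e he
    simp only [Finset.mem_insert, Finset.mem_singleton] at he
    rcases he with rfl | rfl | rfl | rfl | rfl | rfl
    · exact one_dvd _
    · exact Dvd.dvd.mul_right (by norm_num) _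
    · exact dvd_mul_right _ _
    · exact dvd_mul_left _ _
    · exact Nat.mul_dvd_mul_right (by norm_num) _
    · exact dvd_rfl) (by
    intro e he
    simp only [Finset.mem_insert, Finset.mem_singleton]
    obtain ⟨a, b, ha, hb, rfl⟩ := Nat.dvd_mul.1 he
    have hle : a ≤ 4 := Nat.le_of_dvd (by norm_num) ha
    rcases (Nat.dvd_prime hp).1 hb with rfl | rfl <;> interval_cases a <;> simp_all)
  rw [Finset.sum_insert (by simp; omega), Finset.sum_insert (by simp; omega),
    Finset.sum_insert (by simp; omega), Finset.sum_insert (by simp; omega),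
    Finset.sum_pair (by omega), cnt_one, hc2, hc4, hcp, hc2p] at h
  have h1 := step1 n hA p hp hpd
  rw [hcp] at h1
  have h2 : p ∣ 1 + (1 + (n + (n + (n + cnt G (4 * p))))) := (dvd_mul_left p 4).trans h
  rcases cnt_eps n hA (4 * p) (by omega) with h0 | h0 <;> rw [h0] at h2
  · exact dvd_absurd1 p (1 + n) (1 + (1 + (n + (n + (n + 0))))) hp h1 h2 3 (by ring)
  · exact dvd_absurd2 p (1 + n) (1 + (1 + (n + (n + (n + n))))) hp hp2 h1 h2 4 (by ring)

theorem ppow_order_le (p : ℕ) (hp : p.Prime) (hp2 : p ≠ 2) (g : G) (k : ℕ)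
    (hg : orderOf g = p ^ k) : k ≤ 1 := by
  by_contra hk
  push Not at hk
  have hd : p ^ (k - 2) ∣ orderOf g := by rw [hg]; exact pow_dvd_pow p (by omega)
  have ho : orderOf (g ^ (p ^ (k - 2))) = p ^ 2 := by
    rw [orderOf_pow_of_dvd (pow_pos hp.pos _).ne' hd, hg]
    rw [Nat.pow_div (by omega) hp.pos]
    congr 1
    omega
  exact step2 n hA p hp hp2 _ ho

theorem two_pow_order_le (g : G) (k : ℕ) (hg : orderOf g = 2 ^ k) : k ≤ 2 := by
  by_contra hk
  push Not at hk
  have hd : 2 ^ (k - 3) ∣ orderOf g := by rw [hg]; exact pow_dvd_pow 2 (by omega)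
  have ho : orderOf (g ^ (2 ^ (k - 3))) = 8 := by
    rw [orderOf_pow_of_dvd (pow_pos (by norm_num) _).ne' hd, hg]
    rw [Nat.pow_div (by omega) (by norm_num)]
    have : k - (k - 3) = 3 := by omega
    rw [this]
  exact step3 n hA _ ho

end

/-- Let G be a finite group such that the numbers of elements of each order that occurs in G (the numbers #{g : o(g) = m}, m ranging over the element orders of G) take exactly two values, 1 and some n ≠ 1. Then either G is a p-group of exponent p and order at least 3 for some prime p, or G is the quaternion group of order 8, or G is cyclic of order 4, or G ≅ Z₂ × P for a p-group P of exponent p with p an odd prime. -/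
theorem result {G : Type*} [Group G] [Finite G] (n : ℕ) (hn : n ≠ 1) (h : ((fun m : ℕ => Nat.card {g : G // orderOf g = m}) '' Set.range (orderOf : G → ℕ)) = {1, n}) :
    (∃ p : ℕ, p.Prime ∧ IsPGroup p G ∧ 3 ≤ Nat.card G ∧ Monoid.exponent G = p) ∨
      Nonempty (G ≃* QuaternionGroup 2) ∨ (IsCyclic G ∧ Nat.card G = 4) ∨
      (∃ (p : ℕ) (P : Type) (_ : Group P) (_ : Finite P), p.Prime ∧ p ≠ 2 ∧ IsPGroup p P ∧ Monoid.exponent P = p ∧
        Nonempty (G ≃* Multiplicative (ZMod 2) × P)) := by
  have hA : ∀ g : G, cnt G (orderOf g) = 1 ∨ cnt G (orderOf g) = n := by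
    intro g
    have h1 : (fun m : ℕ => Nat.card {g : G // orderOf g = m}) (orderOf g) ∈ ({1, n} : Set ℕ) := by
      rw [← h]; exact ⟨orderOf g, ⟨g, rfl⟩, rfl⟩
    exact h1
  have hB : ∃ g : G, cnt G (orderOf g) = n := by
    have h1 : n ∈ ({1, n} : Set ℕ) := by simp
    rw [← h] at h1
    obtain ⟨m, ⟨g, rfl⟩, hm⟩ := h1
    exact ⟨g, hm⟩
  obtain ⟨g₀, hg₀⟩ := hB
  have hg₀1 : orderOf g₀ ≠ 1 := by
    intro h1
    rw [h1, cnt_one] at hg₀
    exact hn hg₀.symm
  have hn2 : 2 ≤ n := by
    have h1 : 0 < n := by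
      rw [← hg₀]
      unfold cnt
      haveI : Nonempty {g : G // orderOf g = orderOf g₀} := ⟨⟨g₀, rfl⟩⟩
      exact Nat.card_pos
    omega
  have hcard3 : 3 ≤ Nat.card G := by
    have h1 : n < Nat.card G := by
      rw [← hg₀]
      unfold cnt
      apply Finite.card_subtype_lt (x := (1 : G))
      rw [orderOf_one]
      exact fun h => hg₀1 h.symm
    omega
  have hcpos : Nat.card G ≠ 0 := by omega
  by_cases hodd : ∃ p : ℕ, p.Prime ∧ p ≠ 2 ∧ p ∣ Nat.card G
  · obtain ⟨p, hp, hp2, hpd⟩ := hodd
    haveI : Fact p.Prime := ⟨hp⟩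
    have hp3 : 3 ≤ p := by have := hp.two_le; omega
    by_cases h2d : 2 ∣ Nat.card G
    · right; right; right
      haveI : Fact (Nat.Prime 2) := ⟨Nat.prime_two⟩
      obtain ⟨hc2, _⟩ := step5 n hA p hp hp2 hpd h2d
      have h4 : ¬ 4 ∣ Nat.card G := fun h => step6 n hA p hp hp2 hpd h
      let P : Sylow p G := default
      obtain ⟨j, hj⟩ := (IsPGroup.iff_card).1 P.isPGroup'
      have hidx : (P : Subgroup G).index = 2 := by
        have hnd : ¬ p ∣ (P : Subgroup G).index := P.not_dvd_index
        have hidvd : (P : Subgroup G).index ∣ Nat.card G := Subgroup.index_dvd_card _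
        have hpow : (P : Subgroup G).index =
            2 ^ ((P : Subgroup G).index).primeFactorsList.length := by
          apply Nat.eq_prime_pow_of_unique_prime_dvd Subgroup.index_ne_zero_of_finite
          intro d hd hdd
          by_contra hd2
          have h5 := step4 n hA d p hd hp hd2 hp2 (hdd.trans hidvd) hpd
          exact hnd (h5 ▸ hdd)
        have hk1 : ((P : Subgroup G).index).primeFactorsList.length ≤ 1 := by
          by_contra hk
          push Not at hk
          apply h4
          have h5 : (2 : ℕ) ^ 2 ∣ 2 ^ ((P : Subgroup G).index).primeFactorsList.length :=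
            pow_dvd_pow 2 hk
          rw [← hpow] at h5
          exact h5.trans hidvd
        have hk0 : ((P : Subgroup G).index).primeFactorsList.length ≠ 0 := by
          intro hk
          rw [hk, pow_zero] at hpow
          have hcP := (P : Subgroup G).card_mul_index
          rw [hpow, mul_one] at hcP
          rw [← hcP, hj] at h2d
          have h6 := Nat.Prime.dvd_of_dvd_pow Nat.prime_two h2d
          exact hp2 ((Nat.prime_dvd_prime_iff_eq Nat.prime_two hp).1 h6).symm
        have hk : ((P : Subgroup G).index).primeFactorsList.length = 1 := by omega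
        rw [hpow, hk, pow_one]
      haveI hPn : (P : Subgroup G).Normal := Subgroup.normal_of_index_eq_two hidx
      obtain ⟨z, hzo⟩ := exists_prime_orderOf_dvd_card' 2 h2d
      have huniq2 : ∀ x : G, orderOf x = 2 → x = z := uniq_of_cnt_two hc2 z hzo
      have hzc : ∀ g : G, g * z = z * g := by
        intro g
        have h1 : orderOf (g * z * g⁻¹) = 2 := by
          rw [← MulAut.conj_apply, MulEquiv.orderOf_eq, hzo]
        have h2 := huniq2 _ h1
        calc g * z = (g * z * g⁻¹) * g := by group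
          _ = z * g := by rw [h2]
      have hzP : z ∉ (P : Subgroup G) := by
        intro hz
        have h1 : orderOf z ∣ Nat.card (P : Subgroup G) := Subgroup.orderOf_dvd_natCard _ hz
        rw [hzo, hj] at h1
        have h6 := Nat.Prime.dvd_of_dvd_pow Nat.prime_two h1
        exact hp2 ((Nat.prime_dvd_prime_iff_eq Nat.prime_two hp).1 h6).symm
      have hz2 : z ^ 2 = 1 := by rw [← hzo]; exact pow_orderOf_eq_one z
      have hzpc : ∀ (i : ZMod 2) (g : G), g * Cfsg.Agent.Lib.helper14.zmodPow 2 z hz2 i =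
          Cfsg.Agent.Lib.helper14.zmodPow 2 z hz2 i * g := by
        intro i g
        rw [Cfsg.Agent.Lib.helper14.zmodPow_eq_pow]
        have : Commute g z := hzc g
        exact (this.pow_right _).eq
      let ψ : Multiplicative (ZMod 2) × ↥(P : Subgroup G) →* G :=
        { toFun := fun x => Cfsg.Agent.Lib.helper14.zmodPow 2 z hz2 (Multiplicative.toAdd x.1) *
            (x.2 : G)
          map_one' := by
            show Cfsg.Agent.Lib.helper14.zmodPow 2 z hz2 0 * ((1 : ↥(P : Subgroup G)) : G) = 1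
            rw [Cfsg.Agent.Lib.helper14.zmodPow_zero]
            simp
          map_mul' := fun x y => by
            show Cfsg.Agent.Lib.helper14.zmodPow 2 z hz2
                (Multiplicative.toAdd x.1 + Multiplicative.toAdd y.1) * ((x.2 : G) * (y.2 : G)) =
              Cfsg.Agent.Lib.helper14.zmodPow 2 z hz2 (Multiplicative.toAdd x.1) * (x.2 : G) *
              (Cfsg.Agent.Lib.helper14.zmodPow 2 z hz2 (Multiplicative.toAdd y.1) * (y.2 : G))
            rw [Cfsg.Agent.Lib.helper14.zmodPow_add]
            rw [mul_assoc, mul_assoc, ← mul_assoc _ (x.2 : G) (y.2 : G),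
              ← hzpc (Multiplicative.toAdd y.1) (x.2 : G)]
            simp only [mul_assoc] }
      have hψ : ∀ x, ψ x = Cfsg.Agent.Lib.helper14.zmodPow 2 z hz2 (Multiplicative.toAdd x.1) *
          (x.2 : G) := fun x => rfl
      have hinj : Function.Injective ψ := by
        rw [injective_iff_map_eq_one]
        rintro ⟨a, u⟩ hx
        rw [hψ] at hx
        have hcases : Multiplicative.toAdd a = 0 ∨ Multiplicative.toAdd a = 1 := by
          generalize Multiplicative.toAdd a = i
          fin_cases i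
          · left; rfl
          · right; rfl
        rcases hcases with h0 | h0
        · simp only [h0, Cfsg.Agent.Lib.helper14.zmodPow_zero, one_mul] at hx
          apply Prod.ext
          · show a = 1
            have : a = Multiplicative.ofAdd (Multiplicative.toAdd a) := rfl
            rw [this, h0]; rfl
          · exact Subtype.ext hx
        · exfalso
          simp only [h0] at hx
          rw [Cfsg.Agent.Lib.helper14.zmodPow_eq_pow] at hx
          have h1 : (1 : ZMod 2).val = 1 := rfl
          rw [h1, pow_one] at hx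
          apply hzP
          have : z = (u : G)⁻¹ := eq_inv_of_mul_eq_one_left hx
          rw [this]
          exact Subgroup.inv_mem _ u.2
      have hcardeq : Nat.card (Multiplicative (ZMod 2) × ↥(P : Subgroup G)) = Nat.card G := by
        rw [Nat.card_prod, ← (P : Subgroup G).card_mul_index, hidx, mul_comm]
        congr 1
        exact (Nat.card_congr Multiplicative.toAdd).trans (Nat.card_zmod 2)
      have hbij : Function.Bijective ψ :=
        (Nat.bijective_iff_injective_and_card ψ).2 ⟨hinj, hcardeq⟩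
      have hexpP : Monoid.exponent ↥(P : Subgroup G) = p := by
        haveI : Nontrivial ↥(P : Subgroup G) := by
          rw [← Finite.one_lt_card_iff_nontrivial]
          have hcP := (P : Subgroup G).card_mul_index
          rw [hidx] at hcP
          have h1 : p ∣ Nat.card (P : Subgroup G) * 2 := hcP ▸ hpd
          rcases (Nat.Prime.dvd_mul hp).1 h1 with h | h
          · have := Nat.le_of_dvd Nat.card_pos h
            omega
          · exact (hp2 ((Nat.prime_dvd_prime_iff_eq hp Nat.prime_two).1 h)).elim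
        rw [Monoid.exponent_eq_prime_iff hp]
        intro u hu1
        obtain ⟨k, hk⟩ := (IsPGroup.iff_orderOf.1 P.isPGroup') u
        have hk' : orderOf (u : G) = p ^ k := by rw [Subgroup.orderOf_coe]; exact hk
        have hk1 := ppow_order_le n hA p hp hp2 (u : G) k hk'
        interval_cases k
        · rw [pow_zero, orderOf_eq_one_iff] at hk
          exact (hu1 hk).elim
        · rw [hk, pow_one]
      refine ⟨p, Shrink.{0} ↥(P : Subgroup G), inferInstance, inferInstance, hp, hp2, ?_, ?_, ⟨?_⟩⟩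
      · exact P.isPGroup'.of_equiv (Shrink.mulEquiv.{0, _} (α := ↥(P : Subgroup G))).symm
      · rw [Monoid.exponent_eq_of_mulEquiv (Shrink.mulEquiv.{0, _} (α := ↥(P : Subgroup G)))]
        exact hexpP
      · exact (MulEquiv.ofBijective ψ hbij).symm.trans
          (MulEquiv.prodCongr (MulEquiv.refl _) (Shrink.mulEquiv.{0, _} (α := ↥(P : Subgroup G))).symm)
    · left
      have hpow : Nat.card G = p ^ (Nat.card G).primeFactorsList.length := by
        apply Nat.eq_prime_pow_of_unique_prime_dvd hcpos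
        intro d hd hdd
        have hd2 : d ≠ 2 := fun h => h2d (h ▸ hdd)
        exact step4 n hA d p hd hp hd2 hp2 hdd hpd
      have hPG : IsPGroup p G := IsPGroup.of_card hpow
      refine ⟨p, hp, hPG, hcard3, ?_⟩
      haveI : Nontrivial G := by
        rw [← Finite.one_lt_card_iff_nontrivial]
        omega
      rw [Monoid.exponent_eq_prime_iff hp]
      intro g hg1
      obtain ⟨k, hk⟩ := (IsPGroup.iff_orderOf.1 hPG) g
      have hk1 := ppow_order_le n hA p hp hp2 g k hk
      interval_cases k
      · rw [pow_zero, orderOf_eq_one_iff] at hk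
        exact (hg1 hk).elim
      · rw [hk, pow_one]
  · push Not at hodd
    have hpow : Nat.card G = 2 ^ (Nat.card G).primeFactorsList.length := by
      apply Nat.eq_prime_pow_of_unique_prime_dvd hcpos
      intro d hd hdd
      by_contra hd2
      exact hodd d hd hd2 hdd
    have hPG : IsPGroup 2 G := IsPGroup.of_card hpow
    haveI : Fact (Nat.Prime 2) := ⟨Nat.prime_two⟩
    haveI : Nontrivial G := by
      rw [← Finite.one_lt_card_iff_nontrivial]
      omega
    have hord : ∀ g : G, orderOf g = 1 ∨ orderOf g = 2 ∨ orderOf g = 4 := by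
      intro g
      obtain ⟨k, hk⟩ := (IsPGroup.iff_orderOf.1 hPG) g
      have hk2 := two_pow_order_le n hA g k hk
      interval_cases k
      · left; rw [hk]; norm_num
      · right; left; rw [hk]; norm_num
      · right; right; rw [hk]; norm_num
    by_cases h4 : ∃ g : G, orderOf g = 4
    · obtain ⟨g4, hg4⟩ := h4
      have hc2 : cnt G 2 = 1 := step7 n hA g4 hg4
      have hzo : orderOf (g4 ^ 2) = 2 := by
        rw [orderOf_pow_of_dvd (by norm_num) (by rw [hg4]; norm_num), hg4]
      have hz1 : g4 ^ 2 ≠ 1 := by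
        intro h
        rw [h, orderOf_one] at hzo
        norm_num at hzo
      have hz2 : g4 ^ 2 * g4 ^ 2 = 1 := by
        have h5 := pow_orderOf_eq_one (g4 ^ 2)
        rw [hzo] at h5
        rw [← pow_two]
        exact h5
      have huniq2 : ∀ x : G, orderOf x = 2 → x = g4 ^ 2 := uniq_of_cnt_two hc2 _ hzo
      have huniq : ∀ u : G, u * u = 1 → u = 1 ∨ u = g4 ^ 2 := by
        intro u hu
        have h1 : orderOf u ∣ 2 := orderOf_dvd_of_pow_eq_one (by rw [pow_two]; exact hu)
        rcases (Nat.dvd_prime Nat.prime_two).1 h1 with h | h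
        · left; exact orderOf_eq_one_iff.1 h
        · right; exact huniq2 u h
      by_cases hab : ∀ a b : G, a * b = b * a
      · right; right; left
        obtain ⟨a, _, ha⟩ := Cfsg.Agent.Lib.Helper19.cyclic_of_comm_unique_involution hPG
          (g4 ^ 2) huniq ⊤ (fun a _ b _ => hab a b)
        have hcyc : IsCyclic G := ⟨⟨a, fun g => by
          have h1 : g ∈ (⊤ : Subgroup G) := Subgroup.mem_top g
          rw [ha] at h1
          exact h1⟩⟩
        refine ⟨hcyc, ?_⟩
        have hca : Nat.card G = orderOf a := by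
          rw [← Nat.card_zpowers, ← ha]; exact (Subgroup.card_top).symm
        rcases hord a with h1 | h1 | h1 <;> omega
      · right; left
        obtain ⟨m, hm2, a, y, hao, hya, hinv, hyy, haz, hcover, hcardG⟩ :=
          Cfsg.Agent.Lib.Helper19.quaternion_structure hPG (g4 ^ 2) hz1 hz2 huniq hab
        have hm : m = 2 := by
          have := two_pow_order_le n hA a m hao
          omega
        subst hm
        obtain ⟨hqc, ⟨e⟩⟩ := Cfsg.Agent.Lib.helper14.quaternion_closure 2 (by norm_num) a y
          (by rw [hao]; norm_num) (by rw [hyy, ← haz]; norm_num) hinv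
        have htop : Subgroup.closure ({a, y} : Set G) = ⊤ := by
          apply Subgroup.eq_top_of_card_eq
          rw [hqc, hcardG]
          norm_num
        exact ⟨(Subgroup.topEquiv.symm.trans (MulEquiv.subgroupCongr htop.symm)).trans e⟩
    · left
      refine ⟨2, Nat.prime_two, hPG, hcard3, ?_⟩
      rw [Monoid.exponent_eq_prime_iff Nat.prime_two]
      intro g hg1
      rcases hord g with h1 | h1 | h1
      · rw [orderOf_eq_one_iff] at h1; exact (hg1 h1).elim
      · exact h1
      · exact (h4 ⟨g, h1⟩).elim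

end Cfsg.Agent.S3995
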