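import Mathlib
import Cfsg.Statements.S2910
import Cfsg.Agent.Lib.Helper21.FrobeniusNPC
import Cfsg.Agent.Lib.Helper21.OmegaLemma

set_option autoImplicit false
open Cfsg

namespace Cfsg.Agent.S2910

open Cfsg.Agent.Lib.Helper21

/-- A perfect finite group with a normal `p`-complement has order prime to `p`. -/
theorem not_dvd_card_of_perfect {G : Type*} [Group G] [Finite G] {p : ℕ} [hp : Fact p.Prime]
    (hperf : Group.IsPerfect G) (P : Sylow p G) (N : Subgroup G) (hN : N.Normal)
    (hc : N.IsComplement' (P : Subgroup G)) : ¬ p ∣ Nat.card G := by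
  intro hdiv
  haveI := hN
  -- G/N is a p-group
  have hidx : N.index = Nat.card (P : Subgroup G) := by
    have h1 := hc.card_mul
    have h2 := N.card_mul_index
    have hpos : 0 < Nat.card N := Nat.card_pos
    exact Nat.eq_of_mul_eq_mul_left hpos (h2.trans h1.symm)
  have hQp : IsPGroup p (G ⧸ N) := by
    obtain ⟨k, hk⟩ := IsPGroup.iff_card.mp P.isPGroup'
    apply IsPGroup.of_card (n := k)
    rw [← Subgroup.index_eq_card, hidx, hk]
  haveI : Group.IsNilpotent (G ⧸ N) := hQp.isNilpotent
  haveI := hperf
  haveI : Group.IsPerfect (G ⧸ N) := inferInstance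
  have hsub : Subsingleton (G ⧸ N) := by
    by_contra hns
    rw [not_subsingleton_iff_nontrivial] at hns
    haveI := hns
    exact Group.IsPerfect.not_isNilpotent (G ⧸ N) inferInstance
  have hidx1 : N.index = 1 := by
    rw [Subgroup.index_eq_card]; exact Nat.card_eq_one_iff_unique.mpr ⟨hsub, ⟨1⟩⟩
  have hP1 : Nat.card (P : Subgroup G) = 1 := by rw [← hidx, hidx1]
  have := P.card_eq_multiplicity
  rw [hP1] at this
  have hfac : (Nat.card G).factorization p = 0 := by
    by_contra h0
    have : 1 < p ^ (Nat.card G).factorization p := Nat.one_lt_pow h0 hp.out.one_lt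
    omega
  rcases (Nat.factorization_eq_zero_iff _ _).mp hfac with h | h | h
  · exact h hp.out
  · exact h hdiv
  · exact Nat.card_pos.ne' h

/-- Let p be an odd prime dividing the order of the finite group G and P a Sylow p-subgroup of G. If Ω₁(P) (generated by the elements of order dividing p) is contained in the centre of G, then G has a normal p-complement. In particular, if G is quasisimple then Ω₁(P) is not central in G. -/
theorem result {G : Type*} [Group G] [Finite G] {p : ℕ} [Fact p.Prime] (hp : p ≠ 2) (hdiv : p ∣ Nat.card G) (P : Sylow p G) (hZ : Cfsg.omegaOne p (P : Subgroup G) ≤ Subgroup.center G) : Cfsg.HasNormalPComplement p G ∧ ¬ Cfsg.IsQuasisimple G := by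
  have hF : FrobHyp p G := by
    apply frobHyp_of_sylow P
    intro Q hQP g hg hcop
    apply comm_of_comm_small g hcop Q (P.isPGroup'.to_le hQP) hg
    intro a ha hsm
    rcases hsm with h1 | ⟨h2, _⟩
    · have hmem : a ∈ Cfsg.omegaOne p (P : Subgroup G) :=
        Subgroup.subset_closure ⟨hQP ha, h1⟩
      have hc := hZ hmem
      rw [Subgroup.mem_center_iff] at hc
      exact hc g
    · exact absurd h2 hp
  obtain ⟨N, hNn, hNc⟩ := hF.exists_normal_complement P
  refine ⟨⟨P, N, hNn, hNc⟩, ?_⟩
  rintro ⟨hperf, -⟩
  exact not_dvd_card_of_perfect hperf P N hNn hNc hdiv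

end Cfsg.Agent.S2910
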