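import Mathlib
import Cfsg.Statements.S3378
import Cfsg.Agent.S0144
import Cfsg.Agent.S0494
import Cfsg.Agent.S3377
import Cfsg.Agent.Lib.helper8.SylowBasic
import Cfsg.Agent.Lib.Helper19.SL25Pres
-- import your own Cfsg.Agent.* helpers here

set_option autoImplicit false
open Cfsg

namespace Cfsg.Agent.S3378


open Subgroup Cfsg.Agent.Lib.helper8

lemma solv_of_dvd60 {H : Type*} [Group H] [Finite H] (h : Nat.card H ∣ 60)
    (hne : Nat.card H ≠ 60) : Group.IsSolvable H := by
  have hmem : Nat.card H ∈ Nat.divisors 60 := Nat.mem_divisors.mpr ⟨h, by norm_num⟩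
  have hd : Nat.divisors 60 = {1, 2, 3, 4, 5, 6, 10, 12, 15, 20, 30, 60} := by decide
  rw [hd] at hmem
  simp only [Finset.mem_insert, Finset.mem_singleton] at hmem
  have p2 := Nat.prime_two
  have p3 := Nat.prime_three
  have p5 : Nat.Prime 5 := by norm_num
  rcases hmem with h1 | h1 | h1 | h1 | h1 | h1 | h1 | h1 | h1 | h1 | h1 | h1
  · exact Cfsg.Agent.S0144.result 2 3 0 0 p2 p3 (by rw [h1]; norm_num)
  · exact Cfsg.Agent.S0144.result 2 3 1 0 p2 p3 (by rw [h1]; norm_num)
  · exact Cfsg.Agent.S0144.result 2 3 0 1 p2 p3 (by rw [h1]; norm_num)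
  · exact Cfsg.Agent.S0144.result 2 3 2 0 p2 p3 (by rw [h1]; norm_num)
  · exact Cfsg.Agent.S0144.result 2 5 0 1 p2 p5 (by rw [h1]; norm_num)
  · exact Cfsg.Agent.S0144.result 2 3 1 1 p2 p3 (by rw [h1]; norm_num)
  · exact Cfsg.Agent.S0144.result 2 5 1 1 p2 p5 (by rw [h1]; norm_num)
  · exact Cfsg.Agent.S0144.result 2 3 2 1 p2 p3 (by rw [h1]; norm_num)
  · exact Cfsg.Agent.S0144.result 3 5 1 1 p3 p5 (by rw [h1]; norm_num)
  · exact Cfsg.Agent.S0144.result 2 5 2 1 p2 p5 (by rw [h1]; norm_num)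
  · have : IsZGroup H := IsZGroup.of_squarefree (by rw [h1]; decide +kernel)
    infer_instance
  · exact absurd h1 hne

lemma quat_facts : ∀ q r : QuaternionGroup 2, q ≠ 1 → r ^ 2 = 1 → r ≠ 1 → (r = q ∨ r = q ^ 2) := by
  decide


section
variable {G : Type*} [Group G] [Finite G]

lemma solv_of_normal (N : Subgroup G) [N.Normal] (h1 : Group.IsSolvable N)
    (h2 : Group.IsSolvable (G ⧸ N)) : Group.IsSolvable G :=
  Group.isSolvable_of_ker_le_range N.subtype (QuotientGroup.mk' N) (by simp)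

lemma card_quot (N : Subgroup G) [N.Normal] : Nat.card (G ⧸ N) * Nat.card N = Nat.card G := by
  rw [← Subgroup.index_eq_card, mul_comm]; exact N.card_mul_index

lemma card_syl5 [Fact (Nat.Prime 5)] (hcard : Nat.card G = 120) (hns : ¬ Group.IsSolvable G) :
    Nat.card (Sylow 5 G) = 6 := by
  have hG : Nat.card G = 5 ^ 1 * 24 := by rw [hcard]; norm_num
  have hm : ¬ 5 ∣ 24 := by decide
  have hmem := h8_nsylow_mem 5 1 24 hG hm
  have hdiv : (Nat.divisors 24).filter (fun d => d % 5 = 1) = {1, 6} := by decide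
  rw [hdiv] at hmem
  simp only [Finset.mem_insert, Finset.mem_singleton] at hmem
  rcases hmem with h1 | h6
  · exfalso; apply hns
    obtain ⟨P⟩ : Nonempty (Sylow 5 G) := inferInstance
    have := h8_normal_of_nsylow_eq_one 5 h1 P
    have hP : Nat.card (P : Subgroup G) = 5 := by
      have := h8_sylow_card 5 1 24 hG hm P; simpa using this
    have hq := card_quot (P : Subgroup G)
    rw [hP, hcard] at hq
    have hq' : Nat.card (G ⧸ (P : Subgroup G)) = 24 := by omega
    exact solv_of_normal (P : Subgroup G)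
      (Cfsg.Agent.S0144.result 5 2 1 0 (by norm_num) Nat.prime_two (by rw [hP]; norm_num))
      (Cfsg.Agent.S0144.result 2 3 3 1 Nat.prime_two Nat.prime_three (by rw [hq']; norm_num))
  · exact h6

lemma card_normalizer5 [Fact (Nat.Prime 5)] (hcard : Nat.card G = 120)
    (hns : ¬ Group.IsSolvable G) (Q : Sylow 5 G) :
    Nat.card (normalizer ((Q : Subgroup G) : Set G)) = 20 := by
  have := h8_card_normalizer_sylow 5 Q
  rw [card_syl5 hcard hns, hcard] at this
  omega

lemma card_sylow5 [Fact (Nat.Prime 5)] (hcard : Nat.card G = 120) (Q : Sylow 5 G) :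
    Nat.card (Q : Subgroup G) = 5 := by
  have hG : Nat.card G = 5 ^ 1 * 24 := by rw [hcard]; norm_num
  have := h8_sylow_card 5 1 24 hG (by decide) Q; simpa using this

lemma card_sylow2 [Fact (Nat.Prime 2)] (hcard : Nat.card G = 120) (S : Sylow 2 G) :
    Nat.card (S : Subgroup G) = 8 := by
  have hG : Nat.card G = 2 ^ 3 * 15 := by rw [hcard]; norm_num
  have := h8_sylow_card 2 3 15 hG (by decide) S; simpa using this

/-- every involution normalizes every Sylow 5-subgroup -/
lemma invol_mem_normalizer [Fact (Nat.Prime 5)] [Fact (Nat.Prime 2)] (hcard : Nat.card G = 120)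
    (hns : ¬ Group.IsSolvable G)
    (hQ : ∀ P : Sylow 2 G, Nonempty ((P : Subgroup G) ≃* QuaternionGroup 2))
    (t : G) (ht : t ^ 2 = 1) (ht1 : t ≠ 1) (Q : Sylow 5 G) :
    t ∈ normalizer ((Q : Subgroup G) : Set G) := by
  have hpg : IsPGroup 2 (zpowers t) := by
    apply IsPGroup.of_card (n := 1)
    rw [Nat.card_zpowers, orderOf_eq_prime ht ht1]; norm_num
  obtain ⟨S, hS⟩ := hpg.exists_le_sylow
  have htS : t ∈ (S : Subgroup G) := hS (mem_zpowers t)
  obtain ⟨e⟩ := hQ S
  set N := normalizer ((Q : Subgroup G) : Set G) with hN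
  have hne : (S : Subgroup G) ⊓ N ≠ ⊥ := by
    intro hbot
    have hdis : Disjoint (S : Subgroup G) N := disjoint_iff.mpr hbot
    have hinj := Subgroup.mul_injective_of_disjoint hdis
    have hle := Nat.card_le_card_of_injective _ hinj
    rw [Nat.card_prod, card_sylow2 hcard S, card_normalizer5 hcard hns Q, hcard] at hle
    omega
  obtain ⟨⟨u, hu⟩, hu1⟩ := (Subgroup.ne_bot_iff_exists_ne_one (H := (S : Subgroup G) ⊓ N)).mp hne
  have huS : u ∈ (S : Subgroup G) := hu.1
  have huN : u ∈ N := hu.2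
  have hu1' : u ≠ 1 := fun h => hu1 (Subtype.ext h)
  have hq : e ⟨u, huS⟩ ≠ 1 := by
    intro h
    apply hu1'
    have := e.injective (h.trans (map_one e).symm)
    exact congrArg Subtype.val this
  have hr2 : (e ⟨t, htS⟩) ^ 2 = 1 := by
    rw [← map_pow]
    have : (⟨t, htS⟩ : (S : Subgroup G)) ^ 2 = 1 := Subtype.ext (by simpa using ht)
    rw [this, map_one]
  have hr1 : e ⟨t, htS⟩ ≠ 1 := by
    intro h
    apply ht1
    have := e.injective (h.trans (map_one e).symm)
    exact congrArg Subtype.val this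
  rcases quat_facts _ _ hq hr2 hr1 with h | h
  · have := e.injective h
    have : t = u := congrArg Subtype.val this
    rw [this]; exact huN
  · rw [← map_pow] at h
    have := e.injective h
    have : t = u ^ 2 := congrArg Subtype.val this
    rw [this]; exact N.pow_mem huN 2


/-- the kernel of the action on the Sylow 5-subgroups -/
def K5 (G : Type*) [Group G] [Fact (Nat.Prime 5)] : Subgroup G :=
  (MulAction.toPermHom G (Sylow 5 G)).ker

instance K5_normal [Fact (Nat.Prime 5)] : (K5 G).Normal := MonoidHom.normal_ker _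

omit [Finite G] in
lemma mem_K5 [Fact (Nat.Prime 5)] {g : G} :
    g ∈ K5 G ↔ ∀ Q : Sylow 5 G, g ∈ normalizer ((Q : Subgroup G) : Set G) := by
  unfold K5
  rw [MonoidHom.mem_ker, Equiv.Perm.ext_iff]
  constructor
  · intro h Q
    have := h Q
    rw [MulAction.toPermHom_apply, MulAction.toPerm_apply, Equiv.Perm.one_apply] at this
    exact Sylow.smul_eq_iff_mem_normalizer.mp this
  · intro h Q
    rw [MulAction.toPermHom_apply, MulAction.toPerm_apply, Equiv.Perm.one_apply]
    exact Sylow.smul_eq_iff_mem_normalizer.mpr (h Q)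

lemma invol_mem_K5 [Fact (Nat.Prime 5)] [Fact (Nat.Prime 2)] (hcard : Nat.card G = 120)
    (hns : ¬ Group.IsSolvable G)
    (hQ : ∀ P : Sylow 2 G, Nonempty ((P : Subgroup G) ≃* QuaternionGroup 2))
    (t : G) (ht : t ^ 2 = 1) (ht1 : t ≠ 1) : t ∈ K5 G :=
  mem_K5.mpr (fun Q => invol_mem_normalizer hcard hns hQ t ht ht1 Q)

lemma not_five_dvd_card_K5 [Fact (Nat.Prime 5)] (hcard : Nat.card G = 120)
    (hns : ¬ Group.IsSolvable G) : ¬ 5 ∣ Nat.card (K5 G) := by
  intro h5
  obtain ⟨⟨g, hgK⟩, hg⟩ := exists_prime_orderOf_dvd_card' (G := K5 G) 5 h5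
  have hg5 : orderOf g = 5 := by
    rw [← hg]; exact (Subgroup.orderOf_mk g hgK).symm
  have hpg : IsPGroup 5 (zpowers g) := by
    apply IsPGroup.of_card (n := 1)
    rw [Nat.card_zpowers, hg5]; norm_num
  have hall : ∀ Q : Sylow 5 G, (Q : Subgroup G) = zpowers g := by
    intro Q
    have h1 : zpowers g ≤ normalizer ((Q : Subgroup G) : Set G) := by
      rw [zpowers_le]; exact mem_K5.mp hgK Q
    have h2 : zpowers g ⊓ normalizer ((Q : Subgroup G) : Set G) = zpowers g ⊓ (Q : Subgroup G) :=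
      hpg.inf_normalizer_sylow Q
    have h3 : zpowers g ≤ (Q : Subgroup G) := by
      have : zpowers g ⊓ normalizer ((Q : Subgroup G) : Set G) = zpowers g := inf_eq_left.mpr h1
      rw [this] at h2
      exact inf_eq_left.mp h2.symm
    symm
    apply Subgroup.eq_of_le_of_card_ge h3
    rw [card_sylow5 hcard Q, Nat.card_zpowers, hg5]
  have hsub : Subsingleton (Sylow 5 G) := by
    constructor
    intro Q1 Q2
    apply Sylow.ext
    rw [hall Q1, hall Q2]
  have := card_syl5 hcard hns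
  rw [Nat.card_eq_one_iff_unique.mpr ⟨hsub, inferInstance⟩] at this
  omega


lemma card_K5 [Fact (Nat.Prime 5)] [Fact (Nat.Prime 2)] (hcard : Nat.card G = 120)
    (hns : ¬ Group.IsSolvable G)
    (hQ : ∀ P : Sylow 2 G, Nonempty ((P : Subgroup G) ≃* QuaternionGroup 2)) :
    Nat.card (K5 G) = 2 := by
  obtain ⟨Q⟩ : Nonempty (Sylow 5 G) := inferInstance
  have hle : K5 G ≤ normalizer ((Q : Subgroup G) : Set G) := fun g hg => mem_K5.mp hg Q
  have hdvd : Nat.card (K5 G) ∣ 20 := by
    rw [← card_normalizer5 hcard hns Q]; exact Subgroup.card_dvd_of_le hle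
  have h5 := not_five_dvd_card_K5 hcard hns
  have h4 : Nat.card (K5 G) ∣ 4 := by
    have hcop : Nat.Coprime (Nat.card (K5 G)) 5 :=
      ((Nat.Prime.coprime_iff_not_dvd (by norm_num)).mpr h5).symm
    exact hcop.dvd_of_dvd_mul_right (by simpa using hdvd)
  obtain ⟨t, ht⟩ := exists_prime_orderOf_dvd_card' (G := G) 2 (by rw [hcard]; norm_num)
  have ht2 : t ^ 2 = 1 := by rw [← ht]; exact pow_orderOf_eq_one t
  have ht1 : t ≠ 1 := by intro h; rw [h, orderOf_one] at ht; omega
  have htK := invol_mem_K5 hcard hns hQ t ht2 ht1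
  have h2 : 2 ∣ Nat.card (K5 G) := by
    have := orderOf_dvd_natCard (⟨t, htK⟩ : K5 G)
    rwa [Subgroup.orderOf_mk, ht] at this
  have hcases : Nat.card (K5 G) = 2 ∨ Nat.card (K5 G) = 4 := by
    have hle4 : Nat.card (K5 G) ≤ 4 := Nat.le_of_dvd (by norm_num) h4
    have hpos : 0 < Nat.card (K5 G) := Nat.card_pos
    obtain ⟨k, hk⟩ := h2
    omega
  rcases hcases with h | h
  · exact h
  · exfalso; apply hns
    have hq := card_quot (K5 G)
    rw [h, hcard] at hq
    have hq' : Nat.card (G ⧸ K5 G) = 30 := by omega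
    exact solv_of_normal (K5 G)
      (Cfsg.Agent.S0144.result 2 3 2 0 Nat.prime_two Nat.prime_three (by rw [h]; norm_num))
      (solv_of_dvd60 (by rw [hq']; norm_num) (by rw [hq']; norm_num))


lemma card_quot_K5 [Fact (Nat.Prime 5)] [Fact (Nat.Prime 2)] (hcard : Nat.card G = 120)
    (hns : ¬ Group.IsSolvable G)
    (hQ : ∀ P : Sylow 2 G, Nonempty ((P : Subgroup G) ≃* QuaternionGroup 2)) :
    Nat.card (G ⧸ K5 G) = 60 := by
  have hK := card_K5 hcard hns hQ
  have hq := card_quot (K5 G)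
  rw [hK, hcard] at hq
  omega

lemma quot_simple [Fact (Nat.Prime 5)] [Fact (Nat.Prime 2)] (hcard : Nat.card G = 120)
    (hns : ¬ Group.IsSolvable G)
    (hQ : ∀ P : Sylow 2 G, Nonempty ((P : Subgroup G) ≃* QuaternionGroup 2)) :
    IsSimpleGroup (G ⧸ K5 G) := by
  have hK := card_K5 hcard hns hQ
  have hq' := card_quot_K5 hcard hns hQ
  have hnsq : ¬ Group.IsSolvable (G ⧸ K5 G) := by
    intro h; apply hns
    exact solv_of_normal (K5 G)
      (Cfsg.Agent.S0144.result 2 3 1 0 Nat.prime_two Nat.prime_three (by rw [hK]; norm_num)) h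
  haveI : Nontrivial (G ⧸ K5 G) := by
    rw [← Finite.one_lt_card_iff_nontrivial, hq']; norm_num
  refine ⟨fun N hN => ?_⟩
  by_contra hcon
  rw [not_or] at hcon
  obtain ⟨hbot, htop⟩ := hcon
  apply hnsq
  have := hN
  have hNd : Nat.card N ∣ 60 := by rw [← hq']; exact Subgroup.card_subgroup_dvd_card N
  have hN60 : Nat.card N ≠ 60 := by
    intro h; apply htop; exact (Subgroup.card_eq_iff_eq_top N).mp (by rw [h, hq'])
  have hqN := card_quot N
  rw [hq'] at hqN
  have hN1 : Nat.card N ≠ 1 := by intro h; exact hbot (Subgroup.card_eq_one.mp h)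
  have hQd : Nat.card ((G ⧸ K5 G) ⧸ N) ∣ 60 := ⟨Nat.card N, hqN.symm⟩
  have hQ60 : Nat.card ((G ⧸ K5 G) ⧸ N) ≠ 60 := by
    intro h; rw [h] at hqN; omega
  exact solv_of_normal N (solv_of_dvd60 hNd hN60) (solv_of_dvd60 hQd hQ60)


end

open Cfsg.Agent.S3377 in
lemma A5_top_of_mem (H : Subgroup (alternatingGroup (Fin 5))) (hX : ax ∈ H) (hY : ay ∈ H) :
    H = ⊤ := by
  have hXY : ax * ay ∈ H := H.mul_mem hX hY
  have h3 : 3 ∣ Nat.card H := by
    have h := orderOf_dvd_natCard (⟨ax, hX⟩ : H)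
    rwa [Subgroup.orderOf_mk, orderOf_eq_prime ax_pow ax_ne] at h
  have h5 : 5 ∣ Nat.card H := by
    have : Fact (Nat.Prime 5) := ⟨by norm_num⟩
    have h := orderOf_dvd_natCard (⟨ay, hY⟩ : H)
    rwa [Subgroup.orderOf_mk, orderOf_eq_prime ay_pow ay_ne] at h
  have h2 : 2 ∣ Nat.card H := by
    have h := orderOf_dvd_natCard (⟨ax * ay, hXY⟩ : H)
    rwa [Subgroup.orderOf_mk, orderOf_eq_prime axy_pow axy_ne] at h
  have h60 : Nat.card H ∣ 60 := by
    rw [← card_alt]; exact Subgroup.card_subgroup_dvd_card _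
  have h30 : 30 ∣ Nat.card H := by omega
  have hidx := H.card_mul_index
  rw [card_alt] at hidx
  have hpos : 0 < Nat.card H := Nat.card_pos
  have hcases : Nat.card H = 30 ∨ Nat.card H = 60 := by
    obtain ⟨k, hk⟩ := h30
    have : Nat.card H ≤ 60 := Nat.le_of_dvd (by norm_num) h60
    omega
  rcases hcases with h | h
  · exfalso
    have hi : H.index = 2 := by rw [h] at hidx; omega
    have hn : H.Normal := Subgroup.normal_of_index_eq_two hi
    rcases hn.eq_bot_or_eq_top with hb | ht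
    · rw [hb] at h; simp at h
    · rw [ht] at hi; simp at hi
  · exact (Subgroup.card_eq_iff_eq_top _).mp (by rw [h, card_alt])

open Cfsg.Agent.Lib.Helper19 in
theorem part1 (G : Type*) [Group G] [Finite G] (hcard : Nat.card G = 120)
    (hns : ¬ Group.IsSolvable G)
    (hQ : ∀ P : Sylow 2 G, Nonempty ((P : Subgroup G) ≃* QuaternionGroup 2)) :
    Nonempty (G ≃* Matrix.SpecialLinearGroup (Fin 2) (ZMod 5)) := by
  haveI : Fact (Nat.Prime 2) := ⟨Nat.prime_two⟩
  haveI : Fact (Nat.Prime 5) := ⟨by norm_num⟩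
  have hK := card_K5 hcard hns hQ
  haveI := quot_simple hcard hns hQ
  obtain ⟨e⟩ := Cfsg.Agent.S0494.result (card_quot_K5 hcard hns hQ)
  obtain ⟨t, ht⟩ := exists_prime_orderOf_dvd_card' (G := G) 2 (by rw [hcard]; norm_num)
  have ht2 : t ^ 2 = 1 := by rw [← ht]; exact pow_orderOf_eq_one t
  have ht1 : t ≠ 1 := by intro h; rw [h, orderOf_one] at ht; omega
  have htK := invol_mem_K5 hcard hns hQ t ht2 ht1
  have hKmem : ∀ g ∈ K5 G, g = 1 ∨ g = t := by
    intro g hg
    by_contra hcon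
    rw [not_or] at hcon
    obtain ⟨y, hy, huniq⟩ := (Nat.card_eq_two_iff' (1 : K5 G)).mp hK
    have h1 := huniq ⟨t, htK⟩ (fun h => ht1 (congrArg Subtype.val h))
    have h2 := huniq ⟨g, hg⟩ (fun h => hcon.1 (congrArg Subtype.val h))
    exact hcon.2 (congrArg Subtype.val (h2.trans h1.symm))
  have hinv : ∀ s : G, s ^ 2 = 1 → s ≠ 1 → s = t := by
    intro s hs hs1
    rcases hKmem s (invol_mem_K5 hcard hns hQ s hs hs1) with h | h
    · exact absurd h hs1
    · exact h
  have hcen : ∀ g : G, g * t = t * g := by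
    intro g
    have h1 : g * t * g⁻¹ = t := by
      apply hinv
      · rw [sq]
        calc g * t * g⁻¹ * (g * t * g⁻¹) = g * (t ^ 2) * g⁻¹ := by rw [sq]; group
          _ = 1 := by rw [ht2]; group
      · intro h
        apply ht1
        have : t = g⁻¹ * (g * t * g⁻¹) * g := by group
        rw [this, h]; group
    calc g * t = (g * t * g⁻¹) * g := by group
      _ = t * g := by rw [h1]
  let π : G →* alternatingGroup (Fin 5) := e.toMonoidHom.comp (QuotientGroup.mk' (K5 G))
  have hπsurj : Function.Surjective π := e.surjective.comp (QuotientGroup.mk'_surjective _)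
  have hπker : ∀ g, π g = 1 ↔ g ∈ K5 G := by
    intro g
    show e (QuotientGroup.mk' (K5 G) g) = 1 ↔ _
    rw [MulEquiv.map_eq_one_iff]
    exact QuotientGroup.eq_one_iff g
  have lift : ∀ (a : alternatingGroup (Fin 5)) (n : ℕ), Odd n → a ^ n = 1 →
      ∃ x : G, π x = a ∧ x ^ n = 1 := by
    intro a n hn ha
    obtain ⟨x0, hx0⟩ := hπsurj a
    have hmem : x0 ^ n ∈ K5 G := by rw [← hπker, map_pow, hx0, ha]
    rcases hKmem _ hmem with h | h
    · exact ⟨x0, hx0, h⟩
    · refine ⟨x0 * t, ?_, ?_⟩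
      · rw [map_mul, hx0, (hπker t).mpr htK, mul_one]
      · rw [(show Commute x0 t from hcen x0).mul_pow, h]
        obtain ⟨k, rfl⟩ := hn
        rw [← pow_succ', show 2 * k + 1 + 1 = 2 * (k + 1) by ring, pow_mul, ht2, one_pow]
  obtain ⟨x, hx, hx3⟩ := lift Cfsg.Agent.S3377.ax 3 (by decide) Cfsg.Agent.S3377.ax_pow
  obtain ⟨y, hy, hy5⟩ := lift Cfsg.Agent.S3377.ay 5 (by decide) Cfsg.Agent.S3377.ay_pow
  have hxy : (x * y) ^ 2 = t := by
    have hmem : (x * y) ^ 2 ∈ K5 G := by
      rw [← hπker, map_pow, map_mul, hx, hy, Cfsg.Agent.S3377.axy_pow]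
    rcases hKmem _ hmem with h | h
    · exfalso
      have hne : x * y ≠ 1 := by
        intro h1
        apply Cfsg.Agent.S3377.axy_ne
        rw [← hx, ← hy, ← map_mul, h1, map_one]
      have h3 := hinv _ h hne
      apply Cfsg.Agent.S3377.axy_ne
      rw [← hx, ← hy, ← map_mul, h3]
      exact (hπker t).mpr htK
    · exact h
  let gen : Fin 3 → G := ![x, y, t]
  have hrel : ∀ r ∈ SL25.rels5, FreeGroup.lift gen r = 1 := by
    intro r hr
    simp only [SL25.rels5, Set.mem_insert_iff, Set.mem_singleton_iff] at hr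
    rcases hr with rfl | rfl | rfl | rfl | rfl | rfl
    · rw [map_pow, FreeGroup.lift_apply_of]; exact hx3
    · rw [map_pow, FreeGroup.lift_apply_of]; exact hy5
    · rw [map_pow, FreeGroup.lift_apply_of]; exact ht2
    · simp only [map_mul, map_inv, FreeGroup.lift_apply_of]
      show t⁻¹ * x * t * x⁻¹ = 1
      rw [mul_assoc t⁻¹, hcen x]; group
    · simp only [map_mul, map_inv, FreeGroup.lift_apply_of]
      show t⁻¹ * y * t * y⁻¹ = 1
      rw [mul_assoc t⁻¹, hcen y]; group
    · simp only [map_mul, map_inv, map_pow, FreeGroup.lift_apply_of]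
      show (x * y) ^ 2 * t⁻¹ = 1
      rw [hxy]; group
  let ψ : SL25.P5 →* G := PresentedGroup.toGroup hrel
  have hψX : ψ SL25.X = x := PresentedGroup.toGroup.of hrel
  have hψY : ψ SL25.Y = y := PresentedGroup.toGroup.of hrel
  have hψZ : ψ SL25.Z = t := PresentedGroup.toGroup.of hrel
  have hψsurj : Function.Surjective ψ := by
    rw [← MonoidHom.range_eq_top]
    have hxR : x ∈ ψ.range := ⟨_, hψX⟩
    have hyR : y ∈ ψ.range := ⟨_, hψY⟩
    have htR : t ∈ ψ.range := ⟨_, hψZ⟩
    have hmap : (ψ.range).map π = ⊤ := by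
      apply A5_top_of_mem
      · exact ⟨x, hxR, hx⟩
      · exact ⟨y, hyR, hy⟩
    rw [eq_top_iff]
    intro g _
    have : π g ∈ (ψ.range).map π := by rw [hmap]; trivial
    obtain ⟨r, hr, hrg⟩ := this
    have hk : r⁻¹ * g ∈ K5 G := by
      rw [← hπker, map_mul, map_inv, hrg, inv_mul_cancel]
    have hg : g = r * (r⁻¹ * g) := by group
    rw [hg]
    apply ψ.range.mul_mem hr
    rcases hKmem _ hk with h | h
    · rw [h]; exact ψ.range.one_mem
    · rw [h]; exact htR
  have hbij : Function.Bijective ψ :=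
    hψsurj.bijective_of_nat_card_le (by rw [SL25.card_P5, hcard])
  exact ⟨((MulEquiv.ofBijective ψ hbij).symm).trans SL25.iso5⟩



/-- Every non-solvable group of order 120 whose Sylow 2-subgroups are quaternion of order 8 is isomorphic to SL(2,5), and SL(2,5) has the presentation ⟨x, y, z | x³ = y⁵ = z² = 1, z⁻¹xz = x, z⁻¹yz = y, (xy)² = z⟩. -/
theorem result :
    (∀ (G : Type*) [Group G] [Finite G], Nat.card G = 120 → ¬ Group.IsSolvable G →
      (∀ P : Sylow 2 G, Nonempty ((P : Subgroup G) ≃* QuaternionGroup 2)) →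
      Nonempty (G ≃* Matrix.SpecialLinearGroup (Fin 2) (ZMod 5))) ∧
    Nonempty (PresentedGroup ({FreeGroup.of (0 : Fin 3) ^ 3, FreeGroup.of (1 : Fin 3) ^ 5, FreeGroup.of (2 : Fin 3) ^ 2,
        (FreeGroup.of (2 : Fin 3))⁻¹ * FreeGroup.of 0 * FreeGroup.of 2 * (FreeGroup.of (0 : Fin 3))⁻¹,
        (FreeGroup.of (2 : Fin 3))⁻¹ * FreeGroup.of 1 * FreeGroup.of 2 * (FreeGroup.of (1 : Fin 3))⁻¹,
        (FreeGroup.of (0 : Fin 3) * FreeGroup.of 1) ^ 2 * (FreeGroup.of (2 : Fin 3))⁻¹} : Set (FreeGroup (Fin 3)))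
      ≃* Matrix.SpecialLinearGroup (Fin 2) (ZMod 5)) := by
  refine ⟨fun G _ _ hcard hns hQ => part1 G hcard hns hQ, ?_⟩
  exact ⟨Cfsg.Agent.Lib.Helper19.SL25.iso5⟩

end Cfsg.Agent.S3378
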