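import Cfsg.Statements.S0877
import Cfsg.Statements.S0877
import Cfsg.Agent.Lib.helper2.BrauerSuzukiHall

set_option autoImplicit false
open Cfsg

namespace Cfsg.Agent.S0877

open Cfsg
open scoped ComplexConjugate

open Cfsg.Agent.Lib.helper2 Cfsg.Agent.Lib.helper7 Cfsg.Agent.Lib.Helper11 Cfsg.Agent.Lib.Helper25



/-- Let H be a subgroup of the finite group G whose order is coprime to its index. Suppose that elements of H conjugate in G are conjugate in H, and that every subgroup E of G that is elementary for some prime (in the sense used for Brauer's characterisation of characters) and whose order divides the order of H is conjugate to a subgroup of H. Then there is a normal subgroup K with K ⊔ H = ⊤ and K ⊓ H trivial. -/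
theorem result {G : Type*} [Group G] [Finite G] (H : Subgroup G) (hHall : Nat.Coprime (Nat.card H) H.index) (hfus : ∀ x ∈ H, ∀ y ∈ H, IsConj x y → ∃ h ∈ H, h * x * h⁻¹ = y) (helem : ∀ (E : Subgroup G) (p : ℕ), p.Prime → Cfsg.IsElementary p E → Nat.card E ∣ Nat.card H → ∃ g : G, E.map (MulAut.conj g).toMonoidHom ≤ H) : ∃ K : Subgroup G, K.Normal ∧ K ⊔ H = ⊤ ∧ K ⊓ H = ⊥ := by
  classical
  haveI : Fintype G := Fintype.ofFinite G
  haveI : Fintype H := Fintype.ofFinite H
  haveI : Fintype (Cfsg.IrrCharacter H) := Fintype.ofFinite _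
  obtain ⟨m, hm⟩ : ∃ m, m = H.index := ⟨_, rfl⟩
  obtain ⟨n, hn⟩ : ∃ n, Nat.card H = n := ⟨_, rfl⟩
  have hmn : Nat.card G = m * n := by
    rw [hm, ← hn]
    exact (Subgroup.index_mul_card H).symm
  have hcop : m.Coprime n := by
    rw [hm, ← hn]
    exact hHall.symm
  obtain ⟨e, e', hme, hen, hne', hem', hee⟩ := exists_crt_exponent m n hcop
  obtain ⟨pt, hpt⟩ := bs_exists_pt H hmn hn hme helem
  have hirr := fun ξ : Cfsg.IrrCharacter H =>
    bs_tilde_irr H pt hmn hn hcop hme hen hne' hem' hee hpt hfus helem ξ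
  obtain ⟨K, hKdef⟩ : ∃ K : Subgroup G, K = ⨅ ξ : Cfsg.IrrCharacter H,
      irrKer (⟨_, hirr ξ⟩ : Cfsg.IrrCharacter G) := ⟨_, rfl⟩
  have hKn : K.Normal := by
    rw [hKdef]
    exact Subgroup.normal_iInf_normal (fun ξ => irrKer_normal _)
  have hpt1 : ∀ ξ : Cfsg.IrrCharacter H, (ξ : H → ℂ) (pt (1 : G)) = (ξ : H → ℂ) 1 := by
    intro ξ
    have := bs_tilde_restrict H pt hmn hn hcop hen hpt hfus
      (isCharacter_isClassFunction (isCharacter_of_irr ξ)) (1 : H)
    simpa using this
  have hKmem : ∀ x : G, x ∈ K ↔ pt x = 1 := by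
    intro x
    rw [hKdef]
    simp only [Subgroup.mem_iInf, mem_irrKer]
    constructor
    · intro h
      have := isConj_of_irr_eq (pt x) 1 (fun ξ => by rw [h ξ, hpt1 ξ])
      exact isConj_one_right.mp this
    · intro h ξ
      rw [h, hpt1]
  have hKmem' : ∀ x : G, x ∈ K ↔ x ^ e = 1 := by
    intro x
    rw [hKmem]
    constructor
    · intro h
      have := hpt x
      rw [h, Subgroup.coe_one] at this
      exact isConj_one_right.mp this
    · intro h
      have := hpt x
      rw [h] at this
      exact Subtype.ext (isConj_one_left.mp this)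
  have hdisj : K ⊓ H = ⊥ := by
    rw [eq_bot_iff]
    rintro x ⟨hxK, hxH⟩
    have h1 : orderOf x ∣ n := by
      have := orderOf_dvd_natCard (⟨x, hxH⟩ : H)
      rwa [Subgroup.orderOf_mk, hn] at this
    have h2 : x ^ e = x :=
      pow_crt_of_coprime_left hmn hen (Nat.Coprime.coprime_dvd_left h1 hcop.symm)
    have h3 := (hKmem' x).mp hxK
    rw [h2] at h3
    exact h3
  have hcard : Nat.card K * Nat.card H = Nat.card G := by
    obtain ⟨δ, hδ⟩ : ∃ δ : H → ℂ, δ = fun h => if h = 1 then 1 else 0 := ⟨_, rfl⟩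
    have hδcl : Cfsg.IsClassFunction H δ := by
      intro h y
      rw [hδ]
      simp only [conj_eq_one_iff]
    have h1 := bs_inner_one H pt hmn hn hcop hme hen hne' hem' hee hpt hfus helem hδcl
    unfold Cfsg.classInner at h1
    rw [hδ] at h1
    simp only [trivIrr_apply, map_one, mul_one] at h1
    rw [Finset.sum_boole, Finset.sum_boole] at h1
    have h2 : (Finset.univ.filter (fun x : G => pt x = 1)).card = Nat.card K := by
      rw [Nat.card_eq_fintype_card, Fintype.card_subtype]
      congr 1
      ext x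
      simp only [Finset.mem_filter, Finset.mem_univ, true_and]
      exact (hKmem x).symm
    have h3 : (Finset.univ.filter (fun h : H => h = 1)).card = 1 := by
      rw [Finset.filter_eq' Finset.univ (1 : H), if_pos (Finset.mem_univ _), Finset.card_singleton]
    rw [h2, h3] at h1
    have hGne : (Nat.card G : ℂ) ≠ 0 := by exact_mod_cast Nat.card_pos.ne'
    have hHne : (Nat.card H : ℂ) ≠ 0 := by exact_mod_cast Nat.card_pos.ne'
    have h4 : ((Nat.card K * Nat.card H : ℕ) : ℂ) = ((Nat.card G : ℕ) : ℂ) := by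
      push_cast
      field_simp at h1
      linear_combination h1
    exact_mod_cast h4
  refine ⟨K, hKn, ?_, hdisj⟩
  have hcompl : Subgroup.IsComplement' K H :=
    Subgroup.isComplement'_of_card_mul_and_disjoint hcard (disjoint_iff.mpr hdisj)
  exact hcompl.sup_eq_top

end Cfsg.Agent.S0877
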