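import Cfsg.Statements.S4051
import Mathlib
import Cfsg.Agent.Lib.Helper22.Sylow2

set_option autoImplicit false
open Cfsg

namespace Cfsg.Agent.S4051

open Subgroup Cfsg.Agent.Lib.Helper22

def IsPi (π : Set ℕ) {G : Type*} [Monoid G] (x : G) : Prop :=
  ∀ p : ℕ, p.Prime → p ∣ orderOf x → p ∈ π

theorem isPi_one (π : Set ℕ) {G : Type*} [Monoid G] : IsPi π (1 : G) := by
  intro p hp hdvd
  rw [orderOf_one] at hdvd
  exact absurd (Nat.dvd_one.mp hdvd) hp.one_lt.ne'

theorem isPi_of_dvd {π : Set ℕ} {G H : Type*} [Monoid G] [Monoid H] {x : G} {y : H}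
    (h : orderOf y ∣ orderOf x) (hx : IsPi π x) : IsPi π y :=
  fun p hp hdvd => hx p hp (dvd_trans hdvd h)

theorem isPi_inv {π : Set ℕ} {G : Type*} [Group G] {x : G} (hx : IsPi π x) : IsPi π x⁻¹ :=
  isPi_of_dvd (by rw [orderOf_inv]) hx

theorem isPi_pow {π : Set ℕ} {G : Type*} [Monoid G] {x : G} (hx : IsPi π x) (n : ℕ) :
    IsPi π (x ^ n) :=
  isPi_of_dvd (orderOf_pow_dvd n) hx

theorem isPi_map {π : Set ℕ} {G H : Type*} [Monoid G] [Monoid H] (f : G →* H) {x : G}
    (hx : IsPi π x) : IsPi π (f x) :=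
  isPi_of_dvd (orderOf_map_dvd f x) hx

theorem isPi_of_pow_eq_one {π : Set ℕ} {G : Type*} [Monoid G] {x : G} (n : ℕ)
    (hn : ∀ p : ℕ, p.Prime → p ∣ n → p ∈ π) (h : x ^ n = 1) : IsPi π x :=
  fun p hp hdvd => hn p hp (dvd_trans hdvd (orderOf_dvd_of_pow_eq_one h))

theorem isPi_conj {π : Set ℕ} {G : Type*} [Group G] {x : G} (g : G) (hx : IsPi π x) :
    IsPi π (g * x * g⁻¹) := by
  have : orderOf (g * x * g⁻¹) = orderOf x := by
    have := orderOf_injective (MulAut.conj g).toMonoidHom (MulAut.conj g).injective x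
    simpa using this
  exact isPi_of_dvd (by rw [this]) hx

theorem prime_dvd_mul_pi {π : Set ℕ} {a b : ℕ} (ha : ∀ p : ℕ, p.Prime → p ∣ a → p ∈ π)
    (hb : ∀ p : ℕ, p.Prime → p ∣ b → p ∈ π) : ∀ p : ℕ, p.Prime → p ∣ a * b → p ∈ π := by
  intro p hp hdvd
  rcases (Nat.Prime.dvd_mul hp).mp hdvd with h | h
  · exact ha p hp h
  · exact hb p hp h

theorem isPi_mul_of_commute {π : Set ℕ} {G : Type*} [Monoid G] {x y : G} (hc : Commute x y)
    (hx : IsPi π x) (hy : IsPi π y) : IsPi π (x * y) := by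
  intro p hp hdvd
  exact prime_dvd_mul_pi hx hy p hp (dvd_trans hdvd hc.orderOf_mul_dvd_mul_orderOf)

theorem exists_subgroup_of_mul {π : Set ℕ} {G : Type*} [Group G]
    (hmul : ∀ x y : G, IsPi π x → IsPi π y → IsPi π (x * y)) :
    ∃ K : Subgroup G, ∀ x : G, x ∈ K ↔ ∀ p : ℕ, p.Prime → p ∣ orderOf x → p ∈ π :=
  ⟨{ carrier := {x | IsPi π x}
     mul_mem' := fun {a b} ha hb => hmul a b ha hb
     one_mem' := isPi_one π
     inv_mem' := fun {_} ha => isPi_inv ha }, fun _ => Iff.rfl⟩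

theorem quotient_step {π : Set ℕ} {G : Type*} [Group G] [Finite G] (L : Subgroup G) [L.Normal]
    (hL : ∀ p : ℕ, p.Prime → p ∣ Nat.card L → p ∈ π)
    (hQ : ∀ x y : G ⧸ L, IsPi π x → IsPi π y → IsPi π (x * y)) :
    ∀ x y : G, IsPi π x → IsPi π y → IsPi π (x * y) := by
  intro x y hx hy
  have h1 : IsPi π ((QuotientGroup.mk' L) (x * y)) := by
    rw [map_mul]
    exact hQ _ _ (isPi_map _ hx) (isPi_map _ hy)
  set o := orderOf ((QuotientGroup.mk' L) (x * y)) with ho
  have h2 : (x * y) ^ o ∈ L := by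
    rw [← QuotientGroup.eq_one_iff]
    have : ((x * y) ^ o : G) = ((QuotientGroup.mk' L) (x * y)) ^ o := by
      rw [← map_pow]; rfl
    rw [this, ho]
    exact pow_orderOf_eq_one _
  have h3 : (x * y) ^ (o * Nat.card L) = 1 := by
    rw [pow_mul]
    have := pow_card_eq_one' (G := L) (x := ⟨(x * y) ^ o, h2⟩)
    exact congrArg Subtype.val this
  exact isPi_of_pow_eq_one _ (prime_dvd_mul_pi h1 hL) h3

theorem central_step {π : Set ℕ} {Γ Q : Type*} [Group Γ] [Finite Γ] [Group Q] (N : Subgroup Γ)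
    (f : Γ →* Q) (hker : f.ker ≤ N) (M : Subgroup Q) (hM : ∀ y : Q, y ∈ M ↔ IsPi π y)
    (hcent : ∀ x : Γ, IsPi π x → x ∈ centralizer (N : Set Γ)) :
    ∀ x y : Γ, IsPi π x → IsPi π y → IsPi π (x * y) := by
  intro x y hx hy
  set R : Subgroup Γ := centralizer (N : Set Γ) ⊓ M.comap f with hR
  have hxR : x ∈ R := ⟨hcent x hx, (hM _).mpr (isPi_map f hx)⟩
  have hyR : y ∈ R := ⟨hcent y hy, (hM _).mpr (isPi_map f hy)⟩
  have hc : ∀ p : ℕ, p.Prime → p ∣ (center R).index → p ∈ π := by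
    intro q hq hdvd
    by_contra hqπ
    have hqf : Fact q.Prime := ⟨hq⟩
    let S : Sylow q R := default
    have hSle : (S : Subgroup R) ≤ center R := by
      intro w hw
      have hw1 : f (w : Γ) = 1 := by
        obtain ⟨j, hj⟩ := (IsPGroup.iff_orderOf.mp S.2) ⟨w, hw⟩
        have hj' : orderOf w = q ^ j := by
          rw [← hj]
          exact (Subgroup.orderOf_mk w hw).symm
        have hwΓ : orderOf (w : Γ) = q ^ j := by rw [Subgroup.orderOf_coe, hj']
        have h1 : orderOf (f (w : Γ)) ∣ q ^ j := hwΓ ▸ orderOf_map_dvd f (w : Γ)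
        obtain ⟨i, hi, hi'⟩ := (Nat.dvd_prime_pow hq).mp h1
        have h2 : IsPi π (f (w : Γ)) := (hM _).mp w.2.2
        by_cases hi0 : i = 0
        · rw [hi0, pow_zero] at hi'
          exact orderOf_eq_one_iff.mp hi'
        · exfalso
          apply hqπ
          apply h2 q hq
          rw [hi']
          exact dvd_pow_self q hi0
      have hwN : (w : Γ) ∈ N := hker (MonoidHom.mem_ker.mpr hw1)
      rw [Subgroup.mem_center_iff]
      intro v
      apply Subtype.ext
      have hv : (v : Γ) ∈ centralizer (N : Set Γ) := v.2.1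
      rw [Subgroup.mem_centralizer_iff] at hv
      have := hv (w : Γ) hwN
      push_cast
      exact this.symm
    have h1 : (center R).index ∣ (S : Subgroup R).index := Subgroup.index_dvd_of_le hSle
    exact S.not_dvd_index (dvd_trans hdvd h1)
  set c := (center R).index with hcdef
  have hτ := map_mul (MonoidHom.transferCenterPow R) ⟨x, hxR⟩ ⟨y, hyR⟩
  have hτ' : ((⟨x, hxR⟩ * ⟨y, hyR⟩ : R) : R) ^ c = (⟨x, hxR⟩ : R) ^ c * (⟨y, hyR⟩ : R) ^ c := by
    have := congrArg Subtype.val hτ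
    simpa [MonoidHom.transferCenterPow_apply] using this
  have hτ'' : (x * y) ^ c = x ^ c * y ^ c := by
    have := congrArg Subtype.val hτ'
    simpa using this
  have hcomm : Commute (x ^ c) (y ^ c) := by
    have h1 : ((⟨x, hxR⟩ : R) ^ c) ∈ center R := by
      rw [← MonoidHom.transferCenterPow_apply]
      exact Subtype.mem _
    have h2 := (Subgroup.mem_center_iff.mp h1) ((⟨y, hyR⟩ : R) ^ c)
    have h3 := congrArg Subtype.val h2
    show x ^ c * y ^ c = y ^ c * x ^ c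
    simpa using h3.symm
  have h4 : IsPi π ((x * y) ^ c) := by
    rw [hτ'']
    exact isPi_mul_of_commute hcomm (isPi_pow hx c) (isPi_pow hy c)
  have h5 : (x * y) ^ (c * orderOf ((x * y) ^ c)) = 1 := by
    rw [pow_mul]
    exact pow_orderOf_eq_one _
  exact isPi_of_pow_eq_one _ (prime_dvd_mul_pi hc h4) h5

theorem mem_comap_centralizer_map {X : Type*} [Group X] (Z : Subgroup X) [Z.Normal]
    (B : Subgroup X) (x : X) :
    x ∈ (centralizer ((B.map (QuotientGroup.mk' Z) : Subgroup (X ⧸ Z)) : Set (X ⧸ Z))).comap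
        (QuotientGroup.mk' Z) ↔ ∀ b ∈ B, x * b * x⁻¹ * b⁻¹ ∈ Z := by
  rw [Subgroup.mem_comap, Subgroup.mem_centralizer_iff]
  constructor
  · intro h b hb
    have h1 := h (QuotientGroup.mk' Z b) (Subgroup.mem_map_of_mem _ hb)
    rw [← QuotientGroup.eq_one_iff]
    have h2 : ((x * b * x⁻¹ * b⁻¹ : X) : X ⧸ Z) =
        (QuotientGroup.mk' Z x) * (QuotientGroup.mk' Z b) * (QuotientGroup.mk' Z x)⁻¹ *
          (QuotientGroup.mk' Z b)⁻¹ := by
      simp
    rw [h2, ← h1]
    group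
  · intro h y hy
    obtain ⟨b, hb, rfl⟩ := Subgroup.mem_map.mp hy
    have h1 := (QuotientGroup.eq_one_iff _).mpr (h b hb)
    have h2 : ((x * b * x⁻¹ * b⁻¹ : X) : X ⧸ Z) =
        (QuotientGroup.mk' Z x) * (QuotientGroup.mk' Z b) * (QuotientGroup.mk' Z x)⁻¹ *
          (QuotientGroup.mk' Z b)⁻¹ := by
      simp
    rw [h2] at h1
    have h3 := mul_inv_eq_one.mp h1
    have h4 := mul_inv_eq_iff_eq_mul.mp h3
    exact h4.symm

theorem index_eq_relIndex_of_sup_eq_top {G : Type*} [Group G] [Finite G] (U K : Subgroup G)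
    [K.Normal] (h : U ⊔ K = ⊤) : U.index = U.relIndex K := by
  have h1 := card_sup_normal U K
  rw [h, Subgroup.card_top] at h1
  have h2 := card_mul_relIndex_of_le (inf_le_left : U ⊓ K ≤ U)
  rw [Subgroup.inf_relIndex_left] at h2
  have h3 := Subgroup.card_mul_index U
  have h4 := card_mul_relIndex_of_le (inf_le_right : U ⊓ K ≤ K)
  rw [Subgroup.inf_relIndex_right] at h4
  have hpos : 0 < K.relIndex U := by
    apply Nat.pos_of_ne_zero
    intro e
    rw [e, mul_zero] at h1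
    exact (Nat.card_pos (α := G)).ne' h1
  have hpos2 : 0 < Nat.card (U ⊓ K : Subgroup G) := Nat.card_pos
  have h5 : Nat.card (U ⊓ K : Subgroup G) * K.relIndex U * U.index =
      Nat.card (U ⊓ K : Subgroup G) * K.relIndex U * U.relIndex K := by
    calc Nat.card (U ⊓ K : Subgroup G) * K.relIndex U * U.index
        = Nat.card U * U.index := by rw [h2]
      _ = Nat.card G := h3
      _ = Nat.card K * K.relIndex U := h1
      _ = Nat.card (U ⊓ K : Subgroup G) * U.relIndex K * K.relIndex U := by rw [h4]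
      _ = Nat.card (U ⊓ K : Subgroup G) * K.relIndex U * U.relIndex K := by ring
  exact Nat.eq_of_mul_eq_mul_left (Nat.mul_pos hpos2 hpos) h5

theorem exists_conj_mem_of_index {G : Type*} [Group G] [Finite G] (r : ℕ) [Fact r.Prime]
    (U : Subgroup G) (hU : ¬ r ∣ U.index) (x : G) (a : ℕ) (hx : orderOf x = r ^ a) :
    ∃ g : G, g⁻¹ * x * g ∈ U := by
  have hP : IsPGroup r (Subgroup.zpowers x) :=
    IsPGroup.of_card (n := a) (by rw [Nat.card_zpowers, hx])
  have hcard : ¬ r ∣ Nat.card (G ⧸ U) := by rwa [← Subgroup.index_eq_card]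
  obtain ⟨q, hq⟩ := hP.nonempty_fixed_point_of_prime_not_dvd_card (G ⧸ U) hcard
  obtain ⟨g, rfl⟩ := QuotientGroup.mk_surjective q
  refine ⟨g, ?_⟩
  have h1 := hq ⟨x, Subgroup.mem_zpowers x⟩
  have h2 : ((x * g : G) : G ⧸ U) = (g : G ⧸ U) := h1
  have h3 := QuotientGroup.eq.mp h2
  have h4 := U.inv_mem h3
  have e : ((x * g)⁻¹ * g)⁻¹ = g⁻¹ * x * g := by group
  rwa [e] at h4


theorem mem_map_conj {G : Type*} [Group G] (S₀ : Subgroup G) (g y : G) :
    y ∈ S₀.map (MulAut.conj g).toMonoidHom ↔ g⁻¹ * y * g ∈ S₀ := by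
  constructor
  · rintro ⟨s, hs, rfl⟩
    have : g⁻¹ * ((MulAut.conj g).toMonoidHom s) * g = s := by
      simp only [MulEquiv.toMonoidHom_eq_coe, MonoidHom.coe_coe, MulAut.conj_apply]
      group
    rw [this]
    exact hs
  · intro h
    refine ⟨g⁻¹ * y * g, h, ?_⟩
    simp [MulAut.conj_apply, mul_assoc]

theorem centralizer_normal_in_normalizer {G : Type*} [Group G] (S : Subgroup G) :
    ((centralizer (S : Set G)).subgroupOf (normalizer (S : Set G))).Normal := by
  refine ⟨fun c hc n => ?_⟩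
  rw [Subgroup.mem_subgroupOf, Subgroup.mem_centralizer_iff] at hc ⊢
  intro s hs
  have hn := n.2
  rw [Subgroup.mem_normalizer_iff] at hn
  have hs' : (n : G)⁻¹ * s * (n : G) ∈ S := by
    rw [hn]
    have : (n : G) * ((n : G)⁻¹ * s * (n : G)) * (n : G)⁻¹ = s := by group
    rw [this]
    exact hs
  have h1 := hc _ hs'
  push_cast
  have e1 : s * ((n : G) * (c : G) * (n : G)⁻¹) =
      (n : G) * ((n : G)⁻¹ * s * (n : G) * (c : G)) * (n : G)⁻¹ := by group
  have e2 : (n : G) * (c : G) * (n : G)⁻¹ * s =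
      (n : G) * ((c : G) * ((n : G)⁻¹ * s * (n : G))) * (n : G)⁻¹ := by group
  rw [e1, e2, h1]

theorem key_sylow {π : Set ℕ} {G : Type*} [Group G] [Finite G]
    (hhom : ∀ H : Subgroup G, H ≠ ⊥ → (∀ p : ℕ, p.Prime → p ∣ Nat.card ↥H → p ∉ π) →
        ∀ p : ℕ, p.Prime → p ∣ (Subgroup.centralizer (H : Set G)).relIndex
          (Subgroup.normalizer (H : Set G)) → p ∉ π)
    (L K : Subgroup G) [L.Normal] [K.Normal] (hLK : L ≤ K)
    (hKL : ∀ p : ℕ, p.Prime → p ∣ L.relIndex K → p ∉ π)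
    (r : ℕ) [Fact r.Prime] (hr : r ∈ π) (x : G) (a : ℕ) (hx : orderOf x = r ^ a)
    (q : ℕ) [Fact q.Prime] (hq : q ∉ π) :
    ∃ S : Subgroup G, S ≤ K ∧ Nat.card S = q ^ (Nat.card K).factorization q ∧
      ∀ s ∈ S, x * s * x⁻¹ * s⁻¹ ∈ L := by
  have hrp : r.Prime := Fact.out
  have hqp : q.Prime := Fact.out
  let P : Sylow q K := default
  set S₀ : Subgroup G := (P : Subgroup K).map K.subtype with hS₀
  have hS₀card : Nat.card S₀ = q ^ (Nat.card K).factorization q := by
    rw [hS₀, Subgroup.card_map_of_injective K.subtype_injective]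
    exact P.card_eq_multiplicity
  have hS₀K : S₀ ≤ K := by
    rintro _ ⟨y, _, rfl⟩
    exact y.2
  set U : Subgroup G := L ⊔ normalizer (S₀ : Set G) with hU
  have hUK : U ⊔ K = ⊤ := by
    have := Sylow.normalizer_sup_eq_top P
    rw [eq_top_iff, ← this]
    exact sup_le_sup_right le_sup_right K
  have hUidx : ¬ r ∣ U.index := by
    intro hdvd
    rw [index_eq_relIndex_of_sup_eq_top U K hUK, ← Subgroup.inf_relIndex_right] at hdvd
    have h1 : (U ⊓ K).relIndex K ∣ L.relIndex K :=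
      Subgroup.relIndex_dvd_of_le_left K (le_inf le_sup_left hLK)
    exact hKL r hrp (dvd_trans hdvd h1) hr
  obtain ⟨g, hg⟩ := exists_conj_mem_of_index r U hUidx x a hx
  have hg' : g⁻¹ * x * g ∈ ((L ⊔ normalizer (S₀ : Set G) : Subgroup G) : Set G) := hg
  rw [Subgroup.normal_mul] at hg'
  obtain ⟨l₀, hl₀, n₀, hn₀, hln⟩ := Set.mem_mul.mp hg'
  set S : Subgroup G := S₀.map (MulAut.conj g).toMonoidHom with hS
  have hSmem : ∀ y, y ∈ S ↔ g⁻¹ * y * g ∈ S₀ := fun y => mem_map_conj S₀ g y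
  have hSK : S ≤ K := by
    intro y hy
    have h1 := hS₀K ((hSmem y).mp hy)
    have h2 := (inferInstance : K.Normal).conj_mem _ h1 g
    have e : g * (g⁻¹ * y * g) * g⁻¹ = y := by group
    rwa [e] at h2
  have hScard : Nat.card S = q ^ (Nat.card K).factorization q := by
    rw [hS, Subgroup.card_map_of_injective (MulAut.conj g).injective]
    exact hS₀card
  refine ⟨S, hSK, hScard, ?_⟩
  by_cases hSbot : S = ⊥
  · intro s hs
    rw [hSbot, Subgroup.mem_bot] at hs
    subst hs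
    simp
  set n : G := g * n₀ * g⁻¹ with hn
  set l : G := g * l₀ * g⁻¹ with hl
  have hxln : x = l * n := by
    have e : l * n = g * (l₀ * n₀) * g⁻¹ := by rw [hl, hn]; group
    rw [e, hln]
    group
  have hlL : l ∈ L := (inferInstance : L.Normal).conj_mem _ hl₀ g
  have hnN : n ∈ normalizer (S : Set G) := by
    rw [Subgroup.mem_normalizer_iff]
    intro y
    rw [hSmem, hSmem]
    have hn₀' := hn₀
    rw [SetLike.mem_coe, Subgroup.mem_normalizer_iff] at hn₀'
    rw [hn₀' (g⁻¹ * y * g)]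
    have e : n₀ * (g⁻¹ * y * g) * n₀⁻¹ = g⁻¹ * (n * y * n⁻¹) * g := by rw [hn]; group
    rw [e]
  have hSπ : ∀ p : ℕ, p.Prime → p ∣ Nat.card S → p ∉ π := by
    intro p hp hdvd
    rw [hScard] at hdvd
    have := (Nat.prime_dvd_prime_iff_eq hp hqp).mp (hp.dvd_of_dvd_pow hdvd)
    rw [this]
    exact hq
  have hm := hhom S hSbot hSπ
  set m := (centralizer (S : Set G)).relIndex (normalizer (S : Set G)) with hmdef
  have hcop : Nat.Coprime m (orderOf x) := by
    rw [hx]
    apply Nat.Coprime.pow_right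
    apply Nat.Coprime.symm
    rw [Nat.Prime.coprime_iff_not_dvd hrp]
    intro h
    exact hm r hrp h hr
  have hnm : n ^ m ∈ centralizer (S : Set G) := by
    have hnorm := centralizer_normal_in_normalizer S
    have h1 := Subgroup.pow_index_mem
      ((centralizer (S : Set G)).subgroupOf (normalizer (S : Set G))) (⟨n, hnN⟩ : normalizer (S : Set G))
    rw [Subgroup.mem_subgroupOf] at h1
    exact h1
  set Cs : Subgroup G := (centralizer ((S.map (QuotientGroup.mk' L) : Subgroup (G ⧸ L)) :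
    Set (G ⧸ L))).comap (QuotientGroup.mk' L) with hCsdef
  have hCs : ∀ y, y ∈ Cs ↔ ∀ s ∈ S, y * s * y⁻¹ * s⁻¹ ∈ L := fun y =>
    mem_comap_centralizer_map L S y
  have hnmCs : n ^ m ∈ Cs := by
    rw [hCs]
    intro s hs
    rw [Subgroup.mem_centralizer_iff] at hnm
    have := hnm s hs
    have e : n ^ m * s * (n ^ m)⁻¹ * s⁻¹ = 1 := by
      rw [← this]
      group
    rw [e]
    exact L.one_mem
  have hxm : x ^ m ∈ Cs := by
    rw [hCsdef, Subgroup.mem_comap] at hnmCs ⊢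
    have e : (QuotientGroup.mk' L) (x ^ m) = (QuotientGroup.mk' L) (n ^ m) := by
      rw [map_pow, map_pow, hxln, map_mul]
      have : (QuotientGroup.mk' L) l = 1 := (QuotientGroup.eq_one_iff l).mpr hlL
      rw [this, one_mul]
    rw [e]
    exact hnmCs
  have hxCs : x ∈ Cs := by
    obtain ⟨k', hk'⟩ := exists_pow_eq_self_of_coprime hcop
    rw [← hk']
    exact Cs.pow_mem hxm k'
  exact (hCs x).mp hxCs


theorem claim_prime_power {π : Set ℕ} {G : Type*} [Group G] [Finite G]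
    (hhom : ∀ H : Subgroup G, H ≠ ⊥ → (∀ p : ℕ, p.Prime → p ∣ Nat.card ↥H → p ∉ π) →
        ∀ p : ℕ, p.Prime → p ∣ (Subgroup.centralizer (H : Set G)).relIndex
          (Subgroup.normalizer (H : Set G)) → p ∉ π)
    (L K : Subgroup G) [L.Normal] [K.Normal] (hLK : L ≤ K)
    (hKL : ∀ p : ℕ, p.Prime → p ∣ L.relIndex K → p ∉ π)
    (r : ℕ) [Fact r.Prime] (hr : r ∈ π) (x : G) (a : ℕ) (hx : orderOf x = r ^ a) :
    ∀ k ∈ K, x * k * x⁻¹ * k⁻¹ ∈ L := by
  set Cx : Subgroup G := (centralizer ({(QuotientGroup.mk' L) x} : Set (G ⧸ L))).comap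
    (QuotientGroup.mk' L) with hCxdef
  have hCx : ∀ k, k ∈ Cx ↔ x * k * x⁻¹ * k⁻¹ ∈ L := by
    intro k
    rw [hCxdef, Subgroup.mem_comap, Subgroup.mem_centralizer_iff]
    have h2 : ((x * k * x⁻¹ * k⁻¹ : G) : G ⧸ L) =
        (QuotientGroup.mk' L x) * (QuotientGroup.mk' L k) * (QuotientGroup.mk' L x)⁻¹ *
          (QuotientGroup.mk' L k)⁻¹ := by
      simp
    rw [← QuotientGroup.eq_one_iff, h2]
    constructor
    · intro h
      rw [h _ rfl]
      group
    · intro h y hy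
      rw [Set.mem_singleton_iff] at hy
      subst hy
      have h3 := mul_inv_eq_one.mp h
      exact mul_inv_eq_iff_eq_mul.mp h3
  set E : Subgroup G := K ⊓ Cx with hE
  have hLE : L ≤ E := by
    intro l hl
    refine ⟨hLK hl, ?_⟩
    show l ∈ Cx
    rw [hCx]
    have h1 : x * l * x⁻¹ ∈ L := (inferInstance : L.Normal).conj_mem _ hl x
    exact L.mul_mem h1 (L.inv_mem hl)
  have hEK : E ≤ K := inf_le_left
  have hj : E.relIndex K = 1 := by
    by_contra hne
    obtain ⟨q, hqp, hqj⟩ := Nat.exists_prime_and_dvd hne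
    have hqf : Fact q.Prime := ⟨hqp⟩
    have h1 : E.relIndex K ∣ L.relIndex K := Subgroup.relIndex_dvd_of_le_left K hLE
    have hqπ : q ∉ π := hKL q hqp (dvd_trans hqj h1)
    obtain ⟨S, hSK, hScard, hSx⟩ := key_sylow hhom L K hLK hKL r hr x a hx q hqπ
    have hSE : S ≤ E := by
      intro s hs
      refine ⟨hSK hs, ?_⟩
      show s ∈ Cx
      rw [hCx]
      exact hSx s hs
    have h2 := card_mul_relIndex_of_le hEK
    have h3 : Nat.card S ∣ Nat.card E := Subgroup.card_dvd_of_le hSE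
    have h4 : Nat.card S * q ∣ Nat.card K := by
      rw [← h2]
      exact Nat.mul_dvd_mul h3 hqj
    rw [hScard, ← pow_succ] at h4
    exact Nat.pow_succ_factorization_not_dvd (Nat.card_pos (α := K)).ne' hqp h4
  have hKE : K ≤ E := Subgroup.relIndex_eq_one.mp hj
  intro k hk
  have := (hKE hk).2
  exact (hCx k).mp this

theorem claim_all {π : Set ℕ} {G : Type*} [Group G] [Finite G]
    (hhom : ∀ H : Subgroup G, H ≠ ⊥ → (∀ p : ℕ, p.Prime → p ∣ Nat.card ↥H → p ∉ π) →
        ∀ p : ℕ, p.Prime → p ∣ (Subgroup.centralizer (H : Set G)).relIndex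
          (Subgroup.normalizer (H : Set G)) → p ∉ π)
    (L K : Subgroup G) [L.Normal] [K.Normal] (hLK : L ≤ K)
    (hKL : ∀ p : ℕ, p.Prime → p ∣ L.relIndex K → p ∉ π) :
    ∀ x : G, IsPi π x → ∀ k ∈ K, x * k * x⁻¹ * k⁻¹ ∈ L := by
  set W : Subgroup G := (centralizer ((K.map (QuotientGroup.mk' L) : Subgroup (G ⧸ L)) :
    Set (G ⧸ L))).comap (QuotientGroup.mk' L) with hWdef
  have hW : ∀ y, y ∈ W ↔ ∀ k ∈ K, y * k * y⁻¹ * k⁻¹ ∈ L := fun y =>
    mem_comap_centralizer_map L K y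
  have key : ∀ n : ℕ, ∀ x : G, orderOf x = n → IsPi π x → x ∈ W := by
    intro n
    induction n using Nat.strong_induction_on with
    | _ n ih =>
    intro x hxn hx
    by_cases hn1 : n = 1
    · rw [hn1] at hxn
      rw [orderOf_eq_one_iff.mp hxn]
      exact W.one_mem
    · have hrp : n.minFac.Prime := Nat.minFac_prime hn1
      have hrn : n.minFac ∣ orderOf x := hxn ▸ Nat.minFac_dvd n
      have hrπ : n.minFac ∈ π := hx _ hrp hrn
      have hrf : Fact n.minFac.Prime := ⟨hrp⟩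
      obtain ⟨a, b, hab, _, ⟨k, hk⟩, hcop, ha, hb⟩ := exists_p_decomp n.minFac x
      have haW : a ∈ W := by
        rw [hW]
        exact claim_prime_power hhom L K hLK hKL n.minFac hrπ a k hk
      have hbdvd : orderOf b ∣ orderOf x := orderOf_dvd_of_mem_zpowers hb
      have hbne : orderOf b ≠ orderOf x := by
        intro e
        rw [e] at hcop
        have := Nat.Coprime.eq_one_of_dvd hcop.symm hrn
        exact hrp.one_lt.ne' this
      have hblt : orderOf b < n := by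
        rw [← hxn]
        exact lt_of_le_of_ne (Nat.le_of_dvd (orderOf_pos x) hbdvd) hbne
      have hbW : b ∈ W := ih _ hblt b rfl (isPi_of_dvd hbdvd hx)
      rw [hab]
      exact W.mul_mem haW hbW
  intro x hx
  exact (hW x).mp (key _ x rfl hx)

theorem result {G : Type*} [Group G] [Finite G] (π : Set ℕ)
    (hπ : ∀ p ∈ π, p.Prime) (hhom : (∀ H : Subgroup G, H ≠ ⊥ → (∀ p : ℕ, p.Prime → p ∣ Nat.card ↥H → p ∉ π) →
        ∀ p : ℕ, p.Prime → p ∣ (Subgroup.centralizer (H : Set G)).relIndex (Subgroup.normalizer (H : Set G)) → p ∉ π))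
    (K : Subgroup G) [K.Normal]
    (hK : ∃ L : Subgroup ↥K, ∀ x : ↥K, x ∈ L ↔ ∀ p : ℕ, p.Prime → p ∣ orderOf x → p ∈ π)
    (hQ : ∃ L : Subgroup (G ⧸ K), ∀ x : G ⧸ K, x ∈ L ↔ ∀ p : ℕ, p.Prime → p ∣ orderOf x → p ∈ π) :
    (∃ K : Subgroup G, ∀ x : G, x ∈ K ↔ ∀ p : ℕ, p.Prime → p ∣ orderOf x → p ∈ π) := by
  obtain ⟨L', hL'⟩ := hK
  obtain ⟨M, hM⟩ := hQ
  set L : Subgroup G := L'.map K.subtype with hL
  have hLK : L ≤ K := by
    rintro _ ⟨y, _, rfl⟩
    exact y.2
  have hLmem : ∀ x : G, x ∈ L ↔ x ∈ K ∧ IsPi π x := by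
    intro x
    constructor
    · rintro ⟨y, hy, rfl⟩
      refine ⟨y.2, ?_⟩
      have h1 := (hL' y).mp hy
      intro p hp hdvd
      have e : orderOf (K.subtype y) = orderOf y := Subgroup.orderOf_coe y
      rw [e] at hdvd
      exact h1 p hp hdvd
    · rintro ⟨hxK, hx⟩
      refine ⟨⟨x, hxK⟩, (hL' _).mpr ?_, rfl⟩
      intro p hp hdvd
      rw [Subgroup.orderOf_mk] at hdvd
      exact hx p hp hdvd
  have hLn : L.Normal := by
    refine ⟨fun l hl g => ?_⟩
    rw [hLmem] at hl ⊢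
    exact ⟨(inferInstance : K.Normal).conj_mem _ hl.1 g, isPi_conj g hl.2⟩
  have hLπ : ∀ p : ℕ, p.Prime → p ∣ Nat.card L → p ∈ π := by
    intro p hp hdvd
    have hpf : Fact p.Prime := ⟨hp⟩
    obtain ⟨l, hl⟩ := exists_prime_orderOf_dvd_card' (G := L) p hdvd
    have h1 := ((hLmem l).mp l.2).2 p hp
    apply h1
    rw [Subgroup.orderOf_coe, hl]
  have hKL : ∀ p : ℕ, p.Prime → p ∣ L.relIndex K → p ∉ π := by
    intro p hp hdvd hpπ
    have hpf : Fact p.Prime := ⟨hp⟩
    let P : Sylow p K := default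
    have hPL : (P : Subgroup K) ≤ L.subgroupOf K := by
      intro w hw
      rw [Subgroup.mem_subgroupOf, hLmem]
      refine ⟨w.2, ?_⟩
      obtain ⟨j, hj⟩ := (IsPGroup.iff_orderOf.mp P.2) ⟨w, hw⟩
      have hj' : orderOf (w : G) = p ^ j := by
        rw [Subgroup.orderOf_coe, ← hj]
        exact (Subgroup.orderOf_mk w hw).symm
      intro p' hp' hdvd'
      rw [hj'] at hdvd'
      have := (Nat.prime_dvd_prime_iff_eq hp' hp).mp (hp'.dvd_of_dvd_pow hdvd')
      rw [this]
      exact hpπ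
    have h1 : (L.subgroupOf K).index ∣ (P : Subgroup K).index := Subgroup.index_dvd_of_le hPL
    exact P.not_dvd_index (dvd_trans hdvd h1)
  have hclaim := claim_all hhom L K hLK hKL
  set N : Subgroup (G ⧸ L) := K.map (QuotientGroup.mk' L) with hN
  let f : G ⧸ L →* G ⧸ K := QuotientGroup.map L K (MonoidHom.id G) (fun l hl => hLK hl)
  have hker : f.ker ≤ N := by
    intro γ hγ
    obtain ⟨g, rfl⟩ := QuotientGroup.mk_surjective γ
    rw [MonoidHom.mem_ker] at hγ
    have hγ' : ((g : G) : G ⧸ K) = 1 := hγ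
    have : g ∈ K := (QuotientGroup.eq_one_iff g).mp hγ'
    exact Subgroup.mem_map_of_mem _ this
  have hcent : ∀ γ : G ⧸ L, IsPi π γ → γ ∈ centralizer (N : Set (G ⧸ L)) := by
    intro γ hγ
    obtain ⟨g, rfl⟩ := QuotientGroup.mk_surjective γ
    have hg : IsPi π g := by
      set o := orderOf ((g : G ⧸ L)) with ho
      have h2 : g ^ o ∈ L := by
        rw [← QuotientGroup.eq_one_iff]
        have : ((g ^ o : G) : G ⧸ L) = (g : G ⧸ L) ^ o := rfl
        rw [this, ho]
        exact pow_orderOf_eq_one _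
      have h3 : g ^ (o * Nat.card L) = 1 := by
        rw [pow_mul]
        have := pow_card_eq_one' (G := L) (x := ⟨g ^ o, h2⟩)
        exact congrArg Subtype.val this
      exact isPi_of_pow_eq_one _ (prime_dvd_mul_pi hγ hLπ) h3
    have h4 := hclaim g hg
    exact Subgroup.mem_comap.mp ((mem_comap_centralizer_map L K g).mpr h4)
  have hΓ := central_step N f hker M hM hcent
  have hG := quotient_step L hLπ hΓ
  exact exists_subgroup_of_mul hG

end Cfsg.Agent.S4051
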