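import Cfsg.Statements.S4115
import Mathlib
import Cfsg.Agent.Lib.Helper22.Malnormal
import Cfsg.Agent.Lib.Helper22.Sylow2
import Cfsg.Agent.Lib.Lead.Coprime
import Cfsg.Agent.S4051
import Cfsg.Agent.S0877

set_option autoImplicit false
universe u
open Cfsg

namespace Cfsg.Agent.S4115

open Subgroup Cfsg.Agent.Lib.Helper22
open Pointwise

theorem exists_fixed_of_unique_fixed {A Ω : Type*} [Group A] [Finite A] [MulAction A Ω]
    [Nonempty Ω] (h : ∀ a : A, a ≠ 1 → ∃! ω : Ω, a • ω = ω) : ∃ ω : Ω, ∀ a : A, a • ω = ω := by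
  by_cases htriv : ∀ a : A, a = 1
  · obtain ⟨ω⟩ := (inferInstance : Nonempty Ω)
    refine ⟨ω, fun a => ?_⟩
    rw [htriv a, one_smul]
  push Not at htriv
  obtain ⟨a₀, ha₀⟩ := htriv
  obtain ⟨ω₀, hω₀, _⟩ := h a₀ ha₀
  have hmal : ∀ ω : Ω, ∀ k : A, ∀ a ∈ MulAction.stabilizer A ω, a ≠ 1 →
      k * a * k⁻¹ ∈ MulAction.stabilizer A ω → k ∈ MulAction.stabilizer A ω := by
    intro ω k a ha ha1 hk
    rw [MulAction.mem_stabilizer_iff] at ha hk ⊢
    obtain ⟨ω', _, huniq⟩ := h a ha1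
    have h1 : a • (k⁻¹ • ω) = k⁻¹ • ω := by
      calc a • (k⁻¹ • ω) = (k⁻¹ * (k * a * k⁻¹)) • ω := by
            rw [← mul_smul]; congr 1; group
        _ = k⁻¹ • ((k * a * k⁻¹) • ω) := mul_smul _ _ _
        _ = k⁻¹ • ω := by rw [hk]
    have h2 := (huniq _ h1).trans (huniq _ ha).symm
    have : k • (k⁻¹ • ω) = k • ω := by rw [h2]
    rw [← this, ← mul_smul, mul_inv_cancel, one_smul]
  by_contra hcon
  push Not at hcon
  have hSne : MulAction.stabilizer A ω₀ ≠ ⊥ := by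
    intro e
    have : a₀ ∈ MulAction.stabilizer A ω₀ := hω₀
    rw [e, Subgroup.mem_bot] at this
    exact ha₀ this
  have hStop : MulAction.stabilizer A ω₀ ≠ ⊤ := by
    intro e
    obtain ⟨a, ha⟩ := hcon ω₀
    apply ha
    have : a ∈ MulAction.stabilizer A ω₀ := by rw [e]; trivial
    exact this
  have hex : ∃ b : A, ∀ c : A, c⁻¹ * b * c ∉ MulAction.stabilizer A ω₀ := by
    by_contra hno
    push Not at hno
    exact hStop (eq_top_of_conj_cover _ hno)
  obtain ⟨b, hb⟩ := hex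
  have hb1 : b ≠ 1 := by
    intro e
    apply hb 1
    rw [e]
    simp
  obtain ⟨ω₁, hω₁, _⟩ := h b hb1
  have hS'ne : MulAction.stabilizer A ω₁ ≠ ⊥ := by
    intro e
    have : b ∈ MulAction.stabilizer A ω₁ := hω₁
    rw [e, Subgroup.mem_bot] at this
    exact hb1 this
  have hS'top : MulAction.stabilizer A ω₁ ≠ ⊤ := by
    intro e
    obtain ⟨a, ha⟩ := hcon ω₁
    apply ha
    have : a ∈ MulAction.stabilizer A ω₁ := by rw [e]; trivial
    exact this
  apply two_families (MulAction.stabilizer A ω₀) (MulAction.stabilizer A ω₁) hSne hS'ne hStop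
    hS'top (hmal ω₀) (hmal ω₁)
  intro k a ha ha1 hk
  rw [MulAction.mem_stabilizer_iff] at ha hk
  obtain ⟨ω', _, huniq⟩ := h a ha1
  have h1 : a • (k⁻¹ • ω₁) = k⁻¹ • ω₁ := by
    calc a • (k⁻¹ • ω₁) = (k⁻¹ * (k * a * k⁻¹)) • ω₁ := by
          rw [← mul_smul]; congr 1; group
      _ = k⁻¹ • ((k * a * k⁻¹) • ω₁) := mul_smul _ _ _
      _ = k⁻¹ • ω₁ := by rw [hk]
  have h2 : k⁻¹ • ω₁ = ω₀ := (huniq _ h1).trans (huniq _ ha).symm
  have h3 : ω₁ = k • ω₀ := by
    rw [← h2, ← mul_smul, mul_inv_cancel, one_smul]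
  apply hb k
  rw [MulAction.mem_stabilizer_iff]
  have : b • (k • ω₀) = k • ω₀ := by rw [← h3]; exact hω₁
  calc (k⁻¹ * b * k) • ω₀ = k⁻¹ • (b • (k • ω₀)) := by simp only [mul_smul]
    _ = k⁻¹ • (k • ω₀) := by rw [this]
    _ = ω₀ := by rw [← mul_smul, inv_mul_cancel, one_smul]


theorem frob_quotient {G : Type u} [Group G] [Finite G] (H Y Q₀ : Subgroup G)
    (hHY : H ≤ Y) (hYn : Y ≤ normalizer (Q₀ : Set G))
    (hHQ : ∀ x, x ∈ H → x ∈ Q₀ → x = 1) (hH1 : H ≠ ⊥)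
    (hi : ∃ u₀ ∈ Y, ∀ h ∈ H, u₀⁻¹ * h ∉ Q₀)
    (hii : ∀ y ∈ Y, ∀ h₁ ∈ H, ∀ h₂ ∈ H, h₁ ≠ 1 → (y⁻¹ * h₁ * y)⁻¹ * h₂ ∈ Q₀ →
      ∃ h ∈ H, y⁻¹ * h ∈ Q₀) :
    ∃ (F : Type u) (_ : Group F) (_ : Finite F) (C : Subgroup F),
      Cfsg.IsFrobeniusComplement C ∧ Nonempty (H ≃* C) := by
  have hZn : (Q₀.subgroupOf Y).Normal := Subgroup.normal_subgroupOf_of_le_normalizer hYn
  let φ : H →* Y ⧸ Q₀.subgroupOf Y :=
    (QuotientGroup.mk' (Q₀.subgroupOf Y)).comp (Subgroup.inclusion hHY)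
  have hφeq : ∀ (y : Y) (h : H), (QuotientGroup.mk y : Y ⧸ Q₀.subgroupOf Y) = φ h ↔
      (y : G)⁻¹ * (h : G) ∈ Q₀ := by
    intro y h
    have : φ h = QuotientGroup.mk (Subgroup.inclusion hHY h) := rfl
    rw [this, QuotientGroup.eq, Subgroup.mem_subgroupOf]
    rfl
  have hinj : Function.Injective φ := by
    rw [injective_iff_map_eq_one]
    intro h hh
    have h1 : (QuotientGroup.mk (1 : Y) : Y ⧸ Q₀.subgroupOf Y) = φ h := by
      rw [hh]; rfl
    rw [hφeq] at h1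
    have h2 : (h : G) ∈ Q₀ := by simpa using h1
    exact Subtype.ext (hHQ _ h.2 h2)
  refine ⟨Y ⧸ Q₀.subgroupOf Y, inferInstance, inferInstance, φ.range, ?_,
    ⟨MonoidHom.ofInjective hinj⟩⟩
  refine ⟨?_, ?_, ?_⟩
  · intro e
    obtain ⟨h, hh1⟩ := (Subgroup.ne_bot_iff_exists_ne_one).mp hH1
    have h1 : φ h ∈ φ.range := ⟨h, rfl⟩
    rw [e, Subgroup.mem_bot] at h1
    have := hinj (h1.trans (map_one φ).symm)
    exact hh1 this
  · intro e
    obtain ⟨u₀, hu₀Y, hu₀⟩ := hi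
    have h1 : (QuotientGroup.mk (⟨u₀, hu₀Y⟩ : Y) : Y ⧸ Q₀.subgroupOf Y) ∈ φ.range := by
      rw [e]; trivial
    obtain ⟨h, hh⟩ := h1
    have h2 := (hφeq ⟨u₀, hu₀Y⟩ h).mp hh.symm
    exact hu₀ h h.2 h2
  · intro γ hγ
    rw [eq_bot_iff]
    rintro c ⟨hc1, hc2⟩
    rw [Subgroup.mem_bot]
    obtain ⟨h₁, rfl⟩ := hc1
    by_contra hne
    have hh₁ : (h₁ : G) ≠ 1 := by
      intro e
      apply hne
      have : h₁ = 1 := Subtype.ext e
      rw [this, map_one]
    have hc2' : φ h₁ ∈ MulAut.conj γ • φ.range := hc2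
    rw [Subgroup.mem_pointwise_smul_iff_inv_smul_mem] at hc2'
    obtain ⟨h₂, hh₂⟩ := hc2'
    obtain ⟨y, rfl⟩ := QuotientGroup.mk_surjective γ
    have h3 : (QuotientGroup.mk (y⁻¹ * (Subgroup.inclusion hHY h₁) * y) :
        Y ⧸ Q₀.subgroupOf Y) = φ h₂ := by
      rw [hh₂]
      simp only [MulAut.smul_def, MulAut.conj_inv_apply]
      rfl
    rw [hφeq] at h3
    have h4 : ((y : G)⁻¹ * (h₁ : G) * (y : G))⁻¹ * (h₂ : G) ∈ Q₀ := h3
    obtain ⟨h, hh, hyh⟩ := hii y y.2 h₁ h₁.2 h₂ h₂.2 hh₁ h4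
    apply hγ
    refine ⟨⟨h, hh⟩, ?_⟩
    exact ((hφeq y ⟨h, hh⟩).mpr hyh).symm

section ti
variable {G : Type u} [Group G] (H : Subgroup G)
  (hTI : Cfsg.IsTISubset (H : Set G))
  (hHall : (Nat.card H).Coprime (H.subgroupOf (Subgroup.normalizer (H : Set G))).index)

include hTI in
theorem ti_mem_normalizer (g x : G) (hx : x ∈ H) (hx1 : x ≠ 1) (h : g * x * g⁻¹ ∈ H) :
    g ∈ normalizer (H : Set G) := by
  by_contra hg
  exact hx1 (hTI g hg x hx h)

include hTI in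
theorem ti_commute (c x : G) (hx : x ∈ H) (hx1 : x ≠ 1) (hc : c * x = x * c) :
    c ∈ normalizer (H : Set G) := by
  apply ti_mem_normalizer H hTI c x hx hx1
  rw [hc, mul_inv_cancel_right]
  exact hx

theorem mem_of_coprime (y : G) (hyN : y ∈ normalizer (H : Set G))
    (hy : (orderOf y).Coprime (H.subgroupOf (Subgroup.normalizer (H : Set G))).index) :
    y ∈ H := by
  have hn : (H.subgroupOf (normalizer (H : Set G))).Normal := Subgroup.normal_in_normalizer
  have h1 := Subgroup.pow_index_mem (H.subgroupOf (normalizer (H : Set G)))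
    (⟨y, hyN⟩ : normalizer (H : Set G))
  rw [Subgroup.mem_subgroupOf] at h1
  have h2 : y ^ (H.subgroupOf (normalizer (H : Set G))).index ∈ H := h1
  obtain ⟨m, hm⟩ := exists_pow_eq_self_of_coprime hy.symm
  rw [← hm]
  exact H.pow_mem h2 m

include hHall in
theorem mem_of_orderOf_dvd [Finite G] (y : G) (hyN : y ∈ normalizer (H : Set G))
    (hy : orderOf y ∣ Nat.card H) : y ∈ H :=
  mem_of_coprime H y hyN (Nat.Coprime.coprime_dvd_left hy hHall)

include hTI hHall in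
theorem hall_in_G [Finite G] : (Nat.card H).Coprime H.index := by
  apply Nat.coprime_of_dvd
  intro p hp hpH hpidx
  have hpf : Fact p.Prime := ⟨hp⟩
  obtain ⟨x, hx⟩ := exists_prime_orderOf_dvd_card' (G := H) p hpH
  have hxG : orderOf (x : G) = p := by rw [Subgroup.orderOf_coe, hx]
  have hx1 : (x : G) ≠ 1 := by
    intro e
    rw [e, orderOf_one] at hxG
    exact hp.one_lt.ne hxG
  have hzp : IsPGroup p (zpowers (x : G)) :=
    IsPGroup.of_card (n := 1) (by rw [Nat.card_zpowers, hxG, pow_one])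
  obtain ⟨S, hS⟩ := hzp.exists_le_sylow
  have hxS : (x : G) ∈ (S : Subgroup G) := hS (Subgroup.mem_zpowers _)
  have hSH : (S : Subgroup G) ≤ H := by
    by_contra hnot
    have hlt : (S : Subgroup G) ⊓ H < (S : Subgroup G) := by
      refine lt_of_le_of_ne inf_le_left ?_
      intro e
      exact hnot (e ▸ inf_le_right)
    have hnil : Group.IsNilpotent (S : Subgroup G) := S.2.isNilpotent
    obtain ⟨s, hsS, hsN, hsT⟩ :=
      Cfsg.Agent.Lib.Lead.exists_mem_normalizer_not_mem _ _ hlt hnil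
    rw [Subgroup.mem_normalizer_iff] at hsN
    have h1 : s * (x : G) * s⁻¹ ∈ (S : Subgroup G) ⊓ H := (hsN _).mp ⟨hxS, x.2⟩
    have hsNH : s ∈ normalizer (H : Set G) := ti_mem_normalizer H hTI s x x.2 hx1 h1.2
    obtain ⟨j, hj⟩ := (IsPGroup.iff_orderOf.mp S.2) ⟨s, hsS⟩
    have hj' : orderOf s = p ^ j := by
      rw [← hj]
      exact (Subgroup.orderOf_mk s hsS).symm
    have hcop : (orderOf s).Coprime (H.subgroupOf (Subgroup.normalizer (H : Set G))).index := by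
      rw [hj']
      apply Nat.Coprime.pow_left
      rw [Nat.Prime.coprime_iff_not_dvd hp]
      intro hd
      have := Nat.Coprime.eq_one_of_dvd (Nat.Coprime.coprime_dvd_left hpH hHall) hd
      exact hp.one_lt.ne' this
    exact hsT ⟨hsS, mem_of_coprime H s hsNH hcop⟩
  exact S.not_dvd_index (dvd_trans hpidx (Subgroup.index_dvd_of_le hSH))

include hTI hHall in
theorem exists_conj_mem [Finite G] (y : G) (hy : orderOf y ∣ Nat.card H) : ∃ g : G, g⁻¹ * y * g ∈ H := by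
  by_cases hy1 : orderOf y = 1
  · refine ⟨1, ?_⟩
    rw [orderOf_eq_one_iff.mp hy1]
    simp
  obtain ⟨p, hp, hpy⟩ : ∃ p : ℕ, p.Prime ∧ p ∣ orderOf y :=
    ⟨_, Nat.minFac_prime hy1, Nat.minFac_dvd _⟩
  have hpf : Fact p.Prime := ⟨hp⟩
  obtain ⟨a, b, hab, hcomm, ⟨k, hk⟩, hcop, ha, hb⟩ := exists_p_decomp p y
  have hadvd : orderOf a ∣ orderOf y := orderOf_dvd_of_mem_zpowers ha
  have hbdvd : orderOf b ∣ orderOf y := orderOf_dvd_of_mem_zpowers hb
  have ha1 : a ≠ 1 := by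
    intro e
    rw [e, one_mul] at hab
    rw [hab] at hpy
    have := Nat.Coprime.eq_one_of_dvd hcop.symm hpy
    exact hp.one_lt.ne' this
  have hidx : ¬ p ∣ H.index := by
    intro hd
    have h1 : p ∣ Nat.card H := dvd_trans hpy hy
    have := Nat.Coprime.eq_one_of_dvd (Nat.Coprime.coprime_dvd_left h1 (hall_in_G H hTI hHall)) hd
    exact hp.one_lt.ne' this
  obtain ⟨g, hg⟩ := Cfsg.Agent.S4051.exists_conj_mem_of_index p H hidx a k hk
  refine ⟨g, ?_⟩
  have hg1 : g⁻¹ * a * g ≠ 1 := by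
    intro e
    apply ha1
    have : a = g * (g⁻¹ * a * g) * g⁻¹ := by group
    rw [this, e]
    group
  have hbN : g⁻¹ * b * g ∈ normalizer (H : Set G) := by
    apply ti_commute H hTI _ _ hg hg1
    have e1 : g⁻¹ * b * g * (g⁻¹ * a * g) = g⁻¹ * (b * a) * g := by group
    have e2 : g⁻¹ * a * g * (g⁻¹ * b * g) = g⁻¹ * (a * b) * g := by group
    rw [e1, e2, hcomm.eq]
  have hbo : orderOf (g⁻¹ * b * g) = orderOf b := by
    have := orderOf_injective (MulAut.conj g⁻¹).toMonoidHom (MulAut.conj g⁻¹).injective b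
    simpa using this
  have hbH : g⁻¹ * b * g ∈ H :=
    mem_of_orderOf_dvd H hHall _ hbN (by rw [hbo]; exact dvd_trans hbdvd hy)
  have e : g⁻¹ * y * g = (g⁻¹ * a * g) * (g⁻¹ * b * g) := by rw [hab]; group
  rw [e]
  exact H.mul_mem hg hbH


omit hTI hHall in
theorem orderOf_conj' (g y : G) : orderOf (g⁻¹ * y * g) = orderOf y := by
  have := orderOf_injective (MulAut.conj g⁻¹).toMonoidHom (MulAut.conj g⁻¹).injective y
  simpa using this

include hTI hHall in
theorem conj_into [Finite G] (H₁ : Subgroup G) (h₁ : ∀ y ∈ H₁, orderOf y ∣ Nat.card H) :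
    ∃ g : G, ∀ y ∈ H₁, g⁻¹ * y * g ∈ H := by
  have hHN : H ≤ normalizer (H : Set G) := Subgroup.le_normalizer
  have key : ∀ a : H₁, a ≠ 1 → ∃! ω : G ⧸ normalizer (H : Set G), a • ω = ω := by
    intro a ha
    have ha' : (a : G) ≠ 1 := fun e => ha (Subtype.ext e)
    obtain ⟨g, hg⟩ := exists_conj_mem H hTI hHall (a : G) (h₁ a a.2)
    have hg1 : g⁻¹ * (a : G) * g ≠ 1 := by
      intro e
      apply ha'
      have : (a : G) = g * (g⁻¹ * (a : G) * g) * g⁻¹ := by group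
      rw [this, e]
      group
    refine ⟨(g : G ⧸ normalizer (H : Set G)), ?_, ?_⟩
    · show (((a : G) * g : G) : G ⧸ normalizer (H : Set G)) = (g : G ⧸ normalizer (H : Set G))
      rw [QuotientGroup.eq]
      have e : ((a : G) * g)⁻¹ * g = (g⁻¹ * (a : G) * g)⁻¹ := by group
      rw [e]
      exact hHN (H.inv_mem hg)
    · intro ω hω
      obtain ⟨g', rfl⟩ := QuotientGroup.mk_surjective ω
      have hω' : (((a : G) * g' : G) : G ⧸ normalizer (H : Set G)) =
          (g' : G ⧸ normalizer (H : Set G)) := hω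
      rw [QuotientGroup.eq] at hω'
      have h1 : g'⁻¹ * (a : G) * g' ∈ normalizer (H : Set G) := by
        have e : g'⁻¹ * (a : G) * g' = (((a : G) * g')⁻¹ * g')⁻¹ := by group
        rw [e]
        exact Subgroup.inv_mem _ hω'
      have h2 : g'⁻¹ * (a : G) * g' ∈ H :=
        mem_of_orderOf_dvd H hHall _ h1 (by rw [orderOf_conj']; exact h₁ a a.2)
      have h3 : g'⁻¹ * g ∈ normalizer (H : Set G) := by
        apply ti_mem_normalizer H hTI _ _ hg hg1
        have e : g'⁻¹ * g * (g⁻¹ * (a : G) * g) * (g'⁻¹ * g)⁻¹ = g'⁻¹ * (a : G) * g' := by group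
        rw [e]
        exact h2
      exact QuotientGroup.eq.mpr h3
  obtain ⟨ω, hω⟩ := exists_fixed_of_unique_fixed key
  obtain ⟨g, rfl⟩ := QuotientGroup.mk_surjective ω
  refine ⟨g, fun y hy => ?_⟩
  have h1 : (((y : G) * g : G) : G ⧸ normalizer (H : Set G)) =
      (g : G ⧸ normalizer (H : Set G)) := hω ⟨y, hy⟩
  rw [QuotientGroup.eq] at h1
  have h2 : g⁻¹ * y * g ∈ normalizer (H : Set G) := by
    have e : g⁻¹ * y * g = ((y * g)⁻¹ * g)⁻¹ := by group
    rw [e]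
    exact Subgroup.inv_mem _ h1
  exact mem_of_orderOf_dvd H hHall _ h2 (by rw [orderOf_conj']; exact h₁ y hy)

include hTI hHall in
theorem part1_forward [Finite G] (K₀ : Subgroup (normalizer (H : Set G))) (hK₀n : K₀.Normal)
    (hK₀ : K₀.IsComplement' (H.subgroupOf (normalizer (H : Set G)))) :
    ∃ M : Subgroup G, M.Normal ∧ M.IsComplement' H := by
  have hHallG := hall_in_G H hTI hHall
  have hHN : H ≤ normalizer (H : Set G) := Subgroup.le_normalizer
  have hH'n : (H.subgroupOf (normalizer (H : Set G))).Normal := Subgroup.normal_in_normalizer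
  have hfus : ∀ x ∈ H, ∀ y ∈ H, IsConj x y → ∃ h ∈ H, h * x * h⁻¹ = y := by
    intro x hx y hy hxy
    obtain ⟨c, hc⟩ := isConj_iff.mp hxy
    by_cases hx1 : x = 1
    · refine ⟨1, H.one_mem, ?_⟩
      rw [← hc, hx1]
      simp
    have hcN : c ∈ normalizer (H : Set G) := ti_mem_normalizer H hTI c x hx hx1 (hc ▸ hy)
    obtain ⟨⟨k, h'⟩, hkh, _⟩ := hK₀.existsUnique (⟨c, hcN⟩ : normalizer (H : Set G))
    have hkh' : (k : normalizer (H : Set G)) * (h' : normalizer (H : Set G)) = ⟨c, hcN⟩ := hkh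
    have hh'H : ((h' : normalizer (H : Set G)) : G) ∈ H := Subgroup.mem_subgroupOf.mp h'.2
    refine ⟨((h' : normalizer (H : Set G)) : G), hh'H, ?_⟩
    set x' : normalizer (H : Set G) := ⟨x, hHN hx⟩ with hx'
    have hmem : (h' : normalizer (H : Set G)) * x' * (h' : normalizer (H : Set G))⁻¹ ∈
        H.subgroupOf (normalizer (H : Set G)) := by
      rw [Subgroup.mem_subgroupOf]
      push_cast
      exact H.mul_mem (H.mul_mem hh'H hx) (H.inv_mem hh'H)
    have hcomm := Subgroup.commute_of_normal_of_disjoint K₀ _ hK₀n hH'n hK₀.disjoint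
      (k : normalizer (H : Set G)) _ k.2 hmem
    have e1 : (⟨c, hcN⟩ : normalizer (H : Set G)) * x' * (⟨c, hcN⟩ : normalizer (H : Set G))⁻¹ =
        (h' : normalizer (H : Set G)) * x' * (h' : normalizer (H : Set G))⁻¹ := by
      rw [← hkh']
      have : (k : normalizer (H : Set G)) * (h' : normalizer (H : Set G)) * x' *
          ((k : normalizer (H : Set G)) * (h' : normalizer (H : Set G)))⁻¹ =
          (k : normalizer (H : Set G)) * ((h' : normalizer (H : Set G)) * x' *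
            (h' : normalizer (H : Set G))⁻¹) * (k : normalizer (H : Set G))⁻¹ := by group
      rw [this, hcomm.eq, mul_inv_cancel_right]
    have e2 := congrArg Subtype.val e1
    rw [← hc]
    exact e2.symm
  have helem : ∀ (E : Subgroup G) (p : ℕ), p.Prime → Cfsg.IsElementary p E →
      Nat.card E ∣ Nat.card H → ∃ g : G, E.map (MulAut.conj g).toMonoidHom ≤ H := by
    intro E p _ _ hE
    obtain ⟨g, hg⟩ := conj_into H hTI hHall E
      (fun y hy => dvd_trans (Subgroup.orderOf_dvd_natCard E hy) hE)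
    refine ⟨g⁻¹, ?_⟩
    rintro _ ⟨y, hy, rfl⟩
    have := hg y hy
    simpa [MulAut.conj_apply] using this
  obtain ⟨M, hMn, hsup, hinf⟩ := Cfsg.Agent.S0877.result H hHallG hfus helem
  refine ⟨M, hMn, ?_⟩
  apply Subgroup.isComplement'_of_disjoint_and_mul_eq_univ (disjoint_iff.mpr hinf)
  rw [← Subgroup.normal_mul, hsup]
  rfl

omit hTI hHall in
theorem part1_backward (M : Subgroup G) (hMn : M.Normal) (hM : M.IsComplement' H) :
    ∃ K : Subgroup (Subgroup.normalizer (H : Set G)), K.Normal ∧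
      K.IsComplement' (H.subgroupOf (Subgroup.normalizer (H : Set G))) := by
  have hHN : H ≤ normalizer (H : Set G) := Subgroup.le_normalizer
  refine ⟨M.subgroupOf (normalizer (H : Set G)), Subgroup.normal_subgroupOf, ?_⟩
  apply Subgroup.isComplement'_of_disjoint_and_mul_eq_univ
  · rw [Subgroup.disjoint_def]
    intro x hx1 hx2
    rw [Subgroup.mem_subgroupOf] at hx1 hx2
    have := Subgroup.disjoint_def.mp hM.disjoint hx1 hx2
    exact Subtype.ext this
  · rw [Set.eq_univ_iff_forall]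
    intro n
    obtain ⟨⟨m, h⟩, hmh, _⟩ := hM.existsUnique (n : G)
    have hmh' : (m : G) * (h : G) = (n : G) := hmh
    have hmN : (m : G) ∈ normalizer (H : Set G) := by
      have : (m : G) = (n : G) * (h : G)⁻¹ := by rw [← hmh']; group
      rw [this]
      exact Subgroup.mul_mem _ n.2 (Subgroup.inv_mem _ (hHN h.2))
    refine ⟨⟨m, hmN⟩, ?_, ⟨h, hHN h.2⟩, ?_, ?_⟩
    · exact Subgroup.mem_subgroupOf.mpr m.2
    · exact Subgroup.mem_subgroupOf.mpr h.2
    · exact Subtype.ext hmh'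

include hTI hHall in
theorem inv_sylow [Finite G] (M : Subgroup G) (hMn : M.Normal) (hM : M.IsComplement' H)
    (q : ℕ) [Fact q.Prime] :
    ∃ Q : Subgroup G, Q ≤ M ∧ Nat.card Q = q ^ (Nat.card M).factorization q ∧
      H ≤ normalizer (Q : Set G) := by
  have hHallG := hall_in_G H hTI hHall
  have hMcard : Nat.card M = H.index := hM.index_eq_card.symm
  have hMidx : M.index = Nat.card H := hM.symm.index_eq_card
  have hcopMH : (Nat.card M).Coprime (Nat.card H) := by rw [hMcard]; exact hHallG.symm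
  let P₀ : Sylow q M := default
  set S₀ : Subgroup G := (P₀ : Subgroup M).map M.subtype with hS₀
  have hS₀card : Nat.card S₀ = q ^ (Nat.card M).factorization q := by
    rw [hS₀, Subgroup.card_map_of_injective M.subtype_injective]
    exact P₀.card_eq_multiplicity
  have hS₀M : S₀ ≤ M := by
    rintro _ ⟨y, _, rfl⟩
    exact y.2
  have hfr : normalizer (S₀ : Set G) ⊔ M = ⊤ := Sylow.normalizer_sup_eq_top P₀
  set Y := normalizer (S₀ : Set G) with hY
  have hidxY : (M.subgroupOf Y).index = Nat.card H := by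
    change M.relIndex Y = _
    rw [← Subgroup.relIndex_sup_right, hfr, Subgroup.relIndex_top_right, hMidx]
  have hcopY : (Nat.card (M.subgroupOf Y)).Coprime (M.subgroupOf Y).index := by
    rw [hidxY]
    exact Nat.Coprime.coprime_dvd_left (Cfsg.Agent.S0001.card_subgroupOf_dvd M Y) hcopMH
  have hMYn : (M.subgroupOf Y).Normal := Subgroup.normal_subgroupOf
  obtain ⟨B', hB'⟩ := Subgroup.exists_left_complement'_of_coprime hcopY
  have hcardB' : Nat.card B' = Nat.card H := by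
    rw [← hidxY]
    exact hB'.index_eq_card.symm
  set H₁ : Subgroup G := B'.map Y.subtype with hH₁
  have hcardH₁ : Nat.card H₁ = Nat.card H := by
    rw [hH₁, Subgroup.card_map_of_injective Y.subtype_injective, hcardB']
  have hH₁Y : H₁ ≤ Y := by
    rintro _ ⟨b, _, rfl⟩
    exact b.2
  obtain ⟨g, hg⟩ := conj_into H hTI hHall H₁
    (fun y hy => hcardH₁ ▸ Subgroup.orderOf_dvd_natCard H₁ hy)
  have hsurj : ∀ h ∈ H, ∃ y ∈ H₁, g⁻¹ * y * g = h := by
    let f : H₁ → H := fun y => ⟨g⁻¹ * (y : G) * g, hg y y.2⟩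
    have hfinj : Function.Injective f := by
      intro y y' hyy
      have h1 : g⁻¹ * (y : G) * g = g⁻¹ * (y' : G) * g := congrArg Subtype.val hyy
      apply Subtype.ext
      exact mul_left_cancel (mul_right_cancel h1)
    have hfbij : Function.Bijective f :=
      hfinj.bijective_of_nat_card_le (by rw [hcardH₁])
    intro h hh
    obtain ⟨y, hy⟩ := hfbij.2 ⟨h, hh⟩
    exact ⟨y, y.2, congrArg Subtype.val hy⟩
  set Q : Subgroup G := S₀.map (MulAut.conj g⁻¹).toMonoidHom with hQ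
  have hQmem : ∀ y, y ∈ Q ↔ g * y * g⁻¹ ∈ S₀ := by
    intro y
    have := Cfsg.Agent.S4051.mem_map_conj S₀ g⁻¹ y
    rw [inv_inv] at this
    exact this
  refine ⟨Q, ?_, ?_, ?_⟩
  · intro y hy
    have h1 := hS₀M ((hQmem y).mp hy)
    have h2 := hMn.conj_mem _ h1 g⁻¹
    have e : g⁻¹ * (g * y * g⁻¹) * g⁻¹⁻¹ = y := by group
    rwa [e] at h2
  · rw [hQ, Subgroup.card_map_of_injective (MulAut.conj g⁻¹).injective]
    exact hS₀card
  · intro h hh
    obtain ⟨y, hy, rfl⟩ := hsurj h hh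
    have hyY : y ∈ normalizer (S₀ : Set G) := hH₁Y hy
    rw [Subgroup.mem_normalizer_iff] at hyY ⊢
    intro x
    rw [hQmem, hQmem, hyY (g * x * g⁻¹)]
    have e : y * (g * x * g⁻¹) * y⁻¹ = g * (g⁻¹ * y * g * x * (g⁻¹ * y * g)⁻¹) * g⁻¹ := by group
    rw [e]

include hTI in
theorem frob_core [Finite G] (M Q : Subgroup G) (hQM : Q ≤ M)
    (hcop : (Nat.card H).Coprime (Nat.card M))
    (hcent : ∀ k ∈ M, k ∈ normalizer (H : Set G) → ∀ h ∈ H, k * h = h * k)
    (u : G) (huQ : u ∈ Q) (a : G) (ha : a ∈ H) (ha1 : a ≠ 1) (z : G)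
    (hz : z ∈ Q ⊓ normalizer (H : Set G)) (h : a * u * a⁻¹ = u * z) :
    u ∈ Q ⊓ normalizer (H : Set G) := by
  set Q₀ : Subgroup G := Q ⊓ normalizer (H : Set G) with hQ₀
  have hQ₀M : Q₀ ≤ M := le_trans inf_le_left hQM
  have hc : ∀ b ∈ H, ∀ w ∈ Q₀, b * w * b⁻¹ = w := by
    intro b hb w hw
    have := hcent w (hQ₀M hw) hw.2 b hb
    rw [← this, mul_inv_cancel_right]
  let Su : Subgroup G :=
    { carrier := {b | b ∈ H ∧ u⁻¹ * (b * u * b⁻¹) ∈ Q₀}
      one_mem' := by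
        refine ⟨H.one_mem, ?_⟩
        simp
      mul_mem' := by
        rintro b c ⟨hb, hb'⟩ ⟨hc1, hc'⟩
        refine ⟨H.mul_mem hb hc1, ?_⟩
        have e : u⁻¹ * (b * c * u * (b * c)⁻¹) =
            u⁻¹ * (b * u * b⁻¹) * (b * (u⁻¹ * (c * u * c⁻¹)) * b⁻¹) := by group
        rw [e, hc b hb _ hc']
        exact Q₀.mul_mem hb' hc'
      inv_mem' := by
        rintro b ⟨hb, hb'⟩
        refine ⟨H.inv_mem hb, ?_⟩
        have e : u⁻¹ * (b⁻¹ * u * b⁻¹⁻¹) = b⁻¹ * (u⁻¹ * (b * u * b⁻¹))⁻¹ * b⁻¹⁻¹ := by group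
        rw [e, hc b⁻¹ (H.inv_mem hb) _ (Q₀.inv_mem hb')]
        exact Q₀.inv_mem hb' }
  have haSu : a ∈ Su := by
    refine ⟨ha, ?_⟩
    rw [h, inv_mul_cancel_left]
    exact hz
  have hzp : zpowers a ≤ Su := (Subgroup.zpowers_le).mpr haSu
  have hzpH : zpowers a ≤ H := (Subgroup.zpowers_le).mpr ha
  have hAD : zpowers a ≤ normalizer (Q₀ : Set G) := by
    intro b hb
    apply Subgroup.mem_normalizer_fintype
    intro n hn
    rw [hc b (hzpH hb) n hn]
    exact hn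
  have hcop' : (Nat.card (zpowers a)).Coprime (Nat.card Q₀) := by
    apply Nat.Coprime.coprime_dvd_left (Subgroup.card_dvd_of_le hzpH)
    exact Nat.Coprime.coprime_dvd_right (Subgroup.card_dvd_of_le hQ₀M) hcop
  have hsolv : Group.IsSolvable (zpowers a) := by
    have hcomm : IsMulCommutative (zpowers a) := inferInstance
    exact Group.isSolvable_of_comm (fun x y => hcomm.is_comm.comm x y)
  obtain ⟨d, hd, hud⟩ := Cfsg.Agent.Lib.Lead.coset_fixed (zpowers a) Q₀ hAD hcop' (Or.inl hsolv) u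
    (fun b hb => (hzp hb).2)
  rw [Subgroup.mem_centralizer_iff] at hud
  have h1 := hud a (Subgroup.mem_zpowers a)
  have h2 : u * d ∈ normalizer (H : Set G) := ti_commute H hTI (u * d) a ha ha1 h1.symm
  have h3 : u * d ∈ Q₀ := ⟨Q.mul_mem huQ hd.1, h2⟩
  have e : u = u * d * d⁻¹ := by group
  rw [e]
  exact Q₀.mul_mem h3 (Q₀.inv_mem hd)

include hTI hHall in
theorem part2 [Finite G] (hHn : ¬ H.Normal) (M : Subgroup G) (hMn : M.Normal)
    (hM : M.IsComplement' H) :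
    ∃ (F : Type u) (_ : Group F) (_ : Finite F) (C : Subgroup F),
      Cfsg.IsFrobeniusComplement C ∧ Nonempty (H ≃* C) := by
  have hHallG := hall_in_G H hTI hHall
  have hMcard : Nat.card M = H.index := hM.index_eq_card.symm
  have hcop : (Nat.card H).Coprime (Nat.card M) := by rw [hMcard]; exact hHallG
  have hdisj : ∀ x, x ∈ M → x ∈ H → x = 1 := fun x h1 h2 =>
    Subgroup.disjoint_def.mp hM.disjoint h1 h2
  have hcent : ∀ k ∈ M, k ∈ normalizer (H : Set G) → ∀ h ∈ H, k * h = h * k := by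
    intro k hkM hkN h hh
    have h1 : k * h * k⁻¹ ∈ H := (Subgroup.mem_normalizer_iff.mp hkN h).mp hh
    have h2 : k * h * k⁻¹ * h⁻¹ ∈ H := H.mul_mem h1 (H.inv_mem hh)
    have h3 : k * h * k⁻¹ * h⁻¹ ∈ M := by
      have h4 : h * k⁻¹ * h⁻¹ ∈ M := hMn.conj_mem _ (M.inv_mem hkM) h
      have e : k * h * k⁻¹ * h⁻¹ = k * (h * k⁻¹ * h⁻¹) := by group
      rw [e]
      exact M.mul_mem hkM h4
    have h5 := hdisj _ h3 h2
    have h6 := mul_inv_eq_one.mp h5
    exact mul_inv_eq_iff_eq_mul.mp h6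
  have hH1 : H ≠ ⊥ := by
    intro e
    apply hHn
    rw [e]
    infer_instance
  -- find Q
  have hexQ : ∃ (q : ℕ) (_ : q.Prime) (Q : Subgroup G), Q ≤ M ∧
      Nat.card Q = q ^ (Nat.card M).factorization q ∧ H ≤ normalizer (Q : Set G) ∧
      ¬ Q ≤ normalizer (H : Set G) := by
    by_contra hcon
    push Not at hcon
    have hdvd : Nat.card M ∣ Nat.card (M ⊓ normalizer (H : Set G) : Subgroup G) := by
      rw [Nat.dvd_iff_prime_pow_dvd_dvd]
      intro p k hp hpk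
      have hpf : Fact p.Prime := ⟨hp⟩
      obtain ⟨Q, hQM, hQcard, hQn⟩ := inv_sylow H hTI hHall M hMn hM p
      have hQN := hcon p hp Q hQM hQcard hQn
      have h1 : k ≤ (Nat.card M).factorization p :=
        (hp.pow_dvd_iff_le_factorization (Nat.card_pos (α := M)).ne').mp hpk
      have h2 : p ^ k ∣ Nat.card Q := by
        rw [hQcard]
        exact pow_dvd_pow p h1
      exact dvd_trans h2 (Subgroup.card_dvd_of_le (le_inf hQM hQN))
    have hMN : M ≤ normalizer (H : Set G) := by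
      have h1 : (M ⊓ normalizer (H : Set G) : Subgroup G) = M :=
        Subgroup.eq_of_le_of_card_ge inf_le_left (Nat.le_of_dvd Nat.card_pos hdvd)
      rw [← h1]
      exact inf_le_right
    apply hHn
    rw [← Subgroup.normalizer_eq_top_iff, eq_top_iff, ← hM.sup_eq_top]
    exact sup_le hMN Subgroup.le_normalizer
  obtain ⟨q, hq, Q, hQM, hQcard, hHQ, hQN⟩ := hexQ
  have hqf : Fact q.Prime := ⟨hq⟩
  set Q₀ : Subgroup G := Q ⊓ normalizer (H : Set G) with hQ₀
  have hQ₀Q : Q₀ ≤ Q := inf_le_left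
  have hQ₀M : Q₀ ≤ M := le_trans hQ₀Q hQM
  have hlt : Q₀ < Q := lt_of_le_of_ne hQ₀Q (fun e => hQN (e ▸ inf_le_right))
  have hQp : IsPGroup q Q := IsPGroup.of_card hQcard
  have hnil : Group.IsNilpotent Q := hQp.isNilpotent
  obtain ⟨u₀, hu₀Q, hu₀N, hu₀⟩ := Cfsg.Agent.Lib.Lead.exists_mem_normalizer_not_mem _ _ hlt hnil
  have hc : ∀ b ∈ H, ∀ w ∈ Q₀, b * w * b⁻¹ = w := by
    intro b hb w hw
    have := hcent w (hQ₀M hw) hw.2 b hb
    rw [← this, mul_inv_cancel_right]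
  set Q₁ : Subgroup G := Q ⊓ normalizer (Q₀ : Set G) with hQ₁
  have hHQ₁ : H ≤ normalizer (Q₁ : Set G) := by
    intro h hh
    apply Subgroup.mem_normalizer_fintype
    intro w hw
    refine ⟨?_, ?_⟩
    · exact (Subgroup.mem_normalizer_iff.mp (hHQ hh) w).mp hw.1
    · apply Subgroup.mem_normalizer_fintype
      intro n hn
      have h1 : w * n * w⁻¹ ∈ Q₀ := (Subgroup.mem_normalizer_iff.mp hw.2 n).mp hn
      have e : h * w * h⁻¹ * n * (h * w * h⁻¹)⁻¹ =
          h * (w * (h⁻¹ * n * h⁻¹⁻¹) * w⁻¹) * h⁻¹ := by group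
      rw [e, hc h⁻¹ (H.inv_mem hh) n hn, hc h hh _ h1]
      exact h1
  have hHnQ₀ : H ≤ normalizer (Q₀ : Set G) := by
    intro h hh
    apply Subgroup.mem_normalizer_fintype
    intro n hn
    rw [hc h hh n hn]
    exact hn
  apply frob_quotient H (Q₁ ⊔ H) Q₀ le_sup_right (sup_le inf_le_right hHnQ₀)
    (fun x hxH hxQ => hdisj x (hQ₀M hxQ) hxH) hH1
  · refine ⟨u₀, Subgroup.mem_sup_left ⟨hu₀Q, hu₀N⟩, ?_⟩
    intro h hh hmem
    have h1 : h ∈ M := by
      have e : h = u₀ * (u₀⁻¹ * h) := by group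
      rw [e]
      exact M.mul_mem (hQM hu₀Q) (hQ₀M hmem)
    have h2 := hdisj h h1 hh
    rw [h2, mul_one] at hmem
    exact hu₀ (by simpa using Q₀.inv_mem hmem)
  · intro y hy h₁ hh₁ h₂ hh₂ hne hz
    have hy' : y ∈ ((Q₁ ⊔ H : Subgroup G) : Set G) := hy
    rw [Subgroup.coe_mul_of_right_le_normalizer_left Q₁ H hHQ₁] at hy'
    obtain ⟨u, hu, h₀, hh₀, rfl⟩ := Set.mem_mul.mp hy'
    have hu' : u ∈ Q₁ := hu
    have hh₀' : h₀ ∈ H := hh₀
    set z := ((u * h₀)⁻¹ * h₁ * (u * h₀))⁻¹ * h₂ with hzdef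
    have hz1 : h₀ * z * h₀⁻¹ = z := hc h₀ hh₀' z hz
    set h₃ := h₀ * h₂ * h₀⁻¹ with hh₃
    have hh₃H : h₃ ∈ H := H.mul_mem (H.mul_mem hh₀' hh₂) (H.inv_mem hh₀')
    have e1 : z = u⁻¹ * h₁⁻¹ * u * h₃ := by
      rw [← hz1, hzdef, hh₃]
      group
    have e2 : h₁⁻¹ * h₃ = (h₁⁻¹ * u⁻¹ * h₁⁻¹⁻¹) * u * z := by
      rw [e1]; group
    have huM : u ∈ M := hQM hu'.1
    have h3 : h₁⁻¹ * h₃ ∈ M := by
      rw [e2]
      exact M.mul_mem (M.mul_mem (hMn.conj_mem _ (M.inv_mem huM) h₁⁻¹) huM) (hQ₀M hz)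
    have h4 : h₁⁻¹ * h₃ = 1 := hdisj _ h3 (H.mul_mem (H.inv_mem hh₁) hh₃H)
    have h5 : h₃ = h₁ := by
      have := inv_mul_eq_one.mp h4
      exact this.symm
    have e3 : h₁⁻¹ * u * h₁⁻¹⁻¹ = u * z := by
      rw [e1, h5]; group
    have hne' : h₁⁻¹ ≠ 1 := fun e => hne (inv_eq_one.mp e)
    have huQ₀ : u ∈ Q₀ := frob_core H hTI M Q hQM hcop hcent u hu'.1 h₁⁻¹ (H.inv_mem hh₁) hne'
      z hz e3
    refine ⟨h₀, hh₀', ?_⟩
    have e4 : (u * h₀)⁻¹ * h₀ = h₀⁻¹ * u⁻¹ * h₀⁻¹⁻¹ := by group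
    rw [e4, hc h₀⁻¹ (H.inv_mem hh₀') _ (Q₀.inv_mem huQ₀)]
    exact Q₀.inv_mem huQ₀

end ti

theorem result {G : Type u} [Group G] [Finite G] (H : Subgroup G)
    (hTI : Cfsg.IsTISubset (H : Set G)) (hHall : (Nat.card H).Coprime (H.subgroupOf (Subgroup.normalizer (H : Set G))).index) :
    ((∃ K : Subgroup (Subgroup.normalizer (H : Set G)), K.Normal ∧ K.IsComplement' (H.subgroupOf (Subgroup.normalizer (H : Set G)))) ↔
      (∃ N : Subgroup G, N.Normal ∧ N.IsComplement' H)) ∧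
    (¬ H.Normal → (∃ K : Subgroup (Subgroup.normalizer (H : Set G)), K.Normal ∧ K.IsComplement' (H.subgroupOf (Subgroup.normalizer (H : Set G)))) →
      ∃ (F : Type u) (_ : Group F) (_ : Finite F) (C : Subgroup F), Cfsg.IsFrobeniusComplement C ∧ Nonempty (H ≃* C)) := by
  refine ⟨⟨?_, ?_⟩, ?_⟩
  · rintro ⟨K₀, hK₀n, hK₀⟩
    exact part1_forward H hTI hHall K₀ hK₀n hK₀
  · rintro ⟨M, hMn, hM⟩
    exact part1_backward H M hMn hM
  · rintro hHn ⟨K₀, hK₀n, hK₀⟩
    obtain ⟨M, hMn, hM⟩ := part1_forward H hTI hHall K₀ hK₀n hK₀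
    exact part2 H hTI hHall hHn M hMn hM

end Cfsg.Agent.S4115
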