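import Mathlib
import Cfsg.Statements.S0514
import Cfsg.Agent.S1254

set_option autoImplicit false
open Cfsg

namespace Cfsg.Agent.S0514

open Cfsg.Agent.Lib.Helper21 Cfsg.Agent.S1254

variable {G : Type*} [Group G]

/-- an odd-order element normalizing a subgroup `Q` of a dihedral `2`-group centralizes it, unless
`Q` is a four-group -/
theorem centralizes_or_klein [Finite G] {m : ℕ} (S : Subgroup G) (eS : S ≃* DihedralGroup m)
    (hS2 : IsPGroup 2 S)
    (Q : Subgroup G) (hQ : Q ≤ S) (g : G) (hg : g ∈ Subgroup.normalizer (Q : Set G))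
    (hodd : (orderOf g).Coprime 2) : g ∈ Subgroup.centralizer (Q : Set G) ∨ IsKleinFour Q := by
  haveI : Fact (Nat.Prime 2) := ⟨Nat.prime_two⟩
  have hQ2 : IsPGroup 2 Q := hS2.to_le hQ
  set R := Subgroup.zpowers (rotGen S eS) with hR
  set Q₀ := Q ⊓ R with hQ₀
  haveI hcyc : IsCyclic Q₀ := Subgroup.isCyclic_of_le (inf_le_right : Q₀ ≤ R)
  obtain ⟨⟨c₀, hc₀⟩, hgen'⟩ := hcyc.exists_generator
  have hgen : ∀ x ∈ Q₀, x ∈ Subgroup.zpowers c₀ := by
    intro x hx
    obtain ⟨k, hk⟩ := Subgroup.mem_zpowers_iff.mp (hgen' ⟨x, hx⟩)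
    rw [Subgroup.mem_zpowers_iff]
    refine ⟨k, ?_⟩
    have := congrArg Subtype.val hk
    simpa using this
  by_cases hsq : c₀ * c₀ = 1
  · -- case (i): `Q` has exponent two and order at most four
    have hexp : ∀ x ∈ Q, x * x = 1 := by
      intro x hx
      by_cases hxR : x ∈ R
      · obtain ⟨k, hk⟩ := Subgroup.mem_zpowers_iff.mp (hgen x ⟨hx, hxR⟩)
        rw [← hk, ← (Commute.refl c₀).mul_zpow k, hsq, one_zpow]
      · exact sq_eq_one_of_not_mem S eS x (hQ hx) hxR
    have hcard : Nat.card Q ≤ 4 := card_le_four S eS Q hQ c₀ hsq hgen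
    obtain ⟨k, hk⟩ := IsPGroup.iff_card.mp hQ2
    have hk2 : k ≤ 2 := by
      by_contra hcon
      push Not at hcon
      have : 2 ^ 3 ≤ 2 ^ k := Nat.pow_le_pow_right (by norm_num) hcon
      omega
    interval_cases k
    · -- trivial group
      have hbot : Q = ⊥ := Subgroup.card_eq_one.mp (by simpa using hk)
      left
      rw [Subgroup.mem_centralizer_iff]
      intro h hh
      rw [hbot] at hh
      rw [Subgroup.mem_bot.mp hh]; simp
    · have : IsCyclic Q := by
        haveI : Fact (Nat.Prime 2) := ⟨Nat.prime_two⟩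
        exact isCyclic_of_prime_card (p := 2) (by simpa using hk)
      exact Or.inl (centralizes_cyclic Q this hQ2 g hg hodd)
    · -- the Klein four case
      have hK : IsKleinFour Q := by
        refine ⟨by simpa using hk, ?_⟩
        have hdvd : Monoid.exponent Q ∣ 2 := by
          apply Monoid.exponent_dvd_of_forall_pow_eq_one
          intro x
          apply Subtype.ext
          have := hexp x x.2
          simp [pow_two, this]
        have hne : Monoid.exponent Q ≠ 1 := by
          intro h1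
          have := Monoid.exp_eq_one_iff.mp h1
          have hc1 : Nat.card Q = 1 := Nat.card_eq_one_iff_unique.mpr ⟨this, ⟨1⟩⟩
          rw [hk] at hc1
          norm_num at hc1
        rcases (Nat.dvd_prime Nat.prime_two).mp hdvd with h | h
        · exact absurd h hne
        · exact h
      exact Or.inr hK
  · -- case (ii)
    have hconj : ∀ h ∈ Subgroup.normalizer (Q : Set G), ∀ x ∈ Q₀, h * x * h⁻¹ ∈ Q₀ := by
      intro h hh x hx
      have h1 : h * c₀ * h⁻¹ ∈ Q := (Subgroup.mem_normalizer_iff.mp hh c₀).mp hc₀.1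
      have h2 : h * c₀ * h⁻¹ ∈ R := by
        by_contra hnot
        have := sq_eq_one_of_not_mem S eS _ (hQ h1) hnot
        apply hsq
        have h3 : h * c₀ * h⁻¹ * (h * c₀ * h⁻¹) = h * (c₀ * c₀) * h⁻¹ := by group
        rw [h3] at this
        have h4 : c₀ * c₀ = h⁻¹ * (h * (c₀ * c₀) * h⁻¹) * h := by group
        rw [h4, this]; group
      obtain ⟨k, hk⟩ := Subgroup.mem_zpowers_iff.mp (hgen x hx)
      have h5 : h * x * h⁻¹ = (h * c₀ * h⁻¹) ^ k := by
        rw [← hk, conj_zpow]
      rw [h5]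
      exact Subgroup.zpow_mem _ (Subgroup.mem_inf.mpr ⟨h1, h2⟩) k
    have hgN₀ : g ∈ Subgroup.normalizer (Q₀ : Set G) :=
      mem_normalizer_of_conj_mem Q₀ g (hconj g hg)
    have hgC₀ : g ∈ Subgroup.centralizer (Q₀ : Set G) :=
      centralizes_cyclic Q₀ hcyc (hQ2.to_le inf_le_left) g hgN₀ hodd
    left
    rw [Subgroup.mem_centralizer_iff]
    intro x hx
    symm
    apply comm_of_comm_commutator Q hQ2 g hg hodd x hx
    have hw : x⁻¹ * (g * x * g⁻¹) ∈ Q₀ := by
      have hgx : g * x * g⁻¹ ∈ Q := (Subgroup.mem_normalizer_iff.mp hg x).mp hx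
      refine ⟨Q.mul_mem (Q.inv_mem hx) hgx, ?_⟩
      by_cases hxR : x ∈ R
      · have h1 : g * x * g⁻¹ ∈ Q₀ := hconj g hg x ⟨hx, hxR⟩
        exact R.mul_mem (R.inv_mem hxR) h1.2
      · have h1 : g * x * g⁻¹ ∉ R := by
          intro hcon
          have h2 : g * x * g⁻¹ ∈ Q₀ := ⟨hgx, hcon⟩
          have h3 := (Subgroup.mem_normalizer_iff.mp hgN₀ x).mpr h2
          exact hxR h3.2
        exact inv_mul_mem_of_not_mem S eS x _ (hQ hx) (hQ hgx) hxR h1
    rw [Subgroup.mem_centralizer_iff] at hgC₀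
    exact (hgC₀ _ hw).symm



/-- if `g ^ 2` centralizes and `g` has odd order then `g` centralizes -/
theorem mem_centralizer_of_sq (Q : Subgroup G) (g : G) (hodd : (orderOf g).Coprime 2)
    (h : g ^ 2 ∈ Subgroup.centralizer (Q : Set G)) : g ∈ Subgroup.centralizer (Q : Set G) := by
  have ho : Odd (orderOf g) := by
    rw [← Nat.not_even_iff_odd, even_iff_two_dvd]
    intro h2
    have := Nat.Coprime.eq_one_of_dvd hodd.symm h2
    omega
  obtain ⟨k, hk⟩ := ho
  have : g = (g ^ 2) ^ (k + 1) := by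
    rw [← pow_mul]
    have : 2 * (k + 1) = orderOf g + 1 := by omega
    rw [this, pow_succ, pow_orderOf_eq_one, one_mul]
  rw [this]
  exact Subgroup.pow_mem _ h _

theorem conj_eq_of_comm {g x : G} (h : g * x = x * g) : g * x * g⁻¹ = x := by
  rw [h, mul_inv_cancel_right]

/-- **Lemma A**: an odd-order element normalizing a four-group and centralizing one of its
involutions centralizes it -/
theorem centralizes_klein_of_fix [Finite G] (Q : Subgroup G) (hK : IsKleinFour Q) (t : G) (ht : t ∈ Q)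
    (ht1 : t ≠ 1) (g : G) (hg : g ∈ Subgroup.normalizer (Q : Set G)) (hodd : (orderOf g).Coprime 2)
    (hgt : g * t = t * g) : g ∈ Subgroup.centralizer (Q : Set G) := by
  have hsq : ∀ x ∈ Q, x * x = 1 := by
    intro x hx
    have := hK.mul_self (⟨x, hx⟩ : Q)
    exact congrArg Subtype.val this
  obtain ⟨a, haQ, ha1, hat⟩ : ∃ v ∈ Q, v ≠ 1 ∧ v ≠ t := by
    by_contra hcon
    push Not at hcon
    have hsub : (Q : Set G) ⊆ {1, t} := by
      intro x hx
      by_cases hx1 : x = 1
      · left; exact hx1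
      · right; exact hcon x hx hx1
    have h1 : Nat.card Q ≤ 2 := by
      have h0 : Nat.card Q = (Q : Set G).ncard := Nat.card_coe_set_eq (Q : Set G)
      rw [h0]
      calc (Q : Set G).ncard ≤ ({1, t} : Set G).ncard := Set.ncard_le_ncard hsub (Set.toFinite _)
        _ ≤ 2 := by
          have := Set.ncard_insert_le (1 : G) ({t} : Set G)
          rw [Set.ncard_singleton] at this
          exact this
    rw [hK.card_four] at h1
    omega
  have hQ4 : ∀ x ∈ Q, x = 1 ∨ x = t ∨ x = a ∨ x = t * a := by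
    intro x hx
    by_cases hx1 : x = 1
    · left; exact hx1
    by_cases hxt : x = t
    · right; left; exact hxt
    by_cases hxa : x = a
    · right; right; left; exact hxa
    right; right; right
    have := hK.eq_mul_of_ne_all (x := (⟨t, ht⟩ : Q)) (y := ⟨a, haQ⟩) (z := ⟨x, hx⟩)
      (by intro h; exact ht1 (congrArg Subtype.val h))
      (by intro h; exact ha1 (congrArg Subtype.val h))
      (by intro h; exact hat (congrArg Subtype.val h).symm)
      (by intro h; exact hx1 (congrArg Subtype.val h))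
      (by intro h; exact hxt (congrArg Subtype.val h))
      (by intro h; exact hxa (congrArg Subtype.val h))
    exact congrArg Subtype.val this
  have hcent : ∀ c : G, c * t = t * c → c * a = a * c → c ∈ Subgroup.centralizer (Q : Set G) := by
    intro c hct hca
    rw [Subgroup.mem_centralizer_iff]
    intro x hx
    rcases hQ4 x hx with rfl | rfl | rfl | rfl
    · simp
    · exact hct.symm
    · exact hca.symm
    · rw [mul_assoc, ← hca, ← mul_assoc, ← hct, mul_assoc]
  have hgt' : g * t * g⁻¹ = t := conj_eq_of_comm hgt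
  have hga : g * a * g⁻¹ ∈ Q := (Subgroup.mem_normalizer_iff.mp hg a).mp haQ
  rcases hQ4 _ hga with h | h | h | h
  · exfalso; apply ha1
    have : a = g⁻¹ * (g * a * g⁻¹) * g := by group
    rw [this, h]; group
  · exfalso; apply hat
    have h' : g * a * g⁻¹ = g * t * g⁻¹ := by rw [h, hgt']
    have := mul_right_cancel h'
    exact mul_left_cancel this
  · apply hcent g hgt
    calc g * a = g * a * g⁻¹ * g := by group
      _ = a * g := by rw [h]
  · apply mem_centralizer_of_sq Q g hodd
    have hgta : g * (t * a) * g⁻¹ = a := by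
      calc g * (t * a) * g⁻¹ = (g * t * g⁻¹) * (g * a * g⁻¹) := by group
        _ = t * (t * a) := by rw [hgt', h]
        _ = a := by rw [← mul_assoc, hsq t ht, one_mul]
    apply hcent
    · rw [pow_two, mul_assoc, hgt, ← mul_assoc, hgt, mul_assoc]
    · have : g ^ 2 * a * (g ^ 2)⁻¹ = a := by
        calc g ^ 2 * a * (g ^ 2)⁻¹ = g * (g * a * g⁻¹) * g⁻¹ := by rw [pow_two]; group
          _ = a := by rw [h, hgta]
      calc g ^ 2 * a = g ^ 2 * a * (g ^ 2)⁻¹ * g ^ 2 := by group
        _ = a * g ^ 2 := by rw [this]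

/-- **Lemma B** -/
theorem centralizes_of_fix [Finite G] {m : ℕ} (S : Subgroup G) (eS : S ≃* DihedralGroup m)
    (hS2 : IsPGroup 2 S) (Q : Subgroup G) (hQ : Q ≤ S) (t : G) (ht : t ∈ Q) (ht1 : t ≠ 1) (g : G)
    (hg : g ∈ Subgroup.normalizer (Q : Set G)) (hodd : (orderOf g).Coprime 2)
    (hgt : g * t = t * g) : g ∈ Subgroup.centralizer (Q : Set G) := by
  rcases centralizes_or_klein S eS hS2 Q hQ g hg hodd with h | hK
  · exact h
  · exact centralizes_klein_of_fix Q hK t ht ht1 g hg hodd hgt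


/-- In a finite group whose Sylow 2-subgroups are dihedral of order at least 4, the centralizer of any involution has a
normal subgroup of odd order whose index in the centralizer is a power of 2. -/
theorem result {X : Type*} [Group X] [Finite X]
    (S : Sylow 2 X) (n : ℕ) (hn : 2 ≤ n) (hS : Nonempty ((S : Subgroup X) ≃* DihedralGroup n)) (t : X)
    (ht : orderOf t = 2) :
    ∃ N : Subgroup (Subgroup.centralizer ({t} : Set X)), N.Normal ∧ Odd (Nat.card N) ∧ ∃ k : ℕ, N.index = 2 ^ k := by
  haveI : Fact (Nat.Prime 2) := ⟨Nat.prime_two⟩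
  obtain ⟨eS⟩ := hS
  set C := Subgroup.centralizer ({t} : Set X) with hC
  have ht1 : t ≠ 1 := by rintro rfl; simp at ht
  have hcomm : ∀ c ∈ C, c * t = t * c := fun c hc => Subgroup.mem_centralizer_singleton_iff.mp hc
  have hF : FrobHyp 2 ↥C := by
    intro D hD g hg hcop
    set Q₀ : Subgroup X := D.map C.subtype with hQ₀
    set Z : Subgroup X := Subgroup.zpowers t with hZ
    have hQ₀2 : IsPGroup 2 Q₀ := hD.map _
    have hZ2 : IsPGroup 2 Z := IsPGroup.of_card (n := 1) (by rw [Nat.card_zpowers, ht, pow_one])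
    have hQ₀C : Q₀ ≤ C := by rintro _ ⟨d, -, rfl⟩; exact d.2
    have hZfix : ∀ c ∈ C, ∀ u ∈ Z, c * u * c⁻¹ = u := by
      intro c hc u hu
      obtain ⟨k, rfl⟩ := Subgroup.mem_zpowers_iff.mp hu
      apply conj_eq_of_comm
      exact ((show Commute c t from hcomm c hc).zpow_right k).eq
    have hQ₀N : Q₀ ≤ Subgroup.normalizer (Z : Set X) := fun c hc =>
      mem_normalizer_of_conj_mem Z c (fun u hu => by rw [hZfix c (hQ₀C hc) u hu]; exact hu)
    have hQ2 : IsPGroup 2 (Q₀ ⊔ Z : Subgroup X) := hQ₀2.to_sup_of_normal_right' hZ2 hQ₀N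
    set Q : Subgroup X := Q₀ ⊔ Z with hQ
    have hgX : (g : X) ∈ Subgroup.normalizer (Q : Set X) := by
      apply mem_normalizer_of_conj_mem
      intro u hu
      have h1 : Q.map (MulAut.conj (g : X)).toMonoidHom ≤ Q := by
        rw [hQ, Subgroup.map_sup]
        apply sup_le_sup
        · rintro _ ⟨_, ⟨d, hd, rfl⟩, rfl⟩
          refine ⟨g * d * g⁻¹, (Subgroup.mem_normalizer_iff.mp hg d).mp hd, ?_⟩
          simp
        · rintro _ ⟨u, hu, rfl⟩
          show (g : X) * u * (g : X)⁻¹ ∈ Z
          rw [hZfix g g.2 u hu]; exact hu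
      exact h1 ⟨u, hu, rfl⟩
    obtain ⟨S', hS'⟩ := hQ2.exists_le_sylow
    have eS' : (S' : Subgroup X) ≃* DihedralGroup n := (Sylow.equiv S' S).trans eS
    have hoddX : (orderOf (g : X)).Coprime 2 := by rw [Subgroup.orderOf_coe]; exact hcop
    have hcent := centralizes_of_fix (S' : Subgroup X) eS' S'.isPGroup' Q hS' t
      (Subgroup.mem_sup_right (Subgroup.mem_zpowers t)) ht1 (g : X) hgX hoddX (hcomm g g.2)
    rw [Subgroup.mem_centralizer_iff] at hcent ⊢
    intro d hd
    apply Subtype.ext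
    have := hcent (d : X) (Subgroup.mem_sup_left ⟨d, hd, rfl⟩)
    simpa using this
  obtain ⟨P'⟩ : Nonempty (Sylow 2 ↥C) := inferInstance
  obtain ⟨N, hNn, hNc⟩ := hF.exists_normal_complement P'
  refine ⟨N, hNn, ?_, ?_⟩
  · have hcop : (Nat.card N).Coprime 2 := Cfsg.Agent.Lib.Helper1.card_coprime_of_isComplement'_sylow P' hNc
    rw [← Nat.not_even_iff_odd, even_iff_two_dvd]
    intro h2
    have := Nat.Coprime.eq_one_of_dvd hcop.symm h2
    omega
  · have hNidx : N.index = Nat.card (P' : Subgroup ↥C) :=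
      Cfsg.Agent.Lib.Helper1.index_eq_card_of_isComplement' hNc
    obtain ⟨k, hk⟩ := IsPGroup.iff_card.mp P'.2
    exact ⟨k, hNidx.trans hk⟩

end Cfsg.Agent.S0514
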