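import Cfsg.Statements.S0731
import Cfsg.Agent.Lib.helper6.ZassFeitD
import Cfsg.Agent.Lib.helper6.ZassFeitE
import Cfsg.Agent.S0741
import Cfsg.Agent.S0742

set_option autoImplicit false
open Cfsg

namespace Cfsg.Agent.S0731

/-- A finite Zassenhaus group whose point stabiliser has an abelian regular normal subgroup on the remaining points is sharply triply transitive or isomorphic to `PSL(2, F)` for a finite field `F` of odd characteristic. -/
theorem result {G Ω : Type*} [Group G] [Finite G] [MulAction G Ω] [Finite Ω] (hZ : Cfsg.IsZassenhausGroup G Ω) (x : Ω) (F : Subgroup G) (hFle : F ≤ MulAction.stabilizer G x) (hFn : (F.subgroupOf (MulAction.stabilizer G x)).Normal) (hFab : IsMulCommutative F) (hreg : ∀ y z : Ω, y ≠ x → z ≠ x → ∃! u : F, (u : G) • y = z) : (MulAction.IsMultiplyPretransitive G Ω 3 ∧ ∀ t : Fin 3 ↪ Ω, MulAction.stabilizer G t = ⊥) ∨ ∃ (K : Type) (_ : Field K) (_ : Fintype K), ringChar K ≠ 2 ∧ Nonempty (G ≃* Matrix.ProjectiveSpecialLinearGroup (Fin 2) K) := by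
  classical
  haveI : Fintype Ω := Fintype.ofFinite Ω
  have D := Cfsg.Agent.Lib.helper6.ZassNormal.ZData.of_zass hZ
  haveI := D.faithful
  obtain ⟨g0, hg01, a0, b0, hab0, hg0a, hg0b⟩ := hZ.2.2.2.1
  obtain ⟨e0, he0a, he0b⟩ := Cfsg.Agent.Lib.helper6.ZassNormal.exists_third hg01 hg0a hg0b
  have hn3 : 3 ≤ Fintype.card Ω := by
    rw [← Finset.card_univ]
    have h3 : ({a0, b0, e0} : Finset Ω).card = 3 := by
      rw [Finset.card_insert_of_notMem, Finset.card_pair (Ne.symm he0b)]
      simp only [Finset.mem_insert, Finset.mem_singleton, not_or]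
      exact ⟨hab0, Ne.symm he0a⟩
    rw [← h3]
    exact Finset.card_le_card (Finset.subset_univ _)
  obtain ⟨y, hxy⟩ : ∃ y : Ω, x ≠ y := by
    by_cases h : x = a0
    · exact ⟨b0, h ▸ hab0⟩
    · exact ⟨a0, h⟩
  have kcomm : ∀ u ∈ F, ∀ v ∈ F, u * v = v * u := by
    intro u hu v hv
    have := hFab.is_comm.comm (⟨u, hu⟩ : F) ⟨v, hv⟩
    exact congrArg Subtype.val this
  have Z : Cfsg.Agent.Lib.helper6.ZassPSL3.ZK G Ω x y F :=
    { two := fun h1 h2 => D.two h1 h2
      three := D.three
      hi0 := hxy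
      kfix := fun k hk => MulAction.mem_stabilizer_iff.mp (hFle hk)
      kfpf := by
        intro k hk hk1 z hz hkz
        obtain ⟨u, _, huniq⟩ := hreg z z hz hz
        have h1 := huniq ⟨k, hk⟩ hkz
        have h2 := huniq 1 (by simp)
        apply hk1
        have := h1.trans h2.symm
        exact congrArg Subtype.val this
      ktr := by
        intro z w hz hw
        obtain ⟨u, hu, _⟩ := hreg z w hz hw
        exact ⟨u, u.2, hu⟩
      knorm := by
        intro g hg k hk
        have hgS : g ∈ MulAction.stabilizer G x := MulAction.mem_stabilizer_iff.mpr hg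
        have hkS : k ∈ MulAction.stabilizer G x := hFle hk
        have h1 : (⟨k, hkS⟩ : MulAction.stabilizer G x) ∈ F.subgroupOf (MulAction.stabilizer G x) :=
          Subgroup.mem_subgroupOf.mpr hk
        have h2 := hFn.conj_mem _ h1 ⟨g, hgS⟩
        rw [Subgroup.mem_subgroupOf] at h2
        simpa using h2 }
  set e := Nat.card ↥(MulAction.stabilizer G x ⊓ MulAction.stabilizer G y : Subgroup G) with he
  have hEd : e ∣ Fintype.card Ω - 2 := Cfsg.Agent.Lib.helper6.ZassFeit.E_dvd D.three hxy
  have he0 : 0 < e := Nat.card_pos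
  have hpair : ∀ a b : Ω, a ≠ b →
      Nat.card ↥(MulAction.stabilizer G a ⊓ MulAction.stabilizer G b : Subgroup G) = e :=
    fun a b hab => Cfsg.Agent.Lib.helper6.ZassInvol.card_pair hZ hxy hab
  -- the sharply 3-transitive case
  have hsharp : Fintype.card Ω - 2 = e →
      (MulAction.IsMultiplyPretransitive G Ω 3 ∧ ∀ t : Fin 3 ↪ Ω, MulAction.stabilizer G t = ⊥) := by
    intro h
    apply Cfsg.Agent.Lib.helper6.ZassFeit.sharp3_of_card (fun h1 h2 => D.two h1 h2) D.three
    intro a b hab
    rw [hpair a b hab]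
    omega
  have hoddchar : ∀ (K : Type) [Field K] [Fintype K], Odd (Fintype.card K) → ringChar K ≠ 2 := by
    intro K _ _ hodd h2
    obtain ⟨n, _, hc⟩ := FiniteField.card K (ringChar K)
    rw [h2] at hc
    rw [hc] at hodd
    have : Even (2 ^ (n : ℕ)) := (Nat.even_pow' (PNat.ne_zero n)).mpr even_two
    exact (Nat.not_even_iff_odd.mpr hodd) this
  have hcases : Fintype.card Ω - 2 ≤ 2 * e → (Fintype.card Ω - 2 = e ∨ Fintype.card Ω - 2 = 2 * e) := by
    intro hle
    obtain ⟨k, hk⟩ := hEd
    have hk1 : 1 ≤ k := by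
      rcases Nat.eq_zero_or_pos k with h | h
      · rw [h, mul_zero] at hk; omega
      · exact h
    have hk2 : k ≤ 2 := by
      by_contra hlt
      push Not at hlt
      have : e * 3 ≤ e * k := Nat.mul_le_mul_left e hlt
      omega
    interval_cases k
    · left; omega
    · right; omega
  rcases Nat.even_or_odd e with heven | hodd
  · have h741 := Cfsg.Agent.S0741.result hZ hxy heven
    by_cases hd : 2 * e ≤ Fintype.card Ω - 2
    · right
      obtain ⟨p, f, K, iK, iKf, hp, hp2, hK, -, hiso⟩ := Cfsg.Agent.S0742.result hZ hxy heven hd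
      refine ⟨K, iK, iKf, ?_, hiso⟩
      apply hoddchar K
      rw [hK]
      exact (hp.odd_of_ne_two hp2).pow
    · left
      apply hsharp
      rcases hcases h741 with h | h
      · exact h
      · omega
  · haveI hsimple : IsSimpleGroup G :=
      Cfsg.Agent.Lib.helper6.ZassFeit.odd_simple_aux x y (Nat.card G) G rfl hZ F Z kcomm hodd
    have hbound := Cfsg.Agent.Lib.helper6.ZassFeit.simple_odd_bound hZ Z kcomm hodd
    rcases hcases hbound with h | h
    · left; exact hsharp h
    · right
      have hcard : 2 * e + 2 = Fintype.card Ω := by omega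
      have hswap : ∀ s : G, s • x = y → s • y = x → s * s = 1 := fun s h1 h2 =>
        Cfsg.Agent.Lib.helper6.ZassInvol.swap_sq hZ hxy hodd hxy h1 h2
      have hnofix : ∀ s : G, s • x = y → s • y = x → ∀ z : Ω, s • z ≠ z := by
        intro s h1 h2 z hz
        have hs2 := Cfsg.Agent.Lib.helper6.ZassInvol.swap_order hZ hxy hodd hxy h1 h2
        have hfc := Cfsg.Agent.Lib.helper6.ZassInvol.fixed_count hZ hxy hodd hs2
        have hev : ¬ Odd (Fintype.card Ω) := by
          rw [← hcard, Nat.not_odd_iff_even]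
          exact ⟨e + 1, by ring⟩
        rw [if_neg hev] at hfc
        have hne : Nonempty (MulAction.fixedBy Ω s) := ⟨⟨z, hz⟩⟩
        have : 0 < Nat.card (MulAction.fixedBy Ω s) := Nat.card_pos
        omega
      obtain ⟨K, iK, iKf, hK, hiso⟩ :=
        Cfsg.Agent.Lib.helper6.ZassPSL3.psl_of_half_odd Z kcomm hswap hnofix hodd hcard
      refine ⟨K, iK, iKf, ?_, hiso⟩
      apply hoddchar K
      have : Fintype.card K = 2 * e + 1 := by omega
      rw [this]
      exact ⟨e, rfl⟩

end Cfsg.Agent.S0731
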