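import Cfsg.Statements.S0392
import Cfsg.Agent.Lib.helper4.LeechSign

set_option autoImplicit false
open Cfsg

namespace Cfsg.Agent.S0392

open Cfsg.Agent.Lib.helper4

theorem ind4_ne_zero_iff (x : GolayPt → ℤ) (k : ℤ) (i : GolayPt) :
    ind4 x k i ≠ 0 ↔ x i ≡ k [ZMOD 4] := by
  rw [ind4_apply]
  by_cases h : x i ≡ k [ZMOD 4]
  · rw [if_pos h]; simp [h]
  · rw [if_neg h]; simp [h]

theorem sq_even (z : ℤ) (hz : z % 2 = 0) :
    z ^ 2 ≡ 4 * (if z ≡ 2 [ZMOD 4] then (1 : ℤ) else 0) [ZMOD 16] := by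
  by_cases h : z ≡ 2 [ZMOD 4]
  · rw [if_pos h]
    have h' : z % 4 = 2 % 4 := h
    obtain ⟨a, ha⟩ : ∃ a, z = 4 * a + 2 := ⟨z / 4, by omega⟩
    rw [Int.modEq_iff_dvd]
    refine ⟨-(a ^ 2 + a), ?_⟩
    rw [ha]; ring
  · rw [if_neg h]
    have h' : ¬ z % 4 = 2 % 4 := h
    obtain ⟨a, ha⟩ : ∃ a, z = 4 * a := ⟨z / 4, by omega⟩
    rw [Int.modEq_iff_dvd]
    refine ⟨-(a ^ 2), ?_⟩
    rw [ha]; ring

theorem sq_one_mod4 (z : ℤ) (hz : z ≡ 1 [ZMOD 4]) : z ^ 2 ≡ 2 * z - 1 [ZMOD 16] := by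
  have h' : z % 4 = 1 % 4 := hz
  obtain ⟨a, ha⟩ : ∃ a, z = 4 * a + 1 := ⟨z / 4, by omega⟩
  rw [Int.modEq_iff_dvd]
  refine ⟨-(a ^ 2), ?_⟩
  rw [ha]; ring

theorem card_golayPt : (Finset.univ : Finset GolayPt).card = 24 := by
  decide

theorem sqNorm_flip (wc : GolayPt → ZMod 2) (x : GolayPt → ℤ) :
    sqNorm (Lib.helper4.flip wc x) = sqNorm x := by
  unfold sqNorm
  apply Finset.sum_congr rfl
  intro i _
  unfold Lib.helper4.flip
  split_ifs
  · ring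
  · rfl

theorem even_case (x : GolayPt → ℤ) (m : ℤ) (h1 : ∀ i, x i ≡ m [ZMOD 2])
    (h3 : ∀ k : ℤ, ind4 x k ∈ golayCode) (hm : m % 2 = 0) : (16 : ℤ) ∣ sqNorm x := by
  have hpt : ∀ i ∈ (Finset.univ : Finset GolayPt),
      x i ^ 2 ≡ 4 * (if ind4 x 2 i ≠ 0 then (1 : ℤ) else 0) [ZMOD 16] := by
    intro i _
    have hi : x i % 2 = m % 2 := h1 i
    have := sq_even (x i) (by omega)
    by_cases h : x i ≡ 2 [ZMOD 4]
    · rw [if_pos h] at this
      rw [if_pos ((ind4_ne_zero_iff x 2 i).mpr h)]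
      exact this
    · rw [if_neg h] at this
      rw [if_neg (fun h' => h ((ind4_ne_zero_iff x 2 i).mp h'))]
      exact this
  have hsum := Int.ModEq.sum hpt
  rw [← Finset.mul_sum, ← hammingNorm_cast] at hsum
  obtain ⟨a, ha⟩ := golay_four_dvd (h3 2)
  rw [ha] at hsum
  push_cast at hsum
  unfold sqNorm
  have h16 : (4 : ℤ) * (4 * a) = 16 * a := by ring
  rw [h16] at hsum
  have : (∑ i, x i ^ 2) ≡ 0 [ZMOD 16] := hsum.trans ((Int.modEq_zero_iff_dvd).mpr ⟨_, rfl⟩)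
  exact (Int.modEq_zero_iff_dvd).mp this

theorem all_one_case (y : GolayPt → ℤ) (hy : y ∈ leechSet) (h1 : ∀ i, y i ≡ 1 [ZMOD 4]) :
    (16 : ℤ) ∣ sqNorm y := by
  rw [mem_leechSet_iff] at hy
  obtain ⟨m, hm1, hm2, _⟩ := hy
  have hmodd : m % 2 = 1 := by
    have a1 : y none % 2 = m % 2 := hm1 none
    have a2 : y none % 4 = 1 % 4 := h1 none
    omega
  have hpt : ∀ i ∈ (Finset.univ : Finset GolayPt), y i ^ 2 ≡ 2 * y i - 1 [ZMOD 16] :=
    fun i _ => sq_one_mod4 (y i) (h1 i)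
  have hsum := Int.ModEq.sum hpt
  rw [Finset.sum_sub_distrib, ← Finset.mul_sum, Finset.sum_const, card_golayPt] at hsum
  have hs : (∑ i, y i) % 8 = (4 * m) % 8 := hm2
  have : (2 * ∑ i, y i - 24 • (1 : ℤ)) ≡ 0 [ZMOD 16] := by
    show _ % 16 = _ % 16
    simp only [nsmul_eq_mul, mul_one]
    push_cast
    omega
  unfold sqNorm
  exact (Int.modEq_zero_iff_dvd).mp (hsum.trans this)

/-- Sum of squares of every lattice vector is divisible by 16 (even lattice at scale 1/8). -/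
theorem result (x : Cfsg.GolayPt → ℤ) (hx : x ∈ Cfsg.leechLattice) : (16 : ℤ) ∣ Cfsg.sqNorm x := by
  rw [mem_leechLattice_iff] at hx
  have hx' := hx
  rw [mem_leechSet_iff] at hx'
  obtain ⟨m, h1, h2, h3⟩ := hx'
  rcases Int.emod_two_eq_zero_or_one m with hm | hm
  · exact even_case x m h1 h3 hm
  · have hy := flip_mem_leechSet (h3 3) hx
    rw [← sqNorm_flip (ind4 x 3) x]
    apply all_one_case _ hy
    intro i
    have hi : x i % 2 = m % 2 := h1 i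
    by_cases hc : ind4 x 3 i ≠ 0
    · rw [flip_pos hc]
      have h3' : x i % 4 = 3 % 4 := (ind4_ne_zero_iff x 3 i).mp hc
      show _ % 4 = _ % 4
      omega
    · rw [flip_neg hc]
      have h3' : ¬ x i % 4 = 3 % 4 := fun h => hc ((ind4_ne_zero_iff x 3 i).mpr h)
      show _ % 4 = _ % 4
      omega

end Cfsg.Agent.S0392
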