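import Cfsg.Statements.S0391
import Cfsg.Agent.Lib.helper4.LeechSign
import Cfsg.Agent.Lib.helper3.Golay
import Cfsg.Agent.S0392

set_option autoImplicit false
open Cfsg

namespace Cfsg.Agent.S0391

open Cfsg.Agent.Lib.helper4

theorem sqNorm_pos (x : GolayPt → ℤ) (h0 : x ≠ 0) : 0 < sqNorm x := by
  obtain ⟨i, hi⟩ : ∃ i, x i ≠ 0 := by
    by_contra h
    push_neg at h
    exact h0 (funext h)
  unfold sqNorm
  have h1 : x i ^ 2 ≤ ∑ j, x j ^ 2 :=
    Finset.single_le_sum (f := fun j => x j ^ 2) (fun j _ => sq_nonneg (x j)) (Finset.mem_univ i)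
  have h2 : 0 < x i ^ 2 := by positivity
  omega

theorem card_golayPt : (Finset.univ : Finset GolayPt).card = 24 := by
  decide

theorem sq_zero_mod4 (z : ℤ) (hz : z % 4 = 0) : z ^ 2 ≡ 4 * z [ZMOD 32] := by
  obtain ⟨a, ha⟩ : ∃ a, z = 4 * a := ⟨z / 4, by omega⟩
  rw [Int.modEq_iff_dvd]
  rcases Int.emod_two_eq_zero_or_one a with h | h
  · obtain ⟨b, hb⟩ : ∃ b, a = 2 * b := ⟨a / 2, by omega⟩
    refine ⟨b - 2 * b ^ 2, ?_⟩
    rw [ha, hb]; ring
  · obtain ⟨b, hb⟩ : ∃ b, a = 2 * b + 1 := ⟨a / 2, by omega⟩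
    refine ⟨-(2 * b ^ 2 + b), ?_⟩
    rw [ha, hb]; ring

theorem ind4_ne_zero_iff (x : GolayPt → ℤ) (k : ℤ) (i : GolayPt) :
    ind4 x k i ≠ 0 ↔ x i ≡ k [ZMOD 4] := by
  rw [ind4_apply]
  by_cases h : x i ≡ k [ZMOD 4]
  · rw [if_pos h]; simp [h]
  · rw [if_neg h]; simp [h]

theorem odd_case (x : GolayPt → ℤ) (m : ℤ) (h1 : ∀ i, x i ≡ m [ZMOD 2]) (hm : m % 2 = 1)
    (h16 : (16 : ℤ) ∣ sqNorm x) : 32 ≤ sqNorm x := by
  have hpt : ∀ i ∈ (Finset.univ : Finset GolayPt), (1 : ℤ) ≤ x i ^ 2 := by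
    intro i _
    have hi : x i % 2 = m % 2 := h1 i
    have : x i ≠ 0 := by
      intro h
      rw [h] at hi
      omega
    have : 0 < x i ^ 2 := by positivity
    omega
  have hsum := Finset.sum_le_sum hpt
  rw [Finset.sum_const, card_golayPt] at hsum
  obtain ⟨k, hk⟩ := h16
  unfold sqNorm at *
  simp only [nsmul_eq_mul, mul_one] at hsum
  push_cast at hsum
  omega

theorem even_big_case (x : GolayPt → ℤ) (h8 : 8 ≤ hammingNorm (ind4 x 2)) : 32 ≤ sqNorm x := by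
  have hpt : ∀ i ∈ (Finset.univ : Finset GolayPt),
      4 * (if ind4 x 2 i ≠ 0 then (1 : ℤ) else 0) ≤ x i ^ 2 := by
    intro i _
    by_cases h : ind4 x 2 i ≠ 0
    · rw [if_pos h]
      have h2 : x i % 4 = 2 % 4 := (ind4_ne_zero_iff x 2 i).mp h
      have : x i ≤ -2 ∨ 2 ≤ x i := by omega
      rcases this with h' | h' <;> nlinarith
    · rw [if_neg h]
      have := sq_nonneg (x i)
      omega
  have hsum := Finset.sum_le_sum hpt
  rw [← Finset.mul_sum, ← hammingNorm_cast] at hsum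
  unfold sqNorm
  have : (8 : ℤ) ≤ (hammingNorm (ind4 x 2) : ℤ) := by exact_mod_cast h8
  omega

theorem even_zero_case (x : GolayPt → ℤ) (h0 : x ≠ 0) (m : ℤ) (h1 : ∀ i, x i ≡ m [ZMOD 2])
    (h2 : ∑ i, x i ≡ 4 * m [ZMOD 8]) (hm : m % 2 = 0) (hz : hammingNorm (ind4 x 2) = 0) :
    32 ≤ sqNorm x := by
  have hz' : ind4 x 2 = 0 := hammingNorm_eq_zero.mp hz
  have hpt : ∀ i ∈ (Finset.univ : Finset GolayPt), x i ^ 2 ≡ 4 * x i [ZMOD 32] := by
    intro i _
    apply sq_zero_mod4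
    have hi : x i % 2 = m % 2 := h1 i
    have hn : ¬ x i % 4 = 2 % 4 := by
      intro h
      have : ind4 x 2 i ≠ 0 := (ind4_ne_zero_iff x 2 i).mpr h
      apply this
      rw [hz']
      rfl
    omega
  have hsum := Int.ModEq.sum hpt
  rw [← Finset.mul_sum] at hsum
  have hs : (∑ i, x i) % 8 = (4 * m) % 8 := h2
  have h32 : (4 * ∑ i, x i) ≡ 0 [ZMOD 32] := by
    show _ % 32 = _ % 32
    omega
  have hd : (32 : ℤ) ∣ sqNorm x := (Int.modEq_zero_iff_dvd).mp (hsum.trans h32)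
  have hpos := sqNorm_pos x h0
  obtain ⟨k, hk⟩ := hd
  omega

/-- Nonzero lattice vectors have sum of squares ≥ 32 (no vectors of customary norm 2). -/
theorem result (x : Cfsg.GolayPt → ℤ) (hx : x ∈ Cfsg.leechLattice) (h0 : x ≠ 0) : 32 ≤ Cfsg.sqNorm x := by
  have h16 := Cfsg.Agent.S0392.result x hx
  rw [mem_leechLattice_iff, mem_leechSet_iff] at hx
  obtain ⟨m, h1, h2, h3⟩ := hx
  rcases Int.emod_two_eq_zero_or_one m with hm | hm
  · rcases Cfsg.Agent.Lib.helper3.golay_weights (ind4 x 2) (h3 2) with h | h | h | h | h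
    · exact even_zero_case x h0 m h1 h2 hm h
    · exact even_big_case x (by omega)
    · exact even_big_case x (by omega)
    · exact even_big_case x (by omega)
    · exact even_big_case x (by omega)
  · exact odd_case x m h1 hm h16

end Cfsg.Agent.S0391
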