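import Cfsg.Statements.S0393
import Cfsg.Prelude.Def_Spor_Conway
import Cfsg.Agent.Lib.Lead.LeechCount2

set_option autoImplicit false
open Cfsg

namespace Cfsg.Agent.S0393

open Cfsg.Agent.Lib.Lead.LC Cfsg.Agent.Lib.Lead.LC2 Cfsg.Agent.Lib.helper4

/-- reduction modulo 8 -/
def red8 : (GolayPt → ℤ) →+ (GolayPt → ZMod 8) :=
  AddMonoidHom.compLeft (Int.castAddHom (ZMod 8)) GolayPt

theorem red8_apply (x : GolayPt → ℤ) (i : GolayPt) : red8 x i = ((x i : ℤ) : ZMod 8) := rfl

theorem red8_surj : Function.Surjective red8 := by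
  intro z
  refine ⟨fun i => ((z i).val : ℤ), ?_⟩
  funext i
  rw [red8_apply]
  simp

theorem ker_le : red8.ker ≤ leechLattice := by
  intro x hx
  rw [AddMonoidHom.mem_ker] at hx
  have h8 : ∀ i, (8 : ℤ) ∣ x i := by
    intro i
    have := congrFun hx i
    rw [red8_apply, Pi.zero_apply] at this
    exact (ZMod.intCast_zmod_eq_zero_iff_dvd (x i) 8).1 this
  rw [mem_leechLattice_iff]
  apply Spor.mem_leechSet_of_const_mod_four x 0 0 (Int.ModEq.refl _)
  · intro i
    exact Int.modEq_zero_iff_dvd.2 (Dvd.dvd.trans (by norm_num) (h8 i))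
  · rw [mul_zero]
    exact Int.modEq_zero_iff_dvd.2 (Finset.dvd_sum (fun i _ => h8 i))

theorem card_map : Nat.card (leechLattice.map red8) = 2 ^ 36 := by
  classical
  obtain ⟨F, hF, hc⟩ := box_count
  rw [← hc, ← Nat.card_eq_finsetCard F]
  symm
  apply Nat.card_eq_of_bijective
    (fun x : F => (⟨red8 x.1, ⟨x.1, ((hF x.1).1 x.2).1, rfl⟩⟩ : leechLattice.map red8))
  constructor
  · rintro ⟨x, hx⟩ ⟨y, hy⟩ h
    have h' : red8 x = red8 y := congrArg Subtype.val h
    apply Subtype.ext
    funext i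
    have hi := congrFun h' i
    rw [red8_apply, red8_apply] at hi
    have hmod : x i % 8 = y i % 8 := (ZMod.intCast_eq_intCast_iff (x i) (y i) 8).1 hi
    have bx := ((hF x).1 hx).2 i
    have by' := ((hF y).1 hy).2 i
    show x i = y i
    omega
  · rintro ⟨z, x, hx, rfl⟩
    have hx' : (fun i => x i % 8) ∈ leechLattice := by
      have hk : x - (fun i => x i % 8) ∈ leechLattice := by
        apply ker_le
        rw [AddMonoidHom.mem_ker]
        funext i
        rw [red8_apply, Pi.zero_apply, Pi.sub_apply]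
        exact (ZMod.intCast_zmod_eq_zero_iff_dvd _ 8).2 (Int.mod_modEq (x i) 8).dvd
      have := leechLattice.sub_mem hx hk
      rwa [sub_sub_cancel] at this
    refine ⟨⟨fun i => x i % 8, (hF _).2 ⟨hx', fun i =>
      ⟨Int.emod_nonneg _ (by norm_num), Int.emod_lt_of_pos _ (by norm_num)⟩⟩⟩, ?_⟩
    apply Subtype.ext
    funext i
    show red8 (fun i => x i % 8) i = red8 x i
    rw [red8_apply, red8_apply]
    exact (ZMod.intCast_eq_intCast_iff _ _ 8).2 (Int.mod_modEq (x i) 8)

/-- The lattice has index 2^36 in the lattice of all integer vectors. -/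
theorem result : Cfsg.leechLattice.index = 2 ^ 36 := by
  have h1 : (leechLattice.map red8).index = leechLattice.index :=
    AddSubgroup.index_map_eq _ red8_surj ker_le
  have h2 := AddSubgroup.card_mul_index (leechLattice.map red8)
  rw [card_map, h1] at h2
  have h3 : Nat.card (GolayPt → ZMod 8) = 2 ^ 72 := by
    rw [Nat.card_eq_fintype_card, Fintype.card_fun, ZMod.card, card_golayPt]
    norm_num
  rw [h3] at h2
  have h4 : (2 : ℕ) ^ 72 = 2 ^ 36 * 2 ^ 36 := by norm_num
  rw [h4] at h2
  exact Nat.eq_of_mul_eq_mul_left (by norm_num) h2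

end Cfsg.Agent.S0393
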