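import Cfsg.Statements.S0394
import Cfsg.Agent.Lib.Lead.LeechCount

set_option autoImplicit false
open Cfsg

namespace Cfsg.Agent.S0394

open Cfsg.Agent.Lib.Lead.LC in
/-- Exactly 196560 lattice vectors have sum of squares 32. -/
theorem result : {x : Cfsg.GolayPt → ℤ | x ∈ Cfsg.leechLattice ∧ Cfsg.sqNorm x = 32}.ncard = 196560 := by
  have h := count_full 32 (by norm_num)
  rw [sum_by_weight (fun w => G Ev1 Ev0 w 32 8), sum_by_weight (fun w => G Od1 Od0 w 32 4)] at h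
  have hnum : G Ev1 Ev0 0 32 8 + 759 * G Ev1 Ev0 8 32 8 + 2576 * G Ev1 Ev0 12 32 8
      + 759 * G Ev1 Ev0 16 32 8 + G Ev1 Ev0 24 32 8
      + (G Od1 Od0 0 32 4 + 759 * G Od1 Od0 8 32 4 + 2576 * G Od1 Od0 12 32 4
      + 759 * G Od1 Od0 16 32 4 + G Od1 Od0 24 32 4) = 196560 := by
    decide +kernel
  rw [hnum] at h
  exact_mod_cast h

end Cfsg.Agent.S0394
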