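import Cfsg.Statements.S0395
import Cfsg.Agent.Lib.Lead.LeechCount

set_option autoImplicit false
open Cfsg

namespace Cfsg.Agent.S0395

open Cfsg.Agent.Lib.Lead.LC in
/-- Exactly 16773120 lattice vectors have sum of squares 48. -/
theorem result : {x : Cfsg.GolayPt → ℤ | x ∈ Cfsg.leechLattice ∧ Cfsg.sqNorm x = 48}.ncard = 16773120 := by
  have h := count_full 48 (by norm_num)
  rw [sum_by_weight (fun w => G Ev1 Ev0 w 48 8), sum_by_weight (fun w => G Od1 Od0 w 48 4)] at h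
  have hnum : G Ev1 Ev0 0 48 8 + 759 * G Ev1 Ev0 8 48 8 + 2576 * G Ev1 Ev0 12 48 8
      + 759 * G Ev1 Ev0 16 48 8 + G Ev1 Ev0 24 48 8
      + (G Od1 Od0 0 48 4 + 759 * G Od1 Od0 8 48 4 + 2576 * G Od1 Od0 12 48 4
      + 759 * G Od1 Od0 16 48 4 + G Od1 Od0 24 48 4) = 16773120 := by
    decide +kernel
  rw [hnum] at h
  exact_mod_cast h

end Cfsg.Agent.S0395
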