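import Cfsg.Statements.S1529
import Mathlib
import Cfsg.Agent.Lib.Helper11.VirtChar

set_option autoImplicit false
open Cfsg

namespace Cfsg.Agent.S1529

open Cfsg.Agent.Lib.Helper11 Cfsg.Agent.Lib.Helper25 Cfsg.Agent.Lib.helper2
open scoped ComplexConjugate

/-- Let N be a subgroup of the finite group G, S a set of irreducible characters of N with at least two members, and τ₁ a linear isometry on the integer combinations of S with virtual-character values such that τ₁ α vanishes at 1 whenever α ∈ ℤ[S] does. Then there is ε ∈ {1, −1} such that ε • τ₁ χ is an irreducible character of G for every χ ∈ S, and distinct members of S give distinct characters. -/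
theorem result {G : Type*} [Group G] [Fintype G] (N : Subgroup G) [Fintype N] (S : Set (N → ℂ)) (hirr : ∀ χ ∈ S, Cfsg.IsIrrCharacter N χ) (htwo : ∃ χ ∈ S, ∃ ψ ∈ S, χ ≠ ψ) (τ₁ : (N → ℂ) → (G → ℂ)) (hτ₁ : Cfsg.IsLinearIsometryOn (Cfsg.zspan S) τ₁) (h0 : ∀ α ∈ Cfsg.zspan S, α 1 = 0 → τ₁ α 1 = 0) : ∃ ε : ℂ, (ε = 1 ∨ ε = -1) ∧ (∀ χ ∈ S, Cfsg.IsIrrCharacter G (ε • τ₁ χ)) ∧ (∀ χ ∈ S, ∀ ψ ∈ S, τ₁ χ = τ₁ ψ → χ = ψ) := by
  classical
  obtain ⟨hadd, hsmul, hiso, hgen⟩ := hτ₁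
  have hmem : ∀ χ ∈ S, χ ∈ Cfsg.zspan S := fun χ hχ => Submodule.subset_span hχ
  have hnorm : ∀ χ (hχ : χ ∈ S), ∃ (ε : ℤ) (η : Cfsg.IrrCharacter G), (ε = 1 ∨ ε = -1) ∧
      τ₁ χ = (ε : ℂ) • (η : G → ℂ) := by
    intro χ hχ
    apply genChar_norm_one _ (hgen χ (hmem χ hχ))
    rw [hiso χ (hmem χ hχ) χ (hmem χ hχ)]
    have := irr_classInner ⟨χ, hirr χ hχ⟩ ⟨χ, hirr χ hχ⟩
    rw [if_pos rfl] at this
    exact this
  choose ε η hε hτ using hnorm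
  -- signs agree
  have hsign : ∀ χ (hχ : χ ∈ S) ψ (hψ : ψ ∈ S), ε χ hχ = ε ψ hψ := by
    intro χ hχ ψ hψ
    obtain ⟨a, ha, hχ1⟩ := irr_one_eq_finrank ⟨χ, hirr χ hχ⟩
    obtain ⟨b, hb, hψ1⟩ := irr_one_eq_finrank ⟨ψ, hirr ψ hψ⟩
    obtain ⟨c, hc, hηχ1⟩ := irr_one_eq_finrank (η χ hχ)
    obtain ⟨d, hd, hηψ1⟩ := irr_one_eq_finrank (η ψ hψ)
    simp only at hχ1 hψ1
    have hα1 : ((b : ℤ) • χ) ∈ Cfsg.zspan S :=
      Submodule.smul_mem _ _ (hmem χ hχ)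
    have hα2 : ((-(a : ℤ)) • ψ) ∈ Cfsg.zspan S :=
      Submodule.smul_mem _ _ (hmem ψ hψ)
    have hα : ((b : ℤ) • χ + (-(a : ℤ)) • ψ) ∈ Cfsg.zspan S :=
      Submodule.add_mem _ hα1 hα2
    have hz : ((b : ℤ) • χ + (-(a : ℤ)) • ψ) 1 = 0 := by
      simp only [Pi.add_apply, Pi.smul_apply]
      simp only [zsmul_eq_mul, hχ1, hψ1]
      push_cast
      ring
    have h1 := h0 _ hα hz
    rw [hadd _ hα1 _ hα2, hsmul χ (hmem χ hχ), hsmul ψ (hmem ψ hψ), hτ χ hχ, hτ ψ hψ] at h1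
    simp only [Pi.add_apply, Pi.smul_apply] at h1
    simp only [zsmul_eq_mul, smul_eq_mul, hηχ1, hηψ1] at h1
    have h2 : (b : ℤ) * (ε χ hχ * c) + (-(a : ℤ)) * (ε ψ hψ * d) = 0 := by
      have : (((b : ℤ) * (ε χ hχ * c) + (-(a : ℤ)) * (ε ψ hψ * d) : ℤ) : ℂ) = 0 := by
        push_cast
        push_cast at h1
        exact h1
      exact_mod_cast this
    have hbc : 0 < (b : ℤ) * c := by positivity
    have had : 0 < (a : ℤ) * d := by positivity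
    rcases hε χ hχ with e1 | e1 <;> rcases hε ψ hψ with e2 | e2
    · rw [e1, e2]
    · rw [e1, e2] at h2
      nlinarith
    · rw [e1, e2] at h2
      nlinarith
    · rw [e1, e2]
  obtain ⟨χ₀, hχ₀, -⟩ := htwo
  refine ⟨((ε χ₀ hχ₀ : ℤ) : ℂ), ?_, ?_, ?_⟩
  · rcases hε χ₀ hχ₀ with e | e
    · left; rw [e]; simp
    · right; rw [e]; simp
  · intro χ hχ
    rw [hτ χ hχ, hsign χ₀ hχ₀ χ hχ, smul_smul]
    have : ((ε χ hχ : ℤ) : ℂ) * ((ε χ hχ : ℤ) : ℂ) = 1 := by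
      rcases hε χ hχ with e | e <;> rw [e] <;> simp
    rw [this, one_smul]
    exact (η χ hχ).2
  · intro χ hχ ψ hψ heq
    have h1 := hiso χ (hmem χ hχ) ψ (hmem ψ hψ)
    rw [← heq, hiso χ (hmem χ hχ) χ (hmem χ hχ)] at h1
    have h2 := irr_classInner ⟨χ, hirr χ hχ⟩ ⟨χ, hirr χ hχ⟩
    have h3 := irr_classInner ⟨χ, hirr χ hχ⟩ ⟨ψ, hirr ψ hψ⟩
    rw [if_pos rfl] at h2
    simp only at h2 h3
    rw [h2] at h1
    rw [← h1] at h3
    by_contra hne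
    rw [if_neg (fun h => hne (congrArg Subtype.val h))] at h3
    exact one_ne_zero h3

end Cfsg.Agent.S1529
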