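import Cfsg.Statements.S0878
import Cfsg.Statements.S0878

set_option autoImplicit false
open Cfsg

namespace Cfsg.Agent.S0878

open Cfsg

open Finset in
theorem stab_count {G Ω : Type*} [Group G] [Fintype G] [MulAction G Ω] [Fintype Ω] [DecidableEq Ω]
    [DecidableEq G]
    (h2t : ∀ {a b c d : Ω}, a ≠ b → c ≠ d → ∃ g : G, g • a = c ∧ g • b = d) (a c : Ω) (hc : c ≠ a) :
    (Finset.univ.erase a).card * (Finset.univ.filter (fun s : G => s • a = a ∧ s • c = c)).card =
      (Finset.univ.filter (fun s : G => s • a = a)).card := by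
  have hmaps : ((Finset.univ.filter (fun s : G => s • a = a) : Finset G) : Set G).MapsTo
      (fun s => s • c) (Finset.univ.erase a : Finset Ω) := by
    intro s hs
    simp only [Finset.coe_filter, Finset.mem_univ, true_and, Set.mem_setOf_eq] at hs
    simp only [Finset.coe_erase, Finset.coe_univ, Set.mem_diff, Set.mem_univ, Set.mem_singleton_iff,
      true_and]
    intro h
    apply hc
    have : s • c = s • a := by rw [h, hs]
    exact smul_left_cancel s this
  rw [Finset.card_eq_sum_card_fiberwise hmaps]
  symm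
  apply Finset.sum_const_nat
  intro d hd
  have hd' : d ≠ a := Finset.ne_of_mem_erase hd
  obtain ⟨t, hta, htc⟩ := h2t (Ne.symm hc) (Ne.symm hd')
  apply Finset.card_equiv (Equiv.mulLeft t⁻¹)
  intro s
  simp only [Finset.mem_filter, Finset.mem_univ, true_and, Equiv.coe_mulLeft, mul_smul]
  have hta' : t⁻¹ • a = a := by rw [inv_smul_eq_iff, hta]
  constructor
  · rintro ⟨hsa, hsc⟩
    refine ⟨by rw [hsa, hta'], ?_⟩
    rw [hsc, inv_smul_eq_iff, htc]
  · rintro ⟨hsa, hsc⟩
    rw [inv_smul_eq_iff] at hsa hsc
    rw [hta] at hsa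
    rw [htc] at hsc
    exact ⟨hsa, hsc⟩



/-- Let G be a Zassenhaus group on the finite set Ω, a a point, and let H be the subgroup of the stabilizer of a consisting of the identity and the elements fixing no point other than a (given here as a subgroup of the stabilizer of order one less than the number of points whose non-identity elements fix only a; it is the Frobenius kernel of the stabilizer). Then an element outside the stabilizer of a conjugates no non-identity element of H into H, and the normalizer of H is exactly the stabilizer of a. -/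
theorem result {G Ω : Type*} [Group G] [Finite G] [MulAction G Ω] [Fintype Ω] (hZ : Cfsg.IsZassenhausGroup G Ω) (a : Ω) (H : Subgroup G) (hHa : H ≤ MulAction.stabilizer G a) (hHcard : Nat.card H + 1 = Fintype.card Ω) (hHfix : ∀ u ∈ H, u ≠ 1 → ∀ c : Ω, u • c = c → c = a) : (∀ g : G, g ∉ MulAction.stabilizer G a → ∀ u ∈ H, g * u * g⁻¹ ∈ H → u = 1) ∧ Subgroup.normalizer (H : Set G) = MulAction.stabilizer G a := by
  classical
  haveI := Fintype.ofFinite G
  obtain ⟨hfaith, h2t, h3, ⟨g₀, hg₀, a', b', hab', hga', hgb'⟩, -⟩ := hZ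
  rw [MulAction.is_two_pretransitive_iff] at h2t
  have part1 : ∀ g : G, g ∉ MulAction.stabilizer G a → ∀ u ∈ H, g * u * g⁻¹ ∈ H → u = 1 := by
    intro g hg u hu hgu
    by_contra hu1
    apply hg
    have hne : g * u * g⁻¹ ≠ 1 := by
      intro h
      apply hu1
      have : u = g⁻¹ * (g * u * g⁻¹) * g := by group
      rw [this, h]
      group
    have hua : u • a = a := MulAction.mem_stabilizer_iff.mp (hHa hu)
    have : (g * u * g⁻¹) • (g • a) = g • a := by
      rw [mul_smul, mul_smul, inv_smul_smul, hua]
    exact MulAction.mem_stabilizer_iff.mpr (hHfix _ hgu hne _ this)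
  refine ⟨part1, ?_⟩
  have hcard3 : 2 < Fintype.card Ω := by
    rw [Fintype.two_lt_card_iff]
    have : ∃ c : Ω, g₀ • c ≠ c := by
      by_contra hcon
      push Not at hcon
      apply hg₀
      apply hfaith.eq_of_smul_eq_smul
      intro c
      rw [hcon c, one_smul]
    obtain ⟨c, hc⟩ := this
    refine ⟨a', b', c, hab', ?_, ?_⟩
    · intro h
      rw [← h] at hc
      exact hc hga'
    · intro h
      rw [← h] at hc
      exact hc hgb'
  have hHnt : ∃ u ∈ H, u ≠ 1 := by
    have h1 : 1 < Nat.card H := by omega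
    haveI : Nontrivial H := (Finite.one_lt_card_iff_nontrivial).mp h1
    obtain ⟨u, hu⟩ := exists_ne (1 : H)
    exact ⟨u, u.2, fun h => hu (Subtype.ext h)⟩
  have hHmem : ∀ u ∈ H, u • a = a := fun u hu => MulAction.mem_stabilizer_iff.mp (hHa hu)
  set Sf : Finset G := Finset.univ.filter (fun s : G => s • a = a) with hSf
  set Hf : Finset G := Finset.univ.filter (fun s : G => s ∈ H) with hHf
  set Ω' : Finset Ω := Finset.univ.erase a with hΩ'
  set T : Finset G := (Sf.erase 1).filter (fun s => ∃ c ∈ Ω', s • c = c) with hT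
  have hΩ'card : Ω'.card = Nat.card H := by
    rw [hΩ', Finset.card_erase_of_mem (Finset.mem_univ a), Finset.card_univ]
    omega
  have hHfcard : Hf.card = Nat.card H := by
    rw [hHf, Nat.card_eq_fintype_card, Fintype.card_subtype]
  have hdisj : Disjoint T Hf := by
    rw [Finset.disjoint_left]
    intro s hsT hsH
    simp only [hT, hHf, hΩ', Finset.mem_filter, Finset.mem_erase, Finset.mem_univ, true_and] at hsT hsH
    obtain ⟨⟨hs1, _⟩, c, ⟨hca, _⟩, hsc⟩ := hsT
    exact hca (hHfix s hsH hs1 c hsc)
  have hsub : T ∪ Hf ⊆ Sf := by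
    intro s hs
    rcases Finset.mem_union.mp hs with h | h
    · exact Finset.mem_of_mem_erase (Finset.mem_of_mem_filter _ h)
    · simp only [hHf, Finset.mem_filter, Finset.mem_univ, true_and] at h
      simp only [hSf, Finset.mem_filter, Finset.mem_univ, true_and]
      exact hHmem s h
  have hdc := Finset.sum_card_bipartiteAbove_eq_sum_card_bipartiteBelow (s := Sf.erase 1) (t := Ω')
    (fun (s : G) (c : Ω) => s • c = c)
  have hL : ∑ s ∈ Sf.erase 1, ((Ω'.bipartiteAbove (fun (s : G) (c : Ω) => s • c = c) s).card) = T.card := by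
    rw [hT, Finset.card_filter]
    apply Finset.sum_congr rfl
    intro s hs
    have hs1 : s ≠ 1 := Finset.ne_of_mem_erase hs
    have hsa : s • a = a := by
      have := Finset.mem_of_mem_erase hs
      simpa [hSf] using this
    unfold Finset.bipartiteAbove
    by_cases hex : ∃ c ∈ Ω', s • c = c
    · rw [if_pos hex]
      obtain ⟨c, hc, hsc⟩ := hex
      rw [Finset.card_eq_one]
      refine ⟨c, ?_⟩
      ext d
      simp only [Finset.mem_filter, Finset.mem_singleton]
      constructor
      · rintro ⟨hd, hsd⟩
        by_contra hdc'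
        have hca : c ≠ a := Finset.ne_of_mem_erase hc
        have hda : d ≠ a := Finset.ne_of_mem_erase hd
        exact hs1 (h3 s a c d (Ne.symm hca) (Ne.symm hdc') (Ne.symm hda) hsa hsc hsd)
      · rintro rfl
        exact ⟨hc, hsc⟩
    · rw [if_neg hex, Finset.card_eq_zero, Finset.filter_eq_empty_iff]
      intro d hd hsd
      exact hex ⟨d, hd, hsd⟩
  have hR : ∀ c ∈ Ω', ((Sf.erase 1).bipartiteBelow (fun (s : G) (c : Ω) => s • c = c) c).card + 1 =
      (Finset.univ.filter (fun s : G => s • a = a ∧ s • c = c)).card := by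
    intro c hc
    unfold Finset.bipartiteBelow
    have : (Sf.erase 1).filter (fun s => s • c = c) =
        (Finset.univ.filter (fun s : G => s • a = a ∧ s • c = c)).erase 1 := by
      ext s
      simp only [hSf, Finset.mem_filter, Finset.mem_erase, Finset.mem_univ, true_and]
      tauto
    rw [this, Finset.card_erase_of_mem]
    · have : 0 < (Finset.univ.filter (fun s : G => s • a = a ∧ s • c = c)).card := by
        apply Finset.card_pos.mpr
        exact ⟨1, by simp⟩
      omega
    · simp
  have hcount : ∀ c ∈ Ω', Ω'.card * (Finset.univ.filter (fun s : G => s • a = a ∧ s • c = c)).card = Sf.card := by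
    intro c hc
    exact stab_count h2t a c (Finset.ne_of_mem_erase hc)
  have hTcard : T.card + Hf.card = Sf.card := by
    rw [← hL, hdc, hHfcard, ← hΩ'card]
    have hpos : 0 < Ω'.card := by rw [hΩ'card]; exact Nat.card_pos
    have h5 : ∑ c ∈ Ω', (((Sf.erase 1).bipartiteBelow (fun (s : G) (c : Ω) => s • c = c) c).card + 1) =
        ∑ c ∈ Ω', (Finset.univ.filter (fun s : G => s • a = a ∧ s • c = c)).card :=
      Finset.sum_congr rfl hR
    rw [Finset.sum_add_distrib, Finset.sum_const, smul_eq_mul, mul_one] at h5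
    rw [h5]
    have h6 : Ω'.card * ∑ c ∈ Ω', (Finset.univ.filter (fun s : G => s • a = a ∧ s • c = c)).card =
        Ω'.card * Sf.card := by
      rw [Finset.mul_sum, Finset.sum_congr rfl hcount, Finset.sum_const, smul_eq_mul]
    exact Nat.eq_of_mul_eq_mul_left hpos h6
  have hunion : T ∪ Hf = Sf := by
    apply Finset.eq_of_subset_of_card_le hsub
    rw [Finset.card_union_of_disjoint hdisj, hTcard]
  have hC : ∀ s : G, s • a = a → s ∉ H → ∃ c, c ≠ a ∧ s • c = c := by
    intro s hsa hsH
    have hs : s ∈ T ∪ Hf := by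
      rw [hunion]
      simp [hSf, hsa]
    rcases Finset.mem_union.mp hs with h | h
    · simp only [hT, hΩ', Finset.mem_filter, Finset.mem_erase, Finset.mem_univ, true_and] at h
      obtain ⟨-, c, ⟨hca, -⟩, hsc⟩ := h
      exact ⟨c, hca, hsc⟩
    · simp only [hHf, Finset.mem_filter, Finset.mem_univ, true_and] at h
      exact absurd h hsH
  have hconj : ∀ s : G, s • a = a → ∀ u ∈ H, s * u * s⁻¹ ∈ H := by
    intro s hsa u hu
    by_contra hnot
    have hfix : (s * u * s⁻¹) • a = a := by
      rw [mul_smul, mul_smul]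
      have : s⁻¹ • a = a := by rw [inv_smul_eq_iff, hsa]
      rw [this, hHmem u hu, hsa]
    obtain ⟨c, hca, hsc⟩ := hC _ hfix hnot
    have hu1 : u ≠ 1 := by
      rintro rfl
      apply hnot
      simp
    have h7 : u • (s⁻¹ • c) = s⁻¹ • c := by
      rw [mul_smul, mul_smul] at hsc
      exact eq_inv_smul_iff.mpr hsc
    have h8 := hHfix u hu hu1 _ h7
    apply hca
    rw [inv_smul_eq_iff, hsa] at h8
    exact h8
  ext g
  constructor
  · intro hg
    by_contra hga
    obtain ⟨u, hu, hu1⟩ := hHnt
    have : g * u * g⁻¹ ∈ H := (Subgroup.mem_normalizer_iff.mp hg u).mp hu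
    exact hu1 (part1 g hga u hu this)
  · intro hg
    rw [MulAction.mem_stabilizer_iff] at hg
    rw [Subgroup.mem_normalizer_iff]
    intro y
    constructor
    · intro hy
      exact hconj g hg y hy
    · intro hy
      have hg' : g⁻¹ • a = a := by rw [inv_smul_eq_iff, hg]
      have := hconj g⁻¹ hg' _ hy
      simpa [mul_assoc] using this

end Cfsg.Agent.S0878
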