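import Cfsg.Statements.S1533
import Mathlib
import Cfsg.Agent.Lib.Helper11.SibSylowMain
import Cfsg.Agent.Lib.Helper11.SibAbelian
set_option autoImplicit false
open Cfsg

namespace Cfsg.Agent.S1533
open Cfsg.Agent.Lib.Helper11 Cfsg.Agent.Lib.Helper11.SibSylow Cfsg.Agent.Lib.Helper11.SibSetup
  Cfsg.Agent.Lib.Helper11.SibSylowMain Cfsg.Agent.Lib.Helper11.SibAbelian

/-- Let G be a finite group, p an odd prime, and P a nontrivial Sylow p-subgroup whose underlying set is a TI-subset of G, with P properly contained in its set normaliser N and C_G(x) ≤ P for every non-identity x ∈ P. Let S be the set of irreducible characters χ of N with χ x ≠ χ 1 for some x ∈ P. Then either S has exactly one member, P is elementary abelian and Nat.card P = [N:P] + 1; or (S, N minus 1, induction to G) is coherent. -/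
theorem result {G : Type*} [Group G] [Fintype G] (p : ℕ) [Fact p.Prime] (hp : p ≠ 2) (P : Sylow p G) (hP1 : (P : Subgroup G) ≠ ⊥) (hTI : Cfsg.IsTISubset ((P : Subgroup G) : Set G)) (hlt : (P : Subgroup G) < Subgroup.normalizer ((P : Subgroup G) : Set G)) (hC : ∀ k ∈ (P : Subgroup G), k ≠ 1 → Subgroup.centralizer ({k} : Set G) ≤ (P : Subgroup G)) [Fintype ↥(Subgroup.normalizer ((P : Subgroup G) : Set G))] : (Nat.card {χ : ↥(Subgroup.normalizer ((P : Subgroup G) : Set G)) → ℂ // Cfsg.IsIrrCharacter ↥(Subgroup.normalizer ((P : Subgroup G) : Set G)) χ ∧ ∃ x : ↥(Subgroup.normalizer ((P : Subgroup G) : Set G)), (x : G) ∈ (P : Subgroup G) ∧ χ x ≠ χ 1} = 1 ∧ Cfsg.IsElementaryAbelian p (P : Subgroup G) ∧ Nat.card (P : Subgroup G) = ((P : Subgroup G).subgroupOf (Subgroup.normalizer ((P : Subgroup G) : Set G))).index + 1) ∨ Cfsg.IsCoherent {χ : ↥(Subgroup.normalizer ((P : Subgroup G) : Set G)) → ℂ | Cfsg.IsIrrCharacter ↥(Subgroup.normalizer ((P : Subgroup G) : Set G)) χ ∧ ∃ x : ↥(Subgroup.normalizer ((P : Subgroup G)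 : Set G)), (x : G) ∈ (P : Subgroup G) ∧ χ x ≠ χ 1} {1}ᶜ (fun α => Cfsg.indFun (Subgroup.normalizer ((P : Subgroup G) : Set G)) α) := by
  classical
  have hPN : (P : Subgroup G) ≤ Subgroup.normalizer ((P : Subgroup G) : Set G) :=
    Subgroup.le_normalizer
  by_cases hoddN : Odd (Nat.card ↥(Subgroup.normalizer ((P : Subgroup G) : Set G)))
  · right
    exact sibley_sylow p P hP1 hTI hC hoddN
  · rw [Nat.not_odd_iff_even] at hoddN
    have hab := abelian_of_even_normalizer (P : Subgroup G) hC (sylow_odd_card p hp P) hoddN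
    have htif := tif_of_TI (P : Subgroup G) hTI hC
    have hKp : IsPGroup p ↥((P : Subgroup G).subgroupOf
        (Subgroup.normalizer ((P : Subgroup G) : Set G))) := by
      apply IsPGroup.of_injective P.isPGroup'
        ((P : Subgroup G).subgroupOfEquivOfLe hPN).toMonoidHom
      exact ((P : Subgroup G).subgroupOfEquivOfLe hPN).injective
    have hK1 : (P : Subgroup G).subgroupOf (Subgroup.normalizer ((P : Subgroup G) : Set G)) ≠ ⊥ :=
      subgroupOf_ne_bot hPN hP1
    have hab' : ∀ a b : ↥(Subgroup.normalizer ((P : Subgroup G) : Set G)),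
        a ∈ (P : Subgroup G).subgroupOf (Subgroup.normalizer ((P : Subgroup G) : Set G)) →
        b ∈ (P : Subgroup G).subgroupOf (Subgroup.normalizer ((P : Subgroup G) : Set G)) →
        a * b = b * a := by
      intro a b ha hb
      rw [Subgroup.mem_subgroupOf] at ha hb
      apply Subtype.ext
      simp only [Subgroup.coe_mul]
      exact hab (a : G) ha (b : G) hb
    rcases abelian_case htif hab' p hKp hK1 with ⟨h1, h2, h3⟩ | h
    · left
      refine ⟨h1, ⟨⟨⟨fun a b => Subtype.ext (hab a a.2 b b.2)⟩⟩, ?_⟩, ?_⟩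
      · intro a ha
        have := h2 ⟨a, hPN ha⟩ (Subgroup.mem_subgroupOf.mpr ha)
        have h4 := congrArg Subtype.val this
        simpa using h4
      · have hcard : Nat.card ((P : Subgroup G).subgroupOf
            (Subgroup.normalizer ((P : Subgroup G) : Set G))) = Nat.card (P : Subgroup G) :=
          Nat.card_congr (Subgroup.subgroupOfEquivOfLe hPN).toEquiv
        rw [← hcard]
        exact h3
    · right
      exact h
end Cfsg.Agent.S1533
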