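import Cfsg.Statements.S1535
import Cfsg.Agent.Lib.Helper11.FrobChain
import Cfsg.Agent.Lib.Helper11.FrobSylow

set_option autoImplicit false
open Cfsg

namespace Cfsg.Agent.S1535

open Cfsg.Agent.Lib.Helper11.FrobChain Cfsg.Agent.Lib.Helper11.FrobSylow
  Cfsg.Agent.Lib.Helper11.FrobIrr
open scoped commutatorElement


/-- Let N be a finite group with a proper nontrivial normal subgroup H such that every element commuting with a non-identity element of H lies in H (N is a Frobenius group with kernel H); let e be the index of H and suppose Nat.card H ≠ e + 1. Let S be the set of irreducible characters χ of N with χ h ≠ χ 1 for some h ∈ H, and τ a linear isometry on the integer combinations of S vanishing at 1, with values virtual characters of a finite group G vanishing at 1. Then (S, N minus 1, τ) is coherent, or there is a prime p with Nat.card H a power of p, H non-abelian and [H : [H,H]] ≤ 4e² + 1. -/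
theorem result {N : Type*} [Group N] [Fintype N] {G : Type*} [Group G] [Fintype G] (H : Subgroup N) [H.Normal] (hH1 : H ≠ ⊥) (hH2 : H ≠ ⊤) (hC : ∀ h ∈ H, h ≠ 1 → Subgroup.centralizer ({h} : Set N) ≤ H) (he : Nat.card H ≠ H.index + 1) (τ : (N → ℂ) → (G → ℂ)) (hτ : Cfsg.IsLinearIsometryOn (Cfsg.zspanOn {χ : N → ℂ | Cfsg.IsIrrCharacter N χ ∧ ∃ h ∈ H, χ h ≠ χ 1} {1}ᶜ) τ) (hτ1 : ∀ α ∈ Cfsg.zspanOn {χ : N → ℂ | Cfsg.IsIrrCharacter N χ ∧ ∃ h ∈ H, χ h ≠ χ 1} {1}ᶜ, τ α 1 = 0) : Cfsg.IsCoherent {χ : N → ℂ | Cfsg.IsIrrCharacter N χ ∧ ∃ h ∈ H, χ h ≠ χ 1} {1}ᶜ τ ∨ ∃ p : ℕ, p.Prime ∧ (∃ m : ℕ, Nat.card H = p ^ m) ∧ ¬ IsMulCommutative H ∧ (⁅H, H⁆.subgroupOf H).index ≤ 4 * H.index ^ 2 + 1 := by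
  classical
  rw [set_eq H hC] at hτ hτ1 ⊢
  have hnil : Group.IsNilpotent H := kernel_nilpotent' H hH2 hC
  have hsolv : Group.IsSolvable H := inferInstance
  have hD : FData H τ := ⟨inferInstance, hC, hτ, hτ1, hsolv⟩
  have hepos := index_pos H
  by_cases hab : IsMulCommutative H
  · left
    apply coherent_base hD ⊥ bot_le
    · intro x hx y hy
      rw [Subgroup.mem_bot]
      have h1 := hab.is_comm.comm (⟨x, hx⟩ : H) ⟨y, hy⟩
      have h2 : x * y = y * x := congrArg Subtype.val h1
      rw [h2]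
      group
    · rw [Subgroup.relIndex_bot_left]
      have h1 := index_dvd H hC ⊥
      rw [Subgroup.relIndex_bot_left] at h1
      have h2 : Nat.card H ≠ 1 := fun h => hH1 (Subgroup.card_eq_one.mp h)
      have h3 : 1 ≤ Nat.card H := Nat.card_pos
      obtain ⟨k, hk⟩ := h1
      have hk2 : 2 ≤ k := by
        by_contra hcon
        push Not at hcon
        interval_cases k
        · omega
        · omega
      nlinarith
  · by_cases hbig : 4 * H.index ^ 2 + 1 < (⁅H, H⁆ : Subgroup N).relIndex H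
    · left
      exact coherent_of_big hD hnil (by omega)
    · by_cases hpp : ∃ p m : ℕ, p.Prime ∧ Nat.card H = p ^ m
      · right
        obtain ⟨p, m, hp, hm⟩ := hpp
        exact ⟨p, hp, ⟨m, hm⟩, hab, le_of_not_gt hbig⟩
      · left
        obtain ⟨P, hPn, hPH, h1, h2, h3⟩ := exists_sylow_data H hnil hpp
        exact coherent_of_sylow_data hD hnil P hPH h1 h2 h3

end Cfsg.Agent.S1535
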