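import Cfsg.Statements.S1534
import Mathlib
import Cfsg.Agent.S1533
import Cfsg.Agent.S1535
import Cfsg.Agent.Lib.Helper11.SibAbelian
import Cfsg.Agent.Lib.Helper11.FSFinal

set_option autoImplicit false
open Cfsg

namespace Cfsg.Agent.S1534
open Cfsg.Agent.Lib.Helper11 Cfsg.Agent.Lib.Helper11.SibSylow Cfsg.Agent.Lib.Helper11.SibSetup
  Cfsg.Agent.Lib.Helper11.SibAbelian Cfsg.Agent.Lib.Helper11.FSFinal
open scoped commutatorElement


/-- Let G be a finite group and K a nontrivial nilpotent subgroup whose underlying set is a TI-subset of G, properly contained in its set normaliser N, with C_G(k) ≤ K for every non-identity k ∈ K; let e be the index of K in N and S the set of irreducible characters χ of N with χ k ≠ χ 1 for some k ∈ K. Then one of: S has exactly one member, Nat.card K = e + 1 and K is an elementary abelian p-group for some prime p; or K is a Sylow 2-subgroup of G (Nat.card K is the largest power of 2 dividing Nat.card G) and [K : [K,K]] < 4e²; or (S, N minus 1, induction to G) is coherent. -/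
theorem result {G : Type*} [Group G] [Fintype G] (K : Subgroup G) (hK1 : K ≠ ⊥) (hnil : Group.IsNilpotent K) (hTI : Cfsg.IsTISubset (K : Set G)) (hlt : K < Subgroup.normalizer (K : Set G)) (hC : ∀ k ∈ K, k ≠ 1 → Subgroup.centralizer ({k} : Set G) ≤ K) [Fintype ↥(Subgroup.normalizer (K : Set G))] : (Nat.card {χ : ↥(Subgroup.normalizer (K : Set G)) → ℂ // Cfsg.IsIrrCharacter ↥(Subgroup.normalizer (K : Set G)) χ ∧ ∃ k : ↥(Subgroup.normalizer (K : Set G)), (k : G) ∈ K ∧ χ k ≠ χ 1} = 1 ∧ Nat.card K = (K.subgroupOf (Subgroup.normalizer (K : Set G))).index + 1 ∧ ∃ p : ℕ, p.Prime ∧ Cfsg.IsElementaryAbelian p K) ∨ (Nat.card K = 2 ^ (Nat.card G).factorization 2 ∧ (⁅K, K⁆.subgroupOf K).index < 4 * (K.subgroupOf (Subgroup.normalizer (K : Set G))).index ^ 2) ∨ Cfsg.IsCoherent {χ : ↥(Subgroup.normalizer (K : Set G)) → ℂ | Cfsg.IsIrrCharacter ↥(Subgroup.normalizer (K : Set G)) χ ∧ ∃ k : ↥(Subgroup.normalizer (K : Set G)), (k : G) ∈ K ∧ χ k ≠ χ 1} {1}ᶜ (fun α => Cfsg.indFun (Subgroup.normalizer (K : Set G)) α) := by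
  classical
  have hKN : K ≤ Subgroup.normalizer (K : Set G) := Subgroup.le_normalizer
  have htif := tif_of_TI K hTI hC
  have hnorm := htif.normal
  have hH1 : K.subgroupOf (Subgroup.normalizer (K : Set G)) ≠ ⊥ := subgroupOf_ne_bot hKN hK1
  have hH2 : K.subgroupOf (Subgroup.normalizer (K : Set G)) ≠ ⊤ := by
    intro h
    rw [Subgroup.subgroupOf_eq_top] at h
    exact (not_le_of_gt hlt) h
  have hequiv := Subgroup.subgroupOfEquivOfLe hKN
  have hcard : Nat.card (K.subgroupOf (Subgroup.normalizer (K : Set G))) = Nat.card K :=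
    Nat.card_congr hequiv.toEquiv
  have hnilH : Group.IsNilpotent ↥(K.subgroupOf (Subgroup.normalizer (K : Set G))) :=
    Group.nilpotent_of_mulEquiv hequiv.symm
  by_cases he : Nat.card (K.subgroupOf (Subgroup.normalizer (K : Set G))) =
      (K.subgroupOf (Subgroup.normalizer (K : Set G))).index + 1
  · -- the small case
    have hab' := abelian_of_card _ htif.hC hnilH hH1 he
    have hgt : Nat.card (K.subgroupOf (Subgroup.normalizer (K : Set G))) ≠ 1 := fun h =>
      hH1 (Subgroup.card_eq_one.mp h)
    obtain ⟨p, hp, hpd⟩ := Nat.exists_prime_and_dvd hgt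
    have : Fact p.Prime := ⟨hp⟩
    have hexp := exponent_of_card' _ htif.hC hab' p hpd he
    have hKp : IsPGroup p ↥(K.subgroupOf (Subgroup.normalizer (K : Set G))) := by
      intro x
      refine ⟨1, ?_⟩
      rw [pow_one]
      apply Subtype.ext
      have := hexp (x : ↥(Subgroup.normalizer (K : Set G))) x.2
      simpa using this
    rcases abelian_case htif hab' p hKp hH1 with ⟨h1, h2, h3⟩ | h
    · left
      refine ⟨h1, ?_, p, hp, ⟨⟨⟨fun a b => ?_⟩⟩, ?_⟩⟩
      · rw [← hcard]
        exact h3
      · have := hab' ⟨a, hKN a.2⟩ ⟨b, hKN b.2⟩ (Subgroup.mem_subgroupOf.mpr a.2)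
          (Subgroup.mem_subgroupOf.mpr b.2)
        apply Subtype.ext
        have h4 := congrArg Subtype.val this
        simpa using h4
      · intro a ha
        have := h2 ⟨a, hKN ha⟩ (Subgroup.mem_subgroupOf.mpr ha)
        have h4 := congrArg Subtype.val this
        simpa using h4
    · right
      right
      exact h
  · -- the general case
    rcases Cfsg.Agent.S1535.result (K.subgroupOf (Subgroup.normalizer (K : Set G))) hH1 hH2
      htif.hC he (fun α => Cfsg.indFun (Subgroup.normalizer (K : Set G)) α)
      (tif_isometry htif) (tif_map_one htif) with h | ⟨p, hp, ⟨m, hm⟩, hnab, hidx⟩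
    · right
      right
      exact h
    · have : Fact p.Prime := ⟨hp⟩
      have hKp : IsPGroup p K := by
        apply IsPGroup.of_card (n := m)
        rw [← hcard]
        exact hm
      obtain ⟨P, hP⟩ := sylow_of_cent K hK1 hC p hKp
      by_cases hp2 : p = 2
      · subst hp2
        right
        left
        refine ⟨?_, ?_⟩
        · rw [← hP]
          exact Sylow.card_eq_multiplicity P
        · rw [commutator_index_subgroupOf K _ hKN] at hidx
          have hd : (⁅K, K⁆.subgroupOf K).index ∣ 2 ^ m := by
            rw [← hm, hcard]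
            exact Subgroup.index_dvd_card _
          obtain ⟨j, -, hj⟩ := (Nat.dvd_prime_pow Nat.prime_two).mp hd
          rw [hj] at hidx ⊢
          have h1 := Cfsg.Agent.Lib.Helper11.FrobIrr.index_dvd
            (K.subgroupOf (Subgroup.normalizer (K : Set G))) htif.hC ⊥
          rw [Subgroup.relIndex_bot_left, hm] at h1
          have hm0 : m ≠ 0 := by
            intro h0
            rw [h0, pow_zero] at hm
            exact hH1 (Subgroup.card_eq_one.mp hm)
          have he2 : 2 ≤ (K.subgroupOf (Subgroup.normalizer (K : Set G))).index := by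
            have h0 : (K.subgroupOf (Subgroup.normalizer (K : Set G))).index ≠ 0 :=
              Subgroup.index_ne_zero_of_finite
            have h1' : (K.subgroupOf (Subgroup.normalizer (K : Set G))).index ≠ 1 := fun h =>
              hH2 (Subgroup.index_eq_one.mp h)
            omega
          exact two_pow_lt j m _ he2 hm0 h1 hidx
      · subst hP
        rcases Cfsg.Agent.S1533.result p hp2 P hK1 hTI hlt hC with ⟨h1, h2, h3⟩ | h
        · exfalso
          apply he
          rw [hcard]
          exact h3
        · right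
          right
          exact h

end Cfsg.Agent.S1534
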