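import Cfsg.Statements.S0188
import Mathlib
import Cfsg.Prelude.Def_Characters
import Cfsg.Agent.Lib.helper2.CharInt
import Cfsg.Agent.Lib.helper2.CharNat
import Cfsg.Agent.Lib.helper7.CharTools
import Cfsg.Agent.S0134

set_option autoImplicit false
open Cfsg

namespace Cfsg.Agent.S0188

open Cfsg.Agent.Lib.helper2 Cfsg.Agent.Lib.Helper25 Cfsg.Agent.Lib.helper7
open scoped ComplexConjugate TensorProduct

theorem inner_prod {G H : Type*} [Group G] [Fintype G] [Group H] [Fintype H] (φ φ' : G → ℂ) (ψ ψ' : H → ℂ) :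
    Cfsg.classInner (fun x : G × H => φ x.1 * ψ x.2) (fun x : G × H => φ' x.1 * ψ' x.2) =
      Cfsg.classInner φ φ' * Cfsg.classInner ψ ψ' := by
  unfold Cfsg.classInner
  rw [Nat.card_prod, Fintype.sum_prod_type]
  push_cast
  rw [mul_inv]
  have : ∑ x : G, ∑ y : H, φ x * ψ y * conj (φ' x * ψ' y) = (∑ x : G, φ x * conj (φ' x)) * (∑ y : H, ψ y * conj (ψ' y)) := by
    rw [Finset.sum_mul_sum]
    refine Finset.sum_congr rfl fun x _ => Finset.sum_congr rfl fun y _ => ?_
    rw [map_mul]; ring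
  rw [this]; ring

theorem prod_isCharacter {G H : Type*} [Group G] [Group H] {φ : G → ℂ} {ψ : H → ℂ} (hφ : Cfsg.IsCharacter G φ) (hψ : Cfsg.IsCharacter H ψ) :
    Cfsg.IsCharacter (G × H) (fun x : G × H => φ x.1 * ψ x.2) := by
  obtain ⟨n, ρ, rfl⟩ := hφ
  obtain ⟨m, σ, rfl⟩ := hψ
  have h := isCharacter_of_rep (Representation.tprod (ρ.comp (MonoidHom.fst G H)) (σ.comp (MonoidHom.snd G H)))
  convert h using 1
  funext x
  rw [Representation.char_tensor]
  rfl

theorem prod_isIrr {G H : Type*} [Group G] [Fintype G] [Group H] [Fintype H] {φ : G → ℂ} {ψ : H → ℂ} (hφ : Cfsg.IsIrrCharacter G φ) (hψ : Cfsg.IsIrrCharacter H ψ) :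
    Cfsg.IsIrrCharacter (G × H) (fun x : G × H => φ x.1 * ψ x.2) := by
  apply h7_irr_of_norm_one (prod_isCharacter (isCharacter_of_irr ⟨φ, hφ⟩) (isCharacter_of_irr ⟨ψ, hψ⟩))
  rw [inner_prod, h7_irr_norm hφ, h7_irr_norm hψ, one_mul]

theorem sum_deg_sq {K : Type*} [Group K] [Finite K] [Fintype (Cfsg.IrrCharacter K)] (d : Cfsg.IrrCharacter K → ℕ)
    (hd : ∀ χ : Cfsg.IrrCharacter K, (χ : K → ℂ) 1 = (d χ : ℂ)) : ∑ χ : Cfsg.IrrCharacter K, (d χ) ^ 2 = Nat.card K := by
  have h := Cfsg.Agent.S0134.result (G := K)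
  rw [finsum_eq_sum_of_fintype] at h
  have h2 : ((∑ χ : Cfsg.IrrCharacter K, (d χ) ^ 2 : ℕ) : ℂ) = (Nat.card K : ℂ) := by
    rw [← h]
    push_cast
    refine Finset.sum_congr rfl fun χ _ => ?_
    rw [hd]
  exact_mod_cast h2



/-- The irreducible complex characters of G × H are precisely the functions (g, h) ↦ φ g * ψ h with φ, ψ irreducible characters of G and H. -/
theorem result {G : Type*} [Group G] [Finite G] {H : Type*} [Group H] [Finite H] (θ : G × H → ℂ) : Cfsg.IsIrrCharacter (G × H) θ ↔ ∃ (φ : G → ℂ) (ψ : H → ℂ), Cfsg.IsIrrCharacter G φ ∧ Cfsg.IsIrrCharacter H ψ ∧ θ = fun x => φ x.1 * ψ x.2 := by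
  classical
  have : Fintype G := Fintype.ofFinite G
  have : Fintype H := Fintype.ofFinite H
  have : Fintype (Cfsg.IrrCharacter G) := Fintype.ofFinite _
  have : Fintype (Cfsg.IrrCharacter H) := Fintype.ofFinite _
  have : Fintype (Cfsg.IrrCharacter (G × H)) := Fintype.ofFinite _
  constructor
  · intro hθ
    by_contra hcon
    let ι : Cfsg.IrrCharacter G × Cfsg.IrrCharacter H → Cfsg.IrrCharacter (G × H) :=
      fun p => ⟨fun x => (p.1 : G → ℂ) x.1 * (p.2 : H → ℂ) x.2, prod_isIrr p.1.2 p.2.2⟩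
    have hιinj : Function.Injective ι := by
      intro p q hpq
      have h1 : Cfsg.classInner ((ι p : G × H → ℂ)) ((ι q : G × H → ℂ)) = 1 := by
        rw [hpq]; exact h7_irr_norm (ι q).2
      have h2 : Cfsg.classInner ((ι p : G × H → ℂ)) ((ι q : G × H → ℂ)) =
          Cfsg.classInner (p.1 : G → ℂ) (q.1 : G → ℂ) * Cfsg.classInner (p.2 : H → ℂ) (q.2 : H → ℂ) :=
        inner_prod _ _ _ _
      rw [h2, irr_classInner, irr_classInner] at h1
      by_cases e1 : p.1 = q.1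
      · by_cases e2 : p.2 = q.2
        · exact Prod.ext e1 e2
        · rw [if_neg e2, mul_zero] at h1
          exact absurd h1 zero_ne_one
      · rw [if_neg e1, zero_mul] at h1
        exact absurd h1 zero_ne_one
    choose dG hdGpos hdG _ using (fun χ : Cfsg.IrrCharacter G => irr_degree_dvd_card χ)
    choose dH hdHpos hdH _ using (fun χ : Cfsg.IrrCharacter H => irr_degree_dvd_card χ)
    choose dP hdPpos hdP _ using (fun χ : Cfsg.IrrCharacter (G × H) => irr_degree_dvd_card χ)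
    have hdι : ∀ p, dP (ι p) = dG p.1 * dH p.2 := by
      intro p
      have h1 : ((ι p : G × H → ℂ)) 1 = (p.1 : G → ℂ) 1 * (p.2 : H → ℂ) 1 := rfl
      rw [hdP, hdG, hdH] at h1
      exact_mod_cast h1
    have hsG := sum_deg_sq dG hdG
    have hsH := sum_deg_sq dH hdH
    have hsP := sum_deg_sq dP hdP
    have himage : ∑ χ ∈ Finset.univ.image ι, (dP χ) ^ 2 = Nat.card (G × H) := by
      rw [Finset.sum_image (fun p _ q _ h => hιinj h), Nat.card_prod, ← hsG, ← hsH, Finset.sum_mul_sum,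
        ← Finset.sum_product']
      refine Finset.sum_congr rfl fun p _ => ?_
      rw [hdι]; ring
    have hθmem : (⟨θ, hθ⟩ : Cfsg.IrrCharacter (G × H)) ∉ Finset.univ.image ι := by
      intro hmem
      obtain ⟨p, _, hp⟩ := Finset.mem_image.mp hmem
      apply hcon
      refine ⟨p.1, p.2, p.1.2, p.2.2, ?_⟩
      exact (congrArg Subtype.val hp).symm
    have hle : ∑ χ ∈ insert (⟨θ, hθ⟩ : Cfsg.IrrCharacter (G × H)) (Finset.univ.image ι), (dP χ) ^ 2 ≤
        ∑ χ : Cfsg.IrrCharacter (G × H), (dP χ) ^ 2 :=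
      Finset.sum_le_sum_of_subset (Finset.subset_univ _)
    rw [Finset.sum_insert hθmem, himage, hsP] at hle
    have := hdPpos ⟨θ, hθ⟩
    have h3 : 0 < dP ⟨θ, hθ⟩ ^ 2 := by positivity
    omega
  · rintro ⟨φ, ψ, hφ, hψ, rfl⟩
    exact prod_isIrr hφ hψ

end Cfsg.Agent.S0188
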