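import Cfsg.Statements.S4718
import Cfsg.Agent.Lib.Helper24.Landau
import Cfsg.Agent.Lib.Helper25.BrauerFeit2
import Cfsg.Agent.Lib.helper7.BlockEval
import Cfsg.Agent.S0133

set_option autoImplicit false
universe u
open Cfsg

namespace Cfsg.Agent.S4718

theorem result (p : ℕ) [Fact p.Prime] (a : ℕ) : ∃ N : ℕ, ∀ (G : Type u) [Group G] [Finite G] (M : Ideal Cfsg.AlgInt), Cfsg.IsPModular p M → (Nat.card G).factorization p = a → (∀ B : Set (Cfsg.IrrCharacter G), Cfsg.IsPBlock M B → B = Cfsg.principalBlock M G) → Nat.card G ≤ N := by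
  obtain ⟨N, hN⟩ := Cfsg.Agent.Lib.Helper24.ld_landau.{u} ((p ^ (2 * a) + 4) / 4)
  refine ⟨N, ?_⟩
  intro G _ _ M hM ha hB
  apply hN G
  letI : Fintype G := Fintype.ofFinite G
  letI : Fintype (Cfsg.IrrCharacter G) := Fintype.ofFinite _
  rw [← Cfsg.Agent.S0133.result]
  have hPr := hM.2.1.isPrime
  have hall : ∀ χ : Cfsg.IrrCharacter G, χ ∈ Cfsg.principalBlock M G := by
    intro χ
    rw [← hB (Cfsg.blockOf M (χ : G → ℂ)) ⟨χ, rfl⟩]
    exact Cfsg.Agent.Lib.helper7.h7_sameBlock_refl hPr _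
  have h1 := Cfsg.Agent.Lib.Helper25.bf_bound p M hM (Cfsg.principalBlock M G)
    ⟨Cfsg.Agent.Lib.Helper25.trivIrr G, rfl⟩
  have h2 : Nat.card (Cfsg.principalBlock M G) = Nat.card (Cfsg.IrrCharacter G) :=
    Nat.card_congr (Equiv.subtypeUnivEquiv hall)
  have h3 : Cfsg.blockDefect p (Cfsg.principalBlock M G) ≤ a := by
    unfold Cfsg.blockDefect
    rw [ha]
    exact Nat.sub_le _ _
  have h4 : p ^ (2 * Cfsg.blockDefect p (Cfsg.principalBlock M G)) ≤ p ^ (2 * a) :=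
    Nat.pow_le_pow_right (Fact.out : p.Prime).pos (by omega)
  rw [Nat.le_div_iff_mul_le (by norm_num)]
  rw [h2] at h1
  omega

end Cfsg.Agent.S4718
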