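import Cfsg.Statements.S0990
import Mathlib
import Cfsg.Agent.Lib.helper8.SubgroupCard

set_option autoImplicit false
open Cfsg

namespace Cfsg.Agent.S0990

open Subgroup
open Cfsg.Agent.Lib.helper8

theorem result {α : Type*} [Fintype α] [DecidableEq α] (hα : 2 ≤ Fintype.card α) (p : ℕ) [Fact p.Prime] (hp : p ≠ 2) (P : Sylow p (Equiv.Perm α)) : (P : Subgroup (Equiv.Perm α)) ≤ alternatingGroup α ∧ 2 * Nat.card ↥(Subgroup.normalizer ((((P : Subgroup (Equiv.Perm α)).subgroupOf (alternatingGroup α) : Subgroup ↥(alternatingGroup α)) : Set ↥(alternatingGroup α)))) = Nat.card ↥(Subgroup.normalizer ((P : Subgroup (Equiv.Perm α)) : Set (Equiv.Perm α))) := by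
  classical
  have hpp : p.Prime := Fact.out
  haveI : Nontrivial α := Fintype.one_lt_card_iff_nontrivial.mp (by omega)
  set A := alternatingGroup α with hA
  -- P ≤ A
  have hPA : (P : Subgroup (Equiv.Perm α)) ≤ A := by
    intro g hg
    rw [hA, Equiv.Perm.mem_alternatingGroup]
    -- order of g is a power of p, hence odd
    obtain ⟨k, hk⟩ := (IsPGroup.iff_orderOf.mp P.isPGroup') ⟨g, hg⟩
    have hk' : orderOf g = p ^ k := by
      rw [← Subgroup.orderOf_coe] at hk
      exact hk
    have hodd : Odd (orderOf g) := by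
      rw [hk']
      exact Odd.pow (hpp.odd_of_ne_two hp)
    have h1 : (Equiv.Perm.sign g) ^ (orderOf g) = 1 := by
      rw [← map_pow, pow_orderOf_eq_one, map_one]
    rcases Int.units_eq_one_or (Equiv.Perm.sign g) with h2 | h2
    · exact h2
    · exfalso
      rw [h2, Odd.neg_one_pow hodd] at h1
      revert h1
      decide
  refine ⟨hPA, ?_⟩
  set N := normalizer ((P : Subgroup (Equiv.Perm α)) : Set (Equiv.Perm α)) with hN
  have hfr : N ⊔ A = ⊤ := P.normalizer_sup_eq_top' hPA
  have h1 : normalizer (((P : Subgroup (Equiv.Perm α)).subgroupOf A : Subgroup A) : Set A) =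
      N.subgroupOf A := (Subgroup.subgroupOf_normalizer_eq hPA).symm
  rw [h1]
  have h2 : Nat.card (N.subgroupOf A) = Nat.card (N ⊓ A : Subgroup (Equiv.Perm α)) := by
    rw [← Subgroup.inf_subgroupOf_right]
    exact h8_card_subgroupOf inf_le_right
  rw [h2]
  have h3 := h8_card_inf_mul_relIndex A N
  have h4 : A.relIndex N = 2 := by
    rw [← relIndex_sup_right, hfr, relIndex_top_right, hA, alternatingGroup.index_eq_two]
  rw [h4, inf_comm] at h3
  rw [← h3, mul_comm]

end Cfsg.Agent.S0990
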