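import Cfsg.Statements.S0965
import Mathlib
import Cfsg.Agent.Lib.helper7.BlockCover2
import Cfsg.Agent.S0963

set_option autoImplicit false
open Cfsg

namespace Cfsg.Agent.S0965

open Cfsg.Agent.Lib.helper7 Cfsg.Agent.Lib.Helper11


/-- Let N be a normal subgroup of the finite group G and let B, b be blocks of G and of N relative to a maximal ideal M of the algebraic integers containing the prime p. Then some χ ∈ B has a constituent in b on restriction to N if and only if, for all χ ∈ B, θ ∈ b and n ∈ N, the central character of χ at n is congruent modulo the local ideal at M to the sum of θ m / θ 1 over the elements m ∈ N conjugate in G to n. -/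
theorem result {G : Type*} [Group G] [Fintype G] (p : ℕ) [Fact p.Prime] (M : Ideal Cfsg.AlgInt) (hM : Cfsg.IsPModular p M) (N : Subgroup G) [N.Normal] [Fintype N] (B : Set (Cfsg.IrrCharacter G)) (hB : Cfsg.IsPBlock M B) (b : Set (Cfsg.IrrCharacter N)) (hb : Cfsg.IsPBlock M b) : (∃ χ ∈ B, ∃ θ ∈ b, Cfsg.classInner (fun n : N => (χ : G → ℂ) n) (θ : N → ℂ) ≠ 0) ↔ ∀ χ ∈ B, ∀ θ ∈ b, ∀ n : N, Cfsg.MemLocalIdeal M (Cfsg.centralChar (χ : G → ℂ) (n : G) - Cfsg.inducedCentralChar N (θ : N → ℂ) (n : G)) := by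
  classical
  haveI : Fintype (Cfsg.IrrCharacter G) := Fintype.ofFinite _
  haveI : Fintype (Cfsg.IrrCharacter N) := Fintype.ofFinite _
  haveI : Fintype (ConjClasses G) := Fintype.ofFinite _
  letI : MulAction G (Cfsg.IrrCharacter N) := h7_irrAction N
  have hP := hM.2.1.isPrime
  obtain ⟨χ₁, rfl⟩ := hB
  obtain ⟨θ₁, rfl⟩ := hb
  constructor
  · rintro ⟨χ₀, hχ₀, θ₀, hθ₀, hcon⟩ χ hχ θ hθ n
    have h1 : Cfsg.SameBlock M (χ : G → ℂ) (χ₀ : G → ℂ) :=
      h7_sameBlock_trans hP (h7_sameBlock_symm hχ) hχ₀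
    have h2 : Cfsg.SameBlock M (θ₀ : N → ℂ) (θ : N → ℂ) :=
      h7_sameBlock_trans hP (h7_sameBlock_symm hθ₀) hθ
    have h3 := (Cfsg.Agent.S0963.result N χ₀ θ₀).mp hcon n
    have h4 := h7_icc_congr N hP θ₀ θ h2 (n : G)
    have h5 := h7_memLocalIdeal_add hP (h1 (n : G)) h4
    rw [h3] at h5
    have e : Cfsg.centralChar (χ : G → ℂ) (n : G) - Cfsg.inducedCentralChar N (θ₀ : N → ℂ) (n : G) +
        (Cfsg.inducedCentralChar N (θ₀ : N → ℂ) (n : G) -
          Cfsg.inducedCentralChar N (θ : N → ℂ) (n : G)) =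
        Cfsg.centralChar (χ : G → ℂ) (n : G) - Cfsg.inducedCentralChar N (θ : N → ℂ) (n : G) := by
      ring
    rwa [e] at h5
  · intro hall
    have hχ₁ : χ₁ ∈ Cfsg.blockOf M (χ₁ : G → ℂ) := h7_sameBlock_refl hP _
    have hθ₁ : θ₁ ∈ Cfsg.blockOf M (θ₁ : N → ℂ) := h7_sameBlock_refl hP _
    have hR := Cfsg.Agent.Lib.helper2.isCharacter_restrict (h7_irr_isCharacter χ₁.2) N
    have hR1 : (fun n : N => (χ₁ : G → ℂ) n) 1 ≠ 0 :=
      Cfsg.Agent.Lib.Helper25.irr_one_ne_zero χ₁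
    obtain ⟨θ', m, hm, hθ'⟩ := Cfsg.Agent.Lib.helper2.isCharacter_exists_constituent hR hR1
    have hcon' : Cfsg.classInner (fun n : N => (χ₁ : G → ℂ) n) (θ' : N → ℂ) ≠ 0 := by
      rw [hθ']
      exact_mod_cast hm.ne'
    have h3 := (Cfsg.Agent.S0963.result N χ₁ θ').mp hcon'
    set T := h7_conjUnion N M θ₁ with hT
    have hTs := h7_conjUnion_stable N M θ₁
    have hθ₁T : θ₁ ∈ T := by
      refine ⟨1, ?_⟩
      have : h7_irrSmul N (1 : G) θ₁ = θ₁ := one_smul G θ₁
      rw [this]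
      exact hθ₁
    have hθ'T : θ' ∈ T := by
      by_contra hn
      have e1 := h7_T_expand N T hTs θ₁
      have e2 := h7_T_expand N T hTs θ'
      rw [if_pos hθ₁T] at e1
      rw [if_neg hn] at e2
      apply h7_not_memLocalIdeal_one hP
      have e3 : (1 : ℂ) = ∑ K : ConjClasses G,
          Cfsg.blockCoeff (h7_over N T) (Quotient.out K) *
            Cfsg.inducedCentralChar N (θ₁ : N → ℂ) (Quotient.out K) -
          ∑ K : ConjClasses G,
          Cfsg.blockCoeff (h7_over N T) (Quotient.out K) *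
            Cfsg.inducedCentralChar N (θ' : N → ℂ) (Quotient.out K) := by
        rw [← e1, ← e2, sub_zero]
      rw [e3, ← Finset.sum_sub_distrib]
      apply h7_memLocalIdeal_sum hP
      intro K _
      rw [← mul_sub]
      by_cases hK : Quotient.out K ∈ N
      · apply h7_memLocalIdeal_mul_left hP
        · rw [← h7_coef_indicator]
          exact h7_over_indicator_mem N hP T hTs (fun n => h7_conjUnion_coeff N hP θ₁ n) _
        · have h5 := hall χ₁ hχ₁ θ₁ hθ₁ ⟨Quotient.out K, hK⟩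
          rw [h3 ⟨Quotient.out K, hK⟩] at h5
          have h6 := h7_memLocalIdeal_neg h5
          rwa [neg_sub] at h6
      · rw [h7_cover_coef N T hTs, h7_extendByZero_not_mem N _ _ hK, zero_mul]
        exact h7_memLocalIdeal_zero hP
    obtain ⟨g, θ'', hθ'', hg⟩ := (h7_mem_conjUnion_iff N M θ₁ θ').mp hθ'T
    refine ⟨χ₁, hχ₁, θ'', hθ'', ?_⟩
    have h7 := h7_classInner_restrict_cj N (χ₁ : G → ℂ) (h7_irr_isClassFunction χ₁.2)
      (θ'' : N → ℂ) g⁻¹
    rw [← h7]
    have h8 : (θ' : N → ℂ) = cj N (θ'' : N → ℂ) g⁻¹ := by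
      rw [hg]
      rfl
    rw [← h8]
    exact hcon'

end Cfsg.Agent.S0965
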