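import Cfsg.Statements.S0293
import Cfsg.Agent.S0287
import Cfsg.Agent.S0790
import Cfsg.Agent.Lib.Lead.OmegaCenter2
import Cfsg.Agent.Lib.Lead.OmegaCenter3
import Cfsg.Agent.Lib.Lead.DicksonGen
import Cfsg.Agent.Lib.Lead.Reindex
import Cfsg.Agent.Lib.Helper16.PlusFam

set_option autoImplicit false
open Cfsg

namespace Cfsg.Agent.S0293

open Cfsg.Agent.Lib.Lead Cfsg.Agent.Lib.Helper16 Matrix

/-- the arithmetic of the three cases -/
theorem arith (X G Om Z P g idx : ℕ) (hG : G = 2 * X) (h1 : Om * idx = G) (h3 : Om = P * Z)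
    (hcase : (idx = 4 ∧ Z = 2 ∧ g = 4) ∨ (idx = 4 ∧ Z = 1 ∧ g = 2) ∨ (idx = 2 ∧ Z = 1 ∧ g = 1)) :
    g * P = X := by
  rcases hcase with ⟨rfl, rfl, rfl⟩ | ⟨rfl, rfl, rfl⟩ | ⟨rfl, rfl, rfl⟩ <;> omega

theorem odd_card_of_two_ne {F : Type*} [Field F] [Fintype F] (h2 : (2 : F) ≠ 0) :
    Odd (Fintype.card F) := by
  have hchar : ringChar F ≠ 2 := by
    intro h
    have : CharP F 2 := ringChar.of_eq h
    exact h2 (CharTwo.two_eq_zero)
  rw [Nat.odd_iff]
  exact FiniteField.odd_card_of_char_ne_two hchar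

theorem result {F : Type*} [Field F] [Fintype F] {q : ℕ} (hF : Fintype.card F = q) (m : ℕ) (hm : 4 ≤ m) : Nat.gcd 4 (q ^ m - 1) * Nat.card (Cfsg.POmega F (Cfsg.quadFormPlus m F)) = q ^ (m * (m - 1)) * (q ^ m - 1) * ∏ i ∈ Finset.range (m - 1), (q ^ (2 * (i + 1)) - 1) := by
  have hGO := Cfsg.Agent.S0287.result hF m (by omega)
  have hcard : Fintype.card (Fin m ⊕ Fin m) = 2 * m := by
    simp only [Fintype.card_sum, Fintype.card_fin]; ring
  have hQ := qfPlus_nondeg m F
  have h1 := Subgroup.card_mul_index (Cfsg.Omega F (Cfsg.quadFormPlus m F))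
  have h3 := Subgroup.card_eq_card_quotient_mul_card_subgroup
    (Subgroup.center ↥(Cfsg.Omega F (Cfsg.quadFormPlus m F)))
  show Nat.gcd 4 (q ^ m - 1) * Nat.card (↥(Cfsg.Omega F (Cfsg.quadFormPlus m F)) ⧸
    Subgroup.center ↥(Cfsg.Omega F (Cfsg.quadFormPlus m F))) = _
  have hq1 : 1 ≤ q ^ m := by
    have : 0 < q := by rw [← hF]; exact Fintype.card_pos
    exact Nat.one_le_pow _ _ this
  refine arith _ _ _ _ _ _ _ (by rw [hGO]; ring) h1 h3 ?_
  by_cases h2 : (2 : F) = 0
  · -- characteristic two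
    right; right
    have : CharP F 2 := CharTwo.of_one_ne_zero_of_two_eq_zero one_ne_zero h2
    refine ⟨?_, ?_, ?_⟩
    · have := DK.index_omega_char2 (qfPlus m F) hQ (by rw [hcard]; omega)
        (Or.inr (by rw [hcard]; omega))
      rw [qfPlus_coe] at this
      exact this
    · have := OC2.center_eq_bot (qfPlus m F) hQ (by rw [hcard]; omega)
      rw [qfPlus_coe] at this
      rw [this]
      exact Subgroup.card_bot
    · have hchar : ringChar F = 2 := ringChar.eq F 2
      have heven := FiniteField.even_card_of_char_two hchar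
      rw [hF] at heven
      have h4 : q ^ m % 4 = 0 := by
        obtain ⟨k, hk⟩ : ∃ k, m = k + 2 := ⟨m - 2, by omega⟩
        obtain ⟨t, ht⟩ : ∃ t, q = 2 * t := ⟨q / 2, by omega⟩
        rw [hk, pow_add, ht]
        have : (2 * t) ^ 2 = 4 * (t * t) := by ring
        rw [this, Nat.mul_mod, Nat.mul_mod 4, Nat.mod_self]
        simp
      have h5 : (q ^ m - 1) % 4 = 3 := by omega
      rw [Nat.gcd_rec, h5]; rfl
  · -- odd characteristic
    have hodd : Odd q := by rw [← hF]; exact odd_card_of_two_ne h2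
    have hidx : (Cfsg.Omega F (Cfsg.quadFormPlus m F)).index = 4 := by
      have := RI.index_omega_general h2 (by rw [hcard]; omega) (qfPlus m F) hQ
      rw [qfPlus_coe] at this
      exact this
    have hiff := Cfsg.Agent.S0790.result hF hodd m (by omega)
    have hqm : Odd (q ^ m) := hodd.pow
    have hmod : q ^ m % 4 = 1 ∨ q ^ m % 4 = 3 := by
      obtain ⟨t, ht⟩ := hqm
      omega
    rcases hmod with hmod | hmod
    · left
      refine ⟨hidx, ?_, ?_⟩
      · have := OC3.card_center_of_mem h2 (qfPlus m F) hQ (by rw [hcard]; omega)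
          (by rw [qfPlus_coe]; exact hiff.mpr hmod)
        rw [qfPlus_coe] at this
        exact this
      · have h5 : (q ^ m - 1) % 4 = 0 := by omega
        rw [Nat.gcd_rec, h5]; rfl
    · right; left
      refine ⟨hidx, ?_, ?_⟩
      · have := OC3.card_center_of_not_mem h2 (qfPlus m F) hQ (by rw [hcard]; omega)
          (by rw [qfPlus_coe]; intro hcon; have := hiff.mp hcon; omega)
        rw [qfPlus_coe] at this
        exact this
      · have h5 : (q ^ m - 1) % 4 = 2 := by omega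
        rw [Nat.gcd_rec, h5]; rfl

end Cfsg.Agent.S0293
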