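import Cfsg.Statements.S4565
import Mathlib
import Cfsg.Agent.Lib.helper2.FullRam2
import Cfsg.Agent.Lib.helper2.FrobRam4

set_option autoImplicit false
open Cfsg

namespace Cfsg.Agent.S4565

open Cfsg
open scoped ComplexConjugate

open Cfsg.Agent.Lib.helper2 Cfsg.Agent.Lib.helper7 Cfsg.Agent.Lib.Helper11 Cfsg.Agent.Lib.Helper25



/-- Let χ be an irreducible character of the finite group H that is fully ramified over the normal subgroup Z: the restriction of χ to Z is e times an irreducible character of Z with e ^ 2 equal to the index of Z. If Z ≠ H, then H/Z has no cyclic subgroup that is its own centralizer. -/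
theorem result {H : Type*} [Group H] [Finite H] (Z : Subgroup H) [Z.Normal] (χ : Cfsg.IrrCharacter H) (hfr : ∃ (θ : Cfsg.IrrCharacter ↥Z) (e : ℕ), e ^ 2 = Z.index ∧ ∀ z : ↥Z, (χ : H → ℂ) z = (e : ℂ) * (θ : ↥Z → ℂ) z) (hZ : Z ≠ ⊤) (C : Subgroup (H ⧸ Z)) (hC : IsCyclic C) : Subgroup.centralizer (C : Set (H ⧸ Z)) ≠ C := by
  classical
  haveI : Fintype H := Fintype.ofFinite _
  haveI : Fintype Z := Fintype.ofFinite _
  have hZn : Z.Normal := inferInstance
  obtain ⟨θ, e, he, hres⟩ := hfr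
  intro hcent
  obtain ⟨c₀, hc₀⟩ := hC.exists_generator
  obtain ⟨g₀, hg₀⟩ := QuotientGroup.mk_surjective (c₀ : H ⧸ Z)
  set K : Subgroup H := C.comap (QuotientGroup.mk' Z) with hK
  have hmemK : ∀ x : H, x ∈ K ↔ (QuotientGroup.mk x : H ⧸ Z) ∈ C := fun x => Iff.rfl
  have hZK : Z ≤ K := by
    intro z hz
    rw [hmemK]
    have : (QuotientGroup.mk z : H ⧸ Z) = 1 := (QuotientGroup.eq_one_iff z).mpr hz
    rw [this]
    exact C.one_mem
  have hg₀K : g₀ ∈ K := by
    rw [hmemK, hg₀]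
    exact c₀.2
  have hCpow : ∀ q : H ⧸ Z, q ∈ C → ∃ i : ℤ, q = (QuotientGroup.mk g₀ : H ⧸ Z) ^ i := by
    intro q hq
    obtain ⟨i, hi⟩ := Subgroup.mem_zpowers_iff.mp (hc₀ ⟨q, hq⟩)
    refine ⟨i, ?_⟩
    have := congrArg Subtype.val hi
    rw [hg₀]
    simpa using this.symm
  have hKdecomp : ∀ k : H, k ∈ K → ∃ i : ℤ, (g₀ ^ i)⁻¹ * k ∈ Z := by
    intro k hk
    obtain ⟨i, hi⟩ := hCpow _ ((hmemK k).mp hk)
    rw [← QuotientGroup.mk_zpow] at hi
    exact ⟨i, QuotientGroup.eq.mp hi.symm⟩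
  have hself₀ : ∀ x : H, x⁻¹ * g₀ * x * g₀⁻¹ ∈ Z → x ∈ K := by
    intro x hx
    rw [hmemK]
    have h1 : (QuotientGroup.mk x : H ⧸ Z) ∈ Subgroup.centralizer (C : Set (H ⧸ Z)) := by
      rw [Subgroup.mem_centralizer_iff]
      intro q hq
      obtain ⟨i, rfl⟩ := hCpow q hq
      have h2 : (QuotientGroup.mk (x⁻¹ * g₀ * x * g₀⁻¹) : H ⧸ Z) = 1 :=
        (QuotientGroup.eq_one_iff _).mpr hx
      simp only [QuotientGroup.mk_mul, QuotientGroup.mk_inv] at h2
      have h3 : (QuotientGroup.mk g₀ : H ⧸ Z) * (QuotientGroup.mk x : H ⧸ Z) =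
          (QuotientGroup.mk x : H ⧸ Z) * (QuotientGroup.mk g₀ : H ⧸ Z) := by
        have h4 := congrArg (fun t => (QuotientGroup.mk x : H ⧸ Z) * t *
          (QuotientGroup.mk g₀ : H ⧸ Z)) h2
        simp only [mul_one] at h4
        rw [← h4]
        group
      exact (Commute.zpow_left (show Commute (QuotientGroup.mk g₀ : H ⧸ Z)
        (QuotientGroup.mk x : H ⧸ Z) from h3) i)
    rw [hcent] at h1
    exact h1
  by_cases hg₀Z : g₀ ∈ Z
  · -- C trivial: contradiction with Z ≠ ⊤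
    apply hZ
    rw [eq_top_iff]
    intro x _
    have hxK : x ∈ K := by
      apply hself₀
      have h1 : x⁻¹ * g₀ * x ∈ Z := by
        have := hZn.conj_mem g₀ hg₀Z x⁻¹
        rwa [inv_inv] at this
      exact Z.mul_mem h1 (Z.inv_mem hg₀Z)
    obtain ⟨i, hi⟩ := hKdecomp x hxK
    have := Z.mul_mem (Z.zpow_mem hg₀Z i) hi
    rwa [mul_inv_cancel_left] at this
  · -- main case
    haveI : Fintype K := Fintype.ofFinite _
    haveI : Fintype (Z.subgroupOf K) := Fintype.ofFinite _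
    have he0 : e ≠ 0 := by
      intro h0
      have : Z.index ≠ 0 := Subgroup.index_ne_zero_of_finite
      apply this
      rw [← he, h0]
      rfl
    have heC : (e : ℂ) ≠ 0 := by exact_mod_cast he0
    have hχc := Cfsg.Agent.Lib.helper2.isCharacter_of_irr χ
    have hclχ := isCharacter_isClassFunction hχc
    have hθinv : ∀ (x : H) (z : Z),
        (θ : Z → ℂ) ⟨x * z * x⁻¹, hZn.conj_mem z z.2 x⟩ = (θ : Z → ℂ) z := by
      intro x z
      have h1 := hres ⟨x * z * x⁻¹, hZn.conj_mem z z.2 x⟩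
      have h2 := hres z
      have h3 : (χ : H → ℂ) (x * z * x⁻¹) = (χ : H → ℂ) z := hclχ z x
      rw [h3, h2] at h1
      exact (mul_left_cancel₀ heC h1).symm
    -- cyclic quotient K / Z
    have hcycK : IsCyclic (K ⧸ Z.subgroupOf K) := by
      refine ⟨⟨QuotientGroup.mk ⟨g₀, hg₀K⟩, ?_⟩⟩
      intro q
      obtain ⟨k, rfl⟩ := QuotientGroup.mk_surjective q
      obtain ⟨i, hi⟩ := hKdecomp (k : H) k.2
      refine ⟨i, ?_⟩
      show (QuotientGroup.mk (⟨g₀, hg₀K⟩ : K) : K ⧸ Z.subgroupOf K) ^ i = QuotientGroup.mk k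
      rw [← QuotientGroup.mk_zpow]
      apply QuotientGroup.eq.mpr
      rw [Subgroup.mem_subgroupOf]
      exact hi
    have hab := fr_comm_of_cyclic (Z.subgroupOf K) hcycK
    -- extension of θ to K
    obtain ⟨k', ρ', hρ', hρθ⟩ := θ.2
    haveI := hρ'
    let E : Z.subgroupOf K ≃* Z := Subgroup.subgroupOfEquivOfLe hZK
    haveI hirrM : Representation.IsIrreducible
        (ρ'.comp E.toMonoidHom : Representation ℂ (Z.subgroupOf K) (Fin k' → ℂ)) :=
      isIrreducible_comp_equiv ρ' E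
    obtain ⟨τ, hτ, hτρ⟩ := h7_extend_cyclic (Z.subgroupOf K) hcycK
      (ρ'.comp E.toMonoidHom : Representation ℂ (Z.subgroupOf K) (Fin k' → ℂ)) (by
      intro g m
      show ρ'.character (E (MulAut.conjNormal g m)) = ρ'.character (E m)
      rw [hρθ]
      exact hθinv ((g : K) : H) (E m))
    have hT : Cfsg.IsIrrCharacter K τ.character := ⟨k', τ, hτ, rfl⟩
    have hTθ : ∀ m : Z.subgroupOf K, τ.character (m : K) = (θ : Z → ℂ) (E m) := by
      intro m
      rw [← hρθ]
      show LinearMap.trace ℂ _ (τ (m : K)) = LinearMap.trace ℂ _ (ρ' (E m))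
      rw [hτρ m]
      rfl
    have hTfun : (fun m : Z.subgroupOf K => τ.character (m : K)) =
        fun m => (θ : Z → ℂ) (E m) := funext hTθ
    have hTM : Cfsg.IsIrrCharacter (Z.subgroupOf K)
        (fun m : Z.subgroupOf K => τ.character (m : K)) := by
      rw [hTfun]
      exact h7_isIrr_comp_equiv E (θ : Z → ℂ) θ.2
    have hvan : ∀ h : H, h ∉ Z → (χ : H → ℂ) h = 0 :=
      fun h hh => fz_vanish Z (χ : H → ℂ) χ.2 (θ : Z → ℂ) θ.2 e he hres h hh
    have huniq : ∀ ψ : H → ℂ, Cfsg.IsIrrCharacter H ψ → ψ ≠ (χ : H → ℂ) →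
        Cfsg.classInner (fun z : Z.subgroupOf K => τ.character (z : K))
          (fun z : Z.subgroupOf K => ψ ((z : K) : H)) = 0 := by
      intro ψ hψ hne
      rw [hTfun]
      have h1 := h7_classInner_comp_equiv E (θ : Z → ℂ) (fun z : Z => ψ z)
      have h2 := fz_unique Z (χ : H → ℂ) χ.2 (θ : Z → ℂ) θ.2 e he hres ψ hψ hne
      rw [h2] at h1
      exact h1
    -- vanishing on the coset
    have hzero : ∀ z : Z.subgroupOf K, τ.character (z * (⟨g₀, hg₀K⟩ : K)) = 0 := by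
      intro z
      have hzZ : ((z : K) : H) ∈ Z := z.2
      apply fz_eval Z K hab (χ : H → ℂ) hvan τ.character hT huniq
      · intro h
        apply hg₀Z
        have h1 : ((z : K) : H) * g₀ ∈ Z := h
        have := Z.mul_mem (Z.inv_mem hzZ) h1
        rwa [inv_mul_cancel_left] at this
      · intro x hx
        apply hself₀
        have h1 : x⁻¹ * (((z : K) : H) * g₀) * x * (((z : K) : H) * g₀)⁻¹ ∈ Z := hx
        have h2 : x⁻¹ * ((z : K) : H) * x ∈ Z := by
          have := hZn.conj_mem _ hzZ x⁻¹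
          rwa [inv_inv] at this
        have h3 := Z.mul_mem (Z.mul_mem (Z.inv_mem h2) h1) hzZ
        have e1 : (x⁻¹ * ((z : K) : H) * x)⁻¹ *
            (x⁻¹ * (((z : K) : H) * g₀) * x * (((z : K) : H) * g₀)⁻¹) * ((z : K) : H) =
            x⁻¹ * g₀ * x * g₀⁻¹ := by group
        rw [e1] at h3
        exact h3
    have hsum := gc_coset_orth_self (Z.subgroupOf K) hab (⟨g₀, hg₀K⟩ : K) τ.character hT hTM
    simp only [hzero, zero_mul, Finset.sum_const_zero] at hsum
    have : (Nat.card (Z.subgroupOf K) : ℂ) ≠ 0 := by exact_mod_cast Nat.card_pos.ne'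
    exact this hsum.symm

end Cfsg.Agent.S4565
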