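import Cfsg.Statements.S4742
import Cfsg.Agent.Lib.Helper25.CharClassProd

set_option autoImplicit false
set_option linter.deprecated false
open Cfsg

namespace Cfsg.Agent.S4742
open scoped ComplexConjugate

open Cfsg.Agent.Lib.Helper25 in
/-- Let p ≠ q be primes dividing the order of the finite group G, and suppose the centralizer of every non-identity p-element of G has order prime to q. Then either G has an irreducible character of p-defect zero, or for every non-identity q-element z of G there are conjugates g, h of z such that g h⁻¹ is a non-identity p-element. -/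
theorem result {G : Type*} [Group G] [Finite G] (p q : ℕ) [Fact p.Prime] [Fact q.Prime] (hppq : p ≠ q) (hpG : p ∣ Nat.card G) (hqG : q ∣ Nat.card G) (hC : ∀ g : G, g ≠ 1 → (∃ k : ℕ, orderOf g = p ^ k) → ¬ q ∣ Nat.card ↥(Subgroup.centralizer ({g} : Set G))) : (∃ χ : Cfsg.IrrCharacter G, (Cfsg.charDegree (χ : G → ℂ)).factorization p = (Nat.card G).factorization p) ∨ ∀ z : G, z ≠ 1 → (∃ k : ℕ, orderOf z = q ^ k) → ∃ g h : G, IsConj z g ∧ IsConj z h ∧ g * h⁻¹ ≠ 1 ∧ ∃ k : ℕ, orderOf (g * h⁻¹) = p ^ k := by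
  classical
  haveI := Fintype.ofFinite G
  haveI := Fintype.ofFinite (Cfsg.IrrCharacter G)
  have hpp : p.Prime := Fact.out
  have hqp : q.Prime := Fact.out
  by_contra hcon
  push Not at hcon
  obtain ⟨hdef, z, hz1, ⟨j, hzj⟩, hz⟩ := hcon
  obtain ⟨P⟩ : Nonempty (Sylow p G) := inferInstance
  haveI : Fintype (P : Subgroup G) := Fintype.ofFinite _
  set n := (Nat.card G).factorization p with hn
  have hPcard : Nat.card (P : Subgroup G) = p ^ n := P.card_eq_multiplicity
  have hno : ∀ u ∈ (P : Subgroup G), u ≠ 1 →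
      ∀ a b : G, ¬ IsConj u (a * z * a⁻¹ * (b * z⁻¹ * b⁻¹)) := by
    intro u huP hu1 a b hc
    obtain ⟨t, ht⟩ := isConj_iff.1 hc
    have hw : a * z * a⁻¹ * (b * z⁻¹ * b⁻¹) = (a * z * a⁻¹) * (b * z * b⁻¹)⁻¹ := by group
    have hw1 : (a * z * a⁻¹) * (b * z * b⁻¹)⁻¹ ≠ 1 := by
      rw [← hw, ← ht]
      intro h
      apply hu1
      have : u = t⁻¹ * (t * u * t⁻¹) * t := by group
      rw [this, h]
      group
    have hord : ∃ k : ℕ, orderOf ((a * z * a⁻¹) * (b * z * b⁻¹)⁻¹) = p ^ k := by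
      obtain ⟨k, hk⟩ := (IsPGroup.iff_orderOf.1 P.isPGroup') ⟨u, huP⟩
      refine ⟨k, ?_⟩
      rw [← hw, ← ht]
      have h1 : orderOf (t * u * t⁻¹) = orderOf u := by
        have := MulEquiv.orderOf_eq (MulAut.conj t) u
        rwa [MulAut.conj_apply] at this
      rw [h1, ← hk, Subgroup.orderOf_mk]
    obtain ⟨k', hk'⟩ := hord
    exact hz _ _ (isConj_iff.2 ⟨a, rfl⟩) (isConj_iff.2 ⟨b, rfl⟩) hw1 k' hk'
  choose k hk using fun χ : Cfsg.IrrCharacter G => sum_subgroup_irr (P : Subgroup G) χ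
  have hform := centralizer_formula' z (P : Subgroup G) hno k hk
  set d : Cfsg.IrrCharacter G → ℕ := fun χ => Cfsg.charDegree (χ : G → ℂ) with hd
  have hd1 : ∀ χ, ((d χ : ℕ) : ℂ) = (χ : G → ℂ) 1 := fun χ => (charDegree_irr χ).1
  have hd0 : ∀ χ, 0 < d χ := fun χ => (charDegree_irr χ).2
  have hddvd : ∀ χ, d χ ∣ Nat.card G := by
    intro χ
    obtain ⟨m, hm0, hm1, hmd⟩ := Cfsg.Agent.Lib.helper2.irr_degree_dvd_card χ
    have : d χ = m := by
      have h := hd1 χ
      rw [hm1] at h
      exact_mod_cast h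
    rw [this]
    exact hmd
  have hv : ∀ χ, (d χ).factorization p + 1 ≤ n := by
    intro χ
    have h1 : (d χ).factorization p ≤ n :=
      (Nat.factorization_le_iff_dvd (hd0 χ).ne' Nat.card_pos.ne').2 (hddvd χ) p
    have h2 : (d χ).factorization p ≠ n := hdef χ
    omega
  have hdvd : p ^ 1 ∣ Nat.card (Subgroup.centralizer ({z} : Set G)) := by
    apply arith_core p hpp d k (fun χ => (χ : G → ℂ) z * conj ((χ : G → ℂ) z)) hd0 _ n 1 _ hv
    · rw [hform, hPcard]
      refine Finset.sum_congr rfl fun χ _ => ?_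
      rw [hd1]
    · intro χ
      have h1 := Cfsg.Agent.Lib.helper2.irr_integral χ z
      have h2 := Cfsg.Agent.Lib.helper2.irr_integral χ z⁻¹
      rw [irr_inv] at h2
      exact h1.mul h2
  rw [pow_one] at hdvd
  obtain ⟨u, hu⟩ := exists_prime_orderOf_dvd_card' (G := Subgroup.centralizer ({z} : Set G)) p hdvd
  have hu' : orderOf (u : G) = p := by rw [Subgroup.orderOf_coe]; exact hu
  have hu1 : (u : G) ≠ 1 := by
    intro h
    rw [h, orderOf_one] at hu'
    exact hpp.ne_one hu'.symm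
  have hzu : z ∈ Subgroup.centralizer ({(u : G)} : Set G) := by
    rw [Subgroup.mem_centralizer_iff]
    intro y hy
    rw [Set.mem_singleton_iff] at hy
    subst hy
    have := Subgroup.mem_centralizer_iff.1 u.2 z (Set.mem_singleton z)
    exact this.symm
  apply hC (u : G) hu1 ⟨1, by rw [hu', pow_one]⟩
  have h1 : orderOf z ∣ Nat.card (Subgroup.centralizer ({(u : G)} : Set G)) := by
    have := orderOf_dvd_natCard (⟨z, hzu⟩ : Subgroup.centralizer ({(u : G)} : Set G))
    rwa [Subgroup.orderOf_mk] at this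
  have hj : j ≠ 0 := by
    rintro rfl
    rw [pow_zero] at hzj
    exact hz1 (orderOf_eq_one_iff.1 hzj)
  rw [hzj] at h1
  exact (dvd_pow_self q hj).trans h1

end Cfsg.Agent.S4742
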