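import Cfsg.Statements.S0728
import Mathlib
import Cfsg.Statements.S0728

set_option autoImplicit false
open Cfsg

namespace Cfsg.Agent.S0728

section abs
variable {G α : Type*} [Group G] [Fintype G] [DecidableEq G] [MulAction G α] [Fintype α]
  [DecidableEq α]

/-- non-identity elements of cube one -/
def R3 (G : Type*) [Group G] [Fintype G] [DecidableEq G] : Finset G :=
  Finset.univ.filter (fun g => g ≠ 1 ∧ g ^ 3 = 1)

/-- `g` rotates the triple `x` -/
def rel3 (g : G) (x : Fin 3 ↪ α) : Prop := g • x 0 = x 1 ∧ g • x 1 = x 2 ∧ g • x 2 = x 0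

instance (g : G) (x : Fin 3 ↪ α) : Decidable (rel3 g x) := by unfold rel3; infer_instance

theorem inj3 {β : Type*} (a b c : β) (hab : a ≠ b) (hac : a ≠ c) (hbc : b ≠ c) :
    Function.Injective (![a, b, c] : Fin 3 → β) := by
  intro i j hij
  fin_cases i <;> fin_cases j
  · rfl
  · exact absurd hij hab
  · exact absurd hij hac
  · exact absurd hij.symm hab
  · rfl
  · exact absurd hij hbc
  · exact absurd hij.symm hac
  · exact absurd hij.symm hbc
  · rfl

theorem fix_le_two
    (HS : ∀ (g : G) (a b c : α), a ≠ b → a ≠ c → b ≠ c → g • a = a → g • b = b → g • c = c → g = 1)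
    (g : G) (hg : g ≠ 1) : (Finset.univ.filter (fun x : α => g • x = x)).card ≤ 2 := by
  by_contra h
  push Not at h
  obtain ⟨a, b, c, ha, hb, hc, hab, hac, hbc⟩ := Finset.two_lt_card_iff.mp h
  simp only [Finset.mem_filter, Finset.mem_univ, true_and] at ha hb hc
  exact hg (HS g a b c hab hac hbc ha hb hc)

theorem pairs_count (g : G) :
    ((Finset.univ : Finset α).offDiag.filter (fun p => g • p.1 = p.1 ∧ g • p.2 = p.2)).card
      = (Finset.univ.filter (fun x : α => g • x = x)).card *
        (Finset.univ.filter (fun x : α => g • x = x)).card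
        - (Finset.univ.filter (fun x : α => g • x = x)).card := by
  rw [← Finset.offDiag_card]
  congr 1
  ext p
  simp only [Finset.mem_filter, Finset.mem_offDiag, Finset.mem_univ, true_and]
  tauto

theorem fiber_count (g : G) (hg3 : g ^ 3 = 1) :
    (Finset.univ.filter (fun x : Fin 3 ↪ α => rel3 g x)).card
      = (Finset.univ.filter (fun c : α => g • c ≠ c)).card := by
  apply Finset.card_bij (fun x _ => x 0)
  · intro x hx
    simp only [Finset.mem_filter, Finset.mem_univ, true_and] at hx ⊢
    rw [hx.1]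
    intro h
    exact absurd (x.injective h) (by decide)
  · intro x hx y hy h
    simp only [Finset.mem_filter, Finset.mem_univ, true_and] at hx hy
    have h0 : x 0 = y 0 := h
    have h1 : x 1 = y 1 := by rw [← hx.1, ← hy.1, h0]
    have h2 : x 2 = y 2 := by rw [← hx.2.1, ← hy.2.1, h1]
    ext i
    fin_cases i
    · exact h0
    · exact h1
    · exact h2
  · intro c hc
    simp only [Finset.mem_filter, Finset.mem_univ, true_and] at hc
    have h3 : g • g • g • c = c := by
      rw [← mul_smul, ← mul_smul, ← pow_two, ← pow_succ, hg3, one_smul]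
    have h01 : c ≠ g • c := fun h => hc h.symm
    have h12 : g • c ≠ g • g • c := fun h => h01 (smul_left_cancel g h)
    have h02 : c ≠ g • g • c := by
      intro h
      apply hc
      conv_rhs => rw [← h3]
      rw [← h]
    refine ⟨⟨![c, g • c, g • g • c], inj3 _ _ _ h01 h02 h12⟩, ?_, rfl⟩
    simp only [Finset.mem_filter, Finset.mem_univ, true_and]
    refine ⟨rfl, rfl, ?_⟩
    exact h3

theorem unique_rel
    (HS : ∀ (g : G) (a b c : α), a ≠ b → a ≠ c → b ≠ c → g • a = a → g • b = b → g • c = c → g = 1)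
    (x : Fin 3 ↪ α) : ((R3 G).filter (fun g => rel3 g x)).card ≤ 1 := by
  rw [Finset.card_le_one]
  intro g hg h hh
  simp only [Finset.mem_filter] at hg hh
  obtain ⟨-, g0, g1, g2⟩ := hg
  obtain ⟨-, h0, h1, h2⟩ := hh
  have h01 : x 0 ≠ x 1 := fun h => absurd (x.injective h) (by decide)
  have h02 : x 0 ≠ x 2 := fun h => absurd (x.injective h) (by decide)
  have h12 : x 1 ≠ x 2 := fun h => absurd (x.injective h) (by decide)
  have : h⁻¹ * g = 1 := by
    apply HS _ (x 0) (x 1) (x 2) h01 h02 h12
    · rw [mul_smul, g0, inv_smul_eq_iff, h0]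
    · rw [mul_smul, g1, inv_smul_eq_iff, h1]
    · rw [mul_smul, g2, inv_smul_eq_iff, h2]
  rw [inv_mul_eq_one] at this
  exact this.symm

/-- order 3 elements fixing c and d -/
def M3 (G : Type*) {α : Type*} [Group G] [Fintype G] [DecidableEq G] [MulAction G α]
    [DecidableEq α] (c d : α) : Finset G :=
  (R3 G).filter (fun g => g • c = c ∧ g • d = d)

theorem conj_le (h : G) (a b c d : α) (hc : h • a = c) (hd : h • b = d) :
    (M3 G a b).card ≤ (M3 G c d).card := by
  apply Finset.card_le_card_of_injOn (fun g => h * g * h⁻¹)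
  · intro g hg
    simp only [M3, R3, Finset.coe_filter, Finset.mem_filter, Finset.mem_univ, true_and,
      Set.mem_ofPred_eq] at hg ⊢
    obtain ⟨⟨h1, h3⟩, ha, hb⟩ := hg
    refine ⟨⟨?_, ?_⟩, ?_, ?_⟩
    · intro hh
      apply h1
      have := congrArg (fun t => h⁻¹ * t * h) hh
      simpa [mul_assoc] using this
    · rw [conj_pow, h3, mul_one, mul_inv_cancel]
    · rw [← hc, mul_smul, mul_smul, inv_smul_smul, ha]
    · rw [← hd, mul_smul, mul_smul, inv_smul_smul, hb]
  · intro g _ g' _ hgg
    simpa using hgg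

theorem m_le_two
    (HS : ∀ (g : G) (a b c : α), a ≠ b → a ≠ c → b ≠ c → g • a = a → g • b = b → g • c = c → g = 1)
    (H2T : ∀ a b c d : α, a ≠ b → c ≠ d → ∃ h : G, h • a = c ∧ h • b = d)
    (hn : 3 ≤ Fintype.card α) (a b : α) (hab : a ≠ b) : (M3 G a b).card ≤ 2 := by
  set n := Fintype.card α with hn_def
  set m := (M3 G a b).card with hm
  set P := (Finset.univ : Finset α).offDiag with hP
  -- lower bound
  have hlow : P.card * m ≤ ∑ p ∈ P, (M3 G p.1 p.2).card := by
    rw [← smul_eq_mul, ← Finset.sum_const]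
    apply Finset.sum_le_sum
    intro p hp
    rw [hP, Finset.mem_offDiag] at hp
    obtain ⟨h, h1, h2⟩ := H2T a b p.1 p.2 hab hp.2.2
    exact conj_le h a b p.1 p.2 h1 h2
  -- swap
  have hswap : ∑ p ∈ P, (M3 G p.1 p.2).card
      = ∑ g ∈ R3 G, (P.filter (fun p => g • p.1 = p.1 ∧ g • p.2 = p.2)).card := by
    simp only [M3, Finset.card_filter]
    rw [Finset.sum_comm]
  have hswap2 : ∑ g ∈ R3 G, (Finset.univ.filter (fun x : Fin 3 ↪ α => rel3 g x)).card
      = ∑ x : Fin 3 ↪ α, ((R3 G).filter (fun g => rel3 g x)).card := by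
    simp only [Finset.card_filter]
    rw [Finset.sum_comm]
  have hT : ∑ x : Fin 3 ↪ α, ((R3 G).filter (fun g => rel3 g x)).card ≤ n * (n - 1) * (n - 2) := by
    calc ∑ x : Fin 3 ↪ α, ((R3 G).filter (fun g => rel3 g x)).card
        ≤ ∑ x : Fin 3 ↪ α, 1 := Finset.sum_le_sum (fun x _ => unique_rel HS x)
      _ = Fintype.card (Fin 3 ↪ α) := by simp
      _ = n * (n - 1) * (n - 2) := by
          rw [Fintype.card_embedding_eq, Fintype.card_fin]
          simp [Nat.descFactorial, ← hn_def]
          ring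
  have hterm : ∀ g ∈ R3 G,
      (P.filter (fun p => g • p.1 = p.1 ∧ g • p.2 = p.2)).card * (n - 2)
        ≤ 2 * (Finset.univ.filter (fun x : Fin 3 ↪ α => rel3 g x)).card := by
    intro g hg
    simp only [R3, Finset.mem_filter, Finset.mem_univ, true_and] at hg
    rw [hP, pairs_count g, fiber_count g hg.2]
    have hf := fix_le_two HS g hg.1
    have hsum : (Finset.univ.filter (fun x : α => g • x = x)).card
        + (Finset.univ.filter (fun c : α => g • c ≠ c)).card = n := by
      rw [Finset.card_filter_add_card_filter_not, Finset.card_univ]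
    generalize (Finset.univ.filter (fun x : α => g • x = x)).card = f at hf hsum
    generalize (Finset.univ.filter (fun c : α => g • c ≠ c)).card = e at hsum
    interval_cases f
    · simp
    · simp
    · have : e = n - 2 := by omega
      rw [this]
  have hP_card : P.card = n * n - n := by
    rw [hP, Finset.offDiag_card, Finset.card_univ]
  have key : (n * n - n) * m * (n - 2) ≤ 2 * (n * (n - 1) * (n - 2)) := by
    calc (n * n - n) * m * (n - 2) ≤ (∑ p ∈ P, (M3 G p.1 p.2).card) * (n - 2) := by
          rw [← hP_card]; exact Nat.mul_le_mul_right _ hlow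
      _ = ∑ g ∈ R3 G, (P.filter (fun p => g • p.1 = p.1 ∧ g • p.2 = p.2)).card * (n - 2) := by
          rw [hswap, Finset.sum_mul]
      _ ≤ ∑ g ∈ R3 G, 2 * (Finset.univ.filter (fun x : Fin 3 ↪ α => rel3 g x)).card :=
          Finset.sum_le_sum hterm
      _ = 2 * ∑ x : Fin 3 ↪ α, ((R3 G).filter (fun g => rel3 g x)).card := by
          rw [← Finset.mul_sum, hswap2]
      _ ≤ 2 * (n * (n - 1) * (n - 2)) := Nat.mul_le_mul_left _ hT
  have hnn : n * n - n = n * (n - 1) := by
    rw [Nat.mul_sub, mul_one]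
  rw [hnn] at key
  have hK : 0 < n * (n - 1) * (n - 2) := by
    have h1 : 0 < n := by omega
    have h2 : 0 < n - 1 := by omega
    have h3 : 0 < n - 2 := by omega
    positivity
  have : m * (n * (n - 1) * (n - 2)) ≤ 2 * (n * (n - 1) * (n - 2)) := by
    calc m * (n * (n - 1) * (n - 2)) = n * (n - 1) * m * (n - 2) := by ring
      _ ≤ _ := key
  exact Nat.le_of_mul_le_mul_right this hK

end abs

theorem four_le {G : Type*} [Group G] [Finite G] (A B : Subgroup G) (hA3 : Nat.card A = 3)
    (hB3 : Nat.card B = 3) (hne : A ≠ B) (S : Set G)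
    (hS : ∀ g, g ≠ 1 → (g ∈ A ∨ g ∈ B) → g ∈ S) : 4 ≤ S.ncard := by
  have hAB : Nat.card ↥(A ⊓ B) = 1 := by
    have hdvd : Nat.card ↥(A ⊓ B) ∣ 3 := hA3 ▸ Subgroup.card_dvd_of_le inf_le_left
    rcases (Nat.dvd_prime Nat.prime_three).mp hdvd with h | h
    · exact h
    · exfalso
      have h1 : A ⊓ B = A := Subgroup.eq_of_le_of_card_ge inf_le_left (by rw [h, hA3])
      have h2 : A ⊓ B = B := Subgroup.eq_of_le_of_card_ge inf_le_right (by rw [h, hB3])
      exact hne (h1.symm.trans h2)
  have hcA : (A : Set G).ncard = 3 := by rw [← hA3]; rfl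
  have hcB : (B : Set G).ncard = 3 := by rw [← hB3]; rfl
  have hunion : ((A : Set G) ∪ B).ncard + ((A : Set G) ∩ B).ncard = 6 := by
    rw [Set.ncard_union_add_ncard_inter, hcA, hcB]
  have hinter : ((A : Set G) ∩ B).ncard = 1 := by
    rw [← Subgroup.coe_inf, ← hAB]; rfl
  have hsub : (A : Set G) ∪ B ⊆ insert 1 S := by
    intro g hg
    by_cases h1 : g = 1
    · exact Or.inl h1
    · exact Or.inr (hS g h1 hg)
  have h1 := Set.ncard_le_ncard hsub (Set.toFinite _)
  have h2 := Set.ncard_insert_le 1 S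
  omega

theorem main {α : Type*} [Fintype α] [DecidableEq α] (heven : Even (Fintype.card α)) (h6 : 6 ≤ Fintype.card α) (G : Subgroup (Equiv.Perm α)) (h3 : MulAction.IsMultiplyPretransitive G α 3) (hsharp : ∀ x : Fin 3 ↪ α, MulAction.stabilizer G x = ⊥) {a b : α} (hab : a ≠ b) (A B : Subgroup G) (hA : A ≤ MulAction.stabilizer G a ⊓ MulAction.stabilizer G b) (hB : B ≤ MulAction.stabilizer G a ⊓ MulAction.stabilizer G b) (hA3 : Nat.card A = 3) (hB3 : Nat.card B = 3) : A = B := by
  classical
  haveI : Fintype G := Fintype.ofFinite G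
  have HS : ∀ (g : G) (a b c : α), a ≠ b → a ≠ c → b ≠ c → g • a = a → g • b = b → g • c = c →
      g = 1 := by
    intro g a b c hab hac hbc ha hb hc
    let x : Fin 3 ↪ α := ⟨![a, b, c], inj3 a b c hab hac hbc⟩
    have : g ∈ MulAction.stabilizer G x := by
      rw [MulAction.mem_stabilizer_iff]
      ext i
      fin_cases i
      · exact ha
      · exact hb
      · exact hc
    rw [hsharp x] at this
    exact Subgroup.mem_bot.mp this
  have H3T : ∀ a b c a' b' c' : α, a ≠ b → a ≠ c → b ≠ c → a' ≠ b' → a' ≠ c' → b' ≠ c' →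
      ∃ g : G, g • a = a' ∧ g • b = b' ∧ g • c = c' := by
    intro a b c a' b' c' hab hac hbc hab' hac' hbc'
    let x : Fin 3 ↪ α := ⟨![a, b, c], inj3 a b c hab hac hbc⟩
    let y : Fin 3 ↪ α := ⟨![a', b', c'], inj3 a' b' c' hab' hac' hbc'⟩
    obtain ⟨g, hg⟩ := MulAction.exists_smul_eq G x y
    refine ⟨g, ?_, ?_, ?_⟩
    · have := congrArg (fun f : Fin 3 ↪ α => f 0) hg
      exact this
    · have := congrArg (fun f : Fin 3 ↪ α => f 1) hg
      exact this
    · have := congrArg (fun f : Fin 3 ↪ α => f 2) hg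
      exact this
  have hthird : ∀ a b : α, ∃ c, a ≠ c ∧ b ≠ c := by
    intro a b
    by_contra h
    push Not at h
    have : (Finset.univ : Finset α) ⊆ {a, b} := by
      intro c _
      by_cases hac : a = c
      · simp [hac]
      · have := h c hac
        simp [this]
    have := Finset.card_le_card this
    have h2 : ({a, b} : Finset α).card ≤ 2 := Finset.card_le_two
    rw [Finset.card_univ] at this
    omega
  have H2T : ∀ a b c d : α, a ≠ b → c ≠ d → ∃ h : G, h • a = c ∧ h • b = d := by
    intro a b c d hab hcd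
    obtain ⟨e, hae, hbe⟩ := hthird a b
    obtain ⟨f, hcf, hdf⟩ := hthird c d
    obtain ⟨g, h1, h2, -⟩ := H3T a b e c d f hab hae hbe hcd hcf hdf
    exact ⟨g, h1, h2⟩
  have hm := m_le_two HS H2T (by omega) a b hab
  by_contra hne
  have h4 := four_le A B hA3 hB3 hne (↑(M3 G a b)) (by
    intro g hg1 hg
    have key : ∀ C : Subgroup G, C ≤ MulAction.stabilizer G a ⊓ MulAction.stabilizer G b →
        Nat.card C = 3 → g ∈ C → g ∈ M3 G a b := by
      intro C hC hC3 hgC
      have hstab := hC hgC
      rw [Subgroup.mem_inf, MulAction.mem_stabilizer_iff, MulAction.mem_stabilizer_iff] at hstab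
      simp only [M3, R3, Finset.mem_filter, Finset.mem_univ, true_and]
      refine ⟨⟨hg1, ?_⟩, hstab.1, hstab.2⟩
      have := pow_card_eq_one' (G := C) (x := ⟨g, hgC⟩)
      rw [hC3] at this
      exact congrArg Subtype.val this
    rcases hg with hg | hg
    · exact key A hA hA3 hg
    · exact key B hB hB3 hg)
  rw [Set.ncard_coe_finset] at h4
  omega


/-- In a sharply triply transitive group of even degree at least 6 (degree `q + 1`, `q` odd), a two-point stabiliser has at most one subgroup of order 3. -/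
theorem result {α : Type*} [Fintype α] [DecidableEq α] (heven : Even (Fintype.card α)) (h6 : 6 ≤ Fintype.card α) (G : Subgroup (Equiv.Perm α)) (h3 : MulAction.IsMultiplyPretransitive G α 3) (hsharp : ∀ x : Fin 3 ↪ α, MulAction.stabilizer G x = ⊥) {a b : α} (hab : a ≠ b) (A B : Subgroup G) (hA : A ≤ MulAction.stabilizer G a ⊓ MulAction.stabilizer G b) (hB : B ≤ MulAction.stabilizer G a ⊓ MulAction.stabilizer G b) (hA3 : Nat.card A = 3) (hB3 : Nat.card B = 3) : A = B := by
  exact main heven h6 G h3 hsharp hab A B hA hB hA3 hB3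

end Cfsg.Agent.S0728
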