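import Cfsg.Statements.S0344
import Mathlib
import Cfsg.Agent.S0741
import Cfsg.Agent.S0742
import Cfsg.Agent.Lib.helper6.Sharp3
import Cfsg.Agent.Lib.helper6.SZg
import Cfsg.Agent.Lib.helper6.SZh

set_option autoImplicit false
open Cfsg

namespace Cfsg.Agent.S0344

/-- A finite simple Zassenhaus group with a two-point stabiliser of even order is isomorphic to `PSL₂(F)` for a finite
field `F` with more than three elements. -/
theorem result {G Ω : Type*} [Group G] [Finite G] [MulAction G Ω] [Finite Ω]
    (hZ : Cfsg.IsZassenhausGroup G Ω) [IsSimpleGroup G]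
    {a b : Ω} (hab : a ≠ b) (heven : Even (Nat.card ↥(MulAction.stabilizer G a ⊓ MulAction.stabilizer G b))) :
    ∃ (F : Type) (_ : Field F) (_ : Fintype F), 3 < Fintype.card F ∧ Nonempty (G ≃* Matrix.ProjectiveSpecialLinearGroup (Fin 2) F) := by
  classical
  letI : Fintype Ω := Fintype.ofFinite Ω
  have D := Cfsg.Agent.Lib.helper6.ZassNormal.ZData.of_zass hZ
  haveI := D.faithful
  have h741 := Cfsg.Agent.S0741.result hZ hab heven
  have hdpos : 0 < Nat.card ↥(MulAction.stabilizer G a ⊓ MulAction.stabilizer G b) := Nat.card_pos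
  by_cases hle : 2 * Nat.card ↥(MulAction.stabilizer G a ⊓ MulAction.stabilizer G b) ≤
      Fintype.card Ω - 2
  · obtain ⟨p, f, K, iK, iKf, hp, hp2, hK, hΩ, hiso⟩ := Cfsg.Agent.S0742.result hZ hab heven hle
    refine ⟨K, iK, iKf, ?_, hiso⟩
    by_contra hK3
    push Not at hK3
    rw [hK] at hK3
    obtain ⟨m, hm⟩ := heven
    omega
  · exfalso
    push Not at hle
    haveI : Fact (Nat.Prime 2) := ⟨Nat.prime_two⟩
    obtain ⟨jH, hjH⟩ := exists_prime_orderOf_dvd_card' 2 heven.two_dvd
    have hj1 : (jH : G) ≠ 1 := by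
      intro h
      have : jH = 1 := Subtype.ext h
      rw [this, orderOf_one] at hjH
      omega
    have hjmem := jH.2
    rw [Subgroup.mem_inf, MulAction.mem_stabilizer_iff, MulAction.mem_stabilizer_iff] at hjmem
    obtain ⟨c, hca, hcb⟩ := Cfsg.Agent.Lib.helper6.ZassNormal.exists_third hj1 hjmem.1 hjmem.2
    have h3pt : 3 ≤ Fintype.card Ω := by
      rw [← Finset.card_univ]
      have : ({a, b, c} : Finset Ω).card = 3 := by
        rw [Finset.card_insert_of_notMem, Finset.card_pair (Ne.symm hcb)]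
        simp only [Finset.mem_insert, Finset.mem_singleton, not_or]
        exact ⟨hab, Ne.symm hca⟩
      rw [← this]
      exact Finset.card_le_card (Finset.subset_univ _)
    have T3 := Cfsg.Agent.Lib.helper6.SZh.three_trans_of_big hZ hab hle h3pt
    obtain ⟨KG, k1, k2, k3, k4, k5⟩ :=
      Cfsg.Agent.Lib.helper6.Sharp3.kernel_data3 (G := G) (α := Ω) T3 D.three (Ne.symm hcb) hab
        (Ne.symm hca)
    have C : Cfsg.Agent.Lib.helper6.Sharp3F.Ctx G Ω a b c KG :=
      ⟨T3, D.three, Ne.symm hcb, hab, Ne.symm hca, k1, k2, k3, k4, k5⟩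
    have hcH := C.card_H
    have hevenΩ : Even (Fintype.card Ω) := by
      rw [← hcH]
      exact heven.add even_two
    obtain ⟨N, hNn, hN2⟩ := Cfsg.Agent.Lib.helper6.SZg.exists_index_two C hevenΩ
    rcases hNn.eq_bot_or_eq_top with h | h
    · rw [h, Subgroup.index_bot] at hN2
      obtain ⟨g, hga, -⟩ := D.two hab (Ne.symm hab)
      have hle2 : Nat.card ↥(MulAction.stabilizer G a ⊓ MulAction.stabilizer G b) ≤ Nat.card G :=
        Subgroup.card_le_card_group _
      obtain ⟨m, hm⟩ := heven
      have htop : (MulAction.stabilizer G a ⊓ MulAction.stabilizer G b : Subgroup G) = ⊤ :=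
        Subgroup.eq_top_of_card_eq _ (by omega)
      have hg : g ∈ (MulAction.stabilizer G a ⊓ MulAction.stabilizer G b : Subgroup G) := by
        rw [htop]; trivial
      rw [Subgroup.mem_inf, MulAction.mem_stabilizer_iff] at hg
      exact hab (hg.1.symm.trans hga)
    · rw [h, Subgroup.index_top] at hN2
      omega

end Cfsg.Agent.S0344
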