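import Cfsg.Statements.S0347
import Cfsg.Agent.Lib.helper6.SuzMainE

set_option autoImplicit false
open Cfsg

namespace Cfsg.Agent.S0347

/-- If in a finite simple Zassenhaus group the stabiliser of a point `x` has a normal `2`-subgroup `U` which is
non-abelian and acts regularly on the points other than `x`, then the group is simple of Suzuki order (order-level
predicate `IsSuzuki`). -/
theorem result {G Ω : Type*} [Group G] [Finite G] [MulAction G Ω] [Finite Ω]
    (hZ : Cfsg.IsZassenhausGroup G Ω) [IsSimpleGroup G]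
    (x : Ω) (U : Subgroup G) (hUle : U ≤ MulAction.stabilizer G x) (hUn : (U.subgroupOf (MulAction.stabilizer G x)).Normal)
    (hU2 : IsPGroup 2 U) (hUna : ∃ u v : U, u * v ≠ v * u)
    (hreg : ∀ y z : Ω, y ≠ x → z ≠ x → ∃! u : U, (u : G) • y = z) :
    Cfsg.IsSuzuki G := by
  classical
  haveI : Fintype Ω := Fintype.ofFinite Ω
  obtain ⟨g, hg1, a', b', hab', -, -⟩ := hZ.2.2.2.1
  obtain ⟨b, hb⟩ : ∃ b : Ω, x ≠ b := by
    by_cases h : x = a'
    · exact ⟨b', by rw [h]; exact hab'⟩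
    · exact ⟨a', h⟩
  obtain ⟨r, hrodd, hr1, hq, hcard, -, -, -⟩ :=
    Cfsg.Agent.Lib.helper6.SuzGrp.suz_main hZ hb U hUle hreg hU2 hUna
  have hH := Cfsg.Agent.Lib.helper6.SuzGrp.setup_card hb U hUle hreg
  have hG := Cfsg.Agent.Lib.helper6.ZassClass.card_G hZ.2.1 hb
  obtain ⟨m, hm⟩ := hrodd
  refine ⟨inferInstance, m, by omega, ?_⟩
  rw [hG, ← hH, hcard, Nat.add_sub_cancel, ← hm]
  have he : Nat.card ↥(MulAction.stabilizer G x ⊓ MulAction.stabilizer G b) = 2 ^ r - 1 := by
    omega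
  rw [he]
  ring

end Cfsg.Agent.S0347
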