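import Cfsg.Statements.S0738
import Mathlib
import Cfsg.Statements.S0738
import Cfsg.Agent.Lib.helper6.OrbitTools

set_option autoImplicit false
open Cfsg

namespace Cfsg.Agent.S0738
open Cfsg MulAction

section abstract
variable {G : Type*} [Group G]

/-- conjugation action of a subgroup on the group -/
@[reducible] def conjAct (H : Subgroup G) : MulAction H G where
  smul h g := (h : G) * g * (h : G)⁻¹
  one_smul g := by
    show ((1 : H) : G) * g * ((1 : H) : G)⁻¹ = g
    simp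
  mul_smul h k g := by
    show ((h * k : H) : G) * g * ((h * k : H) : G)⁻¹ = (h : G) * ((k : G) * g * (k : G)⁻¹) * (h : G)⁻¹
    simp [mul_assoc]

theorem conjAct_smul (H : Subgroup G) (h : H) (g : G) :
    letI := conjAct H
    h • g = (h : G) * g * (h : G)⁻¹ := rfl

variable [Finite G] (H F : Subgroup G)

theorem orbit_ncard
    (hFr : ∀ h ∈ H, ∀ u ∈ F, u ≠ 1 → h * u * h⁻¹ = u → h = 1) (x : G) (hx : x ∈ F) (hx1 : x ≠ 1) :
    letI := conjAct H
    (orbit H x).ncard = Nat.card H := by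
  letI := conjAct H
  have h1 := Cfsg.Agent.Lib.helper6.ncard_orbit_mul_card_stabilizer (Q := H) x
  have h2 : stabilizer H x = ⊥ := by
    rw [eq_bot_iff]
    intro h hh
    rw [mem_stabilizer_iff] at hh
    rw [Subgroup.mem_bot]
    exact Subtype.ext (hFr h h.2 x hx hx1 hh)
  rw [h2, Subgroup.card_bot, mul_one] at h1
  exact h1

theorem dvd_card_sub_one
    (hFr : ∀ h ∈ H, ∀ u ∈ F, u ≠ 1 → h * u * h⁻¹ = u → h = 1)
    (M : Subgroup G) (hMF : M ≤ F) (hMinv : ∀ h ∈ H, ∀ m ∈ M, h * m * h⁻¹ ∈ M) :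
    Nat.card H ∣ Nat.card M - 1 := by
  letI := conjAct H
  have h1 : ((M : Set G) \ {1}).ncard = Nat.card M - 1 := by
    rw [Set.ncard_diff_singleton_of_mem M.one_mem]
    rfl
  rw [← h1]
  apply Cfsg.Agent.Lib.helper6.dvd_ncard_of_invariant (Q := H) (Nat.card H) _ ((M : Set G) \ {1})
    (Set.toFinite _) rfl
  · intro q x hx
    refine ⟨hMinv q q.2 x hx.1, ?_⟩
    intro h
    apply hx.2
    rw [Set.mem_singleton_iff] at h ⊢
    have h' : (q : G) * x * (q : G)⁻¹ = 1 := h
    have : x = (q : G)⁻¹ * ((q : G) * x * (q : G)⁻¹) * (q : G) := by group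
    rw [this, h']; group
  · intro x hx
    exact orbit_ncard H F hFr x (hMF hx.1) (fun h => hx.2 (Set.mem_singleton_iff.mpr h))

theorem irred
    (hFr : ∀ h ∈ H, ∀ u ∈ F, u ≠ 1 → h * u * h⁻¹ = u → h = 1)
    (hC : Nat.card F - 1 ≤ 2 * Nat.card H)
    (M : Subgroup G) (hMF : M ≤ F) (hMinv : ∀ h ∈ H, ∀ m ∈ M, h * m * h⁻¹ ∈ M) (hM : M ≠ ⊥) :
    M = F := by
  have h1 := dvd_card_sub_one H F hFr M hMF hMinv
  have h2 : Nat.card M ∣ Nat.card F := Subgroup.card_dvd_of_le hMF
  have h3 : 1 < Nat.card M := by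
    rw [Subgroup.one_lt_card_iff_ne_bot]; exact hM
  have h4 : Nat.card H ≤ Nat.card M - 1 := Nat.le_of_dvd (by omega) h1
  apply Subgroup.eq_of_le_of_card_ge hMF
  by_contra hlt
  push Not at hlt
  obtain ⟨j, hj⟩ := h2
  have hj2 : 2 ≤ j := by
    by_contra hj'
    push Not at hj'
    interval_cases j
    · rw [mul_zero] at hj
      have := Nat.card_pos (α := F)
      omega
    · omega
  have : 2 * Nat.card M ≤ Nat.card F := by
    rw [hj]; nlinarith
  omega

theorem abelian_of_even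
    (hN : ∀ h ∈ H, ∀ u ∈ F, h * u * h⁻¹ ∈ F)
    (hFr : ∀ h ∈ H, ∀ u ∈ F, u ≠ 1 → h * u * h⁻¹ = u → h = 1)
    (heven : Even (Nat.card H)) : ∀ x ∈ F, ∀ y ∈ F, x * y = y * x := by
  haveI : Fact (Nat.Prime 2) := ⟨Nat.prime_two⟩
  obtain ⟨t', ht'⟩ := exists_prime_orderOf_dvd_card' (G := ↥H) 2 (even_iff_two_dvd.mp heven)
  have ht2' : t' * t' = 1 := by
    have := pow_orderOf_eq_one t'
    rw [ht', pow_two] at this
    exact this
  have ht1' : t' ≠ 1 := by
    intro h
    rw [h, orderOf_one] at ht'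
    omega
  set t : G := (t' : G) with htdef
  have htH : t ∈ H := t'.2
  have ht2 : t * t = 1 := by
    have := congrArg Subtype.val ht2'
    simpa using this
  have ht1 : t ≠ 1 := fun h => ht1' (Subtype.ext h)
  have htinv : t⁻¹ = t := inv_eq_of_mul_eq_one_left ht2
  -- the map ψ
  let ψ : ↥F → ↥F := fun x => ⟨(x : G)⁻¹ * (t * x * t⁻¹), F.mul_mem (F.inv_mem x.2) (hN t htH x x.2)⟩
  have hψinj : Function.Injective ψ := by
    intro x y hxy
    have h1 : (x : G)⁻¹ * (t * x * t⁻¹) = (y : G)⁻¹ * (t * y * t⁻¹) := congrArg Subtype.val hxy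
    have h2 : t * ((y : G) * (x : G)⁻¹) * t⁻¹ = (y : G) * (x : G)⁻¹ := by
      calc t * ((y : G) * (x : G)⁻¹) * t⁻¹
          = ((y : G) * ((y : G)⁻¹ * (t * y * t⁻¹))) * (t * x * t⁻¹)⁻¹ := by group
        _ = ((y : G) * ((x : G)⁻¹ * (t * x * t⁻¹))) * (t * x * t⁻¹)⁻¹ := by rw [← h1]
        _ = (y : G) * (x : G)⁻¹ := by group
    by_contra hne
    have hw : (y : G) * (x : G)⁻¹ ≠ 1 := by
      intro h
      apply hne
      apply Subtype.ext
      rw [mul_inv_eq_one] at h
      exact h.symm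
    exact ht1 (hFr t htH _ (F.mul_mem y.2 (F.inv_mem x.2)) hw h2)
  have hψsurj : Function.Surjective ψ := Finite.injective_iff_surjective.mp hψinj
  have hinv : ∀ z ∈ F, t * z * t⁻¹ = z⁻¹ := by
    intro z hz
    obtain ⟨x, hx⟩ := hψsurj ⟨z, hz⟩
    have hz' : z = (x : G)⁻¹ * (t * x * t⁻¹) := (congrArg Subtype.val hx).symm
    rw [hz']
    calc t * ((x : G)⁻¹ * (t * x * t⁻¹)) * t⁻¹
        = (t * (x : G)⁻¹ * t⁻¹) * ((t * t) * x * (t * t)⁻¹) := by group
      _ = (t * (x : G)⁻¹ * t⁻¹) * x := by rw [ht2]; group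
      _ = ((x : G)⁻¹ * (t * x * t⁻¹))⁻¹ := by group
  intro y hy z hz
  have e1 := hinv (y * z) (F.mul_mem hy hz)
  have e2 : t * (y * z) * t⁻¹ = (t * y * t⁻¹) * (t * z * t⁻¹) := by group
  rw [e2, hinv y hy, hinv z hz, mul_inv_rev] at e1
  have := congrArg (fun g => g⁻¹) e1
  simp only [mul_inv_rev, inv_inv] at this
  exact this.symm

theorem orderOf_conj' (h x : G) : orderOf (h * x * h⁻¹) = orderOf x := by
  have := MulEquiv.orderOf_eq (MulAut.conj h) x
  rwa [MulAut.conj_apply] at this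

theorem same_order
    (hN : ∀ h ∈ H, ∀ u ∈ F, h * u * h⁻¹ ∈ F)
    (hFr : ∀ h ∈ H, ∀ u ∈ F, u ≠ 1 → h * u * h⁻¹ = u → h = 1)
    (hC : Nat.card F - 1 ≤ 2 * Nat.card H)
    (hodd : Odd (Nat.card H)) (x : G) (hx : x ∈ F) (hx1 : x ≠ 1) (y : G) (hy : y ∈ F) (hy1 : y ≠ 1) :
    orderOf y = orderOf x := by
  letI := conjAct H
  have hXn : ((F : Set G) \ {1}).ncard = Nat.card F - 1 := by
    rw [Set.ncard_diff_singleton_of_mem F.one_mem]
    rfl
  have horb_sub : ∀ z ∈ F, z ≠ 1 → orbit H z ⊆ (F : Set G) \ {1} := by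
    intro z hz hz1 w hw
    obtain ⟨h, rfl⟩ := hw
    refine ⟨hN h h.2 z hz, ?_⟩
    intro h1
    rw [Set.mem_singleton_iff] at h1
    apply hz1
    have h' : (h : G) * z * (h : G)⁻¹ = 1 := h1
    have : z = (h : G)⁻¹ * ((h : G) * z * (h : G)⁻¹) * (h : G) := by group
    rw [this, h']; group
  have hyX : y ∈ (F : Set G) \ {1} := ⟨hy, fun h => hy1 (Set.mem_singleton_iff.mp h)⟩
  have hord : ∀ z : G, y ∈ orbit H z → orderOf y = orderOf z := by
    intro z hz
    obtain ⟨h, rfl⟩ := hz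
    exact orderOf_conj' (h : G) z
  have hcardpos : 1 < Nat.card F := by
    rw [Subgroup.one_lt_card_iff_ne_bot]
    intro h
    rw [h, Subgroup.mem_bot] at hx
    exact hx1 hx
  by_cases hcase : x⁻¹ ∈ orbit H x
  · -- case (i)
    obtain ⟨h, hh⟩ := hcase
    have hh' : (h : G) * x * (h : G)⁻¹ = x⁻¹ := hh
    have h2 : ((h : G) * (h : G)) * x * ((h : G) * (h : G))⁻¹ = x := by
      calc ((h : G) * (h : G)) * x * ((h : G) * (h : G))⁻¹
          = (h : G) * ((h : G) * x * (h : G)⁻¹) * (h : G)⁻¹ := by group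
        _ = (h : G) * x⁻¹ * (h : G)⁻¹ := by rw [hh']
        _ = ((h : G) * x * (h : G)⁻¹)⁻¹ := by group
        _ = x := by rw [hh', inv_inv]
    have h3 : (h : G) * (h : G) = 1 := hFr _ (H.mul_mem h.2 h.2) x hx hx1 h2
    have h4 : h ^ 2 = 1 := by
      apply Subtype.ext
      rw [pow_two]
      exact h3
    have h5 : orderOf h ∣ 2 := orderOf_dvd_of_pow_eq_one h4
    have h6 : orderOf h ∣ Nat.card H := orderOf_dvd_natCard h
    have h7 : orderOf h = 1 := by
      have := Nat.dvd_gcd h5 h6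
      have hg : Nat.gcd 2 (Nat.card H) = 1 := Nat.coprime_two_left.mpr hodd
      rw [hg] at this
      exact Nat.dvd_one.mp this
    have h8 : h = 1 := orderOf_eq_one_iff.mp h7
    rw [h8] at hh'
    have hxx : x * x = 1 := by
      have : x⁻¹ = x := by simpa using hh'.symm
      calc x * x = x⁻¹ * x := by rw [this]
        _ = 1 := inv_mul_cancel x
    have hox : orderOf x = 2 := by
      apply orderOf_eq_prime
      · rw [pow_two]; exact hxx
      · exact hx1
    have h2F : 2 ∣ Nat.card F := by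
      rw [← hox]
      have := orderOf_dvd_natCard (⟨x, hx⟩ : F)
      rwa [Subgroup.orderOf_mk] at this
    have hdvd := dvd_card_sub_one H F hFr F le_rfl hN
    obtain ⟨k, hk⟩ := hdvd
    have hHpos : 0 < Nat.card H := Nat.card_pos
    have hk1 : k = 1 := by
      have hk2 : k ≤ 2 := by
        by_contra hcon
        push Not at hcon
        have : 3 * Nat.card H ≤ Nat.card H * k := by nlinarith
        omega
      interval_cases k
      · omega
      · rfl
      · exfalso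
        obtain ⟨j, hj⟩ := h2F
        omega
    rw [hk1, mul_one] at hk
    have heq : orbit H x = (F : Set G) \ {1} := by
      apply Set.eq_of_subset_of_ncard_le (horb_sub x hx hx1) _ (Set.toFinite _)
      rw [orbit_ncard H F hFr x hx hx1, hXn, hk]
    apply hord x
    rw [heq]; exact hyX
  · -- case (ii)
    have hdisj : Disjoint (orbit H x) (orbit H x⁻¹) := by
      rcases MulAction.orbit.eq_or_disjoint (G := H) x x⁻¹ with h | h
      · exfalso
        apply hcase
        rw [h]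
        exact mem_orbit_self _
      · exact h
    have hxi : x⁻¹ ∈ F := F.inv_mem hx
    have hxi1 : x⁻¹ ≠ 1 := by
      intro h
      apply hx1
      rwa [inv_eq_one] at h
    have hU : orbit H x ∪ orbit H x⁻¹ = (F : Set G) \ {1} := by
      apply Set.eq_of_subset_of_ncard_le
        (Set.union_subset (horb_sub x hx hx1) (horb_sub _ hxi hxi1)) _ (Set.toFinite _)
      rw [Set.ncard_union_eq hdisj (Set.toFinite _) (Set.toFinite _),
        orbit_ncard H F hFr x hx hx1, orbit_ncard H F hFr _ hxi hxi1, hXn]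
      omega
    rw [← hU] at hyX
    rcases hyX with h | h
    · exact hord x h
    · rw [hord _ h, orderOf_inv]

theorem abelian_of_odd
    (hN : ∀ h ∈ H, ∀ u ∈ F, h * u * h⁻¹ ∈ F)
    (hFr : ∀ h ∈ H, ∀ u ∈ F, u ≠ 1 → h * u * h⁻¹ = u → h = 1)
    (hC : Nat.card F - 1 ≤ 2 * Nat.card H)
    (hodd : Odd (Nat.card H)) : ∀ x ∈ F, ∀ y ∈ F, x * y = y * x := by
  by_cases hbot : F = ⊥
  · intro x hx y hy
    rw [hbot, Subgroup.mem_bot] at hx hy
    rw [hx, hy]
  obtain ⟨x, hx, hx1⟩ : ∃ x : G, x ∈ F ∧ x ≠ 1 := by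
    obtain ⟨a, ha⟩ := Subgroup.ne_bot_iff_exists_ne_one.mp hbot
    exact ⟨(a : G), a.2, fun h => ha (Subtype.ext h)⟩
  -- all non-identity elements have order p
  have hr0 : orderOf x ≠ 0 := (orderOf_pos x).ne'
  have hr1 : orderOf x ≠ 1 := fun h => hx1 (orderOf_eq_one_iff.mp h)
  set p := (orderOf x).minFac with hp
  have hpp : p.Prime := Nat.minFac_prime hr1
  have hpd : p ∣ orderOf x := Nat.minFac_dvd _
  have hz := orderOf_pow_orderOf_div hr0 hpd
  have hzF : x ^ (orderOf x / p) ∈ F := F.pow_mem hx _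
  have hz1 : x ^ (orderOf x / p) ≠ 1 := by
    intro h
    rw [h, orderOf_one] at hz
    exact hpp.one_lt.ne hz
  have hxp : orderOf x = p := by
    rw [← same_order H F hN hFr hC hodd x hx hx1 _ hzF hz1, hz]
  have hall : ∀ u ∈ F, u ^ p = 1 := by
    intro u hu
    by_cases hu1 : u = 1
    · rw [hu1, one_pow]
    · rw [← hxp, ← same_order H F hN hFr hC hodd x hx hx1 u hu hu1]
      exact pow_orderOf_eq_one u
  haveI : Fact p.Prime := ⟨hpp⟩
  have hpg : IsPGroup p F := by
    intro g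
    refine ⟨1, ?_⟩
    rw [pow_one]
    apply Subtype.ext
    rw [Subgroup.coe_pow]
    exact hall g g.2
  haveI : Nontrivial F := by
    rw [Subgroup.nontrivial_iff_ne_bot]
    exact hbot
  haveI := hpg.center_nontrivial
  obtain ⟨z, hz⟩ := exists_ne (1 : Subgroup.center F)
  -- the centre as a subgroup of G
  let Z : Subgroup G := F ⊓ Subgroup.centralizer (F : Set G)
  have hZinv : ∀ h ∈ H, ∀ m ∈ Z, h * m * h⁻¹ ∈ Z := by
    intro h hh m hm
    have hm := Subgroup.mem_inf.mp hm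
    refine Subgroup.mem_inf.mpr ⟨hN h hh m hm.1, ?_⟩
    rw [Subgroup.mem_centralizer_iff]
    intro w hw
    have hw' : h⁻¹ * w * h ∈ F := by
      have := hN h⁻¹ (H.inv_mem hh) w hw
      rwa [inv_inv] at this
    have hc := (Subgroup.mem_centralizer_iff.mp hm.2) _ hw'
    calc w * (h * m * h⁻¹) = h * ((h⁻¹ * w * h) * m) * h⁻¹ := by group
      _ = h * (m * (h⁻¹ * w * h)) * h⁻¹ := by rw [hc]
      _ = h * m * h⁻¹ * w := by group
  have hZne : Z ≠ ⊥ := by
    intro h
    have hzZ : ((z : F) : G) ∈ Z := by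
      refine Subgroup.mem_inf.mpr ⟨(z : F).2, ?_⟩
      rw [Subgroup.mem_centralizer_iff]
      intro w hw
      have := (Subgroup.mem_center_iff.mp z.2) ⟨w, hw⟩
      exact congrArg Subtype.val this
    rw [h, Subgroup.mem_bot] at hzZ
    apply hz
    apply Subtype.ext
    apply Subtype.ext
    exact hzZ
  have hZF := irred H F hFr hC Z inf_le_left hZinv hZne
  intro a ha b hb
  have ha' : a ∈ Z := by rw [hZF]; exact ha
  exact ((Subgroup.mem_centralizer_iff.mp (Subgroup.mem_inf.mp ha').2) b hb).symm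

theorem abstract_main
    (hN : ∀ h ∈ H, ∀ u ∈ F, h * u * h⁻¹ ∈ F)
    (hFr : ∀ h ∈ H, ∀ u ∈ F, u ≠ 1 → h * u * h⁻¹ = u → h = 1)
    (hC : Nat.card F - 1 ≤ 2 * Nat.card H) :
    (∀ x ∈ F, ∀ y ∈ F, x * y = y * x) ∧
      ∃ p f : ℕ, p.Prime ∧ (∀ u ∈ F, u ^ p = 1) ∧ Nat.card F = p ^ f := by
  have hab : ∀ x ∈ F, ∀ y ∈ F, x * y = y * x := by
    rcases Nat.even_or_odd (Nat.card H) with h | h
    · exact abelian_of_even H F hN hFr h
    · exact abelian_of_odd H F hN hFr hC h
  refine ⟨hab, ?_⟩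
  by_cases hbot : F = ⊥
  · refine ⟨2, 0, Nat.prime_two, ?_, ?_⟩
    · intro u hu
      rw [hbot, Subgroup.mem_bot] at hu
      rw [hu, one_pow]
    · rw [hbot, Subgroup.card_bot, pow_zero]
  have hcard : 1 < Nat.card F := by
    rw [Subgroup.one_lt_card_iff_ne_bot]; exact hbot
  set p := (Nat.card F).minFac with hp
  have hpp : p.Prime := Nat.minFac_prime (by omega)
  haveI : Fact p.Prime := ⟨hpp⟩
  have hpd : p ∣ Nat.card F := Nat.minFac_dvd _
  obtain ⟨x, hx⟩ := exists_prime_orderOf_dvd_card' (G := ↥F) p hpd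
  let M : Subgroup G :=
    { carrier := {u | u ∈ F ∧ u ^ p = 1}
      mul_mem' := by
        rintro u v ⟨hu, hu1⟩ ⟨hv, hv1⟩
        refine ⟨F.mul_mem hu hv, ?_⟩
        rw [(show Commute u v from hab u hu v hv).mul_pow, hu1, hv1, one_mul]
      one_mem' := ⟨F.one_mem, one_pow _⟩
      inv_mem' := by
        rintro u ⟨hu, hu1⟩
        refine ⟨F.inv_mem hu, ?_⟩
        rw [inv_pow, hu1, inv_one] }
  have hMF : M ≤ F := fun u hu => hu.1
  have hMinv : ∀ h ∈ H, ∀ m ∈ M, h * m * h⁻¹ ∈ M := by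
    rintro h hh m ⟨hm, hm1⟩
    refine ⟨hN h hh m hm, ?_⟩
    rw [conj_pow, hm1]; group
  have hMne : M ≠ ⊥ := by
    intro h
    have hxM : (x : G) ∈ M := by
      refine ⟨x.2, ?_⟩
      have := pow_orderOf_eq_one x
      rw [hx] at this
      have := congrArg Subtype.val this
      simpa using this
    rw [h, Subgroup.mem_bot] at hxM
    have : x = 1 := Subtype.ext hxM
    rw [this, orderOf_one] at hx
    exact hpp.one_lt.ne hx
  have hMeq := irred H F hFr hC M hMF hMinv hMne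
  have hall : ∀ u ∈ F, u ^ p = 1 := by
    intro u hu
    rw [← hMeq] at hu
    exact hu.2
  have hpg : IsPGroup p F := by
    intro g
    refine ⟨1, ?_⟩
    rw [pow_one]
    apply Subtype.ext
    rw [Subgroup.coe_pow]
    exact hall g g.2
  obtain ⟨f, hf⟩ := (IsPGroup.iff_card).mp hpg
  exact ⟨p, f, hpp, hall, hf⟩
end abstract

theorem main {G Ω : Type*} [Group G] [Finite G] [MulAction G Ω] [Fintype Ω] (hZ : Cfsg.IsZassenhausGroup G Ω) {a b : Ω} (hab : a ≠ b) (hd : Fintype.card Ω - 2 ≤ 2 * Nat.card ↥(MulAction.stabilizer G a ⊓ MulAction.stabilizer G b)) (F : Subgroup G) (hFle : F ≤ MulAction.stabilizer G a) (hFn : (F.subgroupOf (MulAction.stabilizer G a)).Normal) (hreg : ∀ y z : Ω, y ≠ a → z ≠ a → ∃! u : F, (u : G) • y = z) : IsMulCommutative F ∧ ∃ p f : ℕ, p.Prime ∧ (∀ u ∈ F, u ^ p = 1) ∧ Fintype.card Ω = p ^ f + 1 := by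
  classical
  obtain ⟨_, _, h3, _, _⟩ := hZ
  set H := stabilizer G a ⊓ stabilizer G b with hH
  have hN : ∀ h ∈ H, ∀ u ∈ F, h * u * h⁻¹ ∈ F := by
    intro h hh u hu
    have hh' := Subgroup.mem_inf.mp hh
    have := hFn.conj_mem ⟨u, hFle hu⟩ (Subgroup.mem_subgroupOf.mpr hu) ⟨h, hh'.1⟩
    rw [Subgroup.mem_subgroupOf] at this
    simpa using this
  have hba : b ≠ a := hab.symm
  have hFa : ∀ u ∈ F, u • a = a := fun u hu => mem_stabilizer_iff.mp (hFle hu)
  have hub_ne_a : ∀ u ∈ F, u • b ≠ a := by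
    intro u hu h
    have h1 : u • b = u • a := by rw [h, hFa u hu]
    exact hba (smul_left_cancel u h1)
  have hub_ne_b : ∀ u ∈ F, u ≠ 1 → u • b ≠ b := by
    intro u hu hu1 h
    obtain ⟨w, _, hw⟩ := hreg b b hba hba
    have e1 := hw ⟨u, hu⟩ h
    have e2 := hw 1 (by simp)
    apply hu1
    have := e1.trans e2.symm
    exact congrArg Subtype.val this
  have hFr : ∀ h ∈ H, ∀ u ∈ F, u ≠ 1 → h * u * h⁻¹ = u → h = 1 := by
    intro h hh u hu hu1 hc
    have hh' := Subgroup.mem_inf.mp hh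
    have hha : h • a = a := mem_stabilizer_iff.mp hh'.1
    have hhb : h • b = b := mem_stabilizer_iff.mp hh'.2
    have hcomm : h * u = u * h := by
      calc h * u = (h * u * h⁻¹) * h := by group
        _ = u * h := by rw [hc]
    apply h3 h a b (u • b) hab (hub_ne_b u hu hu1).symm (hub_ne_a u hu).symm hha hhb
    rw [← mul_smul, hcomm, mul_smul, hhb]
  -- cardinality of F
  have hcardF : Nat.card F + 1 = Fintype.card Ω := by
    have e : F ≃ {y : Ω // y ≠ a} := Equiv.ofBijective (fun u => ⟨(u : G) • b, hub_ne_a u u.2⟩) (by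
      constructor
      · intro u v huv
        have huv' : (u : G) • b = (v : G) • b := congrArg Subtype.val huv
        obtain ⟨w, _, hw⟩ := hreg b ((v : G) • b) hba (hub_ne_a v v.2)
        exact (hw u huv').trans (hw v rfl).symm
      · intro y
        obtain ⟨w, hw, _⟩ := hreg b y hba y.2
        exact ⟨w, Subtype.ext hw⟩)
    rw [Nat.card_congr e, Nat.card_eq_fintype_card, Fintype.card_subtype_compl,
      Fintype.card_subtype_eq]
    have : 0 < Fintype.card Ω := Fintype.card_pos_iff.mpr ⟨a⟩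
    omega
  have hC : Nat.card F - 1 ≤ 2 * Nat.card H := by
    have : Nat.card F - 1 = Fintype.card Ω - 2 := by omega
    rw [this]; exact hd
  obtain ⟨hcomm, p, f, hpp, hall, hcard⟩ := abstract_main H F hN hFr hC
  refine ⟨⟨⟨fun x y => Subtype.ext (hcomm x x.2 y y.2)⟩⟩, p, f, hpp, hall, ?_⟩
  rw [← hcard, hcardF]


/-- Let a finite Zassenhaus group of degree `n + 1` have two-point stabilisers of order `d` with `2d ≥ n - 1`. Then a normal subgroup of a point stabiliser acting regularly on the remaining points is elementary abelian, and the degree is a prime power plus one. -/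
theorem result {G Ω : Type*} [Group G] [Finite G] [MulAction G Ω] [Fintype Ω] (hZ : Cfsg.IsZassenhausGroup G Ω) {a b : Ω} (hab : a ≠ b) (hd : Fintype.card Ω - 2 ≤ 2 * Nat.card ↥(MulAction.stabilizer G a ⊓ MulAction.stabilizer G b)) (F : Subgroup G) (hFle : F ≤ MulAction.stabilizer G a) (hFn : (F.subgroupOf (MulAction.stabilizer G a)).Normal) (hreg : ∀ y z : Ω, y ≠ a → z ≠ a → ∃! u : F, (u : G) • y = z) : IsMulCommutative F ∧ ∃ p f : ℕ, p.Prime ∧ (∀ u ∈ F, u ^ p = 1) ∧ Fintype.card Ω = p ^ f + 1 := by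
  exact main hZ hab hd F hFle hFn hreg

end Cfsg.Agent.S0738
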