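import Cfsg.Statements.S0340
import Cfsg.Agent.Lib.helper6.ZassFeitNB
import Cfsg.Agent.Lib.helper6.SuzClass
import Cfsg.Agent.S0738
import Cfsg.Agent.S0731
import Cfsg.Agent.S0344
import Cfsg.Agent.S0347

set_option autoImplicit false
open Cfsg

namespace Cfsg.Agent.S0340

/-- Classification of Zassenhaus groups, simple case, order-level form: a finite simple Zassenhaus group is
isomorphic to `PSL₂(F)` for some finite field `F` or is simple of Suzuki order. -/
theorem result {G Ω : Type*} [Group G] [Finite G] [MulAction G Ω]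
    [Finite Ω] (hZ : Cfsg.IsZassenhausGroup G Ω) [IsSimpleGroup G] :
    (∃ (F : Type) (_ : Field F) (_ : Fintype F), Nonempty (G ≃* Matrix.ProjectiveSpecialLinearGroup (Fin 2) F)) ∨ Cfsg.IsSuzuki G := by
  classical
  open MulAction Cfsg.Agent.Lib.helper6.ZassPSL3 Cfsg.Agent.Lib.helper6.ZassFeit
    Cfsg.Agent.Lib.helper6.ZassNormal in
  haveI : Fintype Ω := Fintype.ofFinite Ω
  have D := ZData.of_zass hZ
  haveI := D.faithful
  obtain ⟨g0, hg01, a, b, hab, hg0a, hg0b⟩ := hZ.2.2.2.1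
  set e := Nat.card ↥(MulAction.stabilizer G a ⊓ MulAction.stabilizer G b : Subgroup G) with he
  rcases Nat.even_or_odd e with hev | hodd
  · left
    obtain ⟨F, hF1, hF2, -, hiso⟩ := Cfsg.Agent.S0344.result hZ hab hev
    exact ⟨F, hF1, hF2, hiso⟩
  obtain ⟨KG, hnil, hkfix, hkfpf, hktr, hknorm⟩ :=
    Cfsg.Agent.Lib.helper6.ZassReg.kernel_data (fun h1 h2 => D.two h1 h2) D.three hab hg01 hg0a hg0b
  have Z : ZK G Ω a b KG := ⟨fun h1 h2 => D.two h1 h2, D.three, hab, hkfix, hkfpf, hktr, hknorm⟩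
  have hcard := card_KG Z
  have hKle : KG ≤ MulAction.stabilizer G a := KG_le Z
  obtain ⟨e0, he0a, he0b⟩ := exists_third hg01 hg0a hg0b
  have hn3 : 3 ≤ Fintype.card Ω := by
    rw [← Finset.card_univ]
    have h3 : ({a, b, e0} : Finset Ω).card = 3 := by
      rw [Finset.card_insert_of_notMem, Finset.card_pair (Ne.symm he0b)]
      simp only [Finset.mem_insert, Finset.mem_singleton, not_or]
      exact ⟨hab, Ne.symm he0a⟩
    rw [← h3]
    exact Finset.card_le_card (Finset.subset_univ _)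
  have hFn : (KG.subgroupOf (MulAction.stabilizer G a)).Normal := by
    constructor
    intro n hn g
    rw [Subgroup.mem_subgroupOf] at hn ⊢
    have hg : (g : G) • a = a := MulAction.mem_stabilizer_iff.mp g.2
    have := hknorm (g : G) hg (n : G) hn
    simpa using this
  have hreg : ∀ y z : Ω, y ≠ a → z ≠ a → ∃! u : KG, (u : G) • y = z := by
    intro y z hy hz
    obtain ⟨k, hk, hkyz⟩ := hktr y z hy hz
    refine ⟨⟨k, hk⟩, hkyz, ?_⟩
    intro u hu
    by_contra hne
    have h1 : ((k : G)⁻¹ * (u : G)) • y = y := by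
      rw [mul_smul, hu, ← hkyz, inv_smul_smul]
    have h2 : (k : G)⁻¹ * (u : G) ≠ 1 := by
      intro h
      apply hne
      apply Subtype.ext
      have : (u : G) = k * (k⁻¹ * (u : G)) := by group
      rw [this, h, mul_one]
    exact hkfpf _ (KG.mul_mem (KG.inv_mem hk) u.2) h2 y hy h1
  by_cases hd : Fintype.card Ω - 2 ≤ 2 * e
  · left
    obtain ⟨hcomm, p, f, hp, -, hpf⟩ := Cfsg.Agent.S0738.result hZ hab hd KG hKle hFn hreg
    rcases Cfsg.Agent.S0731.result hZ a KG hKle hFn hcomm hreg with ⟨h3, hsharp⟩ | ⟨K, hK1, hK2, -, hiso⟩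
    · have hE := Cfsg.Agent.Lib.helper6.SuzGrp.sharp_card_E h3 hsharp hab ⟨e0, he0a, he0b⟩
      have hoddn : Odd (Fintype.card Ω) := by
        rw [← hE, ← he]
        exact hodd.add_even even_two
      exact Cfsg.Agent.Lib.helper6.SuzGrp.sharp_psl hoddn hn3 h3 hsharp
    · exact ⟨K, hK1, hK2, hiso⟩
  · right
    push Not at hd
    have hh : Fintype.card Ω = (Fintype.card Ω - 1) + 1 := by omega
    have hlt : 2 * e < (Fintype.card Ω - 1) - 1 := by omega
    have hHfix : ∀ u ∈ KG, u ≠ 1 → ∀ c : Ω, u • c = c → c = a := by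
      intro u hu hu1 c hc
      by_contra hne
      exact hkfpf u hu hu1 c hne hc
    obtain ⟨hP, hna, -⟩ := Cfsg.Agent.Lib.helper6.ZassFeitNA.feit_simple hZ hab
      (Fintype.card Ω - 1) e hh he.symm hodd hlt KG hKle hcard hHfix
    exact Cfsg.Agent.S0347.result hZ a KG hKle hFn hP hna hreg

end Cfsg.Agent.S0340
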