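import Cfsg.Statements.S0400
import Cfsg.Agent.Lib.Lead.ConwayTrans2

set_option autoImplicit false
open Cfsg

namespace Cfsg.Agent.S0400

/-- Automorphisms of the lattice act transitively on vectors of sum of squares 32. -/
theorem result (v w : Cfsg.leechLattice) (hv : Cfsg.sqNorm (v : Cfsg.GolayPt → ℤ) = 32) (hw : Cfsg.sqNorm (w : Cfsg.GolayPt → ℤ) = 32) : ∃ g : Cfsg.Co0, g • v = w := by
  obtain ⟨g, hg⟩ := Cfsg.Agent.Lib.Lead.CW.trans32 v hv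
  obtain ⟨k, hk⟩ := Cfsg.Agent.Lib.Lead.CW.trans32 w hw
  refine ⟨k⁻¹ * g, ?_⟩
  show (k⁻¹ * g).1 v = w
  show k⁻¹.1 (g.1 v) = w
  rw [hg, ← hk]
  show (k⁻¹ * k).1 w = w
  rw [inv_mul_cancel]
  rfl

end Cfsg.Agent.S0400
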