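import Cfsg.Statements.S5392
import Cfsg.Agent.Lib.Lead.ConwayOrder

set_option autoImplicit false
open Cfsg

namespace Cfsg.Agent.S5392

open Cfsg.Agent.Lib.Lead.LX Cfsg.Agent.Lib.Lead.CW Cfsg.Agent.Lib.Lead.CO
open Cfsg.Agent.Lib.helper3 Cfsg.Agent.Lib.helper4 Cfsg.Agent.S0398 Cfsg.Agent.S1571

/-! ### faithfulness -/

/-- the vector `4e_i + 4e_j` -/
def d4 (i j : GolayPt) : GolayPt → ℤ := fun p => (if p = i then 4 else 0) + (if p = j then 4 else 0)

theorem d4_mem (i j : GolayPt) : d4 i j ∈ leechLattice := by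
  rw [mem_leechLattice_iff]
  apply Spor.mem_leechSet_of_const_mod_four _ 0 0 (Int.ModEq.refl _)
  · intro p
    unfold d4 Int.ModEq
    split_ifs <;> norm_num
  · unfold d4
    rw [Finset.sum_add_distrib, Finset.sum_ite_eq' Finset.univ i,
      Finset.sum_ite_eq' Finset.univ j, if_pos (Finset.mem_univ _), if_pos (Finset.mem_univ _)]
    decide

theorem d4_norm (i j : GolayPt) (hij : i ≠ j) : sqNorm (d4 i j) = 32 := by
  unfold sqNorm
  have h : ∀ p, d4 i j p ^ 2 = (if p = i then 16 else 0) + (if p = j then 16 else 0) := by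
    intro p
    unfold d4
    by_cases h1 : p = i
    · have h2 : p ≠ j := fun h => hij (h1.symm.trans h)
      rw [if_pos h1, if_neg h2, if_pos h1, if_neg h2]
      norm_num
    · by_cases h2 : p = j
      · rw [if_neg h1, if_pos h2, if_neg h1, if_pos h2]
        norm_num
      · rw [if_neg h1, if_neg h2, if_neg h1, if_neg h2]
        norm_num
  rw [Finset.sum_congr rfl (fun p _ => h p), Finset.sum_add_distrib,
    Finset.sum_ite_eq' Finset.univ i, Finset.sum_ite_eq' Finset.univ j,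
    if_pos (Finset.mem_univ _), if_pos (Finset.mem_univ _)]
  norm_num

theorem exists_third : ∀ a b : GolayPt, ∃ j, j ≠ a ∧ j ≠ b := by decide +kernel

theorem neg_central : (⟨Equiv.neg leechLattice, neg_mem_Co0⟩ : ↥Co0) ∈ Subgroup.center ↥Co0 := by
  rw [Subgroup.mem_center_iff]
  intro f
  apply Subtype.ext
  apply Equiv.ext
  intro v
  show f.1 (-v) = -(f.1 v)
  exact map_neg' f v

theorem faithful (g : ↥Co0)
    (hg : ∀ v : ↥leechLattice, ∃ w : ↥leechLattice,
      ((g • v : ↥leechLattice) : GolayPt → ℤ) - (v : GolayPt → ℤ) = 2 • (w : GolayPt → ℤ)) :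
    g ∈ Subgroup.center ↥Co0 := by
  have hcl : ∀ v : ↥leechLattice, cl (g.1 v).1 = cl v.1 := by
    intro v
    obtain ⟨w, hw⟩ := hg v
    rw [cl_eq_iff (g.1 v).2 v.2]
    exact ⟨w.1, w.2, hw⟩
  have hH : g ∈ H := (mem_H g).2 (hcl (ev none))
  obtain ⟨w, π, hgw⟩ := stab_eq_mk g ((mem_H_iff_stab g).1 hH)
  have hval : ∀ (v : ↥leechLattice) (k : GolayPt),
      (g.1 v).1 k = if w.1 k ≠ 0 then -(v.1 (π.1 k)) else v.1 (π.1 k) := by
    intro v k
    rw [hgw, mk_apply]
  have hpm : ∀ i j : GolayPt, i ≠ j →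
      (g.1 ⟨d4 i j, d4_mem i j⟩).1 = d4 i j ∨ (g.1 ⟨d4 i j, d4_mem i j⟩).1 = -d4 i j := by
    intro i j hij
    obtain ⟨z, hz⟩ := hg ⟨d4 i j, d4_mem i j⟩
    have hn : sqNorm (g.1 ⟨d4 i j, d4_mem i j⟩).1 = 32 := by
      rw [g.2.2]
      exact d4_norm i j hij
    rcases pair_lemma (g.1 ⟨d4 i j, d4_mem i j⟩).1 (d4 i j) z.1 (d4_mem i j) z.2 hz
      (by rw [hn]; norm_num) (by rw [d4_norm i j hij]; norm_num) with h | h | ⟨h, _, _⟩
    · exact Or.inl h
    · exact Or.inr h
    · rw [hn] at h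
      norm_num at h
  have hπ : ∀ i : GolayPt, π.1.symm i = i := by
    intro i
    by_contra hne
    obtain ⟨j, hji, hjk⟩ := exists_third i (π.1.symm i)
    have h1 := hval ⟨d4 i j, d4_mem i j⟩ (π.1.symm i)
    rw [Equiv.apply_symm_apply] at h1
    have h2 : d4 i j i = 4 := by
      unfold d4
      rw [if_pos rfl, if_neg (Ne.symm hji)]
      norm_num
    have h3 : d4 i j (π.1.symm i) = 0 := by
      unfold d4
      rw [if_neg hne, if_neg (Ne.symm hjk)]
      norm_num
    change (g.1 ⟨d4 i j, d4_mem i j⟩).1 (π.1.symm i)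
      = if w.1 (π.1.symm i) ≠ 0 then -(d4 i j i) else d4 i j i at h1
    rw [h2] at h1
    rcases hpm i j (Ne.symm hji) with h | h
    · rw [h, h3] at h1
      split_ifs at h1 <;> omega
    · rw [h, Pi.neg_apply, h3] at h1
      split_ifs at h1 <;> omega
  have hπ1 : ∀ k : GolayPt, π.1 k = k := by
    intro k
    have := hπ (π.1 k)
    rw [Equiv.symm_apply_apply] at this
    exact this.symm
  have hval' : ∀ (v : ↥leechLattice) (k : GolayPt),
      (g.1 v).1 k = if w.1 k ≠ 0 then -(v.1 k) else v.1 k := by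
    intro v k
    rw [hval v k, hπ1 k]
  have hconst : ∀ i j : GolayPt, i ≠ j → (w.1 i ≠ 0 ↔ w.1 j ≠ 0) := by
    intro i j hij
    have hi := hval' ⟨d4 i j, d4_mem i j⟩ i
    have hj := hval' ⟨d4 i j, d4_mem i j⟩ j
    have e1 : d4 i j i = 4 := by
      unfold d4
      rw [if_pos rfl, if_neg hij]
      norm_num
    have e2 : d4 i j j = 4 := by
      unfold d4
      rw [if_neg (Ne.symm hij), if_pos rfl]
      norm_num
    change (g.1 ⟨d4 i j, d4_mem i j⟩).1 i = if w.1 i ≠ 0 then -(d4 i j i) else d4 i j i at hi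
    change (g.1 ⟨d4 i j, d4_mem i j⟩).1 j = if w.1 j ≠ 0 then -(d4 i j j) else d4 i j j at hj
    rw [e1] at hi
    rw [e2] at hj
    rcases hpm i j hij with h | h
    · rw [h, e1] at hi
      rw [h, e2] at hj
      constructor
      · intro hwi
        rw [if_pos hwi] at hi
        omega
      · intro hwj
        rw [if_pos hwj] at hj
        omega
    · rw [h, Pi.neg_apply, e1] at hi
      rw [h, Pi.neg_apply, e2] at hj
      constructor
      · intro _ hwj
        rw [if_neg (not_not.2 hwj)] at hj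
        omega
      · intro _ hwi
        rw [if_neg (not_not.2 hwi)] at hi
        omega
  by_cases h0 : w.1 none ≠ 0
  · have hall : ∀ k, w.1 k ≠ 0 := by
      intro k
      by_cases hk : k = none
      · rw [hk]; exact h0
      · exact (hconst none k (Ne.symm hk)).1 h0
    have : g = ⟨Equiv.neg leechLattice, neg_mem_Co0⟩ := by
      apply Subtype.ext
      apply Equiv.ext
      intro v
      apply Subtype.ext
      funext k
      rw [hval' v k, if_pos (hall k)]
      rfl
    rw [this]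
    exact neg_central
  · have hall : ∀ k, ¬ w.1 k ≠ 0 := by
      intro k
      by_cases hk : k = none
      · rw [hk]; exact h0
      · intro h'
        exact h0 ((hconst none k (Ne.symm hk)).2 h')
    have : g = 1 := by
      apply Subtype.ext
      apply Equiv.ext
      intro v
      apply Subtype.ext
      funext k
      rw [hval' v k, if_neg (hall k)]
      rfl
    rw [this]
    exact Subgroup.one_mem _

/-! ### irreducibility -/

/-- the vector `4e_∞ - 4e_0` -/
def b32v : GolayPt → ℤ := fun p => (if p = none then 4 else 0) - (if p = some 0 then 4 else 0)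

/-- the vector `(1, 5, 1^22)` -/
def c48v : GolayPt → ℤ := fun p => if p = some 0 then 5 else 1

/-- the vector `(5, -3, -3, 1^21)` -/
def b64v : GolayPt → ℤ := fun p =>
  if p = none then 5 else if p = some 0 then -3 else if p = some 1 then -3 else 1

set_option maxRecDepth 100000 in
theorem chk_vectors : isLeechB b32v = true ∧ isLeechB c48v = true ∧ isLeechB b64v = true ∧
    sqNorm b32v = 32 ∧ sqNorm c48v = 48 ∧ sqNorm b64v = 64 ∧ sqNorm x0 = 32 ∧
    sqNorm (u48v - c48v) = 32 ∧ sqNorm ((ev none).1 - b64v) = 48 ∧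
    e4 (some 0) 4 + b32v = (ev none).1 ∧ x0 + e4 (some 0) 4 = c48v ∧
    sqNorm (e4 (some 0) 4) = 32 ∧ sqNorm u48v = 48 := by
  decide +kernel

theorem irreducible (M : AddSubgroup (GolayPt → ℤ))
    (h2 : ∀ v ∈ leechLattice, (2 : ℤ) • v ∈ M) (hML : M ≤ leechLattice)
    (hinv : ∀ g : ↥Co0, ∀ v : ↥leechLattice, (v : GolayPt → ℤ) ∈ M →
      ((g • v : ↥leechLattice) : GolayPt → ℤ) ∈ M) :
    (∀ x ∈ M, ∃ w ∈ leechLattice, x = (2 : ℤ) • w) ∨ M = leechLattice := by
  by_cases hall : ∀ x ∈ M, ∃ w ∈ leechLattice, x = (2 : ℤ) • w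
  · exact Or.inl hall
  right
  push Not at hall
  obtain ⟨x, hxM, hx2⟩ := hall
  obtain ⟨hb32, hc48, hb64, nb32, nc48, nb64, nx0, nd32, nd48, esum, esum2, nv32, nu48⟩ :=
    chk_vectors
  -- all vectors of a type from one of them
  have all_of_one : ∀ (t : ℤ) (std : ↥leechLattice),
      (∀ v : ↥leechLattice, sqNorm v.1 = t → Rel v std) →
      (∃ y : ↥leechLattice, y.1 ∈ M ∧ sqNorm y.1 = t) →
      ∀ v : ↥leechLattice, sqNorm v.1 = t → v.1 ∈ M := by
    intro t std htr ⟨y, hyM, hyt⟩ v hvt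
    obtain ⟨g, hg⟩ := htr v hvt
    obtain ⟨k, hk⟩ := htr y hyt
    have h1 : (g⁻¹ * k).1 y = v := by
      show g⁻¹.1 (k.1 y) = v
      rw [hk, ← hg]
      show (g⁻¹ * g).1 v = v
      rw [inv_mul_cancel]
      rfl
    have := hinv (g⁻¹ * k) y hyM
    change ((g⁻¹ * k).1 y).1 ∈ M at this
    rw [h1] at this
    exact this
  have P32_48 : (∀ v : ↥leechLattice, sqNorm v.1 = 32 → v.1 ∈ M) →
      ∀ v : ↥leechLattice, sqNorm v.1 = 48 → v.1 ∈ M := by
    intro h
    apply all_of_one 48 u48 trans48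
    refine ⟨⟨c48v, isLeechB_sound _ hc48⟩, ?_, nc48⟩
    show c48v ∈ M
    rw [← esum2]
    exact M.add_mem (h ⟨x0, x0_mem⟩ nx0) (h v32 nv32)
  have e64 : sqNorm (ev none).1 = 64 := by
    unfold sqNorm
    rw [Finset.sum_eq_single none]
    · rw [ev_val, Pi.single_eq_same]; norm_num
    · intro k _ hk
      rw [ev_val, Pi.single_eq_of_ne hk]; norm_num
    · intro h'; exact absurd (Finset.mem_univ _) h'
  have P32_64 : (∀ v : ↥leechLattice, sqNorm v.1 = 32 → v.1 ∈ M) →
      ∀ v : ↥leechLattice, sqNorm v.1 = 64 → v.1 ∈ M := by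
    intro h
    apply all_of_one 64 (ev none) trans64
    refine ⟨ev none, ?_, e64⟩
    have hm : e4 (some 0) 4 + b32v ∈ M :=
      M.add_mem (h v32 nv32) (h ⟨b32v, isLeechB_sound _ hb32⟩ nb32)
    rw [esum] at hm
    exact hm
  have P48_32 : (∀ v : ↥leechLattice, sqNorm v.1 = 48 → v.1 ∈ M) →
      ∀ v : ↥leechLattice, sqNorm v.1 = 32 → v.1 ∈ M := by
    intro h
    apply all_of_one 32 v32 trans32
    refine ⟨⟨u48v - c48v, leechLattice.sub_mem u48v_mem (isLeechB_sound _ hc48)⟩, ?_, nd32⟩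
    exact M.sub_mem (h u48 nu48) (h ⟨c48v, isLeechB_sound _ hc48⟩ nc48)
  have P64_48 : (∀ v : ↥leechLattice, sqNorm v.1 = 64 → v.1 ∈ M) →
      ∀ v : ↥leechLattice, sqNorm v.1 = 48 → v.1 ∈ M := by
    intro h
    apply all_of_one 48 u48 trans48
    refine ⟨⟨(ev none).1 - b64v, leechLattice.sub_mem (ev none).2 (isLeechB_sound _ hb64)⟩, ?_,
      nd48⟩
    exact M.sub_mem (h (ev none) e64) (h ⟨b64v, isLeechB_sound _ hb64⟩ nb64)
  -- a short vector of M outside twice the lattice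
  obtain ⟨y, hyL, hyn, z, hzL, hxyz⟩ := exists_short x (hML hxM)
  have h2z : (2 : ℤ) • z ∈ M := h2 z hzL
  have hzz : (2 : ℤ) • z = 2 • z := by
    rw [two_nsmul, two_smul]
  have hyM : y ∈ M := by
    have : y = x - (2 : ℤ) • z := by
      rw [hzz, ← hxyz]
      abel
    rw [this]
    exact M.sub_mem hxM h2z
  have hy0 : y ≠ 0 := by
    intro h0
    apply hx2 z hzL
    rw [h0, sub_zero] at hxyz
    rw [hxyz, hzz]
  have hycases := Cfsg.Agent.Lib.Lead.LX.norm_cases y ((Cfsg.Agent.Lib.Lead.LX.mem_S y).2 ⟨hyL, hyn⟩)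
  have hy0' : sqNorm y ≠ 0 := fun h => hy0 ((Cfsg.Agent.Lib.Lead.LX.sqNorm_eq_zero_iff y).1 h)
  have hP : (∀ v : ↥leechLattice, sqNorm v.1 = 32 → v.1 ∈ M) ∧
      (∀ v : ↥leechLattice, sqNorm v.1 = 48 → v.1 ∈ M) ∧
      (∀ v : ↥leechLattice, sqNorm v.1 = 64 → v.1 ∈ M) := by
    rcases hycases with h | h | h | h
    · exact absurd h hy0'
    · have p32 := all_of_one 32 v32 trans32 ⟨⟨y, hyL⟩, hyM, h⟩
      exact ⟨p32, P32_48 p32, P32_64 p32⟩
    · have p48 := all_of_one 48 u48 trans48 ⟨⟨y, hyL⟩, hyM, h⟩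
      have p32 := P48_32 p48
      exact ⟨p32, p48, P32_64 p32⟩
    · have p64 := all_of_one 64 (ev none) trans64 ⟨⟨y, hyL⟩, hyM, h⟩
      have p48 := P64_48 p64
      have p32 := P48_32 p48
      exact ⟨p32, p48, p64⟩
  obtain ⟨p32, p48, p64⟩ := hP
  apply le_antisymm hML
  intro u hu
  obtain ⟨y', hyL', hyn', z', hzL', hxyz'⟩ := exists_short u hu
  have hy'M : y' ∈ M := by
    rcases Cfsg.Agent.Lib.Lead.LX.norm_cases y' ((Cfsg.Agent.Lib.Lead.LX.mem_S y').2 ⟨hyL', hyn'⟩) with h | h | h | h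
    · rw [(Cfsg.Agent.Lib.Lead.LX.sqNorm_eq_zero_iff y').1 h]
      exact M.zero_mem
    · exact p32 ⟨y', hyL'⟩ h
    · exact p48 ⟨y', hyL'⟩ h
    · exact p64 ⟨y', hyL'⟩ h
  have : u = y' + (2 : ℤ) • z' := by
    have hzz' : (2 : ℤ) • z' = 2 • z' := by
      rw [two_nsmul, two_smul]
    rw [hzz', ← hxyz']
    abel
  rw [this]
  exact M.add_mem hy'M (h2 z' hzL')


/-- The Leech lattice modulo twice itself is a faithful irreducible module for the first Conway group: an automorphism of the rank-24 lattice built from the length-24 code that moves every lattice vector only by twice a lattice vector lies in the centre of the automorphism group (the centre consists of ±1, which act trivially there, so the kernel is exactly the centre), and an additive subgroup lying between twice the lattice and the lattice that is invariant under all lattice automorphisms is one of the two. -/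
theorem result : (∀ g : ↥Cfsg.Co0, (∀ v : ↥Cfsg.leechLattice, ∃ w : ↥Cfsg.leechLattice, ((g • v : ↥Cfsg.leechLattice) : Cfsg.GolayPt → ℤ) - (v : Cfsg.GolayPt → ℤ) = 2 • (w : Cfsg.GolayPt → ℤ)) → g ∈ Subgroup.center ↥Cfsg.Co0) ∧ ∀ M : AddSubgroup (Cfsg.GolayPt → ℤ), (∀ v ∈ Cfsg.leechLattice, (2 : ℤ) • v ∈ M) → M ≤ Cfsg.leechLattice → (∀ g : ↥Cfsg.Co0, ∀ v : ↥Cfsg.leechLattice, (v : Cfsg.GolayPt → ℤ) ∈ M → ((g • v : ↥Cfsg.leechLattice) : Cfsg.GolayPt → ℤ) ∈ M) → (∀ x ∈ M, ∃ w ∈ Cfsg.leechLattice, x = (2 : ℤ) • w) ∨ M = Cfsg.leechLattice := by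
  exact ⟨faithful, irreducible⟩

end Cfsg.Agent.S5392
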