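import Cfsg.Statements.S1567
import Cfsg.Agent.S5392

set_option autoImplicit false
open Cfsg

namespace Cfsg.Agent.S1567

open Cfsg.Agent.Lib.Lead.LX Cfsg.Agent.Lib.Lead.CW Cfsg.Agent.Lib.Lead.CO
open Cfsg.Agent.Lib.helper3 Cfsg.Agent.Lib.helper4 Cfsg.Agent.S0398 Cfsg.Agent.S1571
open Cfsg.Agent.S5392

/-- the subgroup generated by the minimal vectors -/
def Nmin : AddSubgroup (GolayPt → ℤ) :=
  AddSubgroup.closure {x : GolayPt → ℤ | x ∈ leechLattice ∧ sqNorm x = 32}

/-- the vector `(1, -3, 1^22)` -/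
def w32v : GolayPt → ℤ := fun p => if p = some 0 then -3 else 1

set_option maxRecDepth 100000 in
theorem chk_w : isLeechB w32v = true ∧ sqNorm w32v = 32 ∧ e4 (some 0) 4 + w32v = u48v := by
  decide +kernel

/-- an image under an automorphism of a sum of two minimal vectors lies in `Nmin` -/
theorem img_sum_mem (g : ↥Co0) (a b : ↥leechLattice) (ha : sqNorm a.1 = 32)
    (hb : sqNorm b.1 = 32) : (g.1 (a + b)).1 ∈ Nmin := by
  rw [g.2.1 a b]
  show (g.1 a).1 + (g.1 b).1 ∈ Nmin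
  apply AddSubgroup.add_mem
  · apply AddSubgroup.subset_closure
    exact ⟨(g.1 a).2, by rw [g.2.2 a]; exact ha⟩
  · apply AddSubgroup.subset_closure
    exact ⟨(g.1 b).2, by rw [g.2.2 b]; exact hb⟩

theorem short_mem (y : GolayPt → ℤ) (hy : y ∈ leechLattice) (hn : sqNorm y ≤ 64) : y ∈ Nmin := by
  obtain ⟨hb32, hc48, hb64, nb32, nc48, nb64, nx0, nd32, nd48, esum, esum2, nv32, nu48⟩ :=
    chk_vectors
  obtain ⟨hw, nw, ew⟩ := chk_w
  rcases Cfsg.Agent.Lib.Lead.LX.norm_cases y ((Cfsg.Agent.Lib.Lead.LX.mem_S y).2 ⟨hy, hn⟩)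
    with h | h | h | h
  · rw [(Cfsg.Agent.Lib.Lead.LX.sqNorm_eq_zero_iff y).1 h]
    exact AddSubgroup.zero_mem _
  · exact AddSubgroup.subset_closure ⟨hy, h⟩
  · obtain ⟨g, hg⟩ := trans48 ⟨y, hy⟩ h
    have e1 : u48 = v32 + ⟨w32v, isLeechB_sound _ hw⟩ := by
      apply Subtype.ext
      show u48v = e4 (some 0) 4 + w32v
      exact ew.symm
    have e2 : (⟨y, hy⟩ : ↥leechLattice) = g⁻¹.1 u48 := by
      rw [← hg]
      show _ = (g⁻¹ * g).1 _
      rw [inv_mul_cancel]
      rfl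
    have := img_sum_mem g⁻¹ v32 ⟨w32v, isLeechB_sound _ hw⟩ nv32 nw
    rw [← e1, ← e2] at this
    exact this
  · obtain ⟨g, hg⟩ := trans64 ⟨y, hy⟩ h
    have e1 : ev none = v32 + ⟨b32v, isLeechB_sound _ hb32⟩ := by
      apply Subtype.ext
      show (ev none).1 = e4 (some 0) 4 + b32v
      exact esum.symm
    have e2 : (⟨y, hy⟩ : ↥leechLattice) = g⁻¹.1 (ev none) := by
      rw [← hg]
      show _ = (g⁻¹ * g).1 _
      rw [inv_mul_cancel]
      rfl
    have := img_sum_mem g⁻¹ v32 ⟨b32v, isLeechB_sound _ hb32⟩ nv32 nb32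
    rw [← e1, ← e2] at this
    exact this

theorem sqNorm_sub_le (a b : GolayPt → ℤ) : sqNorm (a - b) ≤ 2 * sqNorm a + 2 * sqNorm b := by
  unfold sqNorm
  rw [Finset.mul_sum, Finset.mul_sum, ← Finset.sum_add_distrib]
  apply Finset.sum_le_sum
  intro p _
  rw [Pi.sub_apply]
  nlinarith [sq_nonneg (a p + b p)]

theorem sqNorm_two_nsmul (z : GolayPt → ℤ) : sqNorm (2 • z) = 4 * sqNorm z := by
  unfold sqNorm
  rw [Finset.mul_sum]
  apply Finset.sum_congr rfl
  intro p _
  rw [Pi.smul_apply]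
  simp only [nsmul_eq_mul, Nat.cast_ofNat]
  ring

theorem sqNorm_nonneg' (z : GolayPt → ℤ) : 0 ≤ sqNorm z := by
  unfold sqNorm
  exact Finset.sum_nonneg (fun p _ => sq_nonneg _)

theorem all_mem : ∀ (n : ℕ) (v : GolayPt → ℤ), v ∈ leechLattice → sqNorm v ≤ n → v ∈ Nmin := by
  intro n
  induction n using Nat.strong_induction_on with
  | _ n ih =>
    intro v hv hvn
    by_cases hs : sqNorm v ≤ 64
    · exact short_mem v hv hs
    · push Not at hs
      obtain ⟨y, hyL, hyn, z, hzL, hxyz⟩ := exists_short v hv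
      have h1 : 4 * sqNorm z ≤ 2 * sqNorm v + 2 * sqNorm y := by
        rw [← sqNorm_two_nsmul, ← hxyz]
        exact sqNorm_sub_le v y
      have h0 := sqNorm_nonneg' z
      have hz : z ∈ Nmin := by
        apply ih (sqNorm z).toNat _ z hzL
        · rw [Int.toNat_of_nonneg h0]
        · omega
      have : v = y + (z + z) := by
        rw [← two_nsmul, ← hxyz]
        abel
      rw [this]
      exact AddSubgroup.add_mem _ (short_mem y hyL hyn) (AddSubgroup.add_mem _ hz hz)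

/-- The rank-24 lattice is the additive subgroup generated by its 196560 minimal vectors. -/
theorem result : AddSubgroup.closure {x : Cfsg.GolayPt → ℤ | x ∈ Cfsg.leechLattice ∧ Cfsg.sqNorm x = 32} = Cfsg.leechLattice := by
  apply le_antisymm
  · rw [AddSubgroup.closure_le]
    intro x hx
    exact hx.1
  · intro v hv
    exact all_mem (sqNorm v).toNat v hv (by rw [Int.toNat_of_nonneg (sqNorm_nonneg' v)])

end Cfsg.Agent.S1567
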