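import Cfsg.Statements.S1573
import Cfsg.Agent.Lib.Lead.LeechMark32
import Cfsg.Agent.Lib.Lead.ConwayHex

set_option autoImplicit false
open Cfsg

namespace Cfsg.Agent.S1573

open Cfsg.Agent.Lib.Lead.LX Cfsg.Agent.Lib.Lead.CW Cfsg.Agent.Lib.Lead.CO Cfsg.Agent.Lib.Lead.CP
open Cfsg.Agent.Lib.helper3 Cfsg.Agent.Lib.helper4 Cfsg.Agent.S0398 Cfsg.Agent.S1571

/-- transfer of the count to the standard minimal vector -/
theorem transfer (v : ↥leechLattice) (g : ↥Co0) (hg : g.1 v = v32) (d s : ℤ) (hds : d = 4 * s) :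
    {w : GolayPt → ℤ | w ∈ leechLattice ∧ sqNorm w = 32 ∧ dotInt v.1 w = d}.ncard
      = {x : GolayPt → ℤ | x ∈ leechLattice ∧ sqNorm x = 32 ∧ x none + x (some 0) = s}.ncard := by
  have hdot : ∀ w : ↥leechLattice, dotInt v.1 w.1 = 4 * ((g.1 w).1 none + (g.1 w).1 (some 0)) := by
    intro w
    rw [← dot_map g v w, hg, dot_v32]
    ring
  apply Set.ncard_congr (fun w hw => (g.1 ⟨w, hw.1⟩).1)
  · intro w hw
    refine ⟨(g.1 ⟨w, hw.1⟩).2, ?_, ?_⟩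
    · rw [g.2.2]
      exact hw.2.1
    · have := hdot ⟨w, hw.1⟩
      have h2 : dotInt v.1 w = d := hw.2.2
      change dotInt v.1 w = _ at this
      omega
  · intro a b ha hb hab
    have := g.1.injective (Subtype.ext hab)
    exact congrArg Subtype.val this
  · intro b hb
    have hb' : g.1 (g⁻¹.1 ⟨b, hb.1⟩) = ⟨b, hb.1⟩ := by
      show (g * g⁻¹).1 ⟨b, hb.1⟩ = _
      rw [mul_inv_cancel]
      rfl
    refine ⟨(g⁻¹.1 ⟨b, hb.1⟩).1, ⟨(g⁻¹.1 ⟨b, hb.1⟩).2, ?_, ?_⟩, ?_⟩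
    · rw [g⁻¹.2.2]
      exact hb.2.1
    · have := hdot (g⁻¹.1 ⟨b, hb.1⟩)
      rw [hb'] at this
      rw [this, hds]
      have h3 : b none + b (some 0) = s := hb.2.2
      show 4 * (b none + b (some 0)) = 4 * s
      rw [h3]
    · show (g.1 ⟨(g⁻¹.1 ⟨b, hb.1⟩).1, _⟩).1 = b
      have : (⟨(g⁻¹.1 ⟨b, hb.1⟩).1, (g⁻¹.1 ⟨b, hb.1⟩).2⟩ : ↥leechLattice) = g⁻¹.1 ⟨b, hb.1⟩ := rfl
      rw [this, hb']

/-- Census of minimal vectors by inner product with a fixed minimal vector: 4600 have customary inner product −2, 47104 have −1, and 93150 are orthogonal. -/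
theorem result (v : Cfsg.GolayPt → ℤ) (hv : v ∈ Cfsg.leechLattice) (hvn : Cfsg.sqNorm v = 32) : {w : Cfsg.GolayPt → ℤ | w ∈ Cfsg.leechLattice ∧ Cfsg.sqNorm w = 32 ∧ Cfsg.dotInt v w = -16}.ncard = 4600 ∧ {w : Cfsg.GolayPt → ℤ | w ∈ Cfsg.leechLattice ∧ Cfsg.sqNorm w = 32 ∧ Cfsg.dotInt v w = -8}.ncard = 47104 ∧ {w : Cfsg.GolayPt → ℤ | w ∈ Cfsg.leechLattice ∧ Cfsg.sqNorm w = 32 ∧ Cfsg.dotInt v w = 0}.ncard = 93150 := by
  obtain ⟨g, hg⟩ := trans32 ⟨v, hv⟩ hvn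
  obtain ⟨c1, c2, c3⟩ := Cfsg.Agent.Lib.Lead.LC3.count32
  refine ⟨?_, ?_, ?_⟩
  · rw [← c1]
    exact transfer ⟨v, hv⟩ g hg (-16) (-4) (by norm_num)
  · rw [← c2]
    exact transfer ⟨v, hv⟩ g hg (-8) (-2) (by norm_num)
  · rw [← c3]
    exact transfer ⟨v, hv⟩ g hg 0 0 (by norm_num)

end Cfsg.Agent.S1573
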