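import Cfsg.Statements.S5118
import Cfsg.Agent.Lib.Helper26.Realize2
import Cfsg.Agent.Lib.Helper18.SylowIn

set_option autoImplicit false
open Cfsg

namespace Cfsg.Agent.S5118

open Cfsg.FusionSystem Cfsg.Agent.Lib.Helper26

variable {G : Type*} [Group G]

theorem subFS_mem_iff {H T : Subgroup G} (hTH : T ≤ H) {P : Subgroup G} {φ : P →* G} :
    φ ∈ (fusionSystemOfSubgroup H T hTH).Hom P ↔
      P ≤ T ∧ (∀ x : P, φ x ∈ T) ∧ ∃ g ∈ H, ∀ x : P, φ x = g * (x : G) * g⁻¹ := Iff.rfl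

theorem subFS_realized {H T : Subgroup G} (hTH : T ≤ H) :
    (fusionSystemOfSubgroup H T hTH).IsRealizedBy (Subgroup.inclusion hTH) := by
  refine ⟨Subgroup.inclusion_injective hTH, fun P hP φ hφ => ?_⟩
  rw [subFS_mem_iff]
  constructor
  · rintro ⟨-, -, g, hgH, hg⟩
    refine ⟨⟨g, hgH⟩, fun x => Subtype.ext ?_⟩
    exact hg x
  · rintro ⟨g, hg⟩
    refine ⟨hP, hφ, g.1, g.2, fun x => ?_⟩
    exact congrArg Subtype.val (hg x)

theorem isSylowIn_inf [Finite G] {p : ℕ} [Fact p.Prime] (S : Sylow p G) (H : Subgroup G) [H.Normal] :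
    Cfsg.Agent.Lib.Helper18.IsSylowIn p ((S : Subgroup G) ⊓ H) H := by
  apply (Cfsg.Agent.Lib.Helper18.isSylowIn_top_of_sylow S).inf_of_normal le_top
  intro x _
  exact Subgroup.le_normalizer_of_normal (Subgroup.mem_top x)

theorem subFS_saturated [Finite G] {p : ℕ} [Fact p.Prime] (S : Sylow p G) (H : Subgroup G) [H.Normal] :
    (fusionSystemOfSubgroup H ((S : Subgroup G) ⊓ H) inf_le_right).IsSaturated p := by
  obtain ⟨T', hT'⟩ := (isSylowIn_inf S H).exists_sylow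
  refine saturated_of_realized _ (subFS_realized inf_le_right) T' ?_
  rw [hT', Subgroup.inclusion_range]


theorem subFS_invariant [Finite G] {p : ℕ} [Fact p.Prime] (S : Sylow p G) (H : Subgroup G) [hHn : H.Normal] :
    (fusionSystemOfSubgroup H ((S : Subgroup G) ⊓ H) inf_le_right).IsInvariantIn
      (groupFusionSystem (S : Subgroup G)) := by
  set T : Subgroup G := (S : Subgroup G) ⊓ H with hTdef
  have hTS : T ≤ (S : Subgroup G) := inf_le_left
  have hTH : T ≤ H := inf_le_right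
  refine ⟨?_, ⟨hTS, ?_⟩, ?_, ?_⟩
  · rintro P φ ⟨hP, hφT, g, -, hg⟩
    exact ⟨hP.trans hTS, fun x => hTS (hφT x), g, hg⟩
  · rintro R hR φ ⟨-, hφS, g, hg⟩ x
    refine ⟨hφS x, ?_⟩
    rw [hg]
    exact hHn.conj_mem _ (hTH (hR x.2)) g
  · intro P hPT φ hφ α hα
    obtain ⟨-, hφT, h, hhH, hh⟩ := (subFS_mem_iff inf_le_right).mp hφ
    rw [mem_autGroup_iff _ hTS] at hα
    obtain ⟨-, -, a, ha⟩ := groupFS_mem_iff.mp hα
    have ha' : ∀ t : T, ((α t : T) : G) = a * (t : G) * a⁻¹ := ha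
    set P' : Subgroup G := (P.subgroupOf T).map (T.subtype.comp α.toMonoidHom) with hP'
    have hP'mem : ∀ y ∈ P', ∃ x : P, y = a * (x : G) * a⁻¹ := by
      rintro _ ⟨t, ht, rfl⟩
      refine ⟨⟨t, ht⟩, ?_⟩
      exact ha' t
    have hP'T : P' ≤ T := by
      rintro _ ⟨t, ht, rfl⟩
      exact (α t).2
    refine ⟨conjHom P' (a * h * a⁻¹), ?_, ?_⟩
    · rw [subFS_mem_iff]
      refine ⟨hP'T, ?_, a * h * a⁻¹, hHn.conj_mem _ hhH a, fun _ => rfl⟩
      rintro ⟨y, hy⟩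
      obtain ⟨x, rfl⟩ := hP'mem y hy
      rw [conjHom_apply]
      have e : a * h * a⁻¹ * (a * (x : G) * a⁻¹) * (a * h * a⁻¹)⁻¹ = a * (h * x * h⁻¹) * a⁻¹ := by
        group
      show a * h * a⁻¹ * (a * (x : G) * a⁻¹) * (a * h * a⁻¹)⁻¹ ∈ T
      rw [e, ← hh x]
      have := ha' ⟨φ x, hφT x⟩
      rw [← this]
      exact (α _).2
    · intro x hφx hαx
      rw [conjHom_apply]
      show a * h * a⁻¹ * ((α ⟨x, hPT x.2⟩ : T) : G) * (a * h * a⁻¹)⁻¹ = _
      rw [ha', ha']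
      show a * h * a⁻¹ * (a * (x : G) * a⁻¹) * (a * h * a⁻¹)⁻¹ = a * φ x * a⁻¹
      rw [hh x]
      group
  · intro P hPT φ hφ
    obtain ⟨hPS, hφS, g, hg⟩ := groupFS_mem_iff.mp hφ
    have hgN : g⁻¹ ∈ Subgroup.normalizer (H : Set G) := Subgroup.le_normalizer_of_normal (Subgroup.mem_top _)
    obtain ⟨n, hnH, hn⟩ := (isSylowIn_inf S H).frattini hgN
    have haN : g * n⁻¹ ∈ Subgroup.normalizer (T : Set G) := by
      have := Subgroup.inv_mem _ hn
      rwa [mul_inv_rev, inv_inv] at this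
    have hαmem : conjAut T (g * n⁻¹) haN ∈ (groupFusionSystem (S : Subgroup G)).autGroup T := by
      rw [mem_autGroup_iff _ hTS]
      exact ⟨hTS, fun x => hTS (Subtype.property _), g * n⁻¹, fun x => rfl⟩
    have hval : ∀ x : P, n * (x : G) * n⁻¹ ∈ T := by
      intro x
      have h1 : g * (x : G) * g⁻¹ ∈ T := by
        refine ⟨?_, hHn.conj_mem _ (hTH (hPT x.2)) g⟩
        rw [← hg]
        exact hφS x
      have h2 := conj_mem_of_mem_normalizer hn ⟨_, h1⟩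
      have e : n * g⁻¹ * (g * (x : G) * g⁻¹) * (n * g⁻¹)⁻¹ = n * x * n⁻¹ := by group
      rw [← e]
      exact h2
    refine ⟨conjAut T (g * n⁻¹) haN, hαmem, conjHom P n, ?_, ?_⟩
    · rw [subFS_mem_iff]
      exact ⟨hPT, hval, n, hnH, fun _ => rfl⟩
    · intro x hx
      rw [conjAut_apply, hg]
      show g * (x : G) * g⁻¹ = g * n⁻¹ * (n * (x : G) * n⁻¹) * (g * n⁻¹)⁻¹
      group


theorem conj_mem_centralizer_of_mem_normalizer {T : Subgroup G} {n k : G}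
    (hn : n ∈ Subgroup.normalizer (T : Set G)) (hk : k ∈ Subgroup.centralizer (T : Set G)) :
    n * k * n⁻¹ ∈ Subgroup.centralizer (T : Set G) := by
  rw [Subgroup.mem_centralizer_iff]
  intro t ht
  have h1 : n⁻¹ * t * n ∈ T := conj_inv_mem_of_mem_normalizer hn ⟨t, ht⟩
  have h2 := Subgroup.mem_centralizer_iff.mp hk _ h1
  calc t * (n * k * n⁻¹) = n * (n⁻¹ * t * n * k) * n⁻¹ := by group
    _ = n * (k * (n⁻¹ * t * n)) * n⁻¹ := by rw [h2]
    _ = n * k * n⁻¹ * t := by group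

theorem exists_normalizing [Finite G] {p : ℕ} [Fact p.Prime] (S : Sylow p G) (H : Subgroup G)
    [hHn : H.Normal] {h : G} (hhH : h ∈ H)
    (hhN : h ∈ Subgroup.normalizer ((((S : Subgroup G) ⊓ H : Subgroup G)) : Set G)) :
    ∃ c ∈ H ⊓ Subgroup.centralizer ((((S : Subgroup G) ⊓ H : Subgroup G)) : Set G),
      c * h ∈ Subgroup.normalizer
        ((centralizerIn (S : Subgroup G) ((S : Subgroup G) ⊓ H) : Subgroup G) : Set G) := by
  set T : Subgroup G := (S : Subgroup G) ⊓ H with hTdef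
  set C : Subgroup G := centralizerIn (S : Subgroup G) T with hCdef
  set K : Subgroup G := H ⊓ Subgroup.centralizer (T : Set G) with hKdef
  have hT : Cfsg.Agent.Lib.Helper18.IsSylowIn p T H := isSylowIn_inf S H
  have hnormK : ∀ n : G, n ∈ Subgroup.normalizer (T : Set G) → n ∈ Subgroup.normalizer (K : Set G) := by
    intro n hn
    apply mem_normalizer_of_forall
    · rintro k ⟨hkH, hkC⟩
      exact ⟨hHn.conj_mem _ hkH n, conj_mem_centralizer_of_mem_normalizer hn hkC⟩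
    · rintro k ⟨hkH, hkC⟩
      have := conj_mem_centralizer_of_mem_normalizer (Subgroup.inv_mem _ hn) hkC
      rw [inv_inv] at this
      have h2 := hHn.conj_mem _ hkH n⁻¹
      rw [inv_inv] at h2
      exact ⟨h2, this⟩
  have hcentN : Subgroup.centralizer (T : Set G) ≤ Subgroup.normalizer (T : Set G) :=
    centralizer_le_normalizer_aux T
  have hCK : C ≤ Subgroup.normalizer (K : Set G) := fun s hs => hnormK s (hcentN hs.2)
  have hTK : T ⊓ K = C ⊓ K := by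
    ext x
    constructor
    · rintro ⟨⟨hxS, hxH⟩, hxK⟩
      exact ⟨⟨hxS, hxK.2⟩, hxK⟩
    · rintro ⟨⟨hxS, hxC⟩, hxK⟩
      exact ⟨⟨hxS, hxK.1⟩, hxK⟩
  have hsylZ : Cfsg.Agent.Lib.Helper18.IsSylowIn p (T ⊓ K) K := by
    have h1 : Cfsg.Agent.Lib.Helper18.IsSylowIn p T (H ⊓ Subgroup.normalizer (T : Set G)) :=
      hT.of_le (le_inf inf_le_right Subgroup.le_normalizer) inf_le_left
    apply h1.inf_of_normal
    · rintro k ⟨hkH, hkC⟩
      exact ⟨hkH, hcentN hkC⟩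
    · rintro n ⟨-, hn⟩
      exact hnormK n hn
  have hCp : IsPGroup p C := S.isPGroup'.to_le inf_le_left
  have hsylC : Cfsg.Agent.Lib.Helper18.IsSylowIn p C (C ⊔ K) := by
    refine ⟨le_sup_left, hCp, ?_⟩
    rw [Cfsg.Agent.Lib.Helper18.relIndex_sup_of_le_normalizer C K hCK, ← Subgroup.inf_relIndex_right,
      ← hTK]
    exact hsylZ.not_dvd
  have hconj : Cfsg.Agent.Lib.Helper18.conjSub h C ≤ C ⊔ K := by
    rintro _ ⟨x, hx, rfl⟩
    have hx' : x ∈ C := hx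
    show h * x * h⁻¹ ∈ C ⊔ K
    have e : h * x * h⁻¹ = (h * x * h⁻¹ * x⁻¹) * x := by group
    rw [e]
    refine Subgroup.mul_mem _ (Subgroup.mem_sup_right ⟨?_, ?_⟩) (Subgroup.mem_sup_left hx')
    · have h1 : x * h⁻¹ * x⁻¹ ∈ H := hHn.conj_mem _ (H.inv_mem hhH) x
      have e2 : h * x * h⁻¹ * x⁻¹ = h * (x * h⁻¹ * x⁻¹) := by group
      rw [e2]
      exact H.mul_mem hhH h1
    · exact Subgroup.mul_mem _ (conj_mem_centralizer_of_mem_normalizer hhN hx'.2)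
        (Subgroup.inv_mem _ hx'.2)
  obtain ⟨y, hy, hle⟩ := hsylC.exists_conj_le hconj (Cfsg.Agent.Lib.Helper18.conjSub_isPGroup hCp)
  have hy' : y ∈ ((C ⊔ K : Subgroup G) : Set G) := hy
  rw [Subgroup.coe_mul_of_left_le_normalizer_right C K hCK] at hy'
  obtain ⟨s, hs, c, hc, rfl⟩ := Set.mem_mul.mp hy'
  refine ⟨c, hc, ?_⟩
  apply Cfsg.Agent.Lib.Helper18.mem_normalizer_of_conjSub_le
  rintro _ ⟨x, hx, rfl⟩
  have hx' : x ∈ C := hx
  have h1 : s * c * (h * x * h⁻¹) * (s * c)⁻¹ ∈ C :=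
    hle (Cfsg.Agent.Lib.Helper18.conj_mem_conjSub (Cfsg.Agent.Lib.Helper18.conj_mem_conjSub hx'))
  have hs' : s ∈ C := hs
  have h2 : s⁻¹ * (s * c * (h * x * h⁻¹) * (s * c)⁻¹) * s ∈ C :=
    C.mul_mem (C.mul_mem (C.inv_mem hs') h1) hs'
  have e : s⁻¹ * (s * c * (h * x * h⁻¹) * (s * c)⁻¹) * s = c * h * x * (c * h)⁻¹ := by group
  rw [e] at h2
  exact h2


theorem result {G : Type*} [Group G] [Finite G] (p : ℕ) [Fact p.Prime] (S : Sylow p G) (H : Subgroup G) [H.Normal] : (Cfsg.fusionSystemOfSubgroup H ((S : Subgroup G) ⊓ H) inf_le_right).IsNormalIn (Cfsg.groupFusionSystem (S : Subgroup G)) p := by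
  have hHn : H.Normal := inferInstance
  refine ⟨⟨subFS_saturated S H, Cfsg.Agent.S5076.result p S, subFS_invariant S H⟩, ?_⟩
  intro α hα
  rw [mem_autGroup_iff _ le_rfl] at hα
  obtain ⟨-, -, h, hhH, hh⟩ := (subFS_mem_iff inf_le_right).mp hα
  have hh' : ∀ t : ↥((S : Subgroup G) ⊓ H), ((α t : ↥((S : Subgroup G) ⊓ H)) : G) = h * (t : G) * h⁻¹ := hh
  have hhN : h ∈ Subgroup.normalizer ((((S : Subgroup G) ⊓ H : Subgroup G)) : Set G) :=
    mem_normalizer_of_conj_aut hh'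
  obtain ⟨c, ⟨hcH, hcC⟩, hcN⟩ := exists_normalizing S H hhH hhN
  have hcT : c ∈ Subgroup.normalizer ((((S : Subgroup G) ⊓ H : Subgroup G)) : Set G) :=
    centralizer_le_normalizer_aux _ hcC
  have hgT : c * h ∈ Subgroup.normalizer ((((S : Subgroup G) ⊓ H : Subgroup G)) : Set G) :=
    Subgroup.mul_mem _ hcT hhN
  have hgTC : c * h ∈ Subgroup.normalizer
      (((((S : Subgroup G) ⊓ H) ⊔ centralizerIn (S : Subgroup G) ((S : Subgroup G) ⊓ H) : Subgroup G)) : Set G) :=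
    Subgroup.normalizer_inf_normalizer_le_normalizer_sup _ _ ⟨hgT, hcN⟩
  have hTCS : ((S : Subgroup G) ⊓ H) ⊔ centralizerIn (S : Subgroup G) ((S : Subgroup G) ⊓ H) ≤ (S : Subgroup G) :=
    sup_le inf_le_left inf_le_left
  refine ⟨conjAut _ (c * h) hgTC, ?_, ?_, ?_⟩
  · rw [mem_autGroup_iff _ hTCS]
    exact ⟨hTCS, fun x => hTCS (Subtype.property _), c * h, fun x => rfl⟩
  · intro x
    rw [conjAut_apply, hh']
    show c * h * (x : G) * (c * h)⁻¹ = h * (x : G) * h⁻¹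
    have h1 : h * (x : G) * h⁻¹ ∈ (S : Subgroup G) ⊓ H := conj_mem_of_mem_normalizer hhN x
    have h2 := conj_eq_of_mem_centralizer hcC h1
    rw [← h2]
    group
  · intro x hx
    rw [conjAut_apply]
    have h1 : c * h * (x : G) * (c * h)⁻¹ ∈ centralizerIn (S : Subgroup G) ((S : Subgroup G) ⊓ H) :=
      conj_mem_of_mem_normalizer hcN ⟨_, hx⟩
    have hgH : c * h ∈ H := H.mul_mem hcH hhH
    refine ⟨⟨?_, ?_⟩, ?_⟩
    · exact Subgroup.mul_mem _ (Subgroup.inv_mem _ hx.1) h1.1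
    · have h3 : (x : G)⁻¹ * (c * h) * ((x : G)⁻¹)⁻¹ ∈ H := hHn.conj_mem _ hgH _
      have e : (x : G)⁻¹ * (c * h * (x : G) * (c * h)⁻¹) = (x : G)⁻¹ * (c * h) * ((x : G)⁻¹)⁻¹ * (c * h)⁻¹ := by
        group
      rw [e]
      exact H.mul_mem h3 (H.inv_mem hgH)
    · exact Subgroup.mul_mem _ (Subgroup.inv_mem _ hx.2) h1.2

end Cfsg.Agent.S5118
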