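import Cfsg.Statements.S0832
import Mathlib
import Cfsg.Statements.S0832
import Cfsg.Agent.Lib.helper6.WittQuad

set_option autoImplicit false
open Cfsg

namespace Cfsg.Agent.S0832
open Cfsg
open Cfsg.Agent.Lib.helper6.Witt

variable {F : Type*} [Field F] {m : ℕ}

noncomputable def QP (F : Type*) [Field F] (m : ℕ) : QuadraticForm F (Fin m ⊕ Fin m → F) :=
  LinearMap.BilinMap.toQuadraticMap
    (Matrix.toBilin' (Matrix.fromBlocks 0 1 0 0 : Matrix (Fin m ⊕ Fin m) (Fin m ⊕ Fin m) F))

theorem QP_apply (x : Fin m ⊕ Fin m → F) : QP F m x = quadFormPlus m F x := by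
  unfold QP quadFormPlus
  rw [LinearMap.BilinMap.toQuadraticMap_apply, Matrix.toBilin'_apply']
  simp [dotProduct, Matrix.mulVec, Fintype.sum_sum_type, Matrix.one_apply]

theorem QP_polar (x y : Fin m ⊕ Fin m → F) :
    QuadraticMap.polar (QP F m) x y
      = ∑ i : Fin m, (x (.inl i) * y (.inr i) + x (.inr i) * y (.inl i)) := by
  unfold QuadraticMap.polar
  rw [QP_apply, QP_apply, QP_apply]
  unfold quadFormPlus
  rw [← Finset.sum_sub_distrib, ← Finset.sum_sub_distrib]
  apply Finset.sum_congr rfl
  intro i _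
  simp only [Pi.add_apply]; ring

theorem QP_polar_single_inl (x : Fin m ⊕ Fin m → F) (i : Fin m) :
    QuadraticMap.polar (QP F m) x (Pi.single (Sum.inl i) 1) = x (.inr i) := by
  rw [QP_polar]
  rw [Finset.sum_eq_single i]
  · simp
  · intro j _ hj
    simp [Pi.single_apply, hj]
  · simp

theorem QP_polar_single_inr (x : Fin m ⊕ Fin m → F) (i : Fin m) :
    QuadraticMap.polar (QP F m) x (Pi.single (Sum.inr i) 1) = x (.inl i) := by
  rw [QP_polar]
  rw [Finset.sum_eq_single i]
  · simp
  · intro j _ hj
    simp [Pi.single_apply, hj]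
  · simp

theorem QP_nondeg : (QuadraticMap.polarBilin (QP F m)).Nondegenerate := by
  have hL : (QuadraticMap.polarBilin (QP F m)).SeparatingLeft := by
    intro x hx
    funext k
    rcases k with i | i
    · have := hx (Pi.single (Sum.inr i) 1)
      rw [QuadraticMap.polarBilin_apply_apply, QP_polar_single_inr] at this
      exact this
    · have := hx (Pi.single (Sum.inl i) 1)
      rw [QuadraticMap.polarBilin_apply_apply, QP_polar_single_inl] at this
      exact this
  refine ⟨hL, ?_⟩
  intro y hy
  apply hL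
  intro x
  have := hy x
  rw [QuadraticMap.polarBilin_apply_apply] at this ⊢
  rw [QuadraticMap.polar_comm]
  exact this

/-- coordinate subspace -/
def Zc {ι : Type*} (F : Type*) [Field F] (p : ι → Prop) : Submodule F (ι → F) where
  carrier := {v | ∀ i, p i → v i = 0}
  add_mem' := by
    intro a b ha hb i hi
    rw [Pi.add_apply, ha i hi, hb i hi, add_zero]
  zero_mem' := by
    intro i _
    rfl
  smul_mem' := by
    intro c a ha i hi
    rw [Pi.smul_apply, ha i hi, smul_zero]

theorem mem_Zc {ι : Type*} (p : ι → Prop) (v : ι → F) : v ∈ Zc F p ↔ ∀ i, p i → v i = 0 := Iff.rfl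

theorem finrank_Zc {ι : Type*} [Fintype ι] (p : ι → Prop) [DecidablePred p] :
    Module.finrank F (Zc F p) + Fintype.card {i // p i} = Fintype.card ι := by
  have h1 : Zc F p = LinearMap.ker (LinearMap.funLeft F F (Subtype.val : {i // p i} → ι)) := by
    ext v
    rw [mem_Zc, LinearMap.mem_ker]
    constructor
    · intro h
      funext i
      exact h i.1 i.2
    · intro h i hi
      exact congrFun h ⟨i, hi⟩
  have h2 := LinearMap.finrank_range_add_finrank_ker
    (LinearMap.funLeft F F (Subtype.val : {i // p i} → ι))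
  rw [LinearMap.range_eq_top.mpr
    (LinearMap.funLeft_surjective_of_injective F F _ Subtype.val_injective), finrank_top,
    Module.finrank_fintype_fun_eq_card, Module.finrank_fintype_fun_eq_card, ← h1] at h2
  omega

/-- the predicate on `W` -/
def IsGood (m : ℕ) (U W : Submodule F (Fin m ⊕ Fin m → F)) : Prop :=
  Module.finrank F W = m ∧ (∀ w ∈ W, Cfsg.quadFormPlus m F w = 0) ∧ U ≤ W

theorem isGood_map (U W : Submodule F (Fin m ⊕ Fin m → F))
    (g : (Fin m ⊕ Fin m → F) ≃ₗ[F] (Fin m ⊕ Fin m → F))
    (hg : ∀ v, quadFormPlus m F (g v) = quadFormPlus m F v) :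
    IsGood m (U.map (g : (Fin m ⊕ Fin m → F) →ₗ[F] (Fin m ⊕ Fin m → F)))
      (W.map (g : (Fin m ⊕ Fin m → F) →ₗ[F] (Fin m ⊕ Fin m → F))) ↔ IsGood m U W := by
  unfold IsGood
  rw [LinearEquiv.finrank_map_eq, Submodule.map_le_map_iff_of_injective g.injective]
  constructor
  · rintro ⟨h1, h2, h3⟩
    refine ⟨h1, ?_, h3⟩
    intro w hw
    rw [← hg]
    exact h2 _ (Submodule.mem_map_of_mem hw)
  · rintro ⟨h1, h2, h3⟩
    refine ⟨h1, ?_, h3⟩
    rintro w ⟨w', hw', rfl⟩
    show quadFormPlus m F (g w') = 0
    rw [hg]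
    exact h2 _ hw'

theorem card_good_map (U : Submodule F (Fin m ⊕ Fin m → F))
    (g : (Fin m ⊕ Fin m → F) ≃ₗ[F] (Fin m ⊕ Fin m → F))
    (hg : ∀ v, quadFormPlus m F (g v) = quadFormPlus m F v) :
    Nat.card {W // IsGood m U W}
      = Nat.card {W // IsGood m (U.map (g : (Fin m ⊕ Fin m → F) →ₗ[F] (Fin m ⊕ Fin m → F))) W} := by
  apply Nat.card_congr
  refine Equiv.subtypeEquiv (Submodule.orderIsoMapComap g).toEquiv ?_
  intro W
  exact (isGood_map U W g hg).symm

def pU (l : Fin m) (k : Fin m ⊕ Fin m) : Prop := k = Sum.inl l ∨ k.isRight = true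
def pA (k : Fin m ⊕ Fin m) : Prop := k.isRight = true
def pB (l : Fin m) (k : Fin m ⊕ Fin m) : Prop := k = Sum.inl l ∨ (k.isRight = true ∧ k ≠ Sum.inr l)

instance (l : Fin m) : DecidablePred (pU l) := fun k => by unfold pU; infer_instance
instance : DecidablePred (pA (m := m)) := fun k => by unfold pA; infer_instance
instance (l : Fin m) : DecidablePred (pB l) := fun k => by unfold pB; infer_instance

theorem card_pA : Fintype.card {k : Fin m ⊕ Fin m // pA k} = m := by
  rw [Fintype.card_subtype, Finset.card_filter, Fintype.sum_sum_type]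
  simp [pA]

theorem card_pU (l : Fin m) : Fintype.card {k : Fin m ⊕ Fin m // pU l k} = m + 1 := by
  rw [Fintype.card_subtype, Finset.card_filter, Fintype.sum_sum_type]
  simp [pU]
  omega

theorem card_pB (l : Fin m) : Fintype.card {k : Fin m ⊕ Fin m // pB l k} = m := by
  rw [Fintype.card_subtype, Finset.card_filter, Fintype.sum_sum_type]
  simp [pB]
  have h1 : ∑ x : Fin m, ((if x = l then 0 else 1) + (if x = l then 1 else 0)) = m := by
    have : ∀ x : Fin m, ((if x = l then 0 else 1) + (if x = l then 1 else 0)) = 1 := by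
      intro x; split_ifs <;> rfl
    simp [this]
  rw [Finset.sum_add_distrib] at h1
  simp at h1
  omega

theorem finrank_ZA : Module.finrank F (Zc F (pA (m := m))) = m := by
  have := finrank_Zc (F := F) (pA (m := m))
  rw [card_pA] at this
  simp at this
  omega

theorem finrank_ZB (l : Fin m) : Module.finrank F (Zc F (pB l)) = m := by
  have := finrank_Zc (F := F) (pB l)
  rw [card_pB] at this
  simp at this
  omega

theorem finrank_ZU (l : Fin m) : Module.finrank F (Zc F (pU l)) + 1 = m := by
  have := finrank_Zc (F := F) (pU l)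
  rw [card_pU] at this
  simp at this
  omega

theorem std_case (l : Fin m) (W : Submodule F (Fin m ⊕ Fin m → F)) :
    IsGood m (Zc F (pU l)) W ↔ W = Zc F pA ∨ W = Zc F (pB l) := by
  constructor
  · rintro ⟨h1, h2, h3⟩
    -- step 1
    have s1 : ∀ w ∈ W, ∀ i, i ≠ l → w (Sum.inr i) = 0 := by
      intro w hw i hi
      have he : (Pi.single (Sum.inl i) 1 : Fin m ⊕ Fin m → F) ∈ W := by
        apply h3
        rw [mem_Zc]
        intro k hk
        rcases hk with hk | hk
        · rw [hk, Pi.single_apply, if_neg]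
          intro h
          exact hi (Sum.inl.inj h).symm
        · rcases k with j | j
          · simp at hk
          · simp
      have e1 := h2 _ (W.add_mem hw he)
      rw [← QP_apply, Q_add, QP_apply, QP_apply, h2 _ hw, h2 _ he, QP_polar_single_inl] at e1
      simpa using e1
    have s2 : ∀ w ∈ W, w (Sum.inl l) * w (Sum.inr l) = 0 := by
      intro w hw
      have e1 := h2 w hw
      unfold quadFormPlus at e1
      rw [Finset.sum_eq_single l] at e1
      · exact e1
      · intro j _ hj
        rw [s1 w hw j hj, mul_zero]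
      · simp
    have s3 : (∀ w ∈ W, w (Sum.inr l) = 0) ∨ (∀ w ∈ W, w (Sum.inl l) = 0) := by
      by_contra hcon
      rw [not_or] at hcon
      obtain ⟨hc1, hc2⟩ := hcon
      push Not at hc1 hc2
      obtain ⟨w, hw, hw1⟩ := hc1
      obtain ⟨w', hw', hw2⟩ := hc2
      have a1 : w (Sum.inl l) = 0 := by
        rcases mul_eq_zero.mp (s2 w hw) with h | h
        · exact h
        · exact absurd h hw1
      have a2 : w' (Sum.inr l) = 0 := by
        rcases mul_eq_zero.mp (s2 w' hw') with h | h
        · exact absurd h hw2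
        · exact h
      have a3 := s2 _ (W.add_mem hw hw')
      rw [Pi.add_apply, Pi.add_apply, a1, a2, zero_add, add_zero] at a3
      rcases mul_eq_zero.mp a3 with h | h
      · exact hw2 h
      · exact hw1 h
    rcases s3 with s3 | s3
    · left
      apply Submodule.eq_of_le_of_finrank_eq
      · intro w hw
        rw [mem_Zc]
        intro k hk
        rcases k with j | j
        · simp [pA] at hk
        · by_cases hj : j = l
          · rw [hj]; exact s3 w hw
          · exact s1 w hw j hj
      · rw [h1, finrank_ZA]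
    · right
      apply Submodule.eq_of_le_of_finrank_eq
      · intro w hw
        rw [mem_Zc]
        intro k hk
        rcases hk with hk | ⟨hk1, hk2⟩
        · rw [hk]; exact s3 w hw
        · rcases k with j | j
          · simp at hk1
          · apply s1 w hw j
            intro h
            exact hk2 (by rw [h])
      · rw [h1, finrank_ZB]
  · rintro (h | h)
    · rw [h]
      refine ⟨finrank_ZA, ?_, ?_⟩
      · intro w hw
        unfold quadFormPlus
        apply Finset.sum_eq_zero
        intro i _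
        rw [(mem_Zc _ _).mp hw (Sum.inr i) (by simp [pA]), mul_zero]
      · intro w hw
        rw [mem_Zc] at hw ⊢
        intro k hk
        exact hw k (Or.inr hk)
    · rw [h]
      refine ⟨finrank_ZB l, ?_, ?_⟩
      · intro w hw
        unfold quadFormPlus
        apply Finset.sum_eq_zero
        intro i _
        by_cases hi : i = l
        · rw [hi, (mem_Zc _ _).mp hw (Sum.inl l) (Or.inl rfl), zero_mul]
        · rw [(mem_Zc _ _).mp hw (Sum.inr i) (Or.inr ⟨rfl, fun h => hi (Sum.inr.inj h)⟩), mul_zero]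
      · intro w hw
        rw [mem_Zc] at hw ⊢
        intro k hk
        rcases hk with hk | ⟨hk1, hk2⟩
        · exact hw k (Or.inl hk)
        · exact hw k (Or.inr hk1)

theorem ZA_ne_ZB (l : Fin m) : Zc F (pA (m := m)) ≠ Zc F (pB l) := by
  intro h
  have h1 : (Pi.single (Sum.inl l) 1 : Fin m ⊕ Fin m → F) ∈ Zc F (pA (m := m)) := by
    rw [mem_Zc]
    intro k hk
    rcases k with j | j
    · simp [pA] at hk
    · simp
  rw [h, mem_Zc] at h1
  have := h1 (Sum.inl l) (Or.inl rfl)
  simp at this

theorem card_std (l : Fin m) : Nat.card {W // IsGood m (Zc F (pU l)) W} = 2 := by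
  have : {W | IsGood m (Zc F (pU l)) W} = {Zc F pA, Zc F (pB l)} := by
    ext W
    rw [Set.mem_setOf_eq, std_case]
    rfl
  show Nat.card ↥{W | IsGood m (Zc F (pU l)) W} = 2
  rw [this, Nat.card_coe_set_eq, Set.ncard_pair (ZA_ne_ZB l)]

theorem main [Finite F] (m : ℕ) (hm : 1 ≤ m) (U : Submodule F (Fin m ⊕ Fin m → F)) (hU : Module.finrank F U + 1 = m ∧ ∀ u ∈ U, Cfsg.quadFormPlus m F u = 0) : Nat.card {W : Submodule F (Fin m ⊕ Fin m → F) // Module.finrank F W = m ∧ (∀ w ∈ W, Cfsg.quadFormPlus m F w = 0) ∧ U ≤ W} = 2 := by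
  let l : Fin m := ⟨m - 1, by omega⟩
  have hfr : Module.finrank F U = Module.finrank F (Zc F (pU l)) := by
    have := finrank_ZU (F := F) l
    omega
  let φ : U ≃ₗ[F] (Zc F (pU l)) := LinearEquiv.ofFinrankEq _ _ hfr
  obtain ⟨g, hg, hgU⟩ := witt_quad (QP F m) QP_nondeg U (Zc F (pU l)) φ (by
    intro x
    rw [QP_apply, QP_apply, hU.2 _ x.2]
    have := (std_case l (Zc F pA)).mpr (Or.inl rfl)
    exact this.2.1 _ (this.2.2 (φ x).2))
  have hg' : ∀ v, quadFormPlus m F (g v) = quadFormPlus m F v := by
    intro v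
    rw [← QP_apply, ← QP_apply]; exact hg v
  have hmap : U.map (g : (Fin m ⊕ Fin m → F) →ₗ[F] (Fin m ⊕ Fin m → F)) = Zc F (pU l) := by
    apply le_antisymm
    · rintro _ ⟨u, hu, rfl⟩
      have := hgU ⟨u, hu⟩
      show g u ∈ _
      simp only at this
      rw [this]
      exact (φ ⟨u, hu⟩).2
    · intro y hy
      refine ⟨(φ.symm ⟨y, hy⟩ : U), (φ.symm ⟨y, hy⟩).2, ?_⟩
      have := hgU (φ.symm ⟨y, hy⟩)
      rw [LinearEquiv.apply_symm_apply] at this
      exact this
  have := card_good_map U g hg'
  rw [hmap, card_std] at this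
  exact this


/-- For the form Σ x_i y_i on F^(2m) over a finite field, m ≥ 1: an (m−1)-dimensional subspace on which the form vanishes is contained in exactly two m-dimensional subspaces on which it vanishes. -/
theorem result {F : Type*} [Field F] [Finite F] (m : ℕ) (hm : 1 ≤ m) (U : Submodule F (Fin m ⊕ Fin m → F)) (hU : Module.finrank F U + 1 = m ∧ ∀ u ∈ U, Cfsg.quadFormPlus m F u = 0) : Nat.card {W : Submodule F (Fin m ⊕ Fin m → F) // Module.finrank F W = m ∧ (∀ w ∈ W, Cfsg.quadFormPlus m F w = 0) ∧ U ≤ W} = 2 := by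
  exact main m hm U hU

end Cfsg.Agent.S0832
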