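import Cfsg.Statements.S0831
import Mathlib
import Cfsg.Statements.S0831
import Cfsg.Agent.S0832

set_option autoImplicit false
open Cfsg

namespace Cfsg.Agent.S0831
open Cfsg
open Cfsg.Agent.Lib.helper6.Witt Cfsg.Agent.S0832

variable {F : Type*} [Field F] {m : ℕ}

theorem card_good (hm : 1 ≤ m) (U : Submodule F (Fin m ⊕ Fin m → F))
    (hU : Module.finrank F U + 1 = m ∧ ∀ u ∈ U, Cfsg.quadFormPlus m F u = 0) :
    Nat.card {W // IsGood m U W} = 2 := by
  let l : Fin m := ⟨m - 1, by omega⟩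
  have hfr : Module.finrank F U = Module.finrank F (Zc F (pU l)) := by
    have := finrank_ZU (F := F) l
    omega
  let φ : U ≃ₗ[F] (Zc F (pU l)) := LinearEquiv.ofFinrankEq _ _ hfr
  obtain ⟨g, hg, hgU⟩ := witt_quad (QP F m) QP_nondeg U (Zc F (pU l)) φ (by
    intro x
    rw [QP_apply, QP_apply, hU.2 _ x.2]
    have := (std_case l (Zc F pA)).mpr (Or.inl rfl)
    exact this.2.1 _ (this.2.2 (φ x).2))
  have hg' : ∀ v, quadFormPlus m F (g v) = quadFormPlus m F v := by
    intro v
    rw [← QP_apply, ← QP_apply]; exact hg v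
  have hmap : U.map (g : (Fin m ⊕ Fin m → F) →ₗ[F] (Fin m ⊕ Fin m → F)) = Zc F (pU l) := by
    apply le_antisymm
    · rintro _ ⟨u, hu, rfl⟩
      have := hgU ⟨u, hu⟩
      show g u ∈ _
      simp only at this
      rw [this]
      exact (φ ⟨u, hu⟩).2
    · intro y hy
      refine ⟨(φ.symm ⟨y, hy⟩ : U), (φ.symm ⟨y, hy⟩).2, ?_⟩
      have := hgU (φ.symm ⟨y, hy⟩)
      rw [LinearEquiv.apply_symm_apply] at this
      exact this
  have := card_good_map U g hg'
  rw [hmap, card_std] at this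
  exact this

theorem two_max (hm : 1 ≤ m) (H : Submodule F (Fin m ⊕ Fin m → F))
    (hH : Module.finrank F H + 1 = m ∧ ∀ u ∈ H, Cfsg.quadFormPlus m F u = 0)
    (W X Y : Submodule F (Fin m ⊕ Fin m → F)) (hW : IsGood m H W) (hX : IsGood m H X)
    (hY : IsGood m H Y) (hWX : W ≠ X) : Y = W ∨ Y = X := by
  have h := card_good hm H hH
  change Nat.card ↥{W | IsGood m H W} = 2 at h
  rw [Nat.card_coe_set_eq, Set.ncard_eq_two] at h
  obtain ⟨a, b, hab, hs⟩ := h
  have hW' : W ∈ ({a, b} : Set _) := by rw [← hs]; exact hW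
  have hX' : X ∈ ({a, b} : Set _) := by rw [← hs]; exact hX
  have hY' : Y ∈ ({a, b} : Set _) := by rw [← hs]; exact hY
  simp only [Set.mem_insert_iff, Set.mem_singleton_iff] at hW' hX' hY'
  rcases hW' with rfl | rfl <;> rcases hX' with rfl | rfl <;> rcases hY' with rfl | rfl <;> simp_all

/-- the polar form -/
noncomputable abbrev bP (F : Type*) [Field F] (m : ℕ) : LinearMap.BilinForm F (Fin m ⊕ Fin m → F) :=
  QuadraticMap.polarBilin (QP F m)

def TS (m : ℕ) (U : Submodule F (Fin m ⊕ Fin m → F)) : Prop :=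
  ∀ w ∈ U, quadFormPlus m F w = 0

theorem TS.mono {A B : Submodule F (Fin m ⊕ Fin m → F)} (h : TS m B) (hAB : A ≤ B) : TS m A :=
  fun w hw => h w (hAB hw)

theorem bP_apply (u v : Fin m ⊕ Fin m → F) :
    bP F m u v = quadFormPlus m F (u + v) - quadFormPlus m F u - quadFormPlus m F v := by
  rw [QuadraticMap.polarBilin_apply_apply]
  unfold QuadraticMap.polar
  rw [QP_apply, QP_apply, QP_apply]

theorem q_add (u v : Fin m ⊕ Fin m → F) :
    quadFormPlus m F (u + v) = quadFormPlus m F u + quadFormPlus m F v + bP F m u v := by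
  rw [bP_apply]; ring

theorem q_smul (c : F) (u : Fin m ⊕ Fin m → F) :
    quadFormPlus m F (c • u) = c * c * quadFormPlus m F u := by
  rw [← QP_apply, ← QP_apply, QuadraticMap.map_smul]
  rfl

theorem ts_polar {U : Submodule F (Fin m ⊕ Fin m → F)} (h : TS m U) (u v : Fin m ⊕ Fin m → F)
    (hu : u ∈ U) (hv : v ∈ U) : bP F m u v = 0 := by
  rw [bP_apply, h _ (U.add_mem hu hv), h _ hu, h _ hv]
  simp

theorem ts_le_orth {U : Submodule F (Fin m ⊕ Fin m → F)} (h : TS m U) :
    U ≤ (bP F m).orthogonal U := by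
  intro u hu
  rw [LinearMap.BilinForm.mem_orthogonal_iff]
  intro n hn
  exact ts_polar h n u hn hu

theorem bP_symm (u v : Fin m ⊕ Fin m → F) : bP F m u v = bP F m v u := by
  rw [bP_apply, bP_apply, add_comm]; ring

theorem bP_refl : (bP F m).IsRefl := by
  intro x y h
  rw [bP_symm]; exact h

theorem finrank_V : Module.finrank F (Fin m ⊕ Fin m → F) = m + m := by
  rw [Module.finrank_fintype_fun_eq_card, Fintype.card_sum, Fintype.card_fin]

theorem finrank_orth (A : Submodule F (Fin m ⊕ Fin m → F)) :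
    Module.finrank F ((bP F m).orthogonal A) = m + m - Module.finrank F A := by
  rw [LinearMap.BilinForm.finrank_orthogonal QP_nondeg, finrank_V]

theorem max_orth {U : Submodule F (Fin m ⊕ Fin m → F)} (h1 : Module.finrank F U = m)
    (h2 : TS m U) : (bP F m).orthogonal U = U := by
  symm
  apply Submodule.eq_of_le_of_finrank_eq (ts_le_orth h2)
  rw [finrank_orth, h1]
  omega

theorem orth_sup (A B : Submodule F (Fin m ⊕ Fin m → F)) :
    (bP F m).orthogonal (A ⊔ B) = (bP F m).orthogonal A ⊓ (bP F m).orthogonal B := by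
  apply le_antisymm
  · exact le_inf (LinearMap.BilinForm.orthogonal_le le_sup_left)
      (LinearMap.BilinForm.orthogonal_le le_sup_right)
  · rintro x ⟨hxA, hxB⟩
    rw [SetLike.mem_coe, LinearMap.BilinForm.mem_orthogonal_iff] at hxA hxB
    rw [LinearMap.BilinForm.mem_orthogonal_iff]
    intro n hn
    obtain ⟨a, ha, b, hb, rfl⟩ := Submodule.mem_sup.mp hn
    rw [map_add, LinearMap.add_apply, hxA a ha, hxB b hb, add_zero]

theorem ts_sup {A B : Submodule F (Fin m ⊕ Fin m → F)} (hA : TS m A) (hB : TS m B)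
    (hAB : A ≤ (bP F m).orthogonal B) : TS m (A ⊔ B) := by
  intro w hw
  obtain ⟨a, ha, b, hb, rfl⟩ := Submodule.mem_sup.mp hw
  rw [q_add, hA a ha, hB b hb, bP_symm]
  have := (LinearMap.BilinForm.mem_orthogonal_iff.mp (hAB ha)) b hb
  rw [this]; simp

def MaxTS (m : ℕ) (U : Submodule F (Fin m ⊕ Fin m → F)) : Prop :=
  Module.finrank F U = m ∧ TS m U

theorem adj_aux (U W X : Submodule F (Fin m ⊕ Fin m → F))
    (hW : MaxTS m W) (hX : MaxTS m X)
    (hA : U ⊓ (bP F m).orthogonal (W ⊓ X) ≤ W)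
    (hfA : Module.finrank F ↥(U ⊓ (bP F m).orthogonal (W ⊓ X))
      = Module.finrank F ↥(U ⊓ (W ⊓ X)) + 1) :
    Module.finrank F ↥(U ⊓ W) = Module.finrank F ↥(U ⊓ X) + 1 := by
  have hWo : W ≤ (bP F m).orthogonal (W ⊓ X) :=
    le_trans (ts_le_orth hW.2) (LinearMap.BilinForm.orthogonal_le inf_le_left)
  have hXo : X ≤ (bP F m).orthogonal (W ⊓ X) :=
    le_trans (ts_le_orth hX.2) (LinearMap.BilinForm.orthogonal_le inf_le_right)
  have e1 : U ⊓ W = U ⊓ (bP F m).orthogonal (W ⊓ X) := by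
    apply le_antisymm
    · exact inf_le_inf_left U hWo
    · exact le_inf inf_le_left hA
  have e2 : U ⊓ X = U ⊓ (W ⊓ X) := by
    apply le_antisymm
    · apply le_inf inf_le_left
      apply le_inf _ inf_le_right
      exact le_trans (inf_le_inf_left U hXo) hA
    · exact inf_le_inf_left U inf_le_right
  rw [e1, e2, hfA]

theorem adj_step (hm : 1 ≤ m) (U W X : Submodule F (Fin m ⊕ Fin m → F))
    (hU : MaxTS m U) (hW : MaxTS m W) (hX : MaxTS m X)
    (hWX : Module.finrank F ↥(W ⊓ X) + 1 = m) :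
    Module.finrank F ↥(U ⊓ W) = Module.finrank F ↥(U ⊓ X) + 1 ∨
    Module.finrank F ↥(U ⊓ X) = Module.finrank F ↥(U ⊓ W) + 1 := by
  set H := W ⊓ X with hH
  have hHts : TS m H := hW.2.mono inf_le_left
  have hHo : H ≤ (bP F m).orthogonal H := ts_le_orth hHts
  set A := U ⊓ (bP F m).orthogonal H with hAdef
  have hA1 : A = (bP F m).orthogonal (U ⊔ H) := by
    rw [orth_sup, max_orth hU.1 hU.2]
  have hUH : Module.finrank F ↥(U ⊓ H) ≤ Module.finrank F H := Submodule.finrank_mono inf_le_right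
  have hfA : Module.finrank F A = Module.finrank F ↥(U ⊓ H) + 1 := by
    rw [hA1, finrank_orth]
    have := Submodule.finrank_sup_add_finrank_inf_eq U H
    rw [hU.1] at this
    omega
  have hAH : A ⊓ H = U ⊓ H := by
    rw [hAdef, inf_assoc, inf_eq_right.mpr hHo]
  have hfU' : Module.finrank F ↥(A ⊔ H) = m := by
    have := Submodule.finrank_sup_add_finrank_inf_eq A H
    rw [hAH, hfA] at this
    omega
  have hU'ts : TS m (A ⊔ H) := ts_sup (hU.2.mono inf_le_left) hHts inf_le_right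
  have hWne : W ≠ X := by
    intro h
    rw [hH, h, inf_idem, hX.1] at hWX
    omega
  have hg : IsGood m H (A ⊔ H) := ⟨hfU', hU'ts, le_sup_right⟩
  have hgW : IsGood m H W := ⟨hW.1, hW.2, inf_le_left⟩
  have hgX : IsGood m H X := ⟨hX.1, hX.2, inf_le_right⟩
  rcases two_max hm H ⟨hWX, hHts⟩ W X (A ⊔ H) hgW hgX hg hWne with h | h
  · left
    apply adj_aux U W X hW hX
    · exact le_of_le_of_eq (le_sup_left : A ≤ A ⊔ H) h
    · exact hfA
  · right
    apply adj_aux U X W hX hW
    · rw [inf_comm X W]; exact le_of_le_of_eq (le_sup_left : A ≤ A ⊔ H) h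
    · rw [inf_comm X W]; exact hfA

theorem exists_not_mem {W X : Submodule F (Fin m ⊕ Fin m → F)} (hW : MaxTS m W) (hX : MaxTS m X)
    (hWX : W ≠ X) : ∃ w ∈ W, w ∉ X := by
  by_contra hcon
  push Not at hcon
  apply hWX
  apply Submodule.eq_of_le_of_finrank_eq hcon
  rw [hW.1, hX.1]

theorem closer (hm : 1 ≤ m) (W X : Submodule F (Fin m ⊕ Fin m → F))
    (hW : MaxTS m W) (hX : MaxTS m X) (hWX : W ≠ X) :
    ∃ X' : Submodule F (Fin m ⊕ Fin m → F), MaxTS m X' ∧
      Module.finrank F ↥(X' ⊓ X) + 1 = m ∧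
      Module.finrank F ↥(W ⊓ X') = Module.finrank F ↥(W ⊓ X) + 1 := by
  obtain ⟨w, hwW, hwX⟩ := exists_not_mem hW hX hWX
  have hw0 : w ≠ 0 := by
    rintro rfl
    exact hwX X.zero_mem
  set S : Submodule F (Fin m ⊕ Fin m → F) := Submodule.span F {w} with hS
  have hSW : S ≤ W := by
    rw [hS, Submodule.span_singleton_le_iff_mem]; exact hwW
  have hSts : TS m S := hW.2.mono hSW
  have hfS : Module.finrank F S = 1 := finrank_span_singleton hw0
  have hXS : X ⊓ S = ⊥ := by
    rw [eq_bot_iff]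
    rintro x ⟨hxX, hxS⟩
    obtain ⟨c, rfl⟩ := Submodule.mem_span_singleton.mp hxS
    rw [Submodule.mem_bot]
    by_cases hc : c = 0
    · rw [hc, zero_smul]
    · exfalso
      apply hwX
      have := X.smul_mem c⁻¹ hxX
      rwa [smul_smul, inv_mul_cancel₀ hc, one_smul] at this
  set B := X ⊓ (bP F m).orthogonal S with hBdef
  have hB1 : B = (bP F m).orthogonal (X ⊔ S) := by
    rw [orth_sup, max_orth hX.1 hX.2]
  have hfXS : Module.finrank F ↥(X ⊔ S) = m + 1 := by
    have := Submodule.finrank_sup_add_finrank_inf_eq X S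
    rw [hXS, finrank_bot, hX.1, hfS] at this
    omega
  have hfB : Module.finrank F B + 1 = m := by
    rw [hB1, finrank_orth, hfXS]
    omega
  have hBS : B ⊓ S = ⊥ := by
    rw [eq_bot_iff, ← hXS]
    exact inf_le_inf_right S inf_le_left
  have hfX' : Module.finrank F ↥(B ⊔ S) = m := by
    have := Submodule.finrank_sup_add_finrank_inf_eq B S
    rw [hBS, finrank_bot, hfS] at this
    omega
  have hX'ts : TS m (B ⊔ S) := ts_sup (hX.2.mono inf_le_left) hSts inf_le_right
  have hX' : MaxTS m (B ⊔ S) := ⟨hfX', hX'ts⟩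
  have hwX' : w ∈ B ⊔ S := (le_sup_right : S ≤ B ⊔ S) (Submodule.mem_span_singleton_self w)
  -- X' ⊓ X has dimension m - 1
  have h1 : Module.finrank F ↥((B ⊔ S) ⊓ X) + 1 = m := by
    have hge : Module.finrank F B ≤ Module.finrank F ↥((B ⊔ S) ⊓ X) :=
      Submodule.finrank_mono (le_inf le_sup_left inf_le_left)
    have hlt : Module.finrank F ↥((B ⊔ S) ⊓ X) < Module.finrank F ↥(B ⊔ S) := by
      apply Submodule.finrank_lt_finrank_of_lt
      refine lt_of_le_of_ne inf_le_left ?_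
      intro h
      have : B ⊔ S ≤ X := by rw [← h]; exact inf_le_right
      exact hwX (this hwX')
    omega
  refine ⟨B ⊔ S, hX', h1, ?_⟩
  -- W ⊓ X' ≥ (W ⊓ X) ⊔ S
  have hWo : W ≤ (bP F m).orthogonal S :=
    le_trans (ts_le_orth hW.2) (LinearMap.BilinForm.orthogonal_le hSW)
  have h2 : (W ⊓ X) ⊔ S ≤ W ⊓ (B ⊔ S) := by
    apply sup_le
    · apply le_inf inf_le_left
      refine le_trans ?_ le_sup_left
      exact le_inf inf_le_right (le_trans inf_le_left hWo)
    · exact le_inf hSW le_sup_right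
  have h3 : Module.finrank F ↥((W ⊓ X) ⊔ S) = Module.finrank F ↥(W ⊓ X) + 1 := by
    have := Submodule.finrank_sup_add_finrank_inf_eq (W ⊓ X) S
    have hbot : (W ⊓ X) ⊓ S = ⊥ := by
      rw [eq_bot_iff, ← hXS]
      exact inf_le_inf_right S inf_le_right
    rw [hbot, finrank_bot, hfS] at this
    omega
  have h4 := Submodule.finrank_mono (R := F) h2
  rcases adj_step hm W (B ⊔ S) X hW hX' hX h1 with h | h
  · exact h
  · omega

theorem parity (hm : 1 ≤ m) : ∀ k : ℕ, ∀ W X : Submodule F (Fin m ⊕ Fin m → F),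
    MaxTS m W → MaxTS m X → m - Module.finrank F ↥(W ⊓ X) = k →
    ∀ U : Submodule F (Fin m ⊕ Fin m → F), MaxTS m U →
    Even ((m - Module.finrank F ↥(U ⊓ W)) + (m - Module.finrank F ↥(W ⊓ X))
      + (m - Module.finrank F ↥(U ⊓ X))) := by
  intro k
  induction k with
  | zero =>
    intro W X hW hX hk U hU
    have h1 : Module.finrank F ↥(W ⊓ X) ≤ Module.finrank F W := Submodule.finrank_mono inf_le_left
    have h2 : W ⊓ X = W := by
      apply Submodule.eq_of_le_of_finrank_eq inf_le_left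
      rw [hW.1] at h1 ⊢
      omega
    have h3 : W ⊓ X = X := by
      apply Submodule.eq_of_le_of_finrank_eq inf_le_right
      rw [h2, hW.1, hX.1]
    have h4 : W = X := by rw [← h2, h3]
    subst h4
    rw [inf_idem, hW.1, Nat.even_iff]
    omega
  | succ k ih =>
    intro W X hW hX hk U hU
    have hWX : W ≠ X := by
      intro h
      rw [h, inf_idem, hX.1] at hk
      omega
    obtain ⟨X', hX', h1, h2⟩ := closer hm W X hW hX hWX
    have h3 := ih W X' hW hX' (by omega) U hU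
    have h4 := adj_step hm U X' X hU hX' hX h1
    have b1 : Module.finrank F ↥(U ⊓ X) ≤ m :=
      le_of_le_of_eq (Submodule.finrank_mono inf_le_right) hX.1
    have b2 : Module.finrank F ↥(U ⊓ X') ≤ m :=
      le_of_le_of_eq (Submodule.finrank_mono inf_le_right) hX'.1
    have b3 : Module.finrank F ↥(W ⊓ X') ≤ m :=
      le_of_le_of_eq (Submodule.finrank_mono inf_le_right) hX'.1
    rw [Nat.even_iff] at h3 ⊢
    omega

theorem ZA_inf_ZB (l : Fin m) : Zc F (pA (m := m)) ⊓ Zc F (pB l) = Zc F (pU l) := by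
  ext v
  rw [Submodule.mem_inf, mem_Zc, mem_Zc, mem_Zc]
  constructor
  · rintro ⟨h1, h2⟩ k hk
    rcases hk with hk | hk
    · exact h2 k (Or.inl hk)
    · exact h1 k hk
  · intro h
    constructor
    · intro k hk
      exact h k (Or.inr hk)
    · intro k hk
      rcases hk with hk | ⟨hk1, _⟩
      · exact h k (Or.inl hk)
      · exact h k (Or.inr hk1)

theorem main31 (m : ℕ) (hm : 1 ≤ m) : (∀ U W X : Submodule F (Fin m ⊕ Fin m → F), (Module.finrank F U = m ∧ ∀ w ∈ U, Cfsg.quadFormPlus m F w = 0) → (Module.finrank F W = m ∧ ∀ w ∈ W, Cfsg.quadFormPlus m F w = 0) → (Module.finrank F X = m ∧ ∀ w ∈ X, Cfsg.quadFormPlus m F w = 0) → Even ((m - Module.finrank F ↥(U ⊓ W)) + (m - Module.finrank F ↥(W ⊓ X)) + (m - Module.finrank F ↥(U ⊓ X)))) ∧ ∃ U W : Submodule F (Fin m ⊕ Fin m → F), (Module.finrank F U = m ∧ ∀ w ∈ U, Cfsg.quadFormPlus m F w = 0) ∧ (Module.finrank F W = m ∧ ∀ w ∈ W, Cfsg.quadFormPlus m F w = 0) ∧ Module.finrank F ↥(U ⊓ W) + 1 = m := by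
  constructor
  · intro U W X hU hW hX
    exact parity hm _ W X hW hX rfl U hU
  · let l : Fin m := ⟨m - 1, by omega⟩
    have hA := (std_case (F := F) l (Zc F pA)).mpr (Or.inl rfl)
    have hB := (std_case (F := F) l (Zc F (pB l))).mpr (Or.inr rfl)
    refine ⟨Zc F pA, Zc F (pB l), ⟨hA.1, hA.2.1⟩, ⟨hB.1, hB.2.1⟩, ?_⟩
    rw [ZA_inf_ZB]
    exact finrank_ZU l


/-- The two families of maximal totally singular subspaces of the hyperbolic quadric: for the form Σ x_i y_i on F^(2m), m ≥ 1, and m-dimensional subspaces U, W, X on which it vanishes, the parities of m − dim(U ∩ W), m − dim(W ∩ X) and m − dim(U ∩ X) sum to an even number (so 'even codimension of the intersection' is an equivalence relation), and there exist two such subspaces meeting in codimension 1 (so there are exactly two classes). -/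
theorem result {F : Type*} [Field F] (m : ℕ) (hm : 1 ≤ m) : (∀ U W X : Submodule F (Fin m ⊕ Fin m → F), (Module.finrank F U = m ∧ ∀ w ∈ U, Cfsg.quadFormPlus m F w = 0) → (Module.finrank F W = m ∧ ∀ w ∈ W, Cfsg.quadFormPlus m F w = 0) → (Module.finrank F X = m ∧ ∀ w ∈ X, Cfsg.quadFormPlus m F w = 0) → Even ((m - Module.finrank F ↥(U ⊓ W)) + (m - Module.finrank F ↥(W ⊓ X)) + (m - Module.finrank F ↥(U ⊓ X)))) ∧ ∃ U W : Submodule F (Fin m ⊕ Fin m → F), (Module.finrank F U = m ∧ ∀ w ∈ U, Cfsg.quadFormPlus m F w = 0) ∧ (Module.finrank F W = m ∧ ∀ w ∈ W, Cfsg.quadFormPlus m F w = 0) ∧ Module.finrank F ↥(U ⊓ W) + 1 = m := by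
  exact main31 m hm

end Cfsg.Agent.S0831
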