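import Cfsg.Statements.S0888
import Mathlib
import Cfsg.Agent.Lib.helper7.ProjExt

set_option autoImplicit false
open Cfsg

namespace Cfsg.Agent.S0888

/-- Let N be a normal subgroup of the finite group G and ϑ an irreducible character of N invariant under conjugation by G. Suppose that for every prime p there are a subgroup P containing N, of index prime to p and with the index of N in P a power of p, and an irreducible character of P restricting to ϑ. Then ϑ is the restriction of an irreducible character of G. -/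
theorem result {G : Type*} [Group G] [Finite G] (N : Subgroup G) [hN : N.Normal] (ϑ : N → ℂ) (hϑ : Cfsg.IsIrrCharacter N ϑ) (hinv : ∀ (g : G) (n : N), ϑ ⟨g * n * g⁻¹, hN.conj_mem (n : G) n.2 g⟩ = ϑ n) (hsyl : ∀ p : ℕ, p.Prime → ∃ (P : Subgroup G) (hNP : N ≤ P) (η : P → ℂ), Nat.Coprime P.index p ∧ (∃ k : ℕ, N.relIndex P = p ^ k) ∧ Cfsg.IsIrrCharacter P η ∧ ∀ n : N, η ⟨(n : G), hNP n.2⟩ = ϑ n) : ∃ χ : G → ℂ, Cfsg.IsIrrCharacter G χ ∧ ∀ n : N, χ n = ϑ n := by
  classical
  haveI : Fintype G := Fintype.ofFinite G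
  obtain ⟨m, ρ, hρ, hρχ⟩ := hϑ
  haveI := hρ
  have hinv' : ∀ (g : G) (n : N), ρ.character (MulAut.conjNormal g n) = ρ.character n := by
    intro g n
    rw [hρχ]
    exact hinv g n
  obtain ⟨σ, hσirr, hσN⟩ := Cfsg.Agent.Lib.helper7.h7_extend_of_coprime_indices N ρ hinv' (by
    intro p hp
    obtain ⟨P, hNP, η, hcop, _, hη, hηN⟩ := hsyl p hp
    obtain ⟨k, τ, hτ, hτη⟩ := hη
    refine ⟨P, hNP, hcop, Cfsg.Agent.Lib.helper7.h7_S_of_char N P hNP ρ τ ?_⟩
    intro n
    rw [hτη, hρχ]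
    exact hηN n)
  refine ⟨σ.character, ⟨m, σ, hσirr, rfl⟩, ?_⟩
  intro n
  rw [← hρχ]
  simp only [Representation.character]
  rw [hσN]

end Cfsg.Agent.S0888
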