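import Cfsg.Statements.S5024
import Cfsg.Agent.Lib.Helper26.RankOne
import Cfsg.Agent.S5028
import Cfsg.Agent.S5025

set_option autoImplicit false
open Cfsg

namespace Cfsg.Agent.S5024

open Cfsg.Agent.S5013 Cfsg.Agent.S5014 Cfsg.Agent.Lib.Helper26
open scoped commutatorElement

theorem exists_ne_one {G : Type*} [Group G] {A : Subgroup G} (h : A ≠ ⊥) : ∃ a ∈ A, a ≠ 1 := by
  obtain ⟨⟨a, ha⟩, ha1⟩ := Subgroup.ne_bot_iff_exists_ne_one.mp h
  exact ⟨a, ha, fun h1 => ha1 (Subtype.ext h1)⟩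

theorem unipotent_eq_of_commute {G : Type*} [Group G] {C D : Subgroup G}
    (h : Cfsg.IsRankOnePair C D) {E₁ E₂ : Subgroup G} (h1 : E₁ ∈ Cfsg.unipotentSubgroups C D)
    (h2 : E₂ ∈ Cfsg.unipotentSubgroups C D) (hc : ∀ x ∈ E₁, ∀ y ∈ E₂, x * y = y * x) :
    E₁ = E₂ := by
  by_contra hne
  obtain ⟨x, -, hx1, hx2⟩ := (Cfsg.Agent.S5014.result h).2.1 E₁ h1 E₂ h2 C
    (A_mem_unipotent C D) D (B_mem_unipotent h) hne h.ne
  apply rankOne_not_commute h
  intro c hc' d hd
  rw [← hx1, mem_conjBy_iff] at hc'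
  rw [← hx2, mem_conjBy_iff] at hd
  have h3 := hc _ hc' _ hd
  have h4 : x⁻¹ * (c * d) * x = x⁻¹ * (d * c) * x := by
    calc x⁻¹ * (c * d) * x = (x⁻¹ * c * x) * (x⁻¹ * d * x) := by group
      _ = (x⁻¹ * d * x) * (x⁻¹ * c * x) := h3
      _ = x⁻¹ * (d * c) * x := by group
  exact mul_left_cancel (mul_right_cancel h4)

theorem unipotent_comm {G : Type*} [Group G] {C D : Subgroup G} (h : Cfsg.IsRankOnePair C D) :
    Cfsg.unipotentSubgroups D C = Cfsg.unipotentSubgroups C D := by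
  obtain ⟨y, hy, hDy⟩ := B_mem_unipotent h
  ext E
  constructor
  · rintro ⟨x, hx, rfl⟩
    rw [sup_comm] at hx
    refine ⟨x * y, Subgroup.mul_mem _ hx hy, ?_⟩
    rw [hDy, conjBy_conjBy]
  · rintro ⟨x, hx, rfl⟩
    refine ⟨x * y⁻¹, ?_, ?_⟩
    · rw [sup_comm]
      exact Subgroup.mul_mem _ hx (Subgroup.inv_mem _ hy)
    · rw [hDy, conjBy_conjBy]
      congr 1
      group

theorem mem_unipotent_of_not_commute {G : Type*} [Group G] {S : Set (Subgroup G)}
    (hS : Cfsg.IsRootSubgroupSet S) {A C D : Subgroup G} (hAS : A ∈ S) (hCS : C ∈ S) (hDS : D ∈ S)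
    (hCD : Cfsg.IsRankOnePair C D) (hle : A ≤ C ⊔ D) (hne : ⁅A, C⁆ ≠ ⊥) :
    A ∈ Cfsg.unipotentSubgroups C D := by
  rcases hS.pair A hAS C hCS with h1 | h1 | h1
  · exact absurd h1 hne
  · obtain ⟨a, ha, ha1⟩ := ne_bot_left h1
    obtain ⟨c, hc, -, hce⟩ := rankOne_exists_left h1 ha ha1
    have h2 : Cfsg.conjBy C a ∈ Cfsg.unipotentSubgroups C D :=
      conjBy_mem_unipotent (A_mem_unipotent C D) (hle ha)
    have h3 : A = Cfsg.conjBy (Cfsg.conjBy C a) c⁻¹ := by
      rw [← hce, conjBy_conjBy, inv_mul_cancel, conjBy_one]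
    rw [h3]
    exact conjBy_mem_unipotent h2 (Subgroup.inv_mem _ (Subgroup.mem_sup_left hc))
  · exfalso
    have hFS : ⁅A, C⁆ ∈ S := h1.1
    have hFc : ∀ f ∈ ⁅A, C⁆, ∀ c ∈ C, f * c = c * f :=
      fun f hf c hc => h1.2.1 f hf c (Subgroup.mem_sup_right hc)
    have hFa : ∀ f ∈ ⁅A, C⁆, ∀ a ∈ A, f * a = a * f :=
      fun f hf a ha => h1.2.1 f hf a (Subgroup.mem_sup_left ha)
    have hCY : C ≤ C ⊔ D := le_sup_left
    have hFY : ⁅A, C⁆ ≤ C ⊔ D := by
      rw [Subgroup.commutator_le]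
      intro a ha c hc
      rw [commutatorElement_def]
      exact Subgroup.mul_mem _ (Subgroup.mul_mem _ (Subgroup.mul_mem _ (hle ha) (hCY hc))
        (Subgroup.inv_mem _ (hle ha))) (Subgroup.inv_mem _ (hCY hc))
    rcases hS.pair _ hFS D hDS with h2 | h2 | h2
    · obtain ⟨a, ha, ha1⟩ := exists_ne_one (hS.ne_bot A hAS)
      have h3 := h1.2.2.1 a ha ha1
      have h4 : ∃ c ∈ C, a * c * a⁻¹ * c⁻¹ ≠ 1 := by
        by_contra hcon
        apply hS.ne_bot _ hFS
        rw [← h3, Subgroup.closure_eq_bot_iff]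
        rintro _ ⟨c, hc, rfl⟩
        rw [Set.mem_singleton_iff]
        by_contra h5
        exact hcon ⟨c, hc, h5⟩
      obtain ⟨c, hc, hf1⟩ := h4
      have hfF : a * c * a⁻¹ * c⁻¹ ∈ ⁅A, C⁆ := by
        have := Subgroup.commutator_mem_commutator ha hc
        rw [commutatorElement_def] at this
        exact this
      have hc1 : c ≠ 1 := by
        rintro rfl
        apply hf1
        group
      have hz : a * c * a⁻¹ * c⁻¹ ∈ Subgroup.centralizer ((C ⊔ D : Subgroup G) : Set G) := by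
        have h5 : C ⊔ D ≤ Subgroup.centralizer {a * c * a⁻¹ * c⁻¹} := by
          apply sup_le
          · intro x hx
            rw [Subgroup.mem_centralizer_iff]
            intro y hy
            rw [Set.mem_singleton_iff] at hy
            rw [hy]
            exact hFc _ hfF x hx
          · intro x hx
            rw [Subgroup.mem_centralizer_iff]
            intro y hy
            rw [Set.mem_singleton_iff] at hy
            rw [hy]
            exact Cfsg.Agent.S5028.commute_of_commutator_eq_bot h2 hfF hx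
        rw [Subgroup.mem_centralizer_iff]
        intro x hx
        have h6 := h5 hx
        rw [Subgroup.mem_centralizer_iff] at h6
        exact (h6 _ rfl).symm
      have h7 := Cfsg.Agent.S5025.result hS hCS ⟨hDS, hCD⟩ hz hf1 c hc hc1
      apply h7
      have h8 : a * c * a⁻¹ * c⁻¹ * c = a * c * a⁻¹ := by group
      rw [h8]
      refine ⟨?_, Cfsg.conjBy C a, hS.conj_mem C hCS a, ?_⟩
      · intro h9
        apply hc1
        calc c = a⁻¹ * (a * c * a⁻¹) * a := by group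
          _ = 1 := by rw [h9]; group
      · rw [mem_conjBy_iff]
        have : a⁻¹ * (a * c * a⁻¹) * a = c := by group
        rw [this]; exact hc
    · obtain ⟨f, hf, hf1⟩ := ne_bot_left h2
      obtain ⟨d, hd, hd1, hde⟩ := rankOne_exists_left h2 hf hf1
      obtain ⟨c, hc, -, hce⟩ := rankOne_exists_left (Cfsg.RankOnePair_symm hCD) hd hd1
      have h3 : Cfsg.conjBy ⁅A, C⁆ (c * d) = Cfsg.conjBy C (f * d) := by
        calc Cfsg.conjBy ⁅A, C⁆ (c * d) = Cfsg.conjBy (Cfsg.conjBy ⁅A, C⁆ d) c :=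
              (conjBy_conjBy _ _ _).symm
          _ = Cfsg.conjBy (Cfsg.conjBy D f) c := by rw [hde]
          _ = Cfsg.conjBy D (c * f) := conjBy_conjBy _ _ _
          _ = Cfsg.conjBy D (f * c) := by rw [hFc f hf c hc]
          _ = Cfsg.conjBy (Cfsg.conjBy D c) f := (conjBy_conjBy _ _ _).symm
          _ = Cfsg.conjBy (Cfsg.conjBy C d) f := by rw [hce]
          _ = Cfsg.conjBy C (f * d) := conjBy_conjBy _ _ _
      have h4 : ⁅A, C⁆ = Cfsg.conjBy C ((c * d)⁻¹ * (f * d)) := by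
        have := congrArg (fun K => Cfsg.conjBy K (c * d)⁻¹) h3
        simp only [conjBy_conjBy, inv_mul_cancel, conjBy_one] at this
        exact this
      have hdY : d ∈ C ⊔ D := Subgroup.mem_sup_right hd
      have h5 : ⁅A, C⁆ ∈ Cfsg.unipotentSubgroups C D :=
        ⟨_, Subgroup.mul_mem _ (Subgroup.inv_mem _ (Subgroup.mul_mem _ (hCY hc) hdY))
          (Subgroup.mul_mem _ (hFY hf) hdY), h4⟩
      have h6 : ⁅A, C⁆ = C :=
        unipotent_eq_of_commute hCD h5 (A_mem_unipotent C D) (fun x hx y hy => hFc x hx y hy)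
      apply hne
      rw [eq_bot_iff, Subgroup.commutator_le]
      intro a ha c' hc'
      rw [Subgroup.mem_bot, commutatorElement_eq_one_iff_mul_comm]
      have h7 : c' ∈ ⁅A, C⁆ := by rw [h6]; exact hc'
      exact (hFa c' h7 a ha).symm
    · have hF'S := h2.1
      have hnorm : ∀ f ∈ ⁅A, C⁆, Cfsg.conjBy D f = D := by
        intro f hf
        apply unipotent_eq_of_commute hCD
          (conjBy_mem_unipotent (B_mem_unipotent hCD) (hFY hf)) (B_mem_unipotent hCD)
        intro x hx y hy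
        rw [mem_conjBy_iff] at hx
        have h3 := commutatorCase_conj_commute (hS.commutative D hDS) h2 hf hx hy
        have h4 : f * (f⁻¹ * x * f) * f⁻¹ = x := by group
        rw [h4] at h3
        exact h3
      have hF'D : ⁅⁅A, C⁆, D⁆ ≤ D := by
        rw [Subgroup.commutator_le]
        intro f hf d hd
        have h3 : f * d * f⁻¹ ∈ Cfsg.conjBy D f := by
          rw [mem_conjBy_iff]
          have : f⁻¹ * (f * d * f⁻¹) * f = d := by group
          rw [this]; exact hd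
        rw [hnorm f hf] at h3
        rw [commutatorElement_def]
        exact D.mul_mem h3 (D.inv_mem hd)
      obtain ⟨x, hx, hx1⟩ := exists_ne_one (hS.ne_bot _ hF'S)
      have h3 : D = ⁅⁅A, C⁆, D⁆ :=
        Cfsg.Agent.S5028.inter_trivial hS hDS hCS hF'S (Cfsg.RankOnePair_symm hCD)
          (hF'D hx) hx hx1
      apply hS.ne_bot _ hF'S
      rw [eq_bot_iff, Subgroup.commutator_le]
      intro f hf d hd
      rw [Subgroup.mem_bot, commutatorElement_eq_one_iff_mul_comm]
      have hd' : d ∈ ⁅⁅A, C⁆, D⁆ := by rw [← h3]; exact hd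
      exact (h2.2.1 d hd' f (Subgroup.mem_sup_left hf)).symm

theorem mem_unipotent {G : Type*} [Group G] {S : Set (Subgroup G)}
    (hS : Cfsg.IsRootSubgroupSet S) {A B C D : Subgroup G} (hAS : A ∈ S) (hCS : C ∈ S)
    (hDS : D ∈ S) (hAB : Cfsg.IsRankOnePair A B) (hCD : Cfsg.IsRankOnePair C D)
    (hle : A ⊔ B ≤ C ⊔ D) : A ∈ Cfsg.unipotentSubgroups C D := by
  have hA : A ≤ C ⊔ D := le_trans le_sup_left hle
  by_cases h1 : ⁅A, C⁆ = ⊥
  · have h2 : ⁅A, D⁆ ≠ ⊥ := by
      intro h2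
      apply rankOne_not_commute hAB
      intro a ha b hb
      have h3 : C ⊔ D ≤ Subgroup.centralizer {a} := by
        apply sup_le
        · intro x hx
          rw [Subgroup.mem_centralizer_iff]
          intro y hy
          rw [Set.mem_singleton_iff] at hy
          rw [hy]
          exact Cfsg.Agent.S5028.commute_of_commutator_eq_bot h1 ha hx
        · intro x hx
          rw [Subgroup.mem_centralizer_iff]
          intro y hy
          rw [Set.mem_singleton_iff] at hy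
          rw [hy]
          exact Cfsg.Agent.S5028.commute_of_commutator_eq_bot h2 ha hx
      have h4 := h3 (hle (Subgroup.mem_sup_right hb))
      rw [Subgroup.mem_centralizer_iff] at h4
      exact h4 a rfl
    rw [← unipotent_comm hCD]
    refine mem_unipotent_of_not_commute hS hAS hDS hCS (Cfsg.RankOnePair_symm hCD) ?_ h2
    rw [sup_comm]
    exact hA
  · exact mem_unipotent_of_not_commute hS hAS hCS hDS hCD hA h1

theorem result {G : Type*} [Group G] {S : Set (Subgroup G)} (hS : Cfsg.IsRootSubgroupSet S)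
    {A B C D : Subgroup G} (hA : A ∈ S) (hC : C ∈ S) (hB : B ∈ Cfsg.rankOnePartners S A) (hD : D ∈ Cfsg.rankOnePartners S C)
    (hle : A ⊔ B ≤ C ⊔ D) : A ⊔ B = C ⊔ D ∧ C ∈ Cfsg.unipotentSubgroups A B ∧ D ∈ Cfsg.unipotentSubgroups A B := by
  obtain ⟨hBS, hAB⟩ := hB
  obtain ⟨hDS, hCD⟩ := hD
  have hAΛ := mem_unipotent hS hA hC hDS hAB hCD hle
  have hBΛ := mem_unipotent hS hBS hC hDS (Cfsg.RankOnePair_symm hAB) hCD
    (by rw [sup_comm]; exact hle)
  obtain ⟨y, hy, hy1, hy2⟩ := (Cfsg.Agent.S5014.result hCD).2.1 C (A_mem_unipotent C D) D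
    (B_mem_unipotent hCD) A hAΛ B hBΛ hCD.ne hAB.ne
  have h1 : A ⊔ B = C ⊔ D := by
    rw [← hy1, ← hy2]
    show Subgroup.map _ C ⊔ Subgroup.map _ D = C ⊔ D
    rw [← Subgroup.map_sup]
    exact conjBy_eq_of_mem_normalizer (Subgroup.le_normalizer hy)
  refine ⟨h1, ?_, ?_⟩
  · refine ⟨y⁻¹, ?_, ?_⟩
    · rw [h1]; exact Subgroup.inv_mem _ hy
    · rw [← hy1, conjBy_conjBy, inv_mul_cancel, conjBy_one]
  · obtain ⟨w, hw, hBw⟩ := B_mem_unipotent hAB
    refine ⟨y⁻¹ * w, ?_, ?_⟩
    · exact Subgroup.mul_mem _ (by rw [h1]; exact Subgroup.inv_mem _ hy) hw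
    · rw [← conjBy_conjBy, ← hBw, ← hy2, conjBy_conjBy, inv_mul_cancel, conjBy_one]

end Cfsg.Agent.S5024
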