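import Cfsg.Statements.S5136

set_option autoImplicit false
open Cfsg

namespace Cfsg.Agent.S5136

theorem hom_of_eq {Ω : Type*} [Group Ω] {S : Subgroup Ω} (F : Cfsg.FusionSystem S)
    {P Q : Subgroup Ω} (h : P = Q) {φ : P →* Ω} (hφ : φ ∈ F.Hom P) :
    φ.comp (Subgroup.inclusion h.ge) ∈ F.Hom Q := by
  subst h
  have : φ.comp (Subgroup.inclusion (le_refl P)) = φ := by
    ext x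
    rfl
  rw [this]
  exact hφ

section

variable {Ω₁ Ω₂ : Type*} [Group Ω₁] [Group Ω₂] {S₁ : Subgroup Ω₁} {S₂ : Subgroup Ω₂}

theorem fst_mem (P : Subgroup (Ω₁ × Ω₂)) (x : P) :
    (x : Ω₁ × Ω₂).1 ∈ P.map (MonoidHom.fst Ω₁ Ω₂) := ⟨x.1, x.2, rfl⟩

theorem snd_mem (P : Subgroup (Ω₁ × Ω₂)) (x : P) :
    (x : Ω₁ × Ω₂).2 ∈ P.map (MonoidHom.snd Ω₁ Ω₂) := ⟨x.1, x.2, rfl⟩

def HomSet (F₁ : Cfsg.FusionSystem S₁) (F₂ : Cfsg.FusionSystem S₂) (P : Subgroup (Ω₁ × Ω₂)) :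
    Set (P →* Ω₁ × Ω₂) :=
  {φ | P ≤ S₁.prod S₂ ∧
      ∃ φ₁ ∈ F₁.Hom (P.map (MonoidHom.fst Ω₁ Ω₂)), ∃ φ₂ ∈ F₂.Hom (P.map (MonoidHom.snd Ω₁ Ω₂)),
        ∀ (x : P) (h₁ : (x : Ω₁ × Ω₂).1 ∈ P.map (MonoidHom.fst Ω₁ Ω₂))
          (h₂ : (x : Ω₁ × Ω₂).2 ∈ P.map (MonoidHom.snd Ω₁ Ω₂)),
          φ x = (φ₁ ⟨(x : Ω₁ × Ω₂).1, h₁⟩, φ₂ ⟨(x : Ω₁ × Ω₂).2, h₂⟩)}

theorem map_fst_range {P : Subgroup (Ω₁ × Ω₂)} {φ : P →* Ω₁ × Ω₂}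
    {φ₁ : P.map (MonoidHom.fst Ω₁ Ω₂) →* Ω₁} {φ₂ : P.map (MonoidHom.snd Ω₁ Ω₂) →* Ω₂}
    (h : ∀ (x : P) (h₁ : (x : Ω₁ × Ω₂).1 ∈ P.map (MonoidHom.fst Ω₁ Ω₂))
          (h₂ : (x : Ω₁ × Ω₂).2 ∈ P.map (MonoidHom.snd Ω₁ Ω₂)),
          φ x = (φ₁ ⟨(x : Ω₁ × Ω₂).1, h₁⟩, φ₂ ⟨(x : Ω₁ × Ω₂).2, h₂⟩)) :
    φ.range.map (MonoidHom.fst Ω₁ Ω₂) = φ₁.range := by
  ext y
  constructor
  · rintro ⟨_, ⟨x, rfl⟩, rfl⟩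
    rw [h x (fst_mem P x) (snd_mem P x)]
    exact ⟨_, rfl⟩
  · rintro ⟨⟨_, ⟨x, hx, rfl⟩⟩, rfl⟩
    refine ⟨φ ⟨x, hx⟩, ⟨_, rfl⟩, ?_⟩
    rw [h ⟨x, hx⟩ (fst_mem P ⟨x, hx⟩) (snd_mem P ⟨x, hx⟩)]
    rfl

theorem map_snd_range {P : Subgroup (Ω₁ × Ω₂)} {φ : P →* Ω₁ × Ω₂}
    {φ₁ : P.map (MonoidHom.fst Ω₁ Ω₂) →* Ω₁} {φ₂ : P.map (MonoidHom.snd Ω₁ Ω₂) →* Ω₂}
    (h : ∀ (x : P) (h₁ : (x : Ω₁ × Ω₂).1 ∈ P.map (MonoidHom.fst Ω₁ Ω₂))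
          (h₂ : (x : Ω₁ × Ω₂).2 ∈ P.map (MonoidHom.snd Ω₁ Ω₂)),
          φ x = (φ₁ ⟨(x : Ω₁ × Ω₂).1, h₁⟩, φ₂ ⟨(x : Ω₁ × Ω₂).2, h₂⟩)) :
    φ.range.map (MonoidHom.snd Ω₁ Ω₂) = φ₂.range := by
  ext y
  constructor
  · rintro ⟨_, ⟨x, rfl⟩, rfl⟩
    rw [h x (fst_mem P x) (snd_mem P x)]
    exact ⟨_, rfl⟩
  · rintro ⟨⟨_, ⟨x, hx, rfl⟩⟩, rfl⟩
    refine ⟨φ ⟨x, hx⟩, ⟨_, rfl⟩, ?_⟩
    rw [h ⟨x, hx⟩ (fst_mem P ⟨x, hx⟩) (snd_mem P ⟨x, hx⟩)]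
    rfl

def prodSystem (F₁ : Cfsg.FusionSystem S₁) (F₂ : Cfsg.FusionSystem S₂) :
    Cfsg.FusionSystem (S₁.prod S₂) where
  Hom P := HomSet F₁ F₂ P
  le_of_mem := by
    rintro P φ ⟨hP, φ₁, hφ₁, φ₂, hφ₂, h⟩
    refine ⟨hP, fun x => ?_⟩
    rw [h x (fst_mem P x) (snd_mem P x)]
    exact ⟨(F₁.le_of_mem hφ₁).2 _, (F₂.le_of_mem hφ₂).2 _⟩
  injective_of_mem := by
    rintro P φ ⟨hP, φ₁, hφ₁, φ₂, hφ₂, h⟩ x y hxy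
    rw [h x (fst_mem P x) (snd_mem P x), h y (fst_mem P y) (snd_mem P y)] at hxy
    have h1 := F₁.injective_of_mem hφ₁ (congrArg Prod.fst hxy)
    have h2 := F₂.injective_of_mem hφ₂ (congrArg Prod.snd hxy)
    apply Subtype.ext
    exact Prod.ext (congrArg Subtype.val h1) (congrArg Subtype.val h2)
  conj_mem := by
    rintro P g hP hg
    have hP₁ : P.map (MonoidHom.fst Ω₁ Ω₂) ≤ S₁ := by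
      rintro _ ⟨x, hx, rfl⟩
      exact (hP hx).1
    have hP₂ : P.map (MonoidHom.snd Ω₁ Ω₂) ≤ S₂ := by
      rintro _ ⟨x, hx, rfl⟩
      exact (hP hx).2
    refine ⟨hP, Cfsg.conjHom _ g.1, F₁.conj_mem hP₁ hg.1, Cfsg.conjHom _ g.2,
      F₂.conj_mem hP₂ hg.2, ?_⟩
    intro x h₁ h₂
    rfl
  comp_mem := by
    rintro P Q φ ψ ⟨hP, φ₁, hφ₁, φ₂, hφ₂, hφ⟩ ⟨hQ, ψ₁, hψ₁, ψ₂, hψ₂, hψ⟩ h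
    have h₁' : ∀ y : P.map (MonoidHom.fst Ω₁ Ω₂), φ₁ y ∈ Q.map (MonoidHom.fst Ω₁ Ω₂) := by
      rintro ⟨_, ⟨x, hx, rfl⟩⟩
      refine ⟨φ ⟨x, hx⟩, h ⟨x, hx⟩, ?_⟩
      rw [hφ ⟨x, hx⟩ (fst_mem P ⟨x, hx⟩) (snd_mem P ⟨x, hx⟩)]
      rfl
    have h₂' : ∀ y : P.map (MonoidHom.snd Ω₁ Ω₂), φ₂ y ∈ Q.map (MonoidHom.snd Ω₁ Ω₂) := by
      rintro ⟨_, ⟨x, hx, rfl⟩⟩
      refine ⟨φ ⟨x, hx⟩, h ⟨x, hx⟩, ?_⟩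
      rw [hφ ⟨x, hx⟩ (fst_mem P ⟨x, hx⟩) (snd_mem P ⟨x, hx⟩)]
      rfl
    refine ⟨hP, _, F₁.comp_mem hφ₁ hψ₁ h₁', _, F₂.comp_mem hφ₂ hψ₂ h₂', ?_⟩
    intro x h₁ h₂
    show ψ ⟨φ x, h x⟩ = _
    rw [hψ ⟨φ x, h x⟩ (fst_mem Q _) (snd_mem Q _)]
    have e := hφ x h₁ h₂
    apply Prod.ext
    · show ψ₁ ⟨(φ x).1, _⟩ = ψ₁ ⟨φ₁ ⟨(x : Ω₁ × Ω₂).1, h₁⟩, _⟩
      congr 1
      apply Subtype.ext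
      exact congrArg Prod.fst e
    · show ψ₂ ⟨(φ x).2, _⟩ = ψ₂ ⟨φ₂ ⟨(x : Ω₁ × Ω₂).2, h₂⟩, _⟩
      congr 1
      apply Subtype.ext
      exact congrArg Prod.snd e
  inv_mem := by
    rintro P φ ⟨hP, φ₁, hφ₁, φ₂, hφ₂, hφ⟩
    obtain ⟨ψ₁, hψ₁, hψ₁e⟩ := F₁.inv_mem hφ₁
    obtain ⟨ψ₂, hψ₂, hψ₂e⟩ := F₂.inv_mem hφ₂
    have e₁ := map_fst_range hφ
    have e₂ := map_snd_range hφ
    have hψ₁' := hom_of_eq F₁ e₁.symm hψ₁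
    have hψ₂' := hom_of_eq F₂ e₂.symm hψ₂
    have hR : φ.range ≤ S₁.prod S₂ := by
      rintro _ ⟨x, rfl⟩
      rw [hφ x (fst_mem P x) (snd_mem P x)]
      exact ⟨(F₁.le_of_mem hφ₁).2 _, (F₂.le_of_mem hφ₂).2 _⟩
    refine ⟨MonoidHom.prod
      ((ψ₁.comp (Subgroup.inclusion e₁.symm.ge)).comp ((MonoidHom.fst Ω₁ Ω₂).subgroupMap φ.range))
      ((ψ₂.comp (Subgroup.inclusion e₂.symm.ge)).comp ((MonoidHom.snd Ω₁ Ω₂).subgroupMap φ.range)),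
      ⟨hR, _, hψ₁', _, hψ₂', ?_⟩, ?_⟩
    · intro z h₁ h₂
      rfl
    · intro x
      have e := hφ x (fst_mem P x) (snd_mem P x)
      apply Prod.ext
      · show ψ₁ ⟨(φ x).1, _⟩ = (x : Ω₁ × Ω₂).1
        have h3 := hψ₁e ⟨(x : Ω₁ × Ω₂).1, fst_mem P x⟩
        refine Eq.trans ?_ h3
        congr 1
        apply Subtype.ext
        exact congrArg Prod.fst e
      · show ψ₂ ⟨(φ x).2, _⟩ = (x : Ω₁ × Ω₂).2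
        have h3 := hψ₂e ⟨(x : Ω₁ × Ω₂).2, snd_mem P x⟩
        refine Eq.trans ?_ h3
        congr 1
        apply Subtype.ext
        exact congrArg Prod.snd e

end

theorem result {Ω₁ Ω₂ : Type*} [Group Ω₁] [Group Ω₂] {S₁ : Subgroup Ω₁} {S₂ : Subgroup Ω₂} [Finite S₁] [Finite S₂] (p : ℕ) [Fact p.Prime] (h₁ : IsPGroup p S₁) (h₂ : IsPGroup p S₂) (F₁ : Cfsg.FusionSystem S₁) (F₂ : Cfsg.FusionSystem S₂) : ∃ E : Cfsg.FusionSystem (S₁.prod S₂), Cfsg.FusionSystem.IsProductSystem F₁ F₂ E :=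
  ⟨prodSystem F₁ F₂, fun _ _ => Iff.rfl⟩

end Cfsg.Agent.S5136
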