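import Cfsg.Statements.S1243
import Cfsg.Agent.Lib.Helper9.WeaklyClosed

set_option autoImplicit false
open Cfsg

namespace Cfsg.Agent.S1243

open Cfsg.Agent.Lib.Helper9

theorem result {G : Type*} [Group G] [Finite G] {p : ℕ} [Fact p.Prime] (T : Sylow p G) (W : Subgroup G) (hW : Cfsg.IsWeaklyClosed W (T : Subgroup G)) (d g : G) (hd : d ∈ Subgroup.centralizer (W : Set G)) (hgd : g * d * g⁻¹ ∈ Subgroup.centralizer (W : Set G)) : ∃ h ∈ Subgroup.normalizer (W : Set G), h * d * h⁻¹ = g * d * g⁻¹ := by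
  have hWp : IsPGroup p W := T.2.to_le hW.1
  set e := g * d * g⁻¹ with he
  set C := Subgroup.centralizer ({e} : Set G) with hC
  set B := W.map (MulAut.conj g).toMonoidHom with hB
  have hBp : IsPGroup p B := hWp.map _
  have hWC : W ≤ C := by
    intro w hw
    rw [hC, Subgroup.mem_centralizer_singleton_iff]
    rw [Subgroup.mem_centralizer_iff] at hgd
    exact (hgd w hw)
  have hBC : B ≤ C := by
    rintro _ ⟨w, hw, rfl⟩
    rw [hC, Subgroup.mem_centralizer_singleton_iff]
    rw [Subgroup.mem_centralizer_iff] at hd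
    have := hd w hw
    simp only [MulEquiv.coe_toMonoidHom, MulAut.conj_apply, he]
    calc g * w * g⁻¹ * (g * d * g⁻¹) = g * (w * d) * g⁻¹ := by group
      _ = g * (d * w) * g⁻¹ := by rw [this]
      _ = g * d * g⁻¹ * (g * w * g⁻¹) := by group
  obtain ⟨c, hcC, R, hRp, -, hWR, hcR⟩ := exists_conj_into_common_pgroup C W B hWp hBp hWC hBC
  have key : W.map (MulAut.conj (c * g)).toMonoidHom = W := by
    apply weaklyClosed_conj_eq hW R hRp hWR (c * g)
    intro w hw
    have := hcR (g * w * g⁻¹) ⟨w, hw, by simp [MulAut.conj_apply]⟩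
    simpa [mul_assoc] using this
  refine ⟨c * g, ?_, ?_⟩
  · exact mem_normalizer_of_map_conj_eq key
  · rw [hC, Subgroup.mem_centralizer_singleton_iff] at hcC
    calc c * g * d * (c * g)⁻¹ = c * e * c⁻¹ := by rw [he]; group
      _ = e := by rw [hcC]; group

end Cfsg.Agent.S1243
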