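import Cfsg.Statements.S5017
import Cfsg.Agent.S5014

set_option autoImplicit false
open Cfsg

namespace Cfsg.Agent.S5017

open Cfsg.Agent.S5013 Cfsg.Agent.S5014

variable {X : Type*} [Group X]

theorem commute_of_normalizes {N A B : Subgroup X} [hN : N.Normal] (hne : A ≠ B)
    (hAB : Cfsg.RankOneCondition A B) (hNA : ∀ n ∈ N, Cfsg.conjBy A n = A)
    (hNB : ∀ n ∈ N, Cfsg.conjBy B n = B) {n a : X} (hn : n ∈ N) (ha : a ∈ A) : a * n = n * a := by
  have h1 : n * a * n⁻¹ ∈ A := by
    have := hNA n hn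
    rw [← this]
    exact ⟨a, ha, rfl⟩
  have h2 : n * a * n⁻¹ * a⁻¹ ∈ A := A.mul_mem h1 (A.inv_mem ha)
  have h3 : n * a * n⁻¹ * a⁻¹ ∈ N := by
    have e : n * a * n⁻¹ * a⁻¹ = n * (a * n⁻¹ * a⁻¹) := by group
    rw [e]
    exact N.mul_mem hn (hN.conj_mem _ (N.inv_mem hn) a)
  have h4 : n * a * n⁻¹ * a⁻¹ ∈ A ⊓ Subgroup.normalizer (B : Set X) :=
    ⟨h2, mem_normalizer_of_conjBy_eq (hNB _ h3)⟩
  rw [inf_normalizer_eq_bot hne hAB, Subgroup.mem_bot] at h4
  have h5 : n * a = a * n := by
    have : n * a * n⁻¹ * a⁻¹ * (a * n) = a * n := by rw [h4, one_mul]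
    rw [← this]
    group
  exact h5.symm

theorem dichotomy {A B : Subgroup X} (h : Cfsg.IsRankOneGroup X A B) (N : Subgroup X)
    (hN : N.Normal) : N ⊔ A = ⊤ ∨ N ≤ Subgroup.center X := by
  obtain ⟨htop, hp⟩ := h
  by_cases hex : ∃ n ∈ N, Cfsg.conjBy A n ≠ A
  · left
    obtain ⟨n, hn, hne⟩ := hex
    have hmem : Cfsg.conjBy A n ∈ Cfsg.unipotentSubgroups A B := ⟨n, htop ▸ Subgroup.mem_top n, rfl⟩
    obtain ⟨a, ⟨ha, hae⟩, -⟩ := regular hp hmem (B_mem_unipotent hp) hne hp.ne.symm
    rw [conjBy_conjBy] at hae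
    have hB : B ≤ N ⊔ A := by
      intro z hz
      rw [← hae, mem_conjBy_iff] at hz
      have hg : a * n ∈ N ⊔ A := Subgroup.mul_mem _ (Subgroup.mem_sup_right ha) (Subgroup.mem_sup_left hn)
      have e : z = (a * n) * ((a * n)⁻¹ * z * (a * n)) * (a * n)⁻¹ := by group
      rw [e]
      exact Subgroup.mul_mem _ (Subgroup.mul_mem _ hg (Subgroup.mem_sup_right hz)) (Subgroup.inv_mem _ hg)
    rw [eq_top_iff, ← htop]
    exact sup_le le_sup_right hB
  · right
    have hNA : ∀ n ∈ N, Cfsg.conjBy A n = A := by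
      intro n hn
      by_contra hne
      exact hex ⟨n, hn, hne⟩
    have hNall : ∀ n ∈ N, ∀ x : X, Cfsg.conjBy (Cfsg.conjBy A x) n = Cfsg.conjBy A x := by
      intro n hn x
      have hn' : x⁻¹ * n * x⁻¹⁻¹ ∈ N := hN.conj_mem n hn x⁻¹
      rw [conjBy_conjBy]
      have e : n * x = x * (x⁻¹ * n * x⁻¹⁻¹) := by group
      rw [e, ← conjBy_conjBy, hNA _ hn']
    have hNB : ∀ n ∈ N, Cfsg.conjBy B n = B := by
      intro n hn
      obtain ⟨x, -, hx⟩ := B_mem_unipotent hp
      rw [hx]
      exact hNall n hn x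
    intro n hn
    rw [Subgroup.mem_center_iff]
    have hle : A ⊔ B ≤ Subgroup.centralizer ({n} : Set X) := by
      refine sup_le ?_ ?_
      · intro a ha
        rw [Subgroup.mem_centralizer_iff]
        rintro _ rfl
        exact (commute_of_normalizes (hN := hN) hp.ne hp.cond_left hNA hNB hn ha).symm
      · intro b hb
        rw [Subgroup.mem_centralizer_iff]
        rintro _ rfl
        exact (commute_of_normalizes (hN := hN) hp.ne.symm hp.cond_right hNB hNA hn hb).symm
    intro g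
    have hg : g ∈ Subgroup.centralizer ({n} : Set X) := hle (htop ▸ Subgroup.mem_top g)
    exact (Subgroup.mem_centralizer_iff.mp hg n rfl).symm

theorem result {X : Type*} [Group X] {A B : Subgroup X} (h : Cfsg.IsRankOneGroup X A B) :
    (∀ N : Subgroup X, N.Normal → N ⊔ A = ⊤ ∨ N ≤ Subgroup.center X) ∧
    (Group.IsPerfect X → Cfsg.IsQuasisimple X) := by
  refine ⟨fun N hN => dichotomy h N hN, fun hperf => ⟨hperf, ?_⟩⟩
  have hp := h.2
  have hnontriv : Nontrivial (X ⧸ Subgroup.center X) := by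
    by_contra hcon
    rw [not_nontrivial_iff_subsingleton] at hcon
    have hZ : Subgroup.center X = ⊤ := QuotientGroup.subgroup_eq_top_of_subsingleton _ hcon
    obtain ⟨a, ha, ha1⟩ := ne_bot_left hp
    obtain ⟨b, hb, -, hbe⟩ := hp.cond_left a ha ha1
    have hcen : ∀ (C : Subgroup X) (g : X), Cfsg.conjBy C g = C := by
      intro C g
      apply conjBy_eq_of_mem_normalizer
      have hg : g ∈ Subgroup.center X := hZ ▸ Subgroup.mem_top g
      rw [Subgroup.mem_normalizer_iff]
      intro z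
      have e : g * z * g⁻¹ = z := by
        rw [(Subgroup.mem_center_iff.mp hg z).symm, mul_inv_cancel_right]
      rw [e]
    rw [hcen, hcen] at hbe
    exact hp.ne hbe
  refine { toNontrivial := hnontriv, eq_bot_or_eq_top_of_normal := ?_ }
  intro M hM
  have hNn : (M.comap (QuotientGroup.mk' (Subgroup.center X))).Normal := hM.comap _
  rcases dichotomy h _ hNn with h1 | h1
  · right
    have hsurj : Function.Surjective ((QuotientGroup.mk' (M.comap (QuotientGroup.mk' (Subgroup.center X)))).comp A.subtype) := by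
      intro y
      obtain ⟨x, rfl⟩ := QuotientGroup.mk_surjective y
      have hx : x ∈ ((M.comap (QuotientGroup.mk' (Subgroup.center X)) ⊔ A : Subgroup X) : Set X) := by
        rw [h1]
        trivial
      rw [Subgroup.normal_mul] at hx
      obtain ⟨n, hn, a, ha, rfl⟩ := Set.mem_mul.mp hx
      refine ⟨⟨a, ha⟩, ?_⟩
      show ((a : X) : X ⧸ M.comap (QuotientGroup.mk' (Subgroup.center X))) = (((n * a : X) : X) : X ⧸ M.comap (QuotientGroup.mk' (Subgroup.center X)))
      rw [QuotientGroup.mk_mul, (QuotientGroup.eq_one_iff n).mpr hn, one_mul]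
    haveI := hp.nilpotent_left
    have hnil : Group.IsNilpotent (X ⧸ M.comap (QuotientGroup.mk' (Subgroup.center X))) :=
      Group.nilpotent_of_surjective _ hsurj
    have hsub : Subsingleton (X ⧸ M.comap (QuotientGroup.mk' (Subgroup.center X))) := by
      by_contra hcon
      rw [not_subsingleton_iff_nontrivial] at hcon
      exact Group.IsPerfect.not_isNilpotent (X ⧸ M.comap (QuotientGroup.mk' (Subgroup.center X))) hnil
    have htop : M.comap (QuotientGroup.mk' (Subgroup.center X)) = ⊤ :=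
      QuotientGroup.subgroup_eq_top_of_subsingleton _ hsub
    rw [eq_top_iff]
    intro m _
    obtain ⟨x, rfl⟩ := QuotientGroup.mk_surjective m
    have hx : x ∈ M.comap (QuotientGroup.mk' (Subgroup.center X)) := htop ▸ Subgroup.mem_top x
    exact hx
  · left
    rw [eq_bot_iff]
    intro m hm
    obtain ⟨x, rfl⟩ := QuotientGroup.mk_surjective m
    have hx : x ∈ M.comap (QuotientGroup.mk' (Subgroup.center X)) := hm
    rw [Subgroup.mem_bot]
    exact (QuotientGroup.eq_one_iff x).mpr (h1 hx)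

end Cfsg.Agent.S5017
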