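import Cfsg.Statements.S5124
import Cfsg.Agent.Lib.Helper26.FusionHyp2

set_option autoImplicit false
open Cfsg

namespace Cfsg.Agent.S5124

open Cfsg.Agent.Lib.Helper26 Cfsg.FusionSystem

theorem result {Ω : Type*} [Group Ω] {S : Subgroup Ω} [Finite S] (p : ℕ) [Fact p.Prime] (hS : IsPGroup p S) (F : Cfsg.FusionSystem S) (hF : F.IsSaturated p) : F.StronglyClosed (F.hyperfocalSubgroup p) := by
  refine ⟨hyperfocal_le F p, fun R hR φ hφ x => ?_⟩
  have hnorm := le_normalizer_hyperfocal F p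
  have hle := le_cosetSystem hS F hF (F.hyperfocalSubgroup p) hnorm le_rfl
  obtain ⟨-, hφN⟩ := hle R hφ
  obtain ⟨s, hs, hsn⟩ := hφN x
  have h1 : s * (x : Ω) * s⁻¹ ∈ F.hyperfocalSubgroup p :=
    conj_gen_mem_hyperfocal F p hs (hR x.2)
  have := Subgroup.mul_mem _ h1 hsn
  rwa [mul_inv_cancel_left] at this

end Cfsg.Agent.S5124
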