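import Cfsg.Statements.S5095
import Cfsg.Agent.Lib.Helper26.FusionCentric

set_option autoImplicit false
open Cfsg

namespace Cfsg.Agent.S5095

open Cfsg.Agent.Lib.Helper26 Cfsg.FusionSystem

theorem aux {Ω : Type*} [Group Ω] {S : Subgroup Ω} [Finite S] (p : ℕ) [Fact p.Prime]
    (hS : IsPGroup p S) (F : Cfsg.FusionSystem S) (hF : F.IsSaturated p) {P : Subgroup Ω}
    {φ' : P →* Ω} (hφ' : φ' ∈ F.Hom P) :
    ∀ (n : ℕ) (Q : Subgroup Ω) (φ : P →* Ω), Nat.card P - Nat.card Q = n → Q ≤ P →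
      F.IsCentric Q → φ ∈ F.Hom P → (∀ x : P, (x : Ω) ∈ Q → φ x = φ' x) →
      ∃ z : P, (z : Ω) ∈ Q ∧ (z : Ω) ∈ Subgroup.centralizer (Q : Set Ω) ∧
        ∀ y : P, φ' y = φ (z * y * z⁻¹) := by
  have hPS : P ≤ S := source_le F hφ'
  have hfinP : Finite P := finite_of_le hPS
  intro n
  induction n using Nat.strong_induction_on with
  | _ n ih =>
    intro Q φ hn hQP hQ hφ h
    by_cases hPN : P ≤ Subgroup.normalizer (Q : Set Ω)
    · exact exists_conj_of_agree_normal hS F hF hQP hPN hQ hφ hφ' h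
    · have hP₁P : P ⊓ Subgroup.normalizer (Q : Set Ω) ≤ P := inf_le_left
      have hQP₁ : Q ≤ P ⊓ Subgroup.normalizer (Q : Set Ω) := le_inf hQP Subgroup.le_normalizer
      have hQne : Q ≠ P := by
        rintro rfl
        exact hPN Subgroup.le_normalizer
      obtain ⟨x₀, hx₀P, hx₀Q, hx₀N⟩ := exists_normalizing_of_lt (hS.to_le hPS) hQP hQne
      have hlt : Q < P ⊓ Subgroup.normalizer (Q : Set Ω) :=
        lt_of_le_of_ne hQP₁ (fun heq => hx₀Q (heq ▸ ⟨hx₀P, hx₀N⟩))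
      have hfinP₁ : Finite ↥(P ⊓ Subgroup.normalizer (Q : Set Ω)) := finite_of_le (hP₁P.trans hPS)
      have hc1 := card_lt_card_of_lt hlt
      have hc2 : Nat.card ↥(P ⊓ Subgroup.normalizer (Q : Set Ω)) ≤ Nat.card P :=
        Subgroup.card_le_of_le hP₁P
      obtain ⟨z₁, hz₁Q, hz₁C, hz₁⟩ := exists_conj_of_agree_normal hS F hF hQP₁ inf_le_right hQ
        (restrict_mem F hφ hP₁P) (restrict_mem F hφ' hP₁P) (fun x hx => h _ hx)
      have hz₁P : (z₁ : Ω) ∈ P := hP₁P z₁.2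
      have hmemP : ∀ x : P, conjHom P (z₁ : Ω) x ∈ P := fun x =>
        P.mul_mem (P.mul_mem hz₁P x.2) (P.inv_mem hz₁P)
      have hφ'' : φ.comp ((conjHom P (z₁ : Ω)).codRestrict P hmemP) ∈ F.Hom P :=
        F.comp_mem (F.conj_mem hPS (hPS hz₁P)) hφ hmemP
      have hcent : F.IsCentric (P ⊓ Subgroup.normalizer (Q : Set Ω)) :=
        isCentric_of_le F hQ hQP₁ (hP₁P.trans hPS)
      have hagree : ∀ x : P, (x : Ω) ∈ P ⊓ Subgroup.normalizer (Q : Set Ω) →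
          (φ.comp ((conjHom P (z₁ : Ω)).codRestrict P hmemP)) x = φ' x := by
        intro x hx
        have h1 := hz₁ ⟨x, hx⟩
        rw [MonoidHom.comp_apply, MonoidHom.comp_apply] at h1
        rw [MonoidHom.comp_apply]
        have h2 : Subgroup.inclusion hP₁P ⟨(x : Ω), hx⟩ = x := Subtype.ext rfl
        rw [h2] at h1
        rw [h1]
        congr 1
      obtain ⟨z₂, hz₂P₁, hz₂C, hz₂⟩ := ih (Nat.card P - Nat.card ↥(P ⊓ Subgroup.normalizer (Q : Set Ω)))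
        (by omega) (P ⊓ Subgroup.normalizer (Q : Set Ω)) _ rfl hP₁P hcent hφ'' hagree
      have hcenQ := hQ.2 Q (isConj_refl F hQ.1)
      have hz₂CQ : (z₂ : Ω) ∈ Subgroup.centralizer (Q : Set Ω) := by
        rw [Subgroup.mem_centralizer_iff]
        intro u hu
        exact (Subgroup.mem_centralizer_iff.mp hz₂C) u (hQP₁ hu)
      have hz₂Q : (z₂ : Ω) ∈ Q := hcenQ ⟨hPS z₂.2, hz₂CQ⟩
      refine ⟨⟨(z₁ : Ω), hz₁P⟩ * z₂, Q.mul_mem hz₁Q hz₂Q,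
        Subgroup.mul_mem _ hz₁C hz₂CQ, fun y => ?_⟩
      rw [hz₂ y, MonoidHom.comp_apply]
      congr 1
      apply Subtype.ext
      show (z₁ : Ω) * ((z₂ : Ω) * y * (z₂ : Ω)⁻¹) * (z₁ : Ω)⁻¹ =
        (z₁ : Ω) * z₂ * y * ((z₁ : Ω) * z₂)⁻¹
      group

theorem result {Ω : Type*} [Group Ω] {S : Subgroup Ω} [Finite S] (p : ℕ) [Fact p.Prime] (hS : IsPGroup p S) (F : Cfsg.FusionSystem S) (hF : F.IsSaturated p) (P Q : Subgroup Ω) (hQP : Q ≤ P) (hQ : F.IsCentric Q) (φ φ' : P →* Ω) (hφ : φ ∈ F.Hom P) (hφ' : φ' ∈ F.Hom P) (h : ∀ x : P, (x : Ω) ∈ Q → φ x = φ' x) : ∃ z : P, (z : Ω) ∈ Q ∧ (z : Ω) ∈ Subgroup.centralizer (Q : Set Ω) ∧ ∀ y : P, φ' y = φ (z * y * z⁻¹) :=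
  aux p hS F hF hφ' _ Q φ rfl hQP hQ hφ h

end Cfsg.Agent.S5095
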