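import Cfsg.Statements.S5256
import Cfsg.Agent.Lib.Helper27.FusFactor

set_option autoImplicit false
open Cfsg

namespace Cfsg.Agent.S5256

open Cfsg.FusionSystem Cfsg.Agent.Lib.Helper26 Cfsg.Agent.Lib.Helper27

variable {Ω : Type*} [Group Ω] {S : Subgroup Ω} {Ω' : Type*} [Group Ω'] {S' : Subgroup Ω'}

theorem pow_lift_apply {θ : ↥S →* Ω'} {P' : Subgroup Ω'} (hPS : preimageAlong θ P' ≤ S)
    (γ : MulAut ↥(preimageAlong θ P')) (β' : MulAut P')
    (h : ∀ (x : ↥(preimageAlong θ P')) (h1 : (x : Ω) ∈ S)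
      (h2 : ((γ x : ↥(preimageAlong θ P')) : Ω) ∈ S) (h3 : θ ⟨x, h1⟩ ∈ P'),
      θ ⟨γ x, h2⟩ = ((β' ⟨θ ⟨x, h1⟩, h3⟩ : P') : Ω')) (n : ℕ) :
    ∀ (x : ↥(preimageAlong θ P')),
      θ ⟨((γ ^ n) x : ↥(preimageAlong θ P')), hPS ((γ ^ n) x).2⟩ =
        (((β' ^ n) ⟨θ ⟨x, hPS x.2⟩, (mem_preimageAlong.mp x.2).2⟩ : P') : Ω') := by
  induction n with
  | zero => intro x; rfl
  | succ n ih =>
    intro x
    rw [pow_succ', pow_succ', MulAut.mul_apply, MulAut.mul_apply]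
    have hm : θ ⟨((γ ^ n) x : ↥(preimageAlong θ P')), hPS ((γ ^ n) x).2⟩ ∈ P' :=
      (mem_preimageAlong.mp ((γ ^ n) x).2).2
    have e : (⟨θ ⟨((γ ^ n) x : ↥(preimageAlong θ P')), hPS ((γ ^ n) x).2⟩, hm⟩ : P') =
        (β' ^ n) ⟨θ ⟨x, hPS x.2⟩, (mem_preimageAlong.mp x.2).2⟩ := Subtype.ext (ih x)
    rw [h ((γ ^ n) x) (hPS ((γ ^ n) x).2) (hPS (γ ((γ ^ n) x)).2) hm, e]

theorem core_sub [Finite S] {p : ℕ} [Fact p.Prime] {F : FusionSystem S} {T : Subgroup Ω}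
    {θ : ↥S →* Ω'} {E : FusionSystem S'} (hE : F.IsFactorSystem T θ E) {P' : Subgroup Ω'}
    (hP'S' : P' ≤ S') (β' : E.autGroup P') (hord : (orderOf β').Coprime p) (x' : P') :
    (x' : Ω')⁻¹ * (((β' : MulAut P') x' : P') : Ω') ∈
      ((F.hyperfocalSubgroup p).subgroupOf S).map θ := by
  have hord' : (orderOf (β' : MulAut P')).Coprime p := by
    rw [Subgroup.orderOf_coe]; exact hord
  obtain ⟨γ, hγ, hγe⟩ := factor_lift_aut hE hP'S' β'.2
  have hPS : preimageAlong θ P' ≤ S := preimageAlong_le θ P'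
  have hfinP : Finite ↥(preimageAlong θ P') := finite_of_le hPS
  obtain ⟨k, hk, hkord⟩ := exists_pprime_pow p γ hord'
  have hpow := pow_lift_apply hPS γ (β' : MulAut P') hγe k
  have hβk : (β' : MulAut P') ^ k = β' := by
    rw [← pow_mod_orderOf, hk, pow_mod_orderOf, pow_one]
  rw [hβk] at hpow
  have hx'S' : (x' : Ω') ∈ θ.range := by
    rw [hE.2.2.1]
    exact hP'S' x'.2
  obtain ⟨s, hs⟩ := hx'S'
  have hsP : (s : Ω) ∈ preimageAlong θ P' := by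
    refine mem_preimageAlong.mpr ⟨s.2, ?_⟩
    show θ s ∈ P'
    rw [hs]
    exact x'.2
  have hy : (s : Ω)⁻¹ * (((γ ^ k) ⟨s, hsP⟩ : ↥(preimageAlong θ P')) : Ω) ∈
      F.hyperfocalSubgroup p := by
    refine Subgroup.subset_closure ⟨preimageAlong θ P', ⟨γ ^ k, Subgroup.pow_mem _ hγ k⟩,
      ⟨s, hsP⟩, hPS, Subgroup.subset_closure ?_, rfl⟩
    show (orderOf (⟨γ ^ k, Subgroup.pow_mem _ hγ k⟩ : F.autGroup (preimageAlong θ P'))).Coprime p
    rw [← Subgroup.orderOf_coe]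
    exact hkord
  have hyS : (s : Ω)⁻¹ * (((γ ^ k) ⟨s, hsP⟩ : ↥(preimageAlong θ P')) : Ω) ∈ S :=
    S.mul_mem (S.inv_mem s.2) (hPS ((γ ^ k) ⟨s, hsP⟩).2)
  refine ⟨⟨_, hyS⟩, Subgroup.mem_subgroupOf.mpr hy, ?_⟩
  have e : (⟨(s : Ω)⁻¹ * (((γ ^ k) ⟨s, hsP⟩ : ↥(preimageAlong θ P')) : Ω), hyS⟩ : S) =
      s⁻¹ * ⟨(((γ ^ k) ⟨s, hsP⟩ : ↥(preimageAlong θ P')) : Ω), hPS ((γ ^ k) ⟨s, hsP⟩).2⟩ := rfl
  rw [e, map_mul, map_inv, hs, hpow ⟨s, hsP⟩]
  congr 3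
  exact Subtype.ext hs

theorem pow_induce_apply {θ : ↥S →* Ω'} {Q : Subgroup Ω} (hQS : Q ≤ S) (γ : MulAut Q)
    (γ' : MulAut ↥((Q.subgroupOf S).map θ))
    (h : ∀ (q : Q) (h1 : θ ⟨q, hQS q.2⟩ ∈ (Q.subgroupOf S).map θ),
      ((γ' ⟨θ ⟨q, hQS q.2⟩, h1⟩ : ↥((Q.subgroupOf S).map θ)) : Ω') = θ ⟨γ q, hQS (γ q).2⟩)
    (n : ℕ) : ∀ (q : Q) (h1 : θ ⟨q, hQS q.2⟩ ∈ (Q.subgroupOf S).map θ),
      (((γ' ^ n) ⟨θ ⟨q, hQS q.2⟩, h1⟩ : ↥((Q.subgroupOf S).map θ)) : Ω') =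
        θ ⟨(γ ^ n) q, hQS ((γ ^ n) q).2⟩ := by
  induction n with
  | zero => intro q h1; rfl
  | succ n ih =>
    intro q h1
    rw [pow_succ', pow_succ', MulAut.mul_apply, MulAut.mul_apply]
    have hmem : θ ⟨(γ ^ n) q, hQS ((γ ^ n) q).2⟩ ∈ (Q.subgroupOf S).map θ :=
      ⟨⟨_, hQS ((γ ^ n) q).2⟩, Subgroup.mem_subgroupOf.mpr ((γ ^ n) q).2, rfl⟩
    have e : (γ' ^ n) ⟨θ ⟨q, hQS q.2⟩, h1⟩ =
        ⟨θ ⟨(γ ^ n) q, hQS ((γ ^ n) q).2⟩, hmem⟩ := Subtype.ext (ih q h1)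
    rw [e, h]

theorem core_sup [Finite S] {p : ℕ} [Fact p.Prime] (hS : IsPGroup p S) {F : FusionSystem S}
    (hF : F.IsSaturated p) {T : Subgroup Ω} (hT : F.StronglyClosed T)
    {θ : ↥S →* Ω'} {E : FusionSystem S'} (hE : F.IsFactorSystem T θ E) {P : Subgroup Ω}
    (hPS : P ≤ S) (β : F.autGroup P) (hord : (orderOf β).Coprime p) (x : P)
    (hmem : (x : Ω)⁻¹ * (((β : MulAut P) x : P) : Ω) ∈ S) :
    θ ⟨(x : Ω)⁻¹ * (((β : MulAut P) x : P) : Ω), hmem⟩ ∈ E.hyperfocalSubgroup p := by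
  have hord' : (orderOf (β : MulAut P)).Coprime p := by
    rw [Subgroup.orderOf_coe]; exact hord
  obtain ⟨γ, hγ, hγord, hγβ⟩ := exists_aut_lift_pprime hS F hF hT hPS β.2 hord'
  have hQS : P ⊔ T ≤ S := sup_le hPS hT.1
  obtain ⟨γ', hγ', hγ'e⟩ := factor_induce_aut hT hE hQS le_sup_right hγ
  have hP'S' : ((P ⊔ T).subgroupOf S).map θ ≤ S' := by
    rw [← hE.2.2.1]
    rintro _ ⟨s, -, rfl⟩
    exact ⟨s, rfl⟩
  have hmemP' : ∀ q : ↥(P ⊔ T), θ ⟨q, hQS q.2⟩ ∈ ((P ⊔ T).subgroupOf S).map θ := fun q =>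
    ⟨⟨q, hQS q.2⟩, Subgroup.mem_subgroupOf.mpr q.2, rfl⟩
  have hγ'ord : (orderOf (⟨γ', hγ'⟩ : E.autGroup (((P ⊔ T).subgroupOf S).map θ))).Coprime p := by
    rw [← Subgroup.orderOf_coe]
    refine Nat.Coprime.coprime_dvd_left (orderOf_dvd_of_pow_eq_one ?_) hγord
    refine MulEquiv.ext (fun y => Subtype.ext ?_)
    obtain ⟨_, s, hs, rfl⟩ := y
    have h1 := pow_induce_apply hQS γ γ' hγ'e (orderOf γ) ⟨s, Subgroup.mem_subgroupOf.mp hs⟩
      (hmemP' ⟨s, Subgroup.mem_subgroupOf.mp hs⟩)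
    rw [pow_orderOf_eq_one] at h1
    exact h1
  have hxQ : (x : Ω) ∈ P ⊔ T := (le_sup_left : P ≤ P ⊔ T) x.2
  have hgen : (θ ⟨x, hPS x.2⟩)⁻¹ *
      ((γ' ⟨θ ⟨x, hPS x.2⟩, hmemP' ⟨x, hxQ⟩⟩ : ↥(((P ⊔ T).subgroupOf S).map θ)) : Ω') ∈
      E.hyperfocalSubgroup p :=
    Subgroup.subset_closure ⟨_, ⟨γ', hγ'⟩, ⟨θ ⟨x, hPS x.2⟩, hmemP' ⟨x, hxQ⟩⟩, hP'S',
      Subgroup.subset_closure hγ'ord, rfl⟩
  have h2 := hγ'e ⟨x, hxQ⟩ (hmemP' ⟨x, hxQ⟩)
  rw [h2] at hgen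
  have h3 : θ ⟨((β : MulAut P) x : P), hPS ((β : MulAut P) x).2⟩ =
      θ ⟨γ ⟨x, hxQ⟩, hQS (γ ⟨x, hxQ⟩).2⟩ := by
    have h4 := hγβ x
    have h5 : θ (⟨((β : MulAut P) x : P), hPS ((β : MulAut P) x).2⟩⁻¹ * ⟨γ ⟨x, hxQ⟩, hQS (γ ⟨x, hxQ⟩).2⟩) = 1 :=
      (hE.2.1 _).mpr h4
    rw [map_mul, map_inv, inv_mul_eq_one] at h5
    exact h5
  have e : (⟨(x : Ω)⁻¹ * (((β : MulAut P) x : P) : Ω), hmem⟩ : S) =
      (⟨x, hPS x.2⟩ : S)⁻¹ * ⟨((β : MulAut P) x : P), hPS ((β : MulAut P) x).2⟩ := rfl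
  rw [e, map_mul, map_inv, h3]
  exact hgen

/-- Let F be a saturated fusion system over a finite p-group S, T a subgroup of S strongly closed in F, and E a factor system F/T realised along a homomorphism θ of S with kernel T. Then the hyperfocal subgroup of E is the image under θ of the hyperfocal subgroup of F (hyp(F/T) = T·hyp(F)/T). -/
theorem result {Ω : Type*} [Group Ω] {S : Subgroup Ω} [Finite S] (p : ℕ) [Fact p.Prime] (hS : IsPGroup p S) (F : Cfsg.FusionSystem S) (hF : F.IsSaturated p) (T : Subgroup Ω) (hT : F.StronglyClosed T) {Ω' : Type*} [Group Ω'] {S' : Subgroup Ω'} (θ : ↥S →* Ω') (E : Cfsg.FusionSystem S') (hE : F.IsFactorSystem T θ E) : E.hyperfocalSubgroup p = ((F.hyperfocalSubgroup p).subgroupOf S).map θ := by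
  apply le_antisymm
  · unfold FusionSystem.hyperfocalSubgroup
    rw [Subgroup.closure_le]
    rintro _ ⟨P', α', x', hP'S', hα', rfl⟩
    have hQ : ∀ β' : E.autGroup P', β' ∈ pResidual p (E.autGroup P') → ∀ x' : P',
        (x' : Ω')⁻¹ * (((β' : MulAut P') x' : P') : Ω') ∈
          ((Subgroup.closure {y : Ω | ∃ (P : Subgroup Ω) (α : F.autGroup P) (x : P), P ≤ S ∧
            α ∈ pResidual p (F.autGroup P) ∧ y = (x : Ω)⁻¹ * ((α : MulAut P) x : P)}).subgroupOf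
              S).map θ := by
      intro β' hβ'
      unfold pResidual at hβ'
      refine Subgroup.closure_induction (p := fun (β' : E.autGroup P') _ => ∀ x' : P',
        (x' : Ω')⁻¹ * (((β' : MulAut P') x' : P') : Ω') ∈
          ((Subgroup.closure {y : Ω | ∃ (P : Subgroup Ω) (α : F.autGroup P) (x : P), P ≤ S ∧
            α ∈ pResidual p (F.autGroup P) ∧ y = (x : Ω)⁻¹ * ((α : MulAut P) x : P)}).subgroupOf
              S).map θ) ?_ ?_ ?_ ?_ hβ'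
      · intro β' hβ' x'
        exact core_sub hE hP'S' β' hβ' x'
      · intro x'
        simp only [Subgroup.coe_one, MulAut.one_apply, inv_mul_cancel]
        exact Subgroup.one_mem _
      · intro a b _ _ ha hb x'
        have e : (x' : Ω')⁻¹ * ((((a * b : E.autGroup P') : MulAut P') x' : P') : Ω') =
            ((x' : Ω')⁻¹ * (((b : MulAut P') x' : P') : Ω')) *
            ((((b : MulAut P') x' : P') : Ω')⁻¹ *
              (((a : MulAut P') ((b : MulAut P') x') : P') : Ω')) := by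
          rw [Subgroup.coe_mul, MulAut.mul_apply]; group
        rw [e]
        exact Subgroup.mul_mem _ (hb x') (ha _)
      · intro a _ ha x'
        have h1 := ha (((a⁻¹ : E.autGroup P') : MulAut P') x')
        rw [Subgroup.coe_inv, MulAut.apply_inv_self] at h1
        have e : (x' : Ω')⁻¹ * ((((a⁻¹ : E.autGroup P') : MulAut P') x' : P') : Ω') =
            (((((a : MulAut P')⁻¹ x' : P') : Ω'))⁻¹ * (x' : Ω'))⁻¹ := by
          rw [Subgroup.coe_inv]; group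
        rw [e]
        exact Subgroup.inv_mem _ h1
    exact hQ α' hα' x'
  · rintro _ ⟨s, hs, rfl⟩
    have hs' : (s : Ω) ∈ F.hyperfocalSubgroup p := Subgroup.mem_subgroupOf.mp hs
    have key : ∀ y ∈ F.hyperfocalSubgroup p, ∃ hy : y ∈ S, θ ⟨y, hy⟩ ∈ E.hyperfocalSubgroup p := by
      intro y hy
      unfold FusionSystem.hyperfocalSubgroup at hy
      refine Subgroup.closure_induction (p := fun y _ => ∃ hy : y ∈ S,
        θ ⟨y, hy⟩ ∈ E.hyperfocalSubgroup p) ?_ ?_ ?_ ?_ hy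
      · rintro _ ⟨P, α, x, hPS, hα, rfl⟩
        have hQ : ∀ β : F.autGroup P, β ∈ pResidual p (F.autGroup P) → ∀ x : P,
            ∃ hy : (x : Ω)⁻¹ * (((β : MulAut P) x : P) : Ω) ∈ S,
              θ ⟨(x : Ω)⁻¹ * (((β : MulAut P) x : P) : Ω), hy⟩ ∈ E.hyperfocalSubgroup p := by
          intro β hβ
          unfold pResidual at hβ
          refine Subgroup.closure_induction (p := fun (β : F.autGroup P) _ => ∀ x : P,
            ∃ hy : (x : Ω)⁻¹ * (((β : MulAut P) x : P) : Ω) ∈ S,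
              θ ⟨(x : Ω)⁻¹ * (((β : MulAut P) x : P) : Ω), hy⟩ ∈ E.hyperfocalSubgroup p)
            ?_ ?_ ?_ ?_ hβ
          · intro β hβ x
            have hm : (x : Ω)⁻¹ * (((β : MulAut P) x : P) : Ω) ∈ S :=
              S.mul_mem (S.inv_mem (hPS x.2)) (hPS ((β : MulAut P) x).2)
            exact ⟨hm, core_sup hS hF hT hE hPS β hβ x hm⟩
          · intro x
            have hm : (x : Ω)⁻¹ * ((((1 : F.autGroup P) : MulAut P) x : P) : Ω) ∈ S :=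
              S.mul_mem (S.inv_mem (hPS x.2)) (hPS (((1 : F.autGroup P) : MulAut P) x).2)
            refine ⟨hm, ?_⟩
            have e : (⟨(x : Ω)⁻¹ * ((((1 : F.autGroup P) : MulAut P) x : P) : Ω), hm⟩ : S) = 1 := by
              apply Subtype.ext
              simp
            rw [e, map_one]
            exact Subgroup.one_mem _
          · intro a b _ _ ha hb x
            obtain ⟨hb1, hb2⟩ := hb x
            obtain ⟨ha1, ha2⟩ := ha ((b : MulAut P) x)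
            have hm : (x : Ω)⁻¹ * ((((a * b : F.autGroup P) : MulAut P) x : P) : Ω) ∈ S :=
              S.mul_mem (S.inv_mem (hPS x.2)) (hPS (((a * b : F.autGroup P) : MulAut P) x).2)
            refine ⟨hm, ?_⟩
            have e : (⟨(x : Ω)⁻¹ * ((((a * b : F.autGroup P) : MulAut P) x : P) : Ω), hm⟩ : S) =
                ⟨_, hb1⟩ * ⟨_, ha1⟩ := by
              apply Subtype.ext
              show (x : Ω)⁻¹ * (((a : MulAut P) ((b : MulAut P) x) : P) : Ω) =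
                ((x : Ω)⁻¹ * (((b : MulAut P) x : P) : Ω)) *
                ((((b : MulAut P) x : P) : Ω)⁻¹ *
                  (((a : MulAut P) ((b : MulAut P) x) : P) : Ω))
              group
            rw [e, map_mul]
            exact Subgroup.mul_mem _ hb2 ha2
          · intro a _ ha x
            obtain ⟨h1, h2⟩ := ha (((a⁻¹ : F.autGroup P) : MulAut P) x)
            have hm : (x : Ω)⁻¹ * ((((a⁻¹ : F.autGroup P) : MulAut P) x : P) : Ω) ∈ S :=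
              S.mul_mem (S.inv_mem (hPS x.2)) (hPS (((a⁻¹ : F.autGroup P) : MulAut P) x).2)
            refine ⟨hm, ?_⟩
            have e : (⟨(x : Ω)⁻¹ * ((((a⁻¹ : F.autGroup P) : MulAut P) x : P) : Ω), hm⟩ : S) =
                (⟨_, h1⟩ : S)⁻¹ := by
              apply Subtype.ext
              show (x : Ω)⁻¹ * ((((a : MulAut P)⁻¹) x : P) : Ω) =
                ((((((a : MulAut P)⁻¹) x : P) : Ω))⁻¹ *
                (((a : MulAut P) (((a : MulAut P)⁻¹) x) : P) : Ω))⁻¹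
              rw [MulAut.apply_inv_self]; group
            rw [e, map_inv]
            exact Subgroup.inv_mem _ h2
        exact hQ α hα x
      · exact ⟨S.one_mem, by
          have : (⟨1, S.one_mem⟩ : S) = 1 := rfl
          rw [this, map_one]; exact Subgroup.one_mem _⟩
      · rintro a b _ _ ⟨ha1, ha2⟩ ⟨hb1, hb2⟩
        refine ⟨S.mul_mem ha1 hb1, ?_⟩
        have : (⟨a * b, S.mul_mem ha1 hb1⟩ : S) = ⟨a, ha1⟩ * ⟨b, hb1⟩ := rfl
        rw [this, map_mul]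
        exact Subgroup.mul_mem _ ha2 hb2
      · rintro a _ ⟨ha1, ha2⟩
        refine ⟨S.inv_mem ha1, ?_⟩
        have : (⟨a⁻¹, S.inv_mem ha1⟩ : S) = (⟨a, ha1⟩ : S)⁻¹ := rfl
        rw [this, map_inv]
        exact Subgroup.inv_mem _ ha2
    obtain ⟨hy, h⟩ := key s hs'
    exact h

end Cfsg.Agent.S5256
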