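import Cfsg.Statements.S5036
import Cfsg.Agent.Lib.Helper26.OppPartners

set_option autoImplicit false
open Cfsg

namespace Cfsg.Agent.S5036

open Cfsg.Agent.S5013 Cfsg.Agent.Lib.Helper26

theorem result {G : Type*} [Group G] {S : Set (Subgroup G)} (hS : Cfsg.IsRootSubgroupSet S)
    {A B D : Subgroup G} (hA : A ∈ S) (hB : B ∈ S) (hC : ⁅A, B⁆ ∈ S) (hD : D ∈ S) (hDC : ⁅D, ⁅A, B⁆⁆ = A) :
    Cfsg.IsRankOnePair B D ∧
    {E | ∃ x ∈ B ⊔ D, E = Cfsg.conjBy A x} = {E | ∃ x ∈ B ⊔ D, E = Cfsg.conjBy ⁅A, B⁆ x} ∧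
    {E | ∃ x ∈ B ⊔ D, E = Cfsg.conjBy A x} = (fun b : G => Cfsg.conjBy A b) '' (B : Set G) ∪ {⁅A, B⁆} ∧
    {E | ∃ x ∈ B ⊔ D, E = Cfsg.conjBy A x} = (fun d : G => Cfsg.conjBy ⁅A, B⁆ d) '' (D : Set G) ∪ {A} ∧
    Cfsg.IsSubgroupPartition (A ⊔ ⁅A, B⁆) {E | ∃ x ∈ B ⊔ D, E = Cfsg.conjBy A x} ∧
    ∀ x ∈ (B ⊔ D) ⊓ Subgroup.centralizer ((A ⊔ ⁅A, B⁆ : Subgroup G) : Set G), ∀ y ∈ B ⊔ D, x * y = y * x := by
  have o : Opp S A B D := ⟨hS, hA, hB, hD, hC, hDC⟩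
  obtain ⟨g, hg, hgC⟩ := o.exists_C_eq
  refine ⟨o.rankOne_BD, ?_, o.orbit_eq_orbP, ?_, ?_, ?_⟩
  · ext E
    constructor
    · rintro ⟨x, hx, rfl⟩
      refine ⟨x * g⁻¹, Subgroup.mul_mem _ hx (Subgroup.inv_mem _ hg), ?_⟩
      rw [hgC, conjBy_conjBy, inv_mul_cancel_right]
    · rintro ⟨x, hx, rfl⟩
      refine ⟨x * g, Subgroup.mul_mem _ hx hg, ?_⟩
      rw [hgC, conjBy_conjBy]
  · rw [o.orbit_eq_orbP]
    ext E
    constructor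
    · rintro (⟨b, hb, rfl⟩ | hE)
      · by_cases hb1 : b = 1
        · right
          simp only [hb1, conjBy_one]
          rfl
        · obtain ⟨d, hd, -, h⟩ := o.conjBy_A_eq hb hb1
          left
          exact ⟨d, hd, h.symm⟩
      · rw [Set.mem_singleton_iff] at hE
        left
        exact ⟨1, D.one_mem, by rw [hE]; exact conjBy_one _⟩
    · rintro (⟨d, hd, rfl⟩ | hE)
      · exact o.conjBy_C_mem_orbP hd
      · rw [Set.mem_singleton_iff] at hE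
        left
        exact ⟨1, B.one_mem, by rw [hE]; exact conjBy_one _⟩
  · rw [o.orbit_eq_orbP]
    exact o.orbP_partition
  · rintro x ⟨hx, hxN⟩ y hy
    exact o.centralizer_le_center hx hxN y hy

end Cfsg.Agent.S5036
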