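import Cfsg.Statements.S5088
import Cfsg.Agent.Lib.Helper26.FusionSeries4

set_option autoImplicit false
open Cfsg

namespace Cfsg.Agent.S5088

open Cfsg.Agent.Lib.Helper26 Cfsg.FusionSystem

theorem result {Ω : Type*} [Group Ω] {S : Subgroup Ω} [Finite S] (p : ℕ) [Fact p.Prime] (hS : IsPGroup p S) (F : Cfsg.FusionSystem S) (hF : F.IsSaturated p) (Q : Subgroup Ω) : F.IsNormal Q ↔ ∃ (n : ℕ) (Qs : Fin (n + 1) → Subgroup Ω), Qs 0 = ⊥ ∧ Qs (Fin.last n) = Q ∧ Monotone Qs ∧ ∀ i : Fin n, F.StronglyClosed (Qs i.succ) ∧ ⁅Q, Qs i.succ⁆ ≤ Qs (Fin.castSucc i) := by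
  constructor
  · intro hQ
    obtain ⟨n, hn⟩ := exists_ucs_eq hS hQ.1
    refine ⟨n, fun i => ucs Q i, ucs_zero Q, hn, fun i j hij => ucs_mono Q hij, fun i => ?_⟩
    exact ⟨stronglyClosed_ucs_of_isNormal F hQ _, commutator_ucs_le Q i⟩
  · rintro ⟨n, Qs, h0, hlast, -, hstep⟩
    exact isNormal_of_chain hS F hF Q n Qs h0 hlast hstep

end Cfsg.Agent.S5088
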