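import Cfsg.Statements.S5085
import Cfsg.Agent.Lib.Helper26.FusionBasic

set_option autoImplicit false
open Cfsg

namespace Cfsg.Agent.S5085

open Cfsg.FusionSystem Cfsg.Agent.Lib.Helper26

theorem result {Ω : Type*} [Group Ω] {S : Subgroup Ω} (F : Cfsg.FusionSystem S) (Q U : Subgroup Ω) (hQ : F.IsNormal Q) (hUQ : U ≤ Q) (hU : (U.subgroupOf Q).Characteristic) : F.IsNormal U := by
  refine ⟨hUQ.trans hQ.1, fun P φ hφ => ?_⟩
  obtain ⟨ψ, hψ, hψφ, hψQ⟩ := hQ.2 P φ hφ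
  have hle : P ⊔ U ≤ P ⊔ Q := sup_le_sup_left hUQ P
  have hQle : Q ≤ P ⊔ Q := le_sup_right
  have hψQmem : ∀ q : Q, ψ ⟨q, hQle q.2⟩ ∈ Q := by
    intro q
    exact hψQ.le ⟨⟨q, hQle q.2⟩, Subgroup.mem_subgroupOf.mpr q.2, rfl⟩
  let f : Q →* Q := (ψ.comp (Subgroup.inclusion hQle)).codRestrict Q hψQmem
  have hfinj : Function.Injective f := by
    intro a b hab
    have h1 : ψ ⟨a, hQle a.2⟩ = ψ ⟨b, hQle b.2⟩ := congrArg Subtype.val hab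
    have h2 := F.injective_of_mem hψ h1
    exact Subtype.ext (Subtype.mk.inj h2)
  have hfsurj : Function.Surjective f := by
    intro q
    have hq : (q : Ω) ∈ (Q.subgroupOf (P ⊔ Q)).map ψ := hψQ.ge q.2
    obtain ⟨y, hy, hyq⟩ := hq
    exact ⟨⟨y, Subgroup.mem_subgroupOf.mp hy⟩, Subtype.ext hyq⟩
  let α : Q ≃* Q := MulEquiv.ofBijective f ⟨hfinj, hfsurj⟩
  have hfix := hU.fixed α
  have hiff : ∀ q : Q, (q : Ω) ∈ U ↔ ψ ⟨q, hQle q.2⟩ ∈ U := by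
    intro q
    have : q ∈ (U.subgroupOf Q).comap α.toMonoidHom ↔ q ∈ U.subgroupOf Q := by rw [hfix]
    rw [Subgroup.mem_comap, Subgroup.mem_subgroupOf, Subgroup.mem_subgroupOf] at this
    exact this.symm
  refine ⟨ψ.comp (Subgroup.inclusion hle), restrict_mem F hψ hle, fun x => hψφ x, ?_⟩
  ext z
  constructor
  · rintro ⟨y, hy, rfl⟩
    have hyU : (y : Ω) ∈ U := Subgroup.mem_subgroupOf.mp hy
    exact (hiff ⟨y, hUQ hyU⟩).mp hyU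
  · intro hz
    obtain ⟨q, hq⟩ := hfsurj ⟨z, hUQ hz⟩
    have hq' : ψ ⟨q, hQle q.2⟩ = z := congrArg Subtype.val hq
    have hqU : (q : Ω) ∈ U := (hiff q).mpr (hq' ▸ hz)
    exact ⟨⟨q, (le_sup_right : U ≤ P ⊔ U) hqU⟩, Subgroup.mem_subgroupOf.mpr hqU, hq'⟩

end Cfsg.Agent.S5085
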