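import Cfsg.Statements.S5089
import Cfsg.Agent.Lib.Helper26.FusionSeries4
import Cfsg.Agent.Lib.Helper27.FusJoin

set_option autoImplicit false
open Cfsg

namespace Cfsg.Agent.S5089

open Cfsg.Agent.Lib.Helper26 Cfsg.FusionSystem
open scoped commutatorElement

theorem result {Ω : Type*} [Group Ω] {S : Subgroup Ω} [Finite S] (p : ℕ) [Fact p.Prime] (hS : IsPGroup p S) (F : Cfsg.FusionSystem S) (hF : F.IsSaturated p) : F.core ≠ ⊥ ↔ ∃ Q : Subgroup Ω, Q ≠ ⊥ ∧ IsMulCommutative Q ∧ F.StronglyClosed Q := by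
  constructor
  · intro hne
    have hcore : F.IsNormal F.core := Cfsg.Agent.Lib.Helper27.isNormal_core F
    have hcS : F.core ≤ S := hcore.1
    have hfin : Finite F.core := finite_of_le hcS
    have hnt : Nontrivial F.core := (Subgroup.nontrivial_iff_ne_bot _).mpr hne
    have hcen : Nontrivial (Subgroup.center F.core) := (hS.to_le hcS).center_nontrivial
    refine ⟨ucs F.core 1, ?_, ?_, stronglyClosed_ucs_of_isNormal F hcore 1⟩
    · obtain ⟨⟨z, hz⟩, hz1⟩ := exists_ne (1 : Subgroup.center F.core)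
      intro hbot
      apply hz1
      have h1 : (z : Ω) ∈ ucs F.core 1 := by
        refine mem_ucs_iff.mpr ⟨z.2, ?_⟩
        rw [Subgroup.upperCentralSeries_one]
        exact hz
      rw [hbot, Subgroup.mem_bot] at h1
      exact Subtype.ext (Subtype.ext h1)
    · refine ⟨⟨fun a b => ?_⟩⟩
      obtain ⟨haQ, ha'⟩ := mem_ucs_iff.mp a.2
      rw [Subgroup.upperCentralSeries_one, Subgroup.mem_center_iff] at ha'
      have hbQ : (b : Ω) ∈ F.core := ucs_le _ _ b.2
      have := ha' ⟨b, hbQ⟩
      apply Subtype.ext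
      exact (congrArg Subtype.val this).symm
  · rintro ⟨Q, hne, hcomm, hQ⟩
    have hnorm : F.IsNormal Q := by
      refine isNormal_of_chain hS F hF Q 1 ![⊥, Q] rfl rfl (fun i => ?_)
      have hi : i = 0 := Subsingleton.elim _ _
      subst hi
      refine ⟨hQ, ?_⟩
      show ⁅Q, Q⁆ ≤ ⊥
      rw [Subgroup.commutator_le]
      intro a ha b hb
      rw [Subgroup.mem_bot, commutatorElement_def]
      have h1 : (⟨a, ha⟩ : Q) * ⟨b, hb⟩ = ⟨b, hb⟩ * ⟨a, ha⟩ := hcomm.is_comm.comm _ _
      have h2 : a * b = b * a := congrArg Subtype.val h1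
      rw [h2]
      group
    intro hbot
    apply hne
    have : Q ≤ F.core := le_sSup hnorm
    rw [hbot] at this
    exact le_bot_iff.mp this

end Cfsg.Agent.S5089
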