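import Cfsg.Statements.S5128
import Cfsg.Agent.Lib.Helper26.PuigExt

set_option autoImplicit false
open Cfsg

namespace Cfsg.Agent.S5128

open Cfsg.FusionSystem Cfsg.Agent.Lib.Helper26

theorem result {Ω : Type*} [Group Ω] {S : Subgroup Ω} [Finite S] (p : ℕ) [Fact p.Prime] (hS : IsPGroup p S) (F : Cfsg.FusionSystem S) (hF : F.IsSaturated p) (T₁ T₂ : Subgroup Ω) (h₁ : F.StronglyClosed T₁) (h₂ : F.StronglyClosed T₂) : F.StronglyClosed (T₁ ⊔ T₂) := by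
  refine ⟨sup_le h₁.1 h₂.1, fun R hR φ hφ x => ?_⟩
  obtain ⟨ψ, hψ, hψT⟩ := exists_extMod hS F hF h₁ hφ
  have hT₁n : S ≤ Subgroup.normalizer (T₁ : Set Ω) := le_normalizer_of_stronglyClosed F h₁
  have hx : (x : Ω) ∈ ((T₂ ⊔ T₁ : Subgroup Ω) : Set Ω) := by
    rw [sup_comm]
    exact hR x.2
  rw [Subgroup.coe_mul_of_left_le_normalizer_right T₂ T₁ (h₂.1.trans hT₁n)] at hx
  obtain ⟨t₂, ht₂, t₁, ht₁, hxe⟩ := Set.mem_mul.mp hx
  have ht₁' : t₁ ∈ R ⊔ T₁ := Subgroup.mem_sup_right ht₁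
  have ht₂' : t₂ ∈ R ⊔ T₁ := by
    have e : t₂ = (x : Ω) * t₁⁻¹ := by
      rw [← hxe]
      group
    rw [e]
    exact Subgroup.mul_mem _ (Subgroup.mem_sup_left x.2) (Subgroup.inv_mem _ ht₁')
  have e1 : Subgroup.inclusion (le_sup_left : R ≤ R ⊔ T₁) x = ⟨t₂, ht₂'⟩ * ⟨t₁, ht₁'⟩ :=
    Subtype.ext hxe.symm
  have h3 : ψ (Subgroup.inclusion le_sup_left x) ∈ T₁ ⊔ T₂ := by
    rw [e1, map_mul]
    exact Subgroup.mul_mem _
      (Subgroup.mem_sup_right (apply_mem_of_stronglyClosed F h₂ hψ ⟨t₂, ht₂'⟩ ht₂))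
      (Subgroup.mem_sup_left (apply_mem_of_stronglyClosed F h₁ hψ ⟨t₁, ht₁'⟩ ht₁))
  have e2 : φ x = ψ (Subgroup.inclusion le_sup_left x) *
      ((φ x)⁻¹ * ψ (Subgroup.inclusion le_sup_left x))⁻¹ := by group
  rw [e2]
  exact Subgroup.mul_mem _ h3 (Subgroup.inv_mem _ (Subgroup.mem_sup_left (hψT x)))

end Cfsg.Agent.S5128
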