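import Cfsg.Statements.S5091
import Cfsg.Agent.Lib.Helper26.ModelUniq4

set_option autoImplicit false
open Cfsg

namespace Cfsg.Agent.S5091

/-- Model Theorem, uniqueness: two models of a constrained saturated fusion system over a finite p-group S are isomorphic by an isomorphism compatible with the two embeddings of S. -/
theorem result {Ω : Type*} [Group Ω] {S : Subgroup Ω} [Finite S] (p : ℕ) [Fact p.Prime] (hS : IsPGroup p S) (F : Cfsg.FusionSystem S) (hF : F.IsConstrained p) {G₁ G₂ : Type*} [Group G₁] [Group G₂] (ι₁ : S →* G₁) (ι₂ : S →* G₂) (h₁ : F.IsModel p G₁ ι₁) (h₂ : F.IsModel p G₂ ι₂) : ∃ φ : G₁ ≃* G₂, ∀ x : S, φ (ι₁ x) = ι₂ x := by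
  obtain ⟨-, Q, hQ, hQc⟩ := hF
  obtain ⟨ψ, hψi, hψ⟩ := Cfsg.Agent.Lib.Helper26.exists_model_hom F hQ hQc ι₁ ι₂ h₁ h₂
  obtain ⟨ψ', hψ'i, -⟩ := Cfsg.Agent.Lib.Helper26.exists_model_hom F hQ hQc ι₂ ι₁ h₂ h₁
  have hfin₁ : Finite G₁ := h₁.1
  have hfin₂ : Finite G₂ := h₂.1
  have hcard : Nat.card G₂ ≤ Nat.card G₁ := Nat.card_le_card_of_injective ψ' hψ'i
  have hbij : Function.Bijective ψ := Function.Injective.bijective_of_nat_card_le hψi hcard
  exact ⟨MulEquiv.ofBijective ψ hbij, hψ⟩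

end Cfsg.Agent.S5091
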