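import Cfsg.Statements.S5329
import Cfsg.Agent.Lib.helper17.CB13

set_option autoImplicit false
open Cfsg

namespace Cfsg.Agent.S5329

open Cfsg.FusionSystem Cfsg.Agent.Lib.Helper26 Cfsg.Agent.Lib.helper17.CB13

/-- For a saturated fusion system F over a finite p-group S, the focal subgroup and the derived subgroup of S meet the centre Z(F) of the system in the same subgroup: foc(F) ∩ Z(F) = S′ ∩ Z(F). -/
theorem result {Ω : Type*} [Group Ω] {S : Subgroup Ω} [Finite S] (p : ℕ) [Fact p.Prime] (hS : IsPGroup p S) (F : Cfsg.FusionSystem S) (hF : F.IsSaturated p) : F.focalSubgroup ⊓ F.center = ⁅(S : Subgroup Ω), (S : Subgroup Ω)⁆ ⊓ F.center := by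
  have hcen := Cfsg.Agent.Lib.Helper27.isCentral_center F
  apply le_antisymm
  · -- the transfer argument
    rintro z ⟨hzf, hzc⟩
    refine ⟨?_, hzc⟩
    have hzS : z ∈ S := hcen.1 hzc
    obtain ⟨τ, m, hm, hinv, hcenτ⟩ :=
      exists_transfer hS F hF (Abelianization.of : ↥S →* Abelianization ↥S)
    -- `τ` kills the focal subgroup
    have hfoc : F.focalSubgroup ≤ τ.ker.map S.subtype := by
      unfold Cfsg.FusionSystem.focalSubgroup
      rw [Subgroup.closure_le]
      rintro y ⟨P, φ, x, hφ, rfl⟩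
      have hxS : (x : Ω) ∈ S := source_le F hφ x.2
      have hφS : φ x ∈ S := apply_mem F hφ x
      refine ⟨⟨x, hxS⟩⁻¹ * ⟨φ x, hφS⟩, ?_, rfl⟩
      show _ ∈ τ.ker
      rw [MonoidHom.mem_ker, map_mul, map_inv, hinv P φ hφ x]
      exact inv_mul_cancel _
    obtain ⟨z', hz'ker, hz'⟩ := hfoc hzf
    have hz'eq : z' = ⟨z, hzS⟩ := Subtype.ext hz'
    replace hz'ker : z' ∈ τ.ker := hz'ker
    rw [hz'eq, MonoidHom.mem_ker, hcenτ z hzc hzS] at hz'ker
    -- orders
    obtain ⟨k, hk⟩ := hS.exists_card_eq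
    have h1 : (Abelianization.of (⟨z, hzS⟩ : ↥S)) ^ (p ^ k) = 1 := by
      rw [← map_pow, ← hk, pow_card_eq_one', map_one]
    have hcop : Nat.Coprime m (p ^ k) :=
      Nat.Coprime.pow_right k ((Nat.Prime.coprime_iff_not_dvd (Fact.out : p.Prime)).mpr hm).symm
    have h2 : Abelianization.of (⟨z, hzS⟩ : ↥S) = 1 := by
      have h3 := orderOf_dvd_of_pow_eq_one hz'ker
      have h4 := orderOf_dvd_of_pow_eq_one h1
      have h5 := Nat.dvd_gcd h3 h4
      rw [hcop.gcd_eq_one, Nat.dvd_one] at h5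
      exact orderOf_eq_one_iff.mp h5
    have h6 : (⟨z, hzS⟩ : ↥S) ∈ commutator ↥S := by
      rw [← Abelianization.ker_of, MonoidHom.mem_ker]
      exact h2
    have h7 : (commutator ↥S).map S.subtype = ⁅(S : Subgroup Ω), (S : Subgroup Ω)⁆ := by
      rw [commutator_def, Subgroup.map_commutator, ← MonoidHom.range_eq_map, Subgroup.range_subtype]
    rw [← h7]
    exact ⟨⟨z, hzS⟩, h6, rfl⟩
  · apply inf_le_inf_right
    rw [Subgroup.commutator_le]
    intro a ha b hb
    apply Subgroup.subset_closure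
    refine ⟨S, conjHom S b, ⟨a⁻¹, S.inv_mem ha⟩, F.conj_mem le_rfl hb, ?_⟩
    rw [conjHom_apply, commutatorElement_def]
    simp [mul_assoc]

end Cfsg.Agent.S5329
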