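import Cfsg.Statements.S5106
import Cfsg.Agent.Lib.Helper26.FusionSeries4

set_option autoImplicit false
open Cfsg

namespace Cfsg.Agent.S5106

open Cfsg.Agent.Lib.Helper26 Cfsg.FusionSystem

theorem result {Ω : Type*} [Group Ω] {S : Subgroup Ω} [Finite S] (p : ℕ) [Fact p.Prime] (hS : IsPGroup p S) (F : Cfsg.FusionSystem S) (hF : F.IsSaturated p) (R : Subgroup Ω) (hRS : R ≤ S) : F.IsNormal R ↔ ∀ (P : Subgroup Ω) (hPR : P ≤ R) (φ : P →* Ω), φ ∈ F.Hom P → ∃ α ∈ F.autGroup R, ∀ x : P, ((α (Subgroup.inclusion hPR x) : R) : Ω) = φ x := by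
  constructor
  · intro hR P hPR φ hφ
    obtain ⟨ψ, hψ, hψφ, hψQ⟩ := hR.2 P φ hφ
    have hθ : ψ.comp (Subgroup.inclusion (le_sup_right : R ≤ P ⊔ R)) ∈ F.Hom R :=
      restrict_mem F hψ le_sup_right
    have hr : (ψ.comp (Subgroup.inclusion (le_sup_right : R ≤ P ⊔ R))).range = R := by
      ext z
      have h3 : z ∈ R ↔ z ∈ (R.subgroupOf (P ⊔ R)).map ψ := by rw [hψQ]
      rw [h3, map_subgroupOf_sup_eq]
      rfl
    obtain ⟨e, he, hex⟩ := exists_iso_of_hom F hθ hr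
    refine ⟨e, (isIso_iff_mem_autGroup F hRS e).mp he, fun x => ?_⟩
    have h1 := hex (Subgroup.inclusion hPR x)
    have h2 : Subgroup.inclusion (le_sup_right : R ≤ P ⊔ R) (Subgroup.inclusion hPR x) =
        Subgroup.inclusion (le_sup_left : P ≤ P ⊔ R) x := Subtype.ext rfl
    rw [MonoidHom.comp_apply, h2, hψφ] at h1
    exact h1
  · intro h
    obtain ⟨n, hn⟩ := exists_ucs_eq hS hRS
    refine isNormal_of_chain hS F hF R n (fun i => ucs R i) (ucs_zero R) hn (fun i => ?_)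
    refine ⟨⟨(ucs_le R _).trans hRS, fun P hP φ hφ x => ?_⟩, commutator_ucs_le R i⟩
    have hPR : P ≤ R := hP.trans (ucs_le R _)
    obtain ⟨α, -, hα⟩ := h P hPR φ hφ
    rw [← hα x]
    exact apply_mem_ucs α (x := Subgroup.inclusion hPR x) (hP x.2)

end Cfsg.Agent.S5106
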