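import Cfsg.Statements.S5345

set_option autoImplicit false
open Cfsg

namespace Cfsg.Agent.S5345

open scoped Pointwise

theorem sylow_conj_into {M : Type*} [Group M] [Finite M] {p : ℕ} [Fact p.Prime] (S : Sylow p M)
    (Q : Subgroup M) (hQ : IsPGroup p Q) : ∃ m : M, ∀ y ∈ Q, m * y * m⁻¹ ∈ (S : Subgroup M) := by
  obtain ⟨R, hQR⟩ := hQ.exists_le_sylow
  obtain ⟨m, hm⟩ := MulAction.exists_smul_eq M R S
  refine ⟨m, fun y hy => ?_⟩
  have hyR : y ∈ (R : Subgroup M) := hQR hy
  have : m * y * m⁻¹ ∈ ((m • R : Sylow p M) : Subgroup M) := by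
    rw [Sylow.coe_subgroup_smul]
    exact Subgroup.smul_mem_pointwise_smul y (MulAut.conj m) (R : Subgroup M) hyR
  rw [hm] at this
  exact this

theorem sq_one {G : Type*} [Group G] (d : G) (h : orderOf d = 2) : d * d = 1 := by
  rw [← pow_two, ← h, pow_orderOf_eq_one]

theorem pgroup_of_comm_invol {G : Type*} [Group G] (E : Set G) (hE2 : ∀ e ∈ E, e * e = 1)
    (hEc : ∀ a ∈ E, ∀ b ∈ E, a * b = b * a) : IsPGroup 2 (Subgroup.closure E) := by
  have hcomm : IsMulCommutative (Subgroup.closure E) := Subgroup.isMulCommutative_closure hEc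
  have key : ∀ x ∈ Subgroup.closure E, x * x = 1 := by
    intro x hx
    induction hx using Subgroup.closure_induction with
    | mem x hx => exact hE2 x hx
    | one => simp
    | mul x y hx hy ihx ihy =>
      have hxy : x * y = y * x := setLike_mul_comm (s := Subgroup.closure E) hx hy
      calc x * y * (x * y) = x * (y * x) * y := by group
        _ = x * (x * y) * y := by rw [hxy]
        _ = (x * x) * (y * y) := by group
        _ = 1 := by rw [ihx, ihy, one_mul]
    | inv x hx ih =>
      have : x⁻¹ = x := inv_eq_of_mul_eq_one_right ih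
      rw [this, ih]
  intro g
  refine ⟨1, ?_⟩
  apply Subtype.ext
  simp only [pow_one, pow_two, Subgroup.coe_mul, Subgroup.coe_one]
  exact key g g.2

/-- Let D be a conjugation-invariant generating set of 3-transpositions of a finite group G and T a Sylow 2-subgroup of G. Then the members of D lying in T generate an abelian subgroup, and their number is the width of D (the largest number of pairwise commuting members of D). -/
theorem result {G : Type*} [Group G] [Finite G] {D : Set G} (hD : Cfsg.IsThreeTranspositionGroup D) (T : Sylow 2 G) : IsMulCommutative (Subgroup.closure {d : G | d ∈ D ∧ d ∈ T}) ∧ {d : G | d ∈ D ∧ d ∈ T}.ncard = Cfsg.commutingWidth D := by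
  obtain ⟨⟨hord, hprod⟩, hconj, -⟩ := hD
  have sq : ∀ d ∈ D, d * d = 1 := fun d hd => sq_one d (hord d hd)
  have inv : ∀ d ∈ D, d⁻¹ = d := fun d hd => inv_eq_of_mul_eq_one_right (sq d hd)
  have hXc : ∀ a ∈ {d : G | d ∈ D ∧ d ∈ T}, ∀ b ∈ {d : G | d ∈ D ∧ d ∈ T}, a * b = b * a := by
    rintro a ⟨haD, haT⟩ b ⟨hbD, hbT⟩
    have habT : a * b ∈ (T : Subgroup G) := (T : Subgroup G).mul_mem haT hbT
    have h2 : (a * b) ^ 2 = 1 := by
      rcases hprod a haD b hbD with h | h
      · exact h
      · obtain ⟨k, hk⟩ := T.isPGroup' ⟨a * b, habT⟩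
        have hk' : (a * b) ^ 2 ^ k = 1 := by
          have := congrArg Subtype.val hk
          simpa using this
        have h1 : orderOf (a * b) ∣ 2 ^ k := orderOf_dvd_of_pow_eq_one hk'
        have h3 : orderOf (a * b) ∣ 3 := orderOf_dvd_of_pow_eq_one h
        have hcop : Nat.Coprime (2 ^ k) 3 := Nat.Coprime.pow_left k (by norm_num)
        have := Nat.dvd_gcd h1 h3
        rw [hcop] at this
        have : a * b = 1 := orderOf_eq_one_iff.mp (Nat.dvd_one.mp this)
        rw [this, one_pow]
    have h3 : a * b = (a * b)⁻¹ := by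
      rw [eq_inv_iff_mul_eq_one, ← pow_two]; exact h2
    rw [mul_inv_rev, inv a haD, inv b hbD] at h3
    exact h3
  refine ⟨Subgroup.isMulCommutative_closure hXc, ?_⟩
  have hXfin : {d : G | d ∈ D ∧ d ∈ T}.Finite := Set.toFinite _
  unfold Cfsg.commutingWidth
  symm
  apply IsGreatest.csSup_eq
  constructor
  · exact ⟨_, fun d hd => hd.1, hXfin, fun a ha b hb => hXc a ha b hb, rfl⟩
  · rintro n ⟨E, hED, hEfin, hEc, rfl⟩
    have hP : IsPGroup 2 (Subgroup.closure E) :=
      pgroup_of_comm_invol E (fun e he => sq e (hED he)) (fun a ha b hb => hEc a ha b hb)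
    obtain ⟨m, hm⟩ := sylow_conj_into T (Subgroup.closure E) hP
    have hsub : (fun x => m * x * m⁻¹) '' E ⊆ {d : G | d ∈ D ∧ d ∈ T} := by
      rintro _ ⟨e, he, rfl⟩
      exact ⟨hconj m e (hED he), hm e (Subgroup.subset_closure he)⟩
    have hinj : Function.Injective (fun x : G => m * x * m⁻¹) := by
      intro x y hxy
      exact mul_left_cancel (mul_right_cancel hxy)
    calc E.ncard = ((fun x => m * x * m⁻¹) '' E).ncard := (Set.ncard_image_of_injective E hinj).symm
      _ ≤ {d : G | d ∈ D ∧ d ∈ T}.ncard := Set.ncard_le_ncard hsub hXfin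

end Cfsg.Agent.S5345
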