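import Cfsg.Statements.S5349
import Cfsg.Agent.Lib.Helper27.TTrans

set_option autoImplicit false
open Cfsg

namespace Cfsg.Agent.S5349

open Cfsg.Agent.Lib.Helper27

theorem class_conj {G : Type*} [Group G] {D : Set G} (hD : Cfsg.IsThreeTranspositionClass D) :
    ∀ g : G, ∀ d ∈ D, g * d * g⁻¹ ∈ D := by
  obtain ⟨-, ⟨d0, -, hD0⟩, -⟩ := hD
  intro g d hd
  rw [hD0] at hd ⊢
  have hd' : IsConj d0 d := hd
  show IsConj d0 (g * d * g⁻¹)
  exact hd'.trans (isConj_iff.mpr ⟨g, rfl⟩)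

theorem exists_not_commute {G : Type*} [Group G] {D : Set G}
    (hD : Cfsg.IsThreeTranspositionClass D) (hD2 : ∃ a ∈ D, ∃ b ∈ D, a ≠ b) {d : G} (hd : d ∈ D) :
    ∃ x ∈ D, ¬ Commute d x := by
  by_contra hcon
  push Not at hcon
  obtain ⟨-, ⟨d0, -, hD0⟩, hgen⟩ := hD
  have hcen : d ∈ Subgroup.center G := by
    have h1 : Subgroup.closure D ≤ Subgroup.centralizer {d} := by
      rw [Subgroup.closure_le]
      intro x hx
      rw [SetLike.mem_coe, Subgroup.mem_centralizer_singleton_iff]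
      exact (hcon x hx).symm.eq
    rw [hgen] at h1
    rw [Subgroup.mem_center_iff]
    intro g
    have := h1 (Subgroup.mem_top g)
    rw [Subgroup.mem_centralizer_singleton_iff] at this
    exact this
  have hall : ∀ a ∈ D, a = d := by
    intro a ha
    rw [hD0] at ha hd
    have ha' : IsConj d0 a := ha
    have hd' : IsConj d0 d := hd
    obtain ⟨g, hg⟩ := isConj_iff.mp (hd'.symm.trans ha')
    rw [← hg]
    have := (Subgroup.mem_center_iff.mp hcen g)
    rw [this]; group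
  obtain ⟨a, ha, b, hb, hab⟩ := hD2
  exact hab ((hall a ha).trans (hall b hb).symm)

theorem commute_of_core {G : Type*} [Group G] {D : Set G} (hD : Cfsg.IsThreeTranspositionSet D)
    {d v e : G} (hd : d ∈ D) (he : e ∈ D) (hq : d⁻¹ * v ∈ Cfsg.pCore 2 G)
    (hve : Commute v e) : Commute d e := by
  have hQn : (Cfsg.pCore 2 G).Normal := Cfsg.Agent.Lib.Helper1.pCore_normal 2
  have hQp : IsPGroup 2 (Cfsg.pCore 2 G) := Cfsg.Agent.Lib.Helper1.pCore_isPGroup 2
  have hdd := tt_sq hD hd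
  have hee := tt_sq hD he
  have hdi := tt_inv hD hd
  have hei := tt_inv hD he
  set q := d⁻¹ * v with hqdef
  have hv : v = d * q := by rw [hqdef]; group
  -- (d e)^2 ∈ Q
  have h1 : d * e * d⁻¹ * e⁻¹ ∈ Cfsg.pCore 2 G := by
    have hd' : d = v * q⁻¹ := by rw [hv]; group
    have e1 : d * e * d⁻¹ * e⁻¹ = v * (q⁻¹ * (e * q * e⁻¹)) * v⁻¹ := by
      have h2 : e * v⁻¹ = v⁻¹ * e := (hve.inv_left).symm.eq
      calc d * e * d⁻¹ * e⁻¹ = v * q⁻¹ * e * (v * q⁻¹)⁻¹ * e⁻¹ := by rw [← hd']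
        _ = v * q⁻¹ * e * q * (v⁻¹ * e⁻¹) := by group
        _ = v * q⁻¹ * e * q * ((e * v)⁻¹) := by group
        _ = v * q⁻¹ * e * q * ((v * e)⁻¹) := by rw [hve.eq]
        _ = v * (q⁻¹ * (e * q * e⁻¹)) * v⁻¹ := by group
    rw [e1]
    exact hQn.conj_mem _ (Subgroup.mul_mem _ (Subgroup.inv_mem _ hq) (hQn.conj_mem _ hq e)) v
  have h2 : d * e * d⁻¹ * e⁻¹ = (d * e) ^ 2 := by
    rw [hdi, hei, pow_two]; group
  rw [h2] at h1
  rcases hD.2 d hd e he with h | h
  · -- (d e)^2 = 1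
    have : d * e = (d * e)⁻¹ := by
      rw [eq_inv_iff_mul_eq_one, ← pow_two]; exact h
    rw [mul_inv_rev, hdi, hei] at this
    exact this
  · have h3 : d * e ∈ Cfsg.pCore 2 G := by
      have : d * e = ((d * e) ^ 2)⁻¹ := by
        rw [eq_inv_iff_mul_eq_one, ← pow_succ']
        exact h
      rw [this]
      exact Subgroup.inv_mem _ h1
    obtain ⟨k, hk⟩ := hQp ⟨d * e, h3⟩
    have hk' : (d * e) ^ 2 ^ k = 1 := by
      have := congrArg Subtype.val hk
      simpa using this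
    have o1 : orderOf (d * e) ∣ 2 ^ k := orderOf_dvd_of_pow_eq_one hk'
    have o2 : orderOf (d * e) ∣ 3 := orderOf_dvd_of_pow_eq_one h
    have hcop : Nat.Coprime (2 ^ k) 3 := Nat.Coprime.pow_left k (by norm_num)
    have := Nat.dvd_gcd o1 o2
    rw [hcop] at this
    have h4 : d * e = 1 := orderOf_eq_one_iff.mp (Nat.dvd_one.mp this)
    have h5 : e = d := by
      have : e = d⁻¹ := by
        rw [eq_inv_iff_mul_eq_one]
        have := h4
        rw [← hdi, ← hei] at this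
        have h6 : e * d = (d⁻¹ * e⁻¹)⁻¹ := by group
        rw [h6, this, inv_one]
      rw [this, hdi]
    rw [h5]

/-- Let D be a conjugacy class of 3-transpositions generating the finite group G, with at least two members, and d a member of D. Then the set of members of D commuting with exactly the same members of D as d coincides with the set of members of D lying in the coset of d modulo the largest normal 2-subgroup of G, and also with the orbit of d under conjugation by that normal 2-subgroup. -/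
theorem result {G : Type*} [Group G] [Finite G] {D : Set G} (hD : Cfsg.IsThreeTranspositionClass D) (hD2 : ∃ a ∈ D, ∃ b ∈ D, a ≠ b) {d : G} (hd : d ∈ D) : {v : G | v ∈ D ∧ ∀ e ∈ D, Commute v e ↔ Commute d e} = {v : G | v ∈ D ∧ d⁻¹ * v ∈ Cfsg.pCore 2 G} ∧ {v : G | v ∈ D ∧ ∀ e ∈ D, Commute v e ↔ Commute d e} = {v : G | ∃ g ∈ Cfsg.pCore 2 G, v = g * d * g⁻¹} := by
  have hset := hD.1
  have hconj := class_conj hD
  have hN := closure_perpProducts_le_pCore hset hconj
  have hNn := closure_perpProducts_normal hconj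
  have hQn : (Cfsg.pCore 2 G).Normal := Cfsg.Agent.Lib.Helper1.pCore_normal 2
  -- three inclusions
  have hA : ∀ v, (v ∈ D ∧ ∀ e ∈ D, Commute v e ↔ Commute d e) →
      ∃ g ∈ Cfsg.pCore 2 G, v = g * d * g⁻¹ := by
    rintro v ⟨hvD, hv⟩
    by_cases hvd : v = d
    · exact ⟨1, Subgroup.one_mem _, by rw [hvd]; group⟩
    · obtain ⟨x, hx, hdx⟩ := exists_not_commute hD hD2 hd
      have hdv : SamePerp D d v := fun e he => (hv e he).symm
      have h2 := (samePerp_config hset hconj hd hvD hx hdv (Ne.symm hvd) hdx).2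
      refine ⟨x * (d * v) * x⁻¹, hN (hNn.conj_mem _ (Subgroup.subset_closure ?_) x), h2.symm⟩
      exact ⟨d, hd, v, hvD, hdv, rfl⟩
  have hB : ∀ v, (∃ g ∈ Cfsg.pCore 2 G, v = g * d * g⁻¹) → v ∈ D ∧ d⁻¹ * v ∈ Cfsg.pCore 2 G := by
    rintro v ⟨g, hg, rfl⟩
    refine ⟨hconj g d hd, ?_⟩
    have : d⁻¹ * (g * d * g⁻¹) = (d⁻¹ * g * d⁻¹⁻¹) * g⁻¹ := by group
    rw [this]
    exact Subgroup.mul_mem _ (hQn.conj_mem _ hg _) (Subgroup.inv_mem _ hg)
  have hC : ∀ v, (v ∈ D ∧ d⁻¹ * v ∈ Cfsg.pCore 2 G) →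
      (v ∈ D ∧ ∀ e ∈ D, Commute v e ↔ Commute d e) := by
    rintro v ⟨hvD, hq⟩
    refine ⟨hvD, fun e he => ⟨fun h => commute_of_core hset hd he hq h, fun h => ?_⟩⟩
    have hq' : v⁻¹ * d ∈ Cfsg.pCore 2 G := by
      have : v⁻¹ * d = (d⁻¹ * v)⁻¹ := by group
      rw [this]
      exact Subgroup.inv_mem _ hq
    exact commute_of_core hset hvD he hq' h
  constructor
  · ext v
    exact ⟨fun h => hB v (hA v h), hC v⟩
  · ext v
    exact ⟨hA v, fun h => hC v (hB v h)⟩

end Cfsg.Agent.S5349
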