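import Cfsg.Statements.S5344

set_option autoImplicit false
open Cfsg

namespace Cfsg.Agent.S5344

def ev {M : Type*} [Monoid M] (x : Fin 3 → M) (w : List (Fin 3)) : M := (w.map x).prod

def wd : Fin 24 → List (Fin 3) :=
  ![[], [2], [2, 1], [2, 1, 0], [1], [1, 2], [1, 2, 1], [1, 2, 1, 0], [1, 0], [1, 0, 2],
    [1, 0, 2, 1], [1, 0, 2, 1, 0], [0], [0, 2], [0, 2, 1], [0, 2, 1, 0], [0, 1], [0, 1, 2],
    [0, 1, 2, 1], [0, 1, 2, 1, 0], [0, 1, 0], [0, 1, 0, 2], [0, 1, 0, 2, 1], [0, 1, 0, 2, 1, 0]]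

def nx : Fin 3 → Fin 24 → Fin 24 :=
  ![![12, 13, 14, 15, 16, 17, 18, 19, 20, 21, 22, 23, 0, 1, 2, 3, 4, 5, 6, 7, 8, 9, 10, 11],
    ![4, 5, 6, 7, 0, 1, 2, 3, 12, 13, 14, 15, 8, 9, 10, 11, 20, 21, 22, 23, 16, 17, 18, 19],
    ![1, 0, 4, 8, 2, 6, 5, 9, 3, 7, 11, 10, 13, 12, 16, 20, 14, 18, 17, 21, 15, 19, 23, 22]]

def gS : Fin 3 → Equiv.Perm (Fin 4) := ![Equiv.swap 0 1, Equiv.swap 1 2, Equiv.swap 2 3]

set_option maxRecDepth 100000 in
theorem evS_nx : ∀ i : Fin 3, ∀ k : Fin 24, ev gS (i :: wd k) = ev gS (wd (nx i k)) := by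
  decide

set_option maxRecDepth 100000 in
theorem evS_inj : ∀ k k' : Fin 24, ev gS (wd k) = ev gS (wd k') → k = k' := by
  decide

set_option maxRecDepth 100000 in
theorem evS_surj : ∀ σ : Equiv.Perm (Fin 4), ∃ k : Fin 24, ev gS (wd k) = σ := by
  decide

set_option maxRecDepth 100000 in
theorem ker_aux : ∀ σ : Equiv.Perm (Fin 4), σ ≠ 1 →
    ∃ τ ρ : Equiv.Perm (Fin 4),
      Equiv.swap (0 : Fin 4) 1 * Equiv.swap (2 : Fin 4) 3 = (τ * σ * τ⁻¹) * (ρ * σ * ρ⁻¹) := by
  decide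

section
variable {G : Type*} [Group G]

def gG (a b c : G) : Fin 3 → G := ![a, b, c]

theorem evG_nx {a b c : G} (ha : a * a = 1) (hb : b * b = 1) (hc : c * c = 1)
    (hab : b * (a * b) = a * (b * a)) (hbc : c * (b * c) = b * (c * b)) (hac : c * a = a * c) :
    ∀ i : Fin 3, ∀ k : Fin 24, ev (gG a b c) (i :: wd k) = ev (gG a b c) (wd (nx i k)) := by
  have ha' : ∀ x, a * (a * x) = x := fun x => by rw [← mul_assoc, ha, one_mul]
  have hb' : ∀ x, b * (b * x) = x := fun x => by rw [← mul_assoc, hb, one_mul]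
  have hc' : ∀ x, c * (c * x) = x := fun x => by rw [← mul_assoc, hc, one_mul]
  have hab' : ∀ x, b * (a * (b * x)) = a * (b * (a * x)) := fun x => by
    simp only [← mul_assoc]; simp only [mul_assoc b a b, hab, ← mul_assoc]
  have hbc' : ∀ x, c * (b * (c * x)) = b * (c * (b * x)) := fun x => by
    simp only [← mul_assoc]; simp only [mul_assoc c b c, hbc, ← mul_assoc]
  have hac' : ∀ x, c * (a * x) = a * (c * x) := fun x => by
    rw [← mul_assoc, hac, mul_assoc]
  have h4 : c * (b * (a * c)) = b * (c * (b * a)) := by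
    rw [← hac, hbc']
  have h4' : ∀ x, c * (b * (a * (c * x))) = b * (c * (b * (a * x))) := fun x => by
    rw [← hac', hbc']
  intro i k
  fin_cases i <;> fin_cases k <;>
    simp [ev, gG, wd, nx, ha, hb, hc, hab, hbc, hac, ha', hb', hc', hab', hbc', hac', h4, h4']

noncomputable def eqv : Fin 24 ≃ Equiv.Perm (Fin 4) :=
  Equiv.ofBijective (fun k => ev gS (wd k))
    ⟨fun k k' h => evS_inj k k' h, evS_surj⟩

theorem eqv_apply (k : Fin 24) : eqv k = ev gS (wd k) := rfl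

noncomputable def ff (a b c : G) (σ : Equiv.Perm (Fin 4)) : G :=
  ev (gG a b c) (wd (eqv.symm σ))

theorem ev_cons {M : Type*} [Monoid M] (x : Fin 3 → M) (i : Fin 3) (w : List (Fin 3)) :
    ev x (i :: w) = x i * ev x w := by
  simp [ev]

theorem ff_gen {a b c : G}
    (H : ∀ i : Fin 3, ∀ k : Fin 24, ev (gG a b c) (i :: wd k) = ev (gG a b c) (wd (nx i k)))
    (i : Fin 3) (σ : Equiv.Perm (Fin 4)) :
    ff a b c (gS i * σ) = gG a b c i * ff a b c σ := by
  unfold ff
  obtain ⟨k, rfl⟩ := eqv.surjective σ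
  have h1 : gS i * eqv k = eqv (nx i k) := by
    rw [eqv_apply, eqv_apply, ← ev_cons, evS_nx]
  rw [h1, Equiv.symm_apply_apply, Equiv.symm_apply_apply, ← H, ev_cons]

theorem ff_one (a b c : G) : ff a b c 1 = 1 := by
  unfold ff
  have : eqv.symm 1 = 0 := by
    rw [Equiv.symm_apply_eq]; rfl
  rw [this]; rfl

theorem ff_ev {a b c : G}
    (H : ∀ i : Fin 3, ∀ k : Fin 24, ev (gG a b c) (i :: wd k) = ev (gG a b c) (wd (nx i k)))
    (w : List (Fin 3)) (τ : Equiv.Perm (Fin 4)) :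
    ff a b c (ev gS w * τ) = ev (gG a b c) w * ff a b c τ := by
  induction w with
  | nil => simp [ev]
  | cons i w ih =>
    rw [ev_cons, ev_cons, mul_assoc, ff_gen H, ih, mul_assoc]

theorem ff_mul {a b c : G}
    (H : ∀ i : Fin 3, ∀ k : Fin 24, ev (gG a b c) (i :: wd k) = ev (gG a b c) (wd (nx i k)))
    (σ τ : Equiv.Perm (Fin 4)) :
    ff a b c (σ * τ) = ff a b c σ * ff a b c τ := by
  obtain ⟨k, rfl⟩ := evS_surj σ
  rw [ff_ev H]
  congr 1
  have := ff_ev H (wd k) 1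
  rw [mul_one, ff_one, mul_one] at this
  exact this.symm

end

theorem result {G : Type*} [Group G] {D : Set G} (hD : Cfsg.IsThreeTranspositionSet D) {a b c : G} (ha : a ∈ D) (hb : b ∈ D) (hc : c ∈ D) (hac : a ≠ c) (hac' : Commute a c) (hab : ¬ Commute a b) (hbc : ¬ Commute b c) : ∃ φ : Equiv.Perm (Fin 4) →* G, Function.Injective φ ∧ φ (Equiv.swap 0 1) = a ∧ φ (Equiv.swap 1 2) = b ∧ φ (Equiv.swap 2 3) = c := by
  have sq : ∀ d ∈ D, d * d = 1 := fun d hd => by
    have := hD.1 d hd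
    rw [← pow_two, ← this, pow_orderOf_eq_one]
  have inv : ∀ d ∈ D, d⁻¹ = d := fun d hd => by
    rw [inv_eq_iff_mul_eq_one]; exact sq d hd
  have braid : ∀ d ∈ D, ∀ e ∈ D, ¬ Commute d e → e * (d * e) = d * (e * d) := by
    intro d hd e he hne
    rcases hD.2 d hd e he with h | h
    · exfalso
      apply hne
      have h2 : d * e * (d * e) = 1 := by rw [← pow_two]; exact h
      have h3 : d * e = (d * e)⁻¹ := by
        rw [eq_inv_iff_mul_eq_one]; exact h2
      rw [mul_inv_rev, inv d hd, inv e he] at h3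
      exact h3
    · have h2 : d * e * (d * e * (d * e)) = 1 := by
        rw [← h]; simp only [pow_succ, pow_zero, one_mul, mul_assoc]
      have h3 : e * (d * e) = (d * e * d)⁻¹ := by
        rw [eq_inv_iff_mul_eq_one]
        have : e * (d * e) * (d * e * d) = d⁻¹ * (d * e * (d * e * (d * e))) * d := by
          group
        rw [this, h2, mul_one, inv_mul_cancel]
      rw [h3, mul_inv_rev, mul_inv_rev, inv d hd, inv e he]
  have H := evG_nx (sq a ha) (sq b hb) (sq c hc) (braid a ha b hb hab) (braid b hb c hc hbc)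
    hac'.eq.symm
  let φ : Equiv.Perm (Fin 4) →* G :=
    { toFun := ff a b c
      map_one' := ff_one a b c
      map_mul' := ff_mul H }
  have hφ : ∀ w, φ (ev gS w) = ev (gG a b c) w := by
    intro w
    have := ff_ev H w 1
    rw [mul_one, ff_one, mul_one] at this
    exact this
  have h0 : φ (Equiv.swap 0 1) = a := by
    have := hφ [0]
    simpa [ev, gS, gG] using this
  have h1 : φ (Equiv.swap 1 2) = b := by
    have := hφ [1]
    simpa [ev, gS, gG] using this
  have h2 : φ (Equiv.swap 2 3) = c := by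
    have := hφ [2]
    simpa [ev, gS, gG] using this
  refine ⟨φ, ?_, h0, h1, h2⟩
  rw [injective_iff_map_eq_one]
  intro σ hσ
  by_contra hne
  obtain ⟨τ, ρ, hτρ⟩ := ker_aux σ hne
  have := congrArg φ hτρ
  rw [map_mul, h0, h2] at this
  have h5 : φ (τ * σ * τ⁻¹ * (ρ * σ * ρ⁻¹)) = 1 := by
    simp only [map_mul, hσ, mul_one, map_inv, mul_inv_cancel]
  rw [h5] at this
  apply hac
  rw [← inv c hc, eq_inv_iff_mul_eq_one]
  exact this

end Cfsg.Agent.S5344
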