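import Cfsg.Statements.S5350
import Cfsg.Agent.Lib.Helper27.WClass
import Cfsg.Agent.S5344

set_option autoImplicit false
open Cfsg

namespace Cfsg.Agent.S5350

theorem s4_inv_sq : (Equiv.swap (0 : Fin 4) 1 * Equiv.swap 1 2 *
    (Equiv.swap 2 3 * (Equiv.swap 0 1 * Equiv.swap 1 2) * (Equiv.swap 2 3)⁻¹)) *
    (Equiv.swap (0 : Fin 4) 1 * Equiv.swap 1 2 *
    (Equiv.swap 2 3 * (Equiv.swap 0 1 * Equiv.swap 1 2) * (Equiv.swap 2 3)⁻¹)) = 1 := by
  decide

theorem s4_inv_ne : (Equiv.swap (0 : Fin 4) 1 * Equiv.swap 1 2 *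
    (Equiv.swap 2 3 * (Equiv.swap 0 1 * Equiv.swap 1 2) * (Equiv.swap 2 3)⁻¹)) ≠ 1 := by
  decide

/-- Let D be a conjugacy class of 3-transpositions generating the finite group G, with at least two members, and d a member of D. Then the set of members w of D whose commuting partners in D (other than w) are exactly those of d (other than d) coincides with the set of members of D lying in the coset of d modulo the largest normal 3-subgroup of G, and also with the orbit of d under conjugation by that normal 3-subgroup. -/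
theorem result {G : Type*} [Group G] [Finite G] {D : Set G} (hD : Cfsg.IsThreeTranspositionClass D) (hD2 : ∃ a ∈ D, ∃ b ∈ D, a ≠ b) {d : G} (hd : d ∈ D) : {w : G | w ∈ D ∧ {y : G | y ∈ D ∧ y ≠ d ∧ Commute d y} = {y : G | y ∈ D ∧ y ≠ w ∧ Commute w y}} = {w : G | w ∈ D ∧ d⁻¹ * w ∈ Cfsg.pCore 3 G} ∧ {w : G | w ∈ D ∧ {y : G | y ∈ D ∧ y ≠ d ∧ Commute d y} = {y : G | y ∈ D ∧ y ≠ w ∧ Commute w y}} = {w : G | ∃ g ∈ Cfsg.pCore 3 G, w = g * d * g⁻¹} := by
  classical
  have : Fact (Nat.Prime 3) := ⟨Nat.prime_three⟩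
  obtain ⟨hDs, ⟨d₀, hd₀, hDc⟩, hgen⟩ := hD
  have hconj : ∀ g : G, ∀ x ∈ D, g * x * g⁻¹ ∈ D := by
    intro g x hx
    rw [hDc] at hx ⊢
    have hx' : IsConj d₀ x := hx
    show IsConj d₀ (g * x * g⁻¹)
    exact hx'.trans (isConj_iff.mpr ⟨g, rfl⟩)
  have sq : ∀ x ∈ D, x * x = 1 := fun x hx => Cfsg.Agent.Lib.Helper27.tt_sq hDs hx
  have inv : ∀ x ∈ D, x⁻¹ = x := fun x hx => Cfsg.Agent.Lib.Helper27.tt_inv hDs hx
  set N := Cfsg.pCore 3 G with hN
  have hNn : N.Normal := Cfsg.Agent.Lib.Helper1.pCore_normal 3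
  have hNp : IsPGroup 3 N := Cfsg.Agent.Lib.Helper1.pCore_isPGroup 3
  -- an element of order 2 does not lie in `N`
  have hnot : ∀ x : G, x * x = 1 → x ≠ 1 → x ∉ N := by
    intro x hx2 hx1 hxN
    obtain ⟨k, hk⟩ := hNp ⟨x, hxN⟩
    have hk' : x ^ 3 ^ k = 1 := by
      have := congrArg Subtype.val hk
      simpa using this
    have h1 : orderOf x ∣ 3 ^ k := orderOf_dvd_of_pow_eq_one hk'
    have h2 : orderOf x ∣ 2 := orderOf_dvd_of_pow_eq_one (by rw [pow_two]; exact hx2)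
    have hcop : Nat.Coprime (3 ^ k) 2 := Nat.Coprime.pow_left k (by norm_num)
    have := Nat.dvd_gcd h1 h2
    rw [hcop] at this
    exact hx1 (orderOf_eq_one_iff.mp (Nat.dvd_one.mp this))
  -- members of `D` congruent modulo `N` do not commute unless equal
  have hncN : ∀ x ∈ D, ∀ w ∈ D, x * w ∈ N → x ≠ w → ¬ Commute x w := by
    intro x hx w hw hxw hne hc
    apply hnot (x * w) _ _ hxw
    · calc x * w * (x * w) = x * (w * x) * w := by group
        _ = x * (x * w) * w := by rw [hc.eq]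
        _ = (x * x) * (w * w) := by group
        _ = 1 := by rw [sq x hx, sq w hw, one_mul]
    · intro h
      apply hne
      have : x = w⁻¹ := eq_inv_of_mul_eq_one_left h
      rw [this, inv w hw]
  -- one inclusion of commuting partners
  have hsubset : ∀ x ∈ D, ∀ w ∈ D, x * w ∈ N →
      ∀ y, y ∈ D ∧ y ≠ x ∧ Commute x y → y ∈ D ∧ y ≠ w ∧ Commute w y := by
    rintro x hx w hw hxw y ⟨hy, hyx, hcxy⟩
    by_cases hxw' : x = w
    · rw [← hxw']; exact ⟨hy, hyx, hcxy⟩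
    have hncxw := hncN x hx w hw hxw hxw'
    refine ⟨hy, ?_, ?_⟩
    · intro hyw
      rw [hyw] at hcxy
      exact hncxw hcxy
    · by_contra hncwy
      obtain ⟨φ, hφinj, hφ1, hφ2, hφ3⟩ := Cfsg.Agent.S5344.result hDs hx hw hy (fun h => hyx h.symm)
        hcxy hncxw hncwy
      set s : Equiv.Perm (Fin 4) := Equiv.swap (0 : Fin 4) 1 * Equiv.swap 1 2 *
        (Equiv.swap 2 3 * (Equiv.swap 0 1 * Equiv.swap 1 2) * (Equiv.swap 2 3)⁻¹) with hs
      have hφs : φ s = x * w * (y * (x * w) * y⁻¹) := by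
        rw [hs]
        simp only [map_mul, map_inv, hφ1, hφ2, hφ3]
      have hsN : φ s ∈ N := by
        rw [hφs]
        exact N.mul_mem hxw (hNn.conj_mem _ hxw y)
      apply hnot (φ s) _ _ hsN
      · rw [← map_mul, s4_inv_sq, map_one]
      · intro h1
        apply s4_inv_ne
        apply hφinj
        rw [h1, map_one]
  -- the three sets
  have hAW : ∀ w, w ∈ D → d⁻¹ * w ∈ N →
      {y : G | y ∈ D ∧ y ≠ d ∧ Commute d y} = {y : G | y ∈ D ∧ y ≠ w ∧ Commute w y} := by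
    intro w hw hdw
    rw [inv d hd] at hdw
    have hwd : w * d ∈ N := by
      have := N.inv_mem hdw
      rw [mul_inv_rev, inv d hd, inv w hw] at this
      exact this
    ext y
    exact ⟨hsubset d hd w hw hdw y, hsubset w hw d hd hwd y⟩
  have hWA : ∀ w, w ∈ D →
      {y : G | y ∈ D ∧ y ≠ d ∧ Commute d y} = {y : G | y ∈ D ∧ y ≠ w ∧ Commute w y} →
      d⁻¹ * w ∈ N := by
    intro w hw h
    rw [inv d hd]
    exact Cfsg.Agent.Lib.Helper27.WClass.mul_mem_pCore hDs hconj hd hw h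
  have hAB : ∀ w, w ∈ D → d⁻¹ * w ∈ N → ∃ g ∈ N, w = g * d * g⁻¹ := by
    intro w hw hdw
    rw [inv d hd] at hdw
    by_cases hdw' : d = w
    · exact ⟨1, N.one_mem, by rw [← hdw', one_mul, inv_one, mul_one]⟩
    · have hnc := hncN d hd w hw hdw hdw'
      refine ⟨d * w, hdw, ?_⟩
      rw [mul_inv_rev, inv d hd, inv w hw]
      have hb := Cfsg.Agent.Lib.Helper27.fl_braid hDs hd hw hnc
      calc w = (d * d) * w * (d * d) := by rw [sq d hd, one_mul, mul_one]
        _ = d * (d * w * d) * d := by group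
        _ = d * (w * d * w) * d := by rw [hb]
        _ = d * w * d * (w * d) := by group
  have hBA : ∀ w, (∃ g ∈ N, w = g * d * g⁻¹) → w ∈ D ∧ d⁻¹ * w ∈ N := by
    rintro w ⟨g, hg, rfl⟩
    refine ⟨hconj g d hd, ?_⟩
    have : d⁻¹ * (g * d * g⁻¹) = (d⁻¹ * g * d⁻¹⁻¹) * g⁻¹ := by group
    rw [this]
    exact N.mul_mem (hNn.conj_mem g hg d⁻¹) (N.inv_mem hg)
  have hfirst : {w : G | w ∈ D ∧ {y : G | y ∈ D ∧ y ≠ d ∧ Commute d y} =
      {y : G | y ∈ D ∧ y ≠ w ∧ Commute w y}} = {w : G | w ∈ D ∧ d⁻¹ * w ∈ N} := by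
    ext w
    constructor
    · rintro ⟨hw, h⟩
      exact ⟨hw, hWA w hw h⟩
    · rintro ⟨hw, h⟩
      exact ⟨hw, hAW w hw h⟩
  refine ⟨hfirst, ?_⟩
  rw [hfirst]
  ext w
  constructor
  · rintro ⟨hw, h⟩
    exact hAB w hw h
  · intro h
    exact hBA w h

end Cfsg.Agent.S5350
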