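import Cfsg.Statements.S5358

set_option autoImplicit false
open scoped MatrixGroups
open Cfsg

namespace Cfsg.Agent.S5358

open Matrix

theorem dot_polar (n : ℕ) (Q : QuadraticForm (ZMod 3) (Fin n → ZMod 3)) (u x : Fin n → ZMod 3) :
    Cfsg.polarVec (⇑Q) u ⬝ᵥ x = QuadraticMap.polar (⇑Q) u x := by
  have h := LinearMap.pi_apply_eq_sum_univ (QuadraticMap.polarBilin Q u) x
  simp only [QuadraticMap.polarBilin_apply_apply] at h
  rw [h, dotProduct]
  apply Finset.sum_congr rfl
  intro j _
  show QuadraticMap.polar (⇑Q) u (Pi.single j 1) * x j = _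
  rw [smul_eq_mul, mul_comm]
  congr 2
  ext k
  simp [Pi.single_apply, eq_comm]

theorem commute_one_sub {R : Type*} [Ring R] {A B : R} (h : Commute A B) : Commute (1 - A) (1 - B) := by
  have h1 : Commute (1 : R) (1 - B) := Commute.one_left _
  have h2 : Commute A (1 - B) := (Commute.one_right A).sub_right h
  exact h1.sub_left h2

theorem commute_one_sub_iff {R : Type*} [Ring R] {A B : R} : Commute (1 - A) (1 - B) ↔ Commute A B := by
  constructor
  · intro h
    have := commute_one_sub h
    rwa [sub_sub_cancel, sub_sub_cancel] at this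
  · exact commute_one_sub

/-- Let Q be a non-degenerate quadratic form on the n-dimensional coordinate space over the field with three elements and u, v vectors of the same non-zero norm Q(u) = Q(v) spanning different lines (v ≠ u and v ≠ −u). Then the reflection matrices of u and v commute if and only if u and v are orthogonal for the polar form of Q. -/
theorem result (n : ℕ) (Q : QuadraticForm (ZMod 3) (Fin n → ZMod 3)) (hQ : (QuadraticMap.polarBilin Q).Nondegenerate) (u v : Fin n → ZMod 3) (hu : Q u ≠ 0) (huv : Q u = Q v) (h1 : v ≠ u) (h2 : v ≠ -u) : Commute (Cfsg.reflectionMatrix (⇑Q) u) (Cfsg.reflectionMatrix (⇑Q) v) ↔ QuadraticMap.polar (⇑Q) u v = 0 := by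
  set c := Q u with hc
  set b := QuadraticMap.polar (⇑Q) u v with hb
  have hcinv : c⁻¹ ≠ 0 := inv_ne_zero hu
  set U := Matrix.vecMulVec u (Cfsg.polarVec (⇑Q) u) with hU
  set V := Matrix.vecMulVec v (Cfsg.polarVec (⇑Q) v) with hV
  have hru : Cfsg.reflectionMatrix (⇑Q) u = 1 - c⁻¹ • U := rfl
  have hrv : Cfsg.reflectionMatrix (⇑Q) v = 1 - c⁻¹ • V := by
    show 1 - (Q v)⁻¹ • V = 1 - c⁻¹ • V
    rw [← huv]
  have hUV : U * V = b • Matrix.vecMulVec u (Cfsg.polarVec (⇑Q) v) := by
    rw [hU, hV, Matrix.vecMulVec_mul_vecMulVec, dot_polar, Matrix.vecMulVec_smul]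
  have hVU : V * U = b • Matrix.vecMulVec v (Cfsg.polarVec (⇑Q) u) := by
    rw [hU, hV, Matrix.vecMulVec_mul_vecMulVec, dot_polar, Matrix.vecMulVec_smul, hb,
      QuadraticMap.polar_comm]
  have hcomm : Commute (Cfsg.reflectionMatrix (⇑Q) u) (Cfsg.reflectionMatrix (⇑Q) v) ↔ U * V = V * U := by
    rw [hru, hrv, commute_one_sub_iff]
    constructor
    · intro h
      have h3 : (c⁻¹ * c⁻¹) • (U * V) = (c⁻¹ * c⁻¹) • (V * U) := by
        have := h.eq
        rw [Matrix.smul_mul, Matrix.mul_smul, Matrix.smul_mul, Matrix.mul_smul, smul_smul, smul_smul] at this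
        exact this
      have h4 : c⁻¹ * c⁻¹ ≠ 0 := mul_ne_zero hcinv hcinv
      exact smul_right_injective _ h4 h3
    · intro h
      show (c⁻¹ • U) * (c⁻¹ • V) = (c⁻¹ • V) * (c⁻¹ • U)
      rw [Matrix.smul_mul, Matrix.mul_smul, Matrix.smul_mul, Matrix.mul_smul, h]
  rw [hcomm, hUV, hVU]
  constructor
  · intro h
    by_contra hb0
    have h3 : Matrix.vecMulVec u (Cfsg.polarVec (⇑Q) v) = Matrix.vecMulVec v (Cfsg.polarVec (⇑Q) u) :=
      smul_right_injective _ hb0 h
    have h4 : ∀ i, u i * QuadraticMap.polar (⇑Q) v v = v i * b := by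
      intro i
      have h5 : (Matrix.vecMulVec u (Cfsg.polarVec (⇑Q) v) *ᵥ v) i =
          (Matrix.vecMulVec v (Cfsg.polarVec (⇑Q) u) *ᵥ v) i := by rw [h3]
      rw [Matrix.vecMulVec_mulVec, Matrix.vecMulVec_mulVec, dot_polar, dot_polar] at h5
      simpa [mul_comm] using h5
    have hvv : QuadraticMap.polar (⇑Q) v v = 2 * c := by
      rw [QuadraticMap.polar_self, huv]
      simp
    have h2c : (2 : ZMod 3) * c ≠ 0 := mul_ne_zero (by decide) hu
    set lam := b * (2 * c)⁻¹ with hlam
    have hul : u = lam • v := by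
      ext i
      have := h4 i
      rw [hvv] at this
      show u i = lam * v i
      have h6 : u i = v i * b * (2 * c)⁻¹ := by
        rw [← this, mul_assoc, mul_inv_cancel₀ h2c, mul_one]
      rw [hlam, h6]; ring
    have hQl : c = lam * lam * c := by
      conv_lhs => rw [hc, hul, QuadraticMap.map_smul, ← huv]
      simp [smul_eq_mul]
    have hl2 : lam * lam = 1 := by
      have : (lam * lam - 1) * c = 0 := by rw [sub_mul, one_mul, ← hQl, sub_self]
      rcases mul_eq_zero.mp this with h | h
      · exact sub_eq_zero.mp h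
      · exact absurd h hu
    have hl : lam = 1 ∨ lam = -1 := by
      have : (lam - 1) * (lam + 1) = 0 := by ring_nf; rw [← pow_two] at *; linear_combination hl2
      rcases mul_eq_zero.mp this with h | h
      · left; exact sub_eq_zero.mp h
      · right; exact eq_neg_of_add_eq_zero_left h
    rcases hl with h | h
    · apply h1
      rw [hul, h, one_smul]
    · apply h2
      rw [hul, h, neg_smul, one_smul, neg_neg]
  · intro h
    rw [h, zero_smul, zero_smul]

end Cfsg.Agent.S5358
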