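import Cfsg.Statements.S5119
import Cfsg.Agent.Lib.Helper26.FrattiniDec2

set_option autoImplicit false
open Cfsg

namespace Cfsg.Agent.S5119

open Cfsg.FusionSystem Cfsg.Agent.Lib.Helper26

theorem strongInv_of_invariant {Ω : Type*} [Group Ω] {S : Subgroup Ω} (F : FusionSystem S)
    {T : Subgroup Ω} (E : FusionSystem T) (h : E.IsInvariantIn F) : StrongInv F E := by
  obtain ⟨-, -, hINV, hFRAT⟩ := h
  intro P Q hPQ hQT φ hφ hφQ ψ hψ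
  have hPT : P ≤ T := hPQ.trans hQT
  obtain ⟨α, hα, ψ₀, hψ₀, hψe⟩ := hFRAT Q hQT ψ hψ
  have hψ₀T : ∀ x, ψ₀ x ∈ T := (E.le_of_mem hψ₀).2
  have hψ₀P : ψ₀.comp (Subgroup.inclusion hPQ) ∈ E.Hom P := restrict_mem E hψ₀ hPQ
  obtain ⟨ι, hι, hιx⟩ := E.inv_mem hψ₀P
  have hιP : ∀ y : (ψ₀.comp (Subgroup.inclusion hPQ)).range, ι y ∈ P := by
    rintro ⟨_, x, rfl⟩
    rw [hιx]
    exact x.2
  have h1 : φ.comp (ι.codRestrict P hιP) ∈ E.Hom (ψ₀.comp (Subgroup.inclusion hPQ)).range := E.comp_mem hι hφ hιP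
  have h1Q : ∀ y : (ψ₀.comp (Subgroup.inclusion hPQ)).range, (φ.comp (ι.codRestrict P hιP)) y ∈ Q := fun y => hφQ _
  have hφ₁ : ψ₀.comp ((φ.comp (ι.codRestrict P hιP)).codRestrict Q h1Q) ∈ E.Hom (ψ₀.comp (Subgroup.inclusion hPQ)).range :=
    E.comp_mem h1 hψ₀ h1Q
  have hP1T : (ψ₀.comp (Subgroup.inclusion hPQ)).range ≤ T := by
    rintro _ ⟨x, rfl⟩
    exact hψ₀T _
  obtain ⟨χ, hχ, hχe⟩ := hINV (ψ₀.comp (Subgroup.inclusion hPQ)).range hP1T _ hφ₁ α hα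
  have hψeq : ∀ x : P, ψ (Subgroup.inclusion hPQ x) =
      ((α ⟨ψ₀ (Subgroup.inclusion hPQ x), hψ₀T _⟩ : T) : Ω) := fun x => hψe _ _
  have hmap : ((ψ₀.comp (Subgroup.inclusion hPQ)).range.subgroupOf T).map (T.subtype.comp α.toMonoidHom) = (P.subgroupOf Q).map ψ := by
    ext z
    constructor
    · rintro ⟨t, ht, rfl⟩
      obtain ⟨x, hx⟩ := Subgroup.mem_subgroupOf.mp ht
      refine ⟨Subgroup.inclusion hPQ x, Subgroup.mem_subgroupOf.mpr x.2, ?_⟩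
      rw [hψeq]
      show ((α _ : T) : Ω) = ((α t : T) : Ω)
      congr 2
      exact Subtype.ext hx
    · rintro ⟨q, hq, rfl⟩
      have hqP : (q : Ω) ∈ P := Subgroup.mem_subgroupOf.mp hq
      have e : q = Subgroup.inclusion hPQ ⟨q, hqP⟩ := Subtype.ext rfl
      rw [e, hψeq]
      exact mem_map_aut hP1T α ⟨ψ₀ (Subgroup.inclusion hPQ ⟨q, hqP⟩), ⟨⟨q, hqP⟩, rfl⟩⟩
  obtain ⟨χ', hχ', hχ'x⟩ := hom_cast_eq E hmap hχ
  refine ⟨χ', hχ', fun x hx => ?_⟩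
  have hy : ψ₀ (Subgroup.inclusion hPQ x) ∈ (ψ₀.comp (Subgroup.inclusion hPQ)).range := ⟨x, rfl⟩
  have e1 : (⟨ψ (Subgroup.inclusion hPQ x), hx⟩ : ↥((P.subgroupOf Q).map ψ)) =
      ⟨((α ⟨ψ₀ (Subgroup.inclusion hPQ x), hψ₀T _⟩ : T) : Ω), by rw [← hψeq]; exact hx⟩ :=
    Subtype.ext (hψeq x)
  rw [e1, hχ'x _ (mem_map_aut hP1T α ⟨_, hy⟩)]
  have h2 := hχe ⟨_, hy⟩ (hψ₀T _) (mem_map_aut hP1T α ⟨_, hy⟩)
  rw [h2]
  have e2 : ι ⟨ψ₀ (Subgroup.inclusion hPQ x), hy⟩ = x := hιx x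
  have e3 : (ι.codRestrict P hιP) ⟨ψ₀ (Subgroup.inclusion hPQ x), hy⟩ = x := Subtype.ext e2
  have e4 : (ψ₀.comp ((φ.comp (ι.codRestrict P hιP)).codRestrict Q h1Q))
      ⟨ψ₀ (Subgroup.inclusion hPQ x), hy⟩ = ψ₀ ⟨φ x, hφQ x⟩ := by
    show ψ₀ ⟨φ ((ι.codRestrict P hιP) ⟨ψ₀ (Subgroup.inclusion hPQ x), hy⟩), _⟩ = _
    congr 2
    rw [e3]
  rw [hψe ⟨φ x, hφQ x⟩ (hψ₀T _)]
  congr 2
  exact Subtype.ext e4

theorem result {Ω : Type*} [Group Ω] {S : Subgroup Ω} [Finite S] (p : ℕ) [Fact p.Prime] (hS : IsPGroup p S) (F : Cfsg.FusionSystem S) (hF : F.IsSaturated p) {T : Subgroup Ω} (E : Cfsg.FusionSystem T) (hE : E.IsSubsystemOf F) (hT : F.StronglyClosed T) : E.IsInvariantIn F ↔ ∀ (P Q : Subgroup Ω) (hPQ : P ≤ Q) (_ : Q ≤ T) (φ : P →* Ω) (_ : φ ∈ E.Hom P) (hφQ : ∀ x : P, φ x ∈ Q) (ψ : Q →* Ω) (_ : ψ ∈ F.Hom Q), ∃ χ ∈ E.Hom ((P.subgroupOf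 Q).map ψ), ∀ (x : P) (hx : ψ (Subgroup.inclusion hPQ x) ∈ (P.subgroupOf Q).map ψ), χ ⟨ψ (Subgroup.inclusion hPQ x), hx⟩ = ψ ⟨φ x, hφQ x⟩ := by
  constructor
  · intro h
    exact strongInv_of_invariant F E h
  · intro hSI
    have hSI' : StrongInv F E := hSI
    refine ⟨hE, hT, invCond_of_strongInv hT.1 hSI', ?_⟩
    intro P hPT φ hφ
    have h1 := decAll_of_strongInv hS F hF E hT hSI' hφ P le_rfl hPT
    exact dec_congr (fun x => rfl) h1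

end Cfsg.Agent.S5119
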