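import Cfsg.Statements.S5120
import Cfsg.Agent.Lib.Helper26.PPowNormal10

set_option autoImplicit false
open Cfsg

namespace Cfsg.Agent.S5120

/-- Let F be a saturated fusion system over a finite p-group S and T a subgroup of S containing the hyperfocal subgroup of F and normal in S. Then every saturated subsystem of F over T of p-power index is a normal subsystem of F. -/
theorem result {Ω : Type*} [Group Ω] {S : Subgroup Ω} [Finite S] (p : ℕ) [Fact p.Prime] (hS : IsPGroup p S) (F : Cfsg.FusionSystem S) (hF : F.IsSaturated p) (T : Subgroup Ω) (hTS : T ≤ S) (hTn : (T.subgroupOf S).Normal) (hT : F.hyperfocalSubgroup p ≤ T) (E : Cfsg.FusionSystem T) (hEs : E.IsSaturated p) (hEi : E.HasPPowerIndexIn F p) : E.IsNormalIn F p := by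
  have hsc := Cfsg.Agent.Lib.Helper26.stronglyClosed_of_hyperfocal_le hS F hF hTS hTn hT
  have hnorm := Cfsg.Agent.Lib.Helper26.le_normalizer_of_subgroupOf_normal hTS hTn
  have hinv := Cfsg.Agent.Lib.Helper26.le_invPart hS F E hEs hEi
  have hfr := Cfsg.Agent.Lib.Helper26.le_frattPart hS F hF E hTS hnorm hsc hinv hEi
  refine ⟨⟨hEs, hF, hEi.1, hsc, ?_, ?_⟩, ?_⟩
  · intro P hPT φ hφ α hα
    obtain ⟨χ, hχ, hc⟩ := (hinv P hφ).2 α hα
    exact ⟨χ, hχ, fun x hφx hαx => hc x (hPT x.2) hφx hαx⟩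
  · intro P hPT φ hφ
    obtain ⟨-, α, hα, φ₀, hφ₀, he⟩ := hfr P hφ
    have hle : P ≤ P ⊓ T := le_inf le_rfl hPT
    refine ⟨α, hα, φ₀.comp (Subgroup.inclusion hle),
      Cfsg.Agent.Lib.Helper26.restrict_mem E hφ₀ hle, ?_⟩
    intro x hx
    exact he (Subgroup.inclusion hle x) x.2 hx
  · intro α hα
    exact Cfsg.Agent.Lib.Helper26.extension_condition_of_pPowerIndex hS F hF E hEs hEi hsc α hα

end Cfsg.Agent.S5120
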