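import Cfsg.Statements.S5103
import Cfsg.Agent.Lib.Helper26.Realize2
import Cfsg.Agent.Lib.Helper1.Cores

set_option autoImplicit false
open Cfsg

namespace Cfsg.Agent.S5103

open Cfsg.FusionSystem Cfsg.Agent.Lib.Helper26

theorem exists_preimage {Ω : Type*} [Group Ω] {S : Subgroup Ω} {G : Type*} [Group G] {ι : S →* G}
    {N : Subgroup G} [N.Normal] (hN : N ≤ ι.range) (g : G) {y : Ω} (hy : y ∈ preSub ι N) :
    ∃ (q : Ω) (hq : q ∈ preSub ι N), g * ι ⟨q, preSub_le ι N hq⟩ * g⁻¹ = ι ⟨y, preSub_le ι N hy⟩ := by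
  obtain ⟨hyS, hyN⟩ := mem_preSub_iff.mp hy
  have h1 : g⁻¹ * ι ⟨y, hyS⟩ * g ∈ N := by
    have := (inferInstance : N.Normal).conj_mem _ hyN g⁻¹
    simpa using this
  obtain ⟨s, hs⟩ := hN h1
  refine ⟨s.1, mem_preSub_iff.mpr ⟨s.2, ?_⟩, ?_⟩
  · show ι s ∈ N
    rw [hs]
    exact h1
  · show g * ι s * g⁻¹ = _
    rw [hs]
    group

theorem result {Ω : Type*} [Group Ω] {S : Subgroup Ω} [Finite S] (p : ℕ) [Fact p.Prime] (hS : IsPGroup p S) (F : Cfsg.FusionSystem S) {G : Type*} [Group G] (ι : S →* G) (hG : F.IsModel p G ι) : F.IsConstrained p := by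
  obtain ⟨hfin, hR, ⟨T, hT⟩, hC⟩ := hG
  haveI := hfin
  refine ⟨saturated_of_realized F hR T hT, preSub ι (pCore p G), ?_, ?_⟩
  · haveI : (pCore p G).Normal := Cfsg.Agent.Lib.Helper1.pCore_normal p
    have hNT : pCore p G ≤ ι.range := hT ▸ Cfsg.Agent.Lib.Helper1.pCore_le_sylow p T
    refine ⟨preSub_le ι _, fun P φ hφ => ?_⟩
    have hPS : P ≤ S := (F.le_of_mem hφ).1
    have hφS : ∀ x : P, φ x ∈ S := (F.le_of_mem hφ).2
    obtain ⟨g, hg⟩ := exists_of_mem_hom F hR hφ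
    have hPK : P ≤ preSub ι (cj ι.range g⁻¹) := by
      intro x hx
      rw [mem_preSub_iff]
      refine ⟨hPS hx, ?_⟩
      rw [mem_cj_iff, inv_inv]
      rw [← hg ⟨x, hx⟩]
      exact ⟨_, rfl⟩
    have hQK : preSub ι (pCore p G) ≤ preSub ι (cj ι.range g⁻¹) := by
      intro x hx
      obtain ⟨hxS, hxN⟩ := mem_preSub_iff.mp hx
      rw [mem_preSub_iff]
      refine ⟨hxS, ?_⟩
      rw [mem_cj_iff, inv_inv]
      exact hNT ((inferInstance : (pCore p G).Normal).conj_mem _ hxN g)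
    have hsupK : P ⊔ preSub ι (pCore p G) ≤ preSub ι (cj ι.range g⁻¹) := sup_le hPK hQK
    have hsupS : P ⊔ preSub ι (pCore p G) ≤ S := sup_le hPS (preSub_le ι _)
    have h : ∀ x : ↥(P ⊔ preSub ι (pCore p G)), g * ι ⟨x, hsupS x.2⟩ * g⁻¹ ∈ ι.range := by
      intro x
      obtain ⟨_, h2⟩ := mem_preSub_iff.mp (hsupK x.2)
      rw [mem_cj_iff, inv_inv] at h2
      exact h2
    refine ⟨pullHom hR.1 _ hsupS g h, pullHom_mem_hom F hR _ hsupS g h, ?_, ?_⟩
    · intro x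
      have h1 := apply_pullHom hR.1 _ hsupS g h (Subgroup.inclusion le_sup_left x)
      have h2 := hg x
      have h3 : ι ⟨pullHom hR.1 _ hsupS g h (Subgroup.inclusion le_sup_left x),
          pullHom_mem hR.1 _ hsupS g h _⟩ = ι ⟨φ x, hφS x⟩ := by
        rw [h1, h2]
        rfl
      exact congrArg Subtype.val (hR.1 h3)
    · ext y
      constructor
      · rintro ⟨x, hx, rfl⟩
        rw [mem_preSub_iff]
        refine ⟨pullHom_mem hR.1 _ hsupS g h x, ?_⟩
        rw [apply_pullHom]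
        have hx' : (x : Ω) ∈ preSub ι (pCore p G) := hx
        obtain ⟨hxS, hxN⟩ := mem_preSub_iff.mp hx'
        exact (inferInstance : (pCore p G).Normal).conj_mem _ hxN g
      · intro hy
        obtain ⟨q, hq, hqe⟩ := exists_preimage hNT g hy
        refine ⟨⟨q, Subgroup.mem_sup_right hq⟩, hq, ?_⟩
        have h1 := apply_pullHom hR.1 _ hsupS g h ⟨q, Subgroup.mem_sup_right hq⟩
        have h3 : ι ⟨pullHom hR.1 _ hsupS g h ⟨q, Subgroup.mem_sup_right hq⟩,
            pullHom_mem hR.1 _ hsupS g h _⟩ = ι ⟨y, preSub_le ι _ hy⟩ := by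
          rw [h1]
          exact hqe
        exact congrArg Subtype.val (hR.1 h3)
  · haveI : (pCore p G).Normal := Cfsg.Agent.Lib.Helper1.pCore_normal p
    have hNT : pCore p G ≤ ι.range := hT ▸ Cfsg.Agent.Lib.Helper1.pCore_le_sylow p T
    refine ⟨preSub_le ι _, ?_⟩
    rintro Q₁ ⟨φ, hφ, hr⟩
    obtain ⟨g, hg⟩ := exists_of_mem_hom F hR hφ
    have hQ₁ : Q₁ = preSub ι (pCore p G) := by
      rw [← hr]
      ext y
      constructor
      · rintro ⟨x, rfl⟩
        rw [mem_preSub_iff]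
        refine ⟨(F.le_of_mem hφ).2 x, ?_⟩
        rw [hg x]
        obtain ⟨hxS, hxN⟩ := mem_preSub_iff.mp x.2
        exact (inferInstance : (pCore p G).Normal).conj_mem _ hxN g
      · intro hy
        obtain ⟨q, hq, hqe⟩ := exists_preimage hNT g hy
        refine ⟨⟨q, hq⟩, ?_⟩
        have h1 := hg ⟨q, hq⟩
        have h3 : ι ⟨φ ⟨q, hq⟩, (F.le_of_mem hφ).2 _⟩ = ι ⟨y, preSub_le ι _ hy⟩ := by
          rw [h1]
          exact hqe
        exact congrArg Subtype.val (hR.1 h3)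
    rw [hQ₁]
    rintro c ⟨hcS, hcC⟩
    rw [mem_preSub_iff]
    refine ⟨hcS, hC ?_⟩
    rw [Subgroup.mem_centralizer_iff]
    intro n hn
    obtain ⟨s, rfl⟩ := hNT hn
    have hs : (s : Ω) ∈ preSub ι (pCore p G) := mem_preSub_iff.mpr ⟨s.2, hn⟩
    have := hcC s hs
    rw [← map_mul, ← map_mul]
    congr 1
    exact Subtype.ext this

end Cfsg.Agent.S5103
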