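import Cfsg.Statements.S5352
import Cfsg.Agent.Lib.Helper27.TTComp
import Cfsg.Agent.Lib.Helper27.FischerLines
import Cfsg.Agent.Lib.helper17.QS

set_option autoImplicit false
open Cfsg
open scoped commutatorElement

namespace Cfsg.Agent.S5352

/-- Let D be a conjugacy class of 3-transpositions generating the finite group G, with at least two members, and suppose the largest normal 2-subgroup and the largest normal 3-subgroup of G are both central. Then G has a quasisimple normal subgroup L such that the generalized Fitting subgroup of G is the product of L and the centre; and either L = G or the image of D in G/L has width 1, in the sense that two members of D whose commutator lies in L have the same image modulo L. -/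
theorem result {G : Type*} [Group G] [Finite G] {D : Set G} (hD : Cfsg.IsThreeTranspositionClass D) (hD2 : ∃ a ∈ D, ∃ b ∈ D, a ≠ b) (h2 : Cfsg.pCore 2 G ≤ Subgroup.center G) (h3 : Cfsg.pCore 3 G ≤ Subgroup.center G) : ∃ L : Subgroup G, L.Normal ∧ Cfsg.IsQuasisimple L ∧ Cfsg.generalizedFittingSubgroup G = L ⊔ Subgroup.center G ∧ (L = ⊤ ∨ ∀ a ∈ D, ∀ b ∈ D, a * b * a⁻¹ * b⁻¹ ∈ L → a⁻¹ * b ∈ L) := by
  classical
  obtain ⟨hDs, ⟨d₀, hd₀, hDc⟩, hgen⟩ := hD
  have hconj : ∀ g : G, ∀ x ∈ D, g * x * g⁻¹ ∈ D := by
    intro g x hx
    rw [hDc] at hx ⊢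
    have hx' : IsConj d₀ x := hx
    show IsConj d₀ (g * x * g⁻¹)
    exact hx'.trans (isConj_iff.mpr ⟨g, rfl⟩)
  have hall : ∀ a ∈ D, ∀ b ∈ D, ∃ g : G, g * a * g⁻¹ = b := by
    intro a ha b hb
    rw [hDc] at ha hb
    have h1 : IsConj d₀ a := ha
    have h2' : IsConj d₀ b := hb
    exact isConj_iff.mp (h1.symm.trans h2')
  have sq : ∀ x ∈ D, x * x = 1 := fun x hx => Cfsg.Agent.Lib.Helper27.tt_sq hDs hx
  have inv : ∀ x ∈ D, x⁻¹ = x := fun x hx => Cfsg.Agent.Lib.Helper27.tt_inv hDs hx
  -- the Fitting subgroup is the centre
  have hFle : Cfsg.fittingSubgroup G ≤ Subgroup.center G := by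
    rw [Cfsg.Agent.Lib.Helper1.fittingSubgroup_eq_iSup_pCore]
    apply iSup_le
    intro p
    have hp : (p : ℕ).Prime := p.2
    by_cases hp2 : (p : ℕ) = 2
    · rw [hp2]; exact h2
    by_cases hp3 : (p : ℕ) = 3
    · rw [hp3]; exact h3
    apply Cfsg.Agent.Lib.Helper27.TTFitting.pCore_le_center_of_gt_three hDs hconj hgen hp
    have := hp.two_le
    omega
  have hFge : Subgroup.center G ≤ Cfsg.fittingSubgroup G := by
    apply Cfsg.Agent.Lib.Helper1.le_fittingSubgroup inferInstance
    let _ : CommGroup (Subgroup.center G) :=
      { mul_comm := fun a b => by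
          apply Subtype.ext
          have := a.2
          rw [Subgroup.mem_center_iff] at this
          exact (this b.1).symm }
    exact CommGroup.isNilpotent
  have hF : Cfsg.fittingSubgroup G = Subgroup.center G := le_antisymm hFle hFge
  -- a component
  have hna : ∃ a b : G, a * b ≠ b * a := by
    obtain ⟨a, ha, b, hb, hab⟩ := hD2
    obtain ⟨g, hg⟩ := hall a ha b hb
    refine ⟨g, a, ?_⟩
    intro h
    apply hab
    rw [← hg, h, mul_inv_cancel_right]
  obtain ⟨L, hL⟩ := Cfsg.Agent.Lib.Helper9.exists_component_of_fitting_central hFle hna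
  have hLn : L.Normal := Cfsg.Agent.Lib.Helper27.TTComp.component_normal hDs hconj hgen hL
  have hlayer : Cfsg.layer G = L :=
    Cfsg.Agent.Lib.Helper27.TTComp.layer_eq_component hDs hconj hgen hall hL
  have hLnc : ¬ L ≤ Subgroup.center G := Cfsg.Agent.Lib.Helper27.TTComp.component_not_le_center hL
  refine ⟨L, hLn, hL.2, ?_, ?_⟩
  · unfold Cfsg.generalizedFittingSubgroup
    rw [hlayer, hF]
  · by_cases hLtop : L = ⊤
    · left; exact hLtop
    right
    intro a ha b hb hab
    by_cases hc : Commute a b
    · -- commuting members
      by_contra hnot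
      -- conjugates of `a` under `L` commute with `b`
      have hstep : ∀ l ∈ L, Commute (l * a * l⁻¹) b := by
        intro l hl
        by_contra hnc
        apply hnot
        have ha'D : l * a * l⁻¹ ∈ D := hconj l a ha
        have h1 : (QuotientGroup.mk' L) (l * a * l⁻¹) = (QuotientGroup.mk' L) a := by
          have hl1 : (QuotientGroup.mk' L) l = 1 := (QuotientGroup.eq_one_iff l).mpr hl
          rw [map_mul, map_mul, map_inv, hl1, one_mul, inv_one, mul_one]
        generalize l * a * l⁻¹ = a' at ha'D h1 hnc
        have hbraid := Cfsg.Agent.Lib.Helper27.fl_third_eq hDs ha'D hb hnc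
        -- modulo `L`
        have h2' := congrArg (QuotientGroup.mk' L) hbraid
        rw [map_mul, map_mul, map_inv, map_mul, map_mul, map_inv, h1] at h2'
        have hcq : (QuotientGroup.mk' L) a * (QuotientGroup.mk' L) b =
            (QuotientGroup.mk' L) b * (QuotientGroup.mk' L) a := by
          rw [← map_mul, ← map_mul, hc.eq]
        have h3' : (QuotientGroup.mk' L) a = (QuotientGroup.mk' L) b := by
          have e1 : (QuotientGroup.mk' L) b * (QuotientGroup.mk' L) a * ((QuotientGroup.mk' L) b)⁻¹ =
              (QuotientGroup.mk' L) a := by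
            rw [← hcq, mul_inv_cancel_right]
          have e2 : (QuotientGroup.mk' L) a * (QuotientGroup.mk' L) b * ((QuotientGroup.mk' L) a)⁻¹ =
              (QuotientGroup.mk' L) b := by
            rw [hcq, mul_inv_cancel_right]
          rw [e1, e2] at h2'
          exact h2'
        exact QuotientGroup.eq.mp h3'
      -- `b` centralizes `L`
      have hcomm_le : ⁅L, Subgroup.zpowers a⁆ ≤ L := Subgroup.commutator_le_left L _
      have hbcent : ∀ l ∈ L, Commute l b := by
        rcases Cfsg.Agent.Lib.helper17.commutator_quasisimple_eq_or_bot hL.2 hcomm_le with h | h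
        · have hle : ⁅L, Subgroup.zpowers a⁆ ≤ Subgroup.centralizer {b} := by
            rw [Subgroup.commutator_le]
            intro l hl x hx
            rw [Subgroup.mem_centralizer_iff]
            intro y hy
            rw [Set.mem_singleton_iff] at hy
            rw [hy]
            obtain ⟨k, rfl⟩ := Subgroup.mem_zpowers_iff.mp hx
            rcases Int.even_or_odd k with hk | hk
            · obtain ⟨j, rfl⟩ := hk
              have : a ^ (j + j) = 1 := by
                rw [zpow_add, ← (Commute.refl a).mul_zpow, sq a ha, one_zpow]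
              rw [this, commutatorElement_def]
              simp
            · obtain ⟨j, rfl⟩ := hk
              have : a ^ (2 * j + 1) = a := by
                rw [zpow_add, zpow_one, two_mul, zpow_add, ← (Commute.refl a).mul_zpow, sq a ha,
                  one_zpow, one_mul]
              rw [this, commutatorElement_def]
              have h5 : Commute (l * a * l⁻¹ * a⁻¹) b :=
                (hstep l hl).mul_left (hc.inv_left)
              exact h5.eq.symm
          rw [h] at hle
          intro l hl
          have := hle hl
          rw [Subgroup.mem_centralizer_iff] at this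
          exact (this b rfl).symm
        · exfalso
          obtain ⟨n, hn, hna'⟩ := Cfsg.Agent.Lib.Helper27.TTFitting.exists_conj_ne_of_not_le_center
            hgen hall hLn hLnc ha
          apply hna'
          have h5 : ⁅n, a⁆ ∈ ⁅L, Subgroup.zpowers a⁆ :=
            Subgroup.commutator_mem_commutator hn (Subgroup.mem_zpowers a)
          rw [h, Subgroup.mem_bot, commutatorElement_def] at h5
          have h6 : n * a * n⁻¹ = a⁻¹⁻¹ := eq_inv_of_mul_eq_one_left h5
          rw [h6, inv_inv]
      obtain ⟨n, hn, hnb⟩ := Cfsg.Agent.Lib.Helper27.TTFitting.exists_conj_ne_of_not_le_center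
        hgen hall hLn hLnc hb
      apply hnb
      rw [(hbcent n hn).eq, mul_inv_cancel_right]
    · -- non-commuting members
      have h3' : (a * b) ^ 3 = 1 := by
        rcases hDs.2 a ha b hb with h | h
        · exfalso
          apply hc
          have h4 : a * b = (a * b)⁻¹ := by
            rw [eq_inv_iff_mul_eq_one, ← pow_two]; exact h
          rw [mul_inv_rev, inv a ha, inv b hb] at h4
          exact h4
        · exact h
      rw [inv a ha, inv b hb] at hab
      rw [inv a ha]
      have e1 : a * b = (a * b * a * b)⁻¹ := by
        rw [eq_inv_iff_mul_eq_one]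
        calc a * b * (a * b * a * b) = (a * b) ^ 3 := by
              rw [pow_succ, pow_two]; group
          _ = 1 := h3'
      rw [e1]
      exact L.inv_mem hab

end Cfsg.Agent.S5352
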