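import Cfsg.Statements.S5353
import Cfsg.Agent.Lib.Helper27.TTPrim
import Cfsg.Agent.S5352

set_option autoImplicit false
open Cfsg

namespace Cfsg.Agent.S5353

/-- Let D be a conjugacy class of 3-transpositions generating the finite group G, with at least two members, such that the largest normal 2-subgroup and the largest normal 3-subgroup of G are central, and let L be a quasisimple normal subgroup with generalized Fitting subgroup of G equal to L times the centre. If L has index at most 2 then G acts primitively on D by conjugation; and if the commuting graph of D is connected then L has index at most 2. -/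
theorem result {G : Type*} [Group G] [Finite G] {D : Set G} (hD : Cfsg.IsThreeTranspositionClass D) (hD2 : ∃ a ∈ D, ∃ b ∈ D, a ≠ b) (h2 : Cfsg.pCore 2 G ≤ Subgroup.center G) (h3 : Cfsg.pCore 3 G ≤ Subgroup.center G) (L : Subgroup G) [L.Normal] (hL : Cfsg.IsQuasisimple L) (hF : Cfsg.generalizedFittingSubgroup G = L ⊔ Subgroup.center G) : (L.index ≤ 2 → Cfsg.IsPrimitiveUnderConj D) ∧ ((Cfsg.commutingGraph D).Connected → L.index ≤ 2) := by
  classical
  have hDorig := hD
  obtain ⟨hDs, ⟨d₀, hd₀, hDc⟩, hgen⟩ := hD
  have hconj : ∀ g : G, ∀ x ∈ D, g * x * g⁻¹ ∈ D := by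
    intro g x hx
    rw [hDc] at hx ⊢
    have hx' : IsConj d₀ x := hx
    show IsConj d₀ (g * x * g⁻¹)
    exact hx'.trans (isConj_iff.mpr ⟨g, rfl⟩)
  have hall : ∀ a ∈ D, ∀ b ∈ D, ∃ g : G, g * a * g⁻¹ = b := by
    intro a ha b hb
    rw [hDc] at ha hb
    have h1 : IsConj d₀ a := ha
    have h2' : IsConj d₀ b := hb
    exact isConj_iff.mp (h1.symm.trans h2')
  have sq : ∀ x ∈ D, x * x = 1 := fun x hx => Cfsg.Agent.Lib.Helper27.tt_sq hDs hx
  have inv : ∀ x ∈ D, x⁻¹ = x := fun x hx => Cfsg.Agent.Lib.Helper27.tt_inv hDs hx
  have hLn : L.Normal := inferInstance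
  have hFit : Cfsg.fittingSubgroup G ≤ Subgroup.center G := by
    rw [Cfsg.Agent.Lib.Helper1.fittingSubgroup_eq_iSup_pCore]
    apply iSup_le
    intro p
    have hp : (p : ℕ).Prime := p.2
    by_cases hp2 : (p : ℕ) = 2
    · rw [hp2]; exact h2
    by_cases hp3 : (p : ℕ) = 3
    · rw [hp3]; exact h3
    apply Cfsg.Agent.Lib.Helper27.TTFitting.pCore_le_center_of_gt_three hDs hconj hgen hp
    have := hp.two_le
    omega
  constructor
  · intro hidx
    refine ⟨hall, hD2, ?_⟩
    intro B hBD hblock
    by_cases hsub : B.Subsingleton
    · left; exact hsub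
    · right
      exact Cfsg.Agent.Lib.Helper27.TTPrim.block_eq_of_index_le_two hDs hconj hgen hall hLn hL hF
        hFit hidx hBD hblock hsub
  · intro hconn
    -- the subgroup of the component structure theorem is `L`
    obtain ⟨L', hL'n, hL'q, -, hL'w⟩ := Cfsg.Agent.S5352.result hDorig hD2 h2 h3
    have hcomp : Cfsg.IsComponent L := ⟨Subgroup.Normal.isSubnormal hLn, hL⟩
    have hcomp' : Cfsg.IsComponent L' := ⟨Subgroup.Normal.isSubnormal hL'n, hL'q⟩
    have hLL' : L' = L :=
      Cfsg.Agent.Lib.Helper27.TTComp.component_unique hDs hconj hgen hall hcomp' hcomp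
    rw [hLL'] at hL'w
    rcases hL'w with htop | hw
    · rw [htop, Subgroup.index_top]
      norm_num
    · -- all members of `D` are congruent modulo `L`
      have hwalk : ∀ (u v : D), (Cfsg.commutingGraph D).Walk u v →
          (QuotientGroup.mk' L) (u : G) = (QuotientGroup.mk' L) (v : G) := by
        intro u v p
        induction p with
        | nil => rfl
        | @cons u' v' w' hadj _ ih =>
          rw [← ih]
          unfold Cfsg.commutingGraph at hadj
          rw [SimpleGraph.fromRel_adj] at hadj
          have hc : Commute (u' : G) (v' : G) := by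
            rcases hadj.2 with h | h
            · exact h
            · exact h.symm
          have hmem : (u' : G) * (v' : G) * (u' : G)⁻¹ * (v' : G)⁻¹ ∈ L := by
            rw [hc.eq, mul_inv_cancel_right, mul_inv_cancel]
            exact L.one_mem
          exact QuotientGroup.eq.mpr (hw _ u'.2 _ v'.2 hmem)
      have hsame : ∀ x ∈ D, (QuotientGroup.mk' L) x = (QuotientGroup.mk' L) d₀ := by
        intro x hx
        obtain ⟨p⟩ := hconn.preconnected ⟨x, hx⟩ ⟨d₀, hd₀⟩
        exact hwalk _ _ p
      have hd2 : (QuotientGroup.mk' L) d₀ * (QuotientGroup.mk' L) d₀ = 1 := by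
        rw [← map_mul, sq d₀ hd₀, map_one]
      have hcos : ∀ g : G, (QuotientGroup.mk' L) g = 1 ∨
          (QuotientGroup.mk' L) g = (QuotientGroup.mk' L) d₀ := by
        intro g
        have hg : g ∈ Subgroup.closure D := by rw [hgen]; exact Subgroup.mem_top g
        refine Subgroup.closure_induction (p := fun g _ => (QuotientGroup.mk' L) g = 1 ∨
          (QuotientGroup.mk' L) g = (QuotientGroup.mk' L) d₀) ?_ ?_ ?_ ?_ hg
        · intro x hx
          right; exact hsame x hx
        · left; exact map_one _
        · intro x y _ _ hx hy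
          rw [map_mul]
          rcases hx with hx | hx <;> rcases hy with hy | hy
          · left; rw [hx, hy, one_mul]
          · right; rw [hx, hy, one_mul]
          · right; rw [hx, hy, mul_one]
          · left; rw [hx, hy, hd2]
        · intro x _ hx
          rw [map_inv]
          rcases hx with hx | hx
          · left; rw [hx, inv_one]
          · right
            rw [hx]
            exact inv_eq_of_mul_eq_one_left hd2
      have hsurj : Function.Surjective
          (fun b : Bool => if b then (QuotientGroup.mk' L) d₀ else (1 : G ⧸ L)) := by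
        intro q
        induction q using QuotientGroup.induction_on with
        | H g =>
          rcases hcos g with h | h
          · exact ⟨false, by simpa using h.symm⟩
          · exact ⟨true, by simpa using h.symm⟩
      have hcard := Nat.card_le_card_of_surjective _ hsurj
      have hbool : Nat.card Bool = 2 := Nat.card_eq_fintype_card.trans Fintype.card_bool
      rw [hbool] at hcard
      exact hcard

end Cfsg.Agent.S5353
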