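import Cfsg.Statements.S1952
import Mathlib

set_option autoImplicit false
open Cfsg

namespace Cfsg.Agent.S1952
open Polynomial

theorem poly_id (p : ℕ) [Fact p.Prime] :
    ((X : (ZMod p)[X]) - 1) ^ (p - 1) = ∑ i ∈ Finset.range p, (X : (ZMod p)[X]) ^ i := by
  have hp := (Fact.out : p.Prime)
  have h1 : ((X : (ZMod p)[X]) - 1) ≠ 0 := X_sub_C_ne_zero (1 : ZMod p) |> fun h => by simpa using h
  apply mul_right_cancel₀ h1
  rw [geom_sum_mul, ← pow_succ, Nat.sub_add_cancel hp.one_le, sub_pow_char, one_pow]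

theorem exists_dual_surj {p : ℕ} [Fact p.Prime] {V : Type*} [AddCommGroup V] [Module (ZMod p) V]
    (T : V →ₗ[ZMod p] V) (hT : T ^ p = 1) (x : V)
    (hx : ∑ i ∈ Finset.range p, (T ^ i) x ≠ 0) :
    ∃ φ : V →ₗ[ZMod p] ZMod p,
      Function.Surjective (fun v => fun i : Fin p => φ ((T ^ (i : ℕ)) v)) := by
  have hp := (Fact.out : p.Prime)
  obtain ⟨φ, hφ⟩ := Module.Projective.exists_dual_ne_zero (ZMod p) hx
  refine ⟨φ, ?_⟩
  let Ψ : V →ₗ[ZMod p] (Fin p → ZMod p) := LinearMap.pi (fun i => φ ∘ₗ (T ^ (i : ℕ)))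
  have hΨ : ∀ v, Ψ v = fun i : Fin p => φ ((T ^ (i : ℕ)) v) := fun v => rfl
  suffices h : Function.Surjective Ψ by
    intro e; obtain ⟨v, hv⟩ := h e; exact ⟨v, hv⟩
  rw [← LinearMap.dualMap_injective_iff, injective_iff_map_eq_zero]
  intro ℓ hℓ
  by_contra hne
  -- coefficients
  set c : Fin p → ZMod p := fun i => ℓ (Pi.single i 1) with hc
  have hℓv : ∀ v, ∑ i : Fin p, c i * φ ((T ^ (i : ℕ)) v) = 0 := by
    intro v
    have := LinearMap.congr_fun hℓ v
    rw [LinearMap.dualMap_apply, LinearMap.pi_apply_eq_sum_univ ℓ (Ψ v)] at this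
    simp only [LinearMap.zero_apply] at this
    rw [← this]
    apply Finset.sum_congr rfl
    intro i _
    rw [hΨ, smul_eq_mul, mul_comm]
    congr 1
    rw [hc]
    show ℓ (Pi.single i 1) = _
    congr 1
    funext j
    simp [Pi.single_apply, eq_comm]
  -- the polynomial
  set C₀ : (ZMod p)[X] := ∑ i : Fin p, Polynomial.C (c i) * X ^ (i : ℕ) with hC₀
  have haeval : ∀ v, φ ((aeval T C₀) v) = 0 := by
    intro v
    rw [hC₀, map_sum, LinearMap.sum_apply, map_sum, ← hℓv v]
    apply Finset.sum_congr rfl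
    intro i _
    simp [Module.End.mul_apply]
  -- some coefficient is nonzero
  have hcne : ∃ i, c i ≠ 0 := by
    by_contra hall
    push Not at hall
    apply hne
    apply LinearMap.ext
    intro e
    rw [LinearMap.pi_apply_eq_sum_univ ℓ e]
    simp only [LinearMap.zero_apply]
    apply Finset.sum_eq_zero
    intro i _
    have : (ℓ fun j => if i = j then 1 else 0) = c i := by
      rw [hc]
      show _ = ℓ (Pi.single i 1)
      congr 1
      funext j
      simp [Pi.single_apply, eq_comm]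
    rw [this, hall i, smul_zero]
  obtain ⟨i₀, hi₀⟩ := hcne
  have hcoeff : C₀.coeff (i₀ : ℕ) = c i₀ := by
    rw [hC₀, finsetSum_coeff]
    simp only [coeff_C_mul_X_pow]
    rw [Finset.sum_eq_single i₀]
    · simp
    · intro j _ hj
      rw [if_neg]
      intro h
      exact hj (Fin.ext h.symm)
    · intro h; exact absurd (Finset.mem_univ _) h
  have hC₀ne : C₀ ≠ 0 := by
    intro h
    rw [h, coeff_zero] at hcoeff
    exact hi₀ hcoeff.symm
  have hdeg : C₀.degree < p := by
    rw [hC₀]; exact degree_sum_fin_lt c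
  have hnat : C₀.natDegree < p := by
    rwa [← natDegree_lt_iff_degree_lt hC₀ne] at hdeg
  obtain ⟨U, hU, hUnd⟩ := exists_eq_pow_rootMultiplicity_mul_and_not_dvd C₀ hC₀ne (1 : ZMod p)
  set m := rootMultiplicity (1 : ZMod p) C₀ with hm
  have hUne : U ≠ 0 := by
    intro h; rw [h, mul_zero] at hU; exact hC₀ne hU
  have hmlt : m < p := by
    have h1 : C₀.natDegree = m + U.natDegree := by
      conv_lhs => rw [hU]
      rw [natDegree_mul (pow_ne_zero _ (X_sub_C_ne_zero 1)) hUne, natDegree_pow, natDegree_X_sub_C,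
        mul_one]
    omega
  have hcop : IsCoprime ((X - Polynomial.C (1 : ZMod p)) ^ p) U :=
    (((irreducible_X_sub_C (1 : ZMod p)).coprime_iff_not_dvd).mpr hUnd).pow_left
  obtain ⟨a, b, hab⟩ := hcop
  have hpoly : (X - Polynomial.C (1 : ZMod p)) ^ (p - 1 - m) * b * C₀
      = (X - Polynomial.C (1 : ZMod p)) ^ (p - 1) - (X - Polynomial.C (1 : ZMod p)) ^ (p - 1) * a * (X - Polynomial.C (1 : ZMod p)) ^ p := by
    have hbU : b * U = 1 - a * (X - Polynomial.C (1 : ZMod p)) ^ p := by rw [← hab]; ring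
    have hsplit : (X - Polynomial.C (1 : ZMod p)) ^ (p - 1) = (X - Polynomial.C (1 : ZMod p)) ^ (p - 1 - m) * (X - Polynomial.C (1 : ZMod p)) ^ m := by
      rw [← pow_add]; congr 1; omega
    conv_lhs => rw [hU]
    calc (X - Polynomial.C (1 : ZMod p)) ^ (p - 1 - m) * b * ((X - Polynomial.C (1 : ZMod p)) ^ m * U)
        = ((X - Polynomial.C (1 : ZMod p)) ^ (p - 1 - m) * (X - Polynomial.C (1 : ZMod p)) ^ m) * (b * U) := by ring
      _ = _ := by rw [← hsplit, hbU]; ring
  have hTp : aeval T ((X - Polynomial.C (1 : ZMod p)) ^ p) = 0 := by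
    rw [map_one, sub_pow_char, one_pow]
    simp [hT]
  have hN : aeval T ((X - Polynomial.C (1 : ZMod p)) ^ (p - 1)) = ∑ i ∈ Finset.range p, T ^ i := by
    rw [map_one, poly_id]
    simp
  have := congrArg (fun q => φ ((aeval T q) x)) hpoly
  rw [map_sub, map_mul _ _ ((X - Polynomial.C (1 : ZMod p)) ^ p), hTp, mul_zero, sub_zero, hN,
    mul_comm, map_mul, Module.End.mul_apply, haeval, LinearMap.sum_apply] at this
  exact hφ this.symm

theorem grp_surj_aux {p : ℕ} [Fact p.Prime] {A : Type*} [CommGroup A] [Module (ZMod p) (Additive A)]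
    (τ : MulAut A) (hτ : τ ^ p = 1) (x : A) (hx : ∏ i ∈ Finset.range p, (τ ^ i) x ≠ 1) :
    ∃ φ : A →* Multiplicative (ZMod p),
      Function.Surjective (fun a => fun i : Fin p => φ ((τ ^ (i : ℕ)) a)) := by
  let T : Additive A →ₗ[ZMod p] Additive A :=
    AddMonoidHom.toZModLinearMap p (MonoidHom.toAdditive (τ : A ≃* A).toMonoidHom)
  have hTapp : ∀ v, T v = Additive.ofMul (τ (Additive.toMul v)) := fun v => rfl
  have hTpow : ∀ (i : ℕ) v, (T ^ i) v = Additive.ofMul ((τ ^ i) (Additive.toMul v)) := by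
    intro i
    induction i with
    | zero => intro v; simp
    | succ n ih =>
      intro v
      rw [pow_succ', Module.End.mul_apply, ih, hTapp, pow_succ']
      rfl
  have hT : T ^ p = 1 := by
    apply LinearMap.ext
    intro v
    rw [hTpow, hτ]
    rfl
  obtain ⟨φ, hφ⟩ := exists_dual_surj T hT (Additive.ofMul x) (by
    intro h
    apply hx
    have : ∑ i ∈ Finset.range p, (T ^ i) (Additive.ofMul x)
        = Additive.ofMul (∏ i ∈ Finset.range p, (τ ^ i) x) := by
      rw [ofMul_prod]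
      apply Finset.sum_congr rfl
      intro i _
      rw [hTpow]; rfl
    rw [this] at h
    exact h)
  refine ⟨AddMonoidHom.toMultiplicativeRight φ.toAddMonoidHom, ?_⟩
  intro e
  obtain ⟨v, hv⟩ := hφ (fun i => Multiplicative.toAdd (e i))
  refine ⟨Additive.toMul v, ?_⟩
  funext i
  have := congrFun hv i
  simp only at this
  rw [hTpow] at this
  show Multiplicative.ofAdd (φ (Additive.ofMul ((τ ^ (i : ℕ)) (Additive.toMul v)))) = e i
  rw [this]; rfl

theorem grp_surj {p : ℕ} [Fact p.Prime] {A : Type*} [CommGroup A] (hexp : ∀ a : A, a ^ p = 1)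
    (τ : MulAut A) (hτ : τ ^ p = 1) (x : A) (hx : ∏ i ∈ Finset.range p, (τ ^ i) x ≠ 1) :
    ∃ φ : A →* Multiplicative (ZMod p),
      Function.Surjective (fun a => fun i : Fin p => φ ((τ ^ (i : ℕ)) a)) := by
  let : Module (ZMod p) (Additive A) := AddCommGroup.zmodModule (n := p) (fun v => by
    show Additive.ofMul ((Additive.toMul v) ^ p) = 0
    rw [hexp]; rfl)
  exact grp_surj_aux τ hτ x hx

theorem fact_val (p : ℕ) [Fact p.Prime] : (Nat.factorial (p ^ 2)).factorization p = p + 1 := by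
  have hp := (Fact.out : p.Prime)
  rw [Nat.factorization_def _ hp, padicValNat_factorial (b := 3)]
  · have : Finset.Ico 1 3 = {1, 2} := by decide
    rw [this, Finset.sum_pair (by norm_num)]
    rw [pow_one, Nat.div_self (pow_pos hp.pos 2), pow_two, Nat.mul_div_cancel _ hp.pos]
  · rw [Nat.log_pow hp.one_lt]; norm_num


/-- Let P be a finite p-group with a normal elementary abelian subgroup A of index p, and let x ∈ A and y ∈ P with y outside A. If the product of the p conjugates y^(-i) x y^i (i = 0, …, p−1) is not the identity, then the wreath product Z_p ≀ Z_p, realised as a Sylow p-subgroup of the symmetric group of degree p², is a homomorphic image of P. -/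
theorem result {P : Type*} [Group P] [Finite P] {p : ℕ} [Fact p.Prime] (hP : IsPGroup p P) (A : Subgroup P) [A.Normal]
    (hA : Cfsg.IsElementaryAbelian p A) (hidx : A.index = p) (x y : P) (hx : x ∈ A) (hy : y ∉ A)
    (hprod : ((List.range p).map (fun i => (y ^ i)⁻¹ * x * y ^ i)).prod ≠ 1) :
    ∃ (Q : Sylow p (Equiv.Perm (Fin (p ^ 2)))) (f : P →* ↥(Q : Subgroup (Equiv.Perm (Fin (p ^ 2))))), Function.Surjective f := by
  have hp := (Fact.out : p.Prime)
  have := hA.1
  let : CommGroup ↥A := { (inferInstance : Group ↥A) with mul_comm := fun a b => mul_comm' a b }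
  have hexp : ∀ a : ↥A, a ^ p = 1 := fun a => Subtype.ext (by simpa using hA.2 a a.2)
  let τ : MulAut ↥A := MulAut.conjNormal y⁻¹
  have hτpow : ∀ (i : ℕ) (a : ↥A), (((τ ^ i) a : ↥A) : P) = (y ^ i)⁻¹ * a * y ^ i := by
    intro i a
    show ((((MulAut.conjNormal y⁻¹ : MulAut ↥A) ^ i) a : ↥A) : P) = _
    rw [← map_pow, MulAut.conjNormal_apply, inv_pow, inv_inv]
  -- y ^ p ∈ A
  have hyp : y ^ p ∈ A := by
    have h1 : ((y : P ⧸ A)) ^ p = 1 := by
      have := pow_card_eq_one' (G := P ⧸ A) (x := (y : P ⧸ A))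
      rwa [← Subgroup.index_eq_card, hidx] at this
    rw [← QuotientGroup.mk_pow] at h1
    exact (QuotientGroup.eq_one_iff _).mp h1
  have hτ : τ ^ p = 1 := by
    apply MulEquiv.ext
    intro a
    apply Subtype.ext
    rw [hτpow]
    have hc : (⟨y ^ p, hyp⟩ : ↥A) * a = a * ⟨y ^ p, hyp⟩ := mul_comm _ _
    have hc' : y ^ p * (a : P) = a * y ^ p := congrArg Subtype.val hc
    show (y ^ p)⁻¹ * a * y ^ p = a
    rw [mul_assoc, ← hc', inv_mul_cancel_left]
  have hx' : ∏ i ∈ Finset.range p, (τ ^ i) ⟨x, hx⟩ ≠ 1 := by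
    intro h
    apply hprod
    have h2 := congrArg (A.subtype) h
    rw [← List.toFinset_range, List.prod_toFinset _ (List.nodup_range), map_list_prod, List.map_map,
      map_one] at h2
    rw [← h2]
    congr 1
    apply List.map_congr_left
    intro i _
    exact (hτpow i ⟨x, hx⟩).symm
  obtain ⟨φ, hφ⟩ := grp_surj hexp τ hτ ⟨x, hx⟩ hx'
  -- φ is surjective
  have hφsurj : Function.Surjective φ := by
    intro c
    obtain ⟨a, ha⟩ := hφ (fun _ => c)
    refine ⟨a, ?_⟩
    have := congrFun ha ⟨0, hp.pos⟩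
    simpa using this
  let Ψ : ↥A →* (Fin p → Multiplicative (ZMod p)) :=
    MonoidHom.pi (fun i : Fin p => φ.comp ((τ ^ (i : ℕ) : MulAut ↥A) : ↥A ≃* ↥A).toMonoidHom)
  have hΨsurj : Function.Surjective Ψ := hφ
  have hΨidx : Ψ.ker.index = p ^ p := by
    rw [Subgroup.index_ker, MonoidHom.range_eq_top.mpr hΨsurj, Nat.card_congr (Subgroup.topEquiv).toEquiv,
      Nat.card_fun]
    simp
  let H : Subgroup P := φ.ker.map A.subtype
  have hHA : H ≤ A := by
    rintro _ ⟨a, _, rfl⟩; exact a.2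
  have hHidx : H.index = p ^ 2 := by
    rw [Subgroup.index_map_subtype, hidx, Subgroup.index_ker, MonoidHom.range_eq_top.mpr hφsurj,
      Nat.card_congr (Subgroup.topEquiv).toEquiv]
    simp [pow_two]
  -- the core
  have hcoreA : H.normalCore ≤ A := (Subgroup.normalCore_le H).trans hHA
  have hcoreΨ : H.normalCore.subgroupOf A ≤ Ψ.ker := by
    intro a ha
    rw [Subgroup.mem_subgroupOf] at ha
    rw [MonoidHom.mem_ker]
    funext i
    show φ ((τ ^ (i : ℕ)) a) = 1
    have h1 : (((τ ^ (i : ℕ)) a : ↥A) : P) ∈ H := by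
      rw [hτpow]
      have : (y ^ (i : ℕ))⁻¹ * (a : P) * ((y ^ (i : ℕ))⁻¹)⁻¹ ∈ H := ha ((y ^ (i : ℕ))⁻¹)
      rwa [inv_inv] at this
    obtain ⟨a', ha', hEq⟩ := h1
    have : a' = (τ ^ (i : ℕ)) a := Subtype.ext hEq
    rw [← this]
    exact ha'
  have hdvd : p ^ (p + 1) ∣ H.normalCore.index := by
    rw [← Subgroup.relIndex_mul_index hcoreA, hidx, pow_succ]
    apply Nat.mul_dvd_mul_right
    rw [← hΨidx]
    exact Subgroup.index_dvd_of_le hcoreΨ
  -- the permutation representation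
  have hcard : Nat.card (P ⧸ H) = p ^ 2 := by rw [← Subgroup.index_eq_card, hHidx]
  have : NeZero (p ^ 2) := ⟨pow_ne_zero _ hp.ne_zero⟩
  let e : (P ⧸ H) ≃ Fin (p ^ 2) := Finite.equivFinOfCardEq hcard
  let f₀ : P →* Equiv.Perm (Fin (p ^ 2)) :=
    (e.permCongrHom).toMonoidHom.comp (MulAction.toPermHom P (P ⧸ H))
  have hker : f₀.ker = H.normalCore := by
    rw [Subgroup.normalCore_eq_ker]
    ext g
    simp only [MonoidHom.mem_ker]
    show e.permCongrHom (MulAction.toPermHom P (P ⧸ H) g) = 1 ↔ _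
    rw [map_eq_one_iff _ e.permCongrHom.injective]
  have hrange : p ^ (p + 1) ∣ Nat.card f₀.range := by
    rw [← Subgroup.index_ker, hker]; exact hdvd
  have hpr : IsPGroup p f₀.range := hP.of_surjective f₀.rangeRestrict f₀.rangeRestrict_surjective
  obtain ⟨Q, hQ⟩ := hpr.exists_le_sylow
  have hQcard : Nat.card (Q : Subgroup (Equiv.Perm (Fin (p ^ 2)))) = p ^ (p + 1) := by
    rw [Sylow.card_eq_multiplicity, Nat.card_perm, Nat.card_fin, fact_val]
  have hQeq : f₀.range = (Q : Subgroup (Equiv.Perm (Fin (p ^ 2)))) := by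
    apply Subgroup.eq_of_le_of_card_ge hQ
    rw [hQcard]
    exact Nat.le_of_dvd Nat.card_pos hrange
  refine ⟨Q, f₀.codRestrict (Q : Subgroup (Equiv.Perm (Fin (p ^ 2)))) (fun g => hQ ⟨g, rfl⟩), ?_⟩
  rintro ⟨q, hq⟩
  rw [← hQeq] at hq
  obtain ⟨g, rfl⟩ := hq
  exact ⟨g, rfl⟩

end Cfsg.Agent.S1952
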