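import Cfsg.Statements.S0296
import Cfsg.Agent.Lib.Helper28.OAll
import Cfsg.Agent.Lib.Helper16.PlusFam

set_option autoImplicit false
open Cfsg

namespace Cfsg.Agent.S0296

open Cfsg.Agent.Lib.Lead Cfsg.Agent.Lib.Helper16 Matrix

/-- PΩ^+_{2m}(q) is simple for m at least 4. -/
theorem result {F : Type*} [Field F] [Fintype F] (m : ℕ) (hm : 4 ≤ m) : IsSimpleGroup (Cfsg.POmega F (Cfsg.quadFormPlus m F)) := by
  have hcard : Fintype.card (Fin m ⊕ Fin m) = 2 * m := by
    simp only [Fintype.card_sum, Fintype.card_fin]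
    ring
  have := Cfsg.Agent.Lib.Helper28.OAll.pomega_simple_all (by rw [hcard]; omega) (qfPlus m F)
    (qfPlus_nondeg m F)
  rw [qfPlus_coe] at this
  exact this

end Cfsg.Agent.S0296
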