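import Cfsg.Statements.S0251
import Cfsg.Agent.S0243
import Mathlib

set_option autoImplicit false
open Cfsg

namespace Cfsg.Agent.S0251

open scoped LinearAlgebra.Projectivization

/-- a group acting faithfully on a finite set `X` with `2 * |G| = |X|!` is the alternating group -/
theorem equiv_alt_of_faithful (G X : Type*) [Group G] [Fintype X] [DecidableEq X] [MulAction G X]
    [FaithfulSMul G X] (n : ℕ) (hX : Fintype.card X = n) (hG : 2 * Nat.card G = n.factorial) :
    Nonempty (G ≃* alternatingGroup (Fin n)) := by
  have hinj : Function.Injective (MulAction.toPermHom G X) := MulAction.toPerm_injective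
  have hfin : Finite G := Finite.of_injective _ hinj
  have hcardr : Nat.card (MulAction.toPermHom G X).range = Nat.card G :=
    (Nat.card_congr (MonoidHom.ofInjective hinj).toEquiv).symm
  have hidx : (MulAction.toPermHom G X).range.index = 2 := by
    have h1 := Subgroup.card_mul_index (MulAction.toPermHom G X).range
    rw [hcardr, Nat.card_eq_fintype_card (α := Equiv.Perm X), Fintype.card_perm, hX, ← hG] at h1
    have hpos : 0 < Nat.card G := Nat.card_pos
    rw [mul_comm] at h1
    exact Nat.eq_of_mul_eq_mul_right hpos h1
  have hr := Equiv.Perm.eq_alternatingGroup_of_index_eq_two hidx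
  have e1 : G ≃* (MulAction.toPermHom G X).range := MonoidHom.ofInjective hinj
  have e2 : (MulAction.toPermHom G X).range ≃* alternatingGroup X := MulEquiv.subgroupCongr hr
  have e3 : X ≃ Fin n := Fintype.equivFinOfCardEq hX
  exact ⟨(e1.trans e2).trans (Equiv.altCongrHom e3)⟩

theorem card_proj_line {F : Type*} [Field F] [Fintype F] :
    Nat.card (ℙ F (Fin 2 → F)) = Fintype.card F + 1 := by
  rw [Projectivization.card_of_finrank_two F (Fin 2 → F) (by simp), Nat.card_eq_fintype_card]

theorem result {F : Type*} [Field F] [Fintype F] (hF : Fintype.card F = 3) : Nonempty (Matrix.ProjectiveSpecialLinearGroup (Fin 2) F ≃* alternatingGroup (Fin 4)) := by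
  have hcard : 2 * Nat.card (Matrix.ProjectiveSpecialLinearGroup (Fin 2) F) = Nat.factorial 4 := by
    have := Cfsg.Agent.S0243.result hF 2 le_rfl
    simp [Fin.prod_univ_two] at this
    have h4 : Nat.factorial 4 = 24 := rfl
    omega
  classical
  have : Finite (ℙ F (Fin 2 → F)) := Nat.finite_of_card_ne_zero (by rw [card_proj_line]; omega)
  have : Fintype (ℙ F (Fin 2 → F)) := Fintype.ofFinite _
  have hX : Fintype.card (ℙ F (Fin 2 → F)) = 4 := by
    rw [← Nat.card_eq_fintype_card, card_proj_line, hF]
  exact equiv_alt_of_faithful _ (ℙ F (Fin 2 → F)) 4 hX hcard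

end Cfsg.Agent.S0251
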