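import Cfsg.Statements.S0252
import Cfsg.Agent.S0251
import Mathlib

set_option autoImplicit false
open Cfsg

namespace Cfsg.Agent.S0252

open scoped LinearAlgebra.Projectivization
open Cfsg.Agent.S0251

theorem result {F : Type*} [Field F] [Fintype F] (hF : Fintype.card F = 4) : Nonempty (Matrix.ProjectiveSpecialLinearGroup (Fin 2) F ≃* alternatingGroup (Fin 5)) := by
  have hcard : 2 * Nat.card (Matrix.ProjectiveSpecialLinearGroup (Fin 2) F) = Nat.factorial 5 := by
    have := Cfsg.Agent.S0243.result hF 2 le_rfl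
    simp [Fin.prod_univ_two] at this
    have h5 : Nat.factorial 5 = 120 := rfl
    omega
  classical
  have : Finite (ℙ F (Fin 2 → F)) := Nat.finite_of_card_ne_zero (by rw [card_proj_line]; omega)
  have : Fintype (ℙ F (Fin 2 → F)) := Fintype.ofFinite _
  have hX : Fintype.card (ℙ F (Fin 2 → F)) = 5 := by
    rw [← Nat.card_eq_fintype_card, card_proj_line, hF]
  exact equiv_alt_of_faithful _ (ℙ F (Fin 2 → F)) 5 hX hcard

end Cfsg.Agent.S0252
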