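import Cfsg.Statements.S1554
import Cfsg.Agent.Lib.Helper12.Golay.OctadStab

set_option autoImplicit false
open scoped Pointwise
open Cfsg

namespace Cfsg.Agent.S1554

open Cfsg.Agent.Lib.Helper12.Golay

/-- The pointwise stabiliser of an octad is transitive on the other points (any base point). -/
theorem exists_fixing' (o : Finset GolayPt) (ho : o ∈ octads) (p : GolayPt) (hp : p ∉ o)
    (q : GolayPt) (hq : q ∉ o) : ∃ g ∈ M24, (∀ x ∈ o, g x = x) ∧ g p = q := by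
  obtain ⟨p₀, _, htr⟩ := exists_fixing o ho
  obtain ⟨g1, hg1, hf1, hp1⟩ := htr p hp
  obtain ⟨g2, hg2, hf2, hp2⟩ := htr q hq
  refine ⟨g2 * g1⁻¹, M24.mul_mem hg2 (M24.inv_mem hg1), ?_, ?_⟩
  · intro x hx
    have h1 : g1⁻¹ x = x := by
      rw [Equiv.Perm.inv_eq_iff_eq, hf1 x hx]
    rw [Equiv.Perm.mul_apply, h1, hf2 x hx]
  · have h1 : g1⁻¹ p = p₀ := by
      rw [Equiv.Perm.inv_eq_iff_eq, hp1]
    rw [Equiv.Perm.mul_apply, h1, hp2]

theorem fix_mem_octStab (o : Finset GolayPt) (g : Equiv.Perm GolayPt) (hg : g ∈ M24)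
    (hfix : ∀ x ∈ o, g x = x) : g ∈ octStab o := by
  refine ⟨hg, (mem_stab_iff _ o).mpr fun x => ⟨fun hx => ?_, fun hx => ?_⟩⟩
  · have := hfix _ hx
    rw [g.injective this] at hx
    exact hx
  · rw [hfix x hx]; exact hx

/-- The pointwise stabiliser of an octad acts freely on the other points. -/
theorem regular (o : Finset GolayPt) (ho : o ∈ octads) (p : GolayPt) (hp : p ∉ o)
    (g : Equiv.Perm GolayPt) (hg : g ∈ M24) (hfix : ∀ x ∈ o, g x = x) (hgp : g p = p) : g = 1 := by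
  have htr := exists_fixing' o ho p hp
  choose! f hf using htr
  let F : ↥(oᶜ) → (resHom o).ker := fun q =>
    ⟨⟨f q.1, fix_mem_octStab o _ (hf q.1 (Finset.mem_compl.mp q.2)).1
      (hf q.1 (Finset.mem_compl.mp q.2)).2.1⟩, by
      rw [mem_ker_resHom]
      exact (hf q.1 (Finset.mem_compl.mp q.2)).2.1⟩
  have hF : Function.Injective F := by
    intro q q' h
    have h1 : f q.1 = f q'.1 := congrArg (fun z : (resHom o).ker => (z.1.1 : Equiv.Perm GolayPt)) h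
    have h2 := (hf q.1 (Finset.mem_compl.mp q.2)).2.2
    have h3 := (hf q'.1 (Finset.mem_compl.mp q'.2)).2.2
    apply Subtype.ext
    rw [← h2, ← h3, h1]
  have hfin : Finite (resHom o).ker := Nat.finite_of_card_ne_zero (by rw [card_ker_resHom o ho]; norm_num)
  have hbij : Function.Bijective F := hF.bijective_of_nat_card_le (by
    rw [card_ker_resHom o ho, Nat.card_eq_fintype_card, Fintype.card_coe, card_compl_octad o ho])
  have key : ∀ g : Equiv.Perm GolayPt, g ∈ M24 → (∀ x ∈ o, g x = x) → g p = p →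
      g = f p := by
    intro g hg hfix hgp
    obtain ⟨q, hq⟩ := hbij.2 ⟨⟨g, fix_mem_octStab o g hg hfix⟩, by
      rw [mem_ker_resHom]; exact hfix⟩
    have h1 : f q.1 = g := congrArg (fun z : (resHom o).ker => (z.1.1 : Equiv.Perm GolayPt)) hq
    have h2 := (hf q.1 (Finset.mem_compl.mp q.2)).2.2
    rw [h1, hgp] at h2
    rw [← h1, ← h2]
  rw [key g hg hfix hgp, ← key 1 M24.one_mem (fun _ _ => rfl) rfl]

/-- An octad stabiliser is a split extension: the joint stabiliser of the octad and a point outside it is a complement to the pointwise stabiliser of the octad, and is isomorphic to the alternating group of degree 8. -/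
theorem result (o : Finset Cfsg.GolayPt) (ho : o ∈ Cfsg.octads) (p : Cfsg.GolayPt) (hp : p ∉ o) : (Cfsg.M24 ⊓ fixingSubgroup (Equiv.Perm Cfsg.GolayPt) (o : Set Cfsg.GolayPt)) ⊓ (Cfsg.M24 ⊓ MulAction.stabilizer (Equiv.Perm Cfsg.GolayPt) o ⊓ MulAction.stabilizer (Equiv.Perm Cfsg.GolayPt) p) = ⊥ ∧ (Cfsg.M24 ⊓ fixingSubgroup (Equiv.Perm Cfsg.GolayPt) (o : Set Cfsg.GolayPt)) ⊔ (Cfsg.M24 ⊓ MulAction.stabilizer (Equiv.Perm Cfsg.GolayPt) o ⊓ MulAction.stabilizer (Equiv.Perm Cfsg.GolayPt) p) = (Cfsg.M24 ⊓ MulAction.stabilizer (Equiv.Perm Cfsg.GolayPt) o) ∧ Nonempty (↥(Cfsg.M24 ⊓ MulAction.stabilizer (Equiv.Perm Cfsg.GolayPt) o ⊓ MulAction.stabilizer (Equiv.Perm Cfsg.GolayPt) p) ≃* alternatingGroup (Fin 8)) := by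
  have hcard8 : Fintype.card ↥o = 8 := by rw [Fintype.card_coe]; exact ho.2
  have hKfix : ∀ g : Equiv.Perm GolayPt,
      g ∈ fixingSubgroup (Equiv.Perm GolayPt) (o : Set GolayPt) ↔ ∀ x ∈ o, g x = x := by
    intro g
    rw [mem_fixingSubgroup_iff]
    exact Iff.rfl
  -- part 1
  have h1 : (Cfsg.M24 ⊓ fixingSubgroup (Equiv.Perm Cfsg.GolayPt) (o : Set Cfsg.GolayPt)) ⊓
      (Cfsg.M24 ⊓ MulAction.stabilizer (Equiv.Perm Cfsg.GolayPt) o ⊓
        MulAction.stabilizer (Equiv.Perm Cfsg.GolayPt) p) = ⊥ := by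
    rw [eq_bot_iff]
    rintro g ⟨⟨hg, hfix⟩, ⟨_, hgp⟩⟩
    rw [Subgroup.mem_bot]
    exact regular o ho p hp g hg ((hKfix g).mp hfix) hgp
  -- decomposition of an element of the stabiliser
  have hdec : ∀ g ∈ Cfsg.M24 ⊓ MulAction.stabilizer (Equiv.Perm Cfsg.GolayPt) o,
      ∃ k ∈ Cfsg.M24 ⊓ fixingSubgroup (Equiv.Perm Cfsg.GolayPt) (o : Set Cfsg.GolayPt),
      ∃ l ∈ Cfsg.M24 ⊓ MulAction.stabilizer (Equiv.Perm Cfsg.GolayPt) o ⊓
        MulAction.stabilizer (Equiv.Perm Cfsg.GolayPt) p, g = k * l := by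
    rintro g ⟨hg, hgo⟩
    have hq : g p ∉ o := fun h => hp (((mem_stab_iff g o).mp hgo p).mp h)
    obtain ⟨k, hk, hkfix, hkp⟩ := exists_fixing' o ho p hp (g p) hq
    have hkS := fix_mem_octStab o k hk hkfix
    refine ⟨k, ⟨hk, (hKfix k).mpr hkfix⟩, k⁻¹ * g, ⟨⟨M24.mul_mem (M24.inv_mem hk) hg, ?_⟩, ?_⟩, ?_⟩
    · exact Subgroup.mul_mem _ (Subgroup.inv_mem _ hkS.2) hgo
    · show (k⁻¹ * g) p = p
      rw [Equiv.Perm.mul_apply, Equiv.Perm.inv_eq_iff_eq, hkp]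
    · rw [mul_inv_cancel_left]
  have h2 : (Cfsg.M24 ⊓ fixingSubgroup (Equiv.Perm Cfsg.GolayPt) (o : Set Cfsg.GolayPt)) ⊔
      (Cfsg.M24 ⊓ MulAction.stabilizer (Equiv.Perm Cfsg.GolayPt) o ⊓
        MulAction.stabilizer (Equiv.Perm Cfsg.GolayPt) p) =
      (Cfsg.M24 ⊓ MulAction.stabilizer (Equiv.Perm Cfsg.GolayPt) o) := by
    apply le_antisymm
    · apply sup_le
      · rintro g ⟨hg, hfix⟩
        exact fix_mem_octStab o g hg ((hKfix g).mp hfix)
      · exact inf_le_left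
    · intro g hg
      obtain ⟨k, hk, l, hl, rfl⟩ := hdec g hg
      exact Subgroup.mul_mem_sup hk hl
  refine ⟨h1, h2, ?_⟩
  -- part 3
  have hle : Cfsg.M24 ⊓ MulAction.stabilizer (Equiv.Perm Cfsg.GolayPt) o ⊓
      MulAction.stabilizer (Equiv.Perm Cfsg.GolayPt) p ≤ octStab o := inf_le_left
  let φ := (resHom o).comp (Subgroup.inclusion hle)
  have hφ : ∀ l, φ l = resHom o ⟨l.1, hle l.2⟩ := fun l => rfl
  have hinj : Function.Injective φ := by
    rw [injective_iff_map_eq_one]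
    intro l hl
    have hker : (⟨l.1, hle l.2⟩ : octStab o) ∈ (resHom o).ker := hl
    rw [mem_ker_resHom] at hker
    have : l.1 ∈ (Cfsg.M24 ⊓ fixingSubgroup (Equiv.Perm Cfsg.GolayPt) (o : Set Cfsg.GolayPt)) ⊓
        (Cfsg.M24 ⊓ MulAction.stabilizer (Equiv.Perm Cfsg.GolayPt) o ⊓
          MulAction.stabilizer (Equiv.Perm Cfsg.GolayPt) p) :=
      ⟨⟨l.2.1.1, (hKfix l.1).mpr hker⟩, l.2⟩
    rw [h1, Subgroup.mem_bot] at this
    exact Subtype.ext this
  have hrange : φ.range = alternatingGroup ↥o := by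
    rw [← range_resHom_eq o ho]
    apply le_antisymm
    · rintro _ ⟨l, rfl⟩
      exact ⟨_, rfl⟩
    · rintro _ ⟨g, rfl⟩
      obtain ⟨k, hk, l, hl, hgkl⟩ := hdec g.1 g.2
      refine ⟨⟨l, hl⟩, ?_⟩
      have hkS : k ∈ octStab o := fix_mem_octStab o k hk.1 ((hKfix k).mp hk.2)
      have hkker : (⟨k, hkS⟩ : octStab o) ∈ (resHom o).ker := by
        rw [mem_ker_resHom]; exact (hKfix k).mp hk.2
      have hg' : g = ⟨k, hkS⟩ * ⟨l, hle hl⟩ := Subtype.ext hgkl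
      rw [hφ, hg', map_mul, MonoidHom.mem_ker.mp hkker, one_mul]
  have e1 : ↥(Cfsg.M24 ⊓ MulAction.stabilizer (Equiv.Perm Cfsg.GolayPt) o ⊓
      MulAction.stabilizer (Equiv.Perm Cfsg.GolayPt) p) ≃* φ.range := MonoidHom.ofInjective hinj
  have e2 : φ.range ≃* alternatingGroup ↥o := MulEquiv.subgroupCongr hrange
  have e3 : alternatingGroup ↥o ≃* alternatingGroup (Fin 8) :=
    Equiv.altCongrHom (Fintype.equivFinOfCardEq hcard8)
  exact ⟨(e1.trans e2).trans e3⟩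

end Cfsg.Agent.S1554
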