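import Cfsg.Statements.S5632

set_option autoImplicit false

open Cfsg

namespace Cfsg.Agent.S5632

open Matrix

theorem transv {n : ℕ} {F : Type*} [Field F] (v r : Fin n → F) (h : r ⬝ᵥ v = 0) :
    ∃ g : Matrix.GeneralLinearGroup (Fin n) F, g ∈ Cfsg.Geo.specialLinear (Fin n) F ∧
      ∀ x, (g : Matrix (Fin n) (Fin n) F) *ᵥ x = x + (r ⬝ᵥ x) • v := by
  have hdet : (1 + Matrix.vecMulVec v r).det = 1 := by
    rw [Matrix.vecMulVec_eq Unit, Matrix.det_one_add_replicateCol_mul_replicateRow, h, add_zero]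
  refine ⟨Matrix.GeneralLinearGroup.mkOfDetNeZero (1 + Matrix.vecMulVec v r) (by rw [hdet]; exact one_ne_zero), ?_, ?_⟩
  · unfold Cfsg.Geo.specialLinear
    rw [MonoidHom.mem_ker]
    ext
    simp [Matrix.GeneralLinearGroup.mkOfDetNeZero, hdet]
  · intro x
    simp [Matrix.GeneralLinearGroup.mkOfDetNeZero, Matrix.add_mulVec, Matrix.vecMulVec_mulVec]

theorem dualrow {n : ℕ} {F : Type*} [Field F] (S : Submodule F (Fin n → F)) (x : Fin n → F)
    (hx : x ∉ S) : ∃ r : Fin n → F, (∀ s ∈ S, r ⬝ᵥ s = 0) ∧ r ⬝ᵥ x = 1 := by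
  obtain ⟨f, hf, hS⟩ := Submodule.exists_le_ker_of_notMem hx
  have key : ∀ y : Fin n → F,
      (fun i => (f x)⁻¹ * f (fun j => if i = j then 1 else 0)) ⬝ᵥ y = (f x)⁻¹ * f y := by
    intro y
    rw [LinearMap.pi_apply_eq_sum_univ f y]
    simp only [dotProduct, mul_assoc, smul_eq_mul]
    rw [Finset.mul_sum]
    refine Finset.sum_congr rfl (fun i _ => ?_)
    ring
  refine ⟨fun i => (f x)⁻¹ * f (fun j => if i = j then 1 else 0), ?_, ?_⟩
  · intro s hs
    have h1 : f s = 0 := hS hs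
    rw [key, h1, mul_zero]
  · rw [key]
    exact inv_mul_cancel₀ hf

theorem mem_stab_iff {n : ℕ} {F : Type*} [Field F] (W : Submodule F (Fin n → F))
    (g : Matrix.GeneralLinearGroup (Fin n) F) :
    g ∈ Cfsg.Geo.subspaceStabilizer W ↔
      ∀ v, v ∈ W ↔ (g : Matrix (Fin n) (Fin n) F) *ᵥ v ∈ W := Iff.rfl

theorem stab_of_ker {n : ℕ} {F : Type*} [Field F] (W : Submodule F (Fin n → F))
    (v r : Fin n → F) (g : Matrix.GeneralLinearGroup (Fin n) F)
    (hg : ∀ x, (g : Matrix (Fin n) (Fin n) F) *ᵥ x = x + (r ⬝ᵥ x) • v)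
    (hr : ∀ s ∈ W, r ⬝ᵥ s = 0) (hrv : r ⬝ᵥ v = 0) : g ∈ Cfsg.Geo.subspaceStabilizer W := by
  rw [mem_stab_iff]
  intro x
  constructor
  · intro hx
    rw [hg, hr x hx, zero_smul, add_zero]
    exact hx
  · intro hx
    have h1 := hr _ hx
    rw [hg, dotProduct_add, dotProduct_smul, hrv, smul_zero, add_zero] at h1
    rw [hg, h1, zero_smul, add_zero] at hx
    exact hx

theorem stab_of_mem {n : ℕ} {F : Type*} [Field F] (W : Submodule F (Fin n → F))
    (v r : Fin n → F) (g : Matrix.GeneralLinearGroup (Fin n) F)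
    (hg : ∀ x, (g : Matrix (Fin n) (Fin n) F) *ᵥ x = x + (r ⬝ᵥ x) • v)
    (hv : v ∈ W) : g ∈ Cfsg.Geo.subspaceStabilizer W := by
  rw [mem_stab_iff]
  intro x
  rw [hg]
  constructor
  · intro hx
    exact W.add_mem hx (W.smul_mem _ hv)
  · intro hx
    have := W.sub_mem hx (W.smul_mem (r ⬝ᵥ x) hv)
    simpa using this

theorem not_stab {n : ℕ} {F : Type*} [Field F] (U : Submodule F (Fin n → F))
    (v r u : Fin n → F) (g : Matrix.GeneralLinearGroup (Fin n) F)
    (hg : ∀ x, (g : Matrix (Fin n) (Fin n) F) *ᵥ x = x + (r ⬝ᵥ x) • v)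
    (hv : v ∉ U) (hu : u ∈ U) (hru : r ⬝ᵥ u = 1) : g ∉ Cfsg.Geo.subspaceStabilizer U := by
  rw [mem_stab_iff]
  intro h
  have h1 := (h u).mp hu
  rw [hg, hru, one_smul] at h1
  apply hv
  have := U.sub_mem h1 hu
  simpa using this

theorem exists_SL_not_stab {n : ℕ} {F : Type*} [Field F] (W : Submodule F (Fin n → F))
    (h0 : W ≠ ⊥) (h1 : W ≠ ⊤) :
    ∃ g ∈ Cfsg.Geo.specialLinear (Fin n) F, g ∉ Cfsg.Geo.subspaceStabilizer W := by
  obtain ⟨w, hw, hw0⟩ := Submodule.exists_mem_ne_zero_of_ne_bot h0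
  obtain ⟨v, hv⟩ : ∃ v, v ∉ W := by
    by_contra hcon
    push_neg at hcon
    exact h1 (eq_top_iff.mpr (fun x _ => hcon x))
  have hwv : w ∉ Submodule.span F {v} := by
    intro hmem
    rw [Submodule.mem_span_singleton] at hmem
    obtain ⟨c, hc⟩ := hmem
    by_cases hc0 : c = 0
    · rw [hc0, zero_smul] at hc
      exact hw0 hc.symm
    · apply hv
      have : v = c⁻¹ • w := by
        rw [← hc, smul_smul, inv_mul_cancel₀ hc0, one_smul]
      rw [this]
      exact W.smul_mem _ hw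
  obtain ⟨r, hr, hrw⟩ := dualrow _ w hwv
  have hrv : r ⬝ᵥ v = 0 := hr v (Submodule.mem_span_singleton_self v)
  obtain ⟨g, hgS, hg⟩ := transv v r hrv
  exact ⟨g, hgS, not_stab W v r w g hg hv hw hrw⟩

theorem result {F : Type*} [Field F] [Fintype F] (n : ℕ) (W U : Submodule F (Fin n → F)) (hW0 : W ≠ ⊥) (hWU : W < U) (hdim : Module.finrank F W + Module.finrank F U = n) : ∃ K : Subgroup (Matrix.GeneralLinearGroup (Fin n) F), Cfsg.Geo.subspaceStabilizer W ⊓ Cfsg.Geo.subspaceStabilizer U ⊓ Cfsg.Geo.specialLinear (Fin n) F < K ∧ K < Cfsg.Geo.specialLinear (Fin n) F := by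
  refine ⟨Cfsg.Geo.subspaceStabilizer W ⊓ Cfsg.Geo.specialLinear (Fin n) F, ?_, ?_⟩
  · rw [SetLike.lt_iff_le_and_exists]
    refine ⟨fun x hx => ⟨hx.1.1, hx.2⟩, ?_⟩
    obtain ⟨u, huU, huW⟩ := SetLike.exists_of_lt hWU
    have hUtop : U ≠ ⊤ := by
      intro hU
      rw [hU, finrank_top, Module.finrank_fin_fun] at hdim
      have : Module.finrank F W = 0 := by omega
      exact hW0 (Submodule.finrank_eq_zero.mp this)
    obtain ⟨v, hv⟩ : ∃ v, v ∉ U := by
      by_contra hcon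
      push_neg at hcon
      exact hUtop (eq_top_iff.mpr (fun x _ => hcon x))
    have hu : u ∉ W ⊔ Submodule.span F {v} := by
      intro hmem
      rw [Submodule.mem_sup] at hmem
      obtain ⟨w, hw, y, hy, hwy⟩ := hmem
      rw [Submodule.mem_span_singleton] at hy
      obtain ⟨c, hc⟩ := hy
      by_cases hc0 : c = 0
      · rw [hc0, zero_smul] at hc
        rw [← hc, add_zero] at hwy
        exact huW (hwy ▸ hw)
      · apply hv
        have : v = c⁻¹ • (u - w) := by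
          rw [← hwy, add_sub_cancel_left, ← hc, smul_smul, inv_mul_cancel₀ hc0, one_smul]
        rw [this]
        exact U.smul_mem _ (U.sub_mem huU (hWU.le hw))
    obtain ⟨r, hr, hru⟩ := dualrow _ u hu
    have hrv : r ⬝ᵥ v = 0 :=
      hr v (Submodule.mem_sup_right (Submodule.mem_span_singleton_self v))
    obtain ⟨g, hgS, hg⟩ := transv v r hrv
    refine ⟨g, ⟨stab_of_ker W v r g hg (fun s hs => hr s (Submodule.mem_sup_left hs)) hrv, hgS⟩, ?_⟩
    intro hmem
    exact not_stab U v r u g hg hv huU hru hmem.1.2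
  · rw [SetLike.lt_iff_le_and_exists]
    refine ⟨inf_le_right, ?_⟩
    obtain ⟨g, hgS, hg⟩ := exists_SL_not_stab W hW0 (ne_top_of_lt hWU)
    exact ⟨g, hgS, fun hmem => hg hmem.1⟩

end Cfsg.Agent.S5632
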