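import Cfsg.Statements.S5635
import Cfsg.Agent.S5632

set_option autoImplicit false

open Cfsg

namespace Cfsg.Agent.S5635

open Matrix Cfsg.Agent.S5632

theorem comp_exists {n : ℕ} {F : Type*} [Field F] {t : ℕ}
    (D : Fin t → Submodule F (Fin n → F)) (hsup : iSup D = ⊤)
    (x : Fin n → F) :
    ∃ c : Fin t → (Fin n → F), (∀ i, c i ∈ D i) ∧ ∑ i, c i = x := by
  have hx : x ∈ ⨆ i, D i := by
    rw [hsup]
    exact Submodule.mem_top
  refine Submodule.iSup_induction D
    (motive := fun x => ∃ c : Fin t → (Fin n → F), (∀ i, c i ∈ D i) ∧ ∑ i, c i = x)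
    hx ?_ ?_ ?_
  · intro i x hx
    refine ⟨Pi.single i x, ?_, ?_⟩
    · intro j
      by_cases hji : j = i
      · subst hji
        rw [Pi.single_eq_same]
        exact hx
      · rw [Pi.single_eq_of_ne hji]
        exact (D j).zero_mem
    · rw [Finset.sum_pi_single']
      simp
  · exact ⟨0, fun i => (D i).zero_mem, by simp⟩
  · rintro x y ⟨c, hc, hcx⟩ ⟨c', hc', hcy⟩
    refine ⟨c + c', fun i => (D i).add_mem (hc i) (hc' i), ?_⟩
    rw [← hcx, ← hcy, ← Finset.sum_add_distrib]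
    rfl

theorem uniq {n : ℕ} {F : Type*} [Field F] {t : ℕ}
    (D : Fin t → Submodule F (Fin n → F)) (hind : iSupIndep D)
    (c c' : Fin t → (Fin n → F)) (hc : ∀ i, c i ∈ D i) (hc' : ∀ i, c' i ∈ D i)
    (h : ∑ i, c i = ∑ i, c' i) : c = c' := by
  funext i
  exact (iSupIndep_iff_finsetSum_eq_imp_eq D).mp hind Finset.univ c c'
    (fun i _ => ⟨hc i, hc' i⟩) h i (Finset.mem_univ i)

open Classical in
noncomputable def NN {n : ℕ} {F : Type*} [Field F] {t : ℕ}
    (D : Fin t → Submodule F (Fin n → F)) (x : Fin n → F) : ℕ :=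
  (Finset.univ.filter (fun i => ∃ c : Fin t → (Fin n → F),
    (∀ j, c j ∈ D j) ∧ ∑ j, c j = x ∧ c i ≠ 0)).card

open Classical in
theorem NN_sum {n : ℕ} {F : Type*} [Field F] {t : ℕ}
    (D : Fin t → Submodule F (Fin n → F)) (hind : iSupIndep D)
    (c : Fin t → (Fin n → F)) (hc : ∀ i, c i ∈ D i) :
    NN D (∑ j, c j) = (Finset.univ.filter (fun i => c i ≠ 0)).card := by
  unfold NN
  congr 1
  ext i
  simp only [Finset.mem_filter, Finset.mem_univ, true_and]
  constructor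
  · rintro ⟨c', hc', hsum, hne⟩
    rw [uniq D hind c' c hc' hc hsum] at hne
    exact hne
  · intro hne
    exact ⟨c, hc, rfl, hne⟩

open Classical in
theorem NN_F {n : ℕ} {F : Type*} [Field F] {t : ℕ}
    (D : Fin t → Submodule F (Fin n → F)) (hind : iSupIndep D)
    (c : Fin t → (Fin n → F)) (hc : ∀ i, c i ∈ D i) :
    (NN D (∑ j, c j) : F) = ∑ i, if c i = 0 then (0 : F) else 1 := by
  rw [NN_sum D hind c hc, Finset.card_eq_sum_ones, Finset.sum_filter, Nat.cast_sum]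
  apply Finset.sum_congr rfl
  intro i _
  by_cases h0 : c i = 0
  · simp [h0]
  · simp [h0]

theorem gl_mulVec_eq_zero {n : ℕ} {F : Type*} [Field F]
    (g : Matrix.GeneralLinearGroup (Fin n) F) (y : Fin n → F)
    (h : (g : Matrix (Fin n) (Fin n) F) *ᵥ y = 0) : y = 0 := by
  have := congrArg (fun z => ((g⁻¹ : Matrix.GeneralLinearGroup (Fin n) F) :
    Matrix (Fin n) (Fin n) F) *ᵥ z) h
  simp only [Matrix.mulVec_mulVec, Matrix.mulVec_zero] at this
  rw [← Units.val_mul, inv_mul_cancel, Units.val_one, Matrix.one_mulVec] at this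
  exact this

theorem stab_NN {n : ℕ} {F : Type*} [Field F] {t : ℕ}
    (D : Fin t → Submodule F (Fin n → F)) (hind : iSupIndep D) (hsup : iSup D = ⊤)
    (g : Matrix.GeneralLinearGroup (Fin n) F)
    (hg : g ∈ Cfsg.Geo.decompositionStabilizer D) (x : Fin n → F) :
    NN D ((g : Matrix (Fin n) (Fin n) F) *ᵥ x) = NN D x := by
  classical
  obtain ⟨σ, hσ⟩ := hg
  obtain ⟨c, hc, rfl⟩ := comp_exists D hsup x
  have hc' : ∀ j, (g : Matrix (Fin n) (Fin n) F) *ᵥ c (σ.symm j) ∈ D j := by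
    intro j
    have h1 : (g : Matrix (Fin n) (Fin n) F) *ᵥ c (σ.symm j) ∈
        (D (σ.symm j)).map (Matrix.toLin' (g : Matrix (Fin n) (Fin n) F)) :=
      ⟨c (σ.symm j), hc _, by simp [Matrix.toLin'_apply]⟩
    rw [hσ, Equiv.apply_symm_apply] at h1
    exact h1
  have hsum : (g : Matrix (Fin n) (Fin n) F) *ᵥ (∑ j, c j) =
      ∑ j, (g : Matrix (Fin n) (Fin n) F) *ᵥ c (σ.symm j) := by
    rw [Matrix.mulVec_sum]
    exact (Equiv.sum_comp σ.symm (fun j => (g : Matrix (Fin n) (Fin n) F) *ᵥ c j)).symm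
  rw [hsum, NN_sum D hind _ hc', NN_sum D hind c hc]
  apply Finset.card_equiv σ.symm
  intro j
  simp only [Finset.mem_filter, Finset.mem_univ, true_and]
  constructor
  · intro h h0
    apply h
    rw [h0, Matrix.mulVec_zero]
  · intro h h0
    exact h (gl_mulVec_eq_zero g _ h0)

noncomputable def KK {n : ℕ} {F : Type*} [Field F] {t : ℕ}
    (D : Fin t → Submodule F (Fin n → F)) :
    Subgroup (Matrix.GeneralLinearGroup (Fin n) F) where
  carrier := {g | ∀ x, (NN D ((g : Matrix (Fin n) (Fin n) F) *ᵥ x) : F) = NN D x}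
  mul_mem' := by
    intro a b ha hb x
    rw [Units.val_mul, ← Matrix.mulVec_mulVec, ha, hb]
  one_mem' := fun x => by simp
  inv_mem' := by
    intro a ha x
    have := ha (((a⁻¹ : Matrix.GeneralLinearGroup (Fin n) F) :
      Matrix (Fin n) (Fin n) F) *ᵥ x)
    rw [Matrix.mulVec_mulVec, ← Units.val_mul, mul_inv_cancel, Units.val_one,
      Matrix.one_mulVec] at this
    exact this.symm

theorem mem_KK {n : ℕ} {F : Type*} [Field F] {t : ℕ}
    (D : Fin t → Submodule F (Fin n → F))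
    (g : Matrix.GeneralLinearGroup (Fin n) F) :
    g ∈ KK D ↔ ∀ x, (NN D ((g : Matrix (Fin n) (Fin n) F) *ᵥ x) : F) = NN D x := Iff.rfl

open Classical in
theorem NN_subset {n : ℕ} {F : Type*} [Field F] {t : ℕ}
    (D : Fin t → Submodule F (Fin n → F)) (hind : iSupIndep D)
    (S : Finset (Fin t)) (y : Fin t → (Fin n → F)) (hy : ∀ j, y j ∈ D j)
    (hy0 : ∀ j ∈ S, y j ≠ 0) : NN D (∑ j ∈ S, y j) = S.card := by
  have h1 : ∑ j ∈ S, y j = ∑ j, (if j ∈ S then y j else 0) := by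
    rw [Finset.sum_ite_mem, Finset.univ_inter]
  rw [h1, NN_sum D hind _ (fun j => by
    by_cases hj : j ∈ S
    · rw [if_pos hj]; exact hy j
    · rw [if_neg hj]; exact (D j).zero_mem)]
  congr 1
  ext j
  simp only [Finset.mem_filter, Finset.mem_univ, true_and]
  constructor
  · intro h
    by_contra hj
    rw [if_neg hj] at h
    exact h rfl
  · intro hj
    rw [if_pos hj]
    exact hy0 j hj

open Classical in
theorem NN_shift {n : ℕ} {F : Type*} [Field F] {t : ℕ}
    (D : Fin t → Submodule F (Fin n → F)) (hind : iSupIndep D)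
    (S : Finset (Fin t)) (d : Fin t → (Fin n → F)) (hd : ∀ j, d j ∈ D j)
    (c : Fin t → (Fin n → F)) (hc : ∀ i, c i ∈ D i) (s : F) :
    (NN D (∑ j, c j + s • ∑ j ∈ S, d j) : F) = NN D (∑ j, c j) +
      ∑ j ∈ S, ((if c j + s • d j = 0 then (0 : F) else 1) - (if c j = 0 then (0 : F) else 1)) := by
  have h1 : ∑ j, c j + s • ∑ j ∈ S, d j = ∑ j, (c j + if j ∈ S then s • d j else 0) := by
    rw [Finset.sum_add_distrib, Finset.sum_ite_mem, Finset.univ_inter, Finset.smul_sum]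
  have hmem : ∀ j, (c j + if j ∈ S then s • d j else 0) ∈ D j := by
    intro j
    by_cases hj : j ∈ S
    · rw [if_pos hj]; exact (D j).add_mem (hc j) ((D j).smul_mem _ (hd j))
    · rw [if_neg hj, add_zero]; exact hc j
  rw [h1, NN_F D hind _ hmem, NN_F D hind c hc]
  have h2 : ∑ j ∈ S, ((if c j + s • d j = 0 then (0 : F) else 1) - (if c j = 0 then (0 : F) else 1)) =
      ∑ j, ((if (c j + if j ∈ S then s • d j else 0) = 0 then (0 : F) else 1) -
        (if c j = 0 then (0 : F) else 1)) := by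
    symm
    rw [← Finset.sum_subset (Finset.subset_univ S)]
    · apply Finset.sum_congr rfl
      intro j hj
      rw [if_pos hj]
    · intro j _ hj
      rw [if_neg hj, add_zero, sub_self]
  rw [h2, ← Finset.sum_add_distrib]
  apply Finset.sum_congr rfl
  intro j _
  ring

theorem rows {n : ℕ} {F : Type*} [Field F] {t : ℕ}
    (D : Fin t → Submodule F (Fin n → F)) (hind : iSupIndep D) (i : Fin t)
    (d : Fin n → F) (hd : d ∈ D i) (hd0 : d ≠ 0) :
    ∃ r : Fin n → F, (∀ j, j ≠ i → ∀ y ∈ D j, r ⬝ᵥ y = 0) ∧ r ⬝ᵥ d = 1 := by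
  have hnot : d ∉ ⨆ (j) (_ : j ≠ i), D j := by
    intro hmem
    exact hd0 ((Submodule.disjoint_def.mp (hind i)) d hd hmem)
  obtain ⟨r, hr, hrd⟩ := dualrow _ d hnot
  refine ⟨r, fun j hj y hy => hr y ?_, hrd⟩
  exact Submodule.mem_iSup_of_mem j (Submodule.mem_iSup_of_mem hj hy)

theorem exists_ne_zero_of_finrank {n : ℕ} {F : Type*} [Field F] {m : ℕ}
    (W : Submodule F (Fin n → F)) (hdim : Module.finrank F W = m) (hm : 0 < m) :
    ∃ a ∈ W, a ≠ 0 := by
  apply Submodule.exists_mem_ne_zero_of_ne_bot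
  intro h
  rw [h, finrank_bot] at hdim
  omega

theorem dot_sum_comp {n : ℕ} {F : Type*} [Field F] {t : ℕ}
    (D : Fin t → Submodule F (Fin n → F)) (i : Fin t) (r : Fin n → F)
    (hr : ∀ j, j ≠ i → ∀ y ∈ D j, r ⬝ᵥ y = 0)
    (c : Fin t → (Fin n → F)) (hc : ∀ j, c j ∈ D j) :
    r ⬝ᵥ (∑ j, c j) = r ⬝ᵥ c i := by
  rw [dotProduct_sum]
  apply Finset.sum_eq_single i
  · intro j _ hji
    exact hr j hji (c j) (hc j)
  · intro h
    exact absurd (Finset.mem_univ i) h

theorem one_ne_two {F : Type*} [Field F] : ((1 : ℕ) : F) ≠ ((2 : ℕ) : F) := by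
  intro h
  have h2 : ((2 : ℕ) : F) = 1 + 1 := by norm_num
  rw [h2, Nat.cast_one] at h
  have : (1 : F) = 0 := by
    have h' : (1 : F) + 0 = 1 + 1 := by rw [add_zero]; exact h
    exact (add_left_cancel h').symm
  exact one_ne_zero this

theorem SL_not_KK {n : ℕ} {F : Type*} [Field F] {t : ℕ} {m : ℕ}
    (D : Fin t → Submodule F (Fin n → F)) (hD : Cfsg.Geo.IsMDecomposition m D) :
    ∃ g ∈ Cfsg.Geo.specialLinear (Fin n) F, g ∉ KK D := by
  classical
  have ht := hD.two_le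
  have hind := hD.indep
  obtain ⟨d, hdD, hd0⟩ := exists_ne_zero_of_finrank (D ⟨0, by omega⟩) (hD.finrank_eq _) hD.pos
  obtain ⟨d', hd'D, hd'0⟩ := exists_ne_zero_of_finrank (D ⟨1, by omega⟩) (hD.finrank_eq _) hD.pos
  have h01 : (⟨1, by omega⟩ : Fin t) ≠ ⟨0, by omega⟩ := by
    intro h
    have := congrArg Fin.val h
    simp at this
  obtain ⟨r, hr, hrd⟩ := rows D hind ⟨0, by omega⟩ d hdD hd0
  have hrd' : r ⬝ᵥ d' = 0 := hr _ h01 d' hd'D
  obtain ⟨g, hgS, hg⟩ := transv d' r hrd'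
  refine ⟨g, hgS, ?_⟩
  intro hmem
  have h1 := (mem_KK D g).mp hmem d
  rw [hg, hrd, one_smul] at h1
  set y : Fin t → (Fin n → F) := fun j => if j = ⟨0, by omega⟩ then d else if j = ⟨1, by omega⟩ then d' else 0 with hy
  have hyD : ∀ j, y j ∈ D j := by
    intro j
    rw [hy]
    by_cases h0 : j = ⟨0, by omega⟩
    · simp only [if_pos h0]; rw [h0]; exact hdD
    · by_cases h1 : j = ⟨1, by omega⟩
      · simp only [if_neg h0, if_pos h1]; rw [h1]; exact hd'D
      · simp only [if_neg h0, if_neg h1]; exact (D j).zero_mem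
  have e1 : d = ∑ j ∈ ({⟨0, by omega⟩} : Finset (Fin t)), y j := by
    rw [Finset.sum_singleton, hy]
    simp
  have e2 : d + d' = ∑ j ∈ ({⟨0, by omega⟩, ⟨1, by omega⟩} : Finset (Fin t)), y j := by
    rw [Finset.sum_insert (by simpa using h01.symm), Finset.sum_singleton, hy]
    simp [h01]
  have n1 : NN D d = 1 := by
    rw [e1, NN_subset D hind _ y hyD]
    · simp
    · intro j hj
      rw [Finset.mem_singleton] at hj
      rw [hj, hy]
      simpa using hd0
  have n2 : NN D (d + d') = 2 := by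
    rw [e2, NN_subset D hind _ y hyD]
    · rw [Finset.card_insert_of_notMem (by simpa using h01.symm), Finset.card_singleton]
    · intro j hj
      rw [Finset.mem_insert, Finset.mem_singleton] at hj
      rcases hj with hj | hj
      · rw [hj, hy]; simpa using hd0
      · rw [hj, hy]; simpa [h01] using hd'0
  rw [n1, n2] at h1
  exact one_ne_two h1.symm

theorem frame1 {n : ℕ} {F : Type*} [Field F] {t : ℕ} {m : ℕ}
    (D : Fin t → Submodule F (Fin n → F)) (hD : Cfsg.Geo.IsMDecomposition m D) :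
    ∃ (d : Fin t → (Fin n → F)) (r : Fin t → (Fin n → F)), (∀ j, d j ∈ D j) ∧ (∀ j, d j ≠ 0) ∧
      (∀ j k, k ≠ j → ∀ y ∈ D k, r j ⬝ᵥ y = 0) ∧ (∀ j, r j ⬝ᵥ d j = 1) := by
  have h1 : ∀ j, ∃ a ∈ D j, a ≠ 0 := fun j =>
    exists_ne_zero_of_finrank (D j) (hD.finrank_eq j) hD.pos
  choose d hd hd0 using h1
  have h2 : ∀ j, ∃ r : Fin n → F, (∀ k, k ≠ j → ∀ y ∈ D k, r ⬝ᵥ y = 0) ∧ r ⬝ᵥ d j = 1 :=
    fun j => rows D hD.indep j (d j) (hd j) (hd0 j)
  choose r hr hrd using h2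
  exact ⟨d, r, hd, hd0, hr, hrd⟩

theorem line {n : ℕ} {F : Type*} [Field F]
    (W : Submodule F (Fin n → F)) (hdim : Module.finrank F W = 1)
    (d r : Fin n → F) (hd : d ∈ W) (hd0 : d ≠ 0) (hrd : r ⬝ᵥ d = 1)
    (y : Fin n → F) (hy : y ∈ W) : y = (r ⬝ᵥ y) • d := by
  have hne : (⟨d, hd⟩ : W) ≠ 0 := by
    intro h
    exact hd0 (congrArg Subtype.val h)
  obtain ⟨κ, hκ⟩ := (finrank_eq_one_iff_of_nonzero' (⟨d, hd⟩ : W) hne).mp hdim ⟨y, hy⟩
  have hκ' : κ • d = y := congrArg Subtype.val hκ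
  rw [← hκ', dotProduct_smul, hrd, smul_eq_mul, mul_one]

theorem phi_pow {n : ℕ} {F : Type*} [Field F] [Fintype F]
    (d : Fin n → F) (hd0 : d ≠ 0) (κ : F) [Decidable (κ • d = 0)] :
    (if κ • d = 0 then (0 : F) else 1) = κ ^ (Fintype.card F - 1) := by
  have hq : 1 < Fintype.card F := Fintype.one_lt_card
  by_cases h0 : κ = 0
  · subst h0
    rw [if_pos (zero_smul F d), zero_pow (by omega)]
  · rw [if_neg (smul_ne_zero h0 hd0), FiniteField.pow_card_sub_one_eq_one κ h0]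

open Classical in
theorem shift_line {n : ℕ} {F : Type*} [Field F] [Fintype F] {t : ℕ}
    (D : Fin t → Submodule F (Fin n → F)) (hD : Cfsg.Geo.IsMDecomposition 1 D)
    (d r : Fin t → (Fin n → F)) (hd : ∀ j, d j ∈ D j) (hd0 : ∀ j, d j ≠ 0)
    (hrd : ∀ j, r j ⬝ᵥ d j = 1)
    (S : Finset (Fin t)) (c : Fin t → (Fin n → F)) (hc : ∀ i, c i ∈ D i) (s : F) :
    (NN D (∑ j, c j + s • ∑ j ∈ S, d j) : F) = NN D (∑ j, c j) +
      ∑ j ∈ S, ((r j ⬝ᵥ c j + s) ^ (Fintype.card F - 1) - (r j ⬝ᵥ c j) ^ (Fintype.card F - 1)) := by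
  rw [NN_shift D hD.indep S d hd c hc s]
  congr 1
  apply Finset.sum_congr rfl
  intro j _
  have h1 : c j = (r j ⬝ᵥ c j) • d j :=
    line (D j) (hD.finrank_eq j) (d j) (r j) (hd j) (hd0 j) (hrd j) (c j) (hc j)
  have h2 : c j + s • d j = (r j ⬝ᵥ c j + s) • d j := by
    rw [add_smul, ← h1]
  rw [h2, phi_pow (d j) (hd0 j)]
  congr 1
  conv_lhs => rw [h1]
  rw [phi_pow (d j) (hd0 j)]

theorem mem_KK_line {n : ℕ} {F : Type*} [Field F] [Fintype F] {t : ℕ}
    (D : Fin t → Submodule F (Fin n → F)) (hD : Cfsg.Geo.IsMDecomposition 1 D)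
    (d r : Fin t → (Fin n → F)) (hd : ∀ j, d j ∈ D j) (hd0 : ∀ j, d j ≠ 0)
    (hr : ∀ j k, k ≠ j → ∀ y ∈ D k, r j ⬝ᵥ y = 0) (hrd : ∀ j, r j ⬝ᵥ d j = 1)
    (S T : Finset (Fin t)) (g : Matrix.GeneralLinearGroup (Fin n) F)
    (hg : ∀ x, (g : Matrix (Fin n) (Fin n) F) *ᵥ x = x + ((∑ j ∈ T, r j) ⬝ᵥ x) • ∑ j ∈ S, d j)
    (hpoly : ∀ κ : Fin t → F, ∑ j ∈ S, ((κ j + ∑ k ∈ T, κ k) ^ (Fintype.card F - 1) -
      (κ j) ^ (Fintype.card F - 1)) = 0) : g ∈ KK D := by
  classical
  rw [mem_KK]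
  intro x
  obtain ⟨c, hc, rfl⟩ := comp_exists D hD.iSup_eq_top x
  have h1 : (∑ j ∈ T, r j) ⬝ᵥ (∑ j, c j) = ∑ k ∈ T, r k ⬝ᵥ c k := by
    rw [sum_dotProduct]
    apply Finset.sum_congr rfl
    intro k _
    exact dot_sum_comp D k (r k) (hr k) c hc
  rw [hg, h1, shift_line D hD d r hd hd0 hrd S c hc, hpoly (fun j => r j ⬝ᵥ c j), add_zero]

theorem rd {n : ℕ} {F : Type*} [Field F] {t : ℕ}
    (D : Fin t → Submodule F (Fin n → F))
    (d r : Fin t → (Fin n → F)) (hd : ∀ j, d j ∈ D j)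
    (hr : ∀ j k, k ≠ j → ∀ y ∈ D k, r j ⬝ᵥ y = 0) (hrd : ∀ j, r j ⬝ᵥ d j = 1) (j k : Fin t) :
    r j ⬝ᵥ d k = if j = k then 1 else 0 := by
  by_cases h : j = k
  · rw [if_pos h, h]
    exact hrd k
  · rw [if_neg h]
    exact hr j k (fun h' => h h'.symm) (d k) (hd k)

theorem sum_four {M : Type*} [AddCommMonoid M] {t : ℕ} (i0 i1 i2 i3 : Fin t)
    (h01 : i0 ≠ i1) (h02 : i0 ≠ i2) (h03 : i0 ≠ i3) (h12 : i1 ≠ i2) (h13 : i1 ≠ i3)
    (h23 : i2 ≠ i3) (f : Fin t → M) :
    ∑ j ∈ ({i0, i1, i2, i3} : Finset (Fin t)), f j = f i0 + (f i1 + (f i2 + f i3)) := by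
  rw [Finset.sum_insert (by simp [h01, h02, h03]), Finset.sum_insert (by simp [h12, h13]),
    Finset.sum_insert (by simp [h23]), Finset.sum_singleton]

theorem sum_three {M : Type*} [AddCommMonoid M] {t : ℕ} (i0 i1 i2 : Fin t)
    (h01 : i0 ≠ i1) (h02 : i0 ≠ i2) (h12 : i1 ≠ i2) (f : Fin t → M) :
    ∑ j ∈ ({i0, i1, i2} : Finset (Fin t)), f j = f i0 + (f i1 + f i2) := by
  rw [Finset.sum_insert (by simp [h01, h02]), Finset.sum_insert (by simp [h12]),
    Finset.sum_singleton]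

theorem sum_two {M : Type*} [AddCommMonoid M] {t : ℕ} (i0 i1 : Fin t)
    (h01 : i0 ≠ i1) (f : Fin t → M) :
    ∑ j ∈ ({i0, i1} : Finset (Fin t)), f j = f i0 + f i1 := by
  rw [Finset.sum_insert (by simp [h01]), Finset.sum_singleton]

theorem card_four {t : ℕ} (i0 i1 i2 i3 : Fin t)
    (h01 : i0 ≠ i1) (h02 : i0 ≠ i2) (h03 : i0 ≠ i3) (h12 : i1 ≠ i2) (h13 : i1 ≠ i3)
    (h23 : i2 ≠ i3) : ({i0, i1, i2, i3} : Finset (Fin t)).card = 4 := by
  rw [Finset.card_insert_of_notMem (by simp [h01, h02, h03]),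
    Finset.card_insert_of_notMem (by simp [h12, h13]),
    Finset.card_insert_of_notMem (by simp [h23]), Finset.card_singleton]

theorem card_three {t : ℕ} (i0 i1 i2 : Fin t)
    (h01 : i0 ≠ i1) (h02 : i0 ≠ i2) (h12 : i1 ≠ i2) :
    ({i0, i1, i2} : Finset (Fin t)).card = 3 := by
  rw [Finset.card_insert_of_notMem (by simp [h01, h02]),
    Finset.card_insert_of_notMem (by simp [h12]), Finset.card_singleton]

theorem NN_one {n : ℕ} {F : Type*} [Field F] {t : ℕ}
    (D : Fin t → Submodule F (Fin n → F)) (hind : iSupIndep D) (i : Fin t)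
    (y : Fin n → F) (hy : y ∈ D i) (hy0 : y ≠ 0) : NN D y = 1 := by
  classical
  have e1 : y = ∑ j ∈ ({i} : Finset (Fin t)), (fun j => if j = i then y else 0) j := by
    rw [Finset.sum_singleton, if_pos rfl]
  rw [e1, NN_subset D hind]
  · simp
  · intro j
    by_cases hj : j = i
    · simp only [if_pos hj]; rw [hj]; exact hy
    · simp only [if_neg hj]; exact (D j).zero_mem
  · intro j hj
    rw [Finset.mem_singleton] at hj
    simp only [if_pos hj]
    exact hy0

theorem char_of_card {F : Type*} [Field F] [Fintype F] : ((Fintype.card F : ℕ) : F) = 0 :=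
  FiniteField.cast_card_eq_zero F

theorem caseA {n : ℕ} {F : Type*} [Field F] [Fintype F] {t : ℕ}
    (D : Fin t → Submodule F (Fin n → F)) (hD : Cfsg.Geo.IsMDecomposition 1 D)
    (hq : Fintype.card F = 2) (i0 i1 i2 : Fin t)
    (h01 : i0 ≠ i1) (h02 : i0 ≠ i2) (h12 : i1 ≠ i2) :
    ∃ g ∈ Cfsg.Geo.specialLinear (Fin n) F, g ∈ KK D ∧
      g ∉ Cfsg.Geo.decompositionStabilizer D := by
  classical
  obtain ⟨d, r, hd, hd0, hr, hrd⟩ := frame1 D hD
  have h2 : (2 : F) = 0 := by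
    have := char_of_card (F := F)
    rw [hq] at this
    exact_mod_cast this
  have hrv : (∑ j ∈ ({i2} : Finset (Fin t)), r j) ⬝ᵥ (∑ j ∈ ({i0, i1} : Finset (Fin t)), d j) = 0 := by
    rw [Finset.sum_singleton, sum_two i0 i1 h01, dotProduct_add, rd D d r hd hr hrd,
      rd D d r hd hr hrd, if_neg (fun h => h02 h.symm), if_neg (fun h => h12 h.symm), add_zero]
  obtain ⟨g, hgS, hg⟩ := transv _ _ hrv
  refine ⟨g, hgS, ?_, ?_⟩
  · apply mem_KK_line D hD d r hd hd0 hr hrd {i0, i1} {i2} g hg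
    intro κ
    rw [hq, sum_two i0 i1 h01, Finset.sum_singleton]
    simp only [Nat.add_one_sub_one, pow_one]
    linear_combination (κ i2) * h2
  · intro hmem
    have h1 := stab_NN D hD.indep hD.iSup_eq_top g hmem (d i2)
    rw [NN_one D hD.indep i2 (d i2) (hd i2) (hd0 i2), hg, Finset.sum_singleton,
      rd D d r hd hr hrd, if_pos rfl, one_smul] at h1
    have e : d i2 + ∑ j ∈ ({i0, i1} : Finset (Fin t)), d j =
        ∑ j ∈ ({i2, i0, i1} : Finset (Fin t)), d j := by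
      rw [sum_three i2 i0 i1 (fun h => h02 h.symm) (fun h => h12 h.symm) h01, sum_two i0 i1 h01]
    rw [e, NN_subset D hD.indep _ d hd (fun j _ => hd0 j),
      card_three i2 i0 i1 (fun h => h02 h.symm) (fun h => h12 h.symm) h01] at h1
    omega

theorem caseC {n : ℕ} {F : Type*} [Field F] [Fintype F] {t : ℕ}
    (D : Fin t → Submodule F (Fin n → F)) (hD : Cfsg.Geo.IsMDecomposition 1 D)
    (hq : Fintype.card F = 4) (i0 i1 i2 i3 : Fin t)
    (h01 : i0 ≠ i1) (h02 : i0 ≠ i2) (h03 : i0 ≠ i3) (h12 : i1 ≠ i2) (h13 : i1 ≠ i3)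
    (h23 : i2 ≠ i3) :
    ∃ g ∈ Cfsg.Geo.specialLinear (Fin n) F, g ∈ KK D ∧
      g ∉ Cfsg.Geo.decompositionStabilizer D := by
  classical
  obtain ⟨d, r, hd, hd0, hr, hrd⟩ := frame1 D hD
  have h2 : (2 : F) = 0 := by
    have h4 := char_of_card (F := F)
    rw [hq] at h4
    have h4' : (2 : F) * 2 = 0 := by
      have : ((4 : ℕ) : F) = 2 * 2 := by norm_num
      rw [← this]
      exact h4
    exact mul_self_eq_zero.mp h4'
  have hrv : (∑ j ∈ ({i0, i1, i2, i3} : Finset (Fin t)), r j) ⬝ᵥ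
      (∑ j ∈ ({i0, i1, i2, i3} : Finset (Fin t)), d j) = 0 := by
    rw [sum_four i0 i1 i2 i3 h01 h02 h03 h12 h13 h23, sum_four i0 i1 i2 i3 h01 h02 h03 h12 h13 h23]
    simp only [add_dotProduct, dotProduct_add, rd D d r hd hr hrd]
    simp only [if_neg h01, if_neg h02, if_neg h03, if_neg h12, if_neg h13, if_neg h23,
      if_neg h01.symm, if_neg h02.symm, if_neg h03.symm, if_neg h12.symm, if_neg h13.symm,
      if_neg h23.symm, ↓reduceIte]
    linear_combination (2 : F) * h2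
  obtain ⟨g, hgS, hg⟩ := transv _ _ hrv
  refine ⟨g, hgS, ?_, ?_⟩
  · apply mem_KK_line D hD d r hd hd0 hr hrd {i0, i1, i2, i3} {i0, i1, i2, i3} g hg
    intro κ
    rw [hq, sum_four i0 i1 i2 i3 h01 h02 h03 h12 h13 h23,
      sum_four i0 i1 i2 i3 h01 h02 h03 h12 h13 h23]
    simp only [Nat.add_one_sub_one]
    linear_combination (5 * (κ i0 + (κ i1 + (κ i2 + κ i3))) *
      (κ i0 ^ 2 + κ i1 ^ 2 + κ i2 ^ 2 + κ i3 ^ 2) + 7 * (κ i0 + (κ i1 + (κ i2 + κ i3))) *
      (κ i0 * κ i1 + κ i0 * κ i2 + κ i0 * κ i3 + κ i1 * κ i2 + κ i1 * κ i3 + κ i2 * κ i3)) * h2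
  · intro hmem
    have h1 := stab_NN D hD.indep hD.iSup_eq_top g hmem (d i0)
    have hρ : (∑ j ∈ ({i0, i1, i2, i3} : Finset (Fin t)), r j) ⬝ᵥ d i0 = 1 := by
      rw [sum_four i0 i1 i2 i3 h01 h02 h03 h12 h13 h23]
      simp only [add_dotProduct, rd D d r hd hr hrd]
      simp only [if_neg h01.symm, if_neg h02.symm, if_neg h03.symm, add_zero, ↓reduceIte]
    rw [NN_one D hD.indep i0 (d i0) (hd i0) (hd0 i0), hg, hρ, one_smul] at h1
    have e : d i0 + ∑ j ∈ ({i0, i1, i2, i3} : Finset (Fin t)), d j =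
        ∑ j ∈ ({i1, i2, i3} : Finset (Fin t)), d j := by
      rw [sum_four i0 i1 i2 i3 h01 h02 h03 h12 h13 h23, sum_three i1 i2 i3 h12 h13 h23,
        ← add_assoc]
      have : d i0 + d i0 = 0 := by
        rw [← two_smul F (d i0), h2, zero_smul]
      rw [this, zero_add]
    rw [e, NN_subset D hD.indep _ d hd (fun j _ => hd0 j), card_three i1 i2 i3 h12 h13 h23] at h1
    omega

theorem gtransv {n : ℕ} {F : Type*} [Field F] (v r : Fin n → F) (h : 1 + r ⬝ᵥ v ≠ 0) :
    ∃ g : Matrix.GeneralLinearGroup (Fin n) F,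
      (g : Matrix (Fin n) (Fin n) F).det = 1 + r ⬝ᵥ v ∧
      ∀ x, (g : Matrix (Fin n) (Fin n) F) *ᵥ x = x + (r ⬝ᵥ x) • v := by
  have hdet : (1 + Matrix.vecMulVec v r).det = 1 + r ⬝ᵥ v := by
    rw [Matrix.vecMulVec_eq Unit, Matrix.det_one_add_replicateCol_mul_replicateRow]
  refine ⟨Matrix.GeneralLinearGroup.mkOfDetNeZero (1 + Matrix.vecMulVec v r) (by rw [hdet]; exact h), ?_, ?_⟩
  · simp [Matrix.GeneralLinearGroup.mkOfDetNeZero, hdet]
  · intro x
    simp [Matrix.GeneralLinearGroup.mkOfDetNeZero, Matrix.add_mulVec, Matrix.vecMulVec_mulVec]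

theorem mem_SL_iff {n : ℕ} {F : Type*} [Field F] (g : Matrix.GeneralLinearGroup (Fin n) F) :
    g ∈ Cfsg.Geo.specialLinear (Fin n) F ↔ (g : Matrix (Fin n) (Fin n) F).det = 1 := by
  unfold Cfsg.Geo.specialLinear
  rw [MonoidHom.mem_ker]
  constructor
  · intro h
    have := congrArg Units.val h
    simpa using this
  · intro h
    ext
    simpa using h

theorem caseB {n : ℕ} {F : Type*} [Field F] [Fintype F] {t : ℕ}
    (D : Fin t → Submodule F (Fin n → F)) (hD : Cfsg.Geo.IsMDecomposition 1 D)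
    (hq : Fintype.card F = 3) (i0 i1 i2 i3 : Fin t)
    (h01 : i0 ≠ i1) (h02 : i0 ≠ i2) (h03 : i0 ≠ i3) (h12 : i1 ≠ i2) (h13 : i1 ≠ i3)
    (h23 : i2 ≠ i3) :
    ∃ g ∈ Cfsg.Geo.specialLinear (Fin n) F, g ∈ KK D ∧
      g ∉ Cfsg.Geo.decompositionStabilizer D := by
  classical
  obtain ⟨d, r, hd, hd0, hr, hrd⟩ := frame1 D hD
  have h3 : (3 : F) = 0 := by
    have := char_of_card (F := F)
    rw [hq] at this
    exact_mod_cast this
  have h20 : (2 : F) ≠ 0 := by
    intro h2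
    have : (1 : F) = 0 := by linear_combination h3 - h2
    exact one_ne_zero this
  have hrva : (∑ j ∈ ({i0, i1, i2, i3} : Finset (Fin t)), r j) ⬝ᵥ
      (∑ j ∈ ({i0, i1, i2, i3} : Finset (Fin t)), d j) = 1 := by
    rw [sum_four i0 i1 i2 i3 h01 h02 h03 h12 h13 h23, sum_four i0 i1 i2 i3 h01 h02 h03 h12 h13 h23]
    simp only [add_dotProduct, dotProduct_add, rd D d r hd hr hrd]
    simp only [if_neg h01, if_neg h02, if_neg h03, if_neg h12, if_neg h13, if_neg h23,
      if_neg h01.symm, if_neg h02.symm, if_neg h03.symm, if_neg h12.symm, if_neg h13.symm,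
      if_neg h23.symm, ↓reduceIte]
    linear_combination h3
  have hrvb : (∑ j ∈ ({i0} : Finset (Fin t)), r j) ⬝ᵥ
      (∑ j ∈ ({i0} : Finset (Fin t)), d j) = 1 := by
    rw [Finset.sum_singleton, Finset.sum_singleton, hrd]
  obtain ⟨ga, hdeta, hga⟩ := gtransv (∑ j ∈ ({i0, i1, i2, i3} : Finset (Fin t)), d j)
    (∑ j ∈ ({i0, i1, i2, i3} : Finset (Fin t)), r j) (by
      rw [hrva]
      intro h
      apply h20
      linear_combination h)
  obtain ⟨gb, hdetb, hgb⟩ := gtransv (∑ j ∈ ({i0} : Finset (Fin t)), d j)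
    (∑ j ∈ ({i0} : Finset (Fin t)), r j) (by
      rw [hrvb]
      intro h
      apply h20
      linear_combination h)
  have hKa : ga ∈ KK D := by
    apply mem_KK_line D hD d r hd hd0 hr hrd {i0, i1, i2, i3} {i0, i1, i2, i3} ga hga
    intro κ
    rw [hq, sum_four i0 i1 i2 i3 h01 h02 h03 h12 h13 h23,
      sum_four i0 i1 i2 i3 h01 h02 h03 h12 h13 h23]
    simp only [Nat.add_one_sub_one]
    linear_combination (2 * (κ i0 + (κ i1 + (κ i2 + κ i3))) ^ 2) * h3
  have hKb : gb ∈ KK D := by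
    apply mem_KK_line D hD d r hd hd0 hr hrd {i0} {i0} gb hgb
    intro κ
    rw [hq, Finset.sum_singleton, Finset.sum_singleton]
    simp only [Nat.add_one_sub_one]
    linear_combination (κ i0 ^ 2) * h3
  refine ⟨ga * gb, ?_, (KK D).mul_mem hKa hKb, ?_⟩
  · rw [mem_SL_iff, Units.val_mul, Matrix.det_mul, hdeta, hdetb, hrva, hrvb]
    linear_combination h3
  · intro hmem
    have h1 := stab_NN D hD.indep hD.iSup_eq_top (ga * gb) hmem (d i1)
    have hρa : (∑ j ∈ ({i0, i1, i2, i3} : Finset (Fin t)), r j) ⬝ᵥ d i1 = 1 := by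
      rw [sum_four i0 i1 i2 i3 h01 h02 h03 h12 h13 h23]
      simp only [add_dotProduct, rd D d r hd hr hrd]
      simp only [if_neg h01, if_neg h12.symm, if_neg h13.symm, add_zero, zero_add, ↓reduceIte]
    have hρb : (∑ j ∈ ({i0} : Finset (Fin t)), r j) ⬝ᵥ d i1 = 0 := by
      rw [Finset.sum_singleton, rd D d r hd hr hrd, if_neg h01]
    rw [NN_one D hD.indep i1 (d i1) (hd i1) (hd0 i1), Units.val_mul, ← Matrix.mulVec_mulVec, hgb,
      hρb, zero_smul, add_zero, hga, hρa, one_smul] at h1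
    have e : d i1 + ∑ j ∈ ({i0, i1, i2, i3} : Finset (Fin t)), d j =
        ∑ j ∈ ({i0, i1, i2, i3} : Finset (Fin t)),
          (fun j => if j = i1 then (2 : F) • d j else d j) j := by
      rw [sum_four i0 i1 i2 i3 h01 h02 h03 h12 h13 h23,
        sum_four i0 i1 i2 i3 h01 h02 h03 h12 h13 h23]
      simp only [if_neg h01, if_neg h12.symm, if_neg h13.symm, ↓reduceIte]
      rw [two_smul]
      abel
    rw [e, NN_subset D hD.indep, card_four i0 i1 i2 i3 h01 h02 h03 h12 h13 h23] at h1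
    · omega
    · intro j
      by_cases hj : j = i1
      · simp only [if_pos hj]; exact (D j).smul_mem _ (hd j)
      · simp only [if_neg hj]; exact hd j
    · intro j _
      by_cases hj : j = i1
      · simp only [if_pos hj]; exact smul_ne_zero h20 (hd0 j)
      · simp only [if_neg hj]; exact hd0 j

theorem f2_cases {F : Type*} [Field F] [Fintype F] (hq : Fintype.card F = 2) (a : F) :
    a = 0 ∨ a = 1 := by
  by_contra h
  push_neg at h
  have h3 : (3 : ℕ) ≤ Fintype.card F := by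
    have hinj : Function.Injective (fun i : Fin 3 => if i = 0 then (0 : F) else if i = 1 then 1 else a) := by
      intro i j hij
      fin_cases i <;> fin_cases j <;> simp_all [eq_comm]
    have := Fintype.card_le_of_injective _ hinj
    simpa using this
  omega

theorem frame2 {n : ℕ} {F : Type*} [Field F] {t : ℕ}
    (D : Fin t → Submodule F (Fin n → F)) (hD : Cfsg.Geo.IsMDecomposition 2 D) :
    ∃ (a b r : Fin t → (Fin n → F)), (∀ j, a j ∈ D j) ∧ (∀ j, b j ∈ D j) ∧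
      (∀ j k, k ≠ j → ∀ y ∈ D k, r j ⬝ᵥ y = 0) ∧ (∀ j, r j ⬝ᵥ a j = 0) ∧ (∀ j, r j ⬝ᵥ b j = 1) ∧
      (∀ j, ∀ y ∈ D j, ∃ α : F, y = α • a j + (r j ⬝ᵥ y) • b j) := by
  have h1 : ∀ j, ∃ a ∈ D j, a ≠ 0 := fun j =>
    exists_ne_zero_of_finrank (D j) (hD.finrank_eq j) hD.pos
  choose a ha ha0 using h1
  have h2 : ∀ j, ∃ b ∈ D j, b ∉ Submodule.span F {a j} := by
    intro j
    by_contra hcon
    push_neg at hcon
    have hle : D j ≤ Submodule.span F {a j} := fun y hy => hcon y hy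
    have h1 := Submodule.finrank_mono hle
    rw [hD.finrank_eq j, finrank_span_singleton (ha0 j)] at h1
    omega
  choose b hb hba using h2
  have h3 : ∀ j, ∃ r : Fin n → F,
      (∀ y ∈ (⨆ (k) (_ : k ≠ j), D k) ⊔ Submodule.span F {a j}, r ⬝ᵥ y = 0) ∧ r ⬝ᵥ b j = 1 := by
    intro j
    apply dualrow
    intro hmem
    rw [Submodule.mem_sup] at hmem
    obtain ⟨u, hu, w, hw, huw⟩ := hmem
    have hwD : w ∈ D j := by
      rw [Submodule.mem_span_singleton] at hw
      obtain ⟨κ, rfl⟩ := hw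
      exact (D j).smul_mem _ (ha j)
    have hu' : u ∈ D j := by
      have : u = b j - w := by rw [← huw]; abel
      rw [this]
      exact (D j).sub_mem (hb j) hwD
    have hu0 : u = 0 := (Submodule.disjoint_def.mp (hD.indep j)) u hu' hu
    rw [hu0, zero_add] at huw
    rw [huw] at hw
    exact hba j hw
  choose r hr hrb using h3
  have hra : ∀ j, r j ⬝ᵥ a j = 0 := fun j =>
    hr j _ (Submodule.mem_sup_right (Submodule.mem_span_singleton_self _))
  have hrk : ∀ j k, k ≠ j → ∀ y ∈ D k, r j ⬝ᵥ y = 0 := fun j k hk y hy =>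
    hr j y (Submodule.mem_sup_left (Submodule.mem_iSup_of_mem k (Submodule.mem_iSup_of_mem hk hy)))
  refine ⟨a, b, r, ha, hb, hrk, hra, hrb, ?_⟩
  intro j y hy
  have hli : LinearIndependent F ![(⟨a j, ha j⟩ : D j), ⟨b j, hb j⟩] := by
    rw [LinearIndependent.pair_iff]
    intro s u hsu
    have hsu' : s • a j + u • b j = 0 := by
      have := congrArg Subtype.val hsu
      simpa using this
    have hu : u = 0 := by
      have := congrArg (fun z => r j ⬝ᵥ z) hsu'
      simp only [dotProduct_add, dotProduct_smul, hra, hrb, dotProduct_zero, smul_eq_mul,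
        mul_zero, mul_one, zero_add] at this
      exact this
    rw [hu, zero_smul, add_zero] at hsu'
    exact ⟨(smul_eq_zero.mp hsu').resolve_right (ha0 j), hu⟩
  have hcard : Fintype.card (Fin 2) = Module.finrank F (D j) := by
    rw [hD.finrank_eq j]
    rfl
  have hspan := hli.span_eq_top_of_card_eq_finrank' hcard
  have hys : (⟨y, hy⟩ : D j) ∈ Submodule.span F (Set.range ![(⟨a j, ha j⟩ : D j), ⟨b j, hb j⟩]) := by
    rw [hspan]
    exact Submodule.mem_top
  rw [Submodule.mem_span_range_iff_exists_fun] at hys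
  obtain ⟨cf, hcf⟩ := hys
  have hy' : y = cf 0 • a j + cf 1 • b j := by
    have := congrArg Subtype.val hcf
    simp [Fin.sum_univ_two] at this
    exact this.symm
  refine ⟨cf 0, ?_⟩
  have : r j ⬝ᵥ y = cf 1 := by
    rw [hy', dotProduct_add, dotProduct_smul, dotProduct_smul, hra, hrb]
    simp
  rw [this]
  exact hy'

open Classical in
theorem localD {n : ℕ} {F : Type*} [Field F] [Fintype F] (hq : Fintype.card F = 2)
    (a b r : Fin n → F) (hra : r ⬝ᵥ a = 0) (hrb : r ⬝ᵥ b = 1)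
    (y : Fin n → F) (hy : ∃ α : F, y = α • a + (r ⬝ᵥ y) • b) (ha0 : a ≠ 0) (s : F) :
    (if y + s • a = 0 then (0 : F) else 1) - (if y = 0 then (0 : F) else 1) =
      s * (1 + r ⬝ᵥ y) := by
  have h2 : (2 : F) = 0 := by
    have := char_of_card (F := F)
    rw [hq] at this
    exact_mod_cast this
  have haa : a + a = 0 := by rw [← two_smul F a, h2, zero_smul]
  have hne : ∀ z : Fin n → F, r ⬝ᵥ z = 1 → z ≠ 0 := by
    intro z hz h0
    rw [h0, dotProduct_zero] at hz
    exact zero_ne_one hz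
  rcases f2_cases hq s with hs | hs
  · rw [hs, zero_smul, add_zero, sub_self, zero_mul]
  · obtain ⟨α, hα⟩ := hy
    rw [hs, one_smul, one_mul]
    rcases f2_cases hq α with h0 | h0 <;> rcases f2_cases hq (r ⬝ᵥ y) with h1 | h1
    · have hy0 : y = 0 := by rw [hα, h0, h1, zero_smul, zero_smul, add_zero]
      rw [h1, hy0, zero_add, if_neg ha0, if_pos rfl]
      ring
    · have hyb : y = b := by rw [hα, h0, h1, zero_smul, one_smul, zero_add]
      have hb0 : b ≠ 0 := hne b hrb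
      have hab0 : b + a ≠ 0 := hne _ (by rw [dotProduct_add, hra, hrb, add_zero])
      rw [h1, hyb, if_neg hab0, if_neg hb0]
      linear_combination -h2
    · have hya : y = a := by rw [hα, h0, h1, one_smul, zero_smul, add_zero]
      rw [h1, hya, haa, if_pos rfl, if_neg ha0]
      linear_combination -h2
    · have hyab : y = a + b := by rw [hα, h0, h1, one_smul, one_smul]
      have hb0 : b ≠ 0 := hne b hrb
      have hab0 : a + b ≠ 0 := hne _ (by rw [dotProduct_add, hra, hrb, zero_add])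
      have e : a + b + a = b := by
        have : a + b + a = (a + a) + b := by abel
        rw [this, haa, zero_add]
      rw [h1, hyab, e, if_neg hb0, if_neg hab0]
      linear_combination -h2

theorem caseD {n : ℕ} {F : Type*} [Field F] [Fintype F] {t : ℕ}
    (D : Fin t → Submodule F (Fin n → F)) (hD : Cfsg.Geo.IsMDecomposition 2 D)
    (hq : Fintype.card F = 2) (i0 i1 i2 : Fin t)
    (h01 : i0 ≠ i1) (h02 : i0 ≠ i2) (h12 : i1 ≠ i2) :
    ∃ g ∈ Cfsg.Geo.specialLinear (Fin n) F, g ∈ KK D ∧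
      g ∉ Cfsg.Geo.decompositionStabilizer D := by
  classical
  obtain ⟨a, b, r, ha, hb, hr, hra, hrb, hsp⟩ := frame2 D hD
  have h2 : (2 : F) = 0 := by
    have := char_of_card (F := F)
    rw [hq] at this
    exact_mod_cast this
  have ha0 : ∀ j, a j ≠ 0 := by
    intro j h0
    obtain ⟨α, hα⟩ := hsp j (b j) (hb j)
    rw [h0, smul_zero, zero_add, hrb, one_smul] at hα
    have := hrb j
    have h3 : r j ⬝ᵥ (0 : Fin n → F) = 0 := dotProduct_zero _
    have hbne : b j ≠ 0 := by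
      intro hb0
      rw [hb0, dotProduct_zero] at this
      exact zero_ne_one this
    have hnot : a j ≠ 0 := by
      intro _
      have hD2 := hD.finrank_eq j
      have hle : D j ≤ Submodule.span F {b j} := by
        intro y hy
        obtain ⟨β, hβ⟩ := hsp j y hy
        rw [h0, smul_zero, zero_add] at hβ
        rw [hβ]
        exact Submodule.smul_mem _ _ (Submodule.mem_span_singleton_self _)
      have h1 := Submodule.finrank_mono hle
      rw [hD2, finrank_span_singleton hbne] at h1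
      omega
    exact hnot h0
  have rak : ∀ j k, r j ⬝ᵥ a k = 0 := by
    intro j k
    by_cases h : k = j
    · rw [h]; exact hra j
    · exact hr j k h (a k) (ha k)
  have hrv : (∑ j ∈ ({i0, i1, i2} : Finset (Fin t)), r j) ⬝ᵥ
      (∑ j ∈ ({i0, i1, i2} : Finset (Fin t)), a j) = 0 := by
    rw [sum_three i0 i1 i2 h01 h02 h12, sum_three i0 i1 i2 h01 h02 h12]
    simp only [add_dotProduct, dotProduct_add, rak, add_zero]
  obtain ⟨g, hgS, hg⟩ := transv _ _ hrv
  refine ⟨g, hgS, ?_, ?_⟩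
  · rw [mem_KK]
    intro x
    obtain ⟨c, hc, rfl⟩ := comp_exists D hD.iSup_eq_top x
    have h1 : (∑ j ∈ ({i0, i1, i2} : Finset (Fin t)), r j) ⬝ᵥ (∑ j, c j) =
        ∑ k ∈ ({i0, i1, i2} : Finset (Fin t)), r k ⬝ᵥ c k := by
      rw [sum_dotProduct]
      apply Finset.sum_congr rfl
      intro k _
      exact dot_sum_comp D k (r k) (hr k) c hc
    rw [hg, h1, NN_shift D hD.indep _ a ha c hc]
    have h3 : ∀ j ∈ ({i0, i1, i2} : Finset (Fin t)),
        ((if c j + (∑ k ∈ ({i0, i1, i2} : Finset (Fin t)), r k ⬝ᵥ c k) • a j = 0 then (0 : F) else 1) -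
          (if c j = 0 then (0 : F) else 1)) =
        (∑ k ∈ ({i0, i1, i2} : Finset (Fin t)), r k ⬝ᵥ c k) * (1 + r j ⬝ᵥ c j) := by
      intro j _
      exact localD hq (a j) (b j) (r j) (hra j) (hrb j) (c j) (hsp j (c j) (hc j)) (ha0 j) _
    rw [Finset.sum_congr rfl h3, ← Finset.mul_sum, Finset.sum_add_distrib, Finset.sum_const,
      card_three i0 i1 i2 h01 h02 h12]
    set s := ∑ k ∈ ({i0, i1, i2} : Finset (Fin t)), r k ⬝ᵥ c k with hs
    have hss : s * (3 • (1 : F) + s) = 0 := by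
      rcases f2_cases hq s with h | h
      · rw [h, zero_mul]
      · rw [h]
        simp only [nsmul_eq_mul, Nat.cast_ofNat, mul_one, one_mul]
        linear_combination (2 : F) * h2
    rw [hss, add_zero]
  · intro hmem
    have h1 := stab_NN D hD.indep hD.iSup_eq_top g hmem (b i0)
    have hb0 : b i0 ≠ 0 := by
      intro h0
      have := hrb i0
      rw [h0, dotProduct_zero] at this
      exact zero_ne_one this
    have hρ : (∑ j ∈ ({i0, i1, i2} : Finset (Fin t)), r j) ⬝ᵥ b i0 = 1 := by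
      rw [sum_three i0 i1 i2 h01 h02 h12]
      simp only [add_dotProduct]
      rw [hrb, hr i1 i0 h01 (b i0) (hb i0), hr i2 i0 h02 (b i0) (hb i0), add_zero, add_zero]
    rw [NN_one D hD.indep i0 (b i0) (hb i0) hb0, hg, hρ, one_smul] at h1
    have e : b i0 + ∑ j ∈ ({i0, i1, i2} : Finset (Fin t)), a j =
        ∑ j ∈ ({i0, i1, i2} : Finset (Fin t)),
          (fun j => if j = i0 then b j + a j else a j) j := by
      rw [sum_three i0 i1 i2 h01 h02 h12, sum_three i0 i1 i2 h01 h02 h12]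
      simp only [if_neg h01.symm, if_neg h02.symm, ↓reduceIte]
      abel
    rw [e, NN_subset D hD.indep, card_three i0 i1 i2 h01 h02 h12] at h1
    · omega
    · intro j
      by_cases hj : j = i0
      · simp only [if_pos hj]; exact (D j).add_mem (hb j) (ha j)
      · simp only [if_neg hj]; exact ha j
    · intro j _
      by_cases hj : j = i0
      · simp only [if_pos hj]
        intro h0
        have h5 : r j ⬝ᵥ (b j + a j) = 1 := by rw [dotProduct_add, hra, hrb, add_zero]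
        rw [h0, dotProduct_zero] at h5
        exact zero_ne_one h5
      · simp only [if_neg hj]; exact ha0 j

theorem dim_count {n : ℕ} {F : Type*} [Field F] {t : ℕ} {m : ℕ}
    (D : Fin t → Submodule F (Fin n → F)) (hD : Cfsg.Geo.IsMDecomposition m D) : n = t * m := by
  classical
  have hint : DirectSum.IsInternal D :=
    (DirectSum.isInternal_submodule_iff_iSupIndep_and_iSup_eq_top D).mpr
      ⟨hD.indep, hD.iSup_eq_top⟩
  have e := LinearEquiv.ofBijective (DirectSum.coeLinearMap D) hint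
  have h1 := e.finrank_eq
  rw [Module.finrank_directSum, Module.finrank_fintype_fun_eq_card] at h1
  simp only [hD.finrank_eq, Finset.sum_const, Finset.card_univ, Fintype.card_fin,
    smul_eq_mul] at h1
  exact h1.symm

theorem fin_ne {t : ℕ} (a b : ℕ) (ha : a < t) (hb : b < t) (hab : a ≠ b) :
    (⟨a, ha⟩ : Fin t) ≠ ⟨b, hb⟩ := by
  intro h
  exact hab (congrArg Fin.val h)

theorem result {F : Type*} [Field F] [Fintype F] (n : ℕ) (hn : 13 ≤ n) {t : ℕ} (m : ℕ) (D : Fin t → Submodule F (Fin n → F)) (hD : Cfsg.Geo.IsMDecomposition m D) (h : (m = 1 ∧ Fintype.card F ≤ 4) ∨ (m = 2 ∧ Fintype.card F = 2)) : ∃ K : Subgroup (Matrix.GeneralLinearGroup (Fin n) F), Cfsg.Geo.decompositionStabilizer D ⊓ Cfsg.Geo.specialLinear (Fin n) F < K ∧ K < Cfsg.Geo.specialLinear (Fin n) F := by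
  have hnt := dim_count D hD
  have key : ∃ g ∈ Cfsg.Geo.specialLinear (Fin n) F, g ∈ KK D ∧
      g ∉ Cfsg.Geo.decompositionStabilizer D := by
    rcases h with ⟨hm, hq⟩ | ⟨hm, hq⟩
    · subst hm
      have ht : 13 ≤ t := by omega
      have hq1 : 1 < Fintype.card F := Fintype.one_lt_card
      have hcases : Fintype.card F = 2 ∨ Fintype.card F = 3 ∨ Fintype.card F = 4 := by omega
      rcases hcases with h2 | h3 | h4
      · exact caseA D hD h2 ⟨0, by omega⟩ ⟨1, by omega⟩ ⟨2, by omega⟩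
          (fin_ne _ _ _ _ (by omega)) (fin_ne _ _ _ _ (by omega)) (fin_ne _ _ _ _ (by omega))
      · exact caseB D hD h3 ⟨0, by omega⟩ ⟨1, by omega⟩ ⟨2, by omega⟩ ⟨3, by omega⟩
          (fin_ne _ _ _ _ (by omega)) (fin_ne _ _ _ _ (by omega)) (fin_ne _ _ _ _ (by omega))
          (fin_ne _ _ _ _ (by omega)) (fin_ne _ _ _ _ (by omega)) (fin_ne _ _ _ _ (by omega))
      · exact caseC D hD h4 ⟨0, by omega⟩ ⟨1, by omega⟩ ⟨2, by omega⟩ ⟨3, by omega⟩
          (fin_ne _ _ _ _ (by omega)) (fin_ne _ _ _ _ (by omega)) (fin_ne _ _ _ _ (by omega))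
          (fin_ne _ _ _ _ (by omega)) (fin_ne _ _ _ _ (by omega)) (fin_ne _ _ _ _ (by omega))
    · subst hm
      have ht : 7 ≤ t := by omega
      exact caseD D hD hq ⟨0, by omega⟩ ⟨1, by omega⟩ ⟨2, by omega⟩
        (fin_ne _ _ _ _ (by omega)) (fin_ne _ _ _ _ (by omega)) (fin_ne _ _ _ _ (by omega))
  obtain ⟨g, hgS, hgK, hgD⟩ := key
  obtain ⟨g', hg'S, hg'K⟩ := SL_not_KK D hD
  refine ⟨KK D ⊓ Cfsg.Geo.specialLinear (Fin n) F, ?_, ?_⟩
  · rw [SetLike.lt_iff_le_and_exists]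
    refine ⟨fun x hx => ⟨?_, hx.2⟩, g, ⟨hgK, hgS⟩, fun hmem => hgD hmem.1⟩
    have : x ∈ KK D := by
      rw [mem_KK]
      intro y
      rw [stab_NN D hD.indep hD.iSup_eq_top x hx.1 y]
    exact this
  · rw [SetLike.lt_iff_le_and_exists]
    exact ⟨fun x hx => hx.2, g', hg'S, fun hmem => hg'K hmem.1⟩

end Cfsg.Agent.S5635
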