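import Cfsg.Statements.S5638
import Cfsg.Agent.Lib.Helper28.Transport
import Cfsg.Agent.S5635

set_option autoImplicit false

open Cfsg

namespace Cfsg.Agent.S5638

open Matrix Cfsg.Agent.Lib.Helper28.Transport

open scoped Kronecker

def om (F : Type*) [Field F] : Matrix (Fin 2) (Fin 2) F := !![0, 1; 1, 1]

def uu (F : Type*) [Field F] : Matrix (Fin 2) (Fin 2) F := !![1, 1; 0, 1]

theorem one_add_one {F : Type*} [Field F] [Fintype F] (hq : Fintype.card F = 2) :
    (1 : F) + 1 = 0 := by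
  have := Cfsg.Agent.S5635.char_of_card (F := F)
  rw [hq] at this
  have h : ((2 : ℕ) : F) = 1 + 1 := by norm_num
  rw [← h]
  exact this

theorem two_by_two {F : Type*} [Field F] [Fintype F] (hq : Fintype.card F = 2)
    (A : Matrix (Fin 2) (Fin 2) F) (hA : A.det ≠ 0) :
    A * om F = om F * A ∨ A * om F = om F * om F * A := by
  have h2 := one_add_one hq
  rw [Matrix.eta_fin_two A] at hA ⊢
  rw [Matrix.det_fin_two_of] at hA
  unfold om
  simp only [Matrix.mul_fin_two]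
  rcases Cfsg.Agent.S5635.f2_cases hq (A 0 0) with h00 | h00 <;>
  rcases Cfsg.Agent.S5635.f2_cases hq (A 0 1) with h01 | h01 <;>
  rcases Cfsg.Agent.S5635.f2_cases hq (A 1 0) with h10 | h10 <;>
  rcases Cfsg.Agent.S5635.f2_cases hq (A 1 1) with h11 | h11 <;>
  simp only [h00, h01, h10, h11, mul_zero, mul_one, add_zero, zero_add, h2, sub_self, ne_eq,
    not_true_eq_false] at hA ⊢ <;>
  simp

theorem om_cube {F : Type*} [Field F] (h2 : (1 : F) + 1 = 0) : om F * (om F * om F) = 1 := by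
  unfold om
  simp only [Matrix.mul_fin_two]
  simp [h2, Matrix.one_fin_two]

theorem om_cube' {F : Type*} [Field F] (h2 : (1 : F) + 1 = 0) : om F * om F * om F = 1 := by
  rw [Matrix.mul_assoc]
  exact om_cube h2

def Zm (n₂ : ℕ) (F : Type*) [Field F] : Matrix (Fin 2 × Fin n₂) (Fin 2 × Fin n₂) F :=
  Matrix.blockDiagonal (fun _ : Fin n₂ => om F)

theorem Zm_kron (n₂ : ℕ) (F : Type*) [Field F] :
    Zm n₂ F = om F ⊗ₖ (1 : Matrix (Fin n₂) (Fin n₂) F) := (Matrix.kronecker_one _).symm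

theorem Zm_cube {F : Type*} [Field F] (h2 : (1 : F) + 1 = 0) (n₂ : ℕ) :
    Zm n₂ F * (Zm n₂ F * Zm n₂ F) = 1 := by
  unfold Zm
  rw [← Matrix.blockDiagonal_mul, ← Matrix.blockDiagonal_mul]
  simp only [om_cube h2]
  exact Matrix.blockDiagonal_one

theorem Zm_cube' {F : Type*} [Field F] (h2 : (1 : F) + 1 = 0) (n₂ : ℕ) :
    Zm n₂ F * Zm n₂ F * Zm n₂ F = 1 := by
  rw [Matrix.mul_assoc]
  exact Zm_cube h2 n₂

def Zu {F : Type*} [Field F] (h2 : (1 : F) + 1 = 0) (n₂ : ℕ) :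
    Matrix.GeneralLinearGroup (Fin 2 × Fin n₂) F :=
  ⟨Zm n₂ F, Zm n₂ F * Zm n₂ F, Zm_cube h2 n₂, Zm_cube' h2 n₂⟩

def NF {F : Type*} [Field F] (h2 : (1 : F) + 1 = 0) (n₂ : ℕ) :
    Subgroup (Matrix.GeneralLinearGroup (Fin 2 × Fin n₂) F) where
  carrier := {g | MulAut.conj g (Zu h2 n₂) = Zu h2 n₂ ∨ MulAut.conj g (Zu h2 n₂) = (Zu h2 n₂)⁻¹}
  mul_mem' := by
    intro a b ha hb
    simp only [Set.mem_ofPred_eq, map_mul, MulAut.mul_apply] at ha hb ⊢
    rcases ha with ha | ha <;> rcases hb with hb | hb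
    · left; rw [hb, ha]
    · right; rw [hb, map_inv, ha]
    · right; rw [hb, ha]
    · left; rw [hb, map_inv, ha, inv_inv]
  one_mem' := by
    left
    simp
  inv_mem' := by
    intro a ha
    simp only [Set.mem_ofPred_eq, map_inv] at ha ⊢
    rcases ha with ha | ha
    · left
      rw [MulAut.inv_apply, MulEquiv.symm_apply_eq, ha]
    · right
      rw [MulAut.inv_apply, MulEquiv.symm_apply_eq, map_inv, ha, inv_inv]

theorem mem_NF {F : Type*} [Field F] (h2 : (1 : F) + 1 = 0) (n₂ : ℕ)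
    (g : Matrix.GeneralLinearGroup (Fin 2 × Fin n₂) F) :
    g ∈ NF h2 n₂ ↔ (g : Matrix (Fin 2 × Fin n₂) (Fin 2 × Fin n₂) F) * Zm n₂ F =
        Zm n₂ F * (g : Matrix (Fin 2 × Fin n₂) (Fin 2 × Fin n₂) F) ∨
      (g : Matrix (Fin 2 × Fin n₂) (Fin 2 × Fin n₂) F) * Zm n₂ F =
        Zm n₂ F * Zm n₂ F * (g : Matrix (Fin 2 × Fin n₂) (Fin 2 × Fin n₂) F) := by
  change (MulAut.conj g (Zu h2 n₂) = Zu h2 n₂ ∨ MulAut.conj g (Zu h2 n₂) = (Zu h2 n₂)⁻¹) ↔ _
  rw [MulAut.conj_apply, mul_inv_eq_iff_eq_mul, mul_inv_eq_iff_eq_mul,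
    Units.ext_iff, Units.ext_iff]
  rfl

theorem kron_le {F : Type*} [Field F] [Fintype F] (hq : Fintype.card F = 2) (n₂ : ℕ) :
    Cfsg.Geo.kroneckerSubgroup 2 n₂ F ≤ NF (one_add_one hq) n₂ := by
  rintro g ⟨A, B, hg⟩
  rw [mem_NF, hg, Zm_kron, ← Matrix.mul_kronecker_mul, ← Matrix.mul_kronecker_mul,
    ← Matrix.mul_kronecker_mul, ← Matrix.mul_kronecker_mul, mul_one, one_mul, one_mul, one_mul]
  have hA : (A : Matrix (Fin 2) (Fin 2) F).det ≠ 0 := by
    have := A.isUnit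
    have h1 := (Matrix.isUnit_iff_isUnit_det _).mp this
    exact h1.ne_zero
  rcases two_by_two hq (A : Matrix (Fin 2) (Fin 2) F) hA with h | h
  · left; rw [h]
  · right; rw [h]

theorem bd_exists {F : Type*} [Field F] (n₂ : ℕ) (M : Fin n₂ → Matrix (Fin 2) (Fin 2) F)
    (hM : ∀ k, (M k).det = 1) :
    ∃ g : Matrix.GeneralLinearGroup (Fin 2 × Fin n₂) F,
      g ∈ Cfsg.Geo.specialLinear (Fin 2 × Fin n₂) F ∧
      (g : Matrix (Fin 2 × Fin n₂) (Fin 2 × Fin n₂) F) = Matrix.blockDiagonal M := by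
  have hdet : (Matrix.blockDiagonal M).det = 1 := by
    rw [Matrix.det_blockDiagonal]
    simp [hM]
  refine ⟨Matrix.GeneralLinearGroup.mkOfDetNeZero (Matrix.blockDiagonal M)
    (by rw [hdet]; exact one_ne_zero), ?_, rfl⟩
  rw [mem_SL_iff]
  exact hdet

theorem om_det {F : Type*} [Field F] (h2 : (1 : F) + 1 = 0) : (om F).det = 1 := by
  unfold om
  rw [Matrix.det_fin_two_of]
  linear_combination -h2

theorem uu_det {F : Type*} [Field F] : (uu F).det = 1 := by
  unfold uu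
  rw [Matrix.det_fin_two_of]
  ring

theorem core {F : Type*} [Field F] [Fintype F] (hq : Fintype.card F = 2) (n₂ : ℕ)
    (hn₂ : 2 ≤ n₂) :
    Cfsg.Geo.kroneckerSubgroup 2 n₂ F ⊓ Cfsg.Geo.specialLinear (Fin 2 × Fin n₂) F <
      NF (one_add_one hq) n₂ ⊓ Cfsg.Geo.specialLinear (Fin 2 × Fin n₂) F ∧
    NF (one_add_one hq) n₂ ⊓ Cfsg.Geo.specialLinear (Fin 2 × Fin n₂) F <
      Cfsg.Geo.specialLinear (Fin 2 × Fin n₂) F := by
  classical
  have h2 := one_add_one hq
  obtain ⟨j0, hj0⟩ : ∃ j : Fin n₂, j = ⟨0, by omega⟩ := ⟨_, rfl⟩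
  obtain ⟨j1, hj1⟩ : ∃ j : Fin n₂, j = ⟨1, by omega⟩ := ⟨_, rfl⟩
  have h01 : j1 ≠ j0 := by
    rw [hj0, hj1]
    intro h
    have := congrArg Fin.val h
    simp at this
  constructor
  · rw [SetLike.lt_iff_le_and_exists]
    refine ⟨fun g hg => ⟨kron_le hq n₂ hg.1, hg.2⟩, ?_⟩
    obtain ⟨g, hgS, hg⟩ := bd_exists n₂ (fun j => if j = j0 then om F else 1) (by
      intro k
      by_cases hk : k = j0
      · simp only [if_pos hk]; exact om_det h2
      · simp only [if_neg hk]; exact Matrix.det_one)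
    refine ⟨g, ⟨?_, hgS⟩, ?_⟩
    · refine (mem_NF h2 n₂ g).mpr ?_
      left
      rw [hg]
      unfold Zm
      rw [← Matrix.blockDiagonal_mul, ← Matrix.blockDiagonal_mul]
      congr 1
      funext k
      by_cases hk : k = j0
      · simp only [if_pos hk]
      · simp only [if_neg hk, one_mul, mul_one]
    · rintro ⟨⟨A, B, hAB⟩, _⟩
      rw [hg] at hAB
      have e1 := congrFun (congrFun hAB (0, j1)) (0, j1)
      have e2 := congrFun (congrFun hAB (0, j1)) (1, j1)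
      have e3 := congrFun (congrFun hAB (0, j0)) (1, j0)
      rw [Matrix.blockDiagonal_apply_eq, Matrix.kronecker_apply] at e1 e2 e3
      simp only [if_neg h01, if_true, Matrix.one_apply_eq] at e1 e2 e3
      have hB : (B : Matrix (Fin n₂) (Fin n₂) F) j1 j1 ≠ 0 := by
        intro h
        rw [h, mul_zero] at e1
        exact one_ne_zero e1
      have hA01 : (A : Matrix (Fin 2) (Fin 2) F) 0 1 = 0 := by
        have : (1 : Matrix (Fin 2) (Fin 2) F) 0 1 = 0 := by simp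
        rw [this] at e2
        exact (mul_eq_zero.mp e2.symm).resolve_right hB
      rw [hA01, zero_mul] at e3
      unfold om at e3
      simp at e3
  · rw [SetLike.lt_iff_le_and_exists]
    refine ⟨fun g hg => hg.2, ?_⟩
    obtain ⟨g, hgS, hg⟩ := bd_exists n₂ (fun j => if j = j0 then uu F else 1) (by
      intro k
      by_cases hk : k = j0
      · simp only [if_pos hk]; exact uu_det
      · simp only [if_neg hk]; exact Matrix.det_one)
    refine ⟨g, hgS, ?_⟩
    rintro ⟨hN, _⟩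
    have hN := (mem_NF h2 n₂ g).mp hN
    rw [hg] at hN
    unfold Zm at hN
    simp only [← Matrix.blockDiagonal_mul, Matrix.blockDiagonal_inj] at hN
    rcases hN with h | h
    · have := congrFun h j0
      simp only [if_true] at this
      have e := congrFun (congrFun this 0) 0
      unfold uu om at e
      simp [Matrix.mul_apply, Fin.sum_univ_two] at e
    · have := congrFun h j1
      simp only [if_neg h01, one_mul, mul_one] at this
      have e := congrFun (congrFun this 0) 0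
      unfold om at e
      simp [Matrix.mul_apply, Fin.sum_univ_two] at e

theorem result {F : Type*} [Field F] [Fintype F] (n : ℕ) (hn : 13 ≤ n) (hq : Fintype.card F = 2) (n₂ : ℕ) (e : Fin n ≃ Fin 2 × Fin n₂) (P : Matrix.GeneralLinearGroup (Fin n) F) : ∃ K : Subgroup (Matrix.GeneralLinearGroup (Fin n) F), Cfsg.Geo.tensorProductSubgroup 2 n₂ e P ⊓ Cfsg.Geo.specialLinear (Fin n) F < K ∧ K < Cfsg.Geo.specialLinear (Fin n) F := by
  have hcard : n = 2 * n₂ := by
    have := Fintype.card_congr e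
    simpa using this
  have hn₂ : 2 ≤ n₂ := by omega
  obtain ⟨c1, c2⟩ := core hq n₂ hn₂
  have := chain_transport (tmap e.symm P) (tmap_injective e.symm P)
    (Cfsg.Geo.kroneckerSubgroup 2 n₂ F)
    (NF (one_add_one hq) n₂ ⊓ Cfsg.Geo.specialLinear (Fin 2 × Fin n₂) F)
    (Cfsg.Geo.specialLinear (Fin 2 × Fin n₂) F) (Cfsg.Geo.specialLinear (Fin n) F)
    (tmap_SL e.symm P) c1 c2
  rw [← tensor_eq_map] at this
  exact ⟨_, this.1, this.2⟩

end Cfsg.Agent.S5638
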