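import Cfsg.Statements.S5648
import Cfsg.Agent.S5646

set_option autoImplicit false

open Cfsg

namespace Cfsg.Agent.S5648

open Matrix Cfsg.Agent.Lib.helper6 Cfsg.Agent.S5646

theorem f2_cases {F : Type*} [Field F] [Fintype F] (hq : Fintype.card F = 2) (a : F) :
    a = 0 ∨ a = 1 := by
  by_contra h
  push_neg at h
  have h3 : (3 : ℕ) ≤ Fintype.card F := by
    have hinj : Function.Injective (fun i : Fin 3 => if i = 0 then (0 : F) else if i = 1 then 1 else a) := by
      intro i j hij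
      fin_cases i <;> fin_cases j <;> simp_all [eq_comm]
    have := Fintype.card_le_of_injective _ hinj
    simpa using this
  omega

theorem f2_two {F : Type*} [Field F] [Fintype F] (hq : Fintype.card F = 2) : (1 : F) + 1 = 0 := by
  rcases f2_cases hq ((1 : F) + 1) with h | h
  · exact h
  · exfalso
    have : (1 : F) = 0 := by
      have h' : (1 : F) + 1 = 1 + 0 := by rw [h, add_zero]
      exact add_left_cancel h'
    exact one_ne_zero this

theorem sf_sum_left {m : ℕ} {F : Type*} [Field F] {ι : Type*} (s : Finset ι)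
    (g : ι → (Fin m ⊕ Fin m → F)) (v : Fin m ⊕ Fin m → F) :
    Cfsg.sympForm m F (∑ i ∈ s, g i) v = ∑ i ∈ s, Cfsg.sympForm m F (g i) v := by
  classical
  induction s using Finset.induction_on with
  | empty => simp [sympForm_zero_left]
  | insert a s ha ih => rw [Finset.sum_insert ha, Finset.sum_insert ha, sympForm_add_left, ih]

theorem sf_sum_right {m : ℕ} {F : Type*} [Field F] {ι : Type*} (s : Finset ι)
    (g : ι → (Fin m ⊕ Fin m → F)) (v : Fin m ⊕ Fin m → F) :
    Cfsg.sympForm m F v (∑ i ∈ s, g i) = ∑ i ∈ s, Cfsg.sympForm m F v (g i) := by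
  classical
  induction s using Finset.induction_on with
  | empty => simp [sympForm_zero_right]
  | insert a s ha ih => rw [Finset.sum_insert ha, Finset.sum_insert ha, sympForm_add_right, ih]

theorem comp_exists {m : ℕ} {F : Type*} [Field F] {t : ℕ}
    (D : Fin t → Submodule F (Fin m ⊕ Fin m → F)) (hsup : iSup D = ⊤)
    (x : Fin m ⊕ Fin m → F) :
    ∃ c : Fin t → (Fin m ⊕ Fin m → F), (∀ i, c i ∈ D i) ∧ ∑ i, c i = x := by
  have hx : x ∈ ⨆ i, D i := by
    rw [hsup]
    exact Submodule.mem_top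
  refine Submodule.iSup_induction D
    (motive := fun x => ∃ c : Fin t → (Fin m ⊕ Fin m → F), (∀ i, c i ∈ D i) ∧ ∑ i, c i = x)
    hx ?_ ?_ ?_
  · intro i x hx
    refine ⟨Pi.single i x, ?_, ?_⟩
    · intro j
      by_cases hji : j = i
      · subst hji
        rw [Pi.single_eq_same]
        exact hx
      · rw [Pi.single_eq_of_ne hji]
        exact (D j).zero_mem
    · rw [Finset.sum_pi_single']
      simp
  · exact ⟨0, fun i => (D i).zero_mem, by simp⟩
  · rintro x y ⟨c, hc, hcx⟩ ⟨c', hc', hcy⟩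
    refine ⟨c + c', fun i => (D i).add_mem (hc i) (hc' i), ?_⟩
    rw [← hcx, ← hcy, ← Finset.sum_add_distrib]
    rfl

open Classical in
noncomputable def NN {m : ℕ} {F : Type*} [Field F] {t : ℕ}
    (D : Fin t → Submodule F (Fin m ⊕ Fin m → F)) (x : Fin m ⊕ Fin m → F) : ℕ :=
  (Finset.univ.filter (fun i => ∃ z ∈ D i, Cfsg.sympForm m F x z ≠ 0)).card

theorem form_comp_one {m : ℕ} {F : Type*} [Field F] {t : ℕ}
    (D : Fin t → Submodule F (Fin m ⊕ Fin m → F))
    (horth : ∀ i j, i ≠ j → Cfsg.Geo.AreOrthogonalFor (Cfsg.sympForm m F) (D i) (D j))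
    (c : Fin t → (Fin m ⊕ Fin m → F)) (hc : ∀ i, c i ∈ D i) (i : Fin t)
    (z : Fin m ⊕ Fin m → F) (hz : z ∈ D i) :
    Cfsg.sympForm m F (∑ j, c j) z = Cfsg.sympForm m F (c i) z := by
  rw [sf_sum_left]
  apply Finset.sum_eq_single i
  · intro j _ hji
    exact horth j i hji (c j) (hc j) z hz
  · intro h
    exact absurd (Finset.mem_univ i) h

theorem form_comp {m : ℕ} {F : Type*} [Field F] {t : ℕ}
    (D : Fin t → Submodule F (Fin m ⊕ Fin m → F))
    (horth : ∀ i j, i ≠ j → Cfsg.Geo.AreOrthogonalFor (Cfsg.sympForm m F) (D i) (D j))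
    (c c' : Fin t → (Fin m ⊕ Fin m → F)) (hc : ∀ i, c i ∈ D i) (hc' : ∀ i, c' i ∈ D i) :
    Cfsg.sympForm m F (∑ j, c j) (∑ j, c' j) = ∑ i, Cfsg.sympForm m F (c i) (c' i) := by
  rw [sf_sum_right]
  apply Finset.sum_congr rfl
  intro i _
  exact form_comp_one D horth c hc i (c' i) (hc' i)

open Classical in
theorem NN_eq {m : ℕ} {F : Type*} [Field F] {t : ℕ}
    (D : Fin t → Submodule F (Fin m ⊕ Fin m → F))
    (hnd : ∀ i, Cfsg.Geo.IsNondegenerateOn (Cfsg.sympForm m F) (D i))
    (horth : ∀ i j, i ≠ j → Cfsg.Geo.AreOrthogonalFor (Cfsg.sympForm m F) (D i) (D j))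
    (c : Fin t → (Fin m ⊕ Fin m → F)) (hc : ∀ i, c i ∈ D i) :
    (NN D (∑ j, c j) : F) = ∑ i, if c i = 0 then (0 : F) else 1 := by
  unfold NN
  rw [Finset.card_eq_sum_ones, Finset.sum_filter, Nat.cast_sum]
  apply Finset.sum_congr rfl
  intro i _
  have hiff : (∃ z ∈ D i, Cfsg.sympForm m F (∑ j, c j) z ≠ 0) ↔ c i ≠ 0 := by
    constructor
    · rintro ⟨z, hz, hne⟩ h0
      rw [form_comp_one D horth c hc i z hz, h0, sympForm_zero_left] at hne
      exact hne rfl
    · intro h0
      obtain ⟨z, hz, hne⟩ := (hnd i (c i) (hc i) h0).2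
      exact ⟨z, hz, by rw [form_comp_one D horth c hc i z hz]; exact hne⟩
  by_cases h0 : c i = 0
  · rw [if_pos h0, if_neg (by rw [hiff]; exact not_not.mpr h0)]
    simp
  · rw [if_neg h0, if_pos (hiff.mpr h0)]
    simp

theorem pair_one {m : ℕ} {F : Type*} [Field F] [Fintype F] (hq : Fintype.card F = 2)
    (W : Submodule F (Fin m ⊕ Fin m → F)) (hdim : Module.finrank F W = 2)
    (hnd : Cfsg.Geo.IsNondegenerateOn (Cfsg.sympForm m F) W)
    (a b : Fin m ⊕ Fin m → F) (ha : a ∈ W) (hb : b ∈ W) (ha0 : a ≠ 0) (hb0 : b ≠ 0)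
    (hab : a ≠ b) : Cfsg.sympForm m F a b = 1 := by
  rcases f2_cases hq (Cfsg.sympForm m F a b) with h | h
  · exfalso
    have hli : LinearIndependent F ![(⟨a, ha⟩ : W), ⟨b, hb⟩] := by
      rw [LinearIndependent.pair_iff]
      intro s r hsr
      have hsr' : s • a + r • b = 0 := by
        have := congrArg Subtype.val hsr
        simpa using this
      rcases f2_cases hq s with hs | hs <;> rcases f2_cases hq r with hr | hr
      · exact ⟨hs, hr⟩
      · rw [hs, hr, zero_smul, one_smul, zero_add] at hsr'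
        exact absurd hsr' hb0
      · rw [hs, hr, zero_smul, one_smul, add_zero] at hsr'
        exact absurd hsr' ha0
      · rw [hs, hr, one_smul, one_smul] at hsr'
        exfalso
        apply hab
        have h2 : b + b = 0 := by
          rw [← two_smul F b]
          have : (2 : F) = 0 := by
            rw [← one_add_one_eq_two]
            exact f2_two hq
          rw [this, zero_smul]
        have : a = a + (b + b) := by rw [h2, add_zero]
        rw [← add_assoc, hsr', zero_add] at this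
        exact this
    have hcard : Fintype.card (Fin 2) = Module.finrank F W := by
      rw [hdim]
      rfl
    have hspan := hli.span_eq_top_of_card_eq_finrank' hcard
    obtain ⟨z, hz, hne⟩ := (hnd a ha ha0).2
    apply hne
    have hzs : (⟨z, hz⟩ : W) ∈ Submodule.span F (Set.range ![(⟨a, ha⟩ : W), ⟨b, hb⟩]) := by
      rw [hspan]
      exact Submodule.mem_top
    rw [Submodule.mem_span_range_iff_exists_fun] at hzs
    obtain ⟨cf, hcf⟩ := hzs
    have hz' : z = cf 0 • a + cf 1 • b := by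
      have := congrArg Subtype.val hcf
      simp [Fin.sum_univ_two] at this
      exact this.symm
    rw [hz', sympForm_add_right, sympForm_smul_right, sympForm_smul_right, sympForm_self, h,
      mul_zero, mul_zero, add_zero]
  · exact h

theorem vec_add_self {m : ℕ} {F : Type*} [Field F] [Fintype F] (hq : Fintype.card F = 2)
    (b : Fin m ⊕ Fin m → F) : b + b = 0 := by
  rw [← two_smul F b]
  have : (2 : F) = 0 := by
    rw [← one_add_one_eq_two]
    exact f2_two hq
  rw [this, zero_smul]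

open Classical in
theorem localq {m : ℕ} {F : Type*} [Field F] [Fintype F] (hq : Fintype.card F = 2)
    (W : Submodule F (Fin m ⊕ Fin m → F)) (hdim : Module.finrank F W = 2)
    (hnd : Cfsg.Geo.IsNondegenerateOn (Cfsg.sympForm m F) W)
    (a b : Fin m ⊕ Fin m → F) (ha : a ∈ W) (hb : b ∈ W) :
    (if a + b = 0 then (0 : F) else 1) =
      (if a = 0 then (0 : F) else 1) + (if b = 0 then (0 : F) else 1) +
        Cfsg.sympForm m F a b := by
  by_cases ha0 : a = 0
  · subst ha0
    simp [sympForm_zero_left]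
  · by_cases hb0 : b = 0
    · subst hb0
      simp [sympForm_zero_right]
    · by_cases hab : a = b
      · subst hab
        rw [vec_add_self hq a, if_pos rfl, if_neg ha0, sympForm_self, add_zero, f2_two hq]
      · have hne : a + b ≠ 0 := by
          intro h
          apply hab
          have : a = a + (b + b) := by rw [vec_add_self hq b, add_zero]
          rw [← add_assoc, h, zero_add] at this
          exact this
        rw [if_neg hne, if_neg ha0, if_neg hb0, pair_one hq W hdim hnd a b ha hb ha0 hb0 hab,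
          f2_two hq, zero_add]

theorem N2 {m : ℕ} {F : Type*} [Field F] [Fintype F] (hq : Fintype.card F = 2) {t : ℕ}
    (D : Fin t → Submodule F (Fin m ⊕ Fin m → F))
    (hD : Cfsg.Geo.IsNondegenerateMDecomposition (Cfsg.sympForm m F) 2 D)
    (x y : Fin m ⊕ Fin m → F) :
    (NN D (x + y) : F) = NN D x + NN D y + Cfsg.sympForm m F x y := by
  classical
  obtain ⟨c, hc, rfl⟩ := comp_exists D hD.decomp.iSup_eq_top x
  obtain ⟨c', hc', rfl⟩ := comp_exists D hD.decomp.iSup_eq_top y
  have hsum : ∑ i, c i + ∑ i, c' i = ∑ i, (c i + c' i) := by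
    rw [Finset.sum_add_distrib]
  rw [hsum, NN_eq D hD.nondegenerate hD.orthogonal _ (fun i => (D i).add_mem (hc i) (hc' i)),
    NN_eq D hD.nondegenerate hD.orthogonal c hc, NN_eq D hD.nondegenerate hD.orthogonal c' hc',
    form_comp D hD.orthogonal c c' hc hc', ← Finset.sum_add_distrib, ← Finset.sum_add_distrib]
  apply Finset.sum_congr rfl
  intro i _
  exact localq hq (D i) (hD.decomp.finrank_eq i) (hD.nondegenerate i) (c i) (c' i) (hc i) (hc' i)

theorem NN_single {m : ℕ} {F : Type*} [Field F] {t : ℕ}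
    (D : Fin t → Submodule F (Fin m ⊕ Fin m → F))
    (hnd : ∀ i, Cfsg.Geo.IsNondegenerateOn (Cfsg.sympForm m F) (D i))
    (horth : ∀ i j, i ≠ j → Cfsg.Geo.AreOrthogonalFor (Cfsg.sympForm m F) (D i) (D j))
    (i : Fin t) (a : Fin m ⊕ Fin m → F) (ha : a ∈ D i) (ha0 : a ≠ 0) : NN D a = 1 := by
  classical
  unfold NN
  rw [Finset.card_eq_one]
  refine ⟨i, ?_⟩
  ext j
  rw [Finset.mem_filter, Finset.mem_singleton]
  constructor
  · rintro ⟨_, z, hz, hne⟩
    by_contra hji
    exact hne (horth i j (fun h => hji h.symm) a ha z hz)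
  · rintro rfl
    obtain ⟨z, hz, hne⟩ := (hnd j a ha ha0).2
    exact ⟨Finset.mem_univ _, z, hz, hne⟩

noncomputable def KK {m : ℕ} {F : Type*} [Field F] {t : ℕ}
    (D : Fin t → Submodule F (Fin m ⊕ Fin m → F)) :
    Subgroup (Matrix.GeneralLinearGroup (Fin m ⊕ Fin m) F) where
  carrier := {g | g ∈ Cfsg.spGL m F ∧ ∀ x, (NN D ((g : Matrix (Fin m ⊕ Fin m) (Fin m ⊕ Fin m) F) *ᵥ x) : F) = NN D x}
  mul_mem' := by
    rintro a b ⟨ha, ha'⟩ ⟨hb, hb'⟩
    refine ⟨(Cfsg.spGL m F).mul_mem ha hb, fun x => ?_⟩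
    rw [Units.val_mul, ← Matrix.mulVec_mulVec, ha', hb']
  one_mem' := ⟨(Cfsg.spGL m F).one_mem, fun x => by simp⟩
  inv_mem' := by
    rintro a ⟨ha, ha'⟩
    refine ⟨(Cfsg.spGL m F).inv_mem ha, fun x => ?_⟩
    have := ha' (((a⁻¹ : Matrix.GeneralLinearGroup (Fin m ⊕ Fin m) F) :
      Matrix (Fin m ⊕ Fin m) (Fin m ⊕ Fin m) F) *ᵥ x)
    rw [Matrix.mulVec_mulVec, ← Units.val_mul, mul_inv_cancel, Units.val_one,
      Matrix.one_mulVec] at this
    exact this.symm

theorem mem_KK {m : ℕ} {F : Type*} [Field F] {t : ℕ}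
    (D : Fin t → Submodule F (Fin m ⊕ Fin m → F))
    (g : Matrix.GeneralLinearGroup (Fin m ⊕ Fin m) F) :
    g ∈ KK D ↔ g ∈ Cfsg.spGL m F ∧
      ∀ x, (NN D ((g : Matrix (Fin m ⊕ Fin m) (Fin m ⊕ Fin m) F) *ᵥ x) : F) = NN D x := Iff.rfl

theorem stab_NN {m : ℕ} {F : Type*} [Field F] {t : ℕ}
    (D : Fin t → Submodule F (Fin m ⊕ Fin m → F))
    (g : Matrix.GeneralLinearGroup (Fin m ⊕ Fin m) F)
    (hg : g ∈ Cfsg.Geo.decompositionStabilizer D) (hgS : g ∈ Cfsg.spGL m F)
    (x : Fin m ⊕ Fin m → F) :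
    NN D ((g : Matrix (Fin m ⊕ Fin m) (Fin m ⊕ Fin m) F) *ᵥ x) = NN D x := by
  classical
  obtain ⟨σ, hσ⟩ := hg
  have hiso := (mem_spGL_iff g).mp hgS
  unfold NN
  symm
  apply Finset.card_equiv σ
  intro j
  rw [Finset.mem_filter, Finset.mem_filter]
  simp only [Finset.mem_univ, true_and]
  constructor
  · rintro ⟨z, hz, hne⟩
    refine ⟨(g : Matrix (Fin m ⊕ Fin m) (Fin m ⊕ Fin m) F) *ᵥ z, ?_, ?_⟩
    · rw [← hσ j]
      exact ⟨z, hz, by simp [Matrix.toLin'_apply]⟩
    · rw [hiso]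
      exact hne
  · rintro ⟨z, hz, hne⟩
    rw [← hσ j] at hz
    obtain ⟨z', hz', rfl⟩ := hz
    refine ⟨z', hz', ?_⟩
    rw [Matrix.toLin'_apply, hiso] at hne
    exact hne

theorem exists_ne_zero_of_finrank {m : ℕ} {F : Type*} [Field F]
    (W : Submodule F (Fin m ⊕ Fin m → F)) (hdim : Module.finrank F W = 2) :
    ∃ a ∈ W, a ≠ 0 := by
  apply Submodule.exists_mem_ne_zero_of_ne_bot
  intro h
  rw [h, finrank_bot] at hdim
  omega

theorem result {F : Type*} [Field F] [Fintype F] (m : ℕ) (hm : 7 ≤ m) (hq : Fintype.card F = 2) {t : ℕ} (D : Fin t → Submodule F (Fin m ⊕ Fin m → F)) (hD : Cfsg.Geo.IsNondegenerateMDecomposition (Cfsg.sympForm m F) 2 D) : ∃ K : Subgroup (Matrix.GeneralLinearGroup (Fin m ⊕ Fin m) F), Cfsg.Geo.decompositionStabilizer D ⊓ Cfsg.spGL m F < K ∧ K < Cfsg.spGL m F := by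
  classical
  have ht : m + m = t * 2 := by
    have hint : DirectSum.IsInternal D :=
      (DirectSum.isInternal_submodule_iff_iSupIndep_and_iSup_eq_top D).mpr
        ⟨hD.decomp.indep, hD.decomp.iSup_eq_top⟩
    have e := LinearEquiv.ofBijective (DirectSum.coeLinearMap D) hint
    have h1 := e.finrank_eq
    rw [Module.finrank_directSum, Module.finrank_fintype_fun_eq_card] at h1
    simp only [hD.decomp.finrank_eq, Finset.sum_const, Finset.card_univ, Fintype.card_fin,
      smul_eq_mul, Fintype.card_sum] at h1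
    exact h1.symm
  have h3 : 3 ≤ t := by omega
  have horth := hD.orthogonal
  have hnd := hD.nondegenerate
  obtain ⟨a, haD, ha0⟩ := exists_ne_zero_of_finrank (D ⟨0, by omega⟩) (hD.decomp.finrank_eq _)
  obtain ⟨b, hbD, hb0⟩ := exists_ne_zero_of_finrank (D ⟨1, by omega⟩) (hD.decomp.finrank_eq _)
  obtain ⟨c, hcD, hc0⟩ := exists_ne_zero_of_finrank (D ⟨2, by omega⟩) (hD.decomp.finrank_eq _)
  have h01 : (⟨0, by omega⟩ : Fin t) ≠ ⟨1, by omega⟩ := by
    intro h
    have := congrArg Fin.val h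
    simp at this
  have h02 : (⟨0, by omega⟩ : Fin t) ≠ ⟨2, by omega⟩ := by
    intro h
    have := congrArg Fin.val h
    simp at this
  have h12 : (⟨1, by omega⟩ : Fin t) ≠ ⟨2, by omega⟩ := by
    intro h
    have := congrArg Fin.val h
    simp at this
  obtain ⟨a', ha'D, ha'a⟩ := (hnd _ a haD ha0).1
  have ha'a1 : Cfsg.sympForm m F a' a = 1 := (f2_cases hq _).resolve_left ha'a
  have hab : Cfsg.sympForm m F a b = 0 := horth _ _ h01 a haD b hbD
  have hac : Cfsg.sympForm m F a c = 0 := horth _ _ h02 a haD c hcD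
  have hbc : Cfsg.sympForm m F b c = 0 := horth _ _ h12 b hbD c hcD
  have ha'b : Cfsg.sympForm m F a' b = 0 := horth _ _ h01 a' ha'D b hbD
  have ha'c : Cfsg.sympForm m F a' c = 0 := horth _ _ h02 a' ha'D c hcD
  have hQa : (NN D a : F) = 1 := by rw [NN_single D hnd horth _ a haD ha0]; simp
  have hQb : (NN D b : F) = 1 := by rw [NN_single D hnd horth _ b hbD hb0]; simp
  have hQc : (NN D c : F) = 1 := by rw [NN_single D hnd horth _ c hcD hc0]; simp
  have hQa' : (NN D a' : F) = 1 := by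
    have : a' ≠ 0 := by
      intro h
      rw [h, sympForm_zero_left] at ha'a
      exact ha'a rfl
    rw [NN_single D hnd horth _ a' ha'D this]
    simp
  have ha'a0 : a' + a ≠ 0 := by
    intro h
    have h1 : Cfsg.sympForm m F (a' + a) a = 0 := by rw [h, sympForm_zero_left]
    rw [sympForm_add_left, sympForm_self, add_zero] at h1
    exact ha'a h1
  have hQa'a : (NN D (a' + a) : F) = 1 := by
    rw [NN_single D hnd horth _ (a' + a) ((D _).add_mem ha'D haD) ha'a0]
    simp
  have h11 : (1 : F) + 1 = 0 := f2_two hq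
  have hQv : (NN D (a + b + c) : F) = 1 := by
    rw [N2 hq D hD, N2 hq D hD, hQa, hQb, hQc, hab, sympForm_add_left, hac, hbc, h11]
    simp
  refine ⟨KK D, ?_, ?_⟩
  · rw [SetLike.lt_iff_le_and_exists]
    refine ⟨fun g hg => (mem_KK D g).mpr ⟨hg.2, fun x => by rw [stab_NN D g hg.1 hg.2 x]⟩, ?_⟩
    obtain ⟨g, hg, hgS⟩ := tsGL (a + b + c) (1 : F)
    refine ⟨g, ?_, ?_⟩
    · rw [mem_KK]
      refine ⟨hgS, fun x => ?_⟩
      rw [ts_apply g _ _ hg, one_mul]
      rcases f2_cases hq (Cfsg.sympForm m F x (a + b + c)) with h | h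
      · rw [h, zero_smul, add_zero]
      · rw [h, one_smul, N2 hq D hD, hQv, h, add_assoc, h11, add_zero]
    · intro hmem
      obtain ⟨σ, hσ⟩ := hmem.1
      have hu : (g : Matrix (Fin m ⊕ Fin m) (Fin m ⊕ Fin m) F) *ᵥ a' ∈ D (σ ⟨0, by omega⟩) := by
        rw [← hσ]
        exact ⟨a', ha'D, by simp [Matrix.toLin'_apply]⟩
      rw [ts_apply g _ _ hg, one_mul, sympForm_add_right, sympForm_add_right, ha'a1, ha'b, ha'c,
        add_zero, add_zero, one_smul] at hu
      by_cases hj : σ ⟨0, by omega⟩ = ⟨1, by omega⟩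
      · obtain ⟨z, hz, hne⟩ := (hnd _ c hcD hc0).2
        have h0 := horth _ _ (by rw [hj]; exact h12) _ hu z hz
        rw [sympForm_add_left, sympForm_add_left, sympForm_add_left,
          horth _ _ h02 a' ha'D z hz, horth _ _ h02 a haD z hz, horth _ _ h12 b hbD z hz] at h0
        simp at h0
        exact hne h0
      · obtain ⟨z, hz, hne⟩ := (hnd _ b hbD hb0).2
        have h0 := horth _ _ hj _ hu z hz
        rw [sympForm_add_left, sympForm_add_left, sympForm_add_left,
          horth _ _ h01 a' ha'D z hz, horth _ _ h01 a haD z hz,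
          horth _ _ (fun h => h12 h.symm) c hcD z hz] at h0
        simp at h0
        exact hne h0
  · rw [SetLike.lt_iff_le_and_exists]
    refine ⟨fun g hg => hg.1, ?_⟩
    obtain ⟨g, hg, hgS⟩ := tsGL (a + b) (1 : F)
    refine ⟨g, hgS, ?_⟩
    intro hmem
    have h1 := ((mem_KK D g).mp hmem).2 a'
    rw [ts_apply g _ _ hg, one_mul, sympForm_add_right, ha'a1, ha'b, add_zero, one_smul,
      ← add_assoc, N2 hq D hD, hQa'a, hQb, hQa', sympForm_add_left, ha'b, hab, h11] at h1
    simp at h1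

end Cfsg.Agent.S5648
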