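import Cfsg.Statements.S5647
import Cfsg.Agent.S5646
import Cfsg.Agent.S5648
import Cfsg.Agent.S0752

set_option autoImplicit false

open Cfsg

namespace Cfsg.Agent.S5647

open Matrix Cfsg.Agent.Lib.helper6 Cfsg.Agent.S5646

variable {m : ℕ} {F : Type*} [Field F]

def XX (M : Subgroup (Matrix.GeneralLinearGroup (Fin m ⊕ Fin m) F))
    (v : Fin m ⊕ Fin m → F) : Prop :=
  ∀ c : F, ∀ g : Matrix.GeneralLinearGroup (Fin m ⊕ Fin m) F,
    (g : Matrix (Fin m ⊕ Fin m) (Fin m ⊕ Fin m) F) = Cfsg.sympTransvection m v c → g ∈ M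

theorem XX_conj (M : Subgroup (Matrix.GeneralLinearGroup (Fin m ⊕ Fin m) F))
    (hM : M ≤ Cfsg.spGL m F) (v : Fin m ⊕ Fin m → F) (hv : XX M v)
    (h : Matrix.GeneralLinearGroup (Fin m ⊕ Fin m) F) (hh : h ∈ M) :
    XX M ((h : Matrix (Fin m ⊕ Fin m) (Fin m ⊕ Fin m) F) *ᵥ v) :=
  X_conj M hM v hv h hh

theorem XX_zero (M : Subgroup (Matrix.GeneralLinearGroup (Fin m ⊕ Fin m) F)) :
    XX M (0 : Fin m ⊕ Fin m → F) := by
  intro c g hg
  have : g = 1 := by
    apply glx
    intro x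
    rw [ts_apply g _ _ hg, smul_zero, add_zero, Units.val_one, Matrix.one_mulVec]
  rw [this]
  exact M.one_mem

theorem XX_add (M : Subgroup (Matrix.GeneralLinearGroup (Fin m ⊕ Fin m) F))
    (hM : M ≤ Cfsg.spGL m F) (x y : Fin m ⊕ Fin m → F) (hx : XX M x) (hy : XX M y)
    (hxy : Cfsg.sympForm m F x y ≠ 0) : XX M (x + y) := by
  obtain ⟨t, ht, _⟩ := tsGL y (Cfsg.sympForm m F x y)⁻¹
  have htM : t ∈ M := hy _ t ht
  have := XX_conj M hM x hx t htM
  rw [ts_apply t _ _ ht, inv_mul_cancel₀ hxy, one_smul] at this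
  exact this

theorem gl_cancel (g : Matrix.GeneralLinearGroup (Fin m ⊕ Fin m) F) (x : Fin m ⊕ Fin m → F) :
    ((g⁻¹ : Matrix.GeneralLinearGroup (Fin m ⊕ Fin m) F) :
      Matrix (Fin m ⊕ Fin m) (Fin m ⊕ Fin m) F) *ᵥ
      ((g : Matrix (Fin m ⊕ Fin m) (Fin m ⊕ Fin m) F) *ᵥ x) = x := by
  rw [Matrix.mulVec_mulVec, ← Units.val_mul, inv_mul_cancel, Units.val_one, Matrix.one_mulVec]

theorem gl_cancel' (g : Matrix.GeneralLinearGroup (Fin m ⊕ Fin m) F) (x : Fin m ⊕ Fin m → F) :
    (g : Matrix (Fin m ⊕ Fin m) (Fin m ⊕ Fin m) F) *ᵥ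
      (((g⁻¹ : Matrix.GeneralLinearGroup (Fin m ⊕ Fin m) F) :
      Matrix (Fin m ⊕ Fin m) (Fin m ⊕ Fin m) F) *ᵥ x) = x := by
  rw [Matrix.mulVec_mulVec, ← Units.val_mul, mul_inv_cancel, Units.val_one, Matrix.one_mulVec]

theorem gl_inj (g : Matrix.GeneralLinearGroup (Fin m ⊕ Fin m) F) :
    Function.Injective (Matrix.toLin' (g : Matrix (Fin m ⊕ Fin m) (Fin m ⊕ Fin m) F)) := by
  intro x y hxy
  rw [Matrix.toLin'_apply, Matrix.toLin'_apply] at hxy
  have := congrArg (fun z => ((g⁻¹ : Matrix.GeneralLinearGroup (Fin m ⊕ Fin m) F) :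
      Matrix (Fin m ⊕ Fin m) (Fin m ⊕ Fin m) F) *ᵥ z) hxy
  simp only [gl_cancel] at this
  exact this

theorem map_eq {t k : ℕ} (D : Fin t → Submodule F (Fin m ⊕ Fin m → F))
    (hfr : ∀ i, Module.finrank F (D i) = k)
    (g : Matrix.GeneralLinearGroup (Fin m ⊕ Fin m) F) (i c : Fin t)
    (h : ∀ x ∈ D i, (g : Matrix (Fin m ⊕ Fin m) (Fin m ⊕ Fin m) F) *ᵥ x ∈ D c) :
    (D i).map (Matrix.toLin' (g : Matrix (Fin m ⊕ Fin m) (Fin m ⊕ Fin m) F)) = D c := by
  apply Submodule.eq_of_le_of_finrank_eq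
  · rintro _ ⟨x, hx, rfl⟩
    rw [Matrix.toLin'_apply]
    exact h x hx
  · rw [hfr, ← (Submodule.equivMapOfInjective _ (gl_inj g) (D i)).finrank_eq, hfr]

theorem stab_of_maps {t k : ℕ} (D : Fin t → Submodule F (Fin m ⊕ Fin m → F))
    (hfr : ∀ i, Module.finrank F (D i) = k)
    (g : Matrix.GeneralLinearGroup (Fin m ⊕ Fin m) F) (σ : Equiv.Perm (Fin t))
    (h : ∀ i, ∀ x ∈ D i, (g : Matrix (Fin m ⊕ Fin m) (Fin m ⊕ Fin m) F) *ᵥ x ∈ D (σ i)) :
    g ∈ Cfsg.Geo.decompositionStabilizer D :=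
  ⟨σ, fun i => map_eq D hfr g i (σ i) (h i)⟩

theorem block_XX {t k : ℕ} (D : Fin t → Submodule F (Fin m ⊕ Fin m → F))
    (hD : Cfsg.Geo.IsNondegenerateMDecomposition (Cfsg.sympForm m F) k D)
    (M : Subgroup (Matrix.GeneralLinearGroup (Fin m ⊕ Fin m) F))
    (hHM : Cfsg.Geo.decompositionStabilizer D ⊓ Cfsg.spGL m F ≤ M)
    (i : Fin t) (v : Fin m ⊕ Fin m → F) (hv : v ∈ D i) : XX M v := by
  intro c g hg
  apply hHM
  refine Subgroup.mem_inf.mpr ⟨?_, ?_⟩
  · apply stab_of_maps D hD.decomp.finrank_eq g 1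
    intro j x hx
    rw [ts_apply g v c hg, Equiv.Perm.one_apply]
    by_cases hji : j = i
    · subst hji
      exact (D j).add_mem hx ((D j).smul_mem _ hv)
    · rw [hD.orthogonal j i hji x hx v hv, mul_zero, zero_smul, add_zero]
      exact hx
  · obtain ⟨g0, hg0, hg0S⟩ := tsGL v c
    have : g = g0 := Units.ext (hg.trans hg0.symm)
    rw [this]
    exact hg0S

theorem comp_move {t k : ℕ} (D : Fin t → Submodule F (Fin m ⊕ Fin m → F))
    (hD : Cfsg.Geo.IsNondegenerateMDecomposition (Cfsg.sympForm m F) k D)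
    (M : Subgroup (Matrix.GeneralLinearGroup (Fin m ⊕ Fin m) F)) (hM : M ≤ Cfsg.spGL m F)
    (hHM : Cfsg.Geo.decompositionStabilizer D ⊓ Cfsg.spGL m F ≤ M)
    (c : Fin t → (Fin m ⊕ Fin m → F)) (hc : ∀ i, c i ∈ D i) (hX : XX M (∑ i, c i))
    (i : Fin t) (a' : Fin m ⊕ Fin m → F) (ha' : a' ∈ D i) (h0 : c i ≠ 0) (h0' : a' ≠ 0) :
    XX M (∑ j, Function.update c i a' j) := by
  classical
  have h1 : ∑ j, c j = c i + ∑ j ∈ Finset.univ.erase i, c j :=
    (Finset.add_sum_erase _ c (Finset.mem_univ i)).symm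
  have h2 : ∑ j, Function.update c i a' j = a' + ∑ j ∈ Finset.univ.erase i, c j := by
    rw [← Finset.add_sum_erase _ _ (Finset.mem_univ i), Function.update_self]
    congr 1
    apply Finset.sum_congr rfl
    intro j hj
    rw [Function.update_of_ne (Finset.ne_of_mem_erase hj)]
  rw [h2]
  rw [h1] at hX
  have horth : ∀ a ∈ D i, Cfsg.sympForm m F a (∑ j ∈ Finset.univ.erase i, c j) = 0 := by
    intro a ha
    rw [S5648.sf_sum_right]
    apply Finset.sum_eq_zero
    intro j hj
    exact hD.orthogonal i j (Finset.ne_of_mem_erase hj).symm a ha (c j) (hc j)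
  exact move M hM (D i) (Submodule.span F {∑ j ∈ Finset.univ.erase i, c j})
    (fun v hv => block_XX D hD M hHM i v hv)
    (by
      intro a ha b' hb'
      obtain ⟨r, rfl⟩ := Submodule.mem_span_singleton.mp hb'
      rw [sympForm_smul_right, horth a ha, mul_zero])
    (fun a ha h0 => (hD.nondegenerate i a ha h0).2)
    (c i) a' _ (hc i) ha' h0 h0' (Submodule.mem_span_singleton_self _) hX

theorem sum_update' {t : ℕ} (c : Fin t → (Fin m ⊕ Fin m → F)) (i : Fin t)
    (a' : Fin m ⊕ Fin m → F) :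
    ∑ j, Function.update c i a' j = ∑ j, c j + (a' - c i) := by
  classical
  rw [← Finset.add_sum_erase _ _ (Finset.mem_univ i), Function.update_self,
    ← Finset.add_sum_erase _ c (Finset.mem_univ i)]
  have : ∑ j ∈ Finset.univ.erase i, Function.update c i a' j =
      ∑ j ∈ Finset.univ.erase i, c j := by
    apply Finset.sum_congr rfl
    intro j hj
    rw [Function.update_of_ne (Finset.ne_of_mem_erase hj)]
  rw [this]
  abel

def PairGood {t : ℕ} (D : Fin t → Submodule F (Fin m ⊕ Fin m → F))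
    (M : Subgroup (Matrix.GeneralLinearGroup (Fin m ⊕ Fin m) F)) (i j : Fin t) : Prop :=
  ∀ a ∈ D i, ∀ b ∈ D j, a ≠ 0 → b ≠ 0 → XX M (a + b)

theorem pair_symm {t : ℕ} (D : Fin t → Submodule F (Fin m ⊕ Fin m → F))
    (M : Subgroup (Matrix.GeneralLinearGroup (Fin m ⊕ Fin m) F)) (i j : Fin t)
    (h : PairGood D M i j) : PairGood D M j i := by
  intro a ha b hb ha0 hb0
  rw [add_comm]
  exact h b hb a ha hb0 ha0

theorem pair_of_one {t k : ℕ} (D : Fin t → Submodule F (Fin m ⊕ Fin m → F))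
    (hD : Cfsg.Geo.IsNondegenerateMDecomposition (Cfsg.sympForm m F) k D)
    (M : Subgroup (Matrix.GeneralLinearGroup (Fin m ⊕ Fin m) F)) (hM : M ≤ Cfsg.spGL m F)
    (hHM : Cfsg.Geo.decompositionStabilizer D ⊓ Cfsg.spGL m F ≤ M)
    (i j : Fin t) (hij : i ≠ j) (a0 b0 : Fin m ⊕ Fin m → F) (ha0 : a0 ∈ D i) (hb0 : b0 ∈ D j)
    (ha00 : a0 ≠ 0) (hb00 : b0 ≠ 0) (hX : XX M (a0 + b0)) : PairGood D M i j := by
  intro a ha b hb ha0' hb0'
  have h1 : XX M (a + b0) := move M hM (D i) (D j) (fun v hv => block_XX D hD M hHM i v hv)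
    (hD.orthogonal i j hij) (fun a ha h0 => (hD.nondegenerate i a ha h0).2)
    a0 a b0 ha0 ha ha00 ha0' hb0 hX
  rw [add_comm] at h1
  have h2 : XX M (b + a) := move M hM (D j) (D i) (fun v hv => block_XX D hD M hHM j v hv)
    (hD.orthogonal j i hij.symm) (fun a ha h0 => (hD.nondegenerate j a ha h0).2)
    b0 b a hb0 hb hb00 hb0' ha h1
  rw [add_comm] at h2
  exact h2

theorem exists_scalar [Fintype F] (hq : Fintype.card F ≠ 2) : ∃ b : F, b ≠ 0 ∧ 1 + b ≠ 0 := by
  classical
  by_contra hcon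
  push Not at hcon
  have hsub : (Finset.univ : Finset F) ⊆ {0, -1} := by
    intro b _
    by_cases hb : b = 0
    · simp [hb]
    · have := hcon b hb
      have hb' : b = -1 := by linear_combination this
      simp [hb']
  have h1 := Finset.card_le_card hsub
  have h2 : ({0, -1} : Finset F).card ≤ 2 := Finset.card_le_two
  have h3 : 1 < Fintype.card F := Fintype.one_lt_card
  rw [Finset.card_univ] at h1
  omega

theorem exists_z [Fintype F] (W : Submodule F (Fin m ⊕ Fin m → F)) (k : ℕ)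
    (hk : Module.finrank F W = k)
    (hnd : Cfsg.Geo.IsNondegenerateOn (Cfsg.sympForm m F) W)
    (hex : ¬ (k = 2 ∧ Fintype.card F = 2)) (y : Fin m ⊕ Fin m → F) (hy : y ∈ W) (hy0 : y ≠ 0) :
    ∃ z ∈ W, Cfsg.sympForm m F y z = 0 ∧ z ≠ 0 ∧ y + z ≠ 0 := by
  by_cases hq : Fintype.card F = 2
  · have hk2 : k ≠ 2 := fun h => hex ⟨h, hq⟩
    obtain ⟨u, huW, hu⟩ := (hnd y hy hy0).2
    have hli : LinearIndependent F ![y, u] := by
      rw [LinearIndependent.pair_iff]
      intro s r hsr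
      have h1 := congrArg (fun z => Cfsg.sympForm m F y z) hsr
      simp only [sympForm_add_right, sympForm_smul_right, sympForm_self, mul_zero, zero_add,
        sympForm_zero_right] at h1
      have hr : r = 0 := by
        rcases mul_eq_zero.mp h1 with h | h
        · exact h
        · exact absurd h hu
      rw [hr, zero_smul, add_zero] at hsr
      rcases smul_eq_zero.mp hsr with h | h
      · exact ⟨h, hr⟩
      · exact absurd h hy0
    have hw : ∃ w ∈ W, w ∉ Submodule.span F {y, u} := by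
      by_contra hcon
      push Not at hcon
      have heq : W = Submodule.span F (Set.range ![y, u]) := by
        rw [Matrix.range_cons_cons_empty]
        apply le_antisymm hcon
        rw [Submodule.span_le]
        intro x hx
        rcases hx with rfl | rfl
        · exact hy
        · exact huW
      have := finrank_span_eq_card hli
      rw [← heq, hk] at this
      simp at this
      exact hk2 this
    obtain ⟨w, hwW, hw⟩ := hw
    refine ⟨w - (Cfsg.sympForm m F y w / Cfsg.sympForm m F y u) • u,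
      W.sub_mem hwW (W.smul_mem _ huW), ?_, ?_, ?_⟩
    · rw [sympForm_sub_right, sympForm_smul_right, div_mul_cancel₀ _ hu, sub_self]
    · intro h0
      apply hw
      rw [Submodule.mem_span_pair]
      refine ⟨0, Cfsg.sympForm m F y w / Cfsg.sympForm m F y u, ?_⟩
      rw [zero_smul, zero_add]
      exact (sub_eq_zero.mp h0).symm
    · intro h0
      apply hw
      rw [Submodule.mem_span_pair]
      refine ⟨-1, Cfsg.sympForm m F y w / Cfsg.sympForm m F y u, ?_⟩
      have : w = -y + (Cfsg.sympForm m F y w / Cfsg.sympForm m F y u) • u :=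
        sub_eq_iff_eq_add.mp (eq_neg_of_add_eq_zero_right h0)
      rw [neg_smul, one_smul]
      exact this.symm
  · obtain ⟨b, hb0, hb1⟩ := exists_scalar hq
    refine ⟨b • y, W.smul_mem _ hy, ?_, smul_ne_zero hb0 hy0, ?_⟩
    · rw [sympForm_smul_right, sympForm_self, mul_zero]
    · have : y + b • y = (1 + b) • y := by rw [add_smul, one_smul]
      rw [this]
      exact smul_ne_zero hb1 hy0

theorem shrink [Fintype F] {t k : ℕ} (D : Fin t → Submodule F (Fin m ⊕ Fin m → F))
    (hD : Cfsg.Geo.IsNondegenerateMDecomposition (Cfsg.sympForm m F) k D)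
    (hex : ¬ (k = 2 ∧ Fintype.card F = 2))
    (M : Subgroup (Matrix.GeneralLinearGroup (Fin m ⊕ Fin m) F)) (hM : M ≤ Cfsg.spGL m F)
    (hHM : Cfsg.Geo.decompositionStabilizer D ⊓ Cfsg.spGL m F ≤ M)
    (c : Fin t → (Fin m ⊕ Fin m → F)) (hc : ∀ i, c i ∈ D i) (hX : XX M (∑ i, c i))
    (i j : Fin t) (hij : i ≠ j) (hi : c i ≠ 0) (hj : c j ≠ 0) : PairGood D M i j := by
  classical
  obtain ⟨u, huD, hu⟩ := (hD.nondegenerate i (c i) (hc i) hi).2
  obtain ⟨z, hzD, hz, hz0, hyz⟩ := exists_z (D j) k (hD.decomp.finrank_eq j) (hD.nondegenerate j)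
    hex (c j) (hc j) hj
  have hu0 : u ≠ 0 := by
    intro h
    rw [h, sympForm_zero_right] at hu
    exact hu rfl
  have hciu : c i + u ≠ 0 := by
    intro h
    have : Cfsg.sympForm m F (c i) (c i + u) = 0 := by rw [h, sympForm_zero_right]
    rw [sympForm_add_right, sympForm_self, zero_add] at this
    exact hu this
  have hc1 : ∀ l, Function.update c i (c i + u) l ∈ D l := by
    intro l
    by_cases hl : l = i
    · subst hl
      rw [Function.update_self]
      exact (D l).add_mem (hc l) huD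
    · rw [Function.update_of_ne hl]
      exact hc l
  have hX1 := comp_move D hD M hM hHM c hc hX i (c i + u) ((D i).add_mem (hc i) huD) hi hciu
  have hc1j : Function.update c i (c i + u) j = c j := Function.update_of_ne hij.symm _ _
  have hX2 := comp_move D hD M hM hHM _ hc1 hX1 j (c j + z) ((D j).add_mem (hc j) hzD)
    (by rw [hc1j]; exact hj) hyz
  rw [sum_update', sum_update', hc1j] at hX2
  have e1 : ∑ l, c l + (c i + u - c i) + (c j + z - c j) = ∑ l, c l + (u + z) := by abel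
  rw [e1] at hX2
  have hXn : XX M ((-1 : F) • ∑ l, c l) := X_smul M _ hX (-1)
  have hne : Cfsg.sympForm m F (∑ l, c l + (u + z)) ((-1 : F) • ∑ l, c l) ≠ 0 := by
    rw [sympForm_smul_right, sympForm_add_left, sympForm_self, zero_add, sympForm_add_left,
      sympForm_swap m u, sympForm_swap m z, S5648.form_comp_one D hD.orthogonal c hc i u huD,
      S5648.form_comp_one D hD.orthogonal c hc j z hzD, hz, neg_zero, add_zero]
    simpa using hu
  have hX3 := XX_add M hM _ _ hX2 hXn hne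
  have e2 : ∑ l, c l + (u + z) + (-1 : F) • ∑ l, c l = u + z := by
    rw [neg_smul, one_smul]
    abel
  rw [e2] at hX3
  exact pair_of_one D hD M hM hHM i j hij u z huD hzD hu0 hz0 hX3

theorem exists_ne_zero {k : ℕ} (W : Submodule F (Fin m ⊕ Fin m → F))
    (hdim : Module.finrank F W = k) (hk : 0 < k) : ∃ a ∈ W, a ≠ 0 := by
  apply Submodule.exists_mem_ne_zero_of_ne_bot
  intro h
  rw [h, finrank_bot] at hdim
  omega

theorem gl_ne_zero (g : Matrix.GeneralLinearGroup (Fin m ⊕ Fin m) F) (x : Fin m ⊕ Fin m → F)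
    (hx : x ≠ 0) : (g : Matrix (Fin m ⊕ Fin m) (Fin m ⊕ Fin m) F) *ᵥ x ≠ 0 := by
  intro h0
  apply hx
  have := gl_cancel g x
  rw [h0, Matrix.mulVec_zero] at this
  exact this.symm

theorem two_comp {t : ℕ} (D : Fin t → Submodule F (Fin m ⊕ Fin m → F)) (hind : iSupIndep D)
    (i j c : Fin t) (hij : i ≠ j) (x y : Fin m ⊕ Fin m → F) (hx : x ∈ D i) (hy : y ∈ D j)
    (hxy : x + y ∈ D c) : x = 0 ∨ y = 0 := by
  by_cases hcj : c = j
  · left
    subst hcj
    have h1 : x ∈ D c := by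
      have := (D c).sub_mem hxy hy
      simpa using this
    have hdis : Disjoint (D i) (D c) := hind.pairwiseDisjoint hij
    exact (Submodule.disjoint_def.mp hdis) x hx h1
  · right
    have h1 : y ∈ ⨆ (l) (_ : l ≠ j), D l := by
      have : y = (x + y) - x := by abel
      rw [this]
      exact Submodule.sub_mem _
        (Submodule.mem_iSup_of_mem c (Submodule.mem_iSup_of_mem hcj hxy))
        (Submodule.mem_iSup_of_mem i (Submodule.mem_iSup_of_mem hij hx))
    exact (Submodule.disjoint_def.mp (hind j)) y hy h1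

theorem exists_spread {t k : ℕ} (D : Fin t → Submodule F (Fin m ⊕ Fin m → F))
    (hD : Cfsg.Geo.IsMDecomposition k D)
    (g : Matrix.GeneralLinearGroup (Fin m ⊕ Fin m) F)
    (hg : g ∉ Cfsg.Geo.decompositionStabilizer D) :
    ∃ i, ∃ v ∈ D i, ∀ c, (g : Matrix (Fin m ⊕ Fin m) (Fin m ⊕ Fin m) F) *ᵥ v ∉ D c := by
  classical
  by_contra hcon
  push Not at hcon
  have hne : ∀ i, ∃ d ∈ D i, d ≠ 0 := fun i => exists_ne_zero (D i) (hD.finrank_eq i) hD.pos
  choose d hd hd0 using hne
  have hσ : ∀ i, ∃ c, (g : Matrix (Fin m ⊕ Fin m) (Fin m ⊕ Fin m) F) *ᵥ d i ∈ D c :=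
    fun i => hcon i (d i) (hd i)
  choose σ hσ using hσ
  have hmaps : ∀ i, ∀ x ∈ D i,
      (g : Matrix (Fin m ⊕ Fin m) (Fin m ⊕ Fin m) F) *ᵥ x ∈ D (σ i) := by
    intro i
    have hdisj : (⨆ (l) (_ : l ≠ σ i), D l) ⊓ D (σ i) = ⊥ := by
      rw [inf_comm]
      exact disjoint_iff.mp (hD.indep (σ i))
    apply all_into (g : Matrix (Fin m ⊕ Fin m) (Fin m ⊕ Fin m) F) (D i)
      (⨆ (l) (_ : l ≠ σ i), D l) (D (σ i)) hdisj
    · intro x hx
      obtain ⟨c, hc⟩ := hcon i x hx
      by_cases hcs : c = σ i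
      · right
        rw [← hcs]
        exact hc
      · left
        exact Submodule.mem_iSup_of_mem c (Submodule.mem_iSup_of_mem hcs hc)
    · exact hd i
    · intro hmem
      exact gl_ne_zero g (d i) (hd0 i)
        ((Submodule.disjoint_def.mp (hD.indep (σ i))) _ (hσ i) hmem)
  have hinj : Function.Injective σ := by
    intro i j hij
    have h1 := map_eq D hD.finrank_eq g i (σ i) (hmaps i)
    have h2 := map_eq D hD.finrank_eq g j (σ j) (hmaps j)
    rw [← hij] at h2
    have h3 : D i = D j := Submodule.map_injective_of_injective (gl_inj g) (h1.trans h2.symm)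
    refine hD.indep.injective (fun l hl => ?_) h3
    have := hd l
    rw [hl] at this
    exact hd0 l ((Submodule.mem_bot F).mp this)
  apply hg
  exact stab_of_maps D hD.finrank_eq g
    (Equiv.ofBijective σ (Finite.injective_iff_bijective.mp hinj))
    (fun i x hx => hmaps i x hx)

theorem strict {t k : ℕ} (D : Fin t → Submodule F (Fin m ⊕ Fin m → F))
    (hD : Cfsg.Geo.IsNondegenerateMDecomposition (Cfsg.sympForm m F) k D) :
    Cfsg.Geo.decompositionStabilizer D ⊓ Cfsg.spGL m F < Cfsg.spGL m F := by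
  rw [SetLike.lt_iff_le_and_exists]
  refine ⟨inf_le_right, ?_⟩
  have ht := hD.decomp.two_le
  have h01 : (⟨0, by omega⟩ : Fin t) ≠ ⟨1, by omega⟩ := by
    intro h
    have := congrArg Fin.val h
    simp at this
  obtain ⟨a, haD, ha0⟩ := exists_ne_zero (D ⟨0, by omega⟩) (hD.decomp.finrank_eq _) hD.decomp.pos
  obtain ⟨b, hbD, hb0⟩ := exists_ne_zero (D ⟨1, by omega⟩) (hD.decomp.finrank_eq _) hD.decomp.pos
  obtain ⟨a', ha'D, ha'⟩ := (hD.nondegenerate _ a haD ha0).1
  obtain ⟨g, hg, hgS⟩ := tsGL (a + b) (1 : F)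
  refine ⟨g, hgS, ?_⟩
  rintro ⟨⟨σ, hσ⟩, _⟩
  have h1 : (g : Matrix (Fin m ⊕ Fin m) (Fin m ⊕ Fin m) F) *ᵥ a' ∈ D (σ ⟨0, by omega⟩) := by
    rw [← hσ ⟨0, by omega⟩]
    exact ⟨a', ha'D, by rw [Matrix.toLin'_apply]⟩
  rw [ts_apply g _ _ hg, one_mul, sympForm_add_right,
    hD.orthogonal _ _ h01 a' ha'D b hbD, add_zero, smul_add, ← add_assoc] at h1
  rcases two_comp D hD.decomp.indep _ _ _ h01 _ _
    ((D _).add_mem ha'D ((D _).smul_mem _ haD)) ((D _).smul_mem _ hbD) h1 with h | h
  · have : Cfsg.sympForm m F (a' + Cfsg.sympForm m F a' a • a) a = 0 := by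
      rw [h, sympForm_zero_left]
    rw [sympForm_add_left, sympForm_smul_left, sympForm_self, mul_zero, add_zero] at this
    exact ha' this
  · exact smul_ne_zero ha' hb0 h

theorem prop1 {t : ℕ} (D : Fin t → Submodule F (Fin m ⊕ Fin m → F))
    (M : Subgroup (Matrix.GeneralLinearGroup (Fin m ⊕ Fin m) F)) (hM : M ≤ Cfsg.spGL m F)
    (hperm : ∀ b c : Fin t, ∃ h ∈ M, ∀ i, ∀ x ∈ D i,
      (h : Matrix (Fin m ⊕ Fin m) (Fin m ⊕ Fin m) F) *ᵥ x ∈ D (Equiv.swap b c i))
    (a b c : Fin t) (hab : a ≠ b) (hca : c ≠ a) (hG : PairGood D M a b) :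
    PairGood D M a c := by
  obtain ⟨h, hhM, hh⟩ := hperm b c
  intro x hx y hy hx0 hy0
  have h1 : (h : Matrix (Fin m ⊕ Fin m) (Fin m ⊕ Fin m) F) *ᵥ x ∈ D a := by
    have := hh a x hx
    rwa [Equiv.swap_apply_of_ne_of_ne hab hca.symm] at this
  have h2 : (h : Matrix (Fin m ⊕ Fin m) (Fin m ⊕ Fin m) F) *ᵥ y ∈ D b := by
    have := hh c y hy
    rwa [Equiv.swap_apply_right] at this
  have h5 := hG _ h1 _ h2 (gl_ne_zero h x hx0) (gl_ne_zero h y hy0)
  have h6 := XX_conj M hM _ h5 h⁻¹ (M.inv_mem hhM)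
  rw [Matrix.mulVec_add, gl_cancel, gl_cancel] at h6
  exact h6

theorem all_pairs {t : ℕ} (D : Fin t → Submodule F (Fin m ⊕ Fin m → F))
    (M : Subgroup (Matrix.GeneralLinearGroup (Fin m ⊕ Fin m) F)) (hM : M ≤ Cfsg.spGL m F)
    (hperm : ∀ b c : Fin t, ∃ h ∈ M, ∀ i, ∀ x ∈ D i,
      (h : Matrix (Fin m ⊕ Fin m) (Fin m ⊕ Fin m) F) *ᵥ x ∈ D (Equiv.swap b c i))
    (i j : Fin t) (hij : i ≠ j) (hG : PairGood D M i j) :
    ∀ a b, a ≠ b → PairGood D M a b := by
  have s1 : ∀ c, c ≠ i → PairGood D M i c := by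
    intro c hci
    by_cases hcj : c = j
    · rw [hcj]
      exact hG
    · exact prop1 D M hM hperm i j c hij hci hG
  have s2 : ∀ c, c ≠ i → ∀ d, d ≠ c → PairGood D M c d := by
    intro c hci d hdc
    have h1 : PairGood D M c i := pair_symm D M i c (s1 c hci)
    by_cases hdi : d = i
    · rw [hdi]
      exact h1
    · exact prop1 D M hM hperm c i d hci hdc h1
  intro a b hab
  by_cases hai : a = i
  · rw [hai]
    exact s1 b (fun h => hab (hai.trans h.symm))
  · exact s2 a hai b (fun h => hab h.symm)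

theorem union_step {t k : ℕ} (D : Fin t → Submodule F (Fin m ⊕ Fin m → F))
    (hD : Cfsg.Geo.IsNondegenerateMDecomposition (Cfsg.sympForm m F) k D)
    (M : Subgroup (Matrix.GeneralLinearGroup (Fin m ⊕ Fin m) F)) (hM : M ≤ Cfsg.spGL m F)
    (hHM : Cfsg.Geo.decompositionStabilizer D ⊓ Cfsg.spGL m F ≤ M)
    (hall : ∀ a b, a ≠ b → PairGood D M a b) (S : Finset (Fin t)) :
    ∀ c : Fin t → (Fin m ⊕ Fin m → F), (∀ l, c l ∈ D l) → (∀ l, l ∉ S → c l = 0) →
      XX M (∑ l, c l) := by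
  classical
  induction S using Finset.induction_on with
  | empty =>
    intro c _ h0
    have : ∑ l, c l = 0 := Finset.sum_eq_zero (fun l _ => h0 l (Finset.notMem_empty l))
    rw [this]
    exact XX_zero M
  | insert r S' hr ih =>
    intro c hc h0
    by_cases hcr : c r = 0
    · apply ih c hc
      intro l hl
      by_cases hlr : l = r
      · rw [hlr]
        exact hcr
      · exact h0 l (by simp [hlr, hl])
    · by_cases hall0 : ∀ l ∈ S', c l = 0
      · have : ∑ l, c l = c r := by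
          apply Finset.sum_eq_single r
          · intro l _ hlr
            by_cases hl : l ∈ S'
            · exact hall0 l hl
            · exact h0 l (by simp [hlr, hl])
          · intro h
            exact absurd (Finset.mem_univ r) h
        rw [this]
        exact block_XX D hD M hHM r (c r) (hc r)
      · push Not at hall0
        obtain ⟨a, haS, hca⟩ := hall0
        have har : a ≠ r := fun h => hr (h ▸ haS)
        obtain ⟨w, hwD, hw⟩ := (hD.nondegenerate a (c a) (hc a) hca).2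
        have hw0 : w ≠ 0 := by
          intro h
          rw [h, sympForm_zero_right] at hw
          exact hw rfl
        have hc1D : ∀ l, Function.update (Function.update c r 0) a (c a - w) l ∈ D l := by
          intro l
          by_cases hla : l = a
          · subst hla
            rw [Function.update_self]
            exact (D l).sub_mem (hc l) hwD
          · rw [Function.update_of_ne hla]
            by_cases hlr : l = r
            · subst hlr
              rw [Function.update_self]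
              exact (D l).zero_mem
            · rw [Function.update_of_ne hlr]
              exact hc l
        have hc1S : ∀ l, l ∉ S' →
            Function.update (Function.update c r 0) a (c a - w) l = 0 := by
          intro l hl
          have hla : l ≠ a := fun h => hl (h ▸ haS)
          rw [Function.update_of_ne hla]
          by_cases hlr : l = r
          · subst hlr
            rw [Function.update_self]
          · rw [Function.update_of_ne hlr]
            exact h0 l (by simp [hlr, hl])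
        have hX1 := ih _ hc1D hc1S
        have hX2 : XX M (w + c r) := hall a r har w hwD (c r) (hc r) hw0 hcr
        have hne : Cfsg.sympForm m F
            (∑ l, Function.update (Function.update c r 0) a (c a - w) l) (w + c r) ≠ 0 := by
          rw [sympForm_add_right, S5648.form_comp_one D hD.orthogonal _ hc1D a w hwD,
            S5648.form_comp_one D hD.orthogonal _ hc1D r (c r) (hc r), Function.update_self,
            Function.update_of_ne har.symm, Function.update_self, sympForm_zero_left, add_zero,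
            sympForm_sub_left, sympForm_self, sub_zero]
          exact hw
        have hX3 := XX_add M hM _ _ hX1 hX2 hne
        have e : ∑ l, Function.update (Function.update c r 0) a (c a - w) l + (w + c r) =
            ∑ l, c l := by
          rw [sum_update', sum_update', Function.update_of_ne har]
          abel
        rw [e] at hX3
        exact hX3

theorem block_basis (W : Submodule F (Fin m ⊕ Fin m → F))
    (hnd : Cfsg.Geo.IsNondegenerateOn (Cfsg.sympForm m F) W) :
    ∃ (n : ℕ) (β : Module.Basis (Fin n ⊕ Fin n) F W),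
      (∀ i j : Fin n, Cfsg.sympForm m F (β (Sum.inl i) : Fin m ⊕ Fin m → F) (β (Sum.inr j)) =
        if i = j then 1 else 0) ∧
      (∀ i j : Fin n, Cfsg.sympForm m F (β (Sum.inl i) : Fin m ⊕ Fin m → F) (β (Sum.inl j)) = 0) ∧
      (∀ i j : Fin n, Cfsg.sympForm m F (β (Sum.inr i) : Fin m ⊕ Fin m → F) (β (Sum.inr j)) = 0) := by
  have hBf : ∀ u v, Matrix.toBilin' (Matrix.J (Fin m) F) u v = Cfsg.sympForm m F u v :=
    fun u v => Matrix.toBilin'_apply' _ _ _
  have hR : ∀ x y : W, ((Matrix.toBilin' (Matrix.J (Fin m) F)).restrict W) x y =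
      Cfsg.sympForm m F (x : Fin m ⊕ Fin m → F) (y : Fin m ⊕ Fin m → F) := fun x y => hBf x y
  have hA : ((Matrix.toBilin' (Matrix.J (Fin m) F)).restrict W).IsAlt := by
    intro x
    rw [hR, sympForm_self]
  obtain ⟨n, k', b, h1, h2, h3, h4⟩ := Cfsg.Agent.S0752.result _ hA
  have hk' : k' = 0 := by
    by_contra hne
    have hj : 0 < k' := Nat.pos_of_ne_zero hne
    have hb0 := b.ne_zero (Sum.inr ⟨0, hj⟩)
    have hb0' : ((b (Sum.inr ⟨0, hj⟩) : W) : Fin m ⊕ Fin m → F) ≠ 0 := by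
      intro h
      exact hb0 (Subtype.ext h)
    obtain ⟨x, hxW, hx⟩ := (hnd _ (b (Sum.inr ⟨0, hj⟩)).2 hb0').2
    have := h4 ⟨0, hj⟩ ⟨x, hxW⟩
    rw [hR] at this
    exact hx this
  subst hk'
  refine ⟨n, b.reindex (Equiv.sumEmpty (Fin n ⊕ Fin n) (Fin 0)), ?_, ?_, ?_⟩
  · intro i j
    have := h1 i j
    rw [hR] at this
    rw [Module.Basis.reindex_apply, Module.Basis.reindex_apply]
    exact this
  · intro i j
    have := h2 i j
    rw [hR] at this
    rw [Module.Basis.reindex_apply, Module.Basis.reindex_apply]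
    exact this
  · intro i j
    have := h3 i j
    rw [hR] at this
    rw [Module.Basis.reindex_apply, Module.Basis.reindex_apply]
    exact this

def sigPerm {t : ℕ} (α : Type) (σ : Equiv.Perm (Fin t)) :
    (Σ _ : Fin t, α) ≃ (Σ _ : Fin t, α) where
  toFun p := ⟨σ p.1, p.2⟩
  invFun p := ⟨σ.symm p.1, p.2⟩
  left_inv p := by simp
  right_inv p := by simp

theorem perm_elt {t k : ℕ} (D : Fin t → Submodule F (Fin m ⊕ Fin m → F))
    (hD : Cfsg.Geo.IsNondegenerateMDecomposition (Cfsg.sympForm m F) k D)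
    (σ : Equiv.Perm (Fin t)) :
    ∃ h : Matrix.GeneralLinearGroup (Fin m ⊕ Fin m) F, h ∈ Cfsg.spGL m F ∧
      ∀ i, ∀ x ∈ D i, (h : Matrix (Fin m ⊕ Fin m) (Fin m ⊕ Fin m) F) *ᵥ x ∈ D (σ i) := by
  classical
  have hint : DirectSum.IsInternal D :=
    (DirectSum.isInternal_submodule_iff_iSupIndep_and_iSup_eq_top D).mpr
      ⟨hD.decomp.indep, hD.decomp.iSup_eq_top⟩
  have hβ : ∀ i, ∃ β : Module.Basis (Fin (k / 2) ⊕ Fin (k / 2)) F (D i),
      (∀ a b : Fin (k / 2), Cfsg.sympForm m F (β (Sum.inl a) : Fin m ⊕ Fin m → F)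
        (β (Sum.inr b)) = if a = b then 1 else 0) ∧
      (∀ a b : Fin (k / 2), Cfsg.sympForm m F (β (Sum.inl a) : Fin m ⊕ Fin m → F)
        (β (Sum.inl b)) = 0) ∧
      (∀ a b : Fin (k / 2), Cfsg.sympForm m F (β (Sum.inr a) : Fin m ⊕ Fin m → F)
        (β (Sum.inr b)) = 0) := by
    intro i
    obtain ⟨n', β, h1, h2, h3⟩ := block_basis (D i) (hD.nondegenerate i)
    have hn : n' = k / 2 := by
      have := Module.finrank_eq_card_basis β
      rw [hD.decomp.finrank_eq i] at this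
      simp at this
      omega
    subst hn
    exact ⟨β, h1, h2, h3⟩
  choose β hβ1 hβ2 hβ3 using hβ
  have hE : ∀ i s, hint.collectedBasis β ⟨i, s⟩ = (β i s : Fin m ⊕ Fin m → F) := by
    intro i s
    rw [hint.collectedBasis_coe]
  have hgram : ∀ i i' s s', Cfsg.sympForm m F (β (σ i) s : Fin m ⊕ Fin m → F) (β (σ i') s') =
      Cfsg.sympForm m F (β i s : Fin m ⊕ Fin m → F) (β i' s') := by
    intro i i' s s'
    by_cases hii : i = i'
    · subst hii
      rcases s with a | a <;> rcases s' with b | b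
      · rw [hβ2, hβ2]
      · rw [hβ1, hβ1]
      · rw [sympForm_swap, hβ1, sympForm_swap m (β i (Sum.inr a) : Fin m ⊕ Fin m → F), hβ1]
      · rw [hβ3, hβ3]
    · rw [hD.orthogonal i i' hii _ (β i s).2 _ (β i' s').2,
        hD.orthogonal (σ i) (σ i') (fun h => hii (σ.injective h)) _ (β (σ i) s).2 _ (β (σ i') s').2]
  have hL : ∀ i s, (hint.collectedBasis β).equiv (hint.collectedBasis β)
      (sigPerm (Fin (k / 2) ⊕ Fin (k / 2)) σ) (β i s : Fin m ⊕ Fin m → F) =
      (β (σ i) s : Fin m ⊕ Fin m → F) := by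
    intro i s
    rw [← hE, Module.Basis.equiv_apply, ← hE]
    rfl
  have hBf : ∀ u v, Matrix.toBilin' (Matrix.J (Fin m) F) u v = Cfsg.sympForm m F u v :=
    fun u v => Matrix.toBilin'_apply' _ _ _
  have hiso : ∀ x y, Cfsg.sympForm m F
      ((hint.collectedBasis β).equiv (hint.collectedBasis β)
        (sigPerm (Fin (k / 2) ⊕ Fin (k / 2)) σ) x)
      ((hint.collectedBasis β).equiv (hint.collectedBasis β)
        (sigPerm (Fin (k / 2) ⊕ Fin (k / 2)) σ) y) = Cfsg.sympForm m F x y := by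
    have hB : (Matrix.toBilin' (Matrix.J (Fin m) F)).comp
        (((hint.collectedBasis β).equiv (hint.collectedBasis β)
          (sigPerm (Fin (k / 2) ⊕ Fin (k / 2)) σ)) : (Fin m ⊕ Fin m → F) →ₗ[F] (Fin m ⊕ Fin m → F))
        (((hint.collectedBasis β).equiv (hint.collectedBasis β)
          (sigPerm (Fin (k / 2) ⊕ Fin (k / 2)) σ)) : (Fin m ⊕ Fin m → F) →ₗ[F] (Fin m ⊕ Fin m → F)) =
        Matrix.toBilin' (Matrix.J (Fin m) F) := by
      apply LinearMap.BilinForm.ext_basis (hint.collectedBasis β)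
      rintro ⟨i, s⟩ ⟨i', s'⟩
      rw [LinearMap.BilinForm.comp_apply, hBf, hBf, hE, hE, LinearEquiv.coe_coe, hL, hL, hgram]
    intro x y
    have := LinearMap.congr_fun₂ hB x y
    rw [LinearMap.BilinForm.comp_apply, hBf, hBf] at this
    exact this
  have hAA' : LinearMap.toMatrix' (((hint.collectedBasis β).equiv (hint.collectedBasis β)
        (sigPerm (Fin (k / 2) ⊕ Fin (k / 2)) σ)) : (Fin m ⊕ Fin m → F) →ₗ[F] (Fin m ⊕ Fin m → F)) *
      LinearMap.toMatrix' (((hint.collectedBasis β).equiv (hint.collectedBasis β)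
        (sigPerm (Fin (k / 2) ⊕ Fin (k / 2)) σ)).symm :
          (Fin m ⊕ Fin m → F) →ₗ[F] (Fin m ⊕ Fin m → F)) = 1 := by
    rw [← LinearMap.toMatrix'_comp]
    simp
  have hA'A : LinearMap.toMatrix' (((hint.collectedBasis β).equiv (hint.collectedBasis β)
        (sigPerm (Fin (k / 2) ⊕ Fin (k / 2)) σ)).symm :
          (Fin m ⊕ Fin m → F) →ₗ[F] (Fin m ⊕ Fin m → F)) *
      LinearMap.toMatrix' (((hint.collectedBasis β).equiv (hint.collectedBasis β)
        (sigPerm (Fin (k / 2) ⊕ Fin (k / 2)) σ)) : (Fin m ⊕ Fin m → F) →ₗ[F] (Fin m ⊕ Fin m → F)) = 1 := by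
    rw [← LinearMap.toMatrix'_comp]
    simp
  refine ⟨⟨_, _, hAA', hA'A⟩, ?_, ?_⟩
  · rw [mem_spGL_iff]
    intro u v
    rw [LinearMap.toMatrix'_mulVec, LinearMap.toMatrix'_mulVec]
    exact hiso u v
  · intro i x hx
    rw [LinearMap.toMatrix'_mulVec, LinearEquiv.coe_coe]
    have hrep := congrArg Subtype.val ((β i).sum_repr ⟨x, hx⟩)
    rw [Submodule.coe_sum] at hrep
    simp only [Submodule.coe_smul] at hrep
    rw [← hrep, map_sum]
    apply Submodule.sum_mem
    intro s _
    rw [map_smul, hL]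
    exact (D (σ i)).smul_mem _ (β (σ i) s).2

theorem result {F : Type*} [Field F] [Fintype F] (m : ℕ) (hm : 7 ≤ m) {t : ℕ} (k : ℕ) (D : Fin t → Submodule F (Fin m ⊕ Fin m → F)) (hD : Cfsg.Geo.IsNondegenerateMDecomposition (Cfsg.sympForm m F) k D) (hex : ¬ (k = 2 ∧ Fintype.card F = 2)) : Cfsg.Geo.IsMaximalIn (Cfsg.spGL m F) (Cfsg.Geo.decompositionStabilizer D ⊓ Cfsg.spGL m F) := by
  classical
  refine ⟨strict D hD, ?_⟩
  intro M hHM hMS
  by_cases hMH : M = Cfsg.Geo.decompositionStabilizer D ⊓ Cfsg.spGL m F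
  · exact Or.inl hMH
  · right
    have hexg : ∃ g ∈ M, g ∉ Cfsg.Geo.decompositionStabilizer D := by
      by_contra hcon
      push Not at hcon
      exact hMH (le_antisymm (fun x hx => ⟨hcon x hx, hMS hx⟩) hHM)
    obtain ⟨g, hgM, hg⟩ := hexg
    obtain ⟨i, v, hv, hspread⟩ := exists_spread D hD.decomp g hg
    have hXy : XX M ((g : Matrix (Fin m ⊕ Fin m) (Fin m ⊕ Fin m) F) *ᵥ v) :=
      XX_conj M hMS v (block_XX D hD M hHM i v hv) g hgM
    obtain ⟨c, hc, hsum⟩ := S5648.comp_exists D hD.decomp.iSup_eq_top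
      ((g : Matrix (Fin m ⊕ Fin m) (Fin m ⊕ Fin m) F) *ᵥ v)
    have h2 : ∃ a b, a ≠ b ∧ c a ≠ 0 ∧ c b ≠ 0 := by
      by_contra hcon
      push Not at hcon
      by_cases hall0 : ∀ l, c l = 0
      · apply hspread i
        rw [← hsum, Finset.sum_eq_zero (fun l _ => hall0 l)]
        exact (D i).zero_mem
      · push Not at hall0
        obtain ⟨a, ha⟩ := hall0
        apply hspread a
        rw [← hsum, Finset.sum_eq_single a (fun b _ hba => hcon a b hba.symm ha)
          (fun h => absurd (Finset.mem_univ a) h)]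
        exact hc a
    obtain ⟨a, b, hab, ha, hb⟩ := h2
    rw [← hsum] at hXy
    have hpair := shrink D hD hex M hMS hHM c hc hXy a b hab ha hb
    have hperm : ∀ b c : Fin t, ∃ h ∈ M, ∀ i, ∀ x ∈ D i,
        (h : Matrix (Fin m ⊕ Fin m) (Fin m ⊕ Fin m) F) *ᵥ x ∈ D (Equiv.swap b c i) := by
      intro b c
      obtain ⟨h, hhS, hh⟩ := perm_elt D hD (Equiv.swap b c)
      exact ⟨h, hHM ⟨stab_of_maps D hD.decomp.finrank_eq h _ hh, hhS⟩, hh⟩
    have hall := all_pairs D M hMS hperm a b hab hpair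
    apply le_antisymm hMS
    apply sp_gen M
    intro v
    obtain ⟨c', hc', rfl⟩ := S5648.comp_exists D hD.decomp.iSup_eq_top v
    exact union_step D hD M hMS hHM hall Finset.univ c' hc'
      (fun l hl => absurd (Finset.mem_univ l) hl)

end Cfsg.Agent.S5647
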