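import Cfsg.Statements.S1505
import Mathlib
import Cfsg.Agent.Lib.Helper11.CyclicTIInd

set_option autoImplicit false
open Cfsg

namespace Cfsg.Agent.S1505

open Cfsg.Agent.Lib.Helper11 Cfsg.Agent.Lib.helper7
open scoped ComplexConjugate

open Classical in
/-- Let W₁, W₂ ≤ G form a self-normalising cyclic subgroup W = W₁ ⊔ W₂. For nontrivial linear characters φ, φ' of W trivial on W₂ and ψ, ψ' trivial on W₁, put α = (1 − φ)(1 − ψ) and α' = (1 − φ')(1 − ψ'). Then the function induced from α to G has inner product 1 with the principal character, and the inner product of the functions induced from α and α' is 1 + a + b + ab where a = 1 if φ = φ' (else 0) and b = 1 if ψ = ψ' (else 0). -/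
theorem result {G : Type*} [Group G] [Fintype G] (W₁ W₂ : Subgroup G) (hW : Cfsg.IsSelfNormalizingCyclic W₁ W₂) (φ φ' ψ ψ' : ↥(W₁ ⊔ W₂) →* ℂˣ) (hφ : φ ≠ 1) (hφ' : φ' ≠ 1) (hψ : ψ ≠ 1) (hψ' : ψ' ≠ 1) (hφ₂ : ∀ w : ↥(W₁ ⊔ W₂), (w : G) ∈ W₂ → φ w = 1 ∧ φ' w = 1) (hψ₁ : ∀ w : ↥(W₁ ⊔ W₂), (w : G) ∈ W₁ → ψ w = 1 ∧ ψ' w = 1) : Cfsg.classInner (Cfsg.indFun (W₁ ⊔ W₂) (fun w => 1 - (φ w : ℂ) - (ψ w : ℂ) + (φ w : ℂ) * (ψ w : ℂ))) (fun _ => 1) = 1 ∧ Cfsg.classInner (Cfsg.indFun (W₁ ⊔ W₂) (fun w => 1 - (φ w : ℂ) - (ψ w : ℂ) + (φ w : ℂ) * (ψ w : ℂ))) (Cfsg.indFun (W₁ ⊔ W₂) (fun w => 1 - (φ' w : ℂ) - (ψ' w : ℂ) + (φ' w : ℂ) * (ψ' w : ℂ))) = 1 + (if φ = φ' then 1 else 0) + (if ψ = ψ' then 1 else 0) + (if φ = φ' then 1 else 0) * (if ψ = ψ' then 1 else 0) := by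
  classical
  have : Fintype ↥(W₁ ⊔ W₂) := Fintype.ofFinite _
  have t1 : ∀ w : ↥(W₁ ⊔ W₂), (w : G) ∈ W₂ → φ w = 1 := fun w hw => (hφ₂ w hw).1
  have t1' : ∀ w : ↥(W₁ ⊔ W₂), (w : G) ∈ W₂ → φ' w = 1 := fun w hw => (hφ₂ w hw).2
  have t2 : ∀ w : ↥(W₁ ⊔ W₂), (w : G) ∈ W₁ → ψ w = 1 := fun w hw => (hψ₁ w hw).1
  have t2' : ∀ w : ↥(W₁ ⊔ W₂), (w : G) ∈ W₁ → ψ' w = 1 := fun w hw => (hψ₁ w hw).2
  have o1 : ∀ w : ↥(W₁ ⊔ W₂), (w : G) ∈ W₂ → (1 : ↥(W₁ ⊔ W₂) →* ℂˣ) w = 1 := fun _ _ => rfl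
  have o2 : ∀ w : ↥(W₁ ⊔ W₂), (w : G) ∈ W₁ → (1 : ↥(W₁ ⊔ W₂) →* ℂˣ) w = 1 := fun _ _ => rfl
  change Cfsg.classInner (Cfsg.indFun (W₁ ⊔ W₂) (betaFun φ ψ)) (fun _ => 1) = 1 ∧
    Cfsg.classInner (Cfsg.indFun (W₁ ⊔ W₂) (betaFun φ ψ)) (Cfsg.indFun (W₁ ⊔ W₂) (betaFun φ' ψ')) = _
  constructor
  · rw [h7_frobenius_reciprocity (W₁ ⊔ W₂) (betaFun φ ψ) (fun _ => 1) (fun _ _ => rfl)]
    have e : (fun _ : ↥(W₁ ⊔ W₂) => (1 : ℂ)) = linFun (1 * 1) := by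
      funext w; simp [linFun]
    rw [e, classInner_conj_symm, classInner_linFun_betaFun W₁ W₂ 1 φ 1 ψ o1 t1 o2 t2]
    rw [if_neg (Ne.symm hφ), if_neg (Ne.symm hψ)]
    simp
  · rw [h7_frobenius_reciprocity (W₁ ⊔ W₂) (betaFun φ ψ) _ (h7_indFun_isClassFunction _ _)]
    have e : Cfsg.classInner (betaFun φ ψ) (fun h : ↥(W₁ ⊔ W₂) => Cfsg.indFun (W₁ ⊔ W₂) (betaFun φ' ψ') (h : G)) = Cfsg.classInner (betaFun φ ψ) (betaFun φ' ψ') := by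
      unfold Cfsg.classInner
      congr 1
      apply Finset.sum_congr rfl
      intro w _
      by_cases h1 : (w : G) ∈ W₁
      · rw [betaFun_eq_zero_right φ ψ w (t2 w h1), zero_mul, zero_mul]
      · by_cases h2 : (w : G) ∈ W₂
        · rw [betaFun_eq_zero_left φ ψ w (t1 w h2), zero_mul, zero_mul]
        · show betaFun φ ψ w * conj (Cfsg.indFun (W₁ ⊔ W₂) (betaFun φ' ψ') (w : G)) = _
          rw [indFun_off W₁ W₂ hW (betaFun φ' ψ') (fun w hw => betaFun_eq_zero_right _ _ w (t2' w hw)) (fun w hw => betaFun_eq_zero_left _ _ w (t1' w hw)) w h1 h2]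
    rw [e]
    convert classInner_betaFun_betaFun W₁ W₂ φ φ' ψ ψ' t1 t1' t2 t2' hφ hψ hφ' hψ'

end Cfsg.Agent.S1505
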