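import Cfsg.Statements.S3282
import Cfsg.Agent.Lib.helper2.BSWChar10
import Cfsg.Agent.Lib.Helper13.BSW1
import Cfsg.Agent.Lib.Helper24.BSW5H2
import Cfsg.Agent.Lib.Helper25.BSW4
import Cfsg.Agent.Lib.Helper25.BSW6
import Cfsg.Agent.Lib.Helper25.BSW7

set_option autoImplicit false
open Cfsg

namespace Cfsg.Agent.S3282

/-- The abstract form of the Brauer–Suzuki–Wall Theorem. Let G be a finite group with an involution t and an abelian subgroup K of H = C_G(t) containing t, such that H = K⟨s⟩ for an involution s ∉ K with C_K(s) = ⟨t⟩ and s inverting every element of K, K ∩ K^g = 1 for every g outside H, and all involutions of G conjugate. Then G has a subgroup Q, of order q say, with |G| = q(q+1)(q−1)/2, C_G(x) = Q for every non-identity x ∈ Q, N_G(Q) = QD for an abelian subgroup D of order (q−1)/2 meeting Q trivially, and for every nontrivial subgroup X of D, N_G(X) = N_G(D) = D⟨u⟩ for some involution u ∉ D inverting D. -/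
theorem result {G : Type*} [Group G] [Finite G] (t : G) (ht : orderOf t = 2)
    (K : Subgroup G) (hKab : IsMulCommutative ↥K) (hKH : K ≤ Subgroup.centralizer ({t} : Set G)) (htK : t ∈ K)
    (s : G) (hs : orderOf s = 2) (hsH : s ∈ Subgroup.centralizer ({t} : Set G)) (hsK : s ∉ K)
    (hH : K ⊔ Subgroup.zpowers s = Subgroup.centralizer ({t} : Set G)) (hCK : K ⊓ Subgroup.centralizer ({s} : Set G) = Subgroup.zpowers t)
    (hinv : ∀ x ∈ K, s * x * s⁻¹ = x⁻¹)
    (hTI : ∀ g : G, g ∉ Subgroup.centralizer ({t} : Set G) → K ⊓ K.map (MulAut.conj g).toMonoidHom = ⊥)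
    (hconj : ∀ x y : G, orderOf x = 2 → orderOf y = 2 → IsConj x y) :
    ∃ Q D : Subgroup G, 2 * Nat.card G = Nat.card ↥Q * (Nat.card ↥Q + 1) * (Nat.card ↥Q - 1) ∧
      (∀ x ∈ Q, x ≠ 1 → Subgroup.centralizer ({x} : Set G) = Q) ∧
      IsMulCommutative ↥D ∧ 2 * Nat.card ↥D + 1 = Nat.card ↥Q ∧ Q ⊓ D = ⊥ ∧
      Subgroup.normalizer (Q : Set G) = Q ⊔ D ∧
      ∀ X : Subgroup G, X ≤ D → X ≠ ⊥ →
        Subgroup.normalizer (X : Set G) = Subgroup.normalizer (D : Set G) ∧
        ∃ u : G, orderOf u = 2 ∧ u ∉ D ∧ (∀ d ∈ D, u * d * u⁻¹ = d⁻¹) ∧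
          Subgroup.normalizer (D : Set G) = D ⊔ Subgroup.zpowers u := by
  classical
  open Cfsg.Agent.Lib.helper2 Cfsg.Agent.Lib.Helper13.BSW1 in
  have h : BswHyp t K s := ⟨ht, hKab, hKH, htK, hs, hsH, hsK, hH, hCK, hinv, hTI, hconj⟩
  open Cfsg.Agent.Lib.helper2 Cfsg.Agent.Lib.Helper13.BSW1 in
  have L : BswLoc t K s :=
    { mem_H := fun hx => bsw_mem_H h hx
      mul_s_sq := fun hk => bsw_mul_s_sq h hk
      invol_K := fun hk ho => bsw_invol_K h hk ho
      card_H := bsw_card_H h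
      even_K := bsw_even_K h
      card_invol := bsw_card_invol h
      beta_K := fun hx hx1 => bsw_beta_K h hx hx1 }
  open Cfsg.Agent.Lib.helper2 Cfsg.Agent.Lib.Helper13.BSW1 in
  have T1 : Cfsg.Agent.Lib.Helper25.BSW4.BswT1 t K s :=
    { even_K := bsw_even_K h
      out_odd := fun hx => bsw_out_odd h hx
      card_invol := bsw_card_invol h
      card_in := bsw_card_in h
      beta_pos_iff := fun hx hx1 => bsw_beta_pos_iff hx hx1
      Q := fun hx ha hax => bsw_Q h hx ha hax
      conjK := bsw_conjK h }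
  letI : Fintype G := Fintype.ofFinite G
  letI : Fintype K := Fintype.ofFinite K
  letI : Fintype (Cfsg.IrrCharacter G) := Fintype.ofFinite _
  letI : Fintype (Cfsg.IrrCharacter K) := Fintype.ofFinite _
  have hchar : (∃ X : G → ℂ, Cfsg.Agent.Lib.helper2.BswCharPlus K X) ∨
      (∃ X : G → ℂ, Cfsg.Agent.Lib.helper2.BswCharMinus K X) := by
    have hev := L.even_K
    have hK2 : 2 ≤ Nat.card K := by
      have h1 : orderOf (⟨t, htK⟩ : K) = 2 := by
        rw [← ht]
        exact Subgroup.orderOf_mk t htK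
      have h2 := orderOf_dvd_natCard (⟨t, htK⟩ : K)
      rw [h1] at h2
      exact Nat.le_of_dvd Nat.card_pos h2
    by_cases he : Nat.card K = 2
    · exact Cfsg.Agent.Lib.Helper25.BSW6.bsw_char_two h L he
    · have he3 : 3 ≤ Nat.card K := by omega
      exact Cfsg.Agent.Lib.helper2.bsw_char_of_not_ghost h L he3
        (fun Nν hg => Cfsg.Agent.Lib.Helper25.BSW7.bsw_ghost_false h L Nν hg)
  have hconcl : Cfsg.Agent.Lib.helper2.BswConcl G := by
    rcases hchar with ⟨X, hX⟩ | ⟨X, hX⟩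
    · exact Cfsg.Agent.Lib.Helper25.BSW4.bsw_end_plus T1 X hX
    · exact Cfsg.Agent.Lib.Helper24.bsw_end_minus_h2 h X hX
  exact hconcl

end Cfsg.Agent.S3282
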