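import Cfsg.Statements.S0946
import Mathlib
import Cfsg.Agent.Lib.Helper18.SylowIn

set_option autoImplicit false
open Cfsg

namespace Cfsg.Agent.S0946

open Cfsg.Agent.Lib.Helper18

section aux
variable {G : Type*} [Group G]

theorem conj_pow_of_comm {x y c : G} (h : x * y * x⁻¹ = c * y) (hc : c * x = x * c) :
    ∀ n : ℕ, x ^ n * y * (x ^ n)⁻¹ = c ^ n * y := by
  intro n
  induction n with
  | zero => simp
  | succ n ih =>
    have hcn : c ^ n * x = x * c ^ n := ((show Commute c x from hc).pow_left n).eq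
    calc x ^ (n + 1) * y * (x ^ (n + 1))⁻¹ = x * (x ^ n * y * (x ^ n)⁻¹) * x⁻¹ := by
          rw [pow_succ']; group
      _ = x * (c ^ n * y) * x⁻¹ := by rw [ih]
      _ = (x * c ^ n) * y * x⁻¹ := by group
      _ = (c ^ n * x) * y * x⁻¹ := by rw [hcn]
      _ = c ^ n * (x * y * x⁻¹) := by group
      _ = c ^ n * (c * y) := by rw [h]
      _ = c ^ (n + 1) * y := by rw [pow_succ]; group

theorem odd_pow_of_sq_eq_one {u : G} (hu : u * u = 1) {n : ℕ} (hn : Odd n) : u ^ n = u := by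
  obtain ⟨j, rfl⟩ := hn
  rw [pow_succ, pow_mul, pow_two, hu, one_pow, one_mul]

theorem coprime_trivial_on_omega {P : Subgroup G} (hPc : ∀ a ∈ P, ∀ b ∈ P, a * b = b * a)
    (hP2 : IsPGroup 2 P) (g : G) (hgN : ∀ x ∈ P, g * x * g⁻¹ ∈ P) (n : ℕ) (hn : Odd n) (hgn : g ^ n = 1)
    (hΩ : ∀ t ∈ P, t * t = 1 → g * t * g⁻¹ = t) : ∀ x ∈ P, g * x * g⁻¹ = x := by
  have key : ∀ k : ℕ, ∀ x ∈ P, x ^ (2 ^ k) = 1 → g * x * g⁻¹ = x := by
    intro k
    induction k with
    | zero =>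
      intro x _ hx
      rw [pow_zero, pow_one] at hx
      rw [hx]; group
    | succ k ih =>
      intro x hxP hx
      have h1 : (x * x) ^ (2 ^ k) = 1 := by
        rw [← pow_two, ← pow_mul, ← pow_succ']; exact hx
      have h2 := ih (x * x) (P.mul_mem hxP hxP) h1
      have hyP : g * x * g⁻¹ ∈ P := hgN x hxP
      have h3 : (g * x * g⁻¹) * (g * x * g⁻¹) = x * x := by
        rw [← h2]; group
      have huP : (g * x * g⁻¹) * x⁻¹ ∈ P := P.mul_mem hyP (P.inv_mem hxP)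
      have huu : ((g * x * g⁻¹) * x⁻¹) * ((g * x * g⁻¹) * x⁻¹) = 1 := by
        have hc : x⁻¹ * (g * x * g⁻¹) = (g * x * g⁻¹) * x⁻¹ := hPc _ (P.inv_mem hxP) _ hyP
        calc ((g * x * g⁻¹) * x⁻¹) * ((g * x * g⁻¹) * x⁻¹)
            = (g * x * g⁻¹) * (x⁻¹ * (g * x * g⁻¹)) * x⁻¹ := by group
          _ = (g * x * g⁻¹) * ((g * x * g⁻¹) * x⁻¹) * x⁻¹ := by rw [hc]
          _ = ((g * x * g⁻¹) * (g * x * g⁻¹)) * x⁻¹ * x⁻¹ := by group
          _ = 1 := by rw [h3]; group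
      have hgu := hΩ _ huP huu
      have hyx : g * x * g⁻¹ = ((g * x * g⁻¹) * x⁻¹) * x := by group
      have hcomm : ((g * x * g⁻¹) * x⁻¹) * g = g * ((g * x * g⁻¹) * x⁻¹) := by
        calc ((g * x * g⁻¹) * x⁻¹) * g = (g * ((g * x * g⁻¹) * x⁻¹) * g⁻¹) * g := by rw [hgu]
          _ = g * ((g * x * g⁻¹) * x⁻¹) := by group
      have hpow := conj_pow_of_comm hyx hcomm n
      rw [hgn, odd_pow_of_sq_eq_one huu hn] at hpow
      have h4 : (g * x * g⁻¹) * x⁻¹ = 1 := by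
        have h5 : (1 : G) * x * (1 : G)⁻¹ = x := by group
        rw [h5] at hpow
        calc (g * x * g⁻¹) * x⁻¹ = ((g * x * g⁻¹) * x⁻¹ * x) * x⁻¹ := by group
          _ = x * x⁻¹ := by rw [← hpow]
          _ = 1 := mul_inv_cancel x
      calc g * x * g⁻¹ = ((g * x * g⁻¹) * x⁻¹) * x := by group
        _ = x := by rw [h4, one_mul]
  intro x hx
  obtain ⟨k, hk⟩ := hP2 ⟨x, hx⟩
  exact key k x hx (congrArg Subtype.val hk)

theorem zmod_two_pow_add_self (m : ℕ) (hm : 1 ≤ m) (a : ZMod (2 ^ m)) (h : a + a = 0) :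
    a = 0 ∨ a = ((2 ^ (m - 1) : ℕ) : ZMod (2 ^ m)) := by
  haveI : NeZero (2 ^ m) := ⟨by positivity⟩
  have hv : a.val < 2 ^ m := ZMod.val_lt a
  have h1 : (a + a).val = 0 := by rw [h]; exact ZMod.val_zero
  rw [ZMod.val_add] at h1
  have h2 : 2 ^ m ∣ a.val + a.val := Nat.dvd_of_mod_eq_zero h1
  have hm' : 2 ^ m = 2 * 2 ^ (m - 1) := by
    rw [← pow_succ']; congr 1; omega
  obtain ⟨c, hc⟩ := h2
  have hi : a = ((a.val : ℕ) : ZMod (2 ^ m)) := (ZMod.natCast_zmod_val a).symm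
  have hpos : 0 < 2 ^ (m - 1) := by positivity
  have hc2 : c = 0 ∨ c = 1 := by
    rcases c with _ | _ | c
    · left; rfl
    · right; rfl
    · exfalso
      have : 2 ^ m * (c + 1 + 1) ≥ 2 ^ m * 2 := Nat.mul_le_mul_left _ (by omega)
      omega
  rcases hc2 with h0 | h0
  · left
    have : a.val = 0 := by rw [h0] at hc; omega
    rw [hi, this, Nat.cast_zero]
  · right
    have : a.val = 2 ^ (m - 1) := by rw [h0] at hc; omega
    rw [hi, this]

end aux

theorem result {G : Type*} [Group G] [Finite G] (P : Sylow 2 G) (m : ℕ) (hm : 1 ≤ m) (e : (P : Subgroup G) ≃* Multiplicative (ZMod (2 ^ m) × ZMod (2 ^ m))) : (∃ N : Subgroup G, N.Normal ∧ Subgroup.IsComplement' N (P : Subgroup G)) ∨ ∀ s t : G, orderOf s = 2 → orderOf t = 2 → IsConj s t := by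
  classical
  have hPc : ∀ a ∈ (P : Subgroup G), ∀ b ∈ (P : Subgroup G), a * b = b * a := by
    intro a ha b hb
    have h0 : e ⟨a, ha⟩ * e ⟨b, hb⟩ = e ⟨b, hb⟩ * e ⟨a, ha⟩ := mul_comm _ _
    rw [← map_mul, ← map_mul] at h0
    exact congrArg Subtype.val (e.injective h0)
  by_cases hNC : Subgroup.normalizer ((P : Subgroup G) : Set G) ≤ Subgroup.centralizer ((P : Subgroup G) : Set G)
  · left
    exact ⟨_, inferInstance, MonoidHom.ker_transferSylow_isComplement' P hNC⟩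
  · right
    haveI hp2 : Fact (Nat.Prime 2) := ⟨Nat.prime_two⟩
    obtain ⟨g₀, hg₀N, hg₀C⟩ := SetLike.not_le_iff_exists.mp hNC
    have hSyl : IsSylowIn 2 (P : Subgroup G) (Subgroup.normalizer ((P : Subgroup G) : Set G)) :=
      isSylowIn_of_sylow_le P Subgroup.le_normalizer
    have hPcent : ∀ x ∈ (P : Subgroup G), x ∈ Subgroup.centralizer ((P : Subgroup G) : Set G) := by
      intro x hx
      rw [Subgroup.mem_centralizer_iff]
      intro y hy
      exact hPc y hy x hx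
    have h2el : ∀ x ∈ Subgroup.normalizer ((P : Subgroup G) : Set G), ∀ k : ℕ, x ^ (2 ^ k) = 1 →
        x ∈ (P : Subgroup G) := by
      intro x hxN k hxk
      have hR : IsPGroup 2 (Subgroup.zpowers x) := by
        have hd : orderOf x ∣ 2 ^ k := orderOf_dvd_of_pow_eq_one hxk
        obtain ⟨i, _, hi⟩ := (Nat.dvd_prime_pow Nat.prime_two).mp hd
        apply IsPGroup.of_card (n := i)
        rw [Nat.card_zpowers, hi]
      obtain ⟨h, hhN, hle⟩ := hSyl.exists_conj_le (by rw [Subgroup.zpowers_le]; exact hxN) hR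
      have h1 : h * x * h⁻¹ ∈ (P : Subgroup G) := hle (conj_mem_conjSub (Subgroup.mem_zpowers x))
      have h2 := (Subgroup.mem_normalizer_iff.mp (Subgroup.inv_mem _ hhN) (h * x * h⁻¹)).mp h1
      have h3 : h⁻¹ * (h * x * h⁻¹) * h⁻¹⁻¹ = x := by group
      rwa [h3] at h2
    obtain ⟨a, r, hr, hor⟩ := Nat.exists_eq_two_pow_mul_odd (orderOf_pos g₀).ne'
    have hgr : (g₀ ^ (2 ^ a)) ^ r = 1 := by rw [← pow_mul, ← hor]; exact pow_orderOf_eq_one g₀
    have hgN : g₀ ^ (2 ^ a) ∈ Subgroup.normalizer ((P : Subgroup G) : Set G) := Subgroup.pow_mem _ hg₀N _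
    have hg2 : g₀ ^ r ∈ (P : Subgroup G) :=
      h2el _ (Subgroup.pow_mem _ hg₀N _) a (by rw [← pow_mul, mul_comm, ← hor]; exact pow_orderOf_eq_one g₀)
    have hgC : g₀ ^ (2 ^ a) ∉ Subgroup.centralizer ((P : Subgroup G) : Set G) := by
      intro hgc
      apply hg₀C
      have hcop : Nat.gcd (2 ^ a) r = 1 := Nat.Coprime.pow_left a (Nat.coprime_two_left.mpr hr)
      have hb : ((2 ^ a : ℕ) : ℤ) * Nat.gcdA (2 ^ a) r + (r : ℤ) * Nat.gcdB (2 ^ a) r = 1 := by
        rw [← Nat.gcd_eq_gcd_ab, hcop]; simp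
      have h1 : g₀ = (g₀ ^ (2 ^ a)) ^ (Nat.gcdA (2 ^ a) r) * (g₀ ^ r) ^ (Nat.gcdB (2 ^ a) r) := by
        calc g₀ = g₀ ^ (1 : ℤ) := (zpow_one g₀).symm
          _ = g₀ ^ (((2 ^ a : ℕ) : ℤ) * Nat.gcdA (2 ^ a) r + (r : ℤ) * Nat.gcdB (2 ^ a) r) := by rw [hb]
          _ = g₀ ^ (((2 ^ a : ℕ) : ℤ) * Nat.gcdA (2 ^ a) r) * g₀ ^ ((r : ℤ) * Nat.gcdB (2 ^ a) r) :=
              zpow_add _ _ _
          _ = (g₀ ^ ((2 ^ a : ℕ) : ℤ)) ^ (Nat.gcdA (2 ^ a) r) * (g₀ ^ (r : ℤ)) ^ (Nat.gcdB (2 ^ a) r) := by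
              rw [zpow_mul, zpow_mul]
          _ = (g₀ ^ (2 ^ a)) ^ (Nat.gcdA (2 ^ a) r) * (g₀ ^ r) ^ (Nat.gcdB (2 ^ a) r) := by
              rw [zpow_natCast, zpow_natCast]
      rw [h1]
      exact Subgroup.mul_mem _ (Subgroup.zpow_mem _ hgc _) (Subgroup.zpow_mem _ (hPcent _ hg2) _)
    generalize g₀ ^ (2 ^ a) = g at hgr hgN hgC
    have hgconj : ∀ x ∈ (P : Subgroup G), g * x * g⁻¹ ∈ (P : Subgroup G) :=
      fun x hx => (Subgroup.mem_normalizer_iff.mp hgN x).mp hx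
    obtain ⟨t, htP, htt, htg⟩ : ∃ t ∈ (P : Subgroup G), t * t = 1 ∧ g * t * g⁻¹ ≠ t := by
      by_contra hcon
      push Not at hcon
      apply hgC
      rw [Subgroup.mem_centralizer_iff]
      intro x hx
      have h0 := coprime_trivial_on_omega hPc P.isPGroup' g hgconj r hr hgr hcon x hx
      calc x * g = (g * x * g⁻¹) * g := by rw [h0]
        _ = g * x := by group
    have ht1 : t ≠ 1 := by
      intro h0; apply htg; rw [h0]; group
    have ht₁P : g * t * g⁻¹ ∈ (P : Subgroup G) := hgconj t htP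
    have ht₂P : g * (g * t * g⁻¹) * g⁻¹ ∈ (P : Subgroup G) := hgconj _ ht₁P
    have ht₁t₁ : (g * t * g⁻¹) * (g * t * g⁻¹) = 1 := by
      calc (g * t * g⁻¹) * (g * t * g⁻¹) = g * (t * t) * g⁻¹ := by group
        _ = 1 := by rw [htt]; group
    have ht₂t₂ : (g * (g * t * g⁻¹) * g⁻¹) * (g * (g * t * g⁻¹) * g⁻¹) = 1 := by
      calc (g * (g * t * g⁻¹) * g⁻¹) * (g * (g * t * g⁻¹) * g⁻¹)
          = g * ((g * t * g⁻¹) * (g * t * g⁻¹)) * g⁻¹ := by group
        _ = 1 := by rw [ht₁t₁]; group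
    have h12 : g * (g * t * g⁻¹) * g⁻¹ ≠ g * t * g⁻¹ := by
      intro h0
      apply htg
      calc g * t * g⁻¹ = g⁻¹ * (g * (g * t * g⁻¹) * g⁻¹) * g := by group
        _ = g⁻¹ * (g * t * g⁻¹) * g := by rw [h0]
        _ = t := by group
    have h02 : g * (g * t * g⁻¹) * g⁻¹ ≠ t := by
      intro h0
      apply htg
      have hc : Commute (g * g) t := by
        show g * g * t = t * (g * g)
        calc g * g * t = (g * (g * t * g⁻¹) * g⁻¹) * (g * g) := by group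
          _ = t * (g * g) := by rw [h0]
      obtain ⟨j, hj⟩ := hr
      have hg' : g = (g * g) ^ (j + 1) := by
        rw [← pow_two, ← pow_mul, show 2 * (j + 1) = r + 1 by omega, pow_succ, hgr, one_mul]
      have hc2 : Commute g t := by rw [hg']; exact hc.pow_left _
      calc g * t * g⁻¹ = (t * g) * g⁻¹ := by rw [hc2.eq]
        _ = t := by group
    have h1t₁ : g * t * g⁻¹ ≠ 1 := by
      intro h0; apply ht1
      calc t = g⁻¹ * (g * t * g⁻¹) * g := by group
        _ = 1 := by rw [h0]; group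
    have h1t₂ : g * (g * t * g⁻¹) * g⁻¹ ≠ 1 := by
      intro h0; apply h1t₁
      calc g * t * g⁻¹ = g⁻¹ * (g * (g * t * g⁻¹) * g⁻¹) * g := by group
        _ = 1 := by rw [h0]; group
    -- counting the solutions of x * x = 1 in P
    haveI : Fintype ↥(P : Subgroup G) := Fintype.ofFinite _
    let f : ↥(P : Subgroup G) → ZMod (2 ^ m) × ZMod (2 ^ m) := fun x => Multiplicative.toAdd (e x)
    have hf : Function.Injective f := fun x y hxy => e.injective (Multiplicative.toAdd.injective hxy)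
    let hh : ZMod (2 ^ m) := ((2 ^ (m - 1) : ℕ) : ZMod (2 ^ m))
    let S : Finset (ZMod (2 ^ m) × ZMod (2 ^ m)) := {(0, 0), (0, hh), (hh, 0), (hh, hh)}
    let Ωf : Finset ↥(P : Subgroup G) := Finset.univ.filter (fun x => x * x = 1)
    have hmaps : ∀ x ∈ Ωf, f x ∈ S := by
      intro x hx
      have hxx : x * x = 1 := (Finset.mem_filter.mp hx).2
      have h0 : f x + f x = 0 := by
        show Multiplicative.toAdd (e x) + Multiplicative.toAdd (e x) = 0
        rw [← toAdd_mul, ← map_mul, hxx, map_one, toAdd_one]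
      have h1 : (f x).1 + (f x).1 = 0 := congrArg Prod.fst h0
      have h2 : (f x).2 + (f x).2 = 0 := congrArg Prod.snd h0
      have e1 := zmod_two_pow_add_self m hm _ h1
      have e2 := zmod_two_pow_add_self m hm _ h2
      have hfx : f x = ((f x).1, (f x).2) := rfl
      rw [hfx]
      rcases e1 with e1 | e1 <;> rcases e2 with e2 | e2 <;> rw [e1, e2] <;> simp [S, hh]
    have hcardΩ : Ωf.card ≤ 4 := by
      calc Ωf.card ≤ S.card := Finset.card_le_card_of_injOn f hmaps hf.injOn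
        _ ≤ 4 := Finset.card_le_four
    obtain ⟨t0, ht0⟩ : ∃ t0 : ↥(P : Subgroup G), (t0 : G) = t := ⟨⟨t, htP⟩, rfl⟩
    obtain ⟨t1, ht1'⟩ : ∃ t1 : ↥(P : Subgroup G), (t1 : G) = g * t * g⁻¹ := ⟨⟨_, ht₁P⟩, rfl⟩
    obtain ⟨t2, ht2'⟩ : ∃ t2 : ↥(P : Subgroup G), (t2 : G) = g * (g * t * g⁻¹) * g⁻¹ := ⟨⟨_, ht₂P⟩, rfl⟩
    have d01 : (1 : ↥(P : Subgroup G)) ≠ t0 := fun h0 => ht1 (by rw [← ht0, ← h0]; rfl)
    have d02 : (1 : ↥(P : Subgroup G)) ≠ t1 := fun h0 => h1t₁ (by rw [← ht1', ← h0]; rfl)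
    have d03 : (1 : ↥(P : Subgroup G)) ≠ t2 := fun h0 => h1t₂ (by rw [← ht2', ← h0]; rfl)
    have d12 : t0 ≠ t1 := fun h0 => htg (by rw [← ht1', ← h0, ht0])
    have d13 : t0 ≠ t2 := fun h0 => h02 (by rw [← ht2', ← h0, ht0])
    have d23 : t1 ≠ t2 := fun h0 => h12 (by rw [← ht2', ← h0, ht1'])
    let T : Finset ↥(P : Subgroup G) := {1, t0, t1, t2}
    have hTΩ : T ⊆ Ωf := by
      intro x hx
      simp only [T, Finset.mem_insert, Finset.mem_singleton] at hx
      apply Finset.mem_filter.mpr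
      refine ⟨Finset.mem_univ _, ?_⟩
      rcases hx with rfl | rfl | rfl | rfl
      · exact mul_one 1
      · exact Subtype.ext (by rw [Subgroup.coe_mul, ht0, htt]; rfl)
      · exact Subtype.ext (by rw [Subgroup.coe_mul, ht1', ht₁t₁]; rfl)
      · exact Subtype.ext (by rw [Subgroup.coe_mul, ht2', ht₂t₂]; rfl)
    have hTcard : T.card = 4 := by
      have n1 : (1 : ↥(P : Subgroup G)) ∉ ({t0, t1, t2} : Finset ↥(P : Subgroup G)) := by
        simp only [Finset.mem_insert, Finset.mem_singleton, not_or]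
        exact ⟨d01, d02, d03⟩
      have n2 : t0 ∉ ({t1, t2} : Finset ↥(P : Subgroup G)) := by
        simp only [Finset.mem_insert, Finset.mem_singleton, not_or]
        exact ⟨d12, d13⟩
      have n3 : t1 ∉ ({t2} : Finset ↥(P : Subgroup G)) := by
        simp only [Finset.mem_singleton]
        exact d23
      show Finset.card (insert (1 : ↥(P : Subgroup G)) (insert t0 (insert t1 ({t2} : Finset ↥(P : Subgroup G))))) = 4
      rw [Finset.card_insert_of_notMem n1, Finset.card_insert_of_notMem n2, Finset.card_insert_of_notMem n3,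
        Finset.card_singleton]
    have hTeq : T = Ωf := Finset.eq_of_subset_of_card_le hTΩ (by rw [hTcard]; exact hcardΩ)
    have hinvP : ∀ s ∈ (P : Subgroup G), s * s = 1 → s ≠ 1 → ∃ c : G, c * t * c⁻¹ = s := by
      intro s hsP hss hs1
      have hsΩ : (⟨s, hsP⟩ : ↥(P : Subgroup G)) ∈ Ωf :=
        Finset.mem_filter.mpr ⟨Finset.mem_univ _, Subtype.ext hss⟩
      rw [← hTeq] at hsΩ
      simp only [T, Finset.mem_insert, Finset.mem_singleton] at hsΩ
      rcases hsΩ with h0 | h0 | h0 | h0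
      · exact absurd (congrArg Subtype.val h0) hs1
      · have hs : s = (t0 : G) := congrArg Subtype.val h0
        exact ⟨1, by rw [hs, ht0]; group⟩
      · have hs : s = (t1 : G) := congrArg Subtype.val h0
        exact ⟨g, by rw [hs, ht1']⟩
      · have hs : s = (t2 : G) := congrArg Subtype.val h0
        exact ⟨g * g, by rw [hs, ht2']; group⟩
    have hconjt : ∀ s : G, orderOf s = 2 → ∃ c : G, c * t * c⁻¹ = s := by
      intro s hs
      have hR : IsPGroup 2 (Subgroup.zpowers s) := by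
        apply IsPGroup.of_card (n := 1)
        rw [Nat.card_zpowers, hs, pow_one]
      obtain ⟨x, _, hle⟩ := (isSylowIn_top_of_sylow P).exists_conj_le (R := Subgroup.zpowers s) le_top hR
      have h1 : x * s * x⁻¹ ∈ (P : Subgroup G) := hle (conj_mem_conjSub (Subgroup.mem_zpowers s))
      have hss : s * s = 1 := by
        have h0 := pow_orderOf_eq_one s
        rw [hs, pow_two] at h0
        exact h0
      have hs1 : s ≠ 1 := by
        intro h0; rw [h0, orderOf_one] at hs; omega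
      obtain ⟨c, hc⟩ := hinvP (x * s * x⁻¹) h1
        (by calc (x * s * x⁻¹) * (x * s * x⁻¹) = x * (s * s) * x⁻¹ := by group
              _ = 1 := by rw [hss]; group)
        (by intro h0; apply hs1
            calc s = x⁻¹ * (x * s * x⁻¹) * x := by group
              _ = 1 := by rw [h0]; group)
      refine ⟨x⁻¹ * c, ?_⟩
      calc x⁻¹ * c * t * (x⁻¹ * c)⁻¹ = x⁻¹ * (c * t * c⁻¹) * x := by group
        _ = x⁻¹ * (x * s * x⁻¹) * x := by rw [hc]
        _ = s := by group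
    intro s t' hs ht'
    obtain ⟨c₁, hc₁⟩ := hconjt s hs
    obtain ⟨c₂, hc₂⟩ := hconjt t' ht'
    rw [isConj_iff]
    refine ⟨c₂ * c₁⁻¹, ?_⟩
    rw [← hc₁, ← hc₂]; group

end Cfsg.Agent.S0946
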