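import Mathlib
import Cfsg.Statements.S1023
import Cfsg.Agent.S1024
import Cfsg.Agent.Lib.helper8.ChevSLadd
import Cfsg.Agent.Lib.helper8.ChevRefl
import Cfsg.Agent.Lib.helper8.ChevTabSLD4
import Cfsg.Agent.Lib.helper8.ChevTabSLE6
import Cfsg.Agent.Lib.helper8.ChevTabSLE7
import Cfsg.Agent.Lib.helper8.ChevTabSLE8
import Cfsg.Agent.Lib.helper8.ChevTabAddG2
import Cfsg.Agent.Lib.helper8.ChevTabAddB2
import Cfsg.Agent.Lib.helper8.ChevTabAddF4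

set_option autoImplicit false
open Cfsg

namespace Cfsg.Agent.S1023

open Cfsg.Lie Cfsg.Lie.ChevalleyDatum Cfsg.Agent.Lib.helper8

theorem x_zero {F : Type*} [Field F] (D : ChevalleyDatum) (r : ℕ) : D.x F r 0 = 1 := by
  unfold ChevalleyDatum.x
  split_ifs with h
  · exact Cfsg.Agent.S1024.xMat_zero D ⟨r, h⟩
  · rfl

theorem main_refl {F : Type*} [Field F] (D : ChevalleyDatum) (h : h8addChk D = true) (r : ℕ)
    (hr : r < D.nroots) (t₁ t₂ : F) : D.x F r t₁ * D.x F r t₂ = D.x F r (t₁ + t₂) := by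
  by_cases h₁ : t₁ = 0
  · rw [h₁, x_zero, one_mul, zero_add]
  · by_cases h₂ : t₂ = 0
    · rw [h₂, x_zero, mul_one, add_zero]
    · exact h8x_add_refl D h r hr t₁ t₂ h₁ h₂

theorem result {F : Type*} [Field F] (D : Cfsg.Lie.ChevalleyDatum) (hD : D ∈ [Cfsg.Lie.chevG2, Cfsg.Lie.chevB2, Cfsg.Lie.chevD4, Cfsg.Lie.chevF4, Cfsg.Lie.chevE6, Cfsg.Lie.chevE7, Cfsg.Lie.chevE8]) (r : ℕ) (hr : r < D.nroots) (t₁ t₂ : F) :
    D.x F r t₁ * D.x F r t₂ = D.x F r (t₁ + t₂) := by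
  simp only [List.mem_cons, List.mem_nil_iff, or_false] at hD
  rcases hD with rfl | rfl | rfl | rfl | rfl | rfl | rfl
  · exact main_refl _ h8addChk_G2 r hr t₁ t₂
  · exact main_refl _ h8addChk_B2 r hr t₁ t₂
  · exact h8x_add_SL _ h8SL_D4 r hr t₁ t₂
  · exact main_refl _ h8addChk_F4 r hr t₁ t₂
  · exact h8x_add_SL _ h8SL_E6 r hr t₁ t₂
  · exact h8x_add_SL _ h8SL_E7 r hr t₁ t₂
  · exact h8x_add_SL _ h8SL_E8 r hr t₁ t₂

end Cfsg.Agent.S1023
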