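import Cfsg.Statements.S3061
import Mathlib.Data.Set.Finite.Lemmas
import Cfsg.Agent.Lib.Helper18.PPrimeCore
import Cfsg.Agent.Lib.Helper18.SylowIn

set_option autoImplicit false
open Cfsg

namespace Cfsg.Agent.S3061

open Cfsg.Agent.Lib.Helper18

def InD {S : Type*} [Group S] (R A : Subgroup S) : Prop :=
  A ≤ R ∧ IsMulCommutative A ∧ ∀ x ∈ R,
    ⁅⁅A ⊔ Subgroup.zpowers x, A ⊔ Subgroup.zpowers x⁆, A ⊔ Subgroup.zpowers x⁆ = ⊥ →
      ∀ a ∈ A, a * x = x * a

theorem InD.mono {S : Type*} [Group S] {R R' A : Subgroup S} (h : InD R A) (hA : A ≤ R')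
    (hR : R' ≤ R) : InD R' A :=
  ⟨hA, h.2.1, fun x hx => h.2.2 x (hR hx)⟩

theorem InD.conj {S : Type*} [Group S] {R A : Subgroup S} (h : InD R A) {g : S} (hg : g ∈ R) :
    InD R (conjSub g A) := by
  obtain ⟨h1, h2, h3⟩ := h
  refine ⟨conjSub_le_of_mem h1 hg, ?_, ?_⟩
  · haveI := h2
    exact Subgroup.map_isMulCommutative A _
  · intro x hx hcl b hb
    obtain ⟨a, ha, rfl⟩ := hb
    have hx' : g⁻¹ * x * g ∈ R := R.mul_mem (R.mul_mem (R.inv_mem hg) hx) hg
    have hmap : conjSub g A ⊔ Subgroup.zpowers x =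
        (A ⊔ Subgroup.zpowers (g⁻¹ * x * g)).map (MulAut.conj g).toMonoidHom := by
      rw [Subgroup.map_sup, MonoidHom.map_zpowers]
      congr 2
      simp [mul_assoc]
    rw [hmap, ← Subgroup.map_commutator, ← Subgroup.map_commutator,
      Subgroup.map_eq_bot_iff_of_injective _ (MulAut.conj g).injective] at hcl
    have := h3 _ hx' hcl a ha
    show g * a * g⁻¹ * x = x * (g * a * g⁻¹)
    calc g * a * g⁻¹ * x = g * (a * (g⁻¹ * x * g)) * g⁻¹ := by simp [mul_assoc]
      _ = g * ((g⁻¹ * x * g) * a) * g⁻¹ := by rw [this]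
      _ = x * (g * a * g⁻¹) := by simp [mul_assoc]

theorem commutator_le_inf_of_sup {S : Type*} [Group S] (R X Y : Subgroup S) (hXR : X ≤ R) (hYR : Y ≤ R)
    (hX : IsMulCommutative X) (hY : IsMulCommutative Y)
    (hnX : R ≤ Subgroup.normalizer (X : Set S)) (hnY : R ≤ Subgroup.normalizer (Y : Set S))
    (hsup : X ⊔ Y = R) : ⁅R, R⁆ ≤ X ⊓ Y := by
  haveI : (X.subgroupOf R).Normal := (Subgroup.normal_subgroupOf_iff_le_normalizer hXR).mpr hnX
  haveI : (Y.subgroupOf R).Normal := (Subgroup.normal_subgroupOf_iff_le_normalizer hYR).mpr hnY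
  have hXc : IsMulCommutative ↥(X.subgroupOf R) := inferInstance
  have hYc : IsMulCommutative ↥(Y.subgroupOf R) := inferInstance
  have htop : X.subgroupOf R ⊔ Y.subgroupOf R = ⊤ := by
    rw [← Subgroup.subgroupOf_sup hXR hYR, hsup, Subgroup.subgroupOf_self]
  have htop' : Y.subgroupOf R ⊔ X.subgroupOf R = ⊤ := by rw [sup_comm]; exact htop
  have h1 : _root_.commutator ↥R ≤ X.subgroupOf R :=
    Subgroup.Normal.commutator_le_of_self_sup_commutative_eq_top htop hYc
  have h2 : _root_.commutator ↥R ≤ Y.subgroupOf R :=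
    Subgroup.Normal.commutator_le_of_self_sup_commutative_eq_top htop' hXc
  rw [← Subgroup.map_subtype_commutator R]
  rintro _ ⟨w, hw, rfl⟩
  exact ⟨h1 hw, h2 hw⟩

theorem class_two_of_sup {S : Type*} [Group S] (R X Y : Subgroup S) (hXR : X ≤ R) (hYR : Y ≤ R)
    (hX : IsMulCommutative X) (hY : IsMulCommutative Y)
    (hnX : R ≤ Subgroup.normalizer (X : Set S)) (hnY : R ≤ Subgroup.normalizer (Y : Set S))
    (hsup : X ⊔ Y = R) : ⁅⁅R, R⁆, R⁆ = ⊥ := by
  have h1 := commutator_le_inf_of_sup R X Y hXR hYR hX hY hnX hnY hsup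
  have hXc : X ≤ Subgroup.centralizer (X : Set S) := Subgroup.le_centralizer_iff_isMulCommutative.mpr hX
  have hYc : Y ≤ Subgroup.centralizer (Y : Set S) := Subgroup.le_centralizer_iff_isMulCommutative.mpr hY
  have h2 : R ≤ Subgroup.centralizer ((X ⊓ Y : Subgroup S) : Set S) := by
    rw [← hsup]
    apply sup_le
    · exact le_trans hXc (Subgroup.centralizer_le (by exact_mod_cast (inf_le_left : X ⊓ Y ≤ X)))
    · exact le_trans hYc (Subgroup.centralizer_le (by exact_mod_cast (inf_le_right : X ⊓ Y ≤ Y)))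
  rw [Subgroup.commutator_eq_bot_iff_le_centralizer]
  refine le_trans h1 ?_
  rw [Subgroup.le_centralizer_iff]
  exact h2

theorem exists_normal_abelian {S : Type*} [Group S] [Finite S] {p : ℕ} [Fact p.Prime] (hS : IsPGroup p S)
    (R : Subgroup S)
    (ih : ∀ M : Subgroup S, Nat.card M < Nat.card R → ∀ A B : Subgroup S, InD M A → InD M B →
      B ≤ Subgroup.centralizer (A : Set S))
    (A : Subgroup S) (hA : InD R A) (hne : A ≠ R) :
    ∃ X : Subgroup S, A ≤ X ∧ X ≤ R ∧ IsMulCommutative X ∧ R ≤ Subgroup.normalizer (X : Set S) := by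
  have hAR : A < R := lt_of_le_of_ne hA.1 hne
  obtain ⟨M, ⟨hAM, hMR⟩, hmax⟩ := Set.exists_max_image {M : Subgroup S | A ≤ M ∧ M < R}
    (fun M => Nat.card M) (Set.toFinite _) ⟨A, le_refl A, hAR⟩
  have hRp : IsPGroup p R := hS.to_subgroup R
  obtain ⟨z, hzR, hzN, hzM⟩ := exists_mem_normalizer_not_mem_of_lt_pGroup hRp hMR
  have hMN : M ≤ R ⊓ Subgroup.normalizer (M : Set S) := le_inf hMR.le Subgroup.le_normalizer
  have hnorm : R ≤ Subgroup.normalizer (M : Set S) := by
    by_contra hcon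
    have hlt : R ⊓ Subgroup.normalizer (M : Set S) < R := by
      refine lt_of_le_of_ne inf_le_left ?_
      intro h
      exact hcon (h ▸ inf_le_right)
    have h1 := hmax _ ⟨le_trans hAM hMN, hlt⟩
    have h2 : R ⊓ Subgroup.normalizer (M : Set S) = M :=
      (Subgroup.eq_of_le_of_card_ge hMN h1).symm
    exact hzM (h2 ▸ ⟨hzR, hzN⟩)
  have hcardM : Nat.card M < Nat.card R := by
    by_contra hcon
    rw [not_lt] at hcon
    exact (ne_of_lt hMR) (Subgroup.eq_of_le_of_card_ge hMR.le hcon)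
  have hconjM : ∀ g ∈ R, InD M (conjSub g A) := by
    intro g hg
    refine (hA.conj hg).mono ?_ hMR.le
    have := conjSub_eq_of_mem_normalizer (hnorm hg)
    rw [← this]
    exact conjSub_mono hAM
  have hcomm : ∀ g ∈ R, ∀ h ∈ R, conjSub h A ≤ Subgroup.centralizer ((conjSub g A : Subgroup S) : Set S) :=
    fun g hg h hh => ih M hcardM _ _ (hconjM g hg) (hconjM h hh)
  refine ⟨⨆ g : R, conjSub (g : S) A, ?_, ?_, ?_, ?_⟩
  · have := le_iSup (fun g : R => conjSub (g : S) A) 1
    simpa [conjSub_one] using this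
  · exact iSup_le fun g => conjSub_le_of_mem hA.1 g.2
  · rw [← Subgroup.le_centralizer_iff_isMulCommutative]
    apply iSup_le
    intro g
    rw [Subgroup.le_centralizer_iff]
    apply iSup_le
    intro h
    exact hcomm g g.2 h h.2
  · intro r hr
    apply mem_normalizer_of_conjSub_le
    unfold conjSub
    rw [Subgroup.map_iSup]
    apply iSup_le
    intro g
    have : Subgroup.map (MulAut.conj r).toMonoidHom (conjSub (g : S) A) = conjSub (r * g) A :=
      conjSub_mul r g A
    rw [this]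
    exact le_iSup (fun g : R => conjSub (g : S) A) ⟨r * g, R.mul_mem hr g.2⟩

theorem comm_of_InD {S : Type*} [Group S] [Finite S] {p : ℕ} [Fact p.Prime] (hS : IsPGroup p S) :
    ∀ n : ℕ, ∀ R : Subgroup S, Nat.card R = n → ∀ A B : Subgroup S, InD R A → InD R B →
      B ≤ Subgroup.centralizer (A : Set S) := by
  intro n
  induction n using Nat.strong_induction_on with
  | _ n ih =>
    intro R hR A B hA hB
    have ih' : ∀ M : Subgroup S, Nat.card M < Nat.card R → ∀ A B : Subgroup S, InD M A → InD M B →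
        B ≤ Subgroup.centralizer (A : Set S) := by
      intro M hM
      exact ih (Nat.card M) (hR ▸ hM) M rfl
    have hT : A ⊔ B ≤ R := sup_le hA.1 hB.1
    by_cases hTR : A ⊔ B = R
    · by_cases hAR : A = R
      · have hAc : A ≤ Subgroup.centralizer (A : Set S) :=
          Subgroup.le_centralizer_iff_isMulCommutative.mpr hA.2.1
        exact le_trans hB.1 (hAR ▸ hAc)
      · by_cases hBR : B = R
        · have hBc : B ≤ Subgroup.centralizer (B : Set S) :=
            Subgroup.le_centralizer_iff_isMulCommutative.mpr hB.2.1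
          rw [Subgroup.le_centralizer_iff]
          exact le_trans hA.1 (hBR ▸ hBc)
        · obtain ⟨X, hAX, hXR, hXc, hXn⟩ := exists_normal_abelian hS R ih' A hA hAR
          obtain ⟨Y, hBY, hYR, hYc, hYn⟩ := exists_normal_abelian hS R ih' B hB hBR
          have hsup : X ⊔ Y = R :=
            le_antisymm (sup_le hXR hYR) (hTR ▸ sup_le_sup hAX hBY)
          have hcl := class_two_of_sup R X Y hXR hYR hXc hYc hXn hYn hsup
          intro b hb
          rw [Subgroup.mem_centralizer_iff]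
          intro a ha
          have hbR : b ∈ R := hB.1 hb
          have hle : A ⊔ Subgroup.zpowers b ≤ R := sup_le hA.1 (by
            rw [Subgroup.zpowers_le]; exact hbR)
          have hcl' : ⁅⁅A ⊔ Subgroup.zpowers b, A ⊔ Subgroup.zpowers b⁆, A ⊔ Subgroup.zpowers b⁆ = ⊥ := by
            rw [eq_bot_iff, ← hcl]
            exact Subgroup.commutator_mono (Subgroup.commutator_mono hle hle) hle
          exact hA.2.2 b hbR hcl' a ha
    · have hlt : Nat.card ↥(A ⊔ B) < Nat.card R := by
        by_contra hcon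
        rw [not_lt] at hcon
        exact hTR (Subgroup.eq_of_le_of_card_ge hT hcon)
      exact ih' (A ⊔ B) hlt A B (hA.mono le_sup_left hT) (hB.mono le_sup_right hT)

theorem result {S : Type*} [Group S] [Finite S] {p : ℕ} [Fact p.Prime] (hS : IsPGroup p S) :
    Cfsg.dStar S ∈ Cfsg.dStarFamily S := by
  have hfam : ∀ A ∈ Cfsg.dStarFamily S, InD ⊤ A := by
    intro A hA
    exact ⟨le_top, hA.1, fun x _ => hA.2 x⟩
  have hcomm : ∀ A ∈ Cfsg.dStarFamily S, ∀ B ∈ Cfsg.dStarFamily S,
      B ≤ Subgroup.centralizer (A : Set S) := by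
    intro A hA B hB
    exact comm_of_InD hS _ ⊤ rfl A B (hfam A hA) (hfam B hB)
  refine ⟨?_, ?_⟩
  · rw [← Subgroup.le_centralizer_iff_isMulCommutative]
    unfold Cfsg.dStar
    apply sSup_le
    intro A hA
    rw [Subgroup.le_centralizer_iff]
    apply sSup_le
    intro B hB
    exact hcomm A hA B hB
  · intro x hcl
    have hle : Cfsg.dStar S ≤ Subgroup.centralizer ((Subgroup.zpowers x : Subgroup S) : Set S) := by
      unfold Cfsg.dStar
      apply sSup_le
      intro A hA a ha
      rw [Subgroup.mem_centralizer_iff]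
      intro y hy
      obtain ⟨k, rfl⟩ := Subgroup.mem_zpowers_iff.mp hy
      have hAD : A ≤ Cfsg.dStar S := le_sSup hA
      have hle : A ⊔ Subgroup.zpowers x ≤ Cfsg.dStar S ⊔ Subgroup.zpowers x := sup_le_sup_right hAD _
      have hcl' : ⁅⁅A ⊔ Subgroup.zpowers x, A ⊔ Subgroup.zpowers x⁆, A ⊔ Subgroup.zpowers x⁆ = ⊥ := by
        rw [eq_bot_iff, ← hcl]
        exact Subgroup.commutator_mono (Subgroup.commutator_mono hle hle) hle
      have hax : a * x = x * a := hA.2 x hcl' a ha
      have : Commute a x := hax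
      exact ((this.zpow_right k).eq).symm
    intro a ha
    have := hle ha
    rw [Subgroup.mem_centralizer_iff] at this
    exact (this x (Subgroup.mem_zpowers x)).symm

end Cfsg.Agent.S3061
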