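import Mathlib
import Cfsg.Statements.S0351

set_option autoImplicit false
open Cfsg

namespace Cfsg.Agent.S0351

/-- Derived design: removing a point p from the blocks through p of an S(t+1, k+1, v) yields an S(t, k, v-1) on the points other than p. -/
theorem result {α : Type*} [Fintype α] [DecidableEq α] {t k : ℕ} {B : Set (Finset α)} (hB : Cfsg.IsSteinerSystem (t + 1) (k + 1) B) (p : α) : Cfsg.IsSteinerSystem t k {b' : Finset {a : α // a ≠ p} | ∃ b ∈ B, p ∈ b ∧ b' = Finset.subtype (fun a => a ≠ p) b} := by
  constructor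
  · rintro b' ⟨b, hb, hpb, rfl⟩
    rw [Finset.card_subtype]
    have : b.filter (fun a => a ≠ p) = b.erase p := by
      ext x
      simp [Finset.mem_erase, and_comm]
    rw [this, Finset.card_erase_of_mem hpb, hB.1 b hb]
    rfl
  · intro s hs
    set s' : Finset α := insert p (s.map (Function.Embedding.subtype _)) with hs'
    have hpn : p ∉ s.map (Function.Embedding.subtype (fun a => a ≠ p)) := by
      intro h
      rw [Finset.mem_map] at h
      obtain ⟨x, _, hx⟩ := h
      exact x.2 hx
    have hcard : s'.card = t + 1 := by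
      rw [hs', Finset.card_insert_of_notMem hpn, Finset.card_map, hs]
    obtain ⟨b, ⟨hb, hsb⟩, hbuniq⟩ := hB.2 s' hcard
    have hpb : p ∈ b := hsb (Finset.mem_insert_self _ _)
    have hsub : ∀ c : Finset α, s' ⊆ c → s ⊆ Finset.subtype (fun a => a ≠ p) c := by
      intro c hc x hx
      rw [Finset.mem_subtype]
      apply hc
      apply Finset.mem_insert_of_mem
      rw [Finset.mem_map]
      exact ⟨x, hx, rfl⟩
    refine ⟨Finset.subtype (fun a => a ≠ p) b, ⟨⟨b, hb, hpb, rfl⟩, hsub b hsb⟩, ?_⟩
    rintro b'' ⟨⟨c, hc, hpc, rfl⟩, hsc⟩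
    have hs'c : s' ⊆ c := by
      intro x hx
      rw [hs', Finset.mem_insert] at hx
      rcases hx with rfl | hx
      · exact hpc
      · rw [Finset.mem_map] at hx
        obtain ⟨y, hy, rfl⟩ := hx
        have := hsc hy
        rw [Finset.mem_subtype] at this
        exact this
    rw [hbuniq c ⟨hc, hs'c⟩]

end Cfsg.Agent.S0351
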