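import Mathlib
import Cfsg.Statements.S0352
import Cfsg.Agent.Lib.helper3.Steiner

set_option autoImplicit false
open Cfsg

namespace Cfsg.Agent.S0352

/-- In a Steiner system S(5, 8, 24), two distinct blocks intersect in 0, 2 or 4 points. -/
theorem result {α : Type*} [Fintype α] [DecidableEq α] (hα : Fintype.card α = 24) {B : Set (Finset α)} (hB : Cfsg.IsSteinerSystem 5 8 B) {b c : Finset α} (hb : b ∈ B) (hc : c ∈ B) (hbc : b ≠ c) : (b ∩ c).card = 0 ∨ (b ∩ c).card = 2 ∨ (b ∩ c).card = 4 := by
  open Cfsg.Agent.Lib.helper3 in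
  have e1 := steiner_inter_eq hB hb 1 (by norm_num)
  open Cfsg.Agent.Lib.helper3 in
  have e2 := steiner_inter_eq hB hb 2 (by norm_num)
  open Cfsg.Agent.Lib.helper3 in
  have e3 := steiner_inter_eq hB hb 3 (by norm_num)
  open Cfsg.Agent.Lib.helper3 in
  have e4 := steiner_inter_eq hB hb 4 (by norm_num)
  open Cfsg.Agent.Lib.helper3 in
  have z5 := interCount_eq_zero hB hb (i := 5) (by norm_num) (by norm_num)
  open Cfsg.Agent.Lib.helper3 in
  have z6 := interCount_eq_zero hB hb (i := 6) (by norm_num) (by norm_num)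
  open Cfsg.Agent.Lib.helper3 in
  have z7 := interCount_eq_zero hB hb (i := 7) (by norm_num) (by norm_num)
  open Cfsg.Agent.Lib.helper3 in
  have s8 := interCount_self hB hb (by norm_num)
  open Cfsg.Agent.Lib.helper3 in
  have hpos := interCount_pos hB (b := b) hc
  have hlt : (b ∩ c).card < 5 := by
    by_contra h
    push Not at h
    exact hbc (Cfsg.Agent.Lib.helper3.steiner_eq_of_le_inter hB hb hc h).symm
  simp only [Finset.sum_range_succ, Finset.sum_range_zero, hα, z5, z6, z7, s8] at e1 e2 e3 e4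
  norm_num [Nat.choose] at e1 e2 e3 e4
  generalize (b ∩ c).card = n at hpos hlt ⊢
  interval_cases n
  · left; rfl
  · exfalso; omega
  · right; left; rfl
  · exfalso; omega
  · right; right; rfl

end Cfsg.Agent.S0352
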