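import Mathlib
import Cfsg.Statements.S0353
import Cfsg.Agent.S0352
import Cfsg.Agent.Lib.helper3.Steiner

set_option autoImplicit false
open Cfsg

namespace Cfsg.Agent.S0353


theorem inter_le_four {α : Type*} [Fintype α] [DecidableEq α] (hα : Fintype.card α = 24)
    {B : Set (Finset α)} (hB : Cfsg.IsSteinerSystem 5 8 B) {X Y : Finset α} (hX : X ∈ B)
    (hY : Y ∈ B) (hne : X ≠ Y) : (X ∩ Y).card ≤ 4 := by
  rcases Cfsg.Agent.S0352.result hα hB hX hY hne with h | h | h <;> omega

theorem inter_eq_of_subset {α : Type*} [Fintype α] [DecidableEq α] (hα : Fintype.card α = 24)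
    {B : Set (Finset α)} (hB : Cfsg.IsSteinerSystem 5 8 B) {X Y S : Finset α} (hX : X ∈ B)
    (hY : Y ∈ B) (hne : X ≠ Y) (hSX : S ⊆ X) (hSY : S ⊆ Y) (hS : S.card = 4) : X ∩ Y = S := by
  symm
  apply Finset.eq_of_subset_of_card_le (Finset.subset_inter hSX hSY)
  rw [hS]
  exact inter_le_four hα hB hX hY hne

theorem exists_block {α : Type*} [DecidableEq α]
    {B : Set (Finset α)} (hB : Cfsg.IsSteinerSystem 5 8 B) {S : Finset α} (hS : S.card = 5) :
    ∃ X ∈ B, S ⊆ X := by
  obtain ⟨X, ⟨hX, hSX⟩, -⟩ := hB.2 S hS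
  exact ⟨X, hX, hSX⟩

/-- one step: the block through `b \ c` and a point `x` of `c \ b` -/
theorem step {α : Type*} [Fintype α] [DecidableEq α] (hα : Fintype.card α = 24)
    {B : Set (Finset α)} (hB : Cfsg.IsSteinerSystem 5 8 B) {b c : Finset α} (hb : b ∈ B)
    (hc : c ∈ B) (h4 : (b ∩ c).card = 4) {x : α} (hx : x ∈ c \ b) :
    ∃ X ∈ B, b \ c ⊆ X ∧ x ∈ X ∧ X ∩ b = b \ c ∧ X ≠ c ∧
      ((X ∩ c).card = 2 ∨ X = b \ c ∪ c \ b) := by
  have hbcard : b.card = 8 := hB.1 b hb
  have hccard : c.card = 8 := hB.1 c hc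
  have hA : (b \ c).card = 4 := by
    have := Finset.card_sdiff_add_card_inter b c
    omega
  have hC : (c \ b).card = 4 := by
    have := Finset.card_sdiff_add_card_inter c b
    rw [Finset.inter_comm] at this
    omega
  rw [Finset.mem_sdiff] at hx
  have hxA : x ∉ b \ c := fun h => hx.2 (Finset.mem_sdiff.1 h).1
  obtain ⟨X, hX, hSX⟩ := exists_block hB (S := insert x (b \ c)) (by
    rw [Finset.card_insert_of_notMem hxA, hA])
  have hAX : b \ c ⊆ X := (Finset.subset_insert _ _).trans hSX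
  have hxX : x ∈ X := hSX (Finset.mem_insert_self _ _)
  have hXb : X ≠ b := fun h => hx.2 (h ▸ hxX)
  have hXb' : X ∩ b = b \ c :=
    inter_eq_of_subset hα hB hX hb hXb hAX Finset.sdiff_subset hA
  obtain ⟨a, ha⟩ : (b \ c).Nonempty := by
    rw [← Finset.card_pos, hA]; omega
  have hXc : X ≠ c := fun h => (Finset.mem_sdiff.1 ha).2 (h ▸ hAX ha)
  refine ⟨X, hX, hAX, hxX, hXb', hXc, ?_⟩
  have hsub : X ∩ c ⊆ c \ b := by
    intro y hy
    rw [Finset.mem_inter] at hy
    rw [Finset.mem_sdiff]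
    refine ⟨hy.2, fun hyb => ?_⟩
    have : y ∈ X ∩ b := Finset.mem_inter.2 ⟨hy.1, hyb⟩
    rw [hXb'] at this
    exact (Finset.mem_sdiff.1 this).2 hy.2
  have hne0 : (X ∩ c).card ≠ 0 := by
    rw [Finset.card_ne_zero]
    exact ⟨x, Finset.mem_inter.2 ⟨hxX, hx.1⟩⟩
  rcases Cfsg.Agent.S0352.result hα hB hX hc hXc with h | h | h
  · exact absurd h hne0
  · left; exact h
  · right
    have hXC : X ∩ c = c \ b := Finset.eq_of_subset_of_card_le hsub (by rw [h, hC])
    have hCX : c \ b ⊆ X := by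
      rw [← hXC]; exact Finset.inter_subset_left
    symm
    apply Finset.eq_of_subset_of_card_le (Finset.union_subset hAX hCX)
    rw [hB.1 X hX, Finset.card_union_of_disjoint, hA, hC]
    rw [Finset.disjoint_left]
    intro y hy1 hy2
    exact (Finset.mem_sdiff.1 hy1).2 (Finset.mem_sdiff.1 hy2).1


/-- In an S(5, 8, 24), the symmetric difference of two blocks meeting in four points is a block. -/
theorem result {α : Type*} [Fintype α] [DecidableEq α] (hα : Fintype.card α = 24) {B : Set (Finset α)} (hB : Cfsg.IsSteinerSystem 5 8 B) {b c : Finset α} (hb : b ∈ B) (hc : c ∈ B) (h4 : (b ∩ c).card = 4) : symmDiff b c ∈ B := by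
  have hsd : symmDiff b c = b \ c ∪ c \ b := rfl
  rw [hsd]
  have hbcard : b.card = 8 := hB.1 b hb
  have hccard : c.card = 8 := hB.1 c hc
  have hA : (b \ c).card = 4 := by
    have := Finset.card_sdiff_add_card_inter b c
    omega
  have hC : (c \ b).card = 4 := by
    have := Finset.card_sdiff_add_card_inter c b
    rw [Finset.inter_comm] at this
    omega
  obtain ⟨x9, hx9⟩ : (c \ b).Nonempty := by
    rw [← Finset.card_pos, hC]; omega
  obtain ⟨O1, hO1, hAO1, hx9O1, hO1b, hO1c, h1⟩ := step hα hB hb hc h4 hx9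
  rcases h1 with h1 | h1
  swap
  · rw [← h1]; exact hO1
  -- a point of `c \ b` outside `O1`
  obtain ⟨x11, hx11, hx11O1⟩ : ∃ x ∈ c \ b, x ∉ O1 := by
    by_contra hcon
    push Not at hcon
    have : c \ b ⊆ O1 ∩ c := fun y hy =>
      Finset.mem_inter.2 ⟨hcon y hy, (Finset.mem_sdiff.1 hy).1⟩
    have := Finset.card_le_card this
    omega
  obtain ⟨O2, hO2, hAO2, hx11O2, hO2b, hO2c, h2⟩ := step hα hB hb hc h4 hx11
  rcases h2 with h2 | h2
  swap
  · rw [← h2]; exact hO2
  have hO12 : O1 ≠ O2 := fun h => hx11O1 (h ▸ hx11O2)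
  have hO12' : O1 ∩ O2 = b \ c := inter_eq_of_subset hα hB hO1 hO2 hO12 hAO1 hAO2 hA
  have hx9b : x9 ∉ b := (Finset.mem_sdiff.1 hx9).2
  have hx9c : x9 ∈ c := (Finset.mem_sdiff.1 hx9).1
  have hx11b : x11 ∉ b := (Finset.mem_sdiff.1 hx11).2
  have hx11c : x11 ∈ c := (Finset.mem_sdiff.1 hx11).1
  have hx9O2 : x9 ∉ O2 := by
    intro h
    have : x9 ∈ O1 ∩ O2 := Finset.mem_inter.2 ⟨hx9O1, h⟩
    rw [hO12'] at this
    exact hx9b (Finset.mem_sdiff.1 this).1
  have hne911 : x9 ≠ x11 := fun h => hx11O1 (h ▸ hx9O1)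
  -- `c \ b` is covered by `O1` and `O2`
  have hcover : ∀ y ∈ c \ b, y ∈ O1 ∨ y ∈ O2 := by
    have hsub : (O1 ∩ c) ∪ (O2 ∩ c) ⊆ c \ b := by
      intro y hy
      rw [Finset.mem_sdiff]
      rcases Finset.mem_union.1 hy with hy | hy
      · refine ⟨(Finset.mem_inter.1 hy).2, fun hyb => ?_⟩
        have : y ∈ O1 ∩ b := Finset.mem_inter.2 ⟨(Finset.mem_inter.1 hy).1, hyb⟩
        rw [hO1b] at this
        exact (Finset.mem_sdiff.1 this).2 (Finset.mem_inter.1 hy).2
      · refine ⟨(Finset.mem_inter.1 hy).2, fun hyb => ?_⟩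
        have : y ∈ O2 ∩ b := Finset.mem_inter.2 ⟨(Finset.mem_inter.1 hy).1, hyb⟩
        rw [hO2b] at this
        exact (Finset.mem_sdiff.1 this).2 (Finset.mem_inter.1 hy).2
    have hdisj : Disjoint (O1 ∩ c) (O2 ∩ c) := by
      rw [Finset.disjoint_left]
      intro y hy1 hy2
      have : y ∈ O1 ∩ O2 :=
        Finset.mem_inter.2 ⟨(Finset.mem_inter.1 hy1).1, (Finset.mem_inter.1 hy2).1⟩
      rw [hO12'] at this
      exact (Finset.mem_sdiff.1 this).2 (Finset.mem_inter.1 hy1).2
    have heq : (O1 ∩ c) ∪ (O2 ∩ c) = c \ b :=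
      Finset.eq_of_subset_of_card_le hsub (by rw [Finset.card_union_of_disjoint hdisj, h1, h2, hC])
    intro y hy
    rw [← heq] at hy
    rcases Finset.mem_union.1 hy with hy | hy
    · exact Or.inl (Finset.mem_inter.1 hy).1
    · exact Or.inr (Finset.mem_inter.1 hy).1
  -- the third block
  obtain ⟨a4, ha4⟩ : (b \ c).Nonempty := by
    rw [← Finset.card_pos, hA]; omega
  have hA' : ((b \ c).erase a4).card = 3 := by
    rw [Finset.card_erase_of_mem ha4, hA]
  have hA'sub : (b \ c).erase a4 ⊆ b \ c := Finset.erase_subset _ _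
  have hx11A' : x11 ∉ (b \ c).erase a4 := fun h => hx11b (Finset.mem_sdiff.1 (hA'sub h)).1
  have hx9A' : x9 ∉ (b \ c).erase a4 := fun h => hx9b (Finset.mem_sdiff.1 (hA'sub h)).1
  have hx9ins : x9 ∉ insert x11 ((b \ c).erase a4) := by
    rw [Finset.mem_insert]
    rintro (h | h)
    · exact hne911 h
    · exact hx9A' h
  obtain ⟨E, hE, hSE⟩ := exists_block hB (S := insert x9 (insert x11 ((b \ c).erase a4))) (by
    rw [Finset.card_insert_of_notMem hx9ins, Finset.card_insert_of_notMem hx11A', hA'])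
  have hx9E : x9 ∈ E := hSE (Finset.mem_insert_self _ _)
  have hx11E : x11 ∈ E := hSE (Finset.mem_insert_of_mem (Finset.mem_insert_self _ _))
  have hA'E : (b \ c).erase a4 ⊆ E := fun y hy =>
    hSE (Finset.mem_insert_of_mem (Finset.mem_insert_of_mem hy))
  have hEO1 : E ≠ O1 := fun h => hx11O1 (h ▸ hx11E)
  have hEO2 : E ≠ O2 := fun h => hx9O2 (h ▸ hx9E)
  have hEb : E ≠ b := fun h => hx9b (h ▸ hx9E)
  obtain ⟨a1, ha1⟩ : ((b \ c).erase a4).Nonempty := by
    rw [← Finset.card_pos, hA']; omega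
  have hEc : E ≠ c := fun h => (Finset.mem_sdiff.1 (hA'sub ha1)).2 (h ▸ hA'E ha1)
  have hEO1' : E ∩ O1 = insert x9 ((b \ c).erase a4) := by
    apply inter_eq_of_subset hα hB hE hO1 hEO1
    · exact Finset.insert_subset hx9E hA'E
    · exact Finset.insert_subset hx9O1 (hA'sub.trans hAO1)
    · rw [Finset.card_insert_of_notMem hx9A', hA']
  have hEO2' : E ∩ O2 = insert x11 ((b \ c).erase a4) := by
    apply inter_eq_of_subset hα hB hE hO2 hEO2
    · exact Finset.insert_subset hx11E hA'E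
    · exact Finset.insert_subset hx11O2 (hA'sub.trans hAO2)
    · rw [Finset.card_insert_of_notMem hx11A', hA']
  -- `E ∩ (b \ c)` and `E ∩ (c \ b)`
  have hEA : E ∩ (b \ c) = (b \ c).erase a4 := by
    apply Finset.Subset.antisymm
    · intro y hy
      rw [Finset.mem_inter] at hy
      have : y ∈ E ∩ O1 := Finset.mem_inter.2 ⟨hy.1, hAO1 hy.2⟩
      rw [hEO1', Finset.mem_insert] at this
      rcases this with h | h
      · exact absurd (Finset.mem_sdiff.1 hy.2).1 (h ▸ hx9b)
      · exact h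
    · exact Finset.subset_inter hA'E hA'sub
  have hEC : E ∩ (c \ b) = {x9, x11} := by
    apply Finset.Subset.antisymm
    · intro y hy
      rw [Finset.mem_inter] at hy
      have hyc : y ∉ b \ c := fun h => (Finset.mem_sdiff.1 h).2 (Finset.mem_sdiff.1 hy.2).1
      rcases hcover y hy.2 with h | h
      · have : y ∈ E ∩ O1 := Finset.mem_inter.2 ⟨hy.1, h⟩
        rw [hEO1', Finset.mem_insert] at this
        rcases this with h' | h'
        · rw [h']; exact Finset.mem_insert_self _ _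
        · exact absurd (hA'sub h') hyc
      · have : y ∈ E ∩ O2 := Finset.mem_inter.2 ⟨hy.1, h⟩
        rw [hEO2', Finset.mem_insert] at this
        rcases this with h' | h'
        · rw [h']; exact Finset.mem_insert_of_mem (Finset.mem_singleton_self _)
        · exact absurd (hA'sub h') hyc
    · intro y hy
      rw [Finset.mem_insert, Finset.mem_singleton] at hy
      rcases hy with rfl | rfl
      · exact Finset.mem_inter.2 ⟨hx9E, hx9⟩
      · exact Finset.mem_inter.2 ⟨hx11E, hx11⟩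
  -- count
  have hcb : (E ∩ b).card = (E ∩ (b \ c)).card + (E ∩ (b ∩ c)).card := by
    rw [← Finset.card_union_of_disjoint, ← Finset.inter_union_distrib_left,
      Finset.sdiff_union_inter]
    rw [Finset.disjoint_left]
    intro y hy1 hy2
    exact (Finset.mem_sdiff.1 (Finset.mem_inter.1 hy1).2).2
      (Finset.mem_inter.1 (Finset.mem_inter.1 hy2).2).2
  have hcc : (E ∩ c).card = (E ∩ (c \ b)).card + (E ∩ (b ∩ c)).card := by
    rw [← Finset.card_union_of_disjoint, ← Finset.inter_union_distrib_left,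
      Finset.inter_comm b c, Finset.sdiff_union_inter]
    rw [Finset.disjoint_left]
    intro y hy1 hy2
    exact (Finset.mem_sdiff.1 (Finset.mem_inter.1 hy1).2).2
      (Finset.mem_inter.1 (Finset.mem_inter.1 hy2).2).1
  rw [hEA, hA'] at hcb
  rw [hEC, Finset.card_pair hne911] at hcc
  have p1 := Cfsg.Agent.S0352.result hα hB hE hb hEb
  have p2 := Cfsg.Agent.S0352.result hα hB hE hc hEc
  omega

end Cfsg.Agent.S0353
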