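import Cfsg.Statements.S1592
import Cfsg.Agent.Lib.Lead.TGolay

set_option autoImplicit false
open Cfsg

namespace Cfsg.Agent.S1592

open Cfsg.Agent.Lib.Lead.TG Finset

/-- the hexads, as a finite set of finite sets -/
def Hx : Finset (Finset Cfsg.ArrayPt) :=
  (Finset.univ.filter (fun a : A6 => (Cfsg.ternarySupport (gen a)).card = 6)).image
    (fun a => Cfsg.ternarySupport (gen a))

theorem card_Hx : Hx.card = 132 := by decide +kernel

theorem mem_Hx (h : Finset Cfsg.ArrayPt) :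
    h ∈ Hx ↔ ∃ a : A6, (Cfsg.ternarySupport (gen a)).card = 6 ∧ Cfsg.ternarySupport (gen a) = h := by
  simp only [Hx, Finset.mem_image, Finset.mem_filter, Finset.mem_univ, true_and]

theorem blocks_eq : {h : Finset Cfsg.ArrayPt | ∃ x ∈ Cfsg.ternaryGolayCode,
    Cfsg.ternarySupport x = h ∧ h.card = 6} = ↑Hx := by
  ext h
  rw [Finset.mem_coe, mem_Hx]
  constructor
  · rintro ⟨x, hx, rfl, h6⟩
    exact ⟨info x, by rw [← eq_gen_info x hx]; exact h6, by rw [← eq_gen_info x hx]⟩
  · rintro ⟨a, h6, rfl⟩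
    exact ⟨gen a, gen_mem_code a, rfl, h6⟩

theorem mem_supp (x : Cfsg.ArrayPt → ZMod 3) (q : Cfsg.ArrayPt) :
    q ∈ Cfsg.ternarySupport x ↔ x q ≠ 0 := by
  rw [Cfsg.ternarySupport, Finset.mem_filter]
  exact ⟨fun h => h.2, fun h => ⟨Finset.mem_univ _, h⟩⟩

/-- minimum weight six -/
theorem wt_ge (x : Cfsg.ArrayPt → ZMod 3) (hx : x ∈ Cfsg.ternaryGolayCode) (h0 : x ≠ 0) :
    6 ≤ (Cfsg.ternarySupport x).card := by
  obtain ⟨b, rfl⟩ := (mem_code_iff_gen x).mp hx
  have hb0 : b ≠ 0 := by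
    rintro rfl
    exact h0 gen_zero
  rcases weights b hb0 with h | h | h <;> omega

theorem nz_cases : ∀ a b : ZMod 3, a ≠ 0 → b ≠ 0 → a ≠ b → a + b = 0 := by decide

theorem supp_neg (x : Cfsg.ArrayPt → ZMod 3) :
    Cfsg.ternarySupport (-x) = Cfsg.ternarySupport x := by
  ext q
  rw [mem_supp, mem_supp, Pi.neg_apply, neg_ne_zero]

/-- a code word whose support misses at least three points of a set of at most seven points
containing it is zero -/
theorem zero_of_small (z : Cfsg.ArrayPt → ZMod 3) (hz : z ∈ Cfsg.ternaryGolayCode)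
    (U P : Finset Cfsg.ArrayPt) (hU : U.card ≤ 7) (hP : 3 ≤ P.card) (hPU : P ⊆ U)
    (hsub : Cfsg.ternarySupport z ⊆ U \ P) : z = 0 := by
  by_contra h0
  have h6 := wt_ge z hz h0
  have h1 := Finset.card_le_card hsub
  have h2 : (U \ P).card = U.card - P.card := Finset.card_sdiff_of_subset hPU
  omega

/-- two hexads sharing five points coincide -/
theorem uniq (x1 x2 : Cfsg.ArrayPt → ZMod 3) (h1 : x1 ∈ Cfsg.ternaryGolayCode)
    (h2 : x2 ∈ Cfsg.ternaryGolayCode) (w1 : (Cfsg.ternarySupport x1).card = 6)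
    (w2 : (Cfsg.ternarySupport x2).card = 6) (s : Finset Cfsg.ArrayPt) (hs : s.card = 5)
    (hs1 : s ⊆ Cfsg.ternarySupport x1) (hs2 : s ⊆ Cfsg.ternarySupport x2) :
    Cfsg.ternarySupport x1 = Cfsg.ternarySupport x2 := by
  classical
  obtain ⟨U, hUdef⟩ : ∃ U, U = Cfsg.ternarySupport x1 ∪ Cfsg.ternarySupport x2 := ⟨_, rfl⟩
  have hU : U.card ≤ 7 := by
    have hui := Finset.card_union_add_card_inter (Cfsg.ternarySupport x1) (Cfsg.ternarySupport x2)
    have hsi : s ⊆ Cfsg.ternarySupport x1 ∩ Cfsg.ternarySupport x2 :=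
      Finset.subset_inter hs1 hs2
    have := Finset.card_le_card hsi
    rw [hUdef]
    omega
  have hsU : s ⊆ U := by
    rw [hUdef]
    exact hs1.trans Finset.subset_union_left
  have hsplit := Finset.card_filter_add_card_filter_not (s := s) (fun q => x1 q = x2 q)
  rw [hs] at hsplit
  rcases Nat.lt_or_ge ((s.filter (fun q => x1 q = x2 q)).card) 3 with hlt | hge
  · -- at least three disagreements: `x1 + x2 = 0`
    have hM : 3 ≤ (s.filter (fun q => ¬ x1 q = x2 q)).card := by omega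
    have hz : x1 + x2 = 0 := by
      apply zero_of_small _ (Submodule.add_mem _ h1 h2) U _ hU hM
        ((Finset.filter_subset _ _).trans hsU)
      intro q hq
      rw [mem_supp, Pi.add_apply] at hq
      rw [Finset.mem_sdiff, Finset.mem_filter]
      constructor
      · rw [hUdef, Finset.mem_union, mem_supp, mem_supp]
        by_contra hcon
        push Not at hcon
        apply hq
        rw [hcon.1, hcon.2, add_zero]
      · rintro ⟨hqs, hne⟩
        apply hq
        exact nz_cases _ _ ((mem_supp _ _).mp (hs1 hqs)) ((mem_supp _ _).mp (hs2 hqs)) hne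
    have : x1 = -x2 := eq_neg_of_add_eq_zero_left hz
    rw [this, supp_neg]
  · -- at least three agreements: `x1 - x2 = 0`
    have hz : x1 - x2 = 0 := by
      apply zero_of_small _ (Submodule.sub_mem _ h1 h2) U _ hU hge
        ((Finset.filter_subset _ _).trans hsU)
      intro q hq
      rw [mem_supp, Pi.sub_apply] at hq
      rw [Finset.mem_sdiff, Finset.mem_filter]
      constructor
      · rw [hUdef, Finset.mem_union, mem_supp, mem_supp]
        by_contra hcon
        push Not at hcon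
        apply hq
        rw [hcon.1, hcon.2, sub_zero]
      · rintro ⟨_, heq⟩
        apply hq
        rw [heq, sub_self]
    rw [sub_eq_zero.mp hz]

theorem uniq_Hx (b1 b2 : Finset Cfsg.ArrayPt) (hb1 : b1 ∈ Hx) (hb2 : b2 ∈ Hx)
    (s : Finset Cfsg.ArrayPt) (hs : s.card = 5) (hs1 : s ⊆ b1) (hs2 : s ⊆ b2) : b1 = b2 := by
  obtain ⟨a1, w1, rfl⟩ := (mem_Hx b1).mp hb1
  obtain ⟨a2, w2, rfl⟩ := (mem_Hx b2).mp hb2
  exact uniq _ _ (gen_mem_code a1) (gen_mem_code a2) w1 w2 s hs hs1 hs2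

theorem card_of_mem_Hx (b : Finset Cfsg.ArrayPt) (hb : b ∈ Hx) : b.card = 6 := by
  obtain ⟨a, w, rfl⟩ := (mem_Hx b).mp hb
  exact w

theorem card_arrayPt : Fintype.card Cfsg.ArrayPt = 12 := by
  simp [Fintype.card_prod, ZMod.card]

/-- every five points lie in exactly one hexad (double counting) -/
theorem exists_unique_Hx (s : Finset Cfsg.ArrayPt) (hs : s.card = 5) :
    (Hx.filter (fun b => s ⊆ b)).card = 1 := by
  classical
  obtain ⟨S5, hS5⟩ : ∃ S5, S5 = (Finset.univ : Finset Cfsg.ArrayPt).powersetCard 5 := ⟨_, rfl⟩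
  have hS5card : S5.card = 792 := by
    rw [hS5, Finset.card_powersetCard, Finset.card_univ, card_arrayPt]
    rfl
  have hle : ∀ t ∈ S5, (Hx.filter (fun b => t ⊆ b)).card ≤ 1 := by
    intro t ht
    rw [hS5, Finset.mem_powersetCard] at ht
    rw [Finset.card_le_one]
    intro b1 hb1 b2 hb2
    rw [Finset.mem_filter] at hb1 hb2
    exact uniq_Hx b1 b2 hb1.1 hb2.1 t ht.2 hb1.2 hb2.2
  have hdc := Finset.sum_card_bipartiteAbove_eq_sum_card_bipartiteBelow (s := S5) (t := Hx)
    (fun (t : Finset Cfsg.ArrayPt) (b : Finset Cfsg.ArrayPt) => t ⊆ b)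
  have hbelow : ∀ b ∈ Hx, (S5.bipartiteBelow (fun t b => t ⊆ b) b).card = 6 := by
    intro b hb
    have : S5.bipartiteBelow (fun t b => t ⊆ b) b = b.powersetCard 5 := by
      ext t
      rw [Finset.mem_bipartiteBelow, hS5, Finset.mem_powersetCard, Finset.mem_powersetCard]
      constructor
      · rintro ⟨⟨_, h5⟩, htb⟩
        exact ⟨htb, h5⟩
      · rintro ⟨htb, h5⟩
        exact ⟨⟨Finset.subset_univ _, h5⟩, htb⟩
    rw [this, Finset.card_powersetCard, card_of_mem_Hx b hb]
    rfl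
  rw [Finset.sum_congr rfl hbelow, Finset.sum_const, card_Hx] at hdc
  have hsum : ∑ t ∈ S5, (Hx.filter (fun b => t ⊆ b)).card = 792 := by
    have : ∀ t ∈ S5, (Hx.bipartiteAbove (fun t b => t ⊆ b) t).card =
        (Hx.filter (fun b => t ⊆ b)).card := fun t _ => rfl
    rw [← Finset.sum_congr rfl this, hdc]
    rfl
  have hsS5 : s ∈ S5 := by
    rw [hS5, Finset.mem_powersetCard]
    exact ⟨Finset.subset_univ _, hs⟩
  by_contra hne
  have hlt : (Hx.filter (fun b => s ⊆ b)).card < 1 := lt_of_le_of_ne (hle s hsS5) hne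
  have := Finset.sum_lt_sum hle ⟨s, hsS5, hlt⟩
  rw [hsum, Finset.sum_const, hS5card] at this
  simp at this

/-- The supports of the weight-6 words of the length-12 ternary code form a Steiner system S(5, 6, 12) with 132 blocks. -/
theorem result : Cfsg.IsSteinerSystem 5 6 {h : Finset Cfsg.ArrayPt | ∃ x ∈ Cfsg.ternaryGolayCode, Cfsg.ternarySupport x = h ∧ h.card = 6} ∧ {h : Finset Cfsg.ArrayPt | ∃ x ∈ Cfsg.ternaryGolayCode, Cfsg.ternarySupport x = h ∧ h.card = 6}.ncard = 132 := by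
  rw [blocks_eq]
  refine ⟨⟨?_, ?_⟩, ?_⟩
  · intro b hb
    exact card_of_mem_Hx b (Finset.mem_coe.mp hb)
  · intro s hs
    obtain ⟨b, hb⟩ := Finset.card_eq_one.mp (exists_unique_Hx s hs)
    have hbm : b ∈ Hx.filter (fun b => s ⊆ b) := by rw [hb]; exact Finset.mem_singleton_self b
    rw [Finset.mem_filter] at hbm
    refine ⟨b, ⟨Finset.mem_coe.mpr hbm.1, hbm.2⟩, ?_⟩
    rintro b' ⟨hb'1, hb'2⟩
    have : b' ∈ Hx.filter (fun b => s ⊆ b) := Finset.mem_filter.mpr ⟨Finset.mem_coe.mp hb'1, hb'2⟩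
    rw [hb] at this
    exact Finset.mem_singleton.mp this
  · rw [Set.ncard_coe_finset, card_Hx]

end Cfsg.Agent.S1592
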