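import Cfsg.Statements.S1593
import Cfsg.Agent.Lib.Lead.TGolay

set_option autoImplicit false
open Cfsg

namespace Cfsg.Agent.S1593

open Cfsg.Agent.Lib.Lead.TG

theorem units_cases : ∀ u : (ZMod 3)ˣ, u = 1 ∨ u = -1 := by decide

theorem exists_hexad : ∀ p : Cfsg.ArrayPt, ∃ a : A6, (Cfsg.ternarySupport (gen a)).card = 6 ∧
    gen a (0, 0) ≠ 0 ∧ gen a p ≠ 0 := by decide +kernel

theorem mono_apply (c : Cfsg.ArrayPt → (ZMod 3)ˣ) (x : Cfsg.ArrayPt → ZMod 3) (q : Cfsg.ArrayPt) :
    Cfsg.monomialMap 1 c x q = (c q : ZMod 3) * x q := rfl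

theorem aux (c : Cfsg.ArrayPt → (ZMod 3)ˣ)
    (h : ∀ x ∈ Cfsg.ternaryGolayCode, Cfsg.monomialMap 1 c x ∈ Cfsg.ternaryGolayCode)
    (h0 : c (0, 0) = 1) : ∀ p, c p = 1 := by
  intro p
  obtain ⟨a, ha6, ha0, hap⟩ := exists_hexad p
  obtain ⟨x, hxa⟩ : ∃ x, x = gen a := ⟨_, rfl⟩
  rw [← hxa] at ha6 ha0 hap
  have hx : x ∈ Cfsg.ternaryGolayCode := hxa ▸ gen_mem_code a
  have hz : Cfsg.monomialMap 1 c x - x ∈ Cfsg.ternaryGolayCode := Submodule.sub_mem _ (h x hx) hx
  have hzval : ∀ q, (Cfsg.monomialMap 1 c x - x) q = ((c q : ZMod 3) - 1) * x q := by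
    intro q
    rw [Pi.sub_apply, mono_apply]
    ring
  have hsub : Cfsg.ternarySupport (Cfsg.monomialMap 1 c x - x) ⊆
      (Cfsg.ternarySupport x).erase (0, 0) := by
    intro q hq
    rw [Cfsg.ternarySupport, Finset.mem_filter, hzval] at hq
    rw [Finset.mem_erase, Cfsg.ternarySupport, Finset.mem_filter]
    refine ⟨?_, Finset.mem_univ _, ?_⟩
    · rintro rfl
      apply hq.2
      rw [h0]
      simp
    · intro hx0
      apply hq.2
      rw [hx0, mul_zero]
  have hmem0 : ((0, 0) : Cfsg.ArrayPt) ∈ Cfsg.ternarySupport x := by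
    rw [Cfsg.ternarySupport, Finset.mem_filter]
    exact ⟨Finset.mem_univ _, ha0⟩
  have hcard : (Cfsg.ternarySupport (Cfsg.monomialMap 1 c x - x)).card ≤ 5 := by
    calc (Cfsg.ternarySupport (Cfsg.monomialMap 1 c x - x)).card
        ≤ ((Cfsg.ternarySupport x).erase (0, 0)).card := Finset.card_le_card hsub
      _ = 5 := by rw [Finset.card_erase_of_mem hmem0, ha6]
  have hz0 : Cfsg.monomialMap 1 c x - x = 0 := by
    by_contra hne
    obtain ⟨b, hb⟩ := (mem_code_iff_gen _).mp hz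
    have hb0 : b ≠ 0 := by
      rintro rfl
      apply hne
      rw [← hb, gen_zero]
    rcases weights b hb0 with h | h | h <;> rw [hb] at h <;> omega
  have hp := congrFun hz0 p
  rw [hzval, Pi.zero_apply] at hp
  rcases mul_eq_zero.mp hp with h1 | h1
  · exact Units.ext (sub_eq_zero.mp h1)
  · exact absurd h1 hap

/-- The only sign changes preserving the length-12 ternary code are the identity and negation of all coordinates. -/
theorem result (c : Cfsg.ArrayPt → (ZMod 3)ˣ) (h : (∀ x ∈ Cfsg.ternaryGolayCode, Cfsg.monomialMap 1 c x ∈ Cfsg.ternaryGolayCode)) : (∀ p, c p = 1) ∨ (∀ p, c p = -1) := by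
  rcases units_cases (c (0, 0)) with h0 | h0
  · exact Or.inl (aux c h h0)
  · right
    have h' : ∀ x ∈ Cfsg.ternaryGolayCode,
        Cfsg.monomialMap 1 (fun p => -c p) x ∈ Cfsg.ternaryGolayCode := by
      intro x hx
      have : Cfsg.monomialMap 1 (fun p => -c p) x = -Cfsg.monomialMap 1 c x := by
        funext q
        rw [Pi.neg_apply, mono_apply, mono_apply, Units.val_neg, neg_mul]
      rw [this]
      exact Submodule.neg_mem _ (h x hx)
    have h1 := aux (fun p => -c p) h' (by show -c (0, 0) = 1; rw [h0, neg_neg])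
    intro p
    have := h1 p
    exact neg_eq_iff_eq_neg.mp this

end Cfsg.Agent.S1593
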