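import Cfsg.Statements.S0428
import Cfsg.Agent.Lib.helper2.Stn22b

set_option autoImplicit false
open Cfsg

namespace Cfsg.Agent.S0428

open Cfsg

open Cfsg.Agent.Lib.helper3 Cfsg.Agent.Lib.helper2 in


/-- The point-block graph of an S(3, 6, 22) is strongly regular with parameters (100, 22, 0, 6). -/
theorem result {α : Type*} [Fintype α] (hα : Fintype.card α = 22) {B : Set (Finset α)} (hB : Cfsg.IsSteinerSystem 3 6 B) [Fintype B] [DecidableRel (Cfsg.pointBlockGraph B).Adj] : (Cfsg.pointBlockGraph B).IsSRGWith 100 22 0 6 := by
  classical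
  have hadj := @stn22_pb_inr_inr α _ _ B hB
  refine ⟨?_, ?_, ?_, ?_⟩
  · rw [Fintype.card_option, Fintype.card_sum, hα, stn22_card_type hα hB]
  · intro v
    rw [← SimpleGraph.card_neighborSet_eq_degree]
    rcases v with _ | a | b
    · rw [stn22_card_pb _ 0 Finset.univ (fun _ => False)
        (by simp [SimpleGraph.mem_neighborSet, stn22_pb_none_none]) (by omega)
        (by simp [SimpleGraph.mem_neighborSet, stn22_pb_none_inl])
        (by simp [SimpleGraph.mem_neighborSet, stn22_pb_none_inr])]
      simp [hα]
    · rw [stn22_card_pb _ 1 ∅ (fun d => a ∈ d)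
        (by simp [SimpleGraph.mem_neighborSet, stn22_pb_inl_none]) (by omega)
        (by simp [SimpleGraph.mem_neighborSet, stn22_pb_inl_inl])
        (by simp [SimpleGraph.mem_neighborSet, stn22_pb_inl_inr]),
        stn22_through_one hα hB]
      simp
    · rw [stn22_card_pb _ 0 (b : Finset α) (fun d => Disjoint (b : Finset α) d)
        (by simp [SimpleGraph.mem_neighborSet, stn22_pb_inr_none]) (by omega)
        (by simp [SimpleGraph.mem_neighborSet, stn22_pb_inr_inl])
        (by simp [SimpleGraph.mem_neighborSet, hadj]),
        stn22_disjoint_count hα hB b.2, steiner_card hB b.2]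
  · intro v w hvw
    rcases v with _ | a | b <;> rcases w with _ | a' | c
    · exact absurd hvw stn22_pb_none_none
    · rw [stn22_card_pb _ 0 ∅ (fun _ => False)
        (by simp [SimpleGraph.mem_commonNeighbors, stn22_pb_none_none]) (by omega)
        (by simp [SimpleGraph.mem_commonNeighbors, stn22_pb_inl_inl])
        (by simp [SimpleGraph.mem_commonNeighbors, stn22_pb_none_inr])]
      simp
    · exact absurd hvw (stn22_pb_none_inr c)
    · rw [stn22_card_pb _ 0 ∅ (fun _ => False)
        (by simp [SimpleGraph.mem_commonNeighbors, stn22_pb_none_none]) (by omega)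
        (by simp [SimpleGraph.mem_commonNeighbors, stn22_pb_inl_inl])
        (by simp [SimpleGraph.mem_commonNeighbors, stn22_pb_none_inr])]
      simp
    · exact absurd hvw (stn22_pb_inl_inl a a')
    · rw [stn22_pb_inl_inr] at hvw
      rw [stn22_card_pb _ 0 ∅ (fun _ => False)
        (by simp [SimpleGraph.mem_commonNeighbors, stn22_pb_inr_none]) (by omega)
        (by simp [SimpleGraph.mem_commonNeighbors, stn22_pb_inl_inl])
        (by
          intro x
          simp only [SimpleGraph.mem_commonNeighbors, stn22_pb_inl_inr, hadj, iff_false, not_and]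
          intro hax hd
          exact (Finset.disjoint_left.1 hd hvw) hax)]
      simp
    · exact absurd hvw (stn22_pb_inr_none b)
    · rw [stn22_pb_inr_inl] at hvw
      rw [stn22_card_pb _ 0 ∅ (fun _ => False)
        (by simp [SimpleGraph.mem_commonNeighbors, stn22_pb_inr_none]) (by omega)
        (by simp [SimpleGraph.mem_commonNeighbors, stn22_pb_inl_inl])
        (by
          intro x
          simp only [SimpleGraph.mem_commonNeighbors, stn22_pb_inl_inr, hadj, iff_false, not_and]
          intro hd hax
          exact (Finset.disjoint_left.1 hd hvw) hax)]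
      simp
    · rw [hadj] at hvw
      rw [stn22_card_pb _ 0 ((b : Finset α) ∩ c)
        (fun d => Disjoint (b : Finset α) d ∧ Disjoint (c : Finset α) d)
        (by simp [SimpleGraph.mem_commonNeighbors, stn22_pb_inr_none]) (by omega)
        (by simp [SimpleGraph.mem_commonNeighbors, stn22_pb_inr_inl])
        (by simp [SimpleGraph.mem_commonNeighbors, hadj]),
        stn22_common_disjoint hα hB b.2 c.2 (stn22_disjoint_ne hB b.2 hvw),
        Finset.disjoint_iff_inter_eq_empty.1 hvw]
      rfl
  · intro v w hne hvw
    rcases v with _ | a | b <;> rcases w with _ | a' | c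
    · exact absurd rfl hne
    · exact absurd (stn22_pb_none_inl a') hvw
    · rw [stn22_card_pb _ 0 (c : Finset α) (fun _ => False)
        (by simp [SimpleGraph.mem_commonNeighbors, stn22_pb_none_none]) (by omega)
        (by simp [SimpleGraph.mem_commonNeighbors, stn22_pb_none_inl, stn22_pb_inr_inl])
        (by simp [SimpleGraph.mem_commonNeighbors, stn22_pb_none_inr]),
        steiner_card hB c.2]
      simp
    · exact absurd (stn22_pb_inl_none a) hvw
    · have haa : a ≠ a' := fun h => hne (by rw [h])
      rw [stn22_card_pb _ 1 ∅ (fun d => a ∈ d ∧ a' ∈ d)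
        (by simp [SimpleGraph.mem_commonNeighbors, stn22_pb_inl_none]) (by omega)
        (by simp [SimpleGraph.mem_commonNeighbors, stn22_pb_inl_inl])
        (by simp [SimpleGraph.mem_commonNeighbors, stn22_pb_inl_inr]),
        stn22_through_two hα hB haa]
      simp
    · rw [stn22_pb_inl_inr] at hvw
      rw [stn22_card_pb _ 0 ∅ (fun d => a ∈ d ∧ Disjoint (c : Finset α) d)
        (by simp [SimpleGraph.mem_commonNeighbors, stn22_pb_inr_none]) (by omega)
        (by simp [SimpleGraph.mem_commonNeighbors, stn22_pb_inl_inl])
        (by simp [SimpleGraph.mem_commonNeighbors, stn22_pb_inl_inr, hadj]),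
        stn22_point_disjoint hα hB c.2 hvw]
      simp
    · rw [stn22_card_pb _ 0 (b : Finset α) (fun _ => False)
        (by simp [SimpleGraph.mem_commonNeighbors, stn22_pb_none_none]) (by omega)
        (by simp [SimpleGraph.mem_commonNeighbors, stn22_pb_none_inl, stn22_pb_inr_inl])
        (by simp [SimpleGraph.mem_commonNeighbors, stn22_pb_none_inr]),
        steiner_card hB b.2]
      simp
    · rw [stn22_pb_inr_inl] at hvw
      rw [stn22_card_pb _ 0 ∅ (fun d => a' ∈ d ∧ Disjoint (b : Finset α) d)
        (by simp [SimpleGraph.mem_commonNeighbors, stn22_pb_inr_none]) (by omega)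
        (by simp [SimpleGraph.mem_commonNeighbors, stn22_pb_inl_inl])
        (by simp [SimpleGraph.mem_commonNeighbors, stn22_pb_inl_inr, hadj, and_comm]),
        stn22_point_disjoint hα hB b.2 hvw]
      simp
    · rw [hadj] at hvw
      have hne' : (b : Finset α) ≠ c := fun h => hne (by rw [Subtype.ext h])
      have h2 : ((b : Finset α) ∩ c).card = 2 := by
        rcases stn22_inter hα hB b.2 c.2 hne' with h | h
        · exfalso; apply hvw
          rw [Finset.disjoint_iff_inter_eq_empty, ← Finset.card_eq_zero]; exact h
        · exact h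
      rw [stn22_card_pb _ 0 ((b : Finset α) ∩ c)
        (fun d => Disjoint (b : Finset α) d ∧ Disjoint (c : Finset α) d)
        (by simp [SimpleGraph.mem_commonNeighbors, stn22_pb_inr_none]) (by omega)
        (by simp [SimpleGraph.mem_commonNeighbors, stn22_pb_inr_inl])
        (by simp [SimpleGraph.mem_commonNeighbors, hadj]),
        stn22_common_disjoint hα hB b.2 c.2 hne', h2]

end Cfsg.Agent.S0428
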