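import Cfsg.Statements.S1597
import Cfsg.Agent.Lib.Helper12.Golay.QuartetClasses

set_option autoImplicit false
open scoped Pointwise
open Cfsg

namespace Cfsg.Agent.S1597

open Cfsg.Agent.Lib.Helper12 Cfsg.Agent.Lib.Helper12.Golay

/-- A dodecad has 220 quartets and its stabiliser is transitive on them. -/
theorem result (d : Finset Cfsg.GolayPt) (hd : d ∈ Cfsg.dodecads) : (Cfsg.quartets d).ncard = 220 ∧ ∀ Q ∈ Cfsg.quartets d, ∀ Q' ∈ Cfsg.quartets d, ∃ g : Equiv.Perm Cfsg.GolayPt, g ∈ Cfsg.M24 ∧ g • d = d ∧ g • Q = Q' := by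
  obtain ⟨k, hk, rfl⟩ := dodecads_transitive d hd
  have hkinv : k⁻¹ ∈ M24 := M24.inv_mem hk
  constructor
  · have hset : quartets (k • fs d₀) = (fun Q => k • Q) '' quartets (fs d₀) := by
      ext Q
      constructor
      · intro hQ
        refine ⟨k⁻¹ • Q, ?_, smul_inv_smul k Q⟩
        have := smul_quartets hkinv hQ
        rwa [inv_smul_smul] at this
      · rintro ⟨Q0, hQ0, rfl⟩
        exact smul_quartets hk hQ0
    rw [hset, Set.ncard_image_of_injective _ (MulAction.injective k), ncard_quartets_base]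
  · intro Q hQ Q' hQ'
    have h1 : k⁻¹ • Q ∈ quartets (fs d₀) := by
      have := smul_quartets hkinv hQ
      rwa [inv_smul_smul] at this
    have h2 : k⁻¹ • Q' ∈ quartets (fs d₀) := by
      have := smul_quartets hkinv hQ'
      rwa [inv_smul_smul] at this
    obtain ⟨g1, hg1, e1⟩ := quartets_transitive _ h1
    obtain ⟨g2, hg2, e2⟩ := quartets_transitive _ h2
    have f1 : g1 • fs d₀ = fs d₀ := hg1.2
    have f2 : g2 • fs d₀ = fs d₀ := hg2.2
    refine ⟨k * g2 * g1⁻¹ * k⁻¹, ?_, ?_, ?_⟩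
    · exact M24.mul_mem (M24.mul_mem (M24.mul_mem hk hg2.1) (M24.inv_mem hg1.1)) hkinv
    · rw [mul_smul, mul_smul, mul_smul, inv_smul_smul]
      have : g1⁻¹ • fs d₀ = fs d₀ := by rw [inv_smul_eq_iff]; exact f1.symm
      rw [this, f2]
    · rw [mul_smul, mul_smul, mul_smul, ← e1, inv_smul_smul, e2, smul_inv_smul]

end Cfsg.Agent.S1597
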