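import Cfsg.Statements.S1946
import Cfsg.Agent.Lib.Helper1.SmallFusion
import Cfsg.Agent.Lib.Helper1.NPC2

set_option autoImplicit false
open Cfsg
open scoped Pointwise

namespace Cfsg.Agent.S1946

/-- Let P be a Sylow p-subgroup of the finite group G. Then G has a normal p-complement if and only if P controls the fusion of its elements of order dividing p (dividing 4 when p = 2): whenever such an element a of P has a G-conjugate g a g⁻¹ in P, that conjugate is already x a x⁻¹ for some x in P. -/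
theorem result {G : Type*} [Group G] [Finite G] {p : ℕ} [Fact p.Prime] (P : Sylow p G) :
    Cfsg.HasNormalPComplement p G ↔
      ∀ a ∈ (P : Subgroup G), (a ^ p = 1 ∨ (p = 2 ∧ a ^ 4 = 1)) → ∀ g : G, g * a * g⁻¹ ∈ (P : Subgroup G) →
        ∃ x ∈ (P : Subgroup G), g * a * g⁻¹ = x * a * x⁻¹ := by
  constructor
  · intro hnpc a ha _ g hg
    obtain ⟨N, hN, hc⟩ := (Cfsg.Agent.Lib.Helper1.hasNormalPComplement_iff P).mp hnpc
    have hg2 : g ∈ ((P : Subgroup G) : Set G) * (N : Set G) := by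
      have h1 := hc.symm.mul_eq
      rw [h1]
      exact Set.mem_univ g
    obtain ⟨y, hy, k, hk, rfl⟩ := Set.mem_mul.mp hg2
    have h3 : k * a * k⁻¹ ∈ (P : Subgroup G) := by
      have h4 : k * a * k⁻¹ = y⁻¹ * (y * k * a * (y * k)⁻¹) * y := by group
      rw [h4]
      exact Subgroup.mul_mem _ (Subgroup.mul_mem _ (Subgroup.inv_mem _ hy) hg) hy
    have h5 : k * a * k⁻¹ * a⁻¹ ∈ N := by
      have h6 : k * a * k⁻¹ * a⁻¹ = k * (a * k⁻¹ * a⁻¹) := by group
      rw [h6]
      exact N.mul_mem hk (hN.conj_mem _ (N.inv_mem hk) a)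
    have h7 : k * a * k⁻¹ * a⁻¹ ∈ (P : Subgroup G) := Subgroup.mul_mem _ h3 (Subgroup.inv_mem _ ha)
    have h8 : k * a * k⁻¹ * a⁻¹ = 1 := by
      have h9 : k * a * k⁻¹ * a⁻¹ ∈ N ⊓ (P : Subgroup G) := ⟨h5, h7⟩
      rw [hc.disjoint.eq_bot, Subgroup.mem_bot] at h9
      exact h9
    have h10 : k * a * k⁻¹ = a := by
      have := congrArg (· * a) h8
      simpa using this
    refine ⟨y, hy, ?_⟩
    calc y * k * a * (y * k)⁻¹ = y * (k * a * k⁻¹) * y⁻¹ := by group
      _ = y * a * y⁻¹ := by rw [h10]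
  · intro hFC
    exact (Cfsg.Agent.Lib.Helper1.hasNormalPComplement_iff P).mpr
      (Cfsg.Agent.Lib.Helper1.npc_of_small_fusion P hFC)

end Cfsg.Agent.S1946
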