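import Cfsg.Statements.S4037
import Mathlib
import Cfsg.Agent.Lib.Helper22.Basic
import Cfsg.Agent.Lib.Helper22.Sylow
import Cfsg.Agent.Lib.Helper22.SolvRad
import Cfsg.Agent.Lib.Helper22.Kazarin1
import Cfsg.Agent.Lib.Helper22.Kazarin3

set_option autoImplicit false
open Cfsg

namespace Cfsg.Agent.S4037

open Cfsg.Agent.Lib.Helper22 Cfsg.Agent.Lib.Helper22.SolvRad Cfsg.Agent.Lib.Helper22.Kazarin1
  Cfsg.Agent.Lib.Helper22.Kazarin3

universe u

theorem relIndex_normal_dvd {G : Type*} [Group G] [Finite G] (C N : Subgroup G) [N.Normal] :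
    C.relIndex N ∣ C.index := by
  have h1 : (C ⊓ N).relIndex N * N.relIndex (C ⊔ N) = (C ⊓ N).relIndex (C ⊔ N) :=
    Subgroup.relIndex_mul_relIndex _ _ _ inf_le_right le_sup_right
  have h2 : (C ⊓ N).relIndex C * C.relIndex (C ⊔ N) = (C ⊓ N).relIndex (C ⊔ N) :=
    Subgroup.relIndex_mul_relIndex _ _ _ inf_le_left le_sup_left
  have h3 : N.relIndex (C ⊔ N) = N.relIndex C := Subgroup.relIndex_sup_right C N
  have h4 : (C ⊓ N).relIndex C = N.relIndex C := Subgroup.inf_relIndex_left C N
  have h5 : (C ⊓ N).relIndex N = C.relIndex N := Subgroup.inf_relIndex_right C N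
  have hne : N.relIndex C ≠ 0 := Subgroup.index_ne_zero_of_finite
  have h6 : C.relIndex N = C.relIndex (C ⊔ N) := by
    rw [h3, h5] at h1
    rw [h4] at h2
    have : C.relIndex N * N.relIndex C = N.relIndex C * C.relIndex (C ⊔ N) := by
      rw [h1, h2]
    rw [mul_comm] at this
    exact Nat.eq_of_mul_eq_mul_left (Nat.pos_of_ne_zero hne) this
  rw [h6]
  exact Subgroup.relIndex_dvd_index_of_le le_sup_left

theorem centralizer_subtype {G : Type*} [Group G] (N : Subgroup G) (g : N) :
    Subgroup.centralizer ({g} : Set N) =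
      (Subgroup.centralizer ({(g : G)} : Set G)).subgroupOf N := by
  ext x
  rw [Subgroup.mem_subgroupOf, Subgroup.mem_centralizer_iff, Subgroup.mem_centralizer_iff]
  constructor
  · intro h y hy
    rw [Set.mem_singleton_iff] at hy
    subst hy
    have := h g (Set.mem_singleton g)
    exact congrArg Subtype.val this
  · intro h y hy
    rw [Set.mem_singleton_iff] at hy
    subst hy
    apply Subtype.ext
    exact h (y : G) (Set.mem_singleton _)

theorem main_coprime (p : ℕ) [hp : Fact p.Prime] : ∀ n : ℕ, ∀ (G : Type u) [Group G] [Finite G],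
    Nat.card G = n → ∀ (g : G) (a : ℕ),
    (Subgroup.centralizer ({g} : Set G)).index = p ^ a → ¬ p ∣ orderOf g →
    Group.IsSolvable ↥(Subgroup.normalClosure ({g} : Set G)) := by
  intro n
  induction n using Nat.strong_induction_on with
  | _ n ih =>
    intro G _ _ hcard g a hidx hgp
    by_cases htop : Subgroup.normalClosure ({g} : Set G) = ⊤
    · have h1 := commutator_pgroup g htop p a hidx hgp
      have h2 : Group.IsSolvable G := solvable_of_commutator_pgroup p h1
      infer_instance
    · set N := Subgroup.normalClosure ({g} : Set G) with hN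
      have hlt : Nat.card N < n := by
        rw [← hcard]
        have h0 : N < ⊤ := lt_top_iff_ne_top.mpr htop
        have h1 : Nat.card N < Nat.card (⊤ : Subgroup G) :=
          Set.Finite.card_lt_card (Set.toFinite _) h0
        rwa [Subgroup.card_top] at h1
      set g' : ↥N := ⟨g, Subgroup.subset_normalClosure (Set.mem_singleton g)⟩ with hg'
      have hidx' : ∃ a' : ℕ, (Subgroup.centralizer ({g'} : Set ↥N)).index = p ^ a' := by
        rw [centralizer_subtype N g']
        have h1 : ((Subgroup.centralizer ({(g' : G)} : Set G)).subgroupOf N).index ∣ p ^ a := by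
          rw [← hidx]
          exact relIndex_normal_dvd _ N
        obtain ⟨m, -, hm⟩ := (Nat.dvd_prime_pow hp.out).mp h1
        exact ⟨m, hm⟩
      obtain ⟨a', ha'⟩ := hidx'
      have hgp' : ¬ p ∣ orderOf g' := by
        rw [← Subgroup.orderOf_coe]
        exact hgp
      have h3 := ih (Nat.card N) hlt ↥N rfl g' a' ha' hgp'
      exact solvable_of_normalClosure g h3

theorem isSolvable_of_le {G : Type*} [Group G] {H K : Subgroup G} (h : H ≤ K)
    (hK : Group.IsSolvable ↥K) : Group.IsSolvable ↥H :=
  Group.isSolvable_of_isSolvable_injective (f := Subgroup.inclusion h)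
    (Subgroup.inclusion_injective h)

theorem index_centralizer_dvd_of_mem_zpowers {G : Type*} [Group G] (g x : G)
    (hx : x ∈ Subgroup.zpowers g) :
    (Subgroup.centralizer ({x} : Set G)).index ∣ (Subgroup.centralizer ({g} : Set G)).index := by
  apply Subgroup.index_dvd_of_le
  intro c hc
  rw [Subgroup.mem_centralizer_iff] at hc ⊢
  intro y hy
  rw [Set.mem_singleton_iff] at hy
  subst hy
  obtain ⟨k, rfl⟩ := Subgroup.mem_zpowers_iff.mp hx
  have h1 : Commute c g := (hc g (Set.mem_singleton g)).symm
  exact ((h1.zpow_right k).eq).symm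

/-- If an element x of a finite group G has a conjugacy class of prime-power size, then the normal closure of x in G (the subgroup generated by the conjugacy class of x) is solvable. -/
theorem result {G : Type*} [Group G] [Finite G]
    (x : G) {p : ℕ} (hp : p.Prime) (k : ℕ) (hx : (ConjClasses.mk x).carrier.ncard = p ^ k) :
    Group.IsSolvable ↥(Subgroup.normalClosure ({x} : Set G)) := by
  have : Fact p.Prime := ⟨hp⟩
  have hidx : (Subgroup.centralizer ({x} : Set G)).index = p ^ k := by
    rw [index_centralizer_eq_ncard_conj, ← hx]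
    congr 1
  obtain ⟨a, b, hab, -, ha, hb, haz, hbz⟩ := exists_p_decomp p x
  have hia : ∃ m : ℕ, (Subgroup.centralizer ({a} : Set G)).index = p ^ m := by
    have h1 := index_centralizer_dvd_of_mem_zpowers x a haz
    rw [hidx] at h1
    obtain ⟨m, -, hm⟩ := (Nat.dvd_prime_pow hp).mp h1
    exact ⟨m, hm⟩
  have hib : ∃ m : ℕ, (Subgroup.centralizer ({b} : Set G)).index = p ^ m := by
    have h1 := index_centralizer_dvd_of_mem_zpowers x b hbz
    rw [hidx] at h1
    obtain ⟨m, -, hm⟩ := (Nat.dvd_prime_pow hp).mp h1
    exact ⟨m, hm⟩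
  obtain ⟨ma, hma⟩ := hia
  obtain ⟨mb, hmb⟩ := hib
  have hA : Group.IsSolvable ↥(Subgroup.normalClosure ({a} : Set G)) := by
    have h1 := pelement_closure_pgroup p a ha ma hma
    have : Group.IsNilpotent ↥(Subgroup.normalClosure ({a} : Set G)) := h1.isNilpotent
    infer_instance
  have hB : Group.IsSolvable ↥(Subgroup.normalClosure ({b} : Set G)) := by
    apply main_coprime p (Nat.card G) G rfl b mb hmb
    intro hd
    have := Nat.Coprime.eq_one_of_dvd hb.symm hd
    exact hp.one_lt.ne' this
  have hsup := solvable_sup _ _ hA hB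
  apply isSolvable_of_le _ hsup
  apply Subgroup.normalClosure_le_normal
  rw [Set.singleton_subset_iff, hab]
  exact Subgroup.mul_mem _
    (Subgroup.mem_sup_left (Subgroup.subset_normalClosure (Set.mem_singleton a)))
    (Subgroup.mem_sup_right (Subgroup.subset_normalClosure (Set.mem_singleton b)))

end Cfsg.Agent.S4037
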