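import Cfsg.Statements.S1125
import Cfsg.Agent.Lib.Helper9.RankOne

set_option autoImplicit false
open Cfsg

namespace Cfsg.Agent.S1125

open Cfsg.Agent.Lib.Helper9

theorem exists_third {α : Type*} {b c d : α} (hbc : b ≠ c) (hbd : b ≠ d) (hcd : c ≠ d) (u v : α) :
    ∃ p, (p = b ∨ p = c ∨ p = d) ∧ p ≠ u ∧ p ≠ v := by
  by_cases h1 : b ≠ u ∧ b ≠ v
  · exact ⟨b, Or.inl rfl, h1⟩
  by_cases h2 : c ≠ u ∧ c ≠ v
  · exact ⟨c, Or.inr (Or.inl rfl), h2⟩
  refine ⟨d, Or.inr (Or.inr rfl), ?_, ?_⟩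
  · rintro rfl
    grind
  · rintro rfl
    grind

section
variable {G Ω : Type*} [Group G] [MulAction G Ω] {a : Ω} {t : G} {Q : Subgroup G}

/-- elements of `Q` centralizing `X` move fixed points of `X` regularly (base point `a`) -/
theorem k1a (hS : Cfsg.IsRankOneSetup G Ω a t Q) {X : Set G}
    (hXH : ∀ x ∈ X, x ∈ MulAction.stabilizer G a) {c d : Ω} (hc : c ≠ a) (hd : d ≠ a)
    (hXc : ∀ x ∈ X, x • c = c) (hXd : ∀ x ∈ X, x • d = d) :
    ∃ y ∈ Q, y ∈ Subgroup.centralizer X ∧ y • c = d := by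
  obtain ⟨⟨z, hz⟩, hzc, huniq⟩ := ro_regular hS hc hd
  have hzc' : z • c = d := hzc
  refine ⟨z, hz, ?_, hzc'⟩
  rw [Subgroup.mem_centralizer_iff]
  intro x hx
  have h1 : x * z * x⁻¹ ∈ Q := hS.conj_mem x (hXH x hx) z hz
  have h2 : (x * z * x⁻¹) • c = d := by
    rw [mul_smul, mul_smul, inv_smul_eq_iff.2 (hXc x hx).symm, hzc', hXd x hx]
  have h3 := huniq ⟨x * z * x⁻¹, h1⟩ h2
  have h4 : x * z * x⁻¹ = z := congrArg Subtype.val h3
  have : x * z = (x * z * x⁻¹) * x := by group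
  rw [this, h4]

/-- the same at an arbitrary fixed point `p` -/
theorem k1 (hS : Cfsg.IsRankOneSetup G Ω a t Q) {X : Set G} {p c d : Ω}
    (hXp : ∀ x ∈ X, x • p = p) (hc : c ≠ p) (hd : d ≠ p)
    (hXc : ∀ x ∈ X, x • c = c) (hXd : ∀ x ∈ X, x • d = d) :
    ∃ y ∈ Subgroup.centralizer X, y • p = p ∧ y • c = d := by
  obtain ⟨g, rfl⟩ := ro_exists_smul_eq hS p
  have hXH : ∀ x' ∈ (fun x => g⁻¹ * x * g) '' X, x' ∈ MulAction.stabilizer G a := by
    rintro _ ⟨x, hx, rfl⟩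
    rw [MulAction.mem_stabilizer_iff, mul_smul, mul_smul, hXp x hx, inv_smul_smul]
  have hc' : g⁻¹ • c ≠ a := by
    intro h; apply hc; rw [inv_smul_eq_iff] at h; exact h
  have hd' : g⁻¹ • d ≠ a := by
    intro h; apply hd; rw [inv_smul_eq_iff] at h; exact h
  have hXc' : ∀ x' ∈ (fun x => g⁻¹ * x * g) '' X, x' • (g⁻¹ • c) = g⁻¹ • c := by
    rintro _ ⟨x, hx, rfl⟩
    rw [← mul_smul]
    have : g⁻¹ * x * g * g⁻¹ = g⁻¹ * x := by group
    rw [this, mul_smul, hXc x hx]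
  have hXd' : ∀ x' ∈ (fun x => g⁻¹ * x * g) '' X, x' • (g⁻¹ • d) = g⁻¹ • d := by
    rintro _ ⟨x, hx, rfl⟩
    rw [← mul_smul]
    have : g⁻¹ * x * g * g⁻¹ = g⁻¹ * x := by group
    rw [this, mul_smul, hXd x hx]
  obtain ⟨y, hyQ, hyC, hycd⟩ := k1a hS hXH hc' hd' hXc' hXd'
  refine ⟨g * y * g⁻¹, ?_, ?_, ?_⟩
  · rw [Subgroup.mem_centralizer_iff]
    intro x hx
    have h1 := (Subgroup.mem_centralizer_iff.1 hyC) (g⁻¹ * x * g) ⟨x, hx, rfl⟩
    have e1 : x * (g * y * g⁻¹) = g * ((g⁻¹ * x * g) * y) * g⁻¹ := by group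
    rw [e1, h1]; group
  · rw [mul_smul, mul_smul, inv_smul_smul, MulAction.mem_stabilizer_iff.1 (hS.le hyQ)]
  · rw [mul_smul, mul_smul, hycd, smul_inv_smul]

end


/-- In the rank-one set-up (`G` finite and doubly transitive on `Ω`, `t` an involution moving `a`, `Q` normal in `G_a` with `G_a = Q D`, `Q ⊓ D = 1` for the two-point stabiliser `D = G_a ⊓ G_{t • a}`, `|Q|` even, `|D|` odd), let `X ⊆ D` fix at least three points of `Ω`. Then `C_G(X)` is doubly transitive on the fixed-point set of `X`, `|C_Q(X)|` is even, and `C_{G_a}(X) = C_Q(X) C_D(X)`. -/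
theorem result {G Ω : Type*} [Group G] [Finite G] [MulAction G Ω] {a : Ω} {t : G} {Q : Subgroup G}
    (hS : Cfsg.IsRankOneSetup G Ω a t Q)
    (X : Set G) (hX : X ⊆ ((MulAction.stabilizer G a ⊓ MulAction.stabilizer G (t • a)) : Set G))
    (h3 : ∃ b c d : Ω, b ≠ c ∧ b ≠ d ∧ c ≠ d ∧ ∀ x ∈ X, x • b = b ∧ x • c = c ∧ x • d = d) :
    (∀ b₁ b₂ c₁ c₂ : Ω, (∀ x ∈ X, x • b₁ = b₁ ∧ x • b₂ = b₂ ∧ x • c₁ = c₁ ∧ x • c₂ = c₂) →
        b₁ ≠ b₂ → c₁ ≠ c₂ → ∃ g ∈ Subgroup.centralizer X, g • b₁ = c₁ ∧ g • b₂ = c₂) ∧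
      Even (Nat.card ↥(Subgroup.centralizer X ⊓ Q)) ∧
      (Subgroup.centralizer X ⊓ Q) ⊔ (Subgroup.centralizer X ⊓ (MulAction.stabilizer G a ⊓ MulAction.stabilizer G (t • a))) = Subgroup.centralizer X ⊓ MulAction.stabilizer G a := by
  obtain ⟨b, c, d, hbc, hbd, hcd, hfix3⟩ := h3
  have hXa : ∀ x ∈ X, x • a = a := fun x hx =>
    MulAction.mem_stabilizer_iff.1 (Subgroup.mem_inf.1 (hX hx)).1
  have hXta : ∀ x ∈ X, x • t • a = t • a := fun x hx =>
    MulAction.mem_stabilizer_iff.1 (Subgroup.mem_inf.1 (hX hx)).2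
  -- centralizing elements preserve the fixed points
  have hpres : ∀ g ∈ Subgroup.centralizer X, ∀ p : Ω, (∀ x ∈ X, x • p = p) →
      ∀ x ∈ X, x • g • p = g • p := by
    intro g hg p hp x hx
    rw [← mul_smul, (Subgroup.mem_centralizer_iff.1 hg) x hx, mul_smul, hp x hx]
  -- transitivity
  have htrans : ∀ p q : Ω, (∀ x ∈ X, x • p = p) → (∀ x ∈ X, x • q = q) →
      ∃ g ∈ Subgroup.centralizer X, g • p = q := by
    intro p q hp hq
    by_cases hpq : p = q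
    · exact ⟨1, one_mem _, by rw [one_smul, hpq]⟩
    · obtain ⟨r, hr, hrp, hrq⟩ := exists_third hbc hbd hcd p q
      have hXr : ∀ x ∈ X, x • r = r := by
        intro x hx
        rcases hr with rfl | rfl | rfl
        · exact (hfix3 x hx).1
        · exact (hfix3 x hx).2.1
        · exact (hfix3 x hx).2.2
      obtain ⟨y, hyC, -, hy⟩ := k1 hS hXr (Ne.symm hrp) (Ne.symm hrq) hp hq
      exact ⟨y, hyC, hy⟩
  have two_trans : ∀ b₁ b₂ c₁ c₂ : Ω,
      (∀ x ∈ X, x • b₁ = b₁ ∧ x • b₂ = b₂ ∧ x • c₁ = c₁ ∧ x • c₂ = c₂) →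
      b₁ ≠ b₂ → c₁ ≠ c₂ → ∃ g ∈ Subgroup.centralizer X, g • b₁ = c₁ ∧ g • b₂ = c₂ := by
    intro b₁ b₂ c₁ c₂ hfix hb hc
    obtain ⟨g₁, hg₁C, hg₁⟩ := htrans b₁ c₁ (fun x hx => (hfix x hx).1) (fun x hx => (hfix x hx).2.2.1)
    have h1 : g₁ • b₂ ≠ c₁ := by
      intro h
      rw [← hg₁] at h
      exact hb (smul_left_cancel _ h).symm
    have h2 : ∀ x ∈ X, x • g₁ • b₂ = g₁ • b₂ := hpres g₁ hg₁C b₂ (fun x hx => (hfix x hx).2.1)
    obtain ⟨y, hyC, hyc, hy⟩ := k1 hS (fun x hx => (hfix x hx).2.2.1) h1 (Ne.symm hc) h2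
      (fun x hx => (hfix x hx).2.2.2)
    exact ⟨y * g₁, mul_mem hyC hg₁C, by rw [mul_smul, hg₁, hyc], by rw [mul_smul, hy]⟩
  refine ⟨two_trans, ?_, ?_⟩
  · -- an involution centralizing X
    obtain ⟨g, hgC, hga, hgta⟩ := two_trans a (t • a) (t • a) a
      (fun x hx => ⟨hXa x hx, hXta x hx, hXta x hx, hXa x hx⟩) (ro_ta_ne hS).symm (ro_ta_ne hS)
    have hgH : g ∉ MulAction.stabilizer G a := by
      intro h
      rw [MulAction.mem_stabilizer_iff, hga] at h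
      exact ro_ta_ne hS h
    have hg2 : g ^ 2 ∈ MulAction.stabilizer G a := by
      rw [MulAction.mem_stabilizer_iff, pow_two, mul_smul, hga, hgta]
    have heven : 2 ∣ orderOf g := by
      by_contra h2
      have hodd : Odd (orderOf g) := Nat.odd_iff.2 (by omega)
      obtain ⟨k, hk⟩ := hodd
      apply hgH
      have : g = (g ^ 2) ^ (k + 1) := by
        rw [← pow_mul]
        have : 2 * (k + 1) = orderOf g + 1 := by omega
        rw [this, pow_succ, pow_orderOf_eq_one, one_mul]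
      rw [this]
      exact pow_mem hg2 _
    obtain ⟨m, hm⟩ := heven
    have hm0 : 0 < m := by
      rcases Nat.eq_zero_or_pos m with h0 | h0
      · exfalso
        rw [h0, mul_zero] at hm
        exact (orderOf_pos g).ne' hm
      · exact h0
    have hz1 : g ^ m ≠ 1 := pow_ne_one_of_lt_orderOf hm0.ne' (by omega)
    have hz2 : g ^ m * g ^ m = 1 := by
      rw [← pow_add, ← two_mul, ← hm, pow_orderOf_eq_one]
    have hzC : g ^ m ∈ Subgroup.centralizer X := pow_mem hgC m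
    obtain ⟨p, hp⟩ := ro_invol_exists_fixed hS hz1 hz2
    have hXp : ∀ x ∈ X, x • p = p := by
      intro x hx
      have h1 : g ^ m • x • p = x • p := by
        rw [← mul_smul, ← (Subgroup.mem_centralizer_iff.1 hzC) x hx, mul_smul, hp]
      exact ro_invol_fixed_unique hS hz1 hz2 h1 hp
    obtain ⟨g', hg'C, hg'⟩ := htrans a p hXa hXp
    have hz'C : g'⁻¹ * g ^ m * g' ∈ Subgroup.centralizer X :=
      mul_mem (mul_mem (inv_mem hg'C) hzC) hg'C
    have hz'H : g'⁻¹ * g ^ m * g' ∈ MulAction.stabilizer G a := by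
      rw [MulAction.mem_stabilizer_iff, mul_smul, mul_smul, hg', hp, ← hg', inv_smul_smul]
    have hz'2 : (g'⁻¹ * g ^ m * g') * (g'⁻¹ * g ^ m * g') = 1 := by
      have : (g'⁻¹ * g ^ m * g') * (g'⁻¹ * g ^ m * g') = g'⁻¹ * (g ^ m * g ^ m) * g' := by group
      rw [this, hz2]; group
    have hz'1 : g'⁻¹ * g ^ m * g' ≠ 1 := by
      intro h0
      apply hz1
      have : g ^ m = g' * (g'⁻¹ * g ^ m * g') * g'⁻¹ := by group
      rw [this, h0]; group
    have hz'Q := ro_invol_mem_Q hS hz'H hz'2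
    have hmem : g'⁻¹ * g ^ m * g' ∈ Subgroup.centralizer X ⊓ Q := Subgroup.mem_inf.2 ⟨hz'C, hz'Q⟩
    have hord : orderOf (g'⁻¹ * g ^ m * g') = 2 := orderOf_two_iff.2 ⟨hz'1, hz'2⟩
    have := orderOf_dvd_natCard (⟨_, hmem⟩ : ↥(Subgroup.centralizer X ⊓ Q))
    rw [Subgroup.orderOf_mk, hord] at this
    exact even_iff_two_dvd.2 this
  · apply le_antisymm
    · apply sup_le
      · exact inf_le_inf_left _ hS.le
      · exact inf_le_inf_left _ inf_le_left
    · intro h hh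
      obtain ⟨hhC, hhH⟩ := Subgroup.mem_inf.1 hh
      have hha : h • a = a := MulAction.mem_stabilizer_iff.1 hhH
      have h1 : h • t • a ≠ a := by
        intro h0
        exact ro_ta_ne hS (smul_left_cancel h (h0.trans hha.symm))
      have h2 : ∀ x ∈ X, x • h • t • a = h • t • a := hpres h hhC _ hXta
      obtain ⟨y, hyQ, hyC, hy⟩ := k1a hS (fun x hx => (Subgroup.mem_inf.1 (hX hx)).1)
        (ro_ta_ne hS) h1 hXta h2
      have h3 : y⁻¹ * h ∈ Subgroup.centralizer X ⊓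
          (MulAction.stabilizer G a ⊓ MulAction.stabilizer G (t • a)) := by
        refine Subgroup.mem_inf.2 ⟨mul_mem (inv_mem hyC) hhC, Subgroup.mem_inf.2 ⟨?_, ?_⟩⟩
        · exact mul_mem (inv_mem (hS.le hyQ)) hhH
        · rw [MulAction.mem_stabilizer_iff, mul_smul, ← hy, inv_smul_smul]
      have : h = y * (y⁻¹ * h) := by group
      rw [this]
      exact mul_mem (Subgroup.mem_sup_left (Subgroup.mem_inf.2 ⟨hyC, hyQ⟩))
        (Subgroup.mem_sup_right h3)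

end Cfsg.Agent.S1125
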