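import Cfsg.Statements.S1126
import Cfsg.Agent.Lib.Helper9.RankOne
import Cfsg.Agent.S1125

set_option autoImplicit false
open Cfsg

namespace Cfsg.Agent.S1126

open Cfsg.Agent.Lib.Helper9

/-- In the rank-one set-up (`G` finite and doubly transitive on `Ω`, `t` an involution moving `a`, `Q` normal in `G_a` with `G_a = Q D`, `Q ⊓ D = 1` for the two-point stabiliser `D = G_a ⊓ G_{t • a}`, `|Q|` even, `|D|` odd), a subset `X ⊆ D` fixing at least three points of `Ω` is conjugate by an element of `D` into `V = C_D(t)`. -/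
theorem result {G Ω : Type*} [Group G] [Finite G] [MulAction G Ω] {a : Ω} {t : G} {Q : Subgroup G}
    (hS : Cfsg.IsRankOneSetup G Ω a t Q)
    (X : Set G) (hX : X ⊆ ((MulAction.stabilizer G a ⊓ MulAction.stabilizer G (t • a)) : Set G))
    (h3 : ∃ b c d : Ω, b ≠ c ∧ b ≠ d ∧ c ≠ d ∧ ∀ x ∈ X, x • b = b ∧ x • c = c ∧ x • d = d) :
    ∃ k ∈ (MulAction.stabilizer G a ⊓ MulAction.stabilizer G (t • a)), ∀ x ∈ X, (k * x * k⁻¹) * t = t * (k * x * k⁻¹) := by
  have hti := ro_t_inv hS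
  have htt := hS.mul_self
  have hXa : ∀ x ∈ X, x • a = a := fun x hx =>
    MulAction.mem_stabilizer_iff.1 (Subgroup.mem_inf.1 (hX hx)).1
  have hXta : ∀ x ∈ X, x • t • a = t • a := fun x hx =>
    MulAction.mem_stabilizer_iff.1 (Subgroup.mem_inf.1 (hX hx)).2
  obtain ⟨g, hgC, hga, hgta⟩ := (Cfsg.Agent.S1125.result hS X hX h3).1 a (t • a) (t • a) a
    (fun x hx => ⟨hXa x hx, hXta x hx, hXta x hx, hXa x hx⟩) (ro_ta_ne hS).symm (ro_ta_ne hS)
  have hg2 : g ^ 2 ∈ MulAction.stabilizer G a ⊓ MulAction.stabilizer G (t • a) := by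
    refine Subgroup.mem_inf.2 ⟨?_, ?_⟩
    · rw [MulAction.mem_stabilizer_iff, pow_two, mul_smul, hga, hgta]
    · rw [MulAction.mem_stabilizer_iff, pow_two, mul_smul, hgta, hga]
  obtain ⟨j, hj⟩ := hS.odd_card
  -- z = g ^ |D|
  have hz2 : g ^ (2 * j + 1) * g ^ (2 * j + 1) = 1 := by
    rw [← pow_add, ← two_mul, pow_mul, ← hj]
    have := pow_card_eq_one' (G := ↥(MulAction.stabilizer G a ⊓ MulAction.stabilizer G (t • a)))
      (x := ⟨g ^ 2, hg2⟩)
    exact congrArg Subtype.val this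
  have hza : g ^ (2 * j + 1) • a = t • a := by
    rw [pow_succ, mul_smul, hga, pow_mul]
    exact MulAction.mem_stabilizer_iff.1 (Subgroup.mem_inf.1 (pow_mem hg2 j)).2
  have hzC : g ^ (2 * j + 1) ∈ Subgroup.centralizer X := pow_mem hgC _
  obtain ⟨z, hz⟩ : ∃ z, z = g ^ (2 * j + 1) := ⟨_, rfl⟩
  rw [← hz] at hz2 hza hzC
  have hzi : z⁻¹ = z := inv_eq_of_mul_eq_one_right hz2
  have hzta : z • t • a = a := by rw [← hza, ← mul_smul, hz2, one_smul]
  -- k₀ = t z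
  have hk₀D : t * z ∈ MulAction.stabilizer G a ⊓ MulAction.stabilizer G (t • a) := by
    refine Subgroup.mem_inf.2 ⟨?_, ?_⟩
    · rw [MulAction.mem_stabilizer_iff, mul_smul, hza, ro_tta hS]
    · rw [MulAction.mem_stabilizer_iff, mul_smul, hzta]
  have hk₀inv : t * (t * z) * t⁻¹ = (t * z)⁻¹ := by
    rw [mul_inv_rev, hti, hzi]
    have : t * (t * z) * t = (t * t) * z * t := by group
    rw [this, htt, one_mul]
  have hodd : Odd (orderOf (t * z)) := by
    have h1 := orderOf_dvd_natCard (⟨t * z, hk₀D⟩ :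
      ↥(MulAction.stabilizer G a ⊓ MulAction.stabilizer G (t • a)))
    rw [Subgroup.orderOf_mk] at h1
    exact Odd.of_dvd_nat hS.odd_card h1
  obtain ⟨i, hi⟩ := hodd
  have hkk : (t * z) ^ (i + 1) * (t * z) ^ (i + 1) = t * z := by
    rw [← pow_add]
    have : i + 1 + (i + 1) = orderOf (t * z) + 1 := by omega
    rw [this, pow_succ, pow_orderOf_eq_one, one_mul]
  have hkinv : t * (t * z) ^ (i + 1) * t⁻¹ = ((t * z) ^ (i + 1))⁻¹ := by
    rw [← conj_pow, hk₀inv, inv_pow]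
  have hkD : (t * z) ^ (i + 1) ∈ MulAction.stabilizer G a ⊓ MulAction.stabilizer G (t • a) :=
    pow_mem hk₀D _
  obtain ⟨k, hk⟩ : ∃ k, k = (t * z) ^ (i + 1) := ⟨_, rfl⟩
  rw [← hk] at hkk hkinv hkD
  have hconj : k⁻¹ * t * k = z := by
    have e1 : k⁻¹ * t * k = t * (t⁻¹ * k⁻¹ * t) * k := by group
    have e2 : t⁻¹ * k⁻¹ * t = k := by
      rw [← hkinv]; group
    rw [e1, e2, mul_assoc, hkk, ← mul_assoc, htt, one_mul]
  refine ⟨k, hkD, ?_⟩
  intro x hx
  have hxz : x * z = z * x := (Subgroup.mem_centralizer_iff.1 hzC) x hx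
  rw [← hconj] at hxz
  have e1 : k * x * k⁻¹ * t = k * (x * (k⁻¹ * t * k)) * k⁻¹ := by group
  rw [e1, hxz]; group

end Cfsg.Agent.S1126
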