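import Cfsg.Statements.S1128
import Cfsg.Agent.Lib.Helper9.RankOne
import Cfsg.Agent.S1126

set_option autoImplicit false
open Cfsg

namespace Cfsg.Agent.S1128

open Cfsg.Agent.Lib.Helper9

theorem inverted_odd {G : Type*} [Group G] {d y : G} (hodd : Odd (orderOf d))
    (hinv : d * y * d⁻¹ = y⁻¹) : y * y = 1 := by
  have key : ∀ n : ℕ, d ^ (2 * n + 1) * y * (d ^ (2 * n + 1))⁻¹ = y⁻¹ := by
    intro n
    induction n with
    | zero => simpa using hinv
    | succ n ih =>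
      have e1 : d ^ (2 * (n + 1) + 1) = d * d * d ^ (2 * n + 1) := by
        rw [show 2 * (n + 1) + 1 = 2 + (2 * n + 1) by ring, pow_add, pow_two]
      rw [e1]
      have e2 : d * d * d ^ (2 * n + 1) * y * (d * d * d ^ (2 * n + 1))⁻¹ =
          d * (d * (d ^ (2 * n + 1) * y * (d ^ (2 * n + 1))⁻¹) * d⁻¹) * d⁻¹ := by group
      rw [e2, ih]
      have e3 : d * y⁻¹ * d⁻¹ = (d * y * d⁻¹)⁻¹ := by group
      rw [e3, hinv, inv_inv, hinv]
  obtain ⟨i, hi⟩ := hodd
  have := key i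
  rw [← hi, pow_orderOf_eq_one, inv_one, one_mul, mul_one] at this
  calc y * y = y * y⁻¹ := by rw [← this]
    _ = 1 := mul_inv_cancel y


/-- In the rank-one set-up (`G` finite and doubly transitive on `Ω`, `t` an involution moving `a`, `Q` normal in `G_a` with `G_a = Q D`, `Q ⊓ D = 1` for the two-point stabiliser `D = G_a ⊓ G_{t • a}`, `|Q|` even, `|D|` odd), with the action faithful and `G` containing two distinct commuting involutions: every non-identity element of `D` inverted by `t` acts fixed-point-freely on `Q`. -/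
theorem result {G Ω : Type*} [Group G] [Finite G] [MulAction G Ω] [FaithfulSMul G Ω] {a : Ω} {t : G} {Q : Subgroup G}
    (hS : Cfsg.IsRankOneSetup G Ω a t Q)
    (h2 : ∃ x y : G, x ≠ 1 ∧ y ≠ 1 ∧ x ≠ y ∧ x * x = 1 ∧ y * y = 1 ∧ x * y = y * x)
    (x : G) (hx : x ∈ Cfsg.invertedBy (MulAction.stabilizer G a ⊓ MulAction.stabilizer G (t • a)) t) (hx1 : x ≠ 1) :
    Q ⊓ Subgroup.centralizer {x} = ⊥ := by
  have hti := ro_t_inv hS
  have htt := hS.mul_self
  obtain ⟨hxD, hxinv⟩ := hx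
  by_contra hne
  rw [Subgroup.eq_bot_iff_forall] at hne
  push Not at hne
  obtain ⟨q, hq, hq1⟩ := hne
  obtain ⟨hqQ, hqC⟩ := Subgroup.mem_inf.1 hq
  rw [Subgroup.mem_centralizer_singleton_iff] at hqC
  have hxa : x • a = a := MulAction.mem_stabilizer_iff.1 (Subgroup.mem_inf.1 hxD).1
  have hxta : x • t • a = t • a := MulAction.mem_stabilizer_iff.1 (Subgroup.mem_inf.1 hxD).2
  have hqa : q • a = a := MulAction.mem_stabilizer_iff.1 (hS.le hqQ)
  have h1 : q • t • a ≠ a := by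
    intro h0
    exact ro_ta_ne hS (smul_left_cancel q (h0.trans hqa.symm))
  have h2 : q • t • a ≠ t • a := fun h0 => hq1 (ro_Q_semiregular hS hqQ (ro_ta_ne hS) h0)
  have h3 : x • q • t • a = q • t • a := by
    rw [← mul_smul, ← hqC, mul_smul, hxta]
  obtain ⟨k, hkD, hk⟩ := Cfsg.Agent.S1126.result hS {x}
    (by intro z hz; rw [Set.mem_singleton_iff] at hz; rw [hz]; exact hxD)
    ⟨a, t • a, q • t • a, (ro_ta_ne hS).symm, h1.symm, h2.symm, by
      intro z hz
      rw [Set.mem_singleton_iff] at hz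
      rw [hz]
      exact ⟨hxa, hxta, h3⟩⟩
  have hkx := hk x rfl
  have hka : k • a = a := MulAction.mem_stabilizer_iff.1 (Subgroup.mem_inf.1 hkD).1
  have hkta : k • t • a = t • a := MulAction.mem_stabilizer_iff.1 (Subgroup.mem_inf.1 hkD).2
  have hkia : k⁻¹ • a = a := by rw [inv_smul_eq_iff, hka]
  have hkita : k⁻¹ • t • a = t • a := by rw [inv_smul_eq_iff, hkta]
  have hx'D : k * x * k⁻¹ ∈ MulAction.stabilizer G a ⊓ MulAction.stabilizer G (t • a) :=
    mul_mem (mul_mem hkD hxD) (inv_mem hkD)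
  -- d₀ = t * (k t k⁻¹)
  have hd₀D : t * (k * t * k⁻¹) ∈ MulAction.stabilizer G a ⊓ MulAction.stabilizer G (t • a) := by
    refine Subgroup.mem_inf.2 ⟨?_, ?_⟩
    · rw [MulAction.mem_stabilizer_iff]
      simp only [mul_smul]
      rw [hkia, hkta, ro_tta hS]
    · rw [MulAction.mem_stabilizer_iff]
      simp only [mul_smul]
      rw [hkita, ro_tta hS, hka]
  have hd₀odd : Odd (orderOf (t * (k * t * k⁻¹))) := by
    have h1 := orderOf_dvd_natCard (⟨_, hd₀D⟩ :
      ↥(MulAction.stabilizer G a ⊓ MulAction.stabilizer G (t • a)))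
    rw [Subgroup.orderOf_mk] at h1
    exact Odd.of_dvd_nat hS.odd_card h1
  have hinv : (t * (k * t * k⁻¹)) * (k * x * k⁻¹) * (t * (k * t * k⁻¹))⁻¹ = (k * x * k⁻¹)⁻¹ := by
    have e1 : (t * (k * t * k⁻¹)) * (k * x * k⁻¹) * (t * (k * t * k⁻¹))⁻¹ =
        t * (k * (t * x * t⁻¹) * k⁻¹) * t⁻¹ := by group
    rw [e1, hxinv]
    have e2 : t * (k * x⁻¹ * k⁻¹) * t⁻¹ = (t * (k * x * k⁻¹) * t⁻¹)⁻¹ := by group
    rw [e2, ← hkx]; group
  have hsq := inverted_odd hd₀odd hinv
  have h4 := ro_D_sq hS hx'D hsq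
  apply hx1
  have : x = k⁻¹ * (k * x * k⁻¹) * k := by group
  rw [this, h4]; group

end Cfsg.Agent.S1128
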