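import Cfsg.Statements.S1578
import Cfsg.Agent.S1573

set_option autoImplicit false
open Cfsg

namespace Cfsg.Agent.S1578

open Cfsg.Agent.Lib.Lead.LX Cfsg.Agent.Lib.Lead.CW Cfsg.Agent.Lib.Lead.CO Cfsg.Agent.Lib.Lead.CP
open Cfsg.Agent.Lib.helper3 Cfsg.Agent.Lib.helper4 Cfsg.Agent.S0398 Cfsg.Agent.S1571

/-- the minimal vectors -/
noncomputable def F32 : Finset (GolayPt → ℤ) := fin32.toFinset

theorem mem_F32 (x : GolayPt → ℤ) : x ∈ F32 ↔ x ∈ leechLattice ∧ sqNorm x = 32 := by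
  unfold F32
  rw [Set.Finite.mem_toFinset]
  rfl

theorem card_F32 : F32.card = 196560 := by
  unfold F32
  rw [← Set.ncard_eq_toFinset_card _ fin32, Cfsg.Agent.S0394.result]

/-- the vectors of sum of squares 48 -/
noncomputable def F48 : Finset (GolayPt → ℤ) := fin48.toFinset

theorem mem_F48 (x : GolayPt → ℤ) : x ∈ F48 ↔ x ∈ leechLattice ∧ sqNorm x = 48 := by
  unfold F48
  rw [Set.Finite.mem_toFinset]
  rfl

theorem card_F48 : F48.card = 16773120 := by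
  unfold F48
  rw [← Set.ncard_eq_toFinset_card _ fin48, Cfsg.Agent.S0395.result]

/-- the number of decompositions of `u` -/
noncomputable def Ndec (u : GolayPt → ℤ) : ℕ := by
  classical
  exact (F32.filter (fun v => u - v ∈ F32)).card

theorem Ndec_eq (u u' : ↥leechLattice) (g : ↥Co0) (hg : g.1 u = u') : Ndec u.1 = Ndec u'.1 := by
  classical
  unfold Ndec
  refine Finset.card_bij' (fun v hv => (g.1 ⟨v, ((mem_F32 v).1 (Finset.mem_filter.1 hv).1).1⟩).1)
    (fun v hv => (g⁻¹.1 ⟨v, ((mem_F32 v).1 (Finset.mem_filter.1 hv).1).1⟩).1) ?_ ?_ ?_ ?_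
  · intro v hv
    rw [Finset.mem_filter] at hv ⊢
    have hvL := ((mem_F32 v).1 hv.1)
    have huv := ((mem_F32 _).1 hv.2)
    refine ⟨(mem_F32 _).2 ⟨(g.1 ⟨v, hvL.1⟩).2, by rw [g.2.2]; exact hvL.2⟩, ?_⟩
    have e : u'.1 - (g.1 ⟨v, hvL.1⟩).1 = (g.1 ⟨u.1 - v, huv.1⟩).1 := by
      have : (⟨u.1 - v, huv.1⟩ : ↥leechLattice) = u - ⟨v, hvL.1⟩ := rfl
      rw [this, map_sub', hg]
      rfl
    rw [e]
    exact (mem_F32 _).2 ⟨(g.1 _).2, by rw [g.2.2]; exact huv.2⟩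
  · intro v hv
    rw [Finset.mem_filter] at hv ⊢
    have hvL := ((mem_F32 v).1 hv.1)
    have huv := ((mem_F32 _).1 hv.2)
    have hg' : g⁻¹.1 u' = u := by
      rw [← hg]
      show (g⁻¹ * g).1 u = u
      rw [inv_mul_cancel]
      rfl
    refine ⟨(mem_F32 _).2 ⟨(g⁻¹.1 ⟨v, hvL.1⟩).2, by rw [g⁻¹.2.2]; exact hvL.2⟩, ?_⟩
    have e : u.1 - (g⁻¹.1 ⟨v, hvL.1⟩).1 = (g⁻¹.1 ⟨u'.1 - v, huv.1⟩).1 := by
      have : (⟨u'.1 - v, huv.1⟩ : ↥leechLattice) = u' - ⟨v, hvL.1⟩ := rfl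
      rw [this, map_sub', hg']
      rfl
    rw [e]
    exact (mem_F32 _).2 ⟨(g⁻¹.1 _).2, by rw [g⁻¹.2.2]; exact huv.2⟩
  · intro v hv
    show (g⁻¹.1 ⟨(g.1 ⟨v, _⟩).1, _⟩).1 = v
    have : ∀ y : ↥leechLattice, (g⁻¹.1 ⟨(g.1 y).1, (g.1 y).2⟩).1 = y.1 := by
      intro y
      show ((g⁻¹ * g).1 y).1 = y.1
      rw [inv_mul_cancel]
      rfl
    exact this ⟨v, _⟩
  · intro v hv
    show (g.1 ⟨(g⁻¹.1 ⟨v, _⟩).1, _⟩).1 = v
    have : ∀ y : ↥leechLattice, (g.1 ⟨(g⁻¹.1 y).1, (g⁻¹.1 y).2⟩).1 = y.1 := by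
      intro y
      show ((g * g⁻¹).1 y).1 = y.1
      rw [mul_inv_cancel]
      rfl
    exact this ⟨v, _⟩

theorem Ndec_const (u : GolayPt → ℤ) (hu : u ∈ F48) : Ndec u = Ndec u48v := by
  rw [mem_F48] at hu
  obtain ⟨g, hg⟩ := trans48 ⟨u, hu.1⟩ hu.2
  exact Ndec_eq ⟨u, hu.1⟩ u48 g hg

theorem Ndec_value : Ndec u48v = 552 := by
  classical
  -- the pairs of minimal vectors with dot product -8
  have hP1 : ((F32 ×ˢ F32).filter (fun p => dotInt p.1 p.2 = -8)).card = 196560 * 47104 := by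
    rw [Finset.card_filter, Finset.sum_product]
    have : ∀ v ∈ F32, ∑ w ∈ F32, (if dotInt (v, w).1 (v, w).2 = -8 then 1 else 0) = 47104 := by
      intro v hv
      rw [mem_F32] at hv
      rw [← Finset.card_filter]
      have h := (Cfsg.Agent.S1573.result v hv.1 hv.2).2.1
      rw [← h, ← Set.ncard_coe_finset]
      congr 1
      ext w
      simp only [Finset.coe_filter, Set.mem_ofPred_eq, mem_F32]
      tauto
    rw [Finset.sum_congr rfl this, Finset.sum_const, card_F32, smul_eq_mul]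
  have hmaps : ∀ p ∈ (F32 ×ˢ F32).filter (fun p => dotInt p.1 p.2 = -8), p.1 + p.2 ∈ F48 := by
    intro p hp
    rw [Finset.mem_filter, Finset.mem_product, mem_F32, mem_F32] at hp
    rw [mem_F48]
    refine ⟨leechLattice.add_mem hp.1.1.1 hp.1.2.1, ?_⟩
    rw [sqNorm_add, hp.1.1.2, hp.1.2.2, hp.2]
    norm_num
  have hP2 := Finset.card_eq_sum_card_fiberwise hmaps
  have hfib : ∀ u ∈ F48, (((F32 ×ˢ F32).filter (fun p => dotInt p.1 p.2 = -8)).filter
      (fun p => p.1 + p.2 = u)).card = Ndec u48v := by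
    intro u hu
    rw [← Ndec_const u hu]
    unfold Ndec
    have huL := (mem_F48 u).1 hu
    refine Finset.card_bij' (fun p _ => p.1) (fun v _ => (v, u - v)) ?_ ?_ ?_ ?_
    · intro p hp
      rw [Finset.mem_filter, Finset.mem_filter, Finset.mem_product] at hp
      rw [Finset.mem_filter]
      refine ⟨hp.1.1.1, ?_⟩
      have : u - p.1 = p.2 := by rw [← hp.2]; abel
      rw [this]
      exact hp.1.1.2
    · intro v hv
      rw [Finset.mem_filter] at hv
      rw [Finset.mem_filter, Finset.mem_filter, Finset.mem_product]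
      refine ⟨⟨⟨hv.1, hv.2⟩, ?_⟩, by show v + (u - v) = u; abel⟩
      show dotInt v (u - v) = -8
      have h1 := (mem_F32 v).1 hv.1
      have h2 := (mem_F32 _).1 hv.2
      have h3 : sqNorm (v + (u - v)) = 48 := by
        have : v + (u - v) = u := by abel
        rw [this]
        exact huL.2
      rw [sqNorm_add, h1.2, h2.2] at h3
      omega
    · intro p hp
      rw [Finset.mem_filter] at hp
      show (p.1, u - p.1) = p
      have : u - p.1 = p.2 := by rw [← hp.2]; abel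
      rw [this]
    · intro v hv
      rfl
  rw [Finset.sum_congr rfl hfib, Finset.sum_const, card_F48, smul_eq_mul, hP1] at hP2
  omega

/-- A lattice vector of customary norm 6 is the sum of an unordered pair of minimal vectors in exactly 276 ways (552 ordered summands). -/
theorem result (u : ↥Cfsg.leechLattice) (hu : Cfsg.sqNorm (u : Cfsg.GolayPt → ℤ) = 48) : {v : ↥Cfsg.leechLattice | Cfsg.sqNorm (v : Cfsg.GolayPt → ℤ) = 32 ∧ Cfsg.sqNorm ((u - v) : Cfsg.GolayPt → ℤ) = 32}.ncard = 552 := by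
  classical
  have h1 := Ndec_const u.1 ((mem_F48 _).2 ⟨u.2, hu⟩)
  rw [Ndec_value] at h1
  rw [← h1]
  unfold Ndec
  rw [← Set.ncard_coe_finset]
  apply Set.ncard_congr (fun v _ => v.1)
  · intro v hv
    rw [Finset.mem_coe, Finset.mem_filter, mem_F32, mem_F32]
    exact ⟨⟨v.2, hv.1⟩, ⟨leechLattice.sub_mem u.2 v.2, hv.2⟩⟩
  · intro a b _ _ hab
    exact Subtype.ext hab
  · intro b hb
    rw [Finset.mem_coe, Finset.mem_filter, mem_F32, mem_F32] at hb
    exact ⟨⟨b, hb.1.1⟩, ⟨hb.1.2, hb.2.2⟩, rfl⟩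

end Cfsg.Agent.S1578
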