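import Cfsg.Statements.S1579
import Cfsg.Agent.Lib.Lead.ConwayOct

set_option autoImplicit false
open Cfsg

namespace Cfsg.Agent.S1579

/-- The stabiliser of a vector of customary norm 6 is transitive on the 552 minimal vectors that complete it to a sum of two minimal vectors. -/
theorem result (u v v' : ↥Cfsg.leechLattice) (hu : Cfsg.sqNorm (u : Cfsg.GolayPt → ℤ) = 48) (hv : Cfsg.sqNorm (v : Cfsg.GolayPt → ℤ) = 32 ∧ Cfsg.sqNorm ((u - v) : Cfsg.GolayPt → ℤ) = 32) (hv' : Cfsg.sqNorm (v' : Cfsg.GolayPt → ℤ) = 32 ∧ Cfsg.sqNorm ((u - v') : Cfsg.GolayPt → ℤ) = 32) : ∃ g : ↥Cfsg.Co0, g • u = u ∧ g • v = v' := by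
  have key : ∀ x : ↥Cfsg.leechLattice, Cfsg.sqNorm (x : Cfsg.GolayPt → ℤ) = 32 →
      Cfsg.sqNorm ((u - x) : Cfsg.GolayPt → ℤ) = 32 →
      Cfsg.dotInt (x : Cfsg.GolayPt → ℤ) ((u - x : ↥Cfsg.leechLattice) : Cfsg.GolayPt → ℤ) = -8 := by
    intro x hx hux
    have h1 : Cfsg.sqNorm ((x : Cfsg.GolayPt → ℤ) + ((u - x : ↥Cfsg.leechLattice) : Cfsg.GolayPt → ℤ)) = 48 := by
      have : (x : Cfsg.GolayPt → ℤ) + ((u - x : ↥Cfsg.leechLattice) : Cfsg.GolayPt → ℤ) = u := by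
        show (x : Cfsg.GolayPt → ℤ) + ((u : Cfsg.GolayPt → ℤ) - x) = u
        abel
      rw [this]
      exact hu
    rw [Cfsg.Agent.Lib.Lead.CP.sqNorm_add, hx] at h1
    have h2 : Cfsg.sqNorm ((u - x : ↥Cfsg.leechLattice) : Cfsg.GolayPt → ℤ) = 32 := hux
    rw [h2] at h1
    omega
  obtain ⟨g1, h1v, h1w⟩ := Cfsg.Agent.Lib.Lead.CP.oct_trans v (u - v) hv.1 hv.2 (key v hv.1 hv.2)
  obtain ⟨g2, h2v, h2w⟩ := Cfsg.Agent.Lib.Lead.CP.oct_trans v' (u - v') hv'.1 hv'.2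
    (key v' hv'.1 hv'.2)
  have hinv : ∀ x y : ↥Cfsg.leechLattice, g1.1 x = g2.1 y → (g2⁻¹ * g1).1 x = y := by
    intro x y h
    show g2⁻¹.1 (g1.1 x) = y
    rw [h]
    show (g2⁻¹ * g2).1 y = y
    rw [inv_mul_cancel]
    rfl
  have e1 := hinv v v' (h1v.trans h2v.symm)
  have e2 := hinv (u - v) (u - v') (h1w.trans h2w.symm)
  refine ⟨g2⁻¹ * g1, ?_, e1⟩
  show (g2⁻¹ * g1).1 u = u
  have hu1 : u = v + (u - v) := by abel
  have hu2 : u = v' + (u - v') := by abel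
  rw [hu1, (g2⁻¹ * g1).2.1, e1, e2, ← hu1, ← hu2]

end Cfsg.Agent.S1579
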