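import Cfsg.Statements.S1640
import Cfsg.Agent.S1578
import Cfsg.Agent.Lib.Lead.LeechMark48
import Cfsg.Agent.Lib.Lead.ConwayT3

set_option autoImplicit false
open Cfsg

namespace Cfsg.Agent.S1640

open Cfsg.Agent.Lib.Lead.LX Cfsg.Agent.Lib.Lead.CW Cfsg.Agent.Lib.Lead.CO Cfsg.Agent.Lib.Lead.CP
open Cfsg.Agent.Lib.helper3 Cfsg.Agent.Lib.helper4 Cfsg.Agent.S0398 Cfsg.Agent.S1571
open Cfsg.Agent.S1578

theorem dot_comm (a b : GolayPt → ℤ) : dotInt a b = dotInt b a := by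
  unfold dotInt
  exact Finset.sum_congr rfl (fun p _ => mul_comm _ _)

/-- transfer of the count to the standard minimal vector -/
theorem transfer48 (v : ↥leechLattice) (g : ↥Co0) (hg : g.1 v = v32) :
    {w : GolayPt → ℤ | w ∈ leechLattice ∧ sqNorm w = 48 ∧ dotInt v.1 w = -16}.ncard
      = {x : GolayPt → ℤ | x ∈ leechLattice ∧ sqNorm x = 48 ∧ x none + x (some 0) = -4}.ncard := by
  have hdot : ∀ w : ↥leechLattice, dotInt v.1 w.1 = 4 * ((g.1 w).1 none + (g.1 w).1 (some 0)) := by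
    intro w
    rw [← dot_map g v w, hg, dot_v32]
    ring
  apply Set.ncard_congr (fun w hw => (g.1 ⟨w, hw.1⟩).1)
  · intro w hw
    refine ⟨(g.1 ⟨w, hw.1⟩).2, ?_, ?_⟩
    · rw [g.2.2]
      exact hw.2.1
    · have := hdot ⟨w, hw.1⟩
      have h2 : dotInt v.1 w = -16 := hw.2.2
      change dotInt v.1 w = _ at this
      omega
  · intro a b ha hb hab
    have := g.1.injective (Subtype.ext hab)
    exact congrArg Subtype.val this
  · intro b hb
    have hb' : g.1 (g⁻¹.1 ⟨b, hb.1⟩) = ⟨b, hb.1⟩ := by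
      show (g * g⁻¹).1 ⟨b, hb.1⟩ = _
      rw [mul_inv_cancel]
      rfl
    refine ⟨(g⁻¹.1 ⟨b, hb.1⟩).1, ⟨(g⁻¹.1 ⟨b, hb.1⟩).2, ?_, ?_⟩, ?_⟩
    · rw [g⁻¹.2.2]
      exact hb.2.1
    · have := hdot (g⁻¹.1 ⟨b, hb.1⟩)
      rw [hb'] at this
      rw [this]
      have h3 : b none + b (some 0) = -4 := hb.2.2
      show 4 * (b none + b (some 0)) = -16
      rw [h3]
      norm_num
    · show (g.1 ⟨(g⁻¹.1 ⟨b, hb.1⟩).1, _⟩).1 = b
      have : (⟨(g⁻¹.1 ⟨b, hb.1⟩).1, (g⁻¹.1 ⟨b, hb.1⟩).2⟩ : ↥leechLattice) = g⁻¹.1 ⟨b, hb.1⟩ := rfl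
      rw [this, hb']

/-- the number of minimal vectors with dot product `-16` with `u` -/
noncomputable def N16 (u : GolayPt → ℤ) : ℕ := by
  classical
  exact (F32.filter (fun x => dotInt u x = -16)).card

theorem N16_eq (u u' : ↥leechLattice) (g : ↥Co0) (hg : g.1 u = u') : N16 u.1 = N16 u'.1 := by
  classical
  unfold N16
  have hgi : ∀ y : ↥leechLattice, g⁻¹.1 (g.1 y) = y := by
    intro y
    show (g⁻¹ * g).1 y = y
    rw [inv_mul_cancel]
    rfl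
  have hgi' : ∀ y : ↥leechLattice, g.1 (g⁻¹.1 y) = y := by
    intro y
    show (g * g⁻¹).1 y = y
    rw [mul_inv_cancel]
    rfl
  refine Finset.card_bij' (fun v hv => (g.1 ⟨v, ((mem_F32 v).1 (Finset.mem_filter.1 hv).1).1⟩).1)
    (fun v hv => (g⁻¹.1 ⟨v, ((mem_F32 v).1 (Finset.mem_filter.1 hv).1).1⟩).1) ?_ ?_ ?_ ?_
  · intro v hv
    rw [Finset.mem_filter] at hv ⊢
    have hvL := ((mem_F32 v).1 hv.1)
    refine ⟨(mem_F32 _).2 ⟨(g.1 ⟨v, hvL.1⟩).2, by rw [g.2.2]; exact hvL.2⟩, ?_⟩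
    rw [← hg, dot_map]
    exact hv.2
  · intro v hv
    rw [Finset.mem_filter] at hv ⊢
    have hvL := ((mem_F32 v).1 hv.1)
    refine ⟨(mem_F32 _).2 ⟨(g⁻¹.1 ⟨v, hvL.1⟩).2, by rw [g⁻¹.2.2]; exact hvL.2⟩, ?_⟩
    have h1 := dot_map g u (g⁻¹.1 ⟨v, hvL.1⟩)
    rw [hgi', hg] at h1
    rw [← h1]
    exact hv.2
  · intro v hv
    exact congrArg Subtype.val (hgi ⟨v, _⟩)
  · intro v hv
    exact congrArg Subtype.val (hgi' ⟨v, _⟩)

theorem N16_const (u : GolayPt → ℤ) (hu : u ∈ F48) : N16 u = N16 u48v := by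
  rw [mem_F48] at hu
  obtain ⟨g, hg⟩ := trans48 ⟨u, hu.1⟩ hu.2
  exact N16_eq ⟨u, hu.1⟩ u48 g hg

theorem N16_value : N16 u48v = 11178 := by
  classical
  have hP1 : ((F32 ×ˢ F48).filter (fun p => dotInt p.1 p.2 = -16)).card = 196560 * 953856 := by
    rw [Finset.card_filter, Finset.sum_product]
    have : ∀ v ∈ F32, ∑ w ∈ F48, (if dotInt (v, w).1 (v, w).2 = -16 then 1 else 0) = 953856 := by
      intro v hv
      rw [mem_F32] at hv
      rw [← Finset.card_filter]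
      obtain ⟨g, hg⟩ := trans32 ⟨v, hv.1⟩ hv.2
      have h := transfer48 ⟨v, hv.1⟩ g hg
      rw [Cfsg.Agent.Lib.Lead.LC3.count48] at h
      rw [← h, ← Set.ncard_coe_finset]
      congr 1
      ext w
      simp only [Finset.coe_filter, Set.mem_ofPred_eq, mem_F48]
      tauto
    rw [Finset.sum_congr rfl this, Finset.sum_const, card_F32, smul_eq_mul]
  have hmaps : ∀ p ∈ (F32 ×ˢ F48).filter (fun p => dotInt p.1 p.2 = -16), p.2 ∈ F48 := by
    intro p hp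
    rw [Finset.mem_filter, Finset.mem_product] at hp
    exact hp.1.2
  have hP2 := Finset.card_eq_sum_card_fiberwise hmaps
  have hfib : ∀ u ∈ F48, (((F32 ×ˢ F48).filter (fun p => dotInt p.1 p.2 = -16)).filter
      (fun p => p.2 = u)).card = N16 u48v := by
    intro u hu
    rw [← N16_const u hu]
    unfold N16
    refine Finset.card_bij' (fun p _ => p.1) (fun v _ => (v, u)) ?_ ?_ ?_ ?_
    · intro p hp
      rw [Finset.mem_filter, Finset.mem_filter, Finset.mem_product] at hp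
      rw [Finset.mem_filter]
      refine ⟨hp.1.1.1, ?_⟩
      rw [← hp.2, dot_comm]
      exact hp.1.2
    · intro v hv
      rw [Finset.mem_filter] at hv
      rw [Finset.mem_filter, Finset.mem_filter, Finset.mem_product]
      refine ⟨⟨⟨hv.1, hu⟩, ?_⟩, rfl⟩
      show dotInt v u = -16
      rw [dot_comm]
      exact hv.2
    · intro p hp
      rw [Finset.mem_filter] at hp
      show (p.1, u) = p
      rw [← hp.2]
    · intro v hv
      rfl
  rw [Finset.sum_congr rfl hfib, Finset.sum_const, card_F48, smul_eq_mul, hP1] at hP2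
  omega

/-- The stabiliser of a vector of customary norm 6 is transitive on the 11178 minimal vectors of customary inner product −2 with it. -/
theorem result (u : ↥Cfsg.leechLattice) (hu : Cfsg.sqNorm (u : Cfsg.GolayPt → ℤ) = 48) : {x : ↥Cfsg.leechLattice | Cfsg.sqNorm (x : Cfsg.GolayPt → ℤ) = 32 ∧ Cfsg.dotInt (u : Cfsg.GolayPt → ℤ) (x : Cfsg.GolayPt → ℤ) = -16}.ncard = 11178 ∧ ∀ x ∈ {x : ↥Cfsg.leechLattice | Cfsg.sqNorm (x : Cfsg.GolayPt → ℤ) = 32 ∧ Cfsg.dotInt (u : Cfsg.GolayPt → ℤ) (x : Cfsg.GolayPt → ℤ) = -16}, ∀ x' ∈ {x : ↥Cfsg.leechLattice | Cfsg.sqNorm (x : Cfsg.GolayPt → ℤ) = 32 ∧ Cfsg.dotInt (u : Cfsg.GolayPt → ℤ) (x : Cfsg.GolayPt → ℤ) = -16}, ∃ g : ↥Cfsg.Co0, g • u = u ∧ g • x = x' := by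
  classical
  refine ⟨?_, ?_⟩
  · have h1 := N16_const u.1 ((mem_F48 _).2 ⟨u.2, hu⟩)
    rw [N16_value] at h1
    rw [← h1]
    unfold N16
    rw [← Set.ncard_coe_finset]
    apply Set.ncard_congr (fun v _ => v.1)
    · intro v hv
      rw [Finset.mem_coe, Finset.mem_filter, mem_F32]
      exact ⟨⟨v.2, hv.1⟩, hv.2⟩
    · intro a b _ _ hab
      exact Subtype.ext hab
    · intro b hb
      rw [Finset.mem_coe, Finset.mem_filter, mem_F32] at hb
      exact ⟨⟨b, hb.1.1⟩, ⟨hb.1.2, hb.2⟩, rfl⟩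
  · intro x hx x' hx'
    have hd : Cfsg.dotInt (x : Cfsg.GolayPt → ℤ) (u : Cfsg.GolayPt → ℤ) = -16 := by
      rw [dot_comm]
      exact hx.2
    have hd' : Cfsg.dotInt (x' : Cfsg.GolayPt → ℤ) (u : Cfsg.GolayPt → ℤ) = -16 := by
      rw [dot_comm]
      exact hx'.2
    obtain ⟨g, hg1, hg2⟩ := t3_pair x u x' u hx.1 hx'.1 hu hu hd hd'
    exact ⟨g, hg2, hg1⟩

end Cfsg.Agent.S1640
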