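import Cfsg.Statements.S1610
import Cfsg.Agent.Lib.Lead.F4c

set_option autoImplicit false
open Cfsg

namespace Cfsg.Agent.S1610

open Cfsg.Agent.Lib.Lead.F4 Cfsg.Agent.Lib.Lead.F4.F4c

/-- concrete generators of the hexacode -/
def g1c : Fin 6 → F4c := ![w, v, v, w, v, w]
/-- second generator -/
def g2c : Fin 6 → F4c := ![v, w, w, v, v, w]
/-- third generator -/
def g3c : Fin 6 → F4c := ![v, w, v, w, w, v]

/-- parameters -/
abbrev T3 : Type := F4c × F4c × F4c

/-- the concrete word with parameter `t` -/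
def genc (t : T3) : Fin 6 → F4c := fun i => t.1 * g1c i + t.2.1 * g2c i + t.2.2 * g3c i

/-- concrete weight -/
def wtc (x : Fin 6 → F4c) : ℕ := (Finset.univ.filter fun i => x i ≠ 0).card

theorem c_weights : ∀ t : T3, t ≠ 0 → wtc (genc t) = 4 ∨ wtc (genc t) = 6 := by decide +kernel
theorem c_count4 : (Finset.univ.filter fun t : T3 => wtc (genc t) = 4).card = 45 := by
  decide +kernel
theorem c_count6 : (Finset.univ.filter fun t : T3 => wtc (genc t) = 6).card = 18 := by
  decide +kernel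
theorem c_inj : ∀ t t' : T3, genc t = genc t' → t = t' := by decide +kernel
theorem c_zero : genc 0 = 0 := by decide +kernel

section
variable {F : Type*} [Field F] [Fintype F] [DecidableEq F]

theorem omega_sq (hF : Fintype.card F = 4) (ω : F) (hω : ω ^ 2 + ω + 1 = 0) : ω * ω = ω + 1 := by
  have h2 := char_two_of_card hF
  linear_combination hω - (ω + 1) * h2

/-- the word over `F` with concrete parameter `t` -/
def genF (ι : F4c →+* F) (t : T3) : Fin 6 → F := fun i => ι (genc t i)

theorem wt_genF (ι : F4c →+* F) (hι : Function.Injective ι) (t : T3) :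
    (Finset.univ.filter fun i => genF ι t i ≠ 0).card = wtc (genc t) := by
  unfold wtc
  congr 1
  apply Finset.filter_congr
  intro i _
  unfold genF
  rw [Ne, Ne, map_eq_zero_iff ι hι]

theorem genF_injective (ι : F4c →+* F) (hι : Function.Injective ι) :
    Function.Injective (genF ι) := by
  intro t t' h
  apply c_inj
  funext i
  exact hι (congrFun h i)

theorem ι_surj (hF : Fintype.card F = 4) (ι : F4c →+* F) (hι : Function.Injective ι) :
    Function.Surjective ι := by
  have hb : Function.Bijective ι := by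
    rw [Fintype.bijective_iff_injective_and_card]
    refine ⟨hι, ?_⟩
    rw [hF]
    rfl
  exact hb.2

theorem mem_hexacode_iff (hF : Fintype.card F = 4) (ω : F) (hω : ω ^ 2 + ω + 1 = 0)
    (x : Fin 6 → F) :
    x ∈ Cfsg.hexacode F ω ↔
      ∃ t : T3, genF (toFHom ω (char_two_of_card hF) (omega_sq hF ω hω)) t = x := by
  have h2 := char_two_of_card hF
  have hω2 := omega_sq hF ω hω
  have hsq : ω ^ 2 = ω + 1 := by rw [sq]; exact hω2
  have hinj := toFHom_injective ω h2 hω2
  have hsurj := ι_surj hF _ hinj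
  unfold Cfsg.hexacode
  rw [Submodule.mem_span_triple]
  have key : ∀ a b c : F4c,
      toFHom ω h2 hω2 a • ![ω, ω ^ 2, ω ^ 2, ω, ω ^ 2, ω] +
        toFHom ω h2 hω2 b • ![ω ^ 2, ω, ω, ω ^ 2, ω ^ 2, ω] +
        toFHom ω h2 hω2 c • ![ω ^ 2, ω, ω ^ 2, ω, ω, ω ^ 2] =
      genF (toFHom ω h2 hω2) (a, b, c) := by
    intro a b c
    funext i
    have hw : toFHom ω h2 hω2 F4c.w = ω := rfl
    have hv : toFHom ω h2 hω2 F4c.v = ω ^ 2 := by rw [hsq]; rfl
    fin_cases i <;>
      simp [genF, genc, g1c, g2c, g3c, map_add, map_mul, hw, hv]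
  constructor
  · rintro ⟨a, b, c, rfl⟩
    obtain ⟨a', rfl⟩ := hsurj a
    obtain ⟨b', rfl⟩ := hsurj b
    obtain ⟨c', rfl⟩ := hsurj c
    exact ⟨(a', b', c'), (key a' b' c').symm⟩
  · rintro ⟨⟨a, b, c⟩, rfl⟩
    exact ⟨_, _, _, key a b c⟩

theorem ncard_weight (hF : Fintype.card F = 4) (ω : F) (hω : ω ^ 2 + ω + 1 = 0) (k : ℕ) :
    {x : Fin 6 → F | x ∈ Cfsg.hexacode F ω ∧ (Finset.univ.filter fun i => x i ≠ 0).card = k}.ncard =
      (Finset.univ.filter fun t : T3 => wtc (genc t) = k).card := by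
  have hinj := toFHom_injective ω (char_two_of_card hF) (omega_sq hF ω hω)
  have : {x : Fin 6 → F | x ∈ Cfsg.hexacode F ω ∧
      (Finset.univ.filter fun i => x i ≠ 0).card = k} =
      genF (toFHom ω (char_two_of_card hF) (omega_sq hF ω hω)) ''
        ↑(Finset.univ.filter fun t : T3 => wtc (genc t) = k) := by
    ext x
    simp only [Set.mem_setOf_eq, Set.mem_image, Finset.coe_filter, Finset.mem_univ, true_and]
    constructor
    · rintro ⟨hx, hk⟩
      obtain ⟨t, rfl⟩ := (mem_hexacode_iff hF ω hω x).mp hx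
      rw [wt_genF _ hinj] at hk
      exact ⟨t, hk, rfl⟩
    · rintro ⟨t, hk, rfl⟩
      refine ⟨(mem_hexacode_iff hF ω hω _).mpr ⟨t, rfl⟩, ?_⟩
      rw [wt_genF _ hinj]
      exact hk
  rw [this, Set.ncard_image_of_injective _ (genF_injective _ hinj), Set.ncard_coe_finset]

end

/-- The hexacode has 64 words, minimum weight 4, and weight distribution 0^1 4^45 6^18. -/
theorem result (F : Type*) [Field F] [Fintype F] [DecidableEq F] (hF : Fintype.card F = 4) (ω : F) (hω : ω ^ 2 + ω + 1 = 0) : Nat.card ↥(Cfsg.hexacode F ω) = 64 ∧ (∀ x ∈ Cfsg.hexacode F ω, x ≠ 0 → (Finset.univ.filter fun i => x i ≠ 0).card = 4 ∨ (Finset.univ.filter fun i => x i ≠ 0).card = 6) ∧ {x : Fin 6 → F | x ∈ Cfsg.hexacode F ω ∧ (Finset.univ.filter fun i => x i ≠ 0).card = 4}.ncard = 45 ∧ {x : Fin 6 → F | x ∈ Cfsg.hexacode F ω ∧ (Finset.univ.filter fun i => x i ≠ 0).card = 6}.ncard = 18 := by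
  have hinj := toFHom_injective ω (char_two_of_card hF) (omega_sq hF ω hω)
  refine ⟨?_, ?_, ?_, ?_⟩
  · have e : T3 ≃ ↥(Cfsg.hexacode F ω) :=
      Equiv.ofBijective
        (fun t => ⟨genF (toFHom ω (char_two_of_card hF) (omega_sq hF ω hω)) t,
          (mem_hexacode_iff hF ω hω _).mpr ⟨t, rfl⟩⟩)
        ⟨fun t t' h => genF_injective _ hinj (congrArg Subtype.val h),
         fun x => by
          obtain ⟨t, ht⟩ := (mem_hexacode_iff hF ω hω x.1).mp x.2
          exact ⟨t, Subtype.ext ht⟩⟩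
    rw [← Nat.card_congr e, Nat.card_eq_fintype_card]
    rfl
  · intro x hx hx0
    obtain ⟨t, rfl⟩ := (mem_hexacode_iff hF ω hω x).mp hx
    rw [wt_genF _ hinj]
    apply c_weights
    rintro rfl
    apply hx0
    funext i
    show toFHom ω (char_two_of_card hF) (omega_sq hF ω hω) (genc 0 i) = 0
    rw [c_zero]
    exact map_zero _
  · rw [ncard_weight hF ω hω, c_count4]
  · rw [ncard_weight hF ω hω, c_count6]

end Cfsg.Agent.S1610
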