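import Cfsg.Statements.S2303

set_option autoImplicit false
open Cfsg

namespace Cfsg.Agent.S2303

section
variable {F : Type*} [Field F]

theorem mat2_congr (p q r s p' q' r' s' : F) (h1 : p = p') (h2 : q = q') (h3 : r = r') (h4 : s = s') :
    (!![p, q; r, s] : Matrix (Fin 2) (Fin 2) F) = !![p', q'; r', s'] := by
  subst h1 h2 h3 h4; rfl

theorem coe_mk (A : Matrix (Fin 2) (Fin 2) F) (h : A.det ≠ 0) :
    ((Matrix.GeneralLinearGroup.mkOfDetNeZero A h : GL (Fin 2) F) : Matrix (Fin 2) (Fin 2) F) = A := rfl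

theorem mat2_eq_iff (p q r s p' q' r' s' : F) :
    (!![p, q; r, s] : Matrix (Fin 2) (Fin 2) F) = !![p', q'; r', s'] ↔ p = p' ∧ q = q' ∧ r = r' ∧ s = s' := by
  constructor
  · intro h
    refine ⟨?_, ?_, ?_, ?_⟩
    · simpa using congrFun (congrFun h 0) 0
    · simpa using congrFun (congrFun h 0) 1
    · simpa using congrFun (congrFun h 1) 0
    · simpa using congrFun (congrFun h 1) 1
  · rintro ⟨h1, h2, h3, h4⟩
    exact mat2_congr _ _ _ _ _ _ _ _ h1 h2 h3 h4

/-- membership in the centralizer in terms of entries -/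
theorem mem_cent_iff (g h : Matrix.GeneralLinearGroup (Fin 2) F) :
    h ∈ Subgroup.centralizer ({g} : Set (Matrix.GeneralLinearGroup (Fin 2) F)) ↔
      (h : Matrix (Fin 2) (Fin 2) F) * (g : Matrix (Fin 2) (Fin 2) F) = (g : Matrix (Fin 2) (Fin 2) F) * (h : Matrix (Fin 2) (Fin 2) F) := by
  rw [Subgroup.mem_centralizer_singleton_iff]
  constructor
  · intro hh
    have := congrArg (fun x : Matrix.GeneralLinearGroup (Fin 2) F => (x : Matrix (Fin 2) (Fin 2) F)) hh
    simpa using this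
  · intro hh
    apply Units.ext
    simpa using hh

end

section
variable {F : Type*} [Field F] [Fintype F]

/-- the diagonal case -/
noncomputable def diagEquiv (g : Matrix.GeneralLinearGroup (Fin 2) F)
    (h01 : (g : Matrix (Fin 2) (Fin 2) F) 0 1 = 0) (h10 : (g : Matrix (Fin 2) (Fin 2) F) 1 0 = 0)
    (hne : (g : Matrix (Fin 2) (Fin 2) F) 0 0 ≠ (g : Matrix (Fin 2) (Fin 2) F) 1 1) :
    Subgroup.centralizer ({g} : Set (Matrix.GeneralLinearGroup (Fin 2) F)) ≃ Fˣ × Fˣ := by
  set M : Matrix (Fin 2) (Fin 2) F := (g : Matrix (Fin 2) (Fin 2) F) with hM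
  have hMeta : M = !![M 0 0, 0; 0, M 1 1] := by
    have := Matrix.eta_fin_two M
    rw [h01, h10] at this
    exact this
  have key : ∀ h : Matrix.GeneralLinearGroup (Fin 2) F, h ∈ Subgroup.centralizer ({g} : Set (Matrix.GeneralLinearGroup (Fin 2) F)) →
      (h : Matrix (Fin 2) (Fin 2) F) 0 1 = 0 ∧ (h : Matrix (Fin 2) (Fin 2) F) 1 0 = 0 := by
    intro h hh
    rw [mem_cent_iff] at hh
    set H : Matrix (Fin 2) (Fin 2) F := (h : Matrix (Fin 2) (Fin 2) F) with hH
    have hHeta : H = !![H 0 0, H 0 1; H 1 0, H 1 1] := Matrix.eta_fin_two H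
    rw [← hM, hMeta, hHeta, Matrix.mul_fin_two, Matrix.mul_fin_two, mat2_eq_iff] at hh
    obtain ⟨-, e2, e3, -⟩ := hh
    have hne' : M 1 1 - M 0 0 ≠ 0 := sub_ne_zero.mpr (Ne.symm hne)
    constructor
    · have : H 0 1 * (M 1 1 - M 0 0) = 0 := by linear_combination e2
      rcases mul_eq_zero.mp this with h | h
      · exact h
      · exact absurd h hne'
    · have : H 1 0 * (M 1 1 - M 0 0) = 0 := by linear_combination (-1 : F) * e3
      rcases mul_eq_zero.mp this with h | h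
      · exact h
      · exact absurd h hne'
  have hdet : ∀ h : Matrix.GeneralLinearGroup (Fin 2) F, h ∈ Subgroup.centralizer ({g} : Set (Matrix.GeneralLinearGroup (Fin 2) F)) →
      (h : Matrix (Fin 2) (Fin 2) F) 0 0 ≠ 0 ∧ (h : Matrix (Fin 2) (Fin 2) F) 1 1 ≠ 0 := by
    intro h hh
    obtain ⟨k1, k2⟩ := key h hh
    have hd : (h : Matrix (Fin 2) (Fin 2) F).det ≠ 0 := by
      have := h.isUnit
      exact ((Matrix.isUnit_iff_isUnit_det _).mp (Units.isUnit h)).ne_zero
    rw [Matrix.det_fin_two, k1, k2] at hd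
    constructor
    · intro h0; apply hd; rw [h0]; ring
    · intro h0; apply hd; rw [h0]; ring
  refine
    { toFun := fun h => (Units.mk0 _ (hdet h.1 h.2).1, Units.mk0 _ (hdet h.1 h.2).2)
      invFun := fun xy => ⟨Matrix.GeneralLinearGroup.mkOfDetNeZero !![(xy.1 : F), 0; 0, (xy.2 : F)]
          (by rw [Matrix.det_fin_two_of]; simp), ?_⟩
      left_inv := ?_
      right_inv := ?_ }
  · rw [mem_cent_iff]
    show (!![(xy.1 : F), 0; 0, (xy.2 : F)] : Matrix (Fin 2) (Fin 2) F) * M = M * !![(xy.1 : F), 0; 0, (xy.2 : F)]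
    rw [hMeta, Matrix.mul_fin_two, Matrix.mul_fin_two]
    apply mat2_congr <;> ring
  · intro h
    obtain ⟨k1, k2⟩ := key h.1 h.2
    apply Subtype.ext
    apply Units.ext
    show (!![(h.1 : Matrix (Fin 2) (Fin 2) F) 0 0, 0; 0, (h.1 : Matrix (Fin 2) (Fin 2) F) 1 1] : Matrix (Fin 2) (Fin 2) F) = (h.1 : Matrix (Fin 2) (Fin 2) F)
    have := Matrix.eta_fin_two (h.1 : Matrix (Fin 2) (Fin 2) F)
    rw [k1, k2] at this
    exact this.symm
  · intro xy
    apply Prod.ext <;> apply Units.ext <;> simp [coe_mk]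

/-- the matrix x + y M written by its first column (u, w) -/
def Hmat (a b c d u w : F) : Matrix (Fin 2) (Fin 2) F :=
  !![u, (w / c) * b; w, u + (d - a) * (w / c)]

theorem Hmat_eq (a b c d u w : F) (hc : c ≠ 0) :
    Hmat a b c d u w = (u - (w / c) * a) • (1 : Matrix (Fin 2) (Fin 2) F) + (w / c) • !![a, b; c, d] := by
  rw [Hmat, Matrix.one_fin_two, Matrix.smul_of, Matrix.smul_of]
  simp only [Matrix.smul_cons, Matrix.smul_empty, smul_eq_mul, Matrix.of_add_of, Matrix.add_cons, Matrix.head_cons,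
    Matrix.tail_cons, Matrix.empty_add_empty]
  apply mat2_congr
  · ring
  · ring
  · field_simp
    ring
  · ring

theorem Hmat_det_ne (a b c d u w : F)
    (hirr : ∀ (e : F) (v : Fin 2 → F), v ≠ 0 → (!![a, b; c, d] : Matrix (Fin 2) (Fin 2) F).mulVec v ≠ e • v)
    (hc : c ≠ 0) (huw : ¬ (u = 0 ∧ w = 0)) : (Hmat a b c d u w).det ≠ 0 := by
  intro hdet
  obtain ⟨v, hv, hHv⟩ := Matrix.exists_mulVec_eq_zero_iff.mpr hdet
  rw [Hmat_eq a b c d u w hc, Matrix.add_mulVec, Matrix.smul_mulVec, Matrix.smul_mulVec, Matrix.one_mulVec] at hHv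
  by_cases hw : w = 0
  · have hu : u ≠ 0 := fun h => huw ⟨h, hw⟩
    rw [hw] at hHv
    simp only [zero_div, zero_mul, sub_zero, zero_smul, add_zero] at hHv
    exact hv ((smul_eq_zero.mp hHv).resolve_left hu)
  · have hy : w / c ≠ 0 := div_ne_zero hw hc
    apply hirr (-(u - (w / c) * a) / (w / c)) v hv
    have h1 : (w / c) • (!![a, b; c, d] : Matrix (Fin 2) (Fin 2) F).mulVec v = -((u - w / c * a) • v) := by
      rw [eq_neg_iff_add_eq_zero, add_comm]; exact hHv
    have h2 : (!![a, b; c, d] : Matrix (Fin 2) (Fin 2) F).mulVec v = (w / c)⁻¹ • -((u - w / c * a) • v) := by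
      rw [← h1, smul_smul, inv_mul_cancel₀ hy, one_smul]
    rw [h2, smul_neg, smul_smul, ← neg_smul]
    congr 1
    field_simp

noncomputable def irredEquiv (g : Matrix.GeneralLinearGroup (Fin 2) F)
    (hirr : ∀ (e : F) (v : Fin 2 → F), v ≠ 0 → (g : Matrix (Fin 2) (Fin 2) F).mulVec v ≠ e • v) :
    Subgroup.centralizer ({g} : Set (Matrix.GeneralLinearGroup (Fin 2) F)) ≃ {p : F × F // p ≠ 0} := by
  set M : Matrix (Fin 2) (Fin 2) F := (g : Matrix (Fin 2) (Fin 2) F) with hM
  set a := M 0 0 with ha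
  set b := M 0 1 with hb
  set c := M 1 0 with hc
  set d := M 1 1 with hd
  have hMeta : M = !![a, b; c, d] := Matrix.eta_fin_two M
  have hc0 : c ≠ 0 := by
    intro hc0
    apply hirr a ![1, 0] (by intro h; simpa using congrFun h 0)
    rw [hMeta, hc0]
    ext i
    fin_cases i <;> simp [Matrix.mulVec, dotProduct, Fin.sum_univ_two]
  rw [hMeta] at hirr
  have key : ∀ h : Matrix.GeneralLinearGroup (Fin 2) F, h ∈ Subgroup.centralizer ({g} : Set (Matrix.GeneralLinearGroup (Fin 2) F)) →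
      (h : Matrix (Fin 2) (Fin 2) F) = Hmat a b c d ((h : Matrix (Fin 2) (Fin 2) F) 0 0) ((h : Matrix (Fin 2) (Fin 2) F) 1 0) := by
    intro h hh
    rw [mem_cent_iff] at hh
    set H : Matrix (Fin 2) (Fin 2) F := (h : Matrix (Fin 2) (Fin 2) F) with hH
    have hHeta : H = !![H 0 0, H 0 1; H 1 0, H 1 1] := Matrix.eta_fin_two H
    rw [← hM, hMeta, hHeta, Matrix.mul_fin_two, Matrix.mul_fin_two, mat2_eq_iff] at hh
    obtain ⟨e1, -, e3, -⟩ := hh
    rw [hHeta, Hmat]
    apply mat2_congr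
    · simp
    · simp only [Matrix.of_apply, Matrix.cons_val', Matrix.cons_val_zero, Matrix.cons_val_one]
      field_simp
      linear_combination e1
    · simp
    · simp only [Matrix.of_apply, Matrix.cons_val', Matrix.cons_val_zero, Matrix.cons_val_one]
      field_simp
      linear_combination e3
  refine
    { toFun := fun h => ⟨((h.1 : Matrix (Fin 2) (Fin 2) F) 0 0, (h.1 : Matrix (Fin 2) (Fin 2) F) 1 0), ?_⟩
      invFun := fun p => ⟨Matrix.GeneralLinearGroup.mkOfDetNeZero (Hmat a b c d p.1.1 p.1.2)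
          (Hmat_det_ne a b c d p.1.1 p.1.2 hirr hc0 (by
            rintro ⟨h1, h2⟩; exact p.2 (Prod.ext h1 h2))), ?_⟩
      left_inv := ?_
      right_inv := ?_ }
  · intro h0
    have hd : (h.1 : Matrix (Fin 2) (Fin 2) F).det ≠ 0 :=
      ((Matrix.isUnit_iff_isUnit_det _).mp (Units.isUnit h.1)).ne_zero
    apply hd
    rw [Matrix.det_fin_two]
    have h1 : (h.1 : Matrix (Fin 2) (Fin 2) F) 0 0 = 0 := congrArg Prod.fst h0
    have h2 : (h.1 : Matrix (Fin 2) (Fin 2) F) 1 0 = 0 := congrArg Prod.snd h0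
    rw [h1, h2]; ring
  · rw [mem_cent_iff]
    show Hmat a b c d p.1.1 p.1.2 * M = M * Hmat a b c d p.1.1 p.1.2
    rw [hMeta, Hmat, Matrix.mul_fin_two, Matrix.mul_fin_two]
    apply mat2_congr
    · field_simp
    · field_simp
      ring
    · field_simp
      ring
    · field_simp
  · intro h
    apply Subtype.ext
    apply Units.ext
    exact (key h.1 h.2).symm
  · intro p
    apply Subtype.ext
    apply Prod.ext
    · simp [coe_mk, Hmat]
    · simp [coe_mk, Hmat]

end

theorem result {F : Type*} [Field F] [Fintype F] (g : Matrix.GeneralLinearGroup (Fin 2) F) :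
    ((g : Matrix (Fin 2) (Fin 2) F) 0 1 = 0 → (g : Matrix (Fin 2) (Fin 2) F) 1 0 = 0 → (g : Matrix (Fin 2) (Fin 2) F) 0 0 ≠ (g : Matrix (Fin 2) (Fin 2) F) 1 1 →
      Nat.card (Subgroup.centralizer ({g} : Set (Matrix.GeneralLinearGroup (Fin 2) F))) = (Fintype.card F - 1) ^ 2) ∧
    ((∀ (c : F) (v : Fin 2 → F), v ≠ 0 → (g : Matrix (Fin 2) (Fin 2) F).mulVec v ≠ c • v) →
      Nat.card (Subgroup.centralizer ({g} : Set (Matrix.GeneralLinearGroup (Fin 2) F))) = Fintype.card F ^ 2 - 1) := by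
  classical
  constructor
  · intro h01 h10 hne
    rw [Nat.card_congr (diagEquiv g h01 h10 hne), Nat.card_eq_fintype_card, Fintype.card_prod, Fintype.card_units, pow_two]
  · intro hirr
    rw [Nat.card_congr (irredEquiv g hirr), Nat.card_eq_fintype_card]
    have : Fintype.card {bc : F × F // bc ≠ 0} = Fintype.card (F × F) - Fintype.card {bc : F × F // bc = 0} :=
      Fintype.card_subtype_compl (fun bc : F × F => bc = 0)
    rw [this, Fintype.card_subtype_eq, Fintype.card_prod, pow_two]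

end Cfsg.Agent.S2303
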