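import Cfsg.Statements.S2430

import Cfsg.Agent.Lib.helper15.SL2Torus
import Cfsg.Agent.Lib.helper15.SL2Card
set_option autoImplicit false
open Cfsg

namespace Cfsg.Agent.S2430


open Cfsg.Agent.Lib.helper15

section Helpers

variable {F : Type*} [Field F] [Fintype F]

theorem two_ne_zero_of_odd (hF : Odd (Fintype.card F)) : (2 : F) ≠ 0 := by
  intro h
  have : CharP F 2 := CharTwo.of_one_ne_zero_of_two_eq_zero one_ne_zero h
  obtain ⟨n, _, hn⟩ := FiniteField.card F 2
  have h3 : 2 ∣ Fintype.card F := by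
    rw [hn]
    exact dvd_pow_self 2 n.ne_zero
  have := Nat.odd_iff.mp hF
  omega

theorem eq_one_of_pow_coprime {G : Type*} [Group G] (y : G) (a b : ℕ) (hab : Nat.Coprime a b)
    (ha : y ^ a = 1) (hb : y ^ b = 1) : y = 1 := by
  have h1 := orderOf_dvd_of_pow_eq_one ha
  have h2 := orderOf_dvd_of_pow_eq_one hb
  have h3 := Nat.dvd_gcd h1 h2
  rw [Nat.Coprime] at hab
  rw [hab] at h3
  exact orderOf_eq_one_iff.mp (Nat.dvd_one.mp h3)

theorem regular_of_pow (p : ℕ) [Fact p.Prime] [CharP F p] (ℓ : ℕ) (hℓ : ℓ.Prime) (hℓ2 : ℓ ≠ 2)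
    (hℓp : ℓ ≠ p) (y : Matrix.SpecialLinearGroup (Fin 2) F) (hy1 : y ≠ 1) (k : ℕ)
    (hyk : y ^ (ℓ ^ k) = 1) :
    (∀ c : F, (y : Matrix (Fin 2) (Fin 2) F) ≠ c • (1 : Matrix (Fin 2) (Fin 2) F)) ∧
    (∀ c : F, c ^ 2 - (y : Matrix (Fin 2) (Fin 2) F).trace * c + 1 = 0 → c ^ 2 ≠ 1) := by
  have hc2 : Nat.Coprime 2 ℓ := by
    rw [Nat.coprime_primes Nat.prime_two hℓ]
    exact fun h => hℓ2 h.symm
  have hcp : Nat.Coprime p ℓ := by
    rw [Nat.coprime_primes (Fact.out : p.Prime) hℓ]
    exact fun h => hℓp h.symm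
  have hcop2 : Nat.Coprime 2 (ℓ ^ k) := Nat.Coprime.pow_right k hc2
  have hcop2p : Nat.Coprime (2 * p) (ℓ ^ k) := Nat.Coprime.pow_right k (Nat.Coprime.mul_left hc2 hcp)
  constructor
  · intro c hc
    apply hy1
    have hdet : c ^ 2 = 1 := by
      have := y.2
      rw [hc, Matrix.det_smul, Matrix.det_one, Fintype.card_fin, mul_one] at this
      exact this
    have hsq : y ^ 2 = 1 := by
      apply Subtype.ext
      rw [Matrix.SpecialLinearGroup.coe_pow, hc, smul_pow, one_pow, hdet, one_smul]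
      rfl
    exact eq_one_of_pow_coprime y 2 (ℓ ^ k) hcop2 hsq hyk
  · intro c hc hc1
    apply hy1
    have h1 := m2_pow_char_of_double_root p (y : Matrix (Fin 2) (Fin 2) F) y.2 c hc hc1
    have hsq : y ^ (2 * p) = 1 := by
      apply Subtype.ext
      rw [Matrix.SpecialLinearGroup.coe_pow, mul_comm, pow_mul, h1, smul_pow, one_pow, ← pow_mul,
        mul_comm, pow_mul, hc1, one_pow, one_smul]
      rfl
    exact eq_one_of_pow_coprime y (2 * p) (ℓ ^ k) hcop2p hsq hyk

theorem trace_sq_ne_four (h2 : (2 : F) ≠ 0) (y : Matrix.SpecialLinearGroup (Fin 2) F)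
    (hreg : ∀ c : F, c ^ 2 - (y : Matrix (Fin 2) (Fin 2) F).trace * c + 1 = 0 → c ^ 2 ≠ 1) :
    (y : Matrix (Fin 2) (Fin 2) F).trace ^ 2 ≠ 4 := by
  intro h
  apply hreg ((y : Matrix (Fin 2) (Fin 2) F).trace / 2)
  · field_simp
    linear_combination -h
  · field_simp
    linear_combination h

theorem key (hodd : Odd (Fintype.card F)) (ℓ : ℕ) [Fact ℓ.Prime] (hℓ : ℓ ≠ 2)
    (P : Sylow ℓ (Matrix.SpecialLinearGroup (Fin 2) F))
    (hdiv : ℓ ∣ Fintype.card F - 1 ∨ ℓ ∣ Fintype.card F + 1) :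
    ∃ z : Matrix.SpecialLinearGroup (Fin 2) F,
      (∀ c : F, (z : Matrix (Fin 2) (Fin 2) F) ≠ c • (1 : Matrix (Fin 2) (Fin 2) F)) ∧
      (∀ c : F, c ^ 2 - (z : Matrix (Fin 2) (Fin 2) F).trace * c + 1 = 0 → c ^ 2 ≠ 1) ∧
      ℓ ∣ Nat.card (Subgroup.centralizer ({z} : Set (Matrix.SpecialLinearGroup (Fin 2) F))) ∧
      Subgroup.centralizer ((P : Subgroup (Matrix.SpecialLinearGroup (Fin 2) F)) :
        Set (Matrix.SpecialLinearGroup (Fin 2) F)) =
        Subgroup.centralizer ({z} : Set (Matrix.SpecialLinearGroup (Fin 2) F)) ∧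
      Subgroup.normalizer ((P : Subgroup (Matrix.SpecialLinearGroup (Fin 2) F)) :
        Set (Matrix.SpecialLinearGroup (Fin 2) F)) =
        Subgroup.normalizer ((Subgroup.centralizer
          ({z} : Set (Matrix.SpecialLinearGroup (Fin 2) F)) :
            Subgroup (Matrix.SpecialLinearGroup (Fin 2) F)) :
              Set (Matrix.SpecialLinearGroup (Fin 2) F)) := by
  classical
  have h2 := two_ne_zero_of_odd hodd
  have hq : 2 ≤ Fintype.card F := Fintype.one_lt_card
  have hℓprime : ℓ.Prime := Fact.out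
  obtain ⟨p, hchar⟩ := CharP.exists F
  haveI := hchar
  haveI hpF : Fact p.Prime := ⟨CharP.char_is_prime F p⟩
  obtain ⟨n, hp, hn⟩ := FiniteField.card F p
  have hℓp : ℓ ≠ p := by
    intro h
    have h1 : ℓ ∣ Fintype.card F := by
      rw [hn, h]
      exact dvd_pow_self p n.ne_zero
    have hl1 : ℓ ∣ 1 := by
      rcases hdiv with hd | hd
      · have := Nat.dvd_sub h1 hd
        have e : Fintype.card F - (Fintype.card F - 1) = 1 := by omega
        rw [e] at this
        exact this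
      · have := Nat.dvd_sub hd h1
        have e : Fintype.card F + 1 - Fintype.card F = 1 := by omega
        rw [e] at this
        exact this
    exact hℓprime.one_lt.ne' (Nat.dvd_one.mp hl1)
  have hdvdG : ℓ ∣ Nat.card (Matrix.SpecialLinearGroup (Fin 2) F) := by
    rw [card_SL2]
    have e : Fintype.card F ^ 2 - 1 = (Fintype.card F - 1) * (Fintype.card F + 1) := by
      obtain ⟨k, hk⟩ : ∃ k, Fintype.card F = k + 1 := ⟨Fintype.card F - 1, by omega⟩
      rw [hk]
      simp only [Nat.add_sub_cancel]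
      have : (k + 1) ^ 2 = k * (k + 1 + 1) + 1 := by ring
      rw [this, Nat.add_sub_cancel]
    rw [e]
    rcases hdiv with hd | hd
    · exact dvd_mul_of_dvd_right (dvd_mul_of_dvd_left hd _) _
    · exact dvd_mul_of_dvd_right (dvd_mul_of_dvd_right hd _) _
  have hPne : (P : Subgroup (Matrix.SpecialLinearGroup (Fin 2) F)) ≠ ⊥ :=
    P.ne_bot_of_dvd_card hdvdG
  haveI : Nontrivial (P : Subgroup (Matrix.SpecialLinearGroup (Fin 2) F)) :=
    (Subgroup.nontrivial_iff_ne_bot _).mpr hPne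
  have hPp : IsPGroup ℓ (P : Subgroup (Matrix.SpecialLinearGroup (Fin 2) F)) := P.isPGroup'
  haveI := IsPGroup.center_nontrivial hPp
  obtain ⟨w, hw⟩ := exists_ne (1 : Subgroup.center (P : Subgroup (Matrix.SpecialLinearGroup (Fin 2) F)))
  obtain ⟨⟨z, hzP⟩, hzc⟩ := w
  have hz1 : z ≠ 1 := by
    intro h
    apply hw
    apply Subtype.ext
    apply Subtype.ext
    exact h
  have hzcomm : ∀ y ∈ (P : Subgroup (Matrix.SpecialLinearGroup (Fin 2) F)), y * z = z * y := by
    intro y hy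
    have := Subgroup.mem_center_iff.mp hzc ⟨y, hy⟩
    exact congrArg Subtype.val this
  have hpow : ∀ y ∈ (P : Subgroup (Matrix.SpecialLinearGroup (Fin 2) F)), ∃ k : ℕ, y ^ (ℓ ^ k) = 1 := by
    intro y hy
    obtain ⟨k, hk⟩ := hPp ⟨y, hy⟩
    refine ⟨k, ?_⟩
    have := congrArg Subtype.val hk
    simpa using this
  obtain ⟨kz, hkz⟩ := hpow z hzP
  obtain ⟨hzn, hzreg⟩ := regular_of_pow p ℓ hℓprime hℓ hℓp z hz1 kz hkz
  have ht4 := trace_sq_ne_four h2 z hzreg
  have hPT : (P : Subgroup (Matrix.SpecialLinearGroup (Fin 2) F)) ≤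
      Subgroup.centralizer ({z} : Set (Matrix.SpecialLinearGroup (Fin 2) F)) := by
    intro y hy
    rw [Subgroup.mem_centralizer_singleton_iff]
    exact hzcomm y hy
  refine ⟨z, hzn, hzreg, ?_, ?_, ?_⟩
  · obtain ⟨m, hm0, hm⟩ := hPp.nontrivial_iff_card.mp inferInstance
    have h1 : ℓ ∣ Nat.card (P : Subgroup (Matrix.SpecialLinearGroup (Fin 2) F)) := by
      rw [hm]
      exact dvd_pow_self ℓ (ne_of_gt hm0)
    exact h1.trans (Subgroup.card_dvd_of_le hPT)
  · ext x
    constructor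
    · intro hx
      rw [Subgroup.mem_centralizer_singleton_iff]
      exact ((Subgroup.mem_centralizer_iff.mp hx) z hzP).symm
    · intro hx
      rw [Subgroup.mem_centralizer_iff]
      intro y hy
      exact centralizer_comm z hzn y x (hPT hy) hx
  · have hclaim : ∀ w ∈ Subgroup.normalizer ((Subgroup.centralizer
          ({z} : Set (Matrix.SpecialLinearGroup (Fin 2) F)) :
            Subgroup (Matrix.SpecialLinearGroup (Fin 2) F)) :
              Set (Matrix.SpecialLinearGroup (Fin 2) F)),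
        ∀ y ∈ (P : Subgroup (Matrix.SpecialLinearGroup (Fin 2) F)),
          w * y * w⁻¹ ∈ (P : Subgroup (Matrix.SpecialLinearGroup (Fin 2) F)) := by
      intro w hw y hy
      by_cases hy1 : y = 1
      · rw [hy1, mul_one, mul_inv_cancel]
        exact Subgroup.one_mem _
      · obtain ⟨ky, hky⟩ := hpow y hy
        obtain ⟨hyn, hyreg⟩ := regular_of_pow p ℓ hℓprime hℓ hℓp y hy1 ky hky
        have hyt4 := trace_sq_ne_four h2 y hyreg
        have hCy := centralizer_eq_of_mem z hzn y (hPT hy) hyn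
        have h1 : w * y * w⁻¹ ∈ Subgroup.centralizer
            ({z} : Set (Matrix.SpecialLinearGroup (Fin 2) F)) :=
          (Subgroup.mem_normalizer_iff.mp hw y).mp (hPT hy)
        rw [← hCy] at h1
        rcases eq_or_eq_inv_of_trace h2 y hyn hyt4 _ h1 (conj_trace w y) with h | h
        · rw [h]
          exact hy
        · rw [h]
          exact Subgroup.inv_mem _ hy
    ext x
    rw [mem_normalizer_centralizer_iff h2 z hzn ht4 x]
    constructor
    · intro hx
      have h1 : x * z * x⁻¹ ∈ (P : Subgroup (Matrix.SpecialLinearGroup (Fin 2) F)) :=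
        (Subgroup.mem_normalizer_iff.mp hx z).mp hzP
      exact eq_or_eq_inv_of_trace h2 z hzn ht4 _ (hPT h1) (conj_trace x z)
    · intro hx
      have hxN := (mem_normalizer_centralizer_iff h2 z hzn ht4 x).mpr hx
      rw [Subgroup.mem_normalizer_iff]
      intro y
      constructor
      · intro hy
        exact hclaim x hxN y hy
      · intro hy
        have := hclaim x⁻¹ (Subgroup.inv_mem _ hxN) _ hy
        have e : x⁻¹ * (x * y * x⁻¹) * x⁻¹⁻¹ = y := by group
        rw [e] at this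
        exact this

end Helpers

/-- Let F be a finite field with q elements, q odd, ℓ an odd prime, and P a Sylow ℓ-subgroup of SL₂ over F. If ℓ divides q − 1, the centraliser of P is cyclic of order q − 1 (a split torus) and the normaliser of P has order 2(q − 1); if ℓ divides q + 1, the centraliser of P is cyclic of order q + 1 (a non-split torus) and the normaliser of P has order 2(q + 1). -/
theorem result {F : Type*} [Field F] [Fintype F] (hodd : Odd (Fintype.card F)) (ℓ : ℕ) [Fact ℓ.Prime] (hℓ : ℓ ≠ 2)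
    (P : Sylow ℓ (Matrix.SpecialLinearGroup (Fin 2) F)) :
    (ℓ ∣ Fintype.card F - 1 →
      Nat.card (Subgroup.centralizer ((P : Subgroup (Matrix.SpecialLinearGroup (Fin 2) F)) : Set (Matrix.SpecialLinearGroup (Fin 2) F))) = Fintype.card F - 1 ∧
      IsCyclic (Subgroup.centralizer ((P : Subgroup (Matrix.SpecialLinearGroup (Fin 2) F)) : Set (Matrix.SpecialLinearGroup (Fin 2) F))) ∧
      Nat.card (Subgroup.normalizer ((P : Subgroup (Matrix.SpecialLinearGroup (Fin 2) F)) : Set (Matrix.SpecialLinearGroup (Fin 2) F))) = 2 * (Fintype.card F - 1)) ∧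
    (ℓ ∣ Fintype.card F + 1 →
      Nat.card (Subgroup.centralizer ((P : Subgroup (Matrix.SpecialLinearGroup (Fin 2) F)) : Set (Matrix.SpecialLinearGroup (Fin 2) F))) = Fintype.card F + 1 ∧
      IsCyclic (Subgroup.centralizer ((P : Subgroup (Matrix.SpecialLinearGroup (Fin 2) F)) : Set (Matrix.SpecialLinearGroup (Fin 2) F))) ∧
      Nat.card (Subgroup.normalizer ((P : Subgroup (Matrix.SpecialLinearGroup (Fin 2) F)) : Set (Matrix.SpecialLinearGroup (Fin 2) F))) = 2 * (Fintype.card F + 1)) := by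
  have h2 := two_ne_zero_of_odd hodd
  have hodd' : Fintype.card F % 2 = 1 := Nat.odd_iff.mp hodd
  have hq : 2 ≤ Fintype.card F := Fintype.one_lt_card
  have hℓprime : ℓ.Prime := Fact.out
  have hnot : ¬ (ℓ ∣ Fintype.card F - 1 ∧ ℓ ∣ Fintype.card F + 1) := by
    rintro ⟨ha, hb⟩
    have h3 := Nat.dvd_sub hb ha
    have e : Fintype.card F + 1 - (Fintype.card F - 1) = 2 := by omega
    rw [e] at h3
    exact hℓ ((Nat.prime_dvd_prime_iff_eq hℓprime Nat.prime_two).mp h3)
  have main : ∀ hdiv : ℓ ∣ Fintype.card F - 1 ∨ ℓ ∣ Fintype.card F + 1,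
      ∃ N : ℕ, (N = Fintype.card F - 1 ∨ N = Fintype.card F + 1) ∧ ℓ ∣ N ∧
      Nat.card (Subgroup.centralizer ((P : Subgroup (Matrix.SpecialLinearGroup (Fin 2) F)) : Set (Matrix.SpecialLinearGroup (Fin 2) F))) = N ∧
      IsCyclic (Subgroup.centralizer ((P : Subgroup (Matrix.SpecialLinearGroup (Fin 2) F)) : Set (Matrix.SpecialLinearGroup (Fin 2) F))) ∧
      Nat.card (Subgroup.normalizer ((P : Subgroup (Matrix.SpecialLinearGroup (Fin 2) F)) : Set (Matrix.SpecialLinearGroup (Fin 2) F))) = 2 * N := by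
    intro hdiv
    obtain ⟨z, hzn, hzreg, hdvd, hC, hN⟩ := key hodd ℓ hℓ P hdiv
    have ht4 := trace_sq_ne_four h2 z hzreg
    have huniv : ∀ n : F, n ≠ 0 → ∃ x : F × F, nrm (z : Matrix (Fin 2) (Fin 2) F).trace x = n :=
      fun n _ => nrm_universal hodd' h2 _ ht4 n
    have hcyc := isCyclic_centralizer z hzn hzreg
    have hcardN := card_normalizer_centralizer h2 z hzn ht4 huniv
    refine ⟨Nat.card (Subgroup.centralizer ({z} : Set (Matrix.SpecialLinearGroup (Fin 2) F))),
      ?_, hdvd, by rw [hC], by rw [hC]; exact hcyc, by rw [hN, hcardN]⟩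
    rw [card_centralizer_eq z hzn]
    by_cases hR : ∃ c : F, c ^ 2 - (z : Matrix (Fin 2) (Fin 2) F).trace * c + 1 = 0
    · obtain ⟨c, hc⟩ := hR
      left
      exact card_normSet_split _ c hc (hzreg c hc)
    · push Not at hR
      right
      exact card_normSet_nonsplit_odd hodd' h2 _ hR
  constructor
  · intro hd
    obtain ⟨N, hN, hdvd, h1, h3, h4⟩ := main (Or.inl hd)
    rcases hN with rfl | rfl
    · exact ⟨h1, h3, h4⟩
    · exact absurd ⟨hd, hdvd⟩ hnot
  · intro hd
    obtain ⟨N, hN, hdvd, h1, h3, h4⟩ := main (Or.inr hd)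
    rcases hN with rfl | rfl
    · exact absurd ⟨hdvd, hd⟩ hnot
    · exact ⟨h1, h3, h4⟩

end Cfsg.Agent.S2430
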