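import Cfsg.Statements.S2309
import Cfsg.Agent.Lib.helper14.GL2Char3

set_option autoImplicit false
open Cfsg

namespace Cfsg.Agent.S2309

open Cfsg.Agent.Lib.helper14

section Aux

variable {F : Type*} [Field F] [Fintype F] [DecidableEq F]
variable [Fintype (Cfsg.IrrCharacter (GL (Fin 2) F))] [Fintype (MulChar F ℂ)]

local notation "G2" => GL (Fin 2) F
local notation "M2" => Matrix (Fin 2) (Fin 2) F
local notation "Irr2" => Cfsg.IrrCharacter (GL (Fin 2) F)

open Classical

/-- An irreducible character of degree `q + 1` is an irreducible principal series. -/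
theorem eq_glRirr_of_deg (χ : Irr2) (hdeg : (χ : G2 → ℂ) 1 = (Fintype.card F : ℂ) + 1) :
    ∃ (α β : MulChar F ℂ) (h : α ≠ β), χ = glRirr α β h := by
  obtain ⟨f1, f2, f3⟩ := q_ne_facts (F := F)
  rcases gl_classification χ with ⟨α, rfl⟩ | ⟨α, rfl⟩ | ⟨α, β, h, rfl⟩ | h
  · exfalso
    rw [glLam_one] at hdeg
    exact f2 hdeg.symm
  · exfalso
    rw [glSt_one] at hdeg
    exact f3 hdeg
  · exact ⟨α, β, h, rfl⟩
  · exfalso
    rw [(glPsi_values χ h).1] at hdeg
    have : (0 : ℂ) = 2 := by linear_combination hdeg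
    norm_num at this

/-- For `q ≥ 3`, an irreducible character of degree `q - 1` is in the complementary set. -/
theorem mem_glPsi_of_deg (hq : 3 ≤ Fintype.card F) (χ : Irr2)
    (hdeg : (χ : G2 → ℂ) 1 = (Fintype.card F : ℂ) - 1) : χ ∈ glPsi (F := F) := by
  have hq2 : (Fintype.card F : ℂ) ≠ 2 := by
    have : Fintype.card F ≠ 2 := by omega
    exact_mod_cast this
  rcases gl_classification χ with ⟨α, rfl⟩ | ⟨α, rfl⟩ | ⟨α, β, h, rfl⟩ | h
  · exfalso
    rw [glLam_one] at hdeg
    apply hq2
    linear_combination -hdeg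
  · exfalso
    rw [glSt_one] at hdeg
    have : (0 : ℂ) = 1 := by linear_combination -hdeg
    exact zero_ne_one this
  · exfalso
    rw [glRirr_one] at hdeg
    have : (0 : ℂ) = 2 := by linear_combination -hdeg
    norm_num at this
  · exact h

end Aux

/-- Over a finite field F with q elements: every irreducible complex character of GL₂ of degree q − 1 vanishes at every diagonal matrix with two distinct entries, and every irreducible complex character of degree q + 1 vanishes at every element with no eigenvector in F². -/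
theorem result {F : Type*} [Field F] [Fintype F] (χ : Matrix.GeneralLinearGroup (Fin 2) F → ℂ) (hχ : Cfsg.IsIrrCharacter (Matrix.GeneralLinearGroup (Fin 2) F) χ) (g : Matrix.GeneralLinearGroup (Fin 2) F) :
    (χ 1 = (Fintype.card F : ℂ) - 1 → (g : Matrix (Fin 2) (Fin 2) F) 0 1 = 0 → (g : Matrix (Fin 2) (Fin 2) F) 1 0 = 0 → (g : Matrix (Fin 2) (Fin 2) F) 0 0 ≠ (g : Matrix (Fin 2) (Fin 2) F) 1 1 → χ g = 0) ∧
    (χ 1 = (Fintype.card F : ℂ) + 1 → (∀ (c : F) (v : Fin 2 → F), v ≠ 0 → (g : Matrix (Fin 2) (Fin 2) F).mulVec v ≠ c • v) → χ g = 0) := by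
  classical
  haveI : Fintype (Cfsg.IrrCharacter (GL (Fin 2) F)) := Fintype.ofFinite _
  haveI : Fintype (MulChar F ℂ) := Fintype.ofFinite _
  constructor
  · intro hdeg h01 h10 hne
    have hdet : (g : Matrix (Fin 2) (Fin 2) F).det ≠ 0 := Matrix.GeneralLinearGroup.det_ne_zero g
    rw [Matrix.det_fin_two, h01, h10, mul_zero, sub_zero] at hdet
    have ha : (g : Matrix (Fin 2) (Fin 2) F) 0 0 ≠ 0 := left_ne_zero_of_mul hdet
    have hd : (g : Matrix (Fin 2) (Fin 2) F) 1 1 ≠ 0 := right_ne_zero_of_mul hdet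
    -- three distinct elements 0, a, d
    have hq : 3 ≤ Fintype.card F := by
      have hcard : ({0, (g : Matrix (Fin 2) (Fin 2) F) 0 0, (g : Matrix (Fin 2) (Fin 2) F) 1 1} :
          Finset F).card = 3 := by
        rw [Finset.card_insert_of_notMem, Finset.card_pair hne]
        simp only [Finset.mem_insert, Finset.mem_singleton, not_or]
        exact ⟨ha.symm, hd.symm⟩
      rw [← hcard]
      exact Finset.card_le_univ _
    exact glPsi_diag_zero (⟨χ, hχ⟩ : Cfsg.IrrCharacter (GL (Fin 2) F))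
      (mem_glPsi_of_deg hq _ hdeg) g h01 h10 hne
  · intro hdeg hg
    obtain ⟨α, β, h, e⟩ := eq_glRirr_of_deg (⟨χ, hχ⟩ : Cfsg.IrrCharacter (GL (Fin 2) F)) hdeg
    have hval : χ g = (glRirr α β h : GL (Fin 2) F → ℂ) g := by rw [← e]
    rw [hval, glRirr_apply]
    exact glR_noEig α β g hg

end Cfsg.Agent.S2309
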