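import Cfsg.Statements.S2322
import Cfsg.Agent.Lib.helper14.SL2Q3
import Cfsg.Agent.S2298

set_option autoImplicit false
open Cfsg

namespace Cfsg.Agent.S2322

open Cfsg.Agent.Lib.helper14

section Aux

variable {F : Type*} [Field F] [Fintype F] [DecidableEq F]
variable [Fintype (Cfsg.IrrCharacter (GL (Fin 2) F))] [Fintype (MulChar F ℂ)]

local notation "G2" => GL (Fin 2) F
local notation "S2" => Matrix.SpecialLinearGroup (Fin 2) F
local notation "M2" => Matrix (Fin 2) (Fin 2) F
local notation "Irr2" => Cfsg.IrrCharacter (GL (Fin 2) F)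

open Classical

/-- the degree of an irreducible character of `GL₂` as a natural number -/
theorem deg_nat (η : Irr2) : ∃ n : ℕ, (η : G2 → ℂ) 1 = (n : ℂ) ∧
    (n = 1 ∨ n = Fintype.card F ∨ n = Fintype.card F + 1 ∨ n + 1 = Fintype.card F) := by
  obtain ⟨d1, d2, d3, d4⟩ := Cfsg.Agent.S2298.deg_of_mem η
  rcases Cfsg.Agent.S2298.mem_cases η with m | m | m | m
  · exact ⟨1, by rw [d1 m]; simp, Or.inl rfl⟩
  · exact ⟨Fintype.card F, d2 m, Or.inr (Or.inl rfl)⟩
  · exact ⟨Fintype.card F + 1, by rw [d3 m]; simp, Or.inr (Or.inr (Or.inl rfl))⟩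
  · refine ⟨Fintype.card F - 1, ?_, Or.inr (Or.inr (Or.inr ?_))⟩
    · rw [d4 m]
      have : 1 ≤ Fintype.card F := Fintype.card_pos
      rw [Nat.cast_sub this]
      simp
    · have : 1 ≤ Fintype.card F := Fintype.card_pos
      omega

theorem two_ne_zero_of_odd (hodd : Odd (Fintype.card F)) : (2 : F) ≠ 0 := by
  intro h
  have hchar : ringChar F = 2 := by
    have : ringChar F ∣ 2 := by
      rw [← Nat.cast_ofNat] at h
      exact (ringChar.spec F 2).mp h
    rcases (Nat.dvd_prime Nat.prime_two).mp this with h1 | h1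
    · exfalso
      exact CharP.ringChar_ne_one (R := F) h1
    · exact h1
  have := FiniteField.even_card_of_char_two hchar
  have := Nat.odd_iff.mp hodd
  omega

end Aux

/-- Over a finite field F with q elements, q odd: every irreducible complex character of SL₂ of degree q − 1 or (q − 1)/2 vanishes at every diagonal matrix whose diagonal entry a has a² ≠ 1, and every irreducible complex character of degree q + 1 or (q + 1)/2 vanishes at every element with no eigenvector in F². -/
theorem result {F : Type*} [Field F] [Fintype F] (hodd : Odd (Fintype.card F)) (χ : Matrix.SpecialLinearGroup (Fin 2) F → ℂ) (hχ : Cfsg.IsIrrCharacter (Matrix.SpecialLinearGroup (Fin 2) F) χ) (g : Matrix.SpecialLinearGroup (Fin 2) F) :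
    ((χ 1 = (Fintype.card F : ℂ) - 1 ∨ χ 1 = (((Fintype.card F - 1) / 2 : ℕ) : ℂ)) →
      (g : Matrix (Fin 2) (Fin 2) F) 0 1 = 0 → (g : Matrix (Fin 2) (Fin 2) F) 1 0 = 0 → (g : Matrix (Fin 2) (Fin 2) F) 0 0 ^ 2 ≠ 1 → χ g = 0) ∧
    ((χ 1 = (Fintype.card F : ℂ) + 1 ∨ χ 1 = (((Fintype.card F + 1) / 2 : ℕ) : ℂ)) →
      (∀ (c : F) (v : Fin 2 → F), v ≠ 0 → (g : Matrix (Fin 2) (Fin 2) F).mulVec v ≠ c • v) → χ g = 0) := by
  classical
  haveI : Fintype (Cfsg.IrrCharacter (GL (Fin 2) F)) := Fintype.ofFinite _
  haveI : Fintype (Cfsg.IrrCharacter (Matrix.SpecialLinearGroup (Fin 2) F)) := Fintype.ofFinite _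
  haveI : Fintype (MulChar F ℂ) := Fintype.ofFinite _
  obtain ⟨η, hη⟩ := exists_above' (F := F) ⟨χ, hχ⟩
  change Cfsg.classInner (resS (η : GL (Fin 2) F → ℂ)) χ ≠ 0 at hη
  obtain ⟨hdeg, hval⟩ := constituent_value hodd η χ hχ hη
  obtain ⟨n, hn, hncases⟩ := deg_nat η
  obtain ⟨m, hm⟩ := hodd
  have hq2 : 2 ≤ Fintype.card F := Fintype.one_lt_card
  have hm1 : 1 ≤ m := by omega
  have h2F := two_ne_zero_of_odd (F := F) ⟨m, hm⟩
  have hcoe : ((Matrix.SpecialLinearGroup.toGL g : GL (Fin 2) F) : Matrix (Fin 2) (Fin 2) F) =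
      (g : Matrix (Fin 2) (Fin 2) F) := rfl
  have hdet : (g : Matrix (Fin 2) (Fin 2) F).det = 1 := g.2
  have htw0 : (twI η : ℂ) ≠ 0 := by
    rcases twI_cases η with h | h <;> rw [h] <;> norm_num
  constructor
  · intro hd h01 h10 hsq
    rw [Matrix.det_fin_two, h01, h10, mul_zero, sub_zero] at hdet
    set a := (g : Matrix (Fin 2) (Fin 2) F) 0 0 with ha
    set d := (g : Matrix (Fin 2) (Fin 2) F) 1 1 with hd'
    have ha0 : a ≠ 0 := left_ne_zero_of_mul_eq_one hdet
    have had : a ≠ d := by
      intro h
      apply hsq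
      rw [pow_two]
      nth_rewrite 2 [h]
      exact hdet
    -- q ≥ 5
    have hm2 : 2 ≤ m := by
      by_contra hlt
      have hq3 : Fintype.card F = 3 := by omega
      have hneg : (-1 : F) ≠ 1 := by
        intro h
        apply h2F
        linear_combination -h
      have hc : ({0, 1, -1, a} : Finset F).card = 4 := by
        rw [Finset.card_insert_of_notMem, Finset.card_insert_of_notMem,
          Finset.card_pair]
        · intro h
          apply hsq
          rw [← h]; ring
        · simp only [Finset.mem_insert, Finset.mem_singleton, not_or]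
          refine ⟨hneg.symm, ?_⟩
          intro h
          apply hsq
          rw [← h]; ring
        · simp only [Finset.mem_insert, Finset.mem_singleton, not_or]
          refine ⟨zero_ne_one, ?_, ha0.symm⟩
          intro h
          have : (1 : F) = 0 := by linear_combination h
          exact one_ne_zero this
      have := Finset.card_le_univ ({0, 1, -1, a} : Finset F)
      omega
    have hns : ¬ IsScalar2 (g : Matrix (Fin 2) (Fin 2) F) := fun h => had h.2.2
    have htr : (g : Matrix (Fin 2) (Fin 2) F).trace * (g : Matrix (Fin 2) (Fin 2) F).trace ≠ 4 := by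
      rw [Matrix.trace_fin_two]
      intro h
      have : (a - d) * (a - d) = 0 := by linear_combination h - 4 * hdet
      rcases mul_eq_zero.mp this with h' | h' <;> exact had (sub_eq_zero.mp h')
    have hv := hval g hns htr
    -- degree of η is q - 1
    have hηdeg : (η : GL (Fin 2) F → ℂ) 1 = (Fintype.card F : ℂ) - 1 := by
      have hq1 : (Fintype.card F : ℂ) - 1 = ((2 * m : ℕ) : ℂ) := by
        rw [hm]; push_cast; ring
      rw [hq1]
      rcases hd with hd | hd
      · rw [hd, hq1] at hdeg
        rcases twI_cases η with ht | ht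
        · rw [ht] at hdeg
          rw [hdeg]; push_cast; ring
        · exfalso
          rw [ht, hn] at hdeg
          have : n = 2 * (2 * m) := by exact_mod_cast hdeg
          omega
      · have hmm : (Fintype.card F - 1) / 2 = m := by omega
        rw [hd, hmm] at hdeg
        rcases twI_cases η with ht | ht
        · exfalso
          rw [ht, hn] at hdeg
          have : n = 1 * m := by exact_mod_cast hdeg
          omega
        · rw [ht] at hdeg
          rw [hdeg]; push_cast; ring
    have hzero := (Cfsg.Agent.S2309.result (η : GL (Fin 2) F → ℂ) η.2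
      (Matrix.SpecialLinearGroup.toGL g)).1 hηdeg (by rw [hcoe]; exact h01)
      (by rw [hcoe]; exact h10) (by rw [hcoe]; exact had)
    rw [hzero] at hv
    rcases mul_eq_zero.mp hv.symm with h | h
    · exact absurd h htw0
    · exact h
  · intro hd hg
    obtain ⟨hns, htr⟩ := noEig_regular g hg
    have hv := hval g hns htr
    have hg' : ∀ (c : F) (v : Fin 2 → F), v ≠ 0 →
        ((Matrix.SpecialLinearGroup.toGL g : GL (Fin 2) F) : Matrix (Fin 2) (Fin 2) F).mulVec v ≠
          c • v := by
      rw [hcoe]; exact hg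
    have hzero : (η : GL (Fin 2) F → ℂ) (Matrix.SpecialLinearGroup.toGL g) = 0 := by
      have hq1 : (Fintype.card F : ℂ) + 1 = ((2 * m + 2 : ℕ) : ℂ) := by
        rw [hm]; push_cast; ring
      rcases hd with hd | hd
      · rw [hd, hq1] at hdeg
        rcases twI_cases η with ht | ht
        · rw [ht] at hdeg
          apply (Cfsg.Agent.S2309.result (η : GL (Fin 2) F → ℂ) η.2
            (Matrix.SpecialLinearGroup.toGL g)).2 _ hg'
          rw [hdeg, hq1]; push_cast; ring
        · exfalso
          rw [ht, hn] at hdeg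
          have : n = 2 * (2 * m + 2) := by exact_mod_cast hdeg
          omega
      · have hmm : (Fintype.card F + 1) / 2 = m + 1 := by omega
        rw [hd, hmm] at hdeg
        rcases twI_cases η with ht | ht
        · rw [ht, hn] at hdeg
          have hnm : n = 1 * (m + 1) := by exact_mod_cast hdeg
          have hq3 : Fintype.card F = 3 := by omega
          have hmem : η ∈ glPsi (F := F) := by
            apply Cfsg.Agent.S2309.mem_glPsi_of_deg (by omega)
            rw [hn, hq3]
            have : n = 2 := by omega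
            rw [this]; norm_num
          exact q3_cuspidal_zero hq3 η hmem ht g hg
        · rw [ht] at hdeg
          apply (Cfsg.Agent.S2309.result (η : GL (Fin 2) F → ℂ) η.2
            (Matrix.SpecialLinearGroup.toGL g)).2 _ hg'
          rw [hdeg, hq1]; push_cast; ring
    rw [hzero] at hv
    rcases mul_eq_zero.mp hv.symm with h | h
    · exact absurd h htw0
    · exact h

end Cfsg.Agent.S2322
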