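import Cfsg.Statements.S2323
import Cfsg.Agent.Lib.helper14.SL2Res

set_option autoImplicit false
open Cfsg

namespace Cfsg.Agent.S2323

open Cfsg.Agent.Lib.helper14 Cfsg.Agent.S2304

section Aux

variable {F : Type*} [Field F] [Fintype F] [DecidableEq F]
variable [Fintype (Cfsg.IrrCharacter (GL (Fin 2) F))] [Fintype (MulChar F ℂ)]

local notation "G2" => GL (Fin 2) F
local notation "S2" => Matrix.SpecialLinearGroup (Fin 2) F
local notation "M2" => Matrix (Fin 2) (Fin 2) F
local notation "Irr2" => Cfsg.IrrCharacter (GL (Fin 2) F)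

open Classical

/-- degree a multiple of `q + 1` forces an irreducible principal series and `M = 1` -/
theorem of_deg_mul_qp1 (χ : Irr2) (M : ℕ) (hM : 1 ≤ M)
    (hdeg : (χ : G2 → ℂ) 1 = (M : ℂ) * ((Fintype.card F : ℂ) + 1)) :
    M = 1 ∧ ∃ (α β : MulChar F ℂ) (h : α ≠ β), χ = glRirr α β h := by
  have hq : 2 ≤ Fintype.card F := Fintype.one_lt_card
  have hMq : Fintype.card F + 1 ≤ M * (Fintype.card F + 1) := Nat.le_mul_of_pos_left _ hM
  rcases gl_classification χ with ⟨α, rfl⟩ | ⟨α, rfl⟩ | ⟨α, β, h, rfl⟩ | h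
  · exfalso
    rw [glLam_one] at hdeg
    have h1 : M * (Fintype.card F + 1) = 1 := by exact_mod_cast hdeg.symm
    omega
  · exfalso
    rw [glSt_one] at hdeg
    have h1 : M * (Fintype.card F + 1) = Fintype.card F := by exact_mod_cast hdeg.symm
    omega
  · rw [glRirr_one] at hdeg
    have h1 : M * (Fintype.card F + 1) = Fintype.card F + 1 := by exact_mod_cast hdeg.symm
    refine ⟨?_, α, β, h, rfl⟩
    have h2 : M * (Fintype.card F + 1) = 1 * (Fintype.card F + 1) := by rw [h1, one_mul]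
    exact Nat.eq_of_mul_eq_mul_right (by omega) h2
  · exfalso
    rw [(glPsi_values χ h).1] at hdeg
    have h1 : ((M * (Fintype.card F + 1) + 1 : ℕ) : ℂ) = ((Fintype.card F : ℕ) : ℂ) := by
      push_cast
      linear_combination -hdeg
    have h2 : M * (Fintype.card F + 1) + 1 = Fintype.card F := by exact_mod_cast h1
    omega

/-- for `q ≥ 4`, degree a multiple of `q - 1` forces the complementary set and `M = 1` -/
theorem of_deg_mul_qm1 (hq : 4 ≤ Fintype.card F) (χ : Irr2) (M : ℕ) (hM : 1 ≤ M)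
    (hdeg : (χ : G2 → ℂ) 1 = (M : ℂ) * ((Fintype.card F : ℂ) - 1)) :
    M = 1 ∧ χ ∈ glPsi (F := F) := by
  obtain ⟨k, hk⟩ : ∃ k, Fintype.card F = k + 1 := ⟨Fintype.card F - 1, by omega⟩
  have hk3 : 3 ≤ k := by omega
  have hcast : (Fintype.card F : ℂ) - 1 = (k : ℂ) := by
    rw [hk]; push_cast; ring
  have hcast' : (Fintype.card F : ℂ) = (k : ℂ) + 1 := by
    rw [hk]; push_cast; ring
  rw [hcast] at hdeg
  have hMk : k ≤ M * k := Nat.le_mul_of_pos_left _ hM
  rcases gl_classification χ with ⟨α, rfl⟩ | ⟨α, rfl⟩ | ⟨α, β, h, rfl⟩ | h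
  · exfalso
    rw [glLam_one] at hdeg
    have h1 : M * k = 1 := by exact_mod_cast hdeg.symm
    omega
  · exfalso
    rw [glSt_one, hcast'] at hdeg
    have h1 : M * k = k + 1 := by exact_mod_cast hdeg.symm
    have h2 : k ∣ k + 1 := ⟨M, by rw [← h1, mul_comm]⟩
    have h3 : k ∣ 1 := (Nat.dvd_add_right (dvd_refl _)).mp h2
    have := Nat.le_of_dvd one_pos h3
    omega
  · exfalso
    rw [glRirr_one, hcast'] at hdeg
    have h1 : M * k = k + 2 := by
      have : ((M * k : ℕ) : ℂ) = ((k + 2 : ℕ) : ℂ) := by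
        push_cast
        linear_combination -hdeg
      exact_mod_cast this
    have h2 : k ∣ k + 2 := ⟨M, by rw [← h1, mul_comm]⟩
    have h3 : k ∣ 2 := (Nat.dvd_add_right (dvd_refl _)).mp h2
    have := Nat.le_of_dvd two_pos h3
    omega
  · refine ⟨?_, h⟩
    rw [(glPsi_values χ h).1, hcast] at hdeg
    have h1 : M * k = k := by exact_mod_cast hdeg.symm
    have h2 : M * k = 1 * k := by rw [h1, one_mul]
    exact Nat.eq_of_mul_eq_mul_right (by omega) h2

end Aux

/-- Over a finite field F with q ≥ 4 elements, let u be the upper unitriangular matrix of SL₂ with off-diagonal entry 1. An irreducible complex character of SL₂ takes at u the value 1 if its degree is q + 1 and the value −1 if its degree is q − 1. -/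
theorem result {F : Type*} [Field F] [Fintype F] (hq : 4 ≤ Fintype.card F) (χ : Matrix.SpecialLinearGroup (Fin 2) F → ℂ) (hχ : Cfsg.IsIrrCharacter (Matrix.SpecialLinearGroup (Fin 2) F) χ)
    (u : Matrix.SpecialLinearGroup (Fin 2) F) (hu : (u : Matrix (Fin 2) (Fin 2) F) = !![1, 1; 0, 1]) :
    (χ 1 = (Fintype.card F : ℂ) + 1 → χ u = 1) ∧ (χ 1 = (Fintype.card F : ℂ) - 1 → χ u = -1) := by
  classical
  haveI : Fintype (Cfsg.IrrCharacter (GL (Fin 2) F)) := Fintype.ofFinite _
  haveI : Fintype (MulChar F ℂ) := Fintype.ofFinite _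
  obtain ⟨η, hη, M, hM1, hM2, hM3⟩ := exists_above χ hχ
  have hu' : (Matrix.SpecialLinearGroup.toGL u : GL (Fin 2) F) = uG 1 := by
    apply Units.ext
    rw [uG_coe]
    exact hu
  constructor
  · intro hdeg
    rw [hdeg] at hM2
    obtain ⟨hM, α, β, h, e⟩ :=
      of_deg_mul_qp1 (⟨η, hη⟩ : Cfsg.IrrCharacter (GL (Fin 2) F)) M hM1 hM2
    have hval : χ u = (glRirr α β h : GL (Fin 2) F → ℂ) (Matrix.SpecialLinearGroup.toGL u) := by
      rw [← hM3 hM u, ← e]
    rw [hval, hu', glRirr_uG α β h 1 one_ne_zero]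
  · intro hdeg
    rw [hdeg] at hM2
    obtain ⟨hM, hmem⟩ :=
      of_deg_mul_qm1 hq (⟨η, hη⟩ : Cfsg.IrrCharacter (GL (Fin 2) F)) M hM1 hM2
    rw [← hM3 hM u, hu']
    exact (glPsi_values _ hmem).2

end Cfsg.Agent.S2323
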