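import Cfsg.Statements.S2435
import Cfsg.Agent.Lib.helper14.SL2Cusp
import Cfsg.Agent.Lib.helper14.AbRes
import Cfsg.Agent.S2322
import Cfsg.Agent.S2323

set_option autoImplicit false
open Cfsg

namespace Cfsg.Agent.S2435

open Cfsg.Agent.Lib.helper14 Cfsg.Agent.Lib.helper7 Cfsg.Agent.Lib.helper2 Cfsg.Agent.Lib.Helper25
open Cfsg.Agent.S2304 Cfsg.Agent.S2307
open scoped ComplexConjugate

section Aux

variable {F : Type*} [Field F] [Fintype F] [DecidableEq F]
variable [Fintype (Cfsg.IrrCharacter (GL (Fin 2) F))] [Fintype (MulChar F ℂ)]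
variable [Fintype (Cfsg.IrrCharacter (Matrix.SpecialLinearGroup (Fin 2) F))]

local notation "G2" => GL (Fin 2) F
local notation "S2" => Matrix.SpecialLinearGroup (Fin 2) F
local notation "M2" => Matrix (Fin 2) (Fin 2) F
local notation "Irr2" => Cfsg.IrrCharacter (GL (Fin 2) F)
local notation "IrrS" => Cfsg.IrrCharacter (Matrix.SpecialLinearGroup (Fin 2) F)

open Classical

/-- the character of `GL₂` above a character of degree `(q - 1) / 2` -/
theorem above_minus (hodd : Odd (Fintype.card F)) (ψ : S2 → ℂ) (hψ : Cfsg.IsIrrCharacter S2 ψ)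
    (m : ℕ) (hm2 : 2 ≤ m) (hm : Fintype.card F = 2 * m + 1) (hdeg : ψ 1 = (m : ℂ)) :
    ∃ η : Irr2, η ∈ glPsi (F := F) ∧ twI η = 2 ∧
      (∀ s : S2, ¬ IsScalar2 (s : M2) → (s : M2).trace * (s : M2).trace ≠ 4 →
        resS (η : G2 → ℂ) s = 2 * ψ s) ∧
      ∃ ψ' : S2 → ℂ, Cfsg.IsIrrCharacter S2 ψ' ∧ resS (η : G2 → ℂ) = ψ + ψ' ∧ ψ' 1 = (m : ℂ) := by
  obtain ⟨η, hη⟩ := exists_above' (F := F) ⟨ψ, hψ⟩
  change Cfsg.classInner (resS (η : G2 → ℂ)) ψ ≠ 0 at hη
  obtain ⟨hd, hval⟩ := constituent_value hodd η ψ hψ hη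
  obtain ⟨n, hn, hncases⟩ := Cfsg.Agent.S2322.deg_nat η
  rcases constituent_structure η ψ hψ hη with ⟨ht, -⟩ | ⟨ht, ψ', hψ', hres, -⟩
  · exfalso
    rw [ht, hn, hdeg] at hd
    have : n = 1 * m := by exact_mod_cast hd
    omega
  rw [ht, hn, hdeg] at hd
  have hn2 : n = 2 * m := by exact_mod_cast hd
  have h1 : (η : G2 → ℂ) 1 = ((1 : ℕ) : ℂ) * ((Fintype.card F : ℂ) - 1) := by
    rw [hn, hn2, hm]
    push_cast
    ring
  obtain ⟨-, hmem⟩ := Cfsg.Agent.S2323.of_deg_mul_qm1 (by omega) η 1 le_rfl h1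
  refine ⟨η, hmem, ht, ?_, ψ', hψ', hres, ?_⟩
  · intro s hs htr
    rw [resS_apply, hval s hs htr, ht]
    push_cast
    ring
  · have h3 : resS (η : G2 → ℂ) 1 = ψ 1 + ψ' 1 := by rw [hres]; rfl
    rw [resS_one, hn, hn2, hdeg] at h3
    push_cast at h3
    linear_combination -h3

/-- the character of `GL₂` above a character of degree `(q + 1) / 2` -/
theorem above_plus (hodd : Odd (Fintype.card F)) (ψ : S2 → ℂ) (hψ : Cfsg.IsIrrCharacter S2 ψ)
    (m : ℕ) (hm2 : 2 ≤ m) (hm : Fintype.card F = 2 * m + 1) (hdeg : ψ 1 = ((m + 1 : ℕ) : ℂ)) :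
    ∃ (α β : MulChar F ℂ) (h : α ≠ β), (α⁻¹ * β) ^ 2 = 1 ∧
      ∀ s : S2, ¬ IsScalar2 (s : M2) → (s : M2).trace * (s : M2).trace ≠ 4 →
        glR α β (Matrix.SpecialLinearGroup.toGL s) = 2 * ψ s := by
  obtain ⟨η, hη⟩ := exists_above' (F := F) ⟨ψ, hψ⟩
  change Cfsg.classInner (resS (η : G2 → ℂ)) ψ ≠ 0 at hη
  obtain ⟨hd, hval⟩ := constituent_value hodd η ψ hψ hη
  obtain ⟨n, hn, hncases⟩ := Cfsg.Agent.S2322.deg_nat η
  have ht : twI η = 2 := by
    rcases twI_cases η with ht | ht
    · exfalso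
      rw [ht, hn, hdeg] at hd
      have : n = 1 * (m + 1) := by exact_mod_cast hd
      omega
    · exact ht
  rw [ht, hn, hdeg] at hd
  have hn2 : n = 2 * (m + 1) := by exact_mod_cast hd
  have h1 : (η : G2 → ℂ) 1 = ((1 : ℕ) : ℂ) * ((Fintype.card F : ℂ) + 1) := by
    rw [hn, hn2, hm]
    push_cast
    ring
  obtain ⟨-, α, β, h, e⟩ := Cfsg.Agent.S2323.of_deg_mul_qp1 η 1 le_rfl h1
  refine ⟨α, β, h, ?_, ?_⟩
  · rw [← twI_glRirr_ne_one_iff α β h, ← e, ht]
    norm_num
  · intro s hs htr
    have := hval s hs htr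
    rw [ht] at this
    rw [e, glRirr_apply] at this
    rw [this]
    push_cast
    ring

omit [Fintype F] [DecidableEq F] [Fintype (Cfsg.IrrCharacter (GL (Fin 2) F))]
  [Fintype (MulChar F ℂ)] [Fintype (Cfsg.IrrCharacter (Matrix.SpecialLinearGroup (Fin 2) F))] in
/-- values of a multiplicative character of order two -/
theorem quad_mulChar [Fintype F] (l : MulChar F ℂ) (hl2 : l ^ 2 = 1) (hl1 : l ≠ 1) (a : F) (ha : a ≠ 0) :
    (IsSquare a → l a = 1) ∧ (¬ IsSquare a → l a = -1) := by
  have hsq : ∀ b : F, b ≠ 0 → l b * l b = 1 := by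
    intro b hb
    have : (l ^ 2) b = 1 := by
      rw [hl2]
      exact MulChar.one_apply (isUnit_iff_ne_zero.mpr hb)
    rw [pow_two, MulChar.mul_apply] at this
    exact this
  have hpm : ∀ b : F, b ≠ 0 → l b = 1 ∨ l b = -1 := by
    intro b hb
    have h := hsq b hb
    have : (l b - 1) * (l b + 1) = 0 := by linear_combination h
    rcases mul_eq_zero.mp this with h' | h'
    · left; linear_combination h'
    · right; linear_combination h'
  have hsquare : ∀ b : F, b ≠ 0 → IsSquare b → l b = 1 := by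
    rintro b hb ⟨c, rfl⟩
    have hc : c ≠ 0 := by
      intro h
      apply hb
      rw [h, mul_zero]
    rw [map_mul]
    exact hsq c hc
  constructor
  · exact hsquare a ha
  · intro hns
    obtain ⟨b, hb⟩ := MulChar.ne_one_iff.mp hl1
    have hb0 : (b : F) ≠ 0 := b.ne_zero
    have hbns : ¬ IsSquare (b : F) := fun h => hb (hsquare b hb0 h)
    have hbm : l b = -1 := by
      rcases hpm b hb0 with h | h
      · exact absurd h hb
      · exact h
    have hab := hsquare (a * b) (mul_ne_zero ha hb0) (isSquare_mul_of_not a b hns hbns)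
    rw [map_mul, hbm] at hab
    linear_combination -hab

/-- values of the characters of degree `(q + 1) / 2` on the split torus -/
theorem plus_value (hodd : Odd (Fintype.card F)) (ψ : S2 → ℂ) (hψ : Cfsg.IsIrrCharacter S2 ψ)
    (m : ℕ) (hm2 : 2 ≤ m) (hm : Fintype.card F = 2 * m + 1) (hdeg : ψ 1 = ((m + 1 : ℕ) : ℂ))
    (g : S2) (h01 : (g : M2) 0 1 = 0) (h10 : (g : M2) 1 0 = 0) (hne : (g : M2) 0 0 ^ 2 ≠ 1) :
    (IsSquare ((g : M2) 0 0) → ψ g = 1) ∧ (¬ IsSquare ((g : M2) 0 0) → ψ g = -1) := by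
  obtain ⟨α, β, h, hl, hval⟩ := above_plus hodd ψ hψ m hm2 hm hdeg
  have hdet := sl2_det g
  rw [h01, zero_mul, sub_zero] at hdet
  set a := (g : M2) 0 0 with ha
  set b := (g : M2) 1 1 with hb
  have ha0 : a ≠ 0 := by
    intro h0
    rw [h0, zero_mul] at hdet
    exact zero_ne_one hdet
  have hab : a ≠ b := by
    intro h'
    apply hne
    rw [pow_two]
    nth_rewrite 2 [h']
    exact hdet
  have hns : ¬ IsScalar2 (g : M2) := fun h' => hab h'.2.2
  have htr : (g : M2).trace * (g : M2).trace ≠ 4 := by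
    rw [Matrix.trace_fin_two, ← ha, ← hb]
    intro h'
    apply hab
    have : (a - b) * (a - b) = 0 := by linear_combination h' - 4 * hdet
    have := mul_self_eq_zero.mp this
    exact sub_eq_zero.mp this
  have hv := hval g hns htr
  rw [glR_diag α β (Matrix.SpecialLinearGroup.toGL g) h01 h10 hab] at hv
  change α a * β b + α b * β a = 2 * ψ g at hv
  have hα : α a * α b = 1 := by rw [← map_mul, hdet, map_one]
  have hβ : β a * β b = 1 := by rw [← map_mul, hdet, map_one]
  set l := α⁻¹ * β with hldef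
  have hl1 : l ≠ 1 := by
    intro h'
    apply h
    have : α * l = α * 1 := by rw [h']
    rw [hldef, ← mul_assoc, mul_inv_cancel, one_mul, mul_one] at this
    exact this.symm
  have hla : l a = α b * β a := by
    rw [hldef, MulChar.mul_apply, MulChar.inv_apply_eq_inv']
    have hαa : α a ≠ 0 := by
      intro h0
      rw [h0, zero_mul] at hα
      exact zero_ne_one hα
    field_simp
    linear_combination (-(β a)) * hα
  have hla2 : l a * l a = 1 := by
    have : (l ^ 2) a = 1 := by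
      rw [hl]
      exact MulChar.one_apply (isUnit_iff_ne_zero.mpr ha0)
    rw [pow_two, MulChar.mul_apply] at this
    exact this
  have hψg : ψ g = l a := by
    rw [hla]
    have e : α a * β b = α b * β a := by
      have h1 : (α a * β b) * (α b * β a) = 1 := by
        linear_combination (β a * β b) * hα + hβ
      rw [hla] at hla2
      have hne0 : α b * β a ≠ 0 := by
        intro h0
        rw [h0, mul_zero] at hla2
        exact zero_ne_one hla2
      have : (α a * β b - α b * β a) * (α b * β a) = 0 := by linear_combination h1 - hla2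
      rcases mul_eq_zero.mp this with h' | h'
      · exact sub_eq_zero.mp h'
      · exact absurd h' hne0
    rw [e] at hv
    linear_combination (-1 / 2 : ℂ) * hv
  rw [hψg]
  exact quad_mulChar l hl hl1 a ha0

omit [Fintype (Cfsg.IrrCharacter (GL (Fin 2) F))] [Fintype (MulChar F ℂ)]
  [Fintype (Cfsg.IrrCharacter (Matrix.SpecialLinearGroup (Fin 2) F))] in
/-- sum of a function concentrated on two different points -/
theorem sum_two_points {α : Type*} [Fintype α] (P : α → Prop) (a b : α) (hab : a ≠ b)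
    (hP : ∀ x, P x ↔ x = a ∨ x = b) (f : α → ℂ) :
    ∑ x : α, (if P x then f x else 0) = f a + f b := by
  rw [← Finset.sum_filter]
  have : Finset.univ.filter (fun x : α => P x) = {a, b} := by
    ext x
    simp only [Finset.mem_filter, Finset.mem_univ, true_and, Finset.mem_insert,
      Finset.mem_singleton]
    exact hP x
  rw [this, Finset.sum_pair hab]

omit [Fintype F] [DecidableEq F] [Fintype (Cfsg.IrrCharacter (GL (Fin 2) F))] [Fintype (MulChar F ℂ)]
  [Fintype (Cfsg.IrrCharacter (Matrix.SpecialLinearGroup (Fin 2) F))] in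
/-- a non-trivial irreducible character has sum zero -/
theorem sum_irr_eq_zero {G : Type*} [Group G] [Fintype G] (ψ : G → ℂ)
    (hψ : Cfsg.IsIrrCharacter G ψ) (h1 : ψ 1 ≠ 1) : ∑ s : G, ψ s = 0 := by
  have h := irr_classInner (⟨ψ, hψ⟩ : Cfsg.IrrCharacter G) (trivIrr G)
  rw [if_neg] at h
  · unfold Cfsg.classInner at h
    have hG : (Nat.card G : ℂ) ≠ 0 := by exact_mod_cast Nat.card_pos.ne'
    rcases mul_eq_zero.mp h with h' | h'
    · exact absurd (inv_eq_zero.mp h') hG
    · rw [← h']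
      apply Finset.sum_congr rfl
      intro s _
      simp
  · intro e
    apply h1
    have := congrArg (fun χ : Cfsg.IrrCharacter G => (χ : G → ℂ) 1) e
    simpa using this

omit [Fintype (Cfsg.IrrCharacter (GL (Fin 2) F))] [Fintype (MulChar F ℂ)]
  [Fintype (Cfsg.IrrCharacter (Matrix.SpecialLinearGroup (Fin 2) F))] [DecidableEq F] [Fintype F] in
theorem trace_neg_one_sl : ((-1 : S2) : M2).trace = -2 := by
  rw [Matrix.SpecialLinearGroup.coe_neg, Matrix.SpecialLinearGroup.coe_one, Matrix.trace_neg,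
    Matrix.trace_one, Fintype.card_fin]
  norm_num

omit [Fintype (Cfsg.IrrCharacter (GL (Fin 2) F))] [Fintype (MulChar F ℂ)]
  [Fintype (Cfsg.IrrCharacter (Matrix.SpecialLinearGroup (Fin 2) F))] [DecidableEq F] [Fintype F] in
theorem trace_one_sl : ((1 : S2) : M2).trace = 2 := by
  rw [Matrix.SpecialLinearGroup.coe_one, Matrix.trace_one, Fintype.card_fin]
  norm_num

/-- the sum over `SL₂` of the restriction of a character of degree `q - 1`, by type -/
theorem cusp_sum_by_type (hodd : Odd (Fintype.card F)) (η : Irr2) (hη : η ∈ glPsi (F := F))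
    (c : ℂ) (hcs : ∀ s : S2, resS (η : G2 → ℂ) (-s) = c * resS (η : G2 → ℂ) s) :
    ∑ s : S2, resS (η : G2 → ℂ) s =
      (1 + c) * (((Fintype.card F : ℂ) - 1) - ((Fintype.card F : ℂ) ^ 2 - 1)) +
        ∑ s : S2, (if NSp s then resS (η : G2 → ℂ) s else 0) := by
  have h2 := two_ne_zero_of_odd_card hodd
  have h4 : (2 : F) ≠ -2 := by
    intro h
    apply h2
    have : (2 : F) * 2 = 0 := by linear_combination h
    rcases mul_eq_zero.mp this with h' | h' <;> exact h'
  have hE1 : resS (η : G2 → ℂ) 1 = (Fintype.card F : ℂ) - 1 := by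
    rw [resS_one]
    exact (glPsi_values η hη).1
  have h := sum_by_type hodd (fun s : S2 => resS (η : G2 → ℂ) s)
  have hsplit : ∑ s : S2, (if (s : M2).trace ≠ 2 ∧ (s : M2).trace ≠ -2 ∧ ¬ NSp s then
      resS (η : G2 → ℂ) s else 0) = 0 := by
    apply Finset.sum_eq_zero
    intro s _
    split_ifs with h'
    · exact cusp_split η hη s h'.1 h'.2.1 h'.2.2
    · rfl
  rw [sum_trace_const2 1 (by ring) _ ((Fintype.card F : ℂ) - 1) (-1) ?_ ?_,
    sum_trace_const2 (-1) (by ring) _ (c * ((Fintype.card F : ℂ) - 1)) (-c) ?_ ?_, hsplit] at h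
  · rw [h]
    ring
  · intro s hs htr
    rcases scalar_sl2 s hs with h' | h'
    · exfalso
      rw [h', trace_one_sl] at htr
      apply h4
      linear_combination htr
    · rw [h', hcs 1, hE1]
  · intro s hs htr
    have hns : ¬ IsScalar2 ((-s : S2) : M2) := by
      intro h'
      apply hs
      have := isScalar2_neg (-s) h'
      rwa [neg_neg] at this
    have e : resS (η : G2 → ℂ) s = c * resS (η : G2 → ℂ) (-s) := by
      rw [← hcs (-s), neg_neg]
    rw [e, cusp_trace_two η hη (-s) hns (by rw [trace_neg_sl, htr]; ring)]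
    ring
  · intro s hs htr
    rcases scalar_sl2 s hs with h' | h'
    · rw [h', hE1]
    · exfalso
      rw [h', trace_neg_one_sl] at htr
      apply h4
      linear_combination -htr
  · intro s hs htr
    exact cusp_trace_two η hη s hs (by rw [htr]; ring)

/-- values of the characters of degree `(q - 1) / 2` on the elements without eigenvalue -/
theorem minus_value (hodd : Odd (Fintype.card F)) (ψ : S2 → ℂ) (hψ : Cfsg.IsIrrCharacter S2 ψ)
    (m : ℕ) (hm2 : 2 ≤ m) (hm : Fintype.card F = 2 * m + 1) (hdeg : ψ 1 = (m : ℂ))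
    (g : S2) (hg : NSp g) :
    (g ^ (m + 1) = 1 → ψ g = -1) ∧ (g ^ (m + 1) ≠ 1 → ψ g = 1) := by
  obtain ⟨η, hη, ht, hval, ψ', hψ', hres, hdeg'⟩ := above_minus hodd ψ hψ m hm2 hm hdeg
  have h2 := two_ne_zero_of_odd_card hodd
  have hgns := Cfsg.Agent.Lib.helper15.nonscalar_of_nonsplit g hg
  set C := Subgroup.centralizer ({g} : Set S2) with hC
  haveI : Fintype ↥C := Fintype.ofFinite _
  letI : CommGroup ↥C :=
    { (inferInstance : Group ↥C) with
      mul_comm := fun a b =>
        Subtype.ext (Cfsg.Agent.Lib.helper15.centralizer_comm g hgns a b a.2 b.2) }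
  haveI : IsCyclic ↥C :=
    Cfsg.Agent.Lib.helper15.isCyclic_centralizer g hgns (fun c hc => absurd hc (hg c))
  have hcardC : Fintype.card ↥C = 2 * (m + 1) := by
    rw [← Nat.card_eq_fintype_card, card_centralizer_nsp hodd g hg, hm]
    ring
  have hqC : (Fintype.card F : ℂ) = 2 * (m : ℂ) + 1 := by
    rw [hm]
    push_cast
    ring
  have hm0 : (m : ℂ) ≠ 0 := by
    have : m ≠ 0 := by omega
    exact_mod_cast this
  have h2m1 : (2 * (m : ℂ) + 1) ≠ 0 := by
    have : 2 * m + 1 ≠ 0 := by omega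
    exact_mod_cast this
  -- the central sign
  obtain ⟨ω, hω, hω1⟩ := sl_central_sign ψ hψ
  have hωsq : ω * ω = 1 := by
    have h1 := hω (-1)
    rw [neg_neg, hω 1, hdeg] at h1
    have : (m : ℂ) * (ω * ω - 1) = 0 := by linear_combination -h1
    rcases mul_eq_zero.mp this with h | h
    · exact absurd h hm0
    · linear_combination h
  have hωcases := sq_one_cases ω hωsq
  -- the scalar elements of the torus
  have hzC : (-1 : S2) ∈ C := by
    rw [hC, Subgroup.mem_centralizer_singleton_iff, neg_one_mul, mul_neg_one]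
  set z : ↥C := ⟨-1, hzC⟩ with hz
  have hz1 : z ≠ 1 := by
    intro h
    have h' : (-1 : S2) = 1 := congrArg Subtype.val h
    have h'' := congrArg (fun s : S2 => (s : M2) 0 0) h'
    simp only [Matrix.SpecialLinearGroup.coe_neg, Matrix.SpecialLinearGroup.coe_one,
      Matrix.neg_apply, Matrix.one_apply_eq] at h''
    apply h2
    linear_combination -h''
  have hz2 : z * z = 1 := by
    apply Subtype.ext
    show (-1 : S2) * (-1) = 1
    rw [neg_one_mul, neg_neg]
  have hscal : ∀ x : ↥C, IsScalar2 ((x : S2) : M2) ↔ x = 1 ∨ x = z := by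
    intro x
    constructor
    · intro h
      rcases scalar_sl2 (x : S2) h with h' | h'
      · left; exact Subtype.ext h'
      · right; exact Subtype.ext h'
    · rintro (h | h)
      · rw [h]
        show IsScalar2 ((1 : S2) : M2)
        rw [Matrix.SpecialLinearGroup.coe_one]
        refine ⟨?_, ?_, ?_⟩ <;> simp
      · rw [h]
        show IsScalar2 ((-1 : S2) : M2)
        rw [Matrix.SpecialLinearGroup.coe_neg, Matrix.SpecialLinearGroup.coe_one]
        refine ⟨?_, ?_, ?_⟩ <;> simp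
  have hnsp : ∀ x : ↥C, ¬ IsScalar2 ((x : S2) : M2) → NSp (x : S2) :=
    fun x hx => nsp_of_mem_centralizer g hg x x.2 hx
  have hreg : ∀ x : ↥C, ¬ IsScalar2 ((x : S2) : M2) →
      resS (η : G2 → ℂ) (x : S2) = 2 * ψ (x : S2) := by
    intro x hx
    apply hval x hx
    rw [← pow_two]
    exact nst_sq_ne h2 _ (hnsp x hx)
  have hEcl : ∀ a b : S2, resS (η : G2 → ℂ) (b * a * b⁻¹) = resS (η : G2 → ℂ) a :=
    isCharacter_isClassFunction (isCharacter_resS η)
  have hψcl : ∀ a b : S2, ψ (b * a * b⁻¹) = ψ a :=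
    isCharacter_isClassFunction (isCharacter_of_irr ⟨ψ, hψ⟩)
  -- the norm of the restriction to the torus
  have hsumψ : ∑ x : ↥C, (if IsScalar2 ((x : S2) : M2) then 0 else ψ x * conj (ψ x)) =
      2 * (m : ℂ) := by
    have hsumE := sum_nsp_eq (fun s : S2 => resS (η : G2 → ℂ) s * conj (resS (η : G2 → ℂ) s))
      (fun a b => by simp only [hEcl]) hodd g hg
    rw [cusp_sum_nsp hodd η hη, ht] at hsumE
    have e : ∀ x : ↥C, (if IsScalar2 ((x : S2) : M2) then (0 : ℂ) else
        resS (η : G2 → ℂ) (x : S2) * conj (resS (η : G2 → ℂ) (x : S2))) =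
        4 * (if IsScalar2 ((x : S2) : M2) then 0 else ψ x * conj (ψ x)) := by
      intro x
      split_ifs with h
      · ring
      · rw [hreg x h, map_mul]
        simp only [map_ofNat]
        ring
    rw [Finset.sum_congr rfl (fun x _ => e x), ← Finset.mul_sum, hqC] at hsumE
    have hne : (2 * (m : ℂ) + 1) * (2 * (m : ℂ) + 1 - 1) * 4 ≠ 0 := by
      refine mul_ne_zero (mul_ne_zero h2m1 ?_) (by norm_num)
      intro h
      apply hm0
      linear_combination (1 / 2 : ℂ) * h
    apply mul_left_cancel₀ hne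
    push_cast at hsumE
    linear_combination -hsumE
  -- the restriction to the torus
  set ψC : ↥C → ℂ := fun x => ψ (x : S2) with hψC
  have hψCchar : Cfsg.IsCharacter ↥C ψC :=
    isCharacter_restrict (isCharacter_of_irr ⟨ψ, hψ⟩) C
  have hzmul : ∀ a : ↥C, ((z * a : ↥C) : S2) = -(a : S2) := by
    intro a
    show (-1 : S2) * (a : S2) = _
    rw [neg_one_mul]
  have hzψ : ∀ a : ↥C, ψC (z * a) = ω * ψC a := by
    intro a
    show ψ ((z * a : ↥C) : S2) = ω * ψ (a : S2)
    rw [hzmul, hω]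
  have hψz : ψ (-1) = ω * (m : ℂ) := by rw [hω 1, hdeg]
  have hnorm : Cfsg.classInner ψC ψC = ((m + 1 : ℕ) : ℂ) - 1 := by
    unfold Cfsg.classInner
    rw [Nat.card_eq_fintype_card, hcardC]
    have hsplit : ∀ x : ↥C, ψC x * conj (ψC x) =
        (if IsScalar2 ((x : S2) : M2) then ψC x * conj (ψC x) else 0) +
        (if IsScalar2 ((x : S2) : M2) then 0 else ψ x * conj (ψ x)) := by
      intro x
      split_ifs <;> simp [hψC]
    rw [Finset.sum_congr rfl (fun x _ => hsplit x), Finset.sum_add_distrib, hsumψ,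
      sum_two_points _ 1 z hz1.symm hscal]
    have key : ψC 1 * conj (ψC 1) + ψC z * conj (ψC z) + 2 * (m : ℂ) =
        2 * ((m : ℂ) + 1) * (m : ℂ) := by
      show ψ ((1 : ↥C) : S2) * conj (ψ ((1 : ↥C) : S2)) + ψ (-1) * conj (ψ (-1)) + 2 * (m : ℂ) = _
      rw [Subgroup.coe_one, hψz, hdeg, map_mul, Complex.conj_natCast]
      linear_combination ((m : ℂ) ^ 2) * hω1
    rw [key]
    have : ((m : ℂ) + 1) ≠ 0 := by exact_mod_cast (Nat.succ_ne_zero m)
    push_cast
    field_simp
    ring
  have hd : ψC 1 = ((m + 1 : ℕ) : ℂ) - 1 := by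
    show ψ ((1 : ↥C) : S2) = _
    rw [Subgroup.coe_one, hdeg]
    push_cast
    ring
  obtain ⟨θ, hθz, hθ⟩ :=
    ab_res_core z hz1 hz2 ω hωcases ψC hψCchar hzψ (m + 1) hcardC hd hnorm
  have hθ1 : (θ : ↥C → ℂ) 1 = 1 := irr_one_of_comm θ
  have hθmc : ∀ x : ↥C, (θ : ↥C → ℂ) x * conj ((θ : ↥C → ℂ) x) = 1 :=
    fun x => irr_linear_mul_conj θ hθ1 x
  have hψθ : ∀ x : ↥C, ¬ IsScalar2 ((x : S2) : M2) → ψ (x : S2) = -(θ : ↥C → ℂ) x := by
    intro x hx
    apply hθ x
    · intro h
      exact hx ((hscal x).mpr (Or.inl h))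
    · intro h
      exact hx ((hscal x).mpr (Or.inr h))
  have hreal : ∀ x : ↥C, ¬ IsScalar2 ((x : S2) : M2) →
      (θ : ↥C → ℂ) x = 1 ∨ (θ : ↥C → ℂ) x = -1 := by
    intro x hx
    have hxn := hnsp x hx
    have h1 : ψ ((x : S2)⁻¹) = ψ (x : S2) := by
      obtain ⟨y, hy⟩ := isConj_iff.mp (nsp_isConj_of_trace hodd (x : S2) (x : S2)⁻¹ hxn
        (Cfsg.Agent.Lib.helper15.inv_trace (x : S2)))
      rw [← hy, hψcl]
    have h2' : ψ ((x : S2)⁻¹) = conj (ψ (x : S2)) := irr_inv ⟨ψ, hψ⟩ (x : S2)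
    have h3 : conj ((θ : ↥C → ℂ) x) = (θ : ↥C → ℂ) x := by
      rw [h1, hψθ x hx, map_neg] at h2'
      linear_combination h2'
    have h4 := hθmc x
    rw [h3] at h4
    exact sq_one_cases _ h4
  have hall : ∀ x : ↥C, (θ : ↥C → ℂ) x = 1 ∨ (θ : ↥C → ℂ) x = -1 := by
    intro x
    by_cases hx : IsScalar2 ((x : S2) : M2)
    · rcases (hscal x).mp hx with h | h
      · left
        rw [h]
        exact hθ1
      · rw [h, hθz]
        exact hωcases
    · exact hreal x hx
  -- the element `g` of the torus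
  have hgC : g ∈ C := by
    rw [hC, Subgroup.mem_centralizer_singleton_iff]
  set gC : ↥C := ⟨g, hgC⟩ with hgCdef
  have hgCns : ¬ IsScalar2 ((gC : S2) : M2) := nsp_not_scalar g hg
  have hψg : ψ g = -(θ : ↥C → ℂ) gC := hψθ gC hgCns
  have hψg0 : ψ g ≠ 0 := by
    rw [hψg]
    rcases hall gC with h | h <;> rw [h] <;> norm_num
  -- the central sign of the character above
  obtain ⟨c, hc, hcs⟩ := resS_central η
  have hcω : c = ω := by
    have hnegC : ¬ IsScalar2 (((z * gC : ↥C) : S2) : M2) := by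
      rw [hzmul]
      intro h
      apply hgCns
      have := isScalar2_neg _ h
      rwa [neg_neg] at this
    have h2' := hreg (z * gC) hnegC
    rw [hzmul] at h2'
    have h3 := hreg gC hgCns
    change resS (η : G2 → ℂ) (-g) = 2 * ψ (-g) at h2'
    change resS (η : G2 → ℂ) g = 2 * ψ g at h3
    rw [hcs g, h3, hω] at h2'
    have : (c - ω) * (2 * ψ g) = 0 := by linear_combination h2'
    rcases mul_eq_zero.mp this with h | h
    · linear_combination h
    · exfalso
      rcases mul_eq_zero.mp h with h' | h'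
      · norm_num at h'
      · exact hψg0 h'
  -- the sum of `ψ` over the non-scalar elements of the torus
  have hT : ∑ x : ↥C, (if IsScalar2 ((x : S2) : M2) then 0 else ψ (x : S2)) = 1 + c := by
    have hS0 : ∑ s : S2, resS (η : G2 → ℂ) s = 0 := by
      rw [hres]
      have e1 : ∑ s : S2, ψ s = 0 := by
        apply sum_irr_eq_zero ψ hψ
        rw [hdeg]
        have : m ≠ 1 := by omega
        exact_mod_cast this
      have e2 : ∑ s : S2, ψ' s = 0 := by
        apply sum_irr_eq_zero ψ' hψ'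
        rw [hdeg']
        have : m ≠ 1 := by omega
        exact_mod_cast this
      simp only [Pi.add_apply]
      rw [Finset.sum_add_distrib, e1, e2, add_zero]
    have h1 := cusp_sum_by_type hodd η hη c hcs
    have h3 := sum_nsp_eq (fun s : S2 => resS (η : G2 → ℂ) s) hEcl hodd g hg
    have e : ∀ x : ↥C, (if IsScalar2 ((x : S2) : M2) then (0 : ℂ) else
        resS (η : G2 → ℂ) (x : S2)) =
        2 * (if IsScalar2 ((x : S2) : M2) then 0 else ψ (x : S2)) := by
      intro x
      split_ifs with h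
      · ring
      · rw [hreg x h]
    rw [Finset.sum_congr rfl (fun x _ => e x), ← Finset.mul_sum] at h3
    rw [hS0] at h1
    rw [hqC] at h1 h3
    have hne : (2 * (m : ℂ) + 1) * (2 * (m : ℂ) + 1 - 1) ≠ 0 := by
      refine mul_ne_zero h2m1 ?_
      intro h
      apply hm0
      linear_combination (1 / 2 : ℂ) * h
    apply mul_left_cancel₀ hne
    linear_combination (-1 / 2 : ℂ) * h3 - h1
  have hsum : ∑ x : ↥C, (θ : ↥C → ℂ) x = 0 := by
    have hsplit : ∀ x : ↥C, (θ : ↥C → ℂ) x =
        (if IsScalar2 ((x : S2) : M2) then (θ : ↥C → ℂ) x else 0) -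
        (if IsScalar2 ((x : S2) : M2) then 0 else ψ (x : S2)) := by
      intro x
      split_ifs with h
      · ring
      · rw [hψθ x h]
        ring
    rw [Finset.sum_congr rfl (fun x _ => hsplit x), Finset.sum_sub_distrib, hT,
      sum_two_points _ 1 z hz1.symm hscal, hθ1, hθz, hcω]
    ring
  have hquad := ab_quad_char (m + 1) hcardC θ hall hsum gC
  have hpow : gC ^ (m + 1) = 1 ↔ g ^ (m + 1) = 1 := by
    constructor
    · intro h
      exact congrArg Subtype.val h
    · intro h
      exact Subtype.ext h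
  constructor
  · intro h
    rw [hψg, hquad.mpr (hpow.mpr h)]
  · intro h
    rw [hψg]
    rcases hall gC with h' | h'
    · exact absurd (hpow.mp (hquad.mp h')) h
    · rw [h']
      ring

end Aux

/-- Let F be a finite field with q elements, q odd and q ≥ 5, and χ an irreducible complex character of SL₂ over F. If χ has degree (q + 1)/2, then at a diagonal element with entry a, a² ≠ 1, χ takes the value 1 when a is a square in F and −1 otherwise. If χ has degree (q − 1)/2, then at an element g with no eigenvector in F² (so g has order dividing q + 1), χ takes the value −1 when g raised to the power (q + 1)/2 is the identity and the value 1 otherwise. -/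
theorem result {F : Type*} [Field F] [Fintype F] (hodd : Odd (Fintype.card F)) (hq : 5 ≤ Fintype.card F)
    (χ : Matrix.SpecialLinearGroup (Fin 2) F → ℂ) (hχ : Cfsg.IsIrrCharacter (Matrix.SpecialLinearGroup (Fin 2) F) χ) (g : Matrix.SpecialLinearGroup (Fin 2) F) :
    (χ 1 = (((Fintype.card F + 1) / 2 : ℕ) : ℂ) → (g : Matrix (Fin 2) (Fin 2) F) 0 1 = 0 → (g : Matrix (Fin 2) (Fin 2) F) 1 0 = 0 → (g : Matrix (Fin 2) (Fin 2) F) 0 0 ^ 2 ≠ 1 →
      (IsSquare ((g : Matrix (Fin 2) (Fin 2) F) 0 0) → χ g = 1) ∧ (¬ IsSquare ((g : Matrix (Fin 2) (Fin 2) F) 0 0) → χ g = -1)) ∧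
    (χ 1 = (((Fintype.card F - 1) / 2 : ℕ) : ℂ) → (∀ (c : F) (v : Fin 2 → F), v ≠ 0 → (g : Matrix (Fin 2) (Fin 2) F).mulVec v ≠ c • v) →
      (((g ^ ((Fintype.card F + 1) / 2)) : Matrix (Fin 2) (Fin 2) F) = 1 → χ g = -1) ∧ (((g ^ ((Fintype.card F + 1) / 2)) : Matrix (Fin 2) (Fin 2) F) ≠ 1 → χ g = 1)) := by
  classical
  haveI : Fintype (Cfsg.IrrCharacter (GL (Fin 2) F)) := Fintype.ofFinite _
  haveI : Fintype (Cfsg.IrrCharacter (Matrix.SpecialLinearGroup (Fin 2) F)) := Fintype.ofFinite _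
  haveI : Fintype (MulChar F ℂ) := Fintype.ofFinite _
  obtain ⟨m, hm⟩ := hodd
  have hm2 : 2 ≤ m := by omega
  have hdp : (Fintype.card F + 1) / 2 = m + 1 := by omega
  have hdm : (Fintype.card F - 1) / 2 = m := by omega
  have hodd : Odd (Fintype.card F) := ⟨m, hm⟩
  rw [hdp, hdm]
  constructor
  · intro hdeg h01 h10 hne
    exact plus_value hodd χ hχ m hm2 hm hdeg g h01 h10 hne
  · intro hdeg hnoeig
    have hg : NSp g := Cfsg.Agent.Lib.helper15.nonsplit_of_no_eigenvector g hnoeig
    obtain ⟨h1, h2⟩ := minus_value hodd χ hχ m hm2 hm hdeg g hg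
    constructor
    · intro h
      apply h1
      apply Subtype.ext
      rw [Matrix.SpecialLinearGroup.coe_pow, h]
      rfl
    · intro h
      apply h2
      intro h'
      apply h
      rw [← Matrix.SpecialLinearGroup.coe_pow, h']
      rfl

end Cfsg.Agent.S2435
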