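import Cfsg.Statements.S2280

import Cfsg.Agent.Lib.Lead.SLn
set_option autoImplicit false
open Cfsg

namespace Cfsg.Agent.S2280


open Matrix

section inH

variable {F : Type*} [Field F] {n : ℕ}

def InH (H : Subgroup (Matrix.SpecialLinearGroup (Fin n) F)) (M : Matrix (Fin n) (Fin n) F) : Prop :=
  ∃ g : Matrix.SpecialLinearGroup (Fin n) F, g ∈ H ∧ (g : Matrix (Fin n) (Fin n) F) = M

variable {H : Subgroup (Matrix.SpecialLinearGroup (Fin n) F)}

theorem InH.mul {A B : Matrix (Fin n) (Fin n) F} (hA : InH H A) (hB : InH H B) :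
    InH H (A * B) := by
  obtain ⟨g, hg, rfl⟩ := hA
  obtain ⟨k, hk, rfl⟩ := hB
  exact ⟨g * k, H.mul_mem hg hk, Matrix.SpecialLinearGroup.coe_mul g k⟩

theorem InH.one : InH H (1 : Matrix (Fin n) (Fin n) F) :=
  ⟨1, H.one_mem, Matrix.SpecialLinearGroup.coe_one⟩

theorem InH.of_mul_eq_one {A B : Matrix (Fin n) (Fin n) F} (hA : InH H A) (h : A * B = 1) :
    InH H B := by
  obtain ⟨g, hg, rfl⟩ := hA
  refine ⟨g⁻¹, H.inv_mem hg, ?_⟩
  have h1 : ((g⁻¹ : Matrix.SpecialLinearGroup (Fin n) F) : Matrix (Fin n) (Fin n) F) *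
      (g : Matrix (Fin n) (Fin n) F) = 1 := by
    rw [← Matrix.SpecialLinearGroup.coe_mul, inv_mul_cancel, Matrix.SpecialLinearGroup.coe_one]
  calc ((g⁻¹ : Matrix.SpecialLinearGroup (Fin n) F) : Matrix (Fin n) (Fin n) F)
      = ((g⁻¹ : Matrix.SpecialLinearGroup (Fin n) F) : Matrix (Fin n) (Fin n) F) *
          ((g : Matrix (Fin n) (Fin n) F) * B) := by rw [h, Matrix.mul_one]
    _ = B := by rw [← Matrix.mul_assoc, h1, Matrix.one_mul]

theorem InH.conj {M X X' : Matrix (Fin n) (Fin n) F} (hM : InH H M) (hX : InH H X)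
    (h : M * X = X' * M) : InH H X' := by
  obtain ⟨g, hg, rfl⟩ := hM
  obtain ⟨x, hx, rfl⟩ := hX
  refine ⟨g * x * g⁻¹, H.mul_mem (H.mul_mem hg hx) (H.inv_mem hg), ?_⟩
  rw [Matrix.SpecialLinearGroup.coe_mul, Matrix.SpecialLinearGroup.coe_mul, h, Matrix.mul_assoc,
    ← Matrix.SpecialLinearGroup.coe_mul, mul_inv_cancel, Matrix.SpecialLinearGroup.coe_one, Matrix.mul_one]

theorem InH.conj' {M X X' : Matrix (Fin n) (Fin n) F} (hM : InH H M) (hX : InH H X)
    (h : X * M = M * X') : InH H X' := by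
  obtain ⟨g, hg, rfl⟩ := hM
  obtain ⟨x, hx, rfl⟩ := hX
  refine ⟨g⁻¹ * x * g, H.mul_mem (H.mul_mem (H.inv_mem hg) hx) hg, ?_⟩
  rw [Matrix.SpecialLinearGroup.coe_mul, Matrix.SpecialLinearGroup.coe_mul, Matrix.mul_assoc, h,
    ← Matrix.mul_assoc, ← Matrix.SpecialLinearGroup.coe_mul, inv_mul_cancel,
    Matrix.SpecialLinearGroup.coe_one, Matrix.one_mul]

theorem E_mul_E {i j : Fin n} (hij : i ≠ j) (c d : F) :
    (1 + single i j c) * (1 + single i j d) = (1 + single i j (c + d) : Matrix (Fin n) (Fin n) F) := by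
  rw [mul_add, add_mul, add_mul, Matrix.mul_one, Matrix.one_mul, Matrix.mul_one,
    single_mul_single_of_ne _ _ _ _ hij.symm, add_zero, single_add, add_assoc]

theorem E_zero (i j : Fin n) : (1 + single i j (0 : F) : Matrix (Fin n) (Fin n) F) = 1 := by
  rw [single_zero, add_zero]

theorem InH.E_neg {i j : Fin n} (hij : i ≠ j) {c : F} (h : InH H (1 + single i j c)) :
    InH H (1 + single i j (-c)) := by
  apply h.of_mul_eq_one
  rw [E_mul_E hij, add_neg_cancel, E_zero]

theorem InH.E_add {i j : Fin n} (hij : i ≠ j) {c d : F} (h : InH H (1 + single i j c))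
    (h' : InH H (1 + single i j d)) : InH H (1 + single i j (c + d)) := by
  rw [← E_mul_E hij]
  exact h.mul h'

theorem InH.E_zero' (i j : Fin n) : InH H (1 + single i j (0 : F)) := by
  rw [E_zero]
  exact InH.one

theorem inH_transvection {i j : Fin n} (hij : i ≠ j) (c : F) :
    InH H (1 + single i j c) ↔ Matrix.SpecialLinearGroup.transvection hij c ∈ H := by
  constructor
  · rintro ⟨g, hg, hgc⟩
    have : g = Matrix.SpecialLinearGroup.transvection hij c := Subtype.ext hgc
    rwa [← this]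
  · intro h
    exact ⟨_, h, rfl⟩

end inH

section actions

variable {F : Type*} [Field F] {n : ℕ}

theorem mul_single_two (M : Matrix (Fin n) (Fin n) F) (i i' j : Fin n) (c : F) (hne : i' ≠ i)
    (hM : ∀ a, a ≠ i → a ≠ i' → M a i = 0) :
    M * single i j c = single i j (M i i * c) + single i' j (M i' i * c) := by
  ext a b
  by_cases hb : b = j
  · subst hb
    rw [mul_single_apply_same, Matrix.add_apply, single_apply, single_apply]
    by_cases h1 : a = i
    · subst h1
      simp [hne]
    · by_cases h2 : a = i'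
      · subst h2
        simp [Ne.symm h1]
      · rw [hM a h1 h2]
        simp [Ne.symm h1, Ne.symm h2]
  · rw [mul_single_apply_of_ne _ _ _ _ _ hb, Matrix.add_apply, single_apply, single_apply]
    simp [Ne.symm hb]

theorem mul_single_one (M : Matrix (Fin n) (Fin n) F) (i j : Fin n) (c : F)
    (hM : ∀ a, a ≠ i → M a i = 0) :
    M * single i j c = single i j (M i i * c) := by
  ext a b
  by_cases hb : b = j
  · subst hb
    rw [mul_single_apply_same, single_apply]
    by_cases h1 : a = i
    · subst h1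
      simp
    · rw [hM a h1]
      simp [Ne.symm h1]
  · rw [mul_single_apply_of_ne _ _ _ _ _ hb, single_apply]
    simp [Ne.symm hb]

theorem single_mul_two (M : Matrix (Fin n) (Fin n) F) (i j j' : Fin n) (c : F) (hne : j' ≠ j)
    (hM : ∀ b, b ≠ j → b ≠ j' → M j b = 0) :
    single i j c * M = single i j (c * M j j) + single i j' (c * M j j') := by
  ext a b
  by_cases ha : a = i
  · subst ha
    rw [single_mul_apply_same, Matrix.add_apply, single_apply, single_apply]
    by_cases h1 : b = j
    · subst h1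
      simp [hne]
    · by_cases h2 : b = j'
      · subst h2
        simp [Ne.symm h1]
      · rw [hM b h1 h2]
        simp [Ne.symm h1, Ne.symm h2]
  · rw [single_mul_apply_of_ne _ _ _ _ _ ha, Matrix.add_apply, single_apply, single_apply]
    simp [Ne.symm ha]

theorem single_mul_one (M : Matrix (Fin n) (Fin n) F) (i j : Fin n) (c : F)
    (hM : ∀ b, b ≠ j → M j b = 0) :
    single i j c * M = single i j (c * M j j) := by
  ext a b
  by_cases ha : a = i
  · subst ha
    rw [single_mul_apply_same, single_apply]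
    by_cases h1 : b = j
    · subst h1
      simp
    · rw [hM b h1]
      simp [Ne.symm h1]
  · rw [single_mul_apply_of_ne _ _ _ _ _ ha, single_apply]
    simp [Ne.symm ha]

end actions

section mats

variable {F : Type*} [Field F] (n : ℕ)

def umat (δ : F) : Matrix (Fin n) (Fin n) F :=
  Matrix.of fun a b => if a = b then 1 else if a.val + 1 = b.val then
    (if b.val + 1 = n then δ else 1) else 0

def lmat (m : ℕ) : Matrix (Fin n) (Fin n) F :=
  Matrix.of fun a b => if a = b then 1 else if a.val = b.val + 1 ∧ b.val < m then 1 else 0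

def linv : Matrix (Fin n) (Fin n) F :=
  Matrix.of fun a b => if b.val ≤ a.val then (-1) ^ (a.val - b.val) else 0

variable {n}

theorem umat_self (δ : F) (a : Fin n) : umat n δ a a = 1 := by
  simp [umat]

theorem umat_succ (δ : F) (a b : Fin n) (h : a.val + 1 = b.val) :
    umat n δ a b = if b.val + 1 = n then δ else 1 := by
  have hab : a ≠ b := by
    intro h1
    rw [h1] at h
    omega
  simp [umat, hab, h]

theorem umat_zero (δ : F) (a b : Fin n) (h1 : a ≠ b) (h2 : a.val + 1 ≠ b.val) :
    umat n δ a b = 0 := by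
  simp [umat, h1, h2]

theorem lmat_self (m : ℕ) (a : Fin n) : lmat (F := F) n m a a = 1 := by
  simp [lmat]

theorem lmat_succ (m : ℕ) (a b : Fin n) (h : a.val = b.val + 1) (hm : b.val < m) :
    lmat (F := F) n m a b = 1 := by
  have hab : a ≠ b := by
    intro h1
    rw [h1] at h
    omega
  simp [lmat, hab, h, hm]

theorem lmat_zero (m : ℕ) (a b : Fin n) (h1 : a ≠ b) (h2 : ¬ (a.val = b.val + 1 ∧ b.val < m)) :
    lmat (F := F) n m a b = 0 := by
  simp only [lmat, Matrix.of_apply, if_neg h1, if_neg h2]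

theorem umat_mul_single_first (δ : F) (i j : Fin n) (c : F) (hi : i.val = 0) :
    umat n δ * single i j c = single i j c := by
  rw [mul_single_one _ _ _ _ (fun a ha => umat_zero δ a i ha (by omega)), umat_self, one_mul]

theorem umat_mul_single_succ (δ : F) (i' i j : Fin n) (c : F) (h : i'.val + 1 = i.val) :
    umat n δ * single i j c = single i j c + single i' j (umat n δ i' i * c) := by
  have hne : i' ≠ i := by
    intro h1
    rw [h1] at h
    omega
  rw [mul_single_two _ i i' j c hne (fun a ha ha' => umat_zero δ a i ha (by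
    intro h2
    apply ha'
    apply Fin.ext
    omega)), umat_self, one_mul]

theorem single_mul_umat_succ (δ : F) (i j j' : Fin n) (c : F) (h : j.val + 1 = j'.val) :
    single i j c * umat n δ = single i j c + single i j' (c * umat n δ j j') := by
  have hne : j' ≠ j := by
    intro h1
    rw [h1] at h
    omega
  rw [single_mul_two _ i j j' c hne (fun b hb hb' => umat_zero δ j b (Ne.symm hb) (by
    intro h2
    apply hb'
    apply Fin.ext
    omega)), umat_self, mul_one]

theorem single_mul_umat_last (δ : F) (i j : Fin n) (c : F) (h : j.val + 1 = n) :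
    single i j c * umat n δ = single i j c := by
  rw [single_mul_one _ _ _ _ (fun b hb => umat_zero δ j b (Ne.symm hb) (by
    have := b.2
    omega)), umat_self, mul_one]

theorem lmat_mul_single_succ (m : ℕ) (i i' j : Fin n) (c : F) (h : i'.val = i.val + 1)
    (hm : i.val < m) :
    lmat n m * single i j c = single i j c + single i' j c := by
  have hne : i' ≠ i := by
    intro h1
    rw [h1] at h
    omega
  rw [mul_single_two _ i i' j c hne (fun a ha ha' => lmat_zero m a i ha (by
    rintro ⟨h2, -⟩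
    apply ha'
    apply Fin.ext
    omega)), lmat_self, one_mul, lmat_succ m i' i h hm, one_mul]

theorem lmat_mul_single_stop (m : ℕ) (i j : Fin n) (c : F)
    (h : i.val + 1 < n → ¬ i.val < m) :
    lmat n m * single i j c = single i j c := by
  rw [mul_single_one _ _ _ _ (fun a ha => lmat_zero m a i ha (by
    rintro ⟨h2, h3⟩
    have := a.2
    exact h (by omega) h3)), lmat_self, one_mul]

theorem single_mul_lmat_pred (m : ℕ) (i j j' : Fin n) (c : F) (h : j.val = j'.val + 1)
    (hm : j'.val < m) :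
    single i j c * lmat n m = single i j c + single i j' c := by
  have hne : j' ≠ j := by
    intro h1
    rw [h1] at h
    omega
  rw [single_mul_two _ i j j' c hne (fun b hb hb' => lmat_zero m j b (Ne.symm hb) (by
    rintro ⟨h2, -⟩
    apply hb'
    apply Fin.ext
    omega)), lmat_self, mul_one, lmat_succ m j j' h hm, mul_one]

theorem single_mul_lmat_stop (m : ℕ) (i j : Fin n) (c : F)
    (h : ∀ j' : Fin n, j.val = j'.val + 1 → ¬ j'.val < m) :
    single i j c * lmat n m = single i j c := by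
  rw [single_mul_one _ _ _ _ (fun b hb => lmat_zero m j b (Ne.symm hb) (by
    rintro ⟨h2, h3⟩
    exact h b h2 h3)), lmat_self, mul_one]

end mats

section linvsec

variable {F : Type*} [Field F] {n : ℕ}

def predFin (a : Fin n) : Fin n := ⟨a.val - 1, lt_of_le_of_lt (Nat.sub_le _ _) a.isLt⟩

theorem predFin_val (a : Fin n) : (predFin a).val = a.val - 1 := rfl

theorem lmat_full_mul_apply (X : Matrix (Fin n) (Fin n) F) (a b : Fin n) :
    (lmat (F := F) n n * X) a b = X a b + (if 0 < a.val then X (predFin a) b else 0) := by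
  rw [Matrix.mul_apply]
  by_cases h : 0 < a.val
  · rw [if_pos h]
    have hne : a ≠ predFin a := by
      intro h1
      have := congrArg Fin.val h1
      rw [predFin_val] at this
      omega
    rw [Finset.sum_eq_add a (predFin a) hne]
    · rw [lmat_self, one_mul, lmat_succ n a (predFin a) (by rw [predFin_val]; omega)
        (by rw [predFin_val]; have := a.isLt; omega), one_mul]
    · intro c _ hc
      rw [lmat_zero n a c (Ne.symm hc.1), zero_mul]
      rintro ⟨h2, -⟩
      apply hc.2
      apply Fin.ext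
      rw [predFin_val]
      omega
    · intro h1
      exact absurd (Finset.mem_univ _) h1
    · intro h1
      exact absurd (Finset.mem_univ _) h1
  · rw [if_neg h, add_zero, Finset.sum_eq_single a]
    · rw [lmat_self, one_mul]
    · intro c _ hc
      rw [lmat_zero n a c (Ne.symm hc), zero_mul]
      rintro ⟨h2, -⟩
      omega
    · intro h1
      exact absurd (Finset.mem_univ _) h1

theorem lmat_mul_linv : lmat (F := F) n n * linv n = 1 := by
  ext a b
  rw [lmat_full_mul_apply, Matrix.one_apply]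
  simp only [linv, Matrix.of_apply]
  rw [predFin_val]
  by_cases hab : a = b
  · subst hab
    rw [if_pos rfl, if_pos le_rfl, Nat.sub_self, pow_zero]
    by_cases h : 0 < a.val
    · rw [if_pos h, if_neg (by omega), add_zero]
    · rw [if_neg h, add_zero]
  · rw [if_neg hab]
    have hv : a.val ≠ b.val := fun h => hab (Fin.ext h)
    by_cases h1 : b.val ≤ a.val
    · have h2 : 0 < a.val := by omega
      rw [if_pos h1, if_pos h2, if_pos (by omega)]
      have h3 : a.val - b.val = (a.val - 1 - b.val) + 1 := by omega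
      rw [h3, pow_succ]
      ring
    · rw [if_neg h1]
      by_cases h2 : 0 < a.val
      · rw [if_pos h2, if_neg (by omega), add_zero]
      · rw [if_neg h2, add_zero]

end linvsec

section deriv

variable {F : Type*} [Field F] {n : ℕ} {H : Subgroup (Matrix.SpecialLinearGroup (Fin n) F)}
  {δ : F}

theorem umat_cases (hδ : δ = 1 ∨ δ = -1) (a b : Fin n) (h : a.val + 1 = b.val) :
    umat n δ a b = 1 ∨ umat n δ a b = -1 := by
  rw [umat_succ δ a b h]
  by_cases h1 : b.val + 1 = n
  · rw [if_pos h1]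
    exact hδ
  · rw [if_neg h1]
    exact Or.inl rfl

theorem InH.of_mul_umat (hδ : δ = 1 ∨ δ = -1) {i j : Fin n} (hij : i ≠ j) (a b : Fin n)
    (h : a.val + 1 = b.val) {c : F} (hc : InH H (1 + single i j (c * umat n δ a b))) :
    InH H (1 + single i j c) := by
  rcases umat_cases hδ a b h with h1 | h1
  · rwa [h1, mul_one] at hc
  · rw [h1, mul_neg, mul_one] at hc
    have := hc.E_neg hij
    rwa [neg_neg] at this

theorem InH.mul_umat (hδ : δ = 1 ∨ δ = -1) {i j : Fin n} (hij : i ≠ j) (a b : Fin n)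
    (h : a.val + 1 = b.val) {c : F} (hc : InH H (1 + single i j c)) :
    InH H (1 + single i j (c * umat n δ a b)) := by
  rcases umat_cases hδ a b h with h1 | h1
  · rwa [h1, mul_one]
  · rw [h1, mul_neg, mul_one]
    exact hc.E_neg hij

theorem row0_step (hδ : δ = 1 ∨ δ = -1) (hu : InH H (umat n δ)) (i0 j j' : Fin n)
    (h0 : i0.val = 0) (hj : 1 ≤ j.val) (hj' : j.val + 1 = j'.val) (t : F)
    (hX : InH H (1 + single i0 j t)) : InH H (1 + single i0 j' t) := by
  have h0j : i0 ≠ j := by
    intro h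
    rw [h] at h0
    omega
  have h0j' : i0 ≠ j' := by
    intro h
    rw [h] at h0
    omega
  have hjj' : j ≠ j' := by
    intro h
    rw [h] at hj'
    omega
  have h1 : InH H (1 + (single i0 j t + single i0 j' (t * umat n δ j j'))) := by
    refine hu.conj' hX ?_
    rw [add_mul, Matrix.one_mul, single_mul_umat_succ δ i0 j j' t hj', mul_add, Matrix.mul_one,
      mul_add, umat_mul_single_first δ i0 j t h0, umat_mul_single_first δ i0 j' _ h0]
  have h2 : (1 + single i0 j (-t)) * (1 + (single i0 j t + single i0 j' (t * umat n δ j j'))) =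
      (1 + single i0 j' (t * umat n δ j j') : Matrix (Fin n) (Fin n) F) := by
    rw [add_mul, Matrix.one_mul, mul_add, Matrix.mul_one, mul_add,
      single_mul_single_of_ne _ _ _ _ (Ne.symm h0j), single_mul_single_of_ne _ _ _ _ (Ne.symm h0j),
      ← single_neg]
    abel
  have h3 := (hX.E_neg h0j).mul h1
  rw [h2] at h3
  exact h3.of_mul_umat hδ h0j' j j' hj'

theorem row0 (hδ : δ = 1 ∨ δ = -1) (hu : InH H (umat n δ)) (i0 i2 : Fin n)
    (h0 : i0.val = 0) (h2 : i2.val = 2) (t : F) (hz : InH H (1 + single i0 i2 t)) :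
    ∀ (k : ℕ) (j : Fin n), j.val = k + 2 → InH H (1 + single i0 j t) := by
  intro k
  induction k with
  | zero =>
    intro j hj
    have : j = i2 := Fin.ext (by omega)
    rw [this]
    exact hz
  | succ k ih =>
    intro j hj
    have hlt : k + 2 < n := by
      have := j.isLt
      omega
    exact row0_step hδ hu i0 ⟨k + 2, hlt⟩ j h0 (by simp) (by simp; omega) t (ih ⟨k + 2, hlt⟩ rfl)

end deriv

section pairsec

variable {F : Type*} [Field F] {n : ℕ} {H : Subgroup (Matrix.SpecialLinearGroup (Fin n) F)}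

theorem ring_comm_lemma {R : Type*} [Ring R] (x y : R) (hxx : x * x = 0) (hyy : y * y = 0)
    (hxy : x * y = 0) : (1 + x) * (1 + y) * (1 - x) * (1 - y) = 1 - y * x := by
  have h1 : (1 + x) * (1 + y) = 1 + x + y := by
    have : (1 + x) * (1 + y) = 1 + x + y + x * y := by noncomm_ring
    rw [this, hxy, add_zero]
  have h2 : (1 + x + y) * (1 - x) = 1 + y - y * x := by
    have : (1 + x + y) * (1 - x) = 1 + y - y * x - x * x := by noncomm_ring
    rw [this, hxx, sub_zero]
  have h3 : (1 + y - y * x) * (1 - y) = 1 - y * x := by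
    have : (1 + y - y * x) * (1 - y) = 1 - y * x - y * y + y * (x * y) := by noncomm_ring
    rw [this, hyy, hxy, mul_zero, sub_zero, add_zero]
  rw [h1, h2, h3]

theorem pair_raw (hL : InH H (lmat n n)) (i i1 j : Fin n) (hi1 : i1.val = i.val + 1)
    (hj : i.val + 2 ≤ j.val) (a b : F) (ha : InH H (1 + single i j a))
    (hb : InH H (1 + single i j b)) :
    InH H (1 - (single i j (b * (-1) ^ (j.val - i.val) * a) +
      single i1 j (b * (-1) ^ (j.val - i.val) * a))) := by
  have hij : i ≠ j := by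
    intro h
    rw [h] at hj
    omega
  obtain ⟨L, hLdef⟩ : ∃ L, L = lmat (F := F) n n := ⟨_, rfl⟩
  obtain ⟨Li, hLidef⟩ : ∃ Li, Li = linv (F := F) n := ⟨_, rfl⟩
  rw [← hLdef] at hL
  have hLLi : L * Li = 1 := by rw [hLdef, hLidef]; exact lmat_mul_linv
  have hLiL : Li * L = 1 := mul_eq_one_comm.mp hLLi
  obtain ⟨x, hx⟩ : ∃ x, x = single i j a := ⟨_, rfl⟩
  obtain ⟨y, hy⟩ : ∃ y, y = L * single i j b * Li := ⟨_, rfl⟩
  have hY : InH H (1 + y) := by
    refine hL.conj hb ?_
    rw [mul_add, Matrix.mul_one, add_mul, Matrix.one_mul, hy, Matrix.mul_assoc _ Li L, hLiL,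
      Matrix.mul_one]
  have hxx : x * x = 0 := by
    rw [hx]
    exact single_mul_single_of_ne _ _ _ _ (Ne.symm hij) _
  have hyy : y * y = 0 := by
    have h1 : y * y = L * (single i j b * (Li * L) * single i j b) * Li := by
      rw [hy]
      simp only [Matrix.mul_assoc]
    rw [h1, hLiL, Matrix.mul_one, single_mul_single_of_ne _ _ _ _ (Ne.symm hij), Matrix.mul_zero,
      Matrix.zero_mul]
  have hLji : L j i = 0 := by
    rw [hLdef]
    apply lmat_zero n j i (Ne.symm hij)
    rintro ⟨h1, -⟩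
    omega
  have hxy : x * y = 0 := by
    have h1 : x * y = single i j a * L * single i j b * Li := by
      rw [hx, hy]
      simp only [Matrix.mul_assoc]
    rw [h1, single_mul_mul_single, hLji, mul_zero, zero_mul, single_zero, Matrix.zero_mul]
  have hLiji : Li j i = (-1) ^ (j.val - i.val) := by
    rw [hLidef]
    simp only [linv, Matrix.of_apply]
    rw [if_pos (by omega)]
  have hyx : y * x = single i j (b * (-1) ^ (j.val - i.val) * a) +
      single i1 j (b * (-1) ^ (j.val - i.val) * a) := by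
    have h1 : y * x = L * (single i j b * Li * single i j a) := by
      rw [hx, hy]
      simp only [Matrix.mul_assoc]
    rw [h1, single_mul_mul_single, hLiji, hLdef,
      lmat_mul_single_succ n i i1 j _ hi1 (by have := i1.isLt; omega)]
  have hXm : InH H (1 - x) := by
    have := ha.E_neg hij
    rwa [← single_neg, ← sub_eq_add_neg, ← hx] at this
  have hYm : InH H (1 - y) := by
    apply hY.of_mul_eq_one
    have : (1 + y) * (1 - y) = 1 - y * y := by noncomm_ring
    rw [this, hyy, sub_zero]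
  have hX : InH H (1 + x) := by rw [hx]; exact ha
  have := ((hX.mul hY).mul hXm).mul hYm
  rwa [ring_comm_lemma x y hxx hyy hxy, hyx] at this

theorem pair (hL : InH H (lmat n n)) (i i1 j : Fin n) (hi1 : i1.val = i.val + 1)
    (hj : i.val + 2 ≤ j.val) (a b : F) (ha : InH H (1 + single i j a))
    (hb : InH H (1 + single i j b)) :
    InH H (1 + (single i j (a * b) + single i1 j (a * b))) := by
  have hij : i ≠ j := by
    intro h
    rw [h] at hj
    omega
  rcases neg_one_pow_eq_or F (j.val - i.val) with h1 | h1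
  · have := pair_raw hL i i1 j hi1 hj (-a) b (ha.E_neg hij) hb
    rw [h1] at this
    have e : b * 1 * -a = -(a * b) := by ring
    rw [e, ← single_neg, ← single_neg, ← neg_add, sub_neg_eq_add] at this
    exact this
  · have := pair_raw hL i i1 j hi1 hj a b ha hb
    rw [h1] at this
    have e : b * -1 * a = -(a * b) := by ring
    rw [e, ← single_neg, ← single_neg, ← neg_add, sub_neg_eq_add] at this
    exact this

end pairsec

section upper

variable {F : Type*} [Field F] {n : ℕ} {H : Subgroup (Matrix.SpecialLinearGroup (Fin n) F)}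
  {δ : F}

theorem strip_left {i j i' : Fin n} (hij : i ≠ j) (hji' : j ≠ i') (c d : F) :
    (1 + single i j (-c)) * (1 + (single i j c + single i' j d)) =
      (1 + single i' j d : Matrix (Fin n) (Fin n) F) := by
  rw [add_mul, Matrix.one_mul, mul_add, Matrix.mul_one, mul_add,
    single_mul_single_of_ne _ _ _ _ (Ne.symm hij), single_mul_single_of_ne _ _ _ _ hji',
    ← single_neg]
  abel

theorem strip_right {i j i' : Fin n} (hij' : j ≠ i') (c d : F) :
    (1 + (single i j c + single i' j d)) * (1 + single i' j (-d)) =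
      (1 + single i j c : Matrix (Fin n) (Fin n) F) := by
  rw [add_mul, Matrix.one_mul, mul_add, Matrix.mul_one, add_mul,
    single_mul_single_of_ne _ _ _ _ hij', single_mul_single_of_ne _ _ _ _ hij',
    ← single_neg]
  abel

theorem strip_right' {i j j' : Fin n} (hji : j ≠ i) (hj'i : j' ≠ i) (c d : F) :
    (1 + (single i j c + single i j' d)) * (1 + single i j' (-d)) =
      (1 + single i j c : Matrix (Fin n) (Fin n) F) := by
  rw [add_mul, Matrix.one_mul, mul_add, Matrix.mul_one, add_mul,
    single_mul_single_of_ne _ _ _ _ hji, single_mul_single_of_ne _ _ _ _ hj'i,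
    ← single_neg]
  abel

theorem umat01 (hn : 3 ≤ n) (i0 i1 : Fin n) (h0 : i0.val = 0) (h1 : i1.val = 1) :
    umat n δ i0 i1 = 1 := by
  rw [umat_succ δ i0 i1 (by omega), if_neg (by omega)]

theorem sep_step (hδ : δ = 1 ∨ δ = -1) (hn : 3 ≤ n) (hu : InH H (umat n δ)) (i0 i1 : Fin n)
    (h0 : i0.val = 0) (h1 : i1.val = 1) (c : F) (j : Fin n) (hj : 2 ≤ j.val)
    (hP : InH H (1 + (single i0 j c + single i1 j c)))
    (ih : ∀ j' : Fin n, j.val + 1 = j'.val → InH H (1 + single i1 j' c)) :
    InH H (1 + single i1 j c) := by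
  have h01 : i0.val + 1 = i1.val := by omega
  have hu01 : umat n δ i0 i1 = 1 := umat01 hn i0 i1 h0 h1
  by_cases hlast : j.val + 1 = n
  · refine hu.conj' hP ?_
    rw [add_mul, Matrix.one_mul, add_mul, single_mul_umat_last δ i0 j c hlast,
      single_mul_umat_last δ i1 j c hlast, mul_add, Matrix.mul_one,
      umat_mul_single_succ δ i0 i1 j c h01, hu01, one_mul]
    abel
  · have hlt : j.val + 1 < n := by
      have := j.isLt
      omega
    obtain ⟨j', hj'⟩ : ∃ j' : Fin n, j.val + 1 = j'.val := ⟨⟨j.val + 1, hlt⟩, rfl⟩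
    have h1j : j ≠ i1 := by
      intro h
      rw [h] at hj
      omega
    have h1j' : j' ≠ i1 := by
      intro h
      rw [h] at hj'
      omega
    have hP' : InH H (1 + (single i1 j c + single i1 j' (c * umat n δ j j'))) := by
      refine hu.conj' hP ?_
      rw [add_mul, Matrix.one_mul, add_mul, single_mul_umat_succ δ i0 j j' c hj',
        single_mul_umat_succ δ i1 j j' c hj', mul_add, Matrix.mul_one, mul_add,
        umat_mul_single_succ δ i0 i1 j c h01, umat_mul_single_succ δ i0 i1 j' _ h01, hu01,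
        one_mul, one_mul]
      abel
    have h2 := ((ih j' hj').mul_umat hδ (Ne.symm h1j') j j' hj').E_neg (Ne.symm h1j')
    have h3 := hP'.mul h2
    rwa [strip_right' h1j h1j'] at h3

theorem sep (hδ : δ = 1 ∨ δ = -1) (hn : 3 ≤ n) (hu : InH H (umat n δ)) (i0 i1 : Fin n)
    (h0 : i0.val = 0) (h1 : i1.val = 1) (c : F)
    (hP : ∀ j : Fin n, 2 ≤ j.val → InH H (1 + (single i0 j c + single i1 j c))) :
    ∀ (k : ℕ) (j : Fin n), j.val + k + 1 = n → 2 ≤ j.val → InH H (1 + single i1 j c) := by
  intro k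
  induction k with
  | zero =>
    intro j hjk hj
    exact sep_step hδ hn hu i0 i1 h0 h1 c j hj (hP j hj) (fun j' hj' => by
      have := j'.isLt
      omega)
  | succ k ih =>
    intro j hjk hj
    exact sep_step hδ hn hu i0 i1 h0 h1 c j hj (hP j hj) (fun j' hj' =>
      ih j' (by omega) (by omega))

theorem mulQ (hδ : δ = 1 ∨ δ = -1) (hn : 3 ≤ n) (hu : InH H (umat n δ)) (hL : InH H (lmat n n))
    (i0 i1 : Fin n) (h0 : i0.val = 0) (h1 : i1.val = 1) (a b : F)
    (Qa : ∀ j : Fin n, 2 ≤ j.val → InH H (1 + single i0 j a))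
    (Qb : ∀ j : Fin n, 2 ≤ j.val → InH H (1 + single i0 j b)) :
    (∀ j : Fin n, 2 ≤ j.val → InH H (1 + single i0 j (a * b))) ∧
      (∀ j : Fin n, 2 ≤ j.val → InH H (1 + single i1 j (a * b))) := by
  have hP : ∀ j : Fin n, 2 ≤ j.val →
      InH H (1 + (single i0 j (a * b) + single i1 j (a * b))) := fun j hj =>
    pair hL i0 i1 j (by omega) (by omega) a b (Qa j hj) (Qb j hj)
  have hQ1 : ∀ j : Fin n, 2 ≤ j.val → InH H (1 + single i1 j (a * b)) := by
    intro j hj
    have := j.isLt
    exact sep hδ hn hu i0 i1 h0 h1 (a * b) hP (n - 1 - j.val) j (by omega) hj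
  refine ⟨?_, hQ1⟩
  intro j hj
  have h1j : j ≠ i1 := by
    intro h
    rw [h] at hj
    omega
  have h3 := (hP j hj).mul ((hQ1 j hj).E_neg (Ne.symm h1j))
  rwa [strip_right h1j] at h3

theorem rows_step (hL : InH H (lmat n n)) (i i' : Fin n) (hi' : i'.val = i.val + 1)
    (R : ∀ j : Fin n, i.val < j.val → ∀ c : F, InH H (1 + single i j c)) :
    ∀ j : Fin n, i'.val < j.val → ∀ c : F, InH H (1 + single i' j c) := by
  intro j hj c
  have hij : i ≠ j := by
    intro h
    rw [h] at hi'
    omega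
  have hji' : j ≠ i' := by
    intro h
    rw [h] at hj
    omega
  have h1 := pair hL i i' j hi' (by omega) c 1 (R j (by omega) c) (R j (by omega) 1)
  rw [mul_one] at h1
  have h2 := ((R j (by omega) c).E_neg hij).mul h1
  rwa [strip_left hij hji'] at h2

theorem rows (hL : InH H (lmat n n)) (i1 : Fin n) (h1 : i1.val = 1)
    (R1 : ∀ j : Fin n, i1.val < j.val → ∀ c : F, InH H (1 + single i1 j c)) :
    ∀ (k : ℕ) (i : Fin n), i.val = k + 1 →
      ∀ j : Fin n, i.val < j.val → ∀ c : F, InH H (1 + single i j c) := by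
  intro k
  induction k with
  | zero =>
    intro i hi
    have : i = i1 := Fin.ext (by omega)
    rw [this]
    exact R1
  | succ k ih =>
    intro i hi
    have hlt : k + 1 < n := by
      have := i.isLt
      omega
    exact rows_step hL ⟨k + 1, hlt⟩ i (by simp; omega) (ih ⟨k + 1, hlt⟩ rfl)

end upper

section lowersec

variable {F : Type*} [Field F] {n : ℕ} {H : Subgroup (Matrix.SpecialLinearGroup (Fin n) F)}

theorem lmat_succ_eq (m : ℕ) (fm fm1 : Fin n) (hm : fm.val = m) (hm1 : fm1.val = m + 1) :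
    lmat (F := F) n (m + 1) = lmat n m * (1 + single fm1 fm 1) := by
  rw [mul_add, Matrix.mul_one, lmat_mul_single_stop m fm1 fm 1 (by intro _; omega)]
  ext a b
  rw [Matrix.add_apply, single_apply]
  by_cases hab : a = b
  · subst hab
    rw [lmat_self, lmat_self, if_neg (by
      rintro ⟨h1, h2⟩
      have := congrArg Fin.val (h1.trans h2.symm)
      omega), add_zero]
  · by_cases h1 : a.val = b.val + 1 ∧ b.val < m
    · rw [lmat_succ (m + 1) a b h1.1 (by omega), lmat_succ m a b h1.1 h1.2, if_neg (by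
        rintro ⟨-, h3⟩
        rw [← h3] at h1
        omega), add_zero]
    · by_cases h2 : fm1 = a ∧ fm = b
      · obtain ⟨h3, h4⟩ := h2
        subst h3 h4
        rw [lmat_succ (m + 1) fm1 fm (by omega) (by omega), lmat_zero m fm1 fm hab h1, if_pos ⟨rfl, rfl⟩,
          zero_add]
      · rw [lmat_zero m a b hab h1, if_neg h2, add_zero]
        apply lmat_zero (m + 1) a b hab
        rintro ⟨h3, h4⟩
        apply h2
        constructor
        · apply Fin.ext
          omega
        · apply Fin.ext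
          omega

theorem lmat_top (m : ℕ) (hm : n ≤ m + 1) : lmat (F := F) n m = lmat n n := by
  ext a b
  by_cases hab : a = b
  · subst hab
    rw [lmat_self, lmat_self]
  · by_cases h1 : a.val = b.val + 1
    · have := a.isLt
      rw [lmat_succ m a b h1 (by omega), lmat_succ n a b h1 (by omega)]
    · rw [lmat_zero m a b hab (fun h => h1 h.1), lmat_zero n a b hab (fun h => h1 h.1)]

theorem hlow_id {fm fm1 : Fin n} (hne : fm ≠ fm1) (c : F) :
    (1 + single fm fm1 (1 : F)) * (1 + ((single fm fm c + single fm fm1 c) -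
      (single fm1 fm c + single fm1 fm1 c))) = (1 + single fm1 fm (-c)) * (1 + single fm fm1 1) := by
  have e1 : single fm fm1 (1 : F) * single fm fm c = 0 :=
    single_mul_single_of_ne _ _ _ _ (Ne.symm hne) _
  have e2 : single fm fm1 (1 : F) * single fm fm1 c = 0 :=
    single_mul_single_of_ne _ _ _ _ (Ne.symm hne) _
  have e3 : single fm fm1 (1 : F) * single fm1 fm c = single fm fm c := by
    rw [single_mul_single_same, one_mul]
  have e4 : single fm fm1 (1 : F) * single fm1 fm1 c = single fm fm1 c := by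
    rw [single_mul_single_same, one_mul]
  have e5 : single fm1 fm (-c) * single fm fm1 (1 : F) = single fm1 fm1 (-c) := by
    rw [single_mul_single_same, mul_one]
  rw [add_mul, Matrix.one_mul, mul_add, Matrix.mul_one, mul_sub, mul_add, mul_add, e1, e2, e3, e4,
    add_mul, Matrix.one_mul, mul_add, Matrix.mul_one, e5, ← single_neg, ← single_neg]
  abel

theorem peel_step (m : ℕ) (fm fm1 : Fin n) (hm : fm.val = m) (hm1 : fm1.val = m + 1)
    (hΛ : InH H (lmat n (m + 1))) (hE : ∀ c : F, InH H (1 + single fm fm1 c)) :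
    InH H (lmat n m) ∧ ∀ c : F, InH H (1 + single fm1 fm c) := by
  have hne : fm ≠ fm1 := by
    intro h
    rw [h] at hm
    omega
  have hY : ∀ c : F, InH H (1 + ((single fm fm c + single fm fm1 c) -
      (single fm1 fm c + single fm1 fm1 c))) := by
    intro c
    refine hΛ.conj' (hE c) ?_
    rw [add_mul, Matrix.one_mul, single_mul_lmat_pred (m + 1) fm fm1 fm c (by omega) (by omega),
      mul_add, Matrix.mul_one, mul_sub, mul_add, mul_add,
      lmat_mul_single_succ (m + 1) fm fm1 fm c (by omega) (by omega),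
      lmat_mul_single_succ (m + 1) fm fm1 fm1 c (by omega) (by omega),
      lmat_mul_single_stop (m + 1) fm1 fm c (by intro _; omega),
      lmat_mul_single_stop (m + 1) fm1 fm1 c (by intro _; omega)]
    abel
  have hlow : ∀ c : F, InH H (1 + single fm1 fm c) := by
    intro c
    have h1 : InH H (1 + single fm1 fm (-(-c))) := by
      exact (hE 1).conj (hY (-c)) (hlow_id hne (-c))
    rwa [neg_neg] at h1
  refine ⟨?_, hlow⟩
  have h2 := hΛ.mul (hlow (-1))
  rwa [lmat_succ_eq m fm fm1 hm hm1, Matrix.mul_assoc, E_mul_E (Ne.symm hne), add_neg_cancel,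
    E_zero, Matrix.mul_one] at h2

theorem lower (m0 : ℕ) (hΛ : InH H (lmat n n))
    (hE : ∀ i i' : Fin n, i'.val = i.val + 1 → m0 ≤ i.val → ∀ c : F, InH H (1 + single i i' c)) :
    ∀ (k m : ℕ), m + k + 1 = n → m0 ≤ m → InH H (lmat n m) ∧
      ∀ i i' : Fin n, i'.val = i.val + 1 → m ≤ i.val → ∀ c : F, InH H (1 + single i' i c) := by
  intro k
  induction k with
  | zero =>
    intro m hm _
    refine ⟨?_, ?_⟩
    · rw [lmat_top m (by omega)]
      exact hΛ
    · intro i i' hi' hmi
      have := i'.isLt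
      omega
  | succ k ih =>
    intro m hm hm0
    obtain ⟨h1, h2⟩ := ih (m + 1) (by omega) (by omega)
    obtain ⟨h3, h4⟩ := peel_step m ⟨m, by omega⟩ ⟨m + 1, by omega⟩ rfl rfl h1
      (hE ⟨m, by omega⟩ ⟨m + 1, by omega⟩ rfl hm0)
    refine ⟨h3, ?_⟩
    intro i i' hi' hmi c
    by_cases hi : i.val = m
    · have e1 : i = ⟨m, by omega⟩ := Fin.ext hi
      have e2 : i' = ⟨m + 1, by omega⟩ := Fin.ext (by simp; omega)
      have h5 := h4 c
      rw [← e1, ← e2] at h5
      exact h5
    · exact h2 i i' hi' (by omega) c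

end lowersec

section final

variable {F : Type*} [Field F] {n : ℕ} {H : Subgroup (Matrix.SpecialLinearGroup (Fin n) F)}
  {δ : F}

theorem InH.cancel_left {A B : Matrix (Fin n) (Fin n) F} (hA : InH H A) (hAB : InH H (A * B)) :
    InH H B := by
  obtain ⟨g, hg, rfl⟩ := hA
  obtain ⟨k, hk, hk'⟩ := hAB
  refine ⟨g⁻¹ * k, H.mul_mem (H.inv_mem hg) hk, ?_⟩
  rw [Matrix.SpecialLinearGroup.coe_mul, hk', ← Matrix.mul_assoc,
    ← Matrix.SpecialLinearGroup.coe_mul, inv_mul_cancel, Matrix.SpecialLinearGroup.coe_one,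
    Matrix.one_mul]

theorem coe_conj_eq (g x : Matrix.SpecialLinearGroup (Fin n) F) (X' : Matrix (Fin n) (Fin n) F)
    (h : (g : Matrix (Fin n) (Fin n) F) * (x : Matrix (Fin n) (Fin n) F) =
      X' * (g : Matrix (Fin n) (Fin n) F)) :
    ((g * x * g⁻¹ : Matrix.SpecialLinearGroup (Fin n) F) : Matrix (Fin n) (Fin n) F) = X' := by
  rw [Matrix.SpecialLinearGroup.coe_mul, Matrix.SpecialLinearGroup.coe_mul, h, Matrix.mul_assoc,
    ← Matrix.SpecialLinearGroup.coe_mul, mul_inv_cancel, Matrix.SpecialLinearGroup.coe_one,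
    Matrix.mul_one]

theorem Qpow (hδ : δ = 1 ∨ δ = -1) (hn : 3 ≤ n) (hu : InH H (umat n δ)) (hL : InH H (lmat n n))
    (i0 i1 : Fin n) (h0 : i0.val = 0) (h1 : i1.val = 1) (t : F)
    (Qt : ∀ j : Fin n, 2 ≤ j.val → InH H (1 + single i0 j t)) :
    ∀ k : ℕ, ∀ j : Fin n, 2 ≤ j.val → InH H (1 + single i0 j (t ^ (k + 1))) := by
  intro k
  induction k with
  | zero =>
    rw [zero_add, pow_one]
    exact Qt
  | succ k ih =>
    have := (mulQ hδ hn hu hL i0 i1 h0 h1 (t ^ (k + 1)) t ih Qt).1
    rwa [← pow_succ] at this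

theorem all_trans (hδ : δ = 1 ∨ δ = -1) (hn : 3 ≤ n) (hu : InH H (umat n δ))
    (hL : InH H (lmat n n)) (t : F) (ht : ∀ c : F, c ≠ 0 → ∃ k : ℕ, t ^ (k + 1) = c)
    (hz : ∀ i0 i2 : Fin n, i0.val = 0 → i2.val = 2 → InH H (1 + single i0 i2 t)) :
    ∀ (i j : Fin n), i ≠ j → ∀ c : F, InH H (1 + single i j c) := by
  obtain ⟨i0, h0⟩ : ∃ i0 : Fin n, i0.val = 0 := ⟨⟨0, by omega⟩, rfl⟩
  obtain ⟨i1, h1⟩ : ∃ i1 : Fin n, i1.val = 1 := ⟨⟨1, by omega⟩, rfl⟩
  obtain ⟨i2, h2⟩ : ∃ i2 : Fin n, i2.val = 2 := ⟨⟨2, by omega⟩, rfl⟩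
  have Qt : ∀ j : Fin n, 2 ≤ j.val → InH H (1 + single i0 j t) := fun j hj =>
    row0 hδ hu i0 i2 h0 h2 t (hz i0 i2 h0 h2) (j.val - 2) j (by omega)
  have Qp := Qpow hδ hn hu hL i0 i1 h0 h1 t Qt
  have Q : ∀ c : F, ∀ j : Fin n, 2 ≤ j.val → InH H (1 + single i0 j c) := by
    intro c j hj
    by_cases hc : c = 0
    · rw [hc]
      exact InH.E_zero' i0 j
    · obtain ⟨k, hk⟩ := ht c hc
      rw [← hk]
      exact Qp k j hj
  have Q1 : ∀ c : F, ∀ j : Fin n, 2 ≤ j.val → InH H (1 + single i1 j c) := by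
    intro c j hj
    have := (mulQ hδ hn hu hL i0 i1 h0 h1 c 1 (Q c) (Q 1)).2 j hj
    rwa [mul_one] at this
  have U1 : ∀ i j : Fin n, 1 ≤ i.val → i.val < j.val → ∀ c : F, InH H (1 + single i j c) := by
    intro i j hi hij c
    exact rows hL i1 h1 (fun j hj c => Q1 c j (by omega)) (i.val - 1) i (by omega) j hij c
  have Llow1 := (lower 1 hL (fun i i' hi' hm c => U1 i i' hm (by omega) c) (n - 2) 1 (by omega)
    le_rfl).2
  have h01 : i0 ≠ i1 := by
    intro h
    rw [h] at h0
    omega
  have h02 : i0 ≠ i2 := by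
    intro h
    rw [h] at h0
    omega
  have h21 : i2 ≠ i1 := by
    intro h
    rw [h] at h2
    omega
  have E01 : ∀ c : F, InH H (1 + single i0 i1 c) := by
    intro c
    have e := Cfsg.Agent.Lib.Lead.transvection_comm_aux h01 h02 h21 c 1
    rw [mul_one] at e
    rw [e]
    exact (((Q c i2 (by omega)).mul (Llow1 i1 i2 (by omega) (by omega) 1)).mul
      (Q (-c) i2 (by omega))).mul (Llow1 i1 i2 (by omega) (by omega) (-1))
  have Uadj : ∀ i i' : Fin n, i'.val = i.val + 1 → 0 ≤ i.val → ∀ c : F,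
      InH H (1 + single i i' c) := by
    intro i i' hi' _ c
    by_cases hi : i.val = 0
    · have e1 : i = i0 := Fin.ext (by omega)
      have e2 : i' = i1 := Fin.ext (by omega)
      rw [e1, e2]
      exact E01 c
    · exact U1 i i' (by omega) (by omega) c
  have Ladj := (lower 0 hL Uadj (n - 1) 0 (by omega) le_rfl).2
  have Lgen : ∀ d : ℕ, ∀ i j : Fin n, i.val = j.val + d + 1 → ∀ c : F,
      InH H (1 + single i j c) := by
    intro d
    induction d with
    | zero =>
      intro i j hij c
      exact Ladj j i (by omega) (Nat.zero_le _) c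
    | succ d ih =>
      intro i j hij c
      have hk : j.val + 1 < n := by
        have := i.isLt
        omega
      obtain ⟨k, hkv⟩ : ∃ k : Fin n, k.val = j.val + 1 := ⟨⟨j.val + 1, hk⟩, rfl⟩
      have hij' : i ≠ j := by
        intro h
        rw [h] at hij
        omega
      have hik : i ≠ k := by
        intro h
        rw [h] at hij
        omega
      have hkj : k ≠ j := by
        intro h
        rw [h] at hkv
        omega
      have e := Cfsg.Agent.Lib.Lead.transvection_comm_aux hij' hik hkj c 1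
      rw [mul_one] at e
      rw [e]
      exact (((ih i k (by omega) c).mul (Ladj j k hkv (Nat.zero_le _) 1)).mul
        (ih i k (by omega) (-c))).mul (Ladj j k hkv (Nat.zero_le _) (-1))
  intro i j hij c
  rcases Nat.lt_or_ge i.val j.val with hlt | hge
  · by_cases hi : i.val = 0
    · have e1 : i = i0 := Fin.ext (by omega)
      rw [e1]
      by_cases hj : j.val = 1
      · have e2 : j = i1 := Fin.ext (by omega)
        rw [e2]
        exact E01 c
      · exact Q c j (by omega)
    · exact U1 i j (by omega) hlt c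
  · have hne : i.val ≠ j.val := fun h => hij (Fin.ext h)
    exact Lgen (i.val - j.val - 1) i j (by omega) c

theorem eq_top_of_all (hn : 3 ≤ n)
    (hall : ∀ (i j : Fin n), i ≠ j → ∀ c : F, InH H (1 + single i j c)) : H = ⊤ := by
  have : Nontrivial (Fin n) := Fin.nontrivial_iff_two_le.mpr (by omega)
  rw [eq_top_iff, ← Cfsg.Agent.Lib.Lead.SL_closure_transvections, Subgroup.closure_le]
  rintro A ⟨i, j, h, c, rfl⟩
  exact (inH_transvection h c).mp (hall i j h c)

theorem umat_sub_one_apply (δ : F) (a b : Fin n) :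
    (umat n δ - 1) a b = if a.val + 1 = b.val then (if b.val + 1 = n then δ else 1) else 0 := by
  rw [Matrix.sub_apply, Matrix.one_apply]
  by_cases hab : a = b
  · subst hab
    rw [umat_self, if_pos rfl, sub_self, if_neg (by omega)]
  · rw [if_neg hab, sub_zero]
    by_cases h : a.val + 1 = b.val
    · rw [umat_succ δ a b h, if_pos h]
    · rw [umat_zero δ a b hab h, if_neg h]

theorem npow_zero_entries (δ : F) : ∀ (k : ℕ) (a b : Fin n), b.val < a.val + k →
    ((umat n δ - 1) ^ k) a b = 0 := by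
  intro k
  induction k with
  | zero =>
    intro a b h
    rw [pow_zero, Matrix.one_apply, if_neg]
    intro hab
    rw [hab] at h
    omega
  | succ k ih =>
    intro a b h
    rw [pow_succ, Matrix.mul_apply]
    apply Finset.sum_eq_zero
    intro c _
    by_cases hc : c.val + 1 = b.val
    · rw [ih a c (by omega), zero_mul]
    · rw [umat_sub_one_apply, if_neg hc, mul_zero]

theorem npow_ne_zero_entries (δ : F) (hδ0 : δ ≠ 0) : ∀ (k : ℕ) (a b : Fin n),
    b.val = a.val + k → ((umat n δ - 1) ^ k) a b ≠ 0 := by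
  intro k
  induction k with
  | zero =>
    intro a b h
    have : a = b := Fin.ext (by omega)
    rw [pow_zero, this, Matrix.one_apply_eq]
    exact one_ne_zero
  | succ k ih =>
    intro a b h
    have hlt : a.val + k < n := by
      have := b.isLt
      omega
    obtain ⟨c0, hc0⟩ : ∃ c0 : Fin n, c0.val = a.val + k := ⟨⟨a.val + k, hlt⟩, rfl⟩
    rw [pow_succ, Matrix.mul_apply, Finset.sum_eq_single c0]
    · apply mul_ne_zero (ih a c0 hc0)
      rw [umat_sub_one_apply, if_pos (by omega)]
      split_ifs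
      · exact hδ0
      · exact one_ne_zero
    · intro c _ hc
      rw [umat_sub_one_apply, if_neg, mul_zero]
      intro h1
      apply hc
      apply Fin.ext
      omega
    · intro h1
      exact absurd (Finset.mem_univ _) h1

theorem umat_nilp (δ : F) : IsNilpotent (umat n δ - 1) := by
  refine ⟨n, ?_⟩
  ext a b
  rw [npow_zero_entries δ n a b (by have := b.isLt; omega)]
  rfl

theorem umat_pow_ne (δ : F) (hδ0 : δ ≠ 0) (hn : 3 ≤ n) : (umat n δ - 1) ^ (n - 1) ≠ 0 := by
  intro h
  have h0 : 0 < n := by omega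
  have h1 : n - 1 < n := by omega
  apply npow_ne_zero_entries δ hδ0 (n - 1) (⟨0, h0⟩ : Fin n) (⟨n - 1, h1⟩ : Fin n) (by simp)
  rw [h]
  rfl

theorem det_umat (δ : F) : (umat n δ).det = 1 := by
  rw [Matrix.det_of_isUpperTriangular]
  · apply Finset.prod_eq_one
    intro i _
    exact umat_self δ i
  · intro a b hab
    have hab' : b.val < a.val := hab
    apply umat_zero
    · intro h
      rw [h] at hab'
      omega
    · omega

def dmat (n : ℕ) (δ : F) : Matrix (Fin n) (Fin n) F :=
  Matrix.diagonal (fun b => if b.val + 1 = n then δ else 1)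

def hmat (n : ℕ) (δ : F) : Matrix (Fin n) (Fin n) F :=
  (Fin.revPerm : Equiv.Perm (Fin n)).permMatrix F * dmat n δ

theorem det_dmat (hn : 3 ≤ n) (δ : F) : (dmat n δ).det = δ := by
  rw [dmat, Matrix.det_diagonal]
  have hlast : n - 1 < n := by omega
  rw [Finset.prod_eq_single (⟨n - 1, hlast⟩ : Fin n)]
  · rw [if_pos]
    simp
    omega
  · intro b _ hb
    rw [if_neg]
    intro h
    apply hb
    apply Fin.ext
    simp
    omega
  · intro h1
    exact absurd (Finset.mem_univ _) h1

theorem hmat_mul_umat (δ : F) : hmat n δ * umat n δ = lmat n n * hmat n δ := by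
  rw [hmat, Matrix.mul_assoc, ← Matrix.mul_assoc (lmat n n), Equiv.Perm.permMatrix,
    PEquiv.toMatrix_toPEquiv_mul, PEquiv.mul_toMatrix_toPEquiv]
  ext a b
  rw [Matrix.submatrix_apply, dmat, Matrix.diagonal_mul, Matrix.mul_diagonal,
    Matrix.submatrix_apply, id, id, Fin.revPerm_symm, Fin.revPerm_apply, Fin.revPerm_apply]
  by_cases h1 : Fin.rev a = b
  · have h2 : a = Fin.rev b := Fin.rev_eq_iff.mp h1
    rw [h1, umat_self, ← h2, lmat_self, mul_one, one_mul]
  · have h2 : a ≠ Fin.rev b := fun h => h1 (Fin.rev_eq_iff.mpr h)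
    by_cases h3 : (Fin.rev a).val + 1 = b.val
    · have h4 : a.val = (Fin.rev b).val + 1 := by
        rw [Fin.val_rev] at h3 ⊢
        omega
      rw [umat_succ δ _ _ h3, lmat_succ n a _ h4 (by have := a.isLt; omega), one_mul,
        if_neg (by have := b.isLt; omega), one_mul]
    · have h4 : ¬ (a.val = (Fin.rev b).val + 1 ∧ (Fin.rev b).val < n) := by
        rintro ⟨h5, -⟩
        apply h3
        rw [Fin.val_rev] at h5 ⊢
        omega
      rw [umat_zero δ _ _ h1 h3, lmat_zero n a _ h2 h4, mul_zero, zero_mul]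

theorem det_hmat (hn : 3 ≤ n) (δ : F)
    (hδdef : δ = (((Equiv.Perm.sign (Fin.revPerm : Equiv.Perm (Fin n)) : ℤˣ) : ℤ) : F))
    (hδδ : δ * δ = 1) : (hmat n δ).det = 1 := by
  rw [hmat, Matrix.det_mul, Matrix.det_permutation, det_dmat hn, ← hδdef, hδδ]

theorem gconj_id (δ : F) (i0 i1 i2 : Fin n) (h0 : i0.val = 0) (h1 : i1.val = 1) (h2 : i2.val = 2)
    (s t : F) (hs' : s * umat n δ i1 i2 = t) :
    (1 + single i0 i1 s) * umat n δ = umat n δ * (1 + single i0 i2 t) * (1 + single i0 i1 s) := by
  have h20 : i2 ≠ i0 := by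
    intro h
    rw [h] at h2
    omega
  have e1 : single i0 i1 s * umat n δ = single i0 i1 s + single i0 i2 t := by
    rw [single_mul_umat_succ δ i0 i1 i2 s (by omega), hs']
  have e2 : umat n δ * single i0 i2 t = single i0 i2 t := umat_mul_single_first δ i0 i2 t h0
  have e3 : umat n δ * single i0 i1 s = single i0 i1 s := umat_mul_single_first δ i0 i1 s h0
  have e4 : single i0 i2 t * single i0 i1 s = 0 := single_mul_single_of_ne _ _ _ _ h20 _
  calc (1 + single i0 i1 s) * umat n δ = umat n δ + (single i0 i1 s + single i0 i2 t) := by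
        rw [add_mul, Matrix.one_mul, e1]
    _ = (umat n δ + single i0 i2 t) * (1 + single i0 i1 s) := by
        rw [add_mul, mul_add, mul_add, Matrix.mul_one, Matrix.mul_one, e3, e4]
        abel
    _ = umat n δ * (1 + single i0 i2 t) * (1 + single i0 i1 s) := by
        rw [mul_add (umat n δ), Matrix.mul_one, e2]

end final

/-- Let F be a finite field and n ≥ 3. Then SL_n(F) is generated by three conjugate regular unipotent elements: there are u with u − 1 nilpotent and (u − 1)^(n−1) ≠ 0, and g, h, such that u, g u g⁻¹ and h u h⁻¹ generate SL_n(F). -/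
theorem result {F : Type*} [Field F] [Fintype F] (n : ℕ) (hn : 3 ≤ n) :
    ∃ u g h : Matrix.SpecialLinearGroup (Fin n) F, (IsNilpotent ((u : Matrix (Fin n) (Fin n) F) - 1) ∧ ((u : Matrix (Fin n) (Fin n) F) - 1) ^ (n - 1) ≠ 0) ∧
      Subgroup.closure ({u, g * u * g⁻¹, h * u * h⁻¹} : Set (Matrix.SpecialLinearGroup (Fin n) F)) = ⊤ := by
  classical
  obtain ⟨δ, hδdef⟩ : ∃ δ : F,
      δ = (((Equiv.Perm.sign (Fin.revPerm : Equiv.Perm (Fin n)) : ℤˣ) : ℤ) : F) := ⟨_, rfl⟩
  have hδ : δ = 1 ∨ δ = -1 := by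
    rcases Int.units_eq_one_or (Equiv.Perm.sign (Fin.revPerm : Equiv.Perm (Fin n))) with h | h
    · left
      rw [hδdef, h]
      simp
    · right
      rw [hδdef, h]
      simp
  have hδδ : δ * δ = 1 := by
    rcases hδ with h | h
    · rw [h, mul_one]
    · rw [h, neg_mul_neg, mul_one]
  have hδ0 : δ ≠ 0 := by
    intro h
    rw [h, mul_zero] at hδδ
    exact zero_ne_one hδδ
  obtain ⟨i0, h0⟩ : ∃ i0 : Fin n, i0.val = 0 := ⟨⟨0, by omega⟩, rfl⟩
  obtain ⟨i1, h1⟩ : ∃ i1 : Fin n, i1.val = 1 := ⟨⟨1, by omega⟩, rfl⟩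
  obtain ⟨i2, h2⟩ : ∃ i2 : Fin n, i2.val = 2 := ⟨⟨2, by omega⟩, rfl⟩
  have h01 : i0 ≠ i1 := by
    intro h
    rw [h] at h0
    omega
  obtain ⟨τ, hτ⟩ := IsCyclic.exists_monoid_generator (α := Fˣ)
  obtain ⟨t, htdef⟩ : ∃ t : F, t = (τ : F) := ⟨_, rfl⟩
  have ht : ∀ c : F, c ≠ 0 → ∃ k : ℕ, t ^ (k + 1) = c := by
    intro c hc
    obtain ⟨k, hk⟩ := (Submonoid.mem_powers_iff _ _).mp (hτ (Units.mk0 c hc))
    have hcard : 0 < Fintype.card Fˣ := Fintype.card_pos
    refine ⟨k + (Fintype.card Fˣ - 1), ?_⟩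
    have e : k + (Fintype.card Fˣ - 1) + 1 = k + Fintype.card Fˣ := by omega
    rw [e, htdef, ← Units.val_pow_eq_pow_val, pow_add, pow_card_eq_one, mul_one, hk]
    rfl
  obtain ⟨s, hs⟩ : ∃ s : F, s = t * umat n δ i1 i2 := ⟨_, rfl⟩
  have hs' : s * umat n δ i1 i2 = t := by
    rw [hs, mul_assoc]
    rcases umat_cases hδ i1 i2 (by omega) with h | h
    · rw [h, mul_one, mul_one]
    · rw [h, neg_mul_neg, mul_one, mul_one]
  obtain ⟨u, hu⟩ : ∃ u : Matrix.SpecialLinearGroup (Fin n) F,
      (u : Matrix (Fin n) (Fin n) F) = umat n δ := ⟨⟨umat n δ, det_umat δ⟩, rfl⟩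
  obtain ⟨g, hg⟩ : ∃ g : Matrix.SpecialLinearGroup (Fin n) F,
      (g : Matrix (Fin n) (Fin n) F) = 1 + single i0 i1 s :=
    ⟨Matrix.SpecialLinearGroup.transvection h01 s, rfl⟩
  obtain ⟨h, hh⟩ : ∃ h : Matrix.SpecialLinearGroup (Fin n) F,
      (h : Matrix (Fin n) (Fin n) F) = hmat n δ := ⟨⟨hmat n δ, det_hmat hn δ hδdef hδδ⟩, rfl⟩
  refine ⟨u, g, h, ⟨?_, ?_⟩, ?_⟩
  · rw [hu]
    exact umat_nilp δ
  · rw [hu]
    exact umat_pow_ne δ hδ0 hn
  obtain ⟨H, hH⟩ : ∃ H : Subgroup (Matrix.SpecialLinearGroup (Fin n) F),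
      H = Subgroup.closure {u, g * u * g⁻¹, h * u * h⁻¹} := ⟨_, rfl⟩
  rw [← hH]
  have hu' : InH H (umat n δ) := by
    refine ⟨u, ?_, hu⟩
    rw [hH]
    exact Subgroup.subset_closure (by simp)
  have hgu : InH H (umat n δ * (1 + single i0 i2 t)) := by
    refine ⟨g * u * g⁻¹, ?_, ?_⟩
    · rw [hH]
      exact Subgroup.subset_closure (by simp)
    · apply coe_conj_eq
      rw [hg, hu]
      exact gconj_id δ i0 i1 i2 h0 h1 h2 s t hs'
  have hL : InH H (lmat n n) := by
    refine ⟨h * u * h⁻¹, ?_, ?_⟩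
    · rw [hH]
      exact Subgroup.subset_closure (by simp)
    · apply coe_conj_eq
      rw [hh, hu]
      exact hmat_mul_umat δ
  have hz := hu'.cancel_left hgu
  apply eq_top_of_all hn
  apply all_trans hδ hn hu' hL t ht
  intro j0 j2 hj0 hj2
  have e0 : j0 = i0 := Fin.ext (by omega)
  have e2 : j2 = i2 := Fin.ext (by omega)
  rw [e0, e2]
  exact hz

end Cfsg.Agent.S2280
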