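import Cfsg.Statements.S2420

import Cfsg.Agent.Lib.helper15.BlockTri
set_option autoImplicit false
open scoped MatrixGroups
open Cfsg

namespace Cfsg.Agent.S2420


open Matrix Cfsg.Agent.Lib.helper15.BlockTri

section label

variable {n : ℕ}

def pre (μ : Fin n → ℕ) (j : ℕ) : ℕ := ∑ k ∈ Finset.univ.filter (fun k : Fin n => k.val < j), μ k

lemma pre_zero (μ : Fin n → ℕ) : pre μ 0 = 0 := by
  simp [pre]

lemma pre_succ (μ : Fin n → ℕ) (j : Fin n) : pre μ (j.val + 1) = pre μ j.val + μ j := by
  unfold pre
  have : Finset.univ.filter (fun k : Fin n => k.val < j.val + 1) =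
      insert j (Finset.univ.filter (fun k : Fin n => k.val < j.val)) := by
    ext k
    simp only [Finset.mem_filter, Finset.mem_univ, true_and, Finset.mem_insert]
    constructor
    · intro h
      rcases Nat.lt_succ_iff_lt_or_eq.1 h with h1 | h1
      · exact Or.inr h1
      · exact Or.inl (Fin.ext h1)
    · rintro (h | h)
      · rw [h]
        exact Nat.lt_succ_self _
      · exact Nat.lt_succ_of_lt h
  rw [this, Finset.sum_insert (by simp), add_comm]

lemma pre_mono (μ : Fin n → ℕ) {j j' : ℕ} (h : j ≤ j') : pre μ j ≤ pre μ j' := by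
  unfold pre
  apply Finset.sum_le_sum_of_subset
  intro k hk
  simp only [Finset.mem_filter, Finset.mem_univ, true_and] at hk ⊢
  omega

lemma pre_top (μ : Fin n → ℕ) : pre μ n = ∑ i, μ i := by
  unfold pre
  congr 1
  ext k
  simp

lemma compLabel_eq (μ : Fin n → ℕ) (i : Fin n) :
    compLabel μ i = (Finset.univ.filter fun j : Fin n => pre μ (j.val + 1) ≤ i.val).card := by
  unfold compLabel pre
  congr 1
  ext j
  simp only [Finset.mem_filter, Finset.mem_univ, true_and]
  have : Finset.univ.filter (fun k : Fin n => k ≤ j) =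
      Finset.univ.filter (fun k : Fin n => k.val < j.val + 1) := by
    ext k
    simp only [Finset.mem_filter, Finset.mem_univ, true_and, Fin.le_def]
    omega
  rw [this]

lemma label_of_mem (μ : Fin n → ℕ) (c : ℕ) (hc : c ≤ n) (i : Fin n) (h1 : pre μ c ≤ i.val)
    (h2 : i.val < pre μ (c + 1)) : compLabel μ i = c := by
  rw [compLabel_eq]
  have : (Finset.univ.filter fun j : Fin n => pre μ (j.val + 1) ≤ i.val) =
      Finset.univ.filter fun j : Fin n => j.val < c := by
    ext j
    simp only [Finset.mem_filter, Finset.mem_univ, true_and]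
    constructor
    · intro h
      by_contra hjc
      have h3 : pre μ (c + 1) ≤ pre μ (j.val + 1) := pre_mono μ (by omega)
      omega
    · intro h
      have h3 : pre μ (j.val + 1) ≤ pre μ c := pre_mono μ (by omega)
      omega
  rw [this]
  have h4 : (Finset.univ.filter fun j : Fin n => j.val < c).map Fin.valEmbedding =
      Finset.range c := by
    ext x
    simp only [Finset.mem_map, Finset.mem_filter, Finset.mem_univ, true_and, Fin.valEmbedding_apply,
      Finset.mem_range]
    constructor
    · rintro ⟨j, hj, rfl⟩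
      exact hj
    · intro hx
      exact ⟨⟨x, by omega⟩, hx, rfl⟩
  rw [← Finset.card_map Fin.valEmbedding, h4, Finset.card_range]

lemma exists_block (μ : Fin n → ℕ) (hμ : ∑ i, μ i = n) (i : Fin n) :
    ∃ c, c < n ∧ pre μ c ≤ i.val ∧ i.val < pre μ (c + 1) := by
  have key : ∀ t, t ≤ n → i.val < pre μ t → ∃ c, c < t ∧ pre μ c ≤ i.val ∧ i.val < pre μ (c + 1) := by
    intro t
    induction t with
    | zero =>
      intro _ h
      rw [pre_zero] at h
      omega
    | succ t ih =>
      intro ht h
      by_cases h' : i.val < pre μ t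
      · obtain ⟨c, hc, h1, h2⟩ := ih (by omega) h'
        exact ⟨c, by omega, h1, h2⟩
      · exact ⟨t, by omega, by omega, h⟩
  exact key n le_rfl (by rw [pre_top, hμ]; exact i.2)

lemma compLabel_lt (μ : Fin n → ℕ) (hμ : ∑ i, μ i = n) (i : Fin n) : compLabel μ i < n := by
  obtain ⟨c, hc, h1, h2⟩ := exists_block μ hμ i
  rw [label_of_mem μ c hc.le i h1 h2]
  exact hc

lemma fiber_card (μ : Fin n → ℕ) (hμ : ∑ i, μ i = n) (c : Fin n) :
    (Finset.univ.filter fun i : Fin n => compLabel μ i = c.val).card = μ c := by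
  have h0 : pre μ (c.val + 1) ≤ n := by
    have h00 : pre μ n = n := by rw [pre_top, hμ]
    have h01 : pre μ (c.val + 1) ≤ pre μ n := pre_mono μ (by have := c.2; omega)
    omega
  have h1 : (Finset.univ.filter fun i : Fin n => compLabel μ i = c.val) =
      Finset.univ.filter fun i : Fin n => pre μ c.val ≤ i.val ∧ i.val < pre μ (c.val + 1) := by
    ext i
    simp only [Finset.mem_filter, Finset.mem_univ, true_and]
    constructor
    · intro h
      obtain ⟨c', hc', h1, h2⟩ := exists_block μ hμ i
      have := label_of_mem μ c' hc'.le i h1 h2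
      have hcc : c' = c.val := by omega
      subst hcc
      exact ⟨h1, h2⟩
    · rintro ⟨h1, h2⟩
      exact label_of_mem μ c.val c.2.le i h1 h2
  have h2 : (Finset.univ.filter fun i : Fin n =>
      pre μ c.val ≤ i.val ∧ i.val < pre μ (c.val + 1)).map Fin.valEmbedding =
      Finset.Ico (pre μ c.val) (pre μ (c.val + 1)) := by
    ext x
    simp only [Finset.mem_map, Finset.mem_filter, Finset.mem_univ, true_and, Fin.valEmbedding_apply,
      Finset.mem_Ico]
    constructor
    · rintro ⟨j, hj, rfl⟩
      exact hj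
    · intro hx
      exact ⟨⟨x, by omega⟩, hx, rfl⟩
  rw [h1, ← Finset.card_map Fin.valEmbedding, h2, Nat.card_Ico, pre_succ]
  omega

end label

/-- The number of partial flags of a given type: for a composition `μ` of `n` (with `n` parts, zeros allowed) and a field with `q` elements, the index of the standard parabolic subgroup `P_μ` in `GL_n(q)` times `∏_i {μ_i}` equals `{n}`, where `{r}` denotes the product over `k = 1, …, r` of the q-integers `1 + q + ⋯ + q^(k−1)`. -/
theorem result {F : Type*} [Field F] [Fintype F] {q : ℕ} (hq : Fintype.card F = q) {n : ℕ} (μ : Fin n → ℕ) (hμ : ∑ i, μ i = n) :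
    Nat.card (GL (Fin n) F ⧸ Cfsg.parabolicGL n F μ) * ∏ i : Fin n, ∏ j ∈ Finset.range (μ i), ∑ l ∈ Finset.range (j + 1), q ^ l =
      ∏ j ∈ Finset.range n, ∑ l ∈ Finset.range (j + 1), q ^ l := by
  classical
  subst hq
  let b' : Fin n → Fin n := fun i => ⟨compLabel μ i, compLabel_lt μ hμ i⟩
  have e : ↥(Cfsg.parabolicGL n F μ) ≃
      {g : GL (Fin n) F // (g : Matrix (Fin n) (Fin n) F).BlockTriangular b'} :=
    Equiv.subtypeEquivRight (fun g => Iff.rfl)
  have hP := card_pb' (F := F) b'
  rw [← Nat.card_congr e] at hP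
  have hfib : ∀ c : Fin n, Fintype.card {i : Fin n // b' i = c} = μ c := by
    intro c
    rw [Fintype.card_subtype, ← fiber_card μ hμ c]
    congr 1
    ext i
    simp only [Finset.mem_filter, Finset.mem_univ, true_and, b', Fin.ext_iff]
  simp_rw [hfib] at hP
  have hG : Nat.card (GL (Fin n) F) =
      Fintype.card F ^ tri n * (Fintype.card F - 1) ^ n * phi (Fintype.card F) n := by
    rw [Matrix.card_GL_field]
    exact gam_eq _ _ Fintype.card_pos
  have hidx := Subgroup.index_mul_card (Cfsg.parabolicGL n F μ)
  rw [Subgroup.index_eq_card, hP, hG, Fintype.card_fin] at hidx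
  have hpos : 0 < Fintype.card F ^ tri n * (Fintype.card F - 1) ^ n := by
    have h1 : 1 < Fintype.card F := Fintype.one_lt_card
    apply Nat.mul_pos
    · exact Nat.pow_pos (by omega)
    · exact Nat.pow_pos (by omega)
  apply Nat.eq_of_mul_eq_mul_left hpos
  show _ * (_ * ∏ i : Fin n, phi (Fintype.card F) (μ i)) = _ * phi (Fintype.card F) n
  rw [← hidx]
  ring

end Cfsg.Agent.S2420
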