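import Cfsg.Statements.S2424

import Cfsg.Agent.S2420
set_option autoImplicit false
open scoped MatrixGroups
open Cfsg

namespace Cfsg.Agent.S2424


open Finset

def Qn (q m : ℕ) : ℕ := ∑ l ∈ range m, q ^ l

def Qf (q m : ℕ) : ℕ := ∏ j ∈ range m, Qn q (j + 1)

def ff (q x k : ℕ) : ℕ := ∏ t ∈ range k, Qn q (x - t)

def c2 (k : ℕ) : ℕ := ∑ t ∈ range k, t

theorem Qn_zero (q : ℕ) : Qn q 0 = 0 := by simp [Qn]

theorem Qn_add (q k d : ℕ) : Qn q (k + d) = Qn q k + q ^ k * Qn q d := by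
  induction d with
  | zero => simp [Qn]
  | succ d ih =>
    rw [← add_assoc]
    unfold Qn at ih ⊢
    rw [sum_range_succ, ih, sum_range_succ, mul_add, pow_add]
    ring

theorem Qn_sub (q x k : ℕ) (h : k ≤ x) :
    ((Qn q (x - k) : ℕ) : ℂ) * (q : ℂ) ^ k = (Qn q x : ℂ) - (Qn q k : ℂ) := by
  obtain ⟨d, rfl⟩ := Nat.exists_eq_add_of_le h
  rw [Nat.add_sub_cancel_left, Qn_add]
  push_cast
  ring

theorem Qf_split (q x k : ℕ) (h : k ≤ x) : Qf q x = Qf q (x - k) * ff q x k := by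
  induction k with
  | zero => simp [ff]
  | succ k ih =>
    have hk : k ≤ x := by omega
    rw [ih hk]
    unfold ff
    rw [prod_range_succ]
    have e : x - k = (x - (k + 1)) + 1 := by omega
    have : Qf q (x - k) = Qf q (x - (k + 1)) * Qn q (x - k) := by
      conv_lhs => rw [e]
      unfold Qf
      rw [prod_range_succ, ← e]
    rw [this]
    ring

theorem ff_zero_of_lt (q x k : ℕ) (h : x < k) : ff q x k = 0 := by
  unfold ff
  apply prod_eq_zero (i := x) (mem_range.mpr h)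
  simp [Qn_zero]

theorem ff_mul (q x k : ℕ) :
    ((ff q x k : ℕ) : ℂ) * (q : ℂ) ^ c2 k = ∏ t ∈ range k, ((Qn q x : ℂ) - (Qn q t : ℂ)) := by
  induction k with
  | zero => simp [ff, c2]
  | succ k ih =>
    by_cases hk : k ≤ x
    · have h1 : ff q x (k + 1) = ff q x k * Qn q (x - k) := by
        unfold ff
        rw [prod_range_succ]
      have h2 : c2 (k + 1) = c2 k + k := by
        unfold c2
        rw [sum_range_succ]
      rw [h1, h2, prod_range_succ, ← ih, ← Qn_sub q x k hk, pow_add]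
      push_cast
      ring
    · push Not at hk
      rw [ff_zero_of_lt q x (k + 1) (by omega)]
      symm
      simp only [Nat.cast_zero, zero_mul]
      apply prod_eq_zero (i := x) (mem_range.mpr (by omega))
      simp

theorem c2_two (k : ℕ) : c2 k * 2 = k * (k - 1) := by
  unfold c2
  exact Finset.sum_range_id_mul_two k

theorem sum_c2 (n : ℕ) : ∑ k ∈ range n, c2 k = n * (n - 1) * (n - 2) / 6 := by
  have h : 6 * ∑ k ∈ range n, c2 k = n * (n - 1) * (n - 2) := by
    induction n with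
    | zero => simp
    | succ n ih =>
      rw [sum_range_succ, mul_add, ih]
      have := c2_two n
      rcases n with _ | _ | n
      · simp [c2]
      · simp [c2]
      · simp only [Nat.add_sub_cancel] at *
        have e1 : n + 1 + 1 - 2 = n := by omega
        have e2 : n + 1 + 1 + 1 - 2 = n + 1 := by omega
        rw [e1, e2]
        nlinarith
  rw [← h]
  simp

theorem sum_kappa {n : ℕ} (κ : Equiv.Perm (Fin n)) : ∑ i, (κ i).val = ∑ i : Fin n, i.val :=
  Equiv.sum_comp κ (fun i => i.val)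

theorem fpc_one {G : Type*} [Group G] (H : Subgroup G) :
    Cfsg.fixedPointCharacter H 1 = (Nat.card (G ⧸ H) : ℂ) := by
  unfold Cfsg.fixedPointCharacter
  congr 1
  apply Nat.card_congr
  refine ⟨fun x => x.1, fun x => ⟨x, by simp [MulAction.mem_fixedBy]⟩, fun x => rfl, fun x => rfl⟩

theorem term_eq {F : Type*} [Field F] [Fintype F] {n : ℕ} (ν : Fin n → ℕ) (hsum : ∑ i, ν i = n)
    (κ : Equiv.Perm (Fin n)) :
    (if ∀ i : Fin n, (κ i).val ≤ ν i + i.val then
      ((Equiv.Perm.sign κ : ℤ) : ℂ) * Cfsg.fixedPointCharacter (Cfsg.parabolicGL n F fun i => ν i + i.val - (κ i).val) 1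
    else 0) * ∏ i : Fin n, ((Qf (Fintype.card F) (ν i + i.val) : ℕ) : ℂ) =
    (Qf (Fintype.card F) n : ℂ) * (((Equiv.Perm.sign κ : ℤ) : ℂ) * ∏ i : Fin n, ((ff (Fintype.card F) (ν i + i.val) (κ i).val : ℕ) : ℂ)) := by
  split_ifs with hc
  · have hs : ∑ i : Fin n, (ν i + i.val - (κ i).val) = n := by
      have h1 : ∑ i : Fin n, (ν i + i.val - (κ i).val) + ∑ i : Fin n, (κ i).val = ∑ i : Fin n, (ν i + i.val) := by
        rw [← sum_add_distrib]
        apply sum_congr rfl
        intro i _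
        have := hc i
        omega
      rw [sum_kappa, sum_add_distrib, hsum] at h1
      omega
    have h20 := Cfsg.Agent.S2420.result (F := F) rfl (fun i => ν i + i.val - (κ i).val) hs
    rw [fpc_one]
    have h20' : (Nat.card (GL (Fin n) F ⧸ Cfsg.parabolicGL n F fun i => ν i + i.val - (κ i).val) : ℂ) *
        ∏ i : Fin n, ((Qf (Fintype.card F) (ν i + i.val - (κ i).val) : ℕ) : ℂ) = (Qf (Fintype.card F) n : ℂ) := by
      have := congrArg (fun x : ℕ => (x : ℂ)) h20
      simp only [Nat.cast_mul, Nat.cast_prod] at this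
      simpa [Qf, Qn] using this
    have h3 : ∏ i : Fin n, ((Qf (Fintype.card F) (ν i + i.val) : ℕ) : ℂ) =
        (∏ i : Fin n, ((Qf (Fintype.card F) (ν i + i.val - (κ i).val) : ℕ) : ℂ)) *
          ∏ i : Fin n, ((ff (Fintype.card F) (ν i + i.val) (κ i).val : ℕ) : ℂ) := by
      rw [← prod_mul_distrib]
      apply prod_congr rfl
      intro i _
      rw [Qf_split _ _ _ (hc i)]
      push_cast
      ring
    rw [h3, ← h20']
    ring
  · push Not at hc
    obtain ⟨i, hi⟩ := hc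
    rw [zero_mul]
    symm
    have : ∏ i : Fin n, ((ff (Fintype.card F) (ν i + i.val) (κ i).val : ℕ) : ℂ) = 0 := by
      apply prod_eq_zero (mem_univ i)
      rw [ff_zero_of_lt _ _ _ hi]
      simp
    rw [this]
    ring

/-- Degrees of the partition-indexed irreducible characters of `GL_n(q)`: for `ν` a partition of `n` with `n` non-decreasing parts `ν_0 ≤ ⋯ ≤ ν_{n−1}` (zeros allowed; positions counted from 0) and `λ_i = ν_i + i`, write `Q(r)` for the q-integer `1 + q + ⋯ + q^(r−1)` and `Q!(r)` for `Q(1)Q(2)⋯Q(r)`; then the degree `γ(ν)` of the character satisfies `γ(ν) · q^(n(n−1)(n−2)/6) · ∏_i Q!(λ_i) = Q!(n) · ∏_{i<j} (Q(λ_j) − Q(λ_i))`. For `ν = (1,…,1)` this gives the Steinberg degree `q^(n(n−1)/2)`, for `ν = (0,…,0,n)` degree 1. -/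
theorem result {F : Type*} [Field F] [Fintype F] {q : ℕ} (hq : Fintype.card F = q) {n : ℕ} (ν : Fin n → ℕ) (hmono : Monotone ν) (hsum : ∑ i, ν i = n) :
    Cfsg.unipotentCharacterGL n F ν 1 * (q : ℂ) ^ (n * (n - 1) * (n - 2) / 6) *
        ∏ i : Fin n, ∏ j ∈ Finset.range (ν i + i.val), ((∑ l ∈ Finset.range (j + 1), q ^ l : ℕ) : ℂ) =
      (∏ j ∈ Finset.range n, ((∑ l ∈ Finset.range (j + 1), q ^ l : ℕ) : ℂ)) *
        ∏ i : Fin n, ∏ j ∈ Finset.univ.filter (fun j : Fin n => i < j),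
          (((∑ l ∈ Finset.range (ν j + j.val), q ^ l : ℕ) : ℂ) - ((∑ l ∈ Finset.range (ν i + i.val), q ^ l : ℕ) : ℂ)) := by
  classical
  subst hq
  set q := Fintype.card F with hqdef
  have hA : ∀ m : ℕ, ∏ j ∈ Finset.range m, ((∑ l ∈ Finset.range (j + 1), q ^ l : ℕ) : ℂ) = (Qf q m : ℂ) := by
    intro m
    simp [Qf, Qn]
  simp_rw [hA]
  have hB : ∀ m : ℕ, ((∑ l ∈ Finset.range m, q ^ l : ℕ) : ℂ) = (Qn q m : ℂ) := fun m => rfl
  simp_rw [hB]
  set lam : Fin n → ℕ := fun i => ν i + i.val with hlam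
  have h1 : Cfsg.unipotentCharacterGL n F ν 1 * ∏ i : Fin n, ((Qf q (lam i) : ℕ) : ℂ) =
      (Qf q n : ℂ) * ∑ κ : Equiv.Perm (Fin n), ((Equiv.Perm.sign κ : ℤ) : ℂ) * ∏ i : Fin n, ((ff q (lam i) (κ i).val : ℕ) : ℂ) := by
    unfold Cfsg.unipotentCharacterGL
    rw [sum_mul, mul_sum]
    apply sum_congr rfl
    intro κ _
    exact term_eq ν hsum κ
  let M : Matrix (Fin n) (Fin n) ℂ := Matrix.of fun i k => ((ff q (lam i) k.val : ℕ) : ℂ)
  have h2 : ∑ κ : Equiv.Perm (Fin n), ((Equiv.Perm.sign κ : ℤ) : ℂ) * ∏ i : Fin n, ((ff q (lam i) (κ i).val : ℕ) : ℂ) = M.det := by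
    rw [← Matrix.det_transpose, Matrix.det_apply']
    apply sum_congr rfl
    intro κ _
    rfl
  let p : Fin n → Polynomial ℂ := fun k => ∏ t ∈ range k.val, (Polynomial.X - Polynomial.C (Qn q t : ℂ))
  have hpdeg : ∀ k, (p k).natDegree = k := by
    intro k
    show (∏ t ∈ range k.val, (Polynomial.X - Polynomial.C (Qn q t : ℂ))).natDegree = (k : ℕ)
    rw [Polynomial.natDegree_prod_of_monic _ _ (fun t _ => Polynomial.monic_X_sub_C _)]
    have : ∀ t ∈ range k.val, (Polynomial.X - Polynomial.C (Qn q t : ℂ)).natDegree = 1 :=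
      fun t _ => Polynomial.natDegree_X_sub_C _
    rw [sum_congr rfl this]
    simp
  have hpmonic : ∀ k, (p k).Monic := by
    intro k
    exact Polynomial.monic_prod_of_monic _ _ (fun t _ => Polynomial.monic_X_sub_C _)
  have h3 := Matrix.det_eval_matrixOfPolynomials_eq_det_vandermonde (fun i : Fin n => (Qn q (lam i) : ℂ)) p hpdeg hpmonic
  have h4 : (Matrix.of fun i j : Fin n => ((p j).eval ((Qn q (lam i) : ℂ)))) =
      Matrix.of fun i j : Fin n => ((q : ℂ) ^ c2 j.val) * M i j := by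
    ext i j
    simp only [Matrix.of_apply, p, M]
    rw [Polynomial.eval_prod, mul_comm, ff_mul]
    simp
  rw [h4, Matrix.det_mul_row, Matrix.det_vandermonde] at h3
  have h5 : ∏ j : Fin n, (q : ℂ) ^ c2 j.val = (q : ℂ) ^ (n * (n - 1) * (n - 2) / 6) := by
    rw [prod_pow_eq_pow_sum, ← sum_c2 n, Fin.sum_univ_eq_sum_range (fun k => c2 k) n]
  rw [h5] at h3
  have h6 : ∏ i : Fin n, ∏ j ∈ Finset.univ.filter (fun j : Fin n => i < j),
      ((Qn q (ν j + j.val) : ℂ) - (Qn q (ν i + i.val) : ℂ)) =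
      ∏ i : Fin n, ∏ j ∈ Finset.Ioi i, ((Qn q (lam j) : ℂ) - (Qn q (lam i) : ℂ)) := by
    apply prod_congr rfl
    intro i _
    apply prod_congr
    · ext j
      simp
    · intro j _
      rfl
  rw [h6, h3]
  calc Cfsg.unipotentCharacterGL n F ν 1 * (q : ℂ) ^ (n * (n - 1) * (n - 2) / 6) * ∏ i : Fin n, ((Qf q (ν i + i.val) : ℕ) : ℂ)
      = (Cfsg.unipotentCharacterGL n F ν 1 * ∏ i : Fin n, ((Qf q (lam i) : ℕ) : ℂ)) * (q : ℂ) ^ (n * (n - 1) * (n - 2) / 6) := by ring
    _ = _ := by rw [h1, h2]; ring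

end Cfsg.Agent.S2424
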