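import Cfsg.Statements.S2421

import Cfsg.Agent.Lib.helper15.Stb7
import Cfsg.Agent.S2424
set_option autoImplicit false
open scoped MatrixGroups
open Cfsg

namespace Cfsg.Agent.S2421


open Finset

theorem Qn_strictMono (q : ℕ) (hq : 0 < q) : StrictMono (Cfsg.Agent.S2424.Qn q) := by
  apply strictMono_nat_of_lt_succ
  intro k
  rw [Cfsg.Agent.S2424.Qn_add q k 1]
  have h1 : Cfsg.Agent.S2424.Qn q 1 = 1 := by simp [Cfsg.Agent.S2424.Qn]
  rw [h1, mul_one]
  have := pow_pos hq k
  omega

theorem Qn_pos (q : ℕ) (hq : 0 < q) (k : ℕ) : 0 < Cfsg.Agent.S2424.Qn q (k + 1) := by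
  have := Qn_strictMono q hq (Nat.succ_pos k)
  rw [Cfsg.Agent.S2424.Qn_zero] at this
  exact this

/-- Irreducible characters of `GL_n(q)` indexed by partitions: for `ν` a partition of `n` written with `n` non-decreasing parts `ν_0 ≤ ⋯ ≤ ν_{n−1}` (zeros allowed; positions counted from 0) and `λ_i = ν_i + i`, the alternating sum over permutations `κ` of `{0, …, n−1}` of `sign κ` times the permutation character on partial flags of type `λ − κ` (terms with a negative entry omitted) is an irreducible complex character of `GL_n(q)`. For `ν = (1, …, 1)` this is the Steinberg character. -/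
theorem result {F : Type*} [Field F] [Fintype F] {n : ℕ} (ν : Fin n → ℕ) (hmono : Monotone ν) (hsum : ∑ i, ν i = n) :
    Cfsg.IsIrrCharacter (GL (Fin n) F) (Cfsg.unipotentCharacterGL n F ν) := by
  classical
  have : Fintype (GL (Fin n) F) := Fintype.ofFinite _
  have hg := Cfsg.Agent.Lib.helper15.Stb.unipotent_genChar (F := F) ν
  have h1 := Cfsg.Agent.Lib.helper15.Stb.inner_unipotent (F := F) ν ν hmono hsum hmono hsum
  rw [if_pos rfl] at h1
  obtain ⟨ε, η, hε, hη⟩ := Cfsg.Agent.Lib.Helper11.genChar_norm_one _ hg h1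
  rcases hε with rfl | rfl
  · rw [hη]
    simp only [Int.cast_one, one_smul]
    exact η.2
  · exfalso
    obtain ⟨m, hm, hm1⟩ := Cfsg.Agent.Lib.Helper25.irr_one_eq_finrank η
    have hdeg := Cfsg.Agent.S2424.result (F := F) (hq := rfl) ν hmono hsum
    have hΓ1 : Cfsg.unipotentCharacterGL n F ν 1 = -(m : ℂ) := by
      rw [hη]
      simp [hm1]
    rw [hΓ1] at hdeg
    have hqpos : 0 < Fintype.card F := Fintype.card_pos
    generalize Fintype.card F = q at hdeg hqpos
    set A : ℕ := ∏ i : Fin n, ∏ j ∈ range (ν i + i.val), Cfsg.Agent.S2424.Qn q (j + 1) with hA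
    set B : ℕ := ∏ j ∈ range n, Cfsg.Agent.S2424.Qn q (j + 1) with hB
    set C : ℕ := ∏ i : Fin n, ∏ j ∈ univ.filter (fun j : Fin n => i < j),
      (Cfsg.Agent.S2424.Qn q (ν j + j.val) - Cfsg.Agent.S2424.Qn q (ν i + i.val)) with hC
    have hApos : 0 < A := by
      apply Finset.prod_pos
      intro i _
      apply Finset.prod_pos
      intro j _
      exact Qn_pos q hqpos j
    have e1 : (∏ i : Fin n, ∏ j ∈ Finset.range (ν i + i.val), ((∑ l ∈ Finset.range (j + 1), q ^ l : ℕ) : ℂ))
        = (A : ℂ) := by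
      rw [hA, Nat.cast_prod]
      apply Finset.prod_congr rfl
      intro i _
      rw [Nat.cast_prod]
      rfl
    have e2 : (∏ j ∈ Finset.range n, ((∑ l ∈ Finset.range (j + 1), q ^ l : ℕ) : ℂ)) = (B : ℂ) := by
      rw [hB, Nat.cast_prod]
      rfl
    have e3 : (∏ i : Fin n, ∏ j ∈ Finset.univ.filter (fun j : Fin n => i < j),
          (((∑ l ∈ Finset.range (ν j + j.val), q ^ l : ℕ) : ℂ) - ((∑ l ∈ Finset.range (ν i + i.val), q ^ l : ℕ) : ℂ)))
        = (C : ℂ) := by
      rw [hC, Nat.cast_prod]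
      apply Finset.prod_congr rfl
      intro i _
      rw [Nat.cast_prod]
      apply Finset.prod_congr rfl
      intro j hj
      have hij : i < j := (Finset.mem_filter.mp hj).2
      have hlt := Qn_strictMono q hqpos (Cfsg.Agent.Lib.helper15.Stb.strictMono_lam ν hmono hij)
      rw [Nat.cast_sub hlt.le]
      rfl
    rw [e1, e2, e3] at hdeg
    have key : ((m * q ^ (n * (n - 1) * (n - 2) / 6) * A + B * C : ℕ) : ℂ) = 0 := by
      push_cast
      linear_combination -hdeg
    have key' : m * q ^ (n * (n - 1) * (n - 2) / 6) * A + B * C = 0 := by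
      exact_mod_cast key
    have : 0 < m * q ^ (n * (n - 1) * (n - 2) / 6) * A :=
      Nat.mul_pos (Nat.mul_pos hm (pow_pos hqpos _)) hApos
    omega

end Cfsg.Agent.S2421
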