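import Mathlib
import Cfsg.Statements.S2845
import Cfsg.Agent.Lib.helper17.CharP4

set_option autoImplicit false
open Cfsg

namespace Cfsg.Agent.S2845

open Cfsg.Agent.Lib.helper17

theorem pCoreOf_ne_bot {G : Type*} [Group G] {p : ℕ} {L : Subgroup G} (h : Cfsg.pCore p ↥L ≠ ⊥) :
    Cfsg.pCoreOf p L ≠ ⊥ := by
  unfold Cfsg.pCoreOf
  intro hbot
  apply h
  rw [← le_bot_iff] at hbot ⊢
  intro x hx
  have : (x : G) ∈ (⊥ : Subgroup G) := hbot ⟨x, hx, rfl⟩
  rw [Subgroup.mem_bot] at this ⊢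
  exact Subtype.ext this

/-- part (A), first two claims -/
theorem large_charp {G : Type*} [Group G] [Finite G] {p : ℕ} [Fact p.Prime] {Q L : Subgroup G}
    (hQp : IsPGroup p Q) (hQ1 : Q ≠ ⊥) (hL : Cfsg.IsLarge Q) (hQL : Q ≤ L)
    (hP : Cfsg.pCoreOf p L ≠ ⊥) :
    IsPGroup p (Subgroup.centralizer ((Cfsg.pCoreOf p L : Subgroup G) : Set G)) ∧ CharPSub p L := by
  have hs : WCStrong p Q := large_wcStrong hL hQ1
  have hPp : IsPGroup p (Cfsg.pCoreOf p L) := pCoreOf_isPGroup p L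
  have hQP : Q ≤ Subgroup.normalizer ((Cfsg.pCoreOf p L : Subgroup G) : Set G) :=
    hQL.trans (le_normalizer_pCoreOf p L)
  have hne := inf_centralizer_ne_bot_of_pgroups hQp hPp hP hQP
  obtain ⟨y, hy, hy1'⟩ := (Subgroup.bot_or_exists_ne_one _).resolve_left hne
  have hyP : (y : G) ∈ Cfsg.pCoreOf p L := hy.1
  have hyQ : (y : G) ∈ Subgroup.centralizer (Q : Set G) := hy.2
  have hzle : Subgroup.zpowers (y : G) ≤ Subgroup.centralizer (Q : Set G) := by
    rw [Subgroup.zpowers_le]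
    exact hyQ
  have hzne : Subgroup.zpowers (y : G) ≠ ⊥ := by
    rw [Ne, Subgroup.zpowers_eq_bot]
    exact hy1'
  have hXN : Subgroup.centralizer ((Subgroup.zpowers (y : G) : Subgroup G) : Set G) ≤
      Subgroup.normalizer (Q : Set G) :=
    (Subgroup.centralizer_le_normalizer _).trans (hL.2 _ hzle hzne)
  have hQX : Q ≤ Subgroup.centralizer ((Subgroup.zpowers (y : G) : Subgroup G) : Set G) :=
    Subgroup.le_centralizer_iff.mp hzle
  have hX : CharPSub p (Subgroup.centralizer ((Subgroup.zpowers (y : G) : Subgroup G) : Set G)) := by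
    unfold CharPSub
    have hQO : Q ≤ Cfsg.pCoreOf p (Subgroup.centralizer ((Subgroup.zpowers (y : G) : Subgroup G) : Set G)) :=
      le_pCoreOf hQX hQp hXN
    refine inf_le_right.trans ?_
    refine (Subgroup.centralizer_le (SetLike.coe_subset_coe.mpr hQO)).trans ?_
    exact hL.1.trans hQO
  have hzP : Subgroup.zpowers (y : G) ≤ Cfsg.pCoreOf p L := by
    rw [Subgroup.zpowers_le]
    exact hyP
  have hD := charPSub_centralizer_of_le hPp _ _ hzP rfl hX
  obtain ⟨-, h2, h3⟩ := wc_charp_main hs hQp hL.1 hQL hD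
  exact ⟨h2, h3⟩

/-- part (A), third claim -/
theorem large_weakClosure {G : Type*} [Group G] [Finite G] {p : ℕ} [Fact p.Prime] {Q L : Subgroup G}
    (hQp : IsPGroup p Q) (hQ1 : Q ≠ ⊥) (hL : Cfsg.IsLarge Q) (hQL : Q ≤ L) :
    Cfsg.weakClosure Q L = Q ∨
      Subgroup.centralizer (((Cfsg.weakClosure Q L) : Subgroup G) : Set G) = ⊥ := by
  have hW : Cfsg.weakClosure Q L = ⨆ g : {g : G // cj g Q ≤ L}, cj (g : G) Q := rfl
  by_cases hall : ∀ g : {g : G // cj g Q ≤ L}, cj (g : G) Q = Q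
  · left
    rw [hW]
    apply le_antisymm
    · apply iSup_le
      intro g
      rw [hall g]
    · have h1 : cj (1 : G) Q ≤ L := by rw [cj_one]; exact hQL
      have := le_iSup (fun g : {g : G // cj g Q ≤ L} => cj (g : G) Q) ⟨1, h1⟩
      simpa [cj_one] using this
  · right
    obtain ⟨g, hg⟩ := not_forall.mp hall
    have hgN : (g : G) ∉ Subgroup.normalizer (Q : Set G) := fun h => hg (cj_eq_self_iff.mpr h)
    have h0 := large_centralizer_inf_eq_bot hL hQp hQ1 hgN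
    rw [← le_bot_iff, ← h0]
    have h1 : cj (1 : G) Q ≤ L := by rw [cj_one]; exact hQL
    have hQW : Q ≤ Cfsg.weakClosure Q L := by
      have := le_iSup (fun g : {g : G // cj g Q ≤ L} => cj (g : G) Q) ⟨1, h1⟩
      rw [hW]
      simpa [cj_one] using this
    have hgW : cj (g : G) Q ≤ Cfsg.weakClosure Q L := by
      rw [hW]
      exact le_iSup (fun g : {g : G // cj g Q ≤ L} => cj (g : G) Q) g
    exact le_inf (Subgroup.centralizer_le (SetLike.coe_subset_coe.mpr hQW))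
      (Subgroup.centralizer_le (SetLike.coe_subset_coe.mpr hgW))

/-- part (B) -/
theorem large_parabolic {G : Type*} [Group G] [Finite G] {p : ℕ} [Fact p.Prime] {Q R : Subgroup G}
    (hQp : IsPGroup p Q) (hQ1 : Q ≠ ⊥) (hL : Cfsg.IsLarge Q) (hR : Cfsg.IsParabolic p R)
    (hP : Cfsg.pCoreOf p R ≠ ⊥) :
    Subgroup.centralizer ((Cfsg.pCoreOf p R : Subgroup G) : Set G) ≤ Cfsg.pCoreOf p R := by
  obtain ⟨T, hTR⟩ := hR
  obtain ⟨a, ha⟩ := exists_le_cj_sylow T hQp
  have hQ'T : cj a⁻¹ Q ≤ (T : Subgroup G) := by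
    rw [cj_le_iff, inv_inv]
    exact ha
  have hQ'1 : cj a⁻¹ Q ≠ ⊥ := fun h => hQ1 (cj_eq_bot_iff.mp h)
  obtain ⟨hCp, -⟩ := large_charp (isPGroup_cj hQp) hQ'1 (large_cj hL a⁻¹) (hQ'T.trans hTR) hP
  have hRC : R ≤ Subgroup.normalizer ((Subgroup.centralizer ((Cfsg.pCoreOf p R : Subgroup G) : Set G) :
      Subgroup G) : Set G) :=
    (le_normalizer_pCoreOf p R).trans (normalizer_le_normalizer_centralizer' _)
  have hCT : Subgroup.centralizer ((Cfsg.pCoreOf p R : Subgroup G) : Set G) ≤ (T : Subgroup G) := by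
    have h1 : IsPGroup p ((T : Subgroup G) ⊔ Subgroup.centralizer ((Cfsg.pCoreOf p R : Subgroup G) : Set G) :
        Subgroup G) := T.isPGroup'.to_sup_of_normal_right' hCp (hTR.trans hRC)
    have h2 := T.3 h1 le_sup_left
    rw [← h2]
    exact le_sup_right
  exact le_pCoreOf (hCT.trans hTR) hCp hRC

/-- Let Q be a nontrivial large p-subgroup of the finite group H. Then for every subgroup L ≥ Q with O_p(L) ≠ 1, C_H(O_p(L)) is a p-group and L has characteristic p, and either the weak closure L° of Q in L equals Q or C_H(L°) = 1; for every subgroup R of H containing a Sylow p-subgroup of H with O_p(R) ≠ 1, C_H(O_p(R)) ≤ O_p(R); and H has parabolic characteristic p. -/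
theorem result {H : Type*} [Group H] [Finite H] {p : ℕ} [Fact p.Prime] (Q : Subgroup H) (hQp : IsPGroup p ↥Q) (hQ1 : Q ≠ ⊥) (hL : Cfsg.IsLarge Q) : (∀ L : Subgroup H, Q ≤ L → Cfsg.pCore p ↥L ≠ ⊥ → IsPGroup p ↥(Subgroup.centralizer (((Cfsg.pCoreOf p L) : Subgroup H) : Set H)) ∧ Subgroup.centralizer (Cfsg.pCore p ↥L : Set ↥L) ≤ Cfsg.pCore p ↥L ∧ (Cfsg.weakClosure Q L = Q ∨ Subgroup.centralizer (((Cfsg.weakClosure Q L) : Subgroup H) : Set H) = ⊥)) ∧ (∀ R : Subgroup H, Cfsg.IsParabolic p R → Cfsg.pCore p ↥R ≠ ⊥ → Subgroup.centralizer (((Cfsg.pCoreOf p R) : Subgroup H) : Set H) ≤ (Cfsg.pCoreOf p R)) ∧ Cfsg.IsOfParabolicCharacteristic p H := by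
  refine ⟨?_, ?_, ?_⟩
  · intro L hQL hP
    obtain ⟨h1, h2⟩ := large_charp hQp hQ1 hL hQL (pCoreOf_ne_bot hP)
    exact ⟨h1, (charPSub_iff p L).mpr h2, large_weakClosure hQp hQ1 hL hQL⟩
  · intro R hR hP
    exact large_parabolic hQp hQ1 hL hR (pCoreOf_ne_bot hP)
  · intro R hRp hR1 hpar
    rw [charPSub_iff]
    unfold CharPSub
    refine inf_le_right.trans ?_
    apply large_parabolic hQp hQ1 hL hpar
    intro hbot
    apply hR1
    rw [← le_bot_iff, ← hbot]
    exact le_pCoreOf Subgroup.le_normalizer hRp le_rfl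

end Cfsg.Agent.S2845
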