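import Mathlib
import Cfsg.Statements.S2824
import Cfsg.Agent.Lib.helper17.PRed6

set_option autoImplicit false
open Cfsg

namespace Cfsg.Agent.S2824

open Cfsg.Agent.Lib.helper17

theorem result {H : Type*} [Group H] [Finite H] {p : ℕ} [Fact p.Prime] (T : Sylow p H) (L M : Subgroup H) (hTL : (T : Subgroup H) ≤ L) (hTM : (T : Subgroup H) ≤ M) (hL : Subgroup.centralizer (Cfsg.pCore p ↥L : Set ↥L) ≤ Cfsg.pCore p ↥L) (hM : Subgroup.centralizer (Cfsg.pCore p ↥M : Set ↥M) ≤ Cfsg.pCore p ↥M) (T₀ : Subgroup H) (hT₀ : T₀ = (T : Subgroup H) ⊓ Subgroup.centralizer (((Cfsg.largestPReducedOf p L) : Subgroup H) : Set H)) (hfac : M ⊔ Subgroup.centralizer (((Cfsg.largestPReducedOf p L) : Subgroup H) : Set H) = L ⊔ Subgroup.centralizer (((Cfsg.largestPReducedOf p L) : Subgroup H) : Set H)) (Ls : Subgroup H) (hLs : Ls = M ⊓ Subgroup.normalizer ((T₀ : Subgroup H) : Set H)) : (Cfsg.largestPReducedOf p Ls) = (Cfsg.largestPReducedOf p L) ∧ L ⊔ Subgroup.centralizer (((Cfsg.largestPReducedOf p L) : Subgroup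 H) : Set H) = Ls ⊔ Subgroup.centralizer (((Cfsg.largestPReducedOf p L) : Subgroup H) : Set H) := by
  have hLc : CharPSub p L := (charPSub_iff p L).mp hL
  have hY : PRedIn p L (Cfsg.largestPReducedOf p L) := largestPReducedOf_pRedIn p L
  have hNC := normalizer_le_normalizer_centralizer' (Cfsg.largestPReducedOf p L)
  have hCN : Subgroup.centralizer (((Cfsg.largestPReducedOf p L) : Subgroup H) : Set H) ≤
      Subgroup.normalizer (((Cfsg.largestPReducedOf p L) : Subgroup H) : Set H) :=
    Subgroup.centralizer_le_normalizer _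
  -- M normalises Y_L
  have hMN : M ≤ Subgroup.normalizer (((Cfsg.largestPReducedOf p L) : Subgroup H) : Set H) := by
    have h1 : M ≤ M ⊔ Subgroup.centralizer (((Cfsg.largestPReducedOf p L) : Subgroup H) : Set H) := le_sup_left
    rw [hfac] at h1
    exact h1.trans (sup_le hY.2.1 hCN)
  have hT₀le : T₀ ≤ (T : Subgroup H) ⊓ Subgroup.centralizer (((Cfsg.largestPReducedOf p L) : Subgroup H) : Set H) := hT₀.le
  have hT₀ge : (T : Subgroup H) ⊓ Subgroup.centralizer (((Cfsg.largestPReducedOf p L) : Subgroup H) : Set H) ≤ T₀ := hT₀.ge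
  have hTN : (T : Subgroup H) ≤ Subgroup.normalizer (T₀ : Set H) := by
    rw [hT₀]
    exact le_normalizer_inf' Subgroup.le_normalizer ((hTM.trans hMN).trans hNC)
  have hTLs : (T : Subgroup H) ≤ Ls := by
    rw [hLs]
    exact le_inf hTM hTN
  have hLsM : Ls ≤ M := by rw [hLs]; exact inf_le_left
  have hLsN : Ls ≤ Subgroup.normalizer (T₀ : Set H) := by rw [hLs]; exact inf_le_right
  -- the factorisation
  have hMle : M ≤ Ls ⊔ Subgroup.centralizer (((Cfsg.largestPReducedOf p L) : Subgroup H) : Set H) := by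
    intro m hm
    obtain ⟨a, ha, c, hc, rfl⟩ := frattini_ambient T hTM (hMN.trans hNC) hm
    apply Subgroup.mul_mem
    · apply le_sup_left (a := Ls)
      rw [hLs, hT₀]
      exact ha
    · exact le_sup_right (a := Ls) hc.2
  have h2 : L ⊔ Subgroup.centralizer (((Cfsg.largestPReducedOf p L) : Subgroup H) : Set H) =
      Ls ⊔ Subgroup.centralizer (((Cfsg.largestPReducedOf p L) : Subgroup H) : Set H) := by
    apply le_antisymm
    · rw [← hfac]
      exact sup_le hMle le_sup_right
    · rw [← hfac]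
      exact sup_le (hLsM.trans le_sup_left) le_sup_right
  refine ⟨?_, h2⟩
  apply le_antisymm
  · -- Y_{Ls} ≤ Y_L
    have hV : PRedIn p Ls (Cfsg.largestPReducedOf p Ls) := largestPReducedOf_pRedIn p Ls
    have hT₀p : IsPGroup p T₀ := T.isPGroup'.to_le (hT₀le.trans inf_le_left)
    have hT₀O : T₀ ≤ Cfsg.pCoreOf p Ls :=
      le_pCoreOf ((hT₀le.trans inf_le_left).trans hTLs) hT₀p hLsN
    have hVc : Cfsg.largestPReducedOf p Ls ≤ Subgroup.centralizer (T₀ : Set H) :=
      hV.le_centralizer_pCoreOf.trans (Subgroup.centralizer_le (SetLike.coe_subset_coe.mpr hT₀O))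
    have hVT : Cfsg.largestPReducedOf p Ls ≤ (T : Subgroup H) := largestPReducedOf_le_sylow T hTLs
    have hOT₀ : Cfsg.pCoreOf p L ≤ T₀ :=
      le_trans (le_inf (pCoreOf_le_sylow T hTL) hY.pCoreOf_le_centralizer) hT₀ge
    have hVcO : Cfsg.largestPReducedOf p Ls ≤
        Subgroup.centralizer ((Cfsg.pCoreOf p L : Subgroup H) : Set H) :=
      hVc.trans (Subgroup.centralizer_le (SetLike.coe_subset_coe.mpr hOT₀))
    have hYV : Cfsg.largestPReducedOf p L ≤ Cfsg.largestPReducedOf p Ls :=
      largestPReducedOf_le_of_sup_eq T hTLs hTL h2.symm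
    have hW : PRedIn p L (conjClosure L (Cfsg.largestPReducedOf p Ls)) := by
      apply pRedIn_conjClosure T hTL (hVT.trans hTL)
        (conjClosure_isElementaryAbelian hLc (hVT.trans hTL) hVcO hV.2.2.1.2)
      intro D hDL hLD hp
      have hDC : D ≤ Subgroup.centralizer (((Cfsg.largestPReducedOf p L) : Subgroup H) : Set H) := by
        apply hY.2.2.2 D hDL hLD
        exact hp.mono le_rfl (Subgroup.centralizer_le (SetLike.coe_subset_coe.mpr
          (hYV.trans (le_conjClosure L _))))
      have h3 : D ⊓ (T : Subgroup H) ≤ T₀ :=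
        le_trans (le_inf inf_le_right (inf_le_left.trans hDC)) hT₀ge
      refine h3.trans ?_
      rw [Subgroup.le_centralizer_iff]
      exact hVc
    exact (le_conjClosure L _).trans (le_largestPReducedOf hW)
  · exact largestPReducedOf_le_of_sup_eq T hTLs hTL h2.symm

end Cfsg.Agent.S2824
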