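import Mathlib
import Cfsg.Statements.S2848
import Cfsg.Agent.Lib.helper17.FrakM

set_option autoImplicit false
open Cfsg

namespace Cfsg.Agent.S2848

open Cfsg.Agent.Lib.helper17

theorem cj_eq_of_cj_le {G : Type*} [Group G] [Finite G] {g : G} {K : Subgroup G} (h : cj g K ≤ K) :
    cj g K = K := by
  rw [cj_le_iff] at h
  have h1 := cj_eq_of_le_cj h
  have h2 : cj g (cj g⁻¹ K) = cj g K := by rw [h1]
  rw [cj_cj_inv] at h2
  exact h2.symm

theorem result {G : Type*} [Group G] [Finite G] {p : ℕ} [Fact p.Prime] (S : Sylow p G) (Q : Subgroup G) (hQp : IsPGroup p ↥Q) (hQ1 : Q ≠ ⊥) (hQS : Q ≤ (S : Subgroup G)) (hQ : Cfsg.IsLarge Q) (M : Subgroup G) (hSM : (S : Subgroup G) ≤ M) (hM : Cfsg.IsInFrakM p M) : Cfsg.IsWeaklyClosedSubgroup p (((Cfsg.pCoreOf p M)).subgroupOf (M ⊔ Subgroup.centralizer (((Cfsg.largestPReducedOf p M) : Subgroup G) : Set G))) := by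
  have hY : PRedIn p M (Cfsg.largestPReducedOf p M) := largestPReducedOf_pRedIn p M
  have hNC := normalizer_le_normalizer_centralizer' (Cfsg.largestPReducedOf p M)
  have hMdN : M ⊔ Subgroup.centralizer (((Cfsg.largestPReducedOf p M) : Subgroup G) : Set G) ≤
      Subgroup.normalizer (((Cfsg.largestPReducedOf p M) : Subgroup G) : Set G) :=
    sup_le hY.2.1 (Subgroup.centralizer_le_normalizer _)
  have hSC : (S : Subgroup G) ≤ Subgroup.normalizer ((Subgroup.centralizer (((Cfsg.largestPReducedOf p M) : Subgroup G) : Set G) : Subgroup G) : Set G) :=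
    (hSM.trans hY.2.1).trans hNC
  have hQM := IsInFrakM.pCoreOf_eq S hSM hM
  have hQMle : Cfsg.pCoreOf p M ≤ M ⊔ Subgroup.centralizer (((Cfsg.largestPReducedOf p M) : Subgroup G) : Set G) :=
    (pCoreOf_le p M).trans le_sup_left
  have hQ'p : IsPGroup p ((Cfsg.pCoreOf p M).subgroupOf (M ⊔ Subgroup.centralizer (((Cfsg.largestPReducedOf p M) : Subgroup G) : Set G))) :=
    (pCoreOf_isPGroup p M).comap_subtype
  rw [wcStrong_iff hQ'p]
  intro R hR hQR g hg
  have hmapQ : ((Cfsg.pCoreOf p M).subgroupOf (M ⊔ Subgroup.centralizer (((Cfsg.largestPReducedOf p M) : Subgroup G) : Set G))).map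
      (M ⊔ Subgroup.centralizer (((Cfsg.largestPReducedOf p M) : Subgroup G) : Set G)).subtype = Cfsg.pCoreOf p M := by
    rw [Subgroup.subgroupOf_map_subtype, inf_eq_left.mpr hQMle]
  have hR1 : IsPGroup p (R.map (M ⊔ Subgroup.centralizer (((Cfsg.largestPReducedOf p M) : Subgroup G) : Set G)).subtype) :=
    hR.map _
  have hQR1 : Cfsg.pCoreOf p M ≤ R.map (M ⊔ Subgroup.centralizer (((Cfsg.largestPReducedOf p M) : Subgroup G) : Set G)).subtype := by
    rw [← hmapQ]
    exact Subgroup.map_mono hQR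
  have hgQ : cj (g : G) (Cfsg.pCoreOf p M) ≤ R.map (M ⊔ Subgroup.centralizer (((Cfsg.largestPReducedOf p M) : Subgroup G) : Set G)).subtype := by
    rw [← cj_subgroupOf_map hQMle g]
    exact Subgroup.map_mono hg
  have hgC : cj (g : G) (Cfsg.pCoreOf p M) ≤ Subgroup.centralizer (((Cfsg.largestPReducedOf p M) : Subgroup G) : Set G) := by
    have h1 : cj (g : G) (Subgroup.centralizer (((Cfsg.largestPReducedOf p M) : Subgroup G) : Set G)) =
        Subgroup.centralizer (((Cfsg.largestPReducedOf p M) : Subgroup G) : Set G) :=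
      cj_eq_self_iff.mpr (hNC (hMdN g.2))
    exact le_trans (cj_mono hY.pCoreOf_le_centralizer) h1.le
  have hP : R.map (M ⊔ Subgroup.centralizer (((Cfsg.largestPReducedOf p M) : Subgroup G) : Set G)).subtype ⊓
      Subgroup.centralizer (((Cfsg.largestPReducedOf p M) : Subgroup G) : Set G) = Cfsg.pCoreOf p M := by
    rw [hQM]
    apply eq_sylow_inf_of_isPGroup S hSC (hR1.to_le inf_le_left) inf_le_right
    rw [← hQM]
    exact le_inf hQR1 hY.pCoreOf_le_centralizer
  have h5 : cj (g : G) (Cfsg.pCoreOf p M) = Cfsg.pCoreOf p M := by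
    apply cj_eq_of_cj_le
    exact le_trans (le_inf hgQ hgC) hP.le
  apply Subgroup.map_injective (Subgroup.subtype_injective _)
  rw [cj_subgroupOf_map hQMle g, h5, hmapQ]

end Cfsg.Agent.S2848
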