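import Cfsg.Statements.S0053
import Cfsg.Agent.Lib.Helper1.Frat
import Cfsg.Agent.Lib.Helper1.Nilp

set_option autoImplicit false
open Cfsg

namespace Cfsg.Agent.S0053

open Cfsg.Agent.Lib.Helper1
open scoped Pointwise

/-- An abelian minimal normal subgroup N of a finite group is complemented exactly when N is not inside the Frattini subgroup. -/
theorem result {G : Type*} [Group G] [Finite G]
    (N : Subgroup G) [N.Normal] [IsMulCommutative N] (hN : N ≠ ⊥)
    (hmin : ∀ M : Subgroup G, M.Normal → M ≤ N → M = ⊥ ∨ M = N) :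
    (∃ H : Subgroup G, Subgroup.IsComplement' N H) ↔ ¬ N ≤ frattini G := by
  have hcomm := (isMulCommutative_subgroup_iff N).mp inferInstance
  constructor
  · rintro ⟨H, hH⟩ hle
    have h1 : H ⊔ frattini G = ⊤ := by
      rw [eq_top_iff, ← hH.sup_eq_top, sup_comm]
      exact sup_le_sup_left hle H
    have h2 := frattini_nongenerating h1
    have h3 := hH.disjoint
    rw [h2, disjoint_top] at h3
    exact hN h3
  · intro hle
    rw [le_frattini_iff] at hle
    push Not at hle
    obtain ⟨M, hM, hNM⟩ := hle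
    have hsup : N ⊔ M = ⊤ := by
      apply hM.2
      refine lt_of_le_of_ne le_sup_right ?_
      intro h
      apply hNM
      rw [h]; exact le_sup_left
    have hmul : ∀ g : G, ∃ n ∈ N, ∃ m ∈ M, g = n * m := by
      intro g
      have : g ∈ ((N ⊔ M : Subgroup G) : Set G) := by rw [hsup]; trivial
      rw [Subgroup.normal_mul] at this
      obtain ⟨n, hn, m, hm, rfl⟩ := this
      exact ⟨n, hn, m, hm, rfl⟩
    have hnorm : (N ⊓ M).Normal := by
      constructor
      intro x hx g
      obtain ⟨n, hn, m, hm, rfl⟩ := hmul g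
      have h1 : m * x * m⁻¹ ∈ N ⊓ M :=
        ⟨‹N.Normal›.conj_mem x hx.1 m, M.mul_mem (M.mul_mem hm hx.2) (M.inv_mem hm)⟩
      have h2 : n * m * x * (n * m)⁻¹ = n * (m * x * m⁻¹) * n⁻¹ := by group
      rw [h2, hcomm n hn _ h1.1]
      have : m * x * m⁻¹ * n * n⁻¹ = m * x * m⁻¹ := by group
      rw [this]; exact h1
    have hbot : N ⊓ M = ⊥ := by
      rcases hmin _ hnorm inf_le_left with h | h
      · exact h
      · exact absurd (h ▸ inf_le_right : N ≤ M) hNM
    refine ⟨M, Subgroup.isComplement'_of_disjoint_and_mul_eq_univ (disjoint_iff.mpr hbot) ?_⟩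
    rw [← Subgroup.normal_mul, hsup]; rfl

end Cfsg.Agent.S0053
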