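import Mathlib
import Cfsg.Statements.S2815
import Cfsg.Agent.Lib.helper17.QS
import Cfsg.Agent.Lib.helper17.Cores

set_option autoImplicit false
open Cfsg

namespace Cfsg.Agent.S2815

open Cfsg.Agent.Lib.helper17
open scoped commutatorElement

theorem eq_bot_of_isPGroup_of_coprime_card {G : Type*} [Group G] [Finite G] {p : ℕ} [Fact p.Prime]
    {Y : Subgroup G} (hY : IsPGroup p Y) (h : (Nat.card Y).Coprime p) : Y = ⊥ := by
  apply Subgroup.eq_bot_of_card_eq
  rcases hY.card_eq_or_dvd with h1 | h1
  · exact h1
  · exfalso
    have hp : p.Prime := Fact.out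
    exact (hp.coprime_iff_not_dvd.1 h.symm) h1

theorem perfect_le_of_solvable_quotient {G : Type*} [Group G] (K : Subgroup G) [K.Normal]
    [Group.IsSolvable (G ⧸ K)] (L : Subgroup G) (hL : ⁅L, L⁆ = L) : L ≤ K := by
  have h1 : ⁅L.map (QuotientGroup.mk' K), L.map (QuotientGroup.mk' K)⁆ = L.map (QuotientGroup.mk' K) := by
    rw [← Subgroup.map_commutator, hL]
  have h2 : ∀ n, L.map (QuotientGroup.mk' K) ≤ derivedSeries (G ⧸ K) n := by
    intro n
    induction n with
    | zero => simp
    | succ n ih =>
      rw [derivedSeries_succ, ← h1]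
      exact Subgroup.commutator_mono ih ih
  obtain ⟨n, hn⟩ := (Group.isSolvable_def (G ⧸ K)).1 inferInstance
  have h3 := h2 n
  rw [hn, le_bot_iff, Subgroup.map_eq_bot_iff, QuotientGroup.ker_mk'] at h3
  exact h3

/-- Let H be a finite group and p a prime dividing its order with O_p(H) = 1, and suppose K = O^p(H) (generated by the elements of order prime to p) is quasisimple. Then K = F*(H); for every nontrivial p-subgroup Y of H, K = [K, Y] and K lies in the subgroup generated by the K-conjugates of Y; every normal subgroup of H not containing K has order prime to p; and H is p-irreducible. -/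
theorem result {H : Type*} [Group H] [Finite H] {p : ℕ} [Fact p.Prime] (hp : p ∣ Nat.card H) (hO : Cfsg.pCore p H = ⊥) (hq : Cfsg.IsQuasisimple ↥(Cfsg.pResidual p H)) : Cfsg.pResidual p H = Cfsg.generalizedFittingSubgroup H ∧ (∀ Y : Subgroup H, IsPGroup p ↥Y → Y ≠ ⊥ → ⁅Cfsg.pResidual p H, Y⁆ = Cfsg.pResidual p H ∧ Cfsg.pResidual p H ≤ ⨆ k : ↥(Cfsg.pResidual p H), Y.map (MulAut.conj (k : H)).toMonoidHom) ∧ (∀ C : Subgroup H, C.Normal → ¬ Cfsg.pResidual p H ≤ C → (Nat.card ↥C).Coprime p) ∧ Cfsg.IsPIrreducible p H := by
  have hKn : (pResidual p H).Normal := pResidual_normal p H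
  have h3 : ∀ C : Subgroup H, C.Normal → ¬ pResidual p H ≤ C → (Nat.card C).Coprime p :=
    fun C hC hKC => coprime_card_of_normal_not_ge hO hq hC hKC
  have hKcomp : IsComponent (pResidual p H) := ⟨Subgroup.Normal.isSubnormal hKn, hq⟩
  have hKperf : ⁅pResidual p H, pResidual p H⁆ = pResidual p H :=
    Cfsg.Agent.Lib.Helper10.isComponent_commutator_self hKcomp
  have hle_of_coprime : ∀ N : Subgroup H, (Nat.card N).Coprime p → N ≤ pResidual p H := by
    intro N hN x hx
    apply mem_pResidual_of_coprime
    exact Nat.Coprime.coprime_dvd_left (Subgroup.orderOf_dvd_natCard N hx) hN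
  have hKC : ¬ pResidual p H ≤ Subgroup.centralizer (pResidual p H : Set H) := by
    intro hle
    rw [← Subgroup.commutator_eq_bot_iff_le_centralizer, hKperf] at hle
    exact Cfsg.Agent.Lib.Helper10.isComponent_ne_bot hKcomp hle
  refine ⟨?_, ?_, h3, ?_⟩
  · apply le_antisymm
    · exact (Cfsg.Agent.Lib.Helper10.component_le_layer hKcomp).trans le_sup_left
    · unfold generalizedFittingSubgroup
      apply sup_le
      · unfold layer
        apply sSup_le
        intro L hL
        have hpq : IsPGroup p (H ⧸ pResidual p H) := isPGroup_quotient_pResidual p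
        have hnil : Group.IsNilpotent (H ⧸ pResidual p H) := hpq.isNilpotent
        have hsol : Group.IsSolvable (H ⧸ pResidual p H) := inferInstance
        exact perfect_le_of_solvable_quotient _ L
          (Cfsg.Agent.Lib.Helper10.isComponent_commutator_self hL)
      · unfold fittingSubgroup
        apply sSup_le
        rintro N ⟨hN1, hN2⟩
        apply hle_of_coprime
        apply h3 N hN1
        intro hKN
        have hs : Group.IsSolvable N := inferInstance
        exact Cfsg.Agent.Lib.Helper10.isComponent_not_le_of_isSolvable hKcomp hs hKN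
  · intro Y hY hYne
    have hcomm : ⁅pResidual p H, Y⁆ = pResidual p H := by
      rcases commutator_quasisimple_eq_or_bot hq (Subgroup.commutator_le_left _ Y) with h | h
      · exact h
      · exfalso
        have hYC : Y ≤ Subgroup.centralizer (pResidual p H : Set H) := by
          rw [Subgroup.commutator_comm, Subgroup.commutator_eq_bot_iff_le_centralizer] at h
          exact h
        have hCn : (Subgroup.centralizer (pResidual p H : Set H)).Normal := inferInstance
        have hcop := h3 _ hCn hKC
        apply hYne
        apply eq_bot_of_isPGroup_of_coprime_card hY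
        exact Nat.Coprime.coprime_dvd_left (Subgroup.card_dvd_of_le hYC) hcop
    refine ⟨hcomm, ?_⟩
    have hW : ⁅pResidual p H, Y⁆ ≤
        ⨆ k : ↥(Cfsg.pResidual p H), Y.map (MulAut.conj (k : H)).toMonoidHom := by
      rw [Subgroup.commutator_le]
      intro k hk y hy
      have e : ⁅k, y⁆ = (k * y * k⁻¹) * y⁻¹ := by rw [commutatorElement_def]
      rw [e]
      apply Subgroup.mul_mem
      · apply (le_iSup (fun k : ↥(Cfsg.pResidual p H) => Y.map (MulAut.conj (k : H)).toMonoidHom)
          ⟨k, hk⟩)
        exact ⟨y, hy, by simp⟩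
      · apply (le_iSup (fun k : ↥(Cfsg.pResidual p H) => Y.map (MulAut.conj (k : H)).toMonoidHom)
          1)
        exact ⟨y⁻¹, Y.inv_mem hy, by simp⟩
    rwa [hcomm] at hW
  · constructor
    · intro hcl
      obtain ⟨P⟩ := (inferInstance : Nonempty (Sylow p H))
      have hPn := hcl P
      have hle : (P : Subgroup H) ≤ pCore p H := le_pCore hPn P.2
      rw [hO, le_bot_iff] at hle
      exact P.ne_bot_of_dvd_card hp hle
    · intro N hN hNcl
      by_contra hKN
      have hcop := h3 N hN hKN
      apply hNcl
      intro P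
      have hb : (P : Subgroup N) = ⊥ := by
        apply eq_bot_of_isPGroup_of_coprime_card P.2
        exact Nat.Coprime.coprime_dvd_left (Subgroup.card_subgroup_dvd_card _) hcop
      rw [hb]
      infer_instance

end Cfsg.Agent.S2815
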