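import Mathlib
import Cfsg.Statements.S2905
import Cfsg.Agent.Lib.helper17.PMin4

set_option autoImplicit false
open Cfsg

namespace Cfsg.Agent.S2905

open Cfsg.Agent.Lib.helper17

theorem card_primeFactors_le_two {P : Type*} [Group P] [Finite P] {p : ℕ} [hp : Fact p.Prime]
    {S : Sylow p P} {M : Subgroup P} (h : UniqMax (S : Subgroup P) M)
    (hcl : ∀ T : Sylow p ↥(Cfsg.pResidual p P), (T : Subgroup ↥(Cfsg.pResidual p P)).Normal) :
    (Nat.card P).primeFactors.card ≤ 2 := by
  by_contra hcard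
  push Not at hcard
  have hF : 1 < ((Nat.card P).primeFactors.erase p).card := by
    have := Finset.pred_card_le_card_erase (s := (Nat.card P).primeFactors) (a := p)
    omega
  obtain ⟨t₁, ht₁, t₂, ht₂, hne⟩ := Finset.one_lt_card.mp hF
  rw [Finset.mem_erase, Nat.mem_primeFactors] at ht₁ ht₂
  obtain ⟨ht₁p, ht₁prime, ht₁dvd, -⟩ := ht₁
  obtain ⟨ht₂p, ht₂prime, ht₂dvd, -⟩ := ht₂
  have hP0 : Nat.card P ≠ 0 := Nat.card_pos.ne'
  have hM0 : Nat.card M ≠ 0 := Nat.card_pos.ne'
  -- every prime other than `p` has its full power dividing `|M|`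
  have key : ∀ t t' : ℕ, t.Prime → t'.Prime → t ≠ p → t' ≠ p → t' ≠ t → t' ∣ Nat.card P →
      t ^ (Nat.card P).factorization t ∣ Nat.card M := by
    intro t t' ht ht' htp ht'p htt' ht'd
    have := Fact.mk ht
    obtain ⟨X, hSX, hXt, hXq⟩ := exists_pt_subgroup S hcl t htp
    have hXne : X ≠ ⊤ := by
      intro hX
      have hc : Nat.card X = Nat.card P := by rw [hX]; exact Subgroup.card_top
      rw [← hc] at ht'd
      rcases hXq t' ht' ht'd with h1 | h1
      · exact ht'p h1
      · exact htt' h1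
    exact hXt.trans (Subgroup.card_dvd_of_le (h.uniq X hSX hXne))
  have hdvd : Nat.card P ∣ Nat.card M := by
    rw [← Nat.factorization_prime_le_iff_dvd hP0 hM0]
    intro q hq
    rw [← Nat.Prime.pow_dvd_iff_le_factorization hq hM0]
    by_cases hqp : q = p
    · subst hqp
      rw [← Sylow.card_eq_multiplicity S]
      exact Subgroup.card_dvd_of_le h.le
    · by_cases hq1 : q = t₁
      · subst hq1
        exact key q t₂ hq ht₂prime hqp ht₂p hne.symm ht₂dvd
      · exact key q t₁ hq ht₁prime hqp ht₁p (Ne.symm hq1) ht₁dvd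
  have hle : Nat.card P ≤ Nat.card M := Nat.le_of_dvd Nat.card_pos hdvd
  have hge : Nat.card M ≤ Nat.card P := Subgroup.card_le_card_group M
  exact h.coatom.1 ((Subgroup.card_eq_iff_eq_top M).mp (le_antisymm hge hle))

theorem result {P : Type*} [Group P] [Finite P] {p : ℕ} [Fact p.Prime] (hP : Cfsg.IsPMinimal p P) (S : Sylow p P) (M : Subgroup P) (hM : IsCoatom M) (hSM : (S : Subgroup P) ≤ M) [hF : M.normalCore.Normal] : (∀ N : Subgroup P, N.IsSubnormal → N ≤ M → N ⊓ (S : Subgroup P) ≤ Cfsg.pCore p P) ∧ ((∀ T : Sylow p ↥(Cfsg.pResidual p P), (T : Subgroup ↥(Cfsg.pResidual p P)).Normal) → (Nat.card P).primeFactors.card ≤ 2) ∧ (∀ N : Subgroup P, N.Normal → Cfsg.pResidual p P ≤ N ∨ N ≤ M.normalCore) ∧ (∀ N : Subgroup P, N.Normal → M.normalCore ≤ N → N ≤ Cfsg.pResidual p P ⊔ M.normalCore → N = M.normalCore ∨ N = Cfsg.pResidual p P ⊔ M.normalCore) ∧ M.normalCore < Cfsg.pResidual p P ⊔ M.normalCore := by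
  have h := uniqMax_of_isPMinimal hP S hM hSM
  have h3 : ∀ N : Subgroup P, N.Normal → Cfsg.pResidual p P ≤ N ∨ N ≤ M.normalCore := by
    intro N hN
    by_cases hNM : N ≤ M
    · right
      exact (Subgroup.normal_le_normalCore (H := M) (N := N)).mpr hNM
    · left
      have htop : N ⊔ (S : Subgroup P) = ⊤ := by
        by_contra hne
        exact hNM (le_sup_left.trans (h.uniq _ le_sup_right hne))
      have := hN
      exact pResidual_le_of_sup_eq_top N S S.isPGroup' htop
  have h5 : ¬ Cfsg.pResidual p P ≤ M.normalCore := by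
    intro hle
    apply hM.1
    rw [eq_top_iff, ← pResidual_sup_sylow S]
    exact sup_le (hle.trans (Subgroup.normalCore_le M)) hSM
  refine ⟨fun N hN hNM => h.subnormal_inf_le_pCore hN hNM, card_primeFactors_le_two h, h3, ?_, ?_⟩
  · intro N hN hFN hNle
    rcases h3 N hN with h' | h'
    · right
      exact le_antisymm hNle (sup_le h' hFN)
    · left
      exact le_antisymm h' hFN
  · refine lt_of_le_of_ne le_sup_right ?_
    intro heq
    apply h5
    rw [heq]
    exact le_sup_left

end Cfsg.Agent.S2905
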