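import Mathlib
import Cfsg.Statements.S2820
import Cfsg.Agent.Lib.helper17.Subn

set_option autoImplicit false
open Cfsg

namespace Cfsg.Agent.S2820

open Cfsg.Agent.Lib.helper17

/-- Let A and B be subnormal subgroups of the finite group H with A a p-group and B = O^p(B) (B generated by its elements of order prime to p). Then A normalizes B and B = O^p(AB), the subgroup of ⟨A, B⟩ generated by its elements of order prime to p. -/
theorem result {H : Type*} [Group H] [Finite H] {p : ℕ} [Fact p.Prime] (A B : Subgroup H) (hA : A.IsSubnormal) (hB : B.IsSubnormal) (hAp : IsPGroup p ↥A) (hBres : (Cfsg.pResidual p ↥B).map B.subtype = B) : A ≤ Subgroup.normalizer (B : Set H) ∧ (Cfsg.pResidual p ↥(A ⊔ B)).map (A ⊔ B).subtype = B := by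
  rw [map_pResidual_eq_opOf] at hBres ⊢
  have hAP : A ≤ Cfsg.pCore p H := le_pCore_of_subnormal_isPGroup hA hAp
  have hX := pCore_le_normalizer_of_subnormal_opOf hB hBres
  have hAN : A ≤ Subgroup.normalizer (B : Set H) := by
    have h1 := normalizer_le_normalizer_opOf p (Cfsg.pCore p H ⊔ B)
    rw [hX] at h1
    exact (hAP.trans le_sup_left).trans (Subgroup.le_normalizer.trans h1)
  refine ⟨hAN, le_antisymm ?_ ?_⟩
  · exact opOf_le_of_le_sup le_sup_right (sup_le hAN Subgroup.le_normalizer) hAp le_sup_left
      (by rw [sup_comm])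
  · conv_lhs => rw [← hBres]
    exact opOf_mono le_sup_right

end Cfsg.Agent.S2820
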