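import Mathlib
import Cfsg.Statements.S2804
import Cfsg.Agent.S2820
import Cfsg.Agent.Lib.helper17.PRed2
import Cfsg.Agent.Lib.helper17.PIrr
import Cfsg.Agent.Lib.helper17.CharP

set_option autoImplicit false
open Cfsg

namespace Cfsg.Agent.S2804

open Cfsg.Agent.Lib.helper17
open scoped commutatorElement

theorem opOf_isSubnormal {L : Type*} [Group L] (p : ℕ) {K : Subgroup L} (hK : K.IsSubnormal) :
    (opOf p K).IsSubnormal := by
  apply Subgroup.IsSubnormal.trans (opOf_le p K) _ hK
  apply Subgroup.Normal.isSubnormal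
  rw [Subgroup.normal_subgroupOf_iff_le_normalizer (opOf_le p K)]
  exact Subgroup.le_normalizer.trans (normalizer_le_normalizer_opOf p K)

/-- The defining property of a `p`-reduced normal subgroup, for subnormal subgroups. -/
theorem le_centralizer_of_subnormal_pPowIn {L : Type*} [Group L] {p : ℕ} [Fact p.Prime] {V D : Subgroup L}
    (hV : Cfsg.IsPReducedNormal p V) (hD : D.IsSubnormal)
    (hp : PPowIn p D (Subgroup.centralizer (V : Set L))) : D ≤ Subgroup.centralizer (V : Set L) := by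
  obtain ⟨hVn, hVel, hCn, hcore⟩ := hV
  have hsub : (D.map (QuotientGroup.mk' (Subgroup.centralizer (V : Set L)))).IsSubnormal :=
    hD.map (QuotientGroup.mk'_surjective _)
  have hpg : IsPGroup p (D.map (QuotientGroup.mk' (Subgroup.centralizer (V : Set L)))) := by
    rintro ⟨_, d, hd, rfl⟩
    obtain ⟨k, hk⟩ := hp d hd
    refine ⟨k, ?_⟩
    apply Subtype.ext
    rw [Subgroup.coe_pow, Subgroup.coe_one]
    show (QuotientGroup.mk' (Subgroup.centralizer (V : Set L)) d) ^ (p ^ k) = 1
    rw [← map_pow]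
    exact (QuotientGroup.eq_one_iff _).mpr hk
  have h1 := le_pCore_of_subnormal_isPGroup hsub hpg
  rw [hcore] at h1
  intro d hd
  have h2 : QuotientGroup.mk' (Subgroup.centralizer (V : Set L)) d ∈
      (⊥ : Subgroup (L ⧸ Subgroup.centralizer (V : Set L))) := h1 ⟨d, hd, rfl⟩
  rw [Subgroup.mem_bot] at h2
  exact (QuotientGroup.eq_one_iff d).mp h2

theorem result {L : Type*} [Group L] [Finite L] {p : ℕ} [Fact p.Prime] (hchar : Subgroup.centralizer (Cfsg.pCore p L : Set L) ≤ Cfsg.pCore p L) (V : Subgroup L) (hV : Cfsg.IsPReducedNormal p V) (K : Subgroup L) (hK : K.IsSubnormal) : ⁅V, (Cfsg.pResidual p ↥K).map K.subtype⁆ ≤ K ∧ Cfsg.IsPReducedNormal p ((⁅V, (Cfsg.pResidual p ↥K).map K.subtype⁆).subgroupOf K) := by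
  rw [map_pResidual_eq_opOf]
  have hp := (Fact.out : p.Prime)
  have hVn : V.Normal := hV.1
  have hVel := hV.2.1
  have hVp : IsPGroup p V := isPGroup_of_isElementaryAbelian hVel
  have hVtop : Subgroup.normalizer (V : Set L) = ⊤ := Subgroup.normalizer_eq_top_iff.mpr hVn
  have hVB : V ≤ Subgroup.normalizer ((opOf p K : Subgroup L) : Set L) :=
    (Cfsg.Agent.S2820.result V (opOf p K) hVn.isSubnormal (opOf_isSubnormal p hK) hVp
      (by rw [map_pResidual_eq_opOf, opOf_opOf])).1
  have hWB : ⁅V, opOf p K⁆ ≤ opOf p K := Subgroup.le_normalizer_iff_commutator_le_right.mp hVB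
  have hWK : ⁅V, opOf p K⁆ ≤ K := hWB.trans (opOf_le p K)
  have hWV : ⁅V, opOf p K⁆ ≤ V := Subgroup.commutator_le_left V (opOf p K)
  refine ⟨hWK, ?_⟩
  rw [isPReducedNormal_iff_pRedIn_map, Subgroup.map_subgroupOf_eq_of_le hWK]
  have hKW : K ≤ Subgroup.normalizer ((⁅V, opOf p K⁆ : Subgroup L) : Set L) := by
    apply le_normalizer_commutator
    · rw [hVtop]; exact le_top
    · exact Subgroup.le_normalizer.trans (normalizer_le_normalizer_opOf p K)
  have hWp : IsPGroup p ↥(⁅V, opOf p K⁆ : Subgroup L) := hVp.to_le hWV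
  refine ⟨hWK, hKW, isElementaryAbelian_mono hVel hWV, ?_⟩
  intro D hDK hKD hpp
  have hDsub : D.IsSubnormal := by
    apply Subgroup.IsSubnormal.trans hDK _ hK
    apply Subgroup.Normal.isSubnormal
    rw [Subgroup.normal_subgroupOf_iff_le_normalizer hDK]
    exact hKD
  have step1 : ∀ x ∈ D, Nat.Coprime (orderOf x) p → x ∈ Subgroup.centralizer (V : Set L) := by
    intro x hx hc
    obtain ⟨k, hk⟩ := hpp x hx
    have hxW : x ∈ Subgroup.centralizer ((⁅V, opOf p K⁆ : Subgroup L) : Set L) :=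
      mem_of_coprime_of_pow_mem hc hk
    have hxB : x ∈ opOf p K := mem_opOf (hDK hx) hc
    have h1 : ∀ v ∈ V, ⁅x, v⁆ ∈ (⁅V, opOf p K⁆ : Subgroup L) := by
      intro v hv
      have := Subgroup.commutator_mem_commutator hv hxB
      rw [← commutatorElement_inv]
      exact Subgroup.inv_mem _ this
    have h2 : ∀ z ∈ (⁅V, opOf p K⁆ : Subgroup L), x * z = z * x := by
      intro z hz
      exact ((Subgroup.mem_centralizer_iff.mp hxW) z hz).symm
    have h3 := centralizes_of_stabilizes_chain hc hWp h1 h2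
    rw [Subgroup.mem_centralizer_iff]
    intro v hv
    exact (h3 v hv).symm
  have step2 : PPowIn p D (Subgroup.centralizer (V : Set L)) := by
    intro d hd
    have hpos : 0 < orderOf d := orderOf_pos d
    obtain ⟨k, m, hm, hkm⟩ := Nat.exists_eq_pow_mul_and_not_dvd hpos.ne' p hp.ne_one
    refine ⟨k, ?_⟩
    have h1 : orderOf (d ^ (p ^ k)) = m := by
      rw [orderOf_pow' d (pow_ne_zero k hp.ne_zero), hkm, Nat.gcd_eq_right (dvd_mul_right _ _),
        Nat.mul_div_cancel_left _ (pow_pos hp.pos k)]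
    apply step1 _ (D.pow_mem hd _)
    rw [h1]
    exact ((Nat.Prime.coprime_iff_not_dvd hp).mpr hm).symm
  have step3 := le_centralizer_of_subnormal_pPowIn hV hDsub step2
  exact step3.trans (Subgroup.centralizer_le (SetLike.coe_subset_coe.mpr hWV))

end Cfsg.Agent.S2804
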