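import Cfsg.Statements.S0300
import Cfsg.Agent.S0288
import Cfsg.Agent.S0292
import Cfsg.Agent.S0791
import Cfsg.Agent.S0299
import Cfsg.Agent.Lib.Lead.PSL2Orth
import Cfsg.Agent.Lib.Lead.PSL2Orth4
import Cfsg.Agent.Lib.Lead.PSL2Orth4m
import Cfsg.Agent.Lib.Lead.CenterQuot
import Cfsg.Agent.Lib.Helper16.HermQuad
import Cfsg.Agent.Lib.Helper16.FieldExt
import Cfsg.Agent.Lib.helper14.SL2Card

set_option autoImplicit false
open Cfsg

namespace Cfsg.Agent.S0300

open Cfsg.Agent.Lib.Lead Cfsg.Agent.Lib.Helper16 Matrix Module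

/-- the data needed for the hermitian model of the minus-type form -/
theorem exists_data {F K : Type*} [Field F] [Fintype F] [Field K] [Fintype K] {q : ℕ}
    (hF : Fintype.card F = q) (hK : Fintype.card K = q ^ 2) (a b : F)
    (hab : ∀ z₁ z₂ : F, z₁ ^ 2 + a * z₁ * z₂ + b * z₂ ^ 2 = 0 → z₁ = 0 ∧ z₂ = 0) :
    ∃ (i : F →+* K) (σ : K →+* K) (θ : K), (∀ x, σ (σ x) = x) ∧
      (∀ x, σ x = x → ∃ t, i t = x) ∧ θ ≠ σ θ ∧ θ + σ θ = i a ∧ θ * σ θ = i b := by
  obtain ⟨alg, hfr⟩ := exists_algebra_of_card hK hF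
  let _ := alg
  set σ : K →ₐ[F] K := FiniteField.frobeniusAlgHom F K with hσ
  obtain ⟨r, hr⟩ := exists_root_of_aniso hfr a b hab
  have hrF : ∀ t : F, algebraMap F K t ≠ r := by
    intro t ht
    rw [← ht] at hr
    have h0 : algebraMap F K (t ^ 2 + a * t * 1 + b * 1 ^ 2) = 0 := by
      rw [← hr]
      simp only [map_add, map_mul, map_pow, map_one]
      ring
    have := hab t 1 ((algebraMap F K).injective (by rw [h0, map_zero]))
    exact one_ne_zero this.2
  set s := σ r with hs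
  have hsroot : s ^ 2 + algebraMap F K a * s + algebraMap F K b = 0 := by
    have := congrArg σ hr
    rwa [map_add, map_add, map_mul, map_pow, AlgHom.commutes, AlgHom.commutes, map_zero] at this
  have hsr : s ≠ r := by
    intro h
    obtain ⟨t, ht⟩ := frob_fixed hfr r h
    exact hrF t ht
  have hsum : r + s = -algebraMap F K a := by
    have h1 : (r - s) * (r + s + algebraMap F K a) = 0 := by linear_combination hr - hsroot
    rcases mul_eq_zero.mp h1 with h1 | h1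
    · exact absurd (sub_eq_zero.mp h1).symm hsr
    · linear_combination h1
  have hprod : r * s = algebraMap F K b := by
    have : s = -algebraMap F K a - r := by linear_combination hsum
    rw [this]
    linear_combination (-1 : K) * hr
  refine ⟨algebraMap F K, σ.toRingHom, -r, ?_, ?_, ?_, ?_, ?_⟩
  · intro x
    exact frob_frob hK hF x
  · intro x hx
    exact frob_fixed hfr x hx
  · intro h
    apply hsr
    have : σ (-r) = -s := by rw [map_neg]
    change -r = σ (-r) at h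
    rw [this] at h
    exact (neg_injective h).symm
  · change -r + σ (-r) = _
    rw [map_neg]
    linear_combination (-1 : K) * hsum
  · change -r * σ (-r) = _
    rw [map_neg]
    linear_combination hprod

section main

variable {F K : Type*} [Field F] [Field K]

/-- the index equivalence -/
def e4m : Fin 4 ≃ (Fin 1 ⊕ Fin 1) ⊕ Fin 2 where
  toFun i := if i = 0 then Sum.inl (Sum.inl 0) else if i = 1 then Sum.inl (Sum.inr 0) else
    if i = 2 then Sum.inr 0 else Sum.inr 1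
  invFun x := match x with
    | Sum.inl (Sum.inl _) => 0
    | Sum.inl (Sum.inr _) => 1
    | Sum.inr i => if i = 0 then 2 else 3
  left_inv i := by fin_cases i <;> rfl
  right_inv x := by
    rcases x with (x | x) | x
    · have : x = 0 := Subsingleton.elim _ _
      subst this; rfl
    · have : x = 0 := Subsingleton.elim _ _
      subst this; rfl
    · fin_cases x <;> rfl

theorem quadFormMinus_comp (a b : F) (y : Fin 4 → F) :
    Cfsg.quadFormMinus 1 F a b (y ∘ e4m.symm) = PO4m.qm a b y := by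
  simp [Cfsg.quadFormMinus, PO4m.qm, e4m]

variable (i : F →+* K) (σ : K →+* K) (hσσ : ∀ x, σ (σ x) = x)
  (hfix : ∀ x, σ x = x → ∃ t, i t = x) (θ : K) (hθ : θ ≠ σ θ)

/-- `SL₂(K) → M₄(F)` -/
noncomputable def rhoM : Matrix.SpecialLinearGroup (Fin 2) K →* Matrix (Fin 4) (Fin 4) F where
  toFun A := PO4m.rhoF i σ θ (A : Matrix (Fin 2) (Fin 2) K)
  map_one' := by
    change PO4m.rhoF i σ θ (1 : Matrix (Fin 2) (Fin 2) K) = 1
    exact PO4m.rhoF_one i σ hσσ hfix θ hθ
  map_mul' A B := by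
    change PO4m.rhoF i σ θ ((A : Matrix (Fin 2) (Fin 2) K) * (B : Matrix (Fin 2) (Fin 2) K)) = _
    exact PO4m.rhoF_mul i σ hσσ hfix θ hθ _ _

/-- `SL₂(K) → GL₄(F)` indexed by `(Fin 1 ⊕ Fin 1) ⊕ Fin 2` -/
noncomputable def rhoGL : Matrix.SpecialLinearGroup (Fin 2) K →* GL ((Fin 1 ⊕ Fin 1) ⊕ Fin 2) F :=
  (RI.glReindex (F := F) e4m).toMonoidHom.comp (rhoM i σ hσσ hfix θ hθ).toHomUnits

theorem rhoGL_coe (A : Matrix.SpecialLinearGroup (Fin 2) K) :
    ((rhoGL i σ hσσ hfix θ hθ A : GL ((Fin 1 ⊕ Fin 1) ⊕ Fin 2) F) : Matrix _ _ F) =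
      Matrix.reindex e4m e4m (PO4m.rhoF i σ θ (A : Matrix (Fin 2) (Fin 2) K)) := rfl

theorem rhoGL_mem (a b : F) (h1 : θ + σ θ = i a) (h2 : θ * σ θ = i b)
    (A : Matrix.SpecialLinearGroup (Fin 2) K) :
    rhoGL i σ hσσ hfix θ hθ A ∈ Cfsg.isometryGroup F (Cfsg.quadFormMinus 1 F a b) := by
  rw [RI.mem_iso_iff']
  intro x
  rw [rhoGL_coe, RI.reindex_mulVec, quadFormMinus_comp,
    PO4m.rhoF_iso i σ hσσ hfix θ hθ a b h1 h2 _ A.det_coe, ← quadFormMinus_comp]
  congr 1
  funext k; simp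

/-- `SL₂(K) → GO₄⁻(F)` -/
noncomputable def rho (a b : F) (h1 : θ + σ θ = i a) (h2 : θ * σ θ = i b) :
    Matrix.SpecialLinearGroup (Fin 2) K →*
    ↥(Cfsg.isometryGroup F (Cfsg.quadFormMinus 1 F a b)) :=
  (rhoGL i σ hσσ hfix θ hθ).codRestrict _ (rhoGL_mem i σ hσσ hfix θ hθ a b h1 h2)

theorem rho_eq_one_iff (a b : F) (h1 : θ + σ θ = i a) (h2 : θ * σ θ = i b)
    (A : Matrix.SpecialLinearGroup (Fin 2) K) :
    rho i σ hσσ hfix θ hθ a b h1 h2 A = 1 ↔
      PO4m.rhoF i σ θ (A : Matrix (Fin 2) (Fin 2) K) = 1 := by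
  rw [Subtype.ext_iff]
  change rhoGL i σ hσσ hfix θ hθ A = 1 ↔ _
  unfold rhoGL
  rw [MonoidHom.comp_apply]
  change (RI.glReindex (F := F) e4m) _ = 1 ↔ _
  rw [MulEquiv.map_eq_one_iff, Units.ext_iff]
  rfl

theorem ker_scalar (a b : F) (h1 : θ + σ θ = i a) (h2 : θ * σ θ = i b)
    (A : Matrix.SpecialLinearGroup (Fin 2) K)
    (h : rho i σ hσσ hfix θ hθ a b h1 h2 A = 1) :
    ∃ c : K, c ^ 2 = 1 ∧ Matrix.scalar (Fin 2) c = (A : Matrix (Fin 2) (Fin 2) K) := by
  rw [rho_eq_one_iff] at h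
  have h3 := PO4m.rhoF_ker i σ hσσ hfix θ hθ _ h
  unfold PO4m.Rh at h3
  obtain ⟨c, hc, hA, -⟩ := PO4.ker_scalar A (Matrix.SpecialLinearGroup.map σ A) (by
    rw [Matrix.SpecialLinearGroup.map_apply_coe, RingHom.mapMatrix_apply]; exact h3)
  exact ⟨c, hc, hA⟩

theorem ker_subset (a b : F) (h1 : θ + σ θ = i a) (h2 : θ * σ θ = i b) :
    ((rho i σ hσσ hfix θ hθ a b h1 h2).ker : Set (Matrix.SpecialLinearGroup (Fin 2) K)) ⊆
      {1, -1} := by
  intro A hA
  rw [SetLike.mem_coe, MonoidHom.mem_ker] at hA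
  obtain ⟨c, hc, hA⟩ := ker_scalar i σ hσσ hfix θ hθ a b h1 h2 A hA
  rcases sq_eq_one_iff.mp hc with h | h
  · left
    apply Subtype.ext
    rw [← hA, h]; simp
  · right
    apply Subtype.ext
    rw [← hA, h, Matrix.SpecialLinearGroup.coe_neg, Matrix.SpecialLinearGroup.coe_one,
      Matrix.scalar_apply, ← Matrix.smul_one_eq_diagonal, neg_one_smul]

variable [Fintype F] [Fintype K]

theorem card_ker_le (a b : F) (h1 : θ + σ θ = i a) (h2 : θ * σ θ = i b) :
    Nat.card ↥(rho i σ hσσ hfix θ hθ a b h1 h2).ker ≤ 2 := by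
  classical
  have e1 : Nat.card ↥(rho i σ hσσ hfix θ hθ a b h1 h2).ker =
      ((rho i σ hσσ hfix θ hθ a b h1 h2).ker :
        Set (Matrix.SpecialLinearGroup (Fin 2) K)).ncard := rfl
  rw [e1]
  refine le_trans (Set.ncard_le_ncard (ker_subset i σ hσσ hfix θ hθ a b h1 h2)
    (Set.toFinite _)) ?_
  refine le_trans (Set.ncard_insert_le _ _) ?_
  rw [Set.ncard_singleton]

theorem card_ker_char2 (a b : F) (h1 : θ + σ θ = i a) (h2 : θ * σ θ = i b) (hc2 : (2 : F) = 0) :
    Nat.card ↥(rho i σ hσσ hfix θ hθ a b h1 h2).ker = 1 := by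
  have : (rho i σ hσσ hfix θ hθ a b h1 h2).ker = ⊥ := by
    rw [eq_bot_iff]
    intro p hp
    rw [Subgroup.mem_bot]
    have hK2 : (2 : K) = 0 := by
      have := congrArg i hc2
      rwa [map_ofNat, map_zero] at this
    have hneg : (-1 : Matrix.SpecialLinearGroup (Fin 2) K) = 1 := by
      apply Subtype.ext
      rw [Matrix.SpecialLinearGroup.coe_neg, Matrix.SpecialLinearGroup.coe_one]
      have : (-1 : K) = 1 := by
        rw [neg_eq_iff_add_eq_zero, one_add_one_eq_two, hK2]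
      rw [← neg_one_smul K (1 : Matrix (Fin 2) (Fin 2) K), this, one_smul]
    rcases ker_subset i σ hσσ hfix θ hθ a b h1 h2 hp with h | h
    · exact h
    · rw [Set.mem_singleton_iff] at h
      rw [h, hneg]
  rw [this]
  exact Subgroup.card_bot

theorem card_eq (a b : F) (h1 : θ + σ θ = i a) (h2 : θ * σ θ = i b) :
    Nat.card (Matrix.SpecialLinearGroup (Fin 2) K) =
      Nat.card ↥(rho i σ hσσ hfix θ hθ a b h1 h2).range *
        Nat.card ↥(rho i σ hσσ hfix θ hθ a b h1 h2).ker := by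
  have e1 := Subgroup.card_eq_card_quotient_mul_card_subgroup
    (rho i σ hσσ hfix θ hθ a b h1 h2).ker
  have e2 : Nat.card (Matrix.SpecialLinearGroup (Fin 2) K ⧸
      (rho i σ hσσ hfix θ hθ a b h1 h2).ker) =
      Nat.card ↥(rho i σ hσσ hfix θ hθ a b h1 h2).range :=
    Nat.card_congr (QuotientGroup.quotientKerEquivRange
      (rho i σ hσσ hfix θ hθ a b h1 h2)).toEquiv
  rw [e1, e2]

theorem exists_unit_K {q : ℕ} (hq : 2 ≤ q) (hK : Fintype.card K = q ^ 2) :
    ∃ c : K, c ≠ 0 ∧ c ^ 2 ≠ 1 := by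
  classical
  by_contra hcon
  push Not at hcon
  have hsub : (Finset.univ : Finset K) ⊆ {0, 1, -1} := by
    intro c _
    by_cases hc : c = 0
    · simp [hc]
    · rcases sq_eq_one_iff.mp (hcon c hc) with h | h
      · simp [h]
      · simp [h]
  have := Finset.card_le_card hsub
  rw [Finset.card_univ, hK] at this
  have h3 : ({0, 1, -1} : Finset K).card ≤ 3 := Finset.card_le_three
  have : 4 ≤ q ^ 2 := by nlinarith
  omega

theorem range_le {q : ℕ} (hF : Fintype.card F = q) (hK : Fintype.card K = q ^ 2)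
    (a b : F) (h1 : θ + σ θ = i a) (h2 : θ * σ θ = i b) :
    (rho i σ hσσ hfix θ hθ a b h1 h2).range ≤ Cfsg.Omega F (Cfsg.quadFormMinus 1 F a b) := by
  have hq : 2 ≤ q := by rw [← hF]; exact Fintype.one_lt_card
  obtain ⟨c, hc, hcsq⟩ := exists_unit_K hq hK
  rintro _ ⟨A, rfl⟩
  exact S0299.sl2_hom_mem_of_perfect _ hc hcsq A

theorem range_eq {q : ℕ} (hF : Fintype.card F = q) (hK : Fintype.card K = q ^ 2)
    (a b : F) (hab : ∀ z₁ z₂ : F, z₁ ^ 2 + a * z₁ * z₂ + b * z₂ ^ 2 = 0 → z₁ = 0 ∧ z₂ = 0)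
    (h1 : θ + σ θ = i a) (h2 : θ * σ θ = i b) :
    (rho i σ hσσ hfix θ hθ a b h1 h2).range = Cfsg.Omega F (Cfsg.quadFormMinus 1 F a b) := by
  have hq : 2 ≤ q := by rw [← hF]; exact Fintype.one_lt_card
  have hGO := Cfsg.Agent.S0288.result hF 2 (by norm_num) a b hab
  have hsl := Cfsg.Agent.Lib.helper14.card_sl2 (F := K)
  have hprod := card_eq i σ hσσ hfix θ hθ a b h1 h2
  rw [hsl, hK] at hprod
  simp only [Nat.add_one_sub_one, mul_one, Finset.prod_range_one, zero_add] at hGO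
  set N := q ^ 2 * ((q ^ 2) ^ 2 - 1) with hN
  have hN2 : 2 * q ^ 2 * (q ^ 2 + 1) * (q ^ 2 - 1) = 2 * N := by
    rw [hN]
    have h1q : 1 ≤ q ^ 2 := Nat.one_le_pow _ _ (by omega)
    have : (q ^ 2 + 1) * (q ^ 2 - 1) = (q ^ 2) ^ 2 - 1 := by
      zify [h1q, Nat.one_le_pow 2 (q ^ 2) h1q]
      ring
    rw [← this]; ring
  rw [hN2] at hGO
  have hle := range_le i σ hσσ hfix θ hθ hF hK a b h1 h2
  by_cases hc2 : (2 : F) = 0
  · -- index two
    rw [card_ker_char2 i σ hσσ hfix θ hθ a b h1 h2 hc2, mul_one] at hprod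
    have hidx : (rho i σ hσσ hfix θ hθ a b h1 h2).range.index = 2 := by
      have := Subgroup.card_mul_index (rho i σ hσσ hfix θ hθ a b h1 h2).range
      rw [hGO, ← hprod] at this
      have hNpos : 0 < N := by
        rw [hprod]; exact Nat.card_pos
      nlinarith
    have hnorm : (rho i σ hσσ hfix θ hθ a b h1 h2).range.Normal :=
      Subgroup.normal_of_index_eq_two hidx
    apply le_antisymm hle
    have hcomm : IsMulCommutative (↥(Cfsg.isometryGroup F (Cfsg.quadFormMinus 1 F a b)) ⧸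
        (rho i σ hσσ hfix θ hθ a b h1 h2).range) := by
      have hcard : Nat.card (↥(Cfsg.isometryGroup F (Cfsg.quadFormMinus 1 F a b)) ⧸
        (rho i σ hσσ hfix θ hθ a b h1 h2).range) = 2 := hidx
      have : Fact (Nat.Prime 2) := ⟨Nat.prime_two⟩
      have hcyc := isCyclic_of_prime_card hcard
      exact hcyc.isMulCommutative
    exact Subgroup.Normal.quotient_commutative_iff_commutator_le.mp hcomm
  · have hidx : (Cfsg.Omega F (Cfsg.quadFormMinus 1 F a b)).index = 4 := by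
      have hcard : Fintype.card ((Fin 1 ⊕ Fin 1) ⊕ Fin 2) = 4 := by
        simp only [Fintype.card_sum, Fintype.card_fin]
      have := RI.index_omega_general hc2 (by rw [hcard]; omega) (qfMinus 1 F a b)
        (S0791.nondeg_minus 1 a b hab)
      rw [qfMinus_coe] at this
      exact this
    have e1 := Subgroup.card_mul_index (Cfsg.Omega F (Cfsg.quadFormMinus 1 F a b))
    rw [hidx, hGO] at e1
    apply Subgroup.eq_of_le_of_card_ge hle
    have := card_ker_le i σ hσσ hfix θ hθ a b h1 h2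
    have h3 : N ≤ Nat.card ↥(rho i σ hσσ hfix θ hθ a b h1 h2).range * 2 := by
      rw [hprod]; exact Nat.mul_le_mul_left _ this
    omega

end main

/-- PΩ^-_4(q) is isomorphic to PSL_2(q^2). -/
theorem result {F K : Type*} [Field F] [Fintype F] [Field K] [Fintype K] {q : ℕ} (hF : Fintype.card F = q) (hK : Fintype.card K = q ^ 2) (a b : F) (hab : ∀ z₁ z₂ : F, z₁ ^ 2 + a * z₁ * z₂ + b * z₂ ^ 2 = 0 → z₁ = 0 ∧ z₂ = 0) : Nonempty (Cfsg.POmega F (Cfsg.quadFormMinus 1 F a b) ≃* Matrix.ProjectiveSpecialLinearGroup (Fin 2) K) := by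
  obtain ⟨i, σ, θ, hσσ, hfix, hθ, h1, h2⟩ := exists_data hF hK a b hab
  set Z := Subgroup.center (Matrix.SpecialLinearGroup (Fin 2) K) with hZ
  let φ : Matrix.SpecialLinearGroup (Fin 2) K →*
      ↥(Cfsg.Omega F (Cfsg.quadFormMinus 1 F a b)) :=
    (rho i σ hσσ hfix θ hθ a b h1 h2).codRestrict _
      (fun p => range_le i σ hσσ hfix θ hθ hF hK a b h1 h2 ⟨p, rfl⟩)
  have hφ : Function.Surjective φ := by
    rintro ⟨z, hz⟩
    rw [← range_eq i σ hσσ hfix θ hθ hF hK a b hab h1 h2] at hz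
    obtain ⟨p, hp⟩ := hz
    exact ⟨p, Subtype.ext hp⟩
  refine CQ.pquot_equiv φ hφ (QuotientGroup.mk' Z) (QuotientGroup.mk'_surjective Z) ?_ ?_
    PO3.center_psl2
  · intro p hp
    rw [QuotientGroup.ker_mk']
    have h3 : rho i σ hσσ hfix θ hθ a b h1 h2 p = 1 := by
      have := MonoidHom.mem_ker.mp hp
      exact congrArg Subtype.val this
    obtain ⟨c, hc, hA⟩ := ker_scalar i σ hσσ hfix θ hθ a b h1 h2 p h3
    rw [hZ, Matrix.SpecialLinearGroup.mem_center_iff]
    exact ⟨c, by simpa using hc, hA⟩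
  · rw [QuotientGroup.ker_mk']

end Cfsg.Agent.S0300
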