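import Cfsg.Statements.S0302
import Cfsg.Agent.S0287
import Cfsg.Agent.S0292
import Cfsg.Agent.Lib.Lead.PSL4Orth
import Cfsg.Agent.Lib.Lead.CenterQuot
import Cfsg.Agent.Lib.Lead.DicksonGen
import Cfsg.Agent.Lib.Lead.SLn
import Cfsg.Agent.Lib.Helper16.PlusFam
import Cfsg.Agent.Lib.helper14.SL2Card

set_option autoImplicit false
open Cfsg

namespace Cfsg.Agent.S0302

open Cfsg.Agent.Lib.Lead Cfsg.Agent.Lib.Helper16 Matrix

instance evenFin4 : Fact (Even (Fintype.card (Fin 4))) := ⟨by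
  rw [Fintype.card_fin]; exact ⟨2, rfl⟩⟩

section main

variable {F : Type*} [Field F] [Fintype F]

/-- `|SL₄(q)| = q⁶ (q² - 1)(q³ - 1)(q⁴ - 1)` -/
theorem card_sl4 :
    Nat.card (Matrix.SpecialLinearGroup (Fin 4) F) =
      Fintype.card F ^ 6 * (Fintype.card F ^ 2 - 1) * (Fintype.card F ^ 3 - 1) *
        (Fintype.card F ^ 4 - 1) := by
  classical
  have h1 := Cfsg.Agent.Lib.helper14.card_GL_eq_card_SL_mul (F := F) 4 (by norm_num)
  have h2 := Matrix.card_GL_field (𝔽 := F) 4
  rw [h2, Fin.prod_univ_four] at h1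
  simp only [Fin.val_zero, Fin.val_one, pow_zero, pow_one] at h1
  have hq : 1 < Fintype.card F := Fintype.one_lt_card
  have hu : Nat.card Fˣ = Fintype.card F - 1 := by
    rw [Nat.card_eq_fintype_card, Fintype.card_units]
  rw [hu] at h1
  set q := Fintype.card F with hqdef
  have e1 : q ^ 4 - q = q * (q ^ 3 - 1) := by
    rw [Nat.mul_sub, mul_one]; ring_nf
  have e2 : q ^ 4 - q ^ ((2 : Fin 4) : ℕ) = q ^ 2 * (q ^ 2 - 1) := by
    rw [Nat.mul_sub, mul_one]
    have : ((2 : Fin 4) : ℕ) = 2 := rfl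
    rw [this]; ring_nf
  have e3 : q ^ 4 - q ^ ((3 : Fin 4) : ℕ) = q ^ 3 * (q - 1) := by
    rw [Nat.mul_sub, mul_one]
    have : ((3 : Fin 4) : ℕ) = 3 := rfl
    rw [this]; ring_nf
  rw [e1, e2, e3] at h1
  have hpos : 0 < q - 1 := by omega
  apply Nat.eq_of_mul_eq_mul_right hpos
  rw [← h1]
  ring

theorem range_le :
    (PO6.rho (F := F)).range ≤ Cfsg.Omega F (Cfsg.quadFormPlus 3 F) := by
  rintro _ ⟨A, rfl⟩
  have h1 : A ∈ commutator (Matrix.SpecialLinearGroup (Fin 4) F) := by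
    rw [SL_commutator_eq_top (by simp)]; exact Subgroup.mem_top _
  have h2 : PO6.rho A ∈ (commutator (Matrix.SpecialLinearGroup (Fin 4) F)).map PO6.rho :=
    Subgroup.mem_map_of_mem _ h1
  rw [map_commutator_eq] at h2
  change PO6.rho A ∈ commutator _
  rw [commutator_def]
  exact Subgroup.commutator_mono le_top le_top h2

theorem ker_subset :
    ((PO6.rho (F := F)).ker : Set (Matrix.SpecialLinearGroup (Fin 4) F)) ⊆ {1, -1} := by
  intro A hA
  rw [SetLike.mem_coe, MonoidHom.mem_ker, PO6.rho_eq_one_iff] at hA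
  obtain ⟨a, ha, hA⟩ := PO6.ker_scalar _ hA
  rcases sq_eq_one_iff.mp ha with h | h
  · left
    apply Subtype.ext
    rw [← hA, h]; simp
  · right
    apply Subtype.ext
    rw [← hA, h, Matrix.SpecialLinearGroup.coe_neg, Matrix.SpecialLinearGroup.coe_one,
      Matrix.scalar_apply, ← Matrix.smul_one_eq_diagonal, neg_one_smul]

theorem card_ker_le : Nat.card ↥(PO6.rho (F := F)).ker ≤ 2 := by
  classical
  have h1 : Nat.card ↥(PO6.rho (F := F)).ker =
      ((PO6.rho (F := F)).ker : Set (Matrix.SpecialLinearGroup (Fin 4) F)).ncard := rfl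
  rw [h1]
  refine le_trans (Set.ncard_le_ncard ker_subset (Set.toFinite _)) ?_
  refine le_trans (Set.ncard_insert_le _ _) ?_
  rw [Set.ncard_singleton]

theorem card_ker_char2 (h2 : (2 : F) = 0) : Nat.card ↥(PO6.rho (F := F)).ker = 1 := by
  have : (PO6.rho (F := F)).ker = ⊥ := by
    rw [eq_bot_iff]
    intro p hp
    rw [Subgroup.mem_bot]
    have hneg : (-1 : Matrix.SpecialLinearGroup (Fin 4) F) = 1 := by
      apply Subtype.ext
      rw [Matrix.SpecialLinearGroup.coe_neg, Matrix.SpecialLinearGroup.coe_one]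
      have : (-1 : F) = 1 := by
        rw [neg_eq_iff_add_eq_zero, one_add_one_eq_two, h2]
      rw [← neg_one_smul F (1 : Matrix (Fin 4) (Fin 4) F), this, one_smul]
    rcases ker_subset hp with h | h
    · exact h
    · rw [Set.mem_singleton_iff] at h
      rw [h, hneg]
  rw [this]
  exact Subgroup.card_bot

theorem card_eq :
    Nat.card (Matrix.SpecialLinearGroup (Fin 4) F) =
      Nat.card ↥(PO6.rho (F := F)).range * Nat.card ↥(PO6.rho (F := F)).ker := by
  have h1 := Subgroup.card_eq_card_quotient_mul_card_subgroup (PO6.rho (F := F)).ker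
  have h2 : Nat.card (Matrix.SpecialLinearGroup (Fin 4) F ⧸ (PO6.rho (F := F)).ker) =
      Nat.card ↥(PO6.rho (F := F)).range :=
    Nat.card_congr (QuotientGroup.quotientKerEquivRange (PO6.rho (F := F))).toEquiv
  rw [h1, h2]

theorem index_omega6_odd (h2 : (2 : F) ≠ 0) :
    (Cfsg.Omega F (Cfsg.quadFormPlus 3 F)).index = 4 := by
  have hcard : Fintype.card (Fin 3 ⊕ Fin 3) = 6 := by
    simp only [Fintype.card_sum, Fintype.card_fin]
  have := RI.index_omega_general h2 (by rw [hcard]; omega) (qfPlus 3 F) (qfPlus_nondeg 3 F)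
  rw [qfPlus_coe] at this
  exact this

theorem index_omega6_even (h2 : (2 : F) = 0) :
    (Cfsg.Omega F (Cfsg.quadFormPlus 3 F)).index = 2 := by
  have : CharP F 2 := CharTwo.of_one_ne_zero_of_two_eq_zero one_ne_zero h2
  have hcard : Fintype.card (Fin 3 ⊕ Fin 3) = 6 := by
    simp only [Fintype.card_sum, Fintype.card_fin]
  have := DK.index_omega_char2 (qfPlus 3 F) (qfPlus_nondeg 3 F) (by rw [hcard]; omega)
    (Or.inr (by rw [hcard]; omega))
  rw [qfPlus_coe] at this
  exact this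

theorem range_eq :
    (PO6.rho (F := F)).range = Cfsg.Omega F (Cfsg.quadFormPlus 3 F) := by
  have hGO := Cfsg.Agent.S0287.result (F := F) rfl 3 (by norm_num)
  have h1 := Subgroup.card_mul_index (Cfsg.Omega F (Cfsg.quadFormPlus 3 F))
  have hsl := card_sl4 (F := F)
  have hprod := card_eq (F := F)
  rw [hsl] at hprod
  simp only [Nat.add_one_sub_one, Nat.reduceSub, Nat.reduceMul, Finset.prod_range_succ,
    Finset.prod_range_zero, one_mul, zero_add, mul_one, Nat.reduceAdd] at hGO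
  rw [hGO] at h1
  apply Subgroup.eq_of_le_of_card_ge range_le
  set q := Fintype.card F with hq
  set N := q ^ 6 * (q ^ 2 - 1) * (q ^ 3 - 1) * (q ^ 4 - 1) with hN
  have hN2 : 2 * q ^ 6 * (q ^ 3 - 1) * ((q ^ 2 - 1) * (q ^ 4 - 1)) = 2 * N := by rw [hN]; ring
  rw [hN2] at h1
  by_cases h2 : (2 : F) = 0
  · rw [index_omega6_even h2] at h1
    rw [card_ker_char2 h2, mul_one] at hprod
    omega
  · rw [index_omega6_odd h2] at h1
    have := card_ker_le (F := F)
    have h3 : N ≤ Nat.card ↥(PO6.rho (F := F)).range * 2 := by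
      rw [hprod]; exact Nat.mul_le_mul_left _ this
    omega

end main

/-- PΩ^+_6(q) is isomorphic to PSL_4(q). -/
theorem result {F : Type*} [Field F] [Fintype F] : Nonempty (Cfsg.POmega F (Cfsg.quadFormPlus 3 F) ≃* Matrix.ProjectiveSpecialLinearGroup (Fin 4) F) := by
  set Z := Subgroup.center (Matrix.SpecialLinearGroup (Fin 4) F) with hZ
  let φ : Matrix.SpecialLinearGroup (Fin 4) F →* ↥(Cfsg.Omega F (Cfsg.quadFormPlus 3 F)) :=
    (PO6.rho (F := F)).codRestrict _ (fun p => range_le ⟨p, rfl⟩)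
  have hφ : Function.Surjective φ := by
    rintro ⟨z, hz⟩
    rw [← range_eq] at hz
    obtain ⟨p, hp⟩ := hz
    exact ⟨p, Subtype.ext hp⟩
  refine CQ.pquot_equiv φ hφ (QuotientGroup.mk' Z) (QuotientGroup.mk'_surjective Z) ?_ ?_
    PO6.center_psl4
  · intro p hp
    rw [QuotientGroup.ker_mk']
    have h1 : PO6.rho p = 1 := by
      have := MonoidHom.mem_ker.mp hp
      exact congrArg Subtype.val this
    rw [PO6.rho_eq_one_iff] at h1
    obtain ⟨a, ha, hA⟩ := PO6.ker_scalar _ h1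
    rw [hZ, Matrix.SpecialLinearGroup.mem_center_iff]
    refine ⟨a, ?_, hA⟩
    have : Fintype.card (Fin 4) = 2 * 2 := by simp
    rw [this, pow_mul, ha, one_pow]
  · rw [QuotientGroup.ker_mk']

end Cfsg.Agent.S0302
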