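import Cfsg.Statements.S0303
import Cfsg.Agent.S0288
import Cfsg.Agent.S0292
import Cfsg.Agent.S0791
import Cfsg.Agent.S0278
import Cfsg.Agent.S0279
import Cfsg.Agent.S0780
import Cfsg.Agent.S0781
import Cfsg.Agent.Lib.Lead.PSL4Orth
import Cfsg.Agent.Lib.Lead.PSU4Orth
import Cfsg.Agent.Lib.Lead.CenterQuot
import Cfsg.Agent.Lib.Helper16.HermQuad
import Cfsg.Agent.Lib.Helper16.FieldExt

set_option autoImplicit false
open Cfsg

namespace Cfsg.Agent.S0303

open Cfsg.Agent.Lib.Lead Cfsg.Agent.Lib.Helper16 Matrix Module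

/-- transport of an `F`-linear isometric action to the isometry group of a coordinate form -/
theorem transport {F : Type*} [Field F] {V : Type*} [AddCommGroup V] [Module F V]
    {ι : Type} [Fintype ι] [DecidableEq ι] (T : V ≃ₗ[F] (ι → F)) (Qt : (ι → F) → F)
    (QV : V → F) (hT : ∀ v, Qt (T v) = QV v) {G : Type*} [Group G] (ρ : G →* (V →ₗ[F] V))
    (hρ : ∀ g v, QV (ρ g v) = QV v) :
    ∃ φ : G →* ↥(Cfsg.isometryGroup F Qt), ∀ g, φ g = 1 ↔ ρ g = 1 := by
  let μ : G →* Matrix ι ι F :=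
    { toFun := fun g => LinearMap.toMatrix' ((T : V →ₗ[F] (ι → F)) ∘ₗ ρ g ∘ₗ (T.symm : (ι → F) →ₗ[F] V))
      map_one' := by
        rw [map_one]
        have : (T : V →ₗ[F] (ι → F)) ∘ₗ (1 : V →ₗ[F] V) ∘ₗ (T.symm : (ι → F) →ₗ[F] V) = LinearMap.id := by
          apply LinearMap.ext
          intro x
          simp
        rw [this, LinearMap.toMatrix'_id]
      map_mul' := by
        intro g h
        rw [← LinearMap.toMatrix'_comp]
        congr 1
        apply LinearMap.ext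
        intro x
        simp [map_mul] }
  have hμ : ∀ g u, (μ g).mulVec u = T (ρ g (T.symm u)) := by
    intro g u
    show (LinearMap.toMatrix' _).mulVec u = _
    rw [LinearMap.toMatrix'_mulVec]
    rfl
  have hmem : ∀ g, μ.toHomUnits g ∈ Cfsg.isometryGroup F Qt := by
    intro g u _
    show Qt ((μ g).mulVec u) = Qt u
    rw [hμ, hT, hρ, ← hT, LinearEquiv.apply_symm_apply]
  refine ⟨μ.toHomUnits.codRestrict (Cfsg.isometryGroup F Qt) hmem, ?_⟩
  intro g
  have e1 : (μ.toHomUnits.codRestrict (Cfsg.isometryGroup F Qt) hmem) g = 1 ↔ μ g = 1 := by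
    rw [Subtype.ext_iff, Units.ext_iff]
    rfl
  rw [e1]
  constructor
  · intro h1
    apply LinearMap.ext
    intro x
    have h2 := congrArg (fun M : Matrix ι ι F => M.mulVec (T x)) h1
    simp only [hμ, LinearEquiv.symm_apply_apply, Matrix.one_mulVec] at h2
    exact T.injective h2
  · intro h1
    apply Matrix.mulVec_injective
    funext u
    rw [hμ, h1, Matrix.one_mulVec]
    simp

section act

variable {F K : Type*} [Field F] [Fintype F] [Field K] [Fintype K] [Algebra F K] {q : ℕ}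

/-- the Frobenius of `K / F` as a ring hom -/
noncomputable def sg (F K : Type*) [Field F] [Fintype F] [Field K] [Fintype K] [Algebra F K] :
    K →+* K := (FiniteField.frobeniusAlgHom F K : K →ₐ[F] K).toRingHom

theorem sg_apply (hF : Fintype.card F = q) (x : K) : sg F K x = x ^ q := frob_apply' hF x

theorem sg_sg (hK : Fintype.card K = q ^ 2) (hF : Fintype.card F = q) (x : K) :
    sg F K (sg F K x) = x := frob_frob hK hF x

theorem sg_smul (c : F) (x : K) : sg F K (c • x) = c • sg F K x :=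
  map_smul (FiniteField.frobeniusAlgHom F K) c x

theorem emb_add (x y : Fin 3 → K) :
    PO6m.emb (sg F K) (x + y) = PO6m.emb (sg F K) x + PO6m.emb (sg F K) y := by
  funext k
  fin_cases k <;> simp [PO6m.emb]

theorem emb_smul (c : F) (x : Fin 3 → K) :
    PO6m.emb (sg F K) (c • x) = c • PO6m.emb (sg F K) x := by
  funext k
  fin_cases k <;> simp [PO6m.emb, sg_smul]

theorem pr_add (x y : Fin 6 → K) : PO6m.pr (x + y) = PO6m.pr x + PO6m.pr y := by
  funext k
  fin_cases k <;> simp [PO6m.pr]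

theorem pr_smul (c : F) (x : Fin 6 → K) : PO6m.pr (c • x) = c • PO6m.pr x := by
  funext k
  fin_cases k <;> simp [PO6m.pr]

/-- the `σ`-twisted symmetry of `Λ²A` for `A ∈ SU₄` -/
theorem R6_sigma_SU (hF : Fintype.card F = q) (A : ↥(Cfsg.SU 4 K q)) :
    (PO6.R6 ((A : Matrix.SpecialLinearGroup (Fin 4) K) : Matrix (Fin 4) (Fin 4) K)).map (sg F K) =
      PO6m.P6 * PO6.R6 ((A : Matrix.SpecialLinearGroup (Fin 4) K) : Matrix (Fin 4) (Fin 4) K) *
        PO6m.P6 := by
  have hU := (Cfsg.Agent.S0279.mem_SU_iff' (sg F K) (sg_apply hF) A.1).mp A.2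
  exact PO6m.R6_sigma (sg F K) _ A.1.det_coe hU

/-- the `F`-linear action of `SU₄(K)` on `K³` -/
noncomputable def actLin (A : ↥(Cfsg.SU 4 K q)) : (Fin 3 → K) →ₗ[F] (Fin 3 → K) where
  toFun x := PO6m.pr (PO6.R6 ((A : Matrix.SpecialLinearGroup (Fin 4) K) :
    Matrix (Fin 4) (Fin 4) K) *ᵥ PO6m.emb (sg F K) x)
  map_add' x y := by rw [emb_add, Matrix.mulVec_add, pr_add]
  map_smul' c x := by
    rw [emb_smul, Matrix.mulVec_smul, pr_smul]
    rfl

theorem emb_actLin (hK : Fintype.card K = q ^ 2) (hF : Fintype.card F = q) (A : ↥(Cfsg.SU 4 K q))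
    (x : Fin 3 → K) :
    PO6m.emb (sg F K) (actLin (F := F) A x) =
      PO6.R6 ((A : Matrix.SpecialLinearGroup (Fin 4) K) : Matrix (Fin 4) (Fin 4) K) *ᵥ
        PO6m.emb (sg F K) x :=
  PO6m.emb_pr_of_sigma (sg F K) (sg_sg hK hF) _ (R6_sigma_SU hF A) x

/-- the action as a monoid hom -/
noncomputable def act (hK : Fintype.card K = q ^ 2) (hF : Fintype.card F = q) :
    ↥(Cfsg.SU 4 K q) →* ((Fin 3 → K) →ₗ[F] (Fin 3 → K)) where
  toFun A := actLin A
  map_one' := by
    apply LinearMap.ext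
    intro x
    change PO6m.pr (PO6.R6 (1 : Matrix (Fin 4) (Fin 4) K) *ᵥ PO6m.emb (sg F K) x) = x
    rw [PO6.R6_one, Matrix.one_mulVec, PO6m.pr_emb]
  map_mul' A B := by
    apply LinearMap.ext
    intro x
    change PO6m.pr (PO6.R6 (((A : Matrix.SpecialLinearGroup (Fin 4) K) :
      Matrix (Fin 4) (Fin 4) K) * ((B : Matrix.SpecialLinearGroup (Fin 4) K) :
      Matrix (Fin 4) (Fin 4) K)) *ᵥ PO6m.emb (sg F K) x) = actLin A (actLin B x)
    rw [PO6.R6_mul, ← Matrix.mulVec_mulVec, ← emb_actLin hK hF B x]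
    rfl

theorem act_apply (hK : Fintype.card K = q ^ 2) (hF : Fintype.card F = q) (A : ↥(Cfsg.SU 4 K q))
    (x : Fin 3 → K) : act hK hF A x = actLin (F := F) A x := rfl

theorem herm_eq_Q6 (hF : Fintype.card F = q) (x : Fin 3 → K) :
    Cfsg.hermForm 3 K q x x = PO6.Q6 (PO6m.emb (sg F K) x) := by
  rw [PO6m.Q6_emb]
  unfold Cfsg.hermForm
  refine Finset.sum_congr rfl (fun k _ => ?_)
  rw [sg_apply hF]

theorem act_pres (hK : Fintype.card K = q ^ 2) (hF : Fintype.card F = q) (lam : K →ₗ[F] F)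
    (A : ↥(Cfsg.SU 4 K q)) (x : Fin 3 → K) :
    hermQ lam 3 (act hK hF A x) = hermQ lam 3 x := by
  rw [hermQ_apply hF, hermQ_apply hF, herm_eq_Q6 hF, herm_eq_Q6 hF, act_apply,
    emb_actLin hK hF, PO6.Q6_R6, A.1.det_coe, one_mul]

/-- the coordinate isometry between `K³` (sum of three norms) and the minus-type form -/
theorem exists_T (hK : Fintype.card K = q ^ 2) (hF : Fintype.card F = q)
    (hfr : finrank F K = 2) (lam : K →ₗ[F] F) (hlam1 : lam 1 = 1) (a b : F)
    (hab : ∀ z₁ z₂ : F, z₁ ^ 2 + a * z₁ * z₂ + b * z₂ ^ 2 = 0 → z₁ = 0 ∧ z₂ = 0) :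
    ∃ T : (Fin 3 → K) ≃ₗ[F] ((Fin 2 ⊕ Fin 2) ⊕ Fin 2 → F),
      ∀ v, Cfsg.quadFormMinus 2 F a b (T v) = hermQ lam 3 v := by
  obtain ⟨T₁, hT₁⟩ := herm_plus_iso hK hF hfr lam hlam1 1
  obtain ⟨T₂, hT₂⟩ := norm_iso hfr lam hlam1 a b hab
  let T : (Fin (1 + 1 + 1) → K) ≃ₗ[F] ((Fin (1 + 1) ⊕ Fin (1 + 1)) ⊕ Fin 2 → F) :=
    (Fin.consLinearEquiv F (fun _ : Fin (1 + 1 + 1) => K)).symm ≪≫ₗ (T₂.prodCongr T₁) ≪≫ₗ
      (LinearEquiv.prodComm F _ _) ≪≫ₗ
      (LinearEquiv.sumArrowLequivProdArrow (Fin (1 + 1) ⊕ Fin (1 + 1)) (Fin 2) F F).symm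
  have hTl : ∀ v j, T v (Sum.inl j) = T₁ (fun i => v i.succ) j := fun v j => rfl
  have hTr : ∀ v j, T v (Sum.inr j) = T₂ (v 0) j := fun v j => rfl
  have hT : ∀ v, Cfsg.quadFormMinus (1 + 1) F a b (T v) = hermQ lam (1 + 1 + 1) v := by
    intro v
    unfold Cfsg.quadFormMinus
    simp only [hTl, hTr]
    rw [hT₂]
    have h1 := hT₁ (fun i => v i.succ)
    unfold Cfsg.quadFormPlus at h1
    rw [h1, hermQ_apply hF, hermQ_apply hF, ← map_add]
    congr 1
    unfold Cfsg.hermForm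
    rw [Fin.sum_univ_succ (fun i : Fin (1 + 1 + 1) => v i * v i ^ q), frob_apply' hF, add_comm]
  exact ⟨T, hT⟩

theorem act_ker (hK : Fintype.card K = q ^ 2) (hF : Fintype.card F = q) (θ : K)
    (hθ : θ ≠ sg F K θ) (A : ↥(Cfsg.SU 4 K q)) (h : act (F := F) hK hF A = 1) :
    ∃ c : K, c ^ 2 = 1 ∧ Matrix.scalar (Fin 4) c =
      ((A : Matrix.SpecialLinearGroup (Fin 4) K) : Matrix (Fin 4) (Fin 4) K) := by
  apply PO6.ker_scalar
  apply PO6m.eq_one_of_fix_emb (sg F K) θ hθ
  intro x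
  have h1 : actLin (F := F) A x = x := by
    have := congrArg (fun f : (Fin 3 → K) →ₗ[F] (Fin 3 → K) => f x) h
    exact this
  rw [← emb_actLin hK hF, h1]

/-- `SU₄(q)` is perfect -/
theorem su4_perfect (hK : Fintype.card K = q ^ 2) : commutator ↥(Cfsg.SU 4 K q) = ⊤ := by
  rw [commutator_eq_closure, eq_top_iff,
    ← Cfsg.Agent.S0780.result hK 4 (by norm_num) (by omega)]
  apply Subgroup.closure_mono
  rintro A ⟨v, c, hv, hA⟩
  exact Cfsg.Agent.S0781.result hK 4 (Or.inl le_rfl) A v c hv hA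

/-- scalar elements of `SU₄` are central -/
theorem scalar_mem_center (A : ↥(Cfsg.SU 4 K q)) (c : K)
    (hA : Matrix.scalar (Fin 4) c =
      ((A : Matrix.SpecialLinearGroup (Fin 4) K) : Matrix (Fin 4) (Fin 4) K)) :
    A ∈ Subgroup.center ↥(Cfsg.SU 4 K q) := by
  rw [Subgroup.mem_center_iff]
  intro B
  apply Subtype.ext
  apply Subtype.ext
  change ((B : Matrix.SpecialLinearGroup (Fin 4) K) : Matrix (Fin 4) (Fin 4) K) *
      ((A : Matrix.SpecialLinearGroup (Fin 4) K) : Matrix (Fin 4) (Fin 4) K) =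
    ((A : Matrix.SpecialLinearGroup (Fin 4) K) : Matrix (Fin 4) (Fin 4) K) *
      ((B : Matrix.SpecialLinearGroup (Fin 4) K) : Matrix (Fin 4) (Fin 4) K)
  rw [← hA]
  exact ((Matrix.scalar_commute c (fun _ => Commute.all _ _) _).eq).symm

theorem card_le_two_of_scalar (H : Subgroup ↥(Cfsg.SU 4 K q))
    (hH : ∀ A ∈ H, ∃ c : K, c ^ 2 = 1 ∧ Matrix.scalar (Fin 4) c =
      ((A : Matrix.SpecialLinearGroup (Fin 4) K) : Matrix (Fin 4) (Fin 4) K)) :
    Nat.card ↥H ≤ 2 := by
  classical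
  let f : ↥H → ↥({1, -1} : Set K) := fun A =>
    ⟨(((A : ↥(Cfsg.SU 4 K q)) : Matrix.SpecialLinearGroup (Fin 4) K) :
      Matrix (Fin 4) (Fin 4) K) 0 0, by
      obtain ⟨c, hc, hA⟩ := hH A.1 A.2
      rw [← hA]
      simp only [Matrix.scalar_apply, Matrix.diagonal_apply_eq]
      rcases sq_eq_one_iff.mp hc with h | h
      · left; exact h
      · right; exact h⟩
  have hf : Function.Injective f := by
    intro A B hAB
    have h0 : (((A : ↥(Cfsg.SU 4 K q)) : Matrix.SpecialLinearGroup (Fin 4) K) :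
      Matrix (Fin 4) (Fin 4) K) 0 0 = (((B : ↥(Cfsg.SU 4 K q)) :
      Matrix.SpecialLinearGroup (Fin 4) K) : Matrix (Fin 4) (Fin 4) K) 0 0 :=
      congrArg Subtype.val hAB
    obtain ⟨c, -, hA⟩ := hH A.1 A.2
    obtain ⟨d, -, hB⟩ := hH B.1 B.2
    rw [← hA, ← hB] at h0
    simp only [Matrix.scalar_apply, Matrix.diagonal_apply_eq] at h0
    apply Subtype.ext
    apply Subtype.ext
    apply Subtype.ext
    rw [← hA, ← hB, h0]
  refine le_trans (Nat.card_le_card_of_injective f hf) ?_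
  have e : Nat.card ↥({1, -1} : Set K) = ({1, -1} : Set K).ncard := rfl
  rw [e]
  refine le_trans (Set.ncard_insert_le _ _) ?_
  rw [Set.ncard_singleton]

end act

/-- PΩ^-_6(q) is isomorphic to PSU_4(q). -/
theorem result {F K : Type*} [Field F] [Fintype F] [Field K] [Fintype K] {q : ℕ} (hF : Fintype.card F = q) (hK : Fintype.card K = q ^ 2) (a b : F) (hab : ∀ z₁ z₂ : F, z₁ ^ 2 + a * z₁ * z₂ + b * z₂ ^ 2 = 0 → z₁ = 0 ∧ z₂ = 0) : Nonempty (Cfsg.POmega F (Cfsg.quadFormMinus 2 F a b) ≃* Cfsg.PSU 4 K q) := by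
  obtain ⟨alg, hfr⟩ := exists_algebra_of_card hK hF
  let _ := alg
  have hq : 2 ≤ q := by rw [← hF]; exact Fintype.one_lt_card
  obtain ⟨lam, hlam1⟩ := exists_lam_one (K := K) (F := F)
  obtain ⟨T, hT⟩ := exists_T hK hF hfr lam hlam1 a b hab
  obtain ⟨φ0, hφ0⟩ := transport T (Cfsg.quadFormMinus 2 F a b) (fun v => hermQ lam 3 v) hT
    (act hK hF) (act_pres hK hF lam)
  -- an element moved by the Frobenius
  obtain ⟨θ, hθ⟩ : ∃ θ : K, θ ≠ sg F K θ := by
    obtain ⟨r, hr⟩ := exists_root_of_aniso hfr a b hab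
    refine ⟨r, fun h => ?_⟩
    obtain ⟨t, ht⟩ := frob_fixed hfr r h.symm
    rw [← ht] at hr
    have h0 : algebraMap F K (t ^ 2 + a * t * 1 + b * 1 ^ 2) = 0 := by
      rw [← hr]
      simp only [map_add, map_mul, map_pow, map_one]
      ring
    have := hab t 1 ((algebraMap F K).injective (by rw [h0, map_zero]))
    exact one_ne_zero this.2
  have hker : ∀ A, φ0 A = 1 → ∃ c : K, c ^ 2 = 1 ∧ Matrix.scalar (Fin 4) c =
      ((A : Matrix.SpecialLinearGroup (Fin 4) K) : Matrix (Fin 4) (Fin 4) K) := by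
    intro A hA
    exact act_ker hK hF θ hθ A ((hφ0 A).mp hA)
  have hperf := su4_perfect (q := q) hK
  -- the image lies in `Ω`
  have hle : φ0.range ≤ Cfsg.Omega F (Cfsg.quadFormMinus 2 F a b) := by
    rintro _ ⟨A, rfl⟩
    have h1 : A ∈ commutator ↥(Cfsg.SU 4 K q) := by rw [hperf]; exact Subgroup.mem_top _
    have h2 : φ0 A ∈ (commutator ↥(Cfsg.SU 4 K q)).map φ0 := Subgroup.mem_map_of_mem _ h1
    rw [map_commutator_eq] at h2
    change φ0 A ∈ commutator _
    rw [commutator_def]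
    exact Subgroup.commutator_mono le_top le_top h2
  -- cardinalities
  have hSU := Cfsg.Agent.S0278.result hK 4 (by norm_num)
  have hGO : Nat.card ↥(Cfsg.isometryGroup F (Cfsg.quadFormMinus 2 F a b)) =
      2 * q ^ (3 * (3 - 1)) * (q ^ 3 + 1) * ∏ i ∈ Finset.range (3 - 1), (q ^ (2 * (i + 1)) - 1) :=
    Cfsg.Agent.S0288.result hF 3 (by norm_num) a b hab
  have hprod : Nat.card ↥(Cfsg.SU 4 K q) = Nat.card ↥φ0.range * Nat.card ↥φ0.ker := by
    have e1 := Subgroup.card_eq_card_quotient_mul_card_subgroup φ0.ker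
    have e2 : Nat.card (↥(Cfsg.SU 4 K q) ⧸ φ0.ker) = Nat.card ↥φ0.range :=
      Nat.card_congr (QuotientGroup.quotientKerEquivRange φ0).toEquiv
    rw [e1, e2]
  set N := Nat.card ↥(Cfsg.SU 4 K q) with hN
  have hGO2 : Nat.card ↥(Cfsg.isometryGroup F (Cfsg.quadFormMinus 2 F a b)) = 2 * N := by
    have hpos : 0 < q + 1 := by omega
    apply Nat.eq_of_mul_eq_mul_left hpos
    have e3 : (q + 1) * (2 * N) = 2 * ((q + 1) * N) := by ring
    rw [e3, hSU, hGO]
    simp only [Finset.prod_range_succ, Finset.prod_range_zero, one_mul]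
    have ev0 : Even 0 := ⟨0, rfl⟩
    have ev1 : ¬ Even 1 := by decide
    have ev2 : Even 2 := ⟨1, rfl⟩
    have ev3 : ¬ Even 3 := by decide
    simp only [ev0, ev1, ev2, ev3, if_true, if_false]
    norm_num
    ring
  have hrange : φ0.range = Cfsg.Omega F (Cfsg.quadFormMinus 2 F a b) := by
    by_cases hc2 : (2 : F) = 0
    · -- characteristic two: the kernel is trivial and the image has index two
      have hK2 : (2 : K) = 0 := by
        have := congrArg (algebraMap F K) hc2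
        rwa [map_ofNat, map_zero] at this
      have hkbot : φ0.ker = ⊥ := by
        rw [eq_bot_iff]
        intro A hA
        rw [Subgroup.mem_bot]
        obtain ⟨c, hc, hAc⟩ := hker A (MonoidHom.mem_ker.mp hA)
        have hc1 : c = 1 := by
          have : (c - 1) ^ 2 = 0 := by
            have e : (c - 1) ^ 2 = c ^ 2 - 2 * c + 1 := by ring
            rw [e, hc, hK2]; ring_nf
            linear_combination hK2
          exact sub_eq_zero.mp (pow_eq_zero_iff (two_ne_zero) |>.mp this)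
        apply Subtype.ext
        apply Subtype.ext
        rw [← hAc, hc1]
        simp
      have hk1 : Nat.card ↥φ0.ker = 1 := by rw [hkbot]; exact Subgroup.card_bot
      rw [hk1, mul_one] at hprod
      have hidx : φ0.range.index = 2 := by
        have := Subgroup.card_mul_index φ0.range
        rw [hGO2, ← hprod] at this
        have hNpos : 0 < N := Nat.card_pos
        nlinarith
      have hnorm : φ0.range.Normal := Subgroup.normal_of_index_eq_two hidx
      apply le_antisymm hle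
      have hcomm : IsMulCommutative (↥(Cfsg.isometryGroup F (Cfsg.quadFormMinus 2 F a b)) ⧸
          φ0.range) := by
        have hcard : Nat.card (↥(Cfsg.isometryGroup F (Cfsg.quadFormMinus 2 F a b)) ⧸
          φ0.range) = 2 := hidx
        have : Fact (Nat.Prime 2) := ⟨Nat.prime_two⟩
        have hcyc := isCyclic_of_prime_card hcard
        exact hcyc.isMulCommutative
      exact Subgroup.Normal.quotient_commutative_iff_commutator_le.mp hcomm
    · have hidx : (Cfsg.Omega F (Cfsg.quadFormMinus 2 F a b)).index = 4 := by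
        have hcard : Fintype.card ((Fin 2 ⊕ Fin 2) ⊕ Fin 2) = 6 := by
          simp only [Fintype.card_sum, Fintype.card_fin]
        have := RI.index_omega_general hc2 (by rw [hcard]; omega) (qfMinus 2 F a b)
          (S0791.nondeg_minus 2 a b hab)
        rw [qfMinus_coe] at this
        exact this
      have e1 := Subgroup.card_mul_index (Cfsg.Omega F (Cfsg.quadFormMinus 2 F a b))
      rw [hidx, hGO2] at e1
      apply Subgroup.eq_of_le_of_card_ge hle
      have hk2 : Nat.card ↥φ0.ker ≤ 2 :=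
        card_le_two_of_scalar φ0.ker (fun A hA => hker A (MonoidHom.mem_ker.mp hA))
      have h3 : N ≤ Nat.card ↥φ0.range * 2 := by
        rw [hprod]; exact Nat.mul_le_mul_left _ hk2
      omega
  -- assemble
  set Z := Subgroup.center ↥(Cfsg.SU 4 K q) with hZ
  let φ : ↥(Cfsg.SU 4 K q) →* ↥(Cfsg.Omega F (Cfsg.quadFormMinus 2 F a b)) :=
    φ0.codRestrict _ (fun p => hle ⟨p, rfl⟩)
  have hφ : Function.Surjective φ := by
    rintro ⟨z, hz⟩
    rw [← hrange] at hz
    obtain ⟨p, hp⟩ := hz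
    exact ⟨p, Subtype.ext hp⟩
  refine CQ.pquot_equiv φ hφ (QuotientGroup.mk' Z) (QuotientGroup.mk'_surjective Z) ?_ ?_
    (CQ.center_quot_of_perfect hperf)
  · intro p hp
    rw [QuotientGroup.ker_mk']
    have h3 : φ0 p = 1 := by
      have := MonoidHom.mem_ker.mp hp
      exact congrArg Subtype.val this
    obtain ⟨c, -, hA⟩ := hker p h3
    exact scalar_mem_center p c hA
  · rw [QuotientGroup.ker_mk']

end Cfsg.Agent.S0303
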