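import Cfsg.Statements.S2402

import Cfsg.Agent.Lib.helper15.SLnCyc
set_option autoImplicit false
open Cfsg

namespace Cfsg.Agent.S2402


open Matrix Cfsg.Agent.Lib.helper15.SLnCyc

lemma two_sq {K : Type*} [Field K] [Fintype K] (t : K) : ∃ a b : K, a ^ 2 + b ^ 2 = t := by
  by_cases hF : ringChar K = 2
  · obtain ⟨u, hu⟩ := FiniteField.isSquare_of_char_two hF t
    exact ⟨u, 0, by rw [hu]; ring⟩
  · have hodd := FiniteField.odd_card_of_char_ne_two hF
    have hf2 : (Polynomial.X ^ 2 : Polynomial K).degree = 2 := by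
      rw [Polynomial.degree_X_pow]; rfl
    have hg2 : (Polynomial.X ^ 2 - Polynomial.C t : Polynomial K).degree = 2 := by
      rw [Polynomial.degree_X_pow_sub_C (by norm_num)]; rfl
    obtain ⟨a, b, hab⟩ := FiniteField.exists_root_sum_quadratic hf2 hg2 hodd
    refine ⟨a, b, ?_⟩
    simp only [Polynomial.eval_pow, Polynomial.eval_X, Polynomial.eval_sub, Polynomial.eval_C] at hab
    linear_combination hab

lemma diag_T {K : Type*} [Field K] {n : ℕ} (d : SpecialLinearGroup (Fin (n + 1)) K)
    (D : Fin (n + 1) → K) (hd : d.1 = diagonal D) {i j : Fin (n + 1)} (hij : i ≠ j) (t t' : K)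
    (ht : t' * D j = D i * t) :
    d * SpecialLinearGroup.transvection hij t = SpecialLinearGroup.transvection hij t' * d := by
  apply Subtype.ext
  show d.1 * (1 + single i j t) = (1 + single i j t') * d.1
  rw [hd, mul_add, add_mul, mul_one, one_mul]
  congr 1
  ext a b
  rw [Matrix.diagonal_mul, Matrix.mul_diagonal]
  simp only [single_apply]
  by_cases h : i = a ∧ j = b
  · obtain ⟨rfl, rfl⟩ := h
    simp [ht]
  · simp [h]

lemma w_diag {K : Type*} [Field K] {n : ℕ} (D : Fin (n + 1) → K) :
    wMat n K * diagonal D = diagonal (fun a => D (a + 1)) * wMat n K := by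
  ext a b
  rw [Matrix.diagonal_mul, Matrix.mul_diagonal, wMat_apply]
  by_cases hb : b = a + 1
  · subst hb; simp [mul_comm]
  · simp [hb]

lemma diag_comm {K : Type*} [Field K] {n : ℕ} (d e : SpecialLinearGroup (Fin (n + 1)) K)
    (D E : Fin (n + 1) → K) (hd : d.1 = diagonal D) (he : e.1 = diagonal E) : d * e = e * d := by
  apply Subtype.ext
  show d.1 * e.1 = e.1 * d.1
  rw [hd, he, Matrix.diagonal_mul_diagonal, Matrix.diagonal_mul_diagonal]
  congr 1
  ext a
  exact mul_comm _ _

lemma sq_ne_one {K : Type*} [Field K] [Fintype K] (hK : 3 < Fintype.card K) (k : Kˣ)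
    (hk : ∀ u : Kˣ, u ∈ Subgroup.zpowers k) : (k : K) ^ 2 ≠ 1 := by
  classical
  intro h
  have hk2 : k ^ 2 = 1 := Units.ext (by simpa using h)
  have hall : ∀ u : Kˣ, u = 1 ∨ u = -1 := by
    intro u
    obtain ⟨m, rfl⟩ := hk u
    have h2 : (k ^ m) ^ 2 = 1 := by
      rw [← zpow_natCast, ← _root_.zpow_mul, mul_comm, _root_.zpow_mul, zpow_natCast, hk2, _root_.one_zpow]
    have h3 : ((k ^ m : Kˣ) : K) ^ 2 = 1 := by
      have := congrArg (fun z : Kˣ => (z : K)) h2
      simpa using this
    have h5 : (((k ^ m : Kˣ) : K) - 1) * (((k ^ m : Kˣ) : K) + 1) = 0 := by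
      linear_combination h3
    rcases mul_eq_zero.mp h5 with h4 | h4
    · left; exact Units.ext (by simpa using sub_eq_zero.mp h4)
    · right; exact Units.ext (by simpa using eq_neg_of_add_eq_zero_left h4)
  have hsub : (Finset.univ : Finset Kˣ) ⊆ {1, -1} := by
    intro u _
    rcases hall u with rfl | rfl <;> simp
  have h1 := Finset.card_le_card hsub
  have h2 : ({1, -1} : Finset Kˣ).card ≤ 2 := Finset.card_le_two
  rw [Finset.card_univ, Fintype.card_units] at h1
  omega

/-- Explicit two-element generation of `PSL_{n+1}(K)` for a finite field `K` with more than three elements: let `k` generate the multiplicative group of `K`, `h = diag(k, k⁻¹, 1, …, 1)`, `x = 1 + E₁₂` (the elementary transvection) and `w` the monomial matrix with entries `1` in positions `(i, i+1)` and `(−1)^n` in position `(n+1, 1)`. Then `h` and `x·w` generate `SL_{n+1}(K)` modulo its centre: the subgroup they generate together with the centre is everything. -/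
theorem result {K : Type*} [Field K] [Fintype K] (hK : 3 < Fintype.card K) (n : ℕ) (hn : 1 ≤ n)
    (k : Kˣ) (hk : ∀ u : Kˣ, u ∈ Subgroup.zpowers k)
    (h x w : Matrix.SpecialLinearGroup (Fin (n + 1)) K)
    (hh : (h : Matrix (Fin (n + 1)) (Fin (n + 1)) K) =
      Matrix.diagonal (fun i => if i.val = 0 then (k : K) else if i.val = 1 then ((k⁻¹ : Kˣ) : K) else 1))
    (hx : (x : Matrix (Fin (n + 1)) (Fin (n + 1)) K) = Matrix.transvection (0 : Fin (n + 1)) (1 : Fin (n + 1)) 1)
    (hw : (w : Matrix (Fin (n + 1)) (Fin (n + 1)) K) =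
      Matrix.of (fun i j => if j.val = i.val + 1 then 1 else if i.val = n ∧ j.val = 0 then (-1) ^ n else 0)) :
    Subgroup.closure ({h, x * w} : Set (Matrix.SpecialLinearGroup (Fin (n + 1)) K)) ⊔
      Subgroup.center (Matrix.SpecialLinearGroup (Fin (n + 1)) K) = ⊤ := by
  classical
  have h01 : (0 : Fin (n + 1)) ≠ 1 := by
    intro h
    rw [eq_comm, Fin.one_eq_zero_iff] at h
    omega
  have hxT : x = SpecialLinearGroup.transvection h01 1 := Subtype.ext hx
  set H := Subgroup.closure ({h, x * w} : Set (Matrix.SpecialLinearGroup (Fin (n + 1)) K)) with hH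
  have hhH : h ∈ H := Subgroup.subset_closure (by simp)
  have hgH : x * w ∈ H := Subgroup.subset_closure (by simp)
  set D : Fin (n + 1) → K :=
    fun i => if i.val = 0 then (k : K) else if i.val = 1 then ((k⁻¹ : Kˣ) : K) else 1 with hD
  have hk0 : (k : K) ≠ 0 := k.ne_zero
  have hksq := sq_ne_one hK k hk
  have hk1 : (k : K) ≠ 1 := fun h1 => hksq (by rw [h1, one_pow])
  have hD0 : D 0 = (k : K) := by simp [hD]
  have hv1 : (1 : Fin (n + 1)).val = 1 := by
    rw [Fin.val_one']; exact Nat.mod_eq_of_lt (by omega)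
  have hD1 : D 1 = (k : K)⁻¹ := by
    show (if (1 : Fin (n + 1)).val = 0 then (k : K) else
      if (1 : Fin (n + 1)).val = 1 then ((k⁻¹ : Kˣ) : K) else 1) = _
    rw [hv1]
    simp
  have hv2 : ((1 : Fin (n + 1)) + 1).val = 0 ∨ ((1 : Fin (n + 1)) + 1).val = 2 := by
    rw [Fin.val_add, hv1]
    rcases Nat.lt_or_ge n 2 with h2 | h2
    · have : n = 1 := by omega
      subst this
      left; rfl
    · right; exact Nat.mod_eq_of_lt (by omega)
  have hD2 : D (1 + 1) = (k : K) ∨ D (1 + 1) = 1 := by
    show (if ((1 : Fin (n + 1)) + 1).val = 0 then (k : K) else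
      if ((1 : Fin (n + 1)) + 1).val = 1 then ((k⁻¹ : Kˣ) : K) else 1) = _ ∨
      (if ((1 : Fin (n + 1)) + 1).val = 0 then (k : K) else
      if ((1 : Fin (n + 1)) + 1).val = 1 then ((k⁻¹ : Kˣ) : K) else 1) = _
    rcases hv2 with h2 | h2
    · left; rw [h2]; simp
    · right; rw [h2]; simp
  have hDne : ∀ i, D i ≠ 0 := by
    intro i
    simp only [hD]
    split_ifs <;> simp
  have hdet : (diagonal (fun a => D (a + 1)) : Matrix (Fin (n + 1)) (Fin (n + 1)) K).det = 1 := by
    have h1 : (diagonal D).det = 1 := by rw [← hh]; exact h.2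
    rw [Matrix.det_diagonal] at h1 ⊢
    rw [← h1]
    exact Fintype.prod_equiv (Equiv.addRight 1) _ _ (fun a => rfl)
  set d' : SpecialLinearGroup (Fin (n + 1)) K := ⟨diagonal (fun a => D (a + 1)), hdet⟩ with hd'
  have hwh : w * h = d' * w := by
    apply Subtype.ext
    show w.1 * h.1 = diagonal (fun a => D (a + 1)) * w.1
    rw [hh, show w.1 = wMat n K from hw]
    exact w_diag D
  have hu : (x * w) * h * (x * w)⁻¹ = x * d' * x⁻¹ := by
    have : (x * w) * h * (x * w)⁻¹ = x * (w * h) * w⁻¹ * x⁻¹ := by group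
    rw [this, hwh]; group
  have hD'1 : D (1 + 1) ≠ 0 := hDne _
  set t₁ : K := -(D (0 + 1)) / D (1 + 1) with ht₁
  have e1 : d' * SpecialLinearGroup.transvection h01 (-1) =
      SpecialLinearGroup.transvection h01 t₁ * d' := by
    apply diag_T d' (fun a => D (a + 1)) rfl h01
    rw [ht₁]; field_simp
  set a : K := 1 + t₁ with ha
  have hu2 : (x * w) * h * (x * w)⁻¹ = SpecialLinearGroup.transvection h01 a * d' := by
    rw [hu, hxT, SpecialLinearGroup.transvection_inv, mul_assoc, e1, ← mul_assoc,
      ← SpecialLinearGroup.transvection_add]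
  have huH : SpecialLinearGroup.transvection h01 a * d' ∈ H := by
    rw [← hu2]; exact H.mul_mem (H.mul_mem hgH hhH) (H.inv_mem hgH)
  have hconj : ∀ t : K, h * SpecialLinearGroup.transvection h01 t =
      SpecialLinearGroup.transvection h01 ((k : K) ^ 2 * t) * h := by
    intro t
    apply diag_T h D hh h01
    rw [hD0, hD1]; field_simp
  have hcomm : d' * h⁻¹ = h⁻¹ * d' := by
    have := diag_comm d' h (fun a => D (a + 1)) D rfl hh
    calc d' * h⁻¹ = h⁻¹ * (h * d') * h⁻¹ := by group
      _ = h⁻¹ * (d' * h) * h⁻¹ := by rw [this]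
      _ = h⁻¹ * d' := by group
  have hc : h * (SpecialLinearGroup.transvection h01 a * d') * h⁻¹ *
      (SpecialLinearGroup.transvection h01 a * d')⁻¹ =
      SpecialLinearGroup.transvection h01 ((k : K) ^ 2 * a - a) := by
    have : h * (SpecialLinearGroup.transvection h01 a * d') * h⁻¹ *
      (SpecialLinearGroup.transvection h01 a * d')⁻¹ =
      (h * SpecialLinearGroup.transvection h01 a) * (d' * h⁻¹) * d'⁻¹ *
        (SpecialLinearGroup.transvection h01 a)⁻¹ := by group
    rw [this, hcomm, hconj a, SpecialLinearGroup.transvection_inv, sub_eq_add_neg,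
      SpecialLinearGroup.transvection_add]
    group
  set b : K := (k : K) ^ 2 * a - a with hb
  have hbH : SpecialLinearGroup.transvection h01 b ∈ H := by
    rw [← hc]
    exact H.mul_mem (H.mul_mem (H.mul_mem hhH huH) (H.inv_mem hhH)) (H.inv_mem huH)
  have ha0 : a ≠ 0 := by
    rw [ha, ht₁, zero_add, hD1]
    rcases hD2 with h2 | h2
    · rw [h2]
      intro h0
      apply hksq
      field_simp at h0
      linear_combination h0
    · rw [h2]
      intro h0
      apply hk1
      field_simp at h0
      linear_combination h0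
  have hb0 : b ≠ 0 := by
    rw [hb]
    have : (k : K) ^ 2 * a - a = ((k : K) ^ 2 - 1) * a := by ring
    rw [this]
    exact mul_ne_zero (sub_ne_zero.mpr hksq) ha0
  let U : Subgroup Kˣ :=
    { carrier := {u | ∀ t : K, SpecialLinearGroup.transvection h01 t ∈ H ↔
        SpecialLinearGroup.transvection h01 ((u : K) ^ 2 * t) ∈ H}
      one_mem' := by intro t; simp
      mul_mem' := by
        intro u v hu hv t
        rw [hv t, hu _]
        simp only [Units.val_mul]
        rw [show (u : K) ^ 2 * ((v : K) ^ 2 * t) = ((u : K) * (v : K)) ^ 2 * t by ring]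
      inv_mem' := by
        intro u hu t
        rw [hu ((((u⁻¹ : Kˣ) : K)) ^ 2 * t)]
        have : (u : K) ^ 2 * ((((u⁻¹ : Kˣ) : K)) ^ 2 * t) = t := by
          rw [← mul_assoc, ← mul_pow, Units.mul_inv, one_pow, one_mul]
        rw [this] }
  have hkU : k ∈ U := by
    intro t
    have e := hconj t
    constructor
    · intro ht
      have : SpecialLinearGroup.transvection h01 ((k : K) ^ 2 * t) =
          h * SpecialLinearGroup.transvection h01 t * h⁻¹ := by rw [e]; group
      rw [this]
      exact H.mul_mem (H.mul_mem hhH ht) (H.inv_mem hhH)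
    · intro ht
      have : SpecialLinearGroup.transvection h01 t =
          h⁻¹ * SpecialLinearGroup.transvection h01 ((k : K) ^ 2 * t) * h := by
        rw [mul_assoc, ← e]; group
      rw [this]
      exact H.mul_mem (H.mul_mem (H.inv_mem hhH) ht) hhH
  have hUall : ∀ u : Kˣ, u ∈ U := by
    intro u
    exact (Subgroup.zpowers_le.mpr hkU) (hk u)
  have hsq : ∀ c t : K, SpecialLinearGroup.transvection h01 t ∈ H →
      SpecialLinearGroup.transvection h01 (c ^ 2 * t) ∈ H := by
    intro c t ht
    by_cases hc0 : c = 0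
    · subst hc0
      rw [zero_pow (by norm_num), zero_mul, SpecialLinearGroup.transvection_coeff_zero]
      exact H.one_mem
    · exact (hUall (Units.mk0 c hc0) t).1 ht
  have hmul : ∀ s t : K, SpecialLinearGroup.transvection h01 t ∈ H →
      SpecialLinearGroup.transvection h01 (s * t) ∈ H := by
    intro s t ht
    obtain ⟨p, q, hpq⟩ := two_sq s
    rw [← hpq, add_mul, SpecialLinearGroup.transvection_add]
    exact H.mul_mem (hsq p t ht) (hsq q t ht)
  have hall : ∀ t : K, TT (0 : Fin (n + 1)) 1 t ∈ H := by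
    intro t
    rw [TT_of_ne h01]
    have := hmul (t * b⁻¹) b hbH
    rwa [inv_mul_cancel_right₀ hb0] at this
  have hxH : x ∈ H := by
    have := hall 1
    rwa [TT_of_ne h01, ← hxT] at this
  have hwH : w ∈ H := by
    have : w = x⁻¹ * (x * w) := by group
    rw [this]
    exact H.mul_mem (H.inv_mem hxH) hgH
  rw [eq_top_of_mem hn H w hw hwH hall, top_sup_eq]

end Cfsg.Agent.S2402
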