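import Cfsg.Statements.S2403

import Cfsg.Agent.Lib.helper15.SLnCyc
set_option autoImplicit false
open Cfsg

namespace Cfsg.Agent.S2403


open Matrix Cfsg.Agent.Lib.helper15.SLnCyc

lemma elems {K : Type*} [Field K] [Fintype K] (hK : Fintype.card K ≤ 3) (t : K) :
    t = 0 ∨ t = 1 ∨ t = -1 := by
  classical
  by_contra hcon
  push_neg at hcon
  obtain ⟨h0, h1, h2⟩ := hcon
  by_cases h : (1 : K) = -1
  · have h3 : ({0, 1, t} : Finset K).card = 3 := by
      rw [Finset.card_insert_of_notMem, Finset.card_insert_of_notMem, Finset.card_singleton]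
      · simp [Ne.symm h1]
      · simp [Ne.symm h0]
    have hle := Finset.card_le_univ ({0, 1, t} : Finset K)
    have hcard : Fintype.card K = 3 := by omega
    have h2' : (2 : ℕ) • (1 : K) = 0 := by
      rw [two_nsmul]
      nth_rewrite 2 [h]
      exact add_neg_cancel 1
    haveI : Fact (Nat.Prime 2) := ⟨Nat.prime_two⟩
    have ho : addOrderOf (1 : K) = 2 := addOrderOf_eq_prime h2' one_ne_zero
    have hdvd : addOrderOf (1 : K) ∣ Fintype.card K := addOrderOf_dvd_card
    rw [ho, hcard] at hdvd
    omega
  · have h4 : ({0, 1, -1, t} : Finset K).card = 4 := by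
      rw [Finset.card_insert_of_notMem, Finset.card_insert_of_notMem, Finset.card_insert_of_notMem,
        Finset.card_singleton]
      · simp [Ne.symm h2]
      · simp [h, Ne.symm h1]
      · simp [Ne.symm h0]
    have hle := Finset.card_le_univ ({0, 1, -1, t} : Finset K)
    omega

/-- Explicit two-element generation of `PSL_{n+1}(K)` over the fields with two or three elements: with `x = 1 + E₁₂` and `w` the monomial matrix with entries `1` in positions `(i, i+1)` and `(−1)^n` in position `(n+1, 1)`, the elements `x` and `w` generate `SL_{n+1}(K)` modulo its centre. -/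
theorem result {K : Type*} [Field K] [Fintype K] (hK : Fintype.card K ≤ 3) (n : ℕ) (hn : 1 ≤ n)
    (x w : Matrix.SpecialLinearGroup (Fin (n + 1)) K)
    (hx : (x : Matrix (Fin (n + 1)) (Fin (n + 1)) K) = Matrix.transvection (0 : Fin (n + 1)) (1 : Fin (n + 1)) 1)
    (hw : (w : Matrix (Fin (n + 1)) (Fin (n + 1)) K) =
      Matrix.of (fun i j => if j.val = i.val + 1 then 1 else if i.val = n ∧ j.val = 0 then (-1) ^ n else 0)) :
    Subgroup.closure ({x, w} : Set (Matrix.SpecialLinearGroup (Fin (n + 1)) K)) ⊔
      Subgroup.center (Matrix.SpecialLinearGroup (Fin (n + 1)) K) = ⊤ := by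
  have h01 : (0 : Fin (n + 1)) ≠ 1 := by
    intro h
    rw [eq_comm, Fin.one_eq_zero_iff] at h
    omega
  have hxT : x = SpecialLinearGroup.transvection h01 1 := Subtype.ext hx
  have hxH : x ∈ Subgroup.closure ({x, w} : Set (Matrix.SpecialLinearGroup (Fin (n + 1)) K)) :=
    Subgroup.subset_closure (by simp)
  have hwH : w ∈ Subgroup.closure ({x, w} : Set (Matrix.SpecialLinearGroup (Fin (n + 1)) K)) :=
    Subgroup.subset_closure (by simp)
  have h : ∀ t : K, TT (0 : Fin (n + 1)) 1 t ∈
      Subgroup.closure ({x, w} : Set (Matrix.SpecialLinearGroup (Fin (n + 1)) K)) := by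
    intro t
    rw [TT_of_ne h01]
    rcases elems hK t with rfl | rfl | rfl
    · rw [SpecialLinearGroup.transvection_coeff_zero]; exact Subgroup.one_mem _
    · rw [← hxT]; exact hxH
    · rw [← SpecialLinearGroup.transvection_inv, ← hxT]; exact Subgroup.inv_mem _ hxH
  rw [eq_top_of_mem hn _ w hw hwH h, top_sup_eq]

end Cfsg.Agent.S2403
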