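import Cfsg.Statements.S1489
import Mathlib
import Cfsg.Agent.Lib.Helper11.Clifford

set_option autoImplicit false
open Cfsg

namespace Cfsg.Agent.S1489

open Cfsg.Agent.Lib.Helper11 Cfsg.Agent.Lib.Helper25 Cfsg.Agent.Lib.helper2 Cfsg.Agent.Lib.helper7
open scoped ComplexConjugate

/-- a character whose degree is at most that of one of its irreducible constituents equals it -/
theorem eq_of_degree_le {G : Type*} [Group G] [Fintype G] (Ψ : G → ℂ) (hΨ : Cfsg.IsCharacter G Ψ)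
    (χ : Cfsg.IrrCharacter G) (a dΨ dχ : ℕ) (ha : 0 < a)
    (hin : Cfsg.classInner Ψ (χ : G → ℂ) = (a : ℂ)) (h1 : Ψ 1 = (dΨ : ℂ))
    (h2 : (χ : G → ℂ) 1 = (dχ : ℂ)) (hle : dΨ ≤ dχ) : Ψ = (χ : G → ℂ) := by
  classical
  have : Fintype (Cfsg.IrrCharacter G) := Fintype.ofFinite _
  obtain ⟨m, hm, hexp⟩ := isCharacter_expansion hΨ
  have hd : ∀ φ : Cfsg.IrrCharacter G, ∃ d : ℕ, 0 < d ∧ (φ : G → ℂ) 1 = (d : ℂ) := by
    intro φ
    exact irr_one_eq_finrank φ
  choose d hdpos hd using hd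
  have hdΨ : dΨ = ∑ φ : Cfsg.IrrCharacter G, m φ * d φ := by
    have h3 : (dΨ : ℂ) = ((∑ φ : Cfsg.IrrCharacter G, m φ * d φ : ℕ) : ℂ) := by
      rw [← h1]
      have := congrFun hexp 1
      rw [this]
      simp only [Finset.sum_apply, Pi.smul_apply, smul_eq_mul, hd]
      push_cast
      rfl
    exact_mod_cast h3
  have hmχ : m χ = a := by
    have := hm χ
    rw [hin] at this
    exact_mod_cast this.symm
  have hdχ : d χ = dχ := by
    have := hd χ
    rw [h2] at this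
    exact_mod_cast this.symm
  have hdχpos : 0 < dχ := hdχ ▸ hdpos χ
  have hsplit : m χ * d χ + ∑ φ ∈ Finset.univ.erase χ, m φ * d φ = dΨ := by
    rw [hdΨ]
    exact Finset.add_sum_erase _ (fun φ => m φ * d φ) (Finset.mem_univ χ)
  rw [hmχ, hdχ] at hsplit
  have hage : dχ ≤ a * dχ := Nat.le_mul_of_pos_left _ ha
  have hrest : ∑ φ ∈ Finset.univ.erase χ, m φ * d φ = 0 := by omega
  have ha1 : a = 1 := by
    have : a * dχ = dχ := by omega
    exact Nat.eq_of_mul_eq_mul_right hdχpos (by rw [this, one_mul])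
  have hothers : ∀ φ, φ ≠ χ → m φ = 0 := by
    intro φ hne
    have := (Finset.sum_eq_zero_iff.mp hrest) φ (Finset.mem_erase.mpr ⟨hne, Finset.mem_univ _⟩)
    rcases Nat.mul_eq_zero.mp this with h | h
    · exact h
    · exact absurd h (hdpos φ).ne'
  rw [hexp, Finset.sum_eq_single χ (fun φ _ hne => by rw [hothers φ hne, Nat.cast_zero, zero_smul])
    (fun h => absurd (Finset.mem_univ _) h), hmχ, ha1, Nat.cast_one, one_smul]

/-- restriction to `H` of an irreducible character of the inertia group lying over `θ` is a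
multiple of `θ` -/
theorem res_eq_smul {G : Type*} [Group G] (H T : Subgroup G) [hN : H.Normal] [Fintype T]
    [Fintype H] (θ : H → ℂ) (hθ : Cfsg.IsIrrCharacter H θ)
    (hT : ∀ g : G, g ∈ T → ∀ h : H, cj H θ g h = θ h) (hHT : H ≤ T)
    (ψ : T → ℂ) (hψ : Cfsg.IsIrrCharacter T ψ)
    (hc : Cfsg.classInner θ (resTo hHT ψ) ≠ 0) :
    ∃ e : ℕ, 0 < e ∧ resTo hHT ψ = (e : ℂ) • θ ∧
      Cfsg.classInner (resTo hHT ψ) θ = (e : ℂ) := by
  classical
  have : Fintype (Cfsg.IrrCharacter H) := Fintype.ofFinite _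
  have hchar := isCharacter_resTo hHT ψ (isCharacter_of_irr ⟨ψ, hψ⟩)
  obtain ⟨m, hm, hexp⟩ := isCharacter_expansion hchar
  have hc' : Cfsg.classInner (resTo hHT ψ) θ ≠ 0 := by
    intro h
    apply hc
    rw [Cfsg.Agent.Lib.Helper11.classInner_conj_symm, h, map_zero]
  have hothers : ∀ φ : Cfsg.IrrCharacter H, φ ≠ ⟨θ, hθ⟩ → m φ = 0 := by
    intro φ hne
    by_contra h0
    have h1 : Cfsg.classInner (resTo hHT ψ) (φ : H → ℂ) ≠ 0 := by
      rw [hm φ]
      exact_mod_cast h0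
    obtain ⟨t, ht, hφ⟩ := clifford_conj_sub hHT ψ hψ θ φ hθ φ.2 hc' h1
    apply hne
    apply Subtype.ext
    rw [hφ]
    funext h
    exact hT t ht h
  have hmθ : Cfsg.classInner (resTo hHT ψ) θ = (m ⟨θ, hθ⟩ : ℂ) := hm ⟨θ, hθ⟩
  refine ⟨m ⟨θ, hθ⟩, ?_, ?_, hmθ⟩
  · apply Nat.pos_of_ne_zero
    intro h0
    rw [hmθ, h0] at hc'
    exact hc' (by simp)
  · rw [hexp, Finset.sum_eq_single (⟨θ, hθ⟩ : Cfsg.IrrCharacter H)
      (fun φ _ hne => by rw [hothers φ hne, Nat.cast_zero, zero_smul])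
      (fun h => absurd (Finset.mem_univ _) h)]

/-- multiplicity of `θ` in the restriction to `H` of a character of `G`, through `T` -/
theorem mult_through {G : Type*} [Group G] [Fintype G] (H T : Subgroup G) [Fintype T]
    [Fintype H] [Fintype (Cfsg.IrrCharacter T)] (hHT : H ≤ T) (θ : H → ℂ)
    (hθ : Cfsg.IsIrrCharacter H θ) (χ : G → ℂ) (hχ : Cfsg.IsCharacter G χ) :
    ∃ (n k : Cfsg.IrrCharacter T → ℕ),
      (∀ ξ : Cfsg.IrrCharacter T, Cfsg.classInner (fun t : T => χ t) (ξ : T → ℂ) = (n ξ : ℂ)) ∧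
      (∀ ξ : Cfsg.IrrCharacter T, Cfsg.classInner (resTo hHT (ξ : T → ℂ)) θ = (k ξ : ℂ)) ∧
      Cfsg.classInner (fun h : H => χ h) θ = ((∑ ξ : Cfsg.IrrCharacter T, n ξ * k ξ : ℕ) : ℂ) := by
  classical
  obtain ⟨n, hn, hexp⟩ := isCharacter_expansion (isCharacter_restrict hχ T)
  have hk : ∀ ξ : Cfsg.IrrCharacter T, ∃ k : ℕ,
      Cfsg.classInner (resTo hHT (ξ : T → ℂ)) θ = (k : ℂ) := fun ξ =>
    classInner_character_nat (isCharacter_resTo hHT ξ (isCharacter_of_irr ξ))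
      (isCharacter_of_irr ⟨θ, hθ⟩)
  choose k hk using hk
  refine ⟨n, k, hn, hk, ?_⟩
  have e1 : (fun h : H => χ h) = resTo hHT (fun t : T => χ t) := rfl
  rw [e1, hexp]
  have e2 : resTo hHT (∑ ξ : Cfsg.IrrCharacter T, (n ξ : ℂ) • (ξ : T → ℂ)) =
      ∑ ξ : Cfsg.IrrCharacter T, (n ξ : ℂ) • resTo hHT (ξ : T → ℂ) := by
    funext h
    simp [resTo, Finset.sum_apply]
  rw [e2, classInner_sum_left']
  push_cast
  apply Finset.sum_congr rfl
  intro ξ _
  rw [classInner_smul_left', hk]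

/-- Let H be a normal subgroup of the finite group G, θ an irreducible character of H, and T the inertia group of θ (the elements g with θ(g h g⁻¹) = θ(h) for all h ∈ H). If ψ and ψ' are irreducible characters of T having nonzero inner product with the function induced from θ to T, then the function induced from ψ to G is an irreducible character of G, and it equals the one induced from ψ' only if ψ = ψ'. -/
theorem result {G : Type*} [Group G] [Fintype G] (H T : Subgroup G) [hN : H.Normal] [Fintype T] (θ : H → ℂ) (hθ : Cfsg.IsIrrCharacter H θ) (hT : ∀ g : G, g ∈ T ↔ ∀ h : H, θ ⟨g * h * g⁻¹, hN.conj_mem h h.2 g⟩ = θ h) (hHT : H ≤ T) (ψ ψ' : T → ℂ) (hψ : Cfsg.IsIrrCharacter T ψ) (hψ' : Cfsg.IsIrrCharacter T ψ') (hc : Cfsg.classInner (Cfsg.indFun (H.subgroupOf T) (fun x => θ ⟨(x : T), Subgroup.mem_subgroupOf.mp x.2⟩)) ψ ≠ 0) (hc' : Cfsg.classInner (Cfsg.indFun (H.subgroupOf T) (fun x => θ ⟨(x : T), Subgroup.mem_subgroupOf.mp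 x.2⟩)) ψ' ≠ 0) : Cfsg.IsIrrCharacter G (Cfsg.indFun T ψ) ∧ (Cfsg.indFun T ψ = Cfsg.indFun T ψ' → ψ = ψ') := by
  classical
  have : Fintype H := Fintype.ofFinite _
  have : Fintype (Cfsg.IrrCharacter T) := Fintype.ofFinite _
  have hT' : ∀ g : G, g ∈ T → ∀ h : H, cj H θ g h = θ h := fun g hg => (hT g).mp hg
  -- the inertia subtype has the cardinality of T
  have hcardT : Nat.card {g : G // ∀ h : H, cj H θ g h = θ h} = Nat.card T := by
    apply Nat.card_congr
    exact ⟨fun g => ⟨g.1, (hT g.1).mpr g.2⟩, fun t => ⟨t.1, (hT t.1).mp t.2⟩,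
      fun g => rfl, fun t => rfl⟩
  obtain ⟨dθ, hdθpos, hdθ⟩ := irr_one_eq_finrank ⟨θ, hθ⟩
  simp only at hdθ
  have hTpos : 0 < Nat.card T := Nat.card_pos
  have hGT : T.index * Nat.card T = Nat.card G := Subgroup.index_mul_card T
  have hcl : ∀ ξ : T → ℂ, Cfsg.IsIrrCharacter T ξ → Cfsg.IsClassFunction T ξ :=
    fun ξ hξ g h => irr_conj_invariant ⟨ξ, hξ⟩ g h
  -- general facts for an irreducible character of T over θ
  have main : ∀ (ψ : T → ℂ) (hψ : Cfsg.IsIrrCharacter T ψ),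
      Cfsg.classInner (Cfsg.indFun (H.subgroupOf T) (fun x => θ ⟨(x : T), Subgroup.mem_subgroupOf.mp x.2⟩)) ψ ≠ 0 →
      ∃ e : ℕ, 0 < e ∧ Cfsg.classInner (resTo hHT ψ) θ = (e : ℂ) ∧
        Cfsg.indFun T ψ 1 = ((T.index * (e * dθ) : ℕ) : ℂ) ∧
        Cfsg.IsIrrCharacter G (Cfsg.indFun T ψ) := by
    intro ψ hψ hc
    have hc2 : Cfsg.classInner θ (resTo hHT ψ) ≠ 0 := by
      rw [← frobenius_toSub hHT θ ψ (hcl ψ hψ)]
      exact hc
    obtain ⟨e, hepos, hres, hine⟩ := res_eq_smul H T θ hθ hT' hHT ψ hψ hc2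
    have hψ1 : ψ 1 = ((e * dθ : ℕ) : ℂ) := by
      have := congrFun hres 1
      simp only [resTo, Pi.smul_apply, smul_eq_mul, hdθ] at this
      push_cast
      rw [← this]
      rfl
    have hind1 : Cfsg.indFun T ψ 1 = ((T.index * (e * dθ) : ℕ) : ℂ) := by
      rw [h7_indFun_one, hψ1]
      push_cast
      rfl
    refine ⟨e, hepos, hine, hind1, ?_⟩
    have hIndChar := isCharacter_indFun T ψ (isCharacter_of_irr ⟨ψ, hψ⟩)
    have hne1 : Cfsg.indFun T ψ 1 ≠ 0 := by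
      rw [hind1]
      have : 0 < T.index * (e * dθ) :=
        Nat.mul_pos (Nat.pos_of_ne_zero Subgroup.index_ne_zero_of_finite) (Nat.mul_pos hepos hdθpos)
      exact_mod_cast this.ne'
    obtain ⟨χ, a, hapos, ha⟩ := isCharacter_exists_constituent hIndChar hne1
    obtain ⟨dχ, hdχpos, hdχ⟩ := irr_one_eq_finrank χ
    obtain ⟨n, k, hn, hk, hf⟩ := mult_through H T hHT θ hθ (χ : G → ℂ) (isCharacter_of_irr χ)
    have hnψ : n ⟨ψ, hψ⟩ = a := by
      have h1 := ha
      rw [h7_frobenius_reciprocity T ψ _ (fun g h => irr_conj_invariant χ g h)] at h1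
      have h2 := classInner_symm_of_nat _ _ _ h1
      have h3 := hn ⟨ψ, hψ⟩
      simp only at h3
      rw [h2] at h3
      exact_mod_cast h3.symm
    have hkψ : k ⟨ψ, hψ⟩ = e := by
      have h3 := hk ⟨ψ, hψ⟩
      simp only at h3
      rw [hine] at h3
      exact_mod_cast h3.symm
    have hfge : a * e ≤ ∑ ξ : Cfsg.IrrCharacter T, n ξ * k ξ := by
      rw [← hnψ, ← hkψ]
      exact Finset.single_le_sum (f := fun ξ => n ξ * k ξ) (fun _ _ => Nat.zero_le _)
        (Finset.mem_univ (⟨ψ, hψ⟩ : Cfsg.IrrCharacter T))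
    have hbound := orbit_degree_bound H (χ : G → ℂ) (isCharacter_of_irr χ) θ hθ
      (∑ ξ : Cfsg.IrrCharacter T, n ξ * k ξ) dχ dθ hf hdχ hdθ
    rw [hcardT, ← hGT] at hbound
    have hle : T.index * (e * dθ) ≤ dχ := by
      have h1 : e * dθ * (T.index * Nat.card T) ≤
          (∑ ξ : Cfsg.IrrCharacter T, n ξ * k ξ) * dθ * (T.index * Nat.card T) := by
        apply Nat.mul_le_mul_right
        apply Nat.mul_le_mul_right
        calc e = 1 * e := (one_mul e).symm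
          _ ≤ a * e := Nat.mul_le_mul_right _ hapos
          _ ≤ _ := hfge
      have h2 : (T.index * (e * dθ)) * Nat.card T ≤ dχ * Nat.card T := by
        calc (T.index * (e * dθ)) * Nat.card T = e * dθ * (T.index * Nat.card T) := by ring
          _ ≤ _ := h1.trans hbound
      exact Nat.le_of_mul_le_mul_right h2 hTpos
    have := eq_of_degree_le (Cfsg.indFun T ψ) hIndChar χ a (T.index * (e * dθ)) dχ hapos ha hind1
      hdχ hle
    rw [this]
    exact χ.2
  obtain ⟨e, hepos, hine, hind1, hirr⟩ := main ψ hψ hc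
  refine ⟨hirr, ?_⟩
  intro heq
  by_contra hne
  obtain ⟨e', hepos', hine', hind1', hirr'⟩ := main ψ' hψ' hc'
  set χ : Cfsg.IrrCharacter G := ⟨Cfsg.indFun T ψ, hirr⟩ with hχdef
  obtain ⟨n, k, hn, hk, hf⟩ := mult_through H T hHT θ hθ (χ : G → ℂ) (isCharacter_of_irr χ)
  have hχχ : Cfsg.classInner (χ : G → ℂ) (χ : G → ℂ) = ((1 : ℕ) : ℂ) := by
    rw [irr_classInner, if_pos rfl]
    simp
  have hnψ : n ⟨ψ, hψ⟩ = 1 := by
    have h1 : Cfsg.classInner (Cfsg.indFun T ψ) (χ : G → ℂ) = ((1 : ℕ) : ℂ) := hχχ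
    rw [h7_frobenius_reciprocity T ψ _ (fun g h => irr_conj_invariant χ g h)] at h1
    have h2 := classInner_symm_of_nat _ _ _ h1
    have h3 := hn ⟨ψ, hψ⟩
    simp only at h3
    rw [h2] at h3
    exact_mod_cast h3.symm
  have hnψ' : n ⟨ψ', hψ'⟩ = 1 := by
    have h1 : Cfsg.classInner (Cfsg.indFun T ψ') (χ : G → ℂ) = ((1 : ℕ) : ℂ) := by
      rw [← heq]
      exact hχχ
    rw [h7_frobenius_reciprocity T ψ' _ (fun g h => irr_conj_invariant χ g h)] at h1
    have h2 := classInner_symm_of_nat _ _ _ h1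
    have h3 := hn ⟨ψ', hψ'⟩
    simp only at h3
    rw [h2] at h3
    exact_mod_cast h3.symm
  have hkψ : k ⟨ψ, hψ⟩ = e := by
    have h3 := hk ⟨ψ, hψ⟩
    simp only at h3
    rw [hine] at h3
    exact_mod_cast h3.symm
  have hkψ' : k ⟨ψ', hψ'⟩ = e' := by
    have h3 := hk ⟨ψ', hψ'⟩
    simp only at h3
    rw [hine'] at h3
    exact_mod_cast h3.symm
  have hne' : (⟨ψ, hψ⟩ : Cfsg.IrrCharacter T) ≠ ⟨ψ', hψ'⟩ := fun h => hne (congrArg Subtype.val h)
  have hfge : e + e' ≤ ∑ ξ : Cfsg.IrrCharacter T, n ξ * k ξ := by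
    have hsub : ({⟨ψ, hψ⟩, ⟨ψ', hψ'⟩} : Finset (Cfsg.IrrCharacter T)) ⊆ Finset.univ :=
      Finset.subset_univ _
    have := Finset.sum_le_sum_of_subset (f := fun ξ => n ξ * k ξ) hsub
    rw [Finset.sum_pair hne', hnψ, hnψ', hkψ, hkψ', one_mul, one_mul] at this
    exact this
  have hdχ : (χ : G → ℂ) 1 = ((T.index * (e * dθ) : ℕ) : ℂ) := hind1
  have hbound := orbit_degree_bound H (χ : G → ℂ) (isCharacter_of_irr χ) θ hθ
    (∑ ξ : Cfsg.IrrCharacter T, n ξ * k ξ) (T.index * (e * dθ)) dθ hf hdχ hdθ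
  rw [hcardT, ← hGT] at hbound
  have h1 : (e + e') * dθ * (T.index * Nat.card T) ≤
      (∑ ξ : Cfsg.IrrCharacter T, n ξ * k ξ) * dθ * (T.index * Nat.card T) := by
    apply Nat.mul_le_mul_right
    apply Nat.mul_le_mul_right
    exact hfge
  have h2 := h1.trans hbound
  have hpos : 0 < e' * dθ * (T.index * Nat.card T) :=
    Nat.mul_pos (Nat.mul_pos hepos' hdθpos)
      (Nat.mul_pos (Nat.pos_of_ne_zero Subgroup.index_ne_zero_of_finite) hTpos)
  have h3 : (e + e') * dθ * (T.index * Nat.card T) =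
      T.index * (e * dθ) * Nat.card T + e' * dθ * (T.index * Nat.card T) := by ring
  omega

end Cfsg.Agent.S1489
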