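import Cfsg.Statements.S4447
import Cfsg.Statements.S4447
import Cfsg.Agent.Lib.helper2.RelGlauberman
import Cfsg.Agent.Lib.Helper11.Clifford
import Cfsg.Agent.Lib.helper7.CliffordSub
import Cfsg.Agent.Lib.helper2.CharInd

set_option autoImplicit false
open Cfsg

namespace Cfsg.Agent.S4447

open Cfsg
open scoped ComplexConjugate
open Cfsg.Agent.Lib.helper2 Cfsg.Agent.Lib.helper7 Cfsg.Agent.Lib.Helper11 Cfsg.Agent.Lib.Helper25



/-- Inside a finite group Γ let S normalise G and also normalise a normal subgroup N of G, with the order of S coprime to the index of N in G and S or G/N solvable. Then for every S-invariant irreducible character χ of G, the restriction of χ to N has an S-invariant irreducible constituent. -/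
theorem result {Γ : Type*} [Group Γ] [Fintype Γ] (G S N : Subgroup Γ) [Fintype G] [Fintype N] (hnorm : ∀ s ∈ S, ∀ g ∈ G, s * g * s⁻¹ ∈ G) (hNG : N ≤ G) [hNn : (N.subgroupOf G).Normal] (hNS : ∀ s ∈ S, ∀ n ∈ N, s * n * s⁻¹ ∈ N) (hcop : (N.relIndex G).Coprime (Nat.card S)) (hsolv : Group.IsSolvable S ∨ Group.IsSolvable (G ⧸ N.subgroupOf G)) (χ : Cfsg.IrrCharacter G) (hinv : (∀ s ∈ S, ∀ g g' : G, (g' : Γ) = s * g * s⁻¹ → (χ : G → ℂ) g' = (χ : G → ℂ) g)) : ∃ θ : Cfsg.IrrCharacter N, Cfsg.classInner (fun n : N => (χ : G → ℂ) ⟨n, hNG n.2⟩) (θ : N → ℂ) ≠ 0 ∧ (∀ s ∈ S, ∀ g g' : N, (g' : Γ) = s * g * s⁻¹ → (θ : N → ℂ) g' = (θ : N → ℂ) g) := by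
  classical
  have hχc := isCharacter_of_irr χ
  have hχcl := isCharacter_isClassFunction hχc
  -- normalizer facts
  have hGN : G ≤ Subgroup.normalizer (N : Set Γ) := by
    apply rg_le_normalizer
    intro g hg n hn
    have := hNn.conj_mem (⟨n, hNG hn⟩ : G) (Subgroup.mem_subgroupOf.mpr hn) ⟨g, hg⟩
    exact Subgroup.mem_subgroupOf.mp this
  have hSN : S ≤ Subgroup.normalizer (N : Set Γ) := rg_le_normalizer S N hNS
  -- χ restricted to N is invariant under G and S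
  obtain ⟨χN, hχNdef⟩ : ∃ χN : N → ℂ, χN = fun n : N => (χ : G → ℂ) ⟨n, hNG n.2⟩ := ⟨_, rfl⟩
  have hχNc : Cfsg.IsCharacter N χN := by
    rw [hχNdef]
    exact isCharacter_comp_hom hχc (Subgroup.inclusion hNG)
  have hχNG : ∀ g (hg : g ∈ G) (n : N), χN (rgConjN N g (hGN hg) n) = χN n := by
    intro g hg n
    rw [hχNdef]
    simp only
    have := hχcl ⟨n, hNG n.2⟩ ⟨g, hg⟩
    rw [← this]
    congr 1
  have hχNS : ∀ s (hs : s ∈ S) (n : N), χN (rgConjN N s (hSN hs) n) = χN n := by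
    intro s hs n
    rw [hχNdef]
    simp only
    exact hinv s hs ⟨n, hNG n.2⟩ ⟨_, hNG (rgConjN N s (hSN hs) n).2⟩ rfl
  -- a constituent
  have hχN1 : χN 1 ≠ 0 := by
    rw [hχNdef]
    exact irr_one_ne_zero χ
  obtain ⟨θ₀, m₀, hm₀, hθ₀m⟩ := isCharacter_exists_constituent hχNc hχN1
  have hcon₀ : Cfsg.classInner χN (θ₀ : N → ℂ) ≠ 0 := by
    rw [hθ₀m]; exact_mod_cast hm₀.ne'
  have hθ₀cl := isCharacter_isClassFunction (isCharacter_of_irr θ₀)
  -- N ≤ stabilizer
  have hNI : N ≤ rgStabN N (θ₀ : N → ℂ) := by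
    intro n₀ hn₀
    refine ⟨Subgroup.le_normalizer hn₀, ?_⟩
    intro n
    have := hθ₀cl n ⟨n₀, hn₀⟩
    rw [← this]
    congr 1
  -- Clifford in G
  haveI : Fintype (N.subgroupOf G) := Fintype.ofFinite _
  let e : (N.subgroupOf G) ≃* N := Subgroup.subgroupOfEquivOfLe hNG
  have he : ∀ x : N.subgroupOf G, ((e x : N) : Γ) = ((x : G) : Γ) := fun x => rfl
  have hI : ∀ s ∈ S, ∃ g ∈ G, g * s ∈ rgStabN N (θ₀ : N → ℂ) := by
    intro s hs
    have hs' : s⁻¹ ∈ Subgroup.normalizer (N : Set Γ) := Subgroup.inv_mem _ (hSN hs)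
    obtain ⟨θ₃, hθ₃def⟩ : ∃ θ₃ : N → ℂ, θ₃ = fun m => (θ₀ : N → ℂ) (rgConjN N s⁻¹ hs' m) :=
      ⟨_, rfl⟩
    have hθ₃ : Cfsg.IsIrrCharacter N θ₃ := by
      rw [hθ₃def]
      exact h7_isIrr_comp_equiv (rgConjN N s⁻¹ hs') _ θ₀.2
    have hcon₃ : Cfsg.classInner χN θ₃ ≠ 0 := by
      have h1 := h7_classInner_comp_equiv (rgConjN N s⁻¹ hs') χN (θ₀ : N → ℂ)
      have h2 : (fun a => χN (rgConjN N s⁻¹ hs' a)) = χN := by
        funext a
        have := hχNS s hs (rgConjN N s⁻¹ hs' a)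
        rw [← this]
        congr 1
        apply Subtype.ext
        simp only [rgConjN_coe]
        group
      rw [h2] at h1
      rw [hθ₃def, h1]
      exact hcon₀
    have h1 : Cfsg.classInner (fun x : N.subgroupOf G => (χ : G → ℂ) x)
        (fun x : N.subgroupOf G => (θ₀ : N → ℂ) (e x)) ≠ 0 := by
      have := h7_classInner_comp_equiv e χN (θ₀ : N → ℂ)
      rw [hχNdef] at this hcon₀
      rw [← this] at hcon₀
      exact hcon₀
    have h2 : Cfsg.classInner (fun x : N.subgroupOf G => (χ : G → ℂ) x)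
        (fun x : N.subgroupOf G => θ₃ (e x)) ≠ 0 := by
      have := h7_classInner_comp_equiv e χN θ₃
      rw [hχNdef] at this hcon₃
      rw [← this] at hcon₃
      exact hcon₃
    obtain ⟨k, hk⟩ := clifford_conj (N.subgroupOf G) (χ : G → ℂ) χ.2 _ _
      (h7_isIrr_comp_equiv e _ θ₀.2) (h7_isIrr_comp_equiv e _ hθ₃) h1 h2
    have hkN : (k : Γ) ∈ Subgroup.normalizer (N : Set Γ) := hGN k.2
    have hkey : ∀ m : N, (θ₀ : N → ℂ) (rgConjN N s⁻¹ hs' m) = (θ₀ : N → ℂ) (rgConjN N k hkN m) := by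
      intro m
      have := congrFun hk (e.symm m)
      rw [cj_apply] at this
      simp only [MulEquiv.apply_symm_apply] at this
      rw [hθ₃def] at this
      simp only at this
      rw [this]
      congr 1
    refine ⟨k, k.2, Subgroup.mul_mem _ hkN (hSN hs), ?_⟩
    intro n
    have h3 := hkey (rgConjN N s (hSN hs) n)
    have e1 : rgConjN N ((k : Γ) * s) (Subgroup.mul_mem _ hkN (hSN hs)) n =
        rgConjN N k hkN (rgConjN N s (hSN hs) n) := by
      apply Subtype.ext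
      simp only [rgConjN_coe]
      group
    have e2 : rgConjN N s⁻¹ hs' (rgConjN N s (hSN hs) n) = n := by
      apply Subtype.ext
      simp only [rgConjN_coe]
      group
    rw [e1, ← h3, e2]
  obtain ⟨g, hg, hgS⟩ := rel_glauberman G S N (rgStabN N (θ₀ : N → ℂ)) hNG hnorm hNS hcop hsolv hNI hI
  have hgN : g ∈ Subgroup.normalizer (N : Set Γ) := hGN hg
  have hginvN : g⁻¹ ∈ Subgroup.normalizer (N : Set Γ) := Subgroup.inv_mem _ hgN
  -- θ := θ₀ conjugated by g
  refine ⟨⟨fun n => (θ₀ : N → ℂ) (rgConjN N g hgN n), h7_isIrr_comp_equiv (rgConjN N g hgN) _ θ₀.2⟩,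
    ?_, ?_⟩
  · have h1 := h7_classInner_comp_equiv (rgConjN N g hgN) χN (θ₀ : N → ℂ)
    have h2 : (fun a => χN (rgConjN N g hgN a)) = χN := by
      funext a
      exact hχNG g hg a
    rw [h2] at h1
    simp only
    rw [← hχNdef, h1]
    exact hcon₀
  · intro s hs n n' hnn'
    simp only
    obtain ⟨hγ, hγ2⟩ := hgS s hs
    have := hγ2 (rgConjN N g hgN n)
    rw [← this]
    refine congrArg (θ₀ : N → ℂ) (Subtype.ext ?_)
    simp only [rgConjN_coe]
    rw [hnn']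
    group

end Cfsg.Agent.S4447
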