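import Cfsg.Statements.S4444
import Cfsg.Agent.Lib.helper2.GlaubP6

set_option autoImplicit false
open Cfsg

namespace Cfsg.Agent.S4444

open Cfsg

open Cfsg.Agent.Lib.helper2 in


/-- The Glauberman correspondence for a p-group of operators. Inside a finite group Γ let S normalise G with the orders of G and S coprime, S a p-group, and let C = G ⊓ C(S) be the fixed points. Call an irreducible character χ of G S-invariant when χ(s g s⁻¹) = χ(g) for s ∈ S, g ∈ G. Then: (i) for every S-invariant χ there is exactly one irreducible character β of C whose multiplicity [χ_C, β] in the restriction of χ is not divisible by p; (ii) that multiplicity is ≡ 1 or ≡ −1 (mod p); (iii) distinct S-invariant χ give distinct β; (iv) every irreducible character of C arises in this way. So χ ↦ β is a bijection from the S-invariant irreducible characters of G onto the irreducible characters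 of C. -/
theorem result {Γ : Type*} [Group Γ] [Fintype Γ] (G S : Subgroup Γ) [Fintype G] (hnorm : ∀ s ∈ S, ∀ g ∈ G, s * g * s⁻¹ ∈ G) (hcop : (Nat.card G).Coprime (Nat.card S)) (p : ℕ) (hp : p.Prime) (hS : IsPGroup p S) (C : Subgroup Γ) [Fintype C] (hC : C = G ⊓ Subgroup.centralizer (S : Set Γ)) (hCG : C ≤ G) : (∀ χ : Cfsg.IrrCharacter G, (∀ s ∈ S, ∀ g g' : G, (g' : Γ) = s * g * s⁻¹ → (χ : G → ℂ) g' = (χ : G → ℂ) g) → ∃! β : Cfsg.IrrCharacter C, ∃ m : ℕ, Cfsg.classInner (fun c : C => (χ : G → ℂ) ⟨c, hCG c.2⟩) (β : C → ℂ) = (m : ℂ) ∧ ¬ p ∣ m) ∧ (∀ χ : Cfsg.IrrCharacter G, (∀ s ∈ S, ∀ g g' : G, (g' : Γ) = s * g * s⁻¹ → (χ : G → ℂ) g' = (χ : G → ℂ) g) → ∀ β : Cfsg.IrrCharacter C, ∀ m : ℕ, Cfsg.classInner (fun c : C => (χ : G → ℂ) ⟨c, hCG c.2⟩) (β : C → ℂ) = (m : ℂ) → ¬ p ∣ m → ((m : ℤ) ≡ 1 [ZMOD p] ∨ (m : ℤ) ≡ -1 [ZMOD p])) ∧ (∀ χ χ' : Cfsg.IrrCharacter G, (∀ s ∈ S,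 ∀ g g' : G, (g' : Γ) = s * g * s⁻¹ → (χ : G → ℂ) g' = (χ : G → ℂ) g) → (∀ s ∈ S, ∀ g g' : G, (g' : Γ) = s * g * s⁻¹ → (χ' : G → ℂ) g' = (χ' : G → ℂ) g) → ∀ β : Cfsg.IrrCharacter C, ∀ m m' : ℕ, Cfsg.classInner (fun c : C => (χ : G → ℂ) ⟨c, hCG c.2⟩) (β : C → ℂ) = (m : ℂ) → ¬ p ∣ m → Cfsg.classInner (fun c : C => (χ' : G → ℂ) ⟨c, hCG c.2⟩) (β : C → ℂ) = (m' : ℂ) → ¬ p ∣ m' → χ = χ') ∧ (∀ β : Cfsg.IrrCharacter C, ∃ χ : Cfsg.IrrCharacter G, (∀ s ∈ S, ∀ g g' : G, (g' : Γ) = s * g * s⁻¹ → (χ : G → ℂ) g' = (χ : G → ℂ) g) ∧ ∃ m : ℕ, Cfsg.classInner (fun c : C => (χ : G → ℂ) ⟨c, hCG c.2⟩) (β : C → ℂ) = (m : ℂ) ∧ ¬ p ∣ m) := by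
  classical
  haveI : Fact p.Prime := ⟨hp⟩
  obtain ⟨HA, HB, HC⟩ := gp_main p (Nat.card S) G S rfl hnorm hcop hS C hC hCG
  refine ⟨?_, ?_, HB, HC⟩
  · intro χ hinv
    obtain ⟨β, ε, hε, hm⟩ := HA χ hinv
    obtain ⟨m, hm1, hm2⟩ := hm β
    rw [if_pos rfl] at hm2
    refine ⟨β, ⟨m, hm1, gp_not_dvd p hp m ε hε hm2⟩, ?_⟩
    rintro β' ⟨m', hm1', hpm'⟩
    obtain ⟨m'', h1, h2⟩ := hm β'
    have hmm : m'' = m' := by
      have : (m'' : ℂ) = m' := by rw [← h1, ← hm1']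
      exact_mod_cast this
    exact gp_eq_of_not_dvd p m'' ε β' β h2 (hmm ▸ hpm')
  · intro χ hinv β' m' hm1' hpm'
    obtain ⟨β, ε, hε, hm⟩ := HA χ hinv
    obtain ⟨m'', h1, h2⟩ := hm β'
    have hmm : m'' = m' := by
      have : (m'' : ℂ) = m' := by rw [← h1, ← hm1']
      exact_mod_cast this
    have hb : β' = β := gp_eq_of_not_dvd p m'' ε β' β h2 (hmm ▸ hpm')
    rw [if_pos hb, hmm] at h2
    rcases hε with rfl | rfl
    · exact Or.inl h2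
    · exact Or.inr h2

end Cfsg.Agent.S4444
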