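import Mathlib
import Cfsg.Statements.S3869
import Cfsg.Prelude.Def_LocalStructure
import Cfsg.Prelude.Def_Transfer
import Cfsg.Agent.Lib.Helper21.IrrPrimeAction
import Cfsg.Agent.Lib.Helper21.Zipper

set_option autoImplicit false
open Cfsg

namespace Cfsg.Agent.S3869

open scoped Pointwise
open Cfsg.Agent.Lib.Helper21

variable {G : Type*} [Group G]

/-- a subgroup of prime index is maximal -/
lemma sup_zpowers_eq_top [Finite G] {p : ℕ} (hp : p.Prime) (A : Subgroup G) (hidx : A.index = p)
    (H : Subgroup G) (hAH : A ≤ H) (hne : ¬ H ≤ A) : H = ⊤ := by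
  have h1 := Subgroup.relIndex_mul_index hAH
  rw [hidx] at h1
  have h2 : H.index ∣ p := ⟨A.relIndex H, by rw [← h1, mul_comm]⟩
  rcases (Nat.dvd_prime hp).mp h2 with h | h
  · exact Subgroup.index_eq_one.mp h
  · exfalso
    rw [h] at h1
    have h3 : A.relIndex H = 1 := by
      have hp0 : 0 < p := hp.pos
      exact Nat.eq_of_mul_eq_mul_right hp0 (by rw [h1, one_mul])
    exact hne (Subgroup.relIndex_eq_one.mp h3)

/-- if some element outside `A` centralizes the abelian subgroup `A` of prime index, `G` is abelian -/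
lemma comm_of_centralizes [Finite G] {p : ℕ} (hp : p.Prime) (A : Subgroup G) (hidx : A.index = p)
    (hA : IsMulCommutative A) (x : G) (hx : x ∉ A) (hc : ∀ a ∈ A, x * a = a * x) :
    IsMulCommutative G := by
  have htop : A ⊔ Subgroup.zpowers x = ⊤ := by
    apply sup_zpowers_eq_top hp A hidx _ le_sup_left
    intro h
    exact hx (h (Subgroup.mem_sup_right (Subgroup.mem_zpowers x)))
  have hcl : Subgroup.closure ((A : Set G) ∪ {x}) = ⊤ := by
    rw [Subgroup.closure_union, Subgroup.closure_eq, ← Subgroup.zpowers_eq_closure, htop]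
  have hcomm : IsMulCommutative (Subgroup.closure ((A : Set G) ∪ {x})) := by
    apply Subgroup.isMulCommutative_closure
    intro a ha b hb
    rcases ha with ha | ha <;> rcases hb with hb | hb
    · exact congrArg Subtype.val (hA.is_comm.comm ⟨a, ha⟩ ⟨b, hb⟩)
    · rw [Set.mem_singleton_iff] at hb; subst hb; exact (hc a ha).symm
    · rw [Set.mem_singleton_iff] at ha; subst ha; exact hc b hb
    · rw [Set.mem_singleton_iff] at ha hb; subst ha; subst hb; rfl
  refine ⟨⟨fun a b => ?_⟩⟩
  have ha : a ∈ Subgroup.closure ((A : Set G) ∪ {x}) := by rw [hcl]; exact Subgroup.mem_top a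
  have hb : b ∈ Subgroup.closure ((A : Set G) ∪ {x}) := by rw [hcl]; exact Subgroup.mem_top b
  exact congrArg Subtype.val (hcomm.is_comm.comm ⟨a, ha⟩ ⟨b, hb⟩)

/-- groups of order dividing a prime are `p'`-closed for every `p'` -/
lemma isPClosed_of_card_dvd_prime {H : Type*} [Group H] [Finite H] {p r : ℕ} (hp : p.Prime)
    (h : Nat.card H ∣ p) : Cfsg.IsPClosed r H := by
  intro P
  rcases (Nat.dvd_prime hp).mp h with h1 | h1
  · haveI : Subsingleton H := (Nat.card_eq_one_iff_unique.mp h1).1
    have : (P : Subgroup H) = ⊤ := Subsingleton.elim _ _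
    rw [this]; infer_instance
  · haveI : Fact p.Prime := ⟨hp⟩
    haveI : IsCyclic H := isCyclic_of_prime_card h1
    letI : CommGroup H := IsCyclic.commGroup
    infer_instance


/-- conjugation by `x` on a normal subgroup -/
def conjHom (A : Subgroup G) [hA : A.Normal] (x : G) : A →* A where
  toFun a := ⟨x * a * x⁻¹, hA.conj_mem a a.2 x⟩
  map_one' := by apply Subtype.ext; simp
  map_mul' a b := by apply Subtype.ext; simp

lemma conjHom_iterate (A : Subgroup G) [hA : A.Normal] (x : G) (n : ℕ) (a : A) :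
    (((conjHom A x)^[n]) a : G) = x ^ n * a * (x ^ n)⁻¹ := by
  induction n with
  | zero => simp
  | succ n ih =>
    rw [Function.iterate_succ_apply']
    show x * (((conjHom A x)^[n]) a : G) * x⁻¹ = _
    rw [ih, pow_succ']
    group

/-- a subgroup of `A` invariant under `A` (abelian) and `x ∉ A` is normal in `G` -/
lemma normal_of_invariant [Finite G] {p : ℕ} (hp : p.Prime) (A : Subgroup G) (hidx : A.index = p)
    (hA : IsMulCommutative A) (x : G) (hx : x ∉ A) (B : Subgroup G) (hBA : B ≤ A)
    (hB : ∀ b ∈ B, x * b * x⁻¹ ∈ B) : B.Normal := by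
  have htop : A ⊔ Subgroup.zpowers x = ⊤ := by
    apply sup_zpowers_eq_top hp A hidx _ le_sup_left
    intro h
    exact hx (h (Subgroup.mem_sup_right (Subgroup.mem_zpowers x)))
  have hxN : x ∈ Subgroup.normalizer (B : Set G) := by
    rw [← conj_smul_eq_iff_mem_normalizer]
    have hle : MulAut.conj x • B ≤ B := by
      rintro _ ⟨b, hb, rfl⟩
      exact hB b hb
    exact Subgroup.eq_of_le_of_card_ge hle (card_conj_smul B x).ge
  have hAN : A ≤ Subgroup.normalizer (B : Set G) := by
    intro a ha
    rw [Subgroup.mem_normalizer_iff]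
    intro b
    constructor
    · intro hb
      have hc := congrArg Subtype.val (hA.is_comm.comm ⟨a, ha⟩ ⟨b, hBA hb⟩)
      have hc' : a * b = b * a := hc
      rw [hc', mul_inv_cancel_right]
      exact hb
    · intro hb
      have hb' : a * b * a⁻¹ ∈ A := hBA hb
      have hbA : b ∈ A := by
        have : b = a⁻¹ * (a * b * a⁻¹) * a := by group
        rw [this]
        exact A.mul_mem (A.mul_mem (A.inv_mem ha) hb') ha
      have hc := congrArg Subtype.val (hA.is_comm.comm ⟨a, ha⟩ ⟨b, hbA⟩)
      have hc' : a * b = b * a := hc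
      rw [hc', mul_inv_cancel_right] at hb
      exact hb
  have : Subgroup.normalizer (B : Set G) = ⊤ := by
    rw [eq_top_iff, ← htop]
    exact sup_le hAN ((Subgroup.zpowers_le).mpr hxN)
  exact Subgroup.normalizer_eq_top_iff.mp this

section main
variable [Finite G] {p q : ℕ} [hpf : Fact p.Prime] (hq : q.Prime) (hpq : q ≠ p)
    (hna : ¬ IsMulCommutative G) (A : Subgroup G) [hAn : A.Normal]
    (hA : Cfsg.IsElementaryAbelian q A) (hidx : A.index = p)
    (hmin : ∀ B : Subgroup G, B.Normal → B ≤ A → B = ⊥ ∨ B = A)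
include hq hpq hna hA hidx hmin

lemma card_A : Nat.card ↥A = q ^ orderOf (q : ZMod p) := by
  have hp := hpf.out
  haveI : Fact q.Prime := ⟨hq⟩
  obtain ⟨x, hx⟩ : ∃ x : G, x ∉ A := by
    by_contra hall
    push Not at hall
    have : A = ⊤ := eq_top_iff.mpr (fun y _ => hall y)
    rw [this, Subgroup.index_top] at hidx
    exact hp.one_lt.ne hidx
  letI : CommGroup A :=
    { (inferInstance : Group A) with mul_comm := hA.1.is_comm.comm }
  have hxp : x ^ p ∈ A := by
    have h1 : ((x : G ⧸ A)) ^ p = 1 := by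
      have : Nat.card (G ⧸ A) = p := hidx
      rw [← this]; exact pow_card_eq_one'
    rw [← QuotientGroup.mk_pow, QuotientGroup.eq_one_iff] at h1
    exact h1
  apply card_eq_of_irreducible_aut hpq (fun t => Subtype.ext (hA.2 t t.2)) (conjHom A x)
  · intro t
    apply Subtype.ext
    rw [conjHom_iterate]
    have hc := congrArg Subtype.val (hA.1.is_comm.comm ⟨x ^ p, hxp⟩ t)
    have hc' : x ^ p * (t : G) = t * x ^ p := hc
    rw [hc', mul_inv_cancel_right]
  · by_contra hall
    push Not at hall
    apply hna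
    apply comm_of_centralizes hp A hidx hA.1 x hx
    intro a ha
    have := congrArg Subtype.val (hall ⟨a, ha⟩)
    have h' : x * a * x⁻¹ = a := this
    calc x * a = x * a * x⁻¹ * x := by group
      _ = a * x := by rw [h']
  · intro B hB
    have hn : (B.map A.subtype).Normal := by
      apply normal_of_invariant hp A hidx hA.1 x hx _ (Subgroup.map_subtype_le B)
      rintro _ ⟨b, hb, rfl⟩
      exact ⟨conjHom A x b, hB b hb, rfl⟩
    rcases hmin _ hn (Subgroup.map_subtype_le B) with h | h
    · left
      rw [eq_bot_iff]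
      intro b hb
      have : (b : G) ∈ B.map A.subtype := ⟨b, hb, rfl⟩
      rw [h, Subgroup.mem_bot] at this
      rw [Subgroup.mem_bot]
      exact Subtype.ext this
    · right
      rw [eq_top_iff]
      intro b _
      have : (b : G) ∈ B.map A.subtype := by rw [h]; exact b.2
      obtain ⟨b', hb', hbb⟩ := this
      have : b' = b := Subtype.ext hbb
      rw [← this]; exact hb'


lemma A_isPGroup : IsPGroup q A := by
  intro a
  exact ⟨1, by rw [pow_one]; exact Subtype.ext (hA.2 a a.2)⟩

/-- elements of `p`-power order in `A` are trivial -/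
lemma eq_one_of_mem_A_of_pow (y : G) (hy : y ∈ A) (k : ℕ) (hyp : y ^ p ^ k = 1) : y = 1 := by
  have hp := hpf.out
  have h1 : orderOf y ∣ p ^ k := orderOf_dvd_of_pow_eq_one hyp
  have h2 : orderOf y ∣ q := orderOf_dvd_of_pow_eq_one (hA.2 y hy)
  have hcop : Nat.Coprime (p ^ k) q := Nat.Coprime.pow_left k ((Nat.coprime_primes hp hq).mpr hpq.symm)
  have := Nat.eq_one_of_dvd_coprimes hcop h1 h2
  exact orderOf_eq_one_iff.mp this

lemma not_pClosed : ¬ Cfsg.IsPClosed p G := by
  have hp := hpf.out
  intro hcl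
  obtain ⟨P⟩ : Nonempty (Sylow p G) := inferInstance
  have hPn : (P : Subgroup G).Normal := hcl P
  have hPne : (P : Subgroup G) ≠ ⊥ := by
    intro hbot
    have hdvd : p ∣ Nat.card G := by
      rw [← Subgroup.card_mul_index A, hidx]; exact dvd_mul_left p _
    have hc := P.card_eq_multiplicity
    rw [hbot, Subgroup.card_bot] at hc
    have hpos : 0 < (Nat.card G).factorization p :=
      Nat.Prime.factorization_pos_of_dvd hp Nat.card_pos.ne' hdvd
    rcases Nat.pow_eq_one.mp hc.symm with h | h
    · exact hp.one_lt.ne' h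
    · omega
  obtain ⟨y, hyP, hy1⟩ := (Subgroup.bot_or_exists_ne_one _).resolve_left hPne
  have hyA : y ∉ A := by
    intro hyA
    obtain ⟨k, hk⟩ := P.isPGroup' ⟨y, hyP⟩
    have hk' : y ^ p ^ k = 1 := by
      have := congrArg Subtype.val hk
      simpa using this
    exact hy1 (eq_one_of_mem_A_of_pow hq hpq hna A hA hidx hmin y hyA k hk')
  apply hna
  apply comm_of_centralizes hp A hidx hA.1 y hyA
  intro a ha
  have hdis : Disjoint (P : Subgroup G) A := by
    rw [Subgroup.disjoint_def]
    intro z hzP hzA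
    obtain ⟨k, hk⟩ := P.isPGroup' ⟨z, hzP⟩
    have hk' : z ^ p ^ k = 1 := by
      have := congrArg Subtype.val hk
      simpa using this
    exact eq_one_of_mem_A_of_pow hq hpq hna A hA hidx hmin z hzA k hk'
  exact (Subgroup.commute_of_normal_of_disjoint _ _ hPn hAn hdis y a hyP ha).eq

lemma sub_pClosed (H : Subgroup G) (hH : H ≠ ⊤) : Cfsg.IsPClosed p ↥H := by
  have hp := hpf.out
  by_cases hHA : H ≤ A
  · intro P
    have hbot : (P : Subgroup H) = ⊥ := by
      rw [eq_bot_iff]
      intro z hz
      obtain ⟨k, hk⟩ := P.isPGroup' ⟨z, hz⟩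
      have hk' : (z : G) ^ p ^ k = 1 := by
        have := congrArg Subtype.val (congrArg Subtype.val hk)
        simpa using this
      have := eq_one_of_mem_A_of_pow hq hpq hna A hA hidx hmin (z : G) (hHA z.2) k hk'
      rw [Subgroup.mem_bot]
      exact Subtype.ext this
    rw [hbot]; infer_instance
  · obtain ⟨h, hhH, hhA⟩ := SetLike.not_le_iff_exists.mp hHA
    have hDn : (H ⊓ A).Normal := by
      apply normal_of_invariant hp A hidx hA.1 h hhA _ inf_le_right
      intro b hb
      exact ⟨H.mul_mem (H.mul_mem hhH hb.1) (H.inv_mem hhH), hAn.conj_mem b hb.2 h⟩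
    rcases hmin _ hDn inf_le_right with hD | hD
    · -- H ∩ A = ⊥, so |H| divides p
      apply isPClosed_of_card_dvd_prime hp
      have h1 : A.relIndex H ∣ A.index := Subgroup.relIndex_dvd_index_of_normal A H
      rw [hidx] at h1
      have h2 : A.subgroupOf H = ⊥ := by
        rw [← Subgroup.inf_subgroupOf_right, inf_comm, hD]
        exact Subgroup.bot_subgroupOf H
      have h3 : A.relIndex H = Nat.card H := by
        unfold Subgroup.relIndex
        rw [h2, Subgroup.index_bot]
      rwa [h3] at h1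
    · exfalso
      apply hH
      have hAH : A ≤ H := by rw [← hD]; exact inf_le_left
      exact sup_zpowers_eq_top hp A hidx H hAH hHA

lemma quot_pClosed (N : Subgroup G) [hNn : N.Normal] (hN : N ≠ ⊥) : Cfsg.IsPClosed p (G ⧸ N) := by
  have hp := hpf.out
  have hDn : (N ⊓ A).Normal := inferInstance
  rcases hmin _ hDn inf_le_right with hD | hD
  · exfalso
    obtain ⟨y, hyN, hy1⟩ := (Subgroup.bot_or_exists_ne_one _).resolve_left hN
    have hdis : Disjoint N A := disjoint_iff.mpr hD
    have hyA : y ∉ A := by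
      intro hyA
      exact hy1 ((Subgroup.disjoint_def.mp hdis) hyN hyA)
    apply hna
    apply comm_of_centralizes hp A hidx hA.1 y hyA
    intro a ha
    exact (Subgroup.commute_of_normal_of_disjoint _ _ hNn hAn hdis y a hyN ha).eq
  · apply isPClosed_of_card_dvd_prime hp
    have hAN : A ≤ N := by rw [← hD]; exact inf_le_left
    have : Nat.card (G ⧸ N) = N.index := rfl
    rw [this, ← hidx]
    exact Subgroup.index_dvd_of_le hAN

end main


theorem result {G : Type*} [Group G] [Finite G] {p q : ℕ} [Fact p.Prime] (hq : q.Prime) (hpq : q ≠ p)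
    (hna : ¬ IsMulCommutative G) (A : Subgroup G) [A.Normal] (hA : Cfsg.IsElementaryAbelian q A) (hidx : A.index = p)
    (hmin : ∀ B : Subgroup G, B.Normal → B ≤ A → B = ⊥ ∨ B = A) :
    Nat.card ↥A = q ^ orderOf (q : ZMod p) ∧ ¬ Cfsg.IsPClosed p G ∧ (∀ H : Subgroup G, H ≠ ⊤ → Cfsg.IsPClosed p ↥H) ∧
      ∀ (N : Subgroup G) [N.Normal], N ≠ ⊥ → Cfsg.IsPClosed p (G ⧸ N) :=
  ⟨card_A hq hpq hna A hA hidx hmin, not_pClosed hq hpq hna A hA hidx hmin,
    fun H hH => sub_pClosed hq hpq hna A hA hidx hmin H hH,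
    fun N _ hN => quot_pClosed hq hpq hna A hA hidx hmin N hN⟩

end Cfsg.Agent.S3869

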