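import Mathlib
import Cfsg.Statements.S3868
import Cfsg.Prelude.Def_LocalStructure
import Cfsg.Prelude.Def_Transfer
import Cfsg.Agent.S3869
import Cfsg.Agent.Lib.Lead.Coprime
import Cfsg.Agent.Lib.Helper1.MinNormal
import Cfsg.Agent.Lib.Helper1.Hall
import Cfsg.Agent.Lib.Helper22.Basic

set_option autoImplicit false
open Cfsg

namespace Cfsg.Agent.S3868

open scoped Pointwise

variable {G : Type*} [Group G] [Finite G] {p : ℕ} [hpf : Fact p.Prime]

/-- the quotient-image trick: `N ⊔ P` is normal for normal `N ≠ ⊥`. -/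
lemma sup_normal
    (hquo : ∀ (N : Subgroup G) [N.Normal], N ≠ ⊥ → Cfsg.IsPClosed p (G ⧸ N))
    (P : Sylow p G) (N : Subgroup G) [N.Normal] (hN : N ≠ ⊥) :
    (N ⊔ (P : Subgroup G)).Normal := by
  have hcl := hquo N hN
  have hsurj : Function.Surjective (QuotientGroup.mk' N) := QuotientGroup.mk'_surjective N
  have hn : ((P.mapSurjective hsurj : Sylow p (G ⧸ N)) : Subgroup (G ⧸ N)).Normal := hcl _
  rw [Sylow.coe_mapSurjective] at hn
  have hn2 := hn.comap (QuotientGroup.mk' N)
  rwa [QuotientGroup.comap_map_mk'] at hn2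

/-- normal `p`-subgroups are trivial. -/
lemma normal_pgroup_eq_bot
    (hquo : ∀ (N : Subgroup G) [N.Normal], N ≠ ⊥ → Cfsg.IsPClosed p (G ⧸ N))
    (P : Sylow p G) (hP : ¬ (P : Subgroup G).Normal) (Q : Subgroup G) [hQn : Q.Normal]
    (hQ : IsPGroup p Q) : Q = ⊥ := by
  by_contra hne
  have hn2 := sup_normal hquo P Q hne
  have : Q ⊔ (P : Subgroup G) = P :=
    P.is_maximal' (hQ.to_sup_of_normal_left P.2) le_sup_right
  rw [this] at hn2
  exact hP hn2

lemma sup_eq_top
    (hsub : ∀ H : Subgroup G, H ≠ ⊤ → Cfsg.IsPClosed p ↥H)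
    (hquo : ∀ (N : Subgroup G) [N.Normal], N ≠ ⊥ → Cfsg.IsPClosed p (G ⧸ N))
    (P : Sylow p G) (hP : ¬ (P : Subgroup G).Normal) (N : Subgroup G) [N.Normal] (hN : N ≠ ⊥) :
    N ⊔ (P : Subgroup G) = ⊤ := by
  by_contra h
  have hcl := hsub (N ⊔ P) h
  have hle : (P : Subgroup G) ≤ N ⊔ P := le_sup_right
  have hn : ((P.subtype hle : Sylow p ↥(N ⊔ (P : Subgroup G))) : Subgroup ↥(N ⊔ (P : Subgroup G))).Normal := hcl _
  haveI := sup_normal hquo P N hN
  haveI : ((P.subtype hle : Sylow p ↥(N ⊔ (P : Subgroup G))) : Subgroup ↥(N ⊔ (P : Subgroup G))).Characteristic :=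
    Sylow.characteristic_of_normal _ hn
  have hn2 : (((P.subtype hle : Sylow p ↥(N ⊔ (P : Subgroup G))) : Subgroup ↥(N ⊔ (P : Subgroup G))).map
      (N ⊔ (P : Subgroup G)).subtype).Normal := ConjAct.normal_of_characteristic_of_normal
  rw [Sylow.coe_subtype, Subgroup.subgroupOf_map_subtype, inf_of_le_left hle] at hn2
  exact hP hn2

lemma not_dvd_card
    (hsub : ∀ H : Subgroup G, H ≠ ⊤ → Cfsg.IsPClosed p ↥H)
    (hquo : ∀ (N : Subgroup G) [N.Normal], N ≠ ⊥ → Cfsg.IsPClosed p (G ⧸ N))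
    (P : Sylow p G) (hP : ¬ (P : Subgroup G).Normal) (N : Subgroup G) [N.Normal] (hNtop : N ≠ ⊤) :
    ¬ p ∣ Nat.card N := by
  intro hdvd
  have hcl := hsub N hNtop
  let S : Sylow p N := default
  have hSn : (S : Subgroup N).Normal := hcl S
  haveI : (S : Subgroup N).Characteristic := Sylow.characteristic_of_normal S hSn
  haveI : ((S : Subgroup N).map N.subtype).Normal := ConjAct.normal_of_characteristic_of_normal
  have hpg : IsPGroup p ((S : Subgroup N).map N.subtype) := S.2.map _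
  have hbot := normal_pgroup_eq_bot hquo P hP _ hpg
  have : (S : Subgroup N) = ⊥ := by
    rwa [Subgroup.map_eq_bot_iff_of_injective _ N.subtype_injective] at hbot
  exact Sylow.ne_bot_of_dvd_card S hdvd this

lemma le_centralizer_of_pClosed_sup (A Q' : Subgroup G) (hA : IsPGroup p A)
    (hcl : Cfsg.IsPClosed p ↥(A ⊔ Q')) (hQ' : ¬ p ∣ Nat.card Q')
    (hnorm : A ≤ Subgroup.normalizer (Q' : Set G)) :
    Q' ≤ Subgroup.centralizer (A : Set G) := by
  intro y hy
  rw [Subgroup.mem_centralizer_iff]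
  intro x hx
  have hAH : A ≤ A ⊔ Q' := le_sup_left
  have hQH : Q' ≤ A ⊔ Q' := le_sup_right
  obtain ⟨S, hS⟩ := (hA.comap_subtype (K := A ⊔ Q')).exists_le_sylow
  have hSn : (S : Subgroup ↥(A ⊔ Q')).Normal := hcl S
  have hxS : (⟨x, hAH hx⟩ : ↥(A ⊔ Q')) ∈ (S : Subgroup ↥(A ⊔ Q')) := hS (by
    show (⟨x, hAH hx⟩ : ↥(A ⊔ Q')) ∈ A.subgroupOf (A ⊔ Q')
    rw [Subgroup.mem_subgroupOf]; exact hx)
  have h1 : (⟨y, hQH hy⟩ : ↥(A ⊔ Q')) * ⟨x, hAH hx⟩ * (⟨y, hQH hy⟩ : ↥(A ⊔ Q'))⁻¹ *
      (⟨x, hAH hx⟩ : ↥(A ⊔ Q'))⁻¹ ∈ (S : Subgroup ↥(A ⊔ Q')) :=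
    (S : Subgroup ↥(A ⊔ Q')).mul_mem (hSn.conj_mem _ hxS _) ((S : Subgroup ↥(A ⊔ Q')).inv_mem hxS)
  obtain ⟨k, hk⟩ := S.2 ⟨_, h1⟩
  have hk' : (y * x * y⁻¹ * x⁻¹) ^ p ^ k = 1 := by
    have := congrArg (fun t : (S : Subgroup ↥(A ⊔ Q')) => ((t : ↥(A ⊔ Q')) : G)) hk
    simpa using this
  have h2 : y * x * y⁻¹ * x⁻¹ ∈ Q' := by
    have h := (Subgroup.mem_normalizer_iff.mp (hnorm hx) y⁻¹).mp (Q'.inv_mem hy)
    have e : y * x * y⁻¹ * x⁻¹ = y * (x * y⁻¹ * x⁻¹) := by group
    rw [e]; exact Q'.mul_mem hy h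
  have h3 : y * x * y⁻¹ * x⁻¹ = 1 := by
    have hd1 : orderOf (y * x * y⁻¹ * x⁻¹) ∣ p ^ k := orderOf_dvd_of_pow_eq_one hk'
    have hd2 : orderOf (y * x * y⁻¹ * x⁻¹) ∣ Nat.card Q' := by
      have := orderOf_dvd_natCard (⟨_, h2⟩ : Q')
      rwa [Subgroup.orderOf_mk] at this
    have hcop : (p ^ k).Coprime (Nat.card Q') :=
      Nat.Coprime.pow_left _ ((Nat.Prime.coprime_iff_not_dvd hpf.out).mpr hQ')
    have := Nat.eq_one_of_dvd_coprimes hcop hd1 hd2
    exact orderOf_eq_one_iff.mp this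
  have : y * x = x * y := by
    have := congrArg (fun t => t * x * y) h3
    simpa [mul_assoc] using this
  exact this.symm

theorem result {G : Type*} [Group G] [Finite G] {p : ℕ} [Fact p.Prime]
    (hnc : ¬ Cfsg.IsPClosed p G) (hsub : ∀ H : Subgroup G, H ≠ ⊤ → Cfsg.IsPClosed p ↥H)
    (hquo : ∀ (N : Subgroup G) [N.Normal], N ≠ ⊥ → Cfsg.IsPClosed p (G ⧸ N)) (hns : ¬ IsSimpleGroup G) :
    ∃ q : ℕ, q.Prime ∧ q ≠ p ∧ Nat.card G = p * q ^ orderOf (q : ZMod p) ∧
      ∃ A : Subgroup G, A.Normal ∧ Nat.card ↥A = q ^ orderOf (q : ZMod p) ∧ Cfsg.IsElementaryAbelian q A ∧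
        ∀ B : Subgroup G, B.Normal → B ≤ A → B = ⊥ ∨ B = A := by
  classical
  have hp : p.Prime := Fact.out
  obtain ⟨P, hP⟩ : ∃ P : Sylow p G, ¬ (P : Subgroup G).Normal := by
    by_contra h; push Not at h; exact hnc h
  haveI : Nontrivial G := by
    by_contra h
    rw [not_nontrivial_iff_subsingleton] at h
    apply hP
    have : (P : Subgroup G) = ⊥ := Subsingleton.elim _ _
    rw [this]; infer_instance
  obtain ⟨N, hNn, hNbot, hNmin⟩ := Cfsg.Agent.Lib.Helper1.exists_minimal_normal (G := G)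
  haveI := hNn
  have hNtop : N ≠ ⊤ := by
    intro h
    apply hns
    refine ⟨fun H hH => ?_⟩
    rcases hNmin H hH (h ▸ le_top) with h1 | h1
    · exact Or.inl h1
    · exact Or.inr (h1.trans h)
  have hpN : ¬ p ∣ Nat.card N := not_dvd_card hsub hquo P hP N hNtop
  have hsup : (P : Subgroup G) ⊔ N = ⊤ := by
    rw [sup_comm]; exact sup_eq_top hsub hquo P hP N hNbot
  have hcop : (Nat.card (P : Subgroup G)).Coprime (Nat.card N) := by
    obtain ⟨k, hk⟩ := IsPGroup.iff_card.mp P.2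
    rw [hk]
    exact Nat.Coprime.pow_left _ ((Nat.Prime.coprime_iff_not_dvd hp).mpr hpN)
  have hdisj : (P : Subgroup G) ⊓ N = ⊥ :=
    Cfsg.Agent.Lib.Helper1.inf_eq_bot_of_coprime_card _ _ hcop
  haveI hPsolv : Group.IsSolvable (P : Subgroup G) := by
    haveI : Group.IsNilpotent (P : Subgroup G) := P.2.isNilpotent
    infer_instance
  -- key: N is a q-group for some prime q
  have hkey : ∃ q : ℕ, q.Prime ∧ IsPGroup q N := by
    by_contra hcon
    push Not at hcon
    have hall : ∀ (r : ℕ) [Fact r.Prime], ∃ R : Sylow r N,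
        (R : Subgroup N) ≤ (Subgroup.centralizer ((P : Subgroup G) : Set G)).subgroupOf N := by
      intro r hr
      obtain ⟨Q, hQ⟩ := Cfsg.Agent.Lib.Lead.exists_invariant_sylow_ext (P : Subgroup G) N hsup hcop
        (Or.inl hPsolv) r
      refine ⟨Q, ?_⟩
      have hQ'N : (Q : Subgroup N).map N.subtype ≤ N := by
        rintro _ ⟨x, _, rfl⟩; exact x.2
      by_cases htop : (P : Subgroup G) ⊔ (Q : Subgroup N).map N.subtype = ⊤
      · exfalso
        have hQ'n : ((Q : Subgroup N).map N.subtype).Normal := by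
          rw [← Subgroup.normalizer_eq_top_iff, eq_top_iff, ← htop]
          exact sup_le hQ Subgroup.le_normalizer
        rcases hNmin _ hQ'n hQ'N with h1 | h1
        · rw [h1, sup_bot_eq] at htop
          apply hP; rw [htop]; infer_instance
        · apply hcon r hr.out
          have hQtop : ∀ x : N, x ∈ (Q : Subgroup N) := by
            intro x
            have hx : (x : G) ∈ (Q : Subgroup N).map N.subtype := by rw [h1]; exact x.2
            obtain ⟨y, hy, hyx⟩ := hx
            have : y = x := Subtype.ext hyx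
            rwa [← this]
          intro g
          obtain ⟨k, hk⟩ := Q.2 ⟨g, hQtop g⟩
          exact ⟨k, by simpa using congrArg Subtype.val hk⟩
      · have hcl := hsub _ htop
        have hQ'p : ¬ p ∣ Nat.card ((Q : Subgroup N).map N.subtype) := fun h =>
          hpN (h.trans (Subgroup.card_dvd_of_le hQ'N))
        have hle := le_centralizer_of_pClosed_sup (P : Subgroup G) _ P.2 hcl hQ'p hQ
        intro x hx
        rw [Subgroup.mem_subgroupOf]
        exact hle ⟨x, hx, rfl⟩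
    have htopN := Cfsg.Agent.Lib.Helper22.eq_top_of_sylow_le _ hall
    rw [Subgroup.subgroupOf_eq_top] at htopN
    apply hP
    rw [← Subgroup.normalizer_eq_top_iff, eq_top_iff, ← hsup]
    exact sup_le Subgroup.le_normalizer (htopN.trans (Subgroup.centralizer_le_normalizer _))
  obtain ⟨q, hq, hNq⟩ := hkey
  haveI : Fact q.Prime := ⟨hq⟩
  have hqp : q ≠ p := by
    rintro rfl
    apply hpN
    obtain ⟨k, hk⟩ := IsPGroup.iff_card.mp hNq
    rcases Nat.eq_zero_or_pos k with rfl | hkpos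
    · exfalso; apply hNbot; rw [pow_zero] at hk; exact Subgroup.card_eq_one.mp hk
    · rw [hk]; exact dvd_pow_self _ hkpos.ne'
  have hidx : N.index = Nat.card (P : Subgroup G) :=
    (Cfsg.Agent.Lib.Lead.isComplement'_of_sup_eq_top N (P : Subgroup G) hsup hcop).symm.index_eq_card
  haveI : Group.IsSolvable G := by
    haveI : Group.IsNilpotent N := hNq.isNilpotent
    haveI : Group.IsNilpotent (G ⧸ N) := by
      apply IsPGroup.isNilpotent (p := p)
      obtain ⟨k, hk⟩ := IsPGroup.iff_card.mp P.2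
      apply IsPGroup.of_card (n := k)
      rw [← Subgroup.index_eq_card, hidx, hk]
    exact solvable_of_ker_le_range N.subtype (QuotientGroup.mk' N) (by simp)
  obtain ⟨hNcomm, r, hr, hNr⟩ := Cfsg.Agent.Lib.Helper1.minimal_normal_of_solvable N hNbot hNmin
  have hrq : r = q := by
    obtain ⟨a, ha⟩ := (Subgroup.ne_bot_iff_exists_ne_one).mp hNbot
    have h1 : (a : G) ^ r = 1 := hNr a a.2
    have h2 : orderOf (a : G) = r := by
      rcases (Nat.dvd_prime hr).mp (orderOf_dvd_of_pow_eq_one h1) with h | h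
      · exfalso; apply ha; exact Subtype.ext (orderOf_eq_one_iff.mp h)
      · exact h
    obtain ⟨k, hk⟩ := hNq a
    have h3 : (a : G) ^ q ^ k = 1 := by simpa using congrArg Subtype.val hk
    have h4 : r ∣ q ^ k := h2 ▸ orderOf_dvd_of_pow_eq_one h3
    exact (Nat.prime_dvd_prime_iff_eq hr hq).mp (hr.dvd_of_dvd_pow h4)
  subst hrq
  have hEA : Cfsg.IsElementaryAbelian r N := ⟨hNcomm, hNr⟩
  -- P ∩ C(N) = 1
  have hC : (P : Subgroup G) ⊓ Subgroup.centralizer (N : Set G) = ⊥ := by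
    haveI hCn : (Subgroup.centralizer (N : Set G)).Normal := Subgroup.normal_centralizer
    haveI : ((P : Subgroup G) ⊓ Subgroup.centralizer (N : Set G)).Normal := by
      rw [← Subgroup.normalizer_eq_top_iff, eq_top_iff, ← hsup]
      apply sup_le
      · intro x hx
        rw [Subgroup.mem_normalizer_iff]
        intro c
        constructor
        · rintro ⟨hc1, hc2⟩
          exact ⟨(P : Subgroup G).mul_mem ((P : Subgroup G).mul_mem hx hc1) ((P : Subgroup G).inv_mem hx),
            hCn.conj_mem c hc2 x⟩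
        · rintro ⟨hc1, hc2⟩
          have e : c = x⁻¹ * (x * c * x⁻¹) * x := by group
          constructor
          · rw [e]
            exact (P : Subgroup G).mul_mem ((P : Subgroup G).mul_mem ((P : Subgroup G).inv_mem hx) hc1) hx
          · rw [e]
            have := hCn.conj_mem _ hc2 x⁻¹
            simpa using this
      · intro n hn
        apply Subgroup.centralizer_le_normalizer
        rw [Subgroup.mem_centralizer_iff]
        intro c hc
        exact ((Subgroup.mem_centralizer_iff.mp hc.2) n hn).symm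
    exact normal_pgroup_eq_bot hquo P hP _ (P.2.to_le inf_le_left)
  have hPcard : Nat.card (P : Subgroup G) = p := by
    have hPne : (P : Subgroup G) ≠ ⊥ := fun h => hP (h ▸ inferInstance)
    have hpdvd : p ∣ Nat.card (P : Subgroup G) := by
      obtain ⟨k, hk⟩ := IsPGroup.iff_card.mp P.2
      rcases Nat.eq_zero_or_pos k with rfl | hkpos
      · exfalso; apply hPne; rw [pow_zero] at hk; exact Subgroup.card_eq_one.mp hk
      · rw [hk]; exact dvd_pow_self p hkpos.ne'
    obtain ⟨x, hx⟩ := exists_prime_orderOf_dvd_card' p hpdvd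
    have hP₁P : Subgroup.zpowers (x : G) ≤ P := (Subgroup.zpowers_le).mpr x.2
    have hP₁card : Nat.card (Subgroup.zpowers (x : G)) = p := by
      rw [Nat.card_zpowers, Subgroup.orderOf_coe, hx]
    have hdisj1 : Subgroup.zpowers (x : G) ⊓ N = ⊥ := by
      rw [eq_bot_iff, ← hdisj]; exact inf_le_inf_right _ hP₁P
    by_cases htop : Subgroup.zpowers (x : G) ⊔ N = ⊤
    · have h1 := Cfsg.Agent.Lib.Helper1.card_sup_eq_mul_of_inf_eq_bot _ N hdisj1
      have h2 := Cfsg.Agent.Lib.Helper1.card_sup_eq_mul_of_inf_eq_bot _ N hdisj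
      rw [htop] at h1; rw [hsup] at h2
      have h3 : Nat.card (Subgroup.zpowers (x : G)) * Nat.card N = Nat.card (P : Subgroup G) * Nat.card N := by
        rw [← h1, ← h2]
      have := Nat.eq_of_mul_eq_mul_right Nat.card_pos h3
      rw [← this, hP₁card]
    · exfalso
      have hcl := hsub _ htop
      have hnorm : Subgroup.zpowers (x : G) ≤ Subgroup.normalizer (N : Set G) := by
        rw [Subgroup.normalizer_eq_top_iff.mpr hNn]; exact le_top
      have hle := le_centralizer_of_pClosed_sup (Subgroup.zpowers (x : G)) N (P.2.to_le hP₁P) hcl hpN hnorm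
      have hxC : (x : G) ∈ (P : Subgroup G) ⊓ Subgroup.centralizer (N : Set G) := by
        refine ⟨x.2, ?_⟩
        show (x : G) ∈ Subgroup.centralizer (N : Set G)
        rw [Subgroup.mem_centralizer_iff]
        intro n hn
        exact ((Subgroup.mem_centralizer_iff.mp (hle hn)) x (Subgroup.mem_zpowers _)).symm
      rw [hC, Subgroup.mem_bot] at hxC
      have : orderOf x = 1 := by
        rw [orderOf_eq_one_iff]; exact Subtype.ext hxC
      rw [hx] at this
      exact hp.one_lt.ne' this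
  have hna : ¬ IsMulCommutative G := by
    intro hcomm
    apply hP
    have hc : ∀ a b : G, a * b = b * a := fun a b => hcomm.is_comm.comm a b
    refine ⟨fun n hn g => ?_⟩
    rw [hc g n, mul_assoc, mul_inv_cancel, mul_one]; exact hn
  have hres := Cfsg.Agent.S3869.result hq hqp hna N hEA (hidx.trans hPcard) hNmin
  refine ⟨r, hq, hqp, ?_, N, hNn, hres.1, hEA, hNmin⟩
  rw [← N.card_mul_index, hidx, hPcard, hres.1, mul_comm]

end Cfsg.Agent.S3868
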