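import Cfsg.Statements.S5656
import Cfsg.Agent.Lib.Helper28.Herm
import Cfsg.Agent.S5635

set_option autoImplicit false

open Cfsg

namespace Cfsg.Agent.S5656

open Matrix Cfsg.Agent.Lib.Helper28.Herm

theorem hF2 {F : Type*} [Field F] [Fintype F] (hF : Fintype.card F = 4) :
    Fintype.card F = 2 ^ 2 := by rw [hF]; norm_num

theorem two_zero {F : Type*} [Field F] [Fintype F] (hF : Fintype.card F = 4) : (2 : F) = 0 := by
  have h4 := Cfsg.Agent.S5635.char_of_card (F := F)
  rw [hF] at h4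
  have h4' : (2 : F) * 2 = 0 := by
    have : ((4 : ℕ) : F) = 2 * 2 := by norm_num
    rw [← this]
    exact h4
  exact mul_self_eq_zero.mp h4'

theorem pow_four {F : Type*} [Field F] [Fintype F] (hF : Fintype.card F = 4) (a : F) :
    a ^ 4 = a := by
  have := FiniteField.pow_card a
  rw [hF] at this
  exact this

theorem self_cases {F : Type*} [Field F] [Fintype F] (hF : Fintype.card F = 4) (n : ℕ)
    (z : Fin n → F) : Cfsg.hermForm n F 2 z z = 0 ∨ Cfsg.hermForm n F 2 z z = 1 := by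
  have h1 := herm_symm (hF2 hF) n z z
  have h2 : Cfsg.hermForm n F 2 z z * (Cfsg.hermForm n F 2 z z - 1) = 0 := by
    linear_combination -h1
  rcases mul_eq_zero.mp h2 with h | h
  · exact Or.inl h
  · exact Or.inr (sub_eq_zero.mp h)

theorem mem_GU_iff {F : Type*} [Field F] (n q : ℕ) (g : Matrix.GeneralLinearGroup (Fin n) F) :
    g ∈ Cfsg.GU n F q ↔ ∀ u v, Cfsg.hermForm n F q ((g : Matrix (Fin n) (Fin n) F) *ᵥ u)
      ((g : Matrix (Fin n) (Fin n) F) *ᵥ v) = Cfsg.hermForm n F q u v := Iff.rfl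

theorem tv4 {F : Type*} [Field F] [Fintype F] (hF : Fintype.card F = 4) (n : ℕ)
    (v : Fin n → F) (hv : v ≠ 0) (hv0 : Cfsg.hermForm n F 2 v v = 0) :
    ∃ g : Matrix.GeneralLinearGroup (Fin n) F, g ∈ Cfsg.GU n F 2 ∧
      g ∈ Cfsg.Geo.specialLinear (Fin n) F ∧
      ∀ x, (g : Matrix (Fin n) (Fin n) F) *ᵥ x = x + Cfsg.hermForm n F 2 x v • v := by
  have hdet : (Cfsg.unitaryTransvection n 2 v (1 : F)).det = 1 := utv_det n 2 v 1 hv0
  refine ⟨Matrix.GeneralLinearGroup.mkOfDetNeZero (Cfsg.unitaryTransvection n 2 v (1 : F))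
    (by rw [hdet]; exact one_ne_zero), ?_, ?_, ?_⟩
  · rw [mem_GU_iff]
    have h1 : (1 : F) = 0 ∨ (1 : F) ^ (2 - 1) = -1 := by
      right
      have := two_zero hF
      rw [one_pow]
      linear_combination this
    exact (Cfsg.Agent.S0779.result (hF2 hF) n v hv hv0 1).mpr h1
  · rw [Cfsg.Agent.S5635.mem_SL_iff]
    exact hdet
  · intro x
    have := Cfsg.Agent.S0779.utv_mulVec n 2 v (1 : F) x
    rw [one_mul] at this
    exact this

theorem exists_noniso {F : Type*} [Field F] [Fintype F] (hF : Fintype.card F = 4) (n : ℕ)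
    (W : Submodule F (Fin n → F)) (hW0 : ∃ w ∈ W, w ≠ 0)
    (hnd : Cfsg.Geo.IsNondegenerateOn (Cfsg.hermForm n F 2) W) :
    ∃ x ∈ W, Cfsg.hermForm n F 2 x x ≠ 0 := by
  classical
  obtain ⟨w, hw, hw0⟩ := hW0
  by_cases hww : Cfsg.hermForm n F 2 w w = 0
  · obtain ⟨z, hz, hzw⟩ := (hnd w hw hw0).1
    by_cases hzz : Cfsg.hermForm n F 2 z z = 0
    · set β := Cfsg.hermForm n F 2 w z with hβ
      have hzw' : Cfsg.hermForm n F 2 z w = β ^ 2 := herm_symm (hF2 hF) n w z
      have hβ0 : β ≠ 0 := by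
        intro h
        rw [hzw', h] at hzw
        exact hzw (by ring)
      obtain ⟨c, _, hc⟩ : ∃ c ∈ (Finset.univ : Finset F), c ∉ ({0, β} : Finset F) := by
        apply Finset.exists_mem_notMem_of_card_lt_card
        rw [Finset.card_univ, hF]
        exact lt_of_le_of_lt (Finset.card_insert_le _ _) (by simp)
      rw [Finset.mem_insert, Finset.mem_singleton] at hc
      push Not at hc
      refine ⟨w + c • z, W.add_mem hw (W.smul_mem c hz), ?_⟩
      rw [herm_add_left, herm_add_right (hF2 hF), herm_add_right (hF2 hF), herm_smul_left,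
        herm_smul_left, herm_smul_right, herm_smul_right, hww, hzz, hzw', ← hβ]
      have h2 := two_zero hF
      have : 0 + c ^ 2 * β + (c * β ^ 2 + c * (c ^ 2 * 0)) = c * β * (c - β) := by
        linear_combination (c * β ^ 2) * h2
      rw [this]
      exact mul_ne_zero (mul_ne_zero hc.1 hβ0) (sub_ne_zero.mpr hc.2)
    · exact ⟨z, hz, hzz⟩
  · exact ⟨w, hw, hww⟩

theorem frame {F : Type*} [Field F] [Fintype F] (hF : Fintype.card F = 4) (n : ℕ)
    (W : Submodule F (Fin n → F)) (hdim : Module.finrank F W = 2)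
    (hnd : Cfsg.Geo.IsNondegenerateOn (Cfsg.hermForm n F 2) W) :
    ∃ x y : Fin n → F, x ∈ W ∧ y ∈ W ∧ Cfsg.hermForm n F 2 x x = 1 ∧
      Cfsg.hermForm n F 2 y y = 1 ∧ Cfsg.hermForm n F 2 x y = 0 ∧ Cfsg.hermForm n F 2 y x = 0 ∧
      ∀ z ∈ W, z = Cfsg.hermForm n F 2 z x • x + Cfsg.hermForm n F 2 z y • y := by
  have hW0 : ∃ w ∈ W, w ≠ 0 := Cfsg.Agent.S5635.exists_ne_zero_of_finrank W hdim (by norm_num)
  obtain ⟨x, hx, hxx⟩ := exists_noniso hF n W hW0 hnd
  have hxx1 : Cfsg.hermForm n F 2 x x = 1 := (self_cases hF n x).resolve_left hxx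
  have hx0 : x ≠ 0 := by
    intro h
    rw [h, herm_zero_left] at hxx
    exact hxx rfl
  obtain ⟨z, hz, hzx⟩ : ∃ z ∈ W, z ∉ Submodule.span F {x} := by
    by_contra hcon
    push Not at hcon
    have hle : W ≤ Submodule.span F {x} := fun y hy => hcon y hy
    have h1 := Submodule.finrank_mono hle
    rw [hdim, finrank_span_singleton hx0] at h1
    omega
  set y := z - Cfsg.hermForm n F 2 z x • x with hy
  have hyW : y ∈ W := W.sub_mem hz (W.smul_mem _ hx)
  have hyx : Cfsg.hermForm n F 2 y x = 0 := by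
    have : z = y + Cfsg.hermForm n F 2 z x • x := by rw [hy]; abel
    have h1 : Cfsg.hermForm n F 2 z x = Cfsg.hermForm n F 2 y x + Cfsg.hermForm n F 2 z x * 1 := by
      conv_lhs => rw [this]
      rw [herm_add_left, herm_smul_left, hxx1]
    linear_combination -h1
  have hxy : Cfsg.hermForm n F 2 x y = 0 := by
    rw [herm_symm (hF2 hF) n y x, hyx]
    ring
  have hy0 : y ≠ 0 := by
    intro h
    apply hzx
    have : z = Cfsg.hermForm n F 2 z x • x := by
      have h1 : z - Cfsg.hermForm n F 2 z x • x = 0 := by rw [← hy]; exact h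
      exact sub_eq_zero.mp h1
    rw [this]
    exact Submodule.smul_mem _ _ (Submodule.mem_span_singleton_self x)
  have hli : LinearIndependent F ![(⟨x, hx⟩ : W), ⟨y, hyW⟩] := by
    rw [LinearIndependent.pair_iff]
    intro s u hsu
    have hsu' : s • x + u • y = 0 := by
      have := congrArg Subtype.val hsu
      simpa using this
    have hs : s = 0 := by
      have := congrArg (fun w => Cfsg.hermForm n F 2 w x) hsu'
      simp only [herm_add_left, herm_smul_left, hxx1, hyx, herm_zero_left, mul_one, mul_zero,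
        add_zero] at this
      exact this
    rw [hs, zero_smul, zero_add] at hsu'
    exact ⟨hs, (smul_eq_zero.mp hsu').resolve_right hy0⟩
  have hcard : Fintype.card (Fin 2) = Module.finrank F W := by
    rw [hdim]
    rfl
  have hspan := hli.span_eq_top_of_card_eq_finrank' hcard
  have hrep : ∀ w ∈ W, ∃ a b : F, w = a • x + b • y := by
    intro w hw
    have hws : (⟨w, hw⟩ : W) ∈ Submodule.span F (Set.range ![(⟨x, hx⟩ : W), ⟨y, hyW⟩]) := by
      rw [hspan]
      exact Submodule.mem_top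
    rw [Submodule.mem_span_range_iff_exists_fun] at hws
    obtain ⟨cf, hcf⟩ := hws
    refine ⟨cf 0, cf 1, ?_⟩
    have := congrArg Subtype.val hcf
    simp [Fin.sum_univ_two] at this
    exact this.symm
  have hyy : Cfsg.hermForm n F 2 y y ≠ 0 := by
    intro h0
    obtain ⟨w, hw, hwy⟩ := (hnd y hyW hy0).1
    obtain ⟨a, b, hab⟩ := hrep w hw
    apply hwy
    rw [hab, herm_add_left, herm_smul_left, herm_smul_left, hxy, h0]
    ring
  have hyy1 : Cfsg.hermForm n F 2 y y = 1 := (self_cases hF n y).resolve_left hyy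
  refine ⟨x, y, hx, hyW, hxx1, hyy1, hxy, hyx, ?_⟩
  intro w hw
  obtain ⟨a, b, hab⟩ := hrep w hw
  have h1 : Cfsg.hermForm n F 2 w x = a := by
    rw [hab, herm_add_left, herm_smul_left, herm_smul_left, hxx1, hyx]
    ring
  have h2 : Cfsg.hermForm n F 2 w y = b := by
    rw [hab, herm_add_left, herm_smul_left, herm_smul_left, hxy, hyy1]
    ring
  rw [h1, h2]
  exact hab

def SS {F : Type*} [Field F] (n : ℕ) {t : ℕ} (D : Fin t → Submodule F (Fin n → F)) :
    Set (Fin n → F) :=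
  {z | ∃ i, z ∈ D i ∧ Cfsg.hermForm n F 2 z z ≠ 0}

theorem mem_stabS {F : Type*} [Field F] (n : ℕ) (S : Set (Fin n → F))
    (g : Matrix.GeneralLinearGroup (Fin n) F) :
    g ∈ Cfsg.stabilizing (Cfsg.glToMat (Fin n) F) S ↔
      ∀ v, v ∈ S ↔ (g : Matrix (Fin n) (Fin n) F) *ᵥ v ∈ S := Iff.rfl

theorem cube_one {F : Type*} [Field F] [Fintype F] (hF : Fintype.card F = 4) (a : F)
    (ha : a ≠ 0) : a ^ 3 = 1 := by
  have h4 := pow_four hF a
  have : a * (a ^ 3 - 1) = 0 := by linear_combination h4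
  rcases mul_eq_zero.mp this with h | h
  · exact absurd h ha
  · exact sub_eq_zero.mp h

theorem local_swap {F : Type*} [Field F] [Fintype F] (hF : Fintype.card F = 4) (n : ℕ)
    (W W' : Submodule F (Fin n → F)) (x y y' : Fin n → F)
    (hy : y ∈ W) (hxx : Cfsg.hermForm n F 2 x x = 1) (hyy : Cfsg.hermForm n F 2 y y = 1)
    (hxy : Cfsg.hermForm n F 2 x y = 0) (hyx : Cfsg.hermForm n F 2 y x = 0)
    (hrep : ∀ z ∈ W, z = Cfsg.hermForm n F 2 z x • x + Cfsg.hermForm n F 2 z y • y)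
    (hy' : y' ∈ W') (horth : ∀ u ∈ W, Cfsg.hermForm n F 2 u y' = 0)
    (z : Fin n → F) (hz : z ∈ W) (hzz : Cfsg.hermForm n F 2 z z ≠ 0) :
    z + Cfsg.hermForm n F 2 z (y + y') • (y + y') ∈ W ∨
      z + Cfsg.hermForm n F 2 z (y + y') • (y + y') ∈ W' := by
  have h2 := two_zero hF
  set a := Cfsg.hermForm n F 2 z x with ha
  set b := Cfsg.hermForm n F 2 z y with hb
  have hzrep : z = a • x + b • y := hrep z hz
  have hv : Cfsg.hermForm n F 2 z (y + y') = b := by
    rw [herm_add_right (hF2 hF), horth z hz, add_zero]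
  rw [hv]
  by_cases hb0 : b = 0
  · left
    rw [hb0, zero_smul, add_zero]
    exact hz
  · right
    have ha0 : a = 0 := by
      by_contra ha0
      apply hzz
      have e : Cfsg.hermForm n F 2 z z = a ^ 3 + b ^ 3 := by
        conv_lhs => rw [hzrep]
        rw [herm_add_left, herm_add_right (hF2 hF), herm_add_right (hF2 hF), herm_smul_left,
          herm_smul_left, herm_smul_right, herm_smul_right, herm_smul_left, herm_smul_left,
          herm_smul_right, herm_smul_right, hxx, hyy, hxy, hyx]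
        ring
      rw [e, cube_one hF a ha0, cube_one hF b hb0]
      linear_combination h2
    have e2 : z + b • (y + y') = b • y' := by
      rw [hzrep, ha0, zero_smul, zero_add, smul_add, ← add_assoc, ← add_smul]
      have : b + b = 0 := by linear_combination b * h2
      rw [this, zero_smul, zero_add]
    rw [e2]
    exact W'.smul_mem b hy'

theorem idx_unique {F : Type*} [Field F] (n : ℕ) {t : ℕ} (D : Fin t → Submodule F (Fin n → F))
    (hind : iSupIndep D) (i j : Fin t) (z : Fin n → F) (hi : z ∈ D i) (hj : z ∈ D j)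
    (hz : z ≠ 0) : i = j := by
  by_contra hij
  have := hind.pairwiseDisjoint hij
  exact hz ((Submodule.disjoint_def.mp this) z hi hj)

theorem fwd_stab {F : Type*} [Field F] (n : ℕ) {t : ℕ} (D : Fin t → Submodule F (Fin n → F))
    (g : Matrix.GeneralLinearGroup (Fin n) F) (hgD : g ∈ Cfsg.Geo.decompositionStabilizer D)
    (hgU : g ∈ Cfsg.GU n F 2) (z : Fin n → F) (hz : z ∈ SS n D) :
    (g : Matrix (Fin n) (Fin n) F) *ᵥ z ∈ SS n D := by
  obtain ⟨σ, hσ⟩ := hgD
  obtain ⟨i, hzi, hne⟩ := hz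
  refine ⟨σ i, ?_, ?_⟩
  · rw [← hσ i]
    exact ⟨z, hzi, by simp [Matrix.toLin'_apply]⟩
  · rw [(mem_GU_iff n 2 g).mp hgU]
    exact hne

theorem result {F : Type*} [Field F] [Fintype F] (n : ℕ) (hF : Fintype.card F = 4) (hn : 13 ≤ n) {t : ℕ} (D : Fin t → Submodule F (Fin n → F)) (hD : Cfsg.Geo.IsNondegenerateMDecomposition (Cfsg.hermForm n F 2) 2 D) : ∃ K : Subgroup (Matrix.GeneralLinearGroup (Fin n) F), Cfsg.Geo.decompositionStabilizer D ⊓ (Cfsg.GU n F 2 ⊓ Cfsg.Geo.specialLinear (Fin n) F) < K ∧ K < (Cfsg.GU n F 2 ⊓ Cfsg.Geo.specialLinear (Fin n) F) := by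
  classical
  have ht := hD.decomp.two_le
  have h2 := two_zero hF
  obtain ⟨i0, hi0⟩ : ∃ i : Fin t, i = ⟨0, by omega⟩ := ⟨_, rfl⟩
  obtain ⟨i1, hi1⟩ : ∃ i : Fin t, i = ⟨1, by omega⟩ := ⟨_, rfl⟩
  have h01 : i0 ≠ i1 := by
    rw [hi0, hi1]
    intro h
    have := congrArg Fin.val h
    simp at this
  obtain ⟨x0, y0, hx0, hy0, hx0x0, hy0y0, hx0y0, hy0x0, hrep0⟩ :=
    frame hF n (D i0) (hD.decomp.finrank_eq i0) (hD.nondegenerate i0)
  obtain ⟨x1, y1, hx1, hy1, hx1x1, hy1y1, hx1y1, hy1x1, hrep1⟩ :=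
    frame hF n (D i1) (hD.decomp.finrank_eq i1) (hD.nondegenerate i1)
  have c01 := hD.orthogonal i0 i1 h01
  have c10 := hD.orthogonal i1 i0 h01.symm
  have hq2 := hF2 hF
  have hvv : Cfsg.hermForm n F 2 (y0 + y1) (y0 + y1) = 0 := by
    rw [herm_add_left, herm_add_right hq2, herm_add_right hq2, hy0y0, hy1y1, c01 y0 hy0 y1 hy1,
      c10 y1 hy1 y0 hy0]
    linear_combination h2
  have hv0 : y0 + y1 ≠ 0 := by
    intro h
    have h1 : Cfsg.hermForm n F 2 (y0 + y1) y0 = 1 := by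
      rw [herm_add_left, hy0y0, c10 y1 hy1 y0 hy0, add_zero]
    rw [h, herm_zero_left] at h1
    exact zero_ne_one h1
  obtain ⟨g, hgU, hgS, hg⟩ := tv4 hF n (y0 + y1) hv0 hvv
  have hv'v' : Cfsg.hermForm n F 2 (x0 + y0 + (x1 + y1)) (x0 + y0 + (x1 + y1)) = 0 := by
    simp only [herm_add_left, herm_add_right hq2, hx0x0, hy0y0, hx1x1, hy1y1, hx0y0, hy0x0,
      hx1y1, hy1x1, c01 x0 hx0 x1 hx1, c01 x0 hx0 y1 hy1, c01 y0 hy0 x1 hx1, c01 y0 hy0 y1 hy1,
      c10 x1 hx1 x0 hx0, c10 x1 hx1 y0 hy0, c10 y1 hy1 x0 hx0, c10 y1 hy1 y0 hy0]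
    linear_combination (2 : F) * h2
  have hx0v' : Cfsg.hermForm n F 2 x0 (x0 + y0 + (x1 + y1)) = 1 := by
    simp only [herm_add_right hq2, hx0x0, hx0y0, c01 x0 hx0 x1 hx1, c01 x0 hx0 y1 hy1, add_zero]
  have hv'0 : x0 + y0 + (x1 + y1) ≠ 0 := by
    intro h
    rw [h, herm_zero_right n 2 (by norm_num)] at hx0v'
    exact zero_ne_one hx0v'
  obtain ⟨g', hg'U, hg'S, hg'⟩ := tv4 hF n (x0 + y0 + (x1 + y1)) hv'0 hv'v'
  have hx0S : x0 ∈ SS n D := ⟨i0, hx0, by rw [hx0x0]; exact one_ne_zero⟩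
  refine ⟨Cfsg.stabilizing (Cfsg.glToMat (Fin n) F) (SS n D) ⊓
    (Cfsg.GU n F 2 ⊓ Cfsg.Geo.specialLinear (Fin n) F), ?_, ?_⟩
  · rw [SetLike.lt_iff_le_and_exists]
    refine ⟨?_, g, ⟨?_, hgU, hgS⟩, ?_⟩
    · intro a ha
      refine ⟨?_, ha.2⟩
      refine (mem_stabS n _ a).mpr ?_
      intro z
      constructor
      · exact fwd_stab n D a ha.1 ha.2.1 z
      · intro hz
        have := fwd_stab n D a⁻¹ ((Cfsg.Geo.decompositionStabilizer D).inv_mem ha.1)
          ((Cfsg.GU n F 2).inv_mem ha.2.1) _ hz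
        rw [Matrix.mulVec_mulVec, ← Units.val_mul, inv_mul_cancel, Units.val_one,
          Matrix.one_mulVec] at this
        exact this
    · refine (mem_stabS n _ g).mpr ?_
      have hgg : ∀ z, (g : Matrix (Fin n) (Fin n) F) *ᵥ ((g : Matrix (Fin n) (Fin n) F) *ᵥ z) = z := by
        intro z
        rw [hg, hg, herm_add_left, herm_smul_left, hvv, mul_zero, add_zero, add_assoc, ← add_smul]
        have : Cfsg.hermForm n F 2 z (y0 + y1) + Cfsg.hermForm n F 2 z (y0 + y1) = 0 := by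
          linear_combination (Cfsg.hermForm n F 2 z (y0 + y1)) * h2
        rw [this, zero_smul, add_zero]
      have fwd : ∀ z, z ∈ SS n D → (g : Matrix (Fin n) (Fin n) F) *ᵥ z ∈ SS n D := by
        rintro z ⟨i, hzi, hne⟩
        have hne' : Cfsg.hermForm n F 2 ((g : Matrix (Fin n) (Fin n) F) *ᵥ z)
            ((g : Matrix (Fin n) (Fin n) F) *ᵥ z) ≠ 0 := by
          rw [(mem_GU_iff n 2 g).mp hgU]
          exact hne
        by_cases hi0' : i = i0
        · rw [hi0'] at hzi
          have := local_swap hF n (D i0) (D i1) x0 y0 y1 hy0 hx0x0 hy0y0 hx0y0 hy0x0 hrep0 hy1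
            (fun u hu => c01 u hu y1 hy1) z hzi hne
          rw [← hg] at this
          rcases this with h | h
          · exact ⟨i0, h, hne'⟩
          · exact ⟨i1, h, hne'⟩
        · by_cases hi1' : i = i1
          · rw [hi1'] at hzi
            have := local_swap hF n (D i1) (D i0) x1 y1 y0 hy1 hx1x1 hy1y1 hx1y1 hy1x1 hrep1 hy0
              (fun u hu => c10 u hu y0 hy0) z hzi hne
            rw [add_comm y1 y0, ← hg] at this
            rcases this with h | h
            · exact ⟨i1, h, hne'⟩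
            · exact ⟨i0, h, hne'⟩
          · have e : (g : Matrix (Fin n) (Fin n) F) *ᵥ z = z := by
              rw [hg, herm_add_right hq2, hD.orthogonal i i0 hi0' z hzi y0 hy0,
                hD.orthogonal i i1 hi1' z hzi y1 hy1, add_zero, zero_smul, add_zero]
            rw [e]
            exact ⟨i, hzi, hne⟩
      intro z
      constructor
      · exact fwd z
      · intro hz
        have := fwd _ hz
        rw [hgg] at this
        exact this
    · intro hmem
      obtain ⟨σ, hσ⟩ := hmem.1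
      have hgx0 : (g : Matrix (Fin n) (Fin n) F) *ᵥ x0 = x0 := by
        rw [hg, herm_add_right hq2, hx0y0, c01 x0 hx0 y1 hy1, add_zero, zero_smul, add_zero]
      have hgy0 : (g : Matrix (Fin n) (Fin n) F) *ᵥ y0 = y1 := by
        rw [hg, herm_add_right hq2, hy0y0, c01 y0 hy0 y1 hy1, add_zero, one_smul, ← add_assoc]
        have : y0 + y0 = 0 := by rw [← two_smul F y0, h2, zero_smul]
        rw [this, zero_add]
      have m1 : x0 ∈ D (σ i0) := by
        rw [← hσ i0]
        exact ⟨x0, hx0, by rw [Matrix.toLin'_apply]; exact hgx0⟩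
      have m2 : y1 ∈ D (σ i0) := by
        rw [← hσ i0]
        exact ⟨y0, hy0, by rw [Matrix.toLin'_apply]; exact hgy0⟩
      have hx00 : x0 ≠ 0 := by
        intro h
        rw [h, herm_zero_left] at hx0x0
        exact zero_ne_one hx0x0
      have hy10 : y1 ≠ 0 := by
        intro h
        rw [h, herm_zero_left] at hy1y1
        exact zero_ne_one hy1y1
      have e1 := idx_unique n D hD.decomp.indep _ _ x0 hx0 m1 hx00
      have e2 := idx_unique n D hD.decomp.indep _ _ y1 hy1 m2 hy10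
      exact h01 (e1.trans e2.symm)
  · rw [SetLike.lt_iff_le_and_exists]
    refine ⟨fun a ha => ha.2, g', ⟨hg'U, hg'S⟩, ?_⟩
    intro hmem
    have h1 := ((mem_stabS n _ g').mp hmem.1 x0).mp hx0S
    rw [hg', hx0v', one_smul] at h1
    obtain ⟨j, hj, _⟩ := h1
    have hw1 : Cfsg.hermForm n F 2 (x0 + (x0 + y0 + (x1 + y1))) y0 = 1 := by
      simp only [herm_add_left, hx0y0, hy0y0, c10 x1 hx1 y0 hy0, c10 y1 hy1 y0 hy0]
      ring
    have hw2 : Cfsg.hermForm n F 2 (x0 + (x0 + y0 + (x1 + y1))) x1 = 1 := by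
      simp only [herm_add_left, hx1x1, hy1x1, c01 x0 hx0 x1 hx1, c01 y0 hy0 x1 hx1]
      ring
    have hj0 : j = i0 := by
      by_contra hne
      rw [hD.orthogonal j i0 hne _ hj y0 hy0] at hw1
      exact zero_ne_one hw1
    rw [hj0] at hj
    rw [c01 _ hj x1 hx1] at hw2
    exact zero_ne_one hw2

end Cfsg.Agent.S5656
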