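import Mathlib
import Cfsg.Statements.S0568
import Cfsg.Agent.Lib.helper4.HallSysE
import Cfsg.Agent.Lib.helper4.HallSysB
import Cfsg.Agent.Lib.helper4.HallSysD
set_option autoImplicit false
open Cfsg

namespace Cfsg.Agent.S0568

open scoped commutatorElement Pointwise

variable {G : Type*} [Group G]

theorem minNormal_prime_exp [Finite G] [Group.IsSolvable G] (V : Subgroup G) [hVn : V.Normal]
    (hV : V ≠ ⊥) (hmin : ∀ N : Subgroup G, N.Normal → N ≤ V → N = ⊥ ∨ N = V) :
    (∀ x ∈ V, ∀ y ∈ V, x * y = y * x) ∧ ∃ p : ℕ, p.Prime ∧ ∀ x ∈ V, x ^ p = 1 := by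
  have hlt : ⁅V, V⁆ < V := Group.IsSolvable.commutator_lt_of_ne_bot hV
  have hcn : (⁅V, V⁆ : Subgroup G).Normal := Subgroup.commutator_normal V V
  have hcb : ⁅V, V⁆ = ⊥ := by
    rcases hmin _ hcn hlt.le with h | h
    · exact h
    · exact absurd h hlt.ne
  have hab : ∀ x ∈ V, ∀ y ∈ V, x * y = y * x := by
    intro x hx y hy
    have h1 : ⁅x, y⁆ ∈ ⁅V, V⁆ := Subgroup.commutator_mem_commutator hx hy
    rw [hcb, Subgroup.mem_bot] at h1
    exact commutatorElement_eq_one_iff_mul_comm.mp h1
  refine ⟨hab, ?_⟩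
  have hne : Nat.card V ≠ 1 := by
    intro h1
    exact hV (Subgroup.card_eq_one.mp h1)
  obtain ⟨p, hp, hpd⟩ := Nat.exists_prime_and_dvd hne
  haveI : Fact p.Prime := ⟨hp⟩
  obtain ⟨x, hx⟩ := exists_prime_orderOf_dvd_card' p hpd
  let Vp : Subgroup G :=
    { carrier := {v | v ∈ V ∧ v ^ p = 1}
      one_mem' := ⟨V.one_mem, one_pow p⟩
      mul_mem' := by
        rintro a b ⟨ha, hap⟩ ⟨hb, hbp⟩
        refine ⟨V.mul_mem ha hb, ?_⟩
        have hc : Commute a b := hab a ha b hb
        rw [hc.mul_pow, hap, hbp, one_mul]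
      inv_mem' := by
        rintro a ⟨ha, hap⟩
        exact ⟨V.inv_mem ha, by rw [inv_pow, hap, inv_one]⟩ }
  have hVpn : Vp.Normal := by
    refine ⟨fun a ha t => ?_⟩
    refine ⟨hVn.conj_mem a ha.1 t, ?_⟩
    rw [conj_pow, ha.2]
    group
  have hVple : Vp ≤ V := fun v hv => hv.1
  have hxmem : (x : G) ∈ Vp := by
    refine ⟨x.2, ?_⟩
    have h3 := pow_orderOf_eq_one x
    rw [hx] at h3
    have := congrArg Subtype.val h3
    simpa using this
  have hVpne : Vp ≠ ⊥ := by
    intro hb
    rw [hb, Subgroup.mem_bot] at hxmem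
    have hx1 : x = 1 := Subtype.ext hxmem
    rw [hx1, orderOf_one] at hx
    exact hp.one_lt.ne hx
  have hVpV : Vp = V := (hmin Vp hVpn hVple).resolve_left hVpne
  refine ⟨p, hp, fun v hv => ?_⟩
  have : v ∈ Vp := by rw [hVpV]; exact hv
  exact this.2

theorem exists_minNormal [Finite G] [Nontrivial G] :
    ∃ V : Subgroup G, V.Normal ∧ V ≠ ⊥ ∧
      ∀ N : Subgroup G, N.Normal → N ≤ V → N = ⊥ ∨ N = V := by
  classical
  let s : Set (Subgroup G) := {N | N.Normal ∧ N ≠ ⊥}
  have hs : s.Nonempty := ⟨⊤, inferInstance, top_ne_bot⟩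
  obtain ⟨V, hVs, hVmin⟩ := (Set.toFinite s).exists_minimal hs
  refine ⟨V, hVs.1, hVs.2, fun N hN hNV => ?_⟩
  by_cases hNb : N = ⊥
  · exact Or.inl hNb
  · right
    exact le_antisymm hNV (hVmin ⟨hN, hNb⟩ hNV)

theorem exists_normal_above [Finite G] [Group.IsSolvable G] (C : Subgroup G) [hC : C.Normal]
    (hCtop : C ≠ ⊤) :
    ∃ (L : Subgroup G) (q : ℕ), L.Normal ∧ q.Prime ∧ C ≤ L ∧ ¬ L ≤ C ∧ ∀ g ∈ L, g ^ q ∈ C := by
  haveI : Nontrivial (G ⧸ C) := by
    rw [← not_subsingleton_iff_nontrivial]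
    intro hsub
    exact hCtop (QuotientGroup.subgroup_eq_top_of_subsingleton C hsub)
  obtain ⟨V, hVn, hVne, hVmin⟩ := exists_minNormal (G := G ⧸ C)
  obtain ⟨-, q, hq, hexp⟩ := minNormal_prime_exp V hVne hVmin
  refine ⟨V.comap (QuotientGroup.mk' C), q, hVn.comap _, hq, ?_, ?_, ?_⟩
  · intro c hc
    rw [Subgroup.mem_comap]
    have : QuotientGroup.mk' C c = 1 := (QuotientGroup.eq_one_iff c).mpr hc
    rw [this]
    exact V.one_mem
  · intro hle
    apply hVne
    rw [eq_bot_iff]
    intro v hv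
    obtain ⟨g, rfl⟩ := QuotientGroup.mk'_surjective C v
    have hg : g ∈ C := hle (Subgroup.mem_comap.mpr hv)
    rw [Subgroup.mem_bot]
    exact (QuotientGroup.eq_one_iff g).mpr hg
  · intro g hg
    have h1 := hexp _ (Subgroup.mem_comap.mp hg)
    rw [← map_pow] at h1
    exact (QuotientGroup.eq_one_iff _).mp h1


theorem inf_centralizer_normal (V L : Subgroup G) [hVn : V.Normal] [hLn : L.Normal] :
    (V ⊓ Subgroup.centralizer (L : Set G)).Normal := by
  haveI : (Subgroup.centralizer (L : Set G)).Normal := Subgroup.normal_centralizer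
  exact Subgroup.normal_inf_normal _ _

theorem le_centralizer_of_fixed (V L : Subgroup G) [hVn : V.Normal] [hLn : L.Normal]
    (hmin : ∀ N : Subgroup G, N.Normal → N ≤ V → N = ⊥ ∨ N = V)
    (v : G) (hv : v ∈ V) (hv1 : v ≠ 1) (hfix : ∀ g ∈ L, g * v = v * g) :
    L ≤ Subgroup.centralizer (V : Set G) := by
  have hn := inf_centralizer_normal V L
  have hvm : v ∈ V ⊓ Subgroup.centralizer (L : Set G) := by
    refine ⟨hv, (?_ : v ∈ Subgroup.centralizer (L : Set G))⟩
    rw [Subgroup.mem_centralizer_iff]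
    intro g hg
    exact hfix g hg
  have hne : V ⊓ Subgroup.centralizer (L : Set G) ≠ ⊥ := by
    intro hb
    rw [hb, Subgroup.mem_bot] at hvm
    exact hv1 hvm
  have heq := (hmin _ hn inf_le_left).resolve_left hne
  intro g hg
  rw [Subgroup.mem_centralizer_iff]
  intro x hx
  have hx' : x ∈ V ⊓ Subgroup.centralizer (L : Set G) := by rw [heq]; exact hx
  have := Subgroup.mem_centralizer_iff.mp hx'.2 g hg
  exact this.symm

theorem avoid [Finite G] [Group.IsSolvable G] (K : Nat.Primes → Subgroup G)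
    (hK : IsComplementSystem K) (V : Subgroup G) [hVn : V.Normal] (hV : V ≠ ⊥)
    (hmin : ∀ N : Subgroup G, N.Normal → N ≤ V → N = ⊥ ∨ N = V)
    (hnc : ¬ V ≤ Subgroup.center G) : V ⊓ systemNormalizer K = ⊥ := by
  obtain ⟨hab, p, hp, hexp⟩ := minNormal_prime_exp V hV hmin
  haveI : Fact p.Prime := ⟨hp⟩
  have hVp : IsPGroup p V := fun v => ⟨1, by
    apply Subtype.ext
    rw [pow_one]
    simpa using hexp v.1 v.2⟩
  have hpV : p ∣ Nat.card V := by
    rcases hVp.card_eq_or_dvd with h1 | h1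
    · exact absurd (Subgroup.card_eq_one.mp h1) hV
    · exact h1
  have hpG : p ∣ Nat.card G := hpV.trans (Subgroup.card_subgroup_dvd_card V)
  obtain ⟨hc, -, hcop⟩ := Cfsg.Agent.Lib.helper4.complementSystem_card hK ⟨p, hp⟩
  have hKcop : (Nat.card (K ⟨p, hp⟩)).Coprime p := by
    rw [hc]
    have hfac : (Nat.card G).factorization p ≠ 0 :=
      (Nat.Prime.factorization_pos_of_dvd hp Nat.card_pos.ne' hpG).ne'
    exact Nat.Coprime.coprime_dvd_right (dvd_pow_self p hfac) hcop
  have hVK : V ⊓ K ⟨p, hp⟩ = ⊥ := by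
    have hcopVK : (Nat.card V).Coprime (Nat.card (K ⟨p, hp⟩)) := by
      obtain ⟨n, hn⟩ := hVp.exists_card_eq
      rw [hn]
      exact Nat.Coprime.pow_left n hKcop.symm
    exact (Subgroup.disjoint_of_coprime_natCard hcopVK).eq_bot
  haveI hCn : (Subgroup.centralizer (V : Set G)).Normal := Subgroup.normal_centralizer
  have hCtop : Subgroup.centralizer (V : Set G) ≠ ⊤ := by
    intro htop
    apply hnc
    intro v hv
    rw [Subgroup.mem_center_iff]
    intro g
    have hg : g ∈ Subgroup.centralizer (V : Set G) := by rw [htop]; exact Subgroup.mem_top g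
    exact (Subgroup.mem_centralizer_iff.mp hg v hv).symm
  obtain ⟨L, q, hLn, hq, hCL, hLC, hLq⟩ :=
    exists_normal_above (Subgroup.centralizer (V : Set G)) hCtop
  have hWK : ∀ w ∈ V ⊓ systemNormalizer K, ∀ k ∈ K ⟨p, hp⟩, w * k = k * w := by
    intro w hw k hk
    have hwN : w ∈ Subgroup.normalizer (K ⟨p, hp⟩ : Set G) :=
      Cfsg.Agent.Lib.helper4.systemNormalizer_le_normalizer K ⟨p, hp⟩ hw.2
    have h1 : ⁅w, k⁆ ∈ V := by
      rw [commutatorElement_def]
      have : w * k * w⁻¹ * k⁻¹ = w * (k * w⁻¹ * k⁻¹) := by group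
      rw [this]
      exact V.mul_mem hw.1 (hVn.conj_mem _ (V.inv_mem hw.1) k)
    have h2 : ⁅w, k⁆ ∈ K ⟨p, hp⟩ := by
      rw [commutatorElement_def]
      exact (K ⟨p, hp⟩).mul_mem ((Subgroup.mem_normalizer_iff.mp hwN k).mp hk)
        ((K ⟨p, hp⟩).inv_mem hk)
    have h3 : ⁅w, k⁆ ∈ V ⊓ K ⟨p, hp⟩ := ⟨h1, h2⟩
    rw [hVK, Subgroup.mem_bot] at h3
    exact commutatorElement_eq_one_iff_mul_comm.mp h3
  by_cases hqp : q = p
  · exfalso
    subst hqp
    apply hLC
    have hH : IsPGroup q ↥(L.map (MulAut.conjNormal (H := V))) := by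
      rintro ⟨h, hh⟩
      obtain ⟨g, hg, rfl⟩ := Subgroup.mem_map.mp hh
      refine ⟨1, ?_⟩
      apply Subtype.ext
      rw [pow_one]
      show (MulAut.conjNormal g : MulAut V) ^ q = 1
      rw [← map_pow]
      ext v
      rw [MulAut.conjNormal_apply]
      have := Subgroup.mem_centralizer_iff.mp (hLq g hg) v.1 v.2
      rw [MulAut.one_apply, ← this]
      group
    have hone : (1 : V) ∈ MulAction.fixedPoints ↥(L.map (MulAut.conjNormal (H := V))) V := by
      intro h
      rw [Subgroup.smul_def, MulAut.smul_def, map_one]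
    obtain ⟨b, hb, hb1⟩ := hH.exists_fixed_point_of_prime_dvd_card_of_fixed_point (α := V) hpV hone
    apply le_centralizer_of_fixed V L hmin b.1 b.2 (fun h => hb1 (Subtype.ext h.symm))
    intro g hg
    have h1 := hb ⟨MulAut.conjNormal g, Subgroup.mem_map_of_mem _ hg⟩
    rw [Subgroup.smul_def, MulAut.smul_def] at h1
    have h2 := congrArg Subtype.val h1
    rw [MulAut.conjNormal_apply] at h2
    calc g * b.1 = (g * b.1 * g⁻¹) * g := by group
      _ = b.1 * g := by rw [h2]
  · rw [eq_bot_iff]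
    intro w hw
    rw [Subgroup.mem_bot]
    by_contra hw1
    apply hLC
    apply le_centralizer_of_fixed V L hmin w hw.1 hw1
    have hLM : L ≤ Subgroup.centralizer (V : Set G) ⊔ K ⟨p, hp⟩ := by
      rw [← Subgroup.relIndex_eq_one]
      have h1 : (Subgroup.centralizer (V : Set G) ⊔ K ⟨p, hp⟩).relIndex L ∣
          (Subgroup.centralizer (V : Set G) ⊔ K ⟨p, hp⟩).index :=
        Cfsg.Agent.Lib.helper4.relIndex_dvd_index_of_normal_right _ L
      have h2 : (Subgroup.centralizer (V : Set G) ⊔ K ⟨p, hp⟩).index ∣ (K ⟨p, hp⟩).index :=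
        Subgroup.index_dvd_of_le le_sup_right
      rw [hK ⟨p, hp⟩] at h2
      have h3 : (Subgroup.centralizer (V : Set G) ⊔ K ⟨p, hp⟩).relIndex L ∣
          (Subgroup.centralizer (V : Set G)).relIndex L :=
        Subgroup.relIndex_dvd_of_le_left L le_sup_left
      haveI : Fact q.Prime := ⟨hq⟩
      haveI hsn : ((Subgroup.centralizer (V : Set G)).subgroupOf L).Normal :=
        Subgroup.Normal.subgroupOf hCn L
      have hQp : IsPGroup q (↥L ⧸ (Subgroup.centralizer (V : Set G)).subgroupOf L) := by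
        intro x
        obtain ⟨⟨g, hg⟩, rfl⟩ := QuotientGroup.mk'_surjective _ x
        refine ⟨1, ?_⟩
        rw [pow_one, ← map_pow]
        rw [QuotientGroup.mk'_apply, QuotientGroup.eq_one_iff, Subgroup.mem_subgroupOf]
        exact hLq g hg
      obtain ⟨n, hn⟩ := hQp.exists_card_eq
      have h4 : (Subgroup.centralizer (V : Set G)).relIndex L = q ^ n := by
        rw [Subgroup.relIndex, Subgroup.index_eq_card, hn]
      rw [h4] at h3
      have hcpq : ((p : ℕ) ^ (Nat.card G).factorization p).Coprime (q ^ n) := by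
        apply Nat.Coprime.pow
        exact (Nat.coprime_primes hp hq).mpr (Ne.symm hqp)
      exact Nat.Coprime.eq_one_of_dvd (Nat.Coprime.coprime_dvd_left (h1.trans h2) hcpq) h3
    intro g hg
    have hgM := hLM hg
    have hcent : Subgroup.centralizer (V : Set G) ⊔ K ⟨p, hp⟩ ≤ Subgroup.centralizer ({w} : Set G) := by
      apply sup_le
      · intro c hc
        rw [Subgroup.mem_centralizer_iff]
        intro x hx
        rw [Set.mem_singleton_iff] at hx
        subst hx
        exact Subgroup.mem_centralizer_iff.mp hc x hw.1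
      · intro k hk
        rw [Subgroup.mem_centralizer_iff]
        intro x hx
        rw [Set.mem_singleton_iff] at hx
        subst hx
        exact hWK x hw k hk
    have := Subgroup.mem_centralizer_iff.mp (hcent hgM) w (Set.mem_singleton w)
    exact this.symm


theorem result {G : Type*} [Group G] [Finite G] [Group.IsSolvable G] (K : Nat.Primes → Subgroup G) (hK : Cfsg.IsComplementSystem K) (A B : Subgroup G) [A.Normal] [B.Normal] (hAB : A < B) (hchief : ∀ N : Subgroup G, N.Normal → A ≤ N → N ≤ B → N = A ∨ N = B) : (⁅B, (⊤ : Subgroup G)⁆ ≤ A → B ≤ A ⊔ Cfsg.systemNormalizer K) ∧ (¬ ⁅B, (⊤ : Subgroup G)⁆ ≤ A → B ⊓ Cfsg.systemNormalizer K ≤ A) := by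
  have hsurj := QuotientGroup.mk'_surjective A
  have hKm := Cfsg.Agent.Lib.helper4.complementSystem_map K hK A
  have hDm := Cfsg.Agent.Lib.helper4.systemNormalizer_map K hK A
  have hBn : B.Normal := inferInstance
  constructor
  · intro hcen b hb
    have hbc : QuotientGroup.mk' A b ∈ Subgroup.center (G ⧸ A) := by
      rw [Subgroup.mem_center_iff]
      intro x
      obtain ⟨g, rfl⟩ := hsurj x
      have h1 : ⁅b, g⁆ ∈ A := hcen (Subgroup.commutator_mem_commutator hb (Subgroup.mem_top g))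
      have h2 : QuotientGroup.mk' A ⁅b, g⁆ = 1 := (QuotientGroup.eq_one_iff _).mpr h1
      rw [map_commutatorElement, commutatorElement_eq_one_iff_mul_comm] at h2
      exact h2.symm
    have hcD : QuotientGroup.mk' A b ∈
        systemNormalizer (fun p => (K p).map (QuotientGroup.mk' A)) := by
      unfold systemNormalizer
      rw [Subgroup.mem_iInf]
      intro p
      exact Subgroup.center_le_normalizer _ hbc
    rw [hDm] at hcD
    obtain ⟨d, hd, hdb⟩ := Subgroup.mem_map.mp hcD
    have h2 : d⁻¹ * b ∈ A := QuotientGroup.eq.mp hdb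
    have e : b = d * (d⁻¹ * b) := by group
    rw [e]
    exact Subgroup.mul_mem _ (Subgroup.mem_sup_right hd) (Subgroup.mem_sup_left h2)
  · intro hncen x hx
    haveI hVn : (B.map (QuotientGroup.mk' A)).Normal := Subgroup.Normal.map hBn _ hsurj
    have hVne : B.map (QuotientGroup.mk' A) ≠ ⊥ := by
      intro hb
      rw [Subgroup.map_eq_bot_iff, QuotientGroup.ker_mk'] at hb
      exact absurd hb (not_le_of_gt hAB)
    have hVmin : ∀ N : Subgroup (G ⧸ A), N.Normal → N ≤ B.map (QuotientGroup.mk' A) →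
        N = ⊥ ∨ N = B.map (QuotientGroup.mk' A) := by
      intro N hN hNB
      have h1 : (N.comap (QuotientGroup.mk' A)).Normal := hN.comap _
      have h2 : A ≤ N.comap (QuotientGroup.mk' A) := by
        intro a ha
        rw [Subgroup.mem_comap]
        have : QuotientGroup.mk' A a = 1 := (QuotientGroup.eq_one_iff a).mpr ha
        rw [this]
        exact N.one_mem
      have h3 : N.comap (QuotientGroup.mk' A) ≤ B := by
        have := Subgroup.comap_mono (f := QuotientGroup.mk' A) hNB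
        rw [Subgroup.comap_map_eq, QuotientGroup.ker_mk', sup_of_le_left hAB.le] at this
        exact this
      rcases hchief _ h1 h2 h3 with h4 | h4
      · left
        rw [← Subgroup.map_comap_eq_self_of_surjective hsurj N, h4, Subgroup.map_eq_bot_iff,
          QuotientGroup.ker_mk']
      · right
        rw [← Subgroup.map_comap_eq_self_of_surjective hsurj N, h4]
    have hVnc : ¬ B.map (QuotientGroup.mk' A) ≤ Subgroup.center (G ⧸ A) := by
      intro hle
      apply hncen
      rw [Subgroup.commutator_le]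
      intro b hb g _
      have h1 := hle (Subgroup.mem_map_of_mem (QuotientGroup.mk' A) hb)
      rw [Subgroup.mem_center_iff] at h1
      have h2 := h1 (QuotientGroup.mk' A g)
      have h3 : QuotientGroup.mk' A ⁅b, g⁆ = 1 := by
        rw [map_commutatorElement, commutatorElement_eq_one_iff_mul_comm]
        exact h2.symm
      exact (QuotientGroup.eq_one_iff _).mp h3
    have hav := avoid _ hKm (B.map (QuotientGroup.mk' A)) hVne hVmin hVnc
    have hxm : QuotientGroup.mk' A x ∈ B.map (QuotientGroup.mk' A) ⊓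
        systemNormalizer (fun p => (K p).map (QuotientGroup.mk' A)) := by
      refine ⟨Subgroup.mem_map_of_mem _ hx.1, ?_⟩
      rw [hDm]
      exact Subgroup.mem_map_of_mem _ hx.2
    rw [hav, Subgroup.mem_bot] at hxm
    exact (QuotientGroup.eq_one_iff x).mp hxm

end Cfsg.Agent.S0568
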