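import Cfsg.Statements.S4262
import Cfsg.Agent.Lib.helper23.CentMax3

set_option autoImplicit false
open Cfsg

namespace Cfsg.Agent.S4262

open Subgroup Cfsg.Agent.Lib.helper23

theorem normal_cent_of_central {G : Type*} [Group G] {y : G}
    (hy : ∀ g : G, (g * y)⁻¹ * (y * g) ∈ center G) : (centralizer ({y} : Set G)).Normal := by
  constructor
  intro m hm g
  rw [mem_cent_singleton] at hm ⊢
  set c := (g * y)⁻¹ * (y * g) with hc
  have hcZ : c ∈ center G := hy g
  have h1 : y * g = g * y * c := by rw [hc]; group
  have h2 : g⁻¹ * y = y * c * g⁻¹ := by rw [hc]; group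
  have hcm : c * m = m * c := (mem_center_iff.mp hcZ m).symm
  calc y * (g * m * g⁻¹) = (y * g) * m * g⁻¹ := by group
    _ = g * y * c * m * g⁻¹ := by rw [h1]
    _ = g * y * (c * m) * g⁻¹ := by group
    _ = g * y * (m * c) * g⁻¹ := by rw [hcm]
    _ = g * (y * m) * c * g⁻¹ := by group
    _ = g * (m * y) * c * g⁻¹ := by rw [hm]
    _ = g * m * (y * c * g⁻¹) := by group
    _ = g * m * (g⁻¹ * y) := by rw [h2]
    _ = g * m * g⁻¹ * y := by group

/-- Let G be a finite group in which the centralizer of every non-central element is a maximal subgroup of G. Then G is solvable. -/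
theorem result {G : Type*} [Group G] [Finite G]
    (h : ∀ g : G, g ∉ Subgroup.center G → IsCoatom (Subgroup.centralizer ({g} : Set G))) :
    Group.IsSolvable G := by
  have hCM : CentMax G := h
  by_cases hab : center G = ⊤
  · apply Group.isSolvable_of_comm
    intro a b
    have : a ∈ center G := hab ▸ mem_top a
    exact (mem_center_iff.mp this b).symm
  by_cases hn : ∃ x : G, x ∉ center G ∧ (centralizer ({x} : Set G)).Normal
  · obtain ⟨x, hx, hxn⟩ := hn
    exact solvable_of_normal_cent hCM hx hxn
  exfalso
  push Not at hn
  -- the quotient by the center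
  obtain ⟨g0, hg0⟩ : ∃ g : G, g ∉ center G := by
    by_contra hcon
    push Not at hcon
    exact hab (eq_top_iff.mpr fun y _ => hcon y)
  haveI : Nontrivial (G ⧸ center G) :=
    ⟨⟨QuotientGroup.mk g0, 1, fun h0 => hg0 ((QuotientGroup.eq_one_iff g0).mp h0)⟩⟩
  let π := QuotientGroup.mk' (center G)
  have hπ : Function.Surjective π := QuotientGroup.mk'_surjective _
  -- key: for noncentral y the preimage of the centralizer of its image is C(y)
  have hkey : ∀ y : G, y ∉ center G →
      (centralizer ({π y} : Set (G ⧸ center G))).comap π = centralizer ({y} : Set G) := by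
    intro y hy
    have hle : centralizer ({y} : Set G) ≤ (centralizer ({π y} : Set (G ⧸ center G))).comap π := by
      intro m hm
      rw [mem_comap, mem_cent_singleton, ← map_mul, ← map_mul, mem_cent_singleton.mp hm]
    rcases (h y hy).le_iff.mp hle with h1 | h1
    · exfalso
      apply hn y hy
      apply normal_cent_of_central
      intro g
      have hg : π g ∈ centralizer ({π y} : Set (G ⧸ center G)) := by
        have : g ∈ (centralizer ({π y} : Set (G ⧸ center G))).comap π := h1 ▸ mem_top g
        exact this
      rw [mem_cent_singleton, ← map_mul, ← map_mul] at hg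
      have := (QuotientGroup.eq (s := center G)).mp hg.symm
      exact this
    · exact h1
  have hCL : CLHyp (G ⧸ center G) := by
    constructor
    · intro ybar hybar
      obtain ⟨y, rfl⟩ := hπ ybar
      have hy : y ∉ center G := fun hc => hybar ((QuotientGroup.eq_one_iff y).mpr hc)
      have hk := hkey y hy
      constructor
      · intro htop
        rw [htop, comap_top] at hk
        exact (h y hy).1 hk.symm
      · intro L hL
        have hle : centralizer ({y} : Set G) ≤ L.comap π := by
          rw [← hk]; exact comap_mono hL.le
        rcases (h y hy).le_iff.mp hle with h1 | h1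
        · apply comap_injective hπ
          rw [h1, comap_top]
        · exfalso
          have : L = centralizer ({π y} : Set (G ⧸ center G)) := by
            apply comap_injective hπ
            rw [h1, hk]
          exact hL.ne this.symm
    · intro ybar hybar hnorm
      obtain ⟨y, rfl⟩ := hπ ybar
      have hy : y ∉ center G := fun hc => hybar ((QuotientGroup.eq_one_iff y).mpr hc)
      apply hn y hy
      rw [← hkey y hy]
      exact hnorm.comap π
  exact centerless_false hCL

end Cfsg.Agent.S4262
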