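import Cfsg.Statements.S0782
import Mathlib
import Cfsg.Statements.S0782
import Cfsg.Agent.Lib.helper6.HermIsoCount
import Cfsg.Agent.S0277

set_option autoImplicit false
open Cfsg

namespace Cfsg.Agent.S0782

open Cfsg Cfsg.Agent.Lib.Lead Cfsg.Agent.Lib.Lead.HI Cfsg.Agent.Lib.helper6.HF Matrix Finset

section torus
variable {F : Type*} [Field F] {q n : ℕ}

local notation "H" => Cfsg.hermForm n F q

theorem r1_mulVec (a b x : Fin n → F) :
    (1 + vecMulVec a b) *ᵥ x = x + (b ⬝ᵥ x) • a := by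
  rw [Matrix.add_mulVec, Matrix.one_mulVec, Matrix.vecMulVec_mulVec, op_smul_eq_smul]

theorem r1_det (a b : Fin n → F) : (1 + vecMulVec a b).det = 1 + b ⬝ᵥ a := by
  rw [Matrix.vecMulVec_eq Unit, Matrix.det_one_add_replicateCol_mul_replicateRow]

theorem dotH (w v : Fin n → F) : (fun j => (w j) ^ q) ⬝ᵥ v = H v w := by
  simp only [dotProduct, Cfsg.hermForm]
  exact Finset.sum_congr rfl (fun i _ => mul_comm _ _)

/-- the torus matrix of a hyperbolic pair -/
noncomputable def Tmat (q : ℕ) (w w' : Fin n → F) (a b : F) : Matrix (Fin n) (Fin n) F :=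
  (1 + vecMulVec (a • w) (fun j => (w' j) ^ q)) * (1 + vecMulVec (b • w') (fun j => (w j) ^ q))

theorem Tmat_mulVec (w w' : Fin n → F) (a b : F) (hw' : H w' w' = 0) (v : Fin n → F) :
    Tmat q w w' a b *ᵥ v = v + (a * H v w') • w + (b * H v w) • w' := by
  unfold Tmat
  rw [← Matrix.mulVec_mulVec, r1_mulVec, r1_mulVec, dotH, dotH, herm_add_left, herm_smul_left,
    herm_smul_left, hw', mul_zero, mul_zero, add_zero, smul_smul, smul_smul]
  rw [mul_comm (H v w') a, mul_comm (H v w) b]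
  abel

theorem Tmat_det (w w' : Fin n → F) (a b : F) :
    (Tmat q w w' a b).det = (1 + a * H w w') * (1 + b * H w' w) := by
  unfold Tmat
  rw [Matrix.det_mul, r1_det, r1_det, dotH, dotH, herm_smul_left, herm_smul_left]

theorem Tmat_pres (σ : F →+* F) (hσ : ∀ x, σ x = x ^ q) (hσσ : ∀ x, σ (σ x) = x)
    (w w' : Fin n → F) (a b : F) (hw : H w w = 0) (hw' : H w' w' = 0) (hww' : H w w' = 1)
    (h1 : (1 + a ^ q) * (1 + b) = 1) (h2 : (1 + a) * (1 + b ^ q) = 1) (u v : Fin n → F) :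
    H (Tmat q w w' a b *ᵥ u) (Tmat q w w' a b *ᵥ v) = H u v := by
  have hw'w : H w' w = 1 := by rw [herm_symm σ hσ hσσ, hww', map_one]
  have hwv : H w v = (H v w) ^ q := by rw [herm_symm σ hσ hσσ, hσ]
  have hw'v : H w' v = (H v w') ^ q := by rw [herm_symm σ hσ hσσ, hσ]
  rw [Tmat_mulVec w w' a b hw', Tmat_mulVec w w' a b hw']
  simp only [herm_add_left, herm_add_right σ hσ, herm_smul_left, herm_smul_right, hw, hw', hww',
    hw'w, hwv, hw'v, mul_pow]
  linear_combination (H u w * (H v w') ^ q) * h1 + (H u w' * (H v w) ^ q) * h2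

end torus

section elements
variable {F : Type*} [Field F] [Fintype F] {q n : ℕ}

local notation "H" => Cfsg.hermForm n F q

theorem exists_hilbert (hF : Fintype.card F = q ^ 2) (l : F) (hl : l ^ (q + 1) = 1) :
    ∃ c : F, c ≠ 0 ∧ c = l * c ^ q := by
  obtain ⟨σ, hσ⟩ := exists_frob hF
  have hσσ := frob_frob hF σ hσ
  by_cases h : 1 + l = 0
  · obtain ⟨δ, hδ⟩ := exists_not_fixed hF
    refine ⟨δ - δ ^ q, sub_ne_zero.mpr (Ne.symm hδ), ?_⟩
    have hl' : l = -1 := by linear_combination h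
    have : (δ ^ q) ^ q = δ := by rw [← hσ, ← hσ, hσσ]
    rw [← hσ (δ - δ ^ q), map_sub, hσ, hσ, this, hl']
    ring
  · refine ⟨1 + l, h, ?_⟩
    rw [← hσ (1 + l), map_add, map_one, hσ, mul_add, mul_one, ← pow_succ', hl]
    ring

/-- a matrix mapping `W` into `W` stabilises `W` -/
theorem stab_of_maps (W : Submodule F (Fin n → F)) (g : Matrix.GeneralLinearGroup (Fin n) F)
    (h : ∀ v ∈ W, (g : Matrix (Fin n) (Fin n) F) *ᵥ v ∈ W) :
    ∀ v, v ∈ W ↔ (g : Matrix (Fin n) (Fin n) F) *ᵥ v ∈ W := by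
  intro v
  refine ⟨h v, fun hv => ?_⟩
  let φ : W → W := fun x => ⟨(g : Matrix (Fin n) (Fin n) F) *ᵥ x.1, h x.1 x.2⟩
  have hinj : Function.Injective φ := by
    intro x y hxy
    apply Subtype.ext
    exact gl_mulVec_injective g (congrArg Subtype.val hxy)
  obtain ⟨x, hx⟩ := (Finite.injective_iff_surjective.mp hinj) ⟨_, hv⟩
  have : (g : Matrix (Fin n) (Fin n) F) *ᵥ x.1 = (g : Matrix (Fin n) (Fin n) F) *ᵥ v :=
    congrArg Subtype.val hx
  rw [← gl_mulVec_injective g this]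
  exact x.2

theorem exists_PGU_det (hF : Fintype.card F = q ^ 2) (hn : 1 ≤ n) (W : Submodule F (Fin n → F))
    (hW : ∀ u ∈ W, ∀ v ∈ W, H u v = 0) (hn2 : W ≠ ⊥ → 2 ≤ n) (l : Fˣ)
    (hl : (l : F) ^ (q + 1) = 1) :
    ∃ g : Matrix.GeneralLinearGroup (Fin n) F, g ∈ PGU n F q W ∧
      (g : Matrix (Fin n) (Fin n) F).det = (l : F) := by
  classical
  obtain ⟨σ, hσ⟩ := exists_frob hF
  have hσσ := frob_frob hF σ hσ
  by_cases hbot : W = ⊥
  · -- diagonal matrix
    let i0 : Fin n := ⟨0, hn⟩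
    let d : Fin n → F := fun i => if i = i0 then (l : F) else 1
    have hd : (Matrix.diagonal d)ᵀ * (Matrix.diagonal d).map σ = 1 := by
      rw [Matrix.diagonal_transpose, Matrix.diagonal_map (map_zero σ), Matrix.diagonal_mul_diagonal,
        ← Matrix.diagonal_one]
      congr 1
      funext i
      by_cases hi : i = i0
      · simp only [d, if_pos hi, hσ]
        rw [← pow_succ']; exact hl
      · simp only [d, if_neg hi, hσ, one_pow, mul_one]
    have hd' : (Matrix.diagonal d).map σ * (Matrix.diagonal d)ᵀ = 1 := mul_eq_one_comm.mp hd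
    let g : GL (Fin n) F := ⟨Matrix.diagonal d, ((Matrix.diagonal d).map σ)ᵀ, by
        have := congrArg Matrix.transpose hd'
        rwa [Matrix.transpose_mul, Matrix.transpose_transpose, Matrix.transpose_one] at this, by
        have := congrArg Matrix.transpose hd
        rwa [Matrix.transpose_mul, Matrix.transpose_transpose, Matrix.transpose_one] at this⟩
    refine ⟨g, ⟨(preserves_iff σ hσ _).mpr hd, ?_⟩, ?_⟩
    · apply stab_of_maps W g
      intro v hv
      rw [hbot, Submodule.mem_bot] at hv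
      rw [hv, Matrix.mulVec_zero]
      exact Submodule.zero_mem _
    · show (Matrix.diagonal d).det = _
      rw [Matrix.det_diagonal, Finset.prod_eq_single i0]
      · simp [d]
      · intro j _ hj; simp [d, hj]
      · intro h; exact absurd (Finset.mem_univ _) h
  · -- hyperbolic pair
    have hn2' := hn2 hbot
    obtain ⟨w, hwW, hw0⟩ := (Submodule.ne_bot_iff W).mp hbot
    have hww : H w w = 0 := hW w hwW w hwW
    have hpos : 0 < (univ.filter (fun w' : Fin n → F => H w w' = 1 ∧ H w' w' = 0)).card := by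
      rw [card_M hF hn2' w hw0 hww]
      have := two_le_q hF
      positivity
    obtain ⟨w', hw'⟩ := Finset.card_pos.mp hpos
    simp only [Finset.mem_filter, Finset.mem_univ, true_and] at hw'
    obtain ⟨hww', hw'w'⟩ := hw'
    have hw'w : H w' w = 1 := by rw [herm_symm σ hσ hσσ, hww', map_one]
    obtain ⟨c, hc0, hc⟩ := exists_hilbert hF (l : F) hl
    have hcq0 : c ^ q ≠ 0 := pow_ne_zero _ hc0
    have hcqq : (c ^ q) ^ q = c := by rw [← hσ, ← hσ, hσσ]
    have h1 : (1 + (c - 1) ^ q) * (1 + ((c ^ q)⁻¹ - 1)) = 1 := by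
      rw [← hσ (c - 1), map_sub, map_one, hσ]
      field_simp
      ring
    have h2 : (1 + (c - 1)) * (1 + ((c ^ q)⁻¹ - 1) ^ q) = 1 := by
      rw [← hσ ((c ^ q)⁻¹ - 1), map_sub, map_one, map_inv₀, hσ, hcqq]
      field_simp
      ring
    have hdet : (Tmat q w w' (c - 1) ((c ^ q)⁻¹ - 1)).det = (l : F) := by
      rw [Tmat_det, hww', hw'w]
      have : (l : F) = c * (c ^ q)⁻¹ := by
        rw [eq_mul_inv_iff_mul_eq₀ hcq0]
        exact hc.symm
      rw [this]
      ring
    have hdet0 : (Tmat q w w' (c - 1) ((c ^ q)⁻¹ - 1)).det ≠ 0 := by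
      rw [hdet]; exact l.ne_zero
    refine ⟨Matrix.GeneralLinearGroup.mkOfDetNeZero _ hdet0, ⟨?_, ?_⟩, hdet⟩
    · intro u v
      exact Tmat_pres σ hσ hσσ w w' _ _ hww hw'w' hww' h1 h2 u v
    · apply stab_of_maps W
      intro v hv
      show Tmat q w w' (c - 1) ((c ^ q)⁻¹ - 1) *ᵥ v ∈ W
      rw [Tmat_mulVec w w' _ _ hw'w', hW v hv w hwW, mul_zero, zero_smul, add_zero]
      exact Submodule.add_mem _ hv (Submodule.smul_mem _ _ hwW)

end elements

section detker
variable {F : Type*} [Field F] {q n : ℕ}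

local notation "H" => Cfsg.hermForm n F q

/-- `det` restricted to the parabolic of `GU`. -/
noncomputable def detP (q : ℕ) (W : Submodule F (Fin n → F)) : PGU n F q W →* Fˣ :=
  Matrix.GeneralLinearGroup.det.comp (PGU n F q W).subtype

theorem mem_SU_iff (A : Matrix.SpecialLinearGroup (Fin n) F) :
    A ∈ Cfsg.SU n F q ↔ ∀ u v, H ((A : Matrix (Fin n) (Fin n) F) *ᵥ u)
      ((A : Matrix (Fin n) (Fin n) F) *ᵥ v) = H u v := Iff.rfl

theorem mem_stabSL (W : Submodule F (Fin n → F)) (A : Matrix.SpecialLinearGroup (Fin n) F) :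
    A ∈ Cfsg.stabilizing (Cfsg.slToMat n F) (W : Set (Fin n → F)) ↔
      ∀ v, v ∈ W ↔ (A : Matrix (Fin n) (Fin n) F) *ᵥ v ∈ W := Iff.rfl

/-- The kernel of `det` on the parabolic of `GU` is the parabolic of `SU`. -/
noncomputable def kerEquivP (W : Submodule F (Fin n → F)) :
    (detP q W).ker ≃
      ↥((Cfsg.stabilizing (Cfsg.slToMat n F) (W : Set (Fin n → F))).subgroupOf (Cfsg.SU n F q)) where
  toFun g := ⟨⟨⟨((g.1.1 : GL (Fin n) F) : Matrix (Fin n) (Fin n) F), by
      have h := g.2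
      rw [MonoidHom.mem_ker] at h
      have := congrArg Units.val h
      simpa [detP] using this⟩, (mem_GU (g.1.1)).mp g.1.2.1⟩, by
      rw [Subgroup.mem_subgroupOf, mem_stabSL]
      exact ((mem_PGU W g.1.1).mp g.1.2).2⟩
  invFun A := ⟨⟨Matrix.SpecialLinearGroup.toGL A.1.1, by
      rw [mem_PGU]
      refine ⟨(mem_SU_iff A.1.1).mp A.1.2, ?_⟩
      have := A.2
      rw [Subgroup.mem_subgroupOf, mem_stabSL] at this
      exact this⟩, by
      rw [MonoidHom.mem_ker]
      apply Units.ext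
      simp [detP]⟩
  left_inv g := by
    apply Subtype.ext
    apply Subtype.ext
    apply Units.ext
    rfl
  right_inv A := by
    apply Subtype.ext
    apply Subtype.ext
    apply Subtype.ext
    rfl

end detker

section cardrel
variable {F : Type*} [Field F] [Fintype F] {q n : ℕ}

local notation "H" => Cfsg.hermForm n F q

theorem range_detP (hF : Fintype.card F = q ^ 2) (hn : 1 ≤ n) (W : Submodule F (Fin n → F))
    (hW : ∀ u ∈ W, ∀ v ∈ W, H u v = 0) (hn2 : W ≠ ⊥ → 2 ≤ n) :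
    (detP q W).range = (powMonoidHom (q + 1) : Fˣ →* Fˣ).ker := by
  obtain ⟨σ, hσ⟩ := exists_frob hF
  ext u
  rw [MonoidHom.mem_range, MonoidHom.mem_ker, powMonoidHom_apply]
  constructor
  · rintro ⟨g, rfl⟩
    have h := (preserves_iff σ hσ ((g.1 : GL (Fin n) F) : Matrix (Fin n) (Fin n) F)).mp g.2.1
    have hdet := congrArg Matrix.det h
    rw [Matrix.det_mul, Matrix.det_transpose, Matrix.det_one] at hdet
    have h2 : (((g.1 : GL (Fin n) F) : Matrix (Fin n) (Fin n) F).map σ).det =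
        σ ((g.1 : GL (Fin n) F) : Matrix (Fin n) (Fin n) F).det := by
      rw [← RingHom.mapMatrix_apply, ← RingHom.map_det]
    rw [h2, hσ, ← pow_succ'] at hdet
    apply Units.ext
    simpa [detP] using hdet
  · intro hu
    have hu' : (u : F) ^ (q + 1) = 1 := by
      have := congrArg Units.val hu
      simpa using this
    obtain ⟨g, hgP, hdet⟩ := exists_PGU_det hF hn W hW hn2 u hu'
    refine ⟨⟨g, hgP⟩, ?_⟩
    apply Units.ext
    simpa [detP] using hdet

theorem card_PGU_eq (hF : Fintype.card F = q ^ 2) (hn : 1 ≤ n) (W : Submodule F (Fin n → F))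
    (hW : ∀ u ∈ W, ∀ v ∈ W, H u v = 0) (hn2 : W ≠ ⊥ → 2 ≤ n) :
    Nat.card (PGU n F q W) =
      Nat.card ↥((Cfsg.stabilizing (Cfsg.slToMat n F) (W : Set (Fin n → F))).subgroupOf
        (Cfsg.SU n F q)) * (q + 1) := by
  have hq := two_le_q hF
  have h1 := (detP q W).ker.card_mul_index
  rw [Subgroup.index_ker, range_detP hF hn W hW hn2, IsCyclic.card_powMonoidHom_ker,
    Nat.card_units, Nat.card_eq_fintype_card (α := F), hF] at h1
  have hfac : q ^ 2 - 1 = (q - 1) * (q + 1) := by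
    obtain ⟨r, rfl⟩ : ∃ r, q = r + 1 := ⟨q - 1, by omega⟩
    simp only [Nat.add_sub_cancel]
    have : (r + 1) ^ 2 = r * (r + 1 + 1) + 1 := by ring
    omega
  rw [hfac, Nat.gcd_mul_left_left, Nat.card_congr (kerEquivP W)] at h1
  exact h1.symm

end cardrel

section arith

/-- the factors of the order formula -/
def tf (q i : ℕ) : ℕ := if Even i then q ^ (i + 1) + 1 else q ^ (i + 1) - 1

/-- the order formula of `GU_m(q)` -/
def Gf (q m : ℕ) : ℕ := q ^ (m * (m - 1) / 2) * ∏ i ∈ Finset.range m, tf q i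

theorem hermA_eq (q : ℕ) (hq : 2 ≤ q) (m : ℕ) :
    (hermAB q (m + 2)).1 = tf q m * tf q (m + 1) + 1 := by
  obtain ⟨H1, -⟩ := hermAB_closed q hq (m + 2)
  have hq0 : (q : ℤ) ≠ 0 := by exact_mod_cast (by omega : q ≠ 0)
  have hp1 : 1 ≤ q ^ (m + 1) := Nat.one_le_pow _ _ (by omega)
  have hp2 : 1 ≤ q ^ (m + 1 + 1) := Nat.one_le_pow _ _ (by omega)
  have key : ((hermAB q (m + 2)).1 : ℤ) = ((tf q m * tf q (m + 1) + 1 : ℕ) : ℤ) := by
    apply mul_left_cancel₀ hq0
    rw [H1]
    rcases Nat.even_or_odd m with he | ho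
    · have he' : ¬ Even (m + 1) := by
        rw [Nat.even_add_one]; exact not_not.mpr he
      have hs : (-1 : ℤ) ^ (m + 2) = 1 := by
        rw [pow_add, he.neg_one_pow]; norm_num
      unfold tf
      rw [if_pos he, if_neg he', hs]
      push_cast [Nat.cast_sub hp2]
      ring
    · have he : ¬ Even m := Nat.not_even_iff_odd.mpr ho
      have he' : Even (m + 1) := by
        rw [Nat.even_add_one]; exact he
      have hs : (-1 : ℤ) ^ (m + 2) = -1 := by
        rw [pow_add, ho.neg_one_pow]; norm_num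
      unfold tf
      rw [if_neg he, if_pos he', hs]
      push_cast [Nat.cast_sub hp1]
      ring
  exact_mod_cast key

theorem Gf_step (q : ℕ) (hq : 2 ≤ q) (m : ℕ) :
    Gf q (m + 2) = q ^ (2 * m + 1) * ((hermAB q (m + 2)).1 - 1) * Gf q m := by
  rw [hermA_eq q hq m, Nat.add_sub_cancel]
  unfold Gf
  rw [Finset.prod_range_succ, Finset.prod_range_succ]
  have e : (m + 2) * (m + 2 - 1) / 2 = m * (m - 1) / 2 + (2 * m + 1) := by
    rw [← Finset.sum_range_id, ← Finset.sum_range_id, Finset.sum_range_succ, Finset.sum_range_succ]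
    ring
  rw [e, pow_add]
  ring

theorem Gf_tele (q : ℕ) (hq : 2 ≤ q) (n : ℕ) :
    ∀ k : ℕ, 2 * k ≤ n → Gf q n = q ^ (k * (2 * n - 3 * k)) *
      (∏ i ∈ Finset.range k, (q ^ (2 * i) * (hermAB q (n - 2 * i)).1 - q ^ (2 * i))) *
      Gf q (n - 2 * k) := by
  intro k
  induction k with
  | zero => intro _; simp
  | succ k ih =>
    intro hk
    have ih' := ih (by omega)
    obtain ⟨m, hm⟩ : ∃ m, n = m + 2 * k + 2 := ⟨n - 2 * k - 2, by omega⟩
    have e1 : n - 2 * k = m + 2 := by omega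
    have e2 : n - 2 * (k + 1) = m := by omega
    rw [Finset.prod_range_succ, e2]
    rw [e1, Gf_step q hq m] at ih'
    rw [ih', e1, ← Nat.mul_sub_one]
    have e3 : 2 * n - 3 * k = 2 * m + k + 4 := by omega
    have e4 : 2 * n - 3 * (k + 1) = 2 * m + k + 1 := by omega
    rw [e3, e4]
    have e5 : q ^ ((k + 1) * (2 * m + k + 1)) * q ^ (2 * k) =
        q ^ (k * (2 * m + k + 4)) * q ^ (2 * m + 1) := by
      rw [← pow_add, ← pow_add]
      congr 1
      ring
    calc q ^ (k * (2 * m + k + 4)) *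
          (∏ i ∈ Finset.range k, (q ^ (2 * i) * (hermAB q (n - 2 * i)).1 - q ^ (2 * i))) *
          (q ^ (2 * m + 1) * ((hermAB q (m + 2)).1 - 1) * Gf q m)
        = (q ^ (k * (2 * m + k + 4)) * q ^ (2 * m + 1)) *
          (∏ i ∈ Finset.range k, (q ^ (2 * i) * (hermAB q (n - 2 * i)).1 - q ^ (2 * i))) *
          ((hermAB q (m + 2)).1 - 1) * Gf q m := by ring
      _ = (q ^ ((k + 1) * (2 * m + k + 1)) * q ^ (2 * k)) *
          (∏ i ∈ Finset.range k, (q ^ (2 * i) * (hermAB q (n - 2 * i)).1 - q ^ (2 * i))) *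
          ((hermAB q (m + 2)).1 - 1) * Gf q m := by rw [e5]
      _ = _ := by ring

end arith

theorem main {F : Type*} [Field F] [Fintype F] {q : ℕ} (hF : Fintype.card F = q ^ 2) (n k : ℕ) (hn : 1 ≤ n) (hk : 2 * k ≤ n) (W : Submodule F (Fin n → F)) (hWk : Module.finrank F W = k) (hW : ∀ u ∈ W, ∀ v ∈ W, Cfsg.hermForm n F q u v = 0) : (q + 1) * Nat.card ↥((Cfsg.stabilizing (Cfsg.slToMat n F) (W : Set (Fin n → F))).subgroupOf (Cfsg.SU n F q)) = q ^ (k * (2 * n - 3 * k)) * (∏ i : Fin k, ((q ^ 2) ^ k - (q ^ 2) ^ (i : ℕ))) * (q ^ ((n - 2 * k) * ((n - 2 * k) - 1) / 2) * ∏ i ∈ Finset.range (n - 2 * k), (if Even i then q ^ (i + 1) + 1 else q ^ (i + 1) - 1)) := by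
  classical
  have hq := two_le_q hF
  have hn2 : W ≠ ⊥ → 2 ≤ n := by
    intro hne
    have : k ≠ 0 := by
      intro h0
      apply hne
      rw [← Submodule.finrank_eq_zero, hWk, h0]
    omega
  have hrel := card_PGU_eq hF hn W hW hn2
  have hP := card_PGU_mul hF W hWk hW
  rw [card_IsoFr hF k hk, Cfsg.Agent.S0277.result hF n] at hP
  have hG := Gf_tele q hq n k hk
  have hGn : q ^ (n * (n - 1) / 2) * ∏ i ∈ Finset.range n,
      (if Even i then q ^ (i + 1) + 1 else q ^ (i + 1) - 1) = Gf q n := rfl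
  have hGm : q ^ ((n - 2 * k) * ((n - 2 * k) - 1) / 2) * ∏ i ∈ Finset.range (n - 2 * k),
      (if Even i then q ^ (i + 1) + 1 else q ^ (i + 1) - 1) = Gf q (n - 2 * k) := rfl
  rw [hGn] at hP
  rw [hGm, mul_comm (q + 1), ← hrel]
  set N := ∏ i ∈ Finset.range k, (q ^ (2 * i) * (hermAB q (n - 2 * i)).1 - q ^ (2 * i)) with hN
  set GLk := ∏ i : Fin k, ((q ^ 2) ^ k - (q ^ 2) ^ (i : ℕ)) with hGL
  have hGLpos : 0 < GLk := by
    apply Finset.prod_pos
    intro i _
    have : (q ^ 2) ^ (i : ℕ) < (q ^ 2) ^ k :=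
      Nat.pow_lt_pow_right (by nlinarith) i.2
    omega
  have hGfpos : 0 < Gf q n := by
    rw [← hGn, ← Cfsg.Agent.S0277.result hF n]
    exact Nat.card_pos
  have hNpos : 0 < N := by
    rcases Nat.eq_zero_or_pos N with h0 | h
    · rw [h0, mul_zero] at hP
      have := Nat.mul_pos hGfpos hGLpos
      omega
    · exact h
  apply Nat.eq_of_mul_eq_mul_right hNpos
  rw [hP, hG]
  ring


/-- Maximal parabolics of SU_n(q): if W is a k-dimensional subspace of F^n (n ≥ 1, |F| = q²) on which the Hermitian form vanishes, then (q + 1) times the order of its stabiliser in SU_n(q) equals q^(k(2n−3k)) · |GL_k(q²)| · |GU_(n−2k)(q)|, where |GU_m(q)| = q^(m(m−1)/2) Π_(i=1..m) (q^i − (−1)^i). -/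
theorem result {F : Type*} [Field F] [Fintype F] {q : ℕ} (hF : Fintype.card F = q ^ 2) (n k : ℕ) (hn : 1 ≤ n) (hk : 2 * k ≤ n) (W : Submodule F (Fin n → F)) (hWk : Module.finrank F W = k) (hW : ∀ u ∈ W, ∀ v ∈ W, Cfsg.hermForm n F q u v = 0) : (q + 1) * Nat.card ↥((Cfsg.stabilizing (Cfsg.slToMat n F) (W : Set (Fin n → F))).subgroupOf (Cfsg.SU n F q)) = q ^ (k * (2 * n - 3 * k)) * (∏ i : Fin k, ((q ^ 2) ^ k - (q ^ 2) ^ (i : ℕ))) * (q ^ ((n - 2 * k) * ((n - 2 * k) - 1) / 2) * ∏ i ∈ Finset.range (n - 2 * k), (if Even i then q ^ (i + 1) + 1 else q ^ (i + 1) - 1)) := by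
  exact main hF n k hn hk W hWk hW

end Cfsg.Agent.S0782
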