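import Cfsg.Statements.S0050
import Cfsg.Agent.Lib.Helper1.Hall

set_option autoImplicit false
open Cfsg

namespace Cfsg.Agent.S0050

open Cfsg.Agent.Lib.Helper1
open scoped Pointwise

/-- Frattini argument for Hall subgroups: if L is a solvable normal subgroup and H a subgroup of L of order coprime to its index in L, then L together with the normaliser of H generates the whole group. -/
theorem result {G : Type*} [Group G] [Finite G] (L : Subgroup G) [L.Normal] (hL : Group.IsSolvable L)
    (H : Subgroup G) (hHL : H ≤ L) (hHall : (Nat.card H).Coprime (H.relIndex L)) :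
    L ⊔ Subgroup.normalizer (H : Set G) = ⊤ := by
  rw [eq_top_iff]
  intro g _
  have hgL : MulAut.conj g • H ≤ L := by
    intro x hx
    rw [mem_conj_smul_iff] at hx
    have h1 := ‹L.Normal›.conj_mem _ (hHL hx) g
    have : g * (g⁻¹ * x * g) * g⁻¹ = x := by group
    rwa [this] at h1
  have hcardL : Nat.card L = Nat.card H * H.relIndex L := (card_mul_relIndex_of_le hHL).symm
  have h1 : Nat.card (H.subgroupOf L) = Nat.card H := Cfsg.Agent.S0001.card_subgroupOf_of_le hHL
  have h2 : Nat.card ((MulAut.conj g • H).subgroupOf L) = Nat.card H := by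
    rw [Cfsg.Agent.S0001.card_subgroupOf_of_le hgL, Cfsg.Agent.S0001.card_conj]
  have hconj := hall_conj (G := L) (Nat.card H) (H.relIndex L) hcardL hHall _ _ h1 h2
  obtain ⟨l, hl, hlH⟩ := Cfsg.Agent.S0001.conj_of_subgroupOf H (MulAut.conj g • H) L hHL hgL hconj
  have h3 : MulAut.conj (l⁻¹ * g) • H = H := by
    rw [map_mul, mul_smul, ← hlH, ← mul_smul, ← map_mul, inv_mul_cancel, map_one, one_smul]
  have h4 : l⁻¹ * g ∈ Subgroup.normalizer (H : Set G) := by
    rw [Subgroup.mem_normalizer_iff_map_conj_eq]
    rw [Subgroup.pointwise_smul_def] at h3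
    exact h3
  have : g = l * (l⁻¹ * g) := by group
  rw [this]
  exact Subgroup.mul_mem_sup hl h4

end Cfsg.Agent.S0050
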