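import Cfsg.Statements.S3028
import Cfsg.Agent.Lib.Helper20.Wielandt
import Cfsg.Agent.Lib.Helper10.SylowSubnormal
import Cfsg.Agent.Lib.Helper1.Residual
import Cfsg.Agent.Lib.Helper9.Transfer

set_option autoImplicit false
open Cfsg

namespace Cfsg.Agent.S3028

universe u

open scoped Pointwise


/-- existence of a minimal normal subgroup below a nontrivial normal subgroup -/
theorem exists_minimal_normal_le {G : Type*} [Group G] [Finite G] :
    ∀ (n : ℕ) (N : Subgroup G), Nat.card N = n → N.Normal → N ≠ ⊥ →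
    ∃ M : Subgroup G, M.Normal ∧ M ≠ ⊥ ∧ M ≤ N ∧
      ∀ L : Subgroup G, L.Normal → L ≤ M → L = ⊥ ∨ L = M := by
  intro n
  induction n using Nat.strong_induction_on with
  | _ n ih =>
  intro N hcard hN hne
  by_cases hmin : ∀ L : Subgroup G, L.Normal → L ≤ N → L = ⊥ ∨ L = N
  · exact ⟨N, hN, hne, le_rfl, hmin⟩
  · push Not at hmin
    obtain ⟨L, hLn, hLN, hLbot, hLne⟩ := hmin
    have hlt : Nat.card L < n := by
      rw [← hcard]
      have hlt' : L < N := lt_of_le_of_ne hLN hLne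
      exact Set.Finite.card_lt_card (Set.toFinite _) hlt'
    obtain ⟨M, h1, h2, h3, h4⟩ := ih _ hlt L rfl hLn hLbot
    exact ⟨M, h1, h2, h3.trans hLN, h4⟩

theorem conj_mem_normalizer_of {G : Type*} [Group G] (H Y : Subgroup G) (g : G)
    (h : ∀ y ∈ Y, ∀ x ∈ H, (g * y * g⁻¹) * x * (g * y * g⁻¹)⁻¹ ∈ H) :
    ∀ y ∈ Y, g * y * g⁻¹ ∈ Subgroup.normalizer (H : Set G) := by
  intro y hy
  rw [Subgroup.mem_set_normalizer_iff]
  intro x
  refine ⟨h y hy x, fun hx => ?_⟩
  have := h y⁻¹ (Y.inv_mem hy) _ hx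
  have e : g * y⁻¹ * g⁻¹ * (g * y * g⁻¹ * x * (g * y * g⁻¹)⁻¹) * (g * y⁻¹ * g⁻¹)⁻¹ = x := by group
  rwa [e] at this

/-- A minimal normal subgroup normalizes every subnormal subgroup. -/
theorem minNormal_le_normalizer_aux : ∀ (n : ℕ) (G : Type u) [Group G] [Finite G], Nat.card G = n →
    ∀ (H M : Subgroup G), H.IsSubnormal → M.Normal →
      (∀ L : Subgroup G, L.Normal → L ≤ M → L = ⊥ ∨ L = M) →
      M ≤ Subgroup.normalizer (H : Set G) := by
  intro n
  induction n using Nat.strong_induction_on with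
  | _ n ih =>
  intro G _ _ hcard H M hH hM hmin
  by_cases hHtop : H = ⊤
  · subst hHtop
    intro m _
    rw [Subgroup.mem_set_normalizer_iff]
    intro x
    simp
  obtain ⟨N, hNn, hHN, hNlt⟩ := hH.exists_normal_and_le_and_lt_top_of_ne hHtop
  have hMN : (M ⊓ N).Normal := Subgroup.normal_inf_normal M N
  rcases hmin (M ⊓ N) hMN inf_le_left with h | h
  · -- `M` centralizes `N`
    intro m hm
    rw [Subgroup.mem_set_normalizer_iff]
    have hcent : ∀ x ∈ N, m * x * m⁻¹ = x := by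
      intro x hx
      have := Subgroup.commute_of_normal_of_disjoint M N hM hNn (disjoint_iff.mpr h) m x hm hx
      rw [this.eq, mul_inv_cancel_right]
    intro x
    constructor
    · intro hx
      rw [hcent x (hHN hx)]
      exact hx
    · intro hx
      have hxN : x ∈ N := by
        have h1 : m * x * m⁻¹ ∈ N := hHN hx
        have h2 := hNn.conj_mem _ h1 m⁻¹
        simpa [mul_assoc] using h2
      rw [hcent x hxN] at hx
      exact hx
  · have hMleN : M ≤ N := inf_eq_left.mp h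
    by_cases hMbot : M = ⊥
    · rw [hMbot]; exact bot_le
    have hM'n : (M.subgroupOf N).Normal := hM.subgroupOf N
    have hM'ne : M.subgroupOf N ≠ ⊥ := by
      intro h0
      rw [Subgroup.subgroupOf_eq_bot] at h0
      exact hMbot (disjoint_iff.mp h0 ▸ (inf_eq_left.mpr hMleN).symm)
    obtain ⟨M₁, hM₁n, hM₁ne, hM₁le, hM₁min⟩ :=
      exists_minimal_normal_le _ (M.subgroupOf N) rfl hM'n hM'ne
    have hcardN : Nat.card N < n := by
      rw [← hcard, ← Subgroup.card_top (G := G)]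
      exact Set.Finite.card_lt_card (Set.toFinite _) hNlt
    have key : ∀ g : G, M₁ ≤ Subgroup.normalizer
        ((((MulAut.conj g⁻¹) • H).subgroupOf N : Subgroup N) : Set N) := fun g =>
      ih _ hcardN ↥N rfl _ M₁ ((hH.smul _).subgroupOf) hM₁n hM₁min
    set X := Subgroup.normalClosure ((M₁.map N.subtype : Subgroup G) : Set G) with hX
    have hM₁M : M₁.map N.subtype ≤ M := by
      rintro _ ⟨y, hy, rfl⟩
      exact Subgroup.mem_subgroupOf.mp (hM₁le hy)
    have hXM : X ≤ M := Subgroup.normalClosure_le_normal hM₁M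
    have hXne : X ≠ ⊥ := by
      intro h0
      apply hM₁ne
      rw [eq_bot_iff]
      intro y hy
      have : (y : G) ∈ X := Subgroup.subset_normalClosure ⟨y, hy, rfl⟩
      rw [h0, Subgroup.mem_bot] at this
      rw [Subgroup.mem_bot]
      exact Subtype.ext this
    rcases hmin X Subgroup.normalClosure_normal hXM with h0 | h0
    · exact absurd h0 hXne
    rw [← h0, hX, Subgroup.normalClosure, Subgroup.closure_le]
    intro c hc
    rw [Group.mem_conjugatesOfSet_iff] at hc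
    obtain ⟨x, ⟨y, hy, rfl⟩, hconj⟩ := hc
    rw [isConj_iff] at hconj
    obtain ⟨g, rfl⟩ := hconj
    -- show g * y * g⁻¹ normalizes H
    have := conj_mem_normalizer_of H (M₁.map N.subtype) g ?_ (N.subtype y) ⟨y, hy, rfl⟩
    · exact this
    rintro _ ⟨y, hy, rfl⟩ x hx
    have hz : g⁻¹ * x * g ∈ N := by
      have := hNn.conj_mem _ (hHN hx) g⁻¹
      simpa using this
    have hzH : (⟨g⁻¹ * x * g, hz⟩ : N) ∈ ((MulAut.conj g⁻¹) • H).subgroupOf N := by
      rw [Subgroup.mem_subgroupOf, Subgroup.mem_pointwise_smul_iff_inv_smul_mem]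
      simp only [MulAut.smul_def, MulAut.conj_inv_apply, inv_inv]
      have : g * (g⁻¹ * x * g) * g⁻¹ = x := by group
      rw [this]; exact hx
    have h1 := (Subgroup.mem_set_normalizer_iff.mp (key g hy) ⟨g⁻¹ * x * g, hz⟩).mp hzH
    rw [SetLike.mem_coe, Subgroup.mem_subgroupOf, Subgroup.mem_pointwise_smul_iff_inv_smul_mem] at h1
    simp only [MulAut.smul_def, MulAut.conj_inv_apply, inv_inv] at h1
    have e : g * ↑(y * ⟨g⁻¹ * x * g, hz⟩ * y⁻¹) * g⁻¹ =
        g * N.subtype y * g⁻¹ * x * (g * N.subtype y * g⁻¹)⁻¹ := by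
      simp only [Subgroup.coe_mul, Subgroup.coe_inv, Subgroup.subtype_apply]
      group
    rw [← e]
    exact h1

theorem minNormal_le_normalizer {G : Type u} [Group G] [Finite G] (H M : Subgroup G)
    (hH : H.IsSubnormal) (hM : M.Normal)
    (hmin : ∀ L : Subgroup G, L.Normal → L ≤ M → L = ⊥ ∨ L = M) :
    M ≤ Subgroup.normalizer (H : Set G) :=
  minNormal_le_normalizer_aux _ G rfl H M hH hM hmin



/-- transfer lemma: a central `p`-subgroup inside `O^p(G)` that supplements `T` in a Sylow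
`p`-subgroup lies in `T`. -/
theorem le_of_sup_central_residual {G : Type u} [Group G] [Finite G] {p : ℕ} [Fact p.Prime]
    (S : Sylow p G) (T M₁ : Subgroup G) (hT : T ≤ S) (hM₁S : M₁ ≤ S)
    (hM₁Z : M₁ ≤ Subgroup.center G) (hM₁R : M₁ ≤ Cfsg.pResidual p G)
    (hS : (S : Subgroup G) ≤ T ⊔ M₁) : M₁ ≤ T := by
  have hcomm : ∀ m ∈ M₁, ∀ g : G, g * m = m * g := fun m hm g =>
    (Subgroup.mem_center_iff.mp (hM₁Z hm) g)
  have hM₁n : M₁.Normal := by
    constructor
    intro n hn g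
    rw [hcomm n hn g, mul_inv_cancel_right]
    exact hn
  have hdec : ∀ s ∈ (S : Subgroup G), ∃ t ∈ T, ∃ m ∈ M₁, t * m = s := fun s hs =>
    Subgroup.mem_sup_of_normal_right.mp (hS hs)
  have hab : ∀ x ∈ (S : Subgroup G), ∀ y ∈ (S : Subgroup G), x * y * x⁻¹ * y⁻¹ ∈ T := by
    intro x hx y hy
    obtain ⟨t, ht, m, hm, rfl⟩ := hdec x hx
    obtain ⟨t', ht', m', hm', rfl⟩ := hdec y hy
    have e : t * m * (t' * m') * (t * m)⁻¹ * (t' * m')⁻¹ = t * t' * t⁻¹ * t'⁻¹ := by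
      have c1 := hcomm m hm
      have c2 := hcomm m' hm'
      calc t * m * (t' * m') * (t * m)⁻¹ * (t' * m')⁻¹
          = t * (m * t') * m' * (m⁻¹ * t⁻¹) * (m'⁻¹ * t'⁻¹) := by
            rw [mul_inv_rev, mul_inv_rev]; group
        _ = t * (t' * m) * m' * (m⁻¹ * t⁻¹) * (m'⁻¹ * t'⁻¹) := by rw [← c1 t']
        _ = t * t' * (m * m' * m⁻¹) * t⁻¹ * m'⁻¹ * t'⁻¹ := by group
        _ = t * t' * m' * t⁻¹ * m'⁻¹ * t'⁻¹ := by
            rw [← c1 m', mul_inv_cancel_right]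
        _ = t * t' * (m' * t⁻¹) * m'⁻¹ * t'⁻¹ := by group
        _ = t * t' * (t⁻¹ * m') * m'⁻¹ * t'⁻¹ := by rw [← c2 t⁻¹]
        _ = t * t' * t⁻¹ * t'⁻¹ := by group
    rw [e]
    exact T.mul_mem (T.mul_mem (T.mul_mem ht ht') (T.inv_mem ht)) (T.inv_mem ht')
  have hKn : (T.subgroupOf (S : Subgroup G)).Normal := by
    constructor
    intro n hn g
    rw [Subgroup.mem_subgroupOf] at hn ⊢
    have := hab g g.2 n (hT hn)
    have e : ((g * n * g⁻¹ : (S : Subgroup G)) : G) = ((g : G) * n * (g : G)⁻¹ * (n : G)⁻¹) * n := by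
      simp
    rw [e]
    exact T.mul_mem this hn
  intro m hm
  have hctrl : ∀ (k : ℕ) (a : G), a⁻¹ * m ^ k * a ∈ (S : Subgroup G) →
      (a⁻¹ * m ^ k * a) * (m ^ k)⁻¹ ∈ T := by
    intro k a _
    have : a⁻¹ * m ^ k * a = m ^ k := by
      have := hcomm (m ^ k) (M₁.pow_mem hm k) a⁻¹
      rw [this, inv_mul_cancel_right]
    rw [this, mul_inv_cancel]
    exact T.one_mem
  obtain ⟨A, _, f, ϕ, hϕs, hϕk, hfm⟩ :=
    Cfsg.Agent.Lib.Helper9.exists_transfer_hom_of_ctrl (S : Subgroup G) T hKn hab m (hM₁S hm) hctrl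
  have hA : IsPGroup p A := IsPGroup.of_surjective S.2 ϕ hϕs
  have hker : Cfsg.pResidual p G ≤ f.ker :=
    Cfsg.Agent.Lib.Helper1.pResidual_le_of_isPGroup_quotient f.ker
      (IsPGroup.of_injective hA (QuotientGroup.kerLift f) (QuotientGroup.kerLift_injective f))
  have h1 : f m = 1 := hker (hM₁R hm)
  rw [hfm] at h1
  obtain ⟨k, hk⟩ := hA (ϕ ⟨m, hM₁S hm⟩)
  have hcop : Nat.Coprime (S : Subgroup G).index (p ^ k) :=
    (Nat.Coprime.pow_left k ((Fact.out : p.Prime).coprime_iff_not_dvd.mpr S.not_dvd_index)).symm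
  have h2 : orderOf (ϕ ⟨m, hM₁S hm⟩) = 1 :=
    Nat.eq_one_of_dvd_coprimes hcop (orderOf_dvd_of_pow_eq_one h1) (orderOf_dvd_of_pow_eq_one hk)
  rw [orderOf_eq_one_iff] at h2
  exact (hϕk _).mp h2



/-- the Sylow subgroup of a subnormal subgroup cut out by a Sylow subgroup of `G` -/
noncomputable def sylowOfSubnormal {G : Type*} [Group G] [Finite G] {p : ℕ} [Fact p.Prime]
    (S : Sylow p G) (A : Subgroup G) (hA : A.IsSubnormal) : Sylow p ↥A :=
  IsPGroup.toSylow (P := (S : Subgroup G).subgroupOf A)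
    (S.2.comap_of_injective A.subtype A.subtype_injective)
    (by
      have := Cfsg.Agent.Lib.Helper10.not_dvd_relIndex_inf_of_isSubnormal p (S : Subgroup G)
        S.not_dvd_index A hA
      rwa [Subgroup.inf_relIndex_right] at this)

theorem coe_sylowOfSubnormal {G : Type*} [Group G] [Finite G] {p : ℕ} [Fact p.Prime]
    (S : Sylow p G) (A : Subgroup G) (hA : A.IsSubnormal) :
    ((sylowOfSubnormal S A hA : Sylow p ↥A) : Subgroup ↥A) = (S : Subgroup G).subgroupOf A :=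
  rfl

theorem map_inf_sylow_le {G : Type*} {G' : Type*} [Group G] [Finite G] [Group G'] {p : ℕ}
    [Fact p.Prime] (f : G →* G') (S : Sylow p G) (A : Subgroup G) (hA : A.IsSubnormal) :
    A.map f ⊓ (S : Subgroup G).map f ≤ (A ⊓ S).map f := by
  let S_A := sylowOfSubnormal S A hA
  have hsurj := MonoidHom.subgroupMap_surjective f A
  let Q := S_A.mapSurjective hsurj
  let P' := (A.map f ⊓ (S : Subgroup G).map f).subgroupOf (A.map f)
  have hP' : IsPGroup p ↥P' :=
    ((S.2.map f).to_le inf_le_right).comap_of_injective _ (Subgroup.subtype_injective _)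
  have hQP' : (Q : Subgroup ↥(A.map f)) ≤ P' := by
    rintro _ ⟨a, ha, rfl⟩
    rw [Subgroup.mem_subgroupOf]
    refine ⟨⟨a, a.2, rfl⟩, ⟨a, ha, rfl⟩⟩
  have hEq : P' = (Q : Subgroup ↥(A.map f)) := Q.3 hP' hQP'
  intro x hx
  have hxA : x ∈ A.map f := hx.1
  have hx' : (⟨x, hxA⟩ : ↥(A.map f)) ∈ P' := by
    rw [Subgroup.mem_subgroupOf]; exact hx
  rw [hEq] at hx'
  obtain ⟨a, ha, hax⟩ := hx'
  refine ⟨a, ⟨a.2, ha⟩, ?_⟩
  have := congrArg Subtype.val hax
  simpa using this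

theorem restrict_step {G : Type u} [Group G] [Finite G] {p : ℕ} [Fact p.Prime] (S : Sylow p G)
    (K X₁ X₂ : Subgroup G) (hK : K.IsSubnormal) (h₁ : X₁.IsSubnormal) (h₂ : X₂.IsSubnormal)
    (hX₁ : X₁ ≤ K) (hX₂ : X₂ ≤ K)
    (ih : ∀ (S' : Sylow p ↥K) (B₁ B₂ : Subgroup ↥K), B₁.IsSubnormal → B₂.IsSubnormal →
      (B₁ ⊔ B₂) ⊓ S' ≤ (B₁ ⊓ S') ⊔ (B₂ ⊓ S')) :
    (X₁ ⊔ X₂) ⊓ S ≤ (X₁ ⊓ S) ⊔ (X₂ ⊓ S) := by
  have key := ih (sylowOfSubnormal S K hK) (X₁.subgroupOf K) (X₂.subgroupOf K)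
    h₁.subgroupOf h₂.subgroupOf
  rw [coe_sylowOfSubnormal] at key
  have hmap : ((X₁.subgroupOf K ⊓ (S : Subgroup G).subgroupOf K) ⊔
      (X₂.subgroupOf K ⊓ (S : Subgroup G).subgroupOf K)).map K.subtype ≤
      (X₁ ⊓ S) ⊔ (X₂ ⊓ S) := by
    rw [Subgroup.map_sup]
    apply sup_le_sup
    · rintro _ ⟨y, ⟨hy1, hy2⟩, rfl⟩
      exact ⟨hy1, hy2⟩
    · rintro _ ⟨y, ⟨hy1, hy2⟩, rfl⟩
      exact ⟨hy1, hy2⟩
  intro x hx
  have hxK : x ∈ K := (sup_le hX₁ hX₂) hx.1
  apply hmap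
  refine ⟨⟨x, hxK⟩, key ⟨?_, ?_⟩, rfl⟩
  · rw [← Subgroup.subgroupOf_sup hX₁ hX₂]
    exact hx.1
  · exact hx.2


theorem sylow_join_aux : ∀ (n : ℕ) (G : Type u) [Group G] [Finite G], Nat.card G = n →
    ∀ (p : ℕ) [Fact p.Prime] (S : Sylow p G) (A₁ A₂ : Subgroup G),
      A₁.IsSubnormal → A₂.IsSubnormal →
      (A₁ ⊔ A₂) ⊓ S ≤ (A₁ ⊓ S) ⊔ (A₂ ⊓ S) := by
  intro n
  induction n using Nat.strong_induction_on with
  | _ n ih =>
  intro G _ _ hcard p _ S A₁ A₂ h₁ h₂
  set T := (A₁ ⊓ (S : Subgroup G)) ⊔ (A₂ ⊓ (S : Subgroup G)) with hTdef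
  have hTS : T ≤ S := sup_le inf_le_right inf_le_right
  by_cases hJ : A₁ ⊔ A₂ = ⊤
  swap
  · have hJsn := Cfsg.Agent.Lib.Helper20.isSubnormal_sup h₁ h₂
    have hcardJ : Nat.card ↥(A₁ ⊔ A₂) < n := by
      rw [← hcard, ← Subgroup.card_top (G := G)]
      have hlt : A₁ ⊔ A₂ < ⊤ := lt_top_iff_ne_top.mpr hJ
      exact Set.Finite.card_lt_card (Set.toFinite _) hlt
    exact restrict_step S (A₁ ⊔ A₂) A₁ A₂ hJsn h₁ h₂ le_sup_left le_sup_right
      (fun S' B₁ B₂ hB₁ hB₂ => ih _ hcardJ _ rfl p S' B₁ B₂ hB₁ hB₂)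
  rw [hJ, top_inf_eq]
  have hRn := Cfsg.Agent.Lib.Helper1.pResidual_normal (G := G) p
  by_cases hR : Cfsg.pResidual p G = ⊥
  · have hStop : (S : Subgroup G) = ⊤ := by
      have := Cfsg.Agent.Lib.Helper1.sylow_sup_pResidual S
      rwa [hR, sup_bot_eq] at this
    have : T = ⊤ := by rw [hTdef, hStop, inf_top_eq, inf_top_eq, hJ]
    rw [this]; exact le_top
  obtain ⟨M, hMn, hMne, hMR, hMmin⟩ :=
    exists_minimal_normal_le _ (Cfsg.pResidual p G) rfl hRn hR
  have := hMn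
  have hquot : (S : Subgroup G) ≤ T ⊔ M := by
    let π := QuotientGroup.mk' M
    have hπ : Function.Surjective π := QuotientGroup.mk'_surjective M
    have hcardQ : Nat.card (G ⧸ M) < n := by
      rw [← hcard, ← Subgroup.index_eq_card, ← M.card_mul_index]
      have h1 : 1 < Nat.card M := M.one_lt_card_iff_ne_bot.mpr hMne
      have h2 : 0 < M.index := Nat.pos_of_ne_zero Subgroup.index_ne_zero_of_finite
      nlinarith
    have IH := ih _ hcardQ (G ⧸ M) rfl p (S.mapSurjective hπ) (A₁.map π) (A₂.map π)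
      (h₁.map hπ) (h₂.map hπ)
    rw [← Subgroup.map_sup, hJ, Subgroup.map_top_of_surjective π hπ, top_inf_eq,
      Sylow.coe_mapSurjective] at IH
    have h3 : (S : Subgroup G).map π ≤ T.map π := by
      refine IH.trans ?_
      rw [hTdef, Subgroup.map_sup]
      exact sup_le_sup (map_inf_sylow_le π S A₁ h₁) (map_inf_sylow_le π S A₂ h₂)
    have h4 := Subgroup.comap_mono (f := π) h3
    rw [Subgroup.comap_map_eq, Subgroup.comap_map_eq, QuotientGroup.ker_mk'] at h4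
    exact le_sup_left.trans h4
  have hquot' : (S : Subgroup G) ≤ T ⊔ ((S : Subgroup G) ⊓ M) := by
    intro s hs
    obtain ⟨t, ht, m, hm, rfl⟩ := Subgroup.mem_sup_of_normal_right.mp (hquot hs)
    have hmS : m ∈ (S : Subgroup G) := by
      have := (S : Subgroup G).mul_mem ((S : Subgroup G).inv_mem (hTS ht)) hs
      simpa using this
    exact Subgroup.mul_mem_sup ht ⟨hmS, hm⟩
  suffices hSM : (S : Subgroup G) ⊓ M ≤ T from hquot'.trans (sup_le le_rfl hSM)
  have hN₁ := minNormal_le_normalizer A₁ M h₁ hMn hMmin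
  have hN₂ := minNormal_le_normalizer A₂ M h₂ hMn hMmin
  set M₀ := (M ⊓ A₁) ⊔ (M ⊓ A₂) with hM₀
  have hM₀M : M₀ ≤ M := sup_le inf_le_left inf_le_left
  have hcomm : ∀ (A : Subgroup G), M ≤ Subgroup.normalizer (A : Set G) →
      ∀ a ∈ A, ∀ x ∈ M, a * x * a⁻¹ * x⁻¹ ∈ M ⊓ A := by
    intro A hN a ha x hx
    constructor
    · exact M.mul_mem (hMn.conj_mem x hx a) (M.inv_mem hx)
    · have h1 : x * a⁻¹ * x⁻¹ ∈ A :=
        (Subgroup.mem_set_normalizer_iff.mp (hN hx) a⁻¹).mp (A.inv_mem ha)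
      have e : a * x * a⁻¹ * x⁻¹ = a * (x * a⁻¹ * x⁻¹) := by group
      rw [e]
      exact A.mul_mem ha h1
  have hconj : ∀ a : G, (∀ x ∈ M ⊓ A₁, a * x * a⁻¹ ∈ M₀) → (∀ x ∈ M ⊓ A₂, a * x * a⁻¹ ∈ M₀) →
      ∀ x ∈ M₀, a * x * a⁻¹ ∈ M₀ := by
    intro a ha1 ha2
    have : M₀ ≤ M₀.comap (MulAut.conj a).toMonoidHom := by
      rw [hM₀]
      apply sup_le
      · intro x hx; exact ha1 x hx
      · intro x hx; exact ha2 x hx
    intro x hx
    exact this hx
  have hM₀n : M₀.Normal := by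
    have htop : (⊤ : Subgroup G) ≤ Subgroup.normalizer (M₀ : Set G) := by
      rw [← hJ]
      apply sup_le
      · apply Cfsg.Agent.Lib.Helper20.le_normalizer_of_conj_mem'
        intro a ha
        apply hconj a
        · intro x hx
          exact le_sup_left (a := M ⊓ A₁) ⟨hMn.conj_mem x hx.1 a,
            A₁.mul_mem (A₁.mul_mem ha hx.2) (A₁.inv_mem ha)⟩
        · intro x hx
          have h1 := hcomm A₁ hN₁ a ha x hx.1
          have e : a * x * a⁻¹ = (a * x * a⁻¹ * x⁻¹) * x := by group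
          rw [e]
          exact M₀.mul_mem (le_sup_left (a := M ⊓ A₁) h1) (le_sup_right (b := M ⊓ A₂) hx)
      · apply Cfsg.Agent.Lib.Helper20.le_normalizer_of_conj_mem'
        intro a ha
        apply hconj a
        · intro x hx
          have h1 := hcomm A₂ hN₂ a ha x hx.1
          have e : a * x * a⁻¹ = (a * x * a⁻¹ * x⁻¹) * x := by group
          rw [e]
          exact M₀.mul_mem (le_sup_right (b := M ⊓ A₂) h1) (le_sup_left (a := M ⊓ A₁) hx)
        · intro x hx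
          exact le_sup_right (b := M ⊓ A₂) ⟨hMn.conj_mem x hx.1 a,
            A₂.mul_mem (A₂.mul_mem ha hx.2) (A₂.inv_mem ha)⟩
    exact Subgroup.normalizer_eq_top_iff.mp (top_le_iff.mp htop)
  rcases hMmin M₀ hM₀n hM₀M with h0 | h0
  · -- `M` is central
    have hMA₁ : M ⊓ A₁ = ⊥ := le_bot_iff.mp (h0 ▸ (le_sup_left : M ⊓ A₁ ≤ M₀))
    have hMA₂ : M ⊓ A₂ = ⊥ := le_bot_iff.mp (h0 ▸ (le_sup_right : M ⊓ A₂ ≤ M₀))
    have hc : ∀ (A : Subgroup G), M ≤ Subgroup.normalizer (A : Set G) → M ⊓ A = ⊥ →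
        A ≤ Subgroup.centralizer (M : Set G) := by
      intro A hN hbot a ha
      rw [Subgroup.mem_centralizer_iff]
      intro x hx
      have := hcomm A hN a ha x hx
      rw [hbot, Subgroup.mem_bot] at this
      have e : x * a = (a * x * a⁻¹ * x⁻¹)⁻¹ * (a * x) := by group
      rw [e, this, inv_one, one_mul]
    have htop : (⊤ : Subgroup G) ≤ Subgroup.centralizer (M : Set G) := by
      rw [← hJ]
      exact sup_le (hc A₁ hN₁ hMA₁) (hc A₂ hN₂ hMA₂)
    have hMZ : M ≤ Subgroup.center G := by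
      intro m hm
      rw [Subgroup.mem_center_iff]
      intro g
      exact (Subgroup.mem_centralizer_iff.mp (htop (Subgroup.mem_top g)) m hm).symm
    exact le_of_sup_central_residual S T ((S : Subgroup G) ⊓ M) hTS inf_le_left
      (inf_le_right.trans hMZ) (inf_le_right.trans hMR) hquot'
  · by_cases hMtop : M = ⊤
    · have hsn : ∀ A : Subgroup G, A.IsSubnormal → A = ⊥ ∨ A = ⊤ := by
        intro A hA
        by_cases hAt : A = ⊤
        · right; exact hAt
        left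
        obtain ⟨K, hKn, hAK, hKlt⟩ := hA.exists_normal_and_le_and_lt_top_of_ne hAt
        rcases hMmin K hKn (hMtop ▸ le_top) with hK | hK
        · exact le_bot_iff.mp (hK ▸ hAK)
        · exact absurd (hK.trans hMtop) hKlt.ne
      rcases hsn A₁ h₁ with e₁ | e₁
      · rcases hsn A₂ h₂ with e₂ | e₂
        · have hbt : (⊤ : Subgroup G) = ⊥ := by rw [← hJ, e₁, e₂, sup_bot_eq]
          intro x _
          have hx : x ∈ (⊥ : Subgroup G) := hbt ▸ Subgroup.mem_top x
          rw [Subgroup.mem_bot] at hx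
          rw [hx]; exact T.one_mem
        · refine inf_le_left.trans ?_
          rw [hTdef, e₂, top_inf_eq]
          exact le_sup_right
      · refine inf_le_left.trans ?_
        rw [hTdef, e₁, top_inf_eq]
        exact le_sup_left
    · have hMsn : M.IsSubnormal := hMn.isSubnormal
      have hcardM : Nat.card ↥M < n := by
        rw [← hcard, ← Subgroup.card_top (G := G)]
        have hlt : M < ⊤ := lt_top_iff_ne_top.mpr hMtop
        exact Set.Finite.card_lt_card (Set.toFinite _) hlt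
      have key := restrict_step S M (M ⊓ A₁) (M ⊓ A₂) hMsn (hMsn.inf h₁) (hMsn.inf h₂)
        inf_le_left inf_le_left
        (fun S' B₁ B₂ hB₁ hB₂ => ih _ hcardM _ rfl p S' B₁ B₂ hB₁ hB₂)
      rw [← hM₀, h0] at key
      rw [inf_comm]
      refine key.trans ?_
      rw [hTdef]
      exact sup_le_sup (inf_le_inf_right _ inf_le_right) (inf_le_inf_right _ inf_le_right)


/-- Let G be a finite group, p a prime, S a Sylow p-subgroup of G and A₁, A₂ subnormal subgroups of G. Then the join of S ∩ A₁ and S ∩ A₂ is a Sylow p-subgroup of the join of A₁ and A₂; equivalently ⟨A₁, A₂⟩ ∩ S = ⟨A₁ ∩ S, A₂ ∩ S⟩. -/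
theorem result {G : Type*} [Group G] [Finite G] {p : ℕ} [Fact p.Prime] (S : Sylow p G) (A₁ A₂ : Subgroup G)
    (h₁ : A₁.IsSubnormal) (h₂ : A₂.IsSubnormal) :
    (A₁ ⊔ A₂) ⊓ (S : Subgroup G) = (A₁ ⊓ (S : Subgroup G)) ⊔ (A₂ ⊓ (S : Subgroup G)) := by
  apply le_antisymm
  · exact sylow_join_aux _ G rfl p S A₁ A₂ h₁ h₂
  · exact sup_le (inf_le_inf_right _ le_sup_left) (inf_le_inf_right _ le_sup_right)

end Cfsg.Agent.S3028
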