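import Cfsg.Statements.S1562
import Cfsg.Agent.Lib.Helper12.Golay.Tuples
import Cfsg.Agent.Lib.helper3.GolaySteiner

set_option autoImplicit false
open scoped Pointwise
open Cfsg

namespace Cfsg.Agent.S1562

open Cfsg.Agent.Lib.Helper12.Golay

theorem finish (g : M24) (o o' : Finset GolayPt) (t1 t2 t3 u1 u2 u3 v1 v2 v3 : GolayPt)
    (h : g • (((((((o, t1), t2), t3), u1), u2), u3) : Flag6) =
      (((((((o', t1), t2), t3), v1), v2), v3) : Flag6)) :
    ∃ g : Equiv.Perm GolayPt, g ∈ M24 ∧ g • ({t1, t2, t3} : Finset GolayPt) = {t1, t2, t3} ∧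
      g • ({u1, u2, u3} : Finset GolayPt) = {v1, v2, v3} := by
  simp only [Prod.smul_mk, Prod.mk.injEq] at h
  obtain ⟨⟨⟨⟨⟨⟨_, h1⟩, h2⟩, h3⟩, h4⟩, h5⟩, h6⟩ := h
  refine ⟨g.1, g.2, ?_, ?_⟩
  · rw [Finset.smul_finset_insert, Finset.smul_finset_insert, Finset.smul_finset_singleton]
    exact congrArg₂ _ h1 (congrArg₂ _ h2 (congrArg _ h3))
  · rw [Finset.smul_finset_insert, Finset.smul_finset_insert, Finset.smul_finset_singleton]
    exact congrArg₂ _ h4 (congrArg₂ _ h5 (congrArg _ h6))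

theorem exists_octad5 (a b c d e : GolayPt) (hab : a ≠ b) (hac : a ≠ c) (had : a ≠ d) (hae : a ≠ e)
    (hbc : b ≠ c) (hbd : b ≠ d) (hbe : b ≠ e) (hcd : c ≠ d) (hce : c ≠ e) (hde : d ≠ e) :
    ∃ o ∈ octads, a ∈ o ∧ b ∈ o ∧ c ∈ o ∧ d ∈ o ∧ e ∈ o := by
  have hcard : ({a, b, c, d, e} : Finset GolayPt).card = 5 := by
    rw [Finset.card_insert_of_notMem, Finset.card_insert_of_notMem, Finset.card_insert_of_notMem,
      Finset.card_insert_of_notMem, Finset.card_singleton]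
    · simpa using hde
    · simp [hcd, hce]
    · simp [hbc, hbd, hbe]
    · simp [hab, hac, had, hae]
  obtain ⟨o, ⟨ho, hsub⟩, _⟩ := Cfsg.Agent.Lib.helper3.octads_steiner.2 _ hcard
  refine ⟨o, ho, hsub (by simp), hsub (by simp), hsub (by simp), hsub (by simp), hsub (by simp)⟩

theorem homog (T U U' : Finset GolayPt) (hT : T.card = 3) (hU : U.card = 3) (hU' : U'.card = 3)
    (hd : Disjoint T U) (hd' : Disjoint T U')
    (hiff : (∃ o ∈ octads, T ∪ U ⊆ o) ↔ (∃ o ∈ octads, T ∪ U' ⊆ o)) :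
    ∃ g : Equiv.Perm GolayPt, g ∈ M24 ∧ g • T = T ∧ g • U = U' := by
  have ne : ∀ x ∈ T, ∀ y ∈ U, x ≠ y := fun x hx y hy h => Finset.disjoint_left.mp hd hx (h ▸ hy)
  have ne' : ∀ x ∈ T, ∀ y ∈ U', x ≠ y := fun x hx y hy h => Finset.disjoint_left.mp hd' hx (h ▸ hy)
  obtain ⟨t1, t2, t3, h12, h13, h23, rfl⟩ := Finset.card_eq_three.mp hT
  obtain ⟨u1, u2, u3, g12, g13, g23, rfl⟩ := Finset.card_eq_three.mp hU
  obtain ⟨v1, v2, v3, f12, f13, f23, rfl⟩ := Finset.card_eq_three.mp hU'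
  have m1 : t1 ∈ ({t1, t2, t3} : Finset GolayPt) := by simp
  have m2 : t2 ∈ ({t1, t2, t3} : Finset GolayPt) := by simp
  have m3 : t3 ∈ ({t1, t2, t3} : Finset GolayPt) := by simp
  have n1 : u1 ∈ ({u1, u2, u3} : Finset GolayPt) := by simp
  have n2 : u2 ∈ ({u1, u2, u3} : Finset GolayPt) := by simp
  have n3 : u3 ∈ ({u1, u2, u3} : Finset GolayPt) := by simp
  have p1 : v1 ∈ ({v1, v2, v3} : Finset GolayPt) := by simp
  have p2 : v2 ∈ ({v1, v2, v3} : Finset GolayPt) := by simp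
  have p3 : v3 ∈ ({v1, v2, v3} : Finset GolayPt) := by simp
  by_cases hin : ∃ o ∈ octads, ({t1, t2, t3} : Finset GolayPt) ∪ {u1, u2, u3} ⊆ o
  · obtain ⟨o', ho', hsub'⟩ := hiff.mp hin
    obtain ⟨o, ho, hsub⟩ := hin
    have hl : ∀ x ∈ ({t1, t2, t3} : Finset GolayPt), x ∈ o :=
      fun x hx => hsub (Finset.mem_union_left _ hx)
    have hr : ∀ x ∈ ({u1, u2, u3} : Finset GolayPt), x ∈ o :=
      fun x hx => hsub (Finset.mem_union_right _ hx)
    have hl' : ∀ x ∈ ({t1, t2, t3} : Finset GolayPt), x ∈ o' :=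
      fun x hx => hsub' (Finset.mem_union_left _ hx)
    have hr' : ∀ x ∈ ({v1, v2, v3} : Finset GolayPt), x ∈ o' :=
      fun x hx => hsub' (Finset.mem_union_right _ hx)
    obtain ⟨k, hk⟩ := flag6_in o ho t1 t2 t3 u1 u2 u3 (hl _ m1) (hl _ m2) (hl _ m3) (hr _ n1)
      (hr _ n2) (hr _ n3) h12 h13 h23 (ne _ m1 _ n1) (ne _ m2 _ n1) (ne _ m3 _ n1) (ne _ m1 _ n2)
      (ne _ m2 _ n2) (ne _ m3 _ n2) g12 (ne _ m1 _ n3) (ne _ m2 _ n3) (ne _ m3 _ n3) g13 g23
    obtain ⟨k', hk'⟩ := flag6_in o' ho' t1 t2 t3 v1 v2 v3 (hl' _ m1) (hl' _ m2) (hl' _ m3)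
      (hr' _ p1) (hr' _ p2) (hr' _ p3) h12 h13 h23 (ne' _ m1 _ p1) (ne' _ m2 _ p1) (ne' _ m3 _ p1)
      (ne' _ m1 _ p2) (ne' _ m2 _ p2) (ne' _ m3 _ p2) f12 (ne' _ m1 _ p3) (ne' _ m2 _ p3)
      (ne' _ m3 _ p3) f13 f23
    apply finish (k' * k⁻¹) o o' t1 t2 t3 u1 u2 u3 v1 v2 v3
    rw [mul_smul, ← hk, inv_smul_smul, hk']
  · have hin' : ¬ ∃ o ∈ octads, ({t1, t2, t3} : Finset GolayPt) ∪ {v1, v2, v3} ⊆ o :=
      fun h => hin (hiff.mpr h)
    obtain ⟨o, ho, a1, a2, a3, a4, a5⟩ := exists_octad5 t1 t2 t3 u1 u2 h12 h13 (ne _ m1 _ n1)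
      (ne _ m1 _ n2) h23 (ne _ m2 _ n1) (ne _ m2 _ n2) (ne _ m3 _ n1) (ne _ m3 _ n2) g12
    obtain ⟨o', ho', b1, b2, b3, b4, b5⟩ := exists_octad5 t1 t2 t3 v1 v2 h12 h13 (ne' _ m1 _ p1)
      (ne' _ m1 _ p2) h23 (ne' _ m2 _ p1) (ne' _ m2 _ p2) (ne' _ m3 _ p1) (ne' _ m3 _ p2) f12
    have a6 : u3 ∉ o := by
      intro h
      apply hin
      refine ⟨o, ho, ?_⟩
      intro x hx
      simp only [Finset.mem_union, Finset.mem_insert, Finset.mem_singleton] at hx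
      rcases hx with (rfl | rfl | rfl) | (rfl | rfl | rfl) <;> assumption
    have b6 : v3 ∉ o' := by
      intro h
      apply hin'
      refine ⟨o', ho', ?_⟩
      intro x hx
      simp only [Finset.mem_union, Finset.mem_insert, Finset.mem_singleton] at hx
      rcases hx with (rfl | rfl | rfl) | (rfl | rfl | rfl) <;> assumption
    obtain ⟨k, hk⟩ := flag6_out o ho t1 t2 t3 u1 u2 u3 a1 a2 a3 a4 a5 a6 h12 h13 h23
      (ne _ m1 _ n1) (ne _ m2 _ n1) (ne _ m3 _ n1) (ne _ m1 _ n2) (ne _ m2 _ n2) (ne _ m3 _ n2) g12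
    obtain ⟨k', hk'⟩ := flag6_out o' ho' t1 t2 t3 v1 v2 v3 b1 b2 b3 b4 b5 b6 h12 h13 h23
      (ne' _ m1 _ p1) (ne' _ m2 _ p1) (ne' _ m3 _ p1) (ne' _ m1 _ p2) (ne' _ m2 _ p2)
      (ne' _ m3 _ p2) f12
    apply finish (k' * k⁻¹) o o' t1 t2 t3 u1 u2 u3 v1 v2 v3
    rw [mul_smul, ← hk, inv_smul_smul, hk']

theorem count_T₀ : {o : Finset GolayPt | o ∈ octads ∧
    ({pt 0, pt 1, pt 2} : Finset GolayPt) ⊆ o}.ncard = 21 := by
  have h : countK 4096 (fun u => Nat.beq (popcF (encF u)) 8 &&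
      (tb (encF u) 0 && tb (encF u) 1 && tb (encF u) 2)) = 21 := by decide +kernel
  rw [← h]
  apply ncard_wordsOfWeightK 8 (fun s => ({pt 0, pt 1, pt 2} : Finset GolayPt) ⊆ s)
    (fun m => tb m 0 && tb m 1 && tb m 2)
  intro m hm
  rw [Bool.and_eq_true, Bool.and_eq_true, ← mem_fs_pt (by decide), ← mem_fs_pt (by decide),
    ← mem_fs_pt (by decide), Finset.insert_subset_iff, Finset.insert_subset_iff,
    Finset.singleton_subset_iff, and_assoc]

theorem count_oct (T : Finset GolayPt) (hT : T.card = 3) :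
    {o : Finset GolayPt | o ∈ octads ∧ T ⊆ o}.ncard = 21 := by
  obtain ⟨S, hTS, hS⟩ := Finset.exists_superset_card_eq (s := T) (n := 5) (by omega)
    (by rw [Fintype.card_option, ZMod.card]; norm_num)
  obtain ⟨o, ⟨ho, hsub⟩, _⟩ := Cfsg.Agent.Lib.helper3.octads_steiner.2 S hS
  obtain ⟨t1, t2, t3, h12, h13, h23, rfl⟩ := Finset.card_eq_three.mp hT
  have hTo := hTS.trans hsub
  obtain ⟨k, hk⟩ := flag3 o ho t1 t2 t3 (hTo (by simp)) (hTo (by simp)) (hTo (by simp)) h12 h13 h23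
  simp only [flag3₀, Prod.smul_mk, Prod.mk.injEq] at hk
  obtain ⟨⟨⟨_, k1⟩, k2⟩, k3⟩ := hk
  have hkT : k • ({pt 0, pt 1, pt 2} : Finset GolayPt) = {t1, t2, t3} := by
    rw [Finset.smul_finset_insert, Finset.smul_finset_insert, Finset.smul_finset_singleton]
    exact congrArg₂ _ k1 (congrArg₂ _ k2 (congrArg _ k3))
  have := ncard_invariant (G := M24) (A := Finset GolayPt) (B := Finset GolayPt) octads
    (fun g b hb => smul_mem_octads g.2 hb) (fun a b => a ⊆ b)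
    (fun g a b => propext Finset.smul_finset_subset_smul_finset_iff)
    (fun t => t) k ({pt 0, pt 1, pt 2} : Finset GolayPt)
  rw [hkT] at this
  exact this.trans count_T₀

theorem count_in (T : Finset GolayPt) (hT : T.card = 3) :
    {U : Finset GolayPt | U.card = 3 ∧ Disjoint T U ∧ (∃ o ∈ octads, T ∪ U ⊆ o)}.ncard = 210 := by
  classical
  have hfin : octads.Finite := Set.toFinite _
  set O : Finset (Finset GolayPt) := hfin.toFinset.filter (fun o => T ⊆ o) with hO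
  have hOmem : ∀ o, o ∈ O ↔ o ∈ octads ∧ T ⊆ o := by
    intro o
    rw [hO, Finset.mem_filter, Set.Finite.mem_toFinset]
  have hOcard : O.card = 21 := by
    rw [← count_oct T hT, ← Set.ncard_coe_finset]
    congr 1
    ext o
    exact hOmem o
  have hset : {U : Finset GolayPt | U.card = 3 ∧ Disjoint T U ∧ (∃ o ∈ octads, T ∪ U ⊆ o)} =
      ↑(O.biUnion (fun o => (o \ T).powersetCard 3)) := by
    ext U
    simp only [Set.mem_ofPred_eq, Finset.coe_biUnion, Set.mem_iUnion, Finset.mem_coe,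
      Finset.mem_powersetCard, exists_prop]
    constructor
    · rintro ⟨hU, hd, o, ho, hsub⟩
      refine ⟨o, (hOmem o).mpr ⟨ho, Finset.union_subset_left hsub⟩, ?_, hU⟩
      exact Finset.subset_sdiff.mpr ⟨Finset.union_subset_right hsub, hd.symm⟩
    · rintro ⟨o, ho, hsub, hU⟩
      obtain ⟨ho1, ho2⟩ := (hOmem o).mp ho
      obtain ⟨hUo, hUT⟩ := Finset.subset_sdiff.mp hsub
      exact ⟨hU, hUT.symm, o, ho1, Finset.union_subset ho2 hUo⟩
  rw [hset, Set.ncard_coe_finset, Finset.card_biUnion]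
  · have : ∀ o ∈ O, ((o \ T).powersetCard 3).card = 10 := by
      intro o ho
      obtain ⟨ho1, ho2⟩ := (hOmem o).mp ho
      rw [Finset.card_powersetCard, Finset.card_sdiff_of_subset ho2, ho1.2, hT]
      rfl
    rw [Finset.sum_congr rfl this, Finset.sum_const, hOcard]
    rfl
  · intro o ho o' ho' hne
    rw [Function.onFun, Finset.disjoint_left]
    intro U hU hU'
    rw [Finset.mem_powersetCard] at hU hU'
    obtain ⟨ho1, ho2⟩ := (hOmem o).mp ho
    obtain ⟨ho1', ho2'⟩ := (hOmem o').mp ho'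
    obtain ⟨hUo, hUT⟩ := Finset.subset_sdiff.mp hU.1
    obtain ⟨hUo', _⟩ := Finset.subset_sdiff.mp hU'.1
    have h1 : T ∪ U ⊆ o ∩ o' :=
      Finset.subset_inter (Finset.union_subset ho2 hUo) (Finset.union_subset ho2' hUo')
    have h2 := Finset.card_le_card h1
    rw [Finset.card_union_of_disjoint hUT.symm, hT, hU.2] at h2
    have h3 := Cfsg.Agent.Lib.helper3.octads_inter_card_le ho1 ho1' hne
    omega

theorem count_all (T : Finset GolayPt) (hT : T.card = 3) :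
    {U : Finset GolayPt | U.card = 3 ∧ Disjoint T U}.ncard = 1330 := by
  classical
  have hset : {U : Finset GolayPt | U.card = 3 ∧ Disjoint T U} = ↑(Tᶜ.powersetCard 3) := by
    ext U
    simp only [Set.mem_ofPred_eq, Finset.mem_coe, Finset.mem_powersetCard]
    constructor
    · rintro ⟨hU, hd⟩
      refine ⟨?_, hU⟩
      intro x hx
      rw [Finset.mem_compl]
      exact fun hxT => Finset.disjoint_left.mp hd hxT hx
    · rintro ⟨hsub, hU⟩
      refine ⟨hU, Finset.disjoint_left.mpr ?_⟩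
      intro x hxT hxU
      have := hsub hxU
      rw [Finset.mem_compl] at this
      exact this hxT
  rw [hset, Set.ncard_coe_finset, Finset.card_powersetCard, Finset.card_compl, hT,
    Fintype.card_option, ZMod.card]
  rfl

theorem count_out (T : Finset GolayPt) (hT : T.card = 3) :
    {U : Finset GolayPt | U.card = 3 ∧ Disjoint T U ∧ ¬ (∃ o ∈ octads, T ∪ U ⊆ o)}.ncard = 1120 := by
  have h1 := count_in T hT
  have h2 := count_all T hT
  have hsub : {U : Finset GolayPt | U.card = 3 ∧ Disjoint T U ∧ (∃ o ∈ octads, T ∪ U ⊆ o)} ⊆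
      {U : Finset GolayPt | U.card = 3 ∧ Disjoint T U} := fun U hU => ⟨hU.1, hU.2.1⟩
  have hdiff : {U : Finset GolayPt | U.card = 3 ∧ Disjoint T U ∧ ¬ (∃ o ∈ octads, T ∪ U ⊆ o)} =
      {U : Finset GolayPt | U.card = 3 ∧ Disjoint T U} \
        {U : Finset GolayPt | U.card = 3 ∧ Disjoint T U ∧ (∃ o ∈ octads, T ∪ U ⊆ o)} := by
    ext U
    simp only [Set.mem_ofPred_eq, Set.mem_sdiff]
    constructor
    · rintro ⟨a, b, c⟩
      exact ⟨⟨a, b⟩, fun h => c h.2.2⟩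
    · rintro ⟨⟨a, b⟩, c⟩
      exact ⟨a, b, fun h => c ⟨a, b, h⟩⟩
  rw [hdiff, Set.ncard_sdiff hsub (Set.toFinite _), h1, h2]

/-- Orbits of a triad stabiliser on the triads disjoint from it: the 210 triads inside a common octad with it form one orbit and the remaining 1120 another. -/
theorem result (T : Finset Cfsg.GolayPt) (hT : T.card = 3) : {U : Finset Cfsg.GolayPt | U.card = 3 ∧ Disjoint T U ∧ (∃ o ∈ Cfsg.octads, T ∪ U ⊆ o)}.ncard = 210 ∧ {U : Finset Cfsg.GolayPt | U.card = 3 ∧ Disjoint T U ∧ ¬ (∃ o ∈ Cfsg.octads, T ∪ U ⊆ o)}.ncard = 1120 ∧ ∀ U U' : Finset Cfsg.GolayPt, U.card = 3 → U'.card = 3 → Disjoint T U → Disjoint T U' → ((∃ o ∈ Cfsg.octads, T ∪ U ⊆ o) ↔ (∃ o ∈ Cfsg.octads, T ∪ U' ⊆ o)) → ∃ g : Equiv.Perm Cfsg.GolayPt, g ∈ Cfsg.M24 ∧ g • T = T ∧ g • U = U' :=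
  ⟨count_in T hT, count_out T hT, fun U U' hU hU' hd hd' hiff => homog T U U' hT hU hU' hd hd' hiff⟩

end Cfsg.Agent.S1562
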