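import Cfsg.Statements.S1564
import Cfsg.Agent.Lib.Helper12.Golay.Trans
import Cfsg.Agent.Lib.Helper12.Maximal
import Cfsg.Agent.S1562

set_option autoImplicit false
open scoped Pointwise
open Cfsg

namespace Cfsg.Agent.S1564

open Cfsg.Agent.Lib.Helper12 Cfsg.Agent.Lib.Helper12.Golay

theorem exists_octad_of_small (S : Finset GolayPt) (hS : S.card ≤ 5) : ∃ o ∈ octads, S ⊆ o := by
  obtain ⟨S', hSS', hS'⟩ := Finset.exists_superset_card_eq (s := S) (n := 5) hS
    (by rw [Fintype.card_option, ZMod.card]; norm_num)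
  obtain ⟨o, ⟨ho, hsub⟩, _⟩ := Cfsg.Agent.Lib.helper3.octads_steiner.2 S' hS'
  exact ⟨o, ho, hSS'.trans hsub⟩

theorem card_smul' (g : M24) (b : Finset GolayPt) : (g • b).card = b.card :=
  card_smul_finset (g : Equiv.Perm GolayPt) b

theorem inter_union_sdiff₁ (T U : Finset GolayPt) : (T ∩ U) ∪ (T \ U) = T := by
  rw [Finset.union_comm]; exact Finset.sdiff_union_inter T U

theorem inter_union_sdiff₂ (T U : Finset GolayPt) : (T ∩ U) ∪ (U \ T) = U := by
  rw [Finset.union_comm, Finset.inter_comm]; exact Finset.sdiff_union_inter U T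

theorem assemble (g : M24) (T U U' : Finset GolayPt) (h1 : g • (T ∩ U) = T ∩ U')
    (h2 : g • (T \ U) = T \ U') (h3 : g • (U \ T) = U' \ T) : g • T = T ∧ g • U = U' := by
  constructor
  · conv_lhs => rw [← inter_union_sdiff₁ T U]
    rw [Finset.smul_finset_union, h1, h2, inter_union_sdiff₁]
  · conv_lhs => rw [← inter_union_sdiff₂ T U]
    rw [Finset.smul_finset_union, h1, h3, inter_union_sdiff₂]

theorem singleton_smul (g : M24) (a a' : GolayPt) (ha : g • a = a') :
    g • ({a} : Finset GolayPt) = {a'} := by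
  rw [Finset.smul_finset_singleton, ha]

theorem card_parts (T U : Finset GolayPt) (hT : T.card = 3) (hU : U.card = 3) (k : ℕ)
    (hk : (T ∩ U).card = k) : (T \ U).card = 3 - k ∧ (U \ T).card = 3 - k := by
  have h1 := Finset.card_sdiff_add_card_inter T U
  have h2 := Finset.card_sdiff_add_card_inter U T
  rw [Finset.inter_comm U T] at h2
  omega

/-- Triads meeting a triad `T` in equally many points, and (when disjoint from `T`) lying or not
lying in an octad with `T`, are conjugate under the stabiliser of `T`. -/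
theorem triple_homog (T U U' : Finset GolayPt) (hT : T.card = 3) (hU : U.card = 3)
    (hU' : U'.card = 3) (hcard : (T ∩ U).card = (T ∩ U').card)
    (hiff : (∃ o ∈ octads, T ∪ U ⊆ o) ↔ (∃ o ∈ octads, T ∪ U' ⊆ o)) :
    ∃ g : M24, g • T = T ∧ g • U = U' := by
  have hle : (T ∩ U).card ≤ 3 := hT ▸ Finset.card_le_card Finset.inter_subset_left
  have disj1 : ∀ V : Finset GolayPt, Disjoint (T ∩ V) (T \ V) := fun V =>
    Finset.disjoint_of_subset_left Finset.inter_subset_right Finset.disjoint_sdiff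
  have disj2 : ∀ V : Finset GolayPt, Disjoint (T ∩ V) (V \ T) := fun V =>
    Finset.disjoint_of_subset_left Finset.inter_subset_left Finset.disjoint_sdiff
  have disj3 : ∀ V : Finset GolayPt, Disjoint (T \ V) (V \ T) := fun V =>
    Finset.disjoint_of_subset_left Finset.sdiff_subset Finset.disjoint_sdiff
  have ne_of : ∀ {A B : Finset GolayPt}, Disjoint A B → ∀ x ∈ A, ∀ y ∈ B, x ≠ y :=
    fun hd x hx y hy h => Finset.disjoint_left.mp hd hx (h ▸ hy)
  rcases Nat.lt_or_ge 2 (T ∩ U).card with h3 | hle2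
  · -- both equal to T
    have hfull : ∀ V : Finset GolayPt, V.card = 3 → 3 ≤ (T ∩ V).card → V = T := by
      intro V hV h
      have e1 : T ∩ V = T := Finset.eq_of_subset_of_card_le Finset.inter_subset_left (by rw [hT]; exact h)
      have e2 : T ∩ V = V := Finset.eq_of_subset_of_card_le Finset.inter_subset_right (by rw [hV]; exact h)
      exact e2.symm.trans e1
    have e1 := hfull U hU h3
    have e2 := hfull U' hU' (hcard ▸ h3)
    exact ⟨1, one_smul _ _, by rw [one_smul, e1, e2]⟩
  rcases Nat.lt_or_ge 1 (T ∩ U).card with h2 | hle1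
  · -- intersection of size two
    have hk : (T ∩ U).card = 2 := le_antisymm hle2 h2
    have hk' : (T ∩ U').card = 2 := hcard ▸ hk
    obtain ⟨c1, c2⟩ := card_parts T U hT hU 2 hk
    obtain ⟨c1', c2'⟩ := card_parts T U' hT hU' 2 hk'
    obtain ⟨a, b, hab, hP⟩ := Finset.card_eq_two.mp hk
    obtain ⟨a', b', hab', hP'⟩ := Finset.card_eq_two.mp hk'
    obtain ⟨c, hQ⟩ := Finset.card_eq_one.mp c1
    obtain ⟨c', hQ'⟩ := Finset.card_eq_one.mp c1'
    obtain ⟨x, hR⟩ := Finset.card_eq_one.mp c2
    obtain ⟨x', hR'⟩ := Finset.card_eq_one.mp c2'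
    have d1 := disj1 U; have d2 := disj2 U; have d3 := disj3 U
    have d1' := disj1 U'; have d2' := disj2 U'; have d3' := disj3 U'
    rw [hP, hQ] at d1; rw [hP, hR] at d2; rw [hQ, hR] at d3
    rw [hP', hQ'] at d1'; rw [hP', hR'] at d2'; rw [hQ', hR'] at d3'
    obtain ⟨g, g1, g2, g3, g4⟩ := four_trans a b c x a' b' c' x' hab
      (ne_of d1 a (by simp) c (by simp)) (ne_of d2 a (by simp) x (by simp))
      (ne_of d1 b (by simp) c (by simp)) (ne_of d2 b (by simp) x (by simp))
      (ne_of d3 c (by simp) x (by simp)) hab'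
      (ne_of d1' a' (by simp) c' (by simp)) (ne_of d2' a' (by simp) x' (by simp))
      (ne_of d1' b' (by simp) c' (by simp)) (ne_of d2' b' (by simp) x' (by simp))
      (ne_of d3' c' (by simp) x' (by simp))
    refine ⟨g, assemble g T U U' ?_ ?_ ?_⟩
    · rw [hP, hP']; exact pair_smul g a b a' b' g1 g2
    · rw [hQ, hQ']; exact singleton_smul g c c' g3
    · rw [hR, hR']; exact singleton_smul g x x' g4
  rcases Nat.lt_or_ge 0 (T ∩ U).card with h1 | hle0
  · -- intersection of size one
    have hk : (T ∩ U).card = 1 := le_antisymm hle1 h1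
    have hk' : (T ∩ U').card = 1 := hcard ▸ hk
    obtain ⟨c1, c2⟩ := card_parts T U hT hU 1 hk
    obtain ⟨c1', c2'⟩ := card_parts T U' hT hU' 1 hk'
    obtain ⟨a, hP⟩ := Finset.card_eq_one.mp hk
    obtain ⟨a', hP'⟩ := Finset.card_eq_one.mp hk'
    obtain ⟨b, c, hbc, hQ⟩ := Finset.card_eq_two.mp c1
    obtain ⟨b', c', hbc', hQ'⟩ := Finset.card_eq_two.mp c1'
    obtain ⟨x, y, hxy, hR⟩ := Finset.card_eq_two.mp c2
    obtain ⟨x', y', hxy', hR'⟩ := Finset.card_eq_two.mp c2'
    have d1 := disj1 U; have d2 := disj2 U; have d3 := disj3 U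
    have d1' := disj1 U'; have d2' := disj2 U'; have d3' := disj3 U'
    rw [hP, hQ] at d1; rw [hP, hR] at d2; rw [hQ, hR] at d3
    rw [hP', hQ'] at d1'; rw [hP', hR'] at d2'; rw [hQ', hR'] at d3'
    obtain ⟨g, g1, g2, g3, g4, g5⟩ := five_trans a b c x y a' b' c' x' y'
      (ne_of d1 a (by simp) b (by simp)) (ne_of d1 a (by simp) c (by simp))
      (ne_of d2 a (by simp) x (by simp)) (ne_of d2 a (by simp) y (by simp)) hbc
      (ne_of d3 b (by simp) x (by simp)) (ne_of d3 b (by simp) y (by simp))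
      (ne_of d3 c (by simp) x (by simp)) (ne_of d3 c (by simp) y (by simp)) hxy
      (ne_of d1' a' (by simp) b' (by simp)) (ne_of d1' a' (by simp) c' (by simp))
      (ne_of d2' a' (by simp) x' (by simp)) (ne_of d2' a' (by simp) y' (by simp)) hbc'
      (ne_of d3' b' (by simp) x' (by simp)) (ne_of d3' b' (by simp) y' (by simp))
      (ne_of d3' c' (by simp) x' (by simp)) (ne_of d3' c' (by simp) y' (by simp)) hxy'
    refine ⟨g, assemble g T U U' ?_ ?_ ?_⟩
    · rw [hP, hP']; exact singleton_smul g a a' g1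
    · rw [hQ, hQ']; exact pair_smul g b c b' c' g2 g3
    · rw [hR, hR']; exact pair_smul g x y x' y' g4 g5
  · -- disjoint
    have h0 : (T ∩ U).card = 0 := Nat.le_zero.mp hle0
    have h0' : (T ∩ U').card = 0 := hcard ▸ h0
    have hd : Disjoint T U := Finset.disjoint_iff_inter_eq_empty.mpr (Finset.card_eq_zero.mp h0)
    have hd' : Disjoint T U' := Finset.disjoint_iff_inter_eq_empty.mpr (Finset.card_eq_zero.mp h0')
    obtain ⟨g, hg, hgT, hgU⟩ := Cfsg.Agent.S1562.homog T U U' hT hU hU' hd hd' hiff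
    exact ⟨⟨g, hg⟩, hgT, hgU⟩

open Classical in
/-- The class of a triad `U` relative to `T`: twice the size of the intersection, plus one if the
union lies in an octad. -/
noncomputable def cls (T U : Finset GolayPt) : Fin 8 :=
  ⟨2 * ((T ∩ U).card % 4) + (if ∃ o ∈ octads, T ∪ U ⊆ o then 1 else 0), by
    have := Nat.mod_lt (T ∩ U).card (show 0 < 4 by norm_num)
    split <;> omega⟩

open Classical in
theorem cls_eq_iff (T y : Finset GolayPt) (hT : T.card = 3) (i : Fin 8) :
    cls T y = i ↔ ((T ∩ y).card = i.val / 2 ∧ ((∃ o ∈ octads, T ∪ y ⊆ o) ↔ i.val % 2 = 1)) := by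
  have hle : (T ∩ y).card ≤ 3 := hT ▸ Finset.card_le_card Finset.inter_subset_left
  rw [Fin.ext_iff]
  show 2 * ((T ∩ y).card % 4) + (if ∃ o ∈ octads, T ∪ y ⊆ o then 1 else 0) = i.val ↔ _
  rw [Nat.mod_eq_of_lt (by omega)]
  by_cases h : ∃ o ∈ octads, T ∪ y ⊆ o
  · rw [if_pos h]
    constructor
    · intro h1; exact ⟨by omega, ⟨fun _ => by omega, fun _ => h⟩⟩
    · rintro ⟨h1, h2⟩; have := h2.mp h; omega
  · rw [if_neg h]
    constructor
    · intro h1; exact ⟨by omega, ⟨fun h' => absurd h' h, fun h' => by omega⟩⟩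
    · rintro ⟨h1, h2⟩
      have : ¬ (i.val % 2 = 1) := fun h' => h (h2.mpr h')
      omega

theorem octad_of_meet (T y : Finset GolayPt) (hT : T.card = 3) (hy : y.card = 3)
    (h : 1 ≤ (T ∩ y).card) : ∃ o ∈ octads, T ∪ y ⊆ o := by
  apply exists_octad_of_small
  have := Finset.card_union_add_card_inter T y
  omega

/-- The class sizes. -/
def nOf (i : ℕ) : ℕ := if i = 7 then 1 else if i = 5 then 63 else if i = 3 then 630 else
  if i = 1 then 210 else if i = 0 then 1120 else 0

theorem count_base : ∀ k : Fin 4, cntSub (fun m => Nat.beq (popcF (Nat.land 7 m)) k) 24 3 0 =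
    if k.val = 0 then 1330 else nOf (2 * k.val + 1) := by decide +kernel

theorem mask_T₀ : mask ({pt 0, pt 1, pt 2} : Finset GolayPt) = 7 := by
  rw [Finset.insert_eq, Finset.insert_eq, mask_union, mask_union, mask_singleton (by decide),
    mask_singleton (by decide), mask_singleton (by decide)]
  rfl

theorem ncard_base (k : Fin 4) :
    {y : Finset GolayPt | y.card = 3 ∧ (({pt 0, pt 1, pt 2} : Finset GolayPt) ∩ y).card = k}.ncard =
      if k.val = 0 then 1330 else nOf (2 * k.val + 1) := by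
  rw [← count_base k]
  apply ncard_card_eq 3 (fun y => (({pt 0, pt 1, pt 2} : Finset GolayPt) ∩ y).card = k)
    (fun m => Nat.beq (popcF (Nat.land 7 m)) k)
  intro y
  have h := card_fs_inter (a := 7) (by norm_num) y
  have hfs : fs 7 = ({pt 0, pt 1, pt 2} : Finset GolayPt) := by
    rw [← mask_T₀, fs_mask]
  rw [hfs] at h
  rw [h, natBeq_iff]

theorem ncard_general (T : Finset GolayPt) (hT : T.card = 3) (k : Fin 4) :
    {y : Finset GolayPt | y.card = 3 ∧ (T ∩ y).card = k}.ncard =
      if k.val = 0 then 1330 else nOf (2 * k.val + 1) := by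
  obtain ⟨a, b, c, hab, hac, hbc, rfl⟩ := Finset.card_eq_three.mp hT
  obtain ⟨g, g1, g2, g3⟩ := three_trans (pt 0) (pt 1) (pt 2) a b c (by decide) (by decide)
    (by decide) hab hac hbc
  have hg := triple_smul g (pt 0) (pt 1) (pt 2) a b c g1 g2 g3
  rw [← ncard_base k, ← hg]
  exact ncard_invariant (G := M24) (A := Finset GolayPt) (B := Finset GolayPt)
    {y : Finset GolayPt | y.card = 3}
    (fun g b hb => (card_smul' g b).trans hb) (fun a b => (a ∩ b).card)
    (fun g a b => card_smul_inter (g : Equiv.Perm GolayPt) a b) (fun n => n = k) g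
    ({pt 0, pt 1, pt 2} : Finset GolayPt)

theorem ncard_triples : {y : Finset GolayPt | y.card = 3}.ncard = 2024 := by
  have h : cntSub (fun _ => true) 24 3 0 = 2024 := by decide +kernel
  rw [← h]
  have := ncard_card_eq 3 (fun _ => True) (fun _ => true) (fun _ => by simp)
  simp only [and_true] at this
  exact this

theorem ncard_class (T : Finset GolayPt) (hT : T.card = 3) (i : Fin 8) :
    {y : Finset GolayPt | y ∈ {y : Finset GolayPt | y.card = 3} ∧ cls T y = i}.ncard = nOf i := by
  have hset : {y : Finset GolayPt | y ∈ {y : Finset GolayPt | y.card = 3} ∧ cls T y = i} =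
      {y : Finset GolayPt | y.card = 3 ∧ ((T ∩ y).card = i.val / 2 ∧
        ((∃ o ∈ octads, T ∪ y ⊆ o) ↔ i.val % 2 = 1))} := by
    ext y
    simp only [Set.mem_ofPred_eq]
    rw [cls_eq_iff T y hT i]
  rw [hset]
  have disj_iff : ∀ y : Finset GolayPt, (T ∩ y).card = 0 ↔ Disjoint T y := fun y => by
    rw [Finset.card_eq_zero, Finset.disjoint_iff_inter_eq_empty]
  have hodd : ∀ k : Fin 4, 1 ≤ k.val →
      {y : Finset GolayPt | y.card = 3 ∧ ((T ∩ y).card = k.val ∧
        ((∃ o ∈ octads, T ∪ y ⊆ o) ↔ True))}.ncard = nOf (2 * k.val + 1) := by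
    intro k hk
    have := ncard_general T hT k
    rw [if_neg (by omega)] at this
    rw [← this]
    congr 1
    ext y
    simp only [Set.mem_ofPred_eq, iff_true]
    constructor
    · rintro ⟨h1, h2, _⟩; exact ⟨h1, h2⟩
    · rintro ⟨h1, h2⟩; exact ⟨h1, h2, octad_of_meet T y hT h1 (by omega)⟩
  have heven : ∀ k : Fin 4, 1 ≤ k.val →
      {y : Finset GolayPt | y.card = 3 ∧ ((T ∩ y).card = k.val ∧
        ((∃ o ∈ octads, T ∪ y ⊆ o) ↔ False))}.ncard = 0 := by
    intro k hk
    have : {y : Finset GolayPt | y.card = 3 ∧ ((T ∩ y).card = k.val ∧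
        ((∃ o ∈ octads, T ∪ y ⊆ o) ↔ False))} = ∅ := by
      ext y
      simp only [Set.mem_ofPred_eq, iff_false, Set.mem_empty_iff_false]
      rintro ⟨h1, h2, h3⟩
      exact h3 (octad_of_meet T y hT h1 (by omega))
    rw [this, Set.ncard_empty]
  have hi := i.isLt
  have nOf_even : ∀ j : ℕ, j < 8 → j % 2 = 0 → 1 ≤ j / 2 → nOf j = 0 := by decide
  rcases Nat.mod_two_eq_zero_or_one i.val with hpar | hpar
  · -- even classes: not in an octad
    rcases Nat.eq_zero_or_pos (i.val / 2) with hk | hk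
    · have hi0 : i.val = 0 := by omega
      have := Cfsg.Agent.S1562.count_out T hT
      rw [hi0]
      show _ = 1120
      rw [← this]
      congr 1
      ext y
      simp only [Set.mem_ofPred_eq, Nat.zero_div, Nat.zero_mod, zero_ne_one, iff_false, disj_iff]
    · rw [nOf_even i.val hi hpar hk]
      have := heven ⟨i.val / 2, by omega⟩ hk
      rw [← this]
      congr 1
      ext y
      simp only [Set.mem_ofPred_eq, hpar, zero_ne_one]
  · -- odd classes: in an octad
    rcases Nat.eq_zero_or_pos (i.val / 2) with hk | hk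
    · have hi1 : i.val = 1 := by omega
      have := Cfsg.Agent.S1562.count_in T hT
      rw [hi1]
      show _ = 210
      rw [← this]
      congr 1
      ext y
      simp only [Set.mem_ofPred_eq, Nat.reduceDiv, Nat.reduceMod, iff_true, disj_iff]
    · have := hodd ⟨i.val / 2, by omega⟩ hk
      have hval : 2 * (i.val / 2) + 1 = i.val := by omega
      simp only [hval] at this
      rw [← this]
      congr 1
      ext y
      simp only [Set.mem_ofPred_eq, hpar]

set_option maxRecDepth 100000 in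
theorem arith : ∀ I : Finset (Fin 8), (7 : Fin 8) ∈ I → (∀ i ∈ I, nOf i ≠ 0) →
    (∑ i ∈ I, nOf i) ∣ 2024 → I = {7} ∨ ∀ i : Fin 8, nOf i ≠ 0 → i ∈ I := by decide +kernel

theorem cls_self (s : Finset GolayPt) (hs : s.card = 3) : cls s s = 7 := by
  rw [cls_eq_iff s s hs 7]
  refine ⟨by rw [Finset.inter_self, hs]; rfl, iff_of_true ?_ rfl⟩
  apply exists_octad_of_small
  rw [Finset.union_self, hs]
  norm_num

/-- The stabiliser of a set of three points (setwise) is a maximal proper subgroup of the group of the length-24 code. -/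
theorem result (s : Finset Cfsg.GolayPt) (hs : s.card = 3) : IsCoatom (MulAction.stabilizer Cfsg.M24 s) := by
  apply isCoatom_stabilizer_of_classes (G := M24) (X := Finset GolayPt) (ι := Fin 8) s
    {y : Finset GolayPt | y.card = 3} (Set.toFinite _) _ (cls s) _ (fun i => nOf i)
    (ncard_class s hs) _ _ _
  · intro y
    constructor
    · intro hy
      obtain ⟨a, b, c, hab, hac, hbc, hsabc⟩ := Finset.card_eq_three.mp hs
      obtain ⟨a', b', c', hab', hac', hbc', hyabc⟩ := Finset.card_eq_three.mp hy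
      obtain ⟨g, g1, g2, g3⟩ := three_trans a b c a' b' c' hab hac hbc hab' hac' hbc'
      exact ⟨g, by rw [hsabc, hyabc]; exact triple_smul g a b c a' b' c' g1 g2 g3⟩
    · rintro ⟨g, rfl⟩
      exact (card_smul' g s).trans hs
  · intro y hy y' hy' hc
    obtain ⟨h1, h2⟩ := (cls_eq_iff s y hs (cls s y')).mp hc
    obtain ⟨h1', h2'⟩ := (cls_eq_iff s y' hs (cls s y')).mp rfl
    obtain ⟨g, hgs, hgy⟩ := triple_homog s y y' hs hy hy' (h1.trans h1'.symm) (h2.trans h2'.symm)
    exact ⟨g, hgs, hgy⟩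
  · intro y hy hc
    obtain ⟨h1, _⟩ := (cls_eq_iff s y hs (cls s s)).mp hc
    rw [cls_self s hs] at h1
    have h3 : (s ∩ y).card = 3 := h1
    have e1 : s ∩ y = s :=
      Finset.eq_of_subset_of_card_le Finset.inter_subset_left (by rw [h3, hs])
    have e2 : s ∩ y = y :=
      Finset.eq_of_subset_of_card_le Finset.inter_subset_right (by rw [h3]; exact le_of_eq hy)
    exact e2.symm.trans e1
  · have h5 := ncard_class s hs 5
    have hne : {y : Finset GolayPt | y ∈ {y : Finset GolayPt | y.card = 3} ∧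
        cls s y = 5}.Nonempty := by
      apply Set.nonempty_of_ncard_ne_zero
      rw [h5]; decide
    obtain ⟨y, hy, hc⟩ := hne
    refine ⟨y, hy, ?_⟩
    rintro rfl
    rw [cls_self y hs] at hc
    exact absurd hc (by decide)
  · intro I hI hnz hdvd
    rw [cls_self s hs] at hI ⊢
    rw [ncard_triples] at hdvd
    exact arith I hI hnz hdvd

end Cfsg.Agent.S1564
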