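import Cfsg.Statements.S1556
import Cfsg.Agent.Lib.Helper12.Golay.Homog

set_option autoImplicit false
open scoped Pointwise
open Cfsg

namespace Cfsg.Agent.S1556

open Cfsg.Agent.Lib.Helper12.Golay

/-- Inverse tables of two generators of the stabiliser of the standard octad. -/
def stabGens : List (List ℕ) := [[3,4,0,7,2,17,8,12,23,13,10,20,1,18,9,22,14,5,19,6,21,15,16,11],
  [0,12,1,4,2,14,15,3,13,16,7,18,10,17,5,8,19,11,9,21,6,23,20,22]]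

/-- The stabiliser of the standard octad in the group of the code. -/
def H₀ : Subgroup (Equiv.Perm GolayPt) :=
  M24 ⊓ MulAction.stabilizer (Equiv.Perm GolayPt) (fs o₀)

theorem stabGens_ok : ∀ T ∈ stabGens, ValidT T ∧ permT T ∈ H₀ := by
  have h : ∀ T ∈ stabGens, okK T = true ∧ actK T o₀ = o₀ := by decide +kernel
  intro T hT
  obtain ⟨h1, h2⟩ := h T hT
  exact ⟨okK_valid h1, permT_mem_M24' h1, permT_mem_stabilizer_fs (okK_valid h1) (by decide) h2⟩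

/-- Representative of the octads meeting the standard octad in 8 points (1 octads). -/
def rep8 : ℕ := 5279

/-- Instructions enumerating the octads meeting the standard octad in 8 points. -/
def ins8 : List ℕ := []

/-- Representative of the octads meeting the standard octad in 4 points (280 octads). -/
def rep4 : ℕ := 10558

/-- Instructions enumerating the octads meeting the standard octad in 4 points. -/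
def ins4 : List ℕ := [1,1,1,1,1,1,1,0,2,1,0,2,0,0,0,2,2,1,1,0,0,0,0,0,2,1,1,1,1,0,0,2,2,0,0,0,2,1,2,2,
  0,0,0,0,0,2,1,1,1,0,2,0,0,2,1,0,0,0,2,2,0,0,0,0,0,2,1,2,2,1,2,0,0,0,0,0,2,2,1,0,
  2,1,1,0,2,0,0,2,0,0,0,0,0,0,2,1,2,1,1,1,0,2,2,1,0,0,0,0,2,1,0,0,0,2,1,1,0,0,2,1,
  2,1,0,0,0,0,0,0,0,2,1,1,1,0,0,2,1,2,0,0,0,0,2,1,1,0,2,0,0,2,2,2,0,0,0,0,0,0,0,2,
  1,1,1,1,1,2,1,0,2,0,0,0,2,1,2,0,0,0,0,2,1,0,2,0,0,0,2,1,1,2,1,0,0,0,2,2,2,0,0,0,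
  0,2,1,2,1,0,0,0,2,1,2,0,0,0,0,0,0,2,1,1,2,2,0,0,0,2,1,1,2,1,0,0,0,0,2,1,0,2,0,0,
  0,0,2,2,1,1,1,0,0,2,1,1,0,0,0,0,2,0,0,0,0,0,2,1,1,1,2,2,0,0,0,2,1,0,2,0,0,0,2,1,
  1,0,2,2,1,0,2,0,0,0,0,2,2,1,2,0,0,0,0,0,0,2,1,1,1,1,2,0,0,2,0,0,0,2,0,0,2,2,1,0,
  2,1,2,0,0,0,0,0,0,0,0,0,2,1,1,1,1,1,1,1,0,0,2,1,0,0,0,2,1,2,0,0,0,0,2,1,2,2,0,0,
  0,2,2,2,0,0,0,0,0,2,1,1,1,2,0,0,0,0,2,2,0,0,0,0,2,1,2,1,1,1,0,0,0,2,2,1,0,0,0,0,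
  0,2,1,2,1,2,1,0,0,0,2,1,0,0,0,0,0,0,0,2,1,1,1,1,1,1,0,0,2,1,1,0,0,0,0,2,1,0,2,2,
  0,0,0,0,2,1,1,1,2,0,0,2,0,0,2,1,0,2,0,0,0,0,0,2,1,1,2,1,0,2,0,0,0,2,1,1,0,2,0,0,
  0,0,2,0,0,0,2,1,1,1,2,1,2,0,0,0,0,2,1,0,0,0,2,2,1,1,0,2,2,0,0,0,0,0,0,2,1,1,2,0,
  0,2,1,2,0,0,2,1,0,0,0,0,2,1,1,2,0,0,2,0,0,2,1,1,1,0,0,0,2,1]

/-- Representative of the octads meeting the standard octad in 2 points (448 octads). -/
def rep2 : ℕ := 31554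

/-- Instructions enumerating the octads meeting the standard octad in 2 points. -/
def ins2 : List ℕ := [1,1,1,1,1,1,1,1,1,2,0,0,2,1,0,0,0,2,2,1,0,2,0,0,0,0,0,2,1,1,1,0,2,0,0,2,1,0,2,0,
  0,0,2,2,1,0,2,1,0,0,0,0,0,0,2,1,1,2,0,0,2,1,1,2,1,0,0,0,2,2,2,0,0,0,0,0,0,0,0,2,
  1,2,1,1,0,0,2,1,0,2,1,1,0,2,0,0,0,0,0,0,2,1,1,1,2,0,0,2,1,2,0,0,2,0,0,0,2,1,0,2,
  0,0,0,2,2,0,0,0,0,0,2,1,1,1,1,2,1,1,0,0,0,0,2,1,1,0,2,0,0,0,0,2,1,1,1,1,0,0,0,0,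
  2,1,1,2,0,0,2,2,0,0,0,0,0,0,2,1,1,1,1,0,0,0,2,1,2,2,0,0,0,2,2,1,0,0,0,0,0,2,1,0,
  2,1,2,0,0,2,1,1,0,0,0,0,0,0,0,2,1,1,1,1,1,0,0,2,0,0,0,2,1,1,0,2,0,0,2,1,2,0,0,2,
  2,2,0,0,0,0,0,0,2,1,1,1,0,2,1,2,0,0,0,0,2,0,0,2,1,1,2,1,0,0,0,2,2,0,0,0,2,0,0,0,
  0,0,0,2,1,2,1,1,1,2,2,0,0,0,0,2,1,1,2,2,0,0,0,2,1,1,0,0,0,0,2,1,0,0,0,0,2,1,1,1,
  1,0,0,2,1,0,0,0,2,1,1,0,0,2,1,0,0,0,0,2,1,2,1,0,0,0,2,1,0,2,1,0,0,0,0,0,0,0,2,1,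
  1,2,1,1,2,0,0,2,1,0,0,0,2,1,1,1,0,0,2,1,0,0,0,2,2,0,0,0,0,0,2,1,1,1,0,2,1,1,0,2,
  0,0,0,0,2,1,1,0,0,2,1,2,0,0,2,1,0,2,0,0,0,0,0,2,1,1,1,0,0,2,1,0,2,0,0,0,2,1,2,0,
  0,2,2,0,0,0,0,0,0,2,2,1,2,2,1,0,2,0,0,0,0,2,1,1,1,0,0,2,1,0,0,0,2,1,0,0,0,0,0,0,
  0,0,2,1,1,1,1,1,1,1,2,0,0,0,0,2,1,1,1,1,0,0,0,2,0,0,2,1,2,1,0,0,0,2,2,0,0,0,0,0,
  2,1,1,1,0,0,2,1,0,0,0,2,1,1,0,0,2,1,1,0,0,2,1,0,2,0,0,0,0,0,0,2,1,1,0,2,1,0,2,1,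
  0,0,0,0,2,1,1,2,2,2,0,0,0,0,0,2,2,2,2,0,0,0,0,0,0,0,2,1,1,1,1,2,2,0,0,0,2,1,2,1,
  1,0,0,0,0,2,0,0,0,2,2,1,2,2,0,0,0,0,0,0,2,1,1,0,2,1,1,1,0,2,0,0,2,0,0,0,0,2,2,1,
  0,2,0,0,0,0,0,2,1,1,1,1,1,0,0,2,0,0,2,1,0,0,0,2,1,1,2,0,0,2,2,0,0,0,2,1,1,1,0,0,
  2,0,0,0,0,0,2,2,1,1,0,2,0,0,0,0,0,0,0,2,1,1,1,1,1,2,0,0,2,1,0,0,0,2,1,0,2,1,0,0,
  0,0,2,1,1,2,0,0,2,1,0,2,0,0,0,2,1,1,2,0,0,2,0,0,2,0,0,0,0,2,1,1,1,2,1,0,0,0,2,1,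
  0,2,1,2,0,0,0,0,0,2,1,2,1,0,2,0,0,0,2,1,1,0,2,0,0,0,0,0,2,1,1,1,0,2,1,0,2,0,0,0,
  2,2,0,0,0,0,0,0,2,1,1,0,2,1,1,1,0,2,2,0,0,0,2,1,1,0,0,0,0,2,1,1,2,0,0,2,2,0,0,0,
  0,0,0,2,1,1,2,0,0,2,1,1,0,2,1,0,0,0,2,1,0,2,0,0,0,0,2,1,1,1,1,0,2,1,0,0,0,2,2,0,
  0,0,0,2,2,2]

/-- Representative of the octads meeting the standard octad in 0 points (30 octads). -/
def rep0 : ℕ := 1009728

/-- Instructions enumerating the octads meeting the standard octad in 0 points. -/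
def ins0 : List ℕ := [1,1,1,1,1,1,0,0,0,2,0,0,2,1,2,1,0,0,0,2,1,1,0,0,2,0,0,0,0,2,1,1,1,0,2,0,0,2,0,0,
  2,0,0,0,2,1,1,1,2,0,0,0,2,2]

theorem check8 : complK 8 (fun m => Nat.beq (popcF (Nat.land o₀ m)) 8)
    (keysetK (orbK stabGens ins8 rep8) 0) = true := by decide +kernel

theorem class8 (S : Finset GolayPt) (hS : S ∈ octads) (hc : (fs o₀ ∩ S).card = 8) :
    ∃ g ∈ H₀, g • fs rep8 = S :=
  orbit_complete H₀ inf_le_left stabGens stabGens_ok ins8 rep8 (by decide) (by decide +kernel) 8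
    _ check8 S hS (by rw [card_fs_inter (by decide)] at hc; exact natBeq_iff.mpr hc)

theorem check4 : complK 8 (fun m => Nat.beq (popcF (Nat.land o₀ m)) 4)
    (keysetK (orbK stabGens ins4 rep4) 0) = true := by decide +kernel

theorem class4 (S : Finset GolayPt) (hS : S ∈ octads) (hc : (fs o₀ ∩ S).card = 4) :
    ∃ g ∈ H₀, g • fs rep4 = S :=
  orbit_complete H₀ inf_le_left stabGens stabGens_ok ins4 rep4 (by decide) (by decide +kernel) 8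
    _ check4 S hS (by rw [card_fs_inter (by decide)] at hc; exact natBeq_iff.mpr hc)

theorem check2 : complK 8 (fun m => Nat.beq (popcF (Nat.land o₀ m)) 2)
    (keysetK (orbK stabGens ins2 rep2) 0) = true := by decide +kernel

theorem class2 (S : Finset GolayPt) (hS : S ∈ octads) (hc : (fs o₀ ∩ S).card = 2) :
    ∃ g ∈ H₀, g • fs rep2 = S :=
  orbit_complete H₀ inf_le_left stabGens stabGens_ok ins2 rep2 (by decide) (by decide +kernel) 8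
    _ check2 S hS (by rw [card_fs_inter (by decide)] at hc; exact natBeq_iff.mpr hc)

theorem check0 : complK 8 (fun m => Nat.beq (popcF (Nat.land o₀ m)) 0)
    (keysetK (orbK stabGens ins0 rep0) 0) = true := by decide +kernel

theorem class0 (S : Finset GolayPt) (hS : S ∈ octads) (hc : (fs o₀ ∩ S).card = 0) :
    ∃ g ∈ H₀, g • fs rep0 = S :=
  orbit_complete H₀ inf_le_left stabGens stabGens_ok ins0 rep0 (by decide) (by decide +kernel) 8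
    _ check0 S hS (by rw [card_fs_inter (by decide)] at hc; exact natBeq_iff.mpr hc)

theorem inter_cases : allK 4096 (fun u => !(Nat.beq (popcF (encF u)) 8) ||
    (Nat.beq (popcF (Nat.land o₀ (encF u))) 8 || Nat.beq (popcF (Nat.land o₀ (encF u))) 4 ||
     Nat.beq (popcF (Nat.land o₀ (encF u))) 2 || Nat.beq (popcF (Nat.land o₀ (encF u))) 0)) = true := by
  decide +kernel

theorem inter_card (S : Finset GolayPt) (hS : S ∈ octads) :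
    (fs o₀ ∩ S).card = 8 ∨ (fs o₀ ∩ S).card = 4 ∨ (fs o₀ ∩ S).card = 2 ∨ (fs o₀ ∩ S).card = 0 := by
  rw [card_fs_inter (by decide)]
  obtain ⟨hc, hw⟩ := (mem_octads_iff S).mp hS
  obtain ⟨u, hu, hue⟩ := isCode_iff.mp hc
  have h := allK_spec inter_cases u hu
  rw [encF_eq hu, hue, popcF_eq (mask_lt S), hw] at h
  simpa [Nat.beq_refl, natBeq_iff, or_assoc] using h

/-- The representative attached to an intersection size. -/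
def rep (c : ℕ) : Finset GolayPt :=
  if c = 8 then fs rep8 else if c = 4 then fs rep4 else if c = 2 then fs rep2 else fs rep0

theorem base (b : Finset GolayPt) (hb : b ∈ octads) :
    ∃ g : H₀, g • rep ((fs o₀ ∩ b).card) = b := by
  rcases inter_card b hb with h | h | h | h
  · obtain ⟨g, hg, hgb⟩ := class8 b hb h
    exact ⟨⟨g, hg⟩, by rw [h]; exact hgb⟩
  · obtain ⟨g, hg, hgb⟩ := class4 b hb h
    exact ⟨⟨g, hg⟩, by rw [h]; exact hgb⟩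
  · obtain ⟨g, hg, hgb⟩ := class2 b hb h
    exact ⟨⟨g, hg⟩, by rw [h]; exact hgb⟩
  · obtain ⟨g, hg, hgb⟩ := class0 b hb h
    exact ⟨⟨g, hg⟩, by rw [h]; exact hgb⟩

/-- Two octads meeting a fixed octad in equally many points are in the same orbit of its stabiliser. -/
theorem result (o o' o'' : Finset Cfsg.GolayPt) (ho : o ∈ Cfsg.octads) (ho' : o' ∈ Cfsg.octads) (ho'' : o'' ∈ Cfsg.octads) (h : (o ∩ o').card = (o ∩ o'').card) : ∃ g : Equiv.Perm Cfsg.GolayPt, g ∈ Cfsg.M24 ∧ g • o = o ∧ g • o' = o'' := by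
  have key := homogeneous_of_base (G := M24) (A := Finset GolayPt) (B := Finset GolayPt)
    (fs o₀) octads (fun g b hb => smul_mem_octads g.2 hb) (fun a b => (a ∩ b).card)
    (fun g a b => card_smul_inter (g : Equiv.Perm GolayPt) a b)
    (by
      intro b hb b' hb' hbb'
      obtain ⟨g, hg⟩ := conj_of_reps (G := H₀) octads (fun b => (fs o₀ ∩ b).card) rep base b b' hb hb' hbb'
      exact ⟨⟨g.1, g.2.1⟩, g.2.2, hg⟩)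
    o (by obtain ⟨g, hg, hgo⟩ := octads_transitive o ho; exact ⟨⟨g, hg⟩, hgo⟩) o' o'' ho' ho'' h
  obtain ⟨g, hg1, hg2⟩ := key
  exact ⟨g.1, g.2, hg1, hg2⟩

end Cfsg.Agent.S1556
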