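import Cfsg.Statements.S1565
import Cfsg.Agent.Lib.Helper12.Golay.Count
import Cfsg.Agent.Lib.Helper12.Maximal
import Cfsg.Agent.S1556

set_option autoImplicit false
open scoped Pointwise
open Cfsg

namespace Cfsg.Agent.S1565

open Cfsg.Agent.Lib.Helper12 Cfsg.Agent.Lib.Helper12.Golay

/-- The number of octads meeting the standard octad in `k` points. -/
def nOf (k : ℕ) : ℕ := if k = 8 then 1 else if k = 4 then 280 else if k = 2 then 448 else
  if k = 0 then 30 else 0

theorem count_base : ∀ k : Fin 9, countK 4096 (fun u => Nat.beq (popcF (encF u)) 8 &&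
    Nat.beq (popcF (Nat.land o₀ (encF u))) k) = nOf k := by decide +kernel

theorem ncard_base (k : Fin 9) :
    {y : Finset GolayPt | y ∈ octads ∧ (fs o₀ ∩ y).card = k}.ncard = nOf k := by
  rw [← count_base k]
  apply ncard_wordsOfWeightK 8 (fun s => (fs o₀ ∩ s).card = k)
    (fun m => Nat.beq (popcF (Nat.land o₀ m)) k)
  intro m hm
  rw [card_fs_inter (by decide), mask_fs hm, natBeq_iff]

theorem ncard_general (o : Finset GolayPt) (ho : o ∈ octads) (k : Fin 9) :
    {y : Finset GolayPt | y ∈ octads ∧ (o ∩ y).card = k}.ncard = nOf k := by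
  obtain ⟨g, hg, rfl⟩ := octads_transitive o ho
  rw [← ncard_base k]
  exact ncard_invariant (G := M24) (A := Finset GolayPt) (B := Finset GolayPt) octads
    (fun g b hb => smul_mem_octads g.2 hb) (fun a b => (a ∩ b).card)
    (fun g a b => card_smul_inter (g : Equiv.Perm GolayPt) a b) (fun n => n = k) ⟨g, hg⟩ (fs o₀)

theorem ncard_octads : octads.ncard = 759 := by
  have h : countK 4096 (fun u => Nat.beq (popcF (encF u)) 8 && true) = 759 := by decide +kernel
  rw [← h]
  have := ncard_wordsOfWeightK 8 (fun _ => True) (fun _ => true) (fun _ _ => by simp)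
  simp only [and_true] at this
  exact this

set_option maxRecDepth 100000 in
theorem arith : ∀ I : Finset (Fin 9), (8 : Fin 9) ∈ I → (∀ i ∈ I, nOf i ≠ 0) →
    (∑ i ∈ I, nOf i) ∣ 759 → I = {8} ∨ ∀ i : Fin 9, nOf i ≠ 0 → i ∈ I := by decide +kernel

theorem inter_le (o y : Finset GolayPt) (ho : o ∈ octads) : (o ∩ y).card < 9 := by
  have h1 : (o ∩ y).card ≤ o.card := Finset.card_le_card Finset.inter_subset_left
  have h2 : o.card = 8 := ho.2
  omega

/-- The stabiliser of an octad is a maximal proper subgroup of the group of the length-24 code. -/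
theorem result (o : Finset Cfsg.GolayPt) (ho : o ∈ Cfsg.octads) : IsCoatom (MulAction.stabilizer Cfsg.M24 o) := by
  have hcard8 : (o ∩ o).card = 8 := by rw [Finset.inter_self]; exact ho.2
  apply isCoatom_stabilizer_of_classes (G := M24) (X := Finset GolayPt) (ι := Fin 9) o octads
    (Set.toFinite _) _ (fun y => (⟨(o ∩ y).card % 9, Nat.mod_lt _ (by norm_num)⟩ : Fin 9)) _
    (fun i => nOf i) _ _ _ _
  · -- transitivity
    intro y
    constructor
    · intro hy
      obtain ⟨a, ha, hao⟩ := octads_transitive o ho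
      obtain ⟨b, hb, hby⟩ := octads_transitive y hy
      refine ⟨⟨b, hb⟩ * ⟨a, ha⟩⁻¹, ?_⟩
      rw [mul_smul]
      show (⟨b, hb⟩ : M24) • ((⟨a, ha⟩ : M24)⁻¹ • o) = y
      have : ((⟨a, ha⟩ : M24)⁻¹ • o) = fs o₀ := by
        rw [inv_smul_eq_iff]; exact hao.symm
      rw [this]; exact hby
    · rintro ⟨g, rfl⟩
      exact smul_mem_octads g.2 ho
  · -- homogeneity
    intro y hy y' hy' hc
    have hc' : (o ∩ y).card = (o ∩ y').card := by
      have := congrArg Fin.val hc
      simp only at this
      rw [Nat.mod_eq_of_lt (inter_le o y ho), Nat.mod_eq_of_lt (inter_le o y' ho)] at this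
      exact this
    obtain ⟨g, hg, hgo, hgy⟩ := Cfsg.Agent.S1556.result o y y' ho hy hy' hc'
    exact ⟨⟨g, hg⟩, hgo, hgy⟩
  · -- counts
    intro i
    rw [← ncard_general o ho i]
    congr 1
    ext y
    simp only [Set.mem_ofPred_eq]
    constructor
    · rintro ⟨hy, hc⟩
      refine ⟨hy, ?_⟩
      have := congrArg Fin.val hc
      simp only at this
      rw [Nat.mod_eq_of_lt (inter_le o y ho)] at this
      exact this
    · rintro ⟨hy, hc⟩
      refine ⟨hy, Fin.ext ?_⟩
      simp only
      rw [Nat.mod_eq_of_lt (inter_le o y ho)]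
      exact hc
  · -- the class of o is {o}
    intro y hy hc
    have := congrArg Fin.val hc
    simp only at this
    rw [Nat.mod_eq_of_lt (inter_le o y ho), Nat.mod_eq_of_lt (inter_le o o ho), hcard8] at this
    have h1 : o ∩ y = o :=
      Finset.eq_of_subset_of_card_le Finset.inter_subset_left (by rw [this, ho.2])
    have h2 : o ∩ y = y :=
      Finset.eq_of_subset_of_card_le Finset.inter_subset_right (by rw [this, hy.2])
    exact h2.symm.trans h1
  · -- there is another octad
    have h4 := ncard_general o ho 4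
    have hne : {y : Finset GolayPt | y ∈ octads ∧ (o ∩ y).card = ((4 : Fin 9) : ℕ)}.Nonempty := by
      apply Set.nonempty_of_ncard_ne_zero
      rw [h4]; decide
    obtain ⟨y, hy, hc⟩ := hne
    refine ⟨y, hy, ?_⟩
    rintro rfl
    rw [hcard8] at hc
    exact absurd hc (by decide)
  · -- arithmetic
    intro I hI hnz hdvd
    have h8 : (⟨(o ∩ o).card % 9, Nat.mod_lt _ (by norm_num)⟩ : Fin 9) = 8 := by
      apply Fin.ext
      simp only
      rw [hcard8]; rfl
    rw [h8] at hI ⊢
    rw [ncard_octads] at hdvd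
    exact arith I hI hnz hdvd

end Cfsg.Agent.S1565
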