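import Cfsg.Statements.S4422

set_option autoImplicit false
open Cfsg

namespace Cfsg.Agent.S4422

theorem prime_case (q e p : ℕ) (hq : 2 ≤ q) (he : 1 ≤ e) (hp : p.Prime)
    (hm : p ∣ q ^ e - 1) (hcop : ∀ i : ℕ, 1 ≤ i → i < e → ¬ p ∣ q ^ i - 1) :
    p % e = 1 % e := by
  have : Fact p.Prime := ⟨hp⟩
  have hpow : ∀ d : ℕ, (p ∣ q ^ d - 1 ↔ (q : ZMod p) ^ d = 1) := by
    intro d
    have h1 : 1 ≤ q ^ d := Nat.one_le_pow _ _ (by omega)
    rw [← ZMod.natCast_eq_zero_iff, Nat.cast_sub h1, Nat.cast_pow, Nat.cast_one, sub_eq_zero]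
  have hqe : (q : ZMod p) ^ e = 1 := (hpow e).mp hm
  have hd : orderOf (q : ZMod p) ∣ e := orderOf_dvd_of_pow_eq_one hqe
  have hdpos : 0 < orderOf (q : ZMod p) := Nat.pos_of_dvd_of_pos hd (by omega)
  have hde : orderOf (q : ZMod p) = e := by
    by_contra hne
    have hlt : orderOf (q : ZMod p) < e := lt_of_le_of_ne (Nat.le_of_dvd (by omega) hd) hne
    exact hcop _ hdpos hlt ((hpow _).mpr (pow_orderOf_eq_one _))
  have hq0 : (q : ZMod p) ≠ 0 := by
    intro h0
    rw [h0, zero_pow (by omega)] at hqe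
    exact zero_ne_one hqe
  have hfermat : (q : ZMod p) ^ (p - 1) = 1 := ZMod.pow_card_sub_one_eq_one hq0
  have hdvd : e ∣ p - 1 := hde ▸ orderOf_dvd_of_pow_eq_one hfermat
  obtain ⟨k, hk⟩ := hdvd
  have hp1 : 1 ≤ p := hp.one_lt.le
  have : p = e * k + 1 := by omega
  rw [this, Nat.add_mod, Nat.mul_mod_right, zero_add, Nat.mod_mod]

theorem result (q e m : ℕ) (hq : 2 ≤ q) (he : 1 ≤ e)
    (hm : m ∣ q ^ e - 1) (hcop : ∀ i : ℕ, 1 ≤ i → i < e → Nat.Coprime m (q ^ i - 1)) :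
    m % e = 1 % e := by
  have hpos : 0 < q ^ e - 1 := by
    have : 2 ^ 1 ≤ q ^ e := by
      calc 2 ^ 1 ≤ q ^ 1 := by simpa using hq
        _ ≤ q ^ e := Nat.pow_le_pow_right (by omega) he
    omega
  have hm0 : m ≠ 0 := by
    rintro rfl
    simp at hm
    omega
  have key : ∀ n : ℕ, n ≠ 0 → n ∣ m → n % e = 1 % e := by
    intro n
    induction n using Nat.recOnMul with
    | zero => intro h; exact absurd rfl h
    | one => intro _ _; rfl
    | prime p hp =>
      intro _ hpm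
      apply prime_case q e p hq he hp (hpm.trans hm)
      intro i hi1 hie hpi
      have := hcop i hi1 hie
      have h1 : p ∣ Nat.gcd m (q ^ i - 1) := Nat.dvd_gcd hpm hpi
      rw [this] at h1
      exact hp.one_lt.ne' (Nat.dvd_one.mp h1)
    | mul a b ha hb =>
      intro hab habm
      have ha0 : a ≠ 0 := fun h => hab (by simp [h])
      have hb0 : b ≠ 0 := fun h => hab (by simp [h])
      have h1 := ha ha0 ((Dvd.intro _ rfl).trans habm)
      have h2 := hb hb0 ((Dvd.intro_left _ rfl).trans habm)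
      rw [Nat.mul_mod, h1, h2, ← Nat.mul_mod]
  exact key m hm0 dvd_rfl

end Cfsg.Agent.S4422
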