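import Cfsg.Statements.S3589
import Cfsg.Agent.Lib.Helper19.SO8.Defs
import Cfsg.Agent.Lib.helper2.SO8A1
import Cfsg.Agent.Lib.Helper22.SO8A2
import Cfsg.Agent.Lib.Helper20.SO8B
import Cfsg.Agent.Lib.helper8.SO8STRUCT
import Cfsg.Agent.Lib.Helper25.SO8UPPERcore
import Cfsg.Agent.Lib.Helper16.SO8SUM
import Cfsg.Agent.Lib.helper15.SO8XFER
import Cfsg.Agent.Lib.helper15.SO8SPLUS
import Cfsg.Agent.Lib.helper6.SO8SMINUS
import Cfsg.Agent.Lib.helper7.SO8IPLUS
import Cfsg.Agent.Lib.helper7.SO8IMINUS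
import Cfsg.Agent.Lib.Helper28.SO8U4
import Cfsg.Agent.Lib.Helper28.SO8U8M
import Cfsg.Agent.Lib.helper23.SO8U8P
import Cfsg.Agent.Lib.helper23.SO8ASMcore
import Cfsg.Agent.Lib.helper4.OTSSTDP

set_option autoImplicit false
open Cfsg

namespace Cfsg.Agent.S3589

open Cfsg.Agent.Lib.Helper19.SO8 Cfsg.Agent.Lib.Helper13.OTS

/-- Let F be a finite field of characteristic 2 and let a, b ∈ F make the binary form z₁² + a z₁z₂ + b z₂² anisotropic. Then the symplectic group PSp(8,F) (= Sp(8,F)) and the full isometry group of the non-singular quadratic form x₁y₁ + x₂y₂ + x₃y₃ + (z₁² + a z₁z₂ + b z₂²) of minus type in dimension 8 have the same set of element orders. -/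
theorem result {F : Type*} [Field F] [Fintype F]
    [CharP F 2] (a b : F) (han : ∀ z₁ z₂ : F, z₁ ^ 2 + a * z₁ * z₂ + b * z₂ ^ 2 = 0 → z₁ = 0 ∧ z₂ = 0) :
    Set.range (orderOf : Cfsg.PSp 4 F → ℕ) = Set.range (orderOf : ↥(Cfsg.isometryGroup F (Cfsg.quadFormMinus 3 F a b)) → ℕ) := by
  classical
  rw [psp_range 4 (by norm_num)]
  obtain ⟨ha, c, hc⟩ := aniso_facts a b han
  obtain ⟨φ, hφ⟩ := o_embed 3 a b ha
  apply Set.Subset.antisymm
  · rintro _ ⟨x, rfl⟩
    obtain ⟨N, hN, hdvd⟩ := so8upper_core sr_struct x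
    have hR : OReal F 4 (-1) N :=
      so8asm_core oreal_sum oreal_splus (fun n hn => oreal_sminus n hn c hc) oreal_iplus
        (oreal_iminus c hc) oreal_u4 (oreal_u8m c hc) oreal_u8p N hN
    obtain ⟨g, hg⟩ : ∃ g : ↥(Cfsg.isometryGroup F (Cfsg.quadFormMinus 3 F a b)), orderOf g = N :=
      oreal_xfer (Cfsg.Agent.Lib.Helper16.qfMinus 3 F a b) 4 (-1) (otsstdp_minus 3 a b han) N hR
    obtain ⟨k, hk⟩ := hdvd
    have hNpos : 0 < N := by rw [← hg]; exact orderOf_pos g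
    have hk0 : k ≠ 0 := by
      rintro rfl
      rw [mul_zero] at hk
      omega
    refine ⟨g ^ k, ?_⟩
    show orderOf (g ^ k) = orderOf x
    rw [orderOf_pow_of_dvd hk0 (by rw [hg, hk]; exact dvd_mul_left k _), hg, hk,
      Nat.mul_div_cancel _ (Nat.pos_of_ne_zero hk0)]
  · rintro _ ⟨g, rfl⟩
    exact ⟨φ g, orderOf_injective φ hφ g⟩

end Cfsg.Agent.S3589
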