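import Cfsg.Statements.S0976
import Cfsg.Agent.Lib.Helper1.Ord4032.Basic
import Cfsg.Agent.Lib.Helper1.Ord4032.Case36
import Cfsg.Agent.Lib.Helper1.Ord4032.Case64d
import Cfsg.Agent.Lib.Helper1.Ord4032.Case288

set_option autoImplicit false
open Cfsg

namespace Cfsg.Agent.S0976

/-- No finite simple group has order 4032 = 2^6 * 3^2 * 7. -/
theorem result {G : Type*} [Group G] [Finite G] [IsSimpleGroup G] : Nat.card G ≠ 4032 := by
  intro hG
  haveI : Fact (Nat.Prime 7) := ⟨by norm_num⟩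
  rcases Cfsg.Agent.Lib.Helper1.O4032.n7_mem hG with h | h | h | h
  · exact Cfsg.Agent.Lib.Helper1.O4032.case8 hG h
  · exact Cfsg.Agent.Lib.Helper1.O4032.case36 hG h
  · exact Cfsg.Agent.Lib.Helper1.O4032.case64 hG h
  · exact Cfsg.Agent.Lib.Helper1.O4032.case288 hG h

end Cfsg.Agent.S0976
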