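import Mathlib
import Cfsg.Statements.S0357
import Cfsg.Agent.Lib.helper3.Steiner

set_option autoImplicit false
open Cfsg

namespace Cfsg.Agent.S0357

/-- In a Steiner system S(5, 6, 12), the complement of every block is again a block. -/
theorem result {α : Type*} [Fintype α] [DecidableEq α] (hα : Fintype.card α = 12) {B : Set (Finset α)} (hB : Cfsg.IsSteinerSystem 5 6 B) {b : Finset α} (hb : b ∈ B) : bᶜ ∈ B := by
  open Cfsg.Agent.Lib.helper3 in
  have e0 := steiner_inter_eq hB hb 0 (by norm_num)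
  open Cfsg.Agent.Lib.helper3 in
  have e1 := steiner_inter_eq hB hb 1 (by norm_num)
  open Cfsg.Agent.Lib.helper3 in
  have e2 := steiner_inter_eq hB hb 2 (by norm_num)
  open Cfsg.Agent.Lib.helper3 in
  have e3 := steiner_inter_eq hB hb 3 (by norm_num)
  open Cfsg.Agent.Lib.helper3 in
  have e4 := steiner_inter_eq hB hb 4 (by norm_num)
  open Cfsg.Agent.Lib.helper3 in
  have e5 := steiner_inter_eq hB hb 5 (by norm_num)
  open Cfsg.Agent.Lib.helper3 in
  have s6 := interCount_self hB hb (by norm_num)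
  simp only [Finset.sum_range_succ, Finset.sum_range_zero, hα, s6] at e0 e1 e2 e3 e4 e5
  norm_num [Nat.choose] at e0 e1 e2 e3 e4 e5
  have h0 : Cfsg.Agent.Lib.helper3.interCount B b 0 = 1 := by omega
  unfold Cfsg.Agent.Lib.helper3.interCount at h0
  rw [Finset.card_eq_one] at h0
  obtain ⟨c, hc⟩ := h0
  have hcm : c ∈ (Cfsg.Agent.Lib.helper3.blocks B).filter (fun c => (b ∩ c).card = 0) := by
    rw [hc]; exact Finset.mem_singleton_self c
  rw [Finset.mem_filter, Cfsg.Agent.Lib.helper3.mem_blocks, Finset.card_eq_zero,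
    ← Finset.disjoint_iff_inter_eq_empty] at hcm
  obtain ⟨hcB, hdisj⟩ := hcm
  have hsub : c ⊆ bᶜ := by
    intro x hx
    rw [Finset.mem_compl]
    intro hxb
    exact (Finset.disjoint_left.1 hdisj) hxb hx
  have hcard : bᶜ.card ≤ c.card := by
    rw [Finset.card_compl, hα, hB.1 b hb, hB.1 c hcB]
  have := Finset.eq_of_subset_of_card_le hsub hcard
  rw [← this]
  exact hcB

end Cfsg.Agent.S0357
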