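import Cfsg.Statements.S1246
import Cfsg.Agent.S1265
import Cfsg.Agent.Lib.Helper9.FStarP
import Cfsg.Agent.Lib.Helper9.SylowConj
import Cfsg.Agent.Lib.Lead.Coprime

set_option autoImplicit false
open Cfsg

namespace Cfsg.Agent.S1246

open Cfsg.Agent.Lib.Helper9

theorem normalizer_le_normalizer_centralizer' {G : Type*} [Group G] (V : Subgroup G) :
    Subgroup.normalizer (V : Set G) ≤
      Subgroup.normalizer ((Subgroup.centralizer (V : Set G) : Subgroup G) : Set G) := by
  intro g hg
  rw [Subgroup.mem_normalizer_iff]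
  intro c
  rw [Subgroup.mem_normalizer_iff] at hg
  constructor
  · intro hc
    rw [Subgroup.mem_centralizer_iff] at hc ⊢
    intro v hv
    have hv' : g⁻¹ * v * g ∈ V := by
      have := (hg (g⁻¹ * v * g)).2 (by
        have e : g * (g⁻¹ * v * g) * g⁻¹ = v := by group
        rw [e]; exact hv)
      exact this
    have h1 := hc _ hv'
    calc v * (g * c * g⁻¹) = g * ((g⁻¹ * v * g) * c) * g⁻¹ := by group
      _ = g * (c * (g⁻¹ * v * g)) * g⁻¹ := by rw [h1]
      _ = g * c * g⁻¹ * v := by group
  · intro hc
    rw [Subgroup.mem_centralizer_iff] at hc ⊢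
    intro v hv
    have hv' : g * v * g⁻¹ ∈ V := (hg v).1 hv
    have h1 := hc _ hv'
    have h2 : g * (v * c) * g⁻¹ = g * (c * v) * g⁻¹ := by
      calc g * (v * c) * g⁻¹ = (g * v * g⁻¹) * (g * c * g⁻¹) := by group
        _ = (g * c * g⁻¹) * (g * v * g⁻¹) := h1
        _ = g * (c * v) * g⁻¹ := by group
    have h3 := mul_left_cancel (mul_right_cancel h2)
    exact h3

theorem normal_case {G : Type*} [Group G] [Finite G] {p : ℕ} [Fact p.Prime] (U V : Subgroup G)
    (hVU : V ≤ U) (hUV : U ≤ Subgroup.normalizer (V : Set G)) (hU : IsPGroup p U)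
    (hV : IsPGroup p ↥(Cfsg.generalizedFittingSubgroup ↥(Subgroup.centralizer (V : Set G)))) :
    IsPGroup p ↥(Cfsg.generalizedFittingSubgroup ↥(Subgroup.centralizer (U : Set G))) := by
  classical
  have hKH : Subgroup.centralizer (U : Set G) ≤ Subgroup.centralizer (V : Set G) :=
    Subgroup.centralizer_le hVU
  generalize hHdef : Subgroup.centralizer (V : Set G) = H at *
  generalize hKdef : Subgroup.centralizer (U : Set G) = K at *
  have hFchar : (Cfsg.generalizedFittingSubgroup ↥H).Characteristic :=
    Cfsg.Agent.Lib.Helper12.generalizedFittingSubgroup_characteristic ↥H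
  have hself0 : Subgroup.centralizer (Cfsg.generalizedFittingSubgroup ↥H : Set ↥H) ≤
      Cfsg.generalizedFittingSubgroup ↥H := Cfsg.Agent.S1265.result
  have hQsp : IsPGroup p ((Cfsg.generalizedFittingSubgroup ↥H).map H.subtype) := hV.map _
  have hHQ : H ≤ Subgroup.normalizer
      (((Cfsg.generalizedFittingSubgroup ↥H).map H.subtype : Subgroup G) : Set G) :=
    Cfsg.Agent.Lib.Lead.le_normalizer_map_characteristic H H Subgroup.le_normalizer _
  have hUH : U ≤ Subgroup.normalizer (H : Set G) := by
    rw [← hHdef]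
    exact hUV.trans (normalizer_le_normalizer_centralizer' V)
  have hUQ : U ≤ Subgroup.normalizer
      (((Cfsg.generalizedFittingSubgroup ↥H).map H.subtype : Subgroup G) : Set G) :=
    Cfsg.Agent.Lib.Lead.le_normalizer_map_characteristic H U hUH _
  rw [gfs_eq_pCore_of_forall p ?_]
  · exact Cfsg.Agent.Lib.Helper1.pCore_isPGroup p
  intro Y' hY'c hY'Q
  have hbot := eq_bot_of_thompson p U ((Cfsg.generalizedFittingSubgroup ↥H).map H.subtype)
    (Y'.map K.subtype) hU hQsp
    (by rw [Subgroup.card_map_of_injective K.subtype_injective]; exact hY'c)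
    hUQ
    ((Subgroup.map_subtype_le _).trans (hKH.trans hHQ))
    (by
      rintro _ ⟨y, -, rfl⟩ x hx
      have hy : (y : G) ∈ Subgroup.centralizer (U : Set G) := by rw [hKdef]; exact y.2
      rw [Subgroup.mem_centralizer_iff] at hy
      exact (hy x hx).symm)
    (by
      rintro _ ⟨y, hy, rfl⟩ x hxQ hxU
      have hxK : x ∈ K := by
        rw [← hKdef, Subgroup.mem_centralizer_iff]
        exact hxU
      have hMn : (((Cfsg.generalizedFittingSubgroup ↥H).map H.subtype).subgroupOf K).Normal :=
        Subgroup.normal_subgroupOf_of_le_normalizer (hKH.trans hHQ)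
      have hMp : IsPGroup p (((Cfsg.generalizedFittingSubgroup ↥H).map H.subtype).subgroupOf K) :=
        hQsp.comap_of_injective K.subtype K.subtype_injective
      have hM := Cfsg.Agent.Lib.Helper1.le_pCore hMn hMp
      have hx' : (⟨x, hxK⟩ : ↥K) ∈ Cfsg.pCore p ↥K := hM (Subgroup.mem_subgroupOf.2 hxQ)
      have := hY'Q y hy ⟨x, hxK⟩ hx'
      exact congrArg Subtype.val this)
    (by
      intro hcent
      rintro _ ⟨y, hy, rfl⟩
      have hyH : (y : G) ∈ H := hKH y.2
      have h1 : (⟨(y : G), hyH⟩ : ↥H) ∈
          Subgroup.centralizer (Cfsg.generalizedFittingSubgroup ↥H : Set ↥H) := by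
        rw [Subgroup.mem_centralizer_iff]
        intro f hf
        have h2 := hcent (Subgroup.mem_map_of_mem K.subtype hy)
        rw [Subgroup.mem_centralizer_iff] at h2
        have h3 := h2 (f : G) (Subgroup.mem_map_of_mem H.subtype hf)
        exact Subtype.ext h3
      exact ⟨_, hself0 h1, rfl⟩)
  exact (Subgroup.map_eq_bot_iff_of_injective _ K.subtype_injective).1 hbot

/-- Let V ≤ U be p-subgroups of the finite group G. If the generalized Fitting subgroup of C_G(V) is a p-group, then so is that of C_G(U). -/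
theorem result {G : Type*} [Group G] [Finite G] {p : ℕ} [Fact p.Prime] (U V : Subgroup G) (hVU : V ≤ U) (hU : IsPGroup p U) (hV : IsPGroup p ↥(Cfsg.generalizedFittingSubgroup ↥(Subgroup.centralizer (V : Set G)))) : IsPGroup p ↥(Cfsg.generalizedFittingSubgroup ↥(Subgroup.centralizer (U : Set G))) := by
  classical
  have key : ∀ n : ℕ, ∀ V : Subgroup G, V ≤ U → Nat.card U - Nat.card V = n →
      IsPGroup p ↥(Cfsg.generalizedFittingSubgroup ↥(Subgroup.centralizer (V : Set G))) →
      IsPGroup p ↥(Cfsg.generalizedFittingSubgroup ↥(Subgroup.centralizer (U : Set G))) := by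
    intro n
    induction n using Nat.strong_induction_on with
    | _ n ih =>
      intro V hVU hn hV
      by_cases hne : U ≤ V
      · have : V = U := le_antisymm hVU hne
        subst this
        exact hV
      · obtain ⟨x, hxU, hxV, hxN⟩ := exists_normalizer_not_mem U V hU hVU hne
        have hV1 : V ≤ U ⊓ Subgroup.normalizer (V : Set G) := le_inf hVU Subgroup.le_normalizer
        have hlt : V < U ⊓ Subgroup.normalizer (V : Set G) := by
          refine lt_of_le_of_ne hV1 ?_
          intro h
          apply hxV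
          rw [h]
          exact Subgroup.mem_inf.2 ⟨hxU, hxN⟩
        have h1 := normal_case (U ⊓ Subgroup.normalizer (V : Set G)) V hV1 inf_le_right
          (hU.to_le inf_le_left) hV
        have hc1 : Nat.card V < Nat.card ↥(U ⊓ Subgroup.normalizer (V : Set G)) :=
          Cfsg.Agent.Lib.Lead.card_lt_card_of_lt hlt
        have hc2 : Nat.card ↥(U ⊓ Subgroup.normalizer (V : Set G)) ≤ Nat.card U :=
          Subgroup.card_le_of_le inf_le_left
        exact ih (Nat.card U - Nat.card ↥(U ⊓ Subgroup.normalizer (V : Set G))) (by omega)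
          _ inf_le_left rfl h1
  exact key _ V hVU rfl hV

end Cfsg.Agent.S1246
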