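import Cfsg.Statements.S1268
import Cfsg.Agent.S0028
import Cfsg.Agent.S1265
import Cfsg.Agent.Lib.Helper10.Components
import Cfsg.Agent.Lib.Helper1.Fitting
import Cfsg.Agent.Lib.Helper1.Cores

set_option autoImplicit false
open Cfsg

namespace Cfsg.Agent.S1268

open Cfsg.Agent.Lib.Helper1 Cfsg.Agent.Lib.Helper10

/-- key lemma: a `p'`-subgroup of `N_G(P)` centralizing `P` and `O_p(G) ∩ N_G(P)` is trivial -/
theorem key {G : Type*} [Group G] [Finite G] (p : ℕ) [Fact p.Prime]
    (h : Cfsg.generalizedFittingSubgroup G = Cfsg.pCore p G) (P : Subgroup G) (hP : IsPGroup p ↥P)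
    (Y : Subgroup G) (hYN : Y ≤ Subgroup.normalizer (P : Set G)) (hYc : (Nat.card Y).Coprime p)
    (hYP : ∀ y ∈ Y, ∀ x ∈ P, y * x = x * y)
    (hYQ : ∀ y ∈ Y, ∀ x ∈ Cfsg.pCore p G ⊓ Subgroup.normalizer (P : Set G), y * x = x * y) :
    Y = ⊥ := by
  have hQn : (Cfsg.pCore p G).Normal := Cfsg.Agent.Lib.Helper1.pCore_normal p
  have hQp : IsPGroup p (Cfsg.pCore p G) := Cfsg.Agent.Lib.Helper1.pCore_isPGroup p
  have h1 : Y ≤ Subgroup.centralizer (Cfsg.pCore p G : Set G) := by
    apply Cfsg.Agent.S0028.result p P Y (Cfsg.pCore p G) hP hYc hQp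
    · intro x hx
      rw [Subgroup.mem_centralizer_iff]
      intro y hy
      exact hYP y hy x hx
    · rw [Subgroup.normalizer_eq_top]; exact le_top
    · rw [Subgroup.normalizer_eq_top]; exact le_top
    · intro x hx
      obtain ⟨hxQ, hxP⟩ := Subgroup.mem_inf.1 hx
      rw [Subgroup.mem_centralizer_iff]
      intro y hy
      have hxN : x ∈ Subgroup.normalizer (P : Set G) := Subgroup.centralizer_le_normalizer _ hxP
      exact hYQ y hy x (Subgroup.mem_inf.2 ⟨hxQ, hxN⟩)
  have h2 : Y ≤ Cfsg.pCore p G := by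
    refine h1.trans ?_
    rw [← h]
    exact Cfsg.Agent.S1265.result
  have hYp : IsPGroup p Y := hQp.to_le h2
  obtain ⟨k, hk⟩ := IsPGroup.iff_card.1 hYp
  have hp : p.Prime := Fact.out
  have : Nat.card Y = 1 := by
    rcases Nat.eq_zero_or_pos k with rfl | hk0
    · simpa using hk
    · exfalso
      rw [hk] at hYc
      have := (Nat.coprime_pow_left_iff hk0 p p).1 hYc
      rw [Nat.coprime_self] at this
      exact hp.one_lt.ne' this
  exact Subgroup.eq_bot_of_card_eq _ this

/-- Let G be finite with F*(G) = O_p(G). Then F*(N) = O_p(N) for N the normalizer of any p-subgroup P of G. -/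
theorem result {G : Type*} [Group G] [Finite G] (p : ℕ) [Fact p.Prime] (h : Cfsg.generalizedFittingSubgroup G = Cfsg.pCore p G) (P : Subgroup G) (hP : IsPGroup p ↥P) : Cfsg.generalizedFittingSubgroup ↥(Subgroup.normalizer ((P : Subgroup G) : Set G)) = Cfsg.pCore p ↥(Subgroup.normalizer ((P : Subgroup G) : Set G)) := by
  classical
  have hp : p.Prime := Fact.out
  have hQn : (Cfsg.pCore p G).Normal := Cfsg.Agent.Lib.Helper1.pCore_normal p
  have hQp : IsPGroup p (Cfsg.pCore p G) := Cfsg.Agent.Lib.Helper1.pCore_isPGroup p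
  generalize hNdef : Subgroup.normalizer ((P : Subgroup G) : Set G) = N at *
  have hPN : P ≤ N := by rw [← hNdef]; exact Subgroup.le_normalizer
  -- normal p-subgroups of N
  have hP'n : (P.subgroupOf N).Normal := by
    rw [← hNdef]; exact Subgroup.normal_in_normalizer
  have hP'p : IsPGroup p (P.subgroupOf N) :=
    hP.comap_of_injective N.subtype N.subtype_injective
  have hQ'n : ((Cfsg.pCore p G).subgroupOf N).Normal := inferInstance
  have hQ'p : IsPGroup p ((Cfsg.pCore p G).subgroupOf N) :=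
    hQp.comap_of_injective N.subtype N.subtype_injective
  have hP'F : P.subgroupOf N ≤ Cfsg.fittingSubgroup ↥N :=
    le_fittingSubgroup hP'n hP'p.isNilpotent
  have hQ'F : (Cfsg.pCore p G).subgroupOf N ≤ Cfsg.fittingSubgroup ↥N :=
    le_fittingSubgroup hQ'n hQ'p.isNilpotent
  -- O_{p'}(N) = 1
  have hOp' : Cfsg.pPrimeCore p ↥N = ⊥ := by
    have hYn : (Cfsg.pPrimeCore p ↥N).Normal := Cfsg.Agent.Lib.Helper1.pPrimeCore_normal p
    have hYc : (Nat.card (Cfsg.pPrimeCore p ↥N)).Coprime p := pPrimeCore_card_coprime p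
    have hcomm : ∀ (M : Subgroup ↥N), M.Normal → IsPGroup p M →
        ∀ y ∈ Cfsg.pPrimeCore p ↥N, ∀ x ∈ M, y * x = x * y := by
      intro M hMn hMp y hy x hx
      obtain ⟨k, hk⟩ := IsPGroup.iff_card.1 hMp
      have hcop : (Nat.card (Cfsg.pPrimeCore p ↥N)).Coprime (Nat.card M) := by
        rw [hk]; exact Nat.Coprime.pow_right k hYc
      exact Subgroup.commute_of_normal_of_disjoint _ _ hYn hMn
        (Subgroup.disjoint_of_coprime_natCard hcop) y x hy hx
    have hbot := key p h P hP ((Cfsg.pPrimeCore p ↥N).map N.subtype)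
      (by rw [hNdef]; exact Subgroup.map_subtype_le _)
      (by rw [Subgroup.card_map_of_injective N.subtype_injective]; exact hYc)
      (by
        rintro _ ⟨y, hy, rfl⟩ x hx
        have := hcomm _ hP'n hP'p y hy ⟨x, hPN hx⟩ (Subgroup.mem_subgroupOf.2 hx)
        exact congrArg Subtype.val this)
      (by
        rintro _ ⟨y, hy, rfl⟩ x hx
        rw [hNdef] at hx
        obtain ⟨hxQ, hxN⟩ := Subgroup.mem_inf.1 hx
        have := hcomm _ hQ'n hQ'p y hy ⟨x, hxN⟩ (Subgroup.mem_subgroupOf.2 hxQ)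
        exact congrArg Subtype.val this)
    exact (Subgroup.map_eq_bot_iff_of_injective _ N.subtype_injective).1 hbot
  -- no components
  have hlayer : Cfsg.layer ↥N = ⊥ := by
    unfold Cfsg.layer
    rw [sSup_eq_bot]
    intro L hL
    exfalso
    have hL' : Cfsg.IsComponent L := hL
    have hLF : ∀ l ∈ L, ∀ x ∈ Cfsg.fittingSubgroup ↥N, l * x = x * l := by
      intro l hl x hx
      have h1 : (⁅Cfsg.layer ↥N, Cfsg.fittingSubgroup ↥N⁆ : Subgroup ↥N) = ⊥ :=
        commutator_layer_fitting
      rw [Subgroup.commutator_eq_bot_iff_le_centralizer] at h1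
      have := h1 (component_le_layer hL' hl)
      rw [Subgroup.mem_centralizer_iff] at this
      exact (this x hx).symm
    -- every p'-element of L is trivial
    have htriv : ∀ l ∈ L, (orderOf l).Coprime p → l = 1 := by
      intro l hl hcop
      have hbot := key p h P hP (Subgroup.zpowers (l : G))
        (by rw [hNdef, Subgroup.zpowers_le]; exact l.2)
        (by rw [Nat.card_zpowers, Subgroup.orderOf_coe]; exact hcop)
        (by
          intro y hy x hx
          obtain ⟨n, rfl⟩ := Subgroup.mem_zpowers_iff.1 hy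
          have h1 := hLF l hl ⟨x, hPN hx⟩ (hP'F (Subgroup.mem_subgroupOf.2 hx))
          have h2 : (l : G) * x = x * (l : G) := congrArg Subtype.val h1
          exact ((Commute.zpow_left (show Commute (l : G) x from h2) n)).eq)
        (by
          intro y hy x hx
          rw [hNdef] at hx
          obtain ⟨hxQ, hxN⟩ := Subgroup.mem_inf.1 hx
          obtain ⟨n, rfl⟩ := Subgroup.mem_zpowers_iff.1 hy
          have h1 := hLF l hl ⟨x, hxN⟩ (hQ'F (Subgroup.mem_subgroupOf.2 hxQ))
          have h2 : (l : G) * x = x * (l : G) := congrArg Subtype.val h1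
          exact ((Commute.zpow_left (show Commute (l : G) x from h2) n)).eq)
      have h3 : (l : G) ∈ Subgroup.zpowers (l : G) := Subgroup.mem_zpowers _
      rw [hbot, Subgroup.mem_bot] at h3
      exact Subtype.ext h3
    have hLp : IsPGroup p L := by
      rw [IsPGroup.iff_orderOf]
      rintro ⟨l, hl⟩
      have hl0 : orderOf l ≠ 0 := (orderOf_pos l).ne'
      obtain ⟨k, m, hm, hkm⟩ := Nat.exists_eq_pow_mul_and_not_dvd hl0 p hp.ne_one
      have hm0 : m ≠ 0 := by
        rintro rfl
        exact hm (dvd_zero p)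
      have hord : orderOf (l ^ (p ^ k)) = m := by
        rw [orderOf_pow' l (pow_ne_zero k hp.ne_zero), hkm, Nat.gcd_eq_right (dvd_mul_right _ _)]
        exact Nat.mul_div_cancel_left m (pow_pos hp.pos k)
      have h1 := htriv (l ^ (p ^ k)) (L.pow_mem hl _)
        (by rw [hord]; exact ((Nat.Prime.coprime_iff_not_dvd hp).2 hm).symm)
      have h2 : orderOf l ∣ p ^ k := orderOf_dvd_of_pow_eq_one h1
      obtain ⟨j, -, hj⟩ := (Nat.dvd_prime_pow hp).1 h2
      refine ⟨j, ?_⟩
      rw [Subgroup.orderOf_mk]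
      exact hj
    have : Group.IsNilpotent L := hLp.isNilpotent
    exact isComponent_not_isSolvable hL' inferInstance
  -- F(N) = O_p(N)
  have hfit : Cfsg.fittingSubgroup ↥N = Cfsg.pCore p ↥N := by
    rw [fittingSubgroup_eq_iSup_pCore]
    apply le_antisymm
    · apply iSup_le
      intro q
      by_cases hqp : (q : ℕ) = p
      · rw [hqp]
      · have hq : Fact (q : ℕ).Prime := ⟨q.2⟩
        have hqn : (Cfsg.pCore (q : ℕ) ↥N).Normal := Cfsg.Agent.Lib.Helper1.pCore_normal _
        have hqq : IsPGroup (q : ℕ) (Cfsg.pCore (q : ℕ) ↥N) := Cfsg.Agent.Lib.Helper1.pCore_isPGroup _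
        obtain ⟨k, hk⟩ := IsPGroup.iff_card.1 hqq
        have hcop : (Nat.card (Cfsg.pCore (q : ℕ) ↥N)).Coprime p := by
          rw [hk]
          exact Nat.Coprime.pow_left k ((Nat.coprime_primes q.2 hp).2 hqp)
        have := le_pPrimeCore hqn hcop
        rw [hOp'] at this
        exact this.trans bot_le
    · exact le_iSup (fun q : Nat.Primes => Cfsg.pCore (q : ℕ) ↥N) ⟨p, hp⟩
  unfold Cfsg.generalizedFittingSubgroup
  rw [hlayer, hfit, bot_sup_eq]

end Cfsg.Agent.S1268
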