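import Cfsg.Statements.S2922
import Cfsg.Agent.S1265
import Cfsg.Agent.S1268
import Cfsg.Agent.S1246
import Cfsg.Agent.S2923
import Cfsg.Agent.Lib.Helper9.FStarP
import Cfsg.Agent.Lib.Helper18.CharP
import Cfsg.Agent.Lib.helper17.Subn

set_option autoImplicit false
open Cfsg

namespace Cfsg.Agent.S2922

section Aux

theorem charP_of_gfs {G : Type*} [Group G] [Finite G] {p : ℕ} [Fact p.Prime]
    (h : Cfsg.generalizedFittingSubgroup G = Cfsg.pCore p G) :
    Subgroup.centralizer (Cfsg.pCore p G : Set G) ≤ Cfsg.pCore p G := by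
  have := Cfsg.Agent.S1265.result (G := G)
  rwa [h] at this

theorem gfs_of_charP {G : Type*} [Group G] [Finite G] {p : ℕ} [Fact p.Prime]
    (h : Subgroup.centralizer (Cfsg.pCore p G : Set G) ≤ Cfsg.pCore p G) :
    Cfsg.generalizedFittingSubgroup G = Cfsg.pCore p G := by
  apply Cfsg.Agent.Lib.Helper9.gfs_eq_pCore_of_forall p
  intro Y hYc hY
  apply Cfsg.Agent.Lib.Helper9.eq_bot_of_isPGroup_of_coprime Y _ hYc
  apply (Cfsg.Agent.Lib.Helper18.pCore_isPGroup p G).to_le
  intro y hy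
  apply h
  rw [Subgroup.mem_centralizer_iff]
  intro x hx
  exact (hY y hy x hx).symm

variable {X : Type*} [Group X] [Finite X] {p : ℕ} [Fact p.Prime]

/-- a subgroup `D` normal in a characteristic-`p` subgroup `L` has characteristic `p` -/
theorem charP_of_normal_in {L D : Subgroup X}
    (hL : Subgroup.centralizer (Cfsg.pCore p ↥L : Set ↥L) ≤ Cfsg.pCore p ↥L)
    (hDL : D ≤ L) (hn : L ≤ Subgroup.normalizer (D : Set X)) :
    Subgroup.centralizer (Cfsg.pCore p ↥D : Set ↥D) ≤ Cfsg.pCore p ↥D := by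
  have hN : (D.subgroupOf L).Normal := (Subgroup.normal_subgroupOf_iff_le_normalizer hDL).2 hn
  have := Cfsg.Agent.S2923.result hL (D.subgroupOf L) hN.isSubnormal
  exact Cfsg.Agent.Lib.Helper18.charP_of_mulEquiv (Subgroup.subgroupOfEquivOfLe hDL) this

/-- `p`-local subgroups of a characteristic-`p` subgroup `M` have characteristic `p` -/
theorem charP_inf_normalizer {M B : Subgroup X}
    (hM : Subgroup.centralizer (Cfsg.pCore p ↥M : Set ↥M) ≤ Cfsg.pCore p ↥M)
    (hBM : B ≤ M) (hB : IsPGroup p B) :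
    Subgroup.centralizer (Cfsg.pCore p ↥(Subgroup.normalizer (B : Set X) ⊓ M) :
      Set ↥(Subgroup.normalizer (B : Set X) ⊓ M)) ≤ Cfsg.pCore p ↥(Subgroup.normalizer (B : Set X) ⊓ M) := by
  have h1 := Cfsg.Agent.S1268.result p (gfs_of_charP hM) (B.subgroupOf M) hB.comap_subtype
  have h2 := charP_of_gfs h1
  have e1 : ↥(Subgroup.normalizer ((B.subgroupOf M : Subgroup ↥M) : Set ↥M)) ≃*
      ↥((Subgroup.normalizer (B : Set X)).subgroupOf M) :=
    MulEquiv.subgroupCongr (Subgroup.subgroupOf_normalizer_eq hBM).symm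
  have e2 : ↥((Subgroup.normalizer (B : Set X)).subgroupOf M) ≃*
      ↥((Subgroup.normalizer (B : Set X) ⊓ M).subgroupOf M) :=
    MulEquiv.subgroupCongr (Subgroup.inf_subgroupOf_right _ _).symm
  have e3 : ↥((Subgroup.normalizer (B : Set X) ⊓ M).subgroupOf M) ≃*
      ↥(Subgroup.normalizer (B : Set X) ⊓ M) := Subgroup.subgroupOfEquivOfLe inf_le_right
  exact Cfsg.Agent.Lib.Helper18.charP_of_mulEquiv (e1.trans (e2.trans e3)) h2

theorem normalizer_charP (B C : Subgroup X) (hB : IsPGroup p ↥B) (hCB : C ≤ B)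
    (hCn : (C.subgroupOf B).Normal)
    (hM : Subgroup.centralizer (Cfsg.pCore p ↥(Subgroup.normalizer (C : Set X)) :
      Set ↥(Subgroup.normalizer (C : Set X))) ≤ Cfsg.pCore p ↥(Subgroup.normalizer (C : Set X))) :
    Subgroup.centralizer (Cfsg.pCore p ↥(Subgroup.normalizer (B : Set X)) :
      Set ↥(Subgroup.normalizer (B : Set X))) ≤ Cfsg.pCore p ↥(Subgroup.normalizer (B : Set X)) := by
  have hBM : B ≤ Subgroup.normalizer (C : Set X) :=
    (Subgroup.normal_subgroupOf_iff_le_normalizer hCB).1 hCn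
  have hL := charP_inf_normalizer hM hBM hB
  set H : Subgroup X := Subgroup.normalizer (B : Set X) with hH
  set M : Subgroup X := Subgroup.normalizer (C : Set X) with hMdef
  set DH : Subgroup ↥H := Subgroup.centralizer (Cfsg.pCore p ↥H : Set ↥H) with hDH
  have hDHn : DH.Normal := inferInstance
  have hBH : B ≤ H := Subgroup.le_normalizer
  -- B ≤ O_p(H)
  have hBcore : B.subgroupOf H ≤ Cfsg.pCore p ↥H := by
    apply Cfsg.Agent.Lib.Helper18.le_pCore
    · exact Subgroup.normal_in_normalizer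
    · exact hB.comap_subtype
  -- D ≤ L
  have hDL : DH.map H.subtype ≤ H ⊓ M := by
    apply le_inf (Subgroup.map_subtype_le _)
    rintro _ ⟨d, hd, rfl⟩
    have : (d : X) ∈ Subgroup.centralizer (B : Set X) := by
      rw [Subgroup.mem_centralizer_iff]
      intro b hb
      have hbc : (⟨b, hBH hb⟩ : ↥H) ∈ Cfsg.pCore p ↥H := hBcore (Subgroup.mem_subgroupOf.2 hb)
      have := (Subgroup.mem_centralizer_iff.1 hd) _ hbc
      exact congrArg Subtype.val this
    exact (Subgroup.centralizer_le_normalizer (C : Set X))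
      (Subgroup.centralizer_le (by exact_mod_cast hCB) this)
  have hn : H ⊓ M ≤ Subgroup.normalizer ((DH.map H.subtype : Subgroup X) : Set X) := by
    have h1 := Subgroup.le_normalizer_map (H := DH) H.subtype
    rw [Subgroup.normalizer_eq_top] at h1
    intro l hl
    apply h1
    exact ⟨⟨l, hl.1⟩, Subgroup.mem_top _, rfl⟩
  have hD := charP_of_normal_in hL hDL hn
  have e : ↥DH ≃* ↥(DH.map H.subtype) := DH.equivMapOfInjective H.subtype H.subtype_injective
  have hDH' : Subgroup.centralizer (Cfsg.pCore p ↥DH : Set ↥DH) ≤ Cfsg.pCore p ↥DH :=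
    Cfsg.Agent.Lib.Helper18.charP_of_mulEquiv e.symm hD
  -- O_p(D_H) ≤ O_p(H)
  have hsub : Cfsg.pCoreOf p DH ≤ Cfsg.pCore p ↥H :=
    Cfsg.Agent.Lib.helper17.pCoreOf_le_pCore_of_subnormal hDHn.isSubnormal
  -- every element of D_H lies in O_p(D_H)
  have hall : ∀ d : ↥DH, d ∈ Cfsg.pCore p ↥DH := by
    intro d
    apply hDH'
    rw [Subgroup.mem_centralizer_iff]
    intro z hz
    have hz' : (z : ↥H) ∈ Cfsg.pCore p ↥H := hsub ⟨z, hz, rfl⟩
    have := (Subgroup.mem_centralizer_iff.1 d.2) _ hz'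
    exact Subtype.ext this
  have hDHp : IsPGroup p ↥DH := by
    intro d
    obtain ⟨k, hk⟩ := (Cfsg.Agent.Lib.Helper18.pCore_isPGroup p ↥DH) ⟨d, hall d⟩
    exact ⟨k, congrArg Subtype.val hk⟩
  exact Cfsg.Agent.Lib.Helper18.le_pCore hDHn hDHp

end Aux


/-- Let p be a prime, X a finite group, B a p-subgroup of X and C a normal subgroup of B. If N_X(C) has characteristic p (its generalized Fitting subgroup is O_p(N_X(C))), then N_X(B) and C_X(B) have characteristic p. -/
theorem result {X : Type*} [Group X] [Finite X] {p : ℕ} [Fact p.Prime] (B C : Subgroup X) (hB : IsPGroup p ↥B) (hCB : C ≤ B) (hCn : (C.subgroupOf B).Normal) (hC : Cfsg.generalizedFittingSubgroup ↥(Subgroup.normalizer (C : Set X)) = Cfsg.pCore p ↥(Subgroup.normalizer (C : Set X))) : Cfsg.generalizedFittingSubgroup ↥(Subgroup.normalizer (B : Set X)) = Cfsg.pCore p ↥(Subgroup.normalizer (B : Set X)) ∧ Cfsg.generalizedFittingSubgroup ↥(Subgroup.centralizer (B : Set X)) = Cfsg.pCore p ↥(Subgroup.centralizer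 (B : Set X)) := by
  have h1 := normalizer_charP B C hB hCB hCn (charP_of_gfs hC)
  refine ⟨gfs_of_charP h1, gfs_of_charP ?_⟩
  exact charP_of_normal_in h1 (Subgroup.centralizer_le_normalizer (B : Set X))
    (Cfsg.Agent.S1246.normalizer_le_normalizer_centralizer' B)

end Cfsg.Agent.S2922
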