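import Cfsg.Statements.S2896
import Cfsg.Agent.S2922
import Cfsg.Agent.Lib.helper17.PAct
import Cfsg.Agent.Lib.helper17.SPE
import Cfsg.Agent.Lib.Helper9.SylowConj

set_option autoImplicit false
open Cfsg

namespace Cfsg.Agent.S2896

open Cfsg.Agent.S2922

section Aux

variable {X : Type*} [Group X] [Finite X] {p : ℕ} [Fact p.Prime]

/-- characteristic `p` passes from a subgroup `M ⊇ B C_X(B)` to `N_X(B)` -/
theorem normalizer_charP' (B M : Subgroup X) (hB : IsPGroup p ↥B) (hBM : B ≤ M)
    (hCM : Subgroup.centralizer (B : Set X) ≤ M)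
    (hM : Subgroup.centralizer (Cfsg.pCore p ↥M : Set ↥M) ≤ Cfsg.pCore p ↥M) :
    Subgroup.centralizer (Cfsg.pCore p ↥(Subgroup.normalizer (B : Set X)) :
      Set ↥(Subgroup.normalizer (B : Set X))) ≤ Cfsg.pCore p ↥(Subgroup.normalizer (B : Set X)) := by
  have hL := charP_inf_normalizer hM hBM hB
  set H : Subgroup X := Subgroup.normalizer (B : Set X) with hH
  set DH : Subgroup ↥H := Subgroup.centralizer (Cfsg.pCore p ↥H : Set ↥H) with hDH
  have hDHn : DH.Normal := inferInstance
  have hBH : B ≤ H := Subgroup.le_normalizer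
  have hBcore : B.subgroupOf H ≤ Cfsg.pCore p ↥H := by
    apply Cfsg.Agent.Lib.Helper18.le_pCore
    · exact Subgroup.normal_in_normalizer
    · exact hB.comap_subtype
  have hDL : DH.map H.subtype ≤ H ⊓ M := by
    apply le_inf (Subgroup.map_subtype_le _)
    rintro _ ⟨d, hd, rfl⟩
    have : (d : X) ∈ Subgroup.centralizer (B : Set X) := by
      rw [Subgroup.mem_centralizer_iff]
      intro b hb
      have hbc : (⟨b, hBH hb⟩ : ↥H) ∈ Cfsg.pCore p ↥H := hBcore (Subgroup.mem_subgroupOf.2 hb)
      have := (Subgroup.mem_centralizer_iff.1 hd) _ hbc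
      exact congrArg Subtype.val this
    exact hCM this
  have hn : H ⊓ M ≤ Subgroup.normalizer ((DH.map H.subtype : Subgroup X) : Set X) := by
    have h1 := Subgroup.le_normalizer_map (H := DH) H.subtype
    rw [Subgroup.normalizer_eq_top] at h1
    intro l hl
    apply h1
    exact ⟨⟨l, hl.1⟩, Subgroup.mem_top _, rfl⟩
  have hD := charP_of_normal_in hL hDL hn
  have e : ↥DH ≃* ↥(DH.map H.subtype) := DH.equivMapOfInjective H.subtype H.subtype_injective
  have hDH' : Subgroup.centralizer (Cfsg.pCore p ↥DH : Set ↥DH) ≤ Cfsg.pCore p ↥DH :=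
    Cfsg.Agent.Lib.Helper18.charP_of_mulEquiv e.symm hD
  have hsub : Cfsg.pCoreOf p DH ≤ Cfsg.pCore p ↥H :=
    Cfsg.Agent.Lib.helper17.pCoreOf_le_pCore_of_subnormal hDHn.isSubnormal
  have hall : ∀ d : ↥DH, d ∈ Cfsg.pCore p ↥DH := by
    intro d
    apply hDH'
    rw [Subgroup.mem_centralizer_iff]
    intro z hz
    have hz' : (z : ↥H) ∈ Cfsg.pCore p ↥H := hsub ⟨z, hz, rfl⟩
    have := (Subgroup.mem_centralizer_iff.1 d.2) _ hz'
    exact Subtype.ext this
  have hDHp : IsPGroup p ↥DH := by
    intro d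
    obtain ⟨k, hk⟩ := (Cfsg.Agent.Lib.Helper18.pCore_isPGroup p ↥DH) ⟨d, hall d⟩
    exact ⟨k, congrArg Subtype.val hk⟩
  exact Cfsg.Agent.Lib.Helper18.le_pCore hDHn hDHp

/-- Lemma L: `z ∈ Z(R)` with `C(z)` of characteristic `p` gives `N(R)` of characteristic `p` -/
theorem normalizer_charP_of_center (R : Subgroup X) (hR : IsPGroup p ↥R) (z : X) (hzR : z ∈ R)
    (hzc : ∀ x ∈ R, x * z = z * x)
    (hz : Subgroup.centralizer (Cfsg.pCore p ↥(Subgroup.centralizer ({z} : Set X)) :
      Set ↥(Subgroup.centralizer ({z} : Set X))) ≤ Cfsg.pCore p ↥(Subgroup.centralizer ({z} : Set X))) :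
    Subgroup.centralizer (Cfsg.pCore p ↥(Subgroup.normalizer (R : Set X)) :
      Set ↥(Subgroup.normalizer (R : Set X))) ≤ Cfsg.pCore p ↥(Subgroup.normalizer (R : Set X)) := by
  apply normalizer_charP' R (Subgroup.centralizer ({z} : Set X)) hR _ _ hz
  · intro x hx
    rw [Subgroup.mem_centralizer_iff]
    intro y hy
    rw [Set.mem_singleton_iff] at hy
    rw [hy]
    exact (hzc x hx).symm
  · apply Subgroup.centralizer_le
    intro y hy
    rw [Set.mem_singleton_iff] at hy
    rw [hy]; exact hzR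

omit [Finite X] [Fact p.Prime] in
/-- transport of characteristic `p` of `C(z)` along conjugation -/
theorem charP_centralizer_conj (g z : X)
    (hz : Subgroup.centralizer (Cfsg.pCore p ↥(Subgroup.centralizer ({z} : Set X)) :
      Set ↥(Subgroup.centralizer ({z} : Set X))) ≤ Cfsg.pCore p ↥(Subgroup.centralizer ({z} : Set X))) :
    Subgroup.centralizer (Cfsg.pCore p ↥(Subgroup.centralizer ({g * z * g⁻¹} : Set X)) :
      Set ↥(Subgroup.centralizer ({g * z * g⁻¹} : Set X))) ≤
      Cfsg.pCore p ↥(Subgroup.centralizer ({g * z * g⁻¹} : Set X)) := by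
  have hmap : (Subgroup.centralizer ({z} : Set X)).map (MulAut.conj g).toMonoidHom =
      Subgroup.centralizer ({g * z * g⁻¹} : Set X) := by
    ext x
    rw [Cfsg.Agent.Lib.Helper9.mem_map_conj_iff, Subgroup.mem_centralizer_iff,
      Subgroup.mem_centralizer_iff]
    simp only [Set.mem_singleton_iff, forall_eq]
    constructor
    · intro h
      calc g * z * g⁻¹ * x = g * (z * (g⁻¹ * x * g)) * g⁻¹ := by group
        _ = g * ((g⁻¹ * x * g) * z) * g⁻¹ := by rw [h]
        _ = x * (g * z * g⁻¹) := by group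
    · intro h
      calc z * (g⁻¹ * x * g) = g⁻¹ * ((g * z * g⁻¹) * x) * g := by group
        _ = g⁻¹ * (x * (g * z * g⁻¹)) * g := by rw [h]
        _ = g⁻¹ * x * g * z := by group
  have e1 : ↥(Subgroup.centralizer ({z} : Set X)) ≃*
      ↥((Subgroup.centralizer ({z} : Set X)).map (MulAut.conj g).toMonoidHom) :=
    (Subgroup.centralizer ({z} : Set X)).equivMapOfInjective _ (MulAut.conj g).injective
  have e2 : ↥((Subgroup.centralizer ({z} : Set X)).map (MulAut.conj g).toMonoidHom) ≃*
      ↥(Subgroup.centralizer ({g * z * g⁻¹} : Set X)) := MulEquiv.subgroupCongr hmap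
  exact Cfsg.Agent.Lib.Helper18.charP_of_mulEquiv (e1.trans e2) hz

end Aux


/-- Let p be a prime dividing the order of the finite group G, S a Sylow p-subgroup of G and X a subgroup of S. (i) If some nontrivial element z of the centre of X has F*(C_G(z)) = O_p(C_G(z)), then F*(N_G(X)) = O_p(N_G(X)). (ii) G has parabolic characteristic p if and only if F*(C_G(z)) = O_p(C_G(z)) for every nontrivial z ∈ Ω₁(Z(S)). (iii) If F*(C_G(z)) = O_p(C_G(z)) for every element z of S of order p, then G has local characteristic p. -/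
theorem result {G : Type*} [Group G] [Finite G] {p : ℕ} [Fact p.Prime] (hdiv : p ∣ Nat.card G) (S : Sylow p G) (X : Subgroup G) (hX : X ≤ (S : Subgroup G)) : (∀ z : G, z ≠ 1 → z ∈ X → (∀ x ∈ X, x * z = z * x) → Cfsg.generalizedFittingSubgroup ↥(Subgroup.centralizer ({z} : Set G)) = Cfsg.pCore p ↥(Subgroup.centralizer ({z} : Set G)) → Cfsg.generalizedFittingSubgroup ↥(Subgroup.normalizer (X : Set G)) = Cfsg.pCore p ↥(Subgroup.normalizer (X : Set G))) ∧ (Cfsg.IsOfParabolicCharacteristic p G ↔ ∀ z : G, z ≠ 1 → z ∈ Cfsg.omegaOne p ((S : Subgroup G) ⊓ Subgroup.centralizer ((S : Subgroup G) : Set G)) → Cfsg.generalizedFittingSubgroup ↥(Subgroup.centralizer ({z} : Set G)) = Cfsg.pCore p ↥(Subgroup.centralizer ({z} : Set G))) ∧ ((∀ z : G, z ∈ (S : Subgroup G) → orderOf z = p → Cfsg.generalizedFittingSubgroup ↥(Subgroup.centralizer ({z} : Set G)) = Cfsg.pCore p ↥(Subgroup.centralizer ({z} : Set G))) → Cfsg.IsOfLocalCharacteristic p G) := by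
  have hp : p.Prime := Fact.out
  -- every Sylow is a conjugate of S
  have hconj : ∀ T : Sylow p G, ∃ g : G, ∀ x : G, x ∈ (T : Subgroup G) ↔ g⁻¹ * x * g ∈ (S : Subgroup G) := by
    intro T
    obtain ⟨g, hg⟩ := MulAction.exists_smul_eq G S T
    refine ⟨g, fun x => ?_⟩
    rw [← hg, Sylow.coe_subgroup_smul, Subgroup.mem_pointwise_smul_iff_inv_smul_mem]
    simp [MulAut.smul_def]
  refine ⟨?_, ⟨?_, ?_⟩, ?_⟩
  · -- (i)
    intro z _ hzX hzc hz
    apply gfs_of_charP
    exact normalizer_charP_of_center X (S.2.to_le hX) z hzX hzc (charP_of_gfs hz)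
  · -- (ii) ⇒
    intro hpar z hz1 hzΩ
    have hΩle : Cfsg.omegaOne p ((S : Subgroup G) ⊓ Subgroup.centralizer ((S : Subgroup G) : Set G)) ≤
        (S : Subgroup G) ⊓ Subgroup.centralizer ((S : Subgroup G) : Set G) := by
      apply (Subgroup.closure_le _).2
      intro x hx
      exact hx.1
    obtain ⟨hzS, hzC⟩ := Subgroup.mem_inf.1 (hΩle hzΩ)
    have hzS' : ∀ s ∈ (S : Subgroup G), s * z = z * s := fun s hs =>
      (Subgroup.mem_centralizer_iff.1 hzC) s hs
    have hRp : IsPGroup p (Subgroup.zpowers z) := S.2.to_le (by rw [Subgroup.zpowers_le]; exact hzS)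
    have hR1 : Subgroup.zpowers z ≠ ⊥ := by
      rw [Ne, Subgroup.zpowers_eq_bot]; exact hz1
    have hcz : Subgroup.centralizer ((Subgroup.zpowers z : Subgroup G) : Set G) =
        Subgroup.centralizer ({z} : Set G) := by
      ext x
      rw [Subgroup.mem_centralizer_iff, Subgroup.mem_centralizer_iff]
      constructor
      · intro h y hy
        rw [Set.mem_singleton_iff] at hy
        rw [hy]; exact h z (Subgroup.mem_zpowers z)
      · intro h y hy
        obtain ⟨n, rfl⟩ := Subgroup.mem_zpowers_iff.1 hy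
        have : Commute z x := h z rfl
        exact (this.zpow_left n).eq
    have hSN : (S : Subgroup G) ≤ Subgroup.normalizer ((Subgroup.zpowers z : Subgroup G) : Set G) := by
      refine le_trans ?_ (Subgroup.centralizer_le_normalizer _)
      rw [hcz]
      intro s hs
      rw [Subgroup.mem_centralizer_iff]
      intro y hy
      rw [Set.mem_singleton_iff] at hy
      rw [hy]; exact (hzS' s hs).symm
    have h1 := hpar (Subgroup.zpowers z) hRp hR1 ⟨S, hSN⟩
    apply gfs_of_charP
    apply charP_of_normal_in h1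
    · rw [← hcz]; exact Subgroup.centralizer_le_normalizer _
    · rw [← hcz]; exact Cfsg.Agent.S1246.normalizer_le_normalizer_centralizer' _
  · -- (ii) ⇐
    intro hall R hRp hR1 ⟨T, hTN⟩
    obtain ⟨g, hg⟩ := hconj T
    -- R ≤ T
    have hRT : R ≤ (T : Subgroup G) := by
      have h1 : IsPGroup p (R ⊔ (T : Subgroup G) : Subgroup G) :=
        hRp.to_sup_of_normal_left' T.2 hTN
      have := T.is_maximal' h1 le_sup_right
      rw [← this]; exact le_sup_left
    have hne : R ⊓ Subgroup.centralizer ((T : Subgroup G) : Set G) ≠ ⊥ :=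
      Cfsg.Agent.Lib.helper17.inf_centralizer_ne_bot_of_pgroups T.2 hRp hR1 hTN
    obtain ⟨z', hz'mem, hz'ord⟩ := Cfsg.Agent.Lib.helper17.exists_orderOf_eq_prime_of_ne_bot
      (hRp.to_le inf_le_left) hne
    obtain ⟨hz'R, hz'C⟩ := Subgroup.mem_inf.1 hz'mem
    have hz'T : ∀ t ∈ (T : Subgroup G), t * z' = z' * t := fun t ht =>
      (Subgroup.mem_centralizer_iff.1 hz'C) t ht
    set z : G := g⁻¹ * z' * g with hz
    have hzS : z ∈ (S : Subgroup G) := (hg z').1 (hRT hz'R)
    have hzc : z ∈ Subgroup.centralizer ((S : Subgroup G) : Set G) := by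
      rw [Subgroup.mem_centralizer_iff]
      intro s hs
      have hsT : g * s * g⁻¹ ∈ (T : Subgroup G) := by
        rw [hg]
        have e : g⁻¹ * (g * s * g⁻¹) * g = s := by group
        rw [e]; exact hs
      have := hz'T _ hsT
      calc s * z = g⁻¹ * ((g * s * g⁻¹) * z') * g := by rw [hz]; group
        _ = g⁻¹ * (z' * (g * s * g⁻¹)) * g := by rw [this]
        _ = z * s := by rw [hz]; group
    have hzord : orderOf z = p := by
      have : z = (MulAut.conj g⁻¹) z' := by simp [hz]
      rw [this, MulEquiv.orderOf_eq]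
      exact hz'ord
    have hz1 : z ≠ 1 := by
      intro h
      rw [h, orderOf_one] at hzord
      exact hp.one_lt.ne hzord
    have hzΩ : z ∈ Cfsg.omegaOne p ((S : Subgroup G) ⊓ Subgroup.centralizer ((S : Subgroup G) : Set G)) := by
      apply Subgroup.subset_closure
      refine ⟨Subgroup.mem_inf.2 ⟨hzS, hzc⟩, ?_⟩
      rw [← hzord]; exact pow_orderOf_eq_one z
    have h1 := charP_of_gfs (hall z hz1 hzΩ)
    have h2 := charP_centralizer_conj g z h1
    have e : g * z * g⁻¹ = z' := by rw [hz]; group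
    rw [e] at h2
    exact normalizer_charP_of_center R hRp z' hz'R (fun x hx => hz'T x (hRT hx)) h2
  · -- (iii)
    intro hall
    refine ⟨hdiv, ?_⟩
    intro T hTp hT1
    obtain ⟨Q, hTQ⟩ := hTp.exists_le_sylow
    obtain ⟨g, hg⟩ := hconj Q
    have hne : T ⊓ Subgroup.centralizer (T : Set G) ≠ ⊥ :=
      Cfsg.Agent.Lib.helper17.inf_centralizer_ne_bot_of_pgroups hTp hTp hT1 Subgroup.le_normalizer
    obtain ⟨z', hz'mem, hz'ord⟩ := Cfsg.Agent.Lib.helper17.exists_orderOf_eq_prime_of_ne_bot
      (hTp.to_le inf_le_left) hne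
    obtain ⟨hz'T, hz'C⟩ := Subgroup.mem_inf.1 hz'mem
    set z : G := g⁻¹ * z' * g with hz
    have hzS : z ∈ (S : Subgroup G) := (hg z').1 (hTQ hz'T)
    have hzord : orderOf z = p := by
      have : z = (MulAut.conj g⁻¹) z' := by simp [hz]
      rw [this, MulEquiv.orderOf_eq]
      exact hz'ord
    have h1 := charP_of_gfs (hall z hzS hzord)
    have h2 := charP_centralizer_conj g z h1
    have e : g * z * g⁻¹ = z' := by rw [hz]; group
    rw [e] at h2
    exact normalizer_charP_of_center T hTp z' hz'T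
      (fun x hx => (Subgroup.mem_centralizer_iff.1 hz'C) x hx) h2

end Cfsg.Agent.S2896
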