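import Cfsg.Statements.S5160
import Cfsg.Agent.Lib.Helper27.FusInvariant2
import Cfsg.Agent.Lib.Helper26.FusionSat2
import Cfsg.Agent.S5076
import Cfsg.Agent.S5334
import Cfsg.Agent.S5335

set_option autoImplicit false
open Cfsg

namespace Cfsg.Agent.S5160

open Cfsg.FusionSystem Cfsg.Agent.Lib.Helper26 Cfsg.Agent.Lib.Helper27

variable {G : Type*} [Group G] [Finite G]

/-- For a normal subsystem `E` over the whole Sylow subgroup, conjugation by an element of
`O^{p'}(N_G(R))` is a map of `E` on `R`, for `R` fully normalized. -/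
theorem conj_mem_of_mem_closure (p : ℕ) [Fact p.Prime] (S : Sylow p G)
    (E : FusionSystem (S : Subgroup G))
    (hinv : E.IsInvariantIn (groupFusionSystem (S : Subgroup G))) {R : Subgroup G}
    (hRn : (groupFusionSystem (S : Subgroup G)).IsFullyNormalized R) {g : G}
    (hg : g ∈ Subgroup.closure {g : G | g ∈ Subgroup.normalizer (R : Set G) ∧
      ∃ k : ℕ, orderOf g = p ^ k}) :
    ∃ hgN : g ∈ Subgroup.normalizer (R : Set G), conjAut R g hgN ∈ E.autGroup R := by
  have hF := Cfsg.Agent.S5076.result p S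
  have hSp : IsPGroup p ↥(S : Subgroup G) := S.isPGroup'
  have hRS : R ≤ (S : Subgroup G) := hRn.1
  have hfinR : Finite R := finite_of_le hRS
  have hfa := (saturated_fullyNormalized hSp _ hF hRn).2.1
  obtain ⟨Syl, hSyl⟩ := hfa.2
  have hNn : ((E.autGroup R).subgroupOf
      ((groupFusionSystem (S : Subgroup G)).autGroup R)).Normal := by
    constructor
    intro n hn a
    rw [Subgroup.mem_subgroupOf] at hn ⊢
    exact autGroup_conj_mem hinv hRS a.2 hn
  have hSylN : (Syl : Subgroup ((groupFusionSystem (S : Subgroup G)).autGroup R)) ≤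
      (E.autGroup R).subgroupOf ((groupFusionSystem (S : Subgroup G)).autGroup R) := by
    rw [hSyl]
    intro b hb
    rw [Subgroup.mem_subgroupOf] at hb ⊢
    exact autInducedBy_le_autGroup E hRS hb
  have hstep : ∀ (h : G) (hh : h ∈ Subgroup.normalizer (R : Set G)) (k : ℕ),
      orderOf h = p ^ k → conjAut R h hh ∈ E.autGroup R := by
    intro h hh k hk
    have hmemF : conjAut R h hh ∈ (groupFusionSystem (S : Subgroup G)).autGroup R := by
      rw [mem_autGroup_iff _ hRS]
      exact ⟨hRS, fun x => hRS (conjAut R h hh x).2, h, fun x => rfl⟩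
    have hpow : (⟨conjAut R h hh, hmemF⟩ :
        (groupFusionSystem (S : Subgroup G)).autGroup R) ^ (p ^ k) = 1 := by
      apply Subtype.ext
      show (conjAut R h hh) ^ (p ^ k) = 1
      unfold conjAut
      rw [← map_pow]
      have e : (⟨h, hh⟩ : Subgroup.normalizer (R : Set G)) ^ (p ^ k) = 1 := by
        apply Subtype.ext
        show h ^ (p ^ k) = 1
        rw [← hk]
        exact pow_orderOf_eq_one h
      rw [e, map_one]
    have := mem_of_pow_eq_one_of_sylow_le hNn Syl hSylN hpow
    exact Subgroup.mem_subgroupOf.mp this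
  have hle : Subgroup.closure {g : G | g ∈ Subgroup.normalizer (R : Set G) ∧
      ∃ k : ℕ, orderOf g = p ^ k} ≤
      ((E.autGroup R).comap (Subgroup.normalizerMonoidHom R)).map
        (Subgroup.normalizer (R : Set G)).subtype := by
    rw [Subgroup.closure_le]
    rintro h ⟨hh, k, hk⟩
    exact ⟨⟨h, hh⟩, hstep h hh k hk, rfl⟩
  obtain ⟨⟨g', hg'⟩, hmem, rfl⟩ := hle hg
  exact ⟨hg', hmem⟩

theorem result {G : Type*} [Group G] [Finite G] (p : ℕ) [Fact p.Prime] (S : Sylow p G) (hS1 : (S : Subgroup G) ≠ ⊥) (ha : ∀ T : Subgroup G, (Cfsg.groupFusionSystem (S : Subgroup G)).StronglyClosed T → T = ⊥ ∨ T = (S : Subgroup G)) (hb : Cfsg.autInducedBy ⊤ (S : Subgroup G) = ⨆ (R : Subgroup G) (_ : (Cfsg.groupFusionSystem (S : Subgroup G)).IsFullyNormalized R ∧ (Cfsg.groupFusionSystem (S : Subgroup G)).IsRadical p R ∧ (Cfsg.groupFusionSystem (S : Subgroup G)).IsCentric R), Cfsg.autInducedBy (Subgroup.closure {g : G | g ∈ Subgroup.normalizer (R : Set G) ∧ ∃ k : ℕ, orderOf g = p ^ k}) (S : Subgroup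 G)) : (Cfsg.groupFusionSystem (S : Subgroup G)).IsSimple p := by
  have hF := Cfsg.Agent.S5076.result p S
  have hSp : IsPGroup p ↥(S : Subgroup G) := S.isPGroup'
  refine ⟨hF, hS1, fun T E hE => ?_⟩
  have hT := hE.1.2.2.2.1
  rcases ha T hT with h | h
  · exact Or.inl h
  · right
    subst h
    refine ⟨rfl, fun P => ?_⟩
    obtain ⟨⟨hEsat, -, hinv⟩, -⟩ := hE
    have hsub := hinv.1
    have hAut : ∀ α ∈ (groupFusionSystem (S : Subgroup G)).autGroup (S : Subgroup G),
        α ∈ E.autGroup (S : Subgroup G) := by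
      intro α hα
      have hα' : α ∈ autInducedBy ⊤ (S : Subgroup G) := by
        obtain ⟨-, -, g, hg⟩ := (mem_autGroup_iff _ le_rfl).mp hα
        exact Subgroup.subset_closure ⟨g, Subgroup.mem_top g, fun x => hg x⟩
      rw [hb] at hα'
      refine (iSup_le fun R => iSup_le fun hR => ?_ :
        (⨆ (R : Subgroup G) (_ : (groupFusionSystem (S : Subgroup G)).IsFullyNormalized R ∧
          (groupFusionSystem (S : Subgroup G)).IsRadical p R ∧
          (groupFusionSystem (S : Subgroup G)).IsCentric R),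
          autInducedBy (Subgroup.closure {g : G | g ∈ Subgroup.normalizer (R : Set G) ∧
            ∃ k : ℕ, orderOf g = p ^ k}) (S : Subgroup G)) ≤ E.autGroup (S : Subgroup G)) hα'
      unfold autInducedBy
      rw [Subgroup.closure_le]
      rintro β ⟨g, hgK, hgβ⟩
      obtain ⟨hgN, hconj⟩ := conj_mem_of_mem_closure p S E hinv hR.1 hgK
      have hRS : R ≤ (S : Subgroup G) := hR.1.1
      have hφR : ∀ x : R, R.subtype x ∈ (S : Subgroup G) := fun x => hRS x.2
      have hψ : (S : Subgroup G).subtype.comp β.toMonoidHom ∈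
          (groupFusionSystem (S : Subgroup G)).Hom (S : Subgroup G) :=
        ⟨le_rfl, fun x => (β x).2, g, fun x => hgβ x⟩
      have h3 := (Cfsg.Agent.S5334.result p hSp _ hF E hEsat (fun P => hsub P) R (S : Subgroup G)
        hR.2.2 (Cfsg.Agent.S5335.isCentric_top _) R.subtype (subtype_mem _ hRS) hφR _ hψ).2.2
      have hcomp : ((S : Subgroup G).subtype.comp β.toMonoidHom).comp
          (R.subtype.codRestrict (S : Subgroup G) hφR) ∈ E.Hom R := by
        refine mem_of_forall_eq E ((mem_autGroup_iff E hRS).mp hconj) (fun x => ?_)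
        show ((β ⟨x, hRS x.2⟩ : (S : Subgroup G)) : G) = ((conjAut R g hgN x : R) : G)
        rw [hgβ, conjAut_apply]
      exact (mem_autGroup_iff E le_rfl).mpr (h3 (subtype_mem E hRS) hcomp)
    apply Set.eq_of_subset_of_subset (hsub P)
    intro φ hφ
    have hPT : P ≤ (S : Subgroup G) := ((groupFusionSystem (S : Subgroup G)).le_of_mem hφ).1
    obtain ⟨α, hα, φ₀, hφ₀, h⟩ := hinv.2.2.2 P hPT φ hφ
    have hαE := (mem_autGroup_iff E le_rfl).mp (hAut α hα)
    have hφ₀T := (E.le_of_mem hφ₀).2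
    have hcomp := E.comp_mem hφ₀ hαE hφ₀T
    refine mem_of_forall_eq E hcomp (fun x => ?_)
    rw [h x (hφ₀T x)]
    rfl

end Cfsg.Agent.S5160
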