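import Mathlib
import Cfsg.Statements.S0532

set_option autoImplicit false
open Cfsg

namespace Cfsg.Agent.S0532

universe u

theorem hasSub_of_mulEquiv {G : Type*} {G' : Type*} [Group G] [Group G'] (e : G ≃* G')
    (h : HasSubgroupOfEveryOrder G) : HasSubgroupOfEveryOrder G' := by
  intro d hd
  rw [← Nat.card_congr e.toEquiv] at hd
  obtain ⟨H, hH⟩ := h d hd
  refine ⟨H.map e.toMonoidHom, ?_⟩
  rw [Subgroup.card_map_of_injective e.injective, hH]

theorem hasSub_self {G : Type*} [Group G] (h : ∀ H : Subgroup G, HasSubgroupOfEveryOrder H) :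
    HasSubgroupOfEveryOrder G :=
  hasSub_of_mulEquiv Subgroup.topEquiv (h ⊤)

theorem hasSub_sub {G : Type*} [Group G] (h : ∀ H : Subgroup G, HasSubgroupOfEveryOrder H)
    (M : Subgroup G) : ∀ L : Subgroup M, HasSubgroupOfEveryOrder L := by
  intro L
  exact hasSub_of_mulEquiv (Subgroup.equivMapOfInjective L M.subtype M.subtype_injective).symm
    (h (L.map M.subtype))

theorem aux (n : ℕ) : ∀ (G : Type u) [Group G] [Finite G], Nat.card G = n →
    (∀ H : Subgroup G, HasSubgroupOfEveryOrder H) → ∀ (p : ℕ) [Fact p.Prime], p ∣ Nat.card G →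
    (∀ q : ℕ, q.Prime → q ∣ Nat.card G → q ≤ p) → ∀ P : Sylow p G, (P : Subgroup G).Normal := by
  induction n using Nat.strong_induction_on with
  | _ n ih =>
    intro G _ _ hn h p hp hdvd hmax P
    have hpp : p.Prime := hp.out
    have hcard_pos : 0 < Nat.card G := Nat.card_pos
    have hcard1 : Nat.card G ≠ 1 := by
      intro h1
      rw [h1] at hdvd
      exact hpp.one_lt.ne' (Nat.dvd_one.mp hdvd)
    set q := (Nat.card G).minFac with hq
    have hqp : q.Prime := Nat.minFac_prime hcard1
    have hqd : q ∣ Nat.card G := Nat.minFac_dvd _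
    have hqle : q ≤ p := hmax q hqp hqd
    by_cases hqeq : q = p
    · have hpow : Nat.card G = p ^ (Nat.card G).primeFactorsList.length := by
        apply Nat.eq_prime_pow_of_unique_prime_dvd hcard_pos.ne'
        intro r hr hrd
        have h1 : q ≤ r := Nat.minFac_le_of_dvd hr.two_le hrd
        have h2 : r ≤ p := hmax r hr hrd
        omega
      have hG : IsPGroup p G := IsPGroup.of_card hpow
      have htop : IsPGroup p (⊤ : Subgroup G) := hG.to_subgroup ⊤
      have : (⊤ : Subgroup G) = P := P.is_maximal' htop le_top
      rw [← this]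
      infer_instance
    · have hqlt : q < p := lt_of_le_of_ne hqle hqeq
      obtain ⟨m, hm⟩ := hqd
      have hmd : m ∣ Nat.card G := ⟨q, by rw [hm]; ring⟩
      obtain ⟨M, hM⟩ := hasSub_self h m hmd
      have hMidx : M.index = q := by
        have := Subgroup.card_mul_index M
        rw [hM, hm] at this
        have hmpos : 0 < m := by
          rcases Nat.eq_zero_or_pos m with h0 | h0
          · rw [h0, mul_zero] at hm; omega
          · exact h0
        have : m * M.index = m * q := by rw [this]; ring
        exact Nat.eq_of_mul_eq_mul_left hmpos this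
      haveI hMn : M.Normal := Subgroup.normal_of_index_eq_minFac_card (by rw [hMidx])
      have hPM : (P : Subgroup G) ≤ M := by
        rw [← Subgroup.relIndex_eq_one]
        have h1 : M.relIndex ((P : Subgroup G) ⊔ M) ∣ M.index :=
          Subgroup.relIndex_dvd_index_of_le le_sup_right
        rw [Subgroup.relIndex_sup_right, hMidx] at h1
        have h2 : M.relIndex (P : Subgroup G) ∣ Nat.card (P : Subgroup G) :=
          Subgroup.relIndex_dvd_card M (P : Subgroup G)
        obtain ⟨k, hk⟩ := IsPGroup.iff_card.mp P.isPGroup'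
        rw [hk] at h2
        have hcop : Nat.Coprime q (p ^ k) := by
          apply Nat.Coprime.pow_right
          exact (Nat.coprime_primes hqp hpp).mpr hqeq
        exact Nat.eq_one_of_dvd_coprimes hcop h1 h2
      have hMlt : Nat.card M < n := by
        rw [← hn, hM, hm]
        have := hqp.two_le
        have hmpos : 0 < m := by
          rcases Nat.eq_zero_or_pos m with h0 | h0
          · rw [h0, mul_zero] at hm; omega
          · exact h0
        nlinarith
      have hpM : p ∣ Nat.card M := by
        rw [hM]
        have : p ∣ q * m := by rw [← hm]; exact hdvd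
        rcases (Nat.Prime.dvd_mul hpp).mp this with h1 | h1
        · exfalso
          have := (Nat.prime_dvd_prime_iff_eq hpp hqp).mp h1
          omega
        · exact h1
      have hmaxM : ∀ r : ℕ, r.Prime → r ∣ Nat.card M → r ≤ p := by
        intro r hr hrd
        exact hmax r hr (hrd.trans (Subgroup.card_subgroup_dvd_card M))
      have hnorm := ih _ hMlt M rfl (hasSub_sub h M) p hpM hmaxM (P.subtype hPM)
      rw [Sylow.coe_subtype] at hnorm
      haveI hchar : ((P : Subgroup G).subgroupOf M).Characteristic := by
        have := Sylow.characteristic_of_normal (P.subtype hPM) (by rw [Sylow.coe_subtype]; exact hnorm)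
        rwa [Sylow.coe_subtype] at this
      have := ConjAct.normal_of_characteristic_of_normal (H := M) (K := (P : Subgroup G).subgroupOf M)
      rwa [Subgroup.map_subgroupOf_eq_of_le hPM] at this

theorem result {G : Type*} [Group G] [Finite G] (h : ∀ H : Subgroup G, Cfsg.HasSubgroupOfEveryOrder H) (p : ℕ) [Fact p.Prime] (hdvd : p ∣ Nat.card G) (hmax : ∀ q : ℕ, q.Prime → q ∣ Nat.card G → q ≤ p) (P : Sylow p G) : (P : Subgroup G).Normal := by
  exact aux _ G rfl h p hdvd hmax P

end Cfsg.Agent.S0532
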