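import Cfsg.Statements.S0346
import Cfsg.Agent.Lib.helper6.ZassFeitNB
import Cfsg.Agent.S0738
import Cfsg.Agent.S0741

set_option autoImplicit false
open Cfsg

namespace Cfsg.Agent.S0346

/-- The number of points of a finite simple Zassenhaus group is `p^k + 1` for some prime power `p^k` (the regular normal
subgroup of a point stabiliser is a `p`-group). -/
theorem result {G Ω : Type*} [Group G] [Finite G] [MulAction G Ω] [Fintype Ω]
    (hZ : Cfsg.IsZassenhausGroup G Ω) [IsSimpleGroup G] :
    IsPrimePow (Fintype.card Ω - 1) := by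
  classical
  open MulAction Cfsg.Agent.Lib.helper6.ZassPSL3 Cfsg.Agent.Lib.helper6.ZassFeit
    Cfsg.Agent.Lib.helper6.ZassNormal in
  have D := ZData.of_zass hZ
  haveI := D.faithful
  obtain ⟨g0, hg01, a, b, hab, hg0a, hg0b⟩ := hZ.2.2.2.1
  obtain ⟨KG, hnil, hkfix, hkfpf, hktr, hknorm⟩ :=
    Cfsg.Agent.Lib.helper6.ZassReg.kernel_data (fun h1 h2 => D.two h1 h2) D.three hab hg01 hg0a hg0b
  have Z : ZK G Ω a b KG := ⟨fun h1 h2 => D.two h1 h2, D.three, hab, hkfix, hkfpf, hktr, hknorm⟩
  have hcard := card_KG Z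
  have hKle : KG ≤ MulAction.stabilizer G a := KG_le Z
  obtain ⟨e0, he0a, he0b⟩ := exists_third hg01 hg0a hg0b
  have hn3 : 3 ≤ Fintype.card Ω := by
    rw [← Finset.card_univ]
    have h3 : ({a, b, e0} : Finset Ω).card = 3 := by
      rw [Finset.card_insert_of_notMem, Finset.card_pair (Ne.symm he0b)]
      simp only [Finset.mem_insert, Finset.mem_singleton, not_or]
      exact ⟨hab, Ne.symm he0a⟩
    rw [← h3]
    exact Finset.card_le_card (Finset.subset_univ _)
  set e := Nat.card ↥(MulAction.stabilizer G a ⊓ MulAction.stabilizer G b : Subgroup G) with he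
  by_cases hd : Fintype.card Ω - 2 ≤ 2 * e
  · -- the elementary abelian case
    have hFn : (KG.subgroupOf (MulAction.stabilizer G a)).Normal := by
      constructor
      intro n hn g
      rw [Subgroup.mem_subgroupOf] at hn ⊢
      have hg : (g : G) • a = a := MulAction.mem_stabilizer_iff.mp g.2
      have := hknorm (g : G) hg (n : G) hn
      simpa using this
    have hreg : ∀ y z : Ω, y ≠ a → z ≠ a → ∃! u : KG, (u : G) • y = z := by
      intro y z hy hz
      obtain ⟨k, hk, hkyz⟩ := hktr y z hy hz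
      refine ⟨⟨k, hk⟩, hkyz, ?_⟩
      intro u hu
      by_contra hne
      have h1 : ((k : G)⁻¹ * (u : G)) • y = y := by
        rw [mul_smul, hu, ← hkyz, inv_smul_smul]
      have h2 : (k : G)⁻¹ * (u : G) ≠ 1 := by
        intro h
        apply hne
        apply Subtype.ext
        have : (u : G) = k * (k⁻¹ * (u : G)) := by group
        rw [this, h, mul_one]
      exact hkfpf _ (KG.mul_mem (KG.inv_mem hk) u.2) h2 y hy h1
    obtain ⟨-, p, f, hp, -, hpf⟩ := Cfsg.Agent.S0738.result hZ hab hd KG hKle hFn hreg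
    rw [hpf, Nat.add_sub_cancel]
    have hf : f ≠ 0 := by
      intro h0
      rw [h0, pow_zero] at hpf
      omega
    exact ⟨p, f, hp.prime, Nat.pos_of_ne_zero hf, rfl⟩
  · push Not at hd
    have hodd : Odd e := by
      rcases Nat.even_or_odd e with hev | hodd
      · exfalso
        have := Cfsg.Agent.S0741.result hZ hab hev
        omega
      · exact hodd
    have hh : Fintype.card Ω = (Fintype.card Ω - 1) + 1 := by omega
    have hlt : 2 * e < (Fintype.card Ω - 1) - 1 := by omega
    have hHfix : ∀ u ∈ KG, u ≠ 1 → ∀ c : Ω, u • c = c → c = a := by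
      intro u hu hu1 c hc
      by_contra hne
      exact hkfpf u hu hu1 c hne hc
    obtain ⟨hP, -, -⟩ := Cfsg.Agent.Lib.helper6.ZassFeitNA.feit_simple hZ hab
      (Fintype.card Ω - 1) e hh he.symm hodd hlt KG hKle hcard hHfix
    obtain ⟨k, hk⟩ := IsPGroup.iff_card.mp hP
    have hcard' : Fintype.card Ω - 1 = 2 ^ k := by omega
    rw [hcard']
    have hk0 : k ≠ 0 := by
      intro h0
      rw [h0, pow_zero] at hcard'
      omega
    exact ⟨2, k, Nat.prime_two.prime, Nat.pos_of_ne_zero hk0, rfl⟩

end Cfsg.Agent.S0346
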