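import Cfsg.Statements.S0802

import Cfsg.Agent.S0808
import Cfsg.Agent.Lib.Helper24.OrderTwelve
set_option autoImplicit false
open Cfsg

namespace Cfsg.Agent.S0802


open Cfsg.Agent.S0807 Cfsg.Agent.S0808

section Abstract

open scoped Pointwise

variable {G : Type*} [Group G]

theorem exists_A4 [Finite G] (a b g : G) (hp : IsPair (a, b))
    (hga : g * a * g⁻¹ = b) (hgb : g * b * g⁻¹ = a * b) (hg3 : g ^ 3 = 1)
    (hC : ∀ z : G, orderOf z = 2 → z * a = a * z → z * b = b * z → z * g = g * z → False) :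
    ∃ H : Subgroup G, Nonempty (H ≃* alternatingGroup (Fin 4)) := by
  have haa : a * a = 1 := sq_of_order_two' hp.1
  have hbb : b * b = 1 := sq_of_order_two' hp.2.1
  have hab : a * b = b * a := hp.2.2.2
  have hne : a ≠ b := hp.2.2.1
  have hgab : g * (a * b) * g⁻¹ = a := by
    calc g * (a * b) * g⁻¹ = (g * a * g⁻¹) * (g * b * g⁻¹) := by group
      _ = b * (a * b) := by rw [hga, hgb]
      _ = a := by rw [← mul_assoc, ← hab, mul_assoc, hbb, mul_one]
  have hg1 : g ≠ 1 := by
    rintro rfl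
    apply hne
    simpa using hga
  have hord : orderOf g = 3 := orderOf_eq_prime hg3 hg1
  have hV4 : Nat.card (pairSubgroup a b haa hbb hab) = 4 :=
    (pairSubgroup_klein a b haa hbb hab (ne_one_of_order_two hp.1)
      (ne_one_of_order_two hp.2.1) hne).card_four
  have hZ3 : Nat.card (Subgroup.zpowers g) = 3 := by rw [Nat.card_zpowers, hord]
  have hfwd : ∀ h : G, h ∈ pairSubgroup a b haa hbb hab →
      g * h * g⁻¹ ∈ pairSubgroup a b haa hbb hab := by
    rintro h (rfl | rfl | rfl | rfl)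
    · exact Or.inl (by group)
    · exact Or.inr (Or.inr (Or.inl hga))
    · exact Or.inr (Or.inr (Or.inr hgb))
    · exact Or.inr (Or.inl hgab)
  have hg3' : g * g * g = 1 := by rw [← hg3, pow_succ, pow_two]
  have hnorm : g ∈ Subgroup.normalizer ((pairSubgroup a b haa hbb hab : Subgroup G) : Set G) := by
    rw [Subgroup.mem_normalizer_iff]
    intro h
    constructor
    · exact hfwd h
    · intro hh
      have h2 := hfwd _ (hfwd _ hh)
      have e : g * (g * (g * h * g⁻¹) * g⁻¹) * g⁻¹ = h := by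
        calc g * (g * (g * h * g⁻¹) * g⁻¹) * g⁻¹ = (g * g * g) * h * (g * g * g)⁻¹ := by group
          _ = h := by rw [hg3']; group
      rw [e] at h2
      exact h2
  have hle : Subgroup.zpowers g ≤
      Subgroup.normalizer ((pairSubgroup a b haa hbb hab : Subgroup G) : Set G) :=
    Subgroup.zpowers_le.mpr hnorm
  have hcoe := Subgroup.coe_mul_of_left_le_normalizer_right (Subgroup.zpowers g)
    (pairSubgroup a b haa hbb hab) hle
  have hcard_le : Nat.card (Subgroup.zpowers g ⊔ pairSubgroup a b haa hbb hab : Subgroup G) ≤ 12 := by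
    have h1 : Nat.card (Subgroup.zpowers g ⊔ pairSubgroup a b haa hbb hab : Subgroup G) =
        Nat.card ((Subgroup.zpowers g : Set G) * (pairSubgroup a b haa hbb hab : Set G) : Set G) := by
      rw [← hcoe]
      rfl
    rw [h1]
    refine le_trans Set.natCard_mul_le ?_
    have e1 : Nat.card ((Subgroup.zpowers g : Subgroup G) : Set G) = 3 := hZ3
    have e2 : Nat.card ((pairSubgroup a b haa hbb hab : Subgroup G) : Set G) = 4 := hV4
    rw [e1, e2]
  have hd3 : 3 ∣ Nat.card (Subgroup.zpowers g ⊔ pairSubgroup a b haa hbb hab : Subgroup G) := by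
    rw [← hZ3]
    exact Subgroup.card_dvd_of_le le_sup_left
  have hd4 : 4 ∣ Nat.card (Subgroup.zpowers g ⊔ pairSubgroup a b haa hbb hab : Subgroup G) := by
    rw [← hV4]
    exact Subgroup.card_dvd_of_le le_sup_right
  have hcard : Nat.card (Subgroup.zpowers g ⊔ pairSubgroup a b haa hbb hab : Subgroup G) = 12 := by
    have h12 : 12 ∣ Nat.card (Subgroup.zpowers g ⊔ pairSubgroup a b haa hbb hab : Subgroup G) :=
      Nat.Coprime.mul_dvd_of_dvd_of_dvd (by norm_num) hd3 hd4
    have hpos : 0 < Nat.card (Subgroup.zpowers g ⊔ pairSubgroup a b haa hbb hab : Subgroup G) :=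
      Nat.card_pos
    obtain ⟨c, hc⟩ := h12
    have : c = 1 := by
      rcases c with _ | _ | c
      · omega
      · rfl
      · omega
    omega
  refine ⟨Subgroup.zpowers g ⊔ pairSubgroup a b haa hbb hab, ?_⟩
  apply Cfsg.Agent.Lib.Helper24.o12_main hcard
  intro z hz hzc
  rw [Subgroup.mem_center_iff] at hzc
  have haH : a ∈ Subgroup.zpowers g ⊔ pairSubgroup a b haa hbb hab :=
    (le_sup_right : pairSubgroup a b haa hbb hab ≤ _) (Or.inr (Or.inl rfl))
  have hbH : b ∈ Subgroup.zpowers g ⊔ pairSubgroup a b haa hbb hab :=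
    (le_sup_right : pairSubgroup a b haa hbb hab ≤ _) (Or.inr (Or.inr (Or.inl rfl)))
  have hgH : g ∈ Subgroup.zpowers g ⊔ pairSubgroup a b haa hbb hab :=
    (le_sup_left : Subgroup.zpowers g ≤ _) (Subgroup.mem_zpowers g)
  have hza : (z : G) * a = a * z := by
    have := congrArg Subtype.val (hzc ⟨a, haH⟩)
    exact this.symm
  have hzb : (z : G) * b = b * z := by
    have := congrArg Subtype.val (hzc ⟨b, hbH⟩)
    exact this.symm
  have hzg : (z : G) * g = g * z := by
    have := congrArg Subtype.val (hzc ⟨g, hgH⟩)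
    exact this.symm
  have hzo : orderOf (z : G) = 2 := by rw [Subgroup.orderOf_coe]; exact hz
  exact hC z hzo hza hzb hzg

theorem no_fix (a b g : G) (hp : IsPair (a, b))
    (hga : g * a * g⁻¹ = b) (hgb : g * b * g⁻¹ = a * b) (z : G)
    (hz : z ∈ pairSubgroup a b (sq_of_order_two' hp.1) (sq_of_order_two' hp.2.1) hp.2.2.2)
    (hgz : g * z * g⁻¹ = z) : z = 1 := by
  have haa : a * a = 1 := sq_of_order_two' hp.1
  have hbb : b * b = 1 := sq_of_order_two' hp.2.1
  have hab : a * b = b * a := hp.2.2.2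
  have hne : a ≠ b := hp.2.2.1
  have ha1 : a ≠ 1 := ne_one_of_order_two hp.1
  have hb1 : b ≠ 1 := ne_one_of_order_two hp.2.1
  have hgab : g * (a * b) * g⁻¹ = a := by
    calc g * (a * b) * g⁻¹ = (g * a * g⁻¹) * (g * b * g⁻¹) := by group
      _ = b * (a * b) := by rw [hga, hgb]
      _ = a := by rw [← mul_assoc, ← hab, mul_assoc, hbb, mul_one]
  rcases hz with rfl | rfl | rfl | rfl
  · rfl
  · exfalso
    rw [hga] at hgz
    exact hne hgz.symm
  · exfalso
    rw [hgb] at hgz
    apply ha1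
    have : a * z = 1 * z := by rw [one_mul]; exact hgz
    exact mul_right_cancel this
  · exfalso
    rw [hgab] at hgz
    apply hb1
    have : a * 1 = a * b := by rw [mul_one]; exact hgz
    exact (mul_left_cancel this).symm

end Abstract

section OddCase

variable {F : Type*} [Field F] [Fintype F]

theorem exists_A4_odd (hodd : Fintype.card F % 2 = 1) (h2 : (2 : F) ≠ 0) :
    ∃ H : Subgroup (Matrix.ProjectiveSpecialLinearGroup (Fin 2) F),
      Nonempty (H ≃* alternatingGroup (Fin 4)) := by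
  have hP := two_mul_card_pairs hodd h2
  have hpos : 0 < Nat.card (Matrix.ProjectiveSpecialLinearGroup (Fin 2) F) := Nat.card_pos
  have hne : Nonempty {p : Matrix.ProjectiveSpecialLinearGroup (Fin 2) F ×
      Matrix.ProjectiveSpecialLinearGroup (Fin 2) F // IsPair p} := by
    by_contra h
    rw [not_nonempty_iff] at h
    have := Nat.card_of_isEmpty (α := {p : Matrix.ProjectiveSpecialLinearGroup (Fin 2) F ×
      Matrix.ProjectiveSpecialLinearGroup (Fin 2) F // IsPair p})
    omega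
  obtain ⟨⟨⟨a, b⟩, hp⟩⟩ := hne
  obtain ⟨X, Y, hX, hY, hq⟩ := exists_anti_of_pair h2 (a, b) hp
  obtain ⟨g, hg1, hg2⟩ := conj_rot h2 X Y hq
  simp only at hX hY
  rw [hX, hY] at hg1 hg2
  have hstab := stab_pair h2 (a, b) hp
  have hgab : g * (a * b) * g⁻¹ = a := by
    have hbb : b * b = 1 := sq_of_order_two' hp.2.1
    have hab : a * b = b * a := hp.2.2.2
    calc g * (a * b) * g⁻¹ = (g * a * g⁻¹) * (g * b * g⁻¹) := by group
      _ = b * (a * b) := by rw [hg1, hg2]
      _ = a := by rw [← mul_assoc, ← hab, mul_assoc, hbb, mul_one]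
  have e3 : g ^ 3 = g * g * g := by rw [pow_succ, pow_two]
  have hg3 : g ^ 3 = 1 := by
    rw [e3]
    apply no_fix a b g hp hg1 hg2
    · rw [← hstab]
      constructor
      · show g * g * g * a * (g * g * g)⁻¹ = a
        calc g * g * g * a * (g * g * g)⁻¹ = g * (g * (g * a * g⁻¹) * g⁻¹) * g⁻¹ := by group
          _ = a := by rw [hg1, hg2, hgab]
      · show g * g * g * b * (g * g * g)⁻¹ = b
        calc g * g * g * b * (g * g * g)⁻¹ = g * (g * (g * b * g⁻¹) * g⁻¹) * g⁻¹ := by group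
          _ = b := by rw [hg2, hgab, hg1]
    · group
  apply exists_A4 a b g hp hg1 hg2 hg3
  intro z hz hza hzb hzg
  have hzV : z ∈ pairSubgroup a b (sq_of_order_two' hp.1) (sq_of_order_two' hp.2.1) hp.2.2.2 := by
    rw [← hstab]
    exact ⟨mul_inv_eq_iff_eq_mul.mpr hza, mul_inv_eq_iff_eq_mul.mpr hzb⟩
  have hz1 := no_fix a b g hp hg1 hg2 z hzV (mul_inv_eq_iff_eq_mul.mpr hzg.symm)
  exact ne_one_of_order_two hz hz1

end OddCase

section EvenCase

open Cfsg.Agent.S2508 Cfsg.Agent.Lib.helper15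

variable {F : Type*} [Field F] [Fintype F]

theorem mk_inj_char2 (h2 : (2 : F) = 0) (A B : Matrix.SpecialLinearGroup (Fin 2) F)
    (h : (QuotientGroup.mk A : Matrix.ProjectiveSpecialLinearGroup (Fin 2) F) = QuotientGroup.mk B) :
    A = B := by
  rw [mk_eq_iff] at h
  apply Subtype.ext
  rcases h with h | h
  · exact h
  · rw [h]
    ext i j
    rw [Matrix.neg_apply]
    have : (B : Matrix (Fin 2) (Fin 2) F) i j + (B : Matrix (Fin 2) (Fin 2) F) i j = 0 := by
      rw [← two_mul, h2, zero_mul]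
    linear_combination -this

theorem exists_zeta (n : ℕ) (hF : Fintype.card F = 2 ^ n) (hn : Even n) :
    ∃ ζ : F, ζ ≠ 1 ∧ ζ ^ 3 = 1 := by
  classical
  haveI : Fact (Nat.Prime 3) := ⟨Nat.prime_three⟩
  have hcard : Nat.card Fˣ = 2 ^ n - 1 := by
    rw [Nat.card_eq_fintype_card, Fintype.card_units, hF]
  have h3 : 3 ∣ Nat.card Fˣ := by
    rw [hcard]
    obtain ⟨m, rfl⟩ := hn
    have h4 : 2 ^ (m + m) = 4 ^ m := by rw [← two_mul, pow_mul]; norm_num
    rw [h4]
    have h5 : 4 ^ m % 3 = 1 := by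
      rw [Nat.pow_mod]
      norm_num
    have h6 : 1 ≤ 4 ^ m := Nat.one_le_pow _ _ (by norm_num)
    omega
  obtain ⟨x, hx⟩ := exists_prime_orderOf_dvd_card' 3 h3
  refine ⟨(x : F), ?_, ?_⟩
  · intro h
    have : x = 1 := Units.ext h
    rw [this, orderOf_one] at hx
    omega
  · have := pow_orderOf_eq_one x
    rw [hx] at this
    have h7 := congrArg Units.val this
    rw [Units.val_pow_eq_pow_val, Units.val_one] at h7
    exact h7

theorem exists_A4_even (h2 : (2 : F) = 0) (ζ : F) (hζ1 : ζ ≠ 1) (hζ3 : ζ ^ 3 = 1) :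
    ∃ H : Subgroup (Matrix.ProjectiveSpecialLinearGroup (Fin 2) F),
      Nonempty (H ≃* alternatingGroup (Fin 4)) := by
  have hζ0 : ζ ≠ 0 := by
    rintro rfl
    norm_num at hζ3
  have hζq : ζ ^ 2 + ζ + 1 = 0 := by
    have h : (ζ - 1) * (ζ ^ 2 + ζ + 1) = 0 := by linear_combination hζ3
    rcases mul_eq_zero.mp h with h | h
    · exact absurd (sub_eq_zero.mp h) hζ1
    · exact h
  have hζ2 : ζ ^ 2 ≠ 1 := by
    intro h
    apply hζ1
    have : ζ * ζ ^ 2 = 1 := by linear_combination hζ3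
    rw [h, mul_one] at this
    exact this
  have hone : (1 : F) + 1 = 0 := by rw [one_add_one_eq_two]; exact h2
  have hdT : (!![ζ, 0; 0, ζ ^ 2] : Matrix (Fin 2) (Fin 2) F).det = 1 := by
    rw [Matrix.det_fin_two_of]
    linear_combination hζ3
  have hdU1 : (!![1, 1; 0, 1] : Matrix (Fin 2) (Fin 2) F).det = 1 := by
    rw [Matrix.det_fin_two_of]
    ring
  have hdU2 : (!![1, ζ ^ 2; 0, 1] : Matrix (Fin 2) (Fin 2) F).det = 1 := by
    rw [Matrix.det_fin_two_of]
    ring
  have hU1sq : mkSL _ hdU1 * mkSL _ hdU1 = 1 := by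
    apply Subtype.ext
    rw [Matrix.SpecialLinearGroup.coe_mul, mkSL_coe, Matrix.SpecialLinearGroup.coe_one, m2_eq_iff]
    simp only [Matrix.mul_apply, Fin.sum_univ_two, Matrix.of_apply, Matrix.cons_val',
      Matrix.cons_val_zero, Matrix.cons_val_one, Matrix.empty_val', Matrix.cons_val_fin_one,
      Matrix.one_apply_eq, Matrix.one_apply_ne (show (0 : Fin 2) ≠ 1 by decide),
      Matrix.one_apply_ne (show (1 : Fin 2) ≠ 0 by decide)]
    refine ⟨by ring, by linear_combination hone, by ring, by ring⟩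
  have hU2sq : mkSL _ hdU2 * mkSL _ hdU2 = 1 := by
    apply Subtype.ext
    rw [Matrix.SpecialLinearGroup.coe_mul, mkSL_coe, Matrix.SpecialLinearGroup.coe_one, m2_eq_iff]
    simp only [Matrix.mul_apply, Fin.sum_univ_two, Matrix.of_apply, Matrix.cons_val',
      Matrix.cons_val_zero, Matrix.cons_val_one, Matrix.empty_val', Matrix.cons_val_fin_one,
      Matrix.one_apply_eq, Matrix.one_apply_ne (show (0 : Fin 2) ≠ 1 by decide),
      Matrix.one_apply_ne (show (1 : Fin 2) ≠ 0 by decide)]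
    refine ⟨by ring, by linear_combination ζ ^ 2 * hone, by ring, by ring⟩
  have hcomm : mkSL _ hdU1 * mkSL _ hdU2 = mkSL _ hdU2 * mkSL _ hdU1 := by
    apply Subtype.ext
    rw [Matrix.SpecialLinearGroup.coe_mul, Matrix.SpecialLinearGroup.coe_mul, mkSL_coe, mkSL_coe,
      m2_eq_iff]
    simp only [Matrix.mul_apply, Fin.sum_univ_two, Matrix.of_apply, Matrix.cons_val',
      Matrix.cons_val_zero, Matrix.cons_val_one, Matrix.empty_val', Matrix.cons_val_fin_one]
    refine ⟨?_, ?_, ?_, ?_⟩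
    all_goals first | trivial | ring
  have hU1ne : mkSL _ hdU1 ≠ (1 : Matrix.SpecialLinearGroup (Fin 2) F) := by
    intro h
    have := congrArg (fun M : Matrix.SpecialLinearGroup (Fin 2) F =>
      (M : Matrix (Fin 2) (Fin 2) F) 0 1) h
    simp [mkSL_coe] at this
  have hU2ne : mkSL _ hdU2 ≠ (1 : Matrix.SpecialLinearGroup (Fin 2) F) := by
    intro h
    have := congrArg (fun M : Matrix.SpecialLinearGroup (Fin 2) F =>
      (M : Matrix (Fin 2) (Fin 2) F) 0 1) h
    simp [mkSL_coe] at this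
    exact hζ0 this
  have hU12ne : mkSL _ hdU1 ≠ mkSL _ hdU2 := by
    intro h
    have := congrArg (fun M : Matrix.SpecialLinearGroup (Fin 2) F =>
      (M : Matrix (Fin 2) (Fin 2) F) 0 1) h
    simp [mkSL_coe] at this
    exact hζ2 this.symm
  have hord : ∀ U : Matrix.SpecialLinearGroup (Fin 2) F, U * U = 1 → U ≠ 1 →
      orderOf (QuotientGroup.mk U : Matrix.ProjectiveSpecialLinearGroup (Fin 2) F) = 2 := by
    intro U hsq hne
    apply orderOf_eq_prime
    · rw [pow_two, ← QuotientGroup.mk_mul, hsq]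
      rfl
    · intro h
      apply hne
      exact mk_inj_char2 h2 U 1 h
  have hp : IsPair ((QuotientGroup.mk (mkSL _ hdU1) : Matrix.ProjectiveSpecialLinearGroup (Fin 2) F),
      (QuotientGroup.mk (mkSL _ hdU2) : Matrix.ProjectiveSpecialLinearGroup (Fin 2) F)) := by
    refine ⟨hord _ hU1sq hU1ne, hord _ hU2sq hU2ne, ?_, ?_⟩
    · intro h
      exact hU12ne (mk_inj_char2 h2 _ _ h)
    · show (QuotientGroup.mk (mkSL _ hdU1) : Matrix.ProjectiveSpecialLinearGroup (Fin 2) F) *
        QuotientGroup.mk (mkSL _ hdU2) = QuotientGroup.mk (mkSL _ hdU2) * QuotientGroup.mk (mkSL _ hdU1)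
      rw [← QuotientGroup.mk_mul, ← QuotientGroup.mk_mul, hcomm]
  have hga : (QuotientGroup.mk (mkSL _ hdT) : Matrix.ProjectiveSpecialLinearGroup (Fin 2) F) *
      QuotientGroup.mk (mkSL _ hdU1) * (QuotientGroup.mk (mkSL _ hdT))⁻¹ =
      QuotientGroup.mk (mkSL _ hdU2) := by
    apply conj_of_mat
    rw [mkSL_coe, mkSL_coe, mkSL_coe, m2_eq_iff]
    simp only [Matrix.mul_apply, Fin.sum_univ_two, Matrix.of_apply, Matrix.cons_val',
      Matrix.cons_val_zero, Matrix.cons_val_one, Matrix.empty_val', Matrix.cons_val_fin_one]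
    refine ⟨by ring, by linear_combination (-ζ) * hζ3, by ring, by ring⟩
  have hgb : (QuotientGroup.mk (mkSL _ hdT) : Matrix.ProjectiveSpecialLinearGroup (Fin 2) F) *
      QuotientGroup.mk (mkSL _ hdU2) * (QuotientGroup.mk (mkSL _ hdT))⁻¹ =
      QuotientGroup.mk (mkSL _ hdU1) * QuotientGroup.mk (mkSL _ hdU2) := by
    rw [← QuotientGroup.mk_mul]
    apply conj_of_mat
    rw [Matrix.SpecialLinearGroup.coe_mul, mkSL_coe, mkSL_coe, mkSL_coe, m2_eq_iff]
    simp only [Matrix.mul_apply, Fin.sum_univ_two, Matrix.of_apply, Matrix.cons_val',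
      Matrix.cons_val_zero, Matrix.cons_val_one, Matrix.empty_val', Matrix.cons_val_fin_one]
    refine ⟨by ring, ?_, by ring, by ring⟩
    linear_combination (-ζ ^ 2) * hζq + ζ ^ 3 * hone
  have hg3 : (QuotientGroup.mk (mkSL _ hdT) : Matrix.ProjectiveSpecialLinearGroup (Fin 2) F) ^ 3 = 1 := by
    rw [← QuotientGroup.mk_pow]
    have : (mkSL _ hdT : Matrix.SpecialLinearGroup (Fin 2) F) ^ 3 = 1 := by
      rw [pow_succ, pow_two]
      apply Subtype.ext
      rw [Matrix.SpecialLinearGroup.coe_mul, Matrix.SpecialLinearGroup.coe_mul, mkSL_coe,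
        Matrix.SpecialLinearGroup.coe_one, m2_eq_iff]
      simp only [Matrix.mul_apply, Fin.sum_univ_two, Matrix.of_apply, Matrix.cons_val',
        Matrix.cons_val_zero, Matrix.cons_val_one, Matrix.empty_val', Matrix.cons_val_fin_one,
        Matrix.one_apply_eq, Matrix.one_apply_ne (show (0 : Fin 2) ≠ 1 by decide),
        Matrix.one_apply_ne (show (1 : Fin 2) ≠ 0 by decide)]
      refine ⟨?_, ?_, ?_, ?_⟩
      all_goals first | trivial | ring1 | skip
      · linear_combination hζ3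
      · linear_combination (ζ ^ 3 + 1) * hζ3
    rw [this]
    rfl
  apply exists_A4 _ _ _ hp hga hgb hg3
  intro z hz hza hzb hzg
  obtain ⟨Z, rfl⟩ := QuotientGroup.mk_surjective z
  have e1 : Z * mkSL _ hdT = mkSL _ hdT * Z := by
    apply mk_inj_char2 h2
    rw [QuotientGroup.mk_mul, QuotientGroup.mk_mul]
    exact hzg
  have e2 : Z * mkSL _ hdU1 = mkSL _ hdU1 * Z := by
    apply mk_inj_char2 h2
    rw [QuotientGroup.mk_mul, QuotientGroup.mk_mul]
    exact hza
  have m1 := congrArg (fun M : Matrix.SpecialLinearGroup (Fin 2) F =>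
      (M : Matrix (Fin 2) (Fin 2) F)) e1
  have m2 := congrArg (fun M : Matrix.SpecialLinearGroup (Fin 2) F =>
      (M : Matrix (Fin 2) (Fin 2) F)) e2
  simp only [Matrix.SpecialLinearGroup.coe_mul, mkSL_coe] at m1 m2
  rw [m2_eq_iff] at m1 m2
  simp only [Matrix.mul_apply, Fin.sum_univ_two, Matrix.of_apply, Matrix.cons_val',
    Matrix.cons_val_zero, Matrix.cons_val_one, Matrix.empty_val', Matrix.cons_val_fin_one] at m1 m2
  obtain ⟨_, t01, t10, _⟩ := m1
  obtain ⟨_, u01, _, _⟩ := m2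
  have hζζ : ζ ^ 2 - ζ ≠ 0 := by
    intro h
    apply hζ1
    have : ζ * (ζ - 1) = 0 := by linear_combination h
    rcases mul_eq_zero.mp this with h' | h'
    · exact absurd h' hζ0
    · exact sub_eq_zero.mp h'
  have hy : (Z : Matrix (Fin 2) (Fin 2) F) 0 1 = 0 := by
    have : (Z : Matrix (Fin 2) (Fin 2) F) 0 1 * (ζ ^ 2 - ζ) = 0 := by linear_combination t01
    rcases mul_eq_zero.mp this with h | h
    · exact h
    · exact absurd h hζζ
  have hw : (Z : Matrix (Fin 2) (Fin 2) F) 1 0 = 0 := by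
    have : (Z : Matrix (Fin 2) (Fin 2) F) 1 0 * (ζ ^ 2 - ζ) = 0 := by linear_combination -t10
    rcases mul_eq_zero.mp this with h | h
    · exact h
    · exact absurd h hζζ
  have hxv : (Z : Matrix (Fin 2) (Fin 2) F) 0 0 = (Z : Matrix (Fin 2) (Fin 2) F) 1 1 := by
    linear_combination u01
  have hdet := Z.2
  rw [Matrix.det_fin_two, hy, hw, ← hxv] at hdet
  have hx1 : (Z : Matrix (Fin 2) (Fin 2) F) 0 0 = 1 := by
    have : ((Z : Matrix (Fin 2) (Fin 2) F) 0 0 - 1) ^ 2 = 0 := by
      linear_combination hdet + (1 - (Z : Matrix (Fin 2) (Fin 2) F) 0 0) * h2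
    have := pow_eq_zero_iff (by norm_num : 2 ≠ 0) |>.mp this
    exact sub_eq_zero.mp this
  have hZ1 : Z = 1 := by
    apply Subtype.ext
    rw [Matrix.SpecialLinearGroup.coe_one, m2_eq_iff]
    simp only [Matrix.one_apply_eq, Matrix.one_apply_ne (show (0 : Fin 2) ≠ 1 by decide),
      Matrix.one_apply_ne (show (1 : Fin 2) ≠ 0 by decide)]
    exact ⟨hx1, hy, hw, by rw [← hxv]; exact hx1⟩
  rw [hZ1] at hz
  have : orderOf (1 : Matrix.ProjectiveSpecialLinearGroup (Fin 2) F) = 1 := orderOf_one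
  have h1 : (QuotientGroup.mk (1 : Matrix.SpecialLinearGroup (Fin 2) F) :
      Matrix.ProjectiveSpecialLinearGroup (Fin 2) F) = 1 := rfl
  rw [h1, this] at hz
  omega

end EvenCase

section OddPower

open Cfsg.Agent.S2508 Cfsg.Agent.Lib.helper15

variable {F : Type*} [Field F]

theorem exists_root (N C : Matrix (Fin 2) (Fin 2) F) (hN0 : N ≠ 0) (htrN : N.trace = 0)
    (hdetN : N.det = 0) (hNCN : N * C * N = 0) :
    ∃ α : F, α ^ 2 - C.trace * α + C.det = 0 := by
  rw [Matrix.trace_fin_two] at htrN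
  rw [Matrix.det_fin_two] at hdetN
  have hw : N 1 1 = -N 0 0 := by linear_combination htrN
  rw [m2_eq_iff] at hNCN
  simp only [Matrix.mul_apply, Fin.sum_univ_two, Matrix.zero_apply] at hNCN
  obtain ⟨e00, e01, e10, e11⟩ := hNCN
  have hτ : C 0 0 * N 0 0 + C 0 1 * N 1 0 + C 1 0 * N 0 1 + C 1 1 * N 1 1 = 0 := by
    by_contra hne
    apply hN0
    rw [m2_eq_iff]
    simp only [Matrix.zero_apply]
    refine ⟨?_, ?_, ?_, ?_⟩
    · have : N 0 0 * (C 0 0 * N 0 0 + C 0 1 * N 1 0 + C 1 0 * N 0 1 + C 1 1 * N 1 1) = 0 := by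
        linear_combination e00 + C 1 1 * hdetN
      rcases mul_eq_zero.mp this with h | h
      · exact h
      · exact absurd h hne
    · have : N 0 1 * (C 0 0 * N 0 0 + C 0 1 * N 1 0 + C 1 0 * N 0 1 + C 1 1 * N 1 1) = 0 := by
        linear_combination e01 - C 0 1 * hdetN
      rcases mul_eq_zero.mp this with h | h
      · exact h
      · exact absurd h hne
    · have : N 1 0 * (C 0 0 * N 0 0 + C 0 1 * N 1 0 + C 1 0 * N 0 1 + C 1 1 * N 1 1) = 0 := by
        linear_combination e10 - C 1 0 * hdetN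
      rcases mul_eq_zero.mp this with h | h
      · exact h
      · exact absurd h hne
    · have : N 1 1 * (C 0 0 * N 0 0 + C 0 1 * N 1 0 + C 1 0 * N 0 1 + C 1 1 * N 1 1) = 0 := by
        linear_combination e11 + C 0 0 * hdetN
      rcases mul_eq_zero.mp this with h | h
      · exact h
      · exact absurd h hne
  rw [Matrix.trace_fin_two, Matrix.det_fin_two]
  by_cases hy : N 0 1 = 0
  · have hx : N 0 0 = 0 := by
      have : N 0 0 ^ 2 = 0 := by
        rw [hw, hy] at hdetN
        linear_combination -hdetN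
      exact pow_eq_zero_iff (by norm_num) |>.mp this
    have hz : N 1 0 ≠ 0 := by
      intro hz
      apply hN0
      rw [m2_eq_iff]
      simp only [Matrix.zero_apply]
      exact ⟨hx, hy, hz, by rw [hw, hx, neg_zero]⟩
    have hr : C 0 1 = 0 := by
      rw [hw, hx, hy] at hτ
      have : C 0 1 * N 1 0 = 0 := by linear_combination hτ
      rcases mul_eq_zero.mp this with h | h
      · exact h
      · exact absurd h hz
    refine ⟨C 1 1, ?_⟩
    rw [hr]
    ring
  · refine ⟨(C 0 0 * N 0 1 + C 0 1 * N 1 1) / N 0 1, ?_⟩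
    field_simp
    rw [hw] at hτ ⊢
    rw [hw] at hdetN
    linear_combination (-(C 0 1) * N 0 1) * hτ - (C 0 1 ^ 2) * hdetN

theorem trace_of_order_three (C : Matrix.SpecialLinearGroup (Fin 2) F) (h3 : C * C * C = 1)
    (h1 : C ≠ 1) : (C : Matrix (Fin 2) (Fin 2) F).trace = -1 := by
  have hsq := m2_sq (C : Matrix (Fin 2) (Fin 2) F) C.2
  have h3m : (C : Matrix (Fin 2) (Fin 2) F) * (C : Matrix (Fin 2) (Fin 2) F) *
      (C : Matrix (Fin 2) (Fin 2) F) = 1 := by
    rw [← Matrix.SpecialLinearGroup.coe_mul, ← Matrix.SpecialLinearGroup.coe_mul, h3,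
      Matrix.SpecialLinearGroup.coe_one]
  by_contra ht
  have ht1 : (C : Matrix (Fin 2) (Fin 2) F).trace + 1 ≠ 0 := by
    intro h
    apply ht
    linear_combination h
  have key : ((C : Matrix (Fin 2) (Fin 2) F).trace ^ 2 - 1) • (C : Matrix (Fin 2) (Fin 2) F) =
      ((C : Matrix (Fin 2) (Fin 2) F).trace + 1) • (1 : Matrix (Fin 2) (Fin 2) F) := by
    have e1 : (C : Matrix (Fin 2) (Fin 2) F) * (C : Matrix (Fin 2) (Fin 2) F) *
        (C : Matrix (Fin 2) (Fin 2) F) =
        ((C : Matrix (Fin 2) (Fin 2) F).trace ^ 2 - 1) • (C : Matrix (Fin 2) (Fin 2) F) -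
          (C : Matrix (Fin 2) (Fin 2) F).trace • (1 : Matrix (Fin 2) (Fin 2) F) := by
      rw [hsq, sub_mul, smul_mul_assoc, hsq, one_mul, smul_sub, smul_smul, sub_smul, one_smul,
        pow_two]
      abel
    rw [e1, sub_eq_iff_eq_add] at h3m
    rw [h3m, add_smul, one_smul, add_comm]
  have hscal : (C : Matrix (Fin 2) (Fin 2) F) =
      ((C : Matrix (Fin 2) (Fin 2) F).trace - 1)⁻¹ • (1 : Matrix (Fin 2) (Fin 2) F) := by
    have hfac : (C : Matrix (Fin 2) (Fin 2) F).trace ^ 2 - 1 =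
        ((C : Matrix (Fin 2) (Fin 2) F).trace + 1) * ((C : Matrix (Fin 2) (Fin 2) F).trace - 1) := by
      ring
    rw [hfac, mul_smul] at key
    have key2 := smul_right_injective (Matrix (Fin 2) (Fin 2) F) ht1 key
    have htm : (C : Matrix (Fin 2) (Fin 2) F).trace - 1 ≠ 0 := by
      intro h
      rw [h, zero_smul] at key2
      have := congrFun (congrFun key2 0) 0
      simp at this
    rw [← key2, smul_smul, inv_mul_cancel₀ htm, one_smul]
  set c := ((C : Matrix (Fin 2) (Fin 2) F).trace - 1)⁻¹ with hc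
  have hdet := C.2
  rw [hscal, Matrix.det_smul, Matrix.det_one, Fintype.card_fin, mul_one] at hdet
  have hc3 : c ^ 3 = 1 := by
    rw [hscal] at h3m
    simp only [smul_mul_assoc, mul_smul_comm, mul_one, smul_smul] at h3m
    have := congrFun (congrFun h3m 0) 0
    simp only [Matrix.smul_apply, Matrix.one_apply_eq, smul_eq_mul, mul_one] at this
    linear_combination this
  have hc1 : c = 1 := by
    have : c * c ^ 2 = 1 := by linear_combination hc3
    rw [hdet, mul_one] at this
    exact this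
  apply h1
  apply Subtype.ext
  rw [hscal, hc1, one_smul]
  rfl

variable [Fintype F]

theorem even_of_root (h2 : (2 : F) = 0) (n : ℕ) (hF : Fintype.card F = 2 ^ n) (α : F)
    (hα : α ^ 2 + α + 1 = 0) : Even n := by
  classical
  by_contra hn
  rw [Nat.not_even_iff_odd] at hn
  have hα3 : α ^ 3 = 1 := by linear_combination (α - 1) * hα
  have hα1 : α ≠ 1 := by
    rintro rfl
    have : (1 : F) = 0 := by linear_combination hα - h2
    exact one_ne_zero this
  have hα0 : α ≠ 0 := by
    rintro rfl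
    norm_num at hα3
  have hu3 : (Units.mk0 α hα0) ^ 3 = 1 := by
    apply Units.ext
    rw [Units.val_pow_eq_pow_val, Units.val_mk0, hα3, Units.val_one]
  have hu1 : Units.mk0 α hα0 ≠ 1 := by
    intro h
    apply hα1
    have := congrArg Units.val h
    simpa using this
  have hord : orderOf (Units.mk0 α hα0) = 3 := orderOf_eq_prime hu3 hu1
  have hdvd : 3 ∣ Nat.card Fˣ := by
    rw [← hord]
    exact orderOf_dvd_natCard _
  rw [Nat.card_eq_fintype_card, Fintype.card_units, hF] at hdvd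
  obtain ⟨m, rfl⟩ := hn
  have h4 : 2 ^ (2 * m + 1) = 2 * 4 ^ m := by rw [pow_succ, pow_mul]; norm_num; ring
  rw [h4] at hdvd
  have h5 : 4 ^ m % 3 = 1 := by
    rw [Nat.pow_mod]
    norm_num
  have h6 : 1 ≤ 4 ^ m := Nat.one_le_pow _ _ (by norm_num)
  omega

theorem mem_alt_of_swaps (i j k l : Fin 4) (hij : i ≠ j) (hkl : k ≠ l) :
    Equiv.swap i j * Equiv.swap k l ∈ alternatingGroup (Fin 4) := by
  rw [Equiv.Perm.mem_alternatingGroup, Equiv.Perm.sign_mul, Equiv.Perm.sign_swap hij,
    Equiv.Perm.sign_swap hkl]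
  rfl

def s1 : alternatingGroup (Fin 4) :=
  ⟨Equiv.swap 0 1 * Equiv.swap 2 3, mem_alt_of_swaps 0 1 2 3 (by decide) (by decide)⟩

def s2 : alternatingGroup (Fin 4) :=
  ⟨Equiv.swap 0 2 * Equiv.swap 1 3, mem_alt_of_swaps 0 2 1 3 (by decide) (by decide)⟩

def t3 : alternatingGroup (Fin 4) :=
  ⟨Equiv.swap 1 2 * Equiv.swap 2 3, mem_alt_of_swaps 1 2 2 3 (by decide) (by decide)⟩

theorem no_A4 (h2 : (2 : F) = 0) (n : ℕ) (hF : Fintype.card F = 2 ^ n) (hn : Odd n)
    (H : Subgroup (Matrix.ProjectiveSpecialLinearGroup (Fin 2) F))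
    (e : H ≃* alternatingGroup (Fin 4)) : False := by
  have hs1 : s1 * s1 = 1 := by decide
  have hs1ne : s1 ≠ 1 := by decide
  have hs2 : s2 * s2 = 1 := by decide
  have hs12 : s2 * s1 = s1 * s2 := by decide
  have ht3 : t3 * t3 * t3 = 1 := by decide
  have htne : t3 ≠ 1 := by decide
  have htc : t3 * s1 = s2 * t3 := by decide
  generalize s1 = σ₁ at *
  generalize s2 = σ₂ at *
  generalize t3 = τ at *
  have tr : ∀ x y : alternatingGroup (Fin 4),
      ((e.symm (x * y) : H) : Matrix.ProjectiveSpecialLinearGroup (Fin 2) F) =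
        (e.symm x : H) * (e.symm y : H) := by
    intro x y
    rw [map_mul, Subgroup.coe_mul]
  obtain ⟨U₁, hU₁⟩ := QuotientGroup.mk_surjective
    ((e.symm σ₁ : H) : Matrix.ProjectiveSpecialLinearGroup (Fin 2) F)
  obtain ⟨U₂, hU₂⟩ := QuotientGroup.mk_surjective
    ((e.symm σ₂ : H) : Matrix.ProjectiveSpecialLinearGroup (Fin 2) F)
  obtain ⟨C, hC⟩ := QuotientGroup.mk_surjective
    ((e.symm τ : H) : Matrix.ProjectiveSpecialLinearGroup (Fin 2) F)
  have one_coe : ((e.symm 1 : H) : Matrix.ProjectiveSpecialLinearGroup (Fin 2) F) = 1 := by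
    rw [map_one, Subgroup.coe_one]
  have inj : ∀ x y : alternatingGroup (Fin 4),
      ((e.symm x : H) : Matrix.ProjectiveSpecialLinearGroup (Fin 2) F) = (e.symm y : H) → x = y := by
    intro x y h
    exact e.symm.injective (Subtype.ext h)
  have hU1sq : U₁ * U₁ = 1 := by
    apply mk_inj_char2 h2
    rw [QuotientGroup.mk_mul, hU₁, ← tr, hs1, one_coe]
    rfl
  have hU1ne : U₁ ≠ 1 := by
    rintro rfl
    apply hs1ne
    apply inj
    rw [← hU₁, one_coe]
    rfl
  have hU2sq : U₂ * U₂ = 1 := by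
    apply mk_inj_char2 h2
    rw [QuotientGroup.mk_mul, hU₂, ← tr, hs2, one_coe]
    rfl
  have hU21 : U₂ * U₁ = U₁ * U₂ := by
    apply mk_inj_char2 h2
    rw [QuotientGroup.mk_mul, QuotientGroup.mk_mul, hU₁, hU₂, ← tr, ← tr, hs12]
  have hC3 : C * C * C = 1 := by
    apply mk_inj_char2 h2
    rw [QuotientGroup.mk_mul, QuotientGroup.mk_mul, hC, ← tr, ← tr, ht3, one_coe]
    rfl
  have hCne : C ≠ 1 := by
    rintro rfl
    apply htne
    apply inj
    rw [← hC, one_coe]
    rfl
  have hCU : C * U₁ = U₂ * C := by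
    apply mk_inj_char2 h2
    rw [QuotientGroup.mk_mul, QuotientGroup.mk_mul, hU₁, hU₂, hC, ← tr, ← tr, htc]
  have mat : ∀ A B D : Matrix.SpecialLinearGroup (Fin 2) F, A * B = D →
      (A : Matrix (Fin 2) (Fin 2) F) * (B : Matrix (Fin 2) (Fin 2) F) =
        (D : Matrix (Fin 2) (Fin 2) F) := by
    intro A B D h
    rw [← Matrix.SpecialLinearGroup.coe_mul, h]
  have two_smul0 : ∀ M : Matrix (Fin 2) (Fin 2) F, M + M = 0 := by
    intro M
    rw [← two_smul F M, h2, zero_smul]
  have hN1sq : ((U₁ : Matrix (Fin 2) (Fin 2) F) - 1) * ((U₁ : Matrix (Fin 2) (Fin 2) F) - 1) = 0 := by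
    rw [sub_mul, mul_sub, mul_sub, mat _ _ _ hU1sq, Matrix.SpecialLinearGroup.coe_one, mul_one,
      one_mul, mul_one]
    have := two_smul0 (1 - (U₁ : Matrix (Fin 2) (Fin 2) F))
    rw [← this]
    abel
  have hN2sq : ((U₂ : Matrix (Fin 2) (Fin 2) F) - 1) * ((U₂ : Matrix (Fin 2) (Fin 2) F) - 1) = 0 := by
    rw [sub_mul, mul_sub, mul_sub, mat _ _ _ hU2sq, Matrix.SpecialLinearGroup.coe_one, mul_one,
      one_mul, mul_one]
    have := two_smul0 (1 - (U₂ : Matrix (Fin 2) (Fin 2) F))
    rw [← this]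
    abel
  have hN1ne : (U₁ : Matrix (Fin 2) (Fin 2) F) - 1 ≠ 0 := by
    intro h
    apply hU1ne
    apply Subtype.ext
    rw [Matrix.SpecialLinearGroup.coe_one]
    exact sub_eq_zero.mp h
  have hcommN : ((U₂ : Matrix (Fin 2) (Fin 2) F) - 1) * ((U₁ : Matrix (Fin 2) (Fin 2) F) - 1) =
      ((U₁ : Matrix (Fin 2) (Fin 2) F) - 1) * ((U₂ : Matrix (Fin 2) (Fin 2) F) - 1) := by
    rw [sub_mul, mul_sub, mul_sub, sub_mul, mul_sub, mul_sub, mat _ _ _ hU21,
      Matrix.SpecialLinearGroup.coe_mul]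
    simp only [mul_one, one_mul]
    abel
  have hnilp : ∀ N : Matrix (Fin 2) (Fin 2) F, N * N = 0 → N ≠ 0 →
      (∀ c : F, N ≠ c • (1 : Matrix (Fin 2) (Fin 2) F)) ∧ N.trace = 0 ∧ N.det = 0 := by
    intro N hNN hN0
    have hns : ∀ c : F, N ≠ c • (1 : Matrix (Fin 2) (Fin 2) F) := by
      intro c hc
      rw [hc, smul_mul_assoc, mul_smul_comm, mul_one, smul_smul] at hNN
      have := congrFun (congrFun hNN 0) 0
      simp only [Matrix.smul_apply, Matrix.one_apply_eq, smul_eq_mul, mul_one,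
        Matrix.zero_apply] at this
      have hc0 : c = 0 := by
        rcases mul_eq_zero.mp this with h | h <;> exact h
      apply hN0
      rw [hc, hc0, zero_smul]
    have hcay := m2_cayley N
    rw [hNN] at hcay
    have htr : N.trace = 0 := by
      by_contra ht
      apply hns (N.det / N.trace)
      have : N.trace • N = N.det • (1 : Matrix (Fin 2) (Fin 2) F) := by
        rw [← sub_eq_zero]
        exact hcay.symm
      calc N = (N.trace)⁻¹ • (N.trace • N) := by rw [smul_smul, inv_mul_cancel₀ ht, one_smul]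
        _ = (N.det / N.trace) • (1 : Matrix (Fin 2) (Fin 2) F) := by
          rw [this, smul_smul, div_eq_inv_mul]
    refine ⟨hns, htr, ?_⟩
    rw [htr, zero_smul, zero_sub] at hcay
    have := congrFun (congrFun hcay 0) 0
    simp only [Matrix.neg_apply, Matrix.smul_apply, Matrix.one_apply_eq, smul_eq_mul, mul_one,
      Matrix.zero_apply] at this
    linear_combination this
  obtain ⟨hns1, htr1, hdet1⟩ := hnilp _ hN1sq hN1ne
  obtain ⟨a, b, hab⟩ := m2_commute_lin _ _ hns1 hcommN
  have ha0 : a = 0 := by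
    have h := hN2sq
    rw [hab] at h
    have hexp : (a • (1 : Matrix (Fin 2) (Fin 2) F) + b • ((U₁ : Matrix (Fin 2) (Fin 2) F) - 1)) *
        (a • (1 : Matrix (Fin 2) (Fin 2) F) + b • ((U₁ : Matrix (Fin 2) (Fin 2) F) - 1)) =
        (a * a) • (1 : Matrix (Fin 2) (Fin 2) F) +
          ((a * b) • ((U₁ : Matrix (Fin 2) (Fin 2) F) - 1) +
            (a * b) • ((U₁ : Matrix (Fin 2) (Fin 2) F) - 1)) +
          (b * b) • (((U₁ : Matrix (Fin 2) (Fin 2) F) - 1) *
            ((U₁ : Matrix (Fin 2) (Fin 2) F) - 1)) := by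
      simp only [add_mul, mul_add, smul_mul_assoc, mul_smul_comm, mul_one, one_mul, smul_add,
        smul_smul]
      rw [mul_comm b a]
      abel
    rw [hexp, hN1sq, smul_zero, add_zero, two_smul0, add_zero] at h
    have := congrFun (congrFun h 0) 0
    simp only [Matrix.smul_apply, Matrix.one_apply_eq, smul_eq_mul, mul_one,
      Matrix.zero_apply] at this
    rcases mul_eq_zero.mp this with h | h <;> exact h
  rw [ha0, zero_smul, zero_add] at hab
  have hCN : (C : Matrix (Fin 2) (Fin 2) F) * ((U₁ : Matrix (Fin 2) (Fin 2) F) - 1) =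
      b • (((U₁ : Matrix (Fin 2) (Fin 2) F) - 1) * (C : Matrix (Fin 2) (Fin 2) F)) := by
    rw [← smul_mul_assoc, ← hab, mul_sub, sub_mul, mat _ _ _ hCU,
      Matrix.SpecialLinearGroup.coe_mul, mul_one, one_mul]
  have hNCN : ((U₁ : Matrix (Fin 2) (Fin 2) F) - 1) * (C : Matrix (Fin 2) (Fin 2) F) *
      ((U₁ : Matrix (Fin 2) (Fin 2) F) - 1) = 0 := by
    rw [mul_assoc, hCN, mul_smul_comm, ← mul_assoc, hN1sq, zero_mul, smul_zero]
  obtain ⟨α, hα⟩ := exists_root _ (C : Matrix (Fin 2) (Fin 2) F) hN1ne htr1 hdet1 hNCN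
  rw [trace_of_order_three C hC3 hCne, C.2] at hα
  have hα' : α ^ 2 + α + 1 = 0 := by linear_combination hα
  have := even_of_root h2 n hF α hα'
  rw [← Nat.not_odd_iff_even] at this
  exact this hn

end OddPower

/-- PSL_2(p^n) has a subgroup isomorphic to A_4 if and only if it is not the case that p = 2 and n is odd. -/
theorem result {F : Type*} [Field F] [Fintype F] (p n : ℕ) [Fact p.Prime] [CharP F p] (hF : Fintype.card F = p ^ n) : (∃ H : Subgroup (Matrix.ProjectiveSpecialLinearGroup (Fin 2) F), Nonempty (H ≃* alternatingGroup (Fin 4))) ↔ ¬ (p = 2 ∧ Odd n) := by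
  have hpp : p.Prime := Fact.out
  by_cases hp2 : p = 2
  · subst hp2
    have h2 : (2 : F) = 0 := by
      have := CharP.cast_eq_zero F 2
      exact_mod_cast this
    by_cases hn : Odd n
    · constructor
      · rintro ⟨H, ⟨e⟩⟩
        exact absurd (no_A4 h2 n hF hn H e) id
      · intro h
        exact absurd ⟨rfl, hn⟩ h
    · constructor
      · intro _ h
        exact hn h.2
      · intro _
        rw [Nat.not_odd_iff_even] at hn
        obtain ⟨ζ, hζ1, hζ3⟩ := exists_zeta n hF hn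
        exact exists_A4_even h2 ζ hζ1 hζ3
  · constructor
    · intro _ h
      exact hp2 h.1
    · intro _
      have hpodd : p % 2 = 1 := by
        rcases hpp.eq_two_or_odd with h | h
        · exact absurd h hp2
        · exact h
      have hodd : Fintype.card F % 2 = 1 := by
        rw [hF]
        exact Nat.odd_iff.mp (Nat.odd_iff.mpr hpodd).pow
      have h2 : (2 : F) ≠ 0 := by
        intro h
        have h3 : ((2 : ℕ) : F) = 0 := by exact_mod_cast h
        rw [CharP.cast_eq_zero_iff F p] at h3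
        have := (Nat.prime_dvd_prime_iff_eq hpp Nat.prime_two).mp h3
        exact hp2 this
      exact exists_A4_odd hodd h2

end Cfsg.Agent.S0802
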