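import Cfsg.Statements.S0803

import Cfsg.Agent.S0802
import Cfsg.Agent.S1012
set_option autoImplicit false
open Cfsg

namespace Cfsg.Agent.S0803


open Cfsg.Agent.S0807 Cfsg.Agent.S0808

section Abstract

open scoped Pointwise

variable {G : Type*} [Group G]

theorem mem_normalizer_of_conj_mem (V : Subgroup G) [Finite V] (h : G)
    (hh : ∀ v ∈ V, h * v * h⁻¹ ∈ V) : h ∈ Subgroup.normalizer (V : Set G) := by
  rw [Subgroup.mem_normalizer_iff]
  intro x
  constructor
  · exact hh x
  · intro hx
    have hinj : Function.Injective (fun v : V => (⟨h * v.1 * h⁻¹, hh v.1 v.2⟩ : V)) := by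
      intro v w hvw
      have := congrArg Subtype.val hvw
      simp only at this
      exact Subtype.ext (mul_left_cancel (mul_right_cancel this))
    obtain ⟨v, hv⟩ := Finite.surjective_of_injective hinj ⟨h * x * h⁻¹, hx⟩
    have := congrArg Subtype.val hv
    simp only at this
    have hvx : v.1 = x := mul_left_cancel (mul_right_cancel this)
    rw [← hvx]
    exact v.2

theorem conj_mem_pair (a b : G) (haa : a * a = 1) (hbb : b * b = 1) (hab : a * b = b * a) (h : G)
    (ha : h * a * h⁻¹ ∈ pairSubgroup a b haa hbb hab)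
    (hb : h * b * h⁻¹ ∈ pairSubgroup a b haa hbb hab) :
    ∀ v ∈ pairSubgroup a b haa hbb hab, h * v * h⁻¹ ∈ pairSubgroup a b haa hbb hab := by
  rintro v (rfl | rfl | rfl | rfl)
  · have : h * 1 * h⁻¹ = 1 := by group
    rw [this]
    exact Subgroup.one_mem _
  · exact ha
  · exact hb
  · have : h * (a * b) * h⁻¹ = (h * a * h⁻¹) * (h * b * h⁻¹) := by group
    rw [this]
    exact Subgroup.mul_mem _ ha hb

theorem card_A [Finite G] (a b g : G) (hp : IsPair (a, b))
    (hga : g * a * g⁻¹ = b) (hgb : g * b * g⁻¹ = a * b) (hg3 : g * g * g = 1)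
    (hgN : g ∈ Subgroup.normalizer ((pairSubgroup a b (sq_of_order_two' hp.1)
      (sq_of_order_two' hp.2.1) hp.2.2.2 : Subgroup G) : Set G)) :
    Nat.card (Subgroup.zpowers g ⊔ pairSubgroup a b (sq_of_order_two' hp.1)
      (sq_of_order_two' hp.2.1) hp.2.2.2 : Subgroup G) = 12 ∧
    ((Subgroup.zpowers g ⊔ pairSubgroup a b (sq_of_order_two' hp.1)
      (sq_of_order_two' hp.2.1) hp.2.2.2 : Subgroup G) : Set G) =
      (Subgroup.zpowers g : Set G) * (pairSubgroup a b (sq_of_order_two' hp.1)
      (sq_of_order_two' hp.2.1) hp.2.2.2 : Set G) ∧ orderOf g = 3 := by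
  have haa : a * a = 1 := sq_of_order_two' hp.1
  have hbb : b * b = 1 := sq_of_order_two' hp.2.1
  have hab : a * b = b * a := hp.2.2.2
  have hne : a ≠ b := hp.2.2.1
  have hg1 : g ≠ 1 := by
    rintro rfl
    apply hne
    simpa using hga
  have hg3' : g ^ 3 = 1 := by rw [pow_succ, pow_two]; exact hg3
  have hord : orderOf g = 3 := orderOf_eq_prime hg3' hg1
  have hV4 : Nat.card (pairSubgroup a b haa hbb hab) = 4 :=
    (pairSubgroup_klein a b haa hbb hab (ne_one_of_order_two hp.1)
      (ne_one_of_order_two hp.2.1) hne).card_four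
  have hZ3 : Nat.card (Subgroup.zpowers g) = 3 := by rw [Nat.card_zpowers, hord]
  have hle : Subgroup.zpowers g ≤
      Subgroup.normalizer ((pairSubgroup a b haa hbb hab : Subgroup G) : Set G) :=
    Subgroup.zpowers_le.mpr hgN
  have hcoe := Subgroup.coe_mul_of_left_le_normalizer_right (Subgroup.zpowers g)
    (pairSubgroup a b haa hbb hab) hle
  have hcard_le : Nat.card (Subgroup.zpowers g ⊔ pairSubgroup a b haa hbb hab : Subgroup G) ≤ 12 := by
    have h1 : Nat.card (Subgroup.zpowers g ⊔ pairSubgroup a b haa hbb hab : Subgroup G) =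
        Nat.card ((Subgroup.zpowers g : Set G) * (pairSubgroup a b haa hbb hab : Set G) : Set G) := by
      rw [← hcoe]
      rfl
    rw [h1]
    refine le_trans Set.natCard_mul_le ?_
    have e1 : Nat.card ((Subgroup.zpowers g : Subgroup G) : Set G) = 3 := hZ3
    have e2 : Nat.card ((pairSubgroup a b haa hbb hab : Subgroup G) : Set G) = 4 := hV4
    rw [e1, e2]
  have hd3 : 3 ∣ Nat.card (Subgroup.zpowers g ⊔ pairSubgroup a b haa hbb hab : Subgroup G) := by
    rw [← hZ3]
    exact Subgroup.card_dvd_of_le le_sup_left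
  have hd4 : 4 ∣ Nat.card (Subgroup.zpowers g ⊔ pairSubgroup a b haa hbb hab : Subgroup G) := by
    rw [← hV4]
    exact Subgroup.card_dvd_of_le le_sup_right
  refine ⟨?_, hcoe, hord⟩
  have h12 : 12 ∣ Nat.card (Subgroup.zpowers g ⊔ pairSubgroup a b haa hbb hab : Subgroup G) :=
    Nat.Coprime.mul_dvd_of_dvd_of_dvd (by norm_num) hd3 hd4
  have hpos : 0 < Nat.card (Subgroup.zpowers g ⊔ pairSubgroup a b haa hbb hab : Subgroup G) :=
    Nat.card_pos
  obtain ⟨c, hc⟩ := h12
  have : c = 1 := by
    rcases c with _ | _ | c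
    · omega
    · rfl
    · omega
  omega

theorem zpowers_three (g : G) (hord : orderOf g = 3) (z : G) (hz : z ∈ Subgroup.zpowers g) :
    z = 1 ∨ z = g ∨ z = g * g := by
  obtain ⟨k, rfl⟩ := Subgroup.mem_zpowers_iff.mp hz
  have h := zpow_mod_orderOf g k
  rw [hord] at h
  have hk : k % ((3 : ℕ) : ℤ) = 0 ∨ k % ((3 : ℕ) : ℤ) = 1 ∨ k % ((3 : ℕ) : ℤ) = 2 := by omega
  rcases hk with h0 | h0 | h0
  · left
    rw [← h, h0, zpow_zero]
  · right
    left
    rw [← h, h0, zpow_one]
  · right
    right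
    rw [← h, h0]
    exact zpow_two g

theorem exists_S4 [Finite G] (a b g s : G) (hp : IsPair (a, b))
    (hga : g * a * g⁻¹ = b) (hgb : g * b * g⁻¹ = a * b) (hg3 : g * g * g = 1)
    (hsa : s * a * s⁻¹ = b) (hsb : s * b * s⁻¹ = a)
    (hstab : ∀ h : G, h * a * h⁻¹ = a → h * b * h⁻¹ = b →
      h ∈ pairSubgroup a b (sq_of_order_two' hp.1) (sq_of_order_two' hp.2.1) hp.2.2.2) :
    ∃ H : Subgroup G, Nonempty (H ≃* Equiv.Perm (Fin 4)) := by
  classical
  have haa : a * a = 1 := sq_of_order_two' hp.1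
  have hbb : b * b = 1 := sq_of_order_two' hp.2.1
  have hab : a * b = b * a := hp.2.2.2
  have hne : a ≠ b := hp.2.2.1
  have ha1 : a ≠ 1 := ne_one_of_order_two hp.1
  have hb1 : b ≠ 1 := ne_one_of_order_two hp.2.1
  have hab1 : a * b ≠ 1 := by
    intro h
    apply hne
    have : b = a⁻¹ := eq_inv_of_mul_eq_one_right h
    rw [this, inv_eq_of_mul_eq_one_right haa]
  have haab : a * b ≠ a := by
    intro h
    apply hb1
    have : a * b = a * 1 := by rw [mul_one]; exact h
    exact mul_left_cancel this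
  have hbab : a * b ≠ b := by
    intro h
    apply ha1
    have : a * b = 1 * b := by rw [one_mul]; exact h
    exact mul_right_cancel this
  have hKl : IsKleinFour (pairSubgroup a b haa hbb hab) :=
    pairSubgroup_klein a b haa hbb hab ha1 hb1 hne
  have haV : a ∈ pairSubgroup a b haa hbb hab := Or.inr (Or.inl rfl)
  have hbV : b ∈ pairSubgroup a b haa hbb hab := Or.inr (Or.inr (Or.inl rfl))
  have habV : a * b ∈ pairSubgroup a b haa hbb hab := Or.inr (Or.inr (Or.inr rfl))
  have hgN : g ∈ Subgroup.normalizer ((pairSubgroup a b haa hbb hab : Subgroup G) : Set G) := by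
    apply mem_normalizer_of_conj_mem
    apply conj_mem_pair
    · rw [hga]; exact hbV
    · rw [hgb]; exact habV
  have hsN : s ∈ Subgroup.normalizer ((pairSubgroup a b haa hbb hab : Subgroup G) : Set G) := by
    apply mem_normalizer_of_conj_mem
    apply conj_mem_pair
    · rw [hsa]; exact hbV
    · rw [hsb]; exact haV
  obtain ⟨hA12, hAcoe, hord⟩ := card_A a b g hp hga hgb hg3 hgN
  have hAle : Subgroup.zpowers g ⊔ pairSubgroup a b haa hbb hab ≤
      Subgroup.normalizer ((pairSubgroup a b haa hbb hab : Subgroup G) : Set G) :=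
    sup_le (Subgroup.zpowers_le.mpr hgN) Subgroup.le_normalizer
  have hVfix : ∀ v ∈ pairSubgroup a b haa hbb hab, v * a * v⁻¹ = a ∧ v * b * v⁻¹ = b := by
    rintro v (rfl | rfl | rfl | rfl)
    · simp
    · exact ⟨by simp, by rw [mul_inv_eq_iff_eq_mul]; exact hab⟩
    · exact ⟨by rw [mul_inv_eq_iff_eq_mul]; exact hab.symm, by simp⟩
    · constructor
      · rw [mul_inv_eq_iff_eq_mul]
        calc a * b * a = a * (b * a) := by rw [mul_assoc]
          _ = a * (a * b) := by rw [hab]
      · rw [mul_inv_eq_iff_eq_mul]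
        calc a * b * b = b * a * b := by rw [hab]
          _ = b * (a * b) := by rw [mul_assoc]
  have hsqV : ∀ v ∈ pairSubgroup a b haa hbb hab, v * v = 1 := by
    rintro v (rfl | rfl | rfl | rfl)
    · simp
    · exact haa
    · exact hbb
    · calc a * b * (a * b) = a * (b * a) * b := by group
        _ = a * (a * b) * b := by rw [hab]
        _ = (a * a) * (b * b) := by group
        _ = 1 := by rw [haa, hbb, one_mul]
  have hsA : s ∉ Subgroup.zpowers g ⊔ pairSubgroup a b haa hbb hab := by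
    intro hs
    have hs' : s ∈ ((Subgroup.zpowers g ⊔ pairSubgroup a b haa hbb hab : Subgroup G) : Set G) := hs
    rw [hAcoe, Set.mem_mul] at hs'
    obtain ⟨z, hz, v, hv, rfl⟩ := hs'
    obtain ⟨hva, hvb⟩ := hVfix v hv
    have e1 : z * v * a * (z * v)⁻¹ = z * (v * a * v⁻¹) * z⁻¹ := by group
    have e2 : z * v * b * (z * v)⁻¹ = z * (v * b * v⁻¹) * z⁻¹ := by group
    rw [e1, hva] at hsa
    rw [e2, hvb] at hsb
    rcases zpowers_three g hord z hz with rfl | rfl | rfl
    · apply hne
      simpa using hsa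
    · rw [hgb] at hsb
      exact haab hsb
    · have : g * g * a * (g * g)⁻¹ = g * (g * a * g⁻¹) * g⁻¹ := by group
      rw [this, hga, hgb] at hsa
      exact hbab hsa
  have hN12 : 12 ∣ Nat.card (Subgroup.normalizer
      ((pairSubgroup a b haa hbb hab : Subgroup G) : Set G)) := by
    rw [← hA12]
    exact Subgroup.card_dvd_of_le hAle
  have hNne : Nat.card (Subgroup.normalizer
      ((pairSubgroup a b haa hbb hab : Subgroup G) : Set G)) ≠ 12 := by
    intro h
    apply hsA
    have := Subgroup.eq_of_le_of_card_ge hAle (by rw [h, hA12])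
    rw [this]
    exact hsN
  have cmem : ∀ h : Subgroup.normalizer ((pairSubgroup a b haa hbb hab : Subgroup G) : Set G),
      ∀ v ∈ pairSubgroup a b haa hbb hab, (h : G) * v * (h : G)⁻¹ ∈ pairSubgroup a b haa hbb hab := by
    intro h v hv
    exact (Subgroup.mem_normalizer_iff.mp h.2 v).mp hv
  have hupper : Nat.card (Subgroup.normalizer
      ((pairSubgroup a b haa hbb hab : Subgroup G) : Set G)) ≤ 24 := by
    let f : Subgroup.normalizer ((pairSubgroup a b haa hbb hab : Subgroup G) : Set G) →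
        {ab : (pairSubgroup a b haa hbb hab) × (pairSubgroup a b haa hbb hab) //
          ab.1 ≠ 1 ∧ ab.2 ≠ 1 ∧ ab.1 ≠ ab.2} := fun h =>
      ⟨(⟨(h : G) * a * (h : G)⁻¹, cmem h a haV⟩, ⟨(h : G) * b * (h : G)⁻¹, cmem h b hbV⟩), by
        refine ⟨?_, ?_, ?_⟩
        · intro h1
          have := congrArg Subtype.val h1
          simp only [Subgroup.coe_one] at this
          apply ha1
          have e : a = (h : G)⁻¹ * ((h : G) * a * (h : G)⁻¹) * (h : G) := by group
          rw [e, this]
          group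
        · intro h1
          have := congrArg Subtype.val h1
          simp only [Subgroup.coe_one] at this
          apply hb1
          have e : b = (h : G)⁻¹ * ((h : G) * b * (h : G)⁻¹) * (h : G) := by group
          rw [e, this]
          group
        · intro h1
          have := congrArg Subtype.val h1
          simp only at this
          apply hne
          exact mul_left_cancel (mul_right_cancel this)⟩
    have key : ∀ h₀ h : Subgroup.normalizer ((pairSubgroup a b haa hbb hab : Subgroup G) : Set G),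
        f h₀ = f h → (h₀ : G)⁻¹ * (h : G) ∈ pairSubgroup a b haa hbb hab := by
      intro h₀ h hf
      have h1 : (h₀ : G) * a * (h₀ : G)⁻¹ = (h : G) * a * (h : G)⁻¹ := by
        have := congrArg (fun r => ((r.1.1 : pairSubgroup a b haa hbb hab) : G)) hf
        exact this
      have h3 : (h₀ : G) * b * (h₀ : G)⁻¹ = (h : G) * b * (h : G)⁻¹ := by
        have := congrArg (fun r => ((r.1.2 : pairSubgroup a b haa hbb hab) : G)) hf
        exact this
      apply hstab
      · calc (h₀ : G)⁻¹ * (h : G) * a * ((h₀ : G)⁻¹ * (h : G))⁻¹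
            = (h₀ : G)⁻¹ * ((h : G) * a * (h : G)⁻¹) * (h₀ : G) := by group
          _ = a := by rw [← h1]; group
      · calc (h₀ : G)⁻¹ * (h : G) * b * ((h₀ : G)⁻¹ * (h : G))⁻¹
            = (h₀ : G)⁻¹ * ((h : G) * b * (h : G)⁻¹) * (h₀ : G) := by group
          _ = b := by rw [← h3]; group
    let rep : {ab : (pairSubgroup a b haa hbb hab) × (pairSubgroup a b haa hbb hab) //
          ab.1 ≠ 1 ∧ ab.2 ≠ 1 ∧ ab.1 ≠ ab.2} →
        Subgroup.normalizer ((pairSubgroup a b haa hbb hab : Subgroup G) : Set G) := fun r =>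
      if hr : ∃ h₀, f h₀ = r then hr.choose else 1
    have rep_spec : ∀ h, f (rep (f h)) = f h := by
      intro h
      have hr : ∃ h₀, f h₀ = f h := ⟨h, rfl⟩
      simp only [rep, dif_pos hr]
      exact hr.choose_spec
    let ι : Subgroup.normalizer ((pairSubgroup a b haa hbb hab : Subgroup G) : Set G) →
        {ab : (pairSubgroup a b haa hbb hab) × (pairSubgroup a b haa hbb hab) //
          ab.1 ≠ 1 ∧ ab.2 ≠ 1 ∧ ab.1 ≠ ab.2} × (pairSubgroup a b haa hbb hab) := fun h =>
      (f h, ⟨((rep (f h) : Subgroup.normalizer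
        ((pairSubgroup a b haa hbb hab : Subgroup G) : Set G)) : G)⁻¹ * (h : G),
        key _ _ (rep_spec h)⟩)
    have hinj : Function.Injective ι := by
      intro h h' hh
      have h1 : f h = f h' := congrArg Prod.fst hh
      have h3 := congrArg (fun r => ((r.2 : pairSubgroup a b haa hbb hab) : G)) hh
      simp only [ι] at h3
      rw [h1] at h3
      exact Subtype.ext (mul_left_cancel h3)
    have hle := Nat.card_le_card_of_injective ι hinj
    haveI : IsKleinFour (pairSubgroup a b haa hbb hab) := hKl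
    rw [Nat.card_prod, klein_pairs_six, hKl.card_four] at hle
    exact hle
  have hN24 : Nat.card (Subgroup.normalizer
      ((pairSubgroup a b haa hbb hab : Subgroup G) : Set G)) = 24 := by
    obtain ⟨c, hc⟩ := hN12
    have hpos : 0 < Nat.card (Subgroup.normalizer
      ((pairSubgroup a b haa hbb hab : Subgroup G) : Set G)) := Nat.card_pos
    rcases c with _ | _ | _ | c
    · omega
    · omega
    · omega
    · omega
  refine ⟨Subgroup.normalizer ((pairSubgroup a b haa hbb hab : Subgroup G) : Set G), ?_⟩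
  apply Cfsg.Agent.S1012.result hN24
  intro x hx6
  have hX6 : orderOf (x : G) = 6 := by rw [Subgroup.orderOf_coe]; exact hx6
  have hXa := cmem x a haV
  have hXb := cmem x b hbV
  have hXa1 : (x : G) * a * (x : G)⁻¹ ≠ 1 := by
    intro h
    apply ha1
    have e : a = (x : G)⁻¹ * ((x : G) * a * (x : G)⁻¹) * (x : G) := by group
    rw [e, h]
    group
  have hXb1 : (x : G) * b * (x : G)⁻¹ ≠ 1 := by
    intro h
    apply hb1
    have e : b = (x : G)⁻¹ * ((x : G) * b * (x : G)⁻¹) * (x : G) := by group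
    rw [e, h]
    group
  have hXne : (x : G) * a * (x : G)⁻¹ ≠ (x : G) * b * (x : G)⁻¹ := by
    intro h
    exact hne (mul_left_cancel (mul_right_cancel h))
  have hXab : (x : G) * (a * b) * (x : G)⁻¹ =
      ((x : G) * a * (x : G)⁻¹) * ((x : G) * b * (x : G)⁻¹) := by group
  have hpow4 : (x : G) * (x : G) ∈ pairSubgroup a b haa hbb hab → False := by
    intro h
    have h4 : (x : G) ^ 4 = 1 := by
      have := hsqV _ h
      calc (x : G) ^ 4 = (x : G) * (x : G) * ((x : G) * (x : G)) := by
            simp only [pow_succ, pow_zero, one_mul, mul_assoc]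
        _ = 1 := this
    have := orderOf_dvd_of_pow_eq_one h4
    rw [hX6] at this
    omega
  have hsq_of_fix : (x : G) * (x : G) * a * ((x : G) * (x : G))⁻¹ = a →
      (x : G) * (x : G) * b * ((x : G) * (x : G))⁻¹ = b → False := by
    intro h1 h3
    exact hpow4 (hstab _ h1 h3)
  have e2a : (x : G) * (x : G) * a * ((x : G) * (x : G))⁻¹ =
      (x : G) * ((x : G) * a * (x : G)⁻¹) * (x : G)⁻¹ := by group
  have e2b : (x : G) * (x : G) * b * ((x : G) * (x : G))⁻¹ =
      (x : G) * ((x : G) * b * (x : G)⁻¹) * (x : G)⁻¹ := by group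
  have hcube : ∀ t : G, t = (x : G) * (x : G) * (x : G) →
      t ∈ pairSubgroup a b haa hbb hab → (x : G) * t * (x : G)⁻¹ = t ∧ t ≠ 1 := by
    intro t ht _
    constructor
    · rw [ht]
      group
    · intro h1
      have h3 : (x : G) ^ 3 = 1 := by
        calc (x : G) ^ 3 = (x : G) * (x : G) * (x : G) := by
              simp only [pow_succ, pow_zero, one_mul]
          _ = 1 := by rw [← ht, h1]
      have := orderOf_dvd_of_pow_eq_one h3
      rw [hX6] at this
      omega
  have e3a : (x : G) * (x : G) * (x : G) * a * ((x : G) * (x : G) * (x : G))⁻¹ =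
      (x : G) * ((x : G) * ((x : G) * a * (x : G)⁻¹) * (x : G)⁻¹) * (x : G)⁻¹ := by group
  have e3b : (x : G) * (x : G) * (x : G) * b * ((x : G) * (x : G) * (x : G))⁻¹ =
      (x : G) * ((x : G) * ((x : G) * b * (x : G)⁻¹) * (x : G)⁻¹) * (x : G)⁻¹ := by group
  have e3 : ∀ u v w : G, (x : G) * u * (x : G)⁻¹ = v → (x : G) * v * (x : G)⁻¹ = w →
      (x : G) * w * (x : G)⁻¹ = u →
      (x : G) * (x : G) * (x : G) * u * ((x : G) * (x : G) * (x : G))⁻¹ = u := by
    intro u v w h1 h2 h3
    calc (x : G) * (x : G) * (x : G) * u * ((x : G) * (x : G) * (x : G))⁻¹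
        = (x : G) * ((x : G) * ((x : G) * u * (x : G)⁻¹) * (x : G)⁻¹) * (x : G)⁻¹ := by group
      _ = u := by rw [h1, h2, h3]
  have e2 : ∀ u v : G, (x : G) * u * (x : G)⁻¹ = v → (x : G) * v * (x : G)⁻¹ = u →
      (x : G) * (x : G) * u * ((x : G) * (x : G))⁻¹ = u := by
    intro u v h1 h2
    calc (x : G) * (x : G) * u * ((x : G) * (x : G))⁻¹
        = (x : G) * ((x : G) * u * (x : G)⁻¹) * (x : G)⁻¹ := by group
      _ = u := by rw [h1, h2]
  have hbab' : b * (a * b) = a := by rw [← mul_assoc, ← hab, mul_assoc, hbb, mul_one]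
  have haab' : a * (a * b) = b := by rw [← mul_assoc, haa, one_mul]
  have haba' : a * b * a = b := by rw [mul_assoc, ← hab, haab']
  have habb' : a * b * b = a := by rw [mul_assoc, hbb, mul_one]
  rw [mem_pairSubgroup] at hXa hXb
  rcases hXa with h1 | h1 | h1 | h1
  · exact hXa1 h1
  · rcases hXb with h2 | h2 | h2 | h2
    · exact hXb1 h2
    · exact hXne (h1.trans h2.symm)
    · apply hpow4
      have : (x : G) ∈ pairSubgroup a b haa hbb hab := hstab _ h1 h2
      exact Subgroup.mul_mem _ this this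
    · have h3 : (x : G) * (a * b) * (x : G)⁻¹ = b := by rw [hXab, h1, h2, haab']
      exact hsq_of_fix (e2 a a h1 h1) (e2 b (a * b) h2 h3)
  · rcases hXb with h2 | h2 | h2 | h2
    · exact hXb1 h2
    · exact hsq_of_fix (e2 a b h1 h2) (e2 b a h2 h1)
    · exact hXne (h1.trans h2.symm)
    · have h3 : (x : G) * (a * b) * (x : G)⁻¹ = a := by rw [hXab, h1, h2, hbab']
      have hta := e3 a b (a * b) h1 h2 h3
      have htb := e3 b (a * b) a h2 h3 h1
      have htV := hstab _ hta htb
      obtain ⟨hfix, ht1⟩ := hcube _ rfl htV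
      rw [mem_pairSubgroup] at htV
      rcases htV with ht | ht | ht | ht
      · exact ht1 ht
      · rw [ht, h1] at hfix
        exact hne hfix.symm
      · rw [ht, h2] at hfix
        exact hbab hfix
      · rw [ht, h3] at hfix
        exact haab hfix.symm
  · rcases hXb with h2 | h2 | h2 | h2
    · exact hXb1 h2
    · have h3 : (x : G) * (a * b) * (x : G)⁻¹ = b := by rw [hXab, h1, h2, haba']
      have hta := e3 a (a * b) b h1 h3 h2
      have htb := e3 b a (a * b) h2 h1 h3
      have htV := hstab _ hta htb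
      obtain ⟨hfix, ht1⟩ := hcube _ rfl htV
      rw [mem_pairSubgroup] at htV
      rcases htV with ht | ht | ht | ht
      · exact ht1 ht
      · rw [ht, h1] at hfix
        exact haab hfix
      · rw [ht, h2] at hfix
        exact hne hfix
      · rw [ht, h3] at hfix
        exact hbab hfix.symm
    · have h3 : (x : G) * (a * b) * (x : G)⁻¹ = a := by rw [hXab, h1, h2, habb']
      exact hsq_of_fix (e2 a (a * b) h1 h3) (e2 b b h2 h2)
    · exact hXne (h1.trans h2.symm)

end Abstract

section PSL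

open Cfsg.Agent.S2508 Cfsg.Agent.Lib.helper15 Cfsg.Agent.S0802

variable {F : Type*} [Field F] [Fintype F]

theorem exists_S4_of_square (hodd : Fintype.card F % 2 = 1) (h2 : (2 : F) ≠ 0)
    (hsq : IsSquare (2 : F)) :
    ∃ H : Subgroup (Matrix.ProjectiveSpecialLinearGroup (Fin 2) F),
      Nonempty (H ≃* Equiv.Perm (Fin 4)) := by
  have hP := two_mul_card_pairs hodd h2
  have hpos : 0 < Nat.card (Matrix.ProjectiveSpecialLinearGroup (Fin 2) F) := Nat.card_pos
  have hne : Nonempty {p : Matrix.ProjectiveSpecialLinearGroup (Fin 2) F ×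
      Matrix.ProjectiveSpecialLinearGroup (Fin 2) F // IsPair p} := by
    by_contra h
    rw [not_nonempty_iff] at h
    have := Nat.card_of_isEmpty (α := {p : Matrix.ProjectiveSpecialLinearGroup (Fin 2) F ×
      Matrix.ProjectiveSpecialLinearGroup (Fin 2) F // IsPair p})
    omega
  obtain ⟨⟨⟨a, b⟩, hp⟩⟩ := hne
  obtain ⟨X, Y, hX, hY, hq⟩ := exists_anti_of_pair h2 (a, b) hp
  obtain ⟨g, hg1, hg2⟩ := conj_rot h2 X Y hq
  obtain ⟨s, hs1, hs2⟩ := conj_swap X Y hq hsq h2
  simp only at hX hY
  rw [hX, hY] at hg1 hg2 hs1 hs2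
  have hstab := stab_pair h2 (a, b) hp
  have hgab : g * (a * b) * g⁻¹ = a := by
    have hbb : b * b = 1 := sq_of_order_two' hp.2.1
    have hab : a * b = b * a := hp.2.2.2
    calc g * (a * b) * g⁻¹ = (g * a * g⁻¹) * (g * b * g⁻¹) := by group
      _ = b * (a * b) := by rw [hg1, hg2]
      _ = a := by rw [← mul_assoc, ← hab, mul_assoc, hbb, mul_one]
  have hg3 : g * g * g = 1 := by
    apply no_fix a b g hp hg1 hg2
    · rw [← hstab]
      constructor
      · show g * g * g * a * (g * g * g)⁻¹ = a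
        calc g * g * g * a * (g * g * g)⁻¹ = g * (g * (g * a * g⁻¹) * g⁻¹) * g⁻¹ := by group
          _ = a := by rw [hg1, hg2, hgab]
      · show g * g * g * b * (g * g * g)⁻¹ = b
        calc g * g * g * b * (g * g * g)⁻¹ = g * (g * (g * b * g⁻¹) * g⁻¹) * g⁻¹ := by group
          _ = b := by rw [hg2, hgab, hg1]
    · group
  apply exists_S4 a b g s hp hg1 hg2 hg3 hs1 hs2
  intro h h1 h3
  rw [← hstab]
  exact ⟨h1, h3⟩

theorem sq_eq_one_char2 (h2 : (2 : F) = 0) (C : Matrix.SpecialLinearGroup (Fin 2) F)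
    (h4 : C * C * (C * C) = 1) : C * C = 1 := by
  have hsq := m2_sq (C : Matrix (Fin 2) (Fin 2) F) C.2
  have hD : ((C * C : Matrix.SpecialLinearGroup (Fin 2) F) : Matrix (Fin 2) (Fin 2) F).det = 1 :=
    (C * C).2
  have hsqD := m2_sq ((C * C : Matrix.SpecialLinearGroup (Fin 2) F) : Matrix (Fin 2) (Fin 2) F) hD
  have h4m : ((C * C : Matrix.SpecialLinearGroup (Fin 2) F) : Matrix (Fin 2) (Fin 2) F) *
      ((C * C : Matrix.SpecialLinearGroup (Fin 2) F) : Matrix (Fin 2) (Fin 2) F) = 1 := by
    rw [← Matrix.SpecialLinearGroup.coe_mul, h4, Matrix.SpecialLinearGroup.coe_one]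
  have two0 : ∀ M : Matrix (Fin 2) (Fin 2) F, M + M = 0 := by
    intro M
    rw [← two_smul F M, h2, zero_smul]
  have htrD : ((C * C : Matrix.SpecialLinearGroup (Fin 2) F) : Matrix (Fin 2) (Fin 2) F).trace = 0 := by
    by_contra ht
    rw [h4m] at hsqD
    have h5 : ((C * C : Matrix.SpecialLinearGroup (Fin 2) F) : Matrix (Fin 2) (Fin 2) F).trace •
        ((C * C : Matrix.SpecialLinearGroup (Fin 2) F) : Matrix (Fin 2) (Fin 2) F) = 0 := by
      have e := two0 (1 : Matrix (Fin 2) (Fin 2) F)
      have : ((C * C : Matrix.SpecialLinearGroup (Fin 2) F) : Matrix (Fin 2) (Fin 2) F).trace •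
        ((C * C : Matrix.SpecialLinearGroup (Fin 2) F) : Matrix (Fin 2) (Fin 2) F) =
          (1 : Matrix (Fin 2) (Fin 2) F) + 1 := by
        rw [eq_sub_iff_add_eq] at hsqD
        exact hsqD.symm
      rw [this, e]
    have h6 : ((C * C : Matrix.SpecialLinearGroup (Fin 2) F) : Matrix (Fin 2) (Fin 2) F) = 0 := by
      rcases smul_eq_zero.mp h5 with h | h
      · exact absurd h ht
      · exact h
    rw [h6, Matrix.det_fin_two] at hD
    simp at hD
  have htr2 : ((C * C : Matrix.SpecialLinearGroup (Fin 2) F) : Matrix (Fin 2) (Fin 2) F).trace =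
      (C : Matrix (Fin 2) (Fin 2) F).trace ^ 2 := by
    rw [Matrix.SpecialLinearGroup.coe_mul, hsq, Matrix.trace_sub, Matrix.trace_smul,
      Matrix.trace_one, Fintype.card_fin, smul_eq_mul]
    have : ((2 : ℕ) : F) = 0 := by exact_mod_cast h2
    rw [this, sub_zero, pow_two]
  have htrC : (C : Matrix (Fin 2) (Fin 2) F).trace = 0 := by
    rw [htr2] at htrD
    exact pow_eq_zero_iff (by norm_num) |>.mp htrD
  apply Subtype.ext
  rw [Matrix.SpecialLinearGroup.coe_mul, hsq, htrC, zero_smul, zero_sub,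
    Matrix.SpecialLinearGroup.coe_one]
  have e := two0 (1 : Matrix (Fin 2) (Fin 2) F)
  exact neg_eq_of_add_eq_zero_left e

def c4 : Equiv.Perm (Fin 4) := Equiv.swap 0 1 * Equiv.swap 1 2 * Equiv.swap 2 3

def p1 : Equiv.Perm (Fin 4) := Equiv.swap 0 1 * Equiv.swap 2 3

def p2 : Equiv.Perm (Fin 4) := Equiv.swap 0 2 * Equiv.swap 1 3

def p3 : Equiv.Perm (Fin 4) := Equiv.swap 1 2

theorem card_mod_of_S4 (H : Subgroup (Matrix.ProjectiveSpecialLinearGroup (Fin 2) F))
    (e : H ≃* Equiv.Perm (Fin 4)) : Fintype.card F ^ 2 % 16 = 1 := by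
  have tr : ∀ x y : Equiv.Perm (Fin 4),
      ((e.symm (x * y) : H) : Matrix.ProjectiveSpecialLinearGroup (Fin 2) F) =
        (e.symm x : H) * (e.symm y : H) := by
    intro x y
    rw [map_mul, Subgroup.coe_mul]
  have one_coe : ((e.symm 1 : H) : Matrix.ProjectiveSpecialLinearGroup (Fin 2) F) = 1 := by
    rw [map_one, Subgroup.coe_one]
  have inj : ∀ x y : Equiv.Perm (Fin 4),
      ((e.symm x : H) : Matrix.ProjectiveSpecialLinearGroup (Fin 2) F) = (e.symm y : H) → x = y := by
    intro x y h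
    exact e.symm.injective (Subtype.ext h)
  by_cases h2 : (2 : F) = 0
  · exfalso
    have hc4 : c4 * c4 * (c4 * c4) = 1 := by decide
    have hc2 : c4 * c4 ≠ 1 := by decide
    obtain ⟨C, hC⟩ := QuotientGroup.mk_surjective
      ((e.symm c4 : H) : Matrix.ProjectiveSpecialLinearGroup (Fin 2) F)
    have h4 : C * C * (C * C) = 1 := by
      apply mk_inj_char2 h2
      rw [QuotientGroup.mk_mul, QuotientGroup.mk_mul, hC, ← tr, ← tr, hc4, one_coe]
      rfl
    have hCC := sq_eq_one_char2 h2 C h4
    apply hc2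
    apply inj
    rw [tr, ← hC, ← QuotientGroup.mk_mul, hCC, one_coe]
    rfl
  · have hp11 : p1 * p1 = 1 := by decide
    have hp1ne : p1 ≠ 1 := by decide
    have hp22 : p2 * p2 = 1 := by decide
    have hp2ne : p2 ≠ 1 := by decide
    have hp12 : p1 ≠ p2 := by decide
    have hp12c : p1 * p2 = p2 * p1 := by decide
    have hp31 : p3 * p1 * p3⁻¹ = p2 := by decide
    have hp32 : p3 * p2 * p3⁻¹ = p1 := by decide
    have hordH : ∀ σ : Equiv.Perm (Fin 4), σ * σ = 1 → σ ≠ 1 →
        orderOf ((e.symm σ : H) : Matrix.ProjectiveSpecialLinearGroup (Fin 2) F) = 2 := by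
      intro σ hσ hσ1
      apply orderOf_eq_prime
      · rw [pow_two, ← tr, hσ, one_coe]
      · intro h
        apply hσ1
        apply inj
        rw [h, one_coe]
    have hp : IsPair (((e.symm p1 : H) : Matrix.ProjectiveSpecialLinearGroup (Fin 2) F),
        ((e.symm p2 : H) : Matrix.ProjectiveSpecialLinearGroup (Fin 2) F)) := by
      refine ⟨hordH p1 hp11 hp1ne, hordH p2 hp22 hp2ne, ?_, ?_⟩
      · intro h
        exact hp12 (inj _ _ h)
      · show ((e.symm p1 : H) : Matrix.ProjectiveSpecialLinearGroup (Fin 2) F) * (e.symm p2 : H) =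
          (e.symm p2 : H) * (e.symm p1 : H)
        rw [← tr, ← tr, hp12c]
    obtain ⟨X, Y, hX, hY, hq⟩ := exists_anti_of_pair h2 _ hp
    simp only at hX hY
    have hinv : ((e.symm p3⁻¹ : H) : Matrix.ProjectiveSpecialLinearGroup (Fin 2) F) =
        ((e.symm p3 : H) : Matrix.ProjectiveSpecialLinearGroup (Fin 2) F)⁻¹ := by
      rw [map_inv, Subgroup.coe_inv]
    have hsw := square_of_swap h2 X Y hq ((e.symm p3 : H) : Matrix.ProjectiveSpecialLinearGroup (Fin 2) F)
      (by rw [hX, ← hinv, ← tr, ← tr, hp31, hY]) (by rw [hY, ← hinv, ← tr, ← tr, hp32, hX])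
    rw [FiniteField.isSquare_two_iff] at hsw
    have hodd : Fintype.card F % 2 = 1 := by
      by_contra hev
      apply h2
      have hdvd : 2 ∣ Fintype.card F := by omega
      obtain ⟨p, hpchar⟩ := CharP.exists F
      haveI := hpchar
      haveI : Fact p.Prime := ⟨CharP.char_is_prime F p⟩
      obtain ⟨n, hpp, hn⟩ := FiniteField.card F p
      rw [hn] at hdvd
      have hp2 : p = 2 := by
        have := (Nat.Prime.dvd_of_dvd_pow Nat.prime_two hdvd)
        exact ((Nat.prime_dvd_prime_iff_eq Nat.prime_two hpp).mp this).symm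
      subst hp2
      have := CharP.cast_eq_zero F 2
      exact_mod_cast this
    have h8 : Fintype.card F % 8 = 1 ∨ Fintype.card F % 8 = 7 := by omega
    have h16 : Fintype.card F % 16 = 1 ∨ Fintype.card F % 16 = 7 ∨ Fintype.card F % 16 = 9 ∨
        Fintype.card F % 16 = 15 := by omega
    rw [Nat.pow_mod]
    rcases h16 with h | h | h | h <;> rw [h]

end PSL

/-- PSL_2(q) has a subgroup isomorphic to S_4 iff q² ≡ 1 (mod 16). -/
theorem result {F : Type*} [Field F] [Fintype F] {q : ℕ} (hF : Fintype.card F = q) : (∃ H : Subgroup (Matrix.ProjectiveSpecialLinearGroup (Fin 2) F), Nonempty (H ≃* Equiv.Perm (Fin 4))) ↔ q ^ 2 % 16 = 1 := by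
  subst hF
  constructor
  · rintro ⟨H, ⟨e⟩⟩
    exact card_mod_of_S4 H e
  · intro h16
    have hr : ∀ r : ℕ, r < 16 → r ^ 2 % 16 = 1 → r % 2 = 1 ∧ (r % 8 = 1 ∨ r % 8 = 7) := by decide
    have hmod := hr (Fintype.card F % 16) (Nat.mod_lt _ (by norm_num)) (by rw [← Nat.pow_mod]; exact h16)
    have hodd : Fintype.card F % 2 = 1 := by omega
    have h8 : Fintype.card F % 8 = 1 ∨ Fintype.card F % 8 = 7 := by omega
    have h2 : (2 : F) ≠ 0 := by
      intro h
      have : CharP F 2 := CharTwo.of_one_ne_zero_of_two_eq_zero one_ne_zero h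
      obtain ⟨n, _, hn⟩ := FiniteField.card F 2
      have h3 : 2 ∣ Fintype.card F := by
        rw [hn]
        exact dvd_pow_self 2 n.ne_zero
      omega
    have hsq : IsSquare (2 : F) := by
      rw [FiniteField.isSquare_two_iff]
      omega
    exact exists_S4_of_square hodd h2 hsq

end Cfsg.Agent.S0803
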