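import Cfsg.Statements.S0307
import Mathlib

set_option autoImplicit false
open Cfsg

namespace Cfsg.Agent.S0307

open Matrix Matrix.ProjGenLinGroup

section
variable {F : Type*} [Field F] {n : ℕ}

/-- The subgroup of `n`-th powers in `Fˣ`. -/
abbrev nthPowers (F : Type*) [Field F] (n : ℕ) : Subgroup Fˣ := (powMonoidHom n : Fˣ →* Fˣ).range

/-- `det` modulo `n`-th powers, on `GL`. -/
noncomputable def detMod (F : Type*) [Field F] (n : ℕ) : GL (Fin n) F →* Fˣ ⧸ nthPowers F n :=
  (QuotientGroup.mk' (nthPowers F n)).comp Matrix.GeneralLinearGroup.det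

theorem center_le_ker_detMod : Subgroup.center (GL (Fin n) F) ≤ (detMod F n).ker := by
  intro z hz
  rw [Matrix.GeneralLinearGroup.center_eq_range_scalar] at hz
  obtain ⟨u, rfl⟩ := hz
  rw [MonoidHom.mem_ker, detMod, MonoidHom.comp_apply, QuotientGroup.mk'_apply,
    QuotientGroup.eq_one_iff]
  refine ⟨u, ?_⟩
  apply Units.ext
  simp [Matrix.GeneralLinearGroup.scalar]

/-- `det` modulo `n`-th powers, on `PGL`. -/
noncomputable def detBar (F : Type*) [Field F] (n : ℕ) :
    Matrix.ProjGenLinGroup (Fin n) F →* Fˣ ⧸ nthPowers F n :=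
  QuotientGroup.lift (Subgroup.center (GL (Fin n) F)) (detMod F n) center_le_ker_detMod

theorem detBar_mk (g : GL (Fin n) F) :
    detBar F n (mk g) = (Matrix.GeneralLinearGroup.det g : Fˣ ⧸ nthPowers F n) := rfl

theorem detBar_surjective (hn : 1 ≤ n) : Function.Surjective (detBar F n) := by
  have : Nonempty (Fin n) := ⟨⟨0, hn⟩⟩
  intro x
  obtain ⟨u, rfl⟩ := QuotientGroup.mk_surjective x
  obtain ⟨g, rfl⟩ := Matrix.GeneralLinearGroup.det_surjective (n := Fin n) u
  exact ⟨mk g, rfl⟩

theorem detBar_ker :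
    (detBar F n).ker = (Matrix.ProjectiveSpecialLinearGroup.toPGL :
      Matrix.ProjectiveSpecialLinearGroup (Fin n) F →* Matrix.ProjGenLinGroup (Fin n) F).range := by
  ext x
  induction x using Matrix.ProjGenLinGroup.induction_on with | mk g =>
  rw [MonoidHom.mem_ker, detBar_mk, QuotientGroup.eq_one_iff, MonoidHom.mem_range]
  constructor
  · rintro ⟨u, hu⟩
    rw [powMonoidHom_apply] at hu
    let g' : GL (Fin n) F := g * Matrix.GeneralLinearGroup.scalar (Fin n) u⁻¹
    have hdet : (g' : Matrix (Fin n) (Fin n) F).det = 1 := by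
      have h1 : Matrix.GeneralLinearGroup.det g' = 1 := by
        rw [map_mul, ← hu]
        apply Units.ext
        simp [Matrix.GeneralLinearGroup.scalar]
      simpa using congrArg Units.val h1
    let A : Matrix.SpecialLinearGroup (Fin n) F := ⟨g'.1, hdet⟩
    refine ⟨QuotientGroup.mk A, ?_⟩
    have h1 := Matrix.ProjectiveSpecialLinearGroup.toPGL_mk A
    have h2 : (Matrix.SpecialLinearGroup.toGL A : GL (Fin n) F) = g' := Units.ext rfl
    rw [h2, map_mul, mk_scalar, mul_one] at h1
    exact h1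
  · rintro ⟨y, hy⟩
    obtain ⟨A, rfl⟩ := QuotientGroup.mk_surjective y
    rw [Matrix.ProjectiveSpecialLinearGroup.toPGL_mk, mk_eq_mk_iff] at hy
    obtain ⟨u, hu⟩ := hy
    refine ⟨u, ?_⟩
    rw [powMonoidHom_apply, ← hu, map_mul]
    apply Units.ext
    simp [Matrix.GeneralLinearGroup.scalar]

end

/-- PSL_n(q) is normal in PGL_n(q) with cyclic quotient of order gcd(n, q-1): the image of the natural map PSL_n → PGL_n is the kernel of a surjective homomorphism onto the cyclic group of that order. -/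
theorem result {F : Type*} [Field F] [Fintype F] {q : ℕ} (hF : Fintype.card F = q) (n : ℕ) (hn : 1 ≤ n) : ∃ g : Matrix.ProjGenLinGroup (Fin n) F →* Multiplicative (ZMod (Nat.gcd n (q - 1))), Function.Surjective g ∧ g.ker = (Matrix.ProjectiveSpecialLinearGroup.toPGL : Matrix.ProjectiveSpecialLinearGroup (Fin n) F →* Matrix.ProjGenLinGroup (Fin n) F).range := by
  classical
  have hcyc : IsCyclic (Fˣ ⧸ nthPowers F n) :=
    isCyclic_of_surjective (QuotientGroup.mk' (nthPowers F n)) (QuotientGroup.mk'_surjective _)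
  have hcard : Nat.card (Fˣ ⧸ nthPowers F n) = Nat.gcd n (q - 1) := by
    rw [← Subgroup.index_eq_card, IsCyclic.index_powMonoidHom_range, Nat.card_units, 
      Nat.card_eq_fintype_card, hF, Nat.gcd_comm]
  have e : Multiplicative (ZMod (Nat.gcd n (q - 1))) ≃* (Fˣ ⧸ nthPowers F n) :=
    hcard ▸ zmodCyclicMulEquiv hcyc
  refine ⟨e.symm.toMonoidHom.comp (detBar F n), ?_, ?_⟩
  · exact e.symm.surjective.comp (detBar_surjective hn)
  · rw [← detBar_ker]
    ext x
    simp [MonoidHom.mem_ker]

end Cfsg.Agent.S0307
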