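import Cfsg.Statements.S5892
import Cfsg.Agent.Lib.helper6.P2OddO
import Cfsg.Agent.Lib.helper6.PGL23
import Cfsg.Agent.Lib.helper3.DicksonConcB
import Cfsg.Agent.S0251
import Cfsg.Agent.S0253

set_option autoImplicit false
open Cfsg

namespace Cfsg.Agent.S5892

/-- Let F be a finite field of odd order q ≥ 5 and characteristic p, and let M be a maximal subgroup of PSL₂(F). Then one of the following holds: |M| = q(q − 1)/2 (the stabiliser of a point of the projective line); q ≥ 13 and M is dihedral of order q − 1; q ∉ {7, 9} and M is dihedral of order q + 1; q = q₀² and M ≅ PGL₂(F₀) with |F₀| = q₀; q = q₀^r for an odd prime r and M ≅ PSL₂(F₀) with |F₀| = q₀; q ≡ ±1 (mod 10) with q = p or q = p², p ≡ ±3 (mod 10), and M ≅ A₅; q = p ≡ ±3 (mod 8), q ≢ ±1 (mod 10), and M ≅ A₄; or q = p ≡ ±1 (mod 8) and M ≅ S₄. -/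
theorem result {F : Type*} [Field F] [Fintype F] (p : ℕ)
    [Fact p.Prime] [CharP F p] (hodd : Odd (Fintype.card F)) (h5 : 5 ≤ Fintype.card F)
    (M : Subgroup (Matrix.ProjectiveSpecialLinearGroup (Fin 2) F)) (hM : IsCoatom M) :
    2 * Nat.card M = Fintype.card F * (Fintype.card F - 1) ∨
    (13 ≤ Fintype.card F ∧ (∃ k : ℕ, 2 * k = Fintype.card F - 1 ∧ Nonempty (M ≃* DihedralGroup k))) ∨
    (Fintype.card F ≠ 7 ∧ Fintype.card F ≠ 9 ∧ (∃ k : ℕ, 2 * k = Fintype.card F + 1 ∧ Nonempty (M ≃* DihedralGroup k))) ∨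
    (∃ (F₀ : Type) (_ : Field F₀) (_ : Fintype F₀), Fintype.card F = Fintype.card F₀ ^ 2 ∧
        Nonempty (M ≃* Matrix.ProjGenLinGroup (Fin 2) F₀)) ∨
    (∃ (F₀ : Type) (_ : Field F₀) (_ : Fintype F₀) (r : ℕ), r.Prime ∧ Odd r ∧ Fintype.card F = Fintype.card F₀ ^ r ∧
        Nonempty (M ≃* Matrix.ProjectiveSpecialLinearGroup (Fin 2) F₀)) ∨
    ((Fintype.card F % 10 = 1 ∨ Fintype.card F % 10 = 9) ∧
        (Fintype.card F = p ∨ (Fintype.card F = p ^ 2 ∧ (p % 10 = 3 ∨ p % 10 = 7))) ∧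
        Nonempty (M ≃* alternatingGroup (Fin 5))) ∨
    (Fintype.card F = p ∧ (p % 8 = 3 ∨ p % 8 = 5) ∧ ¬ (p % 10 = 1 ∨ p % 10 = 9) ∧
        Nonempty (M ≃* alternatingGroup (Fin 4))) ∨
    (Fintype.card F = p ∧ (p % 8 = 1 ∨ p % 8 = 7) ∧ Nonempty (M ≃* Equiv.Perm (Fin 4))) := by
  classical
  have hp : p.Prime := Fact.out
  obtain ⟨k₀, hk₀0, hk₀⟩ := Cfsg.Agent.Lib.helper6.P2Odd.exists_card_pow (F := F) p
  have hp2 : p ≠ 2 := by
    rintro rfl
    rw [hk₀] at hodd
    exact (Nat.not_even_iff_odd.mpr hodd) (Nat.even_pow.mpr ⟨even_two, hk₀0⟩)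
  have h4 : 4 ≤ Fintype.card F := by omega
  have hq2 : 2 ≤ Fintype.card F := by omega
  obtain ⟨X', _, D⟩ := Cfsg.Agent.Lib.helper3.psl2_dact (F := F) p
  obtain ⟨r, s, hFull⟩ := Cfsg.Agent.Lib.helper6.PSL2Struct.psl_full p h4 D
  have hgcd : Nat.gcd 2 (Fintype.card F - 1) = 2 := by
    obtain ⟨t, ht⟩ := hodd
    rw [ht, Nat.add_sub_cancel]
    exact Nat.gcd_eq_left (Dvd.intro _ rfl)
  rw [hgcd] at hFull
  have D' := Cfsg.Agent.Lib.helper3.dk_restrict D M
  rcases Cfsg.Agent.Lib.helper6.Dickson.dickson_refined D' with h | h | h | h | h | h | h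
  · -- cyclic
    exact (Cfsg.Agent.Lib.helper6.P2Odd.cyclic_case hFull hq2 hp2 hM h.1 h.2).elim
  · -- dihedral
    obtain ⟨s₀, ⟨e⟩, hcop⟩ := h
    have hcM : Nat.card M = 2 * orderOf s₀ := by
      rw [Nat.card_congr e.toEquiv, DihedralGroup.nat_card]
    have hex := Cfsg.Agent.Lib.helper6.P2Odd.small_excl p hp2 hM
    obtain ⟨t, ht⟩ := hodd
    rcases Cfsg.Agent.Lib.helper6.P2Odd.dihedral_case hFull hq2 hp2 hM e hcop with h1 | h1
    · by_cases h13 : 13 ≤ Fintype.card F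
      · right; left
        exact ⟨h13, orderOf s₀, by omega, ⟨e⟩⟩
      · exfalso
        apply hex
        have ht' : t = 2 ∨ t = 3 ∨ t = 4 ∨ t = 5 := by omega
        rcases ht' with rfl | rfl | rfl | rfl
        · left; constructor <;> omega
        · right; left; constructor <;> omega
        · right; right; right; left; constructor <;> omega
        · right; right; right; right; right; constructor <;> omega
    · by_cases h79 : Fintype.card F ≠ 7 ∧ Fintype.card F ≠ 9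
      · right; right; left
        exact ⟨h79.1, h79.2, orderOf s₀, by omega, ⟨e⟩⟩
      · exfalso
        apply hex
        have ht' : t = 3 ∨ t = 4 := by omega
        rcases ht' with rfl | rfl
        · right; right; left; constructor <;> omega
        · right; right; right; right; left; constructor <;> omega
  · -- Borel
    obtain ⟨x, hfix, hQ⟩ := h
    left
    obtain ⟨⟨u, hu⟩, hu1⟩ := (Subgroup.ne_bot_iff_exists_ne_one).mp hQ
    have hu1' : u ≠ 1 := fun hc => hu1 (Subtype.ext hc)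
    have hpar : Cfsg.Agent.Lib.helper6.Dickson.IsPar x u := by
      rcases hu with hu | hu
      · exact absurd hu hu1'
      · exact hu
    have := Cfsg.Agent.Lib.helper6.P2Odd.borel_case hFull hM (x := x)
      (fun h hh => hfix ⟨h, hh⟩) ((Cfsg.Agent.Lib.helper3.dk_isPar_coe M x u).mp hpar)
    rw [mul_comm]; exact this
  · -- A₄
    obtain ⟨e⟩ := h
    rcases Cfsg.Agent.Lib.helper6.P2Odd.a4_case p hp2 h4 hM e with ⟨r', hr', hodd', hp3, hcard⟩ | ⟨hq, hmod, hnot⟩
    · right; right; right; right; left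
      haveI : Fact (Nat.Prime 3) := ⟨Nat.prime_three⟩
      obtain ⟨e'⟩ := Cfsg.Agent.S0251.result (F := ZMod 3) (ZMod.card 3)
      exact ⟨ZMod 3, inferInstance, inferInstance, r', hr', hodd', by rw [hcard, ZMod.card],
        ⟨e.trans e'.symm⟩⟩
    · right; right; right; right; right; right; left
      exact ⟨hq, hmod, hnot, ⟨e⟩⟩
  · -- S₄
    obtain ⟨e⟩ := h
    rcases Cfsg.Agent.Lib.helper6.P2Odd.s4_case p hp2 hM e with h9 | ⟨hq, hmod⟩
    · right; right; right; left
      haveI : Fact (Nat.Prime 3) := ⟨Nat.prime_three⟩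
      obtain ⟨e'⟩ := Cfsg.Agent.Lib.helper6.PGL23.perm4_equiv_pgl2
      exact ⟨ZMod 3, inferInstance, inferInstance, by rw [h9, ZMod.card]; norm_num, ⟨e.trans e'⟩⟩
    · right; right; right; right; right; right; right
      exact ⟨hq, hmod, ⟨e⟩⟩
  · -- A₅
    obtain ⟨e⟩ := h
    rcases Cfsg.Agent.Lib.helper6.P2Odd.a5_case p hp2 hM e with ⟨r', hr', hodd', hp5, hcard⟩ | ⟨hmod, hq⟩
    · right; right; right; right; left
      haveI : Fact (Nat.Prime 5) := ⟨Nat.prime_five⟩
      obtain ⟨e'⟩ := Cfsg.Agent.S0253.result (F := ZMod 5) (ZMod.card 5)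
      exact ⟨ZMod 5, inferInstance, inferInstance, r', hr', hodd', by rw [hcard, ZMod.card],
        ⟨e.trans e'.symm⟩⟩
    · right; right; right; right; right; left
      exact ⟨hmod, hq, ⟨e⟩⟩
  · -- subfield cases
    obtain ⟨K, _, _, a, h₀, hK, hcase⟩ := h
    rcases hcase with ⟨⟨e⟩, -, c, m, hc, hm, hord⟩ | ⟨⟨e⟩, -, hord⟩
    · right; right; right; right; left
      obtain ⟨r', hr', hodd', hcard⟩ :=
        Cfsg.Agent.Lib.helper6.P2Odd.psl_case p hp2 D hM hK e hc hm hord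
      exact ⟨K, inferInstance, inferInstance, r', hr', hodd', hcard, ⟨e⟩⟩
    · right; right; right; left
      have hcard := Cfsg.Agent.Lib.helper6.P2Odd.pgl_case p hp2 D hM hK e hord
      exact ⟨K, inferInstance, inferInstance, hcard, ⟨e⟩⟩

end Cfsg.Agent.S5892
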