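import Cfsg.Statements.S5891
import Cfsg.Agent.Lib.helper6.PGLm
import Cfsg.Agent.Lib.helper6.PGL23
import Cfsg.Agent.Lib.helper6.DicksonR
import Cfsg.Agent.Lib.helper3.DicksonConcB
import Cfsg.Agent.S0251
import Cfsg.Agent.S0253

set_option autoImplicit false
open Cfsg

namespace Cfsg.Agent.S5891

/-- Let F be a finite field of odd order q > 3 and characteristic p, and let M be a maximal subgroup of PGL₂(F) not containing the image L of SL₂(F) (a copy of PSL₂(F) of index 2). Then one of the following holds: |M| = q(q − 1) (M is the stabiliser of a point of the projective line); q ≠ 5 and M is dihedral of order 2(q − 1); M is dihedral of order 2(q + 1); q = p ≡ ±3 (mod 8) and M ≅ S₄; or q = q₀^r for an odd prime r and M ≅ PGL₂(F₀) with |F₀| = q₀. -/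
theorem result {F : Type*} [Field F] [Fintype F]
    (hodd : Odd (Fintype.card F)) (h3 : 3 < Fintype.card F) (M : Subgroup (Matrix.ProjGenLinGroup (Fin 2) F)) (hM : IsCoatom M)
    (hML : ¬ (Matrix.ProjGenLinGroup.mk.comp Matrix.SpecialLinearGroup.toGL).range ≤ M) :
    Nat.card M = Fintype.card F * (Fintype.card F - 1) ∨
    (Fintype.card F ≠ 5 ∧ Nonempty (M ≃* DihedralGroup (Fintype.card F - 1))) ∨
    Nonempty (M ≃* DihedralGroup (Fintype.card F + 1)) ∨
    ((Fintype.card F).Prime ∧ (Fintype.card F % 8 = 3 ∨ Fintype.card F % 8 = 5) ∧ Nonempty (M ≃* Equiv.Perm (Fin 4))) ∨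
    (∃ (F₀ : Type) (_ : Field F₀) (_ : Fintype F₀) (r : ℕ), r.Prime ∧ Odd r ∧ Fintype.card F = Fintype.card F₀ ^ r ∧
        Nonempty (M ≃* Matrix.ProjGenLinGroup (Fin 2) F₀)) := by
  classical
  obtain ⟨p, hchar⟩ := CharP.exists F
  obtain ⟨n₀, hp, hn₀⟩ := FiniteField.card F p
  haveI : Fact p.Prime := ⟨hp⟩
  have hp2 : p ≠ 2 := by
    rintro rfl
    rw [hn₀] at hodd
    exact (Nat.not_even_iff_odd.mpr hodd) (Nat.even_pow.mpr ⟨even_two, n₀.ne_zero⟩)
  have hpodd : Odd p := hp.odd_of_ne_two hp2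
  have h4 : 4 ≤ Fintype.card F := by omega
  have hq2 : 2 ≤ Fintype.card F := by omega
  have hML' : ¬ M ≤ Cfsg.Agent.Lib.helper6.PGLx.Lr F :=
    Cfsg.Agent.Lib.helper6.PGLx.not_le_Lr_of_coatom hodd hM hML
  obtain ⟨X', _, D⟩ := Cfsg.Agent.Lib.helper6.PGLx.pgl2_dact (F := F) p hodd
  obtain ⟨r, s, hFull⟩ := Cfsg.Agent.Lib.helper6.PGLx.pgl_full p hodd h4 D
  have D' := Cfsg.Agent.Lib.helper3.dk_restrict D M
  rcases Cfsg.Agent.Lib.helper6.Dickson.dickson_refined D' with h | h | h | h | h | h | h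
  · -- cyclic
    exact (Cfsg.Agent.Lib.helper6.P2Odd.cyclic_case hFull hq2 hp2 hM h.1 h.2).elim
  · -- dihedral
    obtain ⟨s₀, ⟨e⟩, hcop⟩ := h
    obtain ⟨n, hn⟩ : ∃ n, n = orderOf s₀ := ⟨_, rfl⟩
    rw [← hn] at e hcop
    have hcM : Nat.card M = 2 * n := by
      rw [Nat.card_congr e.toEquiv, DihedralGroup.nat_card]
    rcases Cfsg.Agent.Lib.helper6.P2Odd.dihedral_case hFull hq2 hp2 hM e hcop with h1 | h1
    · have hn1 : n = Fintype.card F - 1 := by omega
      subst hn1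
      by_cases h5 : Fintype.card F = 5
      · exfalso
        have h54 : Fintype.card F - 1 = 4 := by omega
        rw [h54] at e
        exact Cfsg.Agent.Lib.helper6.PGLx.d4_excl p h5 hM e
      · right; left
        exact ⟨h5, ⟨e⟩⟩
    · have hn1 : n = Fintype.card F + 1 := by omega
      subst hn1
      right; right; left
      exact ⟨e⟩
  · -- Borel
    obtain ⟨x, hfix, hQ⟩ := h
    left
    obtain ⟨⟨u, hu⟩, hu1⟩ := (Subgroup.ne_bot_iff_exists_ne_one).mp hQ
    have hu1' : u ≠ 1 := fun hc => hu1 (Subtype.ext hc)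
    have hpar : Cfsg.Agent.Lib.helper6.Dickson.IsPar x u := by
      rcases hu with hu | hu
      · exact absurd hu hu1'
      · exact hu
    have := Cfsg.Agent.Lib.helper6.P2Odd.borel_case hFull hM (x := x)
      (fun h hh => hfix ⟨h, hh⟩) ((Cfsg.Agent.Lib.helper3.dk_isPar_coe M x u).mp hpar)
    rw [mul_one] at this
    exact this
  · -- A₄
    exfalso
    obtain ⟨e⟩ := h
    haveI : Fact (Nat.Prime 3) := ⟨Nat.prime_three⟩
    obtain ⟨e'⟩ := Cfsg.Agent.S0251.result (F := ZMod 3) (ZMod.card 3)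
    exact hML' (Cfsg.Agent.Lib.helper6.PGLx.le_Lr_of_equiv_psl 3 (by decide) (e.trans e'.symm))
  · -- S₄
    obtain ⟨e⟩ := h
    rcases Cfsg.Agent.Lib.helper6.PGLx.s4_case_pgl p hp2 h4 hM hML' e with
      ⟨hq, hmod⟩ | ⟨r', hr', hodd', hcard⟩
    · right; right; right; left
      refine ⟨by rw [hq]; exact hp, by rw [hq]; exact hmod, ⟨e⟩⟩
    · right; right; right; right
      haveI : Fact (Nat.Prime 3) := ⟨Nat.prime_three⟩
      obtain ⟨e'⟩ := Cfsg.Agent.Lib.helper6.PGL23.perm4_equiv_pgl2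
      exact ⟨ZMod 3, inferInstance, inferInstance, r', hr', hodd', by rw [hcard, ZMod.card],
        ⟨e.trans e'⟩⟩
  · -- A₅
    exfalso
    obtain ⟨e⟩ := h
    haveI : Fact (Nat.Prime 5) := ⟨Nat.prime_five⟩
    obtain ⟨e'⟩ := Cfsg.Agent.S0253.result (F := ZMod 5) (ZMod.card 5)
    exact hML' (Cfsg.Agent.Lib.helper6.PGLx.le_Lr_of_equiv_psl 5 (by decide) (e.trans e'.symm))
  · -- subfield cases
    obtain ⟨K, _, _, a, h₀, hK, hcase⟩ := h
    rcases hcase with ⟨⟨e⟩, -, -⟩ | ⟨⟨e⟩, -, -⟩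
    · exfalso
      haveI : CharP K p := charP_of_card_eq_prime_pow hK
      exact hML' (Cfsg.Agent.Lib.helper6.PGLx.le_Lr_of_equiv_psl p hpodd e)
    · right; right; right; right
      obtain ⟨r', hr', hodd', hcard⟩ :=
        Cfsg.Agent.Lib.helper6.PGLx.pgl_case_pgl p hp2 hM hML' hK e
      exact ⟨K, inferInstance, inferInstance, r', hr', hodd', hcard, ⟨e⟩⟩

end Cfsg.Agent.S5891
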