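import Cfsg.Statements.S0805
import Cfsg.Agent.S0243

set_option autoImplicit false
set_option linter.style.haveILetI false
open Cfsg

namespace Cfsg.Agent.S0805

open Matrix MatrixGroups Module

theorem exists_ringHom_of_card_pow {F K : Type*} [Field F] [Fintype F] [Field K] [Fintype K]
    (m : ℕ) (hK : Fintype.card K ^ m = Fintype.card F) : Nonempty (K →+* F) := by
  classical
  obtain ⟨p, hp⟩ := CharP.exists K
  haveI := hp
  haveI : Fact p.Prime := ⟨CharP.char_is_prime K p⟩
  obtain ⟨n, hpn, hn⟩ := FiniteField.card K p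
  obtain ⟨p', hp'⟩ := CharP.exists F
  haveI := hp'
  haveI : Fact p'.Prime := ⟨CharP.char_is_prime F p'⟩
  obtain ⟨n', hpn', hn'⟩ := FiniteField.card F p'
  have hpp : p' = p := by
    rw [hn, hn', ← pow_mul] at hK
    have h1 : p' ∣ p ^ ((n : ℕ) * m) := by
      rw [hK]; exact dvd_pow_self _ (PNat.ne_zero n')
    exact (Nat.prime_dvd_prime_iff_eq (Fact.out) (Fact.out)).mp ((Fact.out : p'.Prime).dvd_of_dvd_pow h1)
  subst hpp
  letI : Algebra (ZMod p') K := ZMod.algebra K p'
  letI : Algebra (ZMod p') F := ZMod.algebra F p'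
  have h1 := FiniteField.pow_finrank_eq_card p' K
  have h2 := FiniteField.pow_finrank_eq_card p' F
  have hdvd : finrank (ZMod p') K ∣ finrank (ZMod p') F := by
    rw [← hK, ← h1, ← pow_mul] at h2
    have := Nat.pow_right_injective (Fact.out : p'.Prime).two_le h2
    rw [this]
    exact dvd_mul_right _ _
  obtain ⟨f⟩ := FiniteField.nonempty_algHom_of_finrank_dvd hdvd
  exact ⟨f.toRingHom⟩

section
variable {F K : Type*} [Field F] [Field K] (ι : K →+* F)

theorem ker_psl_map :
    ((QuotientGroup.mk' (Subgroup.center (Matrix.SpecialLinearGroup (Fin 2) F))).comp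
      (Matrix.SpecialLinearGroup.map ι)).ker = Subgroup.center (Matrix.SpecialLinearGroup (Fin 2) K) := by
  ext g
  rw [MonoidHom.mem_ker, MonoidHom.comp_apply, QuotientGroup.mk'_apply, QuotientGroup.eq_one_iff,
    Matrix.SpecialLinearGroup.mem_center_iff, Matrix.SpecialLinearGroup.mem_center_iff]
  constructor
  · rintro ⟨s, hs, hsg⟩
    have h01 : g 0 1 = 0 := by
      have := congrFun (congrFun hsg 0) 1
      simp [Matrix.SpecialLinearGroup.map_apply_coe] at this
      exact (map_eq_zero_iff ι ι.injective).mp this.symm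
    have h10 : g 1 0 = 0 := by
      have := congrFun (congrFun hsg 1) 0
      simp [Matrix.SpecialLinearGroup.map_apply_coe] at this
      exact (map_eq_zero_iff ι ι.injective).mp this.symm
    have h00 : ι (g 0 0) = s := by
      have := congrFun (congrFun hsg 0) 0
      simp [Matrix.SpecialLinearGroup.map_apply_coe] at this
      exact this.symm
    have h11 : ι (g 1 1) = s := by
      have := congrFun (congrFun hsg 1) 1
      simp [Matrix.SpecialLinearGroup.map_apply_coe] at this
      exact this.symm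
    have heq : g 0 0 = g 1 1 := ι.injective (h00.trans h11.symm)
    refine ⟨g 0 0, ?_, ?_⟩
    · apply ι.injective
      rw [map_pow, h00, map_one]
      exact hs
    · ext i j
      fin_cases i <;> fin_cases j <;> simp [h01, h10, heq]
  · rintro ⟨t, ht, htg⟩
    refine ⟨ι t, ?_, ?_⟩
    · rw [← map_pow, ht, map_one]
    · ext i j
      rw [Matrix.SpecialLinearGroup.map_apply_coe, RingHom.mapMatrix_apply, Matrix.map_apply, ← htg]
      fin_cases i <;> fin_cases j <;> simp

theorem exists_psl_sub (ι : K →+* F) : ∃ H : Subgroup (Matrix.ProjectiveSpecialLinearGroup (Fin 2) F),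
    Nonempty (H ≃* Matrix.ProjectiveSpecialLinearGroup (Fin 2) K) := by
  refine ⟨((QuotientGroup.mk' (Subgroup.center (Matrix.SpecialLinearGroup (Fin 2) F))).comp
      (Matrix.SpecialLinearGroup.map ι)).range, ⟨?_⟩⟩
  exact ((QuotientGroup.quotientMulEquivOfEq (ker_psl_map ι).symm).trans
    (QuotientGroup.quotientKerEquivRange _)).symm
end

section
variable {F K : Type*} [Field F] [Field K]

theorem ker_pgl_map (ι : K →+* F) :
    ((ProjGenLinGroup.mk).comp (GeneralLinearGroup.map ι) :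
      GL (Fin 2) K →* Matrix.ProjGenLinGroup (Fin 2) F).ker = Subgroup.center (GL (Fin 2) K) := by
  ext g
  rw [MonoidHom.mem_ker, MonoidHom.comp_apply, ProjGenLinGroup.mk_eq_one,
    GeneralLinearGroup.center_eq_range_scalar, GeneralLinearGroup.center_eq_range_scalar,
    MonoidHom.mem_range, MonoidHom.mem_range]
  constructor
  · rintro ⟨u, hu⟩
    have hent : ∀ i j, (Matrix.scalar (Fin 2) (u : F)) i j = ι (g i j) := by
      intro i j
      have := congrArg (fun x : GL (Fin 2) F => (x : Matrix (Fin 2) (Fin 2) F) i j) hu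
      simpa using this
    have h01 : g 0 1 = 0 := by
      have := hent 0 1
      simp at this
      exact (map_eq_zero_iff ι ι.injective).mp this.symm
    have h10 : g 1 0 = 0 := by
      have := hent 1 0
      simp at this
      exact (map_eq_zero_iff ι ι.injective).mp this.symm
    have h00 : ι (g 0 0) = u := by
      have := hent 0 0
      simp at this
      exact this.symm
    have h11 : ι (g 1 1) = u := by
      have := hent 1 1
      simp at this
      exact this.symm
    have heq : g 1 1 = g 0 0 := ι.injective (h11.trans h00.symm)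
    have hne : g 0 0 ≠ 0 := by
      intro h
      rw [h, map_zero] at h00
      exact u.ne_zero h00.symm
    refine ⟨Units.mk0 (g 0 0) hne, ?_⟩
    apply Units.ext
    ext i j
    rw [GeneralLinearGroup.coe_scalar]
    fin_cases i <;> fin_cases j <;> simp [h01, h10, heq]
  · rintro ⟨t, rfl⟩
    refine ⟨Units.map ι t, ?_⟩
    apply Units.ext
    ext i j
    rw [GeneralLinearGroup.coe_scalar]
    simp only [GeneralLinearGroup.map_apply, GeneralLinearGroup.coe_scalar]
    fin_cases i <;> fin_cases j <;> simp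
end

section
variable {F K : Type*} [Field F] [Field K]

theorem range_le (ι : K →+* F) (hsq : ∀ d : K, d ≠ 0 → ∃ s : F, s * s = ι d) :
    ((ProjGenLinGroup.mk).comp (GeneralLinearGroup.map ι) :
      GL (Fin 2) K →* Matrix.ProjGenLinGroup (Fin 2) F).range ≤
    (ProjectiveSpecialLinearGroup.toPGL :
      Matrix.ProjectiveSpecialLinearGroup (Fin 2) F →* Matrix.ProjGenLinGroup (Fin 2) F).range := by
  rintro _ ⟨g, rfl⟩
  obtain ⟨s, hs⟩ := hsq ((GeneralLinearGroup.det g : Kˣ) : K) (Units.ne_zero _)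
  have hs0 : s ≠ 0 := by
    rintro rfl
    rw [mul_zero] at hs
    exact (Units.ne_zero _) ((map_eq_zero_iff ι ι.injective).mp hs.symm)
  have hdetM : ((GeneralLinearGroup.map ι g : GL (Fin 2) F) : Matrix (Fin 2) (Fin 2) F).det = s * s := by
    rw [hs]
    have := congrArg Units.val (GeneralLinearGroup.map_det ι g)
    simpa using this
  have hdet : (s⁻¹ • ((GeneralLinearGroup.map ι g : GL (Fin 2) F) : Matrix (Fin 2) (Fin 2) F)).det = 1 := by
    rw [Matrix.det_smul, Fintype.card_fin, hdetM]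
    field_simp
  obtain ⟨A, hA⟩ : ∃ A : Matrix.SpecialLinearGroup (Fin 2) F, (A : Matrix (Fin 2) (Fin 2) F) =
      s⁻¹ • ((GeneralLinearGroup.map ι g : GL (Fin 2) F) : Matrix (Fin 2) (Fin 2) F) := ⟨⟨_, hdet⟩, rfl⟩
  refine ⟨QuotientGroup.mk A, ?_⟩
  show ProjGenLinGroup.mk (Matrix.SpecialLinearGroup.toGL A) = ProjGenLinGroup.mk (GeneralLinearGroup.map ι g)
  rw [ProjGenLinGroup.mk_eq_mk_iff]
  refine ⟨Units.mk0 s hs0, Units.ext ?_⟩
  rw [Units.val_mul, GeneralLinearGroup.coe_scalar, Matrix.SpecialLinearGroup.coe_GL_coe_matrix, hA, Units.val_mk0,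
    Matrix.scalar_apply, ← Matrix.smul_one_eq_diagonal, Matrix.smul_mul, Matrix.mul_smul, Matrix.mul_one,
    smul_smul, inv_mul_cancel₀ hs0, one_smul]
end

section
variable {F K : Type*} [Field F] [Field K]

theorem exists_pgl_sub (ι : K →+* F) (hsq : ∀ d : K, d ≠ 0 → ∃ s : F, s * s = ι d) :
    ∃ H : Subgroup (Matrix.ProjectiveSpecialLinearGroup (Fin 2) F),
      Nonempty (H ≃* Matrix.ProjGenLinGroup (Fin 2) K) := by
  obtain ⟨k, hk⟩ : ∃ k : GL (Fin 2) K →* Matrix.ProjGenLinGroup (Fin 2) F,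
      k = (ProjGenLinGroup.mk).comp (GeneralLinearGroup.map ι) := ⟨_, rfl⟩
  obtain ⟨j, hj⟩ : ∃ j : Matrix.ProjectiveSpecialLinearGroup (Fin 2) F →* Matrix.ProjGenLinGroup (Fin 2) F,
      j = ProjectiveSpecialLinearGroup.toPGL := ⟨_, rfl⟩
  have hjinj : Function.Injective j := by rw [hj]; exact ProjectiveSpecialLinearGroup.toPGL_injective
  refine ⟨k.range.comap j, ⟨?_⟩⟩
  have e1 : ↥(k.range.comap j) ≃* ↥((k.range.comap j).map j) := Subgroup.equivMapOfInjective _ j hjinj
  have h2 : (k.range.comap j).map j = k.range := by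
    rw [Subgroup.map_comap_eq, inf_eq_right, hk, hj]
    exact range_le ι hsq
  have e2 : ↥((k.range.comap j).map j) ≃* ↥k.range := MulEquiv.subgroupCongr h2
  have e3 : GL (Fin 2) K ⧸ k.ker ≃* ↥k.range := QuotientGroup.quotientKerEquivRange k
  have hker : k.ker = Subgroup.center (GL (Fin 2) K) := by rw [hk]; exact ker_pgl_map ι
  have e4 : GL (Fin 2) K ⧸ k.ker ≃* GL (Fin 2) K ⧸ Subgroup.center (GL (Fin 2) K) :=
    QuotientGroup.quotientMulEquivOfEq hker
  exact (e1.trans e2).trans (e3.symm.trans e4)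
end

theorem half_card_dvd (r k q : ℕ) (hr : Odd r) (hq : q = (r ^ 2) ^ k) :
    ∃ c, q / 2 = (r - 1) * c := by
  obtain ⟨a, rfl⟩ := hr
  have h1 : (2 * a + 1) ^ 2 = 1 + 2 * (2 * a + 1 - 1) * (a + 1) := by
    rw [Nat.add_sub_cancel]; ring
  have h2 : (2 * a + 1) ^ 2 ≡ 1 [MOD 2 * (2 * a + 1 - 1)] := by
    show (2 * a + 1) ^ 2 % _ = 1 % _
    rw [h1, Nat.add_mul_mod_self_left]
  have h3 := h2.pow k
  rw [one_pow] at h3
  have hpos : 1 ≤ ((2 * a + 1) ^ 2) ^ k := Nat.one_le_pow _ _ (by positivity)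
  obtain ⟨c, hc⟩ := (Nat.modEq_iff_dvd' hpos).mp h3.symm
  refine ⟨c, ?_⟩
  rw [hq]
  have : 2 * (2 * a + 1 - 1) * c = 2 * ((2 * a + 1 - 1) * c) := by ring
  rw [this] at hc
  generalize (2 * a + 1 - 1) * c = P at hc ⊢
  generalize ((2 * a + 1) ^ 2) ^ k = Q at hc hpos ⊢
  omega

theorem exists_sqrt_of_even {F K : Type*} [Field F] [Fintype F] [Field K] [Fintype K]
    (ι : K →+* F) (hodd : Odd (Fintype.card F)) (k : ℕ)
    (hK : Fintype.card K ^ (2 * k) = Fintype.card F) (hk : k ≠ 0) (d : K) (hd : d ≠ 0) :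
    ∃ s : F, s * s = ι d := by
  have hrodd : Odd (Fintype.card K) := by
    rw [← hK] at hodd
    exact (Nat.odd_pow_iff (by omega)).mp hodd
  obtain ⟨c, hc⟩ := half_card_dvd (Fintype.card K) k (Fintype.card F) hrodd (by rw [← hK, pow_mul])
  have hchar : ringChar F ≠ 2 := by
    intro h
    have := FiniteField.even_card_of_char_two h
    rcases hodd with ⟨t, ht⟩
    omega
  have hιd : ι d ≠ 0 := fun h => hd ((map_eq_zero_iff ι ι.injective).mp h)
  have hsq : IsSquare (ι d) := by
    rw [FiniteField.isSquare_iff hchar hιd, hc, ← map_pow, pow_mul,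
      FiniteField.pow_card_sub_one_eq_one d hd, one_pow, map_one]
  obtain ⟨s, hs⟩ := hsq
  exact ⟨s, hs.symm⟩

theorem geom_odd (x m : ℕ) (hx : Odd x) (hm : Odd m) : Odd (∑ i ∈ Finset.range m, x ^ i) := by
  rw [Finset.odd_sum_iff_odd_card_odd]
  have : {i ∈ Finset.range m | Odd (x ^ i)} = Finset.range m := by
    apply Finset.filter_true_of_mem
    intro i _
    exact hx.pow
  rw [this, Finset.card_range]
  exact hm

section
variable {K : Type*} [Field K] [Fintype K]

theorem card_center_GL2 : Nat.card (Subgroup.center (GL (Fin 2) K)) = Fintype.card K - 1 := by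
  rw [GeneralLinearGroup.center_eq_range_scalar]
  have hinj : Function.Injective (GeneralLinearGroup.scalar (Fin 2) : Kˣ →* GL (Fin 2) K) := by
    intro u v huv
    have := congrArg (fun x : GL (Fin 2) K => (x : Matrix (Fin 2) (Fin 2) K) 0 0) huv
    simp only [GeneralLinearGroup.coe_scalar, Matrix.scalar_apply, Matrix.diagonal_apply_eq] at this
    exact Units.ext this
  rw [← Nat.card_congr (MonoidHom.ofInjective hinj).toEquiv, Nat.card_units, Nat.card_eq_fintype_card]

theorem card_PGL2 : Nat.card (Matrix.ProjGenLinGroup (Fin 2) K) * (Fintype.card K - 1) =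
    (Fintype.card K ^ 2 - 1) * (Fintype.card K ^ 2 - Fintype.card K) := by
  have h1 := Subgroup.card_eq_card_quotient_mul_card_subgroup (Subgroup.center (GL (Fin 2) K))
  rw [card_center_GL2, Matrix.card_GL_field, Fin.prod_univ_two] at h1
  simp only [Fin.val_zero, pow_zero, Fin.val_one, pow_one] at h1
  rw [h1]
  rfl
end

theorem no_pgl_of_odd {F K : Type*} [Field F] [Fintype F] [Field K] [Fintype K]
    (hodd : Odd (Fintype.card F)) (m : ℕ) (hm : Odd m) (hK : Fintype.card K ^ m = Fintype.card F)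
    (H : Subgroup (Matrix.ProjectiveSpecialLinearGroup (Fin 2) F))
    (e : H ≃* Matrix.ProjGenLinGroup (Fin 2) K) : False := by
  classical
  have hm0 : m ≠ 0 := by rintro rfl; exact absurd hm (by decide)
  have hN := card_PGL2 (K := K)
  have hP := Cfsg.Agent.S0243.result (F := F) rfl 2 le_rfl
  rw [Fin.prod_univ_two] at hP
  simp only [Fin.val_zero, pow_zero, Fin.val_one, pow_one] at hP
  have hdvd : Nat.card (Matrix.ProjGenLinGroup (Fin 2) K) ∣
      Nat.card (Matrix.ProjectiveSpecialLinearGroup (Fin 2) F) := by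
    rw [← Nat.card_congr e.toEquiv]; exact Subgroup.card_subgroup_dvd_card H
  have hr2 : 2 ≤ Fintype.card K := Fintype.one_lt_card
  have hrodd : Odd (Fintype.card K) := by
    rw [← hK] at hodd
    exact (Nat.odd_pow_iff hm0).mp hodd
  obtain ⟨N, hNdef⟩ : ∃ N, Nat.card (Matrix.ProjGenLinGroup (Fin 2) K) = N := ⟨_, rfl⟩
  obtain ⟨P, hPdef⟩ : ∃ P, Nat.card (Matrix.ProjectiveSpecialLinearGroup (Fin 2) F) = P := ⟨_, rfl⟩
  obtain ⟨r, hrdef⟩ : ∃ r, Fintype.card K = r := ⟨_, rfl⟩
  obtain ⟨q, hqdef⟩ : ∃ q, Fintype.card F = q := ⟨_, rfl⟩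
  rw [hNdef, hrdef] at hN
  rw [hPdef, hqdef] at hP
  rw [hNdef, hPdef] at hdvd
  rw [hrdef] at hr2 hrodd hK
  rw [hqdef] at hodd hK
  obtain ⟨R2, hR2⟩ : ∃ R2, r ^ 2 = R2 + 1 := ⟨r ^ 2 - 1, by
    have : 1 ≤ r ^ 2 := Nat.one_le_pow _ _ (by omega)
    omega⟩
  have hR2pos : 0 < R2 := by nlinarith
  -- N = R2 * r
  have hN' : N = R2 * r := by
    have h1 : r ^ 2 - 1 = R2 := by omega
    have h2 : r ^ 2 - r = r * (r - 1) := by
      rw [Nat.mul_sub, mul_one, pow_two]
    rw [h1, h2] at hN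
    have h3 : N * (r - 1) = (R2 * r) * (r - 1) := by rw [hN]; ring
    exact Nat.eq_of_mul_eq_mul_right (by omega) h3
  -- q^2 = S * R2 + 1
  obtain ⟨S, hS⟩ : ∃ S, S = ∑ i ∈ Finset.range m, (r ^ 2) ^ i := ⟨_, rfl⟩
  have hSodd : Odd S := by rw [hS]; exact geom_odd _ m hrodd.pow hm
  have hq2 : q ^ 2 = S * R2 + 1 := by
    have := geom_sum_mul_add R2 m
    rw [← hR2, ← hS] at this
    rw [this, ← hK, ← pow_mul, ← pow_mul, mul_comm]
  have hq3 : 3 ≤ q := by
    have : 2 ≤ q := by
      rw [← hK]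
      calc 2 ≤ r := hr2
        _ = r ^ 1 := (pow_one r).symm
        _ ≤ r ^ m := Nat.pow_le_pow_right (by omega) (by omega)
    rcases hodd with ⟨t, ht⟩
    omega
  have hgcd : Nat.gcd 2 (q - 1) = 2 := by
    rcases hodd with ⟨t, ht⟩
    have : q - 1 = 2 * t := by omega
    rw [this]
    exact Nat.gcd_mul_right_right t 2 ▸ (by simp)
  -- 2 * P = S * R2 * q
  have hP' : 2 * P = S * R2 * q := by
    rw [hgcd] at hP
    have h1 : q ^ 2 - 1 = S * R2 := by omega
    have h2 : q ^ 2 - q = q * (q - 1) := by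
      rw [Nat.mul_sub, mul_one, pow_two]
    rw [h1, h2] at hP
    have h3 : (2 * P) * (q - 1) = (S * R2 * q) * (q - 1) := by rw [← mul_assoc] at hP; linarith
    exact Nat.eq_of_mul_eq_mul_right (by omega) h3
  have h2dvd : 2 * N ∣ 2 * P := Nat.mul_dvd_mul_left 2 hdvd
  rw [hP', hN'] at h2dvd
  have h4 : R2 * (2 * r) ∣ R2 * (S * q) := by
    have e1 : 2 * (R2 * r) = R2 * (2 * r) := by ring
    have e2 : S * R2 * q = R2 * (S * q) := by ring
    rw [e1, e2] at h2dvd
    exact h2dvd
  have h5 : 2 * r ∣ S * q := Nat.dvd_of_mul_dvd_mul_left hR2pos h4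
  have h6 : 2 ∣ S * q := Dvd.dvd.trans (Dvd.intro r rfl) h5
  have h7 : Odd (S * q) := hSodd.mul hodd
  rcases h7 with ⟨t, ht⟩
  omega


/-- Subfield subgroups: let F be a finite field of odd order q and K a finite field with |K|^m = q, m ≥ 1. Then PSL_2(F) has a subgroup isomorphic to PSL_2(K), and has a subgroup isomorphic to PGL_2(K) if and only if m is even. -/
theorem result {F K : Type*} [Field F] [Fintype F] [Field K] [Fintype K] {q : ℕ} (hF : Fintype.card F = q) (hodd : Odd q) (m : ℕ) (hm : 1 ≤ m) (hK : Fintype.card K ^ m = q) : (∃ H : Subgroup (Matrix.ProjectiveSpecialLinearGroup (Fin 2) F), Nonempty (H ≃* Matrix.ProjectiveSpecialLinearGroup (Fin 2) K)) ∧ ((∃ H : Subgroup (Matrix.ProjectiveSpecialLinearGroup (Fin 2) F), Nonempty (H ≃* Matrix.ProjGenLinGroup (Fin 2) K)) ↔ Even m) := by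
  subst hF
  obtain ⟨ι⟩ := exists_ringHom_of_card_pow (F := F) (K := K) m hK
  refine ⟨exists_psl_sub ι, ?_, ?_⟩
  · rintro ⟨H, ⟨e⟩⟩
    by_contra hne
    exact no_pgl_of_odd hodd m (Nat.not_even_iff_odd.mp hne) hK H e
  · rintro ⟨k, hk⟩
    have hk' : m = 2 * k := by omega
    subst hk'
    exact exists_pgl_sub ι (fun d hd => exists_sqrt_of_even ι hodd k hK (by omega) d hd)

end Cfsg.Agent.S0805
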