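import Cfsg.Statements.S4637
import Cfsg.Agent.Lib.helper7.KleinDef9

set_option autoImplicit false
open Cfsg

namespace Cfsg.Agent.S4637

/-- Let B be a block of the finite group G relative to a maximal ideal M of the algebraic integers containing 2, with a Klein four defect group P. Let c be a block of C_G(P) inducing B, T the stabilizer of c in N_G(P) and e the index of C_G(P) in T (the inertial index). Then e is 1 or 3, B contains exactly four irreducible characters, and the 2-regular rank of B (its number of irreducible Brauer characters) equals e. -/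
theorem result {G : Type*} [Group G] [Finite G] (M : Ideal Cfsg.AlgInt) (hM : Cfsg.IsPModular 2 M) (B : Set (Cfsg.IrrCharacter G)) (hB : Cfsg.IsPBlock M B) (P : Subgroup G) (hPD : Cfsg.IsDefectGroup 2 M B P) (hV : IsKleinFour P) (c : Set (Cfsg.IrrCharacter (Subgroup.centralizer (P : Set G)))) (hc : Cfsg.IsInducedBlock M (Subgroup.centralizer (P : Set G)) c B) (T : Subgroup G) (hT : ∀ g : G, g ∈ T ↔ (g ∈ Subgroup.normalizer (P : Set G) ∧ Cfsg.StabilizesBlock (Subgroup.centralizer (P : Set G)) c g)) (e : ℕ) (he : (Subgroup.centralizer (P : Set G)).relIndex T = e) : (e = 1 ∨ e = 3) ∧ Nat.card B = 4 ∧ Cfsg.blockRank 2 B = e := by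
  classical
  haveI : Fact (Nat.Prime 2) := ⟨Nat.prime_two⟩
  haveI : Fintype G := Fintype.ofFinite _
  have hPC : P ≤ Subgroup.centralizer (P : Set G) := by
    intro x hx
    rw [Subgroup.mem_centralizer_iff]
    intro y hy
    exact Cfsg.Agent.Lib.Helper24.ks_comm P hV hy hx
  have hcardP : Nat.card P = 4 := IsKleinFour.card_four
  have hdefect : Cfsg.blockDefect 2 B = 2 := by
    have h1 := Cfsg.Agent.S0908.result 2 M hM B hB P hPD
    rw [hcardP] at h1
    have h2 : (2 : ℕ) ^ 2 = 2 ^ Cfsg.blockDefect 2 B := by rw [← h1]; norm_num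
    exact (Nat.pow_right_injective (le_refl 2) h2).symm
  have hcard := Cfsg.Agent.Lib.helper7.h7_kd_card_four M hM B hB hdefect
  have hmax := Cfsg.Agent.Lib.helper7.h7_kd_max 2 M hM B P hPD c hc
  have hidx := Cfsg.Agent.Lib.helper7.h7_kd_index 2 M hM B P hPD hPC c hc T hT
  have hTN : T ≤ Subgroup.normalizer (P : Set G) := fun g hg => ((hT g).mp hg).1
  have hdvd := Cfsg.Agent.Lib.helper7.h7_kd_relIndex_dvd P T hTN
  rw [hcardP, he] at hdvd
  rw [he] at hidx
  have he13 : e = 1 ∨ e = 3 := by
    have h8 : Nat.Coprime e (2 ^ 3) :=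
      Nat.Coprime.pow_right 3 (Nat.Coprime.symm ((Nat.Prime.coprime_iff_not_dvd Nat.prime_two).mpr hidx))
    have h24 : e ∣ 3 * 2 ^ 3 := by
      have : (4 : ℕ).factorial = 3 * 2 ^ 3 := by decide
      rw [← this]
      exact hdvd
    have h3 : e ∣ 3 := Nat.Coprime.dvd_of_dvd_mul_right h8 h24
    exact (Nat.dvd_prime Nat.prime_three).mp h3
  refine ⟨he13, hcard, ?_⟩
  rcases he13 with h | h
  · rw [h]
    exact Cfsg.Agent.Lib.helper7.h7_kd_rank_one M hM B hB P hV c hmax hcard T hT (he.trans h)
  · rw [h]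
    exact Cfsg.Agent.Lib.helper7.h7_kd_rank_three M hM B hB P hV c hmax hdefect hcard T hT (he.trans h)

end Cfsg.Agent.S4637
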