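import Cfsg.Statements.S1587

set_option autoImplicit false
open Matrix
open Cfsg

namespace Cfsg.Agent.S1587

theorem bil_symm {n : Type*} [Fintype n] (B : Matrix n n ℤ) (hsymm : B.IsSymm) (u v : n → ℤ) :
    u ⬝ᵥ (B *ᵥ v) = v ⬝ᵥ (B *ᵥ u) := by
  rw [Matrix.dotProduct_mulVec, ← Matrix.mulVec_transpose, hsymm.eq, dotProduct_comm]

theorem bil_add_left {n : Type*} [Fintype n] (B : Matrix n n ℤ) (u v w : n → ℤ) :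
    (u + v) ⬝ᵥ (B *ᵥ w) = u ⬝ᵥ (B *ᵥ w) + v ⬝ᵥ (B *ᵥ w) := add_dotProduct _ _ _

theorem bil_add_right {n : Type*} [Fintype n] (B : Matrix n n ℤ) (u v w : n → ℤ) :
    u ⬝ᵥ (B *ᵥ (v + w)) = u ⬝ᵥ (B *ᵥ v) + u ⬝ᵥ (B *ᵥ w) := by
  rw [Matrix.mulVec_add, dotProduct_add]

theorem bil_smul_left {n : Type*} [Fintype n] (B : Matrix n n ℤ) (c : ℤ) (u w : n → ℤ) :
    (c • u) ⬝ᵥ (B *ᵥ w) = c * (u ⬝ᵥ (B *ᵥ w)) := by
  rw [smul_dotProduct, smul_eq_mul]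

theorem bil_smul_right {n : Type*} [Fintype n] (B : Matrix n n ℤ) (c : ℤ) (u w : n → ℤ) :
    u ⬝ᵥ (B *ᵥ (c • w)) = c * (u ⬝ᵥ (B *ᵥ w)) := by
  rw [Matrix.mulVec_smul, dotProduct_smul, smul_eq_mul]

theorem four_le {q : ℤ} (hpos : 0 < q) (heven : (2 : ℤ) ∣ q) (h2 : q ≠ 2) : 4 ≤ q := by
  obtain ⟨k, rfl⟩ := heven
  omega

theorem result (B : Matrix (Fin 24) (Fin 24) ℤ) (hsymm : B.IsSymm) (hpos : ∀ x : Fin 24 → ℤ, x ≠ 0 → 0 < x ⬝ᵥ (B *ᵥ x)) (heven : ∀ x : Fin 24 → ℤ, (2 : ℤ) ∣ x ⬝ᵥ (B *ᵥ x)) (h2 : ∀ x : Fin 24 → ℤ, x ⬝ᵥ (B *ᵥ x) ≠ 2) (x y : Fin 24 → ℤ) (hx : x ⬝ᵥ (B *ᵥ x) = 8) (hy : y ⬝ᵥ (B *ᵥ y) = 8) (hc : ∀ i, (2 : ℤ) ∣ (x - y) i) : y = x ∨ y = -x ∨ x ⬝ᵥ (B *ᵥ y) = 0 := by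
  by_cases hyx : y = x
  · left; exact hyx
  by_cases hyx' : y = -x
  · right; left; exact hyx'
  right; right
  choose w hw using hc
  have hxw : x = y + (2 : ℤ) • w := by
    funext i
    have := hw i
    simp only [Pi.sub_apply] at this
    simp only [Pi.add_apply, Pi.smul_apply, smul_eq_mul]
    linarith
  have hw0 : w ≠ 0 := by
    rintro rfl
    apply hyx
    rw [hxw]; simp
  have hw'0 : y + w ≠ 0 := by
    intro h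
    apply hyx'
    have hw' : w = -y := by
      have := congrArg (fun v => v - y) h
      simpa using this
    rw [hxw, hw']
    funext i
    simp only [Pi.add_apply, Pi.smul_apply, Pi.neg_apply, smul_eq_mul]
    ring
  have hs := bil_symm B hsymm
  have e1 : x ⬝ᵥ (B *ᵥ x) = y ⬝ᵥ (B *ᵥ y) + 4 * (y ⬝ᵥ (B *ᵥ w)) + 4 * (w ⬝ᵥ (B *ᵥ w)) := by
    rw [hxw, bil_add_left, bil_add_right, bil_add_right, bil_smul_left, bil_smul_left, bil_smul_right,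
      bil_smul_right, hs w y]
    ring
  have e2 : (y + w) ⬝ᵥ (B *ᵥ (y + w)) = y ⬝ᵥ (B *ᵥ y) + 2 * (y ⬝ᵥ (B *ᵥ w)) + w ⬝ᵥ (B *ᵥ w) := by
    rw [bil_add_left, bil_add_right, bil_add_right, hs w y]
    ring
  have e3 : x ⬝ᵥ (B *ᵥ y) = y ⬝ᵥ (B *ᵥ y) + 2 * (y ⬝ᵥ (B *ᵥ w)) := by
    rw [hxw, bil_add_left, bil_smul_left, hs w y]
  have p1 := four_le (hpos w hw0) (heven w) (h2 w)
  have p2 := four_le (hpos (y + w) hw'0) (heven (y + w)) (h2 (y + w))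
  rw [hx, hy] at e1
  rw [hy] at e2 e3
  rw [e3]
  linarith

end Cfsg.Agent.S1587
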