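import Cfsg.Statements.S1588
import Cfsg.Agent.S1587

set_option autoImplicit false
open Matrix
open Cfsg

namespace Cfsg.Agent.S1588

open Cfsg.Agent.S1587

/-- Reduction modulo 2. -/
def red (x : Fin 24 → ℤ) : Fin 24 → ZMod 2 := fun i => ((x i : ℤ) : ZMod 2)

theorem red_eq_iff (x y : Fin 24 → ℤ) : red x = red y ↔ ∀ i, (2 : ℤ) ∣ (x - y) i := by
  rw [funext_iff]
  apply forall_congr'
  intro i
  show ((x i : ℤ) : ZMod 2) = ((y i : ℤ) : ZMod 2) ↔ _
  rw [ZMod.intCast_eq_intCast_iff_dvd_sub, Pi.sub_apply, ← dvd_neg, neg_sub]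
  rfl

theorem red_neg (x : Fin 24 → ℤ) : red (-x) = red x := by
  funext i
  show (((-x) i : ℤ) : ZMod 2) = ((x i : ℤ) : ZMod 2)
  rw [Pi.neg_apply, Int.cast_neg, ZMod.neg_eq_self_mod_two]

theorem nrm_neg (B : Matrix (Fin 24) (Fin 24) ℤ) (x : Fin 24 → ℤ) :
    (-x) ⬝ᵥ (B *ᵥ (-x)) = x ⬝ᵥ (B *ᵥ x) := by
  rw [Matrix.mulVec_neg, neg_dotProduct, dotProduct_neg, neg_neg]

theorem nrm_zero (B : Matrix (Fin 24) (Fin 24) ℤ) : (0 : Fin 24 → ℤ) ⬝ᵥ (B *ᵥ 0) = 0 :=
  zero_dotProduct _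

/-- Congruent vectors which are neither equal nor opposite have large norms. -/
theorem sum_ge (B : Matrix (Fin 24) (Fin 24) ℤ) (hsymm : B.IsSymm)
    (hpos : ∀ x : Fin 24 → ℤ, x ≠ 0 → 0 < x ⬝ᵥ (B *ᵥ x))
    (heven : ∀ x : Fin 24 → ℤ, (2 : ℤ) ∣ x ⬝ᵥ (B *ᵥ x))
    (h2 : ∀ x : Fin 24 → ℤ, x ⬝ᵥ (B *ᵥ x) ≠ 2) (x y : Fin 24 → ℤ)
    (hc : ∀ i, (2 : ℤ) ∣ (x - y) i) (hyx : y ≠ x) (hyx' : y ≠ -x) :
    16 ≤ x ⬝ᵥ (B *ᵥ x) + y ⬝ᵥ (B *ᵥ y) := by
  choose w hw using hc
  have hxw : x = y + (2 : ℤ) • w := by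
    funext i
    have := hw i
    simp only [Pi.sub_apply] at this
    simp only [Pi.add_apply, Pi.smul_apply, smul_eq_mul]
    linarith
  have hw0 : w ≠ 0 := by
    rintro rfl
    apply hyx
    rw [hxw]; simp
  have hw'0 : y + w ≠ 0 := by
    intro h
    apply hyx'
    have hw' : w = -y := by
      have := congrArg (fun v => v - y) h
      simpa using this
    rw [hxw, hw']
    funext i
    simp only [Pi.add_apply, Pi.smul_apply, Pi.neg_apply, smul_eq_mul]
    ring
  have hs := bil_symm B hsymm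
  have e1 : x ⬝ᵥ (B *ᵥ x) = y ⬝ᵥ (B *ᵥ y) + 4 * (y ⬝ᵥ (B *ᵥ w)) + 4 * (w ⬝ᵥ (B *ᵥ w)) := by
    rw [hxw, bil_add_left, bil_add_right, bil_add_right, bil_smul_left, bil_smul_left, bil_smul_right,
      bil_smul_right, hs w y]
    ring
  have e2 : (y + w) ⬝ᵥ (B *ᵥ (y + w)) = y ⬝ᵥ (B *ᵥ y) + 2 * (y ⬝ᵥ (B *ᵥ w)) + w ⬝ᵥ (B *ᵥ w) := by
    rw [bil_add_left, bil_add_right, bil_add_right, hs w y]
    ring
  have p1 := four_le (hpos w hw0) (heven w) (h2 w)
  have p2 := four_le (hpos (y + w) hw'0) (heven (y + w)) (h2 (y + w))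
  linarith

/-- Counting a set closed under negation whose congruence classes are pairs. -/
theorem card_image_two (T : Finset (Fin 24 → ℤ)) (hneg : ∀ x ∈ T, -x ∈ T) (h0 : (0 : Fin 24 → ℤ) ∉ T)
    (hfib : ∀ x ∈ T, ∀ y ∈ T, red x = red y → y = x ∨ y = -x) :
    T.card = 2 * (T.image red).card := by
  classical
  rw [Finset.card_eq_sum_card_image red T]
  have h : ∀ c ∈ T.image red, (T.filter (fun a => red a = c)).card = 2 := by
    intro c hc
    obtain ⟨x₀, hx₀, rfl⟩ := Finset.mem_image.mp hc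
    have hne : x₀ ≠ -x₀ := by
      intro h
      apply h0
      have : x₀ = 0 := by
        funext i
        have := congrFun h i
        simp only [Pi.neg_apply, Pi.zero_apply] at this ⊢
        omega
      rw [← this]; exact hx₀
    have hset : T.filter (fun a => red a = red x₀) = {x₀, -x₀} := by
      ext y
      rw [Finset.mem_filter, Finset.mem_insert, Finset.mem_singleton]
      constructor
      · rintro ⟨hy, hr⟩
        exact hfib x₀ hx₀ y hy hr.symm
      · rintro (rfl | rfl)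
        · exact ⟨hx₀, rfl⟩
        · exact ⟨hneg _ hx₀, red_neg _⟩
    rw [hset, Finset.card_pair hne]
  rw [Finset.sum_congr rfl h, Finset.sum_const, smul_eq_mul, mul_comm]

/-- A set of nonzero vectors, closed under negation, any two of which are equal, opposite or
orthogonal, has at most 48 members. -/
theorem card_fiber_le (B : Matrix (Fin 24) (Fin 24) ℤ)
    (hpos : ∀ x : Fin 24 → ℤ, x ≠ 0 → 0 < x ⬝ᵥ (B *ᵥ x)) (F : Finset (Fin 24 → ℤ))
    (hnz : ∀ y ∈ F, y ≠ 0) (hneg : ∀ y ∈ F, -y ∈ F)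
    (horth : ∀ y ∈ F, ∀ y' ∈ F, y' = y ∨ y' = -y ∨ y ⬝ᵥ (B *ᵥ y') = 0) : F.card ≤ 48 := by
  classical
  let R : Finset (Fin 24 → ℤ) := F.filter (fun y => 0 < toLex y)
  have hsub : F ⊆ R ∪ R.image Neg.neg := by
    intro y hy
    rw [Finset.mem_union]
    have hne : toLex y ≠ 0 := fun h => hnz y hy h
    rcases lt_or_gt_of_ne hne with h | h
    · right
      rw [Finset.mem_image]
      refine ⟨-y, Finset.mem_filter.mpr ⟨hneg y hy, ?_⟩, neg_neg y⟩
      rw [toLex_neg]
      exact neg_pos.mpr h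
    · left
      exact Finset.mem_filter.mpr ⟨hy, h⟩
  have h1 : F.card ≤ R.card + R.card := by
    refine (Finset.card_le_card hsub).trans ((Finset.card_union_le _ _).trans ?_)
    exact Nat.add_le_add_left Finset.card_image_le _
  have hR : ∀ y ∈ R, ∀ y' ∈ R, y ≠ y' → y ⬝ᵥ (B *ᵥ y') = 0 := by
    intro y hy y' hy' hne
    obtain ⟨hyF, hyp⟩ := Finset.mem_filter.mp hy
    obtain ⟨hyF', hyp'⟩ := Finset.mem_filter.mp hy'
    rcases horth y hyF y' hyF' with h | h | h
    · exact absurd h.symm hne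
    · exfalso
      rw [h, toLex_neg] at hyp'
      exact lt_asymm hyp (neg_pos.mp hyp')
    · exact h
  have hli : LinearIndependent ℤ (fun y : R => (y : Fin 24 → ℤ)) := by
    rw [linearIndependent_iff']
    intro s g hsum i hi
    have e : (∑ j ∈ s, g j • (j : Fin 24 → ℤ)) ⬝ᵥ (B *ᵥ (i : Fin 24 → ℤ)) = 0 := by
      rw [hsum, zero_dotProduct]
    rw [sum_dotProduct, Finset.sum_eq_single i] at e
    · rw [smul_dotProduct, smul_eq_mul] at e
      have hp := hpos (i : Fin 24 → ℤ) (hnz _ (Finset.mem_filter.mp i.2).1)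
      rcases mul_eq_zero.mp e with h | h
      · exact h
      · omega
    · intro j _ hji
      rw [smul_dotProduct, hR j j.2 i i.2 (fun h => hji (Subtype.ext h)), smul_zero]
    · intro h
      exact absurd hi h
  have h2 := hli.fintype_card_le_finrank
  rw [Module.finrank_fin_fun, Fintype.card_coe] at h2
  omega

/-- Second step of the characterisation: under the vector counts of the rank-24 lattice, the norm-8 vectors fall into congruence classes of exactly 48 modulo twice the lattice. -/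
theorem result (B : Matrix (Fin 24) (Fin 24) ℤ) (hsymm : B.IsSymm) (hpos : ∀ x : Fin 24 → ℤ, x ≠ 0 → 0 < x ⬝ᵥ (B *ᵥ x)) (heven : ∀ x : Fin 24 → ℤ, (2 : ℤ) ∣ x ⬝ᵥ (B *ᵥ x)) (h2 : ∀ x : Fin 24 → ℤ, x ⬝ᵥ (B *ᵥ x) ≠ 2) (h4 : {x : Fin 24 → ℤ | x ⬝ᵥ (B *ᵥ x) = 4}.ncard = 196560) (h6 : {x : Fin 24 → ℤ | x ⬝ᵥ (B *ᵥ x) = 6}.ncard = 16773120) (h8 : {x : Fin 24 → ℤ | x ⬝ᵥ (B *ᵥ x) = 8}.ncard = 398034000) (x : Fin 24 → ℤ) (hx : x ⬝ᵥ (B *ᵥ x) = 8) : {y : Fin 24 → ℤ | y ⬝ᵥ (B *ᵥ y) = 8 ∧ ∀ i, (2 : ℤ) ∣ (x - y) i}.ncard = 48 := by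
  classical
  have hfin4 : {x : Fin 24 → ℤ | x ⬝ᵥ (B *ᵥ x) = 4}.Finite :=
    Set.finite_of_ncard_ne_zero (by rw [h4]; norm_num)
  have hfin6 : {x : Fin 24 → ℤ | x ⬝ᵥ (B *ᵥ x) = 6}.Finite :=
    Set.finite_of_ncard_ne_zero (by rw [h6]; norm_num)
  have hfin8 : {x : Fin 24 → ℤ | x ⬝ᵥ (B *ᵥ x) = 8}.Finite :=
    Set.finite_of_ncard_ne_zero (by rw [h8]; norm_num)
  have c4 : hfin4.toFinset.card = 196560 := by rw [← Set.ncard_eq_toFinset_card _ hfin4]; exact h4
  have c6 : hfin6.toFinset.card = 16773120 := by rw [← Set.ncard_eq_toFinset_card _ hfin6]; exact h6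
  have c8 : hfin8.toFinset.card = 398034000 := by rw [← Set.ncard_eq_toFinset_card _ hfin8]; exact h8
  have m4 : ∀ y, y ∈ hfin4.toFinset ↔ y ⬝ᵥ (B *ᵥ y) = 4 := fun y => hfin4.mem_toFinset
  have m6 : ∀ y, y ∈ hfin6.toFinset ↔ y ⬝ᵥ (B *ᵥ y) = 6 := fun y => hfin6.mem_toFinset
  have m8 : ∀ y, y ∈ hfin8.toFinset ↔ y ⬝ᵥ (B *ᵥ y) = 8 := fun y => hfin8.mem_toFinset
  generalize hfin4.toFinset = T4 at c4 m4
  generalize hfin6.toFinset = T6 at c6 m6
  generalize hfin8.toFinset = T8 at c8 m8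
  -- congruent short vectors
  have key : ∀ (a b : ℤ) (u v : Fin 24 → ℤ), u ⬝ᵥ (B *ᵥ u) = a → v ⬝ᵥ (B *ᵥ v) = b → a + b < 16 →
      red u = red v → v = u ∨ v = -u := by
    intro a b u v hu hv hab hr
    by_cases h1 : v = u
    · exact Or.inl h1
    by_cases h2' : v = -u
    · exact Or.inr h2'
    exfalso
    have := sum_ge B hsymm hpos heven h2 u v ((red_eq_iff u v).mp hr) h1 h2'
    rw [hu, hv] at this
    omega
  have diff : ∀ (a b : ℤ) (u v : Fin 24 → ℤ), u ⬝ᵥ (B *ᵥ u) = a → v ⬝ᵥ (B *ᵥ v) = b → a + b < 16 →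
      a ≠ b → red u ≠ red v := by
    intro a b u v hu hv hab hne hr
    rcases key a b u v hu hv hab hr with h | h
    · rw [h, hu] at hv; exact hne hv
    · rw [h, nrm_neg, hu] at hv; exact hne hv
  have nz : ∀ (a : ℤ) (u : Fin 24 → ℤ), u ⬝ᵥ (B *ᵥ u) = a → a ≠ 0 → u ≠ 0 := by
    intro a u hu ha h0
    rw [h0, nrm_zero] at hu
    exact ha hu.symm
  -- the classes of norms 4 and 6
  have card4 : T4.card = 2 * (T4.image red).card := by
    apply card_image_two
    · intro u hu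
      rw [m4] at hu ⊢
      rw [nrm_neg]; exact hu
    · intro h
      rw [m4, nrm_zero] at h
      norm_num at h
    · intro u hu v hv hr
      exact key 4 4 u v ((m4 u).mp hu) ((m4 v).mp hv) (by norm_num) hr
  have card6 : T6.card = 2 * (T6.image red).card := by
    apply card_image_two
    · intro u hu
      rw [m6] at hu ⊢
      rw [nrm_neg]; exact hu
    · intro h
      rw [m6, nrm_zero] at h
      norm_num at h
    · intro u hu v hv hr
      exact key 6 6 u v ((m6 u).mp hu) ((m6 v).mp hv) (by norm_num) hr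
  -- disjointness of the classes
  have d04 : Disjoint ({red 0} : Finset (Fin 24 → ZMod 2)) (T4.image red) := by
    rw [Finset.disjoint_singleton_left, Finset.mem_image]
    rintro ⟨u, hu, hr⟩
    exact diff 0 4 0 u (nrm_zero B) ((m4 u).mp hu) (by norm_num) (by norm_num) hr.symm
  have d06 : Disjoint ({red 0} : Finset (Fin 24 → ZMod 2)) (T6.image red) := by
    rw [Finset.disjoint_singleton_left, Finset.mem_image]
    rintro ⟨u, hu, hr⟩
    exact diff 0 6 0 u (nrm_zero B) ((m6 u).mp hu) (by norm_num) (by norm_num) hr.symm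
  have d08 : Disjoint ({red 0} : Finset (Fin 24 → ZMod 2)) (T8.image red) := by
    rw [Finset.disjoint_singleton_left, Finset.mem_image]
    rintro ⟨u, hu, hr⟩
    exact diff 0 8 0 u (nrm_zero B) ((m8 u).mp hu) (by norm_num) (by norm_num) hr.symm
  have d46 : Disjoint (T4.image red) (T6.image red) := by
    rw [Finset.disjoint_left]
    intro c h1 h2'
    obtain ⟨u, hu, rfl⟩ := Finset.mem_image.mp h1
    obtain ⟨v, hv, hr⟩ := Finset.mem_image.mp h2'
    exact diff 4 6 u v ((m4 u).mp hu) ((m6 v).mp hv) (by norm_num) (by norm_num) hr.symm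
  have d48 : Disjoint (T4.image red) (T8.image red) := by
    rw [Finset.disjoint_left]
    intro c h1 h2'
    obtain ⟨u, hu, rfl⟩ := Finset.mem_image.mp h1
    obtain ⟨v, hv, hr⟩ := Finset.mem_image.mp h2'
    exact diff 4 8 u v ((m4 u).mp hu) ((m8 v).mp hv) (by norm_num) (by norm_num) hr.symm
  have d68 : Disjoint (T6.image red) (T8.image red) := by
    rw [Finset.disjoint_left]
    intro c h1 h2'
    obtain ⟨u, hu, rfl⟩ := Finset.mem_image.mp h1
    obtain ⟨v, hv, hr⟩ := Finset.mem_image.mp h2'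
    exact diff 6 8 u v ((m6 u).mp hu) ((m8 v).mp hv) (by norm_num) (by norm_num) hr.symm
  -- the number of classes of norm 8
  have hP8 : (T8.image red).card ≤ 8292375 := by
    have hu : (({red 0} ∪ T4.image red) ∪ T6.image red ∪ T8.image red).card =
        1 + (T4.image red).card + (T6.image red).card + (T8.image red).card := by
      rw [Finset.card_union_of_disjoint, Finset.card_union_of_disjoint,
        Finset.card_union_of_disjoint d04, Finset.card_singleton]
      · rw [Finset.disjoint_union_left]; exact ⟨d06, d46⟩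
      · rw [Finset.disjoint_union_left, Finset.disjoint_union_left]; exact ⟨⟨d08, d48⟩, d68⟩
    have hle := Finset.card_le_univ (({red 0} ∪ T4.image red) ∪ T6.image red ∪ T8.image red)
    have hcard : Fintype.card (Fin 24 → ZMod 2) = 16777216 := by
      rw [Fintype.card_fun, ZMod.card, Fintype.card_fin]
      norm_num
    rw [hu, hcard] at hle
    omega
  -- the classes of norm 8 have at most 48 members
  have hle48 : ∀ c ∈ T8.image red, (T8.filter (fun a => red a = c)).card ≤ 48 := by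
    intro c _
    apply card_fiber_le B hpos
    · intro y hy
      exact nz 8 y ((m8 y).mp (Finset.mem_filter.mp hy).1) (by norm_num)
    · intro y hy
      obtain ⟨h1, h2'⟩ := Finset.mem_filter.mp hy
      refine Finset.mem_filter.mpr ⟨?_, by rw [red_neg]; exact h2'⟩
      rw [m8] at h1 ⊢
      rw [nrm_neg]; exact h1
    · intro y hy y' hy'
      obtain ⟨h1, h2'⟩ := Finset.mem_filter.mp hy
      obtain ⟨h1', h2''⟩ := Finset.mem_filter.mp hy'
      exact Cfsg.Agent.S1587.result B hsymm hpos heven h2 y y' ((m8 y).mp h1) ((m8 y').mp h1')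
        ((red_eq_iff y y').mp (h2'.trans h2''.symm))
  -- hence exactly 48
  have hsum := Finset.card_eq_sum_card_image red T8
  have hsum2 : ∑ c ∈ T8.image red, (48 - (T8.filter (fun a => red a = c)).card) +
      ∑ c ∈ T8.image red, (T8.filter (fun a => red a = c)).card = 48 * (T8.image red).card := by
    rw [← Finset.sum_add_distrib, Finset.sum_congr rfl (fun c hc => Nat.sub_add_cancel (hle48 c hc)),
      Finset.sum_const, smul_eq_mul, mul_comm]
  have hzero : ∑ c ∈ T8.image red, (48 - (T8.filter (fun a => red a = c)).card) = 0 := by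
    rw [← hsum, c8] at hsum2
    omega
  have hx8 : x ∈ T8 := (m8 x).mpr hx
  have hfx := (Finset.sum_eq_zero_iff.mp hzero) (red x) (Finset.mem_image_of_mem red hx8)
  have hfx' := hle48 (red x) (Finset.mem_image_of_mem red hx8)
  have hset : {y : Fin 24 → ℤ | y ⬝ᵥ (B *ᵥ y) = 8 ∧ ∀ i, (2 : ℤ) ∣ (x - y) i} =
      ↑(T8.filter (fun a => red a = red x)) := by
    ext y
    rw [Finset.mem_coe, Finset.mem_filter, m8]
    show (y ⬝ᵥ (B *ᵥ y) = 8 ∧ ∀ i, (2 : ℤ) ∣ (x - y) i) ↔ _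
    rw [← red_eq_iff, eq_comm (a := red x)]
  rw [hset, Set.ncard_coe_finset]
  omega

end Cfsg.Agent.S1588
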