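import Cfsg.Statements.S1049
import Cfsg.Agent.S1048
import Cfsg.Agent.Lib.helper8.ChevPar3
import Cfsg.Agent.Lib.helper8.ChevBNAll2

set_option autoImplicit false
open Cfsg

namespace Cfsg.Agent.S1049

open Cfsg.Agent.Lib.helper8 in
/-- `N_G(U_J) = P_J`: the normaliser of `U_J` inside the Chevalley group is the standard parabolic subgroup. -/
theorem result {F : Type*} [Field F] (D : Cfsg.Lie.ChevalleyDatum) (hD : D ∈ [Cfsg.Lie.chevG2, Cfsg.Lie.chevB2, Cfsg.Lie.chevD4, Cfsg.Lie.chevF4, Cfsg.Lie.chevE6, Cfsg.Lie.chevE7, Cfsg.Lie.chevE8]) (J : Set ℕ) (hJ : ∀ j ∈ J, j < D.rank) :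
    Subgroup.normalizer (D.unipotentRadical F J : Set (GL D.Idx F)) ⊓ D.group F = D.parabolicSubgroup F J := by
  have hB := h8base_all D hD
  have hA := h8reflAll D hD
  have hBN := h8bn_all D hD
  have h48 := (Cfsg.Agent.S1048.result (F := F) D hD J).1
  have hBPJ : D.borelSubgroup F ≤ D.parabolicSubgroup F J := by
    unfold Cfsg.Lie.ChevalleyDatum.parabolicSubgroup
    exact le_sup_left
  apply le_antisymm
  · exact h8normalizer_UJ_le D hB hA (h8commAll D hD) hBN (h8bn2_all D hD) (h8ord_all D hD).2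
      (h8simChk2_all D hD) J (le_trans hBPJ h48)
  · apply le_inf h48
    unfold Cfsg.Lie.ChevalleyDatum.parabolicSubgroup
    apply sup_le (h8_B_le_group D hB)
    rw [Subgroup.closure_le]
    rintro g ⟨j, _, hj, hg⟩
    have hg' : g = h8nU D hB (D.simple j) (1 : F) := Units.ext (by rw [hg, h8nU_val])
    rw [hg']
    exact h8_N_le_group D hB (h8nU_mem_N D hB _ (h8simple_pos D hBN j hj).1)

end Cfsg.Agent.S1049
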