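import Cfsg.Statements.S0007
import Mathlib

set_option autoImplicit false
open Cfsg

namespace Cfsg.Agent.S0007

theorem index_inf_eq {G : Type*} [Group G] [Finite G] (H K : Subgroup G)
    (h : H.index.Coprime K.index) : (H ⊓ K).index = H.index * K.index := by
  apply le_antisymm Subgroup.index_inf_le
  apply Nat.le_of_dvd (Nat.pos_of_ne_zero Subgroup.index_ne_zero_of_finite)
  exact h.mul_dvd_of_dvd_of_dvd (Subgroup.index_dvd_of_le inf_le_left) (Subgroup.index_dvd_of_le inf_le_right)

/-- Subgroups of coprime index: the intersection has index equal to the product of the indices, and every element is a product of an element of the first subgroup and an element of the second. -/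
theorem result {G : Type*} [Group G] [Finite G] (H K : Subgroup G)
    (h : H.index.Coprime K.index) :
    (H ⊓ K).index = H.index * K.index ∧ ∀ g : G, ∃ x ∈ H, ∃ y ∈ K, g = x * y := by
  refine ⟨index_inf_eq H K h, ?_⟩
  have h1 : (H ⊓ K).relIndex H * H.index = H.index * K.index := by
    rw [Subgroup.relIndex_mul_index inf_le_left, index_inf_eq H K h]
  have h2 : (K.subgroupOf H).index = K.index := by
    have : (H ⊓ K).relIndex H = K.index := by
      have hpos : 0 < H.index := Nat.pos_of_ne_zero Subgroup.index_ne_zero_of_finite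
      nlinarith
    rw [← this, Subgroup.inf_relIndex_left]
    rfl
  intro g
  have key : ∀ x : H, x • (QuotientGroup.mk (1 : G) : G ⧸ K) = QuotientGroup.mk (x : G) := by
    intro x
    change ((x : G) • (QuotientGroup.mk (1 : G) : G ⧸ K)) = _
    rw [MulAction.Quotient.smul_mk]
    simp
  have h3 : (MulAction.orbit H (QuotientGroup.mk (1 : G) : G ⧸ K)).ncard = K.index := by
    rw [← MulAction.index_stabilizer, ← h2]
    congr 1
    ext x
    rw [MulAction.mem_stabilizer_iff, Subgroup.mem_subgroupOf, key, eq_comm, QuotientGroup.eq]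
    simp
  have h4 : MulAction.orbit H (QuotientGroup.mk (1 : G) : G ⧸ K) = Set.univ := by
    rw [Set.eq_univ_iff_ncard, h3]
    rfl
  have h5 : (QuotientGroup.mk g : G ⧸ K) ∈ MulAction.orbit H (QuotientGroup.mk (1 : G) : G ⧸ K) := by
    rw [h4]; trivial
  obtain ⟨x, hx⟩ := h5
  refine ⟨x, x.2, (x : G)⁻¹ * g, ?_, by group⟩
  simp only [key] at hx
  exact QuotientGroup.eq.mp hx

end Cfsg.Agent.S0007
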