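import Cfsg.Statements.S0047
import Cfsg.Agent.Lib.Helper1.Nilp

set_option autoImplicit false
open Cfsg

namespace Cfsg.Agent.S0047

open Cfsg.Agent.Lib.Helper1
open scoped commutatorElement

variable {G : Type*} [Group G]

theorem comm_mul_right {a a' g : G} (h : a * a' = a' * a) : ⁅a, g * a'⁆ = ⁅a, g⁆ := by
  rw [commutatorElement_def, commutatorElement_def]
  have h' : a' * a⁻¹ = a⁻¹ * a' := by
    calc a' * a⁻¹ = a⁻¹ * (a * a') * a⁻¹ := by group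
      _ = a⁻¹ * (a' * a) * a⁻¹ := by rw [h]
      _ = a⁻¹ * a' := by group
  calc a * (g * a') * a⁻¹ * (g * a')⁻¹ = a * g * (a' * a⁻¹) * a'⁻¹ * g⁻¹ := by group
    _ = a * g * (a⁻¹ * a') * a'⁻¹ * g⁻¹ := by rw [h']
    _ = a * g * a⁻¹ * g⁻¹ := by group

theorem comm_mul_left {b b' g : G} (h : b * b' = b' * b) : ⁅g * b', b⁆ = ⁅g, b⁆ := by
  rw [commutatorElement_def, commutatorElement_def]
  calc g * b' * b * (g * b')⁻¹ * b⁻¹ = g * (b' * b) * b'⁻¹ * g⁻¹ * b⁻¹ := by group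
    _ = g * (b * b') * b'⁻¹ * g⁻¹ * b⁻¹ := by rw [h]
    _ = g * b * g⁻¹ * b⁻¹ := by group

/-- The key computation in Itô's theorem. -/
theorem ito_key (A B : Subgroup G) (hA : ∀ x ∈ A, ∀ y ∈ A, x * y = y * x)
    (hB : ∀ x ∈ B, ∀ y ∈ B, x * y = y * x)
    (hAB : ∀ g : G, ∃ a ∈ A, ∃ b ∈ B, g = a * b)
    (a : G) (ha : a ∈ A) (b : G) (hb : b ∈ B) (a₁ : G) (ha₁ : a₁ ∈ A) (b₁ : G) (hb₁ : b₁ ∈ B) :
    (b₁ * a₁) * ⁅a, b⁆ * (b₁ * a₁)⁻¹ = (a₁ * b₁) * ⁅a, b⁆ * (a₁ * b₁)⁻¹ := by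
  -- a₁ b a₁⁻¹ = b₃ a₃
  obtain ⟨a₃', ha₃', b₃', hb₃', h3⟩ := hAB (a₁ * b * a₁⁻¹)⁻¹
  have h3' : a₁ * b * a₁⁻¹ = b₃'⁻¹ * a₃'⁻¹ := by
    rw [← mul_inv_rev, ← h3, inv_inv]
  -- b₁ a b₁⁻¹ = a₂ b₂
  obtain ⟨a₂, ha₂, b₂, hb₂, h2⟩ := hAB (b₁ * a * b₁⁻¹)
  have hl : (b₁ * a₁) * ⁅a, b⁆ * (b₁ * a₁)⁻¹ = ⁅a₂, b₃'⁻¹⁆ := by
    have e1 : (b₁ * a₁) * ⁅a, b⁆ * (b₁ * a₁)⁻¹ = b₁ * (a₁ * ⁅a, b⁆ * a₁⁻¹) * b₁⁻¹ := by group
    have e2 : a₁ * a * a₁⁻¹ = a := by rw [hA a₁ ha₁ a ha]; group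
    rw [e1, conjugate_commutatorElement, e2, h3', comm_mul_right (hA a ha _ (A.inv_mem ha₃')),
      conjugate_commutatorElement, h2, comm_mul_left]
    · have e3 : b₁ * b₃'⁻¹ * b₁⁻¹ = b₃'⁻¹ := by
        rw [hB b₁ hb₁ _ (B.inv_mem hb₃')]; group
      rw [e3]
    · have e3 : b₁ * b₃'⁻¹ * b₁⁻¹ = b₃'⁻¹ := by
        rw [hB b₁ hb₁ _ (B.inv_mem hb₃')]; group
      rw [e3]
      exact hB _ (B.inv_mem hb₃') _ hb₂
  have hr : (a₁ * b₁) * ⁅a, b⁆ * (a₁ * b₁)⁻¹ = ⁅a₂, b₃'⁻¹⁆ := by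
    have e1 : (a₁ * b₁) * ⁅a, b⁆ * (a₁ * b₁)⁻¹ = a₁ * (b₁ * ⁅a, b⁆ * b₁⁻¹) * a₁⁻¹ := by group
    have e2 : b₁ * b * b₁⁻¹ = b := by rw [hB b₁ hb₁ b hb]; group
    rw [e1, conjugate_commutatorElement, e2, h2, comm_mul_left (hB b hb b₂ hb₂),
      conjugate_commutatorElement, h3']
    have e3 : a₁ * a₂ * a₁⁻¹ = a₂ := by rw [hA a₁ ha₁ a₂ ha₂]; group
    rw [e3, comm_mul_right (hA a₂ ha₂ _ (A.inv_mem ha₃'))]
  rw [hl, hr]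

theorem ito_commute (A B : Subgroup G) (hA : ∀ x ∈ A, ∀ y ∈ A, x * y = y * x)
    (hB : ∀ x ∈ B, ∀ y ∈ B, x * y = y * x)
    (hAB : ∀ g : G, ∃ a ∈ A, ∃ b ∈ B, g = a * b)
    (a : G) (ha : a ∈ A) (b : G) (hb : b ∈ B) (a₁ : G) (ha₁ : a₁ ∈ A) (b₁ : G) (hb₁ : b₁ ∈ B) :
    ⁅a, b⁆ * ⁅a₁, b₁⁆ = ⁅a₁, b₁⁆ * ⁅a, b⁆ := by
  have key := ito_key A B hA hB hAB a ha b hb a₁⁻¹ (A.inv_mem ha₁) b₁⁻¹ (B.inv_mem hb₁)
  set c := ⁅a, b⁆ with hc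
  have h1 : ⁅a₁, b₁⁆ = ((a₁⁻¹ * b₁⁻¹)⁻¹ * (b₁⁻¹ * a₁⁻¹))⁻¹ := by
    rw [commutatorElement_def]; group
  have hw : Commute c ((a₁⁻¹ * b₁⁻¹)⁻¹ * (b₁⁻¹ * a₁⁻¹)) := by
    change c * ((a₁⁻¹ * b₁⁻¹)⁻¹ * (b₁⁻¹ * a₁⁻¹)) = ((a₁⁻¹ * b₁⁻¹)⁻¹ * (b₁⁻¹ * a₁⁻¹)) * c
    calc c * ((a₁⁻¹ * b₁⁻¹)⁻¹ * (b₁⁻¹ * a₁⁻¹))
        = (a₁⁻¹ * b₁⁻¹)⁻¹ * ((a₁⁻¹ * b₁⁻¹) * c * (a₁⁻¹ * b₁⁻¹)⁻¹) * (b₁⁻¹ * a₁⁻¹) := by group
      _ = (a₁⁻¹ * b₁⁻¹)⁻¹ * ((b₁⁻¹ * a₁⁻¹) * c * (b₁⁻¹ * a₁⁻¹)⁻¹) * (b₁⁻¹ * a₁⁻¹) := by rw [key]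
      _ = (a₁⁻¹ * b₁⁻¹)⁻¹ * (b₁⁻¹ * a₁⁻¹) * c := by group
  rw [h1]
  exact hw.inv_right

/-- A finite group which is the product AB of two abelian subgroups A and B is solvable. -/
theorem result {G : Type*} [Group G] [Finite G] (A B : Subgroup G)
    [IsMulCommutative A] [IsMulCommutative B] (hAB : ∀ g : G, ∃ a ∈ A, ∃ b ∈ B, g = a * b) :
    Group.IsSolvable G := by
  have hA := (isMulCommutative_subgroup_iff A).mp inferInstance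
  have hB := (isMulCommutative_subgroup_iff B).mp inferInstance
  let S : Set G := {g | ∃ a ∈ A, ∃ b ∈ B, ⁅a, b⁆ = g}
  have hScomm : ∀ x ∈ S, ∀ y ∈ S, x * y = y * x := by
    rintro x ⟨a, ha, b, hb, rfl⟩ y ⟨a₁, ha₁, b₁, hb₁, rfl⟩
    exact ito_commute A B hA hB hAB a ha b hb a₁ ha₁ b₁ hb₁
  let K : Subgroup G := Subgroup.closure S
  have hKc : IsMulCommutative K := Subgroup.isMulCommutative_closure hScomm
  -- S is invariant under conjugation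
  have hSA : ∀ a₁ ∈ A, ∀ x ∈ S, a₁ * x * a₁⁻¹ ∈ S := by
    rintro a₁ ha₁ x ⟨a, ha, b, hb, rfl⟩
    obtain ⟨a₃', ha₃', b₃', hb₃', h3⟩ := hAB (a₁ * b * a₁⁻¹)⁻¹
    have h3' : a₁ * b * a₁⁻¹ = b₃'⁻¹ * a₃'⁻¹ := by
      rw [← mul_inv_rev, ← h3, inv_inv]
    have e2 : a₁ * a * a₁⁻¹ = a := by rw [hA a₁ ha₁ a ha]; group
    rw [conjugate_commutatorElement, e2, h3', comm_mul_right (hA a ha _ (A.inv_mem ha₃'))]
    exact ⟨a, ha, _, B.inv_mem hb₃', rfl⟩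
  have hSB : ∀ b₁ ∈ B, ∀ x ∈ S, b₁ * x * b₁⁻¹ ∈ S := by
    rintro b₁ hb₁ x ⟨a, ha, b, hb, rfl⟩
    obtain ⟨a₂, ha₂, b₂, hb₂, h2⟩ := hAB (b₁ * a * b₁⁻¹)
    have e2 : b₁ * b * b₁⁻¹ = b := by rw [hB b₁ hb₁ b hb]; group
    rw [conjugate_commutatorElement, e2, h2, comm_mul_left (hB b hb b₂ hb₂)]
    exact ⟨a₂, ha₂, b, hb, rfl⟩
  have hKn : K.Normal := by
    have hconj : ∀ g : G, ∀ x ∈ K, g * x * g⁻¹ ∈ K := by
      intro g x hx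
      obtain ⟨a, ha, b, hb, rfl⟩ := hAB g
      induction hx using Subgroup.closure_induction with
      | mem x hx =>
        apply Subgroup.subset_closure
        have : a * b * x * (a * b)⁻¹ = a * (b * x * b⁻¹) * a⁻¹ := by group
        rw [this]
        exact hSA a ha _ (hSB b hb x hx)
      | one => simp
      | mul x y _ _ hx hy =>
        have : a * b * (x * y) * (a * b)⁻¹ = (a * b * x * (a * b)⁻¹) * (a * b * y * (a * b)⁻¹) := by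
          group
        rw [this]; exact Subgroup.mul_mem _ hx hy
      | inv x _ hx =>
        have : a * b * x⁻¹ * (a * b)⁻¹ = (a * b * x * (a * b)⁻¹)⁻¹ := by group
        rw [this]; exact Subgroup.inv_mem _ hx
    exact ⟨fun x hx g => hconj g x hx⟩
  have hQ : ∀ x y : G ⧸ K, x * y = y * x := by
    intro x y
    obtain ⟨g, rfl⟩ := QuotientGroup.mk_surjective x
    obtain ⟨h, rfl⟩ := QuotientGroup.mk_surjective y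
    obtain ⟨a, ha, b, hb, rfl⟩ := hAB g
    obtain ⟨a', ha', b', hb', rfl⟩ := hAB h
    have hab : ∀ a ∈ A, ∀ b ∈ B, Commute (a : G ⧸ K) (b : G ⧸ K) := by
      intro a ha b hb
      have h1 : ⁅a, b⁆ ∈ K := Subgroup.subset_closure ⟨a, ha, b, hb, rfl⟩
      have h2 : ((⁅a, b⁆ : G) : G ⧸ K) = 1 := (QuotientGroup.eq_one_iff _).mpr h1
      rw [commutatorElement_def] at h2
      simp only [QuotientGroup.mk_mul, QuotientGroup.mk_inv] at h2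
      change (a : G ⧸ K) * b = b * a
      calc (a : G ⧸ K) * b = ((a : G ⧸ K) * b * (a : G ⧸ K)⁻¹ * (b : G ⧸ K)⁻¹) * (b * a) := by group
        _ = b * a := by rw [h2, one_mul]
    have haa : Commute (a : G ⧸ K) (a' : G ⧸ K) := by
      change (a : G ⧸ K) * a' = a' * a
      rw [← QuotientGroup.mk_mul, ← QuotientGroup.mk_mul, hA a ha a' ha']
    have hbb : Commute (b : G ⧸ K) (b' : G ⧸ K) := by
      change (b : G ⧸ K) * b' = b' * b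
      rw [← QuotientGroup.mk_mul, ← QuotientGroup.mk_mul, hB b hb b' hb']
    simp only [QuotientGroup.mk_mul]
    exact ((haa.mul_right (hab a ha b' hb')).mul_left ((hab a' ha' b hb).symm.mul_right hbb))
  have : Group.IsSolvable K := Group.isSolvable_of_comm
    (fun x y => (isMulCommutative_iff.mp hKc) x y)
  have : Group.IsSolvable (G ⧸ K) := Group.isSolvable_of_comm hQ
  exact Group.isSolvable_of_ker_le_range K.subtype (QuotientGroup.mk' K)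
    (by rw [QuotientGroup.ker_mk', Subgroup.range_subtype])

end Cfsg.Agent.S0047
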