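import Cfsg.Statements.S0052
import Cfsg.Agent.Lib.Helper1.Crossed
import Cfsg.Agent.S0001

set_option autoImplicit false
open Pointwise
open Cfsg
open Cfsg.Agent.Lib.Helper1
open scoped IsMulCommutative Pointwise

namespace Cfsg.Agent.S0052

/-- Gaschütz's Theorem, conjugacy: for an abelian normal subgroup K ≤ U with the order of K coprime to the index of U, two complements of K in G having the same intersection with U are conjugate. -/
theorem result {G : Type*} [Group G] [Finite G] (K U : Subgroup G) [K.Normal] [IsMulCommutative K]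
    (hKU : K ≤ U) (hcop : (Nat.card K).Coprime U.index)
    (H₀ H₁ : Subgroup G) (h₀ : Subgroup.IsComplement' K H₀) (h₁ : Subgroup.IsComplement' K H₁) (hU : H₀ ⊓ U = H₁ ⊓ U) :
    ∃ g : G, MulAut.conj g • H₀ = H₁ := by
  obtain ⟨p₀, hp₀, hp₀u, hp₀m⟩ := exists_crossed_of_complement (K := K) (U := ⊤) H₀
    (by rw [inf_comm]; exact h₀.disjoint.eq_bot) h₀.sup_eq_top
  obtain ⟨p₁, hp₁, hp₁u, hp₁m⟩ := exists_crossed_of_complement (K := K) (U := ⊤) H₁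
    (by rw [inf_comm]; exact h₁.disjoint.eq_bot) h₁.sup_eq_top
  have hp₁K : ∀ k : K, p₁ k = k := fun k => by simpa using hp₁u k 1 H₁.one_mem
  have hp₀H : ∀ a ∈ H₀, p₀ a = 1 := fun a ha => by simpa using hp₀u 1 a ha
  have hc := hp₁.mul hp₀.inv
  obtain ⟨c, hcdef⟩ : ∃ c : G → K, c = fun g => p₁ g * (p₀ g)⁻¹ := ⟨_, rfl⟩
  rw [← hcdef] at hc
  have hcU : ∀ g ∈ U, c g = 1 := by
    intro g hg
    have ha : (↑(p₀ g) : G)⁻¹ * g ∈ H₀ := hp₀m g (Subgroup.mem_top g)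
    have haU : (↑(p₀ g) : G)⁻¹ * g ∈ U := U.mul_mem (U.inv_mem (hKU (p₀ g).2)) hg
    have ha1 : (↑(p₀ g) : G)⁻¹ * g ∈ H₁ := by
      have h2 : (↑(p₀ g) : G)⁻¹ * g ∈ H₀ ⊓ U := ⟨ha, haU⟩
      rw [hU] at h2
      exact h2.1
    have e : g = ↑(p₀ g) * ((↑(p₀ g) : G)⁻¹ * g) := by group
    have h3 : p₁ g = p₀ g := by
      conv_lhs => rw [e]
      exact hp₁u _ _ ha1
    rw [hcdef]
    show p₁ g * (p₀ g)⁻¹ = 1
    rw [h3, mul_inv_cancel]
  obtain ⟨m, hm⟩ := exists_coboundary_of_trivial (U := U) hc hcU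
  obtain ⟨z, hz⟩ : ∃ z : ℤ, ∀ k : K, (k ^ U.index) ^ z = k :=
    ⟨(Nat.card K).gcdB U.index, fun k => (powCoprime hcop).left_inv k⟩
  obtain ⟨m2, hm2⟩ : ∃ m2 : K, m2 = m ^ z := ⟨_, rfl⟩
  have hcm : ∀ g, c g = m2 * (MulAut.conjNormal g m2)⁻¹ := by
    intro g
    rw [← hz (c g), hm g, mul_zpow, inv_zpow, ← map_zpow, ← hm2]
  refine ⟨(↑m2 : G)⁻¹, ?_⟩
  have hle : MulAut.conj (↑m2 : G)⁻¹ • H₀ ≤ H₁ := by
    intro x hx
    obtain ⟨h, hh, rfl⟩ := (Subgroup.mem_smul_pointwise_iff_exists _ _ _).mp hx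
    rw [MulAut.smul_def, MulAut.conj_apply, inv_inv]
    have hmul : ∀ a b, p₁ (a * b) = p₁ a * MulAut.conjNormal a (p₁ b) :=
      fun a b => hp₁ a (Subgroup.mem_top a) b (Subgroup.mem_top b)
    have h1 : p₁ h = m2 * (MulAut.conjNormal h m2)⁻¹ := by
      have h2 := hcm h
      rw [hcdef] at h2
      have h3 : p₁ h * (p₀ h)⁻¹ = m2 * (MulAut.conjNormal h m2)⁻¹ := h2
      rw [hp₀H h hh, inv_one, mul_one] at h3
      exact h3
    have h4 : p₁ ((↑m2 : G)⁻¹ * h * ↑m2) = 1 := by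
      have e : ((↑m2 : G)⁻¹) = ↑(m2⁻¹) := rfl
      rw [mul_assoc, hmul, e, hp₁K, conjNormal_of_mem, hmul, hp₁K, h1]
      simp
    have h5 := hp₁m ((↑m2 : G)⁻¹ * h * ↑m2) (Subgroup.mem_top _)
    rw [h4] at h5
    simpa using h5
  apply Subgroup.eq_of_le_of_card_ge hle
  rw [Cfsg.Agent.S0001.card_conj]
  have e0 := h₀.card_mul_card
  have e1 := h₁.card_mul_card
  have hpos : 0 < Nat.card K := Nat.card_pos
  exact (Nat.eq_of_mul_eq_mul_left hpos (e1.trans e0.symm)).le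

end Cfsg.Agent.S0052
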