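import Cfsg.Statements.S0054
import Mathlib

set_option autoImplicit false
open Cfsg

namespace Cfsg.Agent.S0054

/-- A regular normal subgroup of a finite 2-transitive group is elementary abelian: it is commutative and all its elements have order dividing one prime. -/
theorem result {G : Type*} [Group G] [Finite G]
    {X : Type*} [Nonempty X] [MulAction G X] (h2 : MulAction.IsMultiplyPretransitive G X 2)
    (N : Subgroup G) [N.Normal] (htrans : MulAction.IsPretransitive N X) (hreg : ∀ x : X, MulAction.stabilizer N x = ⊥) :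
    IsMulCommutative N ∧ ∃ p : ℕ, p.Prime ∧ ∀ n ∈ N, n ^ p = 1 := by
  classical
  have hNn : N.Normal := inferInstance
  rw [MulAction.is_two_pretransitive_iff] at h2
  obtain ⟨x₀⟩ := ‹Nonempty X›
  have hstab : ∀ n ∈ N, n • x₀ = x₀ → n = 1 := by
    intro n hn hx
    have h1 : (⟨n, hn⟩ : N) ∈ MulAction.stabilizer N x₀ := hx
    rw [hreg, Subgroup.mem_bot] at h1
    exact congrArg Subtype.val h1
  have key : ∀ a ∈ N, ∀ b ∈ N, a ≠ 1 → b ≠ 1 → ∃ g : G, g * a * g⁻¹ = b := by
    intro a ha b hb ha1 hb1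
    have hax : a • x₀ ≠ x₀ := fun h => ha1 (hstab a ha h)
    have hbx : b • x₀ ≠ x₀ := fun h => hb1 (hstab b hb h)
    obtain ⟨g, hg1, hg2⟩ := h2 (a := x₀) (b := a • x₀) (c := x₀) (d := b • x₀) hax.symm hbx.symm
    refine ⟨g, ?_⟩
    have hg1' : g⁻¹ • x₀ = x₀ := by rw [inv_smul_eq_iff, hg1]
    have h3 : (g * a * g⁻¹) • x₀ = b • x₀ := by
      rw [mul_smul, mul_smul, hg1', hg2]
    have h4 : b⁻¹ * (g * a * g⁻¹) ∈ N := N.mul_mem (N.inv_mem hb) (hNn.conj_mem a ha g)
    have h5 : (b⁻¹ * (g * a * g⁻¹)) • x₀ = x₀ := by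
      rw [mul_smul, h3, inv_smul_smul]
    have h6 := hstab _ h4 h5
    calc g * a * g⁻¹ = b * (b⁻¹ * (g * a * g⁻¹)) := by group
      _ = b := by rw [h6, mul_one]
  by_cases hN : N = ⊥
  · refine ⟨?_, 2, Nat.prime_two, ?_⟩
    · rw [isMulCommutative_iff]
      rintro ⟨a, ha⟩ ⟨b, hb⟩
      rw [hN, Subgroup.mem_bot] at ha hb
      subst ha; subst hb; rfl
    · intro n hn
      rw [hN, Subgroup.mem_bot] at hn
      rw [hn, one_pow]
  · have hcard : Nat.card N ≠ 1 := fun h => hN (Subgroup.card_eq_one.mp h)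
    obtain ⟨p, hp, hpN⟩ := Nat.exists_prime_and_dvd hcard
    have hpf : Fact p.Prime := ⟨hp⟩
    obtain ⟨c, hc⟩ := exists_prime_orderOf_dvd_card' (G := N) p hpN
    have hc1 : (c : G) ≠ 1 := by
      intro h
      have : c = 1 := Subtype.ext h
      rw [this, orderOf_one] at hc
      exact hp.one_lt.ne hc
    have hcp : (c : G) ^ p = 1 := by
      have h1 : c ^ p = 1 := by rw [← hc]; exact pow_orderOf_eq_one c
      have := congrArg Subtype.val h1
      simpa using this
    have hexp : ∀ n ∈ N, n ^ p = 1 := by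
      intro n hn
      by_cases hn1 : n = 1
      · rw [hn1, one_pow]
      · obtain ⟨g, hg⟩ := key (c : G) c.2 n hn hc1 hn1
        rw [← hg, conj_pow, hcp]
        group
    refine ⟨?_, p, hp, hexp⟩
    have hNp : IsPGroup p N := by
      rintro ⟨n, hn⟩
      refine ⟨1, ?_⟩
      apply Subtype.ext
      simp only [pow_one, Subgroup.coe_pow, Subgroup.coe_one]
      exact hexp n hn
    have hNnt : Nontrivial N := (Subgroup.nontrivial_iff_ne_bot N).mpr hN
    have hZnt : Nontrivial (Subgroup.center N) := hNp.center_nontrivial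
    obtain ⟨⟨z, hz⟩, hz1'⟩ := exists_ne (1 : Subgroup.center N)
    have hz1 : (z : G) ≠ 1 := by
      intro h
      apply hz1'
      apply Subtype.ext
      exact Subtype.ext h
    have hcent : ∀ b ∈ N, ∀ n ∈ N, b * n = n * b := by
      intro b hb n hn
      by_cases hb1 : b = 1
      · rw [hb1, one_mul, mul_one]
      · obtain ⟨g, hg⟩ := key (z : G) z.2 b hb hz1 hb1
        have h1 : g⁻¹ * n * g ∈ N := by
          have := hNn.conj_mem n hn g⁻¹
          simpa using this
        have h2 := (Subgroup.mem_center_iff.mp hz) ⟨g⁻¹ * n * g, h1⟩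
        have h3 : (g⁻¹ * n * g) * (z : G) = (z : G) * (g⁻¹ * n * g) := congrArg Subtype.val h2
        rw [← hg]
        calc g * (z : G) * g⁻¹ * n = g * ((z : G) * (g⁻¹ * n * g)) * g⁻¹ := by group
          _ = g * ((g⁻¹ * n * g) * (z : G)) * g⁻¹ := by rw [h3]
          _ = n * (g * (z : G) * g⁻¹) := by group
    rw [isMulCommutative_iff]
    rintro ⟨a, ha⟩ ⟨b, hb⟩
    apply Subtype.ext
    exact hcent a ha b hb

end Cfsg.Agent.S0054
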