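import Cfsg.Statements.S0057
import Mathlib
import Cfsg.Agent.Lib.Lead.Coprime
import Cfsg.Agent.Lib.Helper5.Card
import Cfsg.Agent.S0023
import Cfsg.Agent.S0026
import Cfsg.Agent.S0027
import Cfsg.Agent.S0055

set_option autoImplicit false
open Cfsg
open scoped Pointwise commutatorElement

namespace Cfsg.Agent.S0057

open Cfsg.Agent.Lib.Lead

theorem card_comm {G : Type*} [Group G] [Finite G] (A K : Subgroup G)
    (hAK : A ≤ Subgroup.normalizer (K : Set G))
    (hcop : (Nat.card A).Coprime (Nat.card K)) (hsolv : Group.IsSolvable A ∨ Group.IsSolvable K)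
    (p : ℕ) (hidx : (K ⊓ Subgroup.centralizer (A : Set G)).relIndex K = p) :
    Nat.card ↥(⁅K, A⁆ : Subgroup G) =
      p * Nat.card ↥(⁅K, A⁆ ⊓ Subgroup.centralizer (A : Set G) : Subgroup G) := by
  have hLK : ⁅K, A⁆ ≤ K := commutator_le_left_of_le_normalizer K A hAK
  have hsup := Cfsg.Agent.S0026.result A K hAK hcop hsolv
  have hDL : K ⊓ Subgroup.centralizer (A : Set G) ≤
      Subgroup.normalizer ((⁅K, A⁆ : Subgroup G) : Set G) :=
    inf_le_left.trans (left_le_normalizer_commutator K A)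
  have hset := Subgroup.coe_mul_of_right_le_normalizer_left ⁅K, A⁆
    (K ⊓ Subgroup.centralizer (A : Set G)) hDL
  have h1 := Cfsg.Agent.Lib.Helper5.card_mul_set_mul_card_inf ⁅K, A⁆
    (K ⊓ Subgroup.centralizer (A : Set G))
  rw [← hset, hsup] at h1
  have h2 := Cfsg.Agent.Lib.Helper5.card_mul_relIndex_of_le
    (inf_le_left : K ⊓ Subgroup.centralizer (A : Set G) ≤ K)
  rw [hidx] at h2
  have h3 : ⁅K, A⁆ ⊓ (K ⊓ Subgroup.centralizer (A : Set G)) =
      ⁅K, A⁆ ⊓ Subgroup.centralizer (A : Set G) := by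
    rw [← inf_assoc, inf_eq_left.2 hLK]
  rw [h3] at h1
  have h4 : Nat.card ↥(K ⊓ Subgroup.centralizer (A : Set G) : Subgroup G) *
      (p * Nat.card ↥(⁅K, A⁆ ⊓ Subgroup.centralizer (A : Set G) : Subgroup G)) =
      Nat.card ↥(K ⊓ Subgroup.centralizer (A : Set G) : Subgroup G) *
        Nat.card ↥(⁅K, A⁆ : Subgroup G) := by
    have h5 : (↑(K : Subgroup G) : Set G) = ((K : Subgroup G) : Set G) := rfl
    calc Nat.card ↥(K ⊓ Subgroup.centralizer (A : Set G) : Subgroup G) *
          (p * Nat.card ↥(⁅K, A⁆ ⊓ Subgroup.centralizer (A : Set G) : Subgroup G))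
        = (Nat.card ↥(K ⊓ Subgroup.centralizer (A : Set G) : Subgroup G) * p) *
          Nat.card ↥(⁅K, A⁆ ⊓ Subgroup.centralizer (A : Set G) : Subgroup G) := by ring
      _ = Nat.card ↥K *
          Nat.card ↥(⁅K, A⁆ ⊓ Subgroup.centralizer (A : Set G) : Subgroup G) := by rw [h2]
      _ = Nat.card ↥(⁅K, A⁆ : Subgroup G) *
          Nat.card ↥(K ⊓ Subgroup.centralizer (A : Set G) : Subgroup G) := h1
      _ = _ := by ring
  exact (Nat.eq_of_mul_eq_mul_left Nat.card_pos h4).symm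

theorem isPGroup_of_comm_eq {G : Type*} [Group G] [Finite G] (A L : Subgroup G)
    (hAL : A ≤ Subgroup.normalizer (L : Set G))
    (hcop : (Nat.card A).Coprime (Nat.card L)) (hsolv : Group.IsSolvable A ∨ Group.IsSolvable L)
    (p : ℕ) [Fact p.Prime] (hLA : ⁅L, A⁆ = L)
    (hcard : Nat.card ↥L = p * Nat.card ↥(L ⊓ Subgroup.centralizer (A : Set G) : Subgroup G)) :
    IsPGroup p ↥L := by
  have hp : p.Prime := Fact.out
  obtain ⟨P, hP⟩ := Cfsg.Agent.S0023.result A L hAL hcop hsolv p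
  obtain ⟨P', hP'def⟩ : ∃ P', P' = (P : Subgroup ↥L).map L.subtype := ⟨_, rfl⟩
  rw [← hP'def] at hP
  have hP'L : P' ≤ L := by rw [hP'def]; exact Subgroup.map_subtype_le _
  have hP'p : IsPGroup p ↥P' := by rw [hP'def]; exact P.isPGroup'.map _
  obtain ⟨C, hCdef⟩ : ∃ C, C = L ⊓ Subgroup.centralizer (A : Set G) := ⟨_, rfl⟩
  rw [← hCdef] at hcard
  have hCL : C ≤ L := by rw [hCdef]; exact inf_le_left
  have hCne : Nat.card ↥C ≠ 0 := Nat.card_pos.ne'
  have hP'card : Nat.card ↥P' = p * p ^ (Nat.card ↥C).factorization p := by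
    rw [hP'def, Subgroup.card_map_of_injective (Subgroup.subtype_injective _),
      P.card_eq_multiplicity, hcard, Nat.factorization_mul hp.ne_zero hCne,
      Finsupp.add_apply, hp.factorization_self, pow_add, pow_one]
  have hEp : IsPGroup p ↥(P' ⊓ C : Subgroup G) := hP'p.to_le inf_le_left
  obtain ⟨e, he⟩ := IsPGroup.exists_card_eq hEp
  have hele : p ^ e ≤ p ^ (Nat.card ↥C).factorization p := by
    apply Nat.pow_le_pow_right hp.pos
    rw [← Nat.Prime.pow_dvd_iff_le_factorization hp hCne, ← he]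
    exact Subgroup.card_dvd_of_le inf_le_right
  have hprod := Cfsg.Agent.Lib.Helper5.card_mul_set_mul_card_inf P' C
  rw [he, hP'card] at hprod
  have hsub : (P' : Set G) * (C : Set G) ⊆ (L : Set G) := by
    rintro _ ⟨x, hx, c, hc, rfl⟩
    exact L.mul_mem (hP'L hx) (hCL hc)
  have hge : Nat.card ↥L ≤ Nat.card ↑((P' : Set G) * (C : Set G)) := by
    rw [hcard]
    have hpos : 0 < p ^ (Nat.card ↥C).factorization p := pow_pos hp.pos _
    apply Nat.le_of_mul_le_mul_right _ hpos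
    calc p * Nat.card ↥C * p ^ (Nat.card ↥C).factorization p
        = p * p ^ (Nat.card ↥C).factorization p * Nat.card ↥C := by ring
      _ = Nat.card ↑((P' : Set G) * (C : Set G)) * p ^ e := hprod.symm
      _ ≤ Nat.card ↑((P' : Set G) * (C : Set G)) * p ^ (Nat.card ↥C).factorization p :=
        Nat.mul_le_mul_left _ hele
  have hseteq : (P' : Set G) * (C : Set G) = (L : Set G) := by
    apply Set.eq_of_subset_of_ncard_le hsub _ (Set.toFinite _)
    rw [← Nat.card_coe_set_eq, ← Nat.card_coe_set_eq]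
    exact hge
  have hLP' : ⁅L, A⁆ ≤ P' := by
    rw [Subgroup.commutator_le]
    intro l hl a ha
    have hl' : l ∈ (P' : Set G) * (C : Set G) := by rw [hseteq]; exact hl
    obtain ⟨x, hx, c, hc, rfl⟩ := hl'
    have hc' : a * c = c * a := by
      rw [hCdef] at hc
      exact Subgroup.mem_centralizer_iff.1 hc.2 a ha
    have hca : c * a * c⁻¹ = a := by rw [← hc']; group
    have e1 : ⁅x * c, a⁆ = x * (a * x⁻¹ * a⁻¹) := by
      rw [commutatorElement_def]
      calc x * c * a * (x * c)⁻¹ * a⁻¹ = x * (c * a * c⁻¹) * x⁻¹ * a⁻¹ := by group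
        _ = x * a * x⁻¹ * a⁻¹ := by rw [hca]
        _ = x * (a * x⁻¹ * a⁻¹) := by group
    rw [e1]
    exact P'.mul_mem hx ((Subgroup.mem_normalizer_iff.1 (hP ha) _).1 (P'.inv_mem hx))
  rw [hLA] at hLP'
  exact hP'p.to_le hLP'

theorem card_eq_of_comm_eq {G : Type*} [Group G] [Finite G] (A L : Subgroup G)
    (hAL : A ≤ Subgroup.normalizer (L : Set G))
    (hcop : (Nat.card A).Coprime (Nat.card L)) (hsolv : Group.IsSolvable A ∨ Group.IsSolvable L)
    (p : ℕ) [Fact p.Prime] (hLA : ⁅L, A⁆ = L)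
    (hcard : Nat.card ↥L = p * Nat.card ↥(L ⊓ Subgroup.centralizer (A : Set G) : Subgroup G)) :
    Nat.card ↥L = p := by
  have hp : p.Prime := Fact.out
  have hLp := isPGroup_of_comm_eq A L hAL hcop hsolv p hLA hcard
  obtain ⟨C, hCdef⟩ : ∃ C, C = L ⊓ Subgroup.centralizer (A : Set G) := ⟨_, rfl⟩
  rw [← hCdef] at hcard
  have hCL : C ≤ L := by rw [hCdef]; exact inf_le_left
  have hCA : C ≤ Subgroup.centralizer (A : Set G) := by rw [hCdef]; exact inf_le_right
  have hrel : C.relIndex L = p := by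
    have h1 := Cfsg.Agent.Lib.Helper5.card_mul_relIndex_of_le hCL
    rw [hcard, mul_comm] at h1
    exact Nat.eq_of_mul_eq_mul_right Nat.card_pos h1
  have hminFac : (Nat.card ↥L).minFac = p := by
    obtain ⟨n, hn⟩ := IsPGroup.exists_card_eq hLp
    rw [hn]
    apply Nat.Prime.pow_minFac hp
    intro h0
    rw [h0, pow_zero] at hn
    rw [hn] at hcard
    have : p ∣ 1 := ⟨_, hcard⟩
    exact hp.one_lt.ne' (Nat.dvd_one.1 this)
  have hCn : (C.subgroupOf L).Normal := by
    apply Subgroup.normal_of_index_eq_minFac_card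
    rw [hminFac]
    exact hrel
  have hLC : L ≤ Subgroup.normalizer (C : Set G) :=
    (Subgroup.normal_subgroupOf_iff_le_normalizer hCL).1 hCn
  have hCAbot : ⁅C, A⁆ = ⊥ := Subgroup.commutator_eq_bot_iff_le_centralizer.2 hCA
  have h1 : ⁅⁅A, C⁆, L⁆ = ⊥ := by
    rw [Subgroup.commutator_comm A C, hCAbot, Subgroup.commutator_bot_left]
  have h2 : ⁅⁅C, L⁆, A⁆ = ⊥ := by
    rw [eq_bot_iff, ← hCAbot]
    exact Subgroup.commutator_mono (Subgroup.le_normalizer_iff_commutator_le_left.1 hLC) le_rfl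
  have h3 := Subgroup.commutator_commutator_eq_bot_of_rotate h1 h2
  rw [hLA] at h3
  have hLCcomm : ∀ l ∈ L, ∀ c ∈ C, c * l = l * c := by
    intro l hl c hc
    have := Subgroup.commutator_eq_bot_iff_le_centralizer.1 h3 hl
    exact Subgroup.mem_centralizer_iff.1 this c hc
  have hcyc : IsCyclic (↥L ⧸ C.subgroupOf L) := by
    have hc : Nat.card (↥L ⧸ C.subgroupOf L) = p := by
      rw [← Subgroup.index_eq_card]
      exact hrel
    exact isCyclic_of_prime_card hc
  have hker : (QuotientGroup.mk' (C.subgroupOf L)).ker ≤ Subgroup.center ↥L := by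
    rw [QuotientGroup.ker_mk']
    intro c hc
    rw [Subgroup.mem_center_iff]
    intro l
    apply Subtype.ext
    rw [Subgroup.coe_mul, Subgroup.coe_mul]
    exact (hLCcomm l l.2 c (Subgroup.mem_subgroupOf.1 hc)).symm
  have hLcomm : IsMulCommutative ↥L :=
    MonoidHom.isMulCommutative_of_isCyclic_of_ker_le_center
      (QuotientGroup.mk' (C.subgroupOf L)) hker
  have h4 := (Cfsg.Agent.S0055.result A L hAL hcop).1
  rw [hLA, ← hCdef, inf_eq_left.2 hCL] at h4
  rw [hcard, h4, Subgroup.card_bot, mul_one]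

theorem result {G : Type*} [Group G] [Finite G] (A K : Subgroup G) (hAK : A ≤ Subgroup.normalizer (K : Set G))
    (hcop : (Nat.card A).Coprime (Nat.card K)) (hsolv : Group.IsSolvable A ∨ Group.IsSolvable K)
    (p : ℕ) (hp : p.Prime) (hidx : (K ⊓ Subgroup.centralizer (A : Set G)).relIndex K = p) :
    Nat.card (⁅K, A⁆ : Subgroup G) = p := by
  have : Fact p.Prime := ⟨hp⟩
  have hLK : ⁅K, A⁆ ≤ K := commutator_le_left_of_le_normalizer K A hAK
  exact card_eq_of_comm_eq A ⁅K, A⁆ (right_le_normalizer_commutator K A hAK)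
    (Nat.Coprime.coprime_dvd_right (Subgroup.card_dvd_of_le hLK) hcop)
    (solvable_or_of_le hLK hsolv) p (Cfsg.Agent.S0027.result A K hAK hcop hsolv)
    (card_comm A K hAK hcop hsolv p hidx)

end Cfsg.Agent.S0057
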