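import Cfsg.Statements.S0063
import Mathlib

set_option autoImplicit false
open Cfsg

namespace Cfsg.Agent.S0063

theorem class_le_aux (p : ℕ) [Fact p.Prime] : ∀ (m : ℕ) (G : Type*) [Group G] [Finite G],
    Nat.card G = p ^ m → 1 < m → Group.nilpotencyClass G ≤ m - 1 := by
  intro m
  induction m using Nat.strong_induction_on with
  | _ m ih =>
    intro G _ _ hG hm
    have hp : p.Prime := Fact.out
    have hpG : IsPGroup p G := IsPGroup.of_card hG
    have hnil : Group.IsNilpotent G := hpG.isNilpotent
    have hnt : Nontrivial G := by
      rw [← Finite.one_lt_card_iff_nontrivial, hG]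
      exact Nat.one_lt_pow (by omega) hp.one_lt
    rw [Group.nilpotencyClass_eq_quotient_center_plus_one]
    obtain ⟨k, hk0, hk⟩ := IsPGroup.card_center_eq_prime_pow hG (by omega)
    have hkm : k ≤ m := by
      have h1 : p ^ k ∣ p ^ m := by
        rw [← hk, ← hG]; exact Subgroup.card_subgroup_dvd_card _
      exact (Nat.pow_dvd_pow_iff_le_right hp.one_lt).mp h1
    have hQ : Nat.card (G ⧸ Subgroup.center G) = p ^ (m - k) := by
      have h1 := (Subgroup.center G).card_mul_index
      rw [hk, hG] at h1
      have h2 : p ^ m = p ^ k * p ^ (m - k) := by rw [← pow_add]; congr 1; omega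
      rw [h2] at h1
      exact Nat.eq_of_mul_eq_mul_left (pow_pos hp.pos k) h1
    by_cases hm' : 1 < m - k
    · have := ih (m - k) (by omega) (G ⧸ Subgroup.center G) hQ hm'
      omega
    · have hcyc : IsCyclic (G ⧸ Subgroup.center G) := by
        apply isCyclic_of_card_dvd_prime (p := p)
        rw [hQ]
        have : m - k = 0 ∨ m - k = 1 := by omega
        rcases this with h | h <;> rw [h] <;> simp
      have hc : IsMulCommutative G :=
        (QuotientGroup.mk' (Subgroup.center G)).isMulCommutative_of_isCyclic_of_ker_le_center
          (by rw [QuotientGroup.ker_mk'])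
      have h1 : Group.nilpotencyClass G ≤ 1 :=
        Group.IsNilpotent.nilpotencyClass_le_one_iff.mpr hc
      rw [Group.nilpotencyClass_eq_quotient_center_plus_one] at h1
      omega

/-- A finite group of prime-power order p ^ m with m > 1 is nilpotent of class at most m - 1. -/
theorem result {G : Type*} [Group G] [Finite G] (p m : ℕ) [Fact p.Prime]
    (hG : Nat.card G = p ^ m) (hm : 1 < m) : Group.nilpotencyClass G ≤ m - 1 := by
  exact class_le_aux p m G hG hm

end Cfsg.Agent.S0063
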