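import Cfsg.Statements.S0064
import Mathlib

set_option autoImplicit false
open Cfsg

namespace Cfsg.Agent.S0064

theorem subnormal_of_normalizerCondition {G : Type*} [Group G] [Finite G]
    (hnc : NormalizerCondition G) (H : Subgroup G) : H.IsSubnormal := by
  induction H using IsWellFounded.induction (α := Subgroup G) (· > ·) with
  | ind H ih =>
    by_cases hH : H = ⊤
    · rw [hH]; exact Subgroup.IsSubnormal.top
    · have hlt : H < Subgroup.normalizer (H : Set G) := hnc H (lt_top_iff_ne_top.mpr hH)
      exact Subgroup.IsSubnormal.step H _ hlt.le (ih _ hlt) inferInstance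

/-- A finite group is nilpotent exactly when each of its subgroups is subnormal. -/
theorem result {G : Type*} [Group G] [Finite G] :
    Group.IsNilpotent G ↔ ∀ H : Subgroup G, H.IsSubnormal := by
  constructor
  · intro h H
    exact subnormal_of_normalizerCondition Group.normalizerCondition_of_isNilpotent H
  · intro h
    have t := (Group.isNilpotent_of_finite_tfae (G := G)).out 0 1
    rw [t]
    intro H hH
    rcases Subgroup.IsSubnormal.iff_eq_top_or_exists.mp (h H) with h1 | ⟨K, hHK, -, hN⟩
    · exact absurd h1 hH.ne
    · exact lt_of_lt_of_le hHK ((Subgroup.normal_subgroupOf_iff_le_normalizer hHK.le).mp hN)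

end Cfsg.Agent.S0064
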