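import Cfsg.Statements.S0069
import Cfsg.Agent.Lib.Helper1.FrobCenter
import Cfsg.Agent.S0068

set_option autoImplicit false
open Cfsg

namespace Cfsg.Agent.S0069

/-- A Frobenius complement has nontrivial centre: if H ≠ 1 complements a nontrivial normal subgroup K and every nonidentity element of H has trivial centraliser in K, then the centre of H is nontrivial. -/
theorem result {G : Type*} [Group G] [Finite G] (K H : Subgroup G) [K.Normal]
    (hc : Subgroup.IsComplement' K H) (hK : K ≠ ⊥) (hH : H ≠ ⊥) (hfpf : ∀ h ∈ H, h ≠ 1 → K ⊓ Subgroup.centralizer {h} = ⊥) :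
    Subgroup.center H ≠ ⊥ := by
  classical
  by_cases heven : 2 ∣ Nat.card H
  · obtain ⟨⟨s, hsH, hs2, huniq, -⟩, -⟩ := Cfsg.Agent.S0068.result K H hc hK hfpf heven
    intro hbot
    have hs1 : s ≠ 1 := by
      intro h
      rw [h, orderOf_one] at hs2
      omega
    have hcen : (⟨s, hsH⟩ : H) ∈ Subgroup.center H := by
      rw [Subgroup.mem_center_iff]
      intro g
      apply Subtype.ext
      have h1 : (g : G) * s * (g : G)⁻¹ ∈ H := H.mul_mem (H.mul_mem g.2 hsH) (H.inv_mem g.2)
      have h2 : orderOf ((g : G) * s * (g : G)⁻¹) = 2 := by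
        rw [← hs2]
        have hsc : SemiconjBy (g : G) s ((g : G) * s * (g : G)⁻¹) := by
          unfold SemiconjBy
          group
        exact (SemiconjBy.orderOf_eq (g : G) hsc).symm
      have h3 := huniq _ h1 h2
      change (g : G) * s = s * (g : G)
      calc (g : G) * s = ((g : G) * s * (g : G)⁻¹) * (g : G) := by group
        _ = s * (g : G) := by rw [h3]
    rw [hbot, Subgroup.mem_bot] at hcen
    exact hs1 (congrArg Subtype.val hcen)
  · obtain ⟨V, hVc, hV, -, hHV, hfpfV⟩ := Cfsg.Agent.Lib.Helper1.exists_fpf_abelian K H hc hK hH hfpf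
    exact Cfsg.Agent.Lib.Helper1.center_ne_bot_of_fpf_odd H V hV hHV hfpfV hH heven

end Cfsg.Agent.S0069
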