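import Cfsg.Statements.S0073
import Cfsg.Agent.Lib.Helper1.AutFix
import Cfsg.Agent.Lib.Helper1.NPC2

set_option autoImplicit false
open Cfsg

namespace Cfsg.Agent.S0073

theorem sq_sub_one_eq (n : ℕ) (hn : 1 ≤ n) : n ^ 2 - 1 = (n - 1) * (n + 1) := by
  obtain ⟨m, rfl⟩ : ∃ m, n = m + 1 := ⟨n - 1, by omega⟩
  have : (m + 1) ^ 2 = (m + 1 - 1) * (m + 1 + 1) + 1 := by
    simp only [Nat.add_sub_cancel]; ring
  rw [this, Nat.add_sub_cancel]

theorem sq_sub_self_eq (n : ℕ) (hn : 1 ≤ n) : n ^ 2 - n = n * (n - 1) := by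
  obtain ⟨m, rfl⟩ : ∃ m, n = m + 1 := ⟨n - 1, by omega⟩
  have : (m + 1) ^ 2 = (m + 1) * (m + 1 - 1) + (m + 1) := by
    simp only [Nat.add_sub_cancel]; ring
  rw [this, Nat.add_sub_cancel]

/-- For a finite non-abelian simple group, either the cube of the least prime divisor of the order divides the order, or 12 does. -/
theorem result {G : Type*} [Group G] [Finite G] [IsSimpleGroup G] (hG : ∃ x y : G, x * y ≠ y * x) : (Nat.card G).minFac ^ 3 ∣ Nat.card G ∨ 12 ∣ Nat.card G := by
  obtain ⟨x, y, hxy⟩ := hG
  have hnt : Nat.card G ≠ 1 := by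
    intro h1
    have := (Nat.card_eq_one_iff_unique.mp h1).1
    exact hxy (Subsingleton.elim _ _)
  set p := (Nat.card G).minFac with hpdef
  have hp : p.Prime := Nat.minFac_prime hnt
  have : Fact p.Prime := ⟨hp⟩
  have hpG : p ∣ Nat.card G := Nat.minFac_dvd _
  obtain ⟨P⟩ := (inferInstance : Nonempty (Sylow p G))
  set k := (Nat.card G).factorization p with hkdef
  have hcardP : Nat.card P = p ^ k := P.card_eq_multiplicity
  have hk1 : 1 ≤ k := (Nat.Prime.factorization_pos_of_dvd hp Nat.card_pos.ne' hpG)
  have hpk : p ^ k ∣ Nat.card G := by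
    rw [← hcardP]; exact Subgroup.card_subgroup_dvd_card _
  by_cases hk3 : 3 ≤ k
  · left
    exact (pow_dvd_pow p hk3).trans hpk
  by_cases h12 : 12 ∣ Nat.card G
  · right; exact h12
  exfalso
  push Not at hk3
  have hP : IsMulCommutative P := by
    have hk12 : k = 1 ∨ k = 2 := by omega
    rcases hk12 with h | h
    · have : IsCyclic P := isCyclic_of_prime_card (p := p) (by rw [hcardP, h, pow_one])
      exact IsCyclic.isMulCommutative
    · exact IsPGroup.isMulCommutative_of_card_eq_prime_sq (p := p) (by rw [hcardP, h])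
  have hq : ∀ q : ℕ, q.Prime → q ∣ Nat.card G → q ≠ p → ∀ j < k, ¬ q ∣ p ^ k - p ^ j := by
    intro q hqp hqG hqne j hj hd
    have hpq : p < q := lt_of_le_of_ne (Nat.minFac_le_of_dvd hqp.two_le hqG) (Ne.symm hqne)
    have hnd1 : ¬ q ∣ p - 1 := by
      intro h
      have h1 : 0 < p - 1 := by have := hp.two_le; omega
      have := Nat.le_of_dvd h1 h
      omega
    have hndp : ¬ q ∣ p := by
      intro h
      exact hqne ((Nat.prime_dvd_prime_iff_eq hqp hp).mp h)
    have hk12 : k = 1 ∨ k = 2 := by omega
    rcases hk12 with h | h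
    · rw [h] at hj hd
      have hj0 : j = 0 := by omega
      rw [hj0, pow_one, pow_zero] at hd
      exact hnd1 hd
    · rw [h] at hj hd
      have hj01 : j = 0 ∨ j = 1 := by omega
      rcases hj01 with hj0 | hj1
      · rw [hj0, pow_zero] at hd
        have e : p ^ 2 - 1 = (p - 1) * (p + 1) := sq_sub_one_eq p hp.one_lt.le
        rw [e] at hd
        rcases (Nat.Prime.dvd_mul hqp).mp hd with h1 | h1
        · exact hnd1 h1
        · have hle := Nat.le_of_dvd (by omega) h1
          have hq1 : q = p + 1 := by omega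
          have hp2 : p = 2 := by
            rcases hp.eq_two_or_odd with h2 | h2
            · exact h2
            · exfalso
              have hqo : q % 2 = 0 := by omega
              have := (Nat.Prime.eq_two_or_odd hqp)
              have hp2' := hp.two_le
              omega
          have hq3 : q = 3 := by omega
          apply h12
          have h4 : 4 ∣ Nat.card G := by
            have := hpk
            rw [h, hp2] at this
            exact this
          have h3 : 3 ∣ Nat.card G := hq3 ▸ hqG
          exact Nat.Coprime.mul_dvd_of_dvd_of_dvd (by norm_num : Nat.Coprime 4 3) h4 h3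
      · rw [hj1, pow_one] at hd
        have e : p ^ 2 - p = p * (p - 1) := sq_sub_self_eq p hp.one_lt.le
        rw [e] at hd
        rcases (Nat.Prime.dvd_mul hqp).mp hd with h1 | h1
        · exact hndp h1
        · exact hnd1 h1
  obtain ⟨N, hN, hc⟩ := (Cfsg.Agent.Lib.Helper1.hasNormalPComplement_iff P).mp
    (Cfsg.Agent.Lib.Helper1.npc_of_abelian_sylow_of_not_dvd P hP k hcardP hq)
  have hmul := hc.card_mul_card
  rcases hN.eq_bot_or_eq_top with h | h
  · rw [h, Subgroup.card_bot, one_mul] at hmul
    have hPtop : (P : Subgroup G) = ⊤ := (Subgroup.card_eq_iff_eq_top _).mp hmul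
    apply hxy
    have hx : x ∈ (P : Subgroup G) := by rw [hPtop]; exact Subgroup.mem_top x
    have hy : y ∈ (P : Subgroup G) := by rw [hPtop]; exact Subgroup.mem_top y
    have := (isMulCommutative_iff.mp hP) ⟨x, hx⟩ ⟨y, hy⟩
    exact congrArg Subtype.val this
  · rw [h, Subgroup.card_top] at hmul
    have hpos : 0 < Nat.card G := Nat.card_pos
    have h1 : Nat.card (P : Subgroup G) = 1 := by
      have : Nat.card G * Nat.card (P : Subgroup G) = Nat.card G * 1 := by rw [hmul, mul_one]
      exact Nat.eq_of_mul_eq_mul_left hpos this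
    have h2 : Nat.card P = 1 := h1
    rw [hcardP] at h2
    have := Nat.one_lt_pow (by omega : k ≠ 0) hp.one_lt
    omega

end Cfsg.Agent.S0073
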