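import Cfsg.Statements.S0075
import Cfsg.Agent.Lib.Helper1.FocalLib

set_option autoImplicit false
open Cfsg

namespace Cfsg.Agent.S0075

open Cfsg.Agent.Lib.Helper1

/-- For an abelian Sylow p-subgroup T, its intersection with the subgroup generated by the elements of order prime to p is the commutator of T with its normalizer. -/
theorem result {G : Type*} [Group G] [Finite G] {p : ℕ} [Fact p.Prime] (T : Sylow p G) (hT : IsMulCommutative T) : (T : Subgroup G) ⊓ Cfsg.pResidual p G = ⁅(T : Subgroup G), Subgroup.normalizer (T : Set G)⁆ := by
  change _ = ⁅(T : Subgroup G), Subgroup.normalizer ((T : Subgroup G) : Set G)⁆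
  apply le_antisymm
  · rw [← focalSubgroup_eq_commutator_normalizer T hT,
      ← Subgroup.ker_transferFocal_inf_eq_focalSubgroup T, inf_comm]
    apply inf_le_inf_right
    apply pResidual_le_of_isPGroup_quotient
    have hQ : IsPGroup p ((T : Subgroup G) ⧸ (T : Subgroup G).focalSubgroupOf) :=
      T.isPGroup'.to_quotient _
    exact hQ.of_equiv (Subgroup.transferFocal.quotientKerMulEquivQuotientFocalSubroupOf T).symm
  · rw [← commutator_inf_sylow_eq_of_comm T hT, inf_comm]
    exact inf_le_inf_left _ (commutator_le_pResidual_of_comm_sylow T hT)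

end Cfsg.Agent.S0075
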