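import Cfsg.Statements.S0084
import Cfsg.Agent.Lib.Helper1.AutFix

set_option autoImplicit false
open Cfsg

namespace Cfsg.Agent.S0084

/-- A group whose Sylow 2-subgroups are Klein four-groups and whose order is prime to 3 has a normal 2-complement. -/
theorem result {G : Type*} [Group G] [Finite G] (T : Sylow 2 G) (hT : IsKleinFour T) (h3 : ¬ 3 ∣ Nat.card G) : Cfsg.HasNormalPComplement 2 G := by
  have hc : IsMulCommutative T := IsKleinFour.isMulCommutative
  have hk : Nat.card T = 2 ^ 2 := by rw [hT.card_four]; norm_num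
  apply Cfsg.Agent.Lib.Helper1.npc_of_abelian_sylow_of_not_dvd T hc 2 hk
  intro q hq hqG hq2 j hj hd
  interval_cases j
  · have h : q ∣ 3 := by simpa using hd
    have := (Nat.prime_dvd_prime_iff_eq hq Nat.prime_three).mp h
    rw [this] at hqG
    exact h3 hqG
  · have h : q ∣ 2 := by simpa using hd
    exact hq2 ((Nat.prime_dvd_prime_iff_eq hq Nat.prime_two).mp h)

end Cfsg.Agent.S0084
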