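import Cfsg.Statements.S0085
import Cfsg.Agent.Lib.Helper1.AutFix

set_option autoImplicit false
open Cfsg

namespace Cfsg.Agent.S0085

/-- A group whose Sylow 2-subgroups are elementary abelian of order 8 and whose order is prime to 3 and to 7 has a normal 2-complement. -/
theorem result {G : Type*} [Group G] [Finite G] (T : Sylow 2 G) (h8 : Nat.card T = 8) (he : ∀ x : T, x * x = 1) (h3 : ¬ 3 ∣ Nat.card G) (h7 : ¬ 7 ∣ Nat.card G) : Cfsg.HasNormalPComplement 2 G := by
  have hinv : ∀ x : T, x⁻¹ = x := fun x => inv_eq_of_mul_eq_one_right (he x)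
  have hc : IsMulCommutative T := by
    rw [isMulCommutative_iff]
    intro a b
    calc a * b = (a * b)⁻¹ := (hinv _).symm
      _ = b⁻¹ * a⁻¹ := mul_inv_rev a b
      _ = b * a := by rw [hinv, hinv]
  have hk : Nat.card T = 2 ^ 3 := by rw [h8]; norm_num
  apply Cfsg.Agent.Lib.Helper1.npc_of_abelian_sylow_of_not_dvd T hc 3 hk
  intro q hq hqG hq2 j hj hd
  interval_cases j
  · have h : q ∣ 7 := by simpa using hd
    have := (Nat.prime_dvd_prime_iff_eq hq (by norm_num : Nat.Prime 7)).mp h
    rw [this] at hqG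
    exact h7 hqG
  · have h : q ∣ 2 * 3 := by simpa using hd
    rcases (Nat.Prime.dvd_mul hq).mp h with h | h
    · exact hq2 ((Nat.prime_dvd_prime_iff_eq hq Nat.prime_two).mp h)
    · have := (Nat.prime_dvd_prime_iff_eq hq Nat.prime_three).mp h
      rw [this] at hqG
      exact h3 hqG
  · have h : q ∣ 2 * 2 := by simpa using hd
    rcases (Nat.Prime.dvd_mul hq).mp h with h | h
    · exact hq2 ((Nat.prime_dvd_prime_iff_eq hq Nat.prime_two).mp h)
    · exact hq2 ((Nat.prime_dvd_prime_iff_eq hq Nat.prime_two).mp h)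

end Cfsg.Agent.S0085
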