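import Cfsg.Statements.S0089
import Cfsg.Agent.Lib.Helper1.TransferLib

set_option autoImplicit false
open Cfsg

namespace Cfsg.Agent.S0089

open Cfsg.Agent.Lib.Helper1

/-- When all Sylow subgroups are abelian, the derived subgroup meets the centre trivially. -/
theorem result {G : Type*} [Group G] [Finite G] (h : ∀ p : ℕ, p.Prime → ∀ P : Sylow p G, IsMulCommutative P) : commutator G ⊓ Subgroup.center G = ⊥ := by
  rw [eq_bot_iff]
  rintro z ⟨hz', hz⟩
  rw [Subgroup.mem_bot, ← orderOf_eq_one_iff]
  by_contra hne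
  obtain ⟨p, hp, hpd⟩ := Nat.exists_prime_and_dvd hne
  have : Fact p.Prime := ⟨hp⟩
  obtain ⟨P⟩ := (inferInstance : Nonempty (Sylow p G))
  have hc := h p hp P
  have h1 := pow_index_eq_one_of_mem_commutator_of_mem_center (P : Subgroup G) z hz hz'
  have h2 : orderOf z ∣ (P : Subgroup G).index := orderOf_dvd_of_pow_eq_one h1
  exact P.not_dvd_index (dvd_trans hpd h2)

end Cfsg.Agent.S0089
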