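import Cfsg.Statements.S0090
import Cfsg.Agent.Lib.Helper1.InternalSZ

set_option autoImplicit false
open Cfsg

namespace Cfsg.Agent.S0090

/-- An abelian normal Hall subgroup A splits as the internal direct product of G' ∩ A and Z(G) ∩ A, and [A, G] = G' ∩ A. -/
theorem result {G : Type*} [Group G] [Finite G] (A : Subgroup G) [A.Normal] (hc : IsMulCommutative A) (hHall : Nat.Coprime (Nat.card A) A.index) : ⁅A, (⊤ : Subgroup G)⁆ = commutator G ⊓ A ∧ (commutator G ⊓ A) ⊓ (Subgroup.center G ⊓ A) = ⊥ ∧ (commutator G ⊓ A) ⊔ (Subgroup.center G ⊓ A) = A := by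
  have hc' : IsMulCommutative A := hc
  have hNV : (⊤ : Subgroup G) ≤ Subgroup.normalizer (A : Set G) := by
    rw [Subgroup.normalizer_eq_top]
  have hcop : (Nat.card A).Coprime (A.relIndex ⊤) := by
    rw [Subgroup.relIndex_top_right]; exact hHall
  obtain ⟨h1, h2⟩ := Cfsg.Agent.Lib.Helper1.abelian_hall_decomposition A ⊤ le_top hNV hcop
  rw [Subgroup.coe_top, Subgroup.centralizer_univ] at h1 h2
  have hWA : ⁅A, (⊤ : Subgroup G)⁆ ≤ A := Subgroup.commutator_le_left A ⊤
  have hWG : ⁅A, (⊤ : Subgroup G)⁆ ≤ commutator G := by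
    rw [commutator_def]; exact Subgroup.commutator_mono le_top le_rfl
  have key : commutator G ⊓ A ≤ ⁅A, (⊤ : Subgroup G)⁆ := by
    rintro x ⟨hxG, hxA⟩
    have hx : x ∈ (A ⊓ Subgroup.center G) ⊔ ⁅A, (⊤ : Subgroup G)⁆ := by
      rw [h2]; exact hxA
    rw [Subgroup.mem_sup_of_normal_right] at hx
    obtain ⟨z, hz, w, hw, rfl⟩ := hx
    have hzG : z ∈ commutator G := by
      have : z = (z * w) * w⁻¹ := by group
      rw [this]
      exact (commutator G).mul_mem hxG ((commutator G).inv_mem (hWG hw))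
    have hz1 : z = 1 :=
      Cfsg.Agent.Lib.Helper1.eq_one_of_mem_hall_commutator_center A hc hHall z hz.1 hzG hz.2
    rw [hz1, one_mul]; exact hw
  have e1 : ⁅A, (⊤ : Subgroup G)⁆ = commutator G ⊓ A := le_antisymm (le_inf hWG hWA) key
  refine ⟨e1, ?_, ?_⟩
  · rw [← e1, inf_comm, inf_comm (Subgroup.center G) A]; exact h1
  · rw [← e1, sup_comm, inf_comm (Subgroup.center G) A]; exact h2

end Cfsg.Agent.S0090
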