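import Cfsg.Statements.S0092
import Cfsg.Agent.Lib.Helper1.SplitResidual

set_option autoImplicit false
open Cfsg

namespace Cfsg.Agent.S0092

/-- If the Sylow p-subgroups of O^p(G) are abelian then G splits over O^p(G). -/
theorem result {G : Type*} [Group G] [Finite G] {p : ℕ} [Fact p.Prime] (h : ∀ Q : Sylow p (Cfsg.pResidual p G), IsMulCommutative Q) : ∃ K : Subgroup G, K.IsComplement' (Cfsg.pResidual p G) := by
  have hKn := Cfsg.Agent.Lib.Helper1.pResidual_normal (G := G) p
  have hPG := Cfsg.Agent.Lib.Helper1.quotient_pResidual_isPGroup (G := G) p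
  obtain ⟨j, hj⟩ := IsPGroup.iff_card.mp hPG
  have hidx : (Cfsg.pResidual p G).index = p ^ j := by
    rw [Subgroup.index_eq_card]; exact hj
  obtain ⟨Q⟩ : Nonempty (Sylow p (Cfsg.pResidual p G)) := inferInstance
  exact Cfsg.Agent.Lib.Helper1.exists_complement_of_abelian_sylow (Cfsg.pResidual p G) hidx
    (Cfsg.Agent.Lib.Helper1.pResidual_pResidual p) Q (h Q)

end Cfsg.Agent.S0092
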