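import Cfsg.Statements.S0094
import Cfsg.Agent.Lib.Helper1.Class2
import Cfsg.Agent.Lib.Helper1.Frat

set_option autoImplicit false
open Cfsg
open scoped commutatorElement

namespace Cfsg.Agent.S0094

/-- In a special p-group every central element has order dividing p. -/
theorem result {P : Type*} [Group P] [Finite P] {p : ℕ} [Fact p.Prime] (h : Cfsg.IsSpecial p P) (z : P) (hz : z ∈ Subgroup.center P) : z ^ p = 1 := by
  obtain ⟨hP, hfr, hcomm⟩ := h
  have hzc : z ∈ commutator P := by rw [hcomm]; exact hz
  rw [commutator_eq_closure] at hzc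
  have hle : Subgroup.closure (commutatorSet P) ≤ Subgroup.center P := by
    rw [← commutator_eq_closure, hcomm]
  induction hzc using Subgroup.closure_induction with
  | mem x hx =>
    obtain ⟨a, b, rfl⟩ := hx
    have hc : ⁅a, b⁆ ∈ Subgroup.center P := by
      rw [← hcomm]; exact Cfsg.Agent.Lib.Helper1.commElem_mem_commutator a b
    rw [← Cfsg.Agent.Lib.Helper1.commElem_pow_left_of_central hc]
    have hap : a ^ p ∈ Subgroup.center P := by
      rw [← hfr]; exact Cfsg.Agent.Lib.Helper1.pgroup_pow_mem_frattini hP a
    rw [Subgroup.mem_center_iff] at hap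
    rw [commutatorElement_def, ← hap b]
    group
  | one => exact one_pow p
  | mul x y hx hy ihx ihy =>
    have hxc : x ∈ Subgroup.center P := hle hx
    have hcm : Commute x y := by
      rw [Subgroup.mem_center_iff] at hxc
      exact (hxc y).symm
    rw [hcm.mul_pow, ihx (hle hx), ihy (hle hy), one_mul]
  | inv x hx ih => rw [inv_pow, ih (hle hx), inv_one]

end Cfsg.Agent.S0094
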