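import Cfsg.Statements.S0095
import Cfsg.Agent.Lib.Helper1.ClassTwoOrder

set_option autoImplicit false
open Cfsg

namespace Cfsg.Agent.S0095

/-- The order of an extraspecial p-group is an odd power p^(2n+1) of p with n ≥ 1. -/
theorem result {P : Type*} [Group P] [Finite P] {p : ℕ} [Fact p.Prime] (h : Cfsg.IsExtraspecial p P) : ∃ n : ℕ, 1 ≤ n ∧ Nat.card P = p ^ (2 * n + 1) := by
  obtain ⟨⟨hP, hfr, hcomm⟩, hZ⟩ := h
  obtain ⟨m, hm⟩ := Cfsg.Agent.Lib.Helper1.class_two_card p _ P rfl hZ hcomm.le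
  refine ⟨m, ?_, hm⟩
  by_contra hm0
  have hm0 : m = 0 := by omega
  subst hm0
  simp only [mul_zero, zero_add, pow_one] at hm
  have htop : Subgroup.center P = ⊤ := Subgroup.eq_top_of_card_eq _ (by rw [hZ, hm])
  have hbot : commutator P = ⊥ := (commutator_eq_bot_iff_center_eq_top (G := P)).mpr htop
  rw [← hcomm, hbot, Subgroup.card_bot] at hZ
  exact (Fact.out : p.Prime).one_lt.ne hZ

end Cfsg.Agent.S0095
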