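import Mathlib
import Cfsg.Statements.S0099
import Cfsg.Agent.Lib.Helper21.XS2C

set_option autoImplicit false
open Cfsg

namespace Cfsg.Agent.S0099

open Cfsg.Agent.Lib.Helper21

/-- Among three extraspecial 2-groups of equal order, some two are isomorphic. -/
theorem result {E₁ : Type*} {E₂ : Type*} {E₃ : Type*} [Group E₁] [Group E₂] [Group E₃] [Finite E₁] [Finite E₂] [Finite E₃] (h₁ : Cfsg.IsExtraspecial 2 E₁) (h₂ : Cfsg.IsExtraspecial 2 E₂) (h₃ : Cfsg.IsExtraspecial 2 E₃) (h12 : Nat.card E₁ = Nat.card E₂) (h23 : Nat.card E₂ = Nat.card E₃) : Nonempty (E₁ ≃* E₂) ∨ Nonempty (E₂ ≃* E₃) ∨ Nonempty (E₁ ≃* E₃) := by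
  obtain ⟨z₁, x₁⟩ := XS2.exists_of_isExtraspecial h₁
  obtain ⟨z₂, x₂⟩ := XS2.exists_of_isExtraspecial h₂
  obtain ⟨z₃, x₃⟩ := XS2.exists_of_isExtraspecial h₃
  have s1 := x₁.xsS_sq
  have s2 := x₂.xsS_sq
  have s3 := x₃.xsS_sq
  have e12 : xsS E₁ * xsS E₁ = xsS E₂ * xsS E₂ := by rw [s1, s2, h12]
  have e23 : xsS E₂ * xsS E₂ = xsS E₃ * xsS E₃ := by rw [s2, s3, h23]
  rcases mul_self_eq_mul_self_iff.mp e12 with a | a
  · left; exact xs2_unique x₁ x₂ h12 a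
  · rcases mul_self_eq_mul_self_iff.mp e23 with b | b
    · right; left; exact xs2_unique x₂ x₃ h23 b
    · right; right
      exact xs2_unique x₁ x₃ (h12.trans h23) (by rw [a, b]; ring)

end Cfsg.Agent.S0099
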