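import Cfsg.Statements.S0101
import Cfsg.Agent.Lib.Helper1.Frat

set_option autoImplicit false
open Cfsg

namespace Cfsg.Agent.S0101

open Cfsg.Agent.Lib.Helper1
open scoped IsMulCommutative

/-- In a perfect central extension, the kernel meets each Sylow p-subgroup P inside the Frattini subgroup of P. -/
theorem result {H : Type*} {G : Type*} [Group H] [Group G] [Finite H] (σ : H →* G) (hσ : Function.Surjective σ) (hc : σ.ker ≤ Subgroup.center H) (hH : commutator H = ⊤) {p : ℕ} [Fact p.Prime] (P : Sylow p H) : σ.ker ⊓ (P : Subgroup H) ≤ (frattini P).map (P : Subgroup H).subtype := by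
  rintro z ⟨hzk, hzP⟩
  have hzc : z ∈ Subgroup.center H := hc hzk
  refine ⟨⟨z, hzP⟩, ?_, rfl⟩
  rw [SetLike.mem_coe, mem_frattini_iff]
  intro M hM
  have hMn : M.Normal := pgroup_coatom_normal P.isPGroup' hM
  have hidx : M.index = p := pgroup_coatom_index P.isPGroup' hM
  have hcardQ : Nat.card ((P : Subgroup H) ⧸ M) = p := hidx
  have : Fact (Nat.card ((P : Subgroup H) ⧸ M)).Prime := ⟨by rw [hcardQ]; exact Fact.out⟩
  have hcyc : IsCyclic ((P : Subgroup H) ⧸ M) :=
    isCyclic_of_prime_card (p := Nat.card ((P : Subgroup H) ⧸ M)) rfl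
  have hcomm : IsMulCommutative ((P : Subgroup H) ⧸ M) := IsCyclic.isMulCommutative
  let ϕ : (P : Subgroup H) →* ((P : Subgroup H) ⧸ M) := QuotientGroup.mk' M
  have key : ∀ (k : ℕ) (g₀ : H), g₀⁻¹ * z ^ k * g₀ ∈ (P : Subgroup H) →
      g₀⁻¹ * z ^ k * g₀ = z ^ k := by
    intro k g₀ _
    have hzk : z ^ k ∈ Subgroup.center H := Subgroup.pow_mem _ hzc k
    rw [Subgroup.mem_center_iff] at hzk
    rw [mul_assoc, ← hzk g₀]; group
  have h1 := MonoidHom.transfer_eq_pow ϕ z key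
  have h2 : MonoidHom.transfer ϕ z = 1 := by
    apply Abelianization.commutator_subset_ker
    rw [hH]; trivial
  rw [h2] at h1
  have h3 : (⟨z ^ (P : Subgroup H).index, MonoidHom.transfer_eq_pow_aux z key⟩ : (P : Subgroup H)) ∈ M :=
    (QuotientGroup.eq_one_iff _).mp h1.symm
  have h4 : ((⟨z, hzP⟩ : (P : Subgroup H)) : (P : Subgroup H) ⧸ M) ^ (P : Subgroup H).index = 1 := by
    rw [← QuotientGroup.mk_pow, QuotientGroup.eq_one_iff]
    exact h3
  have h5 : ((⟨z, hzP⟩ : (P : Subgroup H)) : (P : Subgroup H) ⧸ M) ^ p = 1 := by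
    have h := pow_card_eq_one' (G := (P : Subgroup H) ⧸ M) (x := ((⟨z, hzP⟩ : (P : Subgroup H)) : (P : Subgroup H) ⧸ M))
    rwa [hcardQ] at h
  have h6 : orderOf ((⟨z, hzP⟩ : (P : Subgroup H)) : (P : Subgroup H) ⧸ M) = 1 := by
    apply Nat.eq_one_of_dvd_coprimes _ (orderOf_dvd_of_pow_eq_one h4) (orderOf_dvd_of_pow_eq_one h5)
    exact ((Fact.out : p.Prime).coprime_iff_not_dvd.mpr P.not_dvd_index).symm
  rw [orderOf_eq_one_iff] at h6
  exact (QuotientGroup.eq_one_iff _).mp h6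

end Cfsg.Agent.S0101
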