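import Cfsg.Statements.S0102
import Mathlib

set_option autoImplicit false
open Cfsg
open scoped IsMulCommutative

namespace Cfsg.Agent.S0102

/-- A finite perfect group with cyclic Sylow p-subgroups has no perfect central extension whose kernel has order divisible by p. -/
theorem result {G : Type*} {H : Type*} [Group G] [Group H] [Finite G] [Finite H] (hG : commutator G = ⊤) {p : ℕ} [Fact p.Prime] (hcyc : ∀ P : Sylow p G, IsCyclic P) (σ : H →* G) (hσ : Function.Surjective σ) (hz : σ.ker ≤ Subgroup.center H) (hH : commutator H = ⊤) : ¬ p ∣ Nat.card σ.ker := by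
  intro hdvd
  obtain ⟨z, hz_ord⟩ := exists_prime_orderOf_dvd_card' (G := σ.ker) p hdvd
  have hzker : (z : H) ∈ σ.ker := z.2
  have hzc : (z : H) ∈ Subgroup.center H := hz hzker
  have hzo : orderOf (z : H) = p := by rw [Subgroup.orderOf_coe]; exact hz_ord
  have hzp : IsPGroup p (Subgroup.zpowers (z : H)) :=
    IsPGroup.of_card (n := 1) (by rw [Nat.card_zpowers, hzo, pow_one])
  obtain ⟨Q, hQ⟩ := hzp.exists_le_sylow
  have hzQ : (z : H) ∈ (Q : Subgroup H) := hQ (Subgroup.mem_zpowers _)
  have hmp : IsPGroup p ((Q : Subgroup H).map σ) := Q.isPGroup'.map σ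
  obtain ⟨P, hP⟩ := hmp.exists_le_sylow
  have hPc : IsCyclic P := hcyc P
  have hc1 : IsCyclic (((Q : Subgroup H).map σ).subgroupOf P) := Subgroup.isCyclic _
  have hc2 : IsCyclic ((Q : Subgroup H).map σ) :=
    (Subgroup.subgroupOfEquivOfLe hP).isCyclic.mp hc1
  have hker : (σ.subgroupMap (Q : Subgroup H)).ker ≤ Subgroup.center (Q : Subgroup H) := by
    intro q hq
    rw [MonoidHom.mem_ker] at hq
    have h1 : σ (q : H) = 1 := congrArg Subtype.val hq
    have h2 : (q : H) ∈ Subgroup.center H := hz ((MonoidHom.mem_ker).mpr h1)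
    rw [Subgroup.mem_center_iff]
    intro g
    apply Subtype.ext
    exact (Subgroup.mem_center_iff.mp h2) (g : H)
  have hQc : IsMulCommutative (Q : Subgroup H) :=
    (σ.subgroupMap (Q : Subgroup H)).isMulCommutative_of_isCyclic_of_ker_le_center hker
  have key : ∀ (k : ℕ) (g₀ : H), g₀⁻¹ * (z : H) ^ k * g₀ ∈ (Q : Subgroup H) →
      g₀⁻¹ * (z : H) ^ k * g₀ = (z : H) ^ k := by
    intro k g₀ _
    have h1 : (z : H) ^ k ∈ Subgroup.center H := Subgroup.pow_mem _ hzc k
    have h2 := (Subgroup.mem_center_iff.mp h1) g₀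
    calc g₀⁻¹ * (z : H) ^ k * g₀ = g₀⁻¹ * (g₀ * (z : H) ^ k) := by rw [mul_assoc, h2]
      _ = (z : H) ^ k := by group
  have ht := MonoidHom.transfer_eq_pow (MonoidHom.id (Q : Subgroup H)) (z : H) key
  have hone : MonoidHom.transfer (MonoidHom.id (Q : Subgroup H)) (z : H) = 1 := by
    have h1 := Abelianization.commutator_subset_ker (MonoidHom.transfer (MonoidHom.id (Q : Subgroup H)))
    rw [hH] at h1
    exact (MonoidHom.mem_ker).mp (h1 (Subgroup.mem_top _))
  rw [hone] at ht
  have h3 : (z : H) ^ (Q : Subgroup H).index = 1 := by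
    have := congrArg Subtype.val ht
    simpa using this.symm
  have h4 : p ∣ (Q : Subgroup H).index := by
    have h5 : orderOf (z : H) ∣ (Q : Subgroup H).index := orderOf_dvd_of_pow_eq_one h3
    exact (Eq.symm hzo).dvd.trans h5
  exact Q.not_dvd_index h4

end Cfsg.Agent.S0102
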