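import Cfsg.Statements.S0104
import Cfsg.Agent.Lib.Helper1.Fusion

set_option autoImplicit false
open Cfsg

namespace Cfsg.Agent.S0104

open Cfsg.Agent.Lib.Helper1

/-- A subgroup Z of a Sylow p-subgroup P that is normalized by N_G(P) is weakly closed in P exactly when it is normal in every Sylow p-subgroup containing it. -/
theorem result {G : Type*} [Group G] [Finite G] {p : ℕ} [Fact p.Prime] (P : Sylow p G) (Z : Subgroup G) (hZP : Z ≤ (P : Subgroup G)) (hZN : Subgroup.normalizer (P : Set G) ≤ Subgroup.normalizer (Z : Set G)) : Cfsg.IsWeaklyClosed Z P ↔ ∀ R : Sylow p G, Z ≤ (R : Subgroup G) → (R : Subgroup G) ≤ Subgroup.normalizer (Z : Set G) := by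
  have hPN : (P : Subgroup G) ≤ Subgroup.normalizer (Z : Set G) :=
    le_trans Subgroup.le_normalizer hZN
  constructor
  · rintro ⟨-, hW⟩ R hZR
    obtain ⟨g, rfl⟩ := MulAction.exists_smul_eq G P R
    have h1 : Z.map (MulAut.conj g⁻¹).toMonoidHom ≤ P := by
      rintro _ ⟨z, hz, rfl⟩
      have := hZR hz
      change z ∈ (g • P : Sylow p G) at this
      rw [mem_sylow_smul_iff] at this
      change g⁻¹ * z * g⁻¹⁻¹ ∈ (P : Subgroup G)
      rw [inv_inv]; exact this
    have h2 := hW g⁻¹ h1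
    have h3 : g⁻¹ ∈ Subgroup.normalizer (Z : Set G) :=
      Subgroup.mem_normalizer_iff_map_conj_eq.mpr h2
    have h4 : g ∈ Subgroup.normalizer (Z : Set G) := by simpa using Subgroup.inv_mem _ h3
    intro r hr
    change r ∈ (g • P : Sylow p G) at hr
    rw [mem_sylow_smul_iff] at hr
    have h5 := hPN hr
    have : r = g * (g⁻¹ * r * g) * g⁻¹ := by group
    rw [this]
    exact Subgroup.mul_mem _ (Subgroup.mul_mem _ h4 h5) h3
  · intro h
    refine ⟨hZP, fun g hg => ?_⟩
    have hZR : Z ≤ ((g⁻¹ • P : Sylow p G) : Subgroup G) := by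
      intro z hz
      change z ∈ (g⁻¹ • P : Sylow p G)
      rw [mem_sylow_smul_iff]
      have := hg (Subgroup.mem_map_of_mem _ hz)
      change g * z * g⁻¹ ∈ (P : Subgroup G) at this
      rw [inv_inv]; exact this
    have hR := h _ hZR
    obtain ⟨s, hs, hsR⟩ := exists_mem_smul_eq_of_le P (g⁻¹ • P) _ hPN hR
    rw [← mul_smul] at hsR
    have h6 : s * g⁻¹ ∈ Subgroup.normalizer (Z : Set G) :=
      hZN (Sylow.smul_eq_iff_mem_normalizer.mp hsR)
    have h7 : g⁻¹ ∈ Subgroup.normalizer (Z : Set G) := by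
      have : g⁻¹ = s⁻¹ * (s * g⁻¹) := by group
      rw [this]
      exact Subgroup.mul_mem _ (Subgroup.inv_mem _ hs) h6
    have h8 : g ∈ Subgroup.normalizer (Z : Set G) := by simpa using Subgroup.inv_mem _ h7
    exact Subgroup.mem_normalizer_iff_map_conj_eq.mp h8

end Cfsg.Agent.S0104
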