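import Mathlib
import Cfsg.Statements.S0607
import Cfsg.Agent.S0598
import Cfsg.Agent.S0599
import Cfsg.Agent.S0606
import Cfsg.Agent.Lib.Helper5.Replace2

set_option autoImplicit false
open Cfsg

namespace Cfsg.Agent.S0607

open Cfsg.Agent.Lib.Helper5
open scoped Pointwise commutatorElement

theorem comm_of_elemAb {G : Type*} [Group G] {p : ℕ} {A : Subgroup G}
    (hA : Cfsg.IsElementaryAbelian p A) : ∀ a ∈ A, ∀ b ∈ A, a * b = b * a := by
  intro v hv w hw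
  have := hA.1
  have h1 : (⟨v, hv⟩ : A) * ⟨w, hw⟩ = ⟨w, hw⟩ * ⟨v, hv⟩ := mul_comm' _ _
  exact congrArg Subtype.val h1

theorem result {G : Type*} [Group G] [Finite G] {p : ℕ} [Fact p.Prime] (V : Subgroup G) [V.Normal] (hV : Cfsg.IsElementaryAbelian p V) (A : Subgroup G) (hA : A ∈ Cfsg.maxElementaryAbelianSubgroups p G) : (⁅V, A⁆ ⊔ (A ⊓ Subgroup.centralizer ((⁅V, A⁆ : Subgroup G) : Set G))) ∈ Cfsg.maxElementaryAbelianSubgroups p G ∧ ⁅⁅V, ⁅V, A⁆ ⊔ (A ⊓ Subgroup.centralizer ((⁅V, A⁆ : Subgroup G) : Set G))⁆, ⁅V, A⁆ ⊔ (A ⊓ Subgroup.centralizer ((⁅V, A⁆ : Subgroup G) : Set G))⁆ = ⊥ ∧ (⁅V, A⁆ ≠ ⊥ → ⁅V, ⁅V, A⁆ ⊔ (A ⊓ Subgroup.centralizer ((⁅V, A⁆ : Subgroup G) : Set G))⁆ ≠ ⊥) := by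
  have hbo := Cfsg.Agent.S0606.result V hV A hA
  have hAN : A ≤ Subgroup.normalizer (V : Set G) := by
    rw [Subgroup.normalizer_eq_top]; exact le_top
  obtain ⟨-, -, hnt⟩ := Cfsg.Agent.S0599.result V A hV hAN hbo V le_rfl
  obtain ⟨hmax, hcomm, hpow⟩ := hbo
  obtain ⟨hVc, hAV', hAab⟩ := Cfsg.Agent.S0598.hyps V A hV hAN hcomm
  obtain ⟨hcard, hfix⟩ := h5r_core hVc hAV' hAab hmax (le_refl V)
  have hAc := comm_of_elemAb hA.1
  have hWV : ⁅V, A⁆ ≤ V := Subgroup.commutator_le_left V A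
  have hAW : A ≤ Subgroup.normalizer ((⁅V, A⁆ : Subgroup G) : Set G) :=
    Cfsg.Agent.Lib.Lead.right_le_normalizer_commutator V A hAN
  have hCV : V ⊓ Subgroup.centralizer (A : Set G) ≤ V := inf_le_left
  have hAsW : A ⊓ Subgroup.centralizer ((⁅V, A⁆ : Subgroup G) : Set G) ≤
      Subgroup.centralizer ((⁅V, A⁆ : Subgroup G) : Set G) := inf_le_right
  have hWW : ⁅V, A⁆ ≤ Subgroup.centralizer ((⁅V, A⁆ : Subgroup G) : Set G) := by
    intro w hw
    rw [Subgroup.mem_centralizer_iff]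
    intro h hh
    exact hVc h (hWV hh) w (hWV hw)
  have hA0W : ⁅V, A⁆ ⊔ (A ⊓ Subgroup.centralizer ((⁅V, A⁆ : Subgroup G) : Set G)) ≤
      Subgroup.centralizer ((⁅V, A⁆ : Subgroup G) : Set G) := sup_le hWW hAsW
  have hel : Cfsg.IsElementaryAbelian p
      (⁅V, A⁆ ⊔ (A ⊓ Subgroup.centralizer ((⁅V, A⁆ : Subgroup G) : Set G))) := by
    have hcl : ⁅V, A⁆ ⊔ (A ⊓ Subgroup.centralizer ((⁅V, A⁆ : Subgroup G) : Set G)) =
        Subgroup.closure (((⁅V, A⁆ : Subgroup G) : Set G) ∪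
          ((A ⊓ Subgroup.centralizer ((⁅V, A⁆ : Subgroup G) : Set G) : Subgroup G) : Set G)) := by
      rw [Subgroup.closure_union, Subgroup.closure_eq, Subgroup.closure_eq]
    rw [hcl]
    apply elemAb_closure
    · rintro x (hx | hx) y (hy | hy)
      · exact hVc x (hWV hx) y (hWV hy)
      · exact (Subgroup.mem_centralizer_iff.mp (hAsW hy)) x hx
      · exact ((Subgroup.mem_centralizer_iff.mp (hAsW hx)) y hy).symm
      · exact hAc x (Subgroup.mem_inf.mp hx).1 y (Subgroup.mem_inf.mp hy).1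
    · rintro x (hx | hx)
      · exact hV.2 x (hWV hx)
      · exact hA.1.2 x (Subgroup.mem_inf.mp hx).1
  have hcardle : Nat.card A ≤
      Nat.card (⁅V, A⁆ ⊔ (A ⊓ Subgroup.centralizer ((⁅V, A⁆ : Subgroup G) : Set G)) : Subgroup G) := by
    have h1 := card_mul_card_le_sup_mul_inf ⁅V, A⁆
      (A ⊓ Subgroup.centralizer ((⁅V, A⁆ : Subgroup G) : Set G))
    have h2 : Nat.card (⁅V, A⁆ ⊓ (A ⊓ Subgroup.centralizer ((⁅V, A⁆ : Subgroup G) : Set G)) : Subgroup G) ≤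
        Nat.card (⁅V, A⁆ ⊓ (V ⊓ Subgroup.centralizer (A : Set G)) : Subgroup G) := by
      apply Subgroup.card_le_of_le
      intro x hx
      obtain ⟨hxW, hxAs⟩ := Subgroup.mem_inf.mp hx
      refine Subgroup.mem_inf.mpr ⟨hxW, Subgroup.mem_inf.mpr ⟨hWV hxW, ?_⟩⟩
      rw [Subgroup.mem_centralizer_iff]
      intro h hh
      exact hAc h hh x (Subgroup.mem_inf.mp hxAs).1
    have h3 := h5r_card_sup_abelian hVc hWV hCV
    rw [hfix] at hcard
    have hcpos : 0 < Nat.card (V ⊓ Subgroup.centralizer (A : Set G) : Subgroup G) := Nat.card_pos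
    have hjpos : 0 < Nat.card (⁅V, A⁆ ⊓ (V ⊓ Subgroup.centralizer (A : Set G)) : Subgroup G) :=
      Nat.card_pos
    generalize Nat.card A = a at *
    generalize Nat.card (⁅V, A⁆ ⊔ (A ⊓ Subgroup.centralizer ((⁅V, A⁆ : Subgroup G) : Set G)) : Subgroup G) = a0 at *
    generalize Nat.card (⁅V, A⁆ ⊓ (A ⊓ Subgroup.centralizer ((⁅V, A⁆ : Subgroup G) : Set G)) : Subgroup G) = i at *
    generalize Nat.card (⁅V, A⁆ ⊓ (V ⊓ Subgroup.centralizer (A : Set G)) : Subgroup G) = j at *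
    generalize Nat.card (⁅V, A⁆ ⊔ (V ⊓ Subgroup.centralizer (A : Set G)) : Subgroup G) = s at *
    generalize Nat.card (V ⊓ Subgroup.centralizer (A : Set G) : Subgroup G) = c at *
    generalize Nat.card (⁅V, A⁆ : Subgroup G) = w at *
    generalize Nat.card (A ⊓ Subgroup.centralizer ((⁅V, A⁆ : Subgroup G) : Set G) : Subgroup G) = as at *
    have e1 : a * j * c = as * w * c := by
      calc a * j * c = (a * c) * j := by ring
        _ = (as * s) * j := by rw [hcard]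
        _ = as * (s * j) := by ring
        _ = as * (w * c) := by rw [h3]
        _ = as * w * c := by ring
    have e2 : a * j = as * w := Nat.eq_of_mul_eq_mul_right hcpos e1
    have e3 : a * j ≤ a0 * j := by
      calc a * j = as * w := e2
        _ = w * as := by ring
        _ ≤ a0 * i := h1
        _ ≤ a0 * j := Nat.mul_le_mul_left _ h2
    exact Nat.le_of_mul_le_mul_right e3 hjpos
  refine ⟨⟨hel, fun B hB => le_trans (hA.2 B hB) hcardle⟩, ?_, ?_⟩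
  · have h1 : ⁅V, ⁅V, A⁆ ⊔ (A ⊓ Subgroup.centralizer ((⁅V, A⁆ : Subgroup G) : Set G))⁆ ≤ ⁅V, A⁆ := by
      rw [Subgroup.commutator_le]
      intro v hv x hx
      have hx' : x ∈ ((⁅V, A⁆ ⊔ (A ⊓ Subgroup.centralizer ((⁅V, A⁆ : Subgroup G) : Set G)) :
          Subgroup G) : Set G) := hx
      rw [Subgroup.coe_mul_of_right_le_normalizer_left _ _ (le_trans inf_le_left hAW)] at hx'
      obtain ⟨w, hw, c, hc, hwc⟩ := Set.mem_mul.mp hx'
      have hwc' : w * c = x := hwc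
      have hcA : c ∈ A := (Subgroup.mem_inf.mp hc).1
      have h2 : ⁅v, x⁆ = w * ⁅v, c⁆ * w⁻¹ := by
        rw [← hwc', commutatorElement_def, commutatorElement_def]
        have h3 : v * w = w * v := hVc v hv w (hWV hw)
        calc v * (w * c) * v⁻¹ * (w * c)⁻¹ = (v * w) * c * v⁻¹ * c⁻¹ * w⁻¹ := by group
          _ = (w * v) * c * v⁻¹ * c⁻¹ * w⁻¹ := by rw [h3]
          _ = w * (v * c * v⁻¹ * c⁻¹) * w⁻¹ := by group
      rw [h2]
      exact Subgroup.mul_mem _ (Subgroup.mul_mem _ hw (Subgroup.commutator_mem_commutator hv hcA))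
        (Subgroup.inv_mem _ hw)
    have h4 : ⁅⁅V, A⁆, ⁅V, A⁆ ⊔ (A ⊓ Subgroup.centralizer ((⁅V, A⁆ : Subgroup G) : Set G))⁆ = ⊥ :=
      Subgroup.commutator_eq_bot_iff_le_centralizer.mpr (Subgroup.le_centralizer_iff.mp hA0W)
    exact eq_bot_iff.mpr (le_trans (Subgroup.commutator_mono h1 le_rfl) (le_of_eq h4))
  · intro hne hbot
    apply hnt hne
    exact eq_bot_iff.mpr (le_trans (Subgroup.commutator_mono le_rfl le_sup_right) (le_of_eq hbot))

end Cfsg.Agent.S0607
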