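import Mathlib
import Cfsg.Statements.S0109
import Cfsg.Agent.S0607
import Cfsg.Agent.Lib.Helper5.SolvPSolv
import Cfsg.Agent.Lib.Helper5.PStableAct
import Cfsg.Agent.Lib.Helper5.QuadSep
import Cfsg.Agent.Lib.Helper5.PConstr
import Cfsg.Agent.Lib.Helper5.ElemAb
import Cfsg.Agent.Lib.Helper13.Tight

set_option autoImplicit false
open Cfsg

namespace Cfsg.Agent.S0109

open Cfsg.Agent.Lib.Helper5
open scoped commutatorElement
open scoped Pointwise

universe u

theorem five_le_of_odd_prime {p : ℕ} (hpP : p.Prime) (hp : p ≠ 2) (h3 : p ≠ 3) : 5 ≤ p := by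
  have h2 := hpP.two_le
  rcases Nat.lt_or_ge p 5 with h | h
  · exfalso
    interval_cases p
    · exact hp rfl
    · exact h3 rfl
    · exact absurd hpP (by decide)
  · exact h

theorem pCore_quot_eq_bot {G : Type u} [Group G] [Finite G] {p : ℕ} [Fact p.Prime] (P : Sylow p G)
    (Om : Set G) (hOmP : ∀ x ∈ Om, ∀ y ∈ (P : Subgroup G), x * y = y * x) :
    Cfsg.pCore p (G ⧸ Subgroup.centralizer ((Subgroup.normalClosure Om : Subgroup G) : Set G)) = ⊥ := by
  set V := Subgroup.normalClosure Om with hVdef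
  set C := Subgroup.centralizer (V : Set G) with hCdef
  haveI hCn : C.Normal := Subgroup.normal_centralizer
  have hsurj := QuotientGroup.mk'_surjective C
  set D := (Cfsg.pCore p (G ⧸ C)).comap (QuotientGroup.mk' C) with hDdef
  haveI hDn : D.Normal := by
    haveI := Cfsg.pCore_normal p (G ⧸ C)
    exact Subgroup.Normal.comap inferInstance _
  have hOmV : Om ⊆ V := Subgroup.subset_normalClosure
  have hDc : ∀ d ∈ D, ∀ x ∈ Om, d * x = x * d := by
    intro d hd x hx
    have h1 : (QuotientGroup.mk' C d) ∈ ((P.mapSurjective hsurj : Sylow p (G ⧸ C)) : Subgroup (G ⧸ C)) :=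
      Cfsg.Agent.Lib.Helper1.pCore_le_sylow p _ hd
    rw [Sylow.coe_mapSurjective] at h1
    obtain ⟨y, hy, hyd⟩ := h1
    have h2 : y⁻¹ * d ∈ C := by
      rw [← QuotientGroup.eq]
      exact hyd
    have h3 : (y⁻¹ * d) * x = x * (y⁻¹ * d) := by
      rw [hCdef, Subgroup.mem_centralizer_iff] at h2
      exact (h2 x (hOmV hx)).symm
    have h4 : x * y = y * x := hOmP x hx y hy
    calc d * x = y * ((y⁻¹ * d) * x) := by group
      _ = y * (x * (y⁻¹ * d)) := by rw [h3]
      _ = (y * x) * (y⁻¹ * d) := by group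
      _ = (x * y) * (y⁻¹ * d) := by rw [h4]
      _ = x * d := by group
  haveI hCDn : (Subgroup.centralizer (D : Set G)).Normal := Subgroup.normal_centralizer
  have hVD : V ≤ Subgroup.centralizer (D : Set G) := by
    apply Subgroup.normalClosure_le_normal
    intro x hx
    rw [SetLike.mem_coe, Subgroup.mem_centralizer_iff]
    intro d hd
    exact hDc d hd x hx
  have hDC : D ≤ C := by
    rw [hCdef]
    exact Subgroup.le_centralizer_iff.mp hVD
  rw [eq_bot_iff]
  intro q hq
  obtain ⟨g, rfl⟩ := hsurj q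
  have hg : g ∈ D := hq
  rw [Subgroup.mem_bot]
  exact (QuotientGroup.eq_one_iff g).mpr (hDC hg)


theorem thompson_normalized {G : Type u} [Group G] [Finite G] {p : ℕ} [Fact p.Prime] (P : Sylow p G)
    (C : Subgroup G)
    (hJ : ∀ A ∈ Cfsg.maxElementaryAbelianSubgroups p G, A ≤ (P : Subgroup G) → A ≤ C)
    (n : G) (hn : n ∈ Subgroup.normalizer ((((P : Subgroup G) ⊓ C : Subgroup G)) : Set G)) :
    (Cfsg.thompsonSubgroupOf p (P : Subgroup G)).map (MulAut.conj n).toMonoidHom ≤
      Cfsg.thompsonSubgroupOf p (P : Subgroup G) := by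
  have hU := exists_maxElemAb_le_sylow P
  rw [Subgroup.map_le_iff_le_comap]
  show (Cfsg.thompsonSubgroup p ↥(P : Subgroup G)).map (P : Subgroup G).subtype ≤ _
  rw [Subgroup.map_le_iff_le_comap]
  unfold Cfsg.thompsonSubgroup
  apply sSup_le
  intro B hB
  rw [← Subgroup.map_le_iff_le_comap, ← Subgroup.map_le_iff_le_comap]
  have hA1 : B.map (P : Subgroup G).subtype ∈ Cfsg.maxElementaryAbelianSubgroups p G :=
    maxElemAb_map_subtype hB hU
  have hA2 := maxElemAb_map_equiv (MulAut.conj n) hA1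
  apply maxElemAb_le_thompsonSubgroupOf hA2
  have h1 : B.map (P : Subgroup G).subtype ≤ (P : Subgroup G) := Subgroup.map_subtype_le B
  have h2 : B.map (P : Subgroup G).subtype ≤ C := hJ _ hA1 h1
  rintro _ ⟨x, hx, rfl⟩
  have h3 : x ∈ (P : Subgroup G) ⊓ C := ⟨h1 hx, h2 hx⟩
  have h4 := (Subgroup.mem_normalizer_iff.mp hn x).mp h3
  exact h4.1


theorem result {G : Type*} [Group G] [Finite G] {p : ℕ} [Fact p.Prime] (hp : p ≠ 2) (hs : Group.IsSolvable G) (h3 : p = 3 → ∀ T : Sylow 2 G, IsMulCommutative T) (hF : ∀ N : Subgroup G, N.Normal → Nat.Coprime (Nat.card N) p → N = ⊥) (P : Sylow p G) (g : G) : ∃ a ∈ Subgroup.normalizer (Cfsg.thompsonSubgroupOf p (P : Subgroup G) : Set G), ∃ c ∈ Subgroup.centralizer {x : G | x ∈ (P : Subgroup G) ∧ (∀ y ∈ (P : Subgroup G), x * y = y * x) ∧ x ^ p = 1}, g = a * c := by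
  classical
  have hpP : p.Prime := Fact.out
  have hsol : Cfsg.IsPSolvable p G := isPSolvable_of_isSolvable p G hs
  have hO : Cfsg.pPrimeCore p G = ⊥ := by
    unfold Cfsg.pPrimeCore
    rw [sSup_eq_bot]
    rintro N ⟨hNn, hNc⟩
    exact hF N hNn hNc
  set Q := Cfsg.pCore p G with hQdef
  haveI hQn : Q.Normal := Cfsg.pCore_normal p G
  have hCQ : Subgroup.centralizer (Q : Set G) ≤ Q := h5_centralizer_pCore_le hsol hO
  have hQP : Q ≤ (P : Subgroup G) := Cfsg.Agent.Lib.Helper1.pCore_le_sylow p P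
  set Om : Set G := {x : G | x ∈ (P : Subgroup G) ∧ (∀ y ∈ (P : Subgroup G), x * y = y * x) ∧ x ^ p = 1} with hOm
  haveI hCQn : (Subgroup.centralizer (Q : Set G)).Normal := Subgroup.normal_centralizer
  set E : Subgroup G := Q ⊓ Subgroup.centralizer (Q : Set G) with hE
  haveI hEn : E.Normal := inferInstance
  have hOmE : Om ⊆ E := by
    rintro x ⟨hxP, hxc, hxp⟩
    have h1 : x ∈ Subgroup.centralizer (Q : Set G) := by
      rw [Subgroup.mem_centralizer_iff]
      intro y hy
      exact (hxc y (hQP hy)).symm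
    exact ⟨hCQ h1, h1⟩
  have hEcomm : ∀ x ∈ E, ∀ y ∈ E, x * y = y * x := by
    intro x hx y hy
    have h1 : x ∈ Subgroup.centralizer (Q : Set G) := hx.2
    rw [Subgroup.mem_centralizer_iff] at h1
    exact (h1 y hy.1).symm
  set V := Subgroup.normalClosure Om with hVdef
  have hV : Cfsg.IsElementaryAbelian p V := by
    have hsub : Group.conjugatesOfSet Om ⊆ E := Group.conjugatesOfSet_subset hOmE
    show Cfsg.IsElementaryAbelian p (Subgroup.closure (Group.conjugatesOfSet Om))
    apply elemAb_closure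
    · intro x hx y hy
      exact hEcomm x (hsub hx) y (hsub hy)
    · intro x hx
      rw [Group.mem_conjugatesOfSet_iff] at hx
      obtain ⟨a, ha, hax⟩ := hx
      obtain ⟨c, hc⟩ := isConj_iff.mp hax
      rw [← hc, conj_pow, ha.2.2, mul_one, mul_inv_cancel]
  set C := Subgroup.centralizer (V : Set G) with hCdef
  haveI hCn : C.Normal := Subgroup.normal_centralizer
  have hsurj := QuotientGroup.mk'_surjective C
  have hΓ : AbsPStable p (G ⧸ C) := by
    by_cases h3' : p = 3
    · exact absPStable_of_sylow_two_comm hp (G ⧸ C)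
        (syl2comm_of_surjective (QuotientGroup.mk' C) hsurj (h3 h3'))
    · have hp5 : 5 ≤ p := five_le_of_odd_prime hpP hp h3'
      exact absPStable_of_psolvable hp5 (G ⧸ C)
        (h5_isPSolvable_of_surjective (QuotientGroup.mk' C) hsurj hsol)
  have hstab : Cfsg.IsPStableOn p V := pstableOn_of V hV hΓ
  have hOp : Cfsg.pCore p (G ⧸ C) = ⊥ :=
    pCore_quot_eq_bot P Om (fun x hx y hy => hx.2.1 y hy)
  have hJ : ∀ A ∈ Cfsg.maxElementaryAbelianSubgroups p G, A ≤ (P : Subgroup G) → A ≤ C := by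
    intro A hA _
    by_contra hAC
    have hVA : ⁅V, A⁆ ≠ ⊥ := by
      intro h
      apply hAC
      rw [Subgroup.commutator_eq_bot_iff_le_centralizer] at h
      exact Subgroup.le_centralizer_iff.mp h
    obtain ⟨-, hquad, hne⟩ := S0607.result V hV A hA
    have hne' := hne hVA
    have hA₀C : ¬ (⁅V, A⁆ ⊔ (A ⊓ Subgroup.centralizer ((⁅V, A⁆ : Subgroup G) : Set G))) ≤ C := by
      intro h
      apply hne'
      rw [Subgroup.commutator_eq_bot_iff_le_centralizer]
      exact Subgroup.le_centralizer_iff.mp h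
    obtain ⟨a, haA, haC⟩ := SetLike.not_le_iff_exists.mp hA₀C
    have hq : ⁅⁅V, Subgroup.zpowers a⁆, Subgroup.zpowers a⁆ = ⊥ := by
      rw [eq_bot_iff, ← hquad]
      have hz : Subgroup.zpowers a ≤
          ⁅V, A⁆ ⊔ (A ⊓ Subgroup.centralizer ((⁅V, A⁆ : Subgroup G) : Set G)) :=
        (Subgroup.zpowers_le).mpr haA
      exact Subgroup.commutator_mono (Subgroup.commutator_mono le_rfl hz) hz
    have h1 := hstab a hq
    rw [hOp, Subgroup.mem_bot, QuotientGroup.eq_one_iff] at h1
    exact haC h1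
  set R : Subgroup G := (P : Subgroup G) ⊓ C with hR
  have hRp : IsPGroup p ((P : Subgroup G).subgroupOf C) :=
    P.2.comap_of_injective C.subtype C.subtype_injective
  have hidx : ¬ p ∣ ((P : Subgroup G).subgroupOf C).index := by
    have h1 := Cfsg.Agent.Lib.Helper13.relIndex_dvd_index_of_normal_right (P : Subgroup G) C
    intro hd
    exact P.not_dvd_index (dvd_trans hd h1)
  have hfr := Sylow.normalizer_sup_eq_top (hRp.toSylow hidx)
  have hmap : ((hRp.toSylow hidx : Sylow p C) : Subgroup C).map C.subtype = R := by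
    rw [IsPGroup.toSylow_coe, Subgroup.subgroupOf_map_subtype]
  rw [hmap] at hfr
  have hg : g⁻¹ ∈ C ⊔ Subgroup.normalizer (R : Set G) := by
    rw [sup_comm, hfr]; trivial
  have hmul := Subgroup.normal_mul C (Subgroup.normalizer (R : Set G))
  have hg' : g⁻¹ ∈ ((C : Set G) * (Subgroup.normalizer (R : Set G) : Set G)) := by
    rw [← hmul]; exact hg
  obtain ⟨c, hc, n, hn, hcn⟩ := Set.mem_mul.mp hg'
  have hn' : n⁻¹ ∈ Subgroup.normalizer (R : Set G) := inv_mem hn
  refine ⟨n⁻¹, ?_, c⁻¹, ?_, ?_⟩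
  · rw [Subgroup.mem_normalizer_iff]
    intro h
    constructor
    · intro hh
      have := thompson_normalized P C hJ n⁻¹ hn' (Subgroup.mem_map_of_mem _ hh)
      simpa using this
    · intro hh
      have := thompson_normalized P C hJ n hn (Subgroup.mem_map_of_mem _ hh)
      simpa [mul_assoc] using this
  · have h1 : c⁻¹ ∈ C := inv_mem hc
    exact Subgroup.centralizer_le (Subgroup.subset_normalClosure) h1
  · rw [← mul_inv_rev, hcn, inv_inv]

end Cfsg.Agent.S0109
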