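import Mathlib
import Cfsg.Statements.S0114
import Cfsg.Agent.Lib.Helper21.MaxClassTwo

set_option autoImplicit false
open Cfsg

namespace Cfsg.Agent.S0114

open Cfsg.Agent.Lib.Helper21

/-- The central quotient of a 2-group of maximal class is dihedral. -/
theorem result {X : Type*} [Group X] [Finite X] (n : ℕ) (hn : 3 ≤ n) (hX : Nat.card X = 2 ^ n) (hc : Group.nilpotencyClass X = n - 1) : Nonempty (X ⧸ Subgroup.center X ≃* DihedralGroup (2 ^ (n - 2))) := by
  haveI : Fact (Nat.Prime 2) := ⟨Nat.prime_two⟩
  obtain ⟨hi, -⟩ := mc_two_index n X hn hX hc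
  obtain ⟨hZ, hZle, C, hC, hCi, hZC, hcen⟩ := mc_structure n hn hX hi
  have hmul := mc_card_center_mul (X := X)
  have hq : Nat.card (X ⧸ Subgroup.center X) = 2 ^ (n - 1) := by
    rw [hZ, hX] at hmul
    have h2 : 2 * 2 ^ (n - 1) = 2 ^ n := by rw [← pow_succ']; congr 1; omega
    omega
  have hZtop : Subgroup.center X ≠ ⊤ := by
    intro h
    have : Nat.card (Subgroup.center X) = Nat.card X := by rw [h, Subgroup.card_top]
    rw [hZ, hX] at this
    have : 2 ^ 3 ≤ 2 ^ n := Nat.pow_le_pow_right (by norm_num) hn
    omega
  by_cases h3 : n = 3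
  · subst h3
    have hq4 : Nat.card (X ⧸ Subgroup.center X) = 4 := by rw [hq]; norm_num
    have hnc : ¬ IsCyclic (X ⧸ Subgroup.center X) := fun h => hZtop (mc_center_top_of_cyclic h)
    have hsq := mc_sq_of_card_four hq4 hnc
    haveI : IsKleinFour (X ⧸ Subgroup.center X) :=
      { card_four := hq4
        exponent_two := by
          have hdvd : Monoid.exponent (X ⧸ Subgroup.center X) ∣ 2 := by
            apply Monoid.exponent_dvd_of_forall_pow_eq_one
            intro g
            rw [pow_two]; exact hsq g
          rcases (Nat.dvd_prime Nat.prime_two).mp hdvd with h | h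
          · exfalso
            rw [Monoid.exp_eq_one_iff] at h
            have := Nat.card_eq_one_iff_unique.mpr ⟨h, ⟨1⟩⟩
            omega
          · exact h }
    have e : Nonempty (X ⧸ Subgroup.center X ≃* DihedralGroup 2) := IsKleinFour.nonempty_mulEquiv
    have h21 : 2 ^ (3 - 2) = 2 := by norm_num
    rw [h21]
    exact e
  · have hn4 : 4 ≤ n := by omega
    obtain ⟨c0, hc0⟩ := hC.exists_generator
    set c : X := (c0 : X) with hcdef
    have hCeq : C = Subgroup.zpowers c := by
      apply le_antisymm
      · intro x hx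
        obtain ⟨i, hi⟩ := Subgroup.mem_zpowers_iff.mp (hc0 ⟨x, hx⟩)
        have hi' : c ^ i = x := by
          have := congrArg Subtype.val hi; simpa using this
        rw [← hi']
        exact Subgroup.zpow_mem_zpowers c i
      · rw [Subgroup.zpowers_le]; exact c0.2
    have hcC : c ∈ C := c0.2
    have hCne : ∃ g : X, g ∉ C := by
      by_contra h
      push Not at h
      have : C = ⊤ := by rw [eq_top_iff]; intro a _; exact h a
      rw [this, Subgroup.index_top] at hCi
      omega
    obtain ⟨g, hg⟩ := hCne
    -- squares of elements outside C are central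
    have hsqc : ∀ g' : X, g' ∉ C → g' * g' ∈ Subgroup.center X := by
      intro g' hg'
      apply hcen g' hg' (g' * g')
      · have := Subgroup.sq_mem_of_index_two hCi g'
        rwa [pow_two] at this
      · rw [mul_assoc]
    have hgg := hsqc g hg
    have hgc_notin : g * c ∉ C := by
      intro h
      apply hg
      have := C.mul_mem h (C.inv_mem hcC)
      simpa using this
    have hgcgc := hsqc (g * c) hgc_notin
    set π := QuotientGroup.mk' (Subgroup.center X) with hπ
    have hπsurj : Function.Surjective π := QuotientGroup.mk'_surjective _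
    have hker : π.ker = Subgroup.center X := QuotientGroup.ker_mk' _
    have hgg' : π g * π g = 1 := by
      rw [← map_mul, ← MonoidHom.mem_ker, hker]; exact hgg
    have hgcgc' : π g * π c * (π g * π c) = 1 := by
      rw [← map_mul, ← map_mul, ← MonoidHom.mem_ker, hker]; exact hgcgc
    have hginv : (π g)⁻¹ = π g := inv_eq_of_mul_eq_one_left hgg'
    have hgc' : π g * π c * (π g)⁻¹ = (π c)⁻¹ := by
      rw [hginv]
      apply eq_inv_of_mul_eq_one_left
      rw [← hgcgc']; group
    have hzp : Subgroup.zpowers (π c) = C.map π := by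
      rw [hCeq, MonoidHom.map_zpowers]
    have hidx : (Subgroup.zpowers (π c)).index = 2 := by
      rw [hzp, Subgroup.index_map_eq _ hπsurj (by rw [hker]; exact hZC), hCi]
    have hgnot : π g ∉ Subgroup.zpowers (π c) := by
      rw [hzp]
      rintro ⟨y, hy, hyg⟩
      apply hg
      have : y⁻¹ * g ∈ Subgroup.center X := by
        rw [← hker, MonoidHom.mem_ker, map_mul, map_inv, hyg]; group
      have := C.mul_mem hy (hZC this)
      simpa using this
    have hord : orderOf (π c) = 2 ^ (n - 2) := by
      rw [← Nat.card_zpowers]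
      have h1 : Nat.card (Subgroup.zpowers (π c)) * 2 = Nat.card (X ⧸ Subgroup.center X) := by
        rw [← hidx]; exact Subgroup.card_mul_index _
      rw [hq] at h1
      have h2 : 2 ^ (n - 2) * 2 = 2 ^ (n - 1) := by rw [← pow_succ]; congr 1; omega
      omega
    obtain ⟨k, ⟨e⟩⟩ := Cfsg.Agent.Lib.Helper24.tk_dihedral (π c) (π g) (n - 2) (by omega) hord hidx
      hgnot hgg' hgc'
    have hcard := Nat.card_congr e.toEquiv
    rw [hq, DihedralGroup.nat_card] at hcard
    have hk : n - 1 = k + 2 + 1 := by
      apply Nat.pow_right_injective (le_refl 2)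
      simp only []
      rw [hcard, pow_succ]; ring
    have hk2 : k + 2 = n - 2 := by omega
    rw [← hk2]
    exact ⟨e⟩

end Cfsg.Agent.S0114
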