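import Mathlib
import Cfsg.Statements.S0115
import Cfsg.Agent.Lib.Helper21.MaxClassTwo

set_option autoImplicit false
open Cfsg

namespace Cfsg.Agent.S0115

open Cfsg.Agent.Lib.Helper21

/-- A 2-group of order 2^n, n ≥ 3, is of maximal class exactly when its commutator quotient is a Klein four-group. -/
theorem result {X : Type*} [Group X] [Finite X] (n : ℕ) (hn : 3 ≤ n) (hX : Nat.card X = 2 ^ n) : Group.nilpotencyClass X = n - 1 ↔ IsKleinFour (X ⧸ commutator X) := by
  constructor
  · intro hc
    obtain ⟨hi, hs⟩ := mc_two_index n X hn hX hc
    have hcard : Nat.card (X ⧸ commutator X) = 4 := by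
      rw [← Subgroup.index_eq_card]; exact hi
    refine { card_four := hcard, exponent_two := ?_ }
    have hdvd : Monoid.exponent (X ⧸ commutator X) ∣ 2 := by
      apply Monoid.exponent_dvd_of_forall_pow_eq_one
      intro g
      induction g using QuotientGroup.induction_on with
      | H x =>
        rw [← QuotientGroup.mk_pow, QuotientGroup.eq_one_iff, pow_two]
        exact hs x
    rcases (Nat.dvd_prime Nat.prime_two).mp hdvd with h | h
    · exfalso
      rw [Monoid.exp_eq_one_iff] at h
      have := Nat.card_eq_one_iff_unique.mpr ⟨h, ⟨1⟩⟩
      omega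
    · exact h
  · intro hK
    have h4 := hK.card_four
    have hi : (commutator X).index = 4 := by
      rw [Subgroup.index_eq_card]; exact h4
    exact mc_class_of_index_four n X (by omega) hX hi

end Cfsg.Agent.S0115
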