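import Cfsg.Statements.S0118
import Cfsg.Agent.Lib.Helper1.GNPC3.ZEFus

set_option autoImplicit false
open Cfsg

namespace Cfsg.Agent.S0118

theorem result {G : Type*} [Group G] [Finite G] {p : ℕ} [Fact p.Prime] (hp : p ≠ 2) (hfree : ¬ ∃ (H K : Subgroup G) (hK : (K.subgroupOf H).Normal), Nonempty ((H ⧸ K.subgroupOf H) ≃* Matrix.SpecialLinearGroup (Fin 2) (ZMod p))) (P : Sylow p G) (A : Set G) (hA : A ⊆ (P : Set G)) (g : G) (hAg : (fun a => g⁻¹ * a * g) '' A ⊆ (P : Set G)) : ∃ n ∈ Subgroup.normalizer (Cfsg.centerThompsonOf p (P : Subgroup G) : Set G), ∀ a ∈ A, n⁻¹ * a * n = g⁻¹ * a * g := by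
  have hAh : (fun a => g⁻¹ * a * g⁻¹⁻¹) '' A ⊆ (P : Set G) := by
    rintro _ ⟨a, ha, rfl⟩
    have := hAg ⟨a, ha, rfl⟩
    simpa using this
  obtain ⟨x, hx, hxa⟩ := Cfsg.Agent.Lib.Helper1.GNPC3.ze_controls_fusion hp hfree P A hA g⁻¹ hAh
  refine ⟨x⁻¹, ?_, ?_⟩
  · rw [Cfsg.Agent.Lib.Helper1.GNPC3.centerThompsonOf_eq]
    exact Subgroup.inv_mem _ hx
  · intro a ha
    have := hxa a ha
    rw [inv_inv] at this ⊢
    exact this

end Cfsg.Agent.S0118
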