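import Cfsg.Statements.S0123
import Cfsg.Agent.Lib.Helper24.ClassThree
import Cfsg.Agent.Lib.Helper1.Class2

set_option autoImplicit false
open Cfsg

namespace Cfsg.Agent.S0123

open Cfsg.Agent.Lib.Helper24
open scoped commutatorElement

theorem result {R : Type*} [Group R] [Finite R] {p : ℕ} [Fact p.Prime] (hR : IsPGroup p R) (hcl : (p ≠ 2 ∧ ⁅commutator R, (⊤ : Subgroup R)⁆ = ⊥) ∨ (3 < p ∧ ⁅⁅commutator R, (⊤ : Subgroup R)⁆, (⊤ : Subgroup R)⁆ = ⊥)) (hder : commutator R ≤ Subgroup.closure {x : R | x ^ p = 1}) (x y : R) : (x * y) ^ p = x ^ p * y ^ p := by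
  have hp := (Fact.out : p.Prime)
  rcases hcl with ⟨hp2, h2⟩ | ⟨h3, hcl3⟩
  · have hc := Cfsg.Agent.Lib.Helper1.commutator_le_center_of_class_two h2
    have hcm : ⁅y, x⁆ ∈ commutator R := c3_comm_mem y x
    have hcc : ⁅y, x⁆ ∈ Subgroup.center R := hc hcm
    have hcp : ⁅y, x⁆ ^ p = 1 :=
      Cfsg.Agent.Lib.Helper1.pow_prime_eq_one_of_mem_closure hp hp2 hc _ (hder hcm)
    have h2p : 2 < p := lt_of_le_of_ne hp.two_le (fun h => hp2 h.symm)
    rw [Cfsg.Agent.Lib.Helper1.mul_pow_of_central hcc p,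
      c3_pow_of_dvd hcp (c3_dvd_choose_two hp h2p), one_mul]
  · exact c3_mul_pow_hom hp h3 hcl3 hder x y

end Cfsg.Agent.S0123
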