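import Cfsg.Statements.S0125
import Mathlib
import Cfsg.Agent.Lib.helper17.SylowNormal

set_option autoImplicit false
open Cfsg

namespace Cfsg.Agent.S0125


theorem centralizer_normal_in_normalizer {G : Type*} [Group G] (A : Subgroup G) :
    ((Subgroup.centralizer (A : Set G)).subgroupOf (Subgroup.normalizer (A : Set G))).Normal := by
  refine ⟨fun c hc n => ?_⟩
  rw [Subgroup.mem_subgroupOf] at hc ⊢
  rw [Subgroup.mem_centralizer_iff] at hc ⊢
  intro a ha
  have hn := n.2
  rw [Subgroup.mem_normalizer_iff'] at hn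
  -- n⁻¹ a n ∈ A
  have h1 : (n : G)⁻¹ * a * n ∈ A := by
    have := (hn ((n : G)⁻¹ * a)).mpr (by simpa [mul_assoc] using ha)
    exact this
  have h2 := hc _ h1
  simp only [Subgroup.coe_mul, InvMemClass.coe_inv]
  calc a * ((n : G) * c * (n : G)⁻¹) = n * (((n : G)⁻¹ * a * n) * c) * (n : G)⁻¹ := by group
    _ = n * (c * ((n : G)⁻¹ * a * n)) * (n : G)⁻¹ := by rw [h2]
    _ = (n : G) * c * (n : G)⁻¹ * a := by group



/-- The centralizer of a self-centralizing normal subgroup A of a Sylow p-subgroup is the direct product of A with a normal p'-subgroup. -/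
theorem result {G : Type*} [Group G] [Finite G] {p : ℕ} [Fact p.Prime] (R : Sylow p G) (A : Subgroup G) (hAR : A ≤ (R : Subgroup G)) (hAn : (R : Subgroup G) ≤ Subgroup.normalizer (A : Set G)) (hC : (R : Subgroup G) ⊓ Subgroup.centralizer (A : Set G) = A) : ∃ H : Subgroup G, H ≤ Subgroup.centralizer (A : Set G) ∧ Nat.Coprime (Nat.card H) p ∧ Subgroup.centralizer (A : Set G) ≤ Subgroup.normalizer (H : Set G) ∧ H ⊓ A = ⊥ ∧ H ⊔ A = Subgroup.centralizer (A : Set G) := by
  have hp : p.Prime := Fact.out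
  set C := Subgroup.centralizer (A : Set G) with hCdef
  set NA := Subgroup.normalizer (A : Set G) with hNAdef
  have hAC : A ≤ C := hC ▸ inf_le_right
  have hCNA : C ≤ NA := Subgroup.centralizer_le_normalizer _
  have : (C.subgroupOf NA).Normal := centralizer_normal_in_normalizer A
  -- Sylow of NA
  let R' : Sylow p NA := R.subtype hAn
  have hnd : ¬ p ∣ ((R' : Sylow p NA) : Subgroup NA).relIndex (C.subgroupOf NA) :=
    Cfsg.Agent.Lib.helper17.not_dvd_relIndex_of_normal R' (C.subgroupOf NA)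
  have hR' : ((R' : Sylow p NA) : Subgroup NA) = (R : Subgroup G).subgroupOf NA := Sylow.coe_subtype _ _
  rw [hR', Subgroup.relIndex_subgroupOf hCNA, ← Subgroup.inf_relIndex_right, hC] at hnd
  -- A as Sylow of C
  have hApg : IsPGroup p (A.subgroupOf C) := (R.isPGroup'.to_le hAR).comap_subtype
  let S : Sylow p C := hApg.toSylow hnd
  have hS : (S : Subgroup C) = A.subgroupOf C := rfl
  have hcen : ∀ (c : C) (s : C), s ∈ (S : Subgroup C) → s * c = c * s := by
    intro c s hs
    rw [hS, Subgroup.mem_subgroupOf] at hs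
    have := (Subgroup.mem_centralizer_iff.mp c.2) s hs
    apply Subtype.ext
    simpa using this
  have hP : Subgroup.normalizer ((S : Subgroup C) : Set C) ≤ Subgroup.centralizer ((S : Subgroup C) : Set C) := by
    intro c _
    rw [Subgroup.mem_centralizer_iff]
    intro s hs
    exact hcen c s hs
  obtain ⟨K, hKn, hcompl, hKnd⟩ : ∃ K : Subgroup C, K.Normal ∧ Subgroup.IsComplement' K (S : Subgroup C) ∧ ¬ p ∣ Nat.card K :=
    ⟨(MonoidHom.transferSylow S hP).ker, MonoidHom.normal_ker _, MonoidHom.ker_transferSylow_isComplement' S hP,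
      MonoidHom.not_dvd_card_ker_transferSylow S hP⟩
  refine ⟨K.map C.subtype, Subgroup.map_subtype_le K, ?_, ?_, ?_, ?_⟩
  · have : Nat.card (K.map C.subtype) = Nat.card K :=
      Nat.card_congr (K.equivMapOfInjective _ C.subtype_injective).toEquiv.symm
    rw [this]
    exact ((Nat.Prime.coprime_iff_not_dvd hp).mpr hKnd).symm
  · intro c hc
    rw [Subgroup.mem_normalizer_iff]
    intro h
    constructor
    · rintro ⟨k, hk, rfl⟩
      exact ⟨⟨c, hc⟩ * k * ⟨c, hc⟩⁻¹, hKn.conj_mem k hk ⟨c, hc⟩, by simp⟩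
    · rintro ⟨k, hk, hkeq⟩
      refine ⟨⟨c, hc⟩⁻¹ * k * ⟨c, hc⟩, ?_, ?_⟩
      · have := hKn.conj_mem k hk ⟨c, hc⟩⁻¹
        simpa using this
      · simp only [Subgroup.coe_subtype, Subgroup.coe_mul, InvMemClass.coe_inv] at hkeq ⊢
        rw [hkeq]
        group
  · rw [eq_bot_iff]
    rintro x ⟨⟨k, hk, rfl⟩, hxA⟩
    have hkS : k ∈ (S : Subgroup C) := by
      rw [hS, Subgroup.mem_subgroupOf]
      exact hxA
    have : k ∈ K ⊓ (S : Subgroup C) := ⟨hk, hkS⟩
    rw [hcompl.disjoint.eq_bot, Subgroup.mem_bot] at this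
    rw [this]
    simp
  · have h1 := hcompl.sup_eq_top
    have h2 := congrArg (Subgroup.map C.subtype) h1
    rw [Subgroup.map_sup, hS, Subgroup.subgroupOf_map_subtype, inf_eq_left.mpr hAC, ← MonoidHom.range_eq_map, Subgroup.range_subtype] at h2
    exact h2

end Cfsg.Agent.S0125
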