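import Cfsg.Statements.S4209
import Cfsg.Agent.Lib.Helper20.PolySeq
import Cfsg.Agent.S4206

set_option autoImplicit false
open Cfsg

namespace Cfsg.Agent.S4209


open Cfsg.Agent.Lib.Helper20.PolySeq

/-- the lower central filtration, with `F 0 = F 1 = ⊤` -/
def lcsF (K : Type*) [Group K] : ℕ → Subgroup K
  | 0 => ⊤
  | (i + 1) => (⊤ : Subgroup K).lowerCentralSeries i

theorem lcsF_filt (K : Type*) [Group K] : Filt (lcsF K) := by
  constructor
  · intro i
    cases i with
    | zero => exact le_top
    | succ i => exact Subgroup.lowerCentralSeries_antitone _ (Nat.le_succ i)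
  · intro i j
    cases i with
    | zero =>
      rw [Nat.zero_add]
      cases j with
      | zero => exact le_top
      | succ j =>
        have hn : ((⊤ : Subgroup K).lowerCentralSeries j).Normal := Subgroup.normal_of_characteristic _
        change ⁅(⊤ : Subgroup K), (⊤ : Subgroup K).lowerCentralSeries j⁆ ≤
          (⊤ : Subgroup K).lowerCentralSeries j
        exact Subgroup.commutator_le_right _ _
    | succ i =>
      cases j with
      | zero =>
        have hn : ((⊤ : Subgroup K).lowerCentralSeries i).Normal := Subgroup.normal_of_characteristic _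
        change ⁅(⊤ : Subgroup K).lowerCentralSeries i, (⊤ : Subgroup K)⁆ ≤
          (⊤ : Subgroup K).lowerCentralSeries i
        exact Subgroup.commutator_le_left _ _
      | succ j =>
        have h := Cfsg.Agent.S4206.main (fun i => (⊤ : Subgroup K).lowerCentralSeries i)
          (fun i => Subgroup.normal_of_characteristic _) ⊤ (fun i => le_rfl) j i
        have e : i + 1 + (j + 1) = (i + j + 1) + 1 := by omega
        rw [e]
        exact h

theorem choose_dvd {p : ℕ} (hp : p.Prime) (n i : ℕ) (h1 : 1 ≤ i) (h2 : i < p) :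
    p ^ n ∣ (p ^ n).choose i := by
  obtain ⟨i', rfl⟩ : ∃ i', i = i' + 1 := ⟨i - 1, by omega⟩
  have hpos : 0 < p ^ n := pow_pos hp.pos n
  obtain ⟨N, hN⟩ : ∃ N, p ^ n = N + 1 := ⟨p ^ n - 1, by omega⟩
  have key : (N + 1) * N.choose i' = (N + 1).choose (i' + 1) * (i' + 1) := Nat.add_one_mul_choose_eq N i'
  have hcop : Nat.Coprime (p ^ n) (i' + 1) := by
    apply Nat.Coprime.pow_left
    rw [Nat.Prime.coprime_iff_not_dvd hp]
    intro hd
    exact absurd (Nat.le_of_dvd (by omega) hd) (by omega)
  rw [hN] at hcop ⊢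
  have : (N + 1) ∣ (N + 1).choose (i' + 1) * (i' + 1) := ⟨_, key.symm⟩
  exact hcop.dvd_of_dvd_mul_right this


/-- A finite `p`-group of nilpotency class less than `p` (the term of index `p - 1` of the lower central series of the whole group, indexed from `0`, is trivial) is a regular `p`-group. -/
theorem result {G : Type*} [Group G] [Finite G] {p : ℕ} [Fact p.Prime] (hG : IsPGroup p G) (hcl : (⊤ : Subgroup G).lowerCentralSeries (p - 1) = ⊥) : Cfsg.IsRegularPGroup p G := by
  classical
  have hpp : p.Prime := Fact.out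
  refine ⟨hG, ?_⟩
  intro a b n
  set H : Subgroup G := Subgroup.closure ({a, b} : Set G) with hH
  have haH : a ∈ H := Subgroup.subset_closure (by simp)
  have hbH : b ∈ H := Subgroup.subset_closure (by simp)
  -- class of H
  have hclH : (⊤ : Subgroup ↥H).lowerCentralSeries (p - 1) = ⊥ := by
    have h1 : ((⊤ : Subgroup ↥H).lowerCentralSeries (p - 1)).map H.subtype =
        H.lowerCentralSeries (p - 1) := Subgroup.top_subtype_lowerCentralSeries H (p - 1)
    have hmono : ∀ k, H.lowerCentralSeries k ≤ (⊤ : Subgroup G).lowerCentralSeries k := by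
      intro k
      induction k with
      | zero => exact le_top
      | succ k ih =>
        rw [Subgroup.lowerCentralSeries_succ, Subgroup.lowerCentralSeries_succ]
        exact Subgroup.commutator_mono ih le_top
    have h2 : H.lowerCentralSeries (p - 1) = ⊥ := by
      rw [eq_bot_iff, ← hcl]; exact hmono _
    rw [h2] at h1
    exact (Subgroup.map_eq_bot_iff_of_injective _ H.subtype_injective).1 h1
  have hp1 : 1 ≤ p := hpp.one_lt.le
  have hcF : lcsF ↥H ((p - 1) + 1) = ⊥ := hclH
  obtain ⟨w, hw, hweq⟩ := hall_petrescu_pow (lcsF_filt ↥H) rfl rfl (p - 1) (p ^ n) hcF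
    (fun i hi1 hi2 => choose_dvd hpp n i (by omega) (by omega)) (⟨a, haH⟩ : ↥H) ⟨b, hbH⟩
  refine ⟨(w : G), ?_, ?_⟩
  · -- membership
    unfold Cfsg.powerClosure
    have hmap : (Subgroup.closure {y : ↥H | ∃ x ∈ lcsF ↥H 2, y = x ^ (p ^ n)}).map H.subtype ≤
        Subgroup.closure {y : G | ∃ x ∈ ⁅H, H⁆, y = x ^ (p ^ n)} := by
      rw [MonoidHom.map_closure, Subgroup.closure_le]
      rintro _ ⟨y, ⟨x, hx, rfl⟩, rfl⟩
      apply Subgroup.subset_closure
      refine ⟨(x : G), ?_, by simp⟩
      have hx' : x ∈ ⁅(⊤ : Subgroup ↥H), (⊤ : Subgroup ↥H)⁆ := hx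
      have h3 : (x : G) ∈ (⁅(⊤ : Subgroup ↥H), (⊤ : Subgroup ↥H)⁆).map H.subtype :=
        Subgroup.mem_map_of_mem _ hx'
      rw [Subgroup.map_commutator, ← MonoidHom.range_eq_map, Subgroup.range_subtype] at h3
      exact h3
    exact hmap (Subgroup.mem_map_of_mem _ hw)
  · have := congrArg (Subtype.val) hweq
    simpa using this

end Cfsg.Agent.S4209
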