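import Mathlib
import Cfsg.Statements.S3872
import Cfsg.Agent.S4209
import Cfsg.Agent.Lib.helper23.RegularP
import Cfsg.Agent.Lib.Helper1.NonCyclic
import Cfsg.Agent.Lib.Helper20.Breadth
import Cfsg.Agent.Lib.Helper21.RegularPow

set_option autoImplicit false
open Cfsg

namespace Cfsg.Agent.S3872

open scoped commutatorElement

/-- lower bound for the order of a `p`-group from a non-trivial term of the lower central series -/
theorem card_ge_of_lcs {G : Type*} [Group G] [Finite G] {p : ℕ} [Fact p.Prime] (hG : IsPGroup p G)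
    (k : ℕ) (hk : (⊤ : Subgroup G).lowerCentralSeries (k + 1) ≠ ⊥) : p ^ (k + 3) ≤ Nat.card G := by
  have hpp : p.Prime := Fact.out
  haveI hnil : Group.IsNilpotent G := hG.isNilpotent
  have hniltop : Group.IsNilpotent (⊤ : Subgroup G) := Group.isNilpotent_top.mpr hnil
  have hne : ∀ j ≤ k + 1, (⊤ : Subgroup G).lowerCentralSeries j ≠ ⊥ := by
    intro j hj h
    apply hk
    rw [eq_bot_iff, ← h]
    exact Subgroup.lowerCentralSeries_antitone _ hj
  have claim : ∀ j ≤ k, p ^ (j + 1) ≤ Nat.card ((⊤ : Subgroup G).lowerCentralSeries (k + 1 - j)) := by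
    intro j
    induction j with
    | zero =>
      intro _
      have hlt : (⊥ : Subgroup G) < (⊤ : Subgroup G).lowerCentralSeries (k + 1) := bot_lt_iff_ne_bot.mpr hk
      have := Cfsg.Agent.Lib.Helper20.card_mul_le_of_lt hG hlt
      simpa using this
    | succ j ih =>
      intro hj
      have ih' := ih (by omega)
      have hlt : (⊤ : Subgroup G).lowerCentralSeries (k + 1 - j) <
          (⊤ : Subgroup G).lowerCentralSeries (k + 1 - (j + 1)) := by
        have e : k + 1 - j = (k + 1 - (j + 1)) + 1 := by omega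
        rw [e, Subgroup.lowerCentralSeries_succ]
        exact Cfsg.Agent.Lib.Lead.commutator_lt_of_nilpotent _ ⊤ le_top
          (by rw [Subgroup.normalizer_eq_top]) hniltop (hne _ (by omega))
      have := Cfsg.Agent.Lib.Helper20.card_mul_le_of_lt hG hlt
      calc p ^ (j + 1 + 1) = p ^ (j + 1) * p := pow_succ _ _
        _ ≤ Nat.card ((⊤ : Subgroup G).lowerCentralSeries (k + 1 - j)) * p :=
          Nat.mul_le_mul_right _ ih'
        _ ≤ _ := this
  have h1 : p ^ (k + 1) ≤ Nat.card ((⊤ : Subgroup G).lowerCentralSeries 1) := by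
    have := claim k le_rfl
    simpa using this
  have hL1 : (⊤ : Subgroup G).lowerCentralSeries 1 = ⁅(⊤ : Subgroup G), ⊤⁆ := rfl
  -- G is not commutative
  have hnoncomm : ∃ x y : G, x * y ≠ y * x := by
    by_contra h
    push_neg at h
    apply hne 1 (by omega)
    rw [hL1, Subgroup.commutator_eq_bot_iff_le_centralizer]
    intro a _
    rw [Subgroup.mem_centralizer_iff]
    intro b _
    exact h b a
  obtain ⟨x, y, hxy⟩ := hnoncomm
  have hlt1 : ⁅(⊤ : Subgroup G), ⊤⁆ < ⊤ :=
    Cfsg.Agent.Lib.Lead.commutator_lt_of_nilpotent ⊤ ⊤ le_top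
      (by rw [Subgroup.normalizer_eq_top]) hniltop (fun h => hxy (by
        have hx : x ∈ (⊥ : Subgroup G) := h ▸ Subgroup.mem_top x
        rw [Subgroup.mem_bot] at hx
        rw [hx, one_mul, mul_one]))
  obtain ⟨u, -, hu⟩ := SetLike.exists_of_lt hlt1
  obtain ⟨M, -, huM, hDM, hMlt⟩ := Cfsg.Agent.Lib.Helper21.RegularPow.exists_lt_of_noncomm hG ⊤
    (Subgroup.mem_top x) (Subgroup.mem_top y) hxy (Subgroup.mem_top u)
  have hlt2 : ⁅(⊤ : Subgroup G), ⊤⁆ < M := lt_of_le_of_ne hDM (fun h => hu (h ▸ huM))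
  have hlt3 : M < ⊤ := by
    rw [lt_top_iff_ne_top]
    intro h
    rw [h] at hMlt
    exact lt_irrefl _ hMlt
  have h2 := Cfsg.Agent.Lib.Helper20.card_mul_le_of_lt hG hlt2
  have h3 := Cfsg.Agent.Lib.Helper20.card_mul_le_of_lt hG hlt3
  rw [Subgroup.card_top] at h3
  rw [hL1] at h1
  calc p ^ (k + 3) = p ^ (k + 1) * p * p := by ring
    _ ≤ Nat.card (⁅(⊤ : Subgroup G), ⊤⁆ : Subgroup G) * p * p :=
      Nat.mul_le_mul_right _ (Nat.mul_le_mul_right _ h1)
    _ ≤ Nat.card M * p := Nat.mul_le_mul_right _ h2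
    _ ≤ Nat.card G := h3

theorem zpowers_central_normal {G : Type*} [Group G] (z : G) (hz : z ∈ Subgroup.center G) :
    (Subgroup.zpowers z).Normal := by
  refine ⟨fun n hn g => ?_⟩
  have hn' : n ∈ Subgroup.center G := by
    obtain ⟨k, rfl⟩ := Subgroup.mem_zpowers_iff.mp hn
    exact zpow_mem hz k
  have : g * n * g⁻¹ = n := by
    rw [Subgroup.mem_center_iff] at hn'
    rw [hn' g, mul_inv_cancel_right]
  rw [this]; exact hn

open scoped IsMulCommutative in
theorem result {G : Type*} [Group G] [Finite G] {p : ℕ} [Fact p.Prime] (hG : IsPGroup p G)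
    (hnc : ¬ (∃ H : Subgroup G, (H : Set G) = {g : G | g ^ p = 1})) (hsub : ∀ K : Subgroup G, K ≠ ⊤ → (∃ H : Subgroup ↥K, (H : Set ↥K) = {g : ↥K | g ^ p = 1}))
    (hquo : ∀ (N : Subgroup G) [N.Normal], N ≠ ⊥ → (∃ H : Subgroup (G ⧸ N), (H : Set (G ⧸ N)) = {g : (G ⧸ N) | g ^ p = 1})) :
    (∃ x y : G, Subgroup.closure ({x, y} : Set G) = ⊤) ∧ (⊤ : Subgroup G).lowerCentralSeries (p - 1) ≠ ⊥ ∧
      Monoid.exponent G = p ^ 2 ∧ IsCyclic ↥(Subgroup.center G) ∧ p ^ (p + 1) ≤ Nat.card G := by
  have hpp : p.Prime := Fact.out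
  -- Step A
  have hA : ∃ x y : G, x ^ p = 1 ∧ y ^ p = 1 ∧ (x * y) ^ p ≠ 1 := by
    by_contra hcon
    push_neg at hcon
    apply hnc
    exact ⟨{ carrier := {g | g ^ p = 1}
             mul_mem' := fun {a b} ha hb => hcon a b ha hb
             one_mem' := one_pow _
             inv_mem' := fun {a} ha => by
               show a⁻¹ ^ p = 1
               rw [inv_pow, show a ^ p = 1 from ha, inv_one] }, rfl⟩
  obtain ⟨x, y, hx, hy, hxy⟩ := hA
  -- consequence: not all p-th powers are trivial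
  have hnotall : ¬ ∀ g : G, g ^ p = 1 := fun h => hxy (h _)
  -- Step B
  have hB : Subgroup.closure ({x, y} : Set G) = ⊤ := by
    by_contra hne
    obtain ⟨H, hH⟩ := hsub _ hne
    have hxK : x ∈ Subgroup.closure ({x, y} : Set G) := Subgroup.subset_closure (by simp)
    have hyK : y ∈ Subgroup.closure ({x, y} : Set G) := Subgroup.subset_closure (by simp)
    have hx' : (⟨x, hxK⟩ : ↥(Subgroup.closure ({x, y} : Set G))) ∈ H := by
      have : (⟨x, hxK⟩ : ↥(Subgroup.closure ({x, y} : Set G))) ∈ (H : Set _) := by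
        rw [hH]
        show (⟨x, hxK⟩ : ↥(Subgroup.closure ({x, y} : Set G))) ^ p = 1
        ext; simpa using hx
      exact this
    have hy' : (⟨y, hyK⟩ : ↥(Subgroup.closure ({x, y} : Set G))) ∈ H := by
      have : (⟨y, hyK⟩ : ↥(Subgroup.closure ({x, y} : Set G))) ∈ (H : Set _) := by
        rw [hH]
        show (⟨y, hyK⟩ : ↥(Subgroup.closure ({x, y} : Set G))) ^ p = 1
        ext; simpa using hy
      exact this
    have hm : (⟨x, hxK⟩ * ⟨y, hyK⟩ : ↥(Subgroup.closure ({x, y} : Set G))) ∈ (H : Set _) :=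
      H.mul_mem hx' hy'
    rw [hH] at hm
    have hm' : (⟨x, hxK⟩ * ⟨y, hyK⟩ : ↥(Subgroup.closure ({x, y} : Set G))) ^ p = 1 := hm
    apply hxy
    have := congrArg Subtype.val hm'
    simpa using this
  -- Step C
  have hC : ∀ (N : Subgroup G) [N.Normal], N ≠ ⊥ → ∀ g : G, g ^ p ∈ N := by
    intro N _ hN g
    obtain ⟨H, hH⟩ := hquo N hN
    have hx' : (QuotientGroup.mk x : G ⧸ N) ∈ H := by
      have : (QuotientGroup.mk x : G ⧸ N) ∈ (H : Set (G ⧸ N)) := by
        rw [hH]
        show (QuotientGroup.mk x : G ⧸ N) ^ p = 1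
        rw [← QuotientGroup.mk_pow, hx]; rfl
      exact this
    have hy' : (QuotientGroup.mk y : G ⧸ N) ∈ H := by
      have : (QuotientGroup.mk y : G ⧸ N) ∈ (H : Set (G ⧸ N)) := by
        rw [hH]
        show (QuotientGroup.mk y : G ⧸ N) ^ p = 1
        rw [← QuotientGroup.mk_pow, hy]; rfl
      exact this
    have hle : (⊤ : Subgroup G).map (QuotientGroup.mk' N) ≤ H := by
      rw [← hB, MonoidHom.map_closure, Subgroup.closure_le]
      rintro _ ⟨z, hz, rfl⟩
      rcases hz with rfl | hz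
      · exact hx'
      · rw [Set.mem_singleton_iff] at hz; subst hz; exact hy'
    have hg : (QuotientGroup.mk g : G ⧸ N) ∈ (H : Set (G ⧸ N)) := hle ⟨g, Subgroup.mem_top _, rfl⟩
    rw [hH] at hg
    have h2 : (QuotientGroup.mk g : G ⧸ N) ^ p = 1 := hg
    rw [← QuotientGroup.mk_pow, QuotientGroup.eq_one_iff] at h2
    exact h2
  -- Step D
  have hD : (⊤ : Subgroup G).lowerCentralSeries (p - 1) ≠ ⊥ := by
    intro hcl
    have hreg := Cfsg.Agent.S4209.result hG hcl
    have := Cfsg.Agent.Lib.helper23.regular_mul_pow_eq_one hreg (k := 1) (x := x) (y := y)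
      (by simpa using hx) (by simpa using hy)
    exact hxy (by simpa using this)
  -- an element of order p in the centre
  haveI : Nontrivial G := by
    refine ⟨⟨x * y, 1, fun h => hxy (by rw [h, one_pow])⟩⟩
  haveI hcn : Nontrivial (Subgroup.center G) := hG.center_nontrivial
  have hcp : IsPGroup p (Subgroup.center G) := hG.to_subgroup _
  obtain ⟨a, ha⟩ := IsPGroup.iff_card.mp hcp
  have ha0 : a ≠ 0 := by
    intro h
    rw [h, pow_zero] at ha
    have := Finite.one_lt_card (α := Subgroup.center G)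
    omega
  have hpdvd : p ∣ Nat.card (Subgroup.center G) := by rw [ha]; exact dvd_pow_self p ha0
  obtain ⟨z, hz⟩ := exists_prime_orderOf_dvd_card' p hpdvd
  have hzG : orderOf (z : G) = p := by rw [Subgroup.orderOf_coe]; exact hz
  have hzp : (z : G) ^ p = 1 := by rw [← hzG]; exact pow_orderOf_eq_one _
  have hz1 : (z : G) ≠ 1 := by
    intro h
    rw [h, orderOf_one] at hzG
    exact hpp.one_lt.ne hzG
  -- Step E
  have hE : Monoid.exponent G = p ^ 2 := by
    haveI := zpowers_central_normal (z : G) z.2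
    have hNne : Subgroup.zpowers (z : G) ≠ ⊥ := by
      intro h
      have : (z : G) ∈ (⊥ : Subgroup G) := h ▸ Subgroup.mem_zpowers _
      exact hz1 (Subgroup.mem_bot.mp this)
    have hall : ∀ g : G, g ^ (p ^ 2) = 1 := by
      intro g
      have := hC (Subgroup.zpowers (z : G)) hNne g
      obtain ⟨k, hk⟩ := Subgroup.mem_zpowers_iff.mp this
      rw [pow_two, pow_mul, ← hk, ← zpow_natCast, ← zpow_mul, mul_comm, zpow_mul, zpow_natCast, hzp,
        one_zpow]
    have hdvd : Monoid.exponent G ∣ p ^ 2 := Monoid.exponent_dvd_of_forall_pow_eq_one hall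
    obtain ⟨j, hj, hje⟩ := (Nat.dvd_prime_pow hpp).mp hdvd
    have hj2 : j = 2 := by
      by_contra hne
      have hj1 : j ≤ 1 := by omega
      apply hnotall
      intro g
      have h1 : Monoid.exponent G ∣ p := by
        rw [hje]
        calc p ^ j ∣ p ^ 1 := pow_dvd_pow p hj1
          _ = p := pow_one p
      obtain ⟨m, hm⟩ := h1
      rw [hm, pow_mul, Monoid.pow_exponent_eq_one, one_pow]
    rw [hje, hj2]
  -- Step F
  have hF : IsCyclic ↥(Subgroup.center G) := by
    by_contra hncyc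
    obtain ⟨r, hr, u, v, hu1, hur, hvr, hv⟩ :=
      Cfsg.Agent.Lib.Helper1.exists_noncyclic_pair (A := Subgroup.center G) hncyc
    haveI : Fact r.Prime := ⟨hr⟩
    have hrp : r = p := by
      have hou : orderOf u = r := orderOf_eq_prime hur hu1
      obtain ⟨k, hk⟩ := (IsPGroup.iff_orderOf.mp hcp) u
      rw [hou] at hk
      have : r ∣ p ^ k := by rw [← hk]
      exact (Nat.prime_dvd_prime_iff_eq hr hpp).mp (hr.dvd_of_dvd_pow this)
    subst hrp
    have huG : (u : G) ^ r = 1 := by
      have := congrArg Subtype.val hur; simpa using this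
    have hvG : (v : G) ^ r = 1 := by
      have := congrArg Subtype.val hvr; simpa using this
    have hu1G : (u : G) ≠ 1 := fun h => hu1 (Subtype.ext h)
    have hvG' : (v : G) ∉ Subgroup.zpowers (u : G) := by
      intro h
      apply hv
      obtain ⟨k, hk⟩ := Subgroup.mem_zpowers_iff.mp h
      rw [Subgroup.mem_zpowers_iff]
      exact ⟨k, Subtype.ext (by simpa using hk)⟩
    have hv1G : (v : G) ≠ 1 := fun h => hvG' (h ▸ one_mem _)
    haveI hn1 := zpowers_central_normal (u : G) u.2
    haveI hn2 := zpowers_central_normal (v : G) v.2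
    have hN1 : Subgroup.zpowers (u : G) ≠ ⊥ := by
      intro h
      have : (u : G) ∈ (⊥ : Subgroup G) := h ▸ Subgroup.mem_zpowers _
      exact hu1G (Subgroup.mem_bot.mp this)
    have hN2 : Subgroup.zpowers (v : G) ≠ ⊥ := by
      intro h
      have : (v : G) ∈ (⊥ : Subgroup G) := h ▸ Subgroup.mem_zpowers _
      exact hv1G (Subgroup.mem_bot.mp this)
    have hcardv : Nat.card (Subgroup.zpowers (v : G)) = r := by
      rw [Nat.card_zpowers]; exact orderOf_eq_prime hvG hv1G
    have hinf : Subgroup.zpowers (u : G) ⊓ Subgroup.zpowers (v : G) = ⊥ := by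
      have hd : Nat.card ↥(Subgroup.zpowers (u : G) ⊓ Subgroup.zpowers (v : G)) ∣ r := by
        rw [← hcardv]; exact Subgroup.card_dvd_of_le inf_le_right
      rcases (Nat.dvd_prime hr).mp hd with h1 | h1
      · exact Subgroup.card_eq_one.mp h1
      · exfalso
        have heq : Subgroup.zpowers (u : G) ⊓ Subgroup.zpowers (v : G) = Subgroup.zpowers (v : G) :=
          Subgroup.eq_of_le_of_card_ge inf_le_right (by rw [h1, hcardv])
        have : Subgroup.zpowers (v : G) ≤ Subgroup.zpowers (u : G) := heq ▸ inf_le_left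
        exact hvG' (this (Subgroup.mem_zpowers _))
    apply hnotall
    intro g
    have h1 := hC (Subgroup.zpowers (u : G)) hN1 g
    have h2 := hC (Subgroup.zpowers (v : G)) hN2 g
    have : g ^ r ∈ Subgroup.zpowers (u : G) ⊓ Subgroup.zpowers (v : G) := Subgroup.mem_inf.mpr ⟨h1, h2⟩
    rw [hinf] at this
    exact Subgroup.mem_bot.mp this
  -- Step G
  have hGc : p ^ (p + 1) ≤ Nat.card G := by
    have h2 : 2 ≤ p := hpp.two_le
    have hk : (⊤ : Subgroup G).lowerCentralSeries ((p - 2) + 1) ≠ ⊥ := by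
      have : p - 2 + 1 = p - 1 := by omega
      rw [this]; exact hD
    have := card_ge_of_lcs hG (p - 2) hk
    have e : p - 2 + 3 = p + 1 := by omega
    rwa [e] at this
  exact ⟨⟨x, y, hB⟩, hD, hE, hF, hGc⟩

end Cfsg.Agent.S3872
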