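import Mathlib
import Cfsg.Statements.S0128
import Cfsg.Agent.S4209
import Cfsg.Agent.S3872
import Cfsg.Agent.Lib.helper23.RegularP
import Cfsg.Agent.Lib.Helper24.NormalRank
import Cfsg.Agent.Lib.Helper21.OmegaCent2

set_option autoImplicit false
open Cfsg

namespace Cfsg.Agent.S0128

universe u

open Cfsg.Agent.Lib.Helper21.OmegaCent

/-- card of `H` as `card (H ⊓ K) * relIndex` -/
theorem card_eq_inf_mul {G : Type*} [Group G] [Finite G] (C W : Subgroup G) :
    Nat.card W = Nat.card ↥(C ⊓ W) * C.relIndex W := by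
  have h1 : Nat.card ↥(C ⊓ W) * (C ⊓ W).relIndex W = Nat.card W := by
    rw [← Subgroup.relIndex_bot_left, ← Subgroup.relIndex_bot_left (H := W)]
    exact Subgroup.relIndex_mul_relIndex ⊥ (C ⊓ W) W bot_le inf_le_right
  rw [Subgroup.inf_relIndex_right] at h1
  exact h1.symm

/-- card of a join with a normal subgroup -/
theorem card_sup_normal {G : Type*} [Group G] [Finite G] (H K : Subgroup G) [K.Normal] :
    Nat.card ↥(H ⊔ K) * Nat.card ↥(K ⊓ H) = Nat.card H * Nat.card K := by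
  have h1 : Nat.card K * K.relIndex (H ⊔ K) = Nat.card ↥(H ⊔ K) := by
    rw [← Subgroup.relIndex_bot_left, ← Subgroup.relIndex_bot_left (H := H ⊔ K)]
    exact Subgroup.relIndex_mul_relIndex ⊥ K (H ⊔ K) bot_le le_sup_right
  rw [Subgroup.relIndex_sup_right] at h1
  have h2 := card_eq_inf_mul K H
  rw [← h1, h2]
  ring

theorem key (p : ℕ) [Fact p.Prime] (hp : 3 < p) : ∀ (n : ℕ) (R : Type u) [Group R] [Finite R],
    Nat.card R = n → IsPGroup p R →
    (∀ E : Subgroup R, Cfsg.IsElementaryAbelian p E → Nat.card E ≤ p ^ 2) →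
    ∀ x y : R, x ^ p = 1 → y ^ p = 1 → (x * y) ^ p = 1 := by
  have hpp : p.Prime := Fact.out
  have hp2 : p ≠ 2 := by omega
  intro n
  induction n using Nat.strong_induction_on with
  | _ n ih =>
  intro R _ _ hn hR hrk x y hx hy
  haveI hnil : Group.IsNilpotent R := hR.isNilpotent
  -- the induction hypothesis for a proper subgroup
  have ihsub : ∀ M : Subgroup R, Nat.card M < Nat.card R →
      ∀ a ∈ M, ∀ b ∈ M, a ^ p = 1 → b ^ p = 1 → (a * b) ^ p = 1 := by
    intro M hM a ha b hb hap hbp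
    have hrkM : ∀ E : Subgroup ↥M, Cfsg.IsElementaryAbelian p E → Nat.card E ≤ p ^ 2 := by
      intro E hE
      have hcard : Nat.card (E.map M.subtype) = Nat.card E :=
        Subgroup.card_map_of_injective M.subtype_injective
      rw [← hcard]
      apply hrk
      refine ⟨⟨⟨?_⟩⟩, ?_⟩
      · rintro ⟨_, ⟨a, ha, rfl⟩⟩ ⟨_, ⟨b, hb, rfl⟩⟩
        apply Subtype.ext
        have := hE.1.is_comm.comm ⟨a, ha⟩ ⟨b, hb⟩
        have h2 := congrArg (fun z : ↥E => ((z : ↥M) : R)) this
        simpa using h2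
      · rintro _ ⟨a, ha, rfl⟩
        have := hE.2 a ha
        have h2 := congrArg (fun z : ↥M => (z : R)) this
        simpa using h2
    have := ih (Nat.card M) (hn ▸ hM) ↥M rfl (hR.to_subgroup M) hrkM ⟨a, ha⟩ ⟨b, hb⟩
      (Subtype.ext (by simpa using hap)) (Subtype.ext (by simpa using hbp))
    have h2 := congrArg (fun z : ↥M => (z : R)) this
    simpa using h2
  by_cases hK : Subgroup.closure ({x, y} : Set R) = ⊤
  swap
  · -- proper subgroup
    have hlt : Nat.card ↥(Subgroup.closure ({x, y} : Set R)) < Nat.card R := by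
      by_contra hcon
      push_neg at hcon
      exact hK (Subgroup.eq_top_of_card_eq _ (le_antisymm (Subgroup.card_le_card_group _) hcon))
    exact ihsub _ hlt x (Subgroup.subset_closure (by simp)) y (Subgroup.subset_closure (by simp)) hx hy
  by_cases hsmall : Nat.card R ≤ p ^ 4
  · -- small: regular
    have hcl : (⊤ : Subgroup R).lowerCentralSeries (p - 1) = ⊥ := by
      by_contra h
      have hk : (⊤ : Subgroup R).lowerCentralSeries ((p - 2) + 1) ≠ ⊥ := by
        have : p - 2 + 1 = p - 1 := by omega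
        rw [this]; exact h
      have h1 := Cfsg.Agent.S3872.card_ge_of_lcs hR (p - 2) hk
      have h2 : p ^ (p - 2 + 3) ≤ p ^ 4 := h1.trans hsmall
      have h3 := (Nat.pow_le_pow_iff_right hpp.one_lt).mp h2
      omega
    have hreg := Cfsg.Agent.S4209.result hR hcl
    have := Cfsg.Agent.Lib.helper23.regular_mul_pow_eq_one hreg (k := 1) (x := x) (y := y)
      (by simpa using hx) (by simpa using hy)
    simpa using this
  push_neg at hsmall
  by_cases hcomm : x * y = y * x
  · rw [Commute.mul_pow hcomm, hx, hy, one_mul]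
  exfalso
  have hnc : ¬ IsCyclic R := by
    intro h
    obtain ⟨g, hg⟩ := h.exists_generator
    obtain ⟨a, rfl⟩ := Subgroup.mem_zpowers_iff.mp (hg x)
    obtain ⟨b, rfl⟩ := Subgroup.mem_zpowers_iff.mp (hg y)
    apply hcomm
    rw [← zpow_add, ← zpow_add, add_comm]
  obtain ⟨B, hBn, hBea, hB2⟩ := Cfsg.Agent.Lib.Helper24.nr_main hp2 hR hnc
  haveI := hBn
  obtain ⟨hBcomm, hBe⟩ := hBea
  have hBc : ∀ a ∈ B, ∀ b ∈ B, a * b = b * a := by
    intro a ha b hb
    exact congrArg Subtype.val (hBcomm.is_comm.comm ⟨a, ha⟩ ⟨b, hb⟩)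
  -- elements of order p centralizing B lie in B
  have hOm : ∀ g : R, g ^ p = 1 → g ∈ Subgroup.centralizer (B : Set R) → g ∈ B := by
    intro g hgp hgc
    by_contra hgB
    rw [Subgroup.mem_centralizer_iff] at hgc
    obtain ⟨h1, h2, h3⟩ := sup_zpowers_facts B g hgp hgB (fun b hb => (hgc b hb).symm) hBc hBe
    have := hrk (B ⊔ Subgroup.zpowers g) ⟨⟨⟨fun a b => Subtype.ext (h2 a a.2 b b.2)⟩⟩, h3⟩
    rw [h1, hB2] at this
    have : p ^ 2 * p ≤ p ^ 2 * 1 := by simpa using this
    have := Nat.le_of_mul_le_mul_left this (by positivity)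
    have := hpp.one_lt
    omega
  -- the claim
  have claim : ∀ t : R, t ^ p = 1 → ∃ W : Subgroup R, W.Normal ∧ B ≤ W ∧ t ∈ W ∧ Nat.card W ≤ p ^ 3 := by
    intro t ht
    have hS : Nat.card ↥(Subgroup.zpowers t ⊔ B) ≤ p ^ 3 := by
      have h1 := card_sup_normal (Subgroup.zpowers t) B
      have hz : Nat.card (Subgroup.zpowers t) ≤ p := by
        rw [Nat.card_zpowers]
        exact Nat.le_of_dvd hpp.pos (orderOf_dvd_of_pow_eq_one ht)
      have hpos : 0 < Nat.card ↥(B ⊓ Subgroup.zpowers t) := Nat.card_pos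
      calc Nat.card ↥(Subgroup.zpowers t ⊔ B) ≤ Nat.card ↥(Subgroup.zpowers t ⊔ B) * Nat.card ↥(B ⊓ Subgroup.zpowers t) :=
            Nat.le_mul_of_pos_right _ hpos
        _ = Nat.card (Subgroup.zpowers t) * Nat.card B := h1
        _ ≤ p * p ^ 2 := Nat.mul_le_mul hz (le_of_eq hB2)
        _ = p ^ 3 := by ring
    have hSne : Subgroup.zpowers t ⊔ B ≠ ⊤ := by
      intro h
      rw [h, Subgroup.card_top] at hS
      have : p ^ 3 < p ^ 4 := Nat.pow_lt_pow_right hpp.one_lt (by norm_num)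
      omega
    obtain ⟨M, hMco, hSM⟩ := (eq_top_or_exists_le_coatom _).resolve_left hSne
    have hMn : M.Normal :=
      Subgroup.NormalizerCondition.normal_of_coatom M Group.normalizerCondition_of_isNilpotent hMco
    have hMlt : Nat.card M < Nat.card R := by
      by_contra hcon
      push_neg at hcon
      exact hMco.1 (Subgroup.eq_top_of_card_eq _ (le_antisymm (Subgroup.card_le_card_group _) hcon))
    have hM := ihsub M hMlt
    let W : Subgroup R :=
      { carrier := {g | g ∈ M ∧ g ^ p = 1}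
        mul_mem' := fun {a b} ha hb => ⟨mul_mem ha.1 hb.1, hM a ha.1 b hb.1 ha.2 hb.2⟩
        one_mem' := ⟨one_mem _, one_pow _⟩
        inv_mem' := fun {a} ha => ⟨inv_mem ha.1, by rw [inv_pow, ha.2, inv_one]⟩ }
    have hWn : W.Normal := by
      refine ⟨fun g hg h => ⟨hMn.conj_mem g hg.1 h, ?_⟩⟩
      rw [conj_pow, hg.2, mul_one, mul_inv_cancel]
    have hBW : B ≤ W := fun b hb => ⟨hSM (Subgroup.mem_sup_right hb), hBe b hb⟩
    have htW : t ∈ W := ⟨hSM (Subgroup.mem_sup_left (Subgroup.mem_zpowers t)), ht⟩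
    refine ⟨W, hWn, hBW, htW, ?_⟩
    have h1 := card_eq_inf_mul (Subgroup.centralizer (B : Set R)) W
    have h2 : (Subgroup.centralizer (B : Set R)).relIndex W ≤ p := normal_sq_relIndex_le hR B hBe hB2 W
    have h3 : Nat.card ↥(Subgroup.centralizer (B : Set R) ⊓ W) ≤ p ^ 2 := by
      rw [← hB2]
      apply Subgroup.card_le_of_le
      intro g hg
      obtain ⟨hg1, hg2⟩ := Subgroup.mem_inf.mp hg
      exact hOm g hg2.2 hg1
    calc Nat.card W = _ := h1
      _ ≤ p ^ 2 * p := Nat.mul_le_mul h3 h2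
      _ = p ^ 3 := by ring
  obtain ⟨Wx, hWxn, hBWx, hxWx, hWx3⟩ := claim x hx
  obtain ⟨Wy, hWyn, hBWy, hyWy, hWy3⟩ := claim y hy
  haveI := hWyn
  have htop : Wx ⊔ Wy = ⊤ := by
    rw [eq_top_iff, ← hK, Subgroup.closure_le]
    intro z hz
    rcases hz with rfl | hz
    · exact Subgroup.mem_sup_left hxWx
    · rw [Set.mem_singleton_iff] at hz; subst hz; exact Subgroup.mem_sup_right hyWy
  have h1 := card_sup_normal Wx Wy
  rw [htop, Subgroup.card_top] at h1
  have h2 : p ^ 2 ≤ Nat.card ↥(Wy ⊓ Wx) := by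
    rw [← hB2]
    exact Subgroup.card_le_of_le (le_inf hBWy hBWx)
  have h3 : Nat.card R * p ^ 2 ≤ p ^ 3 * p ^ 3 := by
    calc Nat.card R * p ^ 2 ≤ Nat.card R * Nat.card ↥(Wy ⊓ Wx) := Nat.mul_le_mul_left _ h2
      _ = Nat.card Wx * Nat.card Wy := h1
      _ ≤ p ^ 3 * p ^ 3 := Nat.mul_le_mul hWx3 hWy3
  have h4 : p ^ 3 * p ^ 3 = p ^ 4 * p ^ 2 := by ring
  rw [h4] at h3
  have := Nat.le_of_mul_le_mul_right h3 (by positivity)
  omega

theorem result {R : Type*} [Group R] [Finite R] {p : ℕ} [Fact p.Prime] (hp : 3 < p) (hR : IsPGroup p R) (hrk : ∀ E : Subgroup R, Cfsg.IsElementaryAbelian p E → Nat.card E ≤ p ^ 2) (g : R) (hg : g ∈ Subgroup.closure {x : R | x ^ p = 1}) : g ^ p = 1 := by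
  have hkey := key p hp (Nat.card R) R rfl hR hrk
  let W : Subgroup R :=
    { carrier := {g | g ^ p = 1}
      mul_mem' := fun {a b} ha hb => hkey a b ha hb
      one_mem' := one_pow _
      inv_mem' := fun {a} ha => by
        show a⁻¹ ^ p = 1
        rw [inv_pow, show a ^ p = 1 from ha, inv_one] }
  have hle : Subgroup.closure {x : R | x ^ p = 1} ≤ W := by
    rw [Subgroup.closure_le]
    intro z hz
    exact hz
  exact hle hg

end Cfsg.Agent.S0128
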