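import Cfsg.Statements.S0131
import Mathlib

set_option autoImplicit false
open Cfsg

namespace Cfsg.Agent.S0131

open scoped commutatorElement

theorem comm_self_le {G : Type*} [Group G] (P : Subgroup G) : ⁅P, P⁆ ≤ P := by
  rw [Subgroup.commutator_le]
  intro a ha b hb
  exact P.mul_mem (P.mul_mem (P.mul_mem ha hb) (P.inv_mem ha)) (P.inv_mem hb)



/-- P/P' has a normal complement in G exactly when the focal subgroup G' ∩ P is as small as possible, namely P'. -/
theorem result {G : Type*} [Group G] [Finite G] {p : ℕ} [Fact p.Prime] (P : Sylow p G) : (∃ N : Subgroup G, N.Normal ∧ N ⊓ (P : Subgroup G) = ⁅(P : Subgroup G), (P : Subgroup G)⁆ ∧ N ⊔ (P : Subgroup G) = ⊤) ↔ commutator G ⊓ (P : Subgroup G) = ⁅(P : Subgroup G), (P : Subgroup G)⁆ := by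
  have hp : p.Prime := Fact.out
  have hPle : ⁅(P : Subgroup G), (P : Subgroup G)⁆ ≤ commutator G ⊓ (P : Subgroup G) := by
    refine le_inf ?_ (comm_self_le _)
    rw [commutator_def]
    exact Subgroup.commutator_mono le_top le_top
  constructor
  · rintro ⟨N, hN, hNP, hsup⟩
    have hGN : commutator G ≤ N := by
      rw [commutator_def, Subgroup.commutator_le]
      intro g₁ _ g₂ _
      have h1 : g₁ ∈ N ⊔ (P : Subgroup G) := hsup ▸ Subgroup.mem_top g₁
      have h2 : g₂ ∈ N ⊔ (P : Subgroup G) := hsup ▸ Subgroup.mem_top g₂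
      rw [Subgroup.mem_sup_of_normal_left] at h1 h2
      obtain ⟨n₁, hn₁, x₁, hx₁, rfl⟩ := h1
      obtain ⟨n₂, hn₂, x₂, hx₂, rfl⟩ := h2
      rw [← QuotientGroup.eq_one_iff]
      have hc := map_commutatorElement (QuotientGroup.mk' N) (n₁ * x₁) (n₂ * x₂)
      rw [QuotientGroup.mk'_apply, QuotientGroup.mk'_apply, QuotientGroup.mk'_apply] at hc
      rw [hc]
      have e1 : ((n₁ * x₁ : G) : G ⧸ N) = (x₁ : G ⧸ N) := by
        rw [QuotientGroup.mk_mul, (QuotientGroup.eq_one_iff n₁).mpr hn₁, one_mul]
      have e2 : ((n₂ * x₂ : G) : G ⧸ N) = (x₂ : G ⧸ N) := by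
        rw [QuotientGroup.mk_mul, (QuotientGroup.eq_one_iff n₂).mpr hn₂, one_mul]
      rw [e1, e2]
      have hc2 := map_commutatorElement (QuotientGroup.mk' N) x₁ x₂
      rw [QuotientGroup.mk'_apply, QuotientGroup.mk'_apply, QuotientGroup.mk'_apply] at hc2
      rw [← hc2, QuotientGroup.eq_one_iff]
      have : ⁅x₁, x₂⁆ ∈ N ⊓ (P : Subgroup G) := hNP ▸ Subgroup.commutator_mem_commutator hx₁ hx₂
      exact this.1
    apply le_antisymm _ hPle
    rw [← hNP]
    exact inf_le_inf_right _ hGN
  · intro h
    set m := (P : Subgroup G).index with hm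
    let f : G →* Abelianization G := (powMonoidHom m).comp Abelianization.of
    have hcop : Nat.Coprime (Nat.card (P : Subgroup G)) m := P.card_coprime_index
    refine ⟨f.ker, inferInstance, ?_, ?_⟩
    · apply le_antisymm _ (hPle.trans (inf_le_inf_right _ ?_))
      · rw [← h]
        intro g ⟨hg1, hg2⟩
        refine ⟨?_, hg2⟩
        show g ∈ commutator G
        rw [← Abelianization.ker_of, MonoidHom.mem_ker]
        have h1 : (Abelianization.of g) ^ m = 1 := hg1
        have h2 : (Abelianization.of g) ^ Nat.card (P : Subgroup G) = 1 := by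
          rw [← map_pow]
          have : g ^ Nat.card (P : Subgroup G) = 1 := by
            have := pow_card_eq_one' (G := (P : Subgroup G)) (x := ⟨g, hg2⟩)
            exact congrArg Subtype.val this
          rw [this, map_one]
        have h3 := orderOf_dvd_of_pow_eq_one h1
        have h4 := orderOf_dvd_of_pow_eq_one h2
        have := Nat.dvd_gcd h4 h3
        rw [hcop.gcd_eq_one, Nat.dvd_one] at this
        exact orderOf_eq_one_iff.mp this
      · intro g hg
        rw [← Abelianization.ker_of, MonoidHom.mem_ker] at hg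
        show f g = 1
        show (Abelianization.of g) ^ m = 1
        rw [hg, one_pow]
    · have hpg : IsPGroup p f.range := by
        rintro ⟨_, g, rfl⟩
        obtain ⟨k, hk⟩ := (IsPGroup.iff_card.mp P.isPGroup')
        refine ⟨k, ?_⟩
        apply Subtype.ext
        show (f g) ^ (p ^ k) = 1
        show ((Abelianization.of g) ^ m) ^ (p ^ k) = 1
        rw [← pow_mul, ← hk, hm, mul_comm, Subgroup.card_mul_index, ← map_pow, pow_card_eq_one', map_one]
      obtain ⟨k, hk⟩ := IsPGroup.iff_card.mp hpg
      have hidx : f.ker.index = p ^ k := by rw [Subgroup.index_ker, hk]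
      have h1 : (f.ker ⊔ (P : Subgroup G)).index ∣ p ^ k := hidx ▸ Subgroup.index_dvd_of_le le_sup_left
      have h2 : (f.ker ⊔ (P : Subgroup G)).index ∣ m := Subgroup.index_dvd_of_le le_sup_right
      obtain ⟨j, _, hj⟩ := (Nat.dvd_prime_pow hp).mp h1
      rw [← Subgroup.index_eq_one]
      rcases Nat.eq_zero_or_pos j with rfl | hjpos
      · simpa using hj
      · exfalso
        have : p ∣ m := by
          refine dvd_trans ?_ h2
          rw [hj]
          exact dvd_pow_self p hjpos.ne'
        exact P.not_dvd_index this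

end Cfsg.Agent.S0131
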