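import Cfsg.Statements.S0140
import Mathlib

set_option autoImplicit false
open Cfsg

namespace Cfsg.Agent.S0140


theorem roots_pow_eq_one {G : Type*} [Group G] [Finite G] {V : Type*} [AddCommGroup V] [Module ℂ V] [FiniteDimensional ℂ V] (ρ : Representation ℂ G V) (g : G) :
    ∀ μ ∈ (ρ g).charpoly.roots, μ ^ orderOf g = 1 := by
  set f : Module.End ℂ V := ρ g with hf
  have hfm : f ^ orderOf g = 1 := by
    rw [hf, ← map_pow, pow_orderOf_eq_one, map_one]
  intro μ hμ
  have hroot : f.charpoly.IsRoot μ := (Polynomial.mem_roots'.mp hμ).2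
  have hev : f.HasEigenvalue μ := (Module.End.hasEigenvalue_iff_isRoot_charpoly f μ).mpr hroot
  obtain ⟨v, hv⟩ := hev.exists_hasEigenvector
  have h1 : (f ^ orderOf g) v = μ ^ orderOf g • v := hv.pow_apply (orderOf g)
  rw [hfm, Module.End.one_apply] at h1
  by_contra hne
  have : (μ ^ orderOf g - 1) • v = 0 := by rw [sub_smul, one_smul, ← h1, sub_self]
  rcases smul_eq_zero.mp this with h | h
  · exact hne (sub_eq_zero.mp h)
  · exact hv.2 h

theorem char_eq_sum_roots {G : Type*} [Group G] {V : Type*} [AddCommGroup V] [Module ℂ V] [FiniteDimensional ℂ V] (ρ : Representation ℂ G V) (g : G) :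
    ρ.character g = (ρ g).charpoly.roots.sum :=
  Module.End.trace_eq_sum_roots_charpoly_of_splits (IsAlgClosed.splits _)



/-- Every value of the character of a complex representation of a finite group is an algebraic integer. -/
theorem result {G : Type*} [Group G] [Finite G] {V : Type*} [AddCommGroup V] [Module ℂ V] [FiniteDimensional ℂ V] (ρ : Representation ℂ G V) (g : G) : IsIntegral ℤ (ρ.character g) := by
  rw [char_eq_sum_roots]
  apply IsIntegral.multiset_sum
  intro μ hμ
  have h := roots_pow_eq_one ρ g μ hμ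
  apply IsIntegral.of_pow (orderOf_pos g)
  rw [h]
  exact isIntegral_one

end Cfsg.Agent.S0140
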