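import Cfsg.Statements.S0149
import Mathlib
import Cfsg.Prelude.Def_Characters
import Cfsg.Agent.Lib.helper7.Induction

set_option autoImplicit false
open Cfsg

namespace Cfsg.Agent.S0149

open Cfsg.Agent.Lib.helper7



/-- Let T be a subset of G meeting each of its conjugates by elements outside its normalizer N only in the identity, and let ψ be a class function of N vanishing on N away from T. Then the function induced from ψ agrees with ψ at every non-identity element of T. -/
theorem result {G : Type*} [Group G] [Fintype G] (T : Set G) (hTI : ∀ g : G, g ∉ Subgroup.normalizer T → ∀ t ∈ T, g * t * g⁻¹ ∈ T → t = 1) (hTN : T ⊆ Subgroup.normalizer T) (ψ : Subgroup.normalizer T → ℂ) (hψ : Cfsg.IsClassFunction (Subgroup.normalizer T) ψ) (hψT : ∀ x : Subgroup.normalizer T, (x : G) ∉ T → ψ x = 0) (t : Subgroup.normalizer T) (htT : (t : G) ∈ T) (ht1 : t ≠ 1) : Cfsg.indFun (Subgroup.normalizer T) ψ t = ψ t := by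
  classical
  have _ := hTN
  unfold Cfsg.indFun
  have hNne : (Nat.card (Subgroup.normalizer T) : ℂ) ≠ 0 := by
    exact_mod_cast (Nat.card_pos (α := Subgroup.normalizer T)).ne'
  have ht1' : (t : G) ≠ 1 := fun h => ht1 (Subtype.ext h)
  have hext : ∀ x : G, Cfsg.extendByZero (Subgroup.normalizer T) ψ (x⁻¹ * (t : G) * x)
      = if x ∈ Subgroup.normalizer T then ψ t else 0 := by
    intro x
    by_cases hx : x ∈ Subgroup.normalizer T
    · rw [if_pos hx]
      have hmem : x⁻¹ * (t : G) * x ∈ Subgroup.normalizer T :=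
        Subgroup.mul_mem _ (Subgroup.mul_mem _ (Subgroup.inv_mem _ hx) t.2) hx
      rw [h7_extendByZero_mem _ _ _ hmem]
      have := hψ t (⟨x, hx⟩⁻¹)
      rw [← this]
      congr 1
      apply Subtype.ext
      simp
    · rw [if_neg hx]
      have hx' : x⁻¹ ∉ Subgroup.normalizer T := fun h => hx (by simpa using Subgroup.inv_mem _ h)
      have hnT : x⁻¹ * (t : G) * x ∉ T := by
        intro h
        apply ht1'
        apply hTI x⁻¹ hx' t htT
        simpa using h
      by_cases hmem : x⁻¹ * (t : G) * x ∈ Subgroup.normalizer T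
      · rw [h7_extendByZero_mem _ _ _ hmem]
        exact hψT _ hnT
      · exact h7_extendByZero_not_mem _ _ _ hmem
  simp_rw [hext]
  rw [h7_sum_subgroup (Subgroup.normalizer T) (fun _ => ψ t), Finset.sum_const, Finset.card_univ, nsmul_eq_mul, ← Nat.card_eq_fintype_card, ← mul_assoc, inv_mul_cancel₀ hNne, one_mul]

end Cfsg.Agent.S0149
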