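import Cfsg.Statements.S0153
import Cfsg.Statements.S0153
import Cfsg.Agent.Lib.helper2.CharInd
import Cfsg.Agent.Lib.Helper25.CharBasic

set_option autoImplicit false
open Cfsg

namespace Cfsg.Agent.S0153

open Cfsg

open Cfsg.Agent.Lib.helper2 Cfsg.Agent.Lib.Helper25
open Representation

theorem split_off {G : Type*} [Group G] [Finite G] {V T : Type*} [AddCommGroup V] [Module ℂ V]
    [AddCommGroup T] [Module ℂ T]
    (ρ : Representation ℂ G V) (τ : Representation ℂ G T) [τ.IsIrreducible]
    (f : IntertwiningMap τ ρ) (hf : f ≠ 0) :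
    ∃ C : Subrepresentation ρ, Nonempty ((τ.prod C.toRepresentation).Equiv ρ) := by
  haveI : NeZero (Nat.card G : ℂ) := ⟨by exact_mod_cast Nat.card_pos.ne'⟩
  have hinj : Function.Injective f := (IsIrreducible.injective_or_eq_zero f).resolve_right hf
  let R : Subrepresentation ρ := ⟨LinearMap.range f.toLinearMap, by
    intro g v hv
    obtain ⟨t, rfl⟩ := hv
    exact ⟨τ g t, IntertwiningMap.isIntertwining _ _ f g t⟩⟩
  obtain ⟨C, hC⟩ := exists_isCompl R
  refine ⟨C, ?_⟩
  have hcompl : IsCompl (LinearMap.range f.toLinearMap) C.toSubmodule := by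
    apply IsCompl.of_eq
    · exact congrArg Subrepresentation.toSubmodule hC.inf_eq_bot
    · exact congrArg Subrepresentation.toSubmodule hC.sup_eq_top
  let e : (T × C.toSubmodule) ≃ₗ[ℂ] V :=
    ((LinearEquiv.ofInjective f.toLinearMap hinj).prodCongr (LinearEquiv.refl ℂ _)).trans
      (Submodule.prodEquivOfIsCompl _ _ hcompl)
  have he : ∀ (t : T) (c : C.toSubmodule), e (t, c) = f t + (c : V) := by
    intro t c
    simp [e]
  refine ⟨Representation.Equiv.mk e ?_⟩
  intro g
  apply LinearMap.ext
  rintro ⟨t, c⟩
  simp only [LinearMap.comp_apply, LinearEquiv.coe_coe]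
  have h1 : (τ.prod C.toRepresentation) g (t, c) = (τ g t, C.toRepresentation g c) := rfl
  rw [h1, he, he, map_add, IntertwiningMap.isIntertwining _ _ f g t]
  rfl

theorem char_prod {G : Type*} [Group G] {V T : Type*} [AddCommGroup V] [Module ℂ V]
    [FiniteDimensional ℂ V] [AddCommGroup T] [Module ℂ T] [FiniteDimensional ℂ T]
    (τ : Representation ℂ G T) (ρ : Representation ℂ G V) :
    (τ.prod ρ).character = τ.character + ρ.character := by
  funext g
  exact LinearMap.trace_prodMap' (τ g) (ρ g)

noncomputable def prodCongrRight {G : Type*} [Group G] {V W T : Type*} [AddCommGroup V] [Module ℂ V]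
    [AddCommGroup W] [Module ℂ W] [AddCommGroup T] [Module ℂ T]
    (τ : Representation ℂ G T) {ρ : Representation ℂ G V} {σ : Representation ℂ G W}
    (φ : ρ.Equiv σ) : (τ.prod ρ).Equiv (τ.prod σ) :=
  Representation.Equiv.mk ((LinearEquiv.refl ℂ T).prodCongr φ.toLinearEquiv) (by
    intro g
    apply LinearMap.ext
    rintro ⟨t, v⟩
    have h1 : (τ.prod ρ) g (t, v) = (τ g t, ρ g v) := rfl
    have h2 : ∀ (t : T) (w : W), (τ.prod σ) g (t, w) = (τ g t, σ g w) := fun _ _ => rfl
    simp only [LinearMap.comp_apply, LinearEquiv.coe_coe, h1, LinearEquiv.prodCongr_apply, h2,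
      LinearEquiv.refl_apply]
    congr 1
    exact IntertwiningMap.isIntertwining _ _ φ.toIntertwiningMap g v)

theorem exists_intertwiner {G : Type*} [Group G] [Fintype G] {U T : Type*} [AddCommGroup U]
    [Module ℂ U] [FiniteDimensional ℂ U] [AddCommGroup T] [Module ℂ T] [FiniteDimensional ℂ T]
    (τ : Representation ℂ G T) (π : Representation ℂ G U) (m : ℕ) (hm : 0 < m)
    (h : Cfsg.classInner π.character τ.character = (m : ℂ)) :
    ∃ f : IntertwiningMap τ π, f ≠ 0 := by
  have h2 := classInner_rep_eq_finrank τ π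
  rw [h] at h2
  have h3 : Module.finrank ℂ (IntertwiningMap τ π) = m := by exact_mod_cast h2.symm
  by_contra hcon
  push Not at hcon
  haveI : Subsingleton (IntertwiningMap τ π) := ⟨fun a b => by rw [hcon a, hcon b]⟩
  rw [Module.finrank_zero_of_subsingleton] at h3
  omega

theorem equiv_aux {G : Type*} [Group G] [Fintype G] (n : ℕ) :
    ∀ {V W : Type*} [AddCommGroup V] [Module ℂ V] [FiniteDimensional ℂ V] [AddCommGroup W]
      [Module ℂ W] [FiniteDimensional ℂ W] (ρ : Representation ℂ G V) (σ : Representation ℂ G W),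
      Module.finrank ℂ V ≤ n → ρ.character = σ.character → Nonempty (ρ.Equiv σ) := by
  induction n with
  | zero =>
    intro V W _ _ _ _ _ _ ρ σ hn h
    have hV : Module.finrank ℂ V = 0 := Nat.le_zero.mp hn
    have hW : Module.finrank ℂ W = 0 := by
      have h1 := congrFun h 1
      rw [Representation.char_one, Representation.char_one, hV] at h1
      exact_mod_cast h1.symm
    haveI : Subsingleton V := Module.finrank_zero_iff.mp hV
    haveI : Subsingleton W := Module.finrank_zero_iff.mp hW
    refine ⟨Representation.Equiv.mk (LinearEquiv.ofSubsingleton V W) ?_⟩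
    intro g
    apply LinearMap.ext
    intro v
    exact Subsingleton.elim _ _
  | succ n ih =>
    intro V W _ _ _ _ _ _ ρ σ hn h
    by_cases hV : Module.finrank ℂ V = 0
    · exact ih ρ σ (by omega) h
    have hχ : Cfsg.IsCharacter G ρ.character := isCharacter_of_rep ρ
    have h1 : ρ.character 1 ≠ 0 := by
      rw [Representation.char_one]
      exact_mod_cast hV
    obtain ⟨χ, m, hm, hχm⟩ := isCharacter_exists_constituent hχ h1
    obtain ⟨k, τ, hτ, hτχ⟩ := χ.2
    haveI := hτ
    have hτρ : Cfsg.classInner ρ.character τ.character = (m : ℂ) := by rw [hτχ]; exact hχm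
    have hτσ : Cfsg.classInner σ.character τ.character = (m : ℂ) := by rw [← h]; exact hτρ
    obtain ⟨f, hf⟩ := exists_intertwiner τ ρ m hm hτρ
    obtain ⟨f', hf'⟩ := exists_intertwiner τ σ m hm hτσ
    obtain ⟨C, ⟨eC⟩⟩ := split_off ρ τ f hf
    obtain ⟨D, ⟨eD⟩⟩ := split_off σ τ f' hf'
    have hcC := Representation.char_iso eC
    have hcD := Representation.char_iso eD
    rw [char_prod] at hcC hcD
    have hCD : C.toRepresentation.character = D.toRepresentation.character := by
      have : τ.character + C.toRepresentation.character = τ.character + D.toRepresentation.character := by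
        rw [hcC, hcD, h]
      exact add_left_cancel this
    have hdim : Module.finrank ℂ C.toSubmodule ≤ n := by
      have h5 := LinearEquiv.finrank_eq eC.toLinearEquiv
      rw [Module.finrank_prod] at h5
      have h6 : Module.finrank ℂ (Fin k → ℂ) ≠ 0 := finrank_ne_zero_of_irr τ
      omega
    obtain ⟨φ⟩ := ih C.toRepresentation D.toRepresentation hdim hCD
    exact ⟨(eC.symm.trans (prodCongrRight τ φ)).trans eD⟩



/-- Complex representations of a finite group with equal characters are equivalent. -/
theorem result {G : Type*} [Group G] [Finite G] {V W : Type*} [AddCommGroup V] [Module ℂ V] [FiniteDimensional ℂ V] [AddCommGroup W] [Module ℂ W] [FiniteDimensional ℂ W] (ρ : Representation ℂ G V) (σ : Representation ℂ G W) (h : ρ.character = σ.character) : Nonempty (ρ.Equiv σ) := by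
  haveI := Fintype.ofFinite G
  exact equiv_aux (Module.finrank ℂ V) ρ σ le_rfl h

end Cfsg.Agent.S0153
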