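import Cfsg.Statements.S0155
import Mathlib
import Cfsg.Prelude.Def_Characters

set_option autoImplicit false
open Cfsg

namespace Cfsg.Agent.S0155


theorem ofMulAction_character {G : Type*} [Group G] (X : Type*) [Fintype X] [DecidableEq X] [MulAction G X] (g : G) :
    (Representation.ofMulAction ℂ G X).character g = ((Finset.univ.filter (fun x : X => g • x = x)).card : ℂ) := by
  unfold Representation.character
  rw [LinearMap.trace_eq_matrix_trace ℂ (MonoidAlgebra.basis X ℂ)]
  rw [Matrix.trace]
  simp only [Matrix.diag_apply, LinearMap.toMatrix_apply, MonoidAlgebra.basis_apply, Representation.ofMulAction_single]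
  have : ∀ x : X, ((MonoidAlgebra.basis X ℂ).repr (MonoidAlgebra.single (g • x) (1 : ℂ))) x = if g • x = x then 1 else 0 := by
    intro x
    show (MonoidAlgebra.single (g • x) (1 : ℂ)).coeff x = _
    rw [MonoidAlgebra.coeff_single, Finsupp.single_apply]
  simp only [this]
  rw [Finset.sum_boole]



/-- The character of the left regular representation of a finite group takes the value |G| at the identity and 0 at every other element. -/
theorem result {G : Type*} [Group G] [Fintype G] [DecidableEq G] (g : G) : (Representation.leftRegular ℂ G).character g = if g = 1 then (Nat.card G : ℂ) else 0 := by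
  rw [show Representation.leftRegular ℂ G = Representation.ofMulAction ℂ G G from rfl, ofMulAction_character]
  split_ifs with h
  · subst h
    simp [Nat.card_eq_fintype_card]
  · have : (Finset.univ.filter (fun x : G => g • x = x)) = ∅ := by
      ext x
      simp [h]
    rw [this]
    simp

end Cfsg.Agent.S0155
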