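import Cfsg.Statements.S0156
import Mathlib
import Cfsg.Prelude.Def_Characters
import Cfsg.Agent.Lib.Helper25.CharOrth

set_option autoImplicit false
open Cfsg

namespace Cfsg.Agent.S0156

open scoped ComplexConjugate

theorem ofMulAction_character {G : Type*} [Group G] (X : Type*) [Fintype X] [DecidableEq X] [MulAction G X] (g : G) :
    (Representation.ofMulAction ℂ G X).character g = ((Finset.univ.filter (fun x : X => g • x = x)).card : ℂ) := by
  unfold Representation.character
  rw [LinearMap.trace_eq_matrix_trace ℂ (MonoidAlgebra.basis X ℂ)]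
  rw [Matrix.trace]
  simp only [Matrix.diag_apply, LinearMap.toMatrix_apply, MonoidAlgebra.basis_apply, Representation.ofMulAction_single]
  have : ∀ x : X, ((MonoidAlgebra.basis X ℂ).repr (MonoidAlgebra.single (g • x) (1 : ℂ))) x = if g • x = x then 1 else 0 := by
    intro x
    show (MonoidAlgebra.single (g • x) (1 : ℂ)).coeff x = _
    rw [MonoidAlgebra.coeff_single, Finsupp.single_apply]
  simp only [this]
  rw [Finset.sum_boole]

theorem res155 {G : Type*} [Group G] [Fintype G] [DecidableEq G] (g : G) : (Representation.leftRegular ℂ G).character g = if g = 1 then (Nat.card G : ℂ) else 0 := by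
  rw [show Representation.leftRegular ℂ G = Representation.ofMulAction ℂ G G from rfl, ofMulAction_character]
  split_ifs with h
  · subst h
    simp [Nat.card_eq_fintype_card]
  · have : (Finset.univ.filter (fun x : G => g • x = x)) = ∅ := by
      ext x
      simp [h]
    rw [this]
    simp




/-- The character of the left regular representation is the sum over the irreducible characters χ of χ 1 • χ. -/
theorem result {G : Type*} [Group G] [Fintype G] : (Representation.leftRegular ℂ G).character = ∑ᶠ χ : Cfsg.IrrCharacter G, (χ : G → ℂ) 1 • (χ : G → ℂ) := by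
  classical
  have : Fintype (Cfsg.IrrCharacter G) := Fintype.ofFinite _
  rw [finsum_eq_sum_of_fintype]
  have hcl : ∀ g h : G, (Representation.leftRegular ℂ G).character (h * g * h⁻¹) = (Representation.leftRegular ℂ G).character g := by
    intro g h
    exact Representation.char_conj _ g h
  have hne : (Nat.card G : ℂ) ≠ 0 := by exact_mod_cast Nat.card_pos.ne'
  rw [Cfsg.Agent.Lib.Helper25.classFunction_expansion _ hcl]
  refine Finset.sum_congr rfl fun χ _ => ?_
  congr 1
  unfold Cfsg.classInner
  simp only [res155]
  rw [Finset.sum_eq_single (1 : G)]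
  · rw [if_pos rfl]
    obtain ⟨n, hn, h⟩ := Cfsg.Agent.Lib.Helper25.irr_one_eq_finrank χ
    rw [h, Complex.conj_natCast, ← mul_assoc, inv_mul_cancel₀ hne, one_mul]
  · intro g _ hg
    rw [if_neg hg, zero_mul]
  · intro h
    exact absurd (Finset.mem_univ _) h

end Cfsg.Agent.S0156
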