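import Cfsg.Statements.S0160
import Mathlib
import Cfsg.Prelude.Def_Characters
import Cfsg.Agent.S0860
import Cfsg.Agent.Lib.Helper25.CharReal

set_option autoImplicit false
open Cfsg

namespace Cfsg.Agent.S0160

open scoped ComplexConjugate
open Cfsg.Agent.Lib.Helper25

noncomputable def involAct {X : Type*} (f : X → X) (hf : Function.Involutive f) : MulAction ℤˣ X where
  smul u x := if u = 1 then x else f x
  one_smul x := by
    show (if (1 : ℤˣ) = 1 then x else f x) = x
    simp
  mul_smul u v x := by
    show (if u * v = 1 then x else f x) = (if u = 1 then (if v = 1 then x else f x) else f (if v = 1 then x else f x))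
    rcases Int.units_eq_one_or u with rfl | rfl <;> rcases Int.units_eq_one_or v with rfl | rfl
    · simp
    · simp
    · simp
    · have h1 : ((-1 : ℤˣ) * (-1 : ℤˣ)) = 1 := by decide
      have h2 : (-1 : ℤˣ) ≠ 1 := by decide
      rw [h1, if_pos rfl, if_neg h2, if_neg h2, hf x]

def invCl (G : Type*) [Group G] : ConjClasses G → ConjClasses G :=
  Quotient.map (fun g : G => g⁻¹) (by
    intro a b hab
    obtain ⟨c, hc⟩ := isConj_iff.mp hab
    exact isConj_iff.mpr ⟨c, by rw [← hc]; group⟩)

theorem invCl_mk {G : Type*} [Group G] (g : G) : invCl G (ConjClasses.mk g) = ConjClasses.mk g⁻¹ := rfl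

theorem invCl_involutive (G : Type*) [Group G] : Function.Involutive (invCl G) := by
  intro C
  induction C using Quotient.inductionOn with
  | _ g =>
    show invCl G (invCl G (ConjClasses.mk g)) = ConjClasses.mk g
    rw [invCl_mk, invCl_mk, inv_inv]

theorem irrConj_involutive (G : Type*) [Group G] [Finite G] :
    Function.Involutive (irrConj : Cfsg.IrrCharacter G → Cfsg.IrrCharacter G) := by
  intro χ
  apply Subtype.ext
  funext g
  rw [irrConj_apply, irrConj_apply, Complex.conj_conj]



/-- A finite group has as many real-valued irreducible complex characters as conjugacy classes closed under taking inverses. -/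
theorem result {G : Type*} [Group G] [Finite G] : Nat.card {χ : Cfsg.IrrCharacter G // ∀ g : G, ((χ : G → ℂ) g).im = 0} = Nat.card {C : ConjClasses G // ∀ g : G, ConjClasses.mk g = C → IsConj g g⁻¹} := by
  letI i1 : MulAction ℤˣ (Cfsg.IrrCharacter G) := involAct irrConj (irrConj_involutive G)
  letI i2 : MulAction ℤˣ (ConjClasses G) := involAct (invCl G) (invCl_involutive G)
  have hsm1 : ∀ (u : ℤˣ) (χ : Cfsg.IrrCharacter G), u • χ = if u = 1 then χ else irrConj χ := fun u χ => rfl
  have hsm2 : ∀ (u : ℤˣ) (C : ConjClasses G), u • C = if u = 1 then C else invCl G C := fun u C => rfl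
  have hne : (-1 : ℤˣ) ≠ 1 := by decide
  have hcompat : ∀ (a : ℤˣ) (χ : Cfsg.IrrCharacter G) (g g' : G), ConjClasses.mk g' = a • ConjClasses.mk g → ((a • χ : Cfsg.IrrCharacter G) : G → ℂ) g' = (χ : G → ℂ) g := by
    intro a χ g g' h
    rw [hsm2] at h
    rw [hsm1]
    rcases Int.units_eq_one_or a with rfl | rfl
    · rw [if_pos rfl] at h ⊢
      rw [ConjClasses.mk_eq_mk_iff_isConj] at h
      exact irr_isConj_eq χ h
    · rw [if_neg hne] at h ⊢
      rw [invCl_mk, ConjClasses.mk_eq_mk_iff_isConj] at h
      rw [irrConj_apply, irr_isConj_eq χ h, irr_inv, Complex.conj_conj]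
  have h := Cfsg.Agent.S0860.result (A := ℤˣ) hcompat (-1 : ℤˣ)
  have e1 : Nat.card {χ : Cfsg.IrrCharacter G // ∀ g : G, ((χ : G → ℂ) g).im = 0} =
      Nat.card {χ : Cfsg.IrrCharacter G // (-1 : ℤˣ) • χ = χ} := by
    apply Nat.card_congr
    apply Equiv.subtypeEquivRight
    intro χ
    rw [hsm1, if_neg hne]
    constructor
    · intro h1
      apply Subtype.ext
      funext g
      rw [irrConj_apply]
      exact Complex.conj_eq_iff_im.mpr (h1 g)
    · intro h1 g
      have h2 := congrArg (fun ψ : Cfsg.IrrCharacter G => (ψ : G → ℂ) g) h1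
      simp only [irrConj_apply] at h2
      exact Complex.conj_eq_iff_im.mp h2
  have e2 : Nat.card {C : ConjClasses G // ∀ g : G, ConjClasses.mk g = C → IsConj g g⁻¹} =
      Nat.card {C : ConjClasses G // (-1 : ℤˣ) • C = C} := by
    apply Nat.card_congr
    apply Equiv.subtypeEquivRight
    intro C
    rw [hsm2, if_neg hne]
    constructor
    · intro h1
      induction C using Quotient.inductionOn with
      | _ g₀ =>
        have h2 := h1 g₀ rfl
        show invCl G (ConjClasses.mk g₀) = ConjClasses.mk g₀
        rw [invCl_mk, ConjClasses.mk_eq_mk_iff_isConj]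
        exact h2.symm
    · intro h1 g hg
      have h2 : invCl G (ConjClasses.mk g) = ConjClasses.mk g := by rw [hg]; exact h1
      rw [invCl_mk, ConjClasses.mk_eq_mk_iff_isConj] at h2
      exact h2.symm
  rw [e1, e2, h]

end Cfsg.Agent.S0160
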