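import Cfsg.Statements.S0162
import Mathlib
import Cfsg.Prelude.Def_Characters
import Cfsg.Agent.Lib.helper2.CharInt
import Cfsg.Agent.Lib.Helper25.CharReal
import Cfsg.Agent.S0133
import Cfsg.Agent.S0134
import Cfsg.Agent.S0161

set_option autoImplicit false
open Cfsg

namespace Cfsg.Agent.S0162

open Cfsg.Agent.Lib.helper2 Cfsg.Agent.Lib.Helper25
open scoped ComplexConjugate

theorem odd_sq_zmod (j : ℕ) : (((2 * j + 1 : ℕ) : ZMod 16) ^ 2 - 1) + (((2 * j + 1 : ℕ) : ZMod 16) ^ 2 - 1) = 0 := by
  obtain ⟨c, hc⟩ := Nat.even_mul_succ_self j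
  have h1 : (2 * j + 1) ^ 2 = 1 + 8 * c := by
    have : (2 * j + 1) ^ 2 = 1 + 4 * (j * (j + 1)) := by ring
    rw [this, hc]; ring
  rw [← Nat.cast_pow, h1]
  push_cast
  have h16 : (16 : ZMod 16) = 0 := by decide
  have : (1 + 8 * (c : ZMod 16) - 1) + (1 + 8 * (c : ZMod 16) - 1) = 16 * (c : ZMod 16) := by ring
  rw [this, h16, zero_mul]



/-- If a finite group has odd order, its order is congruent to its number of conjugacy classes modulo 16. -/
theorem result {G : Type*} [Group G] [Finite G] (hodd : Odd (Nat.card G)) : Nat.card G ≡ Nat.card (ConjClasses G) [MOD 16] := by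
  classical
  have : Fintype G := Fintype.ofFinite G
  have : Fintype (Cfsg.IrrCharacter G) := Fintype.ofFinite _
  choose d hdpos hd1 hddvd using (fun χ : Cfsg.IrrCharacter G => irr_degree_dvd_card χ)
  have hsum : ∑ χ : Cfsg.IrrCharacter G, (d χ) ^ 2 = Nat.card G := by
    have h := Cfsg.Agent.S0134.result (G := G)
    rw [finsum_eq_sum_of_fintype] at h
    have h2 : ((∑ χ : Cfsg.IrrCharacter G, (d χ) ^ 2 : ℕ) : ℂ) = (Nat.card G : ℂ) := by
      rw [← h]
      push_cast
      refine Finset.sum_congr rfl fun χ _ => ?_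
      rw [hd1]
    exact_mod_cast h2
  have hk : ∑ χ : Cfsg.IrrCharacter G, 1 = Nat.card (ConjClasses G) := by
    rw [← Cfsg.Agent.S0133.result, Finset.sum_const, Finset.card_univ, Nat.card_eq_fintype_card]
    simp
  have hdodd : ∀ χ, Odd (d χ) := by
    intro χ
    exact Odd.of_dvd_nat hodd (hddvd χ)
  have hdconj : ∀ χ, d (irrConj χ) = d χ := by
    intro χ
    have h1 := hd1 (irrConj χ)
    rw [irrConj_apply, hd1 χ, Complex.conj_natCast] at h1
    exact_mod_cast h1.symm
  have hzero : ∑ χ : Cfsg.IrrCharacter G, (((d χ : ℕ) : ZMod 16) ^ 2 - 1) = 0 := by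
    refine Finset.sum_involution (fun χ _ => irrConj χ) ?_ ?_ ?_ ?_
    · intro χ _
      rw [hdconj]
      obtain ⟨j, hj⟩ := hdodd χ
      rw [hj]
      exact odd_sq_zmod j
    · intro χ _ hne hfix
      apply hne
      have hreal : ∀ g : G, ((χ : G → ℂ) g).im = 0 := by
        intro g
        have h1 : conj ((χ : G → ℂ) g) = (χ : G → ℂ) g := by
          rw [← irrConj_apply, hfix]
        exact Complex.conj_eq_iff_im.mp h1
      have htriv := Cfsg.Agent.S0161.result hodd χ hreal
      have h1 := hd1 χ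
      rw [htriv] at h1
      have h1' : (1 : ℂ) = (d χ : ℂ) := h1
      have : d χ = 1 := by exact_mod_cast h1'.symm
      rw [this]
      simp
    · intro χ _
      exact Finset.mem_univ _
    · intro χ _
      apply Subtype.ext
      funext g
      rw [irrConj_apply, irrConj_apply, Complex.conj_conj]
  rw [← ZMod.natCast_eq_natCast_iff, ← hsum, ← hk]
  push_cast
  rw [← sub_eq_zero, ← Finset.sum_sub_distrib]
  exact hzero

end Cfsg.Agent.S0162
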