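import Cfsg.Statements.S0163
import Cfsg.Statements.S0163
import Cfsg.Agent.Lib.helper2.BrauerInd

set_option autoImplicit false
open Cfsg

namespace Cfsg.Agent.S0163

open Cfsg

open Cfsg.Agent.Lib.helper2

theorem span2_to_list {G : Type*} [Group G] [Fintype G] (f : G → ℂ)
    (hf : f ∈ Submodule.span ℤ (gens2 G)) :
    ∃ l : List ((E : Subgroup G) × ((E →* ℂˣ) × ℤ)),
      (∀ t ∈ l, ∃ p : ℕ, p.Prime ∧ Cfsg.IsElementary p t.1) ∧
      f = (l.map fun t => (t.2.2 : ℂ) • Cfsg.indFun t.1 (fun e => (t.2.1 e : ℂ))).sum := by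
  induction hf using Submodule.span_induction with
  | mem f hf =>
    obtain ⟨E, lam, p, hp, hE, rfl⟩ := hf
    refine ⟨[⟨E, (lam, 1)⟩], ?_, ?_⟩
    · intro t ht
      rw [List.mem_singleton] at ht
      rw [ht]
      exact ⟨p, hp, hE⟩
    · simp
  | zero => exact ⟨[], by simp, by simp⟩
  | add f g _ _ ihf ihg =>
    obtain ⟨l1, h1, e1⟩ := ihf
    obtain ⟨l2, h2, e2⟩ := ihg
    refine ⟨l1 ++ l2, ?_, ?_⟩
    · intro t ht
      rcases List.mem_append.mp ht with h | h
      · exact h1 t h
      · exact h2 t h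
    · rw [List.map_append, List.sum_append, ← e1, ← e2]
  | smul z f _ ih =>
    obtain ⟨l, h1, e1⟩ := ih
    refine ⟨l.map (fun t => ⟨t.1, (t.2.1, z * t.2.2)⟩), ?_, ?_⟩
    · intro t ht
      obtain ⟨t', ht', rfl⟩ := List.mem_map.mp ht
      exact h1 t' ht'
    · rw [e1, List.map_map, List.smul_sum, List.map_map]
      congr 1
      apply List.map_congr_left
      intro t _
      simp only [Function.comp_apply]
      rw [← Int.cast_smul_eq_zsmul ℂ, smul_smul]
      push_cast
      rfl



/-- Brauer's induction Theorem: every character of a finite group is a ℤ-linear combination of functions induced from linear characters (homomorphisms to ℂˣ) of elementary subgroups. -/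
theorem result {G : Type*} [Group G] [Fintype G] (χ : G → ℂ) (hχ : Cfsg.IsCharacter G χ) : ∃ l : List ((E : Subgroup G) × ((E →* ℂˣ) × ℤ)), (∀ t ∈ l, ∃ p : ℕ, p.Prime ∧ Cfsg.IsElementary p t.1) ∧ χ = (l.map fun t => (t.2.2 : ℂ) • Cfsg.indFun t.1 (fun e => (t.2.1 e : ℂ))).sum := by
  exact span2_to_list χ (char_mem_span_gens2 χ hχ)

end Cfsg.Agent.S0163
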