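import Cfsg.Statements.S0166
import Cfsg.Agent.Lib.helper2.SF3
import Cfsg.Agent.S0153

set_option autoImplicit false
open Cfsg

namespace Cfsg.Agent.S0166

/-- Brauer's splitting field Theorem: a complex representation of a finite group of exponent m is equivalent to a representation by matrices with entries in ℚ adjoined exp(2πi/m). -/
theorem result {G : Type*} [Group G] [Finite G] (n : ℕ) (ρ : Representation ℂ G (Fin n → ℂ)) : ∃ σ : Representation ℂ G (Fin n → ℂ), Nonempty (ρ.Equiv σ) ∧ ∀ g : G, ∀ i j : Fin n, LinearMap.toMatrix' (σ g) i j ∈ Algebra.adjoin ℚ ({Complex.exp (2 * Real.pi * Complex.I / (Monoid.exponent G : ℂ))} : Set ℂ) := by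
  classical
  have hm0 : Monoid.exponent G ≠ 0 := Monoid.exponent_ne_zero_of_finite
  set ζ : ℂ := Complex.exp (2 * Real.pi * Complex.I / (Monoid.exponent G : ℂ)) with hζ
  have hprim : IsPrimitiveRoot ζ (Monoid.exponent G) := Complex.isPrimitiveRoot_exp _ hm0
  have hint : IsIntegral ℚ ζ := by
    apply IsIntegral.of_pow (Nat.pos_of_ne_zero hm0)
    rw [hprim.pow_eq_one]
    exact isIntegral_one
  let K : Subfield ℂ := (IntermediateField.adjoin ℚ {ζ}).toSubfield
  have hKeq : ∀ z : ℂ, z ∈ K ↔ z ∈ Algebra.adjoin ℚ ({ζ} : Set ℂ) := by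
    intro z
    rw [← IntermediateField.adjoin_simple_toSubalgebra_of_isAlgebraic hint.isAlgebraic]
    rfl
  have hζK : ζ ∈ K := (hKeq ζ).mpr (Algebra.subset_adjoin (Set.mem_singleton ζ))
  have hK : ∀ z : ℂ, z ^ (Monoid.exponent G) = 1 → z ∈ K := by
    intro z hz
    haveI : NeZero (Monoid.exponent G) := ⟨hm0⟩
    obtain ⟨i, -, rfl⟩ := hprim.eq_pow_of_pow_eq_one hz
    exact pow_mem hζK i
  obtain ⟨d, σ, hσ, hent⟩ := Cfsg.Agent.Lib.helper2.sf_main K hK ρ.character ⟨n, ρ, rfl⟩
  have hd : d = n := by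
    have h1 := congrFun hσ 1
    rw [Representation.char_one, Representation.char_one, Module.finrank_fin_fun,
      Module.finrank_fin_fun] at h1
    exact_mod_cast h1
  subst hd
  exact ⟨σ, Cfsg.Agent.S0153.result ρ σ hσ.symm, fun g i j => (hKeq _).mp (hent g i j)⟩

end Cfsg.Agent.S0166
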