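import Cfsg.Statements.S4856
import Cfsg.Agent.Lib.Helper25.CharConv

set_option autoImplicit false
open Cfsg

namespace Cfsg.Agent.S4856

open Cfsg.Agent.Lib.Helper25 in
open scoped ComplexConjugate in
/-- #{(x,y) ∈ G×G : [x,y] = z} = #G · Σ_{χ∈Irr(G)} χ(z)/χ(1). -/
theorem result {G : Type*} [Group G] [Finite G] (z : G) : (Nat.card {xy : G × G // xy.1 * xy.2 * xy.1⁻¹ * xy.2⁻¹ = z} : ℂ) = (Nat.card G : ℂ) * ∑ᶠ χ : Cfsg.IrrCharacter G, (χ : G → ℂ) z / (χ : G → ℂ) 1 := by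
  classical
  have := Fintype.ofFinite G
  have := Fintype.ofFinite (Cfsg.IrrCharacter G)
  rw [finsum_eq_sum_of_fintype]
  have h1 : Nat.card {xy : G × G // xy.1 * xy.2 * xy.1⁻¹ * xy.2⁻¹ = z} =
      ∑ x : G, Nat.card {y : G // y * x⁻¹ * y⁻¹ = x⁻¹ * z} := by
    rw [Nat.card_congr (Equiv.subtypeProdEquivSigmaSubtype
      (fun x y : G => x * y * x⁻¹ * y⁻¹ = z)), Nat.card_sigma]
    refine Finset.sum_congr rfl fun x _ => ?_
    apply Nat.card_congr
    apply Equiv.subtypeEquivRight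
    intro y
    constructor
    · intro h; rw [← h]; group
    · intro h
      have : x * (y * x⁻¹ * y⁻¹) = z := by rw [h]; group
      rw [← this]; group
  rw [h1]
  push_cast
  have h2 : ∀ x : G, (Nat.card {y : G // y * x⁻¹ * y⁻¹ = x⁻¹ * z} : ℂ) =
      ∑ χ : Cfsg.IrrCharacter G, (χ : G → ℂ) x * (χ : G → ℂ) (x⁻¹ * z) := by
    intro x
    rw [card_conjugators]
    have hcol := irr_column_orthogonality (x⁻¹ * z) x⁻¹
    have : ∀ χ : Cfsg.IrrCharacter G, (χ : G → ℂ) (x⁻¹ * z) * conj ((χ : G → ℂ) x⁻¹) =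
        (χ : G → ℂ) x * (χ : G → ℂ) (x⁻¹ * z) := by
      intro χ
      rw [← irr_inv, inv_inv, mul_comm]
    simp only [this] at hcol
    rw [hcol]
    split_ifs <;> simp
  simp only [h2]
  rw [Finset.sum_comm, Finset.mul_sum]
  refine Finset.sum_congr rfl fun χ _ => ?_
  rw [irr_convolution, if_pos rfl]
  ring

end Cfsg.Agent.S4856
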