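import Cfsg.Statements.S0168
import Mathlib
import Cfsg.Prelude.Def_Characters
import Cfsg.Agent.Lib.Helper25.CharOrth
import Cfsg.Agent.S0139

set_option autoImplicit false
open Cfsg

namespace Cfsg.Agent.S0168

open Cfsg.Agent.Lib.Helper25
open scoped ComplexConjugate



/-- The Burnside–Brauer Theorem. Let χ be the character of a faithful complex representation of a finite group, taking m distinct values. Then every irreducible character has nonzero inner product with χ ^ i for some i < m. -/
theorem result {G : Type*} [Group G] [Fintype G] {V : Type*} [AddCommGroup V] [Module ℂ V] [FiniteDimensional ℂ V] (ρ : Representation ℂ G V) (hfaithful : Function.Injective ρ) (ψ : G → ℂ) (hψ : Cfsg.IsIrrCharacter G ψ) : ∃ i : ℕ, i < Nat.card (Set.range ρ.character) ∧ Cfsg.classInner (fun g => ρ.character g ^ i) ψ ≠ 0 := by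
  classical
  set χ := ρ.character with hχ
  set S : Finset ℂ := Finset.univ.image χ with hS
  have hcard : Nat.card (Set.range χ) = S.card := by
    have : Set.range χ = (S : Set ℂ) := by
      rw [hS]; ext z; simp
    rw [this, Nat.card_coe_set_eq, Set.ncard_coe_finset]
  rw [hcard]
  have h1S : χ 1 ∈ S := Finset.mem_image_of_mem χ (Finset.mem_univ 1)
  have hinj : Set.InjOn (id : ℂ → ℂ) S := Function.injective_id.injOn
  set P : Polynomial ℂ := Lagrange.basis S id (χ 1) with hP
  have hdeg : P.natDegree < S.card := by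
    rw [hP, Lagrange.natDegree_basis hinj h1S]
    have : 0 < S.card := Finset.card_pos.mpr ⟨_, h1S⟩
    omega
  have hPeval : ∀ g : G, P.eval (χ g) = if g = 1 then 1 else 0 := by
    intro g
    by_cases hg : g = 1
    · rw [if_pos hg, hg]
      exact Lagrange.eval_basis_self hinj h1S
    · rw [if_neg hg]
      have hne : χ 1 ≠ χ g := by
        intro h
        apply hg
        have h2 : χ g = (Module.finrank ℂ V : ℂ) := by rw [← h, hχ, Representation.char_one]
        have h3 := (Cfsg.Agent.S0139.result ρ g).mp h2
        apply hfaithful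
        rw [h3, map_one]
        rfl
      exact Lagrange.eval_basis_of_ne (v := id) hne (Finset.mem_image_of_mem χ (Finset.mem_univ g))
  by_contra hcon
  have hall : ∀ i, i < S.card → Cfsg.classInner (fun g => χ g ^ i) ψ = 0 := by
    intro i hi
    by_contra hne
    exact hcon ⟨i, hi, hne⟩
  have hsum : ∑ i ∈ Finset.range S.card, P.coeff i * Cfsg.classInner (fun g => χ g ^ i) ψ = 0 := by
    apply Finset.sum_eq_zero
    intro i hi
    rw [hall i (Finset.mem_range.mp hi), mul_zero]
  have hsum2 : ∑ i ∈ Finset.range S.card, P.coeff i * Cfsg.classInner (fun g => χ g ^ i) ψ =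
      (Nat.card G : ℂ)⁻¹ * conj (ψ 1) := by
    unfold Cfsg.classInner
    simp_rw [mul_left_comm (P.coeff _), Finset.mul_sum]
    rw [Finset.sum_comm]
    simp_rw [← Finset.mul_sum]
    congr 1
    have : ∀ g : G, ∑ i ∈ Finset.range S.card, P.coeff i * (χ g ^ i * conj (ψ g)) = (if g = 1 then 1 else 0) * conj (ψ g) := by
      intro g
      rw [← hPeval g, Polynomial.eval_eq_sum_range' hdeg, Finset.sum_mul]
      refine Finset.sum_congr rfl fun i _ => ?_
      ring
    simp_rw [this]
    simp
  rw [hsum2] at hsum
  have hne1 : ψ 1 ≠ 0 := irr_one_ne_zero ⟨ψ, hψ⟩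
  have hneG : (Nat.card G : ℂ) ≠ 0 := by exact_mod_cast (Nat.card_pos (α := G)).ne'
  rcases mul_eq_zero.mp hsum with h | h
  · exact hneG (inv_eq_zero.mp h)
  · exact hne1 ((map_eq_zero _).mp h)

end Cfsg.Agent.S0168
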