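import Cfsg.Statements.S0198
import Cfsg.Statements.S0198
import Cfsg.Agent.Lib.Helper11.VirtChar
import Cfsg.Agent.Lib.Helper25.CharLinear

set_option autoImplicit false
open Cfsg

namespace Cfsg.Agent.S0198

open Cfsg

open Cfsg.Agent.Lib.Helper11 Cfsg.Agent.Lib.Helper25

theorem pair_cases {I : Type*} [DecidableEq I] (a b c d : I) (hab : a ≠ b) (hcd : c ≠ d)
    (h : (if a = c then (1 : ℂ) else 0) - (if a = d then 1 else 0) - (if b = c then 1 else 0) +
      (if b = d then 1 else 0) = 1) : (a = c ∧ b ≠ d) ∨ (b = d ∧ a ≠ c) := by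
  by_cases h1 : a = c <;> by_cases h2 : b = d
  · exfalso
    subst h1 h2
    rw [if_pos rfl, if_pos rfl, if_neg hab, if_neg (Ne.symm hab)] at h
    norm_num at h
  · left; exact ⟨h1, h2⟩
  · right; exact ⟨h2, h1⟩
  · exfalso
    rw [if_neg h1, if_neg h2] at h
    split_ifs at h <;> norm_num at h



/-- The isometry lemma behind exceptional characters. Let τ be a family of generalized characters of a finite group G indexed by Fin n, with τ i₀ = 0, every τ i vanishing at the identity, and inner products ⟨τ i, τ j⟩ = 2 if i = j and 1 otherwise for i, j ≠ i₀. Then there are a sign ε and pairwise distinct irreducible characters μ i with τ i = ε (μ i − μ i₀) for all i. -/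
theorem result {G : Type*} [Group G] [Fintype G] (n : ℕ) (i₀ : Fin n) (τ : Fin n → (G → ℂ)) (h0 : τ i₀ = 0) (hgen : ∀ i, Cfsg.IsGeneralizedCharacter G (τ i)) (hone : ∀ i, τ i 1 = 0) (hgram : ∀ i j, i ≠ i₀ → j ≠ i₀ → Cfsg.classInner (τ i) (τ j) = if i = j then 2 else 1) : ∃ ε : ℂ, (ε = 1 ∨ ε = -1) ∧ ∃ μ : Fin n → (G → ℂ), (∀ i, Cfsg.IsIrrCharacter G (μ i)) ∧ Function.Injective μ ∧ ∀ i, τ i = ε • (μ i - μ i₀) := by
  classical
  have hdec : ∀ i, ∃ p : Cfsg.IrrCharacter G × Cfsg.IrrCharacter G,
      i ≠ i₀ → (p.1 ≠ p.2 ∧ τ i = (p.1 : G → ℂ) - (p.2 : G → ℂ)) := by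
    intro i
    by_cases hi : i = i₀
    · exact ⟨(trivIrr G, trivIrr G), fun h => absurd hi h⟩
    · have h2 := hgram i i hi hi
      rw [if_pos rfl] at h2
      obtain ⟨η₁, η₂, hne, heq⟩ := genChar_norm_two (τ i) (hgen i) h2 (hone i)
      exact ⟨(η₁, η₂), fun _ => ⟨hne, heq⟩⟩
  choose p hp using hdec
  set α : Fin n → Cfsg.IrrCharacter G := fun i => (p i).1 with hα
  set β : Fin n → Cfsg.IrrCharacter G := fun i => (p i).2 with hβ
  have hne : ∀ i, i ≠ i₀ → α i ≠ β i := fun i hi => (hp i hi).1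
  have hτ : ∀ i, i ≠ i₀ → τ i = (α i : G → ℂ) - (β i : G → ℂ) := fun i hi => (hp i hi).2
  have hpair : ∀ i j, i ≠ i₀ → j ≠ i₀ → i ≠ j →
      (α i = α j ∧ β i ≠ β j) ∨ (β i = β j ∧ α i ≠ α j) := by
    intro i j hi hj hij
    have h1 := hgram i j hi hj
    rw [if_neg hij, hτ i hi, hτ j hj, classInner_sub_left, classInner_sub_right'',
      classInner_sub_right'', irr_classInner, irr_classInner, irr_classInner, irr_classInner] at h1
    apply pair_cases (α i) (β i) (α j) (β j) (hne i hi) (hne j hj)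
    linear_combination h1
  by_cases hex : ∃ i₁, i₁ ≠ i₀
  swap
  · push Not at hex
    refine ⟨1, Or.inl rfl, fun _ => (trivIrr G : G → ℂ), fun _ => (trivIrr G).2, ?_, ?_⟩
    · intro i j _
      rw [hex i, hex j]
    · intro i
      rw [hex i, h0]
      simp
  obtain ⟨i₁, hi₁⟩ := hex
  by_cases hA : ∀ j, j ≠ i₀ → α j = α i₁
  · refine ⟨-1, Or.inr rfl, fun i => ((if i = i₀ then α i₁ else β i : Cfsg.IrrCharacter G) : G → ℂ),
      fun i => (if i = i₀ then α i₁ else β i : Cfsg.IrrCharacter G).2, ?_, ?_⟩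
    · intro i j hij
      have hij' : (if i = i₀ then α i₁ else β i : Cfsg.IrrCharacter G) =
          (if j = i₀ then α i₁ else β j) := Subtype.ext hij
      by_contra hne'
      by_cases hi : i = i₀ <;> by_cases hj : j = i₀
      · exact hne' (hi.trans hj.symm)
      · rw [if_pos hi, if_neg hj] at hij'
        exact hne j hj ((hA j hj).trans hij')
      · rw [if_neg hi, if_pos hj] at hij'
        exact hne i hi ((hA i hi).trans hij'.symm)
      · rw [if_neg hi, if_neg hj] at hij'
        rcases hpair i j hi hj hne' with ⟨_, h2⟩ | ⟨_, h2⟩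
        · exact h2 hij'
        · exact h2 ((hA i hi).trans (hA j hj).symm)
    · intro i
      by_cases hi : i = i₀
      · rw [hi, h0]
        simp
      · simp only [if_neg hi, if_true]
        rw [hτ i hi, hA i hi]
        funext g
        simp only [Pi.sub_apply, Pi.smul_apply, smul_eq_mul]
        ring
  · push Not at hA
    obtain ⟨j, hj, hjα⟩ := hA
    have hji : j ≠ i₁ := fun h => hjα (by rw [h])
    have hβj : β j = β i₁ := by
      rcases hpair j i₁ hj hi₁ hji with ⟨h1, _⟩ | ⟨h1, _⟩
      · exact absurd h1 hjα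
      · exact h1
    have hB : ∀ k, k ≠ i₀ → β k = β i₁ := by
      intro k hk
      by_contra hkβ
      have hki : k ≠ i₁ := fun h => hkβ (by rw [h])
      have hαk : α k = α i₁ := by
        rcases hpair k i₁ hk hi₁ hki with ⟨h1, _⟩ | ⟨h1, _⟩
        · exact h1
        · exact absurd h1 hkβ
      have hjk : j ≠ k := fun h => hjα (by rw [h, hαk])
      rcases hpair j k hj hk hjk with ⟨h1, _⟩ | ⟨h1, _⟩
      · exact hjα (h1.trans hαk)
      · exact hkβ (h1.symm.trans hβj)
    refine ⟨1, Or.inl rfl, fun i => ((if i = i₀ then β i₁ else α i : Cfsg.IrrCharacter G) : G → ℂ),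
      fun i => (if i = i₀ then β i₁ else α i : Cfsg.IrrCharacter G).2, ?_, ?_⟩
    · intro i k hik
      have hik' : (if i = i₀ then β i₁ else α i : Cfsg.IrrCharacter G) =
          (if k = i₀ then β i₁ else α k) := Subtype.ext hik
      by_contra hne'
      by_cases hi : i = i₀ <;> by_cases hk : k = i₀
      · exact hne' (hi.trans hk.symm)
      · rw [if_pos hi, if_neg hk] at hik'
        exact hne k hk (hik'.symm.trans (hB k hk).symm)
      · rw [if_neg hi, if_pos hk] at hik'
        exact hne i hi (hik'.trans (hB i hi).symm)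
      · rw [if_neg hi, if_neg hk] at hik'
        rcases hpair i k hi hk hne' with ⟨_, h2⟩ | ⟨_, h2⟩
        · exact h2 ((hB i hi).trans (hB k hk).symm)
        · exact h2 hik'
    · intro i
      by_cases hi : i = i₀
      · rw [hi, h0]
        simp
      · simp only [if_neg hi, if_true]
        rw [hτ i hi, hB i hi]
        simp

end Cfsg.Agent.S0198
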