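import Cfsg.Statements.S0170
import Cfsg.Statements.S0170
import Cfsg.Agent.S0198
import Cfsg.Agent.Lib.helper2.CharInd
import Cfsg.Agent.Lib.Helper11.IndTrans

set_option autoImplicit false
open Cfsg

namespace Cfsg.Agent.S0170

open Cfsg
open scoped ComplexConjugate

open Cfsg.Agent.Lib.helper2 Cfsg.Agent.Lib.helper7 Cfsg.Agent.Lib.Helper11 Cfsg.Agent.Lib.Helper25

theorem ti_ind {G : Type*} [Group G] [Fintype G] (S : Set G)
    (hTI : ∀ g : G, g ∉ Subgroup.normalizer S → ∀ s ∈ S, g * s * g⁻¹ ∈ S → s = 1)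
    (ψ : Subgroup.normalizer S → ℂ) (hcl : Cfsg.IsClassFunction (Subgroup.normalizer S) ψ)
    (hvan : ∀ x : Subgroup.normalizer S, (x : G) ∉ S → ψ x = 0)
    (x : Subgroup.normalizer S) (hxS : (x : G) ∈ S) (hx1 : x ≠ 1) :
    Cfsg.indFun (Subgroup.normalizer S) ψ x = ψ x := by
  classical
  have key : ∀ g : G, Cfsg.extendByZero (Subgroup.normalizer S) ψ (g⁻¹ * (x : G) * g) = if g ∈ (Subgroup.normalizer S) then ψ x else 0 := by
    intro g
    by_cases hg : g ∈ (Subgroup.normalizer S)
    · rw [if_pos hg]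
      have hmem : g⁻¹ * (x : G) * g ∈ (Subgroup.normalizer S) := (Subgroup.normalizer S).mul_mem ((Subgroup.normalizer S).mul_mem ((Subgroup.normalizer S).inv_mem hg) x.2) hg
      rw [h7_extendByZero_mem _ _ _ hmem]
      have := hcl x ⟨g⁻¹, (Subgroup.normalizer S).inv_mem hg⟩
      rw [← this]
      congr 1
      apply Subtype.ext
      simp
    · rw [if_neg hg]
      by_cases hmem : g⁻¹ * (x : G) * g ∈ (Subgroup.normalizer S)
      · rw [h7_extendByZero_mem _ _ _ hmem]
        apply hvan
        intro hS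
        have hg' : g⁻¹ ∉ (Subgroup.normalizer S) := fun h => hg (by simpa using (Subgroup.normalizer S).inv_mem h)
        have := hTI g⁻¹ hg' (x : G) hxS (by simpa using hS)
        exact hx1 (Subtype.ext this)
      · exact h7_extendByZero_not_mem _ _ _ hmem
  unfold Cfsg.indFun
  simp only [key]
  rw [Finset.sum_ite, Finset.sum_const_zero, add_zero, Finset.sum_const]
  have hcard : (Finset.univ.filter (fun g : G => g ∈ (Subgroup.normalizer S))).card = Nat.card (Subgroup.normalizer S) := by
    rw [Nat.card_eq_fintype_card, Fintype.card_subtype]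
  rw [hcard]
  have hne : (Nat.card (Subgroup.normalizer S) : ℂ) ≠ 0 := by exact_mod_cast Nat.card_pos.ne'
  rw [nsmul_eq_mul]
  field_simp

theorem indFun_sub' {G : Type*} [Group G] [Fintype G] (H : Subgroup G) (θ φ : H → ℂ) :
    Cfsg.indFun H (θ - φ) = Cfsg.indFun H θ - Cfsg.indFun H φ := by
  have : θ - φ = θ + (-1 : ℂ) • φ := by
    funext x
    simp [sub_eq_add_neg]
  rw [this, indFun_add, indFun_smul]
  funext x
  simp [sub_eq_add_neg]



/-- Exceptional characters. Let S be a subset of a finite group contained in its normalizer N and meeting its conjugates by elements outside N only in the identity. Given n ≥ 2 distinct irreducible characters of N of equal degree that vanish on N away from S, there exist a sign ε and n distinct irreducible characters θ_i of G such that inducing χ_i − χ_j to G gives ε (θ_i − θ_j) for all i, j. -/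
theorem result {G : Type*} [Group G] [Fintype G] (S : Set G) (hSN : S ⊆ Subgroup.normalizer S) (hTI : ∀ g : G, g ∉ Subgroup.normalizer S → ∀ s ∈ S, g * s * g⁻¹ ∈ S → s = 1) (n : ℕ) (hn : 2 ≤ n) (χ : Fin n → (Subgroup.normalizer S → ℂ)) (hirr : ∀ i, Cfsg.IsIrrCharacter (Subgroup.normalizer S) (χ i)) (hinj : Function.Injective χ) (hvan : ∀ i, ∀ x : Subgroup.normalizer S, (x : G) ∉ S → χ i x = 0) (hdeg : ∀ i j, χ i 1 = χ j 1) : ∃ ε : ℂ, (ε = 1 ∨ ε = -1) ∧ ∃ θ : Fin n → (G → ℂ), (∀ i, Cfsg.IsIrrCharacter G (θ i)) ∧ Function.Injective θ ∧ ∀ i j, Cfsg.indFun (Subgroup.normalizer S) (χ i) - Cfsg.indFun (Subgroup.normalizer S) (χ j) = ε • (θ i - θ j) := by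
  classical
  haveI : Fintype (Subgroup.normalizer S) := Fintype.ofFinite (Subgroup.normalizer S)
  set i₀ : Fin n := ⟨0, by omega⟩ with hi₀
  set φ : Fin n → ((Subgroup.normalizer S) → ℂ) := fun i => χ i - χ i₀ with hφ
  set τ : Fin n → (G → ℂ) := fun i => Cfsg.indFun (Subgroup.normalizer S) (χ i) - Cfsg.indFun (Subgroup.normalizer S) (χ i₀) with hτ
  have hτφ : ∀ i, τ i = Cfsg.indFun (Subgroup.normalizer S) (φ i) := by
    intro i
    rw [hφ, indFun_sub']
  have hchar : ∀ i, Cfsg.IsCharacter (Subgroup.normalizer S) (χ i) := fun i => isCharacter_of_irr ⟨χ i, hirr i⟩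
  have hφcl : ∀ i, Cfsg.IsClassFunction (Subgroup.normalizer S) (φ i) := by
    intro i g h
    simp only [hφ, Pi.sub_apply]
    rw [isCharacter_isClassFunction (hchar i) g h, isCharacter_isClassFunction (hchar i₀) g h]
  have hφvan : ∀ i, ∀ x : (Subgroup.normalizer S), (x : G) ∉ S → φ i x = 0 := by
    intro i x hx
    simp only [hφ, Pi.sub_apply]
    rw [hvan i x hx, hvan i₀ x hx, sub_zero]
  have hφ1 : ∀ i, φ i 1 = 0 := by
    intro i
    simp only [hφ, Pi.sub_apply]
    rw [hdeg i i₀, sub_self]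
  have h0 : τ i₀ = 0 := by simp [hτ]
  have hgen : ∀ i, Cfsg.IsGeneralizedCharacter G (τ i) := by
    intro i
    exact ⟨_, _, isCharacter_indFun (Subgroup.normalizer S) _ (hchar i), isCharacter_indFun (Subgroup.normalizer S) _ (hchar i₀), rfl⟩
  have hone : ∀ i, τ i 1 = 0 := by
    intro i
    rw [hτφ, h7_indFun_one, hφ1, mul_zero]
  have hgram : ∀ i j, i ≠ i₀ → j ≠ i₀ → Cfsg.classInner (τ i) (τ j) = if i = j then 2 else 1 := by
    intro i j hi hj
    rw [hτφ i, hτφ j, h7_frobenius_reciprocity (Subgroup.normalizer S) (φ i) _ (h7_indFun_isClassFunction (Subgroup.normalizer S) (φ j))]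
    have hstep : Cfsg.classInner (φ i) (fun h : (Subgroup.normalizer S) => Cfsg.indFun (Subgroup.normalizer S) (φ j) h) =
        Cfsg.classInner (φ i) (φ j) := by
      unfold Cfsg.classInner
      congr 1
      apply Finset.sum_congr rfl
      intro x _
      by_cases hx : (x : G) ∈ S ∧ x ≠ 1
      · show φ i x * conj (Cfsg.indFun (Subgroup.normalizer S) (φ j) (x : G)) = _
        rw [ti_ind S hTI (φ j) (hφcl j) (hφvan j) x hx.1 hx.2]
      · have : φ i x = 0 := by
          by_cases hxS : (x : G) ∈ S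
          · have hx1 : x = 1 := by
              by_contra h
              exact hx ⟨hxS, h⟩
            rw [hx1, hφ1]
          · exact hφvan i x hxS
        rw [this, zero_mul, zero_mul]
    rw [hstep]
    simp only [hφ]
    rw [classInner_sub_left, classInner_sub_right'', classInner_sub_right'']
    have horth : ∀ a b : Fin n, Cfsg.classInner (χ a) (χ b) = if a = b then 1 else 0 := by
      intro a b
      have := irr_classInner (⟨χ a, hirr a⟩ : Cfsg.IrrCharacter (Subgroup.normalizer S)) ⟨χ b, hirr b⟩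
      rw [this]
      by_cases hab : a = b
      · rw [if_pos hab, if_pos (by rw [hab])]
      · rw [if_neg hab, if_neg]
        intro h
        exact hab (hinj (congrArg Subtype.val h))
    rw [horth, horth, horth, horth, if_neg hi, if_neg (Ne.symm hj), if_pos rfl]
    split_ifs <;> norm_num
  obtain ⟨ε, hε, μ, hμirr, hμinj, hμ⟩ := Cfsg.Agent.S0198.result n i₀ τ h0 hgen hone hgram
  refine ⟨ε, hε, μ, hμirr, hμinj, ?_⟩
  intro i j
  have h1 := hμ i
  have h2 := hμ j
  simp only [hτ] at h1 h2
  have : Cfsg.indFun (Subgroup.normalizer S) (χ i) - Cfsg.indFun (Subgroup.normalizer S) (χ j) =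
      (Cfsg.indFun (Subgroup.normalizer S) (χ i) - Cfsg.indFun (Subgroup.normalizer S) (χ i₀)) - (Cfsg.indFun (Subgroup.normalizer S) (χ j) - Cfsg.indFun (Subgroup.normalizer S) (χ i₀)) := by
    abel
  rw [this, h1, h2, ← smul_sub]
  congr 1
  abel

end Cfsg.Agent.S0170
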