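import Cfsg.Statements.S0171
import Mathlib
import Cfsg.Prelude.Def_Characters
import Cfsg.Agent.Lib.helper2.Frobenius
import Cfsg.Agent.Lib.helper2.CharInd
import Cfsg.Agent.Lib.helper7.CharTools
import Cfsg.Agent.Lib.Helper11.IndNormal
import Cfsg.Agent.S1528

set_option autoImplicit false
open Cfsg

namespace Cfsg.Agent.S0171

open Cfsg.Agent.Lib.helper2 Cfsg.Agent.Lib.Helper25 Cfsg.Agent.Lib.helper7 Cfsg.Agent.Lib.Helper11
open scoped ComplexConjugate



/-- Let G = K H with K normal, K ⊓ H trivial, and no non-identity element of H commuting with a non-identity element of K (a Frobenius group with kernel K and complement H). Then every non-principal irreducible character of K induces to an irreducible character of G. -/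
theorem result {G : Type*} [Group G] [Fintype G] (K H : Subgroup G) [K.Normal] (hKH : K ⊓ H = ⊥) (hKH' : K ⊔ H = ⊤) (hfpf : ∀ h ∈ H, h ≠ 1 → ∀ k ∈ K, h * k = k * h → k = 1) (τ : K → ℂ) (hτ : Cfsg.IsIrrCharacter K τ) (hτ1 : τ ≠ fun _ => 1) : Cfsg.IsIrrCharacter G (Cfsg.indFun K τ) := by
  classical
  have _ := hKH
  have : Fintype K := Fintype.ofFinite K
  have hτc : Cfsg.IsCharacter K τ := isCharacter_of_irr ⟨τ, hτ⟩
  have hind : Cfsg.IsCharacter G (Cfsg.indFun K τ) := isCharacter_indFun K τ hτc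
  have hτ1ne : τ 1 ≠ 0 := irr_one_ne_zero ⟨τ, hτ⟩
  have hind1 : Cfsg.indFun K τ 1 ≠ 0 := by
    rw [h7_indFun_one]
    apply mul_ne_zero _ hτ1ne
    have : K.index ≠ 0 := Subgroup.index_ne_zero_of_finite
    exact_mod_cast this
  obtain ⟨χ, m, hm, hχm⟩ := isCharacter_exists_constituent hind hind1
  have hχne : Cfsg.classInner (Cfsg.indFun K τ) (χ : G → ℂ) ≠ 0 := by
    rw [hχm]; exact_mod_cast hm.ne'
  have hχcl : Cfsg.IsClassFunction G (χ : G → ℂ) := isCharacter_isClassFunction (isCharacter_of_irr χ)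
  have hfr := h7_frobenius_reciprocity K τ (χ : G → ℂ) hχcl
  -- K is not in the kernel of χ
  have hker : ∃ n ∈ K, (χ : G → ℂ) n ≠ (χ : G → ℂ) 1 := by
    by_contra hcon
    have hall : ∀ n : K, (χ : G → ℂ) (n : G) = (χ : G → ℂ) 1 := by
      intro n
      by_contra hne
      exact hcon ⟨n, n.2, hne⟩
    apply hχne
    rw [hfr]
    have h1 : (fun h : K => (χ : G → ℂ) (h : G)) = (χ : G → ℂ) 1 • (fun _ : K => (1 : ℂ)) := by
      funext n
      rw [hall n]
      simp
    rw [h1, h7_classInner_smul_right]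
    have h2 : Cfsg.classInner τ (fun _ : K => (1 : ℂ)) = 0 :=
      h7_irr_inner_ne hτ (trivIrr K).2 hτ1
    rw [h2, mul_zero]
  have hC : ∀ n ∈ K, n ≠ 1 → Subgroup.centralizer ({n} : Set G) ≤ K :=
    fun n hn hn1 => frob_centralizer_le K H hKH' hfpf n hn hn1
  obtain ⟨φ, hφ, hχφ⟩ := Cfsg.Agent.S1528.result K hC (χ : G → ℂ) χ.2 hker
  have hconj : ∃ g : G, τ = cj K φ g := by
    by_contra hcon
    apply hχne
    rw [hχφ]
    exact classInner_indFun_of_not_conj K φ τ hφ hτ hcon
  obtain ⟨g, hg⟩ := hconj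
  rw [hg, indFun_cj, ← hχφ]
  exact χ.2

end Cfsg.Agent.S0171
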