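import Cfsg.Statements.S0172
import Cfsg.Statements.S0172
import Cfsg.Agent.Lib.helper2.Frobenius

set_option autoImplicit false
open Cfsg

namespace Cfsg.Agent.S0172

open Cfsg

open Cfsg.Agent.Lib.helper2

theorem cp_sum (X : Type*) [Group X] [Fintype X] [DecidableEq X] :
    ∑ g : X, Nat.card {y : X // Commute g y} = Nat.card (ConjClasses X) * Nat.card X := by
  rw [← card_comm_eq_card_conjClasses_mul_card,
    Nat.card_congr (Equiv.subtypeProdEquivSigmaSubtype Commute), Nat.card_sigma]

theorem cc_conj {G : Type*} [Group G] [Fintype G] [DecidableEq G] (g d : G) :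
    Nat.card {y : G // Commute (d * g * d⁻¹) y} = Nat.card {y : G // Commute g y} := by
  symm
  apply Nat.card_congr
  refine Equiv.subtypeEquiv (MulAut.conj d).toEquiv ?_
  intro y
  simp only [MulEquiv.toEquiv_eq_coe, EquivLike.coe_coe, MulAut.conj_apply]
  constructor
  · intro h
    have := h.eq
    show d * g * d⁻¹ * (d * y * d⁻¹) = d * y * d⁻¹ * (d * g * d⁻¹)
    calc d * g * d⁻¹ * (d * y * d⁻¹) = d * (g * y) * d⁻¹ := by group
      _ = d * (y * g) * d⁻¹ := by rw [this]
      _ = d * y * d⁻¹ * (d * g * d⁻¹) := by group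
  · intro h
    have h' : d * g * d⁻¹ * (d * y * d⁻¹) = d * y * d⁻¹ * (d * g * d⁻¹) := h
    show g * y = y * g
    calc g * y = d⁻¹ * (d * g * d⁻¹ * (d * y * d⁻¹)) * d := by group
      _ = d⁻¹ * (d * y * d⁻¹ * (d * g * d⁻¹)) * d := by rw [h']
      _ = y * g := by group

theorem cc_sub {G : Type*} [Group G] [Fintype G] [DecidableEq G] (L : Subgroup G) (x : L)
    (hle : ∀ y : G, Commute (x : G) y → y ∈ L) :
    Nat.card {y : L // Commute x y} = Nat.card {y : G // Commute (x : G) y} := by
  apply Nat.card_congr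
  refine ⟨fun y => ⟨(y.1 : G), ?_⟩, fun y => ⟨⟨y.1, hle y.1 y.2⟩, ?_⟩, ?_, ?_⟩
  · have := y.2.eq
    show (x : G) * (y.1 : G) = (y.1 : G) * (x : G)
    exact_mod_cast congrArg Subtype.val this
  · have := y.2.eq
    show x * ⟨y.1, hle y.1 y.2⟩ = ⟨y.1, hle y.1 y.2⟩ * x
    exact Subtype.ext this
  · intro y
    rfl
  · intro y
    rfl

theorem cc_one {X : Type*} [Group X] [Fintype X] [DecidableEq X] :
    Nat.card {y : X // Commute (1 : X) y} = Nat.card X := by
  apply Nat.card_congr
  exact Equiv.subtypeUnivEquiv (fun y => Commute.one_left y)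



/-- Class number of a Frobenius group: if G = K H with K normal, K ⊓ H trivial and no non-identity element of H commuting with a non-identity element of K, then |H| * k(G) + 1 = |H| * k(H) + k(K), where k denotes the number of conjugacy classes. -/
theorem result {G : Type*} [Group G] [Finite G] (K H : Subgroup G) [K.Normal] (hKH : K ⊓ H = ⊥) (hKH' : K ⊔ H = ⊤) (hfpf : ∀ h ∈ H, h ≠ 1 → ∀ k ∈ K, h * k = k * h → k = 1) : Nat.card H * Nat.card (ConjClasses G) + 1 = Nat.card H * Nat.card (ConjClasses H) + Nat.card (ConjClasses K) := by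
  classical
  haveI := Fintype.ofFinite G
  have hcompl : K.IsComplement' H := by
    apply Subgroup.isComplement'_of_disjoint_and_mul_eq_univ (disjoint_iff.mpr hKH)
    rw [← Subgroup.normal_mul, hKH']
    rfl
  have hcardG : Nat.card K * Nat.card H = Nat.card G := hcompl.card_mul_card
  set e : K × H ≃ G := Equiv.ofBijective _ hcompl with he
  have he_apply : ∀ p : K × H, e p = (p.1 : G) * (p.2 : G) := fun p => rfl
  set c : G → ℕ := fun g => Nat.card {y : G // Commute g y} with hc
  have htotal : ∑ g : G, c g = ∑ x : K, ∑ h : H, c ((x : G) * (h : G)) := by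
    rw [← Equiv.sum_comp e, Fintype.sum_prod_type]
    rfl
  have hH_cent : ∀ h : H, h ≠ 1 → ∀ y : G, Commute (h : G) y → y ∈ H := by
    intro h hh1 y hy
    have hy' : y ∈ K ⊔ H := hKH' ▸ Subgroup.mem_top y
    rw [Subgroup.mem_sup_of_normal_left] at hy'
    obtain ⟨x', hx', h', hh', rfl⟩ := hy'
    have hcomm := hy.eq
    have hxk : (h : G) * x' * (h : G)⁻¹ ∈ K :=
      Subgroup.Normal.conj_mem inferInstance x' hx' h
    have h1 : (⟨x', hx'⟩ : K) = ⟨(h : G) * x' * (h : G)⁻¹, hxk⟩ ∧
        (⟨h' * (h : G), H.mul_mem hh' h.2⟩ : H) = ⟨(h : G) * h', H.mul_mem h.2 hh'⟩ := by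
      have hinj := hcompl.1
      have : (fun p : K × H => (p.1 : G) * (p.2 : G)) (⟨x', hx'⟩, ⟨h' * (h : G), H.mul_mem hh' h.2⟩) =
          (fun p : K × H => (p.1 : G) * (p.2 : G))
            (⟨(h : G) * x' * (h : G)⁻¹, hxk⟩, ⟨(h : G) * h', H.mul_mem h.2 hh'⟩) := by
        show x' * (h' * (h : G)) = (h : G) * x' * (h : G)⁻¹ * ((h : G) * h')
        calc x' * (h' * (h : G)) = x' * h' * (h : G) := by group
          _ = (h : G) * (x' * h') := hcomm.symm
          _ = (h : G) * x' * (h : G)⁻¹ * ((h : G) * h') := by group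
      have := hinj this
      exact ⟨congrArg Prod.fst this, congrArg Prod.snd this⟩
    have h2 : x' = (h : G) * x' * (h : G)⁻¹ := congrArg Subtype.val h1.1
    have h3 : (h : G) * x' = x' * (h : G) := by
      calc (h : G) * x' = ((h : G) * x' * (h : G)⁻¹) * (h : G) := by group
        _ = x' * (h : G) := by rw [← h2]
    have hne : (h : G) ≠ 1 := fun hh => hh1 (Subtype.ext hh)
    have := hfpf h h.2 hne x' hx' h3
    rw [this, one_mul]
    exact hh'
  have hK_cent : ∀ x : K, x ≠ 1 → ∀ y : G, Commute (x : G) y → y ∈ K := by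
    intro x hx1 y hy
    have hne : (x : G) ≠ 1 := fun hh => hx1 (Subtype.ext hh)
    apply frob_centralizer_le K H hKH' hfpf x x.2 hne
    rw [Subgroup.mem_centralizer_singleton_iff]
    exact hy.eq.symm
  have hrow : ∀ x : K, ∑ h : H, c ((x : G) * (h : G)) + Nat.card H =
      c (x : G) + ∑ h : H, Nat.card {y : H // Commute h y} := by
    intro x
    rw [← Finset.add_sum_erase Finset.univ (fun h : H => c ((x : G) * (h : G))) (Finset.mem_univ 1),
      ← Finset.add_sum_erase Finset.univ (fun h : H => Nat.card {y : H // Commute h y})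
        (Finset.mem_univ 1)]
    have h1 : ∑ h ∈ Finset.univ.erase (1 : H), c ((x : G) * (h : G)) =
        ∑ h ∈ Finset.univ.erase (1 : H), Nat.card {y : H // Commute h y} := by
      apply Finset.sum_congr rfl
      intro h hh
      have hh1 : h ≠ 1 := Finset.ne_of_mem_erase hh
      have hne : (h : G) ≠ 1 := fun hh' => hh1 (Subtype.ext hh')
      obtain ⟨d, -, hd⟩ := frob_coset_conj K H hfpf h h.2 hne x x.2
      rw [hd]
      show Nat.card {y : G // Commute (d * (h : G) * d⁻¹) y} = _
      rw [cc_conj, cc_sub H h (hH_cent h hh1)]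
    rw [h1, cc_one]
    simp only [Subgroup.coe_one, mul_one]
    ring
  have hcol : ∑ x : K, c (x : G) + Nat.card K =
      Nat.card G + ∑ x : K, Nat.card {y : K // Commute x y} := by
    rw [← Finset.add_sum_erase Finset.univ (fun x : K => c (x : G)) (Finset.mem_univ 1),
      ← Finset.add_sum_erase Finset.univ (fun x : K => Nat.card {y : K // Commute x y})
        (Finset.mem_univ 1)]
    have h1 : ∑ x ∈ Finset.univ.erase (1 : K), c (x : G) =
        ∑ x ∈ Finset.univ.erase (1 : K), Nat.card {y : K // Commute x y} := by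
      apply Finset.sum_congr rfl
      intro x hx
      have hx1 : x ≠ 1 := Finset.ne_of_mem_erase hx
      show Nat.card {y : G // Commute (x : G) y} = _
      rw [cc_sub K x (hK_cent x hx1)]
    have h2 : c ((1 : K) : G) = Nat.card G := by
      show Nat.card {y : G // Commute ((1 : K) : G) y} = _
      rw [Subgroup.coe_one, cc_one]
    rw [h1, h2, cc_one]
    ring
  have hG := cp_sum G
  have hK := cp_sum K
  have hH := cp_sum H
  have hsum1 : ∑ g : G, c g + Nat.card K * Nat.card H =
      ∑ x : K, c (x : G) + Nat.card K * ∑ h : H, Nat.card {y : H // Commute h y} := by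
    rw [htotal]
    have : ∑ x : K, (∑ h : H, c ((x : G) * (h : G)) + Nat.card H) =
        ∑ x : K, (c (x : G) + ∑ h : H, Nat.card {y : H // Commute h y}) :=
      Finset.sum_congr rfl (fun x _ => hrow x)
    rw [Finset.sum_add_distrib, Finset.sum_add_distrib, Finset.sum_const, Finset.sum_const,
      Finset.card_univ, smul_eq_mul, smul_eq_mul, ← Nat.card_eq_fintype_card] at this
    exact this
  have hKpos : 0 < Nat.card K := Nat.card_pos
  have hfinal : Nat.card K * (Nat.card H * Nat.card (ConjClasses G) + 1) =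
      Nat.card K * (Nat.card H * Nat.card (ConjClasses H) + Nat.card (ConjClasses K)) := by
    have e1 : ∑ g : G, c g = Nat.card (ConjClasses G) * Nat.card G := hG
    rw [hH] at hsum1
    rw [hK] at hcol
    rw [e1] at hsum1
    rw [← hcardG] at hsum1 hcol
    nlinarith [hsum1, hcol]
  exact Nat.eq_of_mul_eq_mul_left hKpos hfinal

end Cfsg.Agent.S0172
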