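import Cfsg.Statements.S0173
import Mathlib
import Cfsg.Prelude.Def_Characters
import Cfsg.Agent.S0860
import Cfsg.Agent.Lib.Helper11.IndNormal

set_option autoImplicit false
open Cfsg

namespace Cfsg.Agent.S0173

open scoped ComplexConjugate
open Cfsg.Agent.Lib.Helper25 Cfsg.Agent.Lib.Helper11

theorem irr_comp_equiv {G : Type*} [Group G] (χ : Cfsg.IrrCharacter G) (a : G ≃* G) :
    Cfsg.IsIrrCharacter G (fun g => (χ : G → ℂ) (a g)) := by
  obtain ⟨n, ρ, hρ, hχ⟩ := χ.2
  haveI := hρ
  refine ⟨n, ρ.comp a.toMonoidHom, isIrreducible_comp_equiv ρ a, ?_⟩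
  funext g
  rw [← hχ]
  rfl

noncomputable def actIrr (G : Type*) [Group G] : MulAction (MulAut G) (Cfsg.IrrCharacter G) where
  smul a χ := ⟨fun g => (χ : G → ℂ) ((a⁻¹ : MulAut G) g), irr_comp_equiv χ (a⁻¹ : MulAut G)⟩
  one_smul χ := by
    apply Subtype.ext
    funext g
    show (χ : G → ℂ) (((1 : MulAut G)⁻¹ : MulAut G) g) = (χ : G → ℂ) g
    simp
  mul_smul a b χ := by
    apply Subtype.ext
    funext g
    show (χ : G → ℂ) (((a * b)⁻¹ : MulAut G) g) = (χ : G → ℂ) ((b⁻¹ : MulAut G) ((a⁻¹ : MulAut G) g))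
    simp [mul_inv_rev]

noncomputable def actCl (G : Type*) [Group G] : MulAction (MulAut G) (ConjClasses G) where
  smul a C := ConjClasses.map (a : G ≃* G).toMonoidHom C
  one_smul C := by
    induction C using Quotient.inductionOn with
    | _ g => rfl
  mul_smul a b C := by
    induction C using Quotient.inductionOn with
    | _ g => rfl



/-- Brauer's permutation lemma for a single automorphism: the number of conjugacy classes mapped to themselves equals the number of irreducible complex characters χ with χ ∘ α = χ. -/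
theorem result {G : Type*} [Group G] [Finite G] (α : G ≃* G) : Nat.card {C : ConjClasses G // ConjClasses.map α.toMonoidHom C = C} = Nat.card {χ : Cfsg.IrrCharacter G // (χ : G → ℂ) ∘ α = (χ : G → ℂ)} := by
  letI i1 := actIrr G
  letI i2 := actCl G
  have hsm1 : ∀ (a : MulAut G) (χ : Cfsg.IrrCharacter G) (g : G), ((a • χ : Cfsg.IrrCharacter G) : G → ℂ) g = (χ : G → ℂ) ((a⁻¹ : MulAut G) g) := fun a χ g => rfl
  have hsm2 : ∀ (a : MulAut G) (g : G), a • (ConjClasses.mk g) = ConjClasses.mk (a g) := fun a g => rfl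
  have hcompat : ∀ (a : MulAut G) (χ : Cfsg.IrrCharacter G) (g g' : G), ConjClasses.mk g' = a • ConjClasses.mk g → ((a • χ : Cfsg.IrrCharacter G) : G → ℂ) g' = (χ : G → ℂ) g := by
    intro a χ g g' h
    rw [hsm2, ConjClasses.mk_eq_mk_iff_isConj] at h
    obtain ⟨c, hc⟩ := isConj_iff.mp h
    rw [hsm1]
    have h1 : g = (a⁻¹ : MulAut G) (c * g' * c⁻¹) := by
      rw [hc]; simp
    rw [h1, map_mul, map_mul, map_inv, irr_conj_invariant]
  have h := Cfsg.Agent.S0860.result (A := MulAut G) hcompat (α : MulAut G)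
  have h' : Nat.card {C : ConjClasses G // ConjClasses.map α.toMonoidHom C = C} =
      Nat.card {C : ConjClasses G // (α : MulAut G) • C = C} := rfl
  rw [h', ← h]
  symm
  apply Nat.card_congr
  apply Equiv.subtypeEquivRight
  intro χ
  constructor
  · intro h1
    apply Subtype.ext
    funext g
    rw [hsm1]
    have := congrFun h1 ((α⁻¹ : MulAut G) g)
    simp only [Function.comp_apply] at this
    rw [← this]
    simp
  · intro h1
    funext g
    have h2 := congrArg (fun ψ : Cfsg.IrrCharacter G => (ψ : G → ℂ) (α g)) h1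
    simp only [hsm1] at h2
    simp only [Function.comp_apply]
    rw [← h2]
    simp

end Cfsg.Agent.S0173
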