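import Cfsg.Statements.S0177
import Cfsg.Statements.S0177
import Cfsg.Agent.Lib.helper2.GaloisTrace
import Cfsg.Agent.Lib.helper2.CharNat
import Cfsg.Agent.Lib.Helper11.IndTrans
import Cfsg.Agent.Lib.helper7.CharMul
import Cfsg.Agent.Lib.Helper25.CharOrth
import Cfsg.Agent.Lib.Helper25.CharLinear
import Cfsg.Agent.Lib.Helper25.CharAbelian
import Cfsg.Agent.Lib.Helper25.CharReal

set_option autoImplicit false
open Cfsg

namespace Cfsg.Agent.S0177

open Cfsg
open scoped ComplexConjugate
open Polynomial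

open Cfsg.Agent.Lib.helper2 Cfsg.Agent.Lib.helper7 Cfsg.Agent.Lib.Helper11 Cfsg.Agent.Lib.Helper25 Cfsg.Agent.Lib.Helper24

theorem zpowers_pow_eq_iff {G : Type*} [Group G] [Finite G] (g : G) (k : ℕ) :
    Subgroup.zpowers (g ^ k) = Subgroup.zpowers g ↔ Nat.Coprime (orderOf g) k := by
  constructor
  · intro h
    have h1 : orderOf (g ^ k) = orderOf g := by
      rw [← Nat.card_zpowers (g ^ k), ← Nat.card_zpowers g, h]
    rw [orderOf_pow] at h1
    have hpos : 0 < orderOf g := orderOf_pos g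
    rcases Nat.div_eq_self.mp h1 with h0 | h2
    · omega
    · exact h2
  · intro h
    have h1 : orderOf (g ^ k) = orderOf g := h.orderOf_pow
    apply Subgroup.eq_of_le_of_card_ge
    · exact Subgroup.zpowers_le.mpr (Subgroup.pow_mem _ (Subgroup.mem_zpowers g) k)
    · rw [Nat.card_zpowers, Nat.card_zpowers, h1]

open Classical in
theorem gen_sum_int {G : Type*} [Group G] [Fintype G] (g : G) (ψ : Subgroup.zpowers g → ℂ)
    (hψ : Cfsg.IsCharacter (Subgroup.zpowers g) ψ) :
    ∃ z : ℤ, (∑ a : Subgroup.zpowers g,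
      if Subgroup.zpowers (a : G) = Subgroup.zpowers g then ψ a else 0) = (z : ℂ) := by
  classical
  set n := orderOf g with hn
  have hnpos : 0 < n := orderOf_pos g
  have hcard : Nat.card (Subgroup.zpowers g) = n := Nat.card_zpowers g
  set ζ : ℂ := Complex.exp (2 * Real.pi * Complex.I / n) with hζdef
  have hζ : IsPrimitiveRoot ζ n := Complex.isPrimitiveRoot_exp n hnpos.ne'
  set a₀ : Subgroup.zpowers g := ⟨g, Subgroup.mem_zpowers g⟩ with ha₀
  obtain ⟨f, hf⟩ := gn_char_poly hψ a₀ ζ (by rw [hcard]; exact hζ)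
  have hfo : IsOfFinOrder g := isOfFinOrder_of_finite g
  have hsum : (∑ a : Subgroup.zpowers g,
      if Subgroup.zpowers (a : G) = Subgroup.zpowers g then ψ a else 0) =
      ∑ k ∈ (Finset.range n).filter (Nat.Coprime n), aeval (ζ ^ k) f := by
    rw [← Equiv.sum_comp (finEquivZPowers hfo)]
    rw [Finset.sum_filter]
    rw [← Fin.sum_univ_eq_sum_range (fun k => if Nat.Coprime n k then aeval (ζ ^ k) f else 0) n]
    apply Finset.sum_congr rfl
    intro i _
    have hi : (finEquivZPowers hfo i) = a₀ ^ (i : ℕ) := by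
      apply Subtype.ext
      rw [finEquivZPowers_apply]
      simp [ha₀]
    rw [hi, hf]
    have hc : ((a₀ ^ (i : ℕ) : Subgroup.zpowers g) : G) = g ^ (i : ℕ) := by simp [ha₀]
    rw [hc]
    by_cases hco : Nat.Coprime n (i : ℕ)
    · rw [if_pos hco, if_pos ((zpowers_pow_eq_iff g i).mpr hco)]
    · rw [if_neg hco, if_neg (fun h => hco ((zpowers_pow_eq_iff g i).mp h))]
  rw [hsum]
  obtain ⟨q, hq⟩ := gt_sum_range n hnpos f ζ hζ
  have hint : IsIntegral ℤ (∑ k ∈ (Finset.range n).filter (Nat.Coprime n), aeval (ζ ^ k) f) := by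
    apply IsIntegral.sum
    intro k _
    apply gn_isIntegral_aeval
    apply IsIntegral.pow
    exact hζ.isIntegral hnpos
  rw [hq] at hint ⊢
  have hq' : IsIntegral ℤ q := by
    rw [← isIntegral_algebraMap_iff (algebraMap ℚ ℂ).injective]
    simpa using hint
  obtain ⟨z, hz⟩ := IsIntegrallyClosed.isIntegral_iff.mp hq'
  refine ⟨z, ?_⟩
  rw [← hz]
  simp

theorem list_assembly {G : Type*} [Group G] [Fintype G] {ι : Type*} (s : Finset ι)
    (F : ι → G → ℂ)
    (h : ∀ i ∈ s, ∃ l : List ((A : Subgroup G) × ((A →* ℂˣ) × ℤ)), (∀ t ∈ l, IsCyclic t.1) ∧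
      F i = (l.map fun t => (t.2.2 : ℂ) • Cfsg.indFun t.1 (fun a => (t.2.1 a : ℂ))).sum) :
    ∃ l : List ((A : Subgroup G) × ((A →* ℂˣ) × ℤ)), (∀ t ∈ l, IsCyclic t.1) ∧
      ∑ i ∈ s, F i = (l.map fun t => (t.2.2 : ℂ) • Cfsg.indFun t.1 (fun a => (t.2.1 a : ℂ))).sum := by
  classical
  induction s using Finset.induction_on with
  | empty => exact ⟨[], by simp, by simp⟩
  | insert a s ha ih =>
    obtain ⟨l1, hl1, hs1⟩ := h a (Finset.mem_insert_self a s)
    obtain ⟨l2, hl2, hs2⟩ := ih (fun i hi => h i (Finset.mem_insert_of_mem hi))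
    refine ⟨l1 ++ l2, ?_, ?_⟩
    · intro t ht
      rcases List.mem_append.mp ht with h1 | h2
      · exact hl1 t h1
      · exact hl2 t h2
    · rw [Finset.sum_insert ha, List.map_append, List.sum_append, ← hs1, ← hs2]



/-- The Artin induction Theorem: for a character χ of a finite group, |G| • χ is a ℤ-linear combination of functions induced from homomorphisms of cyclic subgroups into ℂˣ. -/
theorem result {G : Type*} [Group G] [Fintype G] (χ : G → ℂ) (hχ : Cfsg.IsCharacter G χ) : ∃ l : List ((A : Subgroup G) × ((A →* ℂˣ) × ℤ)), (∀ t ∈ l, IsCyclic t.1) ∧ (Nat.card G : ℂ) • χ = (l.map fun t => (t.2.2 : ℂ) • Cfsg.indFun t.1 (fun a => (t.2.1 a : ℂ))).sum := by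
  classical
  set S : Finset (Subgroup G) := Finset.univ.image (fun g : G => Subgroup.zpowers g) with hS
  set θ : (A : Subgroup G) → A → ℂ := fun A a =>
    if Subgroup.zpowers (a : G) = A then (Nat.card A : ℂ) else 0 with hθ
  have hext : ∀ (A : Subgroup G) (z : G), Cfsg.extendByZero A (θ A) z =
      if Subgroup.zpowers z = A then (Nat.card A : ℂ) else 0 := by
    intro A z
    by_cases hz : z ∈ A
    · rw [h7_extendByZero_mem A _ z hz]
    · rw [h7_extendByZero_not_mem A _ z hz, if_neg]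
      intro h
      apply hz
      rw [← h]
      exact Subgroup.mem_zpowers z
  have hind : ∀ (A : Subgroup G) (y : G), Cfsg.indFun A (θ A) y =
      ∑ x : G, if Subgroup.zpowers (x⁻¹ * y * x) = A then (1 : ℂ) else 0 := by
    intro A y
    unfold Cfsg.indFun
    rw [Finset.mul_sum]
    apply Finset.sum_congr rfl
    intro x _
    rw [hext]
    have hne : (Nat.card A : ℂ) ≠ 0 := by exact_mod_cast Nat.card_pos.ne'
    split_ifs
    · exact inv_mul_cancel₀ hne
    · exact mul_zero _
  have h1 : ∀ y : G, ∑ A ∈ S, Cfsg.indFun A (θ A) y = (Nat.card G : ℂ) := by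
    intro y
    simp only [hind]
    rw [Finset.sum_comm]
    have : ∀ x : G, (∑ A ∈ S, if Subgroup.zpowers (x⁻¹ * y * x) = A then (1 : ℂ) else 0) = 1 := by
      intro x
      rw [Finset.sum_ite_eq]
      rw [if_pos]
      exact Finset.mem_image.mpr ⟨_, Finset.mem_univ _, rfl⟩
    simp only [this]
    simp [Nat.card_eq_fintype_card]
  have hχcl : Cfsg.IsClassFunction G χ := isCharacter_isClassFunction hχ
  have h2 : (Nat.card G : ℂ) • χ = ∑ A ∈ S, Cfsg.indFun A (θ A * fun a : A => χ a) := by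
    funext y
    rw [Finset.sum_apply]
    simp only [h7_indFun_mul_restrict _ _ _ hχcl, Pi.mul_apply, Pi.smul_apply, smul_eq_mul]
    rw [← Finset.sum_mul, h1]
  rw [h2]
  apply list_assembly
  intro A hA
  obtain ⟨g, -, rfl⟩ := Finset.mem_image.mp hA
  haveI := Fintype.ofFinite (Cfsg.IrrCharacter (Subgroup.zpowers g))
  set φ : Subgroup.zpowers g → ℂ := θ (Subgroup.zpowers g) * fun a : Subgroup.zpowers g => χ a with hφ
  have hφcl : ∀ a b : Subgroup.zpowers g, φ (b * a * b⁻¹) = φ a := by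
    intro a b
    have : b * a * b⁻¹ = a := by
      have hc : b * a = a * b := IsMulCommutative.is_comm.comm b a
      rw [hc, mul_assoc, mul_inv_cancel, mul_one]
    rw [this]
  have hexp := classFunction_expansion φ hφcl
  rw [hexp, indFun_sum]
  apply list_assembly
  intro μ _
  have hμ1 : (μ : Subgroup.zpowers g → ℂ) 1 = 1 := gn_irr_one_of_isMulCommutative μ
  have hψ : Cfsg.IsCharacter (Subgroup.zpowers g)
      ((fun a : Subgroup.zpowers g => χ a) * (irrConj μ : Subgroup.zpowers g → ℂ)) :=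
    h7_isCharacter_mul (isCharacter_restrict hχ _) (isCharacter_of_irr (irrConj μ))
  obtain ⟨z, hz⟩ := gen_sum_int g _ hψ
  have hcoef : Cfsg.classInner φ (μ : Subgroup.zpowers g → ℂ) = (z : ℂ) := by
    rw [← hz]
    unfold Cfsg.classInner
    rw [Finset.mul_sum]
    apply Finset.sum_congr rfl
    intro a _
    have hne : (Nat.card (Subgroup.zpowers g) : ℂ) ≠ 0 := by exact_mod_cast Nat.card_pos.ne'
    simp only [hφ, hθ, Pi.mul_apply, irrConj_apply]
    split_ifs
    · field_simp
    · simp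
  refine ⟨[⟨Subgroup.zpowers g, (irrLinearHom μ hμ1, z)⟩], ?_, ?_⟩
  · intro t ht
    rw [List.mem_singleton] at ht
    rw [ht]
    infer_instance
  · simp only [List.map_cons, List.map_nil, List.sum_cons, List.sum_nil, add_zero]
    rw [indFun_smul, hcoef]
    rfl

end Cfsg.Agent.S0177
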