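import Cfsg.Statements.S0178
import Mathlib
import Cfsg.Prelude.Def_Characters
import Cfsg.Agent.Lib.helper2.CharInd

set_option autoImplicit false
open Cfsg

namespace Cfsg.Agent.S0178


open Cfsg.Agent.Lib.helper2 Cfsg.Agent.Lib.Helper25 Cfsg.Agent.Lib.helper7



/-- The degree of an irreducible complex representation of a finite group is at most the index of any abelian subgroup. -/
theorem result {G : Type*} [Group G] [Finite G] {V : Type*} [AddCommGroup V] [Module ℂ V] [FiniteDimensional ℂ V] (ρ : Representation ℂ G V) [ρ.IsIrreducible] (A : Subgroup G) (hA : ∀ a ∈ A, ∀ b ∈ A, a * b = b * a) : Module.finrank ℂ V ≤ A.index := by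
  classical
  have : Fintype G := Fintype.ofFinite G
  have : Fintype A := Fintype.ofFinite A
  let χ : Cfsg.IrrCharacter G := ⟨ρ.character, isIrrCharacter_of_irreducible ρ⟩
  have hχ1 : (χ : G → ℂ) 1 = (Module.finrank ℂ V : ℂ) := Representation.char_one ρ
  have hres : Cfsg.IsCharacter A (fun a : A => (χ : G → ℂ) a) :=
    isCharacter_restrict (isCharacter_of_irr χ) A
  have hne : (fun a : A => (χ : G → ℂ) a) 1 ≠ 0 := by
    show (χ : G → ℂ) ((1 : A) : G) ≠ 0
    rw [Subgroup.coe_one]
    exact irr_one_ne_zero χ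
  obtain ⟨lam, m, hm0, hm⟩ := isCharacter_exists_constituent hres hne
  have hcomm : IsMulCommutative A := ⟨⟨fun a b => Subtype.ext (hA a a.2 b b.2)⟩⟩
  have hlam1 : (lam : A → ℂ) 1 = 1 := by
    obtain ⟨n, σ, hσ, hl⟩ := lam.2
    have h1 := Representation.IsIrreducible.finrank_eq_one_of_isMulCommutative σ
    rw [← hl, Representation.char_one, h1, Nat.cast_one]
  have hind := isCharacter_indFun A (lam : A → ℂ) (isCharacter_of_irr lam)
  have hfr : Cfsg.classInner (Cfsg.indFun A (lam : A → ℂ)) (χ : G → ℂ) = (m : ℂ) := by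
    rw [h7_frobenius_reciprocity A (lam : A → ℂ) (χ : G → ℂ)
      (isCharacter_isClassFunction (isCharacter_of_irr χ))]
    exact classInner_symm_of_nat _ _ m hm
  have hind1 : Cfsg.indFun A (lam : A → ℂ) 1 = (A.index : ℂ) := by
    rw [h7_indFun_one, hlam1, mul_one]
  have := isCharacter_degree_ge hind χ m A.index (Module.finrank ℂ V) hfr hind1 hχ1
  calc Module.finrank ℂ V ≤ m * Module.finrank ℂ V := Nat.le_mul_of_pos_left _ hm0
    _ ≤ A.index := this

end Cfsg.Agent.S0178
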