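import Cfsg.Statements.S0180
import Mathlib
import Cfsg.Prelude.Def_Characters
import Cfsg.Agent.Lib.helper2.GaloisTrace
import Cfsg.Agent.Lib.Helper25.CharOrth

set_option autoImplicit false
open Cfsg

namespace Cfsg.Agent.S0180

open Cfsg.Agent.Lib.helper2 Cfsg.Agent.Lib.Helper25 Cfsg.Agent.Lib.Helper24
open Polynomial



/-- Every irreducible complex character of a finite group takes only rational values if and only if g is conjugate to g ^ m for every element g and every m coprime to the group order. -/
theorem result {G : Type*} [Group G] [Finite G] : (∀ χ : Cfsg.IrrCharacter G, ∀ g : G, ∃ q : ℚ, (χ : G → ℂ) g = (q : ℂ)) ↔ ∀ m : ℕ, m.Coprime (Nat.card G) → ∀ g : G, IsConj g (g ^ m) := by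
  classical
  set n := Nat.card G with hn
  have hnpos : 0 < n := Nat.card_pos
  set ζ : ℂ := Complex.exp (2 * Real.pi * Complex.I / n) with hζdef
  have hζ : IsPrimitiveRoot ζ n := Complex.isPrimitiveRoot_exp n hnpos.ne'
  constructor
  · intro hrat m hm g
    apply isConj_of_irr_eq
    intro χ
    obtain ⟨f, hf⟩ := gn_char_poly (isCharacter_of_irr χ) g ζ hζ
    obtain ⟨q, hq⟩ := hrat χ g
    have h1 : aeval ζ f = (q : ℂ) := by
      have := hf 1
      rw [pow_one, pow_one] at this
      rw [this, hq]
    have h2 := gt_conj_eq n hnpos f ζ hζ q h1 m hm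
    rw [hf m] at h2
    rw [h2, hq]
  · intro hconj χ g
    obtain ⟨f, hf⟩ := gn_char_poly (isCharacter_of_irr χ) g ζ hζ
    obtain ⟨q, hq⟩ := gt_sum_range n hnpos f ζ hζ
    have hcl := isCharacter_isClassFunction (isCharacter_of_irr χ)
    have hterm : ∀ k ∈ (Finset.range n).filter (Nat.Coprime n), aeval (ζ ^ k) f = (χ : G → ℂ) g := by
      intro k hk
      rw [hf k]
      have hk' : Nat.Coprime k n := (Finset.mem_filter.mp hk).2.symm
      obtain ⟨c, hc⟩ := isConj_iff.mp (hconj k hk' g)
      rw [← hc]
      exact hcl g c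
    rw [Finset.sum_congr rfl hterm, Finset.sum_const, nsmul_eq_mul] at hq
    have hcard : ((Finset.range n).filter (Nat.Coprime n)).card ≠ 0 := by
      apply Finset.card_ne_zero.mpr
      by_cases h1 : n = 1
      · exact ⟨0, by simp [h1]⟩
      · exact ⟨1, by
          simp only [Finset.mem_filter, Finset.mem_range, Nat.coprime_one_right_eq_true, and_true]
          omega⟩
    have hcardC : (((Finset.range n).filter (Nat.Coprime n)).card : ℂ) ≠ 0 := by exact_mod_cast hcard
    refine ⟨q / ((Finset.range n).filter (Nat.Coprime n)).card, ?_⟩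
    push_cast
    rw [eq_div_iff hcardC, mul_comm]
    exact hq

end Cfsg.Agent.S0180
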