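import Cfsg.Statements.S0185
import Mathlib
import Cfsg.Prelude.Def_Characters
import Cfsg.Agent.Lib.helper2.CharInd
import Cfsg.Agent.Lib.helper2.CharInt
import Cfsg.Agent.S0139

set_option autoImplicit false
open Cfsg

namespace Cfsg.Agent.S0185


open Cfsg.Agent.Lib.helper2 Cfsg.Agent.Lib.Helper25



/-- If a finite group has a faithful complex representation of degree less than the smallest prime dividing its order, the group is abelian. -/
theorem result {G : Type*} [Group G] [Finite G] {V : Type*} [AddCommGroup V] [Module ℂ V] [FiniteDimensional ℂ V] (ρ : Representation ℂ G V) (hfaithful : Function.Injective ρ) (hdeg : ∀ p : ℕ, p.Prime → p ∣ Nat.card G → Module.finrank ℂ V < p) (a b : G) : a * b = b * a := by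
  classical
  have : Fintype G := Fintype.ofFinite G
  have : Fintype (Cfsg.IrrCharacter G) := Fintype.ofFinite _
  have hχ := isCharacter_of_rep ρ
  obtain ⟨m, hm, hexp⟩ := isCharacter_expansion hχ
  have hlin : ∀ ψ : Cfsg.IrrCharacter G, m ψ ≠ 0 → (ψ : G → ℂ) 1 = 1 := by
    intro ψ hmψ
    obtain ⟨d, hd0, hd, hdvd⟩ := irr_degree_dvd_card ψ
    have h1 := isCharacter_degree_ge hχ ψ (m ψ) (Module.finrank ℂ V) d (hm ψ)
      (Representation.char_one ρ) hd
    have h2 : d ≤ Module.finrank ℂ V :=
      le_trans (Nat.le_mul_of_pos_left d (Nat.pos_of_ne_zero hmψ)) h1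
    have h3 : d = 1 := by
      by_contra hne
      obtain ⟨p, hp, hpd⟩ := Nat.exists_prime_and_dvd hne
      have h4 := hdeg p hp (hpd.trans hdvd)
      have h5 : p ≤ d := Nat.le_of_dvd hd0 hpd
      omega
    rw [hd, h3, Nat.cast_one]
  set w : G := a * b * a⁻¹ * b⁻¹ with hw
  have hwc : w ∈ commutator G := by
    rw [commutator_def]
    have := Subgroup.commutator_mem_commutator (Subgroup.mem_top a) (Subgroup.mem_top b)
    rwa [commutatorElement_def] at this
  have hχw : ρ.character w = (Module.finrank ℂ V : ℂ) := by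
    rw [← Representation.char_one ρ]
    have h1 := congrFun hexp w
    have h2 := congrFun hexp 1
    rw [h1, h2]
    simp only [Finset.sum_apply, Pi.smul_apply, smul_eq_mul]
    refine Finset.sum_congr rfl fun ψ _ => ?_
    by_cases hmψ : m ψ = 0
    · rw [hmψ]; simp
    · rw [irr_linear_commutator ψ (hlin ψ hmψ) hwc, hlin ψ hmψ]
  have h3 := (Cfsg.Agent.S0139.result ρ w).mp hχw
  have h4 : w = 1 := by
    apply hfaithful
    rw [h3, map_one]
    rfl
  calc a * b = w * (b * a) := by rw [hw]; group
    _ = b * a := by rw [h4, one_mul]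

end Cfsg.Agent.S0185
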