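import Cfsg.Statements.S0186
import Mathlib
import Cfsg.Prelude.Def_Characters
import Cfsg.Agent.Lib.helper2.CharInt
import Cfsg.Agent.Lib.helper2.CharInd
import Cfsg.Agent.Lib.helper7.CharTools
import Cfsg.Agent.Lib.Helper25.CharLinear
import Cfsg.Agent.S0133
import Cfsg.Agent.S0134
import Cfsg.Agent.S0139

set_option autoImplicit false
open Cfsg

namespace Cfsg.Agent.S0186

open Cfsg.Agent.Lib.helper2 Cfsg.Agent.Lib.Helper25 Cfsg.Agent.Lib.helper7
open scoped ComplexConjugate commutatorElement

theorem sum_deg_sq {K : Type*} [Group K] [Finite K] [Fintype (Cfsg.IrrCharacter K)] (d : Cfsg.IrrCharacter K → ℕ)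
    (hd : ∀ χ : Cfsg.IrrCharacter K, (χ : K → ℂ) 1 = (d χ : ℂ)) : ∑ χ : Cfsg.IrrCharacter K, (d χ) ^ 2 = Nat.card K := by
  have h := Cfsg.Agent.S0134.result (G := K)
  rw [finsum_eq_sum_of_fintype] at h
  have h2 : ((∑ χ : Cfsg.IrrCharacter K, (d χ) ^ 2 : ℕ) : ℂ) = (Nat.card K : ℂ) := by
    rw [← h]
    push_cast
    refine Finset.sum_congr rfl fun χ _ => ?_
    rw [hd]
  exact_mod_cast h2

/-- a character of a `p`-group of degree `< p` is constant on the commutator subgroup -/
theorem small_char_comm {P : Type*} [Group P] [Fintype P] (p : ℕ) [Fact p.Prime] (hP : IsPGroup p P)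
    (ψ : P → ℂ) (hψ : Cfsg.IsCharacter P ψ) (n : ℕ) (hn : ψ 1 = (n : ℂ)) (hnp : n < p)
    (x : P) (hx : x ∈ commutator P) : ψ x = ψ 1 := by
  classical
  have hp : p.Prime := Fact.out
  have : Fintype (Cfsg.IrrCharacter P) := Fintype.ofFinite _
  obtain ⟨m, hm, hexp⟩ := isCharacter_expansion hψ
  have hterm : ∀ lam : Cfsg.IrrCharacter P, (m lam : ℂ) * (lam : P → ℂ) x = (m lam : ℂ) * (lam : P → ℂ) 1 := by
    intro lam
    by_cases hm0 : m lam = 0
    · rw [hm0]; simp
    · obtain ⟨d, hdpos, hd1, hddvd⟩ := irr_degree_dvd_card lam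
      have hle := isCharacter_degree_ge hψ lam (m lam) n d (hm lam) hn hd1
      have hdn : d ≤ n := by
        have : 1 ≤ m lam := Nat.pos_of_ne_zero hm0
        calc d = 1 * d := (one_mul d).symm
          _ ≤ m lam * d := Nat.mul_le_mul_right d this
          _ ≤ n := hle
      obtain ⟨k, hk⟩ := IsPGroup.iff_card.mp hP
      rw [hk] at hddvd
      obtain ⟨j, _, hj⟩ := (Nat.dvd_prime_pow hp).mp hddvd
      have hj0 : j = 0 := by
        by_contra hne
        have : p ≤ d := by
          rw [hj]
          calc p = p ^ 1 := (pow_one p).symm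
            _ ≤ p ^ j := Nat.pow_le_pow_right hp.pos (Nat.pos_of_ne_zero hne)
        omega
      have hd_one : (lam : P → ℂ) 1 = 1 := by
        rw [hd1, hj, hj0, pow_zero, Nat.cast_one]
      rw [irr_linear_commutator lam hd_one hx, hd_one]
  rw [hexp]
  simp only [Finset.sum_apply, Pi.smul_apply, smul_eq_mul]
  exact Finset.sum_congr rfl fun lam _ => hterm lam



/-- Let G be a finite simple group of order n and p a prime dividing n. If G has more than n / p^2 conjugacy classes, then every Sylow p-subgroup of G is abelian. -/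
theorem result {G : Type*} [Group G] [Finite G] [IsSimpleGroup G] (p : ℕ) [Fact p.Prime] (hp : p ∣ Nat.card G) (hmany : Nat.card G < p ^ 2 * Nat.card (ConjClasses G)) (P : Sylow p G) (a b : G) (ha : a ∈ P) (hb : b ∈ P) : a * b = b * a := by
  classical
  have _ := hp
  have hpp : p.Prime := Fact.out
  have : Fintype G := Fintype.ofFinite G
  have : Fintype (Cfsg.IrrCharacter G) := Fintype.ofFinite _
  by_cases hp2 : p ^ 2 ∣ Nat.card G
  · -- a nontrivial irreducible character of degree < p
    choose d hdpos hd1 hddvd using (fun χ : Cfsg.IrrCharacter G => irr_degree_dvd_card χ)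
    have hsum := sum_deg_sq d hd1
    have hk : Fintype.card (Cfsg.IrrCharacter G) = Nat.card (ConjClasses G) := by
      rw [← Cfsg.Agent.S0133.result, Nat.card_eq_fintype_card]
    have hex : ∃ χ : Cfsg.IrrCharacter G, χ ≠ trivIrr G ∧ d χ < p := by
      by_contra hcon
      have hall : ∀ χ : Cfsg.IrrCharacter G, χ ≠ trivIrr G → p ≤ d χ := by
        intro χ hχ
        by_contra hlt
        exact hcon ⟨χ, hχ, by omega⟩
      have h1 : ∑ χ ∈ Finset.univ.erase (trivIrr G), (d χ) ^ 2 ≥ (Fintype.card (Cfsg.IrrCharacter G) - 1) * p ^ 2 := by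
        have : ∑ χ ∈ Finset.univ.erase (trivIrr G), p ^ 2 ≤ ∑ χ ∈ Finset.univ.erase (trivIrr G), (d χ) ^ 2 := by
          apply Finset.sum_le_sum
          intro χ hχ
          exact Nat.pow_le_pow_left (hall χ (Finset.ne_of_mem_erase hχ)) 2
        rw [Finset.sum_const, Finset.card_erase_of_mem (Finset.mem_univ _), Finset.card_univ, smul_eq_mul] at this
        exact this
      have h2 := Finset.add_sum_erase Finset.univ (fun χ => (d χ) ^ 2) (Finset.mem_univ (trivIrr G))
      have h3 : 1 ≤ (d (trivIrr G)) ^ 2 := Nat.one_le_pow _ _ (hdpos _)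
      obtain ⟨t, ht⟩ := hp2
      rw [hk] at h1
      have hkpos : 0 < Nat.card (ConjClasses G) := Nat.card_pos
      have htk : t < Nat.card (ConjClasses G) := by
        rw [ht] at hmany
        exact Nat.lt_of_mul_lt_mul_left hmany
      have h4 : p ^ 2 * t ≤ (Nat.card (ConjClasses G) - 1) * p ^ 2 := by
        rw [mul_comm]
        exact Nat.mul_le_mul_right _ (by omega)
      have h5 : ∑ χ : Cfsg.IrrCharacter G, (d χ) ^ 2 = Nat.card G := hsum
      omega
    obtain ⟨χ, hχne, hχd⟩ := hex
    obtain ⟨n, ρ, hρ, hρχ⟩ := χ.2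
    have := hρ
    -- restriction to P
    have : Fintype (P : Subgroup G) := Fintype.ofFinite _
    have hψ : Cfsg.IsCharacter (P : Subgroup G) (fun x : (P : Subgroup G) => (χ : G → ℂ) x) :=
      isCharacter_restrict (isCharacter_of_irr χ) (P : Subgroup G)
    have hcomm_mem : (⁅(⟨a, ha⟩ : (P : Subgroup G)), ⟨b, hb⟩⁆ : (P : Subgroup G)) ∈ commutator (P : Subgroup G) := by
      rw [commutator_def]
      exact Subgroup.commutator_mem_commutator (Subgroup.mem_top _) (Subgroup.mem_top _)
    have h1 := small_char_comm p P.isPGroup' _ hψ (d χ) (hd1 χ) hχd _ hcomm_mem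
    have h1' : (χ : G → ℂ) (a * b * a⁻¹ * b⁻¹) = (χ : G → ℂ) 1 := h1
    rw [← hρχ, Representation.char_one, Cfsg.Agent.S0139.result ρ] at h1'
    have hmemker : a * b * a⁻¹ * b⁻¹ ∈ ρ.ker := by
      rw [MonoidHom.mem_ker]; exact h1'
    have hkn : (ρ.ker).Normal := MonoidHom.normal_ker ρ
    rcases hkn.eq_bot_or_eq_top with hbot | htop
    · rw [hbot, Subgroup.mem_bot] at hmemker
      have : a * b = (a * b * a⁻¹ * b⁻¹) * (b * a) := by group
      rw [this, hmemker, one_mul]
    · exfalso
      apply hχne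
      have hall : ∀ g : G, (χ : G → ℂ) g = (χ : G → ℂ) 1 := by
        intro g
        have hg : g ∈ ρ.ker := htop ▸ Subgroup.mem_top g
        rw [MonoidHom.mem_ker] at hg
        rw [← hρχ]
        show LinearMap.trace ℂ (Fin n → ℂ) (ρ g) = LinearMap.trace ℂ (Fin n → ℂ) (ρ 1)
        rw [hg, map_one ρ]
      by_contra hne
      have h0 := h7_irr_inner_ne χ.2 (trivIrr G).2 (fun h => hne (Subtype.ext h))
      have h2 : (χ : G → ℂ) = (χ : G → ℂ) 1 • (fun _ : G => (1 : ℂ)) := by
        funext g
        rw [hall g]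
        simp
      have h3 : Cfsg.classInner (fun _ : G => (1 : ℂ)) (fun _ : G => (1 : ℂ)) = 1 := h7_irr_norm (trivIrr G).2
      have h4 : Cfsg.classInner (χ : G → ℂ) (fun _ : G => (1 : ℂ)) = (χ : G → ℂ) 1 := by
        conv_lhs => rw [h2]
        unfold Cfsg.classInner at h3 ⊢
        simp only [Pi.smul_apply, smul_eq_mul, mul_assoc]
        rw [← Finset.mul_sum, mul_left_comm, h3, mul_one]
      have h5 : Cfsg.classInner (χ : G → ℂ) (fun _ : G => (1 : ℂ)) = 0 := h0
      rw [h4] at h5
      exact irr_one_ne_zero χ h5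
  · -- |P| ≤ p
    have hcard := P.card_eq_multiplicity
    have he : (Nat.card G).factorization p ≤ 1 := by
      by_contra hcon
      apply hp2
      have h2 : 2 ≤ (Nat.card G).factorization p := by omega
      exact dvd_trans (pow_dvd_pow p h2) (Nat.ordProj_dvd _ _)
    have hcomm : ∀ x y : (P : Subgroup G), x * y = y * x := by
      rcases Nat.lt_or_ge ((Nat.card G).factorization p) 1 with h0 | h1
      · have h00 : (Nat.card G).factorization p = 0 := by omega
        rw [h00, pow_zero] at hcard
        have : Subsingleton (P : Subgroup G) := (Nat.card_eq_one_iff_unique.mp hcard).1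
        intro x y
        rw [Subsingleton.elim x y]
      · have h11 : (Nat.card G).factorization p = 1 := by omega
        rw [h11, pow_one] at hcard
        have hcyc : IsCyclic (P : Subgroup G) := isCyclic_of_prime_card hcard
        intro x y
        exact (IsCyclic.commGroup (α := (P : Subgroup G))).mul_comm x y
    have := hcomm ⟨a, ha⟩ ⟨b, hb⟩
    exact congrArg Subtype.val this

end Cfsg.Agent.S0186
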