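import Cfsg.Statements.S0187
import Mathlib
import Cfsg.Prelude.Def_Characters
import Cfsg.Agent.Lib.Helper25.CharLinear

set_option autoImplicit false
open Cfsg

namespace Cfsg.Agent.S0187

open scoped ComplexConjugate



/-- A finite group is commutative if and only if every irreducible complex character has degree 1. -/
theorem result {G : Type*} [Group G] [Finite G] : (∀ a b : G, a * b = b * a) ↔ ∀ χ : Cfsg.IrrCharacter G, (χ : G → ℂ) 1 = 1 := by
  constructor
  · intro hcomm χ
    obtain ⟨n, ρ, hρ, hχ⟩ := χ.2
    have : IsMulCommutative G := ⟨⟨hcomm⟩⟩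
    have h1 := Representation.IsIrreducible.finrank_eq_one_of_isMulCommutative ρ
    rw [← hχ, Representation.char_one, h1, Nat.cast_one]
  · intro hlin a b
    have hw : a * b * a⁻¹ * b⁻¹ ∈ commutator G := by
      rw [commutator_def]
      have := Subgroup.commutator_mem_commutator (Subgroup.mem_top a) (Subgroup.mem_top b)
      rwa [commutatorElement_def] at this
    have h2 : ∀ χ : Cfsg.IrrCharacter G, (χ : G → ℂ) (a * b * a⁻¹ * b⁻¹) = (χ : G → ℂ) 1 := by
      intro χ
      rw [Cfsg.Agent.Lib.Helper25.irr_linear_commutator χ (hlin χ) hw, hlin χ]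
    have h3 := Cfsg.Agent.Lib.Helper25.isConj_of_irr_eq _ _ h2
    rw [isConj_one_right] at h3
    calc a * b = (a * b * a⁻¹ * b⁻¹) * (b * a) := by group
      _ = b * a := by rw [h3, one_mul]

end Cfsg.Agent.S0187
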