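import Cfsg.Statements.S0191
import Cfsg.Agent.Lib.Helper24.GaloisNorm

set_option autoImplicit false
open Cfsg

namespace Cfsg.Agent.S0191

open Cfsg.Agent.Lib.Helper24 Cfsg.Agent.Lib.Helper25 Cfsg.Agent.Lib.helper2

theorem result {G : Type*} [Group G] [Finite G] {V : Type*} [AddCommGroup V] [Module ℂ V] [FiniteDimensional ℂ V] (ρ : Representation ℂ G V) [ρ.IsIrreducible] (hdeg : 1 < Module.finrank ℂ V) : ∃ g : G, ρ.character g = 0 := by
  classical
  by_contra hcon
  push_neg at hcon
  haveI : Fintype G := Fintype.ofFinite G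
  set χ : Cfsg.IrrCharacter G := ⟨ρ.character, isIrrCharacter_of_irreducible ρ⟩ with hχ
  have hψ : Cfsg.IsCharacter G (χ : G → ℂ) := isCharacter_of_irr χ
  have hR : (((Finset.univ.erase (1 : G)).card : ℕ) : ℝ) ≤
      ∑ g ∈ Finset.univ.erase (1 : G), ‖(χ : G → ℂ) g‖ ^ 2 := by
    apply gn_avg hψ
    · intro g _
      exact hcon g
    · intro g hg k hk
      rw [Finset.mem_erase] at hg ⊢
      refine ⟨?_, Finset.mem_univ _⟩
      intro h1
      apply hg.1
      have hinj : Function.Injective (fun g : G => g ^ k) := (powCoprime hk).injective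
      apply hinj
      show g ^ k = 1 ^ k
      rw [h1, one_pow]
  have hsum := irr_sum_norm_sq χ
  rw [← Finset.add_sum_erase Finset.univ _ (Finset.mem_univ (1 : G))] at hsum
  have h1 : ‖(χ : G → ℂ) 1‖ = (Module.finrank ℂ V : ℝ) := by
    show ‖ρ.character 1‖ = _
    rw [Representation.char_one, Complex.norm_natCast]
  rw [h1] at hsum
  have hcard : (((Finset.univ.erase (1 : G)).card : ℕ) : ℝ) = (Nat.card G : ℝ) - 1 := by
    rw [Finset.card_erase_of_mem (Finset.mem_univ _), Finset.card_univ, Nat.card_eq_fintype_card,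
      Nat.cast_sub Fintype.card_pos]
    simp
  rw [hcard] at hR
  have h2 : (2 : ℝ) ≤ (Module.finrank ℂ V : ℝ) := by exact_mod_cast hdeg
  nlinarith

end Cfsg.Agent.S0191
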