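import Cfsg.Statements.S0192
import Mathlib
import Cfsg.Prelude.Def_Characters
import Cfsg.Agent.Lib.Helper25.CharLinear

set_option autoImplicit false
open Cfsg

namespace Cfsg.Agent.S0192

open Cfsg.Agent.Lib.Helper25
open scoped ComplexConjugate

theorem inner_one_eq_finrank {G : Type*} [Group G] (K : Subgroup G) [Fintype K] {V : Type*} [AddCommGroup V] [Module ℂ V] [FiniteDimensional ℂ V] (ρ : Representation ℂ G V) :
    Cfsg.classInner (fun x : K => ρ.character (x : G)) (fun _ => 1) =
      (Module.finrank ℂ (Representation.invariants (ρ.comp K.subtype)) : ℂ) := by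
  have hne : (Nat.card K : ℂ) ≠ 0 := by
    exact_mod_cast (Nat.card_pos (α := K)).ne'
  have : Invertible (Nat.card K : ℂ) := invertibleOfNonzero hne
  rw [← Representation.card_inv_mul_sum_char_eq_finrank (ρ.comp K.subtype)]
  unfold Cfsg.classInner
  congr 1
  refine Finset.sum_congr rfl fun x _ => ?_
  rw [map_one, mul_one]
  rfl



/-- Brauer's generation criterion. Let G be a finite simple group, H₁ and H₂ subgroups, and χ a non-principal irreducible character. If the multiplicity of the principal character in χ restricted to H₁ ⊓ H₂ is less than the sum of the corresponding multiplicities for H₁ and H₂, then H₁ and H₂ do not generate G. -/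
theorem result {G : Type*} [Group G] [Fintype G] [IsSimpleGroup G] (H₁ H₂ : Subgroup G) [Fintype H₁] [Fintype H₂] [Fintype ↥(H₁ ⊓ H₂)] (χ : G → ℂ) (hχ : Cfsg.IsIrrCharacter G χ) (hχ1 : χ ≠ fun _ => 1) (hlt : (Cfsg.classInner (fun x : ↥(H₁ ⊓ H₂) => χ x) (fun _ => 1)).re < (Cfsg.classInner (fun x : H₁ => χ x) (fun _ => 1)).re + (Cfsg.classInner (fun x : H₂ => χ x) (fun _ => 1)).re) : H₁ ⊔ H₂ ≠ ⊤ := by
  classical
  intro htop
  have hχ' := hχ
  obtain ⟨n, ρ, hρ, hρχ⟩ := hχ
  subst hρχ
  rw [inner_one_eq_finrank, inner_one_eq_finrank, inner_one_eq_finrank] at hlt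
  simp only [Complex.natCast_re] at hlt
  have hlt' : Module.finrank ℂ (Representation.invariants (ρ.comp (H₁ ⊓ H₂).subtype)) <
      Module.finrank ℂ (Representation.invariants (ρ.comp H₁.subtype)) +
      Module.finrank ℂ (Representation.invariants (ρ.comp H₂.subtype)) := by exact_mod_cast hlt
  -- G-invariants vanish
  have hG0 : Representation.invariants ρ = ⊥ := by
    have hneG : (Nat.card G : ℂ) ≠ 0 := by
      exact_mod_cast (Nat.card_pos (α := G)).ne'
    have : Invertible (Nat.card G : ℂ) := invertibleOfNonzero hneG
    have h1 := Representation.card_inv_mul_sum_char_eq_finrank ρ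
    have h2 := irr_classInner (⟨ρ.character, hχ'⟩ : Cfsg.IrrCharacter G) (trivIrr G)
    have hne : (⟨ρ.character, hχ'⟩ : Cfsg.IrrCharacter G) ≠ trivIrr G := by
      intro h
      apply hχ1
      have := congrArg Subtype.val h
      exact this
    rw [if_neg hne] at h2
    unfold Cfsg.classInner at h2
    have h3 : (Nat.card G : ℂ)⁻¹ * ∑ g : G, ρ.character g = 0 := by
      rw [← h2]
      congr 1
      refine Finset.sum_congr rfl fun g _ => ?_
      simp
    rw [h3] at h1
    have h4 : Module.finrank ℂ (Representation.invariants ρ) = 0 := by exact_mod_cast h1.symm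
    exact Submodule.finrank_eq_zero.mp h4
  have hle1 : Representation.invariants (ρ.comp H₁.subtype) ≤ Representation.invariants (ρ.comp (H₁ ⊓ H₂).subtype) := by
    intro v hv
    rw [Representation.mem_invariants] at hv ⊢
    intro g
    exact hv ⟨g, g.2.1⟩
  have hle2 : Representation.invariants (ρ.comp H₂.subtype) ≤ Representation.invariants (ρ.comp (H₁ ⊓ H₂).subtype) := by
    intro v hv
    rw [Representation.mem_invariants] at hv ⊢
    intro g
    exact hv ⟨g, g.2.2⟩
  have hinf : Representation.invariants (ρ.comp H₁.subtype) ⊓ Representation.invariants (ρ.comp H₂.subtype) = ⊥ := by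
    rw [eq_bot_iff, ← hG0]
    rintro v ⟨hv1, hv2⟩
    rw [SetLike.mem_coe, Representation.mem_invariants] at hv1 hv2
    rw [Representation.mem_invariants]
    let S : Subgroup G :=
      { carrier := {g | ρ g v = v}
        one_mem' := by simp
        mul_mem' := by
          intro a b ha hb
          change ρ a v = v at ha
          change ρ b v = v at hb
          change ρ (a * b) v = v
          rw [map_mul, Module.End.mul_apply, hb, ha]
        inv_mem' := by
          intro a ha
          change ρ a v = v at ha
          change ρ a⁻¹ v = v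
          nth_rewrite 1 [← ha]
          rw [← Module.End.mul_apply, ← map_mul, inv_mul_cancel, map_one, Module.End.one_apply] }
    have h1 : H₁ ≤ S := fun g hg => hv1 ⟨g, hg⟩
    have h2 : H₂ ≤ S := fun g hg => hv2 ⟨g, hg⟩
    have h3 : H₁ ⊔ H₂ ≤ S := sup_le h1 h2
    rw [htop] at h3
    intro g
    exact h3 (Subgroup.mem_top g)
  have hdim := Submodule.finrank_sup_add_finrank_inf_eq (Representation.invariants (ρ.comp H₁.subtype)) (Representation.invariants (ρ.comp H₂.subtype))
  rw [hinf, finrank_bot, add_zero] at hdim
  have hmono := Submodule.finrank_mono (sup_le hle1 hle2)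
  omega

end Cfsg.Agent.S0192
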