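import Cfsg.Statements.S0193
import Mathlib
import Cfsg.Prelude.Def_Characters
import Cfsg.Agent.Lib.Helper11.IndNormal
import Cfsg.Agent.Lib.helper7.CharTools
import Cfsg.Agent.Lib.helper2.CharInd

set_option autoImplicit false
open Cfsg

namespace Cfsg.Agent.S0193

open scoped ComplexConjugate
open Cfsg.Agent.Lib.Helper25 Cfsg.Agent.Lib.Helper11 Cfsg.Agent.Lib.helper7 Cfsg.Agent.Lib.helper2



/-- Let H be a normal subgroup of a finite group G and θ an irreducible character of H. Then |H| times the inner product of the induced function of θ with itself equals the number of g in G with θ(g h g⁻¹) = θ(h) for all h in H; in particular the induced character is irreducible when only elements of H stabilise θ. -/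
theorem result {G : Type*} [Group G] [Fintype G] (H : Subgroup G) [hN : H.Normal] (θ : H → ℂ) (hθ : Cfsg.IsIrrCharacter H θ) : (Nat.card H : ℂ) * Cfsg.classInner (Cfsg.indFun H θ) (Cfsg.indFun H θ) = (Nat.card {g : G // ∀ h : H, θ ⟨g * h * g⁻¹, hN.conj_mem h h.2 g⟩ = θ h} : ℂ) := by
  classical
  have : Fintype H := Fintype.ofFinite _
  have hne : (Nat.card H : ℂ) ≠ 0 := by exact_mod_cast Nat.card_pos.ne'
  set r : ℕ := Nat.card {g : G // ∀ h : H, cj H θ g h = θ h} with hr
  have hr' : Nat.card {g : G // ∀ h : H, θ ⟨g * h * g⁻¹, hN.conj_mem h h.2 g⟩ = θ h} = r := rfl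
  rw [hr']
  rw [h7_frobenius_reciprocity H θ _ (h7_indFun_isClassFunction H θ), indFun_restrict_normal,
    h7_classInner_smul_right, h7_classInner_sum_right]
  have hsum : ∑ ψ ∈ Finset.univ.image (fun g : G => cj H θ g), Cfsg.classInner θ ψ = 1 := by
    rw [Finset.sum_eq_single θ]
    · exact h7_irr_norm hθ
    · intro ψ hψ hne'
      obtain ⟨g, -, rfl⟩ := Finset.mem_image.mp hψ
      exact h7_irr_inner_ne hθ (isIrr_cj H θ hθ g) (Ne.symm hne')
    · intro h
      exfalso
      apply h
      exact Finset.mem_image.mpr ⟨1, Finset.mem_univ _, cj_one H θ⟩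
  rw [hsum, mul_one, map_div₀, Complex.conj_natCast, Complex.conj_natCast]
  field_simp
  rfl

end Cfsg.Agent.S0193
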