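import Cfsg.Statements.S0194
import Mathlib
import Cfsg.Prelude.Def_Characters
import Cfsg.Agent.Lib.Helper11.IndNormal
import Cfsg.Agent.Lib.Helper25.CharReal
import Cfsg.Agent.S0161

set_option autoImplicit false
open scoped ComplexConjugate
open Cfsg

namespace Cfsg.Agent.S0194

open Cfsg.Agent.Lib.helper2 Cfsg.Agent.Lib.Helper25 Cfsg.Agent.Lib.helper7 Cfsg.Agent.Lib.Helper11
open scoped ComplexConjugate

theorem conj_indFun {G : Type*} [Group G] [Fintype G] (H : Subgroup G) (θ : H → ℂ) :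
    (fun g => conj (Cfsg.indFun H θ g)) = Cfsg.indFun H (fun h => conj (θ h)) := by
  funext g
  unfold Cfsg.indFun
  rw [map_mul, map_inv₀, Complex.conj_natCast, map_sum]
  congr 1
  refine Finset.sum_congr rfl fun x _ => ?_
  by_cases hx : x⁻¹ * g * x ∈ H
  · rw [h7_extendByZero_mem H _ _ hx, h7_extendByZero_mem H _ _ hx]
  · rw [h7_extendByZero_not_mem H _ _ hx, h7_extendByZero_not_mem H _ _ hx, map_zero]



/-- Let G have odd order, H be a normal subgroup and θ a non-principal irreducible character of H. Then the function induced from θ is orthogonal to its complex conjugate. -/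
theorem result {G : Type*} [Group G] [Fintype G] (hodd : Odd (Nat.card G)) (H : Subgroup G) [H.Normal] (θ : H → ℂ) (hθ : Cfsg.IsIrrCharacter H θ) (hθ1 : θ ≠ fun _ => 1) : Cfsg.classInner (fun g => conj (Cfsg.indFun H θ g)) (Cfsg.indFun H θ) = 0 := by
  classical
  have : Finite H := inferInstance
  rw [conj_indFun]
  have hθbar : Cfsg.IsIrrCharacter H (fun h => conj (θ h)) := (irrConj ⟨θ, hθ⟩).2
  by_contra hne
  have hex : ∃ g : G, (fun h => conj (θ h)) = cj H θ g := by
    by_contra hcon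
    exact hne (classInner_indFun_of_not_conj H θ _ hθ hθbar hcon)
  obtain ⟨g, hg⟩ := hex
  -- cj θ (g*g) = θ
  have h2 : cj H θ (g * g) = θ := by
    rw [← cj_mul, ← hg]
    funext h
    rw [cj_apply]
    have := congrFun hg ⟨g * h * g⁻¹, ‹H.Normal›.conj_mem h h.2 g⟩
    have h3 : conj (θ ⟨g * h * g⁻¹, ‹H.Normal›.conj_mem h h.2 g⟩) = conj (cj H θ g h) := by
      rw [cj_apply]
    rw [h3, ← hg, Complex.conj_conj]
  have hpow : ∀ k : ℕ, cj H θ ((g * g) ^ k) = θ := by
    intro k
    induction k with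
    | zero => rw [pow_zero, cj_one]
    | succ k ih => rw [pow_succ, ← cj_mul, ih, h2]
  have hgodd : Odd (orderOf g) := Odd.of_dvd_nat hodd (orderOf_dvd_natCard g)
  obtain ⟨j, hj⟩ := hgodd
  have hgg : (g * g) ^ (j + 1) = g := by
    rw [← sq, ← pow_mul]
    have : 2 * (j + 1) = orderOf g + 1 := by omega
    rw [this, pow_succ, pow_orderOf_eq_one, one_mul]
  have h1 := hpow (j + 1)
  rw [hgg] at h1
  rw [h1] at hg
  -- θ is real
  have hHodd : Odd (Nat.card H) := Odd.of_dvd_nat hodd (Subgroup.card_subgroup_dvd_card H)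
  have hreal : ∀ h : H, (θ h).im = 0 := by
    intro h
    exact Complex.conj_eq_iff_im.mp (congrFun hg h)
  exact hθ1 (Cfsg.Agent.S0161.result hHodd ⟨θ, hθ⟩ hreal)

end Cfsg.Agent.S0194
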