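import Cfsg.Statements.S0196
import Mathlib

set_option autoImplicit false
open Cfsg

namespace Cfsg.Agent.S0196


open MulAction in
theorem dvd_card_of_stabilizer_index {α β : Type*} [Group α] [MulAction α β] [Finite β] (k : ℕ)
    (h : ∀ b : β, (stabilizer α b).index = k) : k ∣ Nat.card β := by
  classical
  let Ω := Quotient (orbitRel α β)
  have : Fintype Ω := Fintype.ofFinite Ω
  let φ : Ω → β := Quotient.out
  have hφ : Function.LeftInverse Quotient.mk'' φ := Quotient.out_eq'
  have e := selfEquivSigmaOrbitsQuotientStabilizer' α β hφ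
  have hfin : ∀ ω : Ω, Finite (α ⧸ stabilizer α (φ ω)) := by
    intro ω
    have := (orbitEquivQuotientStabilizer α (φ ω))
    exact Finite.of_equiv _ this
  rw [Nat.card_congr e, Nat.card_sigma]
  have : ∀ ω : Ω, Nat.card (α ⧸ stabilizer α (φ ω)) = k := fun ω => h (φ ω)
  simp only [this]
  simp



/-- Let A be a subgroup of a finite group G that equals the centralizer of each of its non-identity elements, and let N be its normalizer. Then the index of A in N divides |A| − 1 (N/A permutes the non-identity elements of A in orbits of full length). -/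
theorem result {G : Type*} [Group G] [Finite G] (A : Subgroup G) (hA : ∀ x ∈ A, x ≠ 1 → Subgroup.centralizer ({x} : Set G) = A) : (A.subgroupOf (Subgroup.normalizer (A : Set G))).index ∣ Nat.card A - 1 := by
  classical
  let N := Subgroup.normalizer (A : Set G)
  let X := {x : G // x ∈ A ∧ x ≠ 1}
  let act : MulAction N X :=
    { smul := fun n x => ⟨(n : G) * x.1 * (n : G)⁻¹, by
        have := (Subgroup.mem_normalizer_iff.mp n.2 x.1).mp x.2.1
        exact this, by
        intro h
        apply x.2.2
        have : x.1 = (n:G)⁻¹ * (n * x.1 * (n:G)⁻¹) * n := by group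
        rw [this, h]; group⟩
      one_smul := by
        intro x
        apply Subtype.ext
        show ((1 : N) : G) * x.1 * ((1 : N) : G)⁻¹ = x.1
        simp
      mul_smul := by
        intro a b x
        apply Subtype.ext
        show ((a * b : N) : G) * x.1 * ((a * b : N) : G)⁻¹ = (a : G) * ((b : G) * x.1 * (b : G)⁻¹) * (a : G)⁻¹
        simp only [Subgroup.coe_mul]
        group }
  have hsm : ∀ (n : N) (x : X), ((n • x : X) : G) = (n : G) * x.1 * (n : G)⁻¹ := fun n x => rfl
  have hstab : ∀ x : X, MulAction.stabilizer N x = A.subgroupOf N := by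
    intro x
    ext n
    rw [MulAction.mem_stabilizer_iff, Subgroup.mem_subgroupOf, ← hA x.1 x.2.1 x.2.2,
      Subgroup.mem_centralizer_singleton_iff, Subtype.ext_iff, hsm]
    constructor
    · intro h
      calc (n : G) * x.1 = (n * x.1 * (n:G)⁻¹) * n := by group
        _ = x.1 * n := by rw [h]
    · intro h
      rw [h]; group
  have hdvd := dvd_card_of_stabilizer_index (α := N) (β := X) (A.subgroupOf N).index (fun b => by rw [hstab b])
  have hX : Nat.card X = Nat.card A - 1 := by
    have e : X ≃ {a : A // a ≠ 1} :=
      { toFun := fun x => ⟨⟨x.1, x.2.1⟩, fun h => x.2.2 (by simpa using congrArg Subtype.val h)⟩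
        invFun := fun a => ⟨a.1.1, a.1.2, fun h => a.2 (Subtype.ext h)⟩
        left_inv := fun x => rfl
        right_inv := fun a => rfl }
    rw [Nat.card_congr e]
    have : Fintype A := Fintype.ofFinite A
    rw [Nat.card_eq_fintype_card, Fintype.card_subtype_compl, Nat.card_eq_fintype_card]
    simp
  rw [← hX]
  exact hdvd

end Cfsg.Agent.S0196
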