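import Cfsg.Statements.S0200
import Cfsg.Agent.Lib.Helper24.BaerSuzuki
import Cfsg.Agent.Lib.Helper24.TwoInvol3

set_option autoImplicit false
open Cfsg

namespace Cfsg.Agent.S0200

open Cfsg.Agent.Lib.Helper24

theorem conj_order {G : Type*} [Group G] (g u : G) : orderOf (g * u * g⁻¹) = orderOf u := by
  have := orderOf_injective (MulAut.conj g).toMonoidHom (MulAut.conj g).injective u
  simpa using this

theorem sup_eq_closure {G : Type*} [Group G] (t g : G) :
    Subgroup.zpowers t ⊔ (Subgroup.zpowers t).map (MulAut.conj g).toMonoidHom =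
      Subgroup.closure ({t, g * t * g⁻¹} : Set G) := by
  rw [MonoidHom.map_zpowers, Subgroup.zpowers_eq_closure, Subgroup.zpowers_eq_closure,
    ← Subgroup.closure_union]
  congr 1

theorem result {G : Type*} [Group G] [Finite G] (t : G) (ht : orderOf t = 2) (hO : ∀ N : Subgroup G, N.Normal → IsPGroup 2 N → t ∉ N) : ∃ h : G, h ≠ 1 ∧ Odd (orderOf h) ∧ t * h * t⁻¹ = h⁻¹ := by
  haveI : Fact (Nat.Prime 2) := ⟨Nat.prime_two⟩
  have ht2 := ti_sq_of_order ht
  have hX : IsPGroup 2 (Subgroup.zpowers t) := by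
    apply IsPGroup.of_card (n := 1)
    rw [Nat.card_zpowers, ht, pow_one]
  have hex : ∃ g : G, ¬ IsPGroup 2
      ↥(Subgroup.zpowers t ⊔ (Subgroup.zpowers t).map (MulAut.conj g).toMonoidHom) := by
    by_contra hno
    push Not at hno
    obtain ⟨N, hN, hNp, hXN⟩ := baer_suzuki (Subgroup.zpowers t) hX hno
    exact hO N hN hNp (hXN (Subgroup.mem_zpowers t))
  obtain ⟨g, hg⟩ := hex
  rw [sup_eq_closure] at hg
  set s := g * t * g⁻¹ with hs
  have hso : orderOf s = 2 := by rw [hs, conj_order, ht]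
  have hs2 := ti_sq_of_order hso
  set n := orderOf (t * s) with hn
  have hnpos : n ≠ 0 := (orderOf_pos _).ne'
  have hcard : Nat.card (Subgroup.closure ({t, s} : Set G)) = 2 * n := by
    rw [Nat.card_congr (tiEquiv ht hso).toEquiv, DihedralGroup.nat_card]
  obtain ⟨e, m, hm, hnem⟩ := Nat.exists_eq_two_pow_mul_odd hnpos
  have hm1 : m ≠ 1 := by
    intro h1
    apply hg
    apply IsPGroup.of_card (n := e + 1)
    rw [hcard, hnem, h1, mul_one, pow_succ, mul_comm]
  have hmpos : 0 < m := hm.pos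
  refine ⟨(t * s) ^ (2 ^ e), ?_, ?_, ?_⟩
  · intro h1
    have hdvd : n ∣ 2 ^ e := orderOf_dvd_of_pow_eq_one h1
    rw [hnem] at hdvd
    have : 2 ^ e * m ≤ 2 ^ e := Nat.le_of_dvd (by positivity) hdvd
    have h2 : 0 < 2 ^ e := by positivity
    have : m ≤ 1 := by
      by_contra hgt
      push Not at hgt
      have : 2 ^ e * 2 ≤ 2 ^ e * m := Nat.mul_le_mul_left _ hgt
      omega
    omega
  · have hdvd : 2 ^ e ∣ orderOf (t * s) := by rw [← hn, hnem]; exact dvd_mul_right _ _
    rw [orderOf_pow_of_dvd (by positivity) hdvd, ← hn, hnem,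
      Nat.mul_div_cancel_left _ (by positivity)]
    exact hm
  · have := ti_conj_zpow ht2 hs2 ((2 ^ e : ℕ) : ℤ)
    rw [zpow_natCast] at this
    exact this

end Cfsg.Agent.S0200
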