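import Cfsg.Statements.S0207
import Mathlib
import Cfsg.Agent.Lib.helper2.Dihedral

set_option autoImplicit false
open Cfsg

namespace Cfsg.Agent.S0207

open Cfsg.Agent.Lib.helper2



/-- If x, y are distinct involutions, every element of the subgroup they generate that lies outside the cyclic subgroup generated by xy is an involution. -/
theorem result {G : Type*} [Group G] [Finite G] (x y : G) (hx : orderOf x = 2) (hy : orderOf y = 2) (hxy : x ≠ y) (d : G) (hd : d ∈ Subgroup.closure ({x, y} : Set G)) (hd' : d ∉ Subgroup.zpowers (x * y)) : orderOf d = 2 := by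
  have _ := hxy
  have hx' := Dih.mul_self_of_orderOf hx
  have hy' := Dih.mul_self_of_orderOf hy
  obtain ⟨k, hk | hk⟩ := Dih.mem_closure_form hx' hy' d hd
  · exact absurd ⟨k, hk.symm⟩ hd'
  · rw [orderOf_eq_prime_iff]
    refine ⟨?_, ?_⟩
    · rw [sq, hk]
      exact Dih.refl_mul_self hx' hy' k
    · rintro rfl
      exact hd' (Subgroup.one_mem _)

end Cfsg.Agent.S0207
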