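import Cfsg.Statements.S0210
import Mathlib
import Cfsg.Agent.Lib.helper2.Dihedral

set_option autoImplicit false
open Cfsg

namespace Cfsg.Agent.S0210

open Cfsg.Agent.Lib.helper2



/-- If x, y are involutions whose product has even order, no element of the subgroup generated by x and y conjugates x to y. -/
theorem result {G : Type*} [Group G] [Finite G] (x y : G) (hx : orderOf x = 2) (hy : orderOf y = 2) (heven : Even (orderOf (x * y))) (d : G) (hd : d ∈ Subgroup.closure ({x, y} : Set G)) : d * x * d⁻¹ ≠ y := by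
  have hx' := Dih.mul_self_of_orderOf hx
  have hy' := Dih.mul_self_of_orderOf hy
  obtain ⟨k, hk⟩ := Dih.conj_x_form hx' hy' d hd
  rw [hk]
  intro h
  have h0 := h.trans (Dih.y_eq' hx' hy' (x := x) (y := y))
  have h1 : (x * y) ^ (2 * k) = (x * y) ^ (-1 : ℤ) := mul_right_cancel h0
  have h2 : (x * y) ^ (2 * k + 1) = 1 := by
    rw [zpow_add, h1, zpow_neg, zpow_one, inv_mul_cancel]
  have h3 : ((orderOf (x * y) : ℕ) : ℤ) ∣ 2 * k + 1 := orderOf_dvd_iff_zpow_eq_one.mpr h2
  obtain ⟨m, hm⟩ := heven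
  rw [hm] at h3
  obtain ⟨c, hc⟩ := h3
  push_cast at hc
  have h4 : (2 : ℤ) ∣ 2 * k + 1 := ⟨m * c, by rw [hc]; ring⟩
  omega

end Cfsg.Agent.S0210
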