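import Cfsg.Statements.S0211
import Mathlib
import Cfsg.Agent.Lib.helper2.Dihedral

set_option autoImplicit false
open Cfsg

namespace Cfsg.Agent.S0211

open Cfsg.Agent.Lib.helper2



/-- Let x, y be involutions with xy of even order n and z = (xy)^(n/2). Then xz is conjugate to x by an element of the subgroup generated by x, y if and only if 4 divides n. -/
theorem result {G : Type*} [Group G] [Finite G] (x y : G) (hx : orderOf x = 2) (hy : orderOf y = 2) (heven : Even (orderOf (x * y))) : (∃ d ∈ Subgroup.closure ({x, y} : Set G), d * x * d⁻¹ = x * (x * y) ^ (orderOf (x * y) / 2)) ↔ 4 ∣ orderOf (x * y) := by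
  have hx' := Dih.mul_self_of_orderOf hx
  have hy' := Dih.mul_self_of_orderOf hy
  obtain ⟨_, hcx, _⟩ := Dih.central_invol hx' hy' (orderOf_pos _) heven
  rw [← hcx.eq]
  obtain ⟨m, hm⟩ := heven
  have hm2 : orderOf (x * y) / 2 = m := by omega
  rw [hm2]
  constructor
  · rintro ⟨d, hd, hdx⟩
    obtain ⟨k, hk⟩ := Dih.conj_x_form hx' hy' d hd
    rw [hk] at hdx
    have h1 : (x * y) ^ (2 * k) = (x * y) ^ (m : ℤ) := by
      rw [zpow_natCast]
      exact mul_right_cancel hdx
    have h2 : (x * y) ^ (2 * k - m) = 1 := by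
      rw [zpow_sub, h1, mul_inv_cancel]
    have h3 : ((orderOf (x * y) : ℕ) : ℤ) ∣ 2 * k - m := orderOf_dvd_iff_zpow_eq_one.mpr h2
    rw [hm] at h3
    obtain ⟨c, hc⟩ := h3
    push_cast at hc
    have h4 : (2 : ℤ) ∣ m := ⟨k - m * c, by linarith⟩
    have h5 : 2 ∣ m := by exact_mod_cast h4
    obtain ⟨e, he⟩ := h5
    exact ⟨e, by omega⟩
  · rintro ⟨c, hc⟩
    have hmc : m = 2 * c := by omega
    refine ⟨(x * y) ^ (c : ℤ), Subgroup.zpow_mem _ (Dih.rot_mem_closure x y) _, ?_⟩
    rw [Dih.conj_zpow_x hx' hy', hmc]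
    congr 1
    rw [← zpow_natCast]
    congr 1

end Cfsg.Agent.S0211
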