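import Cfsg.Statements.S0212
import Cfsg.Agent.Lib.Helper24.BrauerFowler2

set_option autoImplicit false
open Cfsg

namespace Cfsg.Agent.S0212

open Cfsg.Agent.Lib.Helper24 Cfsg.Agent.Lib.helper7

theorem small_case {G : Type*} [Group G] [Finite G] (t : G) (ht : orderOf t = 2)
    (hsmall : Nat.card G ≤ 2) :
    Nat.card G ≤ Nat.factorial (2 * (Nat.card (Subgroup.centralizer ({t} : Set G))) ^ 2) := by
  have h1 : 1 ≤ Nat.card (Subgroup.centralizer ({t} : Set G)) := Nat.card_pos
  have h2 : 2 ≤ 2 * (Nat.card (Subgroup.centralizer ({t} : Set G))) ^ 2 := by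
    have : 1 ≤ (Nat.card (Subgroup.centralizer ({t} : Set G))) ^ 2 := Nat.one_le_pow _ _ h1
    omega
  calc Nat.card G ≤ 2 := hsmall
    _ ≤ 2 * (Nat.card (Subgroup.centralizer ({t} : Set G))) ^ 2 := h2
    _ ≤ Nat.factorial (2 * (Nat.card (Subgroup.centralizer ({t} : Set G))) ^ 2) :=
        Nat.self_le_factorial _

theorem conj_order {G : Type*} [Group G] (g u : G) : orderOf (g * u * g⁻¹) = orderOf u := by
  have := orderOf_injective (MulAut.conj g).toMonoidHom (MulAut.conj g).injective u
  simpa using this

theorem result {G : Type*} [Group G] [Finite G] [IsSimpleGroup G] (t : G) (ht : orderOf t = 2) : Nat.card G ≤ Nat.factorial (2 * (Nat.card (Subgroup.centralizer ({t} : Set G))) ^ 2) := by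
  classical
  set n := Nat.card (Subgroup.centralizer ({t} : Set G)) with hn
  have h2dvd : 2 ∣ Nat.card G := by rw [← ht]; exact orderOf_dvd_natCard t
  have heven : Even (Nat.card G) := even_iff_two_dvd.mpr h2dvd
  rcases (Subgroup.Normal.eq_bot_or_eq_top (inferInstance : (Subgroup.center G).Normal)) with hZ | hZ
  swap
  · have hc : Nat.card G ≤ 2 := by
      haveI : IsMulCommutative G := ⟨⟨fun a b => by
        have : a ∈ Subgroup.center G := by rw [hZ]; exact Subgroup.mem_top a
        rw [Subgroup.mem_center_iff] at this
        exact (this b).symm⟩⟩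
      have hN : (Subgroup.zpowers t).Normal := inferInstance
      rcases hN.eq_bot_or_eq_top with h | h
      · exfalso
        have : t ∈ (⊥ : Subgroup G) := by rw [← h]; exact Subgroup.mem_zpowers t
        rw [Subgroup.mem_bot] at this
        rw [this, orderOf_one] at ht
        omega
      · have : Nat.card (Subgroup.zpowers t) = Nat.card G := by rw [h, Subgroup.card_top]
        rw [Nat.card_zpowers, ht] at this
        omega
    exact small_case t ht hc
  · have hZodd : Odd (Nat.card (Subgroup.center G)) := by
      rw [hZ, Subgroup.card_bot]; exact odd_one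
    obtain ⟨H, hHtop, hH⟩ := bf_index_bound heven hZodd
    rcases hH with hH | hH
    · haveI := Subgroup.normal_of_index_eq_two hH
      rcases (Subgroup.Normal.eq_bot_or_eq_top (inferInstance : H.Normal)) with hb | hb
      · have : Nat.card G = 2 := by
          rw [← Subgroup.index_bot, ← hb]; exact hH
        exact small_case t ht this.le
      · exact absurd hb hHtop
    · set N := Nat.card {t : G // orderOf t = 2} with hN
      have hclass := h7_card_class_mul_card_centralizer t
      have hkN : Nat.card {x : G // IsConj t x} ≤ N := by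
        rw [hN]
        apply Nat.card_le_card_of_injective
          (fun y : {y : G // IsConj t y} => (⟨y.1, by
            obtain ⟨c, hc⟩ := isConj_iff.mp y.2
            rw [← hc, conj_order, ht]⟩ : {x : G // orderOf x = 2}))
        intro a b hab
        apply Subtype.ext
        have := congrArg (fun z : {x : G // orderOf x = 2} => z.1) hab
        exact this
      have hgNn : Nat.card G ≤ N * n := by
        rw [← hclass]
        exact Nat.mul_le_mul_right _ hkN
      have hNpos : 0 < N := by
        rcases Nat.eq_zero_or_pos N with h | h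
        · rw [h, zero_mul] at hgNn
          have := Nat.card_pos (α := G)
          omega
        · exact h
      have h1 : Nat.card G * (Nat.card G + N) ≤ N ^ 2 * (n * (n + 1)) := by
        calc Nat.card G * (Nat.card G + N) ≤ (N * n) * (N * n + N) :=
              Nat.mul_le_mul hgNn (Nat.add_le_add_right hgNn N)
          _ = N ^ 2 * (n * (n + 1)) := by ring
      have h2 : N ^ 2 * (2 * H.index) < N ^ 2 * (n * (n + 1)) := by
        calc N ^ 2 * (2 * H.index) = 2 * H.index * N ^ 2 := by ring
          _ < Nat.card G * (Nat.card G + N) := hH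
          _ ≤ N ^ 2 * (n * (n + 1)) := h1
      have h3 : 2 * H.index < n * (n + 1) := lt_of_mul_lt_mul_left h2 (Nat.zero_le _)
      have hnpos : 1 ≤ n := Nat.card_pos
      have h4 : H.index ≤ 2 * n ^ 2 := by nlinarith
      have hcore : H.normalCore = ⊥ := by
        rcases (Subgroup.Normal.eq_bot_or_eq_top (inferInstance : H.normalCore.Normal)) with hb | hb
        · exact hb
        · exfalso
          apply hHtop
          exact top_le_iff.mp (hb ▸ Subgroup.normalCore_le H)
      have hinj : Function.Injective (MulAction.toPermHom G (G ⧸ H)) := by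
        rw [← MonoidHom.ker_eq_bot_iff, ← Subgroup.normalCore_eq_ker, hcore]
      have h5 : Nat.card G ≤ Nat.card (Equiv.Perm (G ⧸ H)) :=
        Nat.card_le_card_of_injective _ hinj
      rw [Nat.card_perm, ← Subgroup.index_eq_card] at h5
      exact le_trans h5 (Nat.factorial_le h4)

end Cfsg.Agent.S0212
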