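import Cfsg.Statements.S0213
import Cfsg.Agent.Lib.Helper24.ThompsonOrder

set_option autoImplicit false
open Cfsg

namespace Cfsg.Agent.S0213

open Cfsg.Agent.Lib.Helper24 Cfsg.Agent.Lib.helper7

theorem result {G : Type*} [Group G] [Finite G] (x₁ x₂ : G) (h₁ : orderOf x₁ = 2) (h₂ : orderOf x₂ = 2) (hnc : ¬ IsConj x₁ x₂) (hall : ∀ t : G, orderOf t = 2 → IsConj x₁ t ∨ IsConj x₂ t) : Nat.card G = Nat.card (Subgroup.centralizer ({x₂} : Set G)) * Nat.card {p : G × G // IsConj x₁ p.1 ∧ IsConj x₂ p.2 ∧ x₁ ∈ Subgroup.zpowers (p.1 * p.2)} + Nat.card (Subgroup.centralizer ({x₁} : Set G)) * Nat.card {p : G × G // IsConj x₁ p.1 ∧ IsConj x₂ p.2 ∧ x₂ ∈ Subgroup.zpowers (p.1 * p.2)} := by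
  classical
  haveI : Fintype G := Fintype.ofFinite G
  have hmain := tof_main x₁ x₂ h₁ h₂ hnc hall
  set S := Finset.univ.filter (fun p : G × G => IsConj x₁ p.1 ∧ IsConj x₂ p.2) with hS
  set K₁ := Finset.univ.filter (fun x : G => IsConj x₁ x) with hK₁
  set K₂ := Finset.univ.filter (fun x : G => IsConj x₂ x) with hK₂
  have hn : ∀ w : G, Nat.card {p : G × G // IsConj x₁ p.1 ∧ IsConj x₂ p.2 ∧
      w ∈ Subgroup.zpowers (p.1 * p.2)} =
      (S.filter (fun p => w ∈ Subgroup.zpowers (p.1 * p.2))).card := by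
    intro w
    rw [Nat.card_eq_fintype_card, Fintype.card_subtype, hS, Finset.filter_filter]
    congr 1
    apply Finset.filter_congr
    intro p _
    tauto
  rw [hn x₁, hn x₂]
  have hSprod : S = K₁ ×ˢ K₂ := by
    ext p
    simp only [hS, hK₁, hK₂, Finset.mem_filter, Finset.mem_univ, true_and, Finset.mem_product]
  have hScard : S.card = K₁.card * K₂.card := by rw [hSprod, Finset.card_product]
  have hk1 := h7_card_class_mul_card_centralizer x₁
  have hk2 := h7_card_class_mul_card_centralizer x₂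
  have hK1card : Nat.card {x : G // IsConj x₁ x} = K₁.card := by
    rw [Nat.card_eq_fintype_card, Fintype.card_subtype]
  have hK2card : Nat.card {x : G // IsConj x₂ x} = K₂.card := by
    rw [Nat.card_eq_fintype_card, Fintype.card_subtype]
  rw [hK1card] at hk1
  rw [hK2card] at hk2
  set c₁ := Nat.card (Subgroup.centralizer ({x₁} : Set G)) with hc₁
  set c₂ := Nat.card (Subgroup.centralizer ({x₂} : Set G)) with hc₂
  set n₁ := (S.filter (fun p => x₁ ∈ Subgroup.zpowers (p.1 * p.2))).card with hn₁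
  set n₂ := (S.filter (fun p => x₂ ∈ Subgroup.zpowers (p.1 * p.2))).card with hn₂
  rw [hScard] at hmain
  have hgpos : 0 < Nat.card G := Nat.card_pos
  have h3 : Nat.card G * Nat.card G = Nat.card G * (c₂ * n₁ + c₁ * n₂) := by
    calc Nat.card G * Nat.card G = (K₁.card * c₁) * (K₂.card * c₂) := by rw [hk1, hk2]
      _ = (K₁.card * K₂.card) * (c₁ * c₂) := by ring
      _ = (K₁.card * n₁ + K₂.card * n₂) * (c₁ * c₂) := by rw [hmain]
      _ = (K₁.card * c₁) * (c₂ * n₁) + (K₂.card * c₂) * (c₁ * n₂) := by ring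
      _ = Nat.card G * (c₂ * n₁ + c₁ * n₂) := by rw [hk1, hk2]; ring
  exact Nat.eq_of_mul_eq_mul_left hgpos h3

end Cfsg.Agent.S0213
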