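import Cfsg.Statements.S0216
import Cfsg.Agent.Lib.Helper24.TwoInvol3

set_option autoImplicit false
open Cfsg

namespace Cfsg.Agent.S0216

open Cfsg.Agent.Lib.Helper24

theorem conj_order {G : Type*} [Group G] (g u : G) : orderOf (g * u * g⁻¹) = orderOf u := by
  have := orderOf_injective (MulAut.conj g).toMonoidHom (MulAut.conj g).injective u
  simpa using this

theorem forward {G : Type*} [Group G] [Finite G] (P : Sylow 2 G) (u : G) (hu : orderOf u = 2)
    (huP : u ∈ P) (hiso : ∀ g : G, g * u * g⁻¹ ∈ P → g * u * g⁻¹ = u) (g : G) :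
    Odd (orderOf (u * g * u⁻¹ * g⁻¹)) := by
  have hu2 := ti_sq_of_order hu
  have huinv : u⁻¹ = u := ti_inv_of_sq hu2
  set v := g * u * g⁻¹ with hv
  have hvord : orderOf v = 2 := by rw [hv, conj_order, hu]
  have hcomm : u * g * u⁻¹ * g⁻¹ = u * v := by
    rw [hv, huinv]; simp only [mul_assoc]
  rw [hcomm]
  by_contra hodd
  have heven : Even (orderOf (u * v)) := Nat.not_odd_iff_even.mp hodd
  obtain ⟨hzord, hzu, -⟩ := ti_even_central hu hvord heven (orderOf_pos _).ne'
  set z := (u * v) ^ (orderOf (u * v) / 2) with hz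
  have hT := ti_four_isPGroup hu hzord hzu.symm
  have huz : ∃ k : G, k * u * k⁻¹ = u * z := by
    obtain ⟨d, -, hd | hd⟩ := ti_xz_conj hu hvord heven
    · exact ⟨d, hd⟩
    · refine ⟨d * g, ?_⟩
      rw [← hd, hv]; group
  have h1 : u = u * z := by
    apply ti_isolated_unique P u hiso _ hT u (u * z) ti_x_mem
      (Subgroup.mul_mem _ ti_x_mem ti_y_mem) ⟨1, by simp⟩ huz
  have hz1 : z = 1 := by
    have : u * 1 = u * z := by rw [mul_one]; exact h1
    exact (mul_left_cancel this).symm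
  rw [hz1, orderOf_one] at hzord
  omega

theorem result {G : Type*} [Group G] [Finite G] (P : Sylow 2 G) (u : G) (hu : orderOf u = 2) (huP : u ∈ P) : (∀ g : G, g * u * g⁻¹ ∈ P → g * u * g⁻¹ = u) ↔ (∀ g : G, Odd (orderOf (u * g * u⁻¹ * g⁻¹))) := by
  constructor
  · intro hiso g
    exact forward P u hu huP hiso g
  · intro hodd g hg
    have hu2 := ti_sq_of_order hu
    have huinv : u⁻¹ = u := ti_inv_of_sq hu2
    have hmem : u * g * u⁻¹ * g⁻¹ ∈ (P : Subgroup G) := by
      have : u * g * u⁻¹ * g⁻¹ = u * (g * u * g⁻¹) := by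
        rw [huinv]; simp only [mul_assoc]
      rw [this]
      exact Subgroup.mul_mem _ huP hg
    obtain ⟨k, hk⟩ := (IsPGroup.iff_orderOf.mp P.isPGroup') ⟨_, hmem⟩
    have hk' : orderOf (u * g * u⁻¹ * g⁻¹) = 2 ^ k := by
      rw [← hk]
      exact (Subgroup.orderOf_mk _ hmem).symm
    have h1 : orderOf (u * g * u⁻¹ * g⁻¹) = 1 := by
      have ho := hodd g
      rw [hk'] at ho ⊢
      rcases Nat.eq_zero_or_pos k with rfl | hpos
      · rfl
      · exfalso
        have : Even (2 ^ k) := (Nat.even_pow.mpr ⟨even_two, hpos.ne'⟩)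
        exact (Nat.not_odd_iff_even.mpr this) ho
    have h2 : u * g * u⁻¹ * g⁻¹ = 1 := orderOf_eq_one_iff.mp h1
    have : u * (g * u * g⁻¹) = 1 := by
      rw [← h2, huinv]; simp only [mul_assoc]
    have h3 : g * u * g⁻¹ = u⁻¹ := eq_inv_of_mul_eq_one_right this
    rw [h3, huinv]

end Cfsg.Agent.S0216
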