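import Cfsg.Statements.S0218
import Mathlib

set_option autoImplicit false
open Cfsg

namespace Cfsg.Agent.S0218


theorem key (N : ℕ) [NeZero N] (x : QuaternionGroup N) : orderOf x = 2 ↔ x = QuaternionGroup.a (N : ZMod (2 * N)) := by
  have hN : N ≠ 0 := NeZero.ne N
  have : NeZero (2 * N) := ⟨by omega⟩
  have hNne : ((N : ℕ) : ZMod (2 * N)) ≠ 0 := by
    rw [Ne, ZMod.natCast_eq_zero_iff]
    intro h
    have := Nat.le_of_dvd (Nat.pos_of_ne_zero hN) h
    omega
  have hNN : ((N : ℕ) : ZMod (2 * N)) + N = 0 := by
    rw [← Nat.cast_add, ZMod.natCast_eq_zero_iff]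
    exact ⟨1, by ring⟩
  rw [orderOf_eq_prime_iff]
  cases x with
  | a i =>
    rw [sq, QuaternionGroup.a_mul_a, QuaternionGroup.one_def]
    constructor
    · rintro ⟨h1, h2⟩
      have h1' : i + i = 0 := by injection h1
      have h2' : i ≠ 0 := fun h => h2 (by rw [h])
      congr 1
      have hi : ((i.val : ℕ) : ZMod (2 * N)) = i := ZMod.natCast_zmod_val i
      have hlt : i.val < 2 * N := ZMod.val_lt i
      have hd : 2 * N ∣ i.val + i.val := by
        rw [← ZMod.natCast_eq_zero_iff, Nat.cast_add, hi, h1']
      have hv0 : i.val ≠ 0 := fun h => h2' (by rw [← hi, h, Nat.cast_zero])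
      have : i.val = N := by
        obtain ⟨c, hc⟩ := hd
        have hc1 : c < 2 := by
          by_contra hcon
          have : 2 * N * 2 ≤ 2 * N * c := Nat.mul_le_mul_left _ (by omega)
          omega
        have hc0 : c ≠ 0 := by
          rintro rfl
          omega
        have : c = 1 := by omega
        subst this
        omega
      rw [← hi, this]
    · intro h
      have h' : i = N := by injection h
      subst h'
      refine ⟨by rw [hNN], ?_⟩
      intro h
      apply hNne
      injection h
  | xa i =>
    constructor
    · rintro ⟨h1, _⟩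
      exfalso
      rw [QuaternionGroup.xa_sq, QuaternionGroup.one_def] at h1
      apply hNne
      injection h1
    · intro h
      exact absurd h (by simp)



/-- The generalized quaternion group of order 2^(n+3) contains exactly one element of order 2. -/
theorem result (n : ℕ) : Nat.card {x : QuaternionGroup (2 ^ (n + 1)) // orderOf x = 2} = 1 := by
  have : NeZero (2 ^ (n + 1)) := ⟨by positivity⟩
  rw [Nat.card_congr (Equiv.subtypeEquivRight (key (2 ^ (n + 1))))]
  simp

end Cfsg.Agent.S0218
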