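import Cfsg.Statements.S0224
import Cfsg.Agent.Lib.Helper24.StrongEmbEquiv

set_option autoImplicit false
open Cfsg

namespace Cfsg.Agent.S0224

open Cfsg.Agent.Lib.Helper24

theorem result {G : Type*} [Group G] [Finite G] (H : Subgroup G) (hH : H ≠ ⊤) (heven : Even (Nat.card H)) : Cfsg.IsStronglyEmbedded H ↔ ∀ t ∈ H, orderOf t = 2 → Nat.card {c : G ⧸ H // t • c = c} = 1 := by
  exact se_iff_fixed H hH heven

end Cfsg.Agent.S0224
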