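import Cfsg.Statements.S0226
import Mathlib

set_option autoImplicit false
open Cfsg

namespace Cfsg.Agent.S0226


theorem card_modEq_card_fixed_of_involutive {α : Type*} [Finite α] (f : α → α) (hf : Function.Involutive f) :
    Nat.card α ≡ Nat.card {a : α // f a = a} [MOD 2] := by
  classical
  have : Fintype α := Fintype.ofFinite α
  have : Fact (Nat.Prime 2) := ⟨Nat.prime_two⟩
  have h := Equiv.Perm.card_compl_support_modEq (α := α) (σ := hf.toPerm) (p := 2) (n := 1) (by
    ext a
    simp [pow_two, hf a])
  rw [Nat.card_eq_fintype_card, Nat.card_eq_fintype_card, Fintype.card_subtype]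
  refine h.symm.trans ?_
  have : (Function.Involutive.toPerm f hf).supportᶜ = Finset.univ.filter (fun a => f a = a) := by
    ext a
    simp
  rw [this]

theorem orderOf_eq_two_iff' {G : Type*} [Group G] (t : G) : orderOf t = 2 ↔ t ≠ 1 ∧ t⁻¹ = t := by
  haveI : Fact (Nat.Prime 2) := ⟨Nat.prime_two⟩
  rw [orderOf_eq_prime_iff]
  constructor
  · rintro ⟨h1, h2⟩
    refine ⟨h2, ?_⟩
    rw [inv_eq_iff_mul_eq_one, ← pow_two, h1]
  · rintro ⟨h1, h2⟩
    refine ⟨?_, h1⟩
    rw [pow_two]
    exact inv_eq_iff_mul_eq_one.mp h2



/-- A finite group of even order has an odd number of involutions. -/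
theorem result {G : Type*} [Group G] [Finite G] (heven : Even (Nat.card G)) : Odd (Nat.card {t : G // orderOf t = 2}) := by
  classical
  have : Fintype G := Fintype.ofFinite G
  have h := card_modEq_card_fixed_of_involutive (fun g : G => g⁻¹) inv_inv
  have h2 : Nat.card {a : G // a⁻¹ = a} = Nat.card {t : G // orderOf t = 2} + 1 := by
    simp only [orderOf_eq_two_iff']
    rw [Nat.card_eq_fintype_card, Nat.card_eq_fintype_card, Fintype.card_subtype, Fintype.card_subtype]
    have : (Finset.univ.filter (fun a : G => a⁻¹ = a)) = insert 1 (Finset.univ.filter (fun a : G => a ≠ 1 ∧ a⁻¹ = a)) := by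
      ext a
      simp only [Finset.mem_filter, Finset.mem_univ, true_and, Finset.mem_insert]
      constructor
      · intro h
        by_cases h1 : a = 1
        · left; exact h1
        · right; exact ⟨h1, h⟩
      · rintro (h | h)
        · rw [h]; simp
        · exact h.2
    rw [this, Finset.card_insert_of_notMem]
    simp
  rw [h2] at h
  have h3 : (Nat.card {t : G // orderOf t = 2} + 1) % 2 = 0 := by
    rw [← h]
    exact Nat.even_iff.mp heven
  rw [Nat.odd_iff]
  omega

end Cfsg.Agent.S0226
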