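import Cfsg.Statements.S0229
import Cfsg.Agent.Lib.Helper24.TwoInvol3

set_option autoImplicit false
open Cfsg

namespace Cfsg.Agent.S0229

open Cfsg.Agent.Lib.Helper24

theorem order_swap {G : Type*} [Group G] (s t : G) : orderOf (t * s) = orderOf (s * t) := by
  have := orderOf_injective (MulAut.conj t).toMonoidHom (MulAut.conj t).injective (s * t)
  have h2 : (MulAut.conj t).toMonoidHom (s * t) = t * s := by
    simp [MulAut.conj_apply, mul_assoc]
  rw [h2] at this
  exact this

theorem result {G : Type*} [Group G] [Finite G] (S : Sylow 2 G) (t : G) (ht : orderOf t = 2) (htS : t ∈ S) (hiso : ∀ g : G, g * t * g⁻¹ ∈ S → g * t * g⁻¹ = t) (s : G) (hs : orderOf s = 2) (hns : ¬ IsConj s t) : orderOf (s * t) % 4 = 2 := by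
  have heven : Even (orderOf (s * t)) := by
    by_contra hodd
    have hodd' : Odd (orderOf (s * t)) := Nat.not_even_iff_odd.mp hodd
    obtain ⟨d, -, hd⟩ := ti_odd_conj hs ht hodd'
    apply hns
    rw [isConj_iff]
    exact ⟨d, hd⟩
  have h4 : ¬ 4 ∣ orderOf (s * t) := by
    intro h4
    have heven' : Even (orderOf (t * s)) := by rw [order_swap]; exact heven
    have h4' : 4 ∣ orderOf (t * s) := by rw [order_swap]; exact h4
    obtain ⟨d, -, hd⟩ := (ti_even_conj_iff ht hs heven').mpr h4'
    obtain ⟨hzord, hzt, -⟩ := ti_even_central ht hs heven' (orderOf_pos _).ne'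
    set z := (t * s) ^ (orderOf (t * s) / 2) with hz
    have hT := ti_four_isPGroup ht hzord hzt.symm
    have h1 : t = t * z := by
      apply ti_isolated_unique S t hiso _ hT t (t * z) ti_x_mem
        (Subgroup.mul_mem _ ti_x_mem ti_y_mem) ⟨1, by simp⟩ ⟨d, hd⟩
    have hz1 : z = 1 := by
      have : t * 1 = t * z := by rw [mul_one]; exact h1
      exact (mul_left_cancel this).symm
    rw [hz1, orderOf_one] at hzord
    omega
  obtain ⟨h, hh⟩ := heven
  omega

end Cfsg.Agent.S0229
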