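import Cfsg.Statements.S0230
import Cfsg.Agent.Lib.Helper24.TwoInvol3
import Cfsg.Agent.Lib.helper7.ClassSum

set_option autoImplicit false
open Cfsg

namespace Cfsg.Agent.S0230

open Cfsg.Agent.Lib.Helper24 Cfsg.Agent.Lib.helper7

theorem conj_order {G : Type*} [Group G] (g u : G) : orderOf (g * u * g⁻¹) = orderOf u := by
  have := orderOf_injective (MulAut.conj g).toMonoidHom (MulAut.conj g).injective u
  simpa using this

theorem mem_cent {G : Type*} [Group G] (u x : G) :
    x ∈ Subgroup.centralizer ({u} : Set G) ↔ Commute x u := by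
  rw [Subgroup.mem_centralizer_iff]
  constructor
  · intro h
    exact (h u rfl).symm
  · intro h y hy
    rw [Set.mem_singleton_iff] at hy
    rw [hy]
    exact h.eq.symm

theorem card_cent {G : Type*} [Group G] [Fintype G] (u : G)
    [DecidablePred fun x : G => Commute x u] :
    Nat.card (Subgroup.centralizer ({u} : Set G)) =
      (Finset.univ.filter (fun x : G => Commute x u)).card := by
  rw [← Fintype.card_subtype, ← Nat.card_eq_fintype_card]
  apply Nat.card_congr
  exact Equiv.subtypeEquivRight (mem_cent u)

theorem result {G : Type*} [Group G] [Finite G] (s t : G) (hs : orderOf s = 2) (ht : orderOf t = 2) (hnc : ¬ IsConj s t) (hmax : ∀ u : G, orderOf u = 2 → Nat.card (Subgroup.centralizer ({u} : Set G)) ≤ Nat.card (Subgroup.centralizer ({t} : Set G))) : Nat.card G < Nat.card (Subgroup.centralizer ({t} : Set G)) ^ 3 := by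
  classical
  haveI : Fintype G := Fintype.ofFinite G
  set m := Nat.card (Subgroup.centralizer ({t} : Set G)) with hm
  set K := Finset.univ.filter (fun x : G => IsConj s x) with hK
  set I := Finset.univ.filter (fun z : G => orderOf z = 2 ∧ Commute z t) with hI
  have hKcard : Nat.card {x : G // IsConj s x} = K.card := by
    rw [Nat.card_eq_fintype_card, Fintype.card_subtype]
  have hprod := h7_card_class_mul_card_centralizer s
  rw [hKcard] at hprod
  have hcs : Nat.card (Subgroup.centralizer ({s} : Set G)) ≤ m := hmax s hs
  have hsub : K ⊆ I.biUnion (fun z => Finset.univ.filter (fun x : G => Commute x z)) := by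
    intro s' hs'
    have hconj : IsConj s s' := (Finset.mem_filter.mp hs').2
    obtain ⟨c, hc⟩ := isConj_iff.mp hconj
    have hs'ord : orderOf s' = 2 := by rw [← hc, conj_order, hs]
    have heven : Even (orderOf (s' * t)) := by
      by_contra hodd
      have hodd' : Odd (orderOf (s' * t)) := Nat.not_even_iff_odd.mp hodd
      obtain ⟨d, -, hd⟩ := ti_odd_conj hs'ord ht hodd'
      apply hnc
      exact hconj.trans (isConj_iff.mpr ⟨d, hd⟩)
    obtain ⟨hzord, hzs, hzt⟩ := ti_even_central hs'ord ht heven (orderOf_pos _).ne'
    rw [Finset.mem_biUnion]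
    refine ⟨(s' * t) ^ (orderOf (s' * t) / 2), ?_, ?_⟩
    · rw [hI, Finset.mem_filter]
      exact ⟨Finset.mem_univ _, hzord, hzt⟩
    · rw [Finset.mem_filter]
      exact ⟨Finset.mem_univ _, hzs.symm⟩
  have hIcard : I.card + 1 ≤ m := by
    rw [hm, card_cent t]
    have h1 : I ⊆ (Finset.univ.filter (fun x : G => Commute x t)).erase 1 := by
      intro z hz
      have hz' := (Finset.mem_filter.mp hz).2
      rw [Finset.mem_erase, Finset.mem_filter]
      refine ⟨?_, Finset.mem_univ _, hz'.2⟩
      intro h1
      rw [h1, orderOf_one] at hz'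
      omega
    have h2 := Finset.card_le_card h1
    have h3 : (1 : G) ∈ Finset.univ.filter (fun x : G => Commute x t) := by
      rw [Finset.mem_filter]
      exact ⟨Finset.mem_univ _, Commute.one_left t⟩
    rw [Finset.card_erase_of_mem h3] at h2
    have h4 : 0 < (Finset.univ.filter (fun x : G => Commute x t)).card :=
      Finset.card_pos.mpr ⟨1, h3⟩
    omega
  have hKle : K.card ≤ I.card * m := by
    calc K.card ≤ (I.biUnion (fun z => Finset.univ.filter (fun x : G => Commute x z))).card :=
          Finset.card_le_card hsub
      _ ≤ ∑ z ∈ I, (Finset.univ.filter (fun x : G => Commute x z)).card := Finset.card_biUnion_le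
      _ ≤ ∑ _z ∈ I, m := by
          apply Finset.sum_le_sum
          intro z hz
          rw [← card_cent z]
          exact hmax z (Finset.mem_filter.mp hz).2.1
      _ = I.card * m := by rw [Finset.sum_const, smul_eq_mul]
  have hmpos : 0 < m := Nat.card_pos
  calc Nat.card G = K.card * Nat.card (Subgroup.centralizer ({s} : Set G)) := hprod.symm
    _ ≤ (I.card * m) * m := Nat.mul_le_mul hKle hcs
    _ < ((I.card + 1) * m) * m := by
        apply Nat.mul_lt_mul_of_pos_right _ hmpos
        apply Nat.mul_lt_mul_of_pos_right _ hmpos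
        omega
    _ ≤ (m * m) * m := by
        apply Nat.mul_le_mul_right
        apply Nat.mul_le_mul_right
        exact hIcard
    _ = m ^ 3 := by ring

end Cfsg.Agent.S0230
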