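import Cfsg.Statements.S0231
import Cfsg.Agent.Lib.Helper24.TwoInvol3

set_option autoImplicit false
open scoped Pointwise
open Cfsg

namespace Cfsg.Agent.S0231

open Cfsg.Agent.Lib.Helper24

theorem mem_conj_smul {G : Type*} [Group G] (H : Subgroup G) (g x : G) :
    x ∈ MulAut.conj g • H ↔ g⁻¹ * x * g ∈ H := by
  rw [Subgroup.mem_pointwise_smul_iff_inv_smul_mem]
  simp only [MulAut.smul_def, MulAut.conj_inv_apply]

theorem sylow_ti {G : Type*} [Group G] [Finite G] (T : Sylow 2 G)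
    (hTI : ∀ g : G, MulAut.conj g • (T : Subgroup G) ≠ T → MulAut.conj g • (T : Subgroup G) ⊓ T = ⊥)
    (Q₁ Q₂ : Sylow 2 G) (hne : Q₁ ≠ Q₂) (x : G) (h1 : x ∈ Q₁) (h2 : x ∈ Q₂) : x = 1 := by
  haveI : Fact (Nat.Prime 2) := ⟨Nat.prime_two⟩
  obtain ⟨a, ha⟩ := MulAction.exists_smul_eq G T Q₁
  obtain ⟨b, hb⟩ := MulAction.exists_smul_eq G T Q₂
  have h1' : x ∈ MulAut.conj a • (T : Subgroup G) := by
    rw [← Sylow.coe_subgroup_smul, ha]; exact h1
  have h2' : x ∈ MulAut.conj b • (T : Subgroup G) := by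
    rw [← Sylow.coe_subgroup_smul, hb]; exact h2
  rw [mem_conj_smul] at h1' h2'
  have hne' : MulAut.conj (a⁻¹ * b) • (T : Subgroup G) ≠ T := by
    intro h
    apply hne
    rw [← ha, ← hb]
    have h3 : (a⁻¹ * b) • T = T := by
      apply Sylow.ext
      rw [Sylow.coe_subgroup_smul]
      exact h
    rw [mul_smul] at h3
    have : a • (a⁻¹ • (b • T)) = a • T := by rw [h3]
    rw [smul_inv_smul] at this
    exact this.symm
  have h3 := hTI (a⁻¹ * b) hne'
  have hmem : a⁻¹ * x * a ∈ MulAut.conj (a⁻¹ * b) • (T : Subgroup G) ⊓ T := by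
    rw [Subgroup.mem_inf]
    refine ⟨?_, h1'⟩
    rw [mem_conj_smul]
    have : (a⁻¹ * b)⁻¹ * (a⁻¹ * x * a) * (a⁻¹ * b) = b⁻¹ * x * b := by group
    rw [this]
    exact h2'
  rw [h3, Subgroup.mem_bot] at hmem
  have : x = a * (a⁻¹ * x * a) * a⁻¹ := by group
  rw [this, hmem]
  group

theorem exists_sylow_of_involution {G : Type*} [Group G] [Finite G] (s : G) (hs : orderOf s = 2) :
    ∃ Q : Sylow 2 G, s ∈ Q := by
  haveI : Fact (Nat.Prime 2) := ⟨Nat.prime_two⟩
  have hp : IsPGroup 2 (Subgroup.zpowers s) := by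
    apply IsPGroup.of_card (n := 1)
    rw [Nat.card_zpowers, hs, pow_one]
  obtain ⟨Q, hQ⟩ := hp.exists_le_sylow
  exact ⟨Q, hQ (Subgroup.mem_zpowers s)⟩

theorem conj_of_ne {G : Type*} [Group G] [Finite G] (T : Sylow 2 G)
    (hTI : ∀ g : G, MulAut.conj g • (T : Subgroup G) ≠ T → MulAut.conj g • (T : Subgroup G) ⊓ T = ⊥)
    (s t : G) (hs : orderOf s = 2) (ht : orderOf t = 2) (Q₁ Q₂ : Sylow 2 G) (hne : Q₁ ≠ Q₂)
    (h1 : s ∈ Q₁) (h2 : t ∈ Q₂) : IsConj s t := by
  haveI : Fact (Nat.Prime 2) := ⟨Nat.prime_two⟩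
  by_cases hodd : Odd (orderOf (s * t))
  · obtain ⟨d, -, hd⟩ := ti_odd_conj hs ht hodd
    exact isConj_iff.mpr ⟨d, hd⟩
  · exfalso
    have heven : Even (orderOf (s * t)) := Nat.not_odd_iff_even.mp hodd
    obtain ⟨hzord, hzs, hzt⟩ := ti_even_central hs ht heven (orderOf_pos _).ne'
    set z := (s * t) ^ (orderOf (s * t) / 2) with hz
    have key : ∀ (u : G) (Q : Sylow 2 G), orderOf u = 2 → Commute z u → u ∈ Q → z ∈ Q := by
      intro u Q hu hzu huQ
      have hU := ti_four_isPGroup hu hzord hzu.symm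
      obtain ⟨Q', hQ'⟩ := hU.exists_le_sylow
      have huQ' : u ∈ Q' := hQ' ti_x_mem
      have hzQ' : z ∈ Q' := hQ' ti_y_mem
      by_cases hQQ : Q' = Q
      · rw [← hQQ]; exact hzQ'
      · exfalso
        have := sylow_ti T hTI Q' Q hQQ u huQ' huQ
        rw [this, orderOf_one] at hu
        omega
    have hz1 := key s Q₁ hs hzs h1
    have hz2 := key t Q₂ ht hzt h2
    have := sylow_ti T hTI Q₁ Q₂ hne z hz1 hz2
    rw [this, orderOf_one] at hzord
    omega

theorem result {G : Type*} [Group G] [Finite G] (T : Sylow 2 G) (hnn : ¬ (T : Subgroup G).Normal) (hTI : ∀ g : G, MulAut.conj g • (T : Subgroup G) ≠ T → MulAut.conj g • (T : Subgroup G) ⊓ T = ⊥) (s t : G) (hs : orderOf s = 2) (ht : orderOf t = 2) : IsConj s t := by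
  haveI : Fact (Nat.Prime 2) := ⟨Nat.prime_two⟩
  obtain ⟨Q₁, h1⟩ := exists_sylow_of_involution s hs
  obtain ⟨Q₂, h2⟩ := exists_sylow_of_involution t ht
  by_cases hne : Q₁ = Q₂
  · subst hne
    have hex : ∃ Q' : Sylow 2 G, Q' ≠ Q₁ := by
      by_contra hall
      push Not at hall
      apply hnn
      have hsub : Subsingleton (Sylow 2 G) := ⟨fun a b => (hall a).trans (hall b).symm⟩
      exact Sylow.normal_of_subsingleton T
    obtain ⟨Q', hQ'⟩ := hex
    have hQ'nt : (Q' : Subgroup G) ≠ ⊥ := by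
      intro hbot
      obtain ⟨a, ha⟩ := MulAction.exists_smul_eq G Q' Q₁
      have : (Q₁ : Subgroup G) = ⊥ := by
        rw [← ha, Sylow.coe_subgroup_smul, hbot]
        simp
      have hs1 : s ∈ (⊥ : Subgroup G) := by rw [← this]; exact h1
      rw [Subgroup.mem_bot] at hs1
      rw [hs1, orderOf_one] at hs
      omega
    have hcard : 2 ∣ Nat.card (Q' : Subgroup G) := by
      obtain ⟨n, hn⟩ := (IsPGroup.iff_card.mp Q'.isPGroup')
      rw [hn]
      rcases Nat.eq_zero_or_pos n with rfl | hpos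
      · exfalso
        apply hQ'nt
        rw [pow_zero] at hn
        exact Subgroup.card_eq_one.mp hn
      · exact dvd_pow_self 2 hpos.ne'
    obtain ⟨r, hr⟩ := exists_prime_orderOf_dvd_card' 2 hcard
    have hr' : orderOf (r : G) = 2 := by rw [Subgroup.orderOf_coe]; exact hr
    have hsr := conj_of_ne T hTI s r hs hr' Q₁ Q' hQ'.symm h1 r.2
    have htr := conj_of_ne T hTI t r ht hr' Q₁ Q' hQ'.symm h2 r.2
    exact hsr.trans htr.symm
  · exact conj_of_ne T hTI s t hs ht Q₁ Q₂ hne h1 h2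

end Cfsg.Agent.S0231
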