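import Cfsg.Statements.S0235
import Mathlib

set_option autoImplicit false
open Cfsg

namespace Cfsg.Agent.S0235


theorem orderOf_eq_two_iff' {G : Type*} [Group G] (t : G) : orderOf t = 2 ↔ t ≠ 1 ∧ t * t = 1 := by
  have : Fact (Nat.Prime 2) := ⟨Nat.prime_two⟩
  rw [orderOf_eq_prime_iff, pow_two, and_comm]



/-- If x² ≠ 1, the ordered pairs (u, v) of involutions with uv = x correspond bijectively to the involutions t with t x t⁻¹ = x⁻¹ (via (u, v) ↦ u), so the two counts agree. -/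
theorem result {G : Type*} [Group G] [Finite G] (x : G) (hx : x ^ 2 ≠ 1) : Nat.card {p : G × G // orderOf p.1 = 2 ∧ orderOf p.2 = 2 ∧ p.1 * p.2 = x} = Nat.card {t : G // orderOf t = 2 ∧ t * x * t⁻¹ = x⁻¹} := by
  apply Nat.card_congr
  simp only [orderOf_eq_two_iff']
  refine
    { toFun := fun p => ⟨p.1.1, p.2.1, ?_⟩
      invFun := fun t => ⟨(t.1, t.1⁻¹ * x), t.2.1, ⟨?_, ?_⟩, ?_⟩
      left_inv := ?_
      right_inv := ?_ }
  · obtain ⟨⟨u, v⟩, ⟨hu1, hu⟩, ⟨hv1, hv⟩, huv⟩ := p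
    simp only at hu hv huv ⊢
    have hu' : u⁻¹ = u := inv_eq_of_mul_eq_one_left hu
    have hv' : v⁻¹ = v := inv_eq_of_mul_eq_one_left hv
    rw [← huv, mul_inv_rev, hu', hv', mul_assoc, mul_assoc, ← mul_assoc u u, hu, one_mul]
  · obtain ⟨t, ⟨ht1, ht⟩, htx⟩ := t
    simp only
    intro h
    apply hx
    have h2 : x = t := by
      have h3 : t⁻¹ * x = 1 := h
      rw [inv_mul_eq_one] at h3
      exact h3.symm
    rw [h2, pow_two]
    exact ht
  · obtain ⟨t, ⟨ht1, ht⟩, htx⟩ := t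
    simp only
    have ht' : t⁻¹ = t := inv_eq_of_mul_eq_one_left ht
    have : t⁻¹ * x * (t⁻¹ * x) = (t * x * t⁻¹) * x := by rw [ht']; group
    rw [this, htx]; group
  · obtain ⟨t, ⟨ht1, ht⟩, htx⟩ := t
    simp only
    group
  · rintro ⟨⟨u, v⟩, ⟨hu1, hu⟩, ⟨hv1, hv⟩, huv⟩
    simp only at hu hv huv ⊢
    apply Subtype.ext
    simp only
    rw [← huv]
    congr 1
    group
  · rintro ⟨t, ⟨ht1, ht⟩, htx⟩
    rfl

end Cfsg.Agent.S0235
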