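import Cfsg.Statements.S0236
import Mathlib

set_option autoImplicit false
open Cfsg

namespace Cfsg.Agent.S0236


theorem orderOf_eq_two_iff' {G : Type*} [Group G] (t : G) : orderOf t = 2 ↔ t ≠ 1 ∧ t * t = 1 := by
  have : Fact (Nat.Prime 2) := ⟨Nat.prime_two⟩
  rw [orderOf_eq_prime_iff, pow_two, and_comm]

noncomputable def pairs_equiv {G : Type*} [Group G] (x : G) (hx : orderOf x = 2) :
    {p : G × G // orderOf p.1 = 2 ∧ orderOf p.2 = 2 ∧ p.1 * p.2 = x} ≃ {t : G // (orderOf t = 2 ∧ Commute t x) ∧ t ≠ x} := by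
  obtain ⟨hx1, hxx⟩ := (orderOf_eq_two_iff' x).mp hx
  simp only [orderOf_eq_two_iff']
  refine
    { toFun := fun p => ⟨p.1.1, ⟨p.2.1, ?_⟩, ?_⟩
      invFun := fun t => ⟨(t.1, t.1⁻¹ * x), t.2.1.1, ⟨?_, ?_⟩, ?_⟩
      left_inv := ?_
      right_inv := ?_ }
  · obtain ⟨⟨u, v⟩, ⟨hu1, hu⟩, ⟨hv1, hv⟩, huv⟩ := p
    simp only at hu hv huv ⊢
    have hu' : u⁻¹ = u := inv_eq_of_mul_eq_one_left hu
    have hv' : v⁻¹ = v := inv_eq_of_mul_eq_one_left hv
    have hx' : x⁻¹ = x := inv_eq_of_mul_eq_one_left hxx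
    show u * x = x * u
    have h1 : x = v * u := by
      rw [← hx', ← huv, mul_inv_rev, hu', hv']
    calc u * x = u * (u * v) := by rw [huv]
      _ = v := by rw [← mul_assoc, hu, one_mul]
      _ = v * u * u := by rw [mul_assoc, hu, mul_one]
      _ = x * u := by rw [← h1]
  · obtain ⟨⟨u, v⟩, ⟨hu1, hu⟩, ⟨hv1, hv⟩, huv⟩ := p
    simp only at hu hv huv hv1 ⊢
    intro h
    apply hv1
    rw [h] at huv
    exact mul_eq_left.mp huv
  · obtain ⟨t, ⟨⟨ht1, ht⟩, htx⟩, hne⟩ := t
    simp only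
    intro h
    apply hne
    have h3 : t⁻¹ * x = 1 := h
    rw [inv_mul_eq_one] at h3
    exact h3
  · obtain ⟨t, ⟨⟨ht1, ht⟩, htx⟩, hne⟩ := t
    simp only
    have ht' : t⁻¹ = t := inv_eq_of_mul_eq_one_left ht
    have htx' : t * x = x * t := htx
    rw [ht']
    calc t * x * (t * x) = t * (x * t) * x := by group
      _ = t * (t * x) * x := by rw [htx']
      _ = (t * t) * (x * x) := by group
      _ = 1 := by rw [ht, hxx, one_mul]
  · obtain ⟨t, ⟨⟨ht1, ht⟩, htx⟩, hne⟩ := t
    simp only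
    group
  · rintro ⟨⟨u, v⟩, ⟨hu1, hu⟩, ⟨hv1, hv⟩, huv⟩
    simp only at hu hv huv ⊢
    apply Subtype.ext
    simp only
    rw [← huv]
    congr 1
    group
  · rintro ⟨t, ⟨⟨ht1, ht⟩, htx⟩, hne⟩
    rfl



/-- If x is an involution, the number of ordered pairs (u, v) of involutions with uv = x, plus one, equals the number of involutions in the centralizer of x. -/
theorem result {G : Type*} [Group G] [Finite G] (x : G) (hx : orderOf x = 2) : Nat.card {p : G × G // orderOf p.1 = 2 ∧ orderOf p.2 = 2 ∧ p.1 * p.2 = x} + 1 = Nat.card {t : G // orderOf t = 2 ∧ Commute t x} := by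
  classical
  have : Fintype G := Fintype.ofFinite G
  rw [Nat.card_congr (pairs_equiv x hx)]
  rw [Nat.card_eq_fintype_card, Nat.card_eq_fintype_card, Fintype.card_subtype, Fintype.card_subtype]
  have : (Finset.univ.filter (fun t : G => orderOf t = 2 ∧ Commute t x)) = insert x (Finset.univ.filter (fun t : G => (orderOf t = 2 ∧ Commute t x) ∧ t ≠ x)) := by
    ext a
    simp only [Finset.mem_filter, Finset.mem_univ, true_and, Finset.mem_insert]
    constructor
    · intro h
      by_cases h1 : a = x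
      · left; exact h1
      · right; exact ⟨h, h1⟩
    · rintro (h | h)
      · rw [h]; exact ⟨hx, Commute.refl x⟩
      · exact h.1
  rw [this, Finset.card_insert_of_notMem]
  simp

end Cfsg.Agent.S0236
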