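import Cfsg.Statements.S0237
import Mathlib

set_option autoImplicit false
open Cfsg

namespace Cfsg.Agent.S0237


theorem card_inverting {G : Type*} [Group G] (x g0 : G) (hg0 : g0 * x * g0⁻¹ = x⁻¹) :
    Nat.card {g : G // g * x * g⁻¹ = x⁻¹} = Nat.card (Subgroup.centralizer ({x} : Set G)) := by
  apply Nat.card_congr
  refine
    { toFun := fun g => ⟨g0⁻¹ * g.1, ?_⟩
      invFun := fun c => ⟨g0 * c.1, ?_⟩
      left_inv := fun g => by simp
      right_inv := fun c => by simp }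
  · rw [Subgroup.mem_centralizer_singleton_iff]
    have h1 := g.2
    have h2 : x = g0⁻¹ * x⁻¹ * g0 := by rw [← hg0]; group
    calc g0⁻¹ * g.1 * x = g0⁻¹ * (g.1 * x * g.1⁻¹) * g.1 := by group
      _ = g0⁻¹ * x⁻¹ * g0 * (g0⁻¹ * g.1) := by rw [h1]; group
      _ = x * (g0⁻¹ * g.1) := by rw [← h2]
  · have h1 := Subgroup.mem_centralizer_singleton_iff.mp c.2
    calc g0 * c.1 * x * (g0 * c.1)⁻¹ = g0 * (c.1 * x) * c.1⁻¹ * g0⁻¹ := by group
      _ = g0 * (x * c.1) * c.1⁻¹ * g0⁻¹ := by rw [h1]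
      _ = g0 * x * g0⁻¹ := by group
      _ = x⁻¹ := hg0



/-- If x is real (conjugate to x⁻¹) in a finite group G, the number of g with g x g⁻¹ = x⁻¹ equals |C_G(x)|. -/
theorem result {G : Type*} [Group G] [Finite G] (x : G) (hreal : IsConj x x⁻¹) : Nat.card {g : G // g * x * g⁻¹ = x⁻¹} = Nat.card (Subgroup.centralizer ({x} : Set G)) := by
  obtain ⟨g0, hg0⟩ := isConj_iff.mp hreal
  exact card_inverting x g0 hg0

end Cfsg.Agent.S0237
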