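import Cfsg.Statements.S0238
import Mathlib

set_option autoImplicit false
open Cfsg

namespace Cfsg.Agent.S0238


theorem orderOf_eq_two_iff' {G : Type*} [Group G] (t : G) : orderOf t = 2 ↔ t ≠ 1 ∧ t * t = 1 := by
  have : Fact (Nat.Prime 2) := ⟨Nat.prime_two⟩
  rw [orderOf_eq_prime_iff, pow_two, and_comm]

noncomputable def pairs_equiv {G : Type*} [Group G] (x : G) (hx : orderOf x = 2) :
    {p : G × G // orderOf p.1 = 2 ∧ orderOf p.2 = 2 ∧ p.1 * p.2 = x} ≃ {t : G // (orderOf t = 2 ∧ Commute t x) ∧ t ≠ x} := by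
  obtain ⟨hx1, hxx⟩ := (orderOf_eq_two_iff' x).mp hx
  simp only [orderOf_eq_two_iff']
  refine
    { toFun := fun p => ⟨p.1.1, ⟨p.2.1, ?_⟩, ?_⟩
      invFun := fun t => ⟨(t.1, t.1⁻¹ * x), t.2.1.1, ⟨?_, ?_⟩, ?_⟩
      left_inv := ?_
      right_inv := ?_ }
  · obtain ⟨⟨u, v⟩, ⟨hu1, hu⟩, ⟨hv1, hv⟩, huv⟩ := p
    simp only at hu hv huv ⊢
    have hu' : u⁻¹ = u := inv_eq_of_mul_eq_one_left hu
    have hv' : v⁻¹ = v := inv_eq_of_mul_eq_one_left hv
    have hx' : x⁻¹ = x := inv_eq_of_mul_eq_one_left hxx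
    show u * x = x * u
    have h1 : x = v * u := by
      rw [← hx', ← huv, mul_inv_rev, hu', hv']
    calc u * x = u * (u * v) := by rw [huv]
      _ = v := by rw [← mul_assoc, hu, one_mul]
      _ = v * u * u := by rw [mul_assoc, hu, mul_one]
      _ = x * u := by rw [← h1]
  · obtain ⟨⟨u, v⟩, ⟨hu1, hu⟩, ⟨hv1, hv⟩, huv⟩ := p
    simp only at hu hv huv hv1 ⊢
    intro h
    apply hv1
    rw [h] at huv
    exact mul_eq_left.mp huv
  · obtain ⟨t, ⟨⟨ht1, ht⟩, htx⟩, hne⟩ := t
    simp only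
    intro h
    apply hne
    have h3 : t⁻¹ * x = 1 := h
    rw [inv_mul_eq_one] at h3
    exact h3
  · obtain ⟨t, ⟨⟨ht1, ht⟩, htx⟩, hne⟩ := t
    simp only
    have ht' : t⁻¹ = t := inv_eq_of_mul_eq_one_left ht
    have htx' : t * x = x * t := htx
    rw [ht']
    calc t * x * (t * x) = t * (x * t) * x := by group
      _ = t * (t * x) * x := by rw [htx']
      _ = (t * t) * (x * x) := by group
      _ = 1 := by rw [ht, hxx, one_mul]
  · obtain ⟨t, ⟨⟨ht1, ht⟩, htx⟩, hne⟩ := t
    simp only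
    group
  · rintro ⟨⟨u, v⟩, ⟨hu1, hu⟩, ⟨hv1, hv⟩, huv⟩
    simp only at hu hv huv ⊢
    apply Subtype.ext
    simp only
    rw [← huv]
    congr 1
    group
  · rintro ⟨t, ⟨⟨ht1, ht⟩, htx⟩, hne⟩
    rfl

theorem res236 {G : Type*} [Group G] [Finite G] (x : G) (hx : orderOf x = 2) : Nat.card {p : G × G // orderOf p.1 = 2 ∧ orderOf p.2 = 2 ∧ p.1 * p.2 = x} + 1 = Nat.card {t : G // orderOf t = 2 ∧ Commute t x} := by
  classical
  have : Fintype G := Fintype.ofFinite G
  rw [Nat.card_congr (pairs_equiv x hx)]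
  rw [Nat.card_eq_fintype_card, Nat.card_eq_fintype_card, Fintype.card_subtype, Fintype.card_subtype]
  have : (Finset.univ.filter (fun t : G => orderOf t = 2 ∧ Commute t x)) = insert x (Finset.univ.filter (fun t : G => (orderOf t = 2 ∧ Commute t x) ∧ t ≠ x)) := by
    ext a
    simp only [Finset.mem_filter, Finset.mem_univ, true_and, Finset.mem_insert]
    constructor
    · intro h
      by_cases h1 : a = x
      · left; exact h1
      · right; exact ⟨h, h1⟩
    · rintro (h | h)
      · rw [h]; exact ⟨hx, Commute.refl x⟩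
      · exact h.1
  rw [this, Finset.card_insert_of_notMem]
  simp


theorem card_inverting {G : Type*} [Group G] (x g0 : G) (hg0 : g0 * x * g0⁻¹ = x⁻¹) :
    Nat.card {g : G // g * x * g⁻¹ = x⁻¹} = Nat.card (Subgroup.centralizer ({x} : Set G)) := by
  apply Nat.card_congr
  refine
    { toFun := fun g => ⟨g0⁻¹ * g.1, ?_⟩
      invFun := fun c => ⟨g0 * c.1, ?_⟩
      left_inv := fun g => by simp
      right_inv := fun c => by simp }
  · rw [Subgroup.mem_centralizer_singleton_iff]
    have h1 := g.2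
    have h2 : x = g0⁻¹ * x⁻¹ * g0 := by rw [← hg0]; group
    calc g0⁻¹ * g.1 * x = g0⁻¹ * (g.1 * x * g.1⁻¹) * g.1 := by group
      _ = g0⁻¹ * x⁻¹ * g0 * (g0⁻¹ * g.1) := by rw [h1]; group
      _ = x * (g0⁻¹ * g.1) := by rw [← h2]
  · have h1 := Subgroup.mem_centralizer_singleton_iff.mp c.2
    calc g0 * c.1 * x * (g0 * c.1)⁻¹ = g0 * (c.1 * x) * c.1⁻¹ * g0⁻¹ := by group
      _ = g0 * (x * c.1) * c.1⁻¹ * g0⁻¹ := by rw [h1]
      _ = g0 * x * g0⁻¹ := by group
      _ = x⁻¹ := hg0


theorem pairs_le {G : Type*} [Group G] [Finite G] (x : G) :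
    Nat.card {p : G × G // orderOf p.1 = 2 ∧ orderOf p.2 = 2 ∧ p.1 * p.2 = x} ≤ Nat.card {g : G // g * x * g⁻¹ = x⁻¹} := by
  have key : ∀ p : {p : G × G // orderOf p.1 = 2 ∧ orderOf p.2 = 2 ∧ p.1 * p.2 = x}, p.1.1 * x * p.1.1⁻¹ = x⁻¹ := by
    intro p
    obtain ⟨⟨u, v⟩, hu, hv, huv⟩ := p
    obtain ⟨hu1, hu⟩ := (orderOf_eq_two_iff' _).mp hu
    obtain ⟨hv1, hv⟩ := (orderOf_eq_two_iff' _).mp hv
    simp only at hu hv huv ⊢
    have hu' : u⁻¹ = u := inv_eq_of_mul_eq_one_left hu
    have hv' : v⁻¹ = v := inv_eq_of_mul_eq_one_left hv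
    rw [← huv, mul_inv_rev, hu', hv', mul_assoc, mul_assoc, ← mul_assoc u u, hu, one_mul]
  apply Nat.card_le_card_of_injective (fun p => (⟨p.1.1, key p⟩ : {g : G // g * x * g⁻¹ = x⁻¹}))
  · rintro ⟨⟨u, v⟩, hu, hv, huv⟩ ⟨⟨u', v'⟩, hu', hv', huv'⟩ h
    simp only [Subtype.mk.injEq] at h
    simp only at huv huv'
    subst h
    have : v = v' := by
      apply mul_left_cancel (a := u)
      rw [huv, huv']
    subst this
    rfl



/-- For every x in a finite group G, the number c of ordered pairs (u, v) of involutions with uv = x is at most |C_G(x)|; c = 0 when x is not conjugate to x⁻¹; and c + 2 ≤ |C_G(x)| when x is an involution. -/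
theorem result {G : Type*} [Group G] [Finite G] (x : G) : Nat.card {p : G × G // orderOf p.1 = 2 ∧ orderOf p.2 = 2 ∧ p.1 * p.2 = x} ≤ Nat.card (Subgroup.centralizer ({x} : Set G)) ∧ (¬ IsConj x x⁻¹ → Nat.card {p : G × G // orderOf p.1 = 2 ∧ orderOf p.2 = 2 ∧ p.1 * p.2 = x} = 0) ∧ (orderOf x = 2 → Nat.card {p : G × G // orderOf p.1 = 2 ∧ orderOf p.2 = 2 ∧ p.1 * p.2 = x} + 2 ≤ Nat.card (Subgroup.centralizer ({x} : Set G))) := by
  classical
  have hb : ¬ IsConj x x⁻¹ → Nat.card {p : G × G // orderOf p.1 = 2 ∧ orderOf p.2 = 2 ∧ p.1 * p.2 = x} = 0 := by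
    intro hnr
    have h := pairs_le x
    have : IsEmpty {g : G // g * x * g⁻¹ = x⁻¹} := by
      constructor
      rintro ⟨g, hg⟩
      exact hnr (isConj_iff.mpr ⟨g, hg⟩)
    rw [Nat.card_of_isEmpty (α := {g : G // g * x * g⁻¹ = x⁻¹})] at h
    omega
  refine ⟨?_, hb, ?_⟩
  · by_cases hr : IsConj x x⁻¹
    · obtain ⟨g0, hg0⟩ := isConj_iff.mp hr
      rw [← card_inverting x g0 hg0]
      exact pairs_le x
    · rw [hb hr]
      exact Nat.zero_le _
  · intro hx
    have h1 := res236 x hx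
    have h2 : Nat.card {t : G // orderOf t = 2 ∧ Commute t x} + 1 ≤ Nat.card (Subgroup.centralizer ({x} : Set G)) := by
      have : Fintype G := Fintype.ofFinite G
      rw [← Finite.card_option]
      apply Nat.card_le_card_of_injective (fun o => Option.elim o (1 : Subgroup.centralizer ({x} : Set G)) (fun t => ⟨t.1, Subgroup.mem_centralizer_singleton_iff.mpr t.2.2.eq⟩))
      intro a b hab
      cases a with
      | none =>
        cases b with
        | none => rfl
        | some t =>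
          exfalso
          simp only [Option.elim] at hab
          have h3 : (1 : G) = t.1 := congrArg Subtype.val hab
          have := t.2.1
          rw [← h3, orderOf_one] at this
          omega
      | some s =>
        cases b with
        | none =>
          exfalso
          simp only [Option.elim] at hab
          have h3 : s.1 = (1 : G) := congrArg Subtype.val hab
          have := s.2.1
          rw [h3, orderOf_one] at this
          omega
        | some t =>
          simp only [Option.elim] at hab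
          have h3 : s.1 = t.1 := by
            have := congrArg (fun z : Subgroup.centralizer ({x} : Set G) => (z : G)) hab
            exact this
          rw [Subtype.ext h3]
    omega

end Cfsg.Agent.S0238
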