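import Cfsg.Statements.S0239
import Mathlib

set_option autoImplicit false
open Cfsg

namespace Cfsg.Agent.S0239


theorem sq_commute_of_inverts {G : Type*} [Group G] (x g : G) (hg : g * x * g⁻¹ = x⁻¹) : Commute (g ^ 2) x := by
  have h1 : g * x = x⁻¹ * g := by
    rw [← hg]; group
  have h2 : g * x⁻¹ = x * g := by
    have h3 : g * x⁻¹ * g⁻¹ = x := by
      have := congrArg (fun z => z⁻¹) hg
      simpa [mul_assoc] using this
    have h4 : g * x⁻¹ = (g * x⁻¹ * g⁻¹) * g := by group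
    rw [h4, h3]
  show g ^ 2 * x = x * g ^ 2
  rw [pow_two, mul_assoc, h1, ← mul_assoc, h2, mul_assoc]



/-- If some nontrivial element x of a finite group G is conjugate to x⁻¹, then |G| is even. -/
theorem result {G : Type*} [Group G] [Finite G] (x : G) (hx : x ≠ 1) (hreal : IsConj x x⁻¹) : Even (Nat.card G) := by
  by_contra hodd
  rw [Nat.not_even_iff_odd] at hodd
  obtain ⟨j, hj⟩ := hodd
  obtain ⟨g, hg⟩ := isConj_iff.mp hreal
  have hgk : g ^ (2 * j + 1) = 1 := by rw [← hj]; exact pow_card_eq_one'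
  have hc := sq_commute_of_inverts x g hg
  have hc2 : Commute ((g ^ 2) ^ j) x := hc.pow_left j
  have hg' : g = ((g ^ 2) ^ j)⁻¹ := by
    rw [eq_inv_iff_mul_eq_one, ← pow_mul, ← pow_succ']
    exact hgk
  have hc3 : Commute g x := by
    rw [hg']
    exact hc2.inv_left
  have hxx : x⁻¹ = x := by
    rw [← hg, hc3.eq]; group
  have hxx' : x ^ 2 = 1 := by
    rw [pow_two]; exact inv_eq_iff_mul_eq_one.mp hxx
  have h1 : orderOf x ∣ 2 := orderOf_dvd_of_pow_eq_one hxx'
  have h2 : orderOf x ∣ 2 * j + 1 := by rw [← hj]; exact orderOf_dvd_natCard x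
  have h3 : orderOf x ∣ 1 := by
    have := Nat.dvd_gcd h1 h2
    have hg : Nat.gcd 2 (2 * j + 1) = 1 := by
      rw [Nat.gcd_comm]; simp
    rwa [hg] at this
  apply hx
  rw [← orderOf_eq_one_iff]
  exact Nat.dvd_one.mp h3

end Cfsg.Agent.S0239
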