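import Cfsg.Statements.S0240
import Mathlib

set_option autoImplicit false
open Cfsg

namespace Cfsg.Agent.S0240


theorem orderOf_eq_two_iff' {G : Type*} [Group G] (t : G) : orderOf t = 2 ↔ t ≠ 1 ∧ t * t = 1 := by
  have : Fact (Nat.Prime 2) := ⟨Nat.prime_two⟩
  rw [orderOf_eq_prime_iff, pow_two, and_comm]



/-- Let G be a finite group with n involutions and H a subgroup with |H|·(n+1) > |G|. Then some nontrivial h ∈ H is strongly real in G: an involution t of G satisfies t h t⁻¹ = h⁻¹. -/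
theorem result {G : Type*} [Group G] [Finite G] (H : Subgroup G) (hH : Nat.card G < Nat.card H * (Nat.card {t : G // orderOf t = 2} + 1)) : ∃ h : G, h ∈ H ∧ h ≠ 1 ∧ ∃ t : G, orderOf t = 2 ∧ t * h * t⁻¹ = h⁻¹ := by
  classical
  have : Fintype G := Fintype.ofFinite G
  let I := {t : G // orderOf t = 2}
  let f : Option I → G ⧸ H := fun o => Option.elim o ((1 : G) : G ⧸ H) (fun t => ((t.1 : G) : G ⧸ H))
  have hcard : Fintype.card (G ⧸ H) < Fintype.card (Option I) := by
    rw [← Nat.card_eq_fintype_card, ← Nat.card_eq_fintype_card, Finite.card_option]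
    have h1 : Nat.card (G ⧸ H) * Nat.card H = Nat.card G := by
      rw [mul_comm]; exact (Subgroup.card_eq_card_quotient_mul_card_subgroup H).symm ▸ (mul_comm _ _)
    rw [← h1, mul_comm] at hH
    exact Nat.lt_of_mul_lt_mul_left hH
  obtain ⟨a, b, hab, hfab⟩ := Fintype.exists_ne_map_eq_of_card_lt f hcard
  have key1 : ∀ t : I, ((1 : G) : G ⧸ H) = ((t.1 : G) : G ⧸ H) → ∃ h : G, h ∈ H ∧ h ≠ 1 ∧ ∃ t : G, orderOf t = 2 ∧ t * h * t⁻¹ = h⁻¹ := by
    intro t ht
    rw [QuotientGroup.eq] at ht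
    obtain ⟨ht1, htt⟩ := (orderOf_eq_two_iff' _).mp t.2
    refine ⟨t.1, by simpa using ht, ht1, t.1, t.2, ?_⟩
    have : (t.1 : G)⁻¹ = t.1 := inv_eq_of_mul_eq_one_left htt
    rw [this, htt, one_mul]
  cases a with
  | none =>
    cases b with
    | none => exact absurd rfl hab
    | some t => exact key1 t hfab
  | some s =>
    cases b with
    | none => exact key1 s hfab.symm
    | some t =>
      have hfab' : ((s.1 : G) : G ⧸ H) = ((t.1 : G) : G ⧸ H) := hfab
      rw [QuotientGroup.eq] at hfab'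
      obtain ⟨hs1, hss⟩ := (orderOf_eq_two_iff' _).mp s.2
      obtain ⟨ht1, htt⟩ := (orderOf_eq_two_iff' _).mp t.2
      have hs' : (s.1 : G)⁻¹ = s.1 := inv_eq_of_mul_eq_one_left hss
      have ht' : (t.1 : G)⁻¹ = t.1 := inv_eq_of_mul_eq_one_left htt
      refine ⟨(s.1)⁻¹ * t.1, hfab', ?_, s.1, s.2, ?_⟩
      · intro h
        apply hab
        rw [inv_mul_eq_one] at h
        rw [Subtype.ext h]
      · rw [mul_inv_rev, inv_inv, hs', ht', ← mul_assoc, hss, one_mul]

end Cfsg.Agent.S0240
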