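import Cfsg.Statements.S0241
import Mathlib

set_option autoImplicit false
open Cfsg

namespace Cfsg.Agent.S0241


theorem sq_commute_of_inverts {G : Type*} [Group G] (x g : G) (hg : g * x * g⁻¹ = x⁻¹) : Commute (g ^ 2) x := by
  have h1 : g * x = x⁻¹ * g := by
    rw [← hg]; group
  have h2 : g * x⁻¹ = x * g := by
    have h3 : g * x⁻¹ * g⁻¹ = x := by
      have := congrArg (fun z => z⁻¹) hg
      simpa [mul_assoc] using this
    have h4 : g * x⁻¹ = (g * x⁻¹ * g⁻¹) * g := by group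
    rw [h4, h3]
  show g ^ 2 * x = x * g ^ 2
  rw [pow_two, mul_assoc, h1, ← mul_assoc, h2, mul_assoc]


theorem orderOf_eq_two_iff' {G : Type*} [Group G] (t : G) : orderOf t = 2 ↔ t ≠ 1 ∧ t * t = 1 := by
  have : Fact (Nat.Prime 2) := ⟨Nat.prime_two⟩
  rw [orderOf_eq_prime_iff, pow_two, and_comm]



/-- If x ≠ 1 is conjugate to x⁻¹ in a finite group G and |C_G(x)| is odd, then some involution t satisfies t x t⁻¹ = x⁻¹. -/
theorem result {G : Type*} [Group G] [Finite G] (x : G) (hx : x ≠ 1) (hreal : IsConj x x⁻¹) (hodd : Odd (Nat.card (Subgroup.centralizer ({x} : Set G)))) : ∃ t : G, orderOf t = 2 ∧ t * x * t⁻¹ = x⁻¹ := by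
  obtain ⟨j, hj⟩ := hodd
  obtain ⟨g, hg⟩ := isConj_iff.mp hreal
  have hc := sq_commute_of_inverts x g hg
  have hmem : g ^ 2 ∈ Subgroup.centralizer ({x} : Set G) :=
    Subgroup.mem_centralizer_singleton_iff.mpr hc.eq
  have hgk : (g ^ 2) ^ (2 * j + 1) = 1 := by
    rw [← hj]
    have := pow_card_eq_one' (G := Subgroup.centralizer ({x} : Set G)) (x := ⟨g ^ 2, hmem⟩)
    exact congrArg Subtype.val this
  have hc2 : Commute ((g ^ 2) ^ j) x := hc.pow_left j
  have hinv : (g ^ 2) ^ j * g * x * ((g ^ 2) ^ j * g)⁻¹ = x⁻¹ := by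
    calc (g ^ 2) ^ j * g * x * ((g ^ 2) ^ j * g)⁻¹ = (g ^ 2) ^ j * (g * x * g⁻¹) * ((g ^ 2) ^ j)⁻¹ := by group
      _ = (g ^ 2) ^ j * x⁻¹ * ((g ^ 2) ^ j)⁻¹ := by rw [hg]
      _ = x⁻¹ := by
        rw [(hc2.inv_right).eq]; group
  have hxmem : x ∈ Subgroup.centralizer ({x} : Set G) := Subgroup.mem_centralizer_singleton_iff.mpr rfl
  have hxo : orderOf x ∣ 2 * j + 1 := by
    rw [← hj]
    have := Subgroup.orderOf_dvd_natCard (Subgroup.centralizer ({x} : Set G)) hxmem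
    exact this
  refine ⟨(g ^ 2) ^ j * g, ?_, hinv⟩
  rw [orderOf_eq_two_iff']
  constructor
  · intro h1
    rw [h1] at hinv
    have hxx : x⁻¹ = x := by rw [← hinv]; group
    have hxx' : x ^ 2 = 1 := by
      rw [pow_two]; exact inv_eq_iff_mul_eq_one.mp hxx
    have h1 : orderOf x ∣ 2 := orderOf_dvd_of_pow_eq_one hxx'
    have h3 : orderOf x ∣ 1 := by
      have := Nat.dvd_gcd h1 hxo
      have hg : Nat.gcd 2 (2 * j + 1) = 1 := by
        rw [Nat.gcd_comm]; simp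
      rwa [hg] at this
    apply hx
    rw [← orderOf_eq_one_iff]
    exact Nat.dvd_one.mp h3
  · have : (g ^ 2) ^ j * g * ((g ^ 2) ^ j * g) = (g ^ 2) ^ (2 * j + 1) := by
      rw [← pow_mul, ← pow_succ, ← pow_add, ← pow_mul]
      congr 1
      ring
    rw [this, hgk]

end Cfsg.Agent.S0241
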