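import Cfsg.Statements.S0826

import Cfsg.Agent.Lib.helper15.QuadF2Refl
import Cfsg.Agent.S2530
set_option autoImplicit false
open Cfsg

namespace Cfsg.Agent.S0826


open Cfsg.Agent.Lib.helper15 Matrix

theorem BP_smul_right (m : ℕ) (c : ZMod 2) (u v : VP m) : BP m u (c • v) = c * BP m u v := by
  rw [BP_symm, BP_smul_left, BP_symm]

theorem zmod2_two_mul (c : ZMod 2) : c + c = 0 := by
  rcases zmod2_cases c with rfl | rfl <;> decide

theorem transv_preserves_BP (m : ℕ) (a u v : VP m) :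
    BP m (transvEquiv m a u) (transvEquiv m a v) = BP m u v := by
  rw [transvEquiv_apply, transvEquiv_apply, BP_add_left, BP_add_right, BP_add_right,
    BP_smul_left, BP_smul_right, BP_smul_left, BP_smul_right, BP_alt, BP_symm m a v]
  have h := zmod2_two_mul (BP m v a * BP m u a)
  linear_combination h

theorem BP_zero_left (m : ℕ) (v : VP m) : BP m 0 v = 0 := by
  have := BP_smul_left m 0 0 v
  rw [zero_smul, zero_mul] at this
  exact this

theorem exists_chain_hom (m n : ℕ) (hn : 5 ≤ n + 1) (a : ℕ → VP m)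
    (hB : ∀ i j, i < n → j < n → BP m (a i) (a j) = if i + 1 = j ∨ j + 1 = i then 1 else 0) :
    ∃ Φ : Equiv.Perm (Fin (n + 1)) →* (VP m ≃ₗ[ZMod 2] VP m), Function.Injective Φ ∧
      ∀ σ u v, BP m (Φ σ u) (Φ σ v) = BP m u v := by
  obtain ⟨cs, hcs⟩ := Cfsg.Agent.S2530.result n
  have hlift : (CoxeterMatrix.A n).IsLiftable (fun i : Fin n => transvEquiv m (a i)) := by
    intro i j
    rw [Cfsg.Agent.S2530.A_apply]
    by_cases hij : i = j
    · subst hij
      rw [if_pos rfl, pow_one]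
      exact refl_mul_self m (a i)
    · rw [if_neg hij]
      have hij' : (i : ℕ) ≠ j := fun h => hij (Fin.ext h)
      by_cases hadj : (j : ℕ) + 1 = i ∨ (i : ℕ) + 1 = j
      · rw [if_pos hadj]
        apply refl_pow_three
        rw [hB i j i.2 j.2, if_pos]
        omega
      · rw [if_neg hadj]
        apply refl_pow_two
        rw [hB i j i.2 j.2, if_neg]
        omega
  let Φ : Equiv.Perm (Fin (n + 1)) →* (VP m ≃ₗ[ZMod 2] VP m) := cs.lift ⟨_, hlift⟩
  have hΦs : ∀ i : Fin n, Φ (cs.simple i) = transvEquiv m (a i) := fun i =>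
    cs.lift_apply_simple hlift i
  have hpres : ∀ σ u v, BP m (Φ σ u) (Φ σ v) = BP m u v := by
    intro σ
    induction σ using cs.simple_induction with
    | simple i =>
      intro u v
      rw [hΦs i]
      exact transv_preserves_BP m (a i) u v
    | one =>
      intro u v
      rw [map_one]
      rfl
    | mul w w' hw hw' =>
      intro u v
      rw [map_mul, LinearEquiv.mul_apply, LinearEquiv.mul_apply, hw, hw']
  refine ⟨Φ, ?_, hpres⟩
  rw [injective_iff_map_eq_one]
  intro σ hσ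
  by_contra hne
  have hker : Nontrivial Φ.ker := by
    refine ⟨⟨⟨σ, hσ⟩, 1, ?_⟩⟩
    intro h
    exact hne (congrArg Subtype.val h)
  have hcard : 5 ≤ Nat.card (Fin (n + 1)) := by rw [Nat.card_fin]; exact hn
  have hle := Equiv.Perm.alternatingGroup_le_of_normal hcard hker
  have h0 : (0 : ℕ) < n := by omega
  have h1 : (1 : ℕ) < n := by omega
  have hmem : cs.simple ⟨0, h0⟩ * cs.simple ⟨1, h1⟩ ∈ alternatingGroup (Fin (n + 1)) := by
    rw [Equiv.Perm.mem_alternatingGroup, map_mul, hcs, hcs, Equiv.Perm.sign_swap, Equiv.Perm.sign_swap]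
    · rfl
    · intro h
      have := congrArg Fin.val h
      simp at this
    · intro h
      have := congrArg Fin.val h
      simp at this
  have h2 := hle hmem
  rw [MonoidHom.mem_ker, map_mul, hΦs, hΦs] at h2
  have h3 : transvEquiv m (a 0) (transvEquiv m (a 1) (a 1)) = a 1 := by
    have := congrArg (fun f : VP m ≃ₗ[ZMod 2] VP m => f (a 1)) h2
    exact this
  rw [transvEquiv_apply m (a 1), BP_alt, zero_smul, add_zero, transvEquiv_apply,
    BP_symm, hB 0 1 h0 h1, if_pos (Or.inl rfl), one_smul] at h3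
  have h4 : a 0 = 0 := by
    have : a 1 + (a 1 + a 0) = a 1 + a 1 := congrArg (fun x => a 1 + x) h3
    rw [← add_assoc, vp_add_self, zero_add] at this
    exact this
  have h5 := hB 0 1 h0 h1
  rw [h4, BP_zero_left, if_pos (Or.inl rfl)] at h5
  exact zero_ne_one h5

theorem dot_J (m : ℕ) (u v : VP m) :
    u ⬝ᵥ (Matrix.J (Fin m) (ZMod 2) *ᵥ v) = BP m u v := by
  rw [BP_eq, Matrix.J, Matrix.fromBlocks_mulVec]
  simp only [dotProduct, Fintype.sum_sum_type, Sum.elim_inl, Sum.elim_inr, Matrix.zero_mulVec,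
    Matrix.one_mulVec, Matrix.neg_mulVec, zero_add, add_zero, Pi.neg_apply, Function.comp_apply]
  rw [← Finset.sum_add_distrib]
  apply Finset.sum_congr rfl
  intro i _
  have h := zmod2_two_mul (u (Sum.inl i) * v (Sum.inr i))
  linear_combination (-1 : ZMod 2) * h

noncomputable def matHom (m : ℕ) : (VP m ≃ₗ[ZMod 2] VP m) →*
    Matrix (Fin m ⊕ Fin m) (Fin m ⊕ Fin m) (ZMod 2) where
  toFun g := LinearMap.toMatrix' (g : VP m →ₗ[ZMod 2] VP m)
  map_one' := by
    show LinearMap.toMatrix' (LinearMap.id : VP m →ₗ[ZMod 2] VP m) = 1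
    exact LinearMap.toMatrix'_id
  map_mul' a b := by
    show LinearMap.toMatrix' ((a : VP m →ₗ[ZMod 2] VP m).comp (b : VP m →ₗ[ZMod 2] VP m)) = _
    exact LinearMap.toMatrix'_comp _ _

theorem matHom_mulVec (m : ℕ) (g : VP m ≃ₗ[ZMod 2] VP m) (v : VP m) :
    matHom m g *ᵥ v = g v :=
  LinearMap.toMatrix'_mulVec (g : VP m →ₗ[ZMod 2] VP m) v

theorem matHom_injective (m : ℕ) : Function.Injective (matHom m) := by
  intro a b hab
  apply LinearEquiv.ext
  intro v
  rw [← matHom_mulVec, ← matHom_mulVec, hab]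

theorem entry_eq (m : ℕ) (N : Matrix (Fin m ⊕ Fin m) (Fin m ⊕ Fin m) (ZMod 2))
    (i j : Fin m ⊕ Fin m) : N i j = Pi.single i 1 ⬝ᵥ (N *ᵥ Pi.single j 1) := by
  simp

theorem matHom_mem (m : ℕ) (g : VP m ≃ₗ[ZMod 2] VP m)
    (hg : ∀ u v, BP m (g u) (g v) = BP m u v) :
    matHom m g ∈ Matrix.symplecticGroup (Fin m) (ZMod 2) := by
  rw [SymplecticGroup.mem_iff']
  ext i j
  rw [entry_eq m ((matHom m g)ᵀ * Matrix.J (Fin m) (ZMod 2) * matHom m g) i j,
    entry_eq m (Matrix.J (Fin m) (ZMod 2)) i j, ← Matrix.mulVec_mulVec,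
    ← Matrix.mulVec_mulVec, Matrix.dotProduct_mulVec, Matrix.vecMul_transpose, matHom_mulVec,
    matHom_mulVec, dot_J, dot_J, hg]

/-- S_2n ≤ Sp_(2n−2)(2) for n ≥ 3: there is an injective homomorphism from the symmetric group on 2n letters into the symplectic group of degree 2n − 2 over the field with two elements. -/
theorem result (n : ℕ) (hn : 3 ≤ n) : ∃ f : Equiv.Perm (Fin (2 * n)) →* Matrix.symplecticGroup (Fin (n - 1)) (ZMod 2), Function.Injective f := by
  obtain ⟨m, rfl⟩ : ∃ m, n = m + 1 := ⟨n - 1, by omega⟩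
  have h2 : 2 * (m + 1) = 2 * m + 1 + 1 := by ring
  rw [Nat.add_sub_cancel, h2]
  obtain ⟨Φ, hΦinj, hΦ⟩ := exists_chain_hom m (2 * m + 1) (by omega) (avec m)
    (fun i j hi hj => BP_avec m i j (by omega) (by omega))
  refine ⟨((matHom m).comp Φ).codRestrict (Matrix.symplecticGroup (Fin m) (ZMod 2))
    (fun σ => matHom_mem m (Φ σ) (hΦ σ)), ?_⟩
  intro a b hab
  apply hΦinj
  apply matHom_injective
  exact congrArg Subtype.val hab

end Cfsg.Agent.S0826
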