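import Cfsg.Statements.S0247
import Cfsg.Agent.S0826
import Cfsg.Agent.S0245
import Mathlib

set_option autoImplicit false
open Cfsg

namespace Cfsg.Agent.S0247

open Matrix

/-- Transport of the symplectic group along a ring isomorphism. -/
def spMap {R S : Type*} [CommRing R] [CommRing S] (e : R ≃+* S) (l : Type*) [DecidableEq l]
    [Fintype l] : Matrix.symplecticGroup l R →* Matrix.symplecticGroup l S where
  toFun g := ⟨g.1.map e, by
    have hg := (SymplecticGroup.mem_iff).mp g.2
    rw [SymplecticGroup.mem_iff]
    have hJ : (Matrix.J l R).map e = Matrix.J l S := by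
      ext i j
      rcases i with i | i <;> rcases j with j | j
      · simp [Matrix.J]
      · by_cases hij : i = j
        · subst hij; simp [Matrix.J]
        · simp [Matrix.J, Matrix.one_apply_ne hij]
      · by_cases hij : i = j
        · subst hij; simp [Matrix.J]
        · simp [Matrix.J, Matrix.one_apply_ne hij]
      · simp [Matrix.J]
    have := congrArg (fun M : Matrix (l ⊕ l) (l ⊕ l) R => M.map e) hg
    simp only [Matrix.map_mul, Matrix.transpose_map] at this
    rw [hJ] at this
    exact this⟩
  map_one' := by
    apply Subtype.ext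
    show (1 : Matrix (l ⊕ l) (l ⊕ l) R).map e = 1
    rw [Matrix.map_one _ (map_zero e) (map_one e)]
  map_mul' g h := by
    apply Subtype.ext
    show (g.1 * h.1).map e = g.1.map e * h.1.map e
    rw [Matrix.map_mul]

theorem spMap_injective {R S : Type*} [CommRing R] [CommRing S] (e : R ≃+* S) (l : Type*)
    [DecidableEq l] [Fintype l] : Function.Injective (spMap e l) := by
  intro g h hgh
  apply Subtype.ext
  have : g.1.map e = h.1.map e := congrArg Subtype.val hgh
  ext i j
  have := congrFun (congrFun this i) j
  simpa using this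

/-- Sp_4(2) is isomorphic to the symmetric group S_6. -/
theorem result {F : Type*} [Field F] [Fintype F] (hF : Fintype.card F = 2) : Nonempty (Matrix.symplecticGroup (Fin 2) F ≃* Equiv.Perm (Fin 6)) := by
  classical
  obtain ⟨f, hf⟩ := Cfsg.Agent.S0826.result 3 (le_refl 3)
  have e : ZMod 2 ≃+* F := ZMod.ringEquivOfPrime F Nat.prime_two hF
  let g : Equiv.Perm (Fin 6) →* Matrix.symplecticGroup (Fin 2) F :=
    (spMap e (Fin 2)).comp f
  have hg : Function.Injective g := (spMap_injective e (Fin 2)).comp hf
  have hcard : Nat.card (Equiv.Perm (Fin 6)) = Nat.card (Matrix.symplecticGroup (Fin 2) F) := by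
    rw [Cfsg.Agent.S0245.result hF 2, Nat.card_eq_fintype_card, Fintype.card_perm,
      Fintype.card_fin]
    decide
  haveI : Finite (Matrix.symplecticGroup (Fin 2) F) := Nat.finite_of_card_ne_zero (by
    rw [← hcard, Nat.card_eq_fintype_card, Fintype.card_perm, Fintype.card_fin]; decide)
  have hbij : Function.Bijective g :=
    (Nat.bijective_iff_injective_and_card g).mpr ⟨hg, hcard⟩
  exact ⟨(MulEquiv.ofBijective g hbij).symm⟩

end Cfsg.Agent.S0247
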