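import Cfsg.Statements.S0250
import Cfsg.Agent.S0242
import Mathlib

set_option autoImplicit false
open Cfsg

namespace Cfsg.Agent.S0250

open Matrix

/-- nonzero vectors -/
abbrev NZ (F : Type*) [Field F] := {v : Fin 2 → F // v ≠ 0}

theorem smul_ne_zero' {F : Type*} [Field F] (g : SpecialLinearGroup (Fin 2) F) (v : Fin 2 → F) (hv : v ≠ 0) :
    g • v ≠ 0 := by
  intro h
  apply hv
  have := congrArg (fun w => g⁻¹ • w) h
  simpa using this

instance nzAction (F : Type*) [Field F] : MulAction (SpecialLinearGroup (Fin 2) F) (NZ F) where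
  smul g v := ⟨g • v.1, smul_ne_zero' g v.1 v.2⟩
  one_smul v := Subtype.ext (one_smul _ v.1)
  mul_smul g h v := Subtype.ext (mul_smul g h v.1)

theorem nz_smul_val {F : Type*} [Field F] (g : SpecialLinearGroup (Fin 2) F) (v : NZ F) :
    (g • v).1 = g • v.1 := rfl

theorem toPermHom_injective (F : Type*) [Field F] :
    Function.Injective (MulAction.toPermHom (SpecialLinearGroup (Fin 2) F) (NZ F)) := by
  rw [injective_iff_map_eq_one]
  intro g hg
  ext i j
  have hj : (Pi.single j (1 : F) : Fin 2 → F) ≠ 0 := by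
    intro h
    have := congrFun h j
    simp at this
  have h1 := congrArg (fun σ : Equiv.Perm (NZ F) => (σ ⟨Pi.single j 1, hj⟩).1 i) hg
  simp only [MulAction.toPermHom_apply, MulAction.toPerm_apply, nz_smul_val, Equiv.Perm.coe_one, id_eq] at h1
  have h3 : (g.1 *ᵥ (Pi.single j 1 : Fin 2 → F)) i = (Pi.single j 1 : Fin 2 → F) i := h1
  simp only [Matrix.mulVec_single_one] at h3
  change (g : Matrix (Fin 2) (Fin 2) F) i j = (1 : Matrix (Fin 2) (Fin 2) F) i j
  rw [Matrix.one_apply, ← Pi.single_apply]
  simpa [Pi.single_apply, eq_comm] using h3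

theorem result {F : Type*} [Field F] [Fintype F] (hF : Fintype.card F = 2) : Nonempty (Matrix.SpecialLinearGroup (Fin 2) F ≃* Equiv.Perm (Fin 3)) := by
  have hcardSL : Nat.card (SpecialLinearGroup (Fin 2) F) = 6 := by
    have := Cfsg.Agent.S0242.result hF 2 (by norm_num)
    simpa [Fin.prod_univ_two] using this
  classical
  have hcardNZ : Fintype.card (NZ F) = 3 := by
    have h1 : Fintype.card (Fin 2 → F) = 4 := by simp [hF]
    have h2 := Fintype.card_subtype_compl (fun v : Fin 2 → F => v = 0)
    simp only [Fintype.card_subtype_eq, h1] at h2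
    exact h2
  have hcardP : Nat.card (Equiv.Perm (NZ F)) = 6 := by
    rw [Nat.card_eq_fintype_card, Fintype.card_perm, hcardNZ]; rfl
  have hbij : Function.Bijective (MulAction.toPermHom (SpecialLinearGroup (Fin 2) F) (NZ F)) := by
    rw [Nat.bijective_iff_injective_and_card]
    exact ⟨toPermHom_injective F, hcardSL.trans hcardP.symm⟩
  have e1 : SpecialLinearGroup (Fin 2) F ≃* Equiv.Perm (NZ F) := MulEquiv.ofBijective _ hbij
  have e2 : NZ F ≃ Fin 3 := Fintype.equivFinOfCardEq hcardNZ
  exact ⟨e1.trans e2.permCongrHom⟩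

end Cfsg.Agent.S0250
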