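import Cfsg.Statements.S0256
import Cfsg.Agent.S0825
import Cfsg.Agent.S0243
import Cfsg.Agent.S0248
import Cfsg.Agent.S0249
import Cfsg.Agent.Lib.Lead.OrthOdd
import Mathlib

set_option autoImplicit false
open Cfsg

namespace Cfsg.Agent.S0256

open Matrix Cfsg.Agent.Lib.Lead.OG

section klein
variable {F : Type*} [Field F]

/-- index type of the exterior square -/
abbrev I6 : Type := Fin 3 ⊕ Fin 3

/-- the pairs of indices -/
def pr : I6 → Fin 4 × Fin 4 := Sum.elim ![(0,1),(0,2),(0,3)] ![(2,3),(3,1),(1,2)]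

/-- two by two minors -/
def minor (g : Matrix (Fin 4) (Fin 4) F) (r s : Fin 4 × Fin 4) : F :=
  g r.1 s.1 * g r.2 s.2 - g r.1 s.2 * g r.2 s.1

/-- the exterior square of a matrix -/
def Lam (g : Matrix (Fin 4) (Fin 4) F) : Matrix I6 I6 F :=
  Matrix.of fun a b => minor g (pr a) (pr b)

theorem minor_mul (g h : Matrix (Fin 4) (Fin 4) F) (r s : Fin 4 × Fin 4) :
    minor (g * h) r s = ∑ c : I6, minor g r (pr c) * minor h (pr c) s := by
  simp [minor, pr, Matrix.mul_apply, Fin.sum_univ_four, Fintype.sum_sum_type, Fin.sum_univ_three]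
  ring

theorem det4 (g : Matrix (Fin 4) (Fin 4) F) : g.det =
    minor g (0,1) (0,1) * minor g (2,3) (2,3) - minor g (0,1) (0,2) * minor g (2,3) (1,3)
    + minor g (0,1) (0,3) * minor g (2,3) (1,2) + minor g (0,1) (1,2) * minor g (2,3) (0,3)
    - minor g (0,1) (1,3) * minor g (2,3) (0,2) + minor g (0,1) (2,3) * minor g (2,3) (0,1) := by
  rw [Matrix.det_succ_row_zero]
  simp only [Fin.sum_univ_four, Matrix.det_fin_three, Matrix.submatrix_apply, minor]
  simp [Fin.succAbove]
  ring

theorem Lam_mul (g h : Matrix (Fin 4) (Fin 4) F) : Lam (g * h) = Lam g * Lam h := by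
  ext a b
  simp only [Lam, Matrix.of_apply, Matrix.mul_apply, minor_mul]

theorem Lam_one : Lam (1 : Matrix (Fin 4) (Fin 4) F) = 1 := by
  ext a b
  rcases a with a | a <;> rcases b with b | b <;> fin_cases a <;> fin_cases b <;>
    simp [Lam, minor, pr, Matrix.one_apply]

theorem Lam_Q (g : Matrix (Fin 4) (Fin 4) F) (p : I6 → F) :
    Cfsg.quadFormPlus 3 F (Lam g *ᵥ p) = g.det * Cfsg.quadFormPlus 3 F p := by
  rw [det4]
  simp [Cfsg.quadFormPlus, Matrix.mulVec, dotProduct, Lam, minor, pr, Fintype.sum_sum_type,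
    Fin.sum_univ_three]
  ring

/-- The Klein homomorphism `SL_4(F) → O⁺_6(F)`. -/
def ψ : Matrix.SpecialLinearGroup (Fin 4) F →* ↥(Cfsg.isometryGroup F (Cfsg.quadFormPlus 3 F)) where
  toFun g := ⟨⟨Lam (g : Matrix (Fin 4) (Fin 4) F), Lam ((g⁻¹ : Matrix.SpecialLinearGroup (Fin 4) F) :
      Matrix (Fin 4) (Fin 4) F), by
        rw [← Lam_mul, ← Matrix.SpecialLinearGroup.coe_mul, mul_inv_cancel,
          Matrix.SpecialLinearGroup.coe_one, Lam_one], by
        rw [← Lam_mul, ← Matrix.SpecialLinearGroup.coe_mul, inv_mul_cancel,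
          Matrix.SpecialLinearGroup.coe_one, Lam_one]⟩,
    (mem_isometryGroup_iff _).mpr (fun p => by
      show Cfsg.quadFormPlus 3 F (Lam (g : Matrix (Fin 4) (Fin 4) F) *ᵥ p) = _
      rw [Lam_Q, g.det_coe, one_mul])⟩
  map_one' := Subtype.ext (Units.ext (by
    show Lam ((1 : Matrix.SpecialLinearGroup (Fin 4) F) : Matrix (Fin 4) (Fin 4) F) = 1
    rw [Matrix.SpecialLinearGroup.coe_one, Lam_one]))
  map_mul' g h := Subtype.ext (Units.ext (by
    show Lam ((g * h : Matrix.SpecialLinearGroup (Fin 4) F) : Matrix (Fin 4) (Fin 4) F) =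
      Lam (g : Matrix (Fin 4) (Fin 4) F) * Lam (h : Matrix (Fin 4) (Fin 4) F)
    rw [Matrix.SpecialLinearGroup.coe_mul, Lam_mul]))

theorem ψ_val (g : Matrix.SpecialLinearGroup (Fin 4) F) :
    (((ψ g : ↥(Cfsg.isometryGroup F (Cfsg.quadFormPlus 3 F))) : GL I6 F) : Matrix I6 I6 F) =
      Lam (g : Matrix (Fin 4) (Fin 4) F) := rfl

/-- a transvection -/
def t01 : Matrix.SpecialLinearGroup (Fin 4) F :=
  ⟨Matrix.transvection 0 1 1, Matrix.det_transvection_of_ne 0 1 (by decide) 1⟩

theorem ψ_t01 : ψ (t01 : Matrix.SpecialLinearGroup (Fin 4) F) ≠ 1 := by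
  intro h
  have h1 : Lam ((t01 : Matrix.SpecialLinearGroup (Fin 4) F) : Matrix (Fin 4) (Fin 4) F)
      (.inl 1) (.inr 2) = (1 : Matrix I6 I6 F) (.inl 1) (.inr 2) := by
    rw [← ψ_val, h]; rfl
  simp [t01, Lam, minor, pr, Matrix.transvection, Matrix.one_apply, Matrix.single] at h1

end klein

/-- PSL_4(2) is isomorphic to A_8. -/
theorem result {F : Type*} [Field F] [Fintype F] (hF : Fintype.card F = 2) : Nonempty (Matrix.ProjectiveSpecialLinearGroup (Fin 4) F ≃* alternatingGroup (Fin 8)) := by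
  classical
  -- elements of F
  have h01 : ∀ x : F, x = 0 ∨ x = 1 := by
    intro x
    have h : ({0, 1} : Finset F) = Finset.univ := by
      apply Finset.eq_univ_of_card
      rw [Finset.card_pair zero_ne_one, hF]
    have := Finset.mem_univ x
    rw [← h] at this
    simpa using this
  -- the centre is trivial
  have hcenter : Subgroup.center (Matrix.SpecialLinearGroup (Fin 4) F) = ⊥ := by
    rw [eq_bot_iff]
    intro A hA
    rw [Matrix.SpecialLinearGroup.mem_center_iff] at hA
    obtain ⟨r, hr, hA⟩ := hA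
    rw [Subgroup.mem_bot]
    rcases h01 r with rfl | rfl
    · simp at hr
    · apply Subtype.ext
      rw [← hA]
      simp
  -- the lifted homomorphism
  let ψ' : Matrix.ProjectiveSpecialLinearGroup (Fin 4) F →*
      ↥(Cfsg.isometryGroup F (Cfsg.quadFormPlus 3 F)) :=
    QuotientGroup.lift _ ψ (by rw [hcenter]; exact bot_le)
  obtain ⟨e⟩ := Cfsg.Agent.S0825.result hF
  let χ : Matrix.ProjectiveSpecialLinearGroup (Fin 4) F →* Equiv.Perm (Fin 8) :=
    e.toMonoidHom.comp ψ'
  have hsimple : IsSimpleGroup (Matrix.ProjectiveSpecialLinearGroup (Fin 4) F) :=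
    Cfsg.Agent.S0249.result 4 (by norm_num)
  have hχinj : Function.Injective χ := by
    rw [← MonoidHom.ker_eq_bot_iff]
    rcases (MonoidHom.normal_ker χ).eq_bot_or_eq_top with h | h
    · exact h
    · exfalso
      have hmem : (QuotientGroup.mk (t01 : Matrix.SpecialLinearGroup (Fin 4) F) :
          Matrix.ProjectiveSpecialLinearGroup (Fin 4) F) ∈ χ.ker := by rw [h]; trivial
      rw [MonoidHom.mem_ker] at hmem
      have : ψ' (QuotientGroup.mk (t01 : Matrix.SpecialLinearGroup (Fin 4) F)) = 1 := by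
        apply e.injective
        rw [map_one]
        exact hmem
      exact ψ_t01 this
  -- perfectness
  have hperf : commutator (Matrix.ProjectiveSpecialLinearGroup (Fin 4) F) = ⊤ := by
    have h1 := map_commutator_eq (f := QuotientGroup.mk' (Subgroup.center
      (Matrix.SpecialLinearGroup (Fin 4) F)))
    rw [Cfsg.Agent.S0248.result 4 (by norm_num), Subgroup.map_top_of_surjective _
      (QuotientGroup.mk'_surjective _), MonoidHom.range_eq_top.mpr
      (QuotientGroup.mk'_surjective _), ← _root_.commutator_def] at h1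
    exact h1.symm
  have hrange : ∀ x, χ x ∈ alternatingGroup (Fin 8) := by
    intro x
    have hx : x ∈ commutator (Matrix.ProjectiveSpecialLinearGroup (Fin 4) F) := by
      rw [hperf]; trivial
    have h2 : χ x ∈ (commutator (Matrix.ProjectiveSpecialLinearGroup (Fin 4) F)).map χ :=
      Subgroup.mem_map_of_mem χ hx
    rw [map_commutator_eq] at h2
    have h3 : ⁅χ.range, χ.range⁆ ≤ commutator (Equiv.Perm (Fin 8)) := by
      rw [_root_.commutator_def]
      exact Subgroup.commutator_mono le_top le_top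
    rw [← alternatingGroup.commutator_perm_eq (by simp)]
    exact h3 h2
  let χ' : Matrix.ProjectiveSpecialLinearGroup (Fin 4) F →* alternatingGroup (Fin 8) :=
    χ.codRestrict _ hrange
  have hχ'inj : Function.Injective χ' := by
    intro x y hxy
    apply hχinj
    exact congrArg Subtype.val hxy
  have hcard1 : Nat.card (Matrix.ProjectiveSpecialLinearGroup (Fin 4) F) = 20160 := by
    have := Cfsg.Agent.S0243.result hF 4 (by norm_num)
    rw [Fin.prod_univ_four] at this
    norm_num at this
    rw [Nat.card_eq_fintype_card]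
    exact this
  have hcard2 : Nat.card (alternatingGroup (Fin 8)) = 20160 := by
    have := two_mul_nat_card_alternatingGroup (α := Fin 8)
    rw [Nat.card_eq_fintype_card (α := Equiv.Perm (Fin 8)), Fintype.card_perm, Fintype.card_fin]
      at this
    have h8 : Nat.factorial 8 = 40320 := rfl
    omega
  have hbij : Function.Bijective χ' :=
    hχ'inj.bijective_of_nat_card_le (by rw [hcard1, hcard2])
  exact ⟨MulEquiv.ofBijective χ' hbij⟩

end Cfsg.Agent.S0256
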