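import Cfsg.Statements.S0259
import Cfsg.Agent.Lib.helper14.GL2Sylow

set_option autoImplicit false
open Cfsg

namespace Cfsg.Agent.S0259

open Cfsg.Agent.Lib.helper14

theorem result {F : Type*} [Field F] [Fintype F] (p : ℕ) [Fact p.Prime] [CharP F p] (P Q : Sylow p (Matrix.GeneralLinearGroup (Fin 2) F)) (h : P ≠ Q) : (P : Subgroup (Matrix.GeneralLinearGroup (Fin 2) F)) ⊓ (Q : Subgroup (Matrix.GeneralLinearGroup (Fin 2) F)) = ⊥ := by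
  rw [Subgroup.eq_bot_iff_forall]
  intro a ha
  by_contra ha1
  apply h
  obtain ⟨haP, haQ⟩ := Subgroup.mem_inf.mp ha
  obtain ⟨g, hg⟩ := sylow_conj_mem (UGSylow (F := F) p) P
  obtain ⟨k, hk⟩ := sylow_conj_mem (UGSylow (F := F) p) Q
  have h1 : g⁻¹ * a * g ∈ UG F := (hg a).mp haP
  have h2 : k⁻¹ * a * k ∈ UG F := (hk a).mp haQ
  obtain ⟨x, hx⟩ := (mem_UG _).mp h1
  have hx0 : x ≠ 0 := by
    rintro rfl
    rw [uG_zero] at hx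
    apply ha1
    have : a = g * (g⁻¹ * a * g) * g⁻¹ := by group
    rw [this, ← hx]
    group
  have h3 : (g⁻¹ * k)⁻¹ * uG x * (g⁻¹ * k) ∈ UG F := by
    rw [hx]
    have : (g⁻¹ * k)⁻¹ * (g⁻¹ * a * g) * (g⁻¹ * k) = k⁻¹ * a * k := by group
    rw [this]
    exact h2
  have h4 := mem_BG_of_conj _ x hx0 h3
  have h5 : (g⁻¹ * k)⁻¹ ∈ BG F := (BG F).inv_mem h4
  apply Sylow.ext
  ext b
  have hb1 : b ∈ (P : Subgroup (GL (Fin 2) F)) ↔ g⁻¹ * b * g ∈ UG F := hg b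
  have hb2 : b ∈ (Q : Subgroup (GL (Fin 2) F)) ↔ k⁻¹ * b * k ∈ UG F := hk b
  rw [hb1, hb2, ← conj_mem_UG_iff _ h5 (g⁻¹ * b * g)]
  have : (g⁻¹ * k)⁻¹ * (g⁻¹ * b * g) * (g⁻¹ * k)⁻¹⁻¹ = k⁻¹ * b * k := by group
  rw [this]

end Cfsg.Agent.S0259
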