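import Cfsg.Statements.S0260
import Cfsg.Agent.Lib.helper14.SL2Sylow

set_option autoImplicit false
open Cfsg

namespace Cfsg.Agent.S0260

open Cfsg.Agent.Lib.helper14

theorem result {F : Type*} [Field F] [Fintype F] (p : ℕ) [Fact p.Prime] [CharP F p] (P Q : Sylow p (Matrix.SpecialLinearGroup (Fin 2) F)) (h : P ≠ Q) : (P : Subgroup (Matrix.SpecialLinearGroup (Fin 2) F)) ⊔ (Q : Subgroup (Matrix.SpecialLinearGroup (Fin 2) F)) = ⊤ := by
  obtain ⟨g, hg⟩ := sylow_conj_mem (USSylow (F := F) p) P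
  obtain ⟨k, hk⟩ := sylow_conj_mem (USSylow (F := F) p) Q
  have hm : (((g⁻¹ * k : Matrix.SpecialLinearGroup (Fin 2) F)) : Matrix (Fin 2) (Fin 2) F) 1 0 ≠ 0 := by
    intro hm
    have h4 : g⁻¹ * k ∈ BS F := hm
    have h5 : (g⁻¹ * k)⁻¹ ∈ BS F := (BS F).inv_mem h4
    apply h
    apply Sylow.ext
    ext b
    have hb1 : b ∈ (P : Subgroup (Matrix.SpecialLinearGroup (Fin 2) F)) ↔ g⁻¹ * b * g ∈ US F := hg b
    have hb2 : b ∈ (Q : Subgroup (Matrix.SpecialLinearGroup (Fin 2) F)) ↔ k⁻¹ * b * k ∈ US F := hk b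
    rw [hb1, hb2, ← conj_mem_US_iff _ h5 (g⁻¹ * b * g)]
    have : (g⁻¹ * k)⁻¹ * (g⁻¹ * b * g) * (g⁻¹ * k)⁻¹⁻¹ = k⁻¹ * b * k := by group
    rw [this]
  have hH' : ((P : Subgroup (Matrix.SpecialLinearGroup (Fin 2) F)) ⊔ (Q : Subgroup (Matrix.SpecialLinearGroup (Fin 2) F))).comap (MulAut.conj g).toMonoidHom = ⊤ := by
    apply eq_top_of_US_conj _ _ (g⁻¹ * k) hm
    · intro x
      rw [Subgroup.mem_comap]
      apply Subgroup.mem_sup_right
      show g * (g⁻¹ * k * uS x * (g⁻¹ * k)⁻¹) * g⁻¹ ∈ (Q : Subgroup (Matrix.SpecialLinearGroup (Fin 2) F))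
      have hb2 := hk (g * (g⁻¹ * k * uS x * (g⁻¹ * k)⁻¹) * g⁻¹)
      apply hb2.mpr
      have : k⁻¹ * (g * (g⁻¹ * k * uS x * (g⁻¹ * k)⁻¹) * g⁻¹) * k = uS x := by group
      rw [this]
      exact uS_mem x
    · intro x
      rw [Subgroup.mem_comap]
      apply Subgroup.mem_sup_left
      show g * uS x * g⁻¹ ∈ (P : Subgroup (Matrix.SpecialLinearGroup (Fin 2) F))
      apply (hg _).mpr
      have : g⁻¹ * (g * uS x * g⁻¹) * g = uS x := by group
      rw [this]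
      exact uS_mem x
  rw [eq_top_iff]
  intro s _
  have h1 : g⁻¹ * s * g ∈ ((P : Subgroup (Matrix.SpecialLinearGroup (Fin 2) F)) ⊔ (Q : Subgroup (Matrix.SpecialLinearGroup (Fin 2) F))).comap (MulAut.conj g).toMonoidHom := by
    rw [hH']; trivial
  rw [Subgroup.mem_comap] at h1
  have h2 : (MulAut.conj g).toMonoidHom (g⁻¹ * s * g) = s := by
    show g * (g⁻¹ * s * g) * g⁻¹ = s
    group
  rwa [h2] at h1

end Cfsg.Agent.S0260
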