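import Cfsg.Statements.S0264
import Cfsg.Agent.Lib.Lead.SLn
import Mathlib

set_option autoImplicit false
open Cfsg

namespace Cfsg.Agent.S0264

open Matrix Matrix.SpecialLinearGroup
open scoped commutatorElement

section
variable {ι F : Type*} [Field F] [DecidableEq ι] [Fintype ι]

theorem diag_aux (i : ι) (a b : F) (hab : a * b = 1) :
    (1 + single i i (a - 1) : Matrix ι ι F) * (1 + single i i (b - 1)) = 1 := by
  simp only [mul_add, add_mul, mul_one, one_mul, single_mul_single_same]
  rw [add_assoc, add_eq_left, ← add_assoc, ← single_add, ← single_add]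
  have : a - 1 + (b - 1) + (a - 1) * (b - 1) = 0 := by linear_combination hab
  rw [this, single_zero]

/-- The diagonal matrix with `a` at position `i` and `1` elsewhere, in `GL`. -/
noncomputable def diagGL (i : ι) (a : F) (ha : a ≠ 0) : GL ι F :=
  ⟨1 + single i i (a - 1), 1 + single i i (a⁻¹ - 1),
    diag_aux i a a⁻¹ (mul_inv_cancel₀ ha), diag_aux i a⁻¹ a (inv_mul_cancel₀ ha)⟩

theorem comm_aux {i j : ι} (hij : i ≠ j) (a b : F) (ha : a ≠ 0) :
    (1 + single i j ((a - 1) * b) : Matrix ι ι F) =
      (1 + single i i (a - 1)) * (1 + single i j b) *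
        (1 + single i i (a⁻¹ - 1)) * (1 + single i j (-b)) := by
  have hji : j ≠ i := hij.symm
  simp only [mul_add, add_mul, mul_one, one_mul, single_mul_single_same,
    single_mul_single_of_ne _ _ _ _ hji, add_zero]
  ext p q
  simp only [Matrix.add_apply, Matrix.one_apply, Matrix.single_apply]
  simp only [@eq_comm _ i p, @eq_comm _ i q, @eq_comm _ j q]
  by_cases hpi : p = i <;> by_cases hqj : q = j <;> by_cases hqi : q = i <;> by_cases hpj : p = j <;>
      by_cases hpq : p = q <;> simp_all <;> (try field_simp) <;> ring

theorem toGL_transvection_eq_commutator {i j : ι} (hij : i ≠ j) (a b : F) (ha : a ≠ 0) :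
    (toGL (SpecialLinearGroup.transvection hij ((a - 1) * b)) : GL ι F) =
      ⁅diagGL i a ha, toGL (SpecialLinearGroup.transvection hij b)⁆ := by
  rw [commutatorElement_def, ← map_inv, SpecialLinearGroup.transvection_inv]
  apply Units.ext
  exact comm_aux hij a b ha

end

/-- GL_n(F)' = SL_n(F) (as the kernel of det), for every field F and every n, except n = 2 over the field of two elements. -/
theorem result {F : Type*} [Field F] (n : ℕ) (h : n = 2 → ∃ a : F, a ≠ 0 ∧ a ≠ 1) : commutator (Matrix.GeneralLinearGroup (Fin n) F) = (Matrix.GeneralLinearGroup.det : Matrix.GeneralLinearGroup (Fin n) F →* Fˣ).ker := by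
  apply le_antisymm (Abelianization.commutator_subset_ker _)
  intro g hg
  rw [MonoidHom.mem_ker] at hg
  have hdet : (g : Matrix (Fin n) (Fin n) F).det = 1 := by
    simpa using congrArg Units.val hg
  set A : SpecialLinearGroup (Fin n) F := ⟨g.1, hdet⟩ with hA
  have hgA : g = toGL A := Units.ext rfl
  rw [hgA]
  clear_value A
  clear hgA hA hdet hg g
  rcases lt_or_ge n 2 with hn | hn
  · have : A = 1 := by
      interval_cases n
      · exact Subsingleton.elim _ _
      · exact Subsingleton.elim _ _
    rw [this, map_one]
    exact one_mem _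
  · have : Nontrivial (Fin n) := Fin.nontrivial_iff_two_le.mpr hn
    refine Cfsg.Agent.Lib.Lead.SL_transvection_induction
      (fun A ↦ (toGL A : GL (Fin n) F) ∈ commutator (GL (Fin n) F)) ?_ ?_ A
    · intro i j hij c
      rcases eq_or_lt_of_le hn with h2 | h3
      · obtain ⟨a, ha0, ha1⟩ := h h2.symm
        have ha1' : a - 1 ≠ 0 := sub_ne_zero.mpr ha1
        have := toGL_transvection_eq_commutator hij a (c / (a - 1)) ha0
        rw [mul_div_cancel₀ c ha1'] at this
        rw [this]
        exact Subgroup.commutator_mem_commutator (Subgroup.mem_top _) (Subgroup.mem_top _)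
      · have hmem : SpecialLinearGroup.transvection hij c ∈
            commutator (SpecialLinearGroup (Fin n) F) := by
          rw [Cfsg.Agent.Lib.Lead.SL_commutator_eq_top (by simpa using Nat.succ_le_of_lt h3)]
          exact Subgroup.mem_top _
        have hle : Subgroup.map (toGL : SpecialLinearGroup (Fin n) F →* GL (Fin n) F)
            (commutator (SpecialLinearGroup (Fin n) F)) ≤ commutator (GL (Fin n) F) := by
          rw [commutator_def, Subgroup.map_commutator, commutator_def]
          exact Subgroup.commutator_mono le_top le_top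
        exact hle (Subgroup.mem_map_of_mem _ hmem)
    · intro A B hA hB
      rw [map_mul]
      exact mul_mem hA hB

end Cfsg.Agent.S0264
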