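import Cfsg.Statements.S0266
import Cfsg.Agent.Lib.helper14.ProjLine

set_option autoImplicit false
set_option linter.unusedSectionVars false
open Cfsg

namespace Cfsg.Agent.S0266

open Cfsg.Agent.Lib.helper14

section
variable {F : Type*} [Field F]

local notation "P1" => Projectivization F (Fin 2 → F)
local notation "PGL2" => Matrix.ProjGenLinGroup (Fin 2) F

theorem mk_smul' (g : GL (Fin 2) F) (x : P1) : (Matrix.ProjGenLinGroup.mk g : PGL2) • x = g • x := rfl

theorem exists_pgl_std (a b c : P1) (hab : a ≠ b) (hac : a ≠ c) (hbc : b ≠ c) :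
    ∃ h : PGL2, h • (pt0 : P1) = a ∧ h • (pt1 : P1) = b ∧ h • (pt2 : P1) = c := by
  obtain ⟨g, h0, h1, h2⟩ := exists_gl_std a b c hab hac hbc
  exact ⟨Matrix.ProjGenLinGroup.mk g, h0, h1, h2⟩

theorem eq_one_of_fix_std (g : PGL2) (h0 : g • (pt0 : P1) = pt0) (h1 : g • (pt1 : P1) = pt1)
    (h2 : g • (pt2 : P1) = pt2) : g = 1 := by
  induction g using Matrix.ProjGenLinGroup.induction_on with | mk g => ?_
  rw [mk_smul'] at h0 h1 h2
  obtain ⟨e1, e2, e3⟩ := scalar_of_fix_std g h0 h1 h2
  have hd : (g : Matrix (Fin 2) (Fin 2) F) 0 0 ≠ 0 := by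
    intro h
    have := ((Matrix.isUnit_iff_isUnit_det _).mp (Units.isUnit g)).ne_zero
    rw [Matrix.det_fin_two, e1, e2, h] at this
    simp at this
  have : g = Matrix.GeneralLinearGroup.scalar (Fin 2) (Units.mk0 _ hd) := by
    apply Units.ext
    rw [Matrix.GeneralLinearGroup.coe_scalar]
    ext i j
    fin_cases i <;> fin_cases j
    · simp
    · simpa using e2
    · simpa using e1
    · simpa using e3.symm
  rw [this]
  exact Matrix.ProjGenLinGroup.mk_scalar _

end

theorem result {F : Type*} [Field F] : MulAction.IsMultiplyPretransitive (Matrix.ProjGenLinGroup (Fin 2) F) (Projectivization F (Fin 2 → F)) 3 ∧ ∀ (g : Matrix.ProjGenLinGroup (Fin 2) F) (a b c : Projectivization F (Fin 2 → F)), a ≠ b → a ≠ c → b ≠ c → g • a = a → g • b = b → g • c = c → g = 1 := by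
  constructor
  · rw [MulAction.isMultiplyPretransitive_iff]
    intro x y
    have hx01 : x 0 ≠ x 1 := fun h => absurd (x.injective h) (by decide)
    have hx02 : x 0 ≠ x 2 := fun h => absurd (x.injective h) (by decide)
    have hx12 : x 1 ≠ x 2 := fun h => absurd (x.injective h) (by decide)
    have hy01 : y 0 ≠ y 1 := fun h => absurd (y.injective h) (by decide)
    have hy02 : y 0 ≠ y 2 := fun h => absurd (y.injective h) (by decide)
    have hy12 : y 1 ≠ y 2 := fun h => absurd (y.injective h) (by decide)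
    obtain ⟨h, h0, h1, h2⟩ := exists_pgl_std (x 0) (x 1) (x 2) hx01 hx02 hx12
    obtain ⟨k, k0, k1, k2⟩ := exists_pgl_std (y 0) (y 1) (y 2) hy01 hy02 hy12
    refine ⟨k * h⁻¹, ?_⟩
    ext i
    rw [Function.Embedding.smul_apply]
    fin_cases i
    · show (k * h⁻¹) • x 0 = y 0
      rw [← h0, mul_smul, inv_smul_smul, k0]
    · show (k * h⁻¹) • x 1 = y 1
      rw [← h1, mul_smul, inv_smul_smul, k1]
    · show (k * h⁻¹) • x 2 = y 2
      rw [← h2, mul_smul, inv_smul_smul, k2]
  · intro g a b c hab hac hbc ha hb hc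
    obtain ⟨h, h0, h1, h2⟩ := exists_pgl_std a b c hab hac hbc
    have key : h⁻¹ * g * h = 1 := by
      apply eq_one_of_fix_std
      · rw [mul_smul, mul_smul, h0, ha, ← h0, inv_smul_smul]
      · rw [mul_smul, mul_smul, h1, hb, ← h1, inv_smul_smul]
      · rw [mul_smul, mul_smul, h2, hc, ← h2, inv_smul_smul]
    have : g = h * (h⁻¹ * g * h) * h⁻¹ := by group
    rw [this, key]
    group

end Cfsg.Agent.S0266
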