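import Cfsg.Statements.S0267
import Cfsg.Agent.Lib.helper14.ProjLine
import Cfsg.Agent.Lib.helper14.SL2Odd

set_option autoImplicit false
set_option linter.unusedSectionVars false
open Cfsg

namespace Cfsg.Agent.S0267

open Cfsg.Agent.Lib.helper14

section
variable {F : Type*} [Field F]

local notation "P1" => Projectivization F (Fin 2 → F)
local notation "SL2" => Matrix.SpecialLinearGroup (Fin 2) F
local notation "M2" => Matrix (Fin 2) (Fin 2) F
local notation "V2" => Fin 2 → F

theorem sl_smul_eq (g : SL2) (x : P1) : g • x = (Matrix.SpecialLinearGroup.toGL g) • x := by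
  induction x using Projectivization.ind with | h v hv => ?_
  rw [Projectivization.smul_mk, Projectivization.smul_mk]
  rfl

theorem sl_smul_mk_eq_iff (g : SL2) (v w : V2) (hv : v ≠ 0) (hw : w ≠ 0) :
    g • Projectivization.mk F v hv = Projectivization.mk F w hw ↔
      ((g : M2) 0 0 * v 0 + (g : M2) 0 1 * v 1) * w 1 - ((g : M2) 1 0 * v 0 + (g : M2) 1 1 * v 1) * w 0 = 0 := by
  rw [sl_smul_eq, gl_smul_mk_eq_iff]
  rfl

/-- an element of `SL₂` proportional to an element of `GL₂` acts in the same way -/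
theorem smul_eq_of_prop (g : GL (Fin 2) F) (g' : SL2) (c : F) (hc : c ≠ 0)
    (h : ∀ i j, (g' : M2) i j = c * (g : Matrix (Fin 2) (Fin 2) F) i j) (x : P1) : g' • x = g • x := by
  induction x using Projectivization.ind with | h v hv => ?_
  rw [Projectivization.smul_mk g, sl_smul_mk_eq_iff, gl_smul_vec, h 0 0, h 0 1, h 1 0, h 1 1]
  simp only [Matrix.cons_val_zero, Matrix.cons_val_one]
  ring

theorem exists_sl_of_gl (hsq : ∀ a : F, IsSquare a) (g : GL (Fin 2) F) :
    ∃ g' : SL2, ∀ x : P1, g' • x = g • x := by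
  have hd : (g : Matrix (Fin 2) (Fin 2) F).det ≠ 0 :=
    ((Matrix.isUnit_iff_isUnit_det _).mp (Units.isUnit g)).ne_zero
  obtain ⟨s, hs⟩ := hsq (g : Matrix (Fin 2) (Fin 2) F).det
  have hs0 : s ≠ 0 := by
    rintro rfl
    rw [mul_zero] at hs
    exact hd hs
  refine ⟨⟨s⁻¹ • (g : Matrix (Fin 2) (Fin 2) F), ?_⟩, ?_⟩
  · rw [Matrix.det_smul, Fintype.card_fin, hs]
    field_simp
  · intro x
    apply smul_eq_of_prop g _ s⁻¹ (inv_ne_zero hs0)
    intro i j
    rfl

end

theorem result {F : Type*} [Field F] [Fintype F] : MulAction.IsMultiplyPretransitive (Matrix.SpecialLinearGroup (Fin 2) F) (Projectivization F (Fin 2 → F)) 3 ↔ ringChar F = 2 := by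
  constructor
  · intro h3
    by_contra hchar
    obtain ⟨ν, hν⟩ := FiniteField.exists_nonsquare hchar
    have hν0 : ν ≠ 0 := by
      rintro rfl
      exact hν ⟨0, by ring⟩
    have hvne : (![1, ν] : Fin 2 → F) ≠ 0 := by
      rw [vec_ne_zero_iff]; left; simp
    have h01 : (pt0 : Projectivization F (Fin 2 → F)) ≠ pt1 := by
      unfold pt0 pt1
      rw [Ne, mk_eq_mk_iff_cross]
      simp [cross]
    have h02 : (pt0 : Projectivization F (Fin 2 → F)) ≠ pt2 := by
      unfold pt0 pt2
      rw [Ne, mk_eq_mk_iff_cross]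
      simp [cross]
    have h12 : (pt1 : Projectivization F (Fin 2 → F)) ≠ pt2 := by
      unfold pt1 pt2
      rw [Ne, mk_eq_mk_iff_cross]
      simp [cross]
    have h0v : (pt0 : Projectivization F (Fin 2 → F)) ≠ Projectivization.mk F ![1, ν] hvne := by
      unfold pt0
      rw [Ne, mk_eq_mk_iff_cross]
      simpa [cross] using hν0
    have h1v : (pt1 : Projectivization F (Fin 2 → F)) ≠ Projectivization.mk F ![1, ν] hvne := by
      unfold pt1
      rw [Ne, mk_eq_mk_iff_cross]
      simp [cross]
    let x : Fin 3 ↪ Projectivization F (Fin 2 → F) := ⟨![pt0, pt1, pt2], by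
      intro i j hij
      fin_cases i <;> fin_cases j <;> first | rfl | (exfalso; simp at hij; first | exact h01 hij | exact h02 hij | exact h12 hij | exact h01 hij.symm | exact h02 hij.symm | exact h12 hij.symm)⟩
    let y : Fin 3 ↪ Projectivization F (Fin 2 → F) := ⟨![pt0, pt1, Projectivization.mk F ![1, ν] hvne], by
      intro i j hij
      fin_cases i <;> fin_cases j <;> first | rfl | (exfalso; simp at hij; first | exact h01 hij | exact h0v hij | exact h1v hij | exact h01 hij.symm | exact h0v hij.symm | exact h1v hij.symm)⟩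
    obtain ⟨g, hg⟩ := (MulAction.isMultiplyPretransitive_iff.mp h3) x y
    have e0 : g • (pt0 : Projectivization F (Fin 2 → F)) = pt0 := by
      have := congrArg (fun f : Fin 3 ↪ Projectivization F (Fin 2 → F) => f 0) hg
      exact this
    have e1 : g • (pt1 : Projectivization F (Fin 2 → F)) = pt1 := by
      have := congrArg (fun f : Fin 3 ↪ Projectivization F (Fin 2 → F) => f 1) hg
      exact this
    have e2 : g • (pt2 : Projectivization F (Fin 2 → F)) = Projectivization.mk F ![1, ν] hvne := by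
      have := congrArg (fun f : Fin 3 ↪ Projectivization F (Fin 2 → F) => f 2) hg
      exact this
    unfold pt0 at e0
    unfold pt1 at e1
    unfold pt2 at e2
    rw [sl_smul_mk_eq_iff] at e0 e1 e2
    simp only [Matrix.cons_val_zero, Matrix.cons_val_one, mul_one, mul_zero, add_zero, zero_add, sub_zero,
      zero_sub, neg_eq_zero] at e0 e1 e2
    have hd := sl2_det g
    rw [e0, e1] at e2
    rw [e0, mul_zero, sub_zero] at hd
    apply hν
    have ha : (g : Matrix (Fin 2) (Fin 2) F) 0 0 ≠ 0 := left_ne_zero_of_mul_eq_one hd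
    refine ⟨((g : Matrix (Fin 2) (Fin 2) F) 0 0)⁻¹, ?_⟩
    have e3 : (g : Matrix (Fin 2) (Fin 2) F) 0 0 * ν = (g : Matrix (Fin 2) (Fin 2) F) 1 1 := by
      linear_combination e2
    rw [← e3] at hd
    field_simp
    linear_combination hd
  · intro hchar
    have hsq : ∀ a : F, IsSquare a := FiniteField.isSquare_of_char_two hchar
    rw [MulAction.isMultiplyPretransitive_iff]
    intro x y
    have hx01 : x 0 ≠ x 1 := fun h => absurd (x.injective h) (by decide)
    have hx02 : x 0 ≠ x 2 := fun h => absurd (x.injective h) (by decide)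
    have hx12 : x 1 ≠ x 2 := fun h => absurd (x.injective h) (by decide)
    have hy01 : y 0 ≠ y 1 := fun h => absurd (y.injective h) (by decide)
    have hy02 : y 0 ≠ y 2 := fun h => absurd (y.injective h) (by decide)
    have hy12 : y 1 ≠ y 2 := fun h => absurd (y.injective h) (by decide)
    obtain ⟨h, h0, h1, h2⟩ := exists_gl_std (x 0) (x 1) (x 2) hx01 hx02 hx12
    obtain ⟨k, k0, k1, k2⟩ := exists_gl_std (y 0) (y 1) (y 2) hy01 hy02 hy12
    obtain ⟨g', hg'⟩ := exists_sl_of_gl hsq (k * h⁻¹)
    refine ⟨g', ?_⟩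
    ext i
    rw [Function.Embedding.smul_apply, hg']
    fin_cases i
    · show (k * h⁻¹) • x 0 = y 0
      rw [← h0, mul_smul, inv_smul_smul, k0]
    · show (k * h⁻¹) • x 1 = y 1
      rw [← h1, mul_smul, inv_smul_smul, k1]
    · show (k * h⁻¹) • x 2 = y 2
      rw [← h2, mul_smul, inv_smul_smul, k2]

end Cfsg.Agent.S0267
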