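import Cfsg.Statements.S0272
import Cfsg.Agent.Lib.helper14.GL2Sylow

set_option autoImplicit false
open Cfsg

namespace Cfsg.Agent.S0272

open Cfsg.Agent.Lib.helper14

theorem result {F : Type*} [Field F] [Fintype F] {q : ℕ} (hF : Fintype.card F = q) (p : ℕ) [Fact p.Prime] [CharP F p] (P : Sylow p (Matrix.GeneralLinearGroup (Fin 2) F)) : Nat.card (Subgroup.normalizer ((P : Subgroup (Matrix.GeneralLinearGroup (Fin 2) F)) : Set (Matrix.GeneralLinearGroup (Fin 2) F))) = q * (q - 1) ^ 2 := by
  have h1 := Subgroup.card_mul_index (Subgroup.normalizer ((P : Subgroup (Matrix.GeneralLinearGroup (Fin 2) F)) : Set (Matrix.GeneralLinearGroup (Fin 2) F)))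
  have h2 : (Subgroup.normalizer ((P : Subgroup (Matrix.GeneralLinearGroup (Fin 2) F)) : Set (Matrix.GeneralLinearGroup (Fin 2) F))).index = Fintype.card F + 1 := by
    rw [← card_sylow_GL2 (F := F) p]
    exact (Sylow.card_eq_index_normalizer P).symm
  rw [h2, card_GL2, hF] at h1
  exact Nat.eq_of_mul_eq_mul_right (by omega) h1

end Cfsg.Agent.S0272
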