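import Cfsg.Statements.S0273
import Cfsg.Agent.Lib.helper14.GL2Sylow

set_option autoImplicit false
open Cfsg

namespace Cfsg.Agent.S0273

open Cfsg.Agent.Lib.helper14

theorem result {F : Type*} [Field F] [Fintype F] {q : ℕ} (hF : Fintype.card F = q) (p : ℕ) [Fact p.Prime] [CharP F p] (P : Sylow p (Matrix.GeneralLinearGroup (Fin 2) F)) (a : Matrix.GeneralLinearGroup (Fin 2) F) (ha : a ∈ P) (ha1 : a ≠ 1) : Nat.card (Subgroup.centralizer ({a} : Set (Matrix.GeneralLinearGroup (Fin 2) F))) = q * (q - 1) := by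
  obtain ⟨g, hg⟩ := sylow_conj_mem (UGSylow (F := F) p) P
  have h1 : g⁻¹ * a * g ∈ UG F := (hg a).mp ha
  obtain ⟨x, hx⟩ := (mem_UG _).mp h1
  have hax : a = g * uG x * g⁻¹ := by
    rw [hx]; group
  have hx0 : x ≠ 0 := by
    rintro rfl
    rw [uG_zero] at hax
    apply ha1
    rw [hax]
    group
  rw [hax, card_centralizer_conj, card_centralizer_uG x hx0, hF]

end Cfsg.Agent.S0273
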