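import Cfsg.Statements.S0281
import Cfsg.Agent.S0278
import Cfsg.Agent.Lib.Lead.Unitary
import Cfsg.Agent.Lib.helper14.SL2Card
import Cfsg.Agent.Lib.helper14.Mat2
import Mathlib

set_option autoImplicit false
set_option linter.unusedSectionVars false
open Cfsg

namespace Cfsg.Agent.S0281

open Cfsg.Agent.Lib.Lead Cfsg.Agent.Lib.helper14 Matrix

section
variable {F : Type*} [Field F]

def Jm : Matrix (Fin 2) (Fin 2) F := !![0, 1; -1, 0]

theorem transpose_J_mul (B : Matrix (Fin 2) (Fin 2) F) : Bᵀ * Jm * B = B.det • Jm := by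
  ext i j
  fin_cases i <;> fin_cases j <;>
    simp [Jm, Matrix.mul_apply, Fin.sum_univ_two, Matrix.det_fin_two] <;> ring

theorem conj_unitary (σ : F →+* F) (P P' Bm G : Matrix (Fin 2) (Fin 2) F) (hPP' : P * P' = 1)
    (hG : Pᵀ * P.map σ = G) (hB : Bmᵀ * G * Bm.map σ = G) :
    (P * Bm * P')ᵀ * (P * Bm * P').map σ = 1 := by
  rw [Matrix.transpose_mul, Matrix.transpose_mul, Matrix.map_mul, Matrix.map_mul]
  have e1 : P'ᵀ * (Bmᵀ * Pᵀ) * (P.map σ * Bm.map σ * P'.map σ) =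
      P'ᵀ * (Bmᵀ * (Pᵀ * P.map σ) * Bm.map σ) * P'.map σ := by
    simp only [Matrix.mul_assoc]
  rw [e1, hG, hB, ← hG]
  have e2 : P'ᵀ * (Pᵀ * P.map σ) * P'.map σ = (P * P')ᵀ * (P * P').map σ := by
    rw [Matrix.transpose_mul, Matrix.map_mul]
    simp only [Matrix.mul_assoc]
  rw [e2, hPP', Matrix.transpose_one, Matrix.map_one _ (map_zero σ) (map_one σ), one_mul]

variable {K : Type*} [Field K]

def conjHom (P P' : Matrix (Fin 2) (Fin 2) F) (hPP' : P * P' = 1) (hP'P : P' * P = 1) (ι : K →+* F) :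
    Matrix.SpecialLinearGroup (Fin 2) K →* Matrix.SpecialLinearGroup (Fin 2) F where
  toFun B := ⟨P * (B : Matrix (Fin 2) (Fin 2) K).map ι * P', by
    have h1 : ((B : Matrix (Fin 2) (Fin 2) K).map ι).det = 1 := by
      rw [← RingHom.mapMatrix_apply, ← RingHom.map_det, B.2, map_one]
    rw [Matrix.det_mul, Matrix.det_mul, h1, mul_one, ← Matrix.det_mul, hPP', Matrix.det_one]⟩
  map_one' := by
    apply Subtype.ext
    show P * ((1 : Matrix (Fin 2) (Fin 2) K)).map ι * P' = 1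
    rw [Matrix.map_one _ (map_zero ι) (map_one ι), mul_one, hPP']
  map_mul' B B' := by
    apply Subtype.ext
    show P * ((B : Matrix (Fin 2) (Fin 2) K) * (B' : Matrix (Fin 2) (Fin 2) K)).map ι * P' =
      (P * (B : Matrix (Fin 2) (Fin 2) K).map ι * P') * (P * (B' : Matrix (Fin 2) (Fin 2) K).map ι * P')
    rw [Matrix.map_mul]
    have e1 : (P * (B : Matrix (Fin 2) (Fin 2) K).map ι * P') *
        (P * (B' : Matrix (Fin 2) (Fin 2) K).map ι * P') =
        P * (B : Matrix (Fin 2) (Fin 2) K).map ι * (P' * P) * (B' : Matrix (Fin 2) (Fin 2) K).map ι * P' := by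
      simp only [Matrix.mul_assoc]
    rw [e1, hP'P, mul_one]
    simp only [Matrix.mul_assoc]

theorem conjHom_coe (P P' : Matrix (Fin 2) (Fin 2) F) (hPP' : P * P' = 1) (hP'P : P' * P = 1) (ι : K →+* F)
    (B : Matrix.SpecialLinearGroup (Fin 2) K) :
    ((conjHom P P' hPP' hP'P ι B : Matrix.SpecialLinearGroup (Fin 2) F) : Matrix (Fin 2) (Fin 2) F) =
      P * (B : Matrix (Fin 2) (Fin 2) K).map ι * P' := rfl

theorem conjHom_injective (P P' : Matrix (Fin 2) (Fin 2) F) (hPP' : P * P' = 1) (hP'P : P' * P = 1)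
    (ι : K →+* F) : Function.Injective (conjHom P P' hPP' hP'P ι) := by
  intro B B' h
  have h1 := congrArg (fun A : Matrix.SpecialLinearGroup (Fin 2) F => (A : Matrix (Fin 2) (Fin 2) F)) h
  simp only [conjHom_coe] at h1
  have h2 : (B : Matrix (Fin 2) (Fin 2) K).map ι = (B' : Matrix (Fin 2) (Fin 2) K).map ι := by
    have e1 : ∀ M : Matrix (Fin 2) (Fin 2) F, P' * (P * M * P') * P = M := by
      intro M
      calc P' * (P * M * P') * P = (P' * P) * M * (P' * P) := by simp only [Matrix.mul_assoc]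
        _ = M := by rw [hP'P, one_mul, mul_one]
    rw [← e1 ((B : Matrix (Fin 2) (Fin 2) K).map ι), h1, e1]
  apply Subtype.ext
  ext i j
  have h3 := congrFun (congrFun h2 i) j
  simp only [Matrix.map_apply] at h3
  exact ι.injective h3

end

theorem result {F K : Type*} [Field F] [Fintype F] [Field K] [Fintype K] {q : ℕ} (hF : Fintype.card F = q ^ 2) (hK : Fintype.card K = q) : Nonempty (Cfsg.SU 2 F q ≃* Matrix.SpecialLinearGroup (Fin 2) K) := by
  classical
  have hq2 : 2 ≤ q := two_le_q hF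
  obtain ⟨σ, hσ⟩ := exists_frob hF
  have hσσ := frob_frob hF σ hσ
  obtain ⟨g, hg⟩ := IsCyclic.exists_generator (α := Fˣ)
  have hordg : orderOf g = q ^ 2 - 1 := by
    rw [orderOf_eq_card_of_forall_mem_zpowers hg, Nat.card_units, Nat.card_eq_fintype_card, hF]
  have hg0 : (g : F) ≠ 0 := g.ne_zero
  have hqq : q ^ 2 = q * q := sq q
  have hpowg : ∀ k : ℕ, (g : F) ^ k = 1 → q ^ 2 - 1 ∣ k := by
    intro k hk
    rw [← hordg]
    apply orderOf_dvd_of_pow_eq_one
    apply Units.ext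
    rw [Units.val_pow_eq_pow_val, hk, Units.val_one]
  have hgq : σ (g : F) = (g : F) ^ (q - 1) * g := by
    rw [hσ, ← pow_succ]
    congr 1
    omega
  obtain ⟨l, hl0, hlσ⟩ : ∃ l : F, l ≠ 0 ∧ σ l = -l := by
    refine ⟨(g : F) - σ g, ?_, ?_⟩
    · intro h
      have h1 : (g : F) ^ (q - 1) * g = 1 * g := by rw [← hgq, one_mul]; exact (sub_eq_zero.mp h).symm
      have h3 := hpowg _ (mul_right_cancel₀ hg0 h1)
      have h4 := Nat.le_of_dvd (by omega) h3
      have h7 : 2 * q ≤ q ^ 2 := by nlinarith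
      generalize q ^ 2 = Q at h4 h7
      omega
    · rw [map_sub, hσσ]; ring
  obtain ⟨c, hc⟩ : ∃ c : F, c + σ c = -1 := by
    have hν : (g : F) + σ g ≠ 0 := by
      intro h
      have h1 : (g : F) ^ (q - 1) * g = (-1) * g := by rw [← hgq]; linear_combination h
      have h3 : (g : F) ^ (q - 1) = -1 := mul_right_cancel₀ hg0 h1
      have h4 : (g : F) ^ (2 * (q - 1)) = 1 := by
        rw [mul_comm, pow_mul, h3]; norm_num
      have h5 := hpowg _ h4
      have h6 := Nat.le_of_dvd (by omega) h5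
      have h7 : 2 * q ≤ q ^ 2 := by nlinarith
      generalize q ^ 2 = Q at h6 h7
      omega
    refine ⟨-(g : F) / ((g : F) + σ g), ?_⟩
    have hν' : σ (g : F) + (g : F) ≠ 0 := by rw [add_comm]; exact hν
    rw [map_div₀, map_neg, map_add, hσσ]
    field_simp
    ring
  obtain ⟨t, ht⟩ : ∃ t : F, t * σ t = -1 := by
    have h1 := card_norm_fiber hF (-1 : F) (neg_ne_zero.mpr one_ne_zero) (by rw [← hσ, map_neg, map_one])
    have h3 : 0 < (Finset.univ.filter (fun t : F => t ^ (q + 1) = -1)).card := by rw [h1]; omega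
    obtain ⟨t, ht⟩ := Finset.card_pos.mp h3
    refine ⟨t, ?_⟩
    rw [hσ, ← pow_succ']
    exact (Finset.mem_filter.mp ht).2
  obtain ⟨d, hd⟩ : ∃ d : F, d = σ c := ⟨_, rfl⟩
  obtain ⟨s, hs⟩ : ∃ s : F, s = σ t := ⟨_, rfl⟩
  rw [← hd] at hc
  rw [← hs] at ht
  obtain ⟨P, hP⟩ : ∃ P : Matrix (Fin 2) (Fin 2) F, P = !![1, l * (1 + c); t, l * c * t] := ⟨_, rfl⟩
  have ht0 : t ≠ 0 := by
    intro h
    rw [h, zero_mul] at ht
    exact one_ne_zero (neg_eq_zero.mp ht.symm)
  have hdet : P.det = -(l * t) := by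
    rw [hP, Matrix.det_fin_two_of]; ring
  have hdetu : IsUnit P.det := by
    rw [hdet, isUnit_iff_ne_zero]
    exact neg_ne_zero.mpr (mul_ne_zero hl0 ht0)
  have hPP' : P * P⁻¹ = 1 := Matrix.mul_nonsing_inv P hdetu
  have hP'P : P⁻¹ * P = 1 := Matrix.nonsing_inv_mul P hdetu
  have hG : Pᵀ * P.map σ = (-l) • (Jm : Matrix (Fin 2) (Fin 2) F) := by
    have hPσ : P.map σ = !![1, (-l) * (1 + d); s, (-l) * d * s] := by
      rw [hP]
      ext i j
      fin_cases i <;> fin_cases j <;> simp [hlσ, hd, hs]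
    rw [hPσ, hP, Matrix.transpose, Jm]
    ext i j
    fin_cases i <;> fin_cases j
    · simp [Matrix.mul_apply, Fin.sum_univ_two]
      linear_combination ht
    · simp [Matrix.mul_apply, Fin.sum_univ_two]
      linear_combination (-l * d) * ht
    · simp [Matrix.mul_apply, Fin.sum_univ_two]
      linear_combination (l * c) * ht
    · simp [Matrix.mul_apply, Fin.sum_univ_two]
      linear_combination (-l * l) * hc + (-l * l * c * d) * ht
  haveI : Fintype (Matrix.SpecialLinearGroup (Fin 2) K) := Fintype.ofFinite _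
  obtain ⟨ι⟩ : Nonempty (K →+* F) := by
    obtain ⟨p, hchar, n, hp, hcard⟩ := FiniteField.card' F
    haveI := hchar
    haveI : Fact p.Prime := ⟨hp⟩
    rw [hF] at hcard
    have hdvd : q ∣ p ^ (n : ℕ) := ⟨q, by rw [← hcard]; ring⟩
    obtain ⟨j, -, hj⟩ := (Nat.dvd_prime_pow hp).mp hdvd
    haveI : CharP K p := charP_of_card_eq_prime_pow (f := j) (by rw [hK, hj])
    letI : Algebra (ZMod p) K := ZMod.algebra _ _
    letI : Algebra (ZMod p) F := ZMod.algebra _ _
    have h1 := FiniteField.pow_finrank_eq_card p K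
    have h2 := FiniteField.pow_finrank_eq_card p F
    have h3 : 2 * Module.finrank (ZMod p) K = Module.finrank (ZMod p) F := by
      apply Nat.pow_right_injective hp.two_le
      show p ^ (2 * Module.finrank (ZMod p) K) = p ^ Module.finrank (ZMod p) F
      rw [h2, hF, ← hK, ← h1]
      ring
    obtain ⟨f⟩ := FiniteField.nonempty_algHom_of_finrank_dvd (F := ZMod p) (K := K) (L := F)
      ⟨2, by rw [← h3]; ring⟩
    exact ⟨f.toRingHom⟩
  have hmem : ∀ B : Matrix.SpecialLinearGroup (Fin 2) K, conjHom P P⁻¹ hPP' hP'P ι B ∈ Cfsg.SU 2 F q := by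
    intro B
    show ∀ u v, Cfsg.hermForm 2 F q (Cfsg.slToMat 2 F (conjHom P P⁻¹ hPP' hP'P ι B) *ᵥ u)
      (Cfsg.slToMat 2 F (conjHom P P⁻¹ hPP' hP'P ι B) *ᵥ v) = Cfsg.hermForm 2 F q u v
    have e0 : Cfsg.slToMat 2 F (conjHom P P⁻¹ hPP' hP'P ι B) =
        P * (B : Matrix (Fin 2) (Fin 2) K).map ι * P⁻¹ := rfl
    rw [e0, preserves_iff σ hσ]
    apply conj_unitary σ P P⁻¹ _ _ hPP' hG
    have hfix : ((B : Matrix (Fin 2) (Fin 2) K).map ι).map σ = (B : Matrix (Fin 2) (Fin 2) K).map ι := by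
      ext i j
      simp only [Matrix.map_apply]
      rw [hσ, ← map_pow, ← hK, FiniteField.pow_card]
    have hdetB : ((B : Matrix (Fin 2) (Fin 2) K).map ι).det = 1 := by
      rw [← RingHom.mapMatrix_apply, ← RingHom.map_det, B.2, map_one]
    rw [hfix, Matrix.mul_smul, Matrix.smul_mul, transpose_J_mul, hdetB, one_smul]
  obtain ⟨Ψ, hΨ⟩ : ∃ Ψ : Matrix.SpecialLinearGroup (Fin 2) K →* Cfsg.SU 2 F q,
      ∀ B, ((Ψ B : Cfsg.SU 2 F q) : Matrix.SpecialLinearGroup (Fin 2) F) = conjHom P P⁻¹ hPP' hP'P ι B :=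
    ⟨(conjHom P P⁻¹ hPP' hP'P ι).codRestrict (Cfsg.SU 2 F q) hmem, fun _ => rfl⟩
  have hΨinj : Function.Injective Ψ := by
    intro B B' h
    apply conjHom_injective P P⁻¹ hPP' hP'P ι
    rw [← hΨ, ← hΨ, h]
  have hcardSU : Nat.card (Cfsg.SU 2 F q) = q * (q ^ 2 - 1) := by
    have h := Cfsg.Agent.S0278.result hF 2 (by norm_num)
    rw [Finset.prod_range_succ, Finset.prod_range_one] at h
    have e0 : Even 0 := ⟨0, rfl⟩
    rw [if_pos e0, if_neg Nat.not_even_one] at h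
    have h1 : 2 * (2 - 1) / 2 = 1 := by norm_num
    rw [h1, pow_one] at h
    have h3 : (q + 1) * Nat.card (Cfsg.SU 2 F q) = (q + 1) * (q * (q ^ 2 - 1)) := by
      rw [h]
      show q * ((q + 1) * (q ^ (1 + 1) - 1)) = (q + 1) * (q * (q ^ 2 - 1))
      ring
    exact Nat.eq_of_mul_eq_mul_left (by omega) h3
  have hcardSL : Nat.card (Matrix.SpecialLinearGroup (Fin 2) K) = q * (q ^ 2 - 1) := by
    rw [card_sl2, hK]
  have hbij : Function.Bijective Ψ :=
    (Nat.bijective_iff_injective_and_card Ψ).mpr ⟨hΨinj, by rw [hcardSL, hcardSU]⟩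
  exact ⟨(MulEquiv.ofBijective Ψ hbij).symm⟩

end Cfsg.Agent.S0281
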