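import Cfsg.Statements.S0284
import Cfsg.Agent.Lib.Lead.HermCount
import Mathlib

set_option autoImplicit false
open Cfsg

namespace Cfsg.Agent.S0284

open Finset Cfsg.Agent.Lib.Lead

/-- The standard Hermitian form on F^n, |F| = q^2, has exactly q^(n-1) (q^n - (-1)^n) vectors of norm 1. -/
theorem result {F : Type*} [Field F] [Fintype F] {q : ℕ} (hF : Fintype.card F = q ^ 2) (n : ℕ) : Nat.card {v : Fin n → F // Cfsg.hermForm n F q v v = 1} = (if Even n then q ^ (n - 1) * (q ^ n - 1) else q ^ (n - 1) * (q ^ n + 1)) := by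
  classical
  have hq := two_le_q hF
  have hcount := card_herm hF n (1 : F) (one_pow q)
  rw [if_neg one_ne_zero] at hcount
  have h1 : Nat.card {v : Fin n → F // Cfsg.hermForm n F q v v = 1} = (hermAB q n).2 := by
    rw [Nat.card_eq_fintype_card, Fintype.card_subtype, ← hcount]
    rfl
  rw [h1]
  obtain ⟨-, hB⟩ := hermAB_closed q hq n
  have hq0 : (q : ℤ) ≠ 0 := by exact_mod_cast (by omega : q ≠ 0)
  rcases Nat.eq_zero_or_pos n with rfl | hn
  · simp [hermAB]
  obtain ⟨k, rfl⟩ : ∃ k, n = k + 1 := ⟨n - 1, by omega⟩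
  have hpow : 1 ≤ q ^ (k + 1) := Nat.one_le_pow _ _ (by omega)
  rw [Nat.add_sub_cancel]
  split_ifs with he
  · rw [he.neg_one_pow] at hB
    apply Nat.cast_injective (R := ℤ)
    apply mul_left_cancel₀ hq0
    rw [hB]
    push_cast [Nat.cast_sub hpow]
    ring
  · rw [Nat.not_even_iff_odd] at he
    rw [he.neg_one_pow] at hB
    apply Nat.cast_injective (R := ℤ)
    apply mul_left_cancel₀ hq0
    rw [hB]
    push_cast
    ring

end Cfsg.Agent.S0284
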