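import Cfsg.Statements.S0290
import Cfsg.Agent.S0289
import Mathlib

set_option autoImplicit false
open Cfsg

namespace Cfsg.Agent.S0290

open Finset

/-- The minus-type quadratic form on F^(2m), m at least 1, has q^(2m-1) + q^(m-1) - q^m zeros (that is, (q^m + 1)(q^(m-1) - 1) non-zero isotropic vectors). -/
theorem result {F : Type*} [Field F] [Fintype F] {q : ℕ} (hF : Fintype.card F = q) (m : ℕ) (hm : 1 ≤ m) (a b : F) (hab : ∀ z₁ z₂ : F, z₁ ^ 2 + a * z₁ * z₂ + b * z₂ ^ 2 = 0 → z₁ = 0 ∧ z₂ = 0) : Nat.card {v : (Fin (m - 1) ⊕ Fin (m - 1)) ⊕ Fin 2 → F // Cfsg.quadFormMinus (m - 1) F a b v = 0} = q ^ (2 * m - 1) + q ^ (m - 1) - q ^ m := by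
  classical
  obtain ⟨k, rfl⟩ : ∃ k, m = k + 1 := ⟨m - 1, by omega⟩
  rw [Nat.add_sub_cancel]
  let N : (Fin 2 → F) → F := fun z => z 0 ^ 2 + a * z 0 * z 1 + b * z 1 ^ 2
  let e : {v : (Fin k ⊕ Fin k) ⊕ Fin 2 → F // Cfsg.quadFormMinus k F a b v = 0} ≃
      Σ z : Fin 2 → F, {w : Fin k ⊕ Fin k → F // Cfsg.quadFormPlus k F w = - N z} :=
    { toFun := fun v => ⟨fun i => v.1 (.inr i), ⟨fun i => v.1 (.inl i), by
        have := v.2
        simp only [Cfsg.quadFormMinus] at this
        simp only [Cfsg.quadFormPlus, N]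
        linear_combination this⟩⟩
      invFun := fun p => ⟨Sum.elim p.2.1 p.1, by
        have := p.2.2
        simp only [Cfsg.quadFormPlus, N] at this
        simp only [Cfsg.quadFormMinus, Sum.elim_inl, Sum.elim_inr]
        linear_combination this⟩
      left_inv := fun v => by
        apply Subtype.ext
        funext i
        rcases i with i | i <;> rfl
      right_inv := fun p => by
        rcases p with ⟨x, w, hw⟩
        rfl }
  rw [Nat.card_congr e, Nat.card_sigma]
  simp only [Cfsg.Agent.S0289.card_quadFormPlus, hF]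
  rw [Finset.sum_add_distrib, Finset.sum_const, Finset.card_univ, Fintype.card_fun, hF,
    Fintype.card_fin, smul_eq_mul]
  have h0 : ∑ z : Fin 2 → F, (if - N z = 0 then q ^ k else 0) = q ^ k := by
    rw [Finset.sum_eq_single (0 : Fin 2 → F)]
    · simp [N]
    · intro z _ hz
      have : - N z ≠ 0 := by
        rw [neg_ne_zero]
        intro h
        obtain ⟨h1, h2⟩ := hab _ _ h
        apply hz
        funext i
        fin_cases i
        · exact h1
        · exact h2
      rw [if_neg this]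
    · intro h; exact absurd (Finset.mem_univ _) h
  rw [h0]
  have hq : 1 ≤ q := by rw [← hF]; exact Fintype.card_pos
  rcases Nat.eq_zero_or_pos k with rfl | hk
  · simp
  · obtain ⟨j, rfl⟩ : ∃ j, k = j + 1 := ⟨k - 1, by omega⟩
    rw [Nat.add_sub_cancel]
    have h2 : 1 ≤ q ^ (j + 1) := Nat.one_le_pow _ _ hq
    have e1 : q ^ (2 * (j + 1 + 1) - 1) = q ^ (j + 1) * q ^ (j + 1 + 1) := by
      rw [← pow_add]; congr 1; omega
    have e2 : q ^ 2 * ((q ^ (j + 1) - 1) * q ^ j) = (q ^ (j + 1) - 1) * q ^ (j + 1 + 1) := by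
      rw [pow_succ q (j + 1), pow_succ q j]; ring
    rw [e1, e2]
    generalize q ^ (j + 1 + 1) = B at *
    generalize q ^ (j + 1) = A at *
    obtain ⟨c, rfl⟩ : ∃ c, A = c + 1 := ⟨A - 1, by omega⟩
    rw [Nat.add_sub_cancel]
    have h3 : (c + 1) * B = c * B + B := by ring
    rw [h3]
    omega

end Cfsg.Agent.S0290
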