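import Cfsg.Statements.S0291
import Cfsg.Agent.S0289
import Mathlib

set_option autoImplicit false
open Cfsg

namespace Cfsg.Agent.S0291

open Finset

/-- For q odd, the form x_0^2 + sum_{i<m} x_i y_i on F^(2m+1) has exactly q^(2m) zeros. -/
theorem result {F : Type*} [Field F] [Fintype F] {q : ℕ} (hF : Fintype.card F = q) (hodd : Odd q) (m : ℕ) : Nat.card {v : Unit ⊕ (Fin m ⊕ Fin m) → F // Cfsg.quadFormOdd m F v = 0} = q ^ (2 * m) := by
  classical
  let e : {v : Unit ⊕ (Fin m ⊕ Fin m) → F // Cfsg.quadFormOdd m F v = 0} ≃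
      Σ x : F, {w : Fin m ⊕ Fin m → F // Cfsg.quadFormPlus m F w = -x ^ 2} :=
    { toFun := fun v => ⟨v.1 (.inl ()), ⟨fun i => v.1 (.inr i), by
        have := v.2
        simp only [Cfsg.quadFormOdd] at this
        simp only [Cfsg.quadFormPlus]
        linear_combination this⟩⟩
      invFun := fun p => ⟨Sum.elim (fun _ => p.1) p.2.1, by
        have := p.2.2
        simp only [Cfsg.quadFormPlus] at this
        simp only [Cfsg.quadFormOdd, Sum.elim_inl, Sum.elim_inr]
        linear_combination this⟩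
      left_inv := fun v => by
        apply Subtype.ext
        funext i
        rcases i with ⟨⟩ | i <;> rfl
      right_inv := fun p => by
        rcases p with ⟨x, w, hw⟩
        rfl }
  rw [Nat.card_congr e, Nat.card_sigma]
  simp only [Cfsg.Agent.S0289.card_quadFormPlus, hF]
  rw [Finset.sum_add_distrib, Finset.sum_const, Finset.card_univ, hF, smul_eq_mul]
  have h0 : ∑ x : F, (if -x ^ 2 = 0 then q ^ m else 0) = q ^ m := by
    rw [Finset.sum_eq_single (0 : F)]
    · simp
    · intro x _ hx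
      have : -x ^ 2 ≠ 0 := by
        rw [neg_ne_zero]; exact pow_ne_zero 2 hx
      rw [if_neg this]
    · intro h; exact absurd (Finset.mem_univ _) h
  rw [h0]
  have hq : 1 ≤ q := by rw [← hF]; exact Fintype.card_pos
  rcases Nat.eq_zero_or_pos m with rfl | hm
  · simp
  · obtain ⟨k, rfl⟩ : ∃ k, m = k + 1 := ⟨m - 1, by omega⟩
    rw [Nat.add_sub_cancel]
    have h2 : 1 ≤ q ^ (k + 1) := Nat.one_le_pow _ _ hq
    have e1 : q ^ (2 * (k + 1)) = q ^ (k + 1) * q ^ (k + 1) := by rw [← pow_add]; congr 1; omega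
    have e2 : q * ((q ^ (k + 1) - 1) * q ^ k) = (q ^ (k + 1) - 1) * q ^ (k + 1) := by
      rw [pow_succ q k]; ring
    rw [e1, e2]
    generalize q ^ (k + 1) = A at *
    obtain ⟨a, rfl⟩ : ∃ a, A = a + 1 := ⟨A - 1, by omega⟩
    rw [Nat.add_sub_cancel]
    ring

end Cfsg.Agent.S0291
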