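import Cfsg.Statements.S0298
import Cfsg.Agent.S0292
import Cfsg.Agent.Lib.Lead.PSL2Orth
import Cfsg.Agent.Lib.Lead.SLn
import Cfsg.Agent.Lib.helper14.SL2Card

set_option autoImplicit false
open Cfsg

namespace Cfsg.Agent.S0298

open Cfsg.Agent.Lib.Lead Cfsg.Agent.Lib.Helper16 Matrix

theorem transvection_pow_four {F : Type*} [Field F] (h4 : (4 : F) ≠ 0) {i j : Fin 2} (h : i ≠ j)
    (c : F) :
    Matrix.SpecialLinearGroup.transvection h c =
      (Matrix.SpecialLinearGroup.transvection h (c / 4)) ^ 4 := by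
  have : c = c / 4 + c / 4 + c / 4 + c / 4 := by field_simp; ring
  conv_lhs => rw [this]
  rw [Matrix.SpecialLinearGroup.transvection_add, Matrix.SpecialLinearGroup.transvection_add,
    Matrix.SpecialLinearGroup.transvection_add]
  simp [pow_succ]

theorem index_omega3 {F : Type*} [Field F] [Fintype F] (h2 : (2 : F) ≠ 0) :
    (Cfsg.Omega F (Cfsg.quadFormOdd 1 F)).index = 4 := by
  have hcard : Fintype.card (Unit ⊕ (Fin 1 ⊕ Fin 1)) = 3 := by
    simp only [Fintype.card_sum, Fintype.card_fin, Fintype.card_unit]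
  have := RI.index_omega_general h2 (by rw [hcard]; omega) (qfOdd 1 F) (S0292.nondeg_odd h2 1)
  rw [qfOdd_coe] at this
  exact this

theorem range_le {F : Type*} [Field F] [Fintype F] (h2 : (2 : F) ≠ 0) :
    (PO3.rho (F := F)).range ≤ Cfsg.Omega F (Cfsg.quadFormOdd 1 F) := by
  have hidx := index_omega3 h2
  have h4 : (4 : F) ≠ 0 := by
    have : (4 : F) = 2 * 2 := by norm_num
    rw [this]; exact mul_ne_zero h2 h2
  rintro _ ⟨A, rfl⟩
  refine SL_transvection_induction
    (fun A => PO3.rho A ∈ Cfsg.Omega F (Cfsg.quadFormOdd 1 F)) ?_ ?_ A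
  · intro i j h c
    rw [transvection_pow_four h4 h c, map_pow, ← hidx]
    exact Subgroup.pow_index_mem _ _
  · intro A B hA hB
    rw [map_mul]; exact mul_mem hA hB

theorem card_center_le {F : Type*} [Field F] [Fintype F] :
    Nat.card ↥(Subgroup.center (Matrix.SpecialLinearGroup (Fin 2) F)) ≤ 2 := by
  classical
  have hsub : ((Subgroup.center (Matrix.SpecialLinearGroup (Fin 2) F) : Subgroup _) :
      Set (Matrix.SpecialLinearGroup (Fin 2) F)) ⊆ {1, -1} := by
    intro A hA
    rw [SetLike.mem_coe, Matrix.SpecialLinearGroup.mem_center_iff] at hA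
    obtain ⟨r, hr, hA⟩ := hA
    have hr2 : r ^ 2 = 1 := by simpa using hr
    rcases sq_eq_one_iff.mp hr2 with h | h
    · left
      apply Subtype.ext
      rw [← hA, h]; simp
    · right
      apply Subtype.ext
      rw [← hA, h, Matrix.SpecialLinearGroup.coe_neg, Matrix.SpecialLinearGroup.coe_one,
        Matrix.scalar_apply, ← Matrix.smul_one_eq_diagonal, neg_one_smul]
  have h1 : Nat.card ↥(Subgroup.center (Matrix.SpecialLinearGroup (Fin 2) F)) =
      ((Subgroup.center (Matrix.SpecialLinearGroup (Fin 2) F) : Subgroup _) :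
        Set (Matrix.SpecialLinearGroup (Fin 2) F)).ncard := rfl
  rw [h1]
  refine le_trans (Set.ncard_le_ncard hsub (Set.toFinite _)) ?_
  refine le_trans (Set.ncard_insert_le _ _) ?_
  rw [Set.ncard_singleton]

theorem card_SL2 {F : Type*} [Field F] [Fintype F] :
    Nat.card (Matrix.SpecialLinearGroup (Fin 2) F) ≤
      Nat.card ↥(PO3.rho (F := F)).range * 2 := by
  have h1 := Subgroup.card_eq_card_quotient_mul_card_subgroup (PO3.rho (F := F)).ker
  have h2 : Nat.card (Matrix.SpecialLinearGroup (Fin 2) F ⧸ (PO3.rho (F := F)).ker) =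
      Nat.card ↥(PO3.rho (F := F)).range :=
    Nat.card_congr (QuotientGroup.quotientKerEquivRange (PO3.rho (F := F))).toEquiv
  rw [h1, h2]
  apply Nat.mul_le_mul_left
  rw [PO3.ker_rho]
  exact card_center_le

theorem range_eq {F : Type*} [Field F] [Fintype F] (hodd : Odd (Fintype.card F)) :
    (PO3.rho (F := F)).range = Cfsg.Omega F (Cfsg.quadFormOdd 1 F) := by
  have h2 : (2 : F) ≠ 0 := S0292.two_ne_zero_of_odd rfl hodd
  have hGO := Cfsg.Agent.S0286.result (F := F) rfl hodd 1
  have hidx := index_omega3 h2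
  have h1 := Subgroup.card_mul_index (Cfsg.Omega F (Cfsg.quadFormOdd 1 F))
  rw [hidx, hGO] at h1
  have hsl := Cfsg.Agent.Lib.helper14.card_sl2 (F := F)
  have hle := card_SL2 (F := F)
  rw [hsl] at hle
  simp only [one_pow, pow_one, Finset.prod_range_one, zero_add, mul_one] at h1
  apply Subgroup.eq_of_le_of_card_ge (range_le h2)
  have : Nat.card ↥(Cfsg.Omega F (Cfsg.quadFormOdd 1 F)) * 2 ≤
      Nat.card ↥(PO3.rho (F := F)).range * 2 := by
    refine le_trans (le_of_eq ?_) hle
    have : Nat.card ↥(Cfsg.Omega F (Cfsg.quadFormOdd 1 F)) * 4 =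
        2 * (Fintype.card F * (Fintype.card F ^ 2 - 1)) := by rw [h1]; ring
    omega
  omega

/-- `PSL₂(F) ≃* Ω₃(F)` -/
noncomputable def pslEquivOmega {F : Type*} [Field F] [Fintype F] (hodd : Odd (Fintype.card F)) :
    Matrix.ProjectiveSpecialLinearGroup (Fin 2) F ≃* ↥(Cfsg.Omega F (Cfsg.quadFormOdd 1 F)) :=
  ((QuotientGroup.quotientMulEquivOfEq (PO3.ker_rho (F := F)).symm).trans
    (QuotientGroup.quotientKerEquivRange (PO3.rho (F := F)))).trans
    (MulEquiv.subgroupCongr (range_eq hodd))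

theorem center_omega {F : Type*} [Field F] [Fintype F] (hodd : Odd (Fintype.card F)) :
    Subgroup.center ↥(Cfsg.Omega F (Cfsg.quadFormOdd 1 F)) = ⊥ := by
  rw [eq_bot_iff]
  intro z hz
  rw [Subgroup.mem_bot]
  have h1 : (pslEquivOmega hodd).symm z ∈
      Subgroup.center (Matrix.ProjectiveSpecialLinearGroup (Fin 2) F) := by
    rw [Subgroup.mem_center_iff]
    intro y
    have := Subgroup.mem_center_iff.mp hz (pslEquivOmega hodd y)
    apply (pslEquivOmega hodd).injective
    rw [map_mul, map_mul, MulEquiv.apply_symm_apply]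
    exact this
  rw [PO3.center_psl2, Subgroup.mem_bot] at h1
  exact (MulEquiv.map_eq_one_iff _).mp h1

/-- PΩ_3(q) is isomorphic to PSL_2(q) for q odd. -/
theorem result {F : Type*} [Field F] [Fintype F] (hodd : Odd (Fintype.card F)) : Nonempty (Cfsg.POmega F (Cfsg.quadFormOdd 1 F) ≃* Matrix.ProjectiveSpecialLinearGroup (Fin 2) F) := by
  refine ⟨((QuotientGroup.quotientMulEquivOfEq (center_omega hodd)).trans
    QuotientGroup.quotientBot).trans (pslEquivOmega hodd).symm⟩

end Cfsg.Agent.S0298
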