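import Cfsg.Statements.S0304
import Cfsg.Agent.Lib.helper6.Symp
import Cfsg.Agent.Lib.Lead.OrthPlus
import Mathlib

set_option autoImplicit false
open Cfsg

namespace Cfsg.Agent.S0304

open Matrix Cfsg.Agent.Lib.helper6 Cfsg.Agent.Lib.Lead

variable {F : Type*} [Field F] {m : ℕ}

abbrev KK (m : ℕ) : Type := Fin m ⊕ Fin m
abbrev II (m : ℕ) : Type := Unit ⊕ (Fin m ⊕ Fin m)

theorem quadOdd_eq (x : II m → F) :
    Cfsg.quadFormOdd m F x = x (.inl ()) ^ 2 + Cfsg.quadFormPlus m F (x ∘ Sum.inr) := rfl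

theorem mem_iso_iff (g : GL (II m) F) :
    g ∈ Cfsg.isometryGroup F (Cfsg.quadFormOdd m F) ↔
      ∀ u, Cfsg.quadFormOdd m F ((g : Matrix (II m) (II m) F) *ᵥ u) = Cfsg.quadFormOdd m F u :=
  ⟨fun h u => h u u, fun h u _ => h u⟩

section char2
variable [CharP F 2]

theorem symp_eq_polar (u v : KK m → F) : Cfsg.sympForm m F u v = polarP F m u v := by
  rw [polarP_apply]
  unfold Cfsg.sympForm Matrix.J
  simp only [dotProduct, Fintype.sum_sum_type, Matrix.mulVec, Matrix.fromBlocks_apply₁₁,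
    Matrix.fromBlocks_apply₁₂, Matrix.fromBlocks_apply₂₁, Matrix.fromBlocks_apply₂₂,
    Matrix.zero_apply, zero_mul, Finset.sum_const_zero, zero_add, add_zero, Matrix.neg_apply,
    Matrix.one_apply, neg_mul, Finset.sum_neg_distrib, ite_mul, one_mul,
    Finset.sum_ite_eq, Finset.mem_univ, if_true, mul_neg, CharTwo.neg_eq]
  rw [← Finset.sum_add_distrib]

theorem quadOdd_add (x y : II m → F) :
    Cfsg.quadFormOdd m F (x + y) = Cfsg.quadFormOdd m F x + Cfsg.quadFormOdd m F y +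
      polarP F m (x ∘ Sum.inr) (y ∘ Sum.inr) := by
  rw [quadOdd_eq, quadOdd_eq, quadOdd_eq]
  have : (x + y) ∘ Sum.inr = x ∘ Sum.inr + y ∘ Sum.inr := rfl
  rw [this, quadP_add, Pi.add_apply, CharTwo.add_sq]; ring

/-- The standard basis vector `e₀`. -/
def e0 (F : Type*) [Field F] (m : ℕ) : II m → F := Pi.single (Sum.inl ()) 1

theorem e0_inr : (e0 F m) ∘ Sum.inr = 0 := by
  funext k; simp [e0]

theorem quadOdd_e0 : Cfsg.quadFormOdd m F (e0 F m) = 1 := by
  rw [quadOdd_eq, e0_inr]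
  simp [e0, Cfsg.quadFormPlus]

variable {M M' : Matrix (II m) (II m) F}

theorem polar_pres (hM : ∀ x, Cfsg.quadFormOdd m F (M *ᵥ x) = Cfsg.quadFormOdd m F x)
    (x y : II m → F) :
    polarP F m ((M *ᵥ x) ∘ Sum.inr) ((M *ᵥ y) ∘ Sum.inr) = polarP F m (x ∘ Sum.inr) (y ∘ Sum.inr) := by
  have h1 := quadOdd_add (M *ᵥ x) (M *ᵥ y)
  rw [← Matrix.mulVec_add, hM, hM, hM, quadOdd_add] at h1
  exact (add_left_cancel h1).symm

theorem col0_inr (hM : ∀ x, Cfsg.quadFormOdd m F (M *ᵥ x) = Cfsg.quadFormOdd m F x)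
    (hinv : M * M' = 1) : (M *ᵥ e0 F m) ∘ Sum.inr = 0 := by
  by_contra hne
  obtain ⟨y0, hy0⟩ := polarP_nondeg _ hne
  apply hy0
  let z : II m → F := Sum.elim 0 y0
  have hz : z ∘ Sum.inr = y0 := rfl
  have hMz : M *ᵥ (M' *ᵥ z) = z := by
    rw [Matrix.mulVec_mulVec, hinv, Matrix.one_mulVec]
  have := polar_pres hM (e0 F m) (M' *ᵥ z)
  rw [hMz, hz, e0_inr, map_zero, LinearMap.zero_apply] at this
  exact this

theorem col0_inl (hM : ∀ x, Cfsg.quadFormOdd m F (M *ᵥ x) = Cfsg.quadFormOdd m F x)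
    (hinv : M * M' = 1) : (M *ᵥ e0 F m) (Sum.inl ()) = 1 := by
  have h1 := hM (e0 F m)
  rw [quadOdd_e0, quadOdd_eq, col0_inr hM hinv] at h1
  have h0 : Cfsg.quadFormPlus m F (0 : KK m → F) = 0 := by simp [Cfsg.quadFormPlus]
  rw [h0, add_zero] at h1
  apply CharTwo.sq_injective (R := F)
  show (M *ᵥ e0 F m) (Sum.inl ()) ^ 2 = 1 ^ 2
  rw [h1, one_pow]

theorem mulVec_e0 (i : II m) : (M *ᵥ e0 F m) i = M i (Sum.inl ()) := by
  simp [e0, Matrix.mulVec_single_one]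

theorem block11 (hM : ∀ x, Cfsg.quadFormOdd m F (M *ᵥ x) = Cfsg.quadFormOdd m F x)
    (hinv : M * M' = 1) : M.toBlocks₁₁ = 1 := by
  ext i j
  have := col0_inl hM hinv
  rw [mulVec_e0] at this
  simp [Matrix.toBlocks₁₁, this]

theorem block21 (hM : ∀ x, Cfsg.quadFormOdd m F (M *ᵥ x) = Cfsg.quadFormOdd m F x)
    (hinv : M * M' = 1) : M.toBlocks₂₁ = 0 := by
  ext k j
  have := congrFun (col0_inr hM hinv) k
  simp only [Function.comp_apply, mulVec_e0, Pi.zero_apply] at this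
  simp [Matrix.toBlocks₂₁, this]

theorem M_eq (hM : ∀ x, Cfsg.quadFormOdd m F (M *ᵥ x) = Cfsg.quadFormOdd m F x)
    (hinv : M * M' = 1) : M = Matrix.fromBlocks 1 M.toBlocks₁₂ 0 M.toBlocks₂₂ := by
  conv_lhs => rw [← Matrix.fromBlocks_toBlocks M]
  rw [block11 hM hinv, block21 hM hinv]

theorem block22_symp (hM : ∀ x, Cfsg.quadFormOdd m F (M *ᵥ x) = Cfsg.quadFormOdd m F x)
    (hinv : M * M' = 1) : M.toBlocks₂₂ ∈ Matrix.symplecticGroup (Fin m) F := by
  rw [mem_symplecticGroup_iff_sympForm]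
  intro u v
  rw [symp_eq_polar, symp_eq_polar]
  have key : ∀ w : KK m → F, (M *ᵥ (Sum.elim 0 w : II m → F)) ∘ Sum.inr = M.toBlocks₂₂ *ᵥ w := by
    intro w
    conv_lhs => rw [M_eq hM hinv, Matrix.fromBlocks_mulVec]
    funext k
    simp
  have := polar_pres hM (Sum.elim 0 u : II m → F) (Sum.elim 0 v)
  rw [key, key] at this
  exact this

theorem top_row_sq (hM : ∀ x, Cfsg.quadFormOdd m F (M *ᵥ x) = Cfsg.quadFormOdd m F x)
    (hinv : M * M' = 1) (u : KK m → F) :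
    ((M.toBlocks₁₂ *ᵥ u) ()) ^ 2 =
      Cfsg.quadFormPlus m F u + Cfsg.quadFormPlus m F (M.toBlocks₂₂ *ᵥ u) := by
  have h1 := hM (Sum.elim 0 u : II m → F)
  have h2 : M *ᵥ (Sum.elim 0 u : II m → F) =
      Sum.elim (M.toBlocks₁₂ *ᵥ u) (M.toBlocks₂₂ *ᵥ u) := by
    conv_lhs => rw [M_eq hM hinv, Matrix.fromBlocks_mulVec]
    funext k
    rcases k with k | k <;> simp
  rw [h2, quadOdd_eq, quadOdd_eq] at h1
  simp only [Sum.elim_inl, Pi.zero_apply] at h1
  have h3 : (Sum.elim (M.toBlocks₁₂ *ᵥ u) (M.toBlocks₂₂ *ᵥ u) : II m → F) ∘ Sum.inr =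
      M.toBlocks₂₂ *ᵥ u := rfl
  have h4 : (Sum.elim (0 : Unit → F) u : II m → F) ∘ Sum.inr = u := rfl
  rw [h3, h4] at h1
  have h5 : ((0 : F)) ^ 2 = 0 := by simp
  rw [h5, zero_add] at h1
  rw [← h1]
  have := CharTwo.add_self_eq_zero (Cfsg.quadFormPlus m F (M.toBlocks₂₂ *ᵥ u))
  linear_combination -this

/-- The reduction homomorphism. -/
def Phi (F : Type*) [Field F] [CharP F 2] (m : ℕ) :
    Cfsg.isometryGroup F (Cfsg.quadFormOdd m F) →* Matrix.symplecticGroup (Fin m) F where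
  toFun g := ⟨(g.1 : Matrix (II m) (II m) F).toBlocks₂₂,
    block22_symp ((mem_iso_iff g.1).mp g.2) (Units.mul_inv g.1)⟩
  map_one' := by
    apply Subtype.ext
    show (1 : Matrix (II m) (II m) F).toBlocks₂₂ = 1
    ext i j
    simp [Matrix.toBlocks₂₂, Matrix.one_apply]
  map_mul' g h := by
    apply Subtype.ext
    show ((g.1 : Matrix (II m) (II m) F) * (h.1 : Matrix (II m) (II m) F)).toBlocks₂₂ =
      (g.1 : Matrix (II m) (II m) F).toBlocks₂₂ * (h.1 : Matrix (II m) (II m) F).toBlocks₂₂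
    conv_lhs => rw [M_eq ((mem_iso_iff g.1).mp g.2) (Units.mul_inv g.1),
      M_eq ((mem_iso_iff h.1).mp h.2) (Units.mul_inv h.1), Matrix.fromBlocks_multiply,
      Matrix.toBlocks_fromBlocks₂₂]
    simp

theorem Phi_injective : Function.Injective (Phi F m) := by
  intro g h hgh
  have hD : (g.1 : Matrix (II m) (II m) F).toBlocks₂₂ = (h.1 : Matrix (II m) (II m) F).toBlocks₂₂ :=
    congrArg Subtype.val hgh
  have hg := M_eq ((mem_iso_iff g.1).mp g.2) (Units.mul_inv g.1)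
  have hh := M_eq ((mem_iso_iff h.1).mp h.2) (Units.mul_inv h.1)
  have hB : (g.1 : Matrix (II m) (II m) F).toBlocks₁₂ = (h.1 : Matrix (II m) (II m) F).toBlocks₁₂ := by
    ext i k
    have h1 := top_row_sq ((mem_iso_iff g.1).mp g.2) (Units.mul_inv g.1) (Pi.single k 1)
    have h2 := top_row_sq ((mem_iso_iff h.1).mp h.2) (Units.mul_inv h.1) (Pi.single k 1)
    rw [hD, ← h2] at h1
    have h3 := CharTwo.sq_injective (R := F) h1
    simpa [Matrix.mulVec_single_one] using h3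
  apply Subtype.ext
  apply Units.ext
  rw [hg, hh, hD, hB]

section surj
variable [Finite F]

theorem exists_sqrt (c : F) : ∃ s : F, s ^ 2 = c :=
  (Finite.injective_iff_surjective.mp (CharTwo.sq_injective (R := F))) c

/-- The additive map `u ↦ Q₀ u + Q₀ (D u)` for symplectic `D`. -/
noncomputable def psi (D : Matrix (KK m) (KK m) F) (hD : D ∈ Matrix.symplecticGroup (Fin m) F) :
    (KK m → F) →+ F where
  toFun u := Cfsg.quadFormPlus m F u + Cfsg.quadFormPlus m F (D *ᵥ u)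
  map_zero' := by simp [Cfsg.quadFormPlus]
  map_add' u v := by
    have hs := (mem_symplecticGroup_iff_sympForm m D).mp hD u v
    rw [symp_eq_polar, symp_eq_polar] at hs
    rw [Matrix.mulVec_add, quadP_add, quadP_add, hs]
    have := CharTwo.add_self_eq_zero (polarP F m u v)
    linear_combination this

theorem psi_smul (D : Matrix (KK m) (KK m) F) (hD : D ∈ Matrix.symplecticGroup (Fin m) F)
    (c : F) (u : KK m → F) : psi D hD (c • u) = c ^ 2 * psi D hD u := by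
  show Cfsg.quadFormPlus m F (c • u) + Cfsg.quadFormPlus m F (D *ᵥ (c • u)) =
    c ^ 2 * (Cfsg.quadFormPlus m F u + Cfsg.quadFormPlus m F (D *ᵥ u))
  rw [Matrix.mulVec_smul, quadP_smul, quadP_smul]; ring

theorem psi_eq_sum (D : Matrix (KK m) (KK m) F) (hD : D ∈ Matrix.symplecticGroup (Fin m) F)
    (u : KK m → F) : psi D hD u = ∑ k, (u k) ^ 2 * psi D hD (Pi.single k 1) := by
  conv_lhs => rw [← Finset.univ_sum_single u, map_sum]
  refine Finset.sum_congr rfl (fun k _ => ?_)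
  have : (Pi.single k (u k) : KK m → F) = (u k) • Pi.single k 1 := by
    rw [← Pi.single_smul, smul_eq_mul, mul_one]
  rw [this, psi_smul]

theorem Phi_surjective : Function.Surjective (Phi F m) := by
  classical
  intro h
  set D : Matrix (KK m) (KK m) F := h.1 with hDdef
  have hD : D ∈ Matrix.symplecticGroup (Fin m) F := h.2
  choose sq hsq using fun k : KK m => exists_sqrt (psi D hD (Pi.single k 1))
  let B : Matrix Unit (KK m) F := Matrix.of fun _ k => sq k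
  let M : Matrix (II m) (II m) F := Matrix.fromBlocks 1 B 0 D
  have hBu : ∀ u : KK m → F, ((B *ᵥ u) ()) ^ 2 = psi D hD u := by
    intro u
    rw [psi_eq_sum]
    simp only [Matrix.mulVec, dotProduct, B, Matrix.of_apply]
    rw [CharTwo.sum_sq]
    refine Finset.sum_congr rfl (fun k _ => ?_)
    rw [mul_pow, hsq, mul_comm]
  have hMx : ∀ x, Cfsg.quadFormOdd m F (M *ᵥ x) = Cfsg.quadFormOdd m F x := by
    intro x
    have h2 : M *ᵥ x = Sum.elim (x ∘ Sum.inl + B *ᵥ (x ∘ Sum.inr)) (D *ᵥ (x ∘ Sum.inr)) := by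
      show Matrix.fromBlocks 1 B 0 D *ᵥ x = _
      rw [Matrix.fromBlocks_mulVec, Matrix.one_mulVec, Matrix.zero_mulVec, zero_add]
    rw [h2, quadOdd_eq, quadOdd_eq]
    have h3 : (Sum.elim (x ∘ Sum.inl + B *ᵥ (x ∘ Sum.inr)) (D *ᵥ (x ∘ Sum.inr)) : II m → F) ∘ Sum.inr =
        D *ᵥ (x ∘ Sum.inr) := rfl
    rw [h3]
    simp only [Sum.elim_inl, Pi.add_apply, Function.comp_apply]
    rw [CharTwo.add_sq, hBu]
    show x (Sum.inl ()) ^ 2 + (Cfsg.quadFormPlus m F (x ∘ Sum.inr) +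
      Cfsg.quadFormPlus m F (D *ᵥ (x ∘ Sum.inr))) + Cfsg.quadFormPlus m F (D *ᵥ (x ∘ Sum.inr)) = _
    have := CharTwo.add_self_eq_zero (Cfsg.quadFormPlus m F (D *ᵥ (x ∘ Sum.inr)))
    linear_combination this
  have hdet : IsUnit M.det := by
    show IsUnit (Matrix.fromBlocks 1 B 0 D).det
    rw [Matrix.det_fromBlocks_zero₂₁, Matrix.det_one, one_mul]
    exact SymplecticGroup.symplectic_det hD
  have hMu : IsUnit M := (Matrix.isUnit_iff_isUnit_det M).mpr hdet
  refine ⟨⟨hMu.unit, (mem_iso_iff _).mpr (by simpa using hMx)⟩, ?_⟩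
  apply Subtype.ext
  show (hMu.unit : Matrix (II m) (II m) F).toBlocks₂₂ = D
  rw [IsUnit.unit_spec]
  show (Matrix.fromBlocks 1 B 0 D).toBlocks₂₂ = D
  rw [Matrix.toBlocks_fromBlocks₂₂]

end surj

end char2

/-- Over a finite field of characteristic 2, the orthogonal group GO_{2m+1}(q) is isomorphic to Sp_{2m}(q). -/
theorem result {F : Type*} [Field F] [Fintype F] [CharP F 2] (m : ℕ) : Nonempty (Cfsg.isometryGroup F (Cfsg.quadFormOdd m F) ≃* Matrix.symplecticGroup (Fin m) F) :=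
  ⟨MulEquiv.ofBijective (Phi F m) ⟨Phi_injective, Phi_surjective⟩⟩

end Cfsg.Agent.S0304
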