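import Mathlib
import Cfsg.Statements.S0320
import Cfsg.Agent.Lib.helper3.CoxExch
import Cfsg.Agent.Lib.helper3.BNLen

set_option autoImplicit false
open Cfsg

namespace Cfsg.Agent.S0320

/-- The Weyl group `W = N / (B ⊓ N)` of a (B,N)-pair, with its distinguished involutions, is a Coxeter system. -/
theorem result {G : Type*} [Group G] (P : Cfsg.BNPair G)
    [hN : ((P.B ⊓ P.N).subgroupOf P.N).Normal] :
    ∃ (M : CoxeterMatrix P.S) (cs : CoxeterSystem M (P.N ⧸ (P.B ⊓ P.N).subgroupOf P.N)),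
      ∀ s : P.S, cs.simple s = QuotientGroup.mk (⟨(s : G), P.subset s.2⟩ : P.N) := by
  classical
  have E : Cfsg.Agent.Lib.helper3.ExchSys (Cfsg.Agent.Lib.helper3.TW P)
      (Cfsg.Agent.Lib.helper3.PsW P) :=
    ⟨Cfsg.Agent.Lib.helper3.TW_sq, Cfsg.Agent.Lib.helper3.TW_closure,
      Cfsg.Agent.Lib.helper3.PsW_A, Cfsg.Agent.Lib.helper3.PsW_B,
      Cfsg.Agent.Lib.helper3.PsW_C⟩
  obtain ⟨M, cs, h⟩ := Cfsg.Agent.Lib.helper3.coxeter_of_exch E
    (fun i : P.S => Cfsg.Agent.Lib.helper3.projG P (i : G))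
    (fun i => ⟨i, i.2, rfl⟩)
    (by
      rintro t ⟨g, hg, rfl⟩
      exact ⟨⟨g, hg⟩, rfl⟩)
    (by
      intro i j hij
      exact Subtype.ext (Cfsg.Agent.Lib.helper3.projG_inj_S i.2 j.2 hij))
  refine ⟨M, cs, ?_⟩
  intro s
  rw [h s]
  exact Cfsg.Agent.Lib.helper3.projG_of_mem (P.subset s.2)

end Cfsg.Agent.S0320
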