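import Cfsg.Statements.S0345
import Mathlib
import Cfsg.Agent.S0739
import Cfsg.Agent.S0740
import Cfsg.Agent.Lib.helper6.ZassReg
import Cfsg.Agent.Lib.helper6.ZassInvol
import Cfsg.Agent.Lib.helper6.SZi
import Cfsg.Agent.Lib.helper6.SZj

set_option autoImplicit false
open Cfsg

namespace Cfsg.Agent.S0345

/-- In a finite simple Zassenhaus group the stabiliser `H` of two points `a ≠ b` is cyclic, and some involution
interchanging `a` and `b` inverts every element of `H`. -/
theorem result {G Ω : Type*} [Group G] [Finite G] [MulAction G Ω] [Finite Ω]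
    (hZ : Cfsg.IsZassenhausGroup G Ω) [IsSimpleGroup G]
    {a b : Ω} (hab : a ≠ b) :
    IsCyclic ↥(MulAction.stabilizer G a ⊓ MulAction.stabilizer G b) ∧
      ∃ v : G, orderOf v = 2 ∧ v • a = b ∧ v • b = a ∧ ∀ h ∈ MulAction.stabilizer G a ⊓ MulAction.stabilizer G b, v * h * v⁻¹ = h⁻¹ := by
  classical
  letI : Fintype Ω := Fintype.ofFinite Ω
  have D := Cfsg.Agent.Lib.helper6.ZassNormal.ZData.of_zass hZ
  haveI := D.faithful
  rcases Nat.even_or_odd (Nat.card ↥(MulAction.stabilizer G a ⊓ MulAction.stabilizer G b))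
    with heven | hodd
  · have hcard := Cfsg.Agent.Lib.helper6.SZj.simple_even_half hZ hab heven
    haveI : Fact (Nat.Prime 2) := ⟨Nat.prime_two⟩
    obtain ⟨jH, hjH⟩ := exists_prime_orderOf_dvd_card' 2 heven.two_dvd
    set j : G := (jH : G) with hj
    have hjo : orderOf j = 2 := by rw [hj, Subgroup.orderOf_coe]; exact hjH
    have hjj : j * j = 1 := by
      have := pow_orderOf_eq_one j
      rwa [hjo, pow_two] at this
    have hj1 : j ≠ 1 := by
      intro h
      rw [h, orderOf_one] at hjo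
      omega
    have hjmem := jH.2
    rw [Subgroup.mem_inf, MulAction.mem_stabilizer_iff, MulAction.mem_stabilizer_iff] at hjmem
    obtain ⟨KG, -, kfix, kfpf, ktr, knorm⟩ :=
      Cfsg.Agent.Lib.helper6.ZassReg.kernel_data (fun h1 h2 => D.two h1 h2) D.three hab hj1
        hjmem.1 hjmem.2
    have Z : Cfsg.Agent.Lib.helper6.ZassPSL1.ZP G Ω a b KG j :=
      { two := fun h1 h2 => D.two h1 h2
        three := D.three
        hi0 := hab
        kfix := kfix
        kfpf := kfpf
        ktr := ktr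
        knorm := knorm
        hj1 := hj1
        hjj := hjj
        hji := hjmem.1
        hj0 := hjmem.2 }
    obtain ⟨hcyc, hsw⟩ := Cfsg.Agent.Lib.helper6.SZi.half_cyclic Z hcard
    refine ⟨hcyc, ?_⟩
    obtain ⟨s, hsa, hsb⟩ := D.two hab (Ne.symm hab)
    obtain ⟨hss, hinv⟩ := hsw s hsa hsb
    have hs1 : s ≠ 1 := by
      intro h
      rw [h, one_smul] at hsa
      exact hab hsa
    refine ⟨s, orderOf_eq_prime (by rw [pow_two]; exact hss) hs1, hsa, hsb, hinv⟩
  · have hnil : ∀ q : ℕ, q.Prime → q ∣ Nat.card ↥(MulAction.stabilizer G a ⊓ MulAction.stabilizer G b) →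
        ¬ ∃ N : Subgroup G, N.Normal ∧ N.index = q ^ (Nat.card G).factorization q := by
      intro q hq hqd
      have hq2 : q ≠ 2 := by
        rintro rfl
        exact (Nat.not_even_iff_odd.mpr hodd) (even_iff_two_dvd.mpr hqd)
      exact Cfsg.Agent.Lib.helper6.ZassInvol.no_compl hZ hab q hq hq2
        (hqd.trans (Subgroup.card_subgroup_dvd_card _))
    obtain ⟨hcyc, -, hinv⟩ := Cfsg.Agent.S0739.result hZ hab hodd hnil
    refine ⟨hcyc, ?_⟩
    obtain ⟨⟨s, hs2, hsa, hsb⟩, -, -⟩ := Cfsg.Agent.S0740.result hZ hab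
    exact ⟨s, hs2, hsa, hsb, hinv s hsa hsb⟩

end Cfsg.Agent.S0345
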