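import Mathlib
import Cfsg.Statements.S0354
import Cfsg.Agent.Lib.helper3.Steiner

set_option autoImplicit false
open Cfsg

namespace Cfsg.Agent.S0354

/-- In an S(5, 8, 24), each block is disjoint from exactly 30 blocks. -/
theorem result {α : Type*} [Fintype α] [DecidableEq α] (hα : Fintype.card α = 24) {B : Set (Finset α)} (hB : Cfsg.IsSteinerSystem 5 8 B) {b : Finset α} (hb : b ∈ B) : {c : Finset α | c ∈ B ∧ Disjoint b c}.ncard = 30 := by
  open Cfsg.Agent.Lib.helper3 in
  have e0 := steiner_inter_eq hB hb 0 (by norm_num)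
  open Cfsg.Agent.Lib.helper3 in
  have e1 := steiner_inter_eq hB hb 1 (by norm_num)
  open Cfsg.Agent.Lib.helper3 in
  have e2 := steiner_inter_eq hB hb 2 (by norm_num)
  open Cfsg.Agent.Lib.helper3 in
  have e3 := steiner_inter_eq hB hb 3 (by norm_num)
  open Cfsg.Agent.Lib.helper3 in
  have e4 := steiner_inter_eq hB hb 4 (by norm_num)
  open Cfsg.Agent.Lib.helper3 in
  have z5 := interCount_eq_zero hB hb (i := 5) (by norm_num) (by norm_num)
  open Cfsg.Agent.Lib.helper3 in
  have z6 := interCount_eq_zero hB hb (i := 6) (by norm_num) (by norm_num)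
  open Cfsg.Agent.Lib.helper3 in
  have z7 := interCount_eq_zero hB hb (i := 7) (by norm_num) (by norm_num)
  open Cfsg.Agent.Lib.helper3 in
  have s8 := interCount_self hB hb (by norm_num)
  simp only [Finset.sum_range_succ, Finset.sum_range_zero, hα, z5, z6, z7, s8] at e0 e1 e2 e3 e4
  norm_num [Nat.choose] at e0 e1 e2 e3 e4
  have hset : {c : Finset α | c ∈ B ∧ Disjoint b c} =
      ↑((Cfsg.Agent.Lib.helper3.blocks B).filter (fun c => (b ∩ c).card = 0)) := by
    ext c
    simp only [Set.mem_setOf_eq, Finset.coe_filter, Cfsg.Agent.Lib.helper3.mem_blocks,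
      Finset.card_eq_zero, Finset.disjoint_iff_inter_eq_empty]
  rw [hset, Set.ncard_coe_finset]
  show Cfsg.Agent.Lib.helper3.interCount B b 0 = 30
  omega

end Cfsg.Agent.S0354
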