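import Mathlib
import Cfsg.Statements.S0355
import Cfsg.Agent.Lib.helper3.Steiner

set_option autoImplicit false
open Cfsg

namespace Cfsg.Agent.S0355

/-- In a Steiner system S(4, 7, 23), two distinct blocks intersect in 1 or 3 points. -/
theorem result {α : Type*} [Fintype α] [DecidableEq α] (hα : Fintype.card α = 23) {B : Set (Finset α)} (hB : Cfsg.IsSteinerSystem 4 7 B) {b c : Finset α} (hb : b ∈ B) (hc : c ∈ B) (hbc : b ≠ c) : (b ∩ c).card = 1 ∨ (b ∩ c).card = 3 := by
  open Cfsg.Agent.Lib.helper3 in
  have e0 := steiner_inter_eq hB hb 0 (by norm_num)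
  open Cfsg.Agent.Lib.helper3 in
  have e1 := steiner_inter_eq hB hb 1 (by norm_num)
  open Cfsg.Agent.Lib.helper3 in
  have e2 := steiner_inter_eq hB hb 2 (by norm_num)
  open Cfsg.Agent.Lib.helper3 in
  have e3 := steiner_inter_eq hB hb 3 (by norm_num)
  open Cfsg.Agent.Lib.helper3 in
  have z4 := interCount_eq_zero hB hb (i := 4) (by norm_num) (by norm_num)
  open Cfsg.Agent.Lib.helper3 in
  have z5 := interCount_eq_zero hB hb (i := 5) (by norm_num) (by norm_num)
  open Cfsg.Agent.Lib.helper3 in
  have z6 := interCount_eq_zero hB hb (i := 6) (by norm_num) (by norm_num)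
  open Cfsg.Agent.Lib.helper3 in
  have s7 := interCount_self hB hb (by norm_num)
  open Cfsg.Agent.Lib.helper3 in
  have hpos := interCount_pos hB (b := b) hc
  have hlt : (b ∩ c).card < 4 := by
    by_contra h
    push Not at h
    exact hbc (Cfsg.Agent.Lib.helper3.steiner_eq_of_le_inter hB hb hc h).symm
  simp only [Finset.sum_range_succ, Finset.sum_range_zero, hα, z4, z5, z6, s7] at e0 e1 e2 e3
  norm_num [Nat.choose] at e0 e1 e2 e3
  generalize (b ∩ c).card = n at hpos hlt ⊢
  interval_cases n
  · exfalso; omega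
  · left; rfl
  · exfalso; omega
  · right; rfl

end Cfsg.Agent.S0355
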