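import Cfsg.Statements.S0385
import Cfsg.Agent.Lib.helper4.GolayOrth
import Cfsg.Agent.Lib.helper3.Golay
import Cfsg.Agent.Lib.helper3.GolaySteiner

set_option autoImplicit false
open Cfsg

namespace Cfsg.Agent.S0385

open Cfsg.Agent.Lib.helper4 Cfsg.Agent.Lib.helper3

theorem both_eq_inter_card (v w : GolayPt → ZMod 2) :
    both v w = (support₂ v ∩ support₂ w).card := by
  unfold both support₂
  congr 1
  ext i
  simp

theorem octad_dodecad_inter (o d : Finset GolayPt) (ho : o ∈ octads) (hd : d ∈ dodecads) :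
    (o ∩ d).card = 2 ∨ (o ∩ d).card = 4 ∨ (o ∩ d).card = 6 := by
  obtain ⟨⟨v, hv, rfl⟩, hvc⟩ := ho
  obtain ⟨⟨w, hw, rfl⟩, hwc⟩ := hd
  have h1 := hammingNorm_add v w
  rw [both_eq_inter_card] at h1
  have hv8 : hammingNorm v = 8 := hvc
  have hw12 : hammingNorm w = 12 := hwc
  have hsum : v + w ∈ golayCode := golayCode.add_mem hv hw
  have h2 := golay_weights (v + w) hsum
  have hle : (support₂ v ∩ support₂ w).card ≤ 8 := by
    calc (support₂ v ∩ support₂ w).card ≤ (support₂ v).card := Finset.card_le_card Finset.inter_subset_left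
      _ = 8 := hvc
  rw [hv8, hw12] at h1
  omega

theorem result (d : Finset Cfsg.GolayPt) (hd : d ∈ Cfsg.dodecads) : Cfsg.IsSteinerSystem 5 6 {h : Finset {p : Cfsg.GolayPt // p ∈ d} | ∃ o ∈ Cfsg.octads, (o ∩ d).card = 6 ∧ h = Finset.subtype (fun p => p ∈ d) o} := by
  refine ⟨?_, ?_⟩
  · rintro b ⟨o, ho, h6, rfl⟩
    rw [Finset.card_subtype, Finset.filter_mem_eq_inter]
    exact h6
  · intro s hs
    set s' : Finset GolayPt := s.map (Function.Embedding.subtype _) with hs'
    have hs'c : s'.card = 5 := by rw [hs', Finset.card_map]; exact hs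
    have hs'd : s' ⊆ d := by
      intro x hx
      rw [hs', Finset.mem_map] at hx
      obtain ⟨y, _, rfl⟩ := hx
      exact y.2
    obtain ⟨o, ⟨ho, hso⟩, huniq⟩ := octads_steiner.2 s' hs'c
    have h5 : 5 ≤ (o ∩ d).card := by
      rw [← hs'c]
      exact Finset.card_le_card (Finset.subset_inter hso hs'd)
    have h6 : (o ∩ d).card = 6 := by
      rcases octad_dodecad_inter o d ho hd with h | h | h <;> omega
    have hsub : ∀ o' : Finset GolayPt, s ⊆ Finset.subtype (fun p => p ∈ d) o' ↔ s' ⊆ o' := by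
      intro o'
      constructor
      · intro h x hx
        rw [hs', Finset.mem_map] at hx
        obtain ⟨y, hy, rfl⟩ := hx
        have := h hy
        rw [Finset.mem_subtype] at this
        exact this
      · intro h y hy
        rw [Finset.mem_subtype]
        apply h
        rw [hs', Finset.mem_map]
        exact ⟨y, hy, rfl⟩
    refine ⟨Finset.subtype (fun p => p ∈ d) o, ⟨⟨o, ho, h6, rfl⟩, (hsub o).mpr hso⟩, ?_⟩
    rintro b ⟨⟨o', ho', _, rfl⟩, hsb⟩
    have := huniq o' ⟨ho', (hsub o').mp hsb⟩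
    rw [this]

end Cfsg.Agent.S0385
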