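import Cfsg.Statements.S0398
import Cfsg.Prelude.Def_Spor_Conway
import Cfsg.Agent.Lib.helper4.LeechSign
import Cfsg.Agent.Lib.helper4.M24Stab

set_option autoImplicit false
open Cfsg

namespace Cfsg.Agent.S0398

open Cfsg.Agent.Lib.helper4

/-! ### some elements of the automorphism group -/

/-- coordinate permutation by an element of `M24` -/
def permE (π : Equiv.Perm GolayPt) (hπ : π ∈ M24) : Equiv.Perm leechLattice where
  toFun v := ⟨fun i => v.1 (π i), by
    have := v.2
    rw [mem_leechLattice_iff] at this ⊢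
    exact comp_mem_leechSet hπ this⟩
  invFun v := ⟨fun i => v.1 (π⁻¹ i), by
    have := v.2
    rw [mem_leechLattice_iff] at this ⊢
    exact comp_mem_leechSet (M24.inv_mem hπ) this⟩
  left_inv v := by
    apply Subtype.ext
    funext i
    show v.1 (π (π⁻¹ i)) = v.1 i
    simp
  right_inv v := by
    apply Subtype.ext
    funext i
    show v.1 (π⁻¹ (π i)) = v.1 i
    simp

theorem permE_mem (π : Equiv.Perm GolayPt) (hπ : π ∈ M24) : permE π hπ ∈ Co0 := by
  refine ⟨fun v w => rfl, fun v => ?_⟩
  show sqNorm (fun i => v.1 (π i)) = sqNorm v.1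
  unfold sqNorm
  exact Equiv.sum_comp π (fun j => v.1 j ^ 2)

theorem flip_flip (c : GolayPt → ZMod 2) (x : GolayPt → ℤ) : flip c (flip c x) = x := by
  funext i
  show (if c i ≠ 0 then -(if c i ≠ 0 then -x i else x i) else (if c i ≠ 0 then -x i else x i)) = x i
  split_ifs <;> simp

/-- sign changes on a codeword -/
def flipE (c : GolayPt → ZMod 2) (hc : c ∈ golayCode) : Equiv.Perm leechLattice where
  toFun v := ⟨flip c v.1, by
    have := v.2
    rw [mem_leechLattice_iff] at this ⊢
    exact flip_mem_leechSet hc this⟩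
  invFun v := ⟨flip c v.1, by
    have := v.2
    rw [mem_leechLattice_iff] at this ⊢
    exact flip_mem_leechSet hc this⟩
  left_inv v := Subtype.ext (flip_flip c v.1)
  right_inv v := Subtype.ext (flip_flip c v.1)

theorem flipE_mem (c : GolayPt → ZMod 2) (hc : c ∈ golayCode) : flipE c hc ∈ Co0 := by
  refine ⟨fun v w => ?_, fun v => ?_⟩
  · apply Subtype.ext
    funext i
    show (if c i ≠ 0 then -(v.1 i + w.1 i) else v.1 i + w.1 i)
      = (if c i ≠ 0 then -v.1 i else v.1 i) + (if c i ≠ 0 then -w.1 i else w.1 i)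
    split_ifs <;> ring
  · show sqNorm (flip c v.1) = sqNorm v.1
    unfold sqNorm
    apply Finset.sum_congr rfl
    intro i _
    show (if c i ≠ 0 then -v.1 i else v.1 i) ^ 2 = v.1 i ^ 2
    split_ifs <;> ring

theorem neg_mem_Co0 : Equiv.neg leechLattice ∈ Co0 := by
  refine ⟨fun v w => ?_, fun v => ?_⟩
  · show -(v + w) = -v + -w
    exact neg_add v w
  · show sqNorm (-(v : GolayPt → ℤ)) = sqNorm (v : GolayPt → ℤ)
    unfold sqNorm
    apply Finset.sum_congr rfl
    intro i _
    simp

/-- the vector `8 e_i` -/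
def ev (i : GolayPt) : leechLattice := ⟨(Pi.single i (8 : ℤ) : GolayPt → ℤ), by
  rw [mem_leechLattice_iff]
  apply Spor.mem_leechSet_of_const_mod_four _ 0 0 (Int.ModEq.refl _)
  · intro j
    show ((Pi.single i (8 : ℤ) : GolayPt → ℤ) j) % 4 = 0 % 4
    by_cases h : j = i
    · subst h; simp
    · rw [Pi.single_eq_of_ne h]
  · show (∑ j, (Pi.single i (8 : ℤ) : GolayPt → ℤ) j) % 8 = (4 * 0) % 8
    rw [Finset.sum_pi_single']
    simp⟩

theorem ev_val (i : GolayPt) : (ev i).1 = (Pi.single i (8 : ℤ) : GolayPt → ℤ) := rfl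

/-! ### properties of additive maps in `Co0` -/

theorem map_zero' (f : ↥Co0) : f.1 0 = 0 := by
  have := f.2.1 0 0
  rw [add_zero] at this
  exact left_eq_add.mp this

theorem map_neg' (f : ↥Co0) (v : leechLattice) : f.1 (-v) = -(f.1 v) := by
  have h1 := f.2.1 v (-v)
  rw [add_neg_cancel, map_zero'] at h1
  exact (neg_eq_of_add_eq_zero_right h1.symm).symm

/-- as an additive homomorphism -/
def toHom (f : ↥Co0) : leechLattice →+ leechLattice := AddMonoidHom.mk' f.1 f.2.1

theorem toHom_apply (f : ↥Co0) (v : leechLattice) : toHom f v = f.1 v := rfl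

/-- separation of points by codewords -/
theorem sep_aux : ∀ i j : GolayPt, i ≠ j → ∃ t : ZMod 23,
    (qrWord t i ≠ 0 ∧ qrWord t j = 0) ∨ (qrWord t i = 0 ∧ qrWord t j ≠ 0) := by
  decide +kernel

theorem sep (i j : GolayPt) (hij : i ≠ j) : ∃ c ∈ golayCode, c i ≠ 0 ∧ c j = 0 := by
  obtain ⟨t, h | h⟩ := sep_aux i j hij
  · exact ⟨qrWord t, Submodule.subset_span (Or.inl ⟨t, rfl⟩), h.1, h.2⟩
  · refine ⟨1 + qrWord t, golayCode.add_mem one_mem_golay
      (Submodule.subset_span (Or.inl ⟨t, rfl⟩)), ?_, ?_⟩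
    · rw [Pi.add_apply, Pi.one_apply, h.1]; decide
    · have h2 : qrWord t j = 1 := by
        rcases zmod2_cases_l (qrWord t j) with h' | h'
        · exact absurd h' h.2
        · exact h'
      rw [Pi.add_apply, Pi.one_apply, h2]; decide

/-- a central element maps `8 e_i` to a multiple of `e_i` -/
theorem central_supp (z : ↥Co0) (hz : ∀ f : ↥Co0, f * z = z * f) (i j : GolayPt) (hij : j ≠ i) :
    (z.1 (ev i)).1 j = 0 := by
  obtain ⟨c, hc, hci, hcj⟩ := sep i j (Ne.symm hij)
  have hcomm := hz ⟨flipE c hc, flipE_mem c hc⟩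
  have h1 : (flipE c hc) (z.1 (ev i)) = z.1 ((flipE c hc) (ev i)) := by
    have := congrArg (fun g : ↥Co0 => g.1 (ev i)) hcomm
    exact this
  have h2 : (flipE c hc) (ev i) = -(ev i) := by
    apply Subtype.ext
    funext k
    show (if c k ≠ 0 then -((Pi.single i (8 : ℤ) : GolayPt → ℤ) k)
        else (Pi.single i (8 : ℤ) : GolayPt → ℤ) k)
      = -((Pi.single i (8 : ℤ) : GolayPt → ℤ) k)
    by_cases hk : k = i
    · subst hk; rw [if_pos hci]
    · rw [Pi.single_eq_of_ne hk]; simp
  rw [h2, map_neg'] at h1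
  have h3 := congrArg (fun v : leechLattice => v.1 j) h1
  have h4 : (if c j ≠ 0 then -(z.1 (ev i)).1 j else (z.1 (ev i)).1 j) = -(z.1 (ev i)).1 j := h3
  rw [if_neg (by rw [hcj]; simp)] at h4
  omega

theorem central_val (z : ↥Co0) (hz : ∀ f : ↥Co0, f * z = z * f) (i : GolayPt) :
    (z.1 (ev i)).1 i = 8 ∨ (z.1 (ev i)).1 i = -8 := by
  have hn := z.2.2 (ev i)
  have h1 : sqNorm (z.1 (ev i)).1 = ((z.1 (ev i)).1 i) ^ 2 := by
    unfold sqNorm
    apply Finset.sum_eq_single i
    · intro j _ hj
      rw [central_supp z hz i j hj]; norm_num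
    · intro h; exact absurd (Finset.mem_univ i) h
  have h2 : sqNorm (ev i).1 = 64 := by
    unfold sqNorm
    rw [Finset.sum_eq_single i]
    · rw [ev_val, Pi.single_eq_same]; norm_num
    · intro j _ hj
      rw [ev_val, Pi.single_eq_of_ne hj]; norm_num
    · intro h; exact absurd (Finset.mem_univ i) h
  rw [h1, h2] at hn
  have h3 : ((z.1 (ev i)).1 i - 8) * ((z.1 (ev i)).1 i + 8) = 0 := by nlinarith
  rcases mul_eq_zero.1 h3 with h | h
  · left; omega
  · right; omega

theorem central_eq (z : ↥Co0) (hz : ∀ f : ↥Co0, f * z = z * f) (i : GolayPt) :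
    (z.1 (ev i)).1 = (Pi.single i ((z.1 (ev i)).1 i) : GolayPt → ℤ) := by
  funext j
  by_cases hj : j = i
  · subst hj; rw [Pi.single_eq_same]
  · rw [Pi.single_eq_of_ne hj, central_supp z hz i j hj]

theorem central_const (z : ↥Co0) (hz : ∀ f : ↥Co0, f * z = z * f) (i j : GolayPt) :
    (z.1 (ev i)).1 i = (z.1 (ev j)).1 j := by
  have := M24_pretransitive
  obtain ⟨g, hg⟩ := MulAction.exists_smul_eq (M := ↥M24) j i
  have hg' : g.1 j = i := hg
  have hcomm := hz ⟨permE g.1 g.2, permE_mem g.1 g.2⟩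
  have h1 : (permE g.1 g.2) (z.1 (ev i)) = z.1 ((permE g.1 g.2) (ev i)) := by
    have := congrArg (fun f : ↥Co0 => f.1 (ev i)) hcomm
    exact this
  have h2 : (permE g.1 g.2) (ev i) = ev j := by
    apply Subtype.ext
    funext k
    show (Pi.single i (8 : ℤ) : GolayPt → ℤ) (g.1 k) = (Pi.single j (8 : ℤ) : GolayPt → ℤ) k
    by_cases hk : k = j
    · subst hk; rw [hg', Pi.single_eq_same, Pi.single_eq_same]
    · have : g.1 k ≠ i := by
        intro h
        apply hk
        apply g.1.injective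
        rw [h, hg']
      rw [Pi.single_eq_of_ne hk, Pi.single_eq_of_ne this]
  rw [h2] at h1
  have h3 := congrArg (fun v : leechLattice => v.1 j) h1
  have h4 : (z.1 (ev i)).1 (g.1 j) = (z.1 (ev j)).1 j := h3
  rw [hg'] at h4
  exact h4

theorem eight_smul (v : leechLattice) : (8 : ℤ) • v = ∑ i, (v.1 i) • ev i := by
  apply Subtype.ext
  funext k
  rw [AddSubgroup.val_finsetSum, Finset.sum_apply]
  show (8 : ℤ) • v.1 k = ∑ i, ((v.1 i) • ev i).1 k
  have : ∀ i, ((v.1 i) • ev i).1 k = if i = k then v.1 k * 8 else 0 := by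
    intro i
    show (v.1 i) • ((Pi.single i (8 : ℤ) : GolayPt → ℤ) k) = _
    by_cases h : i = k
    · subst h; rw [if_pos rfl, Pi.single_eq_same]; rfl
    · rw [if_neg h, Pi.single_eq_of_ne (Ne.symm h)]; simp
  simp only [this]
  rw [Finset.sum_ite_eq' Finset.univ k, if_pos (Finset.mem_univ k)]
  simp [mul_comm]

theorem central_smul (z : ↥Co0) (hz : ∀ f : ↥Co0, f * z = z * f) (v : leechLattice) (k : GolayPt) :
    8 * (z.1 v).1 k = (z.1 (ev none)).1 none * v.1 k := by
  have h1 : toHom z ((8 : ℤ) • v) = (8 : ℤ) • toHom z v := map_zsmul _ _ _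
  rw [eight_smul v, map_sum] at h1
  have h2 := congrArg (fun w : leechLattice => w.1 k) h1
  simp only [AddSubgroup.val_finsetSum, Finset.sum_apply] at h2
  have h3 : ∀ i, (toHom z ((v.1 i) • ev i)).1 k
      = if i = k then v.1 k * (z.1 (ev none)).1 none else 0 := by
    intro i
    rw [map_zsmul, toHom_apply]
    show (v.1 i) • (z.1 (ev i)).1 k = _
    rw [central_eq z hz i]
    by_cases h : i = k
    · subst h
      rw [if_pos rfl, Pi.single_eq_same, central_const z hz i none]; rfl
    · rw [if_neg h, Pi.single_eq_of_ne (Ne.symm h)]; simp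
  rw [Finset.sum_congr rfl (fun i _ => h3 i), Finset.sum_ite_eq' Finset.univ k,
    if_pos (Finset.mem_univ k)] at h2
  have h4 : ((8 : ℤ) • toHom z v).1 k = 8 * (z.1 v).1 k := rfl
  rw [h4] at h2
  rw [← h2, mul_comm]

/-- The centre of the lattice's automorphism group has order 2. -/
theorem result : Nat.card (Subgroup.center Cfsg.Co0) = 2 := by
  set n : ↥Co0 := ⟨Equiv.neg leechLattice, neg_mem_Co0⟩ with hn
  have hncent : n ∈ Subgroup.center Co0 := by
    rw [Subgroup.mem_center_iff]
    intro f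
    apply Subtype.ext
    apply Equiv.ext
    intro v
    show f.1 (-v) = -(f.1 v)
    exact map_neg' f v
  have hn1 : n ≠ 1 := by
    intro h
    have h1 : n.1 (ev none) = ev none := by rw [h]; rfl
    have h2 := congrArg (fun w : leechLattice => w.1 none) h1
    have h3 : -((Pi.single (none : GolayPt) (8 : ℤ) : GolayPt → ℤ) none)
        = (Pi.single (none : GolayPt) (8 : ℤ) : GolayPt → ℤ) none := h2
    rw [Pi.single_eq_same] at h3
    norm_num at h3
  rw [Nat.card_eq_two_iff]
  refine ⟨⟨1, Subgroup.one_mem _⟩, ⟨n, hncent⟩, ?_, ?_⟩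
  · intro h
    exact hn1 (congrArg Subtype.val h).symm
  · apply Set.eq_univ_of_forall
    rintro ⟨z, hz⟩
    rw [Subgroup.mem_center_iff] at hz
    rcases central_val z hz none with h | h
    · left
      apply Subtype.ext
      show z = 1
      apply Subtype.ext
      apply Equiv.ext
      intro v
      apply Subtype.ext
      funext k
      have := central_smul z hz v k
      rw [h] at this
      show (z.1 v).1 k = v.1 k
      omega
    · right
      rw [Set.mem_singleton_iff]
      apply Subtype.ext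
      show z = n
      apply Subtype.ext
      apply Equiv.ext
      intro v
      apply Subtype.ext
      funext k
      have := central_smul z hz v k
      rw [h] at this
      show (z.1 v).1 k = -(v.1 k)
      omega

end Cfsg.Agent.S0398
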