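import Mathlib
import Cfsg.Statements.S0412
import Cfsg.Agent.Lib.helper3.StW24
import Cfsg.Agent.Lib.helper3.StAut
import Cfsg.Agent.Lib.helper3.GolaySteiner
import Cfsg.Agent.Lib.helper3.GolayCoset
import Cfsg.Agent.S0369
import Cfsg.Agent.S0365
import Cfsg.Agent.S0364
import Cfsg.Agent.S0366

set_option autoImplicit false
open Cfsg

namespace Cfsg.Agent.S0412

/-- Aut of an S(5, 8, 24) is simple of order 244823040 and 5-transitive on points. -/
theorem result {α : Type*} [Fintype α] [DecidableEq α] (hα : Fintype.card α = 24) {B : Set (Finset α)} (hB : Cfsg.IsSteinerSystem 5 8 B) : Cfsg.IsM24 (Cfsg.setSystemAut B) ∧ MulAction.IsMultiplyPretransitive (Cfsg.setSystemAut B) α 5 := by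
  have hiso : Cfsg.SetSystemIso Cfsg.octads B :=
    Cfsg.Agent.Lib.helper3.w24_iso Cfsg.Agent.Lib.helper3.card_golayPt hα
      Cfsg.Agent.Lib.helper3.octads_steiner hB
  obtain ⟨e, he⟩ := hiso
  obtain ⟨φ, hφ⟩ := Cfsg.Agent.Lib.helper3.aut_transfer e he
  have hM : Cfsg.M24 = Cfsg.setSystemAut Cfsg.octads := Cfsg.Agent.S0369.result
  have hsimple : IsSimpleGroup (Cfsg.setSystemAut Cfsg.octads) := hM ▸ Cfsg.Agent.S0365.result
  have hcard : Nat.card (Cfsg.setSystemAut Cfsg.octads) = 244823040 :=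
    hM ▸ Cfsg.Agent.S0364.result
  have htrans : MulAction.IsMultiplyPretransitive (Cfsg.setSystemAut Cfsg.octads) Cfsg.GolayPt 5 :=
    hM ▸ Cfsg.Agent.S0366.result
  refine ⟨⟨?_, ?_⟩, ?_⟩
  · exact φ.symm.isSimpleGroup
  · rw [← hcard]
    exact Nat.card_congr φ.symm.toEquiv
  · exact Cfsg.Agent.Lib.helper3.isMultiplyPretransitive_of_equiv φ e hφ 5 htrans

end Cfsg.Agent.S0412
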