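import Mathlib
import Cfsg.Statements.S0413
import Cfsg.Agent.Lib.helper3.StW23Aut
import Cfsg.Agent.S0409
import Cfsg.Agent.S0376
import Cfsg.Agent.S0377

set_option autoImplicit false
open Cfsg

namespace Cfsg.Agent.S0413

/-- Aut of an S(4, 7, 23) is simple of order 10200960 and 4-transitive. -/
theorem result {α : Type*} [Fintype α] [DecidableEq α] (hα : Fintype.card α = 23) {B : Set (Finset α)} (hB : Cfsg.IsSteinerSystem 4 7 B) : Cfsg.IsM23 (Cfsg.setSystemAut B) ∧ MulAction.IsMultiplyPretransitive (Cfsg.setSystemAut B) α 4 := by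
  have hc23 : Fintype.card {a : Cfsg.GolayPt // a ≠ none} = 23 :=
    Cfsg.Agent.Lib.helper3.card_ne_subtype Cfsg.Agent.Lib.helper3.card_golayPt none
  obtain ⟨e, he⟩ : Cfsg.SetSystemIso (Cfsg.Agent.Lib.helper3.derived Cfsg.octads (none : Cfsg.GolayPt)) B :=
    Cfsg.Agent.S0409.result hc23 hα Cfsg.Agent.Lib.helper3.w23_model hB
  obtain ⟨φ, hφ⟩ := Cfsg.Agent.Lib.helper3.aut_transfer e he
  have hM : Cfsg.M24 = Cfsg.setSystemAut Cfsg.octads := Cfsg.Agent.S0369.result
  have hsimple : IsSimpleGroup (MulAction.stabilizer (Cfsg.setSystemAut Cfsg.octads) (none : Cfsg.GolayPt)) := by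
    have h := Cfsg.Agent.S0377.result none
    rwa [hM] at h
  have hcard : Nat.card (MulAction.stabilizer (Cfsg.setSystemAut Cfsg.octads) (none : Cfsg.GolayPt)) = 10200960 := by
    have h := Cfsg.Agent.S0376.result none
    rwa [hM] at h
  let ψ := (Cfsg.Agent.Lib.helper3.w23AutEquiv none).trans φ
  refine ⟨⟨?_, ?_⟩, ?_⟩
  · exact ψ.symm.isSimpleGroup
  · rw [← hcard]
    exact Nat.card_congr ψ.symm.toEquiv
  · exact Cfsg.Agent.Lib.helper3.isMultiplyPretransitive_of_equiv φ e hφ 4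
      (Cfsg.Agent.Lib.helper3.w23_model_four none)

end Cfsg.Agent.S0413
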