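import Cfsg.Statements.S0427
import Cfsg.Agent.Lib.helper2.Stn22

set_option autoImplicit false
open Cfsg

namespace Cfsg.Agent.S0427

open Cfsg

open Cfsg.Agent.Lib.helper3 Cfsg.Agent.Lib.helper2 in


/-- The block graph (adjacent = disjoint) of an S(3, 6, 22) is strongly regular with parameters (77, 16, 0, 4). -/
theorem result {α : Type*} [Fintype α] (hα : Fintype.card α = 22) {B : Set (Finset α)} (hB : Cfsg.IsSteinerSystem 3 6 B) [Fintype B] [DecidableRel (Cfsg.blockGraph B).Adj] : (Cfsg.blockGraph B).IsSRGWith 77 16 0 4 := by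
  classical
  refine ⟨stn22_card_type hα hB, ?_, ?_, ?_⟩
  · intro v
    rw [← SimpleGraph.card_neighborSet_eq_degree,
      stn22_card_set _ (fun c => Disjoint (v : Finset α) c)
        (fun x => by rw [SimpleGraph.mem_neighborSet, stn22_adj_iff hB])]
    exact stn22_disjoint_count hα hB v.2
  · intro v w hvw
    rw [stn22_adj_iff hB] at hvw
    rw [stn22_card_set _ (fun c => Disjoint (v : Finset α) c ∧ Disjoint (w : Finset α) c)
        (fun x => by rw [SimpleGraph.mem_commonNeighbors, stn22_adj_iff hB, stn22_adj_iff hB]),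
      stn22_common_disjoint hα hB v.2 w.2 (stn22_disjoint_ne hB v.2 hvw),
      Finset.disjoint_iff_inter_eq_empty.1 hvw]
    rfl
  · intro v w hne hvw
    rw [stn22_adj_iff hB] at hvw
    have hne' : (v : Finset α) ≠ w := fun h => hne (Subtype.ext h)
    have h2 : ((v : Finset α) ∩ w).card = 2 := by
      rcases stn22_inter hα hB v.2 w.2 hne' with h | h
      · exfalso; apply hvw
        rw [Finset.disjoint_iff_inter_eq_empty, ← Finset.card_eq_zero]; exact h
      · exact h
    rw [stn22_card_set _ (fun c => Disjoint (v : Finset α) c ∧ Disjoint (w : Finset α) c)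
        (fun x => by rw [SimpleGraph.mem_commonNeighbors, stn22_adj_iff hB, stn22_adj_iff hB]),
      stn22_common_disjoint hα hB v.2 w.2 hne', h2]

end Cfsg.Agent.S0427
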