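import Mathlib
import Cfsg.Statements.S0430
import Cfsg.Agent.Lib.helper3.HSUnique

set_option autoImplicit false
open Cfsg

namespace Cfsg.Agent.S0430

/-- Uniqueness of the strongly regular graph with parameters (100, 22, 0, 6). -/
theorem result {V W : Type*} [Fintype V] [Fintype W] {G : SimpleGraph V} {H : SimpleGraph W} [DecidableRel G.Adj] [DecidableRel H.Adj] (hG : G.IsSRGWith 100 22 0 6) (hH : H.IsSRGWith 100 22 0 6) : Nonempty (G ≃g H) := by
  classical
  have hG' := Cfsg.Agent.Lib.helper3.isHS100_of_srg G hG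
  have hH' := Cfsg.Agent.Lib.helper3.isHS100_of_srg H hH
  have hV : Nonempty V := by
    apply Fintype.card_pos_iff.mp
    rw [hG.card]
    norm_num
  have hW : Nonempty W := by
    apply Fintype.card_pos_iff.mp
    rw [hH.card]
    norm_num
  obtain ⟨v0⟩ := hV
  obtain ⟨w0⟩ := hW
  have hα := Cfsg.Agent.Lib.helper3.hsN_card_coe hG' v0
  have hB := Cfsg.Agent.Lib.helper3.hsSys_steiner hG' v0
  obtain ⟨φ1, _⟩ := Cfsg.Agent.Lib.helper3.hs_pointed hα hB hG' v0
  obtain ⟨φ2, _⟩ := Cfsg.Agent.Lib.helper3.hs_pointed hα hB hH' w0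
  exact ⟨φ1.trans φ2.symm⟩

end Cfsg.Agent.S0430
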