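import Cfsg.Statements.S0433
import Cfsg.Agent.Lib.helper4.LeechSign

set_option autoImplicit false
open Cfsg

namespace Cfsg.Agent.S0433

/-- Sign changes on the support of a codeword preserve the lattice. -/
theorem result (c : Finset Cfsg.GolayPt) (hc : c ∈ Cfsg.supports (Cfsg.golayCode : Set (Cfsg.GolayPt → ZMod 2))) (x : Cfsg.GolayPt → ℤ) (hx : x ∈ Cfsg.leechLattice) : (fun i => if i ∈ c then -x i else x i) ∈ Cfsg.leechLattice := by
  rw [Cfsg.Agent.Lib.helper4.mem_leechLattice_iff] at *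
  obtain ⟨wc, hwc, rfl⟩ := hc
  have h := Cfsg.Agent.Lib.helper4.flip_mem_leechSet hwc hx
  have heq : (fun i => if i ∈ Cfsg.support₂ wc then -x i else x i) = Cfsg.Agent.Lib.helper4.flip wc x := by
    funext i
    unfold Cfsg.Agent.Lib.helper4.flip
    have : i ∈ Cfsg.support₂ wc ↔ wc i ≠ 0 := by
      simp only [Cfsg.support₂, Finset.mem_filter, Finset.mem_univ, true_and]
    by_cases hi : wc i ≠ 0
    · rw [if_pos hi, if_pos (this.mpr hi)]
    · rw [if_neg hi, if_neg (fun h => hi (this.mp h))]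
  rw [heq]
  exact h

end Cfsg.Agent.S0433
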