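import Cfsg.Statements.S0436

set_option autoImplicit false
open Cfsg

namespace Cfsg.Agent.S0436

theorem mul_self_of_order {G : Type*} [Group G] {d : G} (h : orderOf d = 2) : d * d = 1 := by
  have := pow_orderOf_eq_one d
  rw [h, pow_two] at this
  exact this

theorem cancel_left {G : Type*} [Group G] {d : G} (h : d * d = 1) (x : G) : d * (d * x) = x := by
  rw [← mul_assoc, h, one_mul]

theorem commute_of_sq {G : Type*} [Group G] {d e : G} (hd : d * d = 1) (he : e * e = 1)
    (h : (e * d) ^ 2 = 1) : Commute e d := by
  have h1 : e * d * (e * d) = 1 := by rw [← pow_two]; exact h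
  have h2 : e * d = (e * d)⁻¹ := eq_inv_of_mul_eq_one_left h1
  have h3 : (d * e) * (e * d) = 1 := by
    simp only [mul_assoc, cancel_left he, hd]
  have h4 : d * e = (e * d)⁻¹ := eq_inv_of_mul_eq_one_left h3
  show e * d = d * e
  rw [h4, ← h2]

theorem braid_of_cube {G : Type*} [Group G] {d e : G} (hd : d * d = 1) (he : e * e = 1)
    (h : (e * d) ^ 3 = 1) : e * d * e = d * e * d := by
  have h1 : (e * d * e) * (d * e * d) = 1 := by
    have : (e * d) ^ 3 = e * d * e * (d * e * d) := by
      simp only [pow_succ, pow_zero, one_mul, mul_assoc]
    rw [← this]; exact h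
  have h2 : (d * e * d) * (d * e * d) = 1 := by
    simp only [mul_assoc, cancel_left hd, cancel_left he, hd]
  rw [eq_inv_of_mul_eq_one_left h1]
  exact (eq_inv_of_mul_eq_one_left h2).symm

theorem result {G : Type*} [Group G] {E : Set G} (hE : Cfsg.IsThreeTranspositionSet E) {a b e : G} (ha : a ∈ E) (hb : b ∈ E) (he : e ∈ E) (hab : a ≠ b) (hcomm : Commute a b) : Commute e (a * b) ↔ (Commute e a ∧ Commute e b) := by
  have haa := mul_self_of_order (hE.1 a ha)
  have hbb := mul_self_of_order (hE.1 b hb)
  have hee := mul_self_of_order (hE.1 e he)
  constructor
  · intro h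
    have h' : e * (a * b) = a * b * e := h
    rcases hE.2 e he a ha with h2a | h3a
    · have hea : Commute e a := commute_of_sq haa hee h2a
      refine ⟨hea, ?_⟩
      have : e * b = b * e := by
        have hea' : e * a = a * e := hea
        have : a * (e * b) = a * (b * e) := by
          rw [← mul_assoc, ← hea', mul_assoc, h', mul_assoc]
        exact mul_left_cancel this
      exact this
    · rcases hE.2 e he b hb with h2b | h3b
      · have heb : Commute e b := commute_of_sq hbb hee h2b
        refine ⟨?_, heb⟩
        have heb' : e * b = b * e := heb
        have hab' : a * b = b * a := hcomm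
        have : b * (e * a) = b * (a * e) := by
          rw [← mul_assoc, ← heb', mul_assoc, ← mul_assoc b a e, ← hab', ← h', hab']
        exact mul_left_cancel this
      · exfalso
        have ba := braid_of_cube haa hee h3a
        have bb := braid_of_cube hbb hee h3b
        have h1 : a * b = 1 := by
          calc a * b = (e * a * e) * (e * b * e) := by
                simp only [mul_assoc, cancel_left hee]
                rw [← mul_assoc a b e, ← h']
                simp only [mul_assoc, cancel_left hee]
            _ = (a * e * a) * (b * e * b) := by rw [ba, bb]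
            _ = a * e * (a * b * e) * b := by simp only [mul_assoc]
            _ = a * e * (e * (a * b)) * b := by rw [h']
            _ = 1 := by simp only [mul_assoc, cancel_left hee, cancel_left haa, hbb, haa]
        apply hab
        have : a * b = b * b := by rw [h1, hbb]
        exact mul_right_cancel this
  · rintro ⟨h1, h2⟩
    exact h1.mul_right h2

end Cfsg.Agent.S0436
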