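import Cfsg.Statements.S0437

set_option autoImplicit false
open Cfsg

namespace Cfsg.Agent.S0437

theorem mul_self_of_order {G : Type*} [Group G] {d : G} (h : orderOf d = 2) : d * d = 1 := by
  have := pow_orderOf_eq_one d
  rw [h, pow_two] at this
  exact this

theorem cancel_left {G : Type*} [Group G] {d : G} (h : d * d = 1) (x : G) : d * (d * x) = x := by
  rw [← mul_assoc, h, one_mul]

theorem commute_of_sq {G : Type*} [Group G] {d e : G} (hd : d * d = 1) (he : e * e = 1)
    (h : (e * d) ^ 2 = 1) : e * d = d * e := by
  have h1 : e * d * (e * d) = 1 := by rw [← pow_two]; exact h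
  have h2 : e * d = (e * d)⁻¹ := eq_inv_of_mul_eq_one_left h1
  have h3 : (d * e) * (e * d) = 1 := by
    simp only [mul_assoc, cancel_left he, hd]
  have h4 : d * e = (e * d)⁻¹ := eq_inv_of_mul_eq_one_left h3
  rw [h4, ← h2]

theorem braid_of_cube {G : Type*} [Group G] {d e : G} (hd : d * d = 1) (he : e * e = 1)
    (h : (e * d) ^ 3 = 1) : e * d * e = d * e * d := by
  have h1 : (e * d * e) * (d * e * d) = 1 := by
    have : (e * d) ^ 3 = e * d * e * (d * e * d) := by
      simp only [pow_succ, pow_zero, one_mul, mul_assoc]
    rw [← this]; exact h
  have h2 : (d * e * d) * (d * e * d) = 1 := by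
    simp only [mul_assoc, cancel_left hd, cancel_left he, hd]
  rw [eq_inv_of_mul_eq_one_left h1]
  exact (eq_inv_of_mul_eq_one_left h2).symm

theorem two {G : Type*} [Group G] {a b e : G} (haa : a * a = 1) (hbb : b * b = 1) (hee : e * e = 1)
    (hab : a ≠ b) (hcomm : a * b = b * a)
    (ha : (e * a) ^ 2 = 1 ∨ (e * a) ^ 3 = 1) (hb : (e * b) ^ 2 = 1 ∨ (e * b) ^ 3 = 1)
    (h' : e * (a * b) = a * b * e) : e * a = a * e ∧ e * b = b * e := by
  rcases ha with h2a | h3a
  · have hea' : e * a = a * e := commute_of_sq haa hee h2a
    refine ⟨hea', ?_⟩
    have : a * (e * b) = a * (b * e) := by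
      rw [← mul_assoc, ← hea', mul_assoc, h', mul_assoc]
    exact mul_left_cancel this
  · rcases hb with h2b | h3b
    · have heb' : e * b = b * e := commute_of_sq hbb hee h2b
      refine ⟨?_, heb'⟩
      have : b * (e * a) = b * (a * e) := by
        rw [← mul_assoc, ← heb', mul_assoc, ← mul_assoc b a e, ← hcomm, ← h', hcomm]
      exact mul_left_cancel this
    · exfalso
      have ba := braid_of_cube haa hee h3a
      have bb := braid_of_cube hbb hee h3b
      have h1 : a * b = 1 := by
        calc a * b = (e * a * e) * (e * b * e) := by
              simp only [mul_assoc, cancel_left hee]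
              rw [← mul_assoc a b e, ← h']
              simp only [cancel_left hee]
          _ = (a * e * a) * (b * e * b) := by rw [ba, bb]
          _ = a * e * (a * b * e) * b := by simp only [mul_assoc]
          _ = a * e * (e * (a * b)) * b := by rw [h']
          _ = 1 := by simp only [mul_assoc, cancel_left hee, cancel_left haa, hbb]
      apply hab
      have : a * b = b * b := by rw [h1, hbb]
      exact mul_right_cancel this

theorem star {G : Type*} [Group G] {a b c x : G} (haa : a * a = 1) (hbb : b * b = 1) (hcc : c * c = 1)
    (hxx : x * x = 1) (h₁ : a * b = b * a) (h₂ : a * c = c * a) (h₃ : b * c = c * b)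
    (ba : x * a * x = a * x * a) (bb : x * b * x = b * x * b) (bc : x * c * x = c * x * c)
    (h : x * (a * b * c) = a * b * c * x) : x * (a * b) * x = b * x * c * b := by
  have e1 : (a * x * a) * (b * x * b) * (c * x * c) = a * b * c := by
    rw [← ba, ← bb, ← bc]
    calc (x * a * x) * (x * b * x) * (x * c * x) = x * (a * b * c) * x := by
          simp only [mul_assoc, cancel_left hxx]
      _ = a * b * c * x * x := by rw [h]
      _ = a * b * c := by rw [mul_assoc, hxx, mul_one]
  have e2 : x * (a * b) * x * (b * c) * x = b := by
    calc x * (a * b) * x * (b * c) * x = a * ((a * x * a) * (b * x * b) * (c * x * c)) * c := by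
          simp only [mul_assoc, cancel_left haa, cancel_left hcc, hcc, mul_one]
      _ = a * (a * b * c) * c := by rw [e1]
      _ = b := by simp only [mul_assoc, cancel_left haa, hcc, mul_one]
  calc x * (a * b) * x = (x * (a * b) * x * (b * c) * x) * (x * c * b) := by
        simp only [mul_assoc, cancel_left hxx, cancel_left hcc, cancel_left hbb, hbb, hxx, hcc, mul_one]
    _ = b * (x * c * b) := by rw [e2]
    _ = b * x * c * b := by simp only [mul_assoc]

theorem three {G : Type*} [Group G] {a b c x : G} (haa : a * a = 1) (hbb : b * b = 1) (hcc : c * c = 1)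
    (hxx : x * x = 1) (h₁ : a * b = b * a) (h₂ : a * c = c * a) (h₃ : b * c = c * b)
    (ba : x * a * x = a * x * a) (bb : x * b * x = b * x * b) (bc : x * c * x = c * x * c)
    (h : x * (a * b * c) = a * b * c * x) : a = b := by
  have s1 := star haa hbb hcc hxx h₁ h₂ h₃ ba bb bc h
  have h' : x * (b * a * c) = b * a * c * x := by rw [← h₁]; exact h
  have s2 := star hbb haa hcc hxx h₁.symm h₃ h₂ bb ba bc h'
  rw [← h₁] at s2
  have e : b * x * c * b = a * x * c * a := s1.symm.trans s2
  have e' : b * x * b = a * x * a := by
    have : b * x * b * c = a * x * a * c := by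
      calc b * x * b * c = b * x * c * b := by simp only [mul_assoc, h₃]
        _ = a * x * c * a := e
        _ = a * x * a * c := by simp only [mul_assoc, h₂]
    exact mul_right_cancel this
  rw [← bb, ← ba] at e'
  have := mul_right_cancel e'
  exact (mul_left_cancel this).symm

theorem result {G : Type*} [Group G] {E : Set G} (hE : Cfsg.IsThreeTranspositionSet E) {a b c e : G} (ha : a ∈ E) (hb : b ∈ E) (hc : c ∈ E) (he : e ∈ E) (hab : a ≠ b) (hac : a ≠ c) (hbc : b ≠ c) (h₁ : Commute a b) (h₂ : Commute a c) (h₃ : Commute b c) : Commute e (a * b * c) ↔ (Commute e a ∧ Commute e b ∧ Commute e c) := by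
  have haa := mul_self_of_order (hE.1 a ha)
  have hbb := mul_self_of_order (hE.1 b hb)
  have hcc := mul_self_of_order (hE.1 c hc)
  have hee := mul_self_of_order (hE.1 e he)
  have k₁ : a * b = b * a := h₁
  have k₂ : a * c = c * a := h₂
  have k₃ : b * c = c * b := h₃
  constructor
  · intro h
    have h' : e * (a * b * c) = a * b * c * e := h
    have ea := hE.2 e he a ha
    have eb := hE.2 e he b hb
    have ec := hE.2 e he c hc
    by_cases ca : e * a = a * e
    · have hbc' : e * (b * c) = b * c * e := by
        have : a * (e * (b * c)) = a * (b * c * e) := by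
          calc a * (e * (b * c)) = e * (a * b * c) := by
                rw [← mul_assoc, ← ca]; simp only [mul_assoc]
            _ = a * b * c * e := h'
            _ = a * (b * c * e) := by simp only [mul_assoc]
        exact mul_left_cancel this
      obtain ⟨r1, r2⟩ := two hbb hcc hee hbc k₃ eb ec hbc'
      exact ⟨ca, r1, r2⟩
    · by_cases cb : e * b = b * e
      · have hac' : e * (a * c) = a * c * e := by
          have : b * (e * (a * c)) = b * (a * c * e) := by
            calc b * (e * (a * c)) = e * (a * b * c) := by
                  rw [← mul_assoc, ← cb, k₁]; simp only [mul_assoc]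
              _ = a * b * c * e := h'
              _ = b * (a * c * e) := by rw [k₁]; simp only [mul_assoc]
          exact mul_left_cancel this
        obtain ⟨r1, r2⟩ := two haa hcc hee hac k₂ ea ec hac'
        exact ⟨r1, cb, r2⟩
      · by_cases cc : e * c = c * e
        · have hab' : e * (a * b) = a * b * e := by
            have : e * (a * b) * c = a * b * e * c := by
              calc e * (a * b) * c = e * (a * b * c) := by simp only [mul_assoc]
                _ = a * b * c * e := h'
                _ = a * b * e * c := by rw [mul_assoc, ← cc]; simp only [mul_assoc]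
            exact mul_right_cancel this
          obtain ⟨r1, r2⟩ := two haa hbb hee hab k₁ ea eb hab'
          exact ⟨r1, r2, cc⟩
        · exfalso
          have ba : e * a * e = a * e * a := by
            rcases ea with h2 | h3
            · exact absurd (commute_of_sq haa hee h2) ca
            · exact braid_of_cube haa hee h3
          have bb : e * b * e = b * e * b := by
            rcases eb with h2 | h3
            · exact absurd (commute_of_sq hbb hee h2) cb
            · exact braid_of_cube hbb hee h3
          have bc : e * c * e = c * e * c := by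
            rcases ec with h2 | h3
            · exact absurd (commute_of_sq hcc hee h2) cc
            · exact braid_of_cube hcc hee h3
          exact hab (three haa hbb hcc hee k₁ k₂ k₃ ba bb bc h')
  · rintro ⟨r1, r2, r3⟩
    exact (r1.mul_right r2).mul_right r3

end Cfsg.Agent.S0437
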