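import Cfsg.Statements.S0438

set_option autoImplicit false
open Cfsg

namespace Cfsg.Agent.S0438

theorem mul_self_of_order {G : Type*} [Group G] {d : G} (h : orderOf d = 2) : d * d = 1 := by
  have := pow_orderOf_eq_one d
  rw [h, pow_two] at this
  exact this

theorem cancel_left {G : Type*} [Group G] {d : G} (h : d * d = 1) (x : G) : d * (d * x) = x := by
  rw [← mul_assoc, h, one_mul]

theorem commute_of_sq {G : Type*} [Group G] {d e : G} (hd : d * d = 1) (he : e * e = 1)
    (h : (e * d) ^ 2 = 1) : e * d = d * e := by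
  have h1 : e * d * (e * d) = 1 := by rw [← pow_two]; exact h
  have h2 : e * d = (e * d)⁻¹ := eq_inv_of_mul_eq_one_left h1
  have h3 : (d * e) * (e * d) = 1 := by
    simp only [mul_assoc, cancel_left he, hd]
  have h4 : d * e = (e * d)⁻¹ := eq_inv_of_mul_eq_one_left h3
  rw [h4, ← h2]

theorem braid_of_cube {G : Type*} [Group G] {d e : G} (hd : d * d = 1) (he : e * e = 1)
    (h : (e * d) ^ 3 = 1) : e * d * e = d * e * d := by
  have h1 : (e * d * e) * (d * e * d) = 1 := by
    have : (e * d) ^ 3 = e * d * e * (d * e * d) := by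
      simp only [pow_succ, pow_zero, one_mul, mul_assoc]
    rw [← this]; exact h
  have h2 : (d * e * d) * (d * e * d) = 1 := by
    simp only [mul_assoc, cancel_left hd, cancel_left he, hd]
  rw [eq_inv_of_mul_eq_one_left h1]
  exact (eq_inv_of_mul_eq_one_left h2).symm

theorem result {G : Type*} [Group G] {E : Set G} (hE : Cfsg.IsThreeTranspositionSet E) (hconj : ∀ g : G, ∀ d ∈ E, g * d * g⁻¹ ∈ E) (x : G ≃* G) (hx : ∀ g : G, x (x g) = g) (hxE : ∀ d ∈ E, x d ∈ E) {a : G} (ha : a ∈ E) (h : ¬ Commute a (x a)) : ∃ d ∈ E, x d = d := by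
  have hb : x a ∈ E := hxE a ha
  have haa := mul_self_of_order (hE.1 a ha)
  have hbb := mul_self_of_order (hE.1 (x a) hb)
  have hainv : a⁻¹ = a := inv_eq_of_mul_eq_one_left haa
  have hbinv : (x a)⁻¹ = x a := inv_eq_of_mul_eq_one_left hbb
  have br : a * x a * a = x a * a * x a := by
    rcases hE.2 a ha (x a) hb with h2 | h3
    · exact absurd (commute_of_sq hbb haa h2) h
    · exact braid_of_cube hbb haa h3
  refine ⟨a * x a * a⁻¹, hconj a (x a) hb, ?_⟩
  rw [map_mul, map_mul, map_inv, hx, hbinv, hainv]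
  exact br.symm

end Cfsg.Agent.S0438
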