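import Mathlib
import Cfsg.Statements.S0439

set_option autoImplicit false
open Cfsg

namespace Cfsg.Agent.S0439

open Equiv Equiv.Perm

theorem three_pow {α : Type*} [DecidableEq α] [Fintype α] {a b c : α} (ab : a ≠ b) (ac : a ≠ c) (bc : b ≠ c) :
    (swap a b * swap a c) ^ 3 = 1 := by
  have h := (isThreeCycle_swap_mul_swap_same ab ac bc).orderOf
  rw [← h]
  exact pow_orderOf_eq_one _

theorem pair {α : Type*} [DecidableEq α] [Fintype α] {d e : Perm α} (hd : d.IsSwap) (he : e.IsSwap) :
    (d * e) ^ 2 = 1 ∨ (d * e) ^ 3 = 1 := by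
  obtain ⟨a, b, hab, rfl⟩ := hd
  obtain ⟨c, f, hcf, rfl⟩ := he
  by_cases hac : a = c
  · subst hac
    by_cases hbf : b = f
    · subst hbf
      left
      simp
    · right
      exact three_pow hab hcf hbf
  · by_cases haf : a = f
    · subst haf
      rw [swap_comm c a]
      by_cases hbc : b = c
      · subst hbc
        left
        simp
      · right
        exact three_pow hab hac hbc
    · by_cases hbc : b = c
      · subst hbc
        rw [swap_comm a b]
        right
        exact three_pow (Ne.symm hab) hcf haf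
      · by_cases hbf : b = f
        · subst hbf
          rw [swap_comm a b, swap_comm c b]
          right
          exact three_pow (Ne.symm hab) (Ne.symm hcf) hac
        · left
          have hdis : Disjoint (swap a b) (swap c f) := by
            apply disjoint_swap_swap
            simp [hab, hac, haf, hbc, hbf, hcf]
          rw [hdis.commute.mul_pow]
          simp [pow_two]

theorem result (n : ℕ) (hn : 2 ≤ n) : Cfsg.IsThreeTranspositionClass {σ : Equiv.Perm (Fin n) | σ.IsSwap} := by
  obtain ⟨m, rfl⟩ : ∃ m, n = m + 2 := ⟨n - 2, by omega⟩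
  refine ⟨⟨?_, ?_⟩, ?_, ?_⟩
  · intro d hd
    exact IsSwap.orderOf hd
  · intro d hd e he
    exact pair hd he
  · have h01 : (0 : Fin (m + 2)) ≠ 1 := by
      intro h
      have := congrArg Fin.val h
      simp at this
    refine ⟨swap (0 : Fin (m + 2)) 1, ⟨0, 1, h01, rfl⟩, ?_⟩
    ext σ
    show σ.IsSwap ↔ IsConj (swap (0 : Fin (m + 2)) 1) σ
    constructor
    · rintro ⟨x, y, hxy, rfl⟩
      exact isConj_swap h01 hxy
    · intro h
      rw [isConj_iff] at h
      obtain ⟨c, rfl⟩ := h
      rw [← swap_apply_apply]
      exact ⟨c 0, c 1, c.injective.ne h01, rfl⟩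
  · exact closure_isSwap

end Cfsg.Agent.S0439
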