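import Cfsg.Statements.S0441
import Cfsg.Agent.Lib.Helper27.TTRank3

set_option autoImplicit false
open Cfsg

namespace Cfsg.Agent.S0441

/-- Fischer's rank-three property. Let a finite group be generated by a conjugacy class D of 3-transpositions, with non-abelian simple commutator subgroup. Then for a in D there are members of D other than a commuting with a and members not commuting with a, and the centraliser of a acts transitively on each of these two sets. -/
theorem result {G : Type*} [Group G] [Finite G] {D : Set G} (hD : Cfsg.IsThreeTranspositionClass D) (hsimple : IsSimpleGroup (commutator G)) (hnonab : ∃ x y : commutator G, x * y ≠ y * x) {a : G} (ha : a ∈ D) : (∃ b ∈ D, b ≠ a ∧ Commute a b) ∧ (∃ c ∈ D, ¬ Commute a c) ∧ (∀ b ∈ D, ∀ b' ∈ D, b ≠ a → b' ≠ a → Commute a b → Commute a b' → ∃ g : G, Commute g a ∧ g * b * g⁻¹ = b') ∧ (∀ c ∈ D, ∀ c' ∈ D, ¬ Commute a c → ¬ Commute a c' → ∃ g : G, Commute g a ∧ g * c * g⁻¹ = c') := by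
  classical
  have hconj := Cfsg.Agent.Lib.Helper27.TTRank3.class_conj hD
  have hall := Cfsg.Agent.Lib.Helper27.TTRank3.class_all hD
  have hDs := hD.1
  have hgen := hD.2.2
  -- the commutator subgroup is not a p-group
  have hcontra : ∀ p : ℕ, [Fact p.Prime] → commutator G ≤ Cfsg.pCore p G → False := by
    intro p _ h
    have hp : IsPGroup p ↥(commutator G) :=
      (Cfsg.Agent.Lib.Helper1.pCore_isPGroup (G := G) p).to_le h
    haveI : Group.IsNilpotent ↥(commutator G) := hp.isNilpotent
    have hs : Group.IsSolvable ↥(commutator G) := inferInstance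
    have := IsSimpleGroup.comm_iff_isSolvable.mpr hs
    obtain ⟨x, y, hxy⟩ := hnonab
    exact hxy (this x y)
  have hpc : ∀ p : ℕ, [Fact p.Prime] → Cfsg.pCore p G ≤ Subgroup.center G := by
    intro p _
    rcases Cfsg.Agent.Lib.Helper27.TTPrim2.normal_le_center_or_commutator_le
      (Cfsg.Agent.Lib.Helper1.pCore_normal (G := G) p) with h | h
    · exact h
    · exact (hcontra p h).elim
  haveI : Fact (Nat.Prime 2) := ⟨Nat.prime_two⟩
  haveI : Fact (Nat.Prime 3) := ⟨Nat.prime_three⟩
  have h2 := hpc 2
  have h3 := hpc 3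
  have hCperf : Group.IsPerfect ↥(commutator G) := by
    rw [Group.isPerfect_def]
    rcases (inferInstance : (commutator ↥(commutator G)).Normal).eq_bot_or_eq_top with h | h
    · exfalso
      rw [commutator_eq_bot_iff] at h
      obtain ⟨x, y, hxy⟩ := hnonab
      exact hxy (h.is_comm.comm x y)
    · exact h
  have hperf : ⁅commutator G, commutator G⁆ = commutator G := Subgroup.isPerfect_iff.mp hCperf
  -- two different members commute
  have hw : ∃ a ∈ D, ∃ b ∈ D, a ≠ b ∧ Commute a b := by
    by_contra hcon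
    push Not at hcon
    have hcube : Cfsg.Agent.Lib.Helper27.W1.CubeClass D := by
      refine ⟨fun d hd => Cfsg.Agent.Lib.Helper27.tt_sq hDs hd, hconj, ?_⟩
      intro d hd e he
      by_cases hde : d = e
      · rw [hde, Cfsg.Agent.Lib.Helper27.tt_sq hDs he, one_pow]
      · rcases hDs.2 d hd e he with h | h
        · exfalso
          apply hcon d hd e he hde
          show d * e = e * d
          have h1 : d * e * (d * e) = 1 := by rw [← pow_two]; exact h
          calc d * e = d * e * (d * e) * (e⁻¹ * d⁻¹) := by group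
            _ = e * d := by
              rw [h1, one_mul, Cfsg.Agent.Lib.Helper27.tt_inv hDs hd,
                Cfsg.Agent.Lib.Helper27.tt_inv hDs he]
        · exact h
    have hwidth := Cfsg.Agent.Lib.Helper27.W1.width_one hcube hgen ha
    haveI hPn : (Cfsg.pCore 3 G).Normal := Cfsg.Agent.Lib.Helper1.pCore_normal 3
    have hcyc : IsCyclic (G ⧸ Cfsg.pCore 3 G) := by
      rw [isCyclic_iff_exists_zpowers_eq_top]
      refine ⟨QuotientGroup.mk' _ a, ?_⟩
      have h1 : Subgroup.map (QuotientGroup.mk' (Cfsg.pCore 3 G))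
          (Subgroup.zpowers a ⊔ Cfsg.pCore 3 G) = ⊤ := by
        rw [hwidth]
        exact Subgroup.map_top_of_surjective _ (QuotientGroup.mk'_surjective _)
      rw [Subgroup.map_sup, MonoidHom.map_zpowers, QuotientGroup.map_mk'_self, sup_bot_eq] at h1
      exact h1
    have hcomle : commutator G ≤ Cfsg.pCore 3 G :=
      Subgroup.Normal.quotient_commutative_iff_commutator_le.mp IsCyclic.isMulCommutative
    exact hcontra 3 hcomle
  have hprim := Cfsg.Agent.Lib.Helper27.TTRank3.prim_of_perfect hD hw h2 h3 hperf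
  have h1 : ∃ b ∈ D, b ≠ a ∧ Commute a b := by
    obtain ⟨a₀, ha₀, b₀, hb₀, hab₀, hc₀⟩ := hw
    obtain ⟨k, hk⟩ := hall a₀ ha₀ a ha
    refine ⟨k * b₀ * k⁻¹, hconj k b₀ hb₀, ?_, ?_⟩
    · rw [← hk]
      intro e
      exact hab₀ (mul_left_cancel (mul_right_cancel e)).symm
    · rw [← hk]
      exact (Commute.conj_iff k).mpr hc₀
  refine ⟨h1, ?_, ?_, ?_⟩
  · by_contra hcon
    push Not at hcon
    obtain ⟨b, hb, hba, -⟩ := h1
    have hle : (⊤ : Subgroup G) ≤ Subgroup.centralizer {a} := by
      rw [← hgen, Subgroup.closure_le]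
      intro w hw'
      rw [SetLike.mem_coe, Subgroup.mem_centralizer_iff]
      intro y hy
      rw [Set.mem_singleton_iff] at hy
      rw [hy]
      exact (hcon w hw').eq
    obtain ⟨g, hg⟩ := hall a ha b hb
    have hgc : g ∈ Subgroup.centralizer {a} := hle (Subgroup.mem_top g)
    rw [Subgroup.mem_centralizer_iff] at hgc
    have := hgc a rfl
    apply hba
    rw [← hg, ← this, mul_inv_cancel_right]
  · intro b hb b' hb' hba hb'a hc hc'
    obtain ⟨g, hgmem, hg⟩ := Cfsg.Agent.Lib.Helper27.TTLocalClass.single_class hDs hconj hgen hprim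
      hw ha b ⟨hb, hba, hc⟩ b' ⟨hb', hb'a, hc'⟩
    refine ⟨g, ?_, hg⟩
    have hle : Subgroup.closure {y : G | y ∈ D ∧ y ≠ a ∧ Commute a y} ≤
        Subgroup.centralizer ({a} : Set G) := by
      rw [Subgroup.closure_le]
      intro y hy
      rw [SetLike.mem_coe, Subgroup.mem_centralizer_iff]
      intro t ht
      rw [Set.mem_singleton_iff] at ht
      rw [ht]
      exact hy.2.2.eq
    have := hle hgmem
    rw [Subgroup.mem_centralizer_iff] at this
    exact (this a rfl).symm
  · intro c hc c' hc' hac hac'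
    exact Cfsg.Agent.Lib.Helper27.TTRank3.orb_all hDs hconj hgen hprim hw a ha c hc c' hc' hac hac'

end Cfsg.Agent.S0441
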