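import Mathlib
import Cfsg.Statements.S0442

set_option autoImplicit false
open Cfsg

namespace Cfsg.Agent.S0442

theorem mul_self_of_order {G : Type*} [Group G] {d : G} (h : orderOf d = 2) : d * d = 1 := by
  have := pow_orderOf_eq_one d
  rw [h, pow_two] at this
  exact this

theorem inverts {G : Type*} [Group G] {a b : G} (haa : a * a = 1) (hbb : b * b = 1) (m : ℕ) :
    a * (a * b) ^ m * a = ((a * b) ^ m)⁻¹ := by
  have hainv : a⁻¹ = a := inv_eq_of_mul_eq_one_left haa
  have hbinv : b⁻¹ = b := inv_eq_of_mul_eq_one_left hbb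
  have h1 : a * (a * b) ^ m * a⁻¹ = (a * (a * b) * a⁻¹) ^ m := (conj_pow).symm
  rw [hainv] at h1
  rw [h1]
  have h2 : a * (a * b) * a = (a * b)⁻¹ := by
    rw [mul_inv_rev, hainv, hbinv, ← mul_assoc, haa, one_mul]
  rw [h2, inv_pow]

theorem conj_invol {G : Type*} [Group G] {a : G} (g : G) (haa : a * a = 1) :
    (g⁻¹ * a * g) * (g⁻¹ * a * g) = 1 := by
  calc (g⁻¹ * a * g) * (g⁻¹ * a * g) = g⁻¹ * (a * a) * g := by group
    _ = 1 := by rw [haa]; group

theorem even_case {G : Type*} [Group G] {a b : G} (haa : a * a = 1) (hbb : b * b = 1) (m : ℕ)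
    (h : (a * b) ^ (2 * m) = 1) : Commute ((a * b) ^ m) a := by
  have h1 := inverts haa hbb m
  have h2 : (a * b) ^ m * (a * b) ^ m = 1 := by rw [← pow_add, ← two_mul]; exact h
  have h3 : ((a * b) ^ m)⁻¹ = (a * b) ^ m := inv_eq_of_mul_eq_one_left h2
  rw [h3] at h1
  show (a * b) ^ m * a = a * (a * b) ^ m
  calc (a * b) ^ m * a = a * (a * (a * b) ^ m * a) := by
        rw [mul_assoc a, ← mul_assoc a a, haa, one_mul]
    _ = a * (a * b) ^ m := by rw [h1]

theorem result {G : Type*} [Group G] (a g : G) (ha : orderOf a = 2) : (∀ m : ℕ, orderOf (a * (g⁻¹ * a * g)) = 2 * m + 1 → Commute (g * (a * (g⁻¹ * a * g)) ^ m) a) ∧ (∀ m : ℕ, orderOf (a * (g⁻¹ * a * g)) = 2 * m → Commute ((a * (g⁻¹ * a * g)) ^ m) a ∧ Commute ((a * (g * a * g⁻¹)) ^ m) a) := by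
  have haa := mul_self_of_order ha
  have hbb : (g⁻¹ * a * g) * (g⁻¹ * a * g) = 1 := conj_invol g haa
  have hbb' : (g * a * g⁻¹) * (g * a * g⁻¹) = 1 := by
    have := conj_invol g⁻¹ haa
    rwa [inv_inv] at this
  have hainv : a⁻¹ = a := inv_eq_of_mul_eq_one_left haa
  refine ⟨fun m hm => ?_, fun m hm => ⟨?_, ?_⟩⟩
  · set b := g⁻¹ * a * g with hb
    set c := a * b with hc
    have hpow : c ^ (2 * m + 1) = 1 := by rw [← hm]; exact pow_orderOf_eq_one c
    have hinv := inverts haa hbb m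
    have hbinv : b⁻¹ = b := inv_eq_of_mul_eq_one_left hbb
    have hcinv : c⁻¹ = b * a := by rw [hc, mul_inv_rev, hainv, hbinv]
    have h2m : c ^ (2 * m) = c⁻¹ := by
      have : c ^ (2 * m) * c = 1 := by rw [← pow_succ]; exact hpow
      exact eq_inv_of_mul_eq_one_left this
    have key : c ^ m * a * (c ^ m)⁻¹ = b := by
      calc c ^ m * a * (c ^ m)⁻¹ = c ^ m * a * (a * c ^ m * a) := by rw [hinv]
        _ = c ^ m * (a * a) * c ^ m * a := by simp only [mul_assoc]
        _ = c ^ (2 * m) * a := by rw [haa, mul_one, ← pow_add, ← two_mul]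
        _ = b := by rw [h2m, hcinv, mul_assoc, haa, mul_one]
    show g * c ^ m * a = a * (g * c ^ m)
    have : g * c ^ m * a * (g * c ^ m)⁻¹ = a := by
      calc g * c ^ m * a * (g * c ^ m)⁻¹ = g * (c ^ m * a * (c ^ m)⁻¹) * g⁻¹ := by
            rw [mul_inv_rev]; simp only [mul_assoc]
        _ = g * b * g⁻¹ := by rw [key]
        _ = a := by rw [hb]; group
    exact mul_inv_eq_iff_eq_mul.mp this
  · apply even_case haa hbb m
    rw [← hm]; exact pow_orderOf_eq_one _
  · apply even_case haa hbb' m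
    have hconj : a * (g * a * g⁻¹) = g * (a * (g⁻¹ * a * g))⁻¹ * g⁻¹ := by
      rw [mul_inv_rev, mul_inv_rev, mul_inv_rev, inv_inv, hainv]
      simp only [mul_assoc, mul_inv_cancel_left]
    rw [hconj, conj_pow, inv_pow, ← hm, pow_orderOf_eq_one]
    group

end Cfsg.Agent.S0442
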