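import Mathlib
import Cfsg.Statements.S0443

set_option autoImplicit false
open Cfsg

namespace Cfsg.Agent.S0443

theorem mem_of_le_centralizer {G : Type*} [Group G] [Finite G] (t : G) (ht : orderOf t = 2)
    (P : Sylow 2 G) (hP : (P : Subgroup G) ≤ Subgroup.centralizer ({t} : Set G)) :
    t ∈ (P : Subgroup G) := by
  haveI : Fact (Nat.Prime 2) := ⟨Nat.prime_two⟩
  have hZ : IsPGroup 2 (Subgroup.zpowers t) := by
    apply IsPGroup.of_card (n := 1)
    rw [Nat.card_zpowers, ht, pow_one]
  have hnorm : Subgroup.zpowers t ≤ Subgroup.normalizer ((P : Subgroup G) : Set G) := by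
    rw [Subgroup.zpowers_le]
    rw [Subgroup.mem_normalizer_iff]
    intro x
    constructor
    · intro hx
      have hc := hP hx
      rw [Subgroup.mem_centralizer_iff] at hc
      have : t * x = x * t := hc t rfl
      rw [this, mul_inv_cancel_right]
      exact hx
    · intro hx
      have hc := hP hx
      rw [Subgroup.mem_centralizer_iff] at hc
      have h1 : t * (t * x * t⁻¹) = (t * x * t⁻¹) * t := hc t rfl
      have h2 : t * x = x * t := by
        have : t * (t * x * t⁻¹) = t * x := by
          rw [h1]; group
        have h3 : t * x * t⁻¹ = x := mul_left_cancel this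
        calc t * x = t * x * t⁻¹ * t := by group
          _ = x * t := by rw [h3]
      have : x = t * x * t⁻¹ := by rw [h2]; group
      rw [this]; exact hx
  have hsup : IsPGroup 2 ((P : Subgroup G) ⊔ Subgroup.zpowers t : Subgroup G) :=
    IsPGroup.to_sup_of_normal_left' P.isPGroup' hZ hnorm
  have := P.is_maximal' hsup le_sup_left
  have hle : Subgroup.zpowers t ≤ (P : Subgroup G) := by
    rw [← this]; exact le_sup_right
  exact hle (Subgroup.mem_zpowers t)

theorem result {G : Type*} [Group G] [Finite G] (t : G) (ht : orderOf t = 2) : Cfsg.IsTwoCentralInvolution t ↔ ∃ P : Sylow 2 G, (P : Subgroup G) ≤ Subgroup.centralizer ({t} : Set G) := by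
  constructor
  · rintro ⟨_, P, htP, hcomm⟩
    refine ⟨P, fun x hx => ?_⟩
    rw [Subgroup.mem_centralizer_iff]
    intro h hh
    rw [Set.mem_singleton_iff] at hh
    subst hh
    exact (hcomm x hx).symm
  · rintro ⟨P, hP⟩
    refine ⟨ht, P, mem_of_le_centralizer t ht P hP, fun x hx => ?_⟩
    have hc := hP hx
    rw [Subgroup.mem_centralizer_iff] at hc
    exact (hc t rfl).symm

end Cfsg.Agent.S0443
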