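import Cfsg.Statements.S0447
import Cfsg.Agent.Lib.Helper24.DcMain
import Cfsg.Agent.Lib.Helper24.A8Main

set_option autoImplicit false
open Cfsg

namespace Cfsg.Agent.S0447

open Cfsg.Agent.Lib.Helper24

theorem cyc_small (n : ℕ) (hn : n ≤ 3) : IsCyclic (alternatingGroup (Fin n)) := by
  interval_cases n
  · exact isCyclic_of_subsingleton
  · exact isCyclic_of_subsingleton
  · have h := card_alt 2 (by norm_num)
    have h1 : Nat.card (alternatingGroup (Fin 2)) = 1 := by
      have : Nat.factorial 2 = 2 := rfl
      omega
    have : Subsingleton (alternatingGroup (Fin 2)) := (Nat.card_eq_one_iff_unique.1 h1).1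
    exact isCyclic_of_subsingleton
  · have h := card_alt 3 (by norm_num)
    have h1 : Nat.card (alternatingGroup (Fin 3)) = 3 := by
      have : Nat.factorial 3 = 6 := rfl
      omega
    have : Fact (Nat.Prime 3) := ⟨Nat.prime_three⟩
    exact isCyclic_of_prime_card h1

theorem result : (∀ (n : ℕ) (H : Type) (_ : Group H) (_ : Finite H), n ≤ 7 → Cfsg.IsNonsplitDoubleCover H (alternatingGroup (Fin n)) → ∀ x y : H, orderOf x = 2 → orderOf y = 2 → x = y) ∧ ∃ (H : Type) (_ : Group H) (_ : Finite H), Cfsg.IsNonsplitDoubleCover H (alternatingGroup (Fin 8)) ∧ ∃ x y : H, x ≠ y ∧ orderOf x = 2 ∧ orderOf y = 2 := by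
  constructor
  · intro n H _ _ hn hdc x y hx hy
    obtain ⟨hZ, ⟨φ⟩, hns⟩ := hdc
    let π : H →* alternatingGroup (Fin n) :=
      φ.toMonoidHom.comp (QuotientGroup.mk' (Subgroup.center H))
    have hπ : Function.Surjective π :=
      φ.surjective.comp (QuotientGroup.mk'_surjective _)
    have hker : π.ker = Subgroup.center H := by
      ext g
      rw [MonoidHom.mem_ker]
      show φ (QuotientGroup.mk' _ g) = 1 ↔ _
      rw [MulEquiv.map_eq_one_iff, ← MonoidHom.mem_ker, QuotientGroup.ker_mk']
    have key : ∀ t : H, orderOf t = 2 → t ∈ Subgroup.center H := by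
      intro t ht
      by_contra htc
      have htt : t * t = 1 := by
        rw [← pow_two, ← ht, pow_orderOf_eq_one]
      have ht1 : π t ≠ 1 := by
        intro h
        apply htc
        rw [← hker, MonoidHom.mem_ker]
        exact h
      by_cases hn3 : n ≤ 3
      · have := cyc_small n hn3
        apply htc
        rw [Subgroup.mem_center_iff]
        intro g
        have hc := MonoidHom.isMulCommutative_of_isCyclic_of_ker_le_center π (le_of_eq hker)
        exact hc.is_comm.comm g t
      · have hcomp : ∃ L : Subgroup H, (Subgroup.center H).IsComplement' L := by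
          have h4 : 4 ≤ n := by omega
          interval_cases n
          · exact dc_alt_4 π hπ hker hZ t htt ht1
          · exact dc_alt_5 π hπ hker hZ t htt ht1
          · exact dc_alt_6 π hπ hker hZ t htt ht1
          · exact dc_alt_7 π hπ hker hZ t htt ht1
        obtain ⟨L, hL⟩ := hcomp
        exact hns L hL
    have hx1 : x ≠ 1 := by
      intro h
      rw [h, orderOf_one] at hx
      exact absurd hx (by norm_num)
    have hy1 : y ≠ 1 := by
      intro h
      rw [h, orderOf_one] at hy
      exact absurd hy (by norm_num)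
    rcases card_two_cases (Subgroup.center H) hZ y (key y hy) hy1 x (key x hx) with h | h
    · exact absurd h hx1
    · exact h
  · obtain ⟨h1, h2, h3, h4⟩ := a8_exists
    exact ⟨a8H, inferInstance, inferInstance, ⟨h1, h2, h3⟩, h4⟩

end Cfsg.Agent.S0447
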