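import Cfsg.Statements.S0462
import Cfsg.Agent.Lib.Helper12.S44.Main
import Cfsg.Agent.Lib.Helper12.S44.PermReal
import Cfsg.Agent.Lib.Helper12.Ord.HeSimple

set_option autoImplicit false
open Cfsg

namespace Cfsg.Agent.S0462

/-- The Held group exists as a transitive permutation group of degree 2058: simple of order 4030387200, with point stabiliser containing, with index 2, a copy of the 4-dimensional symplectic group over the field with four elements. -/
theorem result : ∃ H : Subgroup (Equiv.Perm (Fin 2058)), Cfsg.IsHe H ∧ MulAction.IsPretransitive H (Fin 2058) ∧ ∃ (F : Type) (_ : Field F) (_ : Fintype F), Fintype.card F = 4 ∧ ∃ N : Subgroup (MulAction.stabilizer H (0 : Fin 2058)), N.index = 2 ∧ Nonempty (N ≃* Matrix.symplecticGroup (Fin 2) F) := by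
  have hs : IsSimpleGroup (PresentedGroup Cfsg.Agent.Lib.Helper12.S44.R) :=
    Cfsg.Agent.Lib.Helper12.Ord.HeSimple.isSimpleGroup
  obtain ⟨ρ, hinj, htr, ⟨e⟩⟩ := Cfsg.Agent.Lib.Helper12.S44.exists_perm_realization hs
    Cfsg.Agent.Lib.Helper12.S44.Hs 2058 (by norm_num) Cfsg.Agent.Lib.Helper12.TC.He2058.main.1
  obtain ⟨N0, _, hidx, ⟨iso⟩⟩ := Cfsg.Agent.Lib.Helper12.S44.main
  refine ⟨ρ.range, ⟨?_, ?_⟩, htr, Cfsg.Agent.Lib.Helper12.S44.K, inferInstance, inferInstance, by decide,
    N0.map (e : ↥Cfsg.Agent.Lib.Helper12.S44.Hs →* _), ?_, ?_⟩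
  · exact (MonoidHom.ofInjective hinj).symm.isSimpleGroup
  · rw [← Nat.card_congr (MonoidHom.ofInjective hinj).toEquiv]
    exact Cfsg.Agent.Lib.Helper12.Ord.HeOrder.card_eq
  · rw [Subgroup.index_map_equiv]
    exact hidx
  · exact ⟨((e.subgroupMap N0).symm).trans iso⟩

end Cfsg.Agent.S0462
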