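import Cfsg.Statements.S0473
import Cfsg.Agent.Lib.Helper12.Fi24Ex.Sub23
import Cfsg.Agent.Lib.Helper12.Fi24Ex.HeHom

set_option autoImplicit false
open Cfsg

namespace Cfsg.Agent.S0473

/-- a simple subgroup of a subgroup, as a subgroup of that subgroup -/
theorem exists_sub_simple {G : Type*} [Group G] (H K : Subgroup G) (hle : K ≤ H) (n : ℕ)
    (hs : IsSimpleGroup K) (hc : Nat.card K = n) :
    ∃ K' : Subgroup H, IsSimpleGroup K' ∧ Nat.card K' = n := by
  have e : K.subgroupOf H ≃* K := Subgroup.subgroupOfEquivOfLe hle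
  refine ⟨K.subgroupOf H, ?_, ?_⟩
  · have hnt : Nontrivial (K.subgroupOf H) := e.toEquiv.nontrivial
    exact IsSimpleGroup.isSimpleGroup_of_surjective e.symm.toMonoidHom e.symm.surjective
  · rw [Nat.card_congr e.toEquiv]
    exact hc

/-- The largest Fischer 3-transposition group: a group of order 2 · 1255205709190661721292800 generated by a conjugacy class of 306936 3-transpositions, in which a transposition centraliser has order 2 · 4089470473293004800 and contains a simple subgroup of order 4089470473293004800; its subgroup of index 2 is simple and contains simple subgroups of orders 4089470473293004800 and 4030387200. -/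
theorem result : ∃ (G : Type) (_ : Group G) (_ : Finite G), Nat.card G = 2 * 1255205709190661721292800 ∧ ∃ D : Set G, Cfsg.IsThreeTranspositionClass D ∧ Nat.card D = 306936 ∧ (∀ d ∈ D, Nat.card (Subgroup.centralizer ({d} : Set G)) = 2 * 4089470473293004800 ∧ ∃ K : Subgroup G, K ≤ Subgroup.centralizer ({d} : Set G) ∧ Cfsg.IsFi23 K) ∧ ∃ H : Subgroup G, H.index = 2 ∧ Cfsg.IsFi24' H ∧ (∃ K : Subgroup H, Cfsg.IsFi23 K) ∧ (∃ K : Subgroup H, Cfsg.IsHe K) := by
  refine ⟨Cfsg.Spor.Fi24, inferInstance, Cfsg.Agent.Lib.Helper12.Fi24Ex.finite,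
    Cfsg.Agent.Lib.Helper12.Fi24Ex.card_eq, conjugatesOf Cfsg.Agent.Lib.Helper12.Fi24Ex.tt,
    Cfsg.Agent.Lib.Helper12.Fi24Ex.isThreeTranspositionClass, Cfsg.Agent.Lib.Helper12.Fi24Ex.card_class, ?_, ?_⟩
  · intro d hd
    exact ⟨Cfsg.Agent.Lib.Helper12.Fi24Ex.card_centralizer d hd, Cfsg.Agent.Lib.Helper12.Fi24Ex.exists_Fi23 d hd⟩
  · refine ⟨commutator Cfsg.Spor.Fi24, Cfsg.Agent.S1691.result, Cfsg.Agent.Lib.Helper12.Fi24.main, ?_, ?_⟩
    · exact exists_sub_simple _ _ Cfsg.Agent.Lib.Helper12.Fi24Ex.K23_le_comm _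
        Cfsg.Agent.Lib.Helper12.Fi24Ex.isFi23_K23.1 Cfsg.Agent.Lib.Helper12.Fi24Ex.isFi23_K23.2
    · exact exists_sub_simple _ _ Cfsg.Agent.Lib.Helper12.Fi24Ex.KHe_le _
        Cfsg.Agent.Lib.Helper12.Fi24Ex.isHe_KHe.1 Cfsg.Agent.Lib.Helper12.Fi24Ex.isHe_KHe.2

end Cfsg.Agent.S0473
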