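import Mathlib
import Cfsg.Statements.S0481

set_option autoImplicit false
open Cfsg
open Pointwise

namespace Cfsg.Agent.S0481

theorem mem_of_le_centralizer {G : Type*} [Group G] [Finite G] (t : G) (ht : orderOf t = 2)
    (P : Sylow 2 G) (hP : (P : Subgroup G) ≤ Subgroup.centralizer ({t} : Set G)) :
    t ∈ (P : Subgroup G) := by
  haveI : Fact (Nat.Prime 2) := ⟨Nat.prime_two⟩
  have hZ : IsPGroup 2 (Subgroup.zpowers t) := by
    apply IsPGroup.of_card (n := 1)
    rw [Nat.card_zpowers, ht, pow_one]
  have hnorm : Subgroup.zpowers t ≤ Subgroup.normalizer ((P : Subgroup G) : Set G) := by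
    rw [Subgroup.zpowers_le]
    rw [Subgroup.mem_normalizer_iff]
    intro x
    constructor
    · intro hx
      have hc := hP hx
      rw [Subgroup.mem_centralizer_iff] at hc
      have : t * x = x * t := hc t rfl
      rw [this, mul_inv_cancel_right]
      exact hx
    · intro hx
      have hc := hP hx
      rw [Subgroup.mem_centralizer_iff] at hc
      have h1 : t * (t * x * t⁻¹) = (t * x * t⁻¹) * t := hc t rfl
      have h2 : t * x = x * t := by
        have : t * (t * x * t⁻¹) = t * x := by
          rw [h1]; group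
        have h3 : t * x * t⁻¹ = x := mul_left_cancel this
        calc t * x = t * x * t⁻¹ * t := by group
          _ = x * t := by rw [h3]
      have : x = t * x * t⁻¹ := by rw [h2]; group
      rw [this]; exact hx
  have hsup : IsPGroup 2 ((P : Subgroup G) ⊔ Subgroup.zpowers t : Subgroup G) :=
    IsPGroup.to_sup_of_normal_left' P.isPGroup' hZ hnorm
  have := P.is_maximal' hsup le_sup_left
  have hle : Subgroup.zpowers t ≤ (P : Subgroup G) := by
    rw [← this]; exact le_sup_right
  exact hle (Subgroup.mem_zpowers t)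

theorem central_eq {G : Type*} [Group G] [Finite G] (z : G) (hz : orderOf z = 2) (Q : Subgroup G)
    (hQC : Q ≤ Subgroup.centralizer ({z} : Set G))
    (hZ : Nat.card (Subgroup.center Q) = 2)
    (hlarge : Subgroup.centralizer (Q : Set G) ≤ Q)
    (w : G) (hw1 : w ≠ 1) (hwQ : ∀ q ∈ Q, q * w = w * q) : w = z := by
  have hzc : z ∈ Subgroup.centralizer (Q : Set G) := by
    rw [Subgroup.mem_centralizer_iff]
    intro q hq
    have := hQC hq
    rw [Subgroup.mem_centralizer_iff] at this
    exact (this z rfl).symm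
  have hwc : w ∈ Subgroup.centralizer (Q : Set G) := by
    rw [Subgroup.mem_centralizer_iff]
    intro q hq
    exact hwQ q hq
  have hzQ : z ∈ Q := hlarge hzc
  have hwQ' : w ∈ Q := hlarge hwc
  have hzZ : (⟨z, hzQ⟩ : Q) ∈ Subgroup.center Q := by
    rw [Subgroup.mem_center_iff]
    intro q
    apply Subtype.ext
    have := hQC q.2
    rw [Subgroup.mem_centralizer_iff] at this
    exact (this z rfl).symm
  have hwZ : (⟨w, hwQ'⟩ : Q) ∈ Subgroup.center Q := by
    rw [Subgroup.mem_center_iff]
    intro q
    apply Subtype.ext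
    exact hwQ q q.2
  have hz1 : z ≠ 1 := by
    intro h
    rw [h, orderOf_one] at hz
    omega
  by_contra hne
  have h3 : 2 < Nat.card (Subgroup.center Q) := by
    let a : Subgroup.center Q := ⟨⟨z, hzQ⟩, hzZ⟩
    let b : Subgroup.center Q := ⟨⟨w, hwQ'⟩, hwZ⟩
    have hab : a ≠ b := by
      intro h
      apply hne
      have := congrArg (fun x : Subgroup.center Q => ((x : Q) : G)) h
      exact this.symm
    have ha1 : a ≠ 1 := by
      intro h
      apply hz1
      exact congrArg (fun x : Subgroup.center Q => ((x : Q) : G)) h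
    have hb1 : b ≠ 1 := by
      intro h
      apply hw1
      exact congrArg (fun x : Subgroup.center Q => ((x : Q) : G)) h
    haveI := Fintype.ofFinite (Subgroup.center Q)
    rw [Nat.card_eq_fintype_card]
    exact Fintype.two_lt_card_iff.mpr ⟨a, b, 1, hab, ha1, hb1⟩
  omega

theorem result {G : Type*} [Group G] [Finite G] (z : G) (hz : orderOf z = 2) (Q : Subgroup G) (hQC : Q ≤ Subgroup.centralizer ({z} : Set G)) (hQn : ∀ g ∈ Subgroup.centralizer ({z} : Set G), ∀ q ∈ Q, g * q * g⁻¹ ∈ Q) (hQ2 : IsPGroup 2 Q) (hZ : Nat.card (Subgroup.center Q) = 2) (hsq : ∀ x : Q, x ^ 2 ∈ Subgroup.center Q) (hlarge : Subgroup.centralizer (Q : Set G) ≤ Q) : (∃ P : Sylow 2 G, (P : Subgroup G) ≤ Subgroup.centralizer ({z} : Set G)) ∧ ∀ u : G, orderOf u = 2 → (∃ P : Sylow 2 G, (P : Subgroup G) ≤ Subgroup.centralizer ({u} : Set G)) → IsConj z u := by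
  haveI : Fact (Nat.Prime 2) := ⟨Nat.prime_two⟩
  obtain ⟨S, hQS⟩ := hQ2.exists_le_sylow
  have key : ∀ w : G, w ≠ 1 → w ∈ (S : Subgroup G) → (∀ s ∈ (S : Subgroup G), s * w = w * s) → w = z := by
    intro w hw1 _ hws
    exact central_eq z hz Q hQC hZ hlarge w hw1 (fun q hq => hws q (hQS hq))
  have hz1 : z ≠ 1 := by
    intro h
    rw [h, orderOf_one] at hz
    omega
  have hzQ : z ∈ Q := by
    apply hlarge
    rw [Subgroup.mem_centralizer_iff]
    intro q hq
    have := hQC hq
    rw [Subgroup.mem_centralizer_iff] at this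
    exact (this z rfl).symm
  have hzS : z ∈ (S : Subgroup G) := hQS hzQ
  haveI : Nontrivial (S : Subgroup G) := ⟨⟨⟨z, hzS⟩, 1, fun h => hz1 (congrArg Subtype.val h)⟩⟩
  haveI := (S.isPGroup').center_nontrivial
  obtain ⟨c, hc⟩ := exists_ne (1 : Subgroup.center (S : Subgroup G))
  have hcz : ((c : (S : Subgroup G)) : G) = z := by
    apply key
    · intro h
      apply hc
      apply Subtype.ext
      apply Subtype.ext
      exact h
    · exact (c : (S : Subgroup G)).2
    · intro s hs
      have := c.2
      rw [Subgroup.mem_center_iff] at this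
      exact congrArg Subtype.val (this ⟨s, hs⟩)
  have hzcent : ∀ s ∈ (S : Subgroup G), s * z = z * s := by
    intro s hs
    have := c.2
    rw [Subgroup.mem_center_iff] at this
    have := congrArg Subtype.val (this ⟨s, hs⟩)
    rw [← hcz]
    exact this
  constructor
  · refine ⟨S, fun s hs => ?_⟩
    rw [Subgroup.mem_centralizer_iff]
    intro h hh
    rw [Set.mem_singleton_iff] at hh
    subst hh
    exact (hzcent s hs).symm
  · rintro u hu ⟨P, hP⟩
    have huP : u ∈ (P : Subgroup G) := mem_of_le_centralizer u hu P hP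
    obtain ⟨g, hg⟩ := MulAction.exists_smul_eq G P S
    have hu1 : u ≠ 1 := by
      intro h
      rw [h, orderOf_one] at hu
      omega
    have hmem : ∀ x : G, x ∈ (P : Subgroup G) → g * x * g⁻¹ ∈ (S : Subgroup G) := by
      intro x hx
      rw [← hg, Sylow.coe_subgroup_smul]
      rw [Subgroup.mem_smul_pointwise_iff_exists]
      exact ⟨x, hx, rfl⟩
    have hmem' : ∀ s : G, s ∈ (S : Subgroup G) → g⁻¹ * s * g ∈ (P : Subgroup G) := by
      intro s hs
      rw [← hg, Sylow.coe_subgroup_smul, Subgroup.mem_smul_pointwise_iff_exists] at hs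
      obtain ⟨x, hx, rfl⟩ := hs
      have : g⁻¹ * (MulAut.conj g • x) * g = x := by
        rw [MulAut.smul_def, MulAut.conj_apply]; group
      rw [this]; exact hx
    have : g * u * g⁻¹ = z := by
      apply key
      · intro h
        apply hu1
        have : u = g⁻¹ * (g * u * g⁻¹) * g := by group
        rw [this, h]; group
      · exact hmem u huP
      · intro s hs
        have h1 := hP (hmem' s hs)
        rw [Subgroup.mem_centralizer_iff] at h1
        have h2 : u * (g⁻¹ * s * g) = g⁻¹ * s * g * u := h1 u rfl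
        calc s * (g * u * g⁻¹) = g * (g⁻¹ * s * g * u) * g⁻¹ := by group
          _ = g * (u * (g⁻¹ * s * g)) * g⁻¹ := by rw [h2]
          _ = g * u * g⁻¹ * s := by group
    rw [isConj_comm, isConj_iff]
    exact ⟨g, this⟩

end Cfsg.Agent.S0481
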