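import Mathlib
import Cfsg.Statements.S0520

set_option autoImplicit false
open Cfsg

namespace Cfsg.Agent.S0520

open scoped Pointwise

section basics
variable {G : Type*} [Group G]

/-- conjugate subgroup -/
abbrev cj (g : G) (U : Subgroup G) : Subgroup G := MulAut.conj g • U

theorem mem_cj {g x : G} {U : Subgroup G} : x ∈ cj g U ↔ g⁻¹ * x * g ∈ U := by
  unfold cj
  rw [Subgroup.mem_pointwise_smul_iff_inv_smul_mem]
  simp [MulAut.smul_def]

theorem cj_mul (g h : G) (U : Subgroup G) : cj (g * h) U = cj g (cj h U) := by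
  unfold cj
  rw [map_mul, mul_smul]

theorem cj_one (U : Subgroup G) : cj 1 U = U := by
  unfold cj
  rw [map_one, one_smul]

theorem cj_inv_cj (g : G) (U : Subgroup G) : cj g⁻¹ (cj g U) = U := by
  rw [← cj_mul, inv_mul_cancel, cj_one]

theorem cj_cj_inv (g : G) (U : Subgroup G) : cj g (cj g⁻¹ U) = U := by
  rw [← cj_mul, mul_inv_cancel, cj_one]

theorem cj_le_cj {g : G} {U V : Subgroup G} : cj g U ≤ cj g V ↔ U ≤ V :=
  Subgroup.pointwise_smul_le_pointwise_smul_iff

theorem cj_le_iff {g : G} {U V : Subgroup G} : cj g U ≤ V ↔ U ≤ cj g⁻¹ V := by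
  rw [← cj_le_cj (g := g⁻¹), cj_inv_cj]

theorem cj_inf (g : G) (U V : Subgroup G) : cj g (U ⊓ V) = cj g U ⊓ cj g V :=
  Subgroup.smul_inf _ _ _

theorem card_cj (g : G) (U : Subgroup G) : Nat.card (cj g U) = Nat.card U :=
  (Nat.card_congr (Subgroup.equivSMul (MulAut.conj g) U).toEquiv).symm

theorem cj_eq_of_mem_normalizer {g : G} {U : Subgroup G} (hg : g ∈ Subgroup.normalizer (U : Set G)) :
    cj g U = U := by
  ext x
  rw [mem_cj]
  have := (Subgroup.mem_normalizer_iff'.mp (inv_mem hg))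
  constructor
  · intro h
    have h2 := (Subgroup.mem_normalizer_iff.mp hg (g⁻¹ * x * g)).mp h
    simpa [mul_assoc] using h2
  · intro h
    have h2 := (Subgroup.mem_normalizer_iff.mp (inv_mem hg) x).mp h
    simpa [mul_assoc] using h2

theorem mem_normalizer_of_cj_eq {g : G} {U : Subgroup G} (h : cj g U = U) :
    g ∈ Subgroup.normalizer (U : Set G) := by
  rw [Subgroup.mem_normalizer_iff]
  intro x
  constructor
  · intro hx
    rw [← h, mem_cj]
    simpa [mul_assoc] using hx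
  · intro hx
    rw [← h, mem_cj] at hx
    simpa [mul_assoc] using hx

theorem kf_of_equiv {A B : Type*} [Group A] [Group B] (e : A ≃* B) (h : IsKleinFour A) : IsKleinFour B :=
  ⟨by rw [← Nat.card_congr e.toEquiv]; exact h.card_four,
   by rw [← Monoid.exponent_eq_of_mulEquiv e]; exact h.exponent_two⟩

theorem kf_cj {g : G} {U : Subgroup G} (h : IsKleinFour U) : IsKleinFour (cj g U) :=
  kf_of_equiv (Subgroup.equivSMul (MulAut.conj g) U) h

/-- the commuting relation on Klein four-subgroups -/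
def Rel (G : Type*) [Group G] : Subgroup G → Subgroup G → Prop :=
  fun A B => IsKleinFour A ∧ IsKleinFour B ∧ ∀ a ∈ A, ∀ b ∈ B, a * b = b * a

theorem Rel.symm {A B : Subgroup G} (h : Rel G A B) : Rel G B A :=
  ⟨h.2.1, h.1, fun b hb a ha => (h.2.2 a ha b hb).symm⟩

theorem Rel.conj {A B : Subgroup G} (h : Rel G A B) (g : G) : Rel G (cj g A) (cj g B) := by
  refine ⟨kf_cj h.1, kf_cj h.2.1, ?_⟩
  intro a ha b hb
  rw [mem_cj] at ha hb
  have := h.2.2 _ ha _ hb
  have e1 : a = g * (g⁻¹ * a * g) * g⁻¹ := by group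
  have e2 : b = g * (g⁻¹ * b * g) * g⁻¹ := by group
  rw [e1, e2]
  calc g * (g⁻¹ * a * g) * g⁻¹ * (g * (g⁻¹ * b * g) * g⁻¹)
      = g * ((g⁻¹ * a * g) * (g⁻¹ * b * g)) * g⁻¹ := by group
    _ = g * ((g⁻¹ * b * g) * (g⁻¹ * a * g)) * g⁻¹ := by rw [this]
    _ = _ := by group

/-- connectedness relation -/
abbrev Conn (G : Type*) [Group G] : Subgroup G → Subgroup G → Prop := Relation.ReflTransGen (Rel G)

theorem Conn.symm {A B : Subgroup G} (h : Conn G A B) : Conn G B A := by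
  induction h with
  | refl => exact Relation.ReflTransGen.refl
  | tail _ hbc ih => exact Relation.ReflTransGen.head hbc.symm ih

theorem Conn.conj {A B : Subgroup G} (h : Conn G A B) (g : G) : Conn G (cj g A) (cj g B) := by
  induction h with
  | refl => exact Relation.ReflTransGen.refl
  | tail _ hbc ih => exact Relation.ReflTransGen.tail ih (hbc.conj g)

/-- `Q` contains a Klein four-subgroup -/
def HasFour (Q : Subgroup G) : Prop := ∃ U : Subgroup G, U ≤ Q ∧ IsKleinFour U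

theorem HasFour.mono {Q R : Subgroup G} (h : HasFour Q) (hQR : Q ≤ R) : HasFour R := by
  obtain ⟨U, hU, hk⟩ := h
  exact ⟨U, hU.trans hQR, hk⟩

theorem HasFour.conj {Q : Subgroup G} (h : HasFour Q) (g : G) : HasFour (cj g Q) := by
  obtain ⟨U, hU, hk⟩ := h
  exact ⟨cj g U, cj_le_cj.mpr hU, kf_cj hk⟩

end basics

section rank
variable {G : Type*} [Group G]

theorem exists_four {H : Type*} [Group H] [Finite H] (h : ¬ Cfsg.PRankLE 2 1 H) :
    ∃ U : Subgroup H, IsKleinFour U := by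
  unfold Cfsg.PRankLE at h
  push Not at h
  obtain ⟨A, hAc, hA2, hAcard⟩ := h
  have hp : IsPGroup 2 A := by
    intro a
    refine ⟨1, ?_⟩
    have := hA2 a a.2
    apply Subtype.ext
    simpa using this
  obtain ⟨n, hn⟩ := (IsPGroup.iff_card).mp hp
  have hn2 : 2 ≤ n := by
    by_contra hlt
    push Not at hlt
    have : (2:ℕ) ^ n ≤ 2 ^ 1 := Nat.pow_le_pow_right (by norm_num) (by omega)
    omega
  have hdvd : 2 ^ 2 ∣ Nat.card A := by
    rw [hn]; exact pow_dvd_pow 2 hn2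
  obtain ⟨K, hK⟩ := Sylow.exists_subgroup_card_pow_prime 2 hdvd
  have hexp : Monoid.exponent K = 2 := by
    have hd : Monoid.exponent K ∣ 2 := by
      apply Monoid.exponent_dvd_of_forall_pow_eq_one
      intro k
      have := hA2 (k : A) (k : A).2
      apply Subtype.ext
      apply Subtype.ext
      simpa using this
    rcases (Nat.dvd_prime Nat.prime_two).mp hd with h1 | h2
    · exfalso
      have hs : Subsingleton K := Monoid.exp_eq_one_iff.mp h1
      have : Nat.card K = 1 := Nat.card_unique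
      omega
    · exact h2
  have hkf : IsKleinFour K := ⟨by rw [hK]; norm_num, hexp⟩
  exact ⟨K.map A.subtype, kf_of_equiv (K.equivMapOfInjective A.subtype (Subgroup.subtype_injective A)) hkf⟩

theorem hasFour_of_not_prank [Finite G] {Q : Subgroup G} (h : ¬ Cfsg.PRankLE 2 1 ↥Q) : HasFour Q := by
  obtain ⟨U, hU⟩ := exists_four h
  exact ⟨U.map Q.subtype, Subgroup.map_subtype_le U,
    kf_of_equiv (U.equivMapOfInjective Q.subtype (Subgroup.subtype_injective Q)) hU⟩

theorem not_prank_of_hasFour {Q : Subgroup G} (h : HasFour Q) : ¬ Cfsg.PRankLE 2 1 ↥Q := by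
  obtain ⟨U, hU, hk⟩ := h
  intro hP
  have e : U.subgroupOf Q ≃* U := Subgroup.subgroupOfEquivOfLe hU
  have hk' : IsKleinFour (U.subgroupOf Q) := kf_of_equiv e.symm hk
  have hcomm : IsMulCommutative (U.subgroupOf Q) := IsKleinFour.isMulCommutative
  have h2 : ∀ a ∈ U.subgroupOf Q, a ^ 2 = 1 := by
    intro a ha
    have := Monoid.pow_exponent_eq_one (⟨a, ha⟩ : U.subgroupOf Q)
    rw [hk'.exponent_two] at this
    have := congrArg Subtype.val this
    simpa using this
  have := hP (U.subgroupOf Q) hcomm h2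
  rw [hk'.card_four] at this
  omega

end rank

section sylow
variable {G : Type*} [Group G] [Finite G]

theorem eq_of_le_card {A B : Subgroup G} (h : A ≤ B) (hc : Nat.card B ≤ Nat.card A) : A = B :=
  Subgroup.eq_of_le_of_card_ge h hc

theorem cj_eq_of_le {x : G} {D : Subgroup G} (h : cj x D ≤ D) : cj x D = D :=
  eq_of_le_card h (by rw [card_cj])

theorem isPGroup_cj {P : Subgroup G} (hP : IsPGroup 2 P) (g : G) : IsPGroup 2 (cj g P) := by
  obtain ⟨n, hn⟩ := (IsPGroup.iff_card).mp hP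
  exact IsPGroup.of_card (n := n) (by rw [card_cj, hn])

/-- normalizers grow in 2-groups -/
theorem exists_normalizing {P D : Subgroup G} (hP : IsPGroup 2 P) (hDP : D ≤ P)
    (hlt : Nat.card D < Nat.card P) : ∃ x ∈ P, x ∉ D ∧ cj x D = D := by
  haveI : Group.IsNilpotent P := hP.isNilpotent
  have hnc := Group.normalizerCondition_of_isNilpotent (G := P)
  have hH : D.subgroupOf P < ⊤ := by
    rw [lt_top_iff_ne_top]
    intro h
    rw [Subgroup.subgroupOf_eq_top] at h
    have := Subgroup.card_le_of_le h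
    omega
  have h2 := hnc _ hH
  obtain ⟨x, hxN, hxH⟩ := SetLike.exists_of_lt h2
  refine ⟨x, x.2, ?_, ?_⟩
  · intro hx
    exact hxH (Subgroup.mem_subgroupOf.mpr hx)
  · apply cj_eq_of_le
    intro y hy
    rw [mem_cj] at hy
    have hdP : (x : G)⁻¹ * y * x ∈ P := hDP hy
    have hm : (⟨(x : G)⁻¹ * y * x, hdP⟩ : P) ∈ D.subgroupOf P := Subgroup.mem_subgroupOf.mpr hy
    have := (Subgroup.mem_normalizer_iff.mp hxN _).mp hm
    rw [Subgroup.mem_subgroupOf] at this
    have e : ((x * (⟨(x : G)⁻¹ * y * x, hdP⟩ : P) * x⁻¹ : P) : G) = y := by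
      push_cast
      group
    rw [e] at this
    exact this

/-- Sylow's theorem inside a subgroup `N`, phrased for subgroups of `G` -/
theorem sup_conj_pgroup {N P₁ P₂ : Subgroup G} (h₁ : IsPGroup 2 P₁) (h₂ : IsPGroup 2 P₂)
    (h₁N : P₁ ≤ N) (h₂N : P₂ ≤ N) : ∃ n ∈ N, IsPGroup 2 (P₁ ⊔ cj n P₂ : Subgroup G) := by
  have hQ₁ : IsPGroup 2 (P₁.subgroupOf N) := h₁.comap_of_injective _ (Subgroup.subtype_injective _)
  have hQ₂ : IsPGroup 2 (P₂.subgroupOf N) := h₂.comap_of_injective _ (Subgroup.subtype_injective _)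
  obtain ⟨T₁, hT₁⟩ := hQ₁.exists_le_sylow
  obtain ⟨T₂, hT₂⟩ := hQ₂.exists_le_sylow
  obtain ⟨n, hn⟩ := MulAction.exists_smul_eq N T₂ T₁
  refine ⟨n, n.2, ?_⟩
  have hW : IsPGroup 2 ((T₁ : Subgroup N).map N.subtype) := T₁.isPGroup'.map _
  apply hW.to_le
  apply sup_le
  · intro y hy
    exact ⟨⟨y, h₁N hy⟩, hT₁ (Subgroup.mem_subgroupOf.mpr hy), rfl⟩
  · intro y hy
    rw [mem_cj] at hy
    have hyN : (n : G)⁻¹ * y * n ∈ N := h₂N hy
    have hm : (⟨(n : G)⁻¹ * y * n, hyN⟩ : N) ∈ (T₂ : Subgroup N) := hT₂ (Subgroup.mem_subgroupOf.mpr hy)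
    have hm2 : n * (⟨(n : G)⁻¹ * y * n, hyN⟩ : N) * n⁻¹ ∈ ((n • T₂ : Sylow 2 N) : Subgroup N) := by
      rw [Sylow.smul_def, Sylow.pointwise_smul_def, Subgroup.mem_pointwise_smul_iff_inv_smul_mem]
      simpa [MulAut.smul_def, mul_assoc] using hm
    rw [hn] at hm2
    refine ⟨_, hm2, ?_⟩
    show (n : G) * ((n : G)⁻¹ * y * n) * (n : G)⁻¹ = y
    group

variable (S : Sylow 2 G)

/-- the 2-generated core -/
def Gam : Subgroup G :=
  ⨆ Q : {Q : Subgroup G // Q ≤ (S : Subgroup G) ∧ ¬ Cfsg.PRankLE 2 1 Q},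
    Subgroup.normalizer ((Q : Subgroup G) : Set G)

theorem norm_le_Gam {D : Subgroup G} (hD : D ≤ (S : Subgroup G)) (h4 : HasFour D) :
    Subgroup.normalizer (D : Set G) ≤ Gam S :=
  le_iSup (fun Q : {Q : Subgroup G // Q ≤ (S : Subgroup G) ∧ ¬ Cfsg.PRankLE 2 1 Q} =>
    Subgroup.normalizer ((Q : Subgroup G) : Set G)) ⟨D, hD, not_prank_of_hasFour h4⟩

theorem exists_sylow_conj {Z : Subgroup G} (hZ : IsPGroup 2 Z) : ∃ g : G, Z ≤ cj g (S : Subgroup G) := by
  obtain ⟨S', hS'⟩ := hZ.exists_le_sylow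
  obtain ⟨g, hg⟩ := MulAction.exists_smul_eq G S S'
  refine ⟨g, ?_⟩
  have : (S' : Subgroup G) = cj g (S : Subgroup G) := by
    rw [← hg, Sylow.smul_def, Sylow.pointwise_smul_def]
  rw [← this]
  exact hS'

end sylow


section climb
variable {G : Type*} [Group G] [Finite G]

theorem card_lt_of_mem {A B : Subgroup G} (h : A ≤ B) {x : G} (hxB : x ∈ B) (hxA : x ∉ A) :
    Nat.card A < Nat.card B := by
  refine lt_of_le_of_ne (Subgroup.card_le_of_le h) ?_
  intro hc
  have := eq_of_le_card h (le_of_eq hc.symm)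
  rw [this] at hxA
  exact hxA hxB

theorem cj_inv_le_iff {g : G} {U V : Subgroup G} : cj g⁻¹ U ≤ V ↔ U ≤ cj g V := by
  rw [cj_le_iff, inv_inv]

variable (S : Sylow 2 G)

theorem climb : ∀ k : ℕ, ∀ g : G,
    Nat.card (S : Subgroup G) - Nat.card ((S : Subgroup G) ⊓ cj g (S : Subgroup G) : Subgroup G) = k →
    HasFour ((S : Subgroup G) ⊓ cj g (S : Subgroup G)) → g ∈ Gam S := by
  intro k
  induction k using Nat.strong_induction_on with
  | _ k ih =>
    intro g hk h4
    obtain ⟨D, hD⟩ : ∃ D : Subgroup G, D = (S : Subgroup G) ⊓ cj g (S : Subgroup G) := ⟨_, rfl⟩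
    rw [← hD] at hk h4
    have hDS : D ≤ (S : Subgroup G) := hD ▸ inf_le_left
    have hDgS : D ≤ cj g (S : Subgroup G) := hD ▸ inf_le_right
    by_cases hc : Nat.card D = Nat.card (S : Subgroup G)
    · have h1 : D = (S : Subgroup G) := eq_of_le_card hDS (by omega)
      have h2 : (S : Subgroup G) ≤ cj g (S : Subgroup G) := by
        intro y hy
        apply hDgS
        rw [h1]; exact hy
      have h3 : (S : Subgroup G) = cj g (S : Subgroup G) := eq_of_le_card h2 (by rw [card_cj])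
      have : g ∈ Subgroup.normalizer ((S : Subgroup G) : Set G) := mem_normalizer_of_cj_eq h3.symm
      exact norm_le_Gam S le_rfl (h4.mono hDS) this
    · have hlt : Nat.card D < Nat.card (S : Subgroup G) :=
        lt_of_le_of_ne (Subgroup.card_le_of_le hDS) hc
      have hlt2 : Nat.card D < Nat.card (cj g (S : Subgroup G)) := by rw [card_cj]; exact hlt
      obtain ⟨x₁, hx₁S, hx₁D, hx₁n⟩ := exists_normalizing S.isPGroup' hDS hlt
      obtain ⟨x₂, hx₂S, hx₂D, hx₂n⟩ := exists_normalizing (isPGroup_cj S.isPGroup' g) hDgS hlt2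
      obtain ⟨N, hN⟩ : ∃ N : Subgroup G, N = Subgroup.normalizer (D : Set G) := ⟨_, rfl⟩
      obtain ⟨P₁, hP₁d⟩ : ∃ P₁ : Subgroup G, P₁ = (S : Subgroup G) ⊓ N := ⟨_, rfl⟩
      obtain ⟨P₂, hP₂d⟩ : ∃ P₂ : Subgroup G, P₂ = cj g (S : Subgroup G) ⊓ N := ⟨_, rfl⟩
      have hP₁S : P₁ ≤ (S : Subgroup G) := hP₁d ▸ inf_le_left
      have hP₁N : P₁ ≤ N := hP₁d ▸ inf_le_right
      have hP₂S : P₂ ≤ cj g (S : Subgroup G) := hP₂d ▸ inf_le_left
      have hP₂N : P₂ ≤ N := hP₂d ▸ inf_le_right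
      have hP₁ : IsPGroup 2 P₁ := S.isPGroup'.to_le hP₁S
      have hP₂ : IsPGroup 2 P₂ := (isPGroup_cj S.isPGroup' g).to_le hP₂S
      obtain ⟨n, hnN, hZ⟩ := sup_conj_pgroup hP₁ hP₂ hP₁N hP₂N
      obtain ⟨g₁, hg₁⟩ := exists_sylow_conj S hZ
      have hDN : D ≤ N := hN ▸ Subgroup.le_normalizer
      have hDP₁ : D ≤ P₁ := hP₁d ▸ le_inf hDS hDN
      have hDP₂ : D ≤ P₂ := hP₂d ▸ le_inf hDgS hDN
      have hx₁P₁ : x₁ ∈ P₁ := by
        rw [hP₁d]; exact ⟨hx₁S, hN ▸ mem_normalizer_of_cj_eq hx₁n⟩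
      have hx₂P₂ : x₂ ∈ P₂ := by
        rw [hP₂d]; exact ⟨hx₂S, hN ▸ mem_normalizer_of_cj_eq hx₂n⟩
      have hcD1 : Nat.card D < Nat.card P₁ := card_lt_of_mem hDP₁ hx₁P₁ hx₁D
      have hcD2 : Nat.card D < Nat.card P₂ := card_lt_of_mem hDP₂ hx₂P₂ hx₂D
      have hnG : n ∈ Gam S := norm_le_Gam S hDS h4 (hN ▸ hnN)
      -- first element
      have hP₁g₁ : P₁ ≤ (S : Subgroup G) ⊓ cj g₁ (S : Subgroup G) :=
        le_inf hP₁S (le_sup_left.trans hg₁)
      have hg₁G : g₁ ∈ Gam S := by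
        refine ih _ ?_ g₁ rfl (h4.mono (hDP₁.trans hP₁g₁))
        have h1 := Subgroup.card_le_of_le hP₁g₁
        omega
      -- second element
      have hcjnD : cj n D = D := cj_eq_of_mem_normalizer (hN ▸ hnN)
      have hE : cj g₁⁻¹ (cj n P₂) ≤ (S : Subgroup G) ⊓ cj (g₁⁻¹ * n * g) (S : Subgroup G) := by
        apply le_inf
        · rw [cj_inv_le_iff]
          exact le_sup_right.trans hg₁
        · rw [cj_mul, cj_mul]
          exact cj_le_cj.mpr (cj_le_cj.mpr hP₂S)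
      have hE4 : HasFour (cj g₁⁻¹ (cj n P₂)) := by
        apply HasFour.conj
        have : HasFour (cj n D) := h4.conj n
        exact this.mono (cj_le_cj.mpr hDP₂)
      have hg₂G : g₁⁻¹ * n * g ∈ Gam S := by
        refine ih _ ?_ _ rfl (hE4.mono hE)
        have h1 := Subgroup.card_le_of_le hE
        rw [card_cj, card_cj] at h1
        omega
      have : g = n⁻¹ * (g₁ * (g₁⁻¹ * n * g)) := by group
      rw [this]
      exact mul_mem (inv_mem hnG) (mul_mem hg₁G hg₂G)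

end climb


section transfer
variable {G : Type*} [Group G]

theorem rel_map {S : Subgroup G} {X Y : Subgroup S}
    (h : IsKleinFour X ∧ IsKleinFour Y ∧ ∀ a ∈ X, ∀ b ∈ Y, a * b = b * a) :
    Rel G (X.map S.subtype) (Y.map S.subtype) := by
  refine ⟨kf_of_equiv (X.equivMapOfInjective _ (Subgroup.subtype_injective S)) h.1,
    kf_of_equiv (Y.equivMapOfInjective _ (Subgroup.subtype_injective S)) h.2.1, ?_⟩
  rintro _ ⟨a, ha, rfl⟩ _ ⟨b, hb, rfl⟩
  have := h.2.2 a ha b hb
  have := congrArg Subtype.val this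
  simpa using this

theorem conn_in_S {S : Subgroup G} (hS : Cfsg.IsFourConnected S) {A B : Subgroup G}
    (hA : A ≤ S) (hB : B ≤ S) (hkA : IsKleinFour A) (hkB : IsKleinFour B) : Conn G A B := by
  have hA' : IsKleinFour (A.subgroupOf S) := kf_of_equiv (Subgroup.subgroupOfEquivOfLe hA).symm hkA
  have hB' : IsKleinFour (B.subgroupOf S) := kf_of_equiv (Subgroup.subgroupOfEquivOfLe hB).symm hkB
  have h := hS _ _ hA' hB'
  have h2 : Conn G ((A.subgroupOf S).map S.subtype) ((B.subgroupOf S).map S.subtype) :=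
    Relation.ReflTransGen.lift (p := Rel G) (fun X : Subgroup S => X.map S.subtype)
      (fun X Y h => rel_map h) _ _ h
  rw [Subgroup.map_subgroupOf_eq_of_le hA, Subgroup.map_subgroupOf_eq_of_le hB] at h2
  exact h2

theorem isPGroup_four {U : Subgroup G} (h : IsKleinFour U) : IsPGroup 2 U :=
  IsPGroup.of_card (n := 2) (by rw [h.card_four]; norm_num)

theorem isPGroup_sup_of_commute {W W' : Subgroup G} (hW : IsPGroup 2 W) (hW' : IsPGroup 2 W')
    (hc : ∀ a ∈ W, ∀ b ∈ W', a * b = b * a) : IsPGroup 2 (W ⊔ W' : Subgroup G) := by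
  apply IsPGroup.to_sup_of_normal_right' hW hW'
  intro a ha
  rw [Subgroup.mem_normalizer_iff]
  intro b
  constructor
  · intro hb
    have := hc a ha b hb
    rw [this, mul_inv_cancel_right]
    exact hb
  · intro hb
    have := hc a ha _ hb
    have e : b = a * b * a⁻¹ := by
      have h2 : a * b = a * b * a⁻¹ * a := by group
      have h3 : a * b = a * (a * b * a⁻¹) := by rw [this]; exact h2
      exact mul_left_cancel h3
    rw [e]; exact hb

end transfer

section main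
variable {G : Type*} [Group G] [Finite G] (S : Sylow 2 G)

theorem step {V V' : Subgroup G} (hR : Rel G V V') {γ : G} (hγ : γ ∈ Gam S)
    (hV : cj γ V ≤ (S : Subgroup G)) : ∃ γ' ∈ Gam S, cj γ' V' ≤ (S : Subgroup G) := by
  have hR' : Rel G (cj γ V) (cj γ V') := hR.conj γ
  have hZ : IsPGroup 2 (cj γ V ⊔ cj γ V' : Subgroup G) :=
    isPGroup_sup_of_commute (isPGroup_four hR'.1) (isPGroup_four hR'.2.1) hR'.2.2
  obtain ⟨g', hg'⟩ := exists_sylow_conj S hZ
  have h1 : g' ∈ Gam S :=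
    climb S _ g' rfl ⟨cj γ V, le_inf hV (le_sup_left.trans hg'), hR'.1⟩
  refine ⟨g'⁻¹ * γ, mul_mem (inv_mem h1) hγ, ?_⟩
  rw [cj_mul, cj_inv_le_iff]
  exact le_sup_right.trans hg'

theorem chain {U₀ V : Subgroup G} (hU₀ : U₀ ≤ (S : Subgroup G)) (h : Conn G U₀ V) :
    ∃ γ ∈ Gam S, cj γ V ≤ (S : Subgroup G) := by
  induction h with
  | refl => exact ⟨1, one_mem _, by rw [cj_one]; exact hU₀⟩
  | tail _ hbc ih =>
    obtain ⟨γ, hγ, hV⟩ := ih
    exact step S hbc hγ hV

theorem gam_top_of_conn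
    (hc : ∀ U V : Subgroup G, IsKleinFour U → IsKleinFour V → Conn G U V) {U₀ : Subgroup G}
    (hU₀ : U₀ ≤ (S : Subgroup G)) (hk : IsKleinFour U₀) : Gam S = ⊤ := by
  rw [eq_top_iff]
  intro g _
  have h := hc U₀ (cj g U₀) hk (kf_cj hk)
  obtain ⟨γ, hγ, hV⟩ := chain S hU₀ h
  rw [← cj_mul, cj_le_iff] at hV
  have h1 : (γ * g)⁻¹ ∈ Gam S := climb S _ _ rfl ⟨U₀, le_inf hU₀ hV, hk⟩
  have h2 : γ * g ∈ Gam S := by simpa using inv_mem h1
  have : g = γ⁻¹ * (γ * g) := by group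
  rw [this]; exact mul_mem (inv_mem hγ) h2

/-- the elements moving `U₀` inside its connected component -/
def Hsub (U₀ : Subgroup G) : Subgroup G where
  carrier := {g | Conn G U₀ (cj g U₀)}
  one_mem' := by
    show Conn G U₀ (cj 1 U₀)
    rw [cj_one]
  mul_mem' := by
    intro a b ha hb
    show Conn G U₀ (cj (a * b) U₀)
    rw [cj_mul]
    exact Relation.ReflTransGen.trans ha (Conn.conj hb a)
  inv_mem' := by
    intro a ha
    show Conn G U₀ (cj a⁻¹ U₀)
    have := (Conn.conj ha a⁻¹).symm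
    rwa [cj_inv_cj] at this

theorem norm_le_Hsub (hS : Cfsg.IsFourConnected (S : Subgroup G)) {U₀ : Subgroup G}
    (hU₀ : U₀ ≤ (S : Subgroup G)) (hk : IsKleinFour U₀) {Q : Subgroup G}
    (hQ : Q ≤ (S : Subgroup G)) (h4 : HasFour Q) :
    Subgroup.normalizer (Q : Set G) ≤ Hsub U₀ := by
  intro g hg
  obtain ⟨U, hUQ, hkU⟩ := h4
  have hcj : cj g U ≤ (S : Subgroup G) := by
    have : cj g U ≤ cj g Q := cj_le_cj.mpr hUQ
    rw [cj_eq_of_mem_normalizer hg] at this
    exact this.trans hQ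
  have c1 : Conn G U₀ U := conn_in_S hS hU₀ (hUQ.trans hQ) hk hkU
  have c2 : Conn G U₀ (cj g U) := conn_in_S hS hU₀ hcj hk (kf_cj hkU)
  have c3 : Conn G (cj g U₀) (cj g U) := c1.conj g
  exact Relation.ReflTransGen.trans c2 c3.symm

theorem conn_of_gam_top (hS : Cfsg.IsFourConnected (S : Subgroup G)) (hG : Gam S = ⊤)
    {U₀ : Subgroup G} (hU₀ : U₀ ≤ (S : Subgroup G)) (hk : IsKleinFour U₀) :
    ∀ U V : Subgroup G, IsKleinFour U → IsKleinFour V → Conn G U V := by
  have hH : Hsub U₀ = ⊤ := by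
    rw [eq_top_iff, ← hG]
    unfold Gam
    apply iSup_le
    rintro ⟨Q, hQ, hr⟩
    exact norm_le_Hsub S hS hU₀ hk hQ (hasFour_of_not_prank hr)
  have key : ∀ V : Subgroup G, IsKleinFour V → Conn G U₀ V := by
    intro V hV
    obtain ⟨g, hg⟩ := exists_sylow_conj S (isPGroup_four hV)
    have h1 : cj g⁻¹ V ≤ (S : Subgroup G) := cj_inv_le_iff.mpr hg
    have c1 : Conn G U₀ (cj g⁻¹ V) := conn_in_S hS hU₀ h1 hk (kf_cj hV)
    have c2 := c1.conj g
    rw [cj_cj_inv] at c2
    have hgH : g ∈ Hsub U₀ := hH ▸ Subgroup.mem_top g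
    exact Relation.ReflTransGen.trans (show Conn G U₀ (cj g U₀) from hgH) c2
  intro U V hU hV
  exact Relation.ReflTransGen.trans (key U hU).symm (key V hV)

end main

/-- Let G be a finite group of 2-rank at least 2 and S a Sylow 2-subgroup whose commuting graph of Klein four-subgroups is
connected. Then the commuting graph of Klein four-subgroups of G is disconnected if and only if the 2-generated core — the
subgroup generated by the normalizers N_G(Q) of the subgroups Q of S that contain a Klein four-group — is a proper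
subgroup of G. -/
theorem result {G : Type*} [Group G] [Finite G] (h2 : ¬ Cfsg.PRankLE 2 1 G)
    (S : Sylow 2 G) (hS : Cfsg.IsFourConnected (S : Subgroup G)) :
    ¬ Cfsg.IsFourConnected G ↔
      (⨆ Q : {Q : Subgroup G // Q ≤ (S : Subgroup G) ∧ ¬ Cfsg.PRankLE 2 1 Q},
          Subgroup.normalizer ((Q : Subgroup G) : Set G)) ≠ ⊤ := by
  obtain ⟨U₁, hU₁⟩ := exists_four h2
  obtain ⟨g, hg⟩ := exists_sylow_conj S (isPGroup_four hU₁)
  have hU₀ : cj g⁻¹ U₁ ≤ (S : Subgroup G) := cj_inv_le_iff.mpr hg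
  have hk : IsKleinFour (cj g⁻¹ U₁) := kf_cj hU₁
  show ¬ Cfsg.IsFourConnected G ↔ Gam S ≠ ⊤
  rw [not_iff_not]
  constructor
  · intro hc
    exact gam_top_of_conn S hc hU₀ hk
  · intro hG
    exact conn_of_gam_top S hS hG hU₀ hk

end Cfsg.Agent.S0520
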