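import Cfsg.Statements.S0521
import Cfsg.Agent.Lib.Helper11.CyclicDerived

set_option autoImplicit false
open Cfsg

namespace Cfsg.Agent.S0521

/-- Let X be a finite solvable group of odd order, p a prime and S a Sylow p-subgroup of X whose commutator subgroup is
cyclic. Then the product of the largest normal subgroup of X of order prime to p with S is a normal subgroup of X. -/
theorem result {X : Type*} [Group X] [Finite X] [Group.IsSolvable X]
    (hX : Odd (Nat.card X)) (p : ℕ) [Fact p.Prime] (S : Sylow p X) (hS : IsCyclic (commutator (S : Subgroup X))) :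
    (Cfsg.pPrimeCore p X ⊔ (S : Subgroup X)).Normal := by
  have hKn : (Cfsg.pPrimeCore p X).Normal := Cfsg.Agent.Lib.Helper1.pPrimeCore_normal p
  obtain ⟨Sb, hSb⟩ : ∃ Sb : Subgroup (X ⧸ Cfsg.pPrimeCore p X),
      Sb = (S : Subgroup X).map (QuotientGroup.mk' (Cfsg.pPrimeCore p X)) := ⟨_, rfl⟩
  have hπ : Function.Surjective (QuotientGroup.mk' (Cfsg.pPrimeCore p X)) :=
    QuotientGroup.mk'_surjective _
  have hSbp : IsPGroup p ↥Sb := by rw [hSb]; exact S.isPGroup'.map _
  have hidx : ¬ p ∣ Sb.index := by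
    intro h
    have h1 : Sb.index ∣ (S : Subgroup X).index := by
      rw [hSb]; exact Subgroup.index_map_dvd _ hπ
    exact S.not_dvd_index (h.trans h1)
  have hPS : Cfsg.pCore p (X ⧸ Cfsg.pPrimeCore p X) ≤ Sb :=
    Cfsg.Agent.Lib.Helper1.pCore_le_sylow p (hSbp.toSylow hidx)
  have hcyc : IsCyclic ↥⁅Sb, Sb⁆ := by
    have h1 : ⁅Sb, Sb⁆ = (commutator ↥(S : Subgroup X)).map
        ((QuotientGroup.mk' (Cfsg.pPrimeCore p X)).comp (S : Subgroup X).subtype) := by
      rw [← Subgroup.map_map, commutator_def, Subgroup.map_commutator, Subgroup.map_commutator,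
        hSb]
      rw [← MonoidHom.range_eq_map, Subgroup.range_subtype]
    rw [h1]
    have : IsCyclic ↥(commutator ↥(S : Subgroup X)) := hS
    exact isCyclic_of_surjective
      (((QuotientGroup.mk' (Cfsg.pPrimeCore p X)).comp (S : Subgroup X).subtype).subgroupMap
        (commutator ↥(S : Subgroup X)))
      (MonoidHom.subgroupMap_surjective _ _)
  have hoddQ : Odd (Nat.card (X ⧸ Cfsg.pPrimeCore p X)) :=
    Odd.of_dvd_nat hX (Subgroup.card_quotient_dvd_card _)
  have hO : Cfsg.pPrimeCore p (X ⧸ Cfsg.pPrimeCore p X) = ⊥ :=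
    Cfsg.Agent.Lib.Helper1.pPrimeCore_quotient_eq_bot p
  have hle := Cfsg.Agent.Lib.Helper11.CyclicDerived.le_pCore_of_cyclic_commutator hoddQ p hO Sb
    hSbp hPS hcyc
  have heq : Sb = Cfsg.pCore p (X ⧸ Cfsg.pPrimeCore p X) := le_antisymm hle hPS
  have hSbn : Sb.Normal := by
    rw [heq]; exact Cfsg.Agent.Lib.Helper1.pCore_normal p
  have h2 : Cfsg.pPrimeCore p X ⊔ (S : Subgroup X) =
      Sb.comap (QuotientGroup.mk' (Cfsg.pPrimeCore p X)) := by
    rw [hSb, Subgroup.comap_map_eq, QuotientGroup.ker_mk', sup_comm]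
  rw [h2]
  exact Subgroup.Normal.comap hSbn _

end Cfsg.Agent.S0521
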