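import Cfsg.Statements.S0522
import Cfsg.Agent.Lib.Helper11.ThompsonTransOdd

set_option autoImplicit false
open Cfsg

namespace Cfsg.Agent.S0522

/-- Transitivity Theorem (odd-order setting). Let X be a finite group of odd order in which the normalizer of every
nontrivial p-subgroup is solvable, P a Sylow p-subgroup, and B an abelian subgroup of P, normalized by P, with
C_P(B) = B and containing an elementary abelian subgroup of order p^3. Then for every prime q ≠ p, any two q-subgroups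
that are maximal among the q-subgroups normalized by B are conjugate by an element of the centralizer of B. -/
theorem result {X : Type*} [Group X] [Finite X] (hX : Odd (Nat.card X)) (p : ℕ)
    [Fact p.Prime] (hloc : ∀ T : Subgroup X, IsPGroup p T → T ≠ ⊥ → Group.IsSolvable (Subgroup.normalizer (T : Set X)))
    (P : Sylow p X) (B : Subgroup X) (hBP : B ≤ (P : Subgroup X))
    (hBn : ∀ x ∈ (P : Subgroup X), ∀ b ∈ B, x * b * x⁻¹ ∈ B) (hBa : IsMulCommutative B)
    (hBc : (P : Subgroup X) ⊓ Subgroup.centralizer (B : Set X) = B)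
    (hB3 : ∃ E : Subgroup X, E ≤ B ∧ (∀ e ∈ E, e ^ p = 1) ∧ p ^ 3 ≤ Nat.card E)
    (q : ℕ) [Fact q.Prime] (hqp : q ≠ p) (Q₁ Q₂ : Subgroup X)
    (h₁ : IsPGroup q Q₁ ∧ B ≤ Subgroup.normalizer (Q₁ : Set X) ∧
      ∀ R : Subgroup X, IsPGroup q R → B ≤ Subgroup.normalizer (R : Set X) → Q₁ ≤ R → R = Q₁)
    (h₂ : IsPGroup q Q₂ ∧ B ≤ Subgroup.normalizer (Q₂ : Set X) ∧
      ∀ R : Subgroup X, IsPGroup q R → B ≤ Subgroup.normalizer (R : Set X) → Q₂ ≤ R → R = Q₂) :
    ∃ c ∈ Subgroup.centralizer (B : Set X), Q₂ = Q₁.map (MulAut.conj c).toMonoidHom := by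
  have hp : p.Prime := Fact.out
  have hBc' : ∀ a ∈ B, ∀ b ∈ B, a * b = b * a := by
    intro a ha b hb
    have := hBa.is_comm.comm (⟨a, ha⟩ : B) ⟨b, hb⟩
    exact congrArg Subtype.val this
  have hBp : IsPGroup p B := P.isPGroup'.to_le hBP
  have hBnorm : (P : Subgroup X) ≤ Subgroup.normalizer (B : Set X) := by
    intro x hx
    rw [Subgroup.mem_normalizer_iff]
    intro b
    constructor
    · exact hBn x hx b
    · intro hb
      have := hBn x⁻¹ ((P : Subgroup X).inv_mem hx) _ hb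
      have e : x⁻¹ * (x * b * x⁻¹) * x⁻¹⁻¹ = b := by group
      rwa [e] at this
  have hfull := Cfsg.Agent.Lib.Helper11.scn_full p P B hBnorm hBc
  obtain ⟨E, hEB, hEexp, hE3⟩ := hB3
  have hEel : Cfsg.IsElementaryAbelian p E :=
    ⟨⟨⟨fun x y => Subtype.ext (hBc' x (hEB x.2) y (hEB y.2))⟩⟩, hEexp⟩
  have hp2 : p ≠ 2 := by
    rintro rfl
    have hEp : IsPGroup 2 E := hBp.to_le hEB
    have h1 : 2 ∣ Nat.card E := by
      obtain ⟨k, hk⟩ := (IsPGroup.iff_card).mp hEp
      rw [hk] at hE3 ⊢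
      have hk0 : k ≠ 0 := by
        rintro rfl
        norm_num at hE3
      exact dvd_pow_self 2 hk0
    have h2 : 2 ∣ Nat.card X := h1.trans (Subgroup.card_subgroup_dvd_card E)
    exact (Nat.not_even_iff_odd.mpr hX) (even_iff_two_dvd.mpr h2)
  have hloc' : ∀ T : Subgroup X, IsPGroup p T → T ≠ ⊥ →
      Cfsg.IsPConstrained p ↥(Subgroup.normalizer (T : Set X)) := by
    intro T hT hTne
    have := hloc T hT hTne
    exact Cfsg.Agent.Lib.Helper11.isPConstrained_of_isSolvable p
  obtain ⟨c, hc, e⟩ := Cfsg.Agent.Lib.Helper11.thompson_transitivity_core p hloc'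
    (fun h => absurd h hp2) B hBp hBc' hfull E hEB hEel hE3 q hqp Q₁ Q₂ h₁ h₂
  refine ⟨c, ?_, e⟩
  have hCE : Cfsg.piCoreOf (Cfsg.primesNotDvd p) (Subgroup.centralizer (B : Set X)) ≤
      Subgroup.centralizer (B : Set X) := by
    unfold Cfsg.piCoreOf
    exact Subgroup.map_subtype_le _
  exact hCE hc

end Cfsg.Agent.S0522
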