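import Cfsg.Statements.S0529
import Cfsg.Agent.Lib.helper4.SupersolvableC

set_option autoImplicit false
open Cfsg

namespace Cfsg.Agent.S0529

open Cfsg.Agent.Lib.helper4

universe u

theorem exists_largest_prime (n : ℕ) (hn : 1 < n) :
    ∃ p : ℕ, p.Prime ∧ p ∣ n ∧ ∀ q : ℕ, q.Prime → q ∣ n → q ≤ p := by
  have hne : n.primeFactors.Nonempty := Nat.nonempty_primeFactors.mpr hn
  obtain ⟨p, hp, hmax⟩ := Finset.exists_max_image n.primeFactors id hne
  rw [Nat.mem_primeFactors] at hp
  refine ⟨p, hp.1, hp.2.1, ?_⟩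
  intro q hq hqd
  exact hmax q (Nat.mem_primeFactors.mpr ⟨hq, hqd, hp.2.2⟩)

theorem chain_aux (n : ℕ) : ∀ (G : Type u) [Group G] [Finite G], Nat.card G = n →
    IsSupersolvable G →
    ∃ (m : ℕ) (H : Fin (m + 1) → Subgroup G), H 0 = ⊥ ∧ H (Fin.last m) = ⊤ ∧
      (∀ i, (H i).Normal) ∧
      (∀ i : Fin m, H i.castSucc ≤ H i.succ ∧ ((H i.castSucc).relIndex (H i.succ)).Prime) ∧
      ∀ i j : Fin m, i ≤ j →
        (H j.castSucc).relIndex (H j.succ) ≤ (H i.castSucc).relIndex (H i.succ) := by
  induction n using Nat.strong_induction_on with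
  | _ n ih =>
    intro G _ _ hn hG
    by_cases hsub : Subsingleton G
    · refine ⟨0, fun _ => ⊥, rfl, ?_, fun _ => Subgroup.normal_bot, fun i => i.elim0,
        fun i => i.elim0⟩
      exact Subsingleton.elim _ _
    rw [not_subsingleton_iff_nontrivial] at hsub
    haveI := hsub
    have h1 : 1 < Nat.card G := Finite.one_lt_card
    obtain ⟨p, hp, hpd, hmax⟩ := exists_largest_prime (Nat.card G) h1
    obtain ⟨N, hN, hNp⟩ := exists_normal_largest_prime hG p hp hpd hmax
    haveI := hN
    have hlt : Nat.card (G ⧸ N) < n := by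
      rw [← hn]; exact card_quotient_lt N (hNp ▸ hp)
    obtain ⟨m, H, h0, hl, hnorm, hstep, hmono⟩ :=
      ih _ hlt (G ⧸ N) rfl (isSupersolvable_quotient N hG)
    have hsurj : Function.Surjective (QuotientGroup.mk' N) := QuotientGroup.mk'_surjective N
    set H' : Fin (m + 1 + 1) → Subgroup G :=
      Fin.cons ⊥ (fun i => (H i).comap (QuotientGroup.mk' N)) with hH'
    have hH'0 : H' 0 = ⊥ := Fin.cons_zero _ _
    have hH's : ∀ i : Fin (m + 1), H' i.succ = (H i).comap (QuotientGroup.mk' N) := by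
      intro i
      rw [hH', Fin.cons_succ]
    have hr0 : (H' (Fin.castSucc (0 : Fin (m + 1)))).relIndex (H' (Fin.succ (0 : Fin (m + 1)))) = p := by
      have e : Fin.castSucc (0 : Fin (m + 1)) = 0 := rfl
      rw [e, hH'0, hH's, h0, Subgroup.relIndex_bot_left, MonoidHom.comap_bot,
        QuotientGroup.ker_mk', hNp]
    have hrs : ∀ j : Fin m, (H' (Fin.castSucc j.succ)).relIndex (H' (Fin.succ j.succ)) =
        (H j.castSucc).relIndex (H j.succ) := by
      intro j
      have e : Fin.castSucc j.succ = (Fin.castSucc j).succ := rfl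
      rw [e, hH's, hH's, Subgroup.relIndex_comap,
        Subgroup.map_comap_eq_self_of_surjective hsurj]
    have hle : ∀ j : Fin m, (H j.castSucc).relIndex (H j.succ) ≤ p := by
      intro j
      apply hmax _ (hstep j).2
      have h1 : (H j.castSucc).relIndex (H j.succ) ∣ Nat.card (H j.succ) :=
        Subgroup.relIndex_dvd_card _ _
      have h2 : Nat.card (H j.succ) ∣ Nat.card (G ⧸ N) := Subgroup.card_subgroup_dvd_card _
      have h3 : Nat.card (G ⧸ N) ∣ Nat.card G := by
        rw [Subgroup.card_eq_card_quotient_mul_card_subgroup N]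
        exact Dvd.intro _ rfl
      exact dvd_trans h1 (dvd_trans h2 h3)
    refine ⟨m + 1, H', hH'0, ?_, ?_, ?_, ?_⟩
    · have e : Fin.last (m + 1) = (Fin.last m).succ := rfl
      rw [e, hH's, hl, Subgroup.comap_top]
    · intro i
      refine Fin.cases ?_ (fun j => ?_) i
      · rw [hH'0]; exact Subgroup.normal_bot
      · rw [hH's]; exact Subgroup.Normal.comap (hnorm j) _
    · intro i
      refine Fin.cases ?_ (fun j => ?_) i
      · refine ⟨?_, ?_⟩
        · have e : Fin.castSucc (0 : Fin (m + 1)) = 0 := rfl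
          rw [e, hH'0]; exact bot_le
        · rw [hr0]; exact hp
      · refine ⟨?_, ?_⟩
        · have e : Fin.castSucc j.succ = (Fin.castSucc j).succ := rfl
          rw [e, hH's, hH's]
          exact Subgroup.comap_mono (hstep j).1
        · rw [hrs]; exact (hstep j).2
    · intro i j
      refine Fin.cases ?_ (fun i' => ?_) i
      · intro _
        refine Fin.cases ?_ (fun j' => ?_) j
        · exact le_refl _
        · rw [hr0, hrs]; exact hle j'
      · refine Fin.cases ?_ (fun j' => ?_) j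
        · intro h
          exfalso
          exact absurd h (by simp [Fin.succ_ne_zero])
        · intro h
          rw [hrs, hrs]
          exact hmono i' j' (Fin.succ_le_succ_iff.mp h)

theorem result {G : Type*} [Group G] [Finite G] (hG : Cfsg.IsSupersolvable G) : ∃ (n : ℕ) (H : Fin (n + 1) → Subgroup G), H 0 = ⊥ ∧ H (Fin.last n) = ⊤ ∧ (∀ i, (H i).Normal) ∧ (∀ i : Fin n, H i.castSucc ≤ H i.succ ∧ ((H i.castSucc).relIndex (H i.succ)).Prime) ∧ ∀ i j : Fin n, i ≤ j → (H j.castSucc).relIndex (H j.succ) ≤ (H i.castSucc).relIndex (H i.succ) := by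
  exact chain_aux _ G rfl hG

end Cfsg.Agent.S0529
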