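import Cfsg.Statements.S0534
import Cfsg.Agent.Lib.helper4.Supersolvable
import Cfsg.Agent.Lib.helper4.SupersolvableB
import Cfsg.Agent.Lib.Helper1.Hall

set_option autoImplicit false
open Cfsg

namespace Cfsg.Agent.S0534

open Cfsg.Agent.Lib.helper4

universe u

theorem hall_split (n m d : ℕ) (hn : n ≠ 0) (hm : m ≠ 0) (hd : d ∣ n * m)
    (hexp : ∀ p : ℕ, p.Prime → p ∣ n → m.factorization p + 1 = n.factorization p) :
    ∃ h : ℕ, h ∣ n ∧ h.Coprime (n / h) ∧ h ∣ d ∧ d / h ∣ m := by
  classical
  set f : ℕ →₀ ℕ := n.factorization.filter (fun p => n.factorization p ≤ d.factorization p) with hf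
  have hfle : f ≤ n.factorization := by
    intro p
    rw [hf, Finsupp.filter_apply]
    split_ifs
    · exact le_refl _
    · exact Nat.zero_le _
  set h := f.prod (· ^ ·) with hh
  have hfact : h.factorization = f := Nat.factorization_prod_pow_eq_self_of_le_factorization hfle
  have hhn : h ∣ n := Nat.prod_pow_dvd_of_le_factorization hfle
  have hh0 : h ≠ 0 := fun h0 => hn (Nat.eq_zero_of_zero_dvd (h0 ▸ hhn))
  have hnm0 : n * m ≠ 0 := Nat.mul_ne_zero hn hm
  have hd0 : d ≠ 0 := fun h0 => hnm0 (Nat.eq_zero_of_zero_dvd (h0 ▸ hd))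
  have hdfact : ∀ p, d.factorization p ≤ n.factorization p + m.factorization p := by
    intro p
    have := (Nat.factorization_le_iff_dvd hd0 hnm0).mpr hd p
    rwa [Nat.factorization_mul hn hm, Finsupp.add_apply] at this
  have hfp : ∀ p, f p = if n.factorization p ≤ d.factorization p then n.factorization p else 0 := by
    intro p
    rw [hf, Finsupp.filter_apply]
  have hhd : h ∣ d := by
    rw [← Nat.factorization_le_iff_dvd hh0 hd0, hfact]
    intro p
    rw [hfp]
    split_ifs with hc
    · exact hc
    · exact Nat.zero_le _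
  refine ⟨h, hhn, ?_, hhd, ?_⟩
  · apply Nat.coprime_of_dvd
    intro k hk hkh hkn
    have hnh0 : n / h ≠ 0 := by
      intro h0
      rw [Nat.div_eq_zero_iff] at h0
      rcases h0 with h0 | h0
      · exact hh0 h0
      · exact absurd (Nat.le_of_dvd (Nat.pos_of_ne_zero hn) hhn) (not_le.mpr h0)
    have h1 : 0 < h.factorization k := hk.factorization_pos_of_dvd hh0 hkh
    have h2 : 0 < (n / h).factorization k := hk.factorization_pos_of_dvd hnh0 hkn
    rw [Nat.factorization_div hhn, Finsupp.tsub_apply, hfact] at h2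
    rw [hfact] at h1
    rw [hfp] at h1 h2
    split_ifs at h1 h2 with hc <;> omega
  · have hdh0 : d / h ≠ 0 := by
      intro h0
      rw [Nat.div_eq_zero_iff] at h0
      rcases h0 with h0 | h0
      · exact hh0 h0
      · exact absurd (Nat.le_of_dvd (Nat.pos_of_ne_zero hd0) hhd) (not_le.mpr h0)
    rw [← Nat.factorization_le_iff_dvd hdh0 hm, Nat.factorization_div hhd, hfact]
    intro p
    rw [Finsupp.tsub_apply, hfp]
    have hdp := hdfact p
    split_ifs with hc
    · omega
    · push_neg at hc
      have hnp : n.factorization p ≠ 0 := by omega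
      have hpmem : p ∈ n.factorization.support := Finsupp.mem_support_iff.mpr hnp
      rw [Nat.support_factorization, Nat.mem_primeFactors] at hpmem
      have := hexp p hpmem.1 hpmem.2.1
      omega

theorem abelian_supersolvable_aux (n : ℕ) : ∀ (A : Type u) [CommGroup A] [Finite A],
    Nat.card A = n → IsSupersolvable A := by
  induction n using Nat.strong_induction_on with
  | _ n ih =>
    intro A _ _ hn
    by_cases hsub : Subsingleton A
    · exact isSupersolvable_of_subsingleton
    rw [not_subsingleton_iff_nontrivial] at hsub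
    obtain ⟨g, hg⟩ := exists_ne (1 : A)
    haveI : (Subgroup.zpowers g).Normal := Subgroup.normal_of_comm _
    apply isSupersolvable_of_cyclic_normal (Subgroup.zpowers g)
    apply ih (Nat.card (A ⧸ Subgroup.zpowers g)) ?_ _ rfl
    rw [← hn]
    have h1 := Subgroup.card_eq_card_quotient_mul_card_subgroup (Subgroup.zpowers g)
    have h2 : 2 ≤ Nat.card (Subgroup.zpowers g) := by
      rw [Nat.card_zpowers]
      have := orderOf_pos g
      have : orderOf g ≠ 1 := fun h => hg (orderOf_eq_one_iff.mp h)
      omega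
    have h3 : 0 < Nat.card (A ⧸ Subgroup.zpowers g) := Nat.card_pos
    rw [h1]
    nlinarith

theorem abelian_clt {A : Type u} [CommGroup A] [Finite A] : HasSubgroupOfEveryOrder A :=
  hasSubgroupOfEveryOrder (abelian_supersolvable_aux _ A rfl)

theorem result {G A : Type*} [Group G] [CommGroup A] [Finite G] [Finite A] [Group.IsSolvable G] (hA : ∀ p : ℕ, p.Prime → p ∣ Nat.card A → p ∣ Nat.card G) (hexp : ∀ p : ℕ, p.Prime → p ∣ Nat.card G → (Nat.card A).factorization p + 1 = (Nat.card G).factorization p) : Cfsg.HasSubgroupOfEveryOrder (G × A) := by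
  intro d hd
  rw [Nat.card_prod] at hd
  obtain ⟨h, hhn, hcop, hhd, hdm⟩ := hall_split (Nat.card G) (Nat.card A) d Nat.card_pos.ne'
    Nat.card_pos.ne' hd hexp
  have hG : Nat.card G = h * (Nat.card G / h) := (Nat.mul_div_cancel' hhn).symm
  obtain ⟨H, hH⟩ := Cfsg.Agent.Lib.Helper1.hall_exists h (Nat.card G / h) hG hcop
  obtain ⟨B, hB⟩ := abelian_clt (A := A) (d / h) hdm
  refine ⟨H.prod B, ?_⟩
  rw [Nat.card_congr (Subgroup.prodEquiv H B).toEquiv, Nat.card_prod, hH, hB]
  exact Nat.mul_div_cancel' hhd

end Cfsg.Agent.S0534
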