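import Mathlib
import Cfsg.Statements.S0542

set_option autoImplicit false
open Cfsg

namespace Cfsg.Agent.S0542

theorem relIndex_dvd_index {K : Type*} [Group K] [Finite K] (N T : Subgroup K) [N.Normal] :
    T.relIndex N ∣ T.index := by
  have hA : (T ⊓ N).relIndex N * N.index = (T ⊓ N).index :=
    Subgroup.relIndex_mul_index inf_le_right
  have hB : (T ⊓ N).relIndex T * T.index = (T ⊓ N).index :=
    Subgroup.relIndex_mul_index inf_le_left
  have hC : N.relIndex (T ⊔ N) * (T ⊔ N).index = N.index :=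
    Subgroup.relIndex_mul_index le_sup_right
  rw [Subgroup.inf_relIndex_right] at hA
  rw [Subgroup.inf_relIndex_left, ← Subgroup.relIndex_sup_right T N] at hB
  have hne : N.relIndex (T ⊔ N) ≠ 0 := by
    intro h0
    have h1 : N.relIndex (T ⊔ N) ∣ Nat.card (T ⊔ N : Subgroup K) := Subgroup.relIndex_dvd_card _ _
    rw [h0] at h1
    have := Nat.eq_zero_of_zero_dvd h1
    have hpos : 0 < Nat.card (T ⊔ N : Subgroup K) := Nat.card_pos
    omega
  have key : N.relIndex (T ⊔ N) * (T.relIndex N * (T ⊔ N).index) = N.relIndex (T ⊔ N) * T.index := by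
    rw [hB, ← hA, ← hC]; ring
  have := Nat.eq_of_mul_eq_mul_left (Nat.pos_of_ne_zero hne) key
  exact ⟨_, this.symm⟩

theorem step_aux {G : Type*} [Group G] [Finite G] (p : ℕ) (S H K : Subgroup G) (hHK : H ≤ K)
    (hN : (H.subgroupOf K).Normal) (hK : ¬ p ∣ S.relIndex K) : ¬ p ∣ S.relIndex H := by
  intro hdvd
  apply hK
  have h1 := relIndex_dvd_index (H.subgroupOf K) (S.subgroupOf K)
  rw [Subgroup.relIndex_subgroupOf hHK] at h1
  exact hdvd.trans h1

theorem result {G : Type*} [Group G] [Finite G] (p : ℕ) [Fact p.Prime] (H : Subgroup G) (hH : H.IsSubnormal) (S : Sylow p G) : ∃ Q : Sylow p H, (Q : Subgroup H) = (S : Subgroup G).subgroupOf H := by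
  have key : ¬ p ∣ (S : Subgroup G).relIndex H := by
    induction hH with
    | top =>
      rw [Subgroup.relIndex_top_right]
      exact S.not_dvd_index
    | step H K h_le hSubn hN ih =>
      exact step_aux p (S : Subgroup G) H K h_le hN ih
  have hp : IsPGroup p ((S : Subgroup G).subgroupOf H) := S.isPGroup'.comap_subtype
  exact ⟨hp.toSylow key, IsPGroup.toSylow_coe hp key⟩

end Cfsg.Agent.S0542
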