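import Mathlib
import Cfsg.Statements.S0549

set_option autoImplicit false
open Cfsg
open Pointwise

namespace Cfsg.Agent.S0549

theorem sup_eq_top {G : Type*} [Group G] (U : Subgroup G) (hU : IsCoatom U)
    (hcore : U.normalCore = ⊥) (K : Subgroup G) [K.Normal] (hK : K ≠ ⊥) : K ⊔ U = ⊤ := by
  have hnot : ¬ K ≤ U := by
    intro h
    have : K ≤ U.normalCore := Subgroup.normal_le_normalCore.mpr h
    rw [hcore] at this
    exact hK (le_bot_iff.mp this)
  apply hU.lt_iff.mp
  apply lt_of_le_of_ne le_sup_right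
  intro h
  apply hnot
  rw [h]
  exact le_sup_left

theorem exists_mul {G : Type*} [Group G] (U : Subgroup G) (hU : IsCoatom U)
    (hcore : U.normalCore = ⊥) (K : Subgroup G) [K.Normal] (hK : K ≠ ⊥) (g : G) :
    ∃ k ∈ K, ∃ u ∈ U, g = k * u := by
  have h := sup_eq_top U hU hcore K hK
  have hg : g ∈ ((K ⊔ U : Subgroup G) : Set G) := by rw [h]; trivial
  rw [Subgroup.normal_mul] at hg
  obtain ⟨k, hk, u, hu, rfl⟩ := hg
  exact ⟨k, hk, u, hu, rfl⟩

theorem result {G : Type*} [Group G] [Finite G] (U : Subgroup G) (hU : IsCoatom U) (hcore : U.normalCore = ⊥) (N : Subgroup G) [N.Normal] (hN : N ≠ ⊥) : Subgroup.centralizer (N : Set G) ⊓ U = ⊥ ∧ (Subgroup.centralizer (N : Set G) = ⊥ ∨ (Subgroup.centralizer (N : Set G) ≠ ⊥ ∧ ∀ K : Subgroup G, K.Normal → K ≤ Subgroup.centralizer (N : Set G) → K = ⊥ ∨ K = Subgroup.centralizer (N : Set G))) := by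
  haveI hCn : (Subgroup.centralizer (N : Set G)).Normal := inferInstance
  have h1 : Subgroup.centralizer (N : Set G) ⊓ U = ⊥ := by
    have hnorm : (Subgroup.centralizer (N : Set G) ⊓ U).Normal := by
      constructor
      intro d hd g
      obtain ⟨n, hn, u, hu, rfl⟩ := exists_mul U hU hcore N hN g
      have hdC : d ∈ Subgroup.centralizer (N : Set G) := hd.1
      have hdU : d ∈ U := hd.2
      have h2 : u * d * u⁻¹ ∈ Subgroup.centralizer (N : Set G) ⊓ U :=
        ⟨hCn.conj_mem d hdC u, U.mul_mem (U.mul_mem hu hdU) (U.inv_mem hu)⟩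
      have h3 : n * (u * d * u⁻¹) = (u * d * u⁻¹) * n := by
        have h4 : u * d * u⁻¹ ∈ Subgroup.centralizer (N : Set G) := h2.1
        rw [Subgroup.mem_centralizer_iff] at h4
        exact h4 n hn
      have : n * u * d * (n * u)⁻¹ = u * d * u⁻¹ := by
        calc n * u * d * (n * u)⁻¹ = n * (u * d * u⁻¹) * n⁻¹ := by group
          _ = (u * d * u⁻¹) * n * n⁻¹ := by rw [h3]
          _ = u * d * u⁻¹ := by group
      rw [this]
      exact h2
    have hle : Subgroup.centralizer (N : Set G) ⊓ U ≤ U.normalCore :=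
      Subgroup.normal_le_normalCore.mpr inf_le_right
    rw [hcore] at hle
    exact le_bot_iff.mp hle
  refine ⟨h1, ?_⟩
  by_cases hC : Subgroup.centralizer (N : Set G) = ⊥
  · exact Or.inl hC
  · refine Or.inr ⟨hC, fun K hKn hKC => ?_⟩
    by_cases hK : K = ⊥
    · exact Or.inl hK
    · right
      apply le_antisymm hKC
      intro c hc
      haveI := hKn
      obtain ⟨k, hk, u, hu, rfl⟩ := exists_mul U hU hcore K hK c
      have huC : u ∈ Subgroup.centralizer (N : Set G) := by
        have : u = k⁻¹ * (k * u) := by group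
        rw [this]
        exact Subgroup.mul_mem _ (Subgroup.inv_mem _ (hKC hk)) hc
      have : u ∈ Subgroup.centralizer (N : Set G) ⊓ U := ⟨huC, hu⟩
      rw [h1, Subgroup.mem_bot] at this
      rw [this, mul_one]
      exact hk

end Cfsg.Agent.S0549
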