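import Cfsg.Statements.S0553
import Cfsg.Agent.Lib.helper4.HallSysB
import Cfsg.Agent.Lib.helper4.Supersolvable
import Cfsg.Agent.Lib.Helper1.MinNormal
import Cfsg.Agent.Lib.Helper1.Hall

set_option autoImplicit false
open Cfsg

namespace Cfsg.Agent.S0553

open Cfsg.Agent.Lib.helper4 Cfsg.Agent.Lib.helper8 Subgroup

universe u

theorem all_sylow_normal {G : Type*} [Group G] [Finite G] (p : ℕ) [Fact p.Prime] (Q : Subgroup G)
    [hQn : Q.Normal] (hQ : IsPGroup p Q) (hidx : ¬ p ∣ Q.index) :
    ∀ P : Sylow p G, (P : Subgroup G).Normal := by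
  intro P
  let P0 : Sylow p G := hQ.toSylow hidx
  have hP0 : (P0 : Subgroup G) = Q := hQ.toSylow_coe hidx
  haveI : (P0 : Subgroup G).Normal := by rw [hP0]; exact hQn
  obtain ⟨g, hg⟩ := MulAction.exists_smul_eq G P0 P
  rw [← hg, Sylow.smul_eq_of_normal]
  infer_instance

theorem relIndex_sup_of_normal_right {G : Type*} [Group G] [Finite G] (H N : Subgroup G)
    [N.Normal] : H.relIndex (H ⊔ N) = H.relIndex N := by
  have e1 := h8_card_mul_relIndex (inf_le_left : H ⊓ N ≤ H)
  have e2 := h8_card_mul_relIndex (inf_le_right : H ⊓ N ≤ N)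
  have e3 := h8_card_mul_relIndex (le_sup_right : N ≤ H ⊔ N)
  have e4 := h8_card_mul_relIndex (le_sup_left : H ≤ H ⊔ N)
  rw [Subgroup.inf_relIndex_left] at e1
  rw [Subgroup.inf_relIndex_right] at e2
  rw [Subgroup.relIndex_sup_right] at e3
  have hpos : 0 < Nat.card H := Nat.card_pos
  have key : Nat.card H * H.relIndex (H ⊔ N) = Nat.card H * H.relIndex N := by
    rw [e4, ← e3, ← e2, ← e1]; ring
  exact Nat.eq_of_mul_eq_mul_left hpos key

theorem isCoatom_comap {G H : Type*} [Group G] [Group H] {f : G →* H}
    (hf : Function.Surjective f) {M : Subgroup H} (hM : IsCoatom M) : IsCoatom (M.comap f) := by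
  constructor
  · intro h
    rw [← Subgroup.comap_top f] at h
    exact hM.1 (Subgroup.comap_injective hf h)
  · intro X hX
    have hker : f.ker ≤ X := (Subgroup.ker_le_comap f M).trans hX.le
    have h1 : M ≤ X.map f := by
      rw [← Subgroup.map_comap_eq_self_of_surjective hf M]
      exact Subgroup.map_mono hX.le
    have h2 : M ≠ X.map f := by
      intro h
      have : X ≤ M.comap f := by
        rw [h]
        exact Subgroup.le_comap_map f X
      exact absurd hX (not_lt_of_ge this)
    have h3 := hM.2 _ (lt_of_le_of_ne h1 h2)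
    have h4 : (X.map f).comap f = X := Subgroup.comap_map_eq_self hker
    rw [h3, Subgroup.comap_top] at h4
    exact h4.symm

theorem aux (n : ℕ) : ∀ (G : Type u) [Group G] [Finite G] [Group.IsSolvable G] [Nontrivial G],
    Nat.card G = n → (∀ M : Subgroup G, IsCoatom M → (Nat.card M).Coprime M.index) →
    ∃ p : ℕ, p.Prime ∧ p ∣ Nat.card G ∧ ∀ P : Sylow p G, (P : Subgroup G).Normal := by
  induction n using Nat.strong_induction_on with
  | _ n ih =>
    intro G _ _ _ _ hn h
    obtain ⟨N, hNn, hNbot, hNmin⟩ := Cfsg.Agent.Lib.Helper1.exists_minimal_normal (G := G)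
    haveI := hNn
    obtain ⟨-, p, hp, hexp⟩ := Cfsg.Agent.Lib.Helper1.minimal_normal_of_solvable N hNbot hNmin
    haveI : Fact p.Prime := ⟨hp⟩
    have hNp : IsPGroup p N := by
      intro x
      refine ⟨1, ?_⟩
      rw [pow_one]
      apply Subtype.ext
      exact hexp x x.2
    obtain ⟨a, ha⟩ := hNp.exists_card_eq
    have ha0 : a ≠ 0 := by
      intro h0
      rw [h0, pow_zero] at ha
      exact hNbot (Subgroup.card_eq_one.mp ha)
    have hpN : p ∣ Nat.card N := by rw [ha]; exact dvd_pow_self p ha0
    have hpG : p ∣ Nat.card G := hpN.trans (Subgroup.card_subgroup_dvd_card N)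
    by_cases hidxN : ¬ p ∣ N.index
    · exact ⟨p, hp, hpG, all_sylow_normal p N hNp hidxN⟩
    push_neg at hidxN
    -- every coatom contains N or gives the result
    by_cases hB : ∀ M : Subgroup G, IsCoatom M → N ≤ M
    · -- pass to the quotient
      haveI : Nontrivial (G ⧸ N) := by
        rw [← not_subsingleton_iff_nontrivial]
        intro hs
        have : N = ⊤ := QuotientGroup.subgroup_eq_top_of_subsingleton N hs
        rw [this, Subgroup.index_top] at hidxN
        exact hp.one_lt.ne' (Nat.dvd_one.mp hidxN)
      have hlt : Nat.card (G ⧸ N) < n := by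
        rw [← hn]
        have h1 := Subgroup.card_eq_card_quotient_mul_card_subgroup N
        have h2 : 2 ≤ Nat.card N := by
          have := hp.two_le
          exact this.trans (Nat.le_of_dvd Nat.card_pos hpN)
        have h3 : 0 < Nat.card (G ⧸ N) := Nat.card_pos
        rw [h1]
        nlinarith
      have hsurj : Function.Surjective (QuotientGroup.mk' N) := QuotientGroup.mk'_surjective N
      obtain ⟨r, hr, hrd, hrS⟩ := ih _ hlt (G ⧸ N) rfl (by
        intro Mb hMb
        have hM := isCoatom_comap hsurj hMb
        have h1 := h _ hM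
        rw [card_comap_mk', Subgroup.index_comap_of_surjective _ hsurj] at h1
        exact Nat.Coprime.coprime_mul_right h1)
      haveI : Fact r.Prime := ⟨hr⟩
      let Rb : Sylow r (G ⧸ N) := default
      haveI hRbn : (Rb : Subgroup (G ⧸ N)).Normal := hrS Rb
      set R : Subgroup G := (Rb : Subgroup (G ⧸ N)).comap (QuotientGroup.mk' N) with hR
      haveI hRn : R.Normal := Subgroup.Normal.comap hRbn _
      have hRcard : Nat.card R = Nat.card (Rb : Subgroup (G ⧸ N)) * Nat.card N := card_comap_mk' N _
      have hRidx : R.index = (Rb : Subgroup (G ⧸ N)).index :=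
        Subgroup.index_comap_of_surjective _ hsurj
      have hRbidx : ¬ r ∣ (Rb : Subgroup (G ⧸ N)).index := Rb.not_dvd_index
      obtain ⟨b, hb⟩ := Rb.2.exists_card_eq
      have hrG : r ∣ Nat.card G := by
        rw [Subgroup.card_eq_card_quotient_mul_card_subgroup N]
        exact Dvd.dvd.mul_right hrd _
      have hNR : N ≤ R := by
        rw [hR]
        have := Subgroup.ker_le_comap (QuotientGroup.mk' N) (Rb : Subgroup (G ⧸ N))
        rwa [QuotientGroup.ker_mk'] at this
      by_cases hrp : r = p
      · subst hrp
        refine ⟨r, hr, hrG, all_sylow_normal r R ?_ (by rw [hRidx]; exact hRbidx)⟩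
        apply IsPGroup.of_card (n := b + a)
        rw [hRcard, hb, ha, pow_add]
      · -- Frattini argument
        let S : Sylow r R := default
        set S' : Subgroup G := (S : Subgroup R).map R.subtype with hS'
        have hS'R : S' ≤ R := Subgroup.map_subtype_le _
        have hfr : normalizer (S' : Set G) ⊔ R = ⊤ := Sylow.normalizer_sup_eq_top S
        have hS'card : Nat.card S' = r ^ b := by
          rw [hS', Subgroup.card_map_of_injective (Subgroup.subtype_injective R),
            Sylow.card_eq_multiplicity, hRcard, hb, ha]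
          have hpr : ¬ r ∣ p ^ a := by
            intro hd
            have := (Nat.prime_dvd_prime_iff_eq hr hp).mp (hr.dvd_of_dvd_pow hd)
            exact hrp this
          rw [Nat.factorization_mul (pow_ne_zero _ hr.ne_zero) (pow_ne_zero _ hp.ne_zero),
            Finsupp.add_apply, Nat.factorization_eq_zero_of_not_dvd hpr, add_zero,
            Nat.Prime.factorization_pow hr, Finsupp.single_eq_same]
        have hcop : (Nat.card S').Coprime (Nat.card N) := by
          rw [hS'card, ha]
          apply Nat.Coprime.pow
          rw [Nat.coprime_primes hr hp]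
          exact hrp
        have hinf : S' ⊓ N = ⊥ := Cfsg.Agent.Lib.Helper1.inf_eq_bot_of_coprime_card S' N hcop
        have hsupcard : Nat.card (S' ⊔ N : Subgroup G) = Nat.card R := by
          rw [Cfsg.Agent.Lib.Helper1.card_sup_eq_mul_of_inf_eq_bot S' N hinf, hS'card, hRcard, hb]
        have hsup : S' ⊔ N = R := by
          apply Subgroup.eq_of_le_of_card_ge (sup_le hS'R hNR)
          rw [hsupcard]
        have hnorm : normalizer (S' : Set G) ⊔ N = ⊤ := by
          rw [← hsup, ← sup_assoc, sup_eq_left.mpr (Subgroup.le_normalizer : S' ≤ normalizer (S' : Set G))] at hfr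
          exact hfr
        have htop : normalizer (S' : Set G) = ⊤ := by
          rcases eq_top_or_exists_le_coatom (normalizer (S' : Set G)) with h1 | ⟨M, hM, hle⟩
          · exact h1
          · exfalso
            have : normalizer (S' : Set G) ⊔ N ≤ M := sup_le hle (hB M hM)
            rw [hnorm] at this
            exact hM.1 (top_le_iff.mp this)
        haveI hS'n : S'.Normal := Subgroup.normalizer_eq_top_iff.mp htop
        refine ⟨r, hr, hrG, all_sylow_normal r S' (IsPGroup.of_card hS'card) ?_⟩
        intro hd
        have h1 : S'.index = S'.relIndex R * R.index := (Subgroup.relIndex_mul_index hS'R).symm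
        have h2 : Nat.card S' * S'.relIndex R = Nat.card R := h8_card_mul_relIndex hS'R
        rw [hS'card, hRcard, hb, ha] at h2
        have h3 : S'.relIndex R = p ^ a :=
          Nat.eq_of_mul_eq_mul_left (pow_pos hr.pos b) h2
        rw [h1, h3, hRidx] at hd
        rcases (Nat.Prime.dvd_mul hr).mp hd with h4 | h4
        · have := (Nat.prime_dvd_prime_iff_eq hr hp).mp (hr.dvd_of_dvd_pow h4)
          exact hrp this
        · exact hRbidx h4
    · -- some coatom does not contain N
      push_neg at hB
      obtain ⟨M, hM, hNM⟩ := hB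
      have hsup : M ⊔ N = ⊤ := by
        by_contra hne
        have : M < M ⊔ N := lt_of_le_of_ne le_sup_left (fun h' => hNM (h' ▸ le_sup_right))
        exact hne (hM.2 _ this)
      have hidxM : M.index = M.relIndex N := by
        rw [← relIndex_sup_of_normal_right M N, hsup, Subgroup.relIndex_top_right]
      have hdvd : M.index ∣ p ^ a := by
        rw [hidxM, ← ha]
        exact Subgroup.relIndex_dvd_card M N
      have hM1 : M.index ≠ 1 := fun h1 => hM.1 (Subgroup.index_eq_one.mp h1)
      obtain ⟨j, -, hj⟩ := (Nat.dvd_prime_pow hp).mp hdvd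
      have hj0 : j ≠ 0 := by
        intro h0
        rw [h0, pow_zero] at hj
        exact hM1 hj
      have hpM : ¬ p ∣ Nat.card M := by
        intro hd
        have hc := h M hM
        rw [hj] at hc
        have : p ∣ Nat.gcd (Nat.card M) (p ^ j) := Nat.dvd_gcd hd (dvd_pow_self p hj0)
        rw [hc] at this
        exact hp.one_lt.ne' (Nat.dvd_one.mp this)
      -- then |G| = |M| |N| and N is a Sylow subgroup
      exfalso
      have hinf : M ⊓ N = ⊥ := by
        apply Cfsg.Agent.Lib.Helper1.inf_eq_bot_of_coprime_card
        rw [ha]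
        exact Nat.Coprime.pow_right _ (Nat.Coprime.symm ((Nat.Prime.coprime_iff_not_dvd hp).mpr hpM))
      have hcard := Cfsg.Agent.Lib.Helper1.card_sup_eq_mul_of_inf_eq_bot M N hinf
      rw [hsup, Subgroup.card_top] at hcard
      have hNidx : N.index = Nat.card M := by
        have h1 := Subgroup.card_mul_index N
        rw [hcard, mul_comm] at h1
        exact Nat.eq_of_mul_eq_mul_right Nat.card_pos h1
      rw [hNidx] at hidxN
      exact hpM hidxN

theorem result {G : Type*} [Group G] [Finite G] [Group.IsSolvable G] [Nontrivial G] (h : ∀ M : Subgroup G, IsCoatom M → (Nat.card M).Coprime M.index) : ∃ p : ℕ, p.Prime ∧ p ∣ Nat.card G ∧ ∀ P : Sylow p G, (P : Subgroup G).Normal := by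
  exact aux _ G rfl h

end Cfsg.Agent.S0553
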