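import Mathlib
import Cfsg.Statements.S0555

set_option autoImplicit false
open Cfsg

namespace Cfsg.Agent.S0555

open scoped commutatorElement

theorem cyclic_quot_gen {G : Type*} [Group G] (A B : Subgroup G) [hn : (B.subgroupOf A).Normal]
    (h : IsCyclic (↥A ⧸ B.subgroupOf A)) :
    ∃ y ∈ A, ∀ a ∈ A, ∃ m : ℤ, (y ^ m)⁻¹ * a ∈ B := by
  obtain ⟨q, hq⟩ := h.exists_generator
  obtain ⟨y, rfl⟩ := QuotientGroup.mk_surjective q
  refine ⟨y, y.2, ?_⟩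
  intro a ha
  obtain ⟨m, hm⟩ := Subgroup.mem_zpowers_iff.mp (hq (QuotientGroup.mk (⟨a, ha⟩ : A)))
  refine ⟨m, ?_⟩
  rw [← QuotientGroup.mk_zpow, QuotientGroup.eq] at hm
  simpa [Subgroup.mem_subgroupOf] using hm

theorem result {G : Type*} [Group G] (i : ℕ) (hi : 1 ≤ i) (h₁ : IsCyclic (↥(derivedSeries G i) ⧸ (derivedSeries G (i + 1)).subgroupOf (derivedSeries G i))) (h₂ : IsCyclic (↥(derivedSeries G (i + 1)) ⧸ (derivedSeries G (i + 2)).subgroupOf (derivedSeries G (i + 1)))) : derivedSeries G (i + 1) = derivedSeries G (i + 2) := by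
  set A := derivedSeries G i with hA
  set B := derivedSeries G (i + 1) with hB
  set C := derivedSeries G (i + 2) with hC
  have hCn : C.Normal := derivedSeries_normal G _
  have hBn : B.Normal := derivedSeries_normal G _
  have hBA : B ≤ A := derivedSeries_antitone G (Nat.le_succ i)
  have hCB : C ≤ B := derivedSeries_antitone G (Nat.le_succ (i + 1))
  have hAcomm : A ≤ commutator G := by
    rw [← derivedSeries_one]
    exact derivedSeries_antitone G hi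
  have hBeq : B = ⁅A, A⁆ := derivedSeries_succ G i
  obtain ⟨x, hxB, hx⟩ := cyclic_quot_gen B C h₂
  obtain ⟨y, hyA, hy⟩ := cyclic_quot_gen A B h₁
  let π := QuotientGroup.mk' C
  have hπ : ∀ g : G, π g = 1 ↔ g ∈ C := fun g => QuotientGroup.eq_one_iff g
  have hπB : ∀ b ∈ B, ∃ n : ℤ, π b = π x ^ n := by
    intro b hb
    obtain ⟨n, hn⟩ := hx b hb
    refine ⟨n, ?_⟩
    have := (hπ _).mpr hn
    rw [map_mul, map_inv, map_zpow, inv_mul_eq_one] at this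
    exact this.symm
  have hconj : ∀ g : G, ∃ k : ℤ, π g * π x * (π g)⁻¹ = π x ^ k := by
    intro g
    obtain ⟨k, hk⟩ := hπB (g * x * g⁻¹) (hBn.conj_mem x hxB g)
    exact ⟨k, by rw [← hk]; simp⟩
  have hcomm_gen : ∀ g h : G, Commute (π ⁅g, h⁆) (π x) := by
    intro g h
    obtain ⟨k, hk⟩ := hconj g⁻¹
    obtain ⟨l, hl⟩ := hconj h⁻¹
    have e1 : π (g⁻¹ * h⁻¹) * π x * (π (g⁻¹ * h⁻¹))⁻¹ = π x ^ (l * k) := by
      calc π (g⁻¹ * h⁻¹) * π x * (π (g⁻¹ * h⁻¹))⁻¹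
          = π g⁻¹ * (π h⁻¹ * π x * (π h⁻¹)⁻¹) * (π g⁻¹)⁻¹ := by rw [map_mul]; group
        _ = π g⁻¹ * (π x) ^ l * (π g⁻¹)⁻¹ := by rw [hl]
        _ = (π g⁻¹ * π x * (π g⁻¹)⁻¹) ^ l := conj_zpow.symm
        _ = (π x ^ k) ^ l := by rw [hk]
        _ = π x ^ (l * k) := by rw [← zpow_mul, mul_comm]
    have e2 : π (h⁻¹ * g⁻¹) * π x * (π (h⁻¹ * g⁻¹))⁻¹ = π x ^ (l * k) := by
      calc π (h⁻¹ * g⁻¹) * π x * (π (h⁻¹ * g⁻¹))⁻¹
          = π h⁻¹ * (π g⁻¹ * π x * (π g⁻¹)⁻¹) * (π h⁻¹)⁻¹ := by rw [map_mul]; group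
        _ = π h⁻¹ * (π x) ^ k * (π h⁻¹)⁻¹ := by rw [hk]
        _ = (π h⁻¹ * π x * (π h⁻¹)⁻¹) ^ k := conj_zpow.symm
        _ = (π x ^ l) ^ k := by rw [hl]
        _ = π x ^ (l * k) := by rw [← zpow_mul]
    have e3 : π ⁅g, h⁆ = (π (h⁻¹ * g⁻¹))⁻¹ * π (g⁻¹ * h⁻¹) := by
      rw [← map_inv, ← map_mul, commutatorElement_def]
      congr 1
      group
    have e4 : π (g⁻¹ * h⁻¹) * π x * (π (g⁻¹ * h⁻¹))⁻¹ =
        π (h⁻¹ * g⁻¹) * π x * (π (h⁻¹ * g⁻¹))⁻¹ := by rw [e1, e2]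
    show π ⁅g, h⁆ * π x = π x * π ⁅g, h⁆
    rw [e3]
    have e5 : π (g⁻¹ * h⁻¹) * π x = π (h⁻¹ * g⁻¹) * π x * (π (h⁻¹ * g⁻¹))⁻¹ * π (g⁻¹ * h⁻¹) := by
      rw [← e4]; group
    calc (π (h⁻¹ * g⁻¹))⁻¹ * π (g⁻¹ * h⁻¹) * π x
        = (π (h⁻¹ * g⁻¹))⁻¹ * (π (g⁻¹ * h⁻¹) * π x) := by group
      _ = (π (h⁻¹ * g⁻¹))⁻¹ * (π (h⁻¹ * g⁻¹) * π x * (π (h⁻¹ * g⁻¹))⁻¹ * π (g⁻¹ * h⁻¹)) := by
          rw [e5]
      _ = π x * ((π (h⁻¹ * g⁻¹))⁻¹ * π (g⁻¹ * h⁻¹)) := by group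
  have hcommA : ∀ a ∈ A, Commute (π a) (π x) := by
    have hle : commutator G ≤ (Subgroup.centralizer ({π x} : Set (G ⧸ C))).comap π := by
      rw [commutator_def, Subgroup.commutator_le]
      intro g _ h _
      rw [Subgroup.mem_comap, Subgroup.mem_centralizer_singleton_iff]
      exact (hcomm_gen g h).eq
    intro a ha
    have := hle (hAcomm ha)
    rw [Subgroup.mem_comap, Subgroup.mem_centralizer_singleton_iff] at this
    exact this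
  have hcommAB : ∀ a ∈ A, ∀ b ∈ B, Commute (π a) (π b) := by
    intro a ha b hb
    obtain ⟨n, hn⟩ := hπB b hb
    rw [hn]
    exact (hcommA a ha).zpow_right n
  have hAab : ∀ a₁ ∈ A, ∀ a₂ ∈ A, Commute (π a₁) (π a₂) := by
    intro a₁ ha₁ a₂ ha₂
    obtain ⟨m, hm⟩ := hy a₁ ha₁
    obtain ⟨n, hn⟩ := hy a₂ ha₂
    have hym : y ^ m ∈ A := A.zpow_mem hyA m
    have hyn : y ^ n ∈ A := A.zpow_mem hyA n
    have ea₁ : π a₁ = π (y ^ m) * π ((y ^ m)⁻¹ * a₁) := by rw [← map_mul]; congr 1; group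
    have ea₂ : π a₂ = π (y ^ n) * π ((y ^ n)⁻¹ * a₂) := by rw [← map_mul]; congr 1; group
    have c1 : Commute (π (y ^ m)) (π (y ^ n)) := by
      rw [map_zpow, map_zpow]; exact (Commute.refl _).zpow_zpow m n
    have c2 : Commute (π (y ^ m)) (π ((y ^ n)⁻¹ * a₂)) := hcommAB _ hym _ hn
    have c3 : Commute (π ((y ^ m)⁻¹ * a₁)) (π (y ^ n)) := (hcommAB _ hyn _ hm).symm
    have c4 : Commute (π ((y ^ m)⁻¹ * a₁)) (π ((y ^ n)⁻¹ * a₂)) := hcommAB _ (hBA hm) _ hn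
    rw [ea₁, ea₂]
    exact (c1.mul_right c2).mul_left (c3.mul_right c4)
  apply le_antisymm _ hCB
  rw [hBeq, Subgroup.commutator_le]
  intro a₁ ha₁ a₂ ha₂
  rw [← hπ, commutatorElement_def]
  simp only [map_mul, map_inv]
  have := (hAab a₁ ha₁ a₂ ha₂).eq
  rw [mul_inv_eq_one, mul_inv_eq_iff_eq_mul]
  exact this

end Cfsg.Agent.S0555
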