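import Mathlib
import Cfsg.Statements.S0556
import Cfsg.Agent.Lib.Helper1.FrobConj2
import Cfsg.Agent.Lib.Helper1.Hall
import Cfsg.Agent.Lib.Helper5.PConstr
import Cfsg.Agent.Lib.helper4.Supersolvable
import Cfsg.Agent.Lib.Helper21.Zipper

set_option autoImplicit false
open Cfsg

namespace Cfsg.Agent.S0556

open scoped Pointwise
open Cfsg.Agent.Lib.Helper1 Cfsg.Agent.Lib.Helper5

section
variable {X : Type*} [Group X] [Finite X]

theorem eq_of_normal_compl (M N B : Subgroup X) [M.Normal] (hMN : M ≤ N)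
    (hNB : Subgroup.IsComplement' N B) (hMB : B ⊔ M = ⊤) : M = N := by
  have hinf : B ⊓ M = ⊥ := by
    rw [← le_bot_iff, ← hNB.disjoint.eq_bot, inf_comm]
    exact inf_le_inf_right B hMN
  have h1 := card_sup_eq_mul_of_inf_eq_bot B M hinf
  rw [hMB] at h1
  have h2 := hNB.card_mul_card
  have h3 : Nat.card (⊤ : Subgroup X) = Nat.card X := Subgroup.card_top
  rw [h3, ← h2, mul_comm] at h1
  have hpos : 0 < Nat.card B := Nat.card_pos
  have h4 : Nat.card N = Nat.card M := Nat.eq_of_mul_eq_mul_left hpos h1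
  exact Subgroup.eq_of_le_of_card_ge hMN h4.le

theorem sup_eq_top_of_coatom (B N M : Subgroup X) (hB : IsCoatom B)
    (hNB : Subgroup.IsComplement' N B) (hMN : M ≤ N) (hM : M ≠ ⊥) : B ⊔ M = ⊤ := by
  rcases hB.le_iff.mp (le_sup_left : B ≤ B ⊔ M) with h | h
  · exact h
  · exfalso
    apply hM
    have hMB : M ≤ B := by rw [← h]; exact le_sup_right
    rw [← le_bot_iff, ← hNB.disjoint.eq_bot]
    exact le_inf hMN hMB

theorem frobenius_metabelian (B : Subgroup X) (hB : IsCoatom B) (hF : Cfsg.IsFrobeniusComplement B)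
    (hBc : ∀ x ∈ B, ∀ y ∈ B, x * y = y * x) : derivedSeries X 2 = ⊥ := by
  obtain ⟨N, hN, hNn, hNB⟩ := frobenius_theorem B hF
  have := hNn
  have hcard := hNB.card_mul_card
  have hNne : N ≠ ⊥ := by
    intro h
    rw [h, Subgroup.card_bot, one_mul] at hcard
    exact hF.2.1 ((Subgroup.card_eq_iff_eq_top B).mp hcard)
  have hN1 : 1 < Nat.card N := (Subgroup.one_lt_card_iff_ne_bot N).mpr hNne
  have hq : (Nat.card N).minFac.Prime := Nat.minFac_prime hN1.ne'
  haveI : Fact (Nat.card N).minFac.Prime := ⟨hq⟩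
  obtain ⟨P, hPN, hPc, hBP⟩ := exists_invariant_sylow_frob B hF N hN (Nat.card N).minFac
  have hfac : 0 < (Nat.card N).factorization (Nat.card N).minFac :=
    hq.factorization_pos_of_dvd (Nat.card_pos.ne') (Nat.minFac_dvd _)
  have hPne : P ≠ ⊥ := by
    intro h
    rw [h, Subgroup.card_bot] at hPc
    have := Nat.one_lt_pow hfac.ne' hq.one_lt
    omega
  have hPtop := sup_eq_top_of_coatom B N P hB hNB hPN hPne
  have hPn : P.Normal := by
    rw [← Subgroup.normalizer_eq_top_iff, eq_top_iff, ← hPtop]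
    exact sup_le hBP Subgroup.le_normalizer
  have hPeq : P = N := eq_of_normal_compl P N B hPN hNB hPtop
  have hNp : IsPGroup (Nat.card N).minFac N := by
    apply IsPGroup.of_card (n := (Nat.card N).factorization (Nat.card N).minFac)
    rw [← hPc, hPeq]
  haveI : Nontrivial N := (Subgroup.nontrivial_iff_ne_bot N).mpr hNne
  have hZnt : Nontrivial (Subgroup.center N) := hNp.center_nontrivial
  have hZn : ((Subgroup.center N).map N.subtype).Normal := h5_normal_map_of_characteristic _ _
  have hZne : (Subgroup.center N).map N.subtype ≠ ⊥ := by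
    intro h
    rw [Subgroup.map_eq_bot_iff_of_injective _ (Subgroup.subtype_injective _)] at h
    exact (Subgroup.nontrivial_iff_ne_bot _).mp hZnt h
  have hZN : (Subgroup.center N).map N.subtype ≤ N := Subgroup.map_subtype_le _
  have hZtop := sup_eq_top_of_coatom B N _ hB hNB hZN hZne
  have hZeq := eq_of_normal_compl _ N B hZN hNB hZtop
  have hNc : ∀ x ∈ N, ∀ y ∈ N, x * y = y * x := by
    intro x hx y hy
    rw [← hZeq] at hx
    obtain ⟨z, hz, rfl⟩ := hx
    have := (Subgroup.mem_center_iff.mp hz) ⟨y, hy⟩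
    have h2 := congrArg Subtype.val this
    simpa using h2.symm
  have hcomm : commutator X ≤ N := by
    rw [commutator_def, Subgroup.commutator_le]
    intro x _ y _
    have hx : x ∈ ((N ⊔ B : Subgroup X) : Set X) := by rw [hNB.sup_eq_top]; trivial
    have hy : y ∈ ((N ⊔ B : Subgroup X) : Set X) := by rw [hNB.sup_eq_top]; trivial
    rw [Subgroup.normal_mul] at hx hy
    obtain ⟨n₁, hn₁, b₁, hb₁, hx'⟩ := Set.mem_mul.mp hx
    obtain ⟨n₂, hn₂, b₂, hb₂, hy'⟩ := Set.mem_mul.mp hy
    have hx'' : n₁ * b₁ = x := hx'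
    have hy'' : n₂ * b₂ = y := hy'
    rw [← QuotientGroup.eq_one_iff, commutatorElement_def]
    have e1 : ((x : X) : X ⧸ N) = (b₁ : X ⧸ N) := by
      rw [← hx'', QuotientGroup.mk_mul, (QuotientGroup.eq_one_iff n₁).mpr hn₁, one_mul]
    have e2 : ((y : X) : X ⧸ N) = (b₂ : X ⧸ N) := by
      rw [← hy'', QuotientGroup.mk_mul, (QuotientGroup.eq_one_iff n₂).mpr hn₂, one_mul]
    rw [QuotientGroup.mk_mul, QuotientGroup.mk_mul, QuotientGroup.mk_mul, QuotientGroup.mk_inv,
      QuotientGroup.mk_inv, e1, e2, ← QuotientGroup.mk_mul, hBc b₁ hb₁ b₂ hb₂]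
    simp
  rw [derivedSeries_succ, derivedSeries_one, eq_bot_iff]
  calc ⁅commutator X, commutator X⁆ ≤ ⁅N, N⁆ := Subgroup.commutator_mono hcomm hcomm
    _ ≤ ⊥ := by
      rw [Subgroup.commutator_le]
      intro x hx y hy
      rw [Subgroup.mem_bot, commutatorElement_def, hNc x hx y hy]
      group

end

section
variable {G : Type*} [Group G] [Finite G]

theorem normal_case (A : Subgroup G) (hA : IsCoatom A) (hAc : ∀ x ∈ A, ∀ y ∈ A, x * y = y * x)
    (hAn : A.Normal) : derivedSeries G 2 = ⊥ := by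
  have := hAn
  have hex : ∃ x, x ∉ A := by
    by_contra h
    push Not at h
    exact hA.1 (eq_top_iff.mpr fun x _ => h x)
  obtain ⟨x, hx⟩ := hex
  have htop : A ⊔ Subgroup.zpowers x = ⊤ := by
    rcases hA.le_iff.mp (le_sup_left : A ≤ A ⊔ Subgroup.zpowers x) with h | h
    · exact h
    · exfalso
      apply hx
      have : Subgroup.zpowers x ≤ A := by rw [← h]; exact le_sup_right
      exact this (Subgroup.mem_zpowers x)
  have hdec : ∀ g : G, ∃ k : ℤ, ((g : G) : G ⧸ A) = ((x ^ k : G) : G ⧸ A) := by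
    intro g
    have hg : g ∈ ((A ⊔ Subgroup.zpowers x : Subgroup G) : Set G) := by rw [htop]; trivial
    rw [Subgroup.normal_mul] at hg
    obtain ⟨a, ha, z, hz, hg'⟩ := Set.mem_mul.mp hg
    obtain ⟨k, rfl⟩ := Subgroup.mem_zpowers_iff.mp hz
    refine ⟨k, ?_⟩
    have hg'' : a * x ^ k = g := hg'
    rw [← hg'', QuotientGroup.mk_mul, (QuotientGroup.eq_one_iff a).mpr ha, one_mul]
  have hcomm : commutator G ≤ A := by
    rw [commutator_def, Subgroup.commutator_le]
    intro g _ h _
    obtain ⟨k, hk⟩ := hdec g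
    obtain ⟨l, hl⟩ := hdec h
    rw [← QuotientGroup.eq_one_iff, commutatorElement_def, QuotientGroup.mk_mul, QuotientGroup.mk_mul,
      QuotientGroup.mk_mul, QuotientGroup.mk_inv, QuotientGroup.mk_inv, hk, hl,
      ← QuotientGroup.mk_inv, ← QuotientGroup.mk_inv, ← QuotientGroup.mk_mul, ← QuotientGroup.mk_mul,
      ← QuotientGroup.mk_mul]
    have : x ^ k * x ^ l * (x ^ k)⁻¹ * (x ^ l)⁻¹ = 1 := by
      rw [← zpow_add, add_comm, zpow_add]; group
    rw [this]; rfl
  rw [derivedSeries_succ, derivedSeries_one, eq_bot_iff]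
  calc ⁅commutator G, commutator G⁆ ≤ ⁅A, A⁆ := Subgroup.commutator_mono hcomm hcomm
    _ ≤ ⊥ := by
      rw [Subgroup.commutator_le]
      intro x hx y hy
      rw [Subgroup.mem_bot, commutatorElement_def, hAc x hx y hy]
      group

theorem inf_conj_le_center (A : Subgroup G) (hA : IsCoatom A)
    (hAc : ∀ x ∈ A, ∀ y ∈ A, x * y = y * x)
    (hNA : Subgroup.normalizer (A : Set G) = A) (x : G) (hx : x ∉ A) :
    A ⊓ MulAut.conj x • A ≤ Subgroup.center G := by
  intro y hy
  obtain ⟨hy1, hy2⟩ := Subgroup.mem_inf.mp hy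
  have hne : MulAut.conj x • A ≠ A := by
    intro h
    apply hx
    rw [← hNA]
    exact (Cfsg.Agent.Lib.Helper21.conj_smul_eq_iff_mem_normalizer A x).mp h
  have htop : A ⊔ MulAut.conj x • A = ⊤ := by
    rcases hA.le_iff.mp (le_sup_left : A ≤ A ⊔ MulAut.conj x • A) with h | h
    · exact h
    · exfalso
      apply hne
      have hle : MulAut.conj x • A ≤ A := le_sup_right.trans h.le
      apply Subgroup.eq_of_le_of_card_ge hle
      rw [Cfsg.Agent.Lib.Helper21.card_conj_smul]
  have hcen : A ⊔ MulAut.conj x • A ≤ Subgroup.centralizer {y} := by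
    apply sup_le
    · intro a ha
      rw [Subgroup.mem_centralizer_singleton_iff]
      exact hAc a ha y hy1
    · intro a ha
      rw [Subgroup.mem_centralizer_singleton_iff]
      rw [Cfsg.Agent.Lib.Helper19.mem_conj_smul_iff'] at ha hy2
      have := hAc _ ha _ hy2
      calc a * y = x * ((x⁻¹ * a * x) * (x⁻¹ * y * x)) * x⁻¹ := by group
        _ = x * ((x⁻¹ * y * x) * (x⁻¹ * a * x)) * x⁻¹ := by rw [this]
        _ = y * a := by group
  rw [htop] at hcen
  rw [Subgroup.mem_center_iff]
  intro g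
  have := hcen (Subgroup.mem_top g)
  rw [Subgroup.mem_centralizer_singleton_iff] at this
  exact this

end

theorem result {G : Type*} [Group G] [Finite G] (A : Subgroup G) (hA : IsCoatom A) [IsMulCommutative A] : derivedSeries G 3 = ⊥ := by
  have hAc : ∀ x ∈ A, ∀ y ∈ A, x * y = y * x := by
    intro x hx y hy
    have := (IsMulCommutative.is_comm (M := A)).comm ⟨x, hx⟩ ⟨y, hy⟩
    exact congrArg Subtype.val this
  have h32 : derivedSeries G 2 = ⊥ → derivedSeries G 3 = ⊥ := by
    intro h
    rw [derivedSeries_succ, h]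
    exact Subgroup.commutator_bot_left ⊥
  by_cases hAn : A.Normal
  · exact h32 (normal_case A hA hAc hAn)
  have hNA : Subgroup.normalizer (A : Set G) = A := by
    rcases hA.le_iff.mp (Subgroup.le_normalizer : A ≤ Subgroup.normalizer (A : Set G)) with h | h
    · exact absurd (Subgroup.normalizer_eq_top_iff.mp h) hAn
    · exact h
  have hZA : Subgroup.center G ≤ A := by
    by_contra hnot
    apply hAn
    rw [← Subgroup.normalizer_eq_top_iff, eq_top_iff]
    have htop : A ⊔ Subgroup.center G = ⊤ := by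
      rcases hA.le_iff.mp (le_sup_left : A ≤ A ⊔ Subgroup.center G) with h | h
      · exact h
      · exact absurd (le_sup_right.trans h.le) hnot
    rw [← htop]
    apply sup_le Subgroup.le_normalizer
    intro z hz
    rw [Subgroup.mem_normalizer_iff]
    intro a
    have : z * a * z⁻¹ = a := by
      rw [← (Subgroup.mem_center_iff.mp hz) a]; group
    rw [this]
  have hAnotZ : ¬ A ≤ Subgroup.center G := by
    intro hle
    apply hAn
    constructor
    intro a ha g
    have : g * a * g⁻¹ = a := by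
      rw [(Subgroup.mem_center_iff.mp (hle ha)) g]; group
    rw [this]; exact ha
  have hBco : IsCoatom (A.map (QuotientGroup.mk' (Subgroup.center G))) :=
    Cfsg.Agent.Lib.helper4.isCoatom_map_of_le (Subgroup.center G) A hZA hA
  have hBc : ∀ x ∈ A.map (QuotientGroup.mk' (Subgroup.center G)),
      ∀ y ∈ A.map (QuotientGroup.mk' (Subgroup.center G)), x * y = y * x := by
    rintro _ ⟨a, ha, rfl⟩ _ ⟨b, hb, rfl⟩
    rw [← map_mul, ← map_mul, hAc a ha b hb]
  have hmem : ∀ g : G, QuotientGroup.mk' (Subgroup.center G) g ∈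
      A.map (QuotientGroup.mk' (Subgroup.center G)) → g ∈ A := by
    intro g hg
    obtain ⟨a, ha, hag⟩ := hg
    have h1 : a⁻¹ * g ∈ Subgroup.center G := QuotientGroup.eq.mp hag
    have h2 : g = a * (a⁻¹ * g) := by group
    rw [h2]
    exact A.mul_mem ha (hZA h1)
  have hF : Cfsg.IsFrobeniusComplement (A.map (QuotientGroup.mk' (Subgroup.center G))) := by
    refine ⟨?_, hBco.1, ?_⟩
    · intro hbot
      apply hAnotZ
      intro a ha
      have : QuotientGroup.mk' (Subgroup.center G) a ∈
          A.map (QuotientGroup.mk' (Subgroup.center G)) := Subgroup.mem_map_of_mem _ ha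
      rw [hbot, Subgroup.mem_bot] at this
      exact (QuotientGroup.eq_one_iff a).mp this
    · intro gb hgb
      obtain ⟨g, rfl⟩ := QuotientGroup.mk'_surjective (Subgroup.center G) gb
      have hgA : g ∉ A := fun h => hgb (Subgroup.mem_map_of_mem _ h)
      rw [eq_bot_iff]
      intro yb hyb
      obtain ⟨hy1, hy2⟩ := Subgroup.mem_inf.mp hyb
      obtain ⟨a, ha, rfl⟩ := hy1
      rw [Cfsg.Agent.Lib.Helper19.mem_conj_smul_iff', ← map_inv, ← map_mul, ← map_mul] at hy2
      have h3 := hmem _ hy2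
      have h4 : a ∈ A ⊓ MulAut.conj g • A := by
        refine Subgroup.mem_inf.mpr ⟨ha, ?_⟩
        rw [Cfsg.Agent.Lib.Helper19.mem_conj_smul_iff']
        exact h3
      have h5 := inf_conj_le_center A hA hAc hNA g hgA h4
      rw [Subgroup.mem_bot]
      exact (QuotientGroup.eq_one_iff a).mpr h5
  have hX := frobenius_metabelian (A.map (QuotientGroup.mk' (Subgroup.center G))) hBco hF hBc
  have hmap := map_derivedSeries_eq (f := QuotientGroup.mk' (Subgroup.center G))
    (QuotientGroup.mk'_surjective _) 2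
  rw [hX] at hmap
  have hD2 : derivedSeries G 2 ≤ Subgroup.center G := by
    intro d hd
    have : QuotientGroup.mk' (Subgroup.center G) d ∈
        (derivedSeries G 2).map (QuotientGroup.mk' (Subgroup.center G)) :=
      Subgroup.mem_map_of_mem _ hd
    rw [hmap, Subgroup.mem_bot] at this
    exact (QuotientGroup.eq_one_iff d).mp this
  rw [derivedSeries_succ, eq_bot_iff, Subgroup.commutator_le]
  intro x hx y _
  rw [Subgroup.mem_bot, commutatorElement_def, ← (Subgroup.mem_center_iff.mp (hD2 hx)) y]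
  group

end Cfsg.Agent.S0556
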