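import Mathlib
import Cfsg.Statements.S0557
import Cfsg.Agent.Lib.Helper5.Card
import Cfsg.Agent.Lib.Helper5.ElemAb

set_option autoImplicit false
open Cfsg

namespace Cfsg.Agent.S0557

open scoped commutatorElement Pointwise
open Cfsg.Agent.Lib.Helper5

universe u

theorem focal_step {G : Type u} [Group G] [Finite G] (H : Subgroup G)
    (hHall : (Nat.card H).Coprime H.index) :
    ∃ K : Subgroup G, K.Normal ∧ K ⊓ H = H.focalSubgroup ∧ K ⊔ H = ⊤ := by
  have hcop : (Nat.card (H ⧸ H.focalSubgroupOf)).Coprime H.index :=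
    Nat.Coprime.coprime_dvd_left (Subgroup.card_quotient_dvd_card _) hHall
  have hinj : ∀ q : H ⧸ H.focalSubgroupOf, q ^ H.index = 1 → q = 1 := by
    intro q hq
    have h1 : (powCoprime hcop) q = (powCoprime hcop) 1 := by
      rw [powCoprime_apply, powCoprime_apply, hq, one_pow]
    exact (powCoprime hcop).injective h1
  have hsurj : ∀ q : H ⧸ H.focalSubgroupOf, ∃ q', q' ^ H.index = q := by
    intro q
    obtain ⟨q', hq'⟩ := (powCoprime hcop).surjective q
    exact ⟨q', by rw [← hq', powCoprime_apply]⟩
  refine ⟨H.transferFocal.ker, inferInstance, ?_, ?_⟩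
  · ext x
    rw [Subgroup.mem_inf, MonoidHom.mem_ker]
    constructor
    · rintro ⟨hx1, hxH⟩
      have h1 := H.transferFocal_eq_pow ⟨x, hxH⟩
      change H.transferFocal x = _ at h1
      rw [hx1] at h1
      have h2 := hinj _ h1.symm
      rw [QuotientGroup.eq_one_iff] at h2
      have h3 : x ∈ H.focalSubgroupOf.map H.subtype := ⟨⟨x, hxH⟩, h2, rfl⟩
      rwa [Subgroup.map_focalSubgroupOf] at h3
    · intro hx
      have hxH : x ∈ H := H.focalSubgroup_le hx
      refine ⟨?_, hxH⟩
      have h1 := H.transferFocal_eq_pow ⟨x, hxH⟩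
      change H.transferFocal x = _ at h1
      rw [h1]
      have h2 : (⟨x, hxH⟩ : H) ∈ H.focalSubgroupOf := by
        rw [Subgroup.focalSubgroupOf_def, Subgroup.mem_subgroupOf]; exact hx
      have h3 : ((⟨x, hxH⟩ : H) : H ⧸ H.focalSubgroupOf) = 1 :=
        (QuotientGroup.eq_one_iff _).mpr h2
      rw [h3, one_pow]
  · rw [eq_top_iff]
    intro g _
    obtain ⟨q', hq'⟩ := hsurj (H.transferFocal g)
    obtain ⟨h, rfl⟩ := QuotientGroup.mk_surjective q'
    have h1 := H.transferFocal_eq_pow h
    rw [hq'] at h1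
    have h2 : g * (h : G)⁻¹ ∈ H.transferFocal.ker := by
      rw [MonoidHom.mem_ker, map_mul, map_inv, h1, mul_inv_cancel]
    have e : g = (g * (h : G)⁻¹) * (h : G) := by group
    rw [e]
    exact Subgroup.mul_mem _ (Subgroup.mem_sup_left h2) (Subgroup.mem_sup_right h.2)

theorem mem_of_pow_card {K : Type u} [Group K] [Finite K] (N : Subgroup K) [N.Normal]
    (hcop : (Nat.card N).Coprime N.index) (x : K) (hx : x ^ Nat.card N = 1) : x ∈ N := by
  have h1 : (x : K ⧸ N) ^ Nat.card N = 1 := by
    rw [← QuotientGroup.mk_pow, hx]; rfl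
  have h2 : (x : K ⧸ N) ^ N.index = 1 := by
    rw [Subgroup.index_eq_card]; exact pow_card_eq_one'
  have h3 : orderOf (x : K ⧸ N) ∣ Nat.gcd (Nat.card N) N.index :=
    Nat.dvd_gcd (orderOf_dvd_of_pow_eq_one h1) (orderOf_dvd_of_pow_eq_one h2)
  rw [hcop.gcd_eq_one, Nat.dvd_one] at h3
  exact (QuotientGroup.eq_one_iff x).mp (orderOf_eq_one_iff.mp h3)

theorem focal_mono {G : Type u} [Group G] {L₁ L₂ : Subgroup G} (h : L₁ ≤ L₂) :
    L₁.focalSubgroup ≤ L₂.focalSubgroup := by
  rw [Subgroup.focalSubgroup_def, Subgroup.focalSubgroup_def]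
  apply Subgroup.closure_mono
  rintro g ⟨hg, x, hx, w, rfl⟩
  exact ⟨h hg, x, h hx, w, rfl⟩

theorem focal_map_le {G : Type u} [Group G] (K : Subgroup G) (L : Subgroup K) :
    (L.focalSubgroup).map K.subtype ≤ (L.map K.subtype).focalSubgroup := by
  rw [Subgroup.focalSubgroup_def, MonoidHom.map_closure, Subgroup.focalSubgroup_def]
  apply Subgroup.closure_mono
  rintro _ ⟨g, ⟨hg, x, hx, w, rfl⟩, rfl⟩
  refine ⟨⟨_, hg, rfl⟩, (x : G), ⟨x, hx, rfl⟩, (w : G), ?_⟩
  simp [commutatorElement_def]

theorem focal_iter_map_le {G : Type u} [Group G] (K : Subgroup G) (m : ℕ) (L : Subgroup K) :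
    (((fun T : Subgroup K => T.focalSubgroup)^[m]) L).map K.subtype ≤
      ((fun T : Subgroup G => T.focalSubgroup)^[m]) (L.map K.subtype) := by
  induction m with
  | zero => exact le_rfl
  | succ m ih =>
    rw [Function.iterate_succ_apply', Function.iterate_succ_apply']
    exact le_trans (focal_map_le K _) (focal_mono ih)

theorem main : ∀ (n : ℕ) (G : Type u) [Group G] [Finite G] (H : Subgroup G),
    (Nat.card H).Coprime H.index →
    ((fun K : Subgroup G => K.focalSubgroup)^[n]) H = ⊥ →
    ∃ N : Subgroup G, N.Normal ∧ Nat.card N = H.index := by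
  intro n
  induction n with
  | zero =>
    intro G _ _ H _ h
    have hH : H = ⊥ := h
    subst hH
    exact ⟨⊤, inferInstance, by rw [Subgroup.card_top, Subgroup.index_bot]⟩
  | succ n ih =>
    intro G _ _ H hHall hfoc
    rw [Function.iterate_succ_apply] at hfoc
    obtain ⟨K, hKn, hKH, hKsup⟩ := focal_step H hHall
    have hle : H.focalSubgroup ≤ K := hKH ▸ inf_le_left
    have hcard : Nat.card G * Nat.card H.focalSubgroup = Nat.card K * Nat.card H := by
      have h1 := card_mul_set_mul_card_inf K H
      have h2 : Nat.card (K ⊔ H : Subgroup G) = Nat.card ((K : Set G) * (H : Set G) : Set G) := by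
        rw [← Subgroup.normal_mul]; rfl
      rw [← h2, hKsup, hKH, Subgroup.card_top] at h1
      exact h1
    have h3 := card_mul_relIndex_of_le hle
    have h4 := Subgroup.card_mul_index H
    have hpos1 : 0 < Nat.card H := Nat.card_pos
    have hpos2 : 0 < Nat.card H.focalSubgroup := Nat.card_pos
    have hidx : (H.focalSubgroup.subgroupOf K).index = H.index := by
      change H.focalSubgroup.relIndex K = H.index
      have h5 : Nat.card H * Nat.card H.focalSubgroup * H.focalSubgroup.relIndex K =
          Nat.card H * Nat.card H.focalSubgroup * H.index := by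
        calc Nat.card H * Nat.card H.focalSubgroup * H.focalSubgroup.relIndex K
            = (Nat.card H.focalSubgroup * H.focalSubgroup.relIndex K) * Nat.card H := by ring
          _ = Nat.card K * Nat.card H := by rw [h3]
          _ = Nat.card G * Nat.card H.focalSubgroup := hcard.symm
          _ = (Nat.card H * H.index) * Nat.card H.focalSubgroup := by rw [h4]
          _ = Nat.card H * Nat.card H.focalSubgroup * H.index := by ring
      exact Nat.eq_of_mul_eq_mul_left (Nat.mul_pos hpos1 hpos2) h5
    have hcardH' : Nat.card (H.focalSubgroup.subgroupOf K) = Nat.card H.focalSubgroup :=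
      card_subgroupOf_of_le hle
    have hHall' : (Nat.card (H.focalSubgroup.subgroupOf K)).Coprime
        (H.focalSubgroup.subgroupOf K).index := by
      rw [hidx, hcardH']
      exact Nat.Coprime.coprime_dvd_left (Subgroup.card_dvd_of_le H.focalSubgroup_le) hHall
    have hfoc' : ((fun T : Subgroup K => T.focalSubgroup)^[n])
        (H.focalSubgroup.subgroupOf K) = ⊥ := by
      have h5 := focal_iter_map_le K n (H.focalSubgroup.subgroupOf K)
      rw [Subgroup.map_subgroupOf_eq_of_le hle, hfoc, le_bot_iff] at h5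
      exact (Subgroup.map_eq_bot_iff_of_injective _ K.subtype_injective).mp h5
    obtain ⟨N', hN'n, hN'card⟩ := ih K (H.focalSubgroup.subgroupOf K) hHall' hfoc'
    have hN'idx : N'.index = Nat.card (H.focalSubgroup.subgroupOf K) := by
      have h5 := Subgroup.card_mul_index N'
      have h6 := Subgroup.card_mul_index (H.focalSubgroup.subgroupOf K)
      rw [hN'card] at h5
      have h7 : (H.focalSubgroup.subgroupOf K).index * N'.index =
          (H.focalSubgroup.subgroupOf K).index * Nat.card (H.focalSubgroup.subgroupOf K) := by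
        rw [h5, ← h6]; ring
      have hpos : 0 < (H.focalSubgroup.subgroupOf K).index := by
        rw [hidx]; exact Nat.pos_of_ne_zero Subgroup.index_ne_zero_of_finite
      exact Nat.eq_of_mul_eq_mul_left hpos h7
    have hcopN' : (Nat.card N').Coprime N'.index := by
      rw [hN'idx, hN'card]; exact hHall'.symm
    refine ⟨N'.map K.subtype, ?_, ?_⟩
    · constructor
      rintro _ ⟨n', hn', rfl⟩ g
      have hgK : g * (n' : G) * g⁻¹ ∈ K := hKn.conj_mem _ n'.2 g
      refine ⟨⟨g * (n' : G) * g⁻¹, hgK⟩, ?_, rfl⟩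
      apply mem_of_pow_card N' hcopN'
      apply Subtype.ext
      have h5 : (⟨n', hn'⟩ : N') ^ Nat.card N' = 1 := pow_card_eq_one'
      have h5' : (n' : K) ^ Nat.card N' = 1 := by
        have := congrArg Subtype.val h5
        rwa [Subgroup.coe_pow] at this
      have h6 : (n' : G) ^ Nat.card N' = 1 := by
        have := congrArg Subtype.val h5'
        rwa [Subgroup.coe_pow] at this
      simp only [Subgroup.coe_pow, Subgroup.coe_one]
      rw [conj_pow, h6]; group
    · rw [Subgroup.card_map_of_injective K.subtype_injective, hN'card, hidx]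

theorem result {G : Type*} [Group G] [Finite G] (H : Subgroup G) (hHall : (Nat.card H).Coprime H.index) (n : ℕ) (hfoc : (fun K : Subgroup G => Subgroup.focalSubgroup K)^[n] H = ⊥) : ∃ N : Subgroup G, N.Normal ∧ Subgroup.IsComplement' N H := by
  obtain ⟨N, hNn, hNcard⟩ := main n G H hHall hfoc
  refine ⟨N, hNn, ?_⟩
  apply Subgroup.isComplement'_of_coprime
  · rw [hNcard, mul_comm]; exact Subgroup.card_mul_index H
  · rw [hNcard]; exact hHall.symm

end Cfsg.Agent.S0557
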