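import Mathlib
import Cfsg.Statements.S0558
import Cfsg.Agent.Lib.Helper5.Glauberman2
import Cfsg.Agent.Lib.helper23.SylowQuot
import Cfsg.Agent.Lib.Helper1.Hall
import Cfsg.Agent.S0582
import Cfsg.Agent.S0071
import Cfsg.Agent.Lib.Helper5.Card

set_option autoImplicit false
open Cfsg

namespace Cfsg.Agent.S0558

open scoped Pointwise
open Cfsg.Agent.Lib.Helper5

section
variable {G : Type*} [Group G] [Finite G]

theorem sylow_of_normalizer (H : Subgroup G) {p : ℕ} [Fact p.Prime] (P : Sylow p H)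
    (hN : Subgroup.normalizer (((P : Subgroup H).map H.subtype : Subgroup G) : Set G) = H) :
    ∃ S : Sylow p G, (S : Subgroup G) = (P : Subgroup H).map H.subtype := by
  have hP' : IsPGroup p ((P : Subgroup H).map H.subtype : Subgroup G) := P.isPGroup'.map _
  obtain ⟨S, hPS⟩ := hP'.exists_le_sylow
  refine ⟨S, le_antisymm ?_ hPS⟩
  by_contra hnot
  have hnot' : ¬ (⊤ : Subgroup S) ≤ ((P : Subgroup H).map H.subtype).subgroupOf (S : Subgroup G) := by
    intro h
    apply hnot
    intro x hx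
    have := h (Subgroup.mem_top (⟨x, hx⟩ : S))
    exact this
  obtain ⟨b, _, hbN, hbM⟩ := h5g_exists_normalizing S.isPGroup'
    (((P : Subgroup H).map H.subtype).subgroupOf (S : Subgroup G)) ⊤ hnot'
  have hbNG : (b : G) ∈ Subgroup.normalizer (((P : Subgroup H).map H.subtype : Subgroup G) : Set G) := by
    apply h5g_mem_normalizer_of_conj_le
    intro y hy
    have hyS : y ∈ (S : Subgroup G) := hPS hy
    have := (Subgroup.mem_normalizer_iff.mp hbN ⟨y, hyS⟩).mp hy
    exact this
  rw [hN] at hbNG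
  have hSH : IsPGroup p (((S : Subgroup G) ⊓ H).subgroupOf H) := by
    have h1 : IsPGroup p ((S : Subgroup G) ⊓ H : Subgroup G) := S.isPGroup'.to_le inf_le_left
    exact h1.comap_of_injective _ (Subgroup.subtype_injective _)
  have hPle : (P : Subgroup H) ≤ ((S : Subgroup G) ⊓ H).subgroupOf H := by
    intro x hx
    rw [Subgroup.mem_subgroupOf]
    exact Subgroup.mem_inf.mpr ⟨hPS (Subgroup.mem_map_of_mem _ hx), x.2⟩
  have heq := P.is_maximal' hSH hPle
  apply hbM
  rw [Subgroup.mem_subgroupOf]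
  have hb' : (⟨(b : G), hbNG⟩ : H) ∈ ((S : Subgroup G) ⊓ H).subgroupOf H := by
    rw [Subgroup.mem_subgroupOf]
    exact Subgroup.mem_inf.mpr ⟨b.2, hbNG⟩
  rw [heq] at hb'
  exact ⟨⟨(b : G), hbNG⟩, hb', rfl⟩

theorem commute_of_normalized (H A B : Subgroup G) (hA : A ≤ H) (hB : B ≤ H)
    (hAn : H ≤ Subgroup.normalizer (A : Set G)) (hBn : H ≤ Subgroup.normalizer (B : Set G))
    (hcop : (Nat.card A).Coprime (Nat.card B)) : ∀ x ∈ A, ∀ y ∈ B, x * y = y * x := by
  intro x hx y hy
  have hinf : A ⊓ B = ⊥ := (Subgroup.disjoint_of_coprime_natCard hcop).eq_bot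
  have h1 : x * y * x⁻¹ * y⁻¹ ∈ B :=
    B.mul_mem ((Subgroup.mem_normalizer_iff.mp (hBn (hA hx)) y).mp hy) (B.inv_mem hy)
  have h2 : x * y * x⁻¹ * y⁻¹ ∈ A := by
    have e : x * y * x⁻¹ * y⁻¹ = x * (y * x⁻¹ * y⁻¹) := by group
    rw [e]
    exact A.mul_mem hx ((Subgroup.mem_normalizer_iff.mp (hAn (hB hy)) x⁻¹).mp (A.inv_mem hx))
  have h3 : x * y * x⁻¹ * y⁻¹ ∈ A ⊓ B := Subgroup.mem_inf.mpr ⟨h2, h1⟩
  rw [hinf, Subgroup.mem_bot] at h3
  calc x * y = (x * y * x⁻¹ * y⁻¹) * (y * x) := by group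
    _ = y * x := by rw [h3, one_mul]

theorem conj_centralizer_mem (Q : Subgroup G) (x : G)
    (hx : x ∈ Subgroup.normalizer (Q : Set G)) (c : G)
    (hc : c ∈ Subgroup.centralizer (Q : Set G)) :
    x * c * x⁻¹ ∈ Subgroup.centralizer (Q : Set G) := by
  rw [Subgroup.mem_centralizer_iff] at hc ⊢
  intro y hy
  have hy' : x⁻¹ * y * x ∈ Q := by
    have := (Subgroup.mem_normalizer_iff.mp (Subgroup.inv_mem _ hx) y).mp hy
    rwa [inv_inv] at this
  have h1 := hc _ hy'
  calc y * (x * c * x⁻¹) = x * ((x⁻¹ * y * x) * c) * x⁻¹ := by group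
    _ = x * (c * (x⁻¹ * y * x)) * x⁻¹ := by rw [h1]
    _ = x * c * x⁻¹ * y := by group

theorem pow_mul_mem_centralizer (Q : Subgroup G) (g c : G)
    (hg : g ∈ Subgroup.normalizer (Q : Set G)) (hc : c ∈ Subgroup.centralizer (Q : Set G))
    (n : ℕ) : (c * g) ^ n * (g ^ n)⁻¹ ∈ Subgroup.centralizer (Q : Set G) := by
  induction n with
  | zero => simp
  | succ n ih =>
    have e : (c * g) ^ (n + 1) * (g ^ (n + 1))⁻¹ =
        ((c * g) ^ n * (g ^ n)⁻¹) * (g ^ n * c * (g ^ n)⁻¹) := by
      rw [pow_succ, pow_succ]; group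
    rw [e]
    exact Subgroup.mul_mem _ ih
      (conj_centralizer_mem Q _ (Subgroup.pow_mem _ hg n) c hc)

theorem mem_of_pow_mem_of_coprime (C : Subgroup G) (h : G) (k m : ℕ) (hk : h ^ k ∈ C)
    (hm : h ^ m ∈ C) (hcop : k.Coprime m) : h ∈ C := by
  have hb := Nat.gcd_eq_gcd_ab k m
  rw [hcop.gcd_eq_one] at hb
  have e : h = (h ^ k) ^ (Nat.gcdA k m) * (h ^ m) ^ (Nat.gcdB k m) := by
    rw [← zpow_natCast h k, ← zpow_natCast h m, ← zpow_mul, ← zpow_mul, ← zpow_add, ← hb]
    simp
  rw [e]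
  exact C.mul_mem (C.zpow_mem hk _) (C.zpow_mem hm _)

theorem frob_hyp (H : Subgroup G)
    (hnorm : ∀ p : ℕ, p.Prime → p ∣ Nat.card H → ∀ P : Sylow p H,
      Subgroup.normalizer (((P : Subgroup H).map H.subtype : Subgroup G) : Set G) = H)
    (p q : ℕ) [hp : Fact p.Prime] [hq : Fact q.Prime] (hpq : q ≠ p) (hpH : p ∣ Nat.card H)
    (hqH : q ∣ Nat.card H) (P : Sylow p H) (Q : Subgroup G)
    (hQ : Q ≤ (P : Subgroup H).map H.subtype) (g : G)
    (hg : g ∈ Subgroup.normalizer (Q : Set G)) (hcop : Nat.Coprime (orderOf g) p) :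
    g ∈ Subgroup.centralizer (Q : Set G) := by
  have hPN := hnorm p hp.out hpH P
  have hPle : (P : Subgroup H).map H.subtype ≤ H := Subgroup.map_subtype_le _
  have hPcard : Nat.card ((P : Subgroup H).map H.subtype : Subgroup G) =
      p ^ (Nat.card H).factorization p := by
    rw [Subgroup.card_map_of_injective H.subtype_injective, Sylow.card_eq_multiplicity]
  have hcen : ∀ (d : ℕ) [hd : Fact d.Prime], d ≠ p → d ∣ Nat.card H → ∀ D : Sylow d H,
      (D : Subgroup H).map H.subtype ≤ Subgroup.centralizer (Q : Set G) := by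
    intro d hd hdp hdH D
    have hDN := hnorm d hd.out hdH D
    have hDle : (D : Subgroup H).map H.subtype ≤ H := Subgroup.map_subtype_le _
    have hDcard : Nat.card ((D : Subgroup H).map H.subtype : Subgroup G) =
        d ^ (Nat.card H).factorization d := by
      rw [Subgroup.card_map_of_injective H.subtype_injective, Sylow.card_eq_multiplicity]
    have hcop' : (Nat.card ((P : Subgroup H).map H.subtype : Subgroup G)).Coprime
        (Nat.card ((D : Subgroup H).map H.subtype : Subgroup G)) := by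
      rw [hPcard, hDcard]
      exact Nat.Coprime.pow _ _ ((Nat.coprime_primes hp.out hd.out).mpr (Ne.symm hdp))
    have hcomm := commute_of_normalized H _ _ hPle hDle (hPN.symm ▸ le_refl H) (hDN.symm ▸ le_refl H)
      hcop'
    intro x hx
    rw [Subgroup.mem_centralizer_iff]
    intro y hy
    exact hcomm y (hQ hy) x hx
  obtain ⟨R⟩ := (inferInstance : Nonempty (Sylow q H))
  have hRN := hnorm q hq.out hqH R
  obtain ⟨Sq, hSq⟩ := sylow_of_normalizer H R hRN
  have hRC : (R : Subgroup H).map H.subtype ≤ Subgroup.centralizer (Q : Set G) :=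
    hcen q hpq hqH R
  have hgRC : MulAut.conj g • ((R : Subgroup H).map H.subtype : Subgroup G) ≤
      Subgroup.centralizer (Q : Set G) := by
    intro y hy
    rw [Cfsg.Agent.S0582.mem_conj] at hy
    have := conj_centralizer_mem Q g hg _ (hRC hy)
    have e : g * (g⁻¹ * y * g) * g⁻¹ = y := by group
    rwa [e] at this
  have hRcard : Nat.card ((R : Subgroup H).map H.subtype : Subgroup G) =
      q ^ (Nat.card G).factorization q := by
    rw [← hSq, Sylow.card_eq_multiplicity]
  have hfac : (Nat.card (Subgroup.centralizer (Q : Set G))).factorization q =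
      (Nat.card G).factorization q := by
    apply Cfsg.Agent.S0582.factorization_eq_of_dvd_of_dvd hq.out _
      (Subgroup.card_subgroup_dvd_card _) Nat.card_pos.ne' rfl
    rw [← hRcard]
    exact Subgroup.card_dvd_of_le hRC
  obtain ⟨c, hc, hiff⟩ := Cfsg.Agent.Lib.helper23.exists_conj_of_card
    (Subgroup.centralizer (Q : Set G)) ((R : Subgroup H).map H.subtype)
    (MulAut.conj g • ((R : Subgroup H).map H.subtype : Subgroup G)) hRC hgRC
    (by rw [hfac, hRcard])
    (by rw [hfac, Cfsg.Agent.Lib.Helper21.card_conj_smul, hRcard])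
  have hcgH : c * g ∈ H := by
    have h1 : (c * g)⁻¹ ∈ Subgroup.normalizer
        (((R : Subgroup H).map H.subtype : Subgroup G) : Set G) := by
      rw [Subgroup.mem_normalizer_iff]
      intro y
      rw [hiff y, Cfsg.Agent.S0582.mem_conj]
      have e : (c * g)⁻¹ * y * (c * g)⁻¹⁻¹ = g⁻¹ * (c⁻¹ * y * c) * g := by group
      rw [e]
    rw [hRN] at h1
    have := H.inv_mem h1
    rwa [inv_inv] at this
  have hcN : c ∈ Subgroup.normalizer (Q : Set G) := Subgroup.centralizer_le_normalizer _ hc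
  have hcgN : c * g ∈ Subgroup.normalizer (Q : Set G) := Subgroup.mul_mem _ hcN hg
  have hMN : H ⊓ Subgroup.centralizer (Q : Set G) ≤ H ⊓ Subgroup.normalizer (Q : Set G) :=
    inf_le_inf_left H (Subgroup.centralizer_le_normalizer _)
  haveI hnormal : ((H ⊓ Subgroup.centralizer (Q : Set G)).subgroupOf
      (H ⊓ Subgroup.normalizer (Q : Set G))).Normal := by
    constructor
    intro m hm n
    rw [Subgroup.mem_subgroupOf] at hm ⊢
    obtain ⟨hm1, hm2⟩ := Subgroup.mem_inf.mp hm
    obtain ⟨hn1, hn2⟩ := Subgroup.mem_inf.mp n.2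
    refine Subgroup.mem_inf.mpr ⟨?_, ?_⟩
    · exact H.mul_mem (H.mul_mem hn1 hm1) (H.inv_mem hn1)
    · exact conj_centralizer_mem Q _ hn2 _ hm2
  have hrel0 : (H ⊓ Subgroup.centralizer (Q : Set G)).relIndex
      (H ⊓ Subgroup.normalizer (Q : Set G)) ≠ 0 :=
    Cfsg.Agent.Lib.Helper5.relIndex_ne_zero_of_finite _ _
  have hcardMN := Cfsg.Agent.Lib.Helper5.card_mul_relIndex_of_le hMN
  have hprime : ∀ {d : ℕ}, d.Prime → d ∣ (H ⊓ Subgroup.centralizer (Q : Set G)).relIndex
      (H ⊓ Subgroup.normalizer (Q : Set G)) → d = p := by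
    intro d hd hdvd
    by_contra hdp
    haveI : Fact d.Prime := ⟨hd⟩
    have hNH : Nat.card (H ⊓ Subgroup.normalizer (Q : Set G) : Subgroup G) ∣ Nat.card H :=
      Subgroup.card_dvd_of_le inf_le_left
    have hdH : d ∣ Nat.card H :=
      (hdvd.trans (Dvd.intro_left _ hcardMN)).trans hNH
    obtain ⟨D⟩ := (inferInstance : Nonempty (Sylow d H))
    have hDM : (D : Subgroup H).map H.subtype ≤ H ⊓ Subgroup.centralizer (Q : Set G) :=
      le_inf (Subgroup.map_subtype_le _) (hcen d hdp hdH D)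
    have hDcard : Nat.card ((D : Subgroup H).map H.subtype : Subgroup G) =
        d ^ (Nat.card H).factorization d := by
      rw [Subgroup.card_map_of_injective H.subtype_injective, Sylow.card_eq_multiplicity]
    have h1 : d ^ (Nat.card H).factorization d ∣
        Nat.card (H ⊓ Subgroup.centralizer (Q : Set G) : Subgroup G) := by
      rw [← hDcard]; exact Subgroup.card_dvd_of_le hDM
    have h2 : d ^ ((Nat.card H).factorization d + 1) ∣ Nat.card H := by
      rw [pow_succ]
      refine (Nat.mul_dvd_mul h1 hdvd).trans ?_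
      rw [hcardMN]
      exact hNH
    exact Nat.pow_succ_factorization_not_dvd Nat.card_pos.ne' hd h2
  have hrelpow := Nat.eq_prime_pow_of_unique_prime_dvd hrel0 hprime
  have hpowM : (c * g) ^ ((H ⊓ Subgroup.centralizer (Q : Set G)).relIndex
      (H ⊓ Subgroup.normalizer (Q : Set G))) ∈ Subgroup.centralizer (Q : Set G) := by
    have h1 := Subgroup.pow_index_mem ((H ⊓ Subgroup.centralizer (Q : Set G)).subgroupOf
      (H ⊓ Subgroup.normalizer (Q : Set G))) ⟨c * g, Subgroup.mem_inf.mpr ⟨hcgH, hcgN⟩⟩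
    rw [Subgroup.mem_subgroupOf] at h1
    exact (Subgroup.mem_inf.mp h1).2
  have hpowk : (c * g) ^ (orderOf g) ∈ Subgroup.centralizer (Q : Set G) := by
    have := pow_mul_mem_centralizer Q g c hg hc (orderOf g)
    rwa [pow_orderOf_eq_one, inv_one, mul_one] at this
  have hcgC : c * g ∈ Subgroup.centralizer (Q : Set G) := by
    apply mem_of_pow_mem_of_coprime _ (c * g) _ _ hpowk hpowM
    rw [hrelpow]
    exact Nat.Coprime.pow_right _ hcop
  have e : g = c⁻¹ * (c * g) := by group
  rw [e]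
  exact Subgroup.mul_mem _ (Subgroup.inv_mem _ hc) hcgC

theorem exists_other_prime (H : Subgroup G)
    (hnot : ∀ p : ℕ, p.Prime → ∀ P : Sylow p G, (P : Subgroup G) ≠ H)
    (hnorm : ∀ p : ℕ, p.Prime → p ∣ Nat.card H → ∀ P : Sylow p H,
      Subgroup.normalizer (((P : Subgroup H).map H.subtype : Subgroup G) : Set G) = H)
    (p : ℕ) [hp : Fact p.Prime] (hpH : p ∣ Nat.card H) :
    ∃ q : ℕ, q.Prime ∧ q ≠ p ∧ q ∣ Nat.card H := by
  by_contra hcon
  push Not at hcon
  have hall : ∀ {d : ℕ}, d.Prime → d ∣ Nat.card H → d = p := by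
    intro d hd hdH
    by_contra hne
    exact hcon d hd hne hdH
  have hcard := Nat.eq_prime_pow_of_unique_prime_dvd (Nat.card_pos (α := H)).ne' hall
  obtain ⟨P⟩ := (inferInstance : Nonempty (Sylow p H))
  have hPtop : (P : Subgroup H) = ⊤ := by
    apply (Subgroup.card_eq_iff_eq_top _).mp
    rw [Sylow.card_eq_multiplicity]
    conv_rhs => rw [hcard]
    congr 1
    conv_lhs => rw [hcard]
    rw [Nat.factorization_pow, Finsupp.smul_apply, hp.out.factorization_self]
    simp
  have hmap : ((P : Subgroup H).map H.subtype : Subgroup G) = H := by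
    rw [hPtop, ← MonoidHom.range_eq_map, Subgroup.range_subtype]
  obtain ⟨S, hS⟩ := sylow_of_normalizer H P (hnorm p hp.out hpH P)
  exact hnot p hp.out S (hS.trans hmap)

theorem exists_normal_compl_prime (H : Subgroup G)
    (hnot : ∀ p : ℕ, p.Prime → ∀ P : Sylow p G, (P : Subgroup G) ≠ H)
    (hnorm : ∀ p : ℕ, p.Prime → p ∣ Nat.card H → ∀ P : Sylow p H,
      Subgroup.normalizer (((P : Subgroup H).map H.subtype : Subgroup G) : Set G) = H)
    (p : ℕ) (hp : p.Prime) (hpH : p ∣ Nat.card H) :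
    ∃ K : Subgroup G, K.Normal ∧ K.index = p ^ (Nat.card H).factorization p ∧
      ¬ p ∣ Nat.card K := by
  haveI : Fact p.Prime := ⟨hp⟩
  obtain ⟨q, hq, hqp, hqH⟩ := exists_other_prime H hnot hnorm p hpH
  haveI : Fact q.Prime := ⟨hq⟩
  obtain ⟨P⟩ := (inferInstance : Nonempty (Sylow p H))
  obtain ⟨S, hS⟩ := sylow_of_normalizer H P (hnorm p hp hpH P)
  have hfrob : ∀ Q : Subgroup G, Q ≤ (S : Subgroup G) →
      ∀ g ∈ Subgroup.normalizer (Q : Set G), Nat.Coprime (orderOf g) p →
        g ∈ Subgroup.centralizer (Q : Set G) := by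
    intro Q hQ g hg hcop
    rw [hS] at hQ
    exact frob_hyp H hnorm p q hqp hpH hqH P Q hQ g hg hcop
  obtain ⟨K, hKn, hKS⟩ := (Cfsg.Agent.S0071.result S).mpr hfrob
  have hScard : Nat.card (S : Subgroup G) = p ^ (Nat.card H).factorization p := by
    rw [hS, Subgroup.card_map_of_injective H.subtype_injective, Sylow.card_eq_multiplicity]
  refine ⟨K, hKn, ?_, ?_⟩
  · rw [hKS.symm.index_eq_card, hScard]
  · intro hdvd
    have h1 := hKS.card_mul_card
    have h2 : Nat.card (S : Subgroup G) = p ^ (Nat.card G).factorization p :=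
      Sylow.card_eq_multiplicity S
    have h3 : p ^ ((Nat.card G).factorization p + 1) ∣ Nat.card G := by
      have h4 : p ^ ((Nat.card G).factorization p + 1) ∣ Nat.card K * Nat.card (S : Subgroup G) := by
        rw [h2, pow_succ, mul_comm]
        exact Nat.mul_dvd_mul hdvd (dvd_refl _)
      rwa [h1] at h4
    exact Nat.pow_succ_factorization_not_dvd Nat.card_pos.ne' hp h3

end

theorem result {G : Type*} [Group G] [Finite G] (H : Subgroup G) (hnot : ∀ p : ℕ, p.Prime → ∀ P : Sylow p G, (P : Subgroup G) ≠ H) (hnorm : ∀ p : ℕ, p.Prime → p ∣ Nat.card H → ∀ P : Sylow p H, Subgroup.normalizer (((P : Subgroup H).map H.subtype : Subgroup G) : Set G) = H) : ∃ N : Subgroup G, N.Normal ∧ Subgroup.IsComplement' N H := by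
  classical
  have hK := exists_normal_compl_prime H hnot hnorm
  choose K hKn hKidx hKcop using hK
  have hNn : (⨅ p : (Nat.card H).primeFactors,
      K p.1 (Nat.prime_of_mem_primeFactors p.2) (Nat.dvd_of_mem_primeFactors p.2)).Normal :=
    Subgroup.normal_iInf_normal (fun p => hKn _ _ _)
  have hinf : H ⊓ (⨅ p : (Nat.card H).primeFactors,
      K p.1 (Nat.prime_of_mem_primeFactors p.2) (Nat.dvd_of_mem_primeFactors p.2)) = ⊥ := by
    rw [eq_bot_iff]
    intro x hx
    obtain ⟨hxH, hxN⟩ := Subgroup.mem_inf.mp hx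
    rw [Subgroup.mem_bot]
    by_contra hx1
    have hord : orderOf x ≠ 1 := fun h => hx1 (orderOf_eq_one_iff.mp h)
    obtain ⟨p, hp, hpx⟩ := Nat.exists_prime_and_dvd hord
    have hxH' : orderOf x ∣ Nat.card H := by
      have := orderOf_dvd_natCard (⟨x, hxH⟩ : H)
      rwa [Subgroup.orderOf_mk] at this
    have hpH : p ∣ Nat.card H := hpx.trans hxH'
    have hpmem : p ∈ (Nat.card H).primeFactors :=
      Nat.mem_primeFactors.mpr ⟨hp, hpH, Nat.card_pos.ne'⟩
    have hxK : x ∈ K p hp hpH := by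
      have := (Subgroup.mem_iInf.mp hxN) ⟨p, hpmem⟩
      exact this
    have hxK' : orderOf x ∣ Nat.card (K p hp hpH) := by
      have := orderOf_dvd_natCard (⟨x, hxK⟩ : K p hp hpH)
      rwa [Subgroup.orderOf_mk] at this
    exact hKcop p hp hpH (hpx.trans hxK')
  have hidx : (⨅ p : (Nat.card H).primeFactors,
      K p.1 (Nat.prime_of_mem_primeFactors p.2) (Nat.dvd_of_mem_primeFactors p.2)).index ≤
      Nat.card H := by
    calc (⨅ p : (Nat.card H).primeFactors,
        K p.1 (Nat.prime_of_mem_primeFactors p.2) (Nat.dvd_of_mem_primeFactors p.2)).index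
        ≤ ∏ p : (Nat.card H).primeFactors,
          (K p.1 (Nat.prime_of_mem_primeFactors p.2) (Nat.dvd_of_mem_primeFactors p.2)).index :=
          Subgroup.index_iInf_le _
      _ = ∏ p : (Nat.card H).primeFactors, (p : ℕ) ^ (Nat.card H).factorization (p : ℕ) := by
          apply Finset.prod_congr rfl
          intro p _
          exact hKidx _ _ _
      _ = ∏ p ∈ (Nat.card H).primeFactors, p ^ (Nat.card H).factorization p :=
          Finset.prod_coe_sort (Nat.card H).primeFactors (fun p => p ^ (Nat.card H).factorization p)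
      _ = Nat.card H := by
          rw [← Nat.prod_factorization_eq_prod_primeFactors]
          exact Nat.prod_factorization_pow_eq_self Nat.card_pos.ne'
  haveI := hNn
  refine ⟨_, hNn, ?_⟩
  apply Subgroup.isComplement'_of_card_mul_and_disjoint
  · apply le_antisymm
    · have h1 := Cfsg.Agent.Lib.Helper1.card_sup_eq_mul_of_inf_eq_bot H _ hinf
      rw [mul_comm, ← h1]
      exact Subgroup.card_le_card_group _
    · have h2 := Subgroup.card_mul_index (⨅ p : (Nat.card H).primeFactors,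
        K p.1 (Nat.prime_of_mem_primeFactors p.2) (Nat.dvd_of_mem_primeFactors p.2))
      rw [← h2]
      exact Nat.mul_le_mul_left _ hidx
  · rw [disjoint_iff, inf_comm]
    exact hinf

end Cfsg.Agent.S0558
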