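import Cfsg.Statements.S0563
import Mathlib
import Cfsg.Agent.Lib.Helper18.KW10

set_option autoImplicit false
open Pointwise
open Cfsg

namespace Cfsg.Agent.S0563

open Cfsg.Agent.Lib.Helper18 Cfsg.Agent.Lib.Helper18.KW in
theorem hall_aux {G : Type*} [Group G] [Finite G] (A B : Subgroup G) (hA : Group.IsNilpotent A)
    (hcop : (Nat.card A).Coprime (Nat.card B)) (hcard : Nat.card G = Nat.card A * Nat.card B)
    (p : ℕ) (hp : p.Prime) : (Nat.card (sp A p)).Coprime ((sp A p).relIndex ⊤) := by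
  by_cases hpA : p ∣ Nat.card A
  · have h1 := sp_isSylowIn hA hp
    have hidx : A.index = Nat.card B := by
      have h2 := A.card_mul_index
      rw [hcard] at h2
      exact Nat.eq_of_mul_eq_mul_left Nat.card_pos h2
    have hsyl : IsSylowIn p (sp A p) ⊤ := by
      refine ⟨le_top, h1.isPGroup, ?_⟩
      rw [← Subgroup.relIndex_mul_relIndex _ _ _ h1.le le_top, Subgroup.relIndex_top_right, hidx]
      intro hd
      rcases (Nat.Prime.dvd_mul hp).mp hd with h2 | h2
      · exact h1.not_dvd h2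
      · have := Nat.dvd_gcd hpA h2
        rw [hcop.gcd_eq_one] at this
        exact hp.one_lt.ne' (Nat.dvd_one.mp this)
    exact sylowIn_coprime hp hsyl
  · rw [sp_card hA hp, Nat.factorization_eq_zero_of_not_dvd hpA, pow_zero]
    exact Nat.coprime_one_left _

theorem result {G : Type*} [Group G] [Finite G] (A B : Subgroup G) (hA : Group.IsNilpotent A) (hB : Group.IsNilpotent B) (hcop : (Nat.card A).Coprime (Nat.card B)) (hAB : ∀ g : G, ∃ a ∈ A, ∃ b ∈ B, g = a * b) : Group.IsSolvable G ∧ ∀ (p q : ℕ) [Fact p.Prime] [Fact q.Prime] (P : Sylow p A) (Q : Sylow q B), ∃ S : Subgroup G, (S : Set G) = (((P : Subgroup A).map A.subtype : Subgroup G) : Set G) * (((Q : Subgroup B).map B.subtype : Subgroup G) : Set G) := by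
  open Cfsg.Agent.Lib.Helper18 Cfsg.Agent.Lib.Helper18.KW in
  have hsol : Group.IsSolvable G := coprime_solvable A B hA hB hcop hAB
  refine ⟨hsol, ?_⟩
  intro p q hp hq P Q
  have hAB0 : A ⊓ B = ⊥ := (Subgroup.disjoint_of_coprime_natCard hcop).eq_bot
  have hcard : Nat.card G = Nat.card A * Nat.card B := by
    have h := (fz_top hAB).card hAB0
    rw [Subgroup.card_top, top_inf_eq, top_inf_eq] at h
    exact h
  have hfz' : ∀ g : G, ∃ b ∈ B, ∃ a ∈ A, g = b * a := by
    intro g
    obtain ⟨a, ha, b, hb, h1⟩ := hAB g⁻¹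
    refine ⟨b⁻¹, inv_mem hb, a⁻¹, inv_mem ha, ?_⟩
    rw [← mul_inv_rev, ← h1, inv_inv]
  have hcard' : Nat.card G = Nat.card B * Nat.card A := by rw [hcard, mul_comm]
  have hsolT : Group.IsSolvable (⊤ : Subgroup G) :=
    Group.isSolvable_of_isSolvable_injective (Subgroup.subtype_injective _)
  rw [← sp_eq_map_sylow hA P, ← sp_eq_map_sylow hB Q]
  exact perm ⊤ A B (sp A p) (sp B q) hsolT (fz_top hAB)
    (le_inf le_top (sp_le A p)) (inf_le_right.trans (sp_le_normalizer A p))
    (hall_aux A B hA hcop hcard p hp.out)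
    (le_inf le_top (sp_le B q)) (inf_le_right.trans (sp_le_normalizer B q))
    (hall_aux B A hB hcop.symm hcard' q hq.out)

end Cfsg.Agent.S0563
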