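import Mathlib
import Cfsg.Statements.S0567

set_option autoImplicit false
open Cfsg

namespace Cfsg.Agent.S0567

open scoped commutatorElement

theorem result {G : Type*} [Group G] (H : Subgroup G) : H.IsSubnormal ↔ ∃ m : ℕ, (fun K : Subgroup G => ⁅K, H⁆)^[m] ⊤ ≤ H := by
  constructor
  · intro h
    induction h with
    | top => exact ⟨0, le_rfl⟩
    | step H K hle hK hN ih =>
      obtain ⟨m, hm⟩ := ih
      refine ⟨m + 1, ?_⟩
      rw [Function.iterate_succ_apply']
      have hmono : Monotone (fun X : Subgroup G => ⁅X, H⁆) := fun X Y hXY =>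
        Subgroup.commutator_mono hXY le_rfl
      have hfg : (fun X : Subgroup G => ⁅X, H⁆) ≤ (fun X : Subgroup G => ⁅X, K⁆) := fun X =>
        Subgroup.commutator_mono le_rfl hle
      have h1 : (fun X : Subgroup G => ⁅X, H⁆)^[m] ⊤ ≤ K :=
        (hmono.iterate_le_of_le hfg m ⊤).trans hm
      have h2 : K ≤ Subgroup.normalizer (H : Set G) :=
        (Subgroup.normal_subgroupOf_iff_le_normalizer hle).mp hN
      calc ⁅(fun X : Subgroup G => ⁅X, H⁆)^[m] ⊤, H⁆ ≤ ⁅K, H⁆ := Subgroup.commutator_mono h1 le_rfl
        _ ≤ H := Subgroup.le_normalizer_iff_commutator_le_right.mp h2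
  · rintro ⟨m, hm⟩
    set f : Subgroup G → Subgroup G := fun K => ⁅K, H⁆ with hf
    have hnorm : ∀ j, H ≤ Subgroup.normalizer ((f^[j] ⊤ : Subgroup G) : Set G) := by
      intro j
      cases j with
      | zero =>
        simp only [Function.iterate_zero, id_eq]
        rw [Subgroup.normalizer_eq_top]
        exact le_top
      | succ j =>
        rw [Function.iterate_succ_apply']
        exact Subgroup.normalizer_commutator_ge_right _ _
    have hdesc : ∀ j, f^[j + 1] ⊤ ≤ f^[j] ⊤ := by
      intro j
      rw [Function.iterate_succ_apply']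
      exact Subgroup.le_normalizer_iff_commutator_le_left.mp (hnorm j)
    have hsub : ∀ j, (H ⊔ f^[j] ⊤).IsSubnormal := by
      intro j
      induction j with
      | zero =>
        simp only [Function.iterate_zero, id_eq, le_top, sup_of_le_right]
        exact Subgroup.IsSubnormal.top
      | succ j ih =>
        have hle : H ⊔ f^[j + 1] ⊤ ≤ H ⊔ f^[j] ⊤ := sup_le_sup_left (hdesc j) H
        refine Subgroup.IsSubnormal.step _ _ hle ih ?_
        rw [Subgroup.normal_subgroupOf_iff_le_normalizer hle]
        apply sup_le
        · refine le_trans ?_ (Subgroup.normalizer_inf_normalizer_le_normalizer_sup H (f^[j + 1] ⊤))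
          exact le_inf Subgroup.le_normalizer (hnorm (j + 1))
        · rw [Subgroup.le_normalizer_iff]
          intro k hk x hx
          have hkN : f^[j] ⊤ ≤ Subgroup.normalizer ((f^[j + 1] ⊤ : Subgroup G) : Set G) := by
            rw [Function.iterate_succ_apply']
            exact Subgroup.normalizer_commutator_ge_left _ _
          have hmap : (H ⊔ f^[j + 1] ⊤).map (MulAut.conj k).toMonoidHom ≤ H ⊔ f^[j + 1] ⊤ := by
            rw [Subgroup.map_sup]
            apply sup_le
            · rintro _ ⟨h, hh, rfl⟩
              have e : (MulAut.conj k).toMonoidHom h = ⁅k, h⁆ * h := by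
                simp [commutatorElement_def]
              rw [e]
              have hc : ⁅k, h⁆ ∈ f^[j + 1] ⊤ := by
                rw [Function.iterate_succ_apply']
                exact Subgroup.commutator_mem_commutator hk hh
              exact mul_mem (Subgroup.mem_sup_right hc) (Subgroup.mem_sup_left hh)
            · rintro _ ⟨c, hc, rfl⟩
              have : k * c * k⁻¹ ∈ f^[j + 1] ⊤ :=
                (Subgroup.mem_normalizer_iff.mp (hkN hk) c).mp hc
              exact Subgroup.mem_sup_right (by simpa using this)
          have := hmap ⟨x, hx, rfl⟩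
          simpa using this
    have := hsub m
    rwa [sup_of_le_left hm] at this

end Cfsg.Agent.S0567
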