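import Cfsg.Statements.S0570
import Cfsg.Agent.Lib.helper23.CarterD

set_option autoImplicit false
open Cfsg

namespace Cfsg.Agent.S0570

/-- Let G be a finite group with a nilpotent normal subgroup F such that G modulo F is nilpotent (nilpotent length at most two). Then a subgroup of G is a Carter subgroup if and only if it is the system normalizer of some Hall complement system. -/
theorem result {G : Type*} [Group G] [Finite G] (F : Subgroup G) [F.Normal] (hF : Group.IsNilpotent F) (hGF : Group.IsNilpotent (G ⧸ F)) (C : Subgroup G) : Cfsg.IsCarterSubgroup C ↔ ∃ K : Nat.Primes → Subgroup G, Cfsg.IsComplementSystem K ∧ C = Cfsg.systemNormalizer K := by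
  have hsolv : Group.IsSolvable G := by
    have h1 : Group.IsNilpotent F := hF
    have h2 : Group.IsNilpotent (G ⧸ F) := hGF
    refine Group.isSolvable_of_ker_le_range F.subtype (QuotientGroup.mk' F) ?_
    rw [QuotientGroup.ker_mk', Subgroup.range_subtype]
  constructor
  · intro hC
    obtain ⟨K, hK, hDC⟩ := Cfsg.Agent.Lib.helper23.car_contains_sysnorm hC
    refine ⟨K, hK, ?_⟩
    have hD := Cfsg.Agent.Lib.helper23.car_sysnorm_isCarter F hF hGF K hK
    exact (Cfsg.Agent.Lib.helper23.car_eq_of_le hDC hC.1 hD.2).symm
  · rintro ⟨K, hK, rfl⟩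
    exact Cfsg.Agent.Lib.helper23.car_sysnorm_isCarter F hF hGF K hK

end Cfsg.Agent.S0570
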