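import Mathlib
import Cfsg.Statements.S0571
import Cfsg.Agent.Lib.helper4.SupersolvableB
import Cfsg.Agent.Lib.Helper5.Glauberman
import Cfsg.Agent.Lib.Helper5.Card
import Cfsg.Agent.Lib.Helper21.Zipper

set_option autoImplicit false
open Cfsg

namespace Cfsg.Agent.S0571

universe u

open scoped Pointwise
open Cfsg.Agent.Lib.helper4 Cfsg.Agent.Lib.Helper5

section
variable {G : Type u} [Group G] [Finite G]

theorem le_of_card_eq_of_cyclic (A D D' : Subgroup G) [IsCyclic A] (hD : D ≤ A) (hD' : D' ≤ A)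
    (hc : Nat.card D' = Nat.card D) : D' ≤ D := by
  classical
  haveI : Fintype A := Fintype.ofFinite A
  have hd0 : 0 < Nat.card D := Nat.card_pos
  have hT := IsCyclic.card_pow_eq_one_le (α := A) hd0
  have hsub : (Finset.univ.filter fun a : A => a ∈ D.subgroupOf A) ⊆
      (Finset.univ.filter fun a : A => a ^ Nat.card D = 1) := by
    intro a ha
    rw [Finset.mem_filter] at ha ⊢
    refine ⟨Finset.mem_univ _, ?_⟩
    have h1 : (a : G) ∈ D := ha.2
    have h2 : (⟨(a : G), h1⟩ : D) ^ Nat.card D = 1 := pow_card_eq_one'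
    apply Subtype.ext
    have h3 := congrArg Subtype.val h2
    rw [Subgroup.coe_pow, Subgroup.coe_one] at h3
    rw [Subgroup.coe_pow, Subgroup.coe_one]
    exact h3
  have hcardD : (Finset.univ.filter fun a : A => a ∈ D.subgroupOf A).card = Nat.card D := by
    rw [← Nat.card_congr (Subgroup.subgroupOfEquivOfLe hD).toEquiv, Nat.card_eq_fintype_card,
      Fintype.card_subtype]
  have heq := Finset.eq_of_subset_of_card_le hsub (by rw [hcardD]; exact hT)
  intro x hx
  have hxA : x ∈ A := hD' hx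
  have h2 : (⟨x, hx⟩ : D') ^ Nat.card D' = 1 := pow_card_eq_one'
  have h3 : (⟨x, hxA⟩ : A) ^ Nat.card D = 1 := by
    apply Subtype.ext
    have h5 := congrArg Subtype.val h2
    rw [hc, Subgroup.coe_pow, Subgroup.coe_one] at h5
    rw [Subgroup.coe_pow, Subgroup.coe_one]
    exact h5
  have h4 : (⟨x, hxA⟩ : A) ∈ (Finset.univ.filter fun a : A => a ^ Nat.card D = 1) := by
    rw [Finset.mem_filter]; exact ⟨Finset.mem_univ _, h3⟩
  rw [← heq, Finset.mem_filter] at h4
  exact h4.2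

theorem mem_conj (g : G) (M : Subgroup G) (y : G) :
    y ∈ MulAut.conj g • M ↔ g⁻¹ * y * g ∈ M := by
  rw [Subgroup.mem_pointwise_smul_iff_inv_smul_mem]
  simp [MulAut.smul_def]

theorem comm_of_cyclic (A : Subgroup G) [IsCyclic A] : ∀ x ∈ A, ∀ y ∈ A, x * y = y * x := by
  intro x hx y hy
  let : CommGroup A := IsCyclic.commGroup
  have := mul_comm (⟨x, hx⟩ : A) ⟨y, hy⟩
  exact congrArg Subtype.val this

theorem exists_normal_in_A (A B : Subgroup G) [IsCyclic A] [IsCyclic B]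
    (hAB : ∀ g : G, ∃ a ∈ A, ∃ b ∈ B, g = a * b) (hcard : Nat.card B ≤ Nat.card A)
    (hBA : ¬ B ≤ A) : ∃ D : Subgroup G, D.Normal ∧ D ≠ ⊥ ∧ D ≤ A := by
  obtain ⟨b₀, hb₀⟩ := IsCyclic.exists_generator (α := B)
  have hBz : ∀ x ∈ B, x ∈ Subgroup.zpowers (b₀ : G) := by
    intro x hx
    obtain ⟨k, hk⟩ := Subgroup.mem_zpowers_iff.mp (hb₀ ⟨x, hx⟩)
    refine Subgroup.mem_zpowers_iff.mpr ⟨k, ?_⟩
    have := congrArg Subtype.val hk
    simpa using this
  have hbA : (b₀ : G) ∉ A := by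
    intro h
    apply hBA
    intro x hx
    exact (Subgroup.zpowers_le.mpr h) (hBz x hx)
  have hAc := comm_of_cyclic A
  refine ⟨A ⊓ MulAut.conj (b₀ : G)⁻¹ • A, ?_, ?_, inf_le_left⟩
  · have hbN : (b₀ : G) ∈ Subgroup.normalizer
        ((A ⊓ MulAut.conj (b₀ : G)⁻¹ • A : Subgroup G) : Set G) := by
      apply h5g_mem_normalizer_of_conj_le
      intro d hd
      have hle : MulAut.conj (b₀ : G) • (A ⊓ MulAut.conj (b₀ : G)⁻¹ • A) ≤
          A ⊓ MulAut.conj (b₀ : G)⁻¹ • A := by
        apply le_of_card_eq_of_cyclic A _ _ inf_le_left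
        · intro y hy
          rw [mem_conj] at hy
          have h1 := (Subgroup.mem_inf.mp hy).2
          rw [mem_conj, inv_inv] at h1
          have e : (b₀ : G) * ((b₀ : G)⁻¹ * y * (b₀ : G)) * (b₀ : G)⁻¹ = y := by group
          rwa [e] at h1
        · exact Cfsg.Agent.Lib.Helper21.card_conj_smul _ _
      apply hle
      rw [mem_conj]
      have e : (b₀ : G)⁻¹ * ((b₀ : G) * d * (b₀ : G)⁻¹) * (b₀ : G) = d := by group
      rw [e]
      exact hd
    rw [← Subgroup.normalizer_eq_top_iff, eq_top_iff]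
    intro g _
    obtain ⟨a, ha, x, hx, rfl⟩ := hAB g
    apply Subgroup.mul_mem
    · apply h5g_mem_normalizer_of_conj_le
      intro d hd
      have : a * d * a⁻¹ = d := by
        rw [hAc a ha d (Subgroup.mem_inf.mp hd).1]; group
      rw [this]; exact hd
    · exact (Subgroup.zpowers_le.mpr hbN) (hBz x hx)
  · intro hbot
    have h1 := card_mul_set_mul_card_inf A (MulAut.conj (b₀ : G)⁻¹ • A)
    rw [hbot, Subgroup.card_bot, mul_one, Cfsg.Agent.Lib.Helper21.card_conj_smul] at h1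
    have hG : Nat.card G ≤ Nat.card A * Nat.card B := by
      rw [← Nat.card_prod]
      apply Nat.card_le_card_of_surjective (fun ab : A × B => (ab.1 : G) * (ab.2 : G))
      intro g
      obtain ⟨a, ha, x, hx, rfl⟩ := hAB g
      exact ⟨(⟨a, ha⟩, ⟨x, hx⟩), rfl⟩
    have huniv : ((A : Set G) * ((MulAut.conj (b₀ : G)⁻¹ • A : Subgroup G) : Set G)) = Set.univ := by
      apply Set.eq_of_subset_of_ncard_le (Set.subset_univ _)
      rw [Set.ncard_univ, ← Nat.card_coe_set_eq, h1]
      exact hG.trans (Nat.mul_le_mul_left _ hcard)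
    have hb : (b₀ : G) ∈ ((A : Set G) * ((MulAut.conj (b₀ : G)⁻¹ • A : Subgroup G) : Set G)) := by
      rw [huniv]; trivial
    obtain ⟨a₁, ha₁, y, hy, hay⟩ := Set.mem_mul.mp hb
    have hay' : a₁ * y = (b₀ : G) := hay
    have hy' : y ∈ MulAut.conj (b₀ : G)⁻¹ • A := hy
    rw [mem_conj, inv_inv] at hy'
    have hyeq : y = a₁⁻¹ * (b₀ : G) := by rw [← hay']; group
    rw [hyeq] at hy'
    have e : (b₀ : G) * (a₁⁻¹ * (b₀ : G)) * (b₀ : G)⁻¹ = (b₀ : G) * a₁⁻¹ := by group
    rw [e] at hy'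
    apply hbA
    have := A.mul_mem hy' ha₁
    have e2 : (b₀ : G) * a₁⁻¹ * a₁ = (b₀ : G) := by group
    rwa [e2] at this

end

theorem isCyclic_of_le {G : Type u} [Group G] (A D : Subgroup G) [IsCyclic A] (hD : D ≤ A) :
    IsCyclic D := by
  have h1 : IsCyclic (D.subgroupOf A) := inferInstance
  exact isCyclic_of_surjective (Subgroup.subgroupOfEquivOfLe hD).toMonoidHom
    (Subgroup.subgroupOfEquivOfLe hD).surjective

theorem cyclic_top {G : Type u} [Group G] [Finite G] (A B : Subgroup G) [hA : IsCyclic A]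
    (hAB : ∀ g : G, ∃ a ∈ A, ∃ b ∈ B, g = a * b) (hBA : B ≤ A) : IsSupersolvable G := by
  have htop : A = ⊤ := by
    rw [eq_top_iff]
    intro g _
    obtain ⟨a, ha, b, hb, rfl⟩ := hAB g
    exact A.mul_mem ha (hBA hb)
  subst htop
  haveI : Subsingleton (G ⧸ (⊤ : Subgroup G)) := QuotientGroup.subsingleton_quotient_top
  exact isSupersolvable_of_cyclic_normal (⊤ : Subgroup G) isSupersolvable_of_subsingleton

theorem main_aux (n : ℕ) : ∀ (G : Type u) [Group G] [Finite G], Nat.card G = n →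
    ∀ A B : Subgroup G, IsCyclic A → IsCyclic B →
    (∀ g : G, ∃ a ∈ A, ∃ b ∈ B, g = a * b) → IsSupersolvable G := by
  induction n using Nat.strong_induction_on with
  | _ n ih =>
    intro G _ _ hn A B hA hB hAB
    have hBA' : ∀ g : G, ∃ b ∈ B, ∃ a ∈ A, g = b * a := by
      intro g
      obtain ⟨a, ha, b, hb, h⟩ := hAB g⁻¹
      refine ⟨b⁻¹, B.inv_mem hb, a⁻¹, A.inv_mem ha, ?_⟩
      rw [← mul_inv_rev, ← h, inv_inv]
    by_cases hBA : B ≤ A
    · exact cyclic_top A B hAB hBA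
    by_cases hAB' : A ≤ B
    · exact cyclic_top B A hBA' hAB'
    have hD : ∃ D : Subgroup G, D.Normal ∧ D ≠ ⊥ ∧ IsCyclic D := by
      rcases le_total (Nat.card B) (Nat.card A) with hc | hc
      · obtain ⟨D, hDn, hD1, hDA⟩ := exists_normal_in_A A B hAB hc hBA
        exact ⟨D, hDn, hD1, isCyclic_of_le A D hDA⟩
      · obtain ⟨D, hDn, hD1, hDB⟩ := exists_normal_in_A B A hBA' hc hAB'
        exact ⟨D, hDn, hD1, isCyclic_of_le B D hDB⟩
    obtain ⟨D, hDn, hD1, hDc⟩ := hD
    haveI := hDn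
    haveI := hDc
    have hlt : Nat.card (G ⧸ D) < n := by
      rw [← hn, ← D.card_mul_index, ← Subgroup.index_eq_card]
      have h1 : Nat.card D ≠ 1 := fun h => hD1 (Subgroup.card_eq_one.mp h)
      have h0 : 0 < Nat.card D := Nat.card_pos
      have hi : 0 < D.index := Nat.pos_of_ne_zero Subgroup.index_ne_zero_of_finite
      have h2 : 2 ≤ Nat.card D := by omega
      nlinarith
    have hAq : IsCyclic (A.map (QuotientGroup.mk' D)) :=
      isCyclic_of_surjective ((QuotientGroup.mk' D).subgroupMap A)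
        (MonoidHom.subgroupMap_surjective _ _)
    have hBq : IsCyclic (B.map (QuotientGroup.mk' D)) :=
      isCyclic_of_surjective ((QuotientGroup.mk' D).subgroupMap B)
        (MonoidHom.subgroupMap_surjective _ _)
    have hprod : ∀ g : G ⧸ D, ∃ a ∈ A.map (QuotientGroup.mk' D),
        ∃ b ∈ B.map (QuotientGroup.mk' D), g = a * b := by
      intro g
      obtain ⟨g, rfl⟩ := QuotientGroup.mk'_surjective D g
      obtain ⟨a, ha, b, hb, rfl⟩ := hAB g
      exact ⟨_, Subgroup.mem_map_of_mem _ ha, _, Subgroup.mem_map_of_mem _ hb, map_mul _ a b⟩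
    have hq := ih _ hlt (G ⧸ D) rfl _ _ hAq hBq hprod
    exact isSupersolvable_of_cyclic_normal D hq

theorem result {G : Type*} [Group G] [Finite G] (A B : Subgroup G) [IsCyclic A] [IsCyclic B] (hAB : ∀ g : G, ∃ a ∈ A, ∃ b ∈ B, g = a * b) : Cfsg.IsSupersolvable G := by
  exact main_aux _ G rfl A B inferInstance inferInstance hAB

end Cfsg.Agent.S0571
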