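import Mathlib
import Cfsg.Statements.S0573
import Cfsg.Agent.Lib.Helper10.ItoB3

set_option autoImplicit false
open Cfsg

namespace Cfsg.Agent.S0573

open scoped commutatorElement
open Cfsg.Agent.Lib.Helper10.ItoB

theorem result {G : Type*} [Group G] [Finite G] [Nontrivial G] (A B : Subgroup G) [IsMulCommutative A] [IsMulCommutative B] (hAB : ∀ g : G, ∃ a ∈ A, ∃ b ∈ B, g = a * b) : ∃ N : Subgroup G, N.Normal ∧ N ≠ ⊥ ∧ (N ≤ A ∨ N ≤ B) := by
  by_contra hcon
  have hno : ∀ N : Subgroup G, N.Normal → (N ≤ A ∨ N ≤ B) → N = ⊥ := by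
    intro N hN hle
    by_contra hne
    exact hcon ⟨N, hN, hne, hle⟩
  have hcA : ∀ x ∈ A, ∀ y ∈ A, x * y = y * x := by
    intro x hx y hy
    have := (IsMulCommutative.is_comm (M := A)).comm ⟨x, hx⟩ ⟨y, hy⟩
    exact congrArg Subtype.val this
  have hcB : ∀ x ∈ B, ∀ y ∈ B, x * y = y * x := by
    intro x hx y hy
    have := (IsMulCommutative.is_comm (M := B)).comm ⟨x, hx⟩ ⟨y, hy⟩
    exact congrArg Subtype.val this
  have hcex : Cex A B :=
    { commA := hcA
      commB := hcB
      prod := hAB
      noA := fun N hN hle => hno N hN (Or.inl hle)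
      noB := fun N hN hle => hno N hN (Or.inr hle) }
  have hM := commutator_comm (A := A) (B := B) hAB
  by_cases hne : commutator G = ⊥
  · have hcomm : ∀ x y : G, x * y = y * x := by
      intro x y
      have : ⁅x, y⁆ ∈ commutator G := comm_mem_commutator x y
      rw [hne, Subgroup.mem_bot] at this
      exact commutatorElement_eq_one_iff_mul_comm.1 this
    have hnorm : ∀ N : Subgroup G, N.Normal := by
      intro N
      constructor
      intro n hn g
      have : g * n * g⁻¹ = n := by rw [hcomm g n]; group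
      rw [this]; exact hn
    have hA1 : A = ⊥ := hno A (hnorm A) (Or.inl le_rfl)
    have hB1 : B = ⊥ := hno B (hnorm B) (Or.inr le_rfl)
    obtain ⟨x, y, hxy⟩ := exists_pair_ne G
    have h1 : ∀ g : G, g = 1 := by
      intro g
      obtain ⟨a, ha, b, hb, rfl⟩ := hAB g
      rw [hA1, Subgroup.mem_bot] at ha
      rw [hB1, Subgroup.mem_bot] at hb
      rw [ha, hb, one_mul]
    exact hxy ((h1 x).trans (h1 y).symm)
  · exact false_of_cex hcex hM hne

end Cfsg.Agent.S0573
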