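import Cfsg.Statements.S0574
import Mathlib
import Cfsg.Agent.Lib.Helper20.AbClassTwo

set_option autoImplicit false
open Cfsg

namespace Cfsg.Agent.S0574

open scoped commutatorElement


/-- Let the finite group G be the product AB of an abelian subgroup A and a subgroup B of nilpotency class at most two, and let Ω be the number of prime factors, with multiplicity, of the order of the commutator subgroup of B. Then the term of index 2(1 + Ω) of the derived series of G is trivial. -/
theorem result {G : Type*} [Group G] [Finite G] (A B : Subgroup G) [IsMulCommutative A] (hB : commutator ↥B ≤ Subgroup.center ↥B) (hAB : ∀ g : G, ∃ a ∈ A, ∃ b ∈ B, g = a * b) : derivedSeries G (2 * (1 + (Nat.card ↥(commutator ↥B)).primeFactorsList.length)) = ⊥ := by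
  have hA : ∀ x ∈ A, ∀ y ∈ A, x * y = y * x := fun x hx y hy => setLike_mul_comm hx hy
  have hmap : (commutator ↥B).map B.subtype = ⁅B, B⁆ := Subgroup.map_subtype_commutator B
  have hB' : ∀ t ∈ ⁅B, B⁆, ∀ b ∈ B, t * b = b * t := by
    intro t ht b hb
    rw [← hmap] at ht
    obtain ⟨c, hc, rfl⟩ := ht
    have h1 := hB hc
    rw [Subgroup.mem_center_iff] at h1
    have h2 := h1 ⟨b, hb⟩
    have h3 := congrArg Subtype.val h2
    simpa using h3.symm
  have hcard : Nat.card ↥(commutator ↥B) = Nat.card (⁅B, B⁆ : Subgroup G) := by
    rw [← hmap]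
    exact (Subgroup.card_map_of_injective B.subtype_injective).symm
  rw [hcard]
  exact Cfsg.Agent.Lib.Helper20.AbClassTwo.main_aux _ G A B hA hB' hAB le_rfl

end Cfsg.Agent.S0574
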