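import Mathlib
import Cfsg.Statements.S0576

set_option autoImplicit false
open Cfsg

namespace Cfsg.Agent.S0576

theorem inner_normal {H : Type*} [Group H] : ((MulAut.conj : H →* MulAut H).range).Normal := by
  constructor
  rintro _ ⟨h, rfl⟩ σ
  refine ⟨σ h, ?_⟩
  ext x
  simp [MulAut.conj_apply]

theorem result {G : Type*} [Group G] [Finite G] (H : Subgroup G) [H.Normal] (hH : H ≤ frattini G) : (MulAut.conj : ↥H →* MulAut ↥H).range ≤ frattini (MulAut ↥H) := by
  classical
  set I : Subgroup (MulAut ↥H) := (MulAut.conj : ↥H →* MulAut ↥H).range with hI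
  have hIn : I.Normal := inner_normal
  unfold frattini Order.radical
  apply le_iInf₂
  intro M hM
  by_contra hnot
  have htop : I ⊔ M = ⊤ := by
    apply hM.2
    refine lt_of_le_of_ne le_sup_right ?_
    intro heq
    apply hnot
    rw [heq]
    exact le_sup_left
  set φ : G →* MulAut ↥H := MulAut.conjNormal with hφ
  set K : Subgroup G := M.comap φ with hK
  have hHK : K ⊔ frattini G = ⊤ := by
    rw [eq_top_iff]
    intro g _
    have hg : φ g ∈ I ⊔ M := by rw [htop]; trivial
    rw [← SetLike.mem_coe, Subgroup.normal_mul] at hg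
    obtain ⟨i, hi, m, hm, him⟩ := hg
    obtain ⟨h, rfl⟩ := hi
    have h1 : φ ((h : G)⁻¹ * g) = m := by
      rw [map_mul, map_inv, hφ, MulAut.conjNormal_val, ← hφ, ← him]
      group
    have h2 : (h : G)⁻¹ * g ∈ K := by
      rw [hK, Subgroup.mem_comap, h1]; exact hm
    have h3 : g = (h : G) * ((h : G)⁻¹ * g) := by group
    rw [h3]
    apply Subgroup.mul_mem
    · exact Subgroup.mem_sup_right (hH h.2)
    · exact Subgroup.mem_sup_left h2
  have hKtop : K = ⊤ := frattini_nongenerating hHK
  apply hnot
  rintro _ ⟨h, rfl⟩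
  have : (h : G) ∈ K := by rw [hKtop]; trivial
  rw [hK, Subgroup.mem_comap, hφ, MulAut.conjNormal_val] at this
  exact this

end Cfsg.Agent.S0576
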