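import Mathlib
import Cfsg.Statements.S0578

set_option autoImplicit false
open Cfsg

namespace Cfsg.Agent.S0578

open scoped commutatorElement

theorem sylow_comm {G : Type*} [Group G] [Finite G] (h : ∀ A : Subgroup G, IsMulCommutative A → Subgroup.normalizer (A : Set G) = Subgroup.centralizer (A : Set G)) (p : ℕ) [Fact p.Prime] (P : Sylow p G) : IsMulCommutative (P : Subgroup G) := by
  classical
  have hfin : Set.Finite {A : Subgroup G | A ≤ (P : Subgroup G) ∧ IsMulCommutative A} :=
    Set.toFinite _
  have hne : {A : Subgroup G | A ≤ (P : Subgroup G) ∧ IsMulCommutative A}.Nonempty :=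
    ⟨⊥, bot_le, inferInstance⟩
  obtain ⟨A, ⟨hAP, hAc⟩, hmax⟩ :=
    Set.exists_max_image _ (fun A : Subgroup G => Nat.card A) hfin hne
  by_cases hAeq : A = (P : Subgroup G)
  · rw [← hAeq]; exact hAc
  exfalso
  have hnil : Group.IsNilpotent (P : Subgroup G) := P.2.isNilpotent
  have hnc : NormalizerCondition (P : Subgroup G) := Group.normalizerCondition_of_isNilpotent
  have hlt : A.subgroupOf (P : Subgroup G) < ⊤ := by
    rw [lt_top_iff_ne_top, Ne, Subgroup.subgroupOf_eq_top]
    intro hle
    exact hAeq (le_antisymm hAP hle)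
  have hlt2 := hnc _ hlt
  rw [← Subgroup.subgroupOf_normalizer_eq hAP] at hlt2
  obtain ⟨x, hx1, hx2⟩ := SetLike.exists_of_lt hlt2
  rw [Subgroup.mem_subgroupOf] at hx1 hx2
  rw [h A hAc] at hx1
  have hcomm : ∀ y ∈ ((A : Set G) ∪ {(x : G)}), ∀ z ∈ ((A : Set G) ∪ {(x : G)}), y * z = z * y := by
    rintro y (hy | hy) z (hz | hz)
    · exact setLike_mul_comm hy hz
    · rw [Set.mem_singleton_iff] at hz; subst hz; exact (hx1 y hy)
    · rw [Set.mem_singleton_iff] at hy; subst hy; exact (hx1 z hz).symm
    · rw [Set.mem_singleton_iff] at hy hz; subst hy; subst hz; rfl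
  have hB := Subgroup.isMulCommutative_closure hcomm
  have hBP : Subgroup.closure ((A : Set G) ∪ {(x : G)}) ≤ (P : Subgroup G) := by
    rw [Subgroup.closure_le]
    rintro y (hy | hy)
    · exact hAP hy
    · rw [Set.mem_singleton_iff] at hy; subst hy; exact x.2
  have hle : A ≤ Subgroup.closure ((A : Set G) ∪ {(x : G)}) := fun a ha =>
    Subgroup.subset_closure (Or.inl ha)
  have hcard := hmax _ ⟨hBP, hB⟩
  have := Subgroup.eq_of_le_of_card_ge hle hcard
  apply hx2
  rw [this]
  exact Subgroup.subset_closure (Or.inr rfl)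

theorem result {G : Type*} [Group G] [Finite G] (h : ∀ A : Subgroup G, IsMulCommutative A → Subgroup.normalizer (A : Set G) = Subgroup.centralizer (A : Set G)) : IsMulCommutative G := by
  rw [← commutator_eq_bot_iff]
  by_contra hne
  have hcard : Nat.card (commutator G) ≠ 1 := by
    intro h1
    exact hne (Subgroup.card_eq_one.mp h1)
  obtain ⟨p, hp, hpd⟩ := Nat.exists_prime_and_dvd hcard
  have : Fact p.Prime := ⟨hp⟩
  obtain ⟨P⟩ : Nonempty (Sylow p G) := inferInstance
  have hPc : IsMulCommutative (P : Subgroup G) := sylow_comm h p P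
  have hP : Subgroup.normalizer (P : Set G) ≤ Subgroup.centralizer (P : Set G) := by
    change Subgroup.normalizer ((P : Subgroup G) : Set G) ≤
      Subgroup.centralizer ((P : Subgroup G) : Set G)
    rw [h _ hPc]
  have hcompl := MonoidHom.ker_transferSylow_isComplement' P hP
  have hle : commutator G ≤ (MonoidHom.transferSylow P hP).ker := by
    rw [commutator_def, Subgroup.commutator_le]
    intro x _ y _
    rw [MonoidHom.mem_ker, map_commutatorElement, commutatorElement_eq_one_iff_mul_comm]
    exact mul_comm' _ _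
  have h1 : Nat.card (MonoidHom.transferSylow P hP).ker * Nat.card (P : Subgroup G) = Nat.card G :=
    hcompl.card_mul_card
  have h2 : (P : Subgroup G).index * Nat.card (P : Subgroup G) = Nat.card G :=
    (P : Subgroup G).index_mul_card
  have h3 : Nat.card (MonoidHom.transferSylow P hP).ker = (P : Subgroup G).index := by
    have hpos : 0 < Nat.card (P : Subgroup G) := Nat.card_pos
    exact Nat.eq_of_mul_eq_mul_right hpos (h1.trans h2.symm)
  have h4 : Nat.card (commutator G) ∣ (P : Subgroup G).index := by
    rw [← h3]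
    exact Subgroup.card_dvd_of_le hle
  exact P.not_dvd_index (hpd.trans h4)

end Cfsg.Agent.S0578
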