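import Mathlib
import Cfsg.Statements.S0584

set_option autoImplicit false
open Cfsg

namespace Cfsg.Agent.S0584

theorem mem_normalizer_of_le_map {G : Type*} [Group G] [Finite G] (J : Subgroup G) (k : G)
    (h : J ≤ J.map (MulAut.conj k).toMonoidHom) : k ∈ Subgroup.normalizer (J : Set G) := by
  rw [Subgroup.mem_normalizer_iff_map_conj_eq]
  have hcard : Nat.card (J.map (MulAut.conj k).toMonoidHom) = Nat.card J :=
    Subgroup.card_map_of_injective (MulAut.conj k).injective
  exact (Subgroup.eq_of_le_of_card_ge h hcard.le).symm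

theorem result {G : Type*} [Group G] [Finite G] (A B : Subgroup G) [A.Normal] [B.Normal] (hBA : B ≤ A) (hB : B ≤ frattini G) (h : Group.IsNilpotent (↥A ⧸ B.subgroupOf A)) : Group.IsNilpotent A := by
  have q := (Group.isNilpotent_of_finite_tfae (G := A)).out 0 3
  rw [q]; clear q
  intro p hp P
  let π := QuotientGroup.mk' (B.subgroupOf A)
  have hπ : Function.Surjective π := QuotientGroup.mk'_surjective _
  have hn : ((P.mapSurjective hπ : Sylow p (↥A ⧸ B.subgroupOf A)) :
      Subgroup (↥A ⧸ B.subgroupOf A)).Normal := inferInstance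
  rw [Sylow.coe_mapSurjective] at hn
  set N : Subgroup A := ((P : Subgroup A).map π).comap π with hN
  have hNn : N.Normal := hn.comap π
  have hPN : (P : Subgroup A) ≤ N := Subgroup.le_comap_map π _
  have h1 : Subgroup.normalizer ((P : Subgroup A) : Set A) ⊔ N = ⊤ :=
    Sylow.normalizer_sup_eq_top' P hPN
  have h2 : N ≤ Subgroup.normalizer ((P : Subgroup A) : Set A) ⊔ B.subgroupOf A := by
    intro x hx
    obtain ⟨y, hy, hyx⟩ := hx
    have h3 : y⁻¹ * x ∈ B.subgroupOf A := by
      rw [← QuotientGroup.eq_one_iff]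
      change π (y⁻¹ * x) = 1
      rw [map_mul, map_inv, hyx]; group
    have : x = y * (y⁻¹ * x) := by group
    rw [this]
    exact Subgroup.mul_mem_sup (Subgroup.le_normalizer hy) h3
  have h4 : Subgroup.normalizer ((P : Subgroup A) : Set A) ⊔ B.subgroupOf A = ⊤ := by
    rw [eq_top_iff, ← h1]
    exact sup_le le_sup_left h2
  set P' : Subgroup G := (P : Subgroup A).map A.subtype with hP'
  have h5 : ∀ n : A, n ∈ Subgroup.normalizer ((P : Subgroup A) : Set A) →
      (n : G) ∈ Subgroup.normalizer (P' : Set G) := by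
    intro n hn'
    apply mem_normalizer_of_le_map
    rintro _ ⟨x, hx, rfl⟩
    have hx' : n⁻¹ * x * n ∈ (P : Subgroup A) :=
      (Subgroup.mem_normalizer_iff''.mp hn' x).mp hx
    refine ⟨((n⁻¹ * x * n : A) : G), ⟨_, hx', rfl⟩, ?_⟩
    simp only [MulEquiv.coe_toMonoidHom, MulAut.conj_apply, Subgroup.subtype_apply,
      Subgroup.coe_mul, Subgroup.coe_inv]
    group
  have h6 : Subgroup.normalizer (P' : Set G) ⊔ A = ⊤ := Sylow.normalizer_sup_eq_top P
  have h7 : Subgroup.normalizer (P' : Set G) ⊔ frattini G = ⊤ := by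
    rw [eq_top_iff]
    intro g _
    have hg : g ∈ Subgroup.normalizer (P' : Set G) ⊔ A := by rw [h6]; trivial
    rw [Subgroup.mem_sup_of_normal_right] at hg
    obtain ⟨n, hn', a, ha, rfl⟩ := hg
    have ha' : (⟨a, ha⟩ : A) ∈ Subgroup.normalizer ((P : Subgroup A) : Set A) ⊔ B.subgroupOf A := by
      rw [h4]; trivial
    rw [Subgroup.mem_sup_of_normal_right] at ha'
    obtain ⟨m, hm, b, hb, hmb⟩ := ha'
    have hab : a = (m : G) * (b : G) := by
      have := congrArg Subtype.val hmb
      simpa using this.symm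
    rw [hab, ← mul_assoc]
    apply Subgroup.mul_mem_sup
    · exact mul_mem hn' (h5 m hm)
    · exact hB (Subgroup.mem_subgroupOf.mp hb)
  have h8 := frattini_nongenerating h7
  have h9 : P'.Normal := Subgroup.normalizer_eq_top_iff.mp h8
  exact h9.of_map_subtype

end Cfsg.Agent.S0584
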