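import Mathlib
import Cfsg.Statements.S0587
import Cfsg.Agent.Lib.Helper1.Cores
import Cfsg.Agent.Lib.Helper5.Glauberman
import Cfsg.Agent.Lib.Helper5.PConstr

set_option autoImplicit false
open Cfsg

namespace Cfsg.Agent.S0587

open scoped Pointwise
open Cfsg.Agent.Lib.Helper5

section
variable {G : Type*} [Group G] [Finite G] {M : Subgroup G}

theorem sup_eq_top_of_normal (hM : IsCoatom M) (hcore : M.normalCore = ⊥) {N : Subgroup G}
    (hN : N.Normal) (hne : N ≠ ⊥) : M ⊔ N = ⊤ := by
  by_contra h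
  have h1 := hM.le_iff.mp (le_sup_left : M ≤ M ⊔ N)
  rcases h1 with h1 | h1
  · exact h h1
  · have hle : N ≤ M := by rw [← h1]; exact le_sup_right
    have h2 : N ≤ M.normalCore := Subgroup.normal_le_normalCore.mpr hle
    rw [hcore] at h2
    exact hne (le_bot_iff.mp h2)

theorem eq_bot_of_normalized (hcore : M.normalCore = ⊥) {N X : Subgroup G}
    (hsup : M ⊔ N = ⊤) (hXM : X ≤ M)
    (h1 : ∀ m ∈ M, ∀ x ∈ X, m * x * m⁻¹ ∈ X) (h2 : ∀ n ∈ N, ∀ x ∈ X, n * x * n⁻¹ ∈ X) :
    X = ⊥ := by
  have hXn : X.Normal := by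
    rw [← Subgroup.normalizer_eq_top_iff, eq_top_iff, ← hsup]
    apply sup_le
    · intro m hm
      exact h5g_mem_normalizer_of_conj_le (h1 m hm)
    · intro n hn
      exact h5g_mem_normalizer_of_conj_le (h2 n hn)
  have h3 : X ≤ M.normalCore := Subgroup.normal_le_normalCore.mpr hXM
  rw [hcore] at h3
  exact le_bot_iff.mp h3

theorem inf_eq_bot_of_abelian_normal (hM : IsCoatom M) (hcore : M.normalCore = ⊥)
    {N : Subgroup G} (hN : N.Normal) (hNc : ∀ x ∈ N, ∀ y ∈ N, x * y = y * x) (hne : N ≠ ⊥) :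
    M ⊓ N = ⊥ := by
  apply eq_bot_of_normalized hcore (sup_eq_top_of_normal hM hcore hN hne) inf_le_left
  · intro m hm x hx
    exact Subgroup.mem_inf.mpr ⟨M.mul_mem (M.mul_mem hm (Subgroup.mem_inf.mp hx).1) (M.inv_mem hm),
      hN.conj_mem x (Subgroup.mem_inf.mp hx).2 m⟩
  · intro n hn x hx
    have : n * x * n⁻¹ = x := by
      rw [hNc n hn x (Subgroup.mem_inf.mp hx).2]; group
    rw [this]; exact hx

theorem centralizer_eq_of_abelian_normal (hM : IsCoatom M) (hcore : M.normalCore = ⊥)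
    {N : Subgroup G} (hN : N.Normal) (hNc : ∀ x ∈ N, ∀ y ∈ N, x * y = y * x) (hne : N ≠ ⊥) :
    Subgroup.centralizer (N : Set G) = N := by
  have hsup := sup_eq_top_of_normal hM hcore hN hne
  have hCn : (Subgroup.centralizer (N : Set G)).Normal := Subgroup.normal_centralizer
  have hX : Subgroup.centralizer (N : Set G) ⊓ M = ⊥ := by
    apply eq_bot_of_normalized hcore hsup inf_le_right
    · intro m hm x hx
      exact Subgroup.mem_inf.mpr ⟨hCn.conj_mem x (Subgroup.mem_inf.mp hx).1 m,
        M.mul_mem (M.mul_mem hm (Subgroup.mem_inf.mp hx).2) (M.inv_mem hm)⟩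
    · intro n hn x hx
      have h1 := (Subgroup.mem_centralizer_iff.mp (Subgroup.mem_inf.mp hx).1) n hn
      have : n * x * n⁻¹ = x := by rw [h1]; group
      rw [this]; exact hx
  have hNC : N ≤ Subgroup.centralizer (N : Set G) := by
    intro n hn
    rw [Subgroup.mem_centralizer_iff]
    intro y hy
    exact hNc y hy n hn
  apply le_antisymm _ hNC
  intro c hc
  have hc' : c ∈ ((N ⊔ M : Subgroup G) : Set G) := by
    rw [sup_comm, hsup]; trivial
  rw [Subgroup.normal_mul] at hc'
  obtain ⟨n, hn, m, hm, hnm⟩ := Set.mem_mul.mp hc'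
  have hnm' : n * m = c := hnm
  have hmC : m ∈ Subgroup.centralizer (N : Set G) := by
    have e : m = n⁻¹ * c := by rw [← hnm']; group
    rw [e]
    exact Subgroup.mul_mem _ (Subgroup.inv_mem _ (hNC hn)) hc
  have hm1 : m ∈ Subgroup.centralizer (N : Set G) ⊓ M := Subgroup.mem_inf.mpr ⟨hmC, hm⟩
  rw [hX, Subgroup.mem_bot] at hm1
  rw [← hnm', hm1, mul_one]
  exact hn


theorem pCore_abelian (p : ℕ) [Fact p.Prime] (hL : Cfsg.pCore p G ≠ ⊥) (hM : IsCoatom M)
    (hcore : M.normalCore = ⊥) :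
    ∀ x ∈ Cfsg.pCore p G, ∀ y ∈ Cfsg.pCore p G, x * y = y * x := by
  have hLn : (Cfsg.pCore p G).Normal := Cfsg.pCore_normal p G
  have hLp : IsPGroup p (Cfsg.pCore p G) := Cfsg.Agent.Lib.Helper1.pCore_isPGroup p
  have hnt : Nontrivial (Cfsg.pCore p G) := (Subgroup.nontrivial_iff_ne_bot _).mpr hL
  have hZnt : Nontrivial (Subgroup.center (Cfsg.pCore p G)) := hLp.center_nontrivial
  have hZn : ((Subgroup.center (Cfsg.pCore p G)).map (Cfsg.pCore p G).subtype).Normal :=
    h5_normal_map_of_characteristic _ _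
  have hZne : (Subgroup.center (Cfsg.pCore p G)).map (Cfsg.pCore p G).subtype ≠ ⊥ := by
    intro h
    rw [Subgroup.map_eq_bot_iff_of_injective _ (Subgroup.subtype_injective _)] at h
    exact (Subgroup.nontrivial_iff_ne_bot _).mp hZnt h
  have hZc : ∀ x ∈ (Subgroup.center (Cfsg.pCore p G)).map (Cfsg.pCore p G).subtype,
      ∀ y ∈ (Subgroup.center (Cfsg.pCore p G)).map (Cfsg.pCore p G).subtype, x * y = y * x := by
    rintro _ ⟨x, hx, rfl⟩ _ ⟨y, hy, rfl⟩
    have := (Subgroup.mem_center_iff.mp hx) y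
    have h2 := congrArg Subtype.val this
    simpa using h2.symm
  have hcent := centralizer_eq_of_abelian_normal hM hcore hZn hZc hZne
  have hLle : Cfsg.pCore p G ≤ (Subgroup.center (Cfsg.pCore p G)).map (Cfsg.pCore p G).subtype := by
    rw [← hcent]
    intro x hx
    rw [Subgroup.mem_centralizer_iff]
    rintro _ ⟨z, hz, rfl⟩
    have := (Subgroup.mem_center_iff.mp hz) ⟨x, hx⟩
    have h2 := congrArg Subtype.val this
    simpa using h2.symm
  intro x hx y hy
  obtain ⟨z, hz, rfl⟩ := hLle hx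
  have := (Subgroup.mem_center_iff.mp hz) ⟨y, hy⟩
  have h2 := congrArg Subtype.val this
  simpa using h2.symm


theorem min_normal (p : ℕ) [Fact p.Prime] (hL : Cfsg.pCore p G ≠ ⊥) (hM : IsCoatom M)
    (hcore : M.normalCore = ⊥) :
    ∀ K : Subgroup G, K.Normal → K ≤ Cfsg.pCore p G → K = ⊥ ∨ K = Cfsg.pCore p G := by
  intro K hKn hKL
  by_cases hK : K = ⊥
  · exact Or.inl hK
  · right
    have hLc := pCore_abelian p hL hM hcore
    have hKc : ∀ x ∈ K, ∀ y ∈ K, x * y = y * x := fun x hx y hy => hLc x (hKL hx) y (hKL hy)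
    have hcent := centralizer_eq_of_abelian_normal hM hcore hKn hKc hK
    apply le_antisymm hKL
    rw [← hcent]
    intro x hx
    rw [Subgroup.mem_centralizer_iff]
    intro y hy
    exact hLc y (hKL hy) x hx

theorem pow_eq_one (p : ℕ) [Fact p.Prime] (hL : Cfsg.pCore p G ≠ ⊥) (hM : IsCoatom M)
    (hcore : M.normalCore = ⊥) : ∀ a ∈ Cfsg.pCore p G, a ^ p = 1 := by
  have hLc := pCore_abelian p hL hM hcore
  have hLn : (Cfsg.pCore p G).Normal := Cfsg.pCore_normal p G
  have hLp : IsPGroup p (Cfsg.pCore p G) := Cfsg.Agent.Lib.Helper1.pCore_isPGroup p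
  let Ω : Subgroup G :=
    { carrier := {x | x ∈ Cfsg.pCore p G ∧ x ^ p = 1}
      mul_mem' := by
        rintro x y ⟨hx, hxp⟩ ⟨hy, hyp⟩
        refine ⟨Subgroup.mul_mem _ hx hy, ?_⟩
        have : Commute x y := hLc x hx y hy
        rw [this.mul_pow, hxp, hyp, one_mul]
      one_mem' := ⟨Subgroup.one_mem _, one_pow p⟩
      inv_mem' := by
        rintro x ⟨hx, hxp⟩
        exact ⟨Subgroup.inv_mem _ hx, by rw [inv_pow, hxp, inv_one]⟩ }
  have hΩn : Ω.Normal := by
    constructor
    rintro x ⟨hx, hxp⟩ g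
    exact ⟨hLn.conj_mem x hx g, by rw [conj_pow, hxp]; group⟩
  have hΩL : Ω ≤ Cfsg.pCore p G := fun x hx => hx.1
  have hΩne : Ω ≠ ⊥ := by
    have hnt : Nontrivial (Cfsg.pCore p G) := (Subgroup.nontrivial_iff_ne_bot _).mpr hL
    obtain ⟨n, hn0, hn⟩ := hLp.nontrivial_iff_card.mp hnt
    have hdvd : p ∣ Nat.card (Cfsg.pCore p G) := hn.symm ▸ dvd_pow_self _ (ne_of_gt hn0)
    obtain ⟨x, hx⟩ := exists_prime_orderOf_dvd_card' p hdvd
    intro hbot
    have hxΩ : (x : G) ∈ Ω := by
      refine ⟨x.2, ?_⟩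
      have h1 : x ^ p = 1 := by
        have := pow_orderOf_eq_one x
        rwa [hx] at this
      have := congrArg Subtype.val h1
      simpa using this
    rw [hbot, Subgroup.mem_bot] at hxΩ
    have hx1 : x = 1 := Subtype.ext hxΩ
    rw [hx1, orderOf_one] at hx
    exact (Fact.out : p.Prime).one_lt.ne hx
  rcases min_normal p hL hM hcore Ω hΩn hΩL with h | h
  · exact absurd h hΩne
  · intro a ha
    have : a ∈ Ω := by rw [h]; exact ha
    exact this.2


theorem card_mod_of_fixed_trivial {q : ℕ} [Fact q.Prime] (R L : Subgroup G) (hLn : L.Normal)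
    (hR : IsPGroup q R) (hfix : ∀ l ∈ L, (∀ r ∈ R, r * l * r⁻¹ = l) → l = 1) :
    Nat.card L ≡ 1 [MOD q] := by
  have := hLn
  let φ : R →* MulAut L := (MulAut.conjNormal (H := L)).comp R.subtype
  letI : MulAction R L := MulAction.compHom L φ
  have h := hR.card_modEq_card_fixedPoints L
  have h1 : Nat.card (MulAction.fixedPoints R L) = 1 := by
    rw [Nat.card_eq_one_iff_unique]
    constructor
    · constructor
      rintro ⟨a, ha⟩ ⟨b, hb⟩
      have ha1 : a = 1 := by
        apply Subtype.ext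
        apply hfix a.1 a.2
        intro r hr
        have := ha ⟨r, hr⟩
        have h2 := congrArg Subtype.val this
        exact h2
      have hb1 : b = 1 := by
        apply Subtype.ext
        apply hfix b.1 b.2
        intro r hr
        have := hb ⟨r, hr⟩
        have h2 := congrArg Subtype.val this
        exact h2
      apply Subtype.ext
      show a = b
      rw [ha1, hb1]
    · refine ⟨⟨1, ?_⟩⟩
      intro r
      exact map_one (φ r)
  rw [h1] at h
  exact h

end

theorem result {G : Type*} [Group G] [Finite G] (p : ℕ) [Fact p.Prime] (hL : Cfsg.pCore p G ≠ ⊥) (M : Subgroup G) (hM : IsCoatom M) (hcore : M.normalCore = ⊥) : Cfsg.IsElementaryAbelian p (Cfsg.pCore p G) ∧ Subgroup.IsComplement' (Cfsg.pCore p G) M ∧ (∀ K : Subgroup G, K.Normal → K ≤ Cfsg.pCore p G → K = ⊥ ∨ K = Cfsg.pCore p G) ∧ Subgroup.centralizer ((Cfsg.pCore p G : Subgroup G) : Set G) = Cfsg.pCore p G ∧ ∀ (q : ℕ) [Fact q.Prime], Cfsg.pCore q ↥M ≠ ⊥ → Nat.card (Cfsg.pCore p G) % q = 1 % q ∧ q ≠ p :=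 by
  have hLc := pCore_abelian p hL hM hcore
  have hLn : (Cfsg.pCore p G).Normal := Cfsg.pCore_normal p G
  have hLp : IsPGroup p (Cfsg.pCore p G) := Cfsg.Agent.Lib.Helper1.pCore_isPGroup p
  have hsup := sup_eq_top_of_normal hM hcore hLn hL
  have hinf := inf_eq_bot_of_abelian_normal hM hcore hLn hLc hL
  have hmin := min_normal p hL hM hcore
  have hcent := centralizer_eq_of_abelian_normal hM hcore hLn hLc hL
  refine ⟨?_, ?_, hmin, hcent, ?_⟩
  · refine ⟨⟨⟨fun a b => Subtype.ext (hLc a.1 a.2 b.1 b.2)⟩⟩, ?_⟩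
    exact pow_eq_one p hL hM hcore
  · apply Subgroup.isComplement'_of_disjoint_and_mul_eq_univ
    · rw [disjoint_iff, inf_comm]; exact hinf
    · rw [← Subgroup.normal_mul, sup_comm, hsup]; rfl
  · intro q hq hR0
    have hRn0 : (Cfsg.pCore q ↥M).Normal := Cfsg.pCore_normal q ↥M
    have hRq0 : IsPGroup q (Cfsg.pCore q ↥M) := Cfsg.Agent.Lib.Helper1.pCore_isPGroup q
    have hRM : (Cfsg.pCore q ↥M).map M.subtype ≤ M := by
      rintro _ ⟨x, _, rfl⟩
      exact x.2
    have hRq : IsPGroup q ((Cfsg.pCore q ↥M).map M.subtype) := hRq0.map _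
    have hRne : (Cfsg.pCore q ↥M).map M.subtype ≠ ⊥ := by
      intro h
      rw [Subgroup.map_eq_bot_iff_of_injective _ (Subgroup.subtype_injective _)] at h
      exact hR0 h
    have hRconj : ∀ m ∈ M, ∀ r ∈ (Cfsg.pCore q ↥M).map M.subtype,
        m * r * m⁻¹ ∈ (Cfsg.pCore q ↥M).map M.subtype := by
      rintro m hm _ ⟨x, hx, rfl⟩
      exact ⟨⟨m, hm⟩ * x * ⟨m, hm⟩⁻¹, hRn0.conj_mem x hx ⟨m, hm⟩, by simp⟩
    have hRnotL : ¬ (Cfsg.pCore q ↥M).map M.subtype ≤ Cfsg.pCore p G := by
      intro hle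
      apply hRne
      rw [← le_bot_iff, ← hinf]
      exact le_inf hRM hle
    have hqp : q ≠ p := by
      intro hqp
      subst hqp
      apply hRnotL
      have hsupn : ((Cfsg.pCore q ↥M).map M.subtype ⊔ Cfsg.pCore q G).Normal := by
        rw [← Subgroup.normalizer_eq_top_iff, eq_top_iff, ← hsup]
        apply sup_le
        · intro m hm
          apply h5g_mem_normalizer_of_conj_le
          intro x hx
          have hx' : x ∈ (((Cfsg.pCore q ↥M).map M.subtype ⊔ Cfsg.pCore q G : Subgroup G) : Set G) := hx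
          rw [Subgroup.mul_normal] at hx'
          obtain ⟨r, hr, l, hl, hrl⟩ := Set.mem_mul.mp hx'
          have hrl' : r * l = x := hrl
          have e : m * x * m⁻¹ = (m * r * m⁻¹) * (m * l * m⁻¹) := by rw [← hrl']; group
          rw [e]
          exact Subgroup.mul_mem _ (Subgroup.mem_sup_left (hRconj m hm r hr))
            (Subgroup.mem_sup_right (hLn.conj_mem l hl m))
        · exact (le_sup_right).trans Subgroup.le_normalizer
      have := hLn
      have hsp : IsPGroup q ((Cfsg.pCore q ↥M).map M.subtype ⊔ Cfsg.pCore q G : Subgroup G) :=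
        IsPGroup.to_sup_of_normal_right hRq hLp
      exact le_sup_left.trans (Cfsg.Agent.Lib.Helper1.le_pCore hsupn hsp)
    refine ⟨?_, hqp⟩
    have hXn : (Cfsg.pCore p G ⊓
        Subgroup.centralizer (((Cfsg.pCore q ↥M).map M.subtype : Subgroup G) : Set G)).Normal := by
      rw [← Subgroup.normalizer_eq_top_iff, eq_top_iff, ← hsup]
      apply sup_le
      · intro m hm
        apply h5g_mem_normalizer_of_conj_le
        intro x hx
        refine Subgroup.mem_inf.mpr ⟨hLn.conj_mem x (Subgroup.mem_inf.mp hx).1 m, ?_⟩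
        rw [Subgroup.mem_centralizer_iff]
        intro r hr
        have h1 := hRconj m⁻¹ (M.inv_mem hm) r hr
        rw [inv_inv] at h1
        have h2 := (Subgroup.mem_centralizer_iff.mp (Subgroup.mem_inf.mp hx).2) _ h1
        calc r * (m * x * m⁻¹) = m * ((m⁻¹ * r * m) * x) * m⁻¹ := by group
          _ = m * (x * (m⁻¹ * r * m)) * m⁻¹ := by rw [h2]
          _ = m * x * m⁻¹ * r := by group
      · intro n hn
        apply h5g_mem_normalizer_of_conj_le
        intro x hx
        have : n * x * n⁻¹ = x := by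
          rw [hLc n hn x (Subgroup.mem_inf.mp hx).1]; group
        rw [this]; exact hx
    have hX : Cfsg.pCore p G ⊓
        Subgroup.centralizer (((Cfsg.pCore q ↥M).map M.subtype : Subgroup G) : Set G) = ⊥ := by
      rcases hmin _ hXn inf_le_left with h | h
      · exact h
      · exfalso
        apply hRnotL
        rw [← hcent]
        intro r hr
        rw [Subgroup.mem_centralizer_iff]
        intro l hl
        have hl' : l ∈ Cfsg.pCore p G ⊓
            Subgroup.centralizer (((Cfsg.pCore q ↥M).map M.subtype : Subgroup G) : Set G) := by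
          rw [h]; exact hl
        exact ((Subgroup.mem_centralizer_iff.mp (Subgroup.mem_inf.mp hl').2) r hr).symm
    have hmod := card_mod_of_fixed_trivial ((Cfsg.pCore q ↥M).map M.subtype) (Cfsg.pCore p G) hLn hRq
      (by
        intro l hl hfix
        have hl' : l ∈ Cfsg.pCore p G ⊓
            Subgroup.centralizer (((Cfsg.pCore q ↥M).map M.subtype : Subgroup G) : Set G) := by
          refine Subgroup.mem_inf.mpr ⟨hl, ?_⟩
          rw [Subgroup.mem_centralizer_iff]
          intro r hr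
          have := hfix r hr
          calc r * l = (r * l * r⁻¹) * r := by group
            _ = l * r := by rw [this]
        rw [hX, Subgroup.mem_bot] at hl'
        exact hl')
    exact hmod

end Cfsg.Agent.S0587
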