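import Mathlib
import Cfsg.Statements.S0588

set_option autoImplicit false
open Cfsg

namespace Cfsg.Agent.S0588

theorem result {G : Type*} [Group G] [Finite G] (H : Subgroup G) (h : ∀ x ∈ H, x ≠ 1 → Subgroup.centralizer ({x} : Set G) ≤ H) : (Nat.card H).Coprime H.index := by
  by_contra hnc
  obtain ⟨p, hp, hpH, hpi⟩ := Nat.Prime.not_coprime_iff_dvd.mp hnc
  have : Fact p.Prime := ⟨hp⟩
  obtain ⟨P⟩ : Nonempty (Sylow p H) := inferInstance
  have hPne : (P : Subgroup H) ≠ ⊥ := P.ne_bot_of_dvd_card hpH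
  obtain ⟨x, hxP, hx1⟩ := ((P : Subgroup H).bot_or_exists_ne_one).resolve_left hPne
  have hPG : IsPGroup p ((P : Subgroup H).map H.subtype) := P.2.map H.subtype
  obtain ⟨S, hS⟩ := hPG.exists_le_sylow
  have hxS : ((x : H) : G) ∈ (S : Subgroup G) := hS ⟨x, hxP, rfl⟩
  have hxH : ((x : H) : G) ∈ H := (x : H).2
  have hx1' : ((x : H) : G) ≠ 1 := by
    intro hh
    apply hx1
    exact Subtype.ext hh
  have : Nontrivial (S : Subgroup G) := ⟨⟨⟨_, hxS⟩, 1, fun hh => hx1' (congrArg Subtype.val hh)⟩⟩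
  have hcent := S.2.center_nontrivial
  obtain ⟨z, hz1⟩ := exists_ne (1 : Subgroup.center (S : Subgroup G))
  have hzcomm : ∀ s : (S : Subgroup G), s * z.1 = z.1 * s := fun s =>
    (Subgroup.mem_center_iff.mp z.2 s)
  have hzG1 : ((z.1 : (S : Subgroup G)) : G) ≠ 1 := by
    intro hh
    apply hz1
    exact Subtype.ext (Subtype.ext hh)
  have hzH : ((z.1 : (S : Subgroup G)) : G) ∈ H := by
    apply h _ hxH hx1'
    rw [Subgroup.mem_centralizer_singleton_iff]
    have := hzcomm ⟨_, hxS⟩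
    have := congrArg Subtype.val this
    simpa using this.symm
  have hSH : (S : Subgroup G) ≤ H := by
    intro s hs
    apply h _ hzH hzG1
    rw [Subgroup.mem_centralizer_singleton_iff]
    have := hzcomm ⟨s, hs⟩
    have := congrArg Subtype.val this
    simpa using this
  have hdvd : H.index ∣ (S : Subgroup G).index := Subgroup.index_dvd_of_le hSH
  exact S.not_dvd_index (hpi.trans hdvd)

end Cfsg.Agent.S0588
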