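import Mathlib
import Cfsg.Statements.S0589
import Cfsg.Agent.Lib.Helper1.FrobConj

set_option autoImplicit false
open Pointwise
open Cfsg

namespace Cfsg.Agent.S0589

open Cfsg.Agent.Lib.Helper1 Cfsg.Agent.Lib.Helper19

theorem result {G : Type*} [Group G] [Finite G] (H : Subgroup G) (hH : Cfsg.IsFrobeniusComplement H) (L : Subgroup G) (hL : Nat.card L ∣ Nat.card H) : ∃ x : G, L ≤ MulAut.conj x • H := by
  apply le_conj_of_inf_kernel H hH L
  intro x hxL hxK
  obtain ⟨N, hN, hNn, _⟩ := frobenius_theorem H hH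
  have hcN : Nat.card N = H.index := by
    have := card_frobeniusKernel H hH
    rw [← hN] at this
    exact this
  have hxN : x ∈ N := by
    have : x ∈ (N : Set G) := by rw [hN]; exact hxK
    exact this
  have h1 : orderOf x ∣ Nat.card L := by
    have := orderOf_dvd_natCard (⟨x, hxL⟩ : L)
    rwa [Subgroup.orderOf_mk] at this
  have h2 : orderOf x ∣ Nat.card N := by
    have := orderOf_dvd_natCard (⟨x, hxN⟩ : N)
    rwa [Subgroup.orderOf_mk] at this
  have hcop := index_coprime_card H hH
  rw [hcN] at h2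
  have h3 : orderOf x ∣ 1 := by
    have := Nat.dvd_gcd h2 (h1.trans hL)
    rwa [hcop] at this
  exact orderOf_eq_one_iff.mp (Nat.dvd_one.mp h3)

end Cfsg.Agent.S0589
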