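import Mathlib
import Cfsg.Statements.S0590
import Cfsg.Agent.Lib.Helper5.Quadratic

set_option autoImplicit false
open Cfsg

namespace Cfsg.Agent.S0590

open scoped commutatorElement

open Cfsg.Agent.Lib.Helper5 in
theorem result {G : Type*} [Group G] [Finite G] {p : ℕ} [Fact p.Prime] (V H : Subgroup G) (hV : Cfsg.IsElementaryAbelian p V) (hHV : H ≤ Subgroup.normalizer (V : Set G)) (hq : ⁅⁅V, H⁆, H⁆ = ⊥) : ⁅H, H⁆ ≤ Subgroup.centralizer (V : Set G) ∧ ∀ a ∈ H, a ^ p ∈ Subgroup.centralizer (V : Set G) := by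
  obtain ⟨hVc, hVp⟩ := hV
  constructor
  · rw [Subgroup.commutator_le]
    intro h hh k hk
    have key : ∀ w ∈ V, (h * k) * w * (h * k)⁻¹ = (k * h) * w * (k * h)⁻¹ := by
      intro w hw
      obtain ⟨c₁, hc₁V, hc₁, e₁⟩ := quad_conj V H hHV hq hw hk
      obtain ⟨c₂, hc₂V, hc₂, e₂⟩ := quad_conj V H hHV hq hw hh
      have hcc : c₁ * c₂ = c₂ * c₁ := setLike_mul_comm hc₁V hc₂V
      calc (h * k) * w * (h * k)⁻¹ = h * (k * w * k⁻¹) * h⁻¹ := by group
        _ = h * (c₁ * w) * h⁻¹ := by rw [e₁]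
        _ = (h * c₁) * w * h⁻¹ := by group
        _ = (c₁ * h) * w * h⁻¹ := by rw [hc₁ h hh]
        _ = c₁ * (h * w * h⁻¹) := by group
        _ = c₁ * (c₂ * w) := by rw [e₂]
        _ = (c₁ * c₂) * w := by group
        _ = (c₂ * c₁) * w := by rw [hcc]
        _ = c₂ * (c₁ * w) := by group
        _ = c₂ * (k * w * k⁻¹) := by rw [e₁]
        _ = (c₂ * k) * w * k⁻¹ := by group
        _ = (k * c₂) * w * k⁻¹ := by rw [hc₂ k hk]
        _ = k * (c₂ * w) * k⁻¹ := by group
        _ = k * (h * w * h⁻¹) * k⁻¹ := by rw [e₂]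
        _ = (k * h) * w * (k * h)⁻¹ := by group
    rw [Subgroup.mem_centralizer_iff]
    intro v hv
    have hkh : k * h ∈ H := H.mul_mem hk hh
    have hw : (k * h)⁻¹ * v * (k * h) ∈ V :=
      (Subgroup.mem_normalizer_iff''.mp (hHV hkh) v).mp hv
    have e : ⁅h, k⁆ * v * ⁅h, k⁆⁻¹ = v := by
      calc ⁅h, k⁆ * v * ⁅h, k⁆⁻¹
          = (h * k) * ((k * h)⁻¹ * v * (k * h)) * (h * k)⁻¹ := by
            rw [commutatorElement_def]; group
        _ = (k * h) * ((k * h)⁻¹ * v * (k * h)) * (k * h)⁻¹ := key _ hw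
        _ = v := by group
    rw [mul_inv_eq_iff_eq_mul] at e
    exact e.symm
  · intro a ha
    rw [Subgroup.mem_centralizer_iff]
    intro v hv
    obtain ⟨c, hcV, hc, e⟩ := quad_conj V H hHV hq hv ha
    have hpow : ∀ n : ℕ, a ^ n * v * (a ^ n)⁻¹ = c ^ n * v := by
      intro n
      induction n with
      | zero => simp
      | succ n ih =>
        calc a ^ (n + 1) * v * (a ^ (n + 1))⁻¹ = a * (a ^ n * v * (a ^ n)⁻¹) * a⁻¹ := by
              rw [pow_succ']; group
          _ = a * (c ^ n * v) * a⁻¹ := by rw [ih]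
          _ = (a * c ^ n) * v * a⁻¹ := by group
          _ = (c ^ n * a) * v * a⁻¹ := by
              have : Commute a c := hc a ha
              rw [(this.pow_right n).eq]
          _ = c ^ n * (a * v * a⁻¹) := by group
          _ = c ^ n * (c * v) := by rw [e]
          _ = c ^ (n + 1) * v := by rw [pow_succ]; group
    have := hpow p
    rw [hVp c hcV, one_mul, mul_inv_eq_iff_eq_mul] at this
    exact this.symm

end Cfsg.Agent.S0590
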