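import Mathlib
import Cfsg.Statements.S0591
import Cfsg.Agent.Lib.Helper5.Quadratic

set_option autoImplicit false
open Cfsg

namespace Cfsg.Agent.S0591

open scoped commutatorElement

open Cfsg.Agent.Lib.Helper5 in
theorem result {G : Type*} [Group G] [Finite G] {p : ℕ} [Fact p.Prime] (V : Subgroup G) (hV : Cfsg.IsElementaryAbelian p V) (a : G) (ha : a ∈ Subgroup.normalizer (V : Set G)) (hq : ⁅⁅V, Subgroup.zpowers a⁆, Subgroup.zpowers a⁆ = ⊥) : Nat.card V ≤ Nat.card ↥(V ⊓ Subgroup.centralizer (Subgroup.zpowers a : Set G)) ^ 2 := by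
  obtain ⟨hVc, hVp⟩ := hV
  set W : Subgroup G := V ⊓ Subgroup.centralizer (Subgroup.zpowers a : Set G) with hW
  have hconj : ∀ v ∈ V, a * v * a⁻¹ ∈ V := fun v hv =>
    (Subgroup.mem_normalizer_iff.mp ha v).mp hv
  have hcomm_mem : ∀ v ∈ V, ⁅v, a⁆ ∈ W := by
    intro v hv
    rw [hW, Subgroup.mem_inf]
    constructor
    · have : ⁅v, a⁆ = v * (a * v⁻¹ * a⁻¹) := by rw [commutatorElement_def]; group
      rw [this]
      exact V.mul_mem hv (hconj _ (V.inv_mem hv))
    · rw [Subgroup.mem_centralizer_iff]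
      intro k hk
      have h1 : ⁅v, a⁆ ∈ ⁅V, Subgroup.zpowers a⁆ :=
        Subgroup.commutator_mem_commutator hv (Subgroup.mem_zpowers a)
      have h2 : ⁅⁅v, a⁆, k⁆ ∈ ⁅⁅V, Subgroup.zpowers a⁆, Subgroup.zpowers a⁆ :=
        Subgroup.commutator_mem_commutator h1 hk
      rw [hq, Subgroup.mem_bot, commutatorElement_eq_one_iff_mul_comm] at h2
      exact h2.symm
  let φ : V →* W := MonoidHom.mk' (fun v => ⟨⁅(v : G), a⁆, hcomm_mem v v.2⟩) (by
    intro v w
    apply Subtype.ext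
    simp only [Subgroup.coe_mul]
    have hv' : a * (v : G)⁻¹ * a⁻¹ ∈ V := hconj _ (V.inv_mem v.2)
    have hw' : a * (w : G)⁻¹ * a⁻¹ ∈ V := hconj _ (V.inv_mem w.2)
    have e1 : (a * (v : G)⁻¹ * a⁻¹) * ((w : G) * (a * (w : G)⁻¹ * a⁻¹)) =
        ((w : G) * (a * (w : G)⁻¹ * a⁻¹)) * (a * (v : G)⁻¹ * a⁻¹) :=
      setLike_mul_comm hv' (V.mul_mem w.2 hw')
    calc ⁅(v : G) * (w : G), a⁆
        = (v : G) * (((w : G) * (a * (w : G)⁻¹ * a⁻¹)) * (a * (v : G)⁻¹ * a⁻¹)) := by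
          rw [commutatorElement_def]; group
      _ = (v : G) * ((a * (v : G)⁻¹ * a⁻¹) * ((w : G) * (a * (w : G)⁻¹ * a⁻¹))) := by rw [e1]
      _ = ⁅(v : G), a⁆ * ⁅(w : G), a⁆ := by
          rw [commutatorElement_def, commutatorElement_def]; group)
  have hφ : ∀ v : V, ((φ v : W) : G) = ⁅(v : G), a⁆ := fun v => rfl
  have h1 : Nat.card φ.ker * Nat.card φ.range = Nat.card V := by
    rw [← Subgroup.index_ker]
    exact Subgroup.card_mul_index φ.ker
  have h2 : Nat.card φ.range ≤ Nat.card W := Subgroup.card_le_card_group _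
  have h3 : Nat.card φ.ker ≤ Nat.card W := by
    have hker : ∀ x : φ.ker, ((x : V) : G) ∈ W := by
      intro x
      refine Subgroup.mem_inf.mpr ⟨(x : V).2, ?_⟩
      have hx : φ (x : V) = 1 := x.2
      have hx' : ⁅((x : V) : G), a⁆ = 1 := by
        rw [← hφ, hx]; rfl
      rw [commutatorElement_eq_one_iff_commute] at hx'
      rw [Subgroup.mem_centralizer_iff]
      intro k hk
      obtain ⟨n, rfl⟩ := Subgroup.mem_zpowers_iff.mp hk
      exact ((hx'.zpow_right n).eq).symm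
    apply Nat.card_le_card_of_injective (fun x : φ.ker => (⟨((x : V) : G), hker x⟩ : W))
    intro x y hxy
    have : ((x : V) : G) = ((y : V) : G) := congrArg (fun z : W => (z : G)) hxy
    exact Subtype.ext (Subtype.ext this)
  calc Nat.card V = Nat.card φ.ker * Nat.card φ.range := h1.symm
    _ ≤ Nat.card W * Nat.card W := Nat.mul_le_mul h3 h2
    _ = Nat.card W ^ 2 := (sq _).symm

end Cfsg.Agent.S0591
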