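import Mathlib
import Cfsg.Statements.S0597
import Cfsg.Agent.Lib.Lead.Coprime
import Cfsg.Agent.Lib.helper17.Subn
import Cfsg.Agent.Lib.Helper20.Wielandt

set_option autoImplicit false
open Cfsg

namespace Cfsg.Agent.S0597

open scoped commutatorElement

section
variable {G : Type*} [Group G]

def chainStab (V W : Subgroup G) : Subgroup G where
  carrier := {z | (∀ w ∈ W, z * w = w * z) ∧ (∀ v ∈ V, z * v * z⁻¹ * v⁻¹ ∈ W)}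
  one_mem' := by
    refine ⟨fun w _ => by simp, fun v _ => ?_⟩
    have : (1 : G) * v * 1⁻¹ * v⁻¹ = 1 := by group
    rw [this]; exact W.one_mem
  mul_mem' := by
    rintro a b ⟨ha1, ha2⟩ ⟨hb1, hb2⟩
    refine ⟨fun w hw => ?_, fun v hv => ?_⟩
    · rw [mul_assoc, hb1 w hw, ← mul_assoc, ha1 w hw, mul_assoc]
    · have e : a * b * v * (a * b)⁻¹ * v⁻¹ =
          (a * (b * v * b⁻¹ * v⁻¹) * a⁻¹) * (a * v * a⁻¹ * v⁻¹) := by group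
      rw [e]
      have h1 : a * (b * v * b⁻¹ * v⁻¹) * a⁻¹ = b * v * b⁻¹ * v⁻¹ := by
        rw [ha1 _ (hb2 v hv)]; group
      rw [h1]
      exact W.mul_mem (hb2 v hv) (ha2 v hv)
  inv_mem' := by
    rintro a ⟨ha1, ha2⟩
    have hinv : ∀ w ∈ W, a⁻¹ * w = w * a⁻¹ := by
      intro w hw
      have := ha1 w hw
      calc a⁻¹ * w = a⁻¹ * (w * a) * a⁻¹ := by group
        _ = a⁻¹ * (a * w) * a⁻¹ := by rw [this]
        _ = w * a⁻¹ := by group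
    refine ⟨hinv, fun v hv => ?_⟩
    have hw := ha2 v hv
    have e : a⁻¹ * v * a⁻¹⁻¹ * v⁻¹ = a⁻¹ * (a * v * a⁻¹ * v⁻¹)⁻¹ * a := by group
    rw [e, hinv _ (W.inv_mem hw)]
    have : (a * v * a⁻¹ * v⁻¹)⁻¹ * a⁻¹ * a = (a * v * a⁻¹ * v⁻¹)⁻¹ := by group
    rw [this]
    exact W.inv_mem hw

theorem pow_conj_of_chainStab (V W : Subgroup G) (z : G) (hz : z ∈ chainStab V W) (v : G) (hv : v ∈ V)
    (k : ℕ) : z ^ k * v * (z ^ k)⁻¹ = (z * v * z⁻¹ * v⁻¹) ^ k * v := by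
  induction k with
  | zero => simp
  | succ k ih =>
    have hc : z * (z * v * z⁻¹ * v⁻¹) ^ k = (z * v * z⁻¹ * v⁻¹) ^ k * z :=
      hz.1 _ (W.pow_mem (hz.2 v hv) k)
    calc z ^ (k + 1) * v * (z ^ (k + 1))⁻¹ = z * (z ^ k * v * (z ^ k)⁻¹) * z⁻¹ := by
          rw [pow_succ']; group
      _ = z * ((z * v * z⁻¹ * v⁻¹) ^ k * v) * z⁻¹ := by rw [ih]
      _ = (z * (z * v * z⁻¹ * v⁻¹) ^ k) * v * z⁻¹ := by group
      _ = (z * v * z⁻¹ * v⁻¹) ^ k * z * v * z⁻¹ := by rw [hc]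
      _ = (z * v * z⁻¹ * v⁻¹) ^ k * (z * v * z⁻¹ * v⁻¹) * v := by group
      _ = (z * v * z⁻¹ * v⁻¹) ^ (k + 1) * v := by rw [pow_succ]

theorem pow_mem_centralizer (p : ℕ) (V W : Subgroup G) (hWV : W ≤ V) (hVp : ∀ a ∈ V, a ^ p = 1)
    (z : G) (hz : z ∈ chainStab V W) : z ^ p ∈ Subgroup.centralizer (V : Set G) := by
  rw [Subgroup.mem_centralizer_iff]
  intro v hv
  have h := pow_conj_of_chainStab V W z hz v hv p
  rw [hVp _ (hWV (hz.2 v hv)), one_mul] at h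
  calc v * z ^ p = (z ^ p * v * (z ^ p)⁻¹) * z ^ p := by rw [h]
    _ = z ^ p * v := by group


theorem comm_mem_chainStab (V E₁ E₂ : Subgroup G)
    (h₁ : E₁ ≤ Subgroup.normalizer (V : Set G)) (h₂ : E₂ ≤ Subgroup.normalizer (V : Set G))
    (hc : ⁅⁅V, E₁⁆, E₂⁆ = ⊥) (x : G) (hx : x ∈ E₁) (y : G) (hy : y ∈ E₂) :
    ⁅x, y⁆ ∈ chainStab V ⁅V, E₁⁆ := by
  have hcen : ∀ w ∈ ⁅V, E₁⁆, ∀ y ∈ E₂, y * w = w * y := by
    intro w hw y hy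
    have := Subgroup.commutator_eq_bot_iff_le_centralizer.mp hc hw
    exact (Subgroup.mem_centralizer_iff.mp this) y hy
  have hnorm := Cfsg.Agent.Lib.Lead.right_le_normalizer_commutator V E₁ h₁
  have hWx : ∀ w ∈ ⁅V, E₁⁆, x * w * x⁻¹ ∈ ⁅V, E₁⁆ := fun w hw =>
    (Subgroup.mem_normalizer_iff.mp (hnorm hx) w).mp hw
  have hWx' : ∀ w ∈ ⁅V, E₁⁆, x⁻¹ * w * x ∈ ⁅V, E₁⁆ := fun w hw => by
    have := (Subgroup.mem_normalizer_iff.mp (Subgroup.inv_mem _ (hnorm hx)) w).mp hw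
    rwa [inv_inv] at this
  have hcomm : ∀ a ∈ E₁, ∀ v ∈ V, a * v * a⁻¹ * v⁻¹ ∈ ⁅V, E₁⁆ := by
    intro a ha v hv
    rw [Subgroup.commutator_comm]
    exact Subgroup.commutator_mem_commutator ha hv
  refine ⟨fun w hw => ?_, fun v hv => ?_⟩
  · have h1 : y⁻¹ * w = w * y⁻¹ := hcen w hw y⁻¹ (E₂.inv_mem hy)
    have h2 : y * (x⁻¹ * w * x) = (x⁻¹ * w * x) * y := hcen _ (hWx' w hw) y hy
    calc ⁅x, y⁆ * w = x * y * x⁻¹ * (y⁻¹ * w) := by rw [commutatorElement_def]; group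
      _ = x * y * x⁻¹ * (w * y⁻¹) := by rw [h1]
      _ = x * (y * (x⁻¹ * w * x)) * x⁻¹ * y⁻¹ := by group
      _ = x * ((x⁻¹ * w * x) * y) * x⁻¹ * y⁻¹ := by rw [h2]
      _ = w * ⁅x, y⁆ := by rw [commutatorElement_def]; group
  · have hv₁ : y⁻¹ * v * y ∈ V := by
      have := (Subgroup.mem_normalizer_iff.mp (Subgroup.inv_mem _ (h₂ hy)) v).mp hv
      rwa [inv_inv] at this
    have hw₁ : x⁻¹ * (y⁻¹ * v * y) * x⁻¹⁻¹ * (y⁻¹ * v * y)⁻¹ ∈ ⁅V, E₁⁆ :=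
      hcomm x⁻¹ (E₁.inv_mem hx) _ hv₁
    have h3 := hcen _ hw₁ y hy
    have h3' : y * (x⁻¹ * (y⁻¹ * v * y) * x⁻¹⁻¹ * (y⁻¹ * v * y)⁻¹) * y⁻¹ =
        x⁻¹ * (y⁻¹ * v * y) * x⁻¹⁻¹ * (y⁻¹ * v * y)⁻¹ := by
      rw [h3]; group
    have e1 : ⁅x, y⁆ * v * ⁅x, y⁆⁻¹ * v⁻¹ =
        x * ((y * (x⁻¹ * (y⁻¹ * v * y) * x⁻¹⁻¹ * (y⁻¹ * v * y)⁻¹) * y⁻¹) * v) * x⁻¹ * v⁻¹ := by
      rw [commutatorElement_def]; group
    rw [e1, h3']
    have e2 : x * ((x⁻¹ * (y⁻¹ * v * y) * x⁻¹⁻¹ * (y⁻¹ * v * y)⁻¹) * v) * x⁻¹ * v⁻¹ =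
        (x * (x⁻¹ * (y⁻¹ * v * y) * x⁻¹⁻¹ * (y⁻¹ * v * y)⁻¹) * x⁻¹) * (x * v * x⁻¹ * v⁻¹) := by
      group
    rw [e2]
    exact Subgroup.mul_mem _ (hWx _ hw₁) (hcomm x hx v hv)

theorem commutator_le_chainStab (V E₁ E₂ : Subgroup G)
    (h₁ : E₁ ≤ Subgroup.normalizer (V : Set G)) (h₂ : E₂ ≤ Subgroup.normalizer (V : Set G))
    (hc : ⁅⁅V, E₁⁆, E₂⁆ = ⊥) : ⁅E₁, E₂⁆ ≤ chainStab V ⁅V, E₁⁆ := by
  rw [Subgroup.commutator_le]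
  intro x hx y hy
  exact comm_mem_chainStab V E₁ E₂ h₁ h₂ hc x hx y hy

end

theorem result {G : Type*} [Group G] [Finite G] {p : ℕ} [Fact p.Prime] (V H : Subgroup G) (hV : Cfsg.IsElementaryAbelian p V) (hHV : H ≤ Subgroup.normalizer (V : Set G)) (hf : H ⊓ Subgroup.centralizer (V : Set G) = ⊥) (E₁ E₂ : Subgroup G) (h₁ : E₁ ≤ H) (h₂ : E₂ ≤ H) (hs₁ : (E₁.subgroupOf H).IsSubnormal) (hs₂ : (E₂.subgroupOf H).IsSubnormal) (hc : ⁅⁅V, E₁⁆, E₂⁆ = ⊥) : ⁅E₁, E₂⁆ ≤ (Cfsg.pCore p H).map H.subtype := by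
  have hCT := commutator_le_chainStab V E₁ E₂ (h₁.trans hHV) (h₂.trans hHV) hc
  have hWV : ⁅V, E₁⁆ ≤ V :=
    Cfsg.Agent.Lib.Lead.commutator_le_left_of_le_normalizer V E₁ (h₁.trans hHV)
  have hCH : ⁅E₁, E₂⁆ ≤ H := by
    rw [Subgroup.commutator_le]
    intro x hx y hy
    rw [commutatorElement_def]
    exact H.mul_mem (H.mul_mem (H.mul_mem (h₁ hx) (h₂ hy)) (H.inv_mem (h₁ hx))) (H.inv_mem (h₂ hy))
  have hpow : ∀ z ∈ ⁅E₁, E₂⁆, z ^ p = 1 := by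
    intro z hz
    have h1 := pow_mem_centralizer p V ⁅V, E₁⁆ hWV hV.2 z (hCT hz)
    have h2 : z ^ p ∈ H := H.pow_mem (hCH hz) p
    have h3 : z ^ p ∈ H ⊓ Subgroup.centralizer (V : Set G) := Subgroup.mem_inf.mpr ⟨h2, h1⟩
    rw [hf, Subgroup.mem_bot] at h3
    exact h3
  have hmap : (⁅E₁.subgroupOf H, E₂.subgroupOf H⁆ : Subgroup H).map H.subtype = ⁅E₁, E₂⁆ := by
    rw [Subgroup.map_commutator, Subgroup.map_subgroupOf_eq_of_le h₁,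
      Subgroup.map_subgroupOf_eq_of_le h₂]
  have hJ : (E₁.subgroupOf H ⊔ E₂.subgroupOf H).IsSubnormal :=
    Cfsg.Agent.Lib.Helper20.isSubnormal_sup hs₁ hs₂
  have hCJ : ⁅E₁.subgroupOf H, E₂.subgroupOf H⁆ ≤ E₁.subgroupOf H ⊔ E₂.subgroupOf H := by
    rw [Subgroup.commutator_le]
    intro x hx y hy
    rw [commutatorElement_def]
    exact Subgroup.mul_mem _ (Subgroup.mul_mem _ (Subgroup.mul_mem _
      (Subgroup.mem_sup_left hx) (Subgroup.mem_sup_right hy))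
      (Subgroup.inv_mem _ (Subgroup.mem_sup_left hx))) (Subgroup.inv_mem _ (Subgroup.mem_sup_right hy))
  have hJN : E₁.subgroupOf H ⊔ E₂.subgroupOf H ≤
      Subgroup.normalizer ((⁅E₁.subgroupOf H, E₂.subgroupOf H⁆ : Subgroup H) : Set H) := by
    apply sup_le
    · exact Cfsg.Agent.Lib.Lead.left_le_normalizer_commutator _ _
    · rw [Subgroup.commutator_comm]
      exact Cfsg.Agent.Lib.Lead.left_le_normalizer_commutator _ _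
  have hCsub : (⁅E₁.subgroupOf H, E₂.subgroupOf H⁆ : Subgroup H).IsSubnormal :=
    Subgroup.IsSubnormal.step _ _ hCJ hJ ((Subgroup.normal_subgroupOf_iff_le_normalizer hCJ).mpr hJN)
  have hCp : IsPGroup p (⁅E₁.subgroupOf H, E₂.subgroupOf H⁆ : Subgroup H) := by
    rintro ⟨z, hz⟩
    refine ⟨1, ?_⟩
    have hz' : (z : G) ∈ ⁅E₁, E₂⁆ := by
      rw [← hmap]
      exact Subgroup.mem_map_of_mem H.subtype hz
    have := hpow _ hz'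
    apply Subtype.ext
    apply Subtype.ext
    simpa using this
  have hle := Cfsg.Agent.Lib.helper17.le_pCore_of_subnormal_isPGroup hCsub hCp
  rw [← hmap]
  exact Subgroup.map_mono hle

end Cfsg.Agent.S0597
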