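import Mathlib
import Cfsg.Statements.S0605
import Cfsg.Agent.Lib.Helper5.ElemAb

set_option autoImplicit false
open Cfsg

namespace Cfsg.Agent.S0605

open Cfsg.Agent.Lib.Helper5 in
theorem result {G : Type*} [Group G] [Finite G] {p : ℕ} [Fact p.Prime] (x : G) (hx : x ∈ Subgroup.centralizer (Cfsg.thompsonSubgroup p G : Set G)) (ho : orderOf x = p) : x ∈ Cfsg.thompsonSubgroup p G := by
  obtain ⟨A, hA⟩ := maxElemAb_nonempty (G := G) p
  have hAJ := maxElemAb_le_thompson hA
  have hxA : x ∈ Subgroup.centralizer (A : Set G) :=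
    Subgroup.centralizer_le (by exact_mod_cast hAJ) hx
  have hxp : x ^ p = 1 := by rw [← ho]; exact pow_orderOf_eq_one x
  exact hAJ (maxElemAb_mem_of_centralizes hA x hxA hxp)

end Cfsg.Agent.S0605
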