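import Mathlib
import Cfsg.Statements.S0622
import Cfsg.Agent.Lib.Helper5.ElemAb

set_option autoImplicit false
universe u
open Cfsg

namespace Cfsg.Agent.S0622

open Cfsg.Agent.Lib.Helper5

theorem omegaOne_map_of_injective {G H : Type*} [Group G] [Group H] (p : ℕ) (f : G →* H)
    (hf : Function.Injective f) (K : Subgroup G) :
    (Cfsg.omegaOne p K).map f = Cfsg.omegaOne p (K.map f) := by
  unfold Cfsg.omegaOne
  rw [MonoidHom.map_closure]
  congr 1
  ext y
  constructor
  · rintro ⟨x, ⟨hxK, hxp⟩, rfl⟩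
    exact ⟨Subgroup.mem_map_of_mem f hxK, by rw [← map_pow, hxp, map_one]⟩
  · rintro ⟨⟨k, hk, rfl⟩, hyp⟩
    refine ⟨k, ⟨hk, ?_⟩, rfl⟩
    apply hf
    rw [map_pow, hyp, map_one]

theorem omegaOne_mono {G : Type*} [Group G] (p : ℕ) {K L : Subgroup G} (h : K ≤ L) :
    Cfsg.omegaOne p K ≤ Cfsg.omegaOne p L := by
  unfold Cfsg.omegaOne
  apply Subgroup.closure_mono
  rintro x ⟨hx, hxp⟩
  exact ⟨h hx, hxp⟩

theorem omegaOne_normal {G : Type*} [Group G] (p : ℕ) (N : Subgroup G) [hN : N.Normal] :
    (Cfsg.omegaOne p N).Normal := by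
  constructor
  intro n hn g
  have hmap : (Cfsg.omegaOne p N).map (MulAut.conj g).toMonoidHom ≤ Cfsg.omegaOne p N := by
    unfold Cfsg.omegaOne
    rw [MonoidHom.map_closure, Subgroup.closure_le]
    rintro _ ⟨x, ⟨hxN, hxp⟩, rfl⟩
    apply Subgroup.subset_closure
    refine ⟨hN.conj_mem x hxN g, ?_⟩
    simp only [MulEquiv.coe_toMonoidHom, MulAut.conj_apply]
    rw [conj_pow, hxp]
    group
  have := hmap ⟨n, hn, rfl⟩
  simpa using this

theorem thompson_map_equiv {G H : Type u} [Group G] [Group H] (p : ℕ) (e : G ≃* H) :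
    (Cfsg.thompsonSubgroup p G).map e.toMonoidHom = Cfsg.thompsonSubgroup p H := by
  apply le_antisymm
  · rw [Subgroup.map_le_iff_le_comap]
    apply sSup_le
    intro A hA
    rw [← Subgroup.map_le_iff_le_comap]
    exact maxElemAb_le_thompson (maxElemAb_map_equiv e hA)
  · apply sSup_le
    intro B hB
    have h1 : B.map e.symm.toMonoidHom ∈ Cfsg.maxElementaryAbelianSubgroups p G :=
      maxElemAb_map_equiv e.symm hB
    have h2 : B = (B.map e.symm.toMonoidHom).map e.toMonoidHom := by
      rw [Subgroup.map_map]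
      have : e.toMonoidHom.comp e.symm.toMonoidHom = MonoidHom.id H := by
        ext x; simp
      rw [this, Subgroup.map_id]
    rw [h2]
    exact Subgroup.map_mono (maxElemAb_le_thompson h1)

theorem map_inf_centralizer {G H : Type*} [Group G] [Group H] (f : G →* H)
    (hf : Function.Injective f) (J : Subgroup G) :
    (J ⊓ Subgroup.centralizer (J : Set G)).map f =
      J.map f ⊓ Subgroup.centralizer ((J.map f : Subgroup H) : Set H) := by
  ext y
  constructor
  · rintro ⟨j, hj, rfl⟩
    refine Subgroup.mem_inf.mpr ⟨Subgroup.mem_map_of_mem f (Subgroup.mem_inf.mp hj).1, ?_⟩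
    rw [Subgroup.mem_centralizer_iff]
    rintro _ ⟨j', hj', rfl⟩
    rw [← map_mul, ← map_mul]
    congr 1
    exact (Subgroup.mem_centralizer_iff.mp (Subgroup.mem_inf.mp hj).2) j' hj'
  · intro hy
    obtain ⟨⟨j, hj, rfl⟩, hc⟩ := Subgroup.mem_inf.mp hy
    refine ⟨j, Subgroup.mem_inf.mpr ⟨hj, ?_⟩, rfl⟩
    rw [Subgroup.mem_centralizer_iff]
    intro j' hj'
    apply hf
    rw [map_mul, map_mul]
    exact (Subgroup.mem_centralizer_iff.mp hc) (f j') (Subgroup.mem_map_of_mem f hj')

theorem omegaCenterThompson_map_equiv {G H : Type u} [Group G] [Group H] (p : ℕ) (e : G ≃* H) :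
    (Cfsg.omegaCenterThompson p G).map e.toMonoidHom = Cfsg.omegaCenterThompson p H := by
  unfold Cfsg.omegaCenterThompson
  rw [omegaOne_map_of_injective p e.toMonoidHom e.injective,
    map_inf_centralizer e.toMonoidHom e.injective, thompson_map_equiv]

theorem center_map_equiv {G H : Type*} [Group G] [Group H] (e : G ≃* H) :
    (Subgroup.center G).map e.toMonoidHom = Subgroup.center H := by
  ext y
  constructor
  · rintro ⟨z, hz, rfl⟩
    rw [Subgroup.mem_center_iff]
    intro h
    obtain ⟨g, rfl⟩ := e.surjective h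
    simp only [MulEquiv.coe_toMonoidHom]
    rw [← map_mul, ← map_mul, Subgroup.mem_center_iff.mp hz g]
  · intro hy
    refine ⟨e.symm y, ?_, by simp⟩
    rw [SetLike.mem_coe, Subgroup.mem_center_iff]
    intro g
    apply e.injective
    rw [map_mul, map_mul, e.apply_symm_apply]
    exact Subgroup.mem_center_iff.mp hy (e g)

theorem stable_comp_symm {S S' H : Type u} [Group S] [Group S'] [Group H] (p : ℕ) (η : S ≃* S')
    (τ : S →* H) (hτ : Cfsg.IsStableEmbedding p τ) :
    Cfsg.IsStableEmbedding p (τ.comp η.symm.toMonoidHom) := by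
  obtain ⟨h1, h2, h3, h4, h5, h6⟩ := hτ
  have hrange : (τ.comp η.symm.toMonoidHom).range = τ.range := by
    ext y
    constructor
    · rintro ⟨x, rfl⟩
      exact ⟨η.symm x, rfl⟩
    · rintro ⟨x, rfl⟩
      exact ⟨η x, by simp⟩
  have hJ : (Cfsg.thompsonSubgroup p S').map (τ.comp η.symm.toMonoidHom) =
      (Cfsg.thompsonSubgroup p S).map τ := by
    rw [← Subgroup.map_map, thompson_map_equiv p η.symm]
  have hO : (Cfsg.omegaCenterThompson p S').map (τ.comp η.symm.toMonoidHom) =
      (Cfsg.omegaCenterThompson p S).map τ := by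
    rw [← Subgroup.map_map, omegaCenterThompson_map_equiv p η.symm]
  refine ⟨?_, h2, ?_, h4, ?_, ?_⟩
  · exact h1.comp η.symm.injective
  · rw [hrange]; exact h3
  · rw [hJ]; exact h5
  · intro V _ hV
    rw [hO] at hV
    exact h6 V hV

theorem comap_mem {S S' : Type u} [Group S] [Group S'] (p : ℕ) (η : S ≃* S') (W' : Subgroup S')
    (hW' : W' ∈ {W : Subgroup S' | Cfsg.omegaOne p (Subgroup.center S') ≤ W ∧
      ∀ (H : Type u) [Group H] (τ : S' →* H), Cfsg.IsStableEmbedding p τ → (W.map τ).Normal}) :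
    W'.comap η.toMonoidHom ∈ {W : Subgroup S | Cfsg.omegaOne p (Subgroup.center S) ≤ W ∧
      ∀ (H : Type u) [Group H] (τ : S →* H), Cfsg.IsStableEmbedding p τ → (W.map τ).Normal} := by
  obtain ⟨h1, h2⟩ := hW'
  refine ⟨?_, ?_⟩
  · rw [← Subgroup.map_le_iff_le_comap, omegaOne_map_of_injective p _ η.injective,
      center_map_equiv]
    exact h1
  · intro H _ τ hτ
    have h3 := h2 H (τ.comp η.symm.toMonoidHom) (stable_comp_symm p η τ hτ)
    have h4 : W'.map (τ.comp η.symm.toMonoidHom) = (W'.comap η.toMonoidHom).map τ := by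
      rw [← Subgroup.map_map]
      congr 1
      ext x
      simp only [Subgroup.mem_map, Subgroup.mem_comap, MulEquiv.coe_toMonoidHom]
      constructor
      · rintro ⟨y, hy, rfl⟩; simpa using hy
      · intro hx; exact ⟨η x, hx, by simp⟩
    rw [← h4]
    exact h3

theorem map_le {S S' : Type u} [Group S] [Group S'] (p : ℕ) (η : S ≃* S') :
    (Cfsg.stableNormalClosure p S).map η.toMonoidHom ≤ Cfsg.stableNormalClosure p S' := by
  unfold Cfsg.stableNormalClosure
  apply le_sInf
  intro W' hW'
  rw [Subgroup.map_le_iff_le_comap]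
  exact sInf_le (comap_mem p η W' hW')

theorem map_eq {S S' : Type u} [Group S] [Group S'] (p : ℕ) (η : S ≃* S') :
    (Cfsg.stableNormalClosure p S).map η.toMonoidHom = Cfsg.stableNormalClosure p S' := by
  apply le_antisymm (map_le p η)
  have h := map_le p η.symm
  have h2 := Subgroup.map_mono (f := η.toMonoidHom) h
  rw [Subgroup.map_map] at h2
  have : η.toMonoidHom.comp η.symm.toMonoidHom = MonoidHom.id S' := by
    ext x; simp
  rw [this, Subgroup.map_id] at h2
  exact h2

theorem result {S : Type u} [Group S] [Finite S] {p : ℕ} [Fact p.Prime] (hS : IsPGroup p S) : (Cfsg.stableNormalClosure p S).Characteristic ∧ Cfsg.omegaOne p (Subgroup.center S) ≤ Cfsg.stableNormalClosure p S ∧ Cfsg.stableNormalClosure p S ≤ Cfsg.omegaCenterThompson p S ∧ (Nontrivial S → Cfsg.stableNormalClosure p S ≠ ⊥) ∧ ∀ (S' : Type u) [Group S'] (η : S ≃* S'), (Cfsg.stableNormalClosure p S).map η.toMonoidHom = Cfsg.stableNormalClosure p S' := by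
  have hle : Cfsg.omegaOne p (Subgroup.center S) ≤ Cfsg.stableNormalClosure p S := by
    unfold Cfsg.stableNormalClosure
    apply le_sInf
    intro W hW
    exact hW.1
  refine ⟨?_, hle, ?_, ?_, fun S' _ η => map_eq p η⟩
  · rw [Subgroup.characteristic_iff_map_eq]
    intro φ
    exact map_eq p φ
  · unfold Cfsg.stableNormalClosure
    apply sInf_le
    refine ⟨?_, ?_⟩
    · obtain ⟨A₀, hA₀⟩ := maxElemAb_nonempty (G := S) p
      unfold Cfsg.omegaCenterThompson Cfsg.omegaOne
      apply Subgroup.closure_mono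
      rintro x ⟨hx, hxp⟩
      have hxc : x ∈ Subgroup.centralizer (Cfsg.thompsonSubgroup p S : Set S) :=
        Subgroup.center_le_centralizer _ hx
      refine ⟨Subgroup.mem_inf.mpr ⟨?_, hxc⟩, hxp⟩
      have hxA : x ∈ Subgroup.centralizer (A₀ : Set S) := Subgroup.center_le_centralizer _ hx
      exact maxElemAb_le_thompson hA₀ (maxElemAb_mem_of_centralizes hA₀ x hxA hxp)
    · intro H _ τ hτ
      obtain ⟨h1, h2, h3, h4, h5, h6⟩ := hτ
      unfold Cfsg.omegaCenterThompson
      rw [omegaOne_map_of_injective p τ h1, map_inf_centralizer τ h1]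
      have : (Subgroup.centralizer (((Cfsg.thompsonSubgroup p S).map τ : Subgroup H) : Set H)).Normal :=
        Subgroup.normal_centralizer
      have : ((Cfsg.thompsonSubgroup p S).map τ ⊓
          Subgroup.centralizer (((Cfsg.thompsonSubgroup p S).map τ : Subgroup H) : Set H)).Normal :=
        Subgroup.normal_inf_normal _ _
      exact omegaOne_normal p _
  · intro hnt
    have hZ : Nontrivial (Subgroup.center S) := hS.center_nontrivial
    have hZp : IsPGroup p (Subgroup.center S) := hS.to_subgroup _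
    have hcard : Nat.card (Subgroup.center S) ≠ 1 := by
      intro h
      rw [Nat.card_eq_one_iff_unique] at h
      exact not_subsingleton (Subgroup.center S) h.1
    have hdvd : p ∣ Nat.card (Subgroup.center S) := hZp.card_eq_or_dvd.resolve_left hcard
    obtain ⟨z, hz⟩ := exists_prime_orderOf_dvd_card' (G := Subgroup.center S) p hdvd
    have hz1 : (z : S) ≠ 1 := by
      intro h
      have : z = 1 := Subtype.ext h
      rw [this, orderOf_one] at hz
      exact (Fact.out : p.Prime).one_lt.ne hz
    have hzp : (z : S) ^ p = 1 := by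
      have : z ^ p = 1 := by rw [← hz]; exact pow_orderOf_eq_one z
      have := congrArg Subtype.val this
      simpa using this
    have hmem : (z : S) ∈ Cfsg.omegaOne p (Subgroup.center S) :=
      Subgroup.subset_closure ⟨z.2, hzp⟩
    intro hbot
    have := hle hmem
    rw [hbot, Subgroup.mem_bot] at this
    exact hz1 this

end Cfsg.Agent.S0622
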