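import Mathlib
import Cfsg.Statements.S0609
import Cfsg.Agent.S0622
import Cfsg.Agent.Lib.Helper5.ElemAb
import Cfsg.Agent.Lib.Helper5.PConstr
import Cfsg.Agent.Lib.Helper5.Glauberman
import Cfsg.Agent.Lib.Helper1.PLength
set_option autoImplicit false
universe u
open Cfsg
open scoped Pointwise

namespace Cfsg.Agent.S0609

open Cfsg.Agent.Lib.Helper5

theorem injOn_of_ker {G K : Type*} [Group G] [Group K] (f : G →* K) (S : Subgroup G)
    (hinj : ∀ x ∈ S, f x = 1 → x = 1) {x y : G} (hx : x ∈ S) (hy : y ∈ S) (h : f x = f y) : x = y := by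
  have h1 : f (x * y⁻¹) = 1 := by rw [map_mul, map_inv, h, mul_inv_cancel]
  have h2 := hinj _ (S.mul_mem hx (S.inv_mem hy)) h1
  exact mul_inv_eq_one.mp h2

theorem omegaZ_map {G K : Type*} [Group G] [Group K] (p : ℕ) (f : G →* K) (S : Subgroup G)
    (hinj : ∀ x ∈ S, f x = 1 → x = 1) :
    (omegaOne p (S ⊓ Subgroup.centralizer (S : Set G))).map f =
      omegaOne p (S.map f ⊓ Subgroup.centralizer ((S.map f : Subgroup K) : Set K)) := by
  unfold omegaOne
  rw [MonoidHom.map_closure]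
  congr 1
  ext y
  constructor
  · rintro ⟨x, ⟨hx, hxp⟩, rfl⟩
    obtain ⟨hxS, hxC⟩ := Subgroup.mem_inf.mp hx
    refine ⟨Subgroup.mem_inf.mpr ⟨Subgroup.mem_map_of_mem f hxS, ?_⟩, by rw [← map_pow, hxp, map_one]⟩
    rw [Subgroup.mem_centralizer_iff]
    rintro _ ⟨s, hs, rfl⟩
    rw [← map_mul, ← map_mul]
    congr 1
    exact (Subgroup.mem_centralizer_iff.mp hxC) s hs
  · rintro ⟨hy, hyp⟩
    obtain ⟨⟨x, hxS, rfl⟩, hc⟩ := Subgroup.mem_inf.mp hy
    refine ⟨x, ⟨Subgroup.mem_inf.mpr ⟨hxS, ?_⟩, ?_⟩, rfl⟩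
    · rw [Subgroup.mem_centralizer_iff]
      intro s hs
      apply injOn_of_ker f S hinj (S.mul_mem hs hxS) (S.mul_mem hxS hs)
      rw [map_mul, map_mul]
      exact (Subgroup.mem_centralizer_iff.mp hc) (f s) (Subgroup.mem_map_of_mem f hs)
    · apply hinj _ (S.pow_mem hxS p)
      rw [map_pow]
      exact hyp

theorem thompsonOf_map {G K : Type u} [Group G] [Group K] (p : ℕ) (f : G →* K) (S : Subgroup G)
    (hinj : ∀ x ∈ S, f x = 1 → x = 1) :
    (thompsonSubgroupOf p S).map f = thompsonSubgroupOf p (S.map f) := by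
  have hbij : Function.Bijective (f.subgroupMap S) := by
    refine ⟨?_, f.subgroupMap_surjective S⟩
    intro x y hxy
    apply Subtype.ext
    apply injOn_of_ker f S hinj x.2 y.2
    exact congrArg Subtype.val hxy
  let e : ↥S ≃* ↥(S.map f) := MulEquiv.ofBijective (f.subgroupMap S) hbij
  unfold thompsonSubgroupOf
  rw [← Cfsg.Agent.S0622.thompson_map_equiv p e, Subgroup.map_map, Subgroup.map_map]
  rfl


theorem conj_into_sylow {G : Type*} [Group G] [Finite G] {p : ℕ} [Fact p.Prime] (S : Sylow p G)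
    (C : Subgroup G) [C.Normal] (B : Subgroup G) (hB : IsPGroup p B)
    (hBK : B ≤ (S : Subgroup G) ⊔ C) :
    ∃ c ∈ C, ∀ b ∈ B, c * b * c⁻¹ ∈ (S : Subgroup G) := by
  set K : Subgroup G := (S : Subgroup G) ⊔ C with hK
  have hSK : (S : Subgroup G) ≤ K := le_sup_left
  have hBKp : IsPGroup p (B.subgroupOf K) := hB.comap_subtype
  obtain ⟨P', hP'⟩ := hBKp.exists_le_sylow
  obtain ⟨k, hk⟩ := MulAction.exists_smul_eq ↥K P' (S.subtype hSK)
  have hkmem : (k : G) ∈ ((S : Subgroup G) ⊔ C : Subgroup G) := k.2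
  rw [← SetLike.mem_coe, Subgroup.mul_normal, Set.mem_mul] at hkmem
  obtain ⟨s, hs, c, hc, hsc⟩ := hkmem
  refine ⟨c, hc, ?_⟩
  intro b hb
  have h1 : (⟨b, hBK hb⟩ : ↥K) ∈ (P' : Subgroup ↥K) := hP' (by rw [Subgroup.mem_subgroupOf]; exact hb)
  have h2 : k * ⟨b, hBK hb⟩ * k⁻¹ ∈ ((k • P' : Sylow p ↥K) : Subgroup ↥K) := by
    rw [Sylow.coe_subgroup_smul, Subgroup.mem_pointwise_smul_iff_inv_smul_mem]
    have h0 : (MulAut.conj k)⁻¹ • (k * ⟨b, hBK hb⟩ * k⁻¹) = (⟨b, hBK hb⟩ : ↥K) := by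
      simp [MulAut.smul_def, mul_assoc]
    rw [h0]
    exact h1
  rw [hk, Sylow.coe_subtype, Subgroup.mem_subgroupOf] at h2
  have h3 : (k : G) * b * (k : G)⁻¹ ∈ (S : Subgroup G) := by simpa using h2
  rw [← hsc] at h3
  have h4 : s⁻¹ * (s * c * b * (s * c)⁻¹) * s⁻¹⁻¹ ∈ (S : Subgroup G) :=
    (S : Subgroup G).mul_mem ((S : Subgroup G).mul_mem ((S : Subgroup G).inv_mem hs) h3)
      ((S : Subgroup G).inv_mem ((S : Subgroup G).inv_mem hs))
  convert h4 using 1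
  group

theorem lift_normalizer {G : Type*} [Group G] [Finite G] {p : ℕ} [Fact p.Prime] (S : Sylow p G)
    (O : Subgroup G) [hOn : O.Normal] (hO : (Nat.card O).Coprime p) (J : Subgroup G)
    (hJS : J ≤ (S : Subgroup G)) (n₀ : G)
    (hn : QuotientGroup.mk' O n₀ ∈ Subgroup.normalizer
      ((J.map (QuotientGroup.mk' O) : Subgroup (G ⧸ O)) : Set (G ⧸ O))) :
    ∃ d ∈ O, d * n₀ ∈ Subgroup.normalizer (J : Set G) := by
  have hSO : ∀ y ∈ (S : Subgroup G), y ∈ O → y = 1 := fun y hy hyO =>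
    h5_eq_one_of_mem_pgroup_of_mem_coprime S.isPGroup' hO hy hyO
  have hJ' : ∀ j ∈ J, ∃ j' ∈ J, ∃ o ∈ O, n₀ * j * n₀⁻¹ = j' * o := by
    intro j hj
    have h1 := (Subgroup.mem_normalizer_iff.mp hn (QuotientGroup.mk' O j)).mp
      (Subgroup.mem_map_of_mem _ hj)
    obtain ⟨j', hj', hj'eq⟩ := h1
    refine ⟨j', hj', j'⁻¹ * (n₀ * j * n₀⁻¹), ?_, by group⟩
    rw [← QuotientGroup.eq_one_iff, ← QuotientGroup.mk'_apply]
    rw [map_mul, map_inv, hj'eq, map_mul, map_mul, map_inv]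
    group
  set B : Subgroup G := J.map (MulAut.conj n₀).toMonoidHom with hBdef
  have hBp : IsPGroup p B := (S.isPGroup'.to_le hJS).map _
  have hBK : B ≤ (S : Subgroup G) ⊔ O := by
    rintro _ ⟨j, hj, rfl⟩
    obtain ⟨j', hj', o, ho, heq⟩ := hJ' j hj
    rw [MulEquiv.coe_toMonoidHom, MulAut.conj_apply, heq]
    exact Subgroup.mul_mem _ ((le_sup_left : (S : Subgroup G) ≤ _) (hJS hj'))
      ((le_sup_right : O ≤ _) ho)
  obtain ⟨d, hd, hdS⟩ := conj_into_sylow S O B hBp hBK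
  refine ⟨d, hd, ?_⟩
  apply h5g_mem_normalizer_of_conj_le
  intro j hj
  obtain ⟨j', hj', o, ho, heq⟩ := hJ' j hj
  have h1 : d * (n₀ * j * n₀⁻¹) * d⁻¹ ∈ (S : Subgroup G) :=
    hdS _ ⟨j, hj, by rw [MulEquiv.coe_toMonoidHom, MulAut.conj_apply]⟩
  have h2 : d * n₀ * j * (d * n₀)⁻¹ = d * (n₀ * j * n₀⁻¹) * d⁻¹ := by group
  rw [h2]
  have h3 : d * (n₀ * j * n₀⁻¹) * d⁻¹ = j' * (j'⁻¹ * d * j' * o * d⁻¹) := by
    rw [heq]; group
  have h4 : j'⁻¹ * d * j' * o * d⁻¹ ∈ O := by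
    have : j'⁻¹ * d * j'⁻¹⁻¹ ∈ O := hOn.conj_mem d hd j'⁻¹
    rw [inv_inv] at this
    exact O.mul_mem (O.mul_mem this ho) (O.inv_mem hd)
  have h5 : j'⁻¹ * d * j' * o * d⁻¹ ∈ (S : Subgroup G) := by
    have : j'⁻¹ * (d * (n₀ * j * n₀⁻¹) * d⁻¹) ∈ (S : Subgroup G) :=
      (S : Subgroup G).mul_mem ((S : Subgroup G).inv_mem (hJS hj')) h1
    rw [h3] at this
    convert this using 1
    group
  have h6 := hSO _ h5 h4
  rw [h3, h6, mul_one]
  exact hj'


theorem exists_sylow_map {G : Type*} [Group G] [Finite G] {p : ℕ} [Fact p.Prime]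
    (O : Subgroup G) [O.Normal] (T : Sylow p (G ⧸ O)) :
    ∃ S : Sylow p G, (S : Subgroup G).map (QuotientGroup.mk' O) = (T : Subgroup (G ⧸ O)) := by
  have hsurj : Function.Surjective (QuotientGroup.mk' O) := QuotientGroup.mk'_surjective O
  obtain ⟨S₀⟩ : Nonempty (Sylow p G) := inferInstance
  obtain ⟨gb, hgb⟩ := MulAction.exists_smul_eq (G ⧸ O) (S₀.mapSurjective hsurj) T
  obtain ⟨g, rfl⟩ := hsurj gb
  refine ⟨g • S₀, ?_⟩
  rw [← hgb, Sylow.coe_subgroup_smul, Sylow.coe_subgroup_smul, Sylow.coe_mapSurjective]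
  ext y
  constructor
  · rintro ⟨x, hx, rfl⟩
    replace hx : x ∈ MulAut.conj g • (S₀ : Subgroup G) := hx
    rw [Subgroup.mem_pointwise_smul_iff_inv_smul_mem] at hx ⊢
    refine ⟨(MulAut.conj g)⁻¹ • x, hx, ?_⟩
    simp [MulAut.smul_def]
  · intro hy
    rw [Subgroup.mem_pointwise_smul_iff_inv_smul_mem] at hy
    obtain ⟨x, hx, hxy⟩ := hy
    refine ⟨g * x * g⁻¹, ?_, ?_⟩
    · show g * x * g⁻¹ ∈ MulAut.conj g • (S₀ : Subgroup G)
      rw [Subgroup.mem_pointwise_smul_iff_inv_smul_mem]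
      have : (MulAut.conj g)⁻¹ • (g * x * g⁻¹) = x := by simp [MulAut.smul_def, mul_assoc]
      rw [this]
      exact hx
    · rw [map_mul, map_mul, hxy, map_inv]
      simp [MulAut.smul_def, mul_assoc]

theorem result {G : Type*} [Group G] [Finite G] {p : ℕ} [Fact p.Prime] : Cfsg.IsThompsonFactorizable p G ↔ Cfsg.IsThompsonFactorizable p (G ⧸ Cfsg.pPrimeCore p G) := by
  have hOcop : (Nat.card (pPrimeCore p G)).Coprime p := Cfsg.Agent.Lib.Helper1.pPrimeCore_card_coprime p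
  have hsurj : Function.Surjective (QuotientGroup.mk' (pPrimeCore p G)) := QuotientGroup.mk'_surjective _
  have hker : ∀ S : Sylow p G, ∀ x ∈ (S : Subgroup G), QuotientGroup.mk' (pPrimeCore p G) x = 1 → x = 1 := by
    intro S x hx h1
    rw [QuotientGroup.mk'_apply, QuotientGroup.eq_one_iff] at h1
    exact h5_eq_one_of_mem_pgroup_of_mem_coprime S.isPGroup' hOcop hx h1
  constructor
  · intro h T gb
    obtain ⟨S, hS⟩ := exists_sylow_map (pPrimeCore p G) T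
    obtain ⟨g, rfl⟩ := hsurj gb
    obtain ⟨x, hx, c, hc, n, hn, rfl⟩ := h S g
    refine ⟨1, Subgroup.one_mem _, QuotientGroup.mk' (pPrimeCore p G) c, ?_, QuotientGroup.mk' (pPrimeCore p G) n, ?_, ?_⟩
    · rw [← hS, ← omegaZ_map p _ _ (hker S), Subgroup.mem_centralizer_iff]
      rintro _ ⟨z, hz, rfl⟩
      rw [← map_mul, ← map_mul]
      congr 1
      exact (Subgroup.mem_centralizer_iff.mp hc) z hz
    · rw [← hS, ← thompsonOf_map p _ _ (hker S)]
      apply h5g_mem_normalizer_of_conj_le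
      rintro _ ⟨j, hj, rfl⟩
      refine ⟨n * j * n⁻¹, (Subgroup.mem_normalizer_iff.mp hn j).mp hj, ?_⟩
      rw [map_mul, map_mul, map_inv]
    · have hx1 : QuotientGroup.mk' (pPrimeCore p G) x = 1 := by
        rw [QuotientGroup.mk'_apply, QuotientGroup.eq_one_iff]; exact hx
      rw [map_mul, map_mul, hx1]
  · intro h S g
    obtain ⟨xb, hxb, cb, hcb, nb, hnb, hg⟩ := h (S.mapSurjective hsurj) (QuotientGroup.mk' (pPrimeCore p G) g)
    have hbot : pPrimeCore p (G ⧸ pPrimeCore p G) = ⊥ := Cfsg.Agent.Lib.Helper1.pPrimeCore_quotient_eq_bot p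
    rw [hbot, Subgroup.mem_bot] at hxb
    rw [Sylow.coe_mapSurjective] at hcb hnb
    rw [← omegaZ_map p _ _ (hker S)] at hcb
    rw [← thompsonOf_map p _ _ (hker S)] at hnb
    obtain ⟨c₀, rfl⟩ := hsurj cb
    obtain ⟨n₀, rfl⟩ := hsurj nb
    have hZp : IsPGroup p (omegaOne p ((S : Subgroup G) ⊓ Subgroup.centralizer ((S : Subgroup G) : Set G))) :=
      S.isPGroup'.to_le ((Cfsg.Agent.S0622.omegaOne_mono p inf_le_left).trans (by
        unfold omegaOne
        rw [Subgroup.closure_le]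
        intro y hy
        exact hy.1))
    obtain ⟨d, hd, hcd⟩ := h5_exists_lift_centralizer (pPrimeCore p G) hOcop _ hZp c₀ hcb
    have hJS : thompsonSubgroupOf p (S : Subgroup G) ≤ (S : Subgroup G) := by
      unfold thompsonSubgroupOf
      exact Subgroup.map_subtype_le _
    obtain ⟨d', hd', hnd⟩ := lift_normalizer S (pPrimeCore p G) hOcop _ hJS n₀ hnb
    have hd1 : QuotientGroup.mk' (pPrimeCore p G) d = 1 := by
      rw [QuotientGroup.mk'_apply, QuotientGroup.eq_one_iff]; exact hd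
    have hd'1 : QuotientGroup.mk' (pPrimeCore p G) d' = 1 := by
      rw [QuotientGroup.mk'_apply, QuotientGroup.eq_one_iff]; exact hd'
    refine ⟨g * (c₀ * d * (d' * n₀))⁻¹, ?_, c₀ * d, hcd, d' * n₀, hnd, by group⟩
    rw [← QuotientGroup.eq_one_iff, ← QuotientGroup.mk'_apply]
    rw [map_mul, map_inv, map_mul, map_mul, map_mul, hd1, hd'1, hg, hxb]
    group

end Cfsg.Agent.S0609
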