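import Mathlib
import Cfsg.Statements.S0611
import Cfsg.Agent.Lib.Helper5.FF1

set_option autoImplicit false
open Cfsg

namespace Cfsg.Agent.S0611

open scoped commutatorElement

open Cfsg.Agent.Lib.Helper5 in
theorem result {G : Type*} [Group G] [Finite G] {p : ℕ} [Fact p.Prime] (V H : Subgroup G) (hV : Cfsg.IsElementaryAbelian p V) (hHV : H ≤ Subgroup.normalizer (V : Set G)) (hf : H ⊓ Subgroup.centralizer (V : Set G) = ⊥) (hS1 : Subgroup.centralizer (Cfsg.pPrimeCore p ↥H : Set ↥H) ≤ Cfsg.pPrimeCore p ↥H) (hS3 : H = ⨆ A : {A : Subgroup G // A ≤ H ∧ Cfsg.IsBestOffenderOn p V A}, (A : Subgroup G)) (hH1 : H ≠ ⊥) (A : Subgroup G) (hAH : A ≤ H) (hA : Cfsg.IsBestOffenderOn p V A) (hAV : ⁅V, A⁆ ≠ ⊥) (hmin : ∀ B : Subgroup G, B ≤ A → Cfsg.IsBestOffenderOn p V B → ⁅V, B⁆ ≠ ⊥ → B = A) : Nat.card A = p ∧ Nat.card ↥(⁅V, A⁆) = p ∧ ((V ⊓ Subgroup.centralizer (A : Set G))).relIndex V = p := by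
  have hp : p.Prime := Fact.out
  have hc := min_offender_card hV hHV hf hS1 A hAH hA hAV hmin
  obtain ⟨hAe, hcard⟩ := (bestOffender_iff hV hHV hf hS1 A hAH).mp hA
  have hCpos : 0 < Nat.card ↥(V ⊓ Subgroup.centralizer (A : Set G)) := Nat.card_pos
  have h1 := Cfsg.Agent.Lib.Helper1.card_mul_relIndex_of_le
    (inf_le_left : V ⊓ Subgroup.centralizer (A : Set G) ≤ V)
  rw [hc] at hcard
  have hrel : (V ⊓ Subgroup.centralizer (A : Set G)).relIndex V = p := by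
    apply Nat.eq_of_mul_eq_mul_left hCpos
    rw [h1, ← hcard, mul_comm]
  refine ⟨hc, ?_, hrel⟩
  have hAb : A ≠ ⊥ := ne_bot_of_commutator_ne_bot hAV
  obtain ⟨⟨a, haA⟩, ha1'⟩ := (Subgroup.ne_bot_iff_exists_ne_one.mp hAb)
  have ha1 : a ≠ 1 := fun h => ha1' (Subtype.ext h)
  have hz : Subgroup.zpowers a = A := by
    apply Subgroup.eq_of_le_of_card_ge (Subgroup.zpowers_le.mpr haA)
    rw [hc, Nat.card_zpowers]
    have hd : orderOf a ∣ p := by
      apply orderOf_dvd_of_pow_eq_one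
      exact hAe.2 a haA
    rcases (Nat.dvd_prime hp).mp hd with h | h
    · exact absurd (orderOf_eq_one_iff.mp h) ha1
    · exact h.ge
  have hVc : ∀ x ∈ V, ∀ y ∈ V, x * y = y * x := fun x hx y hy =>
    congrArg Subtype.val (hV.1.is_comm.comm ⟨x, hx⟩ ⟨y, hy⟩)
  have h2 := card_commutator_zpowers V hVc a (hHV (hAH haA))
  rw [hz, ← hcard] at h2
  exact Nat.eq_of_mul_eq_mul_right hCpos h2

end Cfsg.Agent.S0611
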