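import Mathlib
import Cfsg.Statements.S0615
import Cfsg.Agent.S0597
import Cfsg.Agent.S0595
import Cfsg.Agent.Lib.Helper1.WielandtCrit
import Cfsg.Agent.Lib.Helper5.Hol
import Cfsg.Agent.Lib.Helper5.FF6

set_option autoImplicit false
open Cfsg

namespace Cfsg.Agent.S0615

open Cfsg.Agent.Lib.Helper5
open scoped commutatorElement Pointwise

universe u

section

variable {G : Type u} [Group G]

theorem cj_mem (x y : G) (S : Subgroup G) :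
    y ∈ MulAut.conj x • S ↔ x⁻¹ * y * x ∈ S := by
  rw [Subgroup.mem_pointwise_smul_iff_inv_smul_mem, ← map_inv, MulAut.smul_def,
    MulAut.conj_apply, inv_inv]

theorem cj_commutator (x : G) (A B : Subgroup G) :
    MulAut.conj x • ⁅A, B⁆ = ⁅MulAut.conj x • A, MulAut.conj x • B⁆ := by
  simp only [Subgroup.pointwise_smul_def]
  exact Subgroup.map_commutator A B _

theorem cj_eq_self_iff (x : G) (S : Subgroup G) :
    MulAut.conj x • S = S ↔ x ∈ Subgroup.normalizer (S : Set G) := by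
  rw [Subgroup.mem_normalizer_iff'']
  constructor
  · intro h y
    rw [← cj_mem, h]
  · intro h
    ext y
    rw [cj_mem]
    exact (h y).symm

theorem cj_mul (x y : G) (S : Subgroup G) :
    MulAut.conj x • MulAut.conj y • S = MulAut.conj (x * y) • S := by
  rw [smul_smul, ← map_mul]

theorem cj_le_normalizer (x : G) (S T : Subgroup G)
    (h : S ≤ Subgroup.normalizer (T : Set G)) :
    MulAut.conj x • S ≤ Subgroup.normalizer ((MulAut.conj x • T : Subgroup G) : Set G) := by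
  intro y hy
  rw [cj_mem] at hy
  have h1 := h hy
  rw [← cj_eq_self_iff] at h1 ⊢
  have h2 : MulAut.conj y • MulAut.conj x • T =
      MulAut.conj x • MulAut.conj (x⁻¹ * y * x) • T := by
    rw [cj_mul, cj_mul]
    congr 2
    group
  rw [h2, h1]

theorem pCore_eq_bot_of_sn {X : Type*} [Group X] {p : ℕ} [Fact p.Prime]
    (hO : Cfsg.pCore p X = ⊥) {K : Subgroup X} (hK : K.IsSubnormal) : Cfsg.pCore p ↥K = ⊥ := by
  have hsub : ((Cfsg.pCore p ↥K).map K.subtype).IsSubnormal :=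
    (Subgroup.Normal.isSubnormal (Cfsg.Agent.Lib.Helper1.pCore_normal p)).trans' hK
  have h5 := Cfsg.Agent.Lib.helper17.le_pCore_of_subnormal_isPGroup hsub
    ((Cfsg.Agent.Lib.Helper1.pCore_isPGroup p).map K.subtype)
  rwa [hO, le_bot_iff, Subgroup.map_eq_bot_iff_of_injective _ K.subtype_injective] at h5

theorem rel_pCore {p : ℕ} [Fact p.Prime] (E' E : Subgroup G) (hle : E' ≤ E)
    (hs : (E'.subgroupOf E).IsSubnormal) (hO : Cfsg.pCore p ↥E = ⊥) : Cfsg.pCore p ↥E' = ⊥ :=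
  pCore_eq_bot_of_mulEquiv (Subgroup.subgroupOfEquivOfLe hle) (pCore_eq_bot_of_sn hO hs)

theorem rel_eq_bot {p : ℕ} [Fact p.Prime] (N E : Subgroup G) (hle : N ≤ E)
    (hs : (N.subgroupOf E).IsSubnormal) (hp : IsPGroup p N) (hO : Cfsg.pCore p ↥E = ⊥) :
    N = ⊥ := by
  have hp' : IsPGroup p ↥(N.subgroupOf E) := hp.comap_subtype
  have h1 := Cfsg.Agent.Lib.helper17.le_pCore_of_subnormal_isPGroup hs hp'
  rw [hO, le_bot_iff, Subgroup.subgroupOf_eq_bot] at h1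
  exact disjoint_self.mp (h1.mono_right hle) |> fun h => by simpa using h

theorem rel_sn_restrict (F E' E : Subgroup G) (hE'E : E' ≤ E)
    (hs : (F.subgroupOf E).IsSubnormal) : (F.subgroupOf E').IsSubnormal := by
  have h1 := hs.comap (Subgroup.inclusion hE'E)
  have h2 : (F.subgroupOf E).comap (Subgroup.inclusion hE'E) = F.subgroupOf E' := by
    ext y
    rw [Subgroup.mem_comap, Subgroup.mem_subgroupOf, Subgroup.mem_subgroupOf]
    rfl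
  rwa [h2] at h1

theorem quad_isPGroup [Finite G] {p : ℕ} [Fact p.Prime] (V X : Subgroup G)
    (hV : Cfsg.IsElementaryAbelian p V) (hXV : X ≤ Subgroup.normalizer (V : Set G))
    (hf : X ⊓ Subgroup.centralizer (V : Set G) = ⊥) (hq : ⁅⁅V, X⁆, X⁆ = ⊥) : IsPGroup p X := by
  rintro ⟨x, hx⟩
  refine ⟨1, ?_⟩
  have hz : Subgroup.zpowers x ≤ X := by
    rw [Subgroup.zpowers_le]; exact hx
  have hq' : ⁅⁅V, Subgroup.zpowers x⁆, Subgroup.zpowers x⁆ = ⊥ := by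
    rw [eq_bot_iff, ← hq]
    exact Subgroup.commutator_mono (Subgroup.commutator_mono le_rfl hz) hz
  have h1 := Cfsg.Agent.S0595.pow_mem_centralizer_of_quad (p := p) V hV.2 x (hXV hx) hq'
  have h2 : x ^ p ∈ X ⊓ Subgroup.centralizer (V : Set G) :=
    Subgroup.mem_inf.mpr ⟨X.pow_mem hx p, h1⟩
  rw [hf, Subgroup.mem_bot] at h2
  apply Subtype.ext
  rw [pow_one, Subgroup.coe_pow, Subgroup.coe_one]
  exact h2

end

section

variable {G : Type u} [Group G]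

structure Good (V E F : Subgroup G) : Prop where
  le : F ≤ E
  sn : (F.subgroupOf E).IsSubnormal
  irr : ∀ U : Subgroup G, U ≤ ⁅V, F⁆ → F ≤ Subgroup.normalizer (U : Set G) → U = ⊥ ∨ U = ⁅V, F⁆
  card : 2 < Nat.card F

theorem Good.restrict {V E F : Subgroup G} (h : Good V E F) (E' : Subgroup G) (hFE' : F ≤ E')
    (hE'E : E' ≤ E) : Good V E' F :=
  ⟨hFE', rel_sn_restrict F E' E hE'E h.sn, h.irr, h.card⟩

theorem cj_comm_V {V : Subgroup G} (F : Subgroup G) (x : G)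
    (hx : x ∈ Subgroup.normalizer (V : Set G)) :
    ⁅V, MulAut.conj x • F⁆ = MulAut.conj x • ⁅V, F⁆ := by
  rw [cj_commutator, (cj_eq_self_iff x V).mpr hx]

theorem Good.conj [Finite G] {V E F : Subgroup G} (h : Good V E F)
    (hEV : E ≤ Subgroup.normalizer (V : Set G)) (x : G) (hx : x ∈ E) :
    Good V E (MulAut.conj x • F) := by
  refine ⟨?_, ?_, ?_, ?_⟩
  · exact Subgroup.conj_smul_le_of_le h.le ⟨x, hx⟩
  · apply Cfsg.Agent.Lib.Helper1.isSubnormal_subgroupOf_conj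
    rw [Subgroup.conj_smul_eq_self_of_mem (E.inv_mem hx)]
    exact h.sn
  · intro U hU hN
    rw [cj_comm_V F x (hEV hx)] at hU ⊢
    have h1 : MulAut.conj x⁻¹ • U ≤ ⁅V, F⁆ := by
      have := (Subgroup.pointwise_smul_le_pointwise_smul_iff (a := MulAut.conj x⁻¹)).mpr hU
      rwa [cj_mul, inv_mul_cancel, map_one, one_smul] at this
    have h2 : F ≤ Subgroup.normalizer ((MulAut.conj x⁻¹ • U : Subgroup G) : Set G) := by
      have := cj_le_normalizer x⁻¹ _ _ hN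
      rwa [cj_mul, inv_mul_cancel, map_one, one_smul] at this
    rcases h.irr _ h1 h2 with h3 | h3
    · left
      have := congrArg (fun S => MulAut.conj x • S) h3
      simp only [cj_mul, mul_inv_cancel, map_one, one_smul] at this
      rw [this]
      exact Subgroup.smul_bot _
    · right
      have := congrArg (fun S => MulAut.conj x • S) h3
      simp only [cj_mul, mul_inv_cancel, map_one, one_smul] at this
      exact this
  · rw [Cfsg.Agent.S0001.card_conj]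
    exact h.card

def commIntoN (V W : Subgroup G) : Subgroup G where
  carrier := {g | g ∈ Subgroup.normalizer (W : Set G) ∧ ∀ v ∈ V, ⁅v, g⁆ ∈ W}
  one_mem' := by
    refine ⟨one_mem _, ?_⟩
    intro v _
    rw [commutatorElement_def]
    simp
  mul_mem' := by
    rintro g h ⟨hgN, hg⟩ ⟨hhN, hh⟩
    refine ⟨mul_mem hgN hhN, ?_⟩
    intro v hv
    have e : ⁅v, g * h⁆ = ⁅v, g⁆ * (g * ⁅v, h⁆ * g⁻¹) := by
      rw [commutatorElement_def, commutatorElement_def, commutatorElement_def]; group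
    rw [e]
    exact W.mul_mem (hg v hv) ((Subgroup.mem_normalizer_iff.mp hgN _).mp (hh v hv))
  inv_mem' := by
    rintro g ⟨hgN, hg⟩
    refine ⟨inv_mem hgN, ?_⟩
    intro v hv
    have e : ⁅v, g⁻¹⁆ = g⁻¹ * (⁅v, g⁆)⁻¹ * g⁻¹⁻¹ := by
      rw [commutatorElement_def, commutatorElement_def]; group
    rw [e]
    exact (Subgroup.mem_normalizer_iff.mp (inv_mem hgN) _).mp (W.inv_mem (hg v hv))

theorem commutator_le_of_le_commIntoN (V W X : Subgroup G) (h : X ≤ commIntoN V W) :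
    ⁅V, X⁆ ≤ W := by
  rw [Subgroup.commutator_le]
  intro v hv x hx
  exact (h hx).2 v hv

theorem le_commIntoN (V W X : Subgroup G) (hN : X ≤ Subgroup.normalizer (W : Set G))
    (hc : ⁅V, X⁆ ≤ W) : X ≤ commIntoN V W := by
  intro x hx
  exact ⟨hN hx, fun v hv => hc (Subgroup.commutator_mem_commutator hv hx)⟩

theorem caseA [Finite G] {p : ℕ} [Fact p.Prime] (V E E₁ E₂ : Subgroup G)
    (hV : Cfsg.IsElementaryAbelian p V) (hEV : E ≤ Subgroup.normalizer (V : Set G))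
    (hf : E ⊓ Subgroup.centralizer (V : Set G) = ⊥) (hOp : Cfsg.pCore p ↥E = ⊥)
    (h₁ : Good V E E₁) (h₂ : Good V E E₂) (h21 : ¬ ⁅V, E₂⁆ ≤ ⁅V, E₁⁆)
    (hA : E₂ ≤ Subgroup.normalizer ((⁅V, E₁⁆ : Subgroup G) : Set G)) :
    ⁅V, E₁⁆ ⊓ ⁅V, E₂⁆ = ⊥ ∧ ⁅E₁, E₂⁆ = ⊥ := by
  have hE₂W₂ : E₂ ≤ Subgroup.normalizer ((⁅V, E₂⁆ : Subgroup G) : Set G) :=
    Cfsg.Agent.Lib.Lead.le_normalizer_commutator E₂ V E₂ (h₂.le.trans hEV) Subgroup.le_normalizer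
  have hU : ⁅V, E₁⁆ ⊓ ⁅V, E₂⁆ = ⊥ := by
    have hN : E₂ ≤ Subgroup.normalizer ((⁅V, E₁⁆ ⊓ ⁅V, E₂⁆ : Subgroup G) : Set G) :=
      (le_inf hA hE₂W₂).trans (Subgroup.inf_normalizer_le_normalizer_inf)
    rcases h₂.irr _ inf_le_right hN with h | h
    · exact h
    · exfalso
      apply h21
      rw [← h]
      exact inf_le_left
  refine ⟨hU, ?_⟩
  have hW₁V : ⁅V, E₁⁆ ≤ V :=
    Cfsg.Agent.Lib.Lead.commutator_le_left_of_le_normalizer V E₁ (h₁.le.trans hEV)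
  have hc : ⁅⁅V, E₁⁆, E₂⁆ = ⊥ := by
    rw [eq_bot_iff, ← hU]
    apply le_inf
    · exact Cfsg.Agent.Lib.Lead.commutator_le_left_of_le_normalizer _ E₂ hA
    · exact Subgroup.commutator_mono hW₁V le_rfl
  have h := Cfsg.Agent.S0597.result V E hV hEV hf E₁ E₂ h₁.le h₂.le h₁.sn h₂.sn hc
  rw [hOp, Subgroup.map_bot, le_bot_iff] at h
  exact h

theorem comm_ne_bot [Finite G] {p : ℕ} [Fact p.Prime] (V E F : Subgroup G)
    (hV : Cfsg.IsElementaryAbelian p V) (hEV : E ≤ Subgroup.normalizer (V : Set G))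
    (hf : E ⊓ Subgroup.centralizer (V : Set G) = ⊥) (hOp : Cfsg.pCore p ↥E = ⊥)
    (h : Good V E F) : ⁅⁅V, F⁆, F⁆ ≠ ⊥ := by
  intro hq
  have hfF : F ⊓ Subgroup.centralizer (V : Set G) = ⊥ := by
    rw [eq_bot_iff, ← hf]
    exact inf_le_inf_right _ h.le
  have hp := quad_isPGroup V F hV (h.le.trans hEV) hfF hq
  have hb := rel_eq_bot F E h.le h.sn hp hOp
  have hc := h.card
  rw [hb, Subgroup.card_bot] at hc
  omega

end

section

variable {G : Type u} [Group G] [Finite G]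

def Concl (p : ℕ) (V : Subgroup G) (n : ℕ) : Prop :=
  ∀ E E₁ E₂ : Subgroup G, Nat.card E = n → E ≤ Subgroup.normalizer (V : Set G) →
    E ⊓ Subgroup.centralizer (V : Set G) = ⊥ → E = E₁ ⊔ E₂ → Good V E E₁ → Good V E E₂ →
    Cfsg.pCore p ↥E = ⊥ → ¬ ⁅V, E₁⁆ ≤ ⁅V, E₂⁆ → ¬ ⁅V, E₂⁆ ≤ ⁅V, E₁⁆ →
    ⁅E₁, E₂⁆ = ⊥ ∧ ⁅V, E₁⁆ ⊓ ⁅V, E₂⁆ = ⊥

theorem pair {p : ℕ} [Fact p.Prime] {V : Subgroup G} {n : ℕ}
    (IH : ∀ m < n, Concl p V m) (E : Subgroup G) (hn : Nat.card E = n)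
    (hEV : E ≤ Subgroup.normalizer (V : Set G))
    (hf : E ⊓ Subgroup.centralizer (V : Set G) = ⊥) (hOp : Cfsg.pCore p ↥E = ⊥)
    (F : Subgroup G) (hF : Good V E F) (y : G) (hy : y ∈ E)
    (hne : MulAut.conj y • ⁅V, F⁆ ≠ ⁅V, F⁆) :
    ⁅F, MulAut.conj y • F⁆ = ⊥ ∧ ⁅V, F⁆ ⊓ MulAut.conj y • ⁅V, F⁆ = ⊥ := by
  have hF' := hF.conj hEV y hy
  have hW' : ⁅V, MulAut.conj y • F⁆ = MulAut.conj y • ⁅V, F⁆ := cj_comm_V F y (hEV hy)
  have hFne : F.subgroupOf E ≠ ⊤ := by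
    intro h
    have hFE : F = E := le_antisymm hF.le (Subgroup.subgroupOf_eq_top.mp h)
    apply hne
    rw [cj_eq_self_iff]
    have h1 : E ≤ Subgroup.normalizer ((⁅V, E⁆ : Subgroup G) : Set G) :=
      Cfsg.Agent.Lib.Lead.le_normalizer_commutator E V E hEV Subgroup.le_normalizer
    rw [hFE]
    exact h1 hy
  obtain ⟨K, hKn, hFK, hKlt⟩ := hF.sn.exists_normal_and_le_and_lt_top_of_ne hFne
  have hF'K : (MulAut.conj y • F).subgroupOf E ≤ K := by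
    intro z hz
    rw [Subgroup.mem_subgroupOf, cj_mem] at hz
    have h1 : (⟨y, hy⟩ : E)⁻¹ * z * ⟨y, hy⟩ ∈ F.subgroupOf E := by
      rw [Subgroup.mem_subgroupOf]
      exact hz
    have h2 := hKn.conj_mem _ (hFK h1) ⟨y, hy⟩
    have h3 : (⟨y, hy⟩ : E) * ((⟨y, hy⟩ : E)⁻¹ * z * ⟨y, hy⟩) * (⟨y, hy⟩ : E)⁻¹ = z := by group
    rw [h3] at h2
    exact h2
  have hE'E : F ⊔ MulAut.conj y • F ≤ E := sup_le hF.le hF'.le
  have hE'ne : F ⊔ MulAut.conj y • F ≠ E := by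
    intro h
    apply hKlt.ne
    rw [eq_top_iff]
    have h1 : (F ⊔ MulAut.conj y • F).subgroupOf E ≤ K := by
      rw [Subgroup.subgroupOf_sup hF.le hF'.le]
      exact sup_le hFK hF'K
    rw [h, Subgroup.subgroupOf_self] at h1
    exact h1
  have hcard : Nat.card ↥(F ⊔ MulAut.conj y • F) < n := by
    rw [← hn]
    by_contra hle
    push Not at hle
    exact hE'ne (Subgroup.eq_of_le_of_card_ge hE'E hle)
  have hsnE' : ((F ⊔ MulAut.conj y • F).subgroupOf E).IsSubnormal :=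
    Cfsg.Agent.Lib.Helper1.isSubnormal_subgroupOf_sup F (MulAut.conj y • F) E hF.le hF'.le
      hF.sn hF'.sn
  have hOp' := rel_pCore (F ⊔ MulAut.conj y • F) E hE'E hsnE' hOp
  have hf' : (F ⊔ MulAut.conj y • F) ⊓ Subgroup.centralizer (V : Set G) = ⊥ := by
    rw [eq_bot_iff, ← hf]
    exact inf_le_inf_right _ hE'E
  have hcardW : Nat.card ↥(MulAut.conj y • ⁅V, F⁆ : Subgroup G) = Nat.card ↥(⁅V, F⁆) :=
    Cfsg.Agent.S0001.card_conj _ _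
  have hn1 : ¬ ⁅V, F⁆ ≤ ⁅V, MulAut.conj y • F⁆ := by
    rw [hW']
    intro h
    exact hne (Subgroup.eq_of_le_of_card_ge h hcardW.le).symm
  have hn2 : ¬ ⁅V, MulAut.conj y • F⁆ ≤ ⁅V, F⁆ := by
    rw [hW']
    intro h
    exact hne (Subgroup.eq_of_le_of_card_ge h hcardW.ge)
  have := IH _ hcard (F ⊔ MulAut.conj y • F) F (MulAut.conj y • F) rfl (hE'E.trans hEV) hf' rfl
    (hF.restrict _ le_sup_left hE'E) (hF'.restrict _ le_sup_right hE'E) hOp' hn1 hn2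
  rw [hW'] at this
  exact this

theorem cj_le_sup {V : Subgroup G} (W F₂ : Subgroup G) (hWV : W ≤ V) (x : G) (hx : x ∈ F₂) :
    MulAut.conj x • W ≤ W ⊔ ⁅V, F₂⁆ := by
  intro z hz
  rw [cj_mem] at hz
  have e : z = (x⁻¹ * z * x) * ⁅(x⁻¹ * z * x)⁻¹, x⁆ := by
    rw [commutatorElement_def]; group
  rw [e]
  exact Subgroup.mul_mem_sup hz
    (Subgroup.commutator_mem_commutator (V.inv_mem (hWV hz)) hx)

theorem half {p : ℕ} [Fact p.Prime] {V : Subgroup G} {n : ℕ}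
    (IH : ∀ m < n, Concl p V m) (E : Subgroup G) (hn : Nat.card E = n)
    (hV : Cfsg.IsElementaryAbelian p V)
    (hEV : E ≤ Subgroup.normalizer (V : Set G))
    (hf : E ⊓ Subgroup.centralizer (V : Set G) = ⊥) (hOp : Cfsg.pCore p ↥E = ⊥)
    (F₁ F₂ : Subgroup G) (hF₁ : Good V E F₁) (hF₂ : Good V E F₂) (x : G) (hx : x ∈ F₂)
    (hne : MulAut.conj x • ⁅V, F₁⁆ ≠ ⁅V, F₁⁆) :
    Nat.card ↥(⁅V, F₁⁆) * Nat.card ↥(⁅V, F₁⁆ ⊓ ⁅V, F₂⁆) ≤ Nat.card ↥(⁅V, F₂⁆) ∧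
    (Nat.card ↥(⁅V, F₁⁆) = Nat.card ↥(⁅V, F₂⁆) → ⁅V, F₁⁆ ⊓ ⁅V, F₂⁆ = ⊥ →
      ⁅V, F₁⁆ ⊔ MulAut.conj x • ⁅V, F₁⁆ = ⁅V, F₁⁆ ⊔ ⁅V, F₂⁆) := by
  have hVc : ∀ a ∈ V, ∀ b ∈ V, a * b = b * a := fun a ha b hb =>
    congrArg Subtype.val (hV.1.is_comm.comm ⟨a, ha⟩ ⟨b, hb⟩)
  have hW₁V : ⁅V, F₁⁆ ≤ V :=
    Cfsg.Agent.Lib.Lead.commutator_le_left_of_le_normalizer V F₁ (hF₁.le.trans hEV)
  have hW₂V : ⁅V, F₂⁆ ≤ V :=
    Cfsg.Agent.Lib.Lead.commutator_le_left_of_le_normalizer V F₂ (hF₂.le.trans hEV)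
  have hxE : x ∈ E := hF₂.le hx
  have hcW : MulAut.conj x • ⁅V, F₁⁆ ≤ V := by
    have := (Subgroup.pointwise_smul_le_pointwise_smul_iff (a := MulAut.conj x)).mpr hW₁V
    rwa [(cj_eq_self_iff x V).mpr (hEV hxE)] at this
  obtain ⟨-, hint⟩ := pair IH E hn hEV hf hOp F₁ hF₁ x hxE hne
  have hle : ⁅V, F₁⁆ ⊔ MulAut.conj x • ⁅V, F₁⁆ ≤ ⁅V, F₁⁆ ⊔ ⁅V, F₂⁆ :=
    sup_le le_sup_left (cj_le_sup _ F₂ hW₁V x hx)
  have hc1 := card_sup_mul_inf_abelian hVc hW₁V hcW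
  rw [hint, Subgroup.card_bot, mul_one, Cfsg.Agent.S0001.card_conj] at hc1
  have hc2 := card_sup_mul_inf_abelian hVc hW₁V hW₂V
  have hc3 := Subgroup.card_le_of_le hle
  have hpos : 0 < Nat.card ↥(⁅V, F₁⁆) := Nat.card_pos
  constructor
  · apply Nat.le_of_mul_le_mul_left _ hpos
    calc Nat.card ↥(⁅V, F₁⁆) * (Nat.card ↥(⁅V, F₁⁆) * Nat.card ↥(⁅V, F₁⁆ ⊓ ⁅V, F₂⁆))
        = Nat.card ↥(⁅V, F₁⁆ ⊔ MulAut.conj x • ⁅V, F₁⁆) * Nat.card ↥(⁅V, F₁⁆ ⊓ ⁅V, F₂⁆) := by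
          rw [hc1, mul_assoc]
      _ ≤ Nat.card ↥(⁅V, F₁⁆ ⊔ ⁅V, F₂⁆) * Nat.card ↥(⁅V, F₁⁆ ⊓ ⁅V, F₂⁆) :=
          Nat.mul_le_mul_right _ hc3
      _ = Nat.card ↥(⁅V, F₁⁆) * Nat.card ↥(⁅V, F₂⁆) := hc2
  · intro heq hbot
    apply Subgroup.eq_of_le_of_card_ge hle
    rw [hbot, Subgroup.card_bot, mul_one] at hc2
    rw [hc1, hc2, heq]

end

section

variable {G : Type u} [Group G] [Finite G]

theorem smul_eq_bot_imp (x : G) (S : Subgroup G) (h : MulAut.conj x • S = ⊥) : S = ⊥ := by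
  have := congrArg (fun T => MulAut.conj x⁻¹ • T) h
  simp only [cj_mul, inv_mul_cancel, map_one, one_smul, Subgroup.smul_bot] at this
  exact this

theorem caseC {p : ℕ} [Fact p.Prime] {V : Subgroup G} {n : ℕ}
    (IH : ∀ m < n, Concl p V m) (E E₁ E₂ : Subgroup G) (hn : Nat.card E = n)
    (hV : Cfsg.IsElementaryAbelian p V)
    (hEV : E ≤ Subgroup.normalizer (V : Set G))
    (hf : E ⊓ Subgroup.centralizer (V : Set G) = ⊥) (hOp : Cfsg.pCore p ↥E = ⊥)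
    (h₁ : Good V E E₁) (h₂ : Good V E E₂)
    (hA : ¬ E₂ ≤ Subgroup.normalizer ((⁅V, E₁⁆ : Subgroup G) : Set G))
    (hB : ¬ E₁ ≤ Subgroup.normalizer ((⁅V, E₂⁆ : Subgroup G) : Set G)) : False := by
  obtain ⟨x₀, hx₀, hx₀N⟩ := SetLike.not_le_iff_exists.mp hA
  obtain ⟨y₀, hy₀, hy₀N⟩ := SetLike.not_le_iff_exists.mp hB
  have hne₁ : MulAut.conj x₀ • ⁅V, E₁⁆ ≠ ⁅V, E₁⁆ := fun h => hx₀N ((cj_eq_self_iff _ _).mp h)
  have hne₂ : MulAut.conj y₀ • ⁅V, E₂⁆ ≠ ⁅V, E₂⁆ := fun h => hy₀N ((cj_eq_self_iff _ _).mp h)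
  have hW₁V : ⁅V, E₁⁆ ≤ V :=
    Cfsg.Agent.Lib.Lead.commutator_le_left_of_le_normalizer V E₁ (h₁.le.trans hEV)
  have hW₂V : ⁅V, E₂⁆ ≤ V :=
    Cfsg.Agent.Lib.Lead.commutator_le_left_of_le_normalizer V E₂ (h₂.le.trans hEV)
  obtain ⟨hh1, -⟩ := half IH E hn hV hEV hf hOp E₁ E₂ h₁ h₂ x₀ hx₀ hne₁
  obtain ⟨hh2, -⟩ := half IH E hn hV hEV hf hOp E₂ E₁ h₂ h₁ y₀ hy₀ hne₂
  rw [inf_comm] at hh2
  have hpa : 0 < Nat.card ↥(⁅V, E₁⁆) := Nat.card_pos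
  have hpb : 0 < Nat.card ↥(⁅V, E₂⁆) := Nat.card_pos
  have hpc : 0 < Nat.card ↥(⁅V, E₁⁆ ⊓ ⁅V, E₂⁆) := Nat.card_pos
  have hc1 : Nat.card ↥(⁅V, E₁⁆ ⊓ ⁅V, E₂⁆) = 1 := by
    by_contra hne
    have h2 : 2 ≤ Nat.card ↥(⁅V, E₁⁆ ⊓ ⁅V, E₂⁆) := by omega
    have h3 : Nat.card ↥(⁅V, E₁⁆) * 2 ≤ Nat.card ↥(⁅V, E₂⁆) :=
      (Nat.mul_le_mul_left _ h2).trans hh1
    have h4 : Nat.card ↥(⁅V, E₂⁆) * 2 ≤ Nat.card ↥(⁅V, E₁⁆) :=
      (Nat.mul_le_mul_left _ h2).trans hh2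
    omega
  have hab : Nat.card ↥(⁅V, E₁⁆) = Nat.card ↥(⁅V, E₂⁆) := by
    rw [hc1, mul_one] at hh1 hh2
    omega
  have hbot : ⁅V, E₁⁆ ⊓ ⁅V, E₂⁆ = ⊥ := Subgroup.eq_bot_of_card_eq _ hc1
  have step3 : ∀ x ∈ E₂, MulAut.conj x • ⁅V, E₁⁆ ≠ ⁅V, E₁⁆ →
      ⁅V, E₁⁆ ⊔ MulAut.conj x • ⁅V, E₁⁆ = ⁅V, E₁⁆ ⊔ ⁅V, E₂⁆ := fun x hx hne =>
    (half IH E hn hV hEV hf hOp E₁ E₂ h₁ h₂ x hx hne).2 hab hbot
  have step4 : ∀ x ∈ E₂, ∀ x' ∈ E₂, MulAut.conj x • ⁅V, E₁⁆ ≠ ⁅V, E₁⁆ →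
      MulAut.conj x' • ⁅V, E₁⁆ ≠ ⁅V, E₁⁆ →
      MulAut.conj x • ⁅V, E₁⁆ = MulAut.conj x' • ⁅V, E₁⁆ := by
    intro x hx x' hx' hne hne'
    by_contra hdiff
    have hxE : x ∈ E := h₂.le hx
    have hx'E : x' ∈ E := h₂.le hx'
    obtain ⟨hcomm1, hint1⟩ := pair IH E hn hEV hf hOp E₁ h₁ x' hx'E hne'
    have hGx := h₁.conj hEV x hxE
    have hGx' := h₁.conj hEV x' hx'E
    have hWx : ⁅V, MulAut.conj x • E₁⁆ = MulAut.conj x • ⁅V, E₁⁆ := cj_comm_V E₁ x (hEV hxE)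
    have hW' : ⁅V, MulAut.conj x' • E₁⁆ = MulAut.conj x' • ⁅V, E₁⁆ := cj_comm_V E₁ x' (hEV hx'E)
    have hne'' : MulAut.conj (x' * x⁻¹) • ⁅V, MulAut.conj x • E₁⁆ ≠ ⁅V, MulAut.conj x • E₁⁆ := by
      rw [hWx, cj_mul, inv_mul_cancel_right]
      exact fun h => hdiff h.symm
    obtain ⟨hcomm2, hint2⟩ := pair IH E hn hEV hf hOp _ hGx (x' * x⁻¹)
      (E.mul_mem hx'E (E.inv_mem hxE)) hne''
    rw [cj_mul, inv_mul_cancel_right] at hcomm2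
    rw [hWx, cj_mul, inv_mul_cancel_right] at hint2
    have hF'V : MulAut.conj x' • E₁ ≤ Subgroup.normalizer (V : Set G) := hGx'.le.trans hEV
    have hF'c1 : MulAut.conj x' • E₁ ≤ Subgroup.centralizer (E₁ : Set G) := by
      rw [← Subgroup.commutator_eq_bot_iff_le_centralizer, Subgroup.commutator_comm]
      exact hcomm1
    have hF'c2 : MulAut.conj x' • E₁ ≤
        Subgroup.centralizer ((MulAut.conj x • E₁ : Subgroup G) : Set G) := by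
      rw [← Subgroup.commutator_eq_bot_iff_le_centralizer, Subgroup.commutator_comm]
      exact hcomm2
    have hF'N1 : MulAut.conj x' • E₁ ≤ Subgroup.normalizer ((⁅V, E₁⁆ : Subgroup G) : Set G) :=
      Cfsg.Agent.Lib.Lead.le_normalizer_commutator _ V E₁ hF'V
        (hF'c1.trans (Subgroup.centralizer_le_normalizer _))
    have hF'N2 : MulAut.conj x' • E₁ ≤
        Subgroup.normalizer ((MulAut.conj x • ⁅V, E₁⁆ : Subgroup G) : Set G) := by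
      rw [← hWx]
      exact Cfsg.Agent.Lib.Lead.le_normalizer_commutator _ V _ hF'V
        (hF'c2.trans (Subgroup.centralizer_le_normalizer _))
    have hcW : MulAut.conj x • ⁅V, E₁⁆ ≤ V := by
      have := (Subgroup.pointwise_smul_le_pointwise_smul_iff (a := MulAut.conj x)).mpr hW₁V
      rwa [(cj_eq_self_iff x V).mpr (hEV hxE)] at this
    have hc1' : ⁅⁅V, E₁⁆, MulAut.conj x' • E₁⁆ = ⊥ := by
      rw [eq_bot_iff, ← hint1]
      apply le_inf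
      · exact Cfsg.Agent.Lib.Lead.commutator_le_left_of_le_normalizer _ _ hF'N1
      · rw [← hW']
        exact Subgroup.commutator_mono hW₁V le_rfl
    have hc2' : ⁅MulAut.conj x • ⁅V, E₁⁆, MulAut.conj x' • E₁⁆ = ⊥ := by
      rw [eq_bot_iff, ← hint2]
      apply le_inf
      · exact Cfsg.Agent.Lib.Lead.commutator_le_left_of_le_normalizer _ _ hF'N2
      · rw [← hW']
        exact Subgroup.commutator_mono hcW le_rfl
    have hc3 : ⁅V, E₁⁆ ⊔ MulAut.conj x • ⁅V, E₁⁆ ≤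
        Subgroup.centralizer ((MulAut.conj x' • E₁ : Subgroup G) : Set G) :=
      sup_le (Subgroup.commutator_eq_bot_iff_le_centralizer.mp hc1')
        (Subgroup.commutator_eq_bot_iff_le_centralizer.mp hc2')
    have hW'le : MulAut.conj x' • ⁅V, E₁⁆ ≤ ⁅V, E₁⁆ ⊔ MulAut.conj x • ⁅V, E₁⁆ := by
      rw [step3 x hx hne]
      exact cj_le_sup _ E₂ hW₁V x' hx'
    have hc4 : ⁅MulAut.conj x' • ⁅V, E₁⁆, MulAut.conj x' • E₁⁆ = ⊥ :=
      Subgroup.commutator_eq_bot_iff_le_centralizer.mpr (hW'le.trans hc3)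
    rw [← cj_commutator] at hc4
    exact comm_ne_bot V E E₁ hV hEV hf hOp h₁ (smul_eq_bot_imp _ _ hc4)
  have hmove : ∀ x ∈ E₂, x ∉ Subgroup.normalizer ((⁅V, E₁⁆ : Subgroup G) : Set G) →
      MulAut.conj x • ⁅V, E₁⁆ = MulAut.conj x₀ • ⁅V, E₁⁆ := fun x hx hxN =>
    step4 x hx x₀ hx₀ (fun h => hxN ((cj_eq_self_iff _ _).mp h)) hne₁
  have hN₂W₁' : E₂ ⊓ Subgroup.normalizer ((⁅V, E₁⁆ : Subgroup G) : Set G) ≤
      Subgroup.normalizer ((MulAut.conj x₀ • ⁅V, E₁⁆ : Subgroup G) : Set G) := by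
    intro g hg
    rw [← cj_eq_self_iff, cj_mul]
    apply hmove (g * x₀) (E₂.mul_mem (Subgroup.mem_inf.mp hg).1 hx₀)
    intro h
    apply hx₀N
    have e : x₀ = g⁻¹ * (g * x₀) := by group
    rw [e]
    exact mul_mem (inv_mem (Subgroup.mem_inf.mp hg).2) h
  have hE₂N₂ : E₂ ≤ Subgroup.normalizer
      ((E₂ ⊓ Subgroup.normalizer ((⁅V, E₁⁆ : Subgroup G) : Set G) : Subgroup G) : Set G) := by
    rw [Subgroup.le_normalizer_iff]
    intro g hg k hk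
    refine Subgroup.mem_inf.mpr
      ⟨E₂.mul_mem (E₂.mul_mem hg (Subgroup.mem_inf.mp hk).1) (E₂.inv_mem hg), ?_⟩
    by_cases hgN : g ∈ Subgroup.normalizer ((⁅V, E₁⁆ : Subgroup G) : Set G)
    · exact mul_mem (mul_mem hgN (Subgroup.mem_inf.mp hk).2) (inv_mem hgN)
    · rw [← cj_eq_self_iff, ← cj_mul, ← cj_mul]
      have h1 : MulAut.conj g⁻¹ • ⁅V, E₁⁆ = MulAut.conj x₀ • ⁅V, E₁⁆ :=
        hmove g⁻¹ (E₂.inv_mem hg) (fun h => hgN (by simpa using inv_mem h))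
      have h2 : MulAut.conj k • MulAut.conj x₀ • ⁅V, E₁⁆ = MulAut.conj x₀ • ⁅V, E₁⁆ :=
        (cj_eq_self_iff _ _).mpr (hN₂W₁' hk)
      rw [h1, h2, ← h1, cj_mul, mul_inv_cancel, map_one, one_smul]
  have hE₂W₂ : E₂ ≤ Subgroup.normalizer ((⁅V, E₂⁆ : Subgroup G) : Set G) :=
    Cfsg.Agent.Lib.Lead.le_normalizer_commutator E₂ V E₂ (h₂.le.trans hEV) Subgroup.le_normalizer
  have hcN1 : ⁅⁅V, E₁⁆, E₂ ⊓ Subgroup.normalizer ((⁅V, E₁⁆ : Subgroup G) : Set G)⁆ = ⊥ := by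
    rw [eq_bot_iff, ← hbot]
    apply le_inf
    · exact Cfsg.Agent.Lib.Lead.commutator_le_left_of_le_normalizer _ _ inf_le_right
    · exact Subgroup.commutator_mono hW₁V inf_le_left
  have hbot' : MulAut.conj x₀ • ⁅V, E₁⁆ ⊓ ⁅V, E₂⁆ = ⊥ := by
    have h1 : MulAut.conj x₀ • ⁅V, E₂⁆ = ⁅V, E₂⁆ := (cj_eq_self_iff _ _).mpr (hE₂W₂ hx₀)
    rw [← h1, ← Subgroup.smul_inf, hbot, Subgroup.smul_bot]
  have hW₁'V : MulAut.conj x₀ • ⁅V, E₁⁆ ≤ V := by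
    have := (Subgroup.pointwise_smul_le_pointwise_smul_iff (a := MulAut.conj x₀)).mpr hW₁V
    rwa [(cj_eq_self_iff x₀ V).mpr (hEV (h₂.le hx₀))] at this
  have hcN2 : ⁅MulAut.conj x₀ • ⁅V, E₁⁆,
      E₂ ⊓ Subgroup.normalizer ((⁅V, E₁⁆ : Subgroup G) : Set G)⁆ = ⊥ := by
    rw [eq_bot_iff, ← hbot']
    apply le_inf
    · exact Cfsg.Agent.Lib.Lead.commutator_le_left_of_le_normalizer _ _ hN₂W₁'
    · exact Subgroup.commutator_mono hW₁'V inf_le_left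
  have hcent : ⁅V, E₁⁆ ⊔ ⁅V, E₂⁆ ≤ Subgroup.centralizer
      ((E₂ ⊓ Subgroup.normalizer ((⁅V, E₁⁆ : Subgroup G) : Set G) : Subgroup G) : Set G) := by
    rw [← step3 x₀ hx₀ hne₁]
    exact sup_le (Subgroup.commutator_eq_bot_iff_le_centralizer.mp hcN1)
      (Subgroup.commutator_eq_bot_iff_le_centralizer.mp hcN2)
  have hquad : ⁅⁅V, E₂ ⊓ Subgroup.normalizer ((⁅V, E₁⁆ : Subgroup G) : Set G)⁆,
      E₂ ⊓ Subgroup.normalizer ((⁅V, E₁⁆ : Subgroup G) : Set G)⁆ = ⊥ := by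
    rw [Subgroup.commutator_eq_bot_iff_le_centralizer]
    exact (Subgroup.commutator_mono le_rfl inf_le_left).trans (le_sup_right.trans hcent)
  have hN₂E : E₂ ⊓ Subgroup.normalizer ((⁅V, E₁⁆ : Subgroup G) : Set G) ≤ E :=
    inf_le_left.trans h₂.le
  have hfN : (E₂ ⊓ Subgroup.normalizer ((⁅V, E₁⁆ : Subgroup G) : Set G)) ⊓
      Subgroup.centralizer (V : Set G) = ⊥ := by
    rw [eq_bot_iff, ← hf]
    exact inf_le_inf_right _ hN₂E
  have hpN := quad_isPGroup V _ hV (hN₂E.trans hEV) hfN hquad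
  have hsnN : ((E₂ ⊓ Subgroup.normalizer ((⁅V, E₁⁆ : Subgroup G) : Set G)).subgroupOf
      E).IsSubnormal := by
    have hle : (E₂ ⊓ Subgroup.normalizer ((⁅V, E₁⁆ : Subgroup G) : Set G)).subgroupOf E ≤
        E₂.subgroupOf E := Subgroup.subgroupOf_mono E inf_le_left
    apply Subgroup.IsSubnormal.step _ _ hle h₂.sn
    rw [Subgroup.normal_subgroupOf_iff_le_normalizer hle]
    intro g hg
    rw [Subgroup.mem_normalizer_iff]
    intro k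
    rw [Subgroup.mem_subgroupOf, Subgroup.mem_subgroupOf]
    exact Subgroup.mem_normalizer_iff.mp (hE₂N₂ (Subgroup.mem_subgroupOf.mp hg)) k
  have hN₂bot := rel_eq_bot _ E hN₂E hsnN hpN hOp
  have hsub : (E₂ : Set G) ⊆ {1, x₀} := by
    intro x hx
    by_cases hxN : x ∈ Subgroup.normalizer ((⁅V, E₁⁆ : Subgroup G) : Set G)
    · have h1 : x ∈ E₂ ⊓ Subgroup.normalizer ((⁅V, E₁⁆ : Subgroup G) : Set G) :=
        Subgroup.mem_inf.mpr ⟨hx, hxN⟩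
      rw [hN₂bot, Subgroup.mem_bot] at h1
      left; exact h1
    · right
      have h1 := hmove x hx hxN
      have h2 : x₀⁻¹ * x ∈ E₂ ⊓ Subgroup.normalizer ((⁅V, E₁⁆ : Subgroup G) : Set G) := by
        refine Subgroup.mem_inf.mpr ⟨E₂.mul_mem (E₂.inv_mem hx₀) hx, ?_⟩
        rw [← cj_eq_self_iff, ← cj_mul, h1, cj_mul, inv_mul_cancel, map_one, one_smul]
      rw [hN₂bot, Subgroup.mem_bot] at h2
      exact (inv_mul_eq_one.mp h2).symm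
  have hcard : Nat.card E₂ ≤ 2 := by
    have h1 : Nat.card E₂ = (E₂ : Set G).ncard := rfl
    rw [h1]
    calc (E₂ : Set G).ncard ≤ ({1, x₀} : Set G).ncard :=
          Set.ncard_le_ncard hsub (Set.toFinite _)
      _ ≤ 2 := by
          have h2 := Set.ncard_insert_le (1 : G) ({x₀} : Set G)
          rw [Set.ncard_singleton] at h2
          exact h2
  have := h₂.card
  omega

end

section

variable {G : Type u} [Group G] [Finite G]

theorem main {p : ℕ} [Fact p.Prime] (V : Subgroup G) (hV : Cfsg.IsElementaryAbelian p V) :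
    ∀ n, Concl p V n := by
  intro n
  induction n using Nat.strong_induction_on with
  | _ n ih =>
    intro E E₁ E₂ hn hEV hf hgen h₁ h₂ hOp h12 h21
    by_cases hA : E₂ ≤ Subgroup.normalizer ((⁅V, E₁⁆ : Subgroup G) : Set G)
    · obtain ⟨h1, h2⟩ := caseA V E E₁ E₂ hV hEV hf hOp h₁ h₂ h21 hA
      exact ⟨h2, h1⟩
    by_cases hB : E₁ ≤ Subgroup.normalizer ((⁅V, E₂⁆ : Subgroup G) : Set G)
    · obtain ⟨h1, h2⟩ := caseA V E E₂ E₁ hV hEV hf hOp h₂ h₁ h12 hB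
      rw [inf_comm] at h1
      rw [Subgroup.commutator_comm] at h2
      exact ⟨h2, h1⟩
    · exact (caseC ih E E₁ E₂ hn hV hEV hf hOp h₁ h₂ hA hB).elim

end

theorem result {G : Type*} [Group G] [Finite G] {p : ℕ} [Fact p.Prime] (V E E₁ E₂ : Subgroup G) (hV : Cfsg.IsElementaryAbelian p V) (hEV : E ≤ Subgroup.normalizer (V : Set G)) (hf : E ⊓ Subgroup.centralizer (V : Set G) = ⊥) (hgen : E = E₁ ⊔ E₂) (hs₁ : (E₁.subgroupOf E).IsSubnormal) (hs₂ : (E₂.subgroupOf E).IsSubnormal) (hOp : Cfsg.pCore p ↥E = ⊥) (hirr₁ : (∀ U : Subgroup G, U ≤ ⁅V, E₁⁆ → E₁ ≤ Subgroup.normalizer (U : Set G) → U = ⊥ ∨ U = ⁅V, E₁⁆)) (hirr₂ : (∀ U : Subgroup G, U ≤ ⁅V, E₂⁆ → E₂ ≤ Subgroup.normalizer (U : Set G) → U = ⊥ ∨ U = ⁅V, E₂⁆)) (h12 : ¬ ⁅V, E₁⁆ ≤ ⁅V, E₂⁆) (h21 : ¬ ⁅V, E₂⁆ ≤ ⁅V, E₁⁆) (hc₁ : 2 < Nat.card E₁) (hc₂ : 2 < Nat.card E₂) : ⁅E₁, E₂⁆ = ⊥ ∧ E₁ ⊓ E₂ = ⊥ ∧ ⁅V, E₁⁆ ⊓ ⁅V, E₂⁆ = ⊥ ∧ ⁅V,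 E⁆ = ⁅V, E₁⁆ ⊔ ⁅V, E₂⁆ := by
  have hE₁E : E₁ ≤ E := by rw [hgen]; exact le_sup_left
  have hE₂E : E₂ ≤ E := by rw [hgen]; exact le_sup_right
  have h₁ : Good V E E₁ := ⟨hE₁E, hs₁, hirr₁, hc₁⟩
  have h₂ : Good V E E₂ := ⟨hE₂E, hs₂, hirr₂, hc₂⟩
  obtain ⟨hcomm, hint⟩ := main V hV _ E E₁ E₂ rfl hEV hf hgen h₁ h₂ hOp h12 h21
  have hc12 : E₁ ≤ Subgroup.centralizer (E₂ : Set G) :=
    Subgroup.commutator_eq_bot_iff_le_centralizer.mp hcomm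
  have hc21 : E₂ ≤ Subgroup.centralizer (E₁ : Set G) := by
    rw [← Subgroup.commutator_eq_bot_iff_le_centralizer, Subgroup.commutator_comm]
    exact hcomm
  have hN11 : E₁ ≤ Subgroup.normalizer ((⁅V, E₁⁆ : Subgroup G) : Set G) :=
    Cfsg.Agent.Lib.Lead.le_normalizer_commutator E₁ V E₁ (hE₁E.trans hEV) Subgroup.le_normalizer
  have hN12 : E₁ ≤ Subgroup.normalizer ((⁅V, E₂⁆ : Subgroup G) : Set G) :=
    Cfsg.Agent.Lib.Lead.le_normalizer_commutator E₁ V E₂ (hE₁E.trans hEV)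
      (hc12.trans (Subgroup.centralizer_le_normalizer _))
  have hN22 : E₂ ≤ Subgroup.normalizer ((⁅V, E₂⁆ : Subgroup G) : Set G) :=
    Cfsg.Agent.Lib.Lead.le_normalizer_commutator E₂ V E₂ (hE₂E.trans hEV) Subgroup.le_normalizer
  have hN21 : E₂ ≤ Subgroup.normalizer ((⁅V, E₁⁆ : Subgroup G) : Set G) :=
    Cfsg.Agent.Lib.Lead.le_normalizer_commutator E₂ V E₁ (hE₂E.trans hEV)
      (hc21.trans (Subgroup.centralizer_le_normalizer _))
  refine ⟨hcomm, ?_, hint, ?_⟩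
  · rw [eq_bot_iff, ← hf]
    apply le_inf (inf_le_left.trans hE₁E)
    rw [← Subgroup.commutator_eq_bot_iff_le_centralizer, Subgroup.commutator_comm, eq_bot_iff,
      ← hint]
    exact le_inf (Subgroup.commutator_mono le_rfl inf_le_left)
      (Subgroup.commutator_mono le_rfl inf_le_right)
  · apply le_antisymm
    · apply commutator_le_of_le_commIntoN
      rw [hgen]
      apply sup_le
      · exact le_commIntoN _ _ _
          ((le_inf hN11 hN12).trans (Subgroup.normalizer_inf_normalizer_le_normalizer_sup _ _))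
          le_sup_left
      · exact le_commIntoN _ _ _
          ((le_inf hN21 hN22).trans (Subgroup.normalizer_inf_normalizer_le_normalizer_sup _ _))
          le_sup_right
    · rw [hgen]
      exact sup_le (Subgroup.commutator_mono le_rfl le_sup_left)
        (Subgroup.commutator_mono le_rfl le_sup_right)

end Cfsg.Agent.S0615
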