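import Mathlib
import Cfsg.Statements.S0619
import Cfsg.Agent.Lib.Helper5.Hol
import Cfsg.Agent.S0606

set_option autoImplicit false
open Cfsg

namespace Cfsg.Agent.S0619

open Cfsg.Agent.Lib.Helper5
open scoped commutatorElement

universe u

def commInto {G : Type u} [Group G] (W V : Subgroup G) [hV : V.Normal] : Subgroup G where
  carrier := {g | ∀ w ∈ W, ⁅w, g⁆ ∈ V}
  one_mem' := by
    intro w _
    rw [commutatorElement_def]
    simp
  mul_mem' := by
    intro g h hg hh w hw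
    have e : ⁅w, g * h⁆ = ⁅w, g⁆ * (g * ⁅w, h⁆ * g⁻¹) := by
      rw [commutatorElement_def, commutatorElement_def, commutatorElement_def]; group
    rw [e]
    exact V.mul_mem (hg w hw) (hV.conj_mem _ (hh w hw) g)
  inv_mem' := by
    intro g hg w hw
    have e : ⁅w, g⁻¹⁆ = g⁻¹ * (⁅w, g⁆)⁻¹ * g⁻¹⁻¹ := by
      rw [commutatorElement_def, commutatorElement_def]; group
    rw [e]
    exact hV.conj_mem _ (V.inv_mem (hg w hw)) g⁻¹

theorem commutator_le_of_le_commInto {G : Type u} [Group G] (W V X : Subgroup G) [hV : V.Normal]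
    (h : X ≤ commInto W V) : ⁅W, X⁆ ≤ V := by
  rw [Subgroup.commutator_le]
  intro w hw x hx
  exact h hx w hw

theorem key {G : Type u} [Group G] [Finite G] {p : ℕ} [Fact p.Prime]
    (hsep : Cfsg.IsPSolvable p G) (V : Subgroup G) [hVn : V.Normal]
    (hV : Cfsg.IsElementaryAbelian p V)
    (hO : Cfsg.pCore p (G ⧸ Subgroup.centralizer (V : Set G)) = ⊥) (A : Subgroup G)
    (hA : A ∈ Cfsg.maxElementaryAbelianSubgroups p G) :
    A ≤ commInto (Cfsg.omegaOne p (Cfsg.centerThompsonOf p (Subgroup.centralizer (V : Set G)))) V := by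
  have hVc : ∀ x ∈ V, ∀ y ∈ V, x * y = y * x := fun x hx y hy =>
    congrArg Subtype.val (hV.1.is_comm.comm ⟨x, hx⟩ ⟨y, hy⟩)
  have hAc : ∀ x ∈ A, ∀ y ∈ A, x * y = y * x := fun x hx y hy =>
    congrArg Subtype.val (hA.1.1.is_comm.comm ⟨x, hx⟩ ⟨y, hy⟩)
  have hVC : V ≤ Subgroup.centralizer (V : Set G) := by
    intro v hv
    rw [Subgroup.mem_centralizer_iff]
    intro w hw
    exact hVc w hw v hv
  have h1 := hol_no_over V hsep hV hO A hA.1
  have hBO := Cfsg.Agent.S0606.result V hV A hA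
  have h2 := hBO.1 (A ⊓ Subgroup.centralizer (V : Set G)) inf_le_left
  have h3 : V ⊓ Subgroup.centralizer ((A ⊓ Subgroup.centralizer (V : Set G) : Subgroup G) : Set G) =
      V := by
    apply inf_eq_left.mpr
    rw [Subgroup.le_centralizer_iff]
    exact inf_le_right
  rw [h3] at h2
  have hnorm : A ⊓ Subgroup.centralizer (V : Set G) ≤ Subgroup.normalizer (V : Set G) :=
    Subgroup.le_normalizer_of_normal
  have h4 := card_sup_of_le_normalizer (A ⊓ Subgroup.centralizer (V : Set G)) V hnorm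
  have h5 : Nat.card ↥((A ⊓ Subgroup.centralizer (V : Set G)) ⊓ V) ≤
      Nat.card ↥(V ⊓ Subgroup.centralizer (A : Set G)) := by
    apply Subgroup.card_le_of_le
    intro x hx
    refine Subgroup.mem_inf.mpr ⟨hx.2, ?_⟩
    rw [Subgroup.mem_centralizer_iff]
    intro a ha
    exact hAc a ha x hx.1.1
  have hcard : Nat.card A ≤ Nat.card ↥((A ⊓ Subgroup.centralizer (V : Set G)) ⊔ V) := by
    have hpos : 0 < Nat.card ↥(V ⊓ Subgroup.centralizer (A : Set G)) := Nat.card_pos
    apply Nat.le_of_mul_le_mul_right _ hpos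
    calc Nat.card A * Nat.card ↥(V ⊓ Subgroup.centralizer (A : Set G))
        ≤ Nat.card V * Nat.card ↥(A ⊓ Subgroup.centralizer (V : Set G)) := h1
      _ = Nat.card ↥(A ⊓ Subgroup.centralizer (V : Set G)) * Nat.card V := mul_comm _ _
      _ = Nat.card ↥((A ⊓ Subgroup.centralizer (V : Set G)) ⊔ V) *
          Nat.card ↥((A ⊓ Subgroup.centralizer (V : Set G)) ⊓ V) := h4.symm
      _ ≤ Nat.card ↥((A ⊓ Subgroup.centralizer (V : Set G)) ⊔ V) *
          Nat.card ↥(V ⊓ Subgroup.centralizer (A : Set G)) := Nat.mul_le_mul_left _ h5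
  have hAs_el : Cfsg.IsElementaryAbelian p ((A ⊓ Subgroup.centralizer (V : Set G)) ⊔ V) := by
    rw [Subgroup.sup_eq_closure]
    apply elemAb_closure
    · rintro x (hx | hx) y (hy | hy)
      · exact hAc x hx.1 y hy.1
      · have := (Subgroup.mem_centralizer_iff.mp hx.2) y hy
        exact this.symm
      · exact (Subgroup.mem_centralizer_iff.mp hy.2) x hx
      · exact hVc x hx y hy
    · rintro x (hx | hx)
      · exact hA.1.2 x hx.1
      · exact hV.2 x hx
  have hAs : (A ⊓ Subgroup.centralizer (V : Set G)) ⊔ V ∈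
      Cfsg.maxElementaryAbelianSubgroups p G :=
    ⟨hAs_el, fun B hB => (hA.2 B hB).trans hcard⟩
  have hAsC : (A ⊓ Subgroup.centralizer (V : Set G)) ⊔ V ≤ Subgroup.centralizer (V : Set G) :=
    sup_le inf_le_right hVC
  have hAsJ := maxElemAb_le_thompsonSubgroupOf hAs hAsC
  have hW : Cfsg.omegaOne p (Cfsg.centerThompsonOf p (Subgroup.centralizer (V : Set G))) ≤
      (A ⊓ Subgroup.centralizer (V : Set G)) ⊔ V := by
    unfold Cfsg.omegaOne
    rw [Subgroup.closure_le]
    rintro x ⟨hx, hxp⟩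
    have hxc : x ∈ Subgroup.centralizer
        ((Cfsg.thompsonSubgroupOf p (Subgroup.centralizer (V : Set G)) : Subgroup G) : Set G) :=
      hx.2
    exact maxElemAb_mem_of_centralizes hAs x
      (Subgroup.centralizer_le (SetLike.coe_subset_coe.mpr hAsJ) hxc) hxp
  intro a ha w hw
  obtain ⟨c, hc, v, hv, rfl⟩ := Subgroup.mem_sup_of_normal_right.mp (hW hw)
  have hca : c * a = a * c := hAc c hc.1 a ha
  have e : ⁅c * v, a⁆ = c * ⁅v, a⁆ * c⁻¹ := by
    rw [commutatorElement_def, commutatorElement_def]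
    have : a⁻¹ * c⁻¹ = c⁻¹ * a⁻¹ := by
      rw [← mul_inv_rev, ← mul_inv_rev, hca]
    calc c * v * a * (c * v)⁻¹ * a⁻¹ = c * v * a * v⁻¹ * (c⁻¹ * a⁻¹) := by group
      _ = c * v * a * v⁻¹ * (a⁻¹ * c⁻¹) := by rw [this]
      _ = c * (v * a * v⁻¹ * a⁻¹) * c⁻¹ := by group
  rw [e]
  apply hVn.conj_mem
  rw [commutatorElement_def]
  have : v * a * v⁻¹ * a⁻¹ = v * (a * v⁻¹ * a⁻¹) := by group
  rw [this]
  exact V.mul_mem hv (hVn.conj_mem _ (V.inv_mem hv) a)

theorem result {G : Type*} [Group G] [Finite G] {p : ℕ} [Fact p.Prime] (hsep : Cfsg.IsPSolvable p G) (V : Subgroup G) [V.Normal] (hV : Cfsg.IsElementaryAbelian p V) (hO : Cfsg.pCore p (G ⧸ Subgroup.centralizer (V : Set G)) = ⊥) : ⁅Cfsg.omegaOne p (Cfsg.centerThompsonOf p (Subgroup.centralizer (V : Set G))), Cfsg.thompsonSubgroup p G⁆ ≤ V := by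
  apply commutator_le_of_le_commInto
  unfold Cfsg.thompsonSubgroup
  apply sSup_le
  intro A hA
  exact key hsep V hV hO A hA

end Cfsg.Agent.S0619
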