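import Mathlib
import Cfsg.Statements.S0620
import Cfsg.Agent.Lib.Helper5.FFOp2

set_option autoImplicit false
open Cfsg

namespace Cfsg.Agent.S0620

open Cfsg.Agent.Lib.Helper5

theorem fixed_of_cent {G : Type*} [Group G] [Finite G] {p q : ℕ} [Fact p.Prime] [Fact q.Prime]
    (K X : Subgroup G) (hXK : X ≤ Subgroup.normalizer (K : Set G))
    (hX : Cfsg.IsElementaryAbelian q X) (hq : ¬ q ∣ Nat.card K) (j : ↥K)
    (hj : ∀ x : ↥X, holPsi (omZ p ↥K) (Cfsg.Agent.S0593.conjAut K X hXK x j) =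
      holPsi (omZ p ↥K) j) :
    ∃ l ∈ (Subgroup.centralizer (X : Set G)).subgroupOf K,
      holPsi (omZ p ↥K) l = holPsi (omZ p ↥K) j := by
  have hqp : q.Prime := Fact.out
  haveI : (Subgroup.centralizer ((omZ p ↥K : Subgroup ↥K) : Set ↥K)).Characteristic :=
    Subgroup.characteristic_centralizer
  have hAD := Cfsg.Agent.Lib.Lead.le_normalizer_map_characteristic K X hXK
    (Subgroup.centralizer ((omZ p ↥K : Subgroup ↥K) : Set ↥K))
  have hXp : IsPGroup q X := elemAb_isPGroup hX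
  obtain ⟨n, hn⟩ := hXp.exists_card_eq
  have hcop : (Nat.card X).Coprime (Nat.card ((Subgroup.centralizer
      ((omZ p ↥K : Subgroup ↥K) : Set ↥K)).map K.subtype)) := by
    rw [hn]
    apply Nat.Coprime.pow_left
    rw [Nat.Prime.coprime_iff_not_dvd hqp]
    intro h
    apply hq
    rw [Subgroup.card_map_of_injective K.subtype_injective] at h
    exact h.trans (Subgroup.card_subgroup_dvd_card _)
  have hsolv : Group.IsSolvable ↥X := by
    haveI := hX.1
    exact isSolvable_of_comm (fun a b => mul_comm' a b)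
  have hx : ∀ a ∈ X, (j : G)⁻¹ * (a * (j : G) * a⁻¹) ∈
      (Subgroup.centralizer ((omZ p ↥K : Subgroup ↥K) : Set ↥K)).map K.subtype := by
    intro a ha
    refine ⟨j⁻¹ * Cfsg.Agent.S0593.conjAut K X hXK ⟨a, ha⟩ j, ?_, rfl⟩
    rw [← holPsi_ker, SetLike.mem_coe, MonoidHom.mem_ker, map_mul, map_inv, hj ⟨a, ha⟩,
      inv_mul_cancel]
  obtain ⟨d, ⟨d', hd', rfl⟩, hjd⟩ := Cfsg.Agent.Lib.Lead.coset_fixed X _ hAD hcop (Or.inl hsolv)
    (j : G) hx
  refine ⟨j * d', Subgroup.mem_subgroupOf.mpr hjd, ?_⟩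
  rw [← holPsi_ker, SetLike.mem_coe, MonoidHom.mem_ker] at hd'
  rw [map_mul, hd', mul_one]

theorem result {G : Type*} [Group G] [Finite G] {p : ℕ} [Fact p.Prime] {q : ℕ} [Fact q.Prime] (K X : Subgroup G) (hXK : X ≤ Subgroup.normalizer (K : Set G)) (hX : Cfsg.IsElementaryAbelian q X) (hq : ¬ q ∣ Nat.card K) (hsep : Cfsg.IsPSolvable p ↥K) (hO : Cfsg.pPrimeCore p ↥K = ⊥) (S : Sylow p ↥K) : (Subgroup.normalizer (Cfsg.thompsonSubgroupOf p (S : Subgroup ↥K) : Set ↥K) ⊔ Subgroup.centralizer (Cfsg.omegaOne p ((S : Subgroup ↥K) ⊓ Subgroup.centralizer ((S : Subgroup ↥K) : Set ↥K)) : Set ↥K) ⊔ (Subgroup.centralizer (X : Set G)).subgroupOf K) = ⊤ := by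
  haveI hJchar := (Cfsg.Agent.S0602.result (G := ↥K) (p := p)).1
  have hXJ : ((holXi (omZ p ↥K)).comp (Cfsg.Agent.S0593.conjAut K X hXK)).range ≤
      Subgroup.normalizer (((Cfsg.thompsonSubgroup p ↥K).map (holPsi (omZ p ↥K)) :
        Subgroup (HolG (omZ p ↥K))) : Set (HolG (omZ p ↥K))) := by
    rintro _ ⟨x, rfl⟩
    apply h5g_mem_normalizer_of_conj_le
    rintro _ ⟨j, hj, rfl⟩
    rw [MonoidHom.comp_apply, holXi_conj]
    refine Subgroup.mem_map_of_mem _ ?_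
    exact (Subgroup.characteristic_iff_le_comap.mp hJchar
      (Cfsg.Agent.S0593.conjAut K X hXK x)) hj
  have hXq : IsPGroup q ((holXi (omZ p ↥K)).comp (Cfsg.Agent.S0593.conjAut K X hXK)).range :=
    IsPGroup.of_surjective (elemAb_isPGroup hX) _
      ((holXi (omZ p ↥K)).comp (Cfsg.Agent.S0593.conjAut K X hXK)).rangeRestrict_surjective
  have hmain := thompson_map_le_sylow_cent hsep hO hq S _ hXJ hXq
  have hSN : (S : Subgroup ↥K) ≤
      Subgroup.normalizer (Cfsg.thompsonSubgroupOf p (S : Subgroup ↥K) : Set ↥K) :=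
    Subgroup.le_normalizer.trans
      (Cfsg.Agent.S0608.normalizer_le_thompson S (S : Subgroup ↥K)
        (Cfsg.Agent.S0608.thompsonOf_le_sylow _) le_rfl)
  have hker : (holPsi (omZ p ↥K)).ker ≤ Subgroup.centralizer (Cfsg.omegaOne p
      ((S : Subgroup ↥K) ⊓ Subgroup.centralizer ((S : Subgroup ↥K) : Set ↥K)) : Set ↥K) := by
    rw [holPsi_ker]
    exact Subgroup.centralizer_le (SetLike.coe_subset_coe.mpr
      (le_iSup (fun S : Sylow p ↥K => Cfsg.omegaOne p (((S : Subgroup ↥K)) ⊓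
        Subgroup.centralizer ((S : Subgroup ↥K) : Set ↥K))) S))
  set L := Subgroup.normalizer (Cfsg.thompsonSubgroupOf p (S : Subgroup ↥K) : Set ↥K) ⊔
    Subgroup.centralizer (Cfsg.omegaOne p ((S : Subgroup ↥K) ⊓
      Subgroup.centralizer ((S : Subgroup ↥K) : Set ↥K)) : Set ↥K) ⊔
    (Subgroup.centralizer (X : Set G)).subgroupOf K with hL
  have h3 : ((S : Subgroup ↥K) ⊓ Cfsg.thompsonSubgroup p ↥K).map (holPsi (omZ p ↥K)) ≤
      L.map (holPsi (omZ p ↥K)) :=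
    Subgroup.map_mono (inf_le_left.trans (hSN.trans (le_sup_left.trans le_sup_left)))
  have h4 : (Cfsg.thompsonSubgroup p ↥K).map (holPsi (omZ p ↥K)) ⊓ Subgroup.centralizer
      ((((holXi (omZ p ↥K)).comp (Cfsg.Agent.S0593.conjAut K X hXK)).range :
        Subgroup (HolG (omZ p ↥K))) : Set (HolG (omZ p ↥K))) ≤ L.map (holPsi (omZ p ↥K)) := by
    rintro _ ⟨⟨j, hj, rfl⟩, hc⟩
    have hc' := Subgroup.mem_centralizer_iff.mp hc
    have hfix : ∀ x : ↥X, holPsi (omZ p ↥K) (Cfsg.Agent.S0593.conjAut K X hXK x j) =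
        holPsi (omZ p ↥K) j := by
      intro x
      rw [← holXi_conj]
      have h5 := hc' ((holXi (omZ p ↥K)).comp (Cfsg.Agent.S0593.conjAut K X hXK) x) ⟨x, rfl⟩
      rw [MonoidHom.comp_apply] at h5
      rw [h5]; group
    obtain ⟨l, hl, hlj⟩ := fixed_of_cent K X hXK hX hq j hfix
    exact ⟨l, Subgroup.mem_sup_right hl, hlj⟩
  have h5 : Cfsg.thompsonSubgroup p ↥K ≤ L := by
    intro j hj
    obtain ⟨l, hl, hlj⟩ := (hmain.trans (sup_le h3 h4)) (Subgroup.mem_map_of_mem _ hj)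
    have h6 : l⁻¹ * j ∈ (holPsi (omZ p ↥K)).ker := by
      rw [MonoidHom.mem_ker, map_mul, map_inv, hlj, inv_mul_cancel]
    have h7 : j = l * (l⁻¹ * j) := by group
    rw [h7]
    exact mul_mem hl ((hker.trans (le_sup_right.trans le_sup_left)) h6)
  have hfr := Sylow.normalizer_sup_eq_top
    (Cfsg.Agent.Lib.helper17.sylowInfNormal S (Cfsg.thompsonSubgroup p ↥K))
  rw [Cfsg.Agent.Lib.helper17.sylowInfNormal_map] at hfr
  have hJT : Cfsg.thompsonSubgroupOf p (S : Subgroup ↥K) ≤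
      (S : Subgroup ↥K) ⊓ Cfsg.thompsonSubgroup p ↥K :=
    le_inf (Cfsg.Agent.S0608.thompsonOf_le_sylow _)
      (thompsonSubgroupOf_le_of_exists (exists_maxElemAb_le_sylow S))
  have hN := Cfsg.Agent.S0608.normalizer_le_thompson S _ hJT inf_le_left
  rw [eq_top_iff, ← hfr]
  exact sup_le (hN.trans (le_sup_left.trans le_sup_left)) h5

end Cfsg.Agent.S0620
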