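import Mathlib
import Cfsg.Statements.S0621
import Cfsg.Agent.Lib.Helper5.FFOp3
import Cfsg.Agent.Lib.Helper5.HolPull
import Cfsg.Agent.S0620

set_option autoImplicit false
open Cfsg

namespace Cfsg.Agent.S0621

open Cfsg.Agent.Lib.Helper5

theorem result {G : Type*} [Group G] [Finite G] {p : ℕ} [Fact p.Prime] {q : ℕ} [Fact q.Prime] (K X : Subgroup G) (hXK : X ≤ Subgroup.normalizer (K : Set G)) (hX : Cfsg.IsElementaryAbelian q X) (hq : ¬ q ∣ Nat.card K) (hsep : Cfsg.IsPSolvable p ↥K) (hO : Cfsg.pPrimeCore p ↥K = ⊥) (hnf : ¬ Cfsg.IsThompsonFactorizable p ↥K) : (p = 2 ∨ p = 3) ∧ ∃ W D : Subgroup G, W ≤ K ⊓ Subgroup.centralizer (X : Set G) ∧ D ≤ K ⊓ Subgroup.centralizer (X : Set G) ∧ Cfsg.IsElementaryAbelian p W ∧ Nat.card W = p ^ 2 ∧ D ≤ Subgroup.normalizer (W : Set G) ∧ ∃ hn : ((Subgroup.centralizer (W : Set G)).subgroupOf D).Normal, Nonempty ((↥D ⧸ (Subgroup.centralizer (W : Set G)).subgroupOf D)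 ≃* Matrix.SpecialLinearGroup (Fin 2) (ZMod p)) := by
  haveI hJchar := (Cfsg.Agent.S0602.result (G := ↥K) (p := p)).1
  have hXJ : ((holXi (omZ p ↥K)).comp (Cfsg.Agent.S0593.conjAut K X hXK)).range ≤
      Subgroup.normalizer (((Cfsg.thompsonSubgroup p ↥K).map (holPsi (omZ p ↥K)) :
        Subgroup (HolG (omZ p ↥K))) : Set (HolG (omZ p ↥K))) := by
    rintro _ ⟨x, rfl⟩
    apply h5g_mem_normalizer_of_conj_le
    rintro _ ⟨j, hj, rfl⟩
    rw [MonoidHom.comp_apply, holXi_conj]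
    refine Subgroup.mem_map_of_mem _ ?_
    exact (Subgroup.characteristic_iff_le_comap.mp hJchar
      (Cfsg.Agent.S0593.conjAut K X hXK x)) hj
  have hXq : IsPGroup q ((holXi (omZ p ↥K)).comp (Cfsg.Agent.S0593.conjAut K X hXK)).range :=
    IsPGroup.of_surjective (elemAb_isPGroup hX) _
      ((holXi (omZ p ↥K)).comp (Cfsg.Agent.S0593.conjAut K X hXK)).rangeRestrict_surjective
  obtain ⟨hp23, W', hW1, hW2, hW3, hn', ⟨iso'⟩⟩ := thompson_plane hsep hO hq hnf _ hXJ hXq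
  refine ⟨hp23, ?_⟩
  have hc := h5_centralizer_pCore_le hsep hO
  obtain ⟨-, hVe, -⟩ := Cfsg.Agent.S0601.result hc
  have hinl_inj : Function.Injective
      (SemidirectProduct.inl : ↥(omZ p ↥K) →* HolG (omZ p ↥K)) :=
    SemidirectProduct.inl_injective
  have hW'V : W' ≤ holV (omZ p ↥K) := hW1.trans inf_le_left
  have hW₀map : (W'.comap (SemidirectProduct.inl : ↥(omZ p ↥K) →* HolG (omZ p ↥K))).map
      (SemidirectProduct.inl : ↥(omZ p ↥K) →* HolG (omZ p ↥K)) = W' :=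
    Subgroup.map_comap_eq_self hW'V
  have hW₀card : Nat.card (W'.comap
      (SemidirectProduct.inl : ↥(omZ p ↥K) →* HolG (omZ p ↥K))) = p ^ 2 := by
    rw [← hW2, ← Subgroup.card_map_of_injective hinl_inj, hW₀map]
  set R := (Cfsg.thompsonSubgroup p ↥K).map (holPsi (omZ p ↥K)) ⊓ Subgroup.centralizer
      ((((holXi (omZ p ↥K)).comp (Cfsg.Agent.S0593.conjAut K X hXK)).range :
        Subgroup (HolG (omZ p ↥K))) : Set (HolG (omZ p ↥K))) with hR
  have hRD₁ : R ≤ (R.comap (holPsi (omZ p ↥K)) ⊓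
      (Subgroup.centralizer (X : Set G)).subgroupOf K).map (holPsi (omZ p ↥K)) := by
    intro r hr
    obtain ⟨⟨j, hj, rfl⟩, hcr⟩ := Subgroup.mem_inf.mp hr
    have hc' := Subgroup.mem_centralizer_iff.mp hcr
    have hfix : ∀ x : ↥X, holPsi (omZ p ↥K) (Cfsg.Agent.S0593.conjAut K X hXK x j) =
        holPsi (omZ p ↥K) j := by
      intro x
      rw [← holXi_conj]
      have h5 := hc' ((holXi (omZ p ↥K)).comp (Cfsg.Agent.S0593.conjAut K X hXK) x) ⟨x, rfl⟩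
      rw [MonoidHom.comp_apply] at h5
      rw [h5]; group
    obtain ⟨l, hl, hlj⟩ := Cfsg.Agent.S0620.fixed_of_cent K X hXK hX hq j hfix
    refine ⟨l, Subgroup.mem_inf.mpr ⟨?_, hl⟩, hlj⟩
    rw [Subgroup.mem_comap, hlj]
    exact hr
  obtain ⟨hnorm, hn, hn'', ⟨e⟩⟩ := hol_pullback_plane K (omZ p ↥K) W' R hW'V hW3
    (R.comap (holPsi (omZ p ↥K)) ⊓ (Subgroup.centralizer (X : Set G)).subgroupOf K)
    inf_le_left hRD₁
  refine ⟨((W'.comap (SemidirectProduct.inl : ↥(omZ p ↥K) →* HolG (omZ p ↥K))).map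
      (omZ p ↥K).subtype).map K.subtype,
    (R.comap (holPsi (omZ p ↥K)) ⊓ (Subgroup.centralizer (X : Set G)).subgroupOf K).map
      K.subtype, ?_, ?_, ?_, ?_, hnorm, hn, ⟨e.trans iso'⟩⟩
  · rintro _ ⟨_, ⟨v, hv, rfl⟩, rfl⟩
    refine Subgroup.mem_inf.mpr ⟨((v : ↥(omZ p ↥K)) : ↥K).2, ?_⟩
    rw [Subgroup.mem_centralizer_iff]
    intro x hx
    have h1 : (SemidirectProduct.inl v : HolG (omZ p ↥K)) ∈ W' := hv
    have h2 := (Subgroup.mem_inf.mp (hW1 h1)).2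
    have h3 := Subgroup.mem_centralizer_iff.mp h2
      ((holXi (omZ p ↥K)).comp (Cfsg.Agent.S0593.conjAut K X hXK) ⟨x, hx⟩) ⟨⟨x, hx⟩, rfl⟩
    rw [MonoidHom.comp_apply] at h3
    have h4 := holXi_inl (omZ p ↥K) (Cfsg.Agent.S0593.conjAut K X hXK ⟨x, hx⟩) v
    rw [h3] at h4
    have h5 : (SemidirectProduct.inl v : HolG (omZ p ↥K)) = SemidirectProduct.inl
        (MulAut.characteristic (omZ p ↥K) (Cfsg.Agent.S0593.conjAut K X hXK ⟨x, hx⟩) v) := by
      rw [← h4]; group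
    have h6 := hinl_inj h5
    have h7 := congrArg (fun u : ↥(omZ p ↥K) => ((u : ↥K) : G)) h6
    have h8 : ((v : ↥K) : G) = x * ((v : ↥K) : G) * x⁻¹ := h7
    show x * ((v : ↥K) : G) = ((v : ↥K) : G) * x
    calc x * ((v : ↥K) : G) = (x * ((v : ↥K) : G) * x⁻¹) * x := by group
      _ = ((v : ↥K) : G) * x := by rw [← h8]
  · rintro _ ⟨d₁, hd₁, rfl⟩
    exact Subgroup.mem_inf.mpr ⟨d₁.2, Subgroup.mem_subgroupOf.mp hd₁.2⟩
  · exact elemAb_map K.subtype (elemAb_of_le (Subgroup.map_subtype_le _) hVe)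
  · rw [Subgroup.card_map_of_injective K.subtype_injective,
      Subgroup.card_map_of_injective (omZ p ↥K).subtype_injective, hW₀card]

end Cfsg.Agent.S0621
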