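import Mathlib
import Cfsg.Statements.S0624
import Cfsg.Agent.S0623
import Cfsg.Agent.S0607
import Cfsg.Agent.S0602
import Cfsg.Agent.Lib.Helper5.ElemAb
import Cfsg.Agent.Lib.Helper5.PConstr2
import Cfsg.Agent.Lib.Helper5.Glauberman
import Cfsg.Agent.Lib.Helper1.FrattiniFaithful
set_option autoImplicit false
open Cfsg
open scoped commutatorElement

namespace Cfsg.Agent.S0624

open Cfsg.Agent.Lib.Helper5

theorem sylow_le_normalizer_thompson {G : Type*} [Group G] [Finite G] {p : ℕ} [Fact p.Prime]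
    (S : Sylow p G) :
    (S : Subgroup G) ≤ Subgroup.normalizer (thompsonSubgroupOf p (S : Subgroup G) : Set G) := by
  have : (thompsonSubgroup p ↥(S : Subgroup G)).Characteristic := (Cfsg.Agent.S0602.result).1
  intro s hs
  apply h5g_mem_normalizer_of_conj_le
  rintro _ ⟨j, hj, rfl⟩
  have hn : (thompsonSubgroup p ↥(S : Subgroup G)).Normal := inferInstance
  exact ⟨⟨s, hs⟩ * j * ⟨s, hs⟩⁻¹, hn.conj_mem j hj ⟨s, hs⟩, rfl⟩

theorem stable_inclusion {G : Type*} [Group G] [Finite G] {p : ℕ} [Fact p.Prime]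
    (hst : Cfsg.IsActionPStable p G)
    (hc : Subgroup.centralizer (Cfsg.pCore p G : Set G) ≤ Cfsg.pCore p G) (S : Sylow p G) :
    IsStableEmbedding p (Subgroup.inclusion (sylow_le_normalizer_thompson S)) := by
  set Sg : Subgroup G := (S : Subgroup G) with hSg
  set N : Subgroup G := Subgroup.normalizer (thompsonSubgroupOf p Sg : Set G) with hN
  have hSN : Sg ≤ N := sylow_le_normalizer_thompson S
  refine ⟨Subgroup.inclusion_injective hSN, inferInstance, ⟨S.subtype hSN, ?_⟩, ?_, ?_, ?_⟩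
  · rw [Sylow.coe_subtype]
    ext x
    rw [Subgroup.mem_subgroupOf, MonoidHom.mem_range]
    constructor
    · intro hx
      exact ⟨⟨x.1, hx⟩, rfl⟩
    · rintro ⟨s, rfl⟩
      exact s.2
  · have hJp : IsPGroup p (thompsonSubgroupOf p Sg) := by
      apply S.isPGroup'.to_le
      unfold thompsonSubgroupOf
      exact Subgroup.map_subtype_le _
    exact h5_local_constrained hc (thompsonSubgroupOf p Sg) N hJp le_rfl
      (Subgroup.centralizer_le_normalizer _) (Or.inl Subgroup.le_normalizer)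
  · have heq : (thompsonSubgroup p ↥Sg).map (Subgroup.inclusion hSN) =
        (thompsonSubgroupOf p Sg).subgroupOf N := by
      ext x
      rw [Subgroup.mem_subgroupOf]
      unfold thompsonSubgroupOf
      constructor
      · rintro ⟨j, hj, rfl⟩
        exact ⟨j, hj, rfl⟩
      · rintro ⟨j, hj, hjx⟩
        exact ⟨j, hj, Subtype.ext hjx⟩
    rw [heq]
    exact Subgroup.normal_in_normalizer
  · intro V hVn hV
    apply hst.2.2 S V
    have := Subgroup.map_mono (f := N.subtype) hV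
    rwa [Subgroup.map_map, Subgroup.subtype_comp_inclusion] at this


theorem W_normalized {G : Type*} [Group G] [Finite G] {p : ℕ} [Fact p.Prime]
    (hst : Cfsg.IsActionPStable p G)
    (hc : Subgroup.centralizer (Cfsg.pCore p G : Set G) ≤ Cfsg.pCore p G) (S : Sylow p G)
    (n : G) (hn : n ∈ Subgroup.normalizer (thompsonSubgroupOf p (S : Subgroup G) : Set G))
    (w : G) (hw : w ∈ (stableNormalClosure p ↥(S : Subgroup G)).map (S : Subgroup G).subtype) :
    n * w * n⁻¹ ∈ (stableNormalClosure p ↥(S : Subgroup G)).map (S : Subgroup G).subtype := by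
  have hnorm := Cfsg.Agent.S0623.snc_map_normal p _ (stable_inclusion hst hc S)
  obtain ⟨s, hs, rfl⟩ := hw
  have h1 := hnorm.conj_mem _ (Subgroup.mem_map_of_mem _ hs) ⟨n, hn⟩
  obtain ⟨s', hs', hs'eq⟩ := h1
  refine ⟨s', hs', ?_⟩
  have := congrArg Subtype.val hs'eq
  simpa using this

theorem W_le_S {G : Type*} [Group G] {p : ℕ} (Sg : Subgroup G) :
    (stableNormalClosure p ↥Sg).map Sg.subtype ≤ Sg := Subgroup.map_subtype_le _

theorem omegaCenterThompson_elemAb {P : Type*} [Group P] (p : ℕ) :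
    IsElementaryAbelian p (omegaCenterThompson p P) := by
  unfold omegaCenterThompson omegaOne
  apply elemAb_closure
  · rintro x ⟨⟨hxJ, hxC⟩, _⟩ y ⟨⟨hyJ, hyC⟩, _⟩
    replace hxC : x ∈ Subgroup.centralizer (thompsonSubgroup p P : Set P) := hxC
    rw [Subgroup.mem_centralizer_iff] at hxC
    exact (hxC y hyJ).symm
  · rintro x ⟨_, hxp⟩
    exact hxp

theorem W_elemAb {G : Type*} [Group G] [Finite G] {p : ℕ} (Sg : Subgroup G) :
    IsElementaryAbelian p ((stableNormalClosure p ↥Sg).map Sg.subtype) :=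
  elemAb_map Sg.subtype (elemAb_of_le (Cfsg.Agent.S0623.snc_le p) (omegaCenterThompson_elemAb p))

theorem W_centralizes_max {G : Type*} [Group G] [Finite G] {p : ℕ} (Sg : Subgroup G)
    (A : Subgroup G) (hA : A ∈ maxElementaryAbelianSubgroups p G) (hAS : A ≤ Sg)
    (w : G) (hw : w ∈ (stableNormalClosure p ↥Sg).map Sg.subtype) (a : G) (ha : a ∈ A) :
    w * a = a * w := by
  obtain ⟨s, hs, rfl⟩ := hw
  have h1 : A.subgroupOf Sg ≤ thompsonSubgroup p ↥Sg :=
    maxElemAb_le_thompson (maxElemAb_subgroupOf hA hAS)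
  have h2 : (⟨a, hAS ha⟩ : ↥Sg) ∈ thompsonSubgroup p ↥Sg := h1 (by rw [Subgroup.mem_subgroupOf]; exact ha)
  have h3 : s ∈ omegaCenterThompson p ↥Sg := Cfsg.Agent.S0623.snc_le p hs
  have h4 := Cfsg.Agent.S0623.omegaOne_le p _ h3
  have h5 : s ∈ Subgroup.centralizer (thompsonSubgroup p ↥Sg : Set ↥Sg) := (Subgroup.mem_inf.mp h4).2
  rw [Subgroup.mem_centralizer_iff] at h5
  have h6 := h5 _ h2
  have h7 := congrArg Subtype.val h6
  simpa using h7.symm

theorem W_no_quadratic {G : Type*} [Group G] [Finite G] {p : ℕ} [Fact p.Prime] (S : Sylow p G)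
    (y : G) (hy : y ∈ (S : Subgroup G))
    (hq : ⁅⁅(stableNormalClosure p ↥(S : Subgroup G)).map (S : Subgroup G).subtype,
      Subgroup.zpowers y⁆, Subgroup.zpowers y⁆ = ⊥)
    (w : G) (hw : w ∈ (stableNormalClosure p ↥(S : Subgroup G)).map (S : Subgroup G).subtype) :
    y * w = w * y := by
  have h1 := Cfsg.Agent.S0623.quad_comap (S : Subgroup G).subtype (S : Subgroup G).subtype_injective
    (stableNormalClosure p ↥(S : Subgroup G)) ⟨y, hy⟩ hq
  have h2 := Cfsg.Agent.S0623.result S.isPGroup' ⟨y, hy⟩ h1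
  rw [Subgroup.commutator_eq_bot_iff_le_centralizer] at h2
  obtain ⟨s, hs, rfl⟩ := hw
  have h3 := h2 hs
  rw [Subgroup.mem_centralizer_iff] at h3
  have h4 := h3 ⟨y, hy⟩ (Subgroup.mem_zpowers _)
  have h5 := congrArg Subtype.val h4
  simpa using h5


theorem sectionKernel_le_pCore {G : Type*} [Group G] [Finite G] {p : ℕ} [Fact p.Prime]
    (hc : Subgroup.centralizer (Cfsg.pCore p G : Set G) ≤ Cfsg.pCore p G)
    [hF : ((frattini ↥(pCore p G)).map (pCore p G).subtype).Normal] :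
    sectionKernel (pCore p G) ((frattini ↥(pCore p G)).map (pCore p G).subtype) ≤ pCore p G := by
  intro g hg
  apply Cfsg.Agent.Lib.Helper1.mem_pCore_of_trivial_on_frattini_quotient (pCore p G)
    (Cfsg.Agent.Lib.Helper1.pCore_isPGroup p) hc g
  intro x hx
  unfold sectionKernel at hg
  rw [Subgroup.mem_comap, Subgroup.mem_centralizer_iff] at hg
  have h1 := hg (QuotientGroup.mk' _ x) (Subgroup.mem_map_of_mem _ hx)
  have h2 : (QuotientGroup.mk' ((frattini ↥(pCore p G)).map (pCore p G).subtype)) (g * x * g⁻¹ * x⁻¹) = 1 := by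
    rw [map_mul, map_mul, map_mul, ← h1, map_inv, map_inv]
    group
  rw [QuotientGroup.mk'_apply, QuotientGroup.eq_one_iff] at h2
  exact h2

theorem W_le_pCore {G : Type*} [Group G] [Finite G] {p : ℕ} [Fact p.Prime]
    (hst : Cfsg.IsActionPStable p G)
    (hc : Subgroup.centralizer (Cfsg.pCore p G : Set G) ≤ Cfsg.pCore p G) (S : Sylow p G) :
    (stableNormalClosure p ↥(S : Subgroup G)).map (S : Subgroup G).subtype ≤ pCore p G := by
  set W := (stableNormalClosure p ↥(S : Subgroup G)).map (S : Subgroup G).subtype with hW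
  have hQS : pCore p G ≤ (S : Subgroup G) := Cfsg.Agent.S0623.pCore_le_sylow' S
  have hWab := (W_elemAb (p := p) (S : Subgroup G)).1
  intro a ha
  have hquad : ⁅⁅pCore p G, Subgroup.zpowers a⁆, Subgroup.zpowers a⁆ ≤
      (frattini ↥(pCore p G)).map (pCore p G).subtype := by
    have : ⁅⁅pCore p G, Subgroup.zpowers a⁆, Subgroup.zpowers a⁆ = ⊥ := by
      rw [Subgroup.commutator_eq_bot_iff_le_centralizer, Subgroup.commutator_le]
      intro q hq t ht
      have htW : t ∈ W := (Subgroup.zpowers_le.mpr ha) ht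
      have h1 : q * t * q⁻¹ ∈ W :=
        W_normalized hst hc S q (sylow_le_normalizer_thompson S (hQS hq)) t htW
      have h2 : ⁅q, t⁆ ∈ W := by
        rw [commutatorElement_def]
        exact W.mul_mem h1 (W.inv_mem htW)
      rw [Subgroup.mem_centralizer_iff]
      intro u hu
      have huW : u ∈ W := (Subgroup.zpowers_le.mpr ha) hu
      exact setLike_mul_comm huW h2
    rw [this]
    exact bot_le
  obtain ⟨D, hDn, hKD, ⟨k, hk⟩, haD⟩ := hst.2.1 a hquad
  have hKQ := sectionKernel_le_pCore (p := p) (G := G) hc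
  have hQp : IsPGroup p (pCore p G) := Cfsg.Agent.Lib.Helper1.pCore_isPGroup p
  have hKp : IsPGroup p (sectionKernel (pCore p G) ((frattini ↥(pCore p G)).map (pCore p G).subtype)) :=
    hQp.to_le hKQ
  obtain ⟨j, hj⟩ := IsPGroup.iff_card.mp hKp
  have hcard := card_mul_relIndex_of_le hKD
  rw [hj, hk, ← pow_add] at hcard
  have hDp : IsPGroup p D := IsPGroup.of_card hcard.symm
  exact Cfsg.Agent.Lib.Helper1.le_pCore hDn hDp haD


theorem W_conj_comm {G : Type*} [Group G] [Finite G] {p : ℕ} [Fact p.Prime]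
    (hst : Cfsg.IsActionPStable p G)
    (hc : Subgroup.centralizer (Cfsg.pCore p G : Set G) ≤ Cfsg.pCore p G) (S : Sylow p G)
    (g : G) (w₁ w₂ : G)
    (hw₁ : w₁ ∈ (stableNormalClosure p ↥(S : Subgroup G)).map (S : Subgroup G).subtype)
    (hw₂ : w₂ ∈ (stableNormalClosure p ↥(S : Subgroup G)).map (S : Subgroup G).subtype) :
    (g * w₁ * g⁻¹) * w₂ = w₂ * (g * w₁ * g⁻¹) := by
  set W := (stableNormalClosure p ↥(S : Subgroup G)).map (S : Subgroup G).subtype with hW
  have hQS : pCore p G ≤ (S : Subgroup G) := Cfsg.Agent.S0623.pCore_le_sylow' S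
  have hWQ : W ≤ pCore p G := W_le_pCore hst hc S
  have hWab := (W_elemAb (p := p) (S : Subgroup G)).1
  have hQn : (pCore p G).Normal := inferInstance
  have hyQ : g * w₁ * g⁻¹ ∈ pCore p G := hQn.conj_mem _ (hWQ hw₁) g
  have hWnorm : ∀ q ∈ pCore p G, ∀ w ∈ W, q * w * q⁻¹ ∈ W := fun q hq w hw =>
    W_normalized hst hc S q (sylow_le_normalizer_thompson S (hQS hq)) w hw
  apply W_no_quadratic S (g * w₁ * g⁻¹) (hQS hyQ) _ w₂ hw₂
  rw [Cfsg.Agent.S0623.quad_iff]
  intro v hv i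
  have hpow : (g * w₁ * g⁻¹) ^ i = g * w₁ ^ i * g⁻¹ := conj_zpow
  have hvq : g⁻¹ * v * g ∈ pCore p G := by
    have := hQn.conj_mem _ (hWQ hv) g⁻¹
    simpa using this
  have h1 : (g⁻¹ * v * g) * w₁ ^ i * (g⁻¹ * v * g)⁻¹ ∈ W :=
    hWnorm _ hvq _ (W.zpow_mem hw₁ i)
  have h2 : ⁅v, (g * w₁ * g⁻¹) ^ i⁆ =
      g * (((g⁻¹ * v * g) * w₁ ^ i * (g⁻¹ * v * g)⁻¹) * (w₁ ^ i)⁻¹) * g⁻¹ := by
    rw [hpow, commutatorElement_def]
    group
  rw [h2]
  have h3 : ((g⁻¹ * v * g) * w₁ ^ i * (g⁻¹ * v * g)⁻¹) * (w₁ ^ i)⁻¹ ∈ W :=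
    W.mul_mem h1 (W.inv_mem (W.zpow_mem hw₁ i))
  have h4 : Commute (((g⁻¹ * v * g) * w₁ ^ i * (g⁻¹ * v * g)⁻¹) * (w₁ ^ i)⁻¹) w₁ :=
    setLike_mul_comm h3 hw₁
  show g * _ * g⁻¹ * (g * w₁ * g⁻¹) = g * w₁ * g⁻¹ * (g * _ * g⁻¹)
  have h5 := h4.eq
  calc g * (((g⁻¹ * v * g) * w₁ ^ i * (g⁻¹ * v * g)⁻¹) * (w₁ ^ i)⁻¹) * g⁻¹ * (g * w₁ * g⁻¹)
      = g * ((((g⁻¹ * v * g) * w₁ ^ i * (g⁻¹ * v * g)⁻¹) * (w₁ ^ i)⁻¹) * w₁) * g⁻¹ := by group
    _ = g * (w₁ * (((g⁻¹ * v * g) * w₁ ^ i * (g⁻¹ * v * g)⁻¹) * (w₁ ^ i)⁻¹)) * g⁻¹ := by rw [h5]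
    _ = g * w₁ * g⁻¹ * (g * (((g⁻¹ * v * g) * w₁ ^ i * (g⁻¹ * v * g)⁻¹) * (w₁ ^ i)⁻¹) * g⁻¹) := by group


theorem V_elemAb {G : Type*} [Group G] [Finite G] {p : ℕ} [Fact p.Prime]
    (hst : Cfsg.IsActionPStable p G)
    (hc : Subgroup.centralizer (Cfsg.pCore p G : Set G) ≤ Cfsg.pCore p G) (S : Sylow p G) :
    IsElementaryAbelian p (Subgroup.normalClosure
      (((stableNormalClosure p ↥(S : Subgroup G)).map (S : Subgroup G).subtype : Subgroup G) : Set G)) := by
  set W := (stableNormalClosure p ↥(S : Subgroup G)).map (S : Subgroup G).subtype with hW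
  unfold Subgroup.normalClosure
  apply elemAb_closure
  · intro x hx y hy
    rw [Group.mem_conjugatesOfSet_iff] at hx hy
    obtain ⟨w, hw, hwx⟩ := hx
    obtain ⟨u, hu, huy⟩ := hy
    rw [isConj_iff] at hwx huy
    obtain ⟨c, rfl⟩ := hwx
    obtain ⟨d, rfl⟩ := huy
    have h1 := W_conj_comm hst hc S (d⁻¹ * c) w u hw hu
    calc c * w * c⁻¹ * (d * u * d⁻¹) = d * ((d⁻¹ * c) * w * (d⁻¹ * c)⁻¹ * u) * d⁻¹ := by group
      _ = d * (u * ((d⁻¹ * c) * w * (d⁻¹ * c)⁻¹)) * d⁻¹ := by rw [h1]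
      _ = d * u * d⁻¹ * (c * w * c⁻¹) := by group
  · intro x hx
    rw [Group.mem_conjugatesOfSet_iff] at hx
    obtain ⟨w, hw, hwx⟩ := hx
    rw [isConj_iff] at hwx
    obtain ⟨c, rfl⟩ := hwx
    have h1 := (W_elemAb (p := p) (S : Subgroup G)).2 w hw
    rw [conj_pow, h1]
    group


theorem exists_conj_le_sylow {G : Type*} [Group G] [Finite G] {p : ℕ} [Fact p.Prime] (S : Sylow p G)
    (C : Subgroup G) [C.Normal] (B : Subgroup G) (hB : IsPGroup p B)
    (hBD : ∀ b ∈ B, (QuotientGroup.mk b : G ⧸ C) ∈ pCore p (G ⧸ C)) :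
    ∃ c ∈ C, ∀ b ∈ B, c * b * c⁻¹ ∈ (S : Subgroup G) := by
  set K : Subgroup G := (S : Subgroup G) ⊔ C with hK
  have hSK : (S : Subgroup G) ≤ K := le_sup_left
  have hCK : C ≤ K := le_sup_right
  have hBK : B ≤ K := by
    intro b hb
    obtain ⟨s, hs, c, hc, rfl⟩ := Cfsg.Agent.S0623.exists_mul_of_mem_pCore S C b (hBD b hb)
    exact K.mul_mem (hSK hs) (hCK hc)
  have hBKp : IsPGroup p (B.subgroupOf K) := hB.comap_subtype
  obtain ⟨P', hP'⟩ := hBKp.exists_le_sylow
  obtain ⟨k, hk⟩ := MulAction.exists_smul_eq ↥K P' (S.subtype hSK)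
  have hkmem : (k : G) ∈ ((S : Subgroup G) ⊔ C : Subgroup G) := k.2
  rw [← SetLike.mem_coe, Subgroup.mul_normal, Set.mem_mul] at hkmem
  obtain ⟨s, hs, c, hc, hsc⟩ := hkmem
  refine ⟨c, hc, ?_⟩
  intro b hb
  have h1 : (⟨b, hBK hb⟩ : ↥K) ∈ (P' : Subgroup ↥K) := hP' (by rw [Subgroup.mem_subgroupOf]; exact hb)
  have h2 : k * ⟨b, hBK hb⟩ * k⁻¹ ∈ ((k • P' : Sylow p ↥K) : Subgroup ↥K) := by
    rw [Sylow.coe_subgroup_smul, Subgroup.mem_pointwise_smul_iff_inv_smul_mem]
    have h0 : (MulAut.conj k)⁻¹ • (k * ⟨b, hBK hb⟩ * k⁻¹) = (⟨b, hBK hb⟩ : ↥K) := by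
      simp [MulAut.smul_def, mul_assoc]
    rw [h0]
    exact h1
  rw [hk, Sylow.coe_subtype, Subgroup.mem_subgroupOf] at h2
  have h3 : (k : G) * b * (k : G)⁻¹ ∈ (S : Subgroup G) := by simpa using h2
  rw [← hsc] at h3
  have h4 : s⁻¹ * (s * c * b * (s * c)⁻¹) * s⁻¹⁻¹ ∈ (S : Subgroup G) :=
    (S : Subgroup G).mul_mem ((S : Subgroup G).mul_mem ((S : Subgroup G).inv_mem hs) h3)
      ((S : Subgroup G).inv_mem ((S : Subgroup G).inv_mem hs))
  convert h4 using 1
  group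


theorem max_centralizes_V {G : Type*} [Group G] [Finite G] {p : ℕ} [Fact p.Prime]
    (hst : Cfsg.IsActionPStable p G)
    (hc : Subgroup.centralizer (Cfsg.pCore p G : Set G) ≤ Cfsg.pCore p G) (S : Sylow p G)
    (A : Subgroup G) (hA : A ∈ maxElementaryAbelianSubgroups p G) :
    ⁅Subgroup.normalClosure
      (((stableNormalClosure p ↥(S : Subgroup G)).map (S : Subgroup G).subtype : Subgroup G) : Set G), A⁆ = ⊥ := by
  set W := (stableNormalClosure p ↥(S : Subgroup G)).map (S : Subgroup G).subtype with hW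
  set V := Subgroup.normalClosure (W : Set G) with hVdef
  have hV : IsElementaryAbelian p V := V_elemAb hst hc S
  have hVn : V.Normal := Subgroup.normalClosure_normal
  have hWV : W ≤ V := Subgroup.le_normalClosure
  by_contra hne
  obtain ⟨hA₀, hq, hnt⟩ := Cfsg.Agent.S0607.result V hV A hA
  have hnt' := hnt hne
  set A₀ := ⁅V, A⁆ ⊔ (A ⊓ Subgroup.centralizer ((⁅V, A⁆ : Subgroup G) : Set G)) with hA₀def
  apply hnt'
  have hstV : IsPStableOn p V := hst.1 V hV
  have hmem : ∀ a ∈ A₀, (QuotientGroup.mk a : G ⧸ Subgroup.centralizer (V : Set G)) ∈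
      pCore p (G ⧸ Subgroup.centralizer (V : Set G)) := by
    intro a ha
    apply hstV a
    rw [eq_bot_iff, ← hq]
    have hz : Subgroup.zpowers a ≤ A₀ := Subgroup.zpowers_le.mpr ha
    exact Subgroup.commutator_mono (Subgroup.commutator_mono le_rfl hz) hz
  rw [Subgroup.commutator_eq_bot_iff_le_centralizer]
  rw [hVdef]
  unfold Subgroup.normalClosure
  rw [Subgroup.closure_le]
  intro x hx
  rw [Group.mem_conjugatesOfSet_iff] at hx
  obtain ⟨w, hw, hwx⟩ := hx
  rw [isConj_iff] at hwx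
  obtain ⟨g, rfl⟩ := hwx
  rw [SetLike.mem_coe, Subgroup.mem_centralizer_iff]
  intro a ha
  have hB : IsPGroup p (A₀.map (MulAut.conj g⁻¹).toMonoidHom) :=
    elemAb_isPGroup (maxElemAb_map_equiv (MulAut.conj g⁻¹) hA₀).1
  have hBD : ∀ b ∈ A₀.map (MulAut.conj g⁻¹).toMonoidHom,
      (QuotientGroup.mk b : G ⧸ Subgroup.centralizer (V : Set G)) ∈
        pCore p (G ⧸ Subgroup.centralizer (V : Set G)) := by
    rintro _ ⟨a', ha', rfl⟩
    have h1 := hmem a' ha'
    have hn : (pCore p (G ⧸ Subgroup.centralizer (V : Set G))).Normal := inferInstance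
    have h2 := hn.conj_mem _ h1 (QuotientGroup.mk g⁻¹)
    simpa using h2
  obtain ⟨c, hcC, hcS⟩ := exists_conj_le_sylow S (Subgroup.centralizer (V : Set G)) _ hB hBD
  have hA₁ := maxElemAb_map_equiv (MulAut.conj (c * g⁻¹)) hA₀
  have hA₁S : A₀.map (MulAut.conj (c * g⁻¹)).toMonoidHom ≤ (S : Subgroup G) := by
    rintro _ ⟨a', ha', rfl⟩
    have h1 := hcS (g⁻¹ * a' * g) ⟨a', ha', by simp⟩
    have h2 : (MulAut.conj (c * g⁻¹)).toMonoidHom a' = c * (g⁻¹ * a' * g) * c⁻¹ := by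
      rw [MulEquiv.coe_toMonoidHom, MulAut.conj_apply]; group
    rw [h2]
    exact h1
  have key := W_centralizes_max (S : Subgroup G) _ hA₁ hA₁S w hw
    ((MulAut.conj (c * g⁻¹)).toMonoidHom a) ⟨a, ha, rfl⟩
  have h2 : (MulAut.conj (c * g⁻¹)).toMonoidHom a = c * g⁻¹ * a * (c * g⁻¹)⁻¹ := by
    rw [MulEquiv.coe_toMonoidHom, MulAut.conj_apply]
  rw [h2] at key
  have hwc : w * c = c * w := by
    rw [Subgroup.mem_centralizer_iff] at hcC
    exact hcC w (hWV hw)
  have hcw : c⁻¹ * w * c = w := by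
    rw [mul_assoc, hwc]; group
  calc a * (g * w * g⁻¹) = a * (g * (c⁻¹ * w * c) * g⁻¹) := by rw [hcw]
    _ = (c * g⁻¹)⁻¹ * ((c * g⁻¹ * a * (c * g⁻¹)⁻¹) * w) * (c * g⁻¹) := by group
    _ = (c * g⁻¹)⁻¹ * (w * (c * g⁻¹ * a * (c * g⁻¹)⁻¹)) * (c * g⁻¹) := by rw [key]
    _ = (g * (c⁻¹ * w * c) * g⁻¹) * a := by group
    _ = g * w * g⁻¹ * a := by rw [hcw]


theorem result {G : Type*} [Group G] [Finite G] {p : ℕ} [Fact p.Prime] (hst : Cfsg.IsActionPStable p G) (hc : Subgroup.centralizer (Cfsg.pCore p G : Set G) ≤ Cfsg.pCore p G) (S : Sylow p G) : (((Cfsg.stableNormalClosure p ↥(S : Subgroup G)).map (S : Subgroup G).subtype)).Normal := by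
  set W := (stableNormalClosure p ↥(S : Subgroup G)).map (S : Subgroup G).subtype with hW
  set V := Subgroup.normalClosure (W : Set G) with hVdef
  have hVn : V.Normal := Subgroup.normalClosure_normal
  have hWV : W ≤ V := Subgroup.le_normalClosure
  have hCn : (Subgroup.centralizer (V : Set G)).Normal := Subgroup.normal_centralizer
  have hmaxC : ∀ A : Subgroup ↥(S : Subgroup G), A ∈ maxElementaryAbelianSubgroups p ↥(S : Subgroup G) →
      A.map (S : Subgroup G).subtype ≤ Subgroup.centralizer (V : Set G) := by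
    intro A hA
    have hA' := maxElemAb_map_subtype hA (exists_maxElemAb_le_sylow S)
    have h1 := max_centralizes_V hst hc S _ hA'
    rw [Subgroup.commutator_eq_bot_iff_le_centralizer] at h1
    exact Subgroup.le_centralizer_iff.mp h1
  have hJC : thompsonSubgroupOf p (S : Subgroup G) ≤ Subgroup.centralizer (V : Set G) := by
    unfold thompsonSubgroupOf thompsonSubgroup
    rw [Subgroup.map_le_iff_le_comap]
    apply sSup_le
    intro A hA
    rw [← Subgroup.map_le_iff_le_comap]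
    exact hmaxC A hA
  have hJS : thompsonSubgroupOf p (S : Subgroup G) ≤ (S : Subgroup G) := by
    unfold thompsonSubgroupOf
    exact Subgroup.map_subtype_le _
  refine ⟨fun w hw g => ?_⟩
  have hB : IsPGroup p ((thompsonSubgroupOf p (S : Subgroup G)).map (MulAut.conj g⁻¹).toMonoidHom) := by
    apply IsPGroup.map
    exact S.isPGroup'.to_le hJS
  have hBD : ∀ b ∈ (thompsonSubgroupOf p (S : Subgroup G)).map (MulAut.conj g⁻¹).toMonoidHom,
      (QuotientGroup.mk b : G ⧸ Subgroup.centralizer (V : Set G)) ∈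
        pCore p (G ⧸ Subgroup.centralizer (V : Set G)) := by
    rintro _ ⟨j, hj, rfl⟩
    have h1 : (MulAut.conj g⁻¹).toMonoidHom j ∈ Subgroup.centralizer (V : Set G) := by
      rw [MulEquiv.coe_toMonoidHom, MulAut.conj_apply]
      exact hCn.conj_mem _ (hJC hj) g⁻¹
    rw [(QuotientGroup.eq_one_iff _).mpr h1]
    exact Subgroup.one_mem _
  obtain ⟨c, hcC, hcS⟩ := exists_conj_le_sylow S (Subgroup.centralizer (V : Set G)) _ hB hBD
  have hxS : ∀ j ∈ thompsonSubgroupOf p (S : Subgroup G), (c * g⁻¹) * j * (c * g⁻¹)⁻¹ ∈ (S : Subgroup G) := by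
    intro j hj
    have h1 := hcS (g⁻¹ * j * g) ⟨j, hj, by simp⟩
    have h2 : (c * g⁻¹) * j * (c * g⁻¹)⁻¹ = c * (g⁻¹ * j * g) * c⁻¹ := by group
    rw [h2]
    exact h1
  have hxN : c * g⁻¹ ∈ Subgroup.normalizer (thompsonSubgroupOf p (S : Subgroup G) : Set G) := by
    apply h5g_mem_normalizer_of_conj_le
    have hle : thompsonSubgroupOf p (S : Subgroup G) ≤
        (thompsonSubgroupOf p (S : Subgroup G)).comap (MulAut.conj (c * g⁻¹)).toMonoidHom := by
      conv_lhs => unfold thompsonSubgroupOf thompsonSubgroup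
      rw [Subgroup.map_le_iff_le_comap]
      apply sSup_le
      intro A hA
      rw [← Subgroup.map_le_iff_le_comap, ← Subgroup.map_le_iff_le_comap]
      have hA' := maxElemAb_map_subtype hA (exists_maxElemAb_le_sylow S)
      have hA'J : A.map (S : Subgroup G).subtype ≤ thompsonSubgroupOf p (S : Subgroup G) :=
        maxElemAb_le_thompsonSubgroupOf hA' (Subgroup.map_subtype_le _)
      have hA'' := maxElemAb_map_equiv (MulAut.conj (c * g⁻¹)) hA'
      apply maxElemAb_le_thompsonSubgroupOf hA''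
      rintro _ ⟨a, ha, rfl⟩
      rw [MulEquiv.coe_toMonoidHom, MulAut.conj_apply]
      exact hxS a (hA'J ha)
    intro j hj
    have := hle hj
    rw [Subgroup.mem_comap, MulEquiv.coe_toMonoidHom, MulAut.conj_apply] at this
    exact this
  have hxinvN : (c * g⁻¹)⁻¹ ∈ Subgroup.normalizer (thompsonSubgroupOf p (S : Subgroup G) : Set G) :=
    Subgroup.inv_mem _ hxN
  have h1 := W_normalized hst hc S _ hxinvN w hw
  have hwc : w * c = c * w := by
    rw [Subgroup.mem_centralizer_iff] at hcC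
    exact hcC w (hWV hw)
  have hcw : c * w * c⁻¹ = w := by
    rw [← hwc]; group
  have h2 : g * w * g⁻¹ = (c * g⁻¹)⁻¹ * (c * w * c⁻¹) * (c * g⁻¹)⁻¹⁻¹ := by group
  rw [h2, hcw]
  exact h1

end Cfsg.Agent.S0624
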