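import Mathlib
import Cfsg.Statements.S0625
import Cfsg.Agent.Lib.Helper5.QuadSep

set_option autoImplicit false
open Cfsg

namespace Cfsg.Agent.S0625

open Cfsg.Agent.Lib.Helper5

theorem result {G : Type*} [Group G] [Finite G] {p : ℕ} [Fact p.Prime] (hp : 5 ≤ p) (hsep : Cfsg.IsPSolvable p G) : Cfsg.IsActionPStable p G := by
  apply actionPStable_of
  · intro C _
    exact absPStable_of_psolvable hp _
      (h5_isPSolvable_of_surjective (QuotientGroup.mk' C) (QuotientGroup.mk'_surjective C) hsep)
  · intro M C _
    exact absPStable_of_psolvable hp _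
      (h5_isPSolvable_of_surjective (QuotientGroup.mk' C) (QuotientGroup.mk'_surjective C)
        (Cfsg.Agent.S1902.isPSolvable_subgroup hsep M))

end Cfsg.Agent.S0625
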