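import Mathlib
import Cfsg.Statements.S0626
import Cfsg.Agent.Lib.Helper5.PStableAct

set_option autoImplicit false
open Cfsg

namespace Cfsg.Agent.S0626

open Cfsg.Agent.Lib.Helper5

theorem result {G : Type*} [Group G] [Finite G] {p : ℕ} [Fact p.Prime] (hp : p ≠ 2) (hab : ∀ T : Sylow 2 G, IsMulCommutative T) : Cfsg.IsActionPStable p G := by
  apply actionPStable_of
  · intro C _
    exact absPStable_of_sylow_two_comm hp _
      (syl2comm_of_surjective (QuotientGroup.mk' C) (QuotientGroup.mk'_surjective C) hab)
  · intro M C _
    exact absPStable_of_sylow_two_comm hp _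
      (syl2comm_of_surjective (QuotientGroup.mk' C) (QuotientGroup.mk'_surjective C)
        (syl2comm_subgroup M hab))

end Cfsg.Agent.S0626
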