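import Mathlib
import Cfsg.Statements.S0627
import Cfsg.Agent.S0622
import Cfsg.Agent.S0624
import Cfsg.Agent.S0625
import Cfsg.Agent.Lib.Helper5.PConstr

set_option autoImplicit false
open Cfsg

namespace Cfsg.Agent.S0627

open Cfsg.Agent.Lib.Helper5

theorem sup_normalizer_eq_top_of_map_normal {G : Type*} [Group G] [Finite G] {p : ℕ}
    [Fact p.Prime] (N : Subgroup G) [N.Normal] (hN : (Nat.card N).Coprime p) (W : Subgroup G)
    (hW : IsPGroup p W) (hWn : (W.map (QuotientGroup.mk' N)).Normal) :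
    N ⊔ Subgroup.normalizer (W : Set G) = ⊤ := by
  have hpp : p.Prime := Fact.out
  have hcomap : (W.map (QuotientGroup.mk' N)).comap (QuotientGroup.mk' N) = W ⊔ N := by
    rw [Subgroup.comap_map_eq, QuotientGroup.ker_mk']
  haveI hWNn : (W ⊔ N).Normal := by
    rw [← hcomap]
    infer_instance
  have hWle : W ≤ W ⊔ N := le_sup_left
  have hidx : ¬ p ∣ (W.subgroupOf (W ⊔ N)).index := by
    intro hdvd
    have h1 : (W.subgroupOf (W ⊔ N)).index = W.relIndex (W ⊔ N) := rfl
    rw [h1] at hdvd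
    have h2 : Nat.card W * W.relIndex (W ⊔ N) = Nat.card ↥(W ⊔ N) := card_mul_relIndex_of_le hWle
    have h3 : Nat.card ↥(W ⊔ N) = Nat.card N * N.relIndex (W ⊔ N) :=
      (card_mul_relIndex_of_le le_sup_right).symm
    rw [Subgroup.relIndex_sup_right] at h3
    have h4 : N.relIndex W ∣ Nat.card W := Subgroup.relIndex_dvd_card _ _
    obtain ⟨c, hc⟩ := h4
    have h5 : W.relIndex (W ⊔ N) * N.relIndex W * c = Nat.card N * N.relIndex W := by
      have : Nat.card W * W.relIndex (W ⊔ N) = Nat.card N * N.relIndex W := by rw [h2, h3]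
      rw [hc] at this
      nlinarith [this]
    have hpos : 0 < N.relIndex W := by
      rcases Nat.eq_zero_or_pos (N.relIndex W) with h0 | h0
      · rw [h0, zero_mul] at hc
        exact absurd hc Nat.card_pos.ne'
      · exact h0
    have h6 : W.relIndex (W ⊔ N) * c = Nat.card N := by
      have : (W.relIndex (W ⊔ N) * c) * N.relIndex W = Nat.card N * N.relIndex W := by
        rw [← h5]; ring
      exact Nat.eq_of_mul_eq_mul_right hpos this
    have h7 : p ∣ Nat.card N := by
      rw [← h6]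
      exact Dvd.dvd.mul_right hdvd c
    have := Nat.Coprime.eq_one_of_dvd hN.symm h7
    exact hpp.one_lt.ne' this
  have hWp : IsPGroup p (W.subgroupOf (W ⊔ N)) := hW.comap_subtype
  have hfr := Sylow.normalizer_sup_eq_top (hWp.toSylow hidx)
  have hmap : ((hWp.toSylow hidx : Sylow p ↥(W ⊔ N)) : Subgroup ↥(W ⊔ N)).map (W ⊔ N).subtype = W := by
    rw [IsPGroup.toSylow_coe]
    exact Subgroup.map_subgroupOf_eq_of_le hWle
  rw [hmap] at hfr
  rw [eq_top_iff, ← hfr]
  apply sup_le
  · exact le_sup_right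
  · apply sup_le
    · exact le_trans Subgroup.le_normalizer le_sup_right
    · exact le_sup_left

theorem result {G : Type*} [Group G] [Finite G] {p : ℕ} [Fact p.Prime] (hp : 5 ≤ p) (hsep : Cfsg.IsPSolvable p G) (S : Sylow p G) : Cfsg.pPrimeCore p G ⊔ Subgroup.normalizer (((Cfsg.stableNormalClosure p ↥(S : Subgroup G)).map (S : Subgroup G).subtype) : Set G) = ⊤ := by
  have hpp : p.Prime := Fact.out
  have hsurj := QuotientGroup.mk'_surjective (Cfsg.pPrimeCore p G)
  have hNcop : (Nat.card (Cfsg.pPrimeCore p G)).Coprime p :=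
    Cfsg.Agent.Lib.Helper1.pPrimeCore_card_coprime p
  have hsepq : Cfsg.IsPSolvable p (G ⧸ Cfsg.pPrimeCore p G) :=
    h5_isPSolvable_of_surjective _ hsurj hsep
  have hOq : Cfsg.pPrimeCore p (G ⧸ Cfsg.pPrimeCore p G) = ⊥ :=
    Cfsg.Agent.Lib.Helper1.pPrimeCore_quotient_eq_bot p
  have hc := h5_centralizer_pCore_le hsepq hOq
  have hst := Cfsg.Agent.S0625.result hp hsepq
  have hWn := Cfsg.Agent.S0624.result hst hc (S.mapSurjective hsurj)
  have hWp : IsPGroup p ((Cfsg.stableNormalClosure p ↥(S : Subgroup G)).map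
      (S : Subgroup G).subtype) := (S.isPGroup'.to_subgroup _).map _
  apply sup_normalizer_eq_top_of_map_normal _ hNcop _ hWp
  have hinj : Function.Injective ((QuotientGroup.mk' (Cfsg.pPrimeCore p G)).comp
      (S : Subgroup G).subtype) := by
    rw [injective_iff_map_eq_one]
    intro s hs
    have h1 : (s : G) ∈ Cfsg.pPrimeCore p G := (QuotientGroup.eq_one_iff _).mp hs
    have h2 : (s : G) = 1 :=
      h5_eq_one_of_mem_pgroup_of_mem_coprime S.isPGroup' hNcop s.2 h1
    exact Subtype.ext h2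
  have hrange : ((QuotientGroup.mk' (Cfsg.pPrimeCore p G)).comp (S : Subgroup G).subtype).range =
      ((S.mapSurjective hsurj : Sylow p (G ⧸ Cfsg.pPrimeCore p G)) :
        Subgroup (G ⧸ Cfsg.pPrimeCore p G)) := by
    rw [Sylow.coe_mapSurjective, MonoidHom.range_comp, Subgroup.range_subtype]
  have hfun := (Cfsg.Agent.S0622.result (S := ↥(S : Subgroup G)) S.isPGroup').2.2.2.2 _
    ((MonoidHom.ofInjective hinj).trans (MulEquiv.subgroupCongr hrange))
  have heq : ((Cfsg.stableNormalClosure p ↥(S : Subgroup G)).map (S : Subgroup G).subtype).map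
      (QuotientGroup.mk' (Cfsg.pPrimeCore p G)) =
      (Cfsg.stableNormalClosure p ↥((S.mapSurjective hsurj : Sylow p (G ⧸ Cfsg.pPrimeCore p G)) :
        Subgroup (G ⧸ Cfsg.pPrimeCore p G))).map
        ((S.mapSurjective hsurj : Sylow p (G ⧸ Cfsg.pPrimeCore p G)) :
        Subgroup (G ⧸ Cfsg.pPrimeCore p G)).subtype := by
    rw [← hfun, Subgroup.map_map, Subgroup.map_map]
    rfl
  rw [heq]
  exact hWn

end Cfsg.Agent.S0627
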