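import Mathlib
import Cfsg.Statements.S0628
import Cfsg.Agent.S0622
import Cfsg.Agent.S0624
import Cfsg.Agent.S0626
import Cfsg.Agent.S2005
import Cfsg.Agent.Lib.Helper5.CoatomSylow

set_option autoImplicit false
open Cfsg

namespace Cfsg.Agent.S0628

open Cfsg.Agent.Lib.Helper5

theorem result {G : Type*} [Group G] [Finite G] {p : ℕ} [Fact p.Prime] (hp : p ≠ 2) (S : Sylow p G) (hN : Cfsg.HasNormalPComplement p ↥(Subgroup.normalizer (((Cfsg.stableNormalClosure p ↥(S : Subgroup G)).map (S : Subgroup G).subtype) : Set G))) : Cfsg.HasNormalPComplement p G := by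
  apply Cfsg.Agent.S2005.result (fun Q _ => Cfsg.stableNormalClosure p Q) ?_ S hN ?_
  · refine ⟨?_, ?_⟩
    · intro Q _ _ hQ hnt
      exact (Cfsg.Agent.S0622.result hQ).2.2.2.1 hnt
    · intro Q R _ _ _ hQ φ
      exact (Cfsg.Agent.S0622.result hQ).2.2.2.2 R φ
  · intro K R hR hc hnpc T hT
    have hab := sylow_two_comm_of_coatom hp T hT hnpc
    have hst := Cfsg.Agent.S0626.result hp hab
    exact Cfsg.Agent.S0624.result hst hc T

end Cfsg.Agent.S0628
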