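import Mathlib
import Cfsg.Statements.S0661
import Cfsg.Agent.S0028
import Cfsg.Agent.Lib.Lead.Coprime
import Cfsg.Agent.Lib.Helper1.Fitting

set_option autoImplicit false
open Cfsg

namespace Cfsg.Agent.S0661

open scoped commutatorElement

theorem coprime_pgroup {G : Type*} [Group G] [Finite G] {p : ℕ} [Fact p.Prime] {A D : Subgroup G}
    (hA : IsPGroup p A) (hD : (Nat.card D).Coprime p) : (Nat.card A).Coprime (Nat.card D) := by
  obtain ⟨n, hn⟩ := hA.exists_card_eq
  rw [hn]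
  exact (Nat.Coprime.pow_left n hD.symm)

theorem eq_one_of_mem_pgroup_of_mem_coprime {G : Type*} [Group G] [Finite G] {p : ℕ} [Fact p.Prime]
    {A D : Subgroup G} (hA : IsPGroup p A) (hD : (Nat.card D).Coprime p) {g : G}
    (h1 : g ∈ A) (h2 : g ∈ D) : g = 1 :=
  Cfsg.Agent.Lib.Lead.inf_eq_bot_of_coprime' A D (coprime_pgroup hA hD) h1 h2

theorem result {G : Type*} [Group G] [Finite G] {p : ℕ} [Fact p.Prime] (hc : Subgroup.centralizer (Cfsg.pCore p (G ⧸ Cfsg.pPrimeCore p G) : Set (G ⧸ Cfsg.pPrimeCore p G)) ≤ Cfsg.pCore p (G ⧸ Cfsg.pPrimeCore p G)) (P : Subgroup G) (hP : IsPGroup p P) : (Cfsg.pPrimeCore p ↥(Subgroup.normalizer (P : Set G))).map (Subgroup.normalizer (P : Set G)).subtype = Cfsg.pPrimeCore p G ⊓ Subgroup.normalizer (P : Set G) := by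
  set N : Subgroup G := Cfsg.pPrimeCore p G with hN
  set M : Subgroup G := Subgroup.normalizer (P : Set G) with hM
  set X : Subgroup G := (Cfsg.pPrimeCore p ↥M).map M.subtype with hX
  set Qb : Subgroup (G ⧸ N) := Cfsg.pCore p (G ⧸ N) with hQb
  have hNcop : (Nat.card N).Coprime p := Cfsg.Agent.Lib.Helper1.pPrimeCore_card_coprime p
  have hQp : IsPGroup p Qb := Cfsg.Agent.Lib.Helper1.pCore_isPGroup p
  have hXcop : (Nat.card X).Coprime p := by
    rw [hX, Subgroup.card_map_of_injective M.subtype_injective]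
    exact Cfsg.Agent.Lib.Helper1.pPrimeCore_card_coprime p
  have hXM : X ≤ M := by
    rw [hX]; rintro _ ⟨x, _, rfl⟩; exact x.2
  have hPM : P ≤ M := Subgroup.le_normalizer
  have hXnorm : ∀ m ∈ M, ∀ x ∈ X, m * x * m⁻¹ ∈ X := by
    rintro m hm _ ⟨x, hx, rfl⟩
    have h1 : (⟨m, hm⟩ : M) * x * (⟨m, hm⟩ : M)⁻¹ ∈ Cfsg.pPrimeCore p ↥M :=
      (Cfsg.pPrimeCore_normal p ↥M).conj_mem x hx _
    exact ⟨_, h1, rfl⟩
  have hPnorm : ∀ m ∈ M, ∀ a ∈ P, m * a * m⁻¹ ∈ P := by
    intro m hm a ha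
    exact (Subgroup.mem_normalizer_iff.mp hm a).mp ha
  have hXP : ∀ x ∈ X, ∀ a ∈ P, x * a = a * x := by
    intro x hx a ha
    have h1 : x * a * x⁻¹ * a⁻¹ ∈ P := P.mul_mem (hPnorm x (hXM hx) a ha) (P.inv_mem ha)
    have h2 : x * a * x⁻¹ * a⁻¹ ∈ X := by
      have h3 : a * x⁻¹ * a⁻¹ ∈ X := hXnorm a (hPM ha) x⁻¹ (X.inv_mem hx)
      have e : x * a * x⁻¹ * a⁻¹ = x * (a * x⁻¹ * a⁻¹) := by group
      rw [e]; exact X.mul_mem hx h3
    have h4 := eq_one_of_mem_pgroup_of_mem_coprime hP hXcop h1 h2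
    have e : x * a = (x * a * x⁻¹ * a⁻¹) * (a * x) := by group
    rw [e, h4, one_mul]
  apply le_antisymm
  · apply le_inf _ hXM
    set π : G →* G ⧸ N := QuotientGroup.mk' N with hπ
    have hker : ∀ g : G, π g = 1 ↔ g ∈ N := fun g => QuotientGroup.eq_one_iff g
    set Xb : Subgroup (G ⧸ N) := X.map π with hXb
    set Pb : Subgroup (G ⧸ N) := P.map π with hPb
    have hPbp : IsPGroup p Pb := hP.map π
    have hXbcop : (Nat.card Xb).Coprime p :=
      Nat.Coprime.coprime_dvd_left (Subgroup.card_map_dvd X π) hXcop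
    have hQn : Qb.Normal := Cfsg.pCore_normal p (G ⧸ N)
    have hnormtop : Subgroup.normalizer (Qb : Set (G ⧸ N)) = ⊤ := Subgroup.normalizer_eq_top_iff.mpr hQn
    have hPbXb : Pb ≤ Subgroup.centralizer (Xb : Set (G ⧸ N)) := by
      rintro _ ⟨a, ha, rfl⟩
      rw [Subgroup.mem_centralizer_iff]
      rintro _ ⟨x, hx, rfl⟩
      rw [← map_mul, ← map_mul, hXP x hx a ha]
    have hCond : Qb ⊓ Subgroup.centralizer (Pb : Set (G ⧸ N)) ≤ Subgroup.centralizer (Xb : Set (G ⧸ N)) := by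
      intro yb hyb
      obtain ⟨hyQ, hyC⟩ := Subgroup.mem_inf.mp hyb
      obtain ⟨y, hy⟩ := QuotientGroup.mk'_surjective N yb
      have hy' : π y = yb := hy
      subst hy'
      rw [Subgroup.mem_centralizer_iff] at hyC
      have hy1 : ∀ a ∈ P, y⁻¹ * (a * y * a⁻¹) ∈ N := by
        intro a ha
        rw [← hker]
        have h1 := hyC (π a) ⟨a, ha, rfl⟩
        simp only [map_mul, map_inv]
        have h1' : π a * π y = π y * π a := h1
        rw [h1']
        group
      have hPN : P ≤ Subgroup.normalizer (N : Set G) := by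
        have : Subgroup.normalizer (N : Set G) = ⊤ := Subgroup.normalizer_eq_top_iff.mpr (Cfsg.pPrimeCore_normal p G)
        rw [this]; exact le_top
      have hPsolv : Group.IsSolvable P := by
        have := hP.isNilpotent
        infer_instance
      obtain ⟨d, hd, hyd⟩ := Cfsg.Agent.Lib.Lead.coset_fixed P N hPN (coprime_pgroup hP hNcop) (Or.inl hPsolv) y hy1
      have hydM : y * d ∈ M := Subgroup.centralizer_le_normalizer _ hyd
      have hπyd : π (y * d) = π y := by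
        rw [map_mul, (hker d).mpr hd, mul_one]
      rw [Subgroup.mem_centralizer_iff]
      rintro _ ⟨x, hx, rfl⟩
      have h2 : (y * d) * x * (y * d)⁻¹ * x⁻¹ ∈ X :=
        X.mul_mem (hXnorm _ hydM x hx) (X.inv_mem hx)
      have h3 : π ((y * d) * x * (y * d)⁻¹ * x⁻¹) ∈ Xb := ⟨_, h2, rfl⟩
      have h4 : π ((y * d) * x * (y * d)⁻¹ * x⁻¹) ∈ Qb := by
        have e : π ((y * d) * x * (y * d)⁻¹ * x⁻¹) = π y * (π x * (π y)⁻¹ * (π x)⁻¹) := by
          simp only [map_mul, map_inv]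
          rw [(hker d).mpr hd]
          group
        rw [e]
        exact Qb.mul_mem hyQ (hQn.conj_mem _ (Qb.inv_mem hyQ) _)
      have h5 := eq_one_of_mem_pgroup_of_mem_coprime hQp hXbcop h4 h3
      have e2 : π ((y * d) * x * (y * d)⁻¹ * x⁻¹) = π y * π x * (π y)⁻¹ * (π x)⁻¹ := by
        simp only [map_mul, map_inv]
        rw [(hker d).mpr hd]
        group
      rw [e2] at h5
      have e3 : π y * π x = (π y * π x * (π y)⁻¹ * (π x)⁻¹) * (π x * π y) := by group
      rw [e3, h5, one_mul]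
    have hXbC : Xb ≤ Subgroup.centralizer (Qb : Set (G ⧸ N)) :=
      Cfsg.Agent.S0028.result p Pb Xb Qb hPbp hXbcop hQp hPbXb
        (by rw [hnormtop]; exact le_top) (by rw [hnormtop]; exact le_top) hCond
    have hXbQ : Xb ≤ Qb := le_trans hXbC hc
    intro x hx
    rw [← hker]
    exact eq_one_of_mem_pgroup_of_mem_coprime hQp hXbcop (hXbQ ⟨x, hx, rfl⟩) ⟨x, hx, rfl⟩
  · have h1 : N.subgroupOf M ≤ Cfsg.pPrimeCore p ↥M := by
      apply Cfsg.Agent.Lib.Helper1.le_pPrimeCore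
      · infer_instance
      · have h2 : Nat.card (N.subgroupOf M) ∣ Nat.card N := by
          have h3 : Nat.card (N.subgroupOf M) = Nat.card ((N.subgroupOf M).map M.subtype) :=
            (Subgroup.card_map_of_injective M.subtype_injective).symm
          rw [h3]
          apply Subgroup.card_dvd_of_le
          rintro _ ⟨x, hx, rfl⟩
          exact hx
        exact Nat.Coprime.coprime_dvd_left h2 hNcop
    rintro x ⟨hxN, hxM⟩
    exact ⟨⟨x, hxM⟩, h1 hxN, rfl⟩

end Cfsg.Agent.S0661
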