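import Mathlib
import Cfsg.Statements.S0631
import Cfsg.Agent.Lib.Helper5.PConstr2
import Cfsg.Agent.S0661

set_option autoImplicit false
open Cfsg

namespace Cfsg.Agent.S0631

open Cfsg.Agent.Lib.Helper5 Cfsg.Agent.Lib.Helper1
open scoped Pointwise

theorem ker_subgroupMap {G : Type*} [Group G] [Finite G] {p : ℕ} [Fact p.Prime] (H : Subgroup G)
    (hH : (Cfsg.pPrimeCore p ↥H).map H.subtype = Cfsg.pPrimeCore p G ⊓ H) :
    ((QuotientGroup.mk' (Cfsg.pPrimeCore p G)).subgroupMap H).ker = Cfsg.pPrimeCore p ↥H := by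
  ext x
  rw [MonoidHom.mem_ker]
  have h1 : (x : G) ∈ (Cfsg.pPrimeCore p ↥H).map H.subtype ↔ x ∈ Cfsg.pPrimeCore p ↥H := by
    constructor
    · rintro ⟨y, hy, hyx⟩
      have : y = x := Subtype.ext hyx
      rw [← this]; exact hy
    · intro hx
      exact ⟨x, hx, rfl⟩
  rw [← h1, hH]
  constructor
  · intro h
    have h2 := congrArg Subtype.val h
    have h3 : QuotientGroup.mk' (Cfsg.pPrimeCore p G) (x : G) = 1 := h2
    exact Subgroup.mem_inf.mpr ⟨(QuotientGroup.eq_one_iff (x : G)).mp h3, x.2⟩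
  · intro h
    apply Subtype.ext
    show QuotientGroup.mk' (Cfsg.pPrimeCore p G) (x : G) = 1
    exact (QuotientGroup.eq_one_iff (x : G)).mpr (Subgroup.mem_inf.mp h).1

theorem inf_le_map_pPrimeCore {G : Type*} [Group G] [Finite G] {p : ℕ} [Fact p.Prime] (H : Subgroup G) :
    Cfsg.pPrimeCore p G ⊓ H ≤ (Cfsg.pPrimeCore p ↥H).map H.subtype := by
  have h1 : (Cfsg.pPrimeCore p G).subgroupOf H ≤ Cfsg.pPrimeCore p ↥H := by
    apply le_pPrimeCore
    · infer_instance
    · have h2 : Nat.card ((Cfsg.pPrimeCore p G).subgroupOf H) ∣ Nat.card (Cfsg.pPrimeCore p G) := by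
        have h3 : Nat.card ((Cfsg.pPrimeCore p G).subgroupOf H) =
            Nat.card (((Cfsg.pPrimeCore p G).subgroupOf H).map H.subtype) :=
          (Subgroup.card_map_of_injective H.subtype_injective).symm
        rw [h3]
        apply Subgroup.card_dvd_of_le
        rintro _ ⟨x, hx, rfl⟩
        exact hx
      exact Nat.Coprime.coprime_dvd_left h2 (pPrimeCore_card_coprime p)
  intro x hx
  obtain ⟨hxN, hxH⟩ := Subgroup.mem_inf.mp hx
  exact ⟨⟨x, hxH⟩, h1 hxN, rfl⟩

theorem conj_mem_centralizer {G : Type*} [Group G] (P : Subgroup G) {m c : G}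
    (hm : m ∈ Subgroup.normalizer (P : Set G)) (hc : c ∈ Subgroup.centralizer (P : Set G)) :
    m * c * m⁻¹ ∈ Subgroup.centralizer (P : Set G) := by
  rw [Subgroup.mem_centralizer_iff] at hc ⊢
  intro a ha
  have hm' : m⁻¹ ∈ Subgroup.normalizer (P : Set G) := Subgroup.inv_mem _ hm
  have h2 : m⁻¹ * a * (m⁻¹)⁻¹ ∈ P := (Subgroup.mem_normalizer_iff.mp hm' a).mp ha
  have h3 := hc _ h2
  calc a * (m * c * m⁻¹) = m * ((m⁻¹ * a * (m⁻¹)⁻¹) * c) * m⁻¹ := by group
    _ = m * (c * (m⁻¹ * a * (m⁻¹)⁻¹)) * m⁻¹ := by rw [h3]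
    _ = m * c * m⁻¹ * a := by group

theorem result {G : Type*} [Group G] [Finite G] {p : ℕ} [Fact p.Prime] (hG : Cfsg.IsPConstrained p G) (P : Subgroup G) (hP : IsPGroup p P) : Cfsg.IsPConstrained p ↥(Subgroup.normalizer (P : Set G)) ∧ Cfsg.IsPConstrained p ↥(Subgroup.centralizer (P : Set G)) := by
  set N : Subgroup G := Cfsg.pPrimeCore p G with hN
  set π : G →* G ⧸ N := QuotientGroup.mk' N with hπ
  have hker : ∀ g : G, π g = 1 ↔ g ∈ N := fun g => QuotientGroup.eq_one_iff g
  have hNcop : (Nat.card N).Coprime p := pPrimeCore_card_coprime p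
  have hc := h5_isPConstrained_iff_quotient.mp hG
  set M : Subgroup G := Subgroup.normalizer (P : Set G) with hM
  set C : Subgroup G := Subgroup.centralizer (P : Set G) with hC
  have hCM : C ≤ M := Subgroup.centralizer_le_normalizer _
  have hHM : (Cfsg.pPrimeCore p ↥M).map M.subtype = N ⊓ M := Cfsg.Agent.S0661.result hc P hP
  have hPb : IsPGroup p ↥(P.map π) := hP.map π
  have hMnorm : M.map π ≤ Subgroup.normalizer ((P.map π : Subgroup (G ⧸ N)) : Set (G ⧸ N)) :=
    Subgroup.le_normalizer_map π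
  have hlift : Subgroup.centralizer ((P.map π : Subgroup (G ⧸ N)) : Set (G ⧸ N)) ≤ C.map π := by
    intro yb hyb
    obtain ⟨y, hy⟩ := QuotientGroup.mk'_surjective N yb
    have hy' : π y = yb := hy
    subst hy'
    obtain ⟨d, hd, hyd⟩ := h5_exists_lift_centralizer N hNcop P hP y hyb
    refine ⟨y * d, hyd, ?_⟩
    rw [map_mul, (hker d).mpr hd, mul_one]
  have hCcent : C.map π ≤ Subgroup.centralizer ((P.map π : Subgroup (G ⧸ N)) : Set (G ⧸ N)) := by
    intro xb hxb
    obtain ⟨x, hx, rfl⟩ := hxb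
    have hx' : x ∈ C := hx
    rw [Subgroup.mem_centralizer_iff]
    intro q hq
    obtain ⟨a, ha, rfl⟩ := hq
    have ha' : a ∈ P := ha
    rw [hC, Subgroup.mem_centralizer_iff] at hx'
    rw [← map_mul, ← map_mul, hx' a ha']
  constructor
  · rw [h5_isPConstrained_iff_of_surjective (π.subgroupMap M) (π.subgroupMap_surjective M)
      (ker_subgroupMap M hHM)]
    apply h5_local_constrained hc (P.map π) (M.map π) hPb hMnorm
    · exact le_trans hlift (Subgroup.map_mono hCM)
    · exact Or.inl (Subgroup.map_mono Subgroup.le_normalizer)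
  · have hHC : (Cfsg.pPrimeCore p ↥C).map C.subtype = N ⊓ C := by
      apply le_antisymm _ (inf_le_map_pPrimeCore C)
      set X₁ : Subgroup G := (Cfsg.pPrimeCore p ↥C).map C.subtype with hX₁
      have hX₁C : X₁ ≤ C := by
        rw [hX₁]; rintro _ ⟨x, _, rfl⟩; exact x.2
      apply le_inf _ hX₁C
      have hMC : M ≤ Subgroup.normalizer (C : Set G) := by
        rw [Subgroup.le_normalizer_iff]
        intro m hm c hc
        exact conj_mem_centralizer P hm hc
      have hchar : (Cfsg.pPrimeCore p ↥C).Characteristic := by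
        rw [Subgroup.characteristic_iff_map_le]
        intro φ
        apply le_pPrimeCore
        · exact Subgroup.Normal.map (Cfsg.pPrimeCore_normal p ↥C) φ.toMonoidHom φ.surjective
        · rw [Subgroup.card_map_of_injective φ.injective]
          exact pPrimeCore_card_coprime p
      have hMX : M ≤ Subgroup.normalizer (X₁ : Set G) :=
        Cfsg.Agent.Lib.Lead.le_normalizer_map_characteristic C M hMC (Cfsg.pPrimeCore p ↥C)
      have hX₁n : (X₁.subgroupOf M).Normal := by
        constructor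
        intro t ht y
        rw [Subgroup.mem_subgroupOf] at ht ⊢
        have h1 : ((y * t * y⁻¹ : ↥M) : G) = (y : G) * (t : G) * (y : G)⁻¹ := by simp
        rw [h1]
        exact (Subgroup.le_normalizer_iff.mp hMX) _ y.2 _ ht
      have hX₁cop : (Nat.card (X₁.subgroupOf M)).Coprime p := by
        rw [card_subgroupOf_of_le (le_trans hX₁C hCM), hX₁,
          Subgroup.card_map_of_injective C.subtype_injective]
        exact pPrimeCore_card_coprime p
      have hle : X₁.subgroupOf M ≤ Cfsg.pPrimeCore p ↥M := le_pPrimeCore hX₁n hX₁cop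
      intro x hx
      have hxM : x ∈ M := hCM (hX₁C hx)
      have h2 : (⟨x, hxM⟩ : ↥M) ∈ Cfsg.pPrimeCore p ↥M := hle (Subgroup.mem_subgroupOf.mpr hx)
      have h3 : x ∈ (Cfsg.pPrimeCore p ↥M).map M.subtype := ⟨_, h2, rfl⟩
      rw [hHM] at h3
      exact (Subgroup.mem_inf.mp h3).1
    rw [h5_isPConstrained_iff_of_surjective (π.subgroupMap C) (π.subgroupMap_surjective C)
      (ker_subgroupMap C hHC)]
    apply h5_local_constrained hc (P.map π) (C.map π) hPb (le_trans (Subgroup.map_mono hCM) hMnorm)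
    · exact hlift
    · exact Or.inr hCcent

end Cfsg.Agent.S0631
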