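import Cfsg.Statements.S0633
import Cfsg.Agent.Lib.Helper20.HHThmH

set_option autoImplicit false
open Cfsg

namespace Cfsg.Agent.S0633



/-- Theorem B of Hall and Higman on the minimal polynomial of a p-element of order p^n in a p-solvable linear group on a nonzero vector space in characteristic p with no nontrivial normal p-subgroup: its degree is p^n, except when some p^n₀ - 1 (n₀ ≤ n) is a power of a prime q for which the Sylow q-subgroups are non-abelian, in which case the degree is at least p^(n-n₀)(p^n₀ - 1). -/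
theorem result {F : Type*} [Field F] {p : ℕ} [Fact p.Prime] [CharP F p] {V : Type*} [AddCommGroup V] [Module F V] [FiniteDimensional F V] [Nontrivial V] (H : Subgroup (V ≃ₗ[F] V)) [Finite H] (hsol : Cfsg.IsPSolvable p H) (hOp : Cfsg.pCore p H = ⊥) (x : V ≃ₗ[F] V) (hx : x ∈ H) (n : ℕ) (hn : orderOf x = p ^ n) (r : ℕ) (hr : minpoly F (x : Module.End F V) = (Polynomial.X - 1) ^ r) : r = p ^ n ∨ ∃ n₀ q m : ℕ, 1 ≤ n₀ ∧ n₀ ≤ n ∧ q.Prime ∧ 1 ≤ m ∧ p ^ n₀ - 1 = q ^ m ∧ (∀ Q : Sylow q H, ¬ IsMulCommutative Q) ∧ p ^ (n - n₀) * (p ^ n₀ - 1) ≤ r := by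
  classical
  have hp : p.Prime := Fact.out
  have hX0 : (Polynomial.X - 1 : Polynomial F) ≠ 0 := by
    have := Polynomial.X_sub_C_ne_zero (1 : F)
    rwa [map_one] at this
  have hXu : ¬ IsUnit (Polynomial.X - 1 : Polynomial F) := by
    have := Polynomial.not_isUnit_X_sub_C (1 : F)
    rwa [map_one] at this
  have hxpow : x ^ p ^ n = 1 := by rw [← hn]; exact pow_orderOf_eq_one x
  -- `r` is the nilpotency index of `x - 1`
  have hνr : (x.toLinearMap - 1 : Module.End F V) ^ r = 0 := by
    have h1 := minpoly.aeval F (x.toLinearMap : Module.End F V)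
    rw [hr] at h1
    simpa using h1
  have hr_le : r ≤ p ^ n := by
    have h1 : (x.toLinearMap - 1 : Module.End F V) ^ (p ^ n) = 0 := by
      rw [(Cfsg.Agent.Lib.Helper20.HHMod.geom_char (K := F) p (x.toLinearMap : Module.End F V) n).1,
        sub_eq_zero]
      have h2 : (x.toLinearMap : Module.End F V) ^ (p ^ n) = (x ^ p ^ n).toLinearMap := by
        have := (map_pow (LinearEquiv.automorphismGroup.toLinearMapMonoidHom
          (R := F) (M := V)) x (p ^ n)).symm
        exact this
      rw [h2, hxpow]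
      rfl
    have h3 : minpoly F (x.toLinearMap : Module.End F V) ∣ (Polynomial.X - 1) ^ (p ^ n) := by
      apply minpoly.dvd
      simpa using h1
    rw [hr] at h3
    exact (pow_dvd_pow_iff hX0 hXu).mp h3
  rcases Nat.eq_zero_or_pos n with hn0 | hn1
  · left
    subst hn0
    rw [pow_zero] at hn hr_le ⊢
    have hx1 : x = 1 := orderOf_eq_one_iff.mp hn
    have h1 : minpoly F (x.toLinearMap : Module.End F V) = Polynomial.X - 1 := by
      rw [hx1]
      exact minpoly.one F (Module.End F V)
    rw [hr] at h1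
    have h2 : 1 ≤ r := by
      rcases Nat.eq_zero_or_pos r with h0 | h0
      · rw [h0, pow_zero] at h1
        exfalso
        apply hXu
        rw [← h1]
        exact isUnit_one
      · exact h0
    omega
  · -- the group-theoretic input
    obtain ⟨xH, hxH⟩ : ∃ xH : ↥H, xH = ⟨x, hx⟩ := ⟨_, rfl⟩
    have hxHpow : xH ^ p ^ n = 1 := by
      rw [hxH]
      apply Subtype.ext
      rw [Subgroup.coe_pow]
      exact hxpow
    have hy : xH ^ p ^ (n - 1) ≠ 1 := by
      intro h1
      have h2 : x ^ p ^ (n - 1) = 1 := by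
        have := congrArg Subtype.val h1
        rw [hxH, Subgroup.coe_pow] at this
        exact this
      have h3 := orderOf_dvd_of_pow_eq_one h2
      rw [hn] at h3
      have h4 := (Nat.pow_dvd_pow_iff_le_right hp.one_lt).mp h3
      omega
    obtain ⟨q, hq, hqp, Q, hQ, hxQ, z, hz, hzne⟩ :=
      Cfsg.Agent.Lib.Helper20.HHThm.exists_moved hsol hOp xH hn1 hxHpow hy
    haveI : Fact q.Prime := ⟨hq⟩
    obtain ⟨ρ₀, hρ₀⟩ : ∃ ρ₀ : ↥H →* Module.End F V,
        ρ₀ = (LinearEquiv.automorphismGroup.toLinearMapMonoidHom (R := F) (M := V)).comp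
          H.subtype := ⟨_, rfl⟩
    have hρ₀a : ∀ g : ↥H, ρ₀ g = (g : V ≃ₗ[F] V).toLinearMap := by
      intro g
      rw [hρ₀]
      rfl
    have hinj : Function.Injective ρ₀ := by
      intro a b hab
      rw [hρ₀a, hρ₀a] at hab
      apply Subtype.ext
      exact LinearEquiv.toLinearMap_injective hab
    have hmain := Cfsg.Agent.Lib.Helper20.HHThm.main_field (k := F) (p := p) (q := q)
      (Ne.symm hqp) ρ₀ Q hQ xH hxQ n hn1 hxHpow
      ⟨z, hz, fun h => hzne (hinj h)⟩ r (by
        rw [hρ₀a, hxH]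
        exact hνr)
    rcases hmain with h | ⟨n₀, m, h1, h2, h3, h4, h5, h6⟩
    · left
      omega
    · right
      exact ⟨n₀, q, m, h1, h2, hq, h3, h4,
        fun S => Cfsg.Agent.Lib.Helper20.HHThm.sylow_noncomm Q hQ h5 S, h6⟩

end Cfsg.Agent.S0633
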