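import Mathlib
import Cfsg.Statements.S0635
import Cfsg.Agent.S0634

set_option autoImplicit false
open Cfsg

namespace Cfsg.Agent.S0635

open Cfsg.Agent.Lib.Helper1 Cfsg.Agent.S0634
open scoped commutatorElement

variable {G : Type*} [Group G] [Finite G] {p : ℕ} [Fact p.Prime]

theorem ker_le_comap {X : Type*} [Group X] (U : Subgroup X) [U.Normal] (K : Subgroup (X ⧸ U)) :
    U ≤ K.comap (QuotientGroup.mk' U) := by
  intro x hx
  rw [Subgroup.mem_comap]
  have : QuotientGroup.mk' U x = 1 := (QuotientGroup.eq_one_iff x).mpr hx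
  rw [this]; exact Subgroup.one_mem _

/-- the `k`-th term of the upper central series of a Sylow `p`-subgroup lies in the `2k`-th term of
the upper `p`-series -/
theorem key (hsol : Cfsg.IsPSolvable p G) (S : Sylow p G) : ∀ k : ℕ,
    (Subgroup.upperCentralSeries ↥(S : Subgroup G) k).map (S : Subgroup G).subtype ≤
      (upperPSeries p G (2 * k)).1
  | 0 => by
    rw [Subgroup.upperCentralSeries_zero, Subgroup.map_bot]; exact bot_le
  | k + 1 => by
    have ih := key hsol S k
    have hU1 := ups_succ_even (G := G) p (2 * k) (even_two_mul k)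
    have hU2 := ups_succ_odd (G := G) p (2 * k + 1) (by simp)
    have h01 : (upperPSeries p G (2 * k)).1 ≤ (upperPSeries p G (2 * k + 1)).1 := by
      rw [hU1]; exact ker_le_comap _ _
    have h12 : (upperPSeries p G (2 * k + 1)).1 ≤ (upperPSeries p G (2 * k + 1 + 1)).1 := by
      rw [hU2]; exact ker_le_comap _ _
    have hcent := Cfsg.Agent.S0634.result hsol k
    show (Subgroup.upperCentralSeries ↥(S : Subgroup G) (k + 1)).map (S : Subgroup G).subtype ≤
      (upperPSeries p G (2 * k + 1 + 1)).1
    rintro _ ⟨z, hz, rfl⟩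
    set π := QuotientGroup.mk' (upperPSeries p G (2 * k + 1)).1 with hπ
    have hπs : Function.Surjective π := QuotientGroup.mk'_surjective _
    have hmap : (upperPSeries p G (2 * k + 1 + 1)).1.map π =
        pCore p (G ⧸ (upperPSeries p G (2 * k + 1)).1) := by
      rw [hU2, Subgroup.map_comap_eq_self_of_surjective hπs]
    have hzc : π (z : G) ∈ Subgroup.centralizer
        (((upperPSeries p G (2 * k + 2)).1.map π : Subgroup _) : Set _) := by
      rw [Subgroup.mem_centralizer_iff]
      intro v hv
      have hv' : v ∈ pCore p (G ⧸ (upperPSeries p G (2 * k + 1)).1) := by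
        rw [← hmap]; exact hv
      have hv'' : v ∈ ((S.mapSurjective hπs : Sylow p _) : Subgroup _) :=
        pCore_le_sylow p _ hv'
      rw [Sylow.coe_mapSurjective] at hv''
      obtain ⟨s, hs, rfl⟩ := hv''
      have hcomm : ⁅z, (⟨s, hs⟩ : ↥(S : Subgroup G))⁆ ∈ Subgroup.upperCentralSeries ↥(S : Subgroup G) k :=
        Subgroup.mem_upperCentralSeries_succ_iff.mp hz ⟨s, hs⟩
      have h1 : ((⁅z, (⟨s, hs⟩ : ↥(S : Subgroup G))⁆ : ↥(S : Subgroup G)) : G) ∈
          (upperPSeries p G (2 * k + 1)).1 := h01 (ih ⟨_, hcomm, rfl⟩)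
      have h2 : π ((z : G) * s * (z : G)⁻¹ * s⁻¹) = 1 := by
        rw [hπ, QuotientGroup.mk'_apply, QuotientGroup.eq_one_iff]
        simpa [commutatorElement_def] using h1
      rw [map_mul, map_mul, map_mul, map_inv, map_inv] at h2
      have h3 : π (z : G) * π s = π s * π (z : G) := by
        have := congrArg (fun t => t * π s * π (z : G)) h2
        simpa [mul_assoc] using this
      exact h3.symm
    have hz2 := hcent hzc
    obtain ⟨u, hu, hueq⟩ := hz2
    have hdiff : u⁻¹ * (z : G) ∈ (upperPSeries p G (2 * k + 1)).1 := by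
      rw [← QuotientGroup.eq_one_iff, QuotientGroup.mk_mul, QuotientGroup.mk_inv]
      have h4 : (QuotientGroup.mk u : G ⧸ (upperPSeries p G (2 * k + 1)).1) =
          QuotientGroup.mk (z : G) := hueq
      rw [h4, inv_mul_cancel]
    have : (z : G) = u * (u⁻¹ * (z : G)) := by group
    show (z : G) ∈ (upperPSeries p G (2 * k + 1 + 1)).1
    rw [this]
    exact Subgroup.mul_mem _ hu (h12 hdiff)

theorem result {G : Type*} [Group G] [Finite G] {p : ℕ} [Fact p.Prime] (hsol : Cfsg.IsPSolvable p G) (S : Sylow p G) : Cfsg.PLengthLE p (Group.nilpotencyClass ↥(S : Subgroup G)) G := by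
  haveI : Group.IsNilpotent ↥(S : Subgroup G) := S.isPGroup'.isNilpotent
  have hk := key hsol S (Group.nilpotencyClass ↥(S : Subgroup G))
  rw [Subgroup.upperCentralSeries_nilpotencyClass, ← MonoidHom.range_eq_map, Subgroup.range_subtype] at hk
  show (upperPSeries p G (2 * Group.nilpotencyClass ↥(S : Subgroup G) + 1)).1 = ⊤
  rw [ups_succ_even p (2 * Group.nilpotencyClass ↥(S : Subgroup G)) (even_two_mul _)]
  have htop : pPrimeCore p (G ⧸ (upperPSeries p G (2 * Group.nilpotencyClass ↥(S : Subgroup G))).1) = ⊤ := by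
    rw [eq_top_iff]
    apply le_pPrimeCore inferInstance
    rw [Subgroup.card_top, ← Subgroup.index_eq_card]
    have h1 : (upperPSeries p G (2 * Group.nilpotencyClass ↥(S : Subgroup G))).1.index ∣
        (S : Subgroup G).index := Subgroup.index_dvd_of_le hk
    have h2 : ¬ p ∣ (S : Subgroup G).index := S.not_dvd_index
    have h3 : ¬ p ∣ (upperPSeries p G (2 * Group.nilpotencyClass ↥(S : Subgroup G))).1.index :=
      fun h => h2 (h.trans h1)
    exact ((Nat.Prime.coprime_iff_not_dvd (Fact.out : p.Prime)).mpr h3).symm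
  rw [htop, Subgroup.comap_top]

end Cfsg.Agent.S0635
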