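import Mathlib
import Cfsg.Statements.S0642
import Cfsg.Agent.Lib.Helper5.PGroup

set_option autoImplicit false
open Cfsg

namespace Cfsg.Agent.S0642

open scoped commutatorElement
open Cfsg.Agent.Lib.Helper5

theorem powerClosure_mono {G : Type*} [Group G] (p n : ℕ) {H K : Subgroup G} (h : H ≤ K) :
    Cfsg.powerClosure p n H ≤ Cfsg.powerClosure p n K := by
  unfold Cfsg.powerClosure
  apply Subgroup.closure_mono
  rintro _ ⟨x, hx, rfl⟩
  exact ⟨x, h hx, rfl⟩

theorem powerClosure_conj {G : Type*} [Group G] (p n : ℕ) (D : Subgroup G) [hD : D.Normal] (g c : G)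
    (hc : c ∈ Cfsg.powerClosure p n D) : g * c * g⁻¹ ∈ Cfsg.powerClosure p n D := by
  have hmap : (Cfsg.powerClosure p n D).map (MulAut.conj g).toMonoidHom ≤
      Cfsg.powerClosure p n D := by
    unfold Cfsg.powerClosure
    rw [MonoidHom.map_closure, Subgroup.closure_le]
    rintro _ ⟨_, ⟨x, hx, rfl⟩, rfl⟩
    apply Subgroup.subset_closure
    refine ⟨g * x * g⁻¹, hD.conj_mem x hx g, ?_⟩
    simp only [MulEquiv.coe_toMonoidHom, MulAut.conj_apply]
    rw [conj_pow]
  have := hmap ⟨c, hc, rfl⟩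
  simpa using this

theorem result {G : Type*} [Group G] [Finite G] (hG : IsPGroup 2 G) : Cfsg.IsRegularPGroup 2 G ↔ ∀ a b : G, a * b = b * a := by
  constructor
  · rintro ⟨_, hreg⟩
    set D : Subgroup G := commutator G with hD
    have hDn : D.Normal := inferInstance
    set PC : Subgroup G := Cfsg.powerClosure 2 1 D with hPC
    have h1 : ∀ x y : G, ⁅x, y⁆ ∈ PC := by
      intro x y
      obtain ⟨c, hc, hcab⟩ := hreg y⁻¹ x⁻¹ 1
      have hle : ⁅Subgroup.closure ({y⁻¹, x⁻¹} : Set G), Subgroup.closure ({y⁻¹, x⁻¹} : Set G)⁆ ≤ D := by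
        rw [hD, commutator_def]
        exact Subgroup.commutator_mono le_top le_top
      have hc' : c ∈ PC := powerClosure_mono 2 1 hle hc
      have e : ⁅x, y⁆ = x⁻¹ * c * (x⁻¹)⁻¹ := by
        rw [pow_one, sq, sq, sq] at hcab
        have hc_eq : c = (x⁻¹)⁻¹ * (x⁻¹)⁻¹ * (y⁻¹)⁻¹ * (y⁻¹)⁻¹ * (y⁻¹ * x⁻¹ * (y⁻¹ * x⁻¹)) := by
          rw [hcab]; group
        rw [hc_eq, commutatorElement_def]
        group
      rw [e]
      exact powerClosure_conj 2 1 D x⁻¹ c hc'
    have h2 : D ≤ PC := by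
      rw [hD, commutator_def, Subgroup.commutator_le]
      intro x _ y _
      exact h1 x y
    have hDp : IsPGroup 2 D := hG.to_subgroup D
    have h3 : PC ≤ (frattini ↥D).map D.subtype := by
      rw [hPC]
      unfold Cfsg.powerClosure
      rw [Subgroup.closure_le]
      rintro _ ⟨x, hx, rfl⟩
      refine ⟨(⟨x, hx⟩ : D) ^ 2, ?_, ?_⟩
      · exact h5_pgroup_pow_mem_frattini hDp _
      · simp
    have h4 : frattini ↥D = ⊤ := by
      rw [eq_top_iff]
      intro d _
      obtain ⟨d', hd', hdd⟩ := h3 (h2 d.2)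
      have : d' = d := Subtype.ext hdd
      rw [← this]
      exact hd'
    have h5 : D = ⊥ := by
      by_contra hne
      have : Nontrivial D := (Subgroup.nontrivial_iff_ne_bot D).mpr hne
      exact h5_frattini_ne_top_of_nontrivial h4
    have h6 : IsMulCommutative G := (commutator_eq_bot_iff G).mp h5
    intro a b
    exact mul_comm' a b
  · intro hcomm
    refine ⟨hG, ?_⟩
    intro a b n
    refine ⟨1, one_mem _, ?_⟩
    rw [mul_one]
    exact (show Commute a b from hcomm a b).mul_pow _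

end Cfsg.Agent.S0642
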