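import Cfsg.Statements.S0645
import Cfsg.Agent.Lib.Helper9.CyclicMax

set_option autoImplicit false
open Cfsg

namespace Cfsg.Agent.S0645

open Cfsg.Agent.Lib.Helper9

/-- Classification of p-groups with a cyclic maximal subgroup, odd p: a non-abelian one of order p^n has generators a of order p^(n-1) and b of order p, b outside the cyclic subgroup generated by a, with b a b⁻¹ = a^(1 + p^(n-2)). -/
theorem result {G : Type*} [Group G] [Finite G] {p : ℕ} [Fact p.Prime] (hp : p ≠ 2) (n : ℕ) (hn : 3 ≤ n) (hG : Nat.card G = p ^ n) (C : Subgroup G) (hC : IsCyclic C) (hCi : C.index = p) (hna : ∃ x y : G, x * y ≠ y * x) : ∃ a b : G, orderOf a = p ^ (n - 1) ∧ orderOf b = p ∧ b ∉ Subgroup.zpowers a ∧ b * a * b⁻¹ = a ^ (1 + p ^ (n - 2)) := by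
  classical
  have hpp : p.Prime := Fact.out
  obtain ⟨m, rfl⟩ : ∃ m, n = m + 2 := ⟨n - 2, by omega⟩
  have hm1 : 1 ≤ m := by omega
  obtain ⟨c, g, r, hoc, hzc, hCn, hgC, hr, hrne, hrp, hgp⟩ :=
    cyclic_max_setup (m + 2) (by omega) hG C hC hCi hna
  have e1 : m + 2 - 1 = m + 1 := by omega
  have e2 : m + 2 - 2 = m := by omega
  rw [e1] at hoc hrne hrp
  rw [e1, e2]
  set N := p ^ (m + 1) with hN
  have hNpos : 0 < N := pow_pos hpp.pos _
  have hpqN : p * p ^ m = N := by rw [hN, pow_succ, mul_comm]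
  -- r ≡ 1 mod p^m
  have hr1 : r ≡ 1 [MOD p ^ m] := modEq_one_of_pow_prime_modEq_one hp hrp
  have hr0 : 1 ≤ r := by
    rcases Nat.eq_zero_or_pos r with h | h
    · exfalso
      rw [h] at hr1
      have := hr1.symm
      rw [Nat.modEq_zero_iff_dvd] at this
      have h2 : 1 < p ^ m := Nat.one_lt_pow (by omega) hpp.one_lt
      exact absurd (Nat.le_of_dvd one_pos this) (by omega)
    · exact h
  obtain ⟨k, hk⟩ : ∃ k, r = 1 + k * p ^ m := by
    have : p ^ m ∣ r - 1 := (Nat.modEq_iff_dvd' hr0).mp hr1.symm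
    obtain ⟨k, hk⟩ := this
    exact ⟨k, by rw [mul_comm]; omega⟩
  have hpk : ¬ p ∣ k := by
    rintro ⟨k', rfl⟩
    apply hrne
    rw [hk, Nat.ModEq]
    have : 1 + p * k' * p ^ m = 1 + N * k' := by rw [← hpqN]; ring
    rw [this]
    simp
  have hcop : Nat.Coprime k p := ((Nat.Prime.coprime_iff_not_dvd hpp).mpr hpk).symm
  obtain ⟨j, -, hj⟩ := Nat.exists_mul_mod_eq_one_of_coprime hcop hpp.one_lt
  -- in ZMod N
  have hq2 : ((p ^ m : ℕ) : ZMod N) * ((p ^ m : ℕ) : ZMod N) = 0 := by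
    rw [← Nat.cast_mul, ZMod.natCast_eq_zero_iff]
    have : p ^ m * p ^ m = N * p ^ (m - 1) := by
      rw [hN, ← pow_add, ← pow_add]; congr 1; omega
    rw [this]
    exact dvd_mul_right _ _
  have hpq0 : ((p : ℕ) : ZMod N) * ((p ^ m : ℕ) : ZMod N) = 0 := by
    rw [← Nat.cast_mul, hpqN, ZMod.natCast_self]
  have hrj : r ^ j ≡ 1 + p ^ m [MOD N] := by
    rw [← ZMod.natCast_eq_natCast_iff]
    push_cast
    rw [hk]
    push_cast
    have hsq : ((k : ZMod N) * (p : ZMod N) ^ m) * ((k : ZMod N) * (p : ZMod N) ^ m) = 0 := by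
      have := hq2
      push_cast at this
      linear_combination (k : ZMod N) * (k : ZMod N) * this
    rw [one_add_pow_of_sq_zero _ hsq]
    have hkj : k * j = 1 + p * (k * j / p) := by
      have := Nat.div_add_mod (k * j) p
      rw [hj] at this
      omega
    have hkj' : (j : ZMod N) * (k : ZMod N) = 1 + (p : ZMod N) * ((k * j / p : ℕ) : ZMod N) := by
      have := congrArg (Nat.cast : ℕ → ZMod N) hkj
      push_cast at this
      rw [mul_comm]
      exact this
    have hpq0' := hpq0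
    push_cast at hpq0'
    linear_combination ((p : ZMod N) ^ m) * hkj' + ((k * j / p : ℕ) : ZMod N) * hpq0'
  -- the new g
  set g₁ := g ^ j with hg₁
  have hr₁ : g₁ * c * g₁⁻¹ = c ^ (1 + p ^ m) := by
    have := pow_conj_of_conj hr j 1
    rw [pow_one, mul_one] at this
    rw [this]
    apply pow_eq_pow_iff_modEq.mpr
    rw [hoc]
    exact hrj
  have hcC : c ∈ C := by rw [← hzc]; exact Subgroup.mem_zpowers c
  have hcomm : ∀ y ∈ C, y * c = c * y := by
    intro y hy
    rw [← hzc] at hy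
    obtain ⟨i, rfl⟩ := Subgroup.mem_zpowers_iff.mp hy
    exact (Commute.zpow_self c i).eq
  have hne1 : ¬ (1 + p ^ m ≡ 1 [MOD N]) := by
    intro h
    have h2 : N ∣ (1 + p ^ m) - 1 := (Nat.modEq_iff_dvd' (by omega)).mp h.symm
    rw [Nat.add_sub_cancel_left] at h2
    have h3 : p ^ m < N := by
      rw [hN]; exact Nat.pow_lt_pow_right hpp.one_lt (by omega)
    exact absurd (Nat.le_of_dvd (pow_pos hpp.pos _) h2) (by omega)
  have hg₁C : g₁ ∉ C := by
    intro h
    have h1 := hcomm g₁ h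
    have h2 : g₁ * c * g₁⁻¹ = c := by rw [h1]; group
    rw [hr₁] at h2
    apply hne1
    rw [← hoc]
    apply pow_eq_pow_iff_modEq.mp
    rw [h2, pow_one]
  have hg₁p : g₁ ^ p ∈ C := by
    rw [hg₁, ← pow_mul, mul_comm, pow_mul]
    exact C.pow_mem hgp j
  rw [← hzc] at hg₁p
  obtain ⟨s, -, hs⟩ := (isOfFinOrder_of_finite c).mem_zpowers_iff_mem_range_orderOf.mp hg₁p |>
    Finset.mem_image.mp
  -- p ∣ s
  have hps : p ∣ s := by
    have h1 := conj_pow_of_conj hr₁ s
    rw [hs] at h1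
    have h2 : g₁ * g₁ ^ p * g₁⁻¹ = g₁ ^ p := by group
    rw [h2, ← hs] at h1
    have h3 : s ≡ (1 + p ^ m) * s [MOD N] := by
      rw [← hoc]
      exact pow_eq_pow_iff_modEq.mp h1
    have h4 : N ∣ (1 + p ^ m) * s - s := (Nat.modEq_iff_dvd' (Nat.le_mul_of_pos_left s (by omega))).mp h3
    have h5 : (1 + p ^ m) * s - s = p ^ m * s := by
      rw [add_mul, one_mul, Nat.add_sub_cancel_left]
    rw [h5, ← hpqN] at h4
    exact Nat.dvd_of_mul_dvd_mul_left (pow_pos hpp.pos m) (by rwa [mul_comm p] at h4)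
  obtain ⟨s', rfl⟩ := hps
  -- the sum
  have hsum : ((∑ i ∈ Finset.range p, (1 + p ^ m) ^ i : ℕ) : ZMod N) = (p : ZMod N) := by
    push_cast
    have hsq : ((p : ZMod N) ^ m) * ((p : ZMod N) ^ m) = 0 := by
      have := hq2
      push_cast at this
      exact this
    have h1 : ∀ i ∈ Finset.range p, (1 + (p : ZMod N) ^ m) ^ i = 1 + (i : ZMod N) * (p : ZMod N) ^ m :=
      fun i _ => one_add_pow_of_sq_zero _ hsq i
    rw [Finset.sum_congr rfl h1, Finset.sum_add_distrib, ← Finset.sum_mul]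
    simp only [Finset.sum_const, Finset.card_range, nsmul_eq_mul, mul_one]
    obtain ⟨t, ht⟩ := hpp.odd_of_ne_two hp
    have h2 := Finset.sum_range_id_mul_two p
    have h3 : ∑ i ∈ Finset.range p, i = p * t := by
      have : p - 1 = 2 * t := by omega
      rw [this] at h2
      have : (∑ i ∈ Finset.range p, i) * 2 = (p * t) * 2 := by rw [h2]; ring
      exact Nat.eq_of_mul_eq_mul_right (by norm_num) this
    have h4 : (∑ i ∈ Finset.range p, (i : ZMod N)) = (p : ZMod N) * (t : ZMod N) := by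
      rw [← Nat.cast_sum, h3]
      push_cast
      ring
    rw [h4]
    have hpq0' := hpq0
    push_cast at hpq0'
    linear_combination (t : ZMod N) * hpq0'
  set x := s' * (N - 1) with hx
  set b := c ^ x * g₁ with hb
  have hbp : b ^ p = 1 := by
    rw [hb, mul_pow_of_conj hr₁ x p, ← hs, ← pow_add]
    rw [← orderOf_dvd_iff_pow_eq_one, hoc, ← ZMod.natCast_eq_zero_iff]
    push_cast at hsum ⊢
    rw [hsum, hx]
    push_cast
    rw [Nat.cast_sub hNpos]
    simp only [ZMod.natCast_self, Nat.cast_one, zero_sub]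
    ring
  have hbC : b ∉ C := by
    intro h
    apply hg₁C
    have : g₁ = (c ^ x)⁻¹ * b := by rw [hb]; group
    rw [this]
    exact C.mul_mem (C.inv_mem (C.pow_mem hcC x)) h
  refine ⟨c, b, hoc, ?_, ?_, ?_⟩
  · apply orderOf_eq_prime hbp
    intro h
    exact hbC (h ▸ C.one_mem)
  · rw [hzc]; exact hbC
  · have : b * c * b⁻¹ = c ^ x * (g₁ * c * g₁⁻¹) * (c ^ x)⁻¹ := by rw [hb]; group
    rw [this, hr₁]
    have h2 : Commute (c ^ x) (c ^ (1 + p ^ m)) := (Commute.refl c).pow_pow _ _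
    rw [h2.eq]
    group

end Cfsg.Agent.S0645
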