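import Cfsg.Statements.S0646
import Cfsg.Agent.Lib.Helper9.CyclicMax2

set_option autoImplicit false
open Cfsg

namespace Cfsg.Agent.S0646

open Cfsg.Agent.Lib.Helper9

/-- Classification of non-abelian 2-groups with a cyclic maximal subgroup: dihedral, generalized quaternion, and for order at least 16 the modular group and the semidihedral group, each given by generators a (of index 2) and b with the stated relations. -/
theorem result {G : Type*} [Group G] [Finite G] (n : ℕ) (hn : 3 ≤ n) (hG : Nat.card G = 2 ^ n) (C : Subgroup G) (hC : IsCyclic C) (hCi : C.index = 2) (hna : ∃ x y : G, x * y ≠ y * x) : ∃ a b : G, orderOf a = 2 ^ (n - 1) ∧ b ∉ Subgroup.zpowers a ∧ ((b ^ 2 = 1 ∧ b * a * b⁻¹ = a⁻¹) ∨ (b ^ 2 = a ^ (2 ^ (n - 2)) ∧ b * a * b⁻¹ = a⁻¹) ∨ (4 ≤ n ∧ b ^ 2 = 1 ∧ b * a * b⁻¹ = a ^ (1 + 2 ^ (n - 2))) ∨ (4 ≤ n ∧ b ^ 2 = 1 ∧ b * a * b⁻¹ = a ^ (2 ^ (n - 2) - 1))) := by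
  classical
  obtain ⟨m, rfl⟩ : ∃ m, n = m + 3 := ⟨n - 3, by omega⟩
  obtain ⟨c, g, r₀, hoc, hzc, hCn, hgC, hr₀, hrne₀, hrp₀, hgp⟩ :=
    cyclic_max_setup (p := 2) (m + 3) (by omega) hG C hC hCi hna
  have e1 : m + 3 - 1 = m + 2 := by omega
  have e2 : m + 3 - 2 = m + 1 := by omega
  have e3 : 2 ^ (m + 2) = 4 * 2 ^ m := by ring
  have e4 : 2 ^ (m + 1) = 2 * 2 ^ m := by ring
  rw [e1, e3] at hoc hrne₀ hrp₀
  rw [e1, e2, e3, e4]
  set q := 2 ^ m with hq
  have hqpos : 0 < q := pow_pos (by norm_num) m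
  have h2p : Prime 2 := Nat.prime_two.prime
  set r := r₀ % (4 * q) with hr_def
  have hr : g * c * g⁻¹ = c ^ r := by
    rw [hr₀, hr_def, ← hoc, pow_mod_orderOf]
  have hrlt : r < 4 * q := Nat.mod_lt _ (by omega)
  have hrsq : r ^ 2 ≡ 1 [MOD 4 * q] := ((Nat.mod_modEq r₀ (4 * q)).pow 2).trans hrp₀
  have hrne : r ≠ 1 := by
    intro h
    apply hrne₀
    have : r₀ % (4 * q) = 1 % (4 * q) := by
      rw [← hr_def, h, Nat.mod_eq_of_lt (by omega)]
    exact this
  have hcases := sq_modEq_one_cases hrlt hrsq hrne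
  have hcC : c ∈ C := by rw [← hzc]; exact Subgroup.mem_zpowers c
  have hgp' := hgp
  rw [← hzc] at hgp'
  obtain ⟨s, -, hs⟩ := (isOfFinOrder_of_finite c).mem_zpowers_iff_mem_range_orderOf.mp hgp' |>
    Finset.mem_image.mp
  have hss : c ^ (r * s) = c ^ s := by
    rw [← conj_pow_of_conj hr s, hs]; group
  have hmod : r * s ≡ s [MOD 4 * q] := by
    rw [← hoc]; exact pow_eq_pow_iff_modEq.mp hss
  have hbconj : ∀ x : ℕ, (c ^ x * g) * c * (c ^ x * g)⁻¹ = c ^ r := by
    intro x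
    have : (c ^ x * g) * c * (c ^ x * g)⁻¹ = c ^ x * (g * c * g⁻¹) * (c ^ x)⁻¹ := by group
    rw [this, hr]
    have h2 : Commute (c ^ x) (c ^ r) := (Commute.refl c).pow_pow _ _
    rw [h2.eq]
    group
  have hbC : ∀ x : ℕ, c ^ x * g ∉ Subgroup.zpowers c := by
    intro x h
    rw [hzc] at h
    apply hgC
    have : g = (c ^ x)⁻¹ * (c ^ x * g) := by group
    rw [this]
    exact C.mul_mem (C.inv_mem (C.pow_mem hcC x)) h
  have hbsq : ∀ x : ℕ, (c ^ x * g) ^ 2 = c ^ (x * (1 + r) + s) := by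
    intro x
    rw [mul_pow_of_conj hr x 2, ← hs, ← pow_add]
    congr 2
    simp [Finset.sum_range_succ]
  have hpow_one : ∀ e : ℕ, ((e : ℕ) : ZMod (4 * q)) = 0 → c ^ e = 1 := by
    intro e he
    rw [← orderOf_dvd_iff_pow_eq_one, hoc, ← ZMod.natCast_eq_zero_iff]
    exact he
  have h4q : ((4 : ZMod (4 * q))) * (q : ZMod (4 * q)) = 0 := by
    have := ZMod.natCast_self (4 * q)
    push_cast at this
    exact this
  -- regroup the cases
  have hcases' : r = 4 * q - 1 ∨ (1 ≤ m ∧ r = 1 + 2 * q) ∨ (1 ≤ m ∧ r = 2 * q - 1) := by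
    rcases hcases with h | h | h
    · rcases Nat.eq_zero_or_pos m with hm | hm
      · left
        have : q = 1 := by rw [hq, hm]; norm_num
        omega
      · right; left; exact ⟨hm, h⟩
    · rcases Nat.eq_zero_or_pos m with hm | hm
      · exfalso
        have : q = 1 := by rw [hq, hm]; norm_num
        apply hrne
        omega
      · right; right; exact ⟨hm, h⟩
    · left; exact h
  rcases hcases' with h | ⟨hm, h⟩ | ⟨hm, h⟩
  · -- inversion
    have hinv : g * c * g⁻¹ = c⁻¹ := by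
      rw [hr, h]
      apply eq_inv_of_mul_eq_one_left
      rw [← pow_succ]
      have : 4 * q - 1 + 1 = orderOf c := by rw [hoc]; omega
      rw [this, pow_orderOf_eq_one]
    have h1 : g * c ^ s * g⁻¹ = (c ^ s)⁻¹ := by
      have : g * c ^ s * g⁻¹ = (g * c * g⁻¹) ^ s := (conj_pow).symm
      rw [this, hinv, inv_pow]
    have h2 : g * c ^ s * g⁻¹ = c ^ s := by rw [hs]; group
    have h3 : c ^ (s + s) = 1 := by
      rw [pow_add]
      nth_rewrite 1 [← h2]
      rw [h1]
      group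
    have h4 : 4 * q ∣ s + s := by
      rw [← hoc]; exact orderOf_dvd_of_pow_eq_one h3
    have h5 : 2 * q ∣ s := by
      obtain ⟨t, ht⟩ := h4
      refine ⟨t, ?_⟩
      have : 2 * s = 2 * (2 * q * t) := by rw [two_mul, ht]; ring
      exact Nat.eq_of_mul_eq_mul_left (by norm_num) this
    obtain ⟨t, ht⟩ := h5
    rcases Nat.even_or_odd t with ⟨t', ht'⟩ | ⟨t', ht'⟩
    · have hg2 : g ^ 2 = 1 := by
        rw [← hs]
        apply hpow_one
        rw [ht, ht']
        push_cast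
        linear_combination (t' : ZMod (4 * q)) * h4q
      refine ⟨c, g, hoc, ?_, Or.inl ⟨hg2, hinv⟩⟩
      rw [hzc]; exact hgC
    · have hg2 : g ^ 2 = c ^ (2 * q) := by
        rw [← hs]
        apply pow_eq_pow_iff_modEq.mpr
        rw [hoc, ← ZMod.natCast_eq_natCast_iff, ht, ht']
        push_cast
        linear_combination (t' : ZMod (4 * q)) * h4q
      refine ⟨c, g, hoc, ?_, Or.inr (Or.inl ⟨hg2, hinv⟩)⟩
      rw [hzc]; exact hgC
  · -- modular
    obtain ⟨m', rfl⟩ : ∃ m', m = m' + 1 := ⟨m - 1, by omega⟩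
    set Q := 2 ^ m' with hQ
    have hqQ : q = 2 * Q := by rw [hq, hQ]; ring
    have h1 : 4 * q ∣ r * s - s := (Nat.modEq_iff_dvd' (by rw [h]; nlinarith)).mp hmod.symm
    have h2 : r * s - s = 2 * q * s := by
      rw [h, add_mul, one_mul, Nat.add_sub_cancel_left]
    rw [h2] at h1
    have h3 : 2 ∣ s := by
      have : 2 * q * 2 ∣ 2 * q * s := by
        have e : 2 * q * 2 = 4 * q := by ring
        rw [e]; exact h1
      exact Nat.dvd_of_mul_dvd_mul_left (by omega) this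
    obtain ⟨s', hs'⟩ := h3
    set w := 4 * q - 1 with hw
    have hwc : ((w : ℕ) : ZMod (4 * q)) = -1 := by
      rw [hw, Nat.cast_sub (by omega), ZMod.natCast_self]
      simp
    set x := s' * (1 + q) * w with hx
    have hb2 : (c ^ x * g) ^ 2 = 1 := by
      rw [hbsq x]
      apply hpow_one
      rw [hx, h, hs']
      push_cast
      rw [hwc]
      have h4q' := h4q
      rw [hqQ] at h4q' ⊢
      push_cast at h4q' ⊢
      linear_combination (-(s' : ZMod (4 * (2 * Q))) - (Q : ZMod (4 * (2 * Q))) * (s' : ZMod (4 * (2 * Q)))) * h4q'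
    refine ⟨c, c ^ x * g, hoc, hbC x, Or.inr (Or.inr (Or.inl ⟨by omega, hb2, ?_⟩))⟩
    rw [hbconj x, h]
  · -- semidihedral
    have hqeven : 2 ∣ q := by
      rw [hq]; exact dvd_pow_self 2 (by omega)
    have h1 : 4 * q ∣ r * s - s := by
      apply (Nat.modEq_iff_dvd' _).mp hmod.symm
      rw [h]
      exact Nat.le_mul_of_pos_left s (by omega)
    have h2 : r * s - s = 2 * ((q - 1) * s) := by
      rw [h]
      obtain ⟨q', hq'⟩ : ∃ q', q = q' + 1 := ⟨q - 1, by omega⟩
      rw [hq']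
      have e : 2 * (q' + 1) - 1 = 2 * q' + 1 := by omega
      rw [e, Nat.add_sub_cancel, add_mul, one_mul, Nat.add_sub_cancel]
      ring
    rw [h2] at h1
    have h3 : 2 * q ∣ (q - 1) * s := by
      have : 2 * (2 * q) ∣ 2 * ((q - 1) * s) := by
        have e : 2 * (2 * q) = 4 * q := by ring
        rw [e]; exact h1
      exact Nat.dvd_of_mul_dvd_mul_left (by norm_num) this
    have h4 : 2 ^ (m + 1) ∣ s := by
      have hnd : ¬ 2 ∣ q - 1 := by
        obtain ⟨t, ht⟩ := hqeven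
        omega
      have e : 2 * q = 2 ^ (m + 1) := by rw [hq]; ring
      rw [e] at h3
      exact Prime.pow_dvd_of_dvd_mul_left h2p (m + 1) hnd h3
    have h5 : 2 * q ∣ s := by
      have e : 2 * q = 2 ^ (m + 1) := by rw [hq]; ring
      rw [e]; exact h4
    obtain ⟨t, ht⟩ := h5
    have hb2 : (c ^ t * g) ^ 2 = 1 := by
      rw [hbsq t]
      apply hpow_one
      have e : 1 + r = 2 * q := by omega
      rw [e, ht]
      push_cast
      linear_combination (t : ZMod (4 * q)) * h4q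
    refine ⟨c, c ^ t * g, hoc, hbC t, Or.inr (Or.inr (Or.inr ⟨by omega, hb2, ?_⟩))⟩
    rw [hbconj t, h]

end Cfsg.Agent.S0646
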