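import Mathlib
import Cfsg.Statements.S0647

set_option autoImplicit false
open Cfsg

namespace Cfsg.Agent.S0647

theorem result {S : Type*} [Group S] [Finite S] (𝒜 : Set (Subgroup S)) (hne : 𝒜.Nonempty) (hab : ∀ A ∈ 𝒜, IsMulCommutative A) (hmax : ∀ A ∈ 𝒜, ∀ B : Subgroup S, IsMulCommutative B → A ≤ B → B = A) : sInf 𝒜 = sSup 𝒜 ⊓ Subgroup.centralizer ((sSup 𝒜 : Subgroup S) : Set S) ∧ sInf 𝒜 = Subgroup.centralizer ((sSup 𝒜 : Subgroup S) : Set S) := by
  have h1 : ∀ A ∈ 𝒜, Subgroup.centralizer (A : Set S) = A := by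
    intro A hA
    have hAc : A ≤ Subgroup.centralizer (A : Set S) :=
      Subgroup.le_centralizer_iff_isMulCommutative.mpr (hab A hA)
    refine le_antisymm ?_ hAc
    intro x hx
    have hcomm : ∀ y ∈ ((A : Set S) ∪ {x}), ∀ z ∈ ((A : Set S) ∪ {x}), y * z = z * y := by
      rintro y (hy | hy) z (hz | hz)
      · exact (hAc hz y hy)
      · rw [Set.mem_singleton_iff] at hz; subst hz; exact (hx y hy)
      · rw [Set.mem_singleton_iff] at hy; subst hy; exact (hx z hz).symm
      · rw [Set.mem_singleton_iff] at hy hz; subst hy; subst hz; rfl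
    have hB := Subgroup.isMulCommutative_closure hcomm
    have hle : A ≤ Subgroup.closure ((A : Set S) ∪ {x}) := fun a ha =>
      Subgroup.subset_closure (Or.inl ha)
    have := hmax A hA _ hB hle
    rw [← this]
    exact Subgroup.subset_closure (Or.inr rfl)
  have h2 : sInf 𝒜 = Subgroup.centralizer ((sSup 𝒜 : Subgroup S) : Set S) := by
    apply le_antisymm
    · rw [Subgroup.le_centralizer_iff]
      apply sSup_le
      intro A hA
      calc A ≤ Subgroup.centralizer (A : Set S) := (h1 A hA).ge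
        _ ≤ Subgroup.centralizer ((sInf 𝒜 : Subgroup S) : Set S) :=
          Subgroup.centralizer_le (by exact_mod_cast (sInf_le hA : sInf 𝒜 ≤ A))
    · apply le_sInf
      intro A hA
      calc Subgroup.centralizer ((sSup 𝒜 : Subgroup S) : Set S)
          ≤ Subgroup.centralizer (A : Set S) :=
            Subgroup.centralizer_le (by exact_mod_cast (le_sSup hA : A ≤ sSup 𝒜))
        _ = A := h1 A hA
  refine ⟨?_, h2⟩
  obtain ⟨A₀, hA₀⟩ := hne
  rw [← h2]
  exact (inf_eq_right.mpr ((sInf_le hA₀).trans (le_sSup hA₀))).symm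

end Cfsg.Agent.S0647
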