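import Mathlib
import Cfsg.Statements.S0649

set_option autoImplicit false
open Cfsg

namespace Cfsg.Agent.S0649

theorem result {S : Type*} [Group S] [Finite S] {p : ℕ} [Fact p.Prime] (hS : IsPGroup p S) (B : Subgroup S) [B.Normal] (hB2 : p = 2 → IsMulCommutative B) (A : Subgroup S) (hA : IsMulCommutative A) (hBA : ⁅B, B⁆ ≤ A) (hnot : ¬ B ≤ Subgroup.normalizer (A : Set S)) : ∃ b ∈ B, b ∈ Subgroup.normalizer ((Subgroup.normalizer (A : Set S)) : Set S) ∧ b ∉ Subgroup.normalizer (A : Set S) := by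
  set N : Subgroup S := Subgroup.normalizer (A : Set S) with hN
  set T : Subgroup S := B ⊔ N with hT
  have hNT : N ≤ T := le_sup_right
  have hBT : B ≤ T := le_sup_left
  have hTp : IsPGroup p T := hS.to_subgroup T
  have hTnil : Group.IsNilpotent T := hTp.isNilpotent
  have hnc : NormalizerCondition T := Group.normalizerCondition_of_isNilpotent
  have hlt : N.subgroupOf T < ⊤ := by
    rw [lt_top_iff_ne_top, Ne, Subgroup.subgroupOf_eq_top]
    intro hle
    exact hnot (hBT.trans hle)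
  have hlt2 := hnc _ hlt
  rw [← Subgroup.subgroupOf_normalizer_eq hNT] at hlt2
  obtain ⟨x, hx1, hx2⟩ := SetLike.exists_of_lt hlt2
  rw [Subgroup.mem_subgroupOf] at hx1 hx2
  have hxT : (x : S) ∈ B ⊔ N := x.2
  rw [Subgroup.mem_sup_of_normal_left] at hxT
  obtain ⟨b, hb, n, hn, hbn⟩ := hxT
  refine ⟨b, hb, ?_, ?_⟩
  · have : b = (x : S) * n⁻¹ := by rw [← hbn]; group
    rw [this]
    exact mul_mem hx1 (inv_mem (Subgroup.le_normalizer hn))
  · intro hbN
    apply hx2
    rw [← hbn]
    exact mul_mem hbN hn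

end Cfsg.Agent.S0649
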