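import Cfsg.Statements.S0656
import Mathlib
import Cfsg.Agent.S0199
import Cfsg.Agent.S0623
import Cfsg.Agent.Lib.Helper1.Dickson.QuadDickson
open scoped commutatorElement

set_option autoImplicit false
open Cfsg

namespace Cfsg.Agent.S0656

/-- For odd p, a faithful group on an elementary abelian p-group with no nontrivial normal p-subgroup in which some nontrivial p-element acts quadratically has a section isomorphic to SL(2, p). -/
theorem result {G : Type*} [Group G] [Finite G] {p : ℕ} [Fact p.Prime] (hp : p ≠ 2) (V H : Subgroup G) (hV : Cfsg.IsElementaryAbelian p V) (hHV : H ≤ Subgroup.normalizer (V : Set G)) (hf : H ⊓ Subgroup.centralizer (V : Set G) = ⊥) (hO : Cfsg.pCore p ↥H = ⊥) (x : G) (hxH : x ∈ H) (hx1 : x ≠ 1) (hxp : ∃ k : ℕ, orderOf x = p ^ k) (hq : ⁅⁅V, Subgroup.zpowers x⁆, Subgroup.zpowers x⁆ = ⊥) : ∃ (K L : Subgroup G) (hL : (L.subgroupOf K).Normal), K ≤ H ∧ Nonempty ((K ⧸ L.subgroupOf K) ≃* Matrix.SpecialLinearGroup (Fin 2) (ZMod p)) := by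
  classical
  have hpp : p.Prime := Fact.out
  set x' : H := ⟨x, hxH⟩ with hx'
  have hXp : IsPGroup p (Subgroup.zpowers x') := by
    obtain ⟨k, hk⟩ := hxp
    apply IsPGroup.of_card (n := k)
    rw [Nat.card_zpowers, ← hk]
    exact Subgroup.orderOf_mk x hxH
  have hex : ∃ g : H, ¬ IsPGroup p ↥(Subgroup.zpowers x' ⊔
      (Subgroup.zpowers x').map (MulAut.conj g).toMonoidHom) := by
    by_contra hcon
    push Not at hcon
    obtain ⟨N, hN, hNp, hXN⟩ := Cfsg.Agent.S0199.result (Subgroup.zpowers x') hXp hcon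
    have hle : N ≤ Cfsg.pCore p ↥H := le_sSup ⟨hN, hNp⟩
    rw [hO] at hle
    have : x' ∈ (⊥ : Subgroup H) := hle (hXN (Subgroup.mem_zpowers x'))
    rw [Subgroup.mem_bot] at this
    exact hx1 (congrArg Subtype.val this)
  obtain ⟨g, hg⟩ := hex
  set b : G := (g : G) * x * (g : G)⁻¹ with hb
  have hbH : b ∈ H := H.mul_mem (H.mul_mem g.2 hxH) (H.inv_mem g.2)
  set H' : Subgroup G := Subgroup.closure {x, b} with hH'
  have hH'H : H' ≤ H := by
    rw [hH', Subgroup.closure_le]
    rintro y (rfl | hy)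
    · exact hxH
    · rw [Set.mem_singleton_iff] at hy
      rw [hy]
      exact hbH
  have hnp : ¬ IsPGroup p H' := by
    intro hH'p
    apply hg
    have hcomap : IsPGroup p (H'.comap H.subtype) :=
      hH'p.comap_of_injective H.subtype H.subtype_injective
    apply hcomap.to_le
    rw [sup_le_iff]
    constructor
    · rw [Subgroup.zpowers_le, Subgroup.mem_comap]
      exact Subgroup.subset_closure (Or.inl rfl)
    · rw [MonoidHom.map_zpowers, Subgroup.zpowers_le, Subgroup.mem_comap]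
      exact Subgroup.subset_closure (Or.inr rfl)
  have hHV' : H' ≤ Subgroup.normalizer (V : Set G) := hH'H.trans hHV
  have hf' : H' ⊓ Subgroup.centralizer (V : Set G) = ⊥ := by
    rw [eq_bot_iff, ← hf]
    exact inf_le_inf_right _ hH'H
  have hqb : ⁅⁅V, Subgroup.zpowers b⁆, Subgroup.zpowers b⁆ = ⊥ := by
    rw [Cfsg.Agent.S0623.quad_iff] at hq ⊢
    intro v hv i
    set c := MulAut.conj (g : G) with hc
    have hv' : c.symm v ∈ V := by
      have hgN : (g : G)⁻¹ ∈ Subgroup.normalizer (V : Set G) :=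
        Subgroup.inv_mem _ (hHV g.2)
      have := (Subgroup.mem_normalizer_iff.mp hgN v).mp hv
      rw [inv_inv] at this
      rw [hc, MulAut.conj_symm_apply]
      exact this
    have h1 := hq _ hv' i
    have h2 : Commute (c ⁅c.symm v, x ^ i⁆) (c x) := h1.map c
    rw [map_commutatorElement, MulEquiv.apply_symm_apply, map_zpow] at h2
    have hcx : c x = b := by rw [hc, MulAut.conj_apply]
    rw [hcx] at h2
    exact h2
  obtain ⟨hVc, hVp⟩ := hV
  letI : CommGroup ↥V := { (inferInstance : Group ↥V) with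
    mul_comm := fun u v => hVc.is_comm.comm u v }
  have haH : x ∈ H' := by rw [hH']; exact Subgroup.subset_closure (by simp)
  have hbH' : b ∈ H' := by rw [hH']; exact Subgroup.subset_closure (by simp)
  have hgen : Subgroup.closure ({⟨x, haH⟩, ⟨b, hbH'⟩} : Set H') = ⊤ := by
    apply Subgroup.map_injective H'.subtype_injective
    rw [MonoidHom.map_closure, ← MonoidHom.range_eq_map, Subgroup.range_subtype, Set.image_pair]
    exact hH'.symm
  have hE : ∀ v : V, v ^ p = 1 := by
    intro v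
    apply Subtype.ext
    rw [Subgroup.coe_pow, Subgroup.coe_one]
    exact hVp v v.2
  have hinj : Function.Injective (Cfsg.Agent.S0593.conjAut V H' hHV') := by
    rw [injective_iff_map_eq_one]
    intro y hy
    have hgc : (y : G) ∈ H' ⊓ Subgroup.centralizer (V : Set G) := by
      refine ⟨y.2, (?_ : (y : G) ∈ Subgroup.centralizer (V : Set G))⟩
      rw [Subgroup.mem_centralizer_iff]
      intro v hv
      have h1 := congrArg (fun f : MulAut ↥V => ((f ⟨v, hv⟩ : V) : G)) hy
      simp only [Cfsg.Agent.S0593.conjAut_apply, MulAut.one_apply] at h1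
      calc v * (y : G) = ((y : G) * v * (y : G)⁻¹) * (y : G) := by rw [h1]
        _ = (y : G) * v := by group
    rw [hf', Subgroup.mem_bot] at hgc
    exact Subtype.ext hgc
  have hquad : ∀ (c : G) (hc : c ∈ H'), ⁅⁅V, Subgroup.zpowers c⁆, Subgroup.zpowers c⁆ = ⊥ →
      Cfsg.Agent.Lib.Helper5.QuadA (Cfsg.Agent.S0593.conjAut V H' hHV') ⟨c, hc⟩ := by
    intro c hc hq v
    rw [Cfsg.Agent.S0623.quad_iff] at hq
    have h1 := hq v v.2 1
    rw [zpow_one] at h1
    apply Subtype.ext
    rw [Cfsg.Agent.S0593.conjAut_apply, Subgroup.coe_div, Cfsg.Agent.S0593.conjAut_apply]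
    show c * (c * v * c⁻¹ / v) * c⁻¹ = c * v * c⁻¹ / v
    have h2 : c * (v : G) * c⁻¹ / v = ⁅(v : G), c⁆⁻¹ := by
      rw [commutatorElement_def, div_eq_mul_inv]; group
    rw [h2]
    have h3 : Commute (⁅(v : G), c⁆⁻¹) c := h1.inv_left
    rw [← h3.eq]
    group
  letI : Module (ZMod p) (Additive ↥V) := AddCommGroup.zmodModule (n := p) (by
    intro v
    show Additive.ofMul (v.toMul ^ p) = 0
    rw [hE]; rfl)
  have hnp' : ¬ IsPGroup p ↥H' := hnp
  obtain ⟨Y, f, hfs⟩ := Cfsg.Agent.Lib.Helper1.Dickson.quad_dickson_abs hp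
    (Cfsg.Agent.S0593.conjAut V H' hHV') hinj ⟨x, haH⟩ ⟨b, hbH'⟩ hgen
    (hquad x haH hq) (hquad b hbH' hqb) hnp'
  obtain ⟨K, L, hL, hKH, hiso⟩ := Cfsg.Agent.S0594.section_of_surj H' Y f hfs
  exact ⟨K, L, hL, hKH.trans hH'H, hiso⟩

end Cfsg.Agent.S0656
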