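import Mathlib
import Cfsg.Statements.S0660
import Cfsg.Agent.Lib.Lead.Coprime
import Cfsg.Agent.Lib.Helper5.Glauberman

set_option autoImplicit false
open Cfsg

namespace Cfsg.Agent.S0660

open scoped IsMulCommutative Pointwise
open Cfsg.Agent.Lib.Lead Cfsg.Agent.Lib.Helper5

theorem exists_proj {V : Type*} [CommGroup V] (U W : Subgroup V) (h1 : U ⊓ W = ⊥)
    (h2 : U ⊔ W = ⊤) : ∃ π : V →* V, (∀ v, π v ∈ U) ∧ ∀ u ∈ U, π u = u := by
  have hbij : Function.Bijective ((U.subtype).coprod (W.subtype)) := by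
    constructor
    · rintro ⟨u, w⟩ ⟨u', w'⟩ h
      simp only [MonoidHom.coprod_apply, Subgroup.coe_subtype] at h
      have h3 : (u' : V)⁻¹ * u = w' * (w : V)⁻¹ := by
        calc (u' : V)⁻¹ * u = (u' : V)⁻¹ * (u * w) * (w : V)⁻¹ := by group
          _ = (u' : V)⁻¹ * (u' * w') * (w : V)⁻¹ := by rw [h]
          _ = w' * (w : V)⁻¹ := by group
      have h4 : (u' : V)⁻¹ * u ∈ U ⊓ W := by
        refine Subgroup.mem_inf.mpr ⟨U.mul_mem (U.inv_mem u'.2) u.2, ?_⟩
        rw [h3]; exact W.mul_mem w'.2 (W.inv_mem w.2)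
      rw [h1, Subgroup.mem_bot] at h4
      have h5 : (u : V) = u' := by
        have := inv_mul_eq_one.mp h4
        exact this.symm
      have h6 : (w : V) = w' := by
        rw [h5] at h
        exact mul_left_cancel h
      exact Prod.ext (Subtype.ext h5) (Subtype.ext h6)
    · intro v
      have hv : v ∈ U ⊔ W := by rw [h2]; trivial
      obtain ⟨y, hy, z, hz, hyz⟩ := Subgroup.mem_sup.mp hv
      exact ⟨(⟨y, hy⟩, ⟨z, hz⟩), by simpa using hyz⟩
  let e := MulEquiv.ofBijective _ hbij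
  refine ⟨U.subtype.comp ((MonoidHom.fst U W).comp e.symm.toMonoidHom), ?_, ?_⟩
  · intro v
    simp
  · intro u hu
    have h3 : e.symm u = (⟨u, hu⟩, 1) := by
      rw [MulEquiv.symm_apply_eq]
      simp [e]
    simp [h3]

theorem result {G : Type*} [Group G] [Finite G] (V A U : Subgroup G) (hVab : IsMulCommutative V) (hAV : A ≤ Subgroup.normalizer (V : Set G)) (hcop : (Nat.card A).Coprime (Nat.card V)) (hUV : U ≤ V) (hAU : A ≤ Subgroup.normalizer (U : Set G)) (W : Subgroup G) (hWV : W ≤ V) (hUW : U ⊓ W = ⊥) (hUWV : U ⊔ W = V) : ∃ W' : Subgroup G, W' ≤ V ∧ A ≤ Subgroup.normalizer (W' : Set G) ∧ U ⊓ W' = ⊥ ∧ U ⊔ W' = V := by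
  classical
  letI : Fintype A := Fintype.ofFinite A
  have h1 : U.subgroupOf V ⊓ W.subgroupOf V = ⊥ := by
    rw [eq_bot_iff]
    intro x hx
    obtain ⟨hxU, hxW⟩ := Subgroup.mem_inf.mp hx
    rw [Subgroup.mem_subgroupOf] at hxU hxW
    have : (x : G) ∈ U ⊓ W := Subgroup.mem_inf.mpr ⟨hxU, hxW⟩
    rw [hUW, Subgroup.mem_bot] at this
    rw [Subgroup.mem_bot]
    exact Subtype.ext this
  have h2 : U.subgroupOf V ⊔ W.subgroupOf V = ⊤ := by
    rw [← Subgroup.subgroupOf_sup hUV hWV, hUWV, Subgroup.subgroupOf_self]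
  obtain ⟨π, hπU, hπid⟩ := exists_proj (U.subgroupOf V) (W.subgroupOf V) h1 h2
  have hAinv : ∀ a : A, (a : G)⁻¹ ∈ Subgroup.normalizer (V : Set G) :=
    fun a => Subgroup.inv_mem _ (hAV a.2)
  have hconjU : ∀ (a : G) (ha : a ∈ Subgroup.normalizer (V : Set G)),
      a ∈ Subgroup.normalizer (U : Set G) → ∀ x ∈ U.subgroupOf V,
      conjAut V a ha x ∈ U.subgroupOf V := by
    intro a ha haU x hx
    rw [Subgroup.mem_subgroupOf] at hx ⊢
    rw [conjAut_coe]
    exact (Subgroup.mem_normalizer_iff.mp haU _).mp hx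
  let θ : V →* V := ∏ a : A, ((conjAut V (a : G)⁻¹ (hAinv a)).toMonoidHom.comp
    (π.comp (conjAut V (a : G) (hAV a.2)).toMonoidHom))
  have hθ : ∀ v : V, θ v = ∏ a : A, conjAut V (a : G)⁻¹ (hAinv a)
      (π (conjAut V (a : G) (hAV a.2) v)) := by
    intro v
    simp only [θ]
    rw [MonoidHom.finsetProd_apply]
    rfl
  have hθU : ∀ v : V, θ v ∈ U.subgroupOf V := by
    intro v
    rw [hθ]
    apply Subgroup.prod_mem
    intro a _
    exact hconjU _ _ (Subgroup.inv_mem _ (hAU a.2)) _ (hπU _)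
  have hθu : ∀ u ∈ U.subgroupOf V, θ u = u ^ Fintype.card A := by
    intro u hu
    rw [hθ]
    have : ∀ a : A, conjAut V (a : G)⁻¹ (hAinv a) (π (conjAut V (a : G) (hAV a.2) u)) = u := by
      intro a
      rw [hπid _ (hconjU _ _ (hAU a.2) u hu)]
      apply Subtype.ext
      rw [conjAut_coe, conjAut_coe]
      group
    simp only [this, Finset.prod_const, Finset.card_univ]
  have hθconj : ∀ (b : A) (v : V), θ (conjAut V (b : G) (hAV b.2) v) =
      conjAut V (b : G) (hAV b.2) (θ v) := by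
    intro b v
    rw [hθ, hθ, map_prod]
    apply Fintype.prod_equiv (Equiv.mulRight b)
    intro a
    have e1 : conjAut V (a : G) (hAV a.2) (conjAut V (b : G) (hAV b.2) v) =
        conjAut V ((Equiv.mulRight b a : A) : G) (hAV (Equiv.mulRight b a).2) v := by
      apply Subtype.ext
      simp only [conjAut_coe, Equiv.coe_mulRight, Subgroup.coe_mul]
      group
    rw [e1]
    apply Subtype.ext
    simp only [conjAut_coe, Equiv.coe_mulRight, Subgroup.coe_mul]
    group
  have hcardA : Fintype.card A = Nat.card A := (Nat.card_eq_fintype_card).symm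
  refine ⟨θ.ker.map V.subtype, Subgroup.map_subtype_le _, ?_, ?_, ?_⟩
  · intro b hb
    apply h5g_mem_normalizer_of_conj_le
    rintro _ ⟨v, hv, rfl⟩
    refine ⟨conjAut V b (hAV hb) v, ?_, rfl⟩
    rw [SetLike.mem_coe, MonoidHom.mem_ker] at hv ⊢
    have := hθconj ⟨b, hb⟩ v
    simp only at this
    rw [this, hv, map_one]
  · rw [eq_bot_iff]
    rintro x hx
    obtain ⟨hxU, v, hv, rfl⟩ := Subgroup.mem_inf.mp hx
    rw [SetLike.mem_coe, MonoidHom.mem_ker] at hv
    have hvU : v ∈ U.subgroupOf V := by rw [Subgroup.mem_subgroupOf]; exact hxU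
    rw [hθu v hvU, hcardA] at hv
    have hv2 : v ^ Nat.card V = 1 := pow_card_eq_one'
    have h3 : orderOf v ∣ Nat.gcd (Nat.card A) (Nat.card V) :=
      Nat.dvd_gcd (orderOf_dvd_of_pow_eq_one hv) (orderOf_dvd_of_pow_eq_one hv2)
    rw [hcop.gcd_eq_one, Nat.dvd_one] at h3
    have h4 : v = 1 := orderOf_eq_one_iff.mp h3
    rw [Subgroup.mem_bot, h4]
    rfl
  · apply le_antisymm (sup_le hUV (Subgroup.map_subtype_le _))
    intro x hx
    have hcopU : (Nat.card (U.subgroupOf V)).Coprime (Nat.card A) :=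
      Nat.Coprime.coprime_dvd_left (Subgroup.card_subgroup_dvd_card _) hcop.symm
    obtain ⟨u, hu⟩ := (powCoprime hcopU).surjective ⟨θ ⟨x, hx⟩, hθU _⟩
    rw [powCoprime_apply] at hu
    have hu' : (u : V) ^ Nat.card A = θ ⟨x, hx⟩ := by
      have := congrArg Subtype.val hu
      simpa using this
    have hker : (⟨x, hx⟩ : V) * (u : V)⁻¹ ∈ θ.ker := by
      rw [MonoidHom.mem_ker, map_mul, map_inv, hθu _ u.2, hcardA, hu', mul_inv_cancel]
    have hxe : x = (((⟨x, hx⟩ : V) * (u : V)⁻¹ : V) : G) * ((u : V) : G) := by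
      simp
    rw [hxe]
    refine Subgroup.mul_mem _ (Subgroup.mem_sup_right ⟨_, hker, rfl⟩) (Subgroup.mem_sup_left ?_)
    have := u.2
    rwa [Subgroup.mem_subgroupOf] at this

end Cfsg.Agent.S0660
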