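import Mathlib
import Cfsg.Statements.S0663
import Cfsg.Agent.Lib.Lead.Coprime
import Cfsg.Agent.Lib.Helper5.Card

set_option autoImplicit false

open Cfsg

namespace Cfsg.Agent.S0663

open scoped commutatorElement Pointwise
open Cfsg.Agent.Lib.Helper5

section
variable {L : Type*} [Group L] {N G : Subgroup L}

theorem ic_norm (hGN : G ≤ Subgroup.normalizer (N : Set L)) :
    ∀ i, G ≤ Subgroup.normalizer ((Cfsg.iterCommutator N G i : Subgroup L) : Set L)
  | 0 => hGN
  | i + 1 => Cfsg.Agent.Lib.Lead.right_le_normalizer_commutator _ G (ic_norm hGN i)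

theorem ic_succ_le (hGN : G ≤ Subgroup.normalizer (N : Set L)) (i : ℕ) :
    Cfsg.iterCommutator N G (i + 1) ≤ Cfsg.iterCommutator N G i :=
  Subgroup.le_normalizer_iff_commutator_le_left.mp (ic_norm hGN i)

theorem ic_antitone (hGN : G ≤ Subgroup.normalizer (N : Set L)) :
    ∀ i j, i ≤ j → Cfsg.iterCommutator N G j ≤ Cfsg.iterCommutator N G i := by
  intro i j hij
  induction hij with
  | refl => exact le_rfl
  | step _ ih => exact le_trans (ic_succ_le hGN _) ih

theorem ic_le (hGN : G ≤ Subgroup.normalizer (N : Set L)) (i : ℕ) :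
    Cfsg.iterCommutator N G i ≤ N :=
  ic_antitone hGN 0 i (Nat.zero_le i)

theorem ic_bot_succ {i : ℕ} (h : Cfsg.iterCommutator N G i = ⊥) :
    Cfsg.iterCommutator N G (i + 1) = ⊥ := by
  change ⁅Cfsg.iterCommutator N G i, G⁆ = ⊥
  rw [h, Subgroup.commutator_bot_left]

theorem ic_bot_of_le {i j : ℕ} (hij : i ≤ j) (h : Cfsg.iterCommutator N G i = ⊥) :
    Cfsg.iterCommutator N G j = ⊥ := by
  induction hij with
  | refl => exact h
  | step _ ih => exact ic_bot_succ ih

variable [Finite L] {p : ℕ} [Fact p.Prime]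

theorem comm_lt {H : Subgroup L} (hH : IsPGroup p H) (hG : IsPGroup p G)
    (hGH : G ≤ Subgroup.normalizer (H : Set L)) (hne : H ≠ ⊥) : ⁅H, G⁆ < H := by
  have hp : IsPGroup p (H ⊔ G : Subgroup L) := IsPGroup.to_sup_of_normal_left' hH hG hGH
  have hnil : Group.IsNilpotent (H ⊔ G : Subgroup L) := hp.isNilpotent
  have h1 := Cfsg.Agent.Lib.Lead.commutator_lt_of_nilpotent H (H ⊔ G) le_sup_left
    (sup_le Subgroup.le_normalizer hGH) hnil hne
  exact lt_of_le_of_lt (Subgroup.commutator_mono le_rfl le_sup_right) h1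

theorem card_pow_of_le (hN : IsPGroup p N) {H : Subgroup L} (hHN : H ≤ N) :
    ∃ e : ℕ, Nat.card H = p ^ e :=
  IsPGroup.iff_card.mp (hN.to_le hHN)

theorem card_lt_of_lt {H K : Subgroup L} (h : H < K) : Nat.card H < Nat.card K := by
  by_contra hcon
  push Not at hcon
  exact (ne_of_lt h) (Subgroup.eq_of_le_of_card_ge h.le hcon)

theorem chainB (hN : IsPGroup p N) (hGN : G ≤ Subgroup.normalizer (N : Set L)) (n : ℕ)
    (hn : Nat.card N = p ^ n)
    (hU : ∀ H : Subgroup L, H ≤ N → G ≤ Subgroup.normalizer (H : Set L) → H ≠ ⊥ →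
      (⁅H, G⁆).relIndex H = p) :
    ∀ i ≤ n, Nat.card (Cfsg.iterCommutator N G i) = p ^ (n - i) := by
  have hp : p.Prime := Fact.out
  intro i
  induction i with
  | zero => intro _; exact hn
  | succ i ih =>
    intro hi
    have hi' : i ≤ n := by omega
    have h1 := ih hi'
    have hne : Cfsg.iterCommutator N G i ≠ ⊥ := by
      intro h
      rw [h, Subgroup.card_bot] at h1
      have : 1 < p ^ (n - i) := Nat.one_lt_pow (by omega) hp.one_lt
      omega
    have h2 := hU _ (ic_le hGN i) (ic_norm hGN i) hne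
    have h3 := card_mul_relIndex_of_le (ic_succ_le hGN i)
    change Nat.card ↥(Cfsg.iterCommutator N G (i + 1)) *
      (⁅Cfsg.iterCommutator N G i, G⁆).relIndex (Cfsg.iterCommutator N G i) = _ at h3
    rw [h2, h1] at h3
    have h4 : p ^ (n - i) = p ^ (n - (i + 1)) * p := by
      rw [← pow_succ]; congr 1; omega
    rw [h4] at h3
    exact Nat.eq_of_mul_eq_mul_right hp.pos h3

theorem pow_succ_le_of_lt {a b : ℕ} (hp : 1 < p) (h : p ^ a < p ^ b) : p ^ (a + 1) ≤ p ^ b := by
  have := (Nat.pow_lt_pow_iff_right hp).mp h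
  exact Nat.pow_le_pow_right (by omega) this

theorem chainC (hN : IsPGroup p N) (hG : IsPGroup p G)
    (hGN : G ≤ Subgroup.normalizer (N : Set L)) (n : ℕ)
    (hn : Nat.card N = p ^ n)
    (h : Cfsg.iterCommutator N G (n - 1) ≠ ⊥ ∨ n = 0) :
    ∀ i ≤ n, Nat.card (Cfsg.iterCommutator N G i) = p ^ (n - i) := by
  have hp : p.Prime := Fact.out
  rcases Nat.eq_zero_or_pos n with hn0 | hnpos
  · subst hn0
    intro i hi
    have : i = 0 := by omega
    subst this
    exact hn
  have hne1 : Cfsg.iterCommutator N G (n - 1) ≠ ⊥ := by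
    rcases h with h | h
    · exact h
    · omega
  have hne : ∀ i ≤ n - 1, Cfsg.iterCommutator N G i ≠ ⊥ := by
    intro i hi hbot
    exact hne1 (ic_bot_of_le hi hbot)
  have hlt : ∀ i ≤ n - 1, Nat.card (Cfsg.iterCommutator N G (i + 1)) <
      Nat.card (Cfsg.iterCommutator N G i) := by
    intro i hi
    apply card_lt_of_lt
    exact comm_lt (hN.to_le (ic_le hGN i)) hG (ic_norm hGN i) (hne i hi)
  have hupper : ∀ i ≤ n, Nat.card (Cfsg.iterCommutator N G i) ≤ p ^ (n - i) := by
    intro i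
    induction i with
    | zero => intro _; exact le_of_eq hn
    | succ i ih =>
      intro hi
      have h1 := ih (by omega)
      have h2 := hlt i (by omega)
      obtain ⟨e, he⟩ := card_pow_of_le hN (ic_le hGN (i + 1))
      rw [he] at h2 ⊢
      have h3 : p ^ e < p ^ (n - i) := lt_of_lt_of_le h2 h1
      have h4 := pow_succ_le_of_lt hp.one_lt h3
      have h5 : n - i = (n - (i + 1)) + 1 := by omega
      rw [h5] at h4
      exact (Nat.pow_le_pow_iff_right hp.one_lt).mpr
        (by have := (Nat.pow_le_pow_iff_right hp.one_lt).mp h4; omega)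
  have hlower : ∀ k ≤ n - 1, p ^ (k + 1) ≤ Nat.card (Cfsg.iterCommutator N G (n - 1 - k)) := by
    intro k
    induction k with
    | zero =>
      intro _
      obtain ⟨e, he⟩ := card_pow_of_le hN (ic_le hGN (n - 1))
      rw [Nat.sub_zero, he]
      apply Nat.pow_le_pow_right hp.pos
      rcases Nat.eq_zero_or_pos e with h0 | h0
      · exfalso
        rw [h0, pow_zero] at he
        exact hne1 ((Subgroup.card_eq_one).mp he)
      · omega
    | succ k ih =>
      intro hk
      have h1 := ih (by omega)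
      have h2 := hlt (n - 1 - (k + 1)) (by omega)
      have h3 : n - 1 - (k + 1) + 1 = n - 1 - k := by omega
      rw [h3] at h2
      obtain ⟨e, he⟩ := card_pow_of_le hN (ic_le hGN (n - 1 - (k + 1)))
      rw [he] at h2 ⊢
      have h4 : p ^ (k + 1) < p ^ e := lt_of_le_of_lt h1 h2
      exact pow_succ_le_of_lt hp.one_lt h4
  intro i hi
  rcases Nat.lt_or_ge i n with hlt' | hge
  · apply le_antisymm (hupper i hi)
    have := hlower (n - 1 - i) (by omega)
    have e1 : n - 1 - (n - 1 - i) = i := by omega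
    have e2 : n - 1 - i + 1 = n - i := by omega
    rwa [e1, e2] at this
  · have : i = n := by omega
    subst this
    have h1 := hupper i le_rfl
    rw [Nat.sub_self, pow_zero] at h1 ⊢
    have : 0 < Nat.card (Cfsg.iterCommutator N G i) := Nat.card_pos
    omega

theorem ic_bot_ge (n : ℕ)
    (hC : ∀ i ≤ n, Nat.card (Cfsg.iterCommutator N G i) = p ^ (n - i)) :
    ∀ i, n ≤ i → Cfsg.iterCommutator N G i = ⊥ := by
  intro i hi
  apply ic_bot_of_le hi
  have := hC n le_rfl
  rw [Nat.sub_self, pow_zero] at this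
  exact Subgroup.card_eq_one.mp this

theorem D1 (hN : IsPGroup p N) (hG : IsPGroup p G)
    (hGN : G ≤ Subgroup.normalizer (N : Set L)) (n : ℕ)
    (hC : ∀ i ≤ n, Nat.card (Cfsg.iterCommutator N G i) = p ^ (n - i)) :
    ∀ i, N ⊔ G ≤ Subgroup.normalizer ((Cfsg.iterCommutator N G i : Subgroup L) : Set L) := by
  have hp : p.Prime := Fact.out
  have hΓp : IsPGroup p (N ⊔ G : Subgroup L) := IsPGroup.to_sup_of_normal_left' hN hG hGN
  have hnil : Group.IsNilpotent (N ⊔ G : Subgroup L) := hΓp.isNilpotent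
  intro i
  induction i with
  | zero => exact sup_le Subgroup.le_normalizer hGN
  | succ i ih =>
    rcases Nat.lt_or_ge i n with hi | hi
    · have hne : Cfsg.iterCommutator N G i ≠ ⊥ := by
        intro h
        have h1 := hC i hi.le
        rw [h, Subgroup.card_bot] at h1
        have : 1 < p ^ (n - i) := Nat.one_lt_pow (by omega) hp.one_lt
        omega
      have hlt := Cfsg.Agent.Lib.Lead.commutator_lt_of_nilpotent (Cfsg.iterCommutator N G i)
        (N ⊔ G) (le_trans (ic_le hGN i) le_sup_left) ih hnil hne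
      have hle : Cfsg.iterCommutator N G (i + 1) ≤ ⁅Cfsg.iterCommutator N G i, N ⊔ G⁆ :=
        Subgroup.commutator_mono le_rfl le_sup_right
      have heq : Cfsg.iterCommutator N G (i + 1) = ⁅Cfsg.iterCommutator N G i, N ⊔ G⁆ := by
        apply Subgroup.eq_of_le_of_card_ge hle
        rw [hC (i + 1) hi]
        have h1 := card_lt_of_lt hlt
        rw [hC i hi.le] at h1
        obtain ⟨e, he⟩ := card_pow_of_le hN (le_trans hlt.le (ic_le hGN i))
        rw [he] at h1 ⊢
        have h2 := pow_succ_le_of_lt hp.one_lt h1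
        have h3 : n - i = (n - (i + 1)) + 1 := by omega
        rw [h3] at h2
        exact (Nat.pow_le_pow_iff_right hp.one_lt).mpr
          (by have := (Nat.pow_le_pow_iff_right hp.one_lt).mp h2; omega)
      rw [heq]
      exact Cfsg.Agent.Lib.Lead.right_le_normalizer_commutator _ _ ih
    · rw [ic_bot_ge n hC (i + 1) (by omega)]
      intro x _
      rw [Subgroup.mem_normalizer_iff]
      intro h
      simp

theorem lemX (hGN : G ≤ Subgroup.normalizer (N : Set L))
    (hnorm : ∀ i, N ≤ Subgroup.normalizer ((Cfsg.iterCommutator N G i : Subgroup L) : Set L))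
    {K : Subgroup L} (hKN : K ≤ N) (hGK : G ≤ Subgroup.normalizer (K : Set L)) (j : ℕ)
    (hsup : Cfsg.iterCommutator N G j ≤ K ⊔ Cfsg.iterCommutator N G (j + 1)) :
    ∀ m, j + 1 ≤ m → Cfsg.iterCommutator N G j ≤ K ⊔ Cfsg.iterCommutator N G m := by
  intro m hm
  induction hm with
  | refl => exact hsup
  | @step m hm ih =>
    have h1 : ⁅K ⊔ Cfsg.iterCommutator N G m, G⁆ ≤ K ⊔ Cfsg.iterCommutator N G (m + 1) := by
      rw [Subgroup.commutator_le]
      intro x hx g hg
      have hx' : x ∈ ((K ⊔ Cfsg.iterCommutator N G m : Subgroup L) : Set L) := hx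
      rw [Subgroup.coe_mul_of_left_le_normalizer_right _ _ (le_trans hKN (hnorm m))] at hx'
      obtain ⟨k, hk, y, hy, hky⟩ := Set.mem_mul.mp hx'
      have hky' : k * y = x := hky
      have e1 : ⁅x, g⁆ = (k * ⁅y, g⁆ * k⁻¹) * ⁅k, g⁆ := by
        rw [← hky']; simp only [commutatorElement_def]; group
      have hyg : ⁅y, g⁆ ∈ Cfsg.iterCommutator N G (m + 1) :=
        Subgroup.commutator_mem_commutator hy hg
      have h2 : k * ⁅y, g⁆ * k⁻¹ ∈ Cfsg.iterCommutator N G (m + 1) :=
        (Subgroup.mem_normalizer_iff.mp (hnorm (m + 1) (hKN hk)) _).mp hyg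
      have h3 : ⁅k, g⁆ ∈ K := by
        have h4 : g * k⁻¹ * g⁻¹ ∈ K :=
          (Subgroup.mem_normalizer_iff.mp (hGK hg) _).mp (K.inv_mem hk)
        have e2 : ⁅k, g⁆ = k * (g * k⁻¹ * g⁻¹) := by
          simp only [commutatorElement_def]; group
        rw [e2]
        exact K.mul_mem hk h4
      rw [e1]
      exact Subgroup.mul_mem _ (Subgroup.mem_sup_right h2) (Subgroup.mem_sup_left h3)
    have h2 : Cfsg.iterCommutator N G (j + 1) ≤ K ⊔ Cfsg.iterCommutator N G (m + 1) :=
      le_trans (Subgroup.commutator_mono ih le_rfl) h1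
    exact le_trans hsup (sup_le le_sup_left h2)

theorem D2 (hN : IsPGroup p N) (hG : IsPGroup p G)
    (hGN : G ≤ Subgroup.normalizer (N : Set L)) (n : ℕ)
    (hC : ∀ i ≤ n, Nat.card (Cfsg.iterCommutator N G i) = p ^ (n - i))
    (H : Subgroup L) (hHN : H ≤ N) (hGH : G ≤ Subgroup.normalizer (H : Set L)) :
    ∃ i ≤ n, H = Cfsg.iterCommutator N G i := by
  classical
  have hp : p.Prime := Fact.out
  have hnorm : ∀ i, N ≤ Subgroup.normalizer ((Cfsg.iterCommutator N G i : Subgroup L) : Set L) :=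
    fun i => le_trans le_sup_left (D1 hN hG hGN n hC i)
  have hbotn : Cfsg.iterCommutator N G n = ⊥ := ic_bot_ge n hC n le_rfl
  by_cases hH : H = ⊥
  · exact ⟨n, le_rfl, by rw [hH, hbotn]⟩
  have hP0 : H ≤ Cfsg.iterCommutator N G 0 := hHN
  have hspec : H ≤ Cfsg.iterCommutator N G
      (Nat.findGreatest (fun i => H ≤ Cfsg.iterCommutator N G i) n) :=
    Nat.findGreatest_spec (P := fun i => H ≤ Cfsg.iterCommutator N G i) (Nat.zero_le n) hP0
  have hle : Nat.findGreatest (fun i => H ≤ Cfsg.iterCommutator N G i) n ≤ n :=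
    Nat.findGreatest_le n
  generalize hi : Nat.findGreatest (fun i => H ≤ Cfsg.iterCommutator N G i) n = i at hspec hle
  have hin : i ≠ n := by
    intro h
    rw [h, hbotn] at hspec
    exact hH (le_bot_iff.mp hspec)
  have hlt : i < n := lt_of_le_of_ne hle hin
  have hnot : ¬ H ≤ Cfsg.iterCommutator N G (i + 1) :=
    Nat.findGreatest_is_greatest (P := fun i => H ≤ Cfsg.iterCommutator N G i)
      (by rw [hi]; exact Nat.lt_succ_self i) hlt
  have hsuple : H ⊔ Cfsg.iterCommutator N G (i + 1) ≤ Cfsg.iterCommutator N G i :=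
    sup_le hspec (ic_succ_le hGN i)
  have hsupeq : H ⊔ Cfsg.iterCommutator N G (i + 1) = Cfsg.iterCommutator N G i := by
    apply Subgroup.eq_of_le_of_card_ge hsuple
    have hlt2 : Cfsg.iterCommutator N G (i + 1) < H ⊔ Cfsg.iterCommutator N G (i + 1) := by
      refine lt_of_le_of_ne le_sup_right ?_
      intro h
      apply hnot
      rw [h]
      exact le_sup_left
    have h1 := card_lt_of_lt hlt2
    rw [hC (i + 1) hlt] at h1
    rw [hC i hle]
    obtain ⟨e, he⟩ := card_pow_of_le hN (le_trans hsuple (ic_le hGN i))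
    rw [he] at h1 ⊢
    have h2 := pow_succ_le_of_lt hp.one_lt h1
    have h3 : n - (i + 1) + 1 = n - i := by omega
    rwa [h3] at h2
  have hX := lemX hGN hnorm hHN hGH i (le_of_eq hsupeq.symm) n hlt
  rw [hbotn, sup_bot_eq] at hX
  exact ⟨i, hle, le_antisymm hspec hX⟩

theorem thmE (hN : IsPGroup p N) (hG : IsPGroup p G)
    (hGN : G ≤ Subgroup.normalizer (N : Set L)) (n : ℕ)
    (hC : ∀ i ≤ n, Nat.card (Cfsg.iterCommutator N G i) = p ^ (n - i)) :
    ∀ H : Subgroup L, H ≤ N → G ≤ Subgroup.normalizer (H : Set L) → H ≠ ⊥ →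
      (⁅H, G⁆).relIndex H = p := by
  have hp : p.Prime := Fact.out
  intro H hHN hGH hne
  obtain ⟨i, hi, rfl⟩ := D2 hN hG hGN n hC H hHN hGH
  have hbotn : Cfsg.iterCommutator N G n = ⊥ := ic_bot_ge n hC n le_rfl
  have hin : i ≠ n := by
    intro h
    rw [h] at hne
    exact hne hbotn
  have hlt : i < n := lt_of_le_of_ne hi hin
  have h3 := card_mul_relIndex_of_le (ic_succ_le hGN i)
  change Nat.card ↥(Cfsg.iterCommutator N G (i + 1)) *
    (⁅Cfsg.iterCommutator N G i, G⁆).relIndex (Cfsg.iterCommutator N G i) = _ at h3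
  rw [hC i hi, hC (i + 1) hlt] at h3
  have h4 : p ^ (n - i) = p ^ (n - (i + 1)) * p := by
    rw [← pow_succ]; congr 1; omega
  rw [h4] at h3
  exact Nat.eq_of_mul_eq_mul_left (pow_pos hp.pos _) h3

theorem thmF (n : ℕ)
    (hC : ∀ i ≤ n, Nat.card (Cfsg.iterCommutator N G i) = p ^ (n - i)) :
    Cfsg.iterCommutator N G (n - 1) ≠ ⊥ ∨ n = 0 := by
  have hp : p.Prime := Fact.out
  rcases Nat.eq_zero_or_pos n with h0 | hpos
  · exact Or.inr h0
  · left
    intro h
    have h1 := hC (n - 1) (by omega)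
    rw [h, Subgroup.card_bot] at h1
    have : 1 < p ^ (n - (n - 1)) := Nat.one_lt_pow (by omega) hp.one_lt
    omega

end

theorem result {L : Type*} [Group L] [Finite L] {p : ℕ} [Fact p.Prime] (N G : Subgroup L) (hN : IsPGroup p N) (hG : IsPGroup p G) (hGN : G ≤ Subgroup.normalizer (N : Set L)) (n : ℕ) (hn : Nat.card N = p ^ n) : ((∀ H : Subgroup L, H ≤ N → G ≤ Subgroup.normalizer (H : Set L) → H ≠ ⊥ → (⁅H, G⁆).relIndex H = p) ↔ Cfsg.iterCommutator N G (n - 1) ≠ ⊥ ∨ n = 0) ∧ ((∀ H : Subgroup L, H ≤ N → G ≤ Subgroup.normalizer (H : Set L) → H ≠ ⊥ → (⁅H, G⁆).relIndex H = p) → ∀ H : Subgroup L, H ≤ N → G ≤ Subgroup.normalizer (H : Set L) → (∃ i ≤ n, H = Cfsg.iterCommutator N G i) ∧ N ≤ Subgroup.normalizer (H : Set L)) := by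
  refine ⟨⟨fun hU => ?_, fun h => ?_⟩, fun hU => ?_⟩
  · exact thmF n (chainB hN hGN n hn hU)
  · exact thmE hN hG hGN n (chainC hN hG hGN n hn h)
  · have hC := chainB hN hGN n hn hU
    intro H hHN hGH
    have hD2 := D2 hN hG hGN n hC H hHN hGH
    refine ⟨hD2, ?_⟩
    obtain ⟨i, -, rfl⟩ := hD2
    exact le_trans le_sup_left (D1 hN hG hGN n hC i)

end Cfsg.Agent.S0663
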