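import Cfsg.Statements.S0666
import Cfsg.Agent.Lib.Helper9.FrobAct

set_option autoImplicit false
open Cfsg

namespace Cfsg.Agent.S0666

open Cfsg.Agent.Lib.Helper9

/-- A Frobenius group acting on a nontrivial abelian group of order prime to that of its kernel, with the kernel acting without nontrivial fixed points, has a complement with a nontrivial fixed point. -/
theorem result {G : Type*} [Group G] [Finite G] (V F : Subgroup G) (hVab : IsMulCommutative V) (hV1 : V ≠ ⊥) (hFV : F ≤ Subgroup.normalizer (V : Set G)) (H : Subgroup ↥F) (hH : Cfsg.IsFrobeniusComplement H) (hcop : (Nat.card V).Coprime (Nat.card (Cfsg.frobeniusKernel H))) (hCK : V ⊓ Subgroup.centralizer (Subtype.val '' Cfsg.frobeniusKernel H : Set G) = ⊥) : V ⊓ Subgroup.centralizer ((H.map F.subtype : Subgroup G) : Set G) ≠ ⊥ := by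
  classical
  intro hCH
  letI instV : CommGroup V := { (inferInstance : Group V) with mul_comm := fun a b => mul_comm' a b }
  -- the conjugation action of F on V
  have hconj : ∀ (f : F) (v : V), (f : G) * (v : G) * (f : G)⁻¹ ∈ V := by
    intro f v
    have := hFV f.2
    rw [Subgroup.mem_normalizer_iff] at this
    exact (this _).mp v.2
  have hconj' : ∀ (f : F) (v : V), (f : G)⁻¹ * (v : G) * (f : G) ∈ V := by
    intro f v
    have := hconj f⁻¹ v
    simpa using this
  let φf : F → MulAut V := fun f =>
    { toFun := fun v => ⟨(f : G) * (v : G) * (f : G)⁻¹, hconj f v⟩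
      invFun := fun v => ⟨(f : G)⁻¹ * (v : G) * (f : G), hconj' f v⟩
      left_inv := by
        intro v
        apply Subtype.ext
        simp only
        group
      right_inv := by
        intro v
        apply Subtype.ext
        simp only
        group
      map_mul' := by
        intro v w
        apply Subtype.ext
        simp only [Subgroup.coe_mul]
        group }
  let φ : F →* MulAut V :=
    { toFun := φf
      map_one' := by
        ext v
        simp [φf]
      map_mul' := by
        intro f g
        ext v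
        simp only [φf, MulAut.mul_apply, MulEquiv.coe_mk, Equiv.coe_fn_mk, Subgroup.coe_mul, mul_inv_rev]
        group }
  have hφ : ∀ (f : F) (v : V), ((φ f v : V) : G) = (f : G) * (v : G) * (f : G)⁻¹ := fun f v => rfl
  obtain ⟨K, hK, hKn, hKH⟩ := Cfsg.Agent.Lib.Helper1.frobenius_theorem H hH
  have hfK : ∀ m : V, (∀ k ∈ K, φ k m = m) → m = 1 := by
    intro m hm
    have hmem : (m : G) ∈ V ⊓ Subgroup.centralizer (Subtype.val '' Cfsg.frobeniusKernel H : Set G) := by
      rw [Subgroup.mem_inf]
      refine ⟨m.2, ?_⟩
      rw [Subgroup.mem_centralizer_iff]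
      rintro x ⟨k, hk, rfl⟩
      have hkK : k ∈ K := by
        have : k ∈ (K : Set F) := by rw [hK]; exact hk
        exact this
      have h1 := congrArg Subtype.val (hm k hkK)
      rw [hφ] at h1
      calc (k : G) * (m : G) = ((k : G) * (m : G) * (k : G)⁻¹) * (k : G) := by group
        _ = (m : G) * (k : G) := by rw [h1]
    rw [hCK] at hmem
    exact Subtype.ext (Subgroup.mem_bot.mp hmem)
  have hfH : ∀ m : V, (∀ h ∈ H, φ h m = m) → m = 1 := by
    intro m hm
    have hmem : (m : G) ∈ V ⊓ Subgroup.centralizer ((H.map F.subtype : Subgroup G) : Set G) := by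
      rw [Subgroup.mem_inf]
      refine ⟨m.2, ?_⟩
      rw [Subgroup.mem_centralizer_iff]
      intro x hx
      obtain ⟨k, hk, rfl⟩ := Subgroup.mem_map.mp hx
      have h1 := congrArg Subtype.val (hm k hk)
      rw [hφ] at h1
      calc (F.subtype k : G) * (m : G) = ((k : G) * (m : G) * (k : G)⁻¹) * (k : G) := by
            simp only [Subgroup.coe_subtype]; group
        _ = (m : G) * (F.subtype k : G) := by rw [h1]; rfl
    rw [hCH] at hmem
    exact Subtype.ext (Subgroup.mem_bot.mp hmem)
  have hpow : ∀ m : V, m ^ Nat.card K = 1 := fun m => frob_act_pow φ K H hH hK hKH hfK hfH m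
  have hcardK : Nat.card K = Nat.card (Cfsg.frobeniusKernel H) := by
    apply Nat.card_congr
    exact Equiv.setCongr hK
  apply hV1
  rw [Subgroup.eq_bot_iff_forall]
  intro x hx
  have h1 : orderOf (⟨x, hx⟩ : V) ∣ Nat.card K := orderOf_dvd_of_pow_eq_one (hpow ⟨x, hx⟩)
  have h2 : orderOf (⟨x, hx⟩ : V) ∣ Nat.card V := orderOf_dvd_natCard _
  rw [hcardK] at h1
  have h3 : orderOf (⟨x, hx⟩ : V) = 1 := Nat.eq_one_of_dvd_coprimes hcop h2 h1
  have h4 : (⟨x, hx⟩ : V) = 1 := orderOf_eq_one_iff.mp h3
  exact congrArg Subtype.val h4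

end Cfsg.Agent.S0666
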