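import Mathlib
import Cfsg.Statements.S0668

set_option autoImplicit false
open Cfsg

namespace Cfsg.Agent.S0668

section
variable {G : Type*} [Group G] {K : Type*} [Field K] {Ω₁ Ω₂ : Type*} [Fintype Ω₁] [Fintype Ω₂]
  [MulAction G Ω₁] [MulAction G Ω₂]

theorem mk_smul (g : G) (a : Ω₁ × Ω₂) :
    (Quotient.mk (MulAction.orbitRel G (Ω₁ × Ω₂)) (g • a)) =
      Quotient.mk (MulAction.orbitRel G (Ω₁ × Ω₂)) a := by
  apply Quotient.sound
  exact (MulAction.orbitRel_apply).mpr (MulAction.mem_orbit a g)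

noncomputable def orbMatLin :
    (MulAction.orbitRel.Quotient G (Ω₁ × Ω₂) → K) →ₗ[K] Matrix Ω₂ Ω₁ K where
  toFun c := fun y x => c (Quotient.mk (MulAction.orbitRel G (Ω₁ × Ω₂)) (x, y))
  map_add' _ _ := rfl
  map_smul' _ _ := rfl

open Classical in
noncomputable def psi₀ :
    (MulAction.orbitRel.Quotient G (Ω₁ × Ω₂) → K) →ₗ[K] ((Ω₁ → K) →ₗ[K] (Ω₂ → K)) :=
  (Matrix.toLin' : Matrix Ω₂ Ω₁ K ≃ₗ[K] ((Ω₁ → K) →ₗ[K] (Ω₂ → K))).toLinearMap ∘ₗ orbMatLin

open Classical in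
theorem psi₀_apply (c : MulAction.orbitRel.Quotient G (Ω₁ × Ω₂) → K) (v : Ω₁ → K) (y : Ω₂) :
    psi₀ c v y = ∑ x, c (Quotient.mk (MulAction.orbitRel G (Ω₁ × Ω₂)) (x, y)) * v x := by
  unfold psi₀
  simp only [LinearMap.coe_comp, LinearEquiv.coe_coe, Function.comp_apply, Matrix.toLin'_apply]
  rfl

theorem psi₀_mem (c : MulAction.orbitRel.Quotient G (Ω₁ × Ω₂) → K) :
    psi₀ c ∈ ((Cfsg.permRep K G Ω₁).linHom (Cfsg.permRep K G Ω₂)).invariants := by
  rw [Representation.mem_invariants]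
  intro g
  apply LinearMap.ext
  intro v
  funext y
  rw [Representation.linHom_apply]
  show psi₀ c (Cfsg.permRep K G Ω₁ g⁻¹ v) (g⁻¹ • y) = psi₀ c v y
  rw [psi₀_apply, psi₀_apply]
  apply Fintype.sum_equiv (MulAction.toPerm g)
  intro x
  show c _ * v (g⁻¹⁻¹ • x) = c _ * v (g • x)
  rw [inv_inv]
  have e : Quotient.mk (MulAction.orbitRel G (Ω₁ × Ω₂)) (x, g⁻¹ • y) =
      Quotient.mk (MulAction.orbitRel G (Ω₁ × Ω₂)) (MulAction.toPerm g x, y) := by
    rw [← mk_smul (G := G) g ((x, g⁻¹ • y) : Ω₁ × Ω₂)]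
    simp [Prod.smul_mk]
  rw [e]

noncomputable def psi :
    (MulAction.orbitRel.Quotient G (Ω₁ × Ω₂) → K) →ₗ[K]
      ((Cfsg.permRep K G Ω₁).linHom (Cfsg.permRep K G Ω₂)).invariants :=
  psi₀.codRestrict _ psi₀_mem

open Classical in
theorem psi₀_single (c : MulAction.orbitRel.Quotient G (Ω₁ × Ω₂) → K) (x : Ω₁) (y : Ω₂) :
    psi₀ c (Pi.single x 1) y = c (Quotient.mk (MulAction.orbitRel G (Ω₁ × Ω₂)) (x, y)) := by
  rw [psi₀_apply]
  rw [Finset.sum_eq_single x]
  · simp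
  · intro b _ hb
    rw [Pi.single_apply, if_neg hb, mul_zero]
  · intro h; exact absurd (Finset.mem_univ x) h

theorem psi_injective : Function.Injective (psi (G := G) (K := K) (Ω₁ := Ω₁) (Ω₂ := Ω₂)) := by
  classical
  rw [injective_iff_map_eq_zero]
  intro c hc
  have h0 : psi₀ c = 0 := by
    have := congrArg Subtype.val hc
    exact this
  funext q
  induction q using Quotient.inductionOn with
  | _ a =>
    obtain ⟨x, y⟩ := a
    have := psi₀_single c x y
    rw [h0] at this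
    exact this.symm

open Classical in
theorem invariant_single (f : (Ω₁ → K) →ₗ[K] (Ω₂ → K))
    (hf : f ∈ ((Cfsg.permRep K G Ω₁).linHom (Cfsg.permRep K G Ω₂)).invariants)
    (g : G) (x : Ω₁) (y : Ω₂) :
    f (Pi.single (g • x) 1) (g • y) = f (Pi.single x 1) y := by
  rw [Representation.mem_invariants] at hf
  have h1 := hf g
  rw [Representation.linHom_apply] at h1
  have h2 := congrArg (fun φ => φ (Pi.single (g • x) 1) (g • y)) h1
  simp only [LinearMap.coe_comp, Function.comp_apply] at h2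
  rw [← h2]
  show f (Cfsg.permRep K G Ω₁ g⁻¹ (Pi.single (g • x) 1)) (g⁻¹ • g • y) = _
  rw [inv_smul_smul]
  have e : Cfsg.permRep K G Ω₁ g⁻¹ (Pi.single (g • x) 1) = Pi.single x 1 := by
    funext z
    show (Pi.single (g • x) (1 : K) : Ω₁ → K) (g⁻¹⁻¹ • z) = _
    rw [inv_inv, Pi.single_apply, Pi.single_apply]
    congr 1
    exact propext (smul_left_cancel_iff g)
  rw [e]

theorem psi_surjective : Function.Surjective (psi (G := G) (K := K) (Ω₁ := Ω₁) (Ω₂ := Ω₂)) := by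
  classical
  rintro ⟨f, hf⟩
  let c : MulAction.orbitRel.Quotient G (Ω₁ × Ω₂) → K :=
    Quotient.lift (fun a : Ω₁ × Ω₂ => f (Pi.single a.1 1) a.2) (by
      intro a b hab
      obtain ⟨g, hg⟩ := (MulAction.orbitRel_apply).mp hab
      have : a = (g • b.1, g • b.2) := by rw [← hg]; rfl
      rw [this]
      exact invariant_single f hf g b.1 b.2)
  refine ⟨c, ?_⟩
  apply Subtype.ext
  show psi₀ c = f
  apply LinearMap.pi_ext'
  intro x
  apply LinearMap.ext
  intro r
  funext y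
  simp only [LinearMap.coe_comp, LinearMap.coe_single, Function.comp_apply]
  have e : (Pi.single x r : Ω₁ → K) = r • Pi.single x 1 := by
    funext z
    simp [Pi.single_apply]
  rw [e, map_smul, map_smul, Pi.smul_apply, Pi.smul_apply, psi₀_single]
  rfl

theorem result' : Module.finrank K ((Cfsg.permRep K G Ω₁).linHom (Cfsg.permRep K G Ω₂)).invariants =
    Nat.card (MulAction.orbitRel.Quotient G (Ω₁ × Ω₂)) := by
  classical
  have e := LinearEquiv.ofBijective (psi (G := G) (K := K) (Ω₁ := Ω₁) (Ω₂ := Ω₂))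
    ⟨psi_injective, psi_surjective⟩
  rw [← e.finrank_eq]
  have : Fintype (MulAction.orbitRel.Quotient G (Ω₁ × Ω₂)) := Fintype.ofFinite _
  rw [Module.finrank_fintype_fun_eq_card, Nat.card_eq_fintype_card]

end

theorem result {G : Type*} [Group G] {K : Type*} [Field K] {Ω₁ Ω₂ : Type*} [Fintype Ω₁] [Fintype Ω₂] [MulAction G Ω₁] [MulAction G Ω₂] : Module.finrank K ((Cfsg.permRep K G Ω₁).linHom (Cfsg.permRep K G Ω₂)).invariants = Nat.card (MulAction.orbitRel.Quotient G (Ω₁ × Ω₂)) := by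
  exact result'

end Cfsg.Agent.S0668
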