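import Mathlib
import Cfsg.Statements.S0669

set_option autoImplicit false
open Cfsg

namespace Cfsg.Agent.S0669

theorem result {G : Type*} [Group G] {Ω : Type*} [Finite Ω] [MulAction G Ω] [MulAction.IsPretransitive G Ω] (a : Ω) : Nat.card (MulAction.orbitRel.Quotient G (Ω × Ω)) = Nat.card (MulAction.orbitRel.Quotient (MulAction.stabilizer G a) Ω) := by
  symm
  let Φ : MulAction.orbitRel.Quotient (MulAction.stabilizer G a) Ω →
      MulAction.orbitRel.Quotient G (Ω × Ω) :=
    Quotient.map' (fun x => (a, x)) (by
      intro x y hxy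
      rw [MulAction.orbitRel_apply] at hxy ⊢
      obtain ⟨s, hs⟩ := hxy
      refine ⟨(s : G), ?_⟩
      show ((s : G) • a, (s : G) • y) = (a, x)
      have h1 : (s : G) • a = a := s.2
      have h2 : (s : G) • y = x := hs
      rw [h1, h2])
  apply Nat.card_congr
  apply Equiv.ofBijective Φ
  constructor
  · intro q₁ q₂ h
    induction q₁ using Quotient.inductionOn' with
    | h x =>
      induction q₂ using Quotient.inductionOn' with
      | h y =>
        have h' : (Quotient.mk'' ((a, x) : Ω × Ω) : MulAction.orbitRel.Quotient G (Ω × Ω)) =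
            Quotient.mk'' (a, y) := h
        rw [Quotient.eq''] at h' ⊢
        rw [MulAction.orbitRel_apply] at h' ⊢
        obtain ⟨g, hg⟩ := h'
        have hg' : (g • a, g • y) = (a, x) := hg
        have h1 : g • a = a := (Prod.mk.inj hg').1
        have h2 : g • y = x := (Prod.mk.inj hg').2
        exact ⟨⟨g, h1⟩, h2⟩
  · intro q
    induction q using Quotient.inductionOn' with
    | h uv =>
      obtain ⟨u, v⟩ := uv
      obtain ⟨g, hg⟩ := MulAction.exists_smul_eq G u a
      refine ⟨Quotient.mk'' (g • v), ?_⟩
      show (Quotient.mk'' ((a, g • v) : Ω × Ω) : MulAction.orbitRel.Quotient G (Ω × Ω)) =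
        Quotient.mk'' (u, v)
      rw [Quotient.eq'', MulAction.orbitRel_apply]
      refine ⟨g, ?_⟩
      show (g • u, g • v) = (a, g • v)
      rw [hg]

end Cfsg.Agent.S0669
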