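import Cfsg.Statements.S0681
import Cfsg.Agent.Lib.helper6.NearFieldBasic

set_option autoImplicit false
open Cfsg Cfsg.Agent.Lib.helper6

namespace Cfsg.Agent.S0681

/-- The affine maps `x ↦ x * a + b`, `a ≠ 0`, of a near-field form a sharply doubly transitive permutation group. -/
theorem result {F : Type*} [Cfsg.NearField F] : ∃ H : Subgroup (Equiv.Perm F), (∀ σ : Equiv.Perm F, σ ∈ H ↔ ∃ a b : F, a ≠ 0 ∧ ∀ x : F, σ x = x * a + b) ∧ MulAction.IsMultiplyPretransitive H F 2 ∧ ∀ x : Fin 2 ↪ F, MulAction.stabilizer H x = ⊥ := by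
  refine ⟨nfAffineGroup F, fun σ => mem_nfAffineGroup σ, ?_, ?_⟩
  · rw [MulAction.is_two_pretransitive_iff]
    intro x0 x1 u0 u1 hx hu
    have hx' : x0 - x1 ≠ 0 := sub_ne_zero.mpr hx
    have hu' : u0 - u1 ≠ 0 := sub_ne_zero.mpr hu
    obtain ⟨c, hc1, hc2⟩ := nf_exists_inv (x0 - x1) hx'
    set a := c * (u0 - u1) with ha
    have ha0 : a ≠ 0 := nf_mul_ne_zero (nf_inv_ne_zero hc1) hu'
    obtain ⟨a', h1, h2⟩ := nf_exists_inv a ha0
    set b := -(x0 * a) + u0 with hb
    have hmem : nfAffine a a' b h1 h2 ∈ nfAffineGroup F :=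
      ⟨a, b, ha0, fun x => rfl⟩
    refine ⟨⟨nfAffine a a' b h1 h2, hmem⟩, ?_, ?_⟩
    · change x0 * a + b = u0
      rw [hb, ← add_assoc, add_neg_cancel, zero_add]
    · change x1 * a + b = u1
      have key : (x0 - x1) * a = u0 - u1 := by
        rw [ha, ← mul_assoc, hc1, one_mul]
      rw [nf_sub_mul] at key
      rw [hb, ← add_assoc]
      have : x1 * a + -(x0 * a) = -(u0 - u1) := by
        rw [← key, neg_sub, sub_eq_add_neg]
      rw [this, neg_sub, sub_add_cancel]
  · intro x
    rw [Subgroup.eq_bot_iff_forall]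
    intro g hg
    obtain ⟨a, b, ha, hσ⟩ := g.2
    have h0 : g.1 (x 0) = x 0 := by
      have := congrArg (fun f : Fin 2 ↪ F => f 0) (MulAction.mem_stabilizer_iff.mp hg)
      exact this
    have h1 : g.1 (x 1) = x 1 := by
      have := congrArg (fun f : Fin 2 ↪ F => f 1) (MulAction.mem_stabilizer_iff.mp hg)
      exact this
    rw [hσ] at h0 h1
    have hne : x 0 - x 1 ≠ 0 := by
      rw [sub_ne_zero]
      intro h
      have := x.injective h
      exact absurd this (by decide)
    have key : (x 0 - x 1) * a = (x 0 - x 1) * 1 := by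
      rw [nf_sub_mul, mul_one]
      have e0 : x 0 * a = x 0 - b := eq_sub_of_add_eq h0
      have e1 : x 1 * a = x 1 - b := eq_sub_of_add_eq h1
      rw [e0, e1, sub_sub_sub_cancel_right]
    have ha1 : a = 1 := nf_mul_left_cancel hne key
    have hb0 : b = 0 := by
      rw [ha1, mul_one] at h0
      exact add_eq_left.mp h0
    apply Subtype.ext
    ext y
    rw [hσ, ha1, hb0, mul_one, add_zero]
    rfl

end Cfsg.Agent.S0681
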