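import Cfsg.Statements.S0682
import Cfsg.Agent.Lib.helper6.NearFieldBasic

set_option autoImplicit false
open Cfsg Cfsg.Agent.Lib.helper6

namespace Cfsg.Agent.S0682

theorem nsmul_mul {F : Type*} [Cfsg.NearField F] (n : ℕ) (z c : F) :
    (n • z) * c = n • (z * c) := by
  induction n with
  | zero => rw [zero_nsmul, zero_nsmul, nf_zero_mul]
  | succ k ih => rw [succ_nsmul, succ_nsmul, nf_right_distrib, ih]

/-- A finite near-field has prime-power order; its additive group is commutative of prime exponent. -/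
theorem result {F : Type*} [Cfsg.NearField F] [Finite F] : ∃ p j : ℕ, p.Prime ∧ 1 ≤ j ∧ Nat.card F = p ^ j ∧ (∀ x y : F, x + y = y + x) ∧ ∀ x : F, p • x = 0 := by
  have hcard2 : 2 ≤ Nat.card F := by
    have : Nontrivial F := ⟨⟨0, 1, nf_zero_ne_one⟩⟩
    exact Finite.one_lt_card
  obtain ⟨p, hp, hpd⟩ := Nat.exists_prime_and_dvd (show Nat.card F ≠ 1 by omega)
  haveI : Fact p.Prime := ⟨hp⟩
  obtain ⟨z, hz⟩ := exists_prime_addOrderOf_dvd_card' (G := F) p hpd
  have hz0 : z ≠ 0 := by
    rintro rfl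
    rw [addOrderOf_zero] at hz
    exact hp.one_lt.ne hz
  have hpz : p • z = 0 := by
    rw [← hz]; exact addOrderOf_nsmul_eq_zero z
  obtain ⟨z', hz1, hz2⟩ := nf_exists_inv z hz0
  have hrep : ∀ y : F, y = z * (z' * y) := by
    intro y
    rw [← mul_assoc, hz1, one_mul]
  have hall : ∀ x : F, p • x = 0 := by
    intro x
    rw [hrep x, ← nsmul_mul, hpz, nf_zero_mul]
  have hPG : IsPGroup p (Multiplicative F) := by
    intro g
    refine ⟨1, ?_⟩
    rw [pow_one]
    exact congrArg Multiplicative.ofAdd (hall (Multiplicative.toAdd g))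
  obtain ⟨j, hj⟩ := (IsPGroup.iff_card (p := p) (G := Multiplicative F)).mp hPG
  have hj' : Nat.card F = p ^ j := hj
  have hj1 : 1 ≤ j := by
    rcases Nat.eq_zero_or_pos j with h0 | h0
    · rw [h0, pow_zero] at hj'
      omega
    · exact h0
  haveI : Nontrivial (Multiplicative F) := ⟨⟨Multiplicative.ofAdd 0, Multiplicative.ofAdd 1, fun h => nf_zero_ne_one (Multiplicative.ofAdd.injective h)⟩⟩
  haveI : Nontrivial (Subgroup.center (Multiplicative F)) := hPG.center_nontrivial
  obtain ⟨⟨c, hc⟩, hc1⟩ := exists_ne (1 : Subgroup.center (Multiplicative F))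
  have hc0 : Multiplicative.toAdd c ≠ 0 := by
    intro h
    apply hc1
    apply Subtype.ext
    exact Multiplicative.toAdd.injective h
  have hccomm : ∀ x : F, x + Multiplicative.toAdd c = Multiplicative.toAdd c + x := by
    intro x
    have := Subgroup.mem_center_iff.mp hc (Multiplicative.ofAdd x)
    exact congrArg Multiplicative.toAdd this
  set w := Multiplicative.toAdd c with hw
  obtain ⟨w', hw1, hw2⟩ := nf_exists_inv w hc0
  have hcomm0 : ∀ y x : F, y ≠ 0 → x + y = y + x := by
    intro y x hy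
    obtain ⟨d, hd1, hd2⟩ : ∃ d : F, w * d = y ∧ d ≠ 0 := by
      refine ⟨w' * y, ?_, nf_mul_ne_zero (nf_inv_ne_zero hw1) hy⟩
      rw [← mul_assoc, hw1, one_mul]
    obtain ⟨d', hdd1, hdd2⟩ := nf_exists_inv d hd2
    have hx : x = (x * d') * d := by rw [mul_assoc, hdd2, mul_one]
    rw [← hd1]
    nth_rewrite 1 [hx]
    nth_rewrite 2 [hx]
    rw [← nf_right_distrib, ← nf_right_distrib, hccomm]
  refine ⟨p, j, hp, hj1, hj', ?_, hall⟩
  intro x y
  by_cases hy : y = 0
  · rw [hy, add_zero, zero_add]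
  · exact hcomm0 y x hy

end Cfsg.Agent.S0682
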