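import Cfsg.Statements.S0683
import Mathlib
import Cfsg.Statements.S0683
import Cfsg.Agent.S0680

set_option autoImplicit false
open Cfsg

namespace Cfsg.Agent.S0683

open Cfsg.Agent.S0680 in
theorem gen_main {G α : Type*} [Group G] [Fintype G] [MulAction G α] [Fintype α] [DecidableEq α]
    (H2T : ∀ a b c d : α, a ≠ b → c ≠ d → ∃ g : G, g • a = c ∧ g • b = d)
    (HS : ∀ (g : G) (a b : α), a ≠ b → g • a = a → g • b = b → g = 1)
    (hn : 2 ≤ Fintype.card α) :
    ∃ _ : Cfsg.NearField α, ∀ σ : α → α, (∃ g : G, ∀ x, g • x = σ x) ↔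
      ∃ a b : α, a ≠ 0 ∧ ∀ x : α, σ x = x * a + b := by
  classical
  have : Nontrivial α := Fintype.one_lt_card_iff_nontrivial.mp (by omega)
  obtain ⟨o, e, hoe⟩ := exists_pair_ne α
  obtain ⟨K, p, j, hp, hj1, hj, hK, hnormal, hcomm, hexp, hKcard⟩ := structure_thm H2T HS hn
  -- the bijection K ≃ α
  have hinj : Function.Injective (fun k : K => (k : G) • o) := by
    intro k k' hkk
    simp only at hkk
    by_contra hne
    have h1 : (k'⁻¹ * k : K) ≠ 1 := fun h => hne (inv_mul_eq_one.mp h).symm
    have h3 : ((k'⁻¹ * k : K) : G) ≠ 1 := fun h => h1 (Subtype.ext h)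
    rcases (hK _).mp (k'⁻¹ * k : K).2 with h | h
    · exact h3 h
    · apply h o
      show ((k'⁻¹ * k : K) : G) • o = o
      rw [Subgroup.coe_mul, mul_smul, hkk, Subgroup.coe_inv, inv_smul_smul]
  have hbij : Function.Bijective (fun k : K => (k : G) • o) := by
    have : Finite K := inferInstance
    apply Function.Injective.bijective_of_nat_card_le hinj
    rw [hKcard, Nat.card_eq_fintype_card]
  let eK : K ≃ α := Equiv.ofBijective _ hbij
  let τ : α → K := fun x => eK.symm x
  have hτ : ∀ x, ((τ x : K) : G) • o = x := fun x => eK.apply_symm_apply x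
  have hτu : ∀ (k : K) (x : α), (k : G) • o = x → k = τ x := by
    intro k x hk
    apply hinj
    show (k : G) • o = ((τ x : K) : G) • o
    rw [hk, hτ]
  have hτmul : ∀ x y, τ (((τ x : K) : G) • y) = τ x * τ y := by
    intro x y
    symm
    apply hτu
    rw [Subgroup.coe_mul, mul_smul, hτ]
  have hτo : τ o = 1 := by
    symm
    apply hτu
    simp
  have hKc : ∀ k k' : K, k * k' = k' * k := fun k k' => Subtype.ext (hcomm k k.2 k' k'.2)
  -- multiplication
  have hm_ex : ∀ a : α, ∃ g : G, a ≠ o → (g • o = o ∧ g • e = a) := by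
    intro a
    by_cases ha : a = o
    · exact ⟨1, fun h => absurd ha h⟩
    · obtain ⟨g, h1, h2⟩ := H2T o e o a hoe (Ne.symm ha)
      exact ⟨g, fun _ => ⟨h1, h2⟩⟩
  choose m hm using hm_ex
  have hmu : ∀ (g : G) (a : α), a ≠ o → g • o = o → g • e = a → g = m a := by
    intro g a ha h1 h2
    have h3 : ((m a)⁻¹ * g) • o = o := by rw [mul_smul, h1, inv_smul_eq_iff, (hm a ha).1]
    have h4 : ((m a)⁻¹ * g) • e = e := by rw [mul_smul, h2, inv_smul_eq_iff, (hm a ha).2]
    have := HS _ o e hoe h3 h4
    exact (inv_mul_eq_one.mp this).symm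
  have hme : m e = 1 := by
    symm
    apply hmu 1 e (Ne.symm hoe) <;> simp
  have hmne : ∀ a x, a ≠ o → x ≠ o → m a • x ≠ o := by
    intro a x ha hx h
    apply hx
    have := (hm a ha).1
    rw [← this] at h
    exact MulAction.injective (m a) h
  have hmm : ∀ a b, a ≠ o → b ≠ o → m (m b • a) = m b * m a := by
    intro a b ha hb
    symm
    apply hmu _ _ (hmne b a hb ha)
    · rw [mul_smul, (hm a ha).1, (hm b hb).1]
    · rw [mul_smul, (hm a ha).2]
  -- conjugation
  have hconj : ∀ (g : G) (y : α), g • o = o → g * (τ y : G) * g⁻¹ = (τ (g • y) : G) := by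
    intro g y hg
    have hmem : g * (τ y : G) * g⁻¹ ∈ K := hnormal.conj_mem _ (τ y).2 g
    have := hτu ⟨_, hmem⟩ (g • y) (by
      show (g * (τ y : G) * g⁻¹) • o = g • y
      rw [mul_smul, mul_smul, inv_smul_eq_iff.mpr hg.symm, hτ])
    exact congrArg Subtype.val this
  let addF : α → α → α := fun x y => ((τ x : K) : G) • y
  let negF : α → α := fun x => (((τ x)⁻¹ : K) : G) • o
  let mulF : α → α → α := fun x a => if a = o then o else m a • x
  have hadd_comm : ∀ x y, addF x y = addF y x := by
    intro x y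
    show ((τ x : K) : G) • y = ((τ y : K) : G) • x
    rw [← hτ y, ← mul_smul, ← Subgroup.coe_mul, hKc, Subgroup.coe_mul, mul_smul, hτ, hτ]
  have hτadd : ∀ x y, τ (addF x y) = τ x * τ y := hτmul
  have hτneg : ∀ x, τ (negF x) = (τ x)⁻¹ := by
    intro x
    symm
    apply hτu
    rfl
  have hτinj : ∀ x y, τ x = τ y → x = y := by
    intro x y h
    rw [← hτ x, ← hτ y, h]
  letI iadd : Add α := ⟨addF⟩
  letI izero : Zero α := ⟨o⟩
  letI ineg : Neg α := ⟨negF⟩
  let ag : AddGroup α := AddGroup.ofLeftAxioms
    (by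
      intro x y z
      apply hτinj
      show τ (addF (addF x y) z) = τ (addF x (addF y z))
      rw [hτadd, hτadd, hτadd, hτadd, mul_assoc])
    (by
      intro x
      show ((τ o : K) : G) • x = x
      rw [hτo]; simp)
    (by
      intro x
      apply hτinj
      show τ (addF (negF x) x) = τ o
      rw [hτadd, hτneg, hτo, inv_mul_cancel])
  let mo : Monoid α :=
    { mul := mulF
      one := e
      mul_assoc := by
        intro x a b
        show mulF (mulF x a) b = mulF x (mulF a b)
        by_cases hb : b = o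
        · rw [hb]
          simp only [mulF, ↓reduceIte]
        · by_cases ha : a = o
          · rw [ha]
            simp only [mulF, ↓reduceIte, if_neg hb, (hm b hb).1]
          · simp only [mulF, if_neg hb, if_neg ha, if_neg (hmne b a hb ha), hmm a b ha hb, mul_smul]
      one_mul := by
        intro a
        show mulF e a = a
        by_cases ha : a = o
        · rw [ha]
          simp only [mulF, ↓reduceIte]
        · simp only [mulF, if_neg ha, (hm a ha).2]
      mul_one := by
        intro x
        show mulF x e = x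
        simp only [mulF, if_neg (Ne.symm hoe), hme, one_smul] }
  let nf : Cfsg.NearField α :=
    { toAddGroup := ag
      toMonoid := mo
      right_distrib := by
        intro x y c
        show mulF (addF x y) c = addF (mulF x c) (mulF y c)
        by_cases hc : c = o
        · rw [hc]
          simp only [mulF, ↓reduceIte]
          show o = ((τ o : K) : G) • o
          rw [hτo]; simp
        · simp only [mulF, if_neg hc]
          show m c • ((τ x : K) : G) • y = ((τ (m c • x) : K) : G) • (m c • y)
          rw [← hconj (m c) x (hm c hc).1, mul_smul, mul_smul, inv_smul_smul]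
      mul_zero := by
        intro x
        show mulF x o = o
        simp only [mulF, ↓reduceIte]
      zero_ne_one := hoe
      exists_inv := by
        intro a ha
        have ha : a ≠ o := ha
        have hb : (m a)⁻¹ • e ≠ o := by
          intro h
          rw [inv_smul_eq_iff, (hm a ha).1] at h
          exact hoe h.symm
        refine ⟨(m a)⁻¹ • e, ?_, ?_⟩
        · show mulF a ((m a)⁻¹ • e) = e
          have : m ((m a)⁻¹ • e) = (m a)⁻¹ := by
            symm
            apply hmu _ _ hb
            · rw [inv_smul_eq_iff, (hm a ha).1]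
            · rfl
          simp only [mulF, if_neg hb, this]
          rw [inv_smul_eq_iff, (hm a ha).2]
        · show mulF ((m a)⁻¹ • e) a = e
          simp only [mulF, if_neg ha, smul_inv_smul] }
  refine ⟨nf, ?_⟩
  intro σ
  show (∃ g : G, ∀ x, g • x = σ x) ↔ ∃ a b : α, a ≠ o ∧ ∀ x : α, σ x = addF (mulF x a) b
  constructor
  · rintro ⟨g, hg⟩
    have h1' : ((((τ (g • o))⁻¹ : K) : G) * g) • o = o := by
      rw [mul_smul, Subgroup.coe_inv, inv_smul_eq_iff, hτ]
    have ha : ((((τ (g • o))⁻¹ : K) : G) * g) • e ≠ o := by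
      intro h
      exact hoe (MulAction.injective _ (h.trans h1'.symm)).symm
    refine ⟨((((τ (g • o))⁻¹ : K) : G) * g) • e, g • o, ha, ?_⟩
    intro x
    rw [hadd_comm]
    simp only [addF, mulF]
    rw [if_neg ha, ← hmu _ _ ha h1' rfl, ← hg, ← mul_smul, Subgroup.coe_inv, mul_inv_cancel_left]
  · rintro ⟨a, b, ha, hσ⟩
    refine ⟨(τ b : G) * m a, ?_⟩
    intro x
    rw [hσ, hadd_comm]
    simp only [addF, mulF]
    rw [if_neg ha, mul_smul]

theorem main {α : Type*} [Fintype α] [DecidableEq α] (H : Subgroup (Equiv.Perm α))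
    [MulAction.IsMultiplyPretransitive H α 2]
    (hsharp : ∀ x : Fin 2 ↪ α, MulAction.stabilizer H x = ⊥) (h2 : 2 ≤ Fintype.card α) :
    ∃ _ : Cfsg.NearField α, ∀ σ : Equiv.Perm α, σ ∈ H ↔ ∃ a b : α, a ≠ 0 ∧ ∀ x : α, σ x = x * a + b := by
  classical
  have H2T : ∀ a b c d : α, a ≠ b → c ≠ d → ∃ g : H, g • a = c ∧ g • b = d := by
    intro a b c d hab hcd
    let x : Fin 2 ↪ α := ⟨![a, b], Cfsg.Agent.S0680.emb2 a b hab⟩
    let y : Fin 2 ↪ α := ⟨![c, d], Cfsg.Agent.S0680.emb2 c d hcd⟩
    obtain ⟨g, hg⟩ := MulAction.exists_smul_eq H x y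
    refine ⟨g, ?_, ?_⟩
    · have := congrArg (fun f : Fin 2 ↪ α => f 0) hg
      exact this
    · have := congrArg (fun f : Fin 2 ↪ α => f 1) hg
      exact this
  have HS : ∀ (g : H) (a b : α), a ≠ b → g • a = a → g • b = b → g = 1 := by
    intro g a b hab ha hb
    let x : Fin 2 ↪ α := ⟨![a, b], Cfsg.Agent.S0680.emb2 a b hab⟩
    have : g ∈ MulAction.stabilizer H x := by
      rw [MulAction.mem_stabilizer_iff]
      ext i
      fin_cases i
      · exact ha
      · exact hb
    rw [hsharp x] at this
    exact Subgroup.mem_bot.mp this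
  obtain ⟨nf, hnf⟩ := gen_main H2T HS h2
  refine ⟨nf, ?_⟩
  intro σ
  rw [← hnf (fun x => σ x)]
  constructor
  · intro hσ
    exact ⟨⟨σ, hσ⟩, fun x => rfl⟩
  · rintro ⟨g, hg⟩
    have : (g : Equiv.Perm α) = σ := Equiv.ext hg
    rw [← this]
    exact g.2


/-- A finite sharply doubly transitive permutation group is the affine group of a near-field: the permuted set carries a near-field structure for which the group consists exactly of the maps `x ↦ x * a + b` with `a ≠ 0`. -/
theorem result {α : Type*} [Fintype α] [DecidableEq α] (H : Subgroup (Equiv.Perm α)) [MulAction.IsMultiplyPretransitive H α 2] (hsharp : ∀ x : Fin 2 ↪ α, MulAction.stabilizer H x = ⊥) (h2 : 2 ≤ Fintype.card α) : ∃ _ : Cfsg.NearField α, ∀ σ : Equiv.Perm α, σ ∈ H ↔ ∃ a b : α, a ≠ 0 ∧ ∀ x : α, σ x = x * a + b := by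
  exact main H hsharp h2

end Cfsg.Agent.S0683
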