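import Cfsg.Statements.S0690
import Cfsg.Agent.Lib.helper6.ZPj
import Cfsg.Agent.Lib.helper23.FrobSemi

set_option autoImplicit false
open Cfsg

namespace Cfsg.Agent.S0690

/-- Zassenhaus: a perfect non-trivial group of fixed-point-free automorphisms of a finite group is isomorphic to `SL(2,5)`. -/
theorem result {K : Type*} [Group K] [Finite K] (G : Subgroup (MulAut K)) (hfpf : ∀ φ ∈ G, φ ≠ 1 → ∀ k : K, φ k = k → k = 1) (hperf : commutator G = ⊤) (hne : G ≠ ⊥) : Nonempty (G ≃* Matrix.SpecialLinearGroup (Fin 2) (ZMod 5)) := by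
  classical
  haveI : Nontrivial G := (Subgroup.nontrivial_iff_ne_bot G).mpr hne
  haveI : Nontrivial K := by
    by_contra hK
    rw [not_nontrivial_iff_subsingleton] at hK
    apply hne
    rw [eq_bot_iff]
    intro g _
    rw [Subgroup.mem_bot]
    ext k
    exact Subsingleton.elim _ _
  let φ : G →* MulAut K := G.subtype
  have hfree : ∀ h : G, h ≠ 1 → ∀ n : K, φ h n = n → n = 1 := fun h hh n hn =>
    hfpf h h.2 (fun hc => hh (Subtype.ext hc)) n hn
  have hFC := Cfsg.Agent.Lib.helper23.isFrobeniusComplement_range_inr φ hfree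
  haveI : Finite (K ⋊[φ] G) := Finite.of_equiv _ SemidirectProduct.equivProd.symm
  let e : G ≃* (SemidirectProduct.inr : G →* K ⋊[φ] G).range :=
    MonoidHom.ofInjective SemidirectProduct.inr_injective
  exact Cfsg.Agent.Lib.helper6.ZP.perfect_frobenius_complement _ hFC e hperf

end Cfsg.Agent.S0690
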