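import Cfsg.Statements.S0691
import Mathlib
import Cfsg.Statements.S0691
import Cfsg.Agent.Lib.helper6.Mat2

set_option autoImplicit false
open Cfsg

namespace Cfsg.Agent.S0691

open Cfsg.Agent.Lib.helper6.Mat2 Matrix

def gensL : Fin 3 → M2 := ![⟨2, 0, 0, 3⟩, ⟨0, 4, 1, 0⟩, ⟨1, 2, 1, 3⟩]
def wordsL : List (List (Fin 3)) := [[], [0], [1], [2], [0, 0], [1, 0], [2, 0], [0, 1], [2, 1], [1, 2], [2, 2], [0, 0, 0], [1, 0, 0], [2, 0, 0], [1, 2, 0], [2, 2, 0], [2, 0, 1], [2, 2, 1], [0, 1, 2], [2, 1, 2], [2, 2, 0, 0], [2, 1, 2, 0], [2, 2, 0, 1], [2, 0, 1, 2]]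

instance fact5 : Fact (Nat.Prime 5) := ⟨by norm_num⟩

set_option maxRecDepth 100000 in
theorem H1 : (wordsL.map (eval 5 gensL)).Nodup := by decide

set_option maxRecDepth 100000 in
theorem H2 : ∀ i, ∀ w ∈ wordsL, mulP 5 (gensL i) (eval 5 gensL w) ∈ wordsL.map (eval 5 gensL) := by decide

set_option maxRecDepth 100000 in
theorem H6 : ∀ w ∈ wordsL, eval 5 gensL w ≠ one2 → fdet 5 (eval 5 gensL w) ≠ 0 := by decide

theorem main (A B C : Matrix.GeneralLinearGroup (Fin 2) (ZMod 5))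
    (hA : (A : Matrix (Fin 2) (Fin 2) (ZMod 5)) = !![2, 0; 0, -2])
    (hB : (B : Matrix (Fin 2) (Fin 2) (ZMod 5)) = !![0, -1; 1, 0])
    (hC : (C : Matrix (Fin 2) (Fin 2) (ZMod 5)) = !![1, 2; 1, -2]) :
    Nat.card (Subgroup.closure ({A, B, C} : Set (Matrix.GeneralLinearGroup (Fin 2) (ZMod 5)))) = 24 ∧
    ∀ v w : Fin 2 → ZMod 5, v ≠ 0 → w ≠ 0 →
      ∃! h : Subgroup.closure ({A, B, C} : Set (Matrix.GeneralLinearGroup (Fin 2) (ZMod 5))),
        Matrix.mulVec ((h : Matrix.GeneralLinearGroup (Fin 2) (ZMod 5)) : Matrix (Fin 2) (Fin 2) (ZMod 5)) v = w := by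
  have hset : ({A, B, C} : Set (Matrix.GeneralLinearGroup (Fin 2) (ZMod 5))) = Set.range ![A, B, C] := by
    ext x
    simp [eq_comm]
    tauto
  have hG : ∀ i, ((![A, B, C] i : GL (Fin 2) (ZMod 5)) : Matrix (Fin 2) (Fin 2) (ZMod 5)) = toMat 5 (gensL i) := by
    intro i
    fin_cases i
    · show (A : Matrix (Fin 2) (Fin 2) (ZMod 5)) = _
      rw [hA]; unfold toMat gensL; ext a b; fin_cases a <;> fin_cases b <;> simp <;> decide
    · show (B : Matrix (Fin 2) (Fin 2) (ZMod 5)) = _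
      rw [hB]; unfold toMat gensL; ext a b; fin_cases a <;> fin_cases b <;> simp <;> decide
    · show (C : Matrix (Fin 2) (Fin 2) (ZMod 5)) = _
      rw [hC]; unfold toMat gensL; ext a b; fin_cases a <;> fin_cases b <;> simp <;> decide
  rw [hset]
  refine ⟨?_, ?_⟩
  · rw [closure_card 5 gensL _ hG wordsL (by decide) H2 H1]
    rfl
  · intro v w hv hw
    exact closure_regular 5 gensL _ hG wordsL (by decide) H2 H1 (by decide) H6 v w hv hw


/-- An exceptional sharply doubly transitive group of degree 5^2: the listed matrices generate a subgroup of GL(2,5) of order 24 acting regularly on the non-zero vectors. -/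
theorem result (A : Matrix.GeneralLinearGroup (Fin 2) (ZMod 5)) (B : Matrix.GeneralLinearGroup (Fin 2) (ZMod 5)) (C : Matrix.GeneralLinearGroup (Fin 2) (ZMod 5)) (hA : (A : Matrix (Fin 2) (Fin 2) (ZMod 5)) = !![2, 0; 0, -2]) (hB : (B : Matrix (Fin 2) (Fin 2) (ZMod 5)) = !![0, -1; 1, 0]) (hC : (C : Matrix (Fin 2) (Fin 2) (ZMod 5)) = !![1, 2; 1, -2]) : Nat.card (Subgroup.closure ({A, B, C} : Set (Matrix.GeneralLinearGroup (Fin 2) (ZMod 5)))) = 24 ∧ ∀ v w : Fin 2 → ZMod 5, v ≠ 0 → w ≠ 0 → ∃! h : Subgroup.closure ({A, B, C} : Set (Matrix.GeneralLinearGroup (Fin 2) (ZMod 5))), Matrix.mulVec ((h : Matrix.GeneralLinearGroup (Fin 2) (ZMod 5)) : Matrix (Fin 2) (Fin 2) (ZMod 5)) v = w := by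
  exact main A B C hA hB hC

end Cfsg.Agent.S0691
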