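import Cfsg.Statements.S0694
import Mathlib
import Cfsg.Statements.S0694

set_option autoImplicit false
open Cfsg

namespace Cfsg.Agent.S0694

/-- cofactor lemma -/
theorem val_cof (l : ℕ) [hl : Fact l.Prime] (Q r : ℕ) (hQ : 1 < Q) (hlQ : l ∣ Q - 1)
    (hr : ¬ l ∣ r) : padicValNat l (Q ^ r - 1) = padicValNat l (Q - 1) := by
  have hr0 : r ≠ 0 := by rintro rfl; exact hr (dvd_zero _)
  have hQr : 1 < Q ^ r := Nat.one_lt_pow hr0 hQ
  have hp : Prime (l : ℤ) := Nat.prime_iff_prime_int.mp hl.out
  have c1 : ((Q ^ r - 1 : ℕ) : ℤ) = (Q : ℤ) ^ r - 1 := by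
    push_cast [Nat.cast_sub hQr.le]; ring
  have c2 : ((Q - 1 : ℕ) : ℤ) = (Q : ℤ) - 1 := by
    push_cast [Nat.cast_sub hQ.le]; ring
  have hxy : (l : ℤ) ∣ (Q : ℤ) - 1 := by
    rw [← c2]; exact_mod_cast hlQ
  have hx : ¬ (l : ℤ) ∣ (Q : ℤ) := by
    intro h
    have h1 : (l : ℤ) ∣ 1 := by
      have := dvd_sub h hxy
      simpa using this
    exact hp.not_dvd_one h1
  have hn : ¬ (l : ℤ) ∣ (r : ℤ) := by exact_mod_cast hr
  have key := emultiplicity_pow_sub_pow_of_prime hp (x := (Q : ℤ)) (y := 1) hxy hx hn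
  rw [one_pow, ← c1, ← c2, Int.natCast_emultiplicity, Int.natCast_emultiplicity,
    ← padicValNat_eq_emultiplicity (by omega), ← padicValNat_eq_emultiplicity (by omega)] at key
  exact_mod_cast key

theorem not_dvd_of_dvd_pred (r q : ℕ) (hr : r.Prime) (hq : 1 < q) (hrq : r ∣ q - 1) : ¬ r ∣ q := by
  intro h
  have : r ∣ q - (q - 1) := Nat.dvd_sub h hrq
  rw [Nat.sub_sub_self hq.le] at this
  exact hr.one_lt.ne' (Nat.dvd_one.mp this)

/-- lifting the exponent -/
theorem val_lte (r : ℕ) [hr : Fact r.Prime] (q m : ℕ) (hq : 1 < q) (hrq : r ∣ q - 1) (hm : m ≠ 0)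
    (h2 : r = 2 → Even m → 4 ∣ q - 1) :
    padicValNat r (q ^ m - 1) = padicValNat r (q - 1) + padicValNat r m := by
  have hx : ¬ r ∣ q := not_dvd_of_dvd_pred r q hr.out hq hrq
  rcases hr.out.eq_two_or_odd' with h | hodd
  · subst h
    rcases Nat.even_or_odd m with he | ho
    · have h4 := h2 rfl he
      have := padicValNat.pow_two_sub_one hq hx hm he
      have hq1 : padicValNat 2 (q + 1) = 1 := by
        obtain ⟨t, ht⟩ := h4
        have : q + 1 = 2 * (2 * t + 1) := by omega
        rw [this, padicValNat.mul (by norm_num) (by omega), padicValNat_self,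
          padicValNat.eq_zero_of_not_dvd (by omega)]
      omega
    · have hm2 : ¬ 2 ∣ m := by
        rw [← even_iff_two_dvd, Nat.not_even_iff_odd]; exact ho
      rw [padicValNat.eq_zero_of_not_dvd hm2, add_zero]
      exact val_cof 2 q m hq hrq hm2
  · have := padicValNat.pow_sub_pow hodd hq hrq hx hm
    rwa [one_pow] at this

/-- descending along a prime -/
theorem dvd_div_of_val_lt (o n r : ℕ) (hr : r.Prime) (hn : n ≠ 0) (hon : o ∣ n)
    (hv : o.factorization r < n.factorization r) : o ∣ n / r := by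
  have ho : o ≠ 0 := by rintro rfl; exact hn (zero_dvd_iff.mp hon)
  have hrn : r ∣ n := by
    by_contra h
    rw [Nat.factorization_eq_zero_of_not_dvd h] at hv
    omega
  have hn' : n / r ≠ 0 := by
    intro h
    have := Nat.div_mul_cancel hrn
    rw [h, zero_mul] at this
    exact hn this.symm
  rw [← Nat.factorization_le_iff_dvd ho hn', Nat.factorization_div hrn]
  intro p
  have h1 : o.factorization p ≤ n.factorization p :=
    (Nat.factorization_le_iff_dvd ho hn).mpr hon p
  rw [Finsupp.coe_tsub, Pi.sub_apply, hr.factorization]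
  by_cases hp : p = r
  · subst hp
    rw [Finsupp.single_eq_same]
    omega
  · rw [Finsupp.single_eq_of_ne hp]
    omega

theorem pow_modEq_iff (M q k : ℕ) (hq : 1 ≤ q) (hcop : Nat.Coprime q M) :
    (ZMod.unitOfCoprime q hcop) ^ k = 1 ↔ M ∣ q ^ k - 1 := by
  have h1 : 1 ≤ q ^ k := Nat.one_le_pow _ _ hq
  rw [← Nat.modEq_iff_dvd' h1, ← ZMod.natCast_eq_natCast_iff, Units.ext_iff, Units.val_pow_eq_pow_val,
    ZMod.coe_unitOfCoprime]
  push_cast
  exact eq_comm

/-- the order argument -/
theorem pow_dvd_descend (q n l e r : ℕ) (hl : l.Prime) (hr : r.Prime) (he : e ≠ 0) (hq : 1 < q)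
    (hdiv : l ^ e ∣ q ^ n - 1) (hn : n ≠ 0) (hrn : r ∣ n) (hlr : l ≤ r)
    (hev : l = r → e ≤ n.factorization r) : l ^ e ∣ q ^ (n / r) - 1 := by
  have hqn : 1 < q ^ n := Nat.one_lt_pow hn hq
  have hlq : ¬ l ∣ q := by
    intro h
    have h1 : l ∣ q ^ n := dvd_pow h hn
    have h2 : l ∣ q ^ n - 1 := (dvd_pow_self l he).trans hdiv
    have : l ∣ q ^ n - (q ^ n - 1) := Nat.dvd_sub h1 h2
    rw [Nat.sub_sub_self hqn.le] at this
    exact hl.one_lt.ne' (Nat.dvd_one.mp this)
  have hcop : Nat.Coprime q (l ^ e) :=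
    Nat.Coprime.pow_right _ ((Nat.Prime.coprime_iff_not_dvd hl).mpr hlq).symm
  haveI : NeZero (l ^ e) := ⟨pow_ne_zero _ hl.ne_zero⟩
  set u := ZMod.unitOfCoprime q hcop with hu
  have hun : u ^ n = 1 := (pow_modEq_iff (l ^ e) q n hq.le hcop).mpr hdiv
  have ho_n : orderOf u ∣ n := orderOf_dvd_of_pow_eq_one hun
  have ho_phi : orderOf u ∣ l ^ (e - 1) * (l - 1) := by
    have := orderOf_dvd_card (x := u)
    rwa [ZMod.card_units_eq_totient, Nat.totient_prime_pow hl (Nat.pos_of_ne_zero he)] at this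
  have ho0 : orderOf u ≠ 0 := (orderOf_pos u).ne'
  have hl1 : l - 1 ≠ 0 := by have := hl.two_le; omega
  have hphi0 : l ^ (e - 1) * (l - 1) ≠ 0 := mul_ne_zero (pow_ne_zero _ hl.ne_zero) hl1
  have hv1 : (orderOf u).factorization r ≤ (l ^ (e - 1) * (l - 1)).factorization r :=
    (Nat.factorization_le_iff_dvd ho0 hphi0).mpr ho_phi r
  have hrpos : 0 < n.factorization r := hr.factorization_pos_of_dvd hn hrn
  have hv2 : (l ^ (e - 1) * (l - 1)).factorization r < n.factorization r := by
    rw [Nat.factorization_mul (pow_ne_zero _ hl.ne_zero) hl1, Nat.factorization_pow]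
    simp only [Finsupp.coe_add, Finsupp.coe_smul, Pi.add_apply, Pi.smul_apply, smul_eq_mul]
    rcases hlr.eq_or_lt with h | h
    · subst h
      have h1 : (l - 1).factorization l = 0 :=
        Nat.factorization_eq_zero_of_lt (by have := hl.two_le; omega)
      rw [h1, hl.factorization_self]
      have := hev rfl
      omega
    · rw [Nat.factorization_eq_zero_of_lt h, Nat.factorization_eq_zero_of_lt (by omega)]
      omega
  have hfin : orderOf u ∣ n / r :=
    dvd_div_of_val_lt _ n r hr hn ho_n (lt_of_le_of_lt hv1 hv2)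
  exact (pow_modEq_iff (l ^ e) q (n / r) hq.le hcop).mp (orderOf_dvd_iff_pow_eq_one.mp hfin)

theorem val_le_of_dvd {a b : ℕ} (hb : b ≠ 0) (h : a ∣ b) (p : ℕ) [Fact p.Prime] :
    padicValNat p a ≤ padicValNat p b := by
  rw [← padicValNat_dvd_iff_le hb]
  exact pow_padicValNat_dvd.trans h

theorem dvd_of_forall_val_le {a b : ℕ} (ha : a ≠ 0) (hb : b ≠ 0)
    (h : ∀ p : ℕ, ∀ hp : p.Prime, @padicValNat p a ≤ @padicValNat p b) : a ∣ b := by
  rw [← Nat.factorization_prime_le_iff_dvd ha hb]
  intro p hp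
  rw [Nat.factorization_def a hp, Nat.factorization_def b hp]
  exact h p hp

theorem val_descend (l r q n : ℕ) [hl : Fact l.Prime] (hr : r.Prime) (hne : l ≠ r) (hq : 1 < q)
    (hlq : l ∣ q - 1) (hrn : r ∣ n) (hn : n ≠ 0) :
    padicValNat l (q ^ n - 1) = padicValNat l (q ^ (n / r) - 1) := by
  have hn' : n / r ≠ 0 := by
    intro h
    have := Nat.div_mul_cancel hrn
    rw [h, zero_mul] at this
    exact hn this.symm
  have hQ : 1 < q ^ (n / r) := Nat.one_lt_pow hn' hq
  have h1 : l ∣ q ^ (n / r) - 1 := by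
    exact hlq.trans (Nat.sub_one_dvd_pow_sub_one q (n / r))
  have h2 : ¬ l ∣ r := by
    intro h
    exact hne ((Nat.prime_dvd_prime_iff_eq hl.out hr).mp h)
  have := val_cof l (q ^ (n / r)) r hQ h1 h2
  rw [← pow_mul, Nat.div_mul_cancel hrn] at this
  exact this

theorem main (q n : ℕ) (hq : IsPrimePow q) (hn : 1 < n) : ((∀ r : ℕ, r.Prime → r ∣ n → r ∣ q - 1) ∧ (4 ∣ n → 4 ∣ q - 1)) ↔ (q ^ n ≡ 1 [MOD n * (q - 1)] ∧ ∀ i : ℕ, 0 < i → i < n → ¬ q ^ i ≡ 1 [MOD n * (q - 1)]) := by
  have hq1 : 1 < q := hq.one_lt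
  have hn0 : n ≠ 0 := by omega
  have hq10 : q - 1 ≠ 0 := by omega
  have hN0 : n * (q - 1) ≠ 0 := mul_ne_zero hn0 hq10
  have hD : ∀ i : ℕ, q ^ i ≡ 1 [MOD n * (q - 1)] ↔ n * (q - 1) ∣ q ^ i - 1 := by
    intro i
    rw [Nat.ModEq.comm, Nat.modEq_iff_dvd' (Nat.one_le_pow _ _ (by omega))]
  have hM0 : ∀ i : ℕ, i ≠ 0 → q ^ i - 1 ≠ 0 := by
    intro i hi
    have := Nat.one_lt_pow hi hq1
    omega
  simp only [hD]
  have hvN : ∀ (p : ℕ) [Fact p.Prime], padicValNat p (n * (q - 1)) =
      padicValNat p n + padicValNat p (q - 1) := fun p _ => padicValNat.mul hn0 hq10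
  constructor
  · rintro ⟨hA1, hA2⟩
    constructor
    · -- divisibility
      apply dvd_of_forall_val_le hN0 (hM0 n hn0)
      intro l hl
      haveI := Fact.mk hl
      rw [hvN]
      by_cases hln : l ∣ n
      · have hlq := hA1 l hl hln
        by_cases hc : l = 2 ∧ Even n ∧ ¬ 4 ∣ q - 1
        · obtain ⟨rfl, hev, h4⟩ := hc
          have hx : ¬ 2 ∣ q := not_dvd_of_dvd_pred 2 q hl hq1 hlq
          have h1 := padicValNat.pow_two_sub_one_ge hq1 hx hn0 hev
          have h2 : padicValNat 2 (q - 1) < 2 := by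
            by_contra hcon
            push Not at hcon
            apply h4
            have := (padicValNat_dvd_iff_le (p := 2) hq10).mpr hcon
            simpa using this
          omega
        · rw [val_lte l q n hq1 hlq hn0 (by
            intro h2 hev
            by_contra h4
            exact hc ⟨h2, hev, h4⟩)]
          omega
      · rw [padicValNat.eq_zero_of_not_dvd hln, zero_add]
        apply val_le_of_dvd (hM0 n hn0)
        exact Nat.sub_one_dvd_pow_sub_one q n
    · -- minimality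
      intro i hi0 hin hdiv
      have hndvd : ¬ n ∣ i := Nat.not_dvd_of_pos_of_lt hi0 hin
      rw [← Nat.factorization_prime_le_iff_dvd hn0 (by omega)] at hndvd
      push Not at hndvd
      obtain ⟨r, hr, hlt⟩ := hndvd
      haveI := Fact.mk hr
      rw [Nat.factorization_def i hr, Nat.factorization_def n hr] at hlt
      have hrn : r ∣ n := by
        by_contra h
        rw [padicValNat.eq_zero_of_not_dvd h] at hlt
        omega
      have hrq := hA1 r hr hrn
      have hlte := val_lte r q i hq1 hrq (by omega) (by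
        intro h2 hev
        subst h2
        apply hA2
        have h1 : 1 ≤ padicValNat 2 i :=
          one_le_padicValNat_of_dvd (by omega) (even_iff_two_dvd.mp hev)
        have := (padicValNat_dvd_iff_le (p := 2) (n := 2) hn0).mpr (by omega)
        simpa using this)
      have hle := val_le_of_dvd (hM0 i (by omega)) hdiv r
      rw [hvN, hlte] at hle
      omega
  · rintro ⟨hB1, hB2⟩
    -- first part
    have hA1 : ∀ r : ℕ, r.Prime → r ∣ n → r ∣ q - 1 := by
      by_contra hcon
      push Not at hcon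
      -- the set of bad primes
      let S := (Nat.divisors n).filter (fun r => r.Prime ∧ ¬ r ∣ q - 1)
      have hSne : S.Nonempty := by
        obtain ⟨r, hr, hrn, hrq⟩ := hcon
        exact ⟨r, Finset.mem_filter.mpr ⟨Nat.mem_divisors.mpr ⟨hrn, hn0⟩, hr, hrq⟩⟩
      obtain ⟨r, hrS, hmax⟩ := S.exists_max_image id hSne
      rw [Finset.mem_filter, Nat.mem_divisors] at hrS
      obtain ⟨⟨hrn, -⟩, hr, hrq⟩ := hrS
      have hn'0 : n / r ≠ 0 := by
        intro h
        have := Nat.div_mul_cancel hrn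
        rw [h, zero_mul] at this
        exact hn0 this.symm
      have hn'lt : n / r < n := Nat.div_lt_self (by omega) hr.one_lt
      apply hB2 (n / r) (Nat.pos_of_ne_zero hn'0) hn'lt
      apply dvd_of_forall_val_le hN0 (hM0 _ hn'0)
      intro l hl
      haveI := Fact.mk hl
      by_cases hlq : l ∣ q - 1
      · have hne : l ≠ r := by
          rintro rfl
          exact hrq hlq
        rw [← val_descend l r q n hr hne hq1 hlq hrn hn0]
        exact val_le_of_dvd (hM0 n hn0) hB1 l
      · rw [hvN, padicValNat.eq_zero_of_not_dvd hlq, add_zero]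
        by_cases he : padicValNat l n = 0
        · rw [he]; exact Nat.zero_le _
        · have hln : l ∣ n := by
            by_contra h
            exact he (padicValNat.eq_zero_of_not_dvd h)
          have hlr : l ≤ r := hmax l (Finset.mem_filter.mpr
            ⟨Nat.mem_divisors.mpr ⟨hln, hn0⟩, hl, hlq⟩)
          have hpow : l ^ padicValNat l n ∣ q ^ n - 1 :=
            (pow_padicValNat_dvd.trans (Dvd.intro _ rfl)).trans hB1
          have := pow_dvd_descend q n l (padicValNat l n) r hl hr he hq1 hpow hn0 hrn hlr (by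
            rintro rfl
            rw [Nat.factorization_def n hl])
          exact (padicValNat_dvd_iff_le (hM0 _ hn'0)).mp this
    refine ⟨hA1, ?_⟩
    intro h4n
    by_contra h4q
    have h2n : 2 ∣ n := (by norm_num : 2 ∣ 4).trans h4n
    have h2q : 2 ∣ q - 1 := hA1 2 Nat.prime_two h2n
    have hx : ¬ 2 ∣ q := not_dvd_of_dvd_pred 2 q Nat.prime_two hq1 h2q
    have hn'0 : n / 2 ≠ 0 := by omega
    have hn'lt : n / 2 < n := by omega
    apply hB2 (n / 2) (by omega) hn'lt
    apply dvd_of_forall_val_le hN0 (hM0 _ hn'0)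
    intro l hl
    haveI := Fact.mk hl
    by_cases hl2 : l = 2
    · subst hl2
      have hev : Even (n / 2) := by
        obtain ⟨t, rfl⟩ := h4n
        exact ⟨t, by omega⟩
      have h1 := padicValNat.pow_two_sub_one_ge hq1 hx hn'0 hev
      have h2 : padicValNat 2 (q - 1) < 2 := by
        by_contra hcon
        push Not at hcon
        apply h4q
        have := (padicValNat_dvd_iff_le (p := 2) hq10).mpr hcon
        simpa using this
      have h3 : padicValNat 2 (n / 2) = padicValNat 2 n - 1 := by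
        rw [padicValNat.div_of_dvd h2n, padicValNat_self]
      have h4 : 2 ≤ padicValNat 2 n := by
        rw [← padicValNat_dvd_iff_le hn0]
        simpa using h4n
      rw [hvN]
      omega
    · by_cases hlN : l ∣ n * (q - 1)
      · have hlq : l ∣ q - 1 := by
          rcases (Nat.Prime.dvd_mul hl).mp hlN with h | h
          · exact hA1 l hl h
          · exact h
        rw [← val_descend l 2 q n Nat.prime_two hl2 hq1 hlq h2n hn0]
        exact val_le_of_dvd (hM0 n hn0) hB1 l
      · rw [padicValNat.eq_zero_of_not_dvd hlN]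
        exact Nat.zero_le _


/-- The Dickson pair condition: for a prime power `q` and `n > 1`, (every prime factor of `n` divides `q - 1`, and `4 ∣ n → 4 ∣ q - 1`) holds exactly when `q ^ n ≡ 1` modulo `n * (q - 1)` but `q ^ i` is not, for `0 < i < n`. -/
theorem result (q n : ℕ) (hq : IsPrimePow q) (hn : 1 < n) : ((∀ r : ℕ, r.Prime → r ∣ n → r ∣ q - 1) ∧ (4 ∣ n → 4 ∣ q - 1)) ↔ (q ^ n ≡ 1 [MOD n * (q - 1)] ∧ ∀ i : ℕ, 0 < i → i < n → ¬ q ^ i ≡ 1 [MOD n * (q - 1)]) := by
  exact main q n hq hn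

end Cfsg.Agent.S0694
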