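import Cfsg.Statements.S0697
import Mathlib
import Cfsg.Statements.S0697
import Cfsg.Agent.S0698

set_option autoImplicit false
open Cfsg

namespace Cfsg.Agent.S0697

open MulAction SubMulAction Cfsg.Agent.S0698

universe u v

section helpers

variable {G : Type u} {X : Type v} [Group G] [MulAction G X]

theorem T1' (hp : IsPreprimitive G X) (N : Subgroup G) [N.Normal]
    (hN : ∃ g ∈ N, ∃ x : X, g • x ≠ x) : IsPretransitive N X := by
  apply IsQuasiPreprimitive.isPretransitive_of_normal (G := G)
  intro h
  obtain ⟨g, hg, x, hx⟩ := hN
  have : x ∈ fixedPoints N X := by rw [h]; exact Set.mem_univ x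
  exact hx (this ⟨g, hg⟩)

theorem nontriv_of_ne_bot [FaithfulSMul G X] (N : Subgroup G) (hN : N ≠ ⊥) :
    ∃ g ∈ N, ∃ x : X, g • x ≠ x := by
  by_contra hne
  push Not at hne
  apply hN
  rw [eq_bot_iff]
  intro g hg
  rw [Subgroup.mem_bot]
  apply FaithfulSMul.eq_of_smul_eq_smul (α := X)
  intro x
  rw [hne g hg x, one_smul]

theorem card_le_factorial [FaithfulSMul G X] [Finite X] : Nat.card G ≤ (Nat.card X).factorial := by
  classical
  have : Fintype X := Fintype.ofFinite X
  have hinj : Function.Injective (MulAction.toPermHom G X) := MulAction.toPerm_injective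
  have h1 := Nat.card_le_card_of_injective _ hinj
  rw [Nat.card_eq_fintype_card (α := Equiv.Perm X), Fintype.card_perm, ← Nat.card_eq_fintype_card] at h1
  exact h1

theorem card_eq_factorial [FaithfulSMul G X] [Finite X] (m : ℕ) (hm : IsMultiplyPretransitive G X m)
    (hmX : m ≤ Nat.card X) (hd : (Nat.card X).descFactorial m = (Nat.card X).factorial) :
    Nat.card G = (Nat.card X).factorial := by
  classical
  have : Fintype X := Fintype.ofFinite X
  have : Finite G := finite_of_faithful (X := X)
  apply le_antisymm card_le_factorial
  have hne : Nonempty (Fin m ↪ X) := by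
    apply Function.Embedding.nonempty_of_card_le
    rw [Fintype.card_fin, ← Nat.card_eq_fintype_card]
    exact hmX
  obtain ⟨x₀⟩ := hne
  have hsurj : Function.Surjective (fun g : G => g • x₀) := fun y => hm.exists_smul_eq x₀ y
  have h1 := Nat.card_le_card_of_surjective _ hsurj
  rw [Nat.card_eq_fintype_card (α := Fin m ↪ X), Fintype.card_embedding_eq, Fintype.card_fin,
    ← Nat.card_eq_fintype_card, hd] at h1
  exact h1

theorem card_stab [Finite G] (htr : IsPretransitive G X) (a : X) :
    Nat.card G = Nat.card X * Nat.card (stabilizer G a) := by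
  rw [← index_stabilizer_of_transitive (G := G) (x := a), mul_comm, Subgroup.card_mul_index]

end helpers

theorem wiel_aux (k : ℕ) (hk : 1 ≤ k) :
    ∀ (G : Type u) (X : Type v) [Group G] [MulAction G X] [FaithfulSMul G X] [Finite X]
      (H : Subgroup G) [H.Normal], IsMultiplyPreprimitive G X k → k ≤ Nat.card X →
      Nat.card G ≠ (Nat.card X).factorial → (∃ a : X, stabilizer H a ≠ ⊥) →
      IsMultiplyPretransitive H X k := by
  induction k, hk using Nat.le_induction with
  | base =>
    intro G X _ _ _ _ H _ hprim hcard hG hnr
    have hp : IsPreprimitive G X := (is_one_preprimitive_iff G X).mp hprim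
    have hH : H ≠ ⊥ := by
      rintro rfl
      obtain ⟨a, ha⟩ := hnr
      apply ha
      rw [eq_bot_iff]
      intro g _
      exact Subsingleton.elim _ _
    rw [is_one_pretransitive_iff]
    exact T1' hp H (nontriv_of_ne_bot H hH)
  | succ k hk ih =>
    intro G X _ _ _ _ H _ hprim hcard hG hnr
    classical
    have hfinG : Finite G := finite_of_faithful (X := X)
    have hFX : Fintype X := Fintype.ofFinite X
    have hcardF : Fintype.card X = Nat.card X := (Nat.card_eq_fintype_card).symm
    have hENat : ∀ m : ℕ, m ≤ Nat.card X → (m : ENat) ≤ ENat.card X := by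
      intro m hm
      rw [ENat.card_eq_coe_natCard]
      exact_mod_cast hm
    have hprim1 : IsMultiplyPreprimitive G X 1 :=
      isMultiplyPreprimitive_of_le G X hprim (by omega) (hENat _ hcard)
    have hp : IsPreprimitive G X := (is_one_preprimitive_iff G X).mp hprim1
    have htrG : IsPretransitive G X := hp.toIsPretransitive
    obtain ⟨a, ha⟩ := hnr
    have hH : H ≠ ⊥ := by
      rintro rfl
      apply ha
      rw [eq_bot_iff]
      intro g _
      exact Subsingleton.elim _ _
    have htr : IsPretransitive H X := T1' hp H (nontriv_of_ne_bot H hH)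
    have hprim' : IsMultiplyPreprimitive (stabilizer G a) (ofStabilizer G a) k :=
      isMultiplyPreprimitive_ofStabilizer G X
    have hcX : Nat.card (ofStabilizer G a) + 1 = Nat.card X := nat_card_ofStabilizer_add_one_eq (G := G) a
    have hcard' : k ≤ Nat.card (ofStabilizer G a) := by omega
    have hENat' : ∀ m : ℕ, m ≤ Nat.card (ofStabilizer G a) → (m : ENat) ≤ ENat.card (ofStabilizer G a) := by
      intro m hm
      rw [ENat.card_eq_coe_natCard]
      exact_mod_cast hm
    have hG' : Nat.card (stabilizer G a) ≠ (Nat.card (ofStabilizer G a)).factorial := by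
      intro h
      apply hG
      rw [card_stab htrG a, h, ← hcX, Nat.factorial_succ]
    have hH' : H.subgroupOf (stabilizer G a) ≠ ⊥ := by
      intro h0
      apply ha
      rw [eq_bot_iff]
      intro n hn
      rw [Subgroup.mem_bot]
      have h1 : (⟨(n : G), hn⟩ : stabilizer G a) ∈ H.subgroupOf (stabilizer G a) :=
        Subgroup.mem_subgroupOf.mpr n.2
      rw [h0, Subgroup.mem_bot] at h1
      apply Subtype.ext
      have h2' : (n : G) = 1 := congrArg Subtype.val h1
      exact h2'
    have hfinal : IsMultiplyPretransitive (H.subgroupOf (stabilizer G a)) (ofStabilizer G a) k →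
        IsMultiplyPretransitive H X (k + 1) := by
      intro h
      have h1 := T3 H a k h
      exact ofStabilizer.isMultiplyPretransitive.mpr h1
    by_cases hI : ∃ b : ofStabilizer G a, stabilizer (H.subgroupOf (stabilizer G a)) b ≠ ⊥
    · exact hfinal (ih (stabilizer G a) (ofStabilizer G a) (H.subgroupOf (stabilizer G a)) hprim' hcard' hG' hI)
    · push Not at hI
      have hprim1' : IsMultiplyPreprimitive (stabilizer G a) (ofStabilizer G a) 1 :=
        isMultiplyPreprimitive_of_le _ _ hprim' hk (hENat' _ hcard')
      have hp' : IsPreprimitive (stabilizer G a) (ofStabilizer G a) := (is_one_preprimitive_iff _ _).mp hprim1'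
      have htr' : IsPretransitive (H.subgroupOf (stabilizer G a)) (ofStabilizer G a) :=
        T1' hp' _ (nontriv_of_ne_bot _ hH')
      by_cases hk1 : k = 1
      · subst hk1
        apply hfinal
        rw [is_one_pretransitive_iff]
        exact htr'
      · exfalso
        have hk2 : 2 ≤ k := by omega
        have hprim2' : IsMultiplyPreprimitive (stabilizer G a) (ofStabilizer G a) 2 :=
          isMultiplyPreprimitive_of_le _ _ hprim' hk2 (hENat' _ hcard')
        have hprim2 : IsMultiplyPreprimitive G X 2 :=
          isMultiplyPreprimitive_of_le G X hprim (by omega) (hENat _ hcard)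
        have hFX' : Fintype (ofStabilizer G a) := Fintype.ofFinite _
        have hc' : Fintype.card (ofStabilizer G a) = Nat.card (ofStabilizer G a) :=
          (Nat.card_eq_fintype_card).symm
        obtain ⟨K, hKn, hKtr, hKreg⟩ := exists_regular_normal H htr a htr' hI (by omega)
        have h3t : IsMultiplyPretransitive G X 3 :=
          isMultiplyPretransitive_of_le' (n := k + 1) (by omega) (hENat _ hcard)
        have hX34 : Nat.card X = 3 ∨ Nat.card X = 4 := by
          rcases Cfsg.Agent.S0695.result (by omega) hprim2' (H.subgroupOf (stabilizer G a)) htr' hI with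
            h | ⟨_, _, m, hm⟩
          · right; omega
          · rcases Cfsg.Agent.S0695.result (by omega) hprim2 K hKtr hKreg with h' | ⟨_, _, m', hm'⟩
            · left; omega
            · exfalso
              have e1 : Nat.card X = 2 ^ m + 1 := by omega
              have e2 : Nat.card X = 2 ^ m' := by omega
              have hm0 : m ≠ 0 := by
                rintro rfl
                omega
              have hm'0 : m' ≠ 0 := by
                rintro rfl
                omega
              have h1 : 2 ∣ 2 ^ m := dvd_pow_self 2 hm0
              have h2 : 2 ∣ 2 ^ m' := dvd_pow_self 2 hm'0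
              omega
        apply hG
        rcases hX34 with h | h
        · apply card_eq_factorial 3 h3t (by omega)
          rw [h]; rfl
        · apply card_eq_factorial 3 h3t (by omega)
          rw [h]; rfl

theorem main {α : Type*} [Fintype α] [DecidableEq α] (G : Subgroup (Equiv.Perm α)) {k : ℕ} (hk : 1 ≤ k)
    (hkn : k ≤ Fintype.card α) (hG : MulAction.IsMultiplyPreprimitive G α k) (htop : G ≠ ⊤)
    (H : Subgroup G) [H.Normal] (hnr : ∃ a : α, MulAction.stabilizer H a ≠ ⊥) :
    MulAction.IsMultiplyPretransitive H α k := by
  apply wiel_aux k hk G α H hG (by rwa [Nat.card_eq_fintype_card]) _ hnr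
  intro h
  apply htop
  apply Subgroup.eq_top_of_card_eq
  rw [h, Nat.card_eq_fintype_card, Nat.card_eq_fintype_card, Fintype.card_perm]


/-- In a `k`-primitive permutation group which is not the whole symmetric group, a non-trivial non-regular normal subgroup is `k`-transitive. -/
theorem result {α : Type*} [Fintype α] [DecidableEq α] (G : Subgroup (Equiv.Perm α)) {k : ℕ} (hk : 1 ≤ k) (hkn : k ≤ Fintype.card α) (hG : MulAction.IsMultiplyPreprimitive G α k) (htop : G ≠ ⊤) (H : Subgroup G) [H.Normal] (hH : H ≠ ⊥) (hnr : ∃ a : α, MulAction.stabilizer H a ≠ ⊥) : MulAction.IsMultiplyPretransitive H α k := by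
  exact main G hk hkn hG htop H hnr

end Cfsg.Agent.S0697
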