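import Cfsg.Statements.S0701
import Mathlib
-- import your own Cfsg.Agent.* helpers here

set_option autoImplicit false
open Cfsg

namespace Cfsg.Agent.S0701

/-- The centraliser in the full symmetric group of a transitive permutation group `G` is semiregular, and it is transitive if and only if `G` is regular. -/
theorem result {α : Type*} (G : Subgroup (Equiv.Perm α)) [MulAction.IsPretransitive G α] : (∀ c ∈ Subgroup.centralizer (G : Set (Equiv.Perm α)), ∀ a : α, c a = a → c = 1) ∧ (MulAction.IsPretransitive (Subgroup.centralizer (G : Set (Equiv.Perm α))) α ↔ ∀ a : α, MulAction.stabilizer G a = ⊥) := by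
  have hcomm : ∀ c ∈ Subgroup.centralizer (G : Set (Equiv.Perm α)), ∀ g ∈ G, ∀ x : α, c (g x) = g (c x) := by
    intro c hc g hg x
    have := Subgroup.mem_centralizer_iff.mp hc g hg
    have h2 := congrArg (fun f : Equiv.Perm α => f x) this
    simpa using h2.symm
  refine ⟨?_, ?_, ?_⟩
  · intro c hc a hca
    ext b
    obtain ⟨g, hg⟩ := MulAction.exists_smul_eq G a b
    have : c (g.1 a) = g.1 (c a) := hcomm c hc g.1 g.2 a
    rw [hca] at this
    have hb : g.1 a = b := hg
    rw [hb] at this
    simpa using this
  · intro htr a
    rw [Subgroup.eq_bot_iff_forall]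
    intro g hg
    have hga : g.1 a = a := hg
    apply Subtype.ext
    ext b
    obtain ⟨c, hc⟩ := MulAction.exists_smul_eq (Subgroup.centralizer (G : Set (Equiv.Perm α))) a b
    have hcb : c.1 a = b := hc
    have := hcomm c.1 c.2 g.1 g.2 a
    rw [hga, hcb] at this
    simpa using this.symm
  · intro hreg
    refine ⟨fun a b => ?_⟩
    have hbij : ∀ x : α, Function.Bijective (fun g : G => g.1 x) := by
      intro x
      constructor
      · intro g g' hgg'
        have h1 : g'⁻¹ * g ∈ MulAction.stabilizer G x := by
          rw [MulAction.mem_stabilizer_iff]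
          change (g'⁻¹ * g).1 x = x
          have : g.1 x = g'.1 x := hgg'
          simp [this]
        rw [hreg x, Subgroup.mem_bot] at h1
        have := congrArg (fun t => g' * t) h1
        simpa using this
      · intro y
        obtain ⟨g, hg⟩ := MulAction.exists_smul_eq G x y
        exact ⟨g, hg⟩
    let ea : G ≃ α := Equiv.ofBijective _ (hbij a)
    let eb : G ≃ α := Equiv.ofBijective _ (hbij b)
    let c : Equiv.Perm α := ea.symm.trans eb
    have hc : ∀ g : G, c (g.1 a) = g.1 b := by
      intro g
      change eb (ea.symm (ea g)) = eb g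
      rw [Equiv.symm_apply_apply]
    have hcmem : c ∈ Subgroup.centralizer (G : Set (Equiv.Perm α)) := by
      rw [Subgroup.mem_centralizer_iff]
      intro h hh
      ext x
      obtain ⟨g, rfl⟩ := ea.surjective x
      change h (c (g.1 a)) = c (h (g.1 a))
      rw [hc g]
      have : h (g.1 a) = (⟨h, hh⟩ * g : G).1 a := rfl
      rw [this, hc]
      rfl
    refine ⟨⟨c, hcmem⟩, ?_⟩
    change c a = b
    have := hc 1
    simpa using this

end Cfsg.Agent.S0701
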