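import Cfsg.Statements.S0702
import Mathlib

set_option autoImplicit false
open Cfsg

namespace Cfsg.Agent.S0702

section

variable {α : Type*} (G : Subgroup (Equiv.Perm α)) [MulAction.IsPretransitive G α] (a : α)

noncomputable def sec (x : α) : G := Classical.choose (MulAction.exists_smul_eq G a x)

theorem sec_spec (x : α) : sec G a x • a = x := Classical.choose_spec (MulAction.exists_smul_eq G a x)

noncomputable def F (n : G) (x : α) : α := sec G a x • n⁻¹ • a

theorem wd (n : G) (hn : n ∈ Subgroup.normalizer ((MulAction.stabilizer G a : Subgroup G) : Set G))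
    (g g' : G) (h : g • a = g' • a) : g • n⁻¹ • a = g' • n⁻¹ • a := by
  have h1 : g'⁻¹ * g ∈ MulAction.stabilizer G a := by
    rw [MulAction.mem_stabilizer_iff, mul_smul, h, inv_smul_smul]
  have h2 := (Subgroup.mem_normalizer_iff.mp hn (g'⁻¹ * g)).mp h1
  rw [MulAction.mem_stabilizer_iff] at h2
  have h3 : (g' * n⁻¹) • ((n * (g'⁻¹ * g) * n⁻¹) • a) = (g' * n⁻¹) • a := by rw [h2]
  rw [← mul_smul] at h3
  have h4 : g' * n⁻¹ * (n * (g'⁻¹ * g) * n⁻¹) = g * n⁻¹ := by group
  rw [h4, mul_smul, mul_smul] at h3
  exact h3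

theorem F_smul (n : G) (hn : n ∈ Subgroup.normalizer ((MulAction.stabilizer G a : Subgroup G) : Set G))
    (g : G) : F G a n (g • a) = g • n⁻¹ • a := by
  unfold F
  exact wd G a n hn _ _ (sec_spec G a (g • a))

theorem F_mul (n m : G) (hn : n ∈ Subgroup.normalizer ((MulAction.stabilizer G a : Subgroup G) : Set G))
    (hm : m ∈ Subgroup.normalizer ((MulAction.stabilizer G a : Subgroup G) : Set G)) (x : α) :
    F G a n (F G a m x) = F G a (n * m) x := by
  obtain ⟨g, rfl⟩ := MulAction.exists_smul_eq G a x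
  rw [F_smul G a m hm, F_smul G a (n * m) (Subgroup.mul_mem _ hn hm), ← mul_smul,
    F_smul G a n hn, ← mul_smul, ← mul_smul, mul_inv_rev, mul_assoc]

theorem F_one (x : α) : F G a 1 x = x := by
  unfold F
  rw [inv_one, one_smul, sec_spec]

noncomputable def perm (n : Subgroup.normalizer ((MulAction.stabilizer G a : Subgroup G) : Set G)) :
    Equiv.Perm α where
  toFun := F G a n.1
  invFun := F G a (n.1)⁻¹
  left_inv x := by
    rw [F_mul G a _ _ (Subgroup.inv_mem _ n.2) n.2, inv_mul_cancel, F_one]
  right_inv x := by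
    rw [F_mul G a _ _ n.2 (Subgroup.inv_mem _ n.2), mul_inv_cancel, F_one]

theorem perm_apply (n : Subgroup.normalizer ((MulAction.stabilizer G a : Subgroup G) : Set G)) (x : α) :
    perm G a n x = F G a n.1 x := rfl

theorem perm_mem (n : Subgroup.normalizer ((MulAction.stabilizer G a : Subgroup G) : Set G)) :
    perm G a n ∈ Subgroup.centralizer (G : Set (Equiv.Perm α)) := by
  rw [Subgroup.mem_centralizer_iff]
  intro h hh
  ext x
  obtain ⟨g, rfl⟩ := MulAction.exists_smul_eq G a x
  change h (F G a n.1 (g • a)) = F G a n.1 (h (g • a))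
  have e1 : h (g • a) = ((⟨h, hh⟩ : G) * g) • a := by
    rw [mul_smul]; rfl
  rw [e1, F_smul G a n.1 n.2, F_smul G a n.1 n.2, mul_smul]
  rfl

noncomputable def phi : Subgroup.normalizer ((MulAction.stabilizer G a : Subgroup G) : Set G) →*
    Subgroup.centralizer (G : Set (Equiv.Perm α)) where
  toFun n := ⟨perm G a n, perm_mem G a n⟩
  map_one' := by
    apply Subtype.ext
    ext x
    change F G a 1 x = x
    exact F_one G a x
  map_mul' n m := by
    apply Subtype.ext
    ext x
    change F G a (n.1 * m.1) x = F G a n.1 (F G a m.1 x)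
    rw [F_mul G a _ _ n.2 m.2]

theorem phi_apply (n : Subgroup.normalizer ((MulAction.stabilizer G a : Subgroup G) : Set G)) (x : α) :
    ((phi G a n : Subgroup.centralizer (G : Set (Equiv.Perm α))) : Equiv.Perm α) x = F G a n.1 x := rfl

theorem phi_ker : (phi G a).ker = (MulAction.stabilizer G a).subgroupOf
    (Subgroup.normalizer ((MulAction.stabilizer G a : Subgroup G) : Set G)) := by
  ext n
  rw [MonoidHom.mem_ker, Subgroup.mem_subgroupOf, MulAction.mem_stabilizer_iff]
  constructor
  · intro h
    have h1 := congrArg (fun c : Subgroup.centralizer (G : Set (Equiv.Perm α)) => (c : Equiv.Perm α) a) h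
    simp only [phi_apply] at h1
    have h2 : F G a n.1 a = n.1⁻¹ • a := by
      have := F_smul G a n.1 n.2 1
      rw [one_smul, one_smul] at this
      exact this
    rw [h2] at h1
    have h3 : n.1⁻¹ • a = a := h1
    rw [inv_smul_eq_iff] at h3
    exact h3.symm
  · intro h
    apply Subtype.ext
    ext x
    rw [phi_apply]
    obtain ⟨g, rfl⟩ := MulAction.exists_smul_eq G a x
    rw [F_smul G a n.1 n.2]
    have : n.1⁻¹ • a = a := by rw [inv_smul_eq_iff]; exact h.symm
    rw [this]
    rfl

theorem comm_apply (c : Equiv.Perm α) (hc : c ∈ Subgroup.centralizer (G : Set (Equiv.Perm α)))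
    (g : G) (x : α) : c (g • x) = g • c x := by
  have := Subgroup.mem_centralizer_iff.mp hc g.1 g.2
  have h2 := congrArg (fun f : Equiv.Perm α => f x) this
  exact h2.symm

theorem mem_normalizer_of_fixed [Finite α] (b : α)
    (hb : ∀ s ∈ MulAction.stabilizer G a, s • b = b) (g₀ : G) (hg₀ : g₀ • a = b) :
    g₀⁻¹ ∈ Subgroup.normalizer ((MulAction.stabilizer G a : Subgroup G) : Set G) := by
  apply Subgroup.mem_normalizer_fintype
  intro s hs
  have hs' : s ∈ MulAction.stabilizer G a := hs
  change g₀⁻¹ * s * g₀⁻¹⁻¹ ∈ MulAction.stabilizer G a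
  rw [MulAction.mem_stabilizer_iff, inv_inv, mul_smul, mul_smul, hg₀, hb s hs', ← hg₀,
    inv_smul_smul]

end

/-- For a transitive permutation group `G` on a finite set, the centraliser of `G` in the symmetric group is isomorphic to `N_G(G_ω)/G_ω`, and its orbit of `ω` is the set of fixed points of `G_ω`. -/
theorem result {α : Type*} [Finite α] (G : Subgroup (Equiv.Perm α)) [MulAction.IsPretransitive G α] (a : α) : Nonempty (Subgroup.centralizer (G : Set (Equiv.Perm α)) ≃* Subgroup.normalizer ((MulAction.stabilizer G a : Subgroup G) : Set G) ⧸ (MulAction.stabilizer G a).subgroupOf (Subgroup.normalizer ((MulAction.stabilizer G a : Subgroup G) : Set G))) ∧ MulAction.orbit (Subgroup.centralizer (G : Set (Equiv.Perm α))) a = MulAction.fixedPoints (MulAction.stabilizer G a) α := by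
  constructor
  · have hsurj : Function.Surjective (phi G a) := by
      rintro ⟨c, hc⟩
      set b := c a with hb
      obtain ⟨g₀, hg₀⟩ := MulAction.exists_smul_eq G a b
      have hfix : ∀ s ∈ MulAction.stabilizer G a, s • b = b := by
        intro s hs
        rw [hb, ← comm_apply G c hc s a, MulAction.mem_stabilizer_iff.mp hs]
      have hN := mem_normalizer_of_fixed G a b hfix g₀ hg₀
      refine ⟨⟨g₀⁻¹, hN⟩, ?_⟩
      apply Subtype.ext
      ext x
      rw [phi_apply]
      obtain ⟨g, rfl⟩ := MulAction.exists_smul_eq G a x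
      rw [F_smul G a _ hN, inv_inv, hg₀, hb]
      exact (comm_apply G c hc g a).symm
    refine ⟨((QuotientGroup.quotientMulEquivOfEq (phi_ker G a)).symm.trans
      (QuotientGroup.quotientKerEquivOfSurjective (phi G a) hsurj)).symm⟩
  · ext b
    constructor
    · rintro ⟨c, rfl⟩
      rw [MulAction.mem_fixedPoints]
      intro s
      change s.1 • (c.1 a) = c.1 a
      rw [← comm_apply G c.1 c.2 s.1 a, MulAction.mem_stabilizer_iff.mp s.2]
    · intro hb
      rw [MulAction.mem_fixedPoints] at hb
      obtain ⟨g₀, hg₀⟩ := MulAction.exists_smul_eq G a b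
      have hfix : ∀ s ∈ MulAction.stabilizer G a, s • b = b := fun s hs => hb ⟨s, hs⟩
      have hN := mem_normalizer_of_fixed G a b hfix g₀ hg₀
      refine ⟨phi G a ⟨g₀⁻¹, hN⟩, ?_⟩
      change ((phi G a ⟨g₀⁻¹, hN⟩ : Subgroup.centralizer (G : Set (Equiv.Perm α))) : Equiv.Perm α) a = b
      rw [phi_apply]
      have := F_smul G a g₀⁻¹ hN 1
      rw [one_smul, one_smul, inv_inv, hg₀] at this
      exact this

end Cfsg.Agent.S0702
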