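import Cfsg.Statements.S0703
import Mathlib

set_option autoImplicit false
open Cfsg

namespace Cfsg.Agent.S0703

variable {α : Type*}

theorem smul_eq (G : Subgroup (Equiv.Perm α)) (M : Subgroup G) (m : M) (a : α) :
    m • a = ((m : G) : Equiv.Perm α) a := rfl

theorem regular_of_abelian (G : Subgroup (Equiv.Perm α)) (M : Subgroup G)
    (hab : IsMulCommutative M) (htrans : MulAction.IsPretransitive M α) (a : α) :
    MulAction.stabilizer M a = ⊥ := by
  rw [eq_bot_iff]
  intro m hm
  rw [MulAction.mem_stabilizer_iff] at hm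
  rw [Subgroup.mem_bot]
  apply Subtype.ext
  apply Subtype.ext
  ext b
  obtain ⟨n, hn⟩ := MulAction.exists_smul_eq M a b
  show (m • b) = b
  rw [← hn, smul_smul, mul_comm' m n, ← smul_smul, hm]

theorem centralizer_eq (G : Subgroup (Equiv.Perm α)) (M : Subgroup G) (hM : M ≠ ⊥)
    (hab : IsMulCommutative M) (htrans : MulAction.IsPretransitive M α) :
    Subgroup.centralizer ((M.map G.subtype : Subgroup (Equiv.Perm α)) : Set (Equiv.Perm α))
      = M.map G.subtype := by
  apply le_antisymm
  · intro c hc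
    rw [Subgroup.mem_centralizer_iff] at hc
    -- α is nonempty
    have hne : Nonempty α := by
      by_contra hemp
      rw [not_nonempty_iff] at hemp
      apply hM
      rw [eq_bot_iff]
      intro m _
      rw [Subgroup.mem_bot]
      apply Subtype.ext
      ext b
      exact hemp.elim b
    obtain ⟨a⟩ := hne
    obtain ⟨n, hn⟩ := MulAction.exists_smul_eq M a (c a)
    refine ⟨(n : G), n.2, ?_⟩
    ext b
    obtain ⟨n', hn'⟩ := MulAction.exists_smul_eq M a b
    have hcomm := hc ((n' : G) : Equiv.Perm α) ⟨(n' : G), n'.2, rfl⟩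
    have h1 : c b = ((n' : G) : Equiv.Perm α) (c a) := by
      rw [← hn', smul_eq]
      have := congrArg (fun f : Equiv.Perm α => f a) hcomm
      simpa using this.symm
    show ((n : G) : Equiv.Perm α) b = c b
    rw [h1, ← hn, ← hn']
    show n • n' • a = n' • n • a
    rw [smul_smul, smul_smul, mul_comm' n n']
  · rintro x ⟨m, hm, rfl⟩
    rw [Subgroup.mem_centralizer_iff]
    rintro y ⟨n, hn, rfl⟩
    have := mul_comm' (⟨n, hn⟩ : M) ⟨m, hm⟩
    have h2 := congrArg (fun z : M => ((z : G) : Equiv.Perm α)) this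
    exact h2

theorem elem_abelian [Finite α] (G : Subgroup (Equiv.Perm α)) (M : Subgroup G) [M.Normal] (hM : M ≠ ⊥)
    (hmin : ∀ L : Subgroup G, L.Normal → L ≤ M → L = ⊥ ∨ L = M) (hab : IsMulCommutative M) :
    ∃ p : ℕ, p.Prime ∧ ∀ m ∈ M, m ^ p = 1 := by
  classical
  have hcard : Nat.card M ≠ 1 := by
    intro h
    apply hM
    exact Subgroup.card_eq_one.mp h
  obtain ⟨p, hp, hpd⟩ := Nat.exists_prime_and_dvd hcard
  have : Fact p.Prime := ⟨hp⟩
  obtain ⟨m₀, hm₀⟩ := exists_prime_orderOf_dvd_card' p hpd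
  let K : Subgroup G :=
    { carrier := {g | g ∈ M ∧ g ^ p = 1}
      mul_mem' := by
        rintro a b ⟨ha, hap⟩ ⟨hb, hbp⟩
        refine ⟨M.mul_mem ha hb, ?_⟩
        have hc : Commute a b := by
          have := mul_comm' (⟨a, ha⟩ : M) ⟨b, hb⟩
          exact congrArg Subtype.val this
        rw [hc.mul_pow, hap, hbp, one_mul]
      one_mem' := ⟨M.one_mem, one_pow p⟩
      inv_mem' := by
        rintro a ⟨ha, hap⟩
        exact ⟨M.inv_mem ha, by rw [inv_pow, hap, inv_one]⟩ }
  have hKn : K.Normal := by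
    constructor
    rintro a ⟨ha, hap⟩ g
    refine ⟨Subgroup.Normal.conj_mem inferInstance a ha g, ?_⟩
    rw [conj_pow, hap, mul_one, mul_inv_cancel]
  have hKM : K ≤ M := fun g hg => hg.1
  rcases hmin K hKn hKM with h | h
  · exfalso
    have hm₀K : (m₀ : G) ∈ K := by
      refine ⟨m₀.2, ?_⟩
      have := pow_orderOf_eq_one m₀
      rw [hm₀] at this
      exact congrArg Subtype.val this
    rw [h, Subgroup.mem_bot] at hm₀K
    have : m₀ = 1 := Subtype.ext hm₀K
    rw [this, orderOf_one] at hm₀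
    exact hp.one_lt.ne hm₀
  · refine ⟨p, hp, ?_⟩
    intro m hm
    rw [← h] at hm
    exact hm.2

theorem unique_min [Finite α] (G : Subgroup (Equiv.Perm α)) (M : Subgroup G) [M.Normal] (hM : M ≠ ⊥)
    (hmin : ∀ L : Subgroup G, L.Normal → L ≤ M → L = ⊥ ∨ L = M) (hab : IsMulCommutative M)
    (htrans : MulAction.IsPretransitive M α) :
    ∀ L : Subgroup G, L.Normal → L ≠ ⊥ →
      (∀ L' : Subgroup G, L'.Normal → L' ≤ L → L' = ⊥ ∨ L' = L) → L = M := by
  intro L hLn hL hLmin
  by_contra hne
  have hIn : (L ⊓ M).Normal := Subgroup.normal_inf_normal L M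
  have hI : L ⊓ M = ⊥ := by
    rcases hLmin (L ⊓ M) hIn inf_le_left with h | h
    · exact h
    · exfalso
      have hLM : L ≤ M := by rw [← h]; exact inf_le_right
      rcases hmin L hLn hLM with h' | h'
      · exact hL h'
      · exact hne h'
  have hdisj : Disjoint L M := disjoint_iff.mpr hI
  have hLM : L ≤ M := by
    intro l hl
    have hcent : ((l : G) : Equiv.Perm α) ∈ Subgroup.centralizer
        ((M.map G.subtype : Subgroup (Equiv.Perm α)) : Set (Equiv.Perm α)) := by
      rw [Subgroup.mem_centralizer_iff]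
      rintro y ⟨n, hn, rfl⟩
      have := Subgroup.commute_of_normal_of_disjoint L M hLn inferInstance hdisj l n hl hn
      exact (congrArg Subtype.val this.eq).symm
    rw [centralizer_eq G M hM hab htrans] at hcent
    obtain ⟨m, hm, hml⟩ := hcent
    have : m = l := Subtype.ext hml
    rw [← this]; exact hm
  apply hL
  rw [eq_bot_iff, ← hI]
  exact le_inf le_rfl hLM

theorem main [Finite α] (G : Subgroup (Equiv.Perm α)) (M : Subgroup G) [M.Normal] (hM : M ≠ ⊥) (hmin : ∀ L : Subgroup G, L.Normal → L ≤ M → L = ⊥ ∨ L = M) (hab : IsMulCommutative M) (htrans : MulAction.IsPretransitive M α) : Subgroup.centralizer ((M.map G.subtype : Subgroup (Equiv.Perm α)) : Set (Equiv.Perm α)) = M.map G.subtype ∧ (∀ a : α, MulAction.stabilizer M a = ⊥) ∧ (∃ p : ℕ, p.Prime ∧ ∀ m ∈ M, m ^ p = 1) ∧ ∀ L : Subgroup G, L.Normal → L ≠ ⊥ → (∀ L' : Subgroup G, L'.Normal → L' ≤ L → L' = ⊥ ∨ L' = L) → L = M :=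
  ⟨centralizer_eq G M hM hab htrans, regular_of_abelian G M hab htrans,
    elem_abelian G M hM hmin hab, unique_min G M hM hmin hab htrans⟩


/-- An abelian transitive minimal normal subgroup `M` of a permutation group on a finite set is self-centralising in the symmetric group, regular, elementary abelian, and is the unique minimal normal subgroup. -/
theorem result {α : Type*} [Finite α] (G : Subgroup (Equiv.Perm α)) (M : Subgroup G) [M.Normal] (hM : M ≠ ⊥) (hmin : ∀ L : Subgroup G, L.Normal → L ≤ M → L = ⊥ ∨ L = M) (hab : IsMulCommutative M) (htrans : MulAction.IsPretransitive M α) : Subgroup.centralizer ((M.map G.subtype : Subgroup (Equiv.Perm α)) : Set (Equiv.Perm α)) = M.map G.subtype ∧ (∀ a : α, MulAction.stabilizer M a = ⊥) ∧ (∃ p : ℕ, p.Prime ∧ ∀ m ∈ M, m ^ p = 1) ∧ ∀ L : Subgroup G, L.Normal → L ≠ ⊥ → (∀ L' : Subgroup G, L'.Normal → L' ≤ L → L' = ⊥ ∨ L' = L) → L = M := by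
  exact main G M hM hmin hab htrans

end Cfsg.Agent.S0703
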