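import Cfsg.Statements.S0704
import Mathlib

set_option autoImplicit false
open Cfsg

namespace Cfsg.Agent.S0704

variable {α : Type*}

theorem inf_bot_of_min (G : Subgroup (Equiv.Perm α)) (M N : Subgroup G) [M.Normal] [N.Normal]
    (hM : M ≠ ⊥)
    (hMmin : ∀ L : Subgroup G, L.Normal → L ≤ M → L = ⊥ ∨ L = M)
    (hNmin : ∀ L : Subgroup G, L.Normal → L ≤ N → L = ⊥ ∨ L = N) (hMN : M ≠ N) : M ⊓ N = ⊥ := by
  have hIn : (M ⊓ N).Normal := Subgroup.normal_inf_normal M N
  rcases hMmin (M ⊓ N) hIn inf_le_left with h | h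
  · exact h
  · exfalso
    have hle : M ≤ N := by rw [← h]; exact inf_le_right
    rcases hNmin M inferInstance hle with h' | h'
    · exact hM h'
    · exact hMN h'

/-- An element commuting with a transitive group and fixing a point is trivial. -/
theorem semireg (G : Subgroup (Equiv.Perm α)) (M : Subgroup G)
    (hMt : MulAction.IsPretransitive M α) (c : Equiv.Perm α)
    (hc : ∀ m ∈ M, ((m : G) : Equiv.Perm α) * c = c * ((m : G) : Equiv.Perm α)) (a : α) (hca : c a = a) :
    c = 1 := by
  ext b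
  obtain ⟨m, hm⟩ := MulAction.exists_smul_eq M a b
  have h1 := congrArg (fun f : Equiv.Perm α => f a) (hc (m : G) m.2)
  simp only [Equiv.Perm.mul_apply, hca] at h1
  have hb : ((m : G) : Equiv.Perm α) a = b := hm
  rw [hb] at h1
  rw [← h1, Equiv.Perm.one_apply]

theorem commute_MN (G : Subgroup (Equiv.Perm α)) (M N : Subgroup G) [hMn : M.Normal] [hNn : N.Normal]
    (hI : M ⊓ N = ⊥) (m n : G) (hm : m ∈ M) (hn : n ∈ N) :
    (m : Equiv.Perm α) * (n : Equiv.Perm α) = (n : Equiv.Perm α) * (m : Equiv.Perm α) := by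
  have := Subgroup.commute_of_normal_of_disjoint M N hMn hNn (disjoint_iff.mpr hI) m n hm hn
  exact congrArg Subtype.val this.eq

theorem regular_of_comm (G : Subgroup (Equiv.Perm α)) (M N : Subgroup G) [M.Normal] [N.Normal]
    (hI : M ⊓ N = ⊥) (hMt : MulAction.IsPretransitive M α) (a : α) :
    MulAction.stabilizer N a = ⊥ := by
  rw [eq_bot_iff]
  intro n hn
  rw [MulAction.mem_stabilizer_iff] at hn
  rw [Subgroup.mem_bot]
  apply Subtype.ext
  apply Subtype.ext
  show ((n : G) : Equiv.Perm α) = 1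
  apply semireg G M hMt _ _ a hn
  intro m hm
  exact commute_MN G M N hI m n hm n.2

theorem centralizer_eq' (G : Subgroup (Equiv.Perm α)) (M N : Subgroup G) [M.Normal] [N.Normal]
    (hM : M ≠ ⊥) (hI : M ⊓ N = ⊥) (hMt : MulAction.IsPretransitive M α)
    (hNt : MulAction.IsPretransitive N α) :
    Subgroup.centralizer ((M.map G.subtype : Subgroup (Equiv.Perm α)) : Set (Equiv.Perm α))
      = N.map G.subtype := by
  apply le_antisymm
  · intro c hc
    rw [Subgroup.mem_centralizer_iff] at hc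
    have hne : Nonempty α := by
      by_contra hemp
      rw [not_nonempty_iff] at hemp
      apply hM
      rw [eq_bot_iff]
      intro m _
      rw [Subgroup.mem_bot]
      apply Subtype.ext
      ext b
      exact hemp.elim b
    obtain ⟨a⟩ := hne
    obtain ⟨n, hn⟩ := MulAction.exists_smul_eq N a (c a)
    refine ⟨(n : G), n.2, ?_⟩
    have hna : ((n : G) : Equiv.Perm α) a = c a := hn
    have h1 : ((n : G) : Equiv.Perm α)⁻¹ * c = 1 := by
      apply semireg G M hMt _ _ a
      · rw [Equiv.Perm.mul_apply, ← hna, Equiv.Perm.inv_def, Equiv.symm_apply_apply]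
      · intro m hm
        have e1 := hc ((m : G) : Equiv.Perm α) ⟨m, hm, rfl⟩
        have e2 := commute_MN G M N hI m n hm n.2
        calc (m : Equiv.Perm α) * (((n : G) : Equiv.Perm α)⁻¹ * c)
            = ((n : G) : Equiv.Perm α)⁻¹ * (((n : G) : Equiv.Perm α) * (m : Equiv.Perm α)) * ((n : G) : Equiv.Perm α)⁻¹ * c := by group
          _ = ((n : G) : Equiv.Perm α)⁻¹ * ((m : Equiv.Perm α) * ((n : G) : Equiv.Perm α)) * ((n : G) : Equiv.Perm α)⁻¹ * c := by rw [e2]
          _ = ((n : G) : Equiv.Perm α)⁻¹ * ((m : Equiv.Perm α) * c) := by group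
          _ = ((n : G) : Equiv.Perm α)⁻¹ * (c * (m : Equiv.Perm α)) := by rw [e1]
          _ = ((n : G) : Equiv.Perm α)⁻¹ * c * (m : Equiv.Perm α) := by group
    show ((n : G) : Equiv.Perm α) = c
    have := congrArg (fun f => ((n : G) : Equiv.Perm α) * f) h1
    simpa using this.symm
  · rintro x ⟨n, hn, rfl⟩
    rw [Subgroup.mem_centralizer_iff]
    rintro y ⟨m, hm, rfl⟩
    exact commute_MN G M N hI m n hm hn

theorem eq_of_smul_eq (G : Subgroup (Equiv.Perm α)) (N : Subgroup G)
    (hreg : ∀ a : α, MulAction.stabilizer N a = ⊥) (a : α) (n n' : N) (h : n • a = n' • a) : n = n' := by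
  have : n'⁻¹ * n ∈ MulAction.stabilizer N a := by
    rw [MulAction.mem_stabilizer_iff, mul_smul, h, inv_smul_smul]
  rw [hreg a, Subgroup.mem_bot] at this
  exact (inv_mul_eq_one.mp this).symm

theorem iso_MN (G : Subgroup (Equiv.Perm α)) (M N : Subgroup G) [M.Normal] [N.Normal]
    (hI : M ⊓ N = ⊥) (hMt : MulAction.IsPretransitive M α) (hNt : MulAction.IsPretransitive N α)
    (hMreg : ∀ a : α, MulAction.stabilizer M a = ⊥) (hNreg : ∀ a : α, MulAction.stabilizer N a = ⊥)
    (a : α) : Nonempty (M ≃* N) := by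
  have hcomm : ∀ (m : M) (n : N) (b : α), m • n • b = n • m • b := by
    intro m n b
    have := commute_MN G M N hI m n m.2 n.2
    exact congrArg (fun f : Equiv.Perm α => f b) this
  let φ : M → N := fun m => Classical.choose (MulAction.exists_smul_eq N a (m⁻¹ • a))
  have hφ : ∀ m : M, φ m • a = m⁻¹ • a := fun m =>
    Classical.choose_spec (MulAction.exists_smul_eq N a (m⁻¹ • a))
  have hmul : ∀ m₁ m₂ : M, φ (m₁ * m₂) = φ m₁ * φ m₂ := by
    intro m₁ m₂
    apply eq_of_smul_eq G N hNreg a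
    rw [hφ, mul_smul, hφ, ← hcomm, hφ, mul_inv_rev, mul_smul]
  refine ⟨MulEquiv.ofBijective (MonoidHom.mk' φ hmul) ⟨?_, ?_⟩⟩
  · intro m m' h
    have h' : φ m = φ m' := h
    have h1 : m⁻¹ • a = m'⁻¹ • a := by rw [← hφ, ← hφ, h']
    have := eq_of_smul_eq G M hMreg a _ _ h1
    exact inv_injective this
  · intro n
    obtain ⟨m', hm'⟩ := MulAction.exists_smul_eq M a (n • a)
    refine ⟨m'⁻¹, ?_⟩
    show φ m'⁻¹ = n
    apply eq_of_smul_eq G N hNreg a
    rw [hφ, inv_inv, hm']

theorem main (G : Subgroup (Equiv.Perm α)) (M N : Subgroup G) [M.Normal] [N.Normal] (hM : M ≠ ⊥) (hN : N ≠ ⊥) (hMmin : ∀ L : Subgroup G, L.Normal → L ≤ M → L = ⊥ ∨ L = M) (hNmin : ∀ L : Subgroup G, L.Normal → L ≤ N → L = ⊥ ∨ L = N) (hMN : M ≠ N) (hMt : MulAction.IsPretransitive M α) (hNt : MulAction.IsPretransitive N α) : (∀ a : α, MulAction.stabilizer M a = ⊥) ∧ (∀ a : α, MulAction.stabilizer N a = ⊥) ∧ ¬ IsMulCommutative M ∧ Nonempty (M ≃* N) ∧ Subgroup.centralizer ((M.map G.subtype : Subgroup (Equiv.Perm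 α)) : Set (Equiv.Perm α)) = N.map G.subtype ∧ Subgroup.centralizer ((N.map G.subtype : Subgroup (Equiv.Perm α)) : Set (Equiv.Perm α)) = M.map G.subtype ∧ ∀ L : Subgroup G, L.Normal → L ≠ ⊥ → (∀ L' : Subgroup G, L'.Normal → L' ≤ L → L' = ⊥ ∨ L' = L) → L = M ∨ L = N := by
  have hI : M ⊓ N = ⊥ := inf_bot_of_min G M N hM hMmin hNmin hMN
  have hI' : N ⊓ M = ⊥ := by rw [inf_comm]; exact hI
  have hMreg : ∀ a : α, MulAction.stabilizer M a = ⊥ := regular_of_comm G N M hI' hNt
  have hNreg : ∀ a : α, MulAction.stabilizer N a = ⊥ := regular_of_comm G M N hI hMt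
  have hCM := centralizer_eq' G M N hM hI hMt hNt
  have hCN := centralizer_eq' G N M hN hI' hNt hMt
  have hne : Nonempty α := by
    by_contra hemp
    rw [not_nonempty_iff] at hemp
    apply hM
    rw [eq_bot_iff]
    intro m _
    rw [Subgroup.mem_bot]
    apply Subtype.ext
    ext b
    exact hemp.elim b
  obtain ⟨a⟩ := hne
  refine ⟨hMreg, hNreg, ?_, iso_MN G M N hI hMt hNt hMreg hNreg a, hCM, hCN, ?_⟩
  · intro hab
    have hle : M.map G.subtype ≤ N.map G.subtype := by
      rw [← hCM]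
      rintro x ⟨m, hm, rfl⟩
      rw [Subgroup.mem_centralizer_iff]
      rintro y ⟨m', hm', rfl⟩
      have := mul_comm' (⟨m', hm'⟩ : M) ⟨m, hm⟩
      exact congrArg (fun z : M => ((z : G) : Equiv.Perm α)) this
    have hMN' : M ≤ N := by
      intro m hm
      obtain ⟨n, hn, hnm⟩ := hle ⟨m, hm, rfl⟩
      have : n = m := Subtype.ext hnm
      rw [← this]; exact hn
    rcases hNmin M inferInstance hMN' with h | h
    · exact hM h
    · exact hMN h
  · intro L hLn hL hLmin
    by_cases hLM : L = M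
    · exact Or.inl hLM
    · right
      have hIL : L ⊓ M = ⊥ := by
        have hIn : (L ⊓ M).Normal := Subgroup.normal_inf_normal L M
        rcases hLmin (L ⊓ M) hIn inf_le_left with h | h
        · exact h
        · exfalso
          have hle : L ≤ M := by rw [← h]; exact inf_le_right
          rcases hMmin L hLn hle with h' | h'
          · exact hL h'
          · exact hLM h'
      have hLN : L ≤ N := by
        intro l hl
        have hcent : ((l : G) : Equiv.Perm α) ∈ Subgroup.centralizer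
            ((M.map G.subtype : Subgroup (Equiv.Perm α)) : Set (Equiv.Perm α)) := by
          rw [Subgroup.mem_centralizer_iff]
          rintro y ⟨m, hm, rfl⟩
          have := Subgroup.commute_of_normal_of_disjoint L M hLn inferInstance
            (disjoint_iff.mpr hIL) l m hl hm
          exact (congrArg Subtype.val this.eq).symm
        rw [hCM] at hcent
        obtain ⟨n, hn, hnl⟩ := hcent
        have : n = l := Subtype.ext hnl
        rw [← this]; exact hn
      rcases hNmin L hLn hLN with h | h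
      · exact absurd h hL
      · exact h


/-- Two distinct transitive minimal normal subgroups `M`, `N` of a permutation group are regular, non-abelian, isomorphic, each other's centraliser in the symmetric group, and the only minimal normal subgroups. -/
theorem result {α : Type*} (G : Subgroup (Equiv.Perm α)) (M N : Subgroup G) [M.Normal] [N.Normal] (hM : M ≠ ⊥) (hN : N ≠ ⊥) (hMmin : ∀ L : Subgroup G, L.Normal → L ≤ M → L = ⊥ ∨ L = M) (hNmin : ∀ L : Subgroup G, L.Normal → L ≤ N → L = ⊥ ∨ L = N) (hMN : M ≠ N) (hMt : MulAction.IsPretransitive M α) (hNt : MulAction.IsPretransitive N α) : (∀ a : α, MulAction.stabilizer M a = ⊥) ∧ (∀ a : α, MulAction.stabilizer N a = ⊥) ∧ ¬ IsMulCommutative M ∧ Nonempty (M ≃* N) ∧ Subgroup.centralizer ((M.map G.subtype : Subgroup (Equiv.Perm α)) : Set (Equiv.Perm α)) = N.map G.subtype ∧ Subgroup.centralizer ((N.map G.subtype : Subgroup (Equiv.Perm α)) : Set (Equiv.Perm α)) = M.map G.subtype ∧ ∀ L : Subgroup G, L.Normal → L ≠ ⊥ → (∀ L' : Subgroup G,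 L'.Normal → L' ≤ L → L' = ⊥ ∨ L' = L) → L = M ∨ L = N := by
  exact main G M N hM hN hMmin hNmin hMN hMt hNt

end Cfsg.Agent.S0704
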