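import Cfsg.Statements.S0705
import Mathlib
import Cfsg.Agent.Lib.helper6.MultTrans

set_option autoImplicit false
open scoped Pointwise
open Cfsg Cfsg.Agent.Lib.helper6 MulAction

namespace Cfsg.Agent.S0705

/-- A generously `k`-transitive permutation group (every `(k+1)`-subset has its full symmetric group induced by the setwise stabiliser) of degree greater than `k` is `k`-transitive, and for a `k`-subset the setwise and pointwise stabilisers have the same orbits outside it. -/
theorem result {α : Type*} [Fintype α] [DecidableEq α] (G : Subgroup (Equiv.Perm α)) {k : ℕ} (hk : k < Fintype.card α) (hgen : ∀ s : Finset α, s.card = k + 1 → ∀ σ : Equiv.Perm ↥s, ∃ g ∈ G, ∀ x : ↥s, g (x : α) = σ x) : MulAction.IsMultiplyPretransitive G α k ∧ ∀ s : Finset α, s.card = k → ∀ a b : α, a ∉ s → b ∉ s → (∃ g ∈ G, g • s = s ∧ g a = b) → ∃ g ∈ G, (∀ x ∈ s, g x = x) ∧ g a = b := by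
  constructor
  · apply isMultiplyPretransitive_of_fixing
    intro Z hZ a b haZ hbZ
    by_cases hab : a = b
    · exact ⟨1, G.one_mem, fun _ _ => rfl, by rw [hab]; rfl⟩
    have hb' : b ∉ insert a Z := by
      rw [Finset.mem_insert]
      rintro (h | h)
      · exact hab h.symm
      · exact hbZ h
    have hcard : (insert b (insert a Z)).card = Z.card + 2 := by
      rw [Finset.card_insert_of_notMem hb', Finset.card_insert_of_notMem haZ]
    obtain ⟨s, hsub, -, hscard⟩ := Finset.exists_subsuperset_card_eq
      (Finset.subset_univ (insert b (insert a Z)))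
      (show (insert b (insert a Z)).card ≤ k + 1 by omega)
      (show k + 1 ≤ (Finset.univ : Finset α).card by rw [Finset.card_univ]; omega)
    have has : a ∈ s := hsub (by simp)
    have hbs : b ∈ s := hsub (by simp)
    obtain ⟨g, hg, hgs⟩ := hgen s hscard (Equiv.swap ⟨a, has⟩ ⟨b, hbs⟩)
    refine ⟨g, hg, ?_, ?_⟩
    · intro z hz
      have hzs : z ∈ s := hsub (by simp [hz])
      have := hgs ⟨z, hzs⟩
      rw [Equiv.swap_apply_of_ne_of_ne] at this
      · exact this
      · intro h
        apply haZ
        have : z = a := congrArg Subtype.val h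
        rw [← this]; exact hz
      · intro h
        apply hbZ
        have : z = b := congrArg Subtype.val h
        rw [← this]; exact hz
    · have := hgs ⟨a, has⟩
      rw [Equiv.swap_apply_left] at this
      exact this
  · intro s hscard a b has hbs
    rintro ⟨g, hg, hgs, hgab⟩
    have hgmem : ∀ x, x ∈ s → g x ∈ s := by
      intro x hx
      have : g x ∈ g • s := Finset.smul_mem_smul_finset hx
      rw [hgs] at this
      exact this
    have hginv : ∀ x, x ∈ s → g⁻¹ x ∈ s := by
      intro x hx
      have h1 : g⁻¹ • (g • s) = s := inv_smul_smul g s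
      rw [hgs] at h1
      have : g⁻¹ x ∈ g⁻¹ • s := Finset.smul_mem_smul_finset hx
      rw [h1] at this
      exact this
    set c := g⁻¹ b with hc
    have hcs : c ∉ s := by
      intro h
      have := hgmem c h
      rw [hc, Equiv.Perm.inv_def, Equiv.apply_symm_apply] at this
      exact hbs this
    set f : Equiv.Perm α := Equiv.swap b c * g⁻¹ with hf
    have hfs : ∀ x, x ∈ s → f x = g⁻¹ x := by
      intro x hx
      rw [hf, Equiv.Perm.mul_apply, Equiv.swap_apply_of_ne_of_ne]
      · intro h
        apply hbs
        rw [← h]
        exact hginv x hx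
      · intro h
        apply hcs
        rw [← h]
        exact hginv x hx
    have hfb : f b = b := by
      rw [hf, Equiv.Perm.mul_apply, ← hc, Equiv.swap_apply_right]
    have hfpres : ∀ x, x ∈ insert b s → f x ∈ insert b s := by
      intro x hx
      rw [Finset.mem_insert] at hx ⊢
      rcases hx with rfl | hx
      · exact Or.inl hfb
      · right
        rw [hfs x hx]
        exact hginv x hx
    obtain ⟨τ, hτ, hτs⟩ := hgen (insert b s)
      (by rw [Finset.card_insert_of_notMem hbs, hscard])
      (Equiv.Perm.subtypePermOfFintype f hfpres)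
    refine ⟨τ * g, G.mul_mem hτ hg, ?_, ?_⟩
    · intro x hx
      rw [Equiv.Perm.mul_apply]
      have h1 := hτs ⟨g x, Finset.mem_insert_of_mem (hgmem x hx)⟩
      rw [Equiv.Perm.subtypePermOfFintype_apply] at h1
      change τ (g x) = f (g x) at h1
      rw [h1, hfs _ (hgmem x hx), Equiv.Perm.inv_def, Equiv.symm_apply_apply]
    · rw [Equiv.Perm.mul_apply, hgab]
      have h1 := hτs ⟨b, Finset.mem_insert_self b s⟩
      rw [Equiv.Perm.subtypePermOfFintype_apply] at h1
      change τ b = f b at h1
      rw [h1, hfb]

end Cfsg.Agent.S0705
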