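import Cfsg.Statements.S0707
import Mathlib

set_option autoImplicit false
open Cfsg

namespace Cfsg.Agent.S0707

theorem mem_stab_smul {G : Type*} [Group G] {X : Type*} [MulAction G X] (g h : G) (x : X) :
    h ∈ MulAction.stabilizer G (g • x) ↔ g⁻¹ * h * g ∈ MulAction.stabilizer G x := by
  rw [MulAction.mem_stabilizer_iff, MulAction.mem_stabilizer_iff, mul_smul, mul_smul,
    inv_smul_eq_iff]

theorem isBlock_stab {G : Type*} [Group G] {X : Type*} [MulAction G X] (a : X) :
    MulAction.IsBlock G {x : X | MulAction.stabilizer G x = MulAction.stabilizer G a} := by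
  rw [MulAction.isBlock_iff_smul_eq_of_mem]
  intro g x hx hgx
  simp only [Set.mem_setOf_eq] at hx hgx
  have hS : ∀ h, h ∈ MulAction.stabilizer G a ↔ g⁻¹ * h * g ∈ MulAction.stabilizer G a := by
    intro h
    constructor
    · intro hh
      rw [← hgx, mem_stab_smul, hx] at hh
      exact hh
    · intro hh
      rw [← hgx, mem_stab_smul, hx]
      exact hh
  ext y
  rw [Set.mem_smul_set_iff_inv_smul_mem]
  simp only [Set.mem_setOf_eq]
  constructor
  · intro h1
    ext k
    rw [hS k, ← h1, mem_stab_smul]
    simp [mul_assoc]
  · intro h1
    ext k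
    rw [mem_stab_smul, h1, hS (g⁻¹⁻¹ * k * g⁻¹)]
    simp [mul_assoc]

/-- In a primitive permutation group, distinct points have distinct stabilisers unless the group is regular of prime degree. -/
theorem result {α : Type*} (G : Subgroup (Equiv.Perm α)) [MulAction.IsPreprimitive G α] (h : ¬ (Nat.card α).Prime ∨ ∃ a : α, MulAction.stabilizer G a ≠ ⊥) {a b : α} (hab : a ≠ b) : MulAction.stabilizer G a ≠ MulAction.stabilizer G b := by
  intro heq
  have hblock := isBlock_stab (G := G) a
  have htriv := MulAction.IsPreprimitive.isTrivialBlock_of_isBlock hblock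
  have huniv : {x : α | MulAction.stabilizer G x = MulAction.stabilizer G a} = Set.univ := by
    rcases htriv with hsub | huniv
    · exact absurd (hsub (by simp) (by simpa using heq.symm)) hab
    · exact huniv
  have hall : ∀ x : α, MulAction.stabilizer G x = MulAction.stabilizer G a := by
    intro x
    have : x ∈ {x : α | MulAction.stabilizer G x = MulAction.stabilizer G a} := by
      rw [huniv]; trivial
    exact this
  have hbot : MulAction.stabilizer G a = ⊥ := by
    rw [Subgroup.eq_bot_iff_forall]
    intro g hg
    apply Subtype.ext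
    ext x
    have : g ∈ MulAction.stabilizer G x := by rw [hall x]; exact hg
    exact this
  have hallbot : ∀ x : α, MulAction.stabilizer G x = ⊥ := fun x => (hall x).trans hbot
  rcases h with hnp | ⟨c, hc⟩
  · apply hnp
    haveI : Nontrivial α := ⟨⟨a, b, hab⟩⟩
    have hco : IsCoatom (MulAction.stabilizer G a) :=
      MulAction.IsPreprimitive.isCoatom_stabilizer_of_isPreprimitive G a
    rw [hbot] at hco
    obtain ⟨g0, hg0⟩ := MulAction.exists_smul_eq G a b
    have hg01 : g0 ≠ 1 := by
      rintro rfl
      rw [one_smul] at hg0
      exact hab hg0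
    have hz : Subgroup.zpowers g0 = ⊤ := by
      apply hco.2
      rw [bot_lt_iff_ne_bot]
      intro hz
      apply hg01
      have : g0 ∈ Subgroup.zpowers g0 := Subgroup.mem_zpowers g0
      rw [hz] at this
      exact this
    haveI : IsCyclic G := ⟨⟨g0, fun x => by
      have : x ∈ Subgroup.zpowers g0 := by rw [hz]; trivial
      exact this⟩⟩
    letI : CommGroup G := IsCyclic.commGroup
    haveI : Nontrivial G := ⟨⟨g0, 1, hg01⟩⟩
    haveI : IsSimpleGroup G := ⟨fun H _ => by
      by_cases hH : H = ⊥
      · exact Or.inl hH
      · right
        apply hco.2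
        rw [bot_lt_iff_ne_bot]
        exact hH⟩
    have hprime : (Nat.card G).Prime := IsSimpleGroup.prime_card
    have hbij : Function.Bijective (fun g : G => g • a) := by
      constructor
      · intro g g' hgg'
        have h1 : g'⁻¹ * g ∈ MulAction.stabilizer G a := by
          rw [MulAction.mem_stabilizer_iff, mul_smul]
          have : g • a = g' • a := hgg'
          rw [this, inv_smul_smul]
        rw [hbot, Subgroup.mem_bot] at h1
        have := congrArg (fun t => g' * t) h1
        simpa using this
      · intro y
        exact MulAction.exists_smul_eq G a y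
    rw [← Nat.card_congr (Equiv.ofBijective _ hbij)]
    exact hprime
  · exact hc (hallbot c)

end Cfsg.Agent.S0707
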