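import Cfsg.Statements.S0708
import Mathlib
import Cfsg.Statements.S0708
import Cfsg.Agent.Lib.helper4.SharpK

set_option autoImplicit false
open Cfsg

namespace Cfsg.Agent.S0708
open Cfsg MulAction

variable {G : Type*} [Group G] {Ω : Type*} [MulAction G Ω]

theorem eq_one_of_fix (hsharp : ∀ x : Fin 4 ↪ Ω, stabilizer G x = ⊥) (p : Fin 4 ↪ Ω) (g : G)
    (hg : ∀ i, g • p i = p i) : g = 1 := by
  have : g ∈ stabilizer G p := by
    rw [mem_stabilizer_iff]
    ext i
    rw [Function.Embedding.smul_apply]; exact hg i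
  rw [hsharp p] at this
  exact Subgroup.mem_bot.mp this

theorem eq_of_agree (hsharp : ∀ x : Fin 4 ↪ Ω, stabilizer G x = ⊥) (p : Fin 4 ↪ Ω) (g h : G)
    (hgh : ∀ i, g • p i = h • p i) : g = h := by
  have := eq_one_of_fix hsharp p (h⁻¹ * g) (fun i => by rw [mul_smul, hgh i, inv_smul_smul])
  exact (inv_mul_eq_one.mp this).symm

theorem fixedBy_finite (hsharp : ∀ x : Fin 4 ↪ Ω, stabilizer G x = ⊥) (g : G) (hg : g ≠ 1) :
    (fixedBy Ω g).Finite := by
  by_contra hinf
  rw [Set.not_finite] at hinf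
  have : Infinite ↥(fixedBy Ω g) := hinf.to_subtype
  let e : Fin 4 ↪ Ω := (Fin.valEmbedding.trans (Infinite.natEmbedding ↥(fixedBy Ω g))).trans
    (Function.Embedding.subtype _)
  apply hg
  apply eq_one_of_fix hsharp e
  intro i
  exact ((Infinite.natEmbedding ↥(fixedBy Ω g) i.val)).2

/-- the Klein four-group elements -/
def kv (a b : G) : Fin 4 → G := ![1, a, b, a * b]

theorem kv_diff (a b : G) (ha : a * a = 1) (hb : b * b = 1) (hab : a * b = b * a) (i j : Fin 4)
    (hij : i ≠ j) :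
    (kv a b i)⁻¹ * kv a b j = a ∨ (kv a b i)⁻¹ * kv a b j = b ∨ (kv a b i)⁻¹ * kv a b j = a * b := by
  have ha' : a⁻¹ = a := inv_eq_of_mul_eq_one_left ha
  have hb' : b⁻¹ = b := inv_eq_of_mul_eq_one_left hb
  have hbab : b * (a * b) = a := by rw [hab, ← mul_assoc, hb, one_mul]
  have hbaa : b * a * a = b := by rw [mul_assoc, ha, mul_one]
  have habb : a * b * b = a := by rw [mul_assoc, hb, mul_one]
  have haab : a * (a * b) = b := by rw [← mul_assoc, ha, one_mul]
  match i, j, hij with
  | 0, 0, h => exact absurd rfl h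
  | 1, 1, h => exact absurd rfl h
  | 2, 2, h => exact absurd rfl h
  | 3, 3, h => exact absurd rfl h
  | 0, 1, _ => left; show (1 : G)⁻¹ * a = a; rw [inv_one, one_mul]
  | 0, 2, _ => right; left; show (1 : G)⁻¹ * b = b; rw [inv_one, one_mul]
  | 0, 3, _ => right; right; show (1 : G)⁻¹ * (a * b) = a * b; rw [inv_one, one_mul]
  | 1, 0, _ => left; show a⁻¹ * 1 = a; rw [mul_one, ha']
  | 1, 2, _ => right; right; show a⁻¹ * b = a * b; rw [ha']
  | 1, 3, _ => right; left; show a⁻¹ * (a * b) = b; rw [ha', haab]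
  | 2, 0, _ => right; left; show b⁻¹ * 1 = b; rw [mul_one, hb']
  | 2, 1, _ => right; right; show b⁻¹ * a = a * b; rw [hb', hab]
  | 2, 3, _ => left; show b⁻¹ * (a * b) = a; rw [hb', hbab]
  | 3, 0, _ => right; right; show (a * b)⁻¹ * 1 = a * b; rw [mul_one, mul_inv_rev, ha', hb', hab]
  | 3, 1, _ => right; left; show (a * b)⁻¹ * a = b; rw [mul_inv_rev, ha', hb', hbaa]
  | 3, 2, _ => left; show (a * b)⁻¹ * b = a; rw [mul_inv_rev, ha', hb', ← hab, habb]

theorem kv_a (a b : G) (ha : a * a = 1) (i : Fin 4) : ∃ j, a * kv a b i = kv a b j := by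
  match i with
  | 0 => exact ⟨1, mul_one a⟩
  | 1 => exact ⟨0, ha⟩
  | 2 => exact ⟨3, rfl⟩
  | 3 => exact ⟨2, by show a * (a * b) = b; rw [← mul_assoc, ha, one_mul]⟩

theorem kv_b (a b : G) (hb : b * b = 1) (hab : a * b = b * a) (i : Fin 4) :
    ∃ j, b * kv a b i = kv a b j := by
  match i with
  | 0 => exact ⟨2, mul_one b⟩
  | 1 => exact ⟨3, hab.symm⟩
  | 2 => exact ⟨0, hb⟩
  | 3 => exact ⟨1, by show b * (a * b) = a; rw [hab, ← mul_assoc, hb, one_mul]⟩

/-- the tuple `(x, a x, b x, ab x)` is injective when `x` is not fixed by `a`, `b`, `ab` -/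
theorem kv_inj (a b : G) (ha : a * a = 1) (hb : b * b = 1) (hab : a * b = b * a) (x : Ω)
    (hxa : a • x ≠ x) (hxb : b • x ≠ x) (hxab : (a * b) • x ≠ x) :
    Function.Injective (fun i => kv a b i • x) := by
  intro i j hij
  by_contra hne
  have hij' : kv a b i • x = kv a b j • x := hij
  have h1 : ((kv a b i)⁻¹ * kv a b j) • x = x := by
    rw [mul_smul, ← hij', inv_smul_smul]
  rcases kv_diff a b ha hb hab i j hne with h | h | h <;> rw [h] at h1
  · exact hxa h1
  · exact hxb h1
  · exact hxab h1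

theorem finite_of_sharp (h4 : MulAction.IsMultiplyPretransitive G Ω 4)
    (hsharp : ∀ x : Fin 4 ↪ Ω, MulAction.stabilizer G x = ⊥) (hne : Nonempty (Fin 4 ↪ Ω)) :
    Finite Ω := by
  obtain ⟨p⟩ := hne
  let σ : Equiv.Perm (Fin 4) := Equiv.swap 0 1
  let τ : Equiv.Perm (Fin 4) := Equiv.swap 2 3
  obtain ⟨a, ha⟩ := exists_smul_eq G p (σ.toEmbedding.trans p)
  obtain ⟨b, hb⟩ := exists_smul_eq G p (τ.toEmbedding.trans p)
  have ha' : ∀ i, a • p i = p (σ i) := fun i => by
    have := congrArg (fun e : Fin 4 ↪ Ω => e i) ha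
    simpa using this
  have hb' : ∀ i, b • p i = p (τ i) := fun i => by
    have := congrArg (fun e : Fin 4 ↪ Ω => e i) hb
    simpa using this
  have hσσ : ∀ i, σ (σ i) = i := by decide
  have hττ : ∀ i, τ (τ i) = i := by decide
  have σ0 : σ 0 = 1 := by decide
  have σ2 : σ 2 = 2 := by decide
  have σ3 : σ 3 = 3 := by decide
  have τ0 : τ 0 = 0 := by decide
  have τ1 : τ 1 = 1 := by decide
  have τ2 : τ 2 = 3 := by decide
  have haa : a * a = 1 := by
    apply eq_one_of_fix hsharp p
    intro i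
    rw [mul_smul, ha', ha', hσσ]
  have hbb : b * b = 1 := by
    apply eq_one_of_fix hsharp p
    intro i
    rw [mul_smul, hb', hb', hττ]
  have hστ : ∀ i, σ (τ i) = τ (σ i) := by decide
  have hab : a * b = b * a := by
    apply eq_of_agree hsharp p
    intro i
    rw [mul_smul, mul_smul, hb', ha', ha', hb', hστ]
  have ha1 : a ≠ 1 := by
    intro h
    have := ha' 0
    rw [h, one_smul, σ0] at this
    have := p.injective this
    exact absurd this (by decide)
  have hb1 : b ≠ 1 := by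
    intro h
    have := hb' 2
    rw [h, one_smul, τ2] at this
    have := p.injective this
    exact absurd this (by decide)
  have hab1 : a * b ≠ 1 := by
    intro h
    have := ha' (τ 0)
    rw [← hb', ← mul_smul, h, one_smul, τ0, σ0] at this
    have := p.injective this
    exact absurd this (by decide)
  have fa := fixedBy_finite hsharp a ha1
  have fb := fixedBy_finite hsharp b hb1
  have fab := fixedBy_finite hsharp (a * b) hab1
  -- the set E
  set E : Set Ω := fixedBy Ω a ∪ fixedBy Ω b with hE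
  have fE : E.Finite := fa.union fb
  have hpE : ∀ i, p i ∈ E := by
    intro i
    match i with
    | 0 => right; show b • p 0 = p 0; rw [hb', τ0]
    | 1 => right; show b • p 1 = p 1; rw [hb', τ1]
    | 2 => left; show a • p 2 = p 2; rw [ha', σ2]
    | 3 => left; show a • p 3 = p 3; rw [ha', σ3]
  set R : Set Ω := (E ∪ fixedBy Ω (a * b))ᶜ with hR
  suffices hRf : R.Finite by
    have : (Set.univ : Set Ω) = (E ∪ fixedBy Ω (a * b)) ∪ R := by
      rw [hR, Set.union_compl_self]
    rw [← Set.finite_univ_iff, this]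
    exact (fE.union fab).union hRf
  by_cases hRe : R = ∅
  · rw [hRe]; exact Set.finite_empty
  obtain ⟨x₀, hx₀⟩ := Set.nonempty_iff_ne_empty.mpr hRe
  have hRmem : ∀ x, x ∈ R → a • x ≠ x ∧ b • x ≠ x ∧ (a * b) • x ≠ x := by
    intro x hx
    rw [hR, Set.mem_compl_iff, Set.mem_union, hE, Set.mem_union] at hx
    push Not at hx
    exact ⟨hx.1.1, hx.1.2, hx.2⟩
  -- embeddings
  let ex : ∀ x, x ∈ R → (Fin 4 ↪ Ω) := fun x hx =>
    ⟨fun i => kv a b i • x, kv_inj a b haa hbb hab x (hRmem x hx).1 (hRmem x hx).2.1 (hRmem x hx).2.2⟩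
  have hg : ∀ y : R, ∃ g : G, ∀ i, g • (kv a b i • x₀) = kv a b i • (y : Ω) := by
    intro y
    obtain ⟨g, hg⟩ := exists_smul_eq G (ex x₀ hx₀) (ex y y.2)
    refine ⟨g, fun i => ?_⟩
    have := congrArg (fun e : Fin 4 ↪ Ω => e i) hg
    simpa [ex] using this
  choose gy hgy using hg
  have hcomm : ∀ (c : G), (∀ i, ∃ j, c * kv a b i = kv a b j) → ∀ y : R, gy y * c = c * gy y := by
    intro c hc y
    apply eq_of_agree hsharp (ex x₀ hx₀)
    intro i
    show (gy y * c) • (kv a b i • x₀) = (c * gy y) • (kv a b i • x₀)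
    obtain ⟨j, hj⟩ := hc i
    rw [mul_smul, ← mul_smul c, hj, hgy, mul_smul c, hgy, ← hj, mul_smul]
  have hca := hcomm a (kv_a a b haa)
  have hcb := hcomm b (kv_b a b hbb hab)
  have hpres : ∀ (y : R) (z : Ω), z ∈ E → gy y • z ∈ E := by
    intro y z hz
    rcases hz with hz | hz
    · left
      show a • gy y • z = gy y • z
      rw [← mul_smul, ← hca, mul_smul, hz]
    · right
      show b • gy y • z = gy y • z
      rw [← mul_smul, ← hcb, mul_smul, hz]
  have : Finite ↥E := fE.to_subtype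
  let Φ : R → (Fin 4 → ↥E) := fun y i => ⟨gy y • p i, hpres y _ (hpE i)⟩
  have hΦ : Function.Injective Φ := by
    intro y y' h
    have h1 : gy y = gy y' := by
      apply eq_of_agree hsharp p
      intro i
      have := congrArg (fun f : Fin 4 → ↥E => (f i : Ω)) h
      exact this
    have h2 := hgy y 0
    have h3 := hgy y' 0
    rw [h1, h3] at h2
    have h4 : kv a b 0 = 1 := rfl
    rw [h4, one_smul, one_smul] at h2
    exact Subtype.ext h2.symm
  have : Finite ↥R := Finite.of_injective Φ hΦ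
  exact Set.toFinite R

theorem main {G : Type*} [Group G] {Ω : Type*} [MulAction G Ω] (h4 : MulAction.IsMultiplyPretransitive G Ω 4) (hsharp : ∀ x : Fin 4 ↪ Ω, MulAction.stabilizer G x = ⊥) (hne : Nonempty (Fin 4 ↪ Ω)) : Finite Ω ∧ Nat.card Ω ≤ 11 ∧ (Even (Nat.card Ω) → Nat.card Ω ≤ 6) := by
  have hfin := finite_of_sharp h4 hsharp hne
  refine ⟨hfin, ?_⟩
  obtain ⟨p⟩ := hne
  have h4' : 4 ≤ Nat.card Ω := by
    have := Nat.card_le_card_of_injective p p.injective
    simpa using this
  have := Cfsg.Agent.Lib.helper4.sharp_four_natCard hsharp h4'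
  constructor
  · omega
  · intro he
    rcases this with h | h | h | h
    · omega
    · rw [h] at he; exact absurd he (by decide)
    · omega
    · rw [h] at he; exact absurd he (by decide)


/-- Tits' argument: a sharply 4-transitive group (no finiteness assumed) has finite degree at most 11, and at most 6 when the degree is even. -/
theorem result {G : Type*} [Group G] {Ω : Type*} [MulAction G Ω] (h4 : MulAction.IsMultiplyPretransitive G Ω 4) (hsharp : ∀ x : Fin 4 ↪ Ω, MulAction.stabilizer G x = ⊥) (hne : Nonempty (Fin 4 ↪ Ω)) : Finite Ω ∧ Nat.card Ω ≤ 11 ∧ (Even (Nat.card Ω) → Nat.card Ω ≤ 6) := by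
  exact main h4 hsharp hne

end Cfsg.Agent.S0708
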