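import Cfsg.Statements.S0709
import Mathlib
import Cfsg.Statements.S0709

set_option autoImplicit false
open Cfsg

namespace Cfsg.Agent.S0709
open Cfsg

section onestep
variable {α : Type*}

/-- `G` is `m`-transitive on the subset `Y` (tuple form) -/
def TransOn (G : Subgroup (Equiv.Perm α)) (Y : Set α) (m : ℕ) : Prop :=
  ∀ a b : Fin m → α, Function.Injective a → Function.Injective b → (∀ i, a i ∈ Y) → (∀ i, b i ∈ Y) →
    ∃ f ∈ G, ∀ i, f (a i) = b i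

theorem inj2 (a b : α) (hab : a ≠ b) : Function.Injective (![a, b] : Fin 2 → α) := by
  intro i j hij
  fin_cases i <;> fin_cases j
  · rfl
  · exact absurd hij hab
  · exact absurd hij.symm hab
  · rfl

theorem one_step (G : Subgroup (Equiv.Perm α)) (Y : Set α) (star : α) (hstar : star ∉ Y)
    (hGY : ∀ f ∈ G, ∀ z ∈ Y, f z ∈ Y) (hGstar : ∀ f ∈ G, f star = star)
    (k : ℕ) (hk : 2 ≤ k) (htrans : ∀ m ≤ k, TransOn G Y m)
    (h g : Equiv.Perm α) (hg : g ∈ G) (x y : α) (hx : x ∈ Y) (hy : y ∈ Y) (hxy : x ≠ y)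
    (h1 : h star = x) (h2 : h x = star)
    (h4 : g x = y)
    (h6 : (g * h) ^ 3 ∈ G) (h7 : h ^ 2 ∈ G)
    (h8 : ∀ f ∈ G, f x = x → h * f * h ∈ G)
    (hhY : ∀ z ∈ Y, z ≠ x → h z ∈ Y) :
    (∀ f ∈ Subgroup.closure ((G : Set (Equiv.Perm α)) ∪ {h}), f star = star → f ∈ G) ∧
      ∀ m ≤ k + 1, TransOn (Subgroup.closure ((G : Set (Equiv.Perm α)) ∪ {h})) (Y ∪ {star}) m := by
  have h2t : ∀ z ∈ Y, z ≠ x → ∃ a ∈ G, a x = x ∧ a y = z := by
    intro z hzY hz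
    obtain ⟨a, ha, hau⟩ := htrans 2 hk ![x, y] ![x, z] (inj2 x y hxy) (inj2 x z (Ne.symm hz))
      (by intro i; fin_cases i <;> simp [hx, hy])
      (by intro i; fin_cases i <;> simp [hx, hzY])
    exact ⟨a, ha, hau 0, hau 1⟩
  have h1t : ∀ z ∈ Y, ∃ a ∈ G, a z = x := by
    intro z hzY
    obtain ⟨a, ha, hau⟩ := htrans 1 (by omega) (fun _ => z) (fun _ => x)
      (fun i j _ => Subsingleton.elim i j) (fun i j _ => Subsingleton.elim i j)
      (fun _ => hzY) (fun _ => hx)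
    exact ⟨a, ha, hau 0⟩
  have hdG : (h ^ 2)⁻¹ ∈ G := G.inv_mem h7
  have hhinv : h⁻¹ = (h ^ 2)⁻¹ * h := by group
  -- the double coset set
  let D : Equiv.Perm α → Prop := fun f => f ∈ G ∨ ∃ a ∈ G, ∃ b ∈ G, f = a * h * b
  have K1 : ∀ f ∈ G, f x = x → h * f * h⁻¹ ∈ G ∧ h⁻¹ * f * h ∈ G := by
    intro f hf hfx
    have := h8 f hf hfx
    constructor
    · have e : h * f * h⁻¹ = (h * f * h) * (h ^ 2)⁻¹ := by group
      rw [e]; exact G.mul_mem this hdG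
    · have e : h⁻¹ * f * h = (h ^ 2)⁻¹ * (h * f * h) := by group
      rw [e]; exact G.mul_mem hdG this
  have K2 : ∃ a ∈ G, ∃ b ∈ G, h * g * h = a * h * b := by
    refine ⟨g⁻¹ * (g * h) ^ 3 * (h ^ 2)⁻¹, G.mul_mem (G.mul_mem (G.inv_mem hg) h6) hdG,
      g⁻¹, G.inv_mem hg, ?_⟩
    rw [pow_three, pow_two]
    group
  have K3 : ∀ f ∈ G, f x = x ∨ ∃ a ∈ G, ∃ b ∈ G, a x = x ∧ b x = x ∧ f = a * g * b := by
    intro f hf
    by_cases hzx : f x = x
    · left; exact hzx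
    · right
      obtain ⟨a, ha, hax, hay⟩ := h2t (f x) (hGY f hf x hx) hzx
      refine ⟨a, ha, (a * g)⁻¹ * f, G.mul_mem (G.inv_mem (G.mul_mem ha hg)) hf, hax, ?_, by group⟩
      rw [Equiv.Perm.mul_apply, Equiv.Perm.inv_eq_iff_eq, Equiv.Perm.mul_apply, h4, hay]
  have K4 : ∀ f ∈ G, D (h * f * h) := by
    intro f hf
    rcases K3 f hf with hfx | ⟨a, ha, b, hb, hax, hbx, rfl⟩
    · exact Or.inl (h8 f hf hfx)
    · right
      obtain ⟨a', ha', b', hb', hab⟩ := K2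
      refine ⟨(h * a * h⁻¹) * a', G.mul_mem (K1 a ha hax).1 ha', b' * (h⁻¹ * b * h),
        G.mul_mem hb' (K1 b hb hbx).2, ?_⟩
      have e : h * (a * g * b) * h = (h * a * h⁻¹) * (h * g * h) * (h⁻¹ * b * h) := by group
      rw [e, hab]
      group
  have Dmul : ∀ f₁ f₂, D f₁ → D f₂ → D (f₁ * f₂) := by
    intro f₁ f₂ hf₁ hf₂
    rcases hf₁ with hf₁ | ⟨a₁, ha₁, b₁, hb₁, rfl⟩
    · rcases hf₂ with hf₂ | ⟨a₂, ha₂, b₂, hb₂, rfl⟩
      · exact Or.inl (G.mul_mem hf₁ hf₂)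
      · exact Or.inr ⟨f₁ * a₂, G.mul_mem hf₁ ha₂, b₂, hb₂, by group⟩
    · rcases hf₂ with hf₂ | ⟨a₂, ha₂, b₂, hb₂, rfl⟩
      · exact Or.inr ⟨a₁, ha₁, b₁ * f₂, G.mul_mem hb₁ hf₂, by group⟩
      · rcases K4 (b₁ * a₂) (G.mul_mem hb₁ ha₂) with hm | ⟨a₃, ha₃, b₃, hb₃, hm⟩
        · left
          have e : a₁ * h * b₁ * (a₂ * h * b₂) = a₁ * (h * (b₁ * a₂) * h) * b₂ := by group
          rw [e]
          exact G.mul_mem (G.mul_mem ha₁ hm) hb₂
        · right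
          refine ⟨a₁ * a₃, G.mul_mem ha₁ ha₃, b₃ * b₂, G.mul_mem hb₃ hb₂, ?_⟩
          have e : a₁ * h * b₁ * (a₂ * h * b₂) = a₁ * (h * (b₁ * a₂) * h) * b₂ := by group
          rw [e, hm]
          group
  have Dinv : ∀ f, D f → D f⁻¹ := by
    intro f hf
    rcases hf with hf | ⟨a, ha, b, hb, rfl⟩
    · exact Or.inl (G.inv_mem hf)
    · right
      refine ⟨b⁻¹ * (h ^ 2)⁻¹, G.mul_mem (G.inv_mem hb) hdG, a⁻¹, G.inv_mem ha, ?_⟩
      rw [mul_inv_rev, mul_inv_rev, hhinv]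
      group
  let Dsub : Subgroup (Equiv.Perm α) :=
    { carrier := {f | D f}
      mul_mem' := fun {a b} ha hb => Dmul a b ha hb
      one_mem' := Or.inl G.one_mem
      inv_mem' := fun {a} ha => Dinv a ha }
  have hcl : ∀ f ∈ Subgroup.closure ((G : Set (Equiv.Perm α)) ∪ {h}), D f := by
    intro f hf
    have hle : Subgroup.closure ((G : Set (Equiv.Perm α)) ∪ {h}) ≤ Dsub := by
      rw [Subgroup.closure_le]
      rintro f (hf | hf)
      · exact Or.inl hf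
      · rw [Set.mem_singleton_iff] at hf
        subst hf
        exact Or.inr ⟨1, G.one_mem, 1, G.one_mem, by group⟩
    exact hle hf
  have hGle : ∀ f ∈ G, f ∈ Subgroup.closure ((G : Set (Equiv.Perm α)) ∪ {h}) :=
    fun f hf => Subgroup.subset_closure (Or.inl hf)
  have hhmem : h ∈ Subgroup.closure ((G : Set (Equiv.Perm α)) ∪ {h}) :=
    Subgroup.subset_closure (Or.inr rfl)
  constructor
  · intro f hf hnone
    rcases hcl f hf with hfG | ⟨a, ha, b, hb, rfl⟩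
    · exact hfG
    · exfalso
      rw [Equiv.Perm.mul_apply, Equiv.Perm.mul_apply, hGstar b hb, h1] at hnone
      apply hstar
      rw [← hnone]
      exact hGY a ha x hx
  · -- transitivity
    have hpt : ∀ p ∈ Y ∪ {star}, ∃ f ∈ Subgroup.closure ((G : Set (Equiv.Perm α)) ∪ {h}),
        f p = star := by
      intro p hp
      rcases hp with hp | hp
      · obtain ⟨a, ha, haz⟩ := h1t p hp
        refine ⟨h * a, Subgroup.mul_mem _ hhmem (hGle a ha), ?_⟩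
        rw [Equiv.Perm.mul_apply, haz, h2]
      · rw [Set.mem_singleton_iff] at hp
        exact ⟨1, Subgroup.one_mem _, by rw [hp]; rfl⟩
    -- the closure preserves Y ∪ {star}
    have hpresG : ∀ f ∈ G, ∀ p ∈ Y ∪ {star}, f p ∈ Y ∪ {star} := by
      intro f hf p hp
      rcases hp with hp | hp
      · exact Or.inl (hGY f hf p hp)
      · rw [Set.mem_singleton_iff] at hp
        right
        rw [hp, hGstar f hf]; rfl
    have hpresh : ∀ p ∈ Y ∪ {star}, h p ∈ Y ∪ {star} := by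
      intro p hp
      rcases hp with hp | hp
      · by_cases hpx : p = x
        · right; rw [hpx, h2]; rfl
        · exact Or.inl (hhY p hp hpx)
      · rw [Set.mem_singleton_iff] at hp
        left; rw [hp, h1]; exact hx
    have hpres : ∀ f ∈ Subgroup.closure ((G : Set (Equiv.Perm α)) ∪ {h}), ∀ p ∈ Y ∪ {star},
        f p ∈ Y ∪ {star} := by
      intro f hf p hp
      rcases hcl f hf with hfG | ⟨a, ha, b, hb, rfl⟩
      · exact hpresG f hfG p hp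
      · rw [Equiv.Perm.mul_apply, Equiv.Perm.mul_apply]
        exact hpresG a ha _ (hpresh _ (hpresG b hb p hp))
    intro m hm
    rcases m with _ | m'
    · intro a b _ _ _ _
      exact ⟨1, Subgroup.one_mem _, fun i => Fin.elim0 i⟩
    intro a b hai hbi haY hbY
    obtain ⟨fu, hfu, hfu0⟩ := hpt (a 0) (haY 0)
    obtain ⟨fv, hfv, hfv0⟩ := hpt (b 0) (hbY 0)
    have hrest : ∀ (u : Fin (m' + 1) → α) (f : Equiv.Perm α), Function.Injective u →
        (∀ i, u i ∈ Y ∪ {star}) → f ∈ Subgroup.closure ((G : Set (Equiv.Perm α)) ∪ {h}) →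
        f (u 0) = star →
        Function.Injective (fun i : Fin m' => f (u i.succ)) ∧ ∀ i : Fin m', f (u i.succ) ∈ Y := by
      intro u f hu huY hf hf0
      constructor
      · intro i j hij
        exact Fin.succ_injective _ (hu (f.injective hij))
      · intro i
        rcases hpres f hf _ (huY i.succ) with h' | h'
        · exact h'
        · exfalso
          rw [Set.mem_singleton_iff] at h'
          have := hu (f.injective (h'.trans hf0.symm))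
          exact Fin.succ_ne_zero i this
    obtain ⟨ha1, ha2⟩ := hrest a fu hai haY hfu hfu0
    obtain ⟨hb1, hb2⟩ := hrest b fv hbi hbY hfv hfv0
    obtain ⟨f, hf, hfab⟩ := htrans m' (by omega) _ _ ha1 hb1 ha2 hb2
    refine ⟨fv⁻¹ * f * fu, Subgroup.mul_mem _ (Subgroup.mul_mem _ (Subgroup.inv_mem _ hfv)
      (hGle f hf)) hfu, ?_⟩
    intro j
    rw [Equiv.Perm.mul_apply, Equiv.Perm.mul_apply, Equiv.Perm.inv_eq_iff_eq]
    refine Fin.cases ?_ (fun i => ?_) j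
    · rw [hfu0, hGstar f hf, hfv0]
    · exact hfab i
end onestep

section witt
variable {α : Type*}

structure WD (t : ℕ) (q : ℕ → α) (G : Subgroup (Equiv.Perm α)) (s : ℕ → Equiv.Perm α)
    (H : Subgroup (Equiv.Perm α)) : Prop where
  ht : 2 ≤ t
  hq : ∀ i j : ℕ, 1 ≤ i → i ≤ t → 1 ≤ j → j ≤ t → q i = q j → i = j
  hfix : ∀ g ∈ G, ∀ i : ℕ, 3 ≤ i → i ≤ t → g (q i) = q i
  h2 : ∀ a b c d : α, (∀ i, 3 ≤ i → i ≤ t → a ≠ q i ∧ b ≠ q i ∧ c ≠ q i ∧ d ≠ q i) → a ≠ b → c ≠ d →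
    ∃ g ∈ G, g a = c ∧ g b = d
  hs1 : s 1 ∈ G
  hs1q : s 1 (q 1) = q 2 ∧ s 1 (q 2) = q 1
  hsq : ∀ i : ℕ, 2 ≤ i → i + 1 ≤ t → s i (q i) = q (i + 1) ∧ s i (q (i + 1)) = q i ∧
    ∀ j : ℕ, 1 ≤ j → j ≤ t → j ≠ i → j ≠ i + 1 → s i (q j) = q j
  hH : H = G ⊓ MulAction.stabilizer (Equiv.Perm α) (q 1) ⊓ MulAction.stabilizer (Equiv.Perm α) (q 2)
  hsq2 : ∀ i : ℕ, 1 ≤ i → i + 1 ≤ t → s i ^ 2 ∈ H
  hbraid : ∀ i : ℕ, 1 ≤ i → i + 2 ≤ t → (s i * s (i + 1)) ^ 3 ∈ H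
  hcomm : ∀ i j : ℕ, 1 ≤ i → i + 2 ≤ j → j + 1 ≤ t → (s i * s j) ^ 2 ∈ H ∧ (s j * s i) ^ 2 ∈ H
  hnorm : ∀ i : ℕ, 2 ≤ i → i + 1 ≤ t → ∀ g ∈ G ⊓ MulAction.stabilizer (Equiv.Perm α) (q 2),
    s i * g * (s i)⁻¹ ∈ G ⊓ MulAction.stabilizer (Equiv.Perm α) (q 2)

/-- the points other than `q (m+1), …, q t` -/
def Yset (t : ℕ) (q : ℕ → α) (m : ℕ) : Set α := {z | ∀ j, m < j → j ≤ t → z ≠ q j}

/-- the tower of groups -/
def Gm (G : Subgroup (Equiv.Perm α)) (s : ℕ → Equiv.Perm α) : ℕ → Subgroup (Equiv.Perm α)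
  | 0 => G
  | (n + 1) => Subgroup.closure ((Gm G s n : Set (Equiv.Perm α)) ∪ {s (n + 2)})

variable {t : ℕ} {q : ℕ → α} {G : Subgroup (Equiv.Perm α)} {s : ℕ → Equiv.Perm α}
  {H : Subgroup (Equiv.Perm α)}

theorem Gm_succ (n : ℕ) :
    Gm G s (n + 1) = Subgroup.closure ((Gm G s n : Set (Equiv.Perm α)) ∪ {s (n + 2)}) := rfl

theorem Gm_le_succ (n : ℕ) : Gm G s n ≤ Gm G s (n + 1) := by
  intro f hf
  rw [Gm_succ]
  exact Subgroup.subset_closure (Or.inl hf)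

theorem G_le_Gm (n : ℕ) : G ≤ Gm G s n := by
  induction n with
  | zero => exact le_rfl
  | succ n ih => exact le_trans ih (Gm_le_succ n)

theorem s_mem_Gm (n : ℕ) : s (n + 2) ∈ Gm G s (n + 1) := by
  rw [Gm_succ]
  exact Subgroup.subset_closure (Or.inr rfl)

theorem WD.H_le (w : WD t q G s H) : H ≤ G := by
  rw [w.hH]
  exact le_trans inf_le_left inf_le_left

theorem WD.H_fix (w : WD t q G s H) (f : Equiv.Perm α) (hf : f ∈ H) : f (q 1) = q 1 ∧ f (q 2) = q 2 := by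
  rw [w.hH] at hf
  obtain ⟨⟨_, h1⟩, h2⟩ := hf
  exact ⟨MulAction.mem_stabilizer_iff.mp h1, MulAction.mem_stabilizer_iff.mp h2⟩

theorem WD.mem_H (w : WD t q G s H) (f : Equiv.Perm α) (hf : f ∈ G) (h1 : f (q 1) = q 1)
    (h2 : f (q 2) = q 2) : f ∈ H := by
  rw [w.hH]
  exact ⟨⟨hf, MulAction.mem_stabilizer_iff.mpr h1⟩, MulAction.mem_stabilizer_iff.mpr h2⟩

/-- (A): `Gm n` fixes `q j` for `j > n + 2`. -/
theorem WD.Gm_fix (w : WD t q G s H) : ∀ n : ℕ, n + 2 ≤ t → ∀ f ∈ Gm G s n, ∀ j : ℕ, n + 2 < j → j ≤ t →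
    f (q j) = q j := by
  intro n
  induction n with
  | zero =>
    intro _ f hf j hj hjt
    exact w.hfix f hf j (by omega) hjt
  | succ n ih =>
    intro hn f hf j hj hjt
    have hle : Gm G s (n + 1) ≤ MulAction.stabilizer (Equiv.Perm α) (q j) := by
      rw [Gm_succ, Subgroup.closure_le]
      rintro f' (hf' | hf')
      · exact MulAction.mem_stabilizer_iff.mpr (ih (by omega) f' hf' j (by omega) hjt)
      · rw [Set.mem_singleton_iff] at hf'
        rw [hf']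
        exact MulAction.mem_stabilizer_iff.mpr
          ((w.hsq (n + 2) (by omega) (by omega)).2.2 j (by omega) hjt (by omega) (by omega))
    exact MulAction.mem_stabilizer_iff.mp (hle hf)

theorem WD.Gm_pres (w : WD t q G s H) (n : ℕ) (hn : n + 2 ≤ t) (f : Equiv.Perm α) (hf : f ∈ Gm G s n)
    (z : α) (hz : z ∈ Yset t q (n + 2)) : f z ∈ Yset t q (n + 2) := by
  intro j hj hjt hfz
  apply hz j hj hjt
  have := w.Gm_fix n hn f hf j hj hjt
  rw [← this] at hfz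
  exact f.injective hfz

theorem WD.q_mem_Y (w : WD t q G s H) (m i : ℕ) (hi : 1 ≤ i) (him : i ≤ m) (hm : m ≤ t) :
    q i ∈ Yset t q m := by
  intro j hj hjt h
  have := w.hq i j hi (by omega) (by omega) hjt h
  omega

theorem conj_eq (a b : Equiv.Perm α) : a * b * a⁻¹ = (a * b) ^ 2 * b⁻¹ * (a ^ 2)⁻¹ := by
  rw [pow_two, pow_two]; group

/-- conjugation by `s j` as a subgroup comap -/
theorem conj_closure_le (c : Equiv.Perm α) (S : Set (Equiv.Perm α)) (K : Subgroup (Equiv.Perm α))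
    (hS : ∀ f ∈ S, c * f * c⁻¹ ∈ K) : ∀ f ∈ Subgroup.closure S, c * f * c⁻¹ ∈ K := by
  have hle : Subgroup.closure S ≤ K.comap (MulAut.conj c).toMonoidHom := by
    rw [Subgroup.closure_le]
    intro f hf
    show (MulAut.conj c) f ∈ K
    rw [MulAut.conj_apply]
    exact hS f hf
  intro f hf
  have := hle hf
  rw [Subgroup.mem_comap] at this
  have h' : (MulAut.conj c) f ∈ K := this
  rwa [MulAut.conj_apply] at h'

theorem WD.conj_s (w : WD t q G s H) (i j : ℕ) (hi : 1 ≤ i) (hij : i + 2 ≤ j) (hj : j + 1 ≤ t)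
    (K : Subgroup (Equiv.Perm α)) (hHK : H ≤ K) (hsK : s i ∈ K) : s j * s i * (s j)⁻¹ ∈ K := by
  rw [conj_eq]
  exact K.mul_mem (K.mul_mem (hHK (w.hcomm i j hi hij hj).2) (K.inv_mem hsK))
    (K.inv_mem (hHK (w.hsq2 j (by omega) hj)))

theorem WD.conj_G (w : WD t q G s H) (j : ℕ) (hj3 : 3 ≤ j) (hj : j + 1 ≤ t) (f : Equiv.Perm α)
    (hf : f ∈ G) : s j * f * (s j)⁻¹ ∈ G := by
  have hq12 : q 1 ≠ q 2 := by
    intro h
    have := w.hq 1 2 le_rfl (by omega) (by omega) (by omega) h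
    omega
  by_cases hfq : f (q 2) = q 2
  · exact (w.hnorm j (by omega) hj f ⟨hf, MulAction.mem_stabilizer_iff.mpr hfq⟩).1
  · -- f = a * s 1 * b
    have hY : ∀ i, 3 ≤ i → i ≤ t → q 2 ≠ q i ∧ q 1 ≠ q i ∧ q 2 ≠ q i ∧ f (q 2) ≠ q i := by
      intro i hi hit
      have h2i : q 2 ≠ q i := by
        intro h
        have := w.hq 2 i (by omega) (by omega) (by omega) hit h
        omega
      have h1i : q 1 ≠ q i := by
        intro h
        have := w.hq 1 i (by omega) (by omega) (by omega) hit h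
        omega
      refine ⟨h2i, h1i, h2i, ?_⟩
      intro h
      rw [← w.hfix f hf i hi hit] at h
      exact h2i (f.injective h)
    obtain ⟨a, ha, ha2, ha1⟩ := w.h2 (q 2) (q 1) (q 2) (f (q 2)) hY hq12.symm (Ne.symm hfq)
    set b := (a * s 1)⁻¹ * f with hb
    have hbG : b ∈ G := G.mul_mem (G.inv_mem (G.mul_mem ha w.hs1)) hf
    have hb2 : b (q 2) = q 2 := by
      rw [hb, Equiv.Perm.mul_apply, Equiv.Perm.inv_eq_iff_eq, Equiv.Perm.mul_apply, w.hs1q.2, ha1]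
    have hfe : f = a * s 1 * b := by rw [hb]; group
    have e : s j * f * (s j)⁻¹ = (s j * a * (s j)⁻¹) * (s j * s 1 * (s j)⁻¹) * (s j * b * (s j)⁻¹) := by
      rw [hfe]; group
    rw [e]
    refine G.mul_mem (G.mul_mem ?_ ?_) ?_
    · exact (w.hnorm j (by omega) hj a ⟨ha, MulAction.mem_stabilizer_iff.mpr ha2⟩).1
    · exact w.conj_s 1 j le_rfl (by omega) hj G w.H_le w.hs1
    · exact (w.hnorm j (by omega) hj b ⟨hbG, MulAction.mem_stabilizer_iff.mpr hb2⟩).1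

theorem WD.conj_Gm (w : WD t q G s H) (j : ℕ) (hj3 : 3 ≤ j) (hj : j + 1 ≤ t) :
    ∀ n : ℕ, n + 3 ≤ j → ∀ f ∈ Gm G s n, s j * f * (s j)⁻¹ ∈ Gm G s n := by
  intro n
  induction n with
  | zero =>
    intro _ f hf
    exact w.conj_G j hj3 hj f hf
  | succ n ih =>
    intro hn f hf
    rw [Gm_succ] at hf
    apply conj_closure_le (s j) _ _ _ f hf
    rintro f' (hf' | hf')
    · exact Gm_le_succ n (ih (by omega) f' hf')
    · rw [Set.mem_singleton_iff] at hf'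
      rw [hf']
      exact w.conj_s (n + 2) j (by omega) (by omega) hj _
        (le_trans w.H_le (G_le_Gm (n + 1))) (s_mem_Gm n)

theorem Yset_succ (w : WD t q G s H) (m : ℕ) : Yset t q (m + 1) = Yset t q m ∪ {q (m + 1)} := by
  ext z
  constructor
  · intro hz
    by_cases hzq : z = q (m + 1)
    · right; exact hzq
    · left
      intro j hj hjt
      by_cases hj' : j = m + 1
      · rw [hj']; exact hzq
      · exact hz j (by omega) hjt
  · rintro (hz | hz)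
    · intro j hj hjt
      exact hz j (by omega) hjt
    · rw [Set.mem_singleton_iff] at hz
      intro j hj hjt h
      rw [hz] at h
      by_cases hm : m + 1 ≤ t
      · have := w.hq (m + 1) j (by omega) hm (by omega) hjt h
        omega
      · omega

/-- the invariant -/
def WInv (t : ℕ) (q : ℕ → α) (G : Subgroup (Equiv.Perm α)) (s : ℕ → Equiv.Perm α)
    (H : Subgroup (Equiv.Perm α)) (n : ℕ) : Prop :=
  (∀ m ≤ n + 2, TransOn (Gm G s n) (Yset t q (n + 2)) m) ∧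
  (∀ f ∈ Gm G s n, (∀ j, 1 ≤ j → j ≤ n + 2 → f (q j) = q j) → f ∈ H) ∧
  (n + 3 ≤ t → ∀ f ∈ Gm G s n, f (q (n + 2)) = q (n + 2) → s (n + 2) * f * (s (n + 2))⁻¹ ∈ Gm G s n)

theorem WD.inv_zero (w : WD t q G s H) : WInv t q G s H 0 := by
  have hq12 : q 1 ≠ q 2 := by
    intro h
    have := w.hq 1 2 le_rfl (by have := w.ht; omega) (by omega) w.ht h
    omega
  have T2 : TransOn G (Yset t q 2) 2 := by
    intro a b ha hb haY hbY
    obtain ⟨g, hg, h1, h2⟩ := w.h2 (a 0) (a 1) (b 0) (b 1)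
      (fun i hi hit => ⟨haY 0 i (by omega) hit, haY 1 i (by omega) hit, hbY 0 i (by omega) hit,
        hbY 1 i (by omega) hit⟩)
      (fun h => absurd (ha h) (by decide)) (fun h => absurd (hb h) (by decide))
    refine ⟨g, hg, fun i => ?_⟩
    fin_cases i
    · exact h1
    · exact h2
  refine ⟨?_, ?_, ?_⟩
  · intro m hm
    show TransOn G (Yset t q 2) m
    interval_cases m
    · intro a b _ _ _ _
      exact ⟨1, G.one_mem, fun i => Fin.elim0 i⟩
    · intro a b _ _ haY hbY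
      by_cases hab : a 0 = b 0
      · refine ⟨1, G.one_mem, fun i => ?_⟩
        rw [Subsingleton.elim i 0]
        exact hab
      · obtain ⟨g, hg, hg'⟩ := T2 ![a 0, b 0] ![b 0, a 0] (inj2 _ _ hab) (inj2 _ _ (Ne.symm hab))
          (by intro i; fin_cases i; exact haY 0; exact hbY 0)
          (by intro i; fin_cases i; exact hbY 0; exact haY 0)
        refine ⟨g, hg, fun i => ?_⟩
        rw [Subsingleton.elim i 0]
        exact hg' 0
    · exact T2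
  · intro f hf hfix
    exact w.mem_H f hf (hfix 1 le_rfl (by omega)) (hfix 2 (by omega) le_rfl)
  · intro h3 f hf hfq
    exact (w.hnorm 2 le_rfl h3 f ⟨hf, MulAction.mem_stabilizer_iff.mpr hfq⟩).1

theorem WD.step (w : WD t q G s H) (n : ℕ) (hn : n + 3 ≤ t) (hI : WInv t q G s H n) :
    WInv t q G s H (n + 1) ∧
      ∀ f ∈ Gm G s (n + 1), f (q (n + 3)) = q (n + 3) → f ∈ Gm G s n := by
  obtain ⟨P1, P2, P3⟩ := hI
  have hsq := w.hsq (n + 2) (by omega) hn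
  have hHle : H ≤ Gm G s n := le_trans w.H_le (G_le_Gm n)
  have hg : s (n + 1) ∈ Gm G s n := by
    rcases n with _ | n'
    · exact w.hs1
    · exact s_mem_Gm n'
  have h4 : s (n + 1) (q (n + 2)) = q (n + 1) := by
    rcases n with _ | n'
    · exact w.hs1q.2
    · exact (w.hsq (n' + 2) (by omega) (by omega)).2.1
  have hx : q (n + 2) ∈ Yset t q (n + 2) := w.q_mem_Y _ _ (by omega) le_rfl (by omega)
  have hy : q (n + 1) ∈ Yset t q (n + 2) := w.q_mem_Y _ _ (by omega) (by omega) (by omega)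
  have hxy : q (n + 2) ≠ q (n + 1) := by
    intro h
    have := w.hq (n + 2) (n + 1) (by omega) (by omega) (by omega) (by omega) h
    omega
  have hstar : q (n + 3) ∉ Yset t q (n + 2) := by
    intro h
    exact h (n + 3) (by omega) hn rfl
  have h7 : s (n + 2) ^ 2 ∈ Gm G s n := hHle (w.hsq2 (n + 2) (by omega) hn)
  have key := one_step (Gm G s n) (Yset t q (n + 2)) (q (n + 3)) hstar
    (fun f hf z hz => w.Gm_pres n (by omega) f hf z hz)
    (fun f hf => w.Gm_fix n (by omega) f hf (n + 3) (by omega) hn)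
    (n + 2) (by omega) P1 (s (n + 2)) (s (n + 1)) hg (q (n + 2)) (q (n + 1)) hx hy hxy
    hsq.2.1 hsq.1 h4 (hHle (w.hbraid (n + 1) (by omega) hn)) h7
    (by
      intro f hf hfx
      have := P3 hn f hf hfx
      have e : s (n + 2) * f * s (n + 2) = (s (n + 2) * f * (s (n + 2))⁻¹) * s (n + 2) ^ 2 := by
        rw [pow_two]; group
      rw [e]
      exact (Gm G s n).mul_mem this h7)
    (by
      intro z hz hzx j hj hjt h
      by_cases hj' : j = n + 3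
      · rw [hj', ← hsq.1] at h
        exact hzx ((s (n + 2)).injective h)
      · have hfix := hsq.2.2 j (by omega) hjt (by omega) hj'
        rw [← hfix] at h
        exact hz j hj hjt ((s (n + 2)).injective h))
  obtain ⟨C1, C2⟩ := key
  rw [← Gm_succ] at C1 C2
  refine ⟨⟨?_, ?_, ?_⟩, C1⟩
  · intro m hm
    have hY : Yset t q (n + 1 + 2) = Yset t q (n + 2) ∪ {q (n + 3)} := Yset_succ w (n + 2)
    rw [hY]
    exact C2 m (by omega)
  · intro f hf hfix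
    have hfn : f ∈ Gm G s n := C1 f hf (hfix (n + 3) (by omega) (by omega))
    exact P2 f hfn (fun j hj hjn => hfix j hj (by omega))
  · intro hn4 f hf hfq
    have hfn : f ∈ Gm G s n := C1 f hf hfq
    exact Gm_le_succ n (w.conj_Gm (n + 1 + 2) (by omega) hn4 n (by omega) f hfn)

theorem WD.inv_all (w : WD t q G s H) : ∀ n : ℕ, n + 2 ≤ t → WInv t q G s H n := by
  intro n
  induction n with
  | zero => intro _; exact w.inv_zero
  | succ n ih =>
    intro hn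
    exact (w.step n (by omega) (ih (by omega))).1

theorem closure_closure_union (A B : Set (Equiv.Perm α)) :
    Subgroup.closure ((Subgroup.closure A : Set (Equiv.Perm α)) ∪ B) = Subgroup.closure (A ∪ B) := by
  apply le_antisymm
  · rw [Subgroup.closure_le]
    rintro f (hf | hf)
    · exact Subgroup.closure_mono Set.subset_union_left hf
    · exact Subgroup.subset_closure (Or.inr hf)
  · apply Subgroup.closure_mono
    rintro f (hf | hf)
    · exact Or.inl (Subgroup.subset_closure hf)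
    · exact Or.inr hf

theorem Gm_eq (n : ℕ) : Gm G s n = Subgroup.closure ((G : Set (Equiv.Perm α)) ∪
    {x | ∃ i : ℕ, 2 ≤ i ∧ i + 1 ≤ n + 2 ∧ x = s i}) := by
  induction n with
  | zero =>
    have : {x : Equiv.Perm α | ∃ i : ℕ, 2 ≤ i ∧ i + 1 ≤ 0 + 2 ∧ x = s i} = ∅ := by
      ext x
      simp only [Set.mem_setOf_eq, Set.mem_empty_iff_false, iff_false]
      rintro ⟨i, h1, h2, _⟩
      omega
    rw [this, Set.union_empty, Subgroup.closure_eq]
    rfl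
  | succ n ih =>
    rw [Gm_succ, ih, closure_closure_union]
    congr 1
    ext x
    constructor
    · rintro ((hx | ⟨i, h1, h2, rfl⟩) | hx)
      · exact Or.inl hx
      · exact Or.inr ⟨i, h1, by omega, rfl⟩
      · rw [Set.mem_singleton_iff] at hx
        exact Or.inr ⟨n + 2, by omega, by omega, hx⟩
    · rintro (hx | ⟨i, h1, h2, rfl⟩)
      · exact Or.inl (Or.inl hx)
      · by_cases hi : i = n + 2
        · right; rw [hi]; rfl
        · left; right; exact ⟨i, h1, by omega, rfl⟩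
end witt

theorem main {α : Type*} [Fintype α] [DecidableEq α] (t : ℕ) (ht : 2 ≤ t) (q : ℕ → α) (hq : ∀ i j : ℕ, 1 ≤ i → i ≤ t → 1 ≤ j → j ≤ t → q i = q j → i = j) (G : Subgroup (Equiv.Perm α)) (hfix : ∀ g ∈ G, ∀ i : ℕ, 3 ≤ i → i ≤ t → g (q i) = q i) (h2 : ∀ a b c d : α, (∀ i, 3 ≤ i → i ≤ t → a ≠ q i ∧ b ≠ q i ∧ c ≠ q i ∧ d ≠ q i) → a ≠ b → c ≠ d → ∃ g ∈ G, g a = c ∧ g b = d) (s : ℕ → Equiv.Perm α) (hs1 : s 1 ∈ G) (hs1q : s 1 (q 1) = q 2 ∧ s 1 (q 2) = q 1) (hsq : ∀ i : ℕ, 2 ≤ i → i + 1 ≤ t → s i (q i) = q (i + 1) ∧ s i (q (i + 1)) = q i ∧ ∀ j : ℕ, 1 ≤ j → j ≤ t → j ≠ i → j ≠ i + 1 → s i (q j) = q j) (H : Subgroup (Equiv.Perm α)) (hH : H = G ⊓ MulAction.stabilizer (Equiv.Perm α) (q 1) ⊓ MulAction.stabilizer (Equiv.Perm α) (q 2)) (hsq2 : ∀ i : ℕ, 1 ≤ i → i + 1 ≤ t → s i ^ 2 ∈ H) (hbraid : ∀ i : ℕ, 1 ≤ i → i + 2 ≤ t → (s i * s (i + 1)) ^ 3 ∈ H) (hcomm : ∀ i j : ℕ, 1 ≤ i → i + 2 ≤ j → j + 1 ≤ t → (s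 i * s j) ^ 2 ∈ H ∧ (s j * s i) ^ 2 ∈ H) (hnorm : ∀ i : ℕ, 2 ≤ i → i + 1 ≤ t → ∀ g ∈ G ⊓ MulAction.stabilizer (Equiv.Perm α) (q 2), s i * g * (s i)⁻¹ ∈ G ⊓ MulAction.stabilizer (Equiv.Perm α) (q 2)) : MulAction.IsMultiplyPretransitive ↥(Subgroup.closure ((G : Set (Equiv.Perm α)) ∪ {x | ∃ i : ℕ, 2 ≤ i ∧ i + 1 ≤ t ∧ x = s i})) α t ∧ Subgroup.closure ((G : Set (Equiv.Perm α)) ∪ {x | ∃ i : ℕ, 2 ≤ i ∧ i + 1 ≤ t ∧ x = s i}) ⊓ fixingSubgroup (Equiv.Perm α) {x | ∃ i : ℕ, 1 ≤ i ∧ i ≤ t ∧ x = q i} = H := by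
  have w : WD t q G s H := ⟨ht, hq, hfix, h2, hs1, hs1q, hsq, hH, hsq2, hbraid, hcomm, hnorm⟩
  obtain ⟨n, rfl⟩ : ∃ n, t = n + 2 := ⟨t - 2, by omega⟩
  obtain ⟨P1, P2, _⟩ := w.inv_all n le_rfl
  rw [← Gm_eq n]
  constructor
  · refine ⟨fun u v => ?_⟩
    obtain ⟨f, hf, hfuv⟩ := P1 (n + 2) le_rfl u v u.injective v.injective
      (fun i j hj hjt => by omega) (fun i j hj hjt => by omega)
    refine ⟨⟨f, hf⟩, ?_⟩
    apply Function.Embedding.ext
    intro i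
    exact hfuv i
  · apply le_antisymm
    · intro f hff
      obtain ⟨hf, hfx⟩ := Subgroup.mem_inf.mp hff
      apply P2 f hf
      intro j hj hjn
      have := (mem_fixingSubgroup_iff (Equiv.Perm α)).mp hfx (q j) ⟨j, hj, hjn, rfl⟩
      exact this
    · intro f hf
      refine Subgroup.mem_inf.mpr ⟨G_le_Gm n (w.H_le hf), ?_⟩
      rw [mem_fixingSubgroup_iff]
      rintro y ⟨i, hi1, hi2, rfl⟩
      show f (q i) = q i
      by_cases hi : i = 1
      · rw [hi]; exact (w.H_fix f hf).1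
      · by_cases hi' : i = 2
        · rw [hi']; exact (w.H_fix f hf).2
        · exact hfix f (w.H_le hf) i (by omega) hi2


/-- Witt's Lemma for constructing transitive extensions. Points `q 1, …, q t` (`t ≥ 2`) of a finite set are given; `G` fixes `q i` for `i ≥ 3` and is doubly transitive on the remaining points; `s 1 ∈ G` swaps `q 1, q 2`; for `2 ≤ i ≤ t-1`, `s i` swaps `q i, q (i+1)` and fixes the other `q j`; with `H` the stabiliser of `q 1, q 2` in `G`: `s i ^ 2 ∈ H`, `(s i * s (i+1)) ^ 3 ∈ H`, `(s i * s j) ^ 2 ∈ H` for `j ≥ i + 2`, and `s i` (`i ≥ 2`) normalises the stabiliser of `q 2` in `G`. Then `G` and the `s i` generate a `t`-transitive group whose pointwise stabiliser of the `q`'s is `H`. -/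
theorem result {α : Type*} [Fintype α] [DecidableEq α] (t : ℕ) (ht : 2 ≤ t) (q : ℕ → α) (hq : ∀ i j : ℕ, 1 ≤ i → i ≤ t → 1 ≤ j → j ≤ t → q i = q j → i = j) (G : Subgroup (Equiv.Perm α)) (hfix : ∀ g ∈ G, ∀ i : ℕ, 3 ≤ i → i ≤ t → g (q i) = q i) (h2 : ∀ a b c d : α, (∀ i, 3 ≤ i → i ≤ t → a ≠ q i ∧ b ≠ q i ∧ c ≠ q i ∧ d ≠ q i) → a ≠ b → c ≠ d → ∃ g ∈ G, g a = c ∧ g b = d) (s : ℕ → Equiv.Perm α) (hs1 : s 1 ∈ G) (hs1q : s 1 (q 1) = q 2 ∧ s 1 (q 2) = q 1) (hsq : ∀ i : ℕ, 2 ≤ i → i + 1 ≤ t → s i (q i) = q (i + 1) ∧ s i (q (i + 1)) = q i ∧ ∀ j : ℕ, 1 ≤ j → j ≤ t → j ≠ i → j ≠ i + 1 → s i (q j) = q j) (H : Subgroup (Equiv.Perm α)) (hH : H = G ⊓ MulAction.stabilizer (Equiv.Perm α) (q 1) ⊓ MulAction.stabilizer (Equiv.Perm α) (q 2)) (hsq2 : ∀ i : ℕ, 1 ≤ i → i + 1 ≤ t → s i ^ 2 ∈ H) (hbraid : ∀ i : ℕ, 1 ≤ i → i + 2 ≤ t → (s i * s (i + 1)) ^ 3 ∈ H) (hcomm : ∀ i j : ℕ, 1 ≤ i → i + 2 ≤ j → j + 1 ≤ t → (s i * s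 j) ^ 2 ∈ H ∧ (s j * s i) ^ 2 ∈ H) (hnorm : ∀ i : ℕ, 2 ≤ i → i + 1 ≤ t → ∀ g ∈ G ⊓ MulAction.stabilizer (Equiv.Perm α) (q 2), s i * g * (s i)⁻¹ ∈ G ⊓ MulAction.stabilizer (Equiv.Perm α) (q 2)) : MulAction.IsMultiplyPretransitive ↥(Subgroup.closure ((G : Set (Equiv.Perm α)) ∪ {x | ∃ i : ℕ, 2 ≤ i ∧ i + 1 ≤ t ∧ x = s i})) α t ∧ Subgroup.closure ((G : Set (Equiv.Perm α)) ∪ {x | ∃ i : ℕ, 2 ≤ i ∧ i + 1 ≤ t ∧ x = s i}) ⊓ fixingSubgroup (Equiv.Perm α) {x | ∃ i : ℕ, 1 ≤ i ∧ i ≤ t ∧ x = q i} = H := by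
  exact main t ht q hq G hfix h2 s hs1 hs1q hsq H hH hsq2 hbraid hcomm hnorm

end Cfsg.Agent.S0709
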