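import Cfsg.Statements.S0712
import Mathlib
import Cfsg.Agent.Lib.helper6.MultTrans

set_option autoImplicit false
open Cfsg Cfsg.Agent.Lib.helper6 MulAction

namespace Cfsg.Agent.S0712

theorem exists_map_onto {α : Type*} [Fintype α] [DecidableEq α] (G : Subgroup (Equiv.Perm α))
    {m : ℕ} (hGm : IsMultiplyPretransitive G α m) (Z : Finset α) (hZ : Z.card = m) (s : Set α)
    (hs : s.ncard = m) : ∃ g ∈ G, ∀ z, z ∈ Z ↔ g z ∈ s := by
  classical
  have hsfin : s.Finite := Set.toFinite s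
  have e1 : Fin m ≃ Z := (Finset.equivFinOfCardEq hZ).symm
  have hs' : hsfin.toFinset.card = m := by
    rw [← Set.ncard_eq_toFinset_card s hsfin]; exact hs
  have e2 : Fin m ≃ hsfin.toFinset := (Finset.equivFinOfCardEq hs').symm
  let x : Fin m ↪ α := ⟨fun i => (e1 i : α), fun i j h => e1.injective (Subtype.ext h)⟩
  let y : Fin m ↪ α := ⟨fun i => (e2 i : α), fun i j h => e2.injective (Subtype.ext h)⟩
  obtain ⟨g, hg⟩ := hGm.exists_smul_eq x y
  have hgi : ∀ i, g.1 (x i) = y i := fun i => congrFun (congrArg DFunLike.coe hg) i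
  refine ⟨g.1, g.2, fun z => ⟨fun hz => ?_, fun hz => ?_⟩⟩
  · obtain ⟨i, hi⟩ := e1.surjective ⟨z, hz⟩
    have : z = x i := by change z = (e1 i : α); rw [hi]
    rw [this, hgi]
    have := (e2 i).2
    rw [Set.Finite.mem_toFinset] at this
    exact this
  · have hz' : g.1 z ∈ hsfin.toFinset := by rw [Set.Finite.mem_toFinset]; exact hz
    obtain ⟨i, hi⟩ := e2.surjective ⟨g.1 z, hz'⟩
    have : g.1 z = y i := by change g.1 z = (e2 i : α); rw [hi]
    rw [← hgi] at this
    have hzx : z = x i := g.1.injective this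
    rw [hzx]
    exact (e1 i).2

/-- Jordan: a primitive group in which the pointwise stabiliser of a set `s` is doubly transitive on the complement of `s` (which has at least 2 points) is `(|s| + 2)`-transitive. -/
theorem result {α : Type*} [Fintype α] [DecidableEq α] (G : Subgroup (Equiv.Perm α)) (hG : MulAction.IsPreprimitive G α) (s : Set α) {m : ℕ} (hsm : s.ncard = m) (hm : m + 2 ≤ Fintype.card α) (h2 : MulAction.IsMultiplyPretransitive (fixingSubgroup G s) (SubMulAction.ofFixingSubgroup G s) 2) : MulAction.IsMultiplyPretransitive G α (m + 2) := by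
  classical
  have hGm : IsMultiplyPretransitive G α m := by
    rcases Nat.eq_zero_or_pos m with h0 | h0
    · rw [h0]
      exact MulAction.is_zero_pretransitive
    · obtain ⟨n, rfl⟩ : ∃ n, m = n + 1 := ⟨m - 1, by omega⟩
      have hprim : IsPreprimitive (fixingSubgroup G s) (SubMulAction.ofFixingSubgroup G s) :=
        isPreprimitive_of_is_two_pretransitive h2
      have hcard : n + 2 < Nat.card α := by
        rw [Nat.card_eq_fintype_card]; omega
      have h := hG.isMultiplyPreprimitive hsm hcard hprim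
      have h' : IsMultiplyPretransitive G α (n + 2) := h.isMultiplyPretransitive
      exact MulAction.isMultiplyPretransitive_of_le (n := n + 2) (by omega)
        (by rw [Nat.card_eq_fintype_card]; omega)
  have h2' : ∀ (a b c d : SubMulAction.ofFixingSubgroup G s), a ≠ b → c ≠ d →
      ∃ g : fixingSubgroup G s, g • a = c ∧ g • b = d :=
    fun a b c d hab hcd => MulAction.is_two_pretransitive_iff.mp h2 hab hcd
  apply isMultiplyPretransitive_of_fixing
  intro Z hZ a b haZ hbZ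
  by_cases hab : a = b
  · exact ⟨1, G.one_mem, fun _ _ => rfl, by rw [hab]; rfl⟩
  have key : ∀ (g₁ : Equiv.Perm α), g₁ ∈ G → ∀ u v u' v' : α, u ∉ s → v ∉ s → u' ∉ s → v' ∉ s →
      u ≠ v → u' ≠ v' → ∃ h ∈ G, (∀ z ∈ s, h z = z) ∧ h u = u' ∧ h v = v' := by
    intro g₁ _ u v u' v' hu hv hu' hv' huv hu'v'
    obtain ⟨h, h1, h2⟩ := h2' ⟨u, hu⟩ ⟨v, hv⟩ ⟨u', hu'⟩ ⟨v', hv'⟩
      (fun h => huv (congrArg Subtype.val h)) (fun h => hu'v' (congrArg Subtype.val h))
    refine ⟨h.1.1, h.1.2, ?_, congrArg Subtype.val h1, congrArg Subtype.val h2⟩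
    intro z hz
    exact (mem_fixingSubgroup_iff G).mp h.2 z hz
  by_cases hZm : Z.card ≤ m
  · have hsub : Z ⊆ Finset.univ \ {a, b} := by
      intro z hz
      rw [Finset.mem_sdiff, Finset.mem_insert, Finset.mem_singleton]
      refine ⟨Finset.mem_univ _, ?_⟩
      rintro (rfl | rfl)
      · exact haZ hz
      · exact hbZ hz
    have hcard2 : (Finset.univ \ ({a, b} : Finset α)).card = Fintype.card α - 2 := by
      rw [Finset.card_sdiff_of_subset (Finset.subset_univ _), Finset.card_univ,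
        Finset.card_pair hab]
    obtain ⟨Y, hZY, hYsub, hYcard⟩ := Finset.exists_subsuperset_card_eq hsub hZm
      (show m ≤ (Finset.univ \ ({a, b} : Finset α)).card by omega)
    have haY : a ∉ Y := by
      intro h
      have := hYsub h
      simp at this
    have hbY : b ∉ Y := by
      intro h
      have := hYsub h
      simp at this
    obtain ⟨g₁, hg₁, hg₁Y⟩ := exists_map_onto G hGm Y hYcard s hsm
    have hgas : g₁ a ∉ s := fun h => haY ((hg₁Y a).mpr h)
    have hgbs : g₁ b ∉ s := fun h => hbY ((hg₁Y b).mpr h)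
    have hne : g₁ a ≠ g₁ b := fun h => hab (g₁.injective h)
    obtain ⟨h, hh, hhs, hh1, -⟩ := key g₁ hg₁ (g₁ a) (g₁ b) (g₁ b) (g₁ a) hgas hgbs hgbs hgas hne
      (Ne.symm hne)
    refine ⟨g₁⁻¹ * h * g₁, G.mul_mem (G.mul_mem (G.inv_mem hg₁) hh) hg₁, ?_, ?_⟩
    · intro z hz
      rw [Equiv.Perm.mul_apply, Equiv.Perm.mul_apply, hhs _ ((hg₁Y z).mp (hZY hz)),
        Equiv.Perm.inv_def, Equiv.symm_apply_apply]
    · rw [Equiv.Perm.mul_apply, Equiv.Perm.mul_apply, hh1, Equiv.Perm.inv_def,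
        Equiv.symm_apply_apply]
  · have hZm1 : Z.card = m + 1 := by omega
    obtain ⟨z₀, hz₀⟩ : ∃ z₀, z₀ ∈ Z := by
      apply Finset.card_pos.mp; omega
    have hYcard : (Z.erase z₀).card = m := by
      rw [Finset.card_erase_of_mem hz₀, hZm1]; rfl
    obtain ⟨g₁, hg₁, hg₁Y⟩ := exists_map_onto G hGm (Z.erase z₀) hYcard s hsm
    have hz₀s : g₁ z₀ ∉ s := fun h => (Finset.notMem_erase z₀ Z) ((hg₁Y z₀).mpr h)
    have hgas : g₁ a ∉ s := fun h => haZ (Finset.mem_of_mem_erase ((hg₁Y a).mpr h))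
    have hgbs : g₁ b ∉ s := fun h => hbZ (Finset.mem_of_mem_erase ((hg₁Y b).mpr h))
    have hne1 : g₁ z₀ ≠ g₁ a := fun h => haZ (by rw [← g₁.injective h]; exact hz₀)
    have hne2 : g₁ z₀ ≠ g₁ b := fun h => hbZ (by rw [← g₁.injective h]; exact hz₀)
    obtain ⟨h, hh, hhs, hh1, hh2⟩ := key g₁ hg₁ (g₁ z₀) (g₁ a) (g₁ z₀) (g₁ b) hz₀s hgas hz₀s hgbs
      hne1 hne2
    refine ⟨g₁⁻¹ * h * g₁, G.mul_mem (G.mul_mem (G.inv_mem hg₁) hh) hg₁, ?_, ?_⟩
    · intro z hz
      rw [Equiv.Perm.mul_apply, Equiv.Perm.mul_apply]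
      by_cases hzz : z = z₀
      · rw [hzz, hh1, Equiv.Perm.inv_def, Equiv.symm_apply_apply]
      · rw [hhs _ ((hg₁Y z).mp (Finset.mem_erase.mpr ⟨hzz, hz⟩)), Equiv.Perm.inv_def,
          Equiv.symm_apply_apply]
    · rw [Equiv.Perm.mul_apply, Equiv.Perm.mul_apply, hh2, Equiv.Perm.inv_def,
        Equiv.symm_apply_apply]

end Cfsg.Agent.S0712
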