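import Mathlib
import Cfsg.Statements.S0714
import Cfsg.Agent.S0674

set_option autoImplicit false
open Cfsg

namespace Cfsg.Agent.S0714

section
variable {α : Type*} [Fintype α] [DecidableEq α] {K : Type*} [Field K]

def dt (x y z w : α) : Equiv.Perm α := Equiv.swap x y * Equiv.swap z w

theorem dt_mem {x y z w : α} (hxy : x ≠ y) (hzw : z ≠ w) : dt x y z w ∈ alternatingGroup α := by
  rw [Equiv.Perm.mem_alternatingGroup, dt, map_mul, Equiv.Perm.sign_swap hxy,
    Equiv.Perm.sign_swap hzw]
  rfl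

theorem dt_1 {x y z w : α} (hxz : x ≠ z) (hxw : x ≠ w) : dt x y z w x = y := by
  rw [dt, Equiv.Perm.mul_apply, Equiv.swap_apply_of_ne_of_ne hxz hxw, Equiv.swap_apply_left]

theorem dt_2 {x y z w : α} (hyz : y ≠ z) (hyw : y ≠ w) : dt x y z w y = x := by
  rw [dt, Equiv.Perm.mul_apply, Equiv.swap_apply_of_ne_of_ne hyz hyw, Equiv.swap_apply_right]

theorem dt_3 {x y z w : α} (hxw : x ≠ w) (hyw : y ≠ w) : dt x y z w z = w := by
  rw [dt, Equiv.Perm.mul_apply, Equiv.swap_apply_left, Equiv.swap_apply_of_ne_of_ne hxw.symm hyw.symm]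

theorem dt_4 {x y z w : α} (hxz : x ≠ z) (hyz : y ≠ z) : dt x y z w w = z := by
  rw [dt, Equiv.Perm.mul_apply, Equiv.swap_apply_right, Equiv.swap_apply_of_ne_of_ne hxz.symm hyz.symm]

theorem dt_5 {x y z w v : α} (h1 : v ≠ x) (h2 : v ≠ y) (h3 : v ≠ z) (h4 : v ≠ w) :
    dt x y z w v = v := by
  rw [dt, Equiv.Perm.mul_apply, Equiv.swap_apply_of_ne_of_ne h3 h4,
    Equiv.swap_apply_of_ne_of_ne h1 h2]

theorem comp_delta (σ : Equiv.Perm α) (p q : α) (h : σ q = p) :
    (fun x => (Pi.single p (1 : K) : α → K) (σ x)) = Pi.single q 1 := by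
  funext x
  rw [Pi.single_apply, Pi.single_apply]
  by_cases hx : x = q
  · rw [if_pos hx, if_pos (by rw [hx, h])]
  · rw [if_neg hx, if_neg]
    intro h'
    apply hx
    apply σ.injective
    rw [h', h]

theorem sub_comp_dt (f : α → K) {a b d e : α} (hab : a ≠ b) (had : a ≠ d) (hae : a ≠ e)
    (hbd : b ≠ d) (hbe : b ≠ e) (hde : d ≠ e) :
    f - (fun x => f (dt a b d e x)) =
      (f a - f b) • ((Pi.single a 1 : α → K) - Pi.single b 1) +
      (f d - f e) • ((Pi.single d 1 : α → K) - Pi.single e 1) := by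
  funext x
  simp only [Pi.sub_apply, Pi.add_apply, Pi.smul_apply, smul_eq_mul, Pi.single_apply]
  by_cases h1 : x = a
  · subst h1
    rw [dt_1 had hae, if_pos rfl, if_neg hab, if_neg had, if_neg hae]
    ring
  by_cases h2 : x = b
  · subst h2
    rw [dt_2 hbd hbe, if_neg hab.symm, if_pos rfl, if_neg hbd, if_neg hbe]
    ring
  by_cases h3 : x = d
  · subst h3
    rw [dt_3 hae hbe, if_neg had.symm, if_neg hbd.symm, if_pos rfl, if_neg hde]
    ring
  by_cases h4 : x = e
  · subst h4
    rw [dt_4 had hbd, if_neg hae.symm, if_neg hbe.symm, if_neg hde.symm, if_pos rfl]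
    ring
  rw [dt_5 h1 h2 h3 h4, if_neg h1, if_neg h2, if_neg h3, if_neg h4]
  ring

theorem exists_delta_sub (W : Submodule K (α → K))
    (hW : ∀ g ∈ alternatingGroup α, ∀ w ∈ W, (fun x => w (g x)) ∈ W)
    (w : α → K) (hw : w ∈ W) {a b c d e : α} (hwab : w a ≠ w b)
    (hab : a ≠ b) (hac : a ≠ c) (had : a ≠ d) (hae : a ≠ e) (hbc : b ≠ c) (hbd : b ≠ d)
    (hbe : b ≠ e) (hcd : c ≠ d) (hce : c ≠ e) (hde : d ≠ e) :
    ∃ p q : α, p ≠ q ∧ ((Pi.single p 1 : α → K) - Pi.single q 1) ∈ W := by
  have hcmp : ∀ g ∈ alternatingGroup α, ∀ f ∈ W, LinearMap.funLeft K K g f ∈ W :=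
    fun g hg f hf => hW g hg f hf
  have hδ : ∀ (σ : Equiv.Perm α) (p q : α), σ q = p →
      LinearMap.funLeft K K σ (Pi.single p (1 : K)) = Pi.single q 1 :=
    fun σ p q h => comp_delta σ p q h
  have hu : (w a - w b) • ((Pi.single a 1 : α → K) - Pi.single b 1) +
      (w d - w e) • ((Pi.single d 1 : α → K) - Pi.single e 1) ∈ W := by
    rw [← sub_comp_dt w hab had hae hbd hbe hde]
    exact W.sub_mem hw (hW _ (dt_mem hab hde) w hw)
  have hu2 := hcmp _ (dt_mem hac hde) _ hu
  rw [map_add, map_smul, map_smul, map_sub, map_sub,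
    hδ (dt a c d e) a c (dt_2 hcd hce), hδ (dt a c d e) b b (dt_5 hab.symm hbc hbd hbe),
    hδ (dt a c d e) d e (dt_4 had hcd), hδ (dt a c d e) e d (dt_3 hae hce)] at hu2
  have hv0 : ((Pi.single a 1 : α → K) - Pi.single b 1) +
      ((Pi.single c 1 : α → K) - Pi.single b 1) ∈ W := by
    have h1 := W.add_mem hu hu2
    have h2 : (w a - w b) • ((Pi.single a 1 : α → K) - Pi.single b 1) +
        (w d - w e) • ((Pi.single d 1 : α → K) - Pi.single e 1) +
        ((w a - w b) • ((Pi.single c 1 : α → K) - Pi.single b 1) +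
        (w d - w e) • ((Pi.single e 1 : α → K) - Pi.single d 1)) =
        (w a - w b) • (((Pi.single a 1 : α → K) - Pi.single b 1) +
        ((Pi.single c 1 : α → K) - Pi.single b 1)) := by
      simp only [smul_add, smul_sub]
      abel
    rw [h2] at h1
    have h3 := W.smul_mem (w a - w b)⁻¹ h1
    rwa [smul_smul, inv_mul_cancel₀ (sub_ne_zero.mpr hwab), one_smul] at h3
  have hv0' := hcmp _ (dt_mem hab hde) _ hv0
  rw [map_add, map_sub, map_sub,
    hδ (dt a b d e) a b (dt_2 hbd hbe), hδ (dt a b d e) b a (dt_1 had hae),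
    hδ (dt a b d e) c c (dt_5 hac.symm hbc.symm hcd hce)] at hv0'
  by_cases h3 : (3 : K) = 0
  · have hv1a := hcmp _ (dt_mem had hbe) _ hv0
    rw [map_add, map_sub, map_sub,
      hδ (dt a d b e) a d (dt_2 hbd.symm hde), hδ (dt a d b e) b e (dt_4 hab hbd.symm),
      hδ (dt a d b e) c c (dt_5 hac.symm hcd hbc.symm hce)] at hv1a
    have hv1 := W.sub_mem hv0 hv1a
    have hv2a := hcmp _ (dt_mem hac hde) _ hv1
    rw [map_sub, map_add, map_add, map_sub, map_sub, map_sub, map_sub,
      hδ (dt a c d e) a c (dt_2 hcd hce), hδ (dt a c d e) b b (dt_5 hab.symm hbc hbd hbe),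
      hδ (dt a c d e) c a (dt_1 had hae),
      hδ (dt a c d e) d e (dt_4 had hcd), hδ (dt a c d e) e d (dt_3 hae hce)] at hv2a
    have hv2 := W.sub_mem hv1 hv2a
    refine ⟨a, c, hac, ?_⟩
    have h4 : ((Pi.single a 1 : α → K) - Pi.single b 1 + ((Pi.single c 1 : α → K) - Pi.single b 1) -
        ((Pi.single d 1 : α → K) - Pi.single e 1 + ((Pi.single c 1 : α → K) - Pi.single e 1)) -
        ((Pi.single c 1 : α → K) - Pi.single b 1 + ((Pi.single a 1 : α → K) - Pi.single b 1) -
        ((Pi.single e 1 : α → K) - Pi.single d 1 + ((Pi.single a 1 : α → K) - Pi.single d 1)))) =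
        ((Pi.single a 1 : α → K) - Pi.single c 1) +
        (3 : K) • ((Pi.single e 1 : α → K) - Pi.single d 1) := by
      have : (3 : K) • ((Pi.single e 1 : α → K) - Pi.single d 1) =
          ((Pi.single e 1 : α → K) - Pi.single d 1) + ((Pi.single e 1 : α → K) - Pi.single d 1) +
          ((Pi.single e 1 : α → K) - Pi.single d 1) := by
        rw [show (3 : K) = 1 + 1 + 1 by norm_num, add_smul, add_smul, one_smul]
      rw [this]
      abel
    rw [h4, h3, zero_smul, add_zero] at hv2
    exact hv2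
  · refine ⟨a, b, hab, ?_⟩
    have hd := W.sub_mem hv0 hv0'
    have h4 : ((Pi.single a 1 : α → K) - Pi.single b 1 + ((Pi.single c 1 : α → K) - Pi.single b 1) -
        ((Pi.single b 1 : α → K) - Pi.single a 1 + ((Pi.single c 1 : α → K) - Pi.single a 1))) =
        (3 : K) • ((Pi.single a 1 : α → K) - Pi.single b 1) := by
      have : (3 : K) • ((Pi.single a 1 : α → K) - Pi.single b 1) =
          ((Pi.single a 1 : α → K) - Pi.single b 1) + ((Pi.single a 1 : α → K) - Pi.single b 1) +
          ((Pi.single a 1 : α → K) - Pi.single b 1) := by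
        rw [show (3 : K) = 1 + 1 + 1 by norm_num, add_smul, add_smul, one_smul]
      rw [this]
      abel
    rw [h4] at hd
    have h5 := W.smul_mem (3 : K)⁻¹ hd
    rwa [smul_smul, inv_mul_cancel₀ h3, one_smul] at h5

theorem two_trans (hα : 5 ≤ Fintype.card α) {x y p q : α} (hxy : x ≠ y) (hpq : p ≠ q) :
    ∃ g ∈ alternatingGroup α, g x = p ∧ g y = q := by
  have h1 := alternatingGroup.isMultiplyPretransitive α
  have hc : Nat.card α = Fintype.card α := Nat.card_eq_fintype_card
  have h2 : MulAction.IsMultiplyPretransitive (alternatingGroup α) α 2 :=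
    MulAction.isMultiplyPretransitive_of_le (n := Nat.card α - 2) (by omega) (by omega)
  have h3 : ∀ (a b c d : α), a ≠ b → c ≠ d → ∃ g : alternatingGroup α, g • a = c ∧ g • b = d := by
    intro a b c d hab hcd
    exact (MulAction.is_two_pretransitive_iff.mp h2) hab hcd
  obtain ⟨g, hg1, hg2⟩ := h3 x y p q hxy hpq
  exact ⟨g.1, g.2, hg1, hg2⟩

theorem exists_three (hα : 5 ≤ Fintype.card α) (a b : α) :
    ∃ c d e : α, a ≠ c ∧ a ≠ d ∧ a ≠ e ∧ b ≠ c ∧ b ≠ d ∧ b ≠ e ∧ c ≠ d ∧ c ≠ e ∧ d ≠ e := by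
  have h1 : ({a, b} : Finset α).card ≤ 2 := Finset.card_le_two
  have hu : (Finset.univ : Finset α).card = Fintype.card α := Finset.card_univ
  obtain ⟨c, -, hc⟩ := Finset.exists_mem_notMem_of_card_lt_card
    (s := ({a, b} : Finset α)) (t := Finset.univ) (by omega)
  have h2 : ({a, b, c} : Finset α).card ≤ 3 := Finset.card_le_three
  obtain ⟨d, -, hd⟩ := Finset.exists_mem_notMem_of_card_lt_card
    (s := ({a, b, c} : Finset α)) (t := Finset.univ) (by omega)
  have h3 : ({a, b, c, d} : Finset α).card ≤ 4 := Finset.card_le_four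
  obtain ⟨e, -, he⟩ := Finset.exists_mem_notMem_of_card_lt_card
    (s := ({a, b, c, d} : Finset α)) (t := Finset.univ) (by omega)
  simp only [Finset.mem_insert, Finset.mem_singleton, not_or] at hc hd he
  refine ⟨c, d, e, ?_, ?_, ?_, ?_, ?_, ?_, ?_, ?_, ?_⟩
  · exact fun h => hc.1 h.symm
  · exact fun h => hd.1 h.symm
  · exact fun h => he.1 h.symm
  · exact fun h => hc.2 h.symm
  · exact fun h => hd.2.1 h.symm
  · exact fun h => he.2.1 h.symm
  · exact fun h => hd.2.2 h.symm
  · exact fun h => he.2.2.1 h.symm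
  · exact fun h => he.2.2.2 h.symm


theorem sumZero_le (hα : 5 ≤ Fintype.card α) (W : Submodule K (α → K))
    (hW : ∀ g ∈ alternatingGroup α, ∀ w ∈ W, (fun x => w (g x)) ∈ W)
    (w : α → K) (hw : w ∈ W) {a b : α} (hwab : w a ≠ w b) :
    ∀ f : α → K, ∑ x, f x = 0 → f ∈ W := by
  have hab : a ≠ b := fun h => hwab (by rw [h])
  obtain ⟨c, d, e, hac, had, hae, hbc, hbd, hbe, hcd, hce, hde⟩ := exists_three hα a b
  obtain ⟨p, q, hpq, hpqW⟩ :=
    exists_delta_sub W hW w hw hwab hab hac had hae hbc hbd hbe hcd hce hde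
  have hall : ∀ x y : α, x ≠ y → ((Pi.single x 1 : α → K) - Pi.single y 1) ∈ W := by
    intro x y hxy
    obtain ⟨g, hg, hgx, hgy⟩ := two_trans hα hxy hpq
    have hmem := hW g hg _ hpqW
    have e : (fun z => ((Pi.single p 1 - Pi.single q 1 : α → K)) (g z)) =
        (Pi.single x 1 : α → K) - Pi.single y 1 := by
      have h1 := comp_delta (K := K) g p x hgx
      have h2 := comp_delta (K := K) g q y hgy
      funext z
      have h1z := congrFun h1 z
      have h2z := congrFun h2 z
      simp only [Pi.sub_apply]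
      rw [h1z, h2z]
    rw [e] at hmem
    exact hmem
  intro f hf
  have hdec : f = ∑ x, f x • ((Pi.single x 1 : α → K) - Pi.single a 1) := by
    funext z
    rw [Finset.sum_apply]
    simp only [Pi.smul_apply, Pi.sub_apply, smul_eq_mul, mul_sub, Finset.sum_sub_distrib,
      Pi.single_apply, mul_ite, mul_one, mul_zero]
    rw [Finset.sum_ite_eq Finset.univ z f, if_pos (Finset.mem_univ z)]
    by_cases hza : z = a
    · simp only [hza, if_true]
      rw [hf, sub_zero]
    · simp only [hza, if_false, Finset.sum_const_zero, sub_zero]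
  rw [hdec]
  apply Submodule.sum_mem
  intro x _
  by_cases hxa : x = a
  · subst hxa
    rw [sub_self, smul_zero]
    exact W.zero_mem
  · exact W.smul_mem _ (hall x a hxa)

end

theorem result {α : Type*} [Fintype α] [DecidableEq α] (hα : 5 ≤ Fintype.card α) {K : Type*} [Field K] (W : Subrepresentation (Cfsg.permRep K (alternatingGroup α) α)) : W.toSubmodule = ⊥ ∨ W = Cfsg.permConstants K (alternatingGroup α) α ∨ W = Cfsg.permSumZero K (alternatingGroup α) α ∨ W.toSubmodule = ⊤ := by
  have hW := Cfsg.Agent.S0674.inv_of_subrep (alternatingGroup α) W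
  have hpos : 0 < Fintype.card α := by omega
  obtain ⟨a₀⟩ : Nonempty α := Fintype.card_pos_iff.mp hpos
  by_cases hconst : ∀ w ∈ W.toSubmodule, ∀ a b : α, w a = w b
  · by_cases hbot : W.toSubmodule = ⊥
    · left
      exact hbot
    · right
      left
      apply Subrepresentation.toSubmodule_injective
      show W.toSubmodule = Submodule.span K {fun _ => 1}
      apply le_antisymm
      · intro w hw
        rw [Submodule.mem_span_singleton]
        refine ⟨w a₀, ?_⟩
        funext x
        rw [Pi.smul_apply, smul_eq_mul, mul_one]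
        exact hconst w hw a₀ x
      · rw [Submodule.span_singleton_le_iff_mem]
        obtain ⟨w, hw, hw0⟩ := Submodule.exists_mem_ne_zero_of_ne_bot hbot
        have hwa : w a₀ ≠ 0 := by
          intro h0
          apply hw0
          funext x
          rw [hconst w hw x a₀, h0]
          rfl
        have he : (fun _ : α => (1 : K)) = (w a₀)⁻¹ • w := by
          funext x
          rw [Pi.smul_apply, smul_eq_mul, hconst w hw x a₀, inv_mul_cancel₀ hwa]
        rw [he]
        exact W.toSubmodule.smul_mem _ hw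
  · push Not at hconst
    obtain ⟨w, hw, a, b, hwab⟩ := hconst
    have hZ := sumZero_le hα W.toSubmodule hW w hw hwab
    by_cases hWZ : ∀ w ∈ W.toSubmodule, ∑ x, w x = 0
    · right
      right
      left
      apply Subrepresentation.toSubmodule_injective
      apply le_antisymm
      · intro v hv
        exact hWZ v hv
      · intro f hf
        exact hZ f hf
    · right
      right
      right
      push Not at hWZ
      obtain ⟨v, hv, hvs⟩ := hWZ
      rw [eq_top_iff]
      intro f _
      have hf : f = (f - ((∑ x, f x) / (∑ x, v x)) • v) + ((∑ x, f x) / (∑ x, v x)) • v := by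
        abel
      rw [hf]
      apply W.toSubmodule.add_mem
      · apply hZ
        simp only [Pi.sub_apply, Pi.smul_apply, smul_eq_mul, Finset.sum_sub_distrib,
          ← Finset.mul_sum]
        rw [div_mul_cancel₀ _ hvs, sub_self]
      · exact W.toSubmodule.smul_mem _ hv

end Cfsg.Agent.S0714
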