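import Cfsg.Statements.S5913
-- import your own Cfsg.Agent.* helpers here

set_option autoImplicit false
open Cfsg

namespace Cfsg.Agent.S5913

theorem center_eq_bot {S : Type*} [Group S] [IsSimpleGroup S] (hS : ¬ IsMulCommutative S) :
    Subgroup.center S = ⊥ := by
  rcases (inferInstance : (Subgroup.center S).Normal).eq_bot_or_eq_top with h | h
  · exact h
  · exfalso
    apply hS
    refine ⟨⟨fun a b => ?_⟩⟩
    have : b ∈ Subgroup.center S := by rw [h]; trivial
    rw [Subgroup.mem_center_iff] at this
    exact this a

theorem mulSingle_mem {S : Type*} [Group S] [IsSimpleGroup S] (hS : ¬ IsMulCommutative S) (n : ℕ)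
    (N : Subgroup (Fin n → S)) [hN : N.Normal] (i : Fin n) (x : Fin n → S) (hx : x ∈ N) (hxi : x i ≠ 1)
    (s : S) : Pi.mulSingle i s ∈ N := by
  classical
  -- the normal subgroup K of S
  have hK : (N.comap (MonoidHom.mulSingle (fun _ : Fin n => S) i)).Normal := inferInstance
  rcases hK.eq_bot_or_eq_top with h | h
  · exfalso
    -- find t not commuting with x i
    have hnc : ∃ t : S, t * x i ≠ x i * t := by
      by_contra hcon
      push Not at hcon
      have : x i ∈ Subgroup.center S := by
        rw [Subgroup.mem_center_iff]; exact hcon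
      rw [center_eq_bot hS, Subgroup.mem_bot] at this
      exact hxi this
    obtain ⟨t, ht⟩ := hnc
    have hmem : x * (Pi.mulSingle i t * x⁻¹ * (Pi.mulSingle i t)⁻¹) ∈ N :=
      N.mul_mem hx (hN.conj_mem _ (N.inv_mem hx) _)
    have heq : x * (Pi.mulSingle i t * x⁻¹ * (Pi.mulSingle i t)⁻¹) =
        Pi.mulSingle i (x i * (t * (x i)⁻¹ * t⁻¹)) := by
      ext j
      by_cases hj : j = i
      · subst hj; simp
      · simp [Pi.mulSingle_eq_of_ne hj]
    rw [heq] at hmem
    have : x i * (t * (x i)⁻¹ * t⁻¹) ∈ N.comap (MonoidHom.mulSingle (fun _ : Fin n => S) i) := hmem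
    rw [h, Subgroup.mem_bot] at this
    apply ht
    have h2 : x i * t * (x i)⁻¹ * t⁻¹ = 1 := by simpa [mul_assoc] using this
    have h3 : x i * t = t * x i := by
      have := congrArg (fun z => z * t * x i) h2
      simpa [mul_assoc] using this
    exact h3.symm
  · have : s ∈ N.comap (MonoidHom.mulSingle (fun _ : Fin n => S) i) := by rw [h]; trivial
    exact this


/-- Let S be a non-abelian simple group and n a natural number. Every normal subgroup N of the direct power S^n (functions Fin n → S) is a subproduct: there is a set T of coordinates such that N consists exactly of the elements whose coordinates outside T are trivial. In particular the minimal normal subgroups of S^n are its n factors. -/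
theorem result {S : Type*} [Group S] [IsSimpleGroup S] (hS : ¬ IsMulCommutative S) (n : ℕ)
    (N : Subgroup (Fin n → S)) [N.Normal] :
    ∃ T : Finset (Fin n), ∀ x : Fin n → S, x ∈ N ↔ ∀ i, i ∉ T → x i = 1 := by
  classical
  refine ⟨Finset.univ.filter (fun i => ∃ x ∈ N, x i ≠ 1), fun x => ⟨?_, ?_⟩⟩
  · intro hx i hi
    by_contra hne
    apply hi
    rw [Finset.mem_filter]
    exact ⟨Finset.mem_univ _, x, hx, hne⟩
  · intro h
    rw [← Finset.noncommProd_mulSingle x]
    apply Subgroup.noncommProd_mem
    intro i _
    by_cases hi : i ∈ Finset.univ.filter (fun i => ∃ x ∈ N, x i ≠ 1)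
    · rw [Finset.mem_filter] at hi
      obtain ⟨-, y, hy, hyi⟩ := hi
      exact mulSingle_mem hS n N i y hy hyi (x i)
    · rw [h i hi, Pi.mulSingle_one]
      exact N.one_mem

end Cfsg.Agent.S5913
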