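import Cfsg.Statements.S5914
import Cfsg.Agent.S5913

set_option autoImplicit false
open Cfsg

namespace Cfsg.Agent.S5914

variable {G : Type*} [Group G]

/-- `(Fin (j+1) → T) ≃* T × (Fin j → T)` -/
def piFinSuccMulEquiv (T : Type*) [Group T] (j : ℕ) : (Fin (j + 1) → T) ≃* T × (Fin j → T) :=
  { (Fin.consEquiv (fun _ : Fin (j + 1) => T)).symm with map_mul' := fun _ _ => rfl }

/-- internal direct product of two disjoint normal subgroups -/
theorem nonempty_sup_mulEquiv_prod (D M : Subgroup G) (hD : D.Normal) (hM : M.Normal) (hdis : Disjoint D M) :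
    Nonempty (↥(D ⊔ M) ≃* ↥D × ↥M) := by
  have comm : ∀ (d : D) (m : M), Commute (D.subtype d) (M.subtype m) := fun d m =>
    Subgroup.commute_of_normal_of_disjoint D M hD hM hdis d m d.2 m.2
  have hinj : Function.Injective (MonoidHom.noncommCoprod D.subtype M.subtype comm) := by
    rw [MonoidHom.noncommCoprod_injective]
    refine ⟨Subtype.val_injective, Subtype.val_injective, ?_⟩
    rw [Subgroup.range_subtype, Subgroup.range_subtype]
    exact hdis
  have hrange : (MonoidHom.noncommCoprod D.subtype M.subtype comm).range = D ⊔ M := by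
    rw [MonoidHom.noncommCoprod_range, Subgroup.range_subtype, Subgroup.range_subtype]
  exact ⟨((MonoidHom.ofInjective hinj).trans (MulEquiv.subgroupCongr hrange)).symm⟩

theorem exists_minimal_normal [Finite G] [Nontrivial G] :
    ∃ N : Subgroup G, N.Normal ∧ N ≠ ⊥ ∧ ∀ K : Subgroup G, K.Normal → K ≤ N → K = ⊥ ∨ K = N := by
  obtain ⟨N, ⟨hNn, hN0⟩, hmin⟩ := wellFounded_lt.has_min {K : Subgroup G | K.Normal ∧ K ≠ ⊥}
    ⟨⊤, inferInstance, top_ne_bot⟩
  refine ⟨N, hNn, hN0, fun K hK hle => ?_⟩
  by_cases hK0 : K = ⊥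
  · exact Or.inl hK0
  · right
    exact eq_of_le_of_not_lt hle (hmin K ⟨hK, hK0⟩)

theorem map_minimal (N : Subgroup G) (hNn : N.Normal)
    (hmin : ∀ K : Subgroup G, K.Normal → K ≤ N → K = ⊥ ∨ K = N) (φ : G ≃* G) :
    (N.map φ.toMonoidHom).Normal ∧
      ∀ K : Subgroup G, K.Normal → K ≤ N.map φ.toMonoidHom → K = ⊥ ∨ K = N.map φ.toMonoidHom := by
  refine ⟨hNn.map _ φ.surjective, fun K hK hle => ?_⟩
  have h1 : K.comap φ.toMonoidHom ≤ N := by
    intro x hx
    obtain ⟨n, hn, hnx⟩ := hle hx
    have : n = x := φ.injective hnx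
    rw [← this]; exact hn
  rcases hmin _ (hK.comap _) h1 with h | h
  · left
    rw [← Subgroup.map_comap_eq_self_of_surjective (f := φ.toMonoidHom) φ.surjective K, h, Subgroup.map_bot]
  · right
    rw [← Subgroup.map_comap_eq_self_of_surjective (f := φ.toMonoidHom) φ.surjective K, h]

theorem iSup_map_eq_top [Finite G]
    (hchar : ∀ H : Subgroup G, H.Characteristic → H = ⊥ ∨ H = ⊤) (N : Subgroup G) (hN0 : N ≠ ⊥) :
    (⨆ φ : G ≃* G, N.map φ.toMonoidHom) = ⊤ := by
  have hc : (⨆ φ : G ≃* G, N.map φ.toMonoidHom).Characteristic := by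
    rw [Subgroup.characteristic_iff_map_le]
    intro ψ
    rw [Subgroup.map_iSup]
    apply iSup_le
    intro φ
    rw [Subgroup.map_map]
    exact le_iSup (fun χ : G ≃* G => N.map χ.toMonoidHom) (φ.trans ψ)
  rcases hchar _ hc with h | h
  · exfalso
    apply hN0
    rw [eq_bot_iff, ← h]
    have := le_iSup (fun χ : G ≃* G => N.map χ.toMonoidHom) (MulEquiv.refl G)
    refine le_trans ?_ this
    intro x hx
    exact ⟨x, hx, rfl⟩
  · exact h

theorem build [Finite G]
    (hchar : ∀ H : Subgroup G, H.Characteristic → H = ⊥ ∨ H = ⊤) (N : Subgroup G) (hNn : N.Normal) (hN0 : N ≠ ⊥)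
    (hmin : ∀ K : Subgroup G, K.Normal → K ≤ N → K = ⊥ ∨ K = N) (D : Subgroup G)
    (hD : D.Normal) (hND : N ≤ D) (hDC : D ≤ N ⊔ Subgroup.centralizer (N : Set G))
    (hiso : ∃ j : ℕ, 1 ≤ j ∧ Nonempty (↥D ≃* (Fin j → ↥N))) :
    (∃ j : ℕ, 1 ≤ j ∧ Nonempty (↥(⊤ : Subgroup G) ≃* (Fin j → ↥N))) ∧
      (⊤ : Subgroup G) ≤ N ⊔ Subgroup.centralizer (N : Set G) := by
  induction D using WellFoundedGT.induction with
  | _ D ih =>
    by_cases hDtop : D = ⊤
    · subst hDtop
      exact ⟨hiso, hDC⟩
    · -- find φ with map φ N not ≤ D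
      have hex : ∃ φ : G ≃* G, ¬ N.map φ.toMonoidHom ≤ D := by
        by_contra hcon
        push Not at hcon
        apply hDtop
        rw [eq_top_iff, ← iSup_map_eq_top hchar N hN0]
        exact iSup_le hcon
      obtain ⟨φ, hφ⟩ := hex
      obtain ⟨hMn, hMmin⟩ := map_minimal N hNn hmin φ
      have e2' : Nonempty (↥(N.map φ.toMonoidHom) ≃* ↥N) := ⟨(φ.subgroupMap N).symm⟩
      generalize N.map φ.toMonoidHom = M at *
      have hdis : Disjoint D M := by
        rw [disjoint_iff]
        have hn : (D ⊓ M).Normal := by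
          have := hD; have := hMn; infer_instance
        rcases hMmin (D ⊓ M) hn inf_le_right with h | h
        · exact h
        · exfalso; apply hφ; rw [← h]; exact inf_le_left
      have hlt : D < D ⊔ M := by
        apply lt_of_le_of_ne le_sup_left
        intro h
        apply hφ
        rw [h]; exact le_sup_right
      have hn' : (D ⊔ M).Normal := by
        have := hD; have := hMn; infer_instance
      refine ih (D ⊔ M) hlt hn' (hND.trans le_sup_left) ?_ ?_
      · apply sup_le hDC
        refine le_trans ?_ le_sup_right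
        intro m hm
        rw [Subgroup.mem_centralizer_iff]
        intro n hn
        exact (Subgroup.commute_of_normal_of_disjoint D M hD hMn hdis n m (hND hn) hm).eq
      · obtain ⟨j, hj, ⟨e⟩⟩ := hiso
        obtain ⟨e1⟩ := nonempty_sup_mulEquiv_prod D M hD hMn hdis
        obtain ⟨e2⟩ := e2'
        refine ⟨j + 1, by omega, ⟨?_⟩⟩
        exact (e1.trans ((MulEquiv.prodCongr e e2).trans MulEquiv.prodComm)).trans
          (piFinSuccMulEquiv ↥N j).symm


theorem simple_of_minimal (N : Subgroup G) (hNn : N.Normal) (hN0 : N ≠ ⊥)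
    (hmin : ∀ K : Subgroup G, K.Normal → K ≤ N → K = ⊥ ∨ K = N)
    (htop : (⊤ : Subgroup G) ≤ N ⊔ Subgroup.centralizer (N : Set G)) : IsSimpleGroup ↥N := by
  have hnt : Nontrivial ↥N := by
    rw [Subgroup.nontrivial_iff_ne_bot]; exact hN0
  refine ⟨fun K hK => ?_⟩
  have hKn : (K.map N.subtype).Normal := by
    rw [← Subgroup.normalizer_eq_top_iff, eq_top_iff]
    refine htop.trans (sup_le ?_ ?_)
    · intro n hn
      rw [Subgroup.mem_normalizer_iff]
      intro x
      constructor
      · rintro ⟨k, hk, rfl⟩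
        exact ⟨⟨n, hn⟩ * k * ⟨n, hn⟩⁻¹, hK.conj_mem k hk ⟨n, hn⟩, rfl⟩
      · rintro ⟨k, hk, hkx⟩
        have hx : x = n⁻¹ * (k : G) * n := by
          have : (k : G) = n * x * n⁻¹ := hkx
          rw [this]; group
        refine ⟨⟨n, hn⟩⁻¹ * k * ⟨n, hn⟩, ?_, ?_⟩
        · have := hK.conj_mem k hk ⟨n, hn⟩⁻¹
          simpa using this
        · rw [hx]; rfl
    · intro c hc
      rw [Subgroup.mem_normalizer_iff]
      intro x
      rw [Subgroup.mem_centralizer_iff] at hc
      constructor
      · rintro ⟨k, hk, rfl⟩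
        refine ⟨k, hk, ?_⟩
        have := hc k k.2
        show (k : G) = c * k * c⁻¹
        rw [← this]; group
      · rintro ⟨k, hk, hkx⟩
        refine ⟨k, hk, ?_⟩
        have h1 := hc k k.2
        have h2 : (k : G) = c * x * c⁻¹ := hkx
        show (k : G) = x
        have h3 : x = c⁻¹ * (k : G) * c := by rw [h2]; group
        rw [h3, mul_assoc, h1, inv_mul_cancel_left]
  have hle : K.map N.subtype ≤ N := by
    rintro _ ⟨k, _, rfl⟩; exact k.2
  rcases hmin _ hKn hle with h | h
  · left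
    exact (Subgroup.map_eq_bot_iff_of_injective K Subtype.val_injective).mp h
  · right
    rw [eq_top_iff]
    intro k _
    have : (k : G) ∈ K.map N.subtype := by rw [h]; exact k.2
    obtain ⟨k', hk', hkk⟩ := this
    have : k' = k := Subtype.ext hkk
    rw [← this]; exact hk'

/-- forward direction, universe polymorphic -/
theorem forward_poly [Finite G] [Nontrivial G]
    (hchar : ∀ H : Subgroup G, H.Characteristic → H = ⊥ ∨ H = ⊤) :
    ∃ (N : Subgroup G) (j : ℕ), IsSimpleGroup ↥N ∧ 1 ≤ j ∧ Nonempty (G ≃* (Fin j → ↥N)) := by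
  obtain ⟨N, hNn, hN0, hmin⟩ := exists_minimal_normal (G := G)
  obtain ⟨⟨j, hj, ⟨e⟩⟩, htop⟩ := build hchar N hNn hN0 hmin N hNn le_rfl le_sup_left
    ⟨1, le_rfl, ⟨(MulEquiv.funUnique (Fin 1) ↥N).symm⟩⟩
  exact ⟨N, j, simple_of_minimal N hNn hN0 hmin htop, hj, ⟨Subgroup.topEquiv.symm.trans e⟩⟩

theorem forward [Finite G] [Nontrivial G]
    (hchar : ∀ H : Subgroup G, H.Characteristic → H = ⊥ ∨ H = ⊤) :
    ∃ (S : Type) (_ : Group S) (_ : IsSimpleGroup S) (n : ℕ), 1 ≤ n ∧ Nonempty (G ≃* (Fin n → S)) := by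
  obtain ⟨N, j, hs, hj, ⟨e⟩⟩ := forward_poly hchar
  refine ⟨Shrink.{0} ↥N, inferInstance, (Shrink.mulEquiv.{0} (α := ↥N)).isSimpleGroup, j, hj, ⟨?_⟩⟩
  exact e.trans (MulEquiv.piCongrRight (fun _ => (Shrink.mulEquiv.{0} (α := ↥N)).symm))


section back
variable {S : Type*} [Group S]

theorem char_mem {G : Type*} [Group G] {H : Subgroup G} (hH : H.Characteristic) (φ : G ≃* G) {x : G}
    (hx : x ∈ H) : φ x ∈ H :=
  (Subgroup.characteristic_iff_map_le.mp hH φ) ⟨x, hx, rfl⟩

/-- coordinate permutation automorphism -/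
def permAut (n : ℕ) (σ : Equiv.Perm (Fin n)) : (Fin n → S) ≃* (Fin n → S) where
  toFun f := f ∘ σ
  invFun f := f ∘ σ.symm
  left_inv f := by funext m; simp
  right_inv f := by funext m; simp
  map_mul' f g := rfl

theorem permAut_mulSingle (n : ℕ) (j k : Fin n) (s : S) :
    permAut n (Equiv.swap j k) (Pi.mulSingle j s) = Pi.mulSingle k s := by
  funext m
  show (Pi.mulSingle j s : Fin n → S) (Equiv.swap j k m) = (Pi.mulSingle k s : Fin n → S) m
  by_cases hm : m = k
  · subst hm; simp
  · have : Equiv.swap j k m ≠ j := by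
      intro h
      apply hm
      rw [Equiv.swap_apply_eq_iff] at h
      simpa using h
    rw [Pi.mulSingle_eq_of_ne this, Pi.mulSingle_eq_of_ne hm]

/-- transvection automorphism in the commutative case -/
def transv (hcomm : ∀ a b : S, a * b = b * a) (n : ℕ) (i j : Fin n) (hij : i ≠ j) :
    (Fin n → S) ≃* (Fin n → S) where
  toFun f := f * Pi.mulSingle j (f i)
  invFun f := f * Pi.mulSingle j (f i)⁻¹
  left_inv f := by
    funext m
    by_cases hm : m = j
    · subst hm; simp [Pi.mulSingle_eq_of_ne hij]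
    · simp [Pi.mulSingle_eq_of_ne hm]
  right_inv f := by
    funext m
    by_cases hm : m = j
    · subst hm; simp [Pi.mulSingle_eq_of_ne hij]
    · simp [Pi.mulSingle_eq_of_ne hm]
  map_mul' f g := by
    funext m
    by_cases hm : m = j
    · subst hm
      simp only [Pi.mul_apply, Pi.mulSingle_eq_same]
      rw [mul_assoc, mul_assoc, ← mul_assoc (g m), hcomm (g m) (f i), mul_assoc]
    · simp [Pi.mulSingle_eq_of_ne hm]

theorem transv_apply (hcomm : ∀ a b : S, a * b = b * a) (n : ℕ) (i j : Fin n) (hij : i ≠ j)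
    (f : Fin n → S) : transv hcomm n i j hij f = f * Pi.mulSingle j (f i) := rfl

theorem all_mulSingle_of_one [IsSimpleGroup S] (n : ℕ) (H : Subgroup (Fin n → S)) [hN : H.Normal]
    (j : Fin n) (t : S) (ht : t ≠ 1) (hmem : Pi.mulSingle j t ∈ H) (s : S) : Pi.mulSingle j s ∈ H := by
  classical
  have hK : (H.comap (MonoidHom.mulSingle (fun _ : Fin n => S) j)).Normal := inferInstance
  rcases hK.eq_bot_or_eq_top with h | h
  · exfalso
    have : t ∈ H.comap (MonoidHom.mulSingle (fun _ : Fin n => S) j) := hmem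
    rw [h, Subgroup.mem_bot] at this
    exact ht this
  · have : s ∈ H.comap (MonoidHom.mulSingle (fun _ : Fin n => S) j) := by rw [h]; trivial
    exact this

theorem pi_char_simple [IsSimpleGroup S] (n : ℕ) (H : Subgroup (Fin n → S)) (hH : H.Characteristic) :
    H = ⊥ ∨ H = ⊤ := by
  classical
  by_cases hbot : H = ⊥
  · left; exact hbot
  right
  have hN : H.Normal := inferInstance
  obtain ⟨⟨x, hx⟩, hx1⟩ := (Subgroup.ne_bot_iff_exists_ne_one).mp hbot
  have hx1' : x ≠ 1 := fun h => hx1 (Subtype.ext h)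
  obtain ⟨i, hi⟩ : ∃ i, x i ≠ 1 := by
    by_contra hcon
    push Not at hcon
    exact hx1' (funext hcon)
  have key : ∃ j, ∀ s : S, Pi.mulSingle j s ∈ H := by
    by_cases hcomm : ∀ a b : S, a * b = b * a
    · by_cases hj : ∃ j, i ≠ j
      · obtain ⟨j, hij⟩ := hj
        have h1 : transv hcomm n i j hij x ∈ H := char_mem hH _ hx
        rw [transv_apply] at h1
        have h2 : Pi.mulSingle j (x i) ∈ H := by
          have := H.mul_mem (H.inv_mem hx) h1
          rwa [inv_mul_cancel_left] at this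
        exact ⟨j, all_mulSingle_of_one n H j (x i) hi h2⟩
      · push Not at hj
        have hx' : x = Pi.mulSingle i (x i) := by
          funext m
          rw [← hj m]; simp
        rw [hx'] at hx
        exact ⟨i, all_mulSingle_of_one n H i (x i) hi hx⟩
    · have hS : ¬ IsMulCommutative S := by
        intro h
        exact hcomm (fun a b => h.is_comm.comm a b)
      exact ⟨i, fun s => Cfsg.Agent.S5913.mulSingle_mem hS n H i x hx hi s⟩
  obtain ⟨j, hj⟩ := key
  have hall : ∀ k s, Pi.mulSingle k s ∈ H := by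
    intro k s
    have := char_mem hH (permAut n (Equiv.swap j k)) (hj s)
    rwa [permAut_mulSingle] at this
  rw [eq_top_iff]
  intro f _
  rw [← Finset.noncommProd_mulSingle f]
  apply Subgroup.noncommProd_mem
  intro k _
  exact hall k (f k)

theorem char_simple_of_mulEquiv {G P : Type*} [Group G] [Group P] (e : G ≃* P)
    (hP : ∀ H : Subgroup P, H.Characteristic → H = ⊥ ∨ H = ⊤) (H : Subgroup G) (hH : H.Characteristic) :
    H = ⊥ ∨ H = ⊤ := by
  have hc : (H.map e.toMonoidHom).Characteristic := by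
    rw [Subgroup.characteristic_iff_map_le]
    intro ψ
    rintro _ ⟨_, ⟨h, hh, rfl⟩, rfl⟩
    refine ⟨e.symm (ψ (e h)), ?_, by simp⟩
    exact char_mem hH ((e.trans ψ).trans e.symm) hh
  rcases hP _ hc with h | h
  · left
    exact (Subgroup.map_eq_bot_iff_of_injective H e.injective).mp h
  · right
    rw [eq_top_iff]
    intro g _
    have : e g ∈ H.map e.toMonoidHom := by rw [h]; trivial
    obtain ⟨g', hg', hgg⟩ := this
    have : g' = g := e.injective hgg
    rw [← this]; exact hg'

end back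



/-- A non-trivial finite group G is characteristically simple (its only characteristic subgroups are 1 and G) if and only if G is isomorphic to a direct power S^n (n ≥ 1) of some simple group S (possibly cyclic of prime order). -/
theorem result {G : Type*} [Group G] [Finite G] [Nontrivial G] :
    (∀ H : Subgroup G, H.Characteristic → H = ⊥ ∨ H = ⊤) ↔
    ∃ (S : Type) (_ : Group S) (_ : IsSimpleGroup S) (n : ℕ), 1 ≤ n ∧ Nonempty (G ≃* (Fin n → S)) := by
  constructor
  · intro h
    exact forward h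
  · rintro ⟨S, iS, hS, n, _, ⟨e⟩⟩ H hH
    exact char_simple_of_mulEquiv e (fun H' hH' => pi_char_simple n H' hH') H hH

end Cfsg.Agent.S5914
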