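import Cfsg.Statements.S0721
import Cfsg.Agent.S5914

set_option autoImplicit false
open Cfsg

namespace Cfsg.Agent.S0721


/-- A minimal normal subgroup of a finite group is isomorphic to a direct power `T ^ m` of a simple group `T` (possibly of prime order). -/
theorem result {H : Type*} [Group H] [Finite H] (N : Subgroup H) [N.Normal] (hN : N ≠ ⊥) (hmin : ∀ M : Subgroup H, M.Normal → M ≤ N → M = ⊥ ∨ M = N) : ∃ (T : Type) (_ : Group T) (m : ℕ), IsSimpleGroup T ∧ 0 < m ∧ Nonempty (N ≃* (Fin m → T)) := by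
  have hnt : Nontrivial ↥N := by
    rw [Subgroup.nontrivial_iff_ne_bot]; exact hN
  have hchar : ∀ K : Subgroup ↥N, K.Characteristic → K = ⊥ ∨ K = ⊤ := by
    intro K hK
    have hKn : (K.map N.subtype).Normal := by
      refine ⟨fun x hx h => ?_⟩
      obtain ⟨k, hk, rfl⟩ := hx
      refine ⟨MulAut.conjNormal h k, ?_, ?_⟩
      · exact Cfsg.Agent.S5914.char_mem hK (MulAut.conjNormal h) hk
      · simp
    have hle : K.map N.subtype ≤ N := by
      rintro _ ⟨k, _, rfl⟩; exact k.2
    rcases hmin _ hKn hle with h | h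
    · left
      exact (Subgroup.map_eq_bot_iff_of_injective K Subtype.val_injective).mp h
    · right
      rw [eq_top_iff]
      intro k _
      have : (k : H) ∈ K.map N.subtype := by rw [h]; exact k.2
      obtain ⟨k', hk', hkk⟩ := this
      have : k' = k := Subtype.ext hkk
      rw [← this]; exact hk'
  obtain ⟨N', j, hs, hj, ⟨e⟩⟩ := Cfsg.Agent.S5914.forward_poly hchar
  refine ⟨Shrink.{0} ↥N', inferInstance, j, (Shrink.mulEquiv.{0} (α := ↥N')).isSimpleGroup, hj, ⟨?_⟩⟩
  exact e.trans (MulEquiv.piCongrRight (fun _ => (Shrink.mulEquiv.{0} (α := ↥N')).symm))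

end Cfsg.Agent.S0721
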