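import Cfsg.Statements.S0724
import Mathlib

set_option autoImplicit false
open Cfsg

namespace Cfsg.Agent.S0724

noncomputable def fixedByPiEquiv {G : Type*} [Group G] {X : Type*} [MulAction G X] (k : ℕ) (g : G) :
    MulAction.fixedBy (Fin k → X) g ≃ (Fin k → MulAction.fixedBy X g) where
  toFun f := fun i => ⟨f.1 i, by
    have := f.2
    rw [MulAction.mem_fixedBy] at this ⊢
    exact congrFun this i⟩
  invFun f := ⟨fun i => (f i).1, by
    rw [MulAction.mem_fixedBy]
    funext i
    exact (f i).2⟩
  left_inv f := rfl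
  right_inv f := rfl

theorem key1 {G : Type*} [Group G] [Fintype G] {X : Type*} [Fintype X] [DecidableEq X]
    [MulAction G X] (k : ℕ) :
    (Fintype.card G : ℤ) ∣ ∑ g : G, ((Nat.card (MulAction.fixedBy X g) : ℕ) : ℤ) ^ k := by
  classical
  have h := MulAction.sum_card_fixedBy_eq_card_orbits_mul_card_group G (Fin k → X)
  have h2 : ∀ g : G, Fintype.card (MulAction.fixedBy (Fin k → X) g)
      = (Nat.card (MulAction.fixedBy X g)) ^ k := by
    intro g
    rw [Fintype.card_congr (fixedByPiEquiv k g), Fintype.card_fun, Fintype.card_fin,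
      Nat.card_eq_fintype_card]
  simp only [h2] at h
  have h3 : (∑ g : G, ((Nat.card (MulAction.fixedBy X g) : ℕ) : ℤ) ^ k)
      = ((∑ g : G, (Nat.card (MulAction.fixedBy X g)) ^ k : ℕ) : ℤ) := by
    push_cast
    rfl
  rw [h3, h]
  push_cast
  exact Dvd.intro_left _ rfl

theorem key2 {G : Type*} [Group G] [Fintype G] {X : Type*} [Fintype X] [DecidableEq X]
    [MulAction G X] (L : Finset ℕ) : ∀ k : ℕ,
    (Fintype.card G : ℤ) ∣ ∑ g : G, ((Nat.card (MulAction.fixedBy X g) : ℕ) : ℤ) ^ k
      * ∏ l ∈ L, (((Nat.card (MulAction.fixedBy X g) : ℕ) : ℤ) - (l : ℤ)) := by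
  classical
  induction L using Finset.induction_on with
  | empty =>
    intro k
    simp only [Finset.prod_empty, mul_one]
    exact key1 k
  | insert a s ha ih =>
    intro k
    have : ∀ g : G, ((Nat.card (MulAction.fixedBy X g) : ℕ) : ℤ) ^ k
        * ∏ l ∈ insert a s, (((Nat.card (MulAction.fixedBy X g) : ℕ) : ℤ) - (l : ℤ))
        = ((Nat.card (MulAction.fixedBy X g) : ℕ) : ℤ) ^ (k + 1)
            * ∏ l ∈ s, (((Nat.card (MulAction.fixedBy X g) : ℕ) : ℤ) - (l : ℤ))
          - (a : ℤ) * (((Nat.card (MulAction.fixedBy X g) : ℕ) : ℤ) ^ k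
            * ∏ l ∈ s, (((Nat.card (MulAction.fixedBy X g) : ℕ) : ℤ) - (l : ℤ))) := by
      intro g
      rw [Finset.prod_insert ha]
      ring
    simp only [this]
    rw [Finset.sum_sub_distrib, ← Finset.mul_sum]
    exact dvd_sub (ih (k + 1)) (Dvd.dvd.mul_left (ih k) _)

/-- Blichfeldt's Theorem: if a finite set `L` of natural numbers contains the number of fixed points of every non-identity element of a permutation group `G` of degree `n`, then the order of `G` divides `∏ (n - l)` over `l ∈ L`. -/
theorem result {α : Type*} [Fintype α] [DecidableEq α] (G : Subgroup (Equiv.Perm α)) (L : Finset ℕ) (hL : ∀ g ∈ G, g ≠ 1 → Nat.card (MulAction.fixedBy α g) ∈ L) : Nat.card G ∣ ∏ l ∈ L, (Fintype.card α - l) := by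
  classical
  haveI : Fintype G := Fintype.ofFinite G
  by_cases hbig : ∃ l ∈ L, Fintype.card α ≤ l
  · obtain ⟨l, hl, hle⟩ := hbig
    have : ∏ l ∈ L, (Fintype.card α - l) = 0 := by
      apply Finset.prod_eq_zero hl
      omega
    rw [this]
    exact dvd_zero _
  · push Not at hbig
    have h := key2 (G := G) (X := α) L 0
    simp only [pow_zero, one_mul] at h
    have hsum : ∑ g : G, ∏ l ∈ L, (((Nat.card (MulAction.fixedBy α g) : ℕ) : ℤ) - (l : ℤ))
        = ∏ l ∈ L, ((Fintype.card α : ℤ) - (l : ℤ)) := by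
      rw [Finset.sum_eq_single (1 : G)]
      · have : Nat.card (MulAction.fixedBy α (1 : G)) = Fintype.card α := by
          rw [MulAction.fixedBy_one_eq_univ]
          simp
        rw [this]
      · intro g _ hg
        have hg' : (g : Equiv.Perm α) ≠ 1 := by
          intro h1
          apply hg
          exact Subtype.ext h1
        have hmem := hL g.1 g.2 hg'
        apply Finset.prod_eq_zero hmem
        have : MulAction.fixedBy α g = MulAction.fixedBy α (g : Equiv.Perm α) := rfl
        rw [this, sub_self]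
      · intro h1
        exact absurd (Finset.mem_univ _) h1
    rw [hsum] at h
    have hcast : ((∏ l ∈ L, (Fintype.card α - l) : ℕ) : ℤ) = ∏ l ∈ L, ((Fintype.card α : ℤ) - (l : ℤ)) := by
      rw [Nat.cast_prod]
      apply Finset.prod_congr rfl
      intro l hl
      rw [Nat.cast_sub (le_of_lt (hbig l hl))]
    rw [← hcast] at h
    rw [Nat.card_eq_fintype_card]
    exact Int.natCast_dvd_natCast.mp h

end Cfsg.Agent.S0724
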