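import Cfsg.Statements.S0729
import Mathlib
import Cfsg.Agent.S0728
import Cfsg.Agent.Lib.helper6.Sharp3
import Cfsg.Agent.Lib.helper6.SZe

set_option autoImplicit false
open Cfsg

namespace Cfsg.Agent.S0729

/-- In a sharply triply transitive group of even degree at least 6, the two-point stabiliser `H = G_{a,b}` has a normal subgroup of index 2 that is normalised by the element `s` interchanging `a, b` and fixing a third point `c`. -/
theorem result {α : Type*} [Fintype α] [DecidableEq α] (heven : Even (Fintype.card α)) (h6 : 6 ≤ Fintype.card α) (G : Subgroup (Equiv.Perm α)) (h3 : MulAction.IsMultiplyPretransitive G α 3) (hsharp : ∀ x : Fin 3 ↪ α, MulAction.stabilizer G x = ⊥) {a b c : α} (hab : a ≠ b) (hac : a ≠ c) (hbc : b ≠ c) (s : G) (hsa : s • a = b) (hsb : s • b = a) (hsc : s • c = c) : ∃ N : Subgroup G, N ≤ MulAction.stabilizer G a ⊓ MulAction.stabilizer G b ∧ (N.subgroupOf (MulAction.stabilizer G a ⊓ MulAction.stabilizer G b)).Normal ∧ N.relIndex (MulAction.stabilizer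 G a ⊓ MulAction.stabilizer G b) = 2 ∧ ∀ n ∈ N, s * n * s⁻¹ ∈ N := by
  classical
  haveI : Finite G := inferInstance
  have S3 : ∀ g : G, ∀ a b c : α, a ≠ b → b ≠ c → a ≠ c → g • a = a → g • b = b → g • c = c →
      g = 1 := by
    intro g a b c hab hbc hac ha hb hc
    let x : Fin 3 ↪ α := ⟨![a, b, c], Cfsg.Agent.S0728.inj3 a b c hab hac hbc⟩
    have : g ∈ MulAction.stabilizer G x := by
      rw [MulAction.mem_stabilizer_iff]
      ext i
      fin_cases i
      · exact ha
      · exact hb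
      · exact hc
    rw [hsharp x] at this
    exact Subgroup.mem_bot.mp this
  have T3 : ∀ a b c a' b' c' : α, a ≠ b → b ≠ c → a ≠ c → a' ≠ b' → b' ≠ c' → a' ≠ c' →
      ∃ g : G, g • a = a' ∧ g • b = b' ∧ g • c = c' := by
    intro a b c a' b' c' hab hbc hac hab' hbc' hac'
    let x : Fin 3 ↪ α := ⟨![a, b, c], Cfsg.Agent.S0728.inj3 a b c hab hac hbc⟩
    let y : Fin 3 ↪ α := ⟨![a', b', c'], Cfsg.Agent.S0728.inj3 a' b' c' hab' hac' hbc'⟩
    obtain ⟨g, hg⟩ := MulAction.exists_smul_eq G x y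
    refine ⟨g, ?_, ?_, ?_⟩
    · have := congrArg (fun f : Fin 3 ↪ α => f 0) hg
      exact this
    · have := congrArg (fun f : Fin 3 ↪ α => f 1) hg
      exact this
    · have := congrArg (fun f : Fin 3 ↪ α => f 2) hg
      exact this
  obtain ⟨KG, k1, k2, k3, k4, k5⟩ :=
    Cfsg.Agent.Lib.helper6.Sharp3.kernel_data3 (G := G) (α := α) T3 S3 hbc hab hac
  have C : Cfsg.Agent.Lib.helper6.Sharp3F.Ctx G α a b c KG :=
    ⟨T3, S3, hbc, hab, hac, k1, k2, k3, k4, k5⟩
  exact Cfsg.Agent.Lib.helper6.SZe.index_two_stab C heven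
    (fun A B hA hB hA3 hB3 => Cfsg.Agent.S0728.result heven h6 G h3 hsharp hab A B hA hB hA3 hB3)
    s hsa hsb hsc

end Cfsg.Agent.S0729
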