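import Cfsg.Statements.S0730
import Cfsg.Agent.Lib.helper6.Sharp3F
import Cfsg.Agent.S0727

set_option autoImplicit false
open Cfsg

namespace Cfsg.Agent.S0730

/-- A sharply triply transitive group of degree `p^f + 1`, `p` an odd prime and `f` odd, is isomorphic to the projective general linear group of degree 2 over the field with `p^f` elements (for even `f` there is a second, twisted, group). -/
theorem result {α : Type*} [Fintype α] [DecidableEq α] {p f : ℕ} (hp : p.Prime) (hp2 : p ≠ 2) (hfo : Odd f) (hα : Fintype.card α = p ^ f + 1) (G : Subgroup (Equiv.Perm α)) (h3 : MulAction.IsMultiplyPretransitive G α 3) (hsharp : ∀ x : Fin 3 ↪ α, MulAction.stabilizer G x = ⊥) : ∃ (F : Type) (_ : Field F) (_ : Fintype F), Fintype.card F = p ^ f ∧ Nonempty (G ≃* Matrix.ProjGenLinGroup (Fin 2) F) := by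
  classical
  have T3 : ∀ a b c a' b' c' : α, a ≠ b → b ≠ c → a ≠ c → a' ≠ b' → b' ≠ c' → a' ≠ c' →
      ∃ g : G, g • a = a' ∧ g • b = b' ∧ g • c = c' := by
    intro a b c a' b' c' hab hbc hac hab' hbc' hac'
    obtain ⟨g, hg⟩ := h3.exists_smul_eq (Cfsg.Agent.S0727.emb3 a b c hab hbc hac)
      (Cfsg.Agent.S0727.emb3 a' b' c' hab' hbc' hac')
    refine ⟨g, ?_, ?_, ?_⟩
    · have := congrArg (fun x : Fin 3 ↪ α => x 0) hg
      simpa [Function.Embedding.smul_apply, Cfsg.Agent.S0727.emb3_0] using this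
    · have := congrArg (fun x : Fin 3 ↪ α => x 1) hg
      simpa [Function.Embedding.smul_apply, Cfsg.Agent.S0727.emb3_1] using this
    · have := congrArg (fun x : Fin 3 ↪ α => x 2) hg
      simpa [Function.Embedding.smul_apply, Cfsg.Agent.S0727.emb3_2] using this
  have S3 : ∀ g : G, ∀ a b c : α, a ≠ b → b ≠ c → a ≠ c → g • a = a → g • b = b → g • c = c →
      g = 1 := by
    intro g a b c hab hbc hac ha hb hc
    have hmem : g ∈ MulAction.stabilizer G (Cfsg.Agent.S0727.emb3 a b c hab hbc hac) := by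
      rw [MulAction.mem_stabilizer_iff]
      ext i
      have hi : (g • Cfsg.Agent.S0727.emb3 a b c hab hbc hac) i =
          g • (Cfsg.Agent.S0727.emb3 a b c hab hbc hac i) :=
        Function.Embedding.smul_apply _ _ _
      refine hi.trans ?_
      fin_cases i
      · exact ha
      · exact hb
      · exact hc
    rw [hsharp] at hmem
    exact Subgroup.mem_bot.mp hmem
  have h3le : 2 < Fintype.card α := by
    rw [hα]
    have : 2 ≤ p := hp.two_le
    obtain ⟨a, ha⟩ := hfo
    have h1 : p ^ 1 ≤ p ^ f := Nat.pow_le_pow_right hp.pos (by omega)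
    rw [pow_one] at h1
    omega
  obtain ⟨pinf, p0, p1, hi0, hi1, h01⟩ := Fintype.two_lt_card_iff.mp h3le
  haveI : Finite G := inferInstance
  obtain ⟨KG, kfix, kfpf, ktr, knorm, kcomm⟩ :=
    Cfsg.Agent.Lib.helper6.Sharp3.kernel_data3 (G := G) (α := α) T3 S3 h01 hi0 hi1
  have C : Cfsg.Agent.Lib.helper6.Sharp3F.Ctx G α pinf p0 p1 KG :=
    { T3 := T3, S3 := S3, h01 := h01, hi0 := hi0, hi1 := hi1, kfix := kfix, kfpf := kfpf,
      ktr := ktr, knorm := knorm, kcomm := kcomm }
  haveI : FaithfulSMul G α := ⟨fun {g h} hgh => Subtype.ext (Equiv.ext hgh)⟩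
  have hHcomm := C.stab_comm hp hp2 hfo hα
  obtain ⟨F, iF, iFin, hcard, hiso⟩ :=
    Cfsg.Agent.Lib.helper6.Sharp3C.sharp3_comm (G := G) (α := α) T3 S3 h01 hi0 hi1 hHcomm
  refine ⟨F, iF, iFin, ?_, hiso⟩
  omega

end Cfsg.Agent.S0730
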