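import Cfsg.Statements.S0733
import Mathlib

set_option autoImplicit false
open Cfsg

namespace Cfsg.Agent.S0733

open scoped Pointwise

/-- A permutation group of affine type — generated by the translations of a finite vector space `V` over `ZMod p` together with a group `G₀` of linear automorphisms — is primitive on `V` if and only if `G₀` is irreducible on `V`. -/
theorem result {p : ℕ} [Fact p.Prime] {V : Type*} [AddCommGroup V] [Module (ZMod p) V] [Finite V] [Nontrivial V] (G₀ : Subgroup (V ≃ₗ[ZMod p] V)) (G : Subgroup (Equiv.Perm V)) (hG : ∀ σ : Equiv.Perm V, σ ∈ G ↔ ∃ g ∈ G₀, ∃ b : V, ∀ x : V, σ x = (g : V ≃ₗ[ZMod p] V) x + b) : MulAction.IsPreprimitive G V ↔ ∀ W : Submodule (ZMod p) V, (∀ g ∈ G₀, ∀ v ∈ W, (g : V ≃ₗ[ZMod p] V) v ∈ W) → W = ⊥ ∨ W = ⊤ := by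
  have htransl : ∀ b : V, Equiv.addRight b ∈ G := by
    intro b
    rw [hG]
    exact ⟨1, Subgroup.one_mem _, b, fun x => rfl⟩
  have hlin : ∀ g ∈ G₀, (g : V ≃ₗ[ZMod p] V).toEquiv ∈ G := by
    intro g hg
    rw [hG]
    exact ⟨g, hg, 0, fun x => by simp⟩
  haveI htr : MulAction.IsPretransitive G V := by
    refine ⟨fun x y => ⟨⟨Equiv.addRight (y - x), htransl _⟩, ?_⟩⟩
    change x + (y - x) = y
    abel
  constructor
  · intro hprim W hW
    have hblock : MulAction.IsBlock G (W : Set V) := by
      rw [MulAction.isBlock_iff_smul_eq_of_mem]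
      rintro ⟨σ, hσ⟩ x hx hσx
      obtain ⟨g, hg, b, hgb⟩ := (hG σ).mp hσ
      have hσx' : σ x ∈ W := hσx
      rw [hgb] at hσx'
      have hb : b ∈ W := by
        have := W.sub_mem hσx' (hW g hg x hx)
        simpa using this
      ext y
      rw [Set.mem_smul_set]
      constructor
      · rintro ⟨w, hw, rfl⟩
        change σ w ∈ W
        rw [hgb]
        exact W.add_mem (hW g hg w hw) hb
      · intro hy
        refine ⟨(g⁻¹ : V ≃ₗ[ZMod p] V) (y - b), hW g⁻¹ (G₀.inv_mem hg) _ (W.sub_mem hy hb), ?_⟩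
        change σ ((g⁻¹ : V ≃ₗ[ZMod p] V) (y - b)) = y
        rw [hgb]
        have : (g : V ≃ₗ[ZMod p] V) ((g⁻¹ : V ≃ₗ[ZMod p] V) (y - b)) = y - b := by
          change (g * g⁻¹) (y - b) = y - b
          rw [mul_inv_cancel]
          rfl
        rw [this]
        abel
    rcases hprim.isTrivialBlock_of_isBlock hblock with hsub | huniv
    · left
      rw [Submodule.eq_bot_iff]
      intro x hx
      exact hsub hx W.zero_mem
    · right
      rw [eq_top_iff]
      intro x _
      have : x ∈ (W : Set V) := by rw [huniv]; trivial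
      exact this
  · intro hirr
    apply MulAction.IsPreprimitive.of_isTrivialBlock_base (0 : V)
    intro B h0 hB
    have hsmul : ∀ (σ : G), σ.1 0 ∈ B → ∀ v ∈ B, σ.1 v ∈ B := by
      intro σ hσ0 v hv
      have := hB.smul_eq_of_mem h0 hσ0
      rw [← this]
      exact Set.smul_mem_smul_set hv
    have hadd : ∀ u ∈ B, ∀ v ∈ B, v + u ∈ B := by
      intro u hu v hv
      exact hsmul ⟨Equiv.addRight u, htransl u⟩ (by change 0 + u ∈ B; rwa [zero_add]) v hv
    have hneg : ∀ u ∈ B, -u ∈ B := by
      intro u hu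
      have := hB.smul_eq_of_mem (g := (⟨Equiv.addRight u, htransl u⟩ : G)) h0
        (by change 0 + u ∈ B; rwa [zero_add])
      have h0' : (0 : V) ∈ (⟨Equiv.addRight u, htransl u⟩ : G) • B := by rw [this]; exact h0
      obtain ⟨v, hv, hvu⟩ := Set.mem_smul_set.mp h0'
      have hvu' : v + u = 0 := hvu
      have : v = -u := eq_neg_of_add_eq_zero_left hvu'
      rw [← this]
      exact hv
    let A : AddSubgroup V :=
      { carrier := B
        add_mem' := fun {a b} ha hb => hadd b hb a ha
        zero_mem' := h0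
        neg_mem' := fun {a} ha => hneg a ha }
    have hinv : ∀ g ∈ G₀, ∀ v ∈ AddSubgroup.toZModSubmodule p A, (g : V ≃ₗ[ZMod p] V) v ∈ AddSubgroup.toZModSubmodule p A := by
      intro g hg v hv
      exact hsmul ⟨(g : V ≃ₗ[ZMod p] V).toEquiv, hlin g hg⟩ (by change (g : V ≃ₗ[ZMod p] V) 0 ∈ B; rwa [map_zero]) v hv
    rcases hirr _ hinv with hbot | htop
    · left
      intro x hx y hy
      have hx' : x ∈ AddSubgroup.toZModSubmodule p A := hx
      have hy' : y ∈ AddSubgroup.toZModSubmodule p A := hy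
      rw [hbot, Submodule.mem_bot] at hx' hy'
      rw [hx', hy']
    · right
      rw [Set.eq_univ_iff_forall]
      intro x
      have : x ∈ AddSubgroup.toZModSubmodule p A := by rw [htop]; trivial
      exact this

end Cfsg.Agent.S0733
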