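import Cfsg.Statements.S0734
import Mathlib

set_option autoImplicit false
open Cfsg

namespace Cfsg.Agent.S0734

open scoped Pointwise

theorem adj_smul {G : Type*} [Group G] {Ω : Type*} [MulAction G Ω] (a b : Ω) (g : G) (u v : Ω)
    (h : (SimpleGraph.fromRel fun x y : Ω => ∃ g : G, g • a = x ∧ g • b = y).Adj u v) :
    (SimpleGraph.fromRel fun x y : Ω => ∃ g : G, g • a = x ∧ g • b = y).Adj (g • u) (g • v) := by
  rw [SimpleGraph.fromRel_adj] at h ⊢
  obtain ⟨hne, hr⟩ := h
  refine ⟨fun h => hne (MulAction.injective g h), ?_⟩
  rcases hr with ⟨k, hk1, hk2⟩ | ⟨k, hk1, hk2⟩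
  · left
    exact ⟨g * k, by rw [mul_smul, hk1], by rw [mul_smul, hk2]⟩
  · right
    exact ⟨g * k, by rw [mul_smul, hk1], by rw [mul_smul, hk2]⟩

theorem reach_smul {G : Type*} [Group G] {Ω : Type*} [MulAction G Ω] (a b : Ω) (g : G) (u v : Ω)
    (h : (SimpleGraph.fromRel fun x y : Ω => ∃ g : G, g • a = x ∧ g • b = y).Reachable u v) :
    (SimpleGraph.fromRel fun x y : Ω => ∃ g : G, g • a = x ∧ g • b = y).Reachable (g • u) (g • v) := by
  rw [SimpleGraph.reachable_iff_reflTransGen] at h ⊢
  induction h with
  | refl => exact Relation.ReflTransGen.refl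
  | tail _ hadj ih => exact Relation.ReflTransGen.tail ih (adj_smul a b g _ _ hadj)

/-- Higman's criterion for primitivity: a transitive action on a finite set is primitive if and only if every non-trivial orbital graph (edges = images of a fixed pair of distinct points) is connected. -/
theorem result {G : Type*} [Group G] {Ω : Type*} [Finite Ω] [MulAction G Ω] [MulAction.IsPretransitive G Ω] [Nontrivial Ω] : MulAction.IsPreprimitive G Ω ↔ ∀ a b : Ω, a ≠ b → (SimpleGraph.fromRel fun x y : Ω => ∃ g : G, g • a = x ∧ g • b = y).Connected := by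
  constructor
  · intro hprim a b hab
    set Γ := SimpleGraph.fromRel fun x y : Ω => ∃ g : G, g • a = x ∧ g • b = y with hΓ
    have hblock : MulAction.IsBlock G {x : Ω | Γ.Reachable a x} := by
      rw [MulAction.isBlock_iff_smul_eq_of_mem]
      intro g x hx hgx
      have hx' : Γ.Reachable a x := hx
      have hgx' : Γ.Reachable a (g • x) := hgx
      have h1 : Γ.Reachable (g • a) (g • x) := reach_smul a b g a x hx'
      have h2 : Γ.Reachable a (g • a) := hgx'.trans h1.symm
      ext y
      rw [Set.mem_smul_set_iff_inv_smul_mem]
      change Γ.Reachable a (g⁻¹ • y) ↔ Γ.Reachable a y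
      constructor
      · intro h
        have := reach_smul a b g _ _ h
        rw [smul_inv_smul] at this
        exact h2.trans this
      · intro h
        have h3 : Γ.Reachable (g • a) y := h2.symm.trans h
        have := reach_smul a b g⁻¹ _ _ h3
        rw [inv_smul_smul] at this
        exact this
    have hab' : Γ.Adj a b := by
      rw [hΓ, SimpleGraph.fromRel_adj]
      exact ⟨hab, Or.inl ⟨1, one_smul _ _, one_smul _ _⟩⟩
    rcases hprim.isTrivialBlock_of_isBlock hblock with hsub | huniv
    · exfalso
      apply hab
      exact hsub (SimpleGraph.Reachable.refl a) hab'.reachable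
    · have hall : ∀ x, Γ.Reachable a x := by
        intro x
        have : x ∈ {x : Ω | Γ.Reachable a x} := by rw [huniv]; trivial
        exact this
      exact { preconnected := fun u v => (hall u).symm.trans (hall v), nonempty := ⟨a⟩ }
  · intro hconn
    obtain ⟨a⟩ : Nonempty Ω := inferInstance
    apply MulAction.IsPreprimitive.of_isTrivialBlock_base a
    intro B haB hB
    by_cases hsub : B.Subsingleton
    · exact Or.inl hsub
    · right
      have hex : ∃ b ∈ B, b ≠ a := by
        by_contra hne
        push Not at hne
        apply hsub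
        intro x hx y hy
        rw [hne x hx, hne y hy]
      obtain ⟨b, hbB, hba⟩ := hex
      have hc := hconn a b (Ne.symm hba)
      rw [Set.eq_univ_iff_forall]
      intro y
      have hr := hc.preconnected a y
      rw [SimpleGraph.reachable_iff_reflTransGen] at hr
      induction hr with
      | refl => exact haB
      | tail _ hadj ih =>
        rw [SimpleGraph.fromRel_adj] at hadj
        obtain ⟨-, hr⟩ := hadj
        rcases hr with ⟨g, hg1, hg2⟩ | ⟨g, hg1, hg2⟩
        · have hgB : g • B = B := hB.smul_eq_of_mem haB (by rw [hg1]; exact ih)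
          rw [← hgB, ← hg2]
          exact Set.smul_mem_smul_set hbB
        · have hgB : g • B = B := hB.smul_eq_of_mem hbB (by rw [hg2]; exact ih)
          rw [← hgB, ← hg1]
          exact Set.smul_mem_smul_set haB

end Cfsg.Agent.S0734
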