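import Cfsg.Statements.S0735
import Mathlib

set_option autoImplicit false
open Cfsg

namespace Cfsg.Agent.S0735

open scoped Pointwise

theorem pair_trans {α : Type*} [DecidableEq α] {G : Type*} [Group G] [MulAction G α]
    (h2 : MulAction.IsPretransitive G (Set.powersetCard α 2)) (x y a b : α) (hxy : x ≠ y)
    (hab : a ≠ b) : ∃ g : G, (g • x = a ∧ g • y = b) ∨ (g • x = b ∧ g • y = a) := by
  have hs : ({x, y} : Finset α).card = 2 := Finset.card_pair hxy
  have ht : ({a, b} : Finset α).card = 2 := Finset.card_pair hab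
  obtain ⟨g, hg⟩ := MulAction.exists_smul_eq G (Set.powersetCard.ofCard hs) (Set.powersetCard.ofCard ht)
  have hg' : g • ({x, y} : Finset α) = {a, b} := by
    have := congrArg Subtype.val hg
    rw [Set.powersetCard.coe_smul] at this
    exact this
  refine ⟨g, ?_⟩
  have hgx : g • x ∈ ({a, b} : Finset α) := by
    rw [← hg']; exact Finset.smul_mem_smul_finset (by simp)
  have hgy : g • y ∈ ({a, b} : Finset α) := by
    rw [← hg']; exact Finset.smul_mem_smul_finset (by simp)
  have hne : g • x ≠ g • y := fun h => hxy (MulAction.injective g h)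
  rw [Finset.mem_insert, Finset.mem_singleton] at hgx hgy
  rcases hgx with h1 | h1 <;> rcases hgy with h3 | h3
  · exact absurd (h1.trans h3.symm) hne
  · exact Or.inl ⟨h1, h3⟩
  · exact Or.inr ⟨h1, h3⟩
  · exact absurd (h1.trans h3.symm) hne

/-- A 2-homogeneous permutation group (transitive on 2-subsets) of even order is doubly transitive; a non-trivial 2-homogeneous group is primitive. -/
theorem result {α : Type*} [Fintype α] [DecidableEq α] (G : Subgroup (Equiv.Perm α)) (h2 : MulAction.IsPretransitive G (Set.powersetCard α 2)) (hα : 3 ≤ Fintype.card α) : (Even (Nat.card G) → MulAction.IsMultiplyPretransitive G α 2) ∧ (G ≠ ⊥ → MulAction.IsPreprimitive G α) := by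
  constructor
  · intro heven
    haveI : Fact (Nat.Prime 2) := ⟨Nat.prime_two⟩
    obtain ⟨t, ht⟩ := exists_prime_orderOf_dvd_card' (G := G) 2 heven.two_dvd
    have ht1 : t ≠ 1 := by
      rintro rfl
      rw [orderOf_one] at ht
      omega
    have ht2 : t * t = 1 := by
      rw [← sq, ← ht]; exact pow_orderOf_eq_one t
    obtain ⟨x, hx⟩ : ∃ x : α, t • x ≠ x := by
      by_contra hne
      push Not at hne
      apply ht1
      apply Subtype.ext
      ext z
      exact hne z
    set y := t • x with hy
    have hty : t • y = x := by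
      rw [hy, ← mul_smul, ht2, one_smul]
    have hxy : x ≠ y := Ne.symm hx
    have hmove : ∀ a b : α, a ≠ b → ∃ h : G, h • x = a ∧ h • y = b := by
      intro a b hab
      obtain ⟨g, hg | hg⟩ := pair_trans h2 x y a b hxy hab
      · exact ⟨g, hg⟩
      · refine ⟨g * t, ?_, ?_⟩
        · rw [mul_smul, ← hy]; exact hg.2
        · rw [mul_smul, hty]; exact hg.1
    rw [MulAction.is_two_pretransitive_iff]
    intro a b c d hab hcd
    obtain ⟨h1, h1x, h1y⟩ := hmove a b hab
    obtain ⟨h2', h2x, h2y⟩ := hmove c d hcd
    refine ⟨h2' * h1⁻¹, ?_, ?_⟩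
    · rw [mul_smul, ← h1x, inv_smul_smul, h2x]
    · rw [mul_smul, ← h1y, inv_smul_smul, h2y]
  · intro _
    have hex3 : ∀ a b : α, ∃ c : α, c ≠ a ∧ c ≠ b := by
      intro a b
      by_contra hne
      push Not at hne
      have : (Finset.univ : Finset α) ⊆ {a, b} := by
        intro c _
        rw [Finset.mem_insert, Finset.mem_singleton]
        by_cases hca : c = a
        · exact Or.inl hca
        · exact Or.inr (hne c hca)
      have h1 := Finset.card_le_card this
      have h2 : ({a, b} : Finset α).card ≤ 2 := Finset.card_le_two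
      rw [Finset.card_univ] at h1
      omega
    haveI htr : MulAction.IsPretransitive G α := by
      refine ⟨fun a b => ?_⟩
      by_cases hab : a = b
      · exact ⟨1, by rw [one_smul, hab]⟩
      · obtain ⟨c, hca, hcb⟩ := hex3 a b
        obtain ⟨g1, hg1 | hg1⟩ := pair_trans h2 a c a b (Ne.symm hca) hab
        · obtain ⟨g2, hg2 | hg2⟩ := pair_trans h2 a c b c (Ne.symm hca) (Ne.symm hcb)
          · exact ⟨g2, hg2.1⟩
          · exact ⟨g1 * g2, by rw [mul_smul, hg2.1, hg1.2]⟩
        · exact ⟨g1, hg1.1⟩
    refine { toIsPretransitive := htr, isTrivialBlock_of_isBlock := ?_ }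
    intro B hB
    by_cases hsub : B.Subsingleton
    · exact Or.inl hsub
    · right
      rw [Set.not_subsingleton_iff] at hsub
      obtain ⟨x, hx, y, hy, hxy⟩ := hsub
      rw [Set.eq_univ_iff_forall]
      intro z
      by_cases hzx : z = x
      · rw [hzx]; exact hx
      · obtain ⟨g, hg | hg⟩ := pair_trans h2 x y x z hxy (Ne.symm hzx)
        · have hgB : g • B = B := hB.smul_eq_of_mem hx (by rw [hg.1]; exact hx)
          rw [← hgB, ← hg.2]
          exact Set.smul_mem_smul_set hy
        · have hgB : g • B = B := hB.smul_eq_of_mem hy (by rw [hg.2]; exact hx)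
          rw [← hgB, ← hg.1]
          exact Set.smul_mem_smul_set hx

end Cfsg.Agent.S0735
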