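import Cfsg.Statements.S0753
-- import your own Cfsg.Agent.* helpers here

set_option autoImplicit false
open Cfsg

namespace Cfsg.Agent.S0753

/-- If σ is a ring endomorphism of the field F other than the identity and B is a σ-sesquilinear conjugate-symmetric form with B v v = 0 for every v, then B = 0. -/
theorem result {F V : Type*} [Field F] [AddCommGroup V] [Module F V] (σ : F →+* F) (hσ : σ ≠ RingHom.id F) (B : V →ₛₗ[σ] V →ₗ[F] F) (hS : B.IsSymm) (h0 : ∀ v : V, B v v = 0) : B = 0 := by
  by_contra hB
  have hex : ∃ u v : V, B u v ≠ 0 := by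
    by_contra hne
    push Not at hne
    apply hB
    ext u v
    simpa using hne u v
  obtain ⟨u, v, huv⟩ := hex
  have hanti : ∀ x y : V, B x y + B y x = 0 := by
    intro x y
    have h := h0 (x + y)
    simp only [map_add, LinearMap.add_apply, h0, zero_add, add_zero] at h
    rw [add_comm]; exact h
  apply hσ
  ext a
  have h1 : σ (B u (a • v)) = B (a • v) u := hS.eq u (a • v)
  have h2 : σ (B u v) = B v u := hS.eq u v
  have h3 := hanti u v
  have h4 := hanti u (a • v)
  have h5 : B v u = -B u v := by
    rw [eq_neg_iff_add_eq_zero, add_comm]; exact h3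
  have h7 : B (a • v) u = -B u (a • v) := by
    rw [eq_neg_iff_add_eq_zero, add_comm]; exact h4
  rw [h7] at h1
  simp only [map_smul, smul_eq_mul] at h1
  rw [map_mul, h2, h5] at h1
  have h6 : σ a * B u v = a * B u v := by
    have := h1
    simp only [mul_neg, neg_inj] at this
    exact this
  simpa using mul_right_cancel₀ huv h6

end Cfsg.Agent.S0753
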