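import Cfsg.Statements.S0754
import Mathlib

set_option autoImplicit false
open Cfsg

namespace Cfsg.Agent.S0754

theorem fiber_card {G : Type*} [CommGroup G] (d : ℕ) (a x0 : G) (h : x0 ^ d = a) :
    Nat.card {u : G // u ^ d = a} = Nat.card (powMonoidHom d : G →* G).ker := by
  apply Nat.card_congr
  exact
    { toFun := fun u => ⟨x0⁻¹ * u.1, by
          rw [MonoidHom.mem_ker, powMonoidHom_apply, mul_pow, u.2, inv_pow, h]
          exact inv_mul_cancel _⟩
      invFun := fun y => ⟨x0 * y.1, by
          have := y.2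
          rw [MonoidHom.mem_ker, powMonoidHom_apply] at this
          rw [mul_pow, this, mul_one, h]⟩
      left_inv := fun u => by simp
      right_inv := fun y => by simp }

theorem units_fiber {F : Type*} [Field F] (d : ℕ) (hd : d ≠ 0) (μ : F) (hμ : μ ≠ 0) :
    Nat.card {x : F // x ^ d = μ} = Nat.card {u : Fˣ // u ^ d = Units.mk0 μ hμ} := by
  apply Nat.card_congr
  exact
    { toFun := fun x => ⟨Units.mk0 x.1 (by
          intro h
          have := x.2
          rw [h, zero_pow hd] at this
          exact hμ this.symm), by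
          apply Units.ext
          rw [Units.val_pow_eq_pow_val, Units.val_mk0, Units.val_mk0]
          exact x.2⟩
      invFun := fun u => ⟨u.1.1, by
          have := congrArg Units.val u.2
          rw [Units.val_pow_eq_pow_val, Units.val_mk0] at this
          exact this⟩
      left_inv := fun x => by simp
      right_inv := fun u => by
        apply Subtype.ext
        apply Units.ext
        simp }

/-- In a field F with q^2 elements, every non-zero μ with μ^q = μ (that is, μ in the subfield of order q) has exactly q + 1 solutions λ of λ^(q+1) = μ. -/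
theorem result {F : Type*} [Field F] [Fintype F] {q : ℕ} (hF : Fintype.card F = q ^ 2) (μ : F) (hμ : μ ≠ 0) (hμq : μ ^ q = μ) : Nat.card {x : F // x ^ (q + 1) = μ} = q + 1 := by
  classical
  have hq2 : 2 ≤ q := by
    have h1 : 1 < Fintype.card F := Fintype.one_lt_card
    rw [hF] at h1
    by_contra h
    have : q ≤ 1 := by omega
    have : q ^ 2 ≤ 1 := by nlinarith
    omega
  obtain ⟨k, rfl⟩ : ∃ k, q = k + 1 := ⟨q - 1, by omega⟩
  have hcardU : Nat.card Fˣ = k * (k + 2) := by
    rw [Nat.card_eq_fintype_card, Fintype.card_units, hF]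
    have : (k + 1) ^ 2 = k * (k + 2) + 1 := by ring
    omega
  have hk1 : 1 ≤ k := by omega
  have hcardK : Nat.card (powMonoidHom k : Fˣ →* Fˣ).ker = k := by
    rw [IsCyclic.card_powMonoidHom_ker, hcardU]
    exact Nat.gcd_eq_right (Dvd.intro _ rfl)
  have hcardR : Nat.card (powMonoidHom (k + 1 + 1) : Fˣ →* Fˣ).range = k := by
    rw [IsCyclic.card_powMonoidHom_range, hcardU]
    have : (k * (k + 2)).gcd (k + 1 + 1) = k + 2 := Nat.gcd_eq_right (Dvd.intro_left _ rfl)
    rw [this]
    exact Nat.mul_div_cancel _ (by omega)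
  have hle : (powMonoidHom (k + 1 + 1) : Fˣ →* Fˣ).range ≤ (powMonoidHom k : Fˣ →* Fˣ).ker := by
    rintro _ ⟨x, rfl⟩
    rw [MonoidHom.mem_ker, powMonoidHom_apply, powMonoidHom_apply, ← pow_mul,
      show (k + 1 + 1) * k = k * (k + 2) by ring, ← hcardU]
    exact pow_card_eq_one'
  have heq : (powMonoidHom (k + 1 + 1) : Fˣ →* Fˣ).range = (powMonoidHom k : Fˣ →* Fˣ).ker := by
    apply Subgroup.eq_of_le_of_card_ge hle
    rw [hcardK, hcardR]
  have hμK : Units.mk0 μ hμ ∈ (powMonoidHom k : Fˣ →* Fˣ).ker := by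
    rw [MonoidHom.mem_ker, powMonoidHom_apply]
    apply Units.ext
    rw [Units.val_pow_eq_pow_val, Units.val_one, Units.val_mk0]
    have h1 : μ ^ k * μ = μ := by rw [← pow_succ]; exact hμq
    have h2 : μ ^ k * μ = 1 * μ := by rw [h1, one_mul]
    exact mul_right_cancel₀ hμ h2
  rw [← heq] at hμK
  obtain ⟨x0, hx0⟩ := hμK
  rw [units_fiber (k + 1 + 1) (by omega) μ hμ, fiber_card (k + 1 + 1) _ x0 hx0,
    IsCyclic.card_powMonoidHom_ker, hcardU]
  exact Nat.gcd_eq_right (Dvd.intro_left _ rfl)

end Cfsg.Agent.S0754
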