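import Cfsg.Statements.S0757
import Mathlib

set_option autoImplicit false
open Cfsg

namespace Cfsg.Agent.S0757

theorem gram_wss {F : Type*} [Field F] {ι : Type*} [Fintype ι] [DecidableEq ι] (w : ι → F) :
    LinearMap.BilinForm.toMatrix' (QuadraticMap.polarBilin (QuadraticMap.weightedSumSquares F w))
      = Matrix.diagonal (fun i => 2 * w i) := by
  ext i j
  rw [LinearMap.BilinForm.toMatrix'_apply, QuadraticMap.polarBilin_apply_apply, QuadraticMap.polar,
    QuadraticMap.weightedSumSquares_apply, QuadraticMap.weightedSumSquares_apply,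
    QuadraticMap.weightedSumSquares_apply, ← Finset.sum_sub_distrib, ← Finset.sum_sub_distrib,
    Matrix.diagonal_apply]
  by_cases hij : i = j
  · subst hij
    rw [if_pos rfl, Finset.sum_eq_single i]
    · simp; ring
    · intro k _ hk
      simp [Pi.single_apply, hk]
    · intro h; exact absurd (Finset.mem_univ i) h
  · rw [if_neg hij]
    apply Finset.sum_eq_zero
    intro k _
    by_cases hki : k = i
    · subst hki
      have : k ≠ j := hij
      simp [Pi.single_apply, this]
    · by_cases hkj : k = j
      · subst hkj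
        simp [Pi.single_apply, hki]
      · simp [Pi.single_apply, hki, hkj]

/-- The two diagonal forms Σ x_i^2 and Σ_(i<n) x_i^2 + α x_n^2 on F^(n+1), with α a non-square and 2 ≠ 0 in F, are inequivalent quadratic forms (so over a finite field of odd order there are exactly two classes of non-singular symmetric bilinear forms in each dimension). -/
theorem result {F : Type*} [Field F] (h2 : (2 : F) ≠ 0) (n : ℕ) (α : F) (hα : ¬ IsSquare α) : ¬ (QuadraticMap.weightedSumSquares F (fun _ : Fin (n + 1) => (1 : F))).Equivalent (QuadraticMap.weightedSumSquares F (fun i : Fin (n + 1) => if i = Fin.last n then α else (1 : F))) := by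
  rintro ⟨e⟩
  set Q₁ := QuadraticMap.weightedSumSquares F (fun _ : Fin (n + 1) => (1 : F)) with hQ₁
  set Q₂ := QuadraticMap.weightedSumSquares F (fun i : Fin (n + 1) => if i = Fin.last n then α else (1 : F)) with hQ₂
  set f : (Fin (n + 1) → F) →ₗ[F] (Fin (n + 1) → F) := e.toLinearEquiv.toLinearMap with hf
  have hfQ : ∀ x, Q₂ (f x) = Q₁ x := fun x => e.map_app x
  set B₁ : LinearMap.BilinForm F (Fin (n + 1) → F) := QuadraticMap.polarBilin Q₁ with hB₁
  set B₂ : LinearMap.BilinForm F (Fin (n + 1) → F) := QuadraticMap.polarBilin Q₂ with hB₂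
  have hcomp : LinearMap.BilinForm.comp B₂ f f = B₁ := by
    apply LinearMap.ext
    intro x
    apply LinearMap.ext
    intro y
    rw [LinearMap.BilinForm.comp_apply, hB₁, hB₂,
      QuadraticMap.polarBilin_apply_apply, QuadraticMap.polarBilin_apply_apply]
    unfold QuadraticMap.polar
    rw [← map_add, hfQ, hfQ, hfQ]
  have hM := LinearMap.BilinForm.toMatrix'_comp B₂ f f
  rw [hcomp, hB₁, hB₂, hQ₁, hQ₂, gram_wss, gram_wss] at hM
  have hdet := congrArg Matrix.det hM
  rw [Matrix.det_mul, Matrix.det_mul, Matrix.det_transpose, Matrix.det_diagonal,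
    Matrix.det_diagonal] at hdet
  have hprod : ∏ i : Fin (n + 1), (2 * (if i = Fin.last n then α else (1 : F)))
      = (∏ _i : Fin (n + 1), (2 * (1 : F))) * α := by
    rw [Finset.prod_mul_distrib, Finset.prod_mul_distrib, Finset.prod_ite_eq' Finset.univ (Fin.last n)]
    simp
  rw [hprod] at hdet
  set d := (LinearMap.toMatrix' f).det with hd
  have h2n : (∏ _i : Fin (n + 1), (2 * (1 : F))) ≠ 0 := by
    rw [Finset.prod_const]
    exact pow_ne_zero _ (by simpa using h2)
  have h1 : 1 = d * d * α := by
    have : (∏ _i : Fin (n + 1), (2 * (1 : F))) * 1 = (∏ _i : Fin (n + 1), (2 * (1 : F))) * (d * d * α) := by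
      rw [mul_one]
      calc (∏ _i : Fin (n + 1), (2 * (1 : F))) = d * ((∏ _i : Fin (n + 1), (2 * (1 : F))) * α) * d := hdet
        _ = (∏ _i : Fin (n + 1), (2 * (1 : F))) * (d * d * α) := by ring
    exact mul_left_cancel₀ h2n this
  have hd0 : d ≠ 0 := by
    rintro h0
    rw [h0] at h1
    simp at h1
  apply hα
  refine ⟨d⁻¹, ?_⟩
  field_simp
  linear_combination -h1

end Cfsg.Agent.S0757
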