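import Cfsg.Statements.S0758
import Mathlib
-- import your own Cfsg.Agent.* helpers here

set_option autoImplicit false
open Cfsg

namespace Cfsg.Agent.S0758

/-- For a finite field F of odd order q and a non-square α: the form x² + y² is isotropic iff q ≡ 1 mod 4, and the form x² + α y² is isotropic iff q ≡ 3 mod 4. -/
theorem result {F : Type*} [Field F] [Fintype F] (h2 : (2 : F) ≠ 0) (α : F) (hα : ¬ IsSquare α) : ((∃ x y : F, (x ≠ 0 ∨ y ≠ 0) ∧ x ^ 2 + y ^ 2 = 0) ↔ Fintype.card F % 4 = 1) ∧ ((∃ x y : F, (x ≠ 0 ∨ y ≠ 0) ∧ x ^ 2 + α * y ^ 2 = 0) ↔ Fintype.card F % 4 = 3) := by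
  classical
  have hchar : ringChar F ≠ 2 := by
    intro h
    apply h2
    have : CharP F 2 := by rw [← h]; exact ringChar.charP F
    exact CharTwo.two_eq_zero
  have hodd := FiniteField.odd_card_of_char_ne_two hchar
  have hsq := FiniteField.isSquare_neg_one_iff (F := F)
  have key1 : (∃ x y : F, (x ≠ 0 ∨ y ≠ 0) ∧ x ^ 2 + y ^ 2 = 0) ↔ IsSquare (-1 : F) := by
    constructor
    · rintro ⟨x, y, hxy, h⟩
      have hy : y ≠ 0 := by
        rcases hxy with hx | hy
        · intro hy
          apply hx
          rw [hy] at h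
          simpa using h
        · exact hy
      refine ⟨x / y, ?_⟩
      field_simp
      linear_combination -h
    · rintro ⟨r, hr⟩
      refine ⟨r, 1, Or.inr one_ne_zero, ?_⟩
      linear_combination -hr
  have hα0 : α ≠ 0 := by
    rintro rfl
    exact hα ⟨0, by simp⟩
  have key2 : (∃ x y : F, (x ≠ 0 ∨ y ≠ 0) ∧ x ^ 2 + α * y ^ 2 = 0) ↔ ¬ IsSquare (-1 : F) := by
    have hχα : quadraticChar F α = -1 := quadraticChar_neg_one_iff_not_isSquare.mpr hα
    constructor
    · rintro ⟨x, y, hxy, h⟩ hneg
      have hy : y ≠ 0 := by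
        rcases hxy with hx | hy
        · intro hy
          apply hx
          rw [hy] at h
          simpa using h
        · exact hy
      apply hα
      obtain ⟨r, hr⟩ := hneg
      refine ⟨r * (x / y), ?_⟩
      have : α = -(x/y)^2 := by
        field_simp
        linear_combination h
      rw [this]
      linear_combination (x/y)^2 * hr
    · intro hneg
      have hχ : quadraticChar F (-1) = -1 := quadraticChar_neg_one_iff_not_isSquare.mpr hneg
      have hχ2 : quadraticChar F (-α) = 1 := by
        have : (-α) = (-1) * α := by ring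
        rw [this, map_mul, hχ, hχα]; norm_num
      have hnα : -α ≠ 0 := neg_ne_zero.mpr hα0
      obtain ⟨r, hr⟩ := (quadraticChar_one_iff_isSquare hnα).mp hχ2
      refine ⟨r, 1, Or.inr one_ne_zero, ?_⟩
      linear_combination -hr
  rw [key1, key2, hsq]
  omega

end Cfsg.Agent.S0758
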