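import Cfsg.Statements.S0759
import Mathlib
import Cfsg.Agent.S0756

set_option autoImplicit false
open Cfsg

namespace Cfsg.Agent.S0759

open Matrix

variable {F : Type*} [Field F]

theorem det_swapBlock (m : ℕ) :
    (fromBlocks (0 : Matrix (Fin m) (Fin m) F) (1 : Matrix (Fin m) (Fin m) F) (1 : Matrix (Fin m) (Fin m) F) (0 : Matrix (Fin m) (Fin m) F)).det = (-1) ^ m := by
  have h1 : fromBlocks (0 : Matrix (Fin m) (Fin m) F) (1 : Matrix (Fin m) (Fin m) F) (1 : Matrix (Fin m) (Fin m) F) (0 : Matrix (Fin m) (Fin m) F)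
      = Matrix.J (Fin m) F * fromBlocks (1 : Matrix (Fin m) (Fin m) F) (0 : Matrix (Fin m) (Fin m) F) (0 : Matrix (Fin m) (Fin m) F) (-1 : Matrix (Fin m) (Fin m) F) := by
    unfold Matrix.J
    rw [Matrix.fromBlocks_multiply]
    simp
  rw [h1, Matrix.det_mul, SymplecticGroup.det_eq_one (SymplecticGroup.J_mem (Fin m) F), one_mul,
    Matrix.det_fromBlocks_zero₂₁, Matrix.det_one, one_mul, Matrix.det_neg, Matrix.det_one, mul_one,
    Fintype.card_fin]

theorem det_zero11 (m : ℕ) (B C D : Matrix (Fin m) (Fin m) F) :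
    (fromBlocks 0 B C D).det = (-1) ^ m * (B.det * C.det) := by
  have h1 : fromBlocks 0 B C D = fromBlocks B 0 D C * fromBlocks (0 : Matrix (Fin m) (Fin m) F) (1 : Matrix (Fin m) (Fin m) F) (1 : Matrix (Fin m) (Fin m) F) (0 : Matrix (Fin m) (Fin m) F) := by
    rw [Matrix.fromBlocks_multiply]
    simp
  rw [h1, Matrix.det_mul, det_swapBlock, Matrix.det_fromBlocks_zero₁₂]
  ring

theorem neg_one_pow_isSquare (h2 : (2 : F) ≠ 0) (m : ℕ) (W : Submodule F (Fin (2 * m) → F))
    (hW : Module.finrank F W = m) (hts : ∀ w ∈ W, ∑ i, w i ^ 2 = 0) : IsSquare ((-1 : F) ^ m) := by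
  classical
  have hdot : ∀ x ∈ W, ∀ y ∈ W, x ⬝ᵥ y = 0 := by
    intro x hx y hy
    have h1 := hts (x + y) (W.add_mem hx hy)
    have h3 : ∑ i, (x + y) i ^ 2 = ∑ i, x i ^ 2 + 2 * (x ⬝ᵥ y) + ∑ i, y i ^ 2 := by
      simp only [dotProduct, Finset.mul_sum, ← Finset.sum_add_distrib, Pi.add_apply]
      apply Finset.sum_congr rfl
      intro i _
      ring
    rw [h3, hts x hx, hts y hy] at h1
    have : 2 * (x ⬝ᵥ y) = 0 := by linear_combination h1
    exact (mul_eq_zero.mp this).resolve_left h2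
  obtain ⟨U, hc⟩ := Submodule.exists_isCompl W
  have hU : Module.finrank F U = m := by
    have := Submodule.finrank_add_eq_of_isCompl hc
    rw [hW, Module.finrank_fin_fun] at this
    omega
  let bW := Module.finBasisOfFinrankEq F W hW
  let bU := Module.finBasisOfFinrankEq F U hU
  let b : Module.Basis (Fin m ⊕ Fin m) F (Fin (2 * m) → F) :=
    (bW.prod bU).map (Submodule.prodEquivOfIsCompl W U hc)
  have hbl : ∀ i, b (Sum.inl i) = (bW i : Fin (2 * m) → F) := by
    intro i
    simp [b]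
  let e : Fin m ⊕ Fin m ≃ Fin (2 * m) := finSumFinEquiv.trans (finCongr (two_mul m).symm)
  let T : Matrix (Fin (2 * m)) (Fin m ⊕ Fin m) F := (Pi.basisFun F (Fin (2 * m))).toMatrix b
  let T' : Matrix (Fin m ⊕ Fin m) (Fin (2 * m)) F := b.toMatrix (Pi.basisFun F (Fin (2 * m)))
  have hTT' : T * T' = 1 := Module.Basis.toMatrix_mul_toMatrix_flip _ _
  have hT : ∀ k i, T k i = b i k := by
    intro k i
    simp [T, Module.Basis.toMatrix_apply]
  let Ts : Matrix (Fin m ⊕ Fin m) (Fin m ⊕ Fin m) F := T.submatrix e id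
  have hTs : Ts * (T'.submatrix id e) = 1 := by
    show T.submatrix e id * T'.submatrix id e = 1
    rw [← Matrix.submatrix_mul _ _ _ _ _ Function.bijective_id, hTT', Matrix.submatrix_one_equiv]
  have hdetTs : Ts.det ≠ 0 := by
    intro h0
    have := congrArg Matrix.det hTs
    rw [Matrix.det_mul, h0, zero_mul, Matrix.det_one] at this
    exact zero_ne_one this
  let G : Matrix (Fin m ⊕ Fin m) (Fin m ⊕ Fin m) F := Tᵀ * T
  have hG : ∀ i j, G i j = b i ⬝ᵥ b j := by
    intro i j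
    simp only [G, Matrix.mul_apply, Matrix.transpose_apply, hT, dotProduct]
  have hGs : G = Tsᵀ * Ts := by
    show Tᵀ * T = (T.submatrix e id)ᵀ * T.submatrix e id
    rw [Matrix.transpose_submatrix, ← Matrix.submatrix_mul _ _ _ _ _ e.bijective]
    simp
  have hdetG : G.det = Ts.det ^ 2 := by
    rw [hGs, Matrix.det_mul, Matrix.det_transpose]; ring
  have h11 : G.toBlocks₁₁ = 0 := by
    ext i j
    show G (Sum.inl i) (Sum.inl j) = 0
    rw [hG, hbl, hbl]
    exact hdot _ (bW i).2 _ (bW j).2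
  have h21 : G.toBlocks₂₁ = (G.toBlocks₁₂)ᵀ := by
    ext i j
    show G (Sum.inr i) (Sum.inl j) = G (Sum.inl j) (Sum.inr i)
    rw [hG, hG, dotProduct_comm]
  have hGb : G = fromBlocks 0 G.toBlocks₁₂ (G.toBlocks₁₂)ᵀ G.toBlocks₂₂ := by
    conv_lhs => rw [← Matrix.fromBlocks_toBlocks G, h11, h21]
  have hdetG' : G.det = (-1) ^ m * (G.toBlocks₁₂.det * G.toBlocks₁₂.det) := by
    conv_lhs => rw [hGb]
    rw [det_zero11, Matrix.det_transpose]
  have hB0 : G.toBlocks₁₂.det ≠ 0 := by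
    intro h0
    rw [h0, mul_zero, mul_zero] at hdetG'
    rw [hdetG'] at hdetG
    exact hdetTs (pow_eq_zero_iff (two_ne_zero) |>.mp hdetG.symm)
  refine ⟨Ts.det / G.toBlocks₁₂.det, ?_⟩
  have : (-1 : F) ^ m * (G.toBlocks₁₂.det * G.toBlocks₁₂.det) = Ts.det ^ 2 := by rw [← hdetG', hdetG]
  field_simp
  linear_combination this

theorem exists_of_map {ι κ : Type} [Fintype ι] [Fintype κ] [DecidableEq ι] (m : ℕ)
    (hι : Fintype.card ι = m) (e : Fin (2 * m) ≃ κ) (f : (ι → F) →ₗ[F] (κ → F))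
    (hf : Function.Injective f) (hq : ∀ c, ∑ k, (f c k) ^ 2 = 0) :
    ∃ W : Submodule F (Fin (2 * m) → F), Module.finrank F W = m ∧ ∀ w ∈ W, ∑ i, w i ^ 2 = 0 := by
  let g : (ι → F) →ₗ[F] (Fin (2 * m) → F) := (LinearEquiv.funCongrLeft F F e).toLinearMap ∘ₗ f
  have hg : Function.Injective g := (LinearEquiv.funCongrLeft F F e).injective.comp hf
  refine ⟨LinearMap.range g, ?_, ?_⟩
  · rw [LinearMap.finrank_range_of_inj hg, Module.finrank_fintype_fun_eq_card, hι]
  · rintro w ⟨c, rfl⟩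
    have : ∀ i, g c i = f c (e i) := fun i => rfl
    simp only [this]
    rw [Equiv.sum_comp e (fun k => f c k ^ 2)]
    exact hq c

theorem caseA (m : ℕ) (i : F) (hi : i * i = -1) :
    ∃ W : Submodule F (Fin (2 * m) → F), Module.finrank F W = m ∧ ∀ w ∈ W, ∑ i, w i ^ 2 = 0 := by
  let f : (Fin m → F) →ₗ[F] (Fin m × Fin 2 → F) :=
    LinearMap.pi (fun p : Fin m × Fin 2 => (if p.2 = 0 then (1 : F) else i) • LinearMap.proj p.1)
  have hfa : ∀ c p, f c p = (if p.2 = 0 then (1 : F) else i) * c p.1 := fun c p => by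
    simp only [f, LinearMap.pi_apply]
    split_ifs <;> simp
  apply exists_of_map m (by simp) ((finProdFinEquiv.trans (finCongr (mul_comm m 2))).symm) f
  · intro c c' h
    funext j
    have := congrFun h (j, 0)
    rw [hfa, hfa] at this
    simpa using this
  · intro c
    rw [Fintype.sum_prod_type]
    apply Finset.sum_eq_zero
    intro j _
    rw [Fin.sum_univ_two, hfa, hfa]
    simp only [Fin.isValue, if_true]
    have : ((1 : Fin 2) = 0) = False := by simp
    simp only [this, if_false]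
    linear_combination (c j ^ 2) * hi

theorem caseB (t : ℕ) (a b : F) (hab : a ^ 2 + b ^ 2 = -1) :
    ∃ W : Submodule F (Fin (2 * (2 * t)) → F), Module.finrank F W = 2 * t ∧ ∀ w ∈ W, ∑ i, w i ^ 2 = 0 := by
  let f : (Fin t × Fin 2 → F) →ₗ[F] (Fin t × Fin 4 → F) :=
    LinearMap.pi (fun p : Fin t × Fin 4 =>
      (![LinearMap.proj (p.1, 0), LinearMap.proj (p.1, 1),
        a • LinearMap.proj (p.1, 0) - b • LinearMap.proj (p.1, 1),
        b • LinearMap.proj (p.1, 0) + a • LinearMap.proj (p.1, 1)] : Fin 4 → ((Fin t × Fin 2 → F) →ₗ[F] F)) p.2)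
  have h0 : ∀ c j, f c (j, 0) = c (j, 0) := fun c j => by simp [f]
  have h1 : ∀ c j, f c (j, 1) = c (j, 1) := fun c j => by simp [f]
  have h2 : ∀ c j, f c (j, 2) = a * c (j, 0) - b * c (j, 1) := fun c j => by simp [f]
  have h3 : ∀ c j, f c (j, 3) = b * c (j, 0) + a * c (j, 1) := fun c j => by simp [f]
  apply exists_of_map (2 * t) (by simp [mul_comm]) ((finProdFinEquiv.trans (finCongr (by ring))).symm) f
  · intro c c' h
    funext p
    obtain ⟨j, s⟩ := p
    fin_cases s
    · have := congrFun h (j, 0)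
      rw [h0, h0] at this
      exact this
    · have := congrFun h (j, 1)
      rw [h1, h1] at this
      exact this
  · intro c
    rw [Fintype.sum_prod_type]
    apply Finset.sum_eq_zero
    intro j _
    rw [Fin.sum_univ_four, h0, h1, h2, h3]
    linear_combination (c (j, 0) ^ 2 + c (j, 1) ^ 2) * hab


theorem main {F : Type*} [Field F] [Fintype F] (h2 : (2 : F) ≠ 0) (m : ℕ) (hm : 1 ≤ m) :
    (∃ W : Submodule F (Fin (2 * m) → F), Module.finrank F W = m ∧ ∀ w ∈ W, ∑ i, w i ^ 2 = 0) ↔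
      ¬ (Fintype.card F % 4 = 3 ∧ Odd m) := by
  constructor
  · rintro ⟨W, hW, hts⟩ ⟨hq, hodd⟩
    have h := neg_one_pow_isSquare h2 m W hW hts
    rw [hodd.neg_one_pow] at h
    exact (FiniteField.isSquare_neg_one_iff.mp h) hq
  · intro h
    by_cases hq : Fintype.card F % 4 = 3
    · have hev : ¬ Odd m := fun ho => h ⟨hq, ho⟩
      rw [Nat.not_odd_iff_even] at hev
      obtain ⟨t, rfl⟩ := hev
      obtain ⟨a, b, hab⟩ := Cfsg.Agent.S0756.rep_one h2 (-1) (-1) (by simp) (by simp)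
      have ht : t + t = 2 * t := by ring
      rw [ht]
      exact caseB t a b (by linear_combination (-1 : F) * hab)
    · obtain ⟨i, hi⟩ := FiniteField.isSquare_neg_one_iff.mpr hq
      exact caseA m i hi.symm


/-- Type of the orthonormal form: over a finite field of odd order q and for m ≥ 1, the quadratic form Σ_(i<2m) x_i² on F^(2m) admits an m-dimensional subspace on which it vanishes identically if and only if it is not the case that q ≡ 3 (mod 4) and m is odd. -/
theorem result {F : Type*} [Field F] [Fintype F] (h2 : (2 : F) ≠ 0) (m : ℕ) (hm : 1 ≤ m) : (∃ W : Submodule F (Fin (2 * m) → F), Module.finrank F W = m ∧ ∀ w ∈ W, ∑ i, w i ^ 2 = 0) ↔ ¬ (Fintype.card F % 4 = 3 ∧ Odd m) := by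
  exact main h2 m hm

end Cfsg.Agent.S0759
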