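import Cfsg.Statements.S0760
import Mathlib

set_option autoImplicit false
open Cfsg

namespace Cfsg.Agent.S0760

variable {F V : Type*} [Field F] [AddCommGroup V] [Module F V]

theorem polar_zero_of_ts (Q : QuadraticForm F V) (W : Submodule F V) (h : ∀ w ∈ W, Q w = 0)
    (x y : V) (hx : x ∈ W) (hy : y ∈ W) : QuadraticMap.polar Q x y = 0 := by
  unfold QuadraticMap.polar
  rw [h _ (W.add_mem hx hy), h x hx, h y hy]; ring

theorem le_of_max [FiniteDimensional F V] (Q : QuadraticForm F V) (W₁ W₂ : Submodule F V)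
    (h₁ : ∀ w ∈ W₁, Q w = 0) (h₂ : ∀ w ∈ W₂, Q w = 0)
    (hmax₁ : ∀ W : Submodule F V, W₁ ≤ W → (∀ w ∈ W, Q w = 0) → W = W₁) :
    Module.finrank F W₂ ≤ Module.finrank F W₁ := by
  let f : W₂ →ₗ[F] Module.Dual F W₁ := (QuadraticMap.polarBilin Q).domRestrict₁₂ W₂ W₁
  have hf : ∀ (w : W₂) (u : W₁), f w u = QuadraticMap.polar Q (w : V) (u : V) := fun w u => rfl
  let D₁ : Submodule F W₁ := Submodule.comap W₁.subtype (W₁ ⊓ W₂)
  let D₂ : Submodule F W₂ := Submodule.comap W₂.subtype (W₁ ⊓ W₂)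
  have hD₁ : Module.finrank F D₁ = Module.finrank F ↥(W₁ ⊓ W₂) :=
    LinearEquiv.finrank_eq (Submodule.comapSubtypeEquivOfLe inf_le_left)
  have hD₂ : Module.finrank F D₂ = Module.finrank F ↥(W₁ ⊓ W₂) :=
    LinearEquiv.finrank_eq (Submodule.comapSubtypeEquivOfLe inf_le_right)
  have hker : LinearMap.ker f ≤ D₂ := by
    intro w hw
    rw [LinearMap.mem_ker] at hw
    have hwu : ∀ u ∈ W₁, QuadraticMap.polar Q (w : V) u = 0 := by
      intro u hu
      have := congrArg (fun φ => φ ⟨u, hu⟩) hw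
      simpa [hf] using this
    have hts : ∀ x ∈ W₁ ⊔ Submodule.span F {(w : V)}, Q x = 0 := by
      intro x hx
      obtain ⟨u, hu, z, hz, rfl⟩ := Submodule.mem_sup.mp hx
      obtain ⟨c, rfl⟩ := Submodule.mem_span_singleton.mp hz
      have hexp : Q (u + c • (w : V)) = Q u + Q (c • (w : V)) + QuadraticMap.polar Q u (c • (w : V)) := by
        unfold QuadraticMap.polar; ring
      rw [hexp, h₁ u hu, QuadraticMap.map_smul, h₂ _ w.2, QuadraticMap.polar_smul_right,
        QuadraticMap.polar_comm, hwu u hu]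
      simp
    have := hmax₁ _ le_sup_left hts
    have hw1 : (w : V) ∈ W₁ := by
      rw [← this]
      exact Submodule.mem_sup_right (Submodule.mem_span_singleton_self _)
    exact ⟨hw1, w.2⟩
  have hrange : LinearMap.range f ≤ D₁.dualAnnihilator := by
    rintro φ ⟨w, rfl⟩
    rw [Submodule.mem_dualAnnihilator]
    intro d hd
    rw [hf]
    exact polar_zero_of_ts Q W₂ h₂ _ _ w.2 hd.2
  have h1 := LinearMap.finrank_range_add_finrank_ker f
  have h2 := Subspace.finrank_add_finrank_dualAnnihilator_eq D₁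
  have h3 := Submodule.finrank_mono hker
  have h4 := Submodule.finrank_mono hrange
  omega

theorem main [FiniteDimensional F V] (Q : QuadraticForm F V) (hQ : (QuadraticMap.polarBilin Q).Nondegenerate) (W₁ W₂ : Submodule F V) (h₁ : ∀ w ∈ W₁, Q w = 0) (h₂ : ∀ w ∈ W₂, Q w = 0) (hmax₁ : ∀ W : Submodule F V, W₁ ≤ W → (∀ w ∈ W, Q w = 0) → W = W₁) (hmax₂ : ∀ W : Submodule F V, W₂ ≤ W → (∀ w ∈ W, Q w = 0) → W = W₂) : Module.finrank F W₁ = Module.finrank F W₂ ∧ 2 * Module.finrank F W₁ ≤ Module.finrank F V := by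
  refine ⟨le_antisymm (le_of_max Q W₂ W₁ h₂ h₁ hmax₂) (le_of_max Q W₁ W₂ h₁ h₂ hmax₁), ?_⟩
  have hle : W₁ ≤ LinearMap.BilinForm.orthogonal (QuadraticMap.polarBilin Q) W₁ := by
    intro x hx y hy
    exact polar_zero_of_ts Q W₁ h₁ _ _ hy hx
  have h1 := Submodule.finrank_mono hle
  have h2 := LinearMap.BilinForm.finrank_orthogonal (B := QuadraticMap.polarBilin Q) hQ W₁
  have h3 := Submodule.finrank_le W₁
  omega


/-- Witt index is well defined: if Q is a quadratic form on a finite-dimensional space V over a finite field with non-degenerate polar form, and W₁, W₂ are subspaces on which Q vanishes that are maximal with this property, then W₁ and W₂ have the same dimension, and twice this dimension is at most dim V. -/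
theorem result {F V : Type*} [Field F] [Finite F] [AddCommGroup V] [Module F V] [FiniteDimensional F V] (Q : QuadraticForm F V) (hQ : (QuadraticMap.polarBilin Q).Nondegenerate) (W₁ W₂ : Submodule F V) (h₁ : ∀ w ∈ W₁, Q w = 0) (h₂ : ∀ w ∈ W₂, Q w = 0) (hmax₁ : ∀ W : Submodule F V, W₁ ≤ W → (∀ w ∈ W, Q w = 0) → W = W₁) (hmax₂ : ∀ W : Submodule F V, W₂ ≤ W → (∀ w ∈ W, Q w = 0) → W = W₂) : Module.finrank F W₁ = Module.finrank F W₂ ∧ 2 * Module.finrank F W₁ ≤ Module.finrank F V := by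
  exact main Q hQ W₁ W₂ h₁ h₂ hmax₁ hmax₂

end Cfsg.Agent.S0760
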