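import Cfsg.Statements.S0761
import Mathlib
-- import your own Cfsg.Agent.* helpers here

set_option autoImplicit false
open Cfsg

namespace Cfsg.Agent.S0761

/-- Hyperbolic partners: let B be a non-degenerate bilinear form on a finite-dimensional space, either alternating, or symmetric with 2 ≠ 0. If Z is a subspace on which B vanishes, x ∉ Z is isotropic and orthogonal to Z, then there is an isotropic y with B x y = 1 which is orthogonal to Z. -/
theorem result {F V : Type*} [Field F] [AddCommGroup V] [Module F V] [FiniteDimensional F V] (B : LinearMap.BilinForm F V) (hB : B.Nondegenerate) (hform : B.IsAlt ∨ (B.IsSymm ∧ (2 : F) ≠ 0)) (x : V) (Z : Submodule F V) (hxZ : x ∉ Z) (hx : B x x = 0) (hxz : ∀ z ∈ Z, B x z = 0) (hZ : ∀ z ∈ Z, ∀ z' ∈ Z, B z z' = 0) : ∃ y : V, B y y = 0 ∧ B x y = 1 ∧ ∀ z ∈ Z, B z y = 0 := by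
  obtain ⟨f, hfx, hfZ⟩ := Submodule.exists_le_ker_of_notMem hxZ
  set g : V →ₗ[F] F := (f x)⁻¹ • f with hg
  have hgx : g x = 1 := by simp [hg, hfx]
  have hgZ : ∀ z ∈ Z, g z = 0 := by
    intro z hz
    have : f z = 0 := hfZ hz
    simp [hg, this]
  rcases hform with hA | ⟨hS, h2⟩
  · set y : V := (B.toDual hB).symm (-g) with hy
    have hyv : ∀ v, B y v = -g v := by
      intro v
      rw [hy, LinearMap.BilinForm.apply_toDual_symm_apply]
      rfl
    refine ⟨y, hA y, ?_, ?_⟩
    · have := hA.neg_eq y x
      rw [← this, hyv, hgx]; simp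
    · intro z hz
      have := hA.neg_eq y z
      rw [← this, hyv, hgZ z hz]; simp
  · set y' : V := (B.toDual hB).symm g with hy
    have hyv : ∀ v, B y' v = g v := by
      intro v
      rw [hy, LinearMap.BilinForm.apply_toDual_symm_apply]
    have hxy' : B x y' = 1 := by rw [hS.eq, hyv, hgx]
    set c : F := -(B y' y') / 2 with hc
    refine ⟨y' + c • x, ?_, ?_, ?_⟩
    · have hy'x : B y' x = 1 := by rw [hyv, hgx]
      simp only [map_add, map_smul, LinearMap.add_apply, LinearMap.smul_apply, smul_eq_mul, hx,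
        hxy', hy'x]
      rw [hc]
      field_simp
      ring
    · simp only [map_add, map_smul, smul_eq_mul, hx, hxy']
      ring
    · intro z hz
      simp only [map_add, map_smul, smul_eq_mul]
      rw [hS.eq z y', hyv, hgZ z hz, hS.eq z x, hxz z hz]
      ring

end Cfsg.Agent.S0761
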