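import Cfsg.Statements.S0762
import Mathlib
-- import your own Cfsg.Agent.* helpers here

set_option autoImplicit false
open Cfsg

namespace Cfsg.Agent.S0762

/-- In characteristic two over a finite field, a quadratic form on a space of dimension at least 3 vanishes on some non-zero vector. -/
theorem result {F V : Type*} [Field F] [Finite F] [CharP F 2] [AddCommGroup V] [Module F V] [FiniteDimensional F V] (Q : QuadraticForm F V) (h3 : 3 ≤ Module.finrank F V) : ∃ v : V, v ≠ 0 ∧ Q v = 0 := by
  classical
  have : Fintype F := Fintype.ofFinite F
  have hpos : 0 < Module.finrank F V := by omega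
  have : Nontrivial V := Module.nontrivial_of_finrank_pos hpos
  obtain ⟨v, hv⟩ := exists_ne (0 : V)
  by_cases hQv : Q v = 0
  · exact ⟨v, hv, hQv⟩
  set φ : V →ₗ[F] F := QuadraticMap.polarBilin Q v with hφ
  have hker : 2 ≤ Module.finrank F (LinearMap.ker φ) := by
    have h1 := LinearMap.finrank_range_add_finrank_ker φ
    have h2 : Module.finrank F (LinearMap.range φ) ≤ 1 := by
      have := Submodule.finrank_le (LinearMap.range φ)
      simpa using this
    omega
  have hspan : Module.finrank F (Submodule.span F {v}) ≤ 1 := by
    have := finrank_span_le_card (R := F) ({v} : Set V)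
    simpa using this
  have hnle : ¬ (LinearMap.ker φ ≤ Submodule.span F {v}) := by
    intro hle
    have := Submodule.finrank_mono hle
    omega
  obtain ⟨w, hwker, hwspan⟩ := Set.not_subset.mp hnle
  have hvw : QuadraticMap.polar Q v w = 0 := by
    have : φ w = 0 := hwker
    simpa [hφ] using this
  obtain ⟨a, ha⟩ := FiniteField.isSquare_of_char_two (F := F) (CharP.ringChar_of_prime_eq_zero Nat.prime_two (CharTwo.two_eq_zero)) (Q w / Q v)
  refine ⟨a • v + w, ?_, ?_⟩
  · intro h0
    apply hwspan
    have : w = (-a) • v := by
      rw [neg_smul]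
      exact eq_neg_of_add_eq_zero_right h0
    rw [this]
    exact Submodule.smul_mem _ _ (Submodule.mem_span_singleton_self v)
  · have h1 : Q (a • v + w) = Q (a • v) + Q w + QuadraticMap.polar Q (a • v) w := by
      simp [QuadraticMap.polar]
    rw [h1, QuadraticMap.polar_smul_left, hvw, QuadraticMap.map_smul]
    simp only [smul_eq_mul, mul_zero, add_zero]
    rw [← ha]
    field_simp
    have h2 : (2 : F) = 0 := CharTwo.two_eq_zero
    linear_combination (Q w) * h2

end Cfsg.Agent.S0762
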