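import Cfsg.Statements.S0763
import Mathlib

set_option autoImplicit false
open Cfsg

namespace Cfsg.Agent.S0763

variable {F V : Type*} [Field F] [AddCommGroup V] [Module F V]

theorem polar_self0 [CharP F 2] (Q : QuadraticForm F V) (v : V) : QuadraticMap.polar Q v v = 0 := by
  rw [QuadraticMap.polar_self, two_smul]
  exact CharTwo.add_self_eq_zero _

theorem li_of_polar [CharP F 2] (Q : QuadraticForm F V) (v w : V) (h : QuadraticMap.polar Q v w = 1) :
    LinearIndependent F ![v, w] := by
  rw [LinearIndependent.pair_iff]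
  intro s t hst
  have hvv : QuadraticMap.polar Q v v = 0 := polar_self0 Q v
  have hww : QuadraticMap.polar Q w w = 0 := polar_self0 Q w
  have h1 := congrArg (fun x => QuadraticMap.polar Q v x) hst
  have h2 := congrArg (fun x => QuadraticMap.polar Q x w) hst
  simp only [QuadraticMap.polar_add_right, QuadraticMap.polar_smul_right, QuadraticMap.polar_add_left,
    QuadraticMap.polar_smul_left, hvv, hww, h, smul_eq_mul, mul_zero, mul_one, zero_add, add_zero,
    QuadraticMap.polar_zero_right, QuadraticMap.polar_zero_left] at h1 h2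
  exact ⟨h2, h1⟩

theorem main [Finite F] [CharP F 2] (Q : QuadraticForm F V) (h2 : Module.finrank F V = 2) (hQ : (QuadraticMap.polarBilin Q).Nondegenerate) : (∃ v w : V, LinearIndependent F ![v, w] ∧ Q v = 0 ∧ Q w = 0 ∧ QuadraticMap.polar Q v w = 1) ∨ (∃ (v w : V) (μ : F), LinearIndependent F ![v, w] ∧ (∀ x : F, x ^ 2 + x + μ ≠ 0) ∧ Q v = 1 ∧ Q w = μ ∧ QuadraticMap.polar Q v w = 1) := by
  have h20 : (2 : F) = 0 := CharTwo.two_eq_zero
  have hpair : ∀ v : V, v ≠ 0 → ∃ w, QuadraticMap.polar Q v w = 1 := by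
    intro v hv
    have : ∃ w, QuadraticMap.polar Q v w ≠ 0 := by
      by_contra hcon
      push Not at hcon
      exact hv (hQ.1 v (fun w => hcon w))
    obtain ⟨w, hw⟩ := this
    refine ⟨(QuadraticMap.polar Q v w)⁻¹ • w, ?_⟩
    rw [QuadraticMap.polar_smul_right, smul_eq_mul, inv_mul_cancel₀ hw]
  have hnt : Nontrivial V := by
    apply Module.nontrivial_of_finrank_pos (R := F)
    omega
  obtain ⟨v₀, hv₀⟩ := exists_ne (0 : V)
  by_cases hiso : ∃ v : V, v ≠ 0 ∧ Q v = 0
  · left
    obtain ⟨v, hv, hQv⟩ := hiso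
    obtain ⟨w, hw⟩ := hpair v hv
    have hvw : QuadraticMap.polar Q v (w + Q w • v) = 1 := by
      rw [QuadraticMap.polar_add_right, QuadraticMap.polar_smul_right, polar_self0, hw]
      simp
    refine ⟨v, w + Q w • v, li_of_polar Q _ _ hvw, hQv, ?_, hvw⟩
    have := QuadraticMap.polar_add_right Q v w (Q w • v) 
    have hexp : Q (w + Q w • v) = Q w + Q (Q w • v) + QuadraticMap.polar Q w (Q w • v) := by
      unfold QuadraticMap.polar; ring
    rw [hexp, QuadraticMap.map_smul, hQv, QuadraticMap.polar_smul_right, QuadraticMap.polar_comm, hw]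
    simp only [smul_eq_mul, mul_zero, add_zero, mul_one]
    rw [← two_mul, h20, zero_mul]
  · right
    push Not at hiso
    have ha : Q v₀ ≠ 0 := hiso v₀ hv₀
    obtain ⟨s, hs⟩ := FiniteField.isSquare_of_char_two (ringChar.eq F 2) (Q v₀)
    have hs0 : s ≠ 0 := by
      rintro rfl
      exact ha (by rw [hs]; ring)
    have hv1 : Q (s⁻¹ • v₀) = 1 := by
      rw [QuadraticMap.map_smul, hs, smul_eq_mul]
      field_simp
    have hvne : s⁻¹ • v₀ ≠ 0 := smul_ne_zero (inv_ne_zero hs0) hv₀
    obtain ⟨w, hw⟩ := hpair _ hvne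
    refine ⟨s⁻¹ • v₀, w, Q w, li_of_polar Q _ _ hw, ?_, hv1, rfl, hw⟩
    intro x hx
    set v := s⁻¹ • v₀ with hv
    have hne : x • v + w ≠ 0 := by
      intro h0
      have : w = -(x • v) := by rw [eq_neg_iff_add_eq_zero, add_comm]; exact h0
      rw [this, QuadraticMap.polar_neg_right, QuadraticMap.polar_smul_right, polar_self0] at hw
      simp at hw
    apply hiso _ hne
    have hexp : Q (x • v + w) = Q (x • v) + Q w + QuadraticMap.polar Q (x • v) w := by
      unfold QuadraticMap.polar; ring
    rw [hexp, QuadraticMap.map_smul, hv1, QuadraticMap.polar_smul_left, hw]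
    simp only [smul_eq_mul, mul_one]
    linear_combination hx


/-- Binary quadratic forms in characteristic two over a finite field: if Q is a quadratic form on a 2-dimensional space whose polar form is non-degenerate, then either there are vectors v, w with Q v = Q w = 0 and polar value 1 (Q is xy in these coordinates), or there are v, w and μ with Q v = 1, Q w = μ, polar value 1 and x² + x + μ without roots in F (Q is x² + xy + μy²). -/
theorem result {F V : Type*} [Field F] [Finite F] [CharP F 2] [AddCommGroup V] [Module F V] (Q : QuadraticForm F V) (h2 : Module.finrank F V = 2) (hQ : (QuadraticMap.polarBilin Q).Nondegenerate) : (∃ v w : V, LinearIndependent F ![v, w] ∧ Q v = 0 ∧ Q w = 0 ∧ QuadraticMap.polar Q v w = 1) ∨ (∃ (v w : V) (μ : F), LinearIndependent F ![v, w] ∧ (∀ x : F, x ^ 2 + x + μ ≠ 0) ∧ Q v = 1 ∧ Q w = μ ∧ QuadraticMap.polar Q v w = 1) := by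
  exact main Q h2 hQ

end Cfsg.Agent.S0763
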