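import Cfsg.Statements.S0769
import Mathlib

set_option autoImplicit false
open Cfsg

namespace Cfsg.Agent.S0769

open Matrix

variable {F : Type*} [Field F]

theorem cardS (n : ℕ) : Fintype.card {p : Fin n × Fin n // p.2 < p.1} = n * (n-1)/2 := by
  rw [Fintype.card_subtype, Finset.card_filter, Fintype.sum_prod_type]
  have : ∀ i : Fin n, (∑ j : Fin n, if j < i then 1 else 0) = (i : ℕ) := by
    intro i
    rw [← Finset.card_filter]
    have : (Finset.univ.filter (fun j : Fin n => j < i)) = Finset.Iio i := by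
      ext j; simp
    rw [this, Fin.card_Iio]
  simp only [this]
  rw [Fin.sum_univ_eq_sum_range (fun i => i) n, Finset.sum_range_id]

def lowMat (n : ℕ) (d : Fin n → Fˣ) (l : {p : Fin n × Fin n // p.2 < p.1} → F) :
    Matrix (Fin n) (Fin n) F :=
  fun i j => if i = j then (d i : F) else if h : j < i then l ⟨(i, j), h⟩ else 0

theorem lowMat_lower (n : ℕ) (d : Fin n → Fˣ) (l : {p : Fin n × Fin n // p.2 < p.1} → F)
    (i j : Fin n) (h : i < j) : lowMat n d l i j = 0 := by
  unfold lowMat
  rw [if_neg (ne_of_lt h), dif_neg (not_lt_of_gt h)]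

theorem lowMat_det (n : ℕ) (d : Fin n → Fˣ) (l : {p : Fin n × Fin n // p.2 < p.1} → F) :
    (lowMat n d l).det ≠ 0 := by
  rw [Matrix.det_of_isLowerTriangular _ (fun i j h => lowMat_lower n d l i j h)]
  rw [Finset.prod_ne_zero_iff]
  intro i _
  unfold lowMat
  simp

theorem diag_ne (n : ℕ) (g : Matrix.GeneralLinearGroup (Fin n) F)
    (hg : ∀ i j : Fin n, i < j → (g : Matrix (Fin n) (Fin n) F) i j = 0) (i : Fin n) :
    (g : Matrix (Fin n) (Fin n) F) i i ≠ 0 := by
  have hdet := Matrix.det_of_isLowerTriangular (g : Matrix (Fin n) (Fin n) F) (fun i j h => hg i j h)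
  have hne : (g : Matrix (Fin n) (Fin n) F).det ≠ 0 := g.det_ne_zero
  rw [hdet] at hne
  exact fun h => hne (Finset.prod_eq_zero (Finset.mem_univ i) h)

noncomputable def lowerEquiv (n : ℕ) :
    {g : Matrix.GeneralLinearGroup (Fin n) F // ∀ i j : Fin n, i < j → (g : Matrix (Fin n) (Fin n) F) i j = 0}
      ≃ (Fin n → Fˣ) × ({p : Fin n × Fin n // p.2 < p.1} → F) where
  toFun g := (fun i => Units.mk0 ((g.1 : Matrix (Fin n) (Fin n) F) i i) (diag_ne n g.1 g.2 i),
    fun p => (g.1 : Matrix (Fin n) (Fin n) F) p.1.1 p.1.2)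
  invFun := fun x => ⟨Matrix.GeneralLinearGroup.mkOfDetNeZero (lowMat n x.1 x.2) (lowMat_det n x.1 x.2),
    fun i j h => lowMat_lower n x.1 x.2 i j h⟩
  left_inv := by
    rintro ⟨g, hg⟩
    apply Subtype.ext
    apply Matrix.GeneralLinearGroup.ext
    intro i j
    show lowMat n _ _ i j = _
    unfold lowMat
    by_cases h1 : i = j
    · subst h1; simp
    · rw [if_neg h1]
      by_cases h2 : j < i
      · rw [dif_pos h2]
      · rw [dif_neg h2]
        have : i < j := lt_of_le_of_ne (not_lt.mp h2) h1
        exact (hg i j this).symm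
  right_inv := by
    rintro ⟨d, l⟩
    apply Prod.ext
    · funext i
      apply Units.ext
      show lowMat n d l i i = _
      unfold lowMat
      simp
    · funext p
      show lowMat n d l p.1.1 p.1.2 = _
      unfold lowMat
      have := p.2
      rw [if_neg (ne_of_gt this), dif_pos this]


/-- Order of the Borel subgroup of GL_n(q): the invertible lower-triangular n × n matrices over a field with q elements number q^(n(n-1)/2) (q-1)^n (unitriangular part times the diagonal torus). -/
theorem result {F : Type*} [Field F] [Fintype F] {q : ℕ} (hF : Fintype.card F = q) (n : ℕ) : Nat.card {g : Matrix.GeneralLinearGroup (Fin n) F // ∀ i j : Fin n, i < j → (g : Matrix (Fin n) (Fin n) F) i j = 0} = q ^ (n * (n - 1) / 2) * (q - 1) ^ n := by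
  classical
  rw [Nat.card_congr (lowerEquiv n), Nat.card_prod, Nat.card_eq_fintype_card, Nat.card_eq_fintype_card,
    Fintype.card_fun, Fintype.card_fun, Fintype.card_units, hF, cardS, Fintype.card_fin, mul_comm]

end Cfsg.Agent.S0769
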