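import Cfsg.Statements.S0770
import Mathlib

set_option autoImplicit false
open Cfsg

namespace Cfsg.Agent.S0770

open Matrix

variable {F : Type*} [Field F] {n : ℕ}

theorem gl_mul_inv (g : Matrix.GeneralLinearGroup (Fin n) F) :
    (g : Matrix (Fin n) (Fin n) F) * ((g⁻¹ : Matrix.GeneralLinearGroup (Fin n) F) : Matrix (Fin n) (Fin n) F) = 1 := by
  rw [← Units.val_mul, mul_inv_cancel]; rfl

theorem gl_inv_mul (g : Matrix.GeneralLinearGroup (Fin n) F) :
    ((g⁻¹ : Matrix.GeneralLinearGroup (Fin n) F) : Matrix (Fin n) (Fin n) F) * (g : Matrix (Fin n) (Fin n) F) = 1 := by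
  rw [← Units.val_mul, inv_mul_cancel]; rfl

theorem row_ne (g : Matrix.GeneralLinearGroup (Fin n) F) (i : Fin n) :
    ∃ j, (g : Matrix (Fin n) (Fin n) F) i j ≠ 0 := by
  by_contra hcon
  push Not at hcon
  have := congrFun (congrFun (gl_mul_inv g) i) i
  rw [Matrix.mul_apply] at this
  simp [hcon] at this

theorem col_ne (g : Matrix.GeneralLinearGroup (Fin n) F) (j : Fin n) :
    ∃ i, (g : Matrix (Fin n) (Fin n) F) i j ≠ 0 := by
  by_contra hcon
  push Not at hcon
  have := congrFun (congrFun (gl_inv_mul g) j) j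
  rw [Matrix.mul_apply] at this
  simp [hcon] at this

theorem mem_D_iff (h : Matrix.GeneralLinearGroup (Fin n) F) :
    h ∈ ((Units.map (Matrix.diagonalRingHom (Fin n) F).toMonoidHom).range : Subgroup (Matrix.GeneralLinearGroup (Fin n) F))
      ↔ ∀ i j, i ≠ j → (h : Matrix (Fin n) (Fin n) F) i j = 0 := by
  constructor
  · rintro ⟨u, rfl⟩ i j hij
    show Matrix.diagonal (u : Fin n → F) i j = 0
    exact Matrix.diagonal_apply_ne _ hij
  · intro hd
    have hdiag : ∀ M : Matrix.GeneralLinearGroup (Fin n) F, (∀ i j, i ≠ j → (M : Matrix (Fin n) (Fin n) F) i j = 0) →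
        (M : Matrix (Fin n) (Fin n) F) = Matrix.diagonal (fun i => (M : Matrix (Fin n) (Fin n) F) i i) := by
      intro M hM
      ext i j
      by_cases hij : i = j
      · subst hij; simp
      · rw [Matrix.diagonal_apply_ne _ hij, hM i j hij]
    have h1 := hdiag h hd
    have hne : ∀ i, (h : Matrix (Fin n) (Fin n) F) i i ≠ 0 := by
      intro i hi
      have := congrFun (congrFun (gl_mul_inv h) i) i
      rw [Matrix.mul_apply] at this
      have hz : ∀ k, (h : Matrix (Fin n) (Fin n) F) i k = 0 := by
        intro k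
        by_cases hik : i = k
        · subst hik; exact hi
        · exact hd i k hik
      simp [hz] at this
    refine ⟨MulEquiv.piUnits.symm (fun i => Units.mk0 _ (hne i)), ?_⟩
    apply Units.ext
    exact h1.symm

theorem diag_mul_apply (d M : Matrix (Fin n) (Fin n) F) (hd : ∀ i j, i ≠ j → d i j = 0) (i k : Fin n) :
    (d * M) i k = d i i * M i k := by
  rw [Matrix.mul_apply, Finset.sum_eq_single i]
  · intro l _ hl
    rw [hd i l (Ne.symm hl), zero_mul]
  · intro h; exact absurd (Finset.mem_univ i) h

theorem mul_diag_apply (d M : Matrix (Fin n) (Fin n) F) (hd : ∀ i j, i ≠ j → d i j = 0) (i k : Fin n) :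
    (M * d) i k = M i k * d k k := by
  rw [Matrix.mul_apply, Finset.sum_eq_single k]
  · intro l _ hl
    rw [hd l k hl, mul_zero]
  · intro h; exact absurd (Finset.mem_univ k) h

theorem main (hF : ∃ a : F, a ≠ 0 ∧ a ≠ 1) (n : ℕ) (g : Matrix.GeneralLinearGroup (Fin n) F) : g ∈ Subgroup.normalizer ((Units.map (Matrix.diagonalRingHom (Fin n) F).toMonoidHom).range : Subgroup (Matrix.GeneralLinearGroup (Fin n) F)) ↔ ∀ i : Fin n, ∃! j : Fin n, (g : Matrix (Fin n) (Fin n) F) i j ≠ 0 := by
  rw [Subgroup.mem_normalizer_iff]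
  constructor
  · intro hg i
    obtain ⟨j, hj⟩ := row_ne g i
    refine ⟨j, hj, ?_⟩
    intro k hk
    by_contra hkj
    obtain ⟨a, ha0, ha1⟩ := hF
    have hune : ∀ l, (Function.update (1 : Fin n → F) j a) l ≠ 0 := by
      intro l
      by_cases hl : l = j
      · subst hl; simpa using ha0
      · rw [Function.update_of_ne hl]; exact one_ne_zero
    let u : (Fin n → F)ˣ := MulEquiv.piUnits.symm (fun l => Units.mk0 _ (hune l))
    let h : Matrix.GeneralLinearGroup (Fin n) F := Units.map (Matrix.diagonalRingHom (Fin n) F).toMonoidHom u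
    have hh : (h : Matrix (Fin n) (Fin n) F) = Matrix.diagonal (Function.update (1 : Fin n → F) j a) := rfl
    have hmem : h ∈ ((Units.map (Matrix.diagonalRingHom (Fin n) F).toMonoidHom).range : Subgroup (Matrix.GeneralLinearGroup (Fin n) F)) := ⟨u, rfl⟩
    have hmem' := (hg h).mp hmem
    rw [mem_D_iff] at hmem'
    have hhd : ∀ i j, i ≠ j → (h : Matrix (Fin n) (Fin n) F) i j = 0 := (mem_D_iff h).mp hmem
    have heq : ((g * h * g⁻¹ : Matrix.GeneralLinearGroup (Fin n) F) : Matrix (Fin n) (Fin n) F) * (g : Matrix (Fin n) (Fin n) F)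
        = (g : Matrix (Fin n) (Fin n) F) * (h : Matrix (Fin n) (Fin n) F) := by
      rw [← Units.val_mul, ← Units.val_mul]
      congr 1
      group
    have e1 := congrFun (congrFun heq i) j
    have e2 := congrFun (congrFun heq i) k
    rw [diag_mul_apply _ _ hmem', mul_diag_apply _ _ hhd] at e1 e2
    rw [hh] at e1 e2
    simp only [Matrix.diagonal_apply_eq, Function.update_self] at e1
    rw [Matrix.diagonal_apply_eq, Function.update_of_ne hkj] at e2
    have hd : ((g * h * g⁻¹ : Matrix.GeneralLinearGroup (Fin n) F) : Matrix (Fin n) (Fin n) F) i i = a := by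
      have : (((g * h * g⁻¹ : Matrix.GeneralLinearGroup (Fin n) F) : Matrix (Fin n) (Fin n) F) i i - a) * (g : Matrix (Fin n) (Fin n) F) i j = 0 := by
        linear_combination e1
      rcases mul_eq_zero.mp this with h' | h'
      · exact sub_eq_zero.mp h'
      · exact absurd h' hj
    rw [hd] at e2
    have : (a - 1) * (g : Matrix (Fin n) (Fin n) F) i k = 0 := by
      simp only [Pi.one_apply] at e2
      linear_combination e2
    rcases mul_eq_zero.mp this with h' | h'
    · exact ha1 (sub_eq_zero.mp h')
    · exact hk h'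
  · intro hmono
    choose π hπ hπu using hmono
    have hsurj : Function.Surjective π := by
      intro j
      obtain ⟨i, hi⟩ := col_ne g j
      exact ⟨i, (hπu i j hi).symm⟩
    have hinj : Function.Injective π := Finite.injective_iff_surjective.mpr hsurj
    have hgz : ∀ i k, k ≠ π i → (g : Matrix (Fin n) (Fin n) F) i k = 0 := by
      intro i k hk
      by_contra hne
      exact hk (hπu i k hne)
    intro h
    rw [mem_D_iff, mem_D_iff]
    constructor
    · intro hd
      have heq : (Matrix.diagonal (fun i => (h : Matrix (Fin n) (Fin n) F) (π i) (π i))) * (g : Matrix (Fin n) (Fin n) F)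
          = (g : Matrix (Fin n) (Fin n) F) * (h : Matrix (Fin n) (Fin n) F) := by
        ext i k
        rw [diag_mul_apply _ _ (fun i j hij => Matrix.diagonal_apply_ne _ hij), mul_diag_apply _ _ hd,
          Matrix.diagonal_apply_eq]
        by_cases hk : k = π i
        · subst hk; ring
        · rw [hgz i k hk]; ring
      have : ((g * h * g⁻¹ : Matrix.GeneralLinearGroup (Fin n) F) : Matrix (Fin n) (Fin n) F) =
          Matrix.diagonal (fun i => (h : Matrix (Fin n) (Fin n) F) (π i) (π i)) := by
        rw [Units.val_mul, Units.val_mul, ← heq, Matrix.mul_assoc, gl_mul_inv, Matrix.mul_one]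
      intro i j hij
      rw [this, Matrix.diagonal_apply_ne _ hij]
    · intro hd
      obtain ⟨ρ, hρ⟩ := hsurj.hasRightInverse
      set d' := ((g * h * g⁻¹ : Matrix.GeneralLinearGroup (Fin n) F) : Matrix (Fin n) (Fin n) F) with hd'
      have heq : (g : Matrix (Fin n) (Fin n) F) * (Matrix.diagonal (fun k => d' (ρ k) (ρ k)))
          = d' * (g : Matrix (Fin n) (Fin n) F) := by
        ext i k
        rw [diag_mul_apply _ _ hd, mul_diag_apply _ _ (fun i j hij => Matrix.diagonal_apply_ne _ hij),
          Matrix.diagonal_apply_eq]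
        by_cases hk : k = π i
        · subst hk
          have : ρ (π i) = i := hinj (hρ (π i))
          rw [this]; ring
        · rw [hgz i k hk]; ring
      have h2 : d' * (g : Matrix (Fin n) (Fin n) F) = (g : Matrix (Fin n) (Fin n) F) * (h : Matrix (Fin n) (Fin n) F) := by
        rw [hd', ← Units.val_mul, ← Units.val_mul]
        congr 1
        group
      have h3 : (h : Matrix (Fin n) (Fin n) F) = Matrix.diagonal (fun k => d' (ρ k) (ρ k)) := by
        have := congrArg (fun M => ((g⁻¹ : Matrix.GeneralLinearGroup (Fin n) F) : Matrix (Fin n) (Fin n) F) * M) (heq.trans h2)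
        simp only [← Matrix.mul_assoc, gl_inv_mul, Matrix.one_mul] at this
        exact this.symm
      intro i j hij
      rw [h3, Matrix.diagonal_apply_ne _ hij]


/-- For a field with at least 3 elements, an invertible matrix normalises the subgroup of invertible diagonal matrices of GL_n if and only if it is monomial (exactly one non-zero entry in each row). -/
theorem result {F : Type*} [Field F] (hF : ∃ a : F, a ≠ 0 ∧ a ≠ 1) (n : ℕ) (g : Matrix.GeneralLinearGroup (Fin n) F) : g ∈ Subgroup.normalizer ((Units.map (Matrix.diagonalRingHom (Fin n) F).toMonoidHom).range : Subgroup (Matrix.GeneralLinearGroup (Fin n) F)) ↔ ∀ i : Fin n, ∃! j : Fin n, (g : Matrix (Fin n) (Fin n) F) i j ≠ 0 := by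
  exact main hF n g

end Cfsg.Agent.S0770
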