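import Cfsg.Statements.S0771
import Mathlib
import Cfsg.Statements.S0771

set_option autoImplicit false
open Cfsg

namespace Cfsg.Agent.S0771

open Matrix

variable {F : Type*} [Field F]

def cS (n k : ℕ) : Submodule F (Fin n → F) where
  carrier := {v | ∀ i : Fin n, k ≤ (i : ℕ) → v i = 0}
  add_mem' := by
    intro a b ha hb i hi
    simp [ha i hi, hb i hi]
  zero_mem' := by
    intro i hi
    rfl
  smul_mem' := by
    intro c a ha i hi
    simp [ha i hi]

theorem stab_iff (n k : ℕ) (g : GL (Fin n) F) :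
    g ∈ Cfsg.stabilizing (Cfsg.glToMat (Fin n) F) {v : Fin n → F | ∀ i : Fin n, k ≤ (i : ℕ) → v i = 0} ↔
    ∀ i j : Fin n, k ≤ (i : ℕ) → (j : ℕ) < k → (g : Matrix (Fin n) (Fin n) F) i j = 0 := by
  constructor
  · intro hg i j hi hj
    have h1 : (Pi.single j (1 : F) : Fin n → F) ∈ {v : Fin n → F | ∀ i : Fin n, k ≤ (i : ℕ) → v i = 0} := by
      intro i' hi'
      have : i' ≠ j := by
        intro h
        rw [h] at hi'
        omega
      simp [this]
    have h2 := (hg _).mp h1 i hi
    simpa using h2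
  · intro h
    have hfwd : ∀ v ∈ cS (F := F) n k, (g : Matrix (Fin n) (Fin n) F).mulVecLin v ∈ cS (F := F) n k := by
      intro v hv i hi
      show ((g : Matrix (Fin n) (Fin n) F) *ᵥ v) i = 0
      rw [Matrix.mulVec, dotProduct]
      apply Finset.sum_eq_zero
      intro j _
      by_cases hj : (j : ℕ) < k
      · rw [h i j hi hj, zero_mul]
      · rw [hv j (by omega), mul_zero]
    have hinj : Function.Injective ((g : Matrix (Fin n) (Fin n) F).mulVecLin) := by
      intro x y hxy
      have h1 : (g : Matrix (Fin n) (Fin n) F) *ᵥ x = (g : Matrix (Fin n) (Fin n) F) *ᵥ y := hxy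
      have h2 := congrArg (fun w => ((g⁻¹ : GL (Fin n) F) : Matrix (Fin n) (Fin n) F) *ᵥ w) h1
      simpa [Matrix.mulVec_mulVec, ← Units.val_mul] using h2
    let r := ((g : Matrix (Fin n) (Fin n) F).mulVecLin).restrict hfwd
    have hrinj : Function.Injective r := by
      intro x y hxy
      apply Subtype.ext
      apply hinj
      exact congrArg Subtype.val hxy
    have hrsurj : Function.Surjective r := LinearMap.surjective_of_injective hrinj
    intro v
    constructor
    · intro hv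
      exact hfwd v hv
    · intro hv
      obtain ⟨w, hw⟩ := hrsurj ⟨_, hv⟩
      have h1 : (g : Matrix (Fin n) (Fin n) F).mulVecLin (w : Fin n → F) = (g : Matrix (Fin n) (Fin n) F).mulVecLin v :=
        congrArg Subtype.val hw
      rw [← hinj h1]
      exact w.2

def eN (n k : ℕ) (hk : k ≤ n) : Fin k ⊕ Fin (n - k) ≃ Fin n :=
  finSumFinEquiv.trans (finCongr (by omega))

theorem eN_inl (n k : ℕ) (hk : k ≤ n) (i : Fin k) : ((eN n k hk (Sum.inl i) : Fin n) : ℕ) = i := by
  simp [eN]

theorem eN_inr (n k : ℕ) (hk : k ≤ n) (j : Fin (n - k)) : ((eN n k hk (Sum.inr j) : Fin n) : ℕ) = k + j := by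
  simp [eN]

theorem stab_iff' (n k : ℕ) (hk : k ≤ n) (g : GL (Fin n) F) :
    g ∈ Cfsg.stabilizing (Cfsg.glToMat (Fin n) F) {v : Fin n → F | ∀ i : Fin n, k ≤ (i : ℕ) → v i = 0} ↔
    ((g : Matrix (Fin n) (Fin n) F).submatrix (eN n k hk) (eN n k hk)).toBlocks₂₁ = 0 := by
  rw [stab_iff]
  constructor
  · intro h
    ext a b
    show (g : Matrix (Fin n) (Fin n) F) (eN n k hk (Sum.inr a)) (eN n k hk (Sum.inl b)) = 0
    apply h
    · rw [eN_inr]; omega
    · rw [eN_inl]; exact b.2
  · intro h i j hi hj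
    obtain ⟨a, rfl⟩ := (eN n k hk).surjective i
    obtain ⟨b, rfl⟩ := (eN n k hk).surjective j
    rcases a with a | a
    · rw [eN_inl] at hi
      have := a.2
      omega
    rcases b with b | b
    · exact congrFun (congrFun h a) b
    · rw [eN_inr] at hj
      omega

theorem det_blocks (n k : ℕ) (hk : k ≤ n) (g : GL (Fin n) F)
    (hg : ((g : Matrix (Fin n) (Fin n) F).submatrix (eN n k hk) (eN n k hk)).toBlocks₂₁ = 0) :
    ((g : Matrix (Fin n) (Fin n) F).submatrix (eN n k hk) (eN n k hk)).toBlocks₁₁.det ≠ 0 ∧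
    ((g : Matrix (Fin n) (Fin n) F).submatrix (eN n k hk) (eN n k hk)).toBlocks₂₂.det ≠ 0 := by
  have h1 : ((g : Matrix (Fin n) (Fin n) F).submatrix (eN n k hk) (eN n k hk)).det ≠ 0 := by
    rw [Matrix.det_submatrix_equiv_self]
    have := g.isUnit
    rw [Matrix.isUnit_iff_isUnit_det] at this
    exact this.ne_zero
  rw [← Matrix.fromBlocks_toBlocks ((g : Matrix (Fin n) (Fin n) F).submatrix (eN n k hk) (eN n k hk)), hg,
    Matrix.det_fromBlocks_zero₂₁] at h1
  exact ⟨left_ne_zero_of_mul h1, right_ne_zero_of_mul h1⟩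

theorem mkGL_coe {m : Type*} [Fintype m] [DecidableEq m] (A : Matrix m m F) (h : A.det ≠ 0) :
    ((GeneralLinearGroup.mkOfDetNeZero A h : GL m F) : Matrix m m F) = A := rfl

noncomputable def parEquiv (n k : ℕ) (hk : k ≤ n) :
    ↥(Cfsg.stabilizing (Cfsg.glToMat (Fin n) F) {v : Fin n → F | ∀ i : Fin n, k ≤ (i : ℕ) → v i = 0}) ≃
    GL (Fin k) F × GL (Fin (n - k)) F × Matrix (Fin k) (Fin (n - k)) F where
  toFun g := (GeneralLinearGroup.mkOfDetNeZero _ (det_blocks n k hk g.1 ((stab_iff' n k hk g.1).mp g.2)).1,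
    GeneralLinearGroup.mkOfDetNeZero _ (det_blocks n k hk g.1 ((stab_iff' n k hk g.1).mp g.2)).2,
    ((g.1 : Matrix (Fin n) (Fin n) F).submatrix (eN n k hk) (eN n k hk)).toBlocks₁₂)
  invFun x := ⟨GeneralLinearGroup.mkOfDetNeZero
      ((fromBlocks (x.1 : Matrix (Fin k) (Fin k) F) x.2.2 0 (x.2.1 : Matrix (Fin (n - k)) (Fin (n - k)) F)).submatrix
        (eN n k hk).symm (eN n k hk).symm) (by
        rw [Matrix.det_submatrix_equiv_self, Matrix.det_fromBlocks_zero₂₁]
        have h1 := x.1.isUnit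
        have h2 := x.2.1.isUnit
        rw [Matrix.isUnit_iff_isUnit_det] at h1 h2
        exact mul_ne_zero h1.ne_zero h2.ne_zero), by
      rw [stab_iff' n k hk, mkGL_coe]
      ext a b
      simp⟩
  left_inv g := by
    apply Subtype.ext
    apply Units.ext
    have hg := (stab_iff' n k hk g.1).mp g.2
    ext i j
    obtain ⟨a, rfl⟩ := (eN n k hk).surjective i
    obtain ⟨b, rfl⟩ := (eN n k hk).surjective j
    simp only [mkGL_coe]
    simp only [Matrix.submatrix_apply, Equiv.symm_apply_apply]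
    rcases a with a | a <;> rcases b with b | b
    · rfl
    · rfl
    · exact (congrFun (congrFun hg a) b).symm
    · rfl
  right_inv x := by
    obtain ⟨a, d, B⟩ := x
    refine Prod.ext ?_ (Prod.ext ?_ ?_)
    · apply Units.ext
      ext i j
      simp only [mkGL_coe]
      simp
    · apply Units.ext
      ext i j
      simp only [mkGL_coe]
      simp
    · ext i j
      simp only [mkGL_coe]
      simp

theorem main [Fintype F] {q : ℕ} (hF : Fintype.card F = q) (n k : ℕ) (hk : k ≤ n) :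
    Nat.card ↥(Cfsg.stabilizing (Cfsg.glToMat (Fin n) F) {v : Fin n → F | ∀ i : Fin n, k ≤ (i : ℕ) → v i = 0}) =
      q ^ (k * (n - k)) * (∏ i : Fin k, (q ^ k - q ^ (i : ℕ))) * ∏ i : Fin (n - k), (q ^ (n - k) - q ^ (i : ℕ)) := by
  rw [Nat.card_congr (parEquiv n k hk), Nat.card_prod, Nat.card_prod, Matrix.card_GL_field, Matrix.card_GL_field,
    Nat.card_eq_fintype_card]
  have hm : Fintype.card (Matrix (Fin k) (Fin (n - k)) F) = q ^ (k * (n - k)) := by
    rw [← Nat.card_eq_fintype_card]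
    have h1 : Nat.card (Matrix (Fin k) (Fin (n - k)) F) = Nat.card (Fin k → Fin (n - k) → F) := rfl
    rw [h1, Nat.card_fun, Nat.card_fun, Nat.card_eq_fintype_card, Nat.card_eq_fintype_card, Nat.card_eq_fintype_card,
      hF, Fintype.card_fin, Fintype.card_fin, ← pow_mul, mul_comm]
  rw [hm]
  simp only [hF]
  ring


/-- Maximal parabolic of GL_n(q): the stabiliser of the coordinate subspace spanned by the first k basis vectors has order q^(k(n-k)) · |GL_k(q)| · |GL_(n-k)(q)| (unipotent radical of order q^(k(n-k)) and Levi complement GL_k × GL_(n-k)). -/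
theorem result {F : Type*} [Field F] [Fintype F] {q : ℕ} (hF : Fintype.card F = q) (n k : ℕ) (hk : k ≤ n) : Nat.card ↥(Cfsg.stabilizing (Cfsg.glToMat (Fin n) F) {v : Fin n → F | ∀ i : Fin n, k ≤ (i : ℕ) → v i = 0}) = q ^ (k * (n - k)) * (∏ i : Fin k, (q ^ k - q ^ (i : ℕ))) * ∏ i : Fin (n - k), (q ^ (n - k) - q ^ (i : ℕ)) := by
  exact main hF n k hk

end Cfsg.Agent.S0771
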