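import Cfsg.Statements.S0772
import Mathlib
import Cfsg.Statements.S0772
import Cfsg.Agent.S0771

set_option autoImplicit false
open Cfsg

namespace Cfsg.Agent.S0772

open Matrix

variable {F : Type*} [Field F] {n : ℕ}

/-- supported on low coordinates (`< k`) -/
def lo (k : ℕ) (w : Fin n → F) : Prop := ∀ i : Fin n, k ≤ (i : ℕ) → w i = 0
/-- supported on high coordinates (`≥ k`) -/
def hi (k : ℕ) (w : Fin n → F) : Prop := ∀ i : Fin n, (i : ℕ) < k → w i = 0

theorem dot_lo_hi {k : ℕ} {a b : Fin n → F} (ha : lo k a) (hb : hi k b) : a ⬝ᵥ b = 0 := by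
  rw [dotProduct]
  apply Finset.sum_eq_zero
  intro i _
  by_cases h : (i : ℕ) < k
  · rw [hb i h, mul_zero]
  · rw [ha i (by omega), zero_mul]

theorem dot_hi_lo {k : ℕ} {a b : Fin n → F} (ha : hi k a) (hb : lo k b) : a ⬝ᵥ b = 0 := by
  rw [dotProduct_comm]; exact dot_lo_hi hb ha

theorem lo_add {k : ℕ} {a b : Fin n → F} (ha : lo k a) (hb : lo k b) : lo k (a + b) := by
  intro i hi; simp [ha i hi, hb i hi]

theorem lo_smul {k : ℕ} {a : Fin n → F} (c : F) (ha : lo k a) : lo k (c • a) := by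
  intro i hi; simp [ha i hi]

abbrev Pk (n k : ℕ) (F : Type*) [Field F] : Subgroup (GL (Fin n) F) :=
  Cfsg.stabilizing (Cfsg.glToMat (Fin n) F) {v : Fin n → F | ∀ i : Fin n, k ≤ (i : ℕ) → v i = 0}

theorem stab_iff2 (k : ℕ) (g : GL (Fin n) F) :
    g ∈ Pk n k F ↔ ∀ v : Fin n → F, lo k v → lo k ((g : Matrix (Fin n) (Fin n) F) *ᵥ v) := by
  rw [Cfsg.Agent.S0771.stab_iff]
  constructor
  · intro h v hv i hi
    rw [Matrix.mulVec, dotProduct]
    apply Finset.sum_eq_zero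
    intro j _
    by_cases hj : (j : ℕ) < k
    · rw [h i j hi hj, zero_mul]
    · rw [hv j (by omega), mul_zero]
  · intro h i j hi hj
    have h1 : lo k (Pi.single j (1 : F) : Fin n → F) := by
      intro i' hi'
      have : i' ≠ j := by
        intro h
        rw [h] at hi'
        omega
      simp [this]
    have h2 := h _ h1 i hi
    simpa using h2

/-- rank one perturbation of the identity -/
def R1 (x y : Fin n → F) : Matrix (Fin n) (Fin n) F := 1 + vecMulVec x y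

theorem R1_mulVec (x y w : Fin n → F) : R1 x y *ᵥ w = w + (y ⬝ᵥ w) • x := by
  rw [R1, Matrix.add_mulVec, Matrix.one_mulVec, Matrix.vecMulVec_mulVec]
  congr 1
  ext i
  simp [mul_comm]

theorem vecMul_R1 (x y w : Fin n → F) : w ᵥ* R1 x y = w + (w ⬝ᵥ x) • y := by
  rw [R1, Matrix.vecMul_add, Matrix.vecMul_one, Matrix.vecMul_vecMulVec]

theorem R1_mul_R1 (x y y' : Fin n → F) :
    R1 x y * R1 x y' = 1 + vecMulVec x (y + y' + (y ⬝ᵥ x) • y') := by
  rw [R1, R1, Matrix.add_mul, Matrix.mul_add, Matrix.mul_add, Matrix.one_mul, Matrix.one_mul, Matrix.mul_one,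
    Matrix.vecMulVec_mul_vecMulVec]
  ext i j
  simp [vecMulVec_apply, Matrix.add_apply]
  ring

theorem R1_inv (x y : Fin n → F) (hs : 1 + y ⬝ᵥ x ≠ 0) :
    R1 x y * R1 x (-(1 + y ⬝ᵥ x)⁻¹ • y) = 1 := by
  rw [R1_mul_R1]
  have : y + -(1 + y ⬝ᵥ x)⁻¹ • y + (y ⬝ᵥ x) • (-(1 + y ⬝ᵥ x)⁻¹ • y) = 0 := by
    ext i
    simp only [Pi.add_apply, Pi.smul_apply, smul_eq_mul, Pi.zero_apply]
    field_simp
    ring
  rw [this]
  ext i j
  simp [vecMulVec_apply]

theorem conj_R1 (g g' : Matrix (Fin n) (Fin n) F) (hg : g * g' = 1) (v φ : Fin n → F) :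
    g * R1 v φ * g' = R1 (g *ᵥ v) (φ ᵥ* g') := by
  rw [R1, R1, Matrix.mul_add, Matrix.add_mul, Matrix.mul_one, hg, Matrix.mul_vecMulVec, Matrix.vecMulVec_mul]

def InH (H : Subgroup (GL (Fin n) F)) (M : Matrix (Fin n) (Fin n) F) : Prop :=
  ∃ g ∈ H, (g : Matrix (Fin n) (Fin n) F) = M

theorem InH.conj {H : Subgroup (GL (Fin n) F)} {M : Matrix (Fin n) (Fin n) F} (hM : InH H M)
    (p : GL (Fin n) F) (hp : p ∈ H) :
    InH H ((p : Matrix (Fin n) (Fin n) F) * M * ((p⁻¹ : GL (Fin n) F) : Matrix (Fin n) (Fin n) F)) := by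
  obtain ⟨g, hg, rfl⟩ := hM
  exact ⟨p * g * p⁻¹, H.mul_mem (H.mul_mem hp hg) (H.inv_mem hp), by simp⟩

/-- the group element of a rank one perturbation -/
theorem exists_R1 (x y : Fin n → F) (hs : 1 + y ⬝ᵥ x ≠ 0) :
    ∃ p : GL (Fin n) F, (p : Matrix (Fin n) (Fin n) F) = R1 x y ∧
      ((p⁻¹ : GL (Fin n) F) : Matrix (Fin n) (Fin n) F) = R1 x (-(1 + y ⬝ᵥ x)⁻¹ • y) := by
  have h1 := R1_inv x y hs
  have h2 : R1 x (-(1 + y ⬝ᵥ x)⁻¹ • y) * R1 x y = 1 := by
    exact (Matrix.mul_eq_one_comm_of_card_eq (Fin n) (Fin n) F rfl).mp h1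
  exact ⟨⟨R1 x y, R1 x (-(1 + y ⬝ᵥ x)⁻¹ • y), h1, h2⟩, rfl, rfl⟩

theorem R1_mem_P {k : ℕ} (x y : Fin n → F) (p : GL (Fin n) F)
    (hp : (p : Matrix (Fin n) (Fin n) F) = R1 x y) (hxy : lo k x ∨ hi k y) : p ∈ Pk n k F := by
  rw [stab_iff2]
  intro w hw
  rw [hp, R1_mulVec]
  rcases hxy with hx | hy
  · exact lo_add hw (lo_smul _ hx)
  · rw [dot_hi_lo hy hw, zero_smul, add_zero]
    exact hw

theorem move {k : ℕ} {H : Subgroup (GL (Fin n) F)} (hPH : Pk n k F ≤ H) {v φ : Fin n → F}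
    (hT : InH H (R1 v φ)) (x y : Fin n → F) (hxy : lo k x ∨ hi k y) (hs : 1 + y ⬝ᵥ x ≠ 0) :
    InH H (R1 (v + (y ⬝ᵥ v) • x) (φ + (φ ⬝ᵥ x) • (-(1 + y ⬝ᵥ x)⁻¹ • y))) := by
  obtain ⟨p, hp, hp'⟩ := exists_R1 x y hs
  have h1 := hT.conj p (hPH (R1_mem_P x y p hp hxy))
  rw [conj_R1 _ _ (by rw [← Units.val_mul, mul_inv_cancel]; rfl), hp, hp', R1_mulVec, vecMul_R1] at h1
  exact h1

/-- separating functional -/
theorem exists_psi (u w : Fin n → F) (hu : u ≠ 0) (hw : w ≠ 0) :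
    ∃ ψ : Fin n → F, ψ ⬝ᵥ u = 1 ∧ ψ ⬝ᵥ w ≠ 0 ∧ ∀ i, ψ i ≠ 0 → (u i ≠ 0 ∨ w i ≠ 0) := by
  obtain ⟨a, ha⟩ : ∃ a, u a ≠ 0 := by
    by_contra h
    push Not at h
    exact hu (funext h)
  obtain ⟨b, hb⟩ : ∃ b, w b ≠ 0 := by
    by_contra h
    push Not at h
    exact hw (funext h)
  by_cases hwa : w a = 0
  · by_cases hub : u b = 0
    · have hab : a ≠ b := by
        intro h
        rw [h] at ha
        exact ha hub
      refine ⟨(u a)⁻¹ • Pi.single a 1 + Pi.single b 1, ?_, ?_, ?_⟩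
      · simp [hub, ha]
      · simp [hwa, hb]
      · intro i hi
        by_cases hia : i = a
        · left; rw [hia]; exact ha
        · by_cases hib : i = b
          · right; rw [hib]; exact hb
          · exfalso
            apply hi
            simp [hia, hib]
    · refine ⟨(u b)⁻¹ • Pi.single b 1, ?_, ?_, ?_⟩
      · simp [hub]
      · simp [hub, hb]
      · intro i hi
        by_cases hib : i = b
        · right; rw [hib]; exact hb
        · exfalso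
          apply hi
          simp [hib]
  · refine ⟨(u a)⁻¹ • Pi.single a 1, ?_, ?_, ?_⟩
    · simp [ha]
    · simp [ha, hwa]
    · intro i hi
      by_cases hia : i = a
      · left; rw [hia]; exact ha
      · exfalso
        apply hi
        simp [hia]

theorem move_dot (v φ x y : Fin n → F) (hs : 1 + y ⬝ᵥ x ≠ 0) :
    (φ + (φ ⬝ᵥ x) • (-(1 + y ⬝ᵥ x)⁻¹ • y)) ⬝ᵥ (v + (y ⬝ᵥ v) • x) = φ ⬝ᵥ v := by
  simp only [add_dotProduct, dotProduct_add, smul_dotProduct, dotProduct_smul, smul_eq_mul, neg_smul,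
    neg_dotProduct, dotProduct_neg]
  field_simp
  ring

def loPart (k : ℕ) (w : Fin n → F) : Fin n → F := fun i => if (i : ℕ) < k then w i else 0
def hiPart (k : ℕ) (w : Fin n → F) : Fin n → F := fun i => if (i : ℕ) < k then 0 else w i

theorem lo_loPart (k : ℕ) (w : Fin n → F) : lo k (loPart k w) := by
  intro i hi
  simp [loPart, not_lt.mpr hi]

theorem hi_hiPart (k : ℕ) (w : Fin n → F) : hi k (hiPart k w) := by
  intro i hi
  simp [hiPart, hi]

theorem sub_loPart (k : ℕ) (w : Fin n → F) : w - loPart k w = hiPart k w := by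
  ext i
  by_cases h : (i : ℕ) < k <;> simp [loPart, hiPart, h]

theorem sub_hiPart (k : ℕ) (w : Fin n → F) : w - hiPart k w = loPart k w := by
  ext i
  by_cases h : (i : ℕ) < k <;> simp [loPart, hiPart, h]

theorem hi_single {k : ℕ} (a : Fin n) (ha : k ≤ (a : ℕ)) : hi k (Pi.single a (1 : F) : Fin n → F) := by
  intro i hi
  have : i ≠ a := by
    intro h
    rw [h] at hi
    omega
  simp [this]

theorem lo_single {k : ℕ} (a : Fin n) (ha : (a : ℕ) < k) : lo k (Pi.single a (1 : F) : Fin n → F) := by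
  intro i hi
  have : i ≠ a := by
    intro h
    rw [h] at hi
    omega
  simp [this]

theorem stepA {k : ℕ} {H : Subgroup (GL (Fin n) F)} (hPH : Pk n k F ≤ H) {v φ : Fin n → F}
    (hT : InH H (R1 v φ)) (hv : ∃ a : Fin n, k ≤ (a : ℕ) ∧ v a ≠ 0)
    (hφ : ∃ s : Fin n → F, lo k s ∧ φ ⬝ᵥ s ≠ 0) (hφv : φ ⬝ᵥ v = 0) :
    ∃ v' φ' : Fin n → F, InH H (R1 v' φ') ∧ hi k v' ∧ v' ≠ 0 ∧
      (∃ s : Fin n → F, lo k s ∧ φ' ⬝ᵥ s ≠ 0) ∧ φ' ⬝ᵥ v' = 0 := by
  obtain ⟨a, hak, hva⟩ := hv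
  obtain ⟨s, hs, hφs⟩ := hφ
  have hyx : (Pi.single a (1 : F) : Fin n → F) ⬝ᵥ (-(v a)⁻¹ • loPart k v) = 0 :=
    dot_hi_lo (hi_single a hak) (lo_smul _ (lo_loPart k v))
  have hs1 : 1 + (Pi.single a (1 : F) : Fin n → F) ⬝ᵥ (-(v a)⁻¹ • loPart k v) ≠ 0 := by
    rw [hyx, add_zero]; exact one_ne_zero
  have h1 := move hPH hT (-(v a)⁻¹ • loPart k v) (Pi.single a 1) (Or.inl (lo_smul _ (lo_loPart k v))) hs1
  have h2 := move_dot v φ (-(v a)⁻¹ • loPart k v) (Pi.single a 1) hs1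
  have hv' : v + ((Pi.single a (1 : F) : Fin n → F) ⬝ᵥ v) • (-(v a)⁻¹ • loPart k v) = hiPart k v := by
    rw [← sub_loPart]
    ext i
    simp only [single_one_dotProduct, Pi.add_apply, Pi.smul_apply, smul_eq_mul, Pi.sub_apply]
    field_simp
    ring
  rw [hv'] at h1 h2
  refine ⟨_, _, h1, hi_hiPart k v, ?_, ⟨s, hs, ?_⟩, by rw [h2, hφv]⟩
  · intro h0
    have := congrFun h0 a
    simp [hiPart, not_lt.mpr hak, hva] at this
  · rw [add_dotProduct, smul_dotProduct, smul_dotProduct, dot_hi_lo (hi_single a hak) hs]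
    simpa using hφs

theorem stepB {k : ℕ} {H : Subgroup (GL (Fin n) F)} (hPH : Pk n k F ≤ H) {v φ : Fin n → F}
    (hT : InH H (R1 v φ)) (hv : hi k v)
    (hφ : ∃ s : Fin n → F, lo k s ∧ φ ⬝ᵥ s ≠ 0) (hφv : φ ⬝ᵥ v = 0) :
    ∃ φ' : Fin n → F, InH H (R1 v φ') ∧ lo k φ' ∧ φ' ≠ 0 := by
  obtain ⟨s, hs, hφs⟩ := hφ
  have hx : lo k ((φ ⬝ᵥ s)⁻¹ • s) := lo_smul _ hs
  have hyx : hiPart k φ ⬝ᵥ ((φ ⬝ᵥ s)⁻¹ • s) = 0 := dot_hi_lo (hi_hiPart k φ) hx
  have hs1 : 1 + hiPart k φ ⬝ᵥ ((φ ⬝ᵥ s)⁻¹ • s) ≠ 0 := by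
    rw [hyx, add_zero]; exact one_ne_zero
  have h1 := move hPH hT _ _ (Or.inl hx) hs1
  have hyv : hiPart k φ ⬝ᵥ v = 0 := by
    rw [← hφv, ← sub_eq_zero, ← sub_dotProduct]
    have : hiPart k φ - φ = - loPart k φ := by rw [← sub_hiPart]; abel
    rw [this, neg_dotProduct, dot_lo_hi (lo_loPart k φ) hv, neg_zero]
  have hφx : φ ⬝ᵥ ((φ ⬝ᵥ s)⁻¹ • s) = 1 := by
    rw [dotProduct_smul, smul_eq_mul, inv_mul_cancel₀ hφs]
  rw [hyv, zero_smul, add_zero, hyx, add_zero, hφx, one_smul, inv_one, neg_smul, one_smul,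
    ← sub_eq_add_neg, sub_hiPart] at h1
  refine ⟨_, h1, lo_loPart k φ, ?_⟩
  intro h0
  apply hφs
  have : φ ⬝ᵥ s = loPart k φ ⬝ᵥ s := by
    rw [← sub_eq_zero, ← sub_dotProduct, sub_loPart, dot_hi_lo (hi_hiPart k φ) hs]
  rw [this, h0, zero_dotProduct]

theorem stepC1 {k : ℕ} {H : Subgroup (GL (Fin n) F)} (hPH : Pk n k F ≤ H) {v φ : Fin n → F}
    (hT : InH H (R1 v φ)) (hv : hi k v) (hv0 : v ≠ 0) (hφ : lo k φ) (i : Fin n) (hi' : k ≤ (i : ℕ))
    (c : F) (hc : c ≠ 0) : InH H (R1 (c • Pi.single i 1) φ) := by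
  have hw : (c • Pi.single i 1 : Fin n → F) ≠ 0 := by
    intro h0
    have := congrFun h0 i
    simp [hc] at this
  obtain ⟨ψ, h1, h2, h3⟩ := exists_psi v (c • Pi.single i 1) hv0 hw
  have hψ : hi k ψ := by
    intro a ha
    by_contra hne
    rcases h3 a hne with h | h
    · exact h (hv a ha)
    · have : a ≠ i := by
        intro h
        rw [h] at ha
        omega
      simp [this] at h
  have hxhi : hi k (c • Pi.single i 1 - v : Fin n → F) := by
    intro a ha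
    have : a ≠ i := by
      intro h
      rw [h] at ha
      omega
    simp [this, hv a ha]
  have hs1 : 1 + ψ ⬝ᵥ (c • Pi.single i 1 - v) ≠ 0 := by
    rw [dotProduct_sub, h1]
    intro h
    apply h2
    linear_combination h
  have hm := move hPH hT (c • Pi.single i 1 - v) ψ (Or.inr hψ) hs1
  rw [h1, one_smul, dot_lo_hi hφ hxhi, zero_smul, add_zero] at hm
  have : v + (c • Pi.single i 1 - v) = (c • Pi.single i 1 : Fin n → F) := by abel
  rw [this] at hm
  exact hm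

theorem stepC2 {k : ℕ} {H : Subgroup (GL (Fin n) F)} (hPH : Pk n k F ≤ H) {v φ : Fin n → F}
    (hT : InH H (R1 v φ)) (hv : hi k v) (hφ : lo k φ) (hφ0 : φ ≠ 0) (j : Fin n) (hj : (j : ℕ) < k) :
    InH H (R1 v (Pi.single j 1)) := by
  have hw : (Pi.single j 1 : Fin n → F) ≠ 0 := by
    intro h0
    have := congrFun h0 j
    simp at this
  obtain ⟨x, h1, h2, h3⟩ := exists_psi φ (Pi.single j 1) hφ0 hw
  have hx : lo k x := by
    intro a ha
    by_contra hne
    rcases h3 a hne with h | h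
    · exact h (hφ a ha)
    · have : a ≠ j := by
        intro h
        rw [h] at ha
        omega
      simp [this] at h
  have hxj : x j ≠ 0 := by simpa using h2
  have hφx : φ ⬝ᵥ x = 1 := by rw [dotProduct_comm]; exact h1
  have hyx : ((x j)⁻¹ • (φ - Pi.single j 1)) ⬝ᵥ x = (x j)⁻¹ - 1 := by
    rw [smul_dotProduct, sub_dotProduct, hφx]
    simp only [single_one_dotProduct, smul_eq_mul]
    field_simp
  have hs1 : 1 + ((x j)⁻¹ • (φ - Pi.single j 1)) ⬝ᵥ x ≠ 0 := by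
    rw [hyx]
    simpa using hxj
  have hm := move hPH hT x ((x j)⁻¹ • (φ - Pi.single j 1)) (Or.inl hx) hs1
  have hylo : lo k ((x j)⁻¹ • (φ - Pi.single j 1)) := by
    apply lo_smul
    intro a ha
    have := lo_single (F := F) j hj a ha
    simp [hφ a ha, this]
  rw [dot_lo_hi hylo hv, zero_smul, add_zero, hφx, one_smul, hyx] at hm
  have : φ + -(1 + ((x j)⁻¹ - 1))⁻¹ • (x j)⁻¹ • (φ - Pi.single j 1) = (Pi.single j 1 : Fin n → F) := by
    ext a
    simp only [Pi.add_apply, Pi.smul_apply, smul_eq_mul, Pi.sub_apply]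
    field_simp
    ring
  rw [this] at hm
  exact hm

theorem step1 {k : ℕ} {H : Subgroup (GL (Fin n) F)} (hPH : Pk n k F ≤ H) (h : GL (Fin n) F) (hH : h ∈ H)
    (hP : h ∉ Pk n k F) :
    ∃ v φ : Fin n → F, InH H (R1 v φ) ∧ (∃ a : Fin n, k ≤ (a : ℕ) ∧ v a ≠ 0) ∧
      (∃ s : Fin n → F, lo k s ∧ φ ⬝ᵥ s ≠ 0) ∧ φ ⬝ᵥ v = 0 := by
  have hP' : h⁻¹ ∉ Pk n k F := fun hh => hP (by simpa using (Pk n k F).inv_mem hh)
  rw [stab_iff2] at hP hP'
  push Not at hP hP'
  obtain ⟨x, hx, hhx⟩ := hP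
  obtain ⟨s, hs, hhs⟩ := hP'
  unfold lo at hhx hhs
  push Not at hhx hhs
  obtain ⟨a, hak, ha⟩ := hhx
  obtain ⟨b, hbk, hb⟩ := hhs
  have hyx : (Pi.single b (1 : F) : Fin n → F) ⬝ᵥ x = 0 := dot_hi_lo (hi_single b hbk) hx
  have hs1 : 1 + (Pi.single b (1 : F) : Fin n → F) ⬝ᵥ x ≠ 0 := by
    rw [hyx, add_zero]; exact one_ne_zero
  obtain ⟨p, hp, -⟩ := exists_R1 x (Pi.single b 1) hs1
  have hpP : p ∈ Pk n k F := R1_mem_P x _ p hp (Or.inl hx)
  have hT : InH H (R1 x (Pi.single b 1)) := ⟨p, hPH hpP, hp⟩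
  have h1 := hT.conj h hH
  rw [conj_R1 _ _ (by rw [← Units.val_mul, mul_inv_cancel]; rfl)] at h1
  refine ⟨_, _, h1, ⟨a, hak, ha⟩, ⟨s, hs, ?_⟩, ?_⟩
  · rw [← Matrix.dotProduct_mulVec]
    simpa using hb
  · rw [← Matrix.dotProduct_mulVec, Matrix.mulVec_mulVec, ← Units.val_mul, inv_mul_cancel]
    simpa using hyx

theorem R1_single (i j : Fin n) (c : F) :
    R1 (c • Pi.single i 1) (Pi.single j 1) = Matrix.transvection i j c := by
  ext a b
  simp only [R1, transvection, Matrix.add_apply, vecMulVec_apply, Pi.smul_apply, smul_eq_mul,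
    Matrix.single_apply, Pi.single_apply]
  by_cases h1 : a = i <;> by_cases h2 : b = j
  · subst h1; subst h2; simp
  · subst h1
    have : ¬ j = b := fun h => h2 h.symm
    simp [h2, this]
  · subst h2
    have : ¬ i = a := fun h => h1 h.symm
    simp [h1, this]
  · have : ¬ i = a := fun h => h1 h.symm
    simp [h1, h2, this]

theorem lowerleft {k : ℕ} {H : Subgroup (GL (Fin n) F)} (hPH : Pk n k F ≤ H) (h : GL (Fin n) F) (hH : h ∈ H)
    (hP : h ∉ Pk n k F) (i j : Fin n) (hi' : k ≤ (i : ℕ)) (hj : (j : ℕ) < k) (c : F) :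
    InH H (Matrix.transvection i j c) := by
  by_cases hc : c = 0
  · rw [hc, Matrix.transvection_zero]
    exact ⟨1, H.one_mem, rfl⟩
  obtain ⟨v, φ, hT, hv, hφ, hφv⟩ := step1 hPH h hH hP
  obtain ⟨v', φ', hT', hv', hv0, hφ', hφv'⟩ := stepA hPH hT hv hφ hφv
  obtain ⟨φ'', hT'', hφ'', hφ0⟩ := stepB hPH hT' hv' hφ' hφv'
  have h1 := stepC1 hPH hT'' hv' hv0 hφ'' i hi' c hc
  have hv2 : hi k (c • Pi.single i 1 : Fin n → F) := by
    intro a ha
    have := hi_single (F := F) i hi' a ha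
    simp [this]
  have h2 := stepC2 hPH h1 hv2 hφ'' hφ0 j hj
  rwa [R1_single] at h2

theorem top_of_lt {k : ℕ} {H : Subgroup (GL (Fin n) F)} (hlt : Pk n k F < H) : H = ⊤ := by
  have hPH : Pk n k F ≤ H := hlt.le
  obtain ⟨h, hH, hP⟩ := SetLike.exists_of_lt hlt
  rw [eq_top_iff]
  intro g _
  have key : InH H (g : Matrix (Fin n) (Fin n) F) := by
    apply Matrix.diagonal_transvection_induction_of_det_ne_zero (InH H)
    · have := g.isUnit
      rw [Matrix.isUnit_iff_isUnit_det] at this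
      exact this.ne_zero
    · intro D hD
      refine ⟨GeneralLinearGroup.mkOfDetNeZero _ hD, hPH ?_, rfl⟩
      rw [Cfsg.Agent.S0771.stab_iff]
      intro i j hi hj
      have : i ≠ j := by
        intro h
        rw [h] at hi
        omega
      exact Matrix.diagonal_apply_ne _ this
    · intro t
      by_cases hij : k ≤ (t.i : ℕ) ∧ (t.j : ℕ) < k
      · exact lowerleft hPH h hH hP t.i t.j hij.1 hij.2 t.c
      · refine ⟨GeneralLinearGroup.mkOfDetNeZero t.toMatrix (by rw [TransvectionStruct.det]; exact one_ne_zero),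
          hPH ?_, rfl⟩
        rw [Cfsg.Agent.S0771.stab_iff]
        intro a b ha hb
        have hab : a ≠ b := by
          intro h
          rw [h] at ha
          omega
        show t.toMatrix a b = 0
        rw [TransvectionStruct.toMatrix, transvection, Matrix.add_apply, Matrix.one_apply_ne hab,
          Matrix.single_apply, zero_add]
        rw [if_neg]
        rintro ⟨h1, h2⟩
        apply hij
        rw [h1, h2]
        exact ⟨ha, hb⟩
    · rintro A B - - ⟨a, ha, rfl⟩ ⟨b, hb, rfl⟩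
      exact ⟨a * b, H.mul_mem ha hb, rfl⟩
  obtain ⟨g', hg', hgg⟩ := key
  rw [← Units.ext hgg]
  exact hg'

theorem ne_top (k : ℕ) (hk0 : 0 < k) (hkn : k < n) : Pk n k F ≠ ⊤ := by
  intro htop
  have hn : 0 < n := by omega
  let i0 : Fin n := ⟨n - 1, by omega⟩
  let j0 : Fin n := ⟨0, hn⟩
  have hne : i0 ≠ j0 := by
    intro h
    have := congrArg Fin.val h
    simp [i0, j0] at this
    omega
  have hmem : GeneralLinearGroup.mkOfDetNeZero (Matrix.transvection i0 j0 (1 : F))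
      (by rw [Matrix.det_transvection_of_ne _ _ hne]; exact one_ne_zero) ∈ Pk n k F := by
    rw [htop]; trivial
  rw [Cfsg.Agent.S0771.stab_iff] at hmem
  have := hmem i0 j0 (by simp [i0]; omega) (by simp [j0]; omega)
  change Matrix.transvection i0 j0 (1 : F) i0 j0 = 0 at this
  rw [transvection, Matrix.add_apply, Matrix.one_apply_ne hne, Matrix.single_apply_same, zero_add] at this
  exact one_ne_zero this

theorem main (k : ℕ) (hk0 : 0 < k) (hkn : k < n) :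
    IsCoatom (Cfsg.stabilizing (Cfsg.glToMat (Fin n) F) {v : Fin n → F | ∀ i : Fin n, k ≤ (i : ℕ) → v i = 0}) :=
  ⟨ne_top k hk0 hkn, fun _ hlt => top_of_lt hlt⟩


/-- Maximal parabolics are maximal: over a finite field, for 0 < k < n the stabiliser in GL_n of the span of the first k coordinate vectors is a maximal proper subgroup. -/
theorem result {F : Type*} [Field F] [Finite F] (n k : ℕ) (hk0 : 0 < k) (hkn : k < n) : IsCoatom (Cfsg.stabilizing (Cfsg.glToMat (Fin n) F) {v : Fin n → F | ∀ i : Fin n, k ≤ (i : ℕ) → v i = 0}) := by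
  exact main k hk0 hkn

end Cfsg.Agent.S0772
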