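import Cfsg.Statements.S0773
import Mathlib
import Cfsg.Statements.S0773
import Cfsg.Agent.S0772

set_option autoImplicit false
open Cfsg

namespace Cfsg.Agent.S0773

open Matrix

variable {F : Type*} [Field F] {n : ℕ}

open Cfsg.Agent.S0772 (Pk)

/-- inverse-transpose composed with the reversal of coordinates -/
def theta : GL (Fin n) F →* GL (Fin n) F where
  toFun g := ⟨(((g⁻¹ : GL (Fin n) F) : Matrix (Fin n) (Fin n) F).submatrix Fin.revPerm Fin.revPerm)ᵀ,
    ((g : Matrix (Fin n) (Fin n) F).submatrix Fin.revPerm Fin.revPerm)ᵀ, by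
      rw [← Matrix.transpose_mul, Matrix.submatrix_mul_equiv, ← Units.val_mul, mul_inv_cancel]
      simp, by
      rw [← Matrix.transpose_mul, Matrix.submatrix_mul_equiv, ← Units.val_mul, inv_mul_cancel]
      simp⟩
  map_one' := by
    apply Units.ext
    simp
  map_mul' g h := by
    apply Units.ext
    simp only [_root_.mul_inv_rev, Units.val_mul]
    rw [← Matrix.transpose_mul, Matrix.submatrix_mul_equiv]

theorem theta_apply (g : GL (Fin n) F) (a b : Fin n) :
    (theta g : Matrix (Fin n) (Fin n) F) a b = ((g⁻¹ : GL (Fin n) F) : Matrix (Fin n) (Fin n) F) b.rev a.rev := rfl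

theorem theta_theta (g : GL (Fin n) F) : theta (theta g) = g := by
  apply Units.ext
  ext a b
  rw [theta_apply]
  show (((theta g)⁻¹ : GL (Fin n) F) : Matrix (Fin n) (Fin n) F) b.rev a.rev = _
  show ((g : Matrix (Fin n) (Fin n) F).submatrix Fin.revPerm Fin.revPerm)ᵀ b.rev a.rev = _
  simp

theorem theta_mem {j j' : ℕ} (hjj : j + j' = n) (g : GL (Fin n) F) (hg : g ∈ Pk n j F) :
    theta g ∈ Pk n j' F := by
  have hg' : g⁻¹ ∈ Pk n j F := (Pk n j F).inv_mem hg
  rw [Cfsg.Agent.S0771.stab_iff] at hg' ⊢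
  intro a b ha hb
  rw [theta_apply]
  apply hg'
  · rw [Fin.val_rev]; omega
  · rw [Fin.val_rev]; omega

def thetaRes {j j' : ℕ} (hjj : j + j' = n) : ↥(Pk n j F) →* ↥(Pk n j' F) :=
  (theta.comp (Pk n j F).subtype).codRestrict (Pk n j' F) (fun g => theta_mem hjj g.1 g.2)

theorem iso_part {j j' : ℕ} (hjj : j + j' = n) : Nonempty (↥(Pk n j F) ≃* ↥(Pk n j' F)) := by
  refine ⟨MonoidHom.toMulEquiv (thetaRes hjj) (thetaRes (by omega)) ?_ ?_⟩
  · ext g : 2
    exact theta_theta g.1
  · ext g : 2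
    exact theta_theta g.1

open Cfsg.Agent.S0771 (cS)
open Cfsg.Agent.S0772 (stab_iff2 lo)

theorem mem_cS {k : ℕ} (v : Fin n → F) : v ∈ cS (F := F) n k ↔ ∀ i : Fin n, k ≤ (i : ℕ) → v i = 0 := Iff.rfl

theorem cS_lt {j j' : ℕ} (h : j < j') (h' : j' ≤ n) : cS (F := F) n j < cS (F := F) n j' := by
  rw [lt_iff_le_and_ne]
  constructor
  · intro v hv i hi
    exact hv i (by omega)
  · intro heq
    have h1 : (Pi.single (⟨j, by omega⟩ : Fin n) (1 : F) : Fin n → F) ∈ cS (F := F) n j' := by
      intro i hi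
      have : i ≠ ⟨j, by omega⟩ := by
        intro h0
        rw [h0] at hi
        simp at hi
        omega
      simp [this]
    rw [← heq] at h1
    have := h1 ⟨j, by omega⟩ (le_refl _)
    simp at this

theorem finrank_cS_lt {j j' : ℕ} (h : j < j') (h' : j' ≤ n) :
    Module.finrank F (cS (F := F) n j) < Module.finrank F (cS (F := F) n j') :=
  Submodule.finrank_lt_finrank_of_lt (cS_lt h h')

theorem trans_mem_P {j : ℕ} (a b : Fin n) (hab : a ≠ b) (h : ¬ (j ≤ (a : ℕ) ∧ (b : ℕ) < j)) :
    GeneralLinearGroup.mkOfDetNeZero (Matrix.transvection a b (1 : F))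
      (by rw [Matrix.det_transvection_of_ne _ _ hab]; exact one_ne_zero) ∈ Pk n j F := by
  rw [Cfsg.Agent.S0771.stab_iff]
  intro a' b' ha hb
  have hab' : a' ≠ b' := by
    intro h0
    rw [h0] at ha
    omega
  show Matrix.transvection a b (1 : F) a' b' = 0
  rw [transvection, Matrix.add_apply, Matrix.one_apply_ne hab', Matrix.single_apply, zero_add, if_neg]
  rintro ⟨h1, h2⟩
  apply h
  rw [h1, h2]
  exact ⟨ha, hb⟩

theorem inv_sub {j : ℕ} (hj : j ≤ n) (U : Submodule F (Fin n → F))
    (hU : ∀ p ∈ Pk n j F, ∀ u ∈ U, (p : Matrix (Fin n) (Fin n) F) *ᵥ u ∈ U) :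
    U = cS (F := F) n 0 ∨ U = cS (F := F) n j ∨ U = cS (F := F) n n := by
  -- key step
  have key : ∀ u ∈ U, ∀ b : Fin n, u b ≠ 0 → (∀ a : Fin n, (j ≤ (a : ℕ) ∧ (b : ℕ) < j) → u a = 0) →
      ∀ a : Fin n, ¬ (j ≤ (a : ℕ) ∧ (b : ℕ) < j) → (Pi.single a (1 : F) : Fin n → F) ∈ U := by
    intro u hu b hub hzero
    have h1 : ∀ a : Fin n, a ≠ b → ¬ (j ≤ (a : ℕ) ∧ (b : ℕ) < j) → (Pi.single a (1 : F) : Fin n → F) ∈ U := by
      intro a hab hallow
      have h2 := hU _ (trans_mem_P a b hab hallow) u hu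
      have h3 : (GeneralLinearGroup.mkOfDetNeZero (Matrix.transvection a b (1 : F))
          (by rw [Matrix.det_transvection_of_ne _ _ hab]; exact one_ne_zero) : Matrix (Fin n) (Fin n) F) *ᵥ u
          = u + u b • (Pi.single a (1 : F) : Fin n → F) := by
        show Matrix.transvection a b (1 : F) *ᵥ u = _
        rw [transvection, Matrix.add_mulVec, Matrix.one_mulVec]
        congr 1
        ext i
        simp [Matrix.single_mulVec, Pi.single_apply, Function.update_apply]
      rw [h3] at h2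
      have h4 := U.sub_mem h2 hu
      rw [add_sub_cancel_left] at h4
      have h5 := U.smul_mem (u b)⁻¹ h4
      rwa [smul_smul, inv_mul_cancel₀ hub, one_smul] at h5
    have h2 : ∀ a : Fin n, a ≠ b → u a • (Pi.single a (1 : F) : Fin n → F) ∈ U := by
      intro a hab
      by_cases hallow : j ≤ (a : ℕ) ∧ (b : ℕ) < j
      · rw [hzero a hallow, zero_smul]
        exact U.zero_mem
      · exact U.smul_mem _ (h1 a hab hallow)
    intro a hallow
    by_cases hab : a = b
    · have h3 : u b • (Pi.single b (1 : F) : Fin n → F) ∈ U := by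
        have h4 : u = ∑ a, u a • (Pi.single a (1 : F) : Fin n → F) := by
          ext i
          simp [Finset.sum_apply, Pi.single_apply]
        have h5 := Finset.add_sum_erase Finset.univ (fun a => u a • (Pi.single a (1 : F) : Fin n → F))
          (Finset.mem_univ b)
        have h6 : ∑ x ∈ Finset.univ.erase b, u x • (Pi.single x (1 : F) : Fin n → F) ∈ U := by
          apply U.sum_mem
          intro x hx
          exact h2 x (Finset.ne_of_mem_erase hx)
        have h7 := U.sub_mem hu h6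
        have h8 : u - ∑ x ∈ Finset.univ.erase b, u x • (Pi.single x (1 : F) : Fin n → F)
            = u b • (Pi.single b (1 : F) : Fin n → F) := by
          rw [sub_eq_iff_eq_add, h5]
          exact h4
        rwa [h8] at h7
      have h5 := U.smul_mem (u b)⁻¹ h3
      rw [smul_smul, inv_mul_cancel₀ hub, one_smul] at h5
      rw [hab]; exact h5
    · exact h1 a hab hallow
  by_cases hbot : U = ⊥
  · left
    rw [hbot]
    ext v
    rw [Submodule.mem_bot, mem_cS]
    constructor
    · intro h; simp [h]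
    · intro h; funext i; exact h i (Nat.zero_le _)
  right
  by_cases hle : U ≤ cS (F := F) n j
  · left
    apply le_antisymm hle
    obtain ⟨u, hu, hu0⟩ := (Submodule.ne_bot_iff _).mp hbot
    obtain ⟨b, hb⟩ : ∃ b, u b ≠ 0 := by
      by_contra h
      push Not at h
      exact hu0 (funext h)
    have hbj : (b : ℕ) < j := by
      by_contra h
      exact hb (hle hu b (by omega))
    have hall := key u hu b hb (fun a ha => hle hu a ha.1)
    intro w hw
    have h4 : w = ∑ a, w a • (Pi.single a (1 : F) : Fin n → F) := by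
      ext i
      simp [Finset.sum_apply, Pi.single_apply]
    rw [h4]
    apply U.sum_mem
    intro a _
    by_cases haj : j ≤ (a : ℕ)
    · rw [hw a haj, zero_smul]; exact U.zero_mem
    · exact U.smul_mem _ (hall a (fun h => haj h.1))
  · right
    rw [SetLike.not_le_iff_exists] at hle
    obtain ⟨u, hu, hunot⟩ := hle
    rw [mem_cS] at hunot
    push Not at hunot
    obtain ⟨b, hbj, hb⟩ := hunot
    have hall := key u hu b hb (fun a ha => by omega)
    ext w
    constructor
    · intro _ i hi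
      have := i.2
      omega
    · intro _
      have h4 : w = ∑ a, w a • (Pi.single a (1 : F) : Fin n → F) := by
        ext i
        simp [Finset.sum_apply, Pi.single_apply]
      rw [h4]
      apply U.sum_mem
      intro a _
      exact U.smul_mem _ (hall a (fun h => by omega))

theorem not_conj (k : ℕ) (hk0 : 0 < k) (hkn : k < n) (h2 : 2 * k ≠ n) (g : GL (Fin n) F) :
    (Pk n k F).map (MulAut.conj g).toMonoidHom ≠ Pk n (n - k) F := by
  intro heq
  let U : Submodule F (Fin n → F) := (cS (F := F) n k).map (Matrix.toLin' (g : Matrix (Fin n) (Fin n) F))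
  have hU : ∀ p ∈ Pk n (n - k) F, ∀ u ∈ U, (p : Matrix (Fin n) (Fin n) F) *ᵥ u ∈ U := by
    intro p hp u hu
    rw [← heq] at hp
    obtain ⟨p', hp', rfl⟩ := hp
    obtain ⟨s, hs, rfl⟩ := hu
    refine ⟨(p' : Matrix (Fin n) (Fin n) F) *ᵥ s, (stab_iff2 k p').mp hp' s hs, ?_⟩
    simp only [Matrix.toLin'_apply, MulEquiv.coe_toMonoidHom, MulAut.conj_apply, Units.val_mul,
      Matrix.mulVec_mulVec]
    congr 1
    rw [Matrix.mul_assoc, ← Units.val_mul g⁻¹ g, inv_mul_cancel, Units.val_one, Matrix.mul_one]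
  have hfr : Module.finrank F U = Module.finrank F (cS (F := F) n k) := by
    have hinj : Function.Injective (Matrix.toLin' (g : Matrix (Fin n) (Fin n) F)) := by
      intro x y hxy
      have h1 : (g : Matrix (Fin n) (Fin n) F) *ᵥ x = (g : Matrix (Fin n) (Fin n) F) *ᵥ y := by
        simpa [Matrix.toLin'_apply] using hxy
      have h2 := congrArg (fun w => ((g⁻¹ : GL (Fin n) F) : Matrix (Fin n) (Fin n) F) *ᵥ w) h1
      simpa [Matrix.mulVec_mulVec, ← Units.val_mul] using h2
    exact (LinearEquiv.finrank_eq (Submodule.equivMapOfInjective _ hinj (cS (F := F) n k))).symm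
  rcases inv_sub (by omega) U hU with h | h | h
  · have := finrank_cS_lt (F := F) (n := n) hk0 hkn.le
    rw [← h, hfr] at this
    exact lt_irrefl _ this
  · rcases lt_or_gt_of_ne (show k ≠ n - k by omega) with h3 | h3
    · have := finrank_cS_lt (F := F) (n := n) h3 (by omega)
      rw [← h, hfr] at this
      exact lt_irrefl _ this
    · have := finrank_cS_lt (F := F) (n := n) h3 (by omega)
      rw [← h, hfr] at this
      exact lt_irrefl _ this
  · have := finrank_cS_lt (F := F) (n := n) hkn (le_refl n)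
    rw [← h, hfr] at this
    exact lt_irrefl _ this

theorem main (k : ℕ) (hk0 : 0 < k) (hkn : k < n) (h2 : 2 * k ≠ n) :
    Nonempty (↥(Cfsg.stabilizing (Cfsg.glToMat (Fin n) F) {v : Fin n → F | ∀ i : Fin n, k ≤ (i : ℕ) → v i = 0}) ≃* ↥(Cfsg.stabilizing (Cfsg.glToMat (Fin n) F) {v : Fin n → F | ∀ i : Fin n, n - k ≤ (i : ℕ) → v i = 0})) ∧ ∀ g : Matrix.GeneralLinearGroup (Fin n) F, (Cfsg.stabilizing (Cfsg.glToMat (Fin n) F) {v : Fin n → F | ∀ i : Fin n, k ≤ (i : ℕ) → v i = 0}).map (MulAut.conj g).toMonoidHom ≠ Cfsg.stabilizing (Cfsg.glToMat (Fin n) F) {v : Fin n → F | ∀ i : Fin n, n - k ≤ (i : ℕ) → v i = 0} :=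
  ⟨iso_part (by omega), fun g => not_conj k hk0 hkn h2 g⟩


/-- The stabilisers in GL_n(F), F finite, of the coordinate subspaces of dimensions k and n − k are isomorphic groups, but when 2k ≠ n (and 0 < k < n) no element of GL_n conjugates one onto the other. -/
theorem result {F : Type*} [Field F] [Finite F] (n k : ℕ) (hk0 : 0 < k) (hkn : k < n) (h2 : 2 * k ≠ n) : Nonempty (↥(Cfsg.stabilizing (Cfsg.glToMat (Fin n) F) {v : Fin n → F | ∀ i : Fin n, k ≤ (i : ℕ) → v i = 0}) ≃* ↥(Cfsg.stabilizing (Cfsg.glToMat (Fin n) F) {v : Fin n → F | ∀ i : Fin n, n - k ≤ (i : ℕ) → v i = 0})) ∧ ∀ g : Matrix.GeneralLinearGroup (Fin n) F, (Cfsg.stabilizing (Cfsg.glToMat (Fin n) F) {v : Fin n → F | ∀ i : Fin n, k ≤ (i : ℕ) → v i = 0}).map (MulAut.conj g).toMonoidHom ≠ Cfsg.stabilizing (Cfsg.glToMat (Fin n) F) {v : Fin n → F | ∀ i : Fin n, n - k ≤ (i : ℕ) → v i = 0} := by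
  exact main k hk0 hkn h2

end Cfsg.Agent.S0773
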