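import Cfsg.Statements.S0774
import Mathlib
import Cfsg.Statements.S0774
import Cfsg.Agent.S0769

set_option autoImplicit false
open Cfsg

namespace Cfsg.Agent.S0774

open Matrix

variable {F : Type*} [Field F] {m : ℕ}

/-- forward invariance of a subspace under an invertible matrix gives the `iff` -/
theorem mem_iff_of_forward {ι : Type} [Fintype ι] [DecidableEq ι] (M M' : Matrix ι ι F) (hM : M' * M = 1)
    (S : Submodule F (ι → F)) (h : ∀ v ∈ S, M *ᵥ v ∈ S) : ∀ v, v ∈ S ↔ M *ᵥ v ∈ S := by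
  have hinj : Function.Injective (M.mulVecLin) := by
    intro x y hxy
    have h1 : M *ᵥ x = M *ᵥ y := hxy
    have h2 := congrArg (fun w => M' *ᵥ w) h1
    simpa [Matrix.mulVec_mulVec, hM] using h2
  let r := (M.mulVecLin).restrict h
  have hrinj : Function.Injective r := by
    intro x y hxy
    apply Subtype.ext
    apply hinj
    exact congrArg Subtype.val hxy
  have hrsurj : Function.Surjective r := LinearMap.surjective_of_injective hrinj
  intro v
  constructor
  · exact h v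
  · intro hv
    obtain ⟨w, hw⟩ := hrsurj ⟨_, hv⟩
    have h1 : M.mulVecLin (w : ι → F) = M.mulVecLin v := congrArg Subtype.val hw
    rw [← hinj h1]
    exact w.2

/-- the flag subspaces -/
def flagS (m : ℕ) (F : Type*) [Field F] (k : Fin m) : Submodule F (Fin m ⊕ Fin m → F) where
  carrier := {v | (∀ i : Fin m, (k : ℕ) < (i : ℕ) → v (Sum.inl i) = 0) ∧ ∀ i : Fin m, v (Sum.inr i) = 0}
  add_mem' := by
    rintro a b ⟨ha1, ha2⟩ ⟨hb1, hb2⟩
    exact ⟨fun i hi => by simp [ha1 i hi, hb1 i hi], fun i => by simp [ha2 i, hb2 i]⟩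
  zero_mem' := ⟨fun _ _ => rfl, fun _ => rfl⟩
  smul_mem' := by
    rintro c a ⟨ha1, ha2⟩
    exact ⟨fun i hi => by simp [ha1 i hi], fun i => by simp [ha2 i]⟩

theorem borel_iff (g : Matrix.symplecticGroup (Fin m) F) :
    g ∈ (⨅ k : Fin m, Cfsg.stabilizing (Cfsg.spToMat m F) {v : Fin m ⊕ Fin m → F |
      (∀ i : Fin m, (k : ℕ) < (i : ℕ) → v (Sum.inl i) = 0) ∧ ∀ i : Fin m, v (Sum.inr i) = 0}) ↔
    (g.1.toBlocks₂₁ = 0 ∧ ∀ i j : Fin m, j < i → g.1.toBlocks₁₁ i j = 0) := by
  rw [Subgroup.mem_iInf]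
  constructor
  · intro h
    constructor
    · ext i j
      have h1 := (h j (Pi.single (Sum.inl j) 1)).mp ⟨fun i hi => by
        have : i ≠ j := by
          intro h0
          rw [h0] at hi
          exact lt_irrefl _ hi
        simp [this], fun i => by simp⟩
      have := h1.2 i
      show g.1 (Sum.inr i) (Sum.inl j) = 0
      simpa using this
    · intro i j hji
      have h1 := (h j (Pi.single (Sum.inl j) 1)).mp ⟨fun i hi => by
        have : i ≠ j := by
          intro h0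
          rw [h0] at hi
          exact lt_irrefl _ hi
        simp [this], fun i => by simp⟩
      have := h1.1 i hji
      show g.1 (Sum.inl i) (Sum.inl j) = 0
      simpa using this
  · rintro ⟨hC, hA⟩ k
    have hginv : (g⁻¹ : Matrix.symplecticGroup (Fin m) F).1 * g.1 = 1 := congrArg Subtype.val (inv_mul_cancel g)
    apply mem_iff_of_forward g.1 _ hginv (flagS m F k)
    rintro v ⟨hv1, hv2⟩
    have hsum : ∀ s : Fin m ⊕ Fin m, (g.1 *ᵥ v) s = ∑ j : Fin m, g.1 s (Sum.inl j) * v (Sum.inl j) := by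
      intro s
      rw [Matrix.mulVec, dotProduct, Fintype.sum_sum_type]
      simp [hv2]
    constructor
    · intro i hi
      rw [hsum]
      apply Finset.sum_eq_zero
      intro j _
      by_cases hj : (k : ℕ) < (j : ℕ)
      · rw [hv1 j hj, mul_zero]
      · have : j < i := by
          rw [Fin.lt_def]; omega
        have h2 : g.1 (Sum.inl i) (Sum.inl j) = 0 := hA i j this
        rw [h2, zero_mul]
    · intro i
      rw [hsum]
      apply Finset.sum_eq_zero
      intro j _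
      have h2 : g.1 (Sum.inr i) (Sum.inl j) = 0 := congrFun (congrFun hC i) j
      rw [h2, zero_mul]

theorem sp_block_iff (A B D : Matrix (Fin m) (Fin m) F) :
    fromBlocks A B 0 D ∈ Matrix.symplecticGroup (Fin m) F ↔ A * Dᵀ = 1 ∧ A * Bᵀ = B * Aᵀ := by
  rw [SymplecticGroup.mem_iff]
  unfold Matrix.J
  rw [Matrix.fromBlocks_transpose, Matrix.fromBlocks_multiply, Matrix.fromBlocks_multiply,
    Matrix.fromBlocks_inj]
  simp only [Matrix.mul_zero, Matrix.mul_one, Matrix.mul_neg, zero_add, add_zero, Matrix.transpose_zero,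
    Matrix.neg_mul, Matrix.zero_mul, neg_zero]
  constructor
  · rintro ⟨h1, h2, h3, -⟩
    refine ⟨neg_injective h2, ?_⟩
    have := sub_eq_zero.mp ((sub_eq_add_neg (B * Aᵀ) (A * Bᵀ)).trans h1)
    exact this.symm
  · rintro ⟨h1, h2⟩
    refine ⟨?_, by rw [h1], ?_, trivial⟩
    · rw [h2]; exact add_neg_cancel _
    · have := congrArg Matrix.transpose h1
      rw [Matrix.transpose_mul, Matrix.transpose_transpose, Matrix.transpose_one] at this
      exact this

abbrev BorelSp (m : ℕ) (F : Type*) [Field F] : Subgroup (Matrix.symplecticGroup (Fin m) F) :=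
  ⨅ k : Fin m, Cfsg.stabilizing (Cfsg.spToMat m F) {v : Fin m ⊕ Fin m → F |
      (∀ i : Fin m, (k : ℕ) < (i : ℕ) → v (Sum.inl i) = 0) ∧ ∀ i : Fin m, v (Sum.inr i) = 0}

theorem borel_props (g : Matrix.symplecticGroup (Fin m) F) (hg : g ∈ BorelSp m F) :
    g.1 = fromBlocks g.1.toBlocks₁₁ g.1.toBlocks₁₂ 0 g.1.toBlocks₂₂ ∧
    (∀ i j : Fin m, j < i → g.1.toBlocks₁₁ i j = 0) ∧
    g.1.toBlocks₁₁ * g.1.toBlocks₂₂ᵀ = 1 ∧
    g.1.toBlocks₁₁ * g.1.toBlocks₁₂ᵀ = g.1.toBlocks₁₂ * g.1.toBlocks₁₁ᵀ := by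
  obtain ⟨hC, hA⟩ := (borel_iff g).mp hg
  have h1 : g.1 = fromBlocks g.1.toBlocks₁₁ g.1.toBlocks₁₂ 0 g.1.toBlocks₂₂ := by
    conv_lhs => rw [← Matrix.fromBlocks_toBlocks g.1, hC]
  have h2 := g.2
  rw [h1, sp_block_iff] at h2
  exact ⟨h1, hA, h2.1, h2.2⟩

noncomputable def borelEquiv (m : ℕ) (F : Type*) [Field F] :
    ↥(BorelSp m F) ≃
      {g : Matrix.GeneralLinearGroup (Fin m) F // ∀ i j : Fin m, i < j → (g : Matrix (Fin m) (Fin m) F) i j = 0} ×
      {S : Matrix (Fin m) (Fin m) F // Sᵀ = S} where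
  toFun g :=
    (⟨⟨g.1.1.toBlocks₁₁ᵀ, g.1.1.toBlocks₂₂,
        by
          have h := (borel_props g.1 g.2).2.2.1
          have h' := congrArg Matrix.transpose h
          rw [Matrix.transpose_mul, Matrix.transpose_transpose, Matrix.transpose_one] at h'
          exact (Matrix.mul_eq_one_comm_of_card_eq (Fin m) (Fin m) F rfl).mp h',
        by
          have h := (borel_props g.1 g.2).2.2.1
          have h' := congrArg Matrix.transpose h
          rw [Matrix.transpose_mul, Matrix.transpose_transpose, Matrix.transpose_one] at h'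
          exact h'⟩,
      fun i j hij => (borel_props g.1 g.2).2.1 j i hij⟩,
     ⟨g.1.1.toBlocks₁₁ * g.1.1.toBlocks₁₂ᵀ, by
        rw [Matrix.transpose_mul, Matrix.transpose_transpose]
        exact ((borel_props g.1 g.2).2.2.2).symm⟩)
  invFun x :=
    ⟨⟨fromBlocks (x.1.1 : Matrix (Fin m) (Fin m) F)ᵀ (x.2.1 * ((x.1.1⁻¹ : GL (Fin m) F) : Matrix (Fin m) (Fin m) F)) 0
        ((x.1.1⁻¹ : GL (Fin m) F) : Matrix (Fin m) (Fin m) F), by
        rw [sp_block_iff]
        constructor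
        · rw [← Matrix.transpose_mul, ← Units.val_mul, inv_mul_cancel]
          simp
        · rw [Matrix.transpose_mul, ← Matrix.mul_assoc, ← Matrix.transpose_mul, ← Units.val_mul, inv_mul_cancel,
            Matrix.transpose_transpose, Matrix.mul_assoc, ← Units.val_mul, inv_mul_cancel, x.2.2]
          simp⟩, by
      rw [borel_iff]
      constructor
      · simp
      · intro i j hji
        show (x.1.1 : Matrix (Fin m) (Fin m) F)ᵀ i j = 0
        rw [Matrix.transpose_apply]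
        exact x.1.2 j i hji⟩
  left_inv g := by
    apply Subtype.ext
    apply Subtype.ext
    obtain ⟨h1, -, h3, h4⟩ := borel_props g.1 g.2
    show fromBlocks (g.1.1.toBlocks₁₁ᵀ)ᵀ (g.1.1.toBlocks₁₁ * g.1.1.toBlocks₁₂ᵀ * g.1.1.toBlocks₂₂) 0 g.1.1.toBlocks₂₂
      = g.1.1
    conv_rhs => rw [h1]
    rw [Matrix.transpose_transpose, h4, Matrix.mul_assoc]
    have h' := congrArg Matrix.transpose h3
    rw [Matrix.transpose_mul, Matrix.transpose_transpose, Matrix.transpose_one] at h'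
    have h'' := (Matrix.mul_eq_one_comm_of_card_eq (Fin m) (Fin m) F rfl).mp h'
    rw [h'', Matrix.mul_one]
  right_inv x := by
    obtain ⟨⟨L, hL⟩, ⟨S, hS⟩⟩ := x
    apply Prod.ext
    · apply Subtype.ext
      apply Units.ext
      show ((fromBlocks (L : Matrix (Fin m) (Fin m) F)ᵀ (S * ((L⁻¹ : GL (Fin m) F) : Matrix (Fin m) (Fin m) F)) 0
        ((L⁻¹ : GL (Fin m) F) : Matrix (Fin m) (Fin m) F)).toBlocks₁₁)ᵀ = L
      rw [Matrix.toBlocks_fromBlocks₁₁, Matrix.transpose_transpose]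
    · apply Subtype.ext
      show (fromBlocks (L : Matrix (Fin m) (Fin m) F)ᵀ (S * ((L⁻¹ : GL (Fin m) F) : Matrix (Fin m) (Fin m) F)) 0
        ((L⁻¹ : GL (Fin m) F) : Matrix (Fin m) (Fin m) F)).toBlocks₁₁ *
        ((fromBlocks (L : Matrix (Fin m) (Fin m) F)ᵀ (S * ((L⁻¹ : GL (Fin m) F) : Matrix (Fin m) (Fin m) F)) 0
        ((L⁻¹ : GL (Fin m) F) : Matrix (Fin m) (Fin m) F)).toBlocks₁₂)ᵀ = S
      rw [Matrix.toBlocks_fromBlocks₁₁, Matrix.toBlocks_fromBlocks₁₂, Matrix.transpose_mul, ← Matrix.mul_assoc,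
        ← Matrix.transpose_mul, ← Units.val_mul, inv_mul_cancel, hS]
      simp

theorem cardLe (n : ℕ) : Fintype.card {p : Fin n × Fin n // p.2 ≤ p.1} = n * (n + 1) / 2 := by
  rw [Fintype.card_subtype, Finset.card_filter, Fintype.sum_prod_type]
  have : ∀ i : Fin n, (∑ j : Fin n, if j ≤ i then 1 else 0) = (i : ℕ) + 1 := by
    intro i
    rw [← Finset.card_filter]
    have : (Finset.univ.filter (fun j : Fin n => j ≤ i)) = Finset.Iic i := by
      ext j; simp
    rw [this, Fin.card_Iic]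
  simp only [this]
  rw [Fin.sum_univ_eq_sum_range (fun i => i + 1) n]
  have h2 := Finset.sum_range_id_mul_two (n + 1)
  have h3 : ∑ x ∈ Finset.range n, (x + 1) = ∑ i ∈ Finset.range (n + 1), i := by
    rw [Finset.sum_range_succ' (fun i => i) n]
    simp
  rw [h3]
  simp only [Nat.add_sub_cancel] at h2
  have h4 : n * (n + 1) = (∑ i ∈ Finset.range (n + 1), i) * 2 := by rw [h2, mul_comm]
  rw [h4, Nat.mul_div_cancel _ (by norm_num : 0 < 2)]

def symEquiv (n : ℕ) (F : Type*) [Field F] :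
    {S : Matrix (Fin n) (Fin n) F // Sᵀ = S} ≃ ({p : Fin n × Fin n // p.2 ≤ p.1} → F) where
  toFun S := fun p => S.1 p.1.1 p.1.2
  invFun f := ⟨Matrix.of (fun i j => if h : j ≤ i then f ⟨(i, j), h⟩ else f ⟨(j, i), le_of_lt (not_le.mp h)⟩), by
    ext i j
    rw [Matrix.transpose_apply, Matrix.of_apply, Matrix.of_apply]
    by_cases h1 : j ≤ i
    · by_cases h2 : i ≤ j
      · have : i = j := le_antisymm h2 h1
        subst this
        rfl
      · rw [dif_pos h1, dif_neg h2]
    · have h2 : i ≤ j := le_of_lt (not_le.mp h1)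
      rw [dif_neg h1, dif_pos h2]⟩
  left_inv S := by
    apply Subtype.ext
    ext i j
    show (if h : j ≤ i then S.1 i j else S.1 j i) = S.1 i j
    by_cases h : j ≤ i
    · rw [dif_pos h]
    · rw [dif_neg h]
      have := congrFun (congrFun S.2 i) j
      rw [Matrix.transpose_apply] at this
      exact this
  right_inv f := by
    funext p
    show (if h : p.1.2 ≤ p.1.1 then f ⟨(p.1.1, p.1.2), h⟩ else _) = f p
    rw [dif_pos p.2]

theorem main [Fintype F] {q : ℕ} (hF : Fintype.card F = q) (m : ℕ) :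
    Nat.card ↥(⨅ k : Fin m, Cfsg.stabilizing (Cfsg.spToMat m F) {v : Fin m ⊕ Fin m → F | (∀ i : Fin m, (k : ℕ) < (i : ℕ) → v (Sum.inl i) = 0) ∧ ∀ i : Fin m, v (Sum.inr i) = 0}) = q ^ (m ^ 2) * (q - 1) ^ m := by
  classical
  rw [Nat.card_congr (borelEquiv m F), Nat.card_prod, Cfsg.Agent.S0769.result hF m, Nat.card_congr (symEquiv m F),
    Nat.card_eq_fintype_card, Fintype.card_fun, cardLe, hF]
  have h1 : m * (m - 1) / 2 + m * (m + 1) / 2 = m ^ 2 := by
    have e1 : 2 ∣ m * (m - 1) := (Nat.even_mul_pred_self m).two_dvd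
    have e2 : 2 ∣ m * (m + 1) := (Nat.even_mul_succ_self m).two_dvd
    obtain ⟨a, ha⟩ := e1
    obtain ⟨b, hb⟩ := e2
    rw [ha, hb, Nat.mul_div_cancel_left _ (by norm_num : 0 < 2), Nat.mul_div_cancel_left _ (by norm_num : 0 < 2)]
    rcases m with _ | k
    · simp at ha hb; omega
    · simp only [Nat.add_sub_cancel] at ha
      nlinarith
  rw [← h1, pow_add]
  ring


/-- Borel subgroup of the symplectic group: the elements of Sp_2m(q) stabilising each of the totally isotropic coordinate subspaces ⟨e_0, ..., e_k⟩ (k < m) form a subgroup of order q^(m²) (q − 1)^m. -/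
theorem result {F : Type*} [Field F] [Fintype F] {q : ℕ} (hF : Fintype.card F = q) (m : ℕ) : Nat.card ↥(⨅ k : Fin m, Cfsg.stabilizing (Cfsg.spToMat m F) {v : Fin m ⊕ Fin m → F | (∀ i : Fin m, (k : ℕ) < (i : ℕ) → v (Sum.inl i) = 0) ∧ ∀ i : Fin m, v (Sum.inr i) = 0}) = q ^ (m ^ 2) * (q - 1) ^ m := by
  exact main hF m

end Cfsg.Agent.S0774
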