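import Cfsg.Statements.S0776
import Mathlib
import Cfsg.Statements.S0776
import Cfsg.Agent.Lib.helper6.SympBasis

set_option autoImplicit false
open Cfsg

namespace Cfsg.Agent.S0776

open Matrix Cfsg.Agent.Lib.helper6 Cfsg.Agent.Lib.helper6.SB

variable {F : Type*} [Field F] {m k k' : ℕ}

abbrev VV (m : ℕ) (F : Type*) [Field F] := Fin m ⊕ Fin m → F

/-- a symplectic matrix acts injectively -/
theorem sp_inj (B : Matrix (Fin k ⊕ Fin k) (Fin k ⊕ Fin k) F) (hB : B ∈ Matrix.symplecticGroup (Fin k) F)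
    (y : VV k F) (hy : B *ᵥ y = 0) : y = 0 := by
  by_contra hne
  obtain ⟨z, hz⟩ := sympForm_nondeg k y hne
  apply hz
  rw [← (mem_symplecticGroup_iff_sympForm k B).mp hB, hy, sympForm_zero_left]

section
variable (Φ : (VV k F × VV k' F) ≃ₗ[F] VV m F)

/-- the block-diagonal map transported by `Φ` -/
noncomputable def TT (A : Matrix (Fin k ⊕ Fin k) (Fin k ⊕ Fin k) F) (B : Matrix (Fin k' ⊕ Fin k') (Fin k' ⊕ Fin k') F) :
    VV m F →ₗ[F] VV m F :=
  Φ.toLinearMap ∘ₗ (LinearMap.prodMap (Matrix.toLin' A) (Matrix.toLin' B)) ∘ₗ Φ.symm.toLinearMap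

theorem TT_apply (A : Matrix (Fin k ⊕ Fin k) (Fin k ⊕ Fin k) F) (B : Matrix (Fin k' ⊕ Fin k') (Fin k' ⊕ Fin k') F)
    (p : VV k F × VV k' F) : TT Φ A B (Φ p) = Φ (A *ᵥ p.1, B *ᵥ p.2) := by
  simp [TT]

theorem TT_apply' (A : Matrix (Fin k ⊕ Fin k) (Fin k ⊕ Fin k) F) (B : Matrix (Fin k' ⊕ Fin k') (Fin k' ⊕ Fin k') F)
    (v : VV m F) : TT Φ A B v = Φ (A *ᵥ (Φ.symm v).1, B *ᵥ (Φ.symm v).2) := by
  simp [TT]

theorem TT_mul (A A' : Matrix (Fin k ⊕ Fin k) (Fin k ⊕ Fin k) F)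
    (B B' : Matrix (Fin k' ⊕ Fin k') (Fin k' ⊕ Fin k') F) :
    TT Φ (A * A') (B * B') = TT Φ A B ∘ₗ TT Φ A' B' := by
  apply LinearMap.ext
  intro v
  rw [LinearMap.comp_apply, TT_apply' Φ A' B', TT_apply, TT_apply']
  simp [Matrix.mulVec_mulVec]

theorem TT_one : TT Φ (1 : Matrix (Fin k ⊕ Fin k) (Fin k ⊕ Fin k) F)
    (1 : Matrix (Fin k' ⊕ Fin k') (Fin k' ⊕ Fin k') F) = LinearMap.id := by
  apply LinearMap.ext
  intro v
  rw [TT_apply']
  simp

variable (hΦ : ∀ p p' : VV k F × VV k' F, Cfsg.sympForm m F (Φ p) (Φ p') =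
  Cfsg.sympForm k F p.1 p'.1 + Cfsg.sympForm k' F p.2 p'.2)

include hΦ in
theorem TT_mem (A : Matrix.symplecticGroup (Fin k) F) (B : Matrix.symplecticGroup (Fin k') F) :
    LinearMap.toMatrix' (TT Φ A.1 B.1) ∈ Matrix.symplecticGroup (Fin m) F := by
  rw [mem_symplecticGroup_iff_sympForm]
  intro u v
  rw [LinearMap.toMatrix'_mulVec, LinearMap.toMatrix'_mulVec, TT_apply', TT_apply', hΦ]
  simp only
  rw [(mem_symplecticGroup_iff_sympForm k A.1).mp A.2, (mem_symplecticGroup_iff_sympForm k' B.1).mp B.2, ← hΦ]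
  simp

/-- the homomorphism -/
noncomputable def psi : Matrix.symplecticGroup (Fin k) F × Matrix.symplecticGroup (Fin k') F →*
    Matrix.symplecticGroup (Fin m) F where
  toFun p := ⟨LinearMap.toMatrix' (TT Φ p.1.1 p.2.1), TT_mem Φ hΦ p.1 p.2⟩
  map_one' := by
    apply Subtype.ext
    show LinearMap.toMatrix' (TT Φ (1 : Matrix (Fin k ⊕ Fin k) (Fin k ⊕ Fin k) F)
      (1 : Matrix (Fin k' ⊕ Fin k') (Fin k' ⊕ Fin k') F)) = 1
    rw [TT_one, LinearMap.toMatrix'_id]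
  map_mul' p p' := by
    apply Subtype.ext
    show LinearMap.toMatrix' (TT Φ (p.1.1 * p'.1.1) (p.2.1 * p'.2.1)) =
      LinearMap.toMatrix' (TT Φ p.1.1 p.2.1) * LinearMap.toMatrix' (TT Φ p'.1.1 p'.2.1)
    rw [TT_mul, LinearMap.toMatrix'_comp]

theorem psi_mulVec (p : Matrix.symplecticGroup (Fin k) F × Matrix.symplecticGroup (Fin k') F) (v : VV m F) :
    (psi Φ hΦ p : Matrix (Fin m ⊕ Fin m) (Fin m ⊕ Fin m) F) *ᵥ v = TT Φ p.1.1 p.2.1 v := by
  show LinearMap.toMatrix' (TT Φ p.1.1 p.2.1) *ᵥ v = _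
  rw [LinearMap.toMatrix'_mulVec]

end

section
variable (Φ : (VV k F × VV k' F) ≃ₗ[F] VV m F)
variable (hΦ : ∀ p p' : VV k F × VV k' F, Cfsg.sympForm m F (Φ p) (Φ p') =
  Cfsg.sympForm k F p.1 p'.1 + Cfsg.sympForm k' F p.2 p'.2)
variable (W : Submodule F (VV m F)) (hWΦ : ∀ v, v ∈ W ↔ (Φ.symm v).2 = 0)

include hWΦ in
theorem psi_stab (p : Matrix.symplecticGroup (Fin k) F × Matrix.symplecticGroup (Fin k') F) :
    psi Φ hΦ p ∈ Cfsg.stabilizing (Cfsg.spToMat m F) (W : Set (VV m F)) := by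
  intro v
  show v ∈ W ↔ (psi Φ hΦ p : Matrix (Fin m ⊕ Fin m) (Fin m ⊕ Fin m) F) *ᵥ v ∈ W
  rw [psi_mulVec, hWΦ, hWΦ, TT_apply', LinearEquiv.symm_apply_apply]
  constructor
  · intro h
    show p.2.1 *ᵥ (Φ.symm v).2 = 0
    rw [h, Matrix.mulVec_zero]
  · intro h
    exact sp_inj p.2.1 p.2.2 _ h

theorem psi_inj : Function.Injective (psi Φ hΦ) := by
  intro p p' h
  have h1 : ∀ v, TT Φ p.1.1 p.2.1 v = TT Φ p'.1.1 p'.2.1 v := by
    intro v
    rw [← psi_mulVec Φ hΦ, ← psi_mulVec Φ hΦ, h]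
  have h2 : ∀ x y, (p.1.1 *ᵥ x, p.2.1 *ᵥ y) = (p'.1.1 *ᵥ x, p'.2.1 *ᵥ y) := by
    intro x y
    have := h1 (Φ (x, y))
    rw [TT_apply, TT_apply] at this
    exact Φ.injective this
  apply Prod.ext
  · apply Subtype.ext
    rw [Matrix.ext_iff_mulVec]
    intro x
    exact congrArg Prod.fst (h2 x 0)
  · apply Subtype.ext
    rw [Matrix.ext_iff_mulVec]
    intro y
    exact congrArg Prod.snd (h2 0 y)

variable (hWΦ' : ∀ v, v ∈ orth m W ↔ (Φ.symm v).1 = 0)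

include hWΦ hWΦ' in
theorem psi_surj (g : Matrix.symplecticGroup (Fin m) F)
    (hg : g ∈ Cfsg.stabilizing (Cfsg.spToMat m F) (W : Set (VV m F))) :
    ∃ p, psi Φ hΦ p = g := by
  have hgW : ∀ v, v ∈ W ↔ g.1 *ᵥ v ∈ W := hg
  have hgf := (mem_symplecticGroup_iff_sympForm m g.1).mp g.2
  have hginv : ∀ v, g.1 *ᵥ ((g⁻¹ : Matrix.symplecticGroup (Fin m) F).1 *ᵥ v) = v := by
    intro v
    rw [Matrix.mulVec_mulVec]
    have : g.1 * (g⁻¹ : Matrix.symplecticGroup (Fin m) F).1 = 1 := by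
      have := congrArg Subtype.val (mul_inv_cancel g)
      exact this
    rw [this, Matrix.one_mulVec]
  have hgW' : ∀ u, u ∈ orth m W → g.1 *ᵥ u ∈ orth m W := by
    intro u hu
    rw [mem_orth] at hu ⊢
    intro w hw
    have h1 : (g⁻¹ : Matrix.symplecticGroup (Fin m) F).1 *ᵥ w ∈ W := by
      rw [hgW, hginv]; exact hw
    rw [← hginv w, hgf]
    exact hu _ h1
  -- the two blocks
  let LA : VV k F →ₗ[F] VV k F :=
    (LinearMap.fst F _ _) ∘ₗ Φ.symm.toLinearMap ∘ₗ (Matrix.toLin' g.1) ∘ₗ Φ.toLinearMap ∘ₗ (LinearMap.inl F _ _)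
  let LB : VV k' F →ₗ[F] VV k' F :=
    (LinearMap.snd F _ _) ∘ₗ Φ.symm.toLinearMap ∘ₗ (Matrix.toLin' g.1) ∘ₗ Φ.toLinearMap ∘ₗ (LinearMap.inr F _ _)
  have hLA : ∀ x, g.1 *ᵥ Φ (x, 0) = Φ (LA x, 0) := by
    intro x
    have h1 : Φ (x, 0) ∈ W := by rw [hWΦ]; simp
    have h2 := (hgW _).mp h1
    rw [hWΦ] at h2
    apply Φ.symm.injective
    rw [LinearEquiv.symm_apply_apply]
    apply Prod.ext
    · simp [LA]
    · exact h2
  have hLB : ∀ y, g.1 *ᵥ Φ (0, y) = Φ (0, LB y) := by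
    intro y
    have h1 : Φ (0, y) ∈ orth m W := by rw [hWΦ']; simp
    have h2 := hgW' _ h1
    rw [hWΦ'] at h2
    apply Φ.symm.injective
    rw [LinearEquiv.symm_apply_apply]
    apply Prod.ext
    · exact h2
    · simp [LB]
  have hAmem : LinearMap.toMatrix' LA ∈ Matrix.symplecticGroup (Fin k) F := by
    rw [mem_symplecticGroup_iff_sympForm]
    intro x x'
    rw [LinearMap.toMatrix'_mulVec, LinearMap.toMatrix'_mulVec]
    have h1 := hΦ (LA x, 0) (LA x', 0)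
    have h2 := hΦ (x, 0) (x', 0)
    simp only [sympForm_zero_left, add_zero] at h1 h2
    rw [← h1, ← hLA, ← hLA, hgf, h2]
  have hBmem : LinearMap.toMatrix' LB ∈ Matrix.symplecticGroup (Fin k') F := by
    rw [mem_symplecticGroup_iff_sympForm]
    intro y y'
    rw [LinearMap.toMatrix'_mulVec, LinearMap.toMatrix'_mulVec]
    have h1 := hΦ (0, LB y) (0, LB y')
    have h2 := hΦ (0, y) (0, y')
    simp only [sympForm_zero_left, zero_add] at h1 h2
    rw [← h1, ← hLB, ← hLB, hgf, h2]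
  refine ⟨(⟨_, hAmem⟩, ⟨_, hBmem⟩), ?_⟩
  apply Subtype.ext
  rw [Matrix.ext_iff_mulVec]
  intro v
  rw [psi_mulVec, TT_apply']
  simp only [LinearMap.toMatrix'_mulVec]
  have hv : v = Φ ((Φ.symm v).1, 0) + Φ (0, (Φ.symm v).2) := by
    rw [← map_add]
    simp
  have h3 : Φ (LA (Φ.symm v).1, LB (Φ.symm v).2) = Φ (LA (Φ.symm v).1, 0) + Φ (0, LB (Φ.symm v).2) := by
    rw [← map_add]
    simp
  rw [h3, ← hLA, ← hLB, ← Matrix.mulVec_add, ← hv]

end

theorem main (m k : ℕ) (hk : k ≤ m) (W : Submodule F (Fin m ⊕ Fin m → F))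
    (hWk : Module.finrank F W = 2 * k)
    (hW : ∀ u ∈ W, (∀ v ∈ W, Cfsg.sympForm m F u v = 0) → u = 0) :
    Nonempty (↥(Cfsg.stabilizing (Cfsg.spToMat m F) (W : Set (Fin m ⊕ Fin m → F))) ≃*
      Matrix.symplecticGroup (Fin k) F × Matrix.symplecticGroup (Fin (m - k)) F) := by
  obtain ⟨k1, φ1, hr1, hf1⟩ := exists_param m _ W rfl hW
  have hk1 : k1 = k := by
    have := finrank_of_param φ1 hf1 W hr1
    omega
  subst hk1
  have hc := isCompl_orth m W hW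
  obtain ⟨k2, φ2, hr2, hf2⟩ := exists_param m _ (orth m W) rfl (orth_nondeg m W hW)
  have hk2 : k2 = m - k1 := by
    have h1 := finrank_of_param φ2 hf2 (orth m W) hr2
    have h2 := Submodule.finrank_add_eq_of_isCompl hc
    rw [h1, hWk, Module.finrank_fintype_fun_eq_card, Fintype.card_sum, Fintype.card_fin] at h2
    omega
  subst hk2
  have hi1 := param_injective φ1 hf1
  have hi2 := param_injective φ2 hf2
  have hφ1W : ∀ x, φ1 x ∈ W := fun x => by rw [← hr1]; exact LinearMap.mem_range_self φ1 x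
  have hφ2W : ∀ y, φ2 y ∈ orth m W := fun y => by rw [← hr2]; exact LinearMap.mem_range_self φ2 y
  have hbij : Function.Bijective (φ1.coprod φ2) := by
    constructor
    · rw [injective_iff_map_eq_zero]
      rintro ⟨x, y⟩ hxy
      rw [LinearMap.coprod_apply] at hxy
      have h1 : φ1 x = -φ2 y := eq_neg_of_add_eq_zero_left hxy
      have h2 : φ1 x ∈ W ⊓ orth m W :=
        ⟨hφ1W x, by rw [h1]; exact (orth m W).neg_mem (hφ2W y)⟩
      rw [hc.inf_eq_bot, Submodule.mem_bot] at h2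
      have h3 : φ2 y = 0 := by rw [h2] at h1; exact neg_eq_zero.mp h1.symm
      have hx : x = 0 := hi1 (by rw [h2, map_zero])
      have hy : y = 0 := hi2 (by rw [h3, map_zero])
      rw [hx, hy]; rfl
    · intro v
      have hv : v ∈ W ⊔ orth m W := by rw [hc.sup_eq_top]; trivial
      obtain ⟨w, hw, w', hw', rfl⟩ := Submodule.mem_sup.mp hv
      rw [← hr1] at hw
      rw [← hr2] at hw'
      obtain ⟨x, rfl⟩ := hw
      obtain ⟨y, rfl⟩ := hw'
      exact ⟨(x, y), by rw [LinearMap.coprod_apply]⟩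
  let Φ : (VV k1 F × VV (m - k1) F) ≃ₗ[F] VV m F := LinearEquiv.ofBijective (φ1.coprod φ2) hbij
  have hΦa : ∀ p, Φ p = φ1 p.1 + φ2 p.2 := fun p => by
    show (φ1.coprod φ2) p = _
    rw [LinearMap.coprod_apply]
  have hcross : ∀ x y, Cfsg.sympForm m F (φ1 x) (φ2 y) = 0 := fun x y =>
    (mem_orth m W _).mp (hφ2W y) _ (hφ1W x)
  have hcross' : ∀ x y, Cfsg.sympForm m F (φ2 y) (φ1 x) = 0 := fun x y => by
    rw [sympForm_swap, hcross, neg_zero]
  have hΦ : ∀ p p' : VV k1 F × VV (m - k1) F, Cfsg.sympForm m F (Φ p) (Φ p') =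
      Cfsg.sympForm k1 F p.1 p'.1 + Cfsg.sympForm (m - k1) F p.2 p'.2 := by
    intro p p'
    rw [hΦa, hΦa, sympForm_add_left, sympForm_add_right, sympForm_add_right, hf1, hf2, hcross, hcross']
    ring
  have hWΦ : ∀ v, v ∈ W ↔ (Φ.symm v).2 = 0 := by
    intro v
    obtain ⟨p, rfl⟩ := Φ.surjective v
    rw [LinearEquiv.symm_apply_apply, hΦa]
    constructor
    · intro h
      have h1 : φ2 p.2 ∈ W := by
        have := W.sub_mem h (hφ1W p.1)
        rwa [add_sub_cancel_left] at this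
      have h2 : φ2 p.2 ∈ W ⊓ orth m W := ⟨h1, hφ2W _⟩
      rw [hc.inf_eq_bot, Submodule.mem_bot] at h2
      exact hi2 (by rw [h2, map_zero])
    · intro h
      rw [h, map_zero, add_zero]
      exact hφ1W _
  have hWΦ' : ∀ v, v ∈ orth m W ↔ (Φ.symm v).1 = 0 := by
    intro v
    obtain ⟨p, rfl⟩ := Φ.surjective v
    rw [LinearEquiv.symm_apply_apply, hΦa]
    constructor
    · intro h
      have h1 : φ1 p.1 ∈ orth m W := by
        have := (orth m W).sub_mem h (hφ2W p.2)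
        rwa [add_sub_cancel_right] at this
      have h2 : φ1 p.1 ∈ W ⊓ orth m W := ⟨hφ1W _, h1⟩
      rw [hc.inf_eq_bot, Submodule.mem_bot] at h2
      exact hi1 (by rw [h2, map_zero])
    · intro h
      rw [h, map_zero, zero_add]
      exact hφ2W _
  let ψ' : Matrix.symplecticGroup (Fin k1) F × Matrix.symplecticGroup (Fin (m - k1)) F →*
      ↥(Cfsg.stabilizing (Cfsg.spToMat m F) (W : Set (Fin m ⊕ Fin m → F))) :=
    (psi Φ hΦ).codRestrict _ (fun p => psi_stab Φ hΦ W hWΦ p)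
  have hψ'bij : Function.Bijective ψ' := by
    constructor
    · intro p p' h
      exact psi_inj Φ hΦ (congrArg Subtype.val h)
    · intro g
      obtain ⟨p, hp⟩ := psi_surj Φ hΦ W hWΦ hWΦ' g.1 g.2
      exact ⟨p, Subtype.ext hp⟩
  exact ⟨(MulEquiv.ofBijective ψ' hψ'bij).symm⟩


/-- If W ≤ F^(2m) is a 2k-dimensional subspace on which the symplectic form is non-degenerate, then the stabiliser of W in Sp_2m(F) is isomorphic to Sp_2k(F) × Sp_(2m−2k)(F). -/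
theorem result {F : Type*} [Field F] (m k : ℕ) (hk : k ≤ m) (W : Submodule F (Fin m ⊕ Fin m → F)) (hWk : Module.finrank F W = 2 * k) (hW : ∀ u ∈ W, (∀ v ∈ W, Cfsg.sympForm m F u v = 0) → u = 0) : Nonempty (↥(Cfsg.stabilizing (Cfsg.spToMat m F) (W : Set (Fin m ⊕ Fin m → F))) ≃* Matrix.symplecticGroup (Fin k) F × Matrix.symplecticGroup (Fin (m - k)) F) := by
  exact main m k hk W hWk hW

end Cfsg.Agent.S0776
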