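import Cfsg.Statements.S0777
import Mathlib
import Cfsg.Statements.S0777
import Cfsg.Agent.Lib.helper6.Symp
import Cfsg.Agent.Lib.helper6.SympBasis

set_option autoImplicit false
open Cfsg

namespace Cfsg.Agent.S0777

open Matrix Cfsg.Agent.Lib.helper6

variable {F : Type*} [Field F] {m : ℕ}

/-- the partner involution -/
abbrev tau (m : ℕ) : Equiv.Perm (Fin m ⊕ Fin m) := Equiv.sumComm (Fin m) (Fin m)

/-- sign attached to an index -/
def sg (F : Type*) [Field F] {m : ℕ} : Fin m ⊕ Fin m → F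
  | Sum.inl _ => 1
  | Sum.inr _ => -1

theorem sg_mul_self (b : Fin m ⊕ Fin m) : sg F b * sg F b = 1 := by
  rcases b with b | b <;> simp [sg]

theorem sg_ne_zero (b : Fin m ⊕ Fin m) : sg F b ≠ 0 := by
  rcases b with b | b <;> simp [sg]

theorem sg_tau (b : Fin m ⊕ Fin m) : sg F (tau m b) = - sg F b := by
  rcases b with b | b <;> simp [sg, tau]

theorem tau_tau (b : Fin m ⊕ Fin m) : tau m (tau m b) = b := by
  rcases b with b | b <;> simp [tau]

theorem tau_ne (b : Fin m ⊕ Fin m) : tau m b ≠ b := by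
  rcases b with b | b <;> simp [tau]

theorem sympForm_single_right (u : Fin m ⊕ Fin m → F) (b : Fin m ⊕ Fin m) :
    Cfsg.sympForm m F u (Pi.single b 1) = sg F b * u (tau m b) := by
  rw [SB.sympForm_eq_sum]
  rcases b with j | j
  · rw [Finset.sum_eq_single j]
    · simp [sg, tau]
    · intro i _ hij
      simp [hij]
    · simp
  · rw [Finset.sum_eq_single j]
    · simp [sg, tau]
    · intro i _ hij
      simp [hij]
    · simp

theorem sympForm_single_single (a b : Fin m ⊕ Fin m) :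
    Cfsg.sympForm m F (Pi.single a 1) (Pi.single b 1) = if tau m b = a then sg F b else 0 := by
  rw [sympForm_single_right]
  by_cases h : tau m b = a
  · rw [if_pos h, h]; simp
  · rw [if_neg h, Pi.single_apply, if_neg h, mul_zero]

theorem mem_sp_iff_basis (A : Matrix (Fin m ⊕ Fin m) (Fin m ⊕ Fin m) F) :
    A ∈ Matrix.symplecticGroup (Fin m) F ↔
      ∀ a b, Cfsg.sympForm m F (A *ᵥ Pi.single a 1) (A *ᵥ Pi.single b 1) =
        Cfsg.sympForm m F (Pi.single a 1) (Pi.single b 1) := by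
  constructor
  · intro h a b
    exact (mem_symplecticGroup_iff_sympForm m A).mp h _ _
  · intro h
    rw [SymplecticGroup.mem_iff']
    have key : ∀ u v, Cfsg.sympForm m F (A *ᵥ u) (A *ᵥ v)
        = u ⬝ᵥ ((Aᵀ * Matrix.J (Fin m) F * A) *ᵥ v) := by
      intro u v
      unfold Cfsg.sympForm
      rw [← Matrix.mulVec_mulVec, ← Matrix.mulVec_mulVec, Matrix.dotProduct_mulVec (v := u),
        Matrix.vecMul_transpose]
    ext i j
    have := h i j
    rw [key] at this
    unfold Cfsg.sympForm at this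
    simpa using this

/-- the coordinate lines -/
abbrev Sline (F : Type*) [Field F] {m : ℕ} (b : Fin m ⊕ Fin m) : Set (Fin m ⊕ Fin m → F) :=
  (Submodule.span F {(Pi.single b (1 : F) : Fin m ⊕ Fin m → F)} : Submodule F (Fin m ⊕ Fin m → F))

theorem mem_Sline (b : Fin m ⊕ Fin m) (v : Fin m ⊕ Fin m → F) :
    v ∈ Sline F b ↔ ∀ a, a ≠ b → v a = 0 := by
  show v ∈ (Submodule.span F {(Pi.single b (1 : F) : Fin m ⊕ Fin m → F)}) ↔ _
  rw [Submodule.mem_span_singleton]
  constructor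
  · rintro ⟨c, rfl⟩ a hab
    simp [hab]
  · intro h
    refine ⟨v b, ?_⟩
    ext a
    by_cases hab : a = b
    · subst hab; simp
    · rw [h a hab]; simp [hab]

/-- monomial matrix -/
def monoMat (σ : Equiv.Perm (Fin m ⊕ Fin m)) (δ : Fin m ⊕ Fin m → F) :
    Matrix (Fin m ⊕ Fin m) (Fin m ⊕ Fin m) F :=
  fun a b => if a = σ b then δ b else 0

theorem monoMat_apply (σ : Equiv.Perm (Fin m ⊕ Fin m)) (δ : Fin m ⊕ Fin m → F) (a b : Fin m ⊕ Fin m) :
    monoMat σ δ a b = if a = σ b then δ b else 0 := rfl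

theorem monoMat_mulVec_single (σ : Equiv.Perm (Fin m ⊕ Fin m)) (δ : Fin m ⊕ Fin m → F)
    (b : Fin m ⊕ Fin m) : monoMat σ δ *ᵥ Pi.single b 1 = δ b • Pi.single (σ b) 1 := by
  rw [Matrix.mulVec_single_one]
  ext a
  simp only [Matrix.col_apply, monoMat_apply, Pi.smul_apply, Pi.single_apply, smul_eq_mul]
  split_ifs <;> simp

theorem monoMat_mulVec (σ : Equiv.Perm (Fin m ⊕ Fin m)) (δ : Fin m ⊕ Fin m → F)
    (v : Fin m ⊕ Fin m → F) (a : Fin m ⊕ Fin m) :
    (monoMat σ δ *ᵥ v) a = δ (σ.symm a) * v (σ.symm a) := by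
  show ∑ c, monoMat σ δ a c * v c = _
  rw [Finset.sum_eq_single (σ.symm a)]
  · rw [monoMat_apply, if_pos (by simp)]
  · intro c _ hc
    rw [monoMat_apply, if_neg, zero_mul]
    intro h
    apply hc
    rw [h]; simp
  · intro h; exact absurd (Finset.mem_univ _) h

theorem monoMat_mem_sp (σ : Equiv.Perm (Fin m ⊕ Fin m)) (hσ : ∀ b, σ (tau m b) = tau m (σ b))
    (δ : Fin m ⊕ Fin m → F) (hδ : ∀ b, δ (tau m b) * δ b * sg F (σ b) = sg F b) :
    monoMat σ δ ∈ Matrix.symplecticGroup (Fin m) F := by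
  rw [mem_sp_iff_basis]
  intro a b
  rw [monoMat_mulVec_single, monoMat_mulVec_single, sympForm_smul_left, sympForm_smul_right,
    sympForm_single_single, sympForm_single_single]
  by_cases h : tau m b = a
  · have h' : tau m (σ b) = σ a := by rw [← h, hσ]
    rw [if_pos h, if_pos h', ← h, ← hδ b]
    ring
  · have h' : tau m (σ b) ≠ σ a := by
      intro h'
      apply h
      apply σ.injective
      rw [hσ, h']
    rw [if_neg h, if_neg h']
    ring

theorem monoMat_Sline (σ : Equiv.Perm (Fin m ⊕ Fin m)) (δ : Fin m ⊕ Fin m → F) (hδ0 : ∀ b, δ b ≠ 0)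
    (b : Fin m ⊕ Fin m) (w : Fin m ⊕ Fin m → F) :
    w ∈ Sline F b ↔ monoMat σ δ *ᵥ w ∈ Sline F (σ b) := by
  rw [mem_Sline, mem_Sline]
  constructor
  · intro h a ha
    rw [monoMat_mulVec, h, mul_zero]
    intro h'
    apply ha
    rw [← h']; simp
  · intro h c hc
    have := h (σ c) (fun h' => hc (σ.injective h'))
    rw [monoMat_mulVec] at this
    simp only [Equiv.symm_apply_apply] at this
    rcases mul_eq_zero.mp this with h1 | h1
    · exact absurd h1 (hδ0 c)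
    · exact h1

/-- the torus -/
abbrev Tor (m : ℕ) (F : Type*) [Field F] : Subgroup (Matrix.symplecticGroup (Fin m) F) :=
  ⨅ i : Fin m ⊕ Fin m, Cfsg.stabilizing (Cfsg.spToMat m F) (Sline F i)

theorem mem_Tor (g : Matrix.symplecticGroup (Fin m) F) :
    g ∈ Tor m F ↔ ∀ b v, v ∈ Sline F b ↔
      (g : Matrix (Fin m ⊕ Fin m) (Fin m ⊕ Fin m) F) *ᵥ v ∈ Sline F b := by
  rw [Subgroup.mem_iInf]
  rfl

theorem diag_of_mem_Tor (g : Matrix.symplecticGroup (Fin m) F) (hg : g ∈ Tor m F)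
    (a b : Fin m ⊕ Fin m) (hab : a ≠ b) : (g : Matrix (Fin m ⊕ Fin m) (Fin m ⊕ Fin m) F) a b = 0 := by
  have h1 : (Pi.single b (1 : F) : Fin m ⊕ Fin m → F) ∈ Sline F b := by
    rw [mem_Sline]
    intro c hc
    simp [hc]
  have h2 := ((mem_Tor g).mp hg b _).mp h1
  rw [mem_Sline] at h2
  have := h2 a hab
  rw [Matrix.mulVec_single_one] at this
  exact this

theorem sp_inv_mulVec (g : Matrix.symplecticGroup (Fin m) F) (v : Fin m ⊕ Fin m → F) :
    ((g⁻¹ : Matrix.symplecticGroup (Fin m) F) : Matrix (Fin m ⊕ Fin m) (Fin m ⊕ Fin m) F) *ᵥ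
      ((g : Matrix (Fin m ⊕ Fin m) (Fin m ⊕ Fin m) F) *ᵥ v) = v := by
  rw [Matrix.mulVec_mulVec]
  have : ((g⁻¹ : Matrix.symplecticGroup (Fin m) F) : Matrix (Fin m ⊕ Fin m) (Fin m ⊕ Fin m) F) *
      (g : Matrix (Fin m ⊕ Fin m) (Fin m ⊕ Fin m) F) = 1 := by
    have h := inv_mul_cancel g
    have := congrArg (fun x : Matrix.symplecticGroup (Fin m) F =>
      (x : Matrix (Fin m ⊕ Fin m) (Fin m ⊕ Fin m) F)) h
    exact this
  rw [this, Matrix.one_mulVec]

theorem sp_mulVec_inv (g : Matrix.symplecticGroup (Fin m) F) (v : Fin m ⊕ Fin m → F) :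
    (g : Matrix (Fin m ⊕ Fin m) (Fin m ⊕ Fin m) F) *ᵥ
      (((g⁻¹ : Matrix.symplecticGroup (Fin m) F) : Matrix (Fin m ⊕ Fin m) (Fin m ⊕ Fin m) F) *ᵥ v) = v := by
  have := sp_inv_mulVec g⁻¹ v
  rwa [inv_inv] at this

theorem conj_mulVec (g h : Matrix.symplecticGroup (Fin m) F) (v : Fin m ⊕ Fin m → F) :
    ((g * h * g⁻¹ : Matrix.symplecticGroup (Fin m) F) : Matrix (Fin m ⊕ Fin m) (Fin m ⊕ Fin m) F) *ᵥ v =
      (g : Matrix (Fin m ⊕ Fin m) (Fin m ⊕ Fin m) F) *ᵥ
        ((h : Matrix (Fin m ⊕ Fin m) (Fin m ⊕ Fin m) F) *ᵥ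
          (((g⁻¹ : Matrix.symplecticGroup (Fin m) F) : Matrix (Fin m ⊕ Fin m) (Fin m ⊕ Fin m) F) *ᵥ v)) := by
  rw [Matrix.mulVec_mulVec, Matrix.mulVec_mulVec]
  rfl

/-- elements mapping lines to lines normalise the torus -/
theorem mem_normalizer_of_lines (g : Matrix.symplecticGroup (Fin m) F) (σ : Equiv.Perm (Fin m ⊕ Fin m))
    (hg : ∀ b w, w ∈ Sline F b ↔ (g : Matrix (Fin m ⊕ Fin m) (Fin m ⊕ Fin m) F) *ᵥ w ∈ Sline F (σ b)) :
    g ∈ Subgroup.normalizer (Tor m F : Set (Matrix.symplecticGroup (Fin m) F)) := by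
  rw [Subgroup.mem_normalizer_iff]
  intro h
  rw [mem_Tor, mem_Tor]
  constructor
  · intro hh b' v
    obtain ⟨b, rfl⟩ : ∃ b, σ b = b' := ⟨σ.symm b', σ.apply_symm_apply b'⟩
    rw [conj_mulVec]
    have e1 := hg b ((h : Matrix (Fin m ⊕ Fin m) (Fin m ⊕ Fin m) F) *ᵥ
      (((g⁻¹ : Matrix.symplecticGroup (Fin m) F) : Matrix (Fin m ⊕ Fin m) (Fin m ⊕ Fin m) F) *ᵥ v))
    have e2 := hh b
      (((g⁻¹ : Matrix.symplecticGroup (Fin m) F) : Matrix (Fin m ⊕ Fin m) (Fin m ⊕ Fin m) F) *ᵥ v)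
    have e3 := hg b
      (((g⁻¹ : Matrix.symplecticGroup (Fin m) F) : Matrix (Fin m ⊕ Fin m) (Fin m ⊕ Fin m) F) *ᵥ v)
    rw [sp_mulVec_inv] at e3
    exact e3.symm.trans (e2.trans e1)
  · intro hh b w
    have e1 := hh (σ b) ((g : Matrix (Fin m ⊕ Fin m) (Fin m ⊕ Fin m) F) *ᵥ w)
    rw [conj_mulVec, sp_inv_mulVec] at e1
    have e2 := hg b w
    have e3 := hg b ((h : Matrix (Fin m ⊕ Fin m) (Fin m ⊕ Fin m) F) *ᵥ w)
    exact e2.trans (e1.trans e3.symm)

/-- diagonal entries from parameters -/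
def delt (σ : Equiv.Perm (Fin m ⊕ Fin m)) (d : Fin m → Fˣ) : Fin m ⊕ Fin m → F
  | Sum.inl i => (d i : F)
  | Sum.inr i => sg F (σ (Sum.inl i)) * ((d i)⁻¹ : Fˣ)

theorem delt_ne_zero (σ : Equiv.Perm (Fin m ⊕ Fin m)) (d : Fin m → Fˣ) (b : Fin m ⊕ Fin m) :
    delt σ d b ≠ 0 := by
  rcases b with i | i
  · exact (d i).ne_zero
  · exact mul_ne_zero (sg_ne_zero _) ((d i)⁻¹).ne_zero

theorem delt_cond (σ : Equiv.Perm (Fin m ⊕ Fin m)) (hσ : ∀ b, σ (tau m b) = tau m (σ b)) (d : Fin m → Fˣ)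
    (b : Fin m ⊕ Fin m) : delt σ d (tau m b) * delt σ d b * sg F (σ b) = sg F b := by
  rcases b with i | i
  · show sg F (σ (Sum.inl i)) * ((d i)⁻¹ : Fˣ) * (d i : F) * sg F (σ (Sum.inl i)) = 1
    rw [mul_assoc (sg F _), Units.inv_mul, mul_one, sg_mul_self]
  · show (d i : F) * (sg F (σ (Sum.inl i)) * ((d i)⁻¹ : Fˣ)) * sg F (σ (Sum.inr i)) = -1
    have : σ (Sum.inr i) = tau m (σ (Sum.inl i)) := by
      rw [← hσ]; rfl
    rw [this, sg_tau]
    have h1 : (d i : F) * ((d i)⁻¹ : Fˣ) = 1 := Units.mul_inv _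
    have h2 := sg_mul_self (F := F) (σ (Sum.inl i))
    linear_combination (-(sg F (σ (Sum.inl i)) * sg F (σ (Sum.inl i)))) * h1 - h2

/-- monomial symplectic element -/
def monoElt (σ : Equiv.Perm (Fin m ⊕ Fin m)) (hσ : ∀ b, σ (tau m b) = tau m (σ b)) (d : Fin m → Fˣ) :
    Matrix.symplecticGroup (Fin m) F :=
  ⟨monoMat σ (delt σ d), monoMat_mem_sp σ hσ _ (delt_cond σ hσ d)⟩

theorem monoElt_mem_normalizer (σ : Equiv.Perm (Fin m ⊕ Fin m)) (hσ : ∀ b, σ (tau m b) = tau m (σ b))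
    (d : Fin m → Fˣ) :
    monoElt σ hσ d ∈ Subgroup.normalizer (Tor m F : Set (Matrix.symplecticGroup (Fin m) F)) :=
  mem_normalizer_of_lines _ σ (fun b w => monoMat_Sline σ _ (delt_ne_zero σ d) b w)

theorem one_comm_tau : ∀ b, (1 : Equiv.Perm (Fin m ⊕ Fin m)) (tau m b) = tau m ((1 : Equiv.Perm (Fin m ⊕ Fin m)) b) :=
  fun _ => rfl

theorem torElt_mem (d : Fin m → Fˣ) : monoElt (F := F) 1 one_comm_tau d ∈ Tor m F := by
  rw [mem_Tor]
  intro b v
  exact monoMat_Sline 1 _ (delt_ne_zero 1 d) b v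

theorem exists_lam [Fintype F] (hq : 4 ≤ Fintype.card F) : ∃ l : Fˣ, (l : F) ≠ 1 ∧ (l : F) ≠ ((l⁻¹ : Fˣ) : F) := by
  classical
  have : ∃ x : F, x ∉ ({0, 1, -1} : Finset F) := by
    by_contra hne
    push Not at hne
    have h1 : (Finset.univ : Finset F) ⊆ {0, 1, -1} := fun x _ => hne x
    have h2 := Finset.card_le_card h1
    rw [Finset.card_univ] at h2
    have h3 : ({0, 1, -1} : Finset F).card ≤ 3 := Finset.card_le_three
    omega
  obtain ⟨x, hx⟩ := this
  simp only [Finset.mem_insert, Finset.mem_singleton, not_or] at hx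
  refine ⟨Units.mk0 x hx.1, hx.2.1, ?_⟩
  intro h
  simp only [Units.val_mk0, Units.val_inv_eq_inv_val] at h
  have h2 : x * x = 1 := by
    nth_rewrite 2 [h]
    exact mul_inv_cancel₀ hx.1
  have h3 : (x - 1) * (x + 1) = 0 := by linear_combination h2
  rcases mul_eq_zero.mp h3 with h4 | h4
  · exact hx.2.1 (sub_eq_zero.mp h4)
  · exact hx.2.2 (eq_neg_of_add_eq_zero_left h4)

theorem separation [Fintype F] (hq : 4 ≤ Fintype.card F) (a a' : Fin m ⊕ Fin m) (haa : a ≠ a') :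
    ∃ t : Matrix.symplecticGroup (Fin m) F, t ∈ Tor m F ∧
      (t : Matrix (Fin m ⊕ Fin m) (Fin m ⊕ Fin m) F) a a ≠
        (t : Matrix (Fin m ⊕ Fin m) (Fin m ⊕ Fin m) F) a' a' := by
  classical
  obtain ⟨l, hl1, hl2⟩ := exists_lam hq
  have hl3 : ((l⁻¹ : Fˣ) : F) ≠ 1 := by
    intro h
    apply hl1
    have : l⁻¹ = 1 := Units.ext h
    rw [inv_eq_one] at this
    rw [this]; rfl
  have hentry : ∀ (d : Fin m → Fˣ) (b : Fin m ⊕ Fin m),
      ((monoElt (F := F) 1 one_comm_tau d : Matrix.symplecticGroup (Fin m) F) :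
        Matrix (Fin m ⊕ Fin m) (Fin m ⊕ Fin m) F) b b = delt 1 d b := by
    intro d b
    show monoMat 1 (delt 1 d) b b = _
    rw [monoMat_apply, if_pos (by rfl)]
  rcases a with i | i <;> rcases a' with j | j
  · have hij : i ≠ j := fun h => haa (by rw [h])
    refine ⟨monoElt 1 one_comm_tau (fun k => if k = i then l else 1), torElt_mem _, ?_⟩
    rw [hentry, hentry]
    show ((if i = i then l else 1 : Fˣ) : F) ≠ ((if j = i then l else 1 : Fˣ) : F)
    rw [if_pos rfl, if_neg (Ne.symm hij)]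
    exact hl1
  · by_cases hij : i = j
    · subst hij
      refine ⟨monoElt 1 one_comm_tau (fun _ => l), torElt_mem _, ?_⟩
      rw [hentry, hentry]
      show (l : F) ≠ sg F ((1 : Equiv.Perm (Fin m ⊕ Fin m)) (Sum.inl i)) * ((l⁻¹ : Fˣ) : F)
      simp only [Equiv.Perm.coe_one, id_eq, sg, one_mul]
      exact hl2
    · refine ⟨monoElt 1 one_comm_tau (fun k => if k = i then l else 1), torElt_mem _, ?_⟩
      rw [hentry, hentry]
      show ((if i = i then l else 1 : Fˣ) : F) ≠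
        sg F ((1 : Equiv.Perm (Fin m ⊕ Fin m)) (Sum.inl j)) * (((if j = i then l else 1)⁻¹ : Fˣ) : F)
      rw [if_pos rfl, if_neg (Ne.symm hij)]
      simp only [Equiv.Perm.coe_one, id_eq, sg, one_mul, inv_one, Units.val_one]
      exact hl1
  · by_cases hij : i = j
    · subst hij
      refine ⟨monoElt 1 one_comm_tau (fun _ => l), torElt_mem _, ?_⟩
      rw [hentry, hentry]
      show sg F ((1 : Equiv.Perm (Fin m ⊕ Fin m)) (Sum.inl i)) * ((l⁻¹ : Fˣ) : F) ≠ (l : F)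
      simp only [Equiv.Perm.coe_one, id_eq, sg, one_mul]
      exact hl2.symm
    · refine ⟨monoElt 1 one_comm_tau (fun k => if k = i then l else 1), torElt_mem _, ?_⟩
      rw [hentry, hentry]
      show sg F ((1 : Equiv.Perm (Fin m ⊕ Fin m)) (Sum.inl i)) * (((if i = i then l else 1)⁻¹ : Fˣ) : F) ≠
        ((if j = i then l else 1 : Fˣ) : F)
      rw [if_pos rfl, if_neg (Ne.symm hij)]
      simp only [Equiv.Perm.coe_one, id_eq, sg, one_mul, Units.val_one]
      exact hl3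
  · have hij : i ≠ j := fun h => haa (by rw [h])
    refine ⟨monoElt 1 one_comm_tau (fun k => if k = i then l else 1), torElt_mem _, ?_⟩
    rw [hentry, hentry]
    show sg F ((1 : Equiv.Perm (Fin m ⊕ Fin m)) (Sum.inl i)) * (((if i = i then l else 1)⁻¹ : Fˣ) : F) ≠
      sg F ((1 : Equiv.Perm (Fin m ⊕ Fin m)) (Sum.inl j)) * (((if j = i then l else 1)⁻¹ : Fˣ) : F)
    rw [if_pos rfl, if_neg (Ne.symm hij)]
    simp only [Equiv.Perm.coe_one, id_eq, sg, one_mul, inv_one, Units.val_one]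
    exact hl3

theorem mulVec_single_apply (A : Matrix (Fin m ⊕ Fin m) (Fin m ⊕ Fin m) F) (a b : Fin m ⊕ Fin m) :
    (A *ᵥ Pi.single b 1) a = A a b := by
  rw [Matrix.mulVec_single_one]; rfl

/-- every element of the normaliser is monomial -/
theorem exists_params [Fintype F] (hq : 4 ≤ Fintype.card F) (g : Matrix.symplecticGroup (Fin m) F)
    (hg : g ∈ Subgroup.normalizer (Tor m F : Set (Matrix.symplecticGroup (Fin m) F))) :
    ∃ (σ : Equiv.Perm (Fin m ⊕ Fin m)) (hσ : ∀ b, σ (tau m b) = tau m (σ b)) (d : Fin m → Fˣ),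
      g = monoElt σ hσ d := by
  classical
  -- columns have at most one nonzero entry
  have hcol : ∀ b a a', (g : Matrix (Fin m ⊕ Fin m) (Fin m ⊕ Fin m) F) a b ≠ 0 →
      (g : Matrix (Fin m ⊕ Fin m) (Fin m ⊕ Fin m) F) a' b ≠ 0 → a = a' := by
    intro b a a' ha ha'
    by_contra hne
    obtain ⟨t, ht, hta⟩ := separation hq a a' hne
    have hmem : g⁻¹ * t * g ∈ Tor m F := by
      have := (Subgroup.mem_normalizer_iff.mp hg (g⁻¹ * t * g))
      apply this.mpr
      have e : g * (g⁻¹ * t * g) * g⁻¹ = t := by group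
      rw [e]; exact ht
    have heq : g * (g⁻¹ * t * g) = t * g := by group
    have hmat : (g : Matrix (Fin m ⊕ Fin m) (Fin m ⊕ Fin m) F) *
        ((g⁻¹ * t * g : Matrix.symplecticGroup (Fin m) F) : Matrix (Fin m ⊕ Fin m) (Fin m ⊕ Fin m) F) =
        (t : Matrix (Fin m ⊕ Fin m) (Fin m ⊕ Fin m) F) * (g : Matrix (Fin m ⊕ Fin m) (Fin m ⊕ Fin m) F) := by
      have := congrArg (fun x : Matrix.symplecticGroup (Fin m) F =>
        (x : Matrix (Fin m ⊕ Fin m) (Fin m ⊕ Fin m) F)) heq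
      exact this
    have hentry : ∀ c, (g : Matrix (Fin m ⊕ Fin m) (Fin m ⊕ Fin m) F) c b *
        ((g⁻¹ * t * g : Matrix.symplecticGroup (Fin m) F) : Matrix (Fin m ⊕ Fin m) (Fin m ⊕ Fin m) F) b b =
        (t : Matrix (Fin m ⊕ Fin m) (Fin m ⊕ Fin m) F) c c *
          (g : Matrix (Fin m ⊕ Fin m) (Fin m ⊕ Fin m) F) c b := by
      intro c
      have h1 := congrFun (congrFun hmat c) b
      rw [Matrix.mul_apply, Matrix.mul_apply, Finset.sum_eq_single b, Finset.sum_eq_single c] at h1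
      · exact h1
      · intro x _ hx
        rw [diag_of_mem_Tor t ht c x (Ne.symm hx), zero_mul]
      · intro h; exact absurd (Finset.mem_univ _) h
      · intro x _ hx
        rw [diag_of_mem_Tor _ hmem x b hx, mul_zero]
      · intro h; exact absurd (Finset.mem_univ _) h
    have h1 := hentry a
    have h2 := hentry a'
    have e1 : ((g⁻¹ * t * g : Matrix.symplecticGroup (Fin m) F) :
        Matrix (Fin m ⊕ Fin m) (Fin m ⊕ Fin m) F) b b = (t : Matrix (Fin m ⊕ Fin m) (Fin m ⊕ Fin m) F) a a := by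
      have : (g : Matrix (Fin m ⊕ Fin m) (Fin m ⊕ Fin m) F) a b *
          (((g⁻¹ * t * g : Matrix.symplecticGroup (Fin m) F) :
            Matrix (Fin m ⊕ Fin m) (Fin m ⊕ Fin m) F) b b -
            (t : Matrix (Fin m ⊕ Fin m) (Fin m ⊕ Fin m) F) a a) = 0 := by linear_combination h1
      rcases mul_eq_zero.mp this with h | h
      · exact absurd h ha
      · exact sub_eq_zero.mp h
    have e2 : ((g⁻¹ * t * g : Matrix.symplecticGroup (Fin m) F) :
        Matrix (Fin m ⊕ Fin m) (Fin m ⊕ Fin m) F) b b = (t : Matrix (Fin m ⊕ Fin m) (Fin m ⊕ Fin m) F) a' a' := by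
      have : (g : Matrix (Fin m ⊕ Fin m) (Fin m ⊕ Fin m) F) a' b *
          (((g⁻¹ * t * g : Matrix.symplecticGroup (Fin m) F) :
            Matrix (Fin m ⊕ Fin m) (Fin m ⊕ Fin m) F) b b -
            (t : Matrix (Fin m ⊕ Fin m) (Fin m ⊕ Fin m) F) a' a') = 0 := by linear_combination h2
      rcases mul_eq_zero.mp this with h | h
      · exact absurd h ha'
      · exact sub_eq_zero.mp h
    exact hta (e1.symm.trans e2)
  have hsp : ∀ a b, Cfsg.sympForm m F ((g : Matrix (Fin m ⊕ Fin m) (Fin m ⊕ Fin m) F) *ᵥ Pi.single a 1)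
      ((g : Matrix (Fin m ⊕ Fin m) (Fin m ⊕ Fin m) F) *ᵥ Pi.single b 1) =
      Cfsg.sympForm m F (Pi.single a 1) (Pi.single b 1) := (mem_sp_iff_basis _).mp g.2
  -- each column is nonzero
  have hex : ∀ b, ∃ a, (g : Matrix (Fin m ⊕ Fin m) (Fin m ⊕ Fin m) F) a b ≠ 0 := by
    intro b
    by_contra hne
    push Not at hne
    have h0 : (g : Matrix (Fin m ⊕ Fin m) (Fin m ⊕ Fin m) F) *ᵥ Pi.single b 1 = 0 := by
      ext a
      rw [mulVec_single_apply, hne a]; rfl
    have := hsp (tau m b) b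
    rw [h0, sympForm_zero_right, sympForm_single_single, if_pos rfl] at this
    exact sg_ne_zero b this.symm
  choose σ₀ hσ₀ using hex
  have hcolv : ∀ b, (g : Matrix (Fin m ⊕ Fin m) (Fin m ⊕ Fin m) F) *ᵥ Pi.single b 1 =
      (g : Matrix (Fin m ⊕ Fin m) (Fin m ⊕ Fin m) F) (σ₀ b) b • Pi.single (σ₀ b) 1 := by
    intro b
    ext a
    rw [mulVec_single_apply, Pi.smul_apply, Pi.single_apply, smul_eq_mul]
    by_cases ha : a = σ₀ b
    · rw [if_pos ha, mul_one, ha]
    · rw [if_neg ha, mul_zero]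
      by_contra hne
      exact ha (hcol b a (σ₀ b) hne (hσ₀ b))
  have hform : ∀ a b, (g : Matrix (Fin m ⊕ Fin m) (Fin m ⊕ Fin m) F) (σ₀ a) a *
      ((g : Matrix (Fin m ⊕ Fin m) (Fin m ⊕ Fin m) F) (σ₀ b) b *
        (if tau m (σ₀ b) = σ₀ a then sg F (σ₀ b) else 0)) = if tau m b = a then sg F b else 0 := by
    intro a b
    have := hsp a b
    rw [hcolv a, hcolv b, sympForm_smul_left, sympForm_smul_right, sympForm_single_single,
      sympForm_single_single] at this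
    exact this
  have hσcomm : ∀ b, σ₀ (tau m b) = tau m (σ₀ b) := by
    intro b
    have := hform (tau m b) b
    rw [if_pos rfl] at this
    by_contra hne
    rw [if_neg (Ne.symm hne), mul_zero, mul_zero] at this
    exact sg_ne_zero b this.symm
  have hδcond : ∀ b, (g : Matrix (Fin m ⊕ Fin m) (Fin m ⊕ Fin m) F) (σ₀ (tau m b)) (tau m b) *
      (g : Matrix (Fin m ⊕ Fin m) (Fin m ⊕ Fin m) F) (σ₀ b) b * sg F (σ₀ b) = sg F b := by
    intro b
    have := hform (tau m b) b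
    rw [if_pos rfl, if_pos (hσcomm b).symm] at this
    rw [← this]; ring
  have hinj : Function.Injective σ₀ := by
    intro b b' hbb
    have := hform (tau m b) b'
    rw [hσcomm b, hbb, if_pos rfl] at this
    by_contra hne
    have hne' : tau m b' ≠ tau m b := fun h => hne ((tau m).injective h).symm
    rw [if_neg hne'] at this
    have h1 : (g : Matrix (Fin m ⊕ Fin m) (Fin m ⊕ Fin m) F) (tau m (σ₀ b')) (tau m b) ≠ 0 := by
      rw [← hbb, ← hσcomm b]; exact hσ₀ _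
    exact mul_ne_zero h1 (mul_ne_zero (hσ₀ b') (sg_ne_zero _)) this
  let σ : Equiv.Perm (Fin m ⊕ Fin m) := Equiv.ofBijective σ₀ (Finite.injective_iff_bijective.mp hinj)
  have hσ : ∀ b, σ (tau m b) = tau m (σ b) := hσcomm
  let d : Fin m → Fˣ := fun i => Units.mk0 _ (hσ₀ (Sum.inl i))
  refine ⟨σ, hσ, d, ?_⟩
  apply Subtype.ext
  show (g : Matrix (Fin m ⊕ Fin m) (Fin m ⊕ Fin m) F) = monoMat σ (delt σ d)
  ext a b
  rw [monoMat_apply]
  by_cases ha : a = σ b
  · rw [if_pos ha, ha]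
    show (g : Matrix (Fin m ⊕ Fin m) (Fin m ⊕ Fin m) F) (σ₀ b) b = _
    rcases b with i | i
    · rfl
    · show _ = sg F (σ₀ (Sum.inl i)) * ((d i)⁻¹ : Fˣ)
      have h1 := hδcond (Sum.inl i)
      have h2 : (d i : F) = (g : Matrix (Fin m ⊕ Fin m) (Fin m ⊕ Fin m) F) (σ₀ (Sum.inl i)) (Sum.inl i) := rfl
      have h3 : (d i : F) * ((d i)⁻¹ : Fˣ) = 1 := Units.mul_inv _
      have h4 := sg_mul_self (F := F) (σ₀ (Sum.inl i))
      have h5 : tau m (Sum.inl i) = Sum.inr i := rfl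
      rw [h5, ← h2] at h1
      have h6 : sg F (Sum.inl i : Fin m ⊕ Fin m) = 1 := rfl
      rw [h6] at h1
      calc (g : Matrix (Fin m ⊕ Fin m) (Fin m ⊕ Fin m) F) (σ₀ (Sum.inr i)) (Sum.inr i)
          = (g : Matrix (Fin m ⊕ Fin m) (Fin m ⊕ Fin m) F) (σ₀ (Sum.inr i)) (Sum.inr i) *
              ((d i : F) * ((d i)⁻¹ : Fˣ)) * (sg F (σ₀ (Sum.inl i)) * sg F (σ₀ (Sum.inl i))) := by
            rw [h3, h4, mul_one, mul_one]
        _ = ((g : Matrix (Fin m ⊕ Fin m) (Fin m ⊕ Fin m) F) (σ₀ (Sum.inr i)) (Sum.inr i) * (d i : F) *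
              sg F (σ₀ (Sum.inl i))) * (sg F (σ₀ (Sum.inl i)) * ((d i)⁻¹ : Fˣ)) := by ring
        _ = _ := by rw [h1, one_mul]
  · rw [if_neg ha]
    by_contra hne
    exact ha (hcol b a (σ₀ b) hne (hσ₀ b))



theorem tau_cycleType (m : ℕ) : Equiv.Perm.cycleType (Equiv.sumComm (Fin m) (Fin m) : Equiv.Perm (Fin m ⊕ Fin m)) =
    Multiset.replicate m 2 := by
  classical
  set τ : Equiv.Perm (Fin m ⊕ Fin m) := Equiv.sumComm (Fin m) (Fin m) with hτ
  have hsq : τ ^ 2 = 1 := by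
    ext x
    rcases x with x | x <;> simp [hτ, sq]
  have hsupp : τ.support = Finset.univ := by
    ext x
    simp only [Equiv.Perm.mem_support, Finset.mem_univ, iff_true]
    rcases x with x | x <;> simp [hτ]
  have hall : ∀ n ∈ τ.cycleType, n = 2 := by
    intro n hn
    have h1 : n ∣ 2 := by
      have := Equiv.Perm.dvd_of_mem_cycleType hn
      have h2 : orderOf τ ∣ 2 := orderOf_dvd_of_pow_eq_one hsq
      exact dvd_trans this h2
    have h2 : 2 ≤ n := Equiv.Perm.two_le_of_mem_cycleType hn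
    exact le_antisymm (Nat.le_of_dvd (by norm_num) h1) h2
  have hrep := Multiset.eq_replicate_card.mpr hall
  have hsum := Equiv.Perm.sum_cycleType τ
  rw [hsupp, Finset.card_univ, Fintype.card_sum, Fintype.card_fin, hrep, Multiset.sum_replicate,
    smul_eq_mul] at hsum
  have : Multiset.card τ.cycleType = m := by omega
  rw [hrep, this]

theorem card_centralizer_tau (m : ℕ) :
    Nat.card (Subgroup.centralizer {(Equiv.sumComm (Fin m) (Fin m) : Equiv.Perm (Fin m ⊕ Fin m))}) =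
      2 ^ m * Nat.factorial m := by
  classical
  rw [Equiv.Perm.nat_card_centralizer, tau_cycleType, Multiset.sum_replicate, Multiset.prod_replicate,
    Fintype.card_sum, Fintype.card_fin, smul_eq_mul]
  have h0 : m + m - m * 2 = 0 := by omega
  rw [h0, Nat.factorial_zero, one_mul]
  congr 1
  rcases Nat.eq_zero_or_pos m with rfl | hm
  · simp
  · rw [Multiset.toFinset_replicate, if_neg hm.ne', Finset.prod_singleton, Multiset.count_replicate_self]


theorem main [Fintype F] {q : ℕ} (hF : Fintype.card F = q) (hq : 4 ≤ q) (m : ℕ) :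
    Nat.card ↥(Subgroup.normalizer (Tor m F : Set (Matrix.symplecticGroup (Fin m) F))) =
      2 ^ m * Nat.factorial m * (q - 1) ^ m := by
  classical
  have hcomm : ∀ σ : ↥(Subgroup.centralizer {tau m}), ∀ b, (σ : Equiv.Perm (Fin m ⊕ Fin m)) (tau m b) =
      tau m ((σ : Equiv.Perm (Fin m ⊕ Fin m)) b) := by
    intro σ b
    have := Subgroup.mem_centralizer_singleton_iff.mp σ.2
    exact DFunLike.congr_fun this b
  let Ψ : ↥(Subgroup.centralizer {tau m}) × (Fin m → Fˣ) →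
      ↥(Subgroup.normalizer (Tor m F : Set (Matrix.symplecticGroup (Fin m) F))) :=
    fun x => ⟨monoElt x.1.1 (hcomm x.1) x.2, monoElt_mem_normalizer _ _ _⟩
  have hinj : Function.Injective Ψ := by
    rintro ⟨σ, d⟩ ⟨σ', d'⟩ h
    have h1 : monoMat (σ : Equiv.Perm (Fin m ⊕ Fin m)) (delt (σ : Equiv.Perm (Fin m ⊕ Fin m)) d) =
        monoMat (σ' : Equiv.Perm (Fin m ⊕ Fin m)) (delt (σ' : Equiv.Perm (Fin m ⊕ Fin m)) d') := by
      have := congrArg (fun x : ↥(Subgroup.normalizer (Tor m F : Set (Matrix.symplecticGroup (Fin m) F))) =>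
        ((x : Matrix.symplecticGroup (Fin m) F) : Matrix (Fin m ⊕ Fin m) (Fin m ⊕ Fin m) F)) h
      exact this
    have h2 : ∀ b, (σ : Equiv.Perm (Fin m ⊕ Fin m)) b = (σ' : Equiv.Perm (Fin m ⊕ Fin m)) b := by
      intro b
      have := congrFun (congrFun h1 ((σ : Equiv.Perm (Fin m ⊕ Fin m)) b)) b
      rw [monoMat_apply, monoMat_apply, if_pos rfl] at this
      by_contra hne
      rw [if_neg hne] at this
      exact delt_ne_zero _ d b this
    have h3 : σ = σ' := Subtype.ext (Equiv.ext h2)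
    subst h3
    have h4 : d = d' := by
      funext i
      have := congrFun (congrFun h1 ((σ : Equiv.Perm (Fin m ⊕ Fin m)) (Sum.inl i))) (Sum.inl i)
      rw [monoMat_apply, monoMat_apply, if_pos rfl, if_pos rfl] at this
      exact Units.ext this
    rw [h4]
  have hsurj : Function.Surjective Ψ := by
    rintro ⟨g, hg⟩
    obtain ⟨σ, hσ, d, rfl⟩ := exists_params (by rw [hF]; exact hq) g hg
    have hσC : σ ∈ Subgroup.centralizer {tau m} := by
      rw [Subgroup.mem_centralizer_singleton_iff]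
      ext b
      exact hσ b
    exact ⟨(⟨σ, hσC⟩, d), rfl⟩
  rw [← Nat.card_eq_of_bijective Ψ ⟨hinj, hsurj⟩, Nat.card_prod, card_centralizer_tau, Nat.card_fun,
    Nat.card_units, Nat.card_eq_fintype_card, Nat.card_eq_fintype_card, Fintype.card_fin, hF]

theorem main' [Fintype F] {q : ℕ} (hF : Fintype.card F = q) (hq : 4 ≤ q) (m : ℕ) :
    Nat.card ↥(Subgroup.normalizer (⨅ i : Fin m ⊕ Fin m, Cfsg.stabilizing (Cfsg.spToMat m F) ((Submodule.span F {(Pi.single i (1 : F) : Fin m ⊕ Fin m → F)} : Submodule F (Fin m ⊕ Fin m → F)) : Set (Fin m ⊕ Fin m → F)) : Set (Matrix.symplecticGroup (Fin m) F))) = 2 ^ m * Nat.factorial m * (q - 1) ^ m := by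
  have h : (⨅ i : Fin m ⊕ Fin m, ((Cfsg.stabilizing (Cfsg.spToMat m F) (Sline F i) :
      Subgroup (Matrix.symplecticGroup (Fin m) F)) : Set (Matrix.symplecticGroup (Fin m) F))) =
      ((Tor m F : Subgroup (Matrix.symplecticGroup (Fin m) F)) : Set (Matrix.symplecticGroup (Fin m) F)) := by
    rw [Subgroup.coe_iInf, Set.iInf_eq_iInter]
  rw [h]
  exact main hF hq m


/-- Weyl group of type C_m: for q ≥ 4 the diagonal matrices of Sp_2m(q) form a torus T ≅ (C_(q−1))^m (the elements stabilising every coordinate axis), and the normaliser of T in Sp_2m(q) has order 2^m · m! · (q − 1)^m. -/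
theorem result {F : Type*} [Field F] [Fintype F] {q : ℕ} (hF : Fintype.card F = q) (hq : 4 ≤ q) (m : ℕ) : Nat.card ↥(Subgroup.normalizer (⨅ i : Fin m ⊕ Fin m, Cfsg.stabilizing (Cfsg.spToMat m F) ((Submodule.span F {(Pi.single i (1 : F) : Fin m ⊕ Fin m → F)} : Submodule F (Fin m ⊕ Fin m → F)) : Set (Fin m ⊕ Fin m → F)) : Set (Matrix.symplecticGroup (Fin m) F))) = 2 ^ m * Nat.factorial m * (q - 1) ^ m := by
  exact main' hF hq m

end Cfsg.Agent.S0777
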