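import Cfsg.Statements.S0778
import Mathlib

set_option autoImplicit false
open Cfsg

namespace Cfsg.Agent.S0778

open Matrix

variable {F : Type*} [Field F] {m : ℕ}

abbrev SW (m : ℕ) (F : Type*) [Field F] : Set (Fin m ⊕ Fin m → F) := {v | ∀ i : Fin m, v (Sum.inr i) = 0}
abbrev SU' (m : ℕ) (F : Type*) [Field F] : Set (Fin m ⊕ Fin m → F) := {v | ∀ i : Fin m, v (Sum.inl i) = 0}

theorem block12_zero (A : Matrix (Fin m ⊕ Fin m) (Fin m ⊕ Fin m) F)
    (h : ∀ v, v ∈ SU' m F → A *ᵥ v ∈ SU' m F) : A.toBlocks₁₂ = 0 := by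
  ext i j
  have := h (Pi.single (Sum.inr j) 1) (by intro k; simp) i
  simp only [Matrix.mulVec_single_one] at this
  exact this

theorem block21_zero (A : Matrix (Fin m ⊕ Fin m) (Fin m ⊕ Fin m) F)
    (h : ∀ v, v ∈ SW m F → A *ᵥ v ∈ SW m F) : A.toBlocks₂₁ = 0 := by
  ext i j
  have := h (Pi.single (Sum.inl j) 1) (by intro k; simp) i
  simp only [Matrix.mulVec_single_one] at this
  exact this

theorem blockdiag (A : Matrix (Fin m ⊕ Fin m) (Fin m ⊕ Fin m) F)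
    (h1 : ∀ v, v ∈ SW m F → A *ᵥ v ∈ SW m F) (h2 : ∀ v, v ∈ SU' m F → A *ᵥ v ∈ SU' m F) :
    A = fromBlocks A.toBlocks₁₁ 0 0 A.toBlocks₂₂ := by
  conv_lhs => rw [← Matrix.fromBlocks_toBlocks A, block12_zero A h2, block21_zero A h1]

theorem diag_symp (X Y : Matrix (Fin m) (Fin m) F) :
    fromBlocks X 0 0 Y ∈ Matrix.symplecticGroup (Fin m) F ↔ Xᵀ * Y = 1 := by
  rw [SymplecticGroup.fromBlocks_mem_iff]
  simp

theorem diag_stabW (X Y : Matrix (Fin m) (Fin m) F) (hY : IsUnit Y) (v : Fin m ⊕ Fin m → F) :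
    v ∈ SW m F ↔ (fromBlocks X 0 0 Y) *ᵥ v ∈ SW m F := by
  rw [Matrix.fromBlocks_mulVec]
  simp only [Set.mem_ofPred_eq, Sum.elim_inr, Matrix.zero_mulVec, zero_add]
  constructor
  · intro hv i
    have : v ∘ Sum.inr = 0 := by ext j; exact hv j
    rw [this, Matrix.mulVec_zero]; rfl
  · intro hv i
    have h0 : Y *ᵥ (v ∘ Sum.inr) = 0 := by ext j; exact hv j
    obtain ⟨u, hu⟩ := hY
    have : v ∘ Sum.inr = 0 := by
      have := congrArg (fun w => (↑u⁻¹ : Matrix (Fin m) (Fin m) F) *ᵥ w) h0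
      simp only [Matrix.mulVec_mulVec, Matrix.mulVec_zero] at this
      rw [← hu, Units.inv_mul, Matrix.one_mulVec] at this
      exact this
    exact congrFun this i

theorem diag_stabU (X Y : Matrix (Fin m) (Fin m) F) (hX : IsUnit X) (v : Fin m ⊕ Fin m → F) :
    v ∈ SU' m F ↔ (fromBlocks X 0 0 Y) *ᵥ v ∈ SU' m F := by
  rw [Matrix.fromBlocks_mulVec]
  simp only [Set.mem_ofPred_eq, Sum.elim_inl, Matrix.zero_mulVec, add_zero]
  constructor
  · intro hv i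
    have : v ∘ Sum.inl = 0 := by ext j; exact hv j
    rw [this, Matrix.mulVec_zero]; rfl
  · intro hv i
    have h0 : X *ᵥ (v ∘ Sum.inl) = 0 := by ext j; exact hv j
    obtain ⟨u, hu⟩ := hX
    have : v ∘ Sum.inl = 0 := by
      have := congrArg (fun w => (↑u⁻¹ : Matrix (Fin m) (Fin m) F) *ᵥ w) h0
      simp only [Matrix.mulVec_mulVec, Matrix.mulVec_zero] at this
      rw [← hu, Units.inv_mul, Matrix.one_mulVec] at this
      exact this
    exact congrFun this i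

abbrev GG (m : ℕ) (F : Type*) [Field F] : Subgroup (Matrix.symplecticGroup (Fin m) F) :=
  Cfsg.stabilizing (Cfsg.spToMat m F) {v : Fin m ⊕ Fin m → F | ∀ i : Fin m, v (Sum.inr i) = 0} ⊓ Cfsg.stabilizing (Cfsg.spToMat m F) {v : Fin m ⊕ Fin m → F | ∀ i : Fin m, v (Sum.inl i) = 0}

theorem GG_diag (A : GG m F) :
    (A.1.1 : Matrix (Fin m ⊕ Fin m) (Fin m ⊕ Fin m) F) = fromBlocks A.1.1.toBlocks₁₁ 0 0 A.1.1.toBlocks₂₂ :=
  blockdiag A.1.1 (fun v hv => (A.2.1 v).mp hv) (fun v hv => (A.2.2 v).mp hv)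

theorem GG_rel (A : GG m F) : (A.1.1.toBlocks₁₁)ᵀ * A.1.1.toBlocks₂₂ = 1 := by
  have h := A.1.2
  rw [GG_diag A, diag_symp] at h
  exact h

theorem GG_rel' (A : GG m F) : A.1.1.toBlocks₁₁ * (A.1.1.toBlocks₂₂)ᵀ = 1 := by
  have h := GG_rel A
  have h2 : (A.1.1.toBlocks₂₂)ᵀ * A.1.1.toBlocks₁₁ = 1 := by
    have := congrArg Matrix.transpose h
    simpa [Matrix.transpose_mul] using this
  exact (Matrix.mul_eq_one_comm_of_card_eq (Fin m) (Fin m) F rfl).mp h2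

def psiFun (A : GG m F) : Matrix.GeneralLinearGroup (Fin m) F :=
  ⟨A.1.1.toBlocks₁₁, (A.1.1.toBlocks₂₂)ᵀ, GG_rel' A, (Matrix.mul_eq_one_comm_of_card_eq (Fin m) (Fin m) F rfl).mp (GG_rel' A)⟩

theorem psiFun_mul (A B : GG m F) : psiFun (A * B) = psiFun A * psiFun B := by
  apply Units.ext
  show ((A * B).1.1).toBlocks₁₁ = A.1.1.toBlocks₁₁ * B.1.1.toBlocks₁₁
  have hA := GG_diag A
  have hB := GG_diag B
  have : ((A * B).1.1 : Matrix (Fin m ⊕ Fin m) (Fin m ⊕ Fin m) F) = A.1.1 * B.1.1 := rfl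
  rw [this]
  conv_lhs => rw [hA, hB, Matrix.fromBlocks_multiply]
  simp

def psi : GG m F →* Matrix.GeneralLinearGroup (Fin m) F := MonoidHom.mk' psiFun psiFun_mul

theorem psi_inj : Function.Injective (psi (m := m) (F := F)) := by
  intro A B hAB
  have h1 : A.1.1.toBlocks₁₁ = B.1.1.toBlocks₁₁ := congrArg Units.val hAB
  have h2 : A.1.1.toBlocks₂₂ = B.1.1.toBlocks₂₂ := by
    have hA := GG_rel A
    have hB := GG_rel B
    rw [h1] at hA
    have hinv : IsUnit (B.1.1.toBlocks₁₁)ᵀ := by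
      rw [Matrix.isUnit_iff_isUnit_det]
      have := congrArg Matrix.det hB
      rw [Matrix.det_mul, Matrix.det_one] at this
      exact IsUnit.of_mul_eq_one _ this
    obtain ⟨u, hu⟩ := hinv
    have := hA.trans hB.symm
    rw [← hu] at this
    exact (Units.mul_right_inj u).mp this
  apply Subtype.ext
  apply Subtype.ext
  rw [GG_diag A, GG_diag B, h1, h2]

theorem psi_surj : Function.Surjective (psi (m := m) (F := F)) := by
  intro X
  let Y : Matrix (Fin m) (Fin m) F := ((X⁻¹ : Matrix.GeneralLinearGroup (Fin m) F) : Matrix (Fin m) (Fin m) F)ᵀ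
  have hXY : (X : Matrix (Fin m) (Fin m) F)ᵀ * Y = 1 := by
    rw [← Matrix.transpose_mul, ← Units.val_mul, inv_mul_cancel]; simp
  have hsymp : fromBlocks (X : Matrix (Fin m) (Fin m) F) 0 0 Y ∈ Matrix.symplecticGroup (Fin m) F :=
    (diag_symp _ _).mpr hXY
  have hXu : IsUnit (X : Matrix (Fin m) (Fin m) F) := ⟨X, rfl⟩
  have hYu : IsUnit Y := by
    rw [Matrix.isUnit_iff_isUnit_det]
    have := congrArg Matrix.det hXY
    rw [Matrix.det_mul, Matrix.det_one] at this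
    exact IsUnit.of_mul_eq_one_right _ this
  refine ⟨⟨⟨_, hsymp⟩, ?_, ?_⟩, ?_⟩
  · intro v
    exact diag_stabW _ _ hYu v
  · intro v
    exact diag_stabU _ _ hXu v
  · apply Units.ext
    show (fromBlocks (X : Matrix (Fin m) (Fin m) F) 0 0 Y).toBlocks₁₁ = X
    simp

theorem main (m : ℕ) : Nonempty (↥(Cfsg.stabilizing (Cfsg.spToMat m F) {v : Fin m ⊕ Fin m → F | ∀ i : Fin m, v (Sum.inr i) = 0} ⊓ Cfsg.stabilizing (Cfsg.spToMat m F) {v : Fin m ⊕ Fin m → F | ∀ i : Fin m, v (Sum.inl i) = 0}) ≃* Matrix.GeneralLinearGroup (Fin m) F) :=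
  ⟨MulEquiv.ofBijective psi ⟨psi_inj, psi_surj⟩⟩


/-- The elements of Sp_2m(F) stabilising both W = ⟨e_1..e_m⟩ and U = ⟨f_1..f_m⟩ form a subgroup isomorphic to GL_m(F) (block-diagonal matrices diag(X, X^(−ᵀ)) up to the sign convention of J), for m ≥ 1 or m = 0 alike. -/
theorem result {F : Type*} [Field F] (m : ℕ) : Nonempty (↥(Cfsg.stabilizing (Cfsg.spToMat m F) {v : Fin m ⊕ Fin m → F | ∀ i : Fin m, v (Sum.inr i) = 0} ⊓ Cfsg.stabilizing (Cfsg.spToMat m F) {v : Fin m ⊕ Fin m → F | ∀ i : Fin m, v (Sum.inl i) = 0}) ≃* Matrix.GeneralLinearGroup (Fin m) F) := by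
  exact main m

end Cfsg.Agent.S0778
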