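import Cfsg.Statements.S0785
import Cfsg.Agent.Lib.helper6.Quad
import Cfsg.Agent.S0784

set_option autoImplicit false
open Cfsg Cfsg.Agent.Lib.helper6

namespace Cfsg.Agent.S0785

/-- det(I) = {±1}: for a quadratic form on F^n whose polar form is non-degenerate, every element of the isometry group has determinant 1 or −1, and as soon as Q takes a non-zero value some isometry has determinant −1. -/
theorem result {F : Type*} [Field F] {n : ℕ} (Q : QuadraticForm F (Fin n → F)) (hQ : (QuadraticMap.polarBilin Q).Nondegenerate) : (∀ g : ↥(Cfsg.isometryGroup F ⇑Q), ((g : Matrix.GeneralLinearGroup (Fin n) F) : Matrix (Fin n) (Fin n) F).det = 1 ∨ ((g : Matrix.GeneralLinearGroup (Fin n) F) : Matrix (Fin n) (Fin n) F).det = -1) ∧ ((∃ v, Q v ≠ 0) → ∃ g : ↥(Cfsg.isometryGroup F ⇑Q), ((g : Matrix.GeneralLinearGroup (Fin n) F) : Matrix (Fin n) (Fin n) F).det = -1) := by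
  constructor
  · intro g
    set G : Matrix (Fin n) (Fin n) F := ((g : Matrix.GeneralLinearGroup (Fin n) F) : Matrix (Fin n) (Fin n) F) with hG
    have hgQ : ∀ x, Q (G.mulVec x) = Q x := fun x => g.2 x x
    set B : LinearMap.BilinForm F (Fin n → F) := QuadraticMap.polarBilin Q with hB
    have hcomp : LinearMap.BilinForm.comp B (Matrix.toLin' G) (Matrix.toLin' G) = B := by
      apply LinearMap.ext
      intro x
      apply LinearMap.ext
      intro y
      rw [LinearMap.BilinForm.comp_apply, Matrix.toLin'_apply, Matrix.toLin'_apply, hB,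
        QuadraticMap.polarBilin_apply_apply, QuadraticMap.polarBilin_apply_apply]
      unfold QuadraticMap.polar
      rw [← Matrix.mulVec_add, hgQ, hgQ, hgQ]
    have hM := LinearMap.BilinForm.toMatrix'_comp B (Matrix.toLin' G) (Matrix.toLin' G)
    rw [hcomp, LinearMap.toMatrix'_toLin'] at hM
    have hdet := congrArg Matrix.det hM
    rw [Matrix.det_mul, Matrix.det_mul, Matrix.det_transpose] at hdet
    have hMdet : (LinearMap.BilinForm.toMatrix' B).det ≠ 0 := by
      have := (LinearMap.BilinForm.nondegenerate_toMatrix'_iff (B := B)).mpr hQ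
      exact Matrix.nondegenerate_iff_det_ne_zero.mp this
    have h1 : G.det * G.det = 1 := by
      have : (G.det * G.det) * (LinearMap.BilinForm.toMatrix' B).det = 1 * (LinearMap.BilinForm.toMatrix' B).det := by
        rw [one_mul]
        calc G.det * G.det * (LinearMap.BilinForm.toMatrix' B).det
            = G.det * (LinearMap.BilinForm.toMatrix' B).det * G.det := by ring
          _ = (LinearMap.BilinForm.toMatrix' B).det := hdet.symm
      exact mul_right_cancel₀ hMdet this
    exact mul_self_eq_one_iff.mp h1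
  · rintro ⟨v, hv⟩
    obtain ⟨h1, -, -, h4⟩ := Cfsg.Agent.S0784.result Q v hv
    have hdet : (Cfsg.reflectionMatrix (⇑Q) v).det ≠ 0 := by
      rw [h4]; exact neg_ne_zero.mpr one_ne_zero
    refine ⟨⟨Matrix.GeneralLinearGroup.mkOfDetNeZero _ hdet, ?_⟩, ?_⟩
    · intro x _
      exact h1 x
    · exact h4

end Cfsg.Agent.S0785
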