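import Cfsg.Statements.S0787
import Cfsg.Agent.Lib.Lead.OmegaIdx
import Cfsg.Agent.Lib.Lead.DicksonGen
import Cfsg.Agent.Lib.helper6.CartanDieudonne

set_option autoImplicit false

open Cfsg

namespace Cfsg.Agent.S0787

open Cfsg.Agent.Lib.Helper16 Cfsg.Agent.Lib.Lead

/-- the commutator subgroup lies in a normal subgroup modulo which the generators commute -/
theorem commutator_le_of_gens {G : Type*} [Group G] (R : Set G) (hR : Subgroup.closure R = ⊤)
    (N : Subgroup G) [N.Normal] (h : ∀ a ∈ R, ∀ b ∈ R, a * b * a⁻¹ * b⁻¹ ∈ N) :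
    commutator G ≤ N := by
  apply Subgroup.Normal.quotient_commutative_iff_commutator_le.mp
  have key : ∀ a ∈ R, ∀ b ∈ R, Commute (QuotientGroup.mk' N a) (QuotientGroup.mk' N b) := by
    intro a ha b hb
    have h1 : QuotientGroup.mk' N (a * b * a⁻¹ * b⁻¹) = 1 :=
      (QuotientGroup.eq_one_iff _).mpr (h a ha b hb)
    simp only [map_mul, map_inv] at h1
    rw [← commutatorElement_def, commutatorElement_eq_one_iff_mul_comm] at h1
    exact h1
  have step1 : ∀ a ∈ R, ∀ g : G, Commute (QuotientGroup.mk' N a) (QuotientGroup.mk' N g) := by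
    intro a ha g
    have hg : g ∈ Subgroup.closure R := by rw [hR]; exact Subgroup.mem_top g
    induction hg using Subgroup.closure_induction with
    | mem x hx => exact key a ha x hx
    | one => rw [map_one]; exact Commute.one_right _
    | mul x y _ _ hx hy => rw [map_mul]; exact hx.mul_right hy
    | inv x _ hx => rw [map_inv]; exact hx.inv_right
  have step2 : ∀ g k : G, Commute (QuotientGroup.mk' N g) (QuotientGroup.mk' N k) := by
    intro g k
    have hg : g ∈ Subgroup.closure R := by rw [hR]; exact Subgroup.mem_top g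
    induction hg using Subgroup.closure_induction with
    | mem x hx => exact step1 x hx k
    | one => rw [map_one]; exact Commute.one_left _
    | mul x y _ _ hx hy => rw [map_mul]; exact hx.mul_left hy
    | inv x _ hx => rw [map_inv]; exact hx.inv_left
  refine ⟨⟨fun x' y' => ?_⟩⟩
  obtain ⟨x, rfl⟩ := QuotientGroup.mk'_surjective N x'
  obtain ⟨y, rfl⟩ := QuotientGroup.mk'_surjective N y'
  exact step2 x y

/-- a normal subgroup `S` with a subgroup `Ω` of relative index two generated by conjugates of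
squares of elements of `S` has exactly one subgroup of index two -/
theorem unique_index_two {G : Type*} [Group G] (S Ω : Subgroup G) [S.Normal]
    (hrel : Ω.relIndex S = 2)
    (hsq : Ω ≤ Subgroup.normalClosure {x | ∃ s ∈ S, x = s * s}) :
    ∃! H : Subgroup ↥S, H.index = 2 := by
  refine ⟨Ω.subgroupOf S, hrel, ?_⟩
  intro K hK
  have hle : Ω.subgroupOf S ≤ K := by
    intro x hx
    rw [Subgroup.mem_subgroupOf] at hx
    have hx' := hsq hx
    have hcl : Subgroup.normalClosure {x | ∃ s ∈ S, x = s * s} ≤ K.map S.subtype := by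
      unfold Subgroup.normalClosure
      rw [Subgroup.closure_le]
      intro a ha
      rw [Group.mem_conjugatesOfSet_iff] at ha
      obtain ⟨b, ⟨s, hs, rfl⟩, hconj⟩ := ha
      rw [isConj_iff] at hconj
      obtain ⟨c, rfl⟩ := hconj
      have hcs : c * s * c⁻¹ ∈ S := Subgroup.Normal.conj_mem inferInstance s hs c
      refine ⟨⟨c * s * c⁻¹, hcs⟩ * ⟨c * s * c⁻¹, hcs⟩, Subgroup.mul_self_mem_of_index_two hK _, ?_⟩
      show (c * s * c⁻¹) * (c * s * c⁻¹) = c * (s * s) * c⁻¹
      group
    obtain ⟨y, hy, hyx⟩ := hcl hx'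
    have : y = x := Subtype.ext hyx
    rw [← this]
    exact hy
  have h1 := Subgroup.relIndex_mul_index hle
  have h2 : (Ω.subgroupOf S).index = 2 := hrel
  rw [hK, h2] at h1
  have h3 : (Ω.subgroupOf S).relIndex K = 1 := by omega
  rw [Subgroup.relIndex_eq_one] at h3
  exact le_antisymm h3 hle

variable {F : Type*} [Field F] [Fintype F] {n : ℕ}

theorem sq_mem (Q : QuadraticForm F (Fin n → F))
    (hgen : Subgroup.closure {g : ↥(Cfsg.isometryGroup F ⇑Q) | ∃ v : Fin n → F, Q v ≠ 0 ∧
      ((g : Matrix.GeneralLinearGroup (Fin n) F) : Matrix (Fin n) (Fin n) F) =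
        Cfsg.reflectionMatrix ⇑Q v} = ⊤) :
    Cfsg.Omega F ⇑Q ≤ Subgroup.normalClosure
      {x | ∃ s ∈ Cfsg.specialIsometryGroup F ⇑Q, x = s * s} := by
  apply commutator_le_of_gens _ hgen
  rintro a ⟨u, hu, hau⟩ b ⟨v, hv, hbv⟩
  have ha : a = reflG Q u hu := by
    apply iso_ext'
    rw [reflG_coe]; exact hau
  have hb : b = reflG Q v hv := by
    apply iso_ext'
    rw [reflG_coe]; exact hbv
  apply Subgroup.subset_normalClosure
  refine ⟨a * b, ?_, ?_⟩
  · show isoDet (⇑Q) (a * b) = 1
    rw [map_mul, ha, hb, isoDet_reflG, isoDet_reflG]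
    simp
  · rw [ha, hb, reflG_inv, reflG_inv]
    group

instance normal_so (Q : QuadraticForm F (Fin n → F)) :
    (Cfsg.specialIsometryGroup F ⇑Q).Normal := by
  unfold Cfsg.specialIsometryGroup
  infer_instance

theorem omega_le_so (Q : QuadraticForm F (Fin n → F)) :
    Cfsg.Omega F ⇑Q ≤ Cfsg.specialIsometryGroup F ⇑Q :=
  Abelianization.commutator_subset_ker (isoDet (⇑Q))

theorem so_index (h2 : (2 : F) ≠ 0) (hn : 2 ≤ n) (Q : QuadraticForm F (Fin n → F))
    (hQ : (QuadraticMap.polarBilin Q).Nondegenerate) :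
    (Cfsg.specialIsometryGroup F ⇑Q).index = 2 := by
  have hker : Cfsg.specialIsometryGroup F ⇑Q = (OI.detSign h2 Q hQ).ker := by
    ext g
    rw [MonoidHom.mem_ker, OI.detSign_apply]
    show isoDet (⇑Q) g = 1 ↔ _
    constructor
    · intro h; rw [if_pos h]
    · intro h
      by_contra hne
      rw [if_neg hne] at h
      exact absurd h (by decide)
  rw [hker, Subgroup.index_ker]
  have hsurj : Function.Surjective (OI.detSign h2 Q hQ) := by
    obtain ⟨u, hu⟩ := OI.exists_value h2 hn Q hQ 1 one_ne_zero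
    have hu0 : Q u ≠ 0 := by rw [hu]; exact one_ne_zero
    have hdu : OI.detSign h2 Q hQ (reflG Q u hu0) = -1 := by
      have := OI.detSign_prod h2 Q hQ [u] (by simpa using hu0)
      simpa [reflG'_eq Q u hu0] using this
    intro a
    rcases Int.units_eq_one_or a with rfl | rfl
    · exact ⟨1, map_one _⟩
    · exact ⟨_, hdu⟩
  rw [MonoidHom.range_eq_top.mpr hsurj, Nat.card_congr (Subgroup.topEquiv (G := ℤˣ)).toEquiv]
  simp

theorem so_eq_top [CharP F 2] (Q : QuadraticForm F (Fin n → F))
    (hG : DK.GenByRefl Q) : Cfsg.specialIsometryGroup F ⇑Q = ⊤ := by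
  rw [eq_top_iff]
  intro g _
  obtain ⟨vs, hvs, rfl⟩ := hG g
  show isoDet (⇑Q) _ = 1
  rw [isoDet_prod Q vs hvs]
  have : (-1 : Fˣ) = 1 := by
    apply Units.ext
    push_cast
    exact CharTwo.neg_eq _
  rw [this, one_pow]

theorem result {F : Type*} [Field F] [Fintype F] {n : ℕ} (hn : 2 ≤ n) (Q : QuadraticForm F (Fin n → F)) (hQ : (QuadraticMap.polarBilin Q).Nondegenerate) (h : Fintype.card F ≠ 2 ∨ n ≠ 4) : ∃! H : Subgroup ↥(Cfsg.specialIsometryGroup F ⇑Q), H.index = 2 := by
  have h' : Fintype.card F ≠ 2 ∨ Fintype.card (Fin n) ≠ 4 := by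
    rw [Fintype.card_fin]; exact h
  by_cases h2 : (2 : F) = 0
  · have : CharP F 2 := CharTwo.of_one_ne_zero_of_two_eq_zero one_ne_zero h2
    have hgen := Cfsg.Agent.Lib.Helper16.C2.generation Q hQ h'
    apply unique_index_two (Cfsg.specialIsometryGroup F ⇑Q) (Cfsg.Omega F ⇑Q)
    · rw [so_eq_top Q (DK.genByRefl Q hQ h'), Subgroup.relIndex_top_right]
      exact DK.index_omega_char2 Q hQ (by rw [Fintype.card_fin]; omega) h'
    · exact sq_mem Q hgen
  · have hgen := Cfsg.Agent.Lib.helper6.CD.cartan_dieudonne h2 Q hQ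
    apply unique_index_two (Cfsg.specialIsometryGroup F ⇑Q) (Cfsg.Omega F ⇑Q)
    · have h1 := Subgroup.relIndex_mul_index (omega_le_so Q)
      rw [so_index h2 hn Q hQ, OI.index_omega h2 hn Q hQ] at h1
      omega
    · exact sq_mem Q hgen

end Cfsg.Agent.S0787
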