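import Cfsg.Statements.S0789
import Cfsg.Agent.Lib.Lead.DicksonGen

set_option autoImplicit false

open Cfsg

namespace Cfsg.Agent.S0789

theorem result {F : Type*} [Field F] [Fintype F] [CharP F 2] {n : ℕ} (hn : 2 ≤ n) (Q : QuadraticForm F (Fin n → F)) (hQ : (QuadraticMap.polarBilin Q).Nondegenerate) (h : Fintype.card F ≠ 2 ∨ n ≠ 4) : (Cfsg.Omega F ⇑Q).index = 2 := by
  apply Cfsg.Agent.Lib.Lead.DK.index_omega_char2 Q hQ
  · rw [Fintype.card_fin]; omega
  · rw [Fintype.card_fin]; exact h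

end Cfsg.Agent.S0789
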