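import Cfsg.Statements.S0792
import Mathlib
import Cfsg.Agent.Lib.helper6.CartanDieudonne

set_option autoImplicit false
open Cfsg

namespace Cfsg.Agent.S0792

open Matrix Cfsg.Agent.Lib.helper6 Cfsg.Agent.Lib.helper6.CD

variable {F : Type*} [Field F] {n : ℕ}

def Pairs (Q : QuadraticForm F (Fin n → F)) : Set ↥(Cfsg.isometryGroup F ⇑Q) :=
  {g | ∃ u v : Fin n → F, Q u ≠ 0 ∧ Q v ≠ 0 ∧ ((g : Matrix.GeneralLinearGroup (Fin n) F) : Matrix (Fin n) (Fin n) F) = Cfsg.reflectionMatrix ⇑Q u * Cfsg.reflectionMatrix ⇑Q v}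

theorem mem_SO (Q : QuadraticForm F (Fin n → F)) (g : ↥(Cfsg.isometryGroup F ⇑Q)) :
    g ∈ Cfsg.specialIsometryGroup F ⇑Q ↔
      ((g : Matrix.GeneralLinearGroup (Fin n) F) : Matrix (Fin n) (Fin n) F).det = 1 := by
  unfold Cfsg.specialIsometryGroup
  rw [MonoidHom.mem_ker, MonoidHom.comp_apply, Units.ext_iff, Matrix.GeneralLinearGroup.val_det_apply]
  rfl

theorem Rset_det (Q : QuadraticForm F (Fin n → F)) (r : ↥(Cfsg.isometryGroup F ⇑Q)) (hr : r ∈ Rset Q) :
    ((r : Matrix.GeneralLinearGroup (Fin n) F) : Matrix (Fin n) (Fin n) F).det = -1 := by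
  obtain ⟨u, hu, hru⟩ := hr
  rw [hru]
  exact (Cfsg.Agent.S0784.result Q u hu).2.2.2

theorem pair_mem (Q : QuadraticForm F (Fin n → F)) (r s : ↥(Cfsg.isometryGroup F ⇑Q))
    (hr : r ∈ Rset Q) (hs : s ∈ Rset Q) : r * s ∈ Pairs Q := by
  obtain ⟨u, hu, hru⟩ := hr
  obtain ⟨v, hv, hsv⟩ := hs
  refine ⟨u, v, hu, hv, ?_⟩
  show ((r : Matrix.GeneralLinearGroup (Fin n) F) : Matrix (Fin n) (Fin n) F) *
    ((s : Matrix.GeneralLinearGroup (Fin n) F) : Matrix (Fin n) (Fin n) F) = _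
  rw [hru, hsv]

theorem main [Fintype F] (h2 : (2 : F) ≠ 0) (Q : QuadraticForm F (Fin n → F)) (hQ : (QuadraticMap.polarBilin Q).Nondegenerate) : Cfsg.specialIsometryGroup F ⇑Q = Subgroup.closure {g : ↥(Cfsg.isometryGroup F ⇑Q) | ∃ u v : Fin n → F, Q u ≠ 0 ∧ Q v ≠ 0 ∧ ((g : Matrix.GeneralLinearGroup (Fin n) F) : Matrix (Fin n) (Fin n) F) = Cfsg.reflectionMatrix ⇑Q u * Cfsg.reflectionMatrix ⇑Q v} := by
  show _ = Subgroup.closure (Pairs Q)
  have hle : Subgroup.closure (Pairs Q) ≤ Cfsg.specialIsometryGroup F ⇑Q := by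
    rw [Subgroup.closure_le]
    rintro g ⟨u, v, hu, hv, hg⟩
    show g ∈ Cfsg.specialIsometryGroup F ⇑Q
    rw [mem_SO, hg, Matrix.det_mul, (Cfsg.Agent.S0784.result Q u hu).2.2.2,
      (Cfsg.Agent.S0784.result Q v hv).2.2.2]
    ring
  apply le_antisymm _ hle
  intro g hg
  have hgcl : g ∈ Subgroup.closure (Rset Q) := by
    rw [cartan_dieudonne h2 Q hQ]; trivial
  have key : ∀ y ∈ Subgroup.closure (Rset Q),
      y ∈ Subgroup.closure (Pairs Q) ∨ ∃ r ∈ Rset Q, r * y ∈ Subgroup.closure (Pairs Q) := by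
    intro y hy
    induction hy using Subgroup.closure_induction_left with
    | one => exact Or.inl (Subgroup.one_mem _)
    | mul_left x hx y _ ih =>
      rcases ih with h | ⟨r, hr, h⟩
      · right
        refine ⟨x, hx, ?_⟩
        rw [← mul_assoc, Rset_sq Q x hx, one_mul]
        exact h
      · left
        have : x * y = (x * r) * (r * y) := by
          rw [mul_assoc, ← mul_assoc r, Rset_sq Q r hr, one_mul]
        rw [this]
        exact Subgroup.mul_mem _ (Subgroup.subset_closure (pair_mem Q x r hx hr)) h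
    | inv_mul_cancel x hx y _ ih =>
      rw [Rset_inv Q x hx]
      rcases ih with h | ⟨r, hr, h⟩
      · right
        refine ⟨x, hx, ?_⟩
        rw [← mul_assoc, Rset_sq Q x hx, one_mul]
        exact h
      · left
        have : x * y = (x * r) * (r * y) := by
          rw [mul_assoc, ← mul_assoc r, Rset_sq Q r hr, one_mul]
        rw [this]
        exact Subgroup.mul_mem _ (Subgroup.subset_closure (pair_mem Q x r hx hr)) h
  rcases key g hgcl with h | ⟨r, hr, h⟩
  · exact h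
  · exfalso
    have h1 := (mem_SO Q _).mp (hle h)
    have h3 := (mem_SO Q g).mp hg
    have : ((r * g : ↥(Cfsg.isometryGroup F ⇑Q)) : Matrix.GeneralLinearGroup (Fin n) F).1
        = ((r : Matrix.GeneralLinearGroup (Fin n) F) : Matrix (Fin n) (Fin n) F) *
          ((g : Matrix.GeneralLinearGroup (Fin n) F) : Matrix (Fin n) (Fin n) F) := rfl
    rw [this, Matrix.det_mul, Rset_det Q r hr, h3] at h1
    apply h2
    linear_combination -h1


/-- For q odd and Q with non-degenerate polar form on F^n, the determinant-one isometries form the subgroup generated by all products r_u r_v of two reflections (Q(u), Q(v) ≠ 0). -/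
theorem result {F : Type*} [Field F] [Fintype F] (h2 : (2 : F) ≠ 0) {n : ℕ} (Q : QuadraticForm F (Fin n → F)) (hQ : (QuadraticMap.polarBilin Q).Nondegenerate) : Cfsg.specialIsometryGroup F ⇑Q = Subgroup.closure {g : ↥(Cfsg.isometryGroup F ⇑Q) | ∃ u v : Fin n → F, Q u ≠ 0 ∧ Q v ≠ 0 ∧ ((g : Matrix.GeneralLinearGroup (Fin n) F) : Matrix (Fin n) (Fin n) F) = Cfsg.reflectionMatrix ⇑Q u * Cfsg.reflectionMatrix ⇑Q v} := by
  exact main h2 Q hQ

end Cfsg.Agent.S0792
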