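import Cfsg.Statements.S0796
import Mathlib

set_option autoImplicit false
open Cfsg

namespace Cfsg.Agent.S0796

noncomputable def quotTopEquiv {G : Type*} [Group G] (L K : Subgroup G) [K.Normal] (hL : L = ⊤) :
    L ⧸ K.subgroupOf L ≃* G ⧸ K :=
  QuotientGroup.congr (K.subgroupOf L) K
    (MulEquiv.ofBijective L.subtype ⟨L.subtype_injective, fun g => ⟨⟨g, by rw [hL]; trivial⟩, rfl⟩⟩)
    (by
      have : ((MulEquiv.ofBijective L.subtype ⟨L.subtype_injective, fun g => ⟨⟨g, by rw [hL]; trivial⟩, rfl⟩⟩ : L ≃* G) : L →* G) = L.subtype := by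
        ext y; rfl
      change (K.subgroupOf L).map ((MulEquiv.ofBijective L.subtype _ : L ≃* G) : L →* G) = K
      rw [this, Subgroup.subgroupOf_map_subtype, hL, inf_top_eq])

/-- If G is finite and acts faithfully and primitively on X, H is the stabiliser of a point, A is a normal subgroup of H whose normal closure in G is G, then for every non-trivial normal subgroup K of G the quotient G ⧸ K is isomorphic to A ⧸ B for some normal subgroup B of A. -/
theorem result {G X : Type*} [Group G] [Finite G] [MulAction G X] [FaithfulSMul G X] (hprim : MulAction.IsPreprimitive G X) (x : X) (A : Subgroup G) (hA : A ≤ MulAction.stabilizer G x) (hAn : (A.subgroupOf (MulAction.stabilizer G x)).Normal) (hgen : Subgroup.normalClosure (A : Set G) = ⊤) (K : Subgroup G) [K.Normal] (hK : K ≠ ⊥) : ∃ (B : Subgroup A) (_ : B.Normal), Nonempty (G ⧸ K ≃* A ⧸ B) := by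
  haveI := hprim
  have hfix : MulAction.fixedPoints K X ≠ Set.univ := by
    intro h
    apply hK
    rw [Subgroup.eq_bot_iff_forall]
    intro k hk
    apply FaithfulSMul.eq_of_smul_eq_smul (α := X)
    intro y
    rw [one_smul]
    have : y ∈ MulAction.fixedPoints K X := by rw [h]; trivial
    exact this ⟨k, hk⟩
  have htrans : MulAction.IsPretransitive K X :=
    MulAction.IsQuasiPreprimitive.isPretransitive_of_normal hfix
  have hSA : MulAction.stabilizer G x ≤ Subgroup.normalizer (A : Set G) :=
    (Subgroup.normal_subgroupOf_iff_le_normalizer hA).mp hAn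
  have hnormal : (A ⊔ K).Normal := by
    rw [← Subgroup.normalizer_eq_top_iff, eq_top_iff]
    intro g _
    obtain ⟨k, hk⟩ := MulAction.exists_smul_eq K x (g • x)
    have hs : (k : G)⁻¹ * g ∈ MulAction.stabilizer G x := by
      rw [MulAction.mem_stabilizer_iff, mul_smul, inv_smul_eq_iff]
      exact hk.symm
    have hk' : (k : G) ∈ Subgroup.normalizer ((A ⊔ K : Subgroup G) : Set G) :=
      Subgroup.le_normalizer (Subgroup.mem_sup_right k.2)
    have hs' : (k : G)⁻¹ * g ∈ Subgroup.normalizer ((A ⊔ K : Subgroup G) : Set G) := by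
      apply Subgroup.normalizer_inf_normalizer_le_normalizer_sup A K
      refine ⟨hSA hs, ?_⟩
      rw [Subgroup.normalizer_eq_top_iff.mpr inferInstance]
      trivial
    have : g = (k : G) * ((k : G)⁻¹ * g) := by group
    rw [this]
    exact Subgroup.mul_mem _ hk' hs'
  have htop : A ⊔ K = ⊤ := by
    rw [eq_top_iff, ← hgen]
    exact Subgroup.normalClosure_le_normal (le_sup_left (a := A) (b := K))
  refine ⟨K.subgroupOf A, inferInstance, ⟨?_⟩⟩
  exact ((QuotientGroup.quotientInfEquivProdNormalQuotient A K).trans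
    (quotTopEquiv (A ⊔ K) K htop)).symm

end Cfsg.Agent.S0796
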