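import Cfsg.Statements.S0797
import Mathlib
import Cfsg.Prelude.Def_ClassicalGeometry
import Cfsg.Statements.S0797
import Cfsg.Agent.Lib.Lead.OmegaIdx

set_option autoImplicit false
open Cfsg

namespace Cfsg.Agent.S0797

open Cfsg Cfsg.Agent.Lib.Lead.OI Cfsg.Agent.Lib.Helper16
open scoped commutatorElement

/-- index 2 subgroups contain the commutator subgroup -/
theorem commutator_le_of_index_two {G : Type*} [Group G] (H : Subgroup G) (h : H.index = 2) :
    commutator G ≤ H := by
  haveI : H.Normal := Subgroup.normal_of_index_eq_two h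
  rw [commutator_eq_closure, Subgroup.closure_le]
  rintro x ⟨a, b, rfl⟩
  -- G/H has order 2, hence commutative
  have hcard : Nat.card (G ⧸ H) = 2 := h
  have : (QuotientGroup.mk' H) ⁅a, b⁆ = 1 := by
    rw [map_commutatorElement]
    haveI : Fact (Nat.Prime 2) := ⟨Nat.prime_two⟩
    haveI : IsCyclic (G ⧸ H) := isCyclic_of_prime_card hcard
    rw [commutatorElement_eq_one_iff_mul_comm]
    exact (IsCyclic.commGroup (α := G ⧸ H)).mul_comm _ _
  exact (QuotientGroup.eq_one_iff _).mp this

/-- index 2 subgroups of the Klein group -/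
theorem klein_count : Nat.card {K : Subgroup (ℤˣ × ℤˣ) // K.index = 2} = 3 := by
  have h4 : Nat.card (ℤˣ × ℤˣ) = 4 := by simp [Nat.card_prod]
  have hcardK : ∀ K : Subgroup (ℤˣ × ℤˣ), K.index = 2 ↔ Nat.card K = 2 := by
    intro K
    have := K.card_mul_index
    rw [h4] at this
    constructor
    · intro h; rw [h] at this; omega
    · intro h; rw [h] at this; omega
  have hsq : ∀ x : ℤˣ × ℤˣ, x * x = 1 := by
    rintro ⟨a, b⟩
    simp [Prod.ext_iff, Int.units_mul_self]
  let f : {x : ℤˣ × ℤˣ // x ≠ 1} → {K : Subgroup (ℤˣ × ℤˣ) // K.index = 2} := fun x =>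
    ⟨Subgroup.zpowers x.1, by
      rw [hcardK, Nat.card_zpowers]
      apply orderOf_eq_prime
      · rw [pow_two]; exact hsq _
      · exact x.2⟩
  have hmem : ∀ (x y : ℤˣ × ℤˣ), y ∈ Subgroup.zpowers x → y = 1 ∨ y = x := by
    intro x y hy
    rw [Subgroup.mem_zpowers_iff] at hy
    obtain ⟨k, rfl⟩ := hy
    rcases Int.even_or_odd k with ⟨m, hm⟩ | ⟨m, hm⟩
    · left
      rw [hm, zpow_add, ← mul_zpow, hsq, one_zpow]
    · right
      rw [hm, zpow_add, zpow_one, two_mul, zpow_add, ← mul_zpow, hsq, one_zpow, one_mul]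
  have hf : Function.Bijective f := by
    constructor
    · intro x y hxy
      have h1 : Subgroup.zpowers x.1 = Subgroup.zpowers y.1 := congrArg Subtype.val hxy
      have : x.1 ∈ Subgroup.zpowers y.1 := h1 ▸ Subgroup.mem_zpowers x.1
      rcases hmem _ _ this with h | h
      · exact absurd h x.2
      · exact Subtype.ext h
    · rintro ⟨K, hK⟩
      have hK2 : Nat.card K = 2 := (hcardK K).mp hK
      haveI : Nontrivial K := by
        rw [← Finite.one_lt_card_iff_nontrivial, hK2]; norm_num
      obtain ⟨⟨x, hxK⟩, hx⟩ := exists_ne (1 : K)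
      have hx1 : x ≠ 1 := fun h => hx (Subtype.ext h)
      refine ⟨⟨x, hx1⟩, Subtype.ext ?_⟩
      show Subgroup.zpowers x = K
      have hle : Subgroup.zpowers x ≤ K := by
        rw [Subgroup.zpowers_le]; exact hxK
      apply Subgroup.eq_of_le_of_card_ge hle
      rw [hK2, Nat.card_zpowers, orderOf_eq_prime (p := 2) (by rw [pow_two]; exact hsq _) hx1]
  rw [← Nat.card_congr (Equiv.ofBijective f hf)]
  have : Nat.card {x : ℤˣ × ℤˣ // x ≠ 1} = Nat.card (ℤˣ × ℤˣ) - 1 := by
    rw [Nat.card_eq_fintype_card, Nat.card_eq_fintype_card, Fintype.card_subtype_compl,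
      Fintype.card_subtype_eq]
  rw [this, h4]

theorem main {F : Type*} [Field F] [Fintype F] (h2 : (2 : F) ≠ 0) {n : ℕ} (hn : 2 ≤ n) (heven : Even n) (Q : QuadraticForm F (Fin n → F)) (hQ : (QuadraticMap.polarBilin Q).Nondegenerate) : Nat.card {H : Subgroup ↥(Cfsg.isometryGroup F ⇑Q) // H.index = 2} = 3 := by
  obtain ⟨χ, κ, hχ⟩ := spin_char_formula h2 Q
  set ψ := (detSign h2 Q hQ).prod χ with hψ
  have hker : Cfsg.Omega F ⇑Q = ψ.ker := omega_eq_ker h2 Q hQ χ κ hχ
  have hsurj : Function.Surjective ψ := surj h2 hn Q hQ χ κ hχ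
  rw [← klein_count]
  refine Nat.card_congr
    { toFun := fun H => ⟨H.1.map ψ, ?_⟩
      invFun := fun K => ⟨K.1.comap ψ, ?_⟩
      left_inv := ?_
      right_inv := ?_ }
  · have hle : ψ.ker ≤ H.1 := by
      rw [← hker]; exact commutator_le_of_index_two H.1 H.2
    rw [← Subgroup.index_comap_of_surjective _ hsurj, Subgroup.comap_map_eq_self hle]
    exact H.2
  · rw [Subgroup.index_comap_of_surjective _ hsurj]; exact K.2
  · intro H
    have hle : ψ.ker ≤ H.1 := by
      rw [← hker]; exact commutator_le_of_index_two H.1 H.2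
    exact Subtype.ext (Subgroup.comap_map_eq_self hle)
  · intro K
    exact Subtype.ext (Subgroup.map_comap_eq_self_of_surjective hsurj _)


/-- O^ε_2m(q) ≅ Ω.2² for q odd: if F is finite of odd characteristic, n ≥ 2 is even and Q has non-degenerate polar form on F^n, the isometry group of Q has exactly three subgroups of index 2. -/
theorem result {F : Type*} [Field F] [Fintype F] (h2 : (2 : F) ≠ 0) {n : ℕ} (hn : 2 ≤ n) (heven : Even n) (Q : QuadraticForm F (Fin n → F)) (hQ : (QuadraticMap.polarBilin Q).Nondegenerate) : Nat.card {H : Subgroup ↥(Cfsg.isometryGroup F ⇑Q) // H.index = 2} = 3 := by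
  exact main h2 hn heven Q hQ

end Cfsg.Agent.S0797
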