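import Cfsg.Statements.S0798
import Cfsg.Agent.Lib.Lead.OmegaIdx

set_option autoImplicit false
set_option linter.unusedSectionVars false
open Cfsg

namespace Cfsg.Agent.S0798

open Matrix Cfsg.Agent.Lib.helper6 Cfsg.Agent.Lib.Helper16 Cfsg.Agent.Lib.Lead

variable {F : Type*} [Field F] {n : ℕ}

theorem Q_comb (Q : QuadraticForm F (Fin n → F)) (u v : Fin n → F) (α β : F) :
    Q (α • u + β • v) = α ^ 2 * Q u + β ^ 2 * Q v + α * β * QuadraticMap.polar (⇑Q) u v := by
  have h1 : Q (α • u + β • v) = Q (α • u) + Q (β • v) + QuadraticMap.polar (⇑Q) (α • u) (β • v) := by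
    unfold QuadraticMap.polar; ring
  rw [h1, QuadraticMap.map_smul, QuadraticMap.map_smul, QuadraticMap.polar_smul_left,
    QuadraticMap.polar_smul_right]
  simp only [smul_eq_mul]
  ring

theorem polar_comb_left (Q : QuadraticForm F (Fin n → F)) (u v x : Fin n → F) (α β : F) :
    QuadraticMap.polar (⇑Q) (α • u + β • v) x
      = α * QuadraticMap.polar (⇑Q) u x + β * QuadraticMap.polar (⇑Q) v x := by
  rw [QuadraticMap.polar_add_left, QuadraticMap.polar_smul_left, QuadraticMap.polar_smul_left]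
  simp only [smul_eq_mul]

theorem polar_comb_right (Q : QuadraticForm F (Fin n → F)) (u v x : Fin n → F) (α β : F) :
    QuadraticMap.polar (⇑Q) x (α • u + β • v)
      = α * QuadraticMap.polar (⇑Q) x u + β * QuadraticMap.polar (⇑Q) x v := by
  rw [QuadraticMap.polar_add_right, QuadraticMap.polar_smul_right, QuadraticMap.polar_smul_right]
  simp only [smul_eq_mul]

theorem Q_three (Q : QuadraticForm F (Fin n → F)) (u v : Fin n → F) (α β : F) :
    Q ((-(β * Q v)) • u + (α * Q u + β * QuadraticMap.polar (⇑Q) u v) • v)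
      = Q (α • u + β • v) * Q u * Q v := by
  rw [Q_comb, Q_comb]
  ring

theorem three_refl (Q : QuadraticForm F (Fin n → F)) (u v : Fin n → F) (α β : F)
    (hu : Q u ≠ 0) (hv : Q v ≠ 0) (ha : Q (α • u + β • v) ≠ 0) :
    Cfsg.reflectionMatrix ⇑Q u * Cfsg.reflectionMatrix ⇑Q v
      = Cfsg.reflectionMatrix ⇑Q (α • u + β • v) *
        Cfsg.reflectionMatrix ⇑Q
          ((-(β * Q v)) • u + (α * Q u + β * QuadraticMap.polar (⇑Q) u v) • v) := by
  have hb : Q ((-(β * Q v)) • u + (α * Q u + β * QuadraticMap.polar (⇑Q) u v) • v) ≠ 0 := by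
    rw [Q_three]
    exact mul_ne_zero (mul_ne_zero ha hu) hv
  rw [Matrix.ext_iff_mulVec]
  intro x
  rw [← Matrix.mulVec_mulVec, ← Matrix.mulVec_mulVec, reflectionMatrix_mulVec,
    reflectionMatrix_mulVec, reflectionMatrix_mulVec, reflectionMatrix_mulVec]
  rw [Q_three] at hb ⊢
  rw [Q_comb] at ha hb ⊢
  simp only [QuadraticMap.polar_sub_right, QuadraticMap.polar_smul_right, polar_comb_left,
    polar_comb_right, QuadraticMap.polar_self, smul_eq_mul, nsmul_eq_mul, Nat.cast_ofNat]
  rw [QuadraticMap.polar_comm (⇑Q) v u]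
  generalize QuadraticMap.polar (⇑Q) u v = r at *
  generalize QuadraticMap.polar (⇑Q) u x = p at *
  generalize QuadraticMap.polar (⇑Q) v x = q at *
  generalize Q u = m at *
  generalize Q v = k at *
  generalize hD : α ^ 2 * m + β ^ 2 * k + α * β * r = D at *
  have hD0 : D ≠ 0 := ha
  match_scalars
  · simp
  · field_simp
    rw [← hD]
    ring
  · field_simp
    rw [← hD]
    ring

noncomputable def pl (u v : Fin n → F) : (Fin 2 → F) →ₗ[F] (Fin n → F) :=
  (LinearMap.proj 0).smulRight u + (LinearMap.proj 1).smulRight v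

theorem pl_apply (u v : Fin n → F) (x : Fin 2 → F) : pl u v x = x 0 • u + x 1 • v := by
  simp [pl]

variable [Fintype F]

theorem plane_rep (h2 : (2 : F) ≠ 0) (Q : QuadraticForm F (Fin n → F)) (u v : Fin n → F)
    (hd : 4 * Q u * Q v - QuadraticMap.polar (⇑Q) u v ^ 2 ≠ 0) (e : F) (he : e ≠ 0) :
    ∃ α β : F, Q (α • u + β • v) = e := by
  have hpol : ∀ x y : Fin 2 → F, QuadraticMap.polarBilin (Q.comp (pl u v)) x y
      = QuadraticMap.polar (⇑Q) (pl u v x) (pl u v y) := by
    intro x y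
    simp [QuadraticMap.polar, QuadraticMap.comp_apply, map_add]
  have hsep : ∀ x : Fin 2 → F, (∀ y, QuadraticMap.polar (⇑Q) (pl u v x) (pl u v y) = 0) → x = 0 := by
    intro x hx
    have h0 := hx ![1, 0]
    have h1 := hx ![0, 1]
    rw [pl_apply, pl_apply] at h0 h1
    simp only [Matrix.cons_val_zero, Matrix.cons_val_one, one_smul, zero_smul, add_zero,
      zero_add] at h0 h1
    rw [polar_comb_left, QuadraticMap.polar_self] at h0 h1
    rw [QuadraticMap.polar_comm (⇑Q) v u] at h0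
    simp only [nsmul_eq_mul, Nat.cast_ofNat] at h0 h1
    have e0 : x 0 * (4 * Q u * Q v - QuadraticMap.polar (⇑Q) u v ^ 2) = 0 := by
      linear_combination (2 * Q v) * h0 - QuadraticMap.polar (⇑Q) u v * h1
    have e1 : x 1 * (4 * Q u * Q v - QuadraticMap.polar (⇑Q) u v ^ 2) = 0 := by
      linear_combination (2 * Q u) * h1 - QuadraticMap.polar (⇑Q) u v * h0
    funext i
    fin_cases i
    · exact (mul_eq_zero.mp e0).resolve_right hd
    · exact (mul_eq_zero.mp e1).resolve_right hd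
  have hnd : (QuadraticMap.polarBilin (Q.comp (pl u v))).Nondegenerate := by
    constructor
    · intro x hx
      apply hsep x
      intro y
      rw [← hpol]
      exact hx y
    · intro y hy
      apply hsep y
      intro x
      rw [QuadraticMap.polar_comm, ← hpol]
      exact hy x
  obtain ⟨x, hx⟩ := OI.exists_value h2 (le_refl 2) (Q.comp (pl u v)) hnd e he
  refine ⟨x 0, x 1, ?_⟩
  rw [← pl_apply, ← hx, QuadraticMap.comp_apply]

theorem perp_rep (h2 : (2 : F) ≠ 0) (Q : QuadraticForm F (Fin n → F))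
    (hQ : (QuadraticMap.polarBilin Q).Nondegenerate) {k : ℕ} (s : Fin k → (Fin n → F))
    (horth : ∀ i j, i ≠ j → QuadraticMap.polar (⇑Q) (s i) (s j) = 0)
    (hs : ∀ i, Q (s i) ≠ 0) (hk : k + 2 ≤ n) (e : F) (he : e ≠ 0) :
    ∃ w : Fin n → F, (∀ i, QuadraticMap.polar (⇑Q) (s i) w = 0) ∧ Q w = e := by
  classical
  set B := QuadraticMap.polarBilin Q with hB
  let φ : (Fin n → F) →ₗ[F] (Fin k → F) := LinearMap.pi (fun i => B (s i))
  have hφ : ∀ x i, φ x i = QuadraticMap.polar (⇑Q) (s i) x := by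
    intro x i
    simp [φ, hB]
  obtain ⟨W, hW⟩ : ∃ W : Submodule F (Fin n → F), W = LinearMap.ker φ := ⟨_, rfl⟩
  have hmemW : ∀ x, x ∈ W ↔ ∀ i, QuadraticMap.polar (⇑Q) (s i) x = 0 := by
    intro x
    rw [hW, LinearMap.mem_ker]
    constructor
    · intro h i
      rw [← hφ, h]; rfl
    · intro h
      funext i
      rw [hφ, h]; rfl
  have hrank := LinearMap.finrank_range_add_finrank_ker φ
  have hle : Module.finrank F (LinearMap.range φ) ≤ k := by
    have := Submodule.finrank_le (LinearMap.range φ)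
    rwa [Module.finrank_fin_fun] at this
  rw [Module.finrank_fin_fun, ← hW] at hrank
  obtain ⟨d, hd⟩ : ∃ d, Module.finrank F W = d + 2 := ⟨Module.finrank F W - 2, by omega⟩
  have h2e : (2 * e) ≠ 0 := mul_ne_zero h2 he
  set BW : LinearMap.BilinForm F W := (2 * e)⁻¹ • LinearMap.BilinForm.restrict B W with hBW
  have hBWapp : ∀ x y : W, BW x y = (2 * e)⁻¹ * QuadraticMap.polar (⇑Q) (x : Fin n → F) y := by
    intro x y
    rw [hBW, LinearMap.smul_apply, LinearMap.smul_apply, LinearMap.BilinForm.restrict_apply, hB,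
      smul_eq_mul]
    rfl
  have hS : BW.IsSymm := by
    refine ⟨fun x y => ?_⟩
    rw [hBWapp, hBWapp, QuadraticMap.polar_comm]
  have hself : ∀ i, QuadraticMap.polar (⇑Q) (s i) (s i) ≠ 0 := by
    intro i
    rw [QuadraticMap.polar_self]
    simp only [nsmul_eq_mul, Nat.cast_ofNat]
    exact mul_ne_zero h2 (hs i)
  have hproj : ∀ y : Fin n → F,
      y - ∑ i, (QuadraticMap.polar (⇑Q) (s i) y / QuadraticMap.polar (⇑Q) (s i) (s i)) • s i ∈ W := by
    intro y
    rw [hmemW]
    intro j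
    rw [QuadraticMap.polar_sub_right]
    have : QuadraticMap.polar (⇑Q) (s j)
        (∑ i, (QuadraticMap.polar (⇑Q) (s i) y / QuadraticMap.polar (⇑Q) (s i) (s i)) • s i)
        = ∑ i, (QuadraticMap.polar (⇑Q) (s i) y / QuadraticMap.polar (⇑Q) (s i) (s i))
            * QuadraticMap.polar (⇑Q) (s j) (s i) := by
      have := map_sum (B (s j)) (fun i => (QuadraticMap.polar (⇑Q) (s i) y / QuadraticMap.polar (⇑Q) (s i) (s i)) • s i) Finset.univ
      simp only [hB, QuadraticMap.polarBilin_apply_apply, map_smul, smul_eq_mul] at this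
      simpa [hB] using this
    rw [this, Finset.sum_eq_single j]
    · rw [div_mul_cancel₀ _ (hself j), sub_self]
    · intro i _ hij
      rw [horth j i (Ne.symm hij), mul_zero]
    · intro h; exact absurd (Finset.mem_univ j) h
  have hsepW : ∀ x : W, (∀ y : W, QuadraticMap.polar (⇑Q) (x : Fin n → F) y = 0) → x = 0 := by
    intro x hx
    have hxW := (hmemW x).mp x.2
    apply Subtype.ext
    apply hQ.1
    intro y
    have hy := hx ⟨_, hproj y⟩
    simp only at hy
    rw [QuadraticMap.polar_sub_right] at hy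
    have hsum : QuadraticMap.polar (⇑Q) (x : Fin n → F)
        (∑ i, (QuadraticMap.polar (⇑Q) (s i) y / QuadraticMap.polar (⇑Q) (s i) (s i)) • s i) = 0 := by
      have := map_sum (B (x : Fin n → F)) (fun i => (QuadraticMap.polar (⇑Q) (s i) y / QuadraticMap.polar (⇑Q) (s i) (s i)) • s i) Finset.univ
      simp only [hB, QuadraticMap.polarBilin_apply_apply, map_smul, smul_eq_mul] at this
      rw [this]
      apply Finset.sum_eq_zero
      intro i _
      rw [QuadraticMap.polar_comm (⇑Q) (x : Fin n → F) (s i), hxW i, mul_zero]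
    rw [hsum, sub_zero] at hy
    simpa [hB] using hy
  have hN : BW.Nondegenerate := by
    have hinv : (2 * e)⁻¹ ≠ 0 := inv_ne_zero h2e
    constructor
    · intro x hx
      apply hsepW x
      intro y
      have := hx y
      rw [hBWapp] at this
      exact (mul_eq_zero.mp this).resolve_left hinv
    · intro y hy
      apply hsepW y
      intro x
      have := hy x
      rw [hBWapp, QuadraticMap.polar_comm] at this
      exact (mul_eq_zero.mp this).resolve_left hinv
  obtain ⟨x, hx⟩ := exists_unit_vec h2 hd BW hS hN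
  refine ⟨x, (hmemW x).mp x.2, ?_⟩
  rw [hBWapp, QuadraticMap.polar_self] at hx
  simp only [nsmul_eq_mul, Nat.cast_ofNat] at hx
  field_simp at hx
  exact hx


def gens (Q : QuadraticForm F (Fin n → F)) (c : F) : Set ↥(Cfsg.isometryGroup F ⇑Q) :=
  {g | ∃ (v : Fin n → F) (t : F), t ≠ 0 ∧ Q v = c * t ^ 2 ∧
    ((g : Matrix.GeneralLinearGroup (Fin n) F) : Matrix (Fin n) (Fin n) F)
      = Cfsg.reflectionMatrix ⇑Q v}

theorem reflG_mem_gens (Q : QuadraticForm F (Fin n → F)) (c : F) (v : Fin n → F) (t : F)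
    (ht : t ≠ 0) (hv : Q v = c * t ^ 2) (hv0 : Q v ≠ 0) : reflG Q v hv0 ∈ gens Q c :=
  ⟨v, t, ht, hv, reflG_coe Q v hv0⟩

theorem gens_conj (Q : QuadraticForm F (Fin n → F)) (c : F) (hc : c ≠ 0)
    (g h : ↥(Cfsg.isometryGroup F ⇑Q)) (hh : h ∈ gens Q c) : g * h * g⁻¹ ∈ gens Q c := by
  obtain ⟨v, t, ht, hv, hcoe⟩ := hh
  have hv0 : Q v ≠ 0 := by rw [hv]; exact mul_ne_zero hc (pow_ne_zero 2 ht)
  have hh' : h = reflG Q v hv0 := iso_ext' _ _ _ (by rw [hcoe, reflG_coe])
  have hgv : Q (((g : Matrix.GeneralLinearGroup (Fin n) F) : Matrix (Fin n) (Fin n) F) *ᵥ v) = Q v :=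
    iso_pres (⇑Q) g v
  have hgv0 : Q (((g : Matrix.GeneralLinearGroup (Fin n) F) : Matrix (Fin n) (Fin n) F) *ᵥ v) ≠ 0 := by
    rw [hgv]; exact hv0
  rw [hh', refl_conj Q g v hv0 hgv0]
  exact reflG_mem_gens Q c _ t ht (by rw [hgv, hv]) hgv0

theorem closure_normal (Q : QuadraticForm F (Fin n → F)) (c : F) (hc : c ≠ 0) :
    (Subgroup.closure (gens Q c)).Normal := by
  have h : Subgroup.closure (gens Q c) = Subgroup.normalClosure (gens Q c) := by
    unfold Subgroup.normalClosure
    congr 1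
    apply Set.Subset.antisymm Group.subset_conjugatesOfSet
    intro x hx
    obtain ⟨a, ha, hconj⟩ := Group.mem_conjugatesOfSet_iff.mp hx
    obtain ⟨g, hg⟩ := isConj_iff.mp hconj
    rw [← hg]
    exact gens_conj Q c hc g a ha
  rw [h]
  exact Subgroup.normalClosure_normal

theorem nd_pair (h2 : (2 : F) ≠ 0) (Q : QuadraticForm F (Fin n → F)) (c : F) (hc : c ≠ 0)
    (u v : Fin n → F) (hu : Q u ≠ 0) (hv : Q v ≠ 0) (s : F) (hs : Q u * Q v = s ^ 2)
    (hd : 4 * Q u * Q v - QuadraticMap.polar (⇑Q) u v ^ 2 ≠ 0) :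
    reflG Q u hu * reflG Q v hv ∈ Subgroup.closure (gens Q c) := by
  obtain ⟨α, β, hab⟩ := plane_rep h2 Q u v hd c hc
  have ha : Q (α • u + β • v) ≠ 0 := by rw [hab]; exact hc
  have hb := Q_three Q u v α β
  have hb0 : Q ((-(β * Q v)) • u + (α * Q u + β * QuadraticMap.polar (⇑Q) u v) • v) ≠ 0 := by
    rw [hb]; exact mul_ne_zero (mul_ne_zero ha hu) hv
  have hs0 : s ≠ 0 := by
    rintro rfl
    rw [zero_pow two_ne_zero] at hs
    exact mul_ne_zero hu hv hs
  have hmat := three_refl Q u v α β hu hv ha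
  have heq : reflG Q u hu * reflG Q v hv = reflG Q _ ha * reflG Q _ hb0 := by
    apply iso_ext'
    rw [iso_mul_coe, iso_mul_coe, reflG_coe, reflG_coe, reflG_coe, reflG_coe, hmat]
  rw [heq]
  apply mul_mem
  · exact Subgroup.subset_closure (reflG_mem_gens Q c _ 1 one_ne_zero (by rw [hab]; ring) ha)
  · exact Subgroup.subset_closure (reflG_mem_gens Q c _ s hs0 (by rw [hb, hab, mul_assoc, hs]) hb0)

theorem via_mid (h2 : (2 : F) ≠ 0) (Q : QuadraticForm F (Fin n → F)) (c : F) (hc : c ≠ 0)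
    (u v w : Fin n → F) (hu : Q u ≠ 0) (hv : Q v ≠ 0) (s t : F) (hs : Q u * Q v = s ^ 2)
    (ht : t ≠ 0) (hw : Q w = Q u * t ^ 2) (huw : QuadraticMap.polar (⇑Q) u w = 0)
    (hd : 4 * Q w * Q v - QuadraticMap.polar (⇑Q) w v ^ 2 ≠ 0) :
    reflG Q u hu * reflG Q v hv ∈ Subgroup.closure (gens Q c) := by
  have hw0 : Q w ≠ 0 := by rw [hw]; exact mul_ne_zero hu (pow_ne_zero 2 ht)
  have h1 : reflG Q u hu * reflG Q w hw0 ∈ Subgroup.closure (gens Q c) := by
    apply nd_pair h2 Q c hc u w hu hw0 (Q u * t) (by rw [hw]; ring)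
    rw [huw]
    intro h
    apply mul_ne_zero (mul_ne_zero (mul_ne_zero h2 h2) hu) hw0
    linear_combination h
  have h3 : reflG Q w hw0 * reflG Q v hv ∈ Subgroup.closure (gens Q c) := by
    apply nd_pair h2 Q c hc w v hw0 hv (s * t) _ hd
    rw [hw]
    linear_combination t ^ 2 * hs
  have : reflG Q u hu * reflG Q v hv
      = (reflG Q u hu * reflG Q w hw0) * (reflG Q w hw0 * reflG Q v hv) := by
    rw [mul_assoc, ← mul_assoc (reflG Q w hw0), reflG_mul_self, one_mul]
  rw [this]
  exact mul_mem h1 h3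


theorem v0_perp (h2 : (2 : F) ≠ 0) (Q : QuadraticForm F (Fin n → F)) (u v : Fin n → F)
    (hu : Q u ≠ 0) :
    QuadraticMap.polar (⇑Q) u (v - (QuadraticMap.polar (⇑Q) u v / (2 * Q u)) • u) = 0 := by
  rw [QuadraticMap.polar_sub_right, QuadraticMap.polar_smul_right, QuadraticMap.polar_self]
  simp only [smul_eq_mul, nsmul_eq_mul, Nat.cast_ofNat]
  field_simp
  ring

theorem v0_iso (h2 : (2 : F) ≠ 0) (Q : QuadraticForm F (Fin n → F)) (u v : Fin n → F)
    (hu : Q u ≠ 0) (hd : 4 * Q u * Q v - QuadraticMap.polar (⇑Q) u v ^ 2 = 0) :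
    Q (v - (QuadraticMap.polar (⇑Q) u v / (2 * Q u)) • u) = 0 := by
  rw [Q_sub', QuadraticMap.map_smul, QuadraticMap.polar_smul_right,
    QuadraticMap.polar_comm (⇑Q) v u]
  simp only [smul_eq_mul]
  field_simp
  linear_combination hd

theorem exists_perp_pair (h2 : (2 : F) ≠ 0) (Q : QuadraticForm F (Fin n → F))
    (hQ : (QuadraticMap.polarBilin Q).Nondegenerate) (u v₀ : Fin n → F) (hu : Q u ≠ 0)
    (hp : QuadraticMap.polar (⇑Q) u v₀ = 0) (hv₀ : v₀ ≠ 0) :
    ∃ y : Fin n → F, QuadraticMap.polar (⇑Q) u y = 0 ∧ QuadraticMap.polar (⇑Q) v₀ y ≠ 0 := by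
  by_contra hcon
  push Not at hcon
  apply hv₀
  apply hQ.1
  intro y₀
  have huu : QuadraticMap.polar (⇑Q) u u ≠ 0 := by
    rw [QuadraticMap.polar_self]
    simp only [nsmul_eq_mul, Nat.cast_ofNat]
    exact mul_ne_zero h2 hu
  have h1 : QuadraticMap.polar (⇑Q) u
      (y₀ - (QuadraticMap.polar (⇑Q) u y₀ / QuadraticMap.polar (⇑Q) u u) • u) = 0 := by
    rw [QuadraticMap.polar_sub_right, QuadraticMap.polar_smul_right, smul_eq_mul,
      div_mul_cancel₀ _ huu, sub_self]
  have h3 := hcon _ h1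
  rw [QuadraticMap.polar_sub_right, QuadraticMap.polar_smul_right,
    QuadraticMap.polar_comm (⇑Q) v₀ u, hp, smul_zero, sub_zero] at h3
  simpa using h3

theorem exists_mid (h2 : (2 : F) ≠ 0) (hn4 : 4 ≤ n) (heven : Even n)
    (h43 : ¬ (n = 4 ∧ Fintype.card F = 3)) (Q : QuadraticForm F (Fin n → F))
    (hQ : (QuadraticMap.polarBilin Q).Nondegenerate) (u v₀ : Fin n → F) (hu : Q u ≠ 0)
    (hp : QuadraticMap.polar (⇑Q) u v₀ = 0) (hq : Q v₀ = 0) (k s : F) (hk : k ≠ 0)
    (hs : Q u * k = s ^ 2) :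
    ∃ (w : Fin n → F) (t : F), t ≠ 0 ∧ Q w = Q u * t ^ 2 ∧ QuadraticMap.polar (⇑Q) u w = 0 ∧
      4 * Q w * k - QuadraticMap.polar (⇑Q) w v₀ ^ 2 ≠ 0 := by
  classical
  have h4 : (4 : F) ≠ 0 := by
    have : (4 : F) = 2 * 2 := by norm_num
    rw [this]; exact mul_ne_zero h2 h2
  by_cases hv₀ : v₀ = 0
  · obtain ⟨w, hw1, hw2⟩ := perp_rep h2 Q hQ (k := 1) (fun _ => u)
      (fun i j hij => absurd (Subsingleton.elim i j) hij) (fun _ => hu) (by omega) (Q u) hu
    refine ⟨w, 1, one_ne_zero, by rw [hw2]; ring, hw1 0, ?_⟩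
    rw [hv₀, QuadraticMap.polar_zero_right, hw2]
    simp only [ne_eq, OfNat.ofNat_ne_zero, not_false_eq_true, zero_pow, sub_zero]
    exact mul_ne_zero (mul_ne_zero h4 hu) hk
  · obtain ⟨y, hy1, hy2⟩ := exists_perp_pair h2 Q hQ u v₀ hu hp hv₀
    set β := QuadraticMap.polar (⇑Q) v₀ y with hβ
    have hvv : QuadraticMap.polar (⇑Q) v₀ v₀ = 0 := by
      rw [QuadraticMap.polar_self, hq]; simp
    by_cases h3 : Fintype.card F = 3
    · have hn6 : 6 ≤ n := by
        obtain ⟨m, hm⟩ := heven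
        have : n ≠ 4 := fun h => h43 ⟨h, h3⟩
        omega
      set μ := (1 - Q y) / β with hμ
      set z₁ := (1 : F) • y + μ • v₀ with hz₁
      have hQz₁ : Q z₁ = 1 := by
        rw [hz₁, Q_comb, hq, QuadraticMap.polar_comm (⇑Q) y v₀, ← hβ, hμ]
        field_simp
        ring
      have huz₁ : QuadraticMap.polar (⇑Q) u z₁ = 0 := by
        rw [hz₁, polar_comb_right, hy1, hp]; ring
      have hvz₁ : QuadraticMap.polar (⇑Q) v₀ z₁ = β := by
        rw [hz₁, polar_comb_right, hvv, ← hβ]; ring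
      set z₂ := (1 : F) • v₀ + (-(β / 2)) • z₁ with hz₂
      have hQz₂ : Q z₂ = -(β ^ 2 / 4) := by
        rw [hz₂, Q_comb, hq, hQz₁, hvz₁]
        field_simp
        ring
      have huz₂ : QuadraticMap.polar (⇑Q) u z₂ = 0 := by
        rw [hz₂, polar_comb_right, hp, huz₁]; ring
      have hz₁z₂ : QuadraticMap.polar (⇑Q) z₁ z₂ = 0 := by
        rw [hz₂, polar_comb_right, QuadraticMap.polar_comm (⇑Q) z₁ v₀, hvz₁,
          QuadraticMap.polar_self, hQz₁]
        simp only [nsmul_eq_mul, Nat.cast_ofNat]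
        field_simp
        ring
      have hQz₂0 : Q z₂ ≠ 0 := by
        rw [hQz₂]
        exact neg_ne_zero.mpr (div_ne_zero (pow_ne_zero 2 hy2) h4)
      have hQz₁0 : Q z₁ ≠ 0 := by rw [hQz₁]; exact one_ne_zero
      obtain ⟨w, hw1, hw2⟩ := perp_rep h2 Q hQ (k := 3) ![u, z₁, z₂]
        (by
          intro i j hij
          fin_cases i <;> fin_cases j <;>
            first
              | exact absurd rfl hij
              | exact huz₁
              | exact huz₂
              | exact hz₁z₂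
              | (rw [QuadraticMap.polar_comm]; first | exact huz₁ | exact huz₂ | exact hz₁z₂))
        (by
          intro i
          fin_cases i
          · exact hu
          · exact hQz₁0
          · exact hQz₂0)
        (by omega) (Q u) hu
      have hwu : QuadraticMap.polar (⇑Q) u w = 0 := hw1 0
      have hwz₁ : QuadraticMap.polar (⇑Q) z₁ w = 0 := hw1 1
      have hwz₂ : QuadraticMap.polar (⇑Q) z₂ w = 0 := hw1 2
      have hv₀eq : v₀ = (1 : F) • z₂ + (β / 2) • z₁ := by
        rw [hz₂]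
        module
      have hwv₀ : QuadraticMap.polar (⇑Q) w v₀ = 0 := by
        rw [hv₀eq, polar_comb_right, QuadraticMap.polar_comm (⇑Q) w z₂, hwz₂,
          QuadraticMap.polar_comm (⇑Q) w z₁, hwz₁]
        ring
      refine ⟨w, 1, one_ne_zero, by rw [hw2]; ring, hwu, ?_⟩
      rw [hwv₀, hw2]
      simp only [ne_eq, OfNat.ofNat_ne_zero, not_false_eq_true, zero_pow, sub_zero]
      exact mul_ne_zero (mul_ne_zero h4 hu) hk
    · have hs0 : s ≠ 0 := by
        rintro rfl
        rw [zero_pow two_ne_zero] at hs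
        exact mul_ne_zero hu hk hs
      have hcard : 3 < Fintype.card F := by
        have h1 := card_odd_of_two_ne_zero h2
        have h5 := Fintype.one_lt_card (α := F)
        omega
      obtain ⟨t, -, ht⟩ := Finset.exists_mem_notMem_of_card_lt_card
        (s := ({0, β / (2 * s), -(β / (2 * s))} : Finset F)) (t := Finset.univ)
        (lt_of_le_of_lt Finset.card_le_three (by rwa [Finset.card_univ]))
      simp only [Finset.mem_insert, Finset.mem_singleton, not_or] at ht
      obtain ⟨ht0, ht1, ht2⟩ := ht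
      set e := Q u * t ^ 2 with he
      set w := (1 : F) • y + ((e - Q y) / β) • v₀ with hw
      have hQw : Q w = e := by
        rw [hw, Q_comb, hq, QuadraticMap.polar_comm (⇑Q) y v₀, ← hβ]
        field_simp
        ring
      have huw : QuadraticMap.polar (⇑Q) u w = 0 := by
        rw [hw, polar_comb_right, hy1, hp]; ring
      have hwv₀ : QuadraticMap.polar (⇑Q) w v₀ = β := by
        rw [QuadraticMap.polar_comm, hw, polar_comb_right, hvv, ← hβ]; ring
      refine ⟨w, t, ht0, hQw, huw, ?_⟩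
      rw [hwv₀, hQw, he]
      intro hcon
      have h5 : (2 * s * t - β) * (2 * s * t + β) = 0 := by
        linear_combination hcon - 4 * t ^ 2 * hs
      rcases mul_eq_zero.mp h5 with h | h
      · apply ht1
        field_simp
        linear_combination h
      · apply ht2
        field_simp
        linear_combination h


theorem dim2_zero (Q : QuadraticForm F (Fin 2 → F))
    (hQ : (QuadraticMap.polarBilin Q).Nondegenerate) (u v₀ : Fin 2 → F) (hu : Q u ≠ 0)
    (hp : QuadraticMap.polar (⇑Q) u v₀ = 0) (hq : Q v₀ = 0) : v₀ = 0 := by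
  by_contra hv₀
  have hu0 : u ≠ 0 := by
    rintro rfl
    exact hu (QuadraticMap.map_zero Q)
  have hli : LinearIndependent F ![u, v₀] := by
    rw [LinearIndependent.pair_iff' hu0]
    intro a ha
    have h1 : Q v₀ = a * a * Q u := by
      rw [← ha, QuadraticMap.map_smul, smul_eq_mul]
    rw [hq] at h1
    have ha0 : a = 0 := by
      rcases mul_eq_zero.mp h1.symm with h | h
      · exact mul_self_eq_zero.mp h
      · exact absurd h hu
    rw [ha0, zero_smul] at ha
    exact hv₀ ha.symm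
  have hspan := hli.span_eq_top_of_card_eq_finrank' (by simp)
  apply hv₀
  apply hQ.1
  intro y
  have hy : y ∈ Submodule.span F (Set.range ![u, v₀]) := by rw [hspan]; trivial
  have hrange : Set.range ![u, v₀] = {u, v₀} := by
    ext z
    simp only [Set.mem_range, Set.mem_insert_iff, Set.mem_singleton_iff]
    constructor
    · rintro ⟨i, rfl⟩
      fin_cases i
      · left; rfl
      · right; rfl
    · rintro (rfl | rfl)
      · exact ⟨0, rfl⟩
      · exact ⟨1, rfl⟩
  rw [hrange, Submodule.mem_span_pair] at hy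
  obtain ⟨a, b, rfl⟩ := hy
  rw [QuadraticMap.polarBilin_apply_apply, polar_comb_right, QuadraticMap.polar_comm (⇑Q) v₀ u, hp,
    QuadraticMap.polar_self, hq]
  simp

theorem main_pair (h2 : (2 : F) ≠ 0) (hn : 2 ≤ n) (heven : Even n)
    (h43 : ¬ (n = 4 ∧ Fintype.card F = 3)) (Q : QuadraticForm F (Fin n → F))
    (hQ : (QuadraticMap.polarBilin Q).Nondegenerate) (c : F) (hc : c ≠ 0)
    (u v : Fin n → F) (hu : Q u ≠ 0) (hv : Q v ≠ 0) (s : F) (hs : Q u * Q v = s ^ 2) :
    reflG Q u hu * reflG Q v hv ∈ Subgroup.closure (gens Q c) := by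
  by_cases hd : 4 * Q u * Q v - QuadraticMap.polar (⇑Q) u v ^ 2 = 0
  swap
  · exact nd_pair h2 Q c hc u v hu hv s hs hd
  have hp := v0_perp h2 Q u v hu
  have hq := v0_iso h2 Q u v hu hd
  obtain ⟨lam, hlam⟩ : ∃ lam : F, lam = QuadraticMap.polar (⇑Q) u v / (2 * Q u) := ⟨_, rfl⟩
  rw [← hlam] at hp hq
  obtain ⟨v₀, hv₀⟩ : ∃ v₀ : Fin n → F, v₀ = v - lam • u := ⟨_, rfl⟩
  rw [← hv₀] at hp hq
  have hveq : v = v₀ + lam • u := by rw [hv₀]; abel
  by_cases hn2 : n = 2
  · subst hn2
    have hz := dim2_zero Q hQ u v₀ hu hp hq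
    rw [hz, zero_add] at hveq
    have hlam0 : lam ≠ 0 := by
      rintro h
      rw [h, zero_smul] at hveq
      rw [hveq] at hv
      exact hv (QuadraticMap.map_zero Q)
    have hrv : reflG Q v hv = reflG Q u hu := by
      apply iso_ext'
      rw [reflG_coe, reflG_coe, hveq]
      exact refl_smul Q u lam hlam0 hu
    rw [hrv, reflG_mul_self]
    exact one_mem _
  · have hn4 : 4 ≤ n := by
      obtain ⟨m, hm⟩ := heven
      omega
    obtain ⟨w, t, ht, hw, huw, hdw⟩ :=
      exists_mid h2 hn4 heven h43 Q hQ u v₀ hu hp hq (Q v) s hv hs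
    apply via_mid h2 Q c hc u v w hu hv s t hs ht hw huw
    have hwv : QuadraticMap.polar (⇑Q) w v = QuadraticMap.polar (⇑Q) w v₀ := by
      conv_lhs => rw [hveq]
      rw [QuadraticMap.polar_add_right, QuadraticMap.polar_smul_right,
        QuadraticMap.polar_comm (⇑Q) w u, huw]
      simp
    rw [hwv]
    exact hdw

theorem sqSign_sq_mul (c t : F) (hc : c ≠ 0) (ht : t ≠ 0) : sqSign (c * t ^ 2) = sqSign c := by
  classical
  rw [sqSign_mul hc (pow_ne_zero 2 ht)]
  have : sqSign (t ^ 2) = 1 := by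
    unfold sqSign
    rw [if_pos ⟨t, pow_two t⟩]
  rw [this, mul_one]

theorem detSign_refl (h2 : (2 : F) ≠ 0) (Q : QuadraticForm F (Fin n → F))
    (hQ : (QuadraticMap.polarBilin Q).Nondegenerate) (v : Fin n → F) (hv : Q v ≠ 0) :
    OI.detSign h2 Q hQ (reflG Q v hv) = -1 := by
  have := OI.detSign_prod h2 Q hQ [v] (by simpa using hv)
  simpa [reflG'_eq Q v hv] using this

theorem closure_ne_top (h2 : (2 : F) ≠ 0) (hn : 2 ≤ n) (Q : QuadraticForm F (Fin n → F))
    (hQ : (QuadraticMap.polarBilin Q).Nondegenerate) (c : F) (hc : c ≠ 0) :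
    Subgroup.closure (gens Q c) ≠ ⊤ := by
  classical
  obtain ⟨χ, κ, hχ⟩ := spin_char_formula h2 Q
  obtain ⟨ν, hν0, hν⟩ := OI.exists_nonsquare h2
  obtain ⟨u0, hu0⟩ := OI.exists_value h2 hn Q hQ (c * ν) (mul_ne_zero hc hν0)
  have hu00 : Q u0 ≠ 0 := by rw [hu0]; exact mul_ne_zero hc hν0
  have hsν : sqSign ν = -1 := by
    unfold sqSign
    rw [if_neg hν]
  have hχu0 : χ (reflG Q u0 hu00) = -(κ * sqSign c) := by
    rw [hχ u0 hu00, hu0, sqSign_mul hc hν0, hsν]
    simp
  have hgen : ∀ g ∈ gens Q c, χ g = κ * sqSign c ∧ OI.detSign h2 Q hQ g = -1 := by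
    intro g hg
    obtain ⟨v, t, ht, hv, hcoe⟩ := hg
    have hv0 : Q v ≠ 0 := by rw [hv]; exact mul_ne_zero hc (pow_ne_zero 2 ht)
    have hg' : g = reflG Q v hv0 := iso_ext' _ _ _ (by rw [hcoe, reflG_coe])
    rw [hg', hχ v hv0, hv, sqSign_sq_mul c t hc ht, detSign_refl]
    exact ⟨rfl, rfl⟩
  intro htop
  have hmem : reflG Q u0 hu00 ∈ Subgroup.closure (gens Q c) := by rw [htop]; trivial
  rcases Int.units_eq_one_or (κ * sqSign c) with hσ | hσ
  · have hle : Subgroup.closure (gens Q c) ≤ χ.ker := by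
      rw [Subgroup.closure_le]
      intro g hg
      rw [SetLike.mem_coe, MonoidHom.mem_ker, (hgen g hg).1, hσ]
    have := hle hmem
    rw [MonoidHom.mem_ker, hχu0, hσ] at this
    exact absurd this (by decide)
  · have hle : Subgroup.closure (gens Q c) ≤ (OI.detSign h2 Q hQ * χ).ker := by
      rw [Subgroup.closure_le]
      intro g hg
      rw [SetLike.mem_coe, MonoidHom.mem_ker, MonoidHom.mul_apply, (hgen g hg).1, (hgen g hg).2, hσ]
      rfl
    have := hle hmem
    rw [MonoidHom.mem_ker, MonoidHom.mul_apply, hχu0, hσ, detSign_refl] at this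
    exact absurd this (by decide)

theorem index_two (h2 : (2 : F) ≠ 0) (hn : 2 ≤ n) (heven : Even n)
    (Q : QuadraticForm F (Fin n → F)) (hQ : (QuadraticMap.polarBilin Q).Nondegenerate)
    (h43 : ¬ (n = 4 ∧ Fintype.card F = 3)) (c : F) (hc : c ≠ 0) :
    (Subgroup.closure (gens Q c)).index = 2 := by
  classical
  have hnormal := closure_normal Q c hc
  obtain ⟨ν, hν0, hν⟩ := OI.exists_nonsquare h2
  obtain ⟨u0, hu0⟩ := OI.exists_value h2 hn Q hQ (c * ν) (mul_ne_zero hc hν0)
  have hu00 : Q u0 ≠ 0 := by rw [hu0]; exact mul_ne_zero hc hν0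
  have hclass : ∀ (v : Fin n → F) (hv : Q v ≠ 0),
      reflG Q v hv ∈ Subgroup.closure (gens Q c) ∨
        reflG Q v hv * reflG Q u0 hu00 ∈ Subgroup.closure (gens Q c) := by
    intro v hv
    by_cases hsq : IsSquare (c * Q v)
    · left
      obtain ⟨r, hr⟩ := hsq
      have hr0 : r ≠ 0 := by
        rintro rfl
        rw [mul_zero] at hr
        exact mul_ne_zero hc hv hr
      apply Subgroup.subset_closure
      apply reflG_mem_gens Q c v (r / c) (div_ne_zero hr0 hc)
      field_simp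
      linear_combination hr
    · right
      obtain ⟨s, hs⟩ := nonsq_mul_nonsq hsq hν
      apply main_pair h2 hn heven h43 Q hQ c hc v u0 hv hu00 s
      rw [hu0]
      linear_combination hs
  set H := Subgroup.closure (gens Q c) with hH
  set x : ↥(Cfsg.isometryGroup F ⇑Q) ⧸ H := QuotientGroup.mk' H (reflG Q u0 hu00) with hx
  have hx2 : x * x = 1 := by
    rw [hx, ← map_mul, reflG_mul_self, map_one]
  have hrefl : ∀ (v : Fin n → F) (hv : Q v ≠ 0),
      QuotientGroup.mk' H (reflG Q v hv) = 1 ∨ QuotientGroup.mk' H (reflG Q v hv) = x := by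
    intro v hv
    rcases hclass v hv with h | h
    · left
      exact (QuotientGroup.eq_one_iff _).mpr h
    · right
      have h1 : QuotientGroup.mk' H (reflG Q v hv) * x = 1 := by
        rw [hx, ← map_mul]
        exact (QuotientGroup.eq_one_iff _).mpr h
      calc QuotientGroup.mk' H (reflG Q v hv)
          = (QuotientGroup.mk' H (reflG Q v hv) * x) * x := by rw [mul_assoc, hx2, mul_one]
        _ = x := by rw [h1, one_mul]
  have hall : ∀ g : ↥(Cfsg.isometryGroup F ⇑Q),
      QuotientGroup.mk' H g = 1 ∨ QuotientGroup.mk' H g = x := by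
    intro g
    obtain ⟨vs, hvs, rfl⟩ := OI.exists_list h2 Q hQ g
    induction vs with
    | nil => left; simp
    | cons v vs ih =>
      have hv := hvs v List.mem_cons_self
      have ih' := ih (fun w hw => hvs w (List.mem_cons_of_mem _ hw))
      rw [List.map_cons, List.prod_cons, map_mul, reflG'_eq Q v hv]
      rcases hrefl v hv with h | h <;> rcases ih' with h' | h' <;> rw [h, h']
      · left; rw [one_mul]
      · right; rw [one_mul]
      · right; rw [mul_one]
      · left; exact hx2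
  have hcard : Nat.card (↥(Cfsg.isometryGroup F ⇑Q) ⧸ H) ≤ 2 := by
    have hsurj : Function.Surjective
        (fun b : Bool => if b then x else (1 : ↥(Cfsg.isometryGroup F ⇑Q) ⧸ H)) := by
      intro q
      obtain ⟨g, rfl⟩ := QuotientGroup.mk'_surjective H q
      rcases hall g with h | h
      · exact ⟨false, by simp [h]⟩
      · exact ⟨true, by simp [h]⟩
    have := Nat.card_le_card_of_surjective _ hsurj
    simpa using this
  have hidx : H.index ≤ 2 := by
    rw [Subgroup.index_eq_card]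
    exact hcard
  have hne : H ≠ ⊤ := closure_ne_top h2 hn Q hQ c hc
  have h0 : H.index ≠ 0 := Subgroup.index_ne_zero_of_finite
  have h1 : H.index ≠ 1 := fun h => hne (Subgroup.index_eq_one.mp h)
  omega

theorem result {F : Type*} [Field F] [Fintype F] (h2 : (2 : F) ≠ 0) {n : ℕ} (hn : 2 ≤ n) (heven : Even n) (Q : QuadraticForm F (Fin n → F)) (hQ : (QuadraticMap.polarBilin Q).Nondegenerate) (h43 : ¬ (n = 4 ∧ Fintype.card F = 3)) (c : F) (hc : c ≠ 0) : (Subgroup.closure {g : ↥(Cfsg.isometryGroup F ⇑Q) | ∃ (v : Fin n → F) (t : F), t ≠ 0 ∧ Q v = c * t ^ 2 ∧ ((g : Matrix.GeneralLinearGroup (Fin n) F) : Matrix (Fin n) (Fin n) F) = Cfsg.reflectionMatrix ⇑Q v}).index = 2 :=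
  index_two h2 hn heven Q hQ h43 c hc

end Cfsg.Agent.S0798
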