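import Cfsg.Statements.S0800
import Mathlib

set_option autoImplicit false
open Cfsg

namespace Cfsg.Agent.S0800

open Polynomial

variable {F : Type*} [Field F]

theorem charpoly_sl2 (g : Matrix.SpecialLinearGroup (Fin 2) F) :
    (g : Matrix (Fin 2) (Fin 2) F).charpoly = X ^ 2 - C (g : Matrix (Fin 2) (Fin 2) F).trace * X + C 1 := by
  rw [Matrix.charpoly_fin_two, g.det_coe]

theorem order_dvd_of_dvd (g : Matrix.SpecialLinearGroup (Fin 2) F) (k : ℕ)
    (h : (g : Matrix (Fin 2) (Fin 2) F).charpoly ∣ X ^ k - 1) : orderOf g ∣ k := by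
  apply orderOf_dvd_of_pow_eq_one
  obtain ⟨h', hh'⟩ := h
  have := congrArg (aeval (g : Matrix (Fin 2) (Fin 2) F)) hh'
  rw [map_mul, Matrix.aeval_self_charpoly, zero_mul, map_sub, map_pow, aeval_X, map_one, sub_eq_zero] at this
  apply Subtype.ext
  rw [Matrix.SpecialLinearGroup.coe_pow]
  exact this

theorem irred_case [Fintype F] (g : Matrix.SpecialLinearGroup (Fin 2) F)
    (hirr : Irreducible (g : Matrix (Fin 2) (Fin 2) F).charpoly) :
    orderOf g ∣ Fintype.card F - 1 ∨ orderOf g ∣ Fintype.card F + 1 := by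
  set f := (g : Matrix (Fin 2) (Fin 2) F).charpoly with hf
  set t := (g : Matrix (Fin 2) (Fin 2) F).trace with ht
  have hfe : f = X ^ 2 - C t * X + C 1 := charpoly_sl2 g
  have : Fact (Irreducible f) := ⟨hirr⟩
  set r := AdjoinRoot.root f with hr
  have hq0 : Fintype.card F ≠ 0 := Fintype.card_ne_zero
  have h1 : aeval r f = 0 := by rw [AdjoinRoot.aeval_eq, AdjoinRoot.mk_self]
  have h2 : aeval (r ^ Fintype.card F) f = 0 := by
    rw [← expand_aeval, FiniteField.expand_card, map_pow, h1, zero_pow hq0]
  have hae : ∀ y : AdjoinRoot f, aeval y f = y ^ 2 - algebraMap F (AdjoinRoot f) t * y + 1 := by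
    intro y
    rw [congrArg (aeval y) hfe]
    simp only [map_add, map_sub, map_mul, map_pow, aeval_X, aeval_C, map_one]
  rw [hae] at h1 h2
  set s := r ^ Fintype.card F with hs
  set τ := algebraMap F (AdjoinRoot f) t with hτ
  have h3 : (s - r) * (s + r - τ) = 0 := by linear_combination h2 - h1
  have hr0 : r ≠ 0 := by
    intro h0
    rw [h0] at h1
    simp at h1
  have hmk : ∀ k : ℕ, r ^ k = 1 → f ∣ X ^ k - 1 := by
    intro k hk
    rw [← AdjoinRoot.mk_eq_zero, map_sub, map_pow, AdjoinRoot.mk_X, map_one, ← hr, hk, sub_self]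
  rcases mul_eq_zero.mp h3 with h4 | h4
  · left
    apply order_dvd_of_dvd
    apply hmk
    have h5 : r ^ (Fintype.card F - 1) * r = 1 * r := by
      rw [← pow_succ, Nat.sub_add_cancel (Nat.one_le_iff_ne_zero.mpr hq0), one_mul]
      exact sub_eq_zero.mp h4
    exact mul_right_cancel₀ hr0 h5
  · right
    apply order_dvd_of_dvd
    apply hmk
    rw [pow_succ, ← hs]
    linear_combination r * h4 - h1

theorem red_case [Fintype F] (p : ℕ) [Fact p.Prime] [CharP F p]
    (g : Matrix.SpecialLinearGroup (Fin 2) F) (hg : Nat.Coprime (orderOf g) p)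
    (l : F) (hroot : l ^ 2 - (g : Matrix (Fin 2) (Fin 2) F).trace * l + 1 = 0) :
    orderOf g ∣ Fintype.card F - 1 := by
  set M := (g : Matrix (Fin 2) (Fin 2) F) with hM
  set t := M.trace with ht
  have hfe : M.charpoly = X ^ 2 - C t * X + C 1 := charpoly_sl2 g
  have hl0 : l ≠ 0 := by
    rintro rfl
    simp at hroot
  have hlinv : l⁻¹ = t - l := by
    apply inv_eq_of_mul_eq_one_right
    linear_combination -hroot
  by_cases hl2 : l ^ 2 = 1
  · -- repeated root
    have ht2 : t = 2 * l := by
      have : l * (t - 2 * l) = 0 := by linear_combination -hroot - hl2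
      rcases mul_eq_zero.mp this with h | h
      · exact absurd h hl0
      · exact sub_eq_zero.mp h
    have hCH := Matrix.aeval_self_charpoly M
    rw [hfe] at hCH
    simp only [map_add, map_sub, map_mul, map_pow, aeval_X, aeval_C, map_one,
      Algebra.algebraMap_eq_smul_one, smul_mul_assoc, one_mul] at hCH
    have hMM : M * M = t • M - 1 := by
      rw [pow_two] at hCH
      rw [eq_sub_iff_add_eq, ← sub_eq_zero, ← hCH]; abel
    set N := M - l • (1 : Matrix (Fin 2) (Fin 2) F) with hN
    have hNN : N * N = 0 := by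
      have : N * N = M * M - (2 * l) • M + (l ^ 2) • (1 : Matrix (Fin 2) (Fin 2) F) := by
        simp only [hN, sub_mul, mul_sub, smul_mul_assoc, mul_smul_comm, one_mul, mul_one]
        module
      rw [this, hMM, ht2, hl2]
      module
    have hp2 : 2 ≤ p := (Fact.out : p.Prime).two_le
    have hNp : N ^ p = 0 := by
      obtain ⟨k, rfl⟩ := Nat.exists_eq_add_of_le hp2
      rw [pow_add, pow_two, hNN, zero_mul]
    have hcomm : Commute (l • (1 : Matrix (Fin 2) (Fin 2) F)) N := by
      rw [hN]
      apply Commute.sub_right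
      · exact (Commute.one_left M).smul_left l
      · exact Commute.refl _
    have hMp : M ^ p = (l ^ p) • (1 : Matrix (Fin 2) (Fin 2) F) := by
      have hdecomp : M = l • (1 : Matrix (Fin 2) (Fin 2) F) + N := by rw [hN]; abel
      rw [hdecomp, add_pow_char_of_commute p hcomm, hNp, add_zero, _root_.smul_pow, one_pow]
    have hM2p : M ^ (p * 2) = 1 := by
      rw [pow_mul, hMp, _root_.smul_pow, one_pow, ← pow_mul, mul_comm, pow_mul, hl2, one_pow, one_smul]
    have hord : orderOf g ∣ p * 2 := by
      apply orderOf_dvd_of_pow_eq_one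
      apply Subtype.ext
      rw [Matrix.SpecialLinearGroup.coe_pow]
      exact hM2p
    have hord2 : orderOf g ∣ 2 := hg.dvd_of_dvd_mul_left hord
    by_cases hp : p = 2
    · subst hp
      have : orderOf g = 1 := Nat.Coprime.eq_one_of_dvd hg hord2
      rw [this]; exact one_dvd _
    · have hodd : Fintype.card F % 2 = 1 := by
        apply FiniteField.odd_card_of_char_ne_two
        rw [ringChar.eq F p]; exact hp
      have : 2 ∣ Fintype.card F - 1 := by omega
      exact hord2.trans this
  · -- distinct roots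
    apply order_dvd_of_dvd
    rw [hfe]
    have hfac : (X ^ 2 - C t * X + C 1 : F[X]) = (X - C l) * (X - C l⁻¹) := by
      have ht' : t = l + l⁻¹ := by rw [hlinv]; ring
      have h1 : l * l⁻¹ = 1 := mul_inv_cancel₀ hl0
      rw [ht']
      have : (C l * C l⁻¹ : F[X]) = C 1 := by rw [← C_mul, h1]
      rw [C_add]
      linear_combination -this
    rw [hfac]
    have hne : l - l⁻¹ ≠ 0 := by
      intro h
      apply hl2
      have : l = l⁻¹ := sub_eq_zero.mp h
      rw [pow_two]
      nth_rw 2 [this]
      exact mul_inv_cancel₀ hl0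
    apply IsCoprime.mul_dvd (isCoprime_X_sub_C_of_isUnit_sub (IsUnit.mk0 _ hne))
    · rw [dvd_iff_isRoot]
      simp [FiniteField.pow_card_sub_one_eq_one l hl0]
    · rw [dvd_iff_isRoot]
      simp [FiniteField.pow_card_sub_one_eq_one l⁻¹ (inv_ne_zero hl0)]

theorem main [Fintype F] {q : ℕ} (hF : Fintype.card F = q) (p : ℕ) [Fact p.Prime] [CharP F p] (g : Matrix.SpecialLinearGroup (Fin 2) F) (hg : Nat.Coprime (orderOf g) p) : orderOf g ∣ q - 1 ∨ orderOf g ∣ q + 1 := by
  subst hF
  by_cases hirr : Irreducible (g : Matrix (Fin 2) (Fin 2) F).charpoly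
  · exact irred_case g hirr
  · left
    have hmonic := Matrix.charpoly_monic (g : Matrix (Fin 2) (Fin 2) F)
    have hdeg : (g : Matrix (Fin 2) (Fin 2) F).charpoly.natDegree = 2 := by
      rw [Matrix.charpoly_natDegree_eq_dim]; rfl
    rw [Monic.irreducible_iff_roots_eq_zero_of_degree_le_three hmonic (by omega) (by omega)] at hirr
    obtain ⟨l, hl⟩ := Multiset.exists_mem_of_ne_zero hirr
    have hroot := (mem_roots hmonic.ne_zero).mp hl
    rw [charpoly_sl2, IsRoot.def] at hroot
    simp only [eval_add, eval_sub, eval_mul, eval_pow, eval_X, eval_C] at hroot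
    exact red_case p g hg l hroot


/-- Tori of SL_2(q): if g ∈ SL_2(q) has order coprime to the characteristic p, then the order of g divides q − 1 or q + 1. -/
theorem result {F : Type*} [Field F] [Fintype F] {q : ℕ} (hF : Fintype.card F = q) (p : ℕ) [Fact p.Prime] [CharP F p] (g : Matrix.SpecialLinearGroup (Fin 2) F) (hg : Nat.Coprime (orderOf g) p) : orderOf g ∣ q - 1 ∨ orderOf g ∣ q + 1 := by
  exact main hF p g hg

end Cfsg.Agent.S0800
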