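import Cfsg.Statements.S0810
import Cfsg.Agent.Lib.helper6.PSL2MinC

set_option autoImplicit false
open Cfsg

namespace Cfsg.Agent.S0810

/-- PSL_2(q) is minimal simple iff q is 2^r (r prime), 3^r (r an odd prime), a prime greater than 5 congruent to 2 or 3 mod 5, or 5. -/
theorem result {F : Type*} [Field F] [Fintype F] {q : ℕ} (hF : Fintype.card F = q) : Cfsg.IsMinimalSimple (Matrix.ProjectiveSpecialLinearGroup (Fin 2) F) ↔ ((∃ r : ℕ, r.Prime ∧ q = 2 ^ r) ∨ (∃ r : ℕ, r.Prime ∧ r ≠ 2 ∧ q = 3 ^ r) ∨ (q.Prime ∧ 5 < q ∧ (q % 5 = 2 ∨ q % 5 = 3)) ∨ q = 5) := by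
  classical
  obtain ⟨p, hchar⟩ := CharP.exists F
  haveI : Fact p.Prime := ⟨CharP.char_is_prime F p⟩
  have hpP : p.Prime := Fact.out
  obtain ⟨n, -, hqn⟩ := FiniteField.card F p
  rw [hF] at hqn
  have hn1 : 1 ≤ (n : ℕ) := n.pos
  have hq2 : 2 ≤ q := by rw [← hF]; exact Fintype.one_lt_card
  have hcard := Cfsg.Agent.Lib.helper6.PSL2Index.card_PSL2_mul (F := F)
  rw [hF] at hcard
  have hd2 : Nat.gcd 2 (q - 1) ≤ 2 := Nat.le_of_dvd (by norm_num) (Nat.gcd_dvd_left 2 (q - 1))
  constructor
  · rintro ⟨hsimple, hnc, hsolv⟩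
    -- q ≥ 4
    have h4 : 4 ≤ q := by
      by_contra hlt
      push Not at hlt
      have hsol : Group.IsSolvable (Matrix.ProjectiveSpecialLinearGroup (Fin 2) F) := by
        interval_cases q
        · have hg : Nat.gcd 2 (2 - 1) = 1 := by decide
          rw [hg] at hcard
          exact Cfsg.Agent.S0144.result 2 3 1 1 Nat.prime_two Nat.prime_three (by omega)
        · have hg : Nat.gcd 2 (3 - 1) = 2 := by decide
          rw [hg] at hcard
          exact Cfsg.Agent.S0144.result 2 3 2 1 Nat.prime_two Nat.prime_three (by omega)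
      have := (IsSimpleGroup.comm_iff_isSolvable).mpr hsol
      exact hnc ⟨⟨this⟩⟩
    -- subfield subgroups
    have hsub : ∀ a, a ∣ (n : ℕ) → a ≠ n → p ^ a < 4 := by
      intro a ha hne
      by_contra hge
      push Not at hge
      have ha1 : 1 ≤ a := Nat.pos_of_dvd_of_pos ha n.pos
      obtain ⟨m, hm⟩ := ha
      have hm2 : 2 ≤ m := by
        rcases Nat.lt_or_ge m 2 with h | h
        · exfalso
          interval_cases m
          · rw [mul_zero] at hm; omega
          · rw [mul_one] at hm; exact hne hm.symm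
        · exact h
      haveI : Fintype (GaloisField p a) := Fintype.ofFinite _
      have hKc : Fintype.card (GaloisField p a) = p ^ a := by
        rw [← Nat.card_eq_fintype_card, GaloisField.card p a (by omega)]
      have hKm : Fintype.card (GaloisField p a) ^ m = Fintype.card F := by
        rw [hKc, ← pow_mul, ← hm, hF, hqn]
      obtain ⟨ι⟩ := Cfsg.Agent.S0805.exists_ringHom_of_card_pow m hKm
      obtain ⟨H, ⟨e⟩⟩ := Cfsg.Agent.S0805.exists_psl_sub ι
      obtain ⟨q₀, hq₀⟩ : ∃ q₀, q₀ = p ^ a := ⟨_, rfl⟩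
      rw [← hq₀] at hge hKc
      have hqq : q₀ ^ 2 ≤ q := by
        rw [hqn, hm, pow_mul, ← hq₀]
        exact Nat.pow_le_pow_right (by omega) hm2
      have hHne : H ≠ ⊤ := by
        intro htop
        have h1 : Nat.card H = Nat.card (Matrix.ProjectiveSpecialLinearGroup (Fin 2) F) := by
          rw [htop, Subgroup.card_top]
        rw [Nat.card_congr e.toEquiv] at h1
        have h2 := Cfsg.Agent.Lib.helper6.PSL2Index.card_PSL2_mul (F := GaloisField p a)
        rw [hKc, h1] at h2
        obtain ⟨N, hN⟩ : ∃ N, N = Nat.card (Matrix.ProjectiveSpecialLinearGroup (Fin 2) F) :=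
          ⟨_, rfl⟩
        rw [← hN] at h2 hcard
        have hd2' : Nat.gcd 2 (q₀ - 1) ≤ 2 :=
          Nat.le_of_dvd (by norm_num) (Nat.gcd_dvd_left 2 (q₀ - 1))
        have hd0 : 1 ≤ Nat.gcd 2 (q₀ - 1) := Nat.gcd_pos_of_pos_left _ (by norm_num)
        have h3 : 4 * q₀ ≤ q := by nlinarith
        have h4' : q₀ ^ 2 ≤ q ^ 2 := Nat.pow_le_pow_left (by omega) 2
        have h5 : q₀ ^ 2 - 1 ≤ q ^ 2 - 1 := Nat.sub_le_sub_right h4' 1
        have h6 : 4 * q₀ * (q₀ ^ 2 - 1) ≤ q * (q ^ 2 - 1) := Nat.mul_le_mul h3 h5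
        have h7 : 0 < q₀ * (q₀ ^ 2 - 1) := by
          have : 16 ≤ q₀ ^ 2 := by nlinarith
          exact Nat.mul_pos (by omega) (by omega)
        have h8 : N * Nat.gcd 2 (q - 1) ≤ N * 2 := Nat.mul_le_mul_left _ hd2
        have h9 : N * 1 ≤ N * Nat.gcd 2 (q₀ - 1) := Nat.mul_le_mul_left _ hd0
        nlinarith
      haveI := hsolv H hHne
      have hsK : Group.IsSolvable (Matrix.ProjectiveSpecialLinearGroup (Fin 2) (GaloisField p a)) :=
        solvable_of_surjective (f := e.toMonoidHom) e.surjective
      haveI : IsSimpleGroup (Matrix.ProjectiveSpecialLinearGroup (Fin 2) (GaloisField p a)) :=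
        Matrix.ProjectiveSpecialLinearGroup.rank_two_simple
          (by rw [Nat.card_eq_fintype_card, hKc]; exact hge)
      exact Cfsg.Agent.Lib.helper6.PSL2Min.psl_not_comm (by rw [hKc]; exact hge)
        ((IsSimpleGroup.comm_iff_isSolvable).mpr hsK)
    have hn_div : ∀ a, a ∣ (n : ℕ) → a = n ∨ p ^ a < 4 := by
      intro a ha
      by_cases h : a = n
      · left; exact h
      · right; exact hsub a ha h
    have hbig : 7 ≤ q → 120 < q * (q ^ 2 - 1) := by
      intro h7
      have h1 : 49 ≤ q ^ 2 := by nlinarith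
      have h2 : 7 * 48 ≤ q * (q ^ 2 - 1) := Nat.mul_le_mul h7 (by omega)
      omega
    by_cases hp2 : p = 2
    · left
      refine ⟨n, ?_, by rw [hqn, hp2]⟩
      rw [Nat.prime_def]
      refine ⟨?_, fun a ha => ?_⟩
      · by_contra hlt
        have hn1' : (n : ℕ) = 1 := by omega
        rw [hn1', hp2] at hqn
        omega
      · rcases hn_div a ha with h | h
        · right; exact h
        · left
          have ha1 : 1 ≤ a := Nat.pos_of_dvd_of_pos ha n.pos
          rw [hp2] at h
          by_contra hne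
          have : 2 ≤ a := by omega
          have := Nat.pow_le_pow_right (show 1 ≤ 2 by norm_num) this
          omega
    by_cases hp3 : p = 3
    · right; left
      have hnprime : (n : ℕ).Prime := by
        rw [Nat.prime_def]
        refine ⟨?_, fun a ha => ?_⟩
        · by_contra hlt
          have hn1' : (n : ℕ) = 1 := by omega
          rw [hn1', hp3] at hqn
          omega
        · rcases hn_div a ha with h | h
          · right; exact h
          · left
            have ha1 : 1 ≤ a := Nat.pos_of_dvd_of_pos ha n.pos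
            rw [hp3] at h
            by_contra hne
            have : 2 ≤ a := by omega
            have := Nat.pow_le_pow_right (show 1 ≤ 3 by norm_num) this
            omega
      refine ⟨n, hnprime, ?_, by rw [hqn, hp3]⟩
      intro hn2
      rw [hn2, hp3] at hqn
      norm_num at hqn
      subst hqn
      exact Cfsg.Agent.Lib.helper6.PSL2Min.a5_contra hF hsolv (by norm_num) (by norm_num)
    · have hp5 : 5 ≤ p := by
        have := hpP.two_le
        by_contra hlt
        push Not at hlt
        have : p = 4 := by omega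
        rw [this] at hpP
        exact absurd hpP (by norm_num)
      have hn1' : (n : ℕ) = 1 := by
        rcases hn_div 1 (one_dvd _) with h | h
        · exact h.symm
        · rw [pow_one] at h; omega
      have hqp' : q = p := by rw [hqn, hn1', pow_one]
      by_cases hq5 : q = 5
      · right; right; right; exact hq5
      · right; right; left
        have hq7 : 7 ≤ q := by
          rw [hqp']
          by_contra hlt
          push Not at hlt
          have : p = 6 := by omega
          rw [this] at hpP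
          exact absurd hpP (by norm_num)
        refine ⟨hqp' ▸ hpP, by omega, ?_⟩
        by_contra hmod
        have h0 : q % 5 ≠ 0 := by
          intro h0
          have h5 : 5 ∣ q := Nat.dvd_of_mod_eq_zero h0
          rw [hqp'] at h5
          have := (Nat.prime_dvd_prime_iff_eq Nat.prime_five hpP).mp h5
          omega
        have h14 : q % 5 = 1 ∨ q % 5 = 4 := by omega
        exact Cfsg.Agent.Lib.helper6.PSL2Min.a5_contra hF hsolv
          (Cfsg.Agent.Lib.helper6.PSL2Min.dvd_of_mod h14) (hbig hq7)
  · intro hlist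
    have key : 4 ≤ q ∧ (∀ a, a ∣ (n : ℕ) → a = n ∨ (a = 1 ∧ (p = 2 ∨ p = 3))) ∧
        (¬ 5 ∣ q * (q ^ 2 - 1) ∨ q = 4 ∨ q = 5) := by
      rcases hlist with ⟨r, hr, hq⟩ | ⟨r, hr, hr2, hq⟩ | ⟨hqp, hq5, hmod⟩ | hq5
      · have hp2 : p = 2 := by
          have h1 : p ∣ 2 ^ r := by rw [← hq, hqn]; exact dvd_pow_self p (by omega)
          exact (Nat.prime_dvd_prime_iff_eq hpP Nat.prime_two).mp (hpP.dvd_of_dvd_pow h1)
        have hnr : (n : ℕ) = r := by
          rw [hq, hp2] at hqn
          exact (Nat.pow_right_injective (le_refl 2) hqn).symm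
        refine ⟨?_, ?_, ?_⟩
        · rw [hq]
          calc 4 = 2 ^ 2 := by norm_num
            _ ≤ 2 ^ r := Nat.pow_le_pow_right (by norm_num) hr.two_le
        · intro a ha
          rw [hnr] at ha ⊢
          rcases (Nat.dvd_prime hr).mp ha with h | h
          · right; exact ⟨h, Or.inl hp2⟩
          · left; exact h
        · rcases hr.eq_two_or_odd' with h2 | hodd
          · right; left; rw [hq, h2]; norm_num
          · left
            obtain ⟨k, hk⟩ := hodd
            rw [hq, hk]
            exact Cfsg.Agent.Lib.helper6.PSL2Min.not_dvd_of_mod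
              (Cfsg.Agent.Lib.helper6.PSL2Min.two_pow_odd_mod k)
      · have hp3 : p = 3 := by
          have h1 : p ∣ 3 ^ r := by rw [← hq, hqn]; exact dvd_pow_self p (by omega)
          exact (Nat.prime_dvd_prime_iff_eq hpP Nat.prime_three).mp (hpP.dvd_of_dvd_pow h1)
        have hnr : (n : ℕ) = r := by
          rw [hq, hp3] at hqn
          exact (Nat.pow_right_injective (show 2 ≤ 3 by norm_num) hqn).symm
        refine ⟨?_, ?_, ?_⟩
        · rw [hq]
          calc 4 ≤ 3 ^ 2 := by norm_num
            _ ≤ 3 ^ r := Nat.pow_le_pow_right (by norm_num) hr.two_le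
        · intro a ha
          rw [hnr] at ha ⊢
          rcases (Nat.dvd_prime hr).mp ha with h | h
          · right; exact ⟨h, Or.inr hp3⟩
          · left; exact h
        · left
          rcases hr.eq_two_or_odd' with h2 | hodd
          · exact absurd h2 hr2
          · obtain ⟨k, hk⟩ := hodd
            rw [hq, hk]
            exact Cfsg.Agent.Lib.helper6.PSL2Min.not_dvd_of_mod
              (Cfsg.Agent.Lib.helper6.PSL2Min.three_pow_odd_mod k)
      · obtain ⟨hpq, hn1'⟩ := (Nat.Prime.pow_eq_iff hqp).mp hqn.symm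
        refine ⟨by omega, ?_, ?_⟩
        · intro a ha
          rw [hn1'] at ha ⊢
          left; exact Nat.dvd_one.mp ha
        · left; exact Cfsg.Agent.Lib.helper6.PSL2Min.not_dvd_of_mod hmod
      · have hqp : q.Prime := by rw [hq5]; exact Nat.prime_five
        obtain ⟨hpq, hn1'⟩ := (Nat.Prime.pow_eq_iff hqp).mp hqn.symm
        refine ⟨by omega, ?_, Or.inr (Or.inr hq5)⟩
        intro a ha
        rw [hn1'] at ha ⊢
        left; exact Nat.dvd_one.mp ha
    obtain ⟨h4, hdiv, h5⟩ := key
    refine ⟨Matrix.ProjectiveSpecialLinearGroup.rank_two_simple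
      (by rw [Nat.card_eq_fintype_card, hF]; exact h4), ?_, ?_⟩
    · intro hc
      exact Cfsg.Agent.Lib.helper6.PSL2Min.psl_not_comm (by rw [hF]; exact h4)
        (fun a b => hc.is_comm.comm a b)
    · intro H hH
      exact Cfsg.Agent.Lib.helper6.PSL2Min.solvable_of_proper p (by rw [hF]; exact hqn)
        (by rw [hF]; exact h4) hdiv (by rw [hF]; exact h5) H hH

end Cfsg.Agent.S0810
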