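import Cfsg.Statements.S0811
import Cfsg.Agent.Lib.helper6.PSL2TorB
import Cfsg.Agent.Lib.helper6.PSL2Struct
import Cfsg.Agent.Lib.helper3.DicksonConcB
import Cfsg.Agent.S0807

set_option autoImplicit false
open Cfsg

namespace Cfsg.Agent.S0811

/-- For q ∉ {2, 7, 9}, PSL_2(q) has a maximal subgroup isomorphic to the dihedral group of order 2(q + 1)/d, d = gcd(2, q − 1). -/
theorem result {F : Type*} [Field F] [Fintype F] {q : ℕ} (hF : Fintype.card F = q) (hq : q ∉ ({2, 7, 9} : Finset ℕ)) : ∃ H : Subgroup (Matrix.ProjectiveSpecialLinearGroup (Fin 2) F), IsCoatom H ∧ Nonempty (H ≃* DihedralGroup ((q + 1) / Nat.gcd 2 (q - 1))) := by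
  classical
  obtain ⟨p, hchar⟩ := CharP.exists F
  haveI : Fact p.Prime := ⟨CharP.char_is_prime F p⟩
  simp only [Finset.mem_insert, Finset.mem_singleton, not_or] at hq
  obtain ⟨hq2', hq7, hq9⟩ := hq
  have hq2 : 2 ≤ q := by rw [← hF]; exact Fintype.one_lt_card
  by_cases hq3 : q = 3
  · -- the Klein four-group of `PSL₂(3)`
    subst hq3
    have hcard := Cfsg.Agent.Lib.helper6.PSL2Index.card_PSL2_mul (F := F)
    rw [hF] at hcard
    have hL : Nat.card (Matrix.ProjectiveSpecialLinearGroup (Fin 2) F) = 12 := by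
      have hg : Nat.gcd 2 (3 - 1) = 2 := by decide
      rw [hg] at hcard
      omega
    have h1 := Cfsg.Agent.S0807.result hF (by decide)
    rw [hL] at h1
    have h2 : Nat.card {V : Subgroup (Matrix.ProjectiveSpecialLinearGroup (Fin 2) F) //
        IsKleinFour V} = 1 := by omega
    obtain ⟨⟨V, hV⟩⟩ := (Nat.card_pos_iff.mp (by rw [h2]; norm_num)).1
    haveI := hV
    have hV4 : Nat.card V = 4 := IsKleinFour.card_four
    refine ⟨V, ⟨?_, ?_⟩, ?_⟩
    · intro htop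
      rw [htop, Subgroup.card_top, hL] at hV4
      omega
    · intro M hVM
      obtain ⟨h3, h4⟩ := Cfsg.Agent.Lib.helper6.PSL2Max.card_lt_of_lt hVM
      have h5 : Nat.card M ∣ 12 := by rw [← hL]; exact Subgroup.card_subgroup_dvd_card M
      rw [hV4] at h3 h4
      apply (Subgroup.card_eq_iff_eq_top M).mp
      rw [hL]
      have h7 : Nat.card M ∈ Nat.divisors 12 := Nat.mem_divisors.mpr ⟨h5, by norm_num⟩
      have h8 : Nat.divisors 12 = {1, 2, 3, 4, 6, 12} := by decide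
      rw [h8] at h7
      simp only [Finset.mem_insert, Finset.mem_singleton] at h7
      rcases h7 with h7 | h7 | h7 | h7 | h7 | h7 <;> omega
    · have hd : (3 + 1) / Nat.gcd 2 (3 - 1) = 2 := by decide
      rw [hd]
      exact IsKleinFour.nonempty_mulEquiv (G₁ := V) (G₂ := DihedralGroup 2)
  have hq4 : 4 ≤ q := by omega
  obtain ⟨X, instX, D⟩ := Cfsg.Agent.Lib.helper3.psl2_dact (F := F) p
  obtain ⟨r, s, hFull⟩ := Cfsg.Agent.Lib.helper6.PSL2Struct.psl_full p (by rw [hF]; exact hq4) D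
  rw [hF] at hFull
  obtain ⟨f, -, hqf⟩ := FiniteField.card F p
  have hd2 : Nat.gcd 2 (q - 1) ≤ 2 := Nat.le_of_dvd (by norm_num) (Nat.gcd_dvd_left 2 (q - 1))
  obtain ⟨y, hys, hcardT, hswap⟩ := hFull.minus_pair hq2 hd2
  have hcard := Cfsg.Agent.Lib.helper6.PSL2Index.card_PSL2_mul (F := F)
  rw [hF] at hcard
  obtain ⟨hco, ⟨e⟩⟩ := Cfsg.Agent.Lib.helper6.PSL2Tor.coatom_pairStab D hFull hq4
    (f := (f : ℕ)) (by rw [← hF, hqf]) rfl hcard (Ne.symm hys) rfl hswap
    (Or.inr ⟨hcardT, hq7, hq9⟩)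
  refine ⟨_, hco, ⟨?_⟩⟩
  have hd0 : 0 < Nat.gcd 2 (q - 1) := Nat.gcd_pos_of_pos_left _ (by norm_num)
  rw [Nat.div_eq_of_eq_mul_left hd0 hcardT.symm]
  exact e

end Cfsg.Agent.S0811
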