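import Cfsg.Statements.S0812
import Cfsg.Agent.Lib.helper6.PSL2TorB
import Cfsg.Agent.Lib.helper6.PSL2Struct
import Cfsg.Agent.Lib.helper3.DicksonConcB

set_option autoImplicit false
open Cfsg

namespace Cfsg.Agent.S0812

/-- For q ∉ {2, 3, 5, 7, 9, 11}, PSL_2(q) has a maximal subgroup isomorphic to the dihedral group of order 2(q − 1)/d, d = gcd(2, q − 1). -/
theorem result {F : Type*} [Field F] [Fintype F] {q : ℕ} (hF : Fintype.card F = q) (hq : q ∉ ({2, 3, 5, 7, 9, 11} : Finset ℕ)) : ∃ H : Subgroup (Matrix.ProjectiveSpecialLinearGroup (Fin 2) F), IsCoatom H ∧ Nonempty (H ≃* DihedralGroup ((q - 1) / Nat.gcd 2 (q - 1))) := by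
  classical
  obtain ⟨p, hchar⟩ := CharP.exists F
  haveI : Fact p.Prime := ⟨CharP.char_is_prime F p⟩
  simp only [Finset.mem_insert, Finset.mem_singleton, not_or] at hq
  obtain ⟨hq2', hq3, hq5, hq7, hq9, hq11⟩ := hq
  have hq2 : 2 ≤ q := by rw [← hF]; exact Fintype.one_lt_card
  have hq4 : 4 ≤ q := by omega
  obtain ⟨X, instX, D⟩ := Cfsg.Agent.Lib.helper3.psl2_dact (F := F) p
  obtain ⟨r, s, hFull⟩ := Cfsg.Agent.Lib.helper6.PSL2Struct.psl_full p (by rw [hF]; exact hq4) D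
  rw [hF] at hFull
  obtain ⟨f, -, hqf⟩ := FiniteField.card F p
  obtain ⟨y, hyr, hcardT, hswap⟩ := hFull.plus_pair
  have hcard := Cfsg.Agent.Lib.helper6.PSL2Index.card_PSL2_mul (F := F)
  rw [hF] at hcard
  obtain ⟨hco, ⟨e⟩⟩ := Cfsg.Agent.Lib.helper6.PSL2Tor.coatom_pairStab D hFull hq4
    (f := (f : ℕ)) (by rw [← hF, hqf]) rfl hcard (Ne.symm hyr) rfl hswap
    (Or.inl ⟨hcardT, hq5, hq7, hq9, hq11⟩)
  refine ⟨_, hco, ⟨?_⟩⟩
  have hd0 : 0 < Nat.gcd 2 (q - 1) := Nat.gcd_pos_of_pos_left _ (by norm_num)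
  rw [Nat.div_eq_of_eq_mul_left hd0 hcardT.symm]
  exact e

end Cfsg.Agent.S0812
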