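import Cfsg.Statements.S0814

import Cfsg.Agent.Lib.helper15.Sp4G4
set_option autoImplicit false
open Cfsg

namespace Cfsg.Agent.S0814


open Cfsg.Agent.Lib.Helper16.SPA Cfsg.Agent.Lib.Helper16.SPF Cfsg.Agent.Lib.helper15.SpAut
  Cfsg.Agent.Lib.helper15.Sp4G

theorem two_pow_sub_one_gcd (f : ℕ) (hf : 1 ≤ f) : Nat.gcd 2 (2 ^ f - 1) = 1 := by
  have h1 : 2 ^ f = 2 * 2 ^ (f - 1) := by
    rw [← pow_succ']
    congr 1
    omega
  have h2 : 0 < 2 ^ (f - 1) := Nat.two_pow_pos _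
  have hodd : Odd (2 ^ f - 1) := ⟨2 ^ (f - 1) - 1, by omega⟩
  exact (Nat.coprime_comm.mp hodd.coprime_two_right)

/-- |Aut(PSp_2m(q))| = gcd(2, q−1) · f · |PSp_2m(q)| for q = p^f, m ≥ 2, (m, q) ≠ (2, 2), with an extra factor 2 exactly when m = 2 and p = 2. -/
theorem result {F : Type*} [Field F] [Fintype F] (p f : ℕ) [Fact p.Prime] (hf : 1 ≤ f) (hF : Fintype.card F = p ^ f) (m : ℕ) (hm : 2 ≤ m) (h22 : m = 2 → 3 ≤ p ^ f) : Nat.card (MulAut (Cfsg.PSp m F)) = (if m = 2 ∧ p = 2 then 2 else 1) * Nat.gcd 2 (p ^ f - 1) * f * Nat.card (Cfsg.PSp m F) := by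
  by_cases h : m = 2 ∧ p = 2
  · obtain ⟨rfl, rfl⟩ := h
    rw [if_pos ⟨rfl, rfl⟩]
    have hch : CharP F 2 := charP_of_card_eq_prime_pow hF
    have h2 : (2 : F) = 0 := by
      have := CharP.cast_eq_zero F 2
      exact_mod_cast this
    have hN : ((PhiS 2 F).range).Normal := PhiS_range_normal (le_refl 2)
    rw [card_aut_eq_mul (PhiS 2 F).range, card_quot22 _ h2 hF rfl, card_range_PhiS (le_refl 2),
      card_Sp_eq hF (by omega), two_pow_sub_one_gcd f hf]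
    ring
  · rw [if_neg h, one_mul]
    exact card_aut_generic p f hF hm (fun h2 hp => h ⟨h2, hp⟩)

end Cfsg.Agent.S0814
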