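import Cfsg.Statements.S0819

set_option autoImplicit false
set_option linter.unusedSectionVars false
open Cfsg

namespace Cfsg.Agent.S0819

open Matrix Module Polynomial

section FieldFacts

variable {K : Type*} [Field K] [Fintype K]

theorem two_eq_zero_of_card_four (hK : Fintype.card K = 4) : (2 : K) = 0 := by
  have h := FiniteField.cast_card_eq_zero K
  rw [hK] at h
  have h4 : (2 : K) * 2 = 0 := by
    rw [← h]; norm_num
  exact mul_self_eq_zero.mp h4

theorem cube_eq_one_of_card_four (hK : Fintype.card K = 4) (x : K) (hx : x ≠ 0) : x ^ 3 = 1 := by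
  have := FiniteField.pow_card_sub_one_eq_one x hx
  rwa [hK] at this

theorem pow_four_of_card_four (hK : Fintype.card K = 4) (x : K) : x ^ 4 = x := by
  have := FiniteField.pow_card x
  rwa [hK] at this

theorem exists_omega (hK : Fintype.card K = 4) : ∃ ω : K, ω ≠ 0 ∧ ω ≠ 1 := by
  classical
  by_contra hcon
  push Not at hcon
  have hsub : (Finset.univ : Finset K) ⊆ {0, 1} := by
    intro x _
    by_cases hx : x = 0
    · simp [hx]
    · simp [hcon x hx]
  have h1 := Finset.card_le_card hsub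
  rw [Finset.card_univ, hK] at h1
  have h2 := Finset.card_le_two (a := (0 : K)) (b := 1)
  omega

theorem omega_inj (ω : K) (h0 : ω ≠ 0) (h1 : ω ≠ 1) (h3 : ω ^ 3 = 1) :
    Function.Injective ![1, ω, ω ^ 2] := by
  have h1ω2 : (1 : K) ≠ ω ^ 2 := by
    intro h
    apply h1
    have : ω ^ 3 = ω := by rw [pow_succ, ← h, one_mul]
    rw [← this, h3]
  have hωω2 : ω ≠ ω ^ 2 := by
    intro h
    apply h1
    have : ω * 1 = ω * ω := by rw [mul_one, ← pow_two]; exact h
    exact (mul_left_cancel₀ h0 this).symm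
  intro i j hij
  fin_cases i <;> fin_cases j <;> first | rfl | (exfalso; first | exact h1 hij | exact h1ω2 hij | exact hωω2 hij | exact h1 hij.symm | exact h1ω2 hij.symm | exact hωω2 hij.symm)

end FieldFacts

section Mat

variable {K : Type*} [Field K]

theorem charpoly_three (h : Matrix (Fin 3) (Fin 3) K) :
    h.charpoly = C (h.charpoly.coeff 0) + C (h.charpoly.coeff 1) * X + C (h.charpoly.coeff 2) * X ^ 2 + X ^ 3 := by
  have hdeg : h.charpoly.natDegree = 3 := by
    rw [Matrix.charpoly_natDegree_eq_dim, Fintype.card_fin]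
  have hm : h.charpoly.coeff 3 = 1 := by
    have := (Matrix.charpoly_monic h).coeff_natDegree
    rwa [hdeg] at this
  conv_lhs => rw [h.charpoly.as_sum_range_C_mul_X_pow, hdeg]
  simp [Finset.sum_range_succ, hm]

theorem lemmaH (h2 : (2 : K) = 0) (hcube : ∀ x : K, x ≠ 0 → x ^ 3 = 1)
    (h : Matrix (Fin 3) (Fin 3) K) (hdet : h.det = 1) (ζ : K)
    (h3 : h ^ 3 = ζ • (1 : Matrix (Fin 3) (Fin 3) K))
    (hns : ∀ c : K, h ≠ c • (1 : Matrix (Fin 3) (Fin 3) K)) :
    ζ = 1 ∧ ∀ a : K, a ^ 3 = 1 → (Matrix.scalar (Fin 3) a - h).det = 0 := by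
  have hneg : ∀ x : K, -x = x := by
    intro x
    have : x + x = 0 := by linear_combination x * h2
    exact neg_eq_of_add_eq_zero_left this
  obtain ⟨c0, hc0⟩ : ∃ c0, h.charpoly.coeff 0 = c0 := ⟨_, rfl⟩
  obtain ⟨c1, hc1⟩ : ∃ c1, h.charpoly.coeff 1 = c1 := ⟨_, rfl⟩
  obtain ⟨c2, hc2⟩ : ∃ c2, h.charpoly.coeff 2 = c2 := ⟨_, rfl⟩
  have hp := charpoly_three h
  rw [hc0, hc1, hc2] at hp
  have hc01 : c0 = 1 := by
    have := Matrix.det_eq_sign_charpoly_coeff h
    rw [hdet, hc0, Fintype.card_fin] at this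
    have h' : (1 : K) = -c0 := by rw [this]; ring
    rw [hneg] at h'
    exact h'.symm
  have hCH : c0 • (1 : Matrix (Fin 3) (Fin 3) K) + c1 • h + c2 • h ^ 2 + h ^ 3 = 0 := by
    have := Matrix.aeval_self_charpoly h
    rw [hp] at this
    rw [map_add, map_add, map_add, map_mul, map_mul, map_pow, map_pow, aeval_C, aeval_C, aeval_C, aeval_X,
      Algebra.algebraMap_eq_smul_one, Algebra.algebraMap_eq_smul_one, Algebra.algebraMap_eq_smul_one,
      smul_mul_assoc, smul_mul_assoc, one_mul, one_mul] at this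
    exact this
  have hM2 : ∀ A : Matrix (Fin 3) (Fin 3) K, A + A = 0 := fun A => by
    rw [← two_smul K A, h2, zero_smul]
  have hsm0 : ∀ u : K, u • (1 : Matrix (Fin 3) (Fin 3) K) = 0 → u = 0 := by
    intro u hu
    have := congrFun (congrFun hu 0) 0
    simpa using this
  rw [h3, hc01] at hCH
  obtain ⟨s, hs⟩ : ∃ s, s = 1 + ζ := ⟨_, rfl⟩
  have hc2z : c2 = 0 := by
    by_contra hc2n
    have e1 : c2 • h ^ 2 = c1 • h + s • (1 : Matrix (Fin 3) (Fin 3) K) := by
      rw [hs]
      linear_combination (norm := module) hCH - hM2 (c1 • h + (1 + ζ) • (1 : Matrix (Fin 3) (Fin 3) K))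
    have e2 : c2 • (ζ • (1 : Matrix (Fin 3) (Fin 3) K)) = c1 • h ^ 2 + s • h := by
      calc c2 • (ζ • (1 : Matrix (Fin 3) (Fin 3) K)) = h * (c2 • h ^ 2) := by
            rw [mul_smul_comm, ← pow_succ', h3]
        _ = h * (c1 • h + s • (1 : Matrix (Fin 3) (Fin 3) K)) := by rw [e1]
        _ = c1 • h ^ 2 + s • h := by rw [mul_add, mul_smul_comm, mul_smul_comm, mul_one, pow_two]
    have e3 : (c1 ^ 2 + c2 * s) • h = (c2 ^ 2 * ζ - c1 * s) • (1 : Matrix (Fin 3) (Fin 3) K) := by
      linear_combination (norm := module) (-c2) • e2 - c1 • e1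
    have ht : c1 ^ 2 + c2 * s = 0 := by
      by_contra ht
      apply hns ((c1 ^ 2 + c2 * s)⁻¹ * (c2 ^ 2 * ζ - c1 * s))
      rw [mul_smul, ← e3, smul_smul, inv_mul_cancel₀ ht, one_smul]
    rw [ht, zero_smul] at e3
    have hu := hsm0 _ e3.symm
    by_cases hc1 : c1 = 0
    · rw [hc1] at ht
      have hs0 : s = 0 := by
        have : c2 * s = 0 := by linear_combination ht
        rcases mul_eq_zero.mp this with h' | h'
        · exact absurd h' hc2n
        · exact h'
      rw [hc1, hs0, zero_smul, zero_smul, add_zero] at e1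
      have hh2 : h ^ 2 = 0 := by
        rcases smul_eq_zero.mp e1 with h' | h'
        · exact absurd h' hc2n
        · exact h'
      have := congrArg Matrix.det hh2
      rw [Matrix.det_pow, hdet, one_pow, Matrix.det_zero] at this
      exact one_ne_zero this
    · have h1 := hcube c1 hc1
      have h2' := hcube c2 hc2n
      have hζ : ζ = 1 := by
        have : c1 ^ 3 = c2 ^ 3 * ζ := by
          linear_combination c1 * ht - c2 * hu - (c1 * c2 * s) * h2
        rw [h1, h2', one_mul] at this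
        exact this.symm
      have hs0 : s = 0 := by rw [hs, hζ]; linear_combination h2
      rw [hs0, mul_zero, add_zero] at ht
      exact hc1 (pow_eq_zero_iff (two_ne_zero) |>.mp ht)
  rw [hc2z, zero_smul, add_zero] at hCH
  have e4 : c1 • h = s • (1 : Matrix (Fin 3) (Fin 3) K) := by
    rw [hs]
    linear_combination (norm := module) hCH - hM2 ((1 + ζ) • (1 : Matrix (Fin 3) (Fin 3) K))
  have hc1z : c1 = 0 := by
    by_contra hc1
    apply hns (c1⁻¹ * s)
    rw [mul_smul, ← e4, smul_smul, inv_mul_cancel₀ hc1, one_smul]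
  rw [hc1z, zero_smul] at e4
  have hs0 := hsm0 _ e4.symm
  have hζ : ζ = 1 := by
    have : ζ = -1 := by linear_combination hs0 - hs
    rw [this, hneg]
  refine ⟨hζ, ?_⟩
  intro a ha
  rw [← Matrix.eval_charpoly, hp, hc01, hc1z, hc2z]
  simp only [eval_add, eval_C, eval_mul, eval_X, eval_pow, zero_mul, add_zero, ha]
  linear_combination h2

theorem lemmaE (hfour : ∀ x : K, x ^ 4 = x) (h : Matrix (Fin 3) (Fin 3) K) (a : Fin 3 → K)
    (hinj : Function.Injective a) (hdet : ∀ i, (Matrix.scalar (Fin 3) (a i) - h).det = 0)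
    (c : Matrix (Fin 3) (Fin 3) K) (hc : c * h = h * c) : c ^ 4 = c := by
  classical
  have hex : ∀ i, ∃ v : Fin 3 → K, v ≠ 0 ∧ (Matrix.scalar (Fin 3) (a i) - h) *ᵥ v = 0 := fun i =>
    Matrix.exists_mulVec_eq_zero_iff.mpr (hdet i)
  choose v hv0 hv using hex
  have hv' : ∀ i, h *ᵥ v i = a i • v i := by
    intro i
    have := hv i
    rw [Matrix.sub_mulVec, sub_eq_zero, Matrix.scalar_apply, ← Matrix.smul_one_eq_diagonal,
      Matrix.smul_mulVec, Matrix.one_mulVec] at this
    exact this.symm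
  have heig : ∀ i, Module.End.HasEigenvector (Matrix.toLin' h) (a i) (v i) := by
    intro i
    rw [Module.End.hasEigenvector_iff, Module.End.mem_eigenspace_iff]
    exact ⟨by rw [Matrix.toLin'_apply]; exact hv' i, hv0 i⟩
  have hli := Module.End.eigenvectors_linearIndependent' (Matrix.toLin' h) a hinj v heig
  let b : Basis (Fin 3) K (Fin 3 → K) := basisOfLinearIndependentOfCardEqFinrank hli (by simp)
  have hb : ∀ i, b i = v i := fun i => by
    show basisOfLinearIndependentOfCardEqFinrank hli _ i = v i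
    rw [coe_basisOfLinearIndependentOfCardEqFinrank]
  let Φ : Matrix (Fin 3) (Fin 3) K ≃ₐ[K] Matrix (Fin 3) (Fin 3) K :=
    (Matrix.toLinAlgEquiv' : Matrix (Fin 3) (Fin 3) K ≃ₐ[K] _).trans (LinearMap.toMatrixAlgEquiv b)
  have hΦ : ∀ (X : Matrix (Fin 3) (Fin 3) K) i j, Φ X i j = b.repr (X *ᵥ b j) i := by
    intro X i j
    show LinearMap.toMatrixAlgEquiv b (Matrix.toLinAlgEquiv' X) i j = _
    rw [LinearMap.toMatrixAlgEquiv_apply, Matrix.toLinAlgEquiv'_apply]
  have hΦh : Φ h = Matrix.diagonal a := by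
    ext i j
    rw [hΦ, hb, hv', ← hb, map_smul, Basis.repr_self, Finsupp.smul_apply, Finsupp.single_apply,
      Matrix.diagonal_apply]
    by_cases hij : i = j
    · subst hij; simp
    · rw [if_neg hij, if_neg (Ne.symm hij)]; simp
  have hcomm : Φ c * Matrix.diagonal a = Matrix.diagonal a * Φ c := by
    rw [← hΦh, ← map_mul, ← map_mul, hc]
  have hoff : ∀ i j, i ≠ j → Φ c i j = 0 := by
    intro i j hij
    have := congrFun (congrFun hcomm i) j
    rw [Matrix.mul_diagonal, Matrix.diagonal_mul] at this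
    have h1 : (a j - a i) * Φ c i j = 0 := by linear_combination this
    rcases mul_eq_zero.mp h1 with h' | h'
    · exact absurd (hinj (sub_eq_zero.mp h')).symm hij
    · exact h'
  have hdiag : Φ c = Matrix.diagonal (fun i => Φ c i i) := by
    ext i j
    rw [Matrix.diagonal_apply]
    by_cases hij : i = j
    · subst hij; simp
    · rw [if_neg hij]; exact hoff i j hij
  apply Φ.injective
  rw [map_pow, hdiag, Matrix.diagonal_pow]
  congr 1
  funext i
  exact hfour _

end Mat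

section Main

variable {K : Type*} [Field K] [Fintype K]

theorem lemmaB15 (hK : Fintype.card K = 4) (M : Matrix (Fin 3) (Fin 3) K) (hdet : M.det = 1)
    (ζ : K) (h15 : M ^ 15 = ζ • (1 : Matrix (Fin 3) (Fin 3) K)) :
    (∃ c : K, M ^ 5 = c • (1 : Matrix (Fin 3) (Fin 3) K)) ∨
      (∃ c : K, M ^ 3 = c • (1 : Matrix (Fin 3) (Fin 3) K)) := by
  classical
  have h2 := two_eq_zero_of_card_four hK
  by_cases hs : ∃ c : K, M ^ 5 = c • (1 : Matrix (Fin 3) (Fin 3) K)
  · exact Or.inl hs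
  right
  push Not at hs
  have hdet5 : (M ^ 5).det = 1 := by rw [Matrix.det_pow, hdet, one_pow]
  have h53 : (M ^ 5) ^ 3 = ζ • (1 : Matrix (Fin 3) (Fin 3) K) := by rw [← pow_mul]; exact h15
  obtain ⟨hζ, hroots⟩ := lemmaH h2 (cube_eq_one_of_card_four hK) (M ^ 5) hdet5 ζ h53 hs
  obtain ⟨ω, hω0, hω1⟩ := exists_omega hK
  have hω3 := cube_eq_one_of_card_four hK ω hω0
  have hinj := omega_inj ω hω0 hω1 hω3
  have hdets : ∀ i, (Matrix.scalar (Fin 3) ((![1, ω, ω ^ 2] : Fin 3 → K) i) - M ^ 5).det = 0 := by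
    intro i
    apply hroots
    fin_cases i
    · exact one_pow 3
    · exact hω3
    · show (ω ^ 2) ^ 3 = 1
      rw [← pow_mul, mul_comm, pow_mul, hω3, one_pow]
  have hcomm : M ^ 3 * M ^ 5 = M ^ 5 * M ^ 3 := by rw [← pow_add, ← pow_add]
  have hk4 := lemmaE (pow_four_of_card_four hK) (M ^ 5) _ hinj hdets (M ^ 3) hcomm
  have hk5 : (M ^ 3) ^ 5 = 1 := by rw [← pow_mul, h15, hζ, one_smul]
  have hk2 : (M ^ 3) ^ 2 = 1 := by
    have : (M ^ 3) ^ 5 = (M ^ 3) ^ 4 * (M ^ 3) := pow_succ _ 4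
    rw [hk4, ← pow_two] at this
    rw [← this, hk5]
  have hk1 : M ^ 3 = 1 := by
    have : (M ^ 3) ^ 4 = ((M ^ 3) ^ 2) ^ 2 := by rw [← pow_mul (M ^ 3) 2 2]
    rw [hk2, one_pow] at this
    rw [← hk4, this]
  exact ⟨1, by rw [hk1, one_smul]⟩

theorem mk_pow_eq_one_of_scalar (g : Matrix.SpecialLinearGroup (Fin 3) K) (k : ℕ) (c : K)
    (hc : (g : Matrix (Fin 3) (Fin 3) K) ^ k = c • (1 : Matrix (Fin 3) (Fin 3) K)) :
    ((QuotientGroup.mk g : Matrix.ProjectiveSpecialLinearGroup (Fin 3) K)) ^ k = 1 := by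
  classical
  rw [← QuotientGroup.mk_pow, QuotientGroup.eq_one_iff, Matrix.SpecialLinearGroup.mem_center_iff]
  refine ⟨c, ?_, ?_⟩
  · have := congrArg Matrix.det hc
    rw [Matrix.det_pow, g.2, one_pow, Matrix.det_smul, Matrix.det_one, mul_one] at this
    exact this.symm
  · rw [Matrix.SpecialLinearGroup.coe_pow, hc, Matrix.scalar_apply, Matrix.smul_one_eq_diagonal]

theorem lemmaC15 (hK : Fintype.card K = 4) (x : Matrix.ProjectiveSpecialLinearGroup (Fin 3) K)
    (hx : x ^ 15 = 1) : x ^ 5 = 1 ∨ x ^ 3 = 1 := by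
  classical
  obtain ⟨g, rfl⟩ := QuotientGroup.mk_surjective x
  have hx' := hx
  rw [← QuotientGroup.mk_pow, QuotientGroup.eq_one_iff, Matrix.SpecialLinearGroup.mem_center_iff] at hx'
  obtain ⟨ζ, -, hs⟩ := hx'
  have h15 : (g : Matrix (Fin 3) (Fin 3) K) ^ 15 = ζ • (1 : Matrix (Fin 3) (Fin 3) K) := by
    rw [← Matrix.SpecialLinearGroup.coe_pow, ← hs, Matrix.scalar_apply, Matrix.smul_one_eq_diagonal]
  rcases lemmaB15 hK g.1 g.2 ζ h15 with ⟨c, hc⟩ | ⟨c, hc⟩
  · left
    exact mk_pow_eq_one_of_scalar g 5 c hc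
  · right
    exact mk_pow_eq_one_of_scalar g 3 c hc

end Main

/-- No element of PSL_3(4) has order 15. -/
theorem result {F : Type*} [Field F] [Fintype F] (hF : Fintype.card F = 4) (g : Matrix.ProjectiveSpecialLinearGroup (Fin 3) F) : orderOf g ≠ 15 := by
  intro h
  have h15 : g ^ 15 = 1 := by rw [← h]; exact pow_orderOf_eq_one g
  rcases lemmaC15 hF g h15 with h5 | h3
  · have := orderOf_dvd_of_pow_eq_one h5
    rw [h] at this
    omega
  · have := orderOf_dvd_of_pow_eq_one h3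
    rw [h] at this
    omega

end Cfsg.Agent.S0819
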