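import Cfsg.Statements.S2162
import Cfsg.Agent.Lib.helper14.SqZero

set_option autoImplicit false
set_option linter.unusedSectionVars false
open Cfsg

namespace Cfsg.Agent.S2162

open Cfsg.Agent.Lib.helper14 Module

section
variable {F : Type*} [Field F] [Fintype F] [CharP F 2] {n : ℕ}

local notation "SLn" => Matrix.SpecialLinearGroup (Fin n) F
local notation "Mn" => Matrix (Fin n) (Fin n) F

theorem two_zero : (2 : F) = 0 := by
  have := CharP.cast_eq_zero F 2
  exact_mod_cast this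

theorem exists_sqrt (x : F) : ∃ y : F, y * y = x := by
  have hF : ringChar F = 2 := ringChar.eq F 2
  obtain ⟨y, hy⟩ := FiniteField.isSquare_of_char_two hF x
  exact ⟨y, hy.symm⟩

theorem sq_zero_of_invol (a : SLn) (ha : orderOf a = 2) : ((a : Mn) - 1) * ((a : Mn) - 1) = 0 := by
  have ha2 : a ^ 2 = 1 := by
    have := pow_orderOf_eq_one a
    rwa [ha] at this
  have hM2 : (a : Mn) * (a : Mn) = 1 := by
    have := congrArg (fun x : SLn => (x : Mn)) ha2
    simpa [pow_two] using this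
  have h2 : (2 : F) = 0 := two_zero
  have : ((a : Mn) - 1) * ((a : Mn) - 1) = (a : Mn) * (a : Mn) - (2 : F) • (a : Mn) + 1 := by
    rw [two_smul]
    noncomm_ring
  rw [this, hM2, h2, zero_smul]
  have h11 : (1 : Mn) + 1 = (2 : F) • (1 : Mn) := by rw [two_smul]
  rw [sub_zero, h11, h2, zero_smul]

theorem rank_conj (a b c : SLn) (hc : c * a * c⁻¹ = b) : ((a : Mn) - 1).rank = ((b : Mn) - 1).rank := by
  have h1 : (b : Mn) - 1 = (c : Mn) * ((a : Mn) - 1) * ((c⁻¹ : SLn) : Mn) := by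
    have hcc : (c : Mn) * ((c⁻¹ : SLn) : Mn) = 1 := congrArg Subtype.val (mul_inv_cancel c)
    have hb : (b : Mn) = (c : Mn) * (a : Mn) * ((c⁻¹ : SLn) : Mn) := (congrArg Subtype.val hc).symm
    rw [hb, Matrix.mul_sub, Matrix.sub_mul, Matrix.mul_one, hcc]
  have hcu : IsUnit (c : Mn).det := by rw [c.2]; exact isUnit_one
  have hcu' : IsUnit ((c⁻¹ : SLn) : Mn).det := by rw [(c⁻¹).2]; exact isUnit_one
  rw [h1, Matrix.rank_mul_eq_left_of_isUnit_det _ _ hcu', Matrix.rank_mul_eq_right_of_isUnit_det _ _ hcu]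

theorem conj_of_rank (hn : 3 ≤ n) (a b : SLn) (ha : orderOf a = 2) (hb : orderOf b = 2)
    (hr : ((a : Mn) - 1).rank = ((b : Mn) - 1).rank) : IsConj a b := by
  let Na : (Fin n → F) →ₗ[F] (Fin n → F) := Matrix.toLin' ((a : Mn) - 1)
  let Nb : (Fin n → F) →ₗ[F] (Fin n → F) := Matrix.toLin' ((b : Mn) - 1)
  have hNa : Na ∘ₗ Na = 0 := by
    show Matrix.toLin' ((a : Mn) - 1) ∘ₗ Matrix.toLin' ((a : Mn) - 1) = 0
    rw [← Matrix.toLin'_mul, sq_zero_of_invol a ha, map_zero]
  have hNb : Nb ∘ₗ Nb = 0 := by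
    show Matrix.toLin' ((b : Mn) - 1) ∘ₗ Matrix.toLin' ((b : Mn) - 1) = 0
    rw [← Matrix.toLin'_mul, sq_zero_of_invol b hb, map_zero]
  have hrank : finrank F (LinearMap.range Na) = finrank F (LinearMap.range Nb) := by
    exact hr
  obtain ⟨g, hg⟩ := exists_conj_of_rank_eq Na Nb hNa hNb hrank
  have hdim : 3 ≤ finrank F (Fin n → F) := by rw [Module.finrank_fin_fun]; exact hn
  obtain ⟨z, hz1, hz2⟩ := exists_centralizer_det Nb hNb hdim exists_sqrt (LinearEquiv.det g)⁻¹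
  let h : (Fin n → F) →ₗ[F] (Fin n → F) := (z : (Fin n → F) →ₗ[F] (Fin n → F)) ∘ₗ (g : (Fin n → F) →ₗ[F] (Fin n → F))
  have hdet : LinearMap.det h = 1 := by
    show LinearMap.det ((z : (Fin n → F) →ₗ[F] (Fin n → F)) ∘ₗ (g : (Fin n → F) →ₗ[F] (Fin n → F))) = 1
    rw [LinearMap.det_comp, hz2, ← LinearEquiv.coe_det, ← Units.val_mul, inv_mul_cancel, Units.val_one]
  have hcomm : h ∘ₗ Na = Nb ∘ₗ h := by
    apply LinearMap.ext
    intro v
    show z (g (Na v)) = Nb (z (g v))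
    rw [hg, hz1]
  let H : Mn := LinearMap.toMatrix' h
  have hHdet : H.det = 1 := by
    show (LinearMap.toMatrix' h).det = 1
    rw [LinearMap.det_toMatrix', hdet]
  have hH : H * ((a : Mn) - 1) = ((b : Mn) - 1) * H := by
    have := congrArg LinearMap.toMatrix' hcomm
    rw [LinearMap.toMatrix'_comp h Na, LinearMap.toMatrix'_comp Nb h] at this
    show LinearMap.toMatrix' h * ((a : Mn) - 1) = ((b : Mn) - 1) * LinearMap.toMatrix' h
    have e1 : LinearMap.toMatrix' Na = (a : Mn) - 1 := LinearMap.toMatrix'_toLin' _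
    have e2 : LinearMap.toMatrix' Nb = (b : Mn) - 1 := LinearMap.toMatrix'_toLin' _
    rw [e1, e2] at this
    exact this
  have hH' : H * (a : Mn) = (b : Mn) * H := by
    rw [Matrix.mul_sub, Matrix.sub_mul, Matrix.mul_one, Matrix.one_mul] at hH
    exact sub_left_injective hH
  rw [isConj_iff]
  let Hs : SLn := ⟨H, hHdet⟩
  refine ⟨Hs, ?_⟩
  rw [mul_inv_eq_iff_eq_mul]
  apply Subtype.ext
  exact hH'

end

theorem result {F : Type*} [Field F] [Fintype F] [CharP F 2] {n : ℕ} (hn : 3 ≤ n) (a b : Matrix.SpecialLinearGroup (Fin n) F) (ha : orderOf a = 2) (hb : orderOf b = 2) :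
    IsConj a b ↔ ((a : Matrix (Fin n) (Fin n) F) - 1).rank = ((b : Matrix (Fin n) (Fin n) F) - 1).rank := by
  constructor
  · intro h
    obtain ⟨c, hc⟩ := isConj_iff.mp h
    exact rank_conj a b c hc
  · intro h
    exact conj_of_rank hn a b ha hb h

end Cfsg.Agent.S2162
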