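import Cfsg.Statements.S0820
import Cfsg.Agent.S2162

set_option autoImplicit false
open Cfsg

namespace Cfsg.Agent.S0820

open Cfsg.Agent.Lib.helper14 Module Matrix

section

variable {F : Type*} [Field F] [Fintype F]

theorem two_eq_zero_of_card_four (hF : Fintype.card F = 4) : (2 : F) = 0 := by
  have h := FiniteField.cast_card_eq_zero F
  rw [hF] at h
  have h4 : (2 : F) * 2 = 0 := by
    rw [← h]; norm_num
  exact mul_self_eq_zero.mp h4

theorem cube_eq_one_of_card_four (hF : Fintype.card F = 4) (x : F) (hx : x ≠ 0) : x ^ 3 = 1 := by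
  have := FiniteField.pow_card_sub_one_eq_one x hx
  rwa [hF] at this

theorem lift_invol (hF : Fintype.card F = 4) (x : Matrix.ProjectiveSpecialLinearGroup (Fin 3) F)
    (hx : orderOf x = 2) :
    ∃ a : Matrix.SpecialLinearGroup (Fin 3) F,
      (QuotientGroup.mk a : Matrix.ProjectiveSpecialLinearGroup (Fin 3) F) = x ∧ orderOf a = 2 := by
  classical
  obtain ⟨g, rfl⟩ := QuotientGroup.mk_surjective x
  have hx2 : (QuotientGroup.mk g : Matrix.ProjectiveSpecialLinearGroup (Fin 3) F) ^ 2 = 1 := by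
    rw [← hx]; exact pow_orderOf_eq_one _
  rw [← QuotientGroup.mk_pow, QuotientGroup.eq_one_iff, Matrix.SpecialLinearGroup.mem_center_iff] at hx2
  obtain ⟨ζ, hζ3, hs⟩ := hx2
  rw [Fintype.card_fin] at hζ3
  have hζ0 : ζ ≠ 0 := by
    rintro rfl
    simp at hζ3
  obtain ⟨ξ, hξ⟩ : ∃ ξ : F, ξ = (ζ ^ 2)⁻¹ := ⟨_, rfl⟩
  have hξ3 : ξ ^ 3 = 1 := by
    rw [hξ, inv_pow]
    have : (ζ ^ 2) ^ 3 = (ζ ^ 3) ^ 2 := by ring
    rw [this, hζ3, one_pow, inv_one]
  have hξ2 : ξ ^ 2 * ζ = 1 := by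
    rw [hξ, inv_pow]
    have : (ζ ^ 2) ^ 2 = ζ ^ 3 * ζ := by ring
    rw [this, hζ3, one_mul, inv_mul_cancel₀ hζ0]
  have hzdet : (ξ • (1 : Matrix (Fin 3) (Fin 3) F)).det = 1 := by
    rw [Matrix.det_smul, Matrix.det_one, mul_one, Fintype.card_fin, hξ3]
  obtain ⟨z, hz⟩ : ∃ z : Matrix.SpecialLinearGroup (Fin 3) F,
      (z : Matrix (Fin 3) (Fin 3) F) = ξ • (1 : Matrix (Fin 3) (Fin 3) F) := ⟨⟨_, hzdet⟩, rfl⟩
  have hzc : z ∈ Subgroup.center (Matrix.SpecialLinearGroup (Fin 3) F) := by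
    rw [Matrix.SpecialLinearGroup.mem_center_iff]
    refine ⟨ξ, by rw [Fintype.card_fin, hξ3], ?_⟩
    rw [hz, Matrix.scalar_apply, Matrix.smul_one_eq_diagonal]
  refine ⟨g * z, ?_, ?_⟩
  · rw [QuotientGroup.mk_mul, (QuotientGroup.eq_one_iff z).mpr hzc, mul_one]
  · have hgz : ((g * z : Matrix.SpecialLinearGroup (Fin 3) F) : Matrix (Fin 3) (Fin 3) F) =
        ξ • (g : Matrix (Fin 3) (Fin 3) F) := by
      rw [Matrix.SpecialLinearGroup.coe_mul, hz, Matrix.mul_smul, Matrix.mul_one]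
    apply orderOf_eq_prime
    · apply Subtype.ext
      rw [Matrix.SpecialLinearGroup.coe_pow, hgz, smul_pow, ← Matrix.SpecialLinearGroup.coe_pow, ← hs,
        Matrix.scalar_apply, ← Matrix.smul_one_eq_diagonal, smul_smul, hξ2, one_smul]
      rfl
    · intro h1
      have : (QuotientGroup.mk g : Matrix.ProjectiveSpecialLinearGroup (Fin 3) F) = 1 := by
        have h2 : (QuotientGroup.mk (g * z) : Matrix.ProjectiveSpecialLinearGroup (Fin 3) F) = 1 := by
          rw [h1]; rfl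
        rwa [QuotientGroup.mk_mul, (QuotientGroup.eq_one_iff z).mpr hzc, mul_one] at h2
      rw [this, orderOf_one] at hx
      exact absurd hx (by norm_num)

theorem rank_invol [CharP F 2] (a : Matrix.SpecialLinearGroup (Fin 3) F) (ha : orderOf a = 2) :
    ((a : Matrix (Fin 3) (Fin 3) F) - 1).rank = 1 := by
  classical
  have hsq := Cfsg.Agent.S2162.sq_zero_of_invol a ha
  obtain ⟨P, hP⟩ : ∃ P : Matrix (Fin 3) (Fin 3) F, P = (a : Matrix (Fin 3) (Fin 3) F) - 1 := ⟨_, rfl⟩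
  rw [← hP] at hsq ⊢
  have hP0 : P ≠ 0 := by
    intro h0
    rw [hP, sub_eq_zero] at h0
    have h1 : a = 1 := Subtype.ext h0
    rw [h1, orderOf_one] at ha
    exact absurd ha (by norm_num)
  have hN : P.mulVecLin ∘ₗ P.mulVecLin = 0 := by
    rw [← Matrix.mulVecLin_mul, hsq, Matrix.mulVecLin_zero]
  obtain ⟨r, hr⟩ : ∃ r, finrank F (LinearMap.range P.mulVecLin) = r := ⟨_, rfl⟩
  obtain ⟨m, B, -, -⟩ := exists_adapted_basis P.mulVecLin hN r hr
  have hc := Module.finrank_eq_card_basis B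
  simp only [Fintype.card_sum, Fintype.card_fin, Module.finrank_fintype_fun_eq_card] at hc
  have hr0 : r ≠ 0 := by
    rintro rfl
    apply hP0
    have h3 : LinearMap.range P.mulVecLin = ⊥ := Submodule.finrank_eq_zero.mp hr
    rw [LinearMap.range_eq_bot] at h3
    have h4 : Matrix.toLin' P = 0 := by rw [Matrix.toLin'_apply']; exact h3
    exact (LinearEquiv.map_eq_zero_iff _).mp h4
  show finrank F (LinearMap.range P.mulVecLin) = 1
  rw [hr]
  omega

end

/-- Any two elements of order 2 of PSL_3(4) are conjugate. -/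
theorem result {F : Type*} [Field F] [Fintype F] (hF : Fintype.card F = 4) (x y : Matrix.ProjectiveSpecialLinearGroup (Fin 3) F) (hx : orderOf x = 2) (hy : orderOf y = 2) : IsConj x y := by
  classical
  haveI : CharP F 2 := CharTwo.of_one_ne_zero_of_two_eq_zero one_ne_zero (two_eq_zero_of_card_four hF)
  obtain ⟨a, rfl, ha⟩ := lift_invol hF x hx
  obtain ⟨b, rfl, hb⟩ := lift_invol hF y hy
  have hab : IsConj a b :=
    (Cfsg.Agent.S2162.result (le_refl 3) a b ha hb).mpr (by rw [rank_invol a ha, rank_invol b hb])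
  exact (QuotientGroup.mk' (Subgroup.center (Matrix.SpecialLinearGroup (Fin 3) F))).map_isConj hab

end Cfsg.Agent.S0820
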