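import Cfsg.Statements.S0821
import Cfsg.Agent.Lib.Lead.PSpRankB
import Cfsg.Agent.S0292
import Cfsg.Agent.S2235

set_option autoImplicit false
open Cfsg

namespace Cfsg.Agent.S0821

open Cfsg.Agent.Lib.Lead.PSR

/-- PSp_2m(q) ≇ PΩ_(2m+1)(q) for q odd and m ≥ 3 (they have the same order). -/
theorem result {F : Type*} [Field F] [Fintype F] (hodd : Odd (Fintype.card F)) (m : ℕ) (hm : 3 ≤ m) : IsEmpty (Cfsg.PSp m F ≃* Cfsg.POmega F (Cfsg.quadFormOdd m F)) := by
  constructor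
  intro e
  have h2 : (2 : F) ≠ 0 := two_ne_zero_of_odd'' hodd
  obtain ⟨A, hAc, hAe, hAcard⟩ := (Cfsg.Agent.S2235.result hodd m (by omega)).1
  have hcen := Cfsg.Agent.S0292.center_trivial h2 m hm
  let π : ↥(Cfsg.Omega F (Cfsg.quadFormOdd m F)) →* Cfsg.POmega F (Cfsg.quadFormOdd m F) :=
    QuotientGroup.mk' _
  have hπ : Function.Injective π := by
    rw [← MonoidHom.ker_eq_bot_iff, QuotientGroup.ker_mk', hcen]
  let f : ↥(Cfsg.Omega F (Cfsg.quadFormOdd m F)) →* Cfsg.PSp m F := e.symm.toMonoidHom.comp π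
  have hf : Function.Injective f := e.symm.injective.comp hπ
  have hcard : Nat.card (A.map f) = Nat.card A := Subgroup.card_map_of_injective hf
  have hle := psp_rank_le hodd m hm (A.map f) (by
      refine ⟨⟨fun a b => ?_⟩⟩
      obtain ⟨x, hx, hxa⟩ := a.2
      obtain ⟨y, hy, hyb⟩ := b.2
      apply Subtype.ext
      show a.1 * b.1 = b.1 * a.1
      rw [← hxa, ← hyb, ← map_mul, ← map_mul]
      have := mul_comm' (⟨x, hx⟩ : A) ⟨y, hy⟩
      have h' : x * y = y * x := congrArg Subtype.val this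
      rw [h']) (by
      rintro _ ⟨x, hx, rfl⟩
      rw [← map_pow, hAe x hx, map_one])
  rw [hcard] at hle
  have h3 : 2 ^ (2 * m) ≤ 2 ^ (2 * m - 1) := hAcard.trans hle
  have h4 := (Nat.pow_le_pow_iff_right (by norm_num : 1 < 2)).mp h3
  omega

end Cfsg.Agent.S0821
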