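import Cfsg.Statements.S0823
import Cfsg.Agent.Lib.Lead.PSL2Orth
import Cfsg.Agent.Lib.Lead.OrthOdd
import Cfsg.Agent.S0286
import Mathlib

set_option autoImplicit false
open Cfsg

namespace Cfsg.Agent.S0823

open Matrix Cfsg.Agent.Lib.Lead Cfsg.Agent.Lib.Lead.OG Cfsg.Agent.Lib.Lead.PO3

/-! ### An explicit faithful representation of `S₄` over `ZMod 3`

`S₄` permutes the coordinates of the sum-zero hyperplane of `(ZMod 3)^4`; in the basis `B43` the
negative of the dot product is the form `x₀² + x₁y₁`. -/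

/-- a left inverse of `B43` killing the all-ones vector -/
def P34 : Matrix (Fin 3) (Fin 4) (ZMod 3) := !![2,1,0,0; 2,2,0,2; 1,1,1,0]

/-- a basis of the sum-zero hyperplane -/
def B43 : Matrix (Fin 4) (Fin 3) (ZMod 3) := !![1,1,2; 2,1,2; 0,1,0; 0,0,2]

/-- the matrix of the form `x₀² + x₁x₂` over `ZMod 3` -/
def S3 : Matrix (Fin 3) (Fin 3) (ZMod 3) := !![1,0,0; 0,0,2; 0,2,0]

/-- explicit `3 × 3` determinant -/
def d3 (M : Matrix (Fin 3) (Fin 3) (ZMod 3)) : ZMod 3 :=
  M 0 0 * M 1 1 * M 2 2 - M 0 0 * M 1 2 * M 2 1 - M 0 1 * M 1 0 * M 2 2 + M 0 1 * M 1 2 * M 2 0 +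
    M 0 2 * M 1 0 * M 2 1 - M 0 2 * M 1 1 * M 2 0

theorem d3_eq_det (M : Matrix (Fin 3) (Fin 3) (ZMod 3)) : d3 M = M.det := by
  rw [Matrix.det_fin_three, d3]

/-- the permutation action on the hyperplane -/
def M0 (σ : Equiv.Perm (Fin 4)) : Matrix (Fin 3) (Fin 3) (ZMod 3) :=
  fun i j => ∑ k : Fin 4, P34 i (σ k) * B43 k j

/-- the permutation action twisted by the sign (so that the determinant is one) -/
def N (σ : Equiv.Perm (Fin 4)) : Matrix (Fin 3) (Fin 3) (ZMod 3) := d3 (M0 σ) • M0 σ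

theorem N_one : N 1 = 1 := by decide +kernel

theorem N_det : ∀ σ, d3 (N σ) = 1 := by decide +kernel

theorem N_iso : ∀ σ, (N σ).transpose * S3 * N σ = S3 := by decide +kernel

theorem N_inj : ∀ σ, N σ = 1 → σ = 1 := by decide +kernel

theorem N_mul : ∀ σ τ, N (σ * τ) = N σ * N τ := by decide +kernel

/-- `N` as a monoid hom -/
def Nhom : Equiv.Perm (Fin 4) →* Matrix (Fin 3) (Fin 3) (ZMod 3) where
  toFun := N
  map_one' := N_one
  map_mul' := N_mul

section field
variable {F : Type*} [Field F]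

/-- the representation over a field of characteristic 3 -/
noncomputable def NF [CharP F 3] : Equiv.Perm (Fin 4) →* Matrix (Fin 3) (Fin 3) F :=
  ((ZMod.castHom (dvd_refl 3) F).mapMatrix :
    Matrix (Fin 3) (Fin 3) (ZMod 3) →+* Matrix (Fin 3) (Fin 3) F).toMonoidHom.comp Nhom

theorem NF_apply [CharP F 3] (σ : Equiv.Perm (Fin 4)) :
    NF (F := F) σ = (N σ).map (ZMod.castHom (dvd_refl 3) F) := rfl

theorem three_eq_zero [CharP F 3] : (3 : F) = 0 := by
  have := CharP.cast_eq_zero F 3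
  exact_mod_cast this

theorem cast_two [CharP F 3] : ((2 : ZMod 3).cast : F) = 2 := by
  have h : (ZMod.castHom (dvd_refl 3) F) 2 = 2 := map_ofNat _ 2
  rwa [ZMod.castHom_apply] at h

theorem Q3_eq [CharP F 3] (w : Fin 3 → F) :
    Q3 w = w ⬝ᵥ ((S3.map (ZMod.castHom (dvd_refl 3) F)) *ᵥ w) := by
  have h3 := three_eq_zero (F := F)
  simp only [Q3, S3, Matrix.mulVec, dotProduct, Fin.sum_univ_three, Matrix.map_apply,
    Matrix.of_apply, Matrix.cons_val', Matrix.cons_val_zero, Matrix.cons_val_one,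
    Matrix.cons_val_two, Matrix.empty_val', Matrix.cons_val_fin_one, map_one, map_zero]
  simp [cast_two]
  linear_combination (-(w 1 * w 2)) * h3

theorem gram_key (M S : Matrix (Fin 3) (Fin 3) F) (w : Fin 3 → F) :
    (M *ᵥ w) ⬝ᵥ (S *ᵥ (M *ᵥ w)) = w ⬝ᵥ ((Mᵀ * S * M) *ᵥ w) := by
  rw [← Matrix.mulVec_mulVec, ← Matrix.mulVec_mulVec, Matrix.dotProduct_mulVec w Mᵀ,
    Matrix.vecMul_transpose]

theorem NF_iso [CharP F 3] (σ : Equiv.Perm (Fin 4)) (w : Fin 3 → F) :
    Q3 (NF (F := F) σ *ᵥ w) = Q3 w := by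
  have h := congrArg (fun M => M.map (ZMod.castHom (dvd_refl 3) F)) (N_iso σ)
  simp only [Matrix.map_mul, Matrix.transpose_map] at h
  rw [Q3_eq, Q3_eq, NF_apply, gram_key, h]

theorem NF_det [CharP F 3] (σ : Equiv.Perm (Fin 4)) : (NF (F := F) σ).det = 1 := by
  rw [NF_apply]
  have := RingHom.map_det (ZMod.castHom (dvd_refl 3) F) (N σ)
  rw [RingHom.mapMatrix_apply] at this
  rw [← this, ← d3_eq_det, N_det, map_one]

theorem NF_inj [CharP F 3] (σ : Equiv.Perm (Fin 4)) (h : NF (F := F) σ = 1) : σ = 1 := by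
  have : Fact (Nat.Prime 3) := ⟨Nat.prime_three⟩
  apply N_inj
  rw [NF_apply] at h
  have hinj : Function.Injective (ZMod.castHom (dvd_refl 3) F) := RingHom.injective _
  apply Matrix.map_injective hinj
  show (N σ).map _ = (1 : Matrix (Fin 3) (Fin 3) (ZMod 3)).map _
  rw [h, Matrix.map_one _ (map_zero _) (map_one _)]

/-- the representation in `GL` indexed by `Unit ⊕ (Fin 1 ⊕ Fin 1)` -/
noncomputable def Φ [CharP F 3] : Equiv.Perm (Fin 4) →* GL (OI 1) F :=
  (RI.glReindex (F := F) e3).toMonoidHom.comp (NF (F := F)).toHomUnits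

theorem Φ_coe [CharP F 3] (σ : Equiv.Perm (Fin 4)) :
    ((Φ (F := F) σ : GL (OI 1) F) : Matrix (OI 1) (OI 1) F) =
      Matrix.reindex e3 e3 (NF (F := F) σ) := rfl

theorem Φ_mem [CharP F 3] (σ : Equiv.Perm (Fin 4)) :
    Φ (F := F) σ ∈ Cfsg.isometryGroup F (Cfsg.quadFormOdd 1 F) := by
  rw [RI.mem_iso_iff']
  intro x
  rw [Φ_coe, RI.reindex_mulVec, quadFormOdd_comp, NF_iso, ← quadFormOdd_comp]
  congr 1
  funext i; simp

theorem Φ_det [CharP F 3] (σ : Equiv.Perm (Fin 4)) :
    ((Φ (F := F) σ : GL (OI 1) F) : Matrix (OI 1) (OI 1) F).det = 1 := by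
  rw [Φ_coe, Matrix.det_reindex_self, NF_det]

theorem Φ_inj [CharP F 3] : Function.Injective (Φ (F := F)) := by
  rw [injective_iff_map_eq_one]
  intro σ h
  apply NF_inj (F := F)
  have h1 := congrArg (fun g : GL (OI 1) F => (g : Matrix (OI 1) (OI 1) F)) h
  simp only [Φ_coe, Units.val_one] at h1
  have h2 := congrArg (Matrix.reindex e3.symm e3.symm) h1
  simpa using h2

/-! ### Determinants of isometries -/

theorem det_mul_self_of_preserves {κ : Type} [Fintype κ] [DecidableEq κ] {Q : (κ → F) → F}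
    {B : LinearMap.BilinForm F (κ → F)} (hQ : IsQP Q B) (M : Matrix κ κ F)
    (hM : ∀ x, Q (M *ᵥ x) = Q x) : M.det * M.det = 1 := by
  have hcomp : LinearMap.BilinForm.comp B (Matrix.toLin' M) (Matrix.toLin' M) = B := by
    apply LinearMap.ext
    intro x
    apply LinearMap.ext
    intro y
    rw [LinearMap.BilinForm.comp_apply, Matrix.toLin'_apply, Matrix.toLin'_apply]
    exact B_preserved hQ M hM x y
  have hMat := LinearMap.BilinForm.toMatrix'_comp B (Matrix.toLin' M) (Matrix.toLin' M)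
  rw [hcomp, LinearMap.toMatrix'_toLin'] at hMat
  have hdet := congrArg Matrix.det hMat
  rw [Matrix.det_mul, Matrix.det_mul, Matrix.det_transpose] at hdet
  have hnd : B.Nondegenerate := by
    constructor
    · intro x hx
      by_contra hne
      obtain ⟨y, hy⟩ := hQ.nondeg x hne
      exact hy (hx y)
    · intro y hy
      by_contra hne
      obtain ⟨z, hz⟩ := hQ.nondeg y hne
      apply hz
      have := hQ.symm z y
      rw [one_mul] at this
      rw [this]
      exact hy z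
  have hMdet : (LinearMap.BilinForm.toMatrix' B).det ≠ 0 := by
    have := (LinearMap.BilinForm.nondegenerate_toMatrix'_iff (B := B)).mpr hnd
    exact Matrix.nondegenerate_iff_det_ne_zero.mp this
  have : (M.det * M.det) * (LinearMap.BilinForm.toMatrix' B).det =
      1 * (LinearMap.BilinForm.toMatrix' B).det := by
    rw [one_mul]
    calc M.det * M.det * (LinearMap.BilinForm.toMatrix' B).det
        = M.det * (LinearMap.BilinForm.toMatrix' B).det * M.det := by ring
      _ = (LinearMap.BilinForm.toMatrix' B).det := hdet.symm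
  exact mul_right_cancel₀ hMdet this

end field

section final
variable {F : Type*} [Field F] [Fintype F]

theorem charP3 (hF : Fintype.card F = 3) : CharP F 3 := by
  haveI : Fact (Nat.Prime 3) := ⟨Nat.prime_three⟩
  exact charP_of_card_eq_prime hF

theorem two_ne_zero3 [CharP F 3] : (2 : F) ≠ 0 := by
  intro h
  have h' : ((2 : ℕ) : F) = 0 := by exact_mod_cast h
  have := (CharP.cast_eq_zero_iff F 3 2).mp h'
  omega

theorem mem_SO (g : ↥(Cfsg.isometryGroup F (Cfsg.quadFormOdd 1 F))) :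
    g ∈ Cfsg.specialIsometryGroup F (Cfsg.quadFormOdd 1 F) ↔
      ((g : GL (OI 1) F) : Matrix (OI 1) (OI 1) F).det = 1 := by
  unfold Cfsg.specialIsometryGroup
  rw [MonoidHom.mem_ker, MonoidHom.comp_apply, Units.ext_iff]
  rfl

theorem det_pm [CharP F 3] (g : ↥(Cfsg.isometryGroup F (Cfsg.quadFormOdd 1 F))) :
    ((g : GL (OI 1) F) : Matrix (OI 1) (OI 1) F).det = 1 ∨
      ((g : GL (OI 1) F) : Matrix (OI 1) (OI 1) F).det = -1 := by
  apply mul_self_eq_one_iff.mp
  exact det_mul_self_of_preserves (isQP_odd (two_ne_zero3 (F := F))) _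
    ((RI.mem_iso_iff' _ _).mp g.2)

/-- `-1` as an isometry -/
def negOne : ↥(Cfsg.isometryGroup F (Cfsg.quadFormOdd 1 F)) :=
  ⟨-1, by
    rw [RI.mem_iso_iff']
    intro x
    rw [Units.val_neg, Units.val_one, Matrix.neg_mulVec, Matrix.one_mulVec]
    simp [Cfsg.quadFormOdd]⟩

theorem negOne_det :
    (((negOne (F := F) : ↥(Cfsg.isometryGroup F (Cfsg.quadFormOdd 1 F))) : GL (OI 1) F) :
      Matrix (OI 1) (OI 1) F).det = -1 := by
  show ((-1 : GL (OI 1) F) : Matrix (OI 1) (OI 1) F).det = -1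
  rw [Units.val_neg, Units.val_one, Matrix.det_neg, Matrix.det_one, card_OI]
  norm_num

theorem index_SO [CharP F 3] :
    (Cfsg.specialIsometryGroup F (Cfsg.quadFormOdd 1 F)).index = 2 := by
  rw [Subgroup.index_eq_two_iff]
  refine ⟨negOne, fun b => ?_⟩
  have h2 := two_ne_zero3 (F := F)
  have hne : (-1 : F) ≠ 1 := by
    intro h
    apply h2
    linear_combination -h
  have hmul : (((b * negOne : ↥(Cfsg.isometryGroup F (Cfsg.quadFormOdd 1 F))) : GL (OI 1) F) :
      Matrix (OI 1) (OI 1) F).det = -((b : GL (OI 1) F) : Matrix (OI 1) (OI 1) F).det := by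
    rw [Subgroup.coe_mul, Units.val_mul, Matrix.det_mul, negOne_det]
    ring
  rw [mem_SO, mem_SO, hmul]
  rcases det_pm b with hb | hb
  · right
    refine ⟨hb, ?_⟩
    rw [hb]
    exact hne
  · left
    refine ⟨by rw [hb]; ring, ?_⟩
    rw [hb]
    exact hne

theorem card_SO (hF : Fintype.card F = 3) :
    Nat.card ↥(Cfsg.specialIsometryGroup F (Cfsg.quadFormOdd 1 F)) = 24 := by
  haveI := charP3 hF
  have h1 := Subgroup.card_mul_index (Cfsg.specialIsometryGroup F (Cfsg.quadFormOdd 1 F))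
  rw [index_SO, Cfsg.Agent.S0286.result hF (by decide : Odd 3) 1] at h1
  simp at h1
  omega

/-- the embedding of `S₄` into `SO₃(3)` -/
noncomputable def Ψ [CharP F 3] :
    Equiv.Perm (Fin 4) →* ↥(Cfsg.specialIsometryGroup F (Cfsg.quadFormOdd 1 F)) :=
  ((Φ (F := F)).codRestrict (Cfsg.isometryGroup F (Cfsg.quadFormOdd 1 F)) Φ_mem).codRestrict _
    (fun σ => (mem_SO _).mpr (Φ_det σ))

theorem Ψ_inj [CharP F 3] : Function.Injective (Ψ (F := F)) := by
  intro σ τ h
  apply Φ_inj (F := F)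
  have := congrArg (fun g : ↥(Cfsg.specialIsometryGroup F (Cfsg.quadFormOdd 1 F)) =>
    ((g : ↥(Cfsg.isometryGroup F (Cfsg.quadFormOdd 1 F))) : GL (OI 1) F)) h
  exact this

end final

/-- SO_3(3) ≅ S_4: the determinant-one isometries of the form x_0² + x_1y_1 over the field with 3 elements form a group isomorphic to the symmetric group on 4 letters. -/
theorem result {F : Type*} [Field F] [Fintype F] (hF : Fintype.card F = 3) : Nonempty (↥(Cfsg.specialIsometryGroup F (Cfsg.quadFormOdd 1 F)) ≃* Equiv.Perm (Fin 4)) := by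
  haveI := charP3 hF
  have hfin : Finite ↥(Cfsg.specialIsometryGroup F (Cfsg.quadFormOdd 1 F)) := inferInstance
  have hcard : Nat.card ↥(Cfsg.specialIsometryGroup F (Cfsg.quadFormOdd 1 F)) ≤
      Nat.card (Equiv.Perm (Fin 4)) := by
    rw [card_SO hF, Nat.card_eq_fintype_card, Fintype.card_perm, Fintype.card_fin]
    decide
  have hbij := (Ψ_inj (F := F)).bijective_of_nat_card_le hcard
  exact ⟨(MulEquiv.ofBijective (Ψ (F := F)) hbij).symm⟩

end Cfsg.Agent.S0823
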