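import Cfsg.Statements.S0824
import Cfsg.Agent.Lib.Lead.OrthMinus
import Cfsg.Agent.S0288
import Mathlib

set_option autoImplicit false
open Cfsg

namespace Cfsg.Agent.S0824

open Finset Matrix Cfsg.Agent.Lib.Lead Cfsg.Agent.Lib.Lead.OG Cfsg.Agent.Lib.Lead.Bin

section
variable {F : Type*} [Field F] [Fintype F]

theorem two_eq_zero (hF : Fintype.card F = 2) : (2 : F) = 0 := by
  have := Nat.cast_card_eq_zero F
  rw [hF] at this
  exact_mod_cast this

theorem zero_or_one (hF : Fintype.card F = 2) (x : F) : x = 0 ∨ x = 1 := by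
  classical
  have h : ({0, 1} : Finset F) = Finset.univ := by
    apply Finset.eq_univ_of_card
    rw [Finset.card_pair zero_ne_one, hF]
  have := Finset.mem_univ x
  rw [← h] at this
  simpa using this

theorem aniso (hF : Fintype.card F = 2) : Aniso (1 : F) 1 := by
  intro z₁ z₂ h
  have h2 := two_eq_zero hF
  rcases zero_or_one hF z₁ with rfl | rfl <;> rcases zero_or_one hF z₂ with rfl | rfl
  · exact ⟨rfl, rfl⟩
  · exfalso; simp at h
  · exfalso; simp at h
  · exfalso
    have : (1 : F) ^ 2 + 1 * 1 * 1 + 1 * 1 ^ 2 = 2 + 1 := by ring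
    rw [this, h2, zero_add] at h
    exact one_ne_zero h

/-- The form. -/
abbrev Q (F : Type*) [Field F] : (MI 1 → F) → F := Cfsg.quadFormMinus 1 F 1 1

/-- The set of nonzero singular vectors. -/
abbrev Sing (F : Type*) [Field F] : Type _ := {v : MI 1 → F // v ≠ 0 ∧ Q F v = 0}

noncomputable instance : Fintype (Sing F) := by
  classical
  exact Subtype.fintype _

theorem card_sing (hF : Fintype.card F = 2) : Fintype.card (Sing F) = 5 := by
  classical
  have hab := aniso hF
  have h1 := card_quadFormMinus (F := F) (k := 1) (a := 1) (b := 1) 0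
  rw [nβ_zero hab, hF] at h1
  norm_num at h1
  rw [Fintype.card_subtype]
  have : (univ.filter (fun v : MI 1 → F => v ≠ 0 ∧ Q F v = 0)) =
      (univ.filter (fun v : MI 1 → F => Cfsg.quadFormMinus 1 F 1 1 v = 0)).erase 0 := by
    ext v
    simp only [Finset.mem_filter, Finset.mem_univ, true_and, Finset.mem_erase]
  rw [this, Finset.card_erase_of_mem, h1]
  simp only [Finset.mem_filter, Finset.mem_univ, true_and]
  exact (isQP_minus hab).zero

end

section action
variable {F : Type*} [Field F] [Fintype F]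

/-- The isometry group. -/
abbrev G (F : Type*) [Field F] : Type _ := ↥(Cfsg.isometryGroup F (Cfsg.quadFormMinus 1 F 1 1))

omit [Fintype F] in
theorem g_pres (g : G F) (v : MI 1 → F) : Q F ((g.1 : Matrix (MI 1) (MI 1) F) *ᵥ v) = Q F v :=
  (mem_isometryGroup_iff g.1).mp g.2 v

noncomputable instance : MulAction (G F) (Sing F) where
  smul g v := ⟨(g.1 : Matrix (MI 1) (MI 1) F) *ᵥ v.1, by
    refine ⟨?_, by rw [g_pres]; exact v.2.2⟩
    intro h0
    apply v.2.1
    have : ((g.1⁻¹ : GL (MI 1) F) : Matrix (MI 1) (MI 1) F) *ᵥ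
        ((g.1 : Matrix (MI 1) (MI 1) F) *ᵥ v.1) = v.1 := by
      rw [Matrix.mulVec_mulVec, ← Units.val_mul, inv_mul_cancel, Units.val_one, Matrix.one_mulVec]
    rw [← this, h0, Matrix.mulVec_zero]⟩
  one_smul v := Subtype.ext (by
    show ((1 : G F).1 : Matrix (MI 1) (MI 1) F) *ᵥ v.1 = v.1
    simp)
  mul_smul g g' v := Subtype.ext (by
    show ((g * g').1 : Matrix (MI 1) (MI 1) F) *ᵥ v.1 =
      (g.1 : Matrix (MI 1) (MI 1) F) *ᵥ ((g'.1 : Matrix (MI 1) (MI 1) F) *ᵥ v.1)
    rw [Matrix.mulVec_mulVec]; rfl)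

theorem smul_val (g : G F) (v : Sing F) :
    (g • v).1 = (g.1 : Matrix (MI 1) (MI 1) F) *ᵥ v.1 := rfl

end action

section vectors
variable {F : Type*} [Field F]

/-- basis vectors -/
def bv (F : Type*) [Field F] (t : MI 1) : MI 1 → F := Pi.single t 1

theorem Q_e : Q F (bv F (.inl (.inl 0))) = 0 := quadM_single_inl _
theorem Q_h : Q F (bv F (.inl (.inr 0))) = 0 := quadM_single_inl _

theorem Q_s (h2 : (2 : F) = 0) (t : Fin 2) :
    Q F (bv F (.inl (.inl 0)) + bv F (.inl (.inr 0)) + bv F (.inr t)) = 0 := by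
  rw [Q, quadM_eq]
  fin_cases t
  · simp only [bv, Pi.add_apply, Pi.single_apply, Fin.sum_univ_one]
    simp
    linear_combination h2
  · simp only [bv, Pi.add_apply, Pi.single_apply, Fin.sum_univ_one]
    simp
    linear_combination h2

theorem bv_ne_zero (t : MI 1) : bv F t ≠ 0 := by
  intro h
  have := congrFun h t
  simp [bv] at this

theorem s_ne_zero (t : Fin 2) :
    bv F (.inl (.inl 0)) + bv F (.inl (.inr 0)) + bv F (.inr t) ≠ 0 := by
  intro h
  have := congrFun h (.inr t)
  simp [bv] at this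

end vectors

section main
variable {F : Type*} [Field F] [Fintype F]

theorem eq_one_of_fixes (h2 : (2 : F) = 0) (g : G F) (hg : ∀ v : Sing F, g • v = v) : g = 1 := by
  have hfix : ∀ (v : MI 1 → F) (hv : v ≠ 0 ∧ Q F v = 0),
      (g.1 : Matrix (MI 1) (MI 1) F) *ᵥ v = v := fun v hv => congrArg Subtype.val (hg ⟨v, hv⟩)
  have he := hfix _ ⟨bv_ne_zero _, Q_e⟩
  have hh := hfix _ ⟨bv_ne_zero _, Q_h⟩
  have hs : ∀ t : Fin 2, (g.1 : Matrix (MI 1) (MI 1) F) *ᵥ bv F (.inr t) = bv F (.inr t) := by
    intro t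
    have h1 := hfix _ ⟨s_ne_zero t, Q_s h2 t⟩
    rw [Matrix.mulVec_add, Matrix.mulVec_add, he, hh] at h1
    exact add_left_cancel h1
  have hall : ∀ t : MI 1, (g.1 : Matrix (MI 1) (MI 1) F) *ᵥ bv F t = bv F t := by
    intro t
    rcases t with (i | i) | t
    · have : i = 0 := Subsingleton.elim _ _
      rw [this]; exact he
    · have : i = 0 := Subsingleton.elim _ _
      rw [this]; exact hh
    · exact hs t
  apply Subtype.ext
  apply Units.ext
  show (g.1 : Matrix (MI 1) (MI 1) F) = 1
  ext i t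
  have := congrFun (hall t) i
  simp only [bv, Matrix.mulVec_single_one] at this
  rw [Matrix.one_apply]
  rw [Pi.single_apply] at this
  simpa [eq_comm] using this

end main

/-- O⁻_4(2) ≅ S_5: the isometry group of the form x y + z_1² + z_1 z_2 + z_2² over the field with 2 elements is isomorphic to the symmetric group on 5 letters. -/
theorem result {F : Type*} [Field F] [Fintype F] (hF : Fintype.card F = 2) : Nonempty (↥(Cfsg.isometryGroup F (Cfsg.quadFormMinus 1 F 1 1)) ≃* Equiv.Perm (Fin 5)) := by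
  classical
  have h2 := two_eq_zero hF
  have hcardG : Nat.card (G F) = 120 := by
    have h' : Nat.card (G F) = 2 * 2 ^ (2 * (2 - 1)) * (2 ^ 2 + 1) *
        ∏ i ∈ Finset.range (2 - 1), (2 ^ (2 * (i + 1)) - 1) :=
      Cfsg.Agent.S0288.result hF 2 (by norm_num) 1 1 (aniso hF)
    rw [h']
    norm_num [Finset.prod_range_one]
  let φ : G F →* Equiv.Perm (Sing F) := MulAction.toPermHom (G F) (Sing F)
  have hinj : Function.Injective φ := by
    rw [injective_iff_map_eq_one]
    intro g hg
    apply eq_one_of_fixes h2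
    intro v
    have := congrArg (fun σ : Equiv.Perm (Sing F) => σ v) hg
    simpa [φ] using this
  letI : Fintype (G F) := Fintype.ofFinite _
  have hbij : Function.Bijective φ := by
    rw [Fintype.bijective_iff_injective_and_card]
    refine ⟨hinj, ?_⟩
    rw [← Nat.card_eq_fintype_card, hcardG, Fintype.card_perm, card_sing hF]
    rfl
  let e : Sing F ≃ Fin 5 := Fintype.equivFinOfCardEq (card_sing hF)
  exact ⟨(MulEquiv.ofBijective φ hbij).trans e.permCongrHom⟩

end Cfsg.Agent.S0824
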