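import Cfsg.Statements.S0828
import Cfsg.Agent.Lib.Lead.SubspaceCount
import Cfsg.Agent.Lib.Lead.SympCount
import Cfsg.Agent.Lib.Lead.QuadCount
import Mathlib

set_option autoImplicit false
open Cfsg

namespace Cfsg.Agent.S0828

open Module Submodule Cfsg.Agent.Lib.Lead Cfsg.Agent.Lib.Lead.SC

section
variable {F : Type*} [Field F]

/-- The space. -/
abbrev V4 (F : Type*) : Type _ := Fin 2 ⊕ Fin 2 → F

/-- Totally isotropic subspaces. -/
def Iso (W : Submodule F (V4 F)) : Prop := ∀ u ∈ W, ∀ v ∈ W, Cfsg.sympForm 2 F u v = 0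

theorem symp_eq (u v : V4 F) : Cfsg.sympForm 2 F u v = sympB F 2 u v := (sympB_apply u v).symm

theorem iso_span_pair (u w : V4 F) : Iso (span F {u, w}) ↔ Cfsg.sympForm 2 F u w = 0 := by
  constructor
  · intro h
    exact h u (subset_span (by simp)) w (subset_span (by simp))
  · intro h
    have h' : sympB F 2 u w = 0 := by rw [← symp_eq]; exact h
    have h'' : sympB F 2 w u = 0 := by rw [sympB_antisymm, h', mul_zero]
    have := vanish_span (K := F) (fun x y : V4 F => sympB F 2 x y)
      (fun x y z => by simp) (fun x y z => by simp)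
      (fun c x y hxy => by simp only [map_smul, LinearMap.smul_apply, hxy, smul_zero])
      (fun c x y hxy => by simp only [map_smul, hxy, smul_zero])
      {u, w} (by
        intro x hx y hy
        simp only [Set.mem_insert_iff, Set.mem_singleton_iff] at hx hy
        rcases hx with rfl | rfl <;> rcases hy with rfl | rfl
        · exact sympB_self _
        · exact h'
        · exact h''
        · exact sympB_self _)
    intro x hx y hy
    rw [symp_eq]
    exact this x hx y hy

end

section count
variable {F : Type*} [Field F] [Fintype F]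

/-- The additive map `w ↦ B u w`. -/
noncomputable def Bhom (u : V4 F) : V4 F →+ F := (sympB F 2 u).toAddMonoidHom

theorem Bhom_surj (u : V4 F) (hu : u ≠ 0) : Function.Surjective (Bhom u) := by
  obtain ⟨y, hy⟩ := sympB_nondeg u hu
  intro c
  refine ⟨(c / sympB F 2 u y) • y, ?_⟩
  show sympB F 2 u ((c / sympB F 2 u y) • y) = c
  rw [map_smul, smul_eq_mul]
  field_simp

theorem card_perp [DecidableEq F] (u : V4 F) (hu : u ≠ 0) :
    (Finset.univ.filter (fun w : V4 F => sympB F 2 u w = 0)).card = Fintype.card F ^ 3 := by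
  have h := card_fiber_mul_card (Bhom u) (Bhom_surj u hu) 0
  rw [Fintype.card_fun, Fintype.card_sum, Fintype.card_fin] at h
  have hq : 0 < Fintype.card F := Fintype.card_pos
  have e : Fintype.card F ^ (2 + 2) = Fintype.card F ^ 3 * Fintype.card F := by ring
  rw [e] at h
  exact Nat.eq_of_mul_eq_mul_right hq h

/-- Partners of a nonzero vector. -/
theorem card_partner (u : V4 F) (hu : u ≠ 0) :
    Nat.card {w : V4 F // LinearIndependent F ![u, w] ∧ Iso (span F {u, w})} =
      Fintype.card F ^ 3 - Fintype.card F := by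
  classical
  rw [Nat.card_eq_fintype_card, Fintype.card_subtype]
  have : (Finset.univ.filter (fun w : V4 F => LinearIndependent F ![u, w] ∧ Iso (span F {u, w}))) =
      (Finset.univ.filter (fun w : V4 F => sympB F 2 u w = 0)) \
        (Finset.univ.image (fun a : F => a • u)) := by
    ext w
    simp only [Finset.mem_filter, Finset.mem_univ, true_and, Finset.mem_sdiff, Finset.mem_image,
      not_exists]
    rw [LinearIndependent.pair_iff' hu, iso_span_pair, symp_eq]
    tauto
  rw [this, Finset.card_sdiff_of_subset, card_perp u hu,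
    Finset.card_image_of_injective _ (smul_left_injective F hu), Finset.card_univ]
  intro w hw
  obtain ⟨a, -, rfl⟩ := Finset.mem_image.mp hw
  simp only [Finset.mem_filter, Finset.mem_univ, true_and]
  rw [map_smul, sympB_self, smul_zero]

/-- pairs as sigma -/
theorem card_pairs :
    Nat.card {s : Fin 2 → V4 F // LinearIndependent F s ∧ Iso (span F (Set.range s))} =
      (Fintype.card F ^ 4 - 1) * (Fintype.card F ^ 3 - Fintype.card F) := by
  classical
  have hrange : ∀ s : Fin 2 → V4 F, Set.range s = {s 0, s 1} := by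
    intro s
    ext x
    simp only [Set.mem_range, Set.mem_insert_iff, Set.mem_singleton_iff]
    constructor
    · rintro ⟨i, rfl⟩
      fin_cases i
      · left; rfl
      · right; rfl
    · rintro (rfl | rfl)
      · exact ⟨0, rfl⟩
      · exact ⟨1, rfl⟩
  have heta : ∀ s : Fin 2 → V4 F, ![s 0, s 1] = s := by
    intro s
    ext i
    fin_cases i <;> rfl
  let e : {s : Fin 2 → V4 F // LinearIndependent F s ∧ Iso (span F (Set.range s))} ≃
      Σ u : {u : V4 F // u ≠ 0}, {w : V4 F // LinearIndependent F ![u.1, w] ∧ Iso (span F {u.1, w})} :=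
    { toFun := fun s => ⟨⟨s.1 0, s.2.1.ne_zero 0⟩, ⟨s.1 1, by rw [heta]; exact s.2.1, by
        rw [← hrange]; exact s.2.2⟩⟩
      invFun := fun x => ⟨![x.1.1, x.2.1], x.2.2.1, by
        rw [hrange]; exact x.2.2.2⟩
      left_inv := fun s => Subtype.ext (heta s.1)
      right_inv := fun x => rfl }
  rw [Nat.card_congr e, Nat.card_sigma,
    Finset.sum_congr rfl (fun u _ => card_partner u.1 u.2), Finset.sum_const, Finset.card_univ,
    smul_eq_mul]
  congr 1
  rw [Fintype.card_subtype_compl, Fintype.card_fun, Fintype.card_sum, Fintype.card_fin]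
  simp

end count

/-- The symplectic generalised quadrangle over a field with q elements: the number of 2-dimensional subspaces of F^4 on which the symplectic form vanishes is (q + 1)(q² + 1), and every non-zero vector lies in exactly q + 1 of them. -/
theorem result {F : Type*} [Field F] [Fintype F] {q : ℕ} (hF : Fintype.card F = q) : Nat.card {W : Submodule F (Fin 2 ⊕ Fin 2 → F) // Module.finrank F W = 2 ∧ ∀ u ∈ W, ∀ v ∈ W, Cfsg.sympForm 2 F u v = 0} = (q + 1) * (q ^ 2 + 1) ∧ ∀ v : Fin 2 ⊕ Fin 2 → F, v ≠ 0 → Nat.card {W : Submodule F (Fin 2 ⊕ Fin 2 → F) // Module.finrank F W = 2 ∧ v ∈ W ∧ ∀ u ∈ W, ∀ w ∈ W, Cfsg.sympForm 2 F u w = 0} = q + 1 := by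
  classical
  have hq2 : 2 ≤ q := by rw [← hF]; exact Fintype.one_lt_card
  obtain ⟨r, rfl⟩ : ∃ r, q = r + 2 := ⟨q - 2, by omega⟩
  constructor
  · have h1 := card_li_span (K := F) (V := V4 F) 2 Iso
    rw [card_pairs, Fin.prod_univ_two, hF] at h1
    simp only [Fin.val_zero, Fin.val_one, pow_zero, pow_one] at h1
    have e1 : ((r + 2) ^ 4 - 1) * ((r + 2) ^ 3 - (r + 2)) =
        ((r + 2 + 1) * ((r + 2) ^ 2 + 1)) * (((r + 2) ^ 2 - 1) * ((r + 2) ^ 2 - (r + 2))) := by
      have a1 : (r + 2) ^ 4 - 1 = ((r + 2) ^ 2 + 1) * ((r + 2) ^ 2 - 1) := by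
        have : (r + 2) ^ 2 - 1 = r ^ 2 + 4 * r + 3 := by
          have : (r + 2) ^ 2 = r ^ 2 + 4 * r + 3 + 1 := by ring
          rw [this, Nat.add_sub_cancel]
        rw [this]
        have : (r + 2) ^ 4 = ((r + 2) ^ 2 + 1) * (r ^ 2 + 4 * r + 3) + 1 := by ring
        rw [this, Nat.add_sub_cancel]
      have a2 : (r + 2) ^ 3 - (r + 2) = (r + 2 + 1) * ((r + 2) ^ 2 - (r + 2)) := by
        have : (r + 2) ^ 2 - (r + 2) = r ^ 2 + 3 * r + 2 := by
          have : (r + 2) ^ 2 = r ^ 2 + 3 * r + 2 + (r + 2) := by ring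
          rw [this, Nat.add_sub_cancel]
        rw [this]
        have : (r + 2) ^ 3 = (r + 2 + 1) * (r ^ 2 + 3 * r + 2) + (r + 2) := by ring
        rw [this, Nat.add_sub_cancel]
      rw [a1, a2]; ring
    rw [e1] at h1
    have hpos : 0 < ((r + 2) ^ 2 - 1) * ((r + 2) ^ 2 - (r + 2)) := by
      apply Nat.mul_pos
      · have : 1 < (r + 2) ^ 2 := by nlinarith
        omega
      · have : (r + 2) < (r + 2) ^ 2 := by nlinarith
        omega
    exact (Nat.eq_of_mul_eq_mul_right hpos h1).symm
  · intro v hv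
    have h1 := card_li_span_through (K := F) (V := V4 F) Iso v hv
    rw [card_partner v hv, hF] at h1
    have a2 : (r + 2) ^ 3 - (r + 2) = (r + 2 + 1) * ((r + 2) ^ 2 - (r + 2)) := by
      have : (r + 2) ^ 2 - (r + 2) = r ^ 2 + 3 * r + 2 := by
        have : (r + 2) ^ 2 = r ^ 2 + 3 * r + 2 + (r + 2) := by ring
        rw [this, Nat.add_sub_cancel]
      rw [this]
      have : (r + 2) ^ 3 = (r + 2 + 1) * (r ^ 2 + 3 * r + 2) + (r + 2) := by ring
      rw [this, Nat.add_sub_cancel]
    rw [a2] at h1
    have hpos : 0 < (r + 2) ^ 2 - (r + 2) := by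
      have : (r + 2) < (r + 2) ^ 2 := by nlinarith
      omega
    exact (Nat.eq_of_mul_eq_mul_right hpos h1).symm

end Cfsg.Agent.S0828
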