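import Cfsg.Statements.S0830
import Cfsg.Agent.Lib.Lead.HermIso
import Mathlib

set_option autoImplicit false
open Cfsg

namespace Cfsg.Agent.S0830

open Cfsg.Agent.Lib.Lead Cfsg.Agent.Lib.Lead.HI

/-- The unitary quadrangle of PSU_5(q): with |F| = q², the number of 2-dimensional subspaces of F^5 on which the Hermitian form vanishes is (q³ + 1)(q⁵ + 1). -/
theorem result {F : Type*} [Field F] [Fintype F] {q : ℕ} (hF : Fintype.card F = q ^ 2) : Nat.card {W : Submodule F (Fin 5 → F) // Module.finrank F W = 2 ∧ ∀ u ∈ W, ∀ v ∈ W, Cfsg.hermForm 5 F q u v = 0} = (q ^ 3 + 1) * (q ^ 5 + 1) := by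
  have hq := two_le_q hF
  have hq0 : (q : ℤ) ≠ 0 := by exact_mod_cast (by omega : q ≠ 0)
  obtain ⟨hcl, -⟩ := hermAB_closed q hq 5
  have hA : ((hermAB q 5).1 : ℤ) = (q : ℤ) ^ 9 - (q : ℤ) ^ 5 + (q : ℤ) ^ 4 := by
    apply mul_left_cancel₀ hq0
    rw [hcl]; ring
  have h3 : q ^ 5 ≤ q ^ 7 + q ^ 4 := by
    have : q ^ 5 ≤ q ^ 7 := Nat.pow_le_pow_right (by omega) (by omega)
    omega
  have h1 : 1 ≤ q ^ 2 := Nat.one_le_pow _ _ (by omega)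
  have hZ : (q ^ 7 + q ^ 4 - q ^ 5) + (q ^ 2 - 1) * q ^ (2 * 5 - 3) = (hermAB q 5).1 := by
    zify [h3, h1]
    rw [hA]; ring
  have hmain := card_planes (F := F) hF (by norm_num : 2 ≤ 5) (q ^ 7 + q ^ 4 - q ^ 5) hZ
  have hN : Nat.card {W : Submodule F (Fin 5 → F) // Module.finrank F W = 2 ∧
      ∀ u ∈ W, ∀ v ∈ W, Cfsg.hermForm 5 F q u v = 0} =
      Nat.card {W : Submodule F (Fin 5 → F) // Module.finrank F W = 2 ∧ TIso q 5 W} := rfl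
  rw [hN]
  generalize Nat.card {W : Submodule F (Fin 5 → F) // Module.finrank F W = 2 ∧ TIso q 5 W} = N
    at hmain ⊢
  have h4 : 1 ≤ (q ^ 2) ^ 2 := Nat.one_le_pow _ _ (by omega)
  have h5 : q ^ 2 ≤ (q ^ 2) ^ 2 := by nlinarith
  have h6 : 1 ≤ (hermAB q 5).1 := by
    have : (1 : ℤ) ≤ ((hermAB q 5).1 : ℤ) := by
      rw [hA]
      have : (q : ℤ) ^ 5 ≤ (q : ℤ) ^ 9 := by
        exact_mod_cast Nat.pow_le_pow_right (by omega : 0 < q) (by omega : 5 ≤ 9)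
      have : (1 : ℤ) ≤ (q : ℤ) ^ 4 := by exact_mod_cast Nat.one_le_pow _ _ (by omega)
      linarith
    exact_mod_cast this
  have h7 : q ^ 2 ≤ q ^ 7 + q ^ 4 - q ^ 5 := by
    have a1 : q ^ 5 ≤ q ^ 7 := Nat.pow_le_pow_right (by omega) (by omega)
    have a2 : q ^ 2 ≤ q ^ 4 := Nat.pow_le_pow_right (by omega) (by omega)
    omega
  have hmainZ : (N : ℤ) * ((((q : ℤ) ^ 2) ^ 2 - 1) * (((q : ℤ) ^ 2) ^ 2 - (q : ℤ) ^ 2)) =
      (((hermAB q 5).1 : ℤ) - 1) * (((q : ℤ) ^ 7 + (q : ℤ) ^ 4 - (q : ℤ) ^ 5) - (q : ℤ) ^ 2) := by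
    have := congrArg (fun n : ℕ => (n : ℤ)) hmain
    push_cast [Nat.cast_sub h4, Nat.cast_sub h5, Nat.cast_sub h6, Nat.cast_sub h7,
      Nat.cast_sub h3] at this
    exact this
  rw [hA] at hmainZ
  have hD : ((((q : ℤ) ^ 2) ^ 2 - 1) * (((q : ℤ) ^ 2) ^ 2 - (q : ℤ) ^ 2)) ≠ 0 := by
    have hq2 : (2 : ℤ) ≤ q := by exact_mod_cast hq
    apply mul_ne_zero
    · have : (1 : ℤ) < ((q : ℤ) ^ 2) ^ 2 := by nlinarith [sq_nonneg ((q : ℤ) ^ 2)]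
      linarith
    · have : (q : ℤ) ^ 2 < ((q : ℤ) ^ 2) ^ 2 := by nlinarith [sq_nonneg ((q : ℤ) ^ 2)]
      linarith
  have key : (N : ℤ) * ((((q : ℤ) ^ 2) ^ 2 - 1) * (((q : ℤ) ^ 2) ^ 2 - (q : ℤ) ^ 2)) =
      (((q : ℤ) ^ 3 + 1) * ((q : ℤ) ^ 5 + 1)) *
        ((((q : ℤ) ^ 2) ^ 2 - 1) * (((q : ℤ) ^ 2) ^ 2 - (q : ℤ) ^ 2)) := by
    rw [hmainZ]; ring
  have := mul_right_cancel₀ hD key
  exact_mod_cast this

end Cfsg.Agent.S0830
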