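import Cfsg.Statements.S0833
import Cfsg.Agent.S0752
import Cfsg.Agent.Lib.Lead.SubspaceCount
import Mathlib

set_option autoImplicit false
open Cfsg

namespace Cfsg.Agent.S0833

open TensorProduct Module

section
variable {F U W : Type*} [Field F] [AddCommGroup U] [Module F U] [AddCommGroup W] [Module F W]

theorem tmul_apply (B₁ : LinearMap.BilinForm F U) (B₂ : LinearMap.BilinForm F W) (u u' : U)
    (w w' : W) : (B₁.tmul B₂) (u ⊗ₜ w) (u' ⊗ₜ w') = B₂ w w' * B₁ u u' := rfl

attribute [local ext] TensorProduct.ext in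
theorem symm_of_alt (B₁ : LinearMap.BilinForm F U) (B₂ : LinearMap.BilinForm F W)
    (hA₁ : B₁.IsAlt) (hA₂ : B₂.IsAlt) : (B₁.tmul B₂).IsSymm := by
  rw [LinearMap.isSymm_iff_eq_flip]
  ext x₁ x₂ y₁ y₂
  show (B₁.tmul B₂) (x₁ ⊗ₜ x₂) (y₁ ⊗ₜ y₂) = (B₁.tmul B₂) (y₁ ⊗ₜ y₂) (x₁ ⊗ₜ x₂)
  rw [tmul_apply, tmul_apply, ← hA₁.neg_eq x₁ y₁, ← hA₂.neg_eq x₂ y₂]
  ring

theorem nondeg_tmul [FiniteDimensional F U] [FiniteDimensional F W]
    (B₁ : LinearMap.BilinForm F U) (B₂ : LinearMap.BilinForm F W)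
    (h₁ : B₁.Nondegenerate) (h₂ : B₂.Nondegenerate) :
    (B₁.tmul B₂).Nondegenerate := by
  classical
  let bU := Module.finBasis F U
  let bW := Module.finBasis F W
  let bt := bU.tensorProduct bW
  have hd₁ := (LinearMap.BilinForm.nondegenerate_iff_det_ne_zero bU).mp h₁
  have hd₂ := (LinearMap.BilinForm.nondegenerate_iff_det_ne_zero bW).mp h₂
  show LinearMap.BilinForm.Nondegenerate (B₁.tmul B₂ : LinearMap.BilinForm F (U ⊗[F] W))
  rw [LinearMap.BilinForm.nondegenerate_iff_det_ne_zero bt]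
  have hk : LinearMap.BilinForm.toMatrix bt (B₁.tmul B₂ : LinearMap.BilinForm F (U ⊗[F] W)) =
      Matrix.kroneckerMap (· * ·) (LinearMap.BilinForm.toMatrix bU B₁)
        (LinearMap.BilinForm.toMatrix bW B₂) := by
    ext ⟨i, j⟩ ⟨i', j'⟩
    rw [LinearMap.BilinForm.toMatrix_apply, Matrix.kroneckerMap_apply,
      LinearMap.BilinForm.toMatrix_apply, LinearMap.BilinForm.toMatrix_apply]
    simp only [bt, Module.Basis.tensorProduct_apply]
    rw [tmul_apply, mul_comm]
  rw [hk, Matrix.det_kronecker]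
  exact mul_ne_zero (pow_ne_zero _ hd₁) (pow_ne_zero _ hd₂)

end

/-- If B₁, B₂ are non-degenerate alternating forms on U (dim 2k) and W (dim 2l), then B₁ ⊗ B₂ on U ⊗ W is symmetric, non-degenerate, and vanishes identically on some subspace of dimension 2kl (half of dim U ⊗ W). -/
theorem result {F U W : Type*} [Field F] [Fintype F] [AddCommGroup U] [Module F U] [FiniteDimensional F U] [AddCommGroup W] [Module F W] [FiniteDimensional F W] (B₁ : LinearMap.BilinForm F U) (B₂ : LinearMap.BilinForm F W) (h₁ : B₁.Nondegenerate) (h₂ : B₂.Nondegenerate) (hA₁ : B₁.IsAlt) (hA₂ : B₂.IsAlt) (k l : ℕ) (hU : Module.finrank F U = 2 * k) (hW : Module.finrank F W = 2 * l) : (B₁.tmul B₂).IsSymm ∧ (B₁.tmul B₂).Nondegenerate ∧ (∃ X : Submodule F (TensorProduct F U W), Module.finrank F X = 2 * k * l ∧ ∀ x ∈ X, ∀ y ∈ X, (B₁.tmul B₂) x y = 0) := by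
  classical
  refine ⟨symm_of_alt B₁ B₂ hA₁ hA₂, nondeg_tmul B₁ B₂ h₁ h₂, ?_⟩
  obtain ⟨m, r, b, hef, hee, hff, hrad⟩ := Cfsg.Agent.S0752.result B₁ hA₁
  -- the radical part is empty
  have hr : r = 0 := by
    by_contra hr
    have j : Fin r := ⟨0, Nat.pos_of_ne_zero hr⟩
    have h0 : b (Sum.inr j) = 0 := h₁.1 _ (fun v => hrad j v)
    exact b.ne_zero _ h0
  subst hr
  have hm : m = k := by
    have := Module.finrank_eq_card_basis b
    rw [hU, Fintype.card_sum, Fintype.card_sum, Fintype.card_fin, Fintype.card_fin] at this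
    omega
  subst hm
  let c := Module.finBasis F W
  let bt := b.tensorProduct c
  let f : Fin m × Fin (Module.finrank F W) → ((Fin m ⊕ Fin m) ⊕ Fin 0) × Fin (Module.finrank F W) :=
    fun p => (Sum.inl (Sum.inl p.1), p.2)
  have hf : Function.Injective f := by
    intro p p' h
    simp only [f, Prod.mk.injEq, Sum.inl.injEq] at h
    exact Prod.ext h.1 h.2
  have hli : LinearIndependent F (bt ∘ f) := bt.linearIndependent.comp f hf
  refine ⟨Submodule.span F (Set.range (bt ∘ f)), ?_, ?_⟩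
  · rw [finrank_span_eq_card hli, Fintype.card_prod, Fintype.card_fin, Fintype.card_fin, hW]
    ring
  · apply Cfsg.Agent.Lib.Lead.SC.vanish_span (K := F)
      (fun x y : U ⊗[F] W => (B₁.tmul B₂) x y)
    · intro x y z; simp
    · intro x y z; simp
    · intro a x y hxy; simp only [map_smul, LinearMap.smul_apply, hxy, smul_zero]
    · intro a x y hxy; simp only [map_smul, hxy, smul_zero]
    · rintro _ ⟨p, rfl⟩ _ ⟨p', rfl⟩
      simp only [Function.comp, f, bt, Module.Basis.tensorProduct_apply]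
      rw [tmul_apply, hee, mul_zero]

end Cfsg.Agent.S0833
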