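import Mathlib
import Cfsg.Statements.S0836

set_option autoImplicit false
open Cfsg

namespace Cfsg.Agent.S0836

open scoped commutatorElement

theorem comm_eq_iff {G : Type*} [Group G] (g h t : G) : ⁅g, h⁆ = t ↔ g * h = t * h * g := by
  rw [commutatorElement_def]
  constructor
  · intro H
    rw [← H]; group
  · intro H
    rw [H]; group

theorem case_three {F : Type*} [Field F] {n : ℕ} (i j k : Fin n) (hij : i ≠ j) (hik : i ≠ k)
    (hkj : k ≠ j) (c : F) :
    (1 + Matrix.single i k c : Matrix (Fin n) (Fin n) F) * (1 + Matrix.single k j 1) =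
      (1 + Matrix.single i j c) * (1 + Matrix.single k j 1) * (1 + Matrix.single i k c) := by
  simp only [mul_add, add_mul, mul_one, one_mul, Matrix.single_mul_single_same,
    Matrix.single_mul_single_of_ne _ _ _ _ hkj.symm, Matrix.single_mul_single_of_ne _ _ _ _ hij.symm,
    add_zero, zero_mul, mul_zero]
  abel

theorem case_two {F : Type*} [Field F] {n : ℕ} (i j : Fin n) (hij : i ≠ j) (x b c : F)
    (hb : x * b = (c + b) * x⁻¹) :
    (Matrix.diagonal (fun k ↦ if k = i then x else if k = j then x⁻¹ else 1) : Matrix (Fin n) (Fin n) F) *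
        Matrix.transvection i j b =
      Matrix.transvection i j c * Matrix.transvection i j b *
        Matrix.diagonal (fun k ↦ if k = i then x else if k = j then x⁻¹ else 1) := by
  rw [Matrix.transvection_mul_transvection_same i j hij]
  ext a a'
  rw [Matrix.diagonal_mul, Matrix.mul_diagonal]
  simp only [Matrix.transvection, Matrix.add_apply, Matrix.one_apply, Matrix.single_apply]
  by_cases h1 : a = a'
  · subst h1
    have : ¬ (i = a ∧ j = a) := fun h => hij (h.1.trans h.2.symm)
    simp [this, mul_comm]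
  · by_cases h2 : i = a ∧ j = a'
    · obtain ⟨rfl, rfl⟩ := h2
      simp [h1, hij.symm, hb]
    · simp [h1, h2]

theorem result {F : Type*} [Field F] (n : ℕ) (hn : 3 ≤ n ∨ (n = 2 ∧ ∃ x : F, x ≠ 0 ∧ x ^ 2 ≠ 1)) (i j : Fin n) (hij : i ≠ j) (c : F) (t : Matrix.SpecialLinearGroup (Fin n) F) (ht : (t : Matrix (Fin n) (Fin n) F) = Matrix.transvection i j c) : t ∈ commutatorSet (Matrix.SpecialLinearGroup (Fin n) F) := by
  rcases hn with hn | ⟨_, x, hx0, hx1⟩
  · obtain ⟨k, hki, hkj⟩ : ∃ k : Fin n, k ≠ i ∧ k ≠ j := by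
      by_contra hcon
      push Not at hcon
      have hsub : (Finset.univ : Finset (Fin n)) ⊆ {i, j} := by
        intro k _
        by_cases hk : k = i
        · simp [hk]
        · simp [hcon k hk]
      have := Finset.card_le_card hsub
      have h2 : ({i, j} : Finset (Fin n)).card ≤ 2 := Finset.card_le_two
      simp at this
      omega
    refine ⟨Matrix.SpecialLinearGroup.transvection (Ne.symm hki) c,
      Matrix.SpecialLinearGroup.transvection hkj 1, ?_⟩
    rw [comm_eq_iff]
    apply Subtype.ext
    rw [Matrix.SpecialLinearGroup.coe_mul, Matrix.SpecialLinearGroup.coe_mul,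
      Matrix.SpecialLinearGroup.coe_mul, ht]
    exact case_three i j k hij (Ne.symm hki) hkj c
  · have hx2 : x ^ 2 - 1 ≠ 0 := sub_ne_zero.mpr hx1
    refine ⟨Matrix.SpecialLinearGroup.diag2n hij x hx0,
      Matrix.SpecialLinearGroup.transvection hij (c / (x ^ 2 - 1)), ?_⟩
    rw [comm_eq_iff]
    apply Subtype.ext
    rw [Matrix.SpecialLinearGroup.coe_mul, Matrix.SpecialLinearGroup.coe_mul,
      Matrix.SpecialLinearGroup.coe_mul, ht, Matrix.SpecialLinearGroup.diag2n_coe]
    apply case_two i j hij x _ c
    field_simp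
    ring

end Cfsg.Agent.S0836
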