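import Cfsg.Statements.S0837
import Mathlib
import Cfsg.Statements.S0837
import Cfsg.Agent.Lib.helper6.HermGram

set_option autoImplicit false
open Cfsg

namespace Cfsg.Agent.S0837

open Cfsg Cfsg.Agent.Lib.Lead Cfsg.Agent.Lib.Lead.HI Cfsg.Agent.Lib.helper6.HF Matrix

section blk
variable {F : Type*} [Field F] {k d : ℕ}

/-- block diagonal matrix -/
def blk (A : Matrix (Fin k) (Fin k) F) (B : Matrix (Fin d) (Fin d) F) :
    Matrix (Fin (k + d)) (Fin (k + d)) F :=
  Matrix.reindex finSumFinEquiv finSumFinEquiv (Matrix.fromBlocks A 0 0 B)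

theorem blk_mul (A A' : Matrix (Fin k) (Fin k) F) (B B' : Matrix (Fin d) (Fin d) F) :
    blk A B * blk A' B' = blk (A * A') (B * B') := by
  simp only [blk, Matrix.reindex_apply, Matrix.submatrix_mul_equiv, Matrix.fromBlocks_multiply,
    Matrix.mul_zero, Matrix.zero_mul, add_zero, zero_add]

theorem blk_one : blk (1 : Matrix (Fin k) (Fin k) F) (1 : Matrix (Fin d) (Fin d) F) = 1 := by
  simp only [blk, Matrix.reindex_apply, Matrix.fromBlocks_one, Matrix.submatrix_one_equiv]

theorem blk_transpose (A : Matrix (Fin k) (Fin k) F) (B : Matrix (Fin d) (Fin d) F) :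
    (blk A B)ᵀ = blk Aᵀ Bᵀ := by
  simp only [blk, Matrix.reindex_apply, Matrix.transpose_submatrix, Matrix.fromBlocks_transpose,
    Matrix.transpose_zero]

theorem blk_map (σ : F →+* F) (A : Matrix (Fin k) (Fin k) F) (B : Matrix (Fin d) (Fin d) F) :
    (blk A B).map σ = blk (A.map σ) (B.map σ) := by
  ext a c
  simp only [blk, Matrix.reindex_apply, Matrix.map_apply, Matrix.submatrix_apply]
  rcases finSumFinEquiv.symm a with i | j <;> rcases finSumFinEquiv.symm c with i' | j' <;> simp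

theorem blk_cc (A : Matrix (Fin k) (Fin k) F) (B : Matrix (Fin d) (Fin d) F) (i i' : Fin k) :
    blk A B (Fin.castAdd d i) (Fin.castAdd d i') = A i i' := by
  simp [blk]

theorem blk_cn (A : Matrix (Fin k) (Fin k) F) (B : Matrix (Fin d) (Fin d) F) (i : Fin k)
    (j : Fin d) : blk A B (Fin.castAdd d i) (Fin.natAdd k j) = 0 := by
  simp [blk]

theorem blk_nc (A : Matrix (Fin k) (Fin k) F) (B : Matrix (Fin d) (Fin d) F) (i : Fin k)
    (j : Fin d) : blk A B (Fin.natAdd k j) (Fin.castAdd d i) = 0 := by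
  simp [blk]

theorem blk_nn (A : Matrix (Fin k) (Fin k) F) (B : Matrix (Fin d) (Fin d) F) (j j' : Fin d) :
    blk A B (Fin.natAdd k j) (Fin.natAdd k j') = B j j' := by
  simp [blk]

theorem blk_inj (A A' : Matrix (Fin k) (Fin k) F) (B B' : Matrix (Fin d) (Fin d) F)
    (h : blk A B = blk A' B') : A = A' ∧ B = B' := by
  constructor
  · ext i i'
    rw [← blk_cc A B, h, blk_cc]
  · ext j j'
    rw [← blk_nn A B, h, blk_nn]

/-- a matrix with vanishing off-diagonal blocks is block diagonal -/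
theorem eq_blk (M : Matrix (Fin (k + d)) (Fin (k + d)) F)
    (h1 : ∀ i j, M (Fin.castAdd d i) (Fin.natAdd k j) = 0)
    (h2 : ∀ i j, M (Fin.natAdd k j) (Fin.castAdd d i) = 0) :
    M = blk (Matrix.of (fun i i' => M (Fin.castAdd d i) (Fin.castAdd d i')))
      (Matrix.of (fun j j' => M (Fin.natAdd k j) (Fin.natAdd k j'))) := by
  ext a c
  refine Fin.addCases (fun i => ?_) (fun j => ?_) a <;>
    refine Fin.addCases (fun i' => ?_) (fun j' => ?_) c
  · rw [blk_cc]; rfl
  · rw [blk_cn, h1]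
  · rw [blk_nc, h2]
  · rw [blk_nn]; rfl

end blk

section std
variable {F : Type*} [Field F] {q k d : ℕ}

/-- standard vectors -/
def sv (F : Type*) [Field F] (k d : ℕ) (i : Fin k) : Fin (k + d) → F :=
  Pi.single (Fin.castAdd d i) 1

theorem sv_cast (i i' : Fin k) : sv F k d i (Fin.castAdd d i') = if i' = i then 1 else 0 := by
  unfold sv
  rw [Pi.single_apply]
  simp only [Fin.castAdd_inj]

theorem sv_nat (i : Fin k) (j : Fin d) : sv F k d i (Fin.natAdd k j) = 0 := by
  unfold sv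
  rw [Pi.single_apply, if_neg]
  intro h
  have := congrArg Fin.val h
  simp at this
  omega

theorem mem_W0 (v : Fin (k + d) → F) :
    v ∈ Submodule.span F (Set.range (sv F k d)) ↔ ∀ j : Fin d, v (Fin.natAdd k j) = 0 := by
  constructor
  · intro hv j
    induction hv using Submodule.span_induction with
    | mem x hx =>
      obtain ⟨i, rfl⟩ := hx
      exact sv_nat i j
    | zero => rfl
    | add a b _ _ ha hb => rw [Pi.add_apply, ha, hb, add_zero]
    | smul c a _ ha => rw [Pi.smul_apply, ha, smul_zero]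
  · intro hv
    have : v = ∑ i, v (Fin.castAdd d i) • sv F k d i := by
      funext a
      rw [Finset.sum_apply]
      refine Fin.addCases (fun i' => ?_) (fun j => ?_) a
      · simp only [Pi.smul_apply, sv_cast, smul_eq_mul, mul_ite, mul_one, mul_zero]
        rw [Finset.sum_ite_eq]
        simp
      · simp only [Pi.smul_apply, sv_nat, smul_zero, Finset.sum_const_zero]
        exact hv j
    rw [this]
    exact Submodule.sum_mem _ (fun i _ => Submodule.smul_mem _ _ (Submodule.subset_span ⟨i, rfl⟩))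

theorem sv_li : LinearIndependent F (sv F k d) := by
  have := (Pi.basisFun F (Fin (k + d))).linearIndependent.comp (Fin.castAdd d)
    (Fin.castAdd_injective k d)
  convert this using 1
  funext i
  simp [sv, Function.comp]

theorem sv_orth (σ : F →+* F) (hσ : ∀ x, σ x = x ^ q) (i j : Fin k) :
    Cfsg.hermForm (k + d) F q (sv F k d i) (sv F k d j) = if i = j then 1 else 0 := by
  have : sv F k d j = Pi.single (Fin.castAdd d j) 1 := rfl
  rw [this, herm_single_right σ hσ, sv_cast]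
  simp only [eq_comm]

theorem blk_maps_W0 (A : Matrix (Fin k) (Fin k) F) (B : Matrix (Fin d) (Fin d) F)
    (v : Fin (k + d) → F) (hv : v ∈ Submodule.span F (Set.range (sv F k d))) :
    blk A B *ᵥ v ∈ Submodule.span F (Set.range (sv F k d)) := by
  rw [mem_W0] at hv ⊢
  intro j
  simp only [Matrix.mulVec, dotProduct]
  rw [Fin.sum_univ_add]
  simp only [blk_nc, blk_nn, hv, zero_mul, mul_zero, Finset.sum_const_zero, add_zero]

end std

section unitary
variable {F : Type*} [Field F] [Fintype F] {q k d : ℕ}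

/-- a matrix mapping `W` into `W` stabilises `W` -/
theorem stab_of_maps {n : ℕ} (W : Submodule F (Fin n → F)) (g : Matrix.GeneralLinearGroup (Fin n) F)
    (h : ∀ v ∈ W, (g : Matrix (Fin n) (Fin n) F) *ᵥ v ∈ W) :
    ∀ v, v ∈ W ↔ (g : Matrix (Fin n) (Fin n) F) *ᵥ v ∈ W := by
  intro v
  refine ⟨h v, fun hv => ?_⟩
  let φ : W → W := fun x => ⟨(g : Matrix (Fin n) (Fin n) F) *ᵥ x.1, h x.1 x.2⟩
  have hinj : Function.Injective φ := by
    intro x y hxy
    apply Subtype.ext
    exact gl_mulVec_injective g (congrArg Subtype.val hxy)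
  obtain ⟨x, hx⟩ := (Finite.injective_iff_surjective.mp hinj) ⟨_, hv⟩
  have : (g : Matrix (Fin n) (Fin n) F) *ᵥ x.1 = (g : Matrix (Fin n) (Fin n) F) *ᵥ v :=
    congrArg Subtype.val hx
  rw [← gl_mulVec_injective g this]
  exact x.2

omit [Fintype F] in
theorem blk_unitary (σ : F →+* F) (A : Matrix (Fin k) (Fin k) F) (B : Matrix (Fin d) (Fin d) F)
    (hA : Aᵀ * A.map σ = 1) (hB : Bᵀ * B.map σ = 1) :
    (blk A B)ᵀ * (blk A B).map σ = 1 := by
  rw [blk_transpose, blk_map, blk_mul, hA, hB, blk_one]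

/-- block diagonal element of the general linear group -/
noncomputable def blkGL (A : Matrix.GeneralLinearGroup (Fin k) F)
    (B : Matrix.GeneralLinearGroup (Fin d) F) : Matrix.GeneralLinearGroup (Fin (k + d)) F :=
  ⟨blk (A : Matrix (Fin k) (Fin k) F) (B : Matrix (Fin d) (Fin d) F),
    blk ((A⁻¹ : Matrix.GeneralLinearGroup (Fin k) F) : Matrix (Fin k) (Fin k) F)
      ((B⁻¹ : Matrix.GeneralLinearGroup (Fin d) F) : Matrix (Fin d) (Fin d) F), by
    rw [blk_mul, ← Units.val_mul, ← Units.val_mul, mul_inv_cancel, mul_inv_cancel]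
    exact blk_one, by
    rw [blk_mul, ← Units.val_mul, ← Units.val_mul, inv_mul_cancel, inv_mul_cancel]
    exact blk_one⟩

omit [Fintype F] in
theorem blkGL_mul (A A' : Matrix.GeneralLinearGroup (Fin k) F)
    (B B' : Matrix.GeneralLinearGroup (Fin d) F) :
    blkGL (A * A') (B * B') = blkGL A B * blkGL A' B' := by
  apply Units.ext
  show blk _ _ = blk _ _ * blk _ _
  rw [blk_mul, Units.val_mul, Units.val_mul]

theorem blkGL_mem (hF : Fintype.card F = q ^ 2) (A : Matrix.GeneralLinearGroup (Fin k) F)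
    (B : Matrix.GeneralLinearGroup (Fin d) F) (hA : A ∈ Cfsg.GU k F q) (hB : B ∈ Cfsg.GU d F q) :
    blkGL A B ∈ Cfsg.GU (k + d) F q := by
  obtain ⟨σ, hσ⟩ := exists_frob hF
  exact (preserves_iff σ hσ _).mpr (blk_unitary σ _ _ ((preserves_iff σ hσ _).mp hA)
    ((preserves_iff σ hσ _).mp hB))

/-- the block diagonal embedding -/
noncomputable def beta (hF : Fintype.card F = q ^ 2) :
    ↥(Cfsg.GU k F q) × ↥(Cfsg.GU d F q) →* ↥(Cfsg.GU (k + d) F q) :=
  MonoidHom.mk' (fun x => ⟨blkGL x.1.1 x.2.1, blkGL_mem hF _ _ x.1.2 x.2.2⟩)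
    (fun a b => Subtype.ext (blkGL_mul _ _ _ _))

theorem beta_inj (hF : Fintype.card F = q ^ 2) :
    Function.Injective (beta (k := k) (d := d) hF) := by
  intro a b hab
  have h1 : blk ((a.1.1 : Matrix.GeneralLinearGroup (Fin k) F) : Matrix (Fin k) (Fin k) F)
      ((a.2.1 : Matrix.GeneralLinearGroup (Fin d) F) : Matrix (Fin d) (Fin d) F) =
      blk ((b.1.1 : Matrix.GeneralLinearGroup (Fin k) F) : Matrix (Fin k) (Fin k) F)
      ((b.2.1 : Matrix.GeneralLinearGroup (Fin d) F) : Matrix (Fin d) (Fin d) F) :=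
    congrArg (fun x : ↥(Cfsg.GU (k + d) F q) =>
      ((x : Matrix.GeneralLinearGroup (Fin (k + d)) F) : Matrix (Fin (k + d)) (Fin (k + d)) F)) hab
  obtain ⟨h2, h3⟩ := blk_inj _ _ _ _ h1
  exact Prod.ext (Subtype.ext (Units.ext h2)) (Subtype.ext (Units.ext h3))

/-- a unitary matrix from the matrix identity -/
theorem gu_of_eq {m : ℕ} (σ : F →+* F) (hσ : ∀ x, σ x = x ^ q) (A : Matrix (Fin m) (Fin m) F)
    (hA : Aᵀ * A.map σ = 1) :
    ∃ g : Matrix.GeneralLinearGroup (Fin m) F, g ∈ Cfsg.GU m F q ∧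
      (g : Matrix (Fin m) (Fin m) F) = A := by
  have hA' : A.map σ * Aᵀ = 1 := mul_eq_one_comm.mp hA
  refine ⟨⟨A, (A.map σ)ᵀ, ?_, ?_⟩, (preserves_iff σ hσ A).mpr hA, rfl⟩
  · have := congrArg Matrix.transpose hA'
    rwa [Matrix.transpose_mul, Matrix.transpose_transpose, Matrix.transpose_one] at this
  · have := congrArg Matrix.transpose hA
    rwa [Matrix.transpose_mul, Matrix.transpose_transpose, Matrix.transpose_one] at this

end unitary

section final
variable {F : Type*} [Field F] [Fintype F] {q : ℕ}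

theorem exists_orthonormal' (hF : Fintype.card F = q ^ 2) {n k : ℕ} (W : Submodule F (Fin n → F))
    (hWk : Module.finrank F W = k)
    (hW : ∀ u ∈ W, (∀ v ∈ W, Cfsg.hermForm n F q u v = 0) → u = 0) :
    ∃ b : Fin k → (Fin n → F), LinearIndependent F b ∧
      Submodule.span F (Set.range b) = W ∧
      ∀ i j, Cfsg.hermForm n F q (b i) (b j) = if i = j then 1 else 0 := by
  subst hWk
  exact exists_orthonormal hF W hW

theorem main_kd (hF : Fintype.card F = q ^ 2) (k d : ℕ) (W : Submodule F (Fin (k + d) → F))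
    (hWk : Module.finrank F W = k)
    (hW : ∀ u ∈ W, (∀ v ∈ W, Cfsg.hermForm (k + d) F q u v = 0) → u = 0) :
    Nonempty (↥((Cfsg.stabilizing (Cfsg.glToMat (Fin (k + d)) F)
      (W : Set (Fin (k + d) → F))).subgroupOf (Cfsg.GU (k + d) F q)) ≃*
        ↥(Cfsg.GU k F q) × ↥(Cfsg.GU d F q)) := by
  classical
  obtain ⟨σ, hσ⟩ := exists_frob hF
  have hσσ := frob_frob hF σ hσ
  obtain ⟨b, hbli, hbspan, hborth⟩ := exists_orthonormal' hF W hWk hW
  obtain ⟨P, hPU, hP⟩ := witt_tuple_gram hF (sv F k d) b sv_li hbli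
    (fun i j => by rw [sv_orth σ hσ, hborth])
  let Pg : ↥(Cfsg.GU (k + d) F q) := ⟨P, hPU⟩
  let Φ : ↥(Cfsg.GU k F q) × ↥(Cfsg.GU d F q) →* ↥(Cfsg.GU (k + d) F q) :=
    (MulAut.conj Pg).toMonoidHom.comp (beta hF)
  have hΦinj : Function.Injective Φ := (MulAut.conj Pg).injective.comp (beta_inj hF)
  have hΦ : ∀ x, Φ x = Pg * beta hF x * Pg⁻¹ := fun x => rfl
  have hmemS : ∀ x : ↥(Cfsg.GU (k + d) F q),
      x ∈ (Cfsg.stabilizing (Cfsg.glToMat (Fin (k + d)) F)
        (W : Set (Fin (k + d) → F))).subgroupOf (Cfsg.GU (k + d) F q) ↔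
      ∀ v, v ∈ W ↔ ((x : Matrix.GeneralLinearGroup (Fin (k + d)) F) :
        Matrix (Fin (k + d)) (Fin (k + d)) F) *ᵥ v ∈ W := fun x => Iff.rfl
  have hPW : ∀ v ∈ Submodule.span F (Set.range (sv F k d)),
      (P : Matrix (Fin (k + d)) (Fin (k + d)) F) *ᵥ v ∈ W := by
    intro v hv
    rw [← hbspan]
    exact maps_span P _ _ hP v hv
  have hPinv : ∀ i, ((P⁻¹ : Matrix.GeneralLinearGroup (Fin (k + d)) F) :
      Matrix (Fin (k + d)) (Fin (k + d)) F) *ᵥ b i = sv F k d i := by
    intro i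
    rw [← hP i, gl_inv_mulVec]
  have hPW' : ∀ v ∈ W, ((P⁻¹ : Matrix.GeneralLinearGroup (Fin (k + d)) F) :
      Matrix (Fin (k + d)) (Fin (k + d)) F) *ᵥ v ∈ Submodule.span F (Set.range (sv F k d)) := by
    intro v hv
    rw [← hbspan] at hv
    exact maps_span P⁻¹ _ _ hPinv v hv
  have hconj : ∀ (y : ↥(Cfsg.GU (k + d) F q)),
      (∀ v, v ∈ W ↔ ((y : Matrix.GeneralLinearGroup (Fin (k + d)) F) :
        Matrix (Fin (k + d)) (Fin (k + d)) F) *ᵥ v ∈ W) →
      ∀ v ∈ Submodule.span F (Set.range (sv F k d)),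
        (((Pg⁻¹ * y * Pg : ↥(Cfsg.GU (k + d) F q)) : Matrix.GeneralLinearGroup (Fin (k + d)) F) :
          Matrix (Fin (k + d)) (Fin (k + d)) F) *ᵥ v ∈ Submodule.span F (Set.range (sv F k d)) := by
    intro y hy v hv
    have hc : (((Pg⁻¹ * y * Pg : ↥(Cfsg.GU (k + d) F q)) :
        Matrix.GeneralLinearGroup (Fin (k + d)) F) : Matrix (Fin (k + d)) (Fin (k + d)) F) =
        ((P⁻¹ : Matrix.GeneralLinearGroup (Fin (k + d)) F) :
          Matrix (Fin (k + d)) (Fin (k + d)) F) *
        ((y : Matrix.GeneralLinearGroup (Fin (k + d)) F) :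
          Matrix (Fin (k + d)) (Fin (k + d)) F) *
        (P : Matrix (Fin (k + d)) (Fin (k + d)) F) := rfl
    rw [hc, ← Matrix.mulVec_mulVec, ← Matrix.mulVec_mulVec]
    apply hPW'
    apply (hy _).mp
    exact hPW v hv
  have hrange : Φ.range = (Cfsg.stabilizing (Cfsg.glToMat (Fin (k + d)) F)
      (W : Set (Fin (k + d) → F))).subgroupOf (Cfsg.GU (k + d) F q) := by
    ext x
    constructor
    · rintro ⟨⟨A, B⟩, rfl⟩
      rw [hmemS]
      apply stab_of_maps W
      intro v hv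
      have hc : ((Φ (A, B) : ↥(Cfsg.GU (k + d) F q)) :
          Matrix.GeneralLinearGroup (Fin (k + d)) F) = P * blkGL A.1 B.1 * P⁻¹ := rfl
      rw [hc, Units.val_mul, Units.val_mul, ← Matrix.mulVec_mulVec, ← Matrix.mulVec_mulVec]
      apply hPW
      exact blk_maps_W0 _ _ _ (hPW' v hv)
    · intro hx
      have hxinv := Subgroup.inv_mem _ hx
      rw [hmemS] at hx hxinv
      set M : ↥(Cfsg.GU (k + d) F q) := Pg⁻¹ * x * Pg with hM
      have hMinv : M⁻¹ = Pg⁻¹ * x⁻¹ * Pg := by rw [hM]; group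
      have hM1 := hconj x hx
      have hM2 := hconj x⁻¹ hxinv
      rw [← hMinv] at hM2
      set Mm : Matrix (Fin (k + d)) (Fin (k + d)) F :=
        ((M : Matrix.GeneralLinearGroup (Fin (k + d)) F) :
          Matrix (Fin (k + d)) (Fin (k + d)) F) with hMm
      have hMU : Mmᵀ * Mm.map σ = 1 := (preserves_iff σ hσ Mm).mp M.2
      have hMU' : (Mm.map σ)ᵀ * Mm = 1 := by
        have := congrArg Matrix.transpose hMU
        rwa [Matrix.transpose_mul, Matrix.transpose_transpose, Matrix.transpose_one] at this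
      have hinvM : (((M⁻¹ : ↥(Cfsg.GU (k + d) F q)) : Matrix.GeneralLinearGroup (Fin (k + d)) F) :
          Matrix (Fin (k + d)) (Fin (k + d)) F) = (Mm.map σ)ᵀ := by
        show ((M.1⁻¹ : Matrix.GeneralLinearGroup (Fin (k + d)) F) :
          Matrix (Fin (k + d)) (Fin (k + d)) F) = _
        exact Units.inv_eq_of_mul_eq_one_left hMU'
      have h21 : ∀ i j, Mm (Fin.natAdd k j) (Fin.castAdd d i) = 0 := by
        intro i j
        have h := hM1 (sv F k d i) (Submodule.subset_span ⟨i, rfl⟩)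
        rw [mem_W0] at h
        have h' := h j
        have e : sv F k d i = Pi.single (Fin.castAdd d i) 1 := rfl
        rw [e, Matrix.mulVec_single_one] at h'
        exact h'
      have h12 : ∀ i j, Mm (Fin.castAdd d i) (Fin.natAdd k j) = 0 := by
        intro i j
        have h := hM2 (sv F k d i) (Submodule.subset_span ⟨i, rfl⟩)
        rw [mem_W0] at h
        have h' := h j
        have e : sv F k d i = Pi.single (Fin.castAdd d i) 1 := rfl
        rw [e, hinvM, Matrix.mulVec_single_one] at h'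
        have h'' : σ (Mm (Fin.castAdd d i) (Fin.natAdd k j)) = 0 := h'
        have := congrArg σ h''
        rwa [hσσ, map_zero] at this
      have hblk := eq_blk Mm h12 h21
      set A₀ : Matrix (Fin k) (Fin k) F :=
        Matrix.of (fun i i' => Mm (Fin.castAdd d i) (Fin.castAdd d i')) with hA₀
      set B₀ : Matrix (Fin d) (Fin d) F :=
        Matrix.of (fun j j' => Mm (Fin.natAdd k j) (Fin.natAdd k j')) with hB₀
      have hU := hMU
      rw [hblk, blk_transpose, blk_map, blk_mul, ← blk_one] at hU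
      obtain ⟨hA1, hB1⟩ := blk_inj _ _ _ _ hU
      obtain ⟨gA, hgA, hgAc⟩ := gu_of_eq σ hσ A₀ hA1
      obtain ⟨gB, hgB, hgBc⟩ := gu_of_eq σ hσ B₀ hB1
      refine ⟨(⟨gA, hgA⟩, ⟨gB, hgB⟩), ?_⟩
      have hβ : beta hF ((⟨gA, hgA⟩, ⟨gB, hgB⟩) :
          ↥(Cfsg.GU k F q) × ↥(Cfsg.GU d F q)) = M := by
        apply Subtype.ext
        apply Units.ext
        show blk (gA : Matrix (Fin k) (Fin k) F) (gB : Matrix (Fin d) (Fin d) F) = Mm
        rw [hgAc, hgBc, ← hblk]
      rw [hΦ, hβ, hM]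
      group
  exact ⟨((MonoidHom.ofInjective hΦinj).trans (MulEquiv.subgroupCongr hrange)).symm⟩

theorem main (hF : Fintype.card F = q ^ 2) (n k : ℕ) (hk : k ≤ n) (W : Submodule F (Fin n → F)) (hWk : Module.finrank F W = k) (hW : ∀ u ∈ W, (∀ v ∈ W, Cfsg.hermForm n F q u v = 0) → u = 0) : Nonempty (↥((Cfsg.stabilizing (Cfsg.glToMat (Fin n) F) (W : Set (Fin n → F))).subgroupOf (Cfsg.GU n F q)) ≃* ↥(Cfsg.GU k F q) × ↥(Cfsg.GU (n - k) F q)) := by
  obtain ⟨d, rfl⟩ := Nat.exists_eq_add_of_le hk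
  rw [Nat.add_sub_cancel_left]
  exact main_kd hF k d W hWk hW

end final


/-- If W ≤ F^n (|F| = q²) is a k-dimensional subspace on which the Hermitian form Σ x_i y_i^q is non-degenerate, then the stabiliser of W in GU_n(q) is isomorphic to GU_k(q) × GU_(n−k)(q). -/
theorem result {F : Type*} [Field F] [Fintype F] {q : ℕ} (hF : Fintype.card F = q ^ 2) (n k : ℕ) (hk : k ≤ n) (W : Submodule F (Fin n → F)) (hWk : Module.finrank F W = k) (hW : ∀ u ∈ W, (∀ v ∈ W, Cfsg.hermForm n F q u v = 0) → u = 0) : Nonempty (↥((Cfsg.stabilizing (Cfsg.glToMat (Fin n) F) (W : Set (Fin n → F))).subgroupOf (Cfsg.GU n F q)) ≃* ↥(Cfsg.GU k F q) × ↥(Cfsg.GU (n - k) F q)) := by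
  exact main hF n k hk W hWk hW

end Cfsg.Agent.S0837
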