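import Cfsg.Statements.S0839
import Cfsg.Agent.Lib.helper14.SqZero

set_option autoImplicit false
open Cfsg

namespace Cfsg.Agent.S0839

open Cfsg.Agent.Lib.helper14 Module Matrix

def idxEquiv (n : ℕ) : (Fin 1 ⊕ Fin n) ⊕ Fin 1 ≃ Fin (n + 2) :=
  (Equiv.sumComm _ _).trans ((Equiv.sumCongr (Equiv.refl _) finSumFinEquiv).trans
    (finSumFinEquiv.trans (finCongr (by omega))))

theorem idxEquiv_inr (n : ℕ) (i : Fin 1) : idxEquiv n (Sum.inr i) = 0 := by
  apply Fin.ext
  simp [idxEquiv]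

theorem idxEquiv_inl_inl (n : ℕ) (i : Fin 1) : idxEquiv n (Sum.inl (Sum.inl i)) = 1 := by
  apply Fin.ext
  simp [idxEquiv]

/-- Every transvection t ∈ SL_(n+2)(F) (rank(t − 1) = 1, (t − 1)² = 0) is conjugate in SL_(n+2)(F) to 1 + v·e_0ᵀ for some column vector v with v_0 = 0 (the group A of matrices that are the identity except in the first column below the diagonal); the dimension is written n + 2 ≥ 2. -/
theorem result {F : Type*} [Field F] (n : ℕ) (t : Matrix.SpecialLinearGroup (Fin (n + 2)) F) (ht : Cfsg.IsTransvection (t : Matrix (Fin (n + 2)) (Fin (n + 2)) F)) : ∃ (g : Matrix.SpecialLinearGroup (Fin (n + 2)) F) (v : Fin (n + 2) → F), v 0 = 0 ∧ ((g⁻¹ * t * g : Matrix.SpecialLinearGroup (Fin (n + 2)) F) : Matrix (Fin (n + 2)) (Fin (n + 2)) F) = 1 + Matrix.vecMulVec v (Pi.single 0 1) := by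
  classical
  obtain ⟨hrank, hsq⟩ := ht
  obtain ⟨M, hM⟩ : ∃ M : Matrix (Fin (n + 2)) (Fin (n + 2)) F, M = (t : Matrix _ _ F) - 1 := ⟨_, rfl⟩
  rw [← hM] at hrank hsq
  have hN : M.mulVecLin ∘ₗ M.mulVecLin = 0 := by
    rw [← Matrix.mulVecLin_mul, hsq, Matrix.mulVecLin_zero]
  have hr : finrank F (LinearMap.range M.mulVecLin) = 1 := hrank
  obtain ⟨m, B, h1, h2⟩ := exists_adapted_basis M.mulVecLin hN 1 hr
  have hc := Module.finrank_eq_card_basis B
  simp only [Fintype.card_sum, Fintype.card_fin, Module.finrank_fintype_fun_eq_card] at hc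
  obtain rfl : n = m := by omega
  set B' : Basis (Fin (n + 2)) F (Fin (n + 2) → F) := B.reindex (idxEquiv n) with hB'
  have hB0 : M *ᵥ (B' 0) = B' 1 := by
    have e0 : B' 0 = B (Sum.inr 0) := by
      rw [hB', Basis.reindex_apply, ← idxEquiv_inr n 0, Equiv.symm_apply_apply]
    have e1 : B' 1 = B (Sum.inl (Sum.inl 0)) := by
      rw [hB', Basis.reindex_apply, ← idxEquiv_inl_inl n 0, Equiv.symm_apply_apply]
    rw [e0, e1]
    exact h1 0
  have hBj : ∀ j : Fin (n + 2), j ≠ 0 → M *ᵥ (B' j) = 0 := by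
    intro j hj
    rw [hB', Basis.reindex_apply]
    rcases hx : (idxEquiv n).symm j with x | i
    · exact h2 x
    · exfalso
      apply hj
      rw [← idxEquiv_inr n i, ← hx, Equiv.apply_symm_apply]
  set G₀ : Matrix (Fin (n + 2)) (Fin (n + 2)) F := Matrix.of fun i j => B' j i with hG₀
  have hG₀' : G₀ = (Pi.basisFun F (Fin (n + 2))).toMatrix B' := by
    ext i j
    rw [Basis.toMatrix_apply, Pi.basisFun_repr]
    rfl
  obtain ⟨d, hd⟩ : ∃ d, G₀.det = d := ⟨_, rfl⟩
  have hd0 : d ≠ 0 := by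
    have := (Pi.basisFun F (Fin (n + 2))).isUnit_det B'
    rw [Basis.det_apply, ← hG₀', hd] at this
    exact this.ne_zero
  set c : Fin (n + 2) → F := Function.update 1 1 d⁻¹ with hc'
  set G : Matrix (Fin (n + 2)) (Fin (n + 2)) F := G₀ * Matrix.diagonal c with hG
  have hGdet : G.det = 1 := by
    rw [hG, Matrix.det_mul, Matrix.det_diagonal, hd, hc', Finset.prod_update_of_mem (Finset.mem_univ _)]
    simp [hd0]
  have hGij : ∀ i j, G i j = B' j i * c j := by
    intro i j
    rw [hG, Matrix.mul_diagonal]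
    rfl
  have h01 : (0 : Fin (n + 2)) ≠ 1 := by
    intro h
    have := congrArg Fin.val h
    simp at this
  obtain ⟨g, hg⟩ : ∃ g : Matrix.SpecialLinearGroup (Fin (n + 2)) F,
      (g : Matrix (Fin (n + 2)) (Fin (n + 2)) F) = G := ⟨⟨G, hGdet⟩, rfl⟩
  refine ⟨g, Pi.single 1 d, Pi.single_eq_of_ne h01 _, ?_⟩
  have key : M * G = G * Matrix.vecMulVec (Pi.single (1 : Fin (n + 2)) d : Fin (n + 2) → F)
      (Pi.single (0 : Fin (n + 2)) (1 : F) : Fin (n + 2) → F) := by
    ext i j
    have hL : (M * G) i j = (M *ᵥ (B' j)) i * c j := by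
      rw [Matrix.mul_apply, Matrix.mulVec, dotProduct, Finset.sum_mul]
      refine Finset.sum_congr rfl fun k _ => ?_
      rw [hGij, mul_assoc]
    have hR : (G * Matrix.vecMulVec (Pi.single (1 : Fin (n + 2)) d : Fin (n + 2) → F)
        (Pi.single (0 : Fin (n + 2)) (1 : F) : Fin (n + 2) → F)) i j =
        B' 1 i * (Pi.single (0 : Fin (n + 2)) (1 : F) : Fin (n + 2) → F) j := by
      rw [Matrix.mul_apply, Finset.sum_eq_single (1 : Fin (n + 2))]
      · rw [hGij, Matrix.vecMulVec_apply, Pi.single_eq_same, hc', Function.update_self]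
        field_simp
      · intro k _ hk
        rw [Matrix.vecMulVec_apply, Pi.single_eq_of_ne hk, zero_mul, mul_zero]
      · intro h
        exact absurd (Finset.mem_univ _) h
    rw [hL, hR]
    by_cases hj : j = 0
    · subst hj
      rw [hB0, Pi.single_eq_same, hc', Function.update_of_ne h01]
      rfl
    · rw [hBj j hj, Pi.single_eq_of_ne hj]
      simp
  have hinv : (g⁻¹ : Matrix.SpecialLinearGroup (Fin (n + 2)) F).1 * G = 1 := by
    have := congrArg Subtype.val (inv_mul_cancel g)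
    rw [Matrix.SpecialLinearGroup.coe_mul, hg] at this
    exact this
  have ht' : (t : Matrix _ _ F) = 1 + M := by rw [hM]; abel
  rw [Matrix.SpecialLinearGroup.coe_mul, Matrix.SpecialLinearGroup.coe_mul, ht', hg]
  show (g⁻¹ : Matrix.SpecialLinearGroup (Fin (n + 2)) F).1 * (1 + M) * G = _
  rw [Matrix.mul_add, Matrix.mul_one, Matrix.add_mul, hinv, Matrix.mul_assoc, key, ← Matrix.mul_assoc, hinv,
    Matrix.one_mul]

end Cfsg.Agent.S0839
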