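import Mathlib
import Cfsg.Statements.S0841

set_option autoImplicit false
open Cfsg
open scoped commutatorElement

namespace Cfsg.Agent.S0841

theorem comm_central {G : Type*} [Group G] (hG : commutator G ≤ Subgroup.center G) (x y : G) :
    y⁻¹ * x⁻¹ * y * x ∈ Subgroup.center G := by
  apply hG
  have : y⁻¹ * x⁻¹ * y * x = ⁅y⁻¹, x⁻¹⁆ := by
    simp [commutatorElement_def]
  rw [this]
  exact Subgroup.commutator_mem_commutator (Subgroup.mem_top _) (Subgroup.mem_top _)

theorem ypow_x {G : Type*} [Group G] (hG : commutator G ≤ Subgroup.center G) (x y : G) (n : ℕ) :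
    y ^ n * x = x * y ^ n * (y⁻¹ * x⁻¹ * y * x) ^ n := by
  have hc := comm_central hG x y
  set c := y⁻¹ * x⁻¹ * y * x with hcdef
  have hyx : y * x = x * y * c := by
    rw [hcdef]; group
  have hcomm : ∀ z : G, c * z = z * c := fun z => (Subgroup.mem_center_iff.mp hc z).symm
  induction n with
  | zero => simp
  | succ n ih =>
    calc y ^ (n + 1) * x = y * (y ^ n * x) := by rw [pow_succ']; group
      _ = y * (x * y ^ n * c ^ n) := by rw [ih]
      _ = (y * x) * y ^ n * c ^ n := by group
      _ = x * y * c * y ^ n * c ^ n := by rw [hyx]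
      _ = x * y * (c * y ^ n) * c ^ n := by group
      _ = x * y * (y ^ n * c) * c ^ n := by rw [hcomm]
      _ = x * (y * y ^ n) * (c * c ^ n) := by group
      _ = x * y ^ (n + 1) * c ^ (n + 1) := by rw [← pow_succ', ← pow_succ']

theorem result {G : Type*} [Group G] (hG : commutator G ≤ Subgroup.center G) (x y : G) (n : ℕ) : (x * y) ^ n = x ^ n * y ^ n * (y⁻¹ * x⁻¹ * y * x) ^ (n * (n - 1) / 2) := by
  have hc := comm_central hG x y
  have hyx := ypow_x hG x y
  set c := y⁻¹ * x⁻¹ * y * x with hcdef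
  have hcomm : ∀ z : G, c * z = z * c := fun z => (Subgroup.mem_center_iff.mp hc z).symm
  have hcommpow : ∀ (k : ℕ) (z : G), c ^ k * z = z * c ^ k := by
    intro k z
    exact ((Commute.pow_left (hcomm z) k)).eq
  induction n with
  | zero => simp
  | succ n ih =>
    have hexp : (n + 1) * (n + 1 - 1) / 2 = n * (n - 1) / 2 + n := by
      have h1 : n + 1 - 1 = n := by omega
      rw [h1]
      rcases Nat.even_or_odd' n with ⟨k, hk | hk⟩
      · subst hk
        rcases k with _ | k
        · simp
        · have : (2 * (k + 1) + 1) * (2 * (k + 1)) = 2 * ((2 * (k + 1) + 1) * (k + 1)) := by ring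
          rw [this, Nat.mul_div_cancel_left _ (by norm_num : 0 < 2)]
          have h2 : 2 * (k + 1) * (2 * (k + 1) - 1) = 2 * ((k + 1) * (2 * k + 1)) := by
            have : 2 * (k + 1) - 1 = 2 * k + 1 := by omega
            rw [this]; ring
          rw [h2, Nat.mul_div_cancel_left _ (by norm_num : 0 < 2)]
          ring
      · subst hk
        have : (2 * k + 1 + 1) * (2 * k + 1) = 2 * ((k + 1) * (2 * k + 1)) := by ring
        rw [this, Nat.mul_div_cancel_left _ (by norm_num : 0 < 2)]
        have h2 : (2 * k + 1) * (2 * k + 1 - 1) = 2 * ((2 * k + 1) * k) := by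
          have : 2 * k + 1 - 1 = 2 * k := by omega
          rw [this]; ring
        rw [h2, Nat.mul_div_cancel_left _ (by norm_num : 0 < 2)]
        ring
    rw [hexp]
    calc (x * y) ^ (n + 1) = (x * y) ^ n * (x * y) := pow_succ _ _
      _ = x ^ n * y ^ n * c ^ (n * (n - 1) / 2) * (x * y) := by rw [ih]
      _ = x ^ n * y ^ n * (c ^ (n * (n - 1) / 2) * (x * y)) := by group
      _ = x ^ n * y ^ n * ((x * y) * c ^ (n * (n - 1) / 2)) := by rw [hcommpow]
      _ = x ^ n * (y ^ n * x) * y * c ^ (n * (n - 1) / 2) := by group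
      _ = x ^ n * (x * y ^ n * c ^ n) * y * c ^ (n * (n - 1) / 2) := by rw [hyx]
      _ = x ^ n * x * y ^ n * (c ^ n * y) * c ^ (n * (n - 1) / 2) := by group
      _ = x ^ n * x * y ^ n * (y * c ^ n) * c ^ (n * (n - 1) / 2) := by rw [hcommpow]
      _ = (x ^ n * x) * (y ^ n * y) * (c ^ n * c ^ (n * (n - 1) / 2)) := by group
      _ = x ^ (n + 1) * y ^ (n + 1) * c ^ (n * (n - 1) / 2 + n) := by
          rw [← pow_succ, ← pow_succ, ← pow_add, Nat.add_comm n (n * (n - 1) / 2)]

end Cfsg.Agent.S0841
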