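import Cfsg.Statements.S0844
import Cfsg.Agent.Lib.helper7.BSCore
import Cfsg.Agent.Lib.helper7.BSQuat

set_option autoImplicit false
open Cfsg

namespace Cfsg.Agent.S0844

open Cfsg.Agent.Lib.helper7 Cfsg.Agent.Lib.Helper25 Cfsg.Agent.Lib.Helper21


/-- Suppose a Sylow 2-subgroup S of the finite group G is generalized quaternion of order at least 16. Then G has two non-principal irreducible characters χ₁ and χ₂ with χ₁ 1 = χ₂ 1 + 1 such that χ₁ g - χ₂ g = 1 for every element g whose order is not divisible by 4. -/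
theorem result {G : Type*} [Group G] [Fintype G] (S : Sylow 2 G) (n : ℕ) (e : (S : Subgroup G) ≃* QuaternionGroup (2 ^ (n + 2))) : ∃ χ₁ χ₂ : G → ℂ, Cfsg.IsIrrCharacter G χ₁ ∧ Cfsg.IsIrrCharacter G χ₂ ∧ χ₁ ≠ (fun _ => 1) ∧ χ₂ ≠ (fun _ => 1) ∧ χ₁ 1 = χ₂ 1 + 1 ∧ ∀ g : G, ¬ 4 ∣ orderOf g → χ₁ g - χ₂ g = 1 := by
  classical
  set D : Subgroup G := ⁅(S : Subgroup G), (S : Subgroup G)⁆ with hD
  obtain ⟨ν, c₀, hc₀α, h4, hc₀, hinv, hord, hordD⟩ := h7_bs_setup S n e D rfl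
  obtain ⟨-, hX2, -⟩ := Cfsg.Agent.S0843.result S n e D rfl
  have hcard := h7_bs_setup_card S n e D rfl
  have hCH : Subgroup.centralizer (D : Set G) ≤ Subgroup.normalizer (D : Set G) :=
    Subgroup.centralizer_le_normalizer _
  have hCn : ∀ h ∈ Subgroup.normalizer (D : Set G), ∀ c ∈ Subgroup.centralizer (D : Set G),
      h * c * h⁻¹ ∈ Subgroup.centralizer (D : Set G) :=
    fun h hh c hc => h7_centralizer_conj_mem D h hh c hc
  have hTI : ∀ g : G, ∀ c : Subgroup.centralizer (D : Set G), ν c ≠ 1 →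
      g * (c : G) * g⁻¹ ∈ Subgroup.centralizer (D : Set G) → g ∈ Subgroup.normalizer (D : Set G) := by
    intro g c hc hgc
    exact hX2 g c c.2 (hordD c hc) hgc
  obtain ⟨χ₁, χ₂, h1, h2, hne, hdeg, hΘ⟩ :=
    h7_bs_core _ _ hCH hcard hCn ν h4 c₀ hc₀ hinv hTI
  refine ⟨χ₁, χ₂, χ₁.2, χ₂.2, ?_, ?_, hdeg, ?_⟩
  · intro h
    exact h1 (Subtype.ext h)
  · intro h
    exact h2 (Subtype.ext h)
  · intro g hg
    have h0 : Cfsg.indFun (Subgroup.normalizer (D : Set G))
        (h7_bsTheta (Subgroup.normalizer (D : Set G)) (Subgroup.centralizer (D : Set G)) ν) g = 0 := by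
      by_contra hne0
      obtain ⟨x, hxC, hν⟩ := h7_ti_indFun_support _ (h7_bsX (Subgroup.centralizer (D : Set G)) ν) _
        (fun y hy => h7_bsThetaG_off _ ν _ hy) g hne0
      have h3 := hord ⟨_, hxC⟩ hν
      have h4' : orderOf (x⁻¹ * g * x) = orderOf g := by
        have : x⁻¹ * g * x = MulAut.conj x⁻¹ g := by simp
        rw [this, MulEquiv.orderOf_eq]
      apply hg
      have h5 : (4 : ℕ) ∣ 2 ^ (n + 2) := ⟨2 ^ n, by ring⟩
      have h6 : 2 ^ (n + 2) ∣ orderOf g := by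
        rw [← h4']
        exact h3
      exact h5.trans h6
    rw [hΘ g] at h0
    linear_combination -h0

end Cfsg.Agent.S0844
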