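import Cfsg.Statements.S0845
import Cfsg.Agent.Lib.helper7.BSFinal

set_option autoImplicit false
open Cfsg

namespace Cfsg.Agent.S0845

open Cfsg.Agent.Lib.helper7 Cfsg.Agent.Lib.Helper25 Cfsg.Agent.Lib.Helper21


/-- Suppose a Sylow 2-subgroup S of the finite group G is generalized quaternion of order at least 16. Then G has a normal subgroup M of even order such that G / M is non-abelian, that is, M does not contain the commutator subgroup of G. -/
theorem result {G : Type*} [Group G] [Finite G] (S : Sylow 2 G) (n : ℕ) (e : (S : Subgroup G) ≃* QuaternionGroup (2 ^ (n + 2))) : ∃ M : Subgroup G, M.Normal ∧ Even (Nat.card M) ∧ ¬ commutator G ≤ M := by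
  classical
  haveI := Fintype.ofFinite G
  haveI : Fact (Nat.Prime 2) := ⟨Nat.prime_two⟩
  haveI : NeZero (2 ^ (n + 2)) := ⟨by positivity⟩
  obtain ⟨χ₁, χ₂, h1, h2, hdeg, hinvol, hα⟩ := h7_bs_main S n e
  have h2G : 2 ∣ Nat.card G := by
    have hS := quat_card (S : Subgroup G) e
    have h3 : Nat.card (S : Subgroup G) ∣ Nat.card G := Subgroup.card_subgroup_dvd_card _
    rw [hS] at h3
    exact Dvd.dvd.trans ⟨2 * 2 ^ (n + 2), by ring⟩ h3
  obtain ⟨t, ht⟩ := exists_prime_orderOf_dvd_card' 2 h2G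
  refine ⟨irrKer χ₁, inferInstance, ?_, ?_⟩
  · have htM : t ∈ irrKer χ₁ := (mem_irrKer χ₁ t).mpr (hinvol t ht).1
    have h3 := Subgroup.orderOf_dvd_natCard _ htM
    rw [ht] at h3
    exact even_iff_two_dvd.mpr h3
  · apply h7_irr_not_commutator_le_ker χ₁
    intro h
    rw [h] at hdeg
    have hx₂ : (χ₂ : G → ℂ) 1 ≠ 0 := irr_one_ne_zero χ₂
    apply hx₂
    linear_combination -hdeg

end Cfsg.Agent.S0845
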