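import Cfsg.Statements.S0852
import Mathlib
import Cfsg.Agent.S0853
import Cfsg.Agent.S1529
import Cfsg.Agent.Lib.Helper11.TIFNIrr

set_option autoImplicit false
open Cfsg

namespace Cfsg.Agent.S0852

open Cfsg.Agent.Lib.Helper11 Cfsg.Agent.Lib.helper7 Cfsg.Agent.Lib.Helper25 Cfsg.Agent.Lib.helper2


/-- Let K be a subgroup of the finite group G that meets each conjugate by an element outside its normalizer N trivially, is properly contained in N, and contains the centralizer of each of its non-identity elements (a T.I. subgroup with Frobenius normalizer). Let S be the set of irreducible characters of N taking at some element of K a value different from their degree, suppose S has at least two members, and let star be a linear isometry on the integer span of S into the generalized characters of G that agrees with induction on the members vanishing at the identity (so S is coherent, with star as the extending isometry). Then an irreducible character ψ of G is of the form star χ or -star χ for some χ in S if and only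 if ψ is not constant on the non-identity elements of K. -/
theorem result {G : Type*} [Group G] [Fintype G] (K : Subgroup G) (hTI : ∀ g : G, g ∉ Subgroup.normalizer (K : Set G) → ∀ k ∈ K, g * k * g⁻¹ ∈ K → k = 1) (hlt : K < Subgroup.normalizer (K : Set G)) (hC : ∀ k ∈ K, k ≠ 1 → Subgroup.centralizer ({k} : Set G) ≤ K) [Fintype ↥(Subgroup.normalizer (K : Set G))] (S : Set (↥(Subgroup.normalizer (K : Set G)) → ℂ)) (hS : S = {χ : ↥(Subgroup.normalizer (K : Set G)) → ℂ | Cfsg.IsIrrCharacter ↥(Subgroup.normalizer (K : Set G)) χ ∧ ∃ k : ↥(Subgroup.normalizer (K : Set G)), (k : G) ∈ K ∧ χ k ≠ χ 1}) (htwo : ∃ χ ∈ S, ∃ ξ ∈ S, χ ≠ ξ) (star : (↥(Subgroup.normalizer (K : Set G)) → ℂ) → (G → ℂ)) (hstar : Cfsg.IsLinearIsometryOn (Cfsg.zspan S) star) (hext : ∀ α ∈ Cfsg.zspanOn S ({1}ᶜ : Set ↥(Subgroup.normalizer (K : Set G))), star α = Cfsg.indFun (Subgroup.normalizer (K : Set G)) α) (ψ : G → ℂ) (hψ : Cfsg.IsIrrCharacter G ψ) : (∃ χ ∈ S, ψ = star χ ∨ ψ = -star χ) ↔ ∃ a ∈ K, ∃ b ∈ K, a ≠ 1 ∧ b ≠ 1 ∧ ψ a ≠ ψ b := by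
  classical
  obtain ⟨hS', hsetup⟩ := Cfsg.Agent.S0853.setup_of_hyps K hTI hC S hS star hstar hext
  subst hS'
  have hKn := hsetup.normal
  constructor
  · rintro ⟨χ, hχ, hψχ⟩
    obtain ⟨χ₁, hχ₁, ξ₁, hξ₁, hne₁⟩ := htwo
    obtain ⟨ξ, hξ, hne⟩ : ∃ ξ ∈ tifnSet (K.subgroupOf (Subgroup.normalizer (K : Set G))), χ ≠ ξ := by
      by_cases h : χ = χ₁
      · exact ⟨ξ₁, hξ₁, by rw [h]; exact hne₁⟩
      · exact ⟨χ₁, hχ₁, h⟩
    obtain ⟨k, k', hk, hk', hk1, hk'1, hkk'⟩ := tifn_nonconst _ hsetup.hC hχ hξ hne
    obtain ⟨m, hm⟩ := tifn_exceptional_values hsetup hχ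
    have h1 := hm χ hχ k hk hk1
    have h2 := hm χ hχ k' hk' hk'1
    have h3 : star χ (k : G) ≠ star χ (k' : G) := by
      intro h
      apply hkk'
      rw [h, ← h2] at h1
      linear_combination -h1
    refine ⟨(k : G), hk, (k' : G), hk', fun h => hk1 (Subtype.ext h), fun h => hk'1 (Subtype.ext h), ?_⟩
    rcases hψχ with rfl | rfl
    · exact h3
    · intro h
      apply h3
      simp only [Pi.neg_apply, neg_inj] at h
      exact h
  · rintro ⟨a, ha, b, hb, ha1, hb1, hab⟩
    by_contra hcon
    push Not at hcon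
    apply hab
    have h0 : ∀ α ∈ Cfsg.zspan (tifnSet (K.subgroupOf (Subgroup.normalizer (K : Set G)))), α 1 = 0 → star α 1 = 0 := by
      intro α hα h1
      have hα' : α ∈ Cfsg.zspanOn (tifnSet (K.subgroupOf (Subgroup.normalizer (K : Set G)))) ({1}ᶜ : Set ↥(Subgroup.normalizer (K : Set G))) := by
        refine ⟨hα, ?_⟩
        intro x hx
        have hx1 : x = 1 := by
          by_contra h'
          exact hx h'
        rw [hx1, h1]
      rw [hext α hα', h7_indFun_one, h1, mul_zero]
    obtain ⟨ε, hε, hirr, -⟩ := Cfsg.Agent.S1529.result (Subgroup.normalizer (K : Set G))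
      (tifnSet (K.subgroupOf (Subgroup.normalizer (K : Set G)))) (fun χ hχ => hχ.1) htwo star hstar h0
    have hεne : ε ≠ 0 := by
      rcases hε with rfl | rfl <;> norm_num
    have hψcl : Cfsg.IsClassFunction G ψ := isCharacter_isClassFunction (h7_irr_isCharacter hψ)
    have hgen : ∀ χ ∈ tifnSet (K.subgroupOf (Subgroup.normalizer (K : Set G))),
        Cfsg.classInner (star χ) ψ = 0 := by
      intro χ hχ
      have hne : ε • star χ ≠ ψ := by
        intro h
        have := hcon χ hχ
        rcases hε with rfl | rfl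
        · apply this.1
          rw [← h, one_smul]
        · apply this.2
          rw [← h, neg_smul, one_smul]
      have h1 := h7_irr_inner_ne (hirr χ hχ) hψ hne
      rw [classInner_smul_left'] at h1
      exact (mul_eq_zero.mp h1).resolve_left hεne
    have hall : ∀ β ∈ Cfsg.zspan (tifnSet (K.subgroupOf (Subgroup.normalizer (K : Set G)))),
        Cfsg.classInner (star β) ψ = 0 :=
      isoOn_span_induction hstar (fun θ => Cfsg.classInner θ ψ)
        (fun a b => classInner_add_left' a b ψ)
        (fun n a => classInner_zsmul_left n a ψ) hgen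
    obtain ⟨χ₀, hχ₀, -⟩ := htwo
    have hKN : K ≤ Subgroup.normalizer (K : Set G) := Subgroup.le_normalizer
    have hconst := tifn_const (K.subgroupOf (Subgroup.normalizer (K : Set G)))
      (fun n : ↥(Subgroup.normalizer (K : Set G)) => ψ n)
      (fun g x => by
        change ψ ((x * g * x⁻¹ : ↥(Subgroup.normalizer (K : Set G))) : G) = ψ g
        simp only [Subgroup.coe_mul, Subgroup.coe_inv]
        exact hψcl g x) hχ₀
      (fun β hβ => by
        rw [tifn_inner_restrict hsetup ψ hψcl hβ, hall β hβ.1, map_zero])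
      ⟨a, hKN ha⟩ ⟨b, hKN hb⟩ ha hb (fun h => ha1 (congrArg Subtype.val h))
      (fun h => hb1 (congrArg Subtype.val h))
    exact hconst

end Cfsg.Agent.S0852
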