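import Cfsg.Statements.S0855
import Mathlib
import Cfsg.Agent.Lib.helper7.Thompson
import Cfsg.Agent.Lib.helper2.CharInd
import Cfsg.Agent.Lib.helper2.CharInt
import Cfsg.Agent.Lib.Helper25.CharAbelian
import Cfsg.Agent.Lib.Helper25.CharOrth
import Cfsg.Agent.Lib.Helper25.CharLinear
import Cfsg.Agent.S0887

set_option autoImplicit false
open Cfsg

namespace Cfsg.Agent.S0855

open Cfsg.Agent.Lib.helper7 Cfsg.Agent.Lib.helper2 Cfsg.Agent.Lib.Helper25
open scoped commutatorElement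

theorem backward {G : Type*} [Group G] [Fintype G] (p : ℕ) (hp : p.Prime) (A : Subgroup G)
    [hA : A.Normal] (hcomm : ∀ a ∈ A, ∀ b ∈ A, a * b = b * a) (k : ℕ) (hk : A.index = p ^ k)
    (χ : Cfsg.IrrCharacter G) : ∃ j : ℕ, (χ : G → ℂ) 1 = (p : ℂ) ^ j := by
  classical
  haveI : Fintype A := Fintype.ofFinite A
  obtain ⟨c, hc0, hc⟩ := irr_one_eq_finrank χ
  have hres : Cfsg.IsCharacter A (fun a : A => (χ : G → ℂ) a) :=
    isCharacter_restrict (isCharacter_of_irr χ) A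
  have h1 : (fun a : A => (χ : G → ℂ) a) 1 ≠ 0 := by
    show (χ : G → ℂ) ((1 : A) : G) ≠ 0
    rw [Subgroup.coe_one, hc]
    exact_mod_cast hc0.ne'
  obtain ⟨lam, m, hm0, hm⟩ := isCharacter_exists_constituent hres h1
  letI : CommGroup A := { (inferInstance : Group A) with
    mul_comm := fun a b => Subtype.ext (hcomm a a.2 b b.2) }
  have hl1 : (lam : A → ℂ) 1 = ((1 : ℕ) : ℂ) := by
    rw [Nat.cast_one]
    exact irr_one_of_comm lam
  have hcon : Cfsg.classInner (fun a : A => (χ : G → ℂ) a) (lam : A → ℂ) ≠ 0 := by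
    rw [hm]
    exact_mod_cast hm0.ne'
  obtain ⟨-, h2⟩ := Cfsg.Agent.S0887.result A (χ : G → ℂ) χ.2 (lam : A → ℂ) lam.2 hcon c 1 hc hl1
  rw [Nat.div_one, hk] at h2
  obtain ⟨j, -, hj⟩ := (Nat.dvd_prime_pow hp).1 h2
  refine ⟨j, ?_⟩
  rw [hc, hj]
  push_cast
  rfl

theorem forward_linear {G : Type*} [Group G] [Fintype G] (p : ℕ) (hp : p.Prime)
    (h : ∀ χ : Cfsg.IrrCharacter G, ∃ k : ℕ, (χ : G → ℂ) 1 = (p : ℂ) ^ k)
    (N : Subgroup G) [hN : N.Normal] (hcop : Nat.Coprime (Nat.card N) p)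
    (ψ : Cfsg.IrrCharacter N) : (ψ : N → ℂ) 1 = 1 := by
  classical
  haveI : Fintype N := Fintype.ofFinite N
  obtain ⟨n, ρ, hρ, hψ⟩ := ψ.2
  haveI := hρ
  have hd : (ψ : N → ℂ) 1 = ((Module.finrank ℂ (Fin n → ℂ) : ℕ) : ℂ) := by
    rw [← hψ, Representation.char_one]
  have hdvd : Module.finrank ℂ (Fin n → ℂ) ∣ Nat.card N := degree_dvd_card ρ
  have hind : Cfsg.IsCharacter G (Cfsg.indFun N (ψ : N → ℂ)) :=
    isCharacter_indFun N _ (isCharacter_of_irr ψ)
  have hne : Cfsg.indFun N (ψ : N → ℂ) 1 ≠ 0 := by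
    rw [h7_indFun_one, hd]
    have h0 : Module.finrank ℂ (Fin n → ℂ) ≠ 0 := finrank_ne_zero_of_irr ρ
    have h1 : N.index ≠ 0 := Subgroup.index_ne_zero_of_finite
    exact_mod_cast Nat.mul_ne_zero h1 h0
  obtain ⟨χ, m, hm0, hm⟩ := isCharacter_exists_constituent hind hne
  rw [h7_frobenius_reciprocity N _ (χ : G → ℂ)
    (isCharacter_isClassFunction (isCharacter_of_irr χ))] at hm
  have hm' := classInner_symm_of_nat _ _ m hm
  have hcon : Cfsg.classInner (fun a : N => (χ : G → ℂ) a) (ψ : N → ℂ) ≠ 0 := by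
    rw [hm']
    exact_mod_cast hm0.ne'
  obtain ⟨k, hk⟩ := h χ
  have hk' : (χ : G → ℂ) 1 = ((p ^ k : ℕ) : ℂ) := by
    rw [hk]
    push_cast
    rfl
  obtain ⟨h2, -⟩ := Cfsg.Agent.S0887.result N (χ : G → ℂ) χ.2 (ψ : N → ℂ) ψ.2 hcon (p ^ k)
    (Module.finrank ℂ (Fin n → ℂ)) hk' hd
  have h3 : Module.finrank ℂ (Fin n → ℂ) ∣ Nat.gcd (Nat.card N) (p ^ k) := Nat.dvd_gcd hdvd h2
  have h4 : Nat.gcd (Nat.card N) (p ^ k) = 1 := Nat.Coprime.pow_right k hcop
  rw [h4, Nat.dvd_one] at h3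
  rw [hd, h3]
  simp

theorem forward_abelian {G : Type*} [Group G] [Fintype G] (p : ℕ) (hp : p.Prime)
    (h : ∀ χ : Cfsg.IrrCharacter G, ∃ k : ℕ, (χ : G → ℂ) 1 = (p : ℂ) ^ k)
    (N : Subgroup G) [hN : N.Normal] (hcop : Nat.Coprime (Nat.card N) p) :
    ∀ a ∈ N, ∀ b ∈ N, a * b = b * a := by
  classical
  intro a ha b hb
  have key : ∀ w : N, w ∈ commutator N → w = 1 := by
    intro w hw
    have h1 : IsConj (1 : N) w := by
      apply isConj_of_irr_eq
      intro ψ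
      have hl := forward_linear p hp h N hcop ψ
      rw [irr_linear_commutator ψ hl hw, hl]
    exact (isConj_one_right.mp h1)
  have hw : ⁅(⟨a, ha⟩ : N), (⟨b, hb⟩ : N)⁆ ∈ commutator N :=
    Subgroup.commutator_mem_commutator (Subgroup.mem_top _) (Subgroup.mem_top _)
  have h2 := key _ hw
  have h3 : (⟨a, ha⟩ : N) * ⟨b, hb⟩ = ⟨b, hb⟩ * ⟨a, ha⟩ := by
    rw [commutatorElement_eq_one_iff_mul_comm] at h2
    exact h2
  exact congrArg Subtype.val h3


/-- For a finite group G and a prime p: every irreducible character of G has degree a power of p if and only if G has an abelian normal subgroup whose order is prime to p and whose index is a power of p. -/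
theorem result {G : Type*} [Group G] [Finite G] (p : ℕ) (hp : p.Prime) : (∀ χ : Cfsg.IrrCharacter G, ∃ k : ℕ, (χ : G → ℂ) 1 = (p : ℂ) ^ k) ↔ ∃ A : Subgroup G, A.Normal ∧ (∀ a ∈ A, ∀ b ∈ A, a * b = b * a) ∧ Nat.Coprime (Nat.card A) p ∧ ∃ k : ℕ, A.index = p ^ k := by
  classical
  haveI : Fintype G := Fintype.ofFinite G
  haveI : Fact p.Prime := ⟨hp⟩
  constructor
  · intro h
    have hdeg : ∀ χ : G → ℂ, Cfsg.IsIrrCharacter G χ → ∀ d : ℕ, χ 1 = (d : ℂ) → d ≠ 1 → p ∣ d := by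
      intro χ hχ d hd hne
      obtain ⟨k, hk⟩ := h ⟨χ, hχ⟩
      have h1 : (d : ℂ) = ((p ^ k : ℕ) : ℂ) := by
        rw [← hd]
        push_cast
        exact hk
      have h2 : d = p ^ k := by exact_mod_cast h1
      rw [h2]
      apply dvd_pow_self
      rintro rfl
      apply hne
      rw [h2, pow_zero]
    obtain ⟨N, hN, hcop, hidx⟩ := Cfsg.Agent.Lib.helper7.h7_thompson p hdeg
    haveI := hN
    exact ⟨N, hN, forward_abelian p hp h N hcop, hcop, hidx⟩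
  · rintro ⟨A, hA, hcomm, -, k, hk⟩ χ
    haveI := hA
    exact backward p hp A hcomm k hk χ

end Cfsg.Agent.S0855
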