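import Cfsg.Statements.S0859
import Cfsg.Statements.S0859
import Cfsg.Agent.Lib.helper2.MGroup2

set_option autoImplicit false
open Cfsg

namespace Cfsg.Agent.S0859

open Cfsg
open Cfsg.Agent.Lib.helper2 Cfsg.Agent.Lib.helper7 Cfsg.Agent.Lib.Helper11 Cfsg.Agent.Lib.Helper25



/-- Let G be a finite solvable group and N a normal subgroup such that for every prime p every Sylow p-subgroup of N is abelian. Suppose every irreducible character of G is induced from an irreducible character of some subgroup containing N whose restriction to N is irreducible. Then every irreducible character of G is induced from a character of degree 1 of some subgroup. -/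
theorem result {G : Type*} [Group G] [Fintype G] [Group.IsSolvable G] (N : Subgroup G) [N.Normal] (hab : ∀ (p : ℕ) [Fact p.Prime] (P : Sylow p N), ∀ a ∈ P, ∀ b ∈ P, a * b = b * a) (hrel : ∀ χ : G → ℂ, Cfsg.IsIrrCharacter G χ → ∃ (H : Subgroup G) (hNH : N ≤ H) (ψ : H → ℂ), Cfsg.IsIrrCharacter H ψ ∧ Cfsg.indFun H ψ = χ ∧ Cfsg.IsIrrCharacter N (fun n : N => ψ ⟨(n : G), hNH n.2⟩)) (χ : G → ℂ) (hχ : Cfsg.IsIrrCharacter G χ) : ∃ (U : Subgroup G) (lam : U → ℂ), Cfsg.IsCharacter U lam ∧ lam 1 = 1 ∧ Cfsg.indFun U lam = χ := by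
  classical
  obtain ⟨H, hNH, ψ, hψ, hind, hres⟩ := hrel χ hχ
  haveI : Fintype H := Fintype.ofFinite H
  have habN : AbSyl N := abSyl_of_sylow hab
  have habH : AbSyl (N.subgroupOf H) := by
    refine abSyl_of_injective
      ((H.subtype.comp (N.subgroupOf H).subtype).codRestrict N (fun k => k.2)) ?_ habN
    intro a b hab'
    apply Subtype.ext
    apply Subtype.ext
    exact congrArg (fun z : N => (z : G)) hab'
  have hresH : Cfsg.IsIrrCharacter (N.subgroupOf H) (fun k : N.subgroupOf H => ψ (k : H)) := by
    have := h7_isIrr_comp_equiv (Subgroup.subgroupOfEquivOfLe hNH) _ hres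
    exact this
  obtain ⟨U, lam, hlam, hlam1, hU⟩ :=
    mono_aux (Nat.card H) H le_rfl (N.subgroupOf H) habH ψ hψ hresH
  refine ⟨U.map H.subtype, fun h => lam ((U.equivMapOfInjective H.subtype
    H.subtype_injective).symm h), ?_, ?_, ?_⟩
  · exact isCharacter_comp_hom hlam
      (U.equivMapOfInjective H.subtype H.subtype_injective).symm.toMonoidHom
  · show lam ((U.equivMapOfInjective H.subtype H.subtype_injective).symm 1) = 1
    rw [map_one]
    exact hlam1
  · rw [← indFun_trans, hU, hind]

end Cfsg.Agent.S0859
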