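import Cfsg.Statements.S0861
import Cfsg.Agent.Lib.Helper25.KnorrBound

set_option autoImplicit false
open Cfsg

namespace Cfsg.Agent.S0861

/-- Let P be a normal abelian Sylow p-subgroup of the finite group G and suppose some element g of P has centralizer exactly P. Then the number of irreducible characters of G is at most the order of P, and if equality holds then G / P is abelian (the commutator subgroup lies in P). -/
theorem result {G : Type*} [Group G] [Finite G] (p : ℕ) [Fact p.Prime] (P : Sylow p G) [(P : Subgroup G).Normal] (hab : ∀ a ∈ P, ∀ b ∈ P, a * b = b * a) (g : G) (hg : g ∈ P) (hC : Subgroup.centralizer ({g} : Set G) = P) : Nat.card (Cfsg.IrrCharacter G) ≤ Nat.card P ∧ (Nat.card (Cfsg.IrrCharacter G) = Nat.card P → commutator G ≤ P) := by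
  classical
  have hcop : Nat.Coprime (Nat.card (P : Subgroup G)) (P : Subgroup G).index := P.card_coprime_index
  obtain ⟨H, hH⟩ := Subgroup.exists_right_complement'_of_coprime hcop
  have hidx : ¬ p ∣ (P : Subgroup G).index := P.not_dvd_index
  have hb := Cfsg.Agent.Lib.Helper25.knorr_bound p (P : Subgroup G) P.isPGroup' hidx hab H hH g hg
  have hbot : H ⊓ Subgroup.centralizer ({g} : Set G) = ⊥ := by
    rw [hC, inf_comm]
    exact hH.disjoint.eq_bot
  rw [hbot, Subgroup.card_bot, one_mul, ← Cfsg.Agent.S0133.result] at hb
  have hkH : Nat.card (ConjClasses H) ≤ Nat.card H :=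
    Nat.card_le_card_of_surjective ConjClasses.mk ConjClasses.mk_surjective
  refine ⟨by omega, ?_⟩
  intro heq
  have hk : Nat.card (ConjClasses H) = Nat.card H := by omega
  have hcomm : IsMulCommutative H := by
    rw [← commProb_eq_one_iff, commProb_def', hk]
    have : (Nat.card H : ℚ) ≠ 0 := by
      have : 0 < Nat.card H := Nat.card_pos
      exact_mod_cast this.ne'
    exact div_self this
  exact Subgroup.Normal.commutator_le_of_self_sup_commutative_eq_top hH.sup_eq_top hcomm

end Cfsg.Agent.S0861
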