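import Mathlib
import Cfsg.Statements.S0868
import Cfsg.Agent.Lib.helper7.CharMul
import Cfsg.Agent.Lib.Helper25.CharNormal
import Cfsg.Agent.S0139
import Cfsg.Agent.S0856

set_option autoImplicit false
open scoped ComplexConjugate
open Cfsg

namespace Cfsg.Agent.S0868

open Cfsg.Agent.Lib.helper7 Cfsg.Agent.Lib.Helper11

theorem ker_mul {G : Type*} [Group G] [Finite G] (μ : G → ℂ) (hμ : Cfsg.IsIrrCharacter G μ)
    (n g : G) (hn : μ n = μ 1) : μ (n * g) = μ g := by
  obtain ⟨k, ρ, hρ, rfl⟩ := hμ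
  have h1 : ρ n = LinearMap.id :=
    (Cfsg.Agent.S0139.result ρ n).mp (by rw [hn, Representation.char_one])
  simp only [Representation.character, map_mul, h1]
  rfl

section main

variable {G : Type*} [Group G] [Fintype G] (N : Subgroup G) [hN : N.Normal] [Fintype N]

noncomputable def etaFun (χ ψ : G → ℂ) : G → ℂ :=
  fun g => (Nat.card N : ℂ)⁻¹ * ∑ n : N, ψ ((n : G) * g) * conj (χ ((n : G) * g))

theorem eta_coset (χ ψ : G → ℂ) (x : G) (m : G) (hm : m ∈ N) :
    etaFun N χ ψ (x * m) = etaFun N χ ψ x := by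
  unfold etaFun
  congr 1
  have hm' : x * m * x⁻¹ ∈ N := hN.conj_mem m hm x
  rw [← Equiv.sum_comp (Equiv.mulRight (⟨x * m * x⁻¹, hm'⟩ : N))
    (fun n : N => ψ ((n : G) * x) * conj (χ ((n : G) * x)))]
  apply Finset.sum_congr rfl
  intro n _
  have : ((Equiv.mulRight (⟨x * m * x⁻¹, hm'⟩ : N)) n : G) * x = (n : G) * (x * m) := by
    simp only [Equiv.coe_mulRight, Subgroup.coe_mul]
    group
  rw [this]

theorem eta_class (χ ψ : G → ℂ) (hχ : Cfsg.IsClassFunction G χ) (hψ : Cfsg.IsClassFunction G ψ)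
    (g h : G) : etaFun N χ ψ (h * g * h⁻¹) = etaFun N χ ψ g := by
  unfold etaFun
  congr 1
  rw [← Equiv.sum_comp (MulAut.conjNormal h : N ≃* N).toEquiv
    (fun n : N => ψ ((n : G) * (h * g * h⁻¹)) * conj (χ ((n : G) * (h * g * h⁻¹))))]
  apply Finset.sum_congr rfl
  intro n _
  have : (((MulAut.conjNormal h : N ≃* N).toEquiv n : N) : G) * (h * g * h⁻¹) =
      h * ((n : G) * g) * h⁻¹ := by
    simp only [MulEquiv.toEquiv_eq_coe, MulEquiv.coe_toEquiv, MulAut.conjNormal_apply]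
    group
  rw [this, hχ, hψ]

theorem eta_inner (χ ψ μ : G → ℂ) (hμ : ∀ (n : N) (g : G), μ ((n : G) * g) = μ g) :
    Cfsg.classInner (etaFun N χ ψ) μ = Cfsg.classInner ψ (μ * χ) := by
  unfold Cfsg.classInner etaFun
  congr 1
  have h1 : ∀ g : G, (Nat.card N : ℂ)⁻¹ * (∑ n : N, ψ ((n : G) * g) * conj (χ ((n : G) * g))) *
      conj (μ g) = (Nat.card N : ℂ)⁻¹ *
        ∑ n : N, ψ ((n : G) * g) * conj ((μ * χ) ((n : G) * g)) := by
    intro g
    rw [mul_assoc, Finset.sum_mul]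
    congr 1
    apply Finset.sum_congr rfl
    intro n _
    rw [Pi.mul_apply, hμ n g, map_mul]
    ring
  rw [Finset.sum_congr rfl (fun g _ => h1 g), ← Finset.mul_sum, Finset.sum_comm]
  have h2 : ∀ n : N, ∑ g : G, ψ ((n : G) * g) * conj ((μ * χ) ((n : G) * g)) =
      ∑ g : G, ψ g * conj ((μ * χ) g) := by
    intro n
    exact Equiv.sum_comp (Equiv.mulLeft (n : G)) (fun g => ψ g * conj ((μ * χ) g))
  rw [Finset.sum_congr rfl (fun n _ => h2 n), Finset.sum_const, Finset.card_univ, nsmul_eq_mul,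
    ← Nat.card_eq_fintype_card]
  have hN0 : (Nat.card N : ℂ) ≠ 0 := by exact_mod_cast Nat.card_pos.ne'
  field_simp

end main

theorem result {G : Type*} [Group G] [Fintype G] (N : Subgroup G) [N.Normal] [Fintype N] (χ : G → ℂ) (hχ : Cfsg.IsIrrCharacter G χ) (hχN : Cfsg.IsIrrCharacter N (fun n : N => χ n)) (ψ : G → ℂ) (hψ : Cfsg.IsIrrCharacter G ψ) (η : G → ℂ) (hη : η = fun g => (Nat.card N : ℂ)⁻¹ * ∑ n : N, ψ ((n : G) * g) * conj (χ ((n : G) * g))) : (Cfsg.classInner (fun n : N => ψ n) (fun n : N => χ n) ≠ 0 → Cfsg.IsIrrCharacter G η) ∧ (Cfsg.classInner (fun n : N => ψ n) (fun n : N => χ n) = 0 → η = 0) ∧ (ψ = χ → η = fun _ => 1) := by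
  classical
  have : Fintype (Cfsg.IrrCharacter G) := Fintype.ofFinite _
  have hηe : η = etaFun N χ ψ := hη
  have hclχ := h7_irr_isClassFunction hχ
  have hclψ := h7_irr_isClassFunction hψ
  set one : N → ℂ := fun _ => 1 with hone
  have hone_irr : Cfsg.IsIrrCharacter N one := (Cfsg.Agent.Lib.Helper25.trivIrr N).2
  have hone_inv : ∀ g : G, cj N one g = one := fun g => rfl
  have hprodeq : one * (fun n : N => χ n) = fun n : N => χ n := by
    funext n
    simp [hone]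
  have hbij := Cfsg.Agent.S0856.result N one (fun n : N => χ n) hone_irr hχN
    (fun g n => rfl) (fun g n => hclχ n g) (by rw [hprodeq]; exact hχN) χ hχ (fun n => rfl)
  rw [hprodeq] at hbij
  obtain ⟨hmaps, hinj, hsurj⟩ := hbij
  have hA_ker : ∀ μ : G → ℂ, Cfsg.IsIrrCharacter G μ →
      Cfsg.classInner (Cfsg.indFun N one) μ ≠ 0 → ∀ (n : N) (g : G), μ ((n : G) * g) = μ g := by
    intro μ hμ hne n g
    have hcon : Cfsg.classInner (fun n : N => μ n) one ≠ 0 := by
      intro h0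
      apply hne
      rw [h7_frobenius_irr N μ (h7_irr_isClassFunction hμ) one, h0, map_zero]
    obtain ⟨e, he, -, hres⟩ := h7_clifford_invariant N μ hμ one hone_irr hcon hone_inv
    have h1 : ∀ m : N, μ m = (e : ℂ) := by
      intro m
      have := congrFun hres m
      simpa [hone] using this
    apply ker_mul μ hμ
    rw [h1 n]
    exact (h1 1).symm
  have hnotA : ∀ μ : Cfsg.IrrCharacter G, Cfsg.classInner (Cfsg.indFun N one) (μ : G → ℂ) = 0 →
      Cfsg.classInner (etaFun N χ ψ) (μ : G → ℂ) = 0 := by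
    intro μ h0
    apply Cfsg.Agent.Lib.Helper25.classInner_eq_zero_of_coset_const μ N
    · by_contra hall
      push Not at hall
      rw [h7_frobenius_irr N (μ : G → ℂ) (h7_irr_isClassFunction μ.2) one] at h0
      have h1 : (fun n : N => (μ : G → ℂ) n) = ((μ : G → ℂ) 1) • one := by
        funext n
        simp [hone, hall n n.2]
      rw [h1, Cfsg.Agent.Lib.Helper25.classInner_smul_left, h7_irr_norm hone_irr, mul_one] at h0
      have := Cfsg.Agent.Lib.Helper25.irr_one_ne_zero μ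
      apply this
      have h2 := congrArg conj h0
      simpa using h2
    · intro x n hn
      exact eta_coset N χ ψ x n hn
  have hcase1 : ∀ μ0 : G → ℂ, Cfsg.IsIrrCharacter G μ0 →
      Cfsg.classInner (Cfsg.indFun N one) μ0 ≠ 0 → μ0 * χ = ψ → η = μ0 := by
    intro μ0 hμ0 hμ0A hμ0ψ
    rw [hηe]
    have hexp := Cfsg.Agent.Lib.Helper25.classFunction_expansion (etaFun N χ ψ)
      (eta_class N χ ψ hclχ hclψ)
    rw [hexp, Finset.sum_eq_single (⟨μ0, hμ0⟩ : Cfsg.IrrCharacter G)]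
    · rw [eta_inner N χ ψ μ0 (hA_ker μ0 hμ0 hμ0A), hμ0ψ, h7_irr_norm hψ, one_smul]
    · intro μ _ hμ
      by_cases hμA : Cfsg.classInner (Cfsg.indFun N one) (μ : G → ℂ) = 0
      · rw [hnotA μ hμA, zero_smul]
      · rw [eta_inner N χ ψ (μ : G → ℂ) (hA_ker μ.1 μ.2 hμA)]
        have hirr : Cfsg.IsIrrCharacter G ((μ : G → ℂ) * χ) := (hmaps ⟨μ.2, hμA⟩).1
        have hne : ψ ≠ (μ : G → ℂ) * χ := by
          intro heq
          apply hμ
          apply Subtype.ext
          apply hinj ⟨μ.2, hμA⟩ ⟨hμ0, hμ0A⟩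
          simp only
          rw [hμ0ψ, ← heq]
        rw [h7_irr_inner_ne hψ hirr hne, zero_smul]
    · intro hh
      exact absurd (Finset.mem_univ _) hh
  have hcase2 : (∀ μ : G → ℂ, Cfsg.IsIrrCharacter G μ →
      Cfsg.classInner (Cfsg.indFun N one) μ ≠ 0 → μ * χ ≠ ψ) → η = 0 := by
    intro hno
    rw [hηe]
    have hexp := Cfsg.Agent.Lib.Helper25.classFunction_expansion (etaFun N χ ψ)
      (eta_class N χ ψ hclχ hclψ)
    rw [hexp]
    apply Finset.sum_eq_zero
    intro μ _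
    by_cases hμA : Cfsg.classInner (Cfsg.indFun N one) (μ : G → ℂ) = 0
    · rw [hnotA μ hμA, zero_smul]
    · rw [eta_inner N χ ψ (μ : G → ℂ) (hA_ker μ.1 μ.2 hμA)]
      have hirr : Cfsg.IsIrrCharacter G ((μ : G → ℂ) * χ) := (hmaps ⟨μ.2, hμA⟩).1
      have hne : ψ ≠ (μ : G → ℂ) * χ := fun h => hno μ.1 μ.2 hμA h.symm
      rw [h7_irr_inner_ne hψ hirr hne, zero_smul]
  refine ⟨?_, ?_, ?_⟩
  · intro hcon
    have hψB : ψ ∈ {ψ' : G → ℂ | Cfsg.IsIrrCharacter G ψ' ∧
        Cfsg.classInner (Cfsg.indFun N (fun n : N => χ n)) ψ' ≠ 0} := by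
      refine ⟨hψ, ?_⟩
      rw [h7_frobenius_irr N ψ hclψ]
      intro h0
      apply hcon
      have := congrArg conj h0
      simpa using this
    obtain ⟨μ0, ⟨hμ0, hμ0A⟩, hμ0ψ⟩ := hsurj hψB
    rw [hcase1 μ0 hμ0 hμ0A hμ0ψ]
    exact hμ0
  · intro hzero
    apply hcase2
    intro μ hμ hμA hμψ
    have := (hmaps ⟨hμ, hμA⟩).2
    simp only at this
    rw [hμψ, h7_frobenius_irr N ψ hclψ, hzero, map_zero] at this
    exact this rfl
  · intro hψχ
    have htriv : Cfsg.IsIrrCharacter G (fun _ : G => (1 : ℂ)) := (Cfsg.Agent.Lib.Helper25.trivIrr G).2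
    apply hcase1 (fun _ => 1) htriv
    · rw [h7_frobenius_irr N _ (h7_irr_isClassFunction htriv) one]
      have : (fun n : N => (fun _ : G => (1 : ℂ)) (n : G)) = one := rfl
      rw [this, h7_irr_norm hone_irr]
      simp
    · rw [hψχ]
      funext g
      simp

end Cfsg.Agent.S0868
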