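import Mathlib
import Cfsg.Statements.S0869

set_option autoImplicit false
open Cfsg

namespace Cfsg.Agent.S0869

theorem exists_eval_one {S : Type*} (R : AddSubgroup (S → ℤ))
    (h : ¬ ∃ (x : S) (p : ℕ), p.Prime ∧ ∀ f ∈ R, (p : ℤ) ∣ f x) (x : S) :
    ∃ f ∈ R, f x = 1 := by
  classical
  let ev : (S → ℤ) →+ ℤ := Pi.evalAddMonoidHom (fun _ => ℤ) x
  let I : AddSubgroup ℤ := R.map ev
  obtain ⟨n, hn⟩ : ∃ n : ℤ, I = AddSubgroup.zmultiples n := by
    obtain ⟨n, hn⟩ := Int.subgroup_cyclic I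
    exact ⟨n, by rw [hn, AddSubgroup.zmultiples_eq_closure]⟩
  have hmem : ∀ f ∈ R, n ∣ f x := by
    intro f hf
    have : f x ∈ I := ⟨f, hf, rfl⟩
    rw [hn] at this
    exact Int.mem_zmultiples_iff.mp this
  by_cases hn1 : n.natAbs = 1
  · have hnI : n ∈ I := by rw [hn]; exact AddSubgroup.mem_zmultiples n
    obtain ⟨f, hf, hfx⟩ := hnI
    rcases Int.natAbs_eq n with h' | h'
    · refine ⟨f, hf, ?_⟩
      change f x = n at hfx
      rw [hfx, h', hn1]; rfl
    · refine ⟨-f, R.neg_mem hf, ?_⟩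
      change f x = n at hfx
      simp only [Pi.neg_apply, hfx]
      rw [h', hn1]; simp
  · exfalso
    apply h
    obtain ⟨p, hp, hpn⟩ := Nat.exists_prime_and_dvd hn1
    refine ⟨x, p, hp, fun f hf => ?_⟩
    have h1 : (p : ℤ) ∣ n := Int.natCast_dvd.mpr hpn
    exact dvd_trans h1 (hmem f hf)

theorem result {S : Type*} [Finite S] [Nonempty S] (R : AddSubgroup (S → ℤ)) (hmul : ∀ f ∈ R, ∀ g ∈ R, f * g ∈ R) (h1 : (1 : S → ℤ) ∉ R) : ∃ (x : S) (p : ℕ), p.Prime ∧ ∀ f ∈ R, (p : ℤ) ∣ f x := by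
  classical
  by_contra h
  have hex := exists_eval_one R h
  choose F hFR hFx using hex
  have := Fintype.ofFinite S
  have key : ∀ s : Finset S, ∃ r ∈ R, ∏ x ∈ s, (1 - F x) = 1 + r := by
    intro s
    induction s using Finset.induction_on with
    | empty => exact ⟨0, R.zero_mem, by simp⟩
    | insert a s ha ih =>
      obtain ⟨r, hr, hprod⟩ := ih
      rw [Finset.prod_insert ha, hprod]
      refine ⟨r - F a - F a * r, ?_, by ring⟩
      exact R.sub_mem (R.sub_mem hr (hFR a)) (hmul _ (hFR a) _ hr)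
  obtain ⟨r, hr, hprod⟩ := key Finset.univ
  have hzero : ∏ x ∈ (Finset.univ : Finset S), (1 - F x) = 0 := by
    funext y
    rw [Finset.prod_apply]
    apply Finset.prod_eq_zero (Finset.mem_univ y)
    simp [hFx y]
  rw [hzero] at hprod
  apply h1
  have : (1 : S → ℤ) = -r := by
    have := hprod
    linear_combination (-1 : S → ℤ) * this
  rw [this]
  exact R.neg_mem hr

end Cfsg.Agent.S0869
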