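import Mathlib
import Cfsg.Statements.S0873
import Cfsg.Agent.Lib.Helper25.CharLinear

set_option autoImplicit false
open Cfsg

namespace Cfsg.Agent.S0873

open Cfsg.Agent.Lib.Helper25

theorem linear_mul {G : Type*} [Group G] (lam : G → ℂ) (hlam : Cfsg.IsCharacter G lam ∧ lam 1 = 1)
    (g h : G) : lam (g * h) = lam g * lam h := by
  obtain ⟨⟨n, ρ, hρ⟩, h1⟩ := hlam
  have hfr : Module.finrank ℂ (Fin n → ℂ) = 1 := by
    rw [← hρ, Representation.char_one] at h1
    exact_mod_cast h1
  have hirr : ρ.IsIrreducible := isIrreducible_of_finrank_eq_one ρ hfr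
  exact irr_linear_mul ⟨lam, n, ρ, hirr, hρ⟩ h1 g h

abbrev Fiber {G : Type*} [Group G] (C : Subgroup G) (lam : C → ℂ) (c : C) : Type _ :=
  {y : C // lam y = lam c}

@[reducible] def fiberAction {G : Type*} [Group G] (C P : Subgroup G) [hC : C.Normal]
    (lam : C → ℂ)
    (hinv : ∀ (g : G) (c : C), lam ⟨g * c * g⁻¹, hC.conj_mem (c : G) c.2 g⟩ = lam c) (c : C) :
    MulAction P (Fiber C lam c) where
  smul x y := ⟨⟨(x : G) * (y.1 : G) * (x : G)⁻¹, hC.conj_mem (y.1 : G) y.1.2 x⟩, by
    rw [hinv (x : G) y.1]; exact y.2⟩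
  one_smul y := by
    apply Subtype.ext; apply Subtype.ext
    change ((1 : P) : G) * (y.1 : G) * ((1 : P) : G)⁻¹ = (y.1 : G)
    simp
  mul_smul a b y := by
    apply Subtype.ext; apply Subtype.ext
    change ((a * b : P) : G) * (y.1 : G) * ((a * b : P) : G)⁻¹ =
      (a : G) * ((b : G) * (y.1 : G) * (b : G)⁻¹) * (a : G)⁻¹
    simp only [Subgroup.coe_mul]
    group

theorem result {G : Type*} [Group G] [Finite G] (p : ℕ) [Fact p.Prime] (C P : Subgroup G) [hC : C.Normal] (hP : IsPGroup p P) (hcop : Nat.Coprime (Nat.card C) p) (hCP : C ⊔ P = ⊤) (lam : C → ℂ) (hlam : Cfsg.IsCharacter C lam ∧ lam 1 = 1) (hinv : ∀ (g : G) (c : C), lam ⟨g * c * g⁻¹, hC.conj_mem (c : G) c.2 g⟩ = lam c) (hker : ∀ c : C, (c : G) ∈ Subgroup.centralizer (P : Set G) → lam c = 1) : lam = fun _ => 1 := by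
  classical
  funext c
  have hmul := linear_mul lam hlam
  have h1 := hlam.2
  have hne : ∀ y : C, lam y ≠ 0 := by
    intro y hy
    have := hmul y y⁻¹
    rw [mul_inv_cancel, h1, hy, zero_mul] at this
    exact one_ne_zero this
  let K : Subgroup C :=
    { carrier := {k | lam k = 1}
      one_mem' := h1
      mul_mem' := by
        intro a b ha hb
        simp only [Set.mem_setOf_eq] at ha hb ⊢
        rw [hmul, ha, hb, mul_one]
      inv_mem' := by
        intro a ha
        simp only [Set.mem_setOf_eq] at ha ⊢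
        have := hmul a a⁻¹
        rw [mul_inv_cancel, h1, ha, one_mul] at this
        exact this.symm }
  let e : Fiber C lam c ≃ K :=
    { toFun := fun y => ⟨c⁻¹ * y.1, by
        change lam (c⁻¹ * y.1) = 1
        rw [hmul, y.2, ← hmul, inv_mul_cancel, h1]⟩
      invFun := fun k => ⟨c * k.1, by
        have hk : lam k.1 = 1 := k.2
        rw [hmul, hk, mul_one]⟩
      left_inv := fun y => by apply Subtype.ext; simp
      right_inv := fun k => by apply Subtype.ext; simp }
  let _ : MulAction P (Fiber C lam c) := fiberAction C P lam hinv c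
  have hcard : ¬ p ∣ Nat.card (Fiber C lam c) := by
    rw [Nat.card_congr e]
    intro hdvd
    have h2 : p ∣ Nat.card C := dvd_trans hdvd (Subgroup.card_subgroup_dvd_card K)
    have h3 : p ∣ Nat.gcd (Nat.card C) p := Nat.dvd_gcd h2 dvd_rfl
    rw [hcop] at h3
    exact (Fact.out : p.Prime).one_lt.ne' (Nat.dvd_one.mp h3)
  obtain ⟨y, hy⟩ := hP.nonempty_fixed_point_of_prime_not_dvd_card (Fiber C lam c) hcard
  rw [← y.2]
  apply hker
  rw [Subgroup.mem_centralizer_iff]
  intro x hx
  have := hy ⟨x, hx⟩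
  have h4 : x * (y.1 : G) * x⁻¹ = (y.1 : G) := congrArg (fun t : Fiber C lam c => ((t.1 : C) : G)) this
  calc x * (y.1 : G) = x * (y.1 : G) * x⁻¹ * x := by group
    _ = (y.1 : G) * x := by rw [h4]

end Cfsg.Agent.S0873
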