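import Cfsg.Statements.S0875
import Cfsg.Statements.S0875
import Cfsg.Agent.Lib.helper2.PiPart

set_option autoImplicit false
open Cfsg

namespace Cfsg.Agent.S0875

open Cfsg
open scoped ComplexConjugate

open Cfsg.Agent.Lib.helper2 Cfsg.Agent.Lib.helper7 Cfsg.Agent.Lib.Helper11 Cfsg.Agent.Lib.Helper25



/-- Let G be a finite group of order m * n with m and n coprime, and g an element whose order is coprime to m. Every x in G factors uniquely as x = u * v with u, v commuting, the order of u coprime to n and the order of v coprime to m; let ϑ be the function on G equal to n at those x whose factor v is conjugate to g and equal to 0 elsewhere. Then ϑ is a linear combination of the irreducible characters of G with algebraic-integer coefficients. -/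
theorem result {G : Type*} [Group G] [Fintype G] (m n : ℕ) (hmn : Nat.card G = m * n) (hcop : Nat.Coprime m n) (g : G) (hg : Nat.Coprime (orderOf g) m) (ϑ : G → ℂ) (hϑ1 : ∀ x : G, (∃ v : G, IsConj v g ∧ (∃ u : G, x = u * v ∧ Commute u v ∧ Nat.Coprime (orderOf u) n ∧ Nat.Coprime (orderOf v) m)) → ϑ x = n) (hϑ0 : ∀ x : G, (¬ ∃ v : G, IsConj v g ∧ (∃ u : G, x = u * v ∧ Commute u v ∧ Nat.Coprime (orderOf u) n ∧ Nat.Coprime (orderOf v) m)) → ϑ x = 0) : ∃ c : Cfsg.IrrCharacter G → ℂ, (∀ χ, c χ ∈ Cfsg.AlgInt) ∧ ϑ = ∑ᶠ χ : Cfsg.IrrCharacter G, c χ • (χ : G → ℂ) := by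
  classical
  obtain ⟨e, e', hme, hen, hne', hem', hee⟩ := exists_crt_exponent m n hcop
  have hm0 : m ≠ 0 := by
    rintro rfl
    rw [zero_mul] at hmn
    exact Nat.card_pos.ne' hmn
  have hϑ : ∀ x, ϑ x = if IsConj (x ^ e) g then (n : ℂ) else 0 := by
    intro x
    by_cases h : IsConj (x ^ e) g
    · rw [if_pos h]
      exact hϑ1 x ((pi_part_iff hmn hcop hme hen hne' hee g x).mpr h)
    · rw [if_neg h]
      exact hϑ0 x (fun h' => h ((pi_part_iff hmn hcop hme hen hne' hee g x).mp h'))
  apply bR_expansion
  apply brauer_char_coeff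
  · intro x h
    rw [hϑ, hϑ, conj_pow]
    have : IsConj (h * x ^ e * h⁻¹) g ↔ IsConj (x ^ e) g := by
      have h1 : IsConj (x ^ e) (h * x ^ e * h⁻¹) := isConj_iff.mpr ⟨h, rfl⟩
      exact ⟨fun h2 => h1.trans h2, fun h2 => h1.symm.trans h2⟩
    simp only [this]
  · intro E q hq hEl
    haveI : Group.IsNilpotent E := isNilpotent_of_isElementary q hq hEl
    haveI : Fintype E := Fintype.ofFinite E
    obtain ⟨A, hA⟩ := nilp_coprime_subgroup (E := E) m hm0
    haveI : Fintype A := Fintype.ofFinite A
    haveI : Fintype (Cfsg.IrrCharacter A) := Fintype.ofFinite _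
    have hmemA : ∀ x : E, x ^ e ∈ A := by
      intro x
      rw [hA, ← Subgroup.orderOf_coe]
      have := orderOf_pow_crt_dvd hmn hme (x : G)
      simp only [Subgroup.coe_pow]
      exact Nat.Coprime.coprime_dvd_left this hcop.symm
    let φ : E →* A :=
      { toFun := fun x => ⟨x ^ e, hmemA x⟩
        map_one' := Subtype.ext (one_pow e)
        map_mul' := fun x y => Subtype.ext
          (nilp_pow_crt_mul hmn hcop hme hen hne' hem' hee E x y) }
    have hφ : ∀ x : E, ((φ x : E) : G) = (x : G) ^ e := fun x => rfl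
    obtain ⟨F, hFdef⟩ : ∃ F : A → ℂ,
        F = fun a : A => if IsConj ((a : E) : G) g then (n : ℂ) else 0 := ⟨_, rfl⟩
    have hFcl : ∀ a h : A, F (h * a * h⁻¹) = F a := by
      intro a h
      rw [hFdef]
      have h0 : (((h * a * h⁻¹ : A) : E) : G) = ((h : E) : G) * ((a : E) : G) * ((h : E) : G)⁻¹ := by
        simp
      have : IsConj (((h : E) : G) * ((a : E) : G) * ((h : E) : G)⁻¹) g ↔ IsConj ((a : E) : G) g := by
        have h1 : IsConj ((a : E) : G) (((h : E) : G) * ((a : E) : G) * ((h : E) : G)⁻¹) :=
          isConj_iff.mpr ⟨_, rfl⟩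
        exact ⟨fun h2 => h1.trans h2, fun h2 => h1.symm.trans h2⟩
      simp only [h0, this]
    have hexp := classFunction_expansion F hFcl
    -- |A| divides n
    have hAn : Nat.card A ∣ n := by
      have h1 : Nat.Coprime (Nat.card A) m := by
        apply Nat.coprime_of_dvd
        intro r hr hrA hrm
        haveI : Fact r.Prime := ⟨hr⟩
        obtain ⟨a, ha⟩ := exists_prime_orderOf_dvd_card' r hrA
        have h2 : Nat.Coprime (orderOf (a : E)) m := (hA (a : E)).mp a.2
        rw [Subgroup.orderOf_coe, ha] at h2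
        exact hr.one_lt.ne' (Nat.Coprime.eq_one_of_dvd h2 hrm)
      have h2 : Nat.card A ∣ m * n := by
        rw [← hmn]
        exact (Subgroup.card_subgroup_dvd_card A).trans (Subgroup.card_subgroup_dvd_card E)
      exact h1.dvd_of_dvd_mul_left h2
    obtain ⟨t, ht⟩ := hAn
    have hAne : (Nat.card A : ℂ) ≠ 0 := by exact_mod_cast Nat.card_pos.ne'
    have hcoef : ∀ α : Cfsg.IrrCharacter A, Cfsg.classInner F (α : A → ℂ) ∈ Cfsg.AlgInt := by
      intro α
      have h1 : Cfsg.classInner F (α : A → ℂ) =
          (t : ℂ) * ∑ a : A, (if IsConj ((a : E) : G) g then conj ((α : A → ℂ) a) else 0) := by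
        unfold Cfsg.classInner
        have h2 : ∀ a : A, F a * conj ((α : A → ℂ) a) =
            (n : ℂ) * (if IsConj ((a : E) : G) g then conj ((α : A → ℂ) a) else 0) := by
          intro a
          rw [hFdef]
          by_cases h : IsConj ((a : E) : G) g
          · simp only [h, if_true]
          · simp only [h, if_false, zero_mul, mul_zero]
        simp only [h2]
        rw [← Finset.mul_sum, ht]
        push_cast
        field_simp
      rw [h1]
      refine mul_mem (natCast_mem _ t) (sum_mem fun a _ => ?_)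
      by_cases h : IsConj ((a : E) : G) g
      · rw [if_pos h]
        exact map_isIntegral_int (starRingEnd ℂ) (irr_integral α a)
      · rw [if_neg h]
        exact zero_mem _
    have hfun : (fun x : E => ϑ x) =
        ∑ α : Cfsg.IrrCharacter A, Cfsg.classInner F (α : A → ℂ) •
          (fun x : E => (α : A → ℂ) (φ x)) := by
      funext x
      have h1 : ϑ (x : G) = F (φ x) := by
        rw [hϑ, hFdef]
        simp only [hφ]
      rw [h1]
      have := congrFun hexp (φ x)
      rw [this]
      simp only [Finset.sum_apply, Pi.smul_apply]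
    rw [hfun]
    apply Submodule.sum_mem
    intro α _
    exact smul_char_mem_bR _ (isCharacter_comp_hom (isCharacter_of_irr α) φ) (hcoef α)

end Cfsg.Agent.S0875
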