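import Cfsg.Statements.S0876
import Cfsg.Statements.S0876
import Cfsg.Agent.Lib.helper2.PModular
import Cfsg.Agent.S0875

set_option autoImplicit false
open Cfsg

namespace Cfsg.Agent.S0876

open Cfsg
open scoped ComplexConjugate

open Cfsg.Agent.Lib.helper2 Cfsg.Agent.Lib.helper7 Cfsg.Agent.Lib.Helper11 Cfsg.Agent.Lib.Helper25



/-- Let G be a finite group, p a prime and M a maximal ideal of the ring of algebraic integers containing p. Let x, y be elements with p-parts a and b (so a⁻¹ * x and b⁻¹ * y are their p-regular parts). Then a⁻¹ * x and b⁻¹ * y are conjugate in G if and only if, for every irreducible character χ, the difference χ x - χ y lies in the local ideal at M. -/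
theorem result {G : Type*} [Group G] [Finite G] (p : ℕ) (M : Ideal Cfsg.AlgInt) (hM : Cfsg.IsPModular p M) (x y a b : G) (ha : Cfsg.IsPPart p x a) (hb : Cfsg.IsPPart p y b) : IsConj (a⁻¹ * x) (b⁻¹ * y) ↔ ∀ χ : Cfsg.IrrCharacter G, Cfsg.MemLocalIdeal M ((χ : G → ℂ) x - (χ : G → ℂ) y) := by
  classical
  haveI : Fintype G := Fintype.ofFinite G
  haveI : Fintype (Cfsg.IrrCharacter G) := Fintype.ofFinite _
  have hp : p.Prime := hM.1
  have hprime : M.IsPrime := hM.2.1.isPrime
  obtain ⟨r, hr⟩ : ∃ r, r = (Nat.card G).factorization p := ⟨_, rfl⟩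
  obtain ⟨m, hm⟩ : ∃ m, m = p ^ r := ⟨_, rfl⟩
  obtain ⟨n, hn⟩ : ∃ n, n = Nat.card G / p ^ r := ⟨_, rfl⟩
  have hmn : Nat.card G = m * n := by
    rw [hm, hn, hr]
    exact (Nat.ordProj_mul_ordCompl_eq_self (Nat.card G) p).symm
  have hpn : p.Coprime n := by
    rw [hn, hr]
    exact Nat.coprime_ordCompl hp Nat.card_pos.ne'
  have hcop : m.Coprime n := by
    rw [hm]
    exact Nat.Coprime.pow_left r hpn
  obtain ⟨e, e', hme, hen, hne', hem', hee⟩ := exists_crt_exponent m n hcop
  -- the p-regular part is the e-th power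
  have hpart : ∀ z c : G, Cfsg.IsPPart p z c → z ^ e = c⁻¹ * z := by
    rintro z c ⟨w, rfl, hcw, ⟨k, hk⟩, hw⟩
    have h1 : Nat.Coprime (orderOf c) n := by
      rw [hk]
      exact Nat.Coprime.pow_left k hpn
    have h2 : Nat.Coprime (orderOf w) m := by
      rw [hm]
      exact Nat.Coprime.pow_right r ((Nat.Prime.coprime_iff_not_dvd hp).mpr hw).symm
    rw [hcw.mul_pow, pow_crt_of_coprime_right hmn hme h1, pow_crt_of_coprime_left hmn hen h2]
    group
  rw [← hpart x a ha, ← hpart y b hb]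
  have hkey : ∀ (χ : Cfsg.IrrCharacter G) (z : G),
      Cfsg.MemLocalIdeal M ((χ : G → ℂ) z - (χ : G → ℂ) (z ^ e)) := fun χ z =>
    char_sub_pow_crt_memLocalIdeal hM hmn hm hne' hee (isCharacter_of_irr χ) z
  constructor
  · intro hconj χ
    have h1 : (χ : G → ℂ) x - (χ : G → ℂ) y =
        ((χ : G → ℂ) x - (χ : G → ℂ) (x ^ e)) - ((χ : G → ℂ) y - (χ : G → ℂ) (y ^ e)) := by
      rw [irr_isConj_eq χ hconj]
      ring
    rw [h1]
    exact h7_memLocalIdeal_sub hprime (hkey χ x) (hkey χ y)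
  · intro hall
    by_contra hnc
    have hg : Nat.Coprime (orderOf (x ^ e)) m :=
      Nat.Coprime.coprime_dvd_left (orderOf_pow_crt_dvd hmn hme x) hcop.symm
    obtain ⟨ϑ, hϑ⟩ : ∃ ϑ : G → ℂ, ϑ = fun z => if IsConj (z ^ e) (x ^ e) then (n : ℂ) else 0 :=
      ⟨_, rfl⟩
    obtain ⟨c, hc, hexp⟩ := Cfsg.Agent.S0875.result m n hmn hcop (x ^ e) hg ϑ
      (fun z hz => by
        rw [hϑ]
        simp only [(pi_part_iff hmn hcop hme hen hne' hee (x ^ e) z).mp hz, if_true])
      (fun z hz => by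
        rw [hϑ]
        have : ¬ IsConj (z ^ e) (x ^ e) :=
          fun h => hz ((pi_part_iff hmn hcop hme hen hne' hee (x ^ e) z).mpr h)
        simp only [this, if_false])
    rw [finsum_eq_sum_of_fintype] at hexp
    have hx : ϑ x = (n : ℂ) := by
      rw [hϑ]
      simp only [IsConj.refl, if_true]
    have hy : ϑ y = 0 := by
      rw [hϑ]
      have : ¬ IsConj (y ^ e) (x ^ e) := fun h => hnc h.symm
      simp only [this, if_false]
    have h1 : (n : ℂ) = ∑ χ : Cfsg.IrrCharacter G, c χ * ((χ : G → ℂ) x - (χ : G → ℂ) y) := by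
      have h2 := congrFun hexp x
      have h3 := congrFun hexp y
      simp only [Finset.sum_apply, Pi.smul_apply, smul_eq_mul] at h2 h3
      rw [hx] at h2
      rw [hy] at h3
      simp only [mul_sub, Finset.sum_sub_distrib]
      rw [← h2, ← h3, sub_zero]
    have h2 : Cfsg.MemLocalIdeal M (n : ℂ) := by
      rw [h1]
      apply h7_memLocalIdeal_sum hprime
      intro χ _
      apply h7_memLocalIdeal_mul_left hprime _ (hall χ)
      exact h7_memLocalRing_of_algInt hprime (⟨c χ, hc χ⟩ : Cfsg.AlgInt)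
    have h3 : (n : Cfsg.AlgInt) ∈ M := by
      rw [← h7_memLocalIdeal_algInt_iff hprime]
      simpa using h2
    have hco : IsCoprime (n : ℤ) (p : ℤ) := Nat.isCoprime_iff_coprime.mpr hpn.symm
    obtain ⟨u, v, huv⟩ := hco
    have h4 : (1 : Cfsg.AlgInt) = (u : Cfsg.AlgInt) * (n : Cfsg.AlgInt) +
        (v : Cfsg.AlgInt) * (p : Cfsg.AlgInt) := by
      have := congrArg (fun z : ℤ => (z : Cfsg.AlgInt)) huv
      simp only [Int.cast_add, Int.cast_mul, Int.cast_natCast, Int.cast_one] at this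
      exact this.symm
    apply h7_one_not_mem hprime
    rw [h4]
    exact M.add_mem (M.mul_mem_left _ h3) (M.mul_mem_left _ hM.2.2)

end Cfsg.Agent.S0876
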