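import Cfsg.Statements.S0879
import Cfsg.Statements.S0879

set_option autoImplicit false
open Cfsg

namespace Cfsg.Agent.S0879

open Cfsg

theorem mem_E {G Ω : Type*} [Group G] [MulAction G Ω] (a b : Ω) (x : G) :
    x ∈ (MulAction.stabilizer G a ⊓ MulAction.stabilizer G b : Subgroup G) ↔ x • a = a ∧ x • b = b := by
  rw [Subgroup.mem_inf, MulAction.mem_stabilizer_iff, MulAction.mem_stabilizer_iff]

theorem lemA {G Ω : Type*} [Group G] [MulAction G Ω] (a b : Ω) (g : G)
    (h : (g • a = a ∧ g • b = b) ∨ (g • a = b ∧ g • b = a)) :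
    g ∈ Subgroup.normalizer ((MulAction.stabilizer G a ⊓ MulAction.stabilizer G b : Subgroup G) : Set G) := by
  rw [Subgroup.mem_normalizer_iff]
  intro y
  rcases h with ⟨h1, h2⟩ | ⟨h1, h2⟩
  · have hg : g ∈ (MulAction.stabilizer G a ⊓ MulAction.stabilizer G b : Subgroup G) :=
      (mem_E a b g).mpr ⟨h1, h2⟩
    constructor
    · intro hy
      exact Subgroup.mul_mem _ (Subgroup.mul_mem _ hg hy) (Subgroup.inv_mem _ hg)
    · intro hy
      have := Subgroup.mul_mem _ (Subgroup.mul_mem _ (Subgroup.inv_mem _ hg) hy) hg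
      simpa [mul_assoc] using this
  · have h3 : g⁻¹ • a = b := by rw [← h2, inv_smul_smul]
    have h4 : g⁻¹ • b = a := by rw [← h1, inv_smul_smul]
    rw [mem_E, mem_E]
    simp only [mul_smul, h3, h4]
    constructor
    · rintro ⟨ha, hb⟩
      rw [hb, ha]
      exact ⟨h2, h1⟩
    · rintro ⟨ha, hb⟩
      constructor
      · have : g • y • a = g • a := by rw [hb, h1]
        exact smul_left_cancel g this
      · have : g • y • b = g • b := by rw [ha, h2]
        exact smul_left_cancel g this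

theorem lemB {G Ω : Type*} [Group G] [MulAction G Ω]
    (h3 : ∀ g : G, ∀ a b c : Ω, a ≠ b → b ≠ c → a ≠ c → g • a = a → g • b = b → g • c = c → g = 1)
    {a b : Ω} (hab : a ≠ b) (g x : G)
    (hx : x ∈ (MulAction.stabilizer G a ⊓ MulAction.stabilizer G b : Subgroup G)) (hx1 : x ≠ 1)
    (hgx : g * x * g⁻¹ ∈ (MulAction.stabilizer G a ⊓ MulAction.stabilizer G b : Subgroup G)) :
    (g • a = a ∧ g • b = b) ∨ (g • a = b ∧ g • b = a) := by
  rw [mem_E] at hx hgx
  obtain ⟨hxa, hxb⟩ := hx
  obtain ⟨hga, hgb⟩ := hgx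
  have hfix : ∀ c : Ω, x • c = c → c = a ∨ c = b := by
    intro c hc
    by_contra hcon
    push Not at hcon
    exact hx1 (h3 x a b c hab (Ne.symm hcon.2) (Ne.symm hcon.1) hxa hxb hc)
  have h1 : x • (g⁻¹ • a) = g⁻¹ • a := by
    have : g • x • g⁻¹ • a = a := by simpa [mul_smul] using hga
    exact eq_inv_smul_iff.mpr this
  have h2 : x • (g⁻¹ • b) = g⁻¹ • b := by
    have : g • x • g⁻¹ • b = b := by simpa [mul_smul] using hgb
    exact eq_inv_smul_iff.mpr this
  have hne : g⁻¹ • a ≠ g⁻¹ • b := fun h => hab (smul_left_cancel _ h)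
  rcases hfix _ h1 with ha | ha <;> rcases hfix _ h2 with hb | hb
  · exact absurd (ha.trans hb.symm) hne
  · left
    exact ⟨(inv_smul_eq_iff.mp ha).symm, (inv_smul_eq_iff.mp hb).symm⟩
  · right
    exact ⟨(inv_smul_eq_iff.mp hb).symm, (inv_smul_eq_iff.mp ha).symm⟩
  · exact absurd (ha.trans hb.symm) hne



/-- Let G be a Zassenhaus group on the finite set Ω and E the stabilizer of two distinct points a, b. Then an element outside the normalizer of E conjugates no non-identity element of E into E, and E has index 2 in its normalizer. -/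
theorem result {G Ω : Type*} [Group G] [Finite G] [MulAction G Ω] [Fintype Ω] (hZ : Cfsg.IsZassenhausGroup G Ω) {a b : Ω} (hab : a ≠ b) : (∀ g : G, g ∉ Subgroup.normalizer ((MulAction.stabilizer G a ⊓ MulAction.stabilizer G b : Subgroup G) : Set G) → ∀ x ∈ (MulAction.stabilizer G a ⊓ MulAction.stabilizer G b : Subgroup G), g * x * g⁻¹ ∈ (MulAction.stabilizer G a ⊓ MulAction.stabilizer G b : Subgroup G) → x = 1) ∧ ((MulAction.stabilizer G a ⊓ MulAction.stabilizer G b : Subgroup G).subgroupOf (Subgroup.normalizer ((MulAction.stabilizer G a ⊓ MulAction.stabilizer G b : Subgroup G) : Set G))).index = 2 := by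
  obtain ⟨hfaith, h2t, h3, ⟨g₀, hg₀, a', b', hab', hga', hgb'⟩, -⟩ := hZ
  rw [MulAction.is_two_pretransitive_iff] at h2t
  refine ⟨?_, ?_⟩
  · intro g hg x hx hgx
    by_contra hx1
    exact hg (lemA a b g (lemB h3 hab g x hx hx1 hgx))
  · rw [Subgroup.index_eq_two_iff]
    obtain ⟨t, hta, htb⟩ := h2t hab (Ne.symm hab)
    have htN := lemA a b t (Or.inr ⟨hta, htb⟩)
    obtain ⟨k, hka, hkb⟩ := h2t hab' hab
    have hx₀ : k * g₀ * k⁻¹ ∈ (MulAction.stabilizer G a ⊓ MulAction.stabilizer G b : Subgroup G) := by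
      rw [mem_E]
      constructor
      · rw [mul_smul, mul_smul, ← hka, inv_smul_smul, hga']
      · rw [mul_smul, mul_smul, ← hkb, inv_smul_smul, hgb']
    have hx₀1 : k * g₀ * k⁻¹ ≠ 1 := by
      intro h
      apply hg₀
      have : g₀ = k⁻¹ * (k * g₀ * k⁻¹) * k := by group
      rw [this, h]
      group
    refine ⟨⟨t, htN⟩, ?_⟩
    intro g
    have hgN := g.2
    have hconj : (g : G) * (k * g₀ * k⁻¹) * (g : G)⁻¹ ∈
        (MulAction.stabilizer G a ⊓ MulAction.stabilizer G b : Subgroup G) :=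
      ((Subgroup.mem_normalizer_iff.mp hgN) _).mp hx₀
    rcases lemB h3 hab g _ hx₀ hx₀1 hconj with ⟨h1, h2⟩ | ⟨h1, h2⟩
    · right
      refine ⟨?_, ?_⟩
      · rw [Subgroup.mem_subgroupOf, mem_E]
        exact ⟨h1, h2⟩
      · rw [Subgroup.mem_subgroupOf, mem_E]
        intro hh
        have : ((g * ⟨t, htN⟩ : Subgroup.normalizer _) : G) • a = (g : G) • t • a := by
          rw [Subgroup.coe_mul, mul_smul]
        rw [this, hta, h2] at hh
        exact hab hh.1.symm
    · left
      refine ⟨?_, ?_⟩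
      · rw [Subgroup.mem_subgroupOf, mem_E]
        have e1 : ((g * ⟨t, htN⟩ : Subgroup.normalizer _) : G) • a = (g : G) • t • a := by
          rw [Subgroup.coe_mul, mul_smul]
        have e2 : ((g * ⟨t, htN⟩ : Subgroup.normalizer _) : G) • b = (g : G) • t • b := by
          rw [Subgroup.coe_mul, mul_smul]
        rw [e1, e2, hta, htb]
        exact ⟨h2, h1⟩
      · rw [Subgroup.mem_subgroupOf, mem_E]
        intro hh
        rw [h1] at hh
        exact hab hh.1.symm

end Cfsg.Agent.S0879
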