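import Cfsg.Statements.S0880
import Cfsg.Statements.S0880
import Cfsg.Agent.Lib.helper2.Zass

set_option autoImplicit false
open Cfsg

namespace Cfsg.Agent.S0880

open Cfsg
open Cfsg.Agent.Lib.helper2

theorem class_count {G : Type*} [Group G] [Fintype G] [DecidableEq G] (x : G) (F : Finset G)
    (hF : ∀ y : G, y ∈ F ↔ ∃ t : G, t * x * t⁻¹ = y) :
    Fintype.card G = F.card * (Finset.univ.filter (fun g : G => g * x = x * g)).card := by
  rw [← Finset.card_univ (α := G),
    Finset.card_eq_sum_card_fiberwise (f := fun t : G => t * x * t⁻¹) (t := F)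
      (fun t _ => (hF _).mpr ⟨t, rfl⟩)]
  rw [Finset.sum_const_nat (m := (Finset.univ.filter (fun g : G => g * x = x * g)).card)]
  intro y hy
  obtain ⟨t₀, ht₀⟩ := (hF y).mp hy
  apply Finset.card_bij (fun t _ => t₀⁻¹ * t)
  · intro t ht
    simp only [Finset.mem_filter, Finset.mem_univ, true_and] at ht ⊢
    rw [← ht₀] at ht
    have h1 : t * x = t₀ * x * t₀⁻¹ * t := by
      rw [← ht]
      group
    calc t₀⁻¹ * t * x = t₀⁻¹ * (t * x) := by group
      _ = t₀⁻¹ * (t₀ * x * t₀⁻¹ * t) := by rw [h1]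
      _ = x * (t₀⁻¹ * t) := by group
  · intro g _ h _ hgh
    simpa using hgh
  · intro g hg
    simp only [Finset.mem_filter, Finset.mem_univ, true_and] at hg ⊢
    refine ⟨t₀ * g, ?_, by group⟩
    rw [← ht₀]
    calc t₀ * g * x * (t₀ * g)⁻¹ = t₀ * (g * x) * g⁻¹ * t₀⁻¹ := by group
      _ = t₀ * (x * g) * g⁻¹ * t₀⁻¹ := by rw [hg]
      _ = t₀ * x * t₀⁻¹ := by group



/-- Let G be a finite simple Zassenhaus group on Ω with n points whose two-point stabilizer E has odd order less than n - 2. Then there are two elements of G, each fixing no point of Ω, that are not conjugate. -/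
theorem result {G Ω : Type*} [Group G] [Finite G] [MulAction G Ω] [Fintype Ω] (hZ : Cfsg.IsZassenhausGroup G Ω) {a b : Ω} (hab : a ≠ b) [IsSimpleGroup G] (hodd : Odd (Nat.card ↥(MulAction.stabilizer G a ⊓ MulAction.stabilizer G b : Subgroup G))) (hlt : Nat.card ↥(MulAction.stabilizer G a ⊓ MulAction.stabilizer G b : Subgroup G) < Fintype.card Ω - 2) : ∃ x y : G, (∀ c : Ω, x • c ≠ c) ∧ (∀ c : Ω, y • c ≠ c) ∧ ¬ IsConj x y := by
  classical
  haveI := Fintype.ofFinite G
  obtain ⟨hfaith, h2t, h3, ⟨g₀, hg₀, a', b', hab', hga', hgb'⟩, -⟩ := hZ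
  rw [MulAction.is_two_pretransitive_iff] at h2t
  obtain ⟨e, he⟩ : ∃ e : ℕ, e = stab2Card G a b := ⟨_, rfl⟩
  have hecard : Nat.card ↥(MulAction.stabilizer G a ⊓ MulAction.stabilizer G b : Subgroup G) = e := by
    rw [he, Nat.card_eq_fintype_card, Fintype.card_subtype]
    unfold stab2Card
    congr 1
    ext g
    simp [Subgroup.mem_inf, MulAction.mem_stabilizer_iff]
  rw [hecard] at hodd hlt
  -- e ≥ 3
  have he2 : 2 ≤ e := by
    obtain ⟨t, hta, htb⟩ := h2t hab' hab
    have h1 : (1 : G) ∈ Finset.univ.filter (fun g : G => g • a = a ∧ g • b = b) := by simp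
    have h2 : t * g₀ * t⁻¹ ∈ Finset.univ.filter (fun g : G => g • a = a ∧ g • b = b) := by
      simp only [Finset.mem_filter, Finset.mem_univ, true_and]
      constructor
      · rw [mul_smul, mul_smul, ← hta, inv_smul_smul, hga']
      · rw [mul_smul, mul_smul, ← htb, inv_smul_smul, hgb']
    have h3' : (1 : G) ≠ t * g₀ * t⁻¹ := by
      intro h
      apply hg₀
      have : g₀ = t⁻¹ * (t * g₀ * t⁻¹) * t := by group
      rw [this, ← h]
      group
    have := Finset.card_le_card (Finset.insert_subset h1 (Finset.singleton_subset_iff.mpr h2))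
    rw [Finset.card_pair h3'] at this
    rw [he]
    exact this
  have he3 : 3 ≤ e := by
    obtain ⟨k, hk⟩ := hodd
    omega
  -- fixed point bound
  have hfix : ∀ g : G, g ≠ 1 → fixCard Ω g ≤ 2 := by
    intro g hg
    by_contra hcon
    push Not at hcon
    unfold fixCard at hcon
    obtain ⟨c₁, hc₁, c₂, hc₂, c₃, hc₃, h12, h13, h23⟩ := Finset.two_lt_card.mp hcon
    simp only [Finset.mem_filter, Finset.mem_univ, true_and] at hc₁ hc₂ hc₃
    exact hg (h3 g c₁ c₂ c₃ h12 h23 h13 hc₁ hc₂ hc₃)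
  obtain ⟨hN, hs1, hs2⟩ := two_trans_sums (G := G) h2t a b hab
  rw [← he] at hN
  obtain ⟨f, hf⟩ : ∃ f : ℕ → ℕ, ∀ k, f k =
      (Finset.univ.filter (fun g : G => g ≠ 1 ∧ fixCard Ω g = k)).card := ⟨_, fun _ => rfl⟩
  obtain ⟨e1, e2, e3⟩ := zass_counts hfix hs1 hs2 f hf
  obtain ⟨k, hk⟩ : ∃ k : ℕ, Fintype.card Ω = k + 2 := ⟨Fintype.card Ω - 2, by omega⟩
  have hk4 : 4 ≤ k := by omega
  obtain ⟨N, hNdef⟩ : ∃ N : ℕ, N = Fintype.card G := ⟨_, rfl⟩
  rw [← hNdef] at hN e1 e2 e3
  rw [hk] at hN e1 e2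
  have hN' : N = (k + 2) * ((k + 1) * e) := by
    rw [hN]
    congr 2
  -- 2 f0 + (k+1) k = N
  have hf0 : 2 * f 0 + (k + 1) * k = N := by nlinarith
  have hf0pos : 0 < f 0 := by
    by_contra h
    have h0 : f 0 = 0 := by omega
    rw [h0] at hf0
    nlinarith
  by_contra hcon
  push Not at hcon
  -- pick x
  have hne : (Finset.univ.filter (fun g : G => g ≠ 1 ∧ fixCard Ω g = 0)).Nonempty := by
    rw [← Finset.card_pos, ← hf 0]
    exact hf0pos
  obtain ⟨x, hx⟩ := hne
  simp only [Finset.mem_filter, Finset.mem_univ, true_and] at hx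
  have hfpf : ∀ g : G, fixCard Ω g = 0 ↔ ∀ c : Ω, g • c ≠ c := by
    intro g
    unfold fixCard
    rw [Finset.card_eq_zero, Finset.filter_eq_empty_iff]
    simp
  have hclass : ∀ y : G, y ∈ Finset.univ.filter (fun g : G => g ≠ 1 ∧ fixCard Ω g = 0) ↔
      ∃ t : G, t * x * t⁻¹ = y := by
    intro y
    simp only [Finset.mem_filter, Finset.mem_univ, true_and]
    constructor
    · rintro ⟨_, hy0⟩
      have := hcon x y ((hfpf x).mp hx.2) ((hfpf y).mp hy0)
      rw [isConj_iff] at this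
      exact this
    · rintro ⟨t, rfl⟩
      refine ⟨?_, ?_⟩
      · intro h
        apply hx.1
        have : x = t⁻¹ * (t * x * t⁻¹) * t := by group
        rw [this, h]
        group
      · rw [fixCard_conj]
        exact hx.2
  have hcc := class_count x _ hclass
  rw [← hf 0, ← hNdef] at hcc
  obtain ⟨c, hc⟩ : ∃ c : ℕ, c = (Finset.univ.filter (fun g : G => g * x = x * g)).card := ⟨_, rfl⟩
  rw [← hc] at hcc
  -- arithmetic
  obtain ⟨q, hq⟩ : ∃ q : ℕ, q = (k + 2) * e := ⟨_, rfl⟩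
  have hq3 : 3 * (k + 2) ≤ q := by
    rw [hq]
    nlinarith
  have hNq : N = (k + 1) * q := by
    rw [hN', hq]
    ring
  -- 2 f0 = (k+1) (q - k)
  obtain ⟨w, hw⟩ : ∃ w : ℕ, w + k = q := ⟨q - k, by omega⟩
  have h2f0 : 2 * f 0 = (k + 1) * w := by
    have h0 : 2 * f 0 + (k + 1) * k = (k + 1) * (w + k) := by rw [hf0, hNq, hw]
    have h0' : (k + 1) * (w + k) = (k + 1) * w + (k + 1) * k := by ring
    linarith
  have hkey : 2 * q = w * c := by
    have h1 : 2 * N = 2 * f 0 * c := by rw [hcc]; ring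
    rw [h2f0, hNq] at h1
    have h2 : (k + 1) * (2 * q) = (k + 1) * (w * c) := by
      have e1 : 2 * ((k + 1) * q) = (k + 1) * (2 * q) := by ring
      have e2 : (k + 1) * w * c = (k + 1) * (w * c) := by ring
      rw [← e1, ← e2]
      exact h1
    exact Nat.eq_of_mul_eq_mul_left (by omega) h2
  rcases Nat.lt_or_ge c 3 with hc3 | hc3
  · interval_cases c
    · omega
    · omega
    · omega
  · have : w * 3 ≤ w * c := Nat.mul_le_mul_left w hc3
    omega

end Cfsg.Agent.S0880
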