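import Mathlib
import Cfsg.Statements.S0892
import Cfsg.Agent.Lib.helper3.AltStepG

set_option autoImplicit false
open Cfsg

namespace Cfsg.Agent.S0892

/-- Let n ≥ 4 with n ≠ 6 and n ≠ 7, and let Γ be a finite group with a subgroup Z contained in both the centre and the commutator subgroup of Γ such that Γ / Z is isomorphic to the alternating group on n letters. Then Z has order at most 2. -/
theorem result (n : ℕ) (hn : 4 ≤ n) (h6 : n ≠ 6) (h7 : n ≠ 7) {Γ : Type*} [Group Γ] [Finite Γ] (Z : Subgroup Γ) [Z.Normal] (hZc : Z ≤ Subgroup.center Γ) (hZd : Z ≤ commutator Γ) (e : Γ ⧸ Z ≃* alternatingGroup (Fin n)) : Nat.card Z ≤ 2 := by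
  -- the stem extension
  obtain ⟨σ, hσdef⟩ : ∃ σ : Γ →* alternatingGroup (Fin n),
      σ = e.toMonoidHom.comp (QuotientGroup.mk' Z) := ⟨_, rfl⟩
  have hker : σ.ker = Z := by
    ext x
    rw [MonoidHom.mem_ker, hσdef, MonoidHom.comp_apply]
    constructor
    · intro h
      have h1 := (MulEquiv.map_eq_one_iff e).mp h
      rw [QuotientGroup.mk'_apply, QuotientGroup.eq_one_iff] at h1
      exact h1
    · intro h
      have h1 : QuotientGroup.mk' Z x = 1 := by
        rw [QuotientGroup.mk'_apply, QuotientGroup.eq_one_iff]; exact h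
      rw [h1]
      exact map_one _
  have hst : Cfsg.IsStemExtension σ := by
    refine ⟨?_, ?_, ?_⟩
    · rw [hσdef]
      exact e.surjective.comp (QuotientGroup.mk'_surjective Z)
    · rw [hker]; exact hZc
    · rw [hker]; exact hZd
  rw [← hker]
  by_cases h4 : n = 4
  · subst h4
    exact Cfsg.Agent.Lib.helper3.alt4_card_le σ hst
  by_cases h5 : n = 5
  · subst h5
    exact Cfsg.Agent.Lib.helper3.alt5_card_le σ hst
  · exact Cfsg.Agent.Lib.helper3.alt_ge_eight_card_le n (by omega) σ hst

end Cfsg.Agent.S0892
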