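import Mathlib
import Cfsg.Statements.S0893
import Cfsg.Agent.Lib.helper7.CharCentral
import Cfsg.Agent.Lib.Helper25.CharBound
import Cfsg.Agent.S0900

set_option autoImplicit false
open Cfsg

namespace Cfsg.Agent.S0893

open Cfsg.Agent.Lib.helper7
open scoped ComplexConjugate

theorem exists_comm_shift {P : Type*} [Group P] (hcomm : commutator P = Subgroup.center P)
    (x : P) (hx : x ∉ Subgroup.center P) :
    ∃ y z : P, z ∈ Subgroup.center P ∧ z ≠ 1 ∧ y * x * y⁻¹ = z * x := by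
  have : ∃ y : P, y * x ≠ x * y := by
    by_contra hall
    push Not at hall
    apply hx
    rw [Subgroup.mem_center_iff]
    exact hall
  obtain ⟨y, hy⟩ := this
  refine ⟨y, y * x * y⁻¹ * x⁻¹, ?_, ?_, ?_⟩
  · rw [← hcomm, commutator_def]
    have := Subgroup.commutator_mem_commutator (Subgroup.mem_top y) (Subgroup.mem_top x)
    rwa [commutatorElement_def] at this
  · intro h1
    apply hy
    have : y * x * y⁻¹ * x⁻¹ * (x * y) = 1 * (x * y) := by rw [h1]
    rw [one_mul] at this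
    rw [← this]
    group
  · group

theorem mem_zpowers_of_center_prime {P : Type*} [Group P] (p : ℕ) [Fact p.Prime]
    (hZ : Nat.card (Subgroup.center P) = p) (z a : P) (hz : z ∈ Subgroup.center P) (hz1 : z ≠ 1)
    (ha : a ∈ Subgroup.center P) : a ∈ Subgroup.zpowers z := by
  have hz' : (⟨z, hz⟩ : Subgroup.center P) ≠ 1 := by
    intro h
    apply hz1
    exact congrArg Subtype.val h
  have htop := zpowers_eq_top_of_prime_card hZ hz'
  have hmem : (⟨a, ha⟩ : Subgroup.center P) ∈ Subgroup.zpowers (⟨z, hz⟩ : Subgroup.center P) := by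
    rw [htop]; exact Subgroup.mem_top _
  obtain ⟨k, hk⟩ := Subgroup.mem_zpowers_iff.mp hmem
  refine Subgroup.mem_zpowers_iff.mpr ⟨k, ?_⟩
  have := congrArg Subtype.val hk
  simpa using this

theorem vanish_off_center {P : Type*} [Group P] (p : ℕ) [Fact p.Prime]
    (hcomm : commutator P = Subgroup.center P) (hZ : Nat.card (Subgroup.center P) = p)
    (ψ : P → ℂ) (hψ : Cfsg.IsIrrCharacter P ψ) (a0 : P) (ha0 : a0 ∈ Subgroup.center P)
    (hne : a0 ∉ h7_shiftKer ψ) (x : P) (hx : x ∉ Subgroup.center P) : ψ x = 0 := by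
  obtain ⟨y, z, hz, hz1, hxy⟩ := exists_comm_shift hcomm x hx
  exact h7_vanish_of_central_shift hψ z hz a0 (mem_zpowers_of_center_prime p hZ z a0 hz hz1 ha0)
    hne x y hxy

theorem degree_bound {P : Type*} [Group P] [Fintype P] (p : ℕ) [Fact p.Prime]
    (hZ : Nat.card (Subgroup.center P) = p) (ψ : P → ℂ) (hψ : Cfsg.IsIrrCharacter P ψ)
    (hvan : ∀ x : P, x ∉ Subgroup.center P → ψ x = 0) (d : ℕ) (hd : ψ 1 = (d : ℂ)) :
    Nat.card P ≤ p * d ^ 2 := by
  classical
  have h1 := Cfsg.Agent.S0900.sum_normSq_irr ψ hψ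
  have h2 : ∑ g : P, Complex.normSq (ψ g) =
      ∑ g : P, (if g ∈ Subgroup.center P then Complex.normSq (ψ g) else 0) := by
    apply Finset.sum_congr rfl
    intro g _
    split_ifs with hg
    · rfl
    · rw [hvan g hg]; simp
  have h3 : ∑ g : P, (if g ∈ Subgroup.center P then Complex.normSq (ψ g) else 0) ≤
      ∑ g : P, (if g ∈ Subgroup.center P then ((d : ℝ) ^ 2) else 0) := by
    apply Finset.sum_le_sum
    intro g _
    split_ifs with hg
    · have := Cfsg.Agent.Lib.Helper25.irr_norm_le (⟨ψ, hψ⟩ : Cfsg.IrrCharacter P) g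
      simp only at this
      rw [hd] at this
      rw [Complex.normSq_eq_norm_sq]
      have hnn : (0 : ℝ) ≤ ‖ψ g‖ := norm_nonneg _
      have h4 : ‖((d : ℕ) : ℂ)‖ = (d : ℝ) := by simp
      rw [h4] at this
      exact pow_le_pow_left₀ hnn this 2
    · exact le_refl _
  have h5 : ∑ g : P, (if g ∈ Subgroup.center P then ((d : ℝ) ^ 2) else 0) =
      (p : ℝ) * (d : ℝ) ^ 2 := by
    rw [← Finset.sum_filter, Finset.sum_const, nsmul_eq_mul]
    congr 1
    rw [← hZ, Nat.card_eq_fintype_card, Fintype.card_subtype]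
  rw [h2] at h1
  rw [h1, h5] at h3
  exact_mod_cast h3

theorem result {P : Type*} [Group P] [Fintype P] (p n : ℕ) [Fact p.Prime] (hP : Cfsg.IsExtraspecial p P) (hcard : Nat.card P = p ^ (2 * n + 1)) (A : Subgroup P) (hab : ∀ a ∈ A, ∀ b ∈ A, a * b = b * a) (hA : Nat.card A = p ^ (n + 1)) (lam : A → ℂ) (hlam : Cfsg.IsCharacter A lam ∧ lam 1 = 1) (hZ : ∃ a : A, (a : P) ∈ Subgroup.center P ∧ lam a ≠ 1) : Cfsg.IsIrrCharacter P (Cfsg.indFun A lam) ∧ ∀ x : P, x ∉ Subgroup.center P → Cfsg.indFun A lam x = 0 := by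
  classical
  obtain ⟨⟨hpg, hfrat, hcomm⟩, hZcard⟩ := hP
  have : Fintype A := Fintype.ofFinite _
  have hp := (Fact.out : p.Prime)
  have hχc : Cfsg.IsCharacter P (Cfsg.indFun A lam) :=
    Cfsg.Agent.Lib.helper2.isCharacter_indFun A lam hlam.1
  have hidx : A.index = p ^ n := by
    have h1 := Subgroup.index_mul_card A
    rw [hA, hcard] at h1
    have h2 : A.index * p ^ (n + 1) = p ^ n * p ^ (n + 1) := by rw [h1]; ring
    exact Nat.eq_of_mul_eq_mul_right (pow_pos hp.pos _) h2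
  have hχ1 : Cfsg.indFun A lam 1 = ((p ^ n : ℕ) : ℂ) := by
    rw [h7_indFun_one, hlam.2, mul_one, hidx]
  have hχ1ne : Cfsg.indFun A lam 1 ≠ 0 := by
    rw [hχ1]
    exact_mod_cast (pow_pos hp.pos n).ne'
  obtain ⟨ψ, m, hm, hψm⟩ := Cfsg.Agent.Lib.helper2.isCharacter_exists_constituent hχc hχ1ne
  have hclψ := h7_irr_isClassFunction ψ.2
  have hcon : Cfsg.classInner (fun a : A => (ψ : P → ℂ) a) lam ≠ 0 := by
    intro h0
    have h1 := h7_frobenius_irr A (ψ : P → ℂ) hclψ lam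
    rw [hψm, h0, map_zero] at h1
    have : (m : ℂ) ≠ 0 := by exact_mod_cast hm.ne'
    exact this h1
  obtain ⟨a0, ha0Z, ha0ne⟩ := hZ
  have hnotker : (a0 : P) ∉ h7_shiftKer (ψ : P → ℂ) := by
    intro hker
    have hsum : ∑ a : A, (ψ : P → ℂ) a * conj (lam a) =
        conj (lam a0) * ∑ a : A, (ψ : P → ℂ) a * conj (lam a) := by
      calc ∑ a : A, (ψ : P → ℂ) a * conj (lam a)
          = ∑ a : A, (ψ : P → ℂ) ((a0 * a : A) : P) * conj (lam (a0 * a)) :=
            (Equiv.sum_comp (Equiv.mulLeft a0) (fun a : A => (ψ : P → ℂ) a * conj (lam a))).symm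
        _ = ∑ a : A, conj (lam a0) * ((ψ : P → ℂ) a * conj (lam a)) := by
            apply Finset.sum_congr rfl
            intro b _
            rw [Subgroup.coe_mul, hker (b : P), h7_linear_mul hlam.1 hlam.2, map_mul]
            ring
        _ = conj (lam a0) * ∑ a : A, (ψ : P → ℂ) a * conj (lam a) := Finset.mul_sum _ _ _ |>.symm
    have key : Cfsg.classInner (fun a : A => (ψ : P → ℂ) a) lam =
        conj (lam a0) * Cfsg.classInner (fun a : A => (ψ : P → ℂ) a) lam := by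
      have hdef : Cfsg.classInner (fun a : A => (ψ : P → ℂ) a) lam =
          (Nat.card A : ℂ)⁻¹ * ∑ a : A, (ψ : P → ℂ) a * conj (lam a) := rfl
      rw [hdef]
      conv_lhs => rw [hsum]
      ring
    have h2 : (1 - conj (lam a0)) * Cfsg.classInner (fun a : A => (ψ : P → ℂ) a) lam = 0 := by
      rw [sub_mul, one_mul, ← key, sub_self]
    rcases mul_eq_zero.mp h2 with h | h
    · apply ha0ne
      have h3 : conj (lam a0) = 1 := (sub_eq_zero.mp h).symm
      have := congrArg conj h3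
      simpa using this
    · exact hcon h
  have hvan : ∀ x : P, x ∉ Subgroup.center P → (ψ : P → ℂ) x = 0 :=
    vanish_off_center p hcomm hZcard (ψ : P → ℂ) ψ.2 (a0 : P) ha0Z hnotker
  obtain ⟨d, hdpos, hd⟩ := Cfsg.Agent.Lib.Helper25.irr_one_eq_finrank ψ
  have hbound := degree_bound p hZcard (ψ : P → ℂ) ψ.2 hvan d hd
  rw [hcard] at hbound
  have hdge : p ^ n ≤ d := by
    have h1 : p * (p ^ n) ^ 2 ≤ p * d ^ 2 := by
      have : p ^ (2 * n + 1) = p * (p ^ n) ^ 2 := by ring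
      rw [← this]; exact hbound
    have h2 : (p ^ n) ^ 2 ≤ d ^ 2 := Nat.le_of_mul_le_mul_left h1 hp.pos
    exact (Nat.pow_le_pow_iff_left (by norm_num)).mp h2
  have hdeg := Cfsg.Agent.Lib.helper2.isCharacter_degree_ge hχc ψ m (p ^ n) d hψm hχ1 hd
  have hdeq : d = p ^ n := by
    have : d ≤ m * d := Nat.le_mul_of_pos_left d hm
    omega
  have hψne : Cfsg.classInner (Cfsg.indFun A lam) (ψ : P → ℂ) ≠ 0 := by
    rw [hψm]; exact_mod_cast hm.ne'
  obtain ⟨Δ, hΔ, hsplit⟩ := h7_char_split hχc (ψ : P → ℂ) ψ.2 hψne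
  have hΔ1 : Δ 1 = 0 := by
    have := congrFun hsplit 1
    rw [Pi.add_apply, hχ1, hd, hdeq] at this
    have h2 : ((p ^ n : ℕ) : ℂ) + Δ 1 = ((p ^ n : ℕ) : ℂ) + 0 := by rw [add_zero]; exact this.symm
    exact add_left_cancel h2
  have hΔ0 := h7_isCharacter_eq_zero hΔ hΔ1
  have heq : Cfsg.indFun A lam = (ψ : P → ℂ) := by rw [hsplit, hΔ0, add_zero]
  rw [heq]
  exact ⟨ψ.2, hvan⟩

end Cfsg.Agent.S0893
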