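import Mathlib
import Cfsg.Statements.S0894
import Cfsg.Agent.Lib.helper7.CharCentral
import Cfsg.Agent.Lib.Helper25.CharQuot
import Cfsg.Agent.Lib.Helper25.CharNormal
import Cfsg.Agent.S0139
import Cfsg.Agent.S0893

set_option autoImplicit false
open Cfsg

namespace Cfsg.Agent.S0894

open Cfsg.Agent.Lib.helper7 Cfsg.Agent.Lib.Helper25
open scoped ComplexConjugate

theorem finrank_one_of_comm_le_ker {G : Type*} [Group G] {V : Type*} [AddCommGroup V] [Module ℂ V]
    [FiniteDimensional ℂ V] (ρ : Representation ℂ G V) [ρ.IsIrreducible]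
    (hK : commutator G ≤ ρ.ker) : Module.finrank ℂ V = 1 := by
  have h1 := quotient_irreducible ρ (commutator G) hK
  have h2 : IsMulCommutative (G ⧸ commutator G) := by
    refine ⟨⟨fun a b => ?_⟩⟩
    exact @mul_comm (Abelianization G) _ a b
  exact Representation.IsIrreducible.finrank_eq_one_of_isMulCommutative
    (QuotientGroup.lift (commutator G) ρ hK : Representation ℂ (G ⧸ commutator G) V)

theorem linear_of_center_trivial {P : Type*} [Group P] [Finite P]
    (hcomm : commutator P = Subgroup.center P) (χ : P → ℂ) (hχ : Cfsg.IsIrrCharacter P χ)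
    (h : ∀ z ∈ Subgroup.center P, χ z = χ 1) : χ 1 = 1 := by
  obtain ⟨k, ρ, hρ, rfl⟩ := hχ
  haveI := hρ
  have hK : commutator P ≤ ρ.ker := by
    intro z hz
    rw [hcomm] at hz
    rw [MonoidHom.mem_ker]
    have := h z hz
    rw [Representation.char_one] at this
    exact (Cfsg.Agent.S0139.result ρ z).mp this
  have := finrank_one_of_comm_le_ker ρ hK
  rw [Representation.char_one, this]
  simp

theorem central_normSq {P : Type*} [Group P] [Finite P] (χ : P → ℂ)
    (hχ : Cfsg.IsIrrCharacter P χ) (z : P) (hz : z ∈ Subgroup.center P) :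
    Complex.normSq (χ z) = Complex.normSq (χ 1) := by
  obtain ⟨c, hc⟩ := h7_central_char hχ z hz
  have hpow : ∀ k : ℕ, χ (z ^ k) = c ^ k * χ 1 := by
    intro k
    induction k with
    | zero => simp
    | succ k ih =>
      rw [pow_succ', hc, ih, pow_succ']
      ring
  have h1 := hpow (orderOf z)
  rw [pow_orderOf_eq_one] at h1
  have hχ1 : χ 1 ≠ 0 := irr_one_ne_zero ⟨χ, hχ⟩
  have hc1 : c ^ orderOf z = 1 := by
    have : c ^ orderOf z * χ 1 = 1 * χ 1 := by rw [one_mul]; exact h1.symm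
    exact mul_right_cancel₀ hχ1 this
  have hnorm : ‖c‖ = 1 := Complex.norm_eq_one_of_pow_eq_one hc1 (orderOf_pos z).ne'
  have h2 : χ z = c * χ 1 := by
    have := hc 1
    rwa [mul_one] at this
  rw [h2, Complex.normSq_mul, Complex.normSq_eq_norm_sq c, hnorm]
  simp

theorem degree_eq {P : Type*} [Group P] [Fintype P] (p n : ℕ) [Fact p.Prime]
    (hcard : Nat.card P = p ^ (2 * n + 1))
    (hZ : Nat.card (Subgroup.center P) = p) (ψ : P → ℂ) (hψ : Cfsg.IsIrrCharacter P ψ)
    (hvan : ∀ x : P, x ∉ Subgroup.center P → ψ x = 0) (d : ℕ) (hd : ψ 1 = (d : ℂ)) :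
    d = p ^ n := by
  classical
  have hp := (Fact.out : p.Prime)
  have h1 := Cfsg.Agent.S0900.sum_normSq_irr ψ hψ
  have h2 : ∑ g : P, Complex.normSq (ψ g) =
      ∑ g : P, (if g ∈ Subgroup.center P then ((d : ℝ) ^ 2) else 0) := by
    apply Finset.sum_congr rfl
    intro g _
    split_ifs with hg
    · rw [central_normSq ψ hψ g hg, hd, Complex.normSq_natCast]
      ring
    · rw [hvan g hg]; simp
  have h5 : ∑ g : P, (if g ∈ Subgroup.center P then ((d : ℝ) ^ 2) else 0) =
      (p : ℝ) * (d : ℝ) ^ 2 := by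
    rw [← Finset.sum_filter, Finset.sum_const, nsmul_eq_mul]
    congr 1
    rw [← hZ, Nat.card_eq_fintype_card, Fintype.card_subtype]
  rw [h2, h5, hcard] at h1
  have h6 : p * d ^ 2 = p ^ (2 * n + 1) := by exact_mod_cast h1
  have h7 : p * d ^ 2 = p * (p ^ n) ^ 2 := by rw [h6]; ring
  have h8 : d ^ 2 = (p ^ n) ^ 2 := Nat.eq_of_mul_eq_mul_left hp.pos h7
  exact Nat.pow_left_injective (by norm_num : 2 ≠ 0) h8

theorem result {P : Type*} [Group P] [Finite P] (p n : ℕ) [Fact p.Prime] (hP : Cfsg.IsExtraspecial p P) (hcard : Nat.card P = p ^ (2 * n + 1)) : (∀ χ : Cfsg.IrrCharacter P, (χ : P → ℂ) 1 = 1 ∨ (χ : P → ℂ) 1 = (p : ℂ) ^ n) ∧ Nat.card {χ : Cfsg.IrrCharacter P // (χ : P → ℂ) 1 = (p : ℂ) ^ n} = p - 1 := by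
  classical
  obtain ⟨⟨hpg, hfrat, hcomm⟩, hZcard⟩ := hP
  have : Fintype P := Fintype.ofFinite _
  have : Fintype (Cfsg.IrrCharacter P) := Fintype.ofFinite _
  have : Fintype (Subgroup.center P) := Fintype.ofFinite _
  have hp := (Fact.out : p.Prime)
  have hn : n ≠ 0 := by
    intro h0
    rw [h0] at hcard
    simp only [mul_zero, zero_add, pow_one] at hcard
    haveI : IsCyclic P := isCyclic_of_prime_card hcard
    have hc : commutator P = ⊥ := by
      rw [commutator_def, Subgroup.commutator_eq_bot_iff_le_centralizer]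
      intro x _
      rw [Subgroup.mem_centralizer_iff]
      intro y _
      exact IsCyclic.commGroup.mul_comm y x
    rw [hc] at hcomm
    rw [← hcomm] at hZcard
    simp at hZcard
    exact hp.one_lt.ne hZcard
  have hpn1 : p ^ n ≠ 1 := by
    intro h
    have : 1 < p ^ n := Nat.one_lt_pow hn hp.one_lt
    omega
  have hdich : ∀ χ : Cfsg.IrrCharacter P,
      ((∀ z ∈ Subgroup.center P, (χ : P → ℂ) z = (χ : P → ℂ) 1) ∧ (χ : P → ℂ) 1 = 1) ∨
      ((∃ z ∈ Subgroup.center P, (χ : P → ℂ) z ≠ (χ : P → ℂ) 1) ∧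
        (χ : P → ℂ) 1 = ((p ^ n : ℕ) : ℂ)) := by
    intro χ
    by_cases hall : ∀ z ∈ Subgroup.center P, (χ : P → ℂ) z = (χ : P → ℂ) 1
    · left
      exact ⟨hall, linear_of_center_trivial hcomm (χ : P → ℂ) χ.2 hall⟩
    · right
      push Not at hall
      obtain ⟨z0, hz0, hz0ne⟩ := hall
      refine ⟨⟨z0, hz0, hz0ne⟩, ?_⟩
      have hnotker : z0 ∉ h7_shiftKer (χ : P → ℂ) := by
        intro hk
        apply hz0ne
        have := hk 1
        rwa [mul_one] at this
      have hvan := Cfsg.Agent.S0893.vanish_off_center p hcomm hZcard (χ : P → ℂ) χ.2 z0 hz0 hnotker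
      obtain ⟨d, hdpos, hd⟩ := irr_one_eq_finrank χ
      have := degree_eq p n hcard hZcard (χ : P → ℂ) χ.2 hvan d hd
      rw [hd, this]
  constructor
  · intro χ
    rcases hdich χ with ⟨-, h⟩ | ⟨-, h⟩
    · left; exact h
    · right; rw [h]; push_cast; rfl
  · have hcol1 := irr_column_orthogonality (G := P) 1 1
    rw [if_pos (IsConj.refl 1)] at hcol1
    have hcent1 : Nat.card (Subgroup.centralizer ({(1 : P)} : Set P)) = Nat.card P := by
      have : Subgroup.centralizer ({(1 : P)} : Set P) = ⊤ := by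
        ext x
        simp [Subgroup.mem_centralizer_iff]
      rw [this]
      exact Subgroup.card_top
    rw [hcent1] at hcol1
    set Lin : Finset (Cfsg.IrrCharacter P) :=
      Finset.univ.filter (fun χ => ∀ z ∈ Subgroup.center P, (χ : P → ℂ) z = (χ : P → ℂ) 1) with hLin
    have hLin1 : ∀ χ ∈ Lin, (χ : P → ℂ) 1 = 1 := by
      intro χ hχ
      rcases hdich χ with ⟨-, h⟩ | ⟨h, -⟩
      · exact h
      · obtain ⟨z, hz, hne⟩ := h
        exact absurd ((Finset.mem_filter.mp hχ).2 z hz) hne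
    have hNon1 : ∀ χ ∈ Finset.univ.filter (fun χ : Cfsg.IrrCharacter P => χ ∉ Lin),
        (χ : P → ℂ) 1 = ((p ^ n : ℕ) : ℂ) := by
      intro χ hχ
      rcases hdich χ with ⟨h, -⟩ | ⟨-, h⟩
      · exfalso
        exact (Finset.mem_filter.mp hχ).2 (Finset.mem_filter.mpr ⟨Finset.mem_univ _, h⟩)
      · exact h
    have hsumZ : ∑ z : Subgroup.center P, ∑ χ : Cfsg.IrrCharacter P,
        (χ : P → ℂ) (z : P) * conj ((χ : P → ℂ) 1) = (Nat.card P : ℂ) := by
      have h1 : ∀ z : Subgroup.center P, ∑ χ : Cfsg.IrrCharacter P,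
          (χ : P → ℂ) (z : P) * conj ((χ : P → ℂ) 1) =
          if z = 1 then (Nat.card P : ℂ) else 0 := by
        intro z
        rw [irr_column_orthogonality (G := P) (z : P) 1, hcent1]
        by_cases hz : z = 1
        · rw [if_pos hz, if_pos]
          rw [hz]
          exact IsConj.refl 1
        · rw [if_neg hz, if_neg]
          intro hc
          apply hz
          have := isConj_one_right.mp hc
          exact Subtype.ext this
      rw [Finset.sum_congr rfl (fun z _ => h1 z), Finset.sum_ite_eq']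
      simp
    rw [Finset.sum_comm] at hsumZ
    have hLinZ : ∀ χ ∈ Lin, ∑ z : Subgroup.center P, (χ : P → ℂ) (z : P) * conj ((χ : P → ℂ) 1) =
        (p : ℂ) := by
      intro χ hχ
      have h1 : ∀ z : Subgroup.center P, (χ : P → ℂ) (z : P) * conj ((χ : P → ℂ) 1) = 1 := by
        intro z
        rw [(Finset.mem_filter.mp hχ).2 z z.2, hLin1 χ hχ]
        simp
      rw [Finset.sum_congr rfl (fun z _ => h1 z), Finset.sum_const, Finset.card_univ,
        ← Nat.card_eq_fintype_card, hZcard]
      simp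
    have hNonZ : ∀ χ ∈ Finset.univ.filter (fun χ : Cfsg.IrrCharacter P => χ ∉ Lin),
        ∑ z : Subgroup.center P, (χ : P → ℂ) (z : P) * conj ((χ : P → ℂ) 1) = 0 := by
      intro χ hχ
      have hnl : ∃ z ∈ Subgroup.center P, (χ : P → ℂ) z ≠ (χ : P → ℂ) 1 := by
        by_contra hno
        push Not at hno
        exact (Finset.mem_filter.mp hχ).2 (Finset.mem_filter.mpr ⟨Finset.mem_univ _, hno⟩)
      have := irr_sum_normal χ (Subgroup.center P) hnl 1
      simp only [one_mul] at this
      rw [← Finset.sum_mul, this, zero_mul]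
    rw [← Finset.sum_filter_add_sum_filter_not Finset.univ (fun χ : Cfsg.IrrCharacter P => χ ∈ Lin),
      Finset.sum_congr rfl hNonZ, Finset.sum_const_zero, add_zero] at hsumZ
    have hfl : Finset.univ.filter (fun χ : Cfsg.IrrCharacter P => χ ∈ Lin) = Lin := by
      ext χ; simp
    rw [hfl, Finset.sum_congr rfl hLinZ, Finset.sum_const, nsmul_eq_mul, hcard] at hsumZ
    have hL : Lin.card = p ^ (2 * n) := by
      have h1 : Lin.card * p = p ^ (2 * n) * p := by
        have : ((Lin.card * p : ℕ) : ℂ) = ((p ^ (2 * n + 1) : ℕ) : ℂ) := by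
          push_cast
          push_cast at hsumZ
          exact hsumZ
        have h2 : Lin.card * p = p ^ (2 * n + 1) := by exact_mod_cast this
        rw [h2]; ring
      exact Nat.eq_of_mul_eq_mul_right hp.pos h1
    rw [← Finset.sum_filter_add_sum_filter_not Finset.univ (fun χ : Cfsg.IrrCharacter P => χ ∈ Lin),
      hfl] at hcol1
    have hA : ∑ χ ∈ Lin, (χ : P → ℂ) 1 * conj ((χ : P → ℂ) 1) = (Lin.card : ℂ) := by
      rw [Finset.sum_congr rfl (fun χ hχ => by rw [hLin1 χ hχ])]
      simp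
    have hB : ∑ χ ∈ Finset.univ.filter (fun χ : Cfsg.IrrCharacter P => χ ∉ Lin),
        (χ : P → ℂ) 1 * conj ((χ : P → ℂ) 1) =
        ((Finset.univ.filter (fun χ : Cfsg.IrrCharacter P => χ ∉ Lin)).card : ℂ) *
          ((p ^ (2 * n) : ℕ) : ℂ) := by
      rw [Finset.sum_congr rfl (fun χ hχ => by rw [hNon1 χ hχ])]
      rw [Finset.sum_const, nsmul_eq_mul, Complex.conj_natCast]
      push_cast
      ring
    rw [hA, hB, hcard, hL] at hcol1
    have hK : (Finset.univ.filter (fun χ : Cfsg.IrrCharacter P => χ ∉ Lin)).card = p - 1 := by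
      have h1 : p ^ (2 * n) + (Finset.univ.filter (fun χ : Cfsg.IrrCharacter P => χ ∉ Lin)).card *
          p ^ (2 * n) = p ^ (2 * n + 1) := by exact_mod_cast hcol1
      have h2 : ((Finset.univ.filter (fun χ : Cfsg.IrrCharacter P => χ ∉ Lin)).card + 1) *
          p ^ (2 * n) = p * p ^ (2 * n) := by
        have : p * p ^ (2 * n) = p ^ (2 * n + 1) := by ring
        rw [this, ← h1]; ring
      have h3 := Nat.eq_of_mul_eq_mul_right (pow_pos hp.pos _) h2
      omega
    rw [← hK, Nat.card_eq_fintype_card, Fintype.card_subtype]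
    congr 1
    ext χ
    simp only [Finset.mem_filter, Finset.mem_univ, true_and]
    constructor
    · intro h hmem
      have := hLin1 χ hmem
      rw [this] at h
      apply hpn1
      have h' : ((1 : ℕ) : ℂ) = ((p ^ n : ℕ) : ℂ) := by push_cast; exact h
      exact_mod_cast h'.symm
    · intro hmem
      have := hNon1 χ (Finset.mem_filter.mpr ⟨Finset.mem_univ _, hmem⟩)
      rw [this]
      push_cast
      rfl

end Cfsg.Agent.S0894
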