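import Cfsg.Statements.S0896
import Cfsg.Statements.S0896
import Cfsg.Agent.Lib.helper2.Dade
import Cfsg.Agent.Lib.helper7.CliffordSub

set_option autoImplicit false
open scoped ComplexConjugate
open Cfsg

namespace Cfsg.Agent.S0896

open Cfsg
open scoped ComplexConjugate

open Cfsg.Agent.Lib.helper2 Cfsg.Agent.Lib.helper7 Cfsg.Agent.Lib.Helper11 Cfsg.Agent.Lib.Helper25



/-- Let N be a normal subgroup of the finite group G with the index of N a power of the prime p, and ϑ an irreducible character of N invariant under conjugation by G. Then there are a p-elementary subgroup E of G with E ⊔ N = ⊤ and an irreducible character φ of the subgroup E ⊓ N, invariant under conjugation by E, such that the inner product of the restriction of ϑ to E ⊓ N with φ is an integer not divisible by p. -/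
theorem result {G : Type*} [Group G] [Fintype G] (p : ℕ) (hp : p.Prime) (N : Subgroup G) [hN : N.Normal] (hind : ∃ k : ℕ, N.index = p ^ k) (ϑ : N → ℂ) (hϑ : Cfsg.IsIrrCharacter N ϑ) (hinv : ∀ (g : G) (n : N), ϑ ⟨g * n * g⁻¹, hN.conj_mem (n : G) n.2 g⟩ = ϑ n) : ∃ (E : Subgroup G) (φ : ↥(E ⊓ N) → ℂ), Cfsg.IsElementary p E ∧ E ⊔ N = ⊤ ∧ Cfsg.IsIrrCharacter ↥(E ⊓ N) φ ∧ (∀ (g : G) (hg : g ∈ E) (x : ↥(E ⊓ N)), φ ⟨g * x * g⁻¹, ⟨(E.mul_mem (E.mul_mem hg x.2.1) (E.inv_mem hg)), hN.conj_mem (x : G) x.2.2 g⟩⟩ = φ x) ∧ ∃ m : ℕ, ¬ p ∣ m ∧ (Nat.card ↥(E ⊓ N) : ℂ)⁻¹ * ∑ᶠ x : ↥(E ⊓ N), ϑ ⟨(x : G), x.2.2⟩ * conj (φ x) = (m : ℂ) := by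
  classical
  haveI : Fact p.Prime := ⟨hp⟩
  haveI : Fintype N := Fintype.ofFinite N
  obtain ⟨l, hl, hmem⟩ := local_one_int p (G := G)
  have hinv' : ∀ g : G, cj N ϑ g = ϑ := fun g => funext fun n => by
    rw [cj_apply]
    exact hinv g n
  have hϑchar : Cfsg.IsCharacter N ϑ := h7_irr_isCharacter hϑ
  obtain ⟨k₀, hk₀⟩ := hind
  have key : ∀ f ∈ Submodule.span ℤ (bgens p G), ∃ z : ℤ,
      Cfsg.classInner (fun n : N => f (n : G) * ϑ n) ϑ = (z : ℂ) ∧ (¬ (p : ℤ) ∣ z →
      ∃ (E : Subgroup G) (φ : ↥(E ⊓ N) → ℂ), Cfsg.IsElementary p E ∧ E ⊔ N = ⊤ ∧ Cfsg.IsIrrCharacter ↥(E ⊓ N) φ ∧ (∀ (g : G) (hg : g ∈ E) (x : ↥(E ⊓ N)), φ ⟨g * x * g⁻¹, ⟨(E.mul_mem (E.mul_mem hg x.2.1) (E.inv_mem hg)), hN.conj_mem (x : G) x.2.2 g⟩⟩ = φ x) ∧ ∃ m : ℕ, ¬ p ∣ m ∧ (Nat.card ↥(E ⊓ N) : ℂ)⁻¹ * ∑ᶠ x : ↥(E ⊓ N), ϑ ⟨(x : G), x.2.2⟩ * conj (φ x) = (m : ℂ)) := by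
    intro f hf
    induction hf using Submodule.span_induction with
    | mem f hf =>
      obtain ⟨E, ψ, hEl, hψ, rfl⟩ := hf
      haveI : Fintype E := Fintype.ofFinite E
      haveI : Fintype (N.subgroupOf E) := Fintype.ofFinite _
      haveI : Fintype ↥(E ⊓ N) := Fintype.ofFinite _
      have hmac := dade_mackey N E ψ ϑ hinv'
      -- the hom K → N
      let ι : N.subgroupOf E →* N :=
        { toFun := fun k => ⟨((k : E) : G), k.2⟩
          map_one' := rfl
          map_mul' := fun a b => rfl }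
      have hβ : Cfsg.IsCharacter (N.subgroupOf E)
          (fun k : N.subgroupOf E => ϑ ⟨((k : E) : G), k.2⟩) :=
        isCharacter_comp_hom hϑchar ι
      have hα : Cfsg.IsCharacter (N.subgroupOf E)
          (fun k : N.subgroupOf E => ψ (k : E) * ϑ ⟨((k : E) : G), k.2⟩) :=
        h7_isCharacter_mul (isCharacter_restrict hψ (N.subgroupOf E)) hβ
      obtain ⟨c, hc⟩ := classInner_character_nat hα hβ
      refine ⟨((E ⊔ N).index : ℤ) * (c : ℤ), ?_, ?_⟩
      · rw [hmac, hc]
        push_cast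
        rfl
      · intro hz
        have hz' : ¬ p ∣ (E ⊔ N).index * c := by
          intro h
          apply hz
          have : ((p : ℕ) : ℤ) ∣ (((E ⊔ N).index * c : ℕ) : ℤ) := Int.natCast_dvd_natCast.mpr h
          simpa using this
        have hpi : ¬ p ∣ (E ⊔ N).index := fun h => hz' (Dvd.dvd.mul_right h _)
        have hpc : ¬ p ∣ c := fun h => hz' (Dvd.dvd.mul_left h _)
        have htop : E ⊔ N = ⊤ := by
          rw [← Subgroup.index_eq_one]
          have h1 : (E ⊔ N).index ∣ p ^ k₀ := by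
            rw [← hk₀]
            exact Subgroup.index_dvd_of_le le_sup_right
          obtain ⟨i, -, hi⟩ := (Nat.dvd_prime_pow hp).mp h1
          rcases Nat.eq_zero_or_pos i with h0 | h0
          · rw [hi, h0, pow_zero]
          · exfalso
            apply hpi
            rw [hi]
            exact dvd_pow_self p h0.ne'
        have hidx : ∃ j : ℕ, (N.subgroupOf E).index = p ^ j := by
          refine ⟨k₀, ?_⟩
          have h1 : (N.subgroupOf E).index = N.relIndex E := rfl
          rw [h1, ← Subgroup.relIndex_sup_right, htop, Subgroup.relIndex_top_right, hk₀]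
        have hψcl := isCharacter_isClassFunction hψ
        have hβinv : ∀ g : E, cj (N.subgroupOf E)
            (fun k : N.subgroupOf E => ϑ ⟨((k : E) : G), k.2⟩) g =
            (fun k : N.subgroupOf E => ϑ ⟨((k : E) : G), k.2⟩) := by
          intro g
          funext k
          rw [cj_apply]
          exact hinv (g : G) ⟨((k : E) : G), k.2⟩
        have hαinv : ∀ g : E, cj (N.subgroupOf E)
            (fun k : N.subgroupOf E => ψ (k : E) * ϑ ⟨((k : E) : G), k.2⟩) g =
            (fun k : N.subgroupOf E => ψ (k : E) * ϑ ⟨((k : E) : G), k.2⟩) := by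
          intro g
          funext k
          rw [cj_apply]
          have h1 := hinv (g : G) ⟨((k : E) : G), k.2⟩
          have h2 := hψcl (k : E) g
          show ψ (g * (k : E) * g⁻¹) * ϑ ⟨((g * (k : E) * g⁻¹ : E) : G), _⟩ = _
          rw [h2]
          congr 1
      
        obtain ⟨φ', hφfix, b, hb, hpb⟩ := dade_core (Γ := E) (N.subgroupOf E) p hidx hp _ _ hα hβ
          hαinv hβinv c hc hpc
        -- transport
        let e : ↥(E ⊓ N) ≃* ↥(N.subgroupOf E) :=
          { toFun := fun x => ⟨⟨(x : G), x.2.1⟩, x.2.2⟩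
            invFun := fun k => ⟨((k : E) : G), ⟨(k : E).2, k.2⟩⟩
            left_inv := fun x => rfl
            right_inv := fun k => rfl
            map_mul' := fun a b => rfl }
        refine ⟨E, fun x => (φ' : N.subgroupOf E → ℂ) (e x), hEl, htop,
          h7_isIrr_comp_equiv e _ φ'.2, ?_, b, hpb, ?_⟩
        · intro g hg x
          have h1 := congrFun (hφfix ⟨g, hg⟩) (e x)
          rw [cj_apply] at h1
          exact h1
        · rw [finsum_eq_sum_of_fintype]
          unfold Cfsg.classInner at hb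
          rw [← hb, Nat.card_congr e.toEquiv]
          congr 1
          exact Equiv.sum_comp e.toEquiv
            (fun k : N.subgroupOf E => ϑ ⟨((k : E) : G), k.2⟩ * conj ((φ' : N.subgroupOf E → ℂ) k))
    | zero =>
      refine ⟨0, ?_, fun h => absurd (dvd_zero _) h⟩
      unfold Cfsg.classInner
      simp
    | add f g _ _ ihf ihg =>
      obtain ⟨z1, h1, q1⟩ := ihf
      obtain ⟨z2, h2, q2⟩ := ihg
      refine ⟨z1 + z2, ?_, ?_⟩
      · have : (fun n : N => (f + g) (n : G) * ϑ n) =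
            (fun n : N => f (n : G) * ϑ n) + (fun n : N => g (n : G) * ϑ n) := by
          funext n
          simp [add_mul]
        rw [this, classInner_add_left, h1, h2]
        push_cast
        rfl
      · intro h
        by_cases h' : (p : ℤ) ∣ z1
        · exact q2 (fun h'' => h (dvd_add h' h''))
        · exact q1 h'
    | smul a f _ ih =>
      obtain ⟨z, h1, q⟩ := ih
      refine ⟨a * z, ?_, fun h => q (fun h' => h (Dvd.dvd.mul_left h' a))⟩
      have : (fun n : N => (a • f) (n : G) * ϑ n) = (a : ℂ) • (fun n : N => f (n : G) * ϑ n) := by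
        funext n
        simp [mul_assoc]
      rw [this, classInner_smul_left, h1]
      push_cast
      rfl
  obtain ⟨z, hz, hQ⟩ := key _ hmem
  have hzl : z = (l : ℤ) := by
    have h1 : (fun n : N => ((l : ℂ) • (1 : G → ℂ)) (n : G) * ϑ n) = (l : ℂ) • ϑ := by
      funext n
      simp
    rw [h1, classInner_smul_left] at hz
    have h2 : Cfsg.classInner ϑ ϑ = 1 := by
      have := irr_classInner (⟨ϑ, hϑ⟩ : Cfsg.IrrCharacter N) ⟨ϑ, hϑ⟩
      simpa using this
    rw [h2, mul_one] at hz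
    have : ((l : ℤ) : ℂ) = (z : ℂ) := by
      rw [← hz]
      simp
    exact_mod_cast this.symm
  apply hQ
  rw [hzl]
  exact fun h => hl (Int.natCast_dvd_natCast.mp h)

end Cfsg.Agent.S0896
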