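import Mathlib
import Cfsg.Statements.S0901

set_option autoImplicit false
open Cfsg

namespace Cfsg.Agent.S0901

theorem part_one (p : ℕ) [Fact p.Prime] (M : Ideal Cfsg.AlgInt) (hM : Cfsg.IsPModular p M)
    (ε₁ ε₂ : Cfsg.AlgInt) (h1 : ∃ m : ℕ, ¬ p ∣ m ∧ (ε₁ : ℂ) ^ m = 1)
    (h2 : ∃ m : ℕ, ¬ p ∣ m ∧ (ε₂ : ℂ) ^ m = 1) (hd : ε₁ - ε₂ ∈ M) : ε₁ = ε₂ := by
  have hp : p.Prime := Fact.out
  have hMmax : M.IsMaximal := hM.2.1
  have hMp : M.IsPrime := hMmax.isPrime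
  obtain ⟨m₁, hm₁, e₁⟩ := h1
  obtain ⟨m₂, hm₂, e₂⟩ := h2
  set m := m₁ * m₂ with hm
  have hpm : ¬ p ∣ m := by
    intro h
    rcases (Nat.Prime.dvd_mul hp).mp h with h | h
    · exact hm₁ h
    · exact hm₂ h
  have hm0 : m ≠ 0 := by
    intro h; apply hpm; rw [h]; exact dvd_zero p
  have E₁ : ε₁ ^ m = 1 := by
    apply Subtype.ext
    rw [hm, pow_mul]
    push_cast
    rw [e₁, one_pow]
  have E₂ : ε₂ ^ m = 1 := by
    apply Subtype.ext
    rw [hm, mul_comm, pow_mul]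
    push_cast
    rw [e₂, one_pow]
  set ζ := ε₂ * ε₁ ^ (m - 1) with hζ
  have hζm : ζ ^ m = 1 := by
    rw [hζ, mul_pow, E₂, one_mul, ← pow_mul, mul_comm (m - 1) m, pow_mul, E₁, one_pow]
  have hpow : ε₁ ^ (m - 1) * ε₁ = 1 := by
    rw [← pow_succ, Nat.sub_add_cancel (Nat.one_le_iff_ne_zero.mpr hm0), E₁]
  have hε : ε₁ * ζ = ε₂ := by
    rw [hζ]
    calc ε₁ * (ε₂ * ε₁ ^ (m - 1)) = ε₂ * (ε₁ ^ (m - 1) * ε₁) := by ring
      _ = ε₂ := by rw [hpow, mul_one]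
  have h1ζ : 1 - ζ ∈ M := by
    have : 1 - ζ = ε₁ ^ (m - 1) * (ε₁ - ε₂) := by
      rw [mul_sub, hpow, hζ]; ring
    rw [this]
    exact M.mul_mem_left _ hd
  by_cases hζ1 : ζ = 1
  · rw [← hε, hζ1, mul_one]
  · exfalso
    have hgs : (∑ k ∈ Finset.range m, ζ ^ k) * (ζ - 1) = 0 := by
      rw [geom_sum_mul, hζm, sub_self]
    have hsum : ∑ k ∈ Finset.range m, ζ ^ k = 0 := by
      rcases mul_eq_zero.mp hgs with h | h
      · exact h
      · exact absurd (sub_eq_zero.mp h) hζ1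
    have hφζ : Ideal.Quotient.mk M ζ = 1 := by
      have := Ideal.Quotient.eq_zero_iff_mem.mpr h1ζ
      rw [map_sub, map_one, sub_eq_zero] at this
      exact this.symm
    have hmM : (m : Cfsg.AlgInt) ∈ M := by
      rw [← Ideal.Quotient.eq_zero_iff_mem]
      have := congrArg (Ideal.Quotient.mk M) hsum
      rw [map_sum, map_zero] at this
      simp only [map_pow, hφζ, one_pow, Finset.sum_const, Finset.card_range, nsmul_eq_mul,
        mul_one] at this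
      rw [map_natCast]
      exact this
    have hcop : Nat.Coprime m p := (Nat.Coprime.symm ((Nat.Prime.coprime_iff_not_dvd hp).mpr hpm))
    have hco : IsCoprime ((m : ℤ)) ((p : ℤ)) := Nat.isCoprime_iff_coprime.mpr hcop
    obtain ⟨a, b, hab⟩ := hco
    have h1M : (1 : Cfsg.AlgInt) ∈ M := by
      have : (1 : Cfsg.AlgInt) = (a : Cfsg.AlgInt) * (m : Cfsg.AlgInt) + (b : Cfsg.AlgInt) * (p : Cfsg.AlgInt) := by
        have := congrArg (Int.cast : ℤ → Cfsg.AlgInt) hab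
        push_cast at this
        exact this.symm
      rw [this]
      exact M.add_mem (M.mul_mem_left _ hmM) (M.mul_mem_left _ hM.2.2)
    exact hMp.ne_top ((Ideal.eq_top_iff_one M).mpr h1M)

theorem part_two (p : ℕ) [Fact p.Prime] (M : Ideal Cfsg.AlgInt) (hM : Cfsg.IsPModular p M)
    (a : Cfsg.AlgInt) (ha : a ∉ M) :
    ∃ ε : Cfsg.AlgInt, (∃ m : ℕ, ¬ p ∣ m ∧ (ε : ℂ) ^ m = 1) ∧ a - ε ∈ M := by
  classical
  have hp : p.Prime := Fact.out
  haveI hMmax : M.IsMaximal := hM.2.1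
  have hMp : M.IsPrime := hMmax.isPrime
  letI : Field (Cfsg.AlgInt ⧸ M) := Ideal.Quotient.field M
  have hp0 : ((p : ℕ) : Cfsg.AlgInt ⧸ M) = 0 := by
    rw [← map_natCast (Ideal.Quotient.mk M)]
    exact Ideal.Quotient.eq_zero_iff_mem.mpr hM.2.2
  haveI : CharP (Cfsg.AlgInt ⧸ M) p := (CharP.charP_iff_prime_eq_zero hp).mpr hp0
  letI : Algebra (ZMod p) (Cfsg.AlgInt ⧸ M) := ZMod.algebra _ p
  set ā : Cfsg.AlgInt ⧸ M := Ideal.Quotient.mk M a with hā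
  have hāne : ā ≠ 0 := fun h => ha (Ideal.Quotient.eq_zero_iff_mem.mp h)
  have hint : IsIntegral (ZMod p) ā := by
    have h1 : IsIntegral ℤ a := by
      have := a.2
      exact (isIntegral_algebraMap_iff (B := ℂ) Subtype.val_injective).mp this
    have h2 : IsIntegral ℤ ā := h1.map (Ideal.Quotient.mkₐ ℤ M)
    exact h2.tower_top
  let L := IntermediateField.adjoin (ZMod p) {ā}
  haveI : FiniteDimensional (ZMod p) L := IntermediateField.adjoin.finiteDimensional hint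
  haveI : Finite L := Module.finite_of_finite (ZMod p)
  haveI := Fintype.ofFinite L
  have hmem : ā ∈ L := IntermediateField.mem_adjoin_simple_self _ _
  have hLne : (⟨ā, hmem⟩ : L) ≠ 0 := by
    intro h
    apply hāne
    exact congrArg Subtype.val h
  have hpow := FiniteField.pow_card_sub_one_eq_one (⟨ā, hmem⟩ : L) hLne
  obtain ⟨n, _, hcard⟩ := FiniteField.card L p
  set r := Fintype.card L - 1 with hr
  have hār : ā ^ r = 1 := by
    have := congrArg (fun x : L => (x : Cfsg.AlgInt ⧸ M)) hpow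
    simpa using this
  have hcard2 : 1 < Fintype.card L := Fintype.one_lt_card
  have hrpos : 0 < r := by omega
  have hpr : ¬ p ∣ r := by
    intro hdvd
    have h1 : p ∣ Fintype.card L := by
      rw [hcard]
      exact dvd_pow_self p n.pos.ne'
    have h2 : p ∣ Fintype.card L - r := Nat.dvd_sub h1 hdvd
    have h3 : Fintype.card L - r = 1 := by omega
    rw [h3] at h2
    exact hp.one_lt.ne' (Nat.dvd_one.mp h2)
  have harM : a ^ r - 1 ∈ M := by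
    rw [← Ideal.Quotient.eq_zero_iff_mem, map_sub, map_pow, map_one]
    rw [← hā, hār, sub_self]
  have hprim := Complex.isPrimitiveRoot_exp r hrpos.ne'
  have hfac := Polynomial.X_pow_sub_one_eq_prod hrpos hprim
  have heval : (a : ℂ) ^ r - 1 = ∏ ζ ∈ Polynomial.nthRootsFinset r (1 : ℂ), ((a : ℂ) - ζ) := by
    have := congrArg (Polynomial.eval (a : ℂ)) hfac
    simpa [Polynomial.eval_prod] using this
  have hroot_int : ∀ ζ ∈ Polynomial.nthRootsFinset r (1 : ℂ), ζ ∈ Cfsg.AlgInt := by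
    intro ζ hζ
    rw [Polynomial.mem_nthRootsFinset hrpos] at hζ
    apply IsIntegral.of_pow hrpos
    rw [hζ]
    exact isIntegral_one
  have hprod : a ^ r - 1 = ∏ ζ ∈ (Polynomial.nthRootsFinset r (1 : ℂ)).attach,
      (a - ⟨ζ.1, hroot_int ζ.1 ζ.2⟩) := by
    apply Subtype.ext
    have h1 : ((a ^ r - 1 : Cfsg.AlgInt) : ℂ) = (a : ℂ) ^ r - 1 := by push_cast; rfl
    rw [h1, heval]
    have h2 : ((∏ ζ ∈ (Polynomial.nthRootsFinset r (1 : ℂ)).attach,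
        (a - ⟨ζ.1, hroot_int ζ.1 ζ.2⟩) : Cfsg.AlgInt) : ℂ) =
        ∏ ζ ∈ (Polynomial.nthRootsFinset r (1 : ℂ)).attach, ((a : ℂ) - ζ.1) := by
      rw [← Subalgebra.coe_val, map_prod]
      apply Finset.prod_congr rfl
      intro ζ _
      simp
    rw [h2]
    exact (Finset.prod_attach (Polynomial.nthRootsFinset r (1 : ℂ)) (fun ζ => (a : ℂ) - ζ)).symm
  rw [hprod] at harM
  haveI := hMp
  obtain ⟨ζ, _, hζM⟩ := Ideal.IsPrime.prod_mem_iff.mp harM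
  refine ⟨⟨ζ.1, hroot_int ζ.1 ζ.2⟩, ⟨r, hpr, ?_⟩, hζM⟩
  exact (Polynomial.mem_nthRootsFinset hrpos (1 : ℂ)).mp ζ.2

theorem result (p : ℕ) [Fact p.Prime] (M : Ideal Cfsg.AlgInt) (hM : Cfsg.IsPModular p M) : (∀ ε₁ ε₂ : Cfsg.AlgInt, (∃ m : ℕ, ¬ p ∣ m ∧ (ε₁ : ℂ) ^ m = 1) → (∃ m : ℕ, ¬ p ∣ m ∧ (ε₂ : ℂ) ^ m = 1) → ε₁ - ε₂ ∈ M → ε₁ = ε₂) ∧ (∀ a : Cfsg.AlgInt, a ∉ M → ∃ ε : Cfsg.AlgInt, (∃ m : ℕ, ¬ p ∣ m ∧ (ε : ℂ) ^ m = 1) ∧ a - ε ∈ M) :=
  ⟨fun ε₁ ε₂ h1 h2 hd => part_one p M hM ε₁ ε₂ h1 h2 hd, fun a ha => part_two p M hM a ha⟩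

end Cfsg.Agent.S0901
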