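import Mathlib
import Cfsg.Statements.S0903

set_option autoImplicit false
open Cfsg

namespace Cfsg.Agent.S0903

variable {G : Type*} [Group G]

abbrev PairSet (c g h : G) : Type _ :=
  {xy : G × G // IsConj g xy.1 ∧ IsConj h xy.2 ∧ xy.1 * xy.2 = c}

theorem isConj_conj (g x u : G) (hx : IsConj g x) : IsConj g (u * x * u⁻¹) := by
  exact hx.trans (isConj_iff.mpr ⟨u, rfl⟩)

def pairSmul (P : Subgroup G) (c g h : G) (hc : c ∈ Subgroup.centralizer (P : Set G))
    (u : P) (xy : PairSet c g h) : PairSet c g h :=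
  ⟨((u : G) * xy.1.1 * (u : G)⁻¹, (u : G) * xy.1.2 * (u : G)⁻¹),
    isConj_conj g _ _ xy.2.1, isConj_conj h _ _ xy.2.2.1, by
      have h3 := xy.2.2.2
      have hcu : (u : G) * c = c * (u : G) := (Subgroup.mem_centralizer_iff.mp hc (u : G) u.2)
      calc (u : G) * xy.1.1 * (u : G)⁻¹ * ((u : G) * xy.1.2 * (u : G)⁻¹)
          = (u : G) * (xy.1.1 * xy.1.2) * (u : G)⁻¹ := by group
        _ = (u : G) * c * (u : G)⁻¹ := by rw [h3]
        _ = c := by rw [hcu]; group⟩

@[reducible] def pairAction (P : Subgroup G) (c g h : G) (hc : c ∈ Subgroup.centralizer (P : Set G)) :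
    MulAction P (PairSet c g h) where
  smul := pairSmul P c g h hc
  one_smul := by
    intro xy
    apply Subtype.ext
    apply Prod.ext <;> simp [HSMul.hSMul, pairSmul]
  mul_smul := by
    intro u v xy
    apply Subtype.ext
    apply Prod.ext <;> simp [HSMul.hSMul, pairSmul, mul_assoc]

theorem result {G : Type*} [Group G] [Finite G] (p : ℕ) [Fact p.Prime] (P : Subgroup G) (hP : IsPGroup p P) (c : G) (hc : c ∈ Subgroup.centralizer (P : Set G)) (g h : G) : Nat.card {xy : G × G // IsConj g xy.1 ∧ IsConj h xy.2 ∧ xy.1 * xy.2 = c} ≡ Nat.card {xy : G × G // IsConj g xy.1 ∧ IsConj h xy.2 ∧ xy.1 * xy.2 = c ∧ xy.1 ∈ Subgroup.centralizer (P : Set G) ∧ xy.2 ∈ Subgroup.centralizer (P : Set G)} [MOD p] := by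
  classical
  letI : MulAction P (PairSet c g h) := pairAction P c g h hc
  haveI : Finite (PairSet c g h) := by unfold PairSet; infer_instance
  have key := hP.card_modEq_card_fixedPoints (PairSet c g h)
  have hsmul : ∀ (u : P) (xy : PairSet c g h), (u • xy).1 = ((u : G) * xy.1.1 * (u : G)⁻¹, (u : G) * xy.1.2 * (u : G)⁻¹) := by
    intro u xy; rfl
  have e : (MulAction.fixedPoints P (PairSet c g h)) ≃ {xy : G × G // IsConj g xy.1 ∧ IsConj h xy.2 ∧ xy.1 * xy.2 = c ∧ xy.1 ∈ Subgroup.centralizer (P : Set G) ∧ xy.2 ∈ Subgroup.centralizer (P : Set G)} := by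
    refine
      { toFun := fun z => ⟨z.1.1, z.1.2.1, z.1.2.2.1, z.1.2.2.2, ?_, ?_⟩
        invFun := fun w => ⟨⟨w.1, w.2.1, w.2.2.1, w.2.2.2.1⟩, ?_⟩
        left_inv := fun z => rfl
        right_inv := fun w => rfl }
    · rw [Subgroup.mem_centralizer_iff]
      intro u hu
      have hz := z.2 ⟨u, hu⟩
      have h1 := congrArg (fun t => t.1.1) hz
      simp only [hsmul] at h1
      calc u * z.1.1.1 = u * z.1.1.1 * u⁻¹ * u := by group
        _ = z.1.1.1 * u := by rw [h1]
    · rw [Subgroup.mem_centralizer_iff]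
      intro u hu
      have hz := z.2 ⟨u, hu⟩
      have h1 := congrArg (fun t => t.1.2) hz
      simp only [hsmul] at h1
      calc u * z.1.1.2 = u * z.1.1.2 * u⁻¹ * u := by group
        _ = z.1.1.2 * u := by rw [h1]
    · intro u
      apply Subtype.ext
      rw [hsmul]
      have h1 := Subgroup.mem_centralizer_iff.mp w.2.2.2.2.1 (u : G) u.2
      have h2 := Subgroup.mem_centralizer_iff.mp w.2.2.2.2.2 (u : G) u.2
      apply Prod.ext
      · change (u : G) * w.1.1 * (u : G)⁻¹ = w.1.1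
        rw [h1]; group
      · change (u : G) * w.1.2 * (u : G)⁻¹ = w.1.2
        rw [h2]; group
  rw [Nat.card_congr e] at key
  exact key

end Cfsg.Agent.S0903
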