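import Cfsg.Statements.S0927
import Cfsg.Agent.Lib.helper7.BlockHeightZero

set_option autoImplicit false
open Cfsg

namespace Cfsg.Agent.S0927


open Cfsg.Agent.Lib.helper7 Cfsg.Agent.Lib.helper2

/-- Let B be a block of the finite group G relative to a maximal ideal M of the algebraic integers containing p, let y represent a defect class of B and let P be a Sylow p-subgroup of the centralizer of y. (a) If x ∈ P and χ ∈ B has height zero, then χ (x * y) is not in the local ideal at M. (b) If x lies in the centre of P, then for every χ ∈ B the central character of χ at x * y is not in the local ideal at M. -/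
theorem result {G : Type*} [Group G] [Finite G] (p : ℕ) [Fact p.Prime] (M : Ideal Cfsg.AlgInt) (hM : Cfsg.IsPModular p M) (B : Set (Cfsg.IrrCharacter G)) (hB : Cfsg.IsPBlock M B) (y : G) (hy : Cfsg.IsDefectClass M B y) (P : Sylow p (Subgroup.centralizer ({y} : Set G))) (x : Subgroup.centralizer ({y} : Set G)) (hx : x ∈ (P : Subgroup (Subgroup.centralizer ({y} : Set G)))) : (∀ χ ∈ B, Cfsg.blockHeight p B (χ : G → ℂ) = 0 → ¬ Cfsg.MemLocalIdeal M ((χ : G → ℂ) ((x : G) * y))) ∧ ((∀ w ∈ (P : Subgroup (Subgroup.centralizer ({y} : Set G))), x * w = w * x) → ∀ χ ∈ B, ¬ Cfsg.MemLocalIdeal M (Cfsg.centralChar (χ : G → ℂ) ((x : G) * y))) := by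
  classical
  haveI : Fintype G := Fintype.ofFinite _
  haveI : Fintype (Cfsg.IrrCharacter G) := Fintype.ofFinite _
  have hPr := hM.2.1.isPrime
  have hp : p.Prime := Fact.out
  obtain ⟨χ₀, rfl⟩ := hB
  have hG0 : Nat.card G ≠ 0 := Nat.card_pos.ne'
  have hyreg : ¬ p ∣ orderOf y := by
    intro hdvd
    have h0 := h7_blockCoeff_psingular hM χ₀ y hdvd
    apply hy.2.1
    rw [h0]
    exact h7_memLocalIdeal_zero hPr
  have hxp : ∃ k : ℕ, orderOf (x : G) = p ^ k := by
    obtain ⟨k, hk⟩ := (IsPGroup.iff_orderOf.mp P.isPGroup') ⟨x, hx⟩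
    refine ⟨k, ?_⟩
    rw [← hk, Subgroup.orderOf_mk, Subgroup.orderOf_coe]
  have hcomm : Commute (x : G) y := Subgroup.mem_centralizer_singleton_iff.mp x.2
  have hcardP := Cfsg.Agent.S0908.defect_card p M hM χ₀ y hy P
  have hcardP' : Nat.card ((P : Subgroup (Subgroup.centralizer ({y} : Set G))).map
      (Subgroup.centralizer ({y} : Set G)).subtype) =
      p ^ (Nat.card (Subgroup.centralizer ({y} : Set G))).factorization p := by
    rw [Subgroup.card_map_of_injective (Subgroup.subtype_injective _)]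
    exact Sylow.card_eq_multiplicity P
  have hd : (Nat.card (Subgroup.centralizer ({y} : Set G))).factorization p =
      Cfsg.blockDefect p (Cfsg.blockOf M (χ₀ : G → ℂ)) :=
    Nat.pow_right_injective hp.two_le (hcardP'.symm.trans hcardP)
  have claimA : ∀ χ ∈ Cfsg.blockOf M (χ₀ : G → ℂ), (Nat.card G).factorization p =
      Cfsg.blockDefect p (Cfsg.blockOf M (χ₀ : G → ℂ)) +
        (Cfsg.charDegree (χ : G → ℂ)).factorization p →
      ¬ Cfsg.MemLocalIdeal M ((χ : G → ℂ) ((x : G) * y)) := by
    intro χ hχ hval hmem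
    have h1 := (h7_centralChar_height_zero hM χ y (by rw [hd]; exact hval)).not.mp (hy.2.2 χ hχ)
    apply h1
    have h2 := h7_char_pmul_congr hM (isCharacter_of_irr χ) (x : G) y hcomm hxp hyreg
    have e : (χ : G → ℂ) y = (χ : G → ℂ) ((x : G) * y) -
        ((χ : G → ℂ) ((x : G) * y) - (χ : G → ℂ) y) := by ring
    rw [e]
    exact h7_memLocalIdeal_sub hPr hmem h2
  have hdegle : ∀ χ : Cfsg.IrrCharacter G,
      (Cfsg.charDegree (χ : G → ℂ)).factorization p ≤ (Nat.card G).factorization p := by
    intro χ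
    obtain ⟨hd1, hd2, hd3⟩ := h7_charDegree_props χ
    exact (Nat.factorization_le_iff_dvd hd2.ne' hG0).mpr hd1 p
  constructor
  · intro χ hχ hht
    apply claimA χ hχ
    have h1 : sInf ((fun ψ : Cfsg.IrrCharacter G =>
        (Cfsg.charDegree (ψ : G → ℂ)).factorization p) '' Cfsg.blockOf M (χ₀ : G → ℂ)) ≤
        (Cfsg.charDegree (χ : G → ℂ)).factorization p := Nat.sInf_le ⟨χ, hχ, rfl⟩
    have h2 := hdegle χ
    unfold Cfsg.blockHeight at hht
    unfold Cfsg.blockDefect
    omega
  · intro hZ χ hχ hmem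
    obtain ⟨χ₁, hχ₁, hχ₁d⟩ := h7_exists_height_zero p hPr χ₀
    have hval1 : (Nat.card G).factorization p =
        Cfsg.blockDefect p (Cfsg.blockOf M (χ₀ : G → ℂ)) +
        (Cfsg.charDegree (χ₁ : G → ℂ)).factorization p := by
      have := hdegle χ₁
      omega
    have hA := claimA χ₁ hχ₁ hval1
    obtain ⟨m, n, e, e', r, hmn, hm, hne', hee, hpow⟩ :=
      h7_ppart_pow (p := p) (x : G) y hcomm hxp hyreg
    have hle1 : Subgroup.centralizer ({(x : G) * y} : Set G) ≤
        Subgroup.centralizer ({y} : Set G) := by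
      intro g hg
      rw [Subgroup.mem_centralizer_singleton_iff] at hg ⊢
      have hc : Commute g ((x : G) * y) := hg
      have := hc.pow_right e
      rw [hpow] at this
      exact this
    have hle2 : (P : Subgroup (Subgroup.centralizer ({y} : Set G))).map
        (Subgroup.centralizer ({y} : Set G)).subtype ≤
        Subgroup.centralizer ({(x : G) * y} : Set G) := by
      rintro _ ⟨w, hw, rfl⟩
      rw [Subgroup.mem_centralizer_singleton_iff]
      have h1 : Commute ((w : G)) y := Subgroup.mem_centralizer_singleton_iff.mp w.2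
      have h2 : Commute (w : G) (x : G) := by
        have := hZ w hw
        have h3 := congrArg (fun t : Subgroup.centralizer ({y} : Set G) => (t : G)) this
        simp only [Subgroup.coe_mul] at h3
        exact h3.symm
      exact (h2.mul_right h1)
    have hC0 : Nat.card (Subgroup.centralizer ({(x : G) * y} : Set G)) ≠ 0 := Nat.card_pos.ne'
    have hC0' : Nat.card (Subgroup.centralizer ({y} : Set G)) ≠ 0 := Nat.card_pos.ne'
    have hv1 : (Nat.card (Subgroup.centralizer ({(x : G) * y} : Set G))).factorization p ≤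
        (Nat.card (Subgroup.centralizer ({y} : Set G))).factorization p :=
      (Nat.factorization_le_iff_dvd hC0 hC0').mpr (Subgroup.card_dvd_of_le hle1) p
    have hv2 : Cfsg.blockDefect p (Cfsg.blockOf M (χ₀ : G → ℂ)) ≤
        (Nat.card (Subgroup.centralizer ({(x : G) * y} : Set G))).factorization p := by
      have := Subgroup.card_dvd_of_le hle2
      rw [hcardP] at this
      exact (Nat.Prime.pow_dvd_iff_le_factorization hp hC0).mp this
    have hω1 := (h7_centralChar_height_zero hM χ₁ ((x : G) * y) (by omega)).not.mpr hA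
    apply hω1
    have s1 : Cfsg.MemLocalIdeal M (Cfsg.centralChar (χ₀ : G → ℂ) ((x : G) * y) -
        Cfsg.centralChar (χ : G → ℂ) ((x : G) * y)) := hχ _
    have s2 : Cfsg.MemLocalIdeal M (Cfsg.centralChar (χ₀ : G → ℂ) ((x : G) * y) -
        Cfsg.centralChar (χ₁ : G → ℂ) ((x : G) * y)) := hχ₁ _
    have e : Cfsg.centralChar (χ₁ : G → ℂ) ((x : G) * y) =
        Cfsg.centralChar (χ : G → ℂ) ((x : G) * y) +
        (Cfsg.centralChar (χ₀ : G → ℂ) ((x : G) * y) -
          Cfsg.centralChar (χ : G → ℂ) ((x : G) * y)) -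
        (Cfsg.centralChar (χ₀ : G → ℂ) ((x : G) * y) -
          Cfsg.centralChar (χ₁ : G → ℂ) ((x : G) * y)) := by ring
    rw [e]
    exact h7_memLocalIdeal_sub hPr (h7_memLocalIdeal_add hPr hmem s1) s2

end Cfsg.Agent.S0927
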