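import Cfsg.Statements.S0926
import Cfsg.Agent.Lib.helper7.SecondMain3
import Cfsg.Agent.S0924
import Cfsg.Agent.S0927
import Cfsg.Agent.S0959

set_option autoImplicit false
open Cfsg

namespace Cfsg.Agent.S0926

/-- Let B be a block of the finite group G with defect group D (relative to a maximal ideal M of the algebraic integers containing p), let χ ∈ B have height zero, and let x be a p-element. Then some conjugate of x lies in D if and only if χ does not vanish on the whole p-section of x (the elements whose p-part is conjugate to x). -/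
theorem result {G : Type*} [Group G] [Finite G] (p : ℕ) [Fact p.Prime] (M : Ideal Cfsg.AlgInt) (hM : Cfsg.IsPModular p M) (B : Set (Cfsg.IrrCharacter G)) (hB : Cfsg.IsPBlock M B) (D : Subgroup G) (hD : Cfsg.IsDefectGroup p M B D) (χ : Cfsg.IrrCharacter G) (hχ : χ ∈ B) (h0 : Cfsg.blockHeight p B (χ : G → ℂ) = 0) (x : G) (hx : ∃ k : ℕ, orderOf x = p ^ k) : (∃ g : G, g * x * g⁻¹ ∈ D) ↔ ∃ u : G, (∃ z : G, Cfsg.IsPPart p u z ∧ IsConj x z) ∧ (χ : G → ℂ) u ≠ 0 := by
  classical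
  haveI : Fintype G := Fintype.ofFinite G
  haveI : Fintype (Cfsg.IrrCharacter G) := Fintype.ofFinite _
  have hPr := hM.2.1.isPrime
  constructor
  · rintro ⟨g, hg⟩
    obtain ⟨g₀, hg₀, P, rfl⟩ := hD
    obtain ⟨q, hq, hqg⟩ := Subgroup.mem_map.mp hg
    have hqg' : (q : G) = g * x * g⁻¹ := hqg
    have h1 := (Cfsg.Agent.S0927.result p M hM B hB g₀ hg₀ P q hq).1 χ hχ h0
    have hreg : ¬ p ∣ orderOf g₀ := by
      intro hdiv
      obtain ⟨χ₁, rfl⟩ := hB
      apply hg₀.2.1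
      rw [Cfsg.Agent.Lib.helper7.h7_blockCoeff_psingular hM χ₁ g₀ hdiv]
      exact Cfsg.Agent.Lib.helper7.h7_memLocalIdeal_zero hPr
    refine ⟨(q : G) * g₀, ⟨(q : G), ⟨g₀, rfl, ?_, ?_, hreg⟩, ?_⟩, ?_⟩
    · exact Subgroup.mem_centralizer_singleton_iff.mp q.2
    · rw [hqg', Cfsg.Agent.Lib.helper7.h7_orderOf_conj]
      exact hx
    · rw [hqg']
      exact isConj_iff.mpr ⟨g, rfl⟩
    · intro h0'
      apply h1
      rw [h0']
      exact Cfsg.Agent.Lib.helper7.h7_memLocalIdeal_zero hPr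
  · rintro ⟨u, ⟨z, hu, hxz⟩, hne⟩
    have hEx : ∃ E : Subgroup G, Cfsg.IsDefectGroup p M (Cfsg.blockOf M (χ : G → ℂ)) E ∧ z ∈ E := by
      by_contra hcon
      push Not at hcon
      exact hne (Cfsg.Agent.S0924.result p M hM χ u z hu hcon)
    obtain ⟨E, hE, hzE⟩ := hEx
    have hBeq : Cfsg.blockOf M (χ : G → ℂ) = B := by
      obtain ⟨χ₁, rfl⟩ := hB
      exact (Cfsg.Agent.Lib.helper7.h7_blockOf_eq_of_mem hPr χ₁ χ hχ).symm
    rw [hBeq] at hE
    have hzp : ∃ k : ℕ, orderOf z = p ^ k := by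
      obtain ⟨_, _, _, hzp, _⟩ := hu
      exact hzp
    have hP : IsPGroup p (Subgroup.zpowers z) := by
      obtain ⟨k, hk⟩ := hzp
      apply IsPGroup.of_card (n := k)
      rw [Nat.card_zpowers, hk]
    have h1 := (Cfsg.Agent.S0959.result p M hM B hB E hE (Subgroup.zpowers z) hP).mpr ⟨1, by
      rintro _ ⟨w, hw, rfl⟩
      have : (MulAut.conj (1 : G)).toMonoidHom w = w := by simp
      rw [this]
      exact (Subgroup.zpowers_le.mpr hzE) hw⟩
    obtain ⟨x', hx'⟩ := (Cfsg.Agent.S0959.result p M hM B hB D hD (Subgroup.zpowers z) hP).mp h1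
    obtain ⟨t, ht⟩ := isConj_iff.mp hxz
    refine ⟨x' * t, ?_⟩
    have h2 : x' * z * x'⁻¹ ∈ D := by
      apply hx'
      exact Subgroup.mem_map.mpr ⟨z, Subgroup.mem_zpowers z, by simp [MulAut.conj_apply]⟩
    have e : x' * t * x * (x' * t)⁻¹ = x' * z * x'⁻¹ := by
      rw [← ht]
      group
    rw [e]
    exact h2

end Cfsg.Agent.S0926
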