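import Cfsg.Statements.S0929
import Cfsg.Agent.Lib.helper7.BlockFirstMain3

set_option autoImplicit false
open Cfsg

namespace Cfsg.Agent.S0929


open Cfsg.Agent.Lib.helper7

/-- Let B be a block of the finite group G with defect group P (relative to a maximal ideal M of the algebraic integers containing p), and let g be an element at which the central character of some member of B is not in the local ideal at M. Then some conjugate x of g centralizes P and has its p-part in the centre of P. -/
theorem result {G : Type*} [Group G] [Finite G] (p : ℕ) [Fact p.Prime] (M : Ideal Cfsg.AlgInt) (hM : Cfsg.IsPModular p M) (B : Set (Cfsg.IrrCharacter G)) (hB : Cfsg.IsPBlock M B) (P : Subgroup G) (hP : Cfsg.IsDefectGroup p M B P) (g : G) (hg : ∃ χ ∈ B, ¬ Cfsg.MemLocalIdeal M (Cfsg.centralChar (χ : G → ℂ) g)) : ∃ x : G, IsConj g x ∧ x ∈ Subgroup.centralizer (P : Set G) ∧ ∀ z : G, Cfsg.IsPPart p x z → z ∈ P ∧ ∀ w ∈ P, z * w = w * z := by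
  classical
  haveI : Fintype G := Fintype.ofFinite _
  haveI : Fintype (Cfsg.IrrCharacter G) := Fintype.ofFinite _
  have hp : p.Prime := Fact.out
  obtain ⟨y, hy1, hy2, hy3⟩ := h7_central_char_class_meets hM P B hB hP g hg
  refine ⟨(y : G), hy1, hy2, ?_⟩
  intro z hz
  obtain ⟨n, hn⟩ := h7_isPPart_pow hp hz
  obtain ⟨y', hzy, hcomm, ⟨k, hk⟩, hy'⟩ := hz
  constructor
  · have hzpow : z ^ p ^ k = 1 := by
      rw [← hk]
      exact pow_orderOf_eq_one z
    have h1 : (QuotientGroup.mk (y ^ n) : Subgroup.normalizer (P : Set G) ⧸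
        P.subgroupOf (Subgroup.normalizer (P : Set G))) ^ p ^ k = 1 := by
      rw [← QuotientGroup.mk_pow]
      have : (y ^ n) ^ p ^ k = 1 := by
        apply Subtype.ext
        simp only [Subgroup.coe_pow, Subgroup.coe_one]
        rw [← hn]
        exact hzpow
      rw [this]
      rfl
    have h2 : orderOf (QuotientGroup.mk (y ^ n) : Subgroup.normalizer (P : Set G) ⧸
        P.subgroupOf (Subgroup.normalizer (P : Set G))) ∣ p ^ k :=
      orderOf_dvd_of_pow_eq_one h1
    have h3 : orderOf (QuotientGroup.mk (y ^ n) : Subgroup.normalizer (P : Set G) ⧸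
        P.subgroupOf (Subgroup.normalizer (P : Set G))) ∣
        orderOf (QuotientGroup.mk y : Subgroup.normalizer (P : Set G) ⧸
        P.subgroupOf (Subgroup.normalizer (P : Set G))) := by
      rw [QuotientGroup.mk_pow]
      exact orderOf_pow_dvd n
    obtain ⟨j, hj, hje⟩ := (Nat.dvd_prime_pow hp).mp h2
    have hj0 : j = 0 := by
      by_contra hne
      apply hy3
      refine dvd_trans ?_ h3
      rw [hje]
      exact dvd_pow_self p hne
    rw [hj0, pow_zero, orderOf_eq_one_iff, QuotientGroup.eq_one_iff] at hje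
    have := Subgroup.mem_subgroupOf.mp hje
    rw [hn]
    simpa using this
  · intro w hw
    rw [hn]
    have h1 : w * (y : G) = (y : G) * w := Subgroup.mem_centralizer_iff.mp hy2 w hw
    have h2 : Commute w (y : G) := h1
    exact ((h2.pow_right n).eq).symm

end Cfsg.Agent.S0929
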