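import Cfsg.Statements.S0930
import Cfsg.Agent.Lib.helper7.BlockHeightZero2
import Cfsg.Agent.Lib.helper7.BlockBrauer
import Cfsg.Agent.S0927
import Cfsg.Agent.S0929

set_option autoImplicit false
open Cfsg

namespace Cfsg.Agent.S0930


open Cfsg.Agent.Lib.helper7 Cfsg.Agent.Lib.helper2

/-- Let H be a subgroup of the finite group G and fix a maximal ideal M of the algebraic integers containing the prime p. If the block b of H with defect group D induces the block B of G with defect group P, then every element of the centre of P is conjugate in G to an element of the centre of D. -/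
theorem result {G : Type*} [Group G] [Finite G] (p : ℕ) [Fact p.Prime] (M : Ideal Cfsg.AlgInt) (hM : Cfsg.IsPModular p M) (H : Subgroup G) (b : Set (Cfsg.IrrCharacter H)) (B : Set (Cfsg.IrrCharacter G)) (hind : Cfsg.IsInducedBlock M H b B) (D : Subgroup H) (hD : Cfsg.IsDefectGroup p M b D) (P : Subgroup G) (hP : Cfsg.IsDefectGroup p M B P) (x : G) (hx : x ∈ P) (hxc : ∀ w ∈ P, x * w = w * x) : ∃ g : G, g * x * g⁻¹ ∈ D.map H.subtype ∧ ∀ w ∈ D.map H.subtype, (g * x * g⁻¹) * w = w * (g * x * g⁻¹) := by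
  classical
  haveI : Fintype G := Fintype.ofFinite _
  haveI : Fintype (Cfsg.IrrCharacter G) := Fintype.ofFinite _
  haveI : Fintype H := Fintype.ofFinite _
  haveI : Fintype (Cfsg.IrrCharacter H) := Fintype.ofFinite _
  haveI : Fintype (ConjClasses H) := Fintype.ofFinite _
  have hPr := hM.2.1.isPrime
  have hp : p.Prime := Fact.out
  obtain ⟨hb, hB, hcong⟩ := hind
  obtain ⟨ξ₀, rfl⟩ := hb
  obtain ⟨χ₀, rfl⟩ := hB
  have hξ₀b : ξ₀ ∈ Cfsg.blockOf M (ξ₀ : H → ℂ) := h7_sameBlock_refl hPr _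
  have hχ₀B : χ₀ ∈ Cfsg.blockOf M (χ₀ : G → ℂ) := h7_sameBlock_refl hPr _
  obtain ⟨y, hy, Q, rfl⟩ := hP
  obtain ⟨x', hx'Q, rfl⟩ := hx
  have hZ : ∀ w ∈ (Q : Subgroup (Subgroup.centralizer ({y} : Set G))), x' * w = w * x' := by
    intro w hw
    apply Subtype.ext
    simp only [Subgroup.coe_mul]
    exact hxc (w : G) ⟨w, hw, rfl⟩
  have h927 := (Cfsg.Agent.S0927.result p M hM _ ⟨χ₀, rfl⟩ y hy Q x' hx'Q).2 hZ χ₀ hχ₀B
  have hyreg : ¬ p ∣ orderOf y := by
    intro hdvd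
    have h0 := h7_blockCoeff_psingular hM χ₀ y hdvd
    apply hy.2.1
    rw [h0]
    exact h7_memLocalIdeal_zero hPr
  have hxp : ∃ k : ℕ, orderOf (x' : G) = p ^ k := by
    obtain ⟨k, hk⟩ := (IsPGroup.iff_orderOf.mp Q.isPGroup') ⟨x', hx'Q⟩
    refine ⟨k, ?_⟩
    rw [← hk, Subgroup.orderOf_mk, Subgroup.orderOf_coe]
  have hcomm : Commute (x' : G) y := Subgroup.mem_centralizer_singleton_iff.mp x'.2
  simp only [Subgroup.coe_subtype] at *
  have hicc : ¬ Cfsg.MemLocalIdeal M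
      (Cfsg.inducedCentralChar H (ξ₀ : H → ℂ) ((x' : G) * y)) := by
    intro h
    apply h927
    have h1 := hcong ξ₀ hξ₀b χ₀ hχ₀B ((x' : G) * y)
    have e : Cfsg.centralChar (χ₀ : G → ℂ) ((x' : G) * y) =
        Cfsg.inducedCentralChar H (ξ₀ : H → ℂ) ((x' : G) * y) -
        (Cfsg.inducedCentralChar H (ξ₀ : H → ℂ) ((x' : G) * y) -
          Cfsg.centralChar (χ₀ : G → ℂ) ((x' : G) * y)) := by ring
    rw [e]
    exact h7_memLocalIdeal_sub hPr h h1
  rw [h7_icc_expand' H ξ₀ _] at hicc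
  obtain ⟨L, hL⟩ : ∃ L : ConjClasses H, ¬ Cfsg.MemLocalIdeal M
      ((if IsConj ((x' : G) * y) ((Quotient.out L : H) : G) then (1 : ℂ) else 0) *
        Cfsg.centralChar (ξ₀ : H → ℂ) (Quotient.out L)) := by
    by_contra hall
    push Not at hall
    exact hicc (h7_memLocalIdeal_sum hPr _ _ (fun L _ => hall L))
  by_cases hcond : IsConj ((x' : G) * y) ((Quotient.out L : H) : G)
  swap
  · rw [if_neg hcond, zero_mul] at hL
    exact absurd (h7_memLocalIdeal_zero hPr) hL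
  rw [if_pos hcond, one_mul] at hL
  obtain ⟨u', hu'conj, hu'C, hu'pp⟩ := Cfsg.Agent.S0929.result p M hM
    (Cfsg.blockOf M (ξ₀ : H → ℂ)) ⟨ξ₀, rfl⟩ D hD (Quotient.out L) ⟨ξ₀, hξ₀b, hL⟩
  have hconjG : IsConj ((x' : G) * y) (u' : G) :=
    hcond.trans (H.subtype.map_isConj hu'conj)
  obtain ⟨t, ht⟩ := isConj_iff.mp hconjG
  obtain ⟨e, e', he, he'⟩ := h7_ppart_pow2 (p := p) (x' : G) y hcomm hxp hyreg
  have hpowG : ∀ n : ℕ, ((u' ^ n : H) : G) = t * ((x' : G) * y) ^ n * t⁻¹ := by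
    intro n
    rw [Subgroup.coe_pow, ← ht, conj_pow]
  have hz : Cfsg.IsPPart p u' (u' ^ e') := by
    refine ⟨u' ^ e, ?_, (Commute.refl u').pow_pow e' e, ?_, ?_⟩
    · apply Subtype.ext
      rw [Subgroup.coe_mul, hpowG, hpowG, he, he', ← ht]
      group
    · obtain ⟨k, hk⟩ := hxp
      refine ⟨k, ?_⟩
      rw [← Subgroup.orderOf_coe, hpowG, he', ← hk]
      exact orderOf_injective (MulAut.conj t).toMonoidHom (MulAut.conj t).injective (x' : G)
    · rw [← Subgroup.orderOf_coe, hpowG, he]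
      have := orderOf_injective (MulAut.conj t).toMonoidHom (MulAut.conj t).injective y
      simp only [MulEquiv.coe_toMonoidHom, MulAut.conj_apply] at this
      rw [this]
      exact hyreg
  obtain ⟨hzD, hzc⟩ := hu'pp (u' ^ e') hz
  have hkey : t * (x' : G) * t⁻¹ = ((u' ^ e' : H) : G) := by
    rw [hpowG, he']
  refine ⟨t, ?_, ?_⟩
  · rw [hkey]
    exact ⟨u' ^ e', hzD, rfl⟩
  · rintro _ ⟨w, hw, rfl⟩
    rw [hkey]
    have := congrArg (fun s : H => (s : G)) (hzc w hw)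
    simpa using this

end Cfsg.Agent.S0930
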