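import Mathlib
import Cfsg.Statements.S0933
import Cfsg.Agent.Lib.Helper25.CharOrth
import Cfsg.Agent.Lib.helper7.Induction
import Cfsg.Agent.Lib.helper7.LocalIdeal
import Cfsg.Agent.S0932

set_option autoImplicit false
open Cfsg

namespace Cfsg.Agent.S0933

open Cfsg.Agent.Lib.Helper25 Cfsg.Agent.Lib.helper7

theorem induced_sub {G : Type*} [Group G] [Fintype G] (M : Ideal Cfsg.AlgInt) (hM : M.IsPrime)
    (H : Subgroup G) (ξ ξ' : Cfsg.IrrCharacter H)
    (hs : Cfsg.SameBlock M (ξ : H → ℂ) (ξ' : H → ℂ)) (g : G) :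
    Cfsg.MemLocalIdeal M (Cfsg.inducedCentralChar H (ξ : H → ℂ) g -
      Cfsg.inducedCentralChar H (ξ' : H → ℂ) g) := by
  classical
  have := Fintype.ofFinite H
  have := Fintype.ofFinite (ConjClasses H)
  unfold Cfsg.inducedCentralChar
  rw [h7_finsum_mem_fintype, h7_finsum_mem_fintype, ← Finset.sum_sub_distrib]
  simp only [Set.mem_setOf_eq]
  set f : H → ℂ := fun h => (if IsConj g (h : G) then (ξ : H → ℂ) h / (ξ : H → ℂ) 1 else 0) -
    (if IsConj g (h : G) then (ξ' : H → ℂ) h / (ξ' : H → ℂ) 1 else 0) with hf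
  have hfc : ∀ h k : H, f (k * h * k⁻¹) = f h := by
    intro h k
    simp only [hf]
    have hiff : IsConj g ((k * h * k⁻¹ : H) : G) ↔ IsConj g (h : G) := by
      have : ((k * h * k⁻¹ : H) : G) = (k : G) * (h : G) * (k : G)⁻¹ := by simp
      rw [this]
      constructor
      · intro hh
        exact hh.trans (isConj_iff.mpr ⟨(k : G)⁻¹, by group⟩)
      · intro hh
        exact hh.trans (isConj_iff.mpr ⟨(k : G), rfl⟩)
    simp only [hiff, irr_conj_invariant]
  rw [h7_sum_eq_sum_conjClasses f hfc]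
  apply h7_memLocalIdeal_sum hM
  intro K _
  simp only [hf]
  by_cases hK : IsConj g ((Quotient.out K : H) : G)
  · simp only [hK, if_true]
    have := hs (Quotient.out K)
    unfold Cfsg.centralChar at this
    rw [nsmul_eq_mul]
    have h2 : ((Subgroup.centralizer ({Quotient.out K} : Set H)).index : ℂ) *
        ((ξ : H → ℂ) (Quotient.out K) / (ξ : H → ℂ) 1 - (ξ' : H → ℂ) (Quotient.out K) / (ξ' : H → ℂ) 1)
        = ((Subgroup.centralizer ({Quotient.out K} : Set H)).index : ℂ) * (ξ : H → ℂ) (Quotient.out K) / (ξ : H → ℂ) 1 -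
          ((Subgroup.centralizer ({Quotient.out K} : Set H)).index : ℂ) * (ξ' : H → ℂ) (Quotient.out K) / (ξ' : H → ℂ) 1 := by
      ring
    rw [h2]
    exact this
  · simp only [hK, if_false, sub_zero, smul_zero]
    exact h7_memLocalIdeal_zero hM

theorem result {G : Type*} [Group G] [Fintype G] (p : ℕ) [Fact p.Prime] (M : Ideal Cfsg.AlgInt) (hM : Cfsg.IsPModular p M) (H : Subgroup G) (ξ : Cfsg.IrrCharacter H) (hind : Cfsg.IsIrrCharacter G (Cfsg.indFun H (ξ : H → ℂ))) : Cfsg.IsInducedBlock M H (Cfsg.blockOf M (ξ : H → ℂ)) (Cfsg.blockOf M (Cfsg.indFun H (ξ : H → ℂ))) := by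
  have hMp : M.IsPrime := h7_isPrime_of_isPModular hM
  refine ⟨⟨ξ, rfl⟩, ⟨⟨Cfsg.indFun H (ξ : H → ℂ), hind⟩, rfl⟩, ?_⟩
  intro ξ' hξ' χ hχ g
  have h1 : Cfsg.SameBlock M (ξ : H → ℂ) (ξ' : H → ℂ) := hξ'
  have h2 : Cfsg.SameBlock M (Cfsg.indFun H (ξ : H → ℂ)) (χ : G → ℂ) := hχ
  have h3 := induced_sub M hMp H ξ ξ' h1 g
  have h4 := h2 g
  have h5 := Cfsg.Agent.S0932.induced_eq H (ξ : H → ℂ) g
  have : Cfsg.inducedCentralChar H (ξ' : H → ℂ) g - Cfsg.centralChar (χ : G → ℂ) g =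
      -(Cfsg.inducedCentralChar H (ξ : H → ℂ) g - Cfsg.inducedCentralChar H (ξ' : H → ℂ) g) +
      (Cfsg.centralChar (Cfsg.indFun H (ξ : H → ℂ)) g - Cfsg.centralChar (χ : G → ℂ) g) := by
    rw [← h5]; ring
  rw [this]
  exact h7_memLocalIdeal_add hMp (h7_memLocalIdeal_neg h3) h4

end Cfsg.Agent.S0933
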