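import Cfsg.Statements.S0945
import Mathlib
import Cfsg.Agent.Lib.Helper18.SylowIn
import Cfsg.Agent.Lib.Helper18.ThompsonReplacement
import Cfsg.Agent.S0946

set_option autoImplicit false
open Cfsg

namespace Cfsg.Agent.S0945

open Cfsg.Agent.Lib.Helper18

section aux
variable {G : Type*} [Group G] [Finite G]

theorem inv_count (P : Sylow 2 G) (m : ℕ) (hm : 1 ≤ m)
    (e : (P : Subgroup G) ≃* Multiplicative (ZMod (2 ^ m) × ZMod (2 ^ m)))
    (l : List G) (hnd : l.Nodup) (hl : ∀ x ∈ l, x ∈ (P : Subgroup G) ∧ x * x = 1) : l.length ≤ 4 := by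
  classical
  let f : G → ZMod (2 ^ m) × ZMod (2 ^ m) := fun x =>
    if hx : x ∈ (P : Subgroup G) then Multiplicative.toAdd (e ⟨x, hx⟩) else 0
  have hfdef : ∀ x (hx : x ∈ (P : Subgroup G)), f x = Multiplicative.toAdd (e ⟨x, hx⟩) := by
    intro x hx
    simp only [f, dif_pos hx]
  let hh : ZMod (2 ^ m) := ((2 ^ (m - 1) : ℕ) : ZMod (2 ^ m))
  let S : Finset (ZMod (2 ^ m) × ZMod (2 ^ m)) := {(0, 0), (0, hh), (hh, 0), (hh, hh)}
  have hinj : ∀ x ∈ l, ∀ y ∈ l, f x = f y → x = y := by
    intro x hx y hy hxy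
    rw [hfdef x (hl x hx).1, hfdef y (hl y hy).1] at hxy
    have := e.injective (Multiplicative.toAdd.injective hxy)
    exact congrArg Subtype.val this
  have hnd' : (l.map f).Nodup := List.Nodup.map_on hinj hnd
  have hsub : (l.map f).toFinset ⊆ S := by
    intro y hy
    rw [List.mem_toFinset, List.mem_map] at hy
    obtain ⟨x, hx, rfl⟩ := hy
    obtain ⟨hxP, hxx⟩ := hl x hx
    rw [hfdef x hxP]
    have h0 : Multiplicative.toAdd (e ⟨x, hxP⟩) + Multiplicative.toAdd (e ⟨x, hxP⟩) = 0 := by
      rw [← toAdd_mul, ← map_mul]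
      have : (⟨x, hxP⟩ : ↥(P : Subgroup G)) * ⟨x, hxP⟩ = 1 := Subtype.ext hxx
      rw [this, map_one, toAdd_one]
    have h1 := congrArg Prod.fst h0
    have h2 := congrArg Prod.snd h0
    have e1 := Cfsg.Agent.S0946.zmod_two_pow_add_self m hm _ h1
    have e2 := Cfsg.Agent.S0946.zmod_two_pow_add_self m hm _ h2
    have hfx : Multiplicative.toAdd (e ⟨x, hxP⟩) =
        ((Multiplicative.toAdd (e ⟨x, hxP⟩)).1, (Multiplicative.toAdd (e ⟨x, hxP⟩)).2) := rfl
    rw [hfx]
    rcases e1 with e1 | e1 <;> rcases e2 with e2 | e2 <;> rw [e1, e2] <;> simp [S, hh]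
  calc l.length = (l.map f).length := (List.length_map f).symm
    _ = (l.map f).toFinset.card := (List.toFinset_card_of_nodup hnd').symm
    _ ≤ S.card := Finset.card_le_card hsub
    _ ≤ 4 := Finset.card_le_four

end aux

theorem result {G : Type*} [Group G] [Finite G] (P : Sylow 2 G) (m : ℕ) (hm : 1 ≤ m) (e : (P : Subgroup G) ≃* Multiplicative (ZMod (2 ^ m) × ZMod (2 ^ m))) : ((Subgroup.centralizer (P : Set G)).relIndex (Subgroup.normalizer (P : Set G)) = 1 ∨ (Subgroup.centralizer (P : Set G)).relIndex (Subgroup.normalizer (P : Set G)) = 3) ∧ ((Subgroup.centralizer (P : Set G)).relIndex (Subgroup.normalizer (P : Set G)) ≠ 1 → ∀ z ∈ (P : Subgroup G), z ≠ 1 → Subgroup.centralizer ({z} : Set G) ⊓ Subgroup.normalizer (P : Set G) = Subgroup.centralizer (P : Set G)) := by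
  classical
  haveI hp2 : Fact (Nat.Prime 2) := ⟨Nat.prime_two⟩
  have hPc : ∀ a ∈ (P : Subgroup G), ∀ b ∈ (P : Subgroup G), a * b = b * a := by
    intro a ha b hb
    have h0 : e ⟨a, ha⟩ * e ⟨b, hb⟩ = e ⟨b, hb⟩ * e ⟨a, ha⟩ := mul_comm _ _
    rw [← map_mul, ← map_mul] at h0
    exact congrArg Subtype.val (e.injective h0)
  have hCN : Subgroup.centralizer ((P : Subgroup G) : Set G) ≤ Subgroup.normalizer ((P : Subgroup G) : Set G) :=
    Subgroup.centralizer_le_normalizer _
  have hSyl : IsSylowIn 2 (P : Subgroup G) (Subgroup.normalizer ((P : Subgroup G) : Set G)) :=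
    isSylowIn_of_sylow_le P Subgroup.le_normalizer
  have hPcent : ∀ x ∈ (P : Subgroup G), x ∈ Subgroup.centralizer ((P : Subgroup G) : Set G) := by
    intro x hx
    rw [Subgroup.mem_centralizer_iff]
    intro y hy
    exact hPc y hy x hx
  have h2el : ∀ x ∈ Subgroup.normalizer ((P : Subgroup G) : Set G), ∀ k : ℕ, x ^ (2 ^ k) = 1 →
      x ∈ (P : Subgroup G) := by
    intro x hxN k hxk
    have hR : IsPGroup 2 (Subgroup.zpowers x) := by
      have hd : orderOf x ∣ 2 ^ k := orderOf_dvd_of_pow_eq_one hxk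
      obtain ⟨i, _, hi⟩ := (Nat.dvd_prime_pow Nat.prime_two).mp hd
      apply IsPGroup.of_card (n := i)
      rw [Nat.card_zpowers, hi]
    obtain ⟨h, hhN, hle⟩ := hSyl.exists_conj_le (by rw [Subgroup.zpowers_le]; exact hxN) hR
    have h1 : h * x * h⁻¹ ∈ (P : Subgroup G) := hle (conj_mem_conjSub (Subgroup.mem_zpowers x))
    have h2 := (Subgroup.mem_normalizer_iff.mp (Subgroup.inv_mem _ hhN) (h * x * h⁻¹)).mp h1
    have h3 : h⁻¹ * (h * x * h⁻¹) * h⁻¹⁻¹ = x := by group
    rwa [h3] at h2
  -- odd part reduction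
  have hodd : ∀ x ∈ Subgroup.normalizer ((P : Subgroup G) : Set G),
      x ∉ Subgroup.centralizer ((P : Subgroup G) : Set G) →
      ∃ (a r : ℕ), Odd r ∧ (x ^ (2 ^ a)) ^ r = 1 ∧
        x ^ (2 ^ a) ∉ Subgroup.centralizer ((P : Subgroup G) : Set G) := by
    intro x hxN hxC
    obtain ⟨a, r, hr, hor⟩ := Nat.exists_eq_two_pow_mul_odd (orderOf_pos x).ne'
    refine ⟨a, r, hr, by rw [← pow_mul, ← hor]; exact pow_orderOf_eq_one x, ?_⟩
    have hg2 : x ^ r ∈ (P : Subgroup G) :=
      h2el _ (Subgroup.pow_mem _ hxN _) a (by rw [← pow_mul, mul_comm, ← hor]; exact pow_orderOf_eq_one x)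
    intro hgc
    apply hxC
    have hcop : Nat.gcd (2 ^ a) r = 1 := Nat.Coprime.pow_left a (Nat.coprime_two_left.mpr hr)
    have hb : ((2 ^ a : ℕ) : ℤ) * Nat.gcdA (2 ^ a) r + (r : ℤ) * Nat.gcdB (2 ^ a) r = 1 := by
      rw [← Nat.gcd_eq_gcd_ab, hcop]; simp
    have h1 : x = (x ^ (2 ^ a)) ^ (Nat.gcdA (2 ^ a) r) * (x ^ r) ^ (Nat.gcdB (2 ^ a) r) := by
      calc x = x ^ (1 : ℤ) := (zpow_one x).symm
        _ = x ^ (((2 ^ a : ℕ) : ℤ) * Nat.gcdA (2 ^ a) r + (r : ℤ) * Nat.gcdB (2 ^ a) r) := by rw [hb]
        _ = x ^ (((2 ^ a : ℕ) : ℤ) * Nat.gcdA (2 ^ a) r) * x ^ ((r : ℤ) * Nat.gcdB (2 ^ a) r) :=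
            zpow_add _ _ _
        _ = (x ^ ((2 ^ a : ℕ) : ℤ)) ^ (Nat.gcdA (2 ^ a) r) * (x ^ (r : ℤ)) ^ (Nat.gcdB (2 ^ a) r) := by
            rw [zpow_mul, zpow_mul]
        _ = (x ^ (2 ^ a)) ^ (Nat.gcdA (2 ^ a) r) * (x ^ r) ^ (Nat.gcdB (2 ^ a) r) := by
            rw [zpow_natCast, zpow_natCast]
    rw [h1]
    exact Subgroup.mul_mem _ (Subgroup.zpow_mem _ hgc _) (Subgroup.zpow_mem _ (hPcent _ hg2) _)
  -- odd order elements fixing an involution are central on P
  have hfix_odd : ∀ y ∈ Subgroup.normalizer ((P : Subgroup G) : Set G), ∀ r : ℕ, Odd r → y ^ r = 1 →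
      ∀ t ∈ (P : Subgroup G), t * t = 1 → t ≠ 1 → y * t = t * y →
      y ∈ Subgroup.centralizer ((P : Subgroup G) : Set G) := by
    intro y hyN r hr hyr t htP htt ht1 hyt
    have hyconj : ∀ x ∈ (P : Subgroup G), y * x * y⁻¹ ∈ (P : Subgroup G) :=
      fun x hx => (Subgroup.mem_normalizer_iff.mp hyN x).mp hx
    have hall : ∀ s ∈ (P : Subgroup G), s * s = 1 → y * s * y⁻¹ = s := by
      intro s hsP hss
      by_contra hne
      have hs1 : s ≠ 1 := by
        intro h0; apply hne; rw [h0]; group
      have hytt : y * t * y⁻¹ = t := by rw [hyt]; group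
      have hst : s ≠ t := by
        intro h0; apply hne; rw [h0]; exact hytt
      have hs₁P := hyconj s hsP
      have hs₂P := hyconj _ hs₁P
      have hs₁s₁ : (y * s * y⁻¹) * (y * s * y⁻¹) = 1 := by
        calc (y * s * y⁻¹) * (y * s * y⁻¹) = y * (s * s) * y⁻¹ := by group
          _ = 1 := by rw [hss]; group
      have hs₂s₂ : (y * (y * s * y⁻¹) * y⁻¹) * (y * (y * s * y⁻¹) * y⁻¹) = 1 := by
        calc (y * (y * s * y⁻¹) * y⁻¹) * (y * (y * s * y⁻¹) * y⁻¹)
            = y * ((y * s * y⁻¹) * (y * s * y⁻¹)) * y⁻¹ := by group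
          _ = 1 := by rw [hs₁s₁]; group
      have hs₁1 : y * s * y⁻¹ ≠ 1 := by
        intro h0; apply hs1
        calc s = y⁻¹ * (y * s * y⁻¹) * y := by group
          _ = 1 := by rw [h0]; group
      have hs₂1 : y * (y * s * y⁻¹) * y⁻¹ ≠ 1 := by
        intro h0; apply hs₁1
        calc y * s * y⁻¹ = y⁻¹ * (y * (y * s * y⁻¹) * y⁻¹) * y := by group
          _ = 1 := by rw [h0]; group
      have hs₁t : y * s * y⁻¹ ≠ t := by
        intro h0; apply hst
        calc s = y⁻¹ * (y * s * y⁻¹) * y := by group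
          _ = y⁻¹ * (y * t * y⁻¹) * y := by rw [h0, hytt]
          _ = t := by group
      have hs₂t : y * (y * s * y⁻¹) * y⁻¹ ≠ t := by
        intro h0; apply hs₁t
        calc y * s * y⁻¹ = y⁻¹ * (y * (y * s * y⁻¹) * y⁻¹) * y := by group
          _ = y⁻¹ * (y * t * y⁻¹) * y := by rw [h0, hytt]
          _ = t := by group
      have hs₂s₁ : y * (y * s * y⁻¹) * y⁻¹ ≠ y * s * y⁻¹ := by
        intro h0; apply hne
        calc y * s * y⁻¹ = y⁻¹ * (y * (y * s * y⁻¹) * y⁻¹) * y := by group
          _ = y⁻¹ * (y * s * y⁻¹) * y := by rw [h0]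
          _ = s := by group
      have hs₂s : y * (y * s * y⁻¹) * y⁻¹ ≠ s := by
        intro h0; apply hne
        have hc : Commute (y * y) s := by
          show y * y * s = s * (y * y)
          calc y * y * s = (y * (y * s * y⁻¹) * y⁻¹) * (y * y) := by group
            _ = s * (y * y) := by rw [h0]
        obtain ⟨j, hj⟩ := hr
        have hy' : y = (y * y) ^ (j + 1) := by
          rw [← pow_two, ← pow_mul, show 2 * (j + 1) = r + 1 by omega, pow_succ, hyr, one_mul]
        have hc2 : Commute y s := by rw [hy']; exact hc.pow_left _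
        calc y * s * y⁻¹ = (s * y) * y⁻¹ := by rw [hc2.eq]
          _ = s := by group
      have hcount := inv_count P m hm e [1, t, s, y * s * y⁻¹, y * (y * s * y⁻¹) * y⁻¹]
        (by
          simp only [List.nodup_cons, List.mem_cons, List.not_mem_nil, or_false, not_or, List.nodup_nil,
            and_true, not_false_eq_true]
          exact ⟨⟨ht1.symm, hs1.symm, hs₁1.symm, hs₂1.symm⟩, ⟨hst.symm, hs₁t.symm, hs₂t.symm⟩,
            ⟨fun h0 => hne h0.symm, hs₂s.symm⟩, hs₂s₁.symm⟩)
        (by
          intro x hx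
          simp only [List.mem_cons, List.not_mem_nil, or_false] at hx
          rcases hx with rfl | rfl | rfl | rfl | rfl
          · exact ⟨Subgroup.one_mem _, mul_one 1⟩
          · exact ⟨htP, htt⟩
          · exact ⟨hsP, hss⟩
          · exact ⟨hs₁P, hs₁s₁⟩
          · exact ⟨hs₂P, hs₂s₂⟩)
      simp at hcount
    rw [Subgroup.mem_centralizer_iff]
    intro x hx
    have h0 := Cfsg.Agent.S0946.coprime_trivial_on_omega hPc P.isPGroup' y hyconj r hr hyr hall x hx
    calc x * y = (y * x * y⁻¹) * y := by rw [h0]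
      _ = y * x := by group
  -- Lemma K
  have hK : ∀ x ∈ Subgroup.normalizer ((P : Subgroup G) : Set G), ∀ t ∈ (P : Subgroup G), t * t = 1 → t ≠ 1 →
      x * t = t * x → x ∈ Subgroup.centralizer ((P : Subgroup G) : Set G) := by
    intro x hxN t htP htt ht1 hxt
    by_contra hxC
    obtain ⟨a, r, hr, hyr, hyC⟩ := hodd x hxN hxC
    apply hyC
    apply hfix_odd _ (Subgroup.pow_mem _ hxN _) r hr hyr t htP htt ht1
    exact ((show Commute x t from hxt).pow_left _).eq
  refine ⟨?_, ?_⟩
  · by_cases hNC : Subgroup.normalizer ((P : Subgroup G) : Set G) ≤ Subgroup.centralizer ((P : Subgroup G) : Set G)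
    · left; exact Subgroup.relIndex_eq_one.mpr hNC
    · right
      obtain ⟨g₀, hg₀N, hg₀C⟩ := SetLike.not_le_iff_exists.mp hNC
      obtain ⟨a, r, hr, hgr, hgC⟩ := hodd g₀ hg₀N hg₀C
      have hgN : g₀ ^ (2 ^ a) ∈ Subgroup.normalizer ((P : Subgroup G) : Set G) := Subgroup.pow_mem _ hg₀N _
      generalize g₀ ^ (2 ^ a) = g at hgr hgN hgC
      have hgconj : ∀ x ∈ (P : Subgroup G), g * x * g⁻¹ ∈ (P : Subgroup G) :=
        fun x hx => (Subgroup.mem_normalizer_iff.mp hgN x).mp hx
      obtain ⟨t, htP, htt, htg⟩ : ∃ t ∈ (P : Subgroup G), t * t = 1 ∧ g * t * g⁻¹ ≠ t := by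
        by_contra hcon
        push Not at hcon
        apply hgC
        rw [Subgroup.mem_centralizer_iff]
        intro x hx
        have h0 := Cfsg.Agent.S0946.coprime_trivial_on_omega hPc P.isPGroup' g hgconj r hr hgr hcon x hx
        calc x * g = (g * x * g⁻¹) * g := by rw [h0]
          _ = g * x := by group
      have ht1 : t ≠ 1 := by
        intro h0; apply htg; rw [h0]; group
      have ht₁P : g * t * g⁻¹ ∈ (P : Subgroup G) := hgconj t htP
      have ht₂P : g * (g * t * g⁻¹) * g⁻¹ ∈ (P : Subgroup G) := hgconj _ ht₁P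
      have ht₁t₁ : (g * t * g⁻¹) * (g * t * g⁻¹) = 1 := by
        calc (g * t * g⁻¹) * (g * t * g⁻¹) = g * (t * t) * g⁻¹ := by group
          _ = 1 := by rw [htt]; group
      have ht₂t₂ : (g * (g * t * g⁻¹) * g⁻¹) * (g * (g * t * g⁻¹) * g⁻¹) = 1 := by
        calc (g * (g * t * g⁻¹) * g⁻¹) * (g * (g * t * g⁻¹) * g⁻¹)
            = g * ((g * t * g⁻¹) * (g * t * g⁻¹)) * g⁻¹ := by group
          _ = 1 := by rw [ht₁t₁]; group
      have h12 : g * (g * t * g⁻¹) * g⁻¹ ≠ g * t * g⁻¹ := by
        intro h0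
        apply htg
        calc g * t * g⁻¹ = g⁻¹ * (g * (g * t * g⁻¹) * g⁻¹) * g := by group
          _ = g⁻¹ * (g * t * g⁻¹) * g := by rw [h0]
          _ = t := by group
      have h02 : g * (g * t * g⁻¹) * g⁻¹ ≠ t := by
        intro h0
        apply htg
        have hc : Commute (g * g) t := by
          show g * g * t = t * (g * g)
          calc g * g * t = (g * (g * t * g⁻¹) * g⁻¹) * (g * g) := by group
            _ = t * (g * g) := by rw [h0]
        obtain ⟨j, hj⟩ := hr
        have hg' : g = (g * g) ^ (j + 1) := by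
          rw [← pow_two, ← pow_mul, show 2 * (j + 1) = r + 1 by omega, pow_succ, hgr, one_mul]
        have hc2 : Commute g t := by rw [hg']; exact hc.pow_left _
        calc g * t * g⁻¹ = (t * g) * g⁻¹ := by rw [hc2.eq]
          _ = t := by group
      have h1t₁ : g * t * g⁻¹ ≠ 1 := by
        intro h0; apply ht1
        calc t = g⁻¹ * (g * t * g⁻¹) * g := by group
          _ = 1 := by rw [h0]; group
      have h1t₂ : g * (g * t * g⁻¹) * g⁻¹ ≠ 1 := by
        intro h0; apply h1t₁
        calc g * t * g⁻¹ = g⁻¹ * (g * (g * t * g⁻¹) * g⁻¹) * g := by group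
          _ = 1 := by rw [h0]; group
      have hcover : ∀ x ∈ Subgroup.normalizer ((P : Subgroup G) : Set G),
          x ∈ Subgroup.centralizer ((P : Subgroup G) : Set G) ∨
          g⁻¹ * x ∈ Subgroup.centralizer ((P : Subgroup G) : Set G) ∨
          (g * g)⁻¹ * x ∈ Subgroup.centralizer ((P : Subgroup G) : Set G) := by
        intro x hxN
        have hsP : x * t * x⁻¹ ∈ (P : Subgroup G) := (Subgroup.mem_normalizer_iff.mp hxN t).mp htP
        have hss : (x * t * x⁻¹) * (x * t * x⁻¹) = 1 := by
          calc (x * t * x⁻¹) * (x * t * x⁻¹) = x * (t * t) * x⁻¹ := by group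
            _ = 1 := by rw [htt]; group
        have hs1 : x * t * x⁻¹ ≠ 1 := by
          intro h0; apply ht1
          calc t = x⁻¹ * (x * t * x⁻¹) * x := by group
            _ = 1 := by rw [h0]; group
        have hmem : x * t * x⁻¹ = t ∨ x * t * x⁻¹ = g * t * g⁻¹ ∨ x * t * x⁻¹ = g * (g * t * g⁻¹) * g⁻¹ := by
          by_contra hcon
          push Not at hcon
          obtain ⟨c1, c2, c3⟩ := hcon
          have hcount := inv_count P m hm e [1, t, g * t * g⁻¹, g * (g * t * g⁻¹) * g⁻¹, x * t * x⁻¹]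
            (by
              simp only [List.nodup_cons, List.mem_cons, List.not_mem_nil, or_false, not_or, List.nodup_nil,
                and_true, not_false_eq_true]
              exact ⟨⟨ht1.symm, h1t₁.symm, h1t₂.symm, hs1.symm⟩, ⟨htg.symm, h02.symm, fun h0 => c1 h0.symm⟩,
                ⟨h12.symm, fun h0 => c2 h0.symm⟩, fun h0 => c3 h0.symm⟩)
            (by
              intro y hy
              simp only [List.mem_cons, List.not_mem_nil, or_false] at hy
              rcases hy with rfl | rfl | rfl | rfl | rfl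
              · exact ⟨Subgroup.one_mem _, mul_one 1⟩
              · exact ⟨htP, htt⟩
              · exact ⟨ht₁P, ht₁t₁⟩
              · exact ⟨ht₂P, ht₂t₂⟩
              · exact ⟨hsP, hss⟩)
          simp at hcount
        rcases hmem with h0 | h0 | h0
        · left
          apply hK x hxN t htP htt ht1
          calc x * t = (x * t * x⁻¹) * x := by group
            _ = t * x := by rw [h0]
        · right; left
          have hN' : g⁻¹ * x ∈ Subgroup.normalizer ((P : Subgroup G) : Set G) :=
            Subgroup.mul_mem _ (Subgroup.inv_mem _ hgN) hxN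
          apply hK _ hN' t htP htt ht1
          calc g⁻¹ * x * t = g⁻¹ * (x * t * x⁻¹) * x := by group
            _ = g⁻¹ * (g * t * g⁻¹) * x := by rw [h0]
            _ = t * (g⁻¹ * x) := by group
        · right; right
          have hN' : (g * g)⁻¹ * x ∈ Subgroup.normalizer ((P : Subgroup G) : Set G) :=
            Subgroup.mul_mem _ (Subgroup.inv_mem _ (Subgroup.mul_mem _ hgN hgN)) hxN
          apply hK _ hN' t htP htt ht1
          calc (g * g)⁻¹ * x * t = (g * g)⁻¹ * (x * t * x⁻¹) * x := by group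
            _ = (g * g)⁻¹ * (g * (g * t * g⁻¹) * g⁻¹) * x := by rw [h0]
            _ = t * ((g * g)⁻¹ * x) := by group
      have hsub : ((Subgroup.normalizer ((P : Subgroup G) : Set G) : Subgroup G) : Set G) ⊆
          ((Subgroup.centralizer ((P : Subgroup G) : Set G) : Subgroup G) : Set G) ∪
            (fun c => g * c) '' ((Subgroup.centralizer ((P : Subgroup G) : Set G) : Subgroup G) : Set G) ∪
            (fun c => g * g * c) '' ((Subgroup.centralizer ((P : Subgroup G) : Set G) : Subgroup G) : Set G) := by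
        intro x hx
        rcases hcover x hx with h | h | h
        · left; left; exact h
        · left; right; exact ⟨g⁻¹ * x, h, by group⟩
        · right; exact ⟨(g * g)⁻¹ * x, h, by group⟩
      have hcardle : Nat.card ↥(Subgroup.normalizer ((P : Subgroup G) : Set G)) ≤
          3 * Nat.card ↥(Subgroup.centralizer ((P : Subgroup G) : Set G)) := by
        have e1 : Nat.card ↥(Subgroup.normalizer ((P : Subgroup G) : Set G)) =
            ((Subgroup.normalizer ((P : Subgroup G) : Set G) : Subgroup G) : Set G).ncard :=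
          Nat.card_coe_set_eq _
        have e2 : Nat.card ↥(Subgroup.centralizer ((P : Subgroup G) : Set G)) =
            ((Subgroup.centralizer ((P : Subgroup G) : Set G) : Subgroup G) : Set G).ncard :=
          Nat.card_coe_set_eq _
        rw [e1, e2]
        have i1 := Set.ncard_image_le (f := fun c => g * c)
          (Set.toFinite ((Subgroup.centralizer ((P : Subgroup G) : Set G) : Subgroup G) : Set G))
        have i2 := Set.ncard_image_le (f := fun c => g * g * c)
          (Set.toFinite ((Subgroup.centralizer ((P : Subgroup G) : Set G) : Subgroup G) : Set G))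
        have u1 := Set.ncard_le_ncard hsub (Set.toFinite _)
        have u2 := Set.ncard_union_le
          (((Subgroup.centralizer ((P : Subgroup G) : Set G) : Subgroup G) : Set G) ∪
            (fun c => g * c) '' ((Subgroup.centralizer ((P : Subgroup G) : Set G) : Subgroup G) : Set G))
          ((fun c => g * g * c) '' ((Subgroup.centralizer ((P : Subgroup G) : Set G) : Subgroup G) : Set G))
        have u3 := Set.ncard_union_le
          ((Subgroup.centralizer ((P : Subgroup G) : Set G) : Subgroup G) : Set G)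
          ((fun c => g * c) '' ((Subgroup.centralizer ((P : Subgroup G) : Set G) : Subgroup G) : Set G))
        omega
      have hmul := card_eq_card_mul_relIndex hCN
      have hCpos : 0 < Nat.card ↥(Subgroup.centralizer ((P : Subgroup G) : Set G)) := Nat.card_pos
      have hle3 : (Subgroup.centralizer ((P : Subgroup G) : Set G)).relIndex
          (Subgroup.normalizer ((P : Subgroup G) : Set G)) ≤ 3 := by
        rw [hmul] at hcardle
        by_contra hgt
        push Not at hgt
        nlinarith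
      have hne1 : (Subgroup.centralizer ((P : Subgroup G) : Set G)).relIndex
          (Subgroup.normalizer ((P : Subgroup G) : Set G)) ≠ 1 :=
        fun h0 => hNC (Subgroup.relIndex_eq_one.mp h0)
      have hodd2 : ¬ 2 ∣ (Subgroup.centralizer ((P : Subgroup G) : Set G)).relIndex
          (Subgroup.normalizer ((P : Subgroup G) : Set G)) := by
        intro hd
        apply hSyl.not_dvd
        exact dvd_trans hd (Subgroup.relIndex_dvd_of_le_left _ (fun x hx => hPcent x hx))
      have hne0 : (Subgroup.centralizer ((P : Subgroup G) : Set G)).relIndex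
          (Subgroup.normalizer ((P : Subgroup G) : Set G)) ≠ 0 := by
        intro h0
        rw [h0, mul_zero] at hmul
        have : 0 < Nat.card ↥(Subgroup.normalizer ((P : Subgroup G) : Set G)) := Nat.card_pos
        omega
      generalize (Subgroup.centralizer ((P : Subgroup G) : Set G)).relIndex
          (Subgroup.normalizer ((P : Subgroup G) : Set G)) = k at hle3 hne1 hodd2 hne0
      interval_cases k
      · exact absurd rfl hne0
      · exact absurd rfl hne1
      · exact absurd (dvd_refl 2) hodd2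
      · rfl
  · intro _ z hzP hz1
    apply le_antisymm
    · rintro x ⟨hxz, hxN⟩
      obtain ⟨k, hk⟩ := (IsPGroup.iff_orderOf.mp P.isPGroup') ⟨z, hzP⟩
      rw [Subgroup.orderOf_mk] at hk
      have hk1 : k ≠ 0 := by
        intro h0
        rw [h0, pow_zero, orderOf_eq_one_iff] at hk
        exact hz1 hk
      have hkk : k - 1 + 1 = k := by omega
      have htt : z ^ (2 ^ (k - 1)) * z ^ (2 ^ (k - 1)) = 1 := by
        rw [← pow_add, ← two_mul, ← pow_succ', hkk, ← hk]; exact pow_orderOf_eq_one z
      have ht1 : z ^ (2 ^ (k - 1)) ≠ 1 := by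
        apply pow_ne_one_of_lt_orderOf (by positivity)
        rw [hk]
        exact Nat.pow_lt_pow_right (by norm_num) (by omega)
      have hxz' : z * x = x * z := (Subgroup.mem_centralizer_iff.mp hxz) z (Set.mem_singleton z)
      exact hK x hxN _ (Subgroup.pow_mem _ hzP _) htt ht1
        (((show Commute x z from hxz'.symm).pow_right _).eq)
    · intro x hx
      refine Subgroup.mem_inf.mpr ⟨?_, hCN hx⟩
      rw [Subgroup.mem_centralizer_iff]
      intro y hy
      rw [Set.mem_singleton_iff] at hy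
      rw [hy]
      exact (Subgroup.mem_centralizer_iff.mp hx) z hzP

end Cfsg.Agent.S0945
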