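import Cfsg.Statements.S0949
import Cfsg.Agent.Lib.Helper24.HC12

set_option autoImplicit false
open Cfsg

namespace Cfsg.Agent.S0949

theorem result {G : Type*} [Group G] [Finite G] (P : Sylow 2 G) (m : ℕ) (hm : 2 ≤ m) (e : (P : Subgroup G) ≃* Multiplicative (ZMod (2 ^ m) × ZMod (2 ^ m))) (hO : ∀ N : Subgroup G, N.Normal → Odd (Nat.card N) → N = ⊥) : (P : Subgroup G).Normal ∧ Subgroup.centralizer (P : Set G) = (P : Subgroup G) ∧ ((P : Subgroup G).index = 1 ∨ (P : Subgroup G).index = 3) := by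
  have hab := Cfsg.Agent.Lib.Helper24.hc_model_comm (P : Subgroup G) (2 ^ m) e
  have hΩ := Cfsg.Agent.Lib.Helper24.hc_model_ncard (P : Subgroup G) m (by omega) e
  have h16 := Cfsg.Agent.Lib.Helper24.hc_model_card (P : Subgroup G) m hm e
  have hn := Cfsg.Agent.Lib.Helper24.hc_abstract _ G rfl P hab hΩ h16 hO
  exact ⟨hn, Cfsg.Agent.Lib.Helper24.hc_finish P hab hΩ hO hn⟩

end Cfsg.Agent.S0949
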