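import Cfsg.Statements.S0952
import Mathlib
import Cfsg.Agent.Lib.helper7.BlockSing2

set_option autoImplicit false
open scoped ComplexConjugate
open Cfsg

namespace Cfsg.Agent.S0952

open Cfsg.Agent.Lib.helper7 Cfsg.Agent.Lib.Helper25
open scoped ComplexConjugate

theorem key {G : Type*} [Group G] [Fintype G] [Fintype (Cfsg.IrrCharacter G)] (p : ℕ)
    [Fact p.Prime] (M : Ideal Cfsg.AlgInt) (hM : Cfsg.IsPModular p M)
    (χ ψ : Cfsg.IrrCharacter G) (h : ¬ Cfsg.SameBlock M (χ : G → ℂ) (ψ : G → ℂ)) :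
    ∑ x : G, (if ¬ p ∣ orderOf x then (χ : G → ℂ) x * conj ((ψ : G → ℂ) x) else 0) = 0 := by
  classical
  have hP := hM.2.1.isPrime
  set B := Cfsg.blockOf M (χ : G → ℂ) with hB
  have hχB : χ ∈ B := h7_sameBlock_refl hP _
  have hψB : ψ ∉ B := h
  set v : Cfsg.IrrCharacter G → ℂ := fun φ =>
    ∑ g : G, (if ¬ p ∣ orderOf g then (φ : G → ℂ) g * conj ((ψ : G → ℂ) g) else 0) with hv
  have hΘ : ∀ x g : G, ¬ p ∣ orderOf x → p ∣ orderOf g →
      ∑ φ : Cfsg.IrrCharacter G, (if φ ∈ B then conj ((φ : G → ℂ) x) * (φ : G → ℂ) g else 0) = 0 := by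
    intro x g hx hg
    have h1 := h7_weak_block_orth hM χ x g hx hg
    rw [finsum_mem_def, finsum_eq_sum_of_fintype] at h1
    have h2 := congrArg (starRingEnd ℂ) h1
    rw [map_sum, map_zero] at h2
    refine (Finset.sum_congr rfl fun φ _ => ?_).trans h2
    rw [Set.indicator_apply]
    by_cases hφ : φ ∈ B
    · rw [if_pos hφ, if_pos hφ, map_mul, Complex.conj_conj]
    · rw [if_neg hφ, if_neg hφ, map_zero]
  have step1 : ∀ x : G, ¬ p ∣ orderOf x →
      ∑ φ : Cfsg.IrrCharacter G, (if φ ∈ B then conj ((φ : G → ℂ) x) * v φ else 0) = 0 := by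
    intro x hx
    have e1 : ∀ φ : Cfsg.IrrCharacter G, (if φ ∈ B then conj ((φ : G → ℂ) x) * v φ else 0) =
        ∑ g : G, (if ¬ p ∣ orderOf g then conj ((ψ : G → ℂ) g) *
          (if φ ∈ B then conj ((φ : G → ℂ) x) * (φ : G → ℂ) g else 0) else 0) := by
      intro φ
      by_cases hφ : φ ∈ B
      · simp only [if_pos hφ, hv, Finset.mul_sum]
        refine Finset.sum_congr rfl fun g _ => ?_
        by_cases hg : p ∣ orderOf g
        · rw [if_neg (not_not.mpr hg), if_neg (not_not.mpr hg), mul_zero]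
        · rw [if_pos hg, if_pos hg]
          ring
      · simp only [if_neg hφ]
        simp
    rw [Finset.sum_congr rfl (fun φ _ => e1 φ), Finset.sum_comm]
    have e2 : ∀ g : G, ∑ φ : Cfsg.IrrCharacter G, (if ¬ p ∣ orderOf g then conj ((ψ : G → ℂ) g) *
          (if φ ∈ B then conj ((φ : G → ℂ) x) * (φ : G → ℂ) g else 0) else 0) =
        conj ((ψ : G → ℂ) g) * ∑ φ : Cfsg.IrrCharacter G,
          (if φ ∈ B then conj ((φ : G → ℂ) x) * (φ : G → ℂ) g else 0) := by
      intro g
      by_cases hg : p ∣ orderOf g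
      · rw [hΘ x g hx hg, mul_zero]
        apply Finset.sum_eq_zero
        intro φ _
        rw [if_neg (not_not.mpr hg)]
      · simp only [if_pos hg]
        rw [Finset.mul_sum]
    rw [Finset.sum_congr rfl (fun g _ => e2 g)]
    have e3 : ∀ g : G, conj ((ψ : G → ℂ) g) * ∑ φ : Cfsg.IrrCharacter G,
          (if φ ∈ B then conj ((φ : G → ℂ) x) * (φ : G → ℂ) g else 0) =
        ∑ φ : Cfsg.IrrCharacter G, (if φ ∈ B then conj ((φ : G → ℂ) x) else 0) *
          ((φ : G → ℂ) g * conj ((ψ : G → ℂ) g)) := by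
      intro g
      rw [Finset.mul_sum]
      refine Finset.sum_congr rfl fun φ _ => ?_
      split_ifs
      · ring
      · simp
    rw [Finset.sum_congr rfl (fun g _ => e3 g), Finset.sum_comm]
    apply Finset.sum_eq_zero
    intro φ _
    rw [← Finset.mul_sum]
    by_cases hφ : φ ∈ B
    · have hne : φ ≠ ψ := fun h => hψB (h ▸ hφ)
      have h3 := irr_classInner φ ψ
      rw [if_neg hne] at h3
      unfold Cfsg.classInner at h3
      have hG : (Nat.card G : ℂ) ≠ 0 := by exact_mod_cast Nat.card_pos.ne'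
      have h4 : ∑ g : G, (φ : G → ℂ) g * conj ((ψ : G → ℂ) g) = 0 := by
        rcases mul_eq_zero.mp h3 with h5 | h5
        · exact absurd (inv_eq_zero.mp h5) hG
        · exact h5
      rw [h4, mul_zero]
    · rw [if_neg hφ, zero_mul]
  have step2 : ∑ φ : Cfsg.IrrCharacter G, (if φ ∈ B then v φ * conj (v φ) else 0) = 0 := by
    have e1 : ∀ φ : Cfsg.IrrCharacter G, (if φ ∈ B then v φ * conj (v φ) else 0) =
        ∑ x : G, (if ¬ p ∣ orderOf x then (ψ : G → ℂ) x *
          (if φ ∈ B then conj ((φ : G → ℂ) x) * v φ else 0) else 0) := by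
      intro φ
      by_cases hφ : φ ∈ B
      · simp only [if_pos hφ]
        conv_lhs => rw [hv]
        simp only [map_sum, Finset.mul_sum]
        refine Finset.sum_congr rfl fun x _ => ?_
        by_cases hx : p ∣ orderOf x
        · simp [hx]
        · simp only [if_pos hx, map_mul, Complex.conj_conj]
          ring
      · simp only [if_neg hφ]
        simp
    rw [Finset.sum_congr rfl (fun φ _ => e1 φ), Finset.sum_comm]
    apply Finset.sum_eq_zero
    intro x _
    by_cases hx : p ∣ orderOf x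
    · apply Finset.sum_eq_zero
      intro φ _
      rw [if_neg (not_not.mpr hx)]
    · simp only [if_pos hx]
      rw [← Finset.mul_sum, step1 x hx, mul_zero]
  have step3 : v χ * conj (v χ) = 0 := by
    have hnn : ∀ φ ∈ (Finset.univ : Finset (Cfsg.IrrCharacter G)),
        0 ≤ (if φ ∈ B then Complex.normSq (v φ) else 0) := by
      intro φ _
      split_ifs
      · exact Complex.normSq_nonneg _
      · exact le_refl _
    have h5 : ∑ φ : Cfsg.IrrCharacter G, (if φ ∈ B then Complex.normSq (v φ) else 0) = 0 := by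
      have h6 : ((∑ φ : Cfsg.IrrCharacter G, (if φ ∈ B then Complex.normSq (v φ) else 0) : ℝ) : ℂ)
          = 0 := by
        rw [← step2]
        push_cast
        refine Finset.sum_congr rfl fun φ _ => ?_
        split_ifs
        · rw [Complex.mul_conj]
        · simp
      exact_mod_cast h6
    have h7 := (Finset.sum_eq_zero_iff_of_nonneg hnn).mp h5 χ (Finset.mem_univ χ)
    rw [if_pos hχB] at h7
    rw [Complex.mul_conj, h7]
    simp
  have : v χ = 0 := by
    rcases mul_eq_zero.mp step3 with h8 | h8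
    · exact h8
    · have := congrArg (starRingEnd ℂ) h8
      rwa [Complex.conj_conj, map_zero] at this
  exact this


/-- Let χ and ψ be irreducible characters of the finite group G lying in different blocks relative to a maximal ideal M of the algebraic integers containing the prime p. Then the sum of χ x * conj (ψ x) over the elements x of order prime to p is zero. -/
theorem result {G : Type*} [Group G] [Finite G] (p : ℕ) [Fact p.Prime] (M : Ideal Cfsg.AlgInt) (hM : Cfsg.IsPModular p M) (χ ψ : Cfsg.IrrCharacter G) (h : ¬ Cfsg.SameBlock M (χ : G → ℂ) (ψ : G → ℂ)) : ∑ᶠ x ∈ {x : G | ¬ p ∣ orderOf x}, (χ : G → ℂ) x * conj ((ψ : G → ℂ) x) = 0 := by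
  classical
  haveI : Fintype G := Fintype.ofFinite G
  haveI : Fintype (Cfsg.IrrCharacter G) := Fintype.ofFinite _
  rw [finsum_mem_def, finsum_eq_sum_of_fintype]
  rw [← key p M hM χ ψ h]
  refine Finset.sum_congr rfl fun x _ => ?_
  rw [Set.indicator_apply]
  rfl

end Cfsg.Agent.S0952
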