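import Mathlib
import Cfsg.Statements.S0957

set_option autoImplicit false
open Cfsg

namespace Cfsg.Agent.S0957

theorem pgroup_card_dvd_sylow {p : ℕ} [Fact p.Prime] {K : Type*} [Group K] [Finite K]
    (S : Sylow p K) {Q : Type*} [Group Q] (hQ : IsPGroup p Q) (f : Q →* K)
    (hf : Function.Injective f) : Nat.card Q ∣ Nat.card S := by
  have hr : IsPGroup p f.range :=
    hQ.of_surjective f.rangeRestrict f.rangeRestrict_surjective
  obtain ⟨S', hS'⟩ := hr.exists_le_sylow
  have h1 : Nat.card f.range ∣ Nat.card S' := Subgroup.card_dvd_of_le hS'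
  have h2 : Nat.card S' = Nat.card S := by
    rw [Sylow.card_eq_multiplicity, Sylow.card_eq_multiplicity]
  have h3 : Nat.card Q = Nat.card f.range :=
    Nat.card_congr (Equiv.ofInjective f hf)
  rw [h3, ← h2]
  exact h1

theorem dvd_card_of_dvd_orbits {A β : Type*} [Group A] [Finite A] [Finite β] [MulAction A β]
    (m : ℕ) (hm : ∀ b : β, m ∣ Nat.card A / Nat.card (MulAction.stabilizer A b)) :
    m ∣ Nat.card β := by
  classical
  have := Fintype.ofFinite A
  have := Fintype.ofFinite β
  have := Fintype.ofFinite (Quotient (MulAction.orbitRel A β))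
  have hcf := MulAction.card_eq_sum_card_group_div_card_stabilizer A β
  rw [Nat.card_eq_fintype_card, hcf]
  apply Finset.dvd_sum
  intro ω _
  have := hm ω.out
  simpa [Nat.card_eq_fintype_card] using this

variable {G : Type*} [Group G]

abbrev PairSet (P : Subgroup G) (g h : G) : Type _ :=
  {yz : G × G // IsConj g yz.1 ∧ IsConj h yz.2 ∧ yz.2 * yz.1⁻¹ ∈ P}

theorem isConj_conj (g x u : G) (hx : IsConj g x) : IsConj g (u * x * u⁻¹) :=
  hx.trans (isConj_iff.mpr ⟨u, rfl⟩)

def pairSmul (P : Subgroup G) (g h : G) (u : P) (yz : PairSet P g h) : PairSet P g h :=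
  ⟨((u : G) * yz.1.1 * (u : G)⁻¹, (u : G) * yz.1.2 * (u : G)⁻¹),
    isConj_conj g _ _ yz.2.1, isConj_conj h _ _ yz.2.2.1, by
      have h3 := yz.2.2.2
      have : (u : G) * yz.1.2 * (u : G)⁻¹ * ((u : G) * yz.1.1 * (u : G)⁻¹)⁻¹
          = (u : G) * (yz.1.2 * yz.1.1⁻¹) * (u : G)⁻¹ := by group
      rw [this]
      exact P.mul_mem (P.mul_mem u.2 h3) (P.inv_mem u.2)⟩

@[reducible] def pairAction (P : Subgroup G) (g h : G) : MulAction P (PairSet P g h) where
  smul := pairSmul P g h
  one_smul := by
    intro xy
    apply Subtype.ext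
    apply Prod.ext <;> simp [HSMul.hSMul, pairSmul]
  mul_smul := by
    intro u v xy
    apply Subtype.ext
    apply Prod.ext <;> simp [HSMul.hSMul, pairSmul, mul_assoc]

theorem result {G : Type*} [Group G] [Finite G] (p : ℕ) [Fact p.Prime] (P : Sylow p G) (g h : G) (S : Sylow p (Subgroup.centralizer ({g} : Set G))) : Nat.card P / Nat.card S ∣ Nat.card {yz : G × G // IsConj g yz.1 ∧ IsConj h yz.2 ∧ yz.2 * yz.1⁻¹ ∈ (P : Subgroup G)} := by
  classical
  let _ : MulAction (P : Subgroup G) (PairSet (P : Subgroup G) g h) := pairAction (P : Subgroup G) g h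
  have : Finite (PairSet (P : Subgroup G) g h) := by unfold PairSet; infer_instance
  have hsmul : ∀ (u : (P : Subgroup G)) (xy : PairSet (P : Subgroup G) g h),
      (u • xy).1 = ((u : G) * xy.1.1 * (u : G)⁻¹, (u : G) * xy.1.2 * (u : G)⁻¹) := by
    intro u xy; rfl
  have hSP : Nat.card S ∣ Nat.card P := by
    have := pgroup_card_dvd_sylow P S.isPGroup'
      ((Subgroup.centralizer ({g} : Set G)).subtype.comp (S : Subgroup (Subgroup.centralizer ({g} : Set G))).subtype)
      (by
        intro a b hab
        apply Subtype.ext; apply Subtype.ext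
        simpa using hab)
    exact this
  apply dvd_card_of_dvd_orbits (A := (P : Subgroup G)) (β := PairSet (P : Subgroup G) g h)
  intro b
  apply Nat.div_dvd_div_left hSP
  obtain ⟨k, hk⟩ := isConj_iff.mp b.2.1
  have hstabP : IsPGroup p (MulAction.stabilizer (P : Subgroup G) b) :=
    P.isPGroup'.to_subgroup _
  let f : (MulAction.stabilizer (P : Subgroup G) b) →* Subgroup.centralizer ({g} : Set G) :=
    { toFun := fun u => ⟨k⁻¹ * (u : G) * k, by
        rw [Subgroup.mem_centralizer_iff]
        intro x hx
        rw [Set.mem_singleton_iff] at hx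
        subst hx
        have hu := u.2
        rw [MulAction.mem_stabilizer_iff] at hu
        have h1 := congrArg (fun t => t.1.1) hu
        simp only [hsmul] at h1
        rw [← hk] at h1
        have h2 : ((u : (P : Subgroup G)) : G) * (k * x * k⁻¹) = (k * x * k⁻¹) * ((u : (P : Subgroup G)) : G) := by
          calc ((u : (P : Subgroup G)) : G) * (k * x * k⁻¹)
              = ((u : (P : Subgroup G)) : G) * (k * x * k⁻¹) * ((u : (P : Subgroup G)) : G)⁻¹ * ((u : (P : Subgroup G)) : G) := by group
            _ = (k * x * k⁻¹) * ((u : (P : Subgroup G)) : G) := by rw [h1]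
        calc x * (k⁻¹ * ((u : (P : Subgroup G)) : G) * k)
            = k⁻¹ * ((k * x * k⁻¹) * ((u : (P : Subgroup G)) : G)) * k := by group
          _ = k⁻¹ * (((u : (P : Subgroup G)) : G) * (k * x * k⁻¹)) * k := by rw [h2]
          _ = k⁻¹ * ((u : (P : Subgroup G)) : G) * k * x := by group⟩
      map_one' := by
        apply Subtype.ext
        simp
      map_mul' := by
        intro a b
        apply Subtype.ext
        simp only [Subgroup.coe_mul]
        group }
  have hf : Function.Injective f := by
    intro a b hab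
    have h1 := congrArg (fun t : Subgroup.centralizer ({g} : Set G) => (t : G)) hab
    simp only [f, MonoidHom.coe_mk, OneHom.coe_mk] at h1
    apply Subtype.ext; apply Subtype.ext
    have : k⁻¹ * ((a : (P : Subgroup G)) : G) * k = k⁻¹ * ((b : (P : Subgroup G)) : G) * k := h1
    have h2 := congrArg (fun t => k * t * k⁻¹) this
    simpa [mul_assoc] using h2
  exact pgroup_card_dvd_sylow S hstabP f hf

end Cfsg.Agent.S0957
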