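import Mathlib
import Cfsg.Statements.S0986
import Cfsg.Agent.Lib.helper8.SylowBasic
import Cfsg.Agent.Lib.helper8.SylowConj
import Cfsg.Agent.Lib.helper8.SubgroupCard

set_option autoImplicit false
open Cfsg
open Cfsg.Agent.Lib.helper8

namespace Cfsg.Agent.S0986

theorem main {G : Type*} [Group G] [Finite G] (p : ℕ) [Fact p.Prime] (P Q : Sylow p G) (hPQ : P ≠ Q)
    (D N : Subgroup G) (hD : D = (P : Subgroup G) ⊓ (Q : Subgroup G))
    (hN : N = Subgroup.normalizer (D : Set G))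
    (hmax : ∀ P' Q' : Sylow p G, P' ≠ Q' →
      Nat.card ↥((P' : Subgroup G) ⊓ (Q' : Subgroup G)) ≤ Nat.card D) :
    1 < Nat.card (Sylow p N) ∧
    (∀ S T : Sylow p N, S ≠ T → (S : Subgroup N) ⊓ (T : Subgroup N) = D.subgroupOf N) ∧
    ∀ S : Sylow p N, ∃! T : Sylow p G, (S : Subgroup N).map N.subtype ≤ (T : Subgroup G) := by
  have hDN : D ≤ N := hN ▸ Subgroup.le_normalizer
  have hDP : D ≤ (P : Subgroup G) := hD ▸ inf_le_left
  have hDQ : D ≤ (Q : Subgroup G) := hD ▸ inf_le_right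
  have hDneP : D ≠ (P : Subgroup G) := by
    intro h
    apply hPQ
    apply h8_sylow_eq_of_le p P Q
    rw [← h]; exact hDQ
  have hDneQ : D ≠ (Q : Subgroup G) := by
    intro h
    apply hPQ
    symm
    apply h8_sylow_eq_of_le p Q P
    rw [← h]; exact hDP
  obtain ⟨x, hxP, hxN, hxD⟩ := h8_exists_normalizer_not_mem p (P : Subgroup G) D P.2 hDP hDneP
  obtain ⟨y, hyQ, hyN, hyD⟩ := h8_exists_normalizer_not_mem p (Q : Subgroup G) D Q.2 hDQ hDneQ
  rw [← hN] at hxN hyN
  have hNP : Nat.card D < Nat.card (N ⊓ (P : Subgroup G) : Subgroup G) :=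
    h8_card_lt_of_lt D _ (le_inf hDN hDP) x ⟨hxN, hxP⟩ hxD
  have hNQ : Nat.card D < Nat.card (N ⊓ (Q : Subgroup G) : Subgroup G) :=
    h8_card_lt_of_lt D _ (le_inf hDN hDQ) y ⟨hyN, hyQ⟩ hyD
  have hNPp : IsPGroup p ((N ⊓ (P : Subgroup G) : Subgroup G).subgroupOf N) :=
    (P.2.to_inf_right).comap_subtype
  have hNQp : IsPGroup p ((N ⊓ (Q : Subgroup G) : Subgroup G).subgroupOf N) :=
    (Q.2.to_inf_right).comap_subtype
  obtain ⟨S1, hS1⟩ := hNPp.exists_le_sylow
  obtain ⟨S2, hS2⟩ := hNQp.exists_le_sylow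
  have hcardmap : ∀ S : Sylow p N, Nat.card ((S : Subgroup N).map N.subtype) = Nat.card (S : Subgroup N) :=
    fun S => Subgroup.card_map_of_injective N.subtype_injective
  have hSbig : ∀ S : Sylow p N, Nat.card D < Nat.card (S : Subgroup N) := by
    intro S
    rw [h8_sylow_card_eq p S S1]
    have h1 := Subgroup.card_le_of_le hS1
    rw [h8_card_subgroupOf inf_le_left] at h1
    omega
  have hmapp : ∀ S : Sylow p N, IsPGroup p ((S : Subgroup N).map N.subtype) := fun S => S.2.map _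
  have huniq : ∀ S : Sylow p N, ∀ T1 T2 : Sylow p G, (S : Subgroup N).map N.subtype ≤ (T1 : Subgroup G) →
      (S : Subgroup N).map N.subtype ≤ (T2 : Subgroup G) → T1 = T2 := by
    intro S T1 T2 h1 h2
    by_contra hne
    have h3 := hmax T1 T2 hne
    have h4 := Subgroup.card_le_of_le (le_inf h1 h2)
    rw [hcardmap] at h4
    have := hSbig S
    omega
  have hex : ∀ S : Sylow p N, ∃! T : Sylow p G, (S : Subgroup N).map N.subtype ≤ (T : Subgroup G) := by
    intro S
    obtain ⟨T, hT⟩ := (hmapp S).exists_le_sylow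
    exact ⟨T, hT, fun T' hT' => huniq S T' T hT' hT⟩
  have hmem_map : ∀ (S : Sylow p N) (g : G) (hg : g ∈ N), (⟨g, hg⟩ : N) ∈ (S : Subgroup N) →
      g ∈ (S : Subgroup N).map N.subtype := fun S g hg h => Subgroup.mem_map.mpr ⟨⟨g, hg⟩, h, rfl⟩
  have key : ∀ (R : Sylow p G) (S : Sylow p N) (T : Sylow p G),
      (N ⊓ (R : Subgroup G) : Subgroup G).subgroupOf N ≤ (S : Subgroup N) →
      Nat.card D < Nat.card (N ⊓ (R : Subgroup G) : Subgroup G) →
      (S : Subgroup N).map N.subtype ≤ (T : Subgroup G) → T = R := by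
    intro R S T hRS hbig hST
    by_contra hne
    have h1 : (N ⊓ (R : Subgroup G) : Subgroup G) ≤ (T : Subgroup G) ⊓ (R : Subgroup G) := by
      intro g hg
      refine ⟨hST (hmem_map S g hg.1 (hRS (Subgroup.mem_subgroupOf.mpr hg))), hg.2⟩
    have h2 := Subgroup.card_le_of_le h1
    have h3 := hmax T R hne
    omega
  have hSne : S1 ≠ S2 := by
    intro h
    obtain ⟨T, hT, _⟩ := hex S1
    have h1 := key P S1 T hS1 hNP hT
    have h2 := key Q S1 T (h ▸ hS2) hNQ hT
    exact hPQ (h1.symm.trans h2)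
  refine ⟨?_, ?_, hex⟩
  · rw [Finite.one_lt_card_iff_nontrivial]
    exact nontrivial_of_ne S1 S2 hSne
  · intro S T hST
    haveI : (D.subgroupOf N).Normal := by
      subst hN
      exact Subgroup.normal_in_normalizer
    have hDp : IsPGroup p (D.subgroupOf N) := by
      have : IsPGroup p D := hD ▸ P.2.to_inf_left
      exact this.comap_subtype
    have hle : D.subgroupOf N ≤ (S : Subgroup N) ⊓ (T : Subgroup N) :=
      le_inf (hDp.le_sylow_of_normal S) (hDp.le_sylow_of_normal T)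
    symm
    apply Subgroup.eq_of_le_of_card_ge hle
    rw [h8_card_subgroupOf hDN]
    obtain ⟨TS, hTS, _⟩ := hex S
    obtain ⟨TT, hTT, _⟩ := hex T
    have hne : TS ≠ TT := by
      intro h
      apply hST
      have hS' : (S : Subgroup N) ≤ (N ⊓ (TS : Subgroup G) : Subgroup G).subgroupOf N := by
        intro g hg
        rw [Subgroup.mem_subgroupOf]
        exact ⟨g.2, hTS (hmem_map S g.1 g.2 hg)⟩
      have hT' : (T : Subgroup N) ≤ (N ⊓ (TS : Subgroup G) : Subgroup G).subgroupOf N := by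
        intro g hg
        rw [Subgroup.mem_subgroupOf]
        exact ⟨g.2, h ▸ hTT (hmem_map T g.1 g.2 hg)⟩
      have hp' : IsPGroup p ((N ⊓ (TS : Subgroup G) : Subgroup G).subgroupOf N) :=
        (TS.2.to_inf_right).comap_subtype
      have e1 := S.3 hp' hS'
      have e2 := T.3 hp' hT'
      apply Sylow.ext
      rw [← e1, ← e2]
    have h1 : ((S : Subgroup N) ⊓ (T : Subgroup N) : Subgroup N).map N.subtype ≤
        (TS : Subgroup G) ⊓ (TT : Subgroup G) := by
      rintro g hg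
      obtain ⟨g', hg', rfl⟩ := Subgroup.mem_map.mp hg
      exact ⟨hTS (Subgroup.mem_map.mpr ⟨g', hg'.1, rfl⟩), hTT (Subgroup.mem_map.mpr ⟨g', hg'.2, rfl⟩)⟩
    have h2 := Subgroup.card_le_of_le h1
    rw [Subgroup.card_map_of_injective N.subtype_injective] at h2
    exact h2.trans (hmax TS TT hne)

theorem result {G : Type*} [Group G] [Finite G] (p : ℕ) [Fact p.Prime] (P Q : Sylow p G) (hPQ : P ≠ Q) (hmax : ∀ P' Q' : Sylow p G, P' ≠ Q' → Nat.card ↥((P' : Subgroup G) ⊓ (Q' : Subgroup G)) ≤ Nat.card ↥((P : Subgroup G) ⊓ (Q : Subgroup G))) : 1 < Nat.card (Sylow p ↥(Subgroup.normalizer (((P : Subgroup G) ⊓ (Q : Subgroup G) : Subgroup G) : Set G))) ∧ (∀ S T : Sylow p ↥(Subgroup.normalizer (((P : Subgroup G) ⊓ (Q : Subgroup G) : Subgroup G) : Set G)), S ≠ T → (S : Subgroup _) ⊓ (T : Subgroup _) = ((P : Subgroup G) ⊓ (Q : Subgroup G)).subgroupOf (Subgroup.normalizer (((P : Subgroup G) ⊓ (Q : Subgroup G) : Subgroup G) : Set G))) ∧ ∀ S : Sylow p ↥(Subgroup.normalizer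 (((P : Subgroup G) ⊓ (Q : Subgroup G) : Subgroup G) : Set G)), ∃! T : Sylow p G, (S : Subgroup _).map (Subgroup.normalizer (((P : Subgroup G) ⊓ (Q : Subgroup G) : Subgroup G) : Set G)).subtype ≤ (T : Subgroup G) :=
  main p P Q hPQ _ _ rfl rfl hmax

end Cfsg.Agent.S0986
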