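import Mathlib
import Cfsg.Statements.S0987
import Cfsg.Agent.Lib.helper8.SylowBasic
import Cfsg.Agent.Lib.helper8.CountOrder

set_option autoImplicit false
open Cfsg
open Cfsg.Agent.Lib.helper8

namespace Cfsg.Agent.S0987

theorem dvd_mul_primes (a b n : ℕ) (ha : a.Prime) (hb : b.Prime) (h : n ∣ a * b) :
    n = 1 ∨ n = a ∨ n = b ∨ n = a * b := by
  rcases Nat.coprime_or_dvd_of_prime ha n with h1 | h1
  · have h2 : n ∣ b := (Nat.Coprime.dvd_of_dvd_mul_left h1.symm h)
    rcases (Nat.dvd_prime hb).mp h2 with h3 | h3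
    · left; exact h3
    · right; right; left; exact h3
  · obtain ⟨k, rfl⟩ := h1
    have h2 : k ∣ b := (Nat.mul_dvd_mul_iff_left ha.pos).mp h
    rcases (Nat.dvd_prime hb).mp h2 with h3 | h3
    · right; left; rw [h3, mul_one]
    · right; right; right; rw [h3]

theorem centralizes_of_normal {G : Type*} [Group G] [Finite G] (q r : ℕ) (hq : q.Prime) (hr : r.Prime)
    (hqr : q < r) (Q R : Subgroup G) [Q.Normal] (hQ : Nat.card Q = q) (hR : Nat.card R = r) :
    Q ≤ Subgroup.centralizer (R : Set G) := by
  haveI := Fact.mk hq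
  haveI : IsCyclic Q := isCyclic_of_prime_card hQ
  let φ : R →* MulAut Q := (MulAut.conjNormal (H := Q)).comp R.subtype
  have hφ : ∀ x : R, φ x = 1 := by
    intro x
    have h1 : orderOf (φ x) ∣ r := by
      have := orderOf_map_dvd φ x
      exact this.trans (hR ▸ orderOf_dvd_natCard x)
    have h2 : orderOf (φ x) ∣ q - 1 := by
      have := orderOf_dvd_natCard (φ x)
      rwa [IsCyclic.card_mulAut, hQ, Nat.totient_prime hq] at this
    have h3 : Nat.Coprime r (q - 1) := by
      rw [Nat.Prime.coprime_iff_not_dvd hr]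
      intro h
      have := Nat.le_of_dvd (by have := hq.two_le; omega) h
      omega
    have := Nat.eq_one_of_dvd_coprimes h3 h1 h2
    exact orderOf_eq_one_iff.mp this
  intro y hy
  rw [Subgroup.mem_centralizer_iff]
  intro x hx
  have := hφ ⟨x, hx⟩
  have h4 := congrArg (fun f : MulAut Q => ((f ⟨y, hy⟩ : Q) : G)) this
  simp only [φ, MonoidHom.comp_apply, Subgroup.subtype_apply, MulAut.conjNormal_apply,
    MulAut.one_apply] at h4
  calc x * y = (x * y * x⁻¹) * x := by group
    _ = y * x := by rw [h4]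

theorem result {G : Type*} [Group G] [Finite G] (p q r : ℕ) (hp : p.Prime) (hq : q.Prime) [Fact r.Prime] (hpq : p < q) (hqr : q < r) (hG : Nat.card G = p * q * r) (R : Sylow r G) : (R : Subgroup G).Normal := by
  have hr : r.Prime := Fact.out
  haveI := Fact.mk hq
  have hp2 := hp.two_le
  have hGr : Nat.card G = r ^ 1 * (p * q) := by rw [hG]; ring
  have hnr : ¬ r ∣ p * q := by
    intro h
    rcases (Nat.Prime.dvd_mul hr).mp h with h | h
    · have := Nat.le_of_dvd hp.pos h; omega
    · have := Nat.le_of_dvd hq.pos h; omega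
  have h1 := h8_nsylow_dvd r 1 (p * q) hGr hnr
  have h2 := h8_nsylow_mod (G := G) r
  rcases dvd_mul_primes p q _ hp hq h1 with h3 | h3 | h3 | h3
  · exact h8_normal_of_nsylow_eq_one r h3 R
  · rw [h3, Nat.mod_eq_of_lt (by omega)] at h2; omega
  · rw [h3, Nat.mod_eq_of_lt (by omega)] at h2; omega
  · exfalso
    have hNR := h8_card_normalizer_sylow r R
    rw [h3, hG] at hNR
    have hNR' : Nat.card (Subgroup.normalizer ((R : Subgroup G) : Set G)) = r := by
      have : Nat.card (Subgroup.normalizer ((R : Subgroup G) : Set G)) * (p * q) = r * (p * q) := by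
        rw [hNR]; ring
      exact Nat.eq_of_mul_eq_mul_right (Nat.mul_pos hp.pos hq.pos) this
    have hRc : Nat.card (R : Subgroup G) = r := by
      have := h8_sylow_card r 1 (p * q) hGr hnr R
      rwa [pow_one] at this
    have hGq : Nat.card G = q ^ 1 * (p * r) := by rw [hG]; ring
    have hnq : ¬ q ∣ p * r := by
      intro h
      rcases (Nat.Prime.dvd_mul hq).mp h with h | h
      · have := Nat.le_of_dvd hp.pos h; omega
      · have := (Nat.prime_dvd_prime_iff_eq hq hr).mp h; omega
    have h4 := h8_nsylow_dvd q 1 (p * r) hGq hnq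
    have h5 := h8_nsylow_mod (G := G) q
    have hcase : Nat.card (Sylow q G) = 1 ∨ r ≤ Nat.card (Sylow q G) := by
      rcases dvd_mul_primes p r _ hp hr h4 with h6 | h6 | h6 | h6
      · left; exact h6
      · rw [h6, Nat.mod_eq_of_lt (by omega)] at h5; omega
      · right; omega
      · right; rw [h6]; nlinarith
    rcases hcase with h6 | h6
    · obtain ⟨Q⟩ : Nonempty (Sylow q G) := inferInstance
      haveI := h8_normal_of_nsylow_eq_one q h6 Q
      have hQc : Nat.card (Q : Subgroup G) = q := by
        have := h8_sylow_card q 1 (p * r) hGq hnq Q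
        rwa [pow_one] at this
      have h7 := centralizes_of_normal q r hq hr hqr (Q : Subgroup G) (R : Subgroup G) hQc hRc
      have h8 := h7.trans (Subgroup.centralizer_le_normalizer _)
      have h9 := Subgroup.card_dvd_of_le h8
      rw [hQc, hNR'] at h9
      have := (Nat.prime_dvd_prime_iff_eq hq hr).mp h9
      omega
    · have hcr := h8_card_orderOf_eq_prime (G := G) r (p * q) (by rw [hG]; ring) hnr
      have hcq := h8_card_orderOf_eq_prime (G := G) q (p * r) (by rw [hG]; ring) hnq
      have hsum := h8_sum_card_orderOf_le (G := G) {1, q, r}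
      have hq1 : (1 : ℕ) ≠ q := by omega
      have hr1 : (1 : ℕ) ≠ r := by omega
      have hqr' : q ≠ r := by omega
      rw [Finset.sum_insert (by simp [hq1, hr1]), Finset.sum_insert (by simp [hqr']),
        Finset.sum_singleton, hcr, hcq, h3, hG] at hsum
      have hone : 1 ≤ Nat.card {g : G // orderOf g = 1} := by
        apply Nat.card_pos_iff.mpr
        exact ⟨⟨⟨1, orderOf_one⟩⟩, inferInstance⟩
      obtain ⟨q', rfl⟩ : ∃ q', q = q' + 1 := ⟨q - 1, by omega⟩
      obtain ⟨r', rfl⟩ : ∃ r', r = r' + 1 := ⟨r - 1, by omega⟩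
      simp only [Nat.add_sub_cancel] at hsum
      have h10 : (r' + 1) * q' ≤ Nat.card (Sylow (q' + 1) G) * q' := Nat.mul_le_mul_right _ h6
      nlinarith

end Cfsg.Agent.S0987
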