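import Mathlib
import Cfsg.Statements.S0994
import Cfsg.Agent.Lib.helper8.SylowBasic
import Cfsg.Agent.Lib.helper8.Burnside

set_option autoImplicit false
open Cfsg
open Cfsg.Agent.Lib.helper8

namespace Cfsg.Agent.S0994

theorem result {G : Type*} [Group G] [Finite G] [IsSimpleGroup G] : Nat.card G ≠ 1188 := by
  intro hG
  haveI : Fact (Nat.Prime 11) := ⟨by norm_num⟩
  have hG11 : Nat.card G = 11 ^ 1 * 108 := by rw [hG]; norm_num
  have hnd : ¬ 11 ∣ 108 := by norm_num
  have h1 := h8_nsylow_mem (G := G) 11 1 108 hG11 hnd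
  have e : (Nat.divisors 108).filter (fun d => d % 11 = 1) = {1, 12} := by decide +kernel
  rw [e] at h1
  simp only [Finset.mem_insert, Finset.mem_singleton] at h1
  have h2 := h8_simple_nsylow_ne_one (G := G) 11 1 108 hG11 hnd (by norm_num) (by norm_num)
  rcases h1 with h1 | h1
  · exact h2 h1
  · obtain ⟨P⟩ : Nonempty (Sylow 11 G) := inferInstance
    have hN := h8_card_normalizer_sylow 11 P
    rw [h1, hG] at hN
    have hN' : Nat.card (Subgroup.normalizer ((P : Subgroup G) : Set G)) = 99 := by omega
    have hP : Nat.card (P : Subgroup G) = 11 := by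
      have := h8_sylow_card 11 1 108 hG11 hnd P
      simpa using this
    have h3 := h8_relIndex_centralizer_normalizer_dvd_prime 11 (by norm_num) (P : Subgroup G) hP
    have h4 := h8_card_centralizer_mul_relIndex (P : Subgroup G)
    rw [hN'] at h4
    have h5 : (Subgroup.centralizer ((P : Subgroup G) : Set G)).relIndex
        (Subgroup.normalizer ((P : Subgroup G) : Set G)) ∣ 99 := ⟨_, by rw [← h4, mul_comm]⟩
    have h6 : (Subgroup.centralizer ((P : Subgroup G) : Set G)).relIndex
        (Subgroup.normalizer ((P : Subgroup G) : Set G)) = 1 :=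
      Nat.eq_one_of_dvd_coprimes (by norm_num : Nat.Coprime (11 - 1) 99) h3 h5
    exact h8_simple_not_normalizer_le_centralizer 11 1 108 hG11 hnd (by norm_num) (by norm_num) P
      (h8_normalizer_le_centralizer_of_relIndex _ h6)

end Cfsg.Agent.S0994
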