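import Cfsg.Statements.S1004
import Mathlib
import Cfsg.Agent.Lib.Helper18.Order168
import Cfsg.Agent.Lib.Helper18.Dihedral8

set_option autoImplicit false
open Cfsg

namespace Cfsg.Agent.S1004

open Subgroup
open Cfsg.Agent.Lib.helper8 Cfsg.Agent.Lib.Helper18 Cfsg.Agent.Lib.Helper18.O168

theorem result {G : Type*} [Group G] [Finite G] [IsSimpleGroup G] (h : Nat.card G = 168) (T : Sylow 2 G) : Nonempty (↥(T : Subgroup G) ≃* DihedralGroup 4) ∧ Subgroup.normalizer ((T : Subgroup G) : Set G) = T ∧ ∀ z : G, z ∈ (T : Subgroup G) → z ≠ 1 → (∀ t ∈ (T : Subgroup G), t * z = z * t) → Subgroup.centralizer ({z} : Set G) = T := by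
  refine ⟨?_, normalizer_sylow2 h T, fun z hz hz1 hc => cent_central_elt h T z hz hz1 hc⟩
  have hK : Nat.card (T : Subgroup G) = 8 := card_sylow2 h T
  have hna : ∃ a b : (T : Subgroup G), a * b ≠ b * a := by
    obtain ⟨a, ha, b, hb, hab⟩ := sylow2_nonabelian h T
    refine ⟨⟨a, ha⟩, ⟨b, hb⟩, fun h0 => hab ?_⟩
    exact congrArg Subtype.val h0
  have hnu : ¬ ∃ z : (T : Subgroup G), ∀ a : (T : Subgroup G), orderOf a = 2 → a = z := by
    rintro ⟨z, hz⟩
    apply sylow2_not_unique_invol h T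
    refine ⟨(z : G), fun a ha ho => ?_⟩
    have := hz ⟨a, ha⟩ (by rw [← Subgroup.orderOf_coe]; exact ho)
    exact congrArg Subtype.val this
  obtain ⟨x, y, _, _, _, _, he⟩ := dihedral_of_card_eight hK hna hnu
  exact he

end Cfsg.Agent.S1004
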