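import Mathlib
import Cfsg.Statements.S1009
import Cfsg.Agent.Lib.helper8.SylowBasic
import Cfsg.Agent.Lib.helper8.SylowConj

set_option autoImplicit false
open Cfsg
open Cfsg.Agent.Lib.helper8

namespace Cfsg.Agent.S1009

theorem result {G : Type*} [Group G] [Finite G] (p : ℕ) [Fact p.Prime] (hab : ∀ P : Sylow p G, IsMulCommutative ↥(P : Subgroup G)) : ∃ P Q : Sylow p G, (P : Subgroup G) ⊓ (Q : Subgroup G) = ⨅ R : Sylow p G, (R : Subgroup G) := by
  obtain ⟨⟨S, T⟩, hmin⟩ := Finite.exists_min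
    (fun x : Sylow p G × Sylow p G => Nat.card ((x.1 : Subgroup G) ⊓ (x.2 : Subgroup G) : Subgroup G))
  refine ⟨S, T, ?_⟩
  have hcomm : ∀ P : Sylow p G, ∀ a ∈ (P : Subgroup G), ∀ b ∈ (P : Subgroup G), a * b = b * a := by
    intro P a ha b hb
    have := (hab P).is_comm.comm (⟨a, ha⟩ : (P : Subgroup G)) ⟨b, hb⟩
    exact congrArg Subtype.val this
  have hSN : (S : Subgroup G) ≤
      Subgroup.normalizer (((S : Subgroup G) ⊓ (T : Subgroup G) : Subgroup G) : Set G) := by
    rw [Subgroup.le_normalizer_iff]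
    intro h hh k hk
    have : h * k * h⁻¹ = k := by rw [hcomm S h hh k hk.1]; group
    rw [this]; exact hk
  have hTN : (T : Subgroup G) ≤
      Subgroup.normalizer (((S : Subgroup G) ⊓ (T : Subgroup G) : Subgroup G) : Set G) := by
    rw [Subgroup.le_normalizer_iff]
    intro h hh k hk
    have : h * k * h⁻¹ = k := by rw [hcomm T h hh k hk.2]; group
    rw [this]; exact hk
  apply le_antisymm
  · apply le_iInf
    intro P
    obtain ⟨n, hnN, hn⟩ := h8_sylow_conj_in_subgroup p _ S hSN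
      ((P : Subgroup G) ⊓ Subgroup.normalizer (((S : Subgroup G) ⊓ (T : Subgroup G) : Subgroup G) : Set G))
      (P.2.to_inf_left) inf_le_right
    have h1 : ((n • P : Sylow p G) : Subgroup G) ⊓ (T : Subgroup G) ≤
        (S : Subgroup G) ⊓ (T : Subgroup G) := by
      intro x hx
      refine ⟨?_, hx.2⟩
      have hx1 := (h8_mem_smul_sylow p n x P).mp hx.1
      have hxN := hTN hx.2
      have h2 : n⁻¹ * x * n ∈ Subgroup.normalizer
          (((S : Subgroup G) ⊓ (T : Subgroup G) : Subgroup G) : Set G) :=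
        Subgroup.mul_mem _ (Subgroup.mul_mem _ (Subgroup.inv_mem _ hnN) hxN) hnN
      have h3 := hn (n⁻¹ * x * n) ⟨hx1, h2⟩
      have e : n * (n⁻¹ * x * n) * n⁻¹ = x := by group
      rwa [e] at h3
    have h2 := hmin (n • P, T)
    simp only at h2
    have h3 : ((n • P : Sylow p G) : Subgroup G) ⊓ (T : Subgroup G) =
        (S : Subgroup G) ⊓ (T : Subgroup G) := Subgroup.eq_of_le_of_card_ge h1 h2
    intro d hd
    have hd' : n * d * n⁻¹ ∈ (S : Subgroup G) ⊓ (T : Subgroup G) :=
      (Subgroup.mem_normalizer_iff.mp hnN d).mp hd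
    rw [← h3] at hd'
    have h4 := (h8_mem_smul_sylow p n _ P).mp hd'.1
    have e : n⁻¹ * (n * d * n⁻¹) * n = d := by group
    rwa [e] at h4
  · exact le_inf (iInf_le _ S) (iInf_le _ T)

end Cfsg.Agent.S1009
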