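import Mathlib
import Cfsg.Statements.S1014
import Cfsg.Agent.Lib.helper8.SylowBasic
import Cfsg.Agent.Lib.helper8.SimpleEmbed
import Cfsg.Agent.Lib.helper8.Burnside
import Cfsg.Agent.Lib.helper8.Parity
import Cfsg.Agent.Lib.helper8.OrbitCount
import Cfsg.Agent.S1018

set_option autoImplicit false
open Cfsg
open Cfsg.Agent.Lib.helper8

namespace Cfsg.Agent.S1014

theorem result {G : Type*} [Group G] [Finite G] [IsSimpleGroup G] : Nat.card G ≠ 1104 := by
  intro hG
  haveI : Fact (Nat.Prime 23) := ⟨by norm_num⟩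
  haveI : Fact (Nat.Prime 2) := ⟨by norm_num⟩
  have hG23 : Nat.card G = 23 ^ 1 * 48 := by rw [hG]; norm_num
  have hnd : ¬ 23 ∣ 48 := by norm_num
  have hnc : ¬ IsMulCommutative G := h8_not_comm_of_card (by rw [hG]; norm_num)
  have h1 := h8_nsylow_mem (G := G) 23 1 48 hG23 hnd
  have e : (Nat.divisors 48).filter (fun d => d % 23 = 1) = {1, 24} := by decide +kernel
  rw [e] at h1
  simp only [Finset.mem_insert, Finset.mem_singleton] at h1
  have h2 := h8_simple_nsylow_ne_one (G := G) 23 1 48 hG23 hnd (by norm_num) (by norm_num)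
  rcases h1 with h1 | h1
  · exact h2 h1
  obtain ⟨P⟩ : Nonempty (Sylow 23 G) := inferInstance
  have hN := h8_card_normalizer_sylow 23 P
  rw [h1, hG] at hN
  have hN' : Nat.card (Subgroup.normalizer ((P : Subgroup G) : Set G)) = 46 := by omega
  have hP : Nat.card (P : Subgroup G) = 23 := by
    have := h8_sylow_card 23 1 48 hG23 hnd P
    simpa using this
  have h3 := h8_relIndex_centralizer_normalizer_dvd_prime 23 (by norm_num) (P : Subgroup G) hP
  have h4 := h8_card_centralizer_mul_relIndex (P : Subgroup G)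
  rw [hN'] at h4
  have h5 : (Subgroup.centralizer ((P : Subgroup G) : Set G)).relIndex
      (Subgroup.normalizer ((P : Subgroup G) : Set G)) ∣ 46 := ⟨_, by rw [← h4, mul_comm]⟩
  have h6 : (Subgroup.centralizer ((P : Subgroup G) : Set G)).relIndex
      (Subgroup.normalizer ((P : Subgroup G) : Set G)) ∣ 2 := by
    have := Nat.dvd_gcd h3 h5
    simpa using this
  have h7 : (Subgroup.centralizer ((P : Subgroup G) : Set G)).relIndex
      (Subgroup.normalizer ((P : Subgroup G) : Set G)) = 1 ∨
      (Subgroup.centralizer ((P : Subgroup G) : Set G)).relIndex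
      (Subgroup.normalizer ((P : Subgroup G) : Set G)) = 2 := by
    have := (Nat.dvd_prime Nat.prime_two).mp h6
    exact this
  rcases h7 with h7 | h7
  · exact h8_simple_not_normalizer_le_centralizer 23 1 48 hG23 hnd (by norm_num) (by norm_num) P
      (h8_normalizer_le_centralizer_of_relIndex _ h7)
  rw [h7] at h4
  have hC : Nat.card (Subgroup.centralizer ((P : Subgroup G) : Set G)) = 23 := by omega
  have h2N : 2 ∣ Nat.card (Subgroup.normalizer ((P : Subgroup G) : Set G)) := by rw [hN']; norm_num
  obtain ⟨t', ht'⟩ := exists_prime_orderOf_dvd_card' 2 h2N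
  have ht : orderOf (t' : G) = 2 := by rw [Subgroup.orderOf_coe]; exact ht'
  have htC : (t' : G) ∉ Subgroup.centralizer ((P : Subgroup G) : Set G) := by
    intro h
    have := Subgroup.orderOf_dvd_natCard _ h
    rw [ht, hC] at this
    norm_num at this
  have h8 := Cfsg.Agent.S1018.part_b 23 P hP (t' : G) t'.2 htC
  have h9 := h8_card_orbits_sylow_prime 23 P hP
  rw [h1] at h9
  have h10 : Nat.card (MulAction.orbitRel.Quotient ↥(P : Subgroup G)
        (G ⧸ Subgroup.normalizer ((P : Subgroup G) : Set G))) = 2 := by omega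
  rw [h10] at h8
  have h11 : 1 ≤ Nat.card (MulAction.fixedBy (G ⧸ Subgroup.normalizer ((P : Subgroup G) : Set G))
      (t' : G)) := by
    apply Nat.card_pos_iff.mpr
    refine ⟨⟨⟨((1 : G) : G ⧸ Subgroup.normalizer ((P : Subgroup G) : Set G)), ?_⟩⟩, inferInstance⟩
    rw [MulAction.mem_fixedBy, MulAction.Quotient.smul_mk, QuotientGroup.eq, smul_eq_mul]
    simp
  have h12 := h8_simple_involution_fixed (X := G ⧸ Subgroup.normalizer ((P : Subgroup G) : Set G))
    hnc (t' : G) (by rw [← ht]; exact pow_orderOf_eq_one _)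
  have h13 : Nat.card (G ⧸ Subgroup.normalizer ((P : Subgroup G) : Set G)) = 24 := by
    rw [← h1]; exact P.card_eq_card_quotient_normalizer.symm
  rw [h13] at h12
  omega

end Cfsg.Agent.S1014
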