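import Mathlib
import Cfsg.Statements.S1015
import Cfsg.Agent.Lib.helper8.SylowBasic
import Cfsg.Agent.Lib.helper8.SimpleEmbed
import Cfsg.Agent.Lib.helper8.SubgroupCard
import Cfsg.Agent.S0985

set_option autoImplicit false
open Cfsg
open Cfsg.Agent.Lib.helper8

namespace Cfsg.Agent.S1015

theorem result {G : Type*} [Group G] [Finite G] [IsSimpleGroup G] : Nat.card G ≠ 1200 := by
  intro hG
  haveI : Fact (Nat.Prime 5) := ⟨by norm_num⟩
  have hG5 : Nat.card G = 5 ^ 2 * 48 := by rw [hG]; norm_num
  have hnd : ¬ 5 ∣ 48 := by norm_num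
  have hnc : ¬ IsMulCommutative G := h8_not_comm_of_card (by rw [hG]; norm_num)
  have h1 := h8_nsylow_mem (G := G) 5 2 48 hG5 hnd
  have e : (Nat.divisors 48).filter (fun d => d % 5 = 1) = {1, 6, 16} := by decide +kernel
  rw [e] at h1
  simp only [Finset.mem_insert, Finset.mem_singleton] at h1
  have h2 := h8_simple_nsylow_ne_one (G := G) 5 2 48 hG5 hnd (by norm_num) (by norm_num)
  rcases h1 with h1 | h1 | h1
  · exact h2 h1
  · obtain ⟨P⟩ : Nonempty (Sylow 5 G) := inferInstance
    have h3 := h8_nsylow_eq_index_normalizer 5 P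
    rw [h1] at h3
    have hne : Subgroup.normalizer ((P : Subgroup G) : Set G) ≠ ⊤ := by
      intro h
      rw [h, Subgroup.index_top] at h3
      omega
    have h4 := h8_simple_two_mul_card_dvd_factorial hnc _ hne
    rw [← h3, hG] at h4
    revert h4
    decide
  · have hmod : ¬ Nat.card (Sylow 5 G) ≡ 1 [MOD 5 ^ 2] := by
      rw [h1]; decide
    obtain ⟨P, R, hPR, hidx⟩ := Cfsg.Agent.S0985.result 5 2 hmod
    have hPc : Nat.card (P : Subgroup G) = 25 := by
      have := h8_sylow_card 5 2 48 hG5 hnd P
      simpa using this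
    have hRc : Nat.card (R : Subgroup G) = 25 := by
      have := h8_sylow_card 5 2 48 hG5 hnd R
      simpa using this
    have h3 := h8_card_inf_mul_relIndex (R : Subgroup G) (P : Subgroup G)
    rw [hPc] at h3
    have hidx' : (R : Subgroup G).relIndex (P : Subgroup G) ≤ 5 := by
      simpa [Subgroup.relIndex] using hidx
    have hne1 : (R : Subgroup G).relIndex (P : Subgroup G) ≠ 1 := by
      intro h
      rw [Subgroup.relIndex_eq_one] at h
      exact hPR (h8_sylow_eq_of_le 5 P R h)
    have hdvd : (R : Subgroup G).relIndex (P : Subgroup G) ∣ 25 := ⟨_, by rw [← h3, mul_comm]⟩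
    have hrel : (R : Subgroup G).relIndex (P : Subgroup G) = 5 := by
      have : (R : Subgroup G).relIndex (P : Subgroup G) ∈ Nat.divisors 25 := by
        rw [Nat.mem_divisors]; exact ⟨hdvd, by norm_num⟩
      have e25 : Nat.divisors 25 = {1, 5, 25} := by decide +kernel
      rw [e25] at this
      simp only [Finset.mem_insert, Finset.mem_singleton] at this
      omega
    rw [hrel] at h3
    have hDc : Nat.card ((R : Subgroup G) ⊓ (P : Subgroup G) : Subgroup G) = 5 := by omega
    have hPcomm := h8_comm_of_card_prime_sq 5 (P : Subgroup G) (by rw [hPc]; norm_num)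
    have hRcomm := h8_comm_of_card_prime_sq 5 (R : Subgroup G) (by rw [hRc]; norm_num)
    have hPM : (P : Subgroup G) ≤
        Subgroup.normalizer (((R : Subgroup G) ⊓ (P : Subgroup G) : Subgroup G) : Set G) := by
      rw [Subgroup.le_normalizer_iff]
      intro h hh k hk
      have : h * k * h⁻¹ = k := by
        rw [hPcomm h hh k hk.2]; group
      rw [this]; exact hk
    have hRM : (R : Subgroup G) ≤
        Subgroup.normalizer (((R : Subgroup G) ⊓ (P : Subgroup G) : Subgroup G) : Set G) := by
      rw [Subgroup.le_normalizer_iff]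
      intro h hh k hk
      have : h * k * h⁻¹ = k := by
        rw [hRcomm h hh k hk.1]; group
      rw [this]; exact hk
    obtain ⟨h4, h5⟩ := h8_nsylow_subgroup_ge 5 P R hPR _ hPM hRM
    rw [hPc] at h5
    set M := Subgroup.normalizer (((R : Subgroup G) ⊓ (P : Subgroup G) : Subgroup G) : Set G)
      with hM
    have h6 := M.card_mul_index
    rw [hG] at h6
    have hMge : 150 ≤ Nat.card M := by
      have := Nat.le_of_dvd Nat.card_pos h5
      nlinarith
    have hidx8 : M.index ≤ 8 := by
      by_contra hlt
      have : 9 ≤ M.index := by omega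
      nlinarith
    by_cases hMtop : M = ⊤
    · haveI := h8_normal_of_normalizer_eq_top _ hMtop
      rcases h8_simple_card_normal ((R : Subgroup G) ⊓ (P : Subgroup G) : Subgroup G) with h7 | h7
      · omega
      · omega
    · have h7 := h8_simple_two_mul_card_dvd_factorial hnc M hMtop
      rw [hG] at h7
      have hpos : 0 < M.index := Nat.pos_of_ne_zero Subgroup.index_ne_zero_of_finite
      revert h7
      generalize M.index = n at hidx8 hpos
      interval_cases n <;> decide

end Cfsg.Agent.S1015
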