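import Mathlib
import Cfsg.Statements.S1029
import Cfsg.Agent.Lib.helper8.ChevTri

set_option autoImplicit false
open Cfsg

namespace Cfsg.Agent.S1029

open Cfsg.Lie Cfsg.Lie.ChevalleyDatum Cfsg.Agent.Lib.helper8

theorem main {F : Type*} [Field F] (D : ChevalleyDatum) (hD : h8PosOK D = true) :
    Group.IsNilpotent (D.posUnipotent F) :=
  h8_isNilpotent_of_unitri (h8rho D) (D.rank + D.nroots) (h8rho_lt D) (D.posUnipotent F)
    (fun g hg => h8_posUnipotent_unitri D hD g hg)

theorem result {F : Type*} [Field F] (D : Cfsg.Lie.ChevalleyDatum) (hD : D ∈ [Cfsg.Lie.chevG2, Cfsg.Lie.chevB2, Cfsg.Lie.chevD4, Cfsg.Lie.chevF4, Cfsg.Lie.chevE6, Cfsg.Lie.chevE7, Cfsg.Lie.chevE8]) : Group.IsNilpotent (D.posUnipotent F) := by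
  simp only [List.mem_cons, List.mem_nil_iff, or_false] at hD
  rcases hD with rfl | rfl | rfl | rfl | rfl | rfl | rfl
  · exact main _ (by decide +kernel)
  · exact main _ (by decide +kernel)
  · exact main _ (by decide +kernel)
  · exact main _ (by decide +kernel)
  · exact main _ (by decide +kernel)
  · exact main _ (by decide +kernel)
  · exact main _ (by decide +kernel)

end Cfsg.Agent.S1029
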