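import Mathlib
import Cfsg.Statements.S1041

set_option autoImplicit false
open Cfsg

namespace Cfsg.Agent.S1041

open Cfsg.Lie Cfsg.Lie.ChevalleyDatum

theorem x_eq {F : Type*} [Field F] (D : ChevalleyDatum) (r : ℕ) (h : r < D.nroots) (t : F) :
    D.x F r t = D.xMat F ⟨r, h⟩ t := by
  unfold ChevalleyDatum.x
  rw [dif_pos h]

theorem main {F : Type*} [Field F] (D : ChevalleyDatum)
    (h : ∀ r < D.nroots, D.IsPosRoot r ∨ D.IsNegRoot r) :
    D.posUnipotent F ⊔ D.negUnipotent F = D.group F := by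
  apply le_antisymm
  · apply sup_le
    · unfold posUnipotent group
      apply Subgroup.closure_mono
      rintro g ⟨r, t, hr, hg⟩
      exact ⟨⟨r, hr.1⟩, t, by rw [hg, x_eq D r hr.1]⟩
    · unfold negUnipotent group
      apply Subgroup.closure_mono
      rintro g ⟨r, t, hr, hg⟩
      exact ⟨⟨r, hr.1⟩, t, by rw [hg, x_eq D r hr.1]⟩
  · unfold group
    rw [Subgroup.closure_le]
    rintro g ⟨r, t, hg⟩
    rcases h r.1 r.2 with hp | hn
    · apply Subgroup.mem_sup_left
      apply Subgroup.subset_closure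
      exact ⟨r.1, t, hp, by rw [hg, x_eq D r.1 r.2]⟩
    · apply Subgroup.mem_sup_right
      apply Subgroup.subset_closure
      exact ⟨r.1, t, hn, by rw [hg, x_eq D r.1 r.2]⟩

theorem tG2 : ∀ r < chevG2.nroots, chevG2.IsPosRoot r ∨ chevG2.IsNegRoot r := by decide +kernel
theorem tB2 : ∀ r < chevB2.nroots, chevB2.IsPosRoot r ∨ chevB2.IsNegRoot r := by decide +kernel
theorem tD4 : ∀ r < chevD4.nroots, chevD4.IsPosRoot r ∨ chevD4.IsNegRoot r := by decide +kernel
theorem tF4 : ∀ r < chevF4.nroots, chevF4.IsPosRoot r ∨ chevF4.IsNegRoot r := by decide +kernel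
theorem tE6 : ∀ r < chevE6.nroots, chevE6.IsPosRoot r ∨ chevE6.IsNegRoot r := by decide +kernel
theorem tE7 : ∀ r < chevE7.nroots, chevE7.IsPosRoot r ∨ chevE7.IsNegRoot r := by decide +kernel
theorem tE8 : ∀ r < chevE8.nroots, chevE8.IsPosRoot r ∨ chevE8.IsNegRoot r := by decide +kernel

theorem result {F : Type*} [Field F] (D : Cfsg.Lie.ChevalleyDatum) (hD : D ∈ [Cfsg.Lie.chevG2, Cfsg.Lie.chevB2, Cfsg.Lie.chevD4, Cfsg.Lie.chevF4, Cfsg.Lie.chevE6, Cfsg.Lie.chevE7, Cfsg.Lie.chevE8]) : D.posUnipotent F ⊔ D.negUnipotent F = D.group F := by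
  simp only [List.mem_cons, List.mem_nil_iff, or_false] at hD
  rcases hD with rfl | rfl | rfl | rfl | rfl | rfl | rfl
  · exact main _ tG2
  · exact main _ tB2
  · exact main _ tD4
  · exact main _ tF4
  · exact main _ tE6
  · exact main _ tE7
  · exact main _ tE8

end Cfsg.Agent.S1041
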