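import Cfsg.Statements.S1043
import Cfsg.Agent.S1041
import Cfsg.Agent.Lib.helper8.ChevBaseAll
import Cfsg.Agent.Lib.helper8.ChevReflAll
import Cfsg.Agent.Lib.helper8.ChevW0All

set_option autoImplicit false
open Cfsg

namespace Cfsg.Agent.S1043

open Cfsg.Lie Cfsg.Lie.ChevalleyDatum Cfsg.Agent.Lib.helper8

theorem result {F : Type*} [Field F] (D : Cfsg.Lie.ChevalleyDatum) (hD : D ∈ [Cfsg.Lie.chevG2, Cfsg.Lie.chevB2, Cfsg.Lie.chevD4, Cfsg.Lie.chevF4, Cfsg.Lie.chevE6, Cfsg.Lie.chevE7, Cfsg.Lie.chevE8]) :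
    D.borelSubgroup F ≤ D.group F ∧ D.monomialSubgroup F ≤ D.group F ∧ D.borelSubgroup F ⊔ D.monomialSubgroup F = D.group F := by
  have hB := h8base_all D hD
  have hA := h8reflAll D hD
  obtain ⟨w, hw⟩ := h8w0_all D hD
  have hBle : D.borelSubgroup F ≤ D.group F := h8_B_le_group D hB
  have hNle : D.monomialSubgroup F ≤ D.group F := h8_N_le_group D hB
  refine ⟨hBle, hNle, le_antisymm (sup_le hBle hNle) ?_⟩
  rw [← Cfsg.Agent.S1041.result D hD]
  have hU : D.posUnipotent F ≤ D.borelSubgroup F ⊔ D.monomialSubgroup F :=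
    le_trans le_sup_left le_sup_left
  apply sup_le hU
  rw [← h8_conj_U_eq_V D hB hA w hw]
  have hn : (h8nWU D hB w : GL D.Idx F) ∈ D.borelSubgroup F ⊔ D.monomialSubgroup F :=
    Subgroup.mem_sup_right (h8nWU_mem_N D hB hA w (h8w0Chk_spec D hA w hw).1)
  rintro g ⟨g0, hg0, rfl⟩
  show h8nWU D hB w * g0 * (h8nWU D hB w)⁻¹ ∈ _
  exact Subgroup.mul_mem _ (Subgroup.mul_mem _ hn (hU hg0)) (Subgroup.inv_mem _ hn)

end Cfsg.Agent.S1043
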