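import Cfsg.Statements.S1051
import Cfsg.Agent.Lib.helper8.ChevBaseAll
import Cfsg.Agent.Lib.helper8.ChevNegAll
import Cfsg.Agent.Lib.helper8.ChevTabSC
import Cfsg.Agent.Lib.helper8.ChevReflAll
import Cfsg.Agent.Lib.helper8.ChevW0All
import Cfsg.Agent.Lib.helper8.ChevCore

set_option autoImplicit false
open Cfsg

namespace Cfsg.Agent.S1051

open Cfsg.Lie Cfsg.Lie.ChevalleyDatum Cfsg.Agent.Lib.helper8

theorem result {F : Type*} [Field F] (D : Cfsg.Lie.ChevalleyDatum) (hD : D ∈ [Cfsg.Lie.chevG2, Cfsg.Lie.chevB2, Cfsg.Lie.chevD4, Cfsg.Lie.chevF4, Cfsg.Lie.chevE6, Cfsg.Lie.chevE7, Cfsg.Lie.chevE8]) : ((D.borelSubgroup F).subgroupOf (D.group F)).normalCore = ⊥ := by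
  have hB := h8base_all D hD
  have hA := h8reflAll D hD
  obtain ⟨w, hw⟩ := h8w0_all D hD
  rw [eq_bot_iff]
  intro a ha
  rw [Subgroup.mem_bot]
  apply Subtype.ext
  apply h8core_trivial D hB hA (h8NegOK_all D hD) (h8scChk_all D hD) w hw (h8_N_le_group D hB)
    a.val a.2
  intro g hg
  have := ha ⟨g, hg⟩
  exact Subgroup.mem_subgroupOf.mp this

end Cfsg.Agent.S1051
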