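import Cfsg.Statements.S1057
import Cfsg.Agent.Lib.helper8.ChevGC2

set_option autoImplicit false
open Cfsg

namespace Cfsg.Agent.S1057

/-- G₂(2)′ ≅ PSU₃(3). -/
theorem result {F K : Type*} [Field F] [Fintype F] [Field K] [Fintype K] (hF : Fintype.card F = 2) (hK : Fintype.card K = 9) :
    Nonempty (↥(commutator ↥(Cfsg.Lie.chevG2.group F)) ≃* Cfsg.PSU 3 K 3) := by
  have hD : Cfsg.Lie.chevG2 ∈ [Cfsg.Lie.chevG2, Cfsg.Lie.chevB2, Cfsg.Lie.chevD4, Cfsg.Lie.chevF4,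
      Cfsg.Lie.chevE6, Cfsg.Lie.chevE7, Cfsg.Lie.chevE8] := by simp
  obtain ⟨e1⟩ := Cfsg.Agent.Lib.helper8.h8group_ringEquiv Cfsg.Lie.chevG2
    (Cfsg.Agent.Lib.helper8.h8base_all.{0} Cfsg.Lie.chevG2 hD)
    (Cfsg.Agent.Lib.helper8.h8base_all Cfsg.Lie.chevG2 hD)
    (ZMod.ringEquivOfPrime F Nat.prime_two hF)
  obtain ⟨e2⟩ := Cfsg.Agent.Lib.helper8.h8commutator_equiv e1.symm
  obtain ⟨e3⟩ := Cfsg.Agent.Lib.helper8.h8g2_iso_main (K := K) hK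
  exact ⟨e2.trans e3⟩

end Cfsg.Agent.S1057
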