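import Cfsg.Statements.S1058
import Cfsg.Agent.Lib.helper8.ChevB2S6b

set_option autoImplicit false
open Cfsg

namespace Cfsg.Agent.S1058

open Cfsg.Agent.Lib.helper8 Cfsg.Lie in
/-- `B₂(2) ≅ S₆`. -/
theorem result {F : Type*} [Field F] [Fintype F] (hF : Fintype.card F = 2) :
    Nonempty (↥(Cfsg.Lie.chevB2.group F) ≃* Equiv.Perm (Fin 6)) := by
  have hD : chevB2 ∈ [chevG2, chevB2, chevD4, chevF4, chevE6, chevE7, chevE8] := by simp
  obtain ⟨e1⟩ := h8group_ringEquiv chevB2 (h8base_all.{0} chevB2 hD) (h8base_all chevB2 hD)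
    (ZMod.ringEquivOfPrime F Nat.prime_two hF)
  obtain ⟨e2⟩ := h8b2_iso
  exact ⟨e1.symm.trans e2⟩

end Cfsg.Agent.S1058
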