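import Mathlib
import Cfsg.Statements.S1076
import Cfsg.Agent.Lib.helper8.ChevSLadd
import Cfsg.Agent.Lib.helper8.ChevRefl
import Cfsg.Agent.Lib.helper8.ChevTabSLD4
import Cfsg.Agent.Lib.helper8.ChevTabSLE6
import Cfsg.Agent.Lib.helper8.ChevTabSLE7
import Cfsg.Agent.Lib.helper8.ChevTabSLE8
import Cfsg.Agent.Lib.helper8.ChevTabHG2
import Cfsg.Agent.Lib.helper8.ChevTabHB2
import Cfsg.Agent.Lib.helper8.ChevTabHF4

set_option autoImplicit false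
open Cfsg

namespace Cfsg.Agent.S1076

open Cfsg.Lie Cfsg.Lie.ChevalleyDatum Cfsg.Agent.Lib.helper8

theorem main_sl {F : Type*} [Field F] (D : ChevalleyDatum) (hD : H8SL D) (r : ℕ) (hr : r < D.nroots)
    (t₁ t₂ : F) (h₁ : t₁ ≠ 0) (h₂ : t₂ ≠ 0) :
    D.hMat F r t₁ * D.hMat F r t₂ = D.hMat F r (t₁ * t₂) :=
  h8hMat_mul_of_diag D r (h8hexp D r) (fun t ht => h8hMat_diag D hD r hr t ht) t₁ t₂ h₁ h₂

theorem main_refl {F : Type*} [Field F] (D : ChevalleyDatum) (hD : h8hDiagChk D = true) (r : ℕ)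
    (hr : r < D.nroots) (t₁ t₂ : F) (h₁ : t₁ ≠ 0) (h₂ : t₂ ≠ 0) :
    D.hMat F r t₁ * D.hMat F r t₂ = D.hMat F r (t₁ * t₂) :=
  h8hMat_mul_of_diag D r (h8hexpRefl D r) (fun t ht => h8hMat_diag_refl D hD r hr t ht) t₁ t₂ h₁ h₂

theorem result {F : Type*} [Field F] (D : Cfsg.Lie.ChevalleyDatum) (hD : D ∈ [Cfsg.Lie.chevG2, Cfsg.Lie.chevB2, Cfsg.Lie.chevD4, Cfsg.Lie.chevF4, Cfsg.Lie.chevE6, Cfsg.Lie.chevE7, Cfsg.Lie.chevE8]) (r : ℕ) (hr : r < D.nroots) (t₁ t₂ : F) (h₁ : t₁ ≠ 0) (h₂ : t₂ ≠ 0) :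
    D.hMat F r t₁ * D.hMat F r t₂ = D.hMat F r (t₁ * t₂) := by
  simp only [List.mem_cons, List.mem_nil_iff, or_false] at hD
  rcases hD with rfl | rfl | rfl | rfl | rfl | rfl | rfl
  · exact main_refl _ h8hDiagChk_G2 r hr t₁ t₂ h₁ h₂
  · exact main_refl _ h8hDiagChk_B2 r hr t₁ t₂ h₁ h₂
  · exact main_sl _ h8SL_D4 r hr t₁ t₂ h₁ h₂
  · exact main_refl _ h8hDiagChk_F4 r hr t₁ t₂ h₁ h₂
  · exact main_sl _ h8SL_E6 r hr t₁ t₂ h₁ h₂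
  · exact main_sl _ h8SL_E7 r hr t₁ t₂ h₁ h₂
  · exact main_sl _ h8SL_E8 r hr t₁ t₂ h₁ h₂

end Cfsg.Agent.S1076
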