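import Mathlib
import Cfsg.Statements.S1080

set_option autoImplicit false
open Cfsg

namespace Cfsg.Agent.S1080

open Cfsg.Lie Cfsg.Lie.ChevalleyDatum

theorem sum_map {F : Type*} [Field F] (f : F ≃+* F) (t : F) (l : List (ℕ × ℤ)) :
    f ((l.map fun km => ((km.2 : ℤ) : F) * t ^ km.1).sum) =
      (l.map fun km => ((km.2 : ℤ) : F) * (f t) ^ km.1).sum := by
  rw [map_list_sum, List.map_map]
  congr 1
  apply List.map_congr_left
  intro km _
  simp only [Function.comp_apply, map_mul, map_intCast, map_pow]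

theorem xMat_map {F : Type*} [Field F] (D : ChevalleyDatum) (f : F ≃+* F) (r : Fin D.nroots) (t : F) :
    (D.xMat F r t).map f = D.xMat F r (f t) := by
  ext row col
  unfold ChevalleyDatum.xMat
  rw [Matrix.map_apply, Matrix.of_apply, Matrix.of_apply]
  rcases col with i | s
  · rcases row with i' | u
    · dsimp only
      split_ifs <;> simp only [map_zero, map_one]
    · dsimp only
      split_ifs <;> simp only [map_zero, map_one, map_neg, map_mul, map_intCast]
  · rcases row with i' | u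
    · dsimp only
      split_ifs <;> simp only [map_zero, map_one, map_neg, map_mul, map_intCast]
    · dsimp only
      split_ifs <;>
        simp only [map_zero, map_one, map_neg, map_mul, map_intCast, map_pow, map_add,
          add_zero, zero_add, sum_map]

theorem x_map {F : Type*} [Field F] (D : ChevalleyDatum) (f : F ≃+* F) (r : ℕ) (t : F) :
    (D.x F r t).map f = D.x F r (f t) := by
  unfold ChevalleyDatum.x
  by_cases h : r < D.nroots
  · rw [dif_pos h, dif_pos h, xMat_map]
  · rw [dif_neg h, dif_neg h]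
    ext i j
    rw [Matrix.map_apply, Matrix.one_apply]
    by_cases hij : i = j <;> simp [hij]

noncomputable def Φ {F : Type*} [Field F] (D : ChevalleyDatum) (f : F ≃+* F) : GL D.Idx F ≃* GL D.Idx F :=
  Units.mapEquiv (RingEquiv.mapMatrix f).toMulEquiv

theorem Φ_coe {F : Type*} [Field F] (D : ChevalleyDatum) (f : F ≃+* F) (g : GL D.Idx F) :
    ((Φ D f g : GL D.Idx F) : Matrix D.Idx D.Idx F) = (g : Matrix D.Idx D.Idx F).map f := by
  unfold Φ
  rw [Units.coe_mapEquiv]
  rfl

theorem map_le {F : Type*} [Field F] (D : ChevalleyDatum) (f : F ≃+* F) :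
    (D.group F).map (Φ D f : GL D.Idx F →* GL D.Idx F) ≤ D.group F := by
  unfold ChevalleyDatum.group
  rw [MonoidHom.map_closure, Subgroup.closure_le]
  rintro g ⟨g', ⟨r, t, hg'⟩, rfl⟩
  apply Subgroup.subset_closure
  refine ⟨r, f t, ?_⟩
  have := Φ_coe D f g'
  rw [hg', xMat_map] at this
  exact this

theorem map_eq {F : Type*} [Field F] (D : ChevalleyDatum) (f : F ≃+* F) :
    (D.group F).map (Φ D f : GL D.Idx F →* GL D.Idx F) = D.group F := by
  apply le_antisymm (map_le D f)
  intro g hg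
  rw [Subgroup.mem_map]
  refine ⟨Φ D f.symm g, ?_, ?_⟩
  · apply map_le D f.symm
    exact Subgroup.mem_map_of_mem _ hg
  · apply Units.ext
    have h1 := Φ_coe D f (Φ D f.symm g)
    have h2 := Φ_coe D f.symm g
    show ((Φ D f (Φ D f.symm g) : GL D.Idx F) : Matrix D.Idx D.Idx F) = g
    rw [h1, h2]
    ext i j
    simp

theorem result {F : Type*} [Field F] (D : Cfsg.Lie.ChevalleyDatum) (hD : D ∈ [Cfsg.Lie.chevG2, Cfsg.Lie.chevB2, Cfsg.Lie.chevD4, Cfsg.Lie.chevF4, Cfsg.Lie.chevE6, Cfsg.Lie.chevE7, Cfsg.Lie.chevE8]) (f : F ≃+* F) :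
    ∃ α : ↥(D.group F) ≃* ↥(D.group F), ∀ (g : ↥(D.group F)) (r : ℕ) (t : F), r < D.nroots →
      ((g : GL D.Idx F) : Matrix D.Idx D.Idx F) = D.x F r t → ((α g : GL D.Idx F) : Matrix D.Idx D.Idx F) = D.x F r (f t) := by
  refine ⟨((Φ D f).subgroupMap (D.group F)).trans (MulEquiv.subgroupCongr (map_eq D f)), ?_⟩
  intro g r t _ hg
  have h1 : (((((Φ D f).subgroupMap (D.group F)).trans (MulEquiv.subgroupCongr (map_eq D f))) g :
      ↥(D.group F)) : GL D.Idx F) = Φ D f (g : GL D.Idx F) := rfl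
  rw [h1, Φ_coe, hg, x_map]

end Cfsg.Agent.S1080
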