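import Mathlib
import Cfsg.Statements.S1093
import Cfsg.Agent.Lib.helper3.CoxE8Card

set_option autoImplicit false
open Cfsg

namespace Cfsg.Agent.S1093

/-- `|W(E₆)| = 51840`, `|W(E₇)| = 2903040`, `|W(E₈)| = 696729600` for Mathlib's presented Coxeter groups. -/
theorem result (p : (Σ n : ℕ, CoxeterMatrix (Fin n)) × ℕ)
    (hp : p ∈ [(⟨6, CoxeterMatrix.E₆⟩, 51840), (⟨7, CoxeterMatrix.E₇⟩, 2903040), (⟨8, CoxeterMatrix.E₈⟩, 696729600)]) :
    Nat.card p.1.2.Group = p.2 := by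
  have key : ∀ (m : ℕ) (hm : m ≤ 8) (M : CoxeterMatrix (Fin m)) (Jb : Fin 8 → Bool) (N : ℕ),
      (∀ b b' : Fin m, b ≠ b' →
        (Cfsg.Agent.Lib.helper3.e8C (Fin.castLE hm b) (Fin.castLE hm b'),
          Cfsg.Agent.Lib.helper3.e8C (Fin.castLE hm b') (Fin.castLE hm b), M b b') ∈
        ([(0, 0, 2), (-1, -1, 3), (-1, -2, 4), (-2, -1, 4), (-1, -3, 6), (-3, -1, 6)] :
          List (ℤ × ℤ × ℕ))) →
      (∀ i : Fin 8, (∃ b : Fin m, Fin.castLE hm b = i) ↔ Jb i = true) →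
      Nat.card (Cfsg.Agent.Lib.helper3.e8Cert.WJ {i | Jb i = true}) = N →
      Nat.card M.Group = N := by
    intro m hm M Jb N hM hJ hN
    obtain ⟨cs, -⟩ := Cfsg.Agent.Lib.helper3.e8Cert.coxeterSystem (Fin.castLE hm)
      (Fin.castLE_injective hm) M hM
    have hset : Set.range (Fin.castLE hm) = {i | Jb i = true} := by
      ext i
      exact hJ i
    rw [hset] at cs
    rw [← hN]
    exact Nat.card_congr cs.mulEquiv.symm.toEquiv
  simp only [List.mem_cons, List.not_mem_nil, or_false] at hp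
  rcases hp with rfl | rfl | rfl
  · exact key 6 (by norm_num) CoxeterMatrix.E₆ Cfsg.Agent.Lib.helper3.e8J2 51840
      (by decide) (by decide) Cfsg.Agent.Lib.helper3.e8_card_J2
  · exact key 7 (by norm_num) CoxeterMatrix.E₇ Cfsg.Agent.Lib.helper3.e8J1 2903040
      (by decide) (by decide) Cfsg.Agent.Lib.helper3.e8_card_J1
  · exact key 8 (by norm_num) CoxeterMatrix.E₈ Cfsg.Agent.Lib.helper3.e8J0 696729600
      (by decide) (by decide) Cfsg.Agent.Lib.helper3.e8_card_J0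

end Cfsg.Agent.S1093
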