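import Mathlib
import Cfsg.Statements.S1096
import Cfsg.Agent.Lib.helper8.ChevNH
import Cfsg.Agent.Lib.helper8.ChevTabSLD4
import Cfsg.Agent.Lib.helper8.ChevTabSLE6
import Cfsg.Agent.Lib.helper8.ChevTabSLE7
import Cfsg.Agent.Lib.helper8.ChevTabSLE8
import Cfsg.Agent.Lib.helper8.ChevTabHG2
import Cfsg.Agent.Lib.helper8.ChevTabHB2
import Cfsg.Agent.Lib.helper8.ChevTabHF4
import Cfsg.Agent.Lib.helper8.ChevTabSimSLD4
import Cfsg.Agent.Lib.helper8.ChevTabSimSLE6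
import Cfsg.Agent.Lib.helper8.ChevTabSimSLE7
import Cfsg.Agent.Lib.helper8.ChevTabSimSLE8
import Cfsg.Agent.Lib.helper8.ChevTabSimRG2
import Cfsg.Agent.Lib.helper8.ChevTabSimRB2
import Cfsg.Agent.Lib.helper8.ChevTabSimRF4
import Cfsg.Agent.Lib.helper8.ChevTabNG2
import Cfsg.Agent.Lib.helper8.ChevTabNB2
import Cfsg.Agent.Lib.helper8.ChevTabND4
import Cfsg.Agent.Lib.helper8.ChevTabNF4
import Cfsg.Agent.Lib.helper8.ChevTabNE6
import Cfsg.Agent.Lib.helper8.ChevTabNE7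
import Cfsg.Agent.Lib.helper8.ChevTabNE8
import Cfsg.Agent.Lib.helper8.ChevTabNHSLD4
import Cfsg.Agent.Lib.helper8.ChevTabNHSLE6
import Cfsg.Agent.Lib.helper8.ChevTabNHSLE7
import Cfsg.Agent.Lib.helper8.ChevTabNHSLE8
import Cfsg.Agent.Lib.helper8.ChevTabNHRG2
import Cfsg.Agent.Lib.helper8.ChevTabNHRB2
import Cfsg.Agent.Lib.helper8.ChevTabNHRF4

set_option autoImplicit false
open Cfsg

namespace Cfsg.Agent.S1096

open Cfsg.Lie Cfsg.Lie.ChevalleyDatum Cfsg.Agent.Lib.helper8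

theorem result {F : Type*} [Field F] (D : Cfsg.Lie.ChevalleyDatum) (hD : D ∈ [Cfsg.Lie.chevG2, Cfsg.Lie.chevB2, Cfsg.Lie.chevD4, Cfsg.Lie.chevF4, Cfsg.Lie.chevE6, Cfsg.Lie.chevE7, Cfsg.Lie.chevE8]) (i j : ℕ) (hi : i < D.rank) (hj : j < D.rank) (t : F) (ht : t ≠ 0) :
    D.nMat F (D.simple i) 1 * D.hMat F (D.simple j) t = D.hMat F (D.reflectRoot i (D.simple j)) t * D.nMat F (D.simple i) 1 := by
  simp only [List.mem_cons, List.mem_nil_iff, or_false] at hD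
  rcases hD with rfl | rfl | rfl | rfl | rfl | rfl | rfl
  · exact h8nh_refl _ h8hDiagChk_G2 h8simpleChkRefl_G2 h8nhChkRefl_G2 i j hi hj t ht _ (h8n_G2 i hi).1
  · exact h8nh_refl _ h8hDiagChk_B2 h8simpleChkRefl_B2 h8nhChkRefl_B2 i j hi hj t ht _ (h8n_B2 i hi).1
  · exact h8nh_SL _ h8SL_D4 h8simpleChkSL_D4 h8nhChkSL_D4 i j hi hj t ht _ (h8n_D4 i hi).1
  · exact h8nh_refl _ h8hDiagChk_F4 h8simpleChkRefl_F4 h8nhChkRefl_F4 i j hi hj t ht _ (h8n_F4 i hi).1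
  · exact h8nh_SL _ h8SL_E6 h8simpleChkSL_E6 h8nhChkSL_E6 i j hi hj t ht _ (h8n_E6 i hi).1
  · exact h8nh_SL _ h8SL_E7 h8simpleChkSL_E7 h8nhChkSL_E7 i j hi hj t ht _ (h8n_E7 i hi).1
  · exact h8nh_SL _ h8SL_E8 h8simpleChkSL_E8 h8nhChkSL_E8 i j hi hj t ht _ (h8n_E8 i hi).1

end Cfsg.Agent.S1096
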