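import Cfsg.Statements.S1098
import Cfsg.Agent.Lib.helper8.ChevGaB2
import Cfsg.Agent.Lib.helper8.ChevGaF4b

set_option autoImplicit false
open Cfsg
open Cfsg.Lie Cfsg.Lie.ChevalleyDatum Cfsg.Agent.Lib.helper8

namespace Cfsg.Agent.S1098

/-- Graph automorphisms in characteristic 2 (K perfect): for B₂ (a short, b long) `x_a(t) ↦ x_b(t²)`, `x_b(t) ↦ x_a(t)`, and for F₄ (p₁, p₂ short, p₃, p₄ long) `x_{p₁}(t) ↦ x_{p₄}(t²)`, `x_{p₂}(t) ↦ x_{p₃}(t²)`, `x_{p₃}(t) ↦ x_{p₂}(t)`, `x_{p₄}(t) ↦ x_{p₁}(t)`, likewise on the negatives, extend to an automorphism of the group. -/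
theorem result {K : Type*} [Field K] [CharP K 2] (hperf : ∀ x : K, ∃ y : K, y ^ 2 = x)
    (p : Cfsg.Lie.ChevalleyDatum × List (ℕ × ℕ))
    (hp : p ∈ [(Cfsg.Lie.chevB2, [(1, 2), (0, 1)]), (Cfsg.Lie.chevF4, [(3, 2), (2, 2), (1, 1), (0, 1)])]) :
    ∃ α : ↥(p.1.group K) ≃* ↥(p.1.group K), ∀ (g : ↥(p.1.group K)) (i : ℕ) (t : K), i < p.1.rank →
      (((g : GL p.1.Idx K) : Matrix p.1.Idx p.1.Idx K) = p.1.x K (p.1.simple i) t →
        ((α g : GL p.1.Idx K) : Matrix p.1.Idx p.1.Idx K) = p.1.x K (p.1.simple (p.2.getD i (0, 1)).1) (t ^ (p.2.getD i (0, 1)).2)) ∧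
      (((g : GL p.1.Idx K) : Matrix p.1.Idx p.1.Idx K) = p.1.x K (p.1.neg (p.1.simple i)) t →
        ((α g : GL p.1.Idx K) : Matrix p.1.Idx p.1.Idx K) = p.1.x K (p.1.neg (p.1.simple (p.2.getD i (0, 1)).1)) (t ^ (p.2.getD i (0, 1)).2)) := by
  simp only [List.mem_cons, List.not_mem_nil, or_false] at hp
  rcases hp with rfl | rfl
  · have hD : chevB2 ∈ [chevG2, chevB2, chevD4, chevF4, chevE6, chevE7, chevE8] := by simp
    have hB := h8base_all chevB2 hD
    obtain ⟨α, hα⟩ := h8gaB2_main (F := K) hperf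
    refine ⟨α, fun g i t hi => ?_⟩
    change i < 2 at hi
    interval_cases i
    · constructor
      · intro h
        have := hα g ⟨h8xU chevB2 hB 4 (t ^ 2), h8xU_mem_group chevB2 hB _ _⟩ (by
          rw [h]
          exact h8gaB2_rel0 t)
        rw [this]
        rfl
      · intro h
        have := hα g ⟨h8xU chevB2 hB 3 (t ^ 2), h8xU_mem_group chevB2 hB _ _⟩ (by
          rw [h]
          exact h8gaB2_rel2 t)
        rw [this]
        rfl
    · constructor
      · intro h
        have := hα g ⟨h8xU chevB2 hB 5 t, h8xU_mem_group chevB2 hB _ _⟩ (by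
          rw [h]
          exact h8gaB2_rel1 t)
        rw [this]
        show chevB2.x K 5 t = chevB2.x K 5 (t ^ 1)
        rw [pow_one]
      · intro h
        have := hα g ⟨h8xU chevB2 hB 2 t, h8xU_mem_group chevB2 hB _ _⟩ (by
          rw [h]
          exact h8gaB2_rel3 t)
        rw [this]
        show chevB2.x K 2 t = chevB2.x K 2 (t ^ 1)
        rw [pow_one]
  · have hD : chevF4 ∈ [chevG2, chevB2, chevD4, chevF4, chevE6, chevE7, chevE8] := by simp
    have hB := h8base_all chevF4 hD
    obtain ⟨α, hα⟩ := h8gaF4_main (F := K) hperf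
    refine ⟨α, fun g i t hi => ?_⟩
    change i < 4 at hi
    interval_cases i
    · constructor
      · intro h
        have := hα g ⟨h8xU chevF4 hB 24 (t ^ 2), h8xU_mem_group chevF4 hB _ _⟩ (by
          rw [h]
          exact h8gaF4_rel0 t)
        rw [this]
        rfl
      · intro h
        have := hα g ⟨h8xU chevF4 hB 23 (t ^ 2), h8xU_mem_group chevF4 hB _ _⟩ (by
          rw [h]
          exact h8gaF4_rel4 t)
        rw [this]
        rfl
    · constructor
      · intro h
        have := hα g ⟨h8xU chevF4 hB 25 (t ^ 2), h8xU_mem_group chevF4 hB _ _⟩ (by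
          rw [h]
          exact h8gaF4_rel1 t)
        rw [this]
        rfl
      · intro h
        have := hα g ⟨h8xU chevF4 hB 22 (t ^ 2), h8xU_mem_group chevF4 hB _ _⟩ (by
          rw [h]
          exact h8gaF4_rel5 t)
        rw [this]
        rfl
    · constructor
      · intro h
        have := hα g ⟨h8xU chevF4 hB 27 t, h8xU_mem_group chevF4 hB _ _⟩ (by
          rw [h]
          exact h8gaF4_rel2 t)
        rw [this]
        show chevF4.x K 27 t = chevF4.x K 27 (t ^ 1)
        rw [pow_one]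
      · intro h
        have := hα g ⟨h8xU chevF4 hB 20 t, h8xU_mem_group chevF4 hB _ _⟩ (by
          rw [h]
          exact h8gaF4_rel6 t)
        rw [this]
        show chevF4.x K 20 t = chevF4.x K 20 (t ^ 1)
        rw [pow_one]
    · constructor
      · intro h
        have := hα g ⟨h8xU chevF4 hB 33 t, h8xU_mem_group chevF4 hB _ _⟩ (by
          rw [h]
          exact h8gaF4_rel3 t)
        rw [this]
        show chevF4.x K 33 t = chevF4.x K 33 (t ^ 1)
        rw [pow_one]
      · intro h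
        have := hα g ⟨h8xU chevF4 hB 14 t, h8xU_mem_group chevF4 hB _ _⟩ (by
          rw [h]
          exact h8gaF4_rel7 t)
        rw [this]
        show chevF4.x K 14 t = chevF4.x K 14 (t ^ 1)
        rw [pow_one]

end Cfsg.Agent.S1098
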