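import Cfsg.Statements.S1099
import Cfsg.Agent.Lib.helper8.ChevGaG2

set_option autoImplicit false
open Cfsg
open Cfsg.Lie Cfsg.Lie.ChevalleyDatum Cfsg.Agent.Lib.helper8

namespace Cfsg.Agent.S1099

/-- Graph automorphism of G₂ in characteristic 3 (K perfect): `x_a(t) ↦ x_b(t³)`, `x_b(t) ↦ x_a(t)`, `x_{-a}(t) ↦ x_{-b}(t³)`, `x_{-b}(t) ↦ x_{-a}(t)` extend to an automorphism of the group. -/
theorem result {K : Type*} [Field K] [CharP K 3] (hperf : ∀ x : K, ∃ y : K, y ^ 3 = x) :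
    ∃ α : ↥(Cfsg.Lie.chevG2.group K) ≃* ↥(Cfsg.Lie.chevG2.group K), ∀ (g : ↥(Cfsg.Lie.chevG2.group K)) (t : K),
      (((g : GL Cfsg.Lie.chevG2.Idx K) : Matrix _ _ K) = Cfsg.Lie.chevG2.x K Cfsg.Lie.g2a t →
        ((α g : GL Cfsg.Lie.chevG2.Idx K) : Matrix _ _ K) = Cfsg.Lie.chevG2.x K Cfsg.Lie.g2b (t ^ 3)) ∧
      (((g : GL Cfsg.Lie.chevG2.Idx K) : Matrix _ _ K) = Cfsg.Lie.chevG2.x K Cfsg.Lie.g2b t →
        ((α g : GL Cfsg.Lie.chevG2.Idx K) : Matrix _ _ K) = Cfsg.Lie.chevG2.x K Cfsg.Lie.g2a t) ∧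
      (((g : GL Cfsg.Lie.chevG2.Idx K) : Matrix _ _ K) = Cfsg.Lie.chevG2.x K Cfsg.Lie.g2ma t →
        ((α g : GL Cfsg.Lie.chevG2.Idx K) : Matrix _ _ K) = Cfsg.Lie.chevG2.x K Cfsg.Lie.g2mb (t ^ 3)) ∧
      (((g : GL Cfsg.Lie.chevG2.Idx K) : Matrix _ _ K) = Cfsg.Lie.chevG2.x K Cfsg.Lie.g2mb t →
        ((α g : GL Cfsg.Lie.chevG2.Idx K) : Matrix _ _ K) = Cfsg.Lie.chevG2.x K Cfsg.Lie.g2ma t) := by
  have hD : chevG2 ∈ [chevG2, chevB2, chevD4, chevF4, chevE6, chevE7, chevE8] := by simp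
  have hB := h8base_all chevG2 hD
  obtain ⟨α, hα⟩ := h8gaG2_main (F := K) hperf
  refine ⟨α, fun g t => ⟨fun h => ?_, fun h => ?_, fun h => ?_, fun h => ?_⟩⟩
  · have := hα g ⟨h8xU chevG2 hB 6 (t ^ 3), h8xU_mem_group chevG2 hB _ _⟩ (by
      rw [h]
      exact h8gaG2_rel0 t)
    rw [this]
    rfl
  · have := hα g ⟨h8xU chevG2 hB 7 t, h8xU_mem_group chevG2 hB _ _⟩ (by
      rw [h]
      exact h8gaG2_rel1 t)
    rw [this]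
    rfl
  · have := hα g ⟨h8xU chevG2 hB 5 (t ^ 3), h8xU_mem_group chevG2 hB _ _⟩ (by
      rw [h]
      exact h8gaG2_rel2 t)
    rw [this]
    rfl
  · have := hα g ⟨h8xU chevG2 hB 4 t, h8xU_mem_group chevG2 hB _ _⟩ (by
      rw [h]
      exact h8gaG2_rel3 t)
    rw [this]
    rfl

end Cfsg.Agent.S1099
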