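import Cfsg.Statements.S1118

set_option autoImplicit false
open Cfsg

namespace Cfsg.Agent.S1118

theorem fix_eq {G Ω : Type*} [Group G] [Finite G] [MulAction G Ω] {a : Ω} {t : G} {Q : Subgroup G}
    (hS : Cfsg.IsRankOneSetup G Ω a t Q) (x : G) (hx : x ∈ Q) (hx1 : x ≠ 1) (c : Ω) (hc : x • c = c) :
    c = a := by
  by_contra hca
  have hba : t • a ≠ a := fun h => hS.not_mem (MulAction.mem_stabilizer_iff.mpr h)
  have h2t : ∀ (a' b' c' d' : Ω), a' ≠ b' → c' ≠ d' → ∃ g : G, g • a' = c' ∧ g • b' = d' :=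
    fun a' b' c' d' h h' => (MulAction.is_two_pretransitive_iff.mp hS.two_transitive) h h'
  obtain ⟨g, hga, hgb⟩ := h2t a (t • a) a c (Ne.symm hba) (Ne.symm hca)
  have hg : g ∈ MulAction.stabilizer G a := MulAction.mem_stabilizer_iff.mpr hga
  rw [← hS.sup_eq] at hg
  have hQn : ∀ h ∈ (MulAction.stabilizer G a ⊓ MulAction.stabilizer G (t • a)), ∀ y ∈ Q,
      h * y * h⁻¹ ∈ Q := fun h hh y hy => hS.conj_mem h hh.1 y hy
  have hle : (MulAction.stabilizer G a ⊓ MulAction.stabilizer G (t • a)) ≤ Subgroup.normalizer (Q : Set G) := by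
    rw [Subgroup.le_normalizer_iff]
    exact hQn
  have hg' : g ∈ ((Q ⊔ (MulAction.stabilizer G a ⊓ MulAction.stabilizer G (t • a)) : Subgroup G) : Set G) := hg
  rw [Subgroup.coe_mul_of_right_le_normalizer_left Q _ hle] at hg'
  obtain ⟨q, hq, d, hd, rfl⟩ := hg'
  have hq : q ∈ Q := hq
  have hd : d ∈ (MulAction.stabilizer G a ⊓ MulAction.stabilizer G (t • a)) := hd
  have hdb : d • (t • a) = t • a := MulAction.mem_stabilizer_iff.mp hd.2
  have hqb : q • (t • a) = c := by rw [← hgb, mul_smul, hdb]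
  have h1 : q⁻¹ * x * q ∈ Q := Q.mul_mem (Q.mul_mem (Q.inv_mem hq) hx) hq
  have h2 : q⁻¹ * x * q ∈ MulAction.stabilizer G (t • a) := by
    rw [MulAction.mem_stabilizer_iff, mul_smul, mul_smul, hqb, hc, ← hqb, inv_smul_smul]
  have h3 : q⁻¹ * x * q ∈ Q ⊓ MulAction.stabilizer G (t • a) := ⟨h1, h2⟩
  rw [hS.inf_eq_bot, Subgroup.mem_bot] at h3
  apply hx1
  have : x = q * (q⁻¹ * x * q) * q⁻¹ := by group
  rw [this, h3]; group

theorem exists_ne_one {G Ω : Type*} [Group G] [Finite G] [MulAction G Ω] {a : Ω} {t : G} {Q : Subgroup G}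
    (hS : Cfsg.IsRankOneSetup G Ω a t Q) : ∃ x ∈ Q, x ≠ 1 := by
  by_contra h
  simp only [not_exists, not_and, not_not] at h
  have hQ : Q = ⊥ := by
    rw [eq_bot_iff]
    intro x hx
    exact Subgroup.mem_bot.mpr (h x hx)
  have := hS.even_card
  rw [hQ, Subgroup.card_bot] at this
  exact absurd this (by decide)

theorem result {G Ω : Type*} [Group G] [Finite G] [MulAction G Ω] {a : Ω} {t : G} {Q : Subgroup G}
    (hS : Cfsg.IsRankOneSetup G Ω a t Q) :
    (∀ X : Set G, X ⊆ (Q : Set G) → (∃ x ∈ X, x ≠ 1) → Subgroup.normalizer X ≤ MulAction.stabilizer G a) ∧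
      Subgroup.normalizer (Q : Set G) = MulAction.stabilizer G a ∧
      Subgroup.normalizer (MulAction.stabilizer G a : Set G) = MulAction.stabilizer G a := by
  have key : ∀ X : Set G, X ⊆ (Q : Set G) → (∃ x ∈ X, x ≠ 1) →
      Subgroup.normalizer X ≤ MulAction.stabilizer G a := by
    intro X hXQ ⟨x, hxX, hx1⟩ g hg
    rw [Subgroup.mem_set_normalizer_iff] at hg
    have h1 : g * x * g⁻¹ ∈ X := (hg x).mp hxX
    have h2 : g * x * g⁻¹ ≠ 1 := by
      intro h
      apply hx1
      have : x = g⁻¹ * (g * x * g⁻¹) * g := by group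
      rw [this, h]; group
    have hxa : x • a = a := MulAction.mem_stabilizer_iff.mp (hS.le (hXQ hxX))
    have h3 : (g * x * g⁻¹) • (g • a) = g • a := by
      rw [mul_smul, mul_smul, inv_smul_smul, hxa]
    have := fix_eq hS (g * x * g⁻¹) (hXQ h1) h2 (g • a) h3
    exact MulAction.mem_stabilizer_iff.mpr this
  refine ⟨key, ?_, ?_⟩
  · apply le_antisymm
    · exact key Q (le_refl _) (exists_ne_one hS)
    · intro h hh
      rw [Subgroup.mem_normalizer_iff]
      intro y
      constructor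
      · intro hy
        exact hS.conj_mem h hh y hy
      · intro hy
        have := hS.conj_mem h⁻¹ (Subgroup.inv_mem _ hh) _ hy
        have e : h⁻¹ * (h * y * h⁻¹) * h⁻¹⁻¹ = y := by group
        rwa [e] at this
  · apply le_antisymm
    · intro g hg
      rw [Subgroup.mem_normalizer_iff] at hg
      obtain ⟨x, hxQ, hx1⟩ := exists_ne_one hS
      have h1 : g * x * g⁻¹ ∈ MulAction.stabilizer G a := (hg x).mp (hS.le hxQ)
      have h2 : x • (g⁻¹ • a) = g⁻¹ • a := by
        have := MulAction.mem_stabilizer_iff.mp h1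
        rw [mul_smul, mul_smul] at this
        have := congrArg (fun z => g⁻¹ • z) this
        simpa using this
      have h3 := fix_eq hS x hxQ hx1 _ h2
      rw [MulAction.mem_stabilizer_iff]
      have := congrArg (fun z => g • z) h3
      simpa using this.symm
    · exact Subgroup.le_normalizer

end Cfsg.Agent.S1118
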