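import Cfsg.Statements.S1120
import Cfsg.Agent.Lib.Helper9.RankOne
import Cfsg.Agent.Lib.Helper1.Cores
import Cfsg.Agent.Lib.Helper1.Fitting

set_option autoImplicit false
open Cfsg

namespace Cfsg.Agent.S1120

open Cfsg.Agent.Lib.Helper9

/-- In the rank-one set-up (`G` finite and doubly transitive on `Ω`, `t` an involution moving `a`, `Q` normal in `G_a` with `G_a = Q D`, `Q ⊓ D = 1` for the two-point stabiliser `D = G_a ⊓ G_{t • a}`, `|Q|` even, `|D|` odd), if `G` has 2-rank at least 2 then `O_{2'}(G)` equals the normal core of `G_a`. -/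
theorem result {G Ω : Type*} [Group G] [Finite G] [MulAction G Ω] {a : Ω} {t : G} {Q : Subgroup G}
    (hS : Cfsg.IsRankOneSetup G Ω a t Q)
    (h2 : ∃ x y : G, x ≠ 1 ∧ y ≠ 1 ∧ x ≠ y ∧ x * x = 1 ∧ y * y = 1 ∧ x * y = y * x) :
    Cfsg.pPrimeCore 2 G = (MulAction.stabilizer G a).normalCore := by
  obtain ⟨x₀, y₀, hx₀1, hy₀1, hxy₀, hx₀2, hy₀2, hcomm₀⟩ := h2
  have hse := ro_se hS
  -- move the commuting involutions into the point stabilizer
  obtain ⟨p, hp⟩ := ro_invol_exists_fixed hS hx₀1 hx₀2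
  have hyp : y₀ • p = p := by
    have h1 : x₀ • y₀ • p = y₀ • p := by
      rw [← mul_smul, hcomm₀, mul_smul, hp]
    exact ro_invol_fixed_unique hS hx₀1 hx₀2 h1 hp
  obtain ⟨g, rfl⟩ := ro_exists_smul_eq hS p
  obtain ⟨x, hx⟩ : ∃ x, x = g⁻¹ * x₀ * g := ⟨_, rfl⟩
  obtain ⟨y, hy⟩ : ∃ y, y = g⁻¹ * y₀ * g := ⟨_, rfl⟩
  have hxH : x ∈ MulAction.stabilizer G a := by
    rw [hx, MulAction.mem_stabilizer_iff, mul_smul, mul_smul, hp, inv_smul_smul]
  have hyH : y ∈ MulAction.stabilizer G a := by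
    rw [hy, MulAction.mem_stabilizer_iff, mul_smul, mul_smul, hyp, inv_smul_smul]
  have hx2 : x * x = 1 := by
    rw [hx]
    have : g⁻¹ * x₀ * g * (g⁻¹ * x₀ * g) = g⁻¹ * (x₀ * x₀) * g := by group
    rw [this, hx₀2]; group
  have hy2 : y * y = 1 := by
    rw [hy]
    have : g⁻¹ * y₀ * g * (g⁻¹ * y₀ * g) = g⁻¹ * (y₀ * y₀) * g := by group
    rw [this, hy₀2]; group
  have hx1 : x ≠ 1 := by
    intro h0
    apply hx₀1
    have : x₀ = g * (g⁻¹ * x₀ * g) * g⁻¹ := by group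
    rw [this, ← hx, h0]; group
  have hy1 : y ≠ 1 := by
    intro h0
    apply hy₀1
    have : y₀ = g * (g⁻¹ * y₀ * g) * g⁻¹ := by group
    rw [this, ← hy, h0]; group
  have hxy : x ≠ y := by
    intro h0
    apply hxy₀
    have e1 : x₀ = g * (g⁻¹ * x₀ * g) * g⁻¹ := by group
    have e2 : y₀ = g * (g⁻¹ * y₀ * g) * g⁻¹ := by group
    rw [e1, e2, ← hx, ← hy, h0]
  have hcomm : x * y = y * x := by
    rw [hx, hy]
    have e1 : g⁻¹ * x₀ * g * (g⁻¹ * y₀ * g) = g⁻¹ * (x₀ * y₀) * g := by group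
    have e2 : g⁻¹ * y₀ * g * (g⁻¹ * x₀ * g) = g⁻¹ * (y₀ * x₀) * g := by group
    rw [e1, e2, hcomm₀]
  -- c = y x is an involution
  have hc1 : y * x ≠ 1 := by
    intro h0
    apply hxy
    have : x = y⁻¹ := eq_inv_of_mul_eq_one_right h0
    rw [this, inv_eq_of_mul_eq_one_right hy2]
  have hc2 : (y * x) * (y * x) = 1 := by
    have : (y * x) * (y * x) = y * (x * y) * x := by group
    rw [this, hcomm]
    have : y * (y * x) * x = (y * y) * (x * x) := by group
    rw [this, hx2, hy2, one_mul]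
  have hOn : (Cfsg.pPrimeCore 2 G).Normal := Cfsg.Agent.Lib.Helper1.pPrimeCore_normal 2
  have hOodd : (Nat.card (Cfsg.pPrimeCore 2 G)).Coprime 2 :=
    Cfsg.Agent.Lib.Helper1.pPrimeCore_card_coprime 2
  have hcO : y * x ∉ Cfsg.pPrimeCore 2 G := by
    intro hmem
    have hord : orderOf (y * x) = 2 := orderOf_two_iff.2 ⟨hc1, hc2⟩
    have := orderOf_dvd_natCard (⟨y * x, hmem⟩ : ↥(Cfsg.pPrimeCore 2 G))
    rw [Subgroup.orderOf_mk, hord] at this
    have h1 : (2 : ℕ) ∣ Nat.gcd (Nat.card (Cfsg.pPrimeCore 2 G)) 2 := Nat.dvd_gcd this (dvd_refl 2)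
    rw [hOodd] at h1
    omega
  apply le_antisymm
  · rw [Subgroup.normal_le_normalCore]
    intro o ho
    rw [MulAction.mem_stabilizer_iff]
    by_contra hoa
    -- x' = o x o⁻¹ lies outside the stabilizer
    have hx'H : o * x * o⁻¹ ∉ MulAction.stabilizer G a := by
      intro hmem
      have h1 : o * x * o⁻¹ ≠ 1 := by
        intro h0
        apply hx1
        have : x = o⁻¹ * (o * x * o⁻¹) * o := by group
        rw [this, h0]; group
      have h2 : (o * x * o⁻¹) * (o * x * o⁻¹) = 1 := by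
        have : (o * x * o⁻¹) * (o * x * o⁻¹) = o * (x * x) * o⁻¹ := by group
        rw [this, hx2]; group
      have h3 : (o * x * o⁻¹) • (o • a) = o • a := by
        rw [← mul_smul]
        have : o * x * o⁻¹ * o = o * x := by group
        rw [this, mul_smul, MulAction.mem_stabilizer_iff.1 hxH]
      exact hoa (ro_invol_fixed hS hmem h1 h2 h3)
    have hx'o : orderOf (o * x * o⁻¹) = 2 := conj_orderOf_two (orderOf_two_iff.2 ⟨hx1, hx2⟩) o
    have hodd := se_odd_mul hse (orderOf_two_iff.2 ⟨hy1, hy2⟩) hyH hx'o hx'H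
    -- pass to the quotient by O
    have hπ : (QuotientGroup.mk (y * (o * x * o⁻¹)) : G ⧸ Cfsg.pPrimeCore 2 G) =
        QuotientGroup.mk (y * x) := by
      rw [QuotientGroup.eq]
      have e : (y * (o * x * o⁻¹))⁻¹ * (y * x) = o * (x⁻¹ * o⁻¹ * x) := by group
      rw [e]
      have h0 := hOn.conj_mem _ (inv_mem ho) x⁻¹
      rw [inv_inv] at h0
      exact mul_mem ho h0
    have h1 : orderOf (QuotientGroup.mk (y * x) : G ⧸ Cfsg.pPrimeCore 2 G) ∣
        orderOf (y * (o * x * o⁻¹)) := by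
      rw [← hπ]
      exact orderOf_map_dvd (QuotientGroup.mk' (Cfsg.pPrimeCore 2 G)) _
    have h2 : orderOf (QuotientGroup.mk (y * x) : G ⧸ Cfsg.pPrimeCore 2 G) ∣ 2 := by
      apply orderOf_dvd_of_pow_eq_one
      rw [← QuotientGroup.mk_pow, pow_two, hc2, QuotientGroup.mk_one]
    have h3 : orderOf (QuotientGroup.mk (y * x) : G ⧸ Cfsg.pPrimeCore 2 G) ∣ 1 := by
      have hc : Nat.Coprime 2 (orderOf (y * (o * x * o⁻¹))) := (Nat.coprime_two_left).2 hodd
      have := Nat.dvd_gcd h2 h1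
      rwa [hc.gcd_eq_one] at this
    have h4 := orderOf_eq_one_iff.1 (Nat.dvd_one.1 h3)
    rw [QuotientGroup.eq_one_iff] at h4
    exact hcO h4
  · apply Cfsg.Agent.Lib.Helper1.le_pPrimeCore (Subgroup.normalCore_normal _)
    have hle : (MulAction.stabilizer G a).normalCore ≤
        MulAction.stabilizer G a ⊓ MulAction.stabilizer G (t • a) := by
      intro n hn
      refine Subgroup.mem_inf.2 ⟨Subgroup.normalCore_le _ hn, ?_⟩
      have h1 : t⁻¹ * n * t⁻¹⁻¹ ∈ (MulAction.stabilizer G a).normalCore :=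
        (Subgroup.normalCore_normal _).conj_mem n hn t⁻¹
      have h2 := MulAction.mem_stabilizer_iff.1 (Subgroup.normalCore_le _ h1)
      rw [inv_inv, mul_smul, mul_smul, inv_smul_eq_iff] at h2
      exact MulAction.mem_stabilizer_iff.2 h2
    have hdvd := Subgroup.card_dvd_of_le hle
    have hodd : Odd (Nat.card ↥((MulAction.stabilizer G a).normalCore)) :=
      Odd.of_dvd_nat hS.odd_card hdvd
    exact (Nat.coprime_two_right).2 hodd

end Cfsg.Agent.S1120
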