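import Cfsg.Statements.S1123
import Cfsg.Agent.Lib.Helper9.RankOne2

set_option autoImplicit false
open Cfsg

namespace Cfsg.Agent.S1123

open Cfsg.Agent.Lib.Helper9

/-- In the rank-one set-up (`G` finite and doubly transitive on `Ω`, `t` an involution moving `a`, `Q` normal in `G_a` with `G_a = Q D`, `Q ⊓ D = 1` for the two-point stabiliser `D = G_a ⊓ G_{t • a}`, `|Q|` even, `|D|` odd), there is a unique pair `(s, r)` with `s` an involution of `G_a`, `r ∈ Q` and `t s t = r⁻¹ t r`. -/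
theorem result {G Ω : Type*} [Group G] [Finite G] [MulAction G Ω] {a : Ω} {t : G} {Q : Subgroup G}
    (hS : Cfsg.IsRankOneSetup G Ω a t Q) :
    ∃! p : G × G, p.1 ∈ Cfsg.involutionsIn (MulAction.stabilizer G a : Set G) ∧ p.2 ∈ Q ∧
      t * p.1 * t = p.2⁻¹ * t * p.2 := by
  have hti := ro_t_inv hS
  have htt := hS.mul_self
  obtain ⟨b, hb⟩ := ro_invol_exists_fixed hS hS.ne_one hS.mul_self
  have hba : b ≠ a := by
    intro h0
    apply hS.not_mem
    rw [MulAction.mem_stabilizer_iff, ← h0]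
    exact hb
  obtain ⟨r, hr, hrb⟩ := ro_Q_transitive hS hba
  -- uniqueness of r
  have runique : ∀ r' : G, r' ∈ Q → (∃ s' : G, s' ∈ Cfsg.involutionsIn (MulAction.stabilizer G a : Set G) ∧
      t * s' * t = r'⁻¹ * t * r') → r' = r := by
    rintro r' hr' ⟨s', ⟨hs'H, -, -⟩, hrel⟩
    have h1 : t • (r' • t • a) = r' • t • a := by
      have e : t * r' * t = r' * (r'⁻¹ * t * r') * t := by group
      rw [← mul_smul, ← mul_smul, e, ← hrel]
      have e2 : r' * (t * s' * t) * t = r' * t * s' * (t * t) := by group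
      rw [e2, htt, mul_one, mul_smul, MulAction.mem_stabilizer_iff.1 hs'H, mul_smul]
    have h2 : r' • t • a = b := ro_invol_fixed_unique hS hS.ne_one hS.mul_self h1 hb
    have h3 : (r⁻¹ * r') • (t • a) = t • a := by
      rw [mul_smul, h2, ← hrb, inv_smul_smul]
    have h4 := ro_Q_semiregular hS (mul_mem (inv_mem hr) hr') (ro_ta_ne hS) h3
    have : r' = r * (r⁻¹ * r') := by group
    rw [this, h4, mul_one]
  refine ⟨(t * (r⁻¹ * t * r) * t, r), ⟨⟨?_, ?_, ?_⟩, hr, ?_⟩, ?_⟩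
  · show t * (r⁻¹ * t * r) * t ∈ MulAction.stabilizer G a
    rw [MulAction.mem_stabilizer_iff]
    have e : t * (r⁻¹ * t * r) * t = t * r⁻¹ * t * r * t := by group
    rw [e]
    simp only [mul_smul]
    rw [hrb, hb, ← hrb, inv_smul_smul, ← mul_smul, htt, one_smul]
  · intro h0
    change t * (r⁻¹ * t * r) * t = 1 at h0
    apply hS.ne_one
    have e : t = r * (t⁻¹ * (t * (r⁻¹ * t * r) * t) * t⁻¹) * r⁻¹ := by group
    rw [e, h0, mul_one, hti, htt, mul_one, mul_inv_cancel]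
  · show t * (r⁻¹ * t * r) * t * (t * (r⁻¹ * t * r) * t) = 1
    have e : t * (r⁻¹ * t * r) * t * (t * (r⁻¹ * t * r) * t) =
        t * r⁻¹ * t * r * (t * t) * r⁻¹ * t * r * t := by group
    rw [e, htt, mul_one]
    have e2 : t * r⁻¹ * t * r * r⁻¹ * t * r * t = t * r⁻¹ * (t * t) * r * t := by group
    rw [e2, htt, mul_one]
    have e3 : t * r⁻¹ * r * t = t * t := by group
    rw [e3, htt]
  · show t * (t * (r⁻¹ * t * r) * t) * t = r⁻¹ * t * r
    have e : t * (t * (r⁻¹ * t * r) * t) * t = (t * t) * (r⁻¹ * t * r) * (t * t) := by group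
    rw [e, htt, one_mul, mul_one]
  · rintro ⟨s', r'⟩ ⟨hs', hr', hrel⟩
    have hr'r : r' = r := runique r' hr' ⟨s', hs', hrel⟩
    have hs's : s' = t * (r⁻¹ * t * r) * t := by
      have e : s' = t⁻¹ * (t * s' * t) * t⁻¹ := by group
      rw [e, hrel, hti, hr'r]
    rw [hs's, hr'r]

end Cfsg.Agent.S1123
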