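import Cfsg.Statements.S1124
import Cfsg.Agent.Lib.Helper9.Isolated

set_option autoImplicit false
open Cfsg

namespace Cfsg.Agent.S1124

open Cfsg.Agent.Lib.Helper9
open scoped Pointwise

variable {M : Type*} [Group M] [Finite M]

omit [Finite M] in
theorem odd_orderOf_of_mem {X : Subgroup M} (hodd : Odd (Nat.card X)) {x : M} (hx : x ∈ X) :
    Odd (orderOf x) := by
  have h1 : orderOf (⟨x, hx⟩ : X) ∣ Nat.card X := orderOf_dvd_natCard _
  have h2 : orderOf (⟨x, hx⟩ : X) = orderOf x := Subgroup.orderOf_mk x hx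
  rw [h2] at h1
  exact Odd.of_dvd_nat hodd h1

theorem exists_decomp (t : M) (ht : orderOf t = 2) (X : Subgroup M) (hodd : Odd (Nat.card X))
    (hnorm : ∀ x ∈ X, t * x * t⁻¹ ∈ X) (x : M) (hx : x ∈ X) :
    ∃ c i : M, c ∈ X ⊓ Subgroup.centralizer {t} ∧ i ∈ Cfsg.invertedBy X t ∧ x = c * i := by
  have hti : t⁻¹ = t := inv_eq_self_of_orderOf_two ht
  have htt : t * t = 1 := mul_self_of_orderOf_two ht
  set w := x⁻¹ * (t * x * t⁻¹) with hw
  have hwX : w ∈ X := X.mul_mem (X.inv_mem hx) (hnorm x hx)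
  have hwinv : t * w * t⁻¹ = w⁻¹ := by
    rw [hw, hti]
    have e1 : t * (x⁻¹ * (t * x * t)) * t = t * x⁻¹ * t * x * (t * t) := by group
    rw [e1, htt, mul_one]
    have e2 : (x⁻¹ * (t * x * t))⁻¹ = t⁻¹ * x⁻¹ * t⁻¹ * x := by group
    rw [e2, hti]
  obtain ⟨j, hj⟩ := odd_orderOf_of_mem hodd hwX
  set v := w ^ (j + 1) with hv
  have hvX : v ∈ X := X.pow_mem hwX _
  have hvv : v * v = w := by
    rw [hv, ← pow_add]
    have : j + 1 + (j + 1) = orderOf w + 1 := by omega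
    rw [this, pow_succ, pow_orderOf_eq_one, one_mul]
  have hvinv : t * v * t⁻¹ = v⁻¹ := by
    rw [hv, ← conj_pow, hwinv, inv_pow]
  refine ⟨x * v, v⁻¹, ?_, ?_, by group⟩
  · refine Subgroup.mem_inf.2 ⟨X.mul_mem hx hvX, ?_⟩
    rw [Subgroup.mem_centralizer_singleton_iff]
    have h1 : t * x * t⁻¹ = x * w := by rw [hw]; group
    have h2 : t * (x * v) * t⁻¹ = x * v := by
      calc t * (x * v) * t⁻¹ = (t * x * t⁻¹) * (t * v * t⁻¹) := by group
        _ = x * w * v⁻¹ := by rw [h1, hvinv]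
        _ = x * (v * v) * v⁻¹ := by rw [hvv]
        _ = x * v := by group
    calc x * v * t = (t * (x * v) * t⁻¹) * t := by rw [h2]
      _ = t * (x * v) := by group
  · refine ⟨X.inv_mem hvX, ?_⟩
    calc t * v⁻¹ * t⁻¹ = (t * v * t⁻¹)⁻¹ := by group
      _ = v⁻¹⁻¹ := by rw [hvinv]

theorem unique_decomp (t : M) (ht : orderOf t = 2) (X : Subgroup M) (hodd : Odd (Nat.card X))
    {c i c' i' : M} (hc : c ∈ X ⊓ Subgroup.centralizer {t}) (hi : i ∈ Cfsg.invertedBy X t)
    (hc' : c' ∈ X ⊓ Subgroup.centralizer {t}) (hi' : i' ∈ Cfsg.invertedBy X t)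
    (h : c * i = c' * i') : c = c' ∧ i = i' := by
  have hct : t * c * t⁻¹ = c := by
    have := (Subgroup.mem_inf.1 hc).2
    rw [Subgroup.mem_centralizer_singleton_iff] at this
    rw [← this]; group
  have hct' : t * c' * t⁻¹ = c' := by
    have := (Subgroup.mem_inf.1 hc').2
    rw [Subgroup.mem_centralizer_singleton_iff] at this
    rw [← this]; group
  have h2 : c * i⁻¹ = c' * i'⁻¹ := by
    have e1 : t * (c * i) * t⁻¹ = c * i⁻¹ := by
      calc t * (c * i) * t⁻¹ = (t * c * t⁻¹) * (t * i * t⁻¹) := by group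
        _ = c * i⁻¹ := by rw [hct, hi.2]
    have e2 : t * (c' * i') * t⁻¹ = c' * i'⁻¹ := by
      calc t * (c' * i') * t⁻¹ = (t * c' * t⁻¹) * (t * i' * t⁻¹) := by group
        _ = c' * i'⁻¹ := by rw [hct', hi'.2]
    rw [← e1, ← e2, h]
  have h3 : i * i = i' * i' := by
    calc i * i = (c * i⁻¹)⁻¹ * (c * i) := by group
      _ = (c' * i'⁻¹)⁻¹ * (c' * i') := by rw [h, h2]
      _ = i' * i' := by group
  have h4 : i = i' :=
    eq_of_sq_eq_of_odd (odd_orderOf_of_mem hodd hi.1) (odd_orderOf_of_mem hodd hi'.1) h3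
  subst h4
  exact ⟨mul_right_cancel h, rfl⟩

theorem result {M : Type*} [Group M] [Finite M]
    (t : M) (ht : orderOf t = 2) (X : Subgroup M) (hodd : Odd (Nat.card X))
    (hnorm : ∀ x ∈ X, t * x * t⁻¹ ∈ X) :
    (∀ x ∈ X, ∃! p : M × M, p.1 ∈ X ⊓ Subgroup.centralizer {t} ∧ p.2 ∈ Cfsg.invertedBy X t ∧ x = p.1 * p.2) ∧
      Nat.card X = Nat.card ↥(X ⊓ Subgroup.centralizer {t}) * Nat.card (Cfsg.invertedBy X t) ∧
      ∀ x ∈ X, MulAut.conj x • Subgroup.closure (Cfsg.invertedBy X t) = Subgroup.closure (Cfsg.invertedBy X t) := by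
  have hti : t⁻¹ = t := inv_eq_self_of_orderOf_two ht
  refine ⟨?_, ?_, ?_⟩
  · intro x hx
    obtain ⟨c, i, hc, hi, hxci⟩ := exists_decomp t ht X hodd hnorm x hx
    refine ⟨(c, i), ⟨hc, hi, hxci⟩, ?_⟩
    rintro ⟨c', i'⟩ ⟨hc', hi', hx'⟩
    have := unique_decomp t ht X hodd hc' hi' hc hi (hx'.symm.trans hxci)
    exact Prod.ext this.1 this.2
  · let f : ↥(X ⊓ Subgroup.centralizer {t}) × (Cfsg.invertedBy X t) → X :=
      fun p => ⟨(p.1 : M) * (p.2 : M), X.mul_mem (Subgroup.mem_inf.1 p.1.2).1 p.2.2.1⟩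
    have hf : Function.Bijective f := by
      constructor
      · rintro ⟨⟨c, hc⟩, ⟨i, hi⟩⟩ ⟨⟨c', hc'⟩, ⟨i', hi'⟩⟩ h
        have h' : c * i = c' * i' := congrArg Subtype.val h
        obtain ⟨h1, h2⟩ := unique_decomp t ht X hodd hc hi hc' hi' h'
        subst h1; subst h2; rfl
      · rintro ⟨x, hx⟩
        obtain ⟨c, i, hc, hi, hxci⟩ := exists_decomp t ht X hodd hnorm x hx
        exact ⟨(⟨c, hc⟩, ⟨i, hi⟩), Subtype.ext hxci.symm⟩
    rw [← Nat.card_prod]
    exact (Nat.card_congr (Equiv.ofBijective f hf)).symm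
  · set I := Cfsg.invertedBy X t with hI
    have hIX : I ⊆ X := fun i hi => hi.1
    have hinvI : ∀ i ∈ I, i⁻¹ ∈ I := by
      intro i hi
      refine ⟨X.inv_mem hi.1, ?_⟩
      calc t * i⁻¹ * t⁻¹ = (t * i * t⁻¹)⁻¹ := by group
        _ = i⁻¹⁻¹ := by rw [hi.2]
    -- conjugation by centralizing elements preserves I
    have hcI : ∀ c ∈ X ⊓ Subgroup.centralizer {t}, ∀ i ∈ I, c * i * c⁻¹ ∈ I := by
      intro c hc i hi
      have hcX := (Subgroup.mem_inf.1 hc).1
      have hct : t * c * t⁻¹ = c := by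
        have := (Subgroup.mem_inf.1 hc).2
        rw [Subgroup.mem_centralizer_singleton_iff] at this
        rw [← this]; group
      refine ⟨X.mul_mem (X.mul_mem hcX hi.1) (X.inv_mem hcX), ?_⟩
      calc t * (c * i * c⁻¹) * t⁻¹ = (t * c * t⁻¹) * (t * i * t⁻¹) * (t * c * t⁻¹)⁻¹ := by group
        _ = c * i⁻¹ * c⁻¹ := by rw [hct, hi.2]
        _ = (c * i * c⁻¹)⁻¹ := by group
    have hconj : ∀ x ∈ X, ∀ y ∈ Subgroup.closure I, x * y * x⁻¹ ∈ Subgroup.closure I := by
      intro x hx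
      obtain ⟨c, j, hc, hj, hxcj⟩ := exists_decomp t ht X hodd hnorm x hx
      have h2 : ∀ y ∈ Subgroup.closure I, c * y * c⁻¹ ∈ Subgroup.closure I := by
        intro y hy
        induction hy using Subgroup.closure_induction with
        | mem y hy => exact Subgroup.subset_closure (hcI c hc y hy)
        | one => simp
        | mul a b _ _ iha ihb =>
          have : c * (a * b) * c⁻¹ = (c * a * c⁻¹) * (c * b * c⁻¹) := by group
          rw [this]; exact Subgroup.mul_mem _ iha ihb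
        | inv a _ iha =>
          have : c * a⁻¹ * c⁻¹ = (c * a * c⁻¹)⁻¹ := by group
          rw [this]; exact Subgroup.inv_mem _ iha
      intro y hy
      have h1 : j * y * j⁻¹ ∈ Subgroup.closure I :=
        Subgroup.mul_mem _ (Subgroup.mul_mem _ (Subgroup.subset_closure hj) hy)
          (Subgroup.inv_mem _ (Subgroup.subset_closure hj))
      have e : x * y * x⁻¹ = c * (j * y * j⁻¹) * c⁻¹ := by rw [hxcj]; group
      rw [e]; exact h2 _ h1
    have hle : ∀ x ∈ X, MulAut.conj x • Subgroup.closure I ≤ Subgroup.closure I := by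
      intro x hx y hy
      rw [Subgroup.mem_pointwise_smul_iff_inv_smul_mem] at hy
      have h3 : (MulAut.conj x)⁻¹ • y = x⁻¹ * y * x := by
        rw [← map_inv, MulAut.smul_def, MulAut.conj_apply, inv_inv]
      rw [h3] at hy
      have := hconj x hx _ hy
      have e : x * (x⁻¹ * y * x) * x⁻¹ = y := by group
      rwa [e] at this
    intro x hx
    apply le_antisymm (hle x hx)
    have h1 := hle x⁻¹ (X.inv_mem hx)
    have h2 : MulAut.conj x • (MulAut.conj x⁻¹ • Subgroup.closure I) = Subgroup.closure I := by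
      rw [smul_smul, ← map_mul, mul_inv_cancel, map_one, one_smul]
    calc Subgroup.closure I = MulAut.conj x • (MulAut.conj x⁻¹ • Subgroup.closure I) := h2.symm
      _ ≤ MulAut.conj x • Subgroup.closure I := Subgroup.pointwise_smul_le_pointwise_smul_iff.2 h1

end Cfsg.Agent.S1124
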