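import Cfsg.Statements.S1127
import Cfsg.Agent.Lib.Helper9.RankOne2
import Cfsg.Agent.S1123

set_option autoImplicit false
open Cfsg

namespace Cfsg.Agent.S1127

open Cfsg.Agent.Lib.Helper9

theorem aux {G Ω : Type*} [Group G] [MulAction G Ω] {a : Ω} {t : G} {Q : Subgroup G}
    (hS : Cfsg.IsRankOneSetup G Ω a t Q) {w r : G} (hr : r ∈ Q)
    (hwH : w ∈ MulAction.stabilizer G a) (hwta : w • t • a = t • a)
    (hcomm : w * (r⁻¹ * t * r) = (r⁻¹ * t * r) * w) : w * t = t * w := by
  have hra : r • a = a := MulAction.mem_stabilizer_iff.1 (hS.le hr)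
  have hwa : w • a = a := MulAction.mem_stabilizer_iff.1 hwH
  have hwita : w⁻¹ • t • a = t • a := by rw [inv_smul_eq_iff, hwta]
  have h1 := congrArg (fun g => g • a) hcomm
  simp only [mul_smul] at h1
  rw [hwa, hra] at h1
  have h2 : (w * r⁻¹ * w⁻¹) • t • a = r⁻¹ • t • a := by
    simp only [mul_smul]
    rw [hwita, h1]
  have hq : r * (w * r⁻¹ * w⁻¹) ∈ Q := mul_mem hr (hS.conj_mem _ hwH _ (inv_mem hr))
  have hfix : (r * (w * r⁻¹ * w⁻¹)) • t • a = t • a := by
    rw [mul_smul, h2, smul_inv_smul]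
  have h3 := ro_Q_semiregular hS hq (ro_ta_ne hS) hfix
  have c1 : w * r⁻¹ = r⁻¹ * w := by
    have : w * r⁻¹ = r⁻¹ * (r * (w * r⁻¹ * w⁻¹)) * w := by group
    rw [this, h3, mul_one]
  have c2 : w * r = r * w := by
    calc w * r = r * (r⁻¹ * w) * r := by group
      _ = r * (w * r⁻¹) * r := by rw [c1]
      _ = r * w := by group
  calc w * t = (w * r) * (r⁻¹ * t * r) * r⁻¹ := by group
    _ = r * (w * (r⁻¹ * t * r)) * r⁻¹ := by rw [c2]; group
    _ = r * ((r⁻¹ * t * r) * w) * r⁻¹ := by rw [hcomm]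
    _ = t * (r * w) * r⁻¹ := by group
    _ = t * (w * r) * r⁻¹ := by rw [c2]
    _ = t * w := by group


/-- In the rank-one set-up (`G` finite and doubly transitive on `Ω`, `t` an involution moving `a`, `Q` normal in `G_a` with `G_a = Q D`, `Q ⊓ D = 1` for the two-point stabiliser `D = G_a ⊓ G_{t • a}`, `|Q|` even, `|D|` odd): if `s` is an involution of `G_a` and `r ∈ Q` satisfy `t s t = r⁻¹ t r`, then `C_D(t) = C_D(s)`; moreover `C_D(t) ⊓ C_D(K) = C_D(I ∩ G_a)`, where `K` is the set of elements of `D` inverted by `t` and `I ∩ G_a` the set of involutions of `G_a`. -/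
theorem result {G Ω : Type*} [Group G] [Finite G] [MulAction G Ω] {a : Ω} {t : G} {Q : Subgroup G}
    (hS : Cfsg.IsRankOneSetup G Ω a t Q) :
    (∀ s r : G, s ∈ Cfsg.involutionsIn (MulAction.stabilizer G a : Set G) → r ∈ Q → t * s * t = r⁻¹ * t * r →
        (MulAction.stabilizer G a ⊓ MulAction.stabilizer G (t • a)) ⊓ Subgroup.centralizer {t} = (MulAction.stabilizer G a ⊓ MulAction.stabilizer G (t • a)) ⊓ Subgroup.centralizer {s}) ∧
      (MulAction.stabilizer G a ⊓ MulAction.stabilizer G (t • a)) ⊓ Subgroup.centralizer {t} ⊓ Subgroup.centralizer (Cfsg.invertedBy (MulAction.stabilizer G a ⊓ MulAction.stabilizer G (t • a)) t) =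
        (MulAction.stabilizer G a ⊓ MulAction.stabilizer G (t • a)) ⊓ Subgroup.centralizer (Cfsg.involutionsIn (MulAction.stabilizer G a : Set G)) := by
  have hti := ro_t_inv hS
  have htt := hS.mul_self
  have htta : t • t • a = a := ro_tta hS
  have part1 : ∀ s r : G, s ∈ Cfsg.involutionsIn (MulAction.stabilizer G a : Set G) → r ∈ Q →
      t * s * t = r⁻¹ * t * r → ∀ d ∈ MulAction.stabilizer G a ⊓ MulAction.stabilizer G (t • a),
      (d * t = t * d ↔ d * s = s * d) := by
    intro s r hs hr hrel d hdD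
    obtain ⟨p, hp, hpu⟩ := Cfsg.Agent.S1123.result hS
    have hdH : d ∈ MulAction.stabilizer G a := (Subgroup.mem_inf.1 hdD).1
    constructor
    · intro hdt
      have h1 : d * s * d⁻¹ ∈ Cfsg.involutionsIn (MulAction.stabilizer G a : Set G) := by
        have := ro_conj_mem_involutionsIn hS hs (inv_mem hdH)
        rwa [inv_inv] at this
      have h2 : d * r * d⁻¹ ∈ Q := hS.conj_mem d hdH r hr
      have h3 : t * (d * s * d⁻¹) * t = (d * r * d⁻¹)⁻¹ * t * (d * r * d⁻¹) := by
        have hdt' : d⁻¹ * t = t * d⁻¹ := by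
          have : d⁻¹ * t = d⁻¹ * (t * d) * d⁻¹ := by group
          rw [this, ← hdt]; group
        have e1 : t * (d * s * d⁻¹) * t = (t * d) * s * (d⁻¹ * t) := by group
        rw [e1, ← hdt, hdt']
        have e2 : d * t * s * (t * d⁻¹) = d * (t * s * t) * d⁻¹ := by group
        rw [e2, hrel]
        have e3 : (d * r * d⁻¹)⁻¹ * t * (d * r * d⁻¹) = d * r⁻¹ * (d⁻¹ * t) * d * r * d⁻¹ := by
          group
        rw [e3, hdt']; group
      have ha := hpu (s, r) ⟨hs, hr, hrel⟩
      have hb := hpu (d * s * d⁻¹, d * r * d⁻¹) ⟨h1, h2, h3⟩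
      have hc : d * s * d⁻¹ = s := congrArg Prod.fst (hb.trans ha.symm)
      have : d * s = (d * s * d⁻¹) * d := by group
      rw [this, hc]
    · intro hds
      have hda : d • a = a := MulAction.mem_stabilizer_iff.1 hdH
      have hdta : d • t • a = t • a := MulAction.mem_stabilizer_iff.1 (Subgroup.mem_inf.1 hdD).2
      have hdia : d⁻¹ • a = a := by rw [inv_smul_eq_iff, hda]
      have hdita : d⁻¹ • t • a = t • a := by rw [inv_smul_eq_iff, hdta]
      have hra : r • a = a := MulAction.mem_stabilizer_iff.1 (hS.le hr)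
      have hdis : d⁻¹ * s = s * d⁻¹ := by
        have : d⁻¹ * s = d⁻¹ * (s * d) * d⁻¹ := by group
        rw [this, ← hds]; group
      -- w = t d⁻¹ t
      have hwa : (t * d⁻¹ * t) • a = a := by
        simp only [mul_smul]
        rw [hdita, htta]
      have hwH : t * d⁻¹ * t ∈ MulAction.stabilizer G a := MulAction.mem_stabilizer_iff.2 hwa
      have hwta : (t * d⁻¹ * t) • t • a = t • a := by
        simp only [mul_smul]
        rw [htta, hdia]
      have hwia : (t * d⁻¹ * t)⁻¹ • a = a := by rw [inv_smul_eq_iff, hwa]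
      have hwita : (t * d⁻¹ * t)⁻¹ • t • a = t • a := by rw [inv_smul_eq_iff, hwta]
      have step1 : (t * d⁻¹ * t) * (r⁻¹ * t * r) = (r⁻¹ * t * r) * (t * d⁻¹ * t) := by
        rw [← hrel]
        have e1 : (t * d⁻¹ * t) * (t * s * t) = t * d⁻¹ * (t * t) * s * t := by group
        have e2 : (t * s * t) * (t * d⁻¹ * t) = t * s * (t * t) * d⁻¹ * t := by group
        rw [e1, e2, htt, mul_one, mul_one]
        have e3 : t * d⁻¹ * s * t = t * (d⁻¹ * s) * t := by group
        rw [e3, hdis]; group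
      have step4 : (t * d⁻¹ * t) * t = t * (t * d⁻¹ * t) := aux hS hr hwH hwta step1
      have e1 : (t * d⁻¹ * t) * t = t * d⁻¹ * (t * t) := by group
      have e2 : t * (t * d⁻¹ * t) = (t * t) * d⁻¹ * t := by group
      rw [e1, e2, htt, mul_one, one_mul] at step4
      have : d * t = d * (t * d⁻¹) * d := by group
      rw [this, step4]; group
  refine ⟨?_, ?_⟩
  · intro s r hs hr hrel
    ext d
    constructor
    · intro hd
      obtain ⟨hdD, hdt⟩ := Subgroup.mem_inf.1 hd
      rw [Subgroup.mem_centralizer_singleton_iff] at hdt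
      refine Subgroup.mem_inf.2 ⟨hdD, ?_⟩
      rw [Subgroup.mem_centralizer_singleton_iff]
      exact (part1 s r hs hr hrel d hdD).1 hdt
    · intro hd
      obtain ⟨hdD, hdt⟩ := Subgroup.mem_inf.1 hd
      rw [Subgroup.mem_centralizer_singleton_iff] at hdt
      refine Subgroup.mem_inf.2 ⟨hdD, ?_⟩
      rw [Subgroup.mem_centralizer_singleton_iff]
      exact (part1 s r hs hr hrel d hdD).2 hdt
  · obtain ⟨p, ⟨hs, hr, hrel⟩, -⟩ := Cfsg.Agent.S1123.result hS
    ext d
    constructor
    · intro hd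
      obtain ⟨hd1, hdK⟩ := Subgroup.mem_inf.1 hd
      obtain ⟨hdD, hdt⟩ := Subgroup.mem_inf.1 hd1
      rw [Subgroup.mem_centralizer_singleton_iff] at hdt
      have hds := (part1 p.1 p.2 hs hr hrel d hdD).1 hdt
      refine Subgroup.mem_inf.2 ⟨hdD, ?_⟩
      rw [Subgroup.mem_centralizer_iff]
      intro s' hs'
      obtain ⟨k, hk, hks⟩ := ro_K_conj hS hs hs'
      have hdk : k * d = d * k := (Subgroup.mem_centralizer_iff.1 hdK) k hk
      have hdk' : d * k⁻¹ = k⁻¹ * d := by
        have : d * k⁻¹ = k⁻¹ * (k * d) * k⁻¹ := by group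
        rw [this, hdk]; group
      rw [← hks]
      have e1 : k⁻¹ * p.1 * k * d = k⁻¹ * p.1 * (k * d) := by group
      rw [e1, hdk]
      have e2 : k⁻¹ * p.1 * (d * k) = k⁻¹ * (p.1 * d) * k := by group
      rw [e2, ← hds]
      have e3 : k⁻¹ * (d * p.1) * k = (k⁻¹ * d) * p.1 * k := by group
      rw [e3, ← hdk']; group
    · intro hd
      obtain ⟨hdD, hdI⟩ := Subgroup.mem_inf.1 hd
      have hdH : d ∈ MulAction.stabilizer G a := (Subgroup.mem_inf.1 hdD).1
      rw [Subgroup.mem_centralizer_iff] at hdI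
      have hds : d * p.1 = p.1 * d := (hdI p.1 hs).symm
      have hdt := (part1 p.1 p.2 hs hr hrel d hdD).2 hds
      refine Subgroup.mem_inf.2 ⟨Subgroup.mem_inf.2 ⟨hdD, ?_⟩, ?_⟩
      · rw [Subgroup.mem_centralizer_singleton_iff]; exact hdt
      · rw [Subgroup.mem_centralizer_iff]
        intro k hk
        have hkD := hk.1
        have hkinv := hk.2
        have hkH : k ∈ MulAction.stabilizer G a := (Subgroup.mem_inf.1 hkD).1
        have hs' := ro_conj_mem_involutionsIn hS hs hkH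
        have hds' : d * (k⁻¹ * p.1 * k) = (k⁻¹ * p.1 * k) * d := (hdI _ hs').symm
        have hk1 : d * k * d⁻¹ ∈ Cfsg.invertedBy
            (MulAction.stabilizer G a ⊓ MulAction.stabilizer G (t • a)) t := by
          refine ⟨mul_mem (mul_mem hdD hkD) (inv_mem hdD), ?_⟩
          have hdt' : t * d = d * t := hdt.symm
          have hdit : d⁻¹ * t⁻¹ = t⁻¹ * d⁻¹ := by
            rw [← mul_inv_rev, ← mul_inv_rev, hdt']
          have e1 : t * (d * k * d⁻¹) * t⁻¹ = (t * d) * k * (d⁻¹ * t⁻¹) := by group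
          rw [e1, hdt', hdit]
          have e2 : d * t * k * (t⁻¹ * d⁻¹) = d * (t * k * t⁻¹) * d⁻¹ := by group
          rw [e2, hkinv]; group
        have heq : (d * k * d⁻¹)⁻¹ * p.1 * (d * k * d⁻¹) = k⁻¹ * p.1 * k := by
          have e1 : (d * k * d⁻¹)⁻¹ * p.1 * (d * k * d⁻¹) = d * k⁻¹ * (d⁻¹ * (p.1 * d)) * k * d⁻¹ := by
            group
          rw [e1, ← hds]
          have e2 : d * k⁻¹ * (d⁻¹ * (d * p.1)) * k * d⁻¹ = (d * (k⁻¹ * p.1 * k)) * d⁻¹ := by group
          rw [e2, hds']; group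
        have := ro_K_conj_inj hS hs hk1 hk heq
        have e : k * d = (d * k * d⁻¹)⁻¹ * (d * k * d⁻¹) * k * d := by group
        calc k * d = (d * k * d⁻¹) * d := by rw [this]
          _ = d * k := by group

end Cfsg.Agent.S1127
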