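import Cfsg.Statements.S1134
import Cfsg.Agent.Lib.Helper9.RankOne
import Cfsg.Agent.S1125

set_option autoImplicit false
open Cfsg

namespace Cfsg.Agent.S1134

open Cfsg.Agent.Lib.Helper9

/-- In the rank-one set-up (`G` finite and doubly transitive on `Ω`, `t` an involution moving `a`, `Q` normal in `G_a` with `G_a = Q D`, `Q ⊓ D = 1` for the two-point stabiliser `D = G_a ⊓ G_{t • a}`, `|Q|` even, `|D|` odd), with the action faithful and `G` containing two distinct commuting involutions, with `V = C_D(t)`: subsets of `V` conjugate in `G` are conjugate in `V`. -/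
theorem result {G Ω : Type*} [Group G] [Finite G] [MulAction G Ω] [FaithfulSMul G Ω] {a : Ω} {t : G} {Q : Subgroup G}
    (hS : Cfsg.IsRankOneSetup G Ω a t Q)
    (h2 : ∃ x y : G, x ≠ 1 ∧ y ≠ 1 ∧ x ≠ y ∧ x * x = 1 ∧ y * y = 1 ∧ x * y = y * x)
    (X : Set G) (hX : X ⊆ (((MulAction.stabilizer G a ⊓ MulAction.stabilizer G (t • a)) ⊓ Subgroup.centralizer {t} : Subgroup G) : Set G)) (g : G)
    (hY : (fun x => g * x * g⁻¹) '' X ⊆ (((MulAction.stabilizer G a ⊓ MulAction.stabilizer G (t • a)) ⊓ Subgroup.centralizer {t} : Subgroup G) : Set G)) :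
    ∃ v ∈ (MulAction.stabilizer G a ⊓ MulAction.stabilizer G (t • a)) ⊓ Subgroup.centralizer {t}, (fun x => v * x * v⁻¹) '' X = (fun x => g * x * g⁻¹) '' X := by
  have hti := ro_t_inv hS
  have htt := hS.mul_self
  have htta := ro_tta hS
  have hXD : X ⊆ ((MulAction.stabilizer G a ⊓ MulAction.stabilizer G (t • a) : Subgroup G) : Set G) :=
    fun z hz => (Subgroup.mem_inf.1 (hX hz)).1
  have hXt : ∀ z ∈ X, z * t = t * z := fun z hz =>
    Subgroup.mem_centralizer_singleton_iff.1 (Subgroup.mem_inf.1 (hX hz)).2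
  have hXa : ∀ z ∈ X, z • a = a := fun z hz =>
    MulAction.mem_stabilizer_iff.1 (Subgroup.mem_inf.1 (hXD hz)).1
  have hXta : ∀ z ∈ X, z • t • a = t • a := fun z hz =>
    MulAction.mem_stabilizer_iff.1 (Subgroup.mem_inf.1 (hXD hz)).2
  have hYD : ∀ z ∈ X, g * z * g⁻¹ ∈ MulAction.stabilizer G a ⊓ MulAction.stabilizer G (t • a) :=
    fun z hz => (Subgroup.mem_inf.1 (hY ⟨z, hz, rfl⟩)).1
  have hYt : ∀ z ∈ X, (g * z * g⁻¹) * t = t * (g * z * g⁻¹) := fun z hz =>
    Subgroup.mem_centralizer_singleton_iff.1 (Subgroup.mem_inf.1 (hY ⟨z, hz, rfl⟩)).2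
  -- the points g⁻¹ a and g⁻¹ t a are fixed by X
  have hfa : ∀ z ∈ X, z • g⁻¹ • a = g⁻¹ • a := by
    intro z hz
    have := MulAction.mem_stabilizer_iff.1 (Subgroup.mem_inf.1 (hYD z hz)).1
    rw [mul_smul, mul_smul] at this
    exact eq_inv_smul_iff.2 this
  have hfta : ∀ z ∈ X, z • g⁻¹ • t • a = g⁻¹ • t • a := by
    intro z hz
    have := MulAction.mem_stabilizer_iff.1 (Subgroup.mem_inf.1 (hYD z hz)).2
    rw [mul_smul, mul_smul] at this
    exact eq_inv_smul_iff.2 this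
  -- step 1: reduce to an element of D
  have step1 : ∃ g' ∈ MulAction.stabilizer G a ⊓ MulAction.stabilizer G (t • a),
      ∀ z ∈ X, g' * z * g'⁻¹ = g * z * g⁻¹ := by
    by_cases h3 : ∃ d : Ω, d ≠ a ∧ d ≠ t • a ∧ ∀ z ∈ X, z • d = d
    · obtain ⟨d, hda, hdta, hXd⟩ := h3
      have hne : g⁻¹ • a ≠ g⁻¹ • t • a := fun h0 => ro_ta_ne hS (smul_left_cancel _ h0).symm
      obtain ⟨c, hcC, hca, hcta⟩ := (Cfsg.Agent.S1125.result hS X hXD
        ⟨a, t • a, d, (ro_ta_ne hS).symm, hda.symm, hdta.symm,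
          fun z hz => ⟨hXa z hz, hXta z hz, hXd z hz⟩⟩).1 a (t • a) (g⁻¹ • a) (g⁻¹ • t • a)
        (fun z hz => ⟨hXa z hz, hXta z hz, hfa z hz, hfta z hz⟩) (ro_ta_ne hS).symm hne
      refine ⟨g * c, Subgroup.mem_inf.2 ⟨?_, ?_⟩, ?_⟩
      · rw [MulAction.mem_stabilizer_iff, mul_smul, hca, smul_inv_smul]
      · rw [MulAction.mem_stabilizer_iff, mul_smul, hcta, smul_inv_smul]
      · intro z hz
        have hcz : z * c = c * z := (Subgroup.mem_centralizer_iff.1 hcC) z hz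
        have e : g * c * z * (g * c)⁻¹ = g * (c * z) * c⁻¹ * g⁻¹ := by group
        rw [e, ← hcz]; group
    · push Not at h3
      have h4 : ∀ d : Ω, (∀ z ∈ X, z • d = d) → d = a ∨ d = t • a := by
        intro d hd
        by_contra hno
        rw [not_or] at hno
        obtain ⟨z, hz, hzd⟩ := h3 d hno.1 hno.2
        exact hzd (hd z hz)
      have hne : g⁻¹ • a ≠ g⁻¹ • t • a := fun h0 => ro_ta_ne hS (smul_left_cancel _ h0).symm
      rcases h4 _ hfa with h5 | h5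
      · -- g fixes a
        have h6 : g⁻¹ • t • a = t • a := by
          rcases h4 _ hfta with h6 | h6
          · exfalso; exact hne (h5.trans h6.symm)
          · exact h6
        refine ⟨g, Subgroup.mem_inf.2 ⟨?_, ?_⟩, fun z _ => rfl⟩
        · rw [MulAction.mem_stabilizer_iff]
          rw [inv_smul_eq_iff] at h5
          exact h5.symm
        · rw [MulAction.mem_stabilizer_iff]
          rw [inv_smul_eq_iff] at h6
          exact h6.symm
      · have h6 : g⁻¹ • t • a = a := by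
          rcases h4 _ hfta with h6 | h6
          · exact h6
          · exfalso; exact hne (h5.trans h6.symm)
        refine ⟨g * t, Subgroup.mem_inf.2 ⟨?_, ?_⟩, ?_⟩
        · rw [MulAction.mem_stabilizer_iff, mul_smul]
          rw [inv_smul_eq_iff] at h5
          exact h5.symm
        · rw [MulAction.mem_stabilizer_iff, mul_smul, htta]
          rw [inv_smul_eq_iff] at h6
          exact h6.symm
        · intro z hz
          have e : g * t * z * (g * t)⁻¹ = g * (t * z) * t⁻¹ * g⁻¹ := by group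
          rw [e, ← hXt z hz]; group
  obtain ⟨g', hg'D, hg'⟩ := step1
  have hg'a : g' • a = a := MulAction.mem_stabilizer_iff.1 (Subgroup.mem_inf.1 hg'D).1
  have hg'ta : g' • t • a = t • a := MulAction.mem_stabilizer_iff.1 (Subgroup.mem_inf.1 hg'D).2
  have hg'ia : g'⁻¹ • a = a := by rw [inv_smul_eq_iff, hg'a]
  have hg'ita : g'⁻¹ • t • a = t • a := by rw [inv_smul_eq_iff, hg'ta]
  -- t' = g'⁻¹ t g' centralizes X
  have ht'X : ∀ z ∈ X, z * (g'⁻¹ * t * g') = (g'⁻¹ * t * g') * z := by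
    intro z hz
    have h1 := hYt z hz
    rw [← hg' z hz] at h1
    have e1 : z * (g'⁻¹ * t * g') = g'⁻¹ * ((g' * z * g'⁻¹) * t) * g' := by group
    rw [e1, h1]; group
  -- k₀ = t t'
  have hk₀D : t * (g'⁻¹ * t * g') ∈ MulAction.stabilizer G a ⊓ MulAction.stabilizer G (t • a) := by
    refine Subgroup.mem_inf.2 ⟨?_, ?_⟩
    · rw [MulAction.mem_stabilizer_iff]
      simp only [mul_smul]
      rw [hg'a, hg'ita, htta]
    · rw [MulAction.mem_stabilizer_iff]
      simp only [mul_smul]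
      rw [hg'ta, htta, hg'ia]
  have hk₀X : ∀ z ∈ X, z * (t * (g'⁻¹ * t * g')) = (t * (g'⁻¹ * t * g')) * z := by
    intro z hz
    rw [← mul_assoc, hXt z hz, mul_assoc, ht'X z hz, ← mul_assoc]
  have ht'2 : (g'⁻¹ * t * g') * (g'⁻¹ * t * g') = 1 := by
    have : (g'⁻¹ * t * g') * (g'⁻¹ * t * g') = g'⁻¹ * (t * t) * g' := by group
    rw [this, htt]; group
  have hk₀inv : t * (t * (g'⁻¹ * t * g')) * t⁻¹ = (t * (g'⁻¹ * t * g'))⁻¹ := by
    rw [mul_inv_rev, hti, inv_eq_of_mul_eq_one_right ht'2]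
    have : t * (t * (g'⁻¹ * t * g')) * t = (t * t) * (g'⁻¹ * t * g') * t := by group
    rw [this, htt, one_mul]
  have hodd : Odd (orderOf (t * (g'⁻¹ * t * g'))) := by
    have h1 := orderOf_dvd_natCard (⟨_, hk₀D⟩ :
      ↥(MulAction.stabilizer G a ⊓ MulAction.stabilizer G (t • a)))
    rw [Subgroup.orderOf_mk] at h1
    exact Odd.of_dvd_nat hS.odd_card h1
  obtain ⟨i, hi⟩ := hodd
  have hkk : (t * (g'⁻¹ * t * g')) ^ (i + 1) * (t * (g'⁻¹ * t * g')) ^ (i + 1) =
      t * (g'⁻¹ * t * g') := by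
    rw [← pow_add]
    have : i + 1 + (i + 1) = orderOf (t * (g'⁻¹ * t * g')) + 1 := by omega
    rw [this, pow_succ, pow_orderOf_eq_one, one_mul]
  have hkinv : t * (t * (g'⁻¹ * t * g')) ^ (i + 1) * t⁻¹ =
      ((t * (g'⁻¹ * t * g')) ^ (i + 1))⁻¹ := by
    rw [← conj_pow, hk₀inv, inv_pow]
  have hkD : (t * (g'⁻¹ * t * g')) ^ (i + 1) ∈
      MulAction.stabilizer G a ⊓ MulAction.stabilizer G (t • a) := pow_mem hk₀D _
  have hkX : ∀ z ∈ X, z * (t * (g'⁻¹ * t * g')) ^ (i + 1) =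
      (t * (g'⁻¹ * t * g')) ^ (i + 1) * z := by
    intro z hz
    have : Commute z (t * (g'⁻¹ * t * g')) := hk₀X z hz
    exact this.pow_right _
  obtain ⟨k, hk⟩ : ∃ k, k = (t * (g'⁻¹ * t * g')) ^ (i + 1) := ⟨_, rfl⟩
  rw [← hk] at hkk hkinv hkD hkX
  have hconj : k⁻¹ * t * k = g'⁻¹ * t * g' := by
    have e1 : k⁻¹ * t * k = t * (t⁻¹ * k⁻¹ * t) * k := by group
    have e2 : t⁻¹ * k⁻¹ * t = k := by
      rw [← hkinv]; group
    rw [e1, e2, mul_assoc, hkk, ← mul_assoc, htt, one_mul]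
  refine ⟨g' * k⁻¹, Subgroup.mem_inf.2 ⟨mul_mem hg'D (inv_mem hkD), ?_⟩, ?_⟩
  · rw [Subgroup.mem_centralizer_singleton_iff]
    have e1 : g' * k⁻¹ * t = g' * (k⁻¹ * t * k) * k⁻¹ := by group
    rw [e1, hconj]; group
  · apply Set.image_congr
    intro z hz
    rw [← hg' z hz]
    have e1 : g' * k⁻¹ * z * (g' * k⁻¹)⁻¹ = g' * k⁻¹ * (z * k) * g'⁻¹ := by group
    rw [e1, hkX z hz]; group

end Cfsg.Agent.S1134
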