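import Cfsg.Statements.S1138
import Cfsg.Agent.Lib.Helper27.SzHigman

set_option autoImplicit false
open Cfsg

namespace Cfsg.Agent.S1138

/-- Let `P` be a Suzuki 2-group with `|Z(P)| = q`. Then every square lies in `Z(P)` and `P/Z(P)` is abelian (so elementary abelian), `|P| = q²` or `|P| = q³`, and `P` has exponent 4. -/
theorem result {P : Type*} [Group P] (hP : Cfsg.IsSuzukiTwoGroup P) :
    (∀ x : P, x * x ∈ Subgroup.center P) ∧ (∀ x y : P, x⁻¹ * y⁻¹ * x * y ∈ Subgroup.center P) ∧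
      (Nat.card P = Nat.card (Subgroup.center P) ^ 2 ∨ Nat.card P = Nat.card (Subgroup.center P) ^ 3) ∧
      Monoid.exponent P = 4 := by
  obtain ⟨h1, h2, h3, h4, h5⟩ := Cfsg.Agent.Lib.Helper27.Sz.higman hP
  refine ⟨h3, ?_, h5, ?_⟩
  · intro x y
    have := h4 x⁻¹ y⁻¹
    rw [commutatorElement_def, inv_inv, inv_inv] at this
    exact this
  · have hpow4 : ∀ x : P, x ^ 4 = 1 := by
      intro x
      have : x ^ 4 = (x * x) * (x * x) := by
        rw [pow_succ, pow_succ, pow_succ, pow_one]; group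
      rw [this]
      exact h2 _ (h3 x)
    have hdvd : Monoid.exponent P ∣ 2 ^ 2 := Monoid.exponent_dvd_of_forall_pow_eq_one hpow4
    obtain ⟨j, hj, hje⟩ := (Nat.dvd_prime_pow Nat.prime_two).mp hdvd
    have hj2 : j = 2 := by
      by_contra hne
      have hj1 : j ≤ 1 := by omega
      have hd2 : Monoid.exponent P ∣ 2 := by
        rw [hje]
        calc 2 ^ j ∣ 2 ^ 1 := pow_dvd_pow 2 hj1
          _ = 2 := pow_one 2
      obtain ⟨-, -, ⟨x, y, hxy⟩, -, -⟩ := hP
      apply hxy
      have hx2 : x ^ 2 = 1 := by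
        obtain ⟨c, hc⟩ := hd2
        rw [hc, pow_mul, Monoid.pow_exponent_eq_one, one_pow]
      rw [pow_two] at hx2
      exact (Subgroup.mem_center_iff.mp (h1 x hx2) y).symm
    rw [hje, hj2]; norm_num

end Cfsg.Agent.S1138
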