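import Cfsg.Statements.S1140

set_option autoImplicit false
open Cfsg

namespace Cfsg.Agent.S1140

theorem part1 {F : Type*} [Field F] :
    LinearIndependent F (fun σ : F ≃+* F => ((σ : F →+* F) : F → F)) := by
  have h := linearIndependent_monoidHom F F
  have hinj : Function.Injective (fun σ : F ≃+* F => ((σ : F →+* F) : F →* F)) := by
    intro σ τ h
    ext x
    exact DFunLike.congr_fun h x
  exact h.comp _ hinj

noncomputable def bas {F : Type*} [Field F] [Fintype F] (alg : Algebra (ZMod 2) F) :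
    Module.Basis (F →ₐ[ZMod 2] F) F (F →ₗ[ZMod 2] F) := by
  classical
  have hfin : FiniteDimensional (ZMod 2) F := Module.Finite.of_finite
  have hli := linearIndependent_toLinearMap (ZMod 2) F F
  have hcard : Fintype.card (F →ₐ[ZMod 2] F) = Module.finrank F (F →ₗ[ZMod 2] F) := by
    rw [Module.finrank_linearMap_self, ← IsGalois.card_aut_eq_finrank (ZMod 2) F,
      Fintype.card_eq_nat_card]
    exact (Nat.card_congr (algEquivEquivAlgHom (ZMod 2) F).toEquiv).symm
  exact basisOfLinearIndependentOfCardEqFinrank hli hcard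

theorem bas_apply {F : Type*} [Field F] [Fintype F] (alg : Algebra (ZMod 2) F)
    (σ : F →ₐ[ZMod 2] F) : bas alg σ = σ.toLinearMap := by
  classical
  unfold bas
  simp

theorem bas_sum {F : Type*} [Field F] [Fintype F] (alg : Algebra (ZMod 2) F)
    (g : F →ₗ[ZMod 2] F) (x : F) :
    g x = ∑ σ, (bas alg).repr g σ * σ x := by
  classical
  have h1 := (bas alg).sum_repr g
  have h2 := congrArg (fun h : F →ₗ[ZMod 2] F => h x) h1
  simp only [LinearMap.sum_apply, LinearMap.smul_apply, bas_apply, AlgHom.toLinearMap_apply,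
    smul_eq_mul] at h2
  exact h2.symm

noncomputable def toRE {F : Type*} [Field F] [Fintype F] (alg : Algebra (ZMod 2) F)
    (σ : F →ₐ[ZMod 2] F) : F ≃+* F :=
  RingEquiv.ofBijective σ.toRingHom ((Finite.injective_iff_bijective).1 σ.toRingHom.injective)

def toAH {F : Type*} [Field F] (alg : Algebra (ZMod 2) F) (τ : F ≃+* F) : F →ₐ[ZMod 2] F :=
  { (τ : F →+* F) with
    commutes' := fun r => by
      have h : ((τ : F →+* F).comp (algebraMap (ZMod 2) F)) = algebraMap (ZMod 2) F :=
        Subsingleton.elim _ _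
      exact DFunLike.congr_fun h r }

noncomputable def EE {F : Type*} [Field F] [Fintype F] (alg : Algebra (ZMod 2) F) :
    (F →ₐ[ZMod 2] F) ≃ (F ≃+* F) where
  toFun := toRE alg
  invFun := toAH alg
  left_inv σ := by ext x; rfl
  right_inv τ := by ext x; rfl

theorem EE_apply {F : Type*} [Field F] [Fintype F] (alg : Algebra (ZMod 2) F)
    (σ : F →ₐ[ZMod 2] F) (x : F) : (EE alg σ) x = σ x := rfl

theorem part2 {F : Type*} [Field F] [Fintype F] [CharP F 2] (f : F →+ F) :
    ∃ (s : Finset (F ≃+* F)) (c : (F ≃+* F) → F), ∀ x : F, f x = ∑ σ ∈ s, c σ * σ x := by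
  classical
  let alg : Algebra (ZMod 2) F := ZMod.algebra F 2
  let _ : Fintype (F ≃+* F) := Fintype.ofEquiv _ (EE alg)
  refine ⟨Finset.univ,
    fun τ => (bas alg).repr (f.toZModLinearMap 2) ((EE alg).symm τ), fun x => ?_⟩
  have h := bas_sum alg (f.toZModLinearMap 2) x
  rw [AddMonoidHom.coe_toZModLinearMap] at h
  rw [h]
  refine Fintype.sum_equiv (EE alg) _ _ fun σ => ?_
  simp [EE_apply]

theorem part3 {F : Type*} [Field F] [Fintype F] [CharP F 2] (B : F →+ F →+ F) :
    ∃ (s : Finset ((F ≃+* F) × (F ≃+* F))) (c : (F ≃+* F) × (F ≃+* F) → F),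
      ∀ x y : F, B x y = ∑ p ∈ s, c p * (p.1 x * p.2 y) := by
  classical
  let alg : Algebra (ZMod 2) F := ZMod.algebra F 2
  let _ : Fintype (F ≃+* F) := Fintype.ofEquiv _ (EE alg)
  let coef : (F →ₐ[ZMod 2] F) → F →+ F := fun τ =>
    AddMonoidHom.mk' (fun x => (bas alg).repr ((B x).toZModLinearMap 2) τ) (by
      intro x y
      have h : (B (x + y)).toZModLinearMap 2
          = (B x).toZModLinearMap 2 + (B y).toZModLinearMap 2 := by
        rw [map_add]
        rfl
      rw [h, map_add, Finsupp.add_apply])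
  have hcoef : ∀ τ x, coef τ x = (bas alg).repr ((B x).toZModLinearMap 2) τ := fun _ _ => rfl
  let d : (F →ₐ[ZMod 2] F) → (F →ₐ[ZMod 2] F) → F := fun τ σ =>
    (bas alg).repr ((coef τ).toZModLinearMap 2) σ
  have hd : ∀ τ x, coef τ x = ∑ σ, d τ σ * σ x := by
    intro τ x
    have h := bas_sum alg ((coef τ).toZModLinearMap 2) x
    rw [AddMonoidHom.coe_toZModLinearMap] at h
    exact h
  refine ⟨Finset.univ, fun p => d ((EE alg).symm p.2) ((EE alg).symm p.1), fun x y => ?_⟩
  have h := bas_sum alg ((B x).toZModLinearMap 2) y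
  rw [AddMonoidHom.coe_toZModLinearMap] at h
  calc B x y = ∑ τ : F →ₐ[ZMod 2] F, ∑ σ : F →ₐ[ZMod 2] F, d τ σ * (σ x * τ y) := by
        rw [h]
        refine Finset.sum_congr rfl fun τ _ => ?_
        rw [← hcoef, hd τ x, Finset.sum_mul]
        refine Finset.sum_congr rfl fun σ _ => ?_
        ring
    _ = ∑ τ' : F ≃+* F, ∑ σ' : F ≃+* F,
          d ((EE alg).symm τ') ((EE alg).symm σ') * (σ' x * τ' y) := by
        refine Fintype.sum_equiv (EE alg) _ _ fun τ => ?_
        refine Fintype.sum_equiv (EE alg) _ _ fun σ => ?_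
        simp [EE_apply]
    _ = ∑ p : (F ≃+* F) × (F ≃+* F),
          d ((EE alg).symm p.2) ((EE alg).symm p.1) * (p.1 x * p.2 y) :=
        (Fintype.sum_prod_type_right (fun p : (F ≃+* F) × (F ≃+* F) =>
          d ((EE alg).symm p.2) ((EE alg).symm p.1) * (p.1 x * p.2 y))).symm

theorem result {F : Type*} [Field F] [Fintype F] [CharP F 2] :
    LinearIndependent F (fun σ : F ≃+* F => ((σ : F →+* F) : F → F)) ∧
      (∀ f : F →+ F, ∃ (s : Finset (F ≃+* F)) (c : (F ≃+* F) → F), ∀ x : F, f x = ∑ σ ∈ s, c σ * σ x) ∧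
      ∀ B : F →+ F →+ F, ∃ (s : Finset ((F ≃+* F) × (F ≃+* F))) (c : (F ≃+* F) × (F ≃+* F) → F),
        ∀ x y : F, B x y = ∑ p ∈ s, c p * (p.1 x * p.2 y) :=
  ⟨part1, part2, part3⟩

end Cfsg.Agent.S1140
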