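import Cfsg.Statements.S1141
import Cfsg.Agent.Lib.helper14.SU3Even

set_option autoImplicit false
open Cfsg

namespace Cfsg.Agent.S1141

open Cfsg.Agent.Lib.helper14 Cfsg.Agent.Lib.helper14.SuzModel

/-- Let `q = 2^n ≥ 4` and `|F| = q²`. A Sylow 2-subgroup `S` of `PSU₃(q)` has order `q³`, its centre has order `q`, and `S` is a Suzuki 2-group. -/
theorem result {F : Type*} [Field F] [Fintype F] {n : ℕ} (hn : 2 ≤ n)
    (hF : Fintype.card F = (2 ^ n) ^ 2) (S : Sylow 2 (Cfsg.PSU 3 F (2 ^ n))) :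
    Nat.card S = (2 ^ n) ^ 3 ∧ Nat.card (Subgroup.center ↥(S : Subgroup (Cfsg.PSU 3 F (2 ^ n)))) = 2 ^ n ∧
      Cfsg.IsSuzukiTwoGroup ↥(S : Subgroup (Cfsg.PSU 3 F (2 ^ n))) := by
  haveI : Fact (Nat.Prime 2) := ⟨Nat.prime_two⟩
  haveI : CharP F 2 := charP_of_card_eq_prime_pow (f := n * 2) (by rw [hF, ← pow_mul])
  obtain ⟨σ, hσ⟩ := Cfsg.Agent.Lib.Lead.exists_frob hF
  haveI : Fact (∀ x, σ (σ x) = x) := ⟨Cfsg.Agent.Lib.Lead.frob_frob hF σ hσ⟩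
  obtain ⟨e⟩ := SU3Even.sylow_equiv n (by omega) rfl hF hσ S
  have hq3 : 3 ≤ 2 ^ n := by
    calc 3 ≤ 2 ^ 2 := by norm_num
      _ ≤ 2 ^ n := Nat.pow_le_pow_right (by norm_num) hn
  refine ⟨?_, ?_, ?_⟩
  · exact (Nat.card_congr e.toEquiv).trans (card_suzP hF hσ)
  · exact (Nat.card_congr (Subgroup.centerCongr e).toEquiv).trans (card_center hF hσ)
  · exact isSuzuki_of_equiv e (isSuzuki hF hσ hq3)

end Cfsg.Agent.S1141
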