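import Cfsg.Statements.S1165
import Cfsg.Agent.Lib.Helper28.RankOne

set_option autoImplicit false
open Cfsg

namespace Cfsg.Agent.S1165

open Cfsg.Agent.Lib.Helper28.RankOne

theorem result {G Ω : Type*} [Group G] [Finite G] [MulAction G Ω] {a : Ω} {t : G} {Q : Subgroup G}
    (hS : Cfsg.IsRankOneSetup G Ω a t Q)
    (x g h f : G) (hx : x ∈ Q) (hx1 : x ≠ 1) (hg : g ∈ Q) (hh : h ∈ (MulAction.stabilizer G a ⊓ MulAction.stabilizer G (t • a))) (hf : f ∈ Q)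
    (heq : t * x * t = g * h * t * f) :
    (∀ g₁ h₁ f₁ : G, g₁ ∈ Q → h₁ ∈ (MulAction.stabilizer G a ⊓ MulAction.stabilizer G (t • a)) → f₁ ∈ Q → t * x⁻¹ * t = g₁ * h₁ * t * f₁ →
        f₁ = g⁻¹ ∧ h₁ = t * h⁻¹ * t) ∧
      (∀ g₂ h₂ f₂ : G, g₂ ∈ Q → h₂ ∈ (MulAction.stabilizer G a ⊓ MulAction.stabilizer G (t • a)) → f₂ ∈ Q → t * f * t = g₂ * h₂ * t * f₂ →
        f₂ = x ∧ h₂ = h⁻¹) ∧
      ∀ c ∈ (MulAction.stabilizer G a ⊓ MulAction.stabilizer G (t • a)), ∀ g₃ h₃ f₃ : G, g₃ ∈ Q → h₃ ∈ (MulAction.stabilizer G a ⊓ MulAction.stabilizer G (t • a)) → f₃ ∈ Q →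
        t * (c⁻¹ * x * c) * t = g₃ * h₃ * t * f₃ →
          f₃ = (t * c * t)⁻¹ * f * (t * c * t) ∧ h₃ = (t * c * t)⁻¹ * h * c := by
  have htt := hS.mul_self
  have hti := t_inv hS
  have hhi : h⁻¹ ∈ MulAction.stabilizer G a ⊓ MulAction.stabilizer G (t • a) :=
    Subgroup.inv_mem _ hh
  refine ⟨?_, ?_, ?_⟩
  · intro g₁ h₁ f₁ hg₁ hh₁ hf₁ e
    have e1 : t * x⁻¹ * t = f⁻¹ * (t * h⁻¹ * t) * t * g⁻¹ := by
      calc t * x⁻¹ * t = t⁻¹ * x⁻¹ * t⁻¹ := by rw [hti]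
        _ = (t * x * t)⁻¹ := by group
        _ = (g * h * t * f)⁻¹ := by rw [heq]
        _ = f⁻¹ * t⁻¹ * h⁻¹ * g⁻¹ := by group
        _ = f⁻¹ * t * h⁻¹ * g⁻¹ := by rw [hti]
        _ = f⁻¹ * t * h⁻¹ * (t * t) * g⁻¹ := by rw [htt, mul_one]
        _ = f⁻¹ * (t * h⁻¹ * t) * t * g⁻¹ := by group
    rw [e1] at e
    obtain ⟨_, h2, h3⟩ := uniq hS _ _ _ _ _ _ (Q.inv_mem hf) (D_conj hS _ hhi) (Q.inv_mem hg)
      hg₁ hh₁ hf₁ e
    exact ⟨h3.symm, h2.symm⟩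
  · intro g₂ h₂ f₂ hg₂ hh₂ hf₂ e
    have e0 : f = t⁻¹ * h⁻¹ * g⁻¹ * (t * x * t) := by
      rw [heq]
      group
    have e1 : t * f * t = (h⁻¹ * g⁻¹ * h) * h⁻¹ * t * x := by
      calc t * f * t = t * (t⁻¹ * h⁻¹ * g⁻¹ * (t * x * t)) * t := by rw [← e0]
        _ = h⁻¹ * g⁻¹ * t * x * (t * t) := by group
        _ = h⁻¹ * g⁻¹ * t * x := by rw [htt, mul_one]
        _ = (h⁻¹ * g⁻¹ * h) * h⁻¹ * t * x := by group
    rw [e1] at e
    obtain ⟨_, h2, h3⟩ := uniq hS _ _ _ _ _ _ (Q_conj' hS h g⁻¹ hh (Q.inv_mem hg)) hhi hx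
      hg₂ hh₂ hf₂ e
    exact ⟨h3.symm, h2.symm⟩
  · intro c hc g₃ h₃ f₃ hg₃ hh₃ hf₃ e
    have hc' := D_conj hS c hc
    have hc'i : (t * c * t)⁻¹ ∈ MulAction.stabilizer G a ⊓ MulAction.stabilizer G (t • a) :=
      Subgroup.inv_mem _ hc'
    have e1 : t * (c⁻¹ * x * c) * t =
        ((t * c * t)⁻¹ * g * (t * c * t)) * ((t * c * t)⁻¹ * h * c) * t *
          ((t * c * t)⁻¹ * f * (t * c * t)) := by
      have ec : t * c⁻¹ * t = (t * c * t)⁻¹ := by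
        calc t * c⁻¹ * t = t⁻¹ * c⁻¹ * t⁻¹ := by rw [hti]
          _ = (t * c * t)⁻¹ := by group
      have ec2 : c * t = t * (t * c * t) := by
        calc c * t = (t * t) * c * t := by rw [htt, one_mul]
          _ = t * (t * c * t) := by group
      calc t * (c⁻¹ * x * c) * t = t * c⁻¹ * (t * t) * x * (t * t) * c * t := by
            rw [htt, mul_one, mul_one]
            group
        _ = (t * c⁻¹ * t) * (t * x * t) * (t * c * t) := by group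
        _ = (t * c * t)⁻¹ * (g * h * t * f) * (t * c * t) := by rw [ec, heq]
        _ = ((t * c * t)⁻¹ * g * (t * c * t)) * ((t * c * t)⁻¹ * h) * (t * (t * c * t)) *
              ((t * c * t)⁻¹ * f * (t * c * t)) := by group
        _ = ((t * c * t)⁻¹ * g * (t * c * t)) * ((t * c * t)⁻¹ * h) * (c * t) *
              ((t * c * t)⁻¹ * f * (t * c * t)) := by rw [← ec2]
        _ = _ := by group
    rw [e1] at e
    have hhc : (t * c * t)⁻¹ * h * c ∈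
        MulAction.stabilizer G a ⊓ MulAction.stabilizer G (t • a) :=
      Subgroup.mul_mem _ (Subgroup.mul_mem _ hc'i hh) hc
    obtain ⟨_, h2, h3⟩ := uniq hS _ _ _ _ _ _ (Q_conj' hS _ g hc' hg) hhc (Q_conj' hS _ f hc' hf)
      hg₃ hh₃ hf₃ e
    exact ⟨h3.symm, h2.symm⟩

end Cfsg.Agent.S1165
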