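import Cfsg.Statements.S1166
import Cfsg.Agent.Lib.Helper28.RankOne

set_option autoImplicit false
open Cfsg

namespace Cfsg.Agent.S1166

open Cfsg.Agent.Lib.Helper28.RankOne

theorem result {G Ω : Type*} [Group G] [Finite G] [MulAction G Ω] {a : Ω} {t : G} {Q : Subgroup G}
    (hS : Cfsg.IsRankOneSetup G Ω a t Q)
    (x y gx hx fx gy hy fy : G) (hxQ : x ∈ Q) (hx1 : x ≠ 1) (hyQ : y ∈ Q) (hy1 : y ≠ 1) (hxy : x * y ≠ 1)
    (hgx : gx ∈ Q) (hhx : hx ∈ (MulAction.stabilizer G a ⊓ MulAction.stabilizer G (t • a))) (hfx : fx ∈ Q) (ex : t * x * t = gx * hx * t * fx)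
    (hgy : gy ∈ Q) (hhy : hy ∈ (MulAction.stabilizer G a ⊓ MulAction.stabilizer G (t • a))) (hfy : fy ∈ Q) (ey : t * y * t = gy * hy * t * fy) :
    fx * gy ≠ 1 ∧
      ∀ gz hz fz g' h' f' : G, gz ∈ Q → hz ∈ (MulAction.stabilizer G a ⊓ MulAction.stabilizer G (t • a)) → fz ∈ Q → t * (fx * gy) * t = gz * hz * t * fz →
        g' ∈ Q → h' ∈ (MulAction.stabilizer G a ⊓ MulAction.stabilizer G (t • a)) → f' ∈ Q → t * (x * y) * t = g' * h' * t * f' →
          f' = (t * hy * t)⁻¹ * fz * (t * hy * t) * fy ∧ h' = hx * hz * hy := by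
  have htt := hS.mul_self
  have hd := D_conj hS hy hhy
  have exy : t * (x * y) * t = gx * hx * t * (fx * gy) * hy * t * fy := by
    calc t * (x * y) * t = t * x * (t * t) * y * t := by
          rw [htt, mul_one]
          group
      _ = (t * x * t) * (t * y * t) := by group
      _ = (gx * hx * t * fx) * (gy * hy * t * fy) := by rw [ex, ey]
      _ = _ := by group
  refine ⟨?_, ?_⟩
  · intro hz1
    rw [hz1, mul_one] at exy
    have hmem : gx * hx * (t * hy * t) * fy ∈ MulAction.stabilizer G a :=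
      Subgroup.mul_mem _ (Subgroup.mul_mem _ (Subgroup.mul_mem _ (hS.le hgx) (D_le hx hhx))
        (D_le _ hd)) (hS.le hfy)
    have e2 : x * y = t * (gx * hx * (t * hy * t) * fy) * t := by
      calc x * y = (t * t) * (x * y) * (t * t) := by rw [htt, one_mul, mul_one]
        _ = t * (t * (x * y) * t) * t := by group
        _ = t * (gx * hx * t * hy * t * fy) * t := by rw [exy]
        _ = _ := by group
    have e3 : x * y ∈ MulAction.stabilizer G (t • a) := by
      rw [e2, MulAction.mem_stabilizer_iff, mul_smul, mul_smul, tt_smul hS,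
        MulAction.mem_stabilizer_iff.mp hmem]
    exact hxy (QD_bot hS _ (Q.mul_mem hxQ hyQ) e3)
  · intro gz hz fz g' h' f' hgz hhz hfz ez hg' hh' hf' e'
    have etd : t * (t * hy * t) = hy * t := by
      calc t * (t * hy * t) = (t * t) * hy * t := by group
        _ = hy * t := by rw [htt, one_mul]
    have e1 : t * (x * y) * t = (gx * (hx * gz * hx⁻¹)) * (hx * hz * hy) * t *
        ((t * hy * t)⁻¹ * fz * (t * hy * t) * fy) := by
      calc t * (x * y) * t = gx * hx * t * (fx * gy) * hy * t * fy := exy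
        _ = gx * hx * t * (fx * gy) * (t * t) * hy * t * fy := by rw [htt, mul_one]
        _ = gx * hx * (t * (fx * gy) * t) * (t * hy * t) * fy := by group
        _ = gx * hx * (gz * hz * t * fz) * (t * hy * t) * fy := by rw [ez]
        _ = gx * hx * gz * hz * (t * (t * hy * t)) *
              ((t * hy * t)⁻¹ * fz * (t * hy * t) * fy) := by group
        _ = gx * hx * gz * hz * (hy * t) *
              ((t * hy * t)⁻¹ * fz * (t * hy * t) * fy) := by rw [etd]
        _ = _ := by group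
    rw [e1] at e'
    have hQ1 : gx * (hx * gz * hx⁻¹) ∈ Q := Q.mul_mem hgx (Q_conj hS hx gz hhx hgz)
    have hD1 : hx * hz * hy ∈ MulAction.stabilizer G a ⊓ MulAction.stabilizer G (t • a) :=
      Subgroup.mul_mem _ (Subgroup.mul_mem _ hhx hhz) hhy
    have hQ2 : (t * hy * t)⁻¹ * fz * (t * hy * t) * fy ∈ Q :=
      Q.mul_mem (Q_conj' hS _ fz hd hfz) hfy
    obtain ⟨_, h2, h3⟩ := uniq hS _ _ _ _ _ _ hQ1 hD1 hQ2 hg' hh' hf' e'
    exact ⟨h3.symm, h2.symm⟩

end Cfsg.Agent.S1166
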