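import Cfsg.Statements.S1167
import Cfsg.Agent.Lib.helper6.ZassFeitF
import Cfsg.Agent.Lib.helper6.ZassInvol
import Cfsg.Agent.Lib.helper6.DegP1C

set_option autoImplicit false
open Cfsg

namespace Cfsg.Agent.S1167

/-- Let `G` be a finite simple Zassenhaus group on `Ω`, `U` a normal subgroup of `G_a` regular on `Ω` minus `a` which is an abelian 2-group, and `v` an involution with `v • a ≠ a`. Then there is a unique `u₀ ∈ U`, `u₀ ≠ 1`, with `v u₀ v = u₀ v u₀`. -/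
theorem result {G Ω : Type*} [Group G] [Finite G] [MulAction G Ω] [Finite Ω]
    (hZ : Cfsg.IsZassenhausGroup G Ω) [IsSimpleGroup G] {a : Ω}
    (U : Subgroup G) (hUle : U ≤ MulAction.stabilizer G a)
    (hUn : ∀ h ∈ MulAction.stabilizer G a, ∀ u ∈ U, h * u * h⁻¹ ∈ U)
    (hreg : ∀ c d : Ω, c ≠ a → d ≠ a → ∃! u : U, (u : G) • c = d)
    (hU2 : IsPGroup 2 U) (hUab : ∀ u ∈ U, ∀ u' ∈ U, u * u' = u' * u)
    (v : G) (hv1 : v ≠ 1) (hv2 : v * v = 1) (hva : v • a ≠ a) :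
    ∃! u₀ : G, u₀ ∈ U ∧ u₀ ≠ 1 ∧ v * u₀ * v = u₀ * v * u₀ := by
  classical
  haveI : Fintype Ω := Fintype.ofFinite Ω
  have D := Cfsg.Agent.Lib.helper6.ZassNormal.ZData.of_zass hZ
  haveI := D.faithful
  obtain ⟨b, hb⟩ : ∃ b, b = v • a := ⟨_, rfl⟩
  have hva' : v • a = b := hb.symm
  have hab : a ≠ b := by rw [hb]; exact Ne.symm hva
  have hvb : v • b = a := by rw [hb, ← mul_smul, hv2, one_smul]
  have Z : Cfsg.Agent.Lib.helper6.ZassPSL3.ZK G Ω a b U :=
    { two := fun h1 h2 => D.two h1 h2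
      three := D.three
      hi0 := hab
      kfix := fun k hk => MulAction.mem_stabilizer_iff.mp (hUle hk)
      kfpf := by
        intro k hk hk1 z hz hkz
        obtain ⟨u, _, huniq⟩ := hreg z z hz hz
        have h1 := huniq ⟨k, hk⟩ hkz
        have h2 := huniq 1 (by simp)
        apply hk1
        have := h1.trans h2.symm
        exact congrArg Subtype.val this
      ktr := by
        intro z w hz hw
        obtain ⟨u, hu, _⟩ := hreg z w hz hw
        exact ⟨u, u.2, hu⟩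
      knorm := by
        intro g hg k hk
        exact hUn g (MulAction.mem_stabilizer_iff.mpr hg) k hk }
  have hcU : Nat.card U + 1 = Fintype.card Ω := Cfsg.Agent.Lib.helper6.ZassFeit.card_KG Z
  haveI : Fact (Nat.Prime 2) := ⟨Nat.prime_two⟩
  obtain ⟨k, hk⟩ := IsPGroup.iff_card.mp hU2
  have he0 : 0 < Nat.card ↥(MulAction.stabilizer G a ⊓ MulAction.stabilizer G b : Subgroup G) :=
    Nat.card_pos
  have hsharp : Fintype.card Ω - 2 =
      Nat.card ↥(MulAction.stabilizer G a ⊓ MulAction.stabilizer G b : Subgroup G) := by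
    rcases Cfsg.Agent.Lib.helper6.ZassFeit.zass_abelian_strong hZ Z hUab with
      ⟨h, -⟩ | ⟨-, K, iK, iKf, hchar, hKc, -⟩
    · exact h
    · exfalso
      have hK : Fintype.card K = 2 ^ k := by omega
      apply hchar
      obtain ⟨n, hpr, hc⟩ := FiniteField.card K (ringChar K)
      have hdvd : ringChar K ∣ 2 ^ k := by
        rw [← hK, hc]
        exact dvd_pow_self _ (PNat.ne_zero n)
      exact (Nat.prime_dvd_prime_iff_eq hpr Nat.prime_two).mp (hpr.dvd_of_dvd_pow hdvd)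
  have hk1 : 1 ≤ k := by
    rcases Nat.eq_zero_or_pos k with h | h
    · rw [h, pow_zero] at hk
      omega
    · exact h
  obtain ⟨k', rfl⟩ : ∃ k', k = k' + 1 := ⟨k - 1, by omega⟩
  have hpow : 1 ≤ 2 ^ k' := Nat.one_le_two_pow
  have hpow2 : 2 ^ (k' + 1) = 2 * 2 ^ k' := by rw [pow_succ]; ring
  have hodd : Odd (Nat.card ↥(MulAction.stabilizer G a ⊓ MulAction.stabilizer G b : Subgroup G)) := by
    rw [← hsharp]
    exact ⟨2 ^ k' - 1, by omega⟩
  have hoddΩ : Odd (Fintype.card Ω) := ⟨2 ^ k', by omega⟩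
  have hcard : ∀ x y : Ω, x ≠ y →
      Nat.card ↥(MulAction.stabilizer G x ⊓ MulAction.stabilizer G y : Subgroup G) + 2 =
        Fintype.card Ω := by
    intro x y hxy
    rw [Cfsg.Agent.Lib.helper6.ZassInvol.card_pair hZ hab hxy]
    omega
  have T3 := Cfsg.Agent.Lib.helper6.DegP1.T3_of_card (fun h1 h2 => D.two h1 h2) D.three hcard
  have hvord : orderOf v = 2 := orderOf_eq_prime (by rw [pow_two]; exact hv2) hv1
  have hfc := Cfsg.Agent.Lib.helper6.ZassInvol.fixed_count hZ hab hodd hvord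
  rw [if_pos hoddΩ] at hfc
  obtain ⟨hsub, ⟨⟨c, hc⟩⟩⟩ := Nat.card_eq_one_iff_unique.mp hfc
  have hvc : v • c = c := hc
  have hca : c ≠ a := by
    rintro rfl
    exact hva hvc
  have hcb : c ≠ b := by
    rintro rfl
    rw [hvb] at hvc
    exact hab hvc
  obtain ⟨u₀, hu₀, hu₀uniq⟩ := hreg b c (Ne.symm hab) hca
  have hu₀b : (u₀ : G) • b = c := hu₀
  have hu₀a : (u₀ : G) • a = a := Z.kfix _ u₀.2
  -- an involution in U
  have h2U : 2 ∣ Nat.card U := by rw [hk, hpow2]; exact dvd_mul_right _ _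
  obtain ⟨u₁, hu₁⟩ := exists_prime_orderOf_dvd_card' 2 h2U
  have hu₁1 : (u₁ : G) ≠ 1 := by
    intro h
    have : u₁ = 1 := Subtype.ext h
    rw [this, orderOf_one] at hu₁
    omega
  have hu₁sq : (u₁ : G) * (u₁ : G) = 1 := by
    have : u₁ ^ 2 = 1 := by rw [← hu₁]; exact pow_orderOf_eq_one u₁
    have h2 := congrArg Subtype.val this
    simpa [pow_two] using h2
  have hc₁a : (u₁ : G) • b ≠ a := Z.ne_of_smul u₁.2 (Ne.symm hab)
  have hc₁b : (u₁ : G) • b ≠ b := Z.kfpf _ u₁.2 hu₁1 b (Ne.symm hab)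
  obtain ⟨h, hha, hhb, hhc⟩ := T3 a b ((u₁ : G) • b) a b c hab (Ne.symm hc₁b) (Ne.symm hc₁a)
    hab (Ne.symm hcb) (Ne.symm hca)
  have hwU : h * (u₁ : G) * h⁻¹ ∈ U := Z.knorm h hha _ u₁.2
  have hwb : (h * (u₁ : G) * h⁻¹) • b = c := by
    have : h⁻¹ • b = b := by rw [inv_smul_eq_iff, hhb]
    rw [mul_smul, mul_smul, this, hhc]
  have hw : (⟨h * (u₁ : G) * h⁻¹, hwU⟩ : U) = u₀ := hu₀uniq ⟨_, hwU⟩ hwb
  have hu₀sq : (u₀ : G) * (u₀ : G) = 1 := by
    rw [← hw]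
    show h * (u₁ : G) * h⁻¹ * (h * (u₁ : G) * h⁻¹) = 1
    calc h * (u₁ : G) * h⁻¹ * (h * (u₁ : G) * h⁻¹) = h * ((u₁ : G) * (u₁ : G)) * h⁻¹ := by group
      _ = 1 := by rw [hu₁sq]; group
  have hu₀c : (u₀ : G) • c = b := by
    rw [← hu₀b, ← mul_smul, hu₀sq, one_smul]
  have hu₀1 : (u₀ : G) ≠ 1 := by
    intro h1
    rw [h1, one_smul] at hu₀b
    exact hcb hu₀b.symm
  refine ⟨(u₀ : G), ⟨u₀.2, hu₀1, ?_⟩, ?_⟩
  · have hg : (u₀ : G) * v * (u₀ : G) * v * (u₀ : G) * v = 1 := by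
      apply D.three _ a b c hab (Ne.symm hcb) (Ne.symm hca)
      · simp only [mul_smul, hva', hu₀b, hvc, hu₀c, hvb, hu₀a]
      · simp only [mul_smul, hva', hu₀b, hvc, hu₀c, hvb, hu₀a]
      · simp only [mul_smul, hva', hu₀b, hvc, hu₀c, hvb, hu₀a]
    have hu₀inv : (u₀ : G)⁻¹ = (u₀ : G) := inv_eq_of_mul_eq_one_right hu₀sq
    have hvinv : v⁻¹ = v := inv_eq_of_mul_eq_one_right hv2
    have h1 : (u₀ : G) * v * (u₀ : G) * (v * (u₀ : G) * v) = 1 := by
      rw [← hg]; group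
    have h2 : v * (u₀ : G) * v = ((u₀ : G) * v * (u₀ : G))⁻¹ := eq_inv_of_mul_eq_one_right h1
    rw [h2, mul_inv_rev, mul_inv_rev, hu₀inv, hvinv, mul_assoc]
  · rintro y ⟨hyU, hy1, hyeq⟩
    have hya : y • a = a := Z.kfix _ hyU
    have h1 : (v * y * v) • a = v • (y • b) := by
      rw [mul_smul, mul_smul, hva']
    have h2 : (y * v * y) • a = y • b := by
      rw [mul_smul, mul_smul, hya, hva']
    rw [hyeq, h2] at h1
    have hfix : y • b ∈ MulAction.fixedBy Ω v := h1.symm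
    have hyc : y • b = c := by
      have := @Subsingleton.elim _ hsub (⟨y • b, hfix⟩ : MulAction.fixedBy Ω v) ⟨c, hc⟩
      exact congrArg Subtype.val this
    have := hu₀uniq ⟨y, hyU⟩ hyc
    exact congrArg Subtype.val this

end Cfsg.Agent.S1167
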