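import Cfsg.Statements.S1168
import Cfsg.Agent.S1140

set_option autoImplicit false
open Cfsg

namespace Cfsg.Agent.S1168

theorem result {F : Type*} [Field F] [Fintype F] [CharP F 2]
    (q : F → F)
    (hq : ∀ x y z : F, q (x + y + z) + q (x + y) + q (x + z) + q (y + z) + q x + q y + q z = 0) :
    ∃ (s : Finset ((F ≃+* F) × (F ≃+* F))) (c : (F ≃+* F) × (F ≃+* F) → F),
      ∀ x : F, q x = ∑ p ∈ s, c p * (p.1 x * p.2 x) := by
  classical
  have h2 : (2 : F) = 0 := CharTwo.two_eq_zero
  have hq0 : q 0 = 0 := by
    have h := hq 0 0 0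
    simp only [add_zero] at h
    linear_combination h - 3 * q 0 * h2
  have hadd : ∀ x y z : F, q (x + y + z) + q (x + y) + q z
      = (q (x + z) + q x + q z) + (q (y + z) + q y + q z) := by
    intro x y z
    linear_combination hq x y z - (q (x + z) + q (y + z) + q x + q y + q z) * h2
  let alg : Algebra (ZMod 2) F := ZMod.algebra F 2
  have hfin : FiniteDimensional (ZMod 2) F := Module.Finite.of_finite
  let b := Module.finBasis (ZMod 2) F
  let a : Fin (Module.finrank (ZMod 2) F) → Fin (Module.finrank (ZMod 2) F) → F := fun i j =>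
    if i < j then q (b i + b j) + q (b i) + q (b j) else if i = j then q (b i) else 0
  let A : F →ₗ[ZMod 2] F →ₗ[ZMod 2] F :=
    b.constr (ZMod 2) (fun i => b.constr (ZMod 2) (fun j => a i j))
  have hA : ∀ i j, A (b i) (b j) = a i j := by
    intro i j
    simp [A]
  let Bx : F → (F →+ F) := fun x =>
    AddMonoidHom.mk' (fun y => q (x + y) + q x + q y) (by
      intro y z
      have h := hadd y z x
      rw [add_comm x (y + z), add_comm x y, add_comm x z]
      linear_combination h)
  have hBx : ∀ x y, Bx x y = q (x + y) + q x + q y := fun _ _ => rfl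
  let Bh : F →+ (F →ₗ[ZMod 2] F) :=
    AddMonoidHom.mk' (fun x => (Bx x).toZModLinearMap 2) (by
      intro x y
      ext z
      simp only [AddMonoidHom.coe_toZModLinearMap, LinearMap.add_apply, hBx]
      exact hadd x y z)
  let Bl : F →ₗ[ZMod 2] F →ₗ[ZMod 2] F := Bh.toZModLinearMap 2
  have hBl : ∀ x y, Bl x y = q (x + y) + q x + q y := fun _ _ => rfl
  have hpolar : Bl = A + A.flip := by
    refine LinearMap.ext_basis b b fun i j => ?_
    rw [LinearMap.add_apply, LinearMap.add_apply, LinearMap.flip_apply, hA, hA, hBl]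
    rcases lt_trichotomy i j with h | h | h
    · have h1 : ¬ j < i := not_lt.2 h.le
      have h3 : j ≠ i := h.ne'
      simp [a, h, h1, h3]
    · subst h
      simp only [a, lt_irrefl, if_false, if_true]
      rw [CharTwo.add_self_eq_zero (b i), hq0]
      ring
    · have h1 : ¬ i < j := not_lt.2 h.le
      have h3 : i ≠ j := h.ne'
      simp only [a, h, h1, h3, if_false, if_true]
      rw [add_comm (b i) (b j)]
      ring
  let g : F →+ F := AddMonoidHom.mk' (fun x => q x + A x x) (by
    intro x y
    have h1 : Bl x y = A x y + A y x := by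
      rw [hpolar]; rfl
    rw [hBl] at h1
    simp only [map_add, LinearMap.add_apply]
    linear_combination h1 + (A x y + A y x - q x - q y) * h2)
  have hg : ∀ x, g x = q x + A x x := fun _ => rfl
  have hg0 : g.toZModLinearMap 2 = 0 := by
    refine b.ext fun i => ?_
    rw [AddMonoidHom.coe_toZModLinearMap, hg, hA]
    simp only [a, lt_irrefl, if_false, if_true, LinearMap.zero_apply]
    exact CharTwo.add_self_eq_zero _
  have hqA : ∀ x, q x = A x x := by
    intro x
    have h := DFunLike.congr_fun hg0 x
    rw [AddMonoidHom.coe_toZModLinearMap, hg, LinearMap.zero_apply] at h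
    exact CharTwo.add_eq_zero.1 h
  let B' : F →+ F →+ F := AddMonoidHom.mk' (fun x => (A x).toAddMonoidHom) (by
    intro x y
    ext z
    simp)
  obtain ⟨s, c, hsc⟩ := Cfsg.Agent.S1140.part3 B'
  refine ⟨s, c, fun x => ?_⟩
  rw [hqA x]
  exact hsc x x

end Cfsg.Agent.S1168
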