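import Cfsg.Statements.S1176
import Cfsg.Agent.Lib.Helper9.Dihedral

set_option autoImplicit false
open Cfsg

namespace Cfsg.Agent.S1176

open Cfsg.Agent.Lib.Helper9
open scoped commutatorElement

theorem result {G : Type*} [Group G] [Finite G] (x₀ : G) (hx₀ : orderOf x₀ = 2) (ha : ∀ x : G, IsConj x₀ x → IsPGroup 2 ↥(Subgroup.closure {y : G | IsConj x₀ y ∧ Commute y x}) ∧ ⁅⁅Subgroup.closure {y : G | IsConj x₀ y ∧ Commute y x}, Subgroup.closure {y : G | IsConj x₀ y ∧ Commute y x}⁆, Subgroup.closure {y : G | IsConj x₀ y ∧ Commute y x}⁆ = ⊥) (hb : ∀ x y : G, IsConj x₀ x → IsConj x₀ y → x ≠ y → Commute x y → IsConj x₀ (x * y)) (x y : G) (hx : IsConj x₀ x) (hy : IsConj x₀ y) (heven : Even (orderOf (x * y))) (hgt : 2 < orderOf (x * y)) : orderOf (x * y) = 4 := by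
  obtain ⟨m, hm⟩ := heven
  have hm0 : 0 < m := by omega
  obtain ⟨cx, hcx⟩ := isConj_iff.1 hx
  obtain ⟨cy, hcy⟩ := isConj_iff.1 hy
  have hx2 : orderOf x = 2 := by rw [← hcx]; exact conj_orderOf_two hx₀ cx
  have hy2 : orderOf y = 2 := by rw [← hcy]; exact conj_orderOf_two hx₀ cy
  have hxi : x⁻¹ = x := inv_eq_self_of_orderOf_two hx2
  have hyi : y⁻¹ = y := inv_eq_self_of_orderOf_two hy2
  have hxx : x * x = 1 := mul_self_of_orderOf_two hx2
  have hyy : y * y = 1 := mul_self_of_orderOf_two hy2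
  obtain ⟨hu1, hu2, hxu, hyu, a, hconj⟩ := dihedral_even_central hx2 hy2 hm0 hm
  set r := x * y with hr
  set u := r ^ m with hu
  have hux : IsConj x₀ (u * x) := by
    rcases hconj with h | h
    · rw [← h, ← hcx]
      exact isConj_iff.2 ⟨a * cx, by group⟩
    · rw [← h, ← hcy]
      exact isConj_iff.2 ⟨a * cy, by group⟩
  have hne : x ≠ u * x := by
    intro h
    apply hu1
    have : 1 * x = u * x := by rw [one_mul]; exact h
    exact (mul_right_cancel this).symm
  have hcomm : Commute x (u * x) := by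
    unfold Commute SemiconjBy
    rw [← mul_assoc, hxu]
  have huD : IsConj x₀ u := by
    have := hb x (u * x) hx hux hne hcomm
    have e : x * (u * x) = u := by
      rw [← mul_assoc, hxu, mul_assoc, hxx, mul_one]
    rwa [e] at this
  obtain ⟨-, hcl⟩ := ha u huD
  set W := Subgroup.closure {y : G | IsConj x₀ y ∧ Commute y u} with hW
  have hxW : x ∈ W := Subgroup.subset_closure ⟨hx, hxu⟩
  have hyW : y ∈ W := Subgroup.subset_closure ⟨hy, hyu⟩
  have h1 : ⁅⁅x, y⁆, y⁆ ∈ ⁅⁅W, W⁆, W⁆ :=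
    Subgroup.commutator_mem_commutator (Subgroup.commutator_mem_commutator hxW hyW) hyW
  rw [hcl, Subgroup.mem_bot] at h1
  have h2 : ⁅⁅x, y⁆, y⁆ = r ^ 4 := by
    rw [commutatorElement_def, commutatorElement_def, hxi, hyi, hr]
    simp only [mul_inv_rev, hxi, hyi]
    simp only [pow_succ, pow_zero, one_mul, mul_assoc]
    have hyy' : ∀ a : G, y * (y * a) = a := fun a => by rw [← mul_assoc, hyy, one_mul]
    rw [hyy']
  rw [h2] at h1
  have h3 : orderOf r ∣ 4 := orderOf_dvd_of_pow_eq_one h1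
  have h4 : orderOf r ≤ 4 := Nat.le_of_dvd (by norm_num) h3
  have : m = 2 := by
    rcases (show m = 2 ∨ m ≠ 2 from by omega) with h | h
    · exact h
    · exfalso
      have hm1 : m = 1 := by omega
      omega
  omega

end Cfsg.Agent.S1176
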