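import Cfsg.Statements.S1177
import Cfsg.Agent.Lib.Helper9.SylowConj

set_option autoImplicit false
open Cfsg

namespace Cfsg.Agent.S1177

open Cfsg.Agent.Lib.Helper9

theorem result {G : Type*} [Group G] [Finite G] (A : Subgroup G) (hA : Cfsg.IsElementaryAbelian 2 A) (hA1 : A ≠ ⊥) (hTI : ∀ g : G, A.map (MulAut.conj g).toMonoidHom ⊓ A = ⊥ ∨ A.map (MulAut.conj g).toMonoidHom = A) (hb : ∀ g : G, (∀ a ∈ A, ∀ b ∈ A.map (MulAut.conj g).toMonoidHom, a * b = b * a) → A.map (MulAut.conj g).toMonoidHom = A) (a : G) (ha : a ∈ A) (ha1 : a ≠ 1) (g : G) (hg : A.map (MulAut.conj g).toMonoidHom ≤ Subgroup.centralizer ({a} : Set G)) : A.map (MulAut.conj g).toMonoidHom = A := by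
  set B := A.map (MulAut.conj g).toMonoidHom with hB
  -- Step 1: B normalizes A
  have h1 : ∀ b ∈ B, ∀ x ∈ A, b * x * b⁻¹ ∈ A := by
    intro b hb' x hx
    have hba : b * a = a * b := by
      have := hg hb'
      rw [Subgroup.mem_centralizer_singleton_iff] at this
      exact this
    have hmem : a ∈ A.map (MulAut.conj b).toMonoidHom ⊓ A := by
      refine Subgroup.mem_inf.2 ⟨?_, ha⟩
      rw [mem_map_conj_iff]
      have : b⁻¹ * a * b = a := by
        calc b⁻¹ * a * b = b⁻¹ * (a * b) := by group
          _ = b⁻¹ * (b * a) := by rw [hba]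
          _ = a := by group
      rw [this]; exact ha
    rcases hTI b with h | h
    · rw [h, Subgroup.mem_bot] at hmem
      exact absurd hmem ha1
    · rw [← h]
      exact ⟨x, hx, by simp [MulAut.conj_apply]⟩
  -- TI property for B
  have hTIB : ∀ c : G, B.map (MulAut.conj c).toMonoidHom ⊓ B = ⊥ ∨ B.map (MulAut.conj c).toMonoidHom = B := by
    intro c
    have e : B.map (MulAut.conj c).toMonoidHom
        = (A.map (MulAut.conj (g⁻¹ * c * g)).toMonoidHom).map (MulAut.conj g).toMonoidHom := by
      rw [hB, ← map_conj_mul, ← map_conj_mul]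
      congr 3; group
    rcases hTI (g⁻¹ * c * g) with h | h
    · left
      rw [e, hB, ← Subgroup.map_inf_eq _ _ _ (MulAut.conj g).injective, h, Subgroup.map_bot]
    · right
      rw [e, h]
  -- Step 2: A normalizes B
  have hcard : Nat.card B = Nat.card A := by
    rw [hB]
    exact Subgroup.card_map_of_injective (MulAut.conj g).injective
  have h2 : ∀ x ∈ A, ∀ b ∈ B, x * b * x⁻¹ ∈ B := by
    intro x hx b hb'
    by_cases hx1 : x = 1
    · subst hx1; simpa using hb'
    -- find nontrivial element of B commuting with x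
    have hex : ∃ c ∈ B, c ≠ 1 ∧ c * x = x * c := by
      by_contra hne
      push Not at hne
      let f : B → A := fun c => ⟨c * x * (c : G)⁻¹, h1 c c.2 x hx⟩
      have hinj : Function.Injective f := by
        intro c d hcd
        have h3 : (c : G) * x * (c : G)⁻¹ = d * x * (d : G)⁻¹ := congrArg Subtype.val hcd
        have h4 : ((d : G)⁻¹ * c) * x = x * ((d : G)⁻¹ * c) := by
          calc ((d : G)⁻¹ * c) * x = (d : G)⁻¹ * ((c : G) * x * (c : G)⁻¹) * c := by group
            _ = (d : G)⁻¹ * (d * x * (d : G)⁻¹) * c := by rw [h3]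
            _ = x * ((d : G)⁻¹ * c) := by group
        have h5 : (d : G)⁻¹ * c = 1 := by
          by_contra h6
          exact hne _ (B.mul_mem (B.inv_mem d.2) c.2) h6 h4
        ext
        have : (c : G) = d * ((d : G)⁻¹ * c) := by group
        rw [this, h5, mul_one]
      have hbij : Function.Bijective f := by
        rw [Nat.bijective_iff_injective_and_card]
        exact ⟨hinj, hcard⟩
      obtain ⟨c, hc⟩ := hbij.2 1
      have h7 : (c : G) * x * (c : G)⁻¹ = 1 := congrArg Subtype.val hc
      apply hx1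
      calc x = (c : G)⁻¹ * ((c : G) * x * (c : G)⁻¹) * c := by group
        _ = 1 := by rw [h7]; group
    obtain ⟨c, hcB, hc1, hcx⟩ := hex
    have hmem : c ∈ B.map (MulAut.conj x).toMonoidHom ⊓ B := by
      refine Subgroup.mem_inf.2 ⟨?_, hcB⟩
      rw [mem_map_conj_iff]
      have : x⁻¹ * c * x = c := by
        calc x⁻¹ * c * x = x⁻¹ * (c * x) := by group
          _ = x⁻¹ * (x * c) := by rw [hcx]
          _ = c := by group
      rw [this]; exact hcB
    rcases hTIB x with h | h
    · rw [h, Subgroup.mem_bot] at hmem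
      exact absurd hmem hc1
    · rw [← h]
      exact ⟨b, hb', by simp [MulAut.conj_apply]⟩
  -- Step 3
  rcases hTI g with h | h
  · apply hb g
    intro x hx b hb'
    have hc : x * b * x⁻¹ * b⁻¹ ∈ B ⊓ A := by
      refine Subgroup.mem_inf.2 ⟨B.mul_mem (h2 x hx b hb') (B.inv_mem hb'), ?_⟩
      have : x * b * x⁻¹ * b⁻¹ = x * (b * x⁻¹ * b⁻¹) := by group
      rw [this]
      exact A.mul_mem hx (h1 b hb' _ (A.inv_mem hx))
    rw [h, Subgroup.mem_bot] at hc
    calc x * b = (x * b * x⁻¹ * b⁻¹) * (b * x) := by group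
      _ = b * x := by rw [hc, one_mul]
  · exact h

end Cfsg.Agent.S1177
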