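import Cfsg.Statements.S1178
import Cfsg.Agent.Lib.Helper9.WeaklyClosed

set_option autoImplicit false
open Cfsg

namespace Cfsg.Agent.S1178

open Cfsg.Agent.Lib.Helper9

theorem result {G : Type*} [Group G] [Finite G] (S : Sylow 2 G) (A : Subgroup G) (hW : Cfsg.IsWeaklyClosed A (S : Subgroup G)) (g : G) (hc : ∀ a ∈ A, ∀ b ∈ A.map (MulAut.conj g).toMonoidHom, a * b = b * a) : A.map (MulAut.conj g).toMonoidHom = A := by
  have hA2 : IsPGroup 2 A := S.2.to_le hW.1
  set B := A.map (MulAut.conj g).toMonoidHom with hB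
  have hB2 : IsPGroup 2 B := hA2.map _
  have hcomm : ∀ a ∈ A, ∀ b ∈ B, Commute a b := fun a ha b hb => hc a ha b hb
  have hR : IsPGroup 2 (A ⊔ B : Subgroup G) := by
    have hBn : B ≤ Subgroup.normalizer (A : Set G) := by
      intro b hb
      rw [Subgroup.mem_normalizer_iff]
      intro a
      constructor
      · intro ha
        have : b * a * b⁻¹ = a := by
          rw [← (hcomm a ha b hb).eq]; group
        rwa [this]
      · intro ha
        have h1 : b⁻¹ * (b * a * b⁻¹) * b = a := by group
        have h2 : Commute (b * a * b⁻¹) b := hcomm _ ha b hb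
        have : a = b * a * b⁻¹ := by
          have := h2.eq
          calc a = b⁻¹ * ((b * a * b⁻¹) * b) := by group
            _ = b⁻¹ * (b * (b * a * b⁻¹)) := by rw [this]
            _ = b * a * b⁻¹ := by group
        rw [this]; exact ha
    exact IsPGroup.to_sup_of_normal_left' hA2 hB2 hBn
  apply weaklyClosed_conj_eq hW (A ⊔ B) hR le_sup_left g
  intro w hw
  exact (le_sup_right : B ≤ A ⊔ B) ⟨w, hw, by simp [MulAut.conj_apply]⟩

end Cfsg.Agent.S1178
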