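import Cfsg.Statements.S1182
import Cfsg.Agent.Lib.Helper9.Isolated

set_option autoImplicit false
open Cfsg

namespace Cfsg.Agent.S1182

open Cfsg.Agent.Lib.Helper9

theorem result {G : Type*} [Group G] [Finite G] (z : G) (hz : Cfsg.IsIsolatedInvolution z) (H : Subgroup G) (hzH : z ∈ Subgroup.normalizer (H : Set G)) (x y : G) (hx : x ∈ H) (hy : y ∈ H) (hxz : Commute x z) (hyz : Commute y z) (h : G) (hh : h ∈ H) (hconj : h * x * h⁻¹ = y) : ∃ c ∈ H, Commute c z ∧ c * x * c⁻¹ = y := by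
  have hz2 := hz.1
  have hzi : z⁻¹ = z := inv_eq_self_of_orderOf_two hz2
  obtain ⟨k, hk⟩ := isolated_conj_by_zpow hz h⁻¹
  rw [inv_inv] at hk
  set w := h⁻¹ * z * h with hw
  set r := z * w with hr
  have hrH : r ∈ H := by
    have h1 : z * h⁻¹ * z⁻¹ ∈ H := by
      rw [Subgroup.mem_normalizer_iff] at hzH
      exact (hzH h⁻¹).1 (Subgroup.inv_mem _ hh)
    have : r = (z * h⁻¹ * z⁻¹) * h := by rw [hr, hw, hzi]; group
    rw [this]
    exact Subgroup.mul_mem _ h1 hh
  have hwx : w * x = x * w := by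
    have := hyz.eq
    rw [← hconj] at this
    calc w * x = h⁻¹ * (z * (h * x * h⁻¹)) * h := by rw [hw]; group
      _ = h⁻¹ * ((h * x * h⁻¹) * z) * h := by rw [this]
      _ = x * w := by rw [hw]; group
  have hrx : Commute r x := by
    unfold Commute SemiconjBy
    rw [hr, mul_assoc, hwx, ← mul_assoc, ← hxz.eq, mul_assoc]
  have hrkx : Commute (r ^ k) x := hrx.zpow_left k
  refine ⟨h * r ^ k, Subgroup.mul_mem _ hh (Subgroup.zpow_mem _ hrH k), ?_, ?_⟩
  · unfold Commute SemiconjBy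
    have : r ^ k * z = w * r ^ k := by rw [← hk]; group
    rw [mul_assoc, this, hw]; group
  · have := hrkx.eq
    calc h * r ^ k * x * (h * r ^ k)⁻¹ = h * (r ^ k * x) * (r ^ k)⁻¹ * h⁻¹ := by group
      _ = h * (x * r ^ k) * (r ^ k)⁻¹ * h⁻¹ := by rw [this]
      _ = h * x * h⁻¹ := by group
      _ = y := hconj

end Cfsg.Agent.S1182
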