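import Cfsg.Statements.S1185
import Cfsg.Agent.Lib.Helper9.Isolated

set_option autoImplicit false
open Cfsg

namespace Cfsg.Agent.S1185

open Cfsg.Agent.Lib.Helper9

theorem result {G : Type*} [Group G] [Finite G] (z : G) (hz : Cfsg.IsIsolatedInvolution z) (g : G) : ∃! k : G, (Odd (orderOf k) ∧ z * k * z⁻¹ = k⁻¹) ∧ g⁻¹ * k ∈ Subgroup.centralizer ({z} : Set G) := by
  have hodd := isolated_mul_conj_odd hz g
  have hz2 := hz.1
  set w := g * z * g⁻¹ with hw
  have hzi : z⁻¹ = z := inv_eq_self_of_orderOf_two hz2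
  have hwi : w⁻¹ = w := inv_conj_eq hz2 g
  have hzz : z * z = 1 := mul_self_of_orderOf_two hz2
  set r := z * w with hr
  have hinv : z * r * z⁻¹ = r⁻¹ := conj_mul_invol hzi hwi
  obtain ⟨j, hj⟩ := hodd
  -- k = r ^ (-(j+1)), so that k * k = r⁻¹ = w * z
  have hrn : r ^ ((j : ℤ) + j + 1) = 1 := by
    have : ((j : ℤ) + j + 1) = ((orderOf r : ℕ) : ℤ) := by rw [hj]; push_cast; ring
    rw [this, zpow_natCast, pow_orderOf_eq_one]
  set k := r ^ (-((j : ℤ) + 1)) with hk
  have hkk : k * k = w * z := by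
    have h1 : k * k = r ^ (-((j : ℤ) + j + 1)) * r⁻¹ := by
      rw [hk, ← zpow_add, ← zpow_neg_one, ← zpow_add]; congr 1
    rw [h1, zpow_neg, hrn, inv_one, one_mul, hr, mul_inv_rev, hzi, hwi]
  have hkinv : z * k * z⁻¹ = k⁻¹ := by
    rw [hk, conj_zpow_invol hinv, ← zpow_neg]
  have hzk : z * k⁻¹ = k * z := by
    have := hkinv
    calc z * k⁻¹ = z * (z * k * z⁻¹) := by rw [this]
      _ = (z * z) * k * z⁻¹ := by group
      _ = k * z := by rw [hzz, one_mul, hzi]
  have hkodd : Odd (orderOf k) := by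
    have hd : orderOf k ∣ orderOf r := by
      rw [hk]; exact orderOf_dvd_of_pow_eq_one (by
        rw [← zpow_natCast, ← zpow_mul, mul_comm, zpow_mul, zpow_natCast, pow_orderOf_eq_one, one_zpow])
    exact Odd.of_dvd_nat ⟨j, hj⟩ hd
  have hkw : k * z * k⁻¹ = w := by
    rw [mul_assoc, hzk, ← mul_assoc, hkk, mul_assoc, hzz, mul_one]
  refine ⟨k, ⟨⟨hkodd, hkinv⟩, ?_⟩, ?_⟩
  · rw [Subgroup.mem_centralizer_singleton_iff]
    have : k * z = w * k := by rw [← hkw]; group
    calc g⁻¹ * k * z = g⁻¹ * (k * z) := by group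
      _ = g⁻¹ * (w * k) := by rw [this]
      _ = z * (g⁻¹ * k) := by rw [hw]; group
  · rintro k' ⟨⟨hk'odd, hk'inv⟩, hk'c⟩
    apply eq_of_sq_eq_of_odd hk'odd hkodd
    rw [hkk]
    rw [Subgroup.mem_centralizer_singleton_iff] at hk'c
    have hzk' : z * k'⁻¹ = k' * z := by
      calc z * k'⁻¹ = z * (z * k' * z⁻¹) := by rw [hk'inv]
        _ = (z * z) * k' * z⁻¹ := by group
        _ = k' * z := by rw [hzz, one_mul, hzi]
    have h5 : k' * z * k'⁻¹ = w := by
      have : k' * z = g * z * g⁻¹ * k' := by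
        calc k' * z = g * (g⁻¹ * k' * z) := by group
          _ = g * (z * (g⁻¹ * k')) := by rw [hk'c]
          _ = g * z * g⁻¹ * k' := by group
      rw [this, hw]; group
    calc k' * k' = k' * k' * (z * z) := by rw [hzz, mul_one]
      _ = k' * (k' * z) * z := by group
      _ = k' * (z * k'⁻¹) * z := by rw [hzk']
      _ = (k' * z * k'⁻¹) * z := by group
      _ = w * z := by rw [h5]

end Cfsg.Agent.S1185
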