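import Cfsg.Statements.S1183
import Cfsg.Agent.S1182
import Cfsg.Agent.S1185
import Cfsg.Agent.Lib.Helper9.Transfer
import Cfsg.Agent.Lib.Helper9.Isolated
import Cfsg.Agent.Lib.Helper13.PResidual
import Cfsg.Agent.Lib.Helper19.TransferTwo

set_option autoImplicit false
open Cfsg

namespace Cfsg.Agent.S1183

open Cfsg.Agent.Lib.Helper9 Cfsg.Agent.Lib.Helper13 Cfsg.Agent.Lib.Helper19

/-- the centralizer of an isolated involution has odd index -/
theorem odd_index_centralizer {G : Type*} [Group G] [Finite G] (z : G)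
    (hz : Cfsg.IsIsolatedInvolution z) : Odd (Subgroup.centralizer ({z} : Set G)).index := by
  have : Fact (Nat.Prime 2) := ⟨Nat.prime_two⟩
  have hz2 := hz.1
  have hzi : z⁻¹ = z := inv_eq_self_of_orderOf_two hz2
  have hzp : IsPGroup 2 (Subgroup.zpowers z) := by
    rw [IsPGroup.iff_card, Nat.card_zpowers, hz2]
    exact ⟨1, by norm_num⟩
  obtain ⟨S, hS⟩ := hzp.exists_le_sylow
  have hzS : z ∈ (S : Subgroup G) := hS (Subgroup.mem_zpowers z)
  have hSC : (S : Subgroup G) ≤ Subgroup.centralizer ({z} : Set G) := by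
    intro s hs
    rw [Subgroup.mem_centralizer_singleton_iff]
    have hodd := isolated_mul_conj_odd hz s
    have hmem : z * (s * z * s⁻¹) ∈ (S : Subgroup G) :=
      Subgroup.mul_mem _ hzS (Subgroup.mul_mem _ (Subgroup.mul_mem _ hs hzS) (Subgroup.inv_mem _ hs))
    obtain ⟨k, hk⟩ := (IsPGroup.iff_orderOf.1 S.2) ⟨_, hmem⟩
    rw [Subgroup.orderOf_mk] at hk
    have h1 : orderOf (z * (s * z * s⁻¹)) = 1 := by
      rcases Nat.eq_zero_or_pos k with rfl | hk0
      · simpa using hk
      · exfalso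
        rw [hk] at hodd
        exact (Nat.not_even_iff_odd.2 hodd) (Nat.even_pow.2 ⟨even_two, hk0.ne'⟩)
    rw [orderOf_eq_one_iff] at h1
    -- z * (s z s⁻¹) = 1 → s z s⁻¹ = z
    have h2 : s * z * s⁻¹ = z := by
      have := eq_inv_of_mul_eq_one_right h1
      rw [hzi] at this
      exact this
    calc s * z = (s * z * s⁻¹) * s := by group
      _ = z * s := by rw [h2]
  have hdvd := Subgroup.index_dvd_of_le hSC
  have hnd : ¬ 2 ∣ (S : Subgroup G).index := S.not_dvd_index
  rw [Nat.odd_iff]
  have : ¬ 2 ∣ (Subgroup.centralizer ({z} : Set G)).index := fun h => hnd (h.trans hdvd)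
  omega

/-- Let z be an isolated involution of the finite group G and C = C_G(z). Then the subgroup of G generated by its elements of odd order is all of G if and only if the subgroup of C generated by its elements of odd order is all of C. -/
theorem result {G : Type*} [Group G] [Finite G] (z : G) (hz : Cfsg.IsIsolatedInvolution z) : Cfsg.pResidual 2 G = ⊤ ↔ Cfsg.pResidual 2 ↥(Subgroup.centralizer ({z} : Set G)) = ⊤ := by
  classical
  have : Fact (Nat.Prime 2) := ⟨Nat.prime_two⟩
  constructor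
  · intro hG
    by_contra hC
    have hn := pResidual_normal' (G := ↥(Subgroup.centralizer ({z} : Set G))) 2
    obtain ⟨c₀, -, hc₀⟩ := SetLike.exists_of_lt (lt_top_iff_ne_top.2 hC)
    have hQ : IsPGroup 2 (↥(Subgroup.centralizer ({z} : Set G)) ⧸
        Cfsg.pResidual 2 ↥(Subgroup.centralizer ({z} : Set G))) := isPGroup_quotient_pResidual 2
    obtain ⟨K, hK⟩ := exists_index_two_of_hom_ne_one hQ (QuotientGroup.mk' _) c₀
      (by
        intro h
        exact hc₀ ((QuotientGroup.eq_one_iff c₀).1 h))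
    have hKtop : K ≠ ⊤ := by
      intro h
      rw [h, Subgroup.index_top] at hK
      omega
    obtain ⟨c, -, hc⟩ := SetLike.exists_of_lt (lt_top_iff_ne_top.2 hKtop)
    have hϕc : signHomOfIndexTwo _ K hK c = -1 := signHomOfIndexTwo_apply_of_not_mem _ K hK c hc
    have key : ∀ (k : ℕ) (g₀ : G) (h : g₀⁻¹ * (c : G) ^ k * g₀ ∈ Subgroup.centralizer ({z} : Set G)),
        signHomOfIndexTwo _ K hK ⟨g₀⁻¹ * (c : G) ^ k * g₀, h⟩ =
          signHomOfIndexTwo _ K hK ⟨(c : G), c.2⟩ ^ k := by
      intro k g₀ h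
      have hck : (c : G) ^ k ∈ Subgroup.centralizer ({z} : Set G) := Subgroup.pow_mem _ c.2 k
      obtain ⟨d, -, hdz, hd⟩ := Cfsg.Agent.S1182.result z hz ⊤ (by rw [Subgroup.normalizer_eq_top]; exact Subgroup.mem_top _)
        ((c : G) ^ k) (g₀⁻¹ * (c : G) ^ k * g₀) (Subgroup.mem_top _) (Subgroup.mem_top _)
        (Subgroup.mem_centralizer_singleton_iff.1 hck) (Subgroup.mem_centralizer_singleton_iff.1 h)
        g₀⁻¹ (Subgroup.mem_top _) (by rw [inv_inv])
      have hdC : d ∈ Subgroup.centralizer ({z} : Set G) :=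
        Subgroup.mem_centralizer_singleton_iff.2 hdz
      have e : (⟨g₀⁻¹ * (c : G) ^ k * g₀, h⟩ : ↥(Subgroup.centralizer ({z} : Set G))) =
          ⟨d, hdC⟩ * ⟨(c : G), c.2⟩ ^ k * ⟨d, hdC⟩⁻¹ := by
        apply Subtype.ext
        simp only [Subgroup.coe_mul, Subgroup.coe_pow, Subgroup.coe_inv]
        exact hd.symm
      rw [e, map_mul, map_mul, map_inv, map_pow, mul_comm, inv_mul_cancel_left]
    have htr := transfer_eq_pow_of_ctrl (signHomOfIndexTwo _ K hK) (c : G) c.2 key
    have hodd := odd_index_centralizer z hz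
    have hcc : (⟨(c : G), c.2⟩ : ↥(Subgroup.centralizer ({z} : Set G))) = c := rfl
    rw [hcc, hϕc, Odd.neg_one_pow hodd] at htr
    -- the kernel of the transfer contains all odd order elements
    have hker : Cfsg.pResidual 2 G ≤ (MonoidHom.transfer (signHomOfIndexTwo _ K hK)).ker := by
      rw [show Cfsg.pResidual 2 G = Subgroup.closure {g : G | Nat.Coprime (orderOf g) 2} from rfl,
        Subgroup.closure_le]
      intro g hg
      have hg' : Nat.Coprime (orderOf g) 2 := hg
      rw [SetLike.mem_coe, MonoidHom.mem_ker]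
      have h1 : (MonoidHom.transfer (signHomOfIndexTwo _ K hK) g) ^ orderOf g = 1 := by
        rw [← map_pow, pow_orderOf_eq_one, map_one]
      have h2 : (MonoidHom.transfer (signHomOfIndexTwo _ K hK) g) ^ 2 = 1 := by
        rcases Int.units_eq_one_or (MonoidHom.transfer (signHomOfIndexTwo _ K hK) g) with h | h <;>
          rw [h] <;> simp
      have h3 := orderOf_dvd_of_pow_eq_one h1
      have h4 := orderOf_dvd_of_pow_eq_one h2
      have h5 := Nat.eq_one_of_dvd_coprimes hg' h3 h4
      exact orderOf_eq_one_iff.1 h5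
    have hmem : (c : G) ∈ Cfsg.pResidual 2 G := by rw [hG]; exact Subgroup.mem_top _
    have := MonoidHom.mem_ker.1 (hker hmem)
    rw [htr] at this
    exact absurd this (by decide)
  · intro hC
    rw [eq_top_iff]
    intro g _
    obtain ⟨k, ⟨⟨hk1, -⟩, hk2⟩, -⟩ := Cfsg.Agent.S1185.result z hz g
    have hkmem : k ∈ Cfsg.pResidual 2 G := by
      apply mem_pResidual_of_coprime
      exact hk1.coprime_two_right
    have hle : (Cfsg.pResidual 2 ↥(Subgroup.centralizer ({z} : Set G))).map
        (Subgroup.centralizer ({z} : Set G)).subtype ≤ Cfsg.pResidual 2 G := by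
      rw [show Cfsg.pResidual 2 ↥(Subgroup.centralizer ({z} : Set G)) =
          Subgroup.closure {g : ↥(Subgroup.centralizer ({z} : Set G)) | Nat.Coprime (orderOf g) 2} from rfl,
        show Cfsg.pResidual 2 G = Subgroup.closure {g : G | Nat.Coprime (orderOf g) 2} from rfl,
        MonoidHom.map_closure]
      apply Subgroup.closure_mono
      rintro _ ⟨y, hy, rfl⟩
      have hy' : Nat.Coprime (orderOf y) 2 := hy
      show Nat.Coprime (orderOf (y : G)) 2
      rwa [Subgroup.orderOf_coe]
    have hcmem : g⁻¹ * k ∈ Cfsg.pResidual 2 G := by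
      apply hle
      refine ⟨⟨g⁻¹ * k, hk2⟩, ?_, rfl⟩
      rw [hC]; exact Subgroup.mem_top _
    have : g = k * (g⁻¹ * k)⁻¹ := by group
    rw [this]
    exact Subgroup.mul_mem _ hkmem (Subgroup.inv_mem _ hcmem)

end Cfsg.Agent.S1183
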