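import Cfsg.Statements.S1184
import Cfsg.Agent.Lib.Helper9.Isolated

set_option autoImplicit false
open Cfsg

namespace Cfsg.Agent.S1184

open Cfsg.Agent.Lib.Helper9

theorem result {G : Type*} [Group G] [Finite G] (z : G) (hz : Cfsg.IsIsolatedInvolution z) (g h : G) (hne : g * z * g⁻¹ ≠ h * z * h⁻¹) : ¬ Commute (g * z * g⁻¹ * (h * z * h⁻¹)) z := by
  intro hcomm
  set s := g * z * g⁻¹ with hs
  set t := h * z * h⁻¹ with ht
  have hsiso : Cfsg.IsIsolatedInvolution s := isolated_conj hz g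
  have hs2 : orderOf s = 2 := hsiso.1
  have ht2 : orderOf t = 2 := conj_orderOf_two hz.1 h
  have hsi : s⁻¹ = s := inv_eq_self_of_orderOf_two hs2
  have hti : t⁻¹ = t := inv_eq_self_of_orderOf_two ht2
  have hss : s * s = 1 := mul_self_of_orderOf_two hs2
  have hzz : z * z = 1 := mul_self_of_orderOf_two hz.1
  have hzi : z⁻¹ = z := inv_eq_self_of_orderOf_two hz.1
  have htconj : t = (h * g⁻¹) * s * (h * g⁻¹)⁻¹ := by rw [hs, ht]; group
  set x := s * t with hx
  have hxodd : Odd (orderOf x) := by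
    have := isolated_mul_conj_odd hsiso (h * g⁻¹)
    rwa [← htconj] at this
  have hsx : s * x * s⁻¹ = x⁻¹ := conj_mul_invol hsi hti
  -- z is conjugate to s by a power of r = z * s
  obtain ⟨k, hk⟩ := isolated_conj_by_zpow hz g
  rw [← hs] at hk
  set r := z * s with hr
  -- r inverts x
  have hrx : r * x * r⁻¹ = x⁻¹ := by
    have h1 : z * x⁻¹ * z⁻¹ = x⁻¹ := by
      have := hcomm.eq
      have h2 : z * x * z⁻¹ = x := by rw [← this]; group
      calc z * x⁻¹ * z⁻¹ = (z * x * z⁻¹)⁻¹ := by group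
        _ = x⁻¹ := by rw [h2]
    calc r * x * r⁻¹ = z * (s * x * s⁻¹) * z⁻¹ := by rw [hr]; group
      _ = x⁻¹ := by rw [hsx, h1]
  have hrk : ∀ n : ℤ, r ^ n * x * (r ^ n)⁻¹ = x ∨ r ^ n * x * (r ^ n)⁻¹ = x⁻¹ := by
    intro n
    have hmem : r ∈ centOrInv x := Or.inr hrx
    exact Subgroup.zpow_mem _ hmem n
  -- s commutes with x or x⁻¹, hence with x
  have hsc : s * x * s⁻¹ = x := by
    have hzx : z * x * z⁻¹ = x := by rw [← hcomm.eq]; group
    have key : s * (r ^ k * x * (r ^ k)⁻¹) * s⁻¹ = r ^ k * x * (r ^ k)⁻¹ := by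
      rw [← hk]
      calc r ^ k * z * (r ^ k)⁻¹ * (r ^ k * x * (r ^ k)⁻¹) * (r ^ k * z * (r ^ k)⁻¹)⁻¹
          = r ^ k * (z * x * z⁻¹) * (r ^ k)⁻¹ := by group
        _ = r ^ k * x * (r ^ k)⁻¹ := by rw [hzx]
    rcases hrk k with h1 | h1
    · rw [h1] at key; exact key
    · rw [h1] at key
      calc s * x * s⁻¹ = (s * x⁻¹ * s⁻¹)⁻¹ := by group
        _ = x := by rw [key, inv_inv]
  have hx1 : x * x = 1 := by
    have : x = x⁻¹ := hsc.symm.trans hsx
    calc x * x = x * x⁻¹ := by rw [← this]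
      _ = 1 := mul_inv_cancel x
  have hxe : x = 1 := by
    apply eq_of_sq_eq_of_odd hxodd (by simp)
    rw [hx1, one_mul]
  apply hne
  have : s * t = 1 := hxe
  calc s = s * (s * t) := by rw [this, mul_one]
    _ = (s * s) * t := by group
    _ = t := by rw [hss, one_mul]

end Cfsg.Agent.S1184
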