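import Mathlib
import Cfsg.Statements.S1186
import Cfsg.Agent.Lib.Helper10.IsoInv4

set_option autoImplicit false
open Cfsg

namespace Cfsg.Agent.S1186

open Cfsg.Agent.Lib.Helper10.IsoInv

theorem result {G : Type*} [Group G] [Finite G] (z : G) (hz : Cfsg.IsIsolatedInvolution z) (s : G) (hs : orderOf s = 2) (hsz : Commute s z) : Nat.card G = Nat.card (Subgroup.centralizer ({z} : Set G)) * Nat.card {k : G // Odd (orderOf k) ∧ z * k * z⁻¹ = k⁻¹ ∧ Commute k (s * z)} * Nat.card {k : G // Odd (orderOf k) ∧ z * k * z⁻¹ = k⁻¹ ∧ Commute k s} := by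
  have hszz : Commute (s * z) z := hsz.mul_left (Commute.refl z)
  rw [card_inverted_eq_fix hz hszz, card_inverted_eq_fix hz hsz, card_eq_centralizer_mul_cls z,
    card_cls hz hs hsz]
  ring

end Cfsg.Agent.S1186
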