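import Cfsg.Statements.S1189
import Cfsg.Agent.Lib.Helper9.QD4

set_option autoImplicit false
open Cfsg

namespace Cfsg.Agent.S1189

open Cfsg.Agent.Lib.Helper9

/-- A quasi-dihedral 2-group has exactly two conjugacy classes of elements of order 2 and exactly two conjugacy classes of elements of order 4. -/
theorem result {S : Type*} [Group S] [Finite S] (hS : Cfsg.IsQuasiDihedral S) : Nat.card {C : ConjClasses S // ∃ t : S, orderOf t = 2 ∧ ConjClasses.mk t = C} = 2 ∧ Nat.card {C : ConjClasses S // ∃ t : S, orderOf t = 4 ∧ ConjClasses.mk t = C} = 2 := by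
  classical
  obtain ⟨D⟩ := exists_qd hS
  constructor
  · apply card_subtype_eq_two _ (ConjClasses.mk D.z) (ConjClasses.mk (D.Y 0))
    · intro h
      rw [ConjClasses.mk_eq_mk_iff_isConj, isConj_iff] at h
      obtain ⟨c, hc⟩ := h
      have h1 : c * D.z * c⁻¹ = D.z := by rw [D.z_central c]; group
      rw [h1] at hc
      exact D.Y_ne_X 0 D.u hc.symm
    · exact ⟨D.z, D.orderOf_z, rfl⟩
    · exact ⟨D.Y 0, (D.orderOf_two_iff _).mpr (Or.inr ⟨0, D.ev_zero, rfl⟩), rfl⟩
    · rintro C ⟨t, ht, rfl⟩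
      rcases (D.orderOf_two_iff t).mp ht with rfl | ⟨i, hi, rfl⟩
      · left; rfl
      · right
        rw [ConjClasses.mk_eq_mk_iff_isConj]
        apply IsConj.symm
        apply D.isConj_Y
        rwa [sub_zero]
  · apply card_subtype_eq_two _ (ConjClasses.mk (D.X D.v)) (ConjClasses.mk (D.Y 1))
    · intro h
      rw [ConjClasses.mk_eq_mk_iff_isConj] at h
      exact D.not_isConj_X_Y _ _ h
    · exact ⟨D.X D.v, (D.orderOf_four_iff _).mpr (Or.inl rfl), rfl⟩
    · exact ⟨D.Y 1, (D.orderOf_four_iff _).mpr (Or.inr (Or.inr ⟨1, D.not_ev_one, rfl⟩)), rfl⟩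
    · rintro C ⟨t, ht, rfl⟩
      rcases (D.orderOf_four_iff t).mp ht with rfl | rfl | ⟨i, hi, rfl⟩
      · left; rfl
      · left
        rw [ConjClasses.mk_eq_mk_iff_isConj]
        apply IsConj.symm
        exact D.isConj_X_neg D.v D.u_mul_v
      · right
        rw [ConjClasses.mk_eq_mk_iff_isConj]
        apply IsConj.symm
        apply D.isConj_Y
        obtain ⟨j, rfl⟩ := D.odd_form hi
        exact ⟨j, by ring⟩

end Cfsg.Agent.S1189
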