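import Cfsg.Statements.S1192
import Cfsg.Agent.Lib.Helper9.QD3
import Cfsg.Agent.S0206

set_option autoImplicit false
open Cfsg

namespace Cfsg.Agent.S1192

open Cfsg.Agent.Lib.Helper9

/-- A quasi-dihedral group S of order 2^(n+1) has exactly three maximal subgroups; one is cyclic, one is isomorphic to the generalized quaternion group of order 2^n and one to the dihedral group of order 2^n. -/
theorem result {S : Type*} [Group S] [Finite S] (hS : Cfsg.IsQuasiDihedral S) (n : ℕ) (hn : Nat.card S = 2 ^ (n + 1)) : ∃ M₁ M₂ M₃ : Subgroup S, IsCoatom M₁ ∧ IsCoatom M₂ ∧ IsCoatom M₃ ∧ M₁ ≠ M₂ ∧ M₁ ≠ M₃ ∧ M₂ ≠ M₃ ∧ (∀ M : Subgroup S, IsCoatom M → M = M₁ ∨ M = M₂ ∨ M = M₃) ∧ IsCyclic M₁ ∧ Nonempty (M₂ ≃* QuaternionGroup (2 ^ (n - 2))) ∧ Nonempty (M₃ ≃* DihedralGroup (2 ^ (n - 1))) := by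
  classical
  obtain ⟨D⟩ := exists_qd hS
  have hnD : n = D.n := by
    have h1 := D.card
    rw [hn] at h1
    have h2 := Nat.pow_right_injective (le_refl 2) h1
    omega
  subst hnD
  have hn3 := D.hn
  have h1ne : ¬ D.Ev 1 := D.not_ev_one
  have hX1_M2 : D.X 1 ∉ D.M2 := fun h => h1ne ((D.X_mem_M2 1).mp h)
  have hX1_M3 : D.X 1 ∉ D.M3 := fun h => h1ne ((D.X_mem_M3 1).mp h)
  have hX1_M1 : D.X 1 ∈ Subgroup.zpowers D.x := D.X_mem_zpowers 1
  have hY1_M2 : D.Y 1 ∈ D.M2 := (D.Y_mem_M2 1).mpr h1ne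
  have hY1_M3 : D.Y 1 ∉ D.M3 := fun h => h1ne ((D.Y_mem_M3 1).mp h)
  have hEle : ∀ M : Subgroup S, IsCoatom M → D.E ≤ M := by
    intro M hM
    rw [← D.frattini_eq]
    exact frattini_le_coatom hM
  refine ⟨Subgroup.zpowers D.x, D.M2, D.M3, D.isCoatom_zpowers_x, D.isCoatom_M2, D.isCoatom_M3,
    ?_, ?_, ?_, ?_, inferInstance, ?_, ?_⟩
  · intro h; exact hX1_M2 (h ▸ hX1_M1)
  · intro h; exact hX1_M3 (h ▸ hX1_M1)
  · intro h; exact hY1_M3 (h ▸ hY1_M2)
  · intro M hM
    have hidx : M.index = 2 := Cfsg.Agent.Lib.Helper1.pgroup_coatom_index D.isPGroup hM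
    have hE := hEle M hM
    by_cases hx : D.X 1 ∈ M
    · left
      have hle : Subgroup.zpowers D.x ≤ M := by
        rw [Subgroup.zpowers_le, ← D.X_one]; exact hx
      rcases eq_or_lt_of_le hle with h | h
      · exact h.symm
      · exact absurd (D.isCoatom_zpowers_x.2 M h) hM.1
    · right
      by_cases hy : D.Y 0 ∈ M
      · right
        have hle : D.M3 ≤ M := by
          rintro g (⟨i, hi, rfl⟩ | ⟨i, hi, rfl⟩)
          · exact hE ((D.X_mem_E i).mpr hi)
          · have : D.Y i = D.X i * D.Y 0 := by rw [D.X_mul_Y, add_zero]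
            rw [this]
            exact M.mul_mem (hE ((D.X_mem_E i).mpr hi)) hy
        rcases eq_or_lt_of_le hle with h | h
        · exact h.symm
        · exact absurd (D.isCoatom_M3.2 M h) hM.1
      · left
        have hy1 : D.Y 1 ∈ M := by
          have : D.Y 1 = D.X 1 * D.Y 0 := by rw [D.X_mul_Y, add_zero]
          rw [this, Subgroup.mul_mem_iff_of_index_two hidx]
          exact iff_of_false hx hy
        have hle : D.M2 ≤ M := by
          rintro g (⟨i, hi, rfl⟩ | ⟨i, hi, rfl⟩)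
          · exact hE ((D.X_mem_E i).mpr hi)
          · obtain ⟨j, rfl⟩ := D.odd_form hi
            have : D.Y (2 * j + 1) = D.X (2 * j) * D.Y 1 := by rw [D.X_mul_Y]
            rw [this]
            exact M.mul_mem (hE ((D.X_mem_E _).mpr (D.ev_two_mul j))) hy1
        rcases eq_or_lt_of_le hle with h | h
        · exact h.symm
        · exact absurd (D.isCoatom_M2.2 M h) hM.1
  · -- quaternion
    have hord : orderOf (D.X 2) = 2 * 2 ^ (D.n - 2) := by
      have h1 := D.card_E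
      rw [D.E_eq_zpowers, Nat.card_zpowers] at h1
      rw [h1, ← pow_succ']
      congr 1
      omega
    have hw : D.Y 1 * D.Y 1 = (D.X 2) ^ (2 ^ (D.n - 2)) := by
      rw [D.Y_sq, D.X_pow, mul_one]
      congr 1
      have : ((2 ^ (D.n - 2) : ℕ) : ZMod D.N) = D.v := rfl
      rw [this, mul_comm, D.two_v]
    have hwt : D.Y 1 * D.X 2 * (D.Y 1)⁻¹ = (D.X 2)⁻¹ := by
      rw [D.Y_conj_X, ← D.X_neg]
      congr 1
      rw [D.ρ_eq]
      linear_combination D.two_u
    obtain ⟨Q, hQcard, htQ, hwQ, hQiso⟩ :=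
      Cfsg.Agent.Lib.helper14.exists_quaternion_subgroup (2 ^ (D.n - 2)) Nat.one_le_two_pow
        (D.X 2) (D.Y 1) hord hw hwt
    have hle : D.M2 ≤ Q := by
      rintro g (⟨i, ⟨j, rfl⟩, rfl⟩ | ⟨i, hi, rfl⟩)
      · have : D.X (2 * j) = (D.X 2) ^ j.val := by
          rw [D.X_pow, ZMod.natCast_zmod_val, mul_comm]
        rw [this]
        exact Q.pow_mem htQ _
      · obtain ⟨j, rfl⟩ := D.odd_form hi
        have h1 : D.Y (2 * j + 1) = D.X (2 * j) * D.Y 1 := by rw [D.X_mul_Y]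
        have h2 : D.X (2 * j) = (D.X 2) ^ j.val := by
          rw [D.X_pow, ZMod.natCast_zmod_val, mul_comm]
        rw [h1, h2]
        exact Q.mul_mem (Q.pow_mem htQ _) hwQ
    have hQtop : Q ≠ ⊤ := by
      intro h
      rw [h, Subgroup.card_top, D.card] at hQcard
      have h3 : 4 * 2 ^ (D.n - 2) = 2 ^ D.n := by
        have : D.n = (D.n - 2) + 2 := by omega
        conv_rhs => rw [this, pow_add]
        ring
      rw [h3, pow_succ] at hQcard
      have : 0 < 2 ^ D.n := by positivity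
      omega
    have hQeq : D.M2 = Q := by
      rcases eq_or_lt_of_le hle with h | h
      · exact h
      · exact absurd (D.isCoatom_M2.2 Q h) hQtop
    rw [hQeq]
    exact hQiso
  · rw [D.M3_eq_closure]
    have h0 : orderOf (D.Y 0) = 2 := (D.orderOf_two_iff _).mpr (Or.inr ⟨0, D.ev_zero, rfl⟩)
    have h2 : orderOf (D.Y 2) = 2 := (D.orderOf_two_iff _).mpr (Or.inr ⟨2, ⟨1, by ring⟩, rfl⟩)
    have hne : D.Y 0 ≠ D.Y 2 := by
      intro h
      have h3 := D.Y_inj h
      apply D.u_ne_zero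
      rw [← D.two_v]
      have h4 : (2 : ZMod D.N) * D.v = D.v * 2 := by ring
      rw [h4, ← h3, mul_zero]
    have hord : orderOf (D.Y 0 * D.Y 2) = 2 ^ (D.n - 1) := by
      have : D.Y 0 * D.Y 2 = D.X (2 * D.ρ) := by
        rw [D.Y_mul_Y]; congr 1; ring
      rw [this, D.orderOf_X_two_ρ]
    have := Cfsg.Agent.S0206.result (D.Y 0) (D.Y 2) h0 h2 hne
    rw [hord] at this
    exact this

end Cfsg.Agent.S1192
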