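import Cfsg.Statements.S1193
import Cfsg.Agent.Lib.Helper9.QD3
import Cfsg.Agent.S0206

set_option autoImplicit false
open Cfsg

namespace Cfsg.Agent.S1193

open Cfsg.Agent.Lib.Helper9

/-- Let S be quasi-dihedral of order 2^(n+1). Then S' = Φ(S) is cyclic of order 2^(n-1), the centre of S has order 2, and the subgroup generated by the involutions of S is dihedral of order 2^n. -/
theorem result {S : Type*} [Group S] [Finite S] (hS : Cfsg.IsQuasiDihedral S) (n : ℕ) (hn : Nat.card S = 2 ^ (n + 1)) : commutator S = frattini S ∧ IsCyclic (commutator S) ∧ Nat.card (commutator S) = 2 ^ (n - 1) ∧ Nat.card (Subgroup.center S) = 2 ∧ Nonempty (↥(Subgroup.closure {x : S | orderOf x = 2}) ≃* DihedralGroup (2 ^ (n - 1))) := by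
  classical
  obtain ⟨D⟩ := exists_qd hS
  have hnD : n = D.n := by
    have h1 := D.card
    rw [hn] at h1
    have h2 := Nat.pow_right_injective (le_refl 2) h1
    omega
  subst hnD
  refine ⟨by rw [D.commutator_eq, D.frattini_eq], ?_, ?_, D.card_center, ?_⟩
  · rw [D.commutator_eq]; exact D.isCyclic_E
  · rw [D.commutator_eq, D.card_E]
  · rw [D.closure_involutions, D.M3_eq_closure]
    have h0 : orderOf (D.Y 0) = 2 := (D.orderOf_two_iff _).mpr (Or.inr ⟨0, D.ev_zero, rfl⟩)
    have h2 : orderOf (D.Y 2) = 2 := (D.orderOf_two_iff _).mpr (Or.inr ⟨2, ⟨1, by ring⟩, rfl⟩)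
    have hne : D.Y 0 ≠ D.Y 2 := by
      intro h
      have h3 := D.Y_inj h
      apply D.u_ne_zero
      have := D.u_mul_v
      rw [← D.two_v]
      have h4 : (2 : ZMod D.N) * D.v = D.v * 2 := by ring
      rw [h4, ← h3, mul_zero]
    have hord : orderOf (D.Y 0 * D.Y 2) = 2 ^ (D.n - 1) := by
      have : D.Y 0 * D.Y 2 = D.X (2 * D.ρ) := by
        rw [D.Y_mul_Y]; congr 1; ring
      rw [this, D.orderOf_X_two_ρ]
    have := Cfsg.Agent.S0206.result (D.Y 0) (D.Y 2) h0 h2 hne
    rw [hord] at this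
    exact this

end Cfsg.Agent.S1193
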