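import Cfsg.Statements.S1194
import Cfsg.Agent.Lib.Helper9.QD3

set_option autoImplicit false
open Cfsg

namespace Cfsg.Agent.S1194

open Cfsg.Agent.Lib.Helper9

/-- In a quasi-dihedral 2-group S, every proper normal subgroup is either a maximal subgroup or a cyclic subgroup contained in the derived subgroup S'. -/
theorem result {S : Type*} [Group S] [Finite S] (hS : Cfsg.IsQuasiDihedral S) (N : Subgroup S) [N.Normal] (hN : N ≠ ⊤) : IsCoatom N ∨ (IsCyclic N ∧ N ≤ commutator S) := by
  classical
  obtain ⟨D⟩ := exists_qd hS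
  have hn3 := D.hn
  by_cases hNC : N ≤ Subgroup.zpowers D.x
  · -- inside the cyclic maximal subgroup
    by_cases hNE : N ≤ D.E
    · right
      refine ⟨Subgroup.isCyclic_of_le hNC, ?_⟩
      rw [D.commutator_eq]; exact hNE
    · left
      obtain ⟨g, hgN, hgE⟩ := SetLike.not_le_iff_exists.mp hNE
      obtain ⟨i, rfl⟩ := (D.mem_zpowers_iff g).mp (hNC hgN)
      have hi : ¬ D.Ev i := fun h => hgE ((D.X_mem_E i).mpr h)
      -- X i has order 2^n
      have hord : orderOf (D.X i) = 2 ^ D.n := by
        have h1 : orderOf (D.X i) ∣ 2 ^ D.n := by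
          apply orderOf_dvd_of_pow_eq_one
          rw [D.X_pow]
          have : ((2 ^ D.n : ℕ) : ZMod D.N) = 0 := by
            rw [ZMod.natCast_eq_zero_iff]
            exact dvd_refl _
          rw [this, zero_mul, D.X_zero]
        obtain ⟨k, hk, hk2⟩ := (Nat.dvd_prime_pow Nat.prime_two).mp h1
        rcases Nat.lt_or_ge k D.n with hlt | hge
        · exfalso
          have h2 : (D.X i) ^ (2 ^ (D.n - 1)) = 1 := by
            apply orderOf_dvd_iff_pow_eq_one.mp
            rw [hk2]
            exact pow_dvd_pow 2 (by omega)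
          rw [D.X_pow] at h2
          have h3 : ((2 ^ (D.n - 1) : ℕ) : ZMod D.N) * i = D.u := D.u_mul_of_not_ev hi
          rw [h3] at h2
          exact D.z_ne_one h2
        · have : k = D.n := le_antisymm hk hge
          rw [hk2, this]
      have hle : Subgroup.zpowers D.x ≤ N := by
        have h1 : Subgroup.zpowers (D.X i) ≤ Subgroup.zpowers D.x := by
          rw [Subgroup.zpowers_le]; exact D.X_mem_zpowers i
        have h2 : Subgroup.zpowers (D.X i) = Subgroup.zpowers D.x := by
          apply Subgroup.eq_of_le_of_card_ge h1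
          rw [Nat.card_zpowers, Nat.card_zpowers, hord, D.hx]
        rw [← h2, Subgroup.zpowers_le]
        exact hgN
      have : N = Subgroup.zpowers D.x := le_antisymm hNC hle
      rw [this]
      exact D.isCoatom_zpowers_x
  · left
    obtain ⟨g, hgN, hgC⟩ := SetLike.not_le_iff_exists.mp hNC
    rcases D.cases g with ⟨i, rfl⟩ | ⟨i, rfl⟩
    · exact absurd (D.X_mem_zpowers i) hgC
    · have hconj : ∀ j : ZMod D.N, D.Y (i + 2 * j) ∈ N := by
        intro j
        obtain ⟨k, hk⟩ := D.conj_even j
        rw [← hk, ← D.X_conj_Y]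
        exact ‹N.Normal›.conj_mem _ hgN _
      have hXe : ∀ j : ZMod D.N, D.X (2 * (D.ρ * j)) ∈ N := by
        intro j
        have h1 : D.X (D.u * i + 2 * (D.ρ * j)) ∈ N := by
          have : D.X (D.u * i + 2 * (D.ρ * j)) = D.Y i * D.Y (i + 2 * j) := by
            rw [D.Y_mul_Y]; congr 1; rw [D.ρ_eq]; ring
          rw [this]
          exact N.mul_mem hgN (hconj j)
        have h0 : D.X (D.u * i) ∈ N := by
          have : D.X (D.u * i) = D.Y i * D.Y i := by rw [D.Y_sq]
          rw [this]
          exact N.mul_mem hgN hgN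
        have h2 : D.X (2 * (D.ρ * j)) ∈ N := by
          have : D.X (2 * (D.ρ * j)) = (D.X (D.u * i))⁻¹ * D.X (D.u * i + 2 * (D.ρ * j)) := by
            rw [← D.X_neg, ← D.X_add]; congr 1; ring
          rw [this]
          exact N.mul_mem (N.inv_mem h0) h1
        exact h2
      have hXe' : ∀ j : ZMod D.N, D.X (2 * j) ∈ N := by
        intro j
        have := hXe (D.ρ * j)
        have e : 2 * (D.ρ * (D.ρ * j)) = 2 * j := by linear_combination (2 * j) * D.ρ_sq
        rwa [e] at this
      by_cases hi : D.Ev i
      · have hle : D.M3 ≤ N := by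
          rintro g (⟨a, ⟨j, rfl⟩, rfl⟩ | ⟨a, ⟨j, rfl⟩, rfl⟩)
          · exact hXe' j
          · obtain ⟨b, rfl⟩ := hi
            have := hconj (j - b)
            have e : 2 * b + 2 * (j - b) = 2 * j := by ring
            rwa [e] at this
        rcases eq_or_lt_of_le hle with h | h
        · rw [← h]; exact D.isCoatom_M3
        · exact absurd (D.isCoatom_M3.2 N h) hN
      · have hle : D.M2 ≤ N := by
          rintro g (⟨a, ⟨j, rfl⟩, rfl⟩ | ⟨a, ha, rfl⟩)
          · exact hXe' j
          · obtain ⟨b, rfl⟩ := D.odd_form hi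
            obtain ⟨c, rfl⟩ := D.odd_form ha
            have := hconj (c - b)
            have e : 2 * b + 1 + 2 * (c - b) = 2 * c + 1 := by ring
            rwa [e] at this
        rcases eq_or_lt_of_le hle with h | h
        · rw [← h]; exact D.isCoatom_M2
        · exact absurd (D.isCoatom_M2.2 N h) hN

end Cfsg.Agent.S1194
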