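import Cfsg.Statements.S1195
import Cfsg.Agent.Lib.Helper9.Wr2

set_option autoImplicit false
open Cfsg

namespace Cfsg.Agent.S1195

open Cfsg.Agent.Lib.Helper9

/-- A wreathed 2-group has exactly three conjugacy classes of elements of order 2. -/
theorem result {S : Type*} [Group S] [Finite S] (hS : Cfsg.IsWreathed S) : Nat.card {C : ConjClasses S // ∃ t : S, orderOf t = 2 ∧ ConjClasses.mk t = C} = 3 := by
  classical
  obtain ⟨D⟩ := exists_wd hS
  apply card_subtype_eq_three _ (ConjClasses.mk (D.A D.u D.u)) (ConjClasses.mk (D.A D.u 0))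
    (ConjClasses.mk (D.B 0 0))
  · intro h
    rw [ConjClasses.mk_eq_mk_iff_isConj, D.isConj_A_iff] at h
    rcases h with ⟨-, h⟩ | ⟨h, -⟩
    · exact D.u_ne_zero h
    · exact D.u_ne_zero h
  · intro h
    rw [ConjClasses.mk_eq_mk_iff_isConj] at h
    exact D.not_isConj_A_B _ _ _ _ h
  · intro h
    rw [ConjClasses.mk_eq_mk_iff_isConj] at h
    exact D.not_isConj_A_B _ _ _ _ h
  · exact ⟨_, (D.orderOf_two_iff _).mpr (Or.inl rfl), rfl⟩
  · exact ⟨_, (D.orderOf_two_iff _).mpr (Or.inr (Or.inl rfl)), rfl⟩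
  · refine ⟨_, (D.orderOf_two_iff _).mpr (Or.inr (Or.inr (Or.inr ⟨0, ?_⟩))), rfl⟩
    rw [neg_zero]
  · rintro C ⟨t, ht, rfl⟩
    rcases (D.orderOf_two_iff t).mp ht with rfl | rfl | rfl | ⟨i, rfl⟩
    · left; rfl
    · right; left; rfl
    · right; left
      rw [ConjClasses.mk_eq_mk_iff_isConj]
      exact D.isConj_A_swap _ _
    · right; right
      rw [ConjClasses.mk_eq_mk_iff_isConj]
      exact (D.isConj_B_z i).symm

end Cfsg.Agent.S1195
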