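import Cfsg.Statements.S1197
import Cfsg.Agent.Lib.Helper9.Wr3
import Cfsg.Agent.S0206

set_option autoImplicit false
open Cfsg

namespace Cfsg.Agent.S1197

open Cfsg.Agent.Lib.Helper9

/-- Let S be a wreathed 2-group of order 2^(2n+1). Then Z(S) is cyclic of order 2^n, the derived subgroup S' is cyclic of order 2^n, and S/Z(S) is isomorphic to the dihedral group of order 2^(n+1). -/
theorem result {S : Type*} [Group S] [Finite S] (hS : Cfsg.IsWreathed S) (n : ℕ) (hn : Nat.card S = 2 ^ (2 * n + 1)) : IsCyclic (Subgroup.center S) ∧ Nat.card (Subgroup.center S) = 2 ^ n ∧ IsCyclic (commutator S) ∧ Nat.card (commutator S) = 2 ^ n ∧ Nonempty (S ⧸ Subgroup.center S ≃* DihedralGroup (2 ^ n)) := by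
  classical
  obtain ⟨D⟩ := exists_wd hS
  have hnD : n = D.n := by
    have h1 := D.card
    rw [hn] at h1
    have h2 := Nat.pow_right_injective (le_refl 2) h1
    omega
  subst hnD
  refine ⟨?_, D.card_center, ?_, ?_, ?_⟩
  · rw [D.center_eq]; infer_instance
  · rw [D.commutator_eq, D.Dg_eq_zpowers]; infer_instance
  · rw [D.commutator_eq, D.card_Dg]
  · have hker : ∀ g : S, (QuotientGroup.mk' (Subgroup.center S)) g = 1 ↔ g ∈ Subgroup.center S := by
      intro g
      exact QuotientGroup.eq_one_iff g
    set π := QuotientGroup.mk' (Subgroup.center S) with hπ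
    have hBnc : ∀ i j, D.B i j ∉ Subgroup.center S := by
      intro i j h
      obtain ⟨k, hk⟩ := (D.mem_center_iff _).mp h
      exact D.B_ne_A _ _ _ _ hk
    have ha : orderOf (π (D.B 0 0)) = 2 := by
      rw [orderOf_eq_prime_iff]
      constructor
      · rw [← map_pow, pow_two, D.B_mul_B, add_zero, D.A_zero, map_one]
      · intro h
        exact hBnc 0 0 ((hker _).mp h)
    have hb : orderOf (π (D.B 1 0)) = 2 := by
      rw [orderOf_eq_prime_iff]
      constructor
      · rw [← map_pow, pow_two, D.B_mul_B, hker, D.mem_center_iff]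
        exact ⟨1, by congr 1 <;> ring⟩
      · intro h
        exact hBnc 1 0 ((hker _).mp h)
    have hab : π (D.B 0 0) ≠ π (D.B 1 0) := by
      intro h
      have h1 : π ((D.B 0 0)⁻¹ * D.B 1 0) = 1 := by
        rw [map_mul, map_inv, h, inv_mul_cancel]
      rw [hker, D.B_inv, D.B_mul_B, D.mem_center_iff] at h1
      obtain ⟨k, hk⟩ := h1
      have := D.A_inj hk
      apply D.one_ne_zero'
      linear_combination this.2 - this.1
    have hord : orderOf (π (D.B 0 0) * π (D.B 1 0)) = 2 ^ D.n := by
      have h1 : π (D.B 0 0) * π (D.B 1 0) = π (D.A 0 1) := by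
        rw [← map_mul, D.B_mul_B]
        congr 2 <;> ring
      rw [h1]
      apply orderOf_eq_of_pow_and_pow_div_prime (by positivity)
      · rw [← map_pow, D.A_pow, hker, D.mem_center_iff]
        refine ⟨0, ?_⟩
        congr 1
        · ring
        · have : ((2 ^ D.n : ℕ) : ZMod D.N) = 0 := D.natCast_N
          rw [this]; ring
      · intro p hp hdvd
        have hp2 : p = 2 :=
          (Nat.prime_dvd_prime_iff_eq hp Nat.prime_two).mp (hp.dvd_of_dvd_pow hdvd)
        rw [hp2, ← map_pow, D.A_pow]
        intro h2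
        rw [hker, D.mem_center_iff] at h2
        obtain ⟨k, hk⟩ := h2
        have h3 := D.A_inj hk
        have h4 : ((2 ^ D.n / 2 : ℕ) : ZMod D.N) = D.u := D.natCast_half
        rw [h4] at h3
        apply D.u_ne_zero
        linear_combination h3.2 - h3.1
    have e := Cfsg.Agent.S0206.result (π (D.B 0 0)) (π (D.B 1 0)) ha hb hab
    rw [hord] at e
    obtain ⟨e⟩ := e
    have hcard : Nat.card (Subgroup.closure ({π (D.B 0 0), π (D.B 1 0)} : Set (S ⧸ Subgroup.center S))) =
        Nat.card (S ⧸ Subgroup.center S) := by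
      rw [Nat.card_congr e.toEquiv, DihedralGroup.nat_card]
      have h1 := (Subgroup.center S).card_mul_index
      rw [D.card_center, D.card] at h1
      have h2 : (Subgroup.center S).index = 2 * 2 ^ D.n := by
        have h3 : 2 ^ (2 * D.n + 1) = 2 ^ D.n * (2 * 2 ^ D.n) := by
          rw [show 2 * D.n + 1 = D.n + (1 + D.n) by ring, pow_add, pow_add]; ring
        rw [h3] at h1
        exact Nat.eq_of_mul_eq_mul_left (by positivity) h1
      rw [← Subgroup.index_eq_card, h2]
    have htop : Subgroup.closure ({π (D.B 0 0), π (D.B 1 0)} : Set (S ⧸ Subgroup.center S)) = ⊤ :=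
      Subgroup.eq_top_of_card_eq _ hcard
    exact ⟨(Subgroup.topEquiv.symm.trans (MulEquiv.subgroupCongr htop.symm)).trans e⟩

end Cfsg.Agent.S1197
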