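import Cfsg.Statements.S1198
import Cfsg.Agent.Lib.Helper9.Wr5

set_option autoImplicit false
open Cfsg

namespace Cfsg.Agent.S1198

open Cfsg.Agent.Lib.Helper9

/-- A wreathed 2-group S has a normal Klein four-subgroup T such that every Klein four-subgroup of S other than T is conjugate in S to any other such subgroup; in particular S has exactly two conjugacy classes of Klein four-subgroups. -/
theorem result {S : Type*} [Group S] [Finite S] (hS : Cfsg.IsWreathed S) : ∃ T : Subgroup S, IsKleinFour T ∧ T.Normal ∧ (∃ T₀ : Subgroup S, IsKleinFour T₀ ∧ T₀ ≠ T) ∧ ∀ T₁ T₂ : Subgroup S, IsKleinFour T₁ → IsKleinFour T₂ → T₁ ≠ T → T₂ ≠ T → ∃ s : S, T₁.map (MulAut.conj s).toMonoidHom = T₂ := by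
  classical
  obtain ⟨D⟩ := exists_wd hS
  refine ⟨D.T, D.isKleinFour_T, D.T_normal, ⟨D.K 0, D.isKleinFour_K 0, ?_⟩, ?_⟩
  · intro h
    have h1 : D.B 0 (-0) ∈ D.K 0 := (D.B_mem_K _ _ _).mpr ⟨rfl, by ring⟩
    rw [h] at h1
    exact D.B_notMem_T _ _ h1
  · intro T₁ T₂ h₁ h₂ hne₁ hne₂
    obtain ⟨i₁, rfl⟩ := (D.klein_cases T₁ h₁).resolve_left hne₁
    obtain ⟨i₂, rfl⟩ := (D.klein_cases T₂ h₂).resolve_left hne₂
    refine ⟨D.A (i₂ - i₁) 0, ?_⟩
    rw [D.map_conj_K]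
    congr 1
    ring

end Cfsg.Agent.S1198
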