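import Cfsg.Statements.S1199
import Cfsg.Agent.Lib.Helper9.Wr8

set_option autoImplicit false
open Cfsg

namespace Cfsg.Agent.S1199

open Cfsg.Agent.Lib.Helper9

/-- A wreathed 2-group S of order 2^(2n+1) has exactly one subgroup of order 2^(n+1) isomorphic to a generalized quaternion group, and that subgroup is normal in S. -/
theorem result {S : Type*} [Group S] [Finite S] (hS : Cfsg.IsWreathed S) (n : ℕ) (hn : Nat.card S = 2 ^ (2 * n + 1)) : (∃! Y : Subgroup S, Nat.card Y = 2 ^ (n + 1) ∧ Nonempty (Y ≃* QuaternionGroup (2 ^ (n - 1)))) ∧ ∀ Y : Subgroup S, Nat.card Y = 2 ^ (n + 1) → Nonempty (Y ≃* QuaternionGroup (2 ^ (n - 1))) → Y.Normal := by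
  classical
  obtain ⟨D⟩ := exists_wd hS
  have hnD : n = D.n := by
    have h1 := D.card
    rw [hn] at h1
    have h2 := Nat.pow_right_injective (le_refl 2) h1
    omega
  subst hnD
  have huniq : ∀ Y : Subgroup S, Nat.card Y = 2 ^ (D.n + 1) →
      Nonempty (Y ≃* QuaternionGroup (2 ^ (D.n - 1))) → Y = D.Qs := by
    rintro Y hYc ⟨e⟩
    rcases Nat.lt_or_ge D.n 3 with h | h
    · have h2 : D.n = 2 := by have := D.hn; omega
      have hm : 2 ^ (D.n - 1) = 2 := by rw [h2]; norm_num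
      have hYc8 : Nat.card Y = 8 := by rw [hYc, h2]; norm_num
      obtain ⟨e2⟩ : Nonempty (Y ≃* QuaternionGroup 2) :=
        Eq.mp (congrArg (fun k => Nonempty (↥Y ≃* QuaternionGroup k)) hm) ⟨e⟩
      obtain ⟨c, hcU, hord, hP⟩ := D.exists_c_eq2 Y hYc8 e2
      apply D.quat_unique_of_c Y hYc c hcU
      · rw [hord]; unfold WD.N; rw [h2]; norm_num
      · intro g hg
        rcases hP g hg with h | ⟨h1, h2'⟩
        · left; exact h
        · right
          refine ⟨h1, ?_⟩
          rw [hm, pow_two]; exact h2'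
    · obtain ⟨c, hcU, hord, hP⟩ := D.exists_c_ge3 h Y hYc e
      exact D.quat_unique_of_c Y hYc c hcU hord hP
  refine ⟨⟨D.Qs, ⟨D.card_Qs, D.Qs_iso⟩, fun Y hY => huniq Y hY.1 hY.2⟩, ?_⟩
  intro Y hYc hYe
  rw [huniq Y hYc hYe]
  exact D.Qs_normal

end Cfsg.Agent.S1199
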