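import Cfsg.Statements.S1201
import Cfsg.Agent.Lib.Helper9.Wr4

set_option autoImplicit false
open Cfsg

namespace Cfsg.Agent.S1201

open Cfsg.Agent.Lib.Helper9

/-- If X is a non-commutative subgroup of a wreathed 2-group S, then Z(X) ≤ Z(S). -/
theorem result {S : Type*} [Group S] [Finite S] (hS : Cfsg.IsWreathed S) (X : Subgroup S) (hX : ¬ IsMulCommutative X) : (Subgroup.center X).map X.subtype ≤ Subgroup.center S := by
  classical
  obtain ⟨D⟩ := exists_wd hS
  intro c hc
  rw [Subgroup.mem_map] at hc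
  obtain ⟨q, hq, rfl⟩ := hc
  rw [Subgroup.mem_center_iff] at hq
  have hcomm : ∀ g ∈ X, g * (q : S) = (q : S) * g := by
    intro g hg
    exact congrArg Subtype.val (hq ⟨g, hg⟩)
  -- X contains a B-type element
  have hexB : ∃ i j, D.B i j ∈ X := by
    by_contra hcon
    push Not at hcon
    apply hX
    refine ⟨⟨fun a b => ?_⟩⟩
    apply Subtype.ext
    rcases D.cases a.1 with ⟨i, j, ha⟩ | ⟨i, j, ha⟩
    · rcases D.cases b.1 with ⟨k, l, hb⟩ | ⟨k, l, hb⟩
      · show (a : S) * (b : S) = (b : S) * (a : S)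
        rw [ha, hb, D.A_mul_A, D.A_mul_A]; congr 1 <;> ring
      · exact absurd (hb ▸ b.2) (hcon k l)
    · exact absurd (ha ▸ a.2) (hcon i j)
  obtain ⟨i, j, hB⟩ := hexB
  rcases D.cases (q : S) with ⟨a, b, hqa⟩ | ⟨a, b, hqa⟩
  · show (q : S) ∈ Subgroup.center S
    rw [hqa, D.mem_center_iff]
    have h1 := hcomm _ hB
    rw [hqa, D.B_mul_A, D.A_mul_B] at h1
    have h2 := D.B_inj h1
    refine ⟨a, ?_⟩
    congr 1
    linear_combination h2.1
  · exfalso
    apply hX
    have hform : ∀ g ∈ X, (∃ k, g = D.A k k) ∨ (∃ k l, k - l = a - b ∧ g = D.B k l) := by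
      intro g hg
      have h1 := hcomm g hg
      rw [hqa] at h1
      rcases D.cases g with ⟨k, l, rfl⟩ | ⟨k, l, rfl⟩
      · left
        rw [D.A_mul_B, D.B_mul_A] at h1
        have h2 := D.B_inj h1
        refine ⟨k, ?_⟩
        congr 1
        linear_combination -h2.1
      · right
        rw [D.B_mul_B, D.B_mul_B] at h1
        have h2 := D.A_inj h1
        exact ⟨k, l, by linear_combination h2.1, rfl⟩
    refine ⟨⟨fun g h => ?_⟩⟩
    apply Subtype.ext
    show (g : S) * (h : S) = (h : S) * (g : S)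
    rcases hform g.1 g.2 with ⟨k, hg⟩ | ⟨k, l, hkl, hg⟩
    · have : (g : S) ∈ Subgroup.center S := by
        rw [hg, D.mem_center_iff]; exact ⟨k, rfl⟩
      rw [Subgroup.mem_center_iff] at this
      exact (this _).symm
    · rcases hform h.1 h.2 with ⟨k', hh⟩ | ⟨k', l', hkl', hh⟩
      · have : (h : S) ∈ Subgroup.center S := by
          rw [hh, D.mem_center_iff]; exact ⟨k', rfl⟩
        rw [Subgroup.mem_center_iff] at this
        exact this _
      · rw [hg, hh, D.B_mul_B, D.B_mul_B]
        congr 1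
        · linear_combination hkl - hkl'
        · linear_combination hkl' - hkl

end Cfsg.Agent.S1201
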