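import Cfsg.Statements.S1204
import Cfsg.Agent.Lib.Helper9.QDF11

set_option autoImplicit false
open Cfsg

namespace Cfsg.Agent.S1204

open Cfsg.Agent.Lib.Helper9

/-- Let G be a finite group with quasi-dihedral Sylow 2-subgroup S, T a Klein four-subgroup and Q a quaternion subgroup of order 8 of S, with |N_G(T) : C_G(T)| = 6 and |N_G(Q) : Q C_G(Q)| = 6. Then G has no subgroup of index 2, exactly one conjugacy class of involutions and exactly one conjugacy class of elements of order 4. -/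
theorem result {G : Type*} [Group G] [Finite G] (S : Sylow 2 G) (hS : Cfsg.IsQuasiDihedral (S : Subgroup G)) (T : Subgroup G) (hT : IsKleinFour T) (hTS : T ≤ S) (Q : Subgroup G) (hQS : Q ≤ S) (eQ : Q ≃* QuaternionGroup 2) (h₁ : (Subgroup.centralizer (T : Set G)).relIndex (Subgroup.normalizer (T : Set G)) = 6) (h₂ : (Q ⊔ Subgroup.centralizer (Q : Set G)).relIndex (Subgroup.normalizer (Q : Set G)) = 6) : (∀ H : Subgroup G, H.index ≠ 2) ∧ Nat.card {C : ConjClasses G // ∃ t : G, orderOf t = 2 ∧ ConjClasses.mk t = C} = 1 ∧ Nat.card {C : ConjClasses G // ∃ t : G, orderOf t = 4 ∧ ConjClasses.mk t = C} = 1 := by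
  classical
  obtain ⟨D⟩ := exists_qd hS
  obtain ⟨a, hQ⟩ := qsetup_of_iso (S : Subgroup G) D Q hQS eQ
  obtain ⟨-, -, hk3, -, -⟩ := klein_index (S : Subgroup G) D T hT hTS
  obtain ⟨i, hi, n, hn⟩ := hk3 h₁
  obtain ⟨-, -, hq3⟩ := hQ.index_cases
  obtain ⟨j, hj, m, hm⟩ := hq3 h₂
  have hzY := isConj_z_Y0 D hi hn
  have hxY := isConj_xv_Y1 D hj hm
  have hinv : ∀ t : G, orderOf t = 2 → IsConj t ((D.z : ↥(S : Subgroup G)) : G) := by
    intro t ht
    rcases invol_cases S D t ht with h | h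
    · exact h
    · exact h.trans hzY.symm
  have hfour : ∀ t : G, orderOf t = 4 → IsConj t ((D.X D.v : ↥(S : Subgroup G)) : G) := by
    intro t ht
    rcases order4_cases S D t ht with h | h
    · exact h
    · exact h.trans hxY.symm
  have hoz : orderOf ((D.z : ↥(S : Subgroup G)) : G) = 2 := by
    rw [Subgroup.orderOf_coe]; exact D.orderOf_z
  refine ⟨?_, card_classes_eq_one 2 _ hoz hinv, card_classes_eq_one 4 _ hQ.orderOf_xv hfour⟩
  intro H hH
  have hN : H.Normal := Subgroup.normal_of_index_eq_two hH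
  have hsq : ∀ g : G, g * g ∈ H := fun g => Subgroup.mul_self_mem_of_index_two hH g
  have hz : ((D.z : ↥(S : Subgroup G)) : G) ∈ H := by
    have e : D.z = D.Y 1 * D.Y 1 := by
      have := D.Y_sq_odd 0
      simpa using this.symm
    rw [e]
    exact hsq _
  have hxv : ((D.X D.v : ↥(S : Subgroup G)) : G) ∈ H := by
    have e : D.X D.v = D.X D.w * D.X D.w := by
      rw [← D.X_add, ← D.two_w]; congr 1; ring
    rw [e]
    exact hsq _
  have hmem : ∀ t g₀ : G, g₀ ∈ H → IsConj t g₀ → t ∈ H := by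
    intro t g₀ hg₀ hc
    obtain ⟨c, hc⟩ := isConj_iff.mp hc.symm
    rw [← hc]
    exact hN.conj_mem g₀ hg₀ c
  have hY0 : ((D.Y 0 : ↥(S : Subgroup G)) : G) ∈ H := by
    apply hmem _ _ hz
    apply hinv
    rw [Subgroup.orderOf_coe]
    exact (D.orderOf_two_iff _).mpr (Or.inr ⟨0, D.ev_zero, rfl⟩)
  have hY1 : ((D.Y 1 : ↥(S : Subgroup G)) : G) ∈ H := by
    apply hmem _ _ hxv
    apply hfour
    rw [Subgroup.orderOf_coe]
    exact D.orderOf_Y_odd D.not_ev_one
  have hle : (S : Subgroup G) ≤ H := le_of_index_two D H hY0 hY1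
  have hdvd := Subgroup.index_dvd_of_le hle
  rw [hH] at hdvd
  exact S.not_dvd_index hdvd

end Cfsg.Agent.S1204
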