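import Cfsg.Statements.S1205
import Cfsg.Agent.Lib.Helper9.QDF19

set_option autoImplicit false
open Cfsg

namespace Cfsg.Agent.S1205

open Cfsg.Agent.Lib.Helper9

/-- Let G be a finite group with quasi-dihedral Sylow 2-subgroup S, T a Klein four-subgroup and Q a quaternion subgroup of order 8 of S, with |N_G(T) : C_G(T)| = 2 and |N_G(Q) : Q C_G(Q)| = 6. Then G has a normal subgroup K of index 2 whose Sylow 2-subgroups are generalized quaternion and which has no subgroup of index 2; the centre of S is weakly closed in S; and G has exactly two classes of involutions and one class of elements of order 4. -/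
theorem result {G : Type*} [Group G] [Finite G] (S : Sylow 2 G) (hS : Cfsg.IsQuasiDihedral (S : Subgroup G)) (T : Subgroup G) (hT : IsKleinFour T) (hTS : T ≤ S) (Q : Subgroup G) (hQS : Q ≤ S) (eQ : Q ≃* QuaternionGroup 2) (h₁ : (Subgroup.centralizer (T : Set G)).relIndex (Subgroup.normalizer (T : Set G)) = 2) (h₂ : (Q ⊔ Subgroup.centralizer (Q : Set G)).relIndex (Subgroup.normalizer (Q : Set G)) = 6) : (∃ K : Subgroup G, K.Normal ∧ K.index = 2 ∧ (∀ P : Sylow 2 ↥K, ∃ m : ℕ, 1 ≤ m ∧ Nonempty ((P : Subgroup ↥K) ≃* QuaternionGroup (2 ^ m))) ∧ (∀ H : Subgroup ↥K, H.index ≠ 2)) ∧ Cfsg.IsWeaklyClosed ((Subgroup.center (S : Subgroup G)).map (S : Subgroup G).subtype) (S : Subgroup G) ∧ Nat.card {C : ConjClasses G // ∃ t : G, orderOf t = 2 ∧ ConjClasses.mk t = C} = 2 ∧ Nat.card {C : ConjClasses G // ∃ t : G, orderOf t = 4 ∧ ConjClasses.mk t = C} = 1 := by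
  classical
  haveI : Fact (Nat.Prime 2) := ⟨Nat.prime_two⟩
  obtain ⟨D⟩ := exists_qd hS
  obtain ⟨a, hQ⟩ := qsetup_of_iso (S : Subgroup G) D Q hQS eQ
  have hz : ¬ IsConj ((D.z : ↥(S : Subgroup G)) : G) ((D.Y 0 : ↥(S : Subgroup G)) : G) := by
    intro hc
    obtain ⟨g, hg⟩ := isConj_iff.mp hc
    have h6 := klein_index_of_fused S D T hT hTS D.ev_zero hg
    rw [h₁] at h6; omega
  obtain ⟨j, hj, m, hm⟩ := hQ.index_cases.2.2 h₂
  have hxY := isConj_xv_Y1 D hj hm
  have hfour : ∀ t : G, orderOf t = 4 → IsConj t ((D.X D.v : ↥(S : Subgroup G)) : G) := by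
    intro t ht
    rcases order4_cases S D t ht with h | h
    · exact h
    · exact h.trans hxY.symm
  have hoz : orderOf ((D.z : ↥(S : Subgroup G)) : G) = 2 := by
    rw [Subgroup.orderOf_coe]; exact D.orderOf_z
  have hoY0 : orderOf ((D.Y 0 : ↥(S : Subgroup G)) : G) = 2 := by
    rw [Subgroup.orderOf_coe]; exact D.orderOf_Y_even D.ev_zero
  obtain ⟨K, hKn, hKi, hKS⟩ := exists_K_M2 S D hz hxY
  haveI := hKn
  have hinf : (S : Subgroup G) ⊓ K = D.M2.map (S : Subgroup G).subtype :=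
    inf_eq_map_of_subgroupOf_eq hKS
  refine ⟨⟨K, hKn, hKi, ?_, ?_⟩, ⟨Subgroup.map_subtype_le _, ?_⟩,
    card_classes_eq_two 2 _ _ hoz hoY0 hz (invol_cases S D),
    card_classes_eq_one 4 _ hQ.orderOf_xv hfour⟩
  · intro P
    obtain ⟨e⟩ := sylow_normal_iso S K P
    obtain ⟨e'⟩ := D.M2_iso
    have e2 : ↥((S : Subgroup G) ⊓ K) ≃* ↥(D.M2.map (S : Subgroup G).subtype) :=
      MulEquiv.subgroupCongr hinf
    have e3 : ↥D.M2 ≃* ↥(D.M2.map (S : Subgroup G).subtype) :=
      D.M2.equivMapOfInjective _ (S : Subgroup G).subtype_injective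
    have hn3 := D.hn
    exact ⟨D.n - 2, by omega, ⟨((e.trans e2).trans e3.symm).trans e'⟩⟩
  · refine no_index_two S (D.M2.map (S : Subgroup G).subtype) (Subgroup.map_subtype_le _) ?_
      (hQ.M2_le_oddClosure h₂) K hKi
    rw [relIndex_map_subtype_eq]; exact D.index_M2
  · intro g hg
    have hW : (Subgroup.center ↥(S : Subgroup G)).map (S : Subgroup G).subtype =
        Subgroup.zpowers ((D.z : ↥(S : Subgroup G)) : G) := by
      rw [D.center_eq, MonoidHom.map_zpowers]; rfl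
    rw [hW] at hg ⊢
    rw [map_conj_zpowers] at hg ⊢
    have hgS : g * ((D.z : ↥(S : Subgroup G)) : G) * g⁻¹ ∈ (S : Subgroup G) :=
      hg (Subgroup.mem_zpowers _)
    have ho : orderOf (⟨_, hgS⟩ : ↥(S : Subgroup G)) = 2 := by
      rw [← Subgroup.orderOf_coe]
      show orderOf (g * ((D.z : ↥(S : Subgroup G)) : G) * g⁻¹) = 2
      rw [orderOf_conj_eq]; exact hoz
    rcases (D.orderOf_two_iff _).mp ho with h1 | ⟨i, hi, h1⟩
    · have : g * ((D.z : ↥(S : Subgroup G)) : G) * g⁻¹ = ((D.z : ↥(S : Subgroup G)) : G) :=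
        congrArg Subtype.val h1
      rw [this]
    · exfalso
      apply hz
      have : g * ((D.z : ↥(S : Subgroup G)) : G) * g⁻¹ = ((D.Y i : ↥(S : Subgroup G)) : G) :=
        congrArg Subtype.val h1
      exact (isConj_iff.mpr ⟨g, this⟩).trans (isConj_Y_Y0 D hi)

end Cfsg.Agent.S1205
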