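import Cfsg.Statements.S1206
import Cfsg.Agent.Lib.Helper9.QDF19

set_option autoImplicit false
open Cfsg

namespace Cfsg.Agent.S1206

open Cfsg.Agent.Lib.Helper9

/-- Let G be a finite group with quasi-dihedral Sylow 2-subgroup S, T a Klein four-subgroup and Q a quaternion subgroup of order 8 of S, with |N_G(T) : C_G(T)| = 6 and |N_G(Q) : Q C_G(Q)| = 2. Then G has a normal subgroup K of index 2 whose Sylow 2-subgroups are dihedral and which has no subgroup of index 2, and G has exactly one class of involutions and two classes of elements of order 4. -/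
theorem result {G : Type*} [Group G] [Finite G] (S : Sylow 2 G) (hS : Cfsg.IsQuasiDihedral (S : Subgroup G)) (T : Subgroup G) (hT : IsKleinFour T) (hTS : T ≤ S) (Q : Subgroup G) (hQS : Q ≤ S) (eQ : Q ≃* QuaternionGroup 2) (h₁ : (Subgroup.centralizer (T : Set G)).relIndex (Subgroup.normalizer (T : Set G)) = 6) (h₂ : (Q ⊔ Subgroup.centralizer (Q : Set G)).relIndex (Subgroup.normalizer (Q : Set G)) = 2) : (∃ K : Subgroup G, K.Normal ∧ K.index = 2 ∧ (∀ P : Sylow 2 ↥K, ∃ m : ℕ, Nonempty ((P : Subgroup ↥K) ≃* DihedralGroup m)) ∧ (∀ H : Subgroup ↥K, H.index ≠ 2)) ∧ Nat.card {C : ConjClasses G // ∃ t : G, orderOf t = 2 ∧ ConjClasses.mk t = C} = 1 ∧ Nat.card {C : ConjClasses G // ∃ t : G, orderOf t = 4 ∧ ConjClasses.mk t = C} = 2 := by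
  classical
  haveI : Fact (Nat.Prime 2) := ⟨Nat.prime_two⟩
  obtain ⟨D⟩ := exists_qd hS
  have hx : ¬ IsConj ((D.X D.v : ↥(S : Subgroup G)) : G) ((D.Y 1 : ↥(S : Subgroup G)) : G) := by
    intro hc
    obtain ⟨g, hg⟩ := isConj_iff.mp hc
    have h6 := quat_index_of_fused S D Q hQS eQ D.not_ev_one hg
    rw [h₂] at h6; omega
  obtain ⟨-, -, hk3, -, -⟩ := klein_index (S : Subgroup G) D T hT hTS
  obtain ⟨i, hi, n, hn⟩ := hk3 h₁
  have hzY := isConj_z_Y0 D hi hn
  have hinv : ∀ t : G, orderOf t = 2 → IsConj t ((D.z : ↥(S : Subgroup G)) : G) := by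
    intro t ht
    rcases invol_cases S D t ht with h | h
    · exact h
    · exact h.trans hzY.symm
  have hoz : orderOf ((D.z : ↥(S : Subgroup G)) : G) = 2 := by
    rw [Subgroup.orderOf_coe]; exact D.orderOf_z
  have hoxv : orderOf ((D.X D.v : ↥(S : Subgroup G)) : G) = 4 := by
    rw [Subgroup.orderOf_coe]; exact D.orderOf_X_v
  have hoY1 : orderOf ((D.Y 1 : ↥(S : Subgroup G)) : G) = 4 := by
    rw [Subgroup.orderOf_coe]; exact D.orderOf_Y_odd D.not_ev_one
  obtain ⟨K, hKn, hKi, hKS⟩ := exists_K_M3 S D hzY hx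
  haveI := hKn
  have hinf : (S : Subgroup G) ⊓ K = D.M3.map (S : Subgroup G).subtype :=
    inf_eq_map_of_subgroupOf_eq hKS
  refine ⟨⟨K, hKn, hKi, ?_, ?_⟩, card_classes_eq_one 2 _ hoz hinv,
    card_classes_eq_two 4 _ _ hoxv hoY1 hx (order4_cases S D)⟩
  · intro P
    obtain ⟨e⟩ := sylow_normal_iso S K P
    obtain ⟨e'⟩ := D.M3_iso
    have e2 : ↥((S : Subgroup G) ⊓ K) ≃* ↥(D.M3.map (S : Subgroup G).subtype) :=
      MulEquiv.subgroupCongr hinf
    have e3 : ↥D.M3 ≃* ↥(D.M3.map (S : Subgroup G).subtype) :=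
      D.M3.equivMapOfInjective _ (S : Subgroup G).subtype_injective
    exact ⟨2 ^ (D.n - 1), ⟨((e.trans e2).trans e3.symm).trans e'⟩⟩
  · refine no_index_two S (D.M3.map (S : Subgroup G).subtype) (Subgroup.map_subtype_le _) ?_
      (M3_le_oddClosure (S : Subgroup G) D T hT hTS h₁) K hKi
    rw [relIndex_map_subtype_eq]; exact D.index_M3

end Cfsg.Agent.S1206
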