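import Cfsg.Statements.S1207
import Cfsg.Agent.Lib.Helper9.QDF15

set_option autoImplicit false
open Cfsg

namespace Cfsg.Agent.S1207

open Cfsg.Agent.Lib.Helper9

/-- Let G be a finite group with quasi-dihedral Sylow 2-subgroup S, T a Klein four-subgroup and Q a quaternion subgroup of order 8 of S, with |N_G(T) : C_G(T)| = 2 and |N_G(Q) : Q C_G(Q)| = 2. Then G has a normal 2-complement, exactly two classes of involutions and exactly two classes of elements of order 4. -/
theorem result {G : Type*} [Group G] [Finite G] (S : Sylow 2 G) (hS : Cfsg.IsQuasiDihedral (S : Subgroup G)) (T : Subgroup G) (hT : IsKleinFour T) (hTS : T ≤ S) (Q : Subgroup G) (hQS : Q ≤ S) (eQ : Q ≃* QuaternionGroup 2) (h₁ : (Subgroup.centralizer (T : Set G)).relIndex (Subgroup.normalizer (T : Set G)) = 2) (h₂ : (Q ⊔ Subgroup.centralizer (Q : Set G)).relIndex (Subgroup.normalizer (Q : Set G)) = 2) : Cfsg.HasNormalPComplement 2 G ∧ Nat.card {C : ConjClasses G // ∃ t : G, orderOf t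 = 2 ∧ ConjClasses.mk t = C} = 2 ∧ Nat.card {C : ConjClasses G // ∃ t : G, orderOf t = 4 ∧ ConjClasses.mk t = C} = 2 := by
  classical
  haveI : Fact (Nat.Prime 2) := ⟨Nat.prime_two⟩
  obtain ⟨D⟩ := exists_qd hS
  have hz : ¬ IsConj ((D.z : ↥(S : Subgroup G)) : G) ((D.Y 0 : ↥(S : Subgroup G)) : G) := by
    intro hc
    obtain ⟨g, hg⟩ := isConj_iff.mp hc
    have h6 := klein_index_of_fused S D T hT hTS D.ev_zero hg
    rw [h₁] at h6; omega
  have hx : ¬ IsConj ((D.X D.v : ↥(S : Subgroup G)) : G) ((D.Y 1 : ↥(S : Subgroup G)) : G) := by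
    intro hc
    obtain ⟨g, hg⟩ := isConj_iff.mp hc
    have h6 := quat_index_of_fused S D Q hQS eQ D.not_ev_one hg
    rw [h₂] at h6; omega
  have hcf := controlsFusion_of_not_fused S D hz hx
  obtain ⟨N, hNn, hNc, hNi⟩ :=
    Cfsg.Agent.Lib.Helper1.controls_npc_exact (S : Subgroup G) S.2 S.not_dvd_index hcf
  have hoz : orderOf ((D.z : ↥(S : Subgroup G)) : G) = 2 := by
    rw [Subgroup.orderOf_coe]; exact D.orderOf_z
  have hoY0 : orderOf ((D.Y 0 : ↥(S : Subgroup G)) : G) = 2 := by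
    rw [Subgroup.orderOf_coe]; exact D.orderOf_Y_even D.ev_zero
  have hoxv : orderOf ((D.X D.v : ↥(S : Subgroup G)) : G) = 4 := by
    rw [Subgroup.orderOf_coe]; exact D.orderOf_X_v
  have hoY1 : orderOf ((D.Y 1 : ↥(S : Subgroup G)) : G) = 4 := by
    rw [Subgroup.orderOf_coe]; exact D.orderOf_Y_odd D.not_ev_one
  refine ⟨⟨S, N, hNn, ?_⟩, card_classes_eq_two 2 _ _ hoz hoY0 hz (invol_cases S D),
    card_classes_eq_two 4 _ _ hoxv hoY1 hx (order4_cases S D)⟩
  have hS : Nat.card (S : Subgroup G) = 2 ^ (Nat.card G).factorization 2 :=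
    Sylow.card_eq_multiplicity S
  apply Subgroup.isComplement'_of_coprime
  · rw [hS, ← hNi, Subgroup.card_mul_index]
  · rw [hS]; exact Nat.Coprime.pow_right _ hNc

end Cfsg.Agent.S1207
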