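import Cfsg.Statements.S1209
import Cfsg.Agent.Lib.Helper9.WF14

set_option autoImplicit false
open Cfsg

namespace Cfsg.Agent.S1209

open Cfsg.Agent.Lib.Helper9

/-- Let G be a finite group whose Sylow 2-subgroup S is wreathed of order 2^(2n+1), U the commutative subgroup of index 2 in S, Q a quaternion subgroup of order 8 of S and V = Q Z(S). If |N_G(U) : C_G(U)| = 6 and |N_G(V) : V C_G(V)| = 6, then G has no subgroup of index 2 and exactly one conjugacy class of involutions. -/
theorem result {G : Type*} [Group G] [Finite G] (S : Sylow 2 G) (hS : Cfsg.IsWreathed (S : Subgroup G)) (n : ℕ) (hn : Nat.card S = 2 ^ (2 * n + 1)) (U : Subgroup G) (hUS : U ≤ S) (hUab : IsMulCommutative U) (hUcard : Nat.card U = 2 ^ (2 * n)) (Q : Subgroup G) (hQS : Q ≤ S) (eQ : Q ≃* QuaternionGroup 2) (h₁ : (Subgroup.centralizer (U : Set G)).relIndex (Subgroup.normalizer (U : Set G)) = 6) (h₂ : ((Q ⊔ ((Subgroup.center (S : Subgroup G)).map (S : Subgroup G).subtype)) ⊔ Subgroup.centralizer ((Q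 ⊔ ((Subgroup.center (S : Subgroup G)).map (S : Subgroup G).subtype) : Subgroup G) : Set G)).relIndex (Subgroup.normalizer ((Q ⊔ ((Subgroup.center (S : Subgroup G)).map (S : Subgroup G).subtype) : Subgroup G) : Set G)) = 6) : (∀ H : Subgroup G, H.index ≠ 2) ∧ Nat.card {C : ConjClasses G // ∃ t : G, orderOf t = 2 ∧ ConjClasses.mk t = C} = 1 := by
  classical
  obtain ⟨D⟩ := exists_wd hS
  have hnD : n = D.n := D.n_eq hn
  subst hnD
  have hU : U = D.Ug := D.Ug_unique U hUS (WD.comm_of_isMulCommutative hUab) hUcard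
  obtain ⟨c, hQ⟩ := D.Qg_of_iso Q hQS eQ
  subst hU
  subst hQ
  have h₂' : (D.Vg c ⊔ Subgroup.centralizer (D.Vg c : Set G)).relIndex
      (Subgroup.normalizer (D.Vg c : Set G)) = 6 := h₂
  constructor
  · exact no_index_two_of_sylow_le S (WD.sylow_le_oddClosure S D c h₁ h₂')
  · obtain ⟨n₁, hn₁, hn₁e⟩ := (WD.U_index S D).2.2.1 h₁
    have hζt : IsConj D.zeta D.tt := isConj_iff.mpr ⟨n₁, hn₁e⟩
    have htz := WD.fused_tt_zz_of_index_V S D c h₂'
    apply card_classes_eq_one 2 D.zeta D.orderOf_zeta_g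
    intro t ht
    rcases WD.invol_cases_w S D t ht with h | h | h
    · exact h
    · exact h.trans hζt.symm
    · exact h.trans (htz.symm.trans hζt.symm)

end Cfsg.Agent.S1209
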