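import Cfsg.Statements.S1210
import Cfsg.Agent.Lib.Helper9.WF19

set_option autoImplicit false
open Cfsg

namespace Cfsg.Agent.S1210

open Cfsg.Agent.Lib.Helper9

/-- Let G be a finite group whose Sylow 2-subgroup S is wreathed of order 2^(2n+1), U the commutative subgroup of index 2 in S, Q a quaternion subgroup of order 8 of S and V = Q Z(S). If |N_G(U) : C_G(U)| = 2 and |N_G(V) : V C_G(V)| = 6, then G has a normal subgroup K of index 2^n whose Sylow 2-subgroups are generalized quaternion and which has no subgroup of index 2; every subgroup of Z(S) is weakly closed in S; and G has exactly two classes of involutions. -/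
theorem result {G : Type*} [Group G] [Finite G] (S : Sylow 2 G) (hS : Cfsg.IsWreathed (S : Subgroup G)) (n : ℕ) (hn : Nat.card S = 2 ^ (2 * n + 1)) (U : Subgroup G) (hUS : U ≤ S) (hUab : IsMulCommutative U) (hUcard : Nat.card U = 2 ^ (2 * n)) (Q : Subgroup G) (hQS : Q ≤ S) (eQ : Q ≃* QuaternionGroup 2) (h₁ : (Subgroup.centralizer (U : Set G)).relIndex (Subgroup.normalizer (U : Set G)) = 2) (h₂ : ((Q ⊔ ((Subgroup.center (S : Subgroup G)).map (S : Subgroup G).subtype)) ⊔ Subgroup.centralizer ((Q ⊔ ((Subgroup.center (S : Subgroup G)).map (S : Subgroup G).subtype) : Subgroup G) : Set G)).relIndex (Subgroup.normalizer ((Q ⊔ ((Subgroup.center (S : Subgroup G)).map (S : Subgroup G).subtype) : Subgroup G) : Set G)) = 6) : (∃ K : Subgroup G, K.Normal ∧ K.index = 2 ^ n ∧ (∀ P : Sylow 2 ↥K, ∃ m : ℕ, 1 ≤ m ∧ Nonempty ((P : Subgroup ↥K) ≃* QuaternionGroup (2 ^ m))) ∧ (∀ H : Subgroup ↥K, H.index ≠ 2)) ∧ (∀ Z₀ : Subgroup G, Z₀ ≤ ((Subgroup.center (S : Subgroup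 G)).map (S : Subgroup G).subtype) → Cfsg.IsWeaklyClosed Z₀ (S : Subgroup G)) ∧ Nat.card {C : ConjClasses G // ∃ t : G, orderOf t = 2 ∧ ConjClasses.mk t = C} = 2 := by
  classical
  haveI : Fact (Nat.Prime 2) := ⟨Nat.prime_two⟩
  obtain ⟨D⟩ := exists_wd hS
  have hnD : n = D.n := D.n_eq hn
  subst hnD
  have hU : U = D.Ug := D.Ug_unique U hUS (WD.comm_of_isMulCommutative hUab) hUcard
  obtain ⟨c, hQ⟩ := D.Qg_of_iso Q hQS eQ
  subst hU
  subst hQ
  have h₂' : (D.Vg c ⊔ Subgroup.centralizer (D.Vg c : Set G)).relIndex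
      (Subgroup.normalizer (D.Vg c : Set G)) = 6 := h₂
  have hζt : ¬ IsConj D.zeta D.tt := by
    intro hc
    have := WD.index_U_of_fused S D hc
    rw [h₁] at this; omega
  have htz : IsConj D.tt D.zz := WD.fused_tt_zz_of_index_V S D c h₂'
  refine ⟨⟨WD.Kq S D, inferInstance, WD.index_Kq S D hζt h₁, ?_,
    WD.no_index_two_Kq S D htz hζt h₁⟩, ?_, ?_⟩
  · intro P
    have hKS := WD.subgroupOf_Kq_eq S D hζt h₁ (WD.Qsg_le_Kq S D htz)
    have hinf : (S : Subgroup G) ⊓ WD.Kq S D = D.Qs.map (S : Subgroup G).subtype :=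
      inf_eq_map_of_subgroupOf_eq hKS
    obtain ⟨e⟩ := sylow_normal_iso S (WD.Kq S D) P
    obtain ⟨e'⟩ := D.Qs_iso
    have e2 : ↥((S : Subgroup G) ⊓ WD.Kq S D) ≃* ↥(D.Qs.map (S : Subgroup G).subtype) :=
      MulEquiv.subgroupCongr hinf
    have e3 : ↥D.Qs ≃* ↥(D.Qs.map (S : Subgroup G).subtype) :=
      D.Qs.equivMapOfInjective _ (S : Subgroup G).subtype_injective
    have hn2 := D.hn
    exact ⟨D.n - 1, by omega, ⟨((e.trans e2).trans e3.symm).trans e'⟩⟩
  · intro Z₀ hZ₀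
    exact WD.weaklyClosed_of_le_Zg S D h₁ htz Z₀ hZ₀
  · apply card_classes_eq_two 2 D.zeta D.tt D.orderOf_zeta_g (WD.orderOf_tt_g S D) hζt
    intro t ht
    rcases WD.invol_cases_w S D t ht with h | h | h
    · left; exact h
    · right; exact h
    · right; exact h.trans htz.symm

end Cfsg.Agent.S1210
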