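import Cfsg.Statements.S1211
import Cfsg.Agent.Lib.Helper9.WF14

set_option autoImplicit false
open Cfsg

namespace Cfsg.Agent.S1211

open Cfsg.Agent.Lib.Helper9

/-- Let G be a finite group whose Sylow 2-subgroup S is wreathed of order 2^(2n+1), U the commutative subgroup of index 2 in S, Q a quaternion subgroup of order 8 of S and V = Q Z(S). If |N_G(U) : C_G(U)| = 6 and |N_G(V) : V C_G(V)| = 2, then G has a normal subgroup K of index 2 containing U (so U is a Sylow 2-subgroup of K) which has no subgroup of index 2, and G has exactly two classes of involutions. -/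
theorem result {G : Type*} [Group G] [Finite G] (S : Sylow 2 G) (hS : Cfsg.IsWreathed (S : Subgroup G)) (n : ℕ) (hn : Nat.card S = 2 ^ (2 * n + 1)) (U : Subgroup G) (hUS : U ≤ S) (hUab : IsMulCommutative U) (hUcard : Nat.card U = 2 ^ (2 * n)) (Q : Subgroup G) (hQS : Q ≤ S) (eQ : Q ≃* QuaternionGroup 2) (h₁ : (Subgroup.centralizer (U : Set G)).relIndex (Subgroup.normalizer (U : Set G)) = 6) (h₂ : ((Q ⊔ ((Subgroup.center (S : Subgroup G)).map (S : Subgroup G).subtype)) ⊔ Subgroup.centralizer ((Q ⊔ ((Subgroup.center (S : Subgroup G)).map (S : Subgroup G).subtype) : Subgroup G) : Set G)).relIndex (Subgroup.normalizer ((Q ⊔ ((Subgroup.center (S : Subgroup G)).map (S : Subgroup G).subtype) : Subgroup G) : Set G)) = 2) : (∃ K : Subgroup G, K.Normal ∧ K.index = 2 ∧ U ≤ K ∧ (∀ H : Subgroup ↥K, H.index ≠ 2)) ∧ Nat.card {C : ConjClasses G // ∃ t : G, orderOf t = 2 ∧ ConjClasses.mk t = C} = 2 := by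
  classical
  haveI : Fact (Nat.Prime 2) := ⟨Nat.prime_two⟩
  obtain ⟨D⟩ := exists_wd hS
  have hnD : n = D.n := D.n_eq hn
  subst hnD
  have hU : U = D.Ug := D.Ug_unique U hUS (WD.comm_of_isMulCommutative hUab) hUcard
  obtain ⟨c, hQ⟩ := D.Qg_of_iso Q hQS eQ
  subst hU
  subst hQ
  have h₂' : (D.Vg c ⊔ Subgroup.centralizer (D.Vg c : Set G)).relIndex
      (Subgroup.normalizer (D.Vg c : Set G)) = 2 := h₂
  obtain ⟨n₁, hn₁, hn₁e⟩ := (WD.U_index S D).2.2.1 h₁
  have hζt : IsConj D.zeta D.tt := isConj_iff.mpr ⟨n₁, hn₁e⟩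
  have htz : ¬ IsConj D.tt D.zz := by
    intro hc
    have := WD.index_V_of_fused S D c hc
    rw [h₂'] at this; omega
  have hζz : ¬ IsConj D.zeta D.zz := fun hc => htz (hζt.symm.trans hc)
  have hUodd := WD.Ug_le_oddClosure S D h₁
  have hM := WD.relIndex_Ug S D
  constructor
  · obtain ⟨K, hKn, hKi, hKz⟩ := Cfsg.Agent.Lib.Helper19.exists_index_two_of_not_conj_mem S D.Ug
      D.Ug_le hM 1 le_rfl
      (by
        intro y _ hyM
        have hpos : 0 < orderOf y := orderOf_pos y
        have hne : orderOf y ≠ 1 := by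
          intro h1
          rw [orderOf_eq_one_iff] at h1
          exact hyM (h1 ▸ D.Ug.one_mem)
        simp only [Nat.sub_self, pow_zero]
        omega)
      D.zz (D.B 0 0).2 (by rw [pow_one]; exact WD.orderOf_zz_g S D)
      (by
        intro g hg
        have ho : orderOf (g * D.zz * g⁻¹) = 2 := by
          rw [orderOf_conj_eq]; exact WD.orderOf_zz_g S D
        have hconj : IsConj D.zz (g * D.zz * g⁻¹) := isConj_iff.mpr ⟨g, rfl⟩
        rcases D.involution_Ug_cases hg ho with h | h | h
        · rw [h] at hconj; exact hζz hconj.symm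
        · rw [h] at hconj; exact htz hconj.symm
        · rw [h] at hconj; exact htz (D.isConj_tt_tt'.trans hconj.symm))
    refine ⟨K, hKn, hKi, hUodd.trans (oddClosure_le_of_index_two hKi), ?_⟩
    intro H
    exact no_index_two S D.Ug D.Ug_le hM hUodd K hKi H
  · apply card_classes_eq_two 2 D.zeta D.zz D.orderOf_zeta_g (WD.orderOf_zz_g S D) hζz
    intro t ht
    rcases WD.invol_cases_w S D t ht with h | h | h
    · left; exact h
    · left; exact h.trans hζt.symm
    · right; exact h

end Cfsg.Agent.S1211
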