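import Cfsg.Statements.S1212
import Cfsg.Agent.Lib.Helper9.WF15

set_option autoImplicit false
open Cfsg

namespace Cfsg.Agent.S1212

open Cfsg.Agent.Lib.Helper9

/-- Let G be a finite group whose Sylow 2-subgroup S is wreathed of order 2^(2n+1), U the commutative subgroup of index 2 in S, Q a quaternion subgroup of order 8 of S and V = Q Z(S). If |N_G(U) : C_G(U)| = 2 and |N_G(V) : V C_G(V)| = 2, then G has a normal 2-complement and exactly three conjugacy classes of involutions. -/
theorem result {G : Type*} [Group G] [Finite G] (S : Sylow 2 G) (hS : Cfsg.IsWreathed (S : Subgroup G)) (n : ℕ) (hn : Nat.card S = 2 ^ (2 * n + 1)) (U : Subgroup G) (hUS : U ≤ S) (hUab : IsMulCommutative U) (hUcard : Nat.card U = 2 ^ (2 * n)) (Q : Subgroup G) (hQS : Q ≤ S) (eQ : Q ≃* QuaternionGroup 2) (h₁ : (Subgroup.centralizer (U : Set G)).relIndex (Subgroup.normalizer (U : Set G)) = 2) (h₂ : ((Q ⊔ ((Subgroup.center (S : Subgroup G)).map (S : Subgroup G).subtype)) ⊔ Subgroup.centralizer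 ((Q ⊔ ((Subgroup.center (S : Subgroup G)).map (S : Subgroup G).subtype) : Subgroup G) : Set G)).relIndex (Subgroup.normalizer ((Q ⊔ ((Subgroup.center (S : Subgroup G)).map (S : Subgroup G).subtype) : Subgroup G) : Set G)) = 2) : Cfsg.HasNormalPComplement 2 G ∧ Nat.card {C : ConjClasses G // ∃ t : G, orderOf t = 2 ∧ ConjClasses.mk t = C} = 3 := by
  classical
  haveI : Fact (Nat.Prime 2) := ⟨Nat.prime_two⟩
  obtain ⟨D⟩ := exists_wd hS
  have hnD : n = D.n := D.n_eq hn
  subst hnD
  have hU : U = D.Ug := D.Ug_unique U hUS (WD.comm_of_isMulCommutative hUab) hUcard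
  obtain ⟨c, hQ⟩ := D.Qg_of_iso Q hQS eQ
  subst hU
  subst hQ
  have h₂' : (D.Vg c ⊔ Subgroup.centralizer (D.Vg c : Set G)).relIndex
      (Subgroup.normalizer (D.Vg c : Set G)) = 2 := h₂
  have hζt : ¬ IsConj D.zeta D.tt := by
    intro hc
    have := WD.index_U_of_fused S D hc
    rw [h₁] at this; omega
  have htz : ¬ IsConj D.tt D.zz := by
    intro hc
    have := WD.index_V_of_fused S D c hc
    rw [h₂'] at this; omega
  have hζz : ¬ IsConj D.zeta D.zz := fun hc => hζt (WD.fused_zeta_tt_of_zz S D hc)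
  refine ⟨WD.npc_w S D hζt hζz htz h₁, ?_⟩
  exact card_classes_eq_three 2 D.zeta D.tt D.zz D.orderOf_zeta_g (WD.orderOf_tt_g S D)
    (WD.orderOf_zz_g S D) hζt hζz htz (WD.invol_cases_w S D)

end Cfsg.Agent.S1212
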