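import Cfsg.Statements.S1214
import Cfsg.Agent.Lib.Helper9.SQ5

set_option autoImplicit false
open Cfsg

namespace Cfsg.Agent.S1214

open Cfsg.Agent.Lib.Helper9

/-- Let G be a finite group with quasi-dihedral or wreathed Sylow 2-subgroups and no subgroup of index 2. Then G/O(G), the quotient by the largest normal subgroup of odd order, has a normal subgroup of odd index which is a non-abelian simple group. -/
theorem result {G : Type*} [Group G] [Finite G] (S : Sylow 2 G) (hS : Cfsg.IsQuasiDihedral (S : Subgroup G) ∨ Cfsg.IsWreathed (S : Subgroup G)) (hG : ∀ H : Subgroup G, H.index ≠ 2) : ∃ L : Subgroup (G ⧸ Cfsg.oddCore G), L.Normal ∧ Odd L.index ∧ IsSimpleGroup L ∧ ¬ IsMulCommutative L := by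
  classical
  haveI : Fact (Nat.Prime 2) := ⟨Nat.prime_two⟩
  have hπ := QuotientGroup.mk'_surjective (Cfsg.oddCore G)
  obtain ⟨e⟩ := sylow_quotient_equiv S (Cfsg.oddCore G)
    (Cfsg.Agent.Lib.Helper1.pPrimeCore_card_coprime 2)
  have hSb := hS.imp (isQuasiDihedral_of_equiv e) (isWreathed_of_equiv e)
  have hGb : ∀ H : Subgroup (G ⧸ Cfsg.oddCore G), H.index ≠ 2 := by
    intro H hH
    exact hG (H.comap (QuotientGroup.mk' _))
      (by rw [Subgroup.index_comap_of_surjective H hπ]; exact hH)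
  have hOb : Cfsg.oddCore (G ⧸ Cfsg.oddCore G) = ⊥ :=
    Cfsg.Agent.Lib.Helper1.pPrimeCore_quotient_eq_bot 2
  exact exists_simple_of_qd_or_wreathed _ hSb hGb hOb

end Cfsg.Agent.S1214
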