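import Cfsg.Statements.S1217

import Cfsg.Agent.S0800
set_option autoImplicit false
open scoped MatrixGroups
open Cfsg

namespace Cfsg.Agent.S1217


section Abstract

variable {G : Type*} [Group G]

theorem norm_of_conj_mem (V : Subgroup G) [Finite V] (h : G)
    (hh : ∀ v ∈ V, h * v * h⁻¹ ∈ V) : h ∈ Subgroup.normalizer (V : Set G) := by
  rw [Subgroup.mem_normalizer_iff]
  intro x
  constructor
  · exact hh x
  · intro hx
    have hinj : Function.Injective (fun v : V => (⟨h * v.1 * h⁻¹, hh v.1 v.2⟩ : V)) := by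
      intro v w hvw
      have := congrArg Subtype.val hvw
      simp only at this
      exact Subtype.ext (mul_left_cancel (mul_right_cancel this))
    obtain ⟨v, hv⟩ := Finite.surjective_of_injective hinj ⟨h * x * h⁻¹, hx⟩
    have := congrArg Subtype.val hv
    simp only at this
    have hvx : v.1 = x := mul_left_cancel (mul_right_cancel this)
    rw [← hvx]
    exact v.2

theorem conj_into_sylow [Finite G] (P : Sylow 2 G) (W : Subgroup G) (hW : IsPGroup 2 W) :
    ∃ g : G, ∀ w ∈ W, g * w * g⁻¹ ∈ P := by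
  obtain ⟨Q, hQ⟩ := hW.exists_le_sylow
  obtain ⟨g, hg⟩ := MulAction.exists_smul_eq G Q P
  refine ⟨g, fun w hw => ?_⟩
  have : g * w * g⁻¹ ∈ P ↔ g * w * g⁻¹ ∈ (P : Subgroup G) := Iff.rfl
  rw [this, ← hg, Sylow.coe_subgroup_smul, Subgroup.mem_pointwise_smul_iff_inv_smul_mem]
  have : (MulAut.conj g)⁻¹ • (g * w * g⁻¹) = w := by
    rw [← map_inv, MulAut.smul_def, MulAut.conj_apply]
    group
  rw [this]
  exact hQ hw

theorem isPGroup_zpowers (x : G) (k : ℕ) (hx : orderOf x = 2 ^ k) :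
    IsPGroup 2 (Subgroup.zpowers x) := by
  apply IsPGroup.of_card (n := k)
  rw [Nat.card_zpowers, hx]

theorem qd_of_elements [Finite G] (P : Sylow 2 G) (n : ℕ) (hn : 3 ≤ n)
    (hcard : Nat.card P = 2 ^ (n + 1)) (x y : G) (ox : orderOf x = 2 ^ n) (oy : orderOf y = 2)
    (hrel : y * x * y⁻¹ = x ^ (2 ^ (n - 1) - 1)) :
    Cfsg.IsQuasiDihedral (P : Subgroup G) := by
  have hW : IsPGroup 2 (Subgroup.zpowers y ⊔ Subgroup.zpowers x : Subgroup G) := by
    apply IsPGroup.to_sup_of_normal_right' (isPGroup_zpowers y 1 (by simpa using oy))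
      (isPGroup_zpowers x n ox)
    rw [Subgroup.zpowers_le]
    apply norm_of_conj_mem
    intro v hv
    obtain ⟨i, rfl⟩ := Subgroup.mem_zpowers_iff.mp hv
    have : y * x ^ i * y⁻¹ = (y * x * y⁻¹) ^ i := by
      rw [conj_zpow]
    rw [this, hrel]
    exact Subgroup.zpow_mem _ (Subgroup.pow_mem _ (Subgroup.mem_zpowers x) _) _
  obtain ⟨g, hg⟩ := conj_into_sylow P _ hW
  have hxW : x ∈ (Subgroup.zpowers y ⊔ Subgroup.zpowers x : Subgroup G) :=
    (le_sup_right : Subgroup.zpowers x ≤ _) (Subgroup.mem_zpowers x)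
  have hyW : y ∈ (Subgroup.zpowers y ⊔ Subgroup.zpowers x : Subgroup G) :=
    (le_sup_left : Subgroup.zpowers y ≤ _) (Subgroup.mem_zpowers y)
  refine ⟨n, hn, hcard, ⟨g * x * g⁻¹, hg x hxW⟩, ⟨g * y * g⁻¹, hg y hyW⟩, ?_, ?_, ?_⟩
  · rw [← Subgroup.orderOf_coe]
    show orderOf (g * x * g⁻¹) = 2 ^ n
    rw [← ox]
    exact (MulAut.conj g).orderOf_eq x
  · rw [← Subgroup.orderOf_coe]
    show orderOf (g * y * g⁻¹) = 2
    rw [← oy]
    exact (MulAut.conj g).orderOf_eq y
  · apply Subtype.ext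
    show g * y * g⁻¹ * (g * x * g⁻¹) * (g * y * g⁻¹)⁻¹ = (g * x * g⁻¹) ^ (2 ^ (n - 1) - 1)
    rw [conj_pow, ← hrel]
    group

theorem wr_of_elements [Finite G] (P : Sylow 2 G) (n : ℕ) (hn : 2 ≤ n)
    (hcard : Nat.card P = 2 ^ (2 * n + 1)) (x y z : G) (ox : orderOf x = 2 ^ n)
    (hxy : x * y = y * x) (hdisj : Subgroup.zpowers x ⊓ Subgroup.zpowers y = ⊥)
    (oz : orderOf z = 2) (hrel : z * x * z⁻¹ = y) :
    Cfsg.IsWreathed (P : Subgroup G) := by
  have oy : orderOf y = 2 ^ n := by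
    rw [← hrel, ← ox]
    exact (MulAut.conj z).orderOf_eq x
  have hz2 : z * z = 1 := by
    have := pow_orderOf_eq_one z
    rwa [oz, pow_two] at this
  have hzinv : z⁻¹ = z := inv_eq_of_mul_eq_one_right hz2
  have hrel' : z * y * z⁻¹ = x := by
    rw [← hrel, hzinv]
    calc z * (z * x * z) * z = (z * z) * x * (z * z) := by group
      _ = x := by rw [hz2]; group
  have hxyP : IsPGroup 2 (Subgroup.zpowers x ⊔ Subgroup.zpowers y : Subgroup G) := by
    apply IsPGroup.to_sup_of_normal_right' (isPGroup_zpowers x n ox) (isPGroup_zpowers y n oy)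
    rw [Subgroup.zpowers_le]
    apply norm_of_conj_mem
    intro v hv
    obtain ⟨i, rfl⟩ := Subgroup.mem_zpowers_iff.mp hv
    have : x * y ^ i * x⁻¹ = y ^ i := by
      rw [← conj_zpow]
      have : x * y * x⁻¹ = y := by rw [hxy]; group
      rw [this]
    rw [this]
    exact Subgroup.zpow_mem _ (Subgroup.mem_zpowers y) _
  have hW : IsPGroup 2 (Subgroup.zpowers z ⊔ (Subgroup.zpowers x ⊔ Subgroup.zpowers y) :
      Subgroup G) := by
    apply IsPGroup.to_sup_of_normal_right' (isPGroup_zpowers z 1 (by simpa using oz)) hxyP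
    rw [Subgroup.zpowers_le]
    apply norm_of_conj_mem
    intro v hv
    have hmap : (Subgroup.zpowers x ⊔ Subgroup.zpowers y).map (MulAut.conj z).toMonoidHom ≤
        Subgroup.zpowers x ⊔ Subgroup.zpowers y := by
      rw [Subgroup.map_sup, MonoidHom.map_zpowers, MonoidHom.map_zpowers]
      have e1 : (MulAut.conj z).toMonoidHom x = y := by simpa using hrel
      have e2 : (MulAut.conj z).toMonoidHom y = x := by simpa using hrel'
      rw [e1, e2, sup_comm]
    have := hmap (Subgroup.mem_map_of_mem _ hv)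
    simpa using this
  obtain ⟨g, hg⟩ := conj_into_sylow P _ hW
  have hxW : x ∈ (Subgroup.zpowers z ⊔ (Subgroup.zpowers x ⊔ Subgroup.zpowers y) : Subgroup G) :=
    (le_sup_right : _ ≤ Subgroup.zpowers z ⊔ (Subgroup.zpowers x ⊔ Subgroup.zpowers y))
      ((le_sup_left : Subgroup.zpowers x ≤ _) (Subgroup.mem_zpowers x))
  have hyW : y ∈ (Subgroup.zpowers z ⊔ (Subgroup.zpowers x ⊔ Subgroup.zpowers y) : Subgroup G) :=
    (le_sup_right : _ ≤ Subgroup.zpowers z ⊔ (Subgroup.zpowers x ⊔ Subgroup.zpowers y))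
      ((le_sup_right : Subgroup.zpowers y ≤ _) (Subgroup.mem_zpowers y))
  have hzW : z ∈ (Subgroup.zpowers z ⊔ (Subgroup.zpowers x ⊔ Subgroup.zpowers y) : Subgroup G) :=
    (le_sup_left : Subgroup.zpowers z ≤ _) (Subgroup.mem_zpowers z)
  refine ⟨n, hn, hcard, ⟨g * x * g⁻¹, hg x hxW⟩, ⟨g * y * g⁻¹, hg y hyW⟩,
    ⟨g * z * g⁻¹, hg z hzW⟩, ?_, ?_, ?_, ?_, ?_⟩
  · rw [← Subgroup.orderOf_coe]
    show orderOf (g * x * g⁻¹) = 2 ^ n
    rw [← ox]
    exact (MulAut.conj g).orderOf_eq x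
  · apply Subtype.ext
    show g * x * g⁻¹ * (g * y * g⁻¹) = g * y * g⁻¹ * (g * x * g⁻¹)
    calc g * x * g⁻¹ * (g * y * g⁻¹) = g * (x * y) * g⁻¹ := by group
      _ = g * (y * x) * g⁻¹ := by rw [hxy]
      _ = _ := by group
  · rw [eq_bot_iff]
    intro a ha
    obtain ⟨ha1, ha2⟩ := Subgroup.mem_inf.mp ha
    obtain ⟨i, hi⟩ := Subgroup.mem_zpowers_iff.mp ha1
    obtain ⟨j, hj⟩ := Subgroup.mem_zpowers_iff.mp ha2
    have hi' : (g * x * g⁻¹) ^ i = (a : G) := by
      rw [← hi]; simp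
    have hj' : (g * y * g⁻¹) ^ j = (a : G) := by
      rw [← hj]; simp
    rw [conj_zpow] at hi' hj'
    have hxy' : x ^ i = y ^ j := by
      have := hi'.trans hj'.symm
      exact mul_left_cancel (mul_right_cancel this)
    have hmem : x ^ i ∈ Subgroup.zpowers x ⊓ Subgroup.zpowers y := by
      refine Subgroup.mem_inf.mpr ⟨Subgroup.zpow_mem _ (Subgroup.mem_zpowers x) _, ?_⟩
      rw [hxy']
      exact Subgroup.zpow_mem _ (Subgroup.mem_zpowers y) _
    rw [hdisj, Subgroup.mem_bot] at hmem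
    rw [Subgroup.mem_bot]
    apply Subtype.ext
    rw [← hi', hmem]
    simp
  · rw [← Subgroup.orderOf_coe]
    show orderOf (g * z * g⁻¹) = 2
    rw [← oz]
    exact (MulAut.conj g).orderOf_eq z
  · apply Subtype.ext
    show g * z * g⁻¹ * (g * x * g⁻¹) * (g * z * g⁻¹)⁻¹ = g * y * g⁻¹
    rw [← hrel]
    group

end Abstract

section Card

theorem card_sylow_of_factor {G : Type*} [Group G] [Finite G] (P : Sylow 2 G) (k r : ℕ)
    (hr : ¬ 2 ∣ r) (h : Nat.card G = 2 ^ k * r) : Nat.card P = 2 ^ k := by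
  rw [Sylow.card_eq_multiplicity, h]
  have hr0 : r ≠ 0 := by
    rintro rfl
    exact hr (dvd_zero 2)
  rw [Nat.factorization_mul (pow_ne_zero _ (by norm_num)) hr0]
  simp [Nat.Prime.factorization_pow Nat.prime_two, Nat.factorization_eq_zero_of_not_dvd hr]

variable {F : Type*} [Field F] [Fintype F]

theorem card_GL2 : Nat.card (GL (Fin 2) F) =
    (Fintype.card F ^ 2 - 1) * (Fintype.card F ^ 2 - Fintype.card F) := by
  rw [Matrix.card_GL_field, Fin.prod_univ_two]
  simp

theorem two_ne_zero_of_odd (h : Fintype.card F % 2 = 1) : (2 : F) ≠ 0 := by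
  apply Ring.two_ne_zero
  intro h2
  have := FiniteField.even_card_of_char_two h2
  omega

end Card

section Mat

variable {F : Type*} [Field F]

def mk2 (a b c d : F) (h : a * d - b * c ≠ 0) : GL (Fin 2) F :=
  Matrix.GeneralLinearGroup.mkOfDetNeZero !![a, b; c, d] (by rwa [Matrix.det_fin_two_of])

@[simp] theorem mk2_val (a b c d : F) (h : a * d - b * c ≠ 0) :
    ((mk2 a b c d h : GL (Fin 2) F) : Matrix (Fin 2) (Fin 2) F) = !![a, b; c, d] := rfl

def dg : Fˣ × Fˣ →* GL (Fin 2) F where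
  toFun u := mk2 (u.1 : F) 0 0 (u.2 : F) (by simp)
  map_one' := by
    apply Units.ext
    ext i j
    fin_cases i <;> fin_cases j <;> simp
  map_mul' u v := by
    apply Units.ext
    ext i j
    fin_cases i <;> fin_cases j <;> simp [Matrix.mul_apply, Fin.sum_univ_two]

theorem dg_val (u : Fˣ × Fˣ) :
    ((dg u : GL (Fin 2) F) : Matrix (Fin 2) (Fin 2) F) = !![(u.1 : F), 0; 0, (u.2 : F)] := rfl

theorem dg_injective : Function.Injective (dg : Fˣ × Fˣ →* GL (Fin 2) F) := by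
  intro u v h
  have h' := congrArg (fun g : GL (Fin 2) F => (g : Matrix (Fin 2) (Fin 2) F)) h
  simp only [dg_val] at h'
  have h0 := congrFun (congrFun h' 0) 0
  have h1 := congrFun (congrFun h' 1) 1
  simp at h0 h1
  exact Prod.ext (Units.ext h0) (Units.ext h1)

def sw (h2 : (2 : F) ≠ 0) : GL (Fin 2) F := mk2 0 1 1 0 (by simp)

theorem sw_order (h2 : (2 : F) ≠ 0) : orderOf (sw h2) = 2 := by
  apply orderOf_eq_prime
  · apply Units.ext
    ext i j
    fin_cases i <;> fin_cases j <;> simp [sw, pow_two, Matrix.mul_apply, Fin.sum_univ_two]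
  · intro h
    have h' := congrArg (fun g : GL (Fin 2) F => (g : Matrix (Fin 2) (Fin 2) F) 0 0) h
    simp [sw] at h'

theorem sw_conj (h2 : (2 : F) ≠ 0) (u : Fˣ) :
    sw h2 * dg (u, 1) * (sw h2)⁻¹ = dg (1, u) := by
  rw [mul_inv_eq_iff_eq_mul]
  apply Units.ext
  ext i j
  fin_cases i <;> fin_cases j <;> simp [sw, dg_val, Matrix.mul_apply, Fin.sum_univ_two]

theorem dg_disjoint (u : Fˣ) :
    Subgroup.zpowers (dg (u, 1) : GL (Fin 2) F) ⊓ Subgroup.zpowers (dg (1, u)) = ⊥ := by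
  rw [eq_bot_iff]
  intro a ha
  obtain ⟨ha1, ha2⟩ := Subgroup.mem_inf.mp ha
  obtain ⟨i, hi⟩ := Subgroup.mem_zpowers_iff.mp ha1
  obtain ⟨j, hj⟩ := Subgroup.mem_zpowers_iff.mp ha2
  rw [← map_zpow] at hi hj
  have := dg_injective (hi.trans hj.symm)
  have h1 : u ^ i = 1 := by
    have := congrArg Prod.fst this
    simpa using this
  rw [Subgroup.mem_bot, ← hi]
  have : ((u, 1) : Fˣ × Fˣ) ^ i = 1 := by
    apply Prod.ext
    · simpa using h1
    · simp
  rw [this, map_one]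

end Mat

section Wr

variable {F : Type*} [Field F] [Fintype F]

theorem exists_unit_order (k s : ℕ) (h : Fintype.card F - 1 = k * s) (hs : s ≠ 0) :
    ∃ u : Fˣ, orderOf u = k := by
  obtain ⟨g, hg⟩ := IsCyclic.exists_ofOrder_eq_natCard (α := Fˣ)
  rw [Nat.card_units, Nat.card_eq_fintype_card, h] at hg
  refine ⟨g ^ s, ?_⟩
  rw [orderOf_pow_of_dvd hs (by rw [hg]; exact dvd_mul_left s k), hg]
  exact Nat.mul_div_cancel _ (Nat.pos_of_ne_zero hs)

theorem wreathed_case (P : Sylow 2 (GL (Fin 2) F)) (h : Fintype.card F % 4 = 1) :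
    Cfsg.IsWreathed (P : Subgroup (GL (Fin 2) F)) := by
  have h2 : (2 : F) ≠ 0 := two_ne_zero_of_odd (by omega)
  have hq1 : 1 < Fintype.card F := Fintype.one_lt_card
  obtain ⟨n, s, hs, hns⟩ := Nat.exists_eq_pow_mul_and_not_dvd
    (show Fintype.card F - 1 ≠ 0 by omega) 2 (by norm_num)
  have hn : 2 ≤ n := by
    by_contra hlt
    have : n = 0 ∨ n = 1 := by omega
    rcases this with rfl | rfl
    · simp at hns
      omega
    · simp at hns
      omega
  have hs0 : s ≠ 0 := by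
    rintro rfl
    exact hs (dvd_zero 2)
  obtain ⟨u, hu⟩ := exists_unit_order (F := F) (2 ^ n) s hns hs0
  obtain ⟨r, hr⟩ : ∃ r, Fintype.card F + 1 = 2 * r := ⟨(Fintype.card F + 1) / 2, by omega⟩
  have hr2 : ¬ 2 ∣ r := by omega
  have hcard : Nat.card P = 2 ^ (2 * n + 1) := by
    apply card_sylow_of_factor P (2 * n + 1) (s * s * r * Fintype.card F)
    · intro hd
      rcases (Nat.Prime.dvd_mul Nat.prime_two).mp hd with hd | hd
      · rcases (Nat.Prime.dvd_mul Nat.prime_two).mp hd with hd | hd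
        · rcases (Nat.Prime.dvd_mul Nat.prime_two).mp hd with hd | hd
          · exact hs hd
          · exact hs hd
        · exact hr2 hd
      · omega
    · rw [card_GL2]
      have e1 : Fintype.card F = 2 ^ n * s + 1 := by omega
      have e2 : 2 ^ n * s + 2 = 2 * r := by omega
      rw [e1]
      have e3 : (2 ^ n * s + 1) ^ 2 - 1 = (2 ^ n * s) * (2 * r) := by
        rw [← e2]
        apply Nat.sub_eq_of_eq_add
        ring
      have e4 : (2 ^ n * s + 1) ^ 2 - (2 ^ n * s + 1) = (2 ^ n * s) * (2 ^ n * s + 1) := by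
        apply Nat.sub_eq_of_eq_add
        ring
      rw [e3, e4]
      ring
  refine wr_of_elements P n hn hcard (dg (u, 1)) (dg (1, u)) (sw h2) ?_ ?_ (dg_disjoint u)
    (sw_order h2) (sw_conj h2 u)
  · rw [orderOf_injective dg dg_injective, Prod.orderOf_mk, hu]
    simp
  · rw [← map_mul, ← map_mul]
    congr 1
    simp

end Wr

section QD

variable {F : Type*} [Field F]

def Jm : GL (Fin 2) F := mk2 0 (-1) 1 0 (by simp)

def Cn : Subgroup (GL (Fin 2) F) := Subgroup.centralizer {Jm}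

theorem mem_Cn_iff (g : GL (Fin 2) F) :
    g ∈ (Cn : Subgroup (GL (Fin 2) F)) ↔
      (g : Matrix (Fin 2) (Fin 2) F) 1 1 = (g : Matrix (Fin 2) (Fin 2) F) 0 0 ∧
      (g : Matrix (Fin 2) (Fin 2) F) 0 1 = - (g : Matrix (Fin 2) (Fin 2) F) 1 0 := by
  unfold Cn
  rw [Subgroup.mem_centralizer_singleton_iff]
  constructor
  · intro h
    have h' := congrArg (fun g : GL (Fin 2) F => (g : Matrix (Fin 2) (Fin 2) F)) h
    simp only [Units.val_mul, Jm, mk2_val] at h'
    have h00 := congrFun (congrFun h' 0) 0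
    have h10 := congrFun (congrFun h' 1) 0
    simp [Matrix.mul_apply, Fin.sum_univ_two] at h00 h10
    constructor
    · rw [← h10]
    · rw [h00]
  · rintro ⟨h1, h2⟩
    apply Units.ext
    ext i j
    fin_cases i <;> fin_cases j <;>
      simp [Jm, Matrix.mul_apply, Fin.sum_univ_two, h1, h2]

theorem sumsq (hns : ¬ IsSquare (-1 : F)) (a b : F) (h : a * a + b * b = 0) : a = 0 ∧ b = 0 := by
  by_cases hb : b = 0
  · subst hb
    simp at h
    exact ⟨h, rfl⟩
  · exfalso
    apply hns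
    refine ⟨a / b, ?_⟩
    field_simp
    linear_combination -h

theorem mk_mem_Cn (a b : F) (h : a * a - (-b) * b ≠ 0) : mk2 a (-b) b a h ∈ (Cn : Subgroup (GL (Fin 2) F)) := by
  rw [mem_Cn_iff]
  simp

noncomputable def CnEquiv (hns : ¬ IsSquare (-1 : F)) :
    ↥(Cn : Subgroup (GL (Fin 2) F)) ≃ {v : F × F // v ≠ 0} where
  toFun g := ⟨((g.1 : Matrix (Fin 2) (Fin 2) F) 0 0, (g.1 : Matrix (Fin 2) (Fin 2) F) 1 0), by
    intro h
    have h0 : (g.1 : Matrix (Fin 2) (Fin 2) F) 0 0 = 0 := congrArg Prod.fst h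
    have h1 : (g.1 : Matrix (Fin 2) (Fin 2) F) 1 0 = 0 := congrArg Prod.snd h
    obtain ⟨e1, e2⟩ := (mem_Cn_iff g.1).mp g.2
    have hdet : (g.1 : Matrix (Fin 2) (Fin 2) F).det = 0 := by
      rw [Matrix.det_fin_two, e1, e2, h0, h1]
      simp
    have hu : IsUnit (g.1 : Matrix (Fin 2) (Fin 2) F).det := by
      rw [← Matrix.isUnit_iff_isUnit_det]
      exact g.1.isUnit
    rw [hdet] at hu
    exact not_isUnit_zero hu⟩
  invFun v := ⟨mk2 v.1.1 (-v.1.2) v.1.2 v.1.1 (by
    intro h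
    have := sumsq hns v.1.1 v.1.2 (by linear_combination h)
    exact v.2 (Prod.ext this.1 this.2)), mk_mem_Cn _ _ _⟩
  left_inv g := by
    obtain ⟨e1, e2⟩ := (mem_Cn_iff g.1).mp g.2
    apply Subtype.ext
    apply Units.ext
    ext i j
    fin_cases i <;> fin_cases j <;> simp [e1, e2]
  right_inv v := by
    apply Subtype.ext
    simp

theorem card_Cn [Fintype F] (hns : ¬ IsSquare (-1 : F)) :
    Nat.card ↥(Cn : Subgroup (GL (Fin 2) F)) = Fintype.card F ^ 2 - 1 := by
  classical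
  rw [Nat.card_congr (CnEquiv hns)]
  have := Set.card_ne_eq (0 : F × F)
  rw [Fintype.card_prod] at this
  rw [pow_two, ← this, Nat.card_eq_fintype_card]
  rfl

noncomputable def phi {K : Type*} [Field K] [Algebra F K] (i : K) (hi : i * i = -1) :
    ↥(Cn : Subgroup (GL (Fin 2) F)) →* K where
  toFun g := algebraMap F K ((g.1 : Matrix (Fin 2) (Fin 2) F) 0 0) +
    algebraMap F K ((g.1 : Matrix (Fin 2) (Fin 2) F) 1 0) * i
  map_one' := by simp
  map_mul' g h := by
    obtain ⟨e1, e2⟩ := (mem_Cn_iff g.1).mp g.2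
    simp only [Subgroup.coe_mul, Units.val_mul, Matrix.mul_apply, Fin.sum_univ_two, e1, e2,
      map_add, map_mul, map_neg]
    linear_combination (-(algebraMap F K ((g.1 : Matrix (Fin 2) (Fin 2) F) 1 0)) *
      (algebraMap F K ((h.1 : Matrix (Fin 2) (Fin 2) F) 1 0))) * hi

theorem phi_injective (hns : ¬ IsSquare (-1 : F)) {K : Type*} [Field K] [Algebra F K] (i : K)
    (hi : i * i = -1) : Function.Injective (phi (F := F) i hi) := by
  intro g h hgh
  have hgh' : algebraMap F K ((g.1 : Matrix (Fin 2) (Fin 2) F) 0 0) +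
      algebraMap F K ((g.1 : Matrix (Fin 2) (Fin 2) F) 1 0) * i =
      algebraMap F K ((h.1 : Matrix (Fin 2) (Fin 2) F) 0 0) +
      algebraMap F K ((h.1 : Matrix (Fin 2) (Fin 2) F) 1 0) * i := hgh
  obtain ⟨e1, e2⟩ := (mem_Cn_iff g.1).mp g.2
  obtain ⟨f1, f2⟩ := (mem_Cn_iff h.1).mp h.2
  have hinj : Function.Injective (algebraMap F K) := (algebraMap F K).injective
  have h10 : (g.1 : Matrix (Fin 2) (Fin 2) F) 1 0 = (h.1 : Matrix (Fin 2) (Fin 2) F) 1 0 := by
    by_contra hne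
    apply hns
    have hd : (g.1 : Matrix (Fin 2) (Fin 2) F) 1 0 - (h.1 : Matrix (Fin 2) (Fin 2) F) 1 0 ≠ 0 :=
      sub_ne_zero.mpr hne
    refine ⟨((h.1 : Matrix (Fin 2) (Fin 2) F) 0 0 - (g.1 : Matrix (Fin 2) (Fin 2) F) 0 0) /
      ((g.1 : Matrix (Fin 2) (Fin 2) F) 1 0 - (h.1 : Matrix (Fin 2) (Fin 2) F) 1 0), ?_⟩
    apply hinj
    have hd' : algebraMap F K ((g.1 : Matrix (Fin 2) (Fin 2) F) 1 0 -
        (h.1 : Matrix (Fin 2) (Fin 2) F) 1 0) ≠ 0 := by
      rw [Ne, map_eq_zero]; exact hd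
    have hi' : i = algebraMap F K (((h.1 : Matrix (Fin 2) (Fin 2) F) 0 0 -
        (g.1 : Matrix (Fin 2) (Fin 2) F) 0 0) /
      ((g.1 : Matrix (Fin 2) (Fin 2) F) 1 0 - (h.1 : Matrix (Fin 2) (Fin 2) F) 1 0)) := by
      rw [map_div₀, eq_div_iff hd']
      simp only [map_sub]
      linear_combination hgh'
    rw [map_mul, ← hi', hi]
    simp
  have h00 : (g.1 : Matrix (Fin 2) (Fin 2) F) 0 0 = (h.1 : Matrix (Fin 2) (Fin 2) F) 0 0 := by
    apply hinj
    rw [h10] at hgh'
    exact add_right_cancel hgh'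
  apply Subtype.ext
  apply Units.ext
  ext i j
  fin_cases i <;> fin_cases j <;> simp [e1, e2, f1, f2, h00, h10]

theorem isCyclic_Cn [Fintype F] (hns : ¬ IsSquare (-1 : F)) :
    IsCyclic ↥(Cn : Subgroup (GL (Fin 2) F)) := by
  obtain ⟨i, hi⟩ := IsAlgClosed.exists_pow_nat_eq (-1 : AlgebraicClosure F) (n := 2) (by norm_num)
  rw [pow_two] at hi
  exact isCyclic_of_injective_ringHom (phi (F := F) i hi) (phi_injective hns i hi)

theorem Cn_sq_one (h2 : (2 : F) ≠ 0) (hns : ¬ IsSquare (-1 : F)) (c : GL (Fin 2) F)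
    (hc : c ∈ (Cn : Subgroup (GL (Fin 2) F))) (h : c * c = 1) : c = 1 ∨ c = -1 := by
  obtain ⟨e1, e2⟩ := (mem_Cn_iff c).mp hc
  have h' := congrArg (fun g : GL (Fin 2) F => (g : Matrix (Fin 2) (Fin 2) F)) h
  simp only [Units.val_mul, Units.val_one] at h'
  have h00 := congrFun (congrFun h' 0) 0
  have h10 := congrFun (congrFun h' 1) 0
  simp [Matrix.mul_apply, Fin.sum_univ_two, e1, e2] at h00 h10
  have hab : (c : Matrix (Fin 2) (Fin 2) F) 0 0 * (c : Matrix (Fin 2) (Fin 2) F) 1 0 = 0 := by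
    have : (2 : F) * ((c : Matrix (Fin 2) (Fin 2) F) 0 0 * (c : Matrix (Fin 2) (Fin 2) F) 1 0) = 0 := by
      linear_combination h10
    exact (mul_eq_zero.mp this).resolve_left h2
  rcases mul_eq_zero.mp hab with ha | hb
  · exfalso
    apply hns
    refine ⟨(c : Matrix (Fin 2) (Fin 2) F) 1 0, ?_⟩
    rw [ha] at h00
    linear_combination h00
  · rw [hb] at h00
    simp at h00
    rcases mul_self_eq_one_iff.mp h00 with ha | ha
    · left
      apply Units.ext
      ext i j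
      fin_cases i <;> fin_cases j <;> simp [e1, e2, ha, hb]
    · right
      apply Units.ext
      ext i j
      fin_cases i <;> fin_cases j <;> simp [e1, e2, ha, hb]

def yD (h2 : (2 : F) ≠ 0) : GL (Fin 2) F := mk2 1 0 0 (-1) (by simp)

theorem yD_order (h2 : (2 : F) ≠ 0) : orderOf (yD h2) = 2 := by
  apply orderOf_eq_prime
  · apply Units.ext
    ext i j
    fin_cases i <;> fin_cases j <;> simp [yD, pow_two, Matrix.mul_apply, Fin.sum_univ_two]
  · intro h
    have h' := congrArg (fun g : GL (Fin 2) F => (g : Matrix (Fin 2) (Fin 2) F) 1 1) h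
    simp [yD] at h'
    apply h2
    linear_combination -h'

theorem yD_conj (h2 : (2 : F) ≠ 0) (x : GL (Fin 2) F)
    (hx : x ∈ (Cn : Subgroup (GL (Fin 2) F)))
    (hdet : (x : Matrix (Fin 2) (Fin 2) F).det = -1) :
    yD h2 * x * (yD h2)⁻¹ * x = -1 := by
  obtain ⟨e1, e2⟩ := (mem_Cn_iff x).mp hx
  rw [Matrix.det_fin_two, e1, e2] at hdet
  have hy : (yD h2)⁻¹ = yD h2 := by
    apply inv_eq_of_mul_eq_one_right
    apply Units.ext
    ext i j
    fin_cases i <;> fin_cases j <;> simp [yD, Matrix.mul_apply, Fin.sum_univ_two]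
  rw [hy]
  obtain ⟨a, ha⟩ : ∃ a, a = (x : Matrix (Fin 2) (Fin 2) F) 0 0 := ⟨_, rfl⟩
  obtain ⟨b, hb⟩ : ∃ b, b = (x : Matrix (Fin 2) (Fin 2) F) 1 0 := ⟨_, rfl⟩
  rw [← ha, ← hb] at hdet
  have hx' : (x : Matrix (Fin 2) (Fin 2) F) = !![a, -b; b, a] := by
    ext i j
    fin_cases i <;> fin_cases j <;> simp [e1, e2, ha, hb]
  apply Units.ext
  rw [Units.val_mul, Units.val_mul, Units.val_mul, Units.val_neg, Units.val_one, hx']
  simp only [yD, mk2_val, Matrix.mul_fin_two, Matrix.one_fin_two]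
  ext i j
  fin_cases i <;> fin_cases j <;> simp <;>
    first | ring1 | linear_combination hdet | linear_combination -hdet

end QD

section QDmain

variable {F : Type*} [Field F] [Fintype F]

theorem qd_case (P : Sylow 2 (GL (Fin 2) F)) (h : Fintype.card F % 4 = 3) :
    Cfsg.IsQuasiDihedral (P : Subgroup (GL (Fin 2) F)) := by
  have h2 : (2 : F) ≠ 0 := two_ne_zero_of_odd (by omega)
  have hns : ¬ IsSquare (-1 : F) := by
    rw [FiniteField.isSquare_neg_one_iff]
    simpa using h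
  have hq1 : 1 < Fintype.card F := Fintype.one_lt_card
  obtain ⟨m, r, hr, hmr⟩ := Nat.exists_eq_pow_mul_and_not_dvd
    (show Fintype.card F + 1 ≠ 0 by omega) 2 (by norm_num)
  have hm : 2 ≤ m := by
    by_contra hlt
    have : m = 0 ∨ m = 1 := by omega
    rcases this with rfl | rfl
    · simp at hmr
      omega
    · simp at hmr
      omega
  obtain ⟨s, hs⟩ : ∃ s, Fintype.card F - 1 = 2 * s := ⟨(Fintype.card F - 1) / 2, by omega⟩
  have hs2 : ¬ 2 ∣ s := by omega
  have e1 : Fintype.card F = 2 * s + 1 := by omega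
  have e2 : 2 * s + 2 = 2 ^ m * r := by omega
  have e3 : (2 * s + 1) ^ 2 - 1 = (2 * s) * (2 ^ m * r) := by
    rw [← e2]
    apply Nat.sub_eq_of_eq_add
    ring
  have hcard : Nat.card P = 2 ^ (m + 1 + 1) := by
    apply card_sylow_of_factor P (m + 1 + 1) (s * s * r * Fintype.card F)
    · intro hd
      rcases (Nat.Prime.dvd_mul Nat.prime_two).mp hd with hd | hd
      · rcases (Nat.Prime.dvd_mul Nat.prime_two).mp hd with hd | hd
        · rcases (Nat.Prime.dvd_mul Nat.prime_two).mp hd with hd | hd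
          · exact hs2 hd
          · exact hs2 hd
        · exact hr hd
      · omega
    · rw [card_GL2, e1]
      have e4 : (2 * s + 1) ^ 2 - (2 * s + 1) = (2 * s) * (2 * s + 1) := by
        apply Nat.sub_eq_of_eq_add
        ring
      rw [e3, e4]
      ring
  haveI := isCyclic_Cn (F := F) hns
  obtain ⟨g, hg⟩ := IsCyclic.exists_ofOrder_eq_natCard (α := ↥(Cn : Subgroup (GL (Fin 2) F)))
  rw [card_Cn hns] at hg
  have hq2 : Fintype.card F ^ 2 - 1 = 2 ^ (m + 1) * (r * s) := by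
    rw [e1, e3]
    ring
  have hr0 : r ≠ 0 := by
    rintro rfl
    exact hr (dvd_zero 2)
  have hs0 : s ≠ 0 := by
    rintro rfl
    exact hs2 (dvd_zero 2)
  have hrs : r * s ≠ 0 := mul_ne_zero hr0 hs0
  obtain ⟨xc, hxc⟩ : ∃ xc : ↥(Cn : Subgroup (GL (Fin 2) F)), xc = g ^ (r * s) := ⟨_, rfl⟩
  have hxo : orderOf xc = 2 ^ (m + 1) := by
    rw [hxc, orderOf_pow_of_dvd hrs (by rw [hg, hq2]; exact dvd_mul_left _ _), hg, hq2]
    exact Nat.mul_div_cancel _ (Nat.pos_of_ne_zero hrs)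
  have hxo' : orderOf (xc : GL (Fin 2) F) = 2 ^ (m + 1) := by
    rw [Subgroup.orderOf_coe]
    exact hxo
  have hpow : (xc : GL (Fin 2) F) ^ (2 ^ m) = -1 := by
    have hmem : (xc : GL (Fin 2) F) ^ (2 ^ m) ∈ (Cn : Subgroup (GL (Fin 2) F)) :=
      Subgroup.pow_mem _ xc.2 _
    have hsq : (xc : GL (Fin 2) F) ^ (2 ^ m) * (xc : GL (Fin 2) F) ^ (2 ^ m) = 1 := by
      rw [← pow_add, ← two_mul, ← pow_succ', ← hxo']
      exact pow_orderOf_eq_one _
    rcases Cn_sq_one h2 hns _ hmem hsq with h1 | h1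
    · exfalso
      have hd := orderOf_dvd_of_pow_eq_one h1
      rw [hxo'] at hd
      have hle := Nat.le_of_dvd (by positivity) hd
      rw [pow_succ] at hle
      have : 0 < 2 ^ m := by positivity
      omega
    · exact h1
  have hdet : (xc.1 : Matrix (Fin 2) (Fin 2) F).det = -1 := by
    obtain ⟨d, hd⟩ : ∃ d, d = (xc.1 : Matrix (Fin 2) (Fin 2) F).det := ⟨_, rfl⟩
    rw [← hd]
    have hd0 : d ≠ 0 := by
      have hu : IsUnit (xc.1 : Matrix (Fin 2) (Fin 2) F).det := by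
        rw [← Matrix.isUnit_iff_isUnit_det]
        exact xc.1.isUnit
      rw [hd]
      exact hu.ne_zero
    have hd1 : d ^ (2 ^ (m + 1)) = 1 := by
      rw [hd, ← Matrix.det_pow, ← Units.val_pow_eq_pow_val, ← hxo', pow_orderOf_eq_one]
      simp
    have hd2 : d ^ (2 * s) = 1 := by
      rw [← hs]
      exact FiniteField.pow_card_sub_one_eq_one d hd0
    have hd3 : d ^ 2 = 1 := by
      have o1 := orderOf_dvd_of_pow_eq_one hd1
      have o2 := orderOf_dvd_of_pow_eq_one hd2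
      have o3 := Nat.dvd_gcd o1 o2
      have hgcd : Nat.gcd (2 ^ (m + 1)) (2 * s) = 2 := by
        rw [pow_succ', Nat.gcd_mul_left]
        have : Nat.Coprime (2 ^ m) s :=
          Nat.Coprime.pow_left _ ((Nat.Prime.coprime_iff_not_dvd Nat.prime_two).mpr hs2)
        rw [this.gcd_eq_one]
      rw [hgcd] at o3
      exact orderOf_dvd_iff_pow_eq_one.mp o3
    rw [pow_two] at hd3
    rcases mul_self_eq_one_iff.mp hd3 with h1 | h1
    · exfalso
      rw [hd] at h1
      obtain ⟨x', hx'⟩ : ∃ x' : Matrix.SpecialLinearGroup (Fin 2) F,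
          Matrix.SpecialLinearGroup.toGL x' = xc.1 := ⟨⟨xc.1.1, h1⟩, Units.ext rfl⟩
      have ho : orderOf x' = 2 ^ (m + 1) := by
        rw [← orderOf_injective _ Matrix.SpecialLinearGroup.toGL_injective x', hx', hxo']
      obtain ⟨p, hp⟩ := CharP.exists F
      haveI := hp
      haveI : Fact p.Prime := ⟨CharP.char_is_prime F p⟩
      have hp2 : p ≠ 2 := by
        rintro rfl
        apply h2
        have := CharP.cast_eq_zero F 2
        exact_mod_cast this
      have hcop : Nat.Coprime (orderOf x') p := by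
        rw [ho]
        apply Nat.Coprime.pow_left
        exact (Nat.coprime_primes Nat.prime_two Fact.out).mpr (Ne.symm hp2)
      rcases Cfsg.Agent.S0800.result rfl p x' hcop with hdv | hdv
      · rw [ho, hs, pow_succ'] at hdv
        have := Nat.dvd_of_mul_dvd_mul_left (by norm_num) hdv
        exact hs2 (dvd_trans (dvd_pow_self 2 (by omega)) this)
      · rw [ho, hmr, pow_succ] at hdv
        exact hr (Nat.dvd_of_mul_dvd_mul_left (by positivity) hdv)
    · exact h1
  refine qd_of_elements P (m + 1) (by omega) hcard (xc : GL (Fin 2) F) (yD h2) hxo'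
    (yD_order h2) ?_
  have e := yD_conj h2 _ xc.2 hdet
  rw [Nat.add_sub_cancel, pow_sub _ Nat.one_le_two_pow, pow_one, hpow, ← e]
  group

end QDmain

/-- Let F be a finite field with q elements, q odd, and P a Sylow 2-subgroup of GL(2,F). If q ≡ 3 (mod 4) then P is quasi-dihedral; if q ≡ 1 (mod 4) then P is wreathed. -/
theorem result {F : Type*} [Field F] [Fintype F] (P : Sylow 2 (GL (Fin 2) F)) : (Fintype.card F % 4 = 3 → Cfsg.IsQuasiDihedral (P : Subgroup (GL (Fin 2) F))) ∧ (Fintype.card F % 4 = 1 → Cfsg.IsWreathed (P : Subgroup (GL (Fin 2) F))) := by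
  exact ⟨qd_case P, wreathed_case P⟩

end Cfsg.Agent.S1217
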