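import Cfsg.Statements.S1218

import Cfsg.Agent.S1217
import Cfsg.Agent.Lib.Lead.Unitary
set_option autoImplicit false
open scoped MatrixGroups
open Cfsg

namespace Cfsg.Agent.S1218


open Cfsg.Agent.S1217
open Cfsg.Agent.Lib.Lead

section Gen

theorem zpowers_disjoint_sub {G : Type*} [Group G] (H : Subgroup G) (a b : H)
    (h : Subgroup.zpowers (a : G) ⊓ Subgroup.zpowers (b : G) = ⊥) :
    Subgroup.zpowers a ⊓ Subgroup.zpowers b = ⊥ := by
  rw [eq_bot_iff]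
  intro c hc
  obtain ⟨hc1, hc2⟩ := Subgroup.mem_inf.mp hc
  obtain ⟨i, hi⟩ := Subgroup.mem_zpowers_iff.mp hc1
  obtain ⟨j, hj⟩ := Subgroup.mem_zpowers_iff.mp hc2
  have hmem : (c : G) ∈ Subgroup.zpowers (a : G) ⊓ Subgroup.zpowers (b : G) := by
    refine Subgroup.mem_inf.mpr ⟨?_, ?_⟩
    · rw [← hi]
      simpa using Subgroup.zpow_mem _ (Subgroup.mem_zpowers (a : G)) i
    · rw [← hj]
      simpa using Subgroup.zpow_mem _ (Subgroup.mem_zpowers (b : G)) j
  rw [h, Subgroup.mem_bot] at hmem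
  rw [Subgroup.mem_bot]
  exact Subtype.ext hmem

end Gen

section GU

variable {F : Type*} [Field F] [Fintype F] {q : ℕ}

theorem card_GU2 (hF : Fintype.card F = q ^ 2) :
    Nat.card (Cfsg.GU 2 F q) = q * (q - 1) * (q + 1) * (q + 1) := by
  classical
  have hq := two_le_q hF
  rw [card_GU_eq_prod hF]
  simp only [Finset.prod_range_succ, Finset.prod_range_zero, hermAB]
  obtain ⟨t, rfl⟩ : ∃ t, q = t + 2 := ⟨q - 2, by omega⟩
  have e1 : (t + 2) ^ 2 - (t + 2 + 1) = t * t + 3 * t + 1 := by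
    apply Nat.sub_eq_of_eq_add
    ring
  have e2 : t + 2 - 1 = t + 1 := by omega
  simp only [e1, e2]
  ring

theorem mem_GU2_iff (σ : F →+* F) (hσ : ∀ x, σ x = x ^ q) (g : GL (Fin 2) F) :
    g ∈ Cfsg.GU 2 F q ↔
      (g : Matrix (Fin 2) (Fin 2) F).transpose * (g : Matrix (Fin 2) (Fin 2) F).map σ = 1 :=
  preserves_iff σ hσ (g : Matrix (Fin 2) (Fin 2) F)

theorem dg_mem (σ : F →+* F) (hσ : ∀ x, σ x = x ^ q) (u v : Fˣ) (hu : u ^ (q + 1) = 1)
    (hv : v ^ (q + 1) = 1) : dg (u, v) ∈ Cfsg.GU 2 F q := by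
  rw [mem_GU2_iff σ hσ, dg_val]
  have hu' : (u : F) * σ (u : F) = 1 := by
    rw [hσ, ← pow_succ', ← Units.val_pow_eq_pow_val, hu, Units.val_one]
  have hv' : (v : F) * σ (v : F) = 1 := by
    rw [hσ, ← pow_succ', ← Units.val_pow_eq_pow_val, hv, Units.val_one]
  ext i j
  fin_cases i <;> fin_cases j <;>
    simp [Matrix.mul_apply, Fin.sum_univ_two, hu', hv']

theorem sw_mem (σ : F →+* F) (hσ : ∀ x, σ x = x ^ q) (h2 : (2 : F) ≠ 0) :
    sw h2 ∈ Cfsg.GU 2 F q := by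
  rw [mem_GU2_iff σ hσ]
  ext i j
  fin_cases i <;> fin_cases j <;>
    simp [sw, Matrix.mul_apply, Fin.sum_univ_two]

end GU

section WrU

variable {F : Type*} [Field F] [Fintype F] {q : ℕ}

theorem card_F_odd (hF : Fintype.card F = q ^ 2) (hq : q % 2 = 1) : Fintype.card F % 2 = 1 := by
  rw [hF, Nat.pow_mod, hq]

theorem wreathed_case (hF : Fintype.card F = q ^ 2) (P : Sylow 2 ↥(Cfsg.GU 2 F q))
    (h : q % 4 = 3) : Cfsg.IsWreathed (P : Subgroup ↥(Cfsg.GU 2 F q)) := by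
  have h2 : (2 : F) ≠ 0 := two_ne_zero_of_odd (card_F_odd hF (by omega))
  obtain ⟨σ, hσ⟩ := exists_frob hF
  obtain ⟨n, r, hr, hnr⟩ := Nat.exists_eq_pow_mul_and_not_dvd
    (show q + 1 ≠ 0 by omega) 2 (by norm_num)
  have hn : 2 ≤ n := by
    by_contra hlt
    have : n = 0 ∨ n = 1 := by omega
    rcases this with rfl | rfl
    · simp at hnr
      omega
    · simp at hnr
      omega
  obtain ⟨s, hs⟩ : ∃ s, q - 1 = 2 * s := ⟨(q - 1) / 2, by omega⟩
  have hs2 : ¬ 2 ∣ s := by omega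
  have e1 : q = 2 * s + 1 := by omega
  have hr0 : r ≠ 0 := by
    rintro rfl
    exact hr (dvd_zero 2)
  have hcF : Fintype.card F - 1 = 2 ^ n * (r * (q - 1)) := by
    rw [hF]
    have : q ^ 2 = (q - 1) * (q + 1) + 1 := by
      rw [e1]
      simp only [Nat.add_sub_cancel]
      ring
    rw [this, Nat.add_sub_cancel, hnr]
    ring
  obtain ⟨u, hu⟩ := exists_unit_order (F := F) (2 ^ n) (r * (q - 1)) hcF
    (mul_ne_zero hr0 (by omega))
  have hu1 : u ^ (q + 1) = 1 := by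
    rw [← orderOf_dvd_iff_pow_eq_one, hu, hnr]
    exact dvd_mul_right _ _
  have hcard : Nat.card P = 2 ^ (2 * n + 1) := by
    apply card_sylow_of_factor P (2 * n + 1) (q * s * r * r)
    · intro hd
      rcases (Nat.Prime.dvd_mul Nat.prime_two).mp hd with hd | hd
      · rcases (Nat.Prime.dvd_mul Nat.prime_two).mp hd with hd | hd
        · rcases (Nat.Prime.dvd_mul Nat.prime_two).mp hd with hd | hd
          · omega
          · exact hs2 hd
        · exact hr hd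
      · exact hr hd
    · rw [card_GU2 hF, hs, hnr]
      ring
  have hx : dg (u, 1) ∈ Cfsg.GU 2 F q := dg_mem σ hσ u 1 hu1 (one_pow _)
  have hy : dg (1, u) ∈ Cfsg.GU 2 F q := dg_mem σ hσ 1 u (one_pow _) hu1
  have hz : sw h2 ∈ Cfsg.GU 2 F q := sw_mem σ hσ h2
  refine wr_of_elements P n hn hcard ⟨dg (u, 1), hx⟩ ⟨dg (1, u), hy⟩ ⟨sw h2, hz⟩ ?_ ?_ ?_ ?_ ?_
  · rw [Subgroup.orderOf_mk, orderOf_injective dg dg_injective, Prod.orderOf_mk, hu]
    simp
  · apply Subtype.ext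
    show dg (u, 1) * dg (1, u) = dg (1, u) * dg (u, 1)
    rw [← map_mul, ← map_mul]
    congr 1
    simp
  · exact zpowers_disjoint_sub _ _ _ (dg_disjoint u)
  · rw [Subgroup.orderOf_mk]
    exact sw_order h2
  · apply Subtype.ext
    exact sw_conj h2 u

end WrU

section QDU

variable {F : Type*} [Field F] [Fintype F]

def Xm (h2 : (2 : F) ≠ 0) (l : Fˣ) : Fˣ × Fˣ →* GL (Fin 2) F where
  toFun w := mk2 (((w.1 : F) + (w.2 : F)) / 2) (((w.1 : F) - (w.2 : F)) / (2 * (l : F)))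
    ((l : F) * ((w.1 : F) - (w.2 : F)) / 2) (((w.1 : F) + (w.2 : F)) / 2) (by
      have hl : (l : F) ≠ 0 := l.ne_zero
      have : ((w.1 : F) + (w.2 : F)) / 2 * ((((w.1 : F) + (w.2 : F)) / 2)) -
          ((w.1 : F) - (w.2 : F)) / (2 * (l : F)) * ((l : F) * ((w.1 : F) - (w.2 : F)) / 2) =
          (w.1 : F) * (w.2 : F) := by
        field_simp
        ring
      rw [this]
      exact mul_ne_zero w.1.ne_zero w.2.ne_zero)
  map_one' := by
    have hl : (l : F) ≠ 0 := l.ne_zero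
    apply Units.ext
    ext i j
    fin_cases i <;> fin_cases j <;> simp <;> field_simp <;> ring
  map_mul' w w' := by
    have hl : (l : F) ≠ 0 := l.ne_zero
    apply Units.ext
    ext i j
    fin_cases i <;> fin_cases j <;>
      simp [Matrix.mul_apply, Fin.sum_univ_two] <;> field_simp <;> ring

theorem Xm_val (h2 : (2 : F) ≠ 0) (l : Fˣ) (w : Fˣ × Fˣ) :
    ((Xm h2 l w : GL (Fin 2) F) : Matrix (Fin 2) (Fin 2) F) =
      !![((w.1 : F) + (w.2 : F)) / 2, ((w.1 : F) - (w.2 : F)) / (2 * (l : F));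
        (l : F) * ((w.1 : F) - (w.2 : F)) / 2, ((w.1 : F) + (w.2 : F)) / 2] := rfl

theorem Xm_injective (h2 : (2 : F) ≠ 0) (l : Fˣ) : Function.Injective (Xm h2 l) := by
  intro w w' h
  have hl : (l : F) ≠ 0 := l.ne_zero
  have h' := congrArg (fun g : GL (Fin 2) F => (g : Matrix (Fin 2) (Fin 2) F)) h
  simp only [Xm_val] at h'
  have h00 := congrFun (congrFun h' 0) 0
  have h10 := congrFun (congrFun h' 1) 0
  simp at h00 h10
  have e1 : (w.1 : F) + (w.2 : F) = (w'.1 : F) + (w'.2 : F) := by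
    field_simp at h00
    exact h00
  have e2 : (w.1 : F) - (w.2 : F) = (w'.1 : F) - (w'.2 : F) := by
    field_simp at h10
    exact h10
  have f1 : (w.1 : F) = (w'.1 : F) := by
    have : (2 : F) * (w.1 : F) = 2 * (w'.1 : F) := by linear_combination e1 + e2
    exact mul_left_cancel₀ h2 this
  have f2 : (w.2 : F) = (w'.2 : F) := by
    have : (2 : F) * (w.2 : F) = 2 * (w'.2 : F) := by linear_combination e1 - e2
    exact mul_left_cancel₀ h2 this
  exact Prod.ext (Units.ext f1) (Units.ext f2)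

theorem yD_Xm (h2 : (2 : F) ≠ 0) (l : Fˣ) (u v : Fˣ) :
    yD h2 * Xm h2 l (u, v) * (yD h2)⁻¹ = Xm h2 l (v, u) := by
  have hl : (l : F) ≠ 0 := l.ne_zero
  rw [mul_inv_eq_iff_eq_mul]
  apply Units.ext
  ext i j
  fin_cases i <;> fin_cases j <;>
    simp [yD, Xm_val, Matrix.mul_apply, Fin.sum_univ_two] <;> field_simp <;> ring

theorem Xm_mem {q : ℕ} (σ : F →+* F) (hσ : ∀ x, σ x = x ^ q) (h2 : (2 : F) ≠ 0) (l u v : Fˣ)
    (hl : σ (l : F) = -(l : F)⁻¹) (hu : σ (u : F) = (v : F)⁻¹) (hv : σ (v : F) = (u : F)⁻¹) :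
    Xm h2 l (u, v) ∈ Cfsg.GU 2 F q := by
  have hl0 : (l : F) ≠ 0 := l.ne_zero
  have hu0 : (u : F) ≠ 0 := u.ne_zero
  have hv0 : (v : F) ≠ 0 := v.ne_zero
  have hσ2 : σ 2 = 2 := map_ofNat σ 2
  rw [mem_GU2_iff σ hσ, Xm_val]
  ext i j
  fin_cases i <;> fin_cases j <;>
    simp [Matrix.mul_apply, Fin.sum_univ_two, hl, hu, hv, hσ2] <;> field_simp <;> ring

theorem yD_mem {q : ℕ} (σ : F →+* F) (hσ : ∀ x, σ x = x ^ q) (h2 : (2 : F) ≠ 0) :
    yD h2 ∈ Cfsg.GU 2 F q := by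
  rw [mem_GU2_iff σ hσ]
  ext i j
  fin_cases i <;> fin_cases j <;>
    simp [yD, Matrix.mul_apply, Fin.sum_univ_two]

end QDU

section QDUmain

variable {F : Type*} [Field F] [Fintype F] {q : ℕ}

theorem unit_sq_one (w : Fˣ) (h : w ^ 2 = 1) (h1 : w ≠ 1) : (w : F) = -1 := by
  have h' : (w : F) * (w : F) = 1 := by
    rw [← pow_two, ← Units.val_pow_eq_pow_val, h, Units.val_one]
  rcases mul_self_eq_one_iff.mp h' with h3 | h3
  · exact absurd (Units.ext h3) h1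
  · exact h3

def rho (q : ℕ) : Fˣ →* Fˣ × Fˣ :=
  (MonoidHom.id Fˣ).prod (invMonoidHom.comp (powMonoidHom q))

theorem rho_apply (u : Fˣ) : rho q u = (u, (u ^ q)⁻¹) := rfl

theorem rho_injective : Function.Injective (rho q : Fˣ →* Fˣ × Fˣ) := by
  intro u u' h
  exact congrArg Prod.fst h

theorem qd_case (hF : Fintype.card F = q ^ 2) (P : Sylow 2 ↥(Cfsg.GU 2 F q))
    (h : q % 4 = 1) : Cfsg.IsQuasiDihedral (P : Subgroup ↥(Cfsg.GU 2 F q)) := by
  have h2 : (2 : F) ≠ 0 := two_ne_zero_of_odd (card_F_odd hF (by omega))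
  obtain ⟨σ, hσ⟩ := exists_frob hF
  have hq2 := two_le_q hF
  obtain ⟨m, s, hs, hms⟩ := Nat.exists_eq_pow_mul_and_not_dvd
    (show q - 1 ≠ 0 by omega) 2 (by norm_num)
  have hm : 2 ≤ m := by
    by_contra hlt
    have : m = 0 ∨ m = 1 := by omega
    rcases this with rfl | rfl
    · simp at hms
      omega
    · simp at hms
      omega
  obtain ⟨r, hr⟩ : ∃ r, q + 1 = 2 * r := ⟨(q + 1) / 2, by omega⟩
  have hr2 : ¬ 2 ∣ r := by omega
  have hs0 : s ≠ 0 := by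
    rintro rfl
    exact hs (dvd_zero 2)
  have hr0 : r ≠ 0 := by
    rintro rfl
    exact hr2 (dvd_zero 2)
  have hcF : Fintype.card F - 1 = (q - 1) * (q + 1) := by
    rw [hF]
    obtain ⟨k, rfl⟩ : ∃ k, q = k + 1 := ⟨q - 1, by omega⟩
    simp only [Nat.add_sub_cancel]
    apply Nat.sub_eq_of_eq_add
    ring
  obtain ⟨a, ha⟩ := exists_unit_order (F := F) (2 ^ (m + 1)) (s * r)
    (by rw [hcF, hms, hr]; ring) (mul_ne_zero hs0 hr0)
  obtain ⟨t, ht⟩ : ∃ t, q - 1 = 2 * t := ⟨(q - 1) / 2, by omega⟩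
  obtain ⟨l, hl⟩ := exists_unit_order (F := F) (2 * (q + 1)) t
    (by rw [hcF, ht]; ring) (by omega)
  have hl1 : (l : F) ^ (q + 1) = -1 := by
    have ho : orderOf (l ^ (q + 1)) = 2 := by
      rw [orderOf_pow_of_dvd (by omega) (by rw [hl]; exact dvd_mul_left _ _), hl]
      exact Nat.mul_div_cancel _ (by omega)
    have hne : l ^ (q + 1) ≠ 1 := by
      intro h1
      rw [h1, orderOf_one] at ho
      omega
    have hsq : (l ^ (q + 1)) ^ 2 = 1 := by
      rw [← ho]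
      exact pow_orderOf_eq_one _
    have := unit_sq_one _ hsq hne
    simpa using this
  have hσl : σ (l : F) = -(l : F)⁻¹ := by
    have hl0 : (l : F) ≠ 0 := l.ne_zero
    have : (l : F) ^ q * (l : F) = -1 := by
      rw [← pow_succ]
      exact hl1
    rw [hσ]
    field_simp
    linear_combination this
  obtain ⟨v, hv⟩ : ∃ v : Fˣ, v = (a ^ q)⁻¹ := ⟨_, rfl⟩
  have hvF : (v : F) = ((a : F) ^ q)⁻¹ := by
    rw [hv]
    simp
  have ha0 : (a : F) ≠ 0 := a.ne_zero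
  have hσa : σ (a : F) = (v : F)⁻¹ := by
    rw [hσ, hvF, inv_inv]
  have hσv : σ (v : F) = (a : F)⁻¹ := by
    rw [hσ, hvF, inv_pow, ← pow_mul, ← pow_two, ← hF, FiniteField.pow_card]
  have hvq : (v ^ q)⁻¹ = a := by
    apply Units.ext
    have : ((v : F) ^ q)⁻¹ = (a : F) := by
      rw [← hσ, hσv, inv_inv]
    simpa using this
  have hcard : Nat.card P = 2 ^ (m + 1 + 1) := by
    apply card_sylow_of_factor P (m + 1 + 1) (q * s * r * r)
    · intro hd
      rcases (Nat.Prime.dvd_mul Nat.prime_two).mp hd with hd | hd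
      · rcases (Nat.Prime.dvd_mul Nat.prime_two).mp hd with hd | hd
        · rcases (Nat.Prime.dvd_mul Nat.prime_two).mp hd with hd | hd
          · omega
          · exact hs hd
        · exact hr2 hd
      · exact hr2 hd
    · rw [card_GU2 hF, hms, hr]
      ring
  have hkey : a ^ (2 ^ m - 1) = v := by
    rw [hv, eq_inv_iff_mul_eq_one, ← pow_add, ← orderOf_dvd_iff_pow_eq_one, ha]
    obtain ⟨k, hk⟩ : ∃ k, s + 1 = 2 * k := ⟨(s + 1) / 2, by omega⟩
    refine ⟨k, ?_⟩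
    have h1 : 1 ≤ 2 ^ m := Nat.one_le_two_pow
    have h3 : q = 2 ^ m * s + 1 := by omega
    have h4 : 2 ^ m - 1 + q = 2 ^ m * (s + 1) := by
      rw [h3, mul_add, mul_one]
      omega
    rw [h4, hk, pow_succ]
    ring
  have hx : Xm h2 l (a, v) ∈ Cfsg.GU 2 F q := Xm_mem σ hσ h2 l a v hσl hσa hσv
  have hy : yD h2 ∈ Cfsg.GU 2 F q := yD_mem σ hσ h2
  have hxa : Xm h2 l (a, v) = ((Xm h2 l).comp (rho q)) a := by
    rw [MonoidHom.comp_apply, rho_apply, ← hv]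
  have hinj : Function.Injective ((Xm h2 l).comp (rho q)) := by
    rw [MonoidHom.coe_comp]
    exact (Xm_injective h2 l).comp rho_injective
  refine qd_of_elements P (m + 1) (by omega) hcard ⟨Xm h2 l (a, v), hx⟩ ⟨yD h2, hy⟩ ?_ ?_ ?_
  · rw [Subgroup.orderOf_mk, hxa, orderOf_injective _ hinj a, ha]
  · rw [Subgroup.orderOf_mk]
    exact yD_order h2
  · apply Subtype.ext
    show yD h2 * Xm h2 l (a, v) * (yD h2)⁻¹ = (Xm h2 l (a, v)) ^ (2 ^ (m + 1 - 1) - 1)
    rw [yD_Xm, Nat.add_sub_cancel, hxa, ← map_pow, MonoidHom.comp_apply, rho_apply, hkey, hvq]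

end QDUmain

/-- Let F be a finite field with q² elements, q odd, let GU be the subgroup of GL(2,F) preserving the Hermitian form u₁v₁^q + u₂v₂^q, and P a Sylow 2-subgroup of GU. If q ≡ 1 (mod 4) then P is quasi-dihedral; if q ≡ 3 (mod 4) then P is wreathed. -/
theorem result {F : Type*} [Field F] [Fintype F] (q : ℕ) (hF : Fintype.card F = q ^ 2) (hq : Odd q) (P : Sylow 2 ↥(Cfsg.preserving (Units.coeHom (Matrix (Fin 2) (Fin 2) F)) (Cfsg.hermForm 2 F q))) : (q % 4 = 1 → Cfsg.IsQuasiDihedral (P : Subgroup ↥(Cfsg.preserving (Units.coeHom (Matrix (Fin 2) (Fin 2) F)) (Cfsg.hermForm 2 F q)))) ∧ (q % 4 = 3 → Cfsg.IsWreathed (P : Subgroup ↥(Cfsg.preserving (Units.coeHom (Matrix (Fin 2) (Fin 2) F)) (Cfsg.hermForm 2 F q)))) := by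
  have hq' : q % 2 = 1 := Nat.odd_iff.mp hq
  exact ⟨qd_case hF P, wreathed_case hF P⟩

end Cfsg.Agent.S1218
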