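import Cfsg.Statements.S1219

import Mathlib
import Cfsg.Agent.S0243
import Cfsg.Agent.Lib.helper14.SimDiag

set_option autoImplicit false
set_option linter.unusedSectionVars false
open Cfsg
open scoped MatrixGroups

namespace Cfsg.Agent.S1219

open Cfsg.Agent.Lib.helper14

section Basic

variable {F : Type*} [Field F]

local notation "S3" => Matrix.SpecialLinearGroup (Fin 3) F
local notation "M3" => Matrix (Fin 3) (Fin 3) F
local notation "G2" => GL (Fin 2) F
local notation "M2" => Matrix (Fin 2) (Fin 2) F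

theorem center_pow_three (z : S3) (hz : z ∈ Subgroup.center S3) : z ^ 3 = 1 := by
  obtain ⟨r, hr, hzr⟩ := Matrix.SpecialLinearGroup.mem_center_iff.mp hz
  rw [Fintype.card_fin] at hr
  apply Subtype.ext
  rw [Matrix.SpecialLinearGroup.coe_pow, ← hzr, ← map_pow, hr, map_one]
  rfl

theorem center_eq_one_of_sq (z : S3) (hz : z ∈ Subgroup.center S3) (h2 : z ^ 2 = 1) : z = 1 := by
  have h3 := center_pow_three z hz
  rw [pow_succ, h2, one_mul] at h3
  exact h3

def Dm : M3 := !![-1, 0, 0; 0, -1, 0; 0, 0, 1]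

theorem Dm_det : (Dm : M3).det = 1 := by
  rw [Dm, Matrix.det_fin_three]
  simp

def DS : S3 := ⟨Dm, Dm_det⟩

theorem DS_coe : ((DS : S3) : M3) = Dm := rfl

theorem Dm_mul_self : (Dm : M3) * Dm = 1 := by
  rw [Dm, Matrix.mul_fin_three, Matrix.one_fin_three]
  simp

theorem DS_mul_self : (DS : S3) * DS = 1 := by
  apply Subtype.ext
  rw [Matrix.SpecialLinearGroup.coe_mul, DS_coe, Dm_mul_self]
  rfl

def iotaM (A : M2) : M3 := !![A 0 0, A 0 1, 0; A 1 0, A 1 1, 0; 0, 0, (A.det)⁻¹]

theorem iotaM_det (A : M2) (hA : A.det ≠ 0) : (iotaM A).det = 1 := by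
  have h := Matrix.det_fin_two A
  rw [iotaM, Matrix.det_fin_three]
  simp [Matrix.vecHead, Matrix.vecTail]
  rw [← sub_mul, ← h, mul_inv_cancel₀ hA]

theorem iotaM_mul (A B : M2) : iotaM (A * B) = iotaM A * iotaM B := by
  rw [iotaM, iotaM, iotaM, Matrix.mul_fin_three, Matrix.det_mul, mul_inv]
  simp [Matrix.mul_apply, Fin.sum_univ_two]

theorem iotaM_one : iotaM (1 : M2) = 1 := by
  rw [iotaM, Matrix.one_fin_three]
  simp

def iota : G2 →* S3 where
  toFun A := ⟨iotaM (A : M2), iotaM_det _ (by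
    have := (A.isUnit.map (Matrix.detMonoidHom)).ne_zero
    exact this)⟩
  map_one' := by
    apply Subtype.ext
    exact iotaM_one
  map_mul' A B := by
    apply Subtype.ext
    exact iotaM_mul _ _

theorem iota_coe (A : G2) : ((iota A : S3) : M3) = iotaM (A : M2) := rfl

end Basic

section Cent

variable {F : Type*} [Field F]

local notation "S3" => Matrix.SpecialLinearGroup (Fin 3) F
local notation "M3" => Matrix (Fin 3) (Fin 3) F
local notation "G2" => GL (Fin 2) F
local notation "M2" => Matrix (Fin 2) (Fin 2) F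

theorem comm_Dm (h2 : (2 : F) ≠ 0) (g : M3) (h : g * Dm = Dm * g) :
    g 0 2 = 0 ∧ g 1 2 = 0 ∧ g 2 0 = 0 ∧ g 2 1 = 0 := by
  have e02 := congrFun (congrFun h 0) 2
  have e12 := congrFun (congrFun h 1) 2
  have e20 := congrFun (congrFun h 2) 0
  have e21 := congrFun (congrFun h 2) 1
  simp [Dm, Matrix.mul_apply, Fin.sum_univ_three] at e02 e12 e20 e21
  have key : ∀ x : F, x = -x → x = 0 := by
    intro x hx
    have : (2 : F) * x = 0 := by linear_combination hx
    rcases mul_eq_zero.mp this with h | h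
    · exact absurd h h2
    · exact h
  refine ⟨key _ e02, key _ e12, key _ ?_, key _ ?_⟩
  · linear_combination -e20
  · linear_combination -e21

theorem iota_comm_DS (A : G2) : iota A * DS = DS * iota A := by
  apply Subtype.ext
  rw [Matrix.SpecialLinearGroup.coe_mul, Matrix.SpecialLinearGroup.coe_mul, iota_coe, DS_coe,
    iotaM, Dm, Matrix.mul_fin_three, Matrix.mul_fin_three]
  simp

theorem exists_iota (h2 : (2 : F) ≠ 0) (g : S3) (h : g * DS = DS * g) : ∃ A : G2, iota A = g := by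
  have hm : (g : M3) * Dm = Dm * (g : M3) := by
    have := congrArg (fun x : S3 => (x : M3)) h
    simpa [Matrix.SpecialLinearGroup.coe_mul, DS_coe] using this
  obtain ⟨h02, h12, h20, h21⟩ := comm_Dm h2 (g : M3) hm
  have hdet := g.2
  rw [Matrix.det_fin_three, h02, h12, h20, h21] at hdet
  have hdet' : ((g : M3) 0 0 * (g : M3) 1 1 - (g : M3) 0 1 * (g : M3) 1 0) * (g : M3) 2 2 = 1 := by
    linear_combination hdet
  have hd0 : (!![(g : M3) 0 0, (g : M3) 0 1; (g : M3) 1 0, (g : M3) 1 1] : M2).det ≠ 0 := by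
    rw [Matrix.det_fin_two_of]
    exact left_ne_zero_of_mul_eq_one hdet'
  refine ⟨Matrix.GeneralLinearGroup.mkOfDetNeZero _ hd0, ?_⟩
  apply Subtype.ext
  rw [iota_coe]
  show iotaM (!![(g : M3) 0 0, (g : M3) 0 1; (g : M3) 1 0, (g : M3) 1 1] : M2) = (g : M3)
  rw [iotaM, Matrix.det_fin_two_of]
  have heta := Matrix.eta_fin_three (g : M3)
  rw [h02, h12, h20, h21] at heta
  have : ((g : M3) 0 0 * (g : M3) 1 1 - (g : M3) 0 1 * (g : M3) 1 0)⁻¹ = (g : M3) 2 2 :=
    inv_eq_of_mul_eq_one_right hdet'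
  rw [this]
  simp only [Matrix.of_apply, Matrix.cons_val', Matrix.cons_val_zero, Matrix.cons_val_one,
    Matrix.cons_val_fin_one, Matrix.empty_val']
  exact heta.symm

end Cent

section Phi

variable {F : Type*} [Field F]

local notation "S3" => Matrix.SpecialLinearGroup (Fin 3) F
local notation "P3" => Matrix.ProjectiveSpecialLinearGroup (Fin 3) F
local notation "M3" => Matrix (Fin 3) (Fin 3) F
local notation "G2" => GL (Fin 2) F
local notation "M2" => Matrix (Fin 2) (Fin 2) F

def mkP : S3 →* P3 := QuotientGroup.mk' (Subgroup.center S3)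

theorem mkP_surjective : Function.Surjective (mkP (F := F)) :=
  QuotientGroup.mk'_surjective _

theorem mkP_eq_one_iff (g : S3) : mkP g = 1 ↔ g ∈ Subgroup.center S3 :=
  QuotientGroup.eq_one_iff g

def phi : G2 →* P3 := mkP.comp iota

def t0 : P3 := mkP DS

theorem range_phi (h2 : (2 : F) ≠ 0) :
    (phi (F := F)).range = Subgroup.centralizer ({t0} : Set P3) := by
  ext x
  rw [Subgroup.mem_centralizer_singleton_iff]
  constructor
  · rintro ⟨A, rfl⟩
    show mkP (iota A) * mkP DS = mkP DS * mkP (iota A)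
    rw [← map_mul, ← map_mul, iota_comm_DS]
  · intro hx
    obtain ⟨g, rfl⟩ := mkP_surjective x
    have hx' : mkP g * mkP DS = mkP DS * mkP g := hx
    have hz : g * DS * g⁻¹ * DS⁻¹ ∈ Subgroup.center S3 := by
      rw [← mkP_eq_one_iff, map_mul, map_mul, map_mul, map_inv, map_inv, hx']
      group
    obtain ⟨z, hzdef⟩ : ∃ z : S3, z = g * DS * g⁻¹ * DS⁻¹ := ⟨_, rfl⟩
    rw [← hzdef] at hz
    have e1 : (g * DS * g⁻¹) * (g * DS * g⁻¹) = 1 := by
      have : (g * DS * g⁻¹) * (g * DS * g⁻¹) = g * (DS * DS) * g⁻¹ := by group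
      rw [this, DS_mul_self, mul_one, mul_inv_cancel]
    have e2 : z * DS = g * DS * g⁻¹ := by
      rw [hzdef, inv_mul_cancel_right]
    have hc := (Subgroup.mem_center_iff.mp hz) DS
    have e3 : z * DS * (z * DS) = z ^ 2 * (DS * DS) := by
      calc z * DS * (z * DS) = z * (DS * z) * DS := by group
        _ = z * (z * DS) * DS := by rw [hc]
        _ = z ^ 2 * (DS * DS) := by rw [pow_two]; group
    rw [e2, e1, DS_mul_self, mul_one] at e3
    have hz1 : z = 1 := center_eq_one_of_sq z hz e3.symm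
    rw [hz1, one_mul] at e2
    have hcomm : g * DS = DS * g := by
      calc g * DS = (g * DS * g⁻¹) * g := by group
        _ = DS * g := by rw [← e2]
    obtain ⟨A, hA⟩ := exists_iota h2 g hcomm
    exact ⟨A, by rw [← hA]; rfl⟩

theorem mem_ker_phi (A : G2) :
    A ∈ (phi (F := F)).ker ↔ ∃ r : F, r ^ 3 = 1 ∧ (A : M2) = Matrix.scalar (Fin 2) r := by
  rw [MonoidHom.mem_ker]
  show mkP (iota A) = 1 ↔ _
  rw [mkP_eq_one_iff, Matrix.SpecialLinearGroup.mem_center_iff, Fintype.card_fin]
  constructor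
  · rintro ⟨r, hr, hA⟩
    refine ⟨r, hr, ?_⟩
    rw [iota_coe] at hA
    have e00 := congrFun (congrFun hA 0) 0
    have e01 := congrFun (congrFun hA 0) 1
    have e10 := congrFun (congrFun hA 1) 0
    have e11 := congrFun (congrFun hA 1) 1
    simp [iotaM, Matrix.scalar_apply] at e00 e01 e10 e11
    ext i j
    fin_cases i <;> fin_cases j <;> simp [Matrix.scalar_apply, ← e00, ← e01, ← e10, ← e11]
  · rintro ⟨r, hr, hA⟩
    refine ⟨r, hr, ?_⟩
    rw [iota_coe, iotaM, hA, Matrix.scalar_apply, Matrix.scalar_apply]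
    have hr0 : r ≠ 0 := by
      rintro rfl
      simp at hr
    have hinv : (r * r)⁻¹ = r := by
      apply inv_eq_of_mul_eq_one_right
      linear_combination hr
    have hinv' : (r ^ 2)⁻¹ = r := by rw [pow_two]; exact hinv
    ext i j
    fin_cases i <;> fin_cases j <;> simp [Matrix.det_fin_two, hinv, hinv']

end Phi

section Conj

variable {F : Type*} [Field F] [Fintype F]

local notation "S3" => Matrix.SpecialLinearGroup (Fin 3) F
local notation "P3" => Matrix.ProjectiveSpecialLinearGroup (Fin 3) F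
local notation "M3" => Matrix (Fin 3) (Fin 3) F

theorem exists_lift (t : P3) (ht : orderOf t = 2) :
    ∃ T : S3, mkP T = t ∧ T * T = 1 ∧ T ≠ 1 := by
  obtain ⟨g, rfl⟩ := mkP_surjective t
  have h2 : mkP g ^ 2 = 1 := by
    rw [← ht]
    exact pow_orderOf_eq_one _
  have hc : g ^ 2 ∈ Subgroup.center S3 := by
    rw [← mkP_eq_one_iff, map_pow]
    exact h2
  have h3 := center_pow_three (g ^ 2) hc
  have hg3 : mkP (g ^ 3) = mkP g := by
    rw [map_pow, pow_succ, h2, one_mul]
  refine ⟨g ^ 3, hg3, ?_, ?_⟩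
  · rw [← pow_two, ← pow_mul, show 3 * 2 = 2 * 3 from rfl, pow_mul]
    exact h3
  · intro h1
    rw [h1, map_one] at hg3
    rw [← hg3, orderOf_one] at ht
    omega

theorem Dm_eq_diagonal : (Dm : M3) = Matrix.diagonal ![-1, -1, 1] := by
  ext i j
  fin_cases i <;> fin_cases j <;> simp [Dm]

theorem exists_perm (ε : Fin 3 → F) (hε : ∀ i, ε i = 1 ∨ ε i = -1) (h2 : (2 : F) ≠ 0)
    (hprod : ε 0 * ε 1 * ε 2 = 1) (hne : ¬ (∀ i, ε i = 1)) :
    ∃ σ : Equiv.Perm (Fin 3), ∀ j, ε (σ j) = (![-1, -1, 1] : Fin 3 → F) j := by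
  have hneg : (-1 : F) ≠ 1 := by
    intro h
    apply h2
    linear_combination -h
  rcases hε 0 with h0 | h0 <;> rcases hε 1 with h1 | h1 <;> rcases hε 2 with h2' | h2'
  · exfalso
    apply hne
    intro i
    fin_cases i <;> assumption
  · exfalso
    rw [h0, h1, h2'] at hprod
    apply hneg
    linear_combination hprod
  · exfalso
    rw [h0, h1, h2'] at hprod
    apply hneg
    linear_combination hprod
  · refine ⟨Equiv.swap 0 2, ?_⟩
    intro j
    fin_cases j
    · show ε (Equiv.swap (0 : Fin 3) 2 0) = -1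
      rw [Equiv.swap_apply_left]
      exact h2'
    · show ε (Equiv.swap (0 : Fin 3) 2 1) = -1
      rw [Equiv.swap_apply_of_ne_of_ne (by decide) (by decide)]
      exact h1
    · show ε (Equiv.swap (0 : Fin 3) 2 2) = 1
      rw [Equiv.swap_apply_right]
      exact h0
  · exfalso
    rw [h0, h1, h2'] at hprod
    apply hneg
    linear_combination hprod
  · refine ⟨Equiv.swap 1 2, ?_⟩
    intro j
    fin_cases j
    · show ε (Equiv.swap (1 : Fin 3) 2 0) = -1
      rw [Equiv.swap_apply_of_ne_of_ne (by decide) (by decide)]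
      exact h0
    · show ε (Equiv.swap (1 : Fin 3) 2 1) = -1
      rw [Equiv.swap_apply_left]
      exact h2'
    · show ε (Equiv.swap (1 : Fin 3) 2 2) = 1
      rw [Equiv.swap_apply_right]
      exact h1
  · refine ⟨1, ?_⟩
    intro j
    fin_cases j
    · exact h0
    · exact h1
    · exact h2'
  · exfalso
    rw [h0, h1, h2'] at hprod
    apply hneg
    linear_combination hprod

theorem exists_conj_DS (h2 : (2 : F) ≠ 0) (T : S3) (hT : T * T = 1) (hT1 : T ≠ 1) :
    ∃ P : S3, T = P * DS * P⁻¹ := by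
  classical
  have hTm : (T : M3) * (T : M3) = 1 := by
    have := congrArg (fun x : S3 => (x : M3)) hT
    simpa [Matrix.SpecialLinearGroup.coe_mul] using this
  obtain ⟨P, χ, hPdet, hχ, hdiag⟩ := exists_simultaneous_diag h2 ({(T : M3)} : Set M3)
    (by
      intro a ha b hb
      rw [Set.mem_singleton_iff] at ha hb
      rw [ha, hb])
    (by
      intro a ha
      rw [Set.mem_singleton_iff] at ha
      rw [ha]
      exact hTm)
  let a₀ : ({(T : M3)} : Set M3) := ⟨(T : M3), rfl⟩
  obtain ⟨ε, hεdef⟩ : ∃ ε : Fin 3 → F, ε = fun i => χ i a₀ := ⟨_, rfl⟩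
  have hε : ∀ i, ε i = 1 ∨ ε i = -1 := by
    intro i
    rw [hεdef]
    exact hχ a₀ i
  have hMP : (T : M3) * P = P * Matrix.diagonal ε := by
    rw [hεdef]
    exact hdiag a₀
  have hPdet0 : P.det ≠ 0 := hPdet.ne_zero
  have hprod : ε 0 * ε 1 * ε 2 = 1 := by
    have h := congrArg Matrix.det hMP
    rw [Matrix.det_mul, Matrix.det_mul, Matrix.det_diagonal, Fin.prod_univ_three, T.2, one_mul] at h
    have : P.det * (ε 0 * ε 1 * ε 2) = P.det * 1 := by rw [← h, mul_one]
    exact mul_left_cancel₀ hPdet0 this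
  have hne : ¬ (∀ i, ε i = 1) := by
    intro hall
    apply hT1
    apply Subtype.ext
    have hd : Matrix.diagonal ε = (1 : M3) := by
      rw [← Matrix.diagonal_one]
      congr 1
      funext i
      exact hall i
    rw [hd, Matrix.mul_one] at hMP
    have hPu : IsUnit P := (Matrix.isUnit_iff_isUnit_det P).mpr hPdet
    have : (T : M3) * P = 1 * P := by rw [hMP, one_mul]
    exact hPu.mul_left_injective this
  obtain ⟨σ, hσ⟩ := exists_perm ε hε h2 hprod hne
  obtain ⟨P', hP'⟩ : ∃ P' : M3, P' = P.submatrix id σ := ⟨_, rfl⟩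
  have hP'det : P'.det ≠ 0 := by
    rw [hP', Matrix.det_permute']
    apply mul_ne_zero _ hPdet0
    rcases Int.units_eq_one_or (Equiv.Perm.sign σ) with h | h <;> rw [h] <;> simp
  have hMP' : (T : M3) * P' = P' * Dm := by
    rw [Dm_eq_diagonal]
    ext i j
    rw [Matrix.mul_diagonal, hP']
    have := congrFun (congrFun hMP i) (σ j)
    rw [Matrix.mul_diagonal, hσ j] at this
    calc ((T : M3) * P.submatrix id σ) i j = ((T : M3) * P) i (σ j) := by
          simp [Matrix.mul_apply]
      _ = P i (σ j) * (![-1, -1, 1] : Fin 3 → F) j := this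
  obtain ⟨Δ, hΔ⟩ : ∃ Δ : M3, Δ = Matrix.diagonal ![1, 1, (P'.det)⁻¹] := ⟨_, rfl⟩
  have hΔdet : Δ.det = (P'.det)⁻¹ := by
    rw [hΔ, Matrix.det_diagonal, Fin.prod_univ_three]
    simp
  have hΔcomm : Dm * Δ = Δ * Dm := by
    rw [hΔ, Dm_eq_diagonal, Matrix.diagonal_mul_diagonal, Matrix.diagonal_mul_diagonal]
    congr 1
    funext i
    exact mul_comm _ _
  have hdet1 : (P' * Δ).det = 1 := by
    rw [Matrix.det_mul, hΔdet, mul_inv_cancel₀ hP'det]
  obtain ⟨PS, hPS⟩ : ∃ PS : S3, (PS : M3) = P' * Δ := ⟨⟨P' * Δ, hdet1⟩, rfl⟩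
  refine ⟨PS, ?_⟩
  rw [eq_mul_inv_iff_mul_eq]
  apply Subtype.ext
  rw [Matrix.SpecialLinearGroup.coe_mul, Matrix.SpecialLinearGroup.coe_mul, DS_coe, hPS]
  rw [← Matrix.mul_assoc, hMP', Matrix.mul_assoc, hΔcomm, Matrix.mul_assoc]

end Conj

section Main

variable {F : Type*} [Field F] [Fintype F]

local notation "S3" => Matrix.SpecialLinearGroup (Fin 3) F
local notation "P3" => Matrix.ProjectiveSpecialLinearGroup (Fin 3) F
local notation "M3" => Matrix (Fin 3) (Fin 3) F
local notation "G2" => GL (Fin 2) F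
local notation "M2" => Matrix (Fin 2) (Fin 2) F

theorem two_ne_zero_of_odd (hF : Odd (Fintype.card F)) : (2 : F) ≠ 0 := by
  intro h
  have hc : ringChar F = 2 := CharP.ringChar_of_prime_eq_zero Nat.prime_two h
  rw [FiniteField.even_card_iff_char_two] at hc
  obtain ⟨k, hk⟩ := hF
  omega

theorem ker_le_center : (phi (F := F)).ker ≤ Subgroup.center G2 := by
  intro A hA
  rw [mem_ker_phi] at hA
  obtain ⟨r, -, hAr⟩ := hA
  rw [Subgroup.mem_center_iff]
  intro g
  apply Units.ext
  rw [Units.val_mul, Units.val_mul, hAr]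
  exact ((Matrix.scalar_commute r (fun r' => mul_comm r r') (g : M2)).eq).symm

theorem card_ker : Nat.card (phi (F := F)).ker = Nat.gcd (Fintype.card F - 1) 3 := by
  classical
  rw [Nat.gcd_comm, ← Cfsg.Agent.S0243.card_rootsOfUnity_finite_field 3]
  symm
  apply Nat.card_congr
  refine Equiv.ofBijective (fun u => ⟨Matrix.GeneralLinearGroup.scalar (Fin 2) (u.1 : Fˣ), ?_⟩) ⟨?_, ?_⟩
  · rw [mem_ker_phi]
    refine ⟨((u.1 : Fˣ) : F), ?_, ?_⟩
    · have := (mem_rootsOfUnity 3 u.1).mp u.2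
      have h' := congrArg (fun x : Fˣ => (x : F)) this
      simpa using h'
    · rw [Matrix.GeneralLinearGroup.coe_scalar]
  · intro u v huv
    have h1 := congrArg (fun x : (phi (F := F)).ker => ((x : G2) : M2)) huv
    simp only [Matrix.GeneralLinearGroup.coe_scalar] at h1
    have h2 := Matrix.scalar_inj.mp h1
    exact Subtype.ext (Units.ext h2)
  · intro A
    obtain ⟨r, hr, hAr⟩ := (mem_ker_phi A.1).mp A.2
    have hr0 : r ≠ 0 := by
      rintro rfl
      simp at hr
    refine ⟨⟨Units.mk0 r hr0, ?_⟩, ?_⟩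
    · rw [mem_rootsOfUnity]
      apply Units.ext
      simpa using hr
    · apply Subtype.ext
      apply Units.ext
      rw [Matrix.GeneralLinearGroup.coe_scalar, hAr]
      rfl

theorem centralizer_conj {G : Type*} [Group G] (p s : G) :
    (Subgroup.centralizer ({s} : Set G)).map (MulAut.conj p).toMonoidHom =
      Subgroup.centralizer ({p * s * p⁻¹} : Set G) := by
  ext x
  rw [Subgroup.mem_map, Subgroup.mem_centralizer_singleton_iff]
  constructor
  · rintro ⟨y, hy, rfl⟩
    rw [Subgroup.mem_centralizer_singleton_iff] at hy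
    show p * y * p⁻¹ * (p * s * p⁻¹) = p * s * p⁻¹ * (p * y * p⁻¹)
    have e1 : p * y * p⁻¹ * (p * s * p⁻¹) = p * (y * s) * p⁻¹ := by group
    have e2 : p * s * p⁻¹ * (p * y * p⁻¹) = p * (s * y) * p⁻¹ := by group
    rw [e1, e2, hy]
  · intro hx
    refine ⟨p⁻¹ * x * p, ?_, ?_⟩
    · rw [Subgroup.mem_centralizer_singleton_iff]
      have e1 : p⁻¹ * x * p * s = p⁻¹ * (x * (p * s * p⁻¹)) * p := by group
      have e2 : s * (p⁻¹ * x * p) = p⁻¹ * ((p * s * p⁻¹) * x) * p := by group
      rw [e1, e2, hx]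
    · show p * (p⁻¹ * x * p) * p⁻¹ = x
      group

end Main

/-- Let F be a finite field of odd order q and t an involution of PSL(3,F). Then C(t) is isomorphic to the quotient of GL(2,F) by a central subgroup of order gcd(q−1, 3). -/
theorem result {F : Type*} [Field F] [Fintype F] (hF : Odd (Fintype.card F)) (t : Matrix.ProjectiveSpecialLinearGroup (Fin 3) F) (ht : orderOf t = 2) : ∃ (Z : Subgroup (GL (Fin 2) F)) (_ : Z.Normal), Z ≤ Subgroup.center (GL (Fin 2) F) ∧ Nat.card Z = Nat.gcd (Fintype.card F - 1) 3 ∧ Nonempty (↥(Subgroup.centralizer ({t} : Set (Matrix.ProjectiveSpecialLinearGroup (Fin 3) F))) ≃* GL (Fin 2) F ⧸ Z) := by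
  classical
  have h2 := two_ne_zero_of_odd hF
  obtain ⟨T, hTt, hTT, hT1⟩ := exists_lift t ht
  obtain ⟨P, hP⟩ := exists_conj_DS h2 T hTT hT1
  have ht0 : t = mkP P * t0 * (mkP P)⁻¹ := by
    rw [← hTt, hP, map_mul, map_mul, map_inv]
    rfl
  refine ⟨(phi (F := F)).ker, MonoidHom.normal_ker _, ker_le_center, card_ker, ?_⟩
  have e1 := QuotientGroup.quotientKerEquivRange (phi (F := F))
  have e2 := MulEquiv.subgroupCongr (range_phi (F := F) h2)
  have e3 := Subgroup.equivMapOfInjective (Subgroup.centralizer ({t0} : Set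
    (Matrix.ProjectiveSpecialLinearGroup (Fin 3) F))) (MulAut.conj (mkP P)).toMonoidHom
    (MulAut.conj (mkP P)).injective
  have e4 := MulEquiv.subgroupCongr (centralizer_conj (mkP P) (t0 (F := F)))
  rw [← ht0] at e4
  exact ⟨(((e1.trans e2).trans e3).trans e4).symm⟩

end Cfsg.Agent.S1219
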