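import Cfsg.Statements.S1231
import Cfsg.Agent.Lib.Helper9.SylowConj
import Cfsg.Agent.Lib.Helper9.Rank

set_option autoImplicit false
open Cfsg

namespace Cfsg.Agent.S1231

open Cfsg.Agent.Lib.Helper9

/-- Let H be a subgroup of the finite group G, p a prime, k ≥ 1, and P a Sylow p-subgroup of H whose p-rank is at least k. Then N_G(X) ≤ H for every subgroup X of P of p-rank at least k if and only if H ∩ gHg⁻¹ has p-rank less than k for every g ∉ H. -/
theorem result {G : Type*} [Group G] [Finite G] {p : ℕ} [Fact p.Prime] (k : ℕ) (hk : 1 ≤ k) (H : Subgroup G) (P : Sylow p ↥H) (hP : ¬ Cfsg.PRankLE p (k - 1) ↥(P : Subgroup ↥H)) : (∀ X : Subgroup G, X ≤ (P : Subgroup ↥H).map H.subtype → ¬ Cfsg.PRankLE p (k - 1) ↥X → Subgroup.normalizer (X : Set G) ≤ H) ↔ (∀ g : G, g ∉ H → Cfsg.PRankLE p (k - 1) ↥(H ⊓ H.map (MulAut.conj g).toMonoidHom)) := by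
  classical
  have hp : p.Prime := Fact.out
  have hPGH : (P : Subgroup ↥H).map H.subtype ≤ H := Subgroup.map_subtype_le _
  constructor
  · intro hA g hg
    by_contra hbig
    have hA' : ∀ X : Subgroup G, X ≤ H → IsPGroup p X → ¬ Cfsg.PRankLE p (k - 1) ↥X →
        Subgroup.normalizer (X : Set G) ≤ H := by
      intro X hXH hXp hXbig
      obtain ⟨h, hh, hconj⟩ := exists_conj_le_sylowOf H P X hXp hXH
      have h1 : X.map (MulAut.conj h).toMonoidHom ≤ (P : Subgroup ↥H).map H.subtype :=
        (map_conj_le_iff _ _ _).2 hconj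
      have h2 : ¬ Cfsg.PRankLE p (k - 1) ↥(X.map (MulAut.conj h).toMonoidHom) := by
        rwa [pRankLE_map_iff _ (MulAut.conj h).injective]
      have h3 := hA _ h1 h2
      intro n hn
      have h4 := h3 (conj_mem_normalizer_map_conj h hn)
      have h5 := H.mul_mem (H.mul_mem (H.inv_mem hh) h4) hh
      have h6 : h⁻¹ * (h * n * h⁻¹) * h = n := by group
      rwa [h6] at h5
    -- an elementary abelian subgroup of the intersection
    obtain ⟨A, hAc, hAexp, hAcard⟩ : ∃ A : Subgroup ↥(H ⊓ H.map (MulAut.conj g).toMonoidHom),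
        IsMulCommutative A ∧ (∀ a ∈ A, a ^ p = 1) ∧ p ^ (k - 1) < Nat.card A := by
      unfold Cfsg.PRankLE at hbig
      push Not at hbig
      exact hbig
    have hAp : IsPGroup p A := by
      intro a
      refine ⟨1, ?_⟩
      rw [pow_one]
      exact Subtype.ext (by rw [Subgroup.coe_pow]; exact hAexp a.1 a.2)
    obtain ⟨R, hAR⟩ := hAp.exists_le_sylow
    have hRGI : (R : Subgroup ↥(H ⊓ H.map (MulAut.conj g).toMonoidHom)).map
        (H ⊓ H.map (MulAut.conj g).toMonoidHom).subtype ≤ H ⊓ H.map (MulAut.conj g).toMonoidHom :=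
      Subgroup.map_subtype_le _
    generalize hRGdef : (R : Subgroup ↥(H ⊓ H.map (MulAut.conj g).toMonoidHom)).map
        (H ⊓ H.map (MulAut.conj g).toMonoidHom).subtype = RG at hRGI
    have hRGp : IsPGroup p RG := by
      rw [← hRGdef]; exact R.2.map _
    have hRGbig : ¬ Cfsg.PRankLE p (k - 1) ↥RG := by
      intro h
      rw [← hRGdef, pRankLE_map_iff _ (Subgroup.subtype_injective _)] at h
      exact not_pRankLE_of_elemAb A hAc hAexp hAcard (pRankLE_of_le hAR h)
    have hconjH : RG.map (MulAut.conj g⁻¹).toMonoidHom ≤ H := by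
      rw [map_conj_le_iff]
      intro w hw
      have := (Subgroup.mem_inf.1 (hRGI hw)).2
      rw [mem_map_conj_iff] at this
      simpa using this
    have hN : Subgroup.normalizer (RG : Set G) ≤ H ⊓ H.map (MulAut.conj g).toMonoidHom := by
      apply le_inf
      · exact hA' RG (hRGI.trans inf_le_left) hRGp hRGbig
      · have h2 := hA' _ hconjH (hRGp.map _)
          (by rwa [pRankLE_map_iff _ (MulAut.conj g⁻¹).injective])
        intro n hn
        rw [mem_map_conj_iff]
        have := h2 (conj_mem_normalizer_map_conj g⁻¹ hn)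
        simpa using this
    -- a Sylow subgroup of H containing RG
    have hRGH : IsPGroup p (RG.subgroupOf H) :=
      hRGp.comap_of_injective H.subtype H.subtype_injective
    obtain ⟨P₁, hP₁⟩ := hRGH.exists_le_sylow
    have hP₁p : IsPGroup p ((P₁ : Subgroup ↥H).map H.subtype) := P₁.2.map _
    have hRP₁ : RG ≤ (P₁ : Subgroup ↥H).map H.subtype := by
      intro x hx
      exact ⟨⟨x, (hRGI hx).1⟩, hP₁ (Subgroup.mem_subgroupOf.2 hx), rfl⟩
    have hPI : (P₁ : Subgroup ↥H).map H.subtype ⊓ (H ⊓ H.map (MulAut.conj g).toMonoidHom) ≤ RG := by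
      have hQ : IsPGroup p (((P₁ : Subgroup ↥H).map H.subtype ⊓
          (H ⊓ H.map (MulAut.conj g).toMonoidHom)).subgroupOf
          (H ⊓ H.map (MulAut.conj g).toMonoidHom)) :=
        (hP₁p.to_le inf_le_left).comap_of_injective _ (Subgroup.subtype_injective _)
      have hRQ : (R : Subgroup ↥(H ⊓ H.map (MulAut.conj g).toMonoidHom)) ≤
          ((P₁ : Subgroup ↥H).map H.subtype ⊓
          (H ⊓ H.map (MulAut.conj g).toMonoidHom)).subgroupOf
          (H ⊓ H.map (MulAut.conj g).toMonoidHom) := by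
        intro x hx
        rw [Subgroup.mem_subgroupOf]
        refine Subgroup.mem_inf.2 ⟨hRP₁ ?_, x.2⟩
        rw [← hRGdef]
        exact ⟨x, hx, rfl⟩
      have hQR := R.is_maximal' hQ hRQ
      intro x hx
      have hxI : x ∈ H ⊓ H.map (MulAut.conj g).toMonoidHom := (Subgroup.mem_inf.1 hx).2
      have hx' : (⟨x, hxI⟩ : ↥(H ⊓ H.map (MulAut.conj g).toMonoidHom)) ∈
          ((P₁ : Subgroup ↥H).map H.subtype ⊓
          (H ⊓ H.map (MulAut.conj g).toMonoidHom)).subgroupOf
          (H ⊓ H.map (MulAut.conj g).toMonoidHom) := Subgroup.mem_subgroupOf.2 hx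
      rw [hQR] at hx'
      rw [← hRGdef]
      exact ⟨_, hx', rfl⟩
    have hEq : (P₁ : Subgroup ↥H).map H.subtype ≤ RG := by
      by_contra hne
      obtain ⟨x, hx1, hx2, hx3⟩ := exists_normalizer_not_mem _ RG hP₁p hRP₁ hne
      exact hx2 (hPI (Subgroup.mem_inf.2 ⟨hx1, hN hx3⟩))
    obtain ⟨h, hh, hconj⟩ := exists_conj_le_sylowOf H P₁ (RG.map (MulAut.conj g⁻¹).toMonoidHom)
      (hRGp.map _) hconjH
    have hmap : RG.map (MulAut.conj (h * g⁻¹)).toMonoidHom ≤ RG := by
      rw [map_conj_mul, map_conj_le_iff]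
      intro w hw
      exact hEq (hconj w hw)
    have hmapEq : RG.map (MulAut.conj (h * g⁻¹)).toMonoidHom = RG := by
      apply Subgroup.eq_of_le_of_card_ge hmap
      rw [Subgroup.card_map_of_injective (MulAut.conj (h * g⁻¹)).injective]
    have h7 : h * g⁻¹ ∈ H := (hN (mem_normalizer_of_map_conj_eq hmapEq)).1
    apply hg
    have h8 := H.mul_mem (H.inv_mem h7) hh
    have h9 : (h * g⁻¹)⁻¹ * h = g := by group
    rwa [h9] at h8
  · intro hB X hXP hXbig n hn
    by_contra hnH
    have h1 := hB n hnH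
    have hX : X ≤ H ⊓ H.map (MulAut.conj n).toMonoidHom := by
      apply le_inf (hXP.trans hPGH)
      intro x hx
      rw [mem_map_conj_iff]
      have h2 : n⁻¹ ∈ Subgroup.normalizer (X : Set G) := Subgroup.inv_mem _ hn
      rw [Subgroup.mem_normalizer_iff] at h2
      have h3 := (h2 x).1 hx
      rw [inv_inv] at h3
      exact hPGH (hXP h3)
    exact hXbig (pRankLE_of_le hX h1)

end Cfsg.Agent.S1231
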