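import Cfsg.Statements.S1236
import Cfsg.Agent.Lib.Helper9.KleinCentralizer

set_option autoImplicit false
open Cfsg

namespace Cfsg.Agent.S1236

open Cfsg.Agent.Lib.Helper9

theorem dihedral_data {K : Type*} [Group K] [Finite K] {m : ℕ} (e : K ≃* DihedralGroup m) :
    ∃ C : Subgroup K, IsCyclic C ∧ C.index = 2 ∧
      ∀ y, y ∉ C → ∀ c ∈ C, c * y = y * c → c * c = 1 := by
  have hm : m ≠ 0 := by
    intro h0
    subst h0
    haveI : Infinite (DihedralGroup 0) := by
      apply Infinite.of_injective (fun k : ℤ => (DihedralGroup.r (k : ZMod 0) : DihedralGroup 0))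
      intro a b hab
      have := DihedralGroup.r.inj hab
      exact this
    haveI : Finite (DihedralGroup 0) := Finite.of_equiv K e.toEquiv
    exact not_finite (DihedralGroup 0)
  haveI : NeZero m := ⟨hm⟩
  have hmem : ∀ c : K, c ∈ Subgroup.zpowers (e.symm (DihedralGroup.r 1)) ↔
      ∃ k : ZMod m, e c = DihedralGroup.r k := by
    intro c
    constructor
    · intro hc
      obtain ⟨j, hj⟩ := Subgroup.mem_zpowers_iff.1 hc
      rw [← hj, map_zpow, MulEquiv.apply_symm_apply]
      obtain ⟨k, hk⟩ : ∃ k : ZMod m, (DihedralGroup.r 1 : DihedralGroup m) ^ j = DihedralGroup.r k := by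
        have h1 : ∀ n : ℕ, ∃ k : ZMod m, (DihedralGroup.r 1 : DihedralGroup m) ^ n = DihedralGroup.r k :=
          fun n => ⟨n, DihedralGroup.r_one_pow n⟩
        rcases Int.eq_nat_or_neg j with ⟨n, rfl | rfl⟩
        · rw [zpow_natCast]; exact h1 n
        · rw [zpow_neg, zpow_natCast]
          obtain ⟨k, hk⟩ := h1 n
          refine ⟨-k, ?_⟩
          rw [hk]
          rfl
      exact ⟨k, hk⟩
    · rintro ⟨k, hk⟩
      have h1 : c = (e.symm (DihedralGroup.r 1)) ^ (k.val) := by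
        apply e.injective
        rw [map_pow, MulEquiv.apply_symm_apply, DihedralGroup.r_one_pow, ZMod.natCast_zmod_val, hk]
      rw [h1]
      exact Subgroup.pow_mem _ (Subgroup.mem_zpowers _) _
  refine ⟨Subgroup.zpowers (e.symm (DihedralGroup.r 1)), inferInstance, ?_, ?_⟩
  · have h1 := Subgroup.card_mul_index (Subgroup.zpowers (e.symm (DihedralGroup.r 1 : DihedralGroup m)))
    rw [Nat.card_zpowers, MulEquiv.orderOf_eq, DihedralGroup.orderOf_r_one,
      Nat.card_congr e.toEquiv, DihedralGroup.nat_card] at h1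
    have hm0 : 0 < m := Nat.pos_of_ne_zero hm
    have : m * (Subgroup.zpowers (e.symm (DihedralGroup.r 1 : DihedralGroup m))).index = m * 2 := by
      rw [h1]; ring
    exact Nat.eq_of_mul_eq_mul_left hm0 this
  · intro y hyC c hcC hcy
    obtain ⟨k, hk⟩ := (hmem c).1 hcC
    have hy' : ¬ ∃ k : ZMod m, e y = DihedralGroup.r k := fun h => hyC ((hmem y).2 h)
    have h1 : e c * e y = e y * e c := by rw [← map_mul, ← map_mul, hcy]
    cases hey : e y with
    | r i => exact absurd ⟨i, hey⟩ hy'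
    | sr i =>
      rw [hk, hey, DihedralGroup.r_mul_sr, DihedralGroup.sr_mul_r] at h1
      have h2 : i - k = i + k := DihedralGroup.sr.inj h1
      have h3 : k + k = 0 := by
        have : k + k = (i + k) - (i - k) := by ring
        rw [this, h2, sub_self]
      apply e.injective
      rw [map_mul, hk, DihedralGroup.r_mul_r, h3, map_one]
      rfl

theorem quasidihedral_data {K : Type*} [Group K] [Finite K] (hK : Cfsg.IsQuasiDihedral K) :
    ∃ C : Subgroup K, IsCyclic C ∧ C.index = 2 ∧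
      ∀ y, y ∉ C → ∀ c ∈ C, c * y = y * c → c * c = 1 := by
  obtain ⟨n, hn, hcard, x, y, hx, hy, hrel⟩ := hK
  have hidx : (Subgroup.zpowers x).index = 2 := by
    have h1 := Subgroup.card_mul_index (Subgroup.zpowers x)
    rw [Nat.card_zpowers, hx, hcard, pow_succ] at h1
    exact Nat.eq_of_mul_eq_mul_left (by positivity) h1
  -- the exponent
  have he : 2 ^ (n - 1) - 1 = 2 * (2 ^ (n - 2) - 1) + 1 := by
    obtain ⟨k, rfl⟩ : ∃ k, n = k + 3 := ⟨n - 3, by omega⟩
    have h1 : 2 ^ (k + 3 - 1) = 2 * 2 ^ (k + 3 - 2) := by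
      rw [show k + 3 - 1 = (k + 3 - 2) + 1 by omega, pow_succ]; ring
    have h2 : 1 ≤ 2 ^ (k + 3 - 2) := Nat.one_le_two_pow
    omega
  have hodd : Odd (2 ^ (n - 2) - 1) := by
    obtain ⟨k, rfl⟩ : ∃ k, n = k + 3 := ⟨n - 3, by omega⟩
    have h1 : 2 ^ (k + 3 - 2) = 2 * 2 ^ k := by
      rw [show k + 3 - 2 = k + 1 by omega, pow_succ]; ring
    rw [h1]
    exact ⟨2 ^ k - 1, by have := Nat.one_le_two_pow (n := k); omega⟩
  -- key: an element of ⟨x⟩ commuting with y has square one
  have key : ∀ c ∈ Subgroup.zpowers x, c * y = y * c → c * c = 1 := by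
    intro c hc hcy
    obtain ⟨j, hj⟩ := Subgroup.mem_zpowers_iff.1 hc
    have h1 : y * c * y⁻¹ = c ^ (2 ^ (n - 1) - 1) := by
      rw [← hj, ← conj_zpow, hrel, ← zpow_natCast, ← zpow_natCast, ← zpow_mul, ← zpow_mul, mul_comm]
    have h2 : y * c * y⁻¹ = c := by rw [← hcy]; group
    rw [h2, he, pow_succ, pow_mul] at h1
    have h3 : (c ^ 2) ^ (2 ^ (n - 2) - 1) = 1 := by
      have : c = (c ^ 2) ^ (2 ^ (n - 2) - 1) * c := h1
      exact (mul_eq_right.1 this.symm)
    have h4 : orderOf (c ^ 2) ∣ 2 ^ (n - 2) - 1 := orderOf_dvd_of_pow_eq_one h3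
    have h5 : orderOf (c ^ 2) ∣ 2 ^ n := by
      apply orderOf_dvd_of_pow_eq_one
      rw [← pow_mul, mul_comm, pow_mul]
      have : c ^ 2 ^ n = 1 := by
        rw [← hj, ← zpow_natCast, ← zpow_mul, mul_comm, zpow_mul, zpow_natCast, ← hx,
          pow_orderOf_eq_one, one_zpow]
      rw [this, one_pow]
    have h6 : Nat.Coprime (2 ^ n) (2 ^ (n - 2) - 1) :=
      Nat.Coprime.pow_left n ((Nat.coprime_two_left).2 hodd)
    have h7 : orderOf (c ^ 2) ∣ 1 := by
      have := Nat.dvd_gcd h5 h4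
      rwa [h6.gcd_eq_one] at this
    have h8 := orderOf_eq_one_iff.1 (Nat.dvd_one.1 h7)
    rw [← pow_two]; exact h8
  have hyC : y ∉ Subgroup.zpowers x := by
    intro hyx
    have hcomm : x * y = y * x := by
      obtain ⟨j, hj⟩ := Subgroup.mem_zpowers_iff.1 hyx
      rw [← hj]
      exact (Commute.zpow_right (Commute.refl x) j).eq
    have h1 := key x (Subgroup.mem_zpowers x) hcomm
    have h2 : orderOf x ∣ 2 := orderOf_dvd_of_pow_eq_one (by rw [pow_two]; exact h1)
    rw [hx] at h2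
    have h3 : 2 ^ n ≤ 2 := Nat.le_of_dvd (by norm_num) h2
    have h4 : 2 ^ 3 ≤ 2 ^ n := Nat.pow_le_pow_right (by norm_num) hn
    omega
  refine ⟨Subgroup.zpowers x, inferInstance, hidx, ?_⟩
  intro y' hy'C c hcC hcy'
  have h1 : y⁻¹ * y' ∈ Subgroup.zpowers x := by
    rw [Subgroup.mul_mem_iff_of_index_two hidx]
    constructor
    · intro h; exact absurd (inv_mem_iff.1 h) hyC
    · intro h; exact absurd h hy'C
  obtain ⟨c₀, hc₀⟩ : ∃ c₀, c₀ = y⁻¹ * y' := ⟨_, rfl⟩
  rw [← hc₀] at h1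
  have hy' : y' = y * c₀ := by rw [hc₀]; group
  have hcc₀ : c * c₀ = c₀ * c := by
    obtain ⟨j, hj⟩ := Subgroup.mem_zpowers_iff.1 hcC
    obtain ⟨j₀, hj₀⟩ := Subgroup.mem_zpowers_iff.1 h1
    rw [← hj, ← hj₀]
    exact ((Commute.refl x).zpow_zpow j j₀).eq
  apply key c hcC
  rw [hy'] at hcy'
  have h2 : c * y * c₀ = y * c * c₀ := by
    calc c * y * c₀ = c * (y * c₀) := by group
      _ = y * c₀ * c := hcy'
      _ = y * (c₀ * c) := by group
      _ = y * (c * c₀) := by rw [hcc₀]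
      _ = y * c * c₀ := by group
  exact mul_right_cancel h2


/-- Let R be a finite group, t a central involution of R such that R ⧸ ⟨t⟩ is dihedral (of order ≥ 4) or quasi-dihedral, and A ≤ R an elementary abelian subgroup of order 8 containing t. Then C_R(A) = A. -/
theorem result {R : Type*} [Group R] [Finite R] (t : R) (ht : orderOf t = 2) (htz : t ∈ Subgroup.center R) [(Subgroup.zpowers t).Normal] (hq : (∃ m : ℕ, 2 ≤ m ∧ Nonempty (R ⧸ Subgroup.zpowers t ≃* DihedralGroup m)) ∨ Cfsg.IsQuasiDihedral (R ⧸ Subgroup.zpowers t)) (A : Subgroup R) (hA : Cfsg.IsElementaryAbelian 2 A) (hA8 : Nat.card A = 8) (htA : t ∈ A) : Subgroup.centralizer (A : Set R) = A := by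
  obtain ⟨C, hCcyc, hCidx, hCy⟩ : ∃ C : Subgroup (R ⧸ Subgroup.zpowers t), IsCyclic C ∧ C.index = 2 ∧
      ∀ y, y ∉ C → ∀ c ∈ C, c * y = y * c → c * c = 1 := by
    rcases hq with ⟨m, -, ⟨e⟩⟩ | hq
    · exact dihedral_data e
    · exact quasidihedral_data hq
  have hNA : Subgroup.zpowers t ≤ A := by rw [Subgroup.zpowers_le]; exact htA
  have hker : (QuotientGroup.mk' (Subgroup.zpowers t)).ker = Subgroup.zpowers t :=
    QuotientGroup.ker_mk' _
  have hcard : 4 ≤ Nat.card ↥(A.map (QuotientGroup.mk' (Subgroup.zpowers t))) := by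
    have h1 := Subgroup.relIndex_ker (QuotientGroup.mk' (Subgroup.zpowers t)) (K := A)
    rw [hker] at h1
    have h2 := Subgroup.card_mul_index ((Subgroup.zpowers t).subgroupOf A)
    have h3 : Nat.card ↥((Subgroup.zpowers t).subgroupOf A) = 2 := by
      rw [Nat.card_congr (Subgroup.subgroupOfEquivOfLe hNA).toEquiv, Nat.card_zpowers, ht]
    rw [h3, hA8] at h2
    have h4 : ((Subgroup.zpowers t).subgroupOf A).index = (Subgroup.zpowers t).relIndex A := rfl
    rw [h4, h1] at h2
    omega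
  have hexp : ∀ v ∈ A.map (QuotientGroup.mk' (Subgroup.zpowers t)), v * v = 1 := by
    rintro _ ⟨a, ha, rfl⟩
    rw [← map_mul, ← pow_two, hA.2 a ha, map_one]
  have hcent := centralizer_le_of_cyclic_index_two C hCidx hCy _ hcard hexp
  apply le_antisymm
  · intro g hg
    have h1 : QuotientGroup.mk' (Subgroup.zpowers t) g ∈
        Subgroup.centralizer ((A.map (QuotientGroup.mk' (Subgroup.zpowers t)) : Subgroup _) : Set _) := by
      rw [Subgroup.mem_centralizer_iff]
      rintro _ ⟨a, ha, rfl⟩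
      rw [← map_mul, ← map_mul, (Subgroup.mem_centralizer_iff.1 hg) a ha]
    obtain ⟨a, ha, hag⟩ := hcent h1
    have h2 : a⁻¹ * g ∈ Subgroup.zpowers t := by
      rw [← hker, MonoidHom.mem_ker, map_mul, map_inv, hag, inv_mul_cancel]
    have : g = a * (a⁻¹ * g) := by group
    rw [this]
    exact mul_mem ha (hNA h2)
  · intro a ha
    rw [Subgroup.mem_centralizer_iff]
    intro b hb
    have := hA.1
    have h1 := mul_comm' (⟨b, hb⟩ : A) ⟨a, ha⟩
    exact congrArg Subtype.val h1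

end Cfsg.Agent.S1236
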