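import Cfsg.Statements.S1244
import Cfsg.Agent.Lib.Helper9.Transfer
import Cfsg.Agent.Lib.Helper9.Rank

set_option autoImplicit false
open Cfsg

namespace Cfsg.Agent.S1244

open Cfsg.Agent.Lib.Helper9

/-- Let G be a finite group with no subgroup of index 2 whose Sylow 2-subgroup S is commutative, and let R ≤ S be a subgroup whose 2-rank is exactly one less than the 2-rank r of S. Then every involution of S is conjugate, by an element of N_G(S), to an element of R. -/
theorem result {G : Type*} [Group G] [Finite G] (hG : ∀ H : Subgroup G, H.index ≠ 2) (S : Sylow 2 G) (hS : IsMulCommutative (S : Subgroup G)) (r : ℕ) (hr1 : 1 ≤ r) (hSr : Cfsg.PRankLE 2 r (S : Subgroup G) ∧ ¬ Cfsg.PRankLE 2 (r - 1) (S : Subgroup G)) (R : Subgroup G) (hRS : R ≤ S) (hRr : Cfsg.PRankLE 2 (r - 1) R ∧ (r = 1 ∨ ¬ Cfsg.PRankLE 2 (r - 2) R)) (t : G) (ht : orderOf t = 2) (htS : t ∈ S) : ∃ n ∈ Subgroup.normalizer ((S : Subgroup G) : Set G), n * t * n⁻¹ ∈ R := by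
  classical
  by_contra hcon
  push Not at hcon
  have : Fact (Nat.Prime 2) := ⟨Nat.prime_two⟩
  have htR : t ∉ R := by simpa using hcon 1 (one_mem _)
  have ht2 : t ^ 2 = 1 := by rw [← ht]; exact pow_orderOf_eq_one t
  have hcS : ∀ x ∈ (S : Subgroup G), ∀ y ∈ (S : Subgroup G), x * y = y * x := by
    intro x hx y hy
    have := hS.is_comm.comm (⟨x, hx⟩ : (S : Subgroup G)) ⟨y, hy⟩
    exact congrArg Subtype.val this
  have hcR : ∀ x ∈ R, ∀ y ∈ R, x * y = y * x := fun x hx y hy => hcS x (hRS hx) y (hRS hy)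
  -- cardinalities
  have hE2 : IsPGroup 2 (omegaSub 2 (S : Subgroup G) hcS) := S.2.to_le omegaSub_le
  have hE12 : IsPGroup 2 (omegaSub 2 R hcR) := S.2.to_le (omegaSub_le.trans hRS)
  obtain ⟨e, he⟩ := IsPGroup.iff_card.1 hE2
  obtain ⟨e₁, he₁⟩ := IsPGroup.iff_card.1 hE12
  have h1 := card_omegaSub_le_of_pRankLE hcS hSr.1
  have h2 := lt_card_omegaSub_of_not_pRankLE hcS hSr.2
  have h3 := card_omegaSub_le_of_pRankLE hcR hRr.1
  rw [he] at h1 h2
  rw [he₁] at h3
  have he_r : e = r := by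
    have a1 : e ≤ r := (Nat.pow_le_pow_iff_right (by norm_num)).1 h1
    have a2 : r - 1 < e := (Nat.pow_lt_pow_iff_right (by norm_num)).1 h2
    omega
  have he₁_r : e₁ + 1 = r := by
    have a1 : e₁ ≤ r - 1 := (Nat.pow_le_pow_iff_right (by norm_num)).1 h3
    rcases hRr.2 with hr | hr
    · omega
    · have h4 := lt_card_omegaSub_of_not_pRankLE hcR hr
      rw [he₁] at h4
      have a2 : r - 2 < e₁ := (Nat.pow_lt_pow_iff_right (by norm_num)).1 h4
      omega
  have hle : omegaSub 2 R hcR ≤ omegaSub 2 (S : Subgroup G) hcS := fun x hx => ⟨hRS hx.1, hx.2⟩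
  have hidx : ((omegaSub 2 R hcR).subgroupOf (omegaSub 2 (S : Subgroup G) hcS)).index = 2 := by
    have h5 := ((omegaSub 2 R hcR).subgroupOf (omegaSub 2 (S : Subgroup G) hcS)).card_mul_index
    have hee : e = e₁ + 1 := by omega
    rw [Nat.card_congr (Subgroup.subgroupOfEquivOfLe hle).toEquiv, he, he₁, hee,
      pow_succ] at h5
    exact Nat.eq_of_mul_eq_mul_left (by positivity) h5
  -- two elements of E outside R differ by an element of R
  have hdiff : ∀ x y : G, x ∈ omegaSub 2 (S : Subgroup G) hcS → y ∈ omegaSub 2 (S : Subgroup G) hcS →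
      x ∉ R → y ∉ R → x * y⁻¹ ∈ R := by
    intro x y hx hy hxR hyR
    have hy' : y⁻¹ ∈ omegaSub 2 (S : Subgroup G) hcS := Subgroup.inv_mem _ hy
    have h6 := Subgroup.mul_mem_iff_of_index_two hidx
      (a := (⟨x, hx⟩ : omegaSub 2 (S : Subgroup G) hcS)) (b := ⟨y⁻¹, hy'⟩)
    have hx1 : (⟨x, hx⟩ : omegaSub 2 (S : Subgroup G) hcS) ∉
        (omegaSub 2 R hcR).subgroupOf (omegaSub 2 (S : Subgroup G) hcS) := by
      intro h
      exact hxR (Subgroup.mem_subgroupOf.1 h).1
    have hy1 : (⟨y⁻¹, hy'⟩ : omegaSub 2 (S : Subgroup G) hcS) ∉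
        (omegaSub 2 R hcR).subgroupOf (omegaSub 2 (S : Subgroup G) hcS) := by
      intro h
      exact hyR (by simpa using R.inv_mem (Subgroup.mem_subgroupOf.1 h).1)
    have h7 := h6.2 ⟨fun h => (hx1 h).elim, fun h => (hy1 h).elim⟩
    exact (Subgroup.mem_subgroupOf.1 h7).1
  have htE : t ∈ omegaSub 2 (S : Subgroup G) hcS := ⟨htS, ht2⟩
  -- the transfer
  have hRn : (R.subgroupOf (S : Subgroup G)).Normal := by
    constructor
    intro n hn g
    rw [Subgroup.mem_subgroupOf] at hn ⊢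
    have : (g : G) * n * (g : G)⁻¹ = n := by
      rw [hcS g g.2 n n.2, mul_inv_cancel_right]
    simpa [this] using hn
  obtain ⟨A, instA, f, ϕ, hsurj, hker, hf⟩ := exists_transfer_hom_of_ctrl (S : Subgroup G) R hRn
    (by
      intro x hx y hy
      rw [hcS x hx y hy, mul_inv_cancel_right, mul_inv_cancel]
      exact R.one_mem)
    t htS
    (by
      intro k a hka
      rw [← pow_mod_orderOf t k, ht] at hka ⊢
      rcases Nat.mod_two_eq_zero_or_one k with hk | hk
      · rw [hk]; simp [R.one_mem]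
      · rw [hk, pow_one] at hka ⊢
        obtain ⟨n, hn, hn'⟩ := Sylow.conj_eq_normalizer_conj_of_mem S t a htS hka
        have hxR : a⁻¹ * t * a ∉ R := by
          rw [hn']
          have := hcon n⁻¹ (Subgroup.inv_mem _ hn)
          simpa using this
        have hxE : a⁻¹ * t * a ∈ omegaSub 2 (S : Subgroup G) hcS := by
          refine ⟨hka, ?_⟩
          have : a⁻¹ * t * a = MulAut.conj a⁻¹ t := by simp
          rw [this, ← map_pow, ht2, map_one]
        exact hdiff _ _ hxE htE hxR htR)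
  -- evaluate
  have hodd : Odd (S : Subgroup G).index := by
    have : ¬ 2 ∣ (S : Subgroup G).index := S.not_dvd_index
    exact Nat.odd_iff.mpr (by omega)
  have hϕt2 : ϕ ⟨t, htS⟩ ^ 2 = 1 := by
    rw [← map_pow]
    have : (⟨t, htS⟩ : (S : Subgroup G)) ^ 2 = 1 := Subtype.ext (by simpa using ht2)
    rw [this, map_one]
  have hft : f t = ϕ ⟨t, htS⟩ := by
    rw [hf]
    obtain ⟨j, hj⟩ := hodd
    rw [hj, pow_succ, pow_mul, hϕt2, one_pow, one_mul]
  have hne : f t ≠ 1 := by
    rw [hft]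
    intro h
    exact htR ((hker _).1 h)
  have hA2 : IsPGroup 2 A := IsPGroup.of_surjective S.2 ϕ hsurj
  have : Finite A := Finite.of_surjective ϕ hsurj
  obtain ⟨K, hK⟩ := exists_index_two_of_hom_ne_one hA2 f t hne
  exact hG K hK

end Cfsg.Agent.S1244
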