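import Cfsg.Statements.S1248
import Cfsg.Agent.Lib.helper14.SU3Even

set_option autoImplicit false
open Cfsg

namespace Cfsg.Agent.S1248

open Cfsg.Agent.Lib.helper14 Cfsg.Agent.Lib.helper14.SuzModel

section transfer
variable {K : Type*} [Field K] [Fintype K] {q : ℕ} {σ : K →+* K} [CharP K 2]
  [hinv : Fact (∀ x, σ (σ x) = x)] {P : Type*} [Group P]

theorem mem_center_iff (e : P ≃* SuzP σ) (x : P) :
    x ∈ Subgroup.center P ↔ e x ∈ Subgroup.center (SuzP σ) := by
  rw [Subgroup.mem_center_iff, Subgroup.mem_center_iff]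
  constructor
  · intro h y
    obtain ⟨y', rfl⟩ := e.surjective y
    rw [← map_mul, ← map_mul, h]
  · intro h y
    apply e.injective
    rw [map_mul, map_mul, h]

theorem center_eq_closure (hK : Fintype.card K = q ^ 2) (hσ : ∀ x, σ x = x ^ q) (e : P ≃* SuzP σ) :
    Subgroup.center P = Subgroup.closure {x : P | orderOf x = 2} := by
  apply le_antisymm
  · intro x hx
    by_cases h1 : x = 1
    · rw [h1]; exact Subgroup.one_mem _
    · apply Subgroup.subset_closure
      have hx' := (mem_center_iff e x).mp hx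
      have hne : e x ≠ 1 := fun h => h1 (e.injective (by rw [h, map_one]))
      have h2 := ((invol_iff hK hσ (e x)).mpr ⟨hne, hx'⟩).2
      have h3 : x ^ 2 = 1 := by
        apply e.injective
        rw [map_pow, pow_two, h2, map_one]
      exact orderOf_eq_prime h3 h1
  · rw [Subgroup.closure_le]
    intro x hx
    have hx2 : orderOf x = 2 := hx
    have h1 : x ≠ 1 := by
      rintro rfl
      rw [orderOf_one] at hx2
      exact absurd hx2 (by norm_num)
    have h3 : x ^ 2 = 1 := by
      rw [← hx2]; exact pow_orderOf_eq_one x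
    have hne : e x ≠ 1 := fun h => h1 (e.injective (by rw [h, map_one]))
    have h4 : e x * e x = 1 := by
      rw [← map_mul, ← pow_two, h3, map_one]
    exact (mem_center_iff e x).mpr ((invol_iff hK hσ (e x)).mp ⟨hne, h4⟩).2

theorem center_eq_commutator (hK : Fintype.card K = q ^ 2) (hσ : ∀ x, σ x = x ^ q)
    (e : P ≃* SuzP σ) : Subgroup.center P = commutator P := by
  apply le_antisymm
  · intro x hx
    have hx' := (mem_center_iff e x).mp hx
    rw [center_eq hK hσ, mem_ker_bHom] at hx'
    obtain ⟨u, v, huv⟩ := exists_comm_eq hK hσ (e x) hx'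
    have : x = e.symm u * e.symm v * (e.symm u)⁻¹ * (e.symm v)⁻¹ := by
      apply e.injective
      rw [huv, map_mul, map_mul, map_mul, map_inv, map_inv,
        MulEquiv.apply_symm_apply, MulEquiv.apply_symm_apply]
    rw [this, commutator_def]
    have := Subgroup.commutator_mem_commutator (Subgroup.mem_top (e.symm u))
      (Subgroup.mem_top (e.symm v))
    rwa [commutatorElement_def] at this
  · have h1 := Abelianization.commutator_subset_ker ((bHom (σ := σ)).comp e.toMonoidHom)
    intro x hx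
    have h2 := h1 hx
    rw [MonoidHom.mem_ker, MonoidHom.comp_apply] at h2
    rw [mem_center_iff e, center_eq hK hσ, MonoidHom.mem_ker]
    exact h2

theorem sq_mem (hK : Fintype.card K = q ^ 2) (hσ : ∀ x, σ x = x ^ q) (e : P ≃* SuzP σ) (x : P) :
    x ^ 2 ∈ Subgroup.center P := by
  rw [mem_center_iff e, map_pow]
  exact sq_mem_center hK hσ (e x)

theorem sq_center (hK : Fintype.card K = q ^ 2) (hσ : ∀ x, σ x = x ^ q) (e : P ≃* SuzP σ) (x : P)
    (hx : x ∈ Subgroup.center P) : x ^ 2 = 1 := by
  apply e.injective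
  rw [map_pow, map_one]
  exact sq_eq_one_of_mem_center hK hσ (e x) ((mem_center_iff e x).mp hx)

end transfer

/-- Let F be a field with 16 elements and S a Sylow 2-subgroup of PSU(3) over F (the unitary group U₃(4)). Then |S| = 64; the centre Z(S) is a Klein four-group and coincides with the subgroup generated by the involutions of S and with the derived subgroup; and every element of S ⧸ Z(S) squares to the identity, S ⧸ Z(S) having order 16. -/
theorem result {F : Type*} [Field F] [Fintype F] (hF : Fintype.card F = 16) (S : Sylow 2 (Cfsg.PSU 3 F 4)) : Nat.card S = 64 ∧ IsKleinFour (Subgroup.center (S : Subgroup (Cfsg.PSU 3 F 4))) ∧ Subgroup.center (S : Subgroup (Cfsg.PSU 3 F 4)) = Subgroup.closure {x : (S : Subgroup (Cfsg.PSU 3 F 4)) | orderOf x = 2} ∧ Subgroup.center (S : Subgroup (Cfsg.PSU 3 F 4)) = commutator (S : Subgroup (Cfsg.PSU 3 F 4)) ∧ Nat.card ((S : Subgroup (Cfsg.PSU 3 F 4)) ⧸ Subgroup.center (S : Subgroup (Cfsg.PSU 3 F 4))) = 16 ∧ ∀ x : (S : Subgroup (Cfsg.PSU 3 F 4)) ⧸ Subgroup.center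 (S : Subgroup (Cfsg.PSU 3 F 4)), x ^ 2 = 1 := by
  have hF' : Fintype.card F = 4 ^ 2 := by rw [hF]; norm_num
  haveI : Fact (Nat.Prime 2) := ⟨Nat.prime_two⟩
  haveI : CharP F 2 := charP_of_card_eq_prime_pow (f := 4) (by rw [hF]; norm_num)
  obtain ⟨σ, hσ⟩ := Cfsg.Agent.Lib.Lead.exists_frob hF'
  haveI : Fact (∀ x, σ (σ x) = x) := ⟨Cfsg.Agent.Lib.Lead.frob_frob hF' σ hσ⟩
  obtain ⟨e⟩ := SU3Even.sylow_equiv 2 (by norm_num) (by norm_num) hF' hσ S
  have hcS : Nat.card ↥(S : Subgroup (Cfsg.PSU 3 F 4)) = 64 := by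
    have := (Nat.card_congr e.toEquiv).trans (card_suzP hF' hσ)
    exact this.trans (by norm_num)
  have hcZ : Nat.card (Subgroup.center ↥(S : Subgroup (Cfsg.PSU 3 F 4))) = 4 :=
    (Nat.card_congr (Subgroup.centerCongr e).toEquiv).trans (card_center hF' hσ)
  refine ⟨hcS, ?_, center_eq_closure hF' hσ e, center_eq_commutator hF' hσ e, ?_, ?_⟩
  · refine ⟨hcZ, ?_⟩
    have h1 : Monoid.exponent (Subgroup.center ↥(S : Subgroup (Cfsg.PSU 3 F 4))) ∣ 2 := by
      apply Monoid.exponent_dvd_of_forall_pow_eq_one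
      intro z
      apply Subtype.ext
      rw [Subgroup.coe_pow, Subgroup.coe_one]
      exact sq_center hF' hσ e z.1 z.2
    have h2 : Monoid.exponent (Subgroup.center ↥(S : Subgroup (Cfsg.PSU 3 F 4))) ≠ 1 := by
      intro h
      rw [Monoid.exp_eq_one_iff] at h
      have := Nat.card_eq_one_iff_unique.mpr ⟨h, ⟨1⟩⟩
      rw [hcZ] at this
      exact absurd this (by norm_num)
    rcases (Nat.dvd_prime Nat.prime_two).mp h1 with h | h
    · exact absurd h h2
    · exact h
  · have h1 := Subgroup.card_eq_card_quotient_mul_card_subgroup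
      (Subgroup.center ↥(S : Subgroup (Cfsg.PSU 3 F 4)))
    rw [hcS, hcZ] at h1
    omega
  · intro x
    induction x using QuotientGroup.induction_on with
    | H a =>
      rw [← QuotientGroup.mk_pow, QuotientGroup.eq_one_iff]
      exact sq_mem hF' hσ e a

end Cfsg.Agent.S1248
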