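import Cfsg.Statements.S1249

set_option autoImplicit false
open Cfsg

namespace Cfsg.Agent.S1249

open scoped Pointwise in
theorem sylow_conj {G : Type*} [Group G] [Finite G] {p : ℕ} [Fact p.Prime] (P Q : Sylow p G) :
    ∃ h : G, ∀ y : G, y ∈ (Q : Subgroup G) ↔ h * y * h⁻¹ ∈ (P : Subgroup G) := by
  obtain ⟨h, hh⟩ := MulAction.exists_smul_eq G Q P
  refine ⟨h, fun y => ?_⟩
  have : (P : Subgroup G) = MulAut.conj h • (Q : Subgroup G) := by
    rw [← hh]; rfl
  rw [this, Subgroup.mem_pointwise_smul_iff_inv_smul_mem]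
  simp [MulAut.smul_def, mul_assoc]

theorem result {G : Type*} [Group G] [Finite G] {p : ℕ} [Fact p.Prime] (P Q : Sylow p G) (A : Subgroup G) (hAQ : A ≤ Q) (hA : Cfsg.IsStronglyClosed A (P : Subgroup G)) : Cfsg.IsStronglyClosed A (Q : Subgroup G) := by
  obtain ⟨hAP, hcl⟩ := hA
  refine ⟨hAQ, ?_⟩
  obtain ⟨h, hh⟩ := sylow_conj P Q
  have hmap : ∀ a ∈ A, h * a * h⁻¹ ∈ A := fun a ha => hcl a ha h ((hh a).1 (hAQ ha))
  have hinj : Function.Injective (fun a : A => (⟨h * a * h⁻¹, hmap a a.2⟩ : A)) := by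
    intro a b hab
    have := congrArg Subtype.val hab
    simpa using this
  have hsurj := Finite.surjective_of_injective hinj
  intro x hx g hgx
  have h1 : h * (g * x * g⁻¹) * h⁻¹ ∈ A := by
    have h2 : (h * g) * x * (h * g)⁻¹ ∈ (P : Subgroup G) := by
      have := (hh _).1 hgx
      simpa [mul_assoc] using this
    have := hcl x hx (h * g) h2
    simpa [mul_assoc] using this
  obtain ⟨a, ha⟩ := hsurj ⟨_, h1⟩
  have h3 : h * (a : G) * h⁻¹ = h * (g * x * g⁻¹) * h⁻¹ := congrArg Subtype.val ha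
  have : (a : G) = g * x * g⁻¹ := by
    simpa using h3
  rw [← this]; exact a.2

end Cfsg.Agent.S1249
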