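import Cfsg.Statements.S1250
import Cfsg.Agent.Lib.Helper9.SylowConj

set_option autoImplicit false
open Cfsg

namespace Cfsg.Agent.S1250

open Cfsg.Agent.Lib.Helper9

theorem result {G : Type*} [Group G] [Finite G] {p : ℕ} [Fact p.Prime] (S : Sylow p G) (A : Subgroup G) (hA : Cfsg.IsStronglyClosed A (S : Subgroup G)) (N : Subgroup G) [N.Normal] : Cfsg.IsStronglyClosed (A.map (QuotientGroup.mk' N)) ((S : Subgroup G).map (QuotientGroup.mk' N)) := by
  obtain ⟨hAS, hcl⟩ := hA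
  refine ⟨Subgroup.map_mono hAS, ?_⟩
  rintro _ ⟨a, ha, rfl⟩ gbar hg
  obtain ⟨g, rfl⟩ := QuotientGroup.mk'_surjective N gbar
  obtain ⟨s, hs, hsy⟩ := hg
  set y := g * a * g⁻¹ with hy
  have hyM : y ∈ (S : Subgroup G) ⊔ N := by
    have h1 : s⁻¹ * y ∈ N := by
      rw [← QuotientGroup.eq]
      simpa [hy] using hsy
    have : y = s * (s⁻¹ * y) := by group
    rw [this]
    exact Subgroup.mul_mem_sup hs h1
  have hyp : ∃ k : ℕ, orderOf y = p ^ k := by
    have : orderOf y = orderOf a := by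
      rw [hy]
      exact orderOf_conj_eq g a
    rw [this]
    have := (S.2 : IsPGroup p (S : Subgroup G)) ⟨a, hAS ha⟩
    obtain ⟨k, hk⟩ := this
    have h2 : a ^ p ^ k = 1 := by simpa [Subtype.ext_iff] using hk
    obtain ⟨j, -, hj⟩ := (Nat.dvd_prime_pow (Fact.out : p.Prime)).1 (orderOf_dvd_of_pow_eq_one h2)
    exact ⟨j, hj⟩
  obtain ⟨m, hm, hmy⟩ := exists_conj_mem_sylow_of_mem ((S : Subgroup G) ⊔ N) S le_sup_left y hyp hyM
  have h3 : (m * g) * a * (m * g)⁻¹ ∈ A := by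
    apply hcl a ha
    simpa [hy, mul_assoc] using hmy
  have h4 : m * y * m⁻¹ ∈ A := by simpa [hy, mul_assoc] using h3
  have hsup : ∃ s' ∈ (S : Subgroup G), ∃ n ∈ N, m = s' * n := by
    rw [Subgroup.mem_sup_of_normal_right] at hm
    obtain ⟨s', hs', n, hn, rfl⟩ := hm
    exact ⟨s', hs', n, hn, rfl⟩
  obtain ⟨s', hs', n, hn, rfl⟩ := hsup
  have h5 : s'⁻¹ * ((s' * n) * y * (s' * n)⁻¹) * s'⁻¹⁻¹ ∈ A := by
    apply hcl _ h4
    apply Subgroup.mul_mem _ (Subgroup.mul_mem _ (Subgroup.inv_mem _ hs') (hAS h4)) (by simpa using hs')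
  have h6 : n * y * n⁻¹ ∈ A := by
    have : s'⁻¹ * ((s' * n) * y * (s' * n)⁻¹) * s'⁻¹⁻¹ = n * y * n⁻¹ := by group
    rwa [this] at h5
  refine ⟨n * y * n⁻¹, h6, ?_⟩
  have hn1 : (QuotientGroup.mk' N) n = 1 := by
    simpa using hn
  simp only [map_mul, map_inv, hn1, one_mul, inv_one, mul_one, hy]

end Cfsg.Agent.S1250
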