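import Mathlib
import Cfsg.Statements.S1255
import Cfsg.Agent.S3864
import Cfsg.Agent.S0514
import Cfsg.Agent.Lib.Helper24.KleinSylow

set_option autoImplicit false
open Cfsg

namespace Cfsg.Agent.S1255

open DihedralGroup Cfsg.Agent.S3864 Cfsg.Agent.Lib.Helper24

variable {G : Type*} [Group G]

theorem conj_eq_of_comm {g x : G} (h : g * x = x * g) : g * x * g⁻¹ = x := by
  rw [h, mul_inv_cancel_right]

theorem comm_of_conj_eq {g x : G} (h : g * x * g⁻¹ = x) : g * x = x * g := by
  calc g * x = g * x * g⁻¹ * g := by group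
    _ = x * g := by rw [h]

/-- an element commuting with two distinct involutions of a four-group centralizes it -/
theorem mem_centralizer_klein (U : Subgroup G) (hK : IsKleinFour U) {t v : G} (ht : t ∈ U) (hv : v ∈ U)
    (ht1 : t ≠ 1) (hv1 : v ≠ 1) (htv : t ≠ v) (c : G) (hct : c * t = t * c) (hcv : c * v = v * c) :
    c ∈ Subgroup.centralizer (U : Set G) := by
  rw [Subgroup.mem_centralizer_iff]
  intro x hx
  rcases ks_elems U hK ht hv ht1 hv1 htv hx with rfl | rfl | rfl | rfl
  · simp
  · exact hct.symm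
  · exact hcv.symm
  · rw [mul_assoc, ← hcv, ← mul_assoc, ← hct, mul_assoc]

/-- the square of an element normalizing a four-group and fixing one of its involutions
centralizes it -/
theorem sq_mem_centralizer_of_fix (U : Subgroup G) (hK : IsKleinFour U) (t : G) (ht : t ∈ U)
    (ht1 : t ≠ 1) (g : G) (hg : g ∈ Subgroup.normalizer (U : Set G)) (hgt : g * t * g⁻¹ = t) :
    g ^ 2 ∈ Subgroup.centralizer (U : Set G) := by
  obtain ⟨a, b, ha, hb, ha1, hb1, hab⟩ := ks_exists U hK
  obtain ⟨v, hv, hv1, htv⟩ : ∃ v ∈ U, v ≠ 1 ∧ t ≠ v := by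
    by_cases h : t = a
    · exact ⟨b, hb, hb1, by rw [h]; exact hab⟩
    · exact ⟨a, ha, ha1, h⟩
  have hgv : g * v * g⁻¹ ∈ U := (Subgroup.mem_normalizer_iff.mp hg v).mp hv
  have htt : t * t = 1 := ks_sq U hK ht
  rcases ks_elems U hK ht hv ht1 hv1 htv hgv with h | h | h | h
  · exfalso; apply hv1
    have : v = g⁻¹ * (g * v * g⁻¹) * g := by group
    rw [this, h]; group
  · exfalso; apply htv
    have h' : g * v * g⁻¹ = g * t * g⁻¹ := by rw [h, hgt]
    have := mul_right_cancel h'
    exact (mul_left_cancel this).symm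
  · have hc := mem_centralizer_klein U hK ht hv ht1 hv1 htv g (comm_of_conj_eq hgt) (comm_of_conj_eq h)
    exact Subgroup.pow_mem _ hc 2
  · have hgtv : g * (t * v) * g⁻¹ = v := by
      calc g * (t * v) * g⁻¹ = (g * t * g⁻¹) * (g * v * g⁻¹) := by group
        _ = t * (t * v) := by rw [hgt, h]
        _ = v := by rw [← mul_assoc, htt, one_mul]
    apply mem_centralizer_klein U hK ht hv ht1 hv1 htv
    · apply comm_of_conj_eq
      calc g ^ 2 * t * (g ^ 2)⁻¹ = g * (g * t * g⁻¹) * g⁻¹ := by rw [pow_two]; group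
        _ = t := by rw [hgt, hgt]
    · apply comm_of_conj_eq
      calc g ^ 2 * v * (g ^ 2)⁻¹ = g * (g * v * g⁻¹) * g⁻¹ := by rw [pow_two]; group
        _ = v := by rw [h, hgtv]

/-- an element normalizing a four-group without fixed involution permutes the three involutions
transitively -/
theorem conj_of_no_fix (U : Subgroup G) (hK : IsKleinFour U) (g : G)
    (hg : g ∈ Subgroup.normalizer (U : Set G))
    (hnofix : ∀ u ∈ U, u ≠ 1 → g * u * g⁻¹ ≠ u) :
    ∀ a ∈ U, ∀ b ∈ U, a ≠ 1 → b ≠ 1 → IsConj a b := by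
  intro a ha b hb ha1 hb1
  by_cases hab : a = b
  · rw [hab]
  have hgU : ∀ x ∈ U, g * x * g⁻¹ ∈ U := fun x hx => (Subgroup.mem_normalizer_iff.mp hg x).mp hx
  have hne1 : ∀ x : G, x ≠ 1 → g * x * g⁻¹ ≠ 1 := by
    intro x hx h
    apply hx
    have : x = g⁻¹ * (g * x * g⁻¹) * g := by group
    rw [this, h]; group
  set a' := g * a * g⁻¹ with ha'
  have ha'U : a' ∈ U := hgU a ha
  have ha'1 : a' ≠ 1 := hne1 a ha1
  have haa' : a ≠ a' := fun h => hnofix a ha ha1 h.symm
  by_cases hba' : b = a'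
  · rw [hba']; exact isConj_iff.mpr ⟨g, rfl⟩
  -- b is the third involution a * a'
  have hb3 : b = a * a' := by
    rcases ks_elems U hK ha ha'U ha1 ha'1 haa' hb with h | h | h | h
    · exact absurd h hb1
    · exact absurd h.symm hab
    · exact absurd h hba'
    · exact h
  set a'' := g * a' * g⁻¹ with ha''
  have ha''U : a'' ∈ U := hgU a' ha'U
  have ha''1 : a'' ≠ 1 := hne1 a' ha'1
  have h3 : a'' = a * a' := by
    rcases ks_elems U hK ha ha'U ha1 ha'1 haa' ha''U with h | h | h | h
    · exact absurd h ha''1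
    · -- g swaps a and a', so fixes a * a'
      exfalso
      have hfix : g * (a * a') * g⁻¹ = a * a' := by
        calc g * (a * a') * g⁻¹ = (g * a * g⁻¹) * (g * a' * g⁻¹) := by group
          _ = a' * a := by rw [← ha', ← ha'', h]
          _ = a * a' := ks_comm U hK ha'U ha
      have h1 : a * a' ≠ 1 := by
        intro h1
        apply haa'
        have haa : a * a = 1 := ks_sq U hK ha
        have : a' = a⁻¹ := (eq_inv_of_mul_eq_one_right h1)
        rw [this]; exact (eq_inv_of_mul_eq_one_left haa)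
      exact hnofix _ (U.mul_mem ha ha'U) h1 hfix
    · exact absurd h (hnofix a' ha'U ha'1)
    · exact h
  rw [hb3, ← h3]
  exact (isConj_iff.mpr ⟨g, rfl⟩ : IsConj a a').trans (isConj_iff.mpr ⟨g, rfl⟩)

/-- **(K)** if `3` divides `|N(U) : C(U)|` then the involutions of the four-group `U` are conjugate -/
theorem klein_three [Finite G] (U : Subgroup G) (hK : IsKleinFour U)
    (h3 : 3 ∣ (Subgroup.centralizer (U : Set G)).relIndex (Subgroup.normalizer (U : Set G))) :
    ∀ a ∈ U, ∀ b ∈ U, a ≠ 1 → b ≠ 1 → IsConj a b := by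
  haveI : Fact (Nat.Prime 3) := ⟨Nat.prime_three⟩
  set N := Subgroup.normalizer (U : Set G) with hN
  set C' : Subgroup N := (Subgroup.centralizer (U : Set G)).subgroupOf N with hC'
  have hcard : 3 ∣ Nat.card (N ⧸ C') := by
    rw [← Subgroup.index_eq_card]; exact h3
  obtain ⟨x, hx⟩ := exists_prime_orderOf_dvd_card' 3 hcard
  obtain ⟨g, rfl⟩ := QuotientGroup.mk_surjective x
  have hg3 : g ^ 3 ∈ C' := by
    rw [← QuotientGroup.eq_one_iff, QuotientGroup.mk_pow, ← hx, pow_orderOf_eq_one]
  have hgn : g ∉ C' := by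
    intro h
    rw [← QuotientGroup.eq_one_iff] at h
    rw [h, orderOf_one] at hx
    omega
  have hg3' : (g : G) ^ 3 ∈ Subgroup.centralizer (U : Set G) := by
    have := Subgroup.mem_subgroupOf.mp hg3
    simpa using this
  have hgn' : (g : G) ∉ Subgroup.centralizer (U : Set G) := fun h => hgn (Subgroup.mem_subgroupOf.mpr h)
  apply conj_of_no_fix U hK (g : G) g.2
  intro u hu hu1 hfix
  apply hgn'
  have h2 := sq_mem_centralizer_of_fix U hK u hu hu1 (g : G) g.2 hfix
  have : (g : G) = (g : G) ^ 3 * ((g : G) ^ 2)⁻¹ := by group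
  rw [this]
  exact Subgroup.mul_mem _ hg3' (Subgroup.inv_mem _ h2)

/-- the four-group generated by two commuting involutions -/
def fourSub (a b : G) (ha : a * a = 1) (hb : b * b = 1) (hab : a * b = b * a) : Subgroup G where
  carrier := {1, a, b, a * b}
  one_mem' := by simp
  mul_mem' := by
    have h1 : b * a = a * b := hab.symm
    have h2 : a * (a * b) = b := by rw [← mul_assoc, ha, one_mul]
    have h3 : b * (a * b) = a := by rw [← mul_assoc, h1, mul_assoc, hb, mul_one]
    have h4 : a * b * a = b := by rw [mul_assoc, h1, h2]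
    have h5 : a * b * b = a := by rw [mul_assoc, hb, mul_one]
    have h6 : a * b * (a * b) = 1 := by rw [mul_assoc, h3, ha]
    rintro x y (rfl | rfl | rfl | rfl) (rfl | rfl | rfl | rfl) <;>
      simp only [one_mul, mul_one, ha, hb, h1, h2, h3, h4, h5, h6, Set.mem_insert_iff,
        Set.mem_singleton_iff, true_or, or_true]
  inv_mem' := by
    have hai : a⁻¹ = a := inv_eq_of_mul_eq_one_left ha
    have hbi : b⁻¹ = b := inv_eq_of_mul_eq_one_left hb
    rintro x (rfl | rfl | rfl | rfl)
    · simp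
    · simp [hai]
    · simp [hbi]
    · simp only [mul_inv_rev, hai, hbi, ← hab, Set.mem_insert_iff, Set.mem_singleton_iff, or_true]

theorem mem_fourSub (a b : G) (ha : a * a = 1) (hb : b * b = 1) (hab : a * b = b * a) (x : G) :
    x ∈ fourSub a b ha hb hab ↔ x = 1 ∨ x = a ∨ x = b ∨ x = a * b := Iff.rfl

theorem isKleinFour_fourSub (a b : G) (ha : a * a = 1) (hb : b * b = 1) (hab : a * b = b * a)
    (ha1 : a ≠ 1) (hb1 : b ≠ 1) (hne : a ≠ b) : IsKleinFour (fourSub a b ha hb hab) := by
  have hcard : Nat.card (fourSub a b ha hb hab) = 4 := by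
    have h0 : Nat.card (fourSub a b ha hb hab) = ({1, a, b, a * b} : Set G).ncard :=
      Nat.card_coe_set_eq ({1, a, b, a * b} : Set G)
    rw [h0]
    have hab1 : a * b ≠ 1 := by
      intro h
      apply hne
      have : b = a⁻¹ := eq_inv_of_mul_eq_one_right h
      rw [this]; exact eq_inv_of_mul_eq_one_left ha
    have haba : a * b ≠ a := by
      intro h; exact hb1 (mul_left_cancel (h.trans (mul_one a).symm))
    have habb : a * b ≠ b := by
      intro h; exact ha1 (mul_right_cancel (h.trans (one_mul b).symm))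
    rw [Set.ncard_insert_of_notMem, Set.ncard_insert_of_notMem, Set.ncard_pair]
    · exact fun h => habb h.symm
    · simp only [Set.mem_insert_iff, Set.mem_singleton_iff, not_or]
      exact ⟨hne, fun h => haba h.symm⟩
    · simp only [Set.mem_insert_iff, Set.mem_singleton_iff, not_or]
      exact ⟨fun h => ha1 h.symm, fun h => hb1 h.symm, fun h => hab1 h.symm⟩
  refine ⟨hcard, ?_⟩
  have hdvd : Monoid.exponent (fourSub a b ha hb hab) ∣ 2 := by
    apply Monoid.exponent_dvd_of_forall_pow_eq_one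
    rintro ⟨x, hx⟩
    apply Subtype.ext
    have hxx : x * x = 1 := by
      rcases hx with rfl | rfl | rfl | rfl
      · simp
      · exact ha
      · exact hb
      · rw [mul_assoc, ← mul_assoc b, ← hab, mul_assoc, hb, mul_one, ha]
    simp only [Subgroup.coe_one, pow_two]
    exact hxx
  have hne1 : Monoid.exponent (fourSub a b ha hb hab) ≠ 1 := by
    intro h1
    have := Monoid.exp_eq_one_iff.mp h1
    have hc1 : Nat.card (fourSub a b ha hb hab) = 1 := Nat.card_eq_one_iff_unique.mpr ⟨this, ⟨1⟩⟩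
    rw [hcard] at hc1
    norm_num at hc1
  rcases (Nat.dvd_prime Nat.prime_two).mp hdvd with h | h
  · exact absurd h hne1
  · exact h

section main

variable {X : Type*} [Group X] [Finite X] {m : ℕ} [NeZero m]

/-- conjugacy of all involutions of `S` gives conjugacy of all involutions -/
theorem allConj_of_sylow (S : Sylow 2 X)
    (h : ∀ a ∈ (S : Subgroup X), ∀ b ∈ (S : Subgroup X), orderOf a = 2 → orderOf b = 2 → IsConj a b) :
    ∀ a b : X, orderOf a = 2 → orderOf b = 2 → IsConj a b := by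
  intro a b ha hb
  obtain ⟨c, hc⟩ := invol_conj_into S a ha
  obtain ⟨d, hd⟩ := invol_conj_into S b hb
  have hca : orderOf (c * a * c⁻¹) = 2 := by
    have : c * a * c⁻¹ = MulAut.conj c a := rfl
    rw [this, MulEquiv.orderOf_eq]; exact ha
  have hdb : orderOf (d * b * d⁻¹) = 2 := by
    have : d * b * d⁻¹ = MulAut.conj d b := rfl
    rw [this, MulEquiv.orderOf_eq]; exact hb
  have h1 : IsConj a (c * a * c⁻¹) := isConj_iff.mpr ⟨c, rfl⟩
  have h2 : IsConj b (d * b * d⁻¹) := isConj_iff.mpr ⟨d, rfl⟩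
  exact h1.trans ((h _ hc _ hd hca hdb).trans h2.symm)

theorem orderOf_z' (S : Sylow 2 X) (eS : (S : Subgroup X) ≃* DihedralGroup m) (h2 : 2 ∣ m) :
    orderOf (emb (S : Subgroup X) eS (r ((m / 2 : ℕ) : ZMod m))) = 2 := by
  rw [orderOf_emb]
  apply orderOf_eq_prime
  · rw [pow_two, r_mul_r, half_add_half h2, r_zero]
  · rw [one_def]
    intro h
    have h0 : ((m / 2 : ℕ) : ZMod m) = 0 := by injection h
    rw [ZMod.natCast_eq_zero_iff] at h0
    have hm0 : m ≠ 0 := NeZero.ne m
    obtain ⟨c, hc⟩ := h2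
    have hpos : 0 < m / 2 := by omega
    have := Nat.le_of_dvd hpos h0
    omega

/-- **(A)** -/
theorem lhs_of_allConj (S : Sylow 2 X) (eS : (S : Subgroup X) ≃* DihedralGroup m) (h2 : 2 ∣ m)
    (hall : ∀ a b : X, orderOf a = 2 → orderOf b = 2 → IsConj a b) :
    (∀ H : Subgroup X, H.index ≠ 2) ∧ (∀ z : X, ¬ Cfsg.IsIsolatedInvolution z) := by
  haveI : Fact (Nat.Prime 2) := ⟨Nat.prime_two⟩
  have hs2 := orderOf_s_emb (S : Subgroup X) eS 0
  have ht2 := orderOf_s_emb (S : Subgroup X) eS 1
  have hz2 := orderOf_z' S eS h2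
  constructor
  · intro H hidx
    have hHn : H.Normal := Subgroup.normal_of_index_eq_two hidx
    have hcardS : Nat.card (S : Subgroup X) = 2 * m := by
      rw [Nat.card_congr eS.toEquiv, DihedralGroup.nat_card]
    have h4 : 4 ∣ Nat.card X := by
      have h1 : Nat.card (S : Subgroup X) ∣ Nat.card X := Subgroup.card_subgroup_dvd_card _
      rw [hcardS] at h1
      obtain ⟨c, hc⟩ := h2
      exact Dvd.dvd.trans ⟨c, by omega⟩ h1
    have hH2 : 2 ∣ Nat.card H := by
      have := H.card_mul_index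
      rw [hidx] at this
      obtain ⟨c, hc⟩ := h4
      exact ⟨c, by omega⟩
    obtain ⟨x, hx⟩ := exists_prime_orderOf_dvd_card' 2 hH2
    have hx2 : orderOf (x : X) = 2 := by rw [Subgroup.orderOf_coe]; exact hx
    have hsH : emb (S : Subgroup X) eS (sr 0) ∈ H := by
      obtain ⟨c, hc⟩ := isConj_iff.mp (hall _ _ hx2 hs2)
      rw [← hc]; exact hHn.conj_mem _ x.2 c
    have htH : emb (S : Subgroup X) eS (sr 1) ∈ H := by
      obtain ⟨c, hc⟩ := isConj_iff.mp (hall _ _ hx2 ht2)
      rw [← hc]; exact hHn.conj_mem _ x.2 c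
    have hle := le_of_s_t_mem S eS H hsH htH
    have hdvd := Subgroup.index_dvd_of_le hle
    rw [hidx] at hdvd
    exact S.not_dvd_index hdvd
  · rintro y ⟨hy2, hy⟩
    obtain ⟨c, hc⟩ := isConj_iff.mp (hall _ _ hs2 hy2)
    -- c z c⁻¹ is a conjugate of y commuting with y
    set z := emb (S : Subgroup X) eS (r ((m / 2 : ℕ) : ZMod m)) with hz
    set s := emb (S : Subgroup X) eS (sr 0) with hs
    have hzs : z * s = s * z := by
      rw [hz, hs, ← map_mul, ← map_mul, r_half_central h2]
    have hczo : orderOf (c * z * c⁻¹) = 2 := by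
      have : c * z * c⁻¹ = MulAut.conj c z := rfl
      rw [this, MulEquiv.orderOf_eq]; exact hz2
    obtain ⟨g, hg⟩ := isConj_iff.mp (hall _ _ hy2 hczo)
    have hcomm : Commute y (g * y * g⁻¹) := by
      rw [hg, ← hc]
      show c * s * c⁻¹ * (c * z * c⁻¹) = c * z * c⁻¹ * (c * s * c⁻¹)
      calc c * s * c⁻¹ * (c * z * c⁻¹) = c * (s * z) * c⁻¹ := by group
        _ = c * (z * s) * c⁻¹ := by rw [hzs]
        _ = c * z * c⁻¹ * (c * s * c⁻¹) := by group
    have := hy g hcomm
    rw [hg, ← hc] at this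
    have hzs' : z = s := by
      have h1 := mul_right_cancel this
      exact mul_left_cancel h1
    have := emb_injective _ eS hzs'
    cases this

/-- all involutions are conjugate when `z ~ s` and `z ~ t` -/
theorem allConj_of_caseII (S : Sylow 2 X) (eS : (S : Subgroup X) ≃* DihedralGroup m) (h2 : 2 ∣ m)
    (hzs : IsConj (emb (S : Subgroup X) eS (r ((m / 2 : ℕ) : ZMod m))) (emb (S : Subgroup X) eS (sr 0)))
    (hzt : IsConj (emb (S : Subgroup X) eS (r ((m / 2 : ℕ) : ZMod m))) (emb (S : Subgroup X) eS (sr 1))) :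
    ∀ a b : X, orderOf a = 2 → orderOf b = 2 → IsConj a b := by
  apply allConj_of_sylow S
  have key : ∀ a ∈ (S : Subgroup X), orderOf a = 2 →
      IsConj a (emb (S : Subgroup X) eS (r ((m / 2 : ℕ) : ZMod m))) := by
    intro a ha ha2
    rcases invol_in_P (S : Subgroup X) eS h2 a ha ha2 with h | h | h
    · rw [h]
    · exact h.trans hzs.symm
    · exact h.trans hzt.symm
  intro a ha b hb ha2 hb2
  exact (key a ha ha2).trans (key b hb hb2).symm

/-- in case I the central involution `z` is isolated -/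
theorem isolated_of_caseI (S : Sylow 2 X) (eS : (S : Subgroup X) ≃* DihedralGroup m) (h2 : 2 ∣ m)
    (hzs : ¬ IsConj (emb (S : Subgroup X) eS (r ((m / 2 : ℕ) : ZMod m))) (emb (S : Subgroup X) eS (sr 0)))
    (hzt : ¬ IsConj (emb (S : Subgroup X) eS (r ((m / 2 : ℕ) : ZMod m))) (emb (S : Subgroup X) eS (sr 1))) :
    Cfsg.IsIsolatedInvolution (emb (S : Subgroup X) eS (r ((m / 2 : ℕ) : ZMod m))) := by
  haveI : Fact (Nat.Prime 2) := ⟨Nat.prime_two⟩
  set z := emb (S : Subgroup X) eS (r ((m / 2 : ℕ) : ZMod m)) with hz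
  have hz2 : orderOf z = 2 := orderOf_z' S eS h2
  refine ⟨hz2, ?_⟩
  intro g hcomm
  set w := g * z * g⁻¹ with hw
  have hw2 : orderOf w = 2 := by
    have : w = MulAut.conj g z := rfl
    rw [this, MulEquiv.orderOf_eq]; exact hz2
  -- conjugates of z inside S equal z
  have hzS : ∀ u ∈ (S : Subgroup X), IsConj z u → u = z := by
    intro u hu hconj
    have hu2 : orderOf u = 2 := by
      obtain ⟨c, hc⟩ := isConj_iff.mp hconj
      have : u = MulAut.conj c z := hc.symm
      rw [this, MulEquiv.orderOf_eq]; exact hz2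
    rcases invol_in_P (S : Subgroup X) eS h2 u hu hu2 with h | h | h
    · exact h
    · exact absurd (hconj.trans h) hzs
    · exact absurd (hconj.trans h) hzt
  -- the 2-group generated by z and w
  have hZ2 : IsPGroup 2 (Subgroup.zpowers z) :=
    IsPGroup.of_card (n := 1) (by rw [Nat.card_zpowers, hz2, pow_one])
  have hW2 : IsPGroup 2 (Subgroup.zpowers w) :=
    IsPGroup.of_card (n := 1) (by rw [Nat.card_zpowers, hw2, pow_one])
  have hWN : Subgroup.zpowers w ≤ Subgroup.normalizer ((Subgroup.zpowers z : Subgroup X) : Set X) := by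
    rw [Subgroup.zpowers_le]
    apply Cfsg.Agent.S1254.mem_normalizer_of_conj_mem
    intro u hu
    obtain ⟨k, rfl⟩ := Subgroup.mem_zpowers_iff.mp hu
    have hc : Commute w (z ^ k) := (hcomm.symm).zpow_right k
    rw [hc.eq, mul_inv_cancel_right]
    exact Subgroup.zpow_mem_zpowers z k
  have hT2 : IsPGroup 2 (Subgroup.zpowers w ⊔ Subgroup.zpowers z : Subgroup X) :=
    hW2.to_sup_of_normal_right' hZ2 hWN
  obtain ⟨S', hS'⟩ := hT2.exists_le_sylow
  obtain ⟨x, hx⟩ := MulAction.exists_smul_eq X S' S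
  have hmem : ∀ y ∈ (S' : Subgroup X), x * y * x⁻¹ ∈ (S : Subgroup X) := by
    intro y hy
    rw [← hx]
    show x * y * x⁻¹ ∈ x • S'
    rw [Cfsg.Agent.Lib.Helper1.mem_sylow_smul_iff]
    have : x⁻¹ * (x * y * x⁻¹) * x = y := by group
    rw [this]; exact hy
  have h1 := hzS _ (hmem z (hS' (Subgroup.mem_sup_right (Subgroup.mem_zpowers z))))
    (isConj_iff.mpr ⟨x, rfl⟩)
  have h2' := hzS _ (hmem w (hS' (Subgroup.mem_sup_left (Subgroup.mem_zpowers w))))
    (isConj_iff.mpr ⟨x * g, by rw [hw]; group⟩)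
  have : x * w * x⁻¹ = x * z * x⁻¹ := by rw [h1, h2']
  have h3 := mul_right_cancel this
  exact mul_left_cancel h3

/-- **(B)** for `4 ∣ m` -/
theorem allConj_of_lhs_four (S : Sylow 2 X) (eS : (S : Subgroup X) ≃* DihedralGroup m) (h4 : 4 ∣ m)
    (hidx : ∀ H : Subgroup X, H.index ≠ 2) (hiso : ∀ z : X, ¬ Cfsg.IsIsolatedInvolution z) :
    ∀ a b : X, orderOf a = 2 → orderOf b = 2 → IsConj a b := by
  have h2 : 2 ∣ m := Dvd.dvd.trans (by norm_num) h4
  by_cases hzs : IsConj (emb (S : Subgroup X) eS (r ((m / 2 : ℕ) : ZMod m)))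
      (emb (S : Subgroup X) eS (sr 0))
  · by_cases hzt : IsConj (emb (S : Subgroup X) eS (r ((m / 2 : ℕ) : ZMod m)))
        (emb (S : Subgroup X) eS (sr 1))
    · exact allConj_of_caseII S eS h2 hzs hzt
    · exfalso
      obtain ⟨-, ⟨N, -, hNi⟩, -⟩ := caseIII S eS h4 hzs hzt
      exact hidx N hNi
  · by_cases hzt : IsConj (emb (S : Subgroup X) eS (r ((m / 2 : ℕ) : ZMod m)))
        (emb (S : Subgroup X) eS (sr 1))
    · exfalso
      have hneg : -(((m / 2 : ℕ) : ZMod m)) = ((m / 2 : ℕ) : ZMod m) := by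
        rw [neg_eq_iff_add_eq_zero]; exact half_add_half h2
      have e1 : emb (S : Subgroup X) (eS.trans swapEquiv) (r ((m / 2 : ℕ) : ZMod m)) =
          emb (S : Subgroup X) eS (r ((m / 2 : ℕ) : ZMod m)) := by
        rw [emb_trans_swap]; simp only [swapFun]; rw [hneg]
      have e2 : emb (S : Subgroup X) (eS.trans swapEquiv) (sr 0) = emb (S : Subgroup X) eS (sr 1) := by
        rw [emb_trans_swap]; simp only [swapFun, sub_zero]
      have e3 : emb (S : Subgroup X) (eS.trans swapEquiv) (sr 1) = emb (S : Subgroup X) eS (sr 0) := by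
        rw [emb_trans_swap]; simp only [swapFun, sub_self]
      obtain ⟨-, ⟨N, -, hNi⟩, -⟩ := caseIII S (eS.trans swapEquiv) h4
        (by rw [e1, e2]; exact hzt) (by rw [e1, e3]; exact hzs)
      exact hidx N hNi
    · exfalso
      exact hiso _ (isolated_of_caseI S eS h2 hzs hzt)

theorem isKleinFour_of_equiv (S : Sylow 2 X) (eS : (S : Subgroup X) ≃* DihedralGroup 2) :
    IsKleinFour (S : Subgroup X) := by
  refine ⟨?_, ?_⟩
  · rw [Nat.card_congr eS.toEquiv, DihedralGroup.nat_card]
  · rw [Monoid.exponent_eq_of_mulEquiv eS]; exact IsKleinFour.exponent_two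

/-- **(B)** for `m = 2` -/
theorem allConj_of_lhs_two (S : Sylow 2 X) (eS : (S : Subgroup X) ≃* DihedralGroup 2)
    (hidx : ∀ H : Subgroup X, H.index ≠ 2) :
    ∀ a b : X, orderOf a = 2 → orderOf b = 2 → IsConj a b := by
  haveI : Fact (Nat.Prime 2) := ⟨Nat.prime_two⟩
  have hK : IsKleinFour (S : Subgroup X) := isKleinFour_of_equiv S eS
  by_contra hnot
  have hF : Cfsg.Agent.Lib.Helper21.FrobHyp 2 X := by
    apply Cfsg.Agent.Lib.Helper21.frobHyp_of_sylow S
    intro Q hQ g hg hodd
    rcases Cfsg.Agent.S0514.centralizes_or_klein (S : Subgroup X) eS S.isPGroup' Q hQ g hg hodd with h | hKQ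
    · exact h
    · have hQS : Q = (S : Subgroup X) := by
        apply Subgroup.eq_of_le_of_card_ge hQ
        rw [hKQ.card_four, hK.card_four]
      subst hQS
      by_contra hgC
      apply hnot
      apply allConj_of_sylow S
      have hconj := conj_of_no_fix (S : Subgroup X) hK g hg (by
        intro u hu hu1 hfix
        exact hgC (Cfsg.Agent.S0514.centralizes_klein_of_fix (S : Subgroup X) hK u hu hu1 g hg hodd
          (comm_of_conj_eq hfix)))
      intro a ha b hb ha2 hb2
      exact hconj a ha b hb (ks_eq_one_of_sq ha2) (ks_eq_one_of_sq hb2)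
  obtain ⟨N, hNn, hNc⟩ := hF.exists_normal_complement S
  haveI := hNn
  have hNidx : N.index = Nat.card (S : Subgroup X) :=
    Cfsg.Agent.Lib.Helper1.index_eq_card_of_isComplement' hNc
  have hcard : Nat.card (X ⧸ N) = 4 := by
    rw [← Subgroup.index_eq_card, hNidx, hK.card_four]
  obtain ⟨x, hx⟩ := exists_prime_orderOf_dvd_card' 2 (by rw [hcard]; norm_num : 2 ∣ Nat.card (X ⧸ N))
  have hz : Nat.card (Subgroup.zpowers x) = 2 := by rw [Nat.card_zpowers, hx]
  have hzi : (Subgroup.zpowers x).index = 2 := by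
    have := (Subgroup.zpowers x).card_mul_index
    rw [hz, hcard] at this
    omega
  apply hidx ((Subgroup.zpowers x).comap (QuotientGroup.mk' N))
  rw [Subgroup.index_comap_of_surjective _ (QuotientGroup.mk'_surjective N)]
  exact hzi

/-- **(C)** -/
theorem allConj_of_relIndex (S : Sylow 2 X) (eS : (S : Subgroup X) ≃* DihedralGroup m)
    (hm : m = 2 ∨ 4 ∣ m)
    (hyp : ∀ U : Subgroup X, U ≤ S → IsKleinFour U →
      (Subgroup.centralizer (U : Set X)).relIndex (Subgroup.normalizer (U : Set X)) =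
        (if Nat.card S = 4 then 3 else 6)) :
    ∀ a b : X, orderOf a = 2 → orderOf b = 2 → IsConj a b := by
  have hcardS : Nat.card (S : Subgroup X) = 2 * m := by
    rw [Nat.card_congr eS.toEquiv, DihedralGroup.nat_card]
  rcases hm with rfl | h4
  · have hK : IsKleinFour (S : Subgroup X) := isKleinFour_of_equiv S eS
    have h3 := hyp (S : Subgroup X) le_rfl hK
    have hc4 : Nat.card S = 4 := hK.card_four
    rw [if_pos hc4] at h3
    have hconj := klein_three (S : Subgroup X) hK (by rw [h3])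
    apply allConj_of_sylow S
    intro a ha b hb ha2 hb2
    exact hconj a ha b hb (ks_eq_one_of_sq ha2) (ks_eq_one_of_sq hb2)
  · have h2 : 2 ∣ m := Dvd.dvd.trans (by norm_num) h4
    have hne4 : ¬ Nat.card S = 4 := by
      have h0 : Nat.card S = 2 * m := hcardS
      rw [h0]
      obtain ⟨c, hc⟩ := h4
      have : m ≠ 0 := NeZero.ne m
      omega
    set z := emb (S : Subgroup X) eS (r ((m / 2 : ℕ) : ZMod m)) with hz
    have hz2 : orderOf z = 2 := orderOf_z' S eS h2
    have hzz : z * z = 1 := by rw [← pow_two, ← hz2, pow_orderOf_eq_one]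
    have hz1 : z ≠ 1 := ks_eq_one_of_sq hz2
    have key : ∀ i : ZMod m, IsConj z (emb (S : Subgroup X) eS (sr i)) := by
      intro i
      set s := emb (S : Subgroup X) eS (sr i) with hs
      have hs2 : orderOf s = 2 := orderOf_s_emb _ eS i
      have hss : s * s = 1 := by rw [← pow_two, ← hs2, pow_orderOf_eq_one]
      have hs1 : s ≠ 1 := ks_eq_one_of_sq hs2
      have hcomm : z * s = s * z := by
        rw [hz, hs, ← map_mul, ← map_mul, r_half_central h2]
      have hne : z ≠ s := by
        intro h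
        have := emb_injective _ eS h
        cases this
      have hKU := isKleinFour_fourSub z s hzz hss hcomm hz1 hs1 hne
      have hUS : fourSub z s hzz hss hcomm ≤ (S : Subgroup X) := by
        rintro x (rfl | rfl | rfl | rfl)
        · exact Subgroup.one_mem _
        · exact emb_mem _ eS _
        · exact emb_mem _ eS _
        · exact Subgroup.mul_mem _ (emb_mem _ eS _) (emb_mem _ eS _)
      have h6 := hyp _ hUS hKU
      rw [if_neg hne4] at h6
      have hconj := klein_three _ hKU (by rw [h6]; norm_num)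
      exact hconj z (Or.inr (Or.inl rfl)) s (Or.inr (Or.inr (Or.inl rfl))) hz1 hs1
    exact allConj_of_caseII S eS h2 (key 0) (key 1)

end main

/-- Let X be a finite group whose Sylow 2-subgroup S is dihedral of order 2m ≥ 4. Then X has no subgroup of index 2 and no isolated involution if and only if either all involutions of X are conjugate, or for every Klein four-subgroup U ≤ S the index |N_X(U) : C_X(U)| equals 3 when |S| = 4 and equals 6 when |S| > 4. -/
theorem result {X : Type*} [Group X] [Finite X] (S : Sylow 2 X) (m : ℕ) (hm : 2 ≤ m) (eS : (S : Subgroup X) ≃* DihedralGroup m) : ((∀ H : Subgroup X, H.index ≠ 2) ∧ (∀ z : X, ¬ Cfsg.IsIsolatedInvolution z)) ↔ ((∀ a b : X, orderOf a = 2 → orderOf b = 2 → IsConj a b) ∨ (∀ U : Subgroup X, U ≤ S → IsKleinFour U → (Subgroup.centralizer (U : Set X)).relIndex (Subgroup.normalizer (U : Set X)) = (if Nat.card S = 4 then 3 else 6))) := by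
  haveI : Fact (Nat.Prime 2) := ⟨Nat.prime_two⟩
  haveI : NeZero m := ⟨by omega⟩
  have hcardS : Nat.card (S : Subgroup X) = 2 * m := by
    rw [Nat.card_congr eS.toEquiv, DihedralGroup.nat_card]
  obtain ⟨k, hk⟩ := IsPGroup.iff_card.mp S.2
  have hmdvd : m ∣ 2 ^ k := by
    rw [← hk, hcardS]; exact Dvd.intro_left 2 rfl
  obtain ⟨j, -, hj⟩ := (Nat.dvd_prime_pow Nat.prime_two).mp hmdvd
  have hm4 : m = 2 ∨ 4 ∣ m := by
    rcases j with _ | _ | j
    · rw [hj] at hm; norm_num at hm
    · left; rw [hj]; norm_num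
    · right; rw [hj]; exact ⟨2 ^ j, by ring⟩
  have h2 : 2 ∣ m := by
    rcases hm4 with h | h
    · rw [h]
    · exact Dvd.dvd.trans (by norm_num) h
  constructor
  · rintro ⟨hidx, hiso⟩
    left
    rcases hm4 with rfl | h4
    · exact allConj_of_lhs_two S eS hidx
    · exact allConj_of_lhs_four S eS h4 hidx hiso
  · rintro (h | h)
    · exact lhs_of_allConj S eS h2 h
    · exact lhs_of_allConj S eS h2 (allConj_of_relIndex S eS hm4 h)

end Cfsg.Agent.S1255
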