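import Mathlib
import Cfsg.Statements.S1256
import Cfsg.Agent.S1255

set_option autoImplicit false
open Cfsg

namespace Cfsg.Agent.S1256

open DihedralGroup Cfsg.Agent.S3864 Cfsg.Agent.S1255 Cfsg.Agent.Lib.Helper21 Cfsg.Agent.Lib.Helper24

section frob
variable {X : Type*} [Group X] [Finite X]

/-- the centralizer of an involution satisfies Frobenius' hypothesis when the Sylow 2-subgroups are
dihedral (extracted from S0514) -/
theorem frobHyp_centralizer (S : Sylow 2 X) (n : ℕ) (eS : (S : Subgroup X) ≃* DihedralGroup n)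
    (t : X) (ht : orderOf t = 2) : FrobHyp 2 ↥(Subgroup.centralizer ({t} : Set X)) := by
  haveI : Fact (Nat.Prime 2) := ⟨Nat.prime_two⟩
  set C := Subgroup.centralizer ({t} : Set X) with hC
  have ht1 : t ≠ 1 := by rintro rfl; simp at ht
  have hcomm : ∀ c ∈ C, c * t = t * c := fun c hc => Subgroup.mem_centralizer_singleton_iff.mp hc
  intro D hD g hg hcop
  set Q₀ : Subgroup X := D.map C.subtype with hQ₀
  set Z : Subgroup X := Subgroup.zpowers t with hZ
  have hQ₀2 : IsPGroup 2 Q₀ := hD.map _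
  have hZ2 : IsPGroup 2 Z := IsPGroup.of_card (n := 1) (by rw [Nat.card_zpowers, ht, pow_one])
  have hQ₀C : Q₀ ≤ C := by rintro _ ⟨d, -, rfl⟩; exact d.2
  have hZfix : ∀ c ∈ C, ∀ u ∈ Z, c * u * c⁻¹ = u := by
    intro c hc u hu
    obtain ⟨k, rfl⟩ := Subgroup.mem_zpowers_iff.mp hu
    apply Cfsg.Agent.S0514.conj_eq_of_comm
    exact ((show Commute c t from hcomm c hc).zpow_right k).eq
  have hQ₀N : Q₀ ≤ Subgroup.normalizer (Z : Set X) := fun c hc =>
    Cfsg.Agent.S1254.mem_normalizer_of_conj_mem Z c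
      (fun u hu => by rw [hZfix c (hQ₀C hc) u hu]; exact hu)
  have hQ2 : IsPGroup 2 (Q₀ ⊔ Z : Subgroup X) := hQ₀2.to_sup_of_normal_right' hZ2 hQ₀N
  set Q : Subgroup X := Q₀ ⊔ Z with hQ
  have hgX : (g : X) ∈ Subgroup.normalizer (Q : Set X) := by
    apply Cfsg.Agent.S1254.mem_normalizer_of_conj_mem
    intro u hu
    have h1 : Q.map (MulAut.conj (g : X)).toMonoidHom ≤ Q := by
      rw [hQ, Subgroup.map_sup]
      apply sup_le_sup
      · rintro _ ⟨_, ⟨d, hd, rfl⟩, rfl⟩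
        refine ⟨g * d * g⁻¹, (Subgroup.mem_normalizer_iff.mp hg d).mp hd, ?_⟩
        simp
      · rintro _ ⟨u, hu, rfl⟩
        show (g : X) * u * (g : X)⁻¹ ∈ Z
        rw [hZfix g g.2 u hu]; exact hu
    exact h1 ⟨u, hu, rfl⟩
  obtain ⟨S', hS'⟩ := hQ2.exists_le_sylow
  have eS' : (S' : Subgroup X) ≃* DihedralGroup n := (Sylow.equiv S' S).trans eS
  have hoddX : (orderOf (g : X)).Coprime 2 := by rw [Subgroup.orderOf_coe]; exact hcop
  have hcent := Cfsg.Agent.S0514.centralizes_of_fix (S' : Subgroup X) eS' S'.isPGroup' Q hS' t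
    (Subgroup.mem_sup_right (Subgroup.mem_zpowers t)) ht1 (g : X) hgX hoddX (hcomm g g.2)
  rw [Subgroup.mem_centralizer_iff] at hcent ⊢
  intro d hd
  apply Subtype.ext
  have := hcent (d : X) (Subgroup.mem_sup_left ⟨d, hd, rfl⟩)
  simpa using this

/-- fusion of elements of `S` inside the centralizer of a central involution of `S` is controlled
by `S` -/
theorem control_in_centralizer (S : Sylow 2 X) (n : ℕ) (eS : (S : Subgroup X) ≃* DihedralGroup n)
    (z : X) (hz : orderOf z = 2) (hzS : ∀ s ∈ (S : Subgroup X), s * z = z * s)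
    (u : X) (hu : u ∈ (S : Subgroup X)) (y : X) (hy : y * z = z * y)
    (hyu : y * u * y⁻¹ ∈ (S : Subgroup X)) :
    ∃ σ ∈ (S : Subgroup X), σ * u * σ⁻¹ = y * u * y⁻¹ := by
  haveI : Fact (Nat.Prime 2) := ⟨Nat.prime_two⟩
  set C := Subgroup.centralizer ({z} : Set X) with hC
  have hSC : (S : Subgroup X) ≤ C := fun s hs =>
    Subgroup.mem_centralizer_singleton_iff.mpr (hzS s hs)
  have hyC : y ∈ C := Subgroup.mem_centralizer_singleton_iff.mpr hy
  have hF := frobHyp_centralizer S n eS z hz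
  set PC : Sylow 2 ↥C := S.subtype hSC with hPC
  have hmem : ∀ c : ↥C, c ∈ (PC : Subgroup ↥C) ↔ (c : X) ∈ (S : Subgroup X) := by
    intro c
    rw [hPC, Sylow.coe_subtype, Subgroup.mem_subgroupOf]
  obtain ⟨v, hv, hveq⟩ := hF.control_fusion PC (⟨u, hSC hu⟩ : ↥C) (⟨y, hyC⟩ : ↥C)
    ((hmem _).mpr hu) ((hmem _).mpr (by simpa using hyu))
  refine ⟨(v : X), (hmem v).mp hv, ?_⟩
  have := congrArg Subtype.val hveq
  simpa using this

end frob


section main
variable {X : Type*} [Group X] [Finite X] {m : ℕ} [NeZero m]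

/-- a subgroup of order 4 and exponent 2 of a dihedral Sylow 2-subgroup contains the central
involution and a reflection -/
theorem four_in_dihedral (P : Subgroup X) (eP : P ≃* DihedralGroup m) (h2 : 2 ∣ m) (hm2 : 2 < m)
    (V : Subgroup X) (hVP : V ≤ P) (hV4 : Nat.card V = 4) (hVsq : ∀ x ∈ V, x * x = 1) :
    emb P eP (r ((m / 2 : ℕ) : ZMod m)) ∈ V ∧ ∃ i, emb P eP (sr i) ∈ V := by
  set z := emb P eP (r ((m / 2 : ℕ) : ZMod m)) with hz
  have hzo : orderOf z = 2 := orderOf_z P eP h2 hm2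
  -- classification of elements of V
  have hcl : ∀ x ∈ V, x ≠ 1 → x = z ∨ ∃ i, x = emb P eP (sr i) := by
    intro x hx hx1
    obtain ⟨x₀, rfl⟩ := exists_emb_eq P eP x (hVP hx)
    have hx2 : x₀ * x₀ = 1 := by
      apply emb_injective P eP; rw [map_mul, hVsq _ hx, map_one]
    have hx01 : x₀ ≠ 1 := by rintro rfl; exact hx1 (map_one _)
    rcases invol_classify h2 x₀ hx2 hx01 with rfl | ⟨i, rfl⟩
    · left; rfl
    · right; exact ⟨i, rfl⟩
  -- a general fact: V is not contained in a subgroup of order 2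
  have hnot : ∀ w : X, orderOf w = 2 → ∃ x ∈ V, x ≠ 1 ∧ x ≠ w := by
    intro w hw
    by_contra hno
    push Not at hno
    have hle : V ≤ Subgroup.zpowers w := by
      intro x hx
      by_cases hx1 : x = 1
      · rw [hx1]; exact Subgroup.one_mem _
      · rw [hno x hx hx1]; exact Subgroup.mem_zpowers w
    have := Subgroup.card_le_of_le hle
    rw [hV4, Nat.card_zpowers, hw] at this
    omega
  obtain ⟨x, hxV, hx1, hxz⟩ := hnot z hzo
  rcases hcl x hxV hx1 with h | ⟨i, rfl⟩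
  · exact absurd h hxz
  refine ⟨?_, ⟨i, hxV⟩⟩
  obtain ⟨y, hyV, hy1, hyx⟩ := hnot _ (orderOf_s_emb P eP i)
  rcases hcl y hyV hy1 with h | ⟨j, rfl⟩
  · rw [← h]; exact hyV
  · -- product of two reflections is a rotation involution
    have hprod : emb P eP (sr i) * emb P eP (sr j) ∈ V := V.mul_mem hxV hyV
    rw [← map_mul, sr_mul_sr] at hprod
    have hij : j - i ≠ 0 := by
      intro h
      apply hyx
      rw [sub_eq_zero] at h
      rw [h]
    have hne1 : emb P eP (r (j - i)) ≠ 1 := by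
      intro h
      have := emb_injective P eP (h.trans (map_one _).symm)
      rw [one_def] at this
      injection this with h'
      exact hij h'
    rcases hcl _ hprod hne1 with h | ⟨k, h⟩
    · rw [← h]; exact hprod
    · exfalso
      have := emb_injective P eP h
      cases this


section setup
variable (S : Sylow 2 X) (eS : (S : Subgroup X) ≃* DihedralGroup m)

theorem zz (h2 : 2 ∣ m) : emb (S : Subgroup X) eS (r ((m / 2 : ℕ) : ZMod m)) *
    emb (S : Subgroup X) eS (r ((m / 2 : ℕ) : ZMod m)) = 1 := by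
  rw [← map_mul, r_mul_r, half_add_half h2, r_zero, map_one]

theorem ss (i : ZMod m) : emb (S : Subgroup X) eS (sr i) * emb (S : Subgroup X) eS (sr i) = 1 := by
  rw [← map_mul, sr_mul_self, map_one]

theorem zs (h2 : 2 ∣ m) (i : ZMod m) : emb (S : Subgroup X) eS (r ((m / 2 : ℕ) : ZMod m)) *
    emb (S : Subgroup X) eS (sr i) = emb (S : Subgroup X) eS (sr i) *
    emb (S : Subgroup X) eS (r ((m / 2 : ℕ) : ZMod m)) := by
  rw [← map_mul, ← map_mul, r_half_central h2]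

theorem z_central (h2 : 2 ∣ m) (s : X) (hs : s ∈ (S : Subgroup X)) :
    s * emb (S : Subgroup X) eS (r ((m / 2 : ℕ) : ZMod m)) =
      emb (S : Subgroup X) eS (r ((m / 2 : ℕ) : ZMod m)) * s := by
  obtain ⟨x, rfl⟩ := exists_emb_eq (S : Subgroup X) eS s hs
  rw [← map_mul, ← map_mul, r_half_central h2]

theorem z_ne_one (h2 : 2 ∣ m) (hm2 : 2 < m) :
    emb (S : Subgroup X) eS (r ((m / 2 : ℕ) : ZMod m)) ≠ 1 := by
  intro h
  have := orderOf_z (S : Subgroup X) eS h2 hm2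
  rw [h, orderOf_one] at this
  omega

theorem s_ne_one (i : ZMod m) : emb (S : Subgroup X) eS (sr i) ≠ 1 := by
  intro h
  have := orderOf_s_emb (S : Subgroup X) eS i
  rw [h, orderOf_one] at this
  omega

theorem z_ne_s (i : ZMod m) :
    emb (S : Subgroup X) eS (r ((m / 2 : ℕ) : ZMod m)) ≠ emb (S : Subgroup X) eS (sr i) := by
  intro h
  have := emb_injective (S : Subgroup X) eS h
  cases this

/-- the standard four-groups -/
noncomputable def stdFour (h2 : 2 ∣ m) (i : ZMod m) : Subgroup X :=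
  fourSub (emb (S : Subgroup X) eS (r ((m / 2 : ℕ) : ZMod m))) (emb (S : Subgroup X) eS (sr i))
    (zz S eS h2) (ss S eS i) (zs S eS h2 i)

theorem stdFour_klein (h2 : 2 ∣ m) (hm2 : 2 < m) (i : ZMod m) : IsKleinFour (stdFour S eS h2 i) :=
  isKleinFour_fourSub _ _ _ _ _ (z_ne_one S eS h2 hm2) (s_ne_one S eS i) (z_ne_s S eS i)

theorem stdFour_le (h2 : 2 ∣ m) (i : ZMod m) : stdFour S eS h2 i ≤ (S : Subgroup X) := by
  intro x hx
  rcases hx with rfl | rfl | rfl | rfl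
  · exact Subgroup.one_mem _
  · exact emb_mem _ _ _
  · exact emb_mem _ _ _
  · exact Subgroup.mul_mem _ (emb_mem _ _ _) (emb_mem _ _ _)

theorem conj_comp (a b : X) : (MulAut.conj a).toMonoidHom.comp (MulAut.conj b).toMonoidHom =
    (MulAut.conj (a * b)).toMonoidHom := by
  ext x
  simp [map_mul]

/-- every Klein four-subgroup is conjugate to one of the two standard ones -/
theorem conj_to_std (h2 : 2 ∣ m) (hm2 : 2 < m) (V : Subgroup X) (hV : IsKleinFour V) :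
    (∃ x : X, V.map (MulAut.conj x).toMonoidHom = stdFour S eS h2 0) ∨
    (∃ x : X, V.map (MulAut.conj x).toMonoidHom = stdFour S eS h2 1) := by
  haveI : Fact (Nat.Prime 2) := ⟨Nat.prime_two⟩
  have hV4 : Nat.card V = 4 := hV.card_four
  have hV2 : IsPGroup 2 V := IsPGroup.of_card (n := 2) (by rw [hV4]; norm_num)
  obtain ⟨Q, hQ⟩ := hV2.exists_le_sylow
  obtain ⟨g, hg⟩ := MulAction.exists_smul_eq X S Q
  set V' := V.map (MulAut.conj g⁻¹).toMonoidHom with hV'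
  have hV'S : V' ≤ (S : Subgroup X) := by
    rintro _ ⟨v, hv, rfl⟩
    have h1 : v ∈ g • S := by rw [hg]; exact hQ hv
    rw [Cfsg.Agent.Lib.Helper1.mem_sylow_smul_iff] at h1
    show g⁻¹ * v * g⁻¹⁻¹ ∈ (S : Subgroup X)
    rw [inv_inv]; exact h1
  have hV'4 : Nat.card V' = 4 := by
    rw [hV', Subgroup.card_map_of_injective (MulAut.conj g⁻¹).injective, hV4]
  have hVsq : ∀ x ∈ V, x * x = 1 := by
    intro x hx
    have := hV.mul_self (⟨x, hx⟩ : V)
    exact congrArg Subtype.val this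
  have hV'sq : ∀ x ∈ V', x * x = 1 := by
    rintro _ ⟨v, hv, rfl⟩
    rw [← map_mul, hVsq v hv, map_one]
  obtain ⟨hzV, i, hiV⟩ := four_in_dihedral (S : Subgroup X) eS h2 hm2 V' hV'S hV'4 hV'sq
  obtain ⟨y₀, hy₀⟩ := sr_conj i
  set c := emb (S : Subgroup X) eS y₀ with hc
  set V'' := V'.map (MulAut.conj c).toMonoidHom with hV''
  have hV''4 : Nat.card V'' = 4 := by
    rw [hV'', Subgroup.card_map_of_injective (MulAut.conj c).injective, hV'4]
  have hzV'' : emb (S : Subgroup X) eS (r ((m / 2 : ℕ) : ZMod m)) ∈ V'' := by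
    refine ⟨_, hzV, ?_⟩
    show c * _ * c⁻¹ = _
    rw [z_central S eS h2 c (emb_mem _ _ _)]; group
  have hV''eq : V'' = V.map (MulAut.conj (c * g⁻¹)).toMonoidHom := by
    rw [hV'', hV', Subgroup.map_map, conj_comp]
  have key : ∀ j : ZMod m, y₀ * sr i * y₀⁻¹ = sr j → stdFour S eS h2 j = V'' := by
    intro j hj
    have hsj : emb (S : Subgroup X) eS (sr j) ∈ V'' := by
      refine ⟨_, hiV, ?_⟩
      show c * _ * c⁻¹ = _
      rw [hc, ← map_inv, ← map_mul, ← map_mul, hj]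
    apply Subgroup.eq_of_le_of_card_ge
    · intro x hx
      rcases hx with rfl | rfl | rfl | rfl
      · exact Subgroup.one_mem _
      · exact hzV''
      · exact hsj
      · exact Subgroup.mul_mem _ hzV'' hsj
    · rw [hV''4, (stdFour_klein S eS h2 hm2 j).card_four]
  rcases hy₀ with h | h
  · left
    exact ⟨c * g⁻¹, by rw [← hV''eq, key 0 h]⟩
  · right
    exact ⟨c * g⁻¹, by rw [← hV''eq, key 1 h]⟩

end setup

end main

section adjust

/-- adjusting a conjugating element so that it centralizes `z` -/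
theorem adjust_conj {X : Type*} [Group X] (U₁ U₂ : Subgroup X) (z a x : X)
    (hz1 : z ∈ U₁) (hzz : z * z = 1) (hzne : z ≠ 1)
    (hzc1 : ∀ u ∈ U₁, z * u = u * z)
    (haz : a * z * a⁻¹ = z)
    (ha1 : ∀ u ∈ U₁, u ≠ 1 → u ≠ z → a * u * a⁻¹ = z * u)
    (ha2 : ∀ u ∈ U₂, u ≠ 1 → u ≠ z → a * u * a⁻¹ = z * u)
    (hz2 : z ∈ U₂)
    (hx : U₁.map (MulAut.conj x).toMonoidHom = U₂) :
    ∃ y : X, y * z * y⁻¹ = z ∧ ∀ u ∈ U₁, y * u * y⁻¹ ∈ U₂ := by
  have hfwd : ∀ u ∈ U₁, x * u * x⁻¹ ∈ U₂ := fun u hu => hx ▸ ⟨u, hu, rfl⟩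
  have hbwd : ∀ v ∈ U₂, x⁻¹ * v * x ∈ U₁ := by
    intro v hv
    rw [← hx] at hv
    obtain ⟨u, hu, rfl⟩ := hv
    have : x⁻¹ * ((MulAut.conj x).toMonoidHom u) * x = u := by
      show x⁻¹ * (x * u * x⁻¹) * x = u
      group
    rw [this]; exact hu
  by_cases hxz : x * z * x⁻¹ = z
  · exact ⟨x, hxz, hfwd⟩
  obtain ⟨w, hw⟩ : ∃ w, w = x * z * x⁻¹ := ⟨_, rfl⟩
  have hwU : w ∈ U₂ := by rw [hw]; exact hfwd z hz1
  have hwz : w ≠ z := by rw [hw]; exact hxz
  have hw1 : w ≠ 1 := by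
    intro h; apply hzne
    have : z = x⁻¹ * w * x := by rw [hw]; group
    rw [this, h]; group
  obtain ⟨u₀, hu₀⟩ : ∃ u₀, u₀ = x⁻¹ * z * x := ⟨_, rfl⟩
  have hu₀U : u₀ ∈ U₁ := by rw [hu₀]; exact hbwd z hz2
  have hxu₀ : x * u₀ * x⁻¹ = z := by rw [hu₀]; group
  have hu₀1 : u₀ ≠ 1 := by
    intro h; apply hzne; rw [← hxu₀, h]; group
  have hu₀z : u₀ ≠ z := by
    intro h
    have := hxu₀
    rw [h] at this
    exact hxz this
  have haw : a * w * a⁻¹ = z * w := ha2 w hwU hw1 hwz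
  have hau₀ : a * u₀ * a⁻¹ = z * u₀ := ha1 u₀ hu₀U hu₀1 hu₀z
  have hpres : ∀ U : Subgroup X, z ∈ U → (∀ u ∈ U, u ≠ 1 → u ≠ z → a * u * a⁻¹ = z * u) →
      ∀ u ∈ U, a * u * a⁻¹ ∈ U := by
    intro U hzU h u hu
    by_cases h1 : u = 1
    · rw [h1, mul_one, mul_inv_cancel]; exact U.one_mem
    by_cases h2 : u = z
    · rw [h2, haz]; exact hzU
    rw [h u hu h1 h2]; exact U.mul_mem hzU hu
  refine ⟨x * a * x⁻¹ * a * x, ?_, ?_⟩
  · calc x * a * x⁻¹ * a * x * z * (x * a * x⁻¹ * a * x)⁻¹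
        = x * (a * (x⁻¹ * (a * (x * z * x⁻¹) * a⁻¹) * x) * a⁻¹) * x⁻¹ := by group
      _ = x * (a * (x⁻¹ * (z * w) * x) * a⁻¹) * x⁻¹ := by rw [← hw, haw]
      _ = x * (a * (u₀ * z) * a⁻¹) * x⁻¹ := by
            have : x⁻¹ * (z * w) * x = u₀ * z := by rw [hu₀, hw]; group
            rw [this]
      _ = x * ((a * u₀ * a⁻¹) * (a * z * a⁻¹)) * x⁻¹ := by group
      _ = x * (z * u₀ * z) * x⁻¹ := by rw [hau₀, haz]
      _ = x * u₀ * x⁻¹ := by rw [hzc1 u₀ hu₀U, mul_assoc u₀, hzz, mul_one]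
      _ = z := hxu₀
  · intro u hu
    have h1 := hfwd u hu
    have h2 := hpres U₂ hz2 ha2 _ h1
    have h3 := hbwd _ h2
    have h4 := hpres U₁ hz1 ha1 _ h3
    have h5 := hfwd _ h4
    have : x * a * x⁻¹ * a * x * u * (x * a * x⁻¹ * a * x)⁻¹ =
        x * (a * (x⁻¹ * (a * (x * u * x⁻¹) * a⁻¹) * x) * a⁻¹) * x⁻¹ := by group
    rw [this]; exact h5

end adjust

section final
variable {X : Type*} [Group X] [Finite X]

theorem part_a (S : Sylow 2 X) (hS4 : Nat.card (S : Subgroup X) = 4) (U V : Subgroup X)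
    (hU : IsKleinFour U) (hV : IsKleinFour V) :
    ∃ x : X, U.map (MulAut.conj x).toMonoidHom = V := by
  haveI : Fact (Nat.Prime 2) := ⟨Nat.prime_two⟩
  have key : ∀ W : Subgroup X, IsKleinFour W → ∃ Q : Sylow 2 X, (Q : Subgroup X) = W := by
    intro W hW
    have hW4 : Nat.card W = 4 := hW.card_four
    have hW2 : IsPGroup 2 W := IsPGroup.of_card (n := 2) (by rw [hW4]; norm_num)
    obtain ⟨Q, hQ⟩ := hW2.exists_le_sylow
    refine ⟨Q, (Subgroup.eq_of_le_of_card_ge hQ ?_).symm⟩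
    rw [hW4, ← hS4]
    exact (Nat.card_congr (Sylow.equiv Q S).toEquiv).le
  obtain ⟨Q, hQ⟩ := key U hU
  obtain ⟨Q', hQ'⟩ := key V hV
  obtain ⟨g, hg⟩ := MulAction.exists_smul_eq X Q Q'
  refine ⟨g, ?_⟩
  ext v
  rw [← hQ', ← hQ]
  constructor
  · rintro ⟨u, hu, rfl⟩
    show g * u * g⁻¹ ∈ ((Q' : Sylow 2 X) : Subgroup X)
    rw [← hg]
    show g * u * g⁻¹ ∈ g • Q
    rw [Cfsg.Agent.Lib.Helper1.mem_sylow_smul_iff]
    have : g⁻¹ * (g * u * g⁻¹) * g = u := by group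
    rw [this]; exact hu
  · intro hv
    have hv' : v ∈ g • Q := by rw [hg]; exact hv
    rw [Cfsg.Agent.Lib.Helper1.mem_sylow_smul_iff] at hv'
    refine ⟨g⁻¹ * v * g, hv', ?_⟩
    show g * (g⁻¹ * v * g) * g⁻¹ = v
    group

theorem part_b (S : Sylow 2 X) (m : ℕ) (hm : 2 ≤ m) (eS : (S : Subgroup X) ≃* DihedralGroup m)
    (hS : 4 < Nat.card (S : Subgroup X)) :
    ∃ U₁ U₂ : Subgroup X, IsKleinFour U₁ ∧ IsKleinFour U₂ ∧
      ¬ (∃ x : X, U₁.map (MulAut.conj x).toMonoidHom = U₂) ∧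
      ∀ V : Subgroup X, IsKleinFour V → (∃ x : X, V.map (MulAut.conj x).toMonoidHom = U₁) ∨
        (∃ x : X, V.map (MulAut.conj x).toMonoidHom = U₂) := by
  haveI : Fact (Nat.Prime 2) := ⟨Nat.prime_two⟩
  haveI : NeZero m := ⟨by omega⟩
  have hcardS : Nat.card (S : Subgroup X) = 2 * m := by
    rw [Nat.card_congr eS.toEquiv, DihedralGroup.nat_card]
  obtain ⟨k, hk⟩ := S.isPGroup'.exists_card_eq
  have h4 : 4 ∣ m := by
    rw [hcardS] at hk hS
    have hk3 : 3 ≤ k := by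
      by_contra hlt
      push Not at hlt
      have : 2 ^ k ≤ 2 ^ 2 := Nat.pow_le_pow_right (by norm_num) (by omega)
      omega
    obtain ⟨j, rfl⟩ := Nat.exists_eq_add_of_le hk3
    refine ⟨2 ^ j, ?_⟩
    have : 2 ^ (3 + j) = 8 * 2 ^ j := by rw [pow_add]; norm_num
    omega
  have h2 : 2 ∣ m := Dvd.dvd.trans (by norm_num) h4
  have hm2 : 2 < m := by
    obtain ⟨c, hc⟩ := h4
    omega
  refine ⟨stdFour S eS h2 0, stdFour S eS h2 1, stdFour_klein S eS h2 hm2 0,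
    stdFour_klein S eS h2 hm2 1, ?_, fun V hV => conj_to_std S eS h2 hm2 V hV⟩
  rintro ⟨x, hx⟩
  set z := emb (S : Subgroup X) eS (r ((m / 2 : ℕ) : ZMod m)) with hz
  set a := emb (S : Subgroup X) eS (r ((m / 4 : ℕ) : ZMod m)) with ha
  have hzz : z * z = 1 := zz S eS h2
  have hzne : z ≠ 1 := z_ne_one S eS h2 hm2
  have haz : a * z * a⁻¹ = z := by
    have h := z_central S eS h2 a (emb_mem _ _ _)
    rw [← hz] at h
    rw [h, mul_inv_cancel_right]
  have hzo : orderOf z = 2 := orderOf_z (S : Subgroup X) eS h2 hm2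
  have haU : ∀ i : ZMod m, ∀ u ∈ stdFour S eS h2 i, u ≠ 1 → u ≠ z → a * u * a⁻¹ = z * u := by
    intro i u hu hu1 huz
    have hq : a * emb (S : Subgroup X) eS (sr i) * a⁻¹ = z * emb (S : Subgroup X) eS (sr i) := by
      rw [ha, hz, ← map_inv, ← map_mul, ← map_mul, ← map_mul, conj_quarter h4]
    rcases hu with rfl | rfl | rfl | rfl
    · exact absurd rfl hu1
    · exact absurd rfl huz
    · exact hq
    · calc a * (z * emb (S : Subgroup X) eS (sr i)) * a⁻¹
          = (a * z * a⁻¹) * (a * emb (S : Subgroup X) eS (sr i) * a⁻¹) := by group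
        _ = z * (z * emb (S : Subgroup X) eS (sr i)) := by rw [haz, hq]
  have hzmem : ∀ i : ZMod m, z ∈ stdFour S eS h2 i := fun i => Or.inr (Or.inl rfl)
  have hzc1 : ∀ u ∈ stdFour S eS h2 0, z * u = u * z := fun u hu =>
    (z_central S eS h2 u (stdFour_le S eS h2 0 hu)).symm
  obtain ⟨y, hyz, hyU⟩ := adjust_conj (stdFour S eS h2 0) (stdFour S eS h2 1) z a x (hzmem 0) hzz hzne
    hzc1 haz (haU 0) (haU 1) (hzmem 1) hx
  set s0 := emb (S : Subgroup X) eS (sr 0) with hs0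
  have hs0U : s0 ∈ stdFour S eS h2 0 := Or.inr (Or.inr (Or.inl rfl))
  have ht := hyU s0 hs0U
  have hyz' : y * z = z * y := by
    calc y * z = y * z * y⁻¹ * y := by group
      _ = z * y := by rw [hyz]
  obtain ⟨σ, hσS, hσ⟩ := control_in_centralizer S m eS z hzo (z_central S eS h2) s0 (emb_mem _ _ _) y hyz'
    (stdFour_le S eS h2 1 ht)
  obtain ⟨σ₀, rfl⟩ := exists_emb_eq (S : Subgroup X) eS σ hσS
  rw [← hσ] at ht
  have hconj : emb (S : Subgroup X) eS σ₀ * s0 * (emb (S : Subgroup X) eS σ₀)⁻¹ =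
      emb (S : Subgroup X) eS (σ₀ * sr 0 * σ₀⁻¹) := by
    rw [hs0, map_mul, map_mul, map_inv]
  rw [hconj] at ht
  rcases ht with h | h | h | h
  · have := emb_injective (S : Subgroup X) eS (h.trans (map_one _).symm)
    have h' : sr (0 : ZMod m) = 1 := by
      calc sr (0 : ZMod m) = σ₀⁻¹ * (σ₀ * sr 0 * σ₀⁻¹) * σ₀ := by group
        _ = 1 := by rw [this]; group
    rw [one_def] at h'
    cases h'
  · have := emb_injective (S : Subgroup X) eS h
    have h' : sr (0 : ZMod m) = r ((m / 2 : ℕ) : ZMod m) := by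
      calc sr (0 : ZMod m) = σ₀⁻¹ * (σ₀ * sr 0 * σ₀⁻¹) * σ₀ := by group
        _ = σ₀⁻¹ * (r ((m / 2 : ℕ) : ZMod m) * σ₀) := by rw [this]; group
        _ = r ((m / 2 : ℕ) : ZMod m) := by rw [r_half_central h2]; group
    cases h'
  · exact sr_zero_not_conj_sr_one h2 σ₀ (emb_injective (S : Subgroup X) eS h)
  · rw [← map_mul] at h
    have h' := emb_injective (S : Subgroup X) eS h
    rw [← conj_quarter h4] at h'
    apply sr_zero_not_conj_sr_one h2 ((r ((m / 4 : ℕ) : ZMod m))⁻¹ * σ₀)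
    calc (r ((m / 4 : ℕ) : ZMod m))⁻¹ * σ₀ * sr 0 * ((r ((m / 4 : ℕ) : ZMod m))⁻¹ * σ₀)⁻¹
        = (r ((m / 4 : ℕ) : ZMod m))⁻¹ * (σ₀ * sr 0 * σ₀⁻¹) * r ((m / 4 : ℕ) : ZMod m) := by group
      _ = sr 1 := by rw [h']; group

end final

theorem result {X : Type*} [Group X] [Finite X] (S : Sylow 2 X) (m : ℕ) (hm : 2 ≤ m) (eS : (S : Subgroup X) ≃* DihedralGroup m) : (Nat.card S = 4 → ∀ U V : Subgroup X, IsKleinFour U → IsKleinFour V → (∃ x : X, U.map (MulAut.conj x).toMonoidHom = V)) ∧ (4 < Nat.card S → ∃ U₁ U₂ : Subgroup X, IsKleinFour U₁ ∧ IsKleinFour U₂ ∧ ¬ (∃ x : X, U₁.map (MulAut.conj x).toMonoidHom = U₂) ∧ ∀ V : Subgroup X, IsKleinFour V → (∃ x : X, V.map (MulAut.conj x).toMonoidHom = U₁) ∨ (∃ x : X, V.map (MulAut.conj x).toMonoidHom = U₂)) := by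
  refine ⟨fun h4 U V hU hV => part_a S h4 U V hU hV, fun h => part_b S m hm eS h⟩

end Cfsg.Agent.S1256
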