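import Cfsg.Statements.S1258
import Cfsg.Agent.Lib.Helper9.Quasisimple

set_option autoImplicit false
open Cfsg

namespace Cfsg.Agent.S1258

open Cfsg.Agent.Lib.Helper9

theorem result {X : Type*} [Group X] [Finite X] (hs : IsSimpleGroup (X ⧸ Subgroup.center X)) (hna : ¬ IsMulCommutative (X ⧸ Subgroup.center X)) : commutator X ⊔ Subgroup.center X = ⊤ ∧ Cfsg.IsQuasisimple ↥(commutator X) := by
  set Z := Subgroup.center X with hZ
  have hsup : commutator X ⊔ Z = ⊤ := by
    have hmap : (commutator X).map (QuotientGroup.mk' Z) = commutator (X ⧸ Z) := by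
      rw [commutator_def, commutator_def, Subgroup.map_commutator,
        Subgroup.map_top_of_surjective _ (QuotientGroup.mk'_surjective Z)]
    have hn : (commutator (X ⧸ Z)).Normal := inferInstance
    rcases hn.eq_bot_or_eq_top with h | h
    · exfalso
      apply hna
      rw [← Subgroup.center_eq_top_iff]
      rw [commutator_def, Subgroup.commutator_eq_bot_iff_le_centralizer] at h
      rw [eq_top_iff]
      intro x _
      have := h (Subgroup.mem_top x)
      rw [Subgroup.mem_centralizer_iff] at this
      rw [Subgroup.mem_center_iff]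
      intro g
      exact this g (Subgroup.mem_top g)
    · have := Subgroup.comap_map_eq (QuotientGroup.mk' Z) (commutator X)
      rw [hmap, h, Subgroup.comap_top, QuotientGroup.ker_mk'] at this
      exact this.symm
  refine ⟨hsup, ?_, ?_⟩
  · rw [Subgroup.isPerfect_iff]
    apply le_antisymm (Subgroup.commutator_le_right _ _)
    conv_lhs => rw [commutator_def, ← hsup]
    exact commutator_sup_center_le _
  · let φ : ↥(commutator X) →* X ⧸ Z := (QuotientGroup.mk' Z).comp (commutator X).subtype
    have hφ : Function.Surjective φ := by
      intro y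
      obtain ⟨x, rfl⟩ := QuotientGroup.mk_surjective y
      have hx : x ∈ commutator X ⊔ Z := by rw [hsup]; exact Subgroup.mem_top x
      rw [Subgroup.mem_sup_of_normal_right] at hx
      obtain ⟨c, hc, z, hz, rfl⟩ := hx
      refine ⟨⟨c, hc⟩, ?_⟩
      change (QuotientGroup.mk c : X ⧸ Z) = QuotientGroup.mk (c * z)
      rw [QuotientGroup.eq]
      simpa using hz
    have hker : φ.ker = Subgroup.center ↥(commutator X) := by
      ext c
      rw [MonoidHom.mem_ker, Subgroup.mem_center_iff]
      change (QuotientGroup.mk (c : X) : X ⧸ Z) = 1 ↔ _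
      rw [QuotientGroup.eq_one_iff]
      constructor
      · intro hc d
        rw [hZ, Subgroup.mem_center_iff] at hc
        ext
        exact hc d
      · intro hc
        rw [hZ, Subgroup.mem_center_iff]
        intro x
        have hx : x ∈ commutator X ⊔ Z := by rw [hsup]; exact Subgroup.mem_top x
        rw [Subgroup.mem_sup_of_normal_right] at hx
        obtain ⟨d, hd, z, hz, rfl⟩ := hx
        rw [hZ, Subgroup.mem_center_iff] at hz
        have h1 : d * (c : X) = c * d := congrArg Subtype.val (hc ⟨d, hd⟩)
        calc d * z * c = d * (z * c) := by group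
          _ = d * (c * z) := by rw [← hz c]
          _ = (d * c) * z := by group
          _ = c * d * z := by rw [h1]
          _ = c * (d * z) := by group
    have e1 : ↥(commutator X) ⧸ φ.ker ≃* X ⧸ Z := QuotientGroup.quotientKerEquivOfSurjective φ hφ
    have e2 : ↥(commutator X) ⧸ φ.ker ≃* ↥(commutator X) ⧸ Subgroup.center ↥(commutator X) :=
      QuotientGroup.quotientMulEquivOfEq hker
    exact (e2.symm.trans e1).isSimpleGroup

end Cfsg.Agent.S1258
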