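import Cfsg.Statements.S1264
import Cfsg.Agent.Lib.Helper9.FittingExtra

set_option autoImplicit false
open Cfsg

namespace Cfsg.Agent.S1264

open Cfsg.Agent.Lib.Helper9

theorem aux {G : Type*} [Group G] [Finite G] (n : ℕ) : ∀ N : Subgroup G, Nat.card N = n →
    N ≤ Subgroup.centralizer (Cfsg.fittingSubgroup G : Set G) →
    Subgroup.centralizer (Cfsg.fittingSubgroup G : Set G) ≤ Subgroup.normalizer (N : Set G) →
    Group.IsSolvable ↥N → N ≤ Cfsg.fittingSubgroup G := by
  induction n using Nat.strong_induction_on with
  | _ n ih =>
    intro N hcard hNC hnorm hsolv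
    have hFn : (Cfsg.fittingSubgroup G).Normal := Cfsg.Agent.Lib.Helper1.fittingSubgroup_normal
    set C := Subgroup.centralizer (Cfsg.fittingSubgroup G : Set G) with hC
    have hCn : C.Normal := Subgroup.normal_centralizer
    by_cases htriv : Nontrivial N
    · -- derived subgroup is smaller
      set D := ⁅N, N⁆ with hD
      have hDN : D ≤ N := Subgroup.commutator_le_self N
      have hDlt : Nat.card D < Nat.card N := by
        have h1 := hsolv.commutator_lt_top_of_nontrivial N
        have h2 : D = (commutator N).map N.subtype := (Subgroup.map_subtype_commutator N).symm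
        rw [h2, Subgroup.card_map_of_injective N.subtype_injective]
        have h3 : Nat.card (commutator N) ≤ Nat.card N := Subgroup.card_le_card_group _
        rcases h3.lt_or_eq with h | h
        · exact h
        · exact absurd ((Subgroup.card_eq_iff_eq_top _).1 h) h1.ne
      have hDC : D ≤ C := hDN.trans hNC
      have hDnorm : C ≤ Subgroup.normalizer (D : Set G) := by
        intro c hc
        apply mem_normalizer_of_map_conj_eq
        have h1 : N.map (MulAut.conj c).toMonoidHom = N := map_conj_eq_of_mem_normalizer (hnorm hc)
        rw [hD, Subgroup.map_commutator, h1]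
      have hDsolv : Group.IsSolvable D :=
        Group.isSolvable_of_isSolvable_injective (Subgroup.inclusion_injective hDN)
      have hDF : D ≤ Cfsg.fittingSubgroup G := ih _ (hcard ▸ hDlt) D rfl hDC hDnorm hDsolv
      -- N is nilpotent of class at most 2
      have hnil : Group.IsNilpotent N := by
        apply isNilpotent_of_commutator_le_center
        intro x hx
        rw [Subgroup.mem_center_iff]
        intro g
        have hxD : (x : G) ∈ D := by
          rw [hD, ← Subgroup.map_subtype_commutator]
          exact ⟨x, hx, rfl⟩
        have hxF := hDF hxD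
        have hgC := hNC g.2
        rw [hC, Subgroup.mem_centralizer_iff] at hgC
        ext
        exact (hgC x hxF).symm
      exact nilpotent_normal_in_normal_le_fitting C N hNC hnorm hnil
    · rw [not_nontrivial_iff_subsingleton] at htriv
      rw [Subgroup.eq_bot_of_subsingleton N]
      exact bot_le

theorem result {G : Type*} [Group G] [Finite G] (N : Subgroup G) (hN : N ≤ Subgroup.centralizer (Cfsg.fittingSubgroup G : Set G)) (hnorm : Subgroup.centralizer (Cfsg.fittingSubgroup G : Set G) ≤ Subgroup.normalizer (N : Set G)) (hsolv : Group.IsSolvable ↥N) : N ≤ (Subgroup.center ↥(Cfsg.fittingSubgroup G)).map (Cfsg.fittingSubgroup G).subtype := by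
  rw [map_center_subtype']
  exact le_inf (aux _ N rfl hN hnorm hsolv) hN

end Cfsg.Agent.S1264
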