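import Cfsg.Statements.S1266
import Cfsg.Agent.Lib.Helper9.LBalance
import Cfsg.Agent.Lib.Helper10.Components
import Cfsg.Agent.Lib.Helper1.Fitting
import Cfsg.Agent.Lib.Helper1.Cores

set_option autoImplicit false
open Cfsg

namespace Cfsg.Agent.S1266

open Cfsg.Agent.Lib.Helper9

/-- elements of the preimage of `E(N/O_{p'}(N))` commute with normal `p`-subgroups of `N` -/
theorem comm_of_normal_pgroup {N : Type*} [Group N] [Finite N] (p : ℕ) [Fact p.Prime]
    (M : Subgroup N) (hMn : M.Normal) (hMp : IsPGroup p M) (x y : N)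
    (hx : x ∈ (Cfsg.layer (N ⧸ Cfsg.pPrimeCore p N)).comap (QuotientGroup.mk' (Cfsg.pPrimeCore p N)))
    (hy : y ∈ M) : x * y = y * x := by
  have hsurj : Function.Surjective (QuotientGroup.mk' (Cfsg.pPrimeCore p N)) :=
    QuotientGroup.mk'_surjective _
  have hMn' : (M.map (QuotientGroup.mk' (Cfsg.pPrimeCore p N))).Normal := hMn.map _ hsurj
  have hMp' : IsPGroup p (M.map (QuotientGroup.mk' (Cfsg.pPrimeCore p N))) := hMp.map _
  have hMF : M.map (QuotientGroup.mk' (Cfsg.pPrimeCore p N)) ≤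
      Cfsg.fittingSubgroup (N ⧸ Cfsg.pPrimeCore p N) :=
    Cfsg.Agent.Lib.Helper1.le_fittingSubgroup hMn' hMp'.isNilpotent
  have h1 : (⁅Cfsg.layer (N ⧸ Cfsg.pPrimeCore p N),
      Cfsg.fittingSubgroup (N ⧸ Cfsg.pPrimeCore p N)⁆ : Subgroup _) = ⊥ :=
    Cfsg.Agent.Lib.Helper10.commutator_layer_fitting
  rw [Subgroup.commutator_eq_bot_iff_le_centralizer] at h1
  have h2 := h1 (Subgroup.mem_comap.1 hx)
  rw [Subgroup.mem_centralizer_iff] at h2
  have h3 := h2 _ (hMF (Subgroup.mem_map_of_mem _ hy))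
  -- the commutator lies in O_{p'}(N) ∩ M
  have h4 : x * y * x⁻¹ * y⁻¹ ∈ Cfsg.pPrimeCore p N := by
    rw [← QuotientGroup.eq_one_iff]
    have : ((x * y * x⁻¹ * y⁻¹ : N) : N ⧸ Cfsg.pPrimeCore p N) =
        (QuotientGroup.mk' (Cfsg.pPrimeCore p N)) x * (QuotientGroup.mk' (Cfsg.pPrimeCore p N)) y *
        ((QuotientGroup.mk' (Cfsg.pPrimeCore p N)) x)⁻¹ *
        ((QuotientGroup.mk' (Cfsg.pPrimeCore p N)) y)⁻¹ := by
      simp
    rw [this, ← h3]
    group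
  have h5 : x * y * x⁻¹ * y⁻¹ ∈ M :=
    M.mul_mem (hMn.conj_mem y hy x) (M.inv_mem hy)
  have hYc : (Nat.card (Cfsg.pPrimeCore p N)).Coprime p :=
    Cfsg.Agent.Lib.Helper1.pPrimeCore_card_coprime p
  obtain ⟨k, hk⟩ := IsPGroup.iff_card.1 hMp
  have hcop : (Nat.card (Cfsg.pPrimeCore p N)).Coprime (Nat.card M) := by
    rw [hk]; exact Nat.Coprime.pow_right k hYc
  have h6 := Subgroup.disjoint_def.1 (Subgroup.disjoint_of_coprime_natCard hcop) h4 h5
  calc x * y = (x * y * x⁻¹ * y⁻¹) * (y * x) := by group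
    _ = y * x := by rw [h6, one_mul]

/-- Let P be a p-subgroup of the finite group G and N = N_G(P). Then the preimage in N of E(N / O_{p'}(N)) centralizes O_p(G). -/
theorem result {G : Type*} [Group G] [Finite G] (p : ℕ) [Fact p.Prime] (P : Subgroup G) (hP : IsPGroup p ↥P) : (((Cfsg.layer (↥(Subgroup.normalizer ((P : Subgroup G) : Set G)) ⧸ Cfsg.pPrimeCore p ↥(Subgroup.normalizer ((P : Subgroup G) : Set G)))).comap (QuotientGroup.mk' (Cfsg.pPrimeCore p ↥(Subgroup.normalizer ((P : Subgroup G) : Set G))))).map (Subgroup.normalizer ((P : Subgroup G) : Set G)).subtype) ≤ Subgroup.centralizer (Cfsg.pCore p G : Set G) := by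
  classical
  have hQp : IsPGroup p (Cfsg.pCore p G) := Cfsg.Agent.Lib.Helper1.pCore_isPGroup p
  have hP'n : (P.subgroupOf (Subgroup.normalizer ((P : Subgroup G) : Set G))).Normal :=
    Subgroup.normal_in_normalizer
  generalize hNdef : Subgroup.normalizer ((P : Subgroup G) : Set G) = N at *
  have hPN : P ≤ N := by rw [← hNdef]; exact Subgroup.le_normalizer
  have hP'p : IsPGroup p (P.subgroupOf N) :=
    hP.comap_of_injective N.subtype N.subtype_injective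
  have hQ'n : ((Cfsg.pCore p G).subgroupOf N).Normal := inferInstance
  have hQ'p : IsPGroup p ((Cfsg.pCore p G).subgroupOf N) :=
    hQp.comap_of_injective N.subtype N.subtype_injective
  have hXP : ∀ x ∈ ((Cfsg.layer (↥N ⧸ Cfsg.pPrimeCore p ↥N)).comap
      (QuotientGroup.mk' (Cfsg.pPrimeCore p ↥N))).map N.subtype, ∀ y ∈ P, x * y = y * x := by
    rintro _ ⟨x, hx, rfl⟩ y hy
    have := comm_of_normal_pgroup p _ hP'n hP'p x ⟨y, hPN hy⟩ hx (Subgroup.mem_subgroupOf.2 hy)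
    exact congrArg Subtype.val this
  have hXQ : ∀ x ∈ ((Cfsg.layer (↥N ⧸ Cfsg.pPrimeCore p ↥N)).comap
      (QuotientGroup.mk' (Cfsg.pPrimeCore p ↥N))).map N.subtype,
      ∀ y ∈ Cfsg.pCore p G ⊓ Subgroup.normalizer (P : Set G), x * y = y * x := by
    rintro _ ⟨x, hx, rfl⟩ y hy
    rw [hNdef] at hy
    obtain ⟨hyQ, hyN⟩ := Subgroup.mem_inf.1 hy
    have := comm_of_normal_pgroup p _ hQ'n hQ'p x ⟨y, hyN⟩ hx (Subgroup.mem_subgroupOf.2 hyQ)
    exact congrArg Subtype.val this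
  apply le_centralizer_pCore_of_perfect p P hP _ hXP hXQ
  rintro _ ⟨x, hx, rfl⟩
  -- π x ∈ layer = [layer, layer] = π [X', X']
  have hsurj : Function.Surjective (QuotientGroup.mk' (Cfsg.pPrimeCore p ↥N)) :=
    QuotientGroup.mk'_surjective _
  have h1 : (QuotientGroup.mk' (Cfsg.pPrimeCore p ↥N)) x ∈
      (⁅(Cfsg.layer (↥N ⧸ Cfsg.pPrimeCore p ↥N)).comap (QuotientGroup.mk' (Cfsg.pPrimeCore p ↥N)),
        (Cfsg.layer (↥N ⧸ Cfsg.pPrimeCore p ↥N)).comap (QuotientGroup.mk' (Cfsg.pPrimeCore p ↥N))⁆ :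
        Subgroup ↥N).map (QuotientGroup.mk' (Cfsg.pPrimeCore p ↥N)) := by
    rw [Subgroup.map_commutator, Subgroup.map_comap_eq_self_of_surjective hsurj,
      Cfsg.Agent.Lib.Helper10.layer_commutator_self]
    exact Subgroup.mem_comap.1 hx
  obtain ⟨c, hc, hcx⟩ := h1
  have hm : c⁻¹ * x ∈ Cfsg.pPrimeCore p ↥N := by
    rw [← QuotientGroup.eq]
    exact hcx
  have hmX : c⁻¹ * x ∈ (Cfsg.layer (↥N ⧸ Cfsg.pPrimeCore p ↥N)).comap
      (QuotientGroup.mk' (Cfsg.pPrimeCore p ↥N)) := by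
    rw [Subgroup.mem_comap]
    have : (QuotientGroup.mk' (Cfsg.pPrimeCore p ↥N)) (c⁻¹ * x) = 1 :=
      (QuotientGroup.eq_one_iff _).2 hm
    rw [this]
    exact Subgroup.one_mem _
  have hmX' : ((c⁻¹ * x : ↥N) : G) ∈ ((Cfsg.layer (↥N ⧸ Cfsg.pPrimeCore p ↥N)).comap
      (QuotientGroup.mk' (Cfsg.pPrimeCore p ↥N))).map N.subtype :=
    Subgroup.mem_map_of_mem N.subtype hmX
  refine ⟨(c : G), ?_, ((c⁻¹ * x : ↥N) : G), Subgroup.mem_inf.2 ⟨hmX', ?_⟩, ?_⟩
  · rw [← Subgroup.map_commutator]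
    exact Subgroup.mem_map_of_mem N.subtype hc
  · apply mem_centralizer_pCore_of_coprime p P hP
    · have hYc : (Nat.card (Cfsg.pPrimeCore p ↥N)).Coprime p :=
        Cfsg.Agent.Lib.Helper1.pPrimeCore_card_coprime p
      have h2 := orderOf_dvd_natCard (⟨c⁻¹ * x, hm⟩ : Cfsg.pPrimeCore p ↥N)
      rw [Subgroup.orderOf_mk] at h2
      rw [Subgroup.orderOf_coe]
      exact Nat.Coprime.coprime_dvd_left h2 hYc
    · exact hXP _ hmX'
    · exact hXQ _ hmX'
  · simp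

end Cfsg.Agent.S1266
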