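import Cfsg.Statements.S1267
import Cfsg.Agent.Lib.Helper9.LBalance
import Cfsg.Agent.Lib.Helper9.Quasisimple
import Cfsg.Agent.Lib.Helper10.Components
import Cfsg.Agent.Lib.Helper1.Fitting
import Cfsg.Agent.Lib.Helper1.Cores

set_option autoImplicit false
open Cfsg

namespace Cfsg.Agent.S1267

open Cfsg.Agent.Lib.Helper9

/-- Let G be finite and P ≤ O_p(G). Then E(N_G(P)) = E(G). -/
theorem result {G : Type*} [Group G] [Finite G] (p : ℕ) [Fact p.Prime] (P : Subgroup G) (hP : P ≤ Cfsg.pCore p G) : (Cfsg.layer ↥(Subgroup.normalizer ((P : Subgroup G) : Set G))).map (Subgroup.normalizer ((P : Subgroup G) : Set G)).subtype = Cfsg.layer G := by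
  classical
  have hQp : IsPGroup p (Cfsg.pCore p G) := Cfsg.Agent.Lib.Helper1.pCore_isPGroup p
  have hQn : (Cfsg.pCore p G).Normal := Cfsg.Agent.Lib.Helper1.pCore_normal p
  have hPp : IsPGroup p P := hQp.to_le hP
  have hQF : Cfsg.pCore p G ≤ Cfsg.fittingSubgroup G :=
    Cfsg.Agent.Lib.Helper1.pCore_le_fittingSubgroup p
  have hP'n : (P.subgroupOf (Subgroup.normalizer ((P : Subgroup G) : Set G))).Normal :=
    Subgroup.normal_in_normalizer
  have hCP : Subgroup.centralizer (P : Set G) ≤ Subgroup.normalizer ((P : Subgroup G) : Set G) :=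
    Subgroup.centralizer_le_normalizer _
  generalize hNdef : Subgroup.normalizer ((P : Subgroup G) : Set G) = N at *
  have hPN : P ≤ N := by rw [← hNdef]; exact Subgroup.le_normalizer
  apply le_antisymm
  · -- components of N are components of G
    unfold Cfsg.layer
    rw [sSup_eq_iSup', Subgroup.map_iSup]
    apply iSup_le
    rintro ⟨L', hL'⟩
    have hL : Cfsg.IsComponent L' := hL'
    apply le_sSup
    show Cfsg.IsComponent (L'.map N.subtype)
    have hP'p : IsPGroup p (P.subgroupOf N) :=
      hPp.comap_of_injective N.subtype N.subtype_injective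
    have hQ'n : ((Cfsg.pCore p G).subgroupOf N).Normal := inferInstance
    have hQ'p : IsPGroup p ((Cfsg.pCore p G).subgroupOf N) :=
      hQp.comap_of_injective N.subtype N.subtype_injective
    have hP'F : P.subgroupOf N ≤ Cfsg.fittingSubgroup ↥N :=
      Cfsg.Agent.Lib.Helper1.le_fittingSubgroup hP'n hP'p.isNilpotent
    have hQ'F : (Cfsg.pCore p G).subgroupOf N ≤ Cfsg.fittingSubgroup ↥N :=
      Cfsg.Agent.Lib.Helper1.le_fittingSubgroup hQ'n hQ'p.isNilpotent
    have hLF : ∀ l ∈ L', ∀ x ∈ Cfsg.fittingSubgroup ↥N, l * x = x * l := by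
      intro l hl x hx
      have h1 : (⁅Cfsg.layer ↥N, Cfsg.fittingSubgroup ↥N⁆ : Subgroup ↥N) = ⊥ :=
        Cfsg.Agent.Lib.Helper10.commutator_layer_fitting
      rw [Subgroup.commutator_eq_bot_iff_le_centralizer] at h1
      have := h1 (Cfsg.Agent.Lib.Helper10.component_le_layer hL hl)
      rw [Subgroup.mem_centralizer_iff] at this
      exact (this x hx).symm
    have hXC : L'.map N.subtype ≤ Subgroup.centralizer (Cfsg.pCore p G : Set G) := by
      apply le_centralizer_pCore_of_perfect p P hPp
      · rintro _ ⟨l, hl, rfl⟩ y hy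
        have := hLF l hl ⟨y, hPN hy⟩ (hP'F (Subgroup.mem_subgroupOf.2 hy))
        exact congrArg Subtype.val this
      · rintro _ ⟨l, hl, rfl⟩ y hy
        rw [hNdef] at hy
        obtain ⟨hyQ, hyN⟩ := Subgroup.mem_inf.1 hy
        have := hLF l hl ⟨y, hyN⟩ (hQ'F (Subgroup.mem_subgroupOf.2 hyQ))
        exact congrArg Subtype.val this
      · intro x hx
        refine ⟨x, ?_, 1, Subgroup.one_mem _, mul_one x⟩
        rw [← Subgroup.map_commutator, Cfsg.Agent.Lib.Helper10.isComponent_commutator_self hL]
        exact hx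
    have hCN : Subgroup.centralizer (Cfsg.pCore p G : Set G) ≤ N :=
      (Subgroup.centralizer_le hP).trans hCP
    have hCn : (Subgroup.centralizer (Cfsg.pCore p G : Set G)).Normal := Subgroup.normal_centralizer
    refine ⟨?_, isQuasisimple_of_mulEquiv (L'.equivMapOfInjective _ N.subtype_injective) hL.2⟩
    apply Subgroup.IsSubnormal.trans hXC _ hCn.isSubnormal
    have e : (L'.map N.subtype).subgroupOf (Subgroup.centralizer (Cfsg.pCore p G : Set G)) =
        L'.comap (Subgroup.inclusion hCN) := by
      ext c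
      rw [Subgroup.mem_subgroupOf, Subgroup.mem_comap]
      constructor
      · rintro ⟨l, hl, hlc⟩
        have : Subgroup.inclusion hCN c = l := Subtype.ext hlc.symm
        rw [this]; exact hl
      · intro h
        exact ⟨_, h, rfl⟩
    rw [e]
    exact hL.1.comap _
  · unfold Cfsg.layer
    apply sSup_le
    intro L hL
    have hL' : Cfsg.IsComponent L := hL
    have hLN : L ≤ N := by
      refine le_trans ?_ hCP
      intro l hl
      rw [Subgroup.mem_centralizer_iff]
      intro y hy
      have h1 : (⁅Cfsg.layer G, Cfsg.fittingSubgroup G⁆ : Subgroup G) = ⊥ :=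
        Cfsg.Agent.Lib.Helper10.commutator_layer_fitting
      rw [Subgroup.commutator_eq_bot_iff_le_centralizer] at h1
      have := h1 (Cfsg.Agent.Lib.Helper10.component_le_layer hL' hl)
      rw [Subgroup.mem_centralizer_iff] at this
      exact this y (hQF (hP hy))
    have h2 : Cfsg.IsComponent (L.subgroupOf N) :=
      Cfsg.Agent.Lib.Helper10.isComponent_subgroupOf hL' hLN
    have h3 : L.subgroupOf N ≤ sSup {K : Subgroup ↥N | Cfsg.IsComponent K} := le_sSup h2
    have h4 := Subgroup.map_mono (f := N.subtype) h3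
    rwa [Subgroup.map_subgroupOf_eq_of_le hLN] at h4

end Cfsg.Agent.S1267
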