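import Mathlib
import Cfsg.Statements.S1269
import Cfsg.Agent.Lib.Helper10.LBal8

set_option autoImplicit false
open Cfsg

namespace Cfsg.Agent.S1269

open Cfsg.Agent.Lib.Helper10 Cfsg.Agent.Lib.Helper9

theorem result {G : Type*} [Group G] [Finite G] (p : ℕ) [Fact p.Prime] (hO : Cfsg.pPrimeCore p G = ⊥) (P : Subgroup G) (hP : IsPGroup p ↥P) (L : Subgroup G) (hL : Cfsg.IsComponent L) (x : G) (hx : x ∈ (((Cfsg.layer (↥(Subgroup.normalizer ((P : Subgroup G) : Set G)) ⧸ Cfsg.pPrimeCore p ↥(Subgroup.normalizer ((P : Subgroup G) : Set G)))).comap (QuotientGroup.mk' (Cfsg.pPrimeCore p ↥(Subgroup.normalizer ((P : Subgroup G) : Set G))))).map (Subgroup.normalizer ((P : Subgroup G) : Set G)).subtype)) : L.map (MulAut.conj x).toMonoidHom = L := by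
  rw [comap_layer_quotient_eq, Subgroup.map_sup] at hx
  have h1 := pLayer_local_le_normalizer p hO hL P hP
  have h2 := coreOf_normalizer_le_normalizer_component p hO hL P hP
  have h3 : x ∈ Subgroup.normalizer (L : Set G) := (sup_le h1 h2) hx
  exact cj_eq_self_iff.2 h3

end Cfsg.Agent.S1269
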