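import Mathlib
import Cfsg.Statements.S1272
import Cfsg.Agent.Lib.Helper10.PComp3

set_option autoImplicit false
open Cfsg

namespace Cfsg.Agent.S1272
open Cfsg.Agent.Lib.Helper10

theorem result {X : Type*} [Group X] [Finite X] (p : ℕ) [Fact p.Prime] : (∀ Kbar : Subgroup (X ⧸ Cfsg.pPrimeCore p X), Cfsg.IsComponent Kbar → ∃! K : Subgroup X, Cfsg.IsPComponent p K ∧ K.map (QuotientGroup.mk' (Cfsg.pPrimeCore p X)) = Kbar) ∧ (Cfsg.pLayer p X).map (QuotientGroup.mk' (Cfsg.pPrimeCore p X)) = Cfsg.layer (X ⧸ Cfsg.pPrimeCore p X) := by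
  refine ⟨?_, map_pLayer p⟩
  intro Kbar hKbar
  obtain ⟨K, hK1, hK2⟩ := exists_isPComponent_of_isComponent p Kbar hKbar
  refine ⟨K, ⟨hK1, hK2⟩, ?_⟩
  rintro K' ⟨hK'1, hK'2⟩
  exact isPComponent_unique p hK'1 hK1 (hK'2.trans hK2.symm)

end Cfsg.Agent.S1272
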