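import Mathlib
import Cfsg.Statements.S1273
import Cfsg.Agent.Lib.Helper10.PComp

set_option autoImplicit false
open Cfsg

namespace Cfsg.Agent.S1273
open Cfsg.Agent.Lib.Helper10

theorem result {X : Type*} [Group X] [Finite X] (p : ℕ) [Fact p.Prime] (K : Subgroup X) (hK : Cfsg.IsPComponent p K) (N : Subgroup ↥K) [N.Normal] (hidx : (N.index).Coprime p) : N = ⊤ :=
  isPComponent_normal_index_coprime p hK N hidx

end Cfsg.Agent.S1273
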