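import Mathlib
import Cfsg.Statements.S1277
import Cfsg.Agent.Lib.Helper10.PComp4

set_option autoImplicit false
open Cfsg

namespace Cfsg.Agent.S1277
open Cfsg.Agent.Lib.Helper10 Cfsg.Agent.Lib.Helper9

theorem map_isComponent {X : Type*} [Group X] (N : Subgroup X) [N.Normal] {L : Subgroup X}
    (hL : IsComponent L) : L ≤ N ∨ IsComponent (L.map (QuotientGroup.mk' N)) := by
  by_cases h : L ≤ N
  · exact Or.inl h
  · right
    refine ⟨hL.1.map (QuotientGroup.mk'_surjective N), ?_⟩
    have hne : N.subgroupOf L ≠ ⊤ := by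
      intro h1
      rw [Subgroup.subgroupOf_eq_top] at h1
      exact h h1
    have hq := isQuasisimple_quotient hL.2 (N.subgroupOf L) hne
    have e1 : ↥L ⧸ N.subgroupOf L ≃* ↥L ⧸ ((QuotientGroup.mk' N).subgroupMap L).ker :=
      QuotientGroup.quotientMulEquivOfEq (ker_subgroupMap_mk' N L).symm
    have e2 := QuotientGroup.quotientKerEquivOfSurjective _
      ((QuotientGroup.mk' N).subgroupMap_surjective L)
    exact isQuasisimple_of_mulEquiv (e1.trans e2) hq

theorem map_layer_le {X : Type*} [Group X] (N : Subgroup X) [N.Normal] :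
    (layer X).map (QuotientGroup.mk' N) ≤ layer (X ⧸ N) := by
  rw [Subgroup.map_le_iff_le_comap]
  apply sSup_le
  intro L hL
  rw [← Subgroup.map_le_iff_le_comap]
  rcases map_isComponent N hL with h | h
  · rw [(map_mk'_eq_bot_iff N L).2 h]; exact bot_le
  · exact le_sSup h

theorem result {X : Type*} [Group X] [Finite X] : (Cfsg.layer X).map (QuotientGroup.mk' (Cfsg.oddCore X)) = Cfsg.layer (X ⧸ Cfsg.oddCore X) ↔ Cfsg.pLayer 2 X ≤ Cfsg.layer X := by
  have hp2 : Fact (Nat.Prime 2) := ⟨Nat.prime_two⟩
  constructor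
  · intro h
    apply sSup_le
    intro K hK
    have hKc : IsComponent (K.map (QuotientGroup.mk' (pPrimeCore 2 X))) := hK.2.1
    have hex : ∃ L : Subgroup X, IsComponent L ∧
        L.map (QuotientGroup.mk' (pPrimeCore 2 X)) = K.map (QuotientGroup.mk' (pPrimeCore 2 X)) := by
      by_contra hno
      push Not at hno
      have h1 : (layer X).map (QuotientGroup.mk' (pPrimeCore 2 X)) ≤
          Subgroup.centralizer ((K.map (QuotientGroup.mk' (pPrimeCore 2 X)) : Subgroup _) : Set _) := by
        rw [Subgroup.map_le_iff_le_comap]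
        apply sSup_le
        intro L hL
        rw [← Subgroup.map_le_iff_le_comap]
        rcases map_isComponent (pPrimeCore 2 X) hL with h2 | h2
        · rw [(map_mk'_eq_bot_iff _ L).2 h2]; exact bot_le
        · have h3 := Cfsg.Agent.S1263.distinct_components_commute h2 hKc (hno L hL)
          rwa [Subgroup.commutator_eq_bot_iff_le_centralizer] at h3
      have h2 : K.map (QuotientGroup.mk' (pPrimeCore 2 X)) ≤
          Subgroup.centralizer ((K.map (QuotientGroup.mk' (pPrimeCore 2 X)) : Subgroup _) : Set _) := by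
        refine le_trans ?_ h1
        rw [h]
        exact le_sSup hKc
      rw [← Subgroup.commutator_eq_bot_iff_le_centralizer, isComponent_commutator_self hKc] at h2
      exact isComponent_ne_bot hKc h2
    obtain ⟨L, hL, hLK⟩ := hex
    obtain ⟨K', hK'1, hK'2, hK'3⟩ := exists_isPComponent_le 2 L hL.1 (by rw [hLK]; exact hKc)
    have := isPComponent_unique 2 hK'1 hK (hK'3.trans hLK)
    rw [← this]
    exact hK'2.trans (le_sSup hL)
  · intro h
    apply le_antisymm (map_layer_le _)
    rw [← map_pLayer 2]
    exact Subgroup.map_mono h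

end Cfsg.Agent.S1277
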