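import Mathlib
import Cfsg.Statements.S1278
import Cfsg.Agent.Lib.Helper10.PComp4
import Cfsg.Agent.S1276

set_option autoImplicit false
open Cfsg

namespace Cfsg.Agent.S1278
open Cfsg.Agent.Lib.Helper10 Cfsg.Agent.Lib.Helper9
open scoped commutatorElement

theorem core_map {X : Type*} [Group X] [Finite X] (p : ℕ) (K : Subgroup X) (hK : K.IsSubnormal) :
    (pPrimeCore p ↥K).map K.subtype = pPrimeCore p X ⊓ K := by
  rw [pPrimeCore_subgroupOf_eq p hK, Subgroup.subgroupOf_map_subtype]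

theorem commutator_le_inf_of_normalize {X : Type*} [Group X] (K L : Subgroup X)
    (h1 : L ≤ Subgroup.normalizer (K : Set X)) (h2 : K ≤ Subgroup.normalizer (L : Set X)) :
    ⁅K, L⁆ ≤ K ⊓ L := by
  rw [Subgroup.commutator_le]
  intro a ha b hb
  refine Subgroup.mem_inf.2 ⟨?_, ?_⟩
  · have h3 : b * a⁻¹ * b⁻¹ ∈ K :=
      (Subgroup.mem_normalizer_iff.1 (h1 hb) a⁻¹).1 (K.inv_mem ha)
    have : ⁅a, b⁆ = a * (b * a⁻¹ * b⁻¹) := by rw [commutatorElement_def]; group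
    rw [this]
    exact K.mul_mem ha h3
  · have h3 : a * b * a⁻¹ ∈ L := (Subgroup.mem_normalizer_iff.1 (h2 ha) b).1 hb
    have : ⁅a, b⁆ = (a * b * a⁻¹) * b⁻¹ := by rw [commutatorElement_def]
    rw [this]
    exact L.mul_mem h3 (L.inv_mem hb)

theorem result {X : Type*} [Group X] [Finite X] (K L : Subgroup X) (hK : Cfsg.IsPComponent 2 K) (hL : Cfsg.IsPComponent 2 L) (hne : K ≠ L) : ⁅K, L⁆ ≤ ((Cfsg.oddCore ↥K).map K.subtype) ⊓ ((Cfsg.oddCore ↥L).map L.subtype) ∧ (Cfsg.IsQuasisimple ↥K → ⁅K, L⁆ = ⊥) := by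
  have hp2 : Fact (Nat.Prime 2) := ⟨Nat.prime_two⟩
  have hne' : K.map (QuotientGroup.mk' (pPrimeCore 2 X)) ≠ L.map (QuotientGroup.mk' (pPrimeCore 2 X)) :=
    fun h => hne (isPComponent_unique 2 hK hL h)
  have h1 := Cfsg.Agent.S1263.distinct_components_commute hK.2.1 hL.2.1 hne'
  rw [← Subgroup.map_commutator, map_mk'_eq_bot_iff] at h1
  have h2 := commutator_le_inf_of_normalize K L (isPComponent_le_normalizer 2 hK hL)
    (isPComponent_le_normalizer 2 hL hK)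
  have h3 : ⁅K, L⁆ ≤ ((Cfsg.oddCore ↥K).map K.subtype) ⊓ ((Cfsg.oddCore ↥L).map L.subtype) := by
    rw [core_map 2 K hK.1, core_map 2 L hL.1]
    exact le_inf (le_inf h1 (h2.trans inf_le_left)) (le_inf h1 (h2.trans inf_le_right))
  refine ⟨h3, ?_⟩
  intro hq
  have h4 := (Cfsg.Agent.S1276.result K hK).1 hq
  have h5 : ⁅⁅K, L⁆, K⁆ = ⊥ := by
    rw [eq_bot_iff, ← h4, Subgroup.commutator_comm ⁅K, L⁆ K]
    exact Subgroup.commutator_mono le_rfl (h3.trans inf_le_left)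
  have h6 : ⁅⁅L, K⁆, K⁆ = ⊥ := by rw [Subgroup.commutator_comm L K]; exact h5
  have h7 := Subgroup.commutator_commutator_eq_bot_of_rotate h5 h6
  rwa [isPComponent_perfect 2 hK] at h7

end Cfsg.Agent.S1278
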