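import Mathlib
import Cfsg.Statements.S1279
import Cfsg.Agent.Lib.Helper10.PPrimeLocal
import Cfsg.Agent.Lib.Helper10.ExtLayer
import Cfsg.Agent.Lib.Helper10.Coprime

set_option autoImplicit false
open Cfsg

namespace Cfsg.Agent.S1279
open Cfsg.Agent.Lib.Helper10 Cfsg.Agent.Lib.Helper9

theorem mem_cent_single {G : Type*} [Group G] {g k : G} :
    g ∈ Subgroup.centralizer ({k} : Set G) ↔ k * g = g * k := by
  rw [Subgroup.mem_centralizer_iff]
  constructor
  · intro h; exact h k rfl
  · intro h y hy
    rw [Set.mem_singleton_iff] at hy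
    rw [hy]; exact h

theorem theta_eq {G : Type*} [Group G] (p : ℕ) (a : G) :
    centralizerPPrimeCore p a = coreOf p (Subgroup.centralizer ({a} : Set G)) := rfl

theorem theta_normalizer {G : Type*} [Group G] (p : ℕ) (a : G) :
    Subgroup.centralizer ({a} : Set G) ≤
      Subgroup.normalizer ((centralizerPPrimeCore p a : Subgroup G) : Set G) := by
  rw [theta_eq]
  exact Subgroup.le_normalizer.trans (coreOf_normalizer_le p _)

theorem balance {G : Type*} [Group G] [Finite G] (p : ℕ) [Fact p.Prime] (a b : G)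
    (hab : a * b = b * a) (hap : a ^ p = 1)
    (hsolv : Group.IsSolvable ↥(Subgroup.centralizer ({b} : Set G))) :
    centralizerPPrimeCore p a ⊓ Subgroup.centralizer ({b} : Set G) ≤ centralizerPPrimeCore p b := by
  have haHb : a ∈ Subgroup.centralizer ({b} : Set G) := mem_cent_single.2 hab.symm
  have hP : IsPGroup p (Subgroup.zpowers (⟨a, haHb⟩ : ↥(Subgroup.centralizer ({b} : Set G)))) := by
    apply zpowers_isPGroup_of_pow_eq_one
    apply Subtype.ext
    rw [Subgroup.coe_pow, Subgroup.coe_one]
    exact hap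
  have hYc : (centralizerPPrimeCore p a).subgroupOf (Subgroup.centralizer ({b} : Set G)) ≤
      Subgroup.centralizer ((Subgroup.zpowers
        (⟨a, haHb⟩ : ↥(Subgroup.centralizer ({b} : Set G))) : Subgroup _) : Set _) := by
    intro y hy
    rw [Subgroup.mem_subgroupOf] at hy
    have h1 : (y : G) ∈ Subgroup.centralizer ({a} : Set G) := by
      rw [theta_eq] at hy
      exact coreOf_le p _ hy
    rw [mem_cent_single] at h1
    have hcm : Commute (⟨a, haHb⟩ : ↥(Subgroup.centralizer ({b} : Set G))) y := Subtype.ext h1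
    rw [Subgroup.mem_centralizer_iff]
    intro h hh
    obtain ⟨k, rfl⟩ := Subgroup.mem_zpowers_iff.1 hh
    exact (hcm.zpow_left k)
  have hYp : (Nat.card ((centralizerPPrimeCore p a).subgroupOf
      (Subgroup.centralizer ({b} : Set G)))).Coprime p := by
    have h1 : Nat.card ((centralizerPPrimeCore p a).subgroupOf
        (Subgroup.centralizer ({b} : Set G))) ∣ Nat.card (centralizerPPrimeCore p a) := by
      rw [← Subgroup.card_map_of_injective (Subgroup.subtype_injective _)]
      apply Subgroup.card_dvd_of_le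
      rintro _ ⟨x, hx, rfl⟩
      exact hx
    refine Nat.Coprime.coprime_dvd_left h1 ?_
    rw [theta_eq]
    exact coreOf_card_coprime p _
  have hYn : Subgroup.centralizer ((Subgroup.zpowers
        (⟨a, haHb⟩ : ↥(Subgroup.centralizer ({b} : Set G))) : Subgroup _) : Set _) ≤
      Subgroup.normalizer (((centralizerPPrimeCore p a).subgroupOf
        (Subgroup.centralizer ({b} : Set G)) : Subgroup ↥(Subgroup.centralizer ({b} : Set G))) :
        Set ↥(Subgroup.centralizer ({b} : Set G))) := by
    intro h hh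
    rw [Subgroup.mem_centralizer_iff] at hh
    have h1 := hh _ (Subgroup.mem_zpowers (⟨a, haHb⟩ : ↥(Subgroup.centralizer ({b} : Set G))))
    have h2 : (h : G) ∈ Subgroup.centralizer ({a} : Set G) :=
      mem_cent_single.2 (congrArg Subtype.val h1)
    have h3 := theta_normalizer p a h2
    rw [Subgroup.mem_normalizer_iff] at h3 ⊢
    intro y
    rw [Subgroup.mem_subgroupOf, Subgroup.mem_subgroupOf]
    exact h3 (y : G)
  have key := le_pPrimeCore_of_centralizer p (centralizer_pCore_le_of_isSolvable p)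
    (Subgroup.zpowers (⟨a, haHb⟩ : ↥(Subgroup.centralizer ({b} : Set G))))
    ((centralizerPPrimeCore p a).subgroupOf (Subgroup.centralizer ({b} : Set G))) hP hYc hYp hYn
  intro x hx
  obtain ⟨hx1, hx2⟩ := Subgroup.mem_inf.1 hx
  have h1 : (⟨x, hx2⟩ : ↥(Subgroup.centralizer ({b} : Set G))) ∈
      (centralizerPPrimeCore p a).subgroupOf (Subgroup.centralizer ({b} : Set G)) := by
    rw [Subgroup.mem_subgroupOf]; exact hx1
  exact ⟨⟨x, hx2⟩, key h1, rfl⟩

theorem result {G : Type*} [Group G] [Finite G] (p : ℕ) [Fact p.Prime] (A : Subgroup G) (hA : Cfsg.IsElementaryAbelian p A) (hA2 : p ^ 2 ≤ Nat.card ↥A) (hsolv : ∀ a ∈ A, a ≠ 1 → Group.IsSolvable ↥(Subgroup.centralizer ({a} : Set G))) : Cfsg.IsSolvableSignalizerFunctor p A (fun a => Cfsg.centralizerPPrimeCore p a) := by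
  have hp : p.Prime := Fact.out
  have hcomm : ∀ a ∈ A, ∀ b ∈ A, a * b = b * a := by
    intro a ha b hb
    have := hA.1.is_comm.comm (⟨a, ha⟩ : ↥A) ⟨b, hb⟩
    exact congrArg Subtype.val this
  refine ⟨⟨?_, ?_, ?_, ?_⟩, ?_⟩
  · intro a _ _
    change centralizerPPrimeCore p a ≤ _
    rw [theta_eq]
    exact coreOf_le p _
  · intro a _ _
    change ¬ p ∣ Nat.card (centralizerPPrimeCore p a)
    rw [theta_eq]
    exact (Nat.Prime.coprime_iff_not_dvd hp).1 (coreOf_card_coprime p _).symm
  · intro a ha _ b hb x hx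
    have h1 : b ∈ Subgroup.centralizer ({a} : Set G) := mem_cent_single.2 (hcomm a ha b hb)
    have h2 := theta_normalizer p a h1
    exact (Subgroup.mem_normalizer_iff.1 h2 x).1 hx
  · intro a ha _ b hb hb1
    exact balance p a b (hcomm a ha b hb) (hA.2 a ha) (hsolv b hb hb1)
  · intro a ha ha1
    have := hsolv a ha ha1
    change Group.IsSolvable ↥(centralizerPPrimeCore p a)
    have hle : centralizerPPrimeCore p a ≤ Subgroup.centralizer ({a} : Set G) := by
      rw [theta_eq]; exact coreOf_le p _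
    exact Cfsg.Agent.Lib.Lead.solvable_of_le hle

end Cfsg.Agent.S1279
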