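import Mathlib
import Cfsg.Statements.S1280
import Cfsg.Agent.Lib.Helper10.Coprime

set_option autoImplicit false
open Cfsg

namespace Cfsg.Agent.S1280

open Cfsg.Agent.Lib.Helper10
open scoped Pointwise

section

variable {G : Type*} [Group G]

lemma sup_mem_exists (X Y : Subgroup G) (hn : Y ≤ Subgroup.normalizer (X : Set G)) (c : G)
    (hc : c ∈ X ⊔ Y) : ∃ x ∈ X, ∃ y ∈ Y, c = x * y := by
  have h := Subgroup.coe_mul_of_right_le_normalizer_left X Y hn
  have hc' : c ∈ ((X ⊔ Y : Subgroup G) : Set G) := hc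
  rw [h] at hc'
  obtain ⟨x, hx, y, hy, rfl⟩ := Set.mem_mul.mp hc'
  exact ⟨x, hx, y, hy, rfl⟩

lemma normal_in_sup (X Y : Subgroup G) (hn : Y ≤ Subgroup.normalizer (X : Set G)) :
    (X.subgroupOf (X ⊔ Y)).Normal := by
  rw [Subgroup.normal_subgroupOf_iff_le_normalizer le_sup_left]
  exact sup_le Subgroup.le_normalizer hn

def toQuot (X Y : Subgroup G) [(X.subgroupOf (X ⊔ Y)).Normal] :
    Y →* (↥(X ⊔ Y) ⧸ X.subgroupOf (X ⊔ Y)) :=
  (QuotientGroup.mk' (X.subgroupOf (X ⊔ Y))).comp (Subgroup.inclusion le_sup_right)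

lemma toQuot_surjective (X Y : Subgroup G) [(X.subgroupOf (X ⊔ Y)).Normal]
    (hn : Y ≤ Subgroup.normalizer (X : Set G)) :
    Function.Surjective (toQuot X Y) := by
  intro q
  obtain ⟨⟨k, hk⟩, rfl⟩ := QuotientGroup.mk_surjective q
  obtain ⟨x, hx, y, hy, rfl⟩ := sup_mem_exists X Y hn k hk
  refine ⟨⟨y, hy⟩, ?_⟩
  show (QuotientGroup.mk (Subgroup.inclusion le_sup_right ⟨y, hy⟩) :
    ↥(X ⊔ Y) ⧸ X.subgroupOf (X ⊔ Y)) = QuotientGroup.mk ⟨x * y, hk⟩
  rw [QuotientGroup.eq]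
  rw [Subgroup.mem_subgroupOf]
  simp only [Subgroup.coe_mul, Subgroup.coe_inv, Subgroup.coe_inclusion]
  have : y⁻¹ * (x * y) = y⁻¹ * x * y⁻¹⁻¹ := by group
  rw [this]
  exact (Subgroup.mem_normalizer_iff.mp (hn (Y.inv_mem hy)) x).mp hx

lemma sup_solvable (X Y : Subgroup G) (hn : Y ≤ Subgroup.normalizer (X : Set G))
    [Group.IsSolvable X] [Group.IsSolvable Y] : Group.IsSolvable ↥(X ⊔ Y) := by
  have := normal_in_sup X Y hn
  have : Group.IsSolvable (↥(X ⊔ Y) ⧸ X.subgroupOf (X ⊔ Y)) :=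
    Group.isSolvable_of_surjective (toQuot_surjective X Y hn)
  have : Group.IsSolvable (X.subgroupOf (X ⊔ Y)) :=
    Group.isSolvable_of_isSolvable_injective
      (f := (Subgroup.subgroupOfEquivOfLe (le_sup_left : X ≤ X ⊔ Y)).toMonoidHom)
      (Subgroup.subgroupOfEquivOfLe (le_sup_left : X ≤ X ⊔ Y)).injective
  refine Group.isSolvable_of_ker_le_range (X.subgroupOf (X ⊔ Y)).subtype
    (QuotientGroup.mk' (X.subgroupOf (X ⊔ Y))) ?_
  rw [QuotientGroup.ker_mk', Subgroup.range_subtype]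

lemma sup_card_not_dvd [Finite G] (p : ℕ) [Fact p.Prime] (X Y : Subgroup G)
    (hn : Y ≤ Subgroup.normalizer (X : Set G))
    (hX : ¬ p ∣ Nat.card X) (hY : ¬ p ∣ Nat.card Y) : ¬ p ∣ Nat.card ↥(X ⊔ Y) := by
  have := normal_in_sup X Y hn
  rw [Subgroup.card_eq_card_quotient_mul_card_subgroup (X.subgroupOf (X ⊔ Y))]
  intro h
  rcases (Nat.Prime.dvd_mul (Fact.out : p.Prime)).mp h with h1 | h2
  · apply hY
    exact dvd_trans h1 (Subgroup.card_dvd_of_surjective (toQuot X Y) (toQuot_surjective X Y hn))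
  · apply hX
    rwa [Nat.card_congr (Subgroup.subgroupOfEquivOfLe (le_sup_left : X ≤ X ⊔ Y)).toEquiv] at h2

def cosetSet (X Y : Subgroup G) (c : G) : Set G := {t | t ∈ Y ∧ c * t⁻¹ ∈ X}

lemma cosetSet_card (X Y : Subgroup G) (c x y : G) (hx : x ∈ X) (hy : y ∈ Y) (hc : c = x * y) :
    Nat.card (cosetSet X Y c) = Nat.card (X ⊓ Y : Subgroup G) := by
  apply Nat.card_congr
  refine
    { toFun := fun t => ⟨(t : G) * y⁻¹, ?_⟩
      invFun := fun n => ⟨(n : G) * y, ?_⟩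
      left_inv := ?_
      right_inv := ?_ }
  · obtain ⟨t, ht1, ht2⟩ := t
    refine Subgroup.mem_inf.mpr ⟨?_, Y.mul_mem ht1 (Y.inv_mem hy)⟩
    have e : t * y⁻¹ = (x⁻¹ * (c * t⁻¹))⁻¹ := by rw [hc]; group
    rw [e]
    exact X.inv_mem (X.mul_mem (X.inv_mem hx) ht2)
  · obtain ⟨n, hn⟩ := n
    obtain ⟨hn1, hn2⟩ := Subgroup.mem_inf.mp hn
    refine ⟨Y.mul_mem hn2 hy, ?_⟩
    have e : c * (n * y)⁻¹ = x * n⁻¹ := by rw [hc]; group
    rw [e]
    exact X.mul_mem hx (X.inv_mem hn1)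
  · intro t
    apply Subtype.ext
    simp
  · intro n
    apply Subtype.ext
    simp

end

theorem result {G : Type*} [Group G] [Finite G] (p : ℕ) [Fact p.Prime] (A : Subgroup G) (hA : Cfsg.IsElementaryAbelian p A) (hA2 : p ^ 2 ≤ Nat.card ↥A) (θ : G → Subgroup G) (hθ : Cfsg.IsSolvableSignalizerFunctor p A θ) (X Y : Subgroup G) (hX : X ∈ Cfsg.signalizerFamily p A θ) (hY : Y ∈ Cfsg.signalizerFamily p A θ) (hn : Y ≤ Subgroup.normalizer (X : Set G)) : X ⊔ Y ∈ Cfsg.signalizerFamily p A θ := by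
  obtain ⟨hXs, hXp, hXinv, hXc⟩ := hX
  obtain ⟨hYs, hYp, hYinv, hYc⟩ := hY
  refine ⟨sup_solvable X Y hn, sup_card_not_dvd p X Y hn hXp hYp, ?_, ?_⟩
  · intro b hb u hu
    have hmap : (X ⊔ Y).map (MulAut.conj b).toMonoidHom ≤ X ⊔ Y := by
      rw [Subgroup.map_sup]
      refine sup_le_sup ?_ ?_
      · rintro _ ⟨x, hx, rfl⟩
        simpa [MulAut.conj_apply] using hXinv b hb x hx
      · rintro _ ⟨y, hy, rfl⟩
        simpa [MulAut.conj_apply] using hYinv b hb y hy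
    have := hmap (Subgroup.mem_map_of_mem _ hu)
    simpa [MulAut.conj_apply] using this
  · intro a ha ha1 c hc
    obtain ⟨hc1, hc2⟩ := Subgroup.mem_inf.mp hc
    rw [Subgroup.mem_centralizer_singleton_iff] at hc2
    obtain ⟨x, hx, y, hy, hcxy⟩ := sup_mem_exists X Y hn c hc1
    have hac : a * c * a⁻¹ = c := by
      calc a * c * a⁻¹ = (c * a) * a⁻¹ := by rw [hc2]
        _ = c := by group
    have hS : a ∈ Subgroup.normalizer (cosetSet X Y c) := by
      apply mem_normalizer_of_conj_subset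
      rintro t ⟨ht1, ht2⟩
      refine ⟨hYinv a ha t ht1, ?_⟩
      have e : c * (a * t * a⁻¹)⁻¹ = a * (c * t⁻¹) * a⁻¹ := by
        calc c * (a * t * a⁻¹)⁻¹ = (a * c * a⁻¹) * (a * t * a⁻¹)⁻¹ := by rw [hac]
          _ = a * (c * t⁻¹) * a⁻¹ := by group
      rw [e]
      exact hXinv a ha _ ht2
    have hcard : ¬ p ∣ Nat.card (cosetSet X Y c) := by
      rw [cosetSet_card X Y c x y hx hy hcxy]
      intro h
      exact hXp (dvd_trans h (Subgroup.card_dvd_of_le inf_le_left))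
    obtain ⟨y', ⟨hy'1, hy'2⟩, hfix⟩ := exists_conj_fixed p a (hA.2 a ha) _ hS hcard
    have hy'c : y' * a = a * y' := by
      calc y' * a = (a * y' * a⁻¹) * a := by rw [hfix]
        _ = a * y' := by group
    have hy'θ : y' ∈ θ a := by
      apply hYc a ha ha1
      exact Subgroup.mem_inf.mpr ⟨hy'1, Subgroup.mem_centralizer_singleton_iff.mpr hy'c⟩
    have hx'θ : c * y'⁻¹ ∈ θ a := by
      apply hXc a ha ha1
      refine Subgroup.mem_inf.mpr ⟨hy'2, Subgroup.mem_centralizer_singleton_iff.mpr ?_⟩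
      have hinv : y'⁻¹ * a = a * y'⁻¹ := by
        calc y'⁻¹ * a = y'⁻¹ * (a * y') * y'⁻¹ := by group
          _ = y'⁻¹ * (y' * a) * y'⁻¹ := by rw [hy'c]
          _ = a * y'⁻¹ := by group
      calc c * y'⁻¹ * a = c * (y'⁻¹ * a) := by group
        _ = c * (a * y'⁻¹) := by rw [hinv]
        _ = (c * a) * y'⁻¹ := by group
        _ = a * c * y'⁻¹ := by rw [hc2]
        _ = a * (c * y'⁻¹) := by group
    have : c = (c * y'⁻¹) * y' := by group
    rw [this]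
    exact (θ a).mul_mem hx'θ hy'θ

end Cfsg.Agent.S1280
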