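import Mathlib
import Cfsg.Statements.S1281
import Cfsg.Agent.Lib.Helper10.Coprime

set_option autoImplicit false
open Cfsg

namespace Cfsg.Agent.S1281

open Cfsg.Agent.Lib.Helper10

theorem result {G : Type*} [Group G] [Finite G] (p : ℕ) [Fact p.Prime] (A : Subgroup G) (hA : Cfsg.IsElementaryAbelian p A) (hA2 : p ^ 2 ≤ Nat.card ↥A) (θ : G → Subgroup G) (hθ : Cfsg.IsSolvableSignalizerFunctor p A θ) (N : Subgroup G) [N.Normal] (hN : ¬ p ∣ Nat.card ↥N) (a b : G) (ha : a ∈ A) (ha1 : a ≠ 1) (hb : b ∈ A) (hb1 : b ≠ 1) : (θ a).map (QuotientGroup.mk' N) ⊓ Subgroup.centralizer {QuotientGroup.mk' N b} ≤ (θ b).map (QuotientGroup.mk' N) := by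
  obtain ⟨⟨_, hp', hinv, hbal⟩, _⟩ := hθ
  intro z hz
  obtain ⟨hz1, hz2⟩ := Subgroup.mem_inf.mp hz
  obtain ⟨x, hx, rfl⟩ := Subgroup.mem_map.mp hz1
  rw [Subgroup.mem_centralizer_singleton_iff] at hz2
  have hbN : b ∈ Subgroup.normalizer ((θ a : Subgroup G) : Set G) := by
    rw [Subgroup.mem_normalizer_iff]
    intro h
    constructor
    · intro hh
      exact hinv a ha ha1 b hb h hh
    · intro hh
      have := hinv a ha ha1 b⁻¹ (A.inv_mem hb) _ hh
      have e : b⁻¹ * (b * h * b⁻¹) * b⁻¹⁻¹ = h := by group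
      rwa [e] at this
  have hbp : b ^ p = 1 := hA.2 b hb
  obtain ⟨y, hy, hfix, hyx⟩ := exists_fixed_lift p (θ a) N b hbp hbN (hp' a ha ha1) x hx hz2.symm
  have hyb : y ∈ θ b := by
    apply hbal a ha ha1 b hb hb1
    refine Subgroup.mem_inf.mpr ⟨hy, ?_⟩
    rw [Subgroup.mem_centralizer_singleton_iff]
    have : b * y = y * b := by
      calc b * y = (b * y * b⁻¹) * b := by group
        _ = y * b := by rw [hfix]
    exact this.symm
  exact Subgroup.mem_map.mpr ⟨y, hyb, hyx⟩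

end Cfsg.Agent.S1281
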