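import Mathlib
import Cfsg.Statements.S1286

set_option autoImplicit false
open Cfsg

namespace Cfsg.Agent.S1286

open Equiv

abbrev X5 := Equiv.Perm (Fin 5)
def a5 : X5 := swap 0 1
def b5 : X5 := swap 2 3
def u5 : X5 := swap 2 3 * swap 3 4
def v5 : X5 := swap 0 1 * swap 1 4

def A5 : Subgroup X5 where
  carrier := {g | g = 1 ∨ g = a5 ∨ g = b5 ∨ g = a5 * b5}
  one_mem' := Or.inl rfl
  mul_mem' := by
    rintro x y (rfl|rfl|rfl|rfl) (rfl|rfl|rfl|rfl) <;>
      (show _ = _ ∨ _ = _ ∨ _ = _ ∨ _ = _) <;> decide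
  inv_mem' := by
    rintro x (rfl|rfl|rfl|rfl) <;>
      (show _ = _ ∨ _ = _ ∨ _ = _ ∨ _ = _) <;> decide

instance decA5 : DecidablePred (· ∈ A5) :=
  fun g => inferInstanceAs (Decidable (g = 1 ∨ g = a5 ∨ g = b5 ∨ g = a5 * b5))

theorem cardA5 : Nat.card A5 = 4 := by
  rw [Nat.card_eq_fintype_card]
  decide

lemma memA5 {g : X5} : g ∈ A5 ↔ g = 1 ∨ g = a5 ∨ g = b5 ∨ g = a5 * b5 := Iff.rfl

noncomputable def θ5 : X5 → Subgroup X5 := fun x =>
  if x = a5 then Subgroup.zpowers u5 else if x = b5 then Subgroup.zpowers v5 else ⊥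

lemma θa : θ5 a5 = Subgroup.zpowers u5 := by
  unfold θ5; rw [if_pos rfl]

lemma θb : θ5 b5 = Subgroup.zpowers v5 := by
  unfold θ5; rw [if_neg (by decide), if_pos rfl]

lemma θab : θ5 (a5 * b5) = ⊥ := by
  unfold θ5; rw [if_neg (by decide), if_neg (by decide)]

lemma mem3 {G : Type*} [Group G] {g x : G} (h : x = 1 ∨ x = g ∨ x = g⁻¹) :
    x ∈ Subgroup.zpowers g := by
  rcases h with h | h | h
  · rw [h]; exact one_mem _
  · rw [h]; exact Subgroup.mem_zpowers g
  · rw [h]; exact inv_mem (Subgroup.mem_zpowers g)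

lemma of_mem3 {G : Type*} [Group G] {g x : G} (hg : g ^ 3 = 1) (h : x ∈ Subgroup.zpowers g) :
    x = 1 ∨ x = g ∨ x = g⁻¹ := by
  obtain ⟨k, rfl⟩ := Subgroup.mem_zpowers_iff.mp h
  have h3 : g ^ (3 : ℤ) = 1 := by
    have : g ^ ((3 : ℕ) : ℤ) = 1 := by rw [zpow_natCast]; exact hg
    simpa using this
  have hk : k = 3 * (k / 3) + k % 3 := by omega
  have hr : k % 3 = 0 ∨ k % 3 = 1 ∨ k % 3 = 2 := by omega
  rw [hk, zpow_add, zpow_mul, h3, one_zpow, one_mul]
  rcases hr with h0 | h1 | h2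
  · left; rw [h0, zpow_zero]
  · right; left; rw [h1, zpow_one]
  · right; right
    rw [h2]
    have : g ^ (2 : ℤ) * g = 1 := by
      rw [← zpow_add_one]; exact h3
    exact eq_inv_of_mul_eq_one_left this

lemma u3 : u5 ^ 3 = 1 := by decide
lemma v3 : v5 ^ 3 = 1 := by decide

lemma ordu : orderOf u5 = 3 := orderOf_eq_prime u3 (by decide)
lemma ordv : orderOf v5 = 3 := orderOf_eq_prime v3 (by decide)

lemma sf : IsSignalizerFunctor 2 A5 θ5 := by
  refine ⟨?_, ?_, ?_, ?_⟩
  · intro a ha ha1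
    rcases memA5.mp ha with rfl | rfl | rfl | rfl
    · exact absurd rfl ha1
    · rw [θa, Subgroup.zpowers_le, Subgroup.mem_centralizer_singleton_iff]; decide
    · rw [θb, Subgroup.zpowers_le, Subgroup.mem_centralizer_singleton_iff]; decide
    · rw [θab]; exact bot_le
  · intro a ha ha1
    rcases memA5.mp ha with rfl | rfl | rfl | rfl
    · exact absurd rfl ha1
    · rw [θa, Nat.card_zpowers, ordu]; decide
    · rw [θb, Nat.card_zpowers, ordv]; decide
    · rw [θab, Subgroup.card_bot]; decide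
  · intro a ha ha1 b hb x hx
    rcases memA5.mp ha with rfl | rfl | rfl | rfl
    · exact absurd rfl ha1
    · rw [θa] at hx ⊢
      apply mem3
      rcases of_mem3 u3 hx with rfl | rfl | rfl <;>
        rcases memA5.mp hb with rfl | rfl | rfl | rfl <;> decide
    · rw [θb] at hx ⊢
      apply mem3
      rcases of_mem3 v3 hx with rfl | rfl | rfl <;>
        rcases memA5.mp hb with rfl | rfl | rfl | rfl <;> decide
    · rw [θab] at hx ⊢
      rw [Subgroup.mem_bot] at hx ⊢
      rw [hx]; group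
  · intro a ha ha1 b hb hb1 x hx
    obtain ⟨hx1, hx2⟩ := Subgroup.mem_inf.mp hx
    rw [Subgroup.mem_centralizer_singleton_iff] at hx2
    rcases memA5.mp ha with rfl | rfl | rfl | rfl
    · exact absurd rfl ha1
    · rw [θa] at hx1
      rcases memA5.mp hb with rfl | rfl | rfl | rfl
      · exact absurd rfl hb1
      · rw [θa]; exact hx1
      · rcases of_mem3 u3 hx1 with rfl | rfl | rfl
        · exact one_mem _
        · exact absurd hx2 (by decide)
        · exact absurd hx2 (by decide)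
      · rcases of_mem3 u3 hx1 with rfl | rfl | rfl
        · exact one_mem _
        · exact absurd hx2 (by decide)
        · exact absurd hx2 (by decide)
    · rw [θb] at hx1
      rcases memA5.mp hb with rfl | rfl | rfl | rfl
      · exact absurd rfl hb1
      · rcases of_mem3 v3 hx1 with rfl | rfl | rfl
        · exact one_mem _
        · exact absurd hx2 (by decide)
        · exact absurd hx2 (by decide)
      · rw [θb]; exact hx1
      · rcases of_mem3 v3 hx1 with rfl | rfl | rfl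
        · exact one_mem _
        · exact absurd hx2 (by decide)
        · exact absurd hx2 (by decide)
    · rw [θab, Subgroup.mem_bot] at hx1
      rw [hx1]; exact one_mem _

theorem result : ∃ (X : Type) (_ : Group X) (_ : Finite X) (A : Subgroup X) (θ : X → Subgroup X), Cfsg.IsElementaryAbelian 2 A ∧ Nat.card ↥A = 4 ∧ Cfsg.IsSolvableSignalizerFunctor 2 A θ ∧ ¬ Cfsg.IsCompleteSignalizerFunctor 2 A θ := by
  refine ⟨X5, inferInstance, inferInstance, A5, θ5, ?_, cardA5, ⟨sf, ?_⟩, ?_⟩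
  · refine ⟨⟨⟨?_⟩⟩, ?_⟩
    · rintro ⟨x, hx⟩ ⟨y, hy⟩
      apply Subtype.ext
      show x * y = y * x
      rcases memA5.mp hx with rfl | rfl | rfl | rfl <;>
        rcases memA5.mp hy with rfl | rfl | rfl | rfl <;> decide
    · intro x hx
      rcases memA5.mp hx with rfl | rfl | rfl | rfl <;> decide
  · intro a ha ha1
    rcases memA5.mp ha with rfl | rfl | rfl | rfl
    · exact absurd rfl ha1
    · rw [θa]; infer_instance
    · rw [θb]; infer_instance
    · rw [θab]; infer_instance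
  · rintro ⟨_, Y, _, hodd, hY⟩
    have hu : u5 ∈ Y := by
      have h1 := hY a5 (memA5.mpr (Or.inr (Or.inl rfl))) (by decide)
      rw [θa] at h1
      have : u5 ∈ Y ⊓ Subgroup.centralizer {a5} := by
        rw [h1]; exact Subgroup.mem_zpowers u5
      exact (Subgroup.mem_inf.mp this).1
    have hv : v5 ∈ Y := by
      have h1 := hY b5 (memA5.mpr (Or.inr (Or.inr (Or.inl rfl)))) (by decide)
      rw [θb] at h1
      have : v5 ∈ Y ⊓ Subgroup.centralizer {b5} := by
        rw [h1]; exact Subgroup.mem_zpowers v5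
      exact (Subgroup.mem_inf.mp this).1
    have hw : u5 * v5 * u5 * v5⁻¹ ∈ Y :=
      Y.mul_mem (Y.mul_mem (Y.mul_mem hu hv) hu) (Y.inv_mem hv)
    have hord : orderOf (u5 * v5 * u5 * v5⁻¹) = 2 :=
      orderOf_eq_prime (by decide) (by decide)
    apply hodd
    have h2 := orderOf_dvd_natCard (⟨u5 * v5 * u5 * v5⁻¹, hw⟩ : Y)
    rw [← Subgroup.orderOf_coe] at h2
    rw [← hord]
    exact h2

end Cfsg.Agent.S1286
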