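import Cfsg.Statements.S1287
import Mathlib
import Cfsg.Agent.Lib.Helper10.Wielandt5
import Cfsg.Agent.Lib.Helper10.SigTrans
import Cfsg.Agent.Lib.Helper5.Card
import Cfsg.Agent.S0030

set_option autoImplicit false
open scoped Pointwise
open Cfsg

namespace Cfsg.Agent.S1287

open Cfsg.Agent.Lib.Helper10

theorem fac_cen {H : Type*} [Group H] [Finite H] (p : ℕ) [Fact p.Prime] (A K X Y : Subgroup H)
    (hA : Cfsg.IsElementaryAbelian p A) (hK : ¬ p ∣ Nat.card ↥K)
    (hAK : A ≤ Subgroup.normalizer (K : Set H)) (hX : X ≤ K) (hY : Y ≤ K)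
    (hAX : A ≤ Subgroup.normalizer (X : Set H)) (hAY : A ≤ Subgroup.normalizer (Y : Set H))
    (hfac : ∀ a ∈ A, a ≠ 1 → ((K ⊓ Subgroup.centralizer {a} : Subgroup H) : Set H) =
      ((X ⊓ Subgroup.centralizer {a} : Subgroup H) : Set H) *
        ((Y ⊓ Subgroup.centralizer {a} : Subgroup H) : Set H))
    (D : Subgroup ↥A) (hD : D ≠ ⊥) :
    Nat.card ↥(cen A.subtype K D) * Nat.card ↥(cen A.subtype (X ⊓ Y) D) =
      Nat.card ↥(cen A.subtype X D) * Nat.card ↥(cen A.subtype Y D) := by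
  have hcommA : ∀ x y : ↥A, x * y = y * x := by
    have := hA.1
    exact fun x y => mul_comm' x y
  have hexpA : ∀ x : ↥A, x ^ p = 1 := by
    intro x
    apply Subtype.ext
    rw [Subgroup.coe_pow, Subgroup.coe_one]
    exact hA.2 x x.2
  have hset : ((cen A.subtype K D : Subgroup H) : Set H) =
      ((cen A.subtype X D : Subgroup H) : Set H) * ((cen A.subtype Y D : Subgroup H) : Set H) := by
    apply Set.Subset.antisymm
    · intro k hk
      rw [SetLike.mem_coe] at hk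
      obtain ⟨a, ha1⟩ := (Subgroup.ne_bot_iff_exists_ne_one).1 hD
      have haA : ((a : ↥A) : H) ∈ A := (a : ↥A).2
      have hane : ((a : ↥A) : H) ≠ 1 := by
        intro h
        apply ha1
        apply Subtype.ext
        apply Subtype.ext
        exact h
      have hf := hfac _ haA hane
      have haD : ((a : ↥A) : H) ∈ D.map A.subtype := ⟨(a : ↥A), a.2, rfl⟩
      have hDA : D.map A.subtype ≤ A := by
        rintro _ ⟨d, _, rfl⟩
        exact d.2
      have hDcent : D.map A.subtype ≤ Subgroup.centralizer {((a : ↥A) : H)} := by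
        rintro _ ⟨d, _, rfl⟩
        rw [Subgroup.mem_centralizer_singleton_iff]
        have := hcommA d (a : ↥A)
        exact congrArg Subtype.val this
      have hDNC : D.map A.subtype ≤ Subgroup.normalizer
          ((Subgroup.centralizer {((a : ↥A) : H)} : Subgroup H) : Set H) :=
        hDcent.trans Subgroup.le_normalizer
      have hM : K ⊓ Subgroup.centralizer {((a : ↥A) : H)} ≤ K := inf_le_left
      have hMp : ¬ p ∣ Nat.card ↥(K ⊓ Subgroup.centralizer {((a : ↥A) : H)}) :=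
        fun h => hK (h.trans (Subgroup.card_dvd_of_le hM))
      have hk' := mem_cen.1 hk
      have hkc : k ∈ Subgroup.centralizer {((a : ↥A) : H)} := by
        rw [Subgroup.mem_centralizer_singleton_iff]
        exact (hk'.2 (a : ↥A) a.2).symm
      have hkM : k ∈ (K ⊓ Subgroup.centralizer {((a : ↥A) : H)}) ⊓
          Subgroup.centralizer ((D.map A.subtype : Subgroup H) : Set H) :=
        ⟨⟨hk.1, hkc⟩, hk.2⟩
      obtain ⟨x, hx, y, hy, hkxy⟩ := Cfsg.Agent.S0030.result (D.map A.subtype)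
        (K ⊓ Subgroup.centralizer {((a : ↥A) : H)})
        (le_normalizer_inf_of_le (hDA.trans hAK) hDNC)
        (coprime_map_card A.subtype hexpA D hMp)
        (Or.inl (solvable_map_of_comm A.subtype hcommA D))
        (X ⊓ Subgroup.centralizer {((a : ↥A) : H)}) (Y ⊓ Subgroup.centralizer {((a : ↥A) : H)})
        (inf_le_inf_right _ hX) (inf_le_inf_right _ hY)
        (le_normalizer_inf_of_le (hDA.trans hAX) hDNC)
        (le_normalizer_inf_of_le (hDA.trans hAY) hDNC)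
        (by
          intro k' hk'
          have : k' ∈ ((K ⊓ Subgroup.centralizer {((a : ↥A) : H)} : Subgroup H) : Set H) := hk'
          rw [hf] at this
          obtain ⟨x', hx', y', hy', hxy'⟩ := Set.mem_mul.1 this
          exact ⟨x', hx', y', hy', hxy'.symm⟩)
        k hkM
      rw [hkxy]
      exact Set.mul_mem_mul (show x ∈ cen A.subtype X D from ⟨hx.1.1, hx.2⟩)
        (show y ∈ cen A.subtype Y D from ⟨hy.1.1, hy.2⟩)
    · rintro _ ⟨x, hx, y, hy, rfl⟩
      exact Subgroup.mul_mem _ (cen_mono_left _ hX D hx) (cen_mono_left _ hY D hy)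
  have h1 := Cfsg.Agent.Lib.Helper5.card_mul_set_mul_card_inf (cen A.subtype X D)
    (cen A.subtype Y D)
  rw [cen_inf, ← hset] at h1
  exact h1

theorem result {H : Type*} [Group H] [Finite H] (p : ℕ) [Fact p.Prime] (A K X Y : Subgroup H) (hA : Cfsg.IsElementaryAbelian p A) (hA2 : p ^ 2 ≤ Nat.card ↥A) (hK : ¬ p ∣ Nat.card ↥K) (hAK : A ≤ Subgroup.normalizer (K : Set H)) (hX : X ≤ K) (hY : Y ≤ K) (hAX : A ≤ Subgroup.normalizer (X : Set H)) (hAY : A ≤ Subgroup.normalizer (Y : Set H)) (hCX : K ⊓ Subgroup.centralizer (A : Set H) ≤ Subgroup.normalizer (X : Set H)) (hfac : ∀ a ∈ A, a ≠ 1 → ((K ⊓ Subgroup.centralizer {a} : Subgroup H) : Set H) = ((X ⊓ Subgroup.centralizer {a} : Subgroup H) : Set H) * ((Y ⊓ Subgroup.centralizer {a} : Subgroup H) : Set H)) : (K : Set H) = (X : Set H) * (Y : Set H) := by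
  have hp : p.Prime := Fact.out
  have hcommA : ∀ x y : ↥A, x * y = y * x := by
    have := hA.1
    exact fun x y => mul_comm' x y
  have hexpA : ∀ x : ↥A, x ^ p = 1 := by
    intro x
    apply Subtype.ext
    rw [Subgroup.coe_pow, Subgroup.coe_one]
    exact hA.2 x x.2
  have hfin : Set.Finite {B : Subgroup ↥A | B.index = p} := Set.toFinite _
  obtain ⟨𝓙, h𝓙def⟩ : ∃ 𝓙, 𝓙 = hfin.toFinset := ⟨_, rfl⟩
  have h𝓙 : ∀ B : Subgroup ↥A, B ∈ 𝓙 ↔ B.index = p := by
    intro B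
    rw [h𝓙def, Set.Finite.mem_toFinset]
    rfl
  have hinj : Function.Injective A.subtype := Subgroup.subtype_injective A
  have hW : ∀ M : Subgroup H, M ≤ K → A ≤ Subgroup.normalizer (M : Set H) →
      Nat.card ↥M * Nat.card ↥(cen A.subtype M ⊤) ^ 𝓙.card =
        Nat.card ↥(cen A.subtype M ⊤) * ∏ B ∈ 𝓙, Nat.card ↥(cen A.subtype M B) := by
    intro M hMK hAM
    exact wielandt p hcommA hexpA hA2 𝓙 h𝓙 A.subtype hinj M (fun d => hAM d.2)
      (fun h => hK (h.trans (Subgroup.card_dvd_of_le hMK)))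
  have hWK := hW K le_rfl hAK
  have hWX := hW X hX hAX
  have hWY := hW Y hY hAY
  have hWZ := hW (X ⊓ Y) (inf_le_left.trans hX) (le_normalizer_inf_of_le hAX hAY)
  have hAgt : p < Nat.card ↥A := by
    have h1 : 1 < p := hp.one_lt
    nlinarith
  have htop : (⊤ : Subgroup ↥A) ≠ ⊥ := by
    have : Nontrivial ↥A := by
      rw [← Finite.one_lt_card_iff_nontrivial]
      exact lt_trans hp.one_lt hAgt
    exact top_ne_bot
  have hBne : ∀ B ∈ 𝓙, B ≠ ⊥ := by
    intro B hB hbot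
    have h1 := (h𝓙 B).1 hB
    rw [hbot, Subgroup.index_bot] at h1
    omega
  have hfacD := fac_cen p A K X Y hA hK hAK hX hY hAX hAY hfac
  have hftop := hfacD ⊤ htop
  have hfprod : (∏ B ∈ 𝓙, Nat.card ↥(cen A.subtype K B)) *
      (∏ B ∈ 𝓙, Nat.card ↥(cen A.subtype (X ⊓ Y) B)) =
      (∏ B ∈ 𝓙, Nat.card ↥(cen A.subtype X B)) * (∏ B ∈ 𝓙, Nat.card ↥(cen A.subtype Y B)) := by
    rw [← Finset.prod_mul_distrib, ← Finset.prod_mul_distrib]
    exact Finset.prod_congr rfl (fun B hB => hfacD B (hBne B hB))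
  have hpos : 0 < (Nat.card ↥(cen A.subtype K ⊤) * Nat.card ↥(cen A.subtype (X ⊓ Y) ⊤)) ^ 𝓙.card :=
    pow_pos (Nat.mul_pos Nat.card_pos Nat.card_pos) _
  have hmain : Nat.card ↥K * Nat.card ↥(X ⊓ Y : Subgroup H) = Nat.card ↥X * Nat.card ↥Y := by
    apply Nat.eq_of_mul_eq_mul_right hpos
    calc Nat.card ↥K * Nat.card ↥(X ⊓ Y : Subgroup H) *
          (Nat.card ↥(cen A.subtype K ⊤) * Nat.card ↥(cen A.subtype (X ⊓ Y) ⊤)) ^ 𝓙.card
        = (Nat.card ↥K * Nat.card ↥(cen A.subtype K ⊤) ^ 𝓙.card) *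
          (Nat.card ↥(X ⊓ Y : Subgroup H) * Nat.card ↥(cen A.subtype (X ⊓ Y) ⊤) ^ 𝓙.card) := by
          rw [mul_pow]; ring
      _ = (Nat.card ↥(cen A.subtype K ⊤) * Nat.card ↥(cen A.subtype (X ⊓ Y) ⊤)) *
          ((∏ B ∈ 𝓙, Nat.card ↥(cen A.subtype K B)) *
            (∏ B ∈ 𝓙, Nat.card ↥(cen A.subtype (X ⊓ Y) B))) := by
          rw [hWK, hWZ]; ring
      _ = (Nat.card ↥(cen A.subtype X ⊤) * Nat.card ↥(cen A.subtype Y ⊤)) *
          ((∏ B ∈ 𝓙, Nat.card ↥(cen A.subtype X B)) *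
            (∏ B ∈ 𝓙, Nat.card ↥(cen A.subtype Y B))) := by
          rw [hftop, hfprod]
      _ = (Nat.card ↥X * Nat.card ↥(cen A.subtype X ⊤) ^ 𝓙.card) *
          (Nat.card ↥Y * Nat.card ↥(cen A.subtype Y ⊤) ^ 𝓙.card) := by
          rw [hWX, hWY]; ring
      _ = Nat.card ↥X * Nat.card ↥Y *
          (Nat.card ↥(cen A.subtype K ⊤) * Nat.card ↥(cen A.subtype (X ⊓ Y) ⊤)) ^ 𝓙.card := by
          rw [hftop, mul_pow]; ring
  have hset := Cfsg.Agent.Lib.Helper5.card_mul_set_mul_card_inf X Y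
  rw [← hmain] at hset
  have hcardeq : Nat.card ↑((X : Set H) * (Y : Set H)) = Nat.card ↥K :=
    Nat.eq_of_mul_eq_mul_right Nat.card_pos hset
  have hsub : (X : Set H) * (Y : Set H) ⊆ (K : Set H) := by
    rintro _ ⟨x, hx, y, hy, rfl⟩
    exact K.mul_mem (hX hx) (hY hy)
  symm
  apply Set.eq_of_subset_of_ncard_le hsub _ (Set.toFinite _)
  rw [← Nat.card_coe_set_eq, ← Nat.card_coe_set_eq, hcardeq]
  rfl

end Cfsg.Agent.S1287
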