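import Cfsg.Statements.S1288
import Cfsg.Agent.Lib.Helper10.CoprimeGen
import Cfsg.Agent.Lib.Helper10.PComp
import Cfsg.Agent.Lib.Helper1.CFitting
import Cfsg.Agent.Lib.Lead.Coprime
import Cfsg.Agent.S1327

set_option autoImplicit false
open Cfsg

namespace Cfsg.Agent.S1288

open Cfsg.Agent.Lib.Helper10
open scoped commutatorElement

theorem eq_one_of_coprime_of_mem_pGroup {X : Type*} [Group X] [Finite X] (q : ℕ) [Fact q.Prime]
    {P : Subgroup X} (hP : IsPGroup q ↥P) {x : X} (hx : x ∈ P) {n : ℕ} (hn : ¬ q ∣ n)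
    (hxn : x ^ n = 1) : x = 1 := by
  obtain ⟨k, hk⟩ := (IsPGroup.iff_orderOf.1 hP) ⟨x, hx⟩
  have hk' : orderOf x = q ^ k := by
    rw [← hk]; exact (Subgroup.orderOf_mk x hx).symm
  have h1 : orderOf x ∣ n := orderOf_dvd_of_pow_eq_one hxn
  rw [hk'] at h1
  have hq : q.Prime := Fact.out
  rcases Nat.eq_zero_or_pos k with h0 | h0
  · rw [h0, pow_zero] at hk'
    exact orderOf_eq_one_iff.1 hk'
  · exact absurd ((dvd_pow_self q h0.ne').trans h1) hn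

theorem result {H : Type*} [Group H] [Finite H] (p : ℕ) [Fact p.Prime] (A K : Subgroup H) (hA : Cfsg.IsElementaryAbelian p A) (hA2 : p ^ 2 ≤ Nat.card ↥A) (hK : ¬ p ∣ Nat.card ↥K) (hKs : Group.IsSolvable ↥K) (hAK : A ≤ Subgroup.normalizer (K : Set H)) (q : ℕ) [Fact q.Prime] (hqK : q ∣ Nat.card ↥K) (U : Subgroup H) (hU : U ≤ K) (hUq : ¬ q ∣ Nat.card ↥U) (hcomm : ∀ B : Subgroup H, B ≤ A → B.relIndex A = p → ¬ q ∣ Nat.card ↥⁅U, K ⊓ Subgroup.centralizer (B : Set H)⁆) : U ≤ (Cfsg.pPrimeCore q ↥K).map K.subtype := by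
  have hN₀n : (pPrimeCore q ↥K).Normal := Cfsg.Agent.Lib.Helper1.pPrimeCore_normal q
  obtain ⟨R, hR⟩ : ∃ R, R = (pPrimePCore q ↥K).map K.subtype := ⟨_, rfl⟩
  have hRK : R ≤ K := hR ▸ Subgroup.map_subtype_le _
  have hchar : (pPrimePCore q ↥K).Characteristic := pPrimePCore_characteristic q
  have hAR : A ≤ Subgroup.normalizer (R : Set H) :=
    hR ▸ Cfsg.Agent.Lib.Lead.le_normalizer_map_characteristic K A hAK (pPrimePCore q ↥K)
  have hKR : K ≤ Subgroup.normalizer (R : Set H) :=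
    hR ▸ Cfsg.Agent.Lib.Lead.le_normalizer_map_characteristic K K Subgroup.le_normalizer
      (pPrimePCore q ↥K)
  have hRp : ¬ p ∣ Nat.card ↥R := fun h => hK (h.trans (Subgroup.card_dvd_of_le hRK))
  have hgen := hyperplane_generation p A R hA hA2 hRp hAR
  have hQ : IsPGroup q ↥(pCore q (↥K ⧸ pPrimeCore q ↥K)) :=
    Cfsg.Agent.Lib.Helper1.pCore_isPGroup q
  have hmemR : ∀ r : H, ∀ hr : r ∈ R, QuotientGroup.mk' (pPrimeCore q ↥K) ⟨r, hRK hr⟩ ∈
      pCore q (↥K ⧸ pPrimeCore q ↥K) := by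
    intro r hr
    rw [hR] at hr
    obtain ⟨r', hr', hrr⟩ := hr
    have : r' = ⟨r, hRK (hR ▸ ⟨r', hr', hrr⟩)⟩ := Subtype.ext hrr
    rw [← this]
    exact hr'
  have hsmall : ∀ T : Subgroup H, ∀ hTR : T ≤ R, ¬ q ∣ Nat.card ↥T →
      ∀ t : H, ∀ ht : t ∈ T, (⟨t, hRK (hTR ht)⟩ : ↥K) ∈ pPrimeCore q ↥K := by
    intro T hTR hTq t ht
    have h1 := hmemR t (hTR ht)
    have h2 : (QuotientGroup.mk' (pPrimeCore q ↥K) ⟨t, hRK (hTR ht)⟩) ^ (Nat.card ↥T) = 1 := by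
      rw [← map_pow]
      have h3 : (⟨t, hRK (hTR ht)⟩ : ↥K) ^ (Nat.card ↥T) = 1 := by
        apply Subtype.ext
        have h4 : (⟨t, ht⟩ : ↥T) ^ (Nat.card ↥T) = 1 := pow_card_eq_one'
        have h5 := congrArg Subtype.val h4
        rw [Subgroup.coe_pow, Subgroup.coe_one] at h5
        rw [Subgroup.coe_pow, Subgroup.coe_one]
        exact h5
      rw [h3, map_one]
    have h6 := eq_one_of_coprime_of_mem_pGroup q hQ h1 hTq h2
    exact (QuotientGroup.eq_one_iff _).1 h6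
  obtain ⟨Ubar, hUbar⟩ : ∃ Ubar, Ubar = (U.subgroupOf K).map (QuotientGroup.mk' (pPrimeCore q ↥K)) :=
    ⟨_, rfl⟩
  have hRD : R ≤ ((Subgroup.centralizer (Ubar : Set (↥K ⧸ pPrimeCore q ↥K))).comap
      (QuotientGroup.mk' (pPrimeCore q ↥K))).map K.subtype := by
    rw [hgen]
    apply iSup_le
    rintro ⟨B, hBA, hBidx⟩
    intro r hr
    have hrR : r ∈ R := hr.1
    have hrC : r ∈ Subgroup.centralizer (B : Set H) := hr.2
    refine ⟨⟨r, hRK hrR⟩, ?_, rfl⟩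
    rw [SetLike.mem_coe, Subgroup.mem_comap, Subgroup.mem_centralizer_iff]
    intro z hz
    rw [hUbar] at hz
    obtain ⟨u, hu, rfl⟩ := hz
    have huU : (u : H) ∈ U := Subgroup.mem_subgroupOf.1 hu
    have hT : ⁅U, R ⊓ Subgroup.centralizer (B : Set H)⁆ ≤
        ⁅U, K ⊓ Subgroup.centralizer (B : Set H)⁆ :=
      Subgroup.commutator_mono le_rfl (inf_le_inf_right _ hRK)
    have hTq : ¬ q ∣ Nat.card ↥⁅U, R ⊓ Subgroup.centralizer (B : Set H)⁆ := fun h =>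
      hcomm B hBA hBidx (h.trans (Subgroup.card_dvd_of_le hT))
    have hTR : ⁅U, R ⊓ Subgroup.centralizer (B : Set H)⁆ ≤ R := by
      rw [Subgroup.commutator_le]
      intro a ha b hb
      have hb' : b ∈ R := hb.1
      have haN := hKR (hU ha)
      rw [Subgroup.mem_normalizer_iff] at haN
      rw [commutatorElement_def]
      have : a * b * a⁻¹ * b⁻¹ = (a * b * a⁻¹) * b⁻¹ := by group
      rw [this]
      exact R.mul_mem ((haN b).1 hb') (R.inv_mem hb')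
    have hc : ⁅(u : H), r⁆ ∈ ⁅U, R ⊓ Subgroup.centralizer (B : Set H)⁆ :=
      Subgroup.commutator_mem_commutator huU hr
    have h7 := hsmall _ hTR hTq _ hc
    have h8 : (⟨⁅(u : H), r⁆, hRK (hTR hc)⟩ : ↥K) = ⁅u, (⟨r, hRK hrR⟩ : ↥K)⁆ := by
      apply Subtype.ext
      simp [commutatorElement_def]
    rw [h8] at h7
    have h9 : QuotientGroup.mk' (pPrimeCore q ↥K) ⁅u, (⟨r, hRK hrR⟩ : ↥K)⁆ = 1 :=
      (QuotientGroup.eq_one_iff _).2 h7
    rw [map_commutatorElement, commutatorElement_eq_one_iff_mul_comm] at h9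
    exact h9
  have hcore : pCore q (↥K ⧸ pPrimeCore q ↥K) ≤
      Subgroup.centralizer (Ubar : Set (↥K ⧸ pPrimeCore q ↥K)) := by
    intro z hz
    obtain ⟨k, rfl⟩ := QuotientGroup.mk'_surjective (pPrimeCore q ↥K) z
    have hkR : (k : H) ∈ R := by
      rw [hR]
      exact ⟨k, hz, rfl⟩
    obtain ⟨k', hk', hkk⟩ := hRD hkR
    have : k' = k := Subtype.ext hkk
    rw [this] at hk'
    exact hk'
  have hObot : pPrimeCore q (↥K ⧸ pPrimeCore q ↥K) = ⊥ := pPrimeCore_quotient_eq_bot q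
  have hfit : fittingSubgroup (↥K ⧸ pPrimeCore q ↥K) = pCore q (↥K ⧸ pPrimeCore q ↥K) :=
    Cfsg.Agent.S1327.fitting_eq_pCore q hObot
  have hsolvQ : Group.IsSolvable (↥K ⧸ pPrimeCore q ↥K) := inferInstance
  have hCF : Subgroup.centralizer ((pCore q (↥K ⧸ pPrimeCore q ↥K) : Subgroup _) : Set _) ≤
      pCore q (↥K ⧸ pPrimeCore q ↥K) := by
    have := Cfsg.Agent.Lib.Helper1.centralizer_fittingSubgroup_le (G := ↥K ⧸ pPrimeCore q ↥K)
    rwa [hfit] at this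
  have hUle : Ubar ≤ pCore q (↥K ⧸ pPrimeCore q ↥K) :=
    (Subgroup.le_centralizer_iff.1 hcore).trans hCF
  intro u hu
  refine ⟨⟨u, hU hu⟩, ?_, rfl⟩
  have h1 : QuotientGroup.mk' (pPrimeCore q ↥K) ⟨u, hU hu⟩ ∈ Ubar := by
    rw [hUbar]
    exact ⟨⟨u, hU hu⟩, Subgroup.mem_subgroupOf.2 hu, rfl⟩
  have h2 : (QuotientGroup.mk' (pPrimeCore q ↥K) ⟨u, hU hu⟩) ^ (Nat.card ↥U) = 1 := by
    rw [← map_pow]
    have h3 : (⟨u, hU hu⟩ : ↥K) ^ (Nat.card ↥U) = 1 := by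
      apply Subtype.ext
      have h4 : (⟨u, hu⟩ : ↥U) ^ (Nat.card ↥U) = 1 := pow_card_eq_one'
      have h5 := congrArg Subtype.val h4
      rw [Subgroup.coe_pow, Subgroup.coe_one] at h5
      rw [Subgroup.coe_pow, Subgroup.coe_one]
      exact h5
    rw [h3, map_one]
  have h6 := eq_one_of_coprime_of_mem_pGroup q hQ (hUle h1) hUq h2
  exact (QuotientGroup.eq_one_iff _).1 h6

end Cfsg.Agent.S1288
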