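import Mathlib
import Cfsg.Statements.S1289
import Cfsg.Agent.Lib.Helper10.PComp

set_option autoImplicit false
open Cfsg

namespace Cfsg.Agent.S1289
open Cfsg.Agent.Lib.Helper10

theorem result {X : Type*} [Group X] [Finite X] (p : ℕ) [Fact p.Prime] (K : Subgroup X) (hK : Cfsg.IsPComponent p K) : K.IsSubnormal ∧ ⁅K, K⁆ = K ∧ p ∣ Nat.card ↥K ∧ ∀ H : Subgroup X, H ≤ K → H.IsSubnormal → ⁅H, H⁆ = H → p ∣ Nat.card ↥H → H = K :=
  ⟨hK.1, isPComponent_perfect p hK, isPComponent_dvd_card p hK,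
    fun H hHK hH hperf hdvd => isPComponent_eq_of_perfect p hK H hHK hH hperf hdvd⟩

end Cfsg.Agent.S1289
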