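import Mathlib
import Cfsg.Statements.S1292
import Cfsg.Agent.S1268
import Cfsg.Agent.Lib.Helper10.Components
import Cfsg.Agent.Lib.Helper12.Local
import Cfsg.Agent.Lib.Helper18.CharP
import Cfsg.Agent.Lib.Helper1.Fitting

set_option autoImplicit false
open Cfsg

namespace Cfsg.Agent.S1292
open Cfsg.Agent.Lib.Helper10 Cfsg.Agent.Lib.Helper9

theorem mem_cent_single {G : Type*} [Group G] {g k : G} :
    g ∈ Subgroup.centralizer ({k} : Set G) ↔ k * g = g * k := by
  rw [Subgroup.mem_centralizer_iff]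
  constructor
  · intro h; exact h k rfl
  · intro h y hy
    rw [Set.mem_singleton_iff] at hy
    rw [hy]; exact h

theorem fstar_of_centralizer {Y : Type*} [Group Y] [Finite Y] (t : Y) (ht : t ∈ pCore 2 Y)
    (h : generalizedFittingSubgroup ↥(Subgroup.centralizer ({t} : Set Y)) =
      pCore 2 ↥(Subgroup.centralizer ({t} : Set Y))) :
    generalizedFittingSubgroup Y = pCore 2 Y := by
  have hp2 : Fact (Nat.Prime 2) := ⟨Nat.prime_two⟩
  have h2grp : IsPGroup 2 ↥(generalizedFittingSubgroup ↥(Subgroup.centralizer ({t} : Set Y))) := by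
    rw [h]; exact Cfsg.Agent.Lib.Helper1.pCore_isPGroup 2
  have htF : t ∈ fittingSubgroup Y := Cfsg.Agent.Lib.Helper1.pCore_le_fittingSubgroup 2 ht
  have hlayer : layer Y = ⊥ := by
    rw [layer, sSup_eq_bot]
    intro L hL
    exfalso
    have hL' : IsComponent L := hL
    have hLC : L ≤ Subgroup.centralizer ({t} : Set Y) := by
      intro l hl
      have h1 : (⁅layer Y, fittingSubgroup Y⁆ : Subgroup Y) = ⊥ := commutator_layer_fitting
      rw [Subgroup.commutator_eq_bot_iff_le_centralizer] at h1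
      have h2 := h1 (component_le_layer hL' hl)
      rw [Subgroup.mem_centralizer_iff] at h2
      exact mem_cent_single.2 (h2 t htF)
    have hL'' := Cfsg.Agent.Lib.Helper10.isComponent_subgroupOf hL' hLC
    have h3 : L.subgroupOf (Subgroup.centralizer ({t} : Set Y)) ≤
        generalizedFittingSubgroup ↥(Subgroup.centralizer ({t} : Set Y)) :=
      (component_le_layer hL'').trans le_sup_left
    have h4 : IsPGroup 2 ↥(L.subgroupOf (Subgroup.centralizer ({t} : Set Y))) := h2grp.to_le h3
    have h5 : Group.IsNilpotent ↥(L.subgroupOf (Subgroup.centralizer ({t} : Set Y))) :=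
      h4.isNilpotent
    exact isComponent_not_isSolvable hL'' inferInstance
  have hodd : ∀ q : ℕ, q.Prime → q ≠ 2 → pCore q Y = ⊥ := by
    intro q hq hq2
    have hqf : Fact q.Prime := ⟨hq⟩
    have hOn : (pCore q Y).Normal := Cfsg.Agent.Lib.Helper1.pCore_normal q
    have hOp : IsPGroup q ↥(pCore q Y) := Cfsg.Agent.Lib.Helper1.pCore_isPGroup q
    have h2n : (pCore 2 Y).Normal := Cfsg.Agent.Lib.Helper1.pCore_normal 2
    have h2p : IsPGroup 2 ↥(pCore 2 Y) := Cfsg.Agent.Lib.Helper1.pCore_isPGroup 2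
    have hdis : Disjoint (pCore q Y) (pCore 2 Y) := IsPGroup.disjoint_of_ne q 2 hq2 _ _ hOp h2p
    have hOC : pCore q Y ≤ Subgroup.centralizer ({t} : Set Y) := by
      intro x hx
      have := Subgroup.commute_of_normal_of_disjoint _ _ hOn h2n hdis x t hx ht
      exact mem_cent_single.2 this.symm
    have hO'n : ((pCore q Y).subgroupOf (Subgroup.centralizer ({t} : Set Y))).Normal :=
      inferInstance
    have hO'p : IsPGroup q ↥((pCore q Y).subgroupOf (Subgroup.centralizer ({t} : Set Y))) :=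
      hOp.comap_of_injective _ (Subgroup.subtype_injective _)
    have h3 : (pCore q Y).subgroupOf (Subgroup.centralizer ({t} : Set Y)) ≤
        generalizedFittingSubgroup ↥(Subgroup.centralizer ({t} : Set Y)) :=
      (Cfsg.Agent.Lib.Helper1.le_fittingSubgroup hO'n hO'p.isNilpotent).trans le_sup_right
    have h4 : IsPGroup 2 ↥((pCore q Y).subgroupOf (Subgroup.centralizer ({t} : Set Y))) :=
      h2grp.to_le h3
    have h5 : Disjoint ((pCore q Y).subgroupOf (Subgroup.centralizer ({t} : Set Y)))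
        ((pCore q Y).subgroupOf (Subgroup.centralizer ({t} : Set Y))) :=
      IsPGroup.disjoint_of_ne q 2 hq2 _ _ hO'p h4
    rw [disjoint_self, Subgroup.subgroupOf_eq_bot] at h5
    exact (disjoint_of_le_iff_left_eq_bot hOC).1 h5
  have hF : fittingSubgroup Y = pCore 2 Y := by
    apply le_antisymm
    · rw [Cfsg.Agent.Lib.Helper1.fittingSubgroup_eq_iSup_pCore]
      apply iSup_le
      intro q
      by_cases hq : (q : ℕ) = 2
      · rw [hq]
      · rw [hodd q q.2 hq]; exact bot_le
    · exact Cfsg.Agent.Lib.Helper1.pCore_le_fittingSubgroup 2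
  rw [generalizedFittingSubgroup, hlayer, bot_sup_eq, hF]

theorem mem_normalizer_subgroupOf_iff {G : Type*} [Group G] (T C : Subgroup G) (hTC : T ≤ C)
    (g : G) (hg : g ∈ C) :
    (⟨g, hg⟩ : ↥C) ∈ Subgroup.normalizer ((T.subgroupOf C : Subgroup ↥C) : Set ↥C) ↔
      g ∈ Subgroup.normalizer (T : Set G) := by
  rw [Subgroup.mem_normalizer_iff, Subgroup.mem_normalizer_iff]
  constructor
  · intro h x
    constructor
    · intro hx
      exact (h ⟨x, hTC hx⟩).1 hx
    · intro hx
      have hxC : x ∈ C := by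
        have e : x = g⁻¹ * (g * x * g⁻¹) * g := by group
        rw [e]
        exact C.mul_mem (C.mul_mem (C.inv_mem hg) (hTC hx)) hg
      exact (h ⟨x, hxC⟩).2 hx
  · intro h x
    exact h (x : G)

theorem result {G : Type*} [Group G] [Finite G] (h : ∀ t : G, orderOf t = 2 → Cfsg.generalizedFittingSubgroup ↥(Subgroup.centralizer ({t} : Set G)) = Cfsg.pCore 2 ↥(Subgroup.centralizer ({t} : Set G))) (T : Subgroup G) (hT : IsPGroup 2 ↥T) (hT1 : T ≠ ⊥) : Cfsg.generalizedFittingSubgroup ↥(Subgroup.normalizer (T : Set G)) = Cfsg.pCore 2 ↥(Subgroup.normalizer (T : Set G)) := by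
  have hp2 : Fact (Nat.Prime 2) := ⟨Nat.prime_two⟩
  have hTnt : Nontrivial ↥T := (Subgroup.nontrivial_iff_ne_bot _).2 hT1
  have hZnt : Nontrivial ↥(Subgroup.center ↥T) := hT.center_nontrivial
  have hZp : IsPGroup 2 ↥(Subgroup.center ↥T) := hT.to_subgroup _
  have hdvd : 2 ∣ Nat.card ↥(Subgroup.center ↥T) := by
    obtain ⟨n, hn0, hn⟩ := hZp.nontrivial_iff_card.1 hZnt
    rw [hn]
    exact dvd_pow_self 2 hn0.ne'
  obtain ⟨z, hz⟩ := exists_prime_orderOf_dvd_card' 2 hdvd
  have ht : orderOf (((z : ↥T) : G)) = 2 := by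
    rw [Subgroup.orderOf_coe, Subgroup.orderOf_coe]; exact hz
  have htT : ((z : ↥T) : G) ∈ T := (z : ↥T).2
  have hTC : T ≤ Subgroup.centralizer ({((z : ↥T) : G)} : Set G) := by
    intro x hx
    have h1 := z.2
    rw [Subgroup.mem_center_iff] at h1
    have h2 := h1 ⟨x, hx⟩
    exact mem_cent_single.2 (congrArg Subtype.val h2).symm
  have hC := h _ ht
  have hT'p : IsPGroup 2 ↥(T.subgroupOf (Subgroup.centralizer ({((z : ↥T) : G)} : Set G))) :=
    hT.comap_of_injective _ (Subgroup.subtype_injective _)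
  have hJ := Cfsg.Agent.S1268.result 2 hC _ hT'p
  have htH : ((z : ↥T) : G) ∈ Subgroup.normalizer (T : Set G) := Subgroup.le_normalizer htT
  have ht'O : (⟨((z : ↥T) : G), htH⟩ : ↥(Subgroup.normalizer (T : Set G))) ∈
      pCore 2 ↥(Subgroup.normalizer (T : Set G)) := by
    have hn : (T.subgroupOf (Subgroup.normalizer (T : Set G))).Normal :=
      Subgroup.normal_in_normalizer
    have hpg : IsPGroup 2 ↥(T.subgroupOf (Subgroup.normalizer (T : Set G))) :=
      hT.comap_of_injective _ (Subgroup.subtype_injective _)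
    exact Cfsg.Agent.Lib.Helper1.le_pCore hn hpg (Subgroup.mem_subgroupOf.2 htT)
  apply fstar_of_centralizer _ ht'O
  let e : ↥(Subgroup.normalizer ((T.subgroupOf (Subgroup.centralizer ({((z : ↥T) : G)} : Set G)) :
        Subgroup ↥(Subgroup.centralizer ({((z : ↥T) : G)} : Set G))) :
        Set ↥(Subgroup.centralizer ({((z : ↥T) : G)} : Set G)))) ≃*
      ↥(Subgroup.centralizer ({(⟨((z : ↥T) : G), htH⟩ : ↥(Subgroup.normalizer (T : Set G)))} :
        Set ↥(Subgroup.normalizer (T : Set G)))) :=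
    { toFun := fun j => ⟨⟨((j : ↥(Subgroup.centralizer ({((z : ↥T) : G)} : Set G))) : G),
          (mem_normalizer_subgroupOf_iff T _ hTC _ (j : ↥(Subgroup.centralizer
            ({((z : ↥T) : G)} : Set G))).2).1 j.2⟩,
          mem_cent_single.2 (Subtype.ext (mem_cent_single.1 (j : ↥(Subgroup.centralizer
            ({((z : ↥T) : G)} : Set G))).2))⟩
      invFun := fun j => ⟨⟨((j : ↥(Subgroup.normalizer (T : Set G))) : G),
          mem_cent_single.2 (congrArg Subtype.val (mem_cent_single.1 j.2))⟩,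
          (mem_normalizer_subgroupOf_iff T _ hTC _ _).2
            (j : ↥(Subgroup.normalizer (T : Set G))).2⟩
      left_inv := fun j => rfl
      right_inv := fun j => rfl
      map_mul' := fun a b => rfl }
  rw [← Cfsg.Agent.Lib.Helper12.generalizedFittingSubgroup_map_mulEquiv e,
    ← Cfsg.Agent.Lib.Helper18.pCore_map_mulEquiv e, hJ]

end Cfsg.Agent.S1292
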