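import Mathlib
import Cfsg.Statements.S1293
import Cfsg.Agent.Lib.Helper10.PPrimeLocal
import Cfsg.Agent.Lib.Helper10.ExtLayer
import Cfsg.Agent.Lib.Helper22.Sylow
import Cfsg.Agent.S1278

set_option autoImplicit false
open Cfsg

namespace Cfsg.Agent.S1293
open Cfsg.Agent.Lib.Helper10 Cfsg.Agent.Lib.Helper9
open scoped commutatorElement

theorem commutator_pComponent_le {T : Type*} [Group T] [Finite T] (p : ℕ) [Fact p.Prime]
    {K : Subgroup T} (hK : IsPComponent p K) (D : Subgroup T) [hDn : D.Normal]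
    (hD : IsPGroup p ↥(D.map (QuotientGroup.mk' (pPrimeCore p T)))) :
    ⁅K, D⁆ ≤ pPrimeCore p T := by
  have hDbn : (D.map (QuotientGroup.mk' (pPrimeCore p T))).Normal :=
    hDn.map _ (QuotientGroup.mk'_surjective _)
  have h1 : D.map (QuotientGroup.mk' (pPrimeCore p T)) ≤ fittingSubgroup (T ⧸ pPrimeCore p T) :=
    (Cfsg.Agent.Lib.Helper1.le_pCore hDbn hD).trans
      (Cfsg.Agent.Lib.Helper1.pCore_le_fittingSubgroup p)
  have h2 : K.map (QuotientGroup.mk' (pPrimeCore p T)) ≤ layer (T ⧸ pPrimeCore p T) :=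
    component_le_layer hK.2.1
  have h3 : ⁅K.map (QuotientGroup.mk' (pPrimeCore p T)),
      D.map (QuotientGroup.mk' (pPrimeCore p T))⁆ = ⊥ := by
    rw [eq_bot_iff, ← commutator_layer_fitting (G := T ⧸ pPrimeCore p T)]
    exact Subgroup.commutator_mono h2 h1
  rwa [← Subgroup.map_commutator, map_mk'_eq_bot_iff] at h3

theorem part_b {G : Type*} [Group G] [Finite G] (p : ℕ) [Fact p.Prime]
    (hL : Cfsg.pLayer p G = ⊥) (P : Subgroup G) (hP : IsPGroup p ↥P) :
    coreOf p (Subgroup.normalizer (P : Set G)) ≤ pPrimeCore p G := by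
  have hYnorm : Subgroup.normalizer (P : Set G) ≤
      Subgroup.normalizer ((coreOf p (Subgroup.normalizer (P : Set G)) : Subgroup G) : Set G) :=
    Subgroup.le_normalizer.trans (coreOf_normalizer_le p _)
  have hYH : coreOf p (Subgroup.normalizer (P : Set G)) ≤ Subgroup.normalizer (P : Set G) :=
    coreOf_le p _
  have hYp := coreOf_card_coprime p (Subgroup.normalizer (P : Set G))
  apply le_pPrimeCore_of_centralizer p (centralizer_pCore_le_of_pLayer_eq_bot p hL) P _ hP ?_ hYp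
  · exact (Subgroup.centralizer_le_normalizer _).trans hYnorm
  · have h1 : ⁅coreOf p (Subgroup.normalizer (P : Set G)), P⁆ ≤
        coreOf p (Subgroup.normalizer (P : Set G)) ⊓ P :=
      Cfsg.Agent.S1278.commutator_le_inf_of_normalize _ _
        (Subgroup.le_normalizer.trans hYnorm) hYH
    have h2 : coreOf p (Subgroup.normalizer (P : Set G)) ⊓ P = ⊥ := by
      apply Subgroup.inf_eq_bot_of_coprime
      obtain ⟨k, hk⟩ := IsPGroup.iff_card.1 hP
      rw [hk]
      exact Nat.Coprime.pow_right _ hYp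
    rw [h2, le_bot_iff] at h1
    exact (Subgroup.commutator_eq_bot_iff_le_centralizer).1 h1

theorem no_pComponent {G : Type*} [Group G] [Finite G] (p : ℕ) [hp : Fact p.Prime]
    (hL : pLayer p G = ⊥) (P : Subgroup G) (hP : IsPGroup p ↥P) (H : Subgroup G)
    (hPH : P ≤ H) (hHN : H ≤ Subgroup.normalizer (P : Set G))
    (hCH : Subgroup.centralizer (P : Set G) ≤ H) (hb : coreOf p H ≤ pPrimeCore p G)
    (K : Subgroup ↥H) (hK : IsPComponent p K) : False := by
  have hcon := centralizer_pCore_le_of_pLayer_eq_bot p hL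
  have hNn : (pPrimeCore p G).Normal := Cfsg.Agent.Lib.Helper1.pPrimeCore_normal p
  have hNc : (Nat.card (pPrimeCore p G)).Coprime p :=
    Cfsg.Agent.Lib.Helper1.pPrimeCore_card_coprime p
  have hUn : (pCore p (G ⧸ pPrimeCore p G)).Normal := Cfsg.Agent.Lib.Helper1.pCore_normal p
  have hUp : IsPGroup p ↥(pCore p (G ⧸ pPrimeCore p G)) := Cfsg.Agent.Lib.Helper1.pCore_isPGroup p
  have hNTc : (Nat.card (pPrimeCore p ↥H)).Coprime p :=
    Cfsg.Agent.Lib.Helper1.pPrimeCore_card_coprime p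
  have hP'n : (P.subgroupOf H).Normal := (Subgroup.normal_subgroupOf_iff_le_normalizer hPH).2 hHN
  have hP'p : IsPGroup p ↥(P.subgroupOf H) :=
    hP.comap_of_injective _ (Subgroup.subtype_injective _)
  have hK1 : ⁅K, P.subgroupOf H⁆ ≤ pPrimeCore p ↥H :=
    commutator_pComponent_le p hK _ (hP'p.map _)
  have hK2 : ⁅K, P.subgroupOf H⁆ = ⊥ := by
    have h1 : ⁅K, P.subgroupOf H⁆ ≤ pPrimeCore p ↥H ⊓ P.subgroupOf H :=
      le_inf hK1 (Subgroup.commutator_le_right _ _)
    have h2 : pPrimeCore p ↥H ⊓ P.subgroupOf H = ⊥ := by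
      apply Subgroup.inf_eq_bot_of_coprime
      obtain ⟨k, hk⟩ := IsPGroup.iff_card.1 hP'p
      rw [hk]; exact Nat.Coprime.pow_right _ hNTc
    rwa [h2, le_bot_iff] at h1
  have hXP : ∀ k ∈ K, ∀ a ∈ P, (k : G) * a = a * (k : G) := by
    intro k hk a ha
    rw [Subgroup.commutator_eq_bot_iff_le_centralizer] at hK2
    have h1 := hK2 hk
    rw [Subgroup.mem_centralizer_iff] at h1
    have h2 := h1 ⟨a, hPH ha⟩ (by rw [SetLike.mem_coe, Subgroup.mem_subgroupOf]; exact ha)
    exact (congrArg Subtype.val h2).symm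
  have hDH : pPrimePCore p G ⊓ Subgroup.centralizer (P : Set G) ≤ H := inf_le_right.trans hCH
  have hRn : (pPrimePCore p G).Normal := pPrimePCore_normal p
  have hDnorm : H ≤ Subgroup.normalizer
      ((pPrimePCore p G ⊓ Subgroup.centralizer (P : Set G) : Subgroup G) : Set G) := by
    intro h hh
    have h1 : h ∈ Subgroup.normalizer ((Subgroup.centralizer (P : Set G) : Subgroup G) : Set G) :=
      normalizer_le_normalizer_centralizer P (hHN hh)
    rw [Subgroup.mem_normalizer_iff] at h1 ⊢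
    intro x
    rw [Subgroup.mem_inf, Subgroup.mem_inf, h1 x]
    constructor
    · rintro ⟨hx1, hx2⟩
      exact ⟨hRn.conj_mem x hx1 h, hx2⟩
    · rintro ⟨hx1, hx2⟩
      refine ⟨?_, hx2⟩
      have := hRn.conj_mem _ hx1 h⁻¹
      have e : h⁻¹ * (h * x * h⁻¹) * h⁻¹⁻¹ = x := by group
      rwa [e] at this
  have hD'n : ((pPrimePCore p G ⊓ Subgroup.centralizer (P : Set G)).subgroupOf H).Normal :=
    (Subgroup.normal_subgroupOf_iff_le_normalizer hDH).2 hDnorm
  have hN'n : ((pPrimeCore p G).subgroupOf H).Normal := inferInstance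
  have hE'le : ((pPrimePCore p G ⊓ Subgroup.centralizer (P : Set G)).subgroupOf H) ⊓
      ((pPrimeCore p G).subgroupOf H) ≤ pPrimeCore p ↥H := by
    apply Cfsg.Agent.Lib.Helper1.le_pPrimeCore inferInstance
    have h1 : Nat.card ↥(((pPrimePCore p G ⊓ Subgroup.centralizer (P : Set G)).subgroupOf H) ⊓
        ((pPrimeCore p G).subgroupOf H)) ∣ Nat.card (pPrimeCore p G) := by
      rw [← Subgroup.card_map_of_injective H.subtype_injective]
      apply Subgroup.card_dvd_of_le
      rintro _ ⟨x, hx, rfl⟩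
      exact (Subgroup.mem_inf.1 hx).2
    exact Nat.Coprime.coprime_dvd_left h1 hNc
  have hD'p : IsPGroup p ↥(((pPrimePCore p G ⊓ Subgroup.centralizer (P : Set G)).subgroupOf H).map
      (QuotientGroup.mk' (pPrimeCore p ↥H))) := by
    rintro ⟨_, ⟨d, hd, rfl⟩⟩
    have hdR : (d : G) ∈ pPrimePCore p G := (Subgroup.mem_inf.1 hd).1
    have hdU : (QuotientGroup.mk' (pPrimeCore p G)) (d : G) ∈ pCore p (G ⧸ pPrimeCore p G) := hdR
    obtain ⟨k, hk⟩ := hUp ⟨_, hdU⟩
    have hk' : ((QuotientGroup.mk' (pPrimeCore p G)) (d : G)) ^ (p ^ k) = 1 :=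
      congrArg Subtype.val hk
    have hdN : (d : G) ^ (p ^ k) ∈ pPrimeCore p G := by
      rw [← QuotientGroup.ker_mk' (pPrimeCore p G), MonoidHom.mem_ker, map_pow]; exact hk'
    refine ⟨k, ?_⟩
    apply Subtype.ext
    rw [Subgroup.coe_pow, Subgroup.coe_one, ← map_pow, ← MonoidHom.mem_ker, QuotientGroup.ker_mk']
    apply hE'le
    refine Subgroup.mem_inf.2 ⟨Subgroup.pow_mem _ hd _, ?_⟩
    rw [Subgroup.mem_subgroupOf, Subgroup.coe_pow]; exact hdN
  have hK3 : ⁅K, (pPrimePCore p G ⊓ Subgroup.centralizer (P : Set G)).subgroupOf H⁆ ≤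
      pPrimeCore p ↥H := commutator_pComponent_le p hK _ hD'p
  have hXD : ∀ k ∈ K, ∀ x ∈ pPrimePCore p G ⊓ Subgroup.centralizer (P : Set G),
      (QuotientGroup.mk' (pPrimeCore p G)) (k : G) * (QuotientGroup.mk' (pPrimeCore p G)) x =
      (QuotientGroup.mk' (pPrimeCore p G)) x * (QuotientGroup.mk' (pPrimeCore p G)) (k : G) := by
    intro k hk x hx
    have h1 : ⁅k, (⟨x, hDH hx⟩ : ↥H)⁆ ∈ pPrimeCore p ↥H :=
      hK3 (Subgroup.commutator_mem_commutator hk (Subgroup.mem_subgroupOf.2 hx))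
    have h2 : ((⁅k, (⟨x, hDH hx⟩ : ↥H)⁆ : ↥H) : G) ∈ pPrimeCore p G := hb ⟨_, h1, rfl⟩
    have h3 : (QuotientGroup.mk' (pPrimeCore p G)) ((k : G) * x * (k : G)⁻¹ * x⁻¹) = 1 := by
      rw [← MonoidHom.mem_ker, QuotientGroup.ker_mk']
      simpa [commutatorElement_def] using h2
    rw [map_mul, map_mul, map_mul, map_inv, map_inv] at h3
    generalize (QuotientGroup.mk' (pPrimeCore p G)) (k : G) = u' at h3 ⊢
    generalize (QuotientGroup.mk' (pPrimeCore p G)) x = y' at h3 ⊢
    calc u' * y' = (u' * y' * u'⁻¹ * y'⁻¹) * (y' * u') := by group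
      _ = y' * u' := by rw [h3, one_mul]
  have hPN : (Nat.card P).Coprime (Nat.card (pPrimeCore p G)) := by
    obtain ⟨k, hk⟩ := IsPGroup.iff_card.1 hP
    rw [hk]
    exact Nat.Coprime.pow_left _ hNc.symm
  have hPsolv : Group.IsSolvable ↥P := by
    have : Group.IsNilpotent ↥P := hP.isNilpotent
    infer_instance
  have hAD : P ≤ Subgroup.normalizer ((pPrimeCore p G : Subgroup G) : Set G) := by
    rw [Subgroup.normalizer_eq_top_iff.2 hNn]; exact le_top
  have hXbar : IsPGroup p ↥((K.map H.subtype).map (QuotientGroup.mk' (pPrimeCore p G))) := by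
    rintro ⟨g, hg⟩
    obtain ⟨a, b, hab, _, ⟨j, hj⟩, hbcop, _, hbz⟩ := Cfsg.Agent.Lib.Helper22.exists_p_decomp p g
    have hbX : b ∈ (K.map H.subtype).map (QuotientGroup.mk' (pPrimeCore p G)) :=
      (Subgroup.zpowers_le.2 hg) hbz
    have hzle : Subgroup.zpowers b ≤ (K.map H.subtype).map (QuotientGroup.mk' (pPrimeCore p G)) :=
      Subgroup.zpowers_le.2 hbX
    have key := Cfsg.Agent.S0028.result p (P.map (QuotientGroup.mk' (pPrimeCore p G)))
      (Subgroup.zpowers b) (pCore p (G ⧸ pPrimeCore p G)) (hP.map _)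
      (by rw [Nat.card_zpowers]; exact hbcop) hUp ?_ ?_ ?_ ?_
    · have hbU : b ∈ pCore p (G ⧸ pPrimeCore p G) := hcon (key (Subgroup.mem_zpowers b))
      obtain ⟨i, hi⟩ := hUp ⟨b, hbU⟩
      have hi' : b ^ (p ^ i) = 1 := congrArg Subtype.val hi
      have hb1 : orderOf b = 1 := by
        have h1 : orderOf b ∣ p ^ i := orderOf_dvd_of_pow_eq_one hi'
        exact Nat.Coprime.eq_one_of_dvd (Nat.Coprime.pow_right _ hbcop) h1
      rw [orderOf_eq_one_iff] at hb1
      refine ⟨j, ?_⟩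
      apply Subtype.ext
      rw [Subgroup.coe_pow, Subgroup.coe_one]
      change g ^ (p ^ j) = 1
      rw [hab, hb1, mul_one, ← hj, pow_orderOf_eq_one]
    · refine le_trans ?_ (Subgroup.centralizer_le hzle)
      rintro _ ⟨a', ha', rfl⟩
      rw [Subgroup.mem_centralizer_iff]
      rintro _ ⟨_, ⟨k, hk, rfl⟩, rfl⟩
      rw [← map_mul, ← map_mul]
      congr 1
      exact hXP k hk a' ha'
    · rw [Subgroup.normalizer_eq_top_iff.2 hUn]; exact le_top
    · rw [Subgroup.normalizer_eq_top_iff.2 hUn]; exact le_top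
    · refine le_trans ?_ (Subgroup.centralizer_le hzle)
      intro u hu
      obtain ⟨huU, huC⟩ := Subgroup.mem_inf.1 hu
      rw [Subgroup.mem_centralizer_iff] at huC
      obtain ⟨x₀, rfl⟩ := QuotientGroup.mk'_surjective (pPrimeCore p G) u
      obtain ⟨d, hd, hxd⟩ := Cfsg.Agent.Lib.Lead.coset_fixed P (pPrimeCore p G) hAD hPN
        (Or.inl hPsolv) x₀ (by
          intro a ha
          rw [← QuotientGroup.ker_mk' (pPrimeCore p G), MonoidHom.mem_ker]
          have h1 := huC _ (Subgroup.mem_map_of_mem (QuotientGroup.mk' (pPrimeCore p G)) ha)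
          rw [map_mul, map_mul, map_mul, map_inv, map_inv, h1]
          group)
      have hxeq : (QuotientGroup.mk' (pPrimeCore p G)) (x₀ * d) =
          (QuotientGroup.mk' (pPrimeCore p G)) x₀ := by
        rw [map_mul]
        have : (QuotientGroup.mk' (pPrimeCore p G)) d = 1 := by
          rw [← MonoidHom.mem_ker, QuotientGroup.ker_mk']; exact hd
        rw [this, mul_one]
      have hxD : x₀ * d ∈ pPrimePCore p G ⊓ Subgroup.centralizer (P : Set G) := by
        refine Subgroup.mem_inf.2 ⟨?_, hxd⟩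
        change (QuotientGroup.mk' (pPrimeCore p G)) (x₀ * d) ∈ pCore p (G ⧸ pPrimeCore p G)
        rw [hxeq]; exact huU
      rw [Subgroup.mem_centralizer_iff]
      rintro _ ⟨_, ⟨k, hk, rfl⟩, rfl⟩
      rw [← hxeq]
      exact hXD k hk _ hxD
  have hXperf : ⁅(K.map H.subtype).map (QuotientGroup.mk' (pPrimeCore p G)),
      (K.map H.subtype).map (QuotientGroup.mk' (pPrimeCore p G))⁆ =
      (K.map H.subtype).map (QuotientGroup.mk' (pPrimeCore p G)) := by
    rw [← Subgroup.map_commutator, ← Subgroup.map_commutator, isPComponent_perfect p hK]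
  have hXbot : (K.map H.subtype).map (QuotientGroup.mk' (pPrimeCore p G)) = ⊥ := by
    by_contra hne
    have h1 : Nontrivial ↥((K.map H.subtype).map (QuotientGroup.mk' (pPrimeCore p G))) :=
      (Subgroup.nontrivial_iff_ne_bot _).2 hne
    have h2 : Group.IsPerfect ↥((K.map H.subtype).map (QuotientGroup.mk' (pPrimeCore p G))) :=
      Subgroup.isPerfect_iff.2 hXperf
    have h3 : Group.IsNilpotent ↥((K.map H.subtype).map (QuotientGroup.mk' (pPrimeCore p G))) :=
      hXbar.isNilpotent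
    have h4 : Group.IsSolvable ↥((K.map H.subtype).map (QuotientGroup.mk' (pPrimeCore p G))) :=
      inferInstance
    exact Group.IsPerfect.not_isSolvable
      ↥((K.map H.subtype).map (QuotientGroup.mk' (pPrimeCore p G))) h4
  have hXN : K.map H.subtype ≤ pPrimeCore p G := (map_mk'_eq_bot_iff _ _).1 hXbot
  have hdvd := isPComponent_dvd_card p hK
  have hcd : Nat.card K ∣ Nat.card (pPrimeCore p G) := by
    rw [← Subgroup.card_map_of_injective H.subtype_injective]
    exact Subgroup.card_dvd_of_le hXN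
  exact absurd (Nat.Coprime.eq_one_of_dvd hNc.symm (hdvd.trans hcd)) hp.out.one_lt.ne'

theorem result {G : Type*} [Group G] [Finite G] (p : ℕ) [Fact p.Prime] (hL : Cfsg.pLayer p G = ⊥) (P : Subgroup G) (hP : IsPGroup p ↥P) (hP1 : P ≠ ⊥) : Cfsg.pLayer p ↥(Subgroup.normalizer (P : Set G)) = ⊥ ∧ (Cfsg.pPrimeCore p ↥(Subgroup.normalizer (P : Set G))).map (Subgroup.normalizer (P : Set G)).subtype ≤ Cfsg.pPrimeCore p G := by
  have hb := part_b p hL P hP
  refine ⟨?_, hb⟩
  rw [pLayer, sSup_eq_bot]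
  intro K hK
  exact (no_pComponent p hL P hP _ Subgroup.le_normalizer le_rfl
    (Subgroup.centralizer_le_normalizer _) hb K hK).elim

end Cfsg.Agent.S1293
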