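import Cfsg.Statements.S1297
import Cfsg.Agent.S1271
import Cfsg.Agent.Lib.Helper10.Automizer
import Cfsg.Agent.Lib.Lead.Coprime

set_option autoImplicit false
open Cfsg

namespace Cfsg.Agent.S1297

open Cfsg.Agent.Lib.Helper10 Cfsg.Agent.Lib.Helper9
open scoped commutatorElement

theorem conj_aux {M : Type*} [Group M] (u v : M) (h : u * v = v * u) :
    u⁻¹ * (v * u * v⁻¹) = 1 := by
  rw [← h, mul_inv_cancel_right, inv_mul_cancel]

theorem balancedFor_of_locallyBalanced {X : Type*} [Group X] [Finite X]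
    (hO : pPrimeCore 2 X = ⊥)
    (h : ∀ K : Subgroup X, IsComponent K → IsLocallyBalanced (↥K ⧸ Subgroup.center ↥K)) :
    IsBalancedFor 2 X := by
  have : Fact (Nat.Prime 2) := ⟨Nat.prime_two⟩
  apply Cfsg.Agent.S1271.result 2 hO
  intro L hL H hLH hLn inst
  have hHN : H ≤ Subgroup.normalizer (L : Set X) :=
    (Subgroup.normal_subgroupOf_iff_le_normalizer hLH).1 hLn
  exact isBalancedFor_automizer_of_locallyBalanced L H hHN hLH (isComponent_commutator_self hL)
    (h L hL)

theorem half {G : Type*} [Group G] [Finite G]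
    (h : ∀ x : G, orderOf x = 2 → ∀ K : Subgroup (↥(Subgroup.centralizer ({x} : Set G)) ⧸
      Cfsg.oddCore ↥(Subgroup.centralizer ({x} : Set G))), Cfsg.IsComponent K →
        Cfsg.IsLocallyBalanced (↥K ⧸ Subgroup.center ↥K))
    (x y : G) (hx : orderOf x = 2) (hy : orderOf y = 2) (hxy : x * y = y * x) :
    centralizerPPrimeCore 2 x ⊓ Subgroup.centralizer ({y} : Set G) ≤ centralizerPPrimeCore 2 y := by
  have : Fact (Nat.Prime 2) := ⟨Nat.prime_two⟩
  have hQ : pPrimeCore 2 (↥(Subgroup.centralizer ({y} : Set G)) ⧸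
      Cfsg.oddCore ↥(Subgroup.centralizer ({y} : Set G))) = ⊥ := pPrimeCore_quotient_eq_bot 2
  have hbalQ := balancedFor_of_locallyBalanced hQ (h y hy)
  have hxC : x ∈ Subgroup.centralizer ({y} : Set G) := by
    rw [Subgroup.mem_centralizer_iff]
    intro z hz
    rw [Set.mem_singleton_iff] at hz
    subst hz
    exact hxy.symm
  have hOc : (Nat.card ↥(Cfsg.oddCore ↥(Subgroup.centralizer ({y} : Set G)))).Coprime 2 :=
    Cfsg.Agent.Lib.Helper1.pPrimeCore_card_coprime 2
  have hx2 : x ^ 2 = 1 := by rw [← hx]; exact pow_orderOf_eq_one x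
  have hx'ord : orderOf (⟨x, hxC⟩ : ↥(Subgroup.centralizer ({y} : Set G))) = 2 := by
    rw [← hx]; exact Subgroup.orderOf_mk x hxC
  have hord : orderOf (QuotientGroup.mk' (Cfsg.oddCore ↥(Subgroup.centralizer ({y} : Set G)))
      (⟨x, hxC⟩ : ↥(Subgroup.centralizer ({y} : Set G)))) = 2 := by
    apply orderOf_eq_prime
    · rw [← map_pow]
      have : (⟨x, hxC⟩ : ↥(Subgroup.centralizer ({y} : Set G))) ^ 2 = 1 :=
        Subtype.ext (by simpa using hx2)
      rw [this, map_one]
    · intro h1
      rw [← MonoidHom.mem_ker, QuotientGroup.ker_mk'] at h1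
      have h2 := Subgroup.orderOf_dvd_natCard _ h1
      rw [hx'ord] at h2
      have h3 : (2 : ℕ) ∣ Nat.gcd (Nat.card ↥(Cfsg.oddCore ↥(Subgroup.centralizer ({y} : Set G)))) 2 :=
        Nat.dvd_gcd h2 dvd_rfl
      rw [hOc] at h3
      omega
  have hb := hbalQ _ hord
  rw [hQ] at hb
  have hDx : centralizerPPrimeCore 2 x ≤ Subgroup.centralizer ({x} : Set G) := coreOf_le 2 _
  have hDc : (Nat.card ↥(centralizerPPrimeCore 2 x)).Coprime 2 := coreOf_card_coprime 2 _
  have hOn : (Cfsg.oddCore ↥(Subgroup.centralizer ({y} : Set G))).Normal :=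
    Cfsg.Agent.Lib.Helper1.pPrimeCore_normal 2
  have hmap := map_le_centralizerPPrimeCore_of_exists 2
    (Cfsg.oddCore ↥(Subgroup.centralizer ({y} : Set G)))
    (⟨x, hxC⟩ : ↥(Subgroup.centralizer ({y} : Set G)))
    ((centralizerPPrimeCore 2 x ⊓ Subgroup.centralizer ({y} : Set G)).subgroupOf
      (Subgroup.centralizer ({y} : Set G)))
    (by
      intro n hn
      rw [Subgroup.mem_subgroupOf] at hn
      have h1 := hDx hn.1
      rw [Subgroup.mem_centralizer_iff] at h1 ⊢
      intro z hz
      rw [Set.mem_singleton_iff] at hz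
      subst hz
      exact Subtype.ext (h1 x rfl))
    (by
      rw [Nat.card_congr (Subgroup.subgroupOfEquivOfLe
        (inf_le_right : centralizerPPrimeCore 2 x ⊓ Subgroup.centralizer ({y} : Set G) ≤ _)).toEquiv]
      exact Nat.Coprime.coprime_dvd_left (Subgroup.card_dvd_of_le inf_le_left) hDc)
    (by
      intro y' hy'
      have hcomm : Commute (QuotientGroup.mk' (Cfsg.oddCore ↥(Subgroup.centralizer ({y} : Set G))) y')
          (QuotientGroup.mk' (Cfsg.oddCore ↥(Subgroup.centralizer ({y} : Set G)))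
            (⟨x, hxC⟩ : ↥(Subgroup.centralizer ({y} : Set G)))) := by
        rw [← QuotientGroup.ker_mk' (Cfsg.oddCore ↥(Subgroup.centralizer ({y} : Set G))),
          MonoidHom.mem_ker, commutatorElement_def, map_mul, map_mul, map_mul, map_inv, map_inv,
          mul_inv_eq_one, mul_inv_eq_iff_eq_mul] at hy'
        exact hy'
      have hA : Subgroup.zpowers (⟨x, hxC⟩ : ↥(Subgroup.centralizer ({y} : Set G))) ≤
          Subgroup.normalizer ((Cfsg.oddCore ↥(Subgroup.centralizer ({y} : Set G)) :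
            Subgroup ↥(Subgroup.centralizer ({y} : Set G))) : Set _) := by
        rw [Subgroup.normalizer_eq_top]; exact le_top
      have hcop : (Nat.card ↥(Subgroup.zpowers
          (⟨x, hxC⟩ : ↥(Subgroup.centralizer ({y} : Set G))))).Coprime
          (Nat.card ↥(Cfsg.oddCore ↥(Subgroup.centralizer ({y} : Set G)))) := by
        rw [Nat.card_zpowers, hx'ord]; exact hOc.symm
      obtain ⟨d, hd, hyd⟩ := Cfsg.Agent.Lib.Lead.coset_fixed
        (Subgroup.zpowers (⟨x, hxC⟩ : ↥(Subgroup.centralizer ({y} : Set G))))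
        (Cfsg.oddCore ↥(Subgroup.centralizer ({y} : Set G))) hA hcop (Or.inl inferInstance) y'
        (by
          intro a ha
          obtain ⟨k, rfl⟩ := Subgroup.mem_zpowers_iff.1 ha
          rw [← QuotientGroup.ker_mk' (Cfsg.oddCore ↥(Subgroup.centralizer ({y} : Set G))),
            MonoidHom.mem_ker, map_mul, map_mul, map_mul, map_inv, map_inv, map_zpow]
          have h2 := (hcomm.zpow_right k).eq
          exact conj_aux _ _ h2)
      refine ⟨d, hd, ?_⟩
      have hcx : (y' * d) * (⟨x, hxC⟩ : ↥(Subgroup.centralizer ({y} : Set G))) =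
          (⟨x, hxC⟩ : ↥(Subgroup.centralizer ({y} : Set G))) * (y' * d) := by
        rw [Subgroup.mem_centralizer_iff] at hyd
        exact (hyd _ (Subgroup.mem_zpowers _)).symm
      have hcx' : ((y' * d : ↥(Subgroup.centralizer ({y} : Set G))) : G) ∈
          Subgroup.centralizer ({x} : Set G) := by
        rw [Subgroup.mem_centralizer_iff]
        intro z hz
        rw [Set.mem_singleton_iff] at hz
        subst hz
        exact (congrArg Subtype.val hcx).symm
      have hn1 : ((y' * d : ↥(Subgroup.centralizer ({y} : Set G))) : G) ∈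
          Subgroup.normalizer ((centralizerPPrimeCore 2 x : Subgroup G) : Set G) :=
        Cfsg.Agent.S1271.centralizer_le_normalizer_core 2 x hcx'
      have hn2 : ((y' * d : ↥(Subgroup.centralizer ({y} : Set G))) : G) ∈
          Subgroup.normalizer ((Subgroup.centralizer ({y} : Set G) : Subgroup G) : Set G) :=
        Subgroup.le_normalizer (y' * d).2
      have hn3 := normalizer_inf_le _ _ (Subgroup.mem_inf.2 ⟨hn1, hn2⟩)
      exact Subgroup.le_normalizer_comap (Subgroup.centralizer ({y} : Set G)).subtype hn3)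
  have hle := hmap.trans hb
  intro d hd
  have hdC : d ∈ Subgroup.centralizer ({y} : Set G) := (Subgroup.mem_inf.1 hd).2
  have h1 : QuotientGroup.mk' (Cfsg.oddCore ↥(Subgroup.centralizer ({y} : Set G)))
      (⟨d, hdC⟩ : ↥(Subgroup.centralizer ({y} : Set G))) ∈
      (⊥ : Subgroup (↥(Subgroup.centralizer ({y} : Set G)) ⧸
        Cfsg.oddCore ↥(Subgroup.centralizer ({y} : Set G)))) :=
    hle ⟨_, Subgroup.mem_subgroupOf.2 hd, rfl⟩
  rw [Subgroup.mem_bot, ← MonoidHom.mem_ker, QuotientGroup.ker_mk'] at h1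
  exact ⟨_, h1, rfl⟩

/-- Let G be finite. Suppose that for every involution x, writing C = C_G(x), every component K of C / O(C) has K / Z(K) locally balanced. Then G is balanced. -/
theorem result {G : Type*} [Group G] [Finite G] (h : ∀ x : G, orderOf x = 2 → ∀ K : Subgroup (↥(Subgroup.centralizer ({x} : Set G)) ⧸ Cfsg.oddCore ↥(Subgroup.centralizer ({x} : Set G))), Cfsg.IsComponent K → Cfsg.IsLocallyBalanced (↥K ⧸ Subgroup.center ↥K)) : Cfsg.IsBalanced G := by
  intro x y hx hy hxy
  apply le_antisymm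
  · exact le_inf (half h x y hx hy hxy) (inf_le_left.trans (coreOf_le 2 _))
  · exact le_inf (half h y x hy hx hxy.symm) (inf_le_left.trans (coreOf_le 2 _))

end Cfsg.Agent.S1297
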