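import Cfsg.Statements.S1298
import Cfsg.Agent.Lib.Helper10.Automizer2

set_option autoImplicit false
open Cfsg

namespace Cfsg.Agent.S1298

open Cfsg.Agent.Lib.Helper10 Cfsg.Agent.Lib.Helper9
open scoped commutatorElement

/-- Let G be finite and k ≥ 1. Suppose that for every x of order p, writing C = C_G(x), every component K of C / O_{p'}(C) has K / Z(K) locally k-balanced for p. Then G is k-balanced for p. -/
theorem result {G : Type*} [Group G] [Finite G] (p k : ℕ) [Fact p.Prime] (hk : 1 ≤ k) (h : ∀ x : G, orderOf x = p → ∀ K : Subgroup (↥(Subgroup.centralizer ({x} : Set G)) ⧸ Cfsg.pPrimeCore p ↥(Subgroup.centralizer ({x} : Set G))), Cfsg.IsComponent K → Cfsg.IsLocallyKBalanced p k (↥K ⧸ Subgroup.center ↥K)) : Cfsg.IsKBalanced p k G := by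
  intro A hA hcard b hb hAb
  have hp : p.Prime := Fact.out
  have hQ : pPrimeCore p (↥(Subgroup.centralizer ({b} : Set G)) ⧸
      Cfsg.pPrimeCore p ↥(Subgroup.centralizer ({b} : Set G))) = ⊥ := pPrimeCore_quotient_eq_bot p
  have hOc : (Nat.card ↥(Cfsg.pPrimeCore p ↥(Subgroup.centralizer ({b} : Set G)))).Coprime p :=
    Cfsg.Agent.Lib.Helper1.pPrimeCore_card_coprime p
  have hAC : A ≤ Subgroup.centralizer ({b} : Set G) := by
    intro a ha
    rw [Subgroup.mem_centralizer_iff]
    intro z hz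
    rw [Set.mem_singleton_iff] at hz
    subst hz
    exact (hAb a ha).symm
  have hAcomm : ∀ a ∈ A, ∀ c ∈ A, a * c = c * a := fun a ha c hc =>
    congrArg Subtype.val (hA.1.is_comm.comm ⟨a, ha⟩ ⟨c, hc⟩)
  have hAbar : IsElementaryAbelian p ((A.subgroupOf (Subgroup.centralizer ({b} : Set G))).map
      (QuotientGroup.mk' (Cfsg.pPrimeCore p ↥(Subgroup.centralizer ({b} : Set G))))) := by
    apply isElementaryAbelian_map
    refine ⟨⟨⟨?_⟩⟩, ?_⟩
    · rintro ⟨a, ha⟩ ⟨c, hc⟩
      apply Subtype.ext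
      apply Subtype.ext
      exact hAcomm _ (Subgroup.mem_subgroupOf.1 ha) _ (Subgroup.mem_subgroupOf.1 hc)
    · intro a ha
      apply Subtype.ext
      have := hA.2 _ (Subgroup.mem_subgroupOf.1 ha)
      simpa using this
  have hcardbar : Nat.card ↥((A.subgroupOf (Subgroup.centralizer ({b} : Set G))).map
      (QuotientGroup.mk' (Cfsg.pPrimeCore p ↥(Subgroup.centralizer ({b} : Set G))))) = p ^ k := by
    rw [card_map_of_inf_ker_eq_bot, Nat.card_congr (Subgroup.subgroupOfEquivOfLe hAC).toEquiv,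
      hcard]
    rw [QuotientGroup.ker_mk', eq_bot_iff]
    intro a ha
    rw [Subgroup.mem_inf, Subgroup.mem_subgroupOf] at ha
    rw [Subgroup.mem_bot]
    have h1 : a ^ p = 1 := Subtype.ext (by simpa using hA.2 _ ha.2)
    have h2 : orderOf a ∣ p := orderOf_dvd_of_pow_eq_one h1
    have h3 : orderOf a ∣ Nat.card ↥(Cfsg.pPrimeCore p ↥(Subgroup.centralizer ({b} : Set G))) :=
      Subgroup.orderOf_dvd_natCard _ ha.1
    have h4 : orderOf a ∣ Nat.gcd
        (Nat.card ↥(Cfsg.pPrimeCore p ↥(Subgroup.centralizer ({b} : Set G)))) p :=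
      Nat.dvd_gcd h3 h2
    rw [hOc, Nat.dvd_one, orderOf_eq_one_iff] at h4
    exact h4
  have hΔ := delta_eq_bot_of_locallyKBalanced p k hk hQ (h b hb) _ hAbar hcardbar
  intro w hw
  have hwC : w ∈ Subgroup.centralizer ({b} : Set G) := (Subgroup.mem_inf.1 hw).2
  have hwΔ : w ∈ signalizerDelta p A := (Subgroup.mem_inf.1 hw).1
  have h1 : QuotientGroup.mk' (Cfsg.pPrimeCore p ↥(Subgroup.centralizer ({b} : Set G)))
      (⟨w, hwC⟩ : ↥(Subgroup.centralizer ({b} : Set G))) ∈
      signalizerDelta p ((A.subgroupOf (Subgroup.centralizer ({b} : Set G))).map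
        (QuotientGroup.mk' (Cfsg.pPrimeCore p ↥(Subgroup.centralizer ({b} : Set G))))) := by
    rw [mem_signalizerDelta]
    rintro _ ⟨a, ha, rfl⟩ hne
    have haA : (a : G) ∈ A := Subgroup.mem_subgroupOf.1 ha
    have ha1 : (a : G) ≠ 1 := by
      intro h1
      apply hne
      have : a = 1 := Subtype.ext h1
      rw [this]; exact map_one _
    have hord : orderOf (a : G) = p := orderOf_eq_prime (hA.2 _ haA) ha1
    exact core_inf_image_le p (a : G) b hord a.2 w hwC
      ((mem_signalizerDelta p A w).1 hwΔ _ haA ha1)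
  rw [hΔ, Subgroup.mem_bot, ← MonoidHom.mem_ker, QuotientGroup.ker_mk'] at h1
  exact ⟨_, h1, rfl⟩

end Cfsg.Agent.S1298
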