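import Cfsg.Statements.S1299
import Cfsg.Agent.Lib.Helper13.KBalance4

set_option autoImplicit false
open Cfsg

namespace Cfsg.Agent.S1299

open Cfsg.Agent.Lib.Helper13 Cfsg.Agent.Lib.Helper10

theorem exists_sub_card {G : Type*} [Group G] [Finite G] {p k : ℕ} [hp : Fact p.Prime]
    {A B : Subgroup G} (hA : Cfsg.IsElementaryAbelian p A) (hBA : B ≤ A)
    (hBk : p ^ k ≤ Nat.card ↥B) : ∃ D : Subgroup G, D ≤ B ∧ Nat.card ↥D = p ^ k := by
  obtain ⟨j, hj⟩ := ((elemAb_isPGroup p hA).to_le hBA).exists_card_eq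
  have hkj : k ≤ j := by
    rw [hj] at hBk
    exact (Nat.pow_le_pow_iff_right hp.out.one_lt).mp hBk
  have hdvd : p ^ k ∣ Nat.card ↥B := by
    rw [hj]
    exact pow_dvd_pow p hkj
  obtain ⟨K, hK⟩ := Sylow.exists_subgroup_card_pow_prime p hdvd
  refine ⟨K.map B.subtype, Subgroup.map_subtype_le K, ?_⟩
  rw [Subgroup.card_map_of_injective B.subtype_injective]
  exact hK

/-- Let G be finite and k-balanced for the prime p (k ≥ 1), A an elementary abelian p-subgroup of order at least p^(k+2) such that O_{p'}(C_G(a)) is solvable for every non-identity a ∈ A. For a ∈ A put θ a = the subgroup generated by the Δ_G(D) ∩ C_G(a) over the subgroups D ≤ A of order p^k. Then θ is an A-signalizer functor. -/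
theorem result {G : Type*} [Group G] [Finite G] (p k : ℕ) [Fact p.Prime] (hk : 1 ≤ k) (hbal : Cfsg.IsKBalanced p k G) (A : Subgroup G) (hA : Cfsg.IsElementaryAbelian p A) (hAk : p ^ (k + 2) ≤ Nat.card ↥A) (hsolv : ∀ a ∈ A, a ≠ 1 → Group.IsSolvable ↥(Cfsg.centralizerPPrimeCore p a)) : Cfsg.IsSignalizerFunctor p A (fun a => ⨆ D : {D : Subgroup G // D ≤ A ∧ Nat.card ↥D = p ^ k}, Cfsg.signalizerDelta p (D : Subgroup G) ⊓ Subgroup.centralizer {a}) := by
  have hwrt : Cfsg.IsKBalancedWrt p k A := by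
    intro B hBA hBe hBk a ha ha1
    obtain ⟨D, hDB, hDk⟩ := exists_sub_card hA hBA hBk
    have hDA : D ≤ A := le_trans hDB hBA
    have h1 := hbal D (elemAb_mono p hA hDA) hDk a (elemAb_orderOf p hA ha ha1)
      (fun d hd => elemAb_commute p hA (hDA hd) ha)
    exact le_trans (inf_le_inf_right _ (sigDelta_anti p hDB)) h1
  have heq : (fun a => ⨆ D : {D : Subgroup G // D ≤ A ∧ Nat.card ↥D = p ^ k},
      Cfsg.signalizerDelta p (D : Subgroup G) ⊓ Subgroup.centralizer {a}) =
      Cfsg.kBalancedTheta p k A := by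
    funext a
    unfold kBalancedTheta
    apply le_antisymm
    · refine iSup_le fun D => ?_
      exact le_iSup (fun B : {B : Subgroup G // B ≤ A ∧ Cfsg.IsElementaryAbelian p B ∧
          p ^ k ≤ Nat.card ↥B} => Cfsg.signalizerDelta p (B : Subgroup G) ⊓
            Subgroup.centralizer {a}) ⟨D.1, D.2.1, elemAb_mono p hA D.2.1, D.2.2.ge⟩
    · refine iSup_le fun B => ?_
      obtain ⟨D, hDB, hDk⟩ := exists_sub_card hA B.2.1 B.2.2.2
      refine le_trans (inf_le_inf_right _ (sigDelta_anti p hDB)) ?_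
      exact le_iSup (fun D : {D : Subgroup G // D ≤ A ∧ Nat.card ↥D = p ^ k} =>
        Cfsg.signalizerDelta p (D : Subgroup G) ⊓ Subgroup.centralizer {a})
        ⟨D, le_trans hDB B.2.1, hDk⟩
  rw [heq]
  exact kbal_isSignalizerFunctor hA hAk hwrt hsolv

end Cfsg.Agent.S1299
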