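import Mathlib
import Cfsg.Statements.S1300

set_option autoImplicit false
open Cfsg

namespace Cfsg.Agent.S1300

lemma core_le_centralizer {G : Type*} [Group G] (p : ℕ) (x : G) :
    centralizerPPrimeCore p x ≤ Subgroup.centralizer ({x} : Set G) := by
  unfold centralizerPPrimeCore
  intro g hg
  rw [Subgroup.mem_map] at hg
  obtain ⟨y, _, rfl⟩ := hg
  exact y.2

lemma half {G : Type*} [Group G] (h : IsKBalanced 2 1 G) (x y : G) (hx : orderOf x = 2)
    (hy : orderOf y = 2) (hxy : x * y = y * x) :
    centralizerPPrimeCore 2 x ⊓ Subgroup.centralizer {y} ≤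
      centralizerPPrimeCore 2 y ⊓ Subgroup.centralizer {x} := by
  have hA : IsElementaryAbelian 2 (Subgroup.zpowers x) := by
    refine ⟨inferInstance, ?_⟩
    intro a ha
    obtain ⟨k, rfl⟩ := Subgroup.mem_zpowers_iff.mp ha
    have : x ^ 2 = 1 := by rw [← hx]; exact pow_orderOf_eq_one x
    rw [← zpow_natCast, ← zpow_mul, mul_comm, zpow_mul, zpow_natCast, this, one_zpow]
  have hcard : Nat.card (Subgroup.zpowers x) = 2 ^ 1 := by
    rw [Nat.card_zpowers, hx]; rfl
  have hcomm : ∀ a ∈ Subgroup.zpowers x, a * y = y * a := by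
    intro a ha
    obtain ⟨k, rfl⟩ := Subgroup.mem_zpowers_iff.mp ha
    have : Commute x y := hxy
    exact (this.zpow_left k)
  have key := h (Subgroup.zpowers x) hA hcard y hy hcomm
  have hle : centralizerPPrimeCore 2 x ≤ signalizerDelta 2 (Subgroup.zpowers x) := by
    unfold signalizerDelta
    refine le_iInf ?_
    rintro ⟨a, ha, ha1⟩
    obtain ⟨k, rfl⟩ := Subgroup.mem_zpowers_iff.mp ha
    have hx2 : x ^ 2 = 1 := by rw [← hx]; exact pow_orderOf_eq_one x
    have : x ^ k = x := by
      rcases Int.emod_two_eq_zero_or_one k with h0 | h1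
      · exfalso
        apply ha1
        have : k = 2 * (k / 2) := by omega
        rw [this, zpow_mul, zpow_ofNat, hx2, one_zpow]
      · have : k = 2 * (k / 2) + 1 := by omega
        rw [this, zpow_add, zpow_mul, zpow_ofNat, hx2, one_zpow, one_mul, zpow_one]
    simp only [this]
    exact le_rfl
  refine le_inf ?_ ?_
  · exact le_trans (inf_le_inf_right _ hle) key
  · exact le_trans inf_le_left (core_le_centralizer 2 x)

theorem result {G : Type*} [Group G] [Finite G] : Cfsg.IsBalanced G ↔ Cfsg.IsKBalanced 2 1 G := by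
  constructor
  · intro hbal A hA hcard b hb hcomm
    have hcard' : Nat.card A = 2 := by simpa using hcard
    have : ∃ a : A, a ≠ 1 := by
      by_contra hcon
      push Not at hcon
      have : Subsingleton A := ⟨fun u v => by rw [hcon u, hcon v]⟩
      have := Nat.card_of_subsingleton (1 : A)
      omega
    obtain ⟨⟨a, haA⟩, ha1⟩ := this
    have ha1' : a ≠ 1 := by
      intro h
      apply ha1
      exact Subtype.ext h
    have ha2 : a ^ 2 = 1 := hA.2 a haA
    have hoa : orderOf a = 2 := orderOf_eq_prime ha2 ha1'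
    have hab : a * b = b * a := hcomm a haA
    have hΔ : signalizerDelta 2 A ≤ centralizerPPrimeCore 2 a := by
      unfold signalizerDelta
      exact iInf_le (fun a : {a : G // a ∈ A ∧ a ≠ 1} => centralizerPPrimeCore 2 (a : G)) ⟨a, haA, ha1'⟩
    calc signalizerDelta 2 A ⊓ Subgroup.centralizer {b}
        ≤ centralizerPPrimeCore 2 a ⊓ Subgroup.centralizer {b} := inf_le_inf_right _ hΔ
      _ = centralizerPPrimeCore 2 b ⊓ Subgroup.centralizer {a} := hbal a b hoa hb hab
      _ ≤ centralizerPPrimeCore 2 b := inf_le_left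
  · intro h x y hx hy hxy
    exact le_antisymm (half h x y hx hy hxy) (half h y x hy hx hxy.symm)

end Cfsg.Agent.S1300
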