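import Mathlib
import Cfsg.Statements.S1303
import Cfsg.Agent.Lib.Helper1.Fitting

set_option autoImplicit false
open Cfsg

namespace Cfsg.Agent.S1303

abbrev G3 := Matrix.SpecialLinearGroup (Fin 2) (ZMod 3)

set_option maxRecDepth 100000 in
theorem invol_fact : ∀ t : G3, t * t = 1 → t = 1 ∨ t = -1 := by decide

set_option maxRecDepth 100000 in
theorem closure_fact : ∀ x : G3, x ≠ 1 → x = -1 ∨ x * x = -1 ∨
    ∃ g : G3, (x * g * x⁻¹ * g⁻¹) * (x * g * x⁻¹ * g⁻¹) = -1 := by decide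

set_option maxRecDepth 100000 in
theorem q8_mul : ∀ a b : G3, a ^ 4 = 1 → b ^ 4 = 1 → (a * b) ^ 4 = 1 := by decide

set_option maxRecDepth 100000 in
theorem q8_inv : ∀ a : G3, a ^ 4 = 1 → (a⁻¹) ^ 4 = 1 := by decide

set_option maxRecDepth 100000 in
theorem q8_conj : ∀ a g : G3, a ^ 4 = 1 → (g * a * g⁻¹) ^ 4 = 1 := by decide

set_option maxRecDepth 100000 in
theorem q8_cent : ∀ g : G3, (∀ x : G3, x ^ 4 = 1 → x * g = g * x) → g = 1 ∨ g = -1 := by decide

set_option maxRecDepth 100000 in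
theorem neg_one_central : ∀ g : G3, g * (-1) = (-1) * g := by decide

set_option maxRecDepth 100000 in
theorem neg_one_ne : (-1 : G3) ≠ 1 := by decide

set_option maxRecDepth 100000 in
theorem neg_one_sq : (-1 : G3) * (-1) = 1 := by decide

set_option maxRecDepth 100000 in
theorem neg_one_pow4 : (-1 : G3) ^ 4 = 1 := by decide

def uElt : G3 := ⟨!![1, 1; 0, 1], by decide⟩

set_option maxRecDepth 100000 in
theorem uElt_pow : uElt ^ 3 = 1 := by decide

set_option maxRecDepth 100000 in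
theorem uElt_ne : uElt ≠ 1 := by decide

def Q8 : Subgroup G3 where
  carrier := {x | x ^ 4 = 1}
  mul_mem' := fun {a b} ha hb => q8_mul a b ha hb
  one_mem' := one_pow 4
  inv_mem' := fun {a} ha => q8_inv a ha

theorem mem_Q8 {x : G3} : x ∈ Q8 ↔ x ^ 4 = 1 := Iff.rfl

theorem Q8_normal : Q8.Normal := ⟨fun a ha g => q8_conj a g ha⟩

theorem Q8_isPGroup : IsPGroup 2 ↥Q8 := by
  rintro ⟨x, hx⟩
  refine ⟨2, ?_⟩
  apply Subtype.ext
  rw [Subgroup.coe_pow, Subgroup.coe_one]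
  exact hx

theorem orderOf_neg_one : orderOf (-1 : G3) = 2 := by
  apply orderOf_eq_prime
  · rw [pow_two]; exact neg_one_sq
  · exact neg_one_ne

theorem core_eq_bot : pPrimeCore 2 G3 = ⊥ := by
  rw [pPrimeCore, sSup_eq_bot]
  rintro N ⟨hNn, hNc⟩
  rw [Subgroup.eq_bot_iff_forall]
  intro x hx
  by_contra hx1
  have hneg : (-1 : G3) ∈ N := by
    rcases closure_fact x hx1 with h | h | ⟨g, h⟩
    · rw [← h]; exact hx
    · rw [← h]; exact N.mul_mem hx hx
    · rw [← h]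
      have h1 : x * g * x⁻¹ * g⁻¹ ∈ N := by
        have h2 : g * x⁻¹ * g⁻¹ ∈ N := hNn.conj_mem _ (N.inv_mem hx) g
        have e : x * g * x⁻¹ * g⁻¹ = x * (g * x⁻¹ * g⁻¹) := by group
        rw [e]
        exact N.mul_mem hx h2
      exact N.mul_mem h1 h1
  have h2 : orderOf (⟨-1, hneg⟩ : ↥N) = 2 := by
    rw [← Subgroup.orderOf_coe]
    exact orderOf_neg_one
  have h3 : orderOf (⟨-1, hneg⟩ : ↥N) ∣ Nat.card ↥N := orderOf_dvd_natCard _
  rw [h2] at h3
  have h4 := Nat.Coprime.eq_one_of_dvd hNc.symm h3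
  omega

theorem result : Cfsg.IsPConstrained 2 (Matrix.SpecialLinearGroup (Fin 2) (ZMod 3)) ∧ Cfsg.pPrimeCore 2 (Matrix.SpecialLinearGroup (Fin 2) (ZMod 3)) = ⊥ ∧ (∀ t : Matrix.SpecialLinearGroup (Fin 2) (ZMod 3), orderOf t = 2 → t ∈ Subgroup.center (Matrix.SpecialLinearGroup (Fin 2) (ZMod 3))) ∧ ∃ Q : Subgroup (Matrix.SpecialLinearGroup (Fin 2) (ZMod 3)), Nat.card ↥Q = 3 ∧ ¬ (Q ≤ Cfsg.pPrimeCore 2 (Matrix.SpecialLinearGroup (Fin 2) (ZMod 3))) := by
  have hp2 : Fact (Nat.Prime 2) := ⟨Nat.prime_two⟩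
  refine ⟨?_, core_eq_bot, ?_, ?_⟩
  · intro P
    have hQn := Q8_normal
    have hQR : Q8 ≤ pPrimePCore 2 G3 := by
      intro x hx
      change (QuotientGroup.mk' (pPrimeCore 2 G3)) x ∈ pCore 2 (G3 ⧸ pPrimeCore 2 G3)
      have h1 : (Q8.map (QuotientGroup.mk' (pPrimeCore 2 G3))).Normal :=
        hQn.map _ (QuotientGroup.mk'_surjective _)
      have h2 : IsPGroup 2 ↥(Q8.map (QuotientGroup.mk' (pPrimeCore 2 G3))) := Q8_isPGroup.map _
      exact Cfsg.Agent.Lib.Helper1.le_pCore h1 h2 (Subgroup.mem_map_of_mem _ hx)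
    have hQ'n : (Q8.subgroupOf (pPrimePCore 2 G3)).Normal := inferInstance
    have hQ'p : IsPGroup 2 ↥(Q8.subgroupOf (pPrimePCore 2 G3)) :=
      Q8_isPGroup.comap_of_injective _ (Subgroup.subtype_injective _)
    have hle := hQ'p.le_sylow_of_normal P
    intro g hg
    rw [Subgroup.mem_centralizer_iff] at hg
    have hg' : ∀ x : G3, x ^ 4 = 1 → x * g = g * x := by
      intro x hx
      have hxQ : x ∈ Q8 := hx
      apply hg
      exact ⟨⟨x, hQR hxQ⟩, hle (Subgroup.mem_subgroupOf.2 hxQ), rfl⟩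
    apply hQR
    rcases q8_cent g hg' with h | h
    · rw [h]; exact Q8.one_mem
    · rw [h]; exact neg_one_pow4
  · intro t ht
    have h1 : t * t = 1 := by
      have := pow_orderOf_eq_one t
      rwa [ht, pow_two] at this
    have h2 : t ≠ 1 := by
      intro h
      rw [h, orderOf_one] at ht
      omega
    rcases invol_fact t h1 with h | h
    · exact absurd h h2
    · rw [h, Subgroup.mem_center_iff]
      intro g
      exact neg_one_central g
  · refine ⟨Subgroup.zpowers uElt, ?_, ?_⟩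
    · rw [Nat.card_zpowers]
      have : Fact (Nat.Prime 3) := ⟨Nat.prime_three⟩
      exact orderOf_eq_prime uElt_pow uElt_ne
    · intro h
      have h1 := h (Subgroup.mem_zpowers uElt)
      rw [core_eq_bot, Subgroup.mem_bot] at h1
      exact uElt_ne h1

end Cfsg.Agent.S1303
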