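import Mathlib
import Cfsg.Statements.S1304

set_option autoImplicit false
open Cfsg
open scoped commutatorElement

namespace Cfsg.Agent.S1304

lemma aux {X : Type*} [Group X] (a b z w : X) (hz : ∀ g : X, g * z = z * g)
    (hw : ∀ g : X, g * w = w * g) :
    (z * a) * (w * b) * (z * a)⁻¹ * (w * b)⁻¹ = a * b * a⁻¹ * b⁻¹ := by
  rw [← hz a, ← hw b]
  calc a * z * (b * w) * (a * z)⁻¹ * (b * w)⁻¹
      = a * (z * (b * w)) * z⁻¹ * a⁻¹ * w⁻¹ * b⁻¹ := by group
    _ = a * ((b * w) * z) * z⁻¹ * a⁻¹ * w⁻¹ * b⁻¹ := by rw [hz (b * w)]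
    _ = a * b * (w * a⁻¹) * w⁻¹ * b⁻¹ := by group
    _ = a * b * (a⁻¹ * w) * w⁻¹ * b⁻¹ := by rw [← hw a⁻¹]
    _ = a * b * a⁻¹ * b⁻¹ := by group

theorem result {X : Type*} [Group X] (hperf : commutator X = ⊤) (α : X ≃* X) (h : ∀ x : X, α x * x⁻¹ ∈ Subgroup.center X) : ∀ x : X, α x = x := by
  let K : Subgroup X :=
    { carrier := {x | α x = x}
      one_mem' := by simp
      mul_mem' := by
        intro a b ha hb
        simp only [Set.mem_ofPred_eq] at *
        rw [map_mul, ha, hb]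
      inv_mem' := by
        intro a ha
        simp only [Set.mem_ofPred_eq] at *
        rw [map_inv, ha] }
  have hK : commutator X ≤ K := by
    rw [commutator_eq_closure, Subgroup.closure_le]
    rintro x ⟨p, q, rfl⟩
    show α (p * q * p⁻¹ * q⁻¹) = p * q * p⁻¹ * q⁻¹
    have hp := h p
    have hq := h q
    rw [Subgroup.mem_center_iff] at hp hq
    have ep : α p = (α p * p⁻¹) * p := by group
    have eq' : α q = (α q * q⁻¹) * q := by group
    rw [map_mul, map_mul, map_mul, map_inv, map_inv, ep, eq']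
    exact aux p q _ _ hp hq
  intro x
  have hx : x ∈ K := hK (by rw [hperf]; trivial)
  exact hx

end Cfsg.Agent.S1304
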