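import Cfsg.Statements.S1305
import Cfsg.Agent.Lib.Helper10.MaxComp7

set_option autoImplicit false
open Cfsg

namespace Cfsg.Agent.S1305

/-- Let G be a finite group of component type with the B-property and no nontrivial normal subgroup of odd order. Let a be an involution and K a component of C_G(a) such that (a) |K| is maximal among the orders of components of centralizers of involutions of G, (b) subject to (a) the 2-rank of the centralizer of K in C_G(a) is as large as possible, and (c) K has 2-rank at least 2. If B is an elementary abelian 2-subgroup of that centralizer of the largest possible order, then K is a component of C_G(b) for every non-identity b ∈ B. -/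
theorem result {G : Type*} [Group G] [Finite G] (hO : Cfsg.oddCore G = ⊥) (hB : Cfsg.HasBProperty G) (hct : Cfsg.IsComponentType G) (a : G) (ha : orderOf a = 2) (K : Subgroup G) (hKa : K ≤ Subgroup.centralizer ({a} : Set G)) (hK : Cfsg.IsComponent (K.subgroupOf (Subgroup.centralizer ({a} : Set G)))) (hmax : ∀ y : G, orderOf y = 2 → ∀ K' : Subgroup G, K' ≤ Subgroup.centralizer ({y} : Set G) → Cfsg.IsComponent (K'.subgroupOf (Subgroup.centralizer ({y} : Set G))) → Nat.card ↥K' ≤ Nat.card ↥K ∧ (Nat.card ↥K' = Nat.card ↥K → ∀ k : ℕ, Cfsg.PRankLE 2 k ↥(Subgroup.centralizer ({a} : Set G) ⊓ Subgroup.centralizer (K : Set G)) → Cfsg.PRankLE 2 k ↥(Subgroup.centralizer ({y} : Set G) ⊓ Subgroup.centralizer (K' : Set G)))) (hrk : ¬ Cfsg.PRankLE 2 1 ↥K) (B : Subgroup G) (hBle : B ≤ Subgroup.centralizer ({a} : Set G) ⊓ Subgroup.centralizer (K : Set G)) (hBel : Cfsg.IsElementaryAbelian 2 B) (hBmax : ∀ B' : Subgroup G, B' ≤ Subgroup.centralizer ({a} : Set G) ⊓ Subgroup.centralizer (K : Set G) → Cfsg.IsElementaryAbelian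 2 B' → Nat.card ↥B' ≤ Nat.card ↥B) (b : G) (hb : b ∈ B) (hb1 : b ≠ 1) : K ≤ Subgroup.centralizer ({b} : Set G) ∧ Cfsg.IsComponent (K.subgroupOf (Subgroup.centralizer ({b} : Set G))) := by
  have hp2 : Fact (Nat.Prime 2) := ⟨Nat.prime_two⟩
  have hb2 : orderOf b = 2 := orderOf_eq_prime (hBel.2 b hb) hb1
  have hbK : b ∈ Subgroup.centralizer (K : Set G) := (hBle hb).2
  have hba : b ∈ Subgroup.centralizer ({a} : Set G) := (hBle hb).1
  have hKb : K ≤ Subgroup.centralizer ({b} : Set G) := by
    intro k hk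
    rw [Subgroup.mem_centralizer_iff] at hbK ⊢
    intro h hh
    rw [Set.mem_singleton_iff] at hh
    rw [hh]
    exact (hbK k hk).symm
  refine ⟨hKb, ?_⟩
  have haH : a ∈ Subgroup.centralizer ({b} : Set G) := by
    rw [Subgroup.mem_centralizer_iff] at hba ⊢
    intro h hh
    rw [Set.mem_singleton_iff] at hh
    rw [hh]
    exact (hba a rfl).symm
  have hBH : ⁅Cfsg.pLayer 2 ↥(Subgroup.centralizer ({b} : Set G)),
      Cfsg.oddCore ↥(Subgroup.centralizer ({b} : Set G))⁆ = ⊥ := by
    have h1 := hB b hb2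
    rw [hO, le_bot_iff] at h1
    exact (Subgroup.map_eq_bot_iff_of_injective _ (Subgroup.subtype_injective _)).1 h1
  have hBH' : B ≤ Subgroup.centralizer ({b} : Set G) := by
    intro x hx
    rw [Subgroup.mem_centralizer_iff]
    intro h hh
    rw [Set.mem_singleton_iff] at hh
    rw [hh]
    exact Cfsg.Agent.Lib.Helper10.MaxComp.comm_of_isMulCommutative hBel.1 b hb x hx
  exact Cfsg.Agent.Lib.Helper10.MaxComp.maxcomp_main (Subgroup.centralizer ({b} : Set G)) a ha haH K
    hKb hKa hK hBH (fun J hJ hJc => hmax b hb2 J hJ hJc) hrk B hBH' hBle hBel hBmax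

end Cfsg.Agent.S1305
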