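import Cfsg.Statements.S1306
import Cfsg.Agent.Lib.Helper10.LBal1
import Cfsg.Agent.Lib.Helper10.ExtLayer
import Cfsg.Agent.Lib.Helper10.Automizer
import Cfsg.Agent.S1263

set_option autoImplicit false
open Cfsg

namespace Cfsg.Agent.S1306

open Cfsg.Agent.Lib.Helper10 Cfsg.Agent.Lib.Helper9

theorem isComponent_subgroupOf_map {G G' : Type*} [Group G] [Group G'] (φ : G ≃* G')
    {L C : Subgroup G} (h : IsComponent (L.subgroupOf C)) :
    IsComponent ((L.map φ.toMonoidHom).subgroupOf (C.map φ.toMonoidHom)) := by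
  have h1 := isComponent_map_equiv (C.equivMapOfInjective φ.toMonoidHom φ.injective) h
  have h2 : (L.subgroupOf C).map (C.equivMapOfInjective φ.toMonoidHom φ.injective).toMonoidHom =
      (L.map φ.toMonoidHom).subgroupOf (C.map φ.toMonoidHom) := by
    ext z
    constructor
    · rintro ⟨c, hc, hcz⟩
      have hc' : (c : G) ∈ L := Subgroup.mem_subgroupOf.1 hc
      have h3 : φ (c : G) = (z : G') := by
        rw [← hcz]; rfl
      apply Subgroup.mem_subgroupOf.2
      rw [← h3]
      exact ⟨c, hc', rfl⟩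
    · intro hz
      have hz' := Subgroup.mem_subgroupOf.1 hz
      obtain ⟨l, hl, hlz⟩ := hz'
      have hl' : l ∈ L := hl
      obtain ⟨c, hc, hcz⟩ := z.2
      have hc' : c ∈ C := hc
      have hlc : l = c := φ.injective (by
        have e1 : φ l = (z : G') := hlz
        have e2 : φ c = (z : G') := hcz
        rw [e1, e2])
      refine ⟨⟨l, hlc ▸ hc'⟩, Subgroup.mem_subgroupOf.2 hl', ?_⟩
      apply Subtype.ext
      exact hlz
  rw [← h2]
  exact h1

theorem isComponent_subgroupOf_cj {G : Type*} [Group G] (g : G) {L C : Subgroup G}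
    (h : IsComponent (L.subgroupOf C)) : IsComponent ((cj g L).subgroupOf (cj g C)) :=
  isComponent_subgroupOf_map (MulAut.conj g) h

theorem cj_centralizer_singleton {G : Type*} [Group G] (g y : G) :
    cj g (Subgroup.centralizer ({y} : Set G)) = Subgroup.centralizer ({g * y * g⁻¹} : Set G) := by
  have := centralizer_singleton_map_equiv (MulAut.conj g) y
  rw [MulAut.conj_apply] at this
  exact this

theorem key {G : Type*} [Group G] [Finite G] (L : Subgroup G)
    (hne : ∀ y : G, orderOf y = 2 → y ∈ Subgroup.centralizer (L : Set G) → L ≤ Subgroup.centralizer ({y} : Set G) ∧ Cfsg.IsComponent (L.subgroupOf (Subgroup.centralizer ({y} : Set G))))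
    (hnc : ∀ g : G, L.map (MulAut.conj g).toMonoidHom ≠ L → ⁅L, L.map (MulAut.conj g).toMonoidHom⁆ ≠ ⊥)
    (g y : G) (hy : orderOf y = 2) (hy1 : y ∈ Subgroup.centralizer (L : Set G))
    (hy2 : y ∈ Subgroup.centralizer ((cj g L : Subgroup G) : Set G)) : cj g L = L := by
  by_contra hcon
  obtain ⟨hL1, hL2⟩ := hne y hy hy1
  have hy' : g⁻¹ * y * g ∈ Subgroup.centralizer (L : Set G) := by
    rw [cj_def, Cfsg.Agent.Lib.Helper13.centralizer_cj] at hy2
    exact mem_cj.1 hy2
  have hyo : orderOf (g⁻¹ * y * g) = 2 := by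
    have := orderOf_conj_eq g⁻¹ y
    rw [inv_inv] at this
    rw [this, hy]
  obtain ⟨hL3, hL4⟩ := hne _ hyo hy'
  have hL5 := isComponent_subgroupOf_cj g hL4
  rw [cj_centralizer_singleton] at hL5
  have hgy : g * (g⁻¹ * y * g) * g⁻¹ = y := by group
  rw [hgy] at hL5
  have hL6 : cj g L ≤ Subgroup.centralizer ({y} : Set G) := by
    have := cj_mono g hL3
    rwa [cj_centralizer_singleton, hgy] at this
  by_cases heq : L.subgroupOf (Subgroup.centralizer ({y} : Set G)) =
      (cj g L).subgroupOf (Subgroup.centralizer ({y} : Set G))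
  · apply hcon
    have := congrArg (Subgroup.map (Subgroup.centralizer ({y} : Set G)).subtype) heq
    rw [Subgroup.map_subgroupOf_eq_of_le hL1, Subgroup.map_subgroupOf_eq_of_le hL6] at this
    exact this.symm
  · have h1 := Cfsg.Agent.S1263.distinct_components_commute hL2 hL5 heq
    have h2 := commutator_eq_bot_of_subgroupOf hL1 hL6 h1
    exact hnc g hcon h2

theorem result {G : Type*} [Group G] [Finite G] (x : G) (hx : orderOf x = 2) (L : Subgroup G) (hLx : L ≤ Subgroup.centralizer ({x} : Set G)) (hL : Cfsg.IsComponent (L.subgroupOf (Subgroup.centralizer ({x} : Set G)))) (hne : ∀ y : G, orderOf y = 2 → y ∈ Subgroup.centralizer (L : Set G) → L ≤ Subgroup.centralizer ({y} : Set G) ∧ Cfsg.IsComponent (L.subgroupOf (Subgroup.centralizer ({y} : Set G)))) (hnc : ∀ g : G, L.map (MulAut.conj g).toMonoidHom ≠ L → ⁅L, L.map (MulAut.conj g).toMonoidHom⁆ ≠ ⊥) : Cfsg.IsStandardSubgroup L := by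
  have hxC : x ∈ Subgroup.centralizer (L : Set G) := by
    rw [Subgroup.mem_centralizer_iff]
    intro l hl
    have := hLx hl
    rw [Subgroup.mem_centralizer_iff] at this
    exact (this x rfl).symm
  have hN : Subgroup.normalizer (L : Set G) =
      Subgroup.normalizer ((Subgroup.centralizer (L : Set G) : Subgroup G) : Set G) := by
    apply le_antisymm (normalizer_le_normalizer_centralizer L)
    intro g hg
    rw [← cj_eq_self_iff]
    apply key L hne hnc g x hx hxC
    rw [cj_def, Cfsg.Agent.Lib.Helper13.centralizer_cj]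
    have : cj g (Subgroup.centralizer (L : Set G)) = Subgroup.centralizer (L : Set G) :=
      cj_eq_self_iff.2 hg
    show x ∈ cj g (Subgroup.centralizer (L : Set G))
    rw [this]; exact hxC
  refine ⟨?_, ⟨?_, ?_⟩, hnc, hN⟩
  · exact isQuasisimple_of_mulEquiv (Subgroup.subgroupOfEquivOfLe hLx) hL.2
  · have h2 : (2 : ℕ) ∣ Nat.card ↥(Subgroup.centralizer (L : Set G)) := by
      have := Subgroup.orderOf_dvd_natCard _ hxC
      rwa [hx] at this
    exact (even_iff_two_dvd).2 h2
  · intro g hg
    rw [← Nat.not_even_iff_odd, even_iff_two_dvd]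
    intro h2
    have : Fact (Nat.Prime 2) := ⟨Nat.prime_two⟩
    obtain ⟨y', hy⟩ := exists_prime_orderOf_dvd_card' 2 h2
    obtain ⟨y, hyy⟩ : ∃ y : G, y = (y' : G) := ⟨_, rfl⟩
    have hyo : orderOf y = 2 := by
      rw [hyy, Subgroup.orderOf_coe]; exact hy
    have hy1 : y ∈ Subgroup.centralizer (L : Set G) := hyy ▸ (Subgroup.mem_inf.1 y'.2).1
    have hy2 : y ∈ (Subgroup.centralizer (L : Set G)).map (MulAut.conj g).toMonoidHom :=
      hyy ▸ (Subgroup.mem_inf.1 y'.2).2
    rw [← Cfsg.Agent.Lib.Helper13.centralizer_cj, ← cj_def] at hy2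
    have h3 := key L hne hnc g y hyo hy1 hy2
    apply hg
    rw [← hN]
    exact cj_eq_self_iff.1 h3

end Cfsg.Agent.S1306
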