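import Cfsg.Statements.S1312
import Cfsg.Agent.Lib.Helper10.Bender3

set_option autoImplicit false
open Cfsg

namespace Cfsg.Agent.S1312

open Cfsg.Agent.Lib.Helper10.Bender Cfsg.Agent.Lib.Helper1 in
theorem prim_of_coatom {G : Type*} [Group G] [Finite G] [IsSimpleGroup G] (M N : Subgroup G)
    (hM : IsCoatom M) : Prim M N := by
  intro A hA hAD hMA x hx
  rw [Subgroup.mem_inf] at hx
  have hnt : Subgroup.normalizer (A : Set G) ≠ ⊤ := by
    intro htop
    have hn : A.Normal := Subgroup.normalizer_eq_top_iff.mp htop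
    rcases hn.eq_bot_or_eq_top with h | h
    · exact hA h
    · have : M = ⊤ := top_le_iff.mp (h ▸ (hAD.trans inf_le_left))
      exact hM.1 this
  have heq : Subgroup.normalizer (A : Set G) = M := by
    by_contra hne
    exact hnt (hM.2 _ (lt_of_le_of_ne hMA (Ne.symm hne)))
  rw [← heq]
  exact hx.2

/-- Let G be a non-abelian finite simple group and M ≠ N maximal subgroups of G with F*(M) ≤ N and F*(N) ≤ M. Then there is a prime p such that F*(M) and F*(N) are both p-groups. -/
theorem result {G : Type*} [Group G] [Finite G] [IsSimpleGroup G] (hna : ¬ IsMulCommutative G) (M N : Subgroup G) (hM : IsCoatom M) (hN : IsCoatom N) (hMN : M ≠ N) (h1 : (Cfsg.generalizedFittingSubgroup ↥M).map M.subtype ≤ N) (h2 : (Cfsg.generalizedFittingSubgroup ↥N).map N.subtype ≤ M) : ∃ p : ℕ, p.Prime ∧ IsPGroup p ↥(Cfsg.generalizedFittingSubgroup ↥M) ∧ IsPGroup p ↥(Cfsg.generalizedFittingSubgroup ↥N) := by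
  obtain ⟨p, hp, hLM, hFM, hLN, hFN⟩ :=
    Cfsg.Agent.Lib.Helper10.Bender.prim_pair_char_p hMN (prim_of_coatom M N hM)
      (prim_of_coatom N M hN) h1 h2
  have : Fact p.Prime := ⟨hp⟩
  refine ⟨p, hp, ?_, ?_⟩
  · have : Cfsg.generalizedFittingSubgroup ↥M = Cfsg.pCore p ↥M := by
      unfold Cfsg.generalizedFittingSubgroup
      rw [hLM, hFM, bot_sup_eq]
    rw [this]
    exact Cfsg.Agent.Lib.Helper1.pCore_isPGroup p
  · have : Cfsg.generalizedFittingSubgroup ↥N = Cfsg.pCore p ↥N := by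
      unfold Cfsg.generalizedFittingSubgroup
      rw [hLN, hFN, bot_sup_eq]
    rw [this]
    exact Cfsg.Agent.Lib.Helper1.pCore_isPGroup p

end Cfsg.Agent.S1312
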