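import Mathlib
import Cfsg.Statements.S1313
import Cfsg.Agent.Lib.Helper10.Components
import Cfsg.Agent.Lib.helper23.Fitting
import Cfsg.Agent.S1265

set_option autoImplicit false
open Cfsg

namespace Cfsg.Agent.S1313

open Cfsg.Agent.Lib.Helper10

section

variable {H : Type*} [Group H]

lemma genFitting_normal : (generalizedFittingSubgroup H).Normal := by
  unfold generalizedFittingSubgroup
  have h1 : (layer H).Normal := inferInstance
  have h2 : (fittingSubgroup H).Normal := Cfsg.Agent.Lib.helper23.fittingSubgroup_normal H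
  infer_instance

noncomputable def rep (C : Subgroup H) (h : H) : H := (QuotientGroup.mk h : H ⧸ C).out

lemma rep_spec (C : Subgroup H) (h : H) : (rep C h)⁻¹ * h ∈ C := by
  unfold rep
  have := QuotientGroup.out_eq' (QuotientGroup.mk h : H ⧸ C)
  exact QuotientGroup.eq.mp this

lemma rep_eq_of (C : Subgroup H) (h h' : H) (hh : h'⁻¹ * h ∈ C) : rep C h = rep C h' := by
  unfold rep
  have : (QuotientGroup.mk h : H ⧸ C) = QuotientGroup.mk h' := by
    rw [eq_comm, QuotientGroup.eq]; exact hh
  rw [this]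

variable (N C : Subgroup H) [hN : N.Normal] (hCN : C ≤ N)

include hN hCN in
lemma sigma_mem (h : H) (x : N) : h * (x : H) * (rep C h)⁻¹ ∈ N := by
  have hc := hCN (rep_spec C h)
  have e : h * (x : H) * (rep C h)⁻¹ = rep C h * (((rep C h)⁻¹ * h) * x) * (rep C h)⁻¹ := by group
  rw [e]
  exact hN.conj_mem _ (N.mul_mem hc x.2) _

include hN hCN in
lemma sigma_inv_mem (h : H) (y : N) : h⁻¹ * (y : H) * rep C h ∈ N := by
  have hc := hCN (rep_spec C h)
  have e : h⁻¹ * (y : H) * rep C h = ((rep C h)⁻¹ * h)⁻¹ * ((rep C h)⁻¹ * y * (rep C h)⁻¹⁻¹) := by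
    group
  rw [e]
  exact N.mul_mem (N.inv_mem hc) (hN.conj_mem _ y.2 _)

noncomputable def sigma (h : H) : Equiv.Perm N where
  toFun x := ⟨h * (x : H) * (rep C h)⁻¹, sigma_mem N C hCN h x⟩
  invFun y := ⟨h⁻¹ * (y : H) * rep C h, sigma_inv_mem N C hCN h y⟩
  left_inv x := by
    apply Subtype.ext
    show h⁻¹ * (h * (x : H) * (rep C h)⁻¹) * rep C h = x
    group
  right_inv y := by
    apply Subtype.ext
    show h * (h⁻¹ * (y : H) * rep C h) * (rep C h)⁻¹ = y
    group

lemma sigma_injective (hC : C = Subgroup.centralizer (N : Set H)) :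
    Function.Injective (sigma N C hCN) := by
  intro h h' heq
  have key : ∀ x : N, h * (x : H) * (rep C h)⁻¹ = h' * (x : H) * (rep C h')⁻¹ := by
    intro x
    have := congrArg (fun σ : Equiv.Perm N => ((σ x : N) : H)) heq
    exact this
  have h1 := key 1
  simp only [Subgroup.coe_one, mul_one] at h1
  set a := h'⁻¹ * h with ha
  have hab : a = (rep C h')⁻¹ * rep C h := by
    rw [ha]
    calc h'⁻¹ * h = h'⁻¹ * (h * (rep C h)⁻¹) * rep C h := by group
      _ = h'⁻¹ * (h' * (rep C h')⁻¹) * rep C h := by rw [h1]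
      _ = (rep C h')⁻¹ * rep C h := by group
  have haC : a ∈ C := by
    rw [hC, Subgroup.mem_centralizer_iff]
    intro x hx
    have h2 := key ⟨x, hx⟩
    simp only at h2
    have e1 : a * x = (rep C h')⁻¹ * rep C h * x := by rw [← hab]
    calc x * a = h'⁻¹ * (h' * x * (rep C h')⁻¹) * (rep C h' * a) := by group
      _ = h'⁻¹ * (h * x * (rep C h)⁻¹) * (rep C h' * a) := by rw [h2]
      _ = h'⁻¹ * (h * x * (rep C h)⁻¹) * (rep C h' * ((rep C h')⁻¹ * rep C h)) := by rw [← hab]
      _ = (h'⁻¹ * h) * x := by group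
      _ = a * x := by rw [ha]
  have hrr : rep C h = rep C h' := rep_eq_of C h h' haC
  rw [hrr] at h1
  exact mul_right_cancel h1

end

theorem result {H : Type*} [Group H] [Finite H] : Nat.card H ≤ Nat.factorial (Nat.card ↥(Cfsg.generalizedFittingSubgroup H)) := by
  have hN : (generalizedFittingSubgroup H).Normal := genFitting_normal
  have hle : Subgroup.centralizer (generalizedFittingSubgroup H : Set H) ≤ generalizedFittingSubgroup H :=
    Cfsg.Agent.S1265.result
  rw [← Nat.card_perm]
  exact Nat.card_le_card_of_injective _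
    (sigma_injective (generalizedFittingSubgroup H) _ hle rfl)

end Cfsg.Agent.S1313
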