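import Mathlib
import Cfsg.Statements.S1314
import Cfsg.Agent.Lib.Helper10.SubgroupBasic

set_option autoImplicit false
open Cfsg

namespace Cfsg.Agent.S1314
open Cfsg.Agent.Lib.Helper10
open scoped commutatorElement

section

variable {G : Type*} [Group G] (x : G) (L : Subgroup G)

theorem comm_of_hcomm (hcomm : ⁅L, L.map (MulAut.conj x).toMonoidHom⁆ = ⊥) :
    ∀ a ∈ L, ∀ b ∈ L, a * (x * b * x⁻¹) = (x * b * x⁻¹) * a := by
  intro a ha b hb
  rw [Subgroup.commutator_eq_bot_iff_le_centralizer] at hcomm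
  have h1 := hcomm ha
  rw [Subgroup.mem_centralizer_iff] at h1
  exact (h1 (x * b * x⁻¹) ⟨b, hb, rfl⟩).symm

def diagHom (hc : ∀ a ∈ L, ∀ b ∈ L, a * (x * b * x⁻¹) = (x * b * x⁻¹) * a) : ↥L →* G :=
  MonoidHom.mk' (fun l => (l : G) * (x * (l : G) * x⁻¹)) (by
    intro a b
    have h := hc b b.2 a a.2
    calc ((a * b : ↥L) : G) * (x * ((a * b : ↥L) : G) * x⁻¹)
        = (a : G) * ((b : G) * (x * (a : G) * x⁻¹)) * (x * (b : G) * x⁻¹) := by
          rw [Subgroup.coe_mul]; group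
      _ = (a : G) * ((x * (a : G) * x⁻¹) * (b : G)) * (x * (b : G) * x⁻¹) := by rw [h]
      _ = (a : G) * (x * (a : G) * x⁻¹) * ((b : G) * (x * (b : G) * x⁻¹)) := by group)

theorem diagHom_apply (hc : ∀ a ∈ L, ∀ b ∈ L, a * (x * b * x⁻¹) = (x * b * x⁻¹) * a) (l : ↥L) :
    diagHom x L hc l = (l : G) * (x * (l : G) * x⁻¹) := rfl

end

theorem result {G : Type*} [Group G] [Finite G] (x : G) (hx : orderOf x = 2) (L : Subgroup G) (hperf : ⁅L, L⁆ = L) (hcomm : ⁅L, L.map (MulAut.conj x).toMonoidHom⁆ = ⊥) : ∃ π : ↥L →* G, (∀ l : ↥L, π l = (l : G) * (x * (l : G) * x⁻¹)) ∧ π.ker ≤ Subgroup.center ↥L ∧ π.range ≤ Subgroup.centralizer ({x} : Set G) ∧ ⁅(L ⊔ L.map (MulAut.conj x).toMonoidHom) ⊓ Subgroup.centralizer ({x} : Set G), (L ⊔ L.map (MulAut.conj x).toMonoidHom) ⊓ Subgroup.centralizer ({x} : Set G)⁆ = π.range := by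
  have hc := comm_of_hcomm x L hcomm
  have hxx : x * x = 1 := by
    have := pow_orderOf_eq_one x
    rw [hx, pow_two] at this
    exact this
  have hxinv : x⁻¹ = x := inv_eq_of_mul_eq_one_left hxx
  have hrange_cent : (diagHom x L hc).range ≤ Subgroup.centralizer ({x} : Set G) := by
    rintro _ ⟨l, rfl⟩
    rw [Subgroup.mem_centralizer_singleton_iff, diagHom_apply]
    have h1 := hc l l.2 l l.2
    rw [hxinv] at h1 ⊢
    have e1 : (l : G) * (x * (l : G) * x) * x = (l : G) * x * (l : G) := by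
      calc (l : G) * (x * (l : G) * x) * x = (l : G) * x * (l : G) * (x * x) := by group
        _ = (l : G) * x * (l : G) := by rw [hxx, mul_one]
    have e2 : x * ((l : G) * (x * (l : G) * x)) = (l : G) * x * (l : G) := by
      calc x * ((l : G) * (x * (l : G) * x))
          = ((x * (l : G) * x) * (l : G)) * x := by group
        _ = ((l : G) * (x * (l : G) * x)) * x := by rw [← h1]
        _ = (l : G) * x * (l : G) * (x * x) := by group
        _ = (l : G) * x * (l : G) := by rw [hxx, mul_one]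
    rw [e1, e2]
  have hrange_sup : (diagHom x L hc).range ≤ L ⊔ L.map (MulAut.conj x).toMonoidHom := by
    rintro _ ⟨l, rfl⟩
    rw [diagHom_apply]
    exact Subgroup.mul_mem_sup l.2 ⟨l, l.2, rfl⟩
  refine ⟨diagHom x L hc, diagHom_apply x L hc, ?_, hrange_cent, ?_⟩
  · intro l hl
    rw [MonoidHom.mem_ker, diagHom_apply] at hl
    rw [Subgroup.mem_center_iff]
    intro m
    apply Subtype.ext
    rw [Subgroup.coe_mul, Subgroup.coe_mul]
    have h1 : (l : G) = x * (l : G)⁻¹ * x⁻¹ := by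
      have h0 : (l : G) = (x * (l : G) * x⁻¹)⁻¹ := eq_inv_of_mul_eq_one_left hl
      calc (l : G) = (x * (l : G) * x⁻¹)⁻¹ := h0
        _ = x * (l : G)⁻¹ * x⁻¹ := by group
    have h2 := hc m m.2 (l⁻¹ : ↥L) (l⁻¹).2
    rw [Subgroup.coe_inv, ← h1] at h2
    exact h2
  · apply le_antisymm
    · rw [Subgroup.commutator_le]
      have hdecomp : ∀ c ∈ (L ⊔ L.map (MulAut.conj x).toMonoidHom) ⊓
          Subgroup.centralizer ({x} : Set G), ∃ a : ↥L, ∃ z : G,
          z ∈ Subgroup.centralizer ((L ⊔ L.map (MulAut.conj x).toMonoidHom : Subgroup G) : Set G) ∧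
          c = diagHom x L hc a * z := by
        intro c hcC
        obtain ⟨hc1, hc2⟩ := Subgroup.mem_inf.1 hcC
        rw [Subgroup.mem_centralizer_singleton_iff] at hc2
        have hnorm : L.map (MulAut.conj x).toMonoidHom ≤ Subgroup.normalizer (L : Set G) := by
          apply le_normalizer_of_commute
          rintro a ha _ ⟨b, hb, rfl⟩
          exact hc a ha b hb
        obtain ⟨a, ha, b', hb', rfl⟩ := exists_mul_of_mem_sup L _ hnorm c hc1
        obtain ⟨b, hb, rfl⟩ := hb'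
        replace hc2 : x * (a * (x * b * x⁻¹)) = (a * (x * b * x⁻¹)) * x := hc2.symm
        have hz : a⁻¹ * b = x * (a⁻¹ * b) * x⁻¹ := by
          have h1 : (x * a * x⁻¹) * b = a * (x * b * x⁻¹) := by
            have e : (x * a * x⁻¹) * ((x * x) * b * (x * x)⁻¹) = a * (x * b * x⁻¹) := by
              calc (x * a * x⁻¹) * ((x * x) * b * (x * x)⁻¹)
                  = (x * (a * (x * b * x⁻¹))) * x⁻¹ := by group
                _ = (a * (x * b * x⁻¹) * x) * x⁻¹ := by rw [hc2]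
                _ = a * (x * b * x⁻¹) := by group
            rwa [hxx, one_mul, inv_one, mul_one] at e
          have h2 := hc a⁻¹ (L.inv_mem ha) a ha
          calc a⁻¹ * b = (x * a * x⁻¹)⁻¹ * ((x * a * x⁻¹) * a⁻¹) * b := by group
            _ = (x * a * x⁻¹)⁻¹ * (a⁻¹ * (x * a * x⁻¹)) * b := by rw [h2]
            _ = (x * a * x⁻¹)⁻¹ * a⁻¹ * ((x * a * x⁻¹) * b) := by group
            _ = (x * a * x⁻¹)⁻¹ * a⁻¹ * (a * (x * b * x⁻¹)) := by rw [h1]
            _ = x * (a⁻¹ * b) * x⁻¹ := by group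
        have hzL : a⁻¹ * b ∈ L := L.mul_mem (L.inv_mem ha) hb
        refine ⟨⟨a, ha⟩, a⁻¹ * b, ?_, ?_⟩
        · rw [Subgroup.mem_centralizer_iff]
          intro y hy
          have hy' : y ∈ L ⊔ L.map (MulAut.conj x).toMonoidHom := hy
          obtain ⟨u, hu, v', hv', rfl⟩ := exists_mul_of_mem_sup L _ hnorm y hy'
          obtain ⟨v, hv, rfl⟩ := hv'
          change u * (x * v * x⁻¹) * (a⁻¹ * b) = (a⁻¹ * b) * (u * (x * v * x⁻¹))
          have e1 : (x * v * x⁻¹) * (a⁻¹ * b) = (a⁻¹ * b) * (x * v * x⁻¹) :=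
            (hc _ hzL v hv).symm
          have e2 : u * (a⁻¹ * b) = (a⁻¹ * b) * u := by
            have := hc u hu _ hzL
            rw [← hz] at this
            exact this
          calc u * (x * v * x⁻¹) * (a⁻¹ * b) = u * ((x * v * x⁻¹) * (a⁻¹ * b)) := by group
            _ = u * ((a⁻¹ * b) * (x * v * x⁻¹)) := by rw [e1]
            _ = (u * (a⁻¹ * b)) * (x * v * x⁻¹) := by group
            _ = ((a⁻¹ * b) * u) * (x * v * x⁻¹) := by rw [e2]
            _ = (a⁻¹ * b) * (u * (x * v * x⁻¹)) := by group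
        · rw [diagHom_apply]
          change a * (x * b * x⁻¹) = a * (x * a * x⁻¹) * (a⁻¹ * b)
          conv_rhs => rw [hz]
          group
      intro c₁ hc₁ c₂ hc₂
      obtain ⟨a₁, z₁, hz₁, rfl⟩ := hdecomp c₁ hc₁
      obtain ⟨a₂, z₂, hz₂, rfl⟩ := hdecomp c₂ hc₂
      rw [Subgroup.mem_centralizer_iff] at hz₁ hz₂
      have hp1 : diagHom x L hc a₁ ∈ L ⊔ L.map (MulAut.conj x).toMonoidHom :=
        hrange_sup ⟨a₁, rfl⟩
      have hp2 : diagHom x L hc a₂ ∈ L ⊔ L.map (MulAut.conj x).toMonoidHom :=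
        hrange_sup ⟨a₂, rfl⟩
      have hz1L : z₁ ∈ L ⊔ L.map (MulAut.conj x).toMonoidHom := by
        have h1 : diagHom x L hc a₁ * z₁ ∈ L ⊔ L.map (MulAut.conj x).toMonoidHom :=
          (Subgroup.mem_inf.1 hc₁).1
        have h2 := Subgroup.mul_mem _ (Subgroup.inv_mem _ hp1) h1
        rwa [inv_mul_cancel_left] at h2
      have e : ⁅diagHom x L hc a₁ * z₁, diagHom x L hc a₂ * z₂⁆ =
          ⁅diagHom x L hc a₁, diagHom x L hc a₂⁆ := by
        set p₁ := diagHom x L hc a₁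
        set p₂ := diagHom x L hc a₂
        have c1 : p₂ * z₁ = z₁ * p₂ := hz₁ p₂ hp2
        have c2 : p₁ * z₂ = z₂ * p₁ := hz₂ p₁ hp1
        have c3 : z₁ * z₂ = z₂ * z₁ := hz₂ z₁ hz1L
        have c4 : p₁ * z₁ = z₁ * p₁ := hz₁ p₁ hp1
        have c5 : p₂ * z₂ = z₂ * p₂ := hz₂ p₂ hp2
        rw [commutatorElement_def, commutatorElement_def]
        have i1 : (p₁ * z₁)⁻¹ = z₁⁻¹ * p₁⁻¹ := by group
        have i2 : (p₂ * z₂)⁻¹ = z₂⁻¹ * p₂⁻¹ := by group
        rw [i1, i2]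
        have d1 : p₁ * z₁ * (p₂ * z₂) * (z₁⁻¹ * p₁⁻¹) * (z₂⁻¹ * p₂⁻¹) =
            p₁ * (z₁ * p₂) * z₂ * z₁⁻¹ * p₁⁻¹ * z₂⁻¹ * p₂⁻¹ := by group
        rw [d1, ← c1]
        have d2 : p₁ * (p₂ * z₁) * z₂ * z₁⁻¹ * p₁⁻¹ * z₂⁻¹ * p₂⁻¹ =
            p₁ * p₂ * (z₁ * z₂) * z₁⁻¹ * p₁⁻¹ * z₂⁻¹ * p₂⁻¹ := by group
        rw [d2, c3]
        have d3 : p₁ * p₂ * (z₂ * z₁) * z₁⁻¹ * p₁⁻¹ * z₂⁻¹ * p₂⁻¹ =
            p₁ * p₂ * z₂ * p₁⁻¹ * z₂⁻¹ * p₂⁻¹ := by group
        rw [d3]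
        have c2' : z₂ * p₁⁻¹ = p₁⁻¹ * z₂ := by
          calc z₂ * p₁⁻¹ = p₁⁻¹ * (p₁ * z₂) * p₁⁻¹ := by group
            _ = p₁⁻¹ * (z₂ * p₁) * p₁⁻¹ := by rw [c2]
            _ = p₁⁻¹ * z₂ := by group
        have d4 : p₁ * p₂ * z₂ * p₁⁻¹ * z₂⁻¹ * p₂⁻¹ = p₁ * p₂ * (z₂ * p₁⁻¹) * z₂⁻¹ * p₂⁻¹ := by
          group
        rw [d4, c2']
        group
      rw [e, ← map_commutatorElement]
      exact ⟨_, rfl⟩
    · have hperf' : commutator ↥L = ⊤ := by
        have h1 : Group.IsPerfect ↥L := Subgroup.isPerfect_iff.2 hperf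
        exact h1.commutator_eq_top
      have h1 : (diagHom x L hc).range = ⁅(diagHom x L hc).range, (diagHom x L hc).range⁆ := by
        conv_lhs => rw [MonoidHom.range_eq_map, ← hperf', commutator_def, Subgroup.map_commutator,
          ← MonoidHom.range_eq_map]
      rw [h1]
      exact Subgroup.commutator_mono (le_inf hrange_sup hrange_cent) (le_inf hrange_sup hrange_cent)

end Cfsg.Agent.S1314
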