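import Mathlib
import Cfsg.Statements.S1316
import Cfsg.Agent.Lib.Helper10.Components
import Cfsg.Agent.Lib.Helper10.SubgroupBasic
import Cfsg.Agent.Lib.helper23.Fitting

set_option autoImplicit false
open Cfsg

namespace Cfsg.Agent.S1316

open Cfsg.Agent.Lib.Helper10

theorem result {X : Type*} [Group X] [Finite X] : (⨅ n : ℕ, (derivedSeries ↥(Cfsg.generalizedFittingSubgroup X) n).map (Cfsg.generalizedFittingSubgroup X).subtype) = Cfsg.layer X := by
  have h1 : ∀ n, (derivedSeries ↥(generalizedFittingSubgroup X) n).map
      (generalizedFittingSubgroup X).subtype = layer X ⊔ dser (fittingSubgroup X) n := by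
    intro n
    rw [map_derivedSeries_subtype]
    unfold generalizedFittingSubgroup
    exact dser_sup_of_commutator_eq_bot commutator_layer_fitting layer_commutator_self n
  simp_rw [h1]
  apply le_antisymm
  · have hnil : Group.IsNilpotent (fittingSubgroup X) :=
      Cfsg.Agent.Lib.helper23.fittingSubgroup_isNilpotent X
    have hsolv : Group.IsSolvable (fittingSubgroup X) := inferInstance
    obtain ⟨n, hn⟩ := hsolv.solvable
    have : dser (fittingSubgroup X) n = ⊥ := by
      rw [← map_derivedSeries_subtype, hn, Subgroup.map_bot]
    refine le_trans (iInf_le _ n) ?_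
    rw [this, sup_bot_eq]
  · exact le_iInf fun n => le_sup_left

end Cfsg.Agent.S1316
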