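import Mathlib
import Cfsg.Statements.S1317
import Cfsg.Agent.Lib.Helper10.Components
import Cfsg.Agent.S1263

set_option autoImplicit false
open Cfsg

namespace Cfsg.Agent.S1317

open Cfsg.Agent.Lib.Helper10

theorem result {X : Type*} [Group X] [Finite X] : (Subgroup.center ↥(Cfsg.layer X)).map (Cfsg.layer X).subtype = Cfsg.fittingSubgroup X ⊓ Cfsg.layer X := by
  apply le_antisymm
  · refine le_inf ?_ ?_
    · unfold fittingSubgroup
      apply le_sSup
      refine ⟨inferInstance, ?_⟩
      have e : Subgroup.center ↥(layer X) ≃* ↥((Subgroup.center ↥(layer X)).map (layer X).subtype) :=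
        (Subgroup.center ↥(layer X)).equivMapOfInjective _ (layer X).subtype_injective
      have hc : Group.IsNilpotent (Subgroup.center ↥(layer X)) :=
        ⟨⟨1, Subgroup.upperCentralSeries_one_eq_top_iff.mpr inferInstance⟩⟩
      exact Group.nilpotent_of_mulEquiv e
    · rintro _ ⟨y, _, rfl⟩
      exact y.2
  · rw [Cfsg.Agent.S1263.map_center_subtype]
    refine le_inf inf_le_right ?_
    refine le_trans inf_le_left ?_
    rw [← Subgroup.commutator_eq_bot_iff_le_centralizer]
    exact commutator_fitting_layer

end Cfsg.Agent.S1317
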