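import Mathlib
import Cfsg.Statements.S1318
import Cfsg.Agent.Lib.Helper10.Components
import Cfsg.Agent.Lib.Helper10.SubgroupBasic
import Cfsg.Agent.Lib.Helper9.GenFitting
import Cfsg.Agent.Lib.Helper9.FittingExtra
import Cfsg.Agent.Lib.Helper12.Local
import Cfsg.Agent.Lib.Helper1.Cores

set_option autoImplicit false
open Cfsg

namespace Cfsg.Agent.S1318
open Cfsg.Agent.Lib.Helper10

theorem center_layer_le_fitting {X : Type*} [Group X] [Finite X] :
    layer X ⊓ Subgroup.centralizer (layer X : Set X) ≤ fittingSubgroup X := by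
  have hchar : (layer X).Characteristic := Cfsg.Agent.Lib.Helper12.layer_characteristic X
  have hn1 : (layer X).Normal := inferInstance
  have hn2 : (Subgroup.centralizer (layer X : Set X)).Normal := inferInstance
  have hn : (layer X ⊓ Subgroup.centralizer (layer X : Set X)).Normal := inferInstance
  apply Cfsg.Agent.Lib.Helper1.le_fittingSubgroup hn
  have hcomm : IsMulCommutative ↥(layer X ⊓ Subgroup.centralizer (layer X : Set X)) := by
    rw [← Subgroup.le_centralizer_iff_isMulCommutative]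
    intro x hx
    exact Subgroup.centralizer_le (fun y hy => (Subgroup.mem_inf.1 hy).1) (Subgroup.mem_inf.1 hx).2
  exact ⟨⟨1, Subgroup.upperCentralSeries_one_eq_top_iff.mpr hcomm⟩⟩

theorem part1 {X : Type*} [Group X] [Finite X] (S : Subgroup X) (hsn : S.IsSubnormal) :
    (fittingSubgroup ↥S).map S.subtype = fittingSubgroup X ⊓ S := by
  apply le_antisymm
  · apply le_inf
    · exact Cfsg.Agent.Lib.Helper9.fitting_map_le_of_subnormal S hsn
    · exact Subgroup.map_subtype_le _
  · have hFn : (fittingSubgroup X).Normal := Cfsg.Agent.Lib.Helper1.fittingSubgroup_normal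
    have hn : ((fittingSubgroup X ⊓ S).subgroupOf S).Normal := by
      rw [Subgroup.inf_subgroupOf_right]
      infer_instance
    have hFnil : Group.IsNilpotent (fittingSubgroup X) :=
      Cfsg.Agent.Lib.Helper1.fittingSubgroup_nilpotent
    have hnil0 : Group.IsNilpotent ((fittingSubgroup X ⊓ S).subgroupOf (fittingSubgroup X)) :=
      Subgroup.isNilpotent _
    have hnil1 : Group.IsNilpotent ↥(fittingSubgroup X ⊓ S) :=
      Group.nilpotent_of_mulEquiv (Subgroup.subgroupOfEquivOfLe (inf_le_left))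
    have hnil : Group.IsNilpotent ((fittingSubgroup X ⊓ S).subgroupOf S) :=
      Group.nilpotent_of_mulEquiv (Subgroup.subgroupOfEquivOfLe (inf_le_right)).symm
    have h := Cfsg.Agent.Lib.Helper1.le_fittingSubgroup hn hnil
    have h2 := Subgroup.map_mono (f := S.subtype) h
    rwa [Subgroup.map_subgroupOf_eq_of_le inf_le_right] at h2

theorem part2 {X : Type*} [Group X] [Finite X] (S : Subgroup X)
    (hS : S ≤ generalizedFittingSubgroup X) (hsn : S.IsSubnormal)
    (h1 : (fittingSubgroup ↥S).map S.subtype = fittingSubgroup X ⊓ S) :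
    fittingSubgroup ↥S ⊔ layer ↥S = ⊤ := by
  set E₁ : Subgroup X := sSup {L : Subgroup X | IsComponent L ∧ L ≤ S} with hE₁
  set E₂ : Subgroup X := sSup {L : Subgroup X | IsComponent L ∧ ⁅L, S⁆ = ⊥} with hE₂
  have hE1S : E₁ ≤ S := sSup_le (fun L hL => hL.2)
  have hE2C : E₂ ≤ Subgroup.centralizer (S : Set X) :=
    sSup_le (fun L hL => (Subgroup.commutator_eq_bot_iff_le_centralizer).1 hL.2)
  have hE : layer X ≤ E₁ ⊔ E₂ := sSup_le (fun L hL => by
    rcases component_le_or_commutator_eq_bot L S hL hsn with h | h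
    · exact le_sup_of_le_left (le_sSup ⟨hL, h⟩)
    · exact le_sup_of_le_right (le_sSup ⟨hL, h⟩))
  have hE1 : E₁ ≤ layer X := sSup_le (fun L hL => le_sSup hL.1)
  have hE2 : E₂ ≤ layer X := sSup_le (fun L hL => le_sSup hL.1)
  have hFn : (fittingSubgroup X).Normal := Cfsg.Agent.Lib.Helper1.fittingSubgroup_normal
  have hE1map : E₁ ≤ (layer ↥S).map S.subtype := sSup_le (fun L hL => by
    have h3 := isComponent_subgroupOf hL.1 hL.2
    rw [← Subgroup.map_subgroupOf_eq_of_le hL.2]
    exact Subgroup.map_mono (le_sSup h3))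
  have hcomm12 : ∀ a ∈ E₁, ∀ b ∈ E₂, a * b = b * a := by
    intro a ha b hb
    have := hE2C hb
    rw [Subgroup.mem_centralizer_iff] at this
    exact this a (hE1S ha)
  have hFE : fittingSubgroup X ≤ Subgroup.centralizer (layer X : Set X) :=
    (Subgroup.commutator_eq_bot_iff_le_centralizer).1 commutator_fitting_layer
  rw [eq_top_iff]
  intro s _
  have hs : (s : X) ∈ layer X ⊔ fittingSubgroup X := hS s.2
  have hs' : (s : X) ∈ ((layer X ⊔ fittingSubgroup X : Subgroup X) : Set X) := hs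
  rw [Subgroup.mul_normal] at hs'
  obtain ⟨e, he, f, hf, hef⟩ := Set.mem_mul.mp hs'
  obtain ⟨e₁, he₁, e₂, he₂, hee⟩ :=
    exists_mul_of_mem_sup E₁ E₂ (le_normalizer_of_commute E₁ E₂ hcomm12) e (hE he)
  have hd : e₂ * f ∈ S := by
    have : e₂ * f = e₁⁻¹ * (s : X) := by
      rw [← hef, hee]; group
    rw [this]
    exact S.mul_mem (S.inv_mem (hE1S he₁)) s.2
  have hfc : ∀ y ∈ layer X, y * f = f * y := by
    intro y hy
    have := hFE hf
    rw [Subgroup.mem_centralizer_iff] at this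
    exact this y hy
  have he2c : e₂ ∈ Subgroup.centralizer (layer X : Set X) := by
    rw [Subgroup.mem_centralizer_iff]
    intro y hy
    obtain ⟨y₁, hy₁, y₂, hy₂, rfl⟩ :=
      exists_mul_of_mem_sup E₁ E₂ (le_normalizer_of_commute E₁ E₂ hcomm12) y (hE hy)
    have c1 : y₁ * e₂ = e₂ * y₁ := hcomm12 y₁ hy₁ e₂ he₂
    have c2 : y₂ * (e₂ * f) = (e₂ * f) * y₂ := by
      have := hE2C hy₂
      rw [Subgroup.mem_centralizer_iff] at this
      exact (this _ hd).symm
    have c3 : y₂ * f = f * y₂ := hfc y₂ (hE2 hy₂)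
    have c4 : y₂ * e₂ = e₂ * y₂ := by
      have : y₂ * e₂ * f = e₂ * y₂ * f := by
        calc y₂ * e₂ * f = y₂ * (e₂ * f) := by group
          _ = (e₂ * f) * y₂ := c2
          _ = e₂ * (f * y₂) := by group
          _ = e₂ * (y₂ * f) := by rw [c3]
          _ = e₂ * y₂ * f := by group
      exact mul_right_cancel this
    calc y₁ * y₂ * e₂ = y₁ * (y₂ * e₂) := by group
      _ = y₁ * (e₂ * y₂) := by rw [c4]
      _ = (y₁ * e₂) * y₂ := by group
      _ = (e₂ * y₁) * y₂ := by rw [c1]
      _ = e₂ * (y₁ * y₂) := by group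
  have he2F : e₂ ∈ fittingSubgroup X :=
    center_layer_le_fitting (Subgroup.mem_inf.2 ⟨hE2 he₂, he2c⟩)
  have hdF : e₂ * f ∈ fittingSubgroup X ⊓ S :=
    Subgroup.mem_inf.2 ⟨(fittingSubgroup X).mul_mem he2F hf, hd⟩
  rw [← h1] at hdF
  obtain ⟨d', hd', hd'e⟩ := hdF
  obtain ⟨l', hl', hl'e⟩ := hE1map he₁
  have hsd : s = l' * d' := by
    apply Subtype.ext
    rw [Subgroup.coe_mul]
    have e1 : (d' : X) = e₂ * f := hd'e
    have e2 : (l' : X) = e₁ := hl'e
    rw [e1, e2, ← hef, hee]; group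
  rw [hsd]
  exact (fittingSubgroup ↥S ⊔ layer ↥S).mul_mem (Subgroup.mem_sup_right hl') (Subgroup.mem_sup_left hd')

theorem result {X : Type*} [Group X] [Finite X] (S : Subgroup X) (hS : S ≤ Cfsg.generalizedFittingSubgroup X) (hsn : (S.subgroupOf (Cfsg.generalizedFittingSubgroup X)).IsSubnormal) : (Cfsg.fittingSubgroup ↥S).map S.subtype = Cfsg.fittingSubgroup X ⊓ S ∧ Cfsg.fittingSubgroup ↥S ⊔ Cfsg.layer ↥S = ⊤ := by
  have hn : (generalizedFittingSubgroup X).Normal :=
    Cfsg.Agent.Lib.Helper12.generalizedFittingSubgroup_normal X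
  have hsn' : S.IsSubnormal := Subgroup.IsSubnormal.trans hS hsn hn.isSubnormal
  have h1 := part1 S hsn'
  exact ⟨h1, part2 S hS hsn' h1⟩

end Cfsg.Agent.S1318
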