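import Mathlib
import Cfsg.Statements.S1319
import Cfsg.Agent.Lib.Helper10.Components

set_option autoImplicit false
open Cfsg

namespace Cfsg.Agent.S1319

open Cfsg.Agent.Lib.Helper10

theorem result {X : Type*} [Group X] [Finite X] (A : Subgroup X) (hsn : A.IsSubnormal) (hA : Cfsg.layer ↥A = ⊤) : A ≤ Cfsg.layer X ∧ (A.subgroupOf (Cfsg.layer X)).Normal := by
  have h1 : A ≤ layer X := by
    have e : A = (layer ↥A).map A.subtype := by
      rw [hA, ← MonoidHom.range_eq_map, Subgroup.range_subtype]
    rw [e]
    unfold layer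
    have : (sSup {K : Subgroup ↥A | IsComponent K}).map A.subtype =
        ⨆ K : {K : Subgroup ↥A // IsComponent K}, (K : Subgroup ↥A).map A.subtype := by
      rw [sSup_eq_iSup', Subgroup.map_iSup]
      rfl
    rw [this]
    apply iSup_le
    rintro ⟨K, hK⟩
    exact le_sSup (isComponent_map_subtype hsn hK)
  refine ⟨h1, ?_⟩
  rw [Subgroup.normal_subgroupOf_iff_le_normalizer h1]
  conv_lhs => unfold layer
  apply sSup_le
  intro L hL
  rcases component_le_or_commutator_eq_bot L A hL hsn with h | h
  · exact le_trans h Subgroup.le_normalizer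
  · exact le_trans (Subgroup.commutator_eq_bot_iff_le_centralizer.mp h)
      (Subgroup.centralizer_le_normalizer _)

end Cfsg.Agent.S1319
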