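import Mathlib
import Cfsg.Statements.S1320
import Cfsg.Agent.S1318

set_option autoImplicit false
open Cfsg

namespace Cfsg.Agent.S1320
open Cfsg.Agent.Lib.Helper10

theorem layer_map_le {A : Type*} [Group A] [Finite A] (B : Subgroup A) (hB : B.IsSubnormal) :
    (layer ↥B).map B.subtype ≤ layer A := by
  rw [Subgroup.map_le_iff_le_comap]
  apply sSup_le
  intro K hK
  rw [← Subgroup.map_le_iff_le_comap]
  exact le_sSup (isComponent_map_subtype hB hK)

theorem result {A : Type*} [Group A] [Finite A] (B : Subgroup A) [B.Normal] : Cfsg.generalizedFittingSubgroup A ⊓ B = (Cfsg.generalizedFittingSubgroup ↥B).map B.subtype := by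
  have hBn : B.Normal := inferInstance
  have hBsn : B.IsSubnormal := hBn.isSubnormal
  have hn : (generalizedFittingSubgroup A).Normal :=
    Cfsg.Agent.Lib.Helper12.generalizedFittingSubgroup_normal A
  apply le_antisymm
  · set S : Subgroup A := generalizedFittingSubgroup A ⊓ B with hSdef
    have hSn : S.Normal := inferInstance
    have hS : S ≤ generalizedFittingSubgroup A := inf_le_left
    have hSB : S ≤ B := inf_le_right
    have hsn : (S.subgroupOf (generalizedFittingSubgroup A)).IsSubnormal :=
      (Subgroup.Normal.subgroupOf hSn _).isSubnormal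
    obtain ⟨h1, h2⟩ := Cfsg.Agent.S1318.result S hS hsn
    have h3 : S = (fittingSubgroup ↥S).map S.subtype ⊔ (layer ↥S).map S.subtype := by
      rw [← Subgroup.map_sup, h2, ← MonoidHom.range_eq_map, Subgroup.range_subtype]
    have hFB := Cfsg.Agent.S1318.part1 B hBsn
    rw [h3]
    apply sup_le
    · rw [h1]
      have : fittingSubgroup A ⊓ S ≤ fittingSubgroup A ⊓ B := inf_le_inf_left _ hSB
      refine this.trans ?_
      rw [← hFB]
      exact Subgroup.map_mono le_sup_right
    · rw [Subgroup.map_le_iff_le_comap]
      apply sSup_le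
      intro K hK
      rw [← Subgroup.map_le_iff_le_comap]
      have hKA : IsComponent (K.map S.subtype) := isComponent_map_subtype hSn.isSubnormal hK
      have hKB : K.map S.subtype ≤ B := (Subgroup.map_subtype_le K).trans hSB
      have hKB' := isComponent_subgroupOf hKA hKB
      rw [← Subgroup.map_subgroupOf_eq_of_le hKB]
      apply Subgroup.map_mono
      exact le_sup_of_le_left (le_sSup hKB')
  · apply le_inf
    · unfold generalizedFittingSubgroup
      rw [Subgroup.map_sup]
      apply sup_le_sup
      · exact layer_map_le B hBsn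
      · exact Cfsg.Agent.Lib.Helper9.fitting_map_le_of_subnormal B hBsn
    · exact Subgroup.map_subtype_le _

end Cfsg.Agent.S1320
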