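import Mathlib
import Cfsg.Statements.S1321
import Cfsg.Agent.Lib.Helper10.Components

set_option autoImplicit false
open Cfsg

namespace Cfsg.Agent.S1321

open Cfsg.Agent.Lib.Helper10

theorem result {X : Type*} [Group X] [Finite X] (U : Subgroup X) : Cfsg.layer X = (Cfsg.layer X ⊓ Subgroup.centralizer (U : Set X)) ⊔ ⁅Cfsg.layer X, U⁆ ∧ ⁅Cfsg.layer X, U⁆ ≤ Cfsg.layer X := by
  have hle : ⁅layer X, U⁆ ≤ layer X := Subgroup.commutator_le_left (layer X) U
  refine ⟨le_antisymm ?_ (sup_le inf_le_left hle), hle⟩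
  have hsn := commutator_layer_isSubnormal (G := X) U
  conv_lhs => unfold layer
  apply sSup_le
  intro L hL
  have hLE : L ≤ layer X := component_le_layer hL
  rcases component_le_or_commutator_eq_bot L _ hL hsn with h | h
  · exact le_trans h le_sup_right
  · refine le_trans ?_ le_sup_left
    refine le_inf hLE ?_
    have h0 : ⁅L, ⁅L, U⁆⁆ = ⊥ := by
      rw [eq_bot_iff, ← h]
      exact Subgroup.commutator_mono le_rfl (Subgroup.commutator_mono hLE le_rfl)
    have h1 : ⁅⁅L, U⁆, L⁆ = ⊥ := by rw [Subgroup.commutator_comm]; exact h0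
    have h2 : ⁅⁅U, L⁆, L⁆ = ⊥ := by rw [Subgroup.commutator_comm U L]; exact h1
    have h3 : ⁅⁅L, L⁆, U⁆ = ⊥ := Subgroup.commutator_commutator_eq_bot_of_rotate h1 h2
    rw [isComponent_commutator_self hL] at h3
    exact Subgroup.commutator_eq_bot_iff_le_centralizer.mp h3

end Cfsg.Agent.S1321
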