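import Cfsg.Statements.S1323
import Mathlib
import Cfsg.Agent.Lib.Helper10.LBal1
import Cfsg.Agent.Lib.Helper10.Quasi
import Cfsg.Agent.Lib.Helper10.ExtLayer
import Cfsg.Agent.Lib.Helper9.Quasisimple

set_option autoImplicit false
open Cfsg
open scoped Pointwise

namespace Cfsg.Agent.S1323

open Equiv Equiv.Perm



def dset (n : ℕ) (h4 : 4 ≤ n) : Finset (Fin n) := Finset.univ.map (Fin.castLEEmb h4)

lemma mem_dset (n : ℕ) (h4 : 4 ≤ n) (x : Fin n) : x ∈ dset n h4 ↔ x.val < 4 := by
  unfold dset
  constructor
  · intro h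
    obtain ⟨i, -, rfl⟩ := Finset.mem_map.1 h
    simp
  · intro h
    exact Finset.mem_map.2 ⟨⟨x.val, h⟩, Finset.mem_univ _, by ext; simp⟩

lemma card_dset (n : ℕ) (h4 : 4 ≤ n) : (dset n h4).card = 4 := by
  unfold dset
  simp

lemma card_compl_dset (n : ℕ) (h4 : 4 ≤ n) : ((dset n h4)ᶜ).card = n - 4 := by
  rw [Finset.card_compl, card_dset, Fintype.card_fin]

lemma L_eq (n : ℕ) (h4 : 4 ≤ n) :
    (⨅ i : Fin 4, MulAction.stabilizer ↥(alternatingGroup (Fin n)) (Fin.castLE h4 i : Fin n)) =
      (alternatingGroup.ofSubtype ((dset n h4)ᶜ)).range := by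
  ext k
  rw [alternatingGroup.mem_range_ofSubtype_iff, Subgroup.mem_iInf]
  constructor
  · intro h x hx
    rw [Finset.mem_compl, mem_dset]
    intro hlt
    rw [Equiv.Perm.mem_support] at hx
    apply hx
    have := h ⟨x.val, hlt⟩
    rw [MulAction.mem_stabilizer_iff] at this
    have h2 : Fin.castLE h4 ⟨x.val, hlt⟩ = x := by ext; simp
    rw [h2] at this
    exact this
  · intro h i
    rw [MulAction.mem_stabilizer_iff]
    by_contra hne
    have : Fin.castLE h4 i ∈ (k : Perm (Fin n)).support := by
      rw [Equiv.Perm.mem_support]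
      exact hne
    have h3 := h this
    rw [Finset.mem_compl, mem_dset] at h3
    apply h3
    simp



lemma quasi_alt (β : Type*) [Fintype β] [DecidableEq β] (h5 : 5 ≤ Nat.card β) :
    IsQuasisimple (alternatingGroup β) := by
  have hs : IsSimpleGroup (alternatingGroup β) := alternatingGroup.isSimpleGroup h5
  have hnt : Nontrivial (alternatingGroup β) := hs.toNontrivial
  apply Cfsg.Agent.Lib.Helper10.isQuasisimple_of_forall_normal
  · exact ⟨commutator_alternatingGroup_eq_top h5⟩
  · intro H hH
    rcases hs.eq_bot_or_eq_top_of_normal H hH with h | h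
    · right
      rw [h]
      exact bot_le
    · left
      exact h

lemma quasi_range {n : ℕ} (s : Finset (Fin n)) (h5 : 5 ≤ s.card) :
    IsQuasisimple ↥(alternatingGroup.ofSubtype s).range := by
  have h5' : 5 ≤ Nat.card ↥s := by
    rw [Nat.card_eq_fintype_card, Fintype.card_coe]
    exact h5
  have e : alternatingGroup ↥s ≃* ↥(alternatingGroup.ofSubtype s).range :=
    MonoidHom.ofInjective alternatingGroup.ofSubtype_injective
  exact Cfsg.Agent.Lib.Helper9.isQuasisimple_of_mulEquiv e (quasi_alt ↥s h5')







lemma range_mono {n : ℕ} {s t : Finset (Fin n)} (h : s ⊆ t) :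
    (alternatingGroup.ofSubtype s).range ≤ (alternatingGroup.ofSubtype t).range := by
  intro k
  rw [alternatingGroup.mem_range_ofSubtype_iff, alternatingGroup.mem_range_ofSubtype_iff]
  exact fun hk => hk.trans h

lemma three_cycle_mem {n : ℕ} (s : Finset (Fin n)) (x y z : Fin n) (hx : x ∈ s) (hy : y ∈ s)
    (hz : z ∈ s) (hxy : x ≠ y) (hxz : x ≠ z) (hyz : y ≠ z) :
    ∃ l : alternatingGroup (Fin n), l ∈ (alternatingGroup.ofSubtype s).range ∧
      (l : Perm (Fin n)) x = z ∧ ∀ w, w ≠ x → w ≠ y → w ≠ z → (l : Perm (Fin n)) w = w := by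
  have h3 : (swap x y * swap x z).IsThreeCycle := isThreeCycle_swap_mul_swap_same hxy hxz hyz
  refine ⟨⟨swap x y * swap x z, h3.mem_alternatingGroup⟩, ?_, ?_, ?_⟩
  · rw [alternatingGroup.mem_range_ofSubtype_iff]
    intro w hw
    rw [Equiv.Perm.mem_support] at hw
    by_contra hws
    apply hw
    have h1 : w ≠ x := fun h => hws (h ▸ hx)
    have h2 : w ≠ y := fun h => hws (h ▸ hy)
    have h3 : w ≠ z := fun h => hws (h ▸ hz)
    show (swap x y * swap x z) w = w
    rw [Equiv.Perm.mul_apply, swap_apply_of_ne_of_ne h1 h3, swap_apply_of_ne_of_ne h1 h2]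
  · show (swap x y * swap x z) x = z
    rw [Equiv.Perm.mul_apply, swap_apply_left, swap_apply_of_ne_of_ne hxz.symm hyz.symm]
  · intro w h1 h2 h3
    show (swap x y * swap x z) w = w
    rw [Equiv.Perm.mul_apply, swap_apply_of_ne_of_ne h1 h3, swap_apply_of_ne_of_ne h1 h2]

lemma centralizer_range {n : ℕ} (d : Finset (Fin n)) (h5 : 5 ≤ dᶜ.card) :
    Subgroup.centralizer ((alternatingGroup.ofSubtype dᶜ).range : Set (alternatingGroup (Fin n))) =
      (alternatingGroup.ofSubtype d).range := by
  ext k
  rw [alternatingGroup.mem_range_ofSubtype_iff, Subgroup.mem_centralizer_iff]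
  constructor
  · intro h x hx
    by_contra hxd
    rw [Equiv.Perm.mem_support] at hx
    have hxs : x ∈ dᶜ := Finset.mem_compl.2 hxd
    have hcard : 1 < (dᶜ \ {x, (k : Perm (Fin n)) x}).card := by
      have h1 := Finset.le_card_sdiff ({x, (k : Perm (Fin n)) x}) dᶜ
      have h2 : ({x, (k : Perm (Fin n)) x} : Finset (Fin n)).card ≤ 2 := Finset.card_le_two
      omega
    obtain ⟨y, hy, z, hz, hyz⟩ := Finset.one_lt_card.1 hcard
    rw [Finset.mem_sdiff, Finset.mem_insert, Finset.mem_singleton, not_or] at hy hz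
    obtain ⟨l, hl, hlx, hlw⟩ := three_cycle_mem dᶜ x y z hxs hy.1 hz.1 (Ne.symm hy.2.1)
      (Ne.symm hz.2.1) hyz
    have hc := h l hl
    have hc' : ((l * k : alternatingGroup (Fin n)) : Perm (Fin n)) x =
        ((k * l : alternatingGroup (Fin n)) : Perm (Fin n)) x := by rw [hc]
    rw [Subgroup.coe_mul, Subgroup.coe_mul, Equiv.Perm.mul_apply, Equiv.Perm.mul_apply, hlx,
      hlw _ hx (Ne.symm hy.2.2) (Ne.symm hz.2.2)] at hc'
    exact hz.2.1 ((k : Perm (Fin n)).injective hc').symm
  · intro h l hl
    rw [SetLike.mem_coe, alternatingGroup.mem_range_ofSubtype_iff] at hl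
    have hdisj : Equiv.Perm.Disjoint (l : Perm (Fin n)) (k : Perm (Fin n)) := by
      rw [Equiv.Perm.disjoint_iff_disjoint_support]
      exact Finset.disjoint_of_subset_left hl
        (Finset.disjoint_of_subset_right h disjoint_compl_left)
    apply Subtype.ext
    rw [Subgroup.coe_mul, Subgroup.coe_mul]
    exact hdisj.commute.eq



lemma map_conj_range {n : ℕ} (s : Finset (Fin n)) (g : alternatingGroup (Fin n)) :
    (alternatingGroup.ofSubtype s).range.map (MulAut.conj g).toMonoidHom =
      (alternatingGroup.ofSubtype (g • s)).range :=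
  alternatingGroup.conj_smul_range_ofSubtype s g

lemma range_inf_range {n : ℕ} (s t : Finset (Fin n)) :
    (alternatingGroup.ofSubtype s).range ⊓ (alternatingGroup.ofSubtype t).range =
      (alternatingGroup.ofSubtype (s ∩ t)).range := by
  ext k
  rw [Subgroup.mem_inf, alternatingGroup.mem_range_ofSubtype_iff,
    alternatingGroup.mem_range_ofSubtype_iff, alternatingGroup.mem_range_ofSubtype_iff,
    Finset.subset_inter_iff]

lemma card_range {n : ℕ} (s : Finset (Fin n)) :
    Nat.card ↥(alternatingGroup.ofSubtype s).range = Nat.card (alternatingGroup ↥s) := by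
  have e : alternatingGroup ↥s ≃* ↥(alternatingGroup.ofSubtype s).range :=
    MonoidHom.ofInjective alternatingGroup.ofSubtype_injective
  exact (Nat.card_congr e.toEquiv).symm

lemma card_range_of_two_le {n : ℕ} (s : Finset (Fin n)) (h2 : 2 ≤ s.card) :
    Nat.card ↥(alternatingGroup.ofSubtype s).range = (s.card).factorial / 2 := by
  rw [card_range]
  have hnt : Nontrivial ↥s := by
    rw [← Fintype.one_lt_card_iff_nontrivial, Fintype.card_coe]
    omega
  rw [nat_card_alternatingGroup, Nat.card_eq_fintype_card, Fintype.card_coe]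

lemma odd_card_range {n : ℕ} (s : Finset (Fin n)) (h3 : s.card ≤ 3) :
    Odd (Nat.card ↥(alternatingGroup.ofSubtype s).range) := by
  by_cases h2 : s.card ≤ 2
  · rw [card_range]
    have : alternatingGroup ↥s = ⊥ := by
      apply alternatingGroup.eq_bot_of_card_le_two
      rw [Nat.card_eq_fintype_card, Fintype.card_coe]
      exact h2
    rw [this]
    simp
  · have h : s.card = 3 := by omega
    rw [card_range_of_two_le s (by omega), h]
    decide

lemma odd_inter {n : ℕ} (d : Finset (Fin n)) (hd : d.card = 4) (g : alternatingGroup (Fin n))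
    (hg : g • d ≠ d) :
    Odd (Nat.card ↥((alternatingGroup.ofSubtype d).range ⊓
      (alternatingGroup.ofSubtype d).range.map (MulAut.conj g).toMonoidHom)) := by
  rw [map_conj_range, range_inf_range]
  apply odd_card_range
  by_contra hcard
  push Not at hcard
  have h1 : d ∩ g • d = d := by
    apply Finset.eq_of_subset_of_card_le Finset.inter_subset_left
    omega
  have h2 : d ⊆ g • d := by
    intro x hx
    have hx' : x ∈ d ∩ g • d := by rw [h1]; exact hx
    exact (Finset.mem_inter.1 hx').2
  have h3 : d = g • d := by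
    apply Finset.eq_of_subset_of_card_le h2
    exact (Finset.card_smul_finset g d).le
  exact hg h3.symm

lemma even_card {n : ℕ} (d : Finset (Fin n)) (hd : d.card = 4) :
    Even (Nat.card ↥(alternatingGroup.ofSubtype d).range) := by
  rw [card_range_of_two_le d (by omega), hd]
  decide

lemma mem_normalizer_of_smul_eq {n : ℕ} (d : Finset (Fin n)) (g : alternatingGroup (Fin n))
    (hg : g • d = d) :
    g ∈ Subgroup.normalizer ((alternatingGroup.ofSubtype d).range : Set (alternatingGroup (Fin n))) := by
  rw [← Cfsg.Agent.Lib.Helper10.cj_eq_self_iff, Cfsg.Agent.Lib.Helper10.cj_def, map_conj_range, hg]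


theorem result (n : ℕ) (h4 : 4 ≤ n) (hn : 9 ≤ n) : Cfsg.IsStandardSubgroup (⨅ i : Fin 4, MulAction.stabilizer ↥(alternatingGroup (Fin n)) (Fin.castLE h4 i : Fin n)) := by
  rw [L_eq n h4]
  obtain ⟨d, hd⟩ : ∃ d, d = dset n h4 := ⟨_, rfl⟩
  rw [← hd]
  have hdc : d.card = 4 := by rw [hd]; exact card_dset n h4
  have hsc : dᶜ.card = n - 4 := by rw [hd]; exact card_compl_dset n h4
  have h5 : 5 ≤ dᶜ.card := by omega
  have hC := centralizer_range d h5
  refine ⟨quasi_range _ h5, ?_, ?_, ?_⟩
  · rw [hC]
    refine ⟨even_card d hdc, fun g hg => odd_inter d hdc g ?_⟩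
    intro h
    exact hg (mem_normalizer_of_smul_eq d g h)
  · intro g _ hbot
    rw [Subgroup.commutator_comm, Subgroup.commutator_eq_bot_iff_le_centralizer, hC,
      map_conj_range] at hbot
    have h1 := Subgroup.card_le_of_le hbot
    have hgc : (g • dᶜ).card = n - 4 := by rw [Finset.card_smul_finset, hsc]
    rw [card_range_of_two_le _ (by omega), card_range_of_two_le _ (by omega), hgc, hdc] at h1
    have h2 : Nat.factorial 5 ≤ Nat.factorial (n - 4) := Nat.factorial_le (by omega)
    have h3 : Nat.factorial 5 = 120 := by decide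
    have h4' : Nat.factorial 4 = 24 := by decide
    omega
  · apply le_antisymm
    · exact Cfsg.Agent.Lib.Helper10.normalizer_le_normalizer_centralizer _
    · rw [hC]
      intro g hg
      have hgd : g • d = d := by
        by_contra hne
        have hodd := odd_inter d hdc g hne
        have hcj : (alternatingGroup.ofSubtype d).range.map (MulAut.conj g).toMonoidHom =
            (alternatingGroup.ofSubtype d).range :=
          Cfsg.Agent.Lib.Helper10.cj_eq_self_iff.2 hg
        rw [hcj, inf_idem] at hodd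
        exact (Nat.not_even_iff_odd.2 hodd) (even_card d hdc)
      apply mem_normalizer_of_smul_eq
      apply Finset.coe_injective
      rw [Finset.coe_smul_finset, Finset.coe_compl, Set.smul_set_compl, ← Finset.coe_smul_finset,
        hgd]

end Cfsg.Agent.S1323
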