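import Mathlib
import Cfsg.Statements.S1325
import Cfsg.Agent.Lib.Helper10.Components

set_option autoImplicit false
open Cfsg

namespace Cfsg.Agent.S1325

open Cfsg.Agent.Lib.Helper10

theorem result {X : Type*} [Group X] [Finite X] (Y : Subgroup X) [Y.Normal] (hF : Cfsg.fittingSubgroup X ≤ Y) (hC : Subgroup.centralizer (Y : Set X) ≤ Y) : Cfsg.generalizedFittingSubgroup X ≤ Y := by
  unfold generalizedFittingSubgroup
  refine sup_le ?_ hF
  unfold layer
  apply sSup_le
  intro L hL
  rcases component_le_or_commutator_eq_bot L Y hL (Subgroup.Normal.isSubnormal inferInstance) with h | h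
  · exact h
  · exact le_trans (Subgroup.commutator_eq_bot_iff_le_centralizer.mp h) hC

end Cfsg.Agent.S1325
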