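import Mathlib
import Cfsg.Statements.S1326
import Cfsg.Agent.Lib.Helper10.Components
import Cfsg.Agent.Lib.helper23.Fitting
import Cfsg.Agent.S1265

set_option autoImplicit false
open Cfsg

namespace Cfsg.Agent.S1326

open Cfsg.Agent.Lib.Helper10

theorem result {X : Type*} [Group X] [Finite X] : Subgroup.centralizer (Cfsg.fittingSubgroup X : Set X) ≤ Cfsg.fittingSubgroup X ↔ Cfsg.layer X = ⊥ := by
  constructor
  · intro h
    have hle : layer X ≤ fittingSubgroup X :=
      le_trans (Subgroup.commutator_eq_bot_iff_le_centralizer.mp commutator_layer_fitting) h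
    have hnil : Group.IsNilpotent (fittingSubgroup X) :=
      Cfsg.Agent.Lib.helper23.fittingSubgroup_isNilpotent X
    have hsolv : Group.IsSolvable (fittingSubgroup X) := inferInstance
    unfold layer
    rw [sSup_eq_bot]
    intro L hL
    exact absurd (le_trans (component_le_layer hL) hle) (isComponent_not_le_of_isSolvable hL hsolv)
  · intro h
    have h1 := Cfsg.Agent.S1265.result (G := X)
    unfold generalizedFittingSubgroup at h1
    rw [h, bot_sup_eq] at h1
    exact h1

end Cfsg.Agent.S1326
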