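import Cfsg.Statements.S1328
import Cfsg.Agent.Lib.Helper10.CoreComp
import Cfsg.Agent.Lib.Helper10.SigTrans

set_option autoImplicit false
open Cfsg

namespace Cfsg.Agent.S1328

open Cfsg.Agent.Lib.Helper10 Cfsg.Agent.Lib.Helper9 Cfsg.Agent.S1271
open scoped commutatorElement

theorem result {G : Type*} [Group G] [Finite G] (H : Subgroup G) (hO : Cfsg.oddCore ↥H = ⊥) (t : G) (ht : orderOf t = 2) (htH : t ∈ Subgroup.normalizer (H : Set G)) (Y : Subgroup G) (hY1 : Y ≠ ⊥) (hY : Y ≤ (Cfsg.oddCore ↥(H ⊓ Subgroup.centralizer ({t} : Set G))).map (H ⊓ Subgroup.centralizer ({t} : Set G)).subtype) : ∃ E : Subgroup ↥H, Cfsg.IsComponent E ∧ (E.map H.subtype).map (MulAut.conj t).toMonoidHom = E.map H.subtype ∧ Y ≤ Subgroup.normalizer ((E.map H.subtype : Subgroup G) : Set G) ∧ ¬ (t ∈ Subgroup.centralizer ((E.map H.subtype : Subgroup G) : Set G)) ∧ ¬ (Y ≤ Subgroup.centralizer ((E.map H.subtype : Subgroup G) : Set G))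 := by
  have hp2 : Fact (Nat.Prime 2) := ⟨Nat.prime_two⟩
  obtain ⟨M, hM⟩ : ∃ M, M = H ⊔ Subgroup.zpowers t := ⟨_, rfl⟩
  have hHM : H ≤ M := hM ▸ le_sup_left
  have htM : t ∈ M := hM ▸ (le_sup_right : Subgroup.zpowers t ≤ H ⊔ Subgroup.zpowers t)
    (Subgroup.mem_zpowers t)
  have hMN : M ≤ Subgroup.normalizer (H : Set G) := hM ▸ sup_le_normalizer htH
  have hOM : pPrimeCore 2 ↥M = ⊥ := hM ▸ pPrimeCore_sup_eq_bot ht htH hO
  have hY' : Y ≤ coreOf 2 (H ⊓ Subgroup.centralizer ({t} : Set G)) := hY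
  have hYH : Y ≤ H := hY'.trans ((coreOf_le 2 _).trans inf_le_left)
  have hYM : Y ≤ M := hYH.trans hHM
  have ht' : orderOf (⟨t, htM⟩ : ↥M) = 2 := by
    rw [← ht]; exact Subgroup.orderOf_mk t htM
  have hcore : coreOf 2 (H ⊓ Subgroup.centralizer ({t} : Set G)) ≤
      coreOf 2 (M ⊓ Subgroup.centralizer ({t} : Set G)) := by
    apply le_coreOf 2 ((coreOf_le 2 _).trans (inf_le_inf_right _ hHM))
    · refine le_trans ?_ (coreOf_normalizer_le 2 _)
      exact le_normalizer_inf_of_le (inf_le_left.trans hMN) (inf_le_right.trans Subgroup.le_normalizer)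
    · exact coreOf_card_coprime 2 _
  have hYsub : Y.subgroupOf M ≤
      coreOf 2 (Subgroup.centralizer ({(⟨t, htM⟩ : ↥M)} : Set ↥M)) := by
    intro y hy
    have h1 : (y : G) ∈ coreOf 2 (M ⊓ Subgroup.centralizer ({t} : Set G)) :=
      hcore (hY' (Subgroup.mem_subgroupOf.1 hy))
    have h2 := centralizer_singleton_map_subtype M (⟨t, htM⟩ : ↥M)
    rw [← h2, ← coreOf_map_subtype] at h1
    obtain ⟨z, hz, hzy⟩ := h1
    have : z = y := Subtype.ext hzy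
    rw [← this]; exact hz
  have hYsub1 : Y.subgroupOf M ≠ ⊥ := by
    intro h
    apply hY1
    rw [Subgroup.eq_bot_iff_forall]
    intro y hy
    have h1 : (⟨y, hYM hy⟩ : ↥M) ∈ Y.subgroupOf M := Subgroup.mem_subgroupOf.2 hy
    rw [h, Subgroup.mem_bot] at h1
    exact congrArg Subtype.val h1
  obtain ⟨L, hL, hLt, hYN, hYC⟩ :=
    exists_component_of_core 2 hOM (⟨t, htM⟩ : ↥M) ht' (Y.subgroupOf M) hYsub hYsub1
  obtain ⟨L₀, hL₀⟩ : ∃ L₀, L₀ = L.map M.subtype := ⟨_, rfl⟩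
  have hL₀M : L₀ ≤ M := hL₀ ▸ Subgroup.map_subtype_le _
  have hLperf : ⁅L, L⁆ = L := isComponent_commutator_self hL
  have hL₀perf : ⁅L₀, L₀⁆ = L₀ := by
    rw [hL₀, ← Subgroup.map_commutator, hLperf]
  have hL₀H : L₀ ≤ H := by
    rw [← hL₀perf, Subgroup.commutator_le]
    intro a ha b hb
    exact commutator_mem_of_mem_sup ht htH (hM ▸ hL₀M ha) (hM ▸ hL₀M hb)
  have hLsub : L ≤ H.subgroupOf M := by
    intro l hl
    rw [Subgroup.mem_subgroupOf]
    apply hL₀H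
    rw [hL₀]
    exact ⟨l, hl, rfl⟩
  have hcomp1 : IsComponent (L.subgroupOf (H.subgroupOf M)) :=
    Cfsg.Agent.Lib.Helper10.isComponent_subgroupOf hL hLsub
  have hcomp2 := isComponent_map_equiv (Subgroup.subgroupOfEquivOfLe hHM) hcomp1
  have hEeq : (L.subgroupOf (H.subgroupOf M)).map (Subgroup.subgroupOfEquivOfLe hHM).toMonoidHom =
      L₀.subgroupOf H := by
    ext z
    constructor
    · rintro ⟨c, hc, hcz⟩
      have hc' : (c : ↥M) ∈ L := Subgroup.mem_subgroupOf.1 hc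
      have h3 : ((c : ↥M) : G) = (z : G) := by
        rw [← hcz]; rfl
      apply Subgroup.mem_subgroupOf.2
      rw [hL₀, ← h3]
      exact ⟨(c : ↥M), hc', rfl⟩
    · intro hz
      have hz' := Subgroup.mem_subgroupOf.1 hz
      rw [hL₀] at hz'
      obtain ⟨l, hl, hlz⟩ := hz'
      have hl' : l ∈ L := hl
      refine ⟨⟨l, hLsub hl'⟩, Subgroup.mem_subgroupOf.2 hl', ?_⟩
      apply Subtype.ext
      exact hlz
  rw [hEeq] at hcomp2
  refine ⟨L₀.subgroupOf H, hcomp2, ?_⟩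
  rw [Subgroup.map_subgroupOf_eq_of_le hL₀H]
  have htN : (⟨t, htM⟩ : ↥M) ∈ Subgroup.normalizer (L : Set ↥M) := by
    apply mem_normalizer_of_conj_mem_finite
    intro u hu
    have h1 : ⁅u⁻¹, (⟨t, htM⟩ : ↥M)⁆ ∈ ⁅L, Subgroup.zpowers (⟨t, htM⟩ : ↥M)⁆ :=
      Subgroup.commutator_mem_commutator (L.inv_mem hu) (Subgroup.mem_zpowers _)
    rw [hLt] at h1
    have h2 : (⟨t, htM⟩ : ↥M) * u * (⟨t, htM⟩ : ↥M)⁻¹ = u * ⁅u⁻¹, (⟨t, htM⟩ : ↥M)⁆ := by
      rw [commutatorElement_def]; group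
    rw [h2]
    exact L.mul_mem hu h1
  refine ⟨?_, ?_, ?_, ?_⟩
  · rw [hL₀, Subgroup.map_map]
    have h3 : (MulAut.conj t).toMonoidHom.comp M.subtype =
        M.subtype.comp (MulAut.conj (⟨t, htM⟩ : ↥M)).toMonoidHom := rfl
    rw [h3, ← Subgroup.map_map]
    have h1 : L.map (MulAut.conj (⟨t, htM⟩ : ↥M)).toMonoidHom = L := cj_eq_self_iff.2 htN
    rw [h1]
  · intro y hy
    have h1 : (⟨y, hYM hy⟩ : ↥M) ∈ Subgroup.normalizer (L : Set ↥M) :=
      hYN (Subgroup.mem_subgroupOf.2 hy)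
    rw [Subgroup.mem_normalizer_iff] at h1 ⊢
    intro l
    rw [hL₀]
    constructor
    · rintro ⟨l', hl', rfl⟩
      exact ⟨_, (h1 l').1 hl', rfl⟩
    · rintro ⟨l', hl', hll⟩
      have h2 := (h1 (⟨y, hYM hy⟩⁻¹ * l' * ⟨y, hYM hy⟩)).2 (by
        have : (⟨y, hYM hy⟩ : ↥M) * (⟨y, hYM hy⟩⁻¹ * l' * ⟨y, hYM hy⟩) * (⟨y, hYM hy⟩ : ↥M)⁻¹ = l' := by
          group
        rw [this]; exact hl')
      refine ⟨_, h2, ?_⟩
      have h3 : M.subtype (⟨y, hYM hy⟩⁻¹ * l' * ⟨y, hYM hy⟩) = y⁻¹ * (l' : G) * y := by simp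
      rw [h3]
      have h4 : (l' : G) = y * l * y⁻¹ := hll
      rw [h4]; group
  · intro htC
    have h1 : ⁅L, Subgroup.zpowers (⟨t, htM⟩ : ↥M)⁆ = ⊥ := by
      rw [Subgroup.commutator_eq_bot_iff_le_centralizer]
      intro l hl
      rw [Subgroup.mem_centralizer_iff]
      intro z hz
      obtain ⟨k, rfl⟩ := Subgroup.mem_zpowers_iff.1 hz
      have h2 : Commute (⟨t, htM⟩ : ↥M) l := by
        rw [Subgroup.mem_centralizer_iff] at htC
        have h3 : (l : G) * t = t * (l : G) := htC (l : G) (by rw [hL₀]; exact ⟨l, hl, rfl⟩)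
        apply Subtype.ext
        exact h3.symm
      exact (h2.zpow_left k).eq
    rw [hLt] at h1
    exact isComponent_ne_bot hL h1
  · intro hYC'
    apply hYC
    intro y hy
    rw [Subgroup.mem_centralizer_iff]
    intro l hl
    have h1 := hYC' (Subgroup.mem_subgroupOf.1 hy)
    rw [Subgroup.mem_centralizer_iff] at h1
    have h3 : (l : G) * (y : G) = (y : G) * (l : G) := h1 (l : G) (by rw [hL₀]; exact ⟨l, hl, rfl⟩)
    apply Subtype.ext
    exact h3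

end Cfsg.Agent.S1328
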