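import Mathlib
import Cfsg.Statements.S1335

set_option autoImplicit false
open Cfsg

namespace Cfsg.Agent.S1335

lemma not_pRankLE_of_equiv {A B : Type*} [Group A] [Group B] (e : A ≃* B) (p k : ℕ)
    (h : ¬ PRankLE p k A) : ¬ PRankLE p k B := by
  intro hB
  apply h
  intro S hS hexp
  have h1 := hB (S.map e.toMonoidHom) ?_ ?_
  · rwa [Subgroup.card_map_of_injective e.injective] at h1
  · constructor
    constructor
    rintro ⟨x, hx⟩ ⟨y, hy⟩
    obtain ⟨a, ha, rfl⟩ := Subgroup.mem_map.mp hx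
    obtain ⟨b, hb, rfl⟩ := Subgroup.mem_map.mp hy
    apply Subtype.ext
    show e.toMonoidHom a * e.toMonoidHom b = e.toMonoidHom b * e.toMonoidHom a
    rw [← map_mul, ← map_mul]
    have := hS.is_comm.comm ⟨a, ha⟩ ⟨b, hb⟩
    have h2 : a * b = b * a := congrArg Subtype.val this
    rw [h2]
  · intro x hx
    obtain ⟨a, ha, rfl⟩ := Subgroup.mem_map.mp hx
    rw [← map_pow, hexp a ha, map_one]

theorem result {G : Type*} [Group G] [Finite G] {p : ℕ} [Fact p.Prime] (k : ℕ) (hk : 1 ≤ k) (H : Subgroup G) (P : Sylow p ↥H) (hP : ¬ Cfsg.PRankLE p (k - 1) ↥(P : Subgroup ↥H)) (hΓ : (∀ X : Subgroup G, X ≤ (P : Subgroup ↥H).map H.subtype → ¬ Cfsg.PRankLE p (k - 1) ↥X → Subgroup.normalizer (X : Set G) ≤ H)) : ∃ Q : Sylow p G, (Q : Subgroup G) = (P : Subgroup ↥H).map H.subtype := by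
  set P' : Subgroup G := (P : Subgroup ↥H).map H.subtype with hP'
  have hinj : Function.Injective H.subtype := H.subtype_injective
  have hrank : ¬ PRankLE p (k - 1) ↥P' :=
    not_pRankLE_of_equiv ((P : Subgroup ↥H).equivMapOfInjective H.subtype hinj) p (k - 1) hP
  have hN : Subgroup.normalizer (P' : Set G) ≤ H := hΓ P' le_rfl hrank
  have hPp : IsPGroup p P' := P.2.map H.subtype
  obtain ⟨Q, hQ⟩ := hPp.exists_le_sylow
  refine ⟨Q, ?_⟩
  by_contra hne
  have hlt : P' < (Q : Subgroup G) := lt_of_le_of_ne hQ (Ne.symm hne)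
  have hPH : P' ≤ H := by
    rw [hP']
    intro x hx
    obtain ⟨y, _, rfl⟩ := Subgroup.mem_map.mp hx
    exact y.2
  have : Group.IsNilpotent (Q : Subgroup G) := Q.2.isNilpotent
  have hnc : NormalizerCondition (Q : Subgroup G) := Group.normalizerCondition_of_isNilpotent
  have hlt' : P'.subgroupOf (Q : Subgroup G) < ⊤ := by
    rw [lt_top_iff_ne_top]
    intro h
    rw [Subgroup.subgroupOf_eq_top] at h
    exact hne (le_antisymm h hQ)
  have h2 := hnc _ hlt'
  obtain ⟨x, hxN, hxP⟩ := SetLike.exists_of_lt h2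
  rw [← Subgroup.subgroupOf_normalizer_eq hQ] at hxN
  have hxN' : (x : G) ∈ Subgroup.normalizer (P' : Set G) := hxN
  have hxH : (x : G) ∈ H := hN hxN'
  have hxP' : (x : G) ∉ P' := hxP
  let R : Subgroup G := (Q : Subgroup G) ⊓ Subgroup.normalizer (P' : Set G)
  have hRp : IsPGroup p R := Q.2.to_le inf_le_left
  have hRH : R ≤ H := le_trans inf_le_right hN
  have hPR : P' ≤ R := le_inf hQ Subgroup.le_normalizer
  have hRp' : IsPGroup p (R.subgroupOf H) :=
    IsPGroup.comap_of_injective hRp H.subtype hinj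
  have hPle : (P : Subgroup ↥H) ≤ R.subgroupOf H := by
    intro y hy
    rw [Subgroup.mem_subgroupOf]
    apply hPR
    exact Subgroup.mem_map_of_mem _ hy
  have heq := P.is_maximal' hRp' hPle
  have : (⟨(x : G), hxH⟩ : H) ∈ R.subgroupOf H := by
    rw [Subgroup.mem_subgroupOf]
    exact ⟨x.2, hxN'⟩
  rw [heq] at this
  apply hxP'
  exact Subgroup.mem_map.mpr ⟨⟨(x : G), hxH⟩, this, rfl⟩

end Cfsg.Agent.S1335
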