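import Cfsg.Statements.S1336
import Cfsg.Agent.Lib.Helper10.LBal1
import Cfsg.Agent.Lib.Helper9.SylowConj

set_option autoImplicit false
open Cfsg

namespace Cfsg.Agent.S1336

open Cfsg.Agent.Lib.Helper10

section

variable {G : Type*} [Group G]

def Vx (p : ℕ) (A : Subgroup G) : Prop := IsElementaryAbelian p A ∧ p ^ 1 ≤ Nat.card ↥A

def Rel (p : ℕ) (A B : Subgroup G) : Prop :=
  IsElementaryAbelian p A ∧ p ^ 1 ≤ Nat.card ↥A ∧ IsElementaryAbelian p B ∧
    p ^ 1 ≤ Nat.card ↥B ∧ ∀ a ∈ A, ∀ b ∈ B, a * b = b * a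

def Conn (p : ℕ) (A B : Subgroup G) : Prop := Relation.ReflTransGen (Rel p) A B

theorem rel_symm (p : ℕ) {A B : Subgroup G} (h : Rel p A B) : Rel p B A := by
  obtain ⟨h1, h2, h3, h4, h5⟩ := h
  exact ⟨h3, h4, h1, h2, fun b hb a ha => (h5 a ha b hb).symm⟩

theorem conn_symm (p : ℕ) {A B : Subgroup G} (h : Conn p A B) : Conn p B A := by
  induction h with
  | refl => exact Relation.ReflTransGen.refl
  | tail _ hbc ih => exact Relation.ReflTransGen.head (rel_symm p hbc) ih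

theorem conn_trans (p : ℕ) {A B C : Subgroup G} (h : Conn p A B) (h' : Conn p B C) :
    Conn p A C := Relation.ReflTransGen.trans h h'

theorem vx_cj (p : ℕ) {A : Subgroup G} (g : G) (h : Vx p A) : Vx p (cj g A) := by
  obtain ⟨⟨h1, h2⟩, h3⟩ := h
  refine ⟨⟨⟨⟨?_⟩⟩, ?_⟩, ?_⟩
  · rintro ⟨x, hx⟩ ⟨y, hy⟩
    rw [mem_cj] at hx hy
    have hc : (g⁻¹ * x * g) * (g⁻¹ * y * g) = (g⁻¹ * y * g) * (g⁻¹ * x * g) := by
      have := h1.is_comm.comm ⟨_, hx⟩ ⟨_, hy⟩
      exact congrArg Subtype.val this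
    apply Subtype.ext
    show x * y = y * x
    have e1 : x * y = g * ((g⁻¹ * x * g) * (g⁻¹ * y * g)) * g⁻¹ := by group
    have e2 : y * x = g * ((g⁻¹ * y * g) * (g⁻¹ * x * g)) * g⁻¹ := by group
    rw [e1, e2, hc]
  · intro a ha
    rw [mem_cj] at ha
    have := h2 _ ha
    have e : a ^ p = g * (g⁻¹ * a * g) ^ p * g⁻¹ := by
      rw [← conj_pow]
      congr 1
      group
    rw [e, this]; group
  · have : Nat.card ↥(cj g A) = Nat.card ↥A := by
      rw [cj_def]
      exact Nat.card_congr (A.equivMapOfInjective _ (MulAut.conj g).injective).symm.toEquiv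
    rw [this]; exact h3

theorem rel_cj (p : ℕ) {A B : Subgroup G} (g : G) (h : Rel p A B) : Rel p (cj g A) (cj g B) := by
  obtain ⟨h1, h2, h3, h4, h5⟩ := h
  obtain ⟨a1, a2⟩ := vx_cj p g ⟨h1, h2⟩
  obtain ⟨b1, b2⟩ := vx_cj p g ⟨h3, h4⟩
  refine ⟨a1, a2, b1, b2, ?_⟩
  intro x hx y hy
  rw [mem_cj] at hx hy
  have hc := h5 _ hx _ hy
  have e1 : x * y = g * ((g⁻¹ * x * g) * (g⁻¹ * y * g)) * g⁻¹ := by group
  have e2 : y * x = g * ((g⁻¹ * y * g) * (g⁻¹ * x * g)) * g⁻¹ := by group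
  rw [e1, e2, hc]

theorem conn_cj (p : ℕ) {A B : Subgroup G} (g : G) (h : Conn p A B) :
    Conn p (cj g A) (cj g B) := by
  induction h with
  | refl => exact Relation.ReflTransGen.refl
  | tail _ hbc ih => exact Relation.ReflTransGen.tail ih (rel_cj p g hbc)

end

section Fin

variable {G : Type*} [Group G] [Finite G]

theorem vx_dvd (p : ℕ) [Fact p.Prime] {A : Subgroup G} (h : Vx p A) : p ∣ Nat.card ↥A := by
  have hp : p.Prime := Fact.out
  have hA : IsPGroup p ↥A := by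
    intro a
    refine ⟨1, ?_⟩
    apply Subtype.ext
    have := h.1.2 a.1 a.2
    simpa using this
  obtain ⟨n, hn⟩ := hA.exists_card_eq
  have h2 := h.2
  rw [hn] at h2 ⊢
  rcases Nat.eq_zero_or_pos n with h0 | h0
  · subst h0
    simp at h2
    exact absurd h2 (by have := hp.two_le; omega)
  · exact dvd_pow_self p (by omega)

omit [Finite G] in
theorem vx_isPGroup (p : ℕ) {A : Subgroup G} (h : Vx p A) : IsPGroup p ↥A := by
  intro a
  refine ⟨1, ?_⟩
  apply Subtype.ext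
  have := h.1.2 a.1 a.2
  simpa using this

omit [Finite G] in
theorem vx_zpowers (p : ℕ) [Fact p.Prime] {x : G} (hx : orderOf x = p) :
    Vx p (Subgroup.zpowers x) := by
  refine ⟨⟨inferInstance, ?_⟩, ?_⟩
  · intro a ha
    obtain ⟨k, rfl⟩ := Subgroup.mem_zpowers_iff.1 ha
    rw [← zpow_natCast, ← zpow_mul, mul_comm, zpow_mul, zpow_natCast, ← hx, pow_orderOf_eq_one,
      one_zpow]
  · rw [Nat.card_zpowers, hx, pow_one]

theorem conn_of_le_pGroup (p : ℕ) [Fact p.Prime] {P A B : Subgroup G} (hP : IsPGroup p ↥P)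
    (hA : Vx p A) (hB : Vx p B) (hAP : A ≤ P) (hBP : B ≤ P) : Conn p A B := by
  have hp : p.Prime := Fact.out
  have hdvd : p ∣ Nat.card ↥A := vx_dvd p hA
  have hnt : Nontrivial ↥P := by
    have : 1 < Nat.card ↥P := by
      have h1 : Nat.card ↥A ∣ Nat.card ↥P := Subgroup.card_dvd_of_le hAP
      have h2 := Nat.le_of_dvd Nat.card_pos (hdvd.trans h1)
      have := hp.two_le
      omega
    exact Finite.one_lt_card_iff_nontrivial.1 this
  have hc : Nontrivial ↥(Subgroup.center ↥P) := hP.center_nontrivial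
  have hcp : IsPGroup p ↥(Subgroup.center ↥P) := hP.to_subgroup _
  have hcd : p ∣ Nat.card ↥(Subgroup.center ↥P) := by
    obtain ⟨n, hn⟩ := hcp.exists_card_eq
    rw [hn]
    rcases Nat.eq_zero_or_pos n with h0 | h0
    · subst h0
      have : 1 < Nat.card ↥(Subgroup.center ↥P) := Finite.one_lt_card_iff_nontrivial.2 hc
      rw [hn, pow_zero] at this
      omega
    · exact dvd_pow_self p (by omega)
  obtain ⟨z, hz⟩ := exists_prime_orderOf_dvd_card' p hcd
  have hz' : orderOf ((z : ↥P) : G) = p := by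
    rw [Subgroup.orderOf_coe, Subgroup.orderOf_coe]; exact hz
  have hzc : ∀ y ∈ P, ((z : ↥P) : G) * y = y * ((z : ↥P) : G) := by
    intro y hy
    have := Subgroup.mem_center_iff.1 z.2 ⟨y, hy⟩
    have := congrArg Subtype.val this
    simpa using this.symm
  have hZ := vx_zpowers p hz'
  have hcomm : ∀ C : Subgroup G, C ≤ P → ∀ a ∈ C, ∀ b ∈ Subgroup.zpowers ((z : ↥P) : G),
      a * b = b * a := by
    intro C hC a ha b hb
    obtain ⟨k, rfl⟩ := Subgroup.mem_zpowers_iff.1 hb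
    have : Commute ((z : ↥P) : G) a := hzc a (hC ha)
    exact (this.zpow_left k).eq.symm
  have r1 : Rel p A (Subgroup.zpowers ((z : ↥P) : G)) :=
    ⟨hA.1, hA.2, hZ.1, hZ.2, hcomm A hAP⟩
  have r2 : Rel p (Subgroup.zpowers ((z : ↥P) : G)) B :=
    ⟨hZ.1, hZ.2, hB.1, hB.2, fun b hb a ha => (hcomm B hBP a ha b hb).symm⟩
  exact Relation.ReflTransGen.trans (Relation.ReflTransGen.single r1)
    (Relation.ReflTransGen.single r2)

def stab (p : ℕ) (E : Subgroup G) : Subgroup G where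
  carrier := {g | Conn p (cj g E) E}
  one_mem' := by
    show Conn p (cj 1 E) E
    rw [cj_one]; exact Relation.ReflTransGen.refl
  mul_mem' := by
    intro a b ha hb
    show Conn p (cj (a * b) E) E
    rw [cj_mul]
    exact conn_trans p (conn_cj p a hb) ha
  inv_mem' := by
    intro a ha
    show Conn p (cj a⁻¹ E) E
    have := conn_cj p a⁻¹ ha
    rw [cj_inv_cj] at this
    exact conn_symm p this

omit [Finite G] in
theorem mem_stab (p : ℕ) (E : Subgroup G) (g : G) : g ∈ stab p E ↔ Conn p (cj g E) E := Iff.rfl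

theorem le_cj_iff_of_all {A : Subgroup G} {x : G} {q : G → Prop}
    (h : ∀ a ∈ A, q (x * a * x⁻¹)) : ∀ b ∈ cj x A, q b := by
  intro b hb
  rw [mem_cj] at hb
  have := h _ hb
  have e : x * (x⁻¹ * b * x) * x⁻¹ = b := by group
  rwa [e] at this

theorem conn_of_le_stab (p : ℕ) [Fact p.Prime] {E A : Subgroup G} (hE : Vx p E)
    (hEH : E ≤ stab p E) (hA : Vx p A) (hAH : A ≤ stab p E) : Conn p A E := by
  obtain ⟨c, hc, R, hR, -, hER, hAR⟩ :=
    Cfsg.Agent.Lib.Helper9.exists_conj_into_common_pgroup (p := p) (stab p E) E A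
      (vx_isPGroup p hE) (vx_isPGroup p hA) hEH hAH
  have h1 : cj c A ≤ R := fun b hb => le_cj_iff_of_all (q := fun y => y ∈ R) hAR b hb
  have h2 : Conn p (cj c A) E := conn_of_le_pGroup p hR (vx_cj p c hA) hE h1 hER
  have h3 := conn_cj p c⁻¹ h2
  rw [cj_inv_cj] at h3
  have h4 : Conn p (cj c⁻¹ E) E := (mem_stab p E c⁻¹).1 (inv_mem hc)
  exact conn_trans p h3 h4

theorem self_le_stab (p : ℕ) (E : Subgroup G) : E ≤ stab p E := by
  intro e he
  rw [mem_stab]
  have : cj e E = E := cj_eq_self_iff.2 (Subgroup.le_normalizer he)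
  rw [this]
  exact Relation.ReflTransGen.refl

theorem backward (p : ℕ) [Fact p.Prime] (h : ¬ Cfsg.IsKConnected p 1 G) :
    ∃ H : Subgroup G, H ≠ ⊤ ∧ p ∣ Nat.card ↥H ∧ ∀ g : G, g ∉ H →
      ¬ p ∣ Nat.card ↥(H ⊓ H.map (MulAut.conj g).toMonoidHom) := by
  unfold Cfsg.IsKConnected at h
  push Not at h
  obtain ⟨E, E', hE1, hE2, hE'1, hE'2, hn⟩ := h
  have hE : Vx p E := ⟨hE1, hE2⟩
  have hE' : Vx p E' := ⟨hE'1, hE'2⟩
  have hn' : ¬ Conn p E E' := hn
  refine ⟨stab p E, ?_, ?_, ?_⟩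
  · intro htop
    obtain ⟨c, -, R, hR, -, hER, hAR⟩ :=
      Cfsg.Agent.Lib.Helper9.exists_conj_into_common_pgroup (p := p) (⊤ : Subgroup G) E E'
        (vx_isPGroup p hE) (vx_isPGroup p hE') le_top le_top
    have h1 : cj c E' ≤ R := fun b hb => le_cj_iff_of_all (q := fun y => y ∈ R) hAR b hb
    have h2 : Conn p (cj c E') E := conn_of_le_pGroup p hR (vx_cj p c hE') hE h1 hER
    have h3 := conn_cj p c⁻¹ h2
    rw [cj_inv_cj] at h3
    have hc : c⁻¹ ∈ stab p E := by rw [htop]; exact Subgroup.mem_top _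
    have h4 : Conn p (cj c⁻¹ E) E := (mem_stab p E c⁻¹).1 hc
    exact hn' (conn_symm p (conn_trans p h3 h4))
  · exact (vx_dvd p hE).trans (Subgroup.card_dvd_of_le (self_le_stab p E))
  · intro g hg hdvd
    apply hg
    obtain ⟨x, hx⟩ := exists_prime_orderOf_dvd_card' p hdvd
    have hx' : orderOf ((x : ↥(stab p E ⊓ (stab p E).map (MulAut.conj g).toMonoidHom)) : G) = p := by
      rw [Subgroup.orderOf_coe]; exact hx
    have hX := vx_zpowers p hx'
    have hxm := x.2
    rw [Subgroup.mem_inf] at hxm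
    have hX1 : Subgroup.zpowers (x : G) ≤ stab p E := by
      rw [Subgroup.zpowers_le]; exact hxm.1
    have hX2 : cj g⁻¹ (Subgroup.zpowers (x : G)) ≤ stab p E := by
      have h0 : Subgroup.zpowers (x : G) ≤ cj g (stab p E) := by
        rw [Subgroup.zpowers_le]; exact hxm.2
      have := cj_mono g⁻¹ h0
      rwa [cj_inv_cj] at this
    have c1 : Conn p (Subgroup.zpowers (x : G)) E :=
      conn_of_le_stab p hE (self_le_stab p E) hX hX1
    have c2 : Conn p (cj g⁻¹ (Subgroup.zpowers (x : G))) E :=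
      conn_of_le_stab p hE (self_le_stab p E) (vx_cj p g⁻¹ hX) hX2
    have c3 := conn_cj p g c2
    rw [cj_cj_inv] at c3
    rw [mem_stab]
    exact conn_trans p (conn_symm p c3) c1

theorem forward (p : ℕ) [Fact p.Prime] (H : Subgroup G) (hH : H ≠ ⊤) (hp : p ∣ Nat.card ↥H)
    (hS : ∀ g : G, g ∉ H → ¬ p ∣ Nat.card ↥(H ⊓ H.map (MulAut.conj g).toMonoidHom)) :
    ¬ Cfsg.IsKConnected p 1 G := by
  intro hK
  obtain ⟨x, hx⟩ := exists_prime_orderOf_dvd_card' p hp
  have hx' : orderOf ((x : ↥H) : G) = p := by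
    rw [Subgroup.orderOf_coe]; exact hx
  have hX := vx_zpowers p hx'
  have hXH : Subgroup.zpowers (x : G) ≤ H := by
    rw [Subgroup.zpowers_le]; exact x.2
  have hg : ∃ g : G, g ∉ H := by
    by_contra hcon
    push Not at hcon
    exact hH (eq_top_iff.2 fun y _ => hcon y)
  obtain ⟨g, hg⟩ := hg
  have step : ∀ A B : Subgroup G, Rel p A B → A ≤ H → B ≤ H := by
    intro A B hAB hA b hb
    by_contra hbH
    apply hS b hbH
    have hdA : p ∣ Nat.card ↥A := vx_dvd p ⟨hAB.1, hAB.2.1⟩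
    refine hdA.trans (Subgroup.card_dvd_of_le ?_)
    refine le_inf hA ?_
    intro a ha
    show a ∈ cj b H
    rw [mem_cj]
    have hc := hAB.2.2.2.2 a ha b hb
    have e : b⁻¹ * a * b = a := by
      rw [mul_assoc, hc, ← mul_assoc, inv_mul_cancel, one_mul]
    rw [e]; exact hA ha
  have hcg := vx_cj p g hX
  have hconn : Conn p (Subgroup.zpowers (x : G)) (cj g (Subgroup.zpowers (x : G))) :=
    hK _ _ hX.1 hX.2 hcg.1 hcg.2
  have hle : cj g (Subgroup.zpowers (x : G)) ≤ H := by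
    have : ∀ B : Subgroup G, Conn p (Subgroup.zpowers (x : G)) B → B ≤ H := by
      intro B hB
      induction hB with
      | refl => exact hXH
      | tail _ hbc ih => exact step _ _ hbc ih
    exact this _ hconn
  apply hS g hg
  refine (vx_dvd p hcg).trans (Subgroup.card_dvd_of_le ?_)
  exact le_inf hle (cj_mono g hXH)

end Fin

/-- Let G be finite and p prime. Then G has a proper subgroup H with p ∣ |H| and p ∤ |H ∩ gHg⁻¹| for every g ∉ H (a strongly p-embedded subgroup) if and only if G is not 1-connected for p. -/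
theorem result {G : Type*} [Group G] [Finite G] (p : ℕ) [Fact p.Prime] : (∃ H : Subgroup G, H ≠ ⊤ ∧ p ∣ Nat.card ↥H ∧ ∀ g : G, g ∉ H → ¬ p ∣ Nat.card ↥(H ⊓ H.map (MulAut.conj g).toMonoidHom)) ↔ ¬ Cfsg.IsKConnected p 1 G := by
  constructor
  · rintro ⟨H, h1, h2, h3⟩
    exact forward p H h1 h2 h3
  · exact backward p

end Cfsg.Agent.S1336
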