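import Cfsg.Statements.S1339
import Cfsg.Agent.Lib.Helper9.FStarP

set_option autoImplicit false
set_option maxHeartbeats 800000
open Cfsg

namespace Cfsg.Agent.S1339

theorem field_two_cases {F : Type*} [Field F] [Fintype F] (hF : Fintype.card F = 2) (x : F) :
    x = 0 ∨ x = 1 := by
  classical
  by_contra h
  rw [not_or] at h
  have h3 : ({0, 1, x} : Finset F).card = 3 := by
    rw [Finset.card_insert_of_notMem, Finset.card_insert_of_notMem, Finset.card_singleton]
    · rw [Finset.mem_singleton]
      exact fun h1 => h.2 h1.symm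
    · rw [Finset.mem_insert, Finset.mem_singleton, not_or]
      exact ⟨zero_ne_one, fun h1 => h.1 h1.symm⟩
  have h4 := Finset.card_le_univ ({0, 1, x} : Finset F)
  omega

theorem field_two_add {F : Type*} [Field F] [Fintype F] (hF : Fintype.card F = 2) :
    (1 : F) + 1 = 0 := by
  rcases field_two_cases hF ((1 : F) + 1) with h | h
  · exact h
  · exfalso
    have : (1 : F) = 0 := by
      have h2 : (1 : F) + 1 = 1 + 0 := by rw [h, add_zero]
      exact add_left_cancel h2
    exact one_ne_zero this

theorem result {F : Type*} [Field F] [Fintype F] [DecidableEq F] (hF : Fintype.card F = 2) (n : ℕ) (hn : 3 ≤ n) (i j : Fin n) (hij : i ≠ j) (t : Matrix.SpecialLinearGroup (Fin n) F) (ht : (t : Matrix (Fin n) (Fin n) F) = Matrix.transvection i j 1) : Cfsg.generalizedFittingSubgroup ↥(Subgroup.centralizer ({t} : Set (Matrix.SpecialLinearGroup (Fin n) F))) = Cfsg.pCore 2 ↥(Subgroup.centralizer ({t} : Set (Matrix.SpecialLinearGroup (Fin n) F))) := by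
  have hf2 : Fact (Nat.Prime 2) := ⟨Nat.prime_two⟩
  have hfin : Finite (Matrix.SpecialLinearGroup (Fin n) F) := by
    unfold Matrix.SpecialLinearGroup
    infer_instance
  have h11 : (1 : F) + 1 = 0 := field_two_add hF
  have hcomm : ∀ c : ↥(Subgroup.centralizer ({t} : Set (Matrix.SpecialLinearGroup (Fin n) F))),
      (c.1.1 : Matrix (Fin n) (Fin n) F) * Matrix.transvection i j 1
        = Matrix.transvection i j 1 * c.1.1 := by
    intro c
    have h1 := Subgroup.mem_centralizer_singleton_iff.1 c.2
    have h2 := congrArg Subtype.val h1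
    rw [Matrix.SpecialLinearGroup.coe_mul, Matrix.SpecialLinearGroup.coe_mul, ht] at h2
    exact h2
  have hcol : ∀ c : ↥(Subgroup.centralizer ({t} : Set (Matrix.SpecialLinearGroup (Fin n) F))),
      ∀ a, a ≠ i → (c.1.1 : Matrix (Fin n) (Fin n) F) a i = 0 := by
    intro c a ha
    have h1 := congrFun (congrFun (hcomm c) a) j
    rw [Matrix.mul_transvection_apply_same, Matrix.transvection_mul_apply_of_ne _ _ _ _ ha,
      one_mul] at h1
    have h2 : (c.1.1 : Matrix (Fin n) (Fin n) F) a j + c.1.1 a i = c.1.1 a j + 0 := by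
      rw [h1, add_zero]
    exact add_left_cancel h2
  have hcii : ∀ c : ↥(Subgroup.centralizer ({t} : Set (Matrix.SpecialLinearGroup (Fin n) F))),
      (c.1.1 : Matrix (Fin n) (Fin n) F) i i = 1 := by
    intro c
    rcases field_two_cases hF ((c.1.1 : Matrix (Fin n) (Fin n) F) i i) with h | h
    · exfalso
      have hz : ∀ a, (c.1.1 : Matrix (Fin n) (Fin n) F) a i = 0 := by
        intro a
        by_cases ha : a = i
        · rw [ha]; exact h
        · exact hcol c a ha
      have hdet := Matrix.det_eq_zero_of_column_eq_zero i hz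
      have hdet1 : (c.1.1 : Matrix (Fin n) (Fin n) F).det = 1 := c.1.2
      rw [hdet] at hdet1
      exact zero_ne_one hdet1
    · exact h
  let R : Subgroup ↥(Subgroup.centralizer ({t} : Set (Matrix.SpecialLinearGroup (Fin n) F))) :=
    { carrier := {c | ∀ a, a ≠ i → ∀ b, (c.1.1 : Matrix (Fin n) (Fin n) F) a b
          = (1 : Matrix (Fin n) (Fin n) F) a b}
      mul_mem' := by
        intro c d hc hd a ha b
        show ((c.1.1 : Matrix (Fin n) (Fin n) F) * d.1.1) a b = _
        rw [Matrix.mul_apply]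
        have h1 : ∀ k, (c.1.1 : Matrix (Fin n) (Fin n) F) a k * d.1.1 k b
            = (1 : Matrix (Fin n) (Fin n) F) a k * d.1.1 k b := by
          intro k; rw [hc a ha k]
        rw [Finset.sum_congr rfl (fun k _ => h1 k), ← Matrix.mul_apply, one_mul]
        exact hd a ha b
      one_mem' := by
        intro a _ b
        rfl
      inv_mem' := by
        intro c hc a ha b
        have h1 : (c.1.1 : Matrix (Fin n) (Fin n) F) * (c⁻¹).1.1 = 1 := by
          have h2 : c * c⁻¹ = 1 := mul_inv_cancel c
          have h3 := congrArg (fun x : ↥(Subgroup.centralizer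
            ({t} : Set (Matrix.SpecialLinearGroup (Fin n) F))) =>
            (x.1.1 : Matrix (Fin n) (Fin n) F)) h2
          exact h3
        have h4 : ((c⁻¹).1.1 : Matrix (Fin n) (Fin n) F) a b
            = ((1 : Matrix (Fin n) (Fin n) F) * (c⁻¹).1.1) a b := by rw [one_mul]
        rw [h4, Matrix.mul_apply]
        have h5 : ∀ k, (1 : Matrix (Fin n) (Fin n) F) a k * ((c⁻¹).1.1 : Matrix (Fin n) (Fin n) F) k b
            = (c.1.1 : Matrix (Fin n) (Fin n) F) a k * (c⁻¹).1.1 k b := by
          intro k; rw [hc a ha k]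
        rw [Finset.sum_congr rfl (fun k _ => h5 k), ← Matrix.mul_apply, h1] }
  have hRmem : ∀ c, c ∈ R ↔ ∀ a, a ≠ i → ∀ b, (c.1.1 : Matrix (Fin n) (Fin n) F) a b
          = (1 : Matrix (Fin n) (Fin n) F) a b := fun c => Iff.rfl
  have hRn : R.Normal := by
    constructor
    intro c hc x
    rw [hRmem] at hc ⊢
    intro a ha b
    have h1 : ∀ l, ((x.1.1 : Matrix (Fin n) (Fin n) F) * c.1.1) a l = x.1.1 a l := by
      intro l
      rw [Matrix.mul_apply]
      have h2 : ∀ k, (x.1.1 : Matrix (Fin n) (Fin n) F) a k * c.1.1 k l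
          = x.1.1 a k * (1 : Matrix (Fin n) (Fin n) F) k l := by
        intro k
        by_cases hk : k = i
        · rw [hk, hcol x a ha, zero_mul, zero_mul]
        · rw [hc k hk l]
      rw [Finset.sum_congr rfl (fun k _ => h2 k), ← Matrix.mul_apply, mul_one]
    have h3 : (x.1.1 : Matrix (Fin n) (Fin n) F) * (x⁻¹).1.1 = 1 := by
      have h2 : x * x⁻¹ = 1 := mul_inv_cancel x
      have h4 := congrArg (fun y : ↥(Subgroup.centralizer
        ({t} : Set (Matrix.SpecialLinearGroup (Fin n) F))) =>
        (y.1.1 : Matrix (Fin n) (Fin n) F)) h2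
      exact h4
    show (((x.1.1 : Matrix (Fin n) (Fin n) F) * c.1.1) * (x⁻¹).1.1) a b = _
    rw [Matrix.mul_apply, Finset.sum_congr rfl (fun l _ => by rw [h1 l]), ← Matrix.mul_apply, h3]
  have hRsq : ∀ c ∈ R, c * c = 1 := by
    intro c hc
    rw [hRmem] at hc
    apply Subtype.ext
    apply Subtype.ext
    show (c.1.1 : Matrix (Fin n) (Fin n) F) * c.1.1 = 1
    obtain ⟨N, hN⟩ : ∃ N : Matrix (Fin n) (Fin n) F, N = c.1.1 - 1 := ⟨_, rfl⟩
    have hc1 : (c.1.1 : Matrix (Fin n) (Fin n) F) = 1 + N := by rw [hN]; abel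
    have hN0 : ∀ a, a ≠ i → ∀ b, N a b = 0 := by
      intro a ha b
      rw [hN, Matrix.sub_apply, hc a ha b, sub_self]
    have hNii : N i i = 0 := by
      rw [hN, Matrix.sub_apply, hcii c, Matrix.one_apply_eq, sub_self]
    have hNN : N * N = 0 := by
      ext a b
      rw [Matrix.mul_apply, Matrix.zero_apply]
      apply Finset.sum_eq_zero
      intro k _
      by_cases hk : k = i
      · by_cases ha : a = i
        · rw [hk, ha, hNii, zero_mul]
        · rw [hN0 a ha k, zero_mul]
      · rw [hN0 k hk b, mul_zero]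
    have hN2 : N + N = 0 := by
      ext a b
      rw [Matrix.add_apply, Matrix.zero_apply]
      have : N a b + N a b = (1 + 1) * N a b := by ring
      rw [this, h11, zero_mul]
    rw [hc1]
    calc (1 + N) * (1 + N) = 1 + (N + N) + N * N := by
          rw [Matrix.add_mul, Matrix.mul_add, Matrix.mul_add, one_mul, one_mul, mul_one]; abel
      _ = 1 := by rw [hN2, hNN, add_zero, add_zero]
  have hRp : IsPGroup 2 ↥R := by
    intro g
    refine ⟨1, ?_⟩
    rw [pow_one, pow_two]
    apply Subtype.ext
    exact hRsq g.1 g.2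
  have hRle : R ≤ Cfsg.pCore 2 ↥(Subgroup.centralizer ({t} : Set (Matrix.SpecialLinearGroup (Fin n) F))) :=
    Cfsg.Agent.Lib.Helper1.le_pCore hRn hRp
  apply Cfsg.Agent.Lib.Helper9.gfs_eq_pCore_of_forall 2
  intro Y hY hcent
  rw [Subgroup.eq_bot_iff_forall]
  intro y hy
  have hyR : y ∈ R := by
    rw [hRmem]
    intro b hb b'
    have hdet : (Matrix.transvection i b (1 : F)).det = 1 :=
      Matrix.det_transvection_of_ne i b (Ne.symm hb) 1
    obtain ⟨g0, hg0⟩ : ∃ g0 : Matrix.SpecialLinearGroup (Fin n) F,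
        (g0 : Matrix (Fin n) (Fin n) F) = Matrix.transvection i b 1 := ⟨⟨_, hdet⟩, rfl⟩
    have hgC : g0 ∈ Subgroup.centralizer ({t} : Set (Matrix.SpecialLinearGroup (Fin n) F)) := by
      rw [Subgroup.mem_centralizer_singleton_iff]
      apply Subtype.ext
      rw [Matrix.SpecialLinearGroup.coe_mul, Matrix.SpecialLinearGroup.coe_mul, ht, hg0]
      unfold Matrix.transvection
      have e1 : (Matrix.single i b (1 : F) : Matrix (Fin n) (Fin n) F) * Matrix.single i j (1 : F) = 0 := by
        simp [hb]
      have e2 : (Matrix.single i j (1 : F) : Matrix (Fin n) (Fin n) F) * Matrix.single i b (1 : F) = 0 := by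
        simp [Ne.symm hij]
      rw [Matrix.add_mul, Matrix.mul_add, Matrix.mul_add, Matrix.add_mul, Matrix.mul_add,
        Matrix.mul_add, one_mul, one_mul, mul_one, mul_one, e1, e2, one_mul]
      abel
    have hgR : (⟨g0, hgC⟩ :
        ↥(Subgroup.centralizer ({t} : Set (Matrix.SpecialLinearGroup (Fin n) F)))) ∈ R := by
      rw [hRmem]
      intro a ha b''
      show (g0 : Matrix (Fin n) (Fin n) F) a b'' = _
      rw [hg0]
      unfold Matrix.transvection
      rw [Matrix.add_apply, Matrix.single_apply_of_ne (h := by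
        intro h; exact ha h.1.symm), add_zero]
    have h1 := hcent y hy _ (hRle hgR)
    have h2 := congrArg (fun x : ↥(Subgroup.centralizer
        ({t} : Set (Matrix.SpecialLinearGroup (Fin n) F))) =>
        (x.1.1 : Matrix (Fin n) (Fin n) F)) h1
    have h3 : (y.1.1 : Matrix (Fin n) (Fin n) F) * Matrix.transvection i b 1
        = Matrix.transvection i b 1 * y.1.1 := by
      rw [← hg0]; exact h2
    by_cases hbb : b' = b
    · rw [hbb, Matrix.one_apply_eq]
      have h4 := congrFun (congrFun h3 i) b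
      rw [Matrix.mul_transvection_apply_same, Matrix.transvection_mul_apply_same, one_mul,
        one_mul, hcii y] at h4
      exact (add_left_cancel h4).symm
    · rw [Matrix.one_apply_ne (Ne.symm hbb)]
      have h4 := congrFun (congrFun h3 i) b'
      rw [Matrix.mul_transvection_apply_of_ne _ _ _ _ hbb, Matrix.transvection_mul_apply_same,
        one_mul] at h4
      have h5 : (y.1.1 : Matrix (Fin n) (Fin n) F) i b' + 0 = y.1.1 i b' + y.1.1 b b' := by
        rw [add_zero]; exact h4
      exact (add_left_cancel h5).symm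
  have hy2 : y ^ 2 = 1 := by rw [pow_two]; exact hRsq y hyR
  have h1 : orderOf y ∣ 2 := orderOf_dvd_of_pow_eq_one hy2
  have h2 : orderOf y ∣ Nat.card ↥Y := by
    have h5 : orderOf (⟨y, hy⟩ : ↥Y) ∣ Nat.card ↥Y := orderOf_dvd_natCard _
    rw [← Subgroup.orderOf_coe] at h5
    exact h5
  have h3 : orderOf y = 1 := Nat.eq_one_of_dvd_coprimes hY h2 h1
  exact orderOf_eq_one_iff.1 h3

end Cfsg.Agent.S1339
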