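import Cfsg.Statements.S1340
import Cfsg.Agent.Lib.helper2.GLInv

set_option autoImplicit false
open Cfsg

namespace Cfsg.Agent.S1340

open Cfsg

open Cfsg.Agent.Lib.helper2 in


/-- Let F be a finite field of odd order and n ≥ 3 with (n, |F|) ≠ (3, 3). Then GL(n, F) has a non-central involution t such that C(t) / O(C(t)) has a component. -/
theorem result {F : Type*} [Field F] [Fintype F] [DecidableEq F] (hF : Odd (Fintype.card F)) (n : ℕ) (hn : 3 ≤ n) (h33 : ¬ (n = 3 ∧ Fintype.card F = 3)) : ∃ t : Matrix.GeneralLinearGroup (Fin n) F, orderOf t = 2 ∧ t ∉ Subgroup.center (Matrix.GeneralLinearGroup (Fin n) F) ∧ Cfsg.HasComponent (↥(Subgroup.centralizer ({t} : Set (Matrix.GeneralLinearGroup (Fin n) F))) ⧸ Cfsg.oddCore ↥(Subgroup.centralizer ({t} : Set (Matrix.GeneralLinearGroup (Fin n) F)))) := by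
  have h2 : (2 : F) ≠ 0 := by
    intro h
    have h1 : addOrderOf (1 : F) = 2 := by
      apply addOrderOf_eq_prime
      · rw [two_nsmul]; rw [← h]; norm_num
      · exact one_ne_zero
    have h3 : 2 ∣ Fintype.card F := by
      rw [← h1]; exact addOrderOf_dvd_card
    rcases hF with ⟨k, hk⟩
    omega
  obtain ⟨m, rfl⟩ : ∃ m, n = m + 1 := ⟨n - 1, by omega⟩
  refine ⟨gliT F m, gliT_orderOf h2, ?_, ?_⟩
  · intro hc
    obtain ⟨k, rfl⟩ : ∃ k, m = k + 1 := ⟨m - 1, by omega⟩
    have hne : (Fin.castSucc (0 : Fin (k + 1))) ≠ Fin.last (k + 1) := Fin.castSucc_ne_last _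
    set g : Matrix.GeneralLinearGroup (Fin (k + 1 + 1)) F :=
      Matrix.SpecialLinearGroup.toGL (Matrix.SpecialLinearGroup.transvection hne (1 : F)) with hg
    have hgc : g ∈ Subgroup.centralizer
        ({gliT F (k + 1)} : Set (Matrix.GeneralLinearGroup (Fin (k + 1 + 1)) F)) := by
      rw [Subgroup.mem_centralizer_iff]
      intro h hh
      rw [Set.mem_singleton_iff] at hh
      subst hh
      rw [Subgroup.mem_center_iff] at hc
      exact (hc g).symm
    have h0 := (gli_cent_entry h2 hgc 0).1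
    have h1 : (g : Matrix (Fin (k + 1 + 1)) (Fin (k + 1 + 1)) F) (Fin.castSucc 0)
        (Fin.last (k + 1)) = 1 := by
      rw [hg]
      show ((Matrix.SpecialLinearGroup.transvection hne (1 : F) :
        Matrix.SpecialLinearGroup (Fin (k + 1 + 1)) F) :
        Matrix (Fin (k + 1 + 1)) (Fin (k + 1 + 1)) F) _ _ = 1
      rw [Matrix.SpecialLinearGroup.transvection_coe]
      simp [Matrix.one_apply_ne hne]
    rw [h1] at h0
    exact one_ne_zero h0
  · have hqs : IsQuasisimple (Matrix.SpecialLinearGroup (Fin m) F) := by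
      by_cases hm : 3 ≤ m
      · exact gli_SL_quasisimple_ge3 hm
      · have hm2 : m = 2 := by omega
        subst hm2
        apply gli_SL_quasisimple_two
        rw [Nat.card_eq_fintype_card]
        have h1 : 1 < Fintype.card F := Fintype.one_lt_card
        have h3 : Fintype.card F ≠ 3 := fun h => h33 ⟨rfl, h⟩
        rcases hF with ⟨k, hk⟩
        omega
    have hev : 2 ∣ Nat.card (Matrix.SpecialLinearGroup (Fin m) F) := by
      obtain ⟨k, rfl⟩ : ∃ k, m = k + 2 := ⟨m - 2, by omega⟩
      exact gli_two_dvd_card_SL h2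
    have e : Matrix.SpecialLinearGroup (Fin m) F ≃* (gliL (m := m) h2) := by
      rw [← gliPhi_range h2]
      exact MonoidHom.ofInjective gliPhi_injective
    have hqL : IsQuasisimple (gliL (m := m) h2) :=
      Cfsg.Agent.Lib.Helper9.isQuasisimple_of_mulEquiv e hqs
    have hevL : 2 ∣ Nat.card (gliL (m := m) h2) := by
      rw [← Nat.card_congr e.toEquiv]; exact hev
    exact gli_hasComponent_of_normal (gliL (m := m) h2) hqL hevL

end Cfsg.Agent.S1340
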