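import Mathlib
import Cfsg.Statements.S1343
import Cfsg.Agent.Lib.Helper10.ExtLayer

set_option autoImplicit false
open Cfsg

namespace Cfsg.Agent.S1343
open Cfsg.Agent.Lib.Helper10 Cfsg.Agent.Lib.Helper9

theorem sylow_inf_normal_le {G : Type*} [Group G] {p : ℕ} (M : Subgroup G) [hMn : M.Normal]
    (T : Sylow p ↥M) (S : Sylow p G) (hTS : (T : Subgroup ↥M).map M.subtype ≤ S) :
    (S : Subgroup G) ≤ Subgroup.normalizer (((T : Subgroup ↥M).map M.subtype : Subgroup G) : Set G) := by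
  have h1 : (T : Subgroup ↥M) ≤ ((S : Subgroup G) ⊓ M).subgroupOf M := by
    intro t ht
    rw [Subgroup.mem_subgroupOf]
    exact Subgroup.mem_inf.2 ⟨hTS ⟨t, ht, rfl⟩, t.2⟩
  have h2 : IsPGroup p ↥(((S : Subgroup G) ⊓ M).subgroupOf M) := by
    have h3 : IsPGroup p ↥((S : Subgroup G) ⊓ M) := S.isPGroup'.to_le inf_le_left
    exact h3.comap_of_injective _ (Subgroup.subtype_injective _)
  have h4 := T.is_maximal' h2 h1
  have h5 : (T : Subgroup ↥M).map M.subtype = (S : Subgroup G) ⊓ M := by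
    have h6 : ((T : Subgroup ↥M)) = ((S : Subgroup G) ⊓ M).subgroupOf M := h4.symm
    rw [h6, Subgroup.map_subgroupOf_eq_of_le inf_le_right]
  rw [h5]
  intro s hs
  rw [Subgroup.mem_normalizer_iff]
  intro x
  constructor
  · intro hx
    obtain ⟨hx1, hx2⟩ := Subgroup.mem_inf.1 hx
    exact Subgroup.mem_inf.2 ⟨(S : Subgroup G).mul_mem ((S : Subgroup G).mul_mem hs hx1)
      ((S : Subgroup G).inv_mem hs), hMn.conj_mem x hx2 s⟩
  · intro hx
    obtain ⟨hx1, hx2⟩ := Subgroup.mem_inf.1 hx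
    have e : x = s⁻¹ * (s * x * s⁻¹) * s := by group
    rw [e]
    refine Subgroup.mem_inf.2 ⟨(S : Subgroup G).mul_mem ((S : Subgroup G).mul_mem
      ((S : Subgroup G).inv_mem hs) hx1) hs, ?_⟩
    have := hMn.conj_mem _ hx2 s⁻¹
    rwa [inv_inv] at this

theorem result {X : Type*} [Group X] [Finite X] : ∃ F : Subgroup X, Odd (Nat.card ↥F) ∧ (∃ S : Sylow 2 X, (S : Subgroup X) ≤ Subgroup.normalizer (F : Set X)) ∧ Cfsg.extendedTwoLayer X = Cfsg.pLayer 2 X ⊔ F := by
  have hp2 : Fact (Nat.Prime 2) := ⟨Nat.prime_two⟩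
  have hLn : (pLayer 2 X).Normal := pLayer_normal 2
  have hNn : (oddCore X).Normal := inferInstance
  have hRn : (pPrimePCore 2 X).Normal := pPrimePCore_normal 2
  have hMn : (pLayer 2 X ⊔ pPrimePCore 2 X).Normal := inferInstance
  obtain ⟨T⟩ : Nonempty (Sylow 2 ↥(pLayer 2 X ⊔ pPrimePCore 2 X)) := inferInstance
  have hTp : IsPGroup 2 ↥((T : Subgroup ↥(pLayer 2 X ⊔ pPrimePCore 2 X)).map
      (pLayer 2 X ⊔ pPrimePCore 2 X).subtype) := T.isPGroup'.map _
  obtain ⟨S, hS⟩ := hTp.exists_le_sylow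
  have hST := sylow_inf_normal_le (pLayer 2 X ⊔ pPrimePCore 2 X) T S hS
  refine ⟨oddCore X ⊔ coreOf 2 (Subgroup.centralizer
          (((T : Subgroup ↥(pLayer 2 X ⊔ pPrimePCore 2 X)).map
            (pLayer 2 X ⊔ pPrimePCore 2 X).subtype : Subgroup X) : Set X)), ?_, ⟨S, ?_⟩, ?_⟩
  · apply Nat.Coprime.odd_of_right
    have h1 : Nat.card ↥(oddCore X ⊔ coreOf 2 (Subgroup.centralizer
          (((T : Subgroup ↥(pLayer 2 X ⊔ pPrimePCore 2 X)).map
            (pLayer 2 X ⊔ pPrimePCore 2 X).subtype : Subgroup X) : Set X))) ∣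
        Nat.card ↥(coreOf 2 (Subgroup.centralizer
          (((T : Subgroup ↥(pLayer 2 X ⊔ pPrimePCore 2 X)).map
            (pLayer 2 X ⊔ pPrimePCore 2 X).subtype : Subgroup X) : Set X))) *
          Nat.card ↥(oddCore X) := by
      rw [sup_comm]
      exact Cfsg.Agent.Lib.Helper1.card_sup_dvd_mul _ (oddCore X)
    exact Nat.Coprime.coprime_dvd_left h1 (Nat.Coprime.mul_left (coreOf_card_coprime 2 _)
      (Cfsg.Agent.Lib.Helper1.pPrimeCore_card_coprime 2))
  · refine le_trans ?_ (Subgroup.normalizer_inf_normalizer_le_normalizer_sup _ _)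
    apply le_inf
    · rw [Subgroup.normalizer_eq_top_iff.2 hNn]; exact le_top
    · exact hST.trans ((normalizer_le_normalizer_centralizer _).trans (coreOf_normalizer_le 2 _))
  · rw [extendedTwoLayer_eq T, sup_assoc]

end Cfsg.Agent.S1343
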