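import Mathlib
import Cfsg.Statements.S1344
import Cfsg.Agent.Lib.Helper10.ExtLayer
import Cfsg.Agent.Lib.Helper10.SylowSubnormal

set_option autoImplicit false
open Cfsg

namespace Cfsg.Agent.S1344
open Cfsg.Agent.Lib.Helper10 Cfsg.Agent.Lib.Helper9

theorem sylow_map_eq_inf {G : Type*} [Group G] {p : ℕ} (M : Subgroup G)
    (T : Sylow p ↥M) (S : Sylow p G) (hTS : (T : Subgroup ↥M).map M.subtype ≤ S) :
    (T : Subgroup ↥M).map M.subtype = (S : Subgroup G) ⊓ M := by
  have h1 : (T : Subgroup ↥M) ≤ ((S : Subgroup G) ⊓ M).subgroupOf M := by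
    intro t ht
    rw [Subgroup.mem_subgroupOf]
    exact Subgroup.mem_inf.2 ⟨hTS ⟨t, ht, rfl⟩, t.2⟩
  have h2 : IsPGroup p ↥(((S : Subgroup G) ⊓ M).subgroupOf M) := by
    have h3 : IsPGroup p ↥((S : Subgroup G) ⊓ M) := S.isPGroup'.to_le inf_le_left
    exact h3.comap_of_injective _ (Subgroup.subtype_injective _)
  have h4 := T.is_maximal' h2 h1
  have h6 : ((T : Subgroup ↥M)) = ((S : Subgroup G) ⊓ M).subgroupOf M := h4.symm
  rw [h6, Subgroup.map_subgroupOf_eq_of_le inf_le_right]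

theorem core_le_normalizer {X : Type*} [Group X] [Finite X] (K : Subgroup X)
    (hK : IsPComponent 2 K) (T : Sylow 2 ↥(pLayer 2 X ⊔ pPrimePCore 2 X)) :
    coreOf 2 (Subgroup.centralizer
          (((T : Subgroup ↥(pLayer 2 X ⊔ pPrimePCore 2 X)).map
            (pLayer 2 X ⊔ pPrimePCore 2 X).subtype : Subgroup X) : Set X)) ≤
      Subgroup.normalizer (K : Set X) := by
  have hp2 : Fact (Nat.Prime 2) := ⟨Nat.prime_two⟩
  have hTp : IsPGroup 2 ↥((T : Subgroup ↥(pLayer 2 X ⊔ pPrimePCore 2 X)).map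
      (pLayer 2 X ⊔ pPrimePCore 2 X).subtype) := T.isPGroup'.map _
  obtain ⟨S, hS⟩ := hTp.exists_le_sylow
  have hTS := sylow_map_eq_inf (pLayer 2 X ⊔ pPrimePCore 2 X) T S hS
  have hKM : K ≤ pLayer 2 X ⊔ pPrimePCore 2 X := (isPComponent_le_pLayer 2 hK).trans le_sup_left
  have hidx : ¬ 2 ∣ ((S : Subgroup X) ⊓ K).relIndex K :=
    not_dvd_relIndex_inf_of_isSubnormal 2 (S : Subgroup X) S.not_dvd_index K hK.1
  have hDT : (S : Subgroup X) ⊓ K ≤ (T : Subgroup ↥(pLayer 2 X ⊔ pPrimePCore 2 X)).map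
      (pLayer 2 X ⊔ pPrimePCore 2 X).subtype := by
    rw [hTS]
    exact inf_le_inf_left _ hKM
  intro w hw
  have hwc : w ∈ Subgroup.centralizer
          (((T : Subgroup ↥(pLayer 2 X ⊔ pPrimePCore 2 X)).map
            (pLayer 2 X ⊔ pPrimePCore 2 X).subtype : Subgroup X) : Set X) := coreOf_le 2 _ hw
  rw [Subgroup.mem_centralizer_iff] at hwc
  by_contra hwn
  have hK' : IsPComponent 2 (K.map (MulAut.conj w).toMonoidHom) := isPComponent_conj 2 hK w
  have hne : K.map (MulAut.conj w).toMonoidHom ≠ K := fun h => hwn (mem_normalizer_of_map_conj_eq h)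
  have hne' : (K.map (MulAut.conj w).toMonoidHom).map (QuotientGroup.mk' (pPrimeCore 2 X)) ≠
      K.map (QuotientGroup.mk' (pPrimeCore 2 X)) := fun h => hne (isPComponent_unique 2 hK' hK h)
  have hcomm := Cfsg.Agent.S1263.distinct_components_commute hK'.2.1 hK.2.1 hne'
  rw [Subgroup.commutator_eq_bot_iff_le_centralizer] at hcomm
  have hDK' : (S : Subgroup X) ⊓ K ≤ K.map (MulAut.conj w).toMonoidHom := by
    intro d hd
    refine ⟨d, (Subgroup.mem_inf.1 hd).2, ?_⟩
    have h1 := hwc d (hDT hd)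
    change w * d * w⁻¹ = d
    rw [← h1]; group
  have hKc : IsComponent (K.map (QuotientGroup.mk' (pPrimeCore 2 X))) := hK.2.1
  have hfs : Function.Surjective ((QuotientGroup.mk' (pPrimeCore 2 X)).subgroupMap K) :=
    (QuotientGroup.mk' (pPrimeCore 2 X)).subgroupMap_surjective K
  have hcen : (((S : Subgroup X) ⊓ K).subgroupOf K).map
      ((QuotientGroup.mk' (pPrimeCore 2 X)).subgroupMap K) ≤
      Subgroup.center ↥(K.map (QuotientGroup.mk' (pPrimeCore 2 X))) := by
    rintro _ ⟨x, hx, rfl⟩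
    rw [Subgroup.mem_center_iff]
    intro y
    apply Subtype.ext
    have hx' : (x : X) ∈ (S : Subgroup X) ⊓ K := hx
    have h1 : (QuotientGroup.mk' (pPrimeCore 2 X)) (x : X) ∈
        (K.map (MulAut.conj w).toMonoidHom).map (QuotientGroup.mk' (pPrimeCore 2 X)) :=
      Subgroup.mem_map_of_mem _ (hDK' hx')
    have h2 := hcomm h1
    rw [Subgroup.mem_centralizer_iff] at h2
    exact h2 (y : X ⧸ pPrimeCore 2 X) y.2
  have h1 : (Subgroup.center ↥(K.map (QuotientGroup.mk' (pPrimeCore 2 X)))).index ∣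
      ((((S : Subgroup X) ⊓ K).subgroupOf K).map
      ((QuotientGroup.mk' (pPrimeCore 2 X)).subgroupMap K)).index := Subgroup.index_dvd_of_le hcen
  have h2 : ((((S : Subgroup X) ⊓ K).subgroupOf K).map
      ((QuotientGroup.mk' (pPrimeCore 2 X)).subgroupMap K)).index ∣
      (((S : Subgroup X) ⊓ K).subgroupOf K).index := Subgroup.index_map_dvd _ hfs
  have h3 : ¬ 2 ∣ (Subgroup.center ↥(K.map (QuotientGroup.mk' (pPrimeCore 2 X)))).index :=
    fun h => hidx (h.trans (h1.trans h2))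
  have h4 : ((Subgroup.center ↥(K.map (QuotientGroup.mk' (pPrimeCore 2 X)))).index).Coprime 2 :=
    ((Nat.Prime.coprime_iff_not_dvd Nat.prime_two).2 h3).symm
  have h5 := quasisimple_coprime_of_center_index_coprime 2 hKc.2 h4
  have h6 := subnormal_coprime_le_pPrimeCore 2 _ hKc.1 h5
  rw [pPrimeCore_quotient_eq_bot, le_bot_iff] at h6
  exact isComponent_ne_bot hKc h6

theorem result {X : Type*} [Group X] [Finite X] (K : Subgroup X) (hK : Cfsg.IsPComponent 2 K) : K ≤ Cfsg.extendedTwoLayer X ∧ (K.subgroupOf (Cfsg.extendedTwoLayer X)).Normal := by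
  have hp2 : Fact (Nat.Prime 2) := ⟨Nat.prime_two⟩
  obtain ⟨T⟩ : Nonempty (Sylow 2 ↥(pLayer 2 X ⊔ pPrimePCore 2 X)) := inferInstance
  have hle : K ≤ extendedTwoLayer X := by
    rw [extendedTwoLayer_eq T]
    exact (isPComponent_le_pLayer 2 hK).trans (le_sup_of_le_left le_sup_left)
  refine ⟨hle, (Subgroup.normal_subgroupOf_iff_le_normalizer hle).2 ?_⟩
  rw [extendedTwoLayer_eq T]
  apply sup_le (sup_le (pLayer_le_normalizer 2 hK) ?_) (core_le_normalizer K hK T)
  intro g hg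
  apply isPComponent_mem_normalizer 2 hK g
  have : (QuotientGroup.mk' (pPrimeCore 2 X)) g = 1 := by
    rw [← MonoidHom.mem_ker, QuotientGroup.ker_mk']; exact hg
  rw [this]
  exact Subgroup.one_mem _

end Cfsg.Agent.S1344
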