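import Cfsg.Statements.S1348
import Cfsg.Agent.Lib.Helper5.StdB

set_option autoImplicit false
open Cfsg

namespace Cfsg.Agent.S1348

/-- Let F be a finite field of odd order, n ≥ 7 odd, and t ∈ SL(n, F) the diagonal matrix with entries −1, …, −1, 1. Then E(C(t)) is a standard subgroup of SL(n, F). -/
theorem result {F : Type*} [Field F] [Fintype F] [DecidableEq F] (hF : Odd (Fintype.card F)) (n : ℕ) (hn : 7 ≤ n) (hodd : Odd n) (t : Matrix.SpecialLinearGroup (Fin n) F) (ht : (t : Matrix (Fin n) (Fin n) F) = Matrix.diagonal (fun i : Fin n => if (i : ℕ) + 1 = n then (1 : F) else -1)) : Cfsg.IsStandardSubgroup ((Cfsg.layer ↥(Subgroup.centralizer ({t} : Set (Matrix.SpecialLinearGroup (Fin n) F)))).map (Subgroup.centralizer ({t} : Set (Matrix.SpecialLinearGroup (Fin n) F))).subtype) := by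
  obtain ⟨m, rfl⟩ : ∃ m, n = m + 1 := ⟨n - 1, by omega⟩
  have h2 : (2 : F) ≠ 0 := by
    apply Ring.two_ne_zero
    intro h
    have := FiniteField.even_card_iff_char_two.mp h
    have h' := Nat.odd_iff.mp hF
    omega
  have hev : Even (Fintype.card (Fin m)) := by
    rw [Fintype.card_fin]
    rcases hodd with ⟨k, hk⟩
    exact ⟨k, by omega⟩
  have h3 : 3 ≤ Fintype.card (Fin m) := by
    rw [Fintype.card_fin]
    omega
  obtain ⟨e, he⟩ : ∃ e : Fin m ⊕ Unit ≃ Fin (m + 1),
      e = (finSuccEquivLast.trans (Equiv.optionEquivSumPUnit _)).symm := ⟨_, rfl⟩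
  have hinl : ∀ i : Fin m, e (Sum.inl i) = Fin.castSucc i := by
    intro i
    rw [he]
    simp
  have hinr : ∀ u : Unit, e (Sum.inr u) = Fin.last m := by
    intro u
    rw [he]
    simp
  have htt : t = Cfsg.Agent.Lib.Helper5.Std.tInv e := by
    apply Subtype.ext
    rw [ht, Cfsg.Agent.Lib.Helper5.Std.tInv_val e hev]
    rw [Matrix.reindex_apply]
    ext i j
    obtain ⟨i', rfl⟩ := e.surjective i
    obtain ⟨j', rfl⟩ := e.surjective j
    rw [Matrix.submatrix_apply, Equiv.symm_apply_apply, Equiv.symm_apply_apply]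
    rcases i' with i' | i' <;> rcases j' with j' | j'
    · rw [hinl, hinl, Matrix.fromBlocks_apply₁₁, Matrix.diagonal_apply, Matrix.neg_apply,
        Matrix.one_apply]
      have hlt := i'.2
      have hthis : ((Fin.castSucc i' : Fin (m + 1)) : ℕ) + 1 ≠ m + 1 := by
        simp only [Fin.val_castSucc]
        omega
      by_cases hij : i' = j'
      · subst hij
        rw [if_pos rfl, if_pos rfl, if_neg hthis]
      · have hne : Fin.castSucc i' ≠ Fin.castSucc j' := fun h => hij (Fin.castSucc_injective _ h)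
        simp [hij, hne]
    · rw [hinl, hinr, Matrix.fromBlocks_apply₁₂, Matrix.diagonal_apply]
      have hne : Fin.castSucc i' ≠ Fin.last m := Fin.castSucc_ne_last i'
      simp [hne]
    · rw [hinl, hinr, Matrix.fromBlocks_apply₂₁, Matrix.diagonal_apply]
      have hne : Fin.last m ≠ Fin.castSucc j' := (Fin.castSucc_ne_last j').symm
      simp [hne]
    · rw [hinr, Matrix.fromBlocks_apply₂₂, Matrix.diagonal_apply]
      simp
  rw [htt]
  exact Cfsg.Agent.Lib.Helper5.Std.std_general e h2 hev h3

end Cfsg.Agent.S1348
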