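import Mathlib
import Cfsg.Statements.S1386
import Cfsg.Agent.Lib.Helper10.SubgroupBasic

set_option autoImplicit false
open Cfsg

namespace Cfsg.Agent.S1386

open Cfsg.Agent.Lib.Helper10

theorem result {G : Type*} [Group G] [Finite G] (W₁ W₂ S U W₂' : Subgroup G) (hW : Cfsg.IsSelfNormalizingCyclic W₁ W₂)
    (hSW : Cfsg.IsComplIn ⁅S, S⁆ W₁ S) (hW₂S : W₂ ≤ S) (hP : Cfsg.IsTypePWith S W₁ U W₂') :
    W₂' = W₂ := by
  obtain ⟨hW₁ne, hW₂ne, hdisj, hcomm, hcyc, hnorm⟩ := hW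
  obtain ⟨hW₁ne', hW₂'ne, hdisj', hcomm', hcyc', hnorm'⟩ := hP.selfNormalizing
  obtain ⟨hS'S, hW₁S, hS'W₁, hfac⟩ := hSW
  have hW₁c : ∀ a ∈ W₁, ∀ b ∈ W₁, a * b = b * a := by
    have := hP.W₁_cyclic
    intro a ha b hb
    have := (IsCyclic.commGroup (α := W₁)).mul_comm ⟨a, ha⟩ ⟨b, hb⟩
    exact congrArg Subtype.val this
  obtain ⟨x, hx, hx1⟩ := (Subgroup.ne_bot_iff_exists_ne_one (H := W₁)).mp hW₁ne |> fun ⟨a, ha⟩ =>
    (⟨a.1, a.2, fun h => ha (Subtype.ext h)⟩ : ∃ x ∈ W₁, x ≠ 1)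
  have step1 : W₂ ≤ W₁ ⊔ W₂' := by
    intro w hw
    obtain ⟨a, ha, b, hb, hab⟩ := hfac w (hW₂S hw)
    have hwx : x * w = w * x := hcomm x hx w hw
    have hbx : x * b = b * x := hW₁c x hx b hb
    have hax : a * x = x * a := by
      have ea : a = w * b⁻¹ := by rw [hab]; group
      have hbx' : b⁻¹ * x = x * b⁻¹ := by
        calc b⁻¹ * x = b⁻¹ * (x * b) * b⁻¹ := by group
          _ = b⁻¹ * (b * x) * b⁻¹ := by rw [hbx]
          _ = x * b⁻¹ := by group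
      calc a * x = w * (b⁻¹ * x) := by rw [ea]; group
        _ = w * (x * b⁻¹) := by rw [hbx']
        _ = (w * x) * b⁻¹ := by group
        _ = (x * w) * b⁻¹ := by rw [hwx]
        _ = x * a := by rw [ea]; group
    have haW : a ∈ W₂' := by
      rw [← hP.W₂_centralizer x hx hx1]
      exact Subgroup.mem_inf.mpr ⟨ha, Subgroup.mem_centralizer_singleton_iff.mpr hax⟩
    rw [hab]
    exact mul_mem (Subgroup.mem_sup_right haW) (Subgroup.mem_sup_left hb)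
  have step2 : W₁ ⊔ W₂ ≤ W₁ ⊔ W₂' := sup_le le_sup_left step1
  obtain ⟨w₂, hw₂, hw₂1⟩ := (Subgroup.ne_bot_iff_exists_ne_one (H := W₂)).mp hW₂ne |> fun ⟨a, ha⟩ =>
    (⟨a.1, a.2, fun h => ha (Subtype.ext h)⟩ : ∃ x ∈ W₂, x ≠ 1)
  have hwW : x * w₂ ∈ W₁ ⊔ W₂ := mul_mem (Subgroup.mem_sup_left hx) (Subgroup.mem_sup_right hw₂)
  have hw1 : x * w₂ ∉ W₁ := by
    intro h
    have : w₂ ∈ W₁ ⊓ W₂ := by
      refine Subgroup.mem_inf.mpr ⟨?_, hw₂⟩
      have e : w₂ = x⁻¹ * (x * w₂) := by group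
      rw [e]; exact W₁.mul_mem (W₁.inv_mem hx) h
    rw [hdisj, Subgroup.mem_bot] at this
    exact hw₂1 this
  have hw2 : x * w₂ ∉ W₂ := by
    intro h
    have : x ∈ W₁ ⊓ W₂ := by
      refine Subgroup.mem_inf.mpr ⟨hx, ?_⟩
      have e : x = (x * w₂) * w₂⁻¹ := by group
      rw [e]; exact W₂.mul_mem h (W₂.inv_mem hw₂)
    rw [hdisj, Subgroup.mem_bot] at this
    exact hx1 this
  have hN : Subgroup.normalizer ({x * w₂} : Set G) = W₁ ⊔ W₂ := by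
    apply hnorm
    · intro z hz
      rw [Set.mem_singleton_iff] at hz
      subst hz
      refine ⟨hwW, ?_⟩
      rintro (h | h)
      · exact hw1 h
      · exact hw2 h
    · exact Set.singleton_nonempty _
  have step3 : W₁ ⊔ W₂' ≤ W₁ ⊔ W₂ := by
    rw [← hN]
    intro g hg
    have := hcyc'
    have hc : ∀ a ∈ W₁ ⊔ W₂', ∀ b ∈ W₁ ⊔ W₂', a * b = b * a := by
      intro a ha b hb
      have := (IsCyclic.commGroup (α := ↥(W₁ ⊔ W₂'))).mul_comm ⟨a, ha⟩ ⟨b, hb⟩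
      exact congrArg Subtype.val this
    have hgw : g * (x * w₂) = (x * w₂) * g := hc g hg _ (step2 hwW)
    rw [Subgroup.mem_set_normalizer_iff]
    intro h
    simp only [Set.mem_singleton_iff]
    constructor
    · intro hh
      rw [hh, hgw]; group
    · intro hh
      calc h = g⁻¹ * (g * h * g⁻¹) * g := by group
        _ = g⁻¹ * ((x * w₂) * g) := by rw [hh]; group
        _ = g⁻¹ * (g * (x * w₂)) := by rw [hgw]
        _ = x * w₂ := by group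
  have hWW : W₁ ⊔ W₂ = W₁ ⊔ W₂' := le_antisymm step2 step3
  have hn2 : W₂ ≤ Subgroup.normalizer (W₁ : Set G) := le_normalizer_of_commute W₁ W₂ hcomm
  have hn2' : W₂' ≤ Subgroup.normalizer (W₁ : Set G) := le_normalizer_of_commute W₁ W₂' hcomm'
  have hc1 := card_sup_of_inf_eq_bot W₁ W₂ hn2 hdisj
  have hc2 := card_sup_of_inf_eq_bot W₁ W₂' hn2' hdisj'
  have hcardW : Nat.card ↥(W₁ ⊔ W₂) = Nat.card ↥(W₁ ⊔ W₂') := by rw [hWW]
  have hpos : 0 < Nat.card W₁ := Nat.card_pos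
  have hcard : Nat.card W₂ = Nat.card W₂' := by
    rw [hc1, hc2] at hcardW
    exact Nat.eq_of_mul_eq_mul_left hpos hcardW
  have := hcyc
  have hle2 : W₂ ≤ W₁ ⊔ W₂ := le_sup_right
  have hle2' : W₂' ≤ W₁ ⊔ W₂ := by rw [hWW]; exact le_sup_right
  have heq : W₂'.subgroupOf (W₁ ⊔ W₂) = W₂.subgroupOf (W₁ ⊔ W₂) := by
    apply eq_of_card_eq_of_isCyclic
    rw [Nat.card_congr (Subgroup.subgroupOfEquivOfLe hle2').toEquiv,
      Nat.card_congr (Subgroup.subgroupOfEquivOfLe hle2).toEquiv, hcard]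
  have := congrArg (Subgroup.map (W₁ ⊔ W₂).subtype) heq
  rwa [Subgroup.map_subgroupOf_eq_of_le hle2', Subgroup.map_subgroupOf_eq_of_le hle2] at this

end Cfsg.Agent.S1386
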