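import Mathlib
import Cfsg.Statements.S1387
import Cfsg.Agent.Lib.Helper10.TypeP

set_option autoImplicit false
open Cfsg

namespace Cfsg.Agent.S1387

open Cfsg.Agent.Lib.Helper10

theorem result {G : Type*} [Group G] [Finite G] (M W₁ U W₂ : Subgroup G) (hP : Cfsg.IsTypePWith M W₁ U W₂) :
    Cfsg.fittingOf M = Cfsg.fittingHallOf M ⊔ (U ⊓ Subgroup.centralizer (Cfsg.fittingHallOf M : Set G)) := by
  set H := fittingHallOf M with hH
  rw [← hP.fitting_eq]
  apply le_antisymm
  · refine sup_le le_sup_left ?_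
    intro c hc
    have hcF : c ∈ fittingOf M := by
      rw [← hP.fitting_eq]
      exact Subgroup.mem_sup_right hc
    have hcM' : c ∈ ⁅M, M⁆ := hP.fitting_le hcF
    obtain ⟨hcM, hcC⟩ := Subgroup.mem_inf.mp hc
    obtain ⟨h, hh, u, hu, hcu⟩ := hP.U_compl.2.2.2 c hcM'
    have hch : h * c = c * h := (Subgroup.mem_centralizer_iff.mp hcC) h hh
    have hue : u = h⁻¹ * c := by rw [hcu]; group
    have hcomm : Commute h u := by
      show h * u = u * h
      rw [hue]
      calc h * (h⁻¹ * c) = h⁻¹ * (h * c) := by group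
        _ = h⁻¹ * (c * h) := by rw [hch]
        _ = h⁻¹ * c * h := by group
    set n := Nat.card U with hn
    have hun : u ^ n = 1 := by
      have h1 : (⟨u, hu⟩ : U) ^ Nat.card U = 1 := pow_card_eq_one'
      have h2 := congrArg Subtype.val h1
      rwa [Subgroup.coe_pow, Subgroup.coe_one] at h2
    have hcn : c ^ n = h ^ n := by
      rw [hcu, hcomm.mul_pow, hun, mul_one]
    have hcop : n.Coprime (orderOf h) := by
      have h1 : orderOf h ∣ Nat.card H := by
        have := orderOf_dvd_natCard (⟨h, hh⟩ : H)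
        rwa [← Subgroup.orderOf_coe] at this
      exact Nat.Coprime.coprime_dvd_right h1 (typeP_coprime_U_H hP)
    obtain ⟨k, hk⟩ := exists_pow_eq_self_of_coprime hcop
    have hhC : h ∈ Subgroup.centralizer (H : Set G) := by
      rw [← hk, ← hcn]
      exact Subgroup.pow_mem _ (Subgroup.pow_mem _ hcC _) _
    have huC : u ∈ Subgroup.centralizer (H : Set G) := by
      rw [hue]
      exact Subgroup.mul_mem _ (Subgroup.inv_mem _ hhC) hcC
    rw [hcu]
    exact mul_mem (Subgroup.mem_sup_left hh)
      (Subgroup.mem_sup_right (Subgroup.mem_inf.mpr ⟨hu, huC⟩))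
  · refine sup_le le_sup_left ?_
    refine le_trans ?_ le_sup_right
    exact inf_le_inf_right _ (typeP_U_le hP)

end Cfsg.Agent.S1387
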