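import Mathlib
import Cfsg.Statements.S1388
import Cfsg.Agent.Lib.Helper10.TypeP
import Cfsg.Agent.S1387

set_option autoImplicit false
open Cfsg

namespace Cfsg.Agent.S1388

open Cfsg.Agent.Lib.Helper10

theorem result {G : Type*} [Group G] [Finite G] (M W₁ U W₂ : Subgroup G) (hP : Cfsg.IsTypePWith M W₁ U W₂) :
    ⁅U, U⁆ ≤ Subgroup.centralizer (Cfsg.fittingHallOf M : Set G) ∧ (U ≠ ⊥ → ¬ U ≤ Subgroup.centralizer (Cfsg.fittingHallOf M : Set G)) := by
  set H := fittingHallOf M with hH
  have hUM' : U ≤ ⁅M, M⁆ := hP.U_compl.2.1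
  have hUM : U ≤ M := typeP_U_le hP
  have hHU : H ⊓ U = ⊥ := hP.U_compl.2.2.1
  constructor
  · intro g hg
    have hgU : g ∈ U := Subgroup.commutator_le_self U hg
    have hgF : g ∈ fittingOf M := by
      rw [← hP.fitting_eq]
      exact hP.derived_two_le (Subgroup.commutator_mono hUM' hUM' hg)
    rw [Cfsg.Agent.S1387.result M W₁ U W₂ hP] at hgF
    have hn : U ⊓ Subgroup.centralizer (H : Set G) ≤ Subgroup.normalizer (H : Set G) :=
      le_trans inf_le_left (typeP_U_normalizes hP)
    obtain ⟨h, hh, u', hu', hgu⟩ := exists_mul_of_mem_sup H _ hn g hgF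
    obtain ⟨hu'U, hu'C⟩ := Subgroup.mem_inf.mp hu'
    have hhU : h ∈ U := by
      have e : h = g * u'⁻¹ := by rw [hgu]; group
      rw [e]
      exact U.mul_mem hgU (U.inv_mem hu'U)
    have h1 : h ∈ H ⊓ U := Subgroup.mem_inf.mpr ⟨hh, hhU⟩
    rw [hHU, Subgroup.mem_bot] at h1
    rw [hgu, h1, one_mul]
    exact hu'C
  · intro hU1 hUC
    apply hU1
    have hcomm : ∀ u ∈ U, ∀ h ∈ H, h * u = u * h := fun u hu h hh =>
      (Subgroup.mem_centralizer_iff.mp (hUC hu)) h hh
    have hconj : ∀ m ∈ M, ∀ u ∈ U, m * u * m⁻¹ ∈ U := by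
      intro m hm u hu
      obtain ⟨a, ha, b, hb, rfl⟩ := hP.W₁_compl.2.2.2 m hm
      obtain ⟨h, hh, u', hu', rfl⟩ := hP.U_compl.2.2.2 a ha
      have h1 : b * u * b⁻¹ ∈ U := (Subgroup.mem_normalizer_iff.mp (hP.U_normal hb) u).mp hu
      have h2 : u' * (b * u * b⁻¹) * u'⁻¹ ∈ U := U.mul_mem (U.mul_mem hu' h1) (U.inv_mem hu')
      have h3 := hcomm _ h2 h hh
      have e : h * u' * b * u * (h * u' * b)⁻¹ = (h * (u' * (b * u * b⁻¹) * u'⁻¹)) * h⁻¹ := by group
      rw [e, h3]
      have e2 : u' * (b * u * b⁻¹) * u'⁻¹ * h * h⁻¹ = u' * (b * u * b⁻¹) * u'⁻¹ := by group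
      rw [e2]
      exact h2
    have hN : (U.subgroupOf M).Normal := by
      constructor
      intro n hn m
      rw [Subgroup.mem_subgroupOf] at hn ⊢
      simp only [Subgroup.coe_mul, Subgroup.coe_inv]
      exact hconj m m.2 n hn
    have hNil : Group.IsNilpotent (U.subgroupOf M) := by
      have := hP.U_nilpotent
      exact Group.nilpotent_of_mulEquiv (Subgroup.subgroupOfEquivOfLe hUM).symm
    have hcardN : Nat.card (U.subgroupOf M) = Nat.card U :=
      Nat.card_congr (Subgroup.subgroupOfEquivOfLe hUM).toEquiv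
    have hW₁M : W₁ ≤ M := hP.W₁_compl.2.1
    have hW₁n : W₁ ≤ Subgroup.normalizer ((⁅M, M⁆ : Subgroup G) : Set G) := by
      intro w hw
      have hwM := hW₁M hw
      have key : ∀ w ∈ M, ∀ x ∈ ⁅M, M⁆, w * x * w⁻¹ ∈ ⁅M, M⁆ := by
        intro w hw x hx
        have hle : ⁅M, M⁆.map (MulAut.conj w).toMonoidHom ≤ ⁅M, M⁆ := by
          rw [Subgroup.map_commutator]
          have hM : M.map (MulAut.conj w).toMonoidHom ≤ M := by
            rintro _ ⟨y, hy, rfl⟩
            simp only [MulEquiv.toMonoidHom_eq_coe, MonoidHom.coe_coe, MulAut.conj_apply]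
            exact M.mul_mem (M.mul_mem hw hy) (M.inv_mem hw)
          exact Subgroup.commutator_mono hM hM
        have := hle (Subgroup.mem_map_of_mem _ hx)
        simpa [MulAut.conj_apply] using this
      rw [Subgroup.mem_normalizer_iff]
      intro x
      constructor
      · exact key w hwM x
      · intro hx
        have := key w⁻¹ (M.inv_mem hwM) _ hx
        have e : w⁻¹ * (w * x * w⁻¹) * w⁻¹⁻¹ = x := by group
        rwa [e] at this
    have hcM : Nat.card M = Nat.card ↥⁅M, M⁆ * Nat.card W₁ := isComplIn_card hP.W₁_compl hW₁n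
    have hcM' := typeP_card_derived hP
    have hidx : Nat.card U * (U.subgroupOf M).index = Nat.card M := by
      rw [← hcardN]
      exact Subgroup.card_mul_index _
    have hposU : 0 < Nat.card U := Nat.card_pos
    have hidx' : (U.subgroupOf M).index = Nat.card H * Nat.card W₁ := by
      apply Nat.eq_of_mul_eq_mul_left hposU
      rw [hidx, hcM, hcM']
      ring
    have hW₁rel : W₁.relIndex M = Nat.card H * Nat.card U := by
      have h1 : Nat.card W₁ * W₁.relIndex M = Nat.card M := by
        have := Subgroup.relIndex_mul_relIndex (H := (⊥ : Subgroup G)) (K := W₁) (L := M)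
          bot_le hW₁M
        rwa [Subgroup.relIndex_bot_left, Subgroup.relIndex_bot_left] at this
      have hposW : 0 < Nat.card W₁ := Nat.card_pos
      apply Nat.eq_of_mul_eq_mul_left hposW
      rw [h1, hcM, hcM']
      ring
    have hcop1 : (Nat.card U).Coprime (Nat.card H) := typeP_coprime_U_H hP
    have hcop2 : (Nat.card U).Coprime (Nat.card W₁) := by
      have := hP.W₁_hall
      rw [hW₁rel] at this
      exact (Nat.Coprime.coprime_mul_left_right this).symm
    have hHall : (Nat.card (U.subgroupOf M)).Coprime (U.subgroupOf M).index := by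
      rw [hcardN, hidx']
      exact Nat.Coprime.mul_right hcop1 hcop2
    have hle := le_fittingHall (U.subgroupOf M) hN hNil hHall
    have hUH : U ≤ H := by
      intro u hu
      have : (⟨u, hUM hu⟩ : M) ∈ U.subgroupOf M := by
        rw [Subgroup.mem_subgroupOf]; exact hu
      have h2 := hle this
      exact ⟨⟨u, hUM hu⟩, h2, rfl⟩
    rw [eq_bot_iff, ← hHU]
    exact le_inf hUH le_rfl

end Cfsg.Agent.S1388
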