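import Cfsg.Statements.S1389
import Cfsg.Agent.Lib.Helper11.TypeFactsD
import Cfsg.Agent.Lib.Helper1.BG15b.SigG

set_option autoImplicit false
open Cfsg

namespace Cfsg.Agent.S1389

open Cfsg.Agent.Lib.Helper18 in
/-- a Hall subgroup `T` of `M` inside `M_σ`: the normalizers of its Sylow subgroups lie in `M`,
and `T` is a Hall subgroup of `G` -/
theorem hall_core {G : Type*} [Group G] [Finite G] (hG : Cfsg.IsMinSimpleOddOrder G)
    (M : Subgroup G) (hM : IsCoatom M) (T : Subgroup G) (hT : T ≤ Cfsg.sigmaCore M)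
    (hHall : (Nat.card T).Coprime (T.relIndex M)) :
    (∀ (p : ℕ), p.Prime → ∀ (P : Sylow p ↥T), (P : Subgroup ↥T) ≠ ⊥ →
        Subgroup.normalizer ((((P : Subgroup ↥T).map T.subtype : Subgroup G)) : Set G) ≤ M) ∧
      (Nat.card T).Coprime T.index := by
  have hTM : T ≤ M := hT.trans (Cfsg.Agent.Lib.Helper28.BGt.sigmaCore_le M)
  have hprime : ∀ r : ℕ, r.Prime → r ∣ Nat.card T → r ∈ Cfsg.sigma M := fun r hr hd =>
    Cfsg.Agent.Lib.Helper28.BGt.prime_sigmaCore hG hM hr (hd.trans (Subgroup.card_dvd_of_le hT))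
  constructor
  · intro p hp P hP1
    haveI : Fact p.Prime := ⟨hp⟩
    have hQS : IsSylowIn p ((P : Subgroup ↥T).map T.subtype) T := isSylowIn_of_sylow P
    have hpP : p ∣ Nat.card (P : Subgroup ↥T) := by
      obtain ⟨n, hn⟩ := (IsPGroup.iff_card).mp P.isPGroup'
      rw [hn]
      apply dvd_pow_self
      rintro rfl
      rw [pow_zero] at hn
      exact hP1 (Subgroup.eq_bot_of_card_eq _ hn)
    have hpT : p ∣ Nat.card T := hpP.trans (Subgroup.card_subgroup_dvd_card _)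
    have hpσ := hprime p hp hpT
    have hQM : IsSylowIn p ((P : Subgroup ↥T).map T.subtype) M := by
      refine ⟨hQS.le.trans hTM, hQS.isPGroup, ?_⟩
      rw [← Subgroup.relIndex_mul_relIndex _ T M hQS.le hTM]
      intro hd
      rcases (Nat.Prime.dvd_mul hp).mp hd with h1 | h1
      · exact hQS.not_dvd h1
      · have := Nat.dvd_gcd hpT h1
        rw [hHall] at this
        exact hp.one_lt.ne' (Nat.dvd_one.mp this)
    exact (Cfsg.Agent.Lib.Helper11.ExcA.good_of_sylow_sigma hpσ hQM).2.1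
  · rw [← Subgroup.relIndex_mul_index hTM]
    apply Nat.Coprime.mul_right hHall
    apply Nat.coprime_of_dvd
    intro r hr h1 h2
    have hrσ := hprime r hr h1
    have h3 := (Cfsg.Agent.Lib.Helper11.BenderO.sigma_hall hG M hM).2.1.2 r hr hrσ
    exact h3 (h2.trans (Subgroup.index_dvd_of_le (Cfsg.Agent.Lib.Helper28.BGt.sigmaCore_le M)))

/-- for type-P data with `N_G(U) ≤ M` (Types III and IV) the derived subgroup is `M_σ` -/
theorem derived_eq_sigmaCore {G : Type*} [Group G] [Finite G] (hG : Cfsg.IsMinSimpleOddOrder G)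
    (M : Subgroup G) (hM : IsCoatom M) (W₁ U W₂ : Subgroup G)
    (h : Cfsg.IsTypePWith M W₁ U W₂) (hU1 : U ≠ ⊥) (hN : Subgroup.normalizer (U : Set G) ≤ M) :
    ⁅M, M⁆ = Cfsg.sigmaCore M := by
  obtain ⟨p, hpκ⟩ := Cfsg.Agent.Lib.Helper11.TypeFacts.typeP_exists_kappa hG hM h
  obtain ⟨⟨K₀, hK₀⟩, hcyc⟩ := Cfsg.Agent.S1351.result hG M hM
  obtain ⟨⟨U₀, hKU₀⟩, -⟩ := Cfsg.Agent.S1352.result hG M hM K₀ (hcyc K₀ hK₀) hK₀
  have hK1 := Cfsg.Agent.Lib.Helper11.TypeFacts.hall_ne_bot_of_mem_kappa hK₀ hpκ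
  by_cases hF : Cfsg.fittingHallOf M = Cfsg.sigmaCore M
  · exfalso
    have hU₀ := Cfsg.Agent.Lib.Helper11.TypeFacts.compl_of_sigmaDecomp hG hM hKU₀ hK1 hF
    obtain ⟨w, hw, e⟩ := Cfsg.Agent.Lib.Helper11.TypeFacts.compl_conj hG hM hU₀ h.U_compl
    have hwM : w ∈ M := Subgroup.commutator_le_self M hw
    have hU₀1 : U₀ ≠ ⊥ := by
      rintro rfl
      apply hU1
      rw [eq_bot_iff]
      intro u hu
      obtain ⟨a, ha, b, hb, rfl⟩ := h.U_compl.2.2.2 u (h.U_compl.2.1 hu)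
      obtain ⟨a', ha', b', hb', hab⟩ := hU₀.2.2.2 _ (h.U_compl.2.1 hu)
      rw [Subgroup.mem_bot] at hb'
      rw [hb', mul_one] at hab
      have h3 : a * b ∈ Cfsg.fittingHallOf M ⊓ U := ⟨hab ▸ ha', hu⟩
      rw [h.U_compl.2.2.1] at h3
      exact h3
    apply Cfsg.Agent.Lib.Helper1.BG15b.normalizer_U_not_le hG hM hKU₀ hK1 hU₀1
    intro g hg
    rw [e] at hg
    have h1 := hN (Cfsg.Agent.Lib.Helper11.BenderM.mem_normalizer_conj hg)
    have h2 : g = w * (w⁻¹ * g * w) * w⁻¹ := by group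
    rw [h2]
    exact M.mul_mem (M.mul_mem hwM h1) (M.inv_mem hwM)
  · exact (Cfsg.Agent.S1437.result hG M hM K₀ U₀ hKU₀ hF).2.1.symm

/-- Let G be a minimal simple group of odd order and M a maximal subgroup, and let M_s be M' if M is of Type III or IV and M_F otherwise. Then N_G(P) ≤ M for every nontrivial Sylow subgroup P of M_s, and both M_F and M_s have order coprime to their index in G. -/
theorem result {G : Type*} [Group G] [Finite G] (hG : Cfsg.IsMinSimpleOddOrder G)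
    (M : Subgroup G) (hM : IsCoatom M) :
    (∀ (p : ℕ), p.Prime → ∀ (P : Sylow p ↥(Cfsg.typeCore M)), (P : Subgroup ↥(Cfsg.typeCore M)) ≠ ⊥ →
        Subgroup.normalizer ((((P : Subgroup ↥(Cfsg.typeCore M)).map (Cfsg.typeCore M).subtype : Subgroup G)) : Set G) ≤ M) ∧
      (Nat.card (Cfsg.fittingHallOf M)).Coprime (Cfsg.fittingHallOf M).index ∧
      (Nat.card (Cfsg.typeCore M)).Coprime (Cfsg.typeCore M).index := by
  have hFle := Cfsg.Agent.Lib.Helper13.BG14.bg14_fittingHallOf_le_sigmaCore hG hM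
  have hFhall := Cfsg.Agent.Lib.Helper10.fittingHallOf_coprime M
  have hF := hall_core hG M hM (Cfsg.fittingHallOf M) hFle hFhall
  have hT : Cfsg.typeCore M ≤ Cfsg.sigmaCore M ∧
      (Nat.card (Cfsg.typeCore M)).Coprime ((Cfsg.typeCore M).relIndex M) := by
    by_cases hc : Cfsg.IsOfTypeIII M ∨ Cfsg.IsOfTypeIV M
    · have hder : ⁅M, M⁆ = Cfsg.sigmaCore M := by
        rcases hc with ⟨W₁, U, W₂, h, hU1, -, -, -, hN⟩ | ⟨W₁, U, W₂, h, hU1, -, -, -, hN⟩
        · exact derived_eq_sigmaCore hG M hM W₁ U W₂ h hU1 hN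
        · exact derived_eq_sigmaCore hG M hM W₁ U W₂ h hU1 hN
      have e : Cfsg.typeCore M = Cfsg.sigmaCore M := by
        unfold Cfsg.typeCore
        rw [if_pos hc, hder]
      rw [e]
      refine ⟨le_rfl, ?_⟩
      have hh := (Cfsg.Agent.Lib.Helper11.BenderO.sigma_hall hG M hM).1
      apply Nat.coprime_of_dvd
      intro r hr h1 h2
      exact hh.2.2 r hr (hh.2.1 r hr h1) h2
    · have e : Cfsg.typeCore M = Cfsg.fittingHallOf M := by
        unfold Cfsg.typeCore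
        rw [if_neg hc]
      rw [e]
      exact ⟨hFle, hFhall⟩
  have hTc := hall_core hG M hM (Cfsg.typeCore M) hT.1 hT.2
  exact ⟨hTc.1, hF.2, hTc.2⟩

end Cfsg.Agent.S1389
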