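import Cfsg.Statements.S1390
import Cfsg.Agent.Lib.Helper11.TypeFactsD
import Cfsg.Agent.S1358
import Cfsg.Agent.S1361
import Cfsg.Agent.S1362

set_option autoImplicit false
open Cfsg

namespace Cfsg.Agent.S1390

/-- the three conclusions from a standard factorisation whose `U` is the given one -/
theorem core {G : Type*} [Group G] [Finite G] (hG : Cfsg.IsMinSimpleOddOrder G)
    (M : Subgroup G) (hM : IsCoatom M) (K U : Subgroup G)
    (hKU : Cfsg.IsSigmaDecomposition M K U)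
    (hF : Cfsg.fittingHallOf M = Cfsg.sigmaCore M)
    (hA : Cfsg.typeA M \ Cfsg.typeA1 M = Cfsg.sigmaA M U \ (Cfsg.sigmaCore M : Set G)) :
    (∀ (p : ℕ), p.Prime → ∀ P : Sylow p U, IsMulCommutative (P : Subgroup U) ∧ Cfsg.PRankLE p 2 (P : Subgroup U)) ∧
      (∀ X : Set G, X ⊆ (U : Set G) \ {1} → X.Nonempty → Cfsg.fittingHallOf M ⊓ Subgroup.centralizer X ≠ ⊥ →
        Subgroup.centralizer X ≤ M ∧ ∀ L : Subgroup G, IsCoatom L → Subgroup.centralizer X ≤ L → L = M) ∧
      Cfsg.IsTISubset (Cfsg.typeA M \ Cfsg.typeA1 M) := by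
  refine ⟨Cfsg.Agent.S1358.result hG M hM K U hKU, ?_, ?_⟩
  · intro X hXU hXne hXc
    have hcl : Subgroup.centralizer ((Subgroup.closure X : Subgroup G) : Set G) =
        Subgroup.centralizer X := Subgroup.centralizer_closure X
    have h1 : Subgroup.closure X ≤ U := (Subgroup.closure_le U).mpr (fun x hx => (hXU hx).1)
    have h2 : Subgroup.closure X ≠ ⊥ := by
      obtain ⟨x, hx⟩ := hXne
      intro e
      have h3 : x ∈ (⊥ : Subgroup G) := e ▸ Subgroup.subset_closure hx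
      exact (hXU hx).2 (Subgroup.mem_bot.mp h3)
    have h3 := Cfsg.Agent.S1361.result hG M hM K U hKU (Subgroup.closure X) h1 h2
      (by rw [hcl, ← hF]; exact hXc)
    rw [hcl] at h3
    exact h3
  · rw [hA]
    exact Cfsg.Agent.S1362.result hG M hM K U hKU

/-- Let G be a minimal simple group of odd order, M a maximal subgroup and H = M_F; suppose M is of Type I and U is a complement to H in M, or M is of Type II and U is a complement to H in M'. Then every Sylow subgroup of U is abelian with no elementary abelian subgroup of order p ^ 3; for every nonempty set X of non-identity elements of U centralizing a non-identity element of H, C_G(X) ≤ M and M is the unique maximal subgroup containing C_G(X); and A(M) with A₁(M) removed is a TI-subset of G. -/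
theorem result {G : Type*} [Group G] [Finite G] (hG : Cfsg.IsMinSimpleOddOrder G)
    (M : Subgroup G) (hM : IsCoatom M) (U : Subgroup G)
    (hU : (Cfsg.IsOfTypeI M ∧ Cfsg.IsComplIn (Cfsg.fittingHallOf M) U M) ∨ (Cfsg.IsOfTypeII M ∧ Cfsg.IsComplIn (Cfsg.fittingHallOf M) U ⁅M, M⁆)) :
    (∀ (p : ℕ), p.Prime → ∀ P : Sylow p U, IsMulCommutative (P : Subgroup U) ∧ Cfsg.PRankLE p 2 (P : Subgroup U)) ∧
      (∀ X : Set G, X ⊆ (U : Set G) \ {1} → X.Nonempty → Cfsg.fittingHallOf M ⊓ Subgroup.centralizer X ≠ ⊥ →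
        Subgroup.centralizer X ≤ M ∧ ∀ L : Subgroup G, IsCoatom L → Subgroup.centralizer X ≤ L → L = M) ∧
      Cfsg.IsTISubset (Cfsg.typeA M \ Cfsg.typeA1 M) := by
  rcases hU with ⟨hI, hU⟩ | ⟨hII, hU⟩
  · have hF := Cfsg.Agent.Lib.Helper11.TypeFacts.typeI_fittingHallOf_eq hG hM hI
    have hKU := Cfsg.Agent.Lib.Helper11.TypeFacts.typeI_sigmaDecomp hG hM hI hU
    have hnot : ¬ (Cfsg.IsOfTypeIII M ∨ Cfsg.IsOfTypeIV M) := by
      rintro (⟨W₁, U', W₂, h, -⟩ | ⟨W₁, U', W₂, h, -⟩)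
      · exact Cfsg.Agent.Lib.Helper11.TypeFacts.typeI_not_typeP hG hM hI h
      · exact Cfsg.Agent.Lib.Helper11.TypeFacts.typeI_not_typeP hG hM hI h
    have hcore : Cfsg.typeCore M = Cfsg.fittingHallOf M := by
      unfold Cfsg.typeCore
      rw [if_neg hnot]
    have hsup : U ⊔ Cfsg.sigmaCore M = M := by
      rw [sup_comm, ← hF]
      exact Cfsg.Agent.Lib.Helper10.isComplIn_sup hU
    apply core hG M hM ⊥ U hKU hF
    ext a
    unfold Cfsg.typeA Cfsg.typeA1 Cfsg.sigmaA Cfsg.sigmaHat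
    rw [if_pos hI, hcore, hsup, ← hF]
    simp only [Set.mem_diff, Set.mem_setOf_eq, SetLike.mem_coe, Set.mem_singleton_iff,
      Set.mem_inter_iff]
    constructor
    · rintro ⟨⟨haM, ha1, x, hx, hx1, hax⟩, hn⟩
      refine ⟨⟨⟨haM, x, hx, hx1, hax⟩, haM⟩, fun h => hn ⟨h, ha1⟩⟩
    · rintro ⟨⟨⟨haM, x, hx, hx1, hax⟩, -⟩, hn⟩
      have ha1 : a ≠ 1 := by
        rintro rfl
        exact hn (Subgroup.one_mem _)
      exact ⟨⟨haM, ha1, x, hx, hx1, hax⟩, fun h => hn h.1⟩
  · have hF := Cfsg.Agent.Lib.Helper11.TypeFacts.typeII_fittingHallOf_eq hG hM hII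
    obtain ⟨K, -, hKU⟩ := Cfsg.Agent.Lib.Helper11.TypeFacts.typeII_sigmaDecomp hG hM hII hU
    have hnot : ¬ (Cfsg.IsOfTypeIII M ∨ Cfsg.IsOfTypeIV M) := by
      rintro (h | h)
      · exact Cfsg.Agent.Lib.Helper11.TypeFacts.typeII_not_III hG hM hII h
      · exact Cfsg.Agent.Lib.Helper11.TypeFacts.typeII_not_IV hG hM hII h
    have hnI := Cfsg.Agent.Lib.Helper11.TypeFacts.typeII_not_I hG hM hII
    have hcore : Cfsg.typeCore M = Cfsg.fittingHallOf M := by
      unfold Cfsg.typeCore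
      rw [if_neg hnot]
    have hsup : U ⊔ Cfsg.sigmaCore M = ⁅M, M⁆ := by
      rw [sup_comm, ← hF]
      exact Cfsg.Agent.Lib.Helper10.isComplIn_sup hU
    apply core hG M hM K U hKU hF
    ext a
    unfold Cfsg.typeA Cfsg.typeA1 Cfsg.sigmaA Cfsg.sigmaHat
    rw [if_neg hnI, hcore, hsup, ← hF]
    simp only [Set.mem_diff, Set.mem_setOf_eq, SetLike.mem_coe, Set.mem_singleton_iff,
      Set.mem_inter_iff]
    constructor
    · rintro ⟨⟨haD, ha1, x, hx, hx1, hax⟩, hn⟩
      refine ⟨⟨⟨Subgroup.commutator_le_self M haD, x, hx, hx1, hax⟩, haD⟩,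
        fun h => hn ⟨h, ha1⟩⟩
    · rintro ⟨⟨⟨-, x, hx, hx1, hax⟩, haD⟩, hn⟩
      have ha1 : a ≠ 1 := by
        rintro rfl
        exact hn (Subgroup.one_mem _)
      exact ⟨⟨haD, ha1, x, hx, hx1, hax⟩, fun h => hn h.1⟩

end Cfsg.Agent.S1390
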