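import Cfsg.Statements.S1421
import Cfsg.Agent.S1412
import Cfsg.Agent.S1414
import Cfsg.Agent.S1416
import Cfsg.Agent.S1417
import Cfsg.Agent.S1424
import Cfsg.Agent.Lib.Helper28.BGtL
import Cfsg.Agent.Lib.Helper1.BG12b.PartOne
import Cfsg.Agent.Lib.Helper1.BG12b.PartTwo

set_option autoImplicit false
open Cfsg

namespace Cfsg.Agent.S1421

/-- Let G be a minimal simple group of odd order, M a maximal subgroup and E a complement to M_σ in M. Suppose that every non-identity element e of E all of whose order's prime divisors lie in τ₁(M) ∪ τ₃(M) has M_σ ∩ C_G(e) = 1. Then E has an abelian normal subgroup A₀ with E ∩ C_G(x) ≤ A₀ for every non-identity x ∈ M_σ, and E has a subgroup E₀ of the same exponent as E such that no non-identity element of E₀ centralizes a non-identity element of M_σ. -/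
theorem result {G : Type*} [Group G] [Finite G] (hG : Cfsg.IsMinSimpleOddOrder G)
    (M : Subgroup G) (hM : IsCoatom M) (E : Subgroup G) (hE : Cfsg.IsComplIn E (Cfsg.sigmaCore M) M)
    (h : ∀ e ∈ E, e ≠ 1 → (∀ p : ℕ, p.Prime → p ∣ orderOf e → p ∈ Cfsg.tau1 M ∪ Cfsg.tau3 M) →
      Cfsg.sigmaCore M ⊓ Subgroup.centralizer ({e} : Set G) = ⊥) :
    (∃ A₀ : Subgroup G, A₀ ≤ E ∧ E ≤ Subgroup.normalizer (A₀ : Set G) ∧ IsMulCommutative A₀ ∧
        ∀ x ∈ Cfsg.sigmaCore M, x ≠ 1 → E ⊓ Subgroup.centralizer ({x} : Set G) ≤ A₀) ∧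
      ∃ E₀ : Subgroup G, E₀ ≤ E ∧ Monoid.exponent E₀ = Monoid.exponent E ∧
        ∀ e ∈ E₀, e ≠ 1 → Cfsg.sigmaCore M ⊓ Subgroup.centralizer ({e} : Set G) = ⊥ := by
  have h16 : Cfsg.Agent.Lib.Helper28.BGt.T1416 G :=
    fun M hM p _ A hA => Cfsg.Agent.S1416.result hG M hM p A hA
  have h17 : Cfsg.Agent.Lib.Helper28.BGt.T1417 G :=
    fun M hM p _ hp A hA => Cfsg.Agent.S1417.result hG M hM p hp A hA
  have nc : Cfsg.Agent.Lib.Helper28.BGt.NC G :=
    fun H hH s hs hsd hsb => ((Cfsg.Agent.S1414.result hG H hH).2.2.2.2 s hs hsd hsb).1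
  have h12 : Cfsg.Agent.Lib.Helper28.BGt.T1412 G :=
    fun p _ P hr => Cfsg.Agent.S1412.result hG p P hr
  have h24 : Cfsg.Agent.Lib.Helper28.BGt.T1424 G :=
    fun M hM q _ hq X hXq hX1 hXM Ms hMs hne hNX S hXS =>
      Cfsg.Agent.S1424.result hG M hM q hq X hXq hX1 hXM Ms hMs hne hNX S hXS
  have h13 : Cfsg.Agent.Lib.Helper1.BG12b.T1427 G :=
    fun M E hM hE p _ S hS hSc y hy hyo =>
      Cfsg.Agent.Lib.Helper28.BGt.thirteen_three_a hG h16 h17 nc h24 hM hE hS hSc hy hyo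
  have c : Cfsg.Agent.Lib.Helper1.BG12b.RegCtx M E E :=
    ⟨hG, h16, h17, nc, h12, hM, hE, le_refl E, Subgroup.le_normalizer, h⟩
  refine ⟨Cfsg.Agent.Lib.Helper1.BG12b.part_one c, ?_⟩
  apply Cfsg.Agent.Lib.Helper1.BG12b.part_two c h13
  intro q hq hd
  rw [Subgroup.relIndex_self] at hd
  exact hq.1.one_lt.ne' (Nat.dvd_one.mp hd)

end Cfsg.Agent.S1421
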