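import Mathlib
import Cfsg.Statements.S1441

set_option autoImplicit false
open Cfsg
open scoped commutatorElement

namespace Cfsg.Agent.S1441

theorem conj_pow_of_conj {G : Type*} [Group G] (x h z : G) (hxh : x * h * x⁻¹ = h * z)
    (hxz : x * z * x⁻¹ = z) (k : ℕ) : x ^ k * h * (x ^ k)⁻¹ = h * z ^ k := by
  induction k with
  | zero => simp
  | succ k ih =>
    have hz : x * z ^ k * x⁻¹ = z ^ k := by
      have h1 : x * z ^ k * x⁻¹ = (x * z * x⁻¹) ^ k := by
        rw [conj_pow]
      rw [h1, hxz]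
    calc x ^ (k + 1) * h * (x ^ (k + 1))⁻¹
        = x * (x ^ k * h * (x ^ k)⁻¹) * x⁻¹ := by
          rw [pow_succ']; group
      _ = x * (h * z ^ k) * x⁻¹ := by rw [ih]
      _ = (x * h * x⁻¹) * (x * z ^ k * x⁻¹) := by group
      _ = h * z * z ^ k := by rw [hxh, hz]
      _ = h * z ^ (k + 1) := by rw [pow_succ', mul_assoc]

theorem centralizes_chain {G : Type*} [Group G] [Finite G] (H A : Subgroup G)
    (n : ℕ) (c : Fin (n + 1) → Subgroup G) (hc0 : c 0 = H) (hcn : c (Fin.last n) = ⊥)
    (hanti : Antitone c)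
    (htriv : ∀ i : Fin n, ⁅c i.castSucc, A⁆ ≤ c i.succ)
    (x : G) (hx : x ∈ A) (hcop : (orderOf x).Coprime (Nat.card H)) :
    ∀ i : Fin (n + 1), ∀ h ∈ c i, x * h * x⁻¹ = h := by
  intro i
  induction i using Fin.reverseInduction with
  | last =>
    intro h hh
    rw [hcn, Subgroup.mem_bot] at hh
    subst hh
    simp
  | cast i ih =>
    intro h hh
    set z := ⁅h⁻¹, x⁆ with hz
    have hzmem : z ∈ c i.succ :=
      htriv i (Subgroup.commutator_mem_commutator ((c i.castSucc).inv_mem hh) hx)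
    have hxh : x * h * x⁻¹ = h * z := by
      rw [hz, commutatorElement_def]; group
    have hxz : x * z * x⁻¹ = z := ih z hzmem
    have hk := conj_pow_of_conj x h z hxh hxz (orderOf x)
    rw [pow_orderOf_eq_one] at hk
    have hz1 : z ^ orderOf x = 1 := by
      have : h = h * z ^ orderOf x := by simpa using hk
      exact (mul_eq_left.mp this.symm)
    have hzH : z ∈ H := by
      rw [← hc0]
      exact hanti (Fin.zero_le _) hzmem
    have ho1 : orderOf z ∣ orderOf x := orderOf_dvd_of_pow_eq_one hz1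
    have ho2 : orderOf z ∣ Nat.card H := by
      have := Subgroup.orderOf_dvd_natCard H hzH
      exact this
    have : orderOf z = 1 := Nat.eq_one_of_dvd_coprimes hcop ho1 ho2
    rw [orderOf_eq_one_iff] at this
    rw [hxh, this, mul_one]

theorem result {G : Type*} [Group G] [Finite G] (H A : Subgroup G) (hH : Group.IsSolvable H) (hA : (A ≤ Subgroup.normalizer (H : Set G)))
    (n : ℕ) (c : Fin (n + 1) → Subgroup G) (hc0 : c 0 = H) (hcn : c (Fin.last n) = ⊥) (hanti : Antitone c)
    (hcN : ∀ i, H ≤ Subgroup.normalizer ((c i : Subgroup G) : Set G)) (hcA : ∀ i, A ≤ Subgroup.normalizer ((c i : Subgroup G) : Set G))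
    (htriv : ∀ i : Fin n, ⁅c i.castSucc, A⁆ ≤ c i.succ) :
    ∀ p : ℕ, p.Prime → p ∣ (A ⊓ Subgroup.centralizer (H : Set G)).relIndex A → p ∣ Nat.card H := by
  intro p hp hdvd
  by_contra hpH
  have : Fact p.Prime := ⟨hp⟩
  obtain ⟨P⟩ : Nonempty (Sylow p A) := inferInstance
  have hPK : (P : Subgroup A) ≤ (A ⊓ Subgroup.centralizer (H : Set G)).subgroupOf A := by
    intro x hxP
    rw [Subgroup.mem_subgroupOf]
    refine ⟨x.2, ?_⟩
    obtain ⟨k, hk⟩ := (IsPGroup.iff_orderOf.mp P.2) ⟨x, hxP⟩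
    have hox : orderOf (x : G) = p ^ k := by
      rw [← hk]
      have : orderOf (⟨x, hxP⟩ : (P : Subgroup A)) = orderOf x := Subgroup.orderOf_mk x hxP
      rw [this, Subgroup.orderOf_coe]
    have hcop : (orderOf (x : G)).Coprime (Nat.card H) := by
      rw [hox]
      exact Nat.Coprime.pow_left _ ((Nat.Prime.coprime_iff_not_dvd hp).mpr hpH)
    have hcent := centralizes_chain H A n c hc0 hcn hanti htriv (x : G) x.2 hcop 0
    refine Subgroup.mem_centralizer_iff.mpr ?_
    intro h hh
    have h1 := hcent h (hc0 ▸ hh)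
    calc h * x = (x * h * (x:G)⁻¹) * x := by rw [h1]
      _ = x * h := by group
  have h1 : ((A ⊓ Subgroup.centralizer (H : Set G)).subgroupOf A).index ∣ (P : Subgroup A).index :=
    Subgroup.index_dvd_of_le hPK
  have h2 : ¬ p ∣ (P : Subgroup A).index := P.not_dvd_index
  exact h2 (hdvd.trans h1)

end Cfsg.Agent.S1441
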