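import Cfsg.Statements.S1449
import Cfsg.Agent.Lib.Helper11.AutRankTwo

set_option autoImplicit false
open Cfsg

namespace Cfsg.Agent.S1449

/-- Let G be a finite group, p an odd prime, R a p-subgroup with no elementary abelian subgroup of order p ^ 3, and A a solvable subgroup of odd order normalizing R with A ∩ C_G(R) = 1. Then the derived subgroup [A, A] is a p-group. -/
theorem result {G : Type*} [Group G] [Finite G] (p : ℕ) [Fact p.Prime] (hp : p ≠ 2) (R A : Subgroup G) (hR : IsPGroup p R) (hr : Cfsg.PRankLE p 2 R)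
    (hA : (A ≤ Subgroup.normalizer (R : Set G))) (hAs : Group.IsSolvable A) (hAodd : Odd (Nat.card A)) (hfaith : A ⊓ Subgroup.centralizer (R : Set G) = ⊥) :
    IsPGroup p ↥⁅A, A⁆ := by
  have hpp : p.Prime := Fact.out
  have hfinA : Finite ↥A := inferInstance
  obtain ⟨φ, hφ⟩ : ∃ φ : ↥A →* MulAut ↥R, φ = R.normalizerMonoidHom.comp (Subgroup.inclusion hA) :=
    ⟨_, rfl⟩
  have hφa : ∀ (a : ↥A) (v : ↥R), ((φ a v : ↥R) : G) = a * v * (a : G)⁻¹ := by
    intro a v
    rw [hφ]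
    rfl
  rintro ⟨c, hc⟩
  obtain ⟨k, m, hpm, hkm⟩ := Nat.exists_eq_pow_mul_and_not_dvd (orderOf_pos c).ne' p hpp.ne_one
  refine ⟨k, Subtype.ext ?_⟩
  simp only [Subgroup.coe_pow, Subgroup.coe_one]
  have hdm : (c ^ p ^ k) ^ m = 1 := by rw [← pow_mul, ← hkm, pow_orderOf_eq_one]
  have hd : c ^ p ^ k ∈ ⁅A, A⁆ := pow_mem hc _
  rw [← Subgroup.map_subtype_commutator] at hd
  obtain ⟨d', hd', hdd⟩ := Subgroup.mem_map.mp hd
  have hd'm : d' ^ m = 1 := by
    apply Subtype.ext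
    rw [Subgroup.coe_pow, Subgroup.coe_one]
    have : (d' : G) = c ^ p ^ k := hdd
    rw [this]
    exact hdm
  have h1 := Cfsg.Agent.Lib.Helper11.AutRankTwo.der_coprime_trivial_rank_two p hp hR hr hAodd φ d'
    hd' m hd'm hpm
  have hcent : (d' : G) ∈ Subgroup.centralizer (R : Set G) := by
    rw [Subgroup.mem_centralizer_iff]
    intro v hv
    have h2 := hφa d' ⟨v, hv⟩
    rw [h1] at h2
    simp only [MulAut.one_apply] at h2
    calc v * (d' : G) = ((d' : G) * v * (d' : G)⁻¹) * d' := by rw [← h2]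
      _ = d' * v := by group
  have hbot : (d' : G) ∈ A ⊓ Subgroup.centralizer (R : Set G) := Subgroup.mem_inf.mpr ⟨d'.2, hcent⟩
  rw [hfaith, Subgroup.mem_bot] at hbot
  have : (d' : G) = c ^ p ^ k := hdd
  rw [← this]
  exact hbot

end Cfsg.Agent.S1449
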