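import Mathlib
import Cfsg.Statements.S1454
import Cfsg.Agent.Lib.Helper21.NarrowF
import Cfsg.Agent.Lib.Helper11.RankTwoTower
import Cfsg.Agent.Lib.Helper11.QuadPairPGroup
import Cfsg.Agent.S0640
import Cfsg.Agent.S1448

set_option autoImplicit false
open Cfsg

namespace Cfsg.Agent.S1454

open Cfsg.Agent.Lib.Helper21.Narrow
open scoped commutatorElement

theorem decomp_of_commute {G : Type*} [Group G] (R₁ R₂ : Subgroup G)
    (hc : ∀ a ∈ R₁, ∀ b ∈ R₂, a * b = b * a) :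
    ∀ x ∈ R₁ ⊔ R₂, ∃ e ∈ R₁, ∃ c ∈ R₂, x = e * c := by
  intro x hx
  rw [← Subgroup.closure_eq R₁, ← Subgroup.closure_eq R₂, ← Subgroup.closure_union] at hx
  induction hx using Subgroup.closure_induction with
  | mem y hy =>
    rcases hy with hy | hy
    · exact ⟨y, hy, 1, R₂.one_mem, (mul_one y).symm⟩
    · exact ⟨1, R₁.one_mem, y, hy, (one_mul y).symm⟩
  | one => exact ⟨1, R₁.one_mem, 1, R₂.one_mem, (mul_one 1).symm⟩
  | mul y z _ _ hy hz =>
    obtain ⟨e, he, c, hc', rfl⟩ := hy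
    obtain ⟨e', he', c', hc'', rfl⟩ := hz
    refine ⟨e * e', R₁.mul_mem he he', c * c', R₂.mul_mem hc' hc'', ?_⟩
    have := hc e' he' c hc'
    calc e * c * (e' * c') = e * (c * e') * c' := by group
      _ = e * (e' * c) * c' := by rw [this]
      _ = e * e' * (c * c') := by group
  | inv y _ hy =>
    obtain ⟨e, he, c, hc', rfl⟩ := hy
    refine ⟨e⁻¹, R₁.inv_mem he, c⁻¹, R₂.inv_mem hc', ?_⟩
    have := hc e⁻¹ (R₁.inv_mem he) c⁻¹ (R₂.inv_mem hc')
    rw [mul_inv_rev]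
    exact this.symm

/-- the action of `A` on `R` by conjugation -/
theorem exists_action {G : Type*} [Group G] (R A : Subgroup G)
    (hA : A ≤ Subgroup.normalizer (R : Set G))
    (hfaith : A ⊓ Subgroup.centralizer (R : Set G) = ⊥) :
    ∃ φ : ↥A →* MulAut ↥R, (∀ (a : ↥A) (v : ↥R), ((φ a v : ↥R) : G) = a * v * (a : G)⁻¹) ∧
      ∀ a : ↥A, φ a = 1 → a = 1 := by
  obtain ⟨φ, hφ⟩ : ∃ φ : ↥A →* MulAut ↥R, φ = R.normalizerMonoidHom.comp (Subgroup.inclusion hA) :=
    ⟨_, rfl⟩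
  have hφa : ∀ (a : ↥A) (v : ↥R), ((φ a v : ↥R) : G) = a * v * (a : G)⁻¹ := by
    intro a v
    rw [hφ]
    rfl
  refine ⟨φ, hφa, ?_⟩
  intro a h1
  have hcent : (a : G) ∈ Subgroup.centralizer (R : Set G) := by
    rw [Subgroup.mem_centralizer_iff]
    intro v hv
    have h2 := hφa a ⟨v, hv⟩
    rw [h1] at h2
    simp only [MulAut.one_apply] at h2
    calc v * (a : G) = ((a : G) * v * (a : G)⁻¹) * a := by rw [← h2]
      _ = a * v := by group
  have hbot : (a : G) ∈ A ⊓ Subgroup.centralizer (R : Set G) := Subgroup.mem_inf.mpr ⟨a.2, hcent⟩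
  rw [hfaith, Subgroup.mem_bot] at hbot
  exact Subtype.ext hbot

theorem part_a {G : Type*} [Group G] [Finite G] (p : ℕ) [Fact p.Prime] (hp : p ≠ 2)
    (R A : Subgroup G) (hR : IsPGroup p R) (hRn : Cfsg.IsNarrow p R)
    (hA : (A ≤ Subgroup.normalizer (R : Set G))) (hAs : Group.IsSolvable A)
    (hAodd : Odd (Nat.card A)) (hfaith : A ⊓ Subgroup.centralizer (R : Set G) = ⊥) :
    commutator ↥A ≤ Cfsg.pCore p ↥A ∧ ((Cfsg.pCore p ↥A).index).Coprime p := by
  have hpp : p.Prime := Fact.out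
  obtain ⟨φ, hφa, hker⟩ := exists_action R A hA hfaith
  have hcp : IsPGroup p ↥(commutator ↥A) := by
    rintro ⟨c, hc⟩
    obtain ⟨k, m, hpm, hkm⟩ := Nat.exists_eq_pow_mul_and_not_dvd (orderOf_pos c).ne' p hpp.ne_one
    refine ⟨k, Subtype.ext ?_⟩
    simp only [Subgroup.coe_pow, Subgroup.coe_one]
    have hdm : (c ^ p ^ k) ^ m = 1 := by rw [← pow_mul, ← hkm, pow_orderOf_eq_one]
    have hd : c ^ p ^ k ∈ commutator ↥A := pow_mem hc _
    have h1 := narrow_der_trivial p hp hR hRn hAodd φ (c ^ p ^ k) hd m hdm hpm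
    exact hker _ h1
  have h1 : commutator ↥A ≤ Cfsg.pCore p ↥A :=
    Cfsg.Agent.Lib.Helper1.le_pCore inferInstance hcp
  refine ⟨h1, ?_⟩
  obtain ⟨P⟩ : Nonempty (Sylow p ↥A) := inferInstance
  have h2 : Cfsg.pCore p ↥A ≤ (P : Subgroup ↥A) := Cfsg.Agent.Lib.Helper1.pCore_le_sylow p P
  have h3 : (P : Subgroup ↥A).Normal :=
    Cfsg.Agent.Lib.Helper11.RankTwoTower.normal_of_commutator_le _ (h1.trans h2)
  have h4 : (P : Subgroup ↥A) ≤ Cfsg.pCore p ↥A := Cfsg.Agent.Lib.Helper1.le_pCore h3 P.isPGroup'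
  have h5 : Cfsg.pCore p ↥A = (P : Subgroup ↥A) := le_antisymm h2 h4
  rw [h5]
  exact ((Nat.Prime.coprime_iff_not_dvd hpp).mpr P.not_dvd_index).symm

theorem part_b {G : Type*} [Group G] [Finite G] (p : ℕ) [Fact p.Prime] (hp : p ≠ 2)
    (R A : Subgroup G) (hR : IsPGroup p R) (hRn : Cfsg.IsNarrow p R)
    (hA : (A ≤ Subgroup.normalizer (R : Set G)))
    (hfaith : A ⊓ Subgroup.centralizer (R : Set G) = ⊥) :
    ¬ Cfsg.PRankLE p 2 R → ∀ a ∈ A, (orderOf a).Coprime p → orderOf a ∣ p - 1 := by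
  intro hr a ha hcop
  obtain ⟨φ, hφa, hker⟩ := exists_action R A hA hfaith
  have h0 : orderOf (⟨a, ha⟩ : ↥A) = orderOf a := by
    rw [← Subgroup.orderOf_coe]
  have h1 : (orderOf (φ ⟨a, ha⟩)).Coprime p := by
    apply Nat.Coprime.coprime_dvd_left _ hcop
    rw [← h0]
    exact orderOf_map_dvd φ _
  have h2 := maxElem_pow_trivial p hp hR hr (hasMaxElem_of_narrow hR hRn hr) (φ ⟨a, ha⟩) h1
  rw [← map_pow] at h2
  have h3 := hker _ h2
  have h4 : a ^ (p - 1) = 1 := by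
    have := congrArg Subtype.val h3
    simpa using this
  exact orderOf_dvd_of_pow_eq_one h4


theorem part_c1 {G : Type*} [Group G] [Finite G] (p : ℕ) [Fact p.Prime] (hp : p ≠ 2)
    (R A : Subgroup G) (hR : IsPGroup p R) (hRn : Cfsg.IsNarrow p R)
    (hA : (A ≤ Subgroup.normalizer (R : Set G))) (hAodd : Odd (Nat.card A))
    (hfaith : A ⊓ Subgroup.centralizer (R : Set G) = ⊥)
    (hq : (Nat.card A).Prime) (hndvd : ¬ Nat.card A ∣ p * (p - 1)) :
    Cfsg.PRankLE p 2 R ∧ 2 * Nat.card A ∣ p + 1 := by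
  have hpp : p.Prime := Fact.out
  obtain ⟨φ, hφa, hker⟩ := exists_action R A hA hfaith
  have hqp : Nat.card A ≠ p := by
    intro h
    exact hndvd (h ▸ Dvd.intro _ rfl)
  have hqp1 : ¬ Nat.card A ∣ p - 1 := fun h => hndvd (Dvd.dvd.mul_left h p)
  have hrk : Cfsg.PRankLE p 2 R := by
    by_contra hr
    have : Nontrivial ↥A := by
      rw [← Finite.one_lt_card_iff_nontrivial]
      exact hq.one_lt
    obtain ⟨a, ha⟩ := exists_ne (1 : ↥A)
    have h1 : orderOf a ∣ Nat.card A := orderOf_dvd_natCard a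
    have h2 : orderOf a = Nat.card A := by
      rcases (Nat.dvd_prime hq).mp h1 with h | h
      · exact absurd (orderOf_eq_one_iff.mp h) ha
      · exact h
    have h3 : orderOf (a : G) = Nat.card A := by rw [Subgroup.orderOf_coe, h2]
    have h4 : (orderOf (a : G)).Coprime p := by
      rw [h3]
      exact (Nat.coprime_primes hq hpp).mpr hqp
    have h5 := part_b p hp R A hR hRn hA hfaith hr a a.2 h4
    rw [h3] at h5
    exact hqp1 h5
  refine ⟨hrk, ?_⟩
  have hinj : Function.Injective φ := by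
    rw [injective_iff_map_eq_one]
    exact hker
  have hdvd : Nat.card A ∣ Nat.card (MulAut ↥R) := Subgroup.card_dvd_of_injective φ hinj
  obtain ⟨h1, h2⟩ := Cfsg.Agent.S0640.result hp hR hrk (Nat.card A) hq hqp hdvd
  have h3 : p ^ 2 - 1 = (p - 1) * (p + 1) := by
    have : 1 ≤ p := hpp.one_lt.le
    obtain ⟨k, rfl⟩ := Nat.exists_eq_add_of_le this
    simp only [Nat.add_sub_cancel_left]
    have : (1 + k) ^ 2 = k * (1 + k + 1) + 1 := by ring
    rw [this, Nat.add_sub_cancel]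
  rw [h3] at h1
  have h4 : Nat.card A ∣ p + 1 := by
    rcases (Nat.Prime.dvd_mul hq).mp h1 with h | h
    · exact absurd h hqp1
    · exact h
  have h5 : 2 ∣ p + 1 := by
    rcases hpp.eq_two_or_odd' with h | h
    · exact absurd h hp
    · obtain ⟨k, hk⟩ := h
      exact ⟨k + 1, by omega⟩
  have h6 : Nat.Coprime 2 (Nat.card A) := by
    rw [Nat.coprime_two_left]
    exact hAodd
  exact Nat.Coprime.mul_dvd_of_dvd_of_dvd h6 h5 h4


theorem part_c2 {G : Type*} [Group G] [Finite G] (p : ℕ) [Fact p.Prime] (hp : p ≠ 2)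
    (R A : Subgroup G) (hR : IsPGroup p R) (hrk : Cfsg.PRankLE p 2 R)
    (hA : (A ≤ Subgroup.normalizer (R : Set G))) (hAodd : Odd (Nat.card A))
    (hfaith : A ⊓ Subgroup.centralizer (R : Set G) = ⊥)
    (hq : (Nat.card A).Prime) (hndvd : ¬ Nat.card A ∣ p * (p - 1))
    (hRA : ⁅R, A⁆ = R) (hnc : ¬ IsMulCommutative R) : Nat.card R = p ^ 3 := by
  have hpp : p.Prime := Fact.out
  obtain ⟨φ, hφa, hker⟩ := exists_action R A hA hfaith
  have hqp : Nat.card A ≠ p := by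
    intro h
    exact hndvd (h ▸ Dvd.intro _ rfl)
  have hqp1 : ¬ Nat.card A ∣ p - 1 := fun h => hndvd (Dvd.dvd.mul_left h p)
  have hRne : R ≠ ⊥ := by
    rintro rfl
    exact hnc inferInstance
  have hcop : (Nat.card A).Coprime p := (Nat.coprime_primes hq hpp).mpr hqp
  obtain ⟨_, h | ⟨R₁, R₂, hsup, hcomm, hR1nc, hR1card, hR1exp, hR2cyc, hR2cl⟩⟩ :=
    Cfsg.Agent.S1448.result p hp R A hR hRne hrk hA hcop hAodd hRA
  · exact absurd h hnc
  have hR1le : R₁ ≤ R := hsup ▸ le_sup_left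
  have hR2le : R₂ ≤ R := hsup ▸ le_sup_right
  have hexp1 : ∀ x ∈ R₁, x ^ p = 1 := by
    intro x hx
    have := Monoid.pow_exponent_eq_one (⟨x, hx⟩ : ↥R₁)
    rw [hR1exp] at this
    simpa using congrArg Subtype.val this
  have hder : ⁅R₁, R₁⁆ ≤ R₁ := by
    rw [Subgroup.commutator_le]
    intro a ha b hb
    rw [commutatorElement_def]
    exact R₁.mul_mem (R₁.mul_mem (R₁.mul_mem ha hb) (R₁.inv_mem ha)) (R₁.inv_mem hb)
  have homega : ∀ x ∈ R, x ^ p = 1 → x ∈ R₁ := by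
    intro x hx hxp
    rw [← hsup] at hx
    obtain ⟨e, he, c, hc, rfl⟩ := decomp_of_commute R₁ R₂ hcomm x hx
    have hce : Commute e c := hcomm e he c hc
    have h1 : (e * c) ^ p = e ^ p * c ^ p := hce.mul_pow p
    rw [h1, hexp1 e he, one_mul] at hxp
    have h2 : c ∈ Subgroup.closure {x : G | x ∈ R₂ ∧ x ^ p = 1} :=
      Subgroup.subset_closure ⟨hc, hxp⟩
    rw [hR2cl] at h2
    exact R₁.mul_mem he (hder h2)
  obtain ⟨N, hN⟩ : ∃ N : Subgroup ↥R, N = R₁.subgroupOf R := ⟨_, rfl⟩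
  have hNmem : ∀ s : ↥R, s ∈ N ↔ (s : G) ∈ R₁ := by
    intro s
    rw [hN, Subgroup.mem_subgroupOf]
  have hNinv : ∀ (α : MulAut ↥R), ∀ s ∈ N, α s ∈ N := by
    intro α s hs
    rw [hNmem] at hs ⊢
    apply homega _ (α s).2
    have h1 : s ^ p = 1 := Subtype.ext (by simpa using hexp1 _ hs)
    have h2 : (α s) ^ p = 1 := by rw [← map_pow, h1, map_one]
    simpa using congrArg Subtype.val h2
  have hNnormal : N.Normal := ⟨fun n hn g => by
    have := hNinv (MulAut.conj g) n hn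
    simpa using this⟩
  have hQcyc : IsCyclic (↥R ⧸ N) := by
    obtain ⟨f, hf⟩ : ∃ f : ↥R₂ →* ↥R ⧸ N,
      f = (QuotientGroup.mk' N).comp (Subgroup.inclusion hR2le) := ⟨_, rfl⟩
    have hsurj : Function.Surjective f := by
      intro x
      induction x using QuotientGroup.induction_on with
      | H r =>
        have hr : (r : G) ∈ R₁ ⊔ R₂ := hsup ▸ r.2
        obtain ⟨e, he, c, hc, hrc⟩ := decomp_of_commute R₁ R₂ hcomm _ hr
        refine ⟨⟨c, hc⟩, ?_⟩
        rw [hf]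
        show (QuotientGroup.mk (Subgroup.inclusion hR2le ⟨c, hc⟩) : ↥R ⧸ N) = QuotientGroup.mk r
        rw [QuotientGroup.eq, hNmem]
        have h1 : (((Subgroup.inclusion hR2le ⟨c, hc⟩)⁻¹ * r : ↥R) : G) = c⁻¹ * (e * c) := by
          rw [Subgroup.coe_mul, hrc]
          rfl
        rw [h1, hcomm e he c hc]
        have : c⁻¹ * (c * e) = e := by group
        rw [this]
        exact he
    exact isCyclic_of_surjective f hsurj
  have hQp : IsPGroup p (↥R ⧸ N) := IsPGroup.to_quotient hR N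
  have hcopQ : Nat.Coprime (Nat.card A) (Nat.card (MulAut (↥R ⧸ N))) := by
    rw [IsCyclic.card_mulAut]
    obtain ⟨n, hn⟩ := IsPGroup.iff_card.mp hQp
    rw [hn]
    rcases n with _ | k
    · simp
    · rw [Nat.totient_prime_pow_succ hpp k, Nat.Prime.coprime_iff_not_dvd hq]
      intro h
      rcases (Nat.Prime.dvd_mul hq).mp h with h | h
      · exact hqp ((Nat.prime_dvd_prime_iff_eq hq hpp).mp (hq.dvd_of_dvd_pow h))
      · exact hqp1 h
  obtain ⟨θ, hθ⟩ : ∃ θ : MulAut ↥R →* MulAut (↥R ⧸ N),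
      ∀ (α : MulAut ↥R) (v : ↥R), θ α (QuotientGroup.mk v) = QuotientGroup.mk (α v) :=
    ⟨Cfsg.Agent.Lib.Helper11.QuadPairPGroup.quotAut N hNinv,
      Cfsg.Agent.Lib.Helper11.QuadPairPGroup.quotAut_mk N hNinv⟩
  have htriv : ∀ a' : ↥A, θ (φ a') = 1 := by
    intro a'
    have h1 : (θ (φ a')) ^ (Nat.card A) = 1 := by
      rw [← map_pow, ← map_pow, pow_card_eq_one', map_one, map_one]
    have h2 : orderOf (θ (φ a')) ∣ Nat.card A := orderOf_dvd_of_pow_eq_one h1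
    have h3 : orderOf (θ (φ a')) ∣ Nat.card (MulAut (↥R ⧸ N)) := orderOf_dvd_natCard _
    have h4 := Nat.dvd_gcd h2 h3
    rw [hcopQ.gcd_eq_one, Nat.dvd_one] at h4
    exact orderOf_eq_one_iff.mp h4
  have hcm : ∀ r ∈ R, ∀ a ∈ A, ⁅r, a⁆ ∈ R₁ := by
    intro r hr a ha
    have h1 := htriv ⟨a, ha⟩
    have h2 := hθ (φ ⟨a, ha⟩) ⟨r⁻¹, R.inv_mem hr⟩
    rw [h1, MulAut.one_apply] at h2
    have h3 := QuotientGroup.eq.mp h2
    rw [hNmem] at h3
    have h4 : (((⟨r⁻¹, R.inv_mem hr⟩ : ↥R)⁻¹ * φ ⟨a, ha⟩ ⟨r⁻¹, R.inv_mem hr⟩ : ↥R) : G)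
        = ⁅r, a⁆ := by
      rw [Subgroup.coe_mul, hφa, commutatorElement_def]
      simp only [Subgroup.coe_inv, inv_inv]
      group
    rw [h4] at h3
    exact h3
  have h5 : ⁅R, A⁆ ≤ R₁ := Subgroup.commutator_le.mpr hcm
  rw [hRA] at h5
  have h6 : R = R₁ := le_antisymm h5 hR1le
  rw [h6]
  exact hR1card


/-- Let G be a finite group, p an odd prime, R a narrow p-subgroup and A a solvable subgroup of odd order normalizing R with A ∩ C_G(R) = 1. Then [A, A] ≤ O_p(A) and the index of O_p(A) in A is coprime to p; if R has an elementary abelian subgroup of order p ^ 3 then the order of every element of A of order coprime to p divides p − 1; and if the order of A is a prime not dividing p(p − 1), then 2·#A divides p + 1, and if in addition [R, A] = R and R is non-abelian then #R = p ^ 3. -/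
theorem result {G : Type*} [Group G] [Finite G] (p : ℕ) [Fact p.Prime] (hp : p ≠ 2) (R A : Subgroup G) (hR : IsPGroup p R) (hRn : Cfsg.IsNarrow p R)
    (hA : (A ≤ Subgroup.normalizer (R : Set G))) (hAs : Group.IsSolvable A) (hAodd : Odd (Nat.card A)) (hfaith : A ⊓ Subgroup.centralizer (R : Set G) = ⊥) :
    (commutator ↥A ≤ Cfsg.pCore p ↥A ∧ ((Cfsg.pCore p ↥A).index).Coprime p) ∧
      (¬ Cfsg.PRankLE p 2 R → ∀ a ∈ A, (orderOf a).Coprime p → orderOf a ∣ p - 1) ∧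
      ((Nat.card A).Prime → ¬ Nat.card A ∣ p * (p - 1) →
        2 * Nat.card A ∣ p + 1 ∧ (⁅R, A⁆ = R → ¬ IsMulCommutative R → Nat.card R = p ^ 3)) := by
  refine ⟨part_a p hp R A hR hRn hA hAs hAodd hfaith, part_b p hp R A hR hRn hA hfaith, ?_⟩
  intro hq hndvd
  obtain ⟨hrk, h2⟩ := part_c1 p hp R A hR hRn hA hAodd hfaith hq hndvd
  exact ⟨h2, fun hRA hnc => part_c2 p hp R A hR hrk hA hAodd hfaith hq hndvd hRA hnc⟩

end Cfsg.Agent.S1454
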