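import Mathlib
import Cfsg.Statements.S1456
import Cfsg.Agent.Lib.Helper21.NarrowH
import Cfsg.Agent.Lib.Helper21.NarrowI

set_option autoImplicit false
open Cfsg

namespace Cfsg.Agent.S1456

open Cfsg.Agent.Lib.Helper21.Narrow Cfsg.Agent.Lib.Helper11.RankTwoTower

/-- Let G be a solvable group of odd order, p a prime, and E an elementary abelian p-subgroup of the Fitting subgroup F(G) such that F(G) ∩ C_G(E) has no elementary abelian subgroup of order q ^ 3 for any prime q. Then the derived subgroup of G is contained in F(G). -/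
theorem result {G : Type*} [Group G] [Finite G] [Group.IsSolvable G] (hodd : Odd (Nat.card G)) (p : ℕ) [Fact p.Prime] (E : Subgroup G) (hE : E ≤ Cfsg.fittingSubgroup G) (hEe : Cfsg.IsElementaryAbelian p E)
    (hr : Cfsg.RankLE 2 ↥(Cfsg.fittingSubgroup G ⊓ Subgroup.centralizer (E : Set G))) :
    commutator G ≤ Cfsg.fittingSubgroup G := by
  have hpp : p.Prime := Fact.out
  -- `E ≤ O_p(G)`
  have hEP : E ≤ Cfsg.pCore p G := by
    intro e he
    have h1 : e ∈ Cfsg.pCore p G ⊔ otherCores G ⟨p, hpp⟩ := by
      rw [← fitting_eq_sup (G := G) ⟨p, hpp⟩]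
      exact hE he
    exact mem_of_mem_sup_coprime (Cfsg.pCore p G) (otherCores G ⟨p, hpp⟩) e h1 p (hEe.2 e he)
      (otherCores_normal_coprime (G := G) ⟨p, hpp⟩).2.symm
  apply commutator_le_fitting_of_der
  intro q hqF c hc m hcm hqm
  have hq : q.Prime := hqF.out
  by_cases hqp : q = p
  · subst hqp
    by_cases hrk : Cfsg.PRankLE q 2 ↥(Cfsg.pCore q G)
    · exact der_centralizes hodd q hrk c hc m hcm hqm
    · have hp2 : q ≠ 2 := by
        rintro rfl
        apply hrk
        intro A _ _
        have h1 : Nat.card ↥A ≤ Nat.card ↥(Cfsg.pCore 2 G) := Subgroup.card_le_card_group A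
        have h2 : Nat.card ↥(Cfsg.pCore 2 G) = 1 := by
          rw [pCore_two_eq_bot hodd, Subgroup.card_bot]
        rw [h2] at h1
        omega
      have hPp : IsPGroup q ↥(Cfsg.pCore q G) := Cfsg.Agent.Lib.Helper1.pCore_isPGroup q
      have hE'el : Cfsg.IsElementaryAbelian q (E.subgroupOf (Cfsg.pCore q G)) := by
        have hc' : IsMulCommutative ↥E := hEe.1
        refine ⟨Subgroup.comap_injective_isMulCommutative E
          (Cfsg.pCore q G).subtype_injective, ?_⟩
        intro b hb
        apply Subtype.ext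
        have := hEe.2 b.1 (Subgroup.mem_subgroupOf.mp hb)
        simpa using this
      have hmemC : ∀ x : ↥(Subgroup.centralizer
          ((E.subgroupOf (Cfsg.pCore q G) : Subgroup ↥(Cfsg.pCore q G)) : Set ↥(Cfsg.pCore q G))),
          ((x : ↥(Cfsg.pCore q G)) : G) ∈
            Cfsg.fittingSubgroup G ⊓ Subgroup.centralizer (E : Set G) := by
        intro x
        refine Subgroup.mem_inf.mpr
          ⟨Cfsg.Agent.Lib.Helper1.pCore_le_fittingSubgroup q x.1.2, ?_⟩
        rw [Subgroup.mem_centralizer_iff]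
        intro e he
        have h1 := (Subgroup.mem_centralizer_iff.mp x.2) ⟨e, hEP he⟩
          (Subgroup.mem_subgroupOf.mpr he)
        exact congrArg Subtype.val h1
      obtain ⟨f, hf⟩ : ∃ f : ↥(Subgroup.centralizer
          ((E.subgroupOf (Cfsg.pCore q G) : Subgroup ↥(Cfsg.pCore q G)) : Set ↥(Cfsg.pCore q G))) →*
          ↥(Cfsg.fittingSubgroup G ⊓ Subgroup.centralizer (E : Set G)),
          ∀ x, ((f x : ↥(Cfsg.fittingSubgroup G ⊓ Subgroup.centralizer (E : Set G))) : G) =
            ((x : ↥(Cfsg.pCore q G)) : G) :=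
        ⟨(((Cfsg.pCore q G).subtype).comp (Subgroup.subtype _)).codRestrict _ hmemC, fun x => rfl⟩
      have hfinj : Function.Injective f := by
        intro x y hxy
        have h1 := congrArg Subtype.val hxy
        rw [hf, hf] at h1
        exact Subtype.ext (Subtype.ext h1)
      have hX := prank_of_injective f hfinj (hr q hq)
      have hME := hasMaxElem_of_centralizer_rank q hPp (E.subgroupOf (Cfsg.pCore q G)) hE'el hX hrk
      have h1 := maxElem_der_trivial q hp2 hPp hrk hME
        (MulAut.conjNormal (H := Cfsg.pCore q G)) c hc m hcm hqm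
      exact Cfsg.Agent.Lib.Helper11.RankTwoSolvable.conjNormal_ker_le _ (MonoidHom.mem_ker.mpr h1)
  · have hle : Cfsg.pCore q G ≤ Cfsg.fittingSubgroup G ⊓ Subgroup.centralizer (E : Set G) := by
      intro x hx
      refine Subgroup.mem_inf.mpr ⟨Cfsg.Agent.Lib.Helper1.pCore_le_fittingSubgroup q hx, ?_⟩
      rw [Subgroup.mem_centralizer_iff]
      intro e he
      have hdis : Disjoint (Cfsg.pCore p G) (Cfsg.pCore q G) := by
        apply Subgroup.disjoint_of_coprime_natCard
        obtain ⟨a, ha⟩ := IsPGroup.iff_card.mp (Cfsg.Agent.Lib.Helper1.pCore_isPGroup (G := G) p)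
        obtain ⟨b, hb⟩ := IsPGroup.iff_card.mp (Cfsg.Agent.Lib.Helper1.pCore_isPGroup (G := G) q)
        rw [ha, hb]
        apply Nat.Coprime.pow
        exact (Nat.coprime_primes hpp hq).mpr (fun h => hqp h.symm)
      exact Subgroup.commute_of_normal_of_disjoint _ _ inferInstance inferInstance hdis e x
        (hEP he) hx
    have hrk : Cfsg.PRankLE q 2 ↥(Cfsg.pCore q G) := prank_of_le hle (hr q hq)
    exact der_centralizes hodd q hrk c hc m hcm hqm

end Cfsg.Agent.S1456
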