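import Cfsg.Statements.S1457
import Cfsg.Agent.S1465
import Cfsg.Agent.Lib.Helper1.PLength

set_option autoImplicit false
open Cfsg

namespace Cfsg.Agent.S1457

/-- Let G be a solvable group of odd order, p a prime, S a Sylow p-subgroup of G and A an abelian subgroup of S normal in S. Then A ≤ O_{p',p}(G). -/
theorem result {G : Type*} [Group G] [Finite G] [Group.IsSolvable G] (hodd : Odd (Nat.card G)) (p : ℕ) [Fact p.Prime] (S : Sylow p G) (A : Subgroup G) (hA : A ≤ (S : Subgroup G)) (hAc : IsMulCommutative A)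
    (hAn : (S : Subgroup G) ≤ Subgroup.normalizer (A : Set G)) :
    A ≤ Cfsg.pPrimePCore p G := by
  by_cases hp : p = 2
  · subst hp
    have hS : (S : Subgroup G) = ⊥ := by
      obtain ⟨k, hk⟩ := IsPGroup.iff_card.mp S.isPGroup'
      have hdvd : Nat.card (S : Subgroup G) ∣ Nat.card G := Subgroup.card_subgroup_dvd_card _
      rw [hk] at hdvd
      have hk0 : k = 0 := by
        by_contra hk0
        have h2 : 2 ∣ Nat.card G := dvd_trans (dvd_pow_self 2 hk0) hdvd
        exact (Nat.not_even_iff_odd.mpr hodd) (even_iff_two_dvd.mpr h2)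
      rw [hk0, pow_zero] at hk
      exact Subgroup.card_eq_one.mp hk
    intro a ha
    have h1 := hA ha
    rw [hS, Subgroup.mem_bot] at h1
    rw [h1]
    exact one_mem _
  · have hodd' : Odd (Nat.card (G ⧸ Cfsg.pPrimeCore p G)) :=
      Odd.of_dvd_nat hodd (Subgroup.card_quotient_dvd_card _)
    have hO : Cfsg.pPrimeCore p (G ⧸ Cfsg.pPrimeCore p G) = ⊥ :=
      Cfsg.Agent.Lib.Helper1.pPrimeCore_quotient_eq_bot p
    have hPp : IsPGroup p ↥(Cfsg.pCore p (G ⧸ Cfsg.pPrimeCore p G)) :=
      Cfsg.Agent.Lib.Helper1.pCore_isPGroup p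
    have hπ : Function.Surjective (QuotientGroup.mk' (Cfsg.pPrimeCore p G)) :=
      QuotientGroup.mk'_surjective _
    have key := (Cfsg.Agent.S1465.result hodd' p hp (Cfsg.pCore p (G ⧸ Cfsg.pPrimeCore p G)) hPp
      {A.map (QuotientGroup.mk' (Cfsg.pPrimeCore p G))} ?_).2 hO inf_le_left
    · rw [sSup_singleton] at key
      intro a ha
      exact key (Subgroup.mem_map_of_mem (QuotientGroup.mk' (Cfsg.pPrimeCore p G)) ha)
    · intro B hB
      rw [Set.mem_singleton_iff] at hB
      subst hB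
      refine ⟨inferInstance, (S.isPGroup'.to_le hA).map _, ?_⟩
      have h1 : Cfsg.pCore p (G ⧸ Cfsg.pPrimeCore p G) ≤
          ((S.mapSurjective hπ : Sylow p (G ⧸ Cfsg.pPrimeCore p G)) :
            Subgroup (G ⧸ Cfsg.pPrimeCore p G)) :=
        Cfsg.Agent.Lib.Helper1.pCore_le_sylow p _
      rw [Sylow.coe_mapSurjective] at h1
      refine h1.trans ((Subgroup.map_mono hAn).trans (Subgroup.le_normalizer_map _))

end Cfsg.Agent.S1457
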