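import Cfsg.Statements.S1462
import Cfsg.Agent.Lib.Helper11.ThompsonTransOdd

set_option autoImplicit false
open Cfsg

namespace Cfsg.Agent.S1462

/-- Let G be a finite solvable group, p an odd prime with G = O_{p',p,p'}(G), E an elementary abelian p-subgroup contained in no larger elementary abelian p-subgroup of G, and L a subgroup of order coprime to p normalized by E. Then L ≤ O_{p'}(G). -/
theorem result {G : Type*} [Group G] [Finite G] [Group.IsSolvable G] (p : ℕ) [Fact p.Prime] (hp : p ≠ 2) (hpl : Cfsg.PLengthLE p 1 G) (E L : Subgroup G) (hE : Cfsg.IsElementaryAbelian p E)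
    (hEmax : ∀ B : Subgroup G, Cfsg.IsElementaryAbelian p B → E ≤ B → B = E) (hL : (Nat.card L).Coprime p) (hEL : E ≤ Subgroup.normalizer (L : Set G)) :
    L ≤ Cfsg.pPrimeCore p G := by
  have hpp : p.Prime := Fact.out
  have hX : Cfsg.IsPConstrained p G := Cfsg.Agent.Lib.Helper11.isPConstrained_of_isSolvable p
  have hEp : IsPGroup p E := by
    intro e
    refine ⟨1, ?_⟩
    rw [pow_one]
    apply Subtype.ext
    have := hE.2 e e.2
    simpa using this
  have hEc : ∀ a ∈ E, ∀ b ∈ E, a * b = b * a := by
    intro a ha b hb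
    have := hE.1.is_comm.comm (⟨a, ha⟩ : E) ⟨b, hb⟩
    exact congrArg Subtype.val this
  apply Cfsg.Agent.Lib.Helper11.inv_le_pPrimeCore p hX E L hEp hL hEL (Or.inl ⟨hp, ?_⟩)
  intro x hx hxp
  obtain ⟨S, hS⟩ : ∃ S : Set G, S = (E : Set G) ∪ {x} := ⟨_, rfl⟩
  have hScomm : ∀ a ∈ S, ∀ b ∈ S, a * b = b * a := by
    intro a ha b hb
    rw [hS] at ha hb
    rcases ha with ha | ha <;> rcases hb with hb | hb
    · exact hEc a ha b hb
    · rw [Set.mem_singleton_iff] at hb
      subst hb
      exact ((Subgroup.mem_centralizer_iff.mp hx) a ha)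
    · rw [Set.mem_singleton_iff] at ha
      subst ha
      exact ((Subgroup.mem_centralizer_iff.mp hx) b hb).symm
    · rw [Set.mem_singleton_iff] at ha hb
      rw [ha, hb]
  have hSpow : ∀ a ∈ S, a ^ p = 1 := by
    intro a ha
    rw [hS] at ha
    rcases ha with ha | ha
    · exact hE.2 a ha
    · rw [Set.mem_singleton_iff] at ha
      rw [ha]; exact hxp
  have hBcomm : ∀ a ∈ Subgroup.closure S, ∀ b ∈ Subgroup.closure S, a * b = b * a := by
    have h1 : Subgroup.closure S ≤ Subgroup.centralizer S := by
      rw [Subgroup.closure_le]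
      intro a ha
      rw [SetLike.mem_coe, Subgroup.mem_centralizer_iff]
      intro b hb
      exact hScomm b hb a ha
    have h2 : Subgroup.closure S ≤ Subgroup.centralizer ((Subgroup.closure S : Subgroup G) : Set G) := by
      rw [Subgroup.closure_le]
      intro a ha
      rw [SetLike.mem_coe, Subgroup.mem_centralizer_iff]
      intro b hb
      exact ((Subgroup.mem_centralizer_iff.mp (h1 hb)) a ha).symm
    intro a ha b hb
    exact ((Subgroup.mem_centralizer_iff.mp (h2 hb)) a ha)
  have hBel : Cfsg.IsElementaryAbelian p (Subgroup.closure S) := by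
    refine ⟨⟨⟨fun a b => Subtype.ext (hBcomm a a.2 b b.2)⟩⟩, ?_⟩
    intro a ha
    induction ha using Subgroup.closure_induction with
    | mem a ha => exact hSpow a ha
    | one => exact one_pow p
    | mul a b ha hb iha ihb =>
      rw [(show Commute a b from hBcomm a ha b hb).mul_pow, iha, ihb, one_mul]
    | inv a ha iha => rw [inv_pow, iha, inv_one]
  have hEB : E ≤ Subgroup.closure S := by
    intro e he
    apply Subgroup.subset_closure
    rw [hS]
    exact Or.inl he
  have hBE := hEmax _ hBel hEB
  rw [← hBE]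
  apply Subgroup.subset_closure
  rw [hS]
  exact Or.inr rfl

end Cfsg.Agent.S1462
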