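import Cfsg.Statements.S1470

set_option autoImplicit false
open Cfsg

namespace Cfsg.Agent.S1470

open Polynomial in
theorem norm_poly {K L : Type*} [Field K] [Field L] [Algebra K L] [FiniteDimensional K L]
    (c : L) : ∃ P : K[X], P.Monic ∧ P.natDegree = Module.finrank K L ∧
      ∀ k : K, P.eval k = Algebra.norm K (algebraMap K L k + c) := by
  refine ⟨(Algebra.lmul K L (-c)).charpoly, LinearMap.charpoly_monic _,
    LinearMap.charpoly_natDegree _, fun k => ?_⟩
  rw [LinearMap.eval_charpoly, Algebra.norm_apply]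
  congr 1
  ext x
  simp [Algebra.algebraMap_eq_smul_one]


/-- Let p and q be odd primes with (p^q − 1)/(p − 1) coprime to p − 1, and let E be the set of elements a of the field with p ^ q elements whose norm to the prime field is 1 and for which 2 − a also has norm 1. If a⁻¹ ∈ E for every a ∈ E and E has at least two elements, then p ≤ q. -/
theorem result (p q : ℕ) [Fact p.Prime] [Fact q.Prime] (hp : p ≠ 2) (hq : q ≠ 2) (hA : Nat.Coprime ((p ^ q - 1) / (p - 1)) (p - 1))
    (hinv : ∀ a ∈ {a : GaloisField p q | Algebra.norm (ZMod p) a = 1 ∧ Algebra.norm (ZMod p) (2 - a) = 1}, a⁻¹ ∈ {a : GaloisField p q | Algebra.norm (ZMod p) a = 1 ∧ Algebra.norm (ZMod p) (2 - a) = 1})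
    (h2 : 2 ≤ Set.ncard {a : GaloisField p q | Algebra.norm (ZMod p) a = 1 ∧ Algebra.norm (ZMod p) (2 - a) = 1}) :
    p ≤ q := by
  classical
  by_contra hlt
  push Not at hlt
  set E : Set (GaloisField p q) := {a : GaloisField p q | Algebra.norm (ZMod p) a = 1 ∧ Algebra.norm (ZMod p) (2 - a) = 1} with hE
  have hq0 : q ≠ 0 := (Fact.out : q.Prime).ne_zero
  -- E is closed under a ↦ 2 - a
  have hsymm : ∀ a ∈ E, 2 - a ∈ E := by
    intro a ha
    refine ⟨ha.2, ?_⟩
    have : (2 : GaloisField p q) - (2 - a) = a := by ring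
    rw [this]; exact ha.1
  -- there is a ≠ 1 in E
  obtain ⟨a, haE, ha1⟩ : ∃ a ∈ E, a ≠ 1 := by
    by_contra hcon
    push Not at hcon
    have hsub : E ⊆ {1} := fun a ha => by simp [hcon a ha]
    have := Set.ncard_le_ncard hsub (Set.finite_singleton _)
    rw [Set.ncard_singleton] at this
    omega
  set t : GaloisField p q := a - 1 with ht
  have ht0 : t ≠ 0 := sub_ne_zero.mpr ha1
  -- c k = k t + 1 has norm one for all k
  have key : ∀ k : ℕ, Algebra.norm (ZMod p) ((k : GaloisField p q) * t + 1) = 1 ∧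
      (((k + 1 : ℕ) : GaloisField p q) * t + 1) / ((k : GaloisField p q) * t + 1) ∈ E := by
    intro k
    induction k with
    | zero =>
      refine ⟨by simp, ?_⟩
      have : (((0 + 1 : ℕ) : GaloisField p q) * t + 1) / (((0 : ℕ) : GaloisField p q) * t + 1) = a := by
        simp [ht]
      rw [this]; exact haE
    | succ k ih =>
      obtain ⟨ih1, ih2⟩ := ih
      have hck : ((k : GaloisField p q) * t + 1) ≠ 0 := by
        intro h0
        rw [h0, Algebra.norm_zero] at ih1
        exact zero_ne_one ih1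
      have hn1 : Algebra.norm (ZMod p) (((k + 1 : ℕ) : GaloisField p q) * t + 1) = 1 := by
        have h1 := ih2.1
        have : (((k + 1 : ℕ) : GaloisField p q) * t + 1) =
            ((((k + 1 : ℕ) : GaloisField p q) * t + 1) / ((k : GaloisField p q) * t + 1)) *
              ((k : GaloisField p q) * t + 1) := (div_mul_cancel₀ _ hck).symm
        rw [this, map_mul, h1, ih1, one_mul]
      have hck1 : (((k + 1 : ℕ) : GaloisField p q) * t + 1) ≠ 0 := by
        intro h0
        rw [h0, Algebra.norm_zero] at hn1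
        exact zero_ne_one hn1
      refine ⟨hn1, ?_⟩
      have h3 := hsymm _ (hinv _ ih2)
      have : (((k + 1 + 1 : ℕ) : GaloisField p q) * t + 1) / (((k + 1 : ℕ) : GaloisField p q) * t + 1)
          = 2 - ((((k + 1 : ℕ) : GaloisField p q) * t + 1) / ((k : GaloisField p q) * t + 1))⁻¹ := by
        push_cast
        push_cast at hck1
        field_simp
        ring
      rw [this]; exact h3
  obtain ⟨P, hPm, hPd, hPe⟩ := norm_poly (K := ZMod p) (L := GaloisField p q) (t⁻¹)
  rw [GaloisField.finrank p hq0] at hPd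
  have hNt : Algebra.norm (ZMod p) t ≠ 0 := by
    rw [Ne, Algebra.norm_eq_zero_iff]; exact ht0
  have hroots : ∀ κ : ZMod p, (P - Polynomial.C ((Algebra.norm (ZMod p) t)⁻¹)).eval κ = 0 := by
    intro κ
    rw [Polynomial.eval_sub, Polynomial.eval_C, hPe, sub_eq_zero]
    have h1 := (key κ.val).1
    have hcast : ((κ.val : ℕ) : GaloisField p q) = algebraMap (ZMod p) (GaloisField p q) κ := by
      rw [← map_natCast (algebraMap (ZMod p) (GaloisField p q)) κ.val, ZMod.natCast_zmod_val]
    rw [hcast] at h1
    have : algebraMap (ZMod p) (GaloisField p q) κ + t⁻¹ =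
        t⁻¹ * (algebraMap (ZMod p) (GaloisField p q) κ * t + 1) := by
      field_simp
    rw [this, map_mul, h1, mul_one]
    apply eq_inv_of_mul_eq_one_left
    rw [← map_mul, inv_mul_cancel₀ ht0, map_one]
  have hdeg : (P - Polynomial.C ((Algebra.norm (ZMod p) t)⁻¹)).natDegree = q := by
    rw [Polynomial.natDegree_sub_C, hPd]
  have hzero := Polynomial.eq_zero_of_forall_eval_zero_of_natDegree_lt_card _ hroots (by
    rw [hdeg, Cardinal.mk_fintype, ZMod.card]; exact_mod_cast hlt)
  rw [hzero, Polynomial.natDegree_zero] at hdeg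
  exact hq0 hdeg.symm

end Cfsg.Agent.S1470
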