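import Cfsg.Statements.S1471
import Cfsg.Agent.Lib.Helper11.APCount
import Cfsg.Agent.Lib.Helper11.CubicNorm

set_option autoImplicit false
open Cfsg

namespace Cfsg.Agent.S1471

open Cfsg.Agent.Lib.Helper11 Polynomial

theorem exists_E_three (p : ℕ) [Fact p.Prime] :
    ∃ a : GaloisField p 3, a ≠ 1 ∧ Algebra.norm (ZMod p) a = 1 ∧
      Algebra.norm (ZMod p) (2 - a) = 1 := by
  classical
  obtain ⟨c, hc⟩ := exists_cubic_no_root p
  have hmonic := cubic_monic c
  have hdeg := cubic_natDegree c
  have hirr : Irreducible (cubic c) := by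
    rw [hmonic.irreducible_iff_roots_eq_zero_of_degree_le_three (by rw [hdeg]; norm_num)
      (by rw [hdeg])]
    apply Multiset.eq_zero_of_forall_notMem
    intro x hx
    have := (Polynomial.mem_roots hmonic.ne_zero).mp hx
    rw [Polynomial.IsRoot, cubic_eval] at this
    exact hc x this
  haveI : Fact (Irreducible (cubic c)) := ⟨hirr⟩
  set pb := AdjoinRoot.powerBasis hmonic.ne_zero with hpb
  haveI : Module.Finite (ZMod p) (AdjoinRoot (cubic c)) := pb.finite
  haveI : Finite (AdjoinRoot (cubic c)) := Module.finite_of_finite (ZMod p)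
  haveI : Fintype (AdjoinRoot (cubic c)) := Fintype.ofFinite _
  have hfr : Module.finrank (ZMod p) (AdjoinRoot (cubic c)) = 3 := by
    rw [pb.finrank, hpb, AdjoinRoot.powerBasis_dim, hdeg]
  have hcard : Nat.card (AdjoinRoot (cubic c)) = p ^ 3 := by
    rw [Nat.card_eq_fintype_card, Module.card_eq_pow_finrank (K := ZMod p), hfr, ZMod.card]
  let e := GaloisField.algEquivGaloisField p 3 hcard
  set ρ := AdjoinRoot.root (cubic c) with hρ
  have hN2 : Algebra.norm (ZMod p) (2 - ρ) = 1 := by
    have := norm_sub_root (cubic c) hmonic 2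
    rw [cubic_eval] at this
    have h2 : algebraMap (ZMod p) (AdjoinRoot (cubic c)) 2 = 2 := map_ofNat _ 2
    rw [h2] at this
    rw [this]; ring
  have hN1 : Algebra.norm (ZMod p) ρ = 1 := by
    have := norm_sub_root (cubic c) hmonic 0
    rw [cubic_eval, map_zero, zero_sub] at this
    have h3 : Algebra.norm (ZMod p) (-ρ) = -Algebra.norm (ZMod p) ρ := by
      have : -ρ = algebraMap (ZMod p) (AdjoinRoot (cubic c)) (-1) * ρ := by simp
      rw [this, map_mul, Algebra.norm_algebraMap, hfr]
      ring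
    rw [h3] at this
    have : Algebra.norm (ZMod p) ρ = 1 := by linear_combination -this
    exact this
  refine ⟨e ρ, ?_, ?_, ?_⟩
  · intro h1
    have hρ1 : ρ = 1 := by
      apply e.injective
      rw [h1, map_one]
    have h0 : Polynomial.aeval ρ (cubic c) = 0 := by
      rw [hρ, AdjoinRoot.aeval_eq, AdjoinRoot.mk_self]
    rw [hρ1] at h0
    have h0' : Polynomial.aeval (algebraMap (ZMod p) (AdjoinRoot (cubic c)) 1) (cubic c) = 0 := by
      rw [map_one]; exact h0
    rw [Polynomial.aeval_algebraMap_apply_eq_algebraMap_eval] at h0'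
    have := (map_eq_zero (algebraMap (ZMod p) (AdjoinRoot (cubic c)))).mp h0'
    rw [cubic_eval] at this
    exact hc 1 this
  · rw [Algebra.norm_eq_of_algEquiv]; exact hN1
  · have : (2 : GaloisField p 3) - e ρ = e (2 - ρ) := by
      rw [map_sub, map_ofNat]
    rw [this, Algebra.norm_eq_of_algEquiv]; exact hN2

theorem exists_E_big (p q : ℕ) [Fact p.Prime] [Fact q.Prime] (hp : p ≠ 2) (hq5 : 5 ≤ q) :
    ∃ a : GaloisField p q, a ≠ 1 ∧ Algebra.norm (ZMod p) a = 1 ∧
      Algebra.norm (ZMod p) (2 - a) = 1 := by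
  classical
  have hpp : p.Prime := Fact.out
  have hp3 : 3 ≤ p := by
    have := hpp.two_le
    omega
  haveI : Fintype (GaloisField p q) := Fintype.ofFinite _
  have hq0 : q ≠ 0 := by omega
  have hQ : Fintype.card (GaloisField p q) = p ^ q := by
    rw [← Nat.card_eq_fintype_card, GaloisField.card p q hq0]
  have h2 : (2 : GaloisField p q) ≠ 0 := by
    have : ((2 : ℕ) : GaloisField p q) ≠ 0 := by
      rw [Ne, CharP.cast_eq_zero_iff (GaloisField p q) p]
      intro h
      have := Nat.le_of_dvd two_pos h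
      omega
    exact_mod_cast this
  set U : Finset (GaloisField p q) :=
    Finset.univ.filter (fun x => Algebra.norm (ZMod p) x = 1) with hU
  have hUmem : ∀ x, x ∈ U ↔ Algebra.norm (ZMod p) x = 1 := by
    intro x; simp [hU]
  have h0 : (0 : GaloisField p q) ∉ U := by
    rw [hUmem, Algebra.norm_zero]
    exact zero_ne_one
  have hmul : ∀ x ∈ U, ∀ y ∈ U, x * y ∈ U := by
    intro x hx y hy
    rw [hUmem] at hx hy ⊢
    rw [map_mul, hx, hy, one_mul]
  -- counting the fibres of the norm
  have hcount : p ^ q - 1 ≤ U.card * (p - 1) := by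
    have h1 := Finset.card_le_mul_card_image (f := fun x => Algebra.norm (ZMod p) x)
      (Finset.univ.erase (0 : GaloisField p q)) U.card (by
        intro b hb
        obtain ⟨x₀, hx₀, rfl⟩ := Finset.mem_image.mp hb
        have hx₀0 : x₀ ≠ 0 := (Finset.mem_erase.mp hx₀).1
        apply Finset.card_le_card_of_injOn (fun x => x * x₀⁻¹)
        · intro x hx
          have hx' := (Finset.mem_filter.mp hx).2
          show x * x₀⁻¹ ∈ U
          rw [hUmem, map_mul, hx']
          rw [← map_mul, mul_inv_cancel₀ hx₀0, map_one]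
        · intro x _ y _ hxy
          exact mul_right_cancel₀ (inv_ne_zero hx₀0) hxy)
    have h2' : ((Finset.univ.erase (0 : GaloisField p q)).image
        (fun x => Algebra.norm (ZMod p) x)).card ≤ p - 1 := by
      have hsub : (Finset.univ.erase (0 : GaloisField p q)).image
          (fun x => Algebra.norm (ZMod p) x) ⊆ Finset.univ.erase (0 : ZMod p) := by
        intro b hb
        obtain ⟨x, hx, rfl⟩ := Finset.mem_image.mp hb
        have hx0 : x ≠ 0 := (Finset.mem_erase.mp hx).1
        refine Finset.mem_erase.mpr ⟨?_, Finset.mem_univ _⟩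
        rw [Ne, Algebra.norm_eq_zero_iff]
        exact hx0
      have := Finset.card_le_card hsub
      rw [Finset.card_erase_of_mem (Finset.mem_univ _), Finset.card_univ, ZMod.card] at this
      exact this
    rw [Finset.card_erase_of_mem (Finset.mem_univ _), Finset.card_univ, hQ] at h1
    calc p ^ q - 1 ≤ U.card * _ := h1
      _ ≤ U.card * (p - 1) := Nat.mul_le_mul_left _ h2'
  -- n ≥ p^(q-1)
  have hnge : p ^ (q - 1) ≤ U.card := by
    have h1 : (p - 1) * p ^ (q - 1) ≤ p ^ q - 1 := by
      have e1 : p ^ q = p * p ^ (q - 1) := by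
        rw [← pow_succ']; congr 1; omega
      have hpos : 1 ≤ p ^ (q - 1) := Nat.one_le_pow _ _ (by omega)
      rw [e1]
      have : (p - 1) * p ^ (q - 1) + p ^ (q - 1) = p * p ^ (q - 1) := by
        have hp1 : p - 1 + 1 = p := by omega
        calc (p - 1) * p ^ (q - 1) + p ^ (q - 1) = (p - 1 + 1) * p ^ (q - 1) := by ring
          _ = p * p ^ (q - 1) := by rw [hp1]
      omega
    have h2' : (p - 1) * p ^ (q - 1) ≤ (p - 1) * U.card := by
      rw [mul_comm (p - 1) U.card]; exact le_trans h1 hcount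
    exact Nat.le_of_mul_le_mul_left h2' (by omega)
  -- real inequalities
  set P : ℝ := (p : ℝ) with hP
  set m : ℝ := (p : ℝ) ^ (q - 2) with hm
  have hP3 : (3 : ℝ) ≤ P := by rw [hP]; exact_mod_cast hp3
  have hmP : P ^ 3 ≤ m := by
    rw [hm, hP]
    exact pow_le_pow_right₀ (by linarith) (by omega)
  have hQr : (Fintype.card (GaloisField p q) : ℝ) = P ^ 2 * m := by
    rw [hQ, hm, hP]
    push_cast
    rw [← pow_add]; congr 1; omega
  have hnr : P * m ≤ (U.card : ℝ) := by
    have : ((p ^ (q - 1) : ℕ) : ℝ) ≤ (U.card : ℝ) := by exact_mod_cast hnge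
    rw [hm, hP]
    push_cast at this
    calc (p : ℝ) * (p : ℝ) ^ (q - 2) = (p : ℝ) ^ (q - 1) := by
          rw [← pow_succ']; congr 1; omega
      _ ≤ _ := this
  have hm27 : (27 : ℝ) ≤ m := by nlinarith [pow_le_pow_left₀ (by norm_num : (0:ℝ) ≤ 3) hP3 3]
  have hPpos : (0 : ℝ) < P := by linarith
  have hmpos : (0 : ℝ) < m := by linarith
  have hnpos : (0 : ℝ) < (U.card : ℝ) := by nlinarith
  have hA : P ^ 2 * m * (m - 1) ≤ (U.card : ℝ) ^ 2 - P ^ 2 * m := by
    have : (P * m) ^ 2 ≤ (U.card : ℝ) ^ 2 := pow_le_pow_left₀ (by positivity) hnr 2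
    nlinarith
  have hA0 : 0 ≤ P ^ 2 * m * (m - 1) := by
    apply mul_nonneg (by positivity); linarith
  have hkey : P ^ 2 * m ≤ (m - 1) ^ 2 := by
    have h1 : P ^ 2 * 3 ≤ P ^ 3 := by nlinarith [sq_nonneg P]
    nlinarith
  have hn2 : (Fintype.card (GaloisField p q) : ℝ) ≤ (U.card : ℝ) ^ 2 := by
    rw [hQr]; nlinarith
  have hbig : ((Fintype.card (GaloisField p q) : ℝ) - U.card) ^ 3 <
      ((U.card : ℝ) ^ 2 - Fintype.card (GaloisField p q)) ^ 2 := by
    rw [hQr]
    have hB0 : 0 ≤ P ^ 2 * m - (U.card : ℝ) := by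
      have : (U.card : ℝ) ≤ Fintype.card (GaloisField p q) := by
        exact_mod_cast Finset.card_le_univ U
      rw [hQr] at this; linarith
    have hB : (P ^ 2 * m - (U.card : ℝ)) ^ 3 < (P ^ 2 * m) ^ 3 := by
      apply pow_lt_pow_left₀ (by linarith) hB0 (by norm_num)
    have hA2 : (P ^ 2 * m * (m - 1)) ^ 2 ≤ ((U.card : ℝ) ^ 2 - P ^ 2 * m) ^ 2 :=
      pow_le_pow_left₀ hA0 hA 2
    have hC : (P ^ 2 * m) ^ 3 ≤ (P ^ 2 * m * (m - 1)) ^ 2 := by
      have : (P ^ 2 * m) ^ 3 = (P ^ 2 * m) ^ 2 * (P ^ 2 * m) := by ring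
      rw [this, mul_pow (P ^ 2 * m) (m - 1) 2]
      exact mul_le_mul_of_nonneg_left hkey (by positivity)
    linarith
  obtain ⟨x, hx, y, hy, z, hz, hxyz, hxy⟩ := exists_three_ap h2 U h0 hmul hn2 hbig
  rw [hUmem] at hx hy hz
  have hz0 : z ≠ 0 := by
    intro h; rw [h, Algebra.norm_zero] at hz; exact zero_ne_one hz
  have hNinv : Algebra.norm (ZMod p) z⁻¹ = 1 := by
    have : Algebra.norm (ZMod p) z⁻¹ * Algebra.norm (ZMod p) z = 1 := by
      rw [← map_mul, inv_mul_cancel₀ hz0, map_one]
    rw [hz, mul_one] at this; exact this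
  refine ⟨x * z⁻¹, ?_, ?_, ?_⟩
  · intro h1
    have hxz : x = z := by
      have := congrArg (fun w => w * z) h1
      simpa [mul_assoc, inv_mul_cancel₀ hz0] using this
    apply hxy
    have : y = 2 * z - x := by linear_combination hxyz
    rw [this, hxz]; ring
  · rw [map_mul, hx, hNinv, one_mul]
  · have : (2 : GaloisField p q) - x * z⁻¹ = y * z⁻¹ := by
      field_simp
      linear_combination -hxyz
    rw [this, map_mul, hy, hNinv, one_mul]


/-- Let p and q be odd primes with (p^q − 1)/(p − 1) coprime to p − 1. Then there are at least two elements a of the field with p ^ q elements such that both a and 2 − a have norm 1 to the prime field. -/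
theorem result (p q : ℕ) [Fact p.Prime] [Fact q.Prime] (hp : p ≠ 2) (hq : q ≠ 2) (hA : Nat.Coprime ((p ^ q - 1) / (p - 1)) (p - 1)) :
    2 ≤ Set.ncard {a : GaloisField p q | Algebra.norm (ZMod p) a = 1 ∧ Algebra.norm (ZMod p) (2 - a) = 1} := by
  have hqp : q.Prime := Fact.out
  obtain ⟨a, ha1, haN, haN2⟩ : ∃ a : GaloisField p q, a ≠ 1 ∧ Algebra.norm (ZMod p) a = 1 ∧
      Algebra.norm (ZMod p) (2 - a) = 1 := by
    by_cases h3 : q = 3
    · subst h3
      exact exists_E_three p
    · have h5 : 5 ≤ q := by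
        have h2 := hqp.two_le
        by_contra hlt
        push Not at hlt
        have : q = 4 := by omega
        subst this
        norm_num at hqp
      exact exists_E_big p q hp h5
  have hsub : ({1, a} : Set (GaloisField p q)) ⊆
      {a : GaloisField p q | Algebra.norm (ZMod p) a = 1 ∧ Algebra.norm (ZMod p) (2 - a) = 1} := by
    intro b hb
    rcases hb with rfl | rfl
    · refine ⟨map_one _, ?_⟩
      have : (2 : GaloisField p q) - 1 = 1 := by ring
      rw [this, map_one]
    · exact ⟨haN, haN2⟩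
  have := Set.ncard_le_ncard hsub (Set.toFinite _)
  rw [Set.ncard_pair (Ne.symm ha1)] at this
  exact this

end Cfsg.Agent.S1471
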