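import Cfsg.Statements.S1475
import Cfsg.Agent.Lib.Helper11.Eppo

set_option autoImplicit false
open Cfsg

namespace Cfsg.Agent.S1475

open Cfsg.Agent.Lib.Helper11

theorem eppo_main.{u} : ∀ n : ℕ, ∀ (G : Type u) [Group G] [Finite G] [Group.IsSolvable G],
    Nat.card G = n → Eppo G → (Nat.card G).primeFactors.card ≤ 2 := by
  intro n
  induction n using Nat.strong_induction_on with
  | _ n ih =>
  intro G _ _ _ hn hE
  classical
  by_cases htriv : Subsingleton G
  · have : Nat.card G = 1 := Nat.card_eq_one_iff_unique.mpr ⟨htriv, ⟨1⟩⟩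
    rw [this]; simp
  rw [not_subsingleton_iff_nontrivial] at htriv
  obtain ⟨A, hAn, hA1, hAc⟩ := exists_abelian_normal (G := G)
  obtain ⟨p, hp, hAp, hpd⟩ := eppo_abelian_isPGroup hE A hA1 hAc
  haveI := hAn
  haveI : Fact p.Prime := ⟨hp⟩
  have hcard : Nat.card G = Nat.card (G ⧸ A) * Nat.card A :=
    Subgroup.card_eq_card_quotient_mul_card_subgroup A
  have hA2 : 2 ≤ Nat.card A := by
    have h1 : Nat.card A ≠ 1 := fun h1 => hA1 (Subgroup.card_eq_one.mp h1)
    have h0 : 0 < Nat.card A := Nat.card_pos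
    omega
  have hQpos : 0 < Nat.card (G ⧸ A) := Nat.card_pos
  have hlt : Nat.card (G ⧸ A) < n := by
    rw [← hn, hcard]; nlinarith
  have ihQ := ih _ hlt (G ⧸ A) rfl (eppo_quotient hE A)
  obtain ⟨k, hk⟩ := IsPGroup.iff_card.mp hAp
  have hk0 : k ≠ 0 := by
    intro h0; rw [h0, pow_zero] at hk; omega
  have hpf : (Nat.card G).primeFactors = {p} ∪ (Nat.card (G ⧸ A)).primeFactors := by
    rw [hcard, Nat.primeFactors_mul hQpos.ne' (by omega), hk, Nat.primeFactors_prime_pow hk0 hp,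
      Finset.union_comm]
  by_contra hgt
  push Not at hgt
  rw [hpf] at hgt
  have hpS : p ∉ (Nat.card (G ⧸ A)).primeFactors := by
    intro hmem
    have : {p} ∪ (Nat.card (G ⧸ A)).primeFactors = (Nat.card (G ⧸ A)).primeFactors := by
      rw [Finset.union_eq_right]; simpa using hmem
    rw [this] at hgt; omega
  have hS2 : (Nat.card (G ⧸ A)).primeFactors.card = 2 := by
    have := Finset.card_union_le {p} (Nat.card (G ⧸ A)).primeFactors
    rw [Finset.card_singleton] at this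
    omega
  obtain ⟨q, r, hqr, hSeq⟩ := Finset.card_eq_two.mp hS2
  have hqS : q ∈ (Nat.card (G ⧸ A)).primeFactors := by rw [hSeq]; simp
  have hrS : r ∈ (Nat.card (G ⧸ A)).primeFactors := by rw [hSeq]; simp
  have hqp : q.Prime := Nat.prime_of_mem_primeFactors hqS
  have hrp : r.Prime := Nat.prime_of_mem_primeFactors hrS
  have hqd : q ∣ Nat.card (G ⧸ A) := Nat.dvd_of_mem_primeFactors hqS
  have hrd : r ∣ Nat.card (G ⧸ A) := Nat.dvd_of_mem_primeFactors hrS
  have hpq : p ≠ q := fun h => hpS (h ▸ hqS)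
  have hpr : p ≠ r := fun h => hpS (h ▸ hrS)
  have hpnd : ¬ p ∣ Nat.card (G ⧸ A) := by
    intro hd
    exact hpS (Nat.mem_primeFactors.mpr ⟨hp, hd, hQpos.ne'⟩)
  have hcop : Nat.Coprime (Nat.card A) A.index := by
    rw [Subgroup.index_eq_card, hk]
    exact Nat.Coprime.pow_left k ((Nat.Prime.coprime_iff_not_dvd hp).mpr hpnd)
  obtain ⟨K, hK⟩ := Subgroup.exists_right_complement'_of_coprime hcop
  have hKcard : Nat.card K = Nat.card (G ⧸ A) := by
    have h1 := hK.card_mul_card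
    rw [hcard] at h1
    have : Nat.card A * Nat.card K = Nat.card A * Nat.card (G ⧸ A) := by
      rw [h1, mul_comm]
    exact Nat.eq_of_mul_eq_mul_left (by omega) this
  haveI : Nontrivial K := by
    rw [← Finite.one_lt_card_iff_nontrivial, hKcard]
    have := Nat.le_of_dvd hQpos hqd
    have := hqp.two_le
    omega
  obtain ⟨M₀, hM₀n, hM₀1, hM₀c⟩ := exists_abelian_normal (G := K)
  obtain ⟨q₀, hq₀, hM₀q, hq₀d⟩ := eppo_abelian_isPGroup (eppo_subgroup hE K) M₀ hM₀1 hM₀c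
  have hq₀K : q₀ ∣ Nat.card (G ⧸ A) := by
    rw [← hKcard]
    exact dvd_trans hq₀d (Subgroup.card_subgroup_dvd_card M₀)
  have hq₀S : q₀ ∈ ({q, r} : Finset ℕ) := by
    rw [← hSeq]; exact Nat.mem_primeFactors.mpr ⟨hq₀, hq₀K, hQpos.ne'⟩
  obtain ⟨r₀, hr₀p, hr₀d, hr₀q, hr₀ne⟩ : ∃ r₀ : ℕ, r₀.Prime ∧ r₀ ∣ Nat.card K ∧ q₀ ≠ r₀ ∧ p ≠ r₀ := by
    rw [Finset.mem_insert, Finset.mem_singleton] at hq₀S
    rcases hq₀S with h1 | h1
    · exact ⟨r, hrp, hKcard ▸ hrd, h1 ▸ hqr, hpr⟩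
    · exact ⟨q, hqp, hKcard ▸ hqd, h1 ▸ hqr.symm, hpq⟩
  have hpq₀ : p ≠ q₀ := by
    rw [Finset.mem_insert, Finset.mem_singleton] at hq₀S
    rcases hq₀S with h1 | h1
    · rw [h1]; exact hpq
    · rw [h1]; exact hpr
  haveI : Fact r₀.Prime := ⟨hr₀p⟩
  obtain ⟨y₀, hy₀⟩ := exists_prime_orderOf_dvd_card' r₀ hr₀d
  have hAbot := eppo_frobenius_action hE A hAc p q₀ r₀ hp hq₀ hr₀p hpq₀ hr₀ne hr₀q hAp
    (M₀.map K.subtype) (hM₀q.map K.subtype)
    (by
      intro hb
      rw [Subgroup.map_eq_bot_iff_of_injective _ K.subtype_injective] at hb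
      exact hM₀1 hb)
    (y₀ : G) (by rw [Subgroup.orderOf_coe]; exact hy₀)
    (by
      rintro m ⟨m₀, hm₀, rfl⟩
      exact ⟨y₀ * m₀ * y₀⁻¹, hM₀n.conj_mem m₀ hm₀ y₀, rfl⟩)
  exact hA1 hAbot


/-- Let G be a finite solvable group such that the order of every element is a prime power (1 included). Then at most two distinct primes divide the order of G. -/
theorem result {G : Type*} [Group G] [Finite G] [Group.IsSolvable G] (h : ∀ g : G, IsPrimePow (orderOf g) ∨ g = 1) :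
    (Nat.card G).primeFactors.card ≤ 2 := by
  exact eppo_main _ G rfl h

end Cfsg.Agent.S1475
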