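import Cfsg.Statements.S1481
import Mathlib
import Cfsg.Agent.Lib.Helper11.MaxLocC

set_option autoImplicit false
open Cfsg

namespace Cfsg.Agent.S1481
open Cfsg.Agent.Lib.Helper11 Cfsg.Agent.Lib.Helper11.MaxLocA Cfsg.Agent.Lib.Helper11.MaxLocB
  Cfsg.Agent.Lib.Helper11.MaxLocC


/-- Let G be a finite group and H a local subgroup (the normalizer of a nontrivial subgroup of prime-power order) not properly contained in any local subgroup; let F = F(H), suppose at least two primes divide #F, put X = H ∩ C_G(F), let M ≤ F with F ∩ C_G(M) ≤ M, and let R be a solvable subgroup normalized by M and by X. Then for every prime q not dividing #F there is exactly one maximal M-invariant q-subgroup of R, and it is a Sylow q-subgroup of the largest normal subgroup of R of order coprime to #F. -/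
theorem result {G : Type*} [Group G] [Finite G] (H : Subgroup G) (hH : Cfsg.IsLocalSubgroup H) (hHmax : ∀ L : Subgroup G, Cfsg.IsLocalSubgroup L → H ≤ L → L = H)
    (hF2 : 2 ≤ (Nat.card (Cfsg.fittingOf H)).primeFactors.card)
    (M : Subgroup G) (hM : M ≤ Cfsg.fittingOf H) (hCM : Cfsg.fittingOf H ⊓ Subgroup.centralizer (M : Set G) ≤ M)
    (R : Subgroup G) (hR : Group.IsSolvable R) (hMR : M ≤ Subgroup.normalizer (R : Set G))
    (hXR : H ⊓ Subgroup.centralizer (Cfsg.fittingOf H : Set G) ≤ Subgroup.normalizer (R : Set G))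
    (q : ℕ) [Fact q.Prime] (hq : ¬ q ∣ Nat.card (Cfsg.fittingOf H)) :
    ∃! Q : Subgroup G, Q ∈ Cfsg.maxInvSubgroups R M {q} ∧
      (∀ Q' : Subgroup G, Q' ∈ Cfsg.maxInvSubgroups R M {q} →
        Q' ≤ Cfsg.piCoreOf (Cfsg.primesNotDvd (Nat.card (Cfsg.fittingOf H))) R ∧
        ¬ q ∣ Q'.relIndex (Cfsg.piCoreOf (Cfsg.primesNotDvd (Nat.card (Cfsg.fittingOf H))) R)) := by
  classical
  obtain ⟨σ, hσ⟩ : ∃ σ : Set ℕ, σ = Cfsg.primesNotDvd (Nat.card (Cfsg.fittingOf H)) := ⟨_, rfl⟩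
  rw [← hσ]
  obtain ⟨K, hK⟩ : ∃ K : Subgroup G, K = Cfsg.piCoreOf σ R := ⟨_, rfl⟩
  rw [← hK]
  have hqp : q.Prime := Fact.out
  have hFnil : Group.IsNilpotent (Cfsg.fittingOf H) := fittingOf_nilpotent H
  have hMs : Group.IsSolvable M :=
    Group.isSolvable_of_isSolvable_injective (Subgroup.inclusion_injective hM)
  have hXM : H ⊓ Subgroup.centralizer (Cfsg.fittingOf H : Set G) ≤
      Subgroup.normalizer (M : Set G) := by
    intro x hx
    have hxc := (Subgroup.mem_inf.mp hx).2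
    have hxM : x ∈ Subgroup.centralizer (M : Set G) :=
      Subgroup.centralizer_le (show (M : Set G) ⊆ (Cfsg.fittingOf H : Set G) from hM) hxc
    exact Subgroup.centralizer_le_normalizer _ hxM
  have hLs : Group.IsSolvable ↥(R ⊔ M) := isSolvable_sup R M hR hMs hMR
  have hXL : H ⊓ Subgroup.centralizer (Cfsg.fittingOf H : Set G) ≤
      Subgroup.normalizer ((R ⊔ M : Subgroup G) : Set G) := le_normalizer_sup' hXR hXM
  have hKR : K ≤ R := hK ▸ piCoreOf_le σ R
  have hRK : R ≤ Subgroup.normalizer (K : Set G) := hK ▸ le_normalizer_piCoreOf σ R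
  have hMK : M ≤ Subgroup.normalizer (K : Set G) := by
    rw [hK]
    exact hMR.trans (normalizer_le_normalizer_piCoreOf σ R)
  have hKpi : PiNum σ (Nat.card K) := hK ▸ piCoreOf_piNum σ R
  have hKF : (Nat.card K).Coprime (Nat.card (Cfsg.fittingOf H)) := by
    rw [hσ] at hKpi
    exact (coprime_of_piNum_primesNotDvd hKpi).symm
  have hcop : (Nat.card M).Coprime (Nat.card K) :=
    (Nat.Coprime.coprime_dvd_right (Subgroup.card_dvd_of_le hM) hKF).symm
  -- invariant `q`-subgroups lie in the core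
  have hinK : ∀ Q : Subgroup G, Q ≤ R → IsPGroup q Q → M ≤ Subgroup.normalizer (Q : Set G) →
      Q ≤ K := by
    intro Q hQR hQp hMQ
    have h1 := inv_le_piCoreOf H M hHmax hF2 hM hCM (R ⊔ M) hLs le_sup_right hXL q hq Q
      (hQR.trans le_sup_left) hQp hMQ
    rw [← hσ] at h1
    obtain ⟨W, hW⟩ : ∃ W : Subgroup G, W = Cfsg.piCoreOf σ (R ⊔ M) ⊓ R := ⟨_, rfl⟩
    have hQW : Q ≤ W := hW ▸ le_inf h1 hQR
    have hWK : W ≤ K := by
      rw [hK]
      apply le_piCoreOf (hW ▸ inf_le_right)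
      · rw [hW]
        apply le_normalizer_inf' _ Subgroup.le_normalizer
        exact (le_sup_left : R ≤ R ⊔ M).trans (le_normalizer_piCoreOf σ (R ⊔ M))
      · exact (piCoreOf_piNum σ (R ⊔ M)).of_dvd (Subgroup.card_dvd_of_le (hW ▸ inf_le_left))
    exact hQW.trans hWK
  -- trivial fixed points on the core
  have hfix : K ⊓ Subgroup.centralizer (M : Set G) = ⊥ := by
    have hpos : 0 < (Nat.card (Cfsg.fittingOf H)).primeFactors.card := by omega
    obtain ⟨p, hp⟩ := Finset.card_pos.mp hpos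
    have hpp : p.Prime := Nat.prime_of_mem_primeFactors hp
    have : Fact p.Prime := ⟨hpp⟩
    have hpF : p ∣ Nat.card (Cfsg.fittingOf H) := Nat.dvd_of_mem_primeFactors hp
    have hzM : zP H p ≤ M := zP_le_of_self_centralizing H M hM hCM p
    have hMz : M ≤ Subgroup.centralizer (zP H p : Set G) := by
      intro m hm
      rw [Subgroup.mem_centralizer_iff]
      intro z hz
      exact ((Subgroup.mem_centralizer_iff.mp hz.2.1) m (hM hm)).symm
    have h1 := inf_centralizer_eq_bot H M hM hCM R hR hXR (zP H p) hMz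
      (centralizer_zP_le H hHmax p hpF) K hKR hMK hKF
    rw [eq_bot_iff, ← h1]
    exact inf_le_inf_left K (Subgroup.centralizer_le (show (zP H p : Set G) ⊆ (M : Set G) from hzM))
  -- maximal invariant subgroups are Sylow subgroups of the core
  have hmaxcard : ∀ Q' ∈ Cfsg.maxInvSubgroups R M {q},
      Q' ≤ K ∧ Nat.card Q' = q ^ (Nat.card K).factorization q ∧
        M ≤ Subgroup.normalizer (Q' : Set G) := by
    intro Q' hQ'
    obtain ⟨hmem, hmax⟩ := hQ'
    obtain ⟨hQR, hQp, hMQ⟩ := (mem_inv_iff R M q Q').mp hmem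
    have hQK := hinK Q' hQR hQp hMQ
    refine ⟨hQK, ?_, hMQ⟩
    apply card_of_maximal M K hMK hcop hMs q Q' hQK hQp hMQ
    intro Q'' hQ''K hQ''p hMQ'' hle
    exact hmax Q'' ((mem_inv_iff R M q Q'').mpr ⟨hQ''K.trans hKR, hQ''p, hMQ''⟩) hle
  have hprop : ∀ Q' ∈ Cfsg.maxInvSubgroups R M {q}, Q' ≤ K ∧ ¬ q ∣ Q'.relIndex K := by
    intro Q' hQ'
    obtain ⟨hQK, hcard, -⟩ := hmaxcard Q' hQ'
    refine ⟨hQK, ?_⟩
    intro hd
    have h1 := Cfsg.Agent.Lib.Helper18.card_mul_relIndex_of_le_h18 hQK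
    rw [hcard] at h1
    obtain ⟨t, ht⟩ := hd
    rw [ht] at h1
    have h2 : q ^ ((Nat.card K).factorization q + 1) ∣ Nat.card K :=
      ⟨t, by rw [pow_succ, mul_assoc]; exact h1.symm⟩
    have h3 := (hqp.pow_dvd_iff_le_factorization Nat.card_pos.ne').mp h2
    omega
  -- existence
  have hne : (Cfsg.invSubgroups R M {q}).Nonempty := by
    refine ⟨⊥, (mem_inv_iff R M q ⊥).mpr ⟨bot_le, ?_, ?_⟩⟩
    · exact IsPGroup.of_bot
    · intro m _
      rw [Subgroup.mem_normalizer_iff]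
      intro x
      simp
  obtain ⟨Q, hQmem, hQmax⟩ := Set.exists_max_image (Cfsg.invSubgroups R M {q})
    (fun Y : Subgroup G => Nat.card Y) (Set.toFinite _) hne
  have hQmaxInv : Q ∈ Cfsg.maxInvSubgroups R M {q} := by
    refine ⟨hQmem, ?_⟩
    intro R' hR' hle
    exact (Subgroup.eq_of_le_of_card_ge hle (hQmax R' hR')).symm
  refine ⟨Q, ⟨hQmaxInv, hprop⟩, ?_⟩
  rintro Q₂ ⟨hQ₂, -⟩
  obtain ⟨h1K, h1c, h1M⟩ := hmaxcard Q hQmaxInv
  obtain ⟨h2K, h2c, h2M⟩ := hmaxcard Q₂ hQ₂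
  exact unique_of_card M K hMK hcop hMs hfix q Q₂ Q h2K h1K h2c h1c h2M h1M

end Cfsg.Agent.S1481
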