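import Cfsg.Statements.S1483
import Mathlib
import Cfsg.Agent.Lib.Helper11.CNConj

set_option autoImplicit false
open Cfsg

namespace Cfsg.Agent.S1483

open Cfsg.Agent.Lib.Helper11


/-- Let G be a minimal simple group of odd order in which every non-identity element has nilpotent centralizer. Then any two nilpotent subgroups each contained in no larger nilpotent subgroup are either conjugate or of coprime orders; and for primes p, q, r: if some elements x, y ≠ 1 of p-power and q-power order commute, and some elements y', z ≠ 1 of q-power and r-power order commute, then some elements of p-power and r-power order, both ≠ 1, commute. -/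
theorem result {G : Type*} [Group G] [Finite G] (hG : Cfsg.IsMinSimpleOddOrder G) (hCN : Cfsg.IsCNGroup G) :
    (∀ H₁ H₂ : Subgroup G, (Group.IsNilpotent ↥H₁ ∧ ∀ L : Subgroup G, Group.IsNilpotent L → H₁ ≤ L → L = H₁) → (Group.IsNilpotent ↥H₂ ∧ ∀ L : Subgroup G, Group.IsNilpotent L → H₂ ≤ L → L = H₂) → (∃ g : G, H₂ = H₁.map (MulAut.conj g).toMonoidHom) ∨ (Nat.card H₁).Coprime (Nat.card H₂)) ∧
      ∀ (p q r : ℕ), p.Prime → q.Prime → r.Prime → ∀ (x y y' z : G), x ≠ 1 → y ≠ 1 → y' ≠ 1 → z ≠ 1 →
        IsPGroup p (Subgroup.zpowers x) → IsPGroup q (Subgroup.zpowers y) → IsPGroup q (Subgroup.zpowers y') → IsPGroup r (Subgroup.zpowers z) →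
        x * y = y * x → y' * z = z * y' →
        ∃ x' z' : G, x' ≠ 1 ∧ z' ≠ 1 ∧ IsPGroup p (Subgroup.zpowers x') ∧ IsPGroup r (Subgroup.zpowers z') ∧ x' * z' = z' * x' := by
  constructor
  · rintro H₁ H₂ ⟨hn₁, hmax₁⟩ ⟨hn₂, hmax₂⟩
    have hM₁ : MaxNilp H₁ := ⟨hCN, hn₁, hmax₁⟩
    have hM₂ : MaxNilp H₂ := ⟨hCN, hn₂, hmax₂⟩
    by_cases hcop : (Nat.card H₁).Coprime (Nat.card H₂)
    · exact Or.inr hcop
    · left
      obtain ⟨p, hp, h1, h2⟩ := Nat.Prime.not_coprime_iff_dvd.mp hcop
      have : Fact p.Prime := ⟨hp⟩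
      exact hM₁.conj_of_common_prime hM₂ p h1 h2
  · intro p q r hp hq hr x y y' z hx1 hy1 hy'1 hz1 hxp hyq hy'q hzr hxy hy'z
    by_cases hpr : p = r
    · subst hpr
      exact ⟨x, x, hx1, hx1, hxp, hxp, rfl⟩
    · obtain ⟨H₁, hA₁, hM₁⟩ := exists_maxNilp_ge hCN (Subgroup.centralizer ({x} : Set G)) (hCN x hx1)
      obtain ⟨H₂, hA₂, hM₂⟩ := exists_maxNilp_ge hCN (Subgroup.centralizer ({y'} : Set G)) (hCN y' hy'1)
      have hxH : x ∈ H₁ := hA₁ (by
        rw [Subgroup.mem_centralizer_iff]
        intro t ht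
        rw [Set.mem_singleton_iff] at ht
        rw [ht])
      have hyH : y ∈ H₁ := hA₁ (by
        rw [Subgroup.mem_centralizer_iff]
        intro t ht
        rw [Set.mem_singleton_iff] at ht
        rw [ht, hxy])
      have hy'H : y' ∈ H₂ := hA₂ (by
        rw [Subgroup.mem_centralizer_iff]
        intro t ht
        rw [Set.mem_singleton_iff] at ht
        rw [ht])
      have hzH : z ∈ H₂ := hA₂ (by
        rw [Subgroup.mem_centralizer_iff]
        intro t ht
        rw [Set.mem_singleton_iff] at ht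
        rw [ht, hy'z])
      have hp1 := dvd_card_of_p_element H₁ p hp x hxH hx1 hxp
      have hq1 := dvd_card_of_p_element H₁ q hq y hyH hy1 hyq
      have hq2 := dvd_card_of_p_element H₂ q hq y' hy'H hy'1 hy'q
      have hr2 := dvd_card_of_p_element H₂ r hr z hzH hz1 hzr
      have : Fact q.Prime := ⟨hq⟩
      obtain ⟨g, hg⟩ := hM₁.conj_of_common_prime hM₂ q hq1 hq2
      have hr1 : r ∣ Nat.card H₁ := by
        rw [← card_map_conj H₁ g, ← hg]
        exact hr2
      have := hM₁.nil
      have : Fact p.Prime := ⟨hp⟩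
      have : Fact r.Prime := ⟨hr⟩
      obtain ⟨x₁, hx₁⟩ := exists_prime_orderOf_dvd_card' p hp1
      obtain ⟨z₁, hz₁⟩ := exists_prime_orderOf_dvd_card' r hr1
      have hcomm : Commute x₁ z₁ := by
        apply commute_of_coprime_orderOf
        rw [hx₁, hz₁]
        exact (Nat.coprime_primes hp hr).mpr hpr
      refine ⟨(x₁ : G), (z₁ : G), ?_, ?_, ?_, ?_, ?_⟩
      · intro h
        have : x₁ = 1 := Subtype.ext h
        rw [this, orderOf_one] at hx₁
        exact hp.one_lt.ne hx₁
      · intro h
        have : z₁ = 1 := Subtype.ext h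
        rw [this, orderOf_one] at hz₁
        exact hr.one_lt.ne hz₁
      · apply isPGroup_zpowers_of_pow p
        refine ⟨1, ?_⟩
        rw [pow_one]
        have := pow_orderOf_eq_one x₁
        rw [hx₁] at this
        have h2 := congrArg Subtype.val this
        simpa using h2
      · apply isPGroup_zpowers_of_pow r
        refine ⟨1, ?_⟩
        rw [pow_one]
        have := pow_orderOf_eq_one z₁
        rw [hz₁] at this
        have h2 := congrArg Subtype.val this
        simpa using h2
      · have := congrArg Subtype.val hcomm.eq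
        simpa using this

end Cfsg.Agent.S1483
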