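import Cfsg.Statements.S1485
import Mathlib
import Cfsg.Agent.Lib.Helper11.IndNormal

set_option autoImplicit false
open Cfsg

namespace Cfsg.Agent.S1485

open Cfsg.Agent.Lib.Helper11 Cfsg.Agent.Lib.helper7
open scoped ComplexConjugate

/-- Let H be a normal subgroup of the finite group G and θ an irreducible character of H. On H, the function induced from θ equals r times the sum of the distinct G-conjugates of θ, where r is the number of elements of G fixing θ under conjugation divided by the order of H (the index of H in the inertia group). -/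
theorem result {G : Type*} [Group G] [Fintype G] (H : Subgroup G) [hN : H.Normal] (θ : H → ℂ) (hθ : Cfsg.IsIrrCharacter H θ) : (fun h : H => Cfsg.indFun H θ h) = ((Nat.card {g : G // ∀ h : H, θ ⟨g * h * g⁻¹, hN.conj_mem h h.2 g⟩ = θ h} : ℂ) / (Nat.card H : ℂ)) • ∑ᶠ ψ ∈ {ψ : H → ℂ | ∃ g : G, ψ = fun h : H => θ ⟨g * h * g⁻¹, hN.conj_mem h h.2 g⟩}, ψ := by
  have h1 := sum_cj_eq H θ
  funext h
  rw [indFun_normal_apply]
  have h2 : ∑ x : G, cj H θ x h = (∑ x : G, cj H θ x) h := by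
    rw [Finset.sum_apply]
  rw [h2, h1]
  simp only [Pi.smul_apply, smul_eq_mul]
  rw [div_eq_mul_inv]
  have e1 : (Nat.card {g : G // ∀ h : H, θ ⟨g * h * g⁻¹, hN.conj_mem h h.2 g⟩ = θ h} : ℂ) =
      (Nat.card {g : G // ∀ h : H, cj H θ g h = θ h} : ℂ) := rfl
  have e2 : (∑ᶠ ψ ∈ {ψ : H → ℂ | ∃ g : G, ψ = fun h : H => θ ⟨g * h * g⁻¹, hN.conj_mem h h.2 g⟩}, ψ) =
      ∑ᶠ ψ ∈ {ψ : H → ℂ | ∃ g : G, ψ = cj H θ g}, ψ := rfl
  rw [e1, e2]
  ring

end Cfsg.Agent.S1485
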