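import Cfsg.Statements.S1487
import Mathlib
import Cfsg.Agent.Lib.Helper11.IndNormal
import Cfsg.Agent.Lib.Helper25.CharBound
import Cfsg.Agent.Lib.Helper25.CharOrth

set_option autoImplicit false
open Cfsg

namespace Cfsg.Agent.S1487

open Cfsg.Agent.Lib.Helper11 Cfsg.Agent.Lib.helper7 Cfsg.Agent.Lib.Helper25
open scoped ComplexConjugate

theorem eq_of_sum_eq {ι : Type*} (s : Finset ι) (z : ι → ℂ) (c : ℝ)
    (hle : ∀ i ∈ s, ‖z i‖ ≤ c) (hsum : ∑ i ∈ s, z i = (s.card : ℂ) * (c : ℂ)) :
    ∀ i ∈ s, z i = (c : ℂ) := by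
  have hre : ∑ i ∈ s, (z i).re = ∑ i ∈ s, c := by
    have := congrArg Complex.re hsum
    rw [Complex.re_sum] at this
    rw [this, Finset.sum_const, nsmul_eq_mul]
    simp
  have hle' : ∀ i ∈ s, (z i).re ≤ c := fun i hi => (Complex.re_le_norm (z i)).trans (hle i hi)
  have h1 := (Finset.sum_eq_sum_iff_of_le hle').mp hre
  intro i hi
  have hr : (z i).re = c := h1 i hi
  have hn := hle i hi
  have hc : 0 ≤ c := (norm_nonneg _).trans hn
  have hsq : ‖z i‖ ^ 2 ≤ c ^ 2 := pow_le_pow_left₀ (norm_nonneg _) hn 2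
  rw [Complex.sq_norm, Complex.normSq_apply, hr] at hsq
  have him : (z i).im = 0 := by nlinarith
  apply Complex.ext
  · simpa using hr
  · simpa using him

/-- Let A ≤ H be normal subgroups of the finite group G and θ an irreducible character of H. Then θ takes the value θ 1 on all of A if and only if the function induced from θ to G takes its value at 1 on all of A. -/
theorem result {G : Type*} [Group G] [Fintype G] (A H : Subgroup G) [A.Normal] [H.Normal] (hAH : A ≤ H) (θ : H → ℂ) (hθ : Cfsg.IsIrrCharacter H θ) : (∀ a : H, (a : G) ∈ A → θ a = θ 1) ↔ (∀ a : G, a ∈ A → Cfsg.indFun H θ a = Cfsg.indFun H θ 1) := by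
  classical
  have hH : (Nat.card H : ℂ)⁻¹ ≠ 0 := by
    apply inv_ne_zero
    exact_mod_cast Nat.card_pos.ne'
  have hA : ∀ (a : G) (ha : a ∈ A) (x : G), x * a * x⁻¹ ∈ A := fun a ha x =>
    (inferInstance : A.Normal).conj_mem a ha x
  have hone : Cfsg.indFun H θ 1 = (Nat.card H : ℂ)⁻¹ * ∑ _x : G, θ 1 := by
    have := indFun_normal_apply H θ (1 : H)
    rw [Subgroup.coe_one] at this
    rw [this]
    congr 1
    apply Finset.sum_congr rfl
    intro x _
    rw [cj_apply]
    congr 1
    apply Subtype.ext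
    simp
  constructor
  · intro h a ha
    have := indFun_normal_apply H θ (⟨a, hAH ha⟩ : H)
    rw [Subtype.coe_mk] at this
    rw [this, hone]
    congr 1
    apply Finset.sum_congr rfl
    intro x _
    rw [cj_apply]
    exact h _ (hA a ha x)
  · intro h a ha
    have h1 := h a ha
    have h2 := indFun_normal_apply H θ a
    rw [h2, hone] at h1
    have h3 := mul_left_cancel₀ hH h1
    obtain ⟨n, hn, hθ1⟩ := irr_one_eq_finrank ⟨θ, hθ⟩
    simp only at hθ1
    have h4 : ∑ x : G, cj H θ x a = ((Finset.univ : Finset G).card : ℂ) * ((n : ℝ) : ℂ) := by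
      rw [h3, Finset.sum_const, nsmul_eq_mul, hθ1]
      simp
    have h5 := eq_of_sum_eq Finset.univ (fun x : G => cj H θ x a) (n : ℝ) (by
      intro x _
      have := irr_norm_le ⟨θ, hθ⟩ (⟨x * a * x⁻¹, (inferInstance : H.Normal).conj_mem a a.2 x⟩ : H)
      simp only at this
      rw [hθ1] at this
      show ‖cj H θ x a‖ ≤ (n : ℝ)
      rw [cj_apply]
      simpa using this) h4 1 (Finset.mem_univ _)
    rw [cj_one] at h5
    rw [h5, hθ1]
    simp

end Cfsg.Agent.S1487
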