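import Mathlib
import Cfsg.Statements.S1488

set_option autoImplicit false
open Cfsg

namespace Cfsg.Agent.S1488

theorem extendByZero_of_mem {G : Type*} [Group G] (H : Subgroup G) (θ : H → ℂ) (x : G) (hx : x ∈ H) :
    Cfsg.extendByZero H θ x = θ ⟨x, hx⟩ := by
  unfold Cfsg.extendByZero
  exact Function.Injective.extend_apply Subtype.val_injective θ 0 ⟨x, hx⟩

theorem extendByZero_of_not_mem {G : Type*} [Group G] (H : Subgroup G) (θ : H → ℂ) (x : G)
    (hx : x ∉ H) : Cfsg.extendByZero H θ x = 0 := by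
  unfold Cfsg.extendByZero
  rw [Function.extend_apply']
  · rfl
  · rintro ⟨a, rfl⟩
    exact hx a.2

theorem sum_comp_mk {G : Type*} [Group G] [Fintype G] (A : Subgroup G) [Fintype (G ⧸ A)]
    (F : G ⧸ A → ℂ) :
    ∑ x : G, F (x : G ⧸ A) = (Nat.card A : ℂ) * ∑ y : G ⧸ A, F y := by
  classical
  have : Fintype A := Fintype.ofFinite A
  have h1 : ∑ x : G, F (x : G ⧸ A) = ∑ p : (G ⧸ A) × A, F p.1 := by
    apply Fintype.sum_equiv (Subgroup.groupEquivQuotientProdSubgroup (s := A))
    intro x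
    rfl
  rw [h1, Fintype.sum_prod_type]
  simp only [Finset.sum_const, Finset.card_univ, nsmul_eq_mul]
  rw [Finset.mul_sum, Nat.card_eq_fintype_card]

theorem result {G : Type*} [Group G] [Fintype G] (A H : Subgroup G) [A.Normal] (hAH : A ≤ H) [Fintype (G ⧸ A)] [Fintype ↥(H.map (QuotientGroup.mk' A))] (θ : H → ℂ) (θ₁ : ↥(H.map (QuotientGroup.mk' A)) → ℂ) (hθ : ∀ x : H, θ₁ ⟨QuotientGroup.mk' A x, Subgroup.mem_map_of_mem _ x.2⟩ = θ x) (g : G) : Cfsg.indFun (H.map (QuotientGroup.mk' A)) θ₁ (QuotientGroup.mk' A g) = Cfsg.indFun H θ g := by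
  classical
  have hmem : ∀ z : G, (QuotientGroup.mk' A z) ∈ H.map (QuotientGroup.mk' A) ↔ z ∈ H := by
    intro z
    constructor
    · rintro ⟨h, hh, hhz⟩
      have : h⁻¹ * z ∈ A := by
        rw [← QuotientGroup.eq]
        exact hhz
      have h2 := H.mul_mem hh (hAH this)
      simpa using h2
    · intro hz
      exact Subgroup.mem_map_of_mem _ hz
  have hext : ∀ z : G, Cfsg.extendByZero (H.map (QuotientGroup.mk' A)) θ₁ (QuotientGroup.mk' A z) =
      Cfsg.extendByZero H θ z := by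
    intro z
    by_cases hz : z ∈ H
    · rw [extendByZero_of_mem H θ z hz,
        extendByZero_of_mem _ θ₁ _ ((hmem z).mpr hz)]
      exact hθ ⟨z, hz⟩
    · rw [extendByZero_of_not_mem H θ z hz,
        extendByZero_of_not_mem _ θ₁ _ (fun h => hz ((hmem z).mp h))]
  have hsum : ∑ x : G, Cfsg.extendByZero H θ (x⁻¹ * g * x) =
      (Nat.card A : ℂ) * ∑ y : G ⧸ A,
        Cfsg.extendByZero (H.map (QuotientGroup.mk' A)) θ₁ (y⁻¹ * (QuotientGroup.mk' A g) * y) := by
    rw [← sum_comp_mk A (fun y => Cfsg.extendByZero (H.map (QuotientGroup.mk' A)) θ₁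
      (y⁻¹ * (QuotientGroup.mk' A g) * y))]
    apply Finset.sum_congr rfl
    intro x _
    rw [← hext]
    rfl
  have hcard : (Nat.card ↥(H.map (QuotientGroup.mk' A)) : ℂ) * (Nat.card A : ℂ) = (Nat.card H : ℂ) := by
    have hidx : (H.map (QuotientGroup.mk' A)).index = H.index := by
      apply Subgroup.index_map_eq _ (QuotientGroup.mk'_surjective A)
      rw [QuotientGroup.ker_mk']
      exact hAH
    have e1 : Nat.card ↥(H.map (QuotientGroup.mk' A)) * (H.map (QuotientGroup.mk' A)).index =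
        Nat.card (G ⧸ A) := Subgroup.card_mul_index _
    have e2 : Nat.card H * H.index = Nat.card G := Subgroup.card_mul_index _
    have e3 : Nat.card (G ⧸ A) * Nat.card A = Nat.card G := by
      rw [mul_comm]
      exact (Subgroup.card_eq_card_quotient_mul_card_subgroup A).symm ▸ (mul_comm _ _)
    have hpos : 0 < H.index := Nat.pos_of_ne_zero Subgroup.index_ne_zero_of_finite
    have e4 : Nat.card ↥(H.map (QuotientGroup.mk' A)) * Nat.card A = Nat.card H := by
      apply Nat.eq_of_mul_eq_mul_right hpos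
      calc Nat.card ↥(H.map (QuotientGroup.mk' A)) * Nat.card A * H.index
          = (Nat.card ↥(H.map (QuotientGroup.mk' A)) * (H.map (QuotientGroup.mk' A)).index) * Nat.card A := by
            rw [hidx]; ring
        _ = Nat.card H * H.index := by rw [e1, e3, e2]
    exact_mod_cast e4
  unfold Cfsg.indFun
  rw [hsum, ← hcard]
  have hA0 : (Nat.card A : ℂ) ≠ 0 := by
    exact_mod_cast (Nat.card_pos (α := A)).ne'
  have hH0 : (Nat.card ↥(H.map (QuotientGroup.mk' A)) : ℂ) ≠ 0 := by
    exact_mod_cast (Nat.card_pos (α := ↥(H.map (QuotientGroup.mk' A)))).ne'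
  field_simp

end Cfsg.Agent.S1488
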