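import Cfsg.Statements.S1490
import Cfsg.Agent.Lib.Helper11.AbelianQuot
import Cfsg.Agent.Lib.Helper11.IndTrans
import Cfsg.Agent.S1489

set_option autoImplicit false
open Cfsg

namespace Cfsg.Agent.S1490

open Cfsg.Agent.Lib.Helper11 Cfsg.Agent.Lib.helper7 Cfsg.Agent.Lib.helper2 Cfsg.Agent.Lib.Helper25


/-- Let H be a normal subgroup of the finite group G, θ an irreducible character of H with inertia group T, and suppose the commutator of any two elements of T lies in H (T/H abelian). Then there are a positive integer e and a finite set C of irreducible characters of G with e ^ 2 * |C| * |H| = |T|, such that the function induced from θ is e times the sum of the members of C and every member of C has degree [G:T] * e * θ(1). -/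
theorem result {G : Type*} [Group G] [Fintype G] (H T : Subgroup G) [hN : H.Normal] (θ : H → ℂ) (hθ : Cfsg.IsIrrCharacter H θ) (hT : ∀ g : G, g ∈ T ↔ ∀ h : H, θ ⟨g * h * g⁻¹, hN.conj_mem h h.2 g⟩ = θ h) (hab : ∀ x ∈ T, ∀ y ∈ T, x * y * x⁻¹ * y⁻¹ ∈ H) : ∃ (e : ℕ) (C : Finset (G → ℂ)), 0 < e ∧ (∀ χ ∈ C, Cfsg.IsIrrCharacter G χ) ∧ e ^ 2 * C.card * Nat.card H = Nat.card T ∧ Cfsg.indFun H θ = (e : ℂ) • ∑ χ ∈ C, χ ∧ ∀ χ ∈ C, χ 1 = (T.index : ℂ) * e * θ 1 := by
  classical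
  have : Fintype H := Fintype.ofFinite _
  have : Fintype T := Fintype.ofFinite _
  have : Fintype (Cfsg.IrrCharacter T) := Fintype.ofFinite _
  have : Fintype ↥(H.subgroupOf T) := Fintype.ofFinite _
  have hHT : H ≤ T := by
    intro h hh
    rw [hT]
    intro k
    exact irr_conj_invariant ⟨θ, hθ⟩ k ⟨h, hh⟩
  have hnorm : (H.subgroupOf T).Normal := Subgroup.normal_subgroupOf
  have hθ' : Cfsg.IsIrrCharacter ↥(H.subgroupOf T) (toSub H T θ) := isIrr_toSub hHT θ hθ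
  have hinv : ∀ t : T, cj (H.subgroupOf T) (toSub H T θ) t = toSub H T θ := by
    intro t
    rw [cj_toSub]
    congr 1
    funext h
    exact (hT t).mp t.2 h
  have hab' : ∀ x y : T, x * y * x⁻¹ * y⁻¹ ∈ H.subgroupOf T := by
    intro x y
    rw [Subgroup.mem_subgroupOf]
    exact hab x x.2 y y.2
  have hcardH : Nat.card ↥(H.subgroupOf T) = Nat.card H :=
    Nat.card_congr (Subgroup.subgroupOfEquivOfLe hHT).toEquiv
  obtain ⟨e, C₀, hepos, hC₀, hres, hsum, hcard⟩ :=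
    ramification_abelian_quotient (H.subgroupOf T) (toSub H T θ) hθ' hinv hab'
  have hinj : Set.InjOn (fun ψ : Cfsg.IrrCharacter T => Cfsg.indFun T (ψ : T → ℂ)) ↑C₀ := by
    intro ψ hψ ψ' hψ' heq
    apply Subtype.ext
    exact (Cfsg.Agent.S1489.result H T θ hθ hT hHT ψ ψ' ψ.2 ψ'.2
      ((hC₀ ψ).mp hψ) ((hC₀ ψ').mp hψ')).2 heq
  refine ⟨e, C₀.image (fun ψ : Cfsg.IrrCharacter T => Cfsg.indFun T (ψ : T → ℂ)), hepos, ?_, ?_, ?_, ?_⟩
  · intro χ hχ
    obtain ⟨ψ, hψ, rfl⟩ := Finset.mem_image.mp hχ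
    exact (Cfsg.Agent.S1489.result H T θ hθ hT hHT ψ ψ ψ.2 ψ.2
      ((hC₀ ψ).mp hψ) ((hC₀ ψ).mp hψ)).1
  · rw [Finset.card_image_of_injOn hinj, ← hcardH]
    exact hcard
  · rw [← indFun_trans hHT θ, hsum, indFun_smul, indFun_sum, Finset.sum_image hinj]
  · intro χ hχ
    obtain ⟨ψ, hψ, rfl⟩ := Finset.mem_image.mp hχ
    rw [h7_indFun_one]
    have h1 := congrFun (hres ψ hψ) 1
    simp only [Pi.smul_apply, smul_eq_mul] at h1
    have h2 : (ψ : T → ℂ) 1 = (e : ℂ) * θ 1 := h1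
    rw [h2]
    ring

end Cfsg.Agent.S1490
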