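import Cfsg.Statements.S1491
import Cfsg.Agent.Lib.Helper11.AbelianQuot
import Cfsg.Agent.Lib.Helper11.IndTrans
import Cfsg.Agent.S1489

set_option autoImplicit false
open Cfsg

namespace Cfsg.Agent.S1491

open Cfsg.Agent.Lib.Helper11 Cfsg.Agent.Lib.helper7 Cfsg.Agent.Lib.helper2 Cfsg.Agent.Lib.Helper25


/-- Let H be a normal subgroup of the finite group G and θ an irreducible character of H with inertia group T, where T/H is abelian (commutators of T lie in H) and the index of H in T is coprime to the order of H. Then the function induced from θ is the sum of a set of exactly [T:H] irreducible characters of G, each of degree [G:T] * θ(1). -/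
theorem result {G : Type*} [Group G] [Fintype G] (H T : Subgroup G) [hN : H.Normal] (θ : H → ℂ) (hθ : Cfsg.IsIrrCharacter H θ) (hT : ∀ g : G, g ∈ T ↔ ∀ h : H, θ ⟨g * h * g⁻¹, hN.conj_mem h h.2 g⟩ = θ h) (hab : ∀ x ∈ T, ∀ y ∈ T, x * y * x⁻¹ * y⁻¹ ∈ H) (hcop : Nat.Coprime (Nat.card H) (H.relIndex T)) : ∃ C : Finset (G → ℂ), (∀ χ ∈ C, Cfsg.IsIrrCharacter G χ) ∧ C.card = H.relIndex T ∧ Cfsg.indFun H θ = ∑ χ ∈ C, χ ∧ ∀ χ ∈ C, χ 1 = (T.index : ℂ) * θ 1 := by
  classical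
  have : Fintype H := Fintype.ofFinite _
  have : Fintype T := Fintype.ofFinite _
  have : Fintype (Cfsg.IrrCharacter T) := Fintype.ofFinite _
  have : Fintype ↥(H.subgroupOf T) := Fintype.ofFinite _
  have hHT : H ≤ T := by
    intro h hh
    rw [hT]
    intro k
    exact irr_conj_invariant ⟨θ, hθ⟩ k ⟨h, hh⟩
  have hnorm : (H.subgroupOf T).Normal := Subgroup.normal_subgroupOf
  have hθ' : Cfsg.IsIrrCharacter ↥(H.subgroupOf T) (toSub H T θ) := isIrr_toSub hHT θ hθ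
  have hinv : ∀ t : T, cj (H.subgroupOf T) (toSub H T θ) t = toSub H T θ := by
    intro t
    rw [cj_toSub]
    congr 1
    funext h
    exact (hT t).mp t.2 h
  have hab' : ∀ x y : T, x * y * x⁻¹ * y⁻¹ ∈ H.subgroupOf T := by
    intro x y
    rw [Subgroup.mem_subgroupOf]
    exact hab x x.2 y y.2
  have hcardH : Nat.card ↥(H.subgroupOf T) = Nat.card H :=
    Nat.card_congr (Subgroup.subgroupOfEquivOfLe hHT).toEquiv
  have hcop' : Nat.Coprime (Nat.card ↥(H.subgroupOf T)) (H.subgroupOf T).index := by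
    rw [hcardH]
    exact hcop
  obtain ⟨C₀, hC₀, hres, hsum, hcard⟩ :=
    ramification_coprime (H.subgroupOf T) (toSub H T θ) hθ' hinv hab' hcop'
  have hinj : Set.InjOn (fun ψ : Cfsg.IrrCharacter T => Cfsg.indFun T (ψ : T → ℂ)) ↑C₀ := by
    intro ψ hψ ψ' hψ' heq
    apply Subtype.ext
    exact (Cfsg.Agent.S1489.result H T θ hθ hT hHT ψ ψ' ψ.2 ψ'.2
      ((hC₀ ψ).mp hψ) ((hC₀ ψ').mp hψ')).2 heq
  refine ⟨C₀.image (fun ψ : Cfsg.IrrCharacter T => Cfsg.indFun T (ψ : T → ℂ)), ?_, ?_, ?_, ?_⟩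
  · intro χ hχ
    obtain ⟨ψ, hψ, rfl⟩ := Finset.mem_image.mp hχ
    exact (Cfsg.Agent.S1489.result H T θ hθ hT hHT ψ ψ ψ.2 ψ.2
      ((hC₀ ψ).mp hψ) ((hC₀ ψ).mp hψ)).1
  · rw [Finset.card_image_of_injOn hinj, hcard]
    rfl
  · rw [← indFun_trans hHT θ, hsum, indFun_sum, Finset.sum_image hinj]
  · intro χ hχ
    obtain ⟨ψ, hψ, rfl⟩ := Finset.mem_image.mp hχ
    rw [h7_indFun_one]
    have h1 := congrFun (hres ψ hψ) 1
    have h2 : (ψ : T → ℂ) 1 = θ 1 := h1
    rw [h2]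

end Cfsg.Agent.S1491
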