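import Cfsg.Statements.S1493
import Cfsg.Agent.Lib.Helper11.GaloisConj

set_option autoImplicit false
open Cfsg

namespace Cfsg.Agent.S1493

/-- Let G be a finite group of order a * b with a and b coprime, let k be coprime to a, and let χ be a character of G. Then there is a character χ' of G such that χ'(g) = χ(g ^ k) whenever the order of g divides a and χ'(g) = χ(g) whenever the order of g is coprime to a; moreover χ' is irreducible if χ is. -/
theorem result {G : Type*} [Group G] [Finite G] (a b k : ℕ) (hab : Nat.card G = a * b) (hcop : Nat.Coprime a b) (hk : Nat.Coprime k a) (χ : G → ℂ) (hχ : Cfsg.IsCharacter G χ) : ∃ χ' : G → ℂ, Cfsg.IsCharacter G χ' ∧ (Cfsg.IsIrrCharacter G χ → Cfsg.IsIrrCharacter G χ') ∧ (∀ g : G, orderOf g ∣ a → χ' g = χ (g ^ k)) ∧ (∀ g : G, Nat.Coprime (orderOf g) a → χ' g = χ g) := by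
  classical
  have hNpos : 0 < Nat.card G := Nat.card_pos
  obtain ⟨m, hma, hmb⟩ := Nat.chineseRemainder hcop k 1
  have hm1 : Nat.Coprime m a := by
    have := hma.gcd_eq
    rw [Nat.Coprime, this]; exact hk
  have hm2 : Nat.Coprime m b := by
    have := hmb.gcd_eq
    rw [Nat.Coprime, this]; exact Nat.gcd_one_left b
  have hmN : Nat.Coprime m (Nat.card G) := by
    rw [hab]; exact Nat.Coprime.mul_right hm1 hm2
  obtain ⟨τ, hτ⟩ := Cfsg.Agent.Lib.Helper11.exists_ringAut_pow (Nat.card G) m hNpos hmN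
  have hval : ∀ g : G, τ (χ g) = χ (g ^ m) :=
    fun g => Cfsg.Agent.Lib.Helper11.ringAut_character_apply τ m hτ hχ g
  refine ⟨fun g => τ (χ g), Cfsg.Agent.Lib.Helper11.isCharacter_ringAut τ hχ,
    fun h => Cfsg.Agent.Lib.Helper11.isIrrCharacter_ringAut τ h, ?_, ?_⟩
  · intro g hg
    show τ (χ g) = χ (g ^ k)
    rw [hval]
    congr 1
    rw [pow_eq_pow_iff_modEq]
    exact hma.of_dvd hg
  · intro g hg
    show τ (χ g) = χ g
    rw [hval]
    congr 1
    have hdvd : orderOf g ∣ b := by
      have h1 : orderOf g ∣ a * b := hab ▸ orderOf_dvd_natCard g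
      exact (Nat.Coprime.dvd_mul_left hg).mp h1
    conv_rhs => rw [← pow_one g]
    rw [pow_eq_pow_iff_modEq]
    exact hmb.of_dvd hdvd

end Cfsg.Agent.S1493
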