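import Cfsg.Statements.S1494
import Mathlib
import Cfsg.Agent.Lib.helper2.CharInd
import Cfsg.Agent.Lib.Helper25.CharLinear

set_option autoImplicit false
open Cfsg

namespace Cfsg.Agent.S1494

open Cfsg.Agent.Lib.Helper25 Cfsg.Agent.Lib.helper2
open scoped ComplexConjugate

theorem irr_one_of_isMulComm {A : Type*} [Group A] [IsMulCommutative A]
    (μ : Cfsg.IrrCharacter A) : (μ : A → ℂ) 1 = 1 := by
  obtain ⟨m, τ, hτ, hμ⟩ := μ.2
  haveI := hτ
  rw [← hμ, Representation.char_one]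
  have := Representation.IsIrreducible.finrank_eq_one_of_isMulCommutative τ
  rw [this]
  simp

theorem linear_step {A : Type*} [Group A] [Finite A] [IsMulCommutative A]
    (μ : Cfsg.IrrCharacter A) (p : ℕ) (hp : p.Prime) (x y : A) (hx : x ^ p = 1) :
    ∃ ω : ℂ, IsIntegral ℤ ω ∧ (μ : A → ℂ) (x * y) - (μ : A → ℂ) y =
      (1 - Complex.exp (2 * Real.pi * Complex.I / p)) * ω := by
  have h1 := irr_one_of_isMulComm μ
  have hmul := irr_linear_mul μ h1
  have hpow : ∀ (a : A) (n : ℕ), (μ : A → ℂ) (a ^ n) = (μ : A → ℂ) a ^ n := by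
    intro a n
    induction n with
    | zero => simp [h1]
    | succ k ih => rw [pow_succ, hmul, ih, pow_succ]
  have hxp : (μ : A → ℂ) x ^ p = 1 := by rw [← hpow, hx, h1]
  have hprim := Complex.isPrimitiveRoot_exp p hp.ne_zero
  haveI : NeZero p := ⟨hp.ne_zero⟩
  obtain ⟨j, _, hj⟩ := hprim.eq_pow_of_pow_eq_one hxp
  set ε := Complex.exp (2 * Real.pi * Complex.I / p) with hε
  have hεint : IsIntegral ℤ ε := by
    apply IsIntegral.of_pow hp.pos
    rw [hprim.pow_eq_one]
    exact isIntegral_one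
  have hyint : IsIntegral ℤ ((μ : A → ℂ) y) := by
    apply IsIntegral.of_pow (orderOf_pos y)
    rw [← hpow, pow_orderOf_eq_one, h1]
    exact isIntegral_one
  refine ⟨-((μ : A → ℂ) y * ∑ i ∈ Finset.range j, ε ^ i), ?_, ?_⟩
  · apply IsIntegral.neg
    apply IsIntegral.mul hyint
    apply IsIntegral.sum
    intro i _
    exact IsIntegral.pow hεint i
  · rw [hmul, ← hj]
    have hg := geom_sum_mul ε j
    have : ε ^ j * (μ : A → ℂ) y - (μ : A → ℂ) y = (ε ^ j - 1) * (μ : A → ℂ) y := by ring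
    rw [this, ← hg]
    ring

theorem char_step {G : Type*} [Group G] [Finite G] (ψ : G → ℂ) (hψ : Cfsg.IsCharacter G ψ)
    (p : ℕ) (hp : p.Prime) (x y : G) (hx : orderOf x = p) (hxy : x * y = y * x) :
    ∃ ω : ℂ, IsIntegral ℤ ω ∧ ψ (x * y) - ψ y =
      (1 - Complex.exp (2 * Real.pi * Complex.I / p)) * ω := by
  classical
  set A : Subgroup G := Subgroup.closure {x, y} with hA
  have hcommS : ∀ a ∈ ({x, y} : Set G), ∀ b ∈ ({x, y} : Set G), a * b = b * a := by
    intro a ha b hb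
    simp only [Set.mem_insert_iff, Set.mem_singleton_iff] at ha hb
    rcases ha with rfl | rfl <;> rcases hb with rfl | rfl
    · rfl
    · exact hxy
    · exact hxy.symm
    · rfl
  have hcomm : ∀ a b : A, a * b = b * a := by
    intro a b
    have := Subgroup.isMulCommutative_closure hcommS
    exact mul_comm' a b
  haveI : IsMulCommutative A := ⟨⟨hcomm⟩⟩
  haveI : Fintype A := Fintype.ofFinite _
  haveI : Fintype (Cfsg.IrrCharacter A) := Fintype.ofFinite _
  have hxA : x ∈ A := Subgroup.subset_closure (by simp)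
  have hyA : y ∈ A := Subgroup.subset_closure (by simp)
  obtain ⟨m, -, hexp⟩ := isCharacter_expansion (isCharacter_restrict hψ A)
  have hxp : (⟨x, hxA⟩ : A) ^ p = 1 := by
    apply Subtype.ext
    rw [Subgroup.coe_pow, Subgroup.coe_one, Subtype.coe_mk, ← hx, pow_orderOf_eq_one]
  have hstep := fun μ : Cfsg.IrrCharacter A => linear_step μ p hp ⟨x, hxA⟩ ⟨y, hyA⟩ hxp
  choose ω hω1 hω2 using hstep
  refine ⟨∑ μ : Cfsg.IrrCharacter A, (m μ : ℂ) * ω μ, ?_, ?_⟩
  · apply IsIntegral.sum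
    intro μ _
    exact IsIntegral.mul (isIntegral_natCast (m μ)) (hω1 μ)
  · have e1 : ψ (x * y) = (fun a : A => ψ a) (⟨x, hxA⟩ * ⟨y, hyA⟩) := rfl
    have e2 : ψ y = (fun a : A => ψ a) ⟨y, hyA⟩ := rfl
    rw [e1, e2, hexp]
    simp only [Finset.sum_apply, Pi.smul_apply, smul_eq_mul]
    rw [← Finset.sum_sub_distrib, Finset.mul_sum]
    apply Finset.sum_congr rfl
    intro μ _
    rw [← mul_sub, hω2 μ]
    ring

/-- Let χ be a generalized character of the finite group G, p a prime, x an element of order p and y an element commuting with x. Then χ(x * y) − χ(y) = (1 − ε) * ω for some algebraic integer ω, where ε = exp(2πi/p). -/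
theorem result {G : Type*} [Group G] [Finite G] (χ : G → ℂ) (hχ : Cfsg.IsGeneralizedCharacter G χ) (p : ℕ) (hp : p.Prime) (x y : G) (hx : orderOf x = p) (hxy : x * y = y * x) : ∃ ω : ℂ, IsIntegral ℤ ω ∧ χ (x * y) - χ y = (1 - Complex.exp (2 * Real.pi * Complex.I / p)) * ω := by
  obtain ⟨χ₁, χ₂, h1, h2, rfl⟩ := hχ
  obtain ⟨ω₁, hi1, he1⟩ := char_step χ₁ h1 p hp x y hx hxy
  obtain ⟨ω₂, hi2, he2⟩ := char_step χ₂ h2 p hp x y hx hxy
  refine ⟨ω₁ - ω₂, IsIntegral.sub hi1 hi2, ?_⟩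
  simp only [Pi.sub_apply]
  rw [mul_sub, ← he1, ← he2]
  ring

end Cfsg.Agent.S1494
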