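import Mathlib
import Cfsg.Statements.S1495

set_option autoImplicit false
open Cfsg

namespace Cfsg.Agent.S1495

open Polynomial

theorem prod_one_sub_primitiveRoots (p : ℕ) [hp : Fact p.Prime] (ε : ℂ) (hε : IsPrimitiveRoot ε p) :
    ∏ μ ∈ primitiveRoots p ℂ, (1 - μ) = (p : ℂ) := by
  have h1 := cyclotomic_eq_prod_X_sub_primitiveRoots (K := ℂ) hε
  have h2 : eval 1 (cyclotomic p ℂ) = (p : ℂ) := eval_one_cyclotomic_prime
  rw [h1, eval_prod] at h2
  simpa using h2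

theorem isIntegral_div (p : ℕ) [hp : Fact p.Prime] (ε μ : ℂ) (hε : IsPrimitiveRoot ε p)
    (hμ : IsPrimitiveRoot μ p) : IsIntegral ℤ ((1 - ε) / (1 - μ)) := by
  have : NeZero p := ⟨hp.out.ne_zero⟩
  obtain ⟨j, _, hj⟩ := hμ.eq_pow_of_pow_eq_one hε.pow_eq_one
  have hμ1 : 1 - μ ≠ 0 := by
    intro h
    exact hμ.ne_one hp.out.one_lt (sub_eq_zero.mp h).symm
  have hμint : IsIntegral ℤ μ := hμ.isIntegral hp.out.pos
  have h1 : (1 - ε) / (1 - μ) = ∑ i ∈ Finset.range j, μ ^ i := by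
    rw [div_eq_iff hμ1, ← hj]
    have := geom_sum_mul μ j
    linear_combination this
  rw [h1]
  exact IsIntegral.sum _ (fun i _ => hμint.pow i)

theorem result (p : ℕ) (hp : p.Prime) (n : ℤ) (ω : ℂ) (hω : IsIntegral ℤ ω) (h : (n : ℂ) = (1 - Complex.exp (2 * Real.pi * Complex.I / p)) * ω) : (p : ℤ) ∣ n := by
  have : Fact p.Prime := ⟨hp⟩
  set ε := Complex.exp (2 * Real.pi * Complex.I / p) with hεdef
  have hε : IsPrimitiveRoot ε p := Complex.isPrimitiveRoot_exp p hp.ne_zero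
  have hcard : (primitiveRoots p ℂ).card = p - 1 := by
    rw [hε.card_primitiveRoots, Nat.totient_prime hp]
  have hprod := prod_one_sub_primitiveRoots p ε hε
  set G := ∏ μ ∈ primitiveRoots p ℂ, ((1 - ε) / (1 - μ)) with hG
  have hGint : IsIntegral ℤ G := by
    apply IsIntegral.prod
    intro μ hμ
    have hp0 : 0 < p := hp.pos
    exact isIntegral_div p ε μ hε ((mem_primitiveRoots hp0).mp hμ)
  have hne : ∀ μ ∈ primitiveRoots p ℂ, 1 - μ ≠ 0 := by
    intro μ hμ h0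
    have hμ' := (mem_primitiveRoots hp.pos).mp hμ
    exact hμ'.ne_one hp.one_lt (sub_eq_zero.mp h0).symm
  have h2 : (1 - ε) ^ (p - 1) = (p : ℂ) * G := by
    rw [← hprod, hG, ← Finset.prod_mul_distrib, ← hcard, ← Finset.prod_const]
    apply Finset.prod_congr rfl
    intro μ hμ
    field_simp [hne μ hμ]
  have h3 : (n : ℂ) ^ (p - 1) = (p : ℂ) * (G * ω ^ (p - 1)) := by
    rw [h, mul_pow, h2]
    ring
  have hyint : IsIntegral ℤ (G * ω ^ (p - 1)) := hGint.mul (hω.pow _)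
  have hp0 : (p : ℂ) ≠ 0 := by exact_mod_cast hp.ne_zero
  have h4 : G * ω ^ (p - 1) = algebraMap ℚ ℂ ((n : ℚ) ^ (p - 1) / (p : ℚ)) := by
    rw [eq_comm]
    simp only [eq_ratCast]
    push_cast
    rw [div_eq_iff hp0, mul_comm]
    exact h3
  rw [h4] at hyint
  have h5 : IsIntegral ℤ ((n : ℚ) ^ (p - 1) / (p : ℚ) : ℚ) :=
    (isIntegral_algebraMap_iff (A := ℚ) (B := ℂ) (R := ℤ) (algebraMap ℚ ℂ).injective).mp hyint
  obtain ⟨z, hz⟩ := IsIntegrallyClosed.algebraMap_eq_of_integral h5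
  have hpq : (p : ℚ) ≠ 0 := by exact_mod_cast hp.ne_zero
  have h6 : (n : ℚ) ^ (p - 1) = (p : ℚ) * (z : ℚ) := by
    have : (z : ℚ) = (n : ℚ) ^ (p - 1) / (p : ℚ) := by simpa using hz
    rw [this]
    field_simp
  have h7 : n ^ (p - 1) = (p : ℤ) * z := by exact_mod_cast h6
  have h8 : (p : ℤ) ∣ n ^ (p - 1) := ⟨z, h7⟩
  exact Int.Prime.dvd_pow' hp h8

end Cfsg.Agent.S1495
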