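import Cfsg.Statements.S1497

set_option autoImplicit false
open Cfsg

namespace Cfsg.Agent.S1497

theorem centralizer_le_normalizer_of_TI {G : Type*} [Group G] (A : Set G) (h1 : (1 : G) ∉ A)
    (hTI : Cfsg.IsTISubset A) (a : G) (ha : a ∈ A) :
    Subgroup.centralizer ({a} : Set G) ≤ Subgroup.normalizer A := by
  intro c hc
  by_contra hcn
  have hca : c * a * c⁻¹ = a := by
    rw [Subgroup.mem_centralizer_singleton_iff] at hc
    rw [hc, mul_inv_cancel_right]
  have := hTI c hcn a ha (by rw [hca]; exact ha)
  exact h1 (this ▸ ha)

/-- Let A be a nonempty subset of the finite group G not containing 1 and L a subgroup. Then A is a TI-subset whose normaliser is L if and only if the Dade hypothesis holds for A, L and the constant choice H(a) = ⊥. -/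
theorem result {G : Type*} [Group G] [Finite G] (A : Set G) (hA : A.Nonempty) (h1 : (1 : G) ∉ A) (L : Subgroup G) : (Cfsg.IsTISubset A ∧ Subgroup.normalizer A = L) ↔ Cfsg.DadeHypothesis A L (fun _ => ⊥) := by
  constructor
  · rintro ⟨hTI, hN⟩
    have hCL : ∀ a ∈ A, Subgroup.centralizer ({a} : Set G) ≤ L := by
      intro a ha
      rw [← hN]
      exact centralizer_le_normalizer_of_TI A h1 hTI a ha
    refine
      { one_not_mem := h1
        subset := ?_
        conj_mem := ?_
        fusion := ?_
        le_centralizer := fun a _ => bot_le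
        conj_mem_H := ?_
        inf_eq_bot := fun a _ => bot_inf_eq _
        sup_eq := ?_
        coprime := ?_ }
    · intro a ha
      apply hCL a ha
      rw [Subgroup.mem_centralizer_singleton_iff]
    · intro x hx a ha
      rw [← hN] at hx
      exact (Subgroup.mem_set_normalizer_iff.mp hx a).mp ha
    · intro a ha g hg
      by_cases hgN : g ∈ Subgroup.normalizer A
      · exact ⟨g, hN ▸ hgN, rfl⟩
      · exact absurd (hTI g hgN a ha hg ▸ ha) h1
    · intro a _ c _ u hu
      rw [Subgroup.mem_bot] at hu
      subst hu
      simp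
    · intro a ha
      rw [bot_sup_eq]
      exact inf_eq_right.mpr (hCL a ha)
    · intro a _ b _
      simp
  · intro hD
    have hCL : ∀ a ∈ A, Subgroup.centralizer ({a} : Set G) ≤ L := by
      intro a ha
      have := hD.sup_eq a ha
      rw [bot_sup_eq] at this
      exact inf_eq_right.mp this
    have hLN : L ≤ Subgroup.normalizer A := by
      intro x hx
      rw [Subgroup.mem_set_normalizer_iff]
      intro h
      constructor
      · exact fun hh => hD.conj_mem x hx h hh
      · intro hh
        have := hD.conj_mem x⁻¹ (L.inv_mem hx) _ hh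
        simpa [mul_assoc] using this
    have key : ∀ a ∈ A, ∀ g : G, g * a * g⁻¹ ∈ A → g ∈ L := by
      intro a ha g hg
      obtain ⟨l, hl, hlg⟩ := hD.fusion a ha g hg
      have : l⁻¹ * g ∈ Subgroup.centralizer ({a} : Set G) := by
        rw [Subgroup.mem_centralizer_singleton_iff]
        have h2 : a = l⁻¹ * (g * a * g⁻¹) * l := by
          rw [← hlg]; group
        calc l⁻¹ * g * a = l⁻¹ * (g * a * g⁻¹) * l * (l⁻¹ * g) := by group
          _ = a * (l⁻¹ * g) := by rw [← h2]
      have h3 := L.mul_mem hl (hCL a ha this)
      simpa using h3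
    refine ⟨?_, le_antisymm ?_ hLN⟩
    · intro g hg x hx hgx
      exact absurd (hLN (key x hx g hgx)) hg
    · intro g hg
      obtain ⟨a, ha⟩ := hA
      exact key a ha g ((Subgroup.mem_set_normalizer_iff.mp hg a).mp ha)

end Cfsg.Agent.S1497
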