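import Mathlib
import Cfsg.Statements.S1498
import Cfsg.Agent.Lib.Helper11.Coprime

set_option autoImplicit false
open Cfsg

namespace Cfsg.Agent.S1498

open Cfsg.Agent.Lib.Helper11

theorem conj_mem_centralizer {G : Type*} [Group G] (a x c : G)
    (hc : c ∈ Subgroup.centralizer ({a} : Set G)) :
    x * c * x⁻¹ ∈ Subgroup.centralizer ({x * a * x⁻¹} : Set G) := by
  rw [Subgroup.mem_centralizer_singleton_iff] at hc ⊢
  calc x * c * x⁻¹ * (x * a * x⁻¹) = x * (c * a) * x⁻¹ := by group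
    _ = x * (a * c) * x⁻¹ := by rw [hc]
    _ = x * a * x⁻¹ * (x * c * x⁻¹) := by group

theorem incl {G : Type*} [Group G] [Finite G] (A : Set G) (L : Subgroup G) (H : G → Subgroup G)
    (hD : Cfsg.DadeHypothesis A L H) (a : G) (ha : a ∈ A) (x : G) (hx : x ∈ L) :
    (H a).map (MulAut.conj x).toMonoidHom ≤ H (x * a * x⁻¹) := by
  set b := x * a * x⁻¹ with hb
  have hbA : b ∈ A := hD.conj_mem x hx a ha
  apply le_of_le_sup_of_coprime (H b) (L ⊓ Subgroup.centralizer ({b} : Set G))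
  · intro c hc
    refine Subgroup.mem_normalizer_iff.mpr ?_
    intro u
    constructor
    · intro hu
      exact hD.conj_mem_H b hbA c hc.2 u hu
    · intro hu
      have := hD.conj_mem_H b hbA c⁻¹ (Subgroup.inv_mem _ hc.2) _ hu
      simpa [mul_assoc] using this
  · exact hD.inf_eq_bot b hbA
  · rw [hD.sup_eq b hbA]
    rintro _ ⟨u, hu, rfl⟩
    have := hD.le_centralizer a ha hu
    exact conj_mem_centralizer a x u this
  · have hcard : Nat.card ((H a).map (MulAut.conj x).toMonoidHom) = Nat.card (H a) :=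
      Subgroup.card_map_of_injective (MulAut.conj x).injective
    rw [hcard]
    exact hD.coprime a ha b hbA

theorem result {G : Type*} [Group G] [Finite G] (A : Set G) (L : Subgroup G) (H : G → Subgroup G) (hD : Cfsg.DadeHypothesis A L H) (a : G) (ha : a ∈ A) (x : G) (hx : x ∈ L) : H (x * a * x⁻¹) = (H a).map (MulAut.conj x).toMonoidHom := by
  apply le_antisymm
  · have hbA : x * a * x⁻¹ ∈ A := hD.conj_mem x hx a ha
    have h1 := incl A L H hD (x * a * x⁻¹) hbA x⁻¹ (L.inv_mem hx)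
    have h2 : x⁻¹ * (x * a * x⁻¹) * x⁻¹⁻¹ = a := by group
    rw [h2] at h1
    intro g hg
    have h3 : x⁻¹ * g * x⁻¹⁻¹ ∈ H a := h1 ⟨g, hg, by simp [MulAut.conj_apply]⟩
    refine ⟨x⁻¹ * g * x⁻¹⁻¹, h3, ?_⟩
    simp [MulAut.conj_apply, mul_assoc]
  · exact incl A L H hD a ha x hx

end Cfsg.Agent.S1498
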