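import Mathlib
import Cfsg.Statements.S1499

set_option autoImplicit false
open Cfsg

namespace Cfsg.Agent.S1499

theorem mul_pow_eq_left {G : Type*} [Group G] (a u : G) (hau : a * u = u * a) (k n m : ℕ)
    (hak : a ^ k = 1) (hun : u ^ n = 1) (hmk : m ≡ 1 [MOD k]) (hmn : m ≡ 0 [MOD n]) :
    (a * u) ^ m = a := by
  have hc : Commute a u := hau
  rw [hc.mul_pow]
  have h1 : a ^ m = a ^ 1 :=
    pow_eq_pow_iff_modEq.mpr (hmk.of_dvd (orderOf_dvd_of_pow_eq_one hak))
  have h2 : u ^ m = u ^ 0 :=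
    pow_eq_pow_iff_modEq.mpr (hmn.of_dvd (orderOf_dvd_of_pow_eq_one hun))
  rw [h1, h2]
  simp

theorem key {G : Type*} [Group G] [Finite G] (A : Set G) (L : Subgroup G) (H : G → Subgroup G)
    (hD : Cfsg.DadeHypothesis A L H) (a b : G) (ha : a ∈ A) (hb : b ∈ A) (u v g : G)
    (hu : u ∈ H a) (hv : v ∈ H b) (hg : g * (a * u) * g⁻¹ = b * v) : g * a * g⁻¹ = b := by
  set k := Nat.card ↥(L ⊓ Subgroup.centralizer ({a} : Set G)) *
    Nat.card ↥(L ⊓ Subgroup.centralizer ({b} : Set G)) with hk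
  set n := Nat.card (H a) * Nat.card (H b) with hn
  have hcop : Nat.Coprime k n := by
    rw [hk, hn]
    apply Nat.Coprime.mul_left
    · apply Nat.Coprime.mul_right
      · exact (hD.coprime a ha a ha).symm
      · exact (hD.coprime b hb a ha).symm
    · apply Nat.Coprime.mul_right
      · exact (hD.coprime a ha b hb).symm
      · exact (hD.coprime b hb b hb).symm
  obtain ⟨m, hmk, hmn⟩ := Nat.chineseRemainder hcop 1 0
  have haL : a ∈ L ⊓ Subgroup.centralizer ({a} : Set G) :=
    ⟨hD.subset ha, Subgroup.mem_centralizer_singleton_iff.mpr rfl⟩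
  have hbL : b ∈ L ⊓ Subgroup.centralizer ({b} : Set G) :=
    ⟨hD.subset hb, Subgroup.mem_centralizer_singleton_iff.mpr rfl⟩
  have hak : a ^ k = 1 := by
    apply orderOf_dvd_iff_pow_eq_one.mp
    exact (Subgroup.orderOf_dvd_natCard _ haL).trans (Dvd.intro _ rfl)
  have hbk : b ^ k = 1 := by
    apply orderOf_dvd_iff_pow_eq_one.mp
    exact (Subgroup.orderOf_dvd_natCard _ hbL).trans (Dvd.intro_left _ rfl)
  have hun : u ^ n = 1 := by
    apply orderOf_dvd_iff_pow_eq_one.mp
    exact (Subgroup.orderOf_dvd_natCard _ hu).trans (Dvd.intro _ rfl)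
  have hvn : v ^ n = 1 := by
    apply orderOf_dvd_iff_pow_eq_one.mp
    exact (Subgroup.orderOf_dvd_natCard _ hv).trans (Dvd.intro_left _ rfl)
  have hau : a * u = u * a :=
    (Subgroup.mem_centralizer_singleton_iff.mp (hD.le_centralizer a ha hu)).symm
  have hbv : b * v = v * b :=
    (Subgroup.mem_centralizer_singleton_iff.mp (hD.le_centralizer b hb hv)).symm
  have h1 : (a * u) ^ m = a := mul_pow_eq_left a u hau k n m hak hun hmk hmn
  have h2 : (b * v) ^ m = b := mul_pow_eq_left b v hbv k n m hbk hvn hmk hmn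
  calc g * a * g⁻¹ = g * (a * u) ^ m * g⁻¹ := by rw [h1]
    _ = (g * (a * u) * g⁻¹) ^ m := by rw [conj_pow]
    _ = b := by rw [hg, h2]

theorem result {G : Type*} [Group G] [Finite G] (A : Set G) (L : Subgroup G) (H : G → Subgroup G) (hD : Cfsg.DadeHypothesis A L H) (a b : G) (ha : a ∈ A) (hb : b ∈ A) : ((∃ u ∈ H a, ∃ v ∈ H b, ∃ g : G, g * (a * u) * g⁻¹ = b * v) → ∃ x ∈ L, x * a * x⁻¹ = b) ∧ Subgroup.normalizer ((fun u : G => a * u) '' (H a : Set G)) = Subgroup.centralizer ({a} : Set G) := by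
  constructor
  · rintro ⟨u, hu, v, hv, g, hg⟩
    have h1 := key A L H hD a b ha hb u v g hu hv hg
    obtain ⟨x, hx, hxa⟩ := hD.fusion a ha g (h1 ▸ hb)
    exact ⟨x, hx, hxa.trans h1⟩
  · have hsub : ∀ c ∈ Subgroup.centralizer ({a} : Set G), ∀ y ∈ (fun u : G => a * u) '' (H a : Set G),
        c * y * c⁻¹ ∈ (fun u : G => a * u) '' (H a : Set G) := by
      rintro c hc _ ⟨u, hu, rfl⟩
      refine ⟨c * u * c⁻¹, hD.conj_mem_H a ha c hc u hu, ?_⟩
      have hca : c * a = a * c := Subgroup.mem_centralizer_singleton_iff.mp hc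
      calc a * (c * u * c⁻¹) = (a * c) * u * c⁻¹ := by group
        _ = c * (a * u) * c⁻¹ := by rw [← hca]; group
    apply le_antisymm
    · intro g hg
      have h1 : a ∈ (fun u : G => a * u) '' (H a : Set G) := ⟨1, (H a).one_mem, mul_one a⟩
      obtain ⟨v, hv, hgv⟩ := (Subgroup.mem_set_normalizer_iff.mp hg a).mp h1
      have h2 : g * (a * 1) * g⁻¹ = a * v := by rw [mul_one]; exact hgv.symm
      have h3 := key A L H hD a a ha ha 1 v g (H a).one_mem hv h2
      rw [Subgroup.mem_centralizer_singleton_iff]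
      calc g * a = (g * a * g⁻¹) * g := by group
        _ = a * g := by rw [h3]
    · intro c hc
      rw [Subgroup.mem_set_normalizer_iff]
      intro y
      constructor
      · exact hsub c hc y
      · intro hy
        have := hsub c⁻¹ (Subgroup.inv_mem _ hc) _ hy
        simpa [mul_assoc] using this

end Cfsg.Agent.S1499
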