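import Cfsg.Statements.S1502
import Cfsg.Agent.Lib.Helper29.CTIFinal
import Cfsg.Agent.Lib.Helper11.LinCharDual

set_option autoImplicit false
open Cfsg

namespace Cfsg.Agent.S1502

open Cfsg.Agent.Lib.Helper11 Cfsg.Agent.Lib.helper7 Cfsg.Agent.Lib.Helper29.CTI
open scoped ComplexConjugate

/-- Let W₁, W₂ be nontrivial subgroups of the finite group G generating a cyclic subgroup W = W₁ ⊔ W₂ of odd order that is the normaliser of every nonempty set of its elements outside W₁ ∪ W₂. Then there is a family attaching to each linear character ω of W an irreducible character of G up to sign, orthonormal, sending the trivial character to the principal character, with χ ω = ω on W outside W₁ ∪ W₂, and such that inducing (1 − φ)(1 − ψ) to G gives 1 − χ φ − χ ψ + χ (φψ) whenever φ ≠ 1 is trivial on W₂ and ψ ≠ 1 is trivial on W₁. -/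
theorem result {G : Type*} [Group G] [Fintype G] (W₁ W₂ : Subgroup G) (hW : Cfsg.IsSelfNormalizingCyclic W₁ W₂) (hodd : Odd (Nat.card ↥(W₁ ⊔ W₂))) : ∃ χ : (↥(W₁ ⊔ W₂) →* ℂˣ) → (G → ℂ), Cfsg.IsCyclicTIFamily W₁ W₂ χ := by
  classical
  obtain ⟨η, hsig, horth, h11, hind⟩ := exists_family hW hodd
  obtain ⟨hne1, hne2, hdisjW, -, hcyc, -⟩ := id hW
  have : Fintype ↥(W₁ ⊔ W₂) := Fintype.ofFinite _
  have hcomm : ∀ a b : ↥(W₁ ⊔ W₂), a * b = b * a := by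
    have := @IsCyclic.isMulCommutative _ _ hcyc
    exact mul_comm'
  have hd : W₁.subgroupOf (W₁ ⊔ W₂) ⊓ W₂.subgroupOf (W₁ ⊔ W₂) = ⊥ := by
    rw [eq_bot_iff]
    intro u hu
    have h1 : (u : G) ∈ W₁ ⊓ W₂ := ⟨Subgroup.mem_subgroupOf.mp hu.1, Subgroup.mem_subgroupOf.mp hu.2⟩
    rw [hdisjW, Subgroup.mem_bot] at h1
    rw [Subgroup.mem_bot]
    exact Subtype.ext h1
  have hs : W₁.subgroupOf (W₁ ⊔ W₂) ⊔ W₂.subgroupOf (W₁ ⊔ W₂) = ⊤ := by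
    rw [← Subgroup.subgroupOf_sup le_sup_left le_sup_right, Subgroup.subgroupOf_self]
  have hbij := annih_prod_bijective hcomm (W₁.subgroupOf (W₁ ⊔ W₂)) (W₂.subgroupOf (W₁ ⊔ W₂)) hd hs
  have : Fintype ↥(annih (W₁.subgroupOf (W₁ ⊔ W₂))) := Fintype.ofFinite _
  have : Fintype ↥(annih (W₂.subgroupOf (W₁ ⊔ W₂))) := Fintype.ofFinite _
  set e := Equiv.ofBijective _ hbij with he
  have he_apply : ∀ (φ : ↥(annih (W₂.subgroupOf (W₁ ⊔ W₂))))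
      (ψ : ↥(annih (W₁.subgroupOf (W₁ ⊔ W₂)))),
      e (φ, ψ) = (φ : ↥(W₁ ⊔ W₂) →* ℂˣ) * (ψ : ↥(W₁ ⊔ W₂) →* ℂˣ) :=
    fun φ ψ => rfl
  have hsymm : ∀ (φ : ↥(annih (W₂.subgroupOf (W₁ ⊔ W₂))))
      (ψ : ↥(annih (W₁.subgroupOf (W₁ ⊔ W₂)))),
      e.symm ((φ : ↥(W₁ ⊔ W₂) →* ℂˣ) * (ψ : ↥(W₁ ⊔ W₂) →* ℂˣ)) = (φ, ψ) := by
    intro φ ψ
    rw [Equiv.symm_apply_eq, he_apply]
  have hφtriv : ∀ φ : ↥(annih (W₂.subgroupOf (W₁ ⊔ W₂))), ∀ w : ↥(W₁ ⊔ W₂), (w : G) ∈ W₂ →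
      (φ : ↥(W₁ ⊔ W₂) →* ℂˣ) w = 1 := fun φ w hw => φ.2 w (Subgroup.mem_subgroupOf.mpr hw)
  have hψtriv : ∀ ψ : ↥(annih (W₁.subgroupOf (W₁ ⊔ W₂))), ∀ w : ↥(W₁ ⊔ W₂), (w : G) ∈ W₁ →
      (ψ : ↥(W₁ ⊔ W₂) →* ℂˣ) w = 1 := fun ψ w hw => ψ.2 w (Subgroup.mem_subgroupOf.mpr hw)
  refine ⟨fun ω => η (e.symm ω).1 (e.symm ω).2, ⟨?_, ?_, ?_, ?_, ?_⟩⟩
  · intro ω
    exact hsig _ _
  · intro ω ω'
    show Cfsg.classInner (η (e.symm ω).1 (e.symm ω).2) (η (e.symm ω').1 (e.symm ω').2) = _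
    rw [horth]
    by_cases h : ω = ω'
    · rw [if_pos h, if_pos ⟨by rw [h], by rw [h]⟩]
    · rw [if_neg h, if_neg]
      rintro ⟨h1, h2⟩
      exact h (e.symm.injective (Prod.ext h1 h2))
  · show η (e.symm 1).1 (e.symm 1).2 = _
    have : e.symm 1 = (1, 1) := by
      have := hsymm 1 1
      simpa using this
    rw [this]
    exact h11
  · -- the values on `W` off `W₁ ∪ W₂`
    intro ω₀ w hw₁ hw₂
    show η (e.symm ω₀).1 (e.symm ω₀).2 (w : G) = _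
    set φ₀ := (e.symm ω₀).1 with hφ₀
    set ψ₀ := (e.symm ω₀).2 with hψ₀
    have hω₀ : ω₀ = (φ₀ : ↥(W₁ ⊔ W₂) →* ℂˣ) * (ψ₀ : ↥(W₁ ⊔ W₂) →* ℂˣ) := by
      rw [← he_apply, hφ₀, hψ₀, Prod.mk.eta, Equiv.apply_symm_apply]
    have hθc : Cfsg.IsClassFunction G (η φ₀ ψ₀) := fun g h =>
      genChar_classFunction _ (signedIrr_genChar (hsig φ₀ ψ₀)) g h
    have key : ∀ (φ : ↥(annih (W₂.subgroupOf (W₁ ⊔ W₂)))) (ψ : ↥(annih (W₁.subgroupOf (W₁ ⊔ W₂)))),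
        ∑ u : ↥(W₁ ⊔ W₂), betaFun (φ : ↥(W₁ ⊔ W₂) →* ℂˣ) (ψ : ↥(W₁ ⊔ W₂) →* ℂˣ) u *
          conj (η φ₀ ψ₀ (u : G) - (ω₀ u : ℂ)) = 0 := by
      intro φ ψ
      -- the `G`-side
      have h2 := h7_frobenius_reciprocity (W₁ ⊔ W₂)
        (betaFun (φ : ↥(W₁ ⊔ W₂) →* ℂˣ) (ψ : ↥(W₁ ⊔ W₂) →* ℂˣ)) (η φ₀ ψ₀) hθc
      rw [hind φ ψ, classInner_add_left', classInner_sub_left', classInner_sub_left', horth, horth,
        horth, horth] at h2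
      -- the `W`-side
      have h3 := classInner_linFun_betaFun W₁ W₂ (φ₀ : ↥(W₁ ⊔ W₂) →* ℂˣ) φ ψ₀ ψ (hφtriv φ₀)
        (hφtriv φ) (hψtriv ψ₀) (hψtriv ψ)
      have h4 : Cfsg.classInner (betaFun (φ : ↥(W₁ ⊔ W₂) →* ℂˣ) (ψ : ↥(W₁ ⊔ W₂) →* ℂˣ))
          (linFun ω₀) = Cfsg.classInner (betaFun (φ : ↥(W₁ ⊔ W₂) →* ℂˣ) (ψ : ↥(W₁ ⊔ W₂) →* ℂˣ))
            (fun h : ↥(W₁ ⊔ W₂) => η φ₀ ψ₀ h) := by
        rw [← h2, Cfsg.Agent.Lib.Helper11.classInner_conj_symm, hω₀, h3]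
        have c1 : ((φ₀ : ↥(W₁ ⊔ W₂) →* ℂˣ) = 1) ↔ (1 : ↥(annih (W₂.subgroupOf (W₁ ⊔ W₂)))) = φ₀ :=
          ⟨fun h => Subtype.ext h.symm, fun h => by rw [← h]; rfl⟩
        have c2 : ((ψ₀ : ↥(W₁ ⊔ W₂) →* ℂˣ) = 1) ↔ (1 : ↥(annih (W₁.subgroupOf (W₁ ⊔ W₂)))) = ψ₀ :=
          ⟨fun h => Subtype.ext h.symm, fun h => by rw [← h]; rfl⟩
        have c3 : ((φ₀ : ↥(W₁ ⊔ W₂) →* ℂˣ) = φ) ↔ φ = φ₀ :=
          ⟨fun h => Subtype.ext h.symm, fun h => by rw [h]⟩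
        have c4 : ((ψ₀ : ↥(W₁ ⊔ W₂) →* ℂˣ) = ψ) ↔ ψ = ψ₀ :=
          ⟨fun h => Subtype.ext h.symm, fun h => by rw [h]⟩
        by_cases a1 : (1 : ↥(annih (W₂.subgroupOf (W₁ ⊔ W₂)))) = φ₀ <;>
          by_cases a2 : (1 : ↥(annih (W₁.subgroupOf (W₁ ⊔ W₂)))) = ψ₀ <;>
          by_cases a3 : φ = φ₀ <;> by_cases a4 : ψ = ψ₀ <;>
          simp [a1, a2, a3, a4, c1, c2, c3, c4]
      have h5 : Cfsg.classInner (betaFun (φ : ↥(W₁ ⊔ W₂) →* ℂˣ) (ψ : ↥(W₁ ⊔ W₂) →* ℂˣ))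
          ((fun h : ↥(W₁ ⊔ W₂) => η φ₀ ψ₀ h) - linFun ω₀) = 0 := by
        rw [classInner_sub_right', h4, sub_self]
      unfold Cfsg.classInner at h5
      have hne : ((Nat.card ↥(W₁ ⊔ W₂) : ℂ))⁻¹ ≠ 0 := by
        apply inv_ne_zero
        exact_mod_cast Nat.card_pos.ne'
      rcases mul_eq_zero.mp h5 with h | h
      · exact absurd h hne
      · exact h
    have hsum : ∑ u : ↥(W₁ ⊔ W₂),
        (∑ φ : ↥(annih (W₂.subgroupOf (W₁ ⊔ W₂))), ∑ ψ : ↥(annih (W₁.subgroupOf (W₁ ⊔ W₂))),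
          (conj (((φ : ↥(W₁ ⊔ W₂) →* ℂˣ) w : ℂˣ) : ℂ) * conj (((ψ : ↥(W₁ ⊔ W₂) →* ℂˣ) w : ℂˣ) : ℂ)) *
            betaFun (φ : ↥(W₁ ⊔ W₂) →* ℂˣ) (ψ : ↥(W₁ ⊔ W₂) →* ℂˣ) u) *
              conj (η φ₀ ψ₀ (u : G) - (ω₀ u : ℂ)) = 0 := by
      simp only [Finset.sum_mul]
      rw [Finset.sum_comm]
      apply Finset.sum_eq_zero
      intro φ _
      rw [Finset.sum_comm]
      apply Finset.sum_eq_zero
      intro ψ _
      have := key φ ψ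
      simp only [mul_assoc]
      rw [← Finset.mul_sum, ← Finset.mul_sum, this, mul_zero, mul_zero]
    have hw₁' : w ∉ W₁.subgroupOf (W₁ ⊔ W₂) := fun h => hw₁ (Subgroup.mem_subgroupOf.mp h)
    have hw₂' : w ∉ W₂.subgroupOf (W₁ ⊔ W₂) := fun h => hw₂ (Subgroup.mem_subgroupOf.mp h)
    simp only [sum_conj_betaFun hcomm _ _ hd w _ hw₁' hw₂'] at hsum
    simp only [ite_mul, zero_mul, Finset.sum_ite_eq', Finset.mem_univ, if_true] at hsum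
    have hc1 : (Fintype.card ↥(annih (W₂.subgroupOf (W₁ ⊔ W₂))) : ℂ) ≠ 0 := by
      exact_mod_cast Fintype.card_ne_zero
    have hc2 : (Fintype.card ↥(annih (W₁.subgroupOf (W₁ ⊔ W₂))) : ℂ) ≠ 0 := by
      exact_mod_cast Fintype.card_ne_zero
    rcases mul_eq_zero.mp hsum with h | h
    · rcases mul_eq_zero.mp h with h | h
      · exact absurd h hc1
      · exact absurd h hc2
    · have h' : η φ₀ ψ₀ (w : G) - (ω₀ w : ℂ) = 0 := by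
        have h2 := congrArg (starRingEnd ℂ) h
        rw [Complex.conj_conj, map_zero] at h2
        exact h2
      exact sub_eq_zero.mp h'
  · -- the induction identity
    intro φ ψ hφ1 hψ1 hφ hψ
    have hφm : φ ∈ annih (W₂.subgroupOf (W₁ ⊔ W₂)) :=
      fun y hy => hφ y (Subgroup.mem_subgroupOf.mp hy)
    have hψm : ψ ∈ annih (W₁.subgroupOf (W₁ ⊔ W₂)) :=
      fun y hy => hψ y (Subgroup.mem_subgroupOf.mp hy)
    set φs : ↥(annih (W₂.subgroupOf (W₁ ⊔ W₂))) := ⟨φ, hφm⟩ with hφs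
    set ψs : ↥(annih (W₁.subgroupOf (W₁ ⊔ W₂))) := ⟨ψ, hψm⟩ with hψs
    have e1 : e.symm φ = (φs, 1) := by
      have := hsymm φs 1
      simpa [hφs] using this
    have e2 : e.symm ψ = (1, ψs) := by
      have := hsymm 1 ψs
      simpa [hψs] using this
    have e3 : e.symm (φ * ψ) = (φs, ψs) := hsymm φs ψs
    have := hind φs ψs
    change Cfsg.indFun (W₁ ⊔ W₂) (betaFun φ ψ) = _
    rw [this, h11]
    funext g
    simp only [e1, e2, e3, Pi.sub_apply, Pi.add_apply]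

end Cfsg.Agent.S1502
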