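import Cfsg.Statements.S1503
import Mathlib
import Cfsg.Agent.Lib.Helper11.LinCharDual
import Cfsg.Agent.Lib.Helper25.CharOrth

set_option autoImplicit false
open Cfsg

namespace Cfsg.Agent.S1503

open Cfsg.Agent.Lib.Helper11 Cfsg.Agent.Lib.helper7 Cfsg.Agent.Lib.Helper25
open scoped ComplexConjugate

/-- Let W₁, W₂ ≤ G with W = W₁ ⊔ W₂ and let χ an orthonormal family of irreducible characters of G up to sign, indexed by the linear characters ω of W, with χ_1 = 1, χ_ω = ω on W outside W₁ ∪ W₂, and the induction identity for (1 − φ)(1 − ψ). If θ is an irreducible character of G orthogonal to χ ω for every linear character ω of W, then θ vanishes at every element of W lying outside W₁ ∪ W₂. -/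
theorem result {G : Type*} [Group G] [Fintype G] (W₁ W₂ : Subgroup G) (hW : Cfsg.IsSelfNormalizingCyclic W₁ W₂) (χ : (↥(W₁ ⊔ W₂) →* ℂˣ) → (G → ℂ)) (hχ : Cfsg.IsCyclicTIFamily W₁ W₂ χ) (θ : G → ℂ) (hθ : Cfsg.IsIrrCharacter G θ) (horth : ∀ ω, Cfsg.classInner θ (χ ω) = 0) (w : ↥(W₁ ⊔ W₂)) (hw₁ : (w : G) ∉ W₁) (hw₂ : (w : G) ∉ W₂) : θ w = 0 := by
  classical
  have : Fintype ↥(W₁ ⊔ W₂) := Fintype.ofFinite _
  have hcyc := hW.2.2.2.2.1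
  have hcomm : ∀ a b : ↥(W₁ ⊔ W₂), a * b = b * a := by
    have := @IsCyclic.isMulCommutative _ _ hcyc
    exact mul_comm'
  have hdisj : W₁.subgroupOf (W₁ ⊔ W₂) ⊓ W₂.subgroupOf (W₁ ⊔ W₂) = ⊥ := by
    rw [eq_bot_iff]
    intro x hx
    have h1 : (x : G) ∈ W₁ ⊓ W₂ := ⟨Subgroup.mem_subgroupOf.mp hx.1, Subgroup.mem_subgroupOf.mp hx.2⟩
    rw [hW.2.2.1, Subgroup.mem_bot] at h1
    rw [Subgroup.mem_bot]
    exact Subtype.ext h1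
  have : Fintype ↥(annih (W₁.subgroupOf (W₁ ⊔ W₂))) := Fintype.ofFinite _
  have : Fintype ↥(annih (W₂.subgroupOf (W₁ ⊔ W₂))) := Fintype.ofFinite _
  have hθc : Cfsg.IsClassFunction G θ := fun g h => irr_conj_invariant ⟨θ, hθ⟩ g h
  have horth' : ∀ ω, Cfsg.classInner (χ ω) θ = 0 := by
    intro ω
    rw [classInner_conj_symm, horth, map_zero]
  have key : ∀ (φ : ↥(annih (W₂.subgroupOf (W₁ ⊔ W₂)))) (ψ : ↥(annih (W₁.subgroupOf (W₁ ⊔ W₂)))),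
      ∑ u : ↥(W₁ ⊔ W₂), betaFun (φ : ↥(W₁ ⊔ W₂) →* ℂˣ) (ψ : ↥(W₁ ⊔ W₂) →* ℂˣ) u * conj (θ u) = 0 := by
    intro φ ψ
    have hφ : ∀ w : ↥(W₁ ⊔ W₂), (w : G) ∈ W₂ → (φ : ↥(W₁ ⊔ W₂) →* ℂˣ) w = 1 :=
      fun w hw => φ.2 w (Subgroup.mem_subgroupOf.mpr hw)
    have hψ : ∀ w : ↥(W₁ ⊔ W₂), (w : G) ∈ W₁ → (ψ : ↥(W₁ ⊔ W₂) →* ℂˣ) w = 1 :=
      fun w hw => ψ.2 w (Subgroup.mem_subgroupOf.mpr hw)
    have h1 := ind_betaFun W₁ W₂ χ hχ φ ψ hφ hψ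
    have h2 := h7_frobenius_reciprocity (W₁ ⊔ W₂)
      (betaFun (φ : ↥(W₁ ⊔ W₂) →* ℂˣ) (ψ : ↥(W₁ ⊔ W₂) →* ℂˣ)) θ hθc
    rw [h1] at h2
    have h3 : Cfsg.classInner (fun g => 1 - χ φ g - χ ψ g + χ ((φ : ↥(W₁ ⊔ W₂) →* ℂˣ) * ψ) g) θ = 0 := by
      have e : (fun g => 1 - χ φ g - χ ψ g + χ ((φ : ↥(W₁ ⊔ W₂) →* ℂˣ) * ψ) g) =
          χ 1 - χ φ - χ ψ + χ ((φ : ↥(W₁ ⊔ W₂) →* ℂˣ) * ψ) := by
        funext g
        rw [hχ.map_one]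
        simp
      rw [e, classInner_add_left', classInner_sub_left', classInner_sub_left', horth', horth',
        horth', horth']
      simp
    rw [h3] at h2
    unfold Cfsg.classInner at h2
    have hne : ((Nat.card ↥(W₁ ⊔ W₂) : ℂ))⁻¹ ≠ 0 := by
      apply inv_ne_zero
      exact_mod_cast Nat.card_pos.ne'
    rcases mul_eq_zero.mp h2.symm with h | h
    · exact absurd h hne
    · exact h
  have hsum : ∑ u : ↥(W₁ ⊔ W₂),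
      (∑ φ : ↥(annih (W₂.subgroupOf (W₁ ⊔ W₂))), ∑ ψ : ↥(annih (W₁.subgroupOf (W₁ ⊔ W₂))),
        (conj (((φ : ↥(W₁ ⊔ W₂) →* ℂˣ) w : ℂˣ) : ℂ) * conj (((ψ : ↥(W₁ ⊔ W₂) →* ℂˣ) w : ℂˣ) : ℂ)) *
          betaFun (φ : ↥(W₁ ⊔ W₂) →* ℂˣ) (ψ : ↥(W₁ ⊔ W₂) →* ℂˣ) u) * conj (θ u) = 0 := by
    simp only [Finset.sum_mul]
    rw [Finset.sum_comm]
    apply Finset.sum_eq_zero
    intro φ _
    rw [Finset.sum_comm]
    apply Finset.sum_eq_zero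
    intro ψ _
    have := key φ ψ
    simp only [mul_assoc]
    rw [← Finset.mul_sum, ← Finset.mul_sum, this, mul_zero, mul_zero]
  have hw₁' : w ∉ W₁.subgroupOf (W₁ ⊔ W₂) := fun h => hw₁ (Subgroup.mem_subgroupOf.mp h)
  have hw₂' : w ∉ W₂.subgroupOf (W₁ ⊔ W₂) := fun h => hw₂ (Subgroup.mem_subgroupOf.mp h)
  simp only [sum_conj_betaFun hcomm _ _ hdisj w _ hw₁' hw₂'] at hsum
  simp only [ite_mul, zero_mul, Finset.sum_ite_eq', Finset.mem_univ, if_true] at hsum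
  have hc1 : (Fintype.card ↥(annih (W₂.subgroupOf (W₁ ⊔ W₂))) : ℂ) ≠ 0 := by
    exact_mod_cast Fintype.card_ne_zero
  have hc2 : (Fintype.card ↥(annih (W₁.subgroupOf (W₁ ⊔ W₂))) : ℂ) ≠ 0 := by
    exact_mod_cast Fintype.card_ne_zero
  rcases mul_eq_zero.mp hsum with h | h
  · rcases mul_eq_zero.mp h with h | h
    · exact absurd h hc1
    · exact absurd h hc2
  · simpa using h

end Cfsg.Agent.S1503
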