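import Mathlib
import Cfsg.Statements.S1504
import Cfsg.Agent.Lib.Helper11.LinChar

set_option autoImplicit false
open Cfsg

namespace Cfsg.Agent.S1504

open Cfsg.Agent.Lib.Helper11

/-- Let W₁, W₂ be subgroups of a finite group with W₁ ⊓ W₂ = ⊥ whose elements commute, and W = W₁ ⊔ W₂. For linear characters φ, ψ of W with φ trivial on W₂ and ψ trivial on W₁, the function (1 − φ)(1 − ψ) vanishes on W₁ ∪ W₂; and the family of these functions, indexed by pairs (φ, ψ) with φ ≠ 1 ≠ ψ, is linearly independent over ℂ. -/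
theorem result {G : Type*} [Group G] [Finite G] (W₁ W₂ : Subgroup G) (hdisj : W₁ ⊓ W₂ = ⊥) (hcomm : ∀ a ∈ W₁, ∀ b ∈ W₂, a * b = b * a) : (∀ φ ψ : ↥(W₁ ⊔ W₂) →* ℂˣ, (∀ w : ↥(W₁ ⊔ W₂), (w : G) ∈ W₂ → φ w = 1) → (∀ w : ↥(W₁ ⊔ W₂), (w : G) ∈ W₁ → ψ w = 1) → ∀ w : ↥(W₁ ⊔ W₂), ((w : G) ∈ W₁ ∨ (w : G) ∈ W₂) → (1 - (φ w : ℂ) - (ψ w : ℂ) + (φ w : ℂ) * (ψ w : ℂ)) = 0) ∧ LinearIndependent ℂ (fun p : {p : (↥(W₁ ⊔ W₂) →* ℂˣ) × (↥(W₁ ⊔ W₂) →* ℂˣ) // p.1 ≠ 1 ∧ p.2 ≠ 1 ∧ (∀ w : ↥(W₁ ⊔ W₂), (w : G) ∈ W₂ → p.1 w = 1) ∧ (∀ w : ↥(W₁ ⊔ W₂), (w : G) ∈ W₁ → p.2 w = 1)} => fun w : ↥(W₁ ⊔ W₂) => 1 - (p.1.1 w : ℂ) - (p.1.2 w : ℂ) + (p.1.1 w : ℂ) * (p.1.2 w : ℂ)) := by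
  classical
  haveI : Fintype G := Fintype.ofFinite _
  haveI : Fintype ↥(W₁ ⊔ W₂) := Fintype.ofFinite _
  refine ⟨?_, ?_⟩
  · intro φ ψ hφ hψ w hw
    rcases hw with hw | hw
    · rw [hψ w hw]; simp
    · rw [hφ w hw]; simp
  · rw [linearIndependent_iff']
    intro s g hsum i hi
    have h0 : Cfsg.classInner (∑ j ∈ s, g j • (fun w : ↥(W₁ ⊔ W₂) => 1 - (j.1.1 w : ℂ) - (j.1.2 w : ℂ) + (j.1.1 w : ℂ) * (j.1.2 w : ℂ))) (linFun (i.1.1 * i.1.2)) = 0 := by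
      rw [hsum]
      simp [Cfsg.classInner]
    rw [classInner_sum_left'] at h0
    have h1 : ∀ j ∈ s, Cfsg.classInner (g j • (fun w : ↥(W₁ ⊔ W₂) => 1 - (j.1.1 w : ℂ) - (j.1.2 w : ℂ) + (j.1.1 w : ℂ) * (j.1.2 w : ℂ))) (linFun (i.1.1 * i.1.2)) = if j = i then g i else 0 := by
      intro j _
      rw [classInner_smul_left']
      have := classInner_betaFun_linFun W₁ W₂ j.1.1 i.1.1 j.1.2 i.1.2 j.2.2.2.1 i.2.2.2.1 j.2.2.2.2 i.2.2.2.2 i.2.1 i.2.2.1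
      unfold betaFun at this
      rw [this]
      by_cases hji : j = i
      · subst hji
        simp
      · rw [if_neg hji]
        by_cases e1 : j.1.1 = i.1.1
        · by_cases e2 : j.1.2 = i.1.2
          · exact absurd (Subtype.ext (Prod.ext e1 e2)) hji
          · rw [if_neg e2]; simp
        · rw [if_neg e1]; simp
    rw [Finset.sum_congr rfl h1, Finset.sum_ite_eq' s i, if_pos hi] at h0
    exact h0

end Cfsg.Agent.S1504
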