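import Cfsg.Statements.S1507
import Mathlib
import Cfsg.Agent.Lib.Helper11.CyclicDual
import Cfsg.Agent.Lib.Helper11.FewNonzero
import Cfsg.Agent.S1506

set_option autoImplicit false
open Cfsg

namespace Cfsg.Agent.S1507

open Cfsg.Agent.Lib.Helper11
open scoped ComplexConjugate

open Classical in
/-- Let W₁, W₂ ≤ G form a self-normalising cyclic subgroup W = W₁ ⊔ W₂ of odd order with Nat.card W₁ < Nat.card W₂, and χ an orthonormal family of irreducible characters of G up to sign, indexed by the linear characters ω of W, with χ_1 = 1, χ_ω = ω on W outside W₁ ∪ W₂, and the induction identity for (1 − φ)(1 − ψ). Let θ be a class function of G vanishing on W outside W₁ ∪ W₂, and suppose fewer than 2 · Nat.card W₁ linear characters ω of W have ⟨θ, χ ω⟩ ≠ 0. Then one of: all ⟨θ, χ ω⟩ vanish; or there are ψ₀ and a with ⟨θ, χ ω⟩ = a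 when ω ψ₀⁻¹ is trivial on W₂ and 0 otherwise; or there are φ₀ and a with ⟨θ, χ ω⟩ = a when ω φ₀⁻¹ is trivial on W₁ and 0 otherwise. -/
theorem result {G : Type*} [Group G] [Fintype G] (W₁ W₂ : Subgroup G) (hW : Cfsg.IsSelfNormalizingCyclic W₁ W₂) (hodd : Odd (Nat.card ↥(W₁ ⊔ W₂))) (χ : (↥(W₁ ⊔ W₂) →* ℂˣ) → (G → ℂ)) (hχ : Cfsg.IsCyclicTIFamily W₁ W₂ χ) (hlt : Nat.card W₁ < Nat.card W₂) (θ : G → ℂ) (hθ : Cfsg.IsClassFunction G θ) (hθV : ∀ w : ↥(W₁ ⊔ W₂), (w : G) ∉ W₁ → (w : G) ∉ W₂ → θ w = 0) (hfew : Nat.card {ω : ↥(W₁ ⊔ W₂) →* ℂˣ // Cfsg.classInner θ (χ ω) ≠ 0} < 2 * Nat.card W₁) : (∀ ω, Cfsg.classInner θ (χ ω) = 0) ∨ (∃ (ψ₀ : ↥(W₁ ⊔ W₂) →* ℂˣ) (a : ℂ), ∀ ω, Cfsg.classInner θ (χ ω) = if (∀ w : ↥(W₁ ⊔ W₂), (w : G) ∈ W₂ → (ω * ψ₀⁻¹) w = 1) then a else 0) ∨ (∃ (φ₀ : ↥(W₁ ⊔ W₂) →* ℂˣ) (a : ℂ), ∀ ω, Cfsg.classInner θ (χ ω) = if (∀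 w : ↥(W₁ ⊔ W₂), (w : G) ∈ W₁ → (ω * φ₀⁻¹) w = 1) then a else 0) := by
  classical
  obtain ⟨hne1, hne2, hdisjW, -, hcyc, -⟩ := hW
  have hcomm : ∀ a b : ↥(W₁ ⊔ W₂), a * b = b * a := by
    have := @IsCyclic.isMulCommutative _ _ hcyc
    exact mul_comm'
  set H₁ := W₁.subgroupOf (W₁ ⊔ W₂) with hH₁
  set H₂ := W₂.subgroupOf (W₁ ⊔ W₂) with hH₂
  have hd : H₁ ⊓ H₂ = ⊥ := by
    rw [eq_bot_iff]
    intro x hx
    have h1 : (x : G) ∈ W₁ ⊓ W₂ := ⟨Subgroup.mem_subgroupOf.mp hx.1, Subgroup.mem_subgroupOf.mp hx.2⟩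
    rw [hdisjW, Subgroup.mem_bot] at h1
    rw [Subgroup.mem_bot]
    exact Subtype.ext h1
  have hs : H₁ ⊔ H₂ = ⊤ := by
    rw [hH₁, hH₂, ← Subgroup.subgroupOf_sup le_sup_left le_sup_right, Subgroup.subgroupOf_self]
  have hbij := annih_prod_bijective hcomm H₁ H₂ hd hs
  obtain ⟨hcΦ, hcΨ⟩ := card_annih_eq hcomm H₁ H₂ hd hs
  have hcH₁ : Nat.card H₁ = Nat.card W₁ :=
    Nat.card_congr (Subgroup.subgroupOfEquivOfLe le_sup_left).toEquiv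
  have hcH₂ : Nat.card H₂ = Nat.card W₂ :=
    Nat.card_congr (Subgroup.subgroupOfEquivOfLe le_sup_right).toEquiv
  have : Fintype ↥(annih H₂) := Fintype.ofFinite _
  have : Fintype ↥(annih H₁) := Fintype.ofFinite _
  -- parity and sizes
  have hodd1 : Odd (Nat.card W₁) :=
    Odd.of_dvd_nat hodd (Subgroup.card_dvd_of_le (le_sup_left : W₁ ≤ W₁ ⊔ W₂))
  have hodd2 : Odd (Nat.card W₂) :=
    Odd.of_dvd_nat hodd (Subgroup.card_dvd_of_le (le_sup_right : W₂ ≤ W₁ ⊔ W₂))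
  have hW₁2 : 2 ≤ Nat.card W₁ := by
    have h1 : Nat.card W₁ ≠ 1 := fun h => hne1 (Subgroup.card_eq_one.mp h)
    have h0 : 0 < Nat.card W₁ := Nat.card_pos
    omega
  have hn₁ : 3 ≤ Nat.card W₁ := by
    obtain ⟨k, hk⟩ := hodd1
    omega
  have hn : Nat.card W₁ + 2 ≤ Nat.card W₂ := by
    obtain ⟨k, hk⟩ := hodd1
    obtain ⟨l, hl⟩ := hodd2
    omega
  -- the coefficient function
  set a : (↥(W₁ ⊔ W₂) →* ℂˣ) → ℂ := fun ω => Cfsg.classInner θ (χ ω) with ha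
  have hkey : ∀ (φ : ↥(annih H₂)) (ψ : ↥(annih H₁)),
      a ((φ : ↥(W₁ ⊔ W₂) →* ℂˣ) * (ψ : ↥(W₁ ⊔ W₂) →* ℂˣ)) =
        a (φ : ↥(W₁ ⊔ W₂) →* ℂˣ) + (a (ψ : ↥(W₁ ⊔ W₂) →* ℂˣ) - a 1) := by
    intro φ ψ
    have hφ : ∀ w : ↥(W₁ ⊔ W₂), (w : G) ∈ W₂ → (φ : ↥(W₁ ⊔ W₂) →* ℂˣ) w = 1 :=
      fun w hw => φ.2 w (Subgroup.mem_subgroupOf.mpr hw)
    have hψ : ∀ w : ↥(W₁ ⊔ W₂), (w : G) ∈ W₁ → (ψ : ↥(W₁ ⊔ W₂) →* ℂˣ) w = 1 :=
      fun w hw => ψ.2 w (Subgroup.mem_subgroupOf.mpr hw)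
    have := Cfsg.Agent.S1506.key W₁ W₂ χ hχ θ hθ hθV φ ψ hφ hψ
    rw [← hχ.map_one] at this
    simp only [ha]
    linear_combination this
  set u : ↥(annih H₂) → ℂ := fun φ => a (φ : ↥(W₁ ⊔ W₂) →* ℂˣ) with hu
  set v : ↥(annih H₁) → ℂ := fun ψ => a (ψ : ↥(W₁ ⊔ W₂) →* ℂˣ) - a 1 with hv
  -- the count
  have hcount : (Finset.univ.filter (fun p : ↥(annih H₂) × ↥(annih H₁) => u p.1 + v p.2 ≠ 0)).card
      < 2 * Nat.card W₁ := by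
    have e : Nat.card {ω : ↥(W₁ ⊔ W₂) →* ℂˣ // Cfsg.classInner θ (χ ω) ≠ 0} =
        (Finset.univ.filter (fun p : ↥(annih H₂) × ↥(annih H₁) => u p.1 + v p.2 ≠ 0)).card := by
      rw [← Fintype.card_subtype, ← Nat.card_eq_fintype_card]
      apply Nat.card_congr
      symm
      refine (Equiv.ofBijective _ hbij).subtypeEquiv ?_
      intro p
      show u p.1 + v p.2 ≠ 0 ↔ a ((p.1 : ↥(W₁ ⊔ W₂) →* ℂˣ) * (p.2 : ↥(W₁ ⊔ W₂) →* ℂˣ)) ≠ 0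
      rw [hkey p.1 p.2]
    rw [← e]
    exact hfew
  have hmain := few_nonzero u v (Nat.card W₁) (Nat.card W₂)
    (by rw [← Nat.card_eq_fintype_card, hcΦ, hcH₁]) (by rw [← Nat.card_eq_fintype_card, hcΨ, hcH₂])
    hn₁ hn hcount
  -- every ω is a product
  have hsurj : ∀ ω : ↥(W₁ ⊔ W₂) →* ℂˣ, ∃ (φ : ↥(annih H₂)) (ψ : ↥(annih H₁)),
      ω = (φ : ↥(W₁ ⊔ W₂) →* ℂˣ) * (ψ : ↥(W₁ ⊔ W₂) →* ℂˣ) := by
    intro ω
    obtain ⟨p, hp⟩ := hbij.2 ω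
    exact ⟨p.1, p.2, hp.symm⟩
  rcases hmain with h0 | ⟨ψ₀, c, hc⟩ | ⟨φ₀, c, hc⟩
  · left
    intro ω
    obtain ⟨φ, ψ, rfl⟩ := hsurj ω
    show a _ = 0
    rw [hkey φ ψ]
    exact h0 φ ψ
  · right; left
    refine ⟨(ψ₀ : ↥(W₁ ⊔ W₂) →* ℂˣ), c, ?_⟩
    intro ω
    obtain ⟨φ, ψ, rfl⟩ := hsurj ω
    show a _ = _
    rw [hkey φ ψ]
    have := hc φ ψ
    simp only [hu, hv] at this
    rw [this]
    have hiff : ψ = ψ₀ ↔ (∀ w : ↥(W₁ ⊔ W₂), (w : G) ∈ W₂ →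
        ((φ : ↥(W₁ ⊔ W₂) →* ℂˣ) * (ψ : ↥(W₁ ⊔ W₂) →* ℂˣ) * (ψ₀ : ↥(W₁ ⊔ W₂) →* ℂˣ)⁻¹) w = 1) := by
      constructor
      · rintro rfl w hw
        rw [MonoidHom.mul_apply, MonoidHom.mul_apply, MonoidHom.inv_apply, mul_inv_cancel_right]
        exact φ.2 w (Subgroup.mem_subgroupOf.mpr hw)
      · intro h
        have h1 : (ψ : ↥(W₁ ⊔ W₂) →* ℂˣ) * (ψ₀ : ↥(W₁ ⊔ W₂) →* ℂˣ)⁻¹ ∈ annih H₂ := by
          intro y hy
          have := h y (Subgroup.mem_subgroupOf.mp hy)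
          rw [MonoidHom.mul_apply, MonoidHom.mul_apply, MonoidHom.inv_apply, φ.2 y hy, one_mul] at this
          rw [MonoidHom.mul_apply, MonoidHom.inv_apply]
          exact this
        have h2 : (ψ : ↥(W₁ ⊔ W₂) →* ℂˣ) * (ψ₀ : ↥(W₁ ⊔ W₂) →* ℂˣ)⁻¹ ∈ annih H₁ :=
          (annih H₁).mul_mem ψ.2 ((annih H₁).inv_mem ψ₀.2)
        have h3 := eq_one_of_mem_annih_both H₁ H₂ hs _ h2 h1
        apply Subtype.ext
        ext w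
        have := DFunLike.congr_fun h3 w
        rw [MonoidHom.mul_apply, MonoidHom.inv_apply, MonoidHom.one_apply, mul_inv_eq_one] at this
        rw [this]
    by_cases hψ : ψ = ψ₀
    · rw [if_pos hψ, if_pos (hiff.mp hψ)]
    · rw [if_neg hψ, if_neg (fun h => hψ (hiff.mpr h))]
  · right; right
    refine ⟨(φ₀ : ↥(W₁ ⊔ W₂) →* ℂˣ), c, ?_⟩
    intro ω
    obtain ⟨φ, ψ, rfl⟩ := hsurj ω
    show a _ = _
    rw [hkey φ ψ]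
    have := hc φ ψ
    simp only [hu, hv] at this
    rw [this]
    have hiff : φ = φ₀ ↔ (∀ w : ↥(W₁ ⊔ W₂), (w : G) ∈ W₁ →
        ((φ : ↥(W₁ ⊔ W₂) →* ℂˣ) * (ψ : ↥(W₁ ⊔ W₂) →* ℂˣ) * (φ₀ : ↥(W₁ ⊔ W₂) →* ℂˣ)⁻¹) w = 1) := by
      constructor
      · rintro rfl w hw
        rw [MonoidHom.mul_apply, MonoidHom.mul_apply, MonoidHom.inv_apply,
          ψ.2 w (Subgroup.mem_subgroupOf.mpr hw), mul_one, mul_inv_cancel]
      · intro h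
        have h1 : (φ : ↥(W₁ ⊔ W₂) →* ℂˣ) * (φ₀ : ↥(W₁ ⊔ W₂) →* ℂˣ)⁻¹ ∈ annih H₁ := by
          intro y hy
          have := h y (Subgroup.mem_subgroupOf.mp hy)
          rw [MonoidHom.mul_apply, MonoidHom.mul_apply, MonoidHom.inv_apply, ψ.2 y hy, mul_one] at this
          rw [MonoidHom.mul_apply, MonoidHom.inv_apply]
          exact this
        have h2 : (φ : ↥(W₁ ⊔ W₂) →* ℂˣ) * (φ₀ : ↥(W₁ ⊔ W₂) →* ℂˣ)⁻¹ ∈ annih H₂ :=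
          (annih H₂).mul_mem φ.2 ((annih H₂).inv_mem φ₀.2)
        have h3 := eq_one_of_mem_annih_both H₁ H₂ hs _ h1 h2
        apply Subtype.ext
        ext w
        have := DFunLike.congr_fun h3 w
        rw [MonoidHom.mul_apply, MonoidHom.inv_apply, MonoidHom.one_apply, mul_inv_eq_one] at this
        rw [this]
    by_cases hφ : φ = φ₀
    · rw [if_pos hφ, if_pos (hiff.mp hφ)]
    · rw [if_neg hφ, if_neg (fun h => hφ (hiff.mpr h))]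

end Cfsg.Agent.S1507
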