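import Cfsg.Statements.S1508
import Cfsg.Agent.Lib.Helper11.CyclicTIGalois

set_option autoImplicit false
open Cfsg

namespace Cfsg.Agent.S1508

/-- Let W₁, W₂ ≤ G form a self-normalising cyclic subgroup W = W₁ ⊔ W₂ of odd order and χ an orthonormal family of irreducible characters of G up to sign, indexed by the linear characters ω of W, with χ_1 = 1, χ_ω = ω on W outside W₁ ∪ W₂, and the induction identity for (1 − φ)(1 − ψ). Let ω be a linear character of W and g an element of G whose order is coprime to the order of ω. Then χ ω g is an integer. -/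
theorem result {G : Type*} [Group G] [Fintype G] (W₁ W₂ : Subgroup G) (hW : Cfsg.IsSelfNormalizingCyclic W₁ W₂) (hodd : Odd (Nat.card ↥(W₁ ⊔ W₂))) (χ : (↥(W₁ ⊔ W₂) →* ℂˣ) → (G → ℂ)) (hχ : Cfsg.IsCyclicTIFamily W₁ W₂ χ) (ω : ↥(W₁ ⊔ W₂) →* ℂˣ) (g : G) (hg : Nat.Coprime (orderOf g) (orderOf ω)) : ∃ n : ℤ, χ ω g = n := by
  classical
  open Cfsg.Agent.Lib.Helper11 in
  set N := Nat.card G with hNdef
  have hNpos : 0 < N := Nat.card_pos
  -- orders divide N
  have hωN : ∀ w : ↥(W₁ ⊔ W₂), ((ω w : ℂˣ) : ℂ) ^ N = 1 := by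
    intro w
    have h1 : w ^ N = 1 := by
      apply Subtype.ext
      rw [Subgroup.coe_pow, Subgroup.coe_one]
      exact pow_card_eq_one'
    rw [← Units.val_pow_eq_pow_val, ← map_pow, h1, map_one, Units.val_one]
  have haN : orderOf ω ∣ N := by
    apply orderOf_dvd_of_pow_eq_one
    ext w
    rw [MonoidHom.pow_apply, MonoidHom.one_apply, Units.val_pow_eq_pow_val, hωN w, Units.val_one]
  have hnN : orderOf g ∣ N := orderOf_dvd_natCard g
  -- expansion of the underlying irreducible character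
  obtain ⟨ε, θ, hθ, hε, hχθ⟩ : ∃ (ε : ℤ) (θ : G → ℂ), Cfsg.IsIrrCharacter G θ ∧ (ε = 1 ∨ ε = -1) ∧
      χ ω = fun x => (ε : ℂ) * θ x := by
    rcases hχ.irr_or_neg ω with h | h
    · exact ⟨1, χ ω, h, Or.inl rfl, by funext x; simp⟩
    · refine ⟨-1, -χ ω, h, Or.inr rfl, ?_⟩
      funext x; simp
  have hθc : Cfsg.IsCharacter G θ := by
    obtain ⟨n, ρ, -, h⟩ := hθ
    exact ⟨n, ρ, h⟩
  obtain ⟨s, c, hs, hk⟩ := Cfsg.Agent.Lib.Helper24.gn_char_pow_expansion hθc g
  have hval : ∀ k : ℕ, χ ω (g ^ k) = ∑ z ∈ s, (((ε * (c z : ℤ) : ℤ)) : ℂ) * z ^ k := by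
    intro k
    rw [hχθ]
    simp only
    rw [hk k, Finset.mul_sum]
    refine Finset.sum_congr rfl fun z _ => ?_
    push_cast
    ring
  -- Galois invariance
  have hfix : ∀ m : ℕ, Nat.Coprime m N → χ ω (g ^ m) = χ ω g := by
    intro m hm
    have hmn : Nat.Coprime m (orderOf g) := Nat.Coprime.coprime_dvd_right hnN hm
    obtain ⟨m₁, hm₁N, hm₁n, hm₁a⟩ :=
      Cfsg.Agent.Lib.Helper11.exists_coprime_lift N (orderOf g) (orderOf ω) m hNpos hnN haN hg hmn
    obtain ⟨τ, hτ⟩ := Cfsg.Agent.Lib.Helper11.exists_ringAut_pow N m₁ hNpos hm₁N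
    have h1 : g ^ m = g ^ m₁ := by
      rw [pow_eq_pow_iff_modEq]; exact hm₁n.symm
    have h2 : τ (χ ω g) = χ ω (g ^ m₁) := by
      rw [hχθ]
      simp only
      rw [map_mul, map_intCast,
        Cfsg.Agent.Lib.Helper11.ringAut_character_apply τ m₁ hτ hθc g]
    have h3 : Cfsg.Agent.Lib.Helper11.twist τ ω = ω := by
      ext w
      rw [Cfsg.Agent.Lib.Helper11.twist_apply, hτ _ (hωN w)]
      have hd : orderOf (ω w) ∣ orderOf ω := orderOf_map_dvd (MonoidHom.eval w) ω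
      have : (ω w) ^ m₁ = (ω w) ^ 1 := by
        rw [pow_eq_pow_iff_modEq]; exact hm₁a.of_dvd hd
      rw [pow_one] at this
      conv_rhs => rw [← this]
      rw [Units.val_pow_eq_pow_val]
    have h4 := congrFun (Cfsg.Agent.Lib.Helper11.cyclicTI_galois W₁ W₂ hW hodd χ hχ τ ω) g
    rw [h3] at h4
    rw [h1, ← h2, ← h4]
  have hfix' : ∀ m : ℕ, Nat.Coprime m N →
      ∑ z ∈ s, (((ε * (c z : ℤ) : ℤ)) : ℂ) * z ^ m = ∑ z ∈ s, (((ε * (c z : ℤ) : ℤ)) : ℂ) * z := by
    intro m hm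
    have e1 := hval m
    have e2 := hval 1
    rw [pow_one] at e2
    simp only [pow_one] at e2
    rw [← e1, ← e2]
    exact hfix m hm
  obtain ⟨n, hn⟩ := Cfsg.Agent.Lib.Helper11.int_of_galois_fixed N hNpos s
    (fun z => ε * (c z : ℤ)) hs hfix'
  refine ⟨n, ?_⟩
  have e2 := hval 1
  rw [pow_one] at e2
  simp only [pow_one] at e2
  rw [e2]
  exact hn

end Cfsg.Agent.S1508
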