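import Mathlib
import Cfsg.Statements.S1510
import Cfsg.Agent.Lib.Helper11.PowerParts

set_option autoImplicit false
open Cfsg
open scoped Pointwise

namespace Cfsg.Agent.S1510

open Cfsg.Agent.Lib.Helper11

theorem result {L : Type*} [Group L] [Fintype L] (K W₁ W₂ : Subgroup L) [hK : K.Normal] (hKW₁ : K ⊓ W₁ = ⊥) (hKW₁' : K ⊔ W₁ = ⊤) (hW₁ : W₁ ≠ ⊥) (hW₁c : IsCyclic W₁) (hHall : Nat.Coprime (Nat.card W₁) W₁.index) (hW₂ : W₂ ≠ ⊥) (hW₂c : IsCyclic W₂) (hW₂K : W₂ ≤ K) (hC : ∀ x ∈ W₁, x ≠ 1 → K ⊓ Subgroup.centralizer ({x} : Set L) = W₂) (hodd : Odd (Nat.card ↥(W₁ ⊔ W₂))) : Cfsg.IsSelfNormalizingCyclic W₁ W₂ := by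
  have hmul : (K : Set L) * (W₁ : Set L) = Set.univ := by
    rw [← Subgroup.normal_mul, hKW₁']
    rfl
  have hcompl : Subgroup.IsComplement' K W₁ :=
    Subgroup.isComplement'_of_disjoint_and_mul_eq_univ (disjoint_iff.mpr hKW₁) hmul
  have hidx : W₁.index = Nat.card K := hcompl.index_eq_card
  have hcop : Nat.Coprime (Nat.card W₁) (Nat.card W₂) := by
    rw [hidx] at hHall
    exact Nat.Coprime.coprime_dvd_right (Subgroup.card_dvd_of_le hW₂K) hHall
  have hdisj : W₁ ⊓ W₂ = ⊥ := by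
    apply le_antisymm _ bot_le
    rw [← hKW₁]
    intro z hz
    exact ⟨hW₂K hz.2, hz.1⟩
  have hcomm : ∀ a ∈ W₁, ∀ b ∈ W₂, a * b = b * a := by
    intro a ha b hb
    by_cases ha1 : a = 1
    · subst ha1; simp
    · have hb' : b ∈ K ⊓ Subgroup.centralizer ({a} : Set L) := by
        rw [hC a ha ha1]; exact hb
      exact (Subgroup.mem_centralizer_singleton_iff.mp hb'.2).symm
  obtain ⟨m₁, hm₁⟩ := exists_exponent_left (Nat.card W₁) (Nat.card W₂) hcop
  obtain ⟨m₂, hm₂⟩ := exists_exponent_left (Nat.card W₂) (Nat.card W₁) hcop.symm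
  have hpart₁ : ∀ a ∈ W₁, ∀ b ∈ W₂, (a * b) ^ m₁ = a := fun a ha b hb =>
    hm₁ a b (hcomm a ha b hb) (pow_card_subgroup_eq_one W₁ a ha) (pow_card_subgroup_eq_one W₂ b hb)
  have hpart₂ : ∀ a ∈ W₁, ∀ b ∈ W₂, (a * b) ^ m₂ = b := fun a ha b hb => by
    rw [hcomm a ha b hb]
    exact hm₂ b a (hcomm a ha b hb).symm (pow_card_subgroup_eq_one W₂ b hb)
      (pow_card_subgroup_eq_one W₁ a ha)
  have hW₂N : W₂ ≤ Subgroup.normalizer (W₁ : Set L) := by
    intro b hb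
    refine Subgroup.mem_normalizer_iff.mpr ?_
    intro a
    constructor
    · intro ha
      have : b * a * b⁻¹ = a := by rw [← hcomm a ha b hb]; group
      rw [this]; exact ha
    · intro ha
      have h1 := hcomm _ ha b hb
      have : b * a * b⁻¹ = a := by
        have h2 : b * a * b⁻¹ * b = b * (b * a * b⁻¹) := h1
        have h3 : b * a = b * (b * a * b⁻¹) := by rw [← h2]; group
        exact (mul_left_cancel h3).symm
      rw [← this]; exact ha
  have hWset : ((W₁ ⊔ W₂ : Subgroup L) : Set L) = (W₁ : Set L) * (W₂ : Set L) :=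
    Subgroup.coe_mul_of_right_le_normalizer_left W₁ W₂ hW₂N
  have hWmem : ∀ z : L, z ∈ W₁ ⊔ W₂ ↔ ∃ a ∈ W₁, ∃ b ∈ W₂, z = a * b := by
    intro z
    rw [← SetLike.mem_coe, hWset, Set.mem_mul]
    constructor
    · rintro ⟨a, ha, b, hb, rfl⟩; exact ⟨a, ha, b, hb, rfl⟩
    · rintro ⟨a, ha, b, hb, rfl⟩; exact ⟨a, ha, b, hb, rfl⟩
  have hWcomm : ∀ z ∈ W₁ ⊔ W₂, ∀ z' ∈ W₁ ⊔ W₂, z * z' = z' * z := by
    have hc1 : IsMulCommutative W₁ := inferInstance
    have hc2 : IsMulCommutative W₂ := inferInstance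
    have h11 : ∀ a ∈ W₁, ∀ a' ∈ W₁, a * a' = a' * a := fun a ha a' ha' =>
      congrArg Subtype.val (hc1.is_comm.comm ⟨a, ha⟩ ⟨a', ha'⟩)
    have h22 : ∀ b ∈ W₂, ∀ b' ∈ W₂, b * b' = b' * b := fun b hb b' hb' =>
      congrArg Subtype.val (hc2.is_comm.comm ⟨b, hb⟩ ⟨b', hb'⟩)
    intro z hz z' hz'
    obtain ⟨a, ha, b, hb, rfl⟩ := (hWmem z).mp hz
    obtain ⟨a', ha', b', hb', rfl⟩ := (hWmem z').mp hz'
    calc a * b * (a' * b') = a * (b * a') * b' := by group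
      _ = a * (a' * b) * b' := by rw [hcomm a' ha' b hb]
      _ = (a * a') * (b * b') := by group
      _ = (a' * a) * (b' * b) := by rw [h11 a ha a' ha', h22 b hb b' hb']
      _ = a' * (a * b') * b := by group
      _ = a' * (b' * a) * b := by rw [hcomm a ha b' hb']
      _ = a' * b' * (a * b) := by group
  have hcyc : IsCyclic ↥(W₁ ⊔ W₂) := by
    rw [Subgroup.isCyclic_iff_exists_zpowers_eq_top]
    obtain ⟨g₁, hg₁⟩ := (Subgroup.isCyclic_iff_exists_zpowers_eq_top W₁).mp hW₁c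
    obtain ⟨g₂, hg₂⟩ := (Subgroup.isCyclic_iff_exists_zpowers_eq_top W₂).mp hW₂c
    have hg₁W : g₁ ∈ W₁ := hg₁ ▸ Subgroup.mem_zpowers g₁
    have hg₂W : g₂ ∈ W₂ := hg₂ ▸ Subgroup.mem_zpowers g₂
    refine ⟨g₁ * g₂, le_antisymm ?_ ?_⟩
    · rw [Subgroup.zpowers_le]
      exact (hWmem _).mpr ⟨g₁, hg₁W, g₂, hg₂W, rfl⟩
    · apply sup_le
      · rw [← hg₁, Subgroup.zpowers_le]
        have h := Subgroup.pow_mem _ (Subgroup.mem_zpowers (g₁ * g₂)) m₁
        rw [hpart₁ g₁ hg₁W g₂ hg₂W] at h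
        exact h
      · rw [← hg₂, Subgroup.zpowers_le]
        have h := Subgroup.pow_mem _ (Subgroup.mem_zpowers (g₁ * g₂)) m₂
        rw [hpart₂ g₁ hg₁W g₂ hg₂W] at h
        exact h
  refine ⟨hW₁, hW₂, hdisj, hcomm, hcyc, ?_⟩
  intro X hXsub hXne
  apply le_antisymm
  · intro g hg
    obtain ⟨v, hvX⟩ := hXne
    obtain ⟨hvW, hvnot⟩ := hXsub hvX
    obtain ⟨a, ha, b, hb, rfl⟩ := (hWmem v).mp hvW
    have ha1 : a ≠ 1 := by
      intro h; subst h
      apply hvnot; right; simpa using hb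
    -- decompose g = k * w
    have hgtop : g ∈ ((K ⊔ W₁ : Subgroup L) : Set L) := by rw [hKW₁']; trivial
    rw [Subgroup.normal_mul] at hgtop
    obtain ⟨k, hk, w, hw, rfl⟩ := hgtop
    have hk : k ∈ K := hk
    have hw : w ∈ W₁ := hw
    have hwW : w ∈ W₁ ⊔ W₂ := (le_sup_left : W₁ ≤ W₁ ⊔ W₂) hw
    -- w centralizes a * b
    have hwv : w * (a * b) * w⁻¹ = a * b := by
      rw [hWcomm w hwW (a * b) hvW]; group
    have hkv : k * (a * b) * k⁻¹ ∈ X := by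
      have := (Subgroup.mem_set_normalizer_iff.mp hg (a * b)).mp hvX
      have h2 : k * w * (a * b) * (k * w)⁻¹ = k * (w * (a * b) * w⁻¹) * k⁻¹ := by group
      rw [h2, hwv] at this
      exact this
    obtain ⟨hv'W, _⟩ := hXsub hkv
    obtain ⟨a', ha', b', hb', hv'⟩ := (hWmem _).mp hv'W
    -- a' = a since congruent mod K
    have haa' : a' = a := by
      have h1 : a'⁻¹ * a ∈ K := by
        have h2 : a'⁻¹ * a = b' * ((k * (a * b) * k⁻¹)⁻¹ * (a * b)) * b⁻¹ := by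
          rw [hv']; group
        rw [h2]
        have h3 : (k * (a * b) * k⁻¹)⁻¹ * (a * b) ∈ K := by
          have h4 : (k * (a * b) * k⁻¹)⁻¹ * (a * b) = k * ((a * b)⁻¹ * k⁻¹ * (a * b)) := by group
          rw [h4]
          have h5 : (a * b)⁻¹ * k⁻¹ * (a * b) ∈ K := by
            have := hK.conj_mem k⁻¹ (K.inv_mem hk) (a * b)⁻¹
            simpa using this
          exact K.mul_mem hk h5
        exact K.mul_mem (K.mul_mem (hW₂K hb') h3) (K.inv_mem (hW₂K hb))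
      have h6 : a'⁻¹ * a ∈ K ⊓ W₁ := ⟨h1, W₁.mul_mem (W₁.inv_mem ha') ha⟩
      rw [hKW₁, Subgroup.mem_bot] at h6
      exact (inv_mul_eq_one.mp h6)
    -- take m₁-th powers
    have hka : k * a * k⁻¹ = a := by
      have h1 : (k * (a * b) * k⁻¹) ^ m₁ = k * a * k⁻¹ := by
        rw [conj_pow, hpart₁ a ha b hb]
      rw [← h1, hv', hpart₁ a' ha' b' hb', haa']
    have hkW₂ : k ∈ W₂ := by
      rw [← hC a ha ha1]
      refine Subgroup.mem_inf.mpr ⟨hk, ?_⟩
      rw [Subgroup.mem_centralizer_singleton_iff]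
      calc k * a = (k * a * k⁻¹) * k := by group
        _ = a * k := by rw [hka]
    exact (W₁ ⊔ W₂).mul_mem ((le_sup_right : W₂ ≤ W₁ ⊔ W₂) hkW₂) hwW
  · intro g hg
    rw [Subgroup.mem_set_normalizer_iff]
    intro z
    constructor
    · intro hz
      have hzW := (hXsub hz).1
      have : g * z * g⁻¹ = z := by rw [hWcomm g hg z hzW]; group
      rw [this]; exact hz
    · intro hz
      have hzW := (hXsub hz).1
      have hzW' : z ∈ W₁ ⊔ W₂ := by
        have := (W₁ ⊔ W₂).mul_mem ((W₁ ⊔ W₂).mul_mem ((W₁ ⊔ W₂).inv_mem hg) hzW) hg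
        simpa [mul_assoc] using this
      have : g * z * g⁻¹ = z := by rw [hWcomm g hg z hzW']; group
      rw [← this]; exact hz

end Cfsg.Agent.S1510
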