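import Cfsg.Statements.S1511
import Cfsg.Agent.Lib.Helper29.TPMain

set_option autoImplicit false
open Cfsg

namespace Cfsg.Agent.S1511

open Cfsg.Agent.Lib.Helper11 Cfsg.Agent.Lib.helper7 Cfsg.Agent.Lib.Helper29

/-- Let L be a finite group with K normal with complement W₁ ≠ 1 a cyclic Hall subgroup, and W₂ ≠ 1 a cyclic subgroup of K equal to C_K(x) for every non-identity x ∈ W₁, with W₁W₂ of odd order. Then there are a map μ from the linear characters of W = W₁ ⊔ W₂ to irreducible characters of L, injective, and a sign δ(ω) ∈ {1, −1} depending only on the values of ω on W₂, such that: for ω, ω' agreeing on W₂, the function induced to L from ω − ω' equals δ(ω) • (μ ω − μ ω'); μ ω x = δ(ω) ω x for x ∈ W outside W₂; every irreducible character of L not of the form μ ω vanishes on W outside W₂; and μ ω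 1 − δ(ω) is an integer multiple of Nat.card W₁. -/
theorem result {L : Type*} [Group L] [Fintype L] (K W₁ W₂ : Subgroup L) [hK : K.Normal] (hKW₁ : K ⊓ W₁ = ⊥) (hKW₁' : K ⊔ W₁ = ⊤) (hW₁ : W₁ ≠ ⊥) (hW₁c : IsCyclic W₁) (hHall : Nat.Coprime (Nat.card W₁) W₁.index) (hW₂ : W₂ ≠ ⊥) (hW₂c : IsCyclic W₂) (hW₂K : W₂ ≤ K) (hC : ∀ x ∈ W₁, x ≠ 1 → K ⊓ Subgroup.centralizer ({x} : Set L) = W₂) (hodd : Odd (Nat.card ↥(W₁ ⊔ W₂))) : ∃ (μ : (↥(W₁ ⊔ W₂) →* ℂˣ) → (L → ℂ)) (δ : (↥(W₁ ⊔ W₂) →* ℂˣ) → ℂ), Function.Injective μ ∧ (∀ ω, Cfsg.IsIrrCharacter L (μ ω)) ∧ (∀ ω, δ ω = 1 ∨ δ ω = -1) ∧ (∀ ω ω' : ↥(W₁ ⊔ W₂) →* ℂˣ, (∀ w : ↥(W₁ ⊔ W₂), (w : L) ∈ W₂ → ω w = ω' w) → δ ω = δ ω' ∧ Cfsg.indFun (W₁ ⊔ W₂) (fun w => (ω w : ℂ) - (ω' w : ℂ)) = δ ω • (μ ω - μ ω')) ∧ (∀ ω, ∀ w : ↥(W₁ ⊔ W₂), (w : L) ∉ W₂ → μ ω w = δ ω * (ω w : ℂ)) ∧ (∀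 θ : L → ℂ, Cfsg.IsIrrCharacter L θ → (∀ ω, θ ≠ μ ω) → ∀ w : ↥(W₁ ⊔ W₂), (w : L) ∉ W₂ → θ w = 0) ∧ (∀ ω, ∃ n : ℤ, μ ω 1 - δ ω = n * (Nat.card W₁ : ℂ)) := by
  classical
  have h : TP.Hyp K W₁ W₂ := ⟨hK, hKW₁, hKW₁', hW₁, hW₁c, hHall, hW₂, hW₂c, hW₂K, hC⟩
  have : Fintype ↥(W₁ ⊔ W₂) := Fintype.ofFinite _
  have : Fintype (TP.Phi W₁ W₂) := Fintype.ofFinite _
  have : Fintype (TP.Psi W₁ W₂) := Fintype.ofFinite _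
  obtain ⟨D⟩ := h.exists_data
  set E := Equiv.ofBijective _ (annih_prod_bijective h.comm _ _ h.hd (TP.hs W₁ W₂)) with hE
  have hE_apply : ∀ (φ : TP.Phi W₁ W₂) (ψ : TP.Psi W₁ W₂),
      E (φ, ψ) = (φ : ↥(W₁ ⊔ W₂) →* ℂˣ) * (ψ : ↥(W₁ ⊔ W₂) →* ℂˣ) := fun _ _ => rfl
  have hsymm : ∀ (φ : TP.Phi W₁ W₂) (ψ : TP.Psi W₁ W₂),
      E.symm ((φ : ↥(W₁ ⊔ W₂) →* ℂˣ) * (ψ : ↥(W₁ ⊔ W₂) →* ℂˣ)) = (φ, ψ) := by
    intro φ ψ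
    rw [Equiv.symm_apply_eq, hE_apply]
  have hdec : ∀ ω : ↥(W₁ ⊔ W₂) →* ℂˣ, ∃ (φ : TP.Phi W₁ W₂) (ψ : TP.Psi W₁ W₂),
      ω = (φ : ↥(W₁ ⊔ W₂) →* ℂˣ) * (ψ : ↥(W₁ ⊔ W₂) →* ℂˣ) := by
    intro ω
    refine ⟨(E.symm ω).1, (E.symm ω).2, ?_⟩
    rw [← hE_apply, Prod.mk.eta, Equiv.apply_symm_apply]
  refine ⟨fun ω => (D.m (E.symm ω).1 (E.symm ω).2 : L → ℂ), fun ω => (D.σ (E.symm ω).2 : ℂ),
    ?_, ?_, ?_, ?_, ?_, ?_, ?_⟩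
  · intro ω ω' heq
    have := D.inj h _ _ _ _ (Subtype.ext heq)
    exact E.symm.injective (Prod.ext this.1 this.2)
  · intro ω
    exact (D.m _ _).2
  · intro ω
    rcases D.hσ (E.symm ω).2 with h1 | h1
    · left
      show ((D.σ (E.symm ω).2 : ℤ) : ℂ) = 1
      rw [h1]
      norm_num
    · right
      show ((D.σ (E.symm ω).2 : ℤ) : ℂ) = -1
      rw [h1]
      norm_num
  · intro ω ω' hag
    obtain ⟨φ, ψ, rfl⟩ := hdec ω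
    obtain ⟨φ', ψ', rfl⟩ := hdec ω'
    have hψ : ψ = ψ' := TP.agree_psi φ φ' ψ ψ' hag
    subst hψ
    simp only [hsymm]
    refine ⟨trivial, ?_⟩
    exact D.ind_eq φ φ' ψ
  · intro ω w hw
    obtain ⟨φ, ψ, rfl⟩ := hdec ω
    simp only [hsymm]
    rw [D.value_off h _ w hw, D.exc_m h, MonoidHom.mul_apply, Units.val_mul]
  · intro θ hθ hne w hw
    have hθ' : ∀ φ ψ, (⟨θ, hθ⟩ : Cfsg.IrrCharacter L) ≠ D.m φ ψ := by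
      intro φ ψ hc
      apply hne ((φ : ↥(W₁ ⊔ W₂) →* ℂˣ) * (ψ : ↥(W₁ ⊔ W₂) →* ℂˣ))
      simp only [hsymm]
      rw [← hc]
    have := D.value_off h ⟨θ, hθ⟩ w hw
    rw [D.exc_other _ hθ'] at this
    exact this
  · intro ω
    obtain ⟨φ, ψ, rfl⟩ := hdec ω
    simp only [hsymm]
    refine ⟨∑ ψ' : TP.Psi W₁ W₂, D.base ψ' (D.m φ ψ), ?_⟩
    rw [D.value_one h, D.exc_m h, map_one, map_one, Units.val_one, mul_one, mul_one]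
    ring

end Cfsg.Agent.S1511
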