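import Cfsg.Statements.S1513
import Mathlib
import Cfsg.Agent.Lib.Helper11.FixedCount
import Cfsg.Agent.Lib.Helper11.AbelianQuot

set_option autoImplicit false
open Cfsg

namespace Cfsg.Agent.S1513

open Cfsg.Agent.Lib.Helper11 Cfsg.Agent.Lib.helper7 Cfsg.Agent.Lib.helper2 Cfsg.Agent.Lib.Helper25
open scoped ComplexConjugate Pointwise

/-- the stabilizer of a function on a normal subgroup under conjugation -/
def stab {L : Type*} [Group L] (K : Subgroup L) [hK : K.Normal] (θ : K → ℂ) : Subgroup L where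
  carrier := {g | cj K θ g = θ}
  mul_mem' := by
    intro a b ha hb
    show cj K θ (a * b) = θ
    rw [← cj_mul, ha, hb]
  one_mem' := cj_one K θ
  inv_mem' := by
    intro a ha
    show cj K θ a⁻¹ = θ
    have h1 : cj K (cj K θ a) a⁻¹ = cj K θ (a * a⁻¹) := cj_mul K θ a a⁻¹
    rw [ha, mul_inv_cancel, cj_one] at h1
    exact h1

theorem mem_stab {L : Type*} [Group L] (K : Subgroup L) [hK : K.Normal] (θ : K → ℂ) (g : L) :
    g ∈ stab K θ ↔ cj K θ g = θ := Iff.rfl


/-- Let L be a finite group with K normal with complement W₁ ≠ 1 a cyclic Hall subgroup, and W₂ ≠ 1 a cyclic subgroup of K equal to C_K(x) for every non-identity x ∈ W₁, with W₁W₂ of odd order. For an irreducible character θ of K: if θ is not fixed under conjugation by some element of W₁, then the function induced from θ to L is an irreducible character of L; and the irreducible characters of K fixed by all of W₁ are exactly Nat.card W₂ in number, each inducing to the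 sum of Nat.card W₁ pairwise distinct irreducible characters of L. -/
theorem result {L : Type*} [Group L] [Fintype L] (K W₁ W₂ : Subgroup L) [hK : K.Normal] (hKW₁ : K ⊓ W₁ = ⊥) (hKW₁' : K ⊔ W₁ = ⊤) (hW₁ : W₁ ≠ ⊥) (hW₁c : IsCyclic W₁) (hHall : Nat.Coprime (Nat.card W₁) W₁.index) (hW₂ : W₂ ≠ ⊥) (hW₂c : IsCyclic W₂) (hW₂K : W₂ ≤ K) (hC : ∀ x ∈ W₁, x ≠ 1 → K ⊓ Subgroup.centralizer ({x} : Set L) = W₂) (hodd : Odd (Nat.card ↥(W₁ ⊔ W₂))) : (∀ θ : K → ℂ, Cfsg.IsIrrCharacter K θ → (∃ x ∈ W₁, (fun k : K => θ ⟨x * k * x⁻¹, hK.conj_mem (k : L) k.2 x⟩) ≠ θ) → Cfsg.IsIrrCharacter L (Cfsg.indFun K θ)) ∧ Nat.card {θ : Cfsg.IrrCharacter K // ∀ x ∈ W₁, (fun k : K => (θ : K → ℂ) ⟨x * k * x⁻¹, hK.conj_mem (k : L) k.2 x⟩) = θ} = Nat.card W₂ ∧ (∀ θ : K → ℂ, Cfsg.IsIrrCharacter K θ → (∀ x ∈ W₁, (fun k : K => θ ⟨x * k * x⁻¹, hK.conj_mem (k : L) k.2 x⟩) = θ) → ∃ C : Finset (L → ℂ), C.card = Nat.card W₁ ∧ (∀ μ ∈ C, Cfsg.IsIrrCharacter L μ) ∧ Cfsg.indFun K θ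 = ∑ μ ∈ C, μ) := by
  classical
  have : Fintype K := Fintype.ofFinite _
  have : Fintype (Cfsg.IrrCharacter K) := Fintype.ofFinite _
  have : Fintype (Cfsg.IrrCharacter L) := Fintype.ofFinite _
  have hmul : (K : Set L) * (W₁ : Set L) = Set.univ := by
    rw [← Subgroup.normal_mul K W₁, hKW₁']
    rfl
  have hcompl : Subgroup.IsComplement' K W₁ :=
    Subgroup.isComplement'_of_disjoint_and_mul_eq_univ (disjoint_iff.mpr hKW₁) hmul
  have hW₁idx : W₁.index = Nat.card K := hcompl.index_eq_card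
  have hKidx : K.index = Nat.card W₁ := hcompl.symm.index_eq_card
  have hcopKW : Nat.Coprime (Nat.card W₁) (Nat.card K) := by
    rw [← hW₁idx]
    exact hHall
  have hdecomp : ∀ g : L, ∃ k ∈ K, ∃ w ∈ W₁, g = k * w := by
    intro g
    have hg : g ∈ (K : Set L) * (W₁ : Set L) := by
      rw [hmul]
      exact Set.mem_univ g
    obtain ⟨k, hk, w, hw, rfl⟩ := hg
    exact ⟨k, hk, w, hw, rfl⟩
  have habW₁ : ∀ a ∈ W₁, ∀ b ∈ W₁, a * b = b * a := by
    intro a ha b hb
    let _ := IsCyclic.commGroup (α := W₁)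
    have := mul_comm (⟨a, ha⟩ : W₁) ⟨b, hb⟩
    exact congrArg Subtype.val this
  have habW₂ : ∀ a ∈ W₂, ∀ b ∈ W₂, a * b = b * a := by
    intro a ha b hb
    let _ := IsCyclic.commGroup (α := W₂)
    have := mul_comm (⟨a, ha⟩ : W₂) ⟨b, hb⟩
    exact congrArg Subtype.val this
  have hcjK : ∀ (θ : K → ℂ), Cfsg.IsIrrCharacter K θ → ∀ k ∈ K, cj K θ k = θ := by
    intro θ hθ k hk
    funext h
    rw [cj_apply]
    exact irr_conj_invariant ⟨θ, hθ⟩ h ⟨k, hk⟩
  have hcjkw : ∀ (θ : K → ℂ), Cfsg.IsIrrCharacter K θ → ∀ k ∈ K, ∀ w : L,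
      cj K θ (k * w) = cj K θ w := by
    intro θ hθ k hk w
    rw [← cj_mul, hcjK θ hθ k hk]
  obtain ⟨x₁, hx₁⟩ := hW₁c.exists_generator
  have hx₁ne : (x₁ : L) ≠ 1 := by
    intro h1
    apply hW₁
    rw [Subgroup.eq_bot_iff_forall]
    intro w hw
    have := hx₁ ⟨w, hw⟩
    obtain ⟨i, hi⟩ := Subgroup.mem_zpowers_iff.mp this
    have h2 : ((x₁ : L)) ^ i = w := by
      have := congrArg Subtype.val hi
      simpa using this
    rw [← h2, h1, one_zpow]
  have hfix_iff : ∀ θ : K → ℂ, (∀ x ∈ W₁, cj K θ x = θ) ↔ cj K θ (x₁ : L) = θ := by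
    intro θ
    constructor
    · intro h
      exact h _ x₁.2
    · intro h w hw
      have h1 : (x₁ : L) ∈ stab K θ := h
      have := hx₁ ⟨w, hw⟩
      obtain ⟨i, hi⟩ := Subgroup.mem_zpowers_iff.mp this
      have h2 : ((x₁ : L)) ^ i = w := by
        have := congrArg Subtype.val hi
        simpa using this
      have h3 : w ∈ stab K θ := by
        rw [← h2]
        exact Subgroup.zpow_mem _ h1 i
      exact h3
  have hcount : ∀ y ∈ W₁, y ≠ 1 → (Finset.univ.filter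
      (fun θ : Cfsg.IrrCharacter K => cj K (θ : K → ℂ) y = (θ : K → ℂ))).card = Nat.card W₂ := by
    intro y hy hy1
    apply card_fixed_irr_eq K W₂ y _ (hC y hy hy1) habW₂
    exact Nat.Coprime.coprime_dvd_left (Subgroup.orderOf_dvd_natCard W₁ hy) hcopKW
  have hallfix : ∀ y ∈ W₁, y ≠ 1 → ∀ θ : Cfsg.IrrCharacter K,
      cj K (θ : K → ℂ) y = (θ : K → ℂ) → ∀ x ∈ W₁, cj K (θ : K → ℂ) x = (θ : K → ℂ) := by
    intro y hy hy1 θ hθy
    have hsub : Finset.univ.filter
        (fun θ : Cfsg.IrrCharacter K => cj K (θ : K → ℂ) (x₁ : L) = (θ : K → ℂ)) ⊆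
        Finset.univ.filter
        (fun θ : Cfsg.IrrCharacter K => cj K (θ : K → ℂ) y = (θ : K → ℂ)) := by
      intro φ hφ
      rw [Finset.mem_filter] at hφ ⊢
      exact ⟨Finset.mem_univ _, (hfix_iff φ).mpr hφ.2 y hy⟩
    have heq := Finset.eq_of_subset_of_card_le hsub
      (by rw [hcount y hy hy1, hcount (x₁ : L) x₁.2 hx₁ne])
    have hmem : θ ∈ Finset.univ.filter
        (fun θ : Cfsg.IrrCharacter K => cj K (θ : K → ℂ) y = (θ : K → ℂ)) :=
      Finset.mem_filter.mpr ⟨Finset.mem_univ _, hθy⟩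
    rw [← heq, Finset.mem_filter] at hmem
    exact (hfix_iff θ).mpr hmem.2
  refine ⟨?_, ?_, ?_⟩
  · intro θ hθ hex
    obtain ⟨x₀, hx₀, hne⟩ := hex
    have hne' : cj K θ x₀ ≠ θ := hne
    have hstab : ∀ g : L, cj K θ g = θ → g ∈ K := by
      intro g hg
      obtain ⟨k, hk, w, hw, rfl⟩ := hdecomp g
      rw [hcjkw θ hθ k hk w] at hg
      by_cases hw1 : w = 1
      · rw [hw1, mul_one]
        exact hk
      · exfalso
        exact hne' (hallfix w hw hw1 ⟨θ, hθ⟩ hg x₀ hx₀)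
    have hcardT : Nat.card {g : L // ∀ h : K, cj K θ g h = θ h} = Nat.card K := by
      apply Nat.card_congr
      exact Equiv.subtypeEquivRight (fun g =>
        ⟨fun h => hstab g (funext h), fun hg h => congrFun (hcjK θ hθ g hg) h⟩)
    apply h7_irr_of_norm_one (isCharacter_indFun K θ (isCharacter_of_irr ⟨θ, hθ⟩))
    rw [h7_frobenius_reciprocity K θ _ (h7_indFun_isClassFunction K θ),
      indFun_restrict_normal K θ, h7_classInner_smul_right, h7_classInner_sum_right, hcardT]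
    have hK0 : (Nat.card K : ℂ) ≠ 0 := by exact_mod_cast Nat.card_pos.ne'
    have hterm : ∀ ψ ∈ Finset.univ.image (fun g : L => cj K θ g),
        Cfsg.classInner θ ψ = if θ = ψ then 1 else 0 := by
      intro ψ hψ
      obtain ⟨g, -, rfl⟩ := Finset.mem_image.mp hψ
      have := irr_classInner (⟨θ, hθ⟩ : Cfsg.IrrCharacter K) ⟨cj K θ g, isIrr_cj K θ hθ g⟩
      simp only [Subtype.mk.injEq] at this
      exact this
    rw [Finset.sum_congr rfl hterm, Finset.sum_ite_eq, if_pos, div_self hK0, map_one, one_mul]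
    exact Finset.mem_image.mpr ⟨1, Finset.mem_univ _, cj_one K θ⟩
  · have h1 : Nat.card {θ : Cfsg.IrrCharacter K // ∀ x ∈ W₁,
        (fun k : K => (θ : K → ℂ) ⟨x * k * x⁻¹, hK.conj_mem (k : L) k.2 x⟩) = θ} =
        Nat.card {θ : Cfsg.IrrCharacter K // cj K (θ : K → ℂ) (x₁ : L) = (θ : K → ℂ)} := by
      apply Nat.card_congr
      exact Equiv.subtypeEquivRight (fun θ => hfix_iff (θ : K → ℂ))
    rw [h1, Nat.card_eq_fintype_card, Fintype.card_subtype]
    exact hcount (x₁ : L) x₁.2 hx₁ne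
  · intro θ hθ hfix
    have hfix' : ∀ x ∈ W₁, cj K θ x = θ := hfix
    have hinv : ∀ g : L, cj K θ g = θ := by
      intro g
      obtain ⟨k, hk, w, hw, rfl⟩ := hdecomp g
      rw [hcjkw θ hθ k hk w]
      exact hfix' w hw
    have hab : ∀ x y : L, x * y * x⁻¹ * y⁻¹ ∈ K := by
      intro x y
      obtain ⟨k, hk, w, hw, rfl⟩ := hdecomp x
      obtain ⟨k', hk', w', hw', rfl⟩ := hdecomp y
      rw [← QuotientGroup.eq_one_iff]
      have e1 : ((k : L) : L ⧸ K) = 1 := (QuotientGroup.eq_one_iff k).mpr hk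
      have e2 : ((k' : L) : L ⧸ K) = 1 := (QuotientGroup.eq_one_iff k').mpr hk'
      have e3 : ((w * w' : L) : L ⧸ K) = ((w' * w : L) : L ⧸ K) := by
        rw [habW₁ w hw w' hw']
      simp only [QuotientGroup.mk_mul, QuotientGroup.mk_inv, e1, e2, one_mul, mul_inv_rev,
        inv_one, mul_one] at e3 ⊢
      rw [e3]
      group
    have hcop : Nat.Coprime (Nat.card K) K.index := by
      rw [hKidx]
      exact hcopKW.symm
    obtain ⟨C, -, -, hsum, hcard⟩ := ramification_coprime K θ hθ hinv hab hcop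
    refine ⟨C.image Subtype.val, ?_, ?_, ?_⟩
    · rw [Finset.card_image_of_injective _ Subtype.val_injective, hcard, hKidx]
    · intro μ hμ
      obtain ⟨ψ, -, rfl⟩ := Finset.mem_image.mp hμ
      exact ψ.2
    · rw [hsum, Finset.sum_image (fun a _ b _ h => Subtype.val_injective h)]

end Cfsg.Agent.S1513
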