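import Cfsg.Statements.S1518
import Cfsg.Agent.Lib.Helper11.DadeVirtE
import Cfsg.Agent.S1500
import Cfsg.Agent.Lib.Helper25.CharReal
import Cfsg.Agent.Lib.Helper25.CharLinear
import Cfsg.Agent.Lib.Helper25.CharOrth
import Cfsg.Agent.Lib.Helper11.VirtChar
import Cfsg.Agent.Lib.Helper11.CyclicTI
import Cfsg.Agent.Lib.Helper11.LinChar
import Cfsg.Agent.Lib.helper7.CharTools

set_option autoImplicit false
open Cfsg

namespace Cfsg.Agent.S1518
open Cfsg.Agent.Lib.Helper11 Cfsg.Agent.Lib.Helper25 Cfsg.Agent.Lib.helper7 Cfsg.Agent.Lib.helper2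
open scoped ComplexConjugate

theorem dade_zero {G : Type*} [Group G] (A : Set G) (L : Subgroup G) (H : G → Subgroup G) :
    Cfsg.dadeIsometry A L H (0 : L → ℂ) = 0 := by
  funext g
  unfold Cfsg.dadeIsometry
  split_ifs <;> rfl

theorem dade_neg {G : Type*} [Group G] (A : Set G) (L : Subgroup G) (H : G → Subgroup G)
    (α : L → ℂ) : Cfsg.dadeIsometry A L H (-α) = - Cfsg.dadeIsometry A L H α := by
  funext g
  unfold Cfsg.dadeIsometry
  simp only [Pi.neg_apply]
  split_ifs <;> simp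

theorem dade_conj {G : Type*} [Group G] (A : Set G) (L : Subgroup G) (H : G → Subgroup G)
    (α : L → ℂ) :
    Cfsg.conjFun (Cfsg.dadeIsometry A L H α) = Cfsg.dadeIsometry A L H (Cfsg.conjFun α) := by
  funext g
  unfold Cfsg.conjFun Cfsg.dadeIsometry
  split_ifs <;> simp


/-- Under the Dade hypothesis for (A, L, H): if χ is an irreducible character of L vanishing at every non-identity element of L outside A, then the Dade image of χ − conj χ equals μ − conj μ for some irreducible character μ of G. -/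
theorem result {G : Type*} [Group G] [Fintype G] (A : Set G) (L : Subgroup G) [Fintype L] (H : G → Subgroup G) (hD : Cfsg.DadeHypothesis A L H) (χ : L → ℂ) (hχ : Cfsg.IsIrrCharacter L χ) (hsupp : ∀ x : L, x ≠ 1 → (x : G) ∉ A → χ x = 0) : ∃ μ : G → ℂ, Cfsg.IsIrrCharacter G μ ∧ Cfsg.dadeIsometry A L H (χ - Cfsg.conjFun χ) = μ - Cfsg.conjFun μ := by
  classical
  have hχc : Cfsg.IsIrrCharacter L (Cfsg.conjFun χ) := (irrConj ⟨χ, hχ⟩).2
  have hχ1 : ∃ n : ℕ, χ 1 = (n : ℂ) := isCharacter_one_eq_nat (isCharacter_of_irr ⟨χ, hχ⟩)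
  have hαgen : Cfsg.IsGeneralizedCharacter L (χ - Cfsg.conjFun χ) :=
    ⟨χ, Cfsg.conjFun χ, isCharacter_of_irr ⟨χ, hχ⟩, isCharacter_of_irr ⟨_, hχc⟩, rfl⟩
  have hαA : ∀ x : L, (x : G) ∉ A → (χ - Cfsg.conjFun χ) x = 0 := by
    intro x hx
    show χ x - conj (χ x) = 0
    by_cases h1 : x = 1
    · subst h1
      obtain ⟨n, hn⟩ := hχ1
      rw [hn]
      simp
    · rw [hsupp x h1 hx]
      simp
  have hβgen := Cfsg.Agent.Lib.Helper11.DadeVirtE.dade_virtual hD _ hαgen hαA
  by_cases hreal : Cfsg.conjFun χ = χ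
  · refine ⟨fun _ => 1, (trivIrr G).2, ?_⟩
    rw [hreal, sub_self, dade_zero]
    funext g
    show (0 : ℂ) = 1 - conj 1
    simp
  · have hcf : Cfsg.IsClassFunction L (χ - Cfsg.conjFun χ) := genChar_classFunction _ hαgen
    have hne : (⟨χ, hχ⟩ : Cfsg.IrrCharacter L) ≠ ⟨_, hχc⟩ := by
      intro h
      exact hreal (congrArg Subtype.val h).symm
    have hnorm : Cfsg.classInner (Cfsg.dadeIsometry A L H (χ - Cfsg.conjFun χ))
        (Cfsg.dadeIsometry A L H (χ - Cfsg.conjFun χ)) = 2 := by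
      rw [(Cfsg.Agent.S1500.result A L H hD _ hcf hαA).1 _ hcf hαA]
      rw [Cfsg.Agent.Lib.Helper25.classInner_sub_left, classInner_sub_right'',
        classInner_sub_right'']
      have h1 := irr_classInner (⟨χ, hχ⟩ : Cfsg.IrrCharacter L) ⟨χ, hχ⟩
      have h2 := irr_classInner (⟨χ, hχ⟩ : Cfsg.IrrCharacter L) ⟨_, hχc⟩
      have h3 := irr_classInner (⟨_, hχc⟩ : Cfsg.IrrCharacter L) ⟨χ, hχ⟩
      have h4 := irr_classInner (⟨_, hχc⟩ : Cfsg.IrrCharacter L) ⟨_, hχc⟩
      rw [if_pos rfl] at h1 h4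
      rw [if_neg hne] at h2
      rw [if_neg (Ne.symm hne)] at h3
      simp only at h1 h2 h3 h4
      rw [h1, h2, h3, h4]
      norm_num
    have h1 : Cfsg.dadeIsometry A L H (χ - Cfsg.conjFun χ) 1 = 0 := by
      apply dadeIsometry_zero
      rintro ⟨a, ha, u, hu, x, hx⟩
      have h2 : a * u = 1 := by rw [← hx]; group
      have h3 : a = u⁻¹ := eq_inv_of_mul_eq_one_left h2
      have h4 : u⁻¹ = 1 := by
        apply dade_H_inf_L hD ha ((H a).inv_mem hu)
        rw [← h3]
        exact hD.subset ha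
      rw [h4] at h3
      rw [h3] at ha
      exact hD.one_not_mem ha
    obtain ⟨η₁, η₂, hη, heq⟩ := genChar_norm_two _ hβgen hnorm h1
    have hconj : Cfsg.conjFun (Cfsg.dadeIsometry A L H (χ - Cfsg.conjFun χ)) =
        - Cfsg.dadeIsometry A L H (χ - Cfsg.conjFun χ) := by
      rw [dade_conj, ← dade_neg]
      congr 1
      funext x
      show conj (χ x - conj (χ x)) = -(χ x - conj (χ x))
      simp
    rw [heq] at hconj
    have hsum : ∀ g : G, conj ((η₁ : G → ℂ) g) + (η₁ : G → ℂ) g =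
        (η₂ : G → ℂ) g + conj ((η₂ : G → ℂ) g) := by
      intro g
      have := congrFun hconj g
      simp only [Cfsg.conjFun, Pi.sub_apply, Pi.neg_apply, map_sub] at this
      linear_combination this
    have hfun : (irrConj η₁ : G → ℂ) + (η₁ : G → ℂ) = (η₂ : G → ℂ) + (irrConj η₂ : G → ℂ) := by
      funext g
      exact hsum g
    have hinner := congrArg (fun f => Cfsg.classInner f (η₂ : G → ℂ)) hfun
    rw [classInner_add_left', classInner_add_left', irr_classInner, irr_classInner,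
      irr_classInner, irr_classInner, if_neg hη, if_pos rfl] at hinner
    have hη₂ : irrConj η₁ = η₂ := by
      by_contra hcon
      rw [if_neg hcon] at hinner
      split_ifs at hinner <;> norm_num at hinner
    refine ⟨η₁, η₁.2, ?_⟩
    rw [heq, ← hη₂]
    rfl

end Cfsg.Agent.S1518
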