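import Cfsg.Statements.S1525
import Mathlib
import Cfsg.Agent.Lib.Helper11.Dade

set_option autoImplicit false
open Cfsg

namespace Cfsg.Agent.S1525

open Cfsg.Agent.Lib.Helper11 Cfsg.Agent.Lib.helper7


/-- Under the Dade hypothesis for (A, L, H), let χ be a class function of G and let ψ be a function on L whose value at each a ∈ A is the average of χ over the coset a·H(a). Then (1/|G|) Σ |χ g|² over the elements g of G conjugate into some coset a·H(a) with a ∈ A is at least (1/|L|) Σ_{a ∈ A ∩ L} |ψ a|². -/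
theorem result {G : Type*} [Group G] [Fintype G] (A : Set G) (L : Subgroup G) [Fintype L] (H : G → Subgroup G) (hD : Cfsg.DadeHypothesis A L H) (χ : G → ℂ) (hχ : Cfsg.IsClassFunction G χ) (ψ : L → ℂ) (hψ : ∀ a : L, (a : G) ∈ A → ψ a = (Nat.card (H a) : ℂ)⁻¹ * ∑ᶠ u ∈ (H a : Set G), χ (a * u)) : (Nat.card L : ℝ)⁻¹ * ∑ᶠ a ∈ {a : L | (a : G) ∈ A}, ‖ψ a‖ ^ 2 ≤ (Nat.card G : ℝ)⁻¹ * ∑ᶠ g ∈ {g : G | ∃ a ∈ A, ∃ u ∈ H a, ∃ x : G, x * g * x⁻¹ = a * u}, ‖χ g‖ ^ 2 := by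
  classical
  have hsupp : {g : G | ∃ a ∈ A, ∃ u ∈ H a, ∃ x : G, x * g * x⁻¹ = a * u} = dadeSupp A H := rfl
  rw [hsupp, h7_finsum_mem_fintype, h7_finsum_mem_fintype]
  have hcount := dade_counting' (K := ℝ) hD (fun g => ‖χ g‖ ^ 2) (by
    intro g h
    rw [hχ g h])
  rw [hcount]
  apply mul_le_mul_of_nonneg_left _ (by positivity)
  apply Finset.sum_le_sum
  intro a _
  simp only [Set.mem_ofPred_eq]
  by_cases ha : (a : G) ∈ A
  · rw [if_pos ha, if_pos ha, hψ a ha, h7_finsum_mem_fintype]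
    simp only [SetLike.mem_coe]
    rw [← Finset.sum_filter, ← Finset.sum_filter]
    set s := Finset.univ.filter (fun u : G => u ∈ H (a : G)) with hs
    have hcard : s.card = Nat.card (H (a : G)) := by
      rw [hs, Nat.card_eq_fintype_card, Fintype.card_subtype]
    have hpos : (0 : ℝ) < (Nat.card (H (a : G)) : ℝ) := by exact_mod_cast Nat.card_pos
    rw [norm_mul, norm_inv, Complex.norm_natCast, mul_pow]
    have h1 : ‖∑ u ∈ s, χ ((a : G) * u)‖ ≤ ∑ u ∈ s, ‖χ ((a : G) * u)‖ := norm_sum_le _ _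
    have h2 : (∑ u ∈ s, ‖χ ((a : G) * u)‖) ^ 2 ≤
        (s.card : ℝ) * ∑ u ∈ s, ‖χ ((a : G) * u)‖ ^ 2 := sq_sum_le_card_mul_sum_sq
    have h3 : ‖∑ u ∈ s, χ ((a : G) * u)‖ ^ 2 ≤ (∑ u ∈ s, ‖χ ((a : G) * u)‖) ^ 2 :=
      pow_le_pow_left₀ (norm_nonneg _) h1 2
    rw [hcard] at h2
    calc ((Nat.card (H (a : G)) : ℝ)⁻¹) ^ 2 * ‖∑ u ∈ s, χ ((a : G) * u)‖ ^ 2
        ≤ ((Nat.card (H (a : G)) : ℝ)⁻¹) ^ 2 *
          ((Nat.card (H (a : G)) : ℝ) * ∑ u ∈ s, ‖χ ((a : G) * u)‖ ^ 2) :=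
          mul_le_mul_of_nonneg_left (h3.trans h2) (by positivity)
      _ = (Nat.card (H (a : G)) : ℝ)⁻¹ * ∑ u ∈ s, ‖χ ((a : G) * u)‖ ^ 2 := by
          field_simp
  · rw [if_neg ha, if_neg ha]

end Cfsg.Agent.S1525
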