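import Mathlib
import Cfsg.Statements.S1527

set_option autoImplicit false
open Cfsg

namespace Cfsg.Agent.S1527

theorem card_ne {α : Type*} [Finite α] (a : α) : Nat.card {x : α // x ≠ a} = Nat.card α - 1 := by
  classical
  have := Fintype.ofFinite α
  rw [Nat.card_eq_fintype_card, Nat.card_eq_fintype_card]
  rw [Fintype.card_subtype_compl (fun x => x = a)]
  simp

theorem orderOf_conj' {G : Type*} [Group G] (x h : G) : orderOf (x * h * x⁻¹) = orderOf h := by
  have := (MulAut.conj x).orderOf_eq h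
  rwa [MulAut.conj_apply] at this

theorem result {G : Type*} [Group G] [Finite G] {ι : Type*} [Fintype ι] (H : ι → Subgroup G) (hcop : ∀ i j, i ≠ j → Nat.Coprime (Nat.card (H i)) (Nat.card (H j))) (hTI : ∀ i, Cfsg.IsTISubset (H i : Set G)) (hcover : ∀ g : G, g ≠ 1 → ∃ i, ∃ x : G, x * g * x⁻¹ ∈ H i) : Nat.card G - 1 = ∑ i, (Subgroup.normalizer (H i : Set G)).index * (Nat.card (H i) - 1) := by
  classical
  let N : ι → Subgroup G := fun i => Subgroup.normalizer (H i : Set G)
  let T := Σ i : ι, (G ⧸ N i) × {h : H i // h ≠ 1}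
  have hcardT : Nat.card T = ∑ i, (N i).index * (Nat.card (H i) - 1) := by
    rw [Nat.card_sigma]
    apply Finset.sum_congr rfl
    intro i _
    rw [Nat.card_prod, card_ne]
    rfl
  have hcardG : Nat.card {g : G // g ≠ 1} = Nat.card G - 1 := card_ne 1
  rw [← hcardG]
  show _ = ∑ i, (N i).index * (Nat.card (H i) - 1)
  rw [← hcardT]
  symm
  let Φ : T → {g : G // g ≠ 1} := fun t =>
    ⟨t.2.1.out * (t.2.2 : H t.1) * t.2.1.out⁻¹, by
      intro h
      have h1 : ((t.2.2 : H t.1) : G) = 1 := by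
        have := congrArg (fun z => t.2.1.out⁻¹ * z * t.2.1.out) h
        simpa [mul_assoc] using this
      exact t.2.2.2 (Subtype.ext h1)⟩
  apply Nat.card_eq_of_bijective Φ
  constructor
  · rintro ⟨i, q, h⟩ ⟨j, q', h'⟩ heq
    have heq' : q.out * ((h : H i) : G) * q.out⁻¹ = q'.out * ((h' : H j) : G) * q'.out⁻¹ :=
      congrArg Subtype.val heq
    have hij : i = j := by
      by_contra hne
      have ho1 : orderOf (q.out * ((h : H i) : G) * q.out⁻¹) ∣ Nat.card (H i) := by
        rw [orderOf_conj']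
        exact Subgroup.orderOf_dvd_natCard (H i) (h : H i).2
      have ho2 : orderOf (q.out * ((h : H i) : G) * q.out⁻¹) ∣ Nat.card (H j) := by
        rw [heq', orderOf_conj']
        exact Subgroup.orderOf_dvd_natCard (H j) (h' : H j).2
      have h1 := Nat.eq_one_of_dvd_coprimes (hcop i j hne) ho1 ho2
      rw [orderOf_eq_one_iff] at h1
      have h2 : ((h : H i) : G) = 1 := by
        have := congrArg (fun z => q.out⁻¹ * z * q.out) h1
        simpa [mul_assoc] using this
      exact h.2 (Subtype.ext h2)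
    subst hij
    set x := q.out with hx
    set x' := q'.out with hx'
    have hmem : x'⁻¹ * x ∈ N i := by
      by_contra hnot
      have h3 : (x'⁻¹ * x) * ((h : H i) : G) * (x'⁻¹ * x)⁻¹ ∈ (H i : Set G) := by
        have : (x'⁻¹ * x) * ((h : H i) : G) * (x'⁻¹ * x)⁻¹ = ((h' : H i) : G) := by
          calc (x'⁻¹ * x) * ((h : H i) : G) * (x'⁻¹ * x)⁻¹
              = x'⁻¹ * (x * ((h : H i) : G) * x⁻¹) * x' := by group
            _ = x'⁻¹ * (x' * ((h' : H i) : G) * x'⁻¹) * x' := by rw [heq']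
            _ = ((h' : H i) : G) := by group
        rw [this]
        exact (h' : H i).2
      have := hTI i (x'⁻¹ * x) hnot ((h : H i) : G) (h : H i).2 h3
      exact h.2 (Subtype.ext this)
    have hq : q' = q := by
      rw [← QuotientGroup.out_eq' q, ← QuotientGroup.out_eq' q']
      exact QuotientGroup.eq.mpr hmem
    subst hq
    have hh : (h : H i) = (h' : H i) := by
      apply Subtype.ext
      have h5 : x⁻¹ * (x * ((h : H i) : G) * x⁻¹) * x = x⁻¹ * (x * ((h' : H i) : G) * x⁻¹) * x := by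
        rw [heq']
      calc ((h : H i) : G) = x⁻¹ * (x * ((h : H i) : G) * x⁻¹) * x := by group
        _ = x⁻¹ * (x * ((h' : H i) : G) * x⁻¹) * x := h5
        _ = ((h' : H i) : G) := by group
    have : h = h' := Subtype.ext hh
    rw [this]
  · rintro ⟨g, hg⟩
    obtain ⟨i, x, hx⟩ := hcover g hg
    obtain ⟨n, hn⟩ := QuotientGroup.mk_out_eq_mul (N i) x⁻¹
    set q : G ⧸ N i := QuotientGroup.mk x⁻¹ with hq
    have hnN : (n : G) ∈ Subgroup.normalizer (H i : Set G) := n.2
    have hmem : (n : G)⁻¹ * (x * g * x⁻¹) * (n : G)⁻¹⁻¹ ∈ H i :=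
      (Subgroup.mem_normalizer_iff.mp (Subgroup.inv_mem _ hnN) _).mp hx
    have hne : (⟨(n : G)⁻¹ * (x * g * x⁻¹) * (n : G)⁻¹⁻¹, hmem⟩ : H i) ≠ 1 := by
      intro h1
      have h2 : (n : G)⁻¹ * (x * g * x⁻¹) * (n : G)⁻¹⁻¹ = 1 := congrArg Subtype.val h1
      apply hg
      have := congrArg (fun z => x⁻¹ * (n : G) * z * (n : G)⁻¹ * x) h2
      simpa [mul_assoc] using this
    refine ⟨⟨i, q, ⟨⟨_, hmem⟩, hne⟩⟩, ?_⟩
    apply Subtype.ext
    show q.out * ((n : G)⁻¹ * (x * g * x⁻¹) * (n : G)⁻¹⁻¹) * q.out⁻¹ = g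
    rw [hn]
    group

end Cfsg.Agent.S1527
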