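import Cfsg.Statements.S1530
import Mathlib
import Cfsg.Agent.Lib.Helper11.Coherence
import Cfsg.Agent.S1529

set_option autoImplicit false
open Cfsg

namespace Cfsg.Agent.S1530

open Cfsg.Agent.Lib.Helper11 Cfsg.Agent.Lib.helper7 Cfsg.Agent.Lib.helper2 Cfsg.Agent.Lib.Helper25
open scoped ComplexConjugate


/-- Let N be a subgroup of the finite group G and S₀ a finite set of irreducible characters of N, χ an irreducible character of N not in S₀, with degrees ξ 1 = d ξ. Let τ be a linear isometry on the integer combinations of S₀ ∪ {χ} vanishing at 1, with values virtual characters of G vanishing at 1, such that (S₀, N minus 1, τ) is coherent. If some ψ ∈ S₀ has d ψ dividing d χ and 2 · d ψ · d χ < Σ_{ξ ∈ S₀} (d ξ)², then (S₀ ∪ {χ}, N minus 1, τ) is coherent. -/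
theorem result {G : Type*} [Group G] [Fintype G] (N : Subgroup G) [Fintype N] (S₀ : Finset (N → ℂ)) (χ : N → ℂ) (hirr : ∀ ξ ∈ S₀, Cfsg.IsIrrCharacter N ξ) (hχ : Cfsg.IsIrrCharacter N χ) (hχS : χ ∉ S₀) (d : (N → ℂ) → ℕ) (hd : ∀ ξ ∈ insert χ S₀, ξ 1 = (d ξ : ℂ)) (τ : (N → ℂ) → (G → ℂ)) (hτ : Cfsg.IsLinearIsometryOn (Cfsg.zspanOn (↑(insert χ S₀) : Set (N → ℂ)) {1}ᶜ) τ) (hτ1 : ∀ α ∈ Cfsg.zspanOn (↑(insert χ S₀) : Set (N → ℂ)) {1}ᶜ, τ α 1 = 0) (hcoh : Cfsg.IsCoherent (↑S₀ : Set (N → ℂ)) {1}ᶜ τ) (ψ : N → ℂ) (hψ : ψ ∈ S₀) (hdvd : d ψ ∣ d χ) (hlt : 2 * d ψ * d χ < ∑ ξ ∈ S₀, d ξ ^ 2) : Cfsg.IsCoherent (↑(insert χ S₀) : Set (N → ℂ)) {1}ᶜ τ := by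
  classical
  obtain ⟨⟨α₀, hα₀mem, hα₀ne⟩, τ₁, hτ₁, hτ₁τ⟩ := hcoh
  have hS₀sub : (↑S₀ : Set (N → ℂ)) ⊆ ↑(insert χ S₀) := by
    intro a ha
    exact Finset.mem_coe.mpr (Finset.mem_insert_of_mem (Finset.mem_coe.mp ha))
  have hirr' : ∀ ξ ∈ insert χ S₀, Cfsg.IsIrrCharacter N ξ := by
    intro ξ hξ
    rcases Finset.mem_insert.mp hξ with h | h
    · rw [h]; exact hχ
    · exact hirr ξ h
  have horth : ∀ a ∈ insert χ S₀, ∀ b ∈ insert χ S₀,
      Cfsg.classInner a b = if a = b then 1 else 0 := by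
    intro a ha b hb
    have := irr_classInner ⟨a, hirr' a ha⟩ ⟨b, hirr' b hb⟩
    simp only at this
    rw [this]
    by_cases h : a = b
    · subst h
      simp
    · rw [if_neg h, if_neg (fun e => h (congrArg Subtype.val e))]
  have hdpos : ∀ ξ ∈ insert χ S₀, 0 < d ξ := by
    intro ξ hξ
    apply Nat.pos_of_ne_zero
    intro h0
    have h1 := hd ξ hξ
    rw [h0, Nat.cast_zero] at h1
    exact irr_one_ne_zero ⟨ξ, hirr' ξ hξ⟩ h1
  have hψ' : ψ ∈ insert χ S₀ := Finset.mem_insert_of_mem hψ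
  have hχ' : χ ∈ insert χ S₀ := Finset.mem_insert_self χ S₀
  have hχψ : χ ≠ ψ := fun h => hχS (h ▸ hψ)
  -- at least two members
  have htwo : ∃ a ∈ (↑S₀ : Set (N → ℂ)), ∃ b ∈ (↑S₀ : Set (N → ℂ)), a ≠ b := by
    by_contra hcon
    push Not at hcon
    apply hα₀ne
    have hS : (↑S₀ : Set (N → ℂ)) = {ψ} := by
      ext a
      simp only [Finset.mem_coe, Set.mem_singleton_iff]
      constructor
      · intro ha
        exact hcon a (Finset.mem_coe.mpr ha) ψ (Finset.mem_coe.mpr hψ)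
      · rintro rfl
        exact hψ
    have h1 := hα₀mem.1
    unfold Cfsg.zspan at h1
    rw [hS, SetLike.mem_coe, Submodule.mem_span_singleton] at h1
    obtain ⟨n, rfl⟩ := h1
    have h2 := hα₀mem.2 1 (by simp)
    rw [Pi.smul_apply, hd ψ hψ', zsmul_eq_mul] at h2
    have h3 : (d ψ : ℂ) ≠ 0 := by exact_mod_cast (hdpos ψ hψ').ne'
    rcases mul_eq_zero.mp h2 with h | h
    · have : n = 0 := by exact_mod_cast h
      rw [this, zero_smul]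
    · exact absurd h h3
  have h0τ₁ : ∀ θ ∈ Cfsg.zspan (↑S₀ : Set (N → ℂ)), θ 1 = 0 → τ₁ θ 1 = 0 := by
    intro θ hθ h1
    have hm := mem_zspanOn_one hθ h1
    rw [hτ₁τ θ hm]
    exact hτ1 θ (zspanOn_mono hS₀sub _ hm)
  obtain ⟨ε, hε, hirrτ₁, hinjτ₁⟩ :=
    Cfsg.Agent.S1529.result N (↑S₀ : Set (N → ℂ)) (fun a ha => hirr a (Finset.mem_coe.mp ha))
      htwo τ₁ hτ₁ h0τ₁
  have hmemS₀ : ∀ ξ ∈ S₀, ξ ∈ Cfsg.zspan (↑S₀ : Set (N → ℂ)) :=
    fun ξ hξ => zspan_of_mem (Finset.mem_coe.mpr hξ)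
  have horthτ₁ : ∀ a ∈ S₀, ∀ b ∈ S₀, Cfsg.classInner (τ₁ a) (τ₁ b) = if a = b then 1 else 0 := by
    intro a ha b hb
    rw [hτ₁.2.2.1 a (hmemS₀ a ha) b (hmemS₀ b hb)]
    exact horth a (Finset.mem_insert_of_mem ha) b (Finset.mem_insert_of_mem hb)
  obtain ⟨a, ha⟩ := hdvd
  have hβz : (χ - (a : ℤ) • ψ) ∈ Cfsg.zspan (↑(insert χ S₀) : Set (N → ℂ)) :=
    zspan_sub (zspan_of_mem (Finset.mem_coe.mpr hχ'))
      (zspan_zsmul _ (zspan_of_mem (Finset.mem_coe.mpr hψ')))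
  have hβmem : (χ - (a : ℤ) • ψ) ∈ Cfsg.zspanOn (↑(insert χ S₀) : Set (N → ℂ)) {1}ᶜ := by
    apply mem_zspanOn_one hβz
    simp only [Pi.sub_apply, Pi.smul_apply]
    simp only [zsmul_eq_mul, hd χ hχ', hd ψ hψ', ha]
    push_cast
    ring
  have hTgen : Cfsg.IsGeneralizedCharacter G (τ (χ - (a : ℤ) • ψ)) := hτ.2.2.2 _ hβmem
  have hTnorm : Cfsg.classInner (τ (χ - (a : ℤ) • ψ)) (τ (χ - (a : ℤ) • ψ)) =
      1 + (a : ℂ) ^ 2 := by
    rw [hτ.2.2.1 _ hβmem _ hβmem]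
    simp only [classInner_sub_left', classInner_sub_right', classInner_zsmul_left,
      classInner_zsmul_right]
    rw [horth χ hχ' χ hχ', horth χ hχ' ψ hψ', horth ψ hψ' χ hχ', horth ψ hψ' ψ hψ',
      if_pos rfl, if_pos rfl, if_neg hχψ, if_neg (Ne.symm hχψ)]
    push_cast
    ring
  generalize hTdef : τ (χ - (a : ℤ) • ψ) = T at hTgen hTnorm
  have hz : ∀ ξ : N → ℂ, ∃ z : ℤ, ξ ∈ S₀ → Cfsg.classInner T (τ₁ ξ) = (z : ℂ) := by
    intro ξ
    by_cases hξ : ξ ∈ S₀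
    · obtain ⟨z, hz⟩ := genChar_inner_genChar_int T (τ₁ ξ) hTgen (hτ₁.2.2.2 ξ (hmemS₀ ξ hξ))
      exact ⟨z, fun _ => hz⟩
    · exact ⟨0, fun h => absurd h hξ⟩
  choose z hz using hz
  have hrel : ∀ ξ ∈ S₀, (d ψ : ℤ) * z ξ =
      (d ξ : ℤ) * (z ψ + a) - (if ξ = ψ then (a : ℤ) * d ψ else 0) := by
    intro ξ hξ
    have hξ' : ξ ∈ insert χ S₀ := Finset.mem_insert_of_mem hξ
    have hχξ : χ ≠ ξ := fun h => hχS (h ▸ hξ)
    have hωmem : ((d ψ : ℤ) • ξ - (d ξ : ℤ) • ψ) ∈ Cfsg.zspanOn (↑S₀ : Set (N → ℂ)) {1}ᶜ := by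
      apply mem_zspanOn_one (zspan_sub (zspan_zsmul _ (hmemS₀ ξ hξ)) (zspan_zsmul _ (hmemS₀ ψ hψ)))
      simp only [Pi.sub_apply, Pi.smul_apply]
      simp only [zsmul_eq_mul, hd ξ hξ', hd ψ hψ']
      push_cast
      ring
    have h1 : Cfsg.classInner T (τ ((d ψ : ℤ) • ξ - (d ξ : ℤ) • ψ)) =
        Cfsg.classInner (χ - (a : ℤ) • ψ) ((d ψ : ℤ) • ξ - (d ξ : ℤ) • ψ) := by
      rw [← hTdef]
      exact hτ.2.2.1 _ hβmem _ (zspanOn_mono hS₀sub _ hωmem)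
    rw [← hτ₁τ _ hωmem, isoOn_map_sub hτ₁ (zspan_zsmul _ (hmemS₀ ξ hξ))
      (zspan_zsmul _ (hmemS₀ ψ hψ)), hτ₁.2.1 ξ (hmemS₀ ξ hξ), hτ₁.2.1 ψ (hmemS₀ ψ hψ)] at h1
    simp only [classInner_sub_left', classInner_sub_right', classInner_zsmul_left,
      classInner_zsmul_right] at h1
    rw [hz ξ hξ, hz ψ hψ, horth χ hχ' ξ hξ', horth χ hχ' ψ hψ', horth ψ hψ' ξ hξ',
      horth ψ hψ' ψ hψ', if_pos rfl, if_neg hχξ, if_neg hχψ] at h1
    by_cases hξψ : ξ = ψ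
    · rw [if_pos hξψ, hξψ]
      ring
    · rw [if_neg hξψ]
      rw [if_neg (Ne.symm hξψ)] at h1
      have h2 : (((d ψ : ℤ) * z ξ - (d ξ : ℤ) * z ψ : ℤ) : ℂ) = (((a : ℤ) * (d ξ : ℤ) : ℤ) : ℂ) := by
        push_cast
        push_cast at h1
        linear_combination h1
      have h3 : (d ψ : ℤ) * z ξ - (d ξ : ℤ) * z ψ = (a : ℤ) * (d ξ : ℤ) := by exact_mod_cast h2
      linarith
  have hPgen : Cfsg.IsGeneralizedCharacter G (∑ ξ ∈ S₀, (z ξ) • τ₁ ξ) :=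
    genChar_sum S₀ _ (fun ξ hξ => genChar_zsmul _ (hτ₁.2.2.2 ξ (hmemS₀ ξ hξ)))
  have hPτ₁ : ∀ ξ ∈ S₀, Cfsg.classInner (∑ ξ' ∈ S₀, (z ξ') • τ₁ ξ') (τ₁ ξ) = (z ξ : ℂ) := by
    intro ξ hξ
    rw [classInner_sum_left', Finset.sum_eq_single ξ]
    · rw [classInner_zsmul_left, horthτ₁ ξ hξ ξ hξ, if_pos rfl, mul_one]
    · intro b hb hne
      rw [classInner_zsmul_left, horthτ₁ b hb ξ hξ, if_neg hne, mul_zero]
    · intro h
      exact absurd hξ h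
  generalize hPdef : (∑ ξ ∈ S₀, (z ξ) • τ₁ ξ) = P at hPgen hPτ₁
  have hΓgen : Cfsg.IsGeneralizedCharacter G (T - P) := genChar_sub hTgen hPgen
  have hΓorth : ∀ ξ ∈ S₀, Cfsg.classInner (T - P) (τ₁ ξ) = 0 := by
    intro ξ hξ
    rw [classInner_sub_left', hz ξ hξ, hPτ₁ ξ hξ, sub_self]
  have hΓP : Cfsg.classInner (T - P) P = 0 := by
    have : ∀ Q, Q = ∑ ξ ∈ S₀, (z ξ) • τ₁ ξ → Cfsg.classInner (T - P) Q = 0 := by
      intro Q hQ
      rw [hQ, h7_classInner_sum_right]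
      apply Finset.sum_eq_zero
      intro ξ hξ
      rw [classInner_zsmul_right, hΓorth ξ hξ, mul_zero]
    exact this P hPdef.symm
  have hPP : Cfsg.classInner P P = ∑ ξ ∈ S₀, (z ξ : ℂ) ^ 2 := by
    have : ∀ Q, Q = ∑ ξ ∈ S₀, (z ξ) • τ₁ ξ →
        Cfsg.classInner P Q = ∑ ξ ∈ S₀, (z ξ : ℂ) ^ 2 := by
      intro Q hQ
      rw [hQ, h7_classInner_sum_right]
      apply Finset.sum_congr rfl
      intro ξ hξ
      rw [classInner_zsmul_right, hPτ₁ ξ hξ]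
      ring
    exact this P hPdef.symm
  obtain ⟨g, hg⟩ := genChar_norm_nat (T - P) hΓgen
  have hpyth : (g : ℂ) + ∑ ξ ∈ S₀, (z ξ : ℂ) ^ 2 = 1 + (a : ℂ) ^ 2 := by
    rw [← hTnorm, ← hg, ← hPP]
    have hT : T = (T - P) + P := by abel
    conv_rhs => rw [hT]
    rw [classInner_add_left', h7_classInner_add_right, h7_classInner_add_right, hΓP,
      Cfsg.Agent.Lib.Helper11.classInner_conj_symm P (T - P), hΓP, map_zero]
    ring
  have hpythZ : (g : ℤ) + ∑ ξ ∈ S₀, (z ξ) ^ 2 = 1 + (a : ℤ) ^ 2 := by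
    have : (((g : ℤ) + ∑ ξ ∈ S₀, (z ξ) ^ 2 : ℤ) : ℂ) = ((1 + (a : ℤ) ^ 2 : ℤ) : ℂ) := by
      push_cast
      exact hpyth
    exact_mod_cast this
  have hsum1 : (d ψ : ℤ) ^ 2 * ∑ ξ ∈ S₀, (z ξ) ^ 2 =
      (d ψ : ℤ) ^ 2 * (z ψ) ^ 2 + (z ψ + a) ^ 2 * ∑ ξ ∈ S₀.erase ψ, (d ξ : ℤ) ^ 2 := by
    rw [← Finset.add_sum_erase S₀ _ hψ, mul_add, Finset.mul_sum, Finset.mul_sum]
    congr 1
    apply Finset.sum_congr rfl
    intro ξ hξ
    have hne := (Finset.mem_erase.mp hξ).1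
    have hmem := (Finset.mem_erase.mp hξ).2
    have := hrel ξ hmem
    rw [if_neg hne, sub_zero] at this
    calc (d ψ : ℤ) ^ 2 * (z ξ) ^ 2 = ((d ψ : ℤ) * z ξ) ^ 2 := by ring
      _ = ((d ξ : ℤ) * (z ψ + a)) ^ 2 := by rw [this]
      _ = (z ψ + a) ^ 2 * (d ξ : ℤ) ^ 2 := by ring
  have hSig : ((∑ ξ ∈ S₀, d ξ ^ 2 : ℕ) : ℤ) =
      (d ψ : ℤ) ^ 2 + ∑ ξ ∈ S₀.erase ψ, (d ξ : ℤ) ^ 2 := by
    rw [← Finset.add_sum_erase S₀ _ hψ]
    push_cast
    rfl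
  have hE : (d ψ : ℤ) ^ 2 * ((g : ℤ) - 1) + (z ψ + a) * ((z ψ + a) *
      ((∑ ξ ∈ S₀, d ξ ^ 2 : ℕ) : ℤ) - 2 * d ψ * d χ) = 0 := by
    rw [hSig, ha]
    push_cast
    have h1 := congrArg (fun x => (d ψ : ℤ) ^ 2 * x) hpythZ
    simp only [mul_add] at h1
    rw [hsum1] at h1
    linear_combination h1
  have hDpos : (0 : ℤ) < (d ψ : ℤ) := by exact_mod_cast hdpos ψ hψ'
  have hDχpos : (0 : ℤ) < (d χ : ℤ) := by exact_mod_cast hdpos χ hχ'
  have hltZ : 2 * (d ψ : ℤ) * (d χ : ℤ) < ((∑ ξ ∈ S₀, d ξ ^ 2 : ℕ) : ℤ) := by exact_mod_cast hlt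
  by_cases ht : z ψ + a = 0
  · have hzψ : z ψ = -(a : ℤ) := by linarith
    have hzother : ∀ ξ ∈ S₀, ξ ≠ ψ → z ξ = 0 := by
      intro ξ hξ hne
      have := hrel ξ hξ
      rw [if_neg hne, ht, mul_zero, sub_zero] at this
      rcases mul_eq_zero.mp this with h | h
      · exact absurd h hDpos.ne'
      · exact h
    have hg1 : g = 1 := by
      rw [ht, zero_mul, add_zero] at hE
      rcases mul_eq_zero.mp hE with h | h
      · exact absurd (pow_eq_zero_iff two_ne_zero |>.mp h) hDpos.ne'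
      · have : (g : ℤ) = 1 := by linarith
        exact_mod_cast this
    have hPeq : P = (-(a : ℤ)) • τ₁ ψ := by
      rw [← hPdef, Finset.sum_eq_single ψ]
      · rw [hzψ]
      · intro b hb hne
        rw [hzother b hb hne, zero_smul]
      · intro h
        exact absurd hψ h
    have hΓnorm : Cfsg.classInner (T - P) (T - P) = 1 := by
      rw [hg, hg1]
      simp
    generalize hΓdef : T - P = Γ at hΓgen hΓorth hΓnorm
    have hTeq : T = Γ + (-(a : ℤ)) • τ₁ ψ := by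
      rw [← hΓdef, hPeq]
      abel
    have hspanχ : ∀ x ∈ Cfsg.zspan ({χ} : Set (N → ℂ)), ∃ n : ℤ, x = n • χ := by
      intro x hx
      unfold Cfsg.zspan at hx
      rw [SetLike.mem_coe, Submodule.mem_span_singleton] at hx
      obtain ⟨n, rfl⟩ := hx
      exact ⟨n, rfl⟩
    have hχχ : Cfsg.classInner χ χ = 1 := by
      rw [horth χ hχ' χ hχ', if_pos rfl]
    have hσ'χ : ∀ n : ℤ, Cfsg.classInner (n • χ) χ • Γ = n • Γ := by
      intro n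
      rw [classInner_zsmul_left, hχχ, mul_one, Int.cast_smul_eq_zsmul]
    have hσ' : Cfsg.IsLinearIsometryOn (Cfsg.zspan ({χ} : Set (N → ℂ)))
        (fun x => Cfsg.classInner x χ • Γ) := by
      refine ⟨?_, ?_, ?_, ?_⟩
      · intro a _ b _
        show Cfsg.classInner (a + b) χ • Γ = _
        rw [classInner_add_left', add_smul]
      · intro a _ n
        show Cfsg.classInner (n • a) χ • Γ = n • (Cfsg.classInner a χ • Γ)
        rw [classInner_zsmul_left, mul_smul, Int.cast_smul_eq_zsmul]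
      · intro a ha b hb
        obtain ⟨n, rfl⟩ := hspanχ a ha
        obtain ⟨m, rfl⟩ := hspanχ b hb
        show Cfsg.classInner (Cfsg.classInner (n • χ) χ • Γ) (Cfsg.classInner (m • χ) χ • Γ) = _
        rw [hσ'χ, hσ'χ, classInner_zsmul_left, classInner_zsmul_right, classInner_zsmul_left,
          classInner_zsmul_right, hΓnorm, hχχ]
      · intro a ha
        obtain ⟨n, rfl⟩ := hspanχ a ha
        show Cfsg.IsGeneralizedCharacter G (Cfsg.classInner (n • χ) χ • Γ)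
        rw [hσ'χ]
        exact genChar_zsmul n hΓgen
    have hFX : ∀ a, a ∈ ({χ} : Finset (N → ℂ)) ↔ a ∈ ({χ} : Set (N → ℂ)) := by
      intro a
      simp
    have hFY : ∀ a, a ∈ S₀ ↔ a ∈ (↑S₀ : Set (N → ℂ)) := fun a => Finset.mem_coe.symm
    have hunion : (↑(insert χ S₀) : Set (N → ℂ)) = {χ} ∪ ↑S₀ := by
      rw [Finset.coe_insert]
      rfl
    have horthU : ∀ a ∈ ({χ} : Set (N → ℂ)) ∪ ↑S₀, ∀ b ∈ ({χ} : Set (N → ℂ)) ∪ ↑S₀,
        Cfsg.classInner a b = if a = b then 1 else 0 := by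
      intro a ha b hb
      rw [← hunion] at ha hb
      exact horth a (Finset.mem_coe.mp ha) b (Finset.mem_coe.mp hb)
    have hdisj : Disjoint ({χ} : Set (N → ℂ)) ↑S₀ := by
      rw [Set.disjoint_singleton_left]
      exact fun h => hχS (Finset.mem_coe.mp h)
    have hcr : ∀ x ∈ ({χ} : Set (N → ℂ)), ∀ η ∈ (↑S₀ : Set (N → ℂ)),
        Cfsg.classInner ((fun x => Cfsg.classInner x χ • Γ) x) (τ₁ η) = 0 := by
      intro x hx η hη
      show Cfsg.classInner (Cfsg.classInner x χ • Γ) (τ₁ η) = 0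
      rw [classInner_smul_left', hΓorth η (Finset.mem_coe.mp hη), mul_zero]
    have hglue := glue_isometry ({χ} : Set (N → ℂ)) ↑S₀ {χ} S₀ hFX hFY horthU hdisj
      (fun x => Cfsg.classInner x χ • Γ) τ₁ hσ' hτ₁ hcr
    have hdec := zspan_union_decomp ({χ} : Set (N → ℂ)) ↑S₀ {χ} S₀ hFX hFY horthU hdisj
    rw [← hunion] at hglue hdec
    refine ⟨⟨α₀, zspanOn_mono hS₀sub _ hα₀mem, hα₀ne⟩,
      fun θ => (fun x => Cfsg.classInner x χ • Γ) (projOn {χ} θ) + τ₁ (projOn S₀ θ), hglue, ?_⟩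
    intro θ hθ
    obtain ⟨hx, hy, hθeq⟩ := hdec θ hθ.1
    show Cfsg.classInner (projOn {χ} θ) χ • Γ + τ₁ (projOn S₀ θ) = τ θ
    obtain ⟨n, hn⟩ := hspanχ _ hx
    rw [hn] at hθeq ⊢
    rw [hσ'χ]
    generalize projOn S₀ θ = y at hy hθeq ⊢
    have hθ1 : θ 1 = 0 := hθ.2 1 (by simp)
    have hy1 : y 1 = -((n : ℂ) * (d χ : ℂ)) := by
      have h := congrFun hθeq 1
      rw [hθ1, Pi.add_apply, Pi.smul_apply, hd χ hχ', zsmul_eq_mul] at h
      linear_combination -h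
    have hs'mem : (y + (n * (a : ℤ)) • ψ) ∈ Cfsg.zspanOn (↑S₀ : Set (N → ℂ)) {1}ᶜ := by
      apply mem_zspanOn_one (zspan_add hy (zspan_zsmul _ (hmemS₀ ψ hψ)))
      simp only [Pi.add_apply, Pi.smul_apply]
      simp only [zsmul_eq_mul, hy1, hd ψ hψ', ha]
      push_cast
      ring
    have hθsplit : θ = n • (χ - (a : ℤ) • ψ) + (y + (n * (a : ℤ)) • ψ) := by
      rw [hθeq]
      funext g
      simp only [Pi.add_apply, Pi.sub_apply, Pi.smul_apply]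
      simp only [zsmul_eq_mul]
      push_cast
      ring
    rw [hθsplit, hτ.1 _ (zspanOn_zsmul n hβmem) _ (zspanOn_mono hS₀sub _ hs'mem),
      hτ.2.1 _ hβmem n, hTdef, ← hτ₁τ _ hs'mem,
      hτ₁.1 _ hy _ (zspan_zsmul _ (hmemS₀ ψ hψ)), hτ₁.2.1 ψ (hmemS₀ ψ hψ), hTeq]
    funext g
    simp only [Pi.add_apply, Pi.smul_apply]
    simp only [zsmul_eq_mul]
    push_cast
    ring
  · exfalso
    generalize hSdef : ((∑ ξ ∈ S₀, d ξ ^ 2 : ℕ) : ℤ) = Sg at hE hltZ hSig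
    generalize htdef : z ψ + (a : ℤ) = t at hE ht hsum1 hrel
    have hSgpos : 0 < Sg := by nlinarith
    have hprod : 0 < t * (t * Sg - 2 * d ψ * d χ) := by
      rcases lt_or_gt_of_ne ht with h | h
      · have h1 : t ≤ -1 := by omega
        have h2 : t * Sg - 2 * d ψ * d χ < 0 := by nlinarith
        exact mul_pos_of_neg_of_neg h h2
      · have h1 : 1 ≤ t := by omega
        have h2 : 0 < t * Sg - 2 * d ψ * d χ := by nlinarith
        exact mul_pos h h2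
    have hg0 : g = 0 := by
      by_contra hne
      have : (1 : ℤ) ≤ g := by
        have := Nat.pos_of_ne_zero hne
        exact_mod_cast this
      nlinarith [sq_nonneg (d ψ : ℤ)]
    rw [hg0, Nat.cast_zero] at hg
    have hTP : T = P := sub_eq_zero.mp (eq_zero_of_classInner_self _ hg)
    have hT1 : T 1 = 0 := by
      rw [← hTdef]
      exact hτ1 _ hβmem
    have hdeg1 : ∀ ξ ∈ S₀, (d ψ : ℂ) * τ₁ ξ 1 = (d ξ : ℂ) * τ₁ ψ 1 := by
      intro ξ hξ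
      have hξ' : ξ ∈ insert χ S₀ := Finset.mem_insert_of_mem hξ
      have hωz : ((d ψ : ℤ) • ξ - (d ξ : ℤ) • ψ) ∈ Cfsg.zspan (↑S₀ : Set (N → ℂ)) :=
        zspan_sub (zspan_zsmul _ (hmemS₀ ξ hξ)) (zspan_zsmul _ (hmemS₀ ψ hψ))
      have h1 := h0τ₁ _ hωz (by
        simp only [Pi.sub_apply, Pi.smul_apply]
        simp only [zsmul_eq_mul, hd ξ hξ', hd ψ hψ']
        push_cast
        ring)
      rw [isoOn_map_sub hτ₁ (zspan_zsmul _ (hmemS₀ ξ hξ)) (zspan_zsmul _ (hmemS₀ ψ hψ)),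
        hτ₁.2.1 ξ (hmemS₀ ξ hξ), hτ₁.2.1 ψ (hmemS₀ ψ hψ)] at h1
      simp only [Pi.sub_apply, Pi.smul_apply] at h1
      simp only [zsmul_eq_mul] at h1
      push_cast at h1
      linear_combination h1
    have hτ₁ψ1 : τ₁ ψ 1 ≠ 0 := by
      intro h0
      have h1 := irr_one_ne_zero ⟨_, hirrτ₁ ψ (Finset.mem_coe.mpr hψ)⟩
      apply h1
      show (ε • τ₁ ψ) 1 = 0
      rw [Pi.smul_apply, h0, smul_zero]
    have hsum0 : ∑ ξ ∈ S₀, (z ξ : ℂ) * (d ξ : ℂ) = 0 := by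
      have h1 : (d ψ : ℂ) * P 1 = τ₁ ψ 1 * ∑ ξ ∈ S₀, (z ξ : ℂ) * (d ξ : ℂ) := by
        rw [← hPdef, Finset.sum_apply, Finset.mul_sum, Finset.mul_sum]
        apply Finset.sum_congr rfl
        intro ξ hξ
        rw [Pi.smul_apply, zsmul_eq_mul]
        linear_combination (z ξ : ℂ) * hdeg1 ξ hξ
      rw [← hTP, hT1, mul_zero] at h1
      rcases mul_eq_zero.mp h1.symm with h | h
      · exact absurd h hτ₁ψ1
      · exact h
    have hsum0Z : ∑ ξ ∈ S₀, (z ξ) * (d ξ : ℤ) = 0 := by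
      have : ((∑ ξ ∈ S₀, (z ξ) * (d ξ : ℤ) : ℤ) : ℂ) = 0 := by
        push_cast
        exact hsum0
      exact_mod_cast this
    have hsum2 : (d ψ : ℤ) * ∑ ξ ∈ S₀, (z ξ) * (d ξ : ℤ) = t * Sg - (d ψ : ℤ) * (d χ : ℤ) := by
      rw [hSig, ← Finset.add_sum_erase S₀ _ hψ, mul_add, Finset.mul_sum, mul_add,
        Finset.mul_sum]
      have h1 : ∀ ξ ∈ S₀.erase ψ, (d ψ : ℤ) * (z ξ * (d ξ : ℤ)) = t * (d ξ : ℤ) ^ 2 := by
        intro ξ hξ
        have hne := (Finset.mem_erase.mp hξ).1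
        have hmem := (Finset.mem_erase.mp hξ).2
        have := hrel ξ hmem
        rw [if_neg hne, sub_zero] at this
        calc (d ψ : ℤ) * (z ξ * (d ξ : ℤ)) = ((d ψ : ℤ) * z ξ) * (d ξ : ℤ) := by ring
          _ = ((d ξ : ℤ) * t) * (d ξ : ℤ) := by rw [this]
          _ = t * (d ξ : ℤ) ^ 2 := by ring
      rw [Finset.sum_congr rfl h1]
      have h2 : z ψ = t - a := by rw [← htdef]; ring
      rw [h2, ha]
      push_cast
      ring
    rw [hsum0Z, mul_zero] at hsum2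
    rw [hg0] at hE
    have h3 : t * Sg = (d ψ : ℤ) * (d χ : ℤ) := by linarith
    have h4 : 0 < t := by
      by_contra hneg
      push Not at hneg
      have : t * Sg ≤ 0 := mul_nonpos_of_nonpos_of_nonneg hneg hSgpos.le
      have h5 : 0 < (d ψ : ℤ) * (d χ : ℤ) := mul_pos hDpos hDχpos
      linarith
    have h5 : t * (t * Sg - 2 * d ψ * d χ) = -(t * ((d ψ : ℤ) * (d χ : ℤ))) := by
      rw [h3]; ring
    rw [h5] at hE
    have h6 : 0 < t * ((d ψ : ℤ) * (d χ : ℤ)) := mul_pos h4 (mul_pos hDpos hDχpos)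
    push_cast at hE
    nlinarith [sq_nonneg (d ψ : ℤ)]

end Cfsg.Agent.S1530
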