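import Cfsg.Statements.S1531
import Mathlib
import Cfsg.Agent.Lib.Helper11.Coherence
import Cfsg.Agent.S1529

set_option autoImplicit false
open Cfsg

namespace Cfsg.Agent.S1531

open Cfsg.Agent.Lib.Helper11 Cfsg.Agent.Lib.helper7 Cfsg.Agent.Lib.helper2 Cfsg.Agent.Lib.Helper25
open scoped ComplexConjugate


/-- Let N be a subgroup of the finite group G, S a set of irreducible characters of N, and α a linear isometry on the integer combinations of S vanishing at 1 with values virtual characters of G vanishing at 1. Let X, Y ⊆ S be disjoint, each with at least two members, and σ, τ linear isometries on ℤ[X], ℤ[Y] into virtual characters agreeing with α on the members vanishing at 1. Then ⟨σ χ, τ η⟩ = 0 for χ ∈ X, η ∈ Y; and if for some χ₀ ∈ X, η₀ ∈ Y with degrees c = χ₀ 1, e = η₀ 1 one has α (c • η₀ − e • χ₀) = c • τ η₀ − e • σ χ₀, then (X ∪ Y, N minus 1, α) is coherent. -/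
theorem result {G : Type*} [Group G] [Fintype G] (N : Subgroup G) [Fintype N] (S X Y : Set (N → ℂ)) (hirr : ∀ ξ ∈ S, Cfsg.IsIrrCharacter N ξ) (hXS : X ⊆ S) (hYS : Y ⊆ S) (hXY : Disjoint X Y) (hX2 : ∃ a ∈ X, ∃ b ∈ X, a ≠ b) (hY2 : ∃ a ∈ Y, ∃ b ∈ Y, a ≠ b) (α : (N → ℂ) → (G → ℂ)) (hα : Cfsg.IsLinearIsometryOn (Cfsg.zspanOn S {1}ᶜ) α) (hα1 : ∀ θ ∈ Cfsg.zspanOn S {1}ᶜ, α θ 1 = 0) (σ τ : (N → ℂ) → (G → ℂ)) (hσ : Cfsg.IsLinearIsometryOn (Cfsg.zspan X) σ) (hσα : ∀ θ ∈ Cfsg.zspanOn X {1}ᶜ, σ θ = α θ) (hτ : Cfsg.IsLinearIsometryOn (Cfsg.zspan Y) τ) (hτα : ∀ θ ∈ Cfsg.zspanOn Y {1}ᶜ, τ θ = α θ) : (∀ χ ∈ X, ∀ η ∈ Y, Cfsg.classInner (σ χ) (τ η) = 0) ∧ ((∃ χ₀ ∈ X, ∃ η₀ ∈ Y, α (χ₀ 1 • η₀ - η₀ 1 • χ₀) = χ₀ 1 • τ η₀ - η₀ 1 • σ χ₀) → Cfsg.IsCoherent (X ∪ Y) {1}ᶜ α) := by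
  classical
  have hSfin : {f : N → ℂ | Cfsg.IsIrrCharacter N f}.Finite := by
    have : {f : N → ℂ | Cfsg.IsIrrCharacter N f} =
        Set.range (Subtype.val : Cfsg.IrrCharacter N → N → ℂ) := by
      ext f
      simp
    rw [this]
    exact Set.finite_range _
  have hXfin : X.Finite := hSfin.subset (fun a ha => hirr a (hXS ha))
  have hYfin : Y.Finite := hSfin.subset (fun a ha => hirr a (hYS ha))
  have hFX : ∀ a, a ∈ hXfin.toFinset ↔ a ∈ X := fun a => hXfin.mem_toFinset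
  have hFY : ∀ a, a ∈ hYfin.toFinset ↔ a ∈ Y := fun a => hYfin.mem_toFinset
  generalize hXfin.toFinset = FX at hFX
  generalize hYfin.toFinset = FY at hFY
  have horthS : ∀ a ∈ S, ∀ b ∈ S, Cfsg.classInner a b = if a = b then 1 else 0 := by
    intro a ha b hb
    have := irr_classInner ⟨a, hirr a ha⟩ ⟨b, hirr b hb⟩
    simp only at this
    rw [this]
    by_cases h : a = b
    · subst h
      simp
    · rw [if_neg h, if_neg (fun e => h (congrArg Subtype.val e))]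
  have hdeg : ∀ a ∈ S, ∃ d : ℕ, 0 < d ∧ a 1 = (d : ℂ) :=
    fun a ha => irr_one_eq_finrank ⟨a, hirr a ha⟩
  have h0σ : ∀ θ ∈ Cfsg.zspan X, θ 1 = 0 → σ θ 1 = 0 := by
    intro θ hθ h1
    have hm := mem_zspanOn_one hθ h1
    rw [hσα θ hm]
    exact hα1 θ (zspanOn_mono hXS _ hm)
  have h0τ : ∀ θ ∈ Cfsg.zspan Y, θ 1 = 0 → τ θ 1 = 0 := by
    intro θ hθ h1
    have hm := mem_zspanOn_one hθ h1
    rw [hτα θ hm]
    exact hα1 θ (zspanOn_mono hYS _ hm)
  obtain ⟨εX, hεX, hirrX, hinjX⟩ :=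
    Cfsg.Agent.S1529.result N X (fun a ha => hirr a (hXS ha)) hX2 σ hσ h0σ
  obtain ⟨εY, hεY, hirrY, hinjY⟩ :=
    Cfsg.Agent.S1529.result N Y (fun a ha => hirr a (hYS ha)) hY2 τ hτ h0τ
  have hεX2 : εX * εX = 1 := by
    rcases hεX with h | h <;> rw [h] <;> norm_num
  have hεY2 : εY * εY = 1 := by
    rcases hεY with h | h <;> rw [h] <;> norm_num
  have hεYc : conj εY = εY := by
    rcases hεY with h | h <;> rw [h] <;> simp
  have hεXY : εX * εY ≠ 0 := by
    intro h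
    have : (εX * εY) * (εX * εY) = 1 := by
      calc (εX * εY) * (εX * εY) = (εX * εX) * (εY * εY) := by ring
        _ = 1 := by rw [hεX2, hεY2, one_mul]
    rw [h, zero_mul] at this
    exact zero_ne_one this
  have hσε : ∀ χ : N → ℂ, σ χ = εX • (εX • σ χ) := by
    intro χ
    rw [smul_smul, hεX2, one_smul]
  have hτε : ∀ η : N → ℂ, τ η = εY • (εY • τ η) := by
    intro η
    rw [smul_smul, hεY2, one_smul]
  have hinner : ∀ χ ∈ X, ∀ η ∈ Y, Cfsg.classInner (σ χ) (τ η) =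
      εX * εY * (if εX • σ χ = εY • τ η then 1 else 0) := by
    intro χ hχ η hη
    conv_lhs => rw [hσε χ, hτε η]
    rw [classInner_smul_left', h7_classInner_smul_right, hεYc]
    have := irr_classInner ⟨_, hirrX χ hχ⟩ ⟨_, hirrY η hη⟩
    simp only [Subtype.mk.injEq] at this
    rw [this]
    ring
  have hsmul_inj : ∀ (ε : ℂ), ε * ε = 1 → ∀ a b : G → ℂ, ε • a = ε • b → a = b := by
    intro ε hε a b hab
    have := congrArg (fun f => ε • f) hab
    simp only [smul_smul, hε, one_smul] at this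
    exact this
  have hneXY : ∀ a ∈ X, ∀ b ∈ Y, a ≠ b := by
    intro a ha b hb hab
    rw [hab] at ha
    exact (Set.disjoint_left.mp hXY) ha hb
  have part1 : ∀ χ ∈ X, ∀ η ∈ Y, Cfsg.classInner (σ χ) (τ η) = 0 := by
    intro χ hχ η hη
    by_contra hcon
    have hEq : εX • σ χ = εY • τ η := by
      by_contra hne
      apply hcon
      rw [hinner χ hχ η hη, if_neg hne, mul_zero]
    obtain ⟨χ', hχ', hneχ⟩ : ∃ χ' ∈ X, χ' ≠ χ := by
      obtain ⟨a, ha, b, hb, hab⟩ := hX2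
      by_cases h : a = χ
      · exact ⟨b, hb, fun e => hab (h.trans e.symm)⟩
      · exact ⟨a, ha, h⟩
    obtain ⟨η', hη', hneη⟩ : ∃ η' ∈ Y, η' ≠ η := by
      obtain ⟨a, ha, b, hb, hab⟩ := hY2
      by_cases h : a = η
      · exact ⟨b, hb, fun e => hab (h.trans e.symm)⟩
      · exact ⟨a, ha, h⟩
    obtain ⟨d, hd, hd1⟩ := hdeg χ (hXS hχ)
    obtain ⟨d', hd', hd1'⟩ := hdeg χ' (hXS hχ')
    obtain ⟨e, he, he1⟩ := hdeg η (hYS hη)
    obtain ⟨e', he', he1'⟩ := hdeg η' (hYS hη')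
    have hχz := zspan_of_mem hχ
    have hχ'z := zspan_of_mem hχ'
    have hηz := zspan_of_mem hη
    have hη'z := zspan_of_mem hη'
    have hu_mem : ((d' : ℤ) • χ - (d : ℤ) • χ') ∈ Cfsg.zspanOn X {1}ᶜ := by
      apply mem_zspanOn_one (zspan_sub (zspan_zsmul _ hχz) (zspan_zsmul _ hχ'z))
      simp only [Pi.sub_apply, Pi.smul_apply]
      simp only [zsmul_eq_mul, hd1, hd1']
      push_cast
      ring
    have hv_mem : ((e' : ℤ) • η - (e : ℤ) • η') ∈ Cfsg.zspanOn Y {1}ᶜ := by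
      apply mem_zspanOn_one (zspan_sub (zspan_zsmul _ hηz) (zspan_zsmul _ hη'z))
      simp only [Pi.sub_apply, Pi.smul_apply]
      simp only [zsmul_eq_mul, he1, he1']
      push_cast
      ring
    have hσu : σ ((d' : ℤ) • χ - (d : ℤ) • χ') = (d' : ℤ) • σ χ - (d : ℤ) • σ χ' := by
      rw [isoOn_map_sub hσ (zspan_zsmul _ hχz) (zspan_zsmul _ hχ'z), hσ.2.1 χ hχz,
        hσ.2.1 χ' hχ'z]
    have hτv : τ ((e' : ℤ) • η - (e : ℤ) • η') = (e' : ℤ) • τ η - (e : ℤ) • τ η' := by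
      rw [isoOn_map_sub hτ (zspan_zsmul _ hηz) (zspan_zsmul _ hη'z), hτ.2.1 η hηz,
        hτ.2.1 η' hη'z]
    have hzero : Cfsg.classInner (σ ((d' : ℤ) • χ - (d : ℤ) • χ'))
        (τ ((e' : ℤ) • η - (e : ℤ) • η')) = 0 := by
      rw [hσα _ hu_mem, hτα _ hv_mem,
        hα.2.2.1 _ (zspanOn_mono hXS _ hu_mem) _ (zspanOn_mono hYS _ hv_mem)]
      simp only [classInner_sub_left', classInner_sub_right', classInner_zsmul_left,
        classInner_zsmul_right]
      rw [horthS χ (hXS hχ) η (hYS hη), if_neg (hneXY χ hχ η hη),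
        horthS χ (hXS hχ) η' (hYS hη'), if_neg (hneXY χ hχ η' hη'),
        horthS χ' (hXS hχ') η (hYS hη), if_neg (hneXY χ' hχ' η hη),
        horthS χ' (hXS hχ') η' (hYS hη'), if_neg (hneXY χ' hχ' η' hη')]
      ring
    rw [hσu, hτv] at hzero
    simp only [classInner_sub_left', classInner_sub_right', classInner_zsmul_left,
      classInner_zsmul_right] at hzero
    have hn1 : ¬ (εX • σ χ = εY • τ η') := by
      intro h
      apply hneη
      have h2 : εY • τ η = εY • τ η' := hEq.symm.trans h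
      exact (hinjY η hη η' hη' (hsmul_inj εY hεY2 _ _ h2)).symm
    have hn2 : ¬ (εX • σ χ' = εY • τ η) := by
      intro h
      apply hneχ
      have h2 : εX • σ χ' = εX • σ χ := h.trans hEq.symm
      exact hinjX χ' hχ' χ hχ (hsmul_inj εX hεX2 _ _ h2)
    rw [hinner χ hχ η hη, hinner χ hχ η' hη', hinner χ' hχ' η hη, hinner χ' hχ' η' hη',
      if_pos hEq, if_neg hn1, if_neg hn2] at hzero
    have hpos1 : ((d' * e' : ℕ) : ℂ) ≠ 0 := by
      exact_mod_cast (Nat.mul_pos hd' he').ne'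
    have hpos2 : ((d' * e' + d * e : ℕ) : ℂ) ≠ 0 := by
      have : 0 < d' * e' + d * e := Nat.add_pos_left (Nat.mul_pos hd' he') _
      exact_mod_cast this.ne'
    by_cases ht : εX • σ χ' = εY • τ η'
    · rw [if_pos ht] at hzero
      have : (εX * εY) * ((d' * e' + d * e : ℕ) : ℂ) = 0 := by
        push_cast
        push_cast at hzero
        linear_combination hzero
      rcases mul_eq_zero.mp this with h | h
      · exact hεXY h
      · exact hpos2 h
    · rw [if_neg ht] at hzero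
      have : (εX * εY) * ((d' * e' : ℕ) : ℂ) = 0 := by
        push_cast
        push_cast at hzero
        linear_combination hzero
      rcases mul_eq_zero.mp this with h | h
      · exact hεXY h
      · exact hpos1 h
  refine ⟨part1, ?_⟩
  rintro ⟨χ₀, hχ₀, η₀, hη₀, hβ⟩
  have hXYS : X ∪ Y ⊆ S := Set.union_subset hXS hYS
  have horthU : ∀ a ∈ X ∪ Y, ∀ b ∈ X ∪ Y, Cfsg.classInner a b = if a = b then 1 else 0 :=
    fun a ha b hb => horthS a (hXYS ha) b (hXYS hb)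
  have hdec := zspan_union_decomp X Y FX FY hFX hFY horthU hXY
  have hcrossσ : ∀ x ∈ Cfsg.zspan X, ∀ y ∈ Cfsg.zspan Y, Cfsg.classInner (σ x) (τ y) = 0 := by
    intro x hx y hy
    have h1 : ∀ χ ∈ X, Cfsg.classInner (σ χ) (τ y) = 0 := by
      intro χ hχ
      exact isoOn_span_induction hτ (fun w => Cfsg.classInner (σ χ) w)
        (fun a b => classInner_add_right' _ a b) (fun n a => classInner_zsmul_right n _ a)
        (fun η hη => part1 χ hχ η hη) y hy
    exact isoOn_span_induction hσ (fun w => Cfsg.classInner w (τ y))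
      (fun a b => classInner_add_left' a b _) (fun n a => classInner_zsmul_left n a _) h1 x hx
  have hcross : ∀ x ∈ Cfsg.zspan X, ∀ y ∈ Cfsg.zspan Y, Cfsg.classInner x y = 0 := by
    intro x hx y hy
    have h1 : ∀ χ ∈ X, Cfsg.classInner χ y = 0 := by
      intro χ hχ
      exact zspan_induction_zero (fun w => Cfsg.classInner χ w)
        (fun a b => classInner_add_right' _ a b) (fun n a => classInner_zsmul_right n _ a)
        (fun η hη => by
          show Cfsg.classInner χ η = 0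
          rw [horthS χ (hXS hχ) η (hYS hη), if_neg (hneXY χ hχ η hη)]) y hy
    exact zspan_induction_zero (fun w => Cfsg.classInner w y)
      (fun a b => classInner_add_left' a b _) (fun n a => classInner_zsmul_left n a _) h1 x hx
  refine ⟨?_, fun θ => σ (projOn FX θ) + τ (projOn FY θ), ⟨?_, ?_, ?_, ?_⟩, ?_⟩
  · obtain ⟨a, ha, b, hb, hab⟩ := hX2
    obtain ⟨da, hda, hda1⟩ := hdeg a (hXS ha)
    obtain ⟨db, hdb, hdb1⟩ := hdeg b (hXS hb)
    refine ⟨(db : ℤ) • a - (da : ℤ) • b, ?_, ?_⟩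
    · apply mem_zspanOn_one (zspan_sub (zspan_zsmul _ (zspan_of_mem (Or.inl ha)))
        (zspan_zsmul _ (zspan_of_mem (Or.inl hb))))
      simp only [Pi.sub_apply, Pi.smul_apply]
      simp only [zsmul_eq_mul, hda1, hdb1]
      push_cast
      ring
    · intro h0
      have h1 : Cfsg.classInner ((db : ℤ) • a - (da : ℤ) • b) a = (db : ℂ) := by
        rw [classInner_sub_left', classInner_zsmul_left, classInner_zsmul_left,
          horthS a (hXS ha) a (hXS ha), if_pos rfl, horthS b (hXS hb) a (hXS ha),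
          if_neg (Ne.symm hab)]
        push_cast
        ring
      rw [h0, classInner_zero_left'] at h1
      have : (db : ℂ) ≠ 0 := by exact_mod_cast hdb.ne'
      exact this h1.symm
  · intro a ha b hb
    obtain ⟨hxa, hya, -⟩ := hdec a ha
    obtain ⟨hxb, hyb, -⟩ := hdec b hb
    simp only
    rw [projOn_add, projOn_add, hσ.1 _ hxa _ hxb, hτ.1 _ hya _ hyb]
    abel
  · intro a ha n
    obtain ⟨hxa, hya, -⟩ := hdec a ha
    simp only
    rw [projOn_zsmul, projOn_zsmul, hσ.2.1 _ hxa n, hτ.2.1 _ hya n, smul_add]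
  · intro a ha b hb
    obtain ⟨hxa, hya, haeq⟩ := hdec a ha
    obtain ⟨hxb, hyb, hbeq⟩ := hdec b hb
    simp only
    conv_rhs => rw [haeq, hbeq]
    simp only [classInner_add_left', classInner_add_right']
    rw [hσ.2.2.1 _ hxa _ hxb, hτ.2.2.1 _ hya _ hyb, hcrossσ _ hxa _ hyb, hcross _ hxa _ hyb,
      Cfsg.Agent.Lib.Helper11.classInner_conj_symm (τ (projOn FY a)) (σ (projOn FX b)),
      hcrossσ _ hxb _ hya,
      Cfsg.Agent.Lib.Helper11.classInner_conj_symm (projOn FY a) (projOn FX b),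
      hcross _ hxb _ hya]
  · intro a ha
    obtain ⟨hxa, hya, -⟩ := hdec a ha
    exact genChar_add (hσ.2.2.2 _ hxa) (hτ.2.2.2 _ hya)
  · intro θ hθ
    obtain ⟨hx, hy, hθeq⟩ := hdec θ hθ.1
    show σ (projOn FX θ) + τ (projOn FY θ) = α θ
    have hθ1 : θ 1 = 0 := hθ.2 1 (by simp)
    obtain ⟨c, hc, hc1⟩ := hdeg χ₀ (hXS hχ₀)
    obtain ⟨e, he, he1⟩ := hdeg η₀ (hYS hη₀)
    obtain ⟨m, hm⟩ := zspan_int_at_one (X := X) (fun χ hχ => by
      obtain ⟨d, _, h⟩ := hdeg χ (hXS hχ)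
      exact ⟨(d : ℤ), by rw [h]; push_cast; rfl⟩) _ hx
    generalize projOn FX θ = x at hx hθeq hm ⊢
    generalize projOn FY θ = y at hy hθeq ⊢
    have hy1 : y 1 = -(m : ℂ) := by
      have h := congrFun hθeq 1
      rw [hθ1, Pi.add_apply, hm] at h
      linear_combination -h
    have hχ₀z : χ₀ ∈ Cfsg.zspan X := zspan_of_mem hχ₀
    have hη₀z : η₀ ∈ Cfsg.zspan Y := zspan_of_mem hη₀
    have hu_mem : ((c : ℤ) • x - m • χ₀) ∈ Cfsg.zspanOn X {1}ᶜ := by
      apply mem_zspanOn_one (zspan_sub (zspan_zsmul _ hx) (zspan_zsmul _ hχ₀z))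
      simp only [Pi.sub_apply, Pi.smul_apply]
      simp only [zsmul_eq_mul, hm, hc1]
      push_cast
      ring
    have hv_mem : ((e : ℤ) • y + m • η₀) ∈ Cfsg.zspanOn Y {1}ᶜ := by
      apply mem_zspanOn_one (zspan_add (zspan_zsmul _ hy) (zspan_zsmul _ hη₀z))
      simp only [Pi.add_apply, Pi.smul_apply]
      simp only [zsmul_eq_mul, hy1, he1]
      push_cast
      ring
    have hβeq : χ₀ 1 • η₀ - η₀ 1 • χ₀ = (c : ℤ) • η₀ - (e : ℤ) • χ₀ := by
      rw [hc1, he1]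
      funext g
      simp only [Pi.sub_apply, Pi.smul_apply]
      simp
    have hβ_mem : ((c : ℤ) • η₀ - (e : ℤ) • χ₀) ∈ Cfsg.zspanOn S {1}ᶜ := by
      apply mem_zspanOn_one (zspan_sub (zspan_zsmul _ (zspan_of_mem (hYS hη₀)))
        (zspan_zsmul _ (zspan_of_mem (hXS hχ₀))))
      simp only [Pi.sub_apply, Pi.smul_apply]
      simp only [zsmul_eq_mul, hc1, he1]
      push_cast
      ring
    have hαβ : α ((c : ℤ) • η₀ - (e : ℤ) • χ₀) = (c : ℤ) • τ η₀ - (e : ℤ) • σ χ₀ := by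
      rw [← hβeq, hβ, hc1, he1]
      funext g
      simp only [Pi.sub_apply, Pi.smul_apply]
      simp
    have hθS : θ ∈ Cfsg.zspanOn S {1}ᶜ := zspanOn_mono hXYS _ hθ
    have huS := zspanOn_mono hXS _ hu_mem
    have hvS := zspanOn_mono hYS _ hv_mem
    have hident : ((c * e : ℕ) : ℤ) • θ =
        ((e : ℤ) • ((c : ℤ) • x - m • χ₀) + (c : ℤ) • ((e : ℤ) • y + m • η₀)) +
          (-m) • ((c : ℤ) • η₀ - (e : ℤ) • χ₀) := by
      rw [hθeq]
      funext g
      simp only [Pi.add_apply, Pi.sub_apply, Pi.smul_apply]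
      simp only [zsmul_eq_mul]
      push_cast
      ring
    have h1 : α (((c * e : ℕ) : ℤ) • θ) = ((c * e : ℕ) : ℤ) • α θ := hα.2.1 θ hθS _
    have h2 : α (((c * e : ℕ) : ℤ) • θ) = ((c * e : ℕ) : ℤ) • (σ x + τ y) := by
      rw [hident, hα.1 _ (zspanOn_add (zspanOn_zsmul _ huS) (zspanOn_zsmul _ hvS)) _
          (zspanOn_zsmul _ hβ_mem),
        hα.1 _ (zspanOn_zsmul _ huS) _ (zspanOn_zsmul _ hvS),
        hα.2.1 _ huS, hα.2.1 _ hvS, hα.2.1 _ hβ_mem, hαβ, ← hσα _ hu_mem, ← hτα _ hv_mem,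
        isoOn_map_sub hσ (zspan_zsmul _ hx) (zspan_zsmul _ hχ₀z), hσ.2.1 x hx, hσ.2.1 χ₀ hχ₀z,
        hτ.1 _ (zspan_zsmul _ hy) _ (zspan_zsmul _ hη₀z), hτ.2.1 y hy, hτ.2.1 η₀ hη₀z]
      funext g
      simp only [Pi.add_apply, Pi.sub_apply, Pi.smul_apply]
      simp only [zsmul_eq_mul]
      push_cast
      ring
    have h3 : ((c * e : ℕ) : ℤ) • (σ x + τ y) = ((c * e : ℕ) : ℤ) • α θ := h2.symm.trans h1
    funext g
    have h4 := congrFun h3 g
    simp only [Pi.smul_apply, zsmul_eq_mul] at h4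
    have hce : (((c * e : ℕ) : ℤ) : ℂ) ≠ 0 := by
      have : 0 < c * e := Nat.mul_pos hc he
      exact_mod_cast this.ne'
    exact mul_left_cancel₀ hce h4

end Cfsg.Agent.S1531
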