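import Cfsg.Statements.S1536
import Mathlib
import Cfsg.Agent.Lib.Helper11.BrauerCount
import Cfsg.Agent.Lib.Helper11.CyclicSZ
import Cfsg.Agent.Lib.Helper11.PowerParts

set_option autoImplicit false
open Cfsg

namespace Cfsg.Agent.S1536

open Cfsg.Agent.Lib.Helper11 Cfsg.Agent.Lib.helper7 Cfsg.Agent.Lib.Helper25
open scoped ComplexConjugate

/-- Glauberman-type step: if some element of the coset `H x` centralizes a non-identity element
of the normal Hall subgroup `H`, so does `x`. -/
theorem glauberman_step {M : Type*} [Group M] [Finite M] (H : Subgroup M) [hN : H.Normal]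
    (hHall : Nat.Coprime (Nat.card H) H.index) (x m n : M) (hm : m ∈ H) (hn : n ∈ H) (hn1 : n ≠ 1)
    (hc : m * n * m⁻¹ = x * n * x⁻¹) : ∃ h ∈ H, h ≠ 1 ∧ x * h = h * x := by
  have hxk : x ^ H.index ∈ H := Subgroup.pow_index_mem H x
  by_cases hx1 : x ^ H.index = 1
  · -- the coprime case
    set y : M := m⁻¹ * x with hy
    have hyn : y * n = n * y := by
      have : y * n * y⁻¹ = n := by
        rw [hy]
        have e : m⁻¹ * x * n * (m⁻¹ * x)⁻¹ = m⁻¹ * (x * n * x⁻¹) * m := by group
        rw [e, ← hc]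
        group
      calc y * n = y * n * y⁻¹ * y := by group
        _ = n * y := by rw [this]
    have hxN : x ∈ Subgroup.normalizer (H : Set M) := by
      rw [Subgroup.normalizer_eq_top]; trivial
    have hyx : y * x⁻¹ ∈ H := by
      have : y * x⁻¹ = m⁻¹ := by rw [hy]; group
      rw [this]
      exact H.inv_mem hm
    obtain ⟨a, ha1, ha0⟩ := Nat.chineseRemainder hHall.symm 1 0
    have hxa : x ^ a = x := pow_eq_of_modEq_one x H.index a hx1 ha1
    have h1 := pow_mem_pair H y x hxN hyx a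
    rw [hxa] at h1
    have hyk : y ^ H.index ∈ H := by
      have := pow_mem_pair H y x hxN hyx H.index
      rw [hx1] at this
      simpa using this
    have hya : (y ^ a) ^ H.index = 1 := by
      rw [← pow_mul, mul_comm, pow_mul]
      apply pow_eq_one_of_dvd _ (Nat.card H) a (pow_card_subgroup_eq_one H _ hyk)
      exact (Nat.modEq_zero_iff_dvd).mp ha0
    obtain ⟨c, hcH, hcx⟩ := conj_of_coprime H.index H x (y ^ a) hxN h1 hx1 hya hHall.symm
    refine ⟨c * n * c⁻¹, hN.conj_mem n hn c, ?_, ?_⟩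
    · intro h
      apply hn1
      have : n = c⁻¹ * (c * n * c⁻¹) * c := by group
      rw [this, h]
      group
    · have hcomm : y ^ a * n = n * y ^ a := (Commute.pow_left hyn a).eq
      rw [← hcx]
      calc c * y ^ a * c⁻¹ * (c * n * c⁻¹) = c * (y ^ a * n) * c⁻¹ := by group
        _ = c * (n * y ^ a) * c⁻¹ := by rw [hcomm]
        _ = c * n * c⁻¹ * (c * y ^ a * c⁻¹) := by group
  · refine ⟨x ^ H.index, hxk, hx1, ?_⟩
    rw [← pow_succ', ← pow_succ]

/-- Let H be a normal subgroup of the finite group M whose order is coprime to its index. For x ∈ M: some non-principal irreducible character of H is unchanged under h ↦ θ(x h x⁻¹) if and only if some non-identity element of H commutes with x. -/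
theorem result {M : Type*} [Group M] [Finite M] (H : Subgroup M) [hN : H.Normal] (hHall : Nat.Coprime (Nat.card H) H.index) (x : M) : (∃ θ : H → ℂ, Cfsg.IsIrrCharacter H θ ∧ θ ≠ (fun _ => 1) ∧ (fun h : H => θ ⟨x * h * x⁻¹, hN.conj_mem h h.2 x⟩) = θ) ↔ ∃ h ∈ H, h ≠ 1 ∧ x * h = h * x := by
  have key := exists_fixed_irr_iff H x
  have e : (∃ θ : H → ℂ, Cfsg.IsIrrCharacter H θ ∧ θ ≠ (fun _ => 1) ∧ (fun h : H => θ ⟨x * h * x⁻¹, hN.conj_mem h h.2 x⟩) = θ) ↔
      (∃ θ : H → ℂ, Cfsg.IsIrrCharacter H θ ∧ θ ≠ (fun _ => 1) ∧ cj H θ x = θ) := Iff.rfl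
  rw [e, key]
  constructor
  · rintro ⟨n, hn1, hconj⟩
    obtain ⟨m, hm⟩ := isConj_iff.mp hconj
    have hm' : (m : M) * n * (m : M)⁻¹ = x * n * x⁻¹ := by
      have := congrArg Subtype.val hm
      simpa [cjElt] using this
    exact glauberman_step H hHall x m n m.2 n.2 (fun h => hn1 (Subtype.ext h)) hm'
  · rintro ⟨h, hH, h1, hcomm⟩
    refine ⟨⟨h, hH⟩, fun e => h1 (congrArg Subtype.val e), ?_⟩
    have : cjElt H x ⟨h, hH⟩ = ⟨h, hH⟩ := by
      apply Subtype.ext
      simp only [cjElt]
      rw [hcomm]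
      group
    rw [this]

end Cfsg.Agent.S1536
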