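import Cfsg.Statements.S1538
import Cfsg.Agent.Lib.Helper1.PF8.TiTwo
import Cfsg.Agent.Lib.Helper1.PF8.DadeE

set_option autoImplicit false

namespace Cfsg.Agent.S1538

open Cfsg.Agent.Lib.Helper1.PF8 in
/-- Let G be a minimal simple group of odd order and M a maximal subgroup of Type II. Then each of A₀(M), A(M), A₁(M) is a TI-subset of G whose set normaliser is M. -/
theorem result {G : Type*} [Group G] [Finite G] (hG : Cfsg.IsMinSimpleOddOrder G) (M : Subgroup G) (hM : IsCoatom M) (hII : Cfsg.IsOfTypeII M) : (Cfsg.IsTISubset (Cfsg.typeA0 M) ∧ Subgroup.normalizer (Cfsg.typeA0 M) = M) ∧ (Cfsg.IsTISubset (Cfsg.typeA M) ∧ Subgroup.normalizer (Cfsg.typeA M) = M) ∧ (Cfsg.IsTISubset (Cfsg.typeA1 M) ∧ Subgroup.normalizer (Cfsg.typeA1 M) = M) := by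
  obtain ⟨K, U, hKU⟩ := exists_sigmaDecomp hG hM
  have hcore := typeII_core hG hM hII
  have h0 := sandwich_typeA0 hG hM hKU hcore
  have h1 := sandwich_typeA hG hM hKU hcore
  have h2 := sandwich_typeA1 hG hM hKU hcore
  exact ⟨h0.ti hG hM hKU (typeII_cent hG hM hKU hII h0),
    h1.ti hG hM hKU (typeII_cent hG hM hKU hII h1),
    h2.ti hG hM hKU (typeII_cent hG hM hKU hII h2)⟩

end Cfsg.Agent.S1538
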