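import Mathlib
import Cfsg.Statements.S1546

set_option autoImplicit false
open Cfsg

namespace Cfsg.Agent.S1546

theorem geom_modEq (p q m : ℕ) (h : p ≡ 1 [MOD m]) : (∑ i ∈ Finset.range q, p ^ i) ≡ q [MOD m] := by
  have h1 : ∀ i ∈ Finset.range q, p ^ i ≡ 1 [MOD m] := by
    intro i _
    simpa using h.pow i
  have : (∑ i ∈ Finset.range q, p ^ i) ≡ ∑ _i ∈ Finset.range q, 1 [MOD m] := by
    unfold Nat.ModEq
    rw [Finset.sum_nat_mod, Finset.sum_nat_mod (f := fun _ => 1)]
    congr 1
    apply Finset.sum_congr rfl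
    intro i hi
    exact h1 i hi
  simpa using this

theorem p_modEq_one_sub (p : ℕ) (hp : 1 ≤ p) : p ≡ 1 [MOD (p - 1)] := by
  have : p = 1 + (p - 1) := by omega
  conv_lhs => rw [this]
  simp [Nat.ModEq]

theorem result (p q : ℕ) (hp : p.Prime) (hq : q.Prime) (hp2 : p ≠ 2) (hq2 : q ≠ 2) : Odd ((p ^ q - 1) / (p - 1)) ∧ (p % q = 1 → q ∣ (p ^ q - 1) / (p - 1)) ∧ (p % q ≠ 1 → Nat.Coprime ((p ^ q - 1) / (p - 1)) (p - 1) ∧ ∀ x : ℕ, x ∣ (p ^ q - 1) / (p - 1) → x % q = 1) := by
  have hp2' : 2 ≤ p := hp.two_le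
  have hq2' : 2 ≤ q := hq.two_le
  rw [← Nat.geomSum_eq hp2' q]
  set N := ∑ i ∈ Finset.range q, p ^ i with hN
  have hpodd : Odd p := hp.odd_of_ne_two hp2
  have hqodd : Odd q := hq.odd_of_ne_two hq2
  have hNq : N ≡ q [MOD (p - 1)] := geom_modEq p q (p - 1) (p_modEq_one_sub p (by omega))
  have h2 : 2 ∣ p - 1 := by
    obtain ⟨k, hk⟩ := hpodd
    exact ⟨k, by omega⟩
  have hNodd : Odd N := by
    have h3 : N ≡ q [MOD 2] := hNq.of_dvd h2
    rw [Nat.odd_iff] at hqodd ⊢
    rw [← hqodd]
    exact h3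
  refine ⟨hNodd, ?_, ?_⟩
  · intro hpq
    have h1 : p ≡ 1 [MOD q] := by
      unfold Nat.ModEq
      rw [hpq, Nat.mod_eq_of_lt (by omega)]
    have h3 : N ≡ q [MOD q] := geom_modEq p q q h1
    have h4 : N ≡ 0 [MOD q] := h3.trans (by simp [Nat.ModEq])
    exact (Nat.modEq_zero_iff_dvd).mp h4
  · intro hpq
    have hcop : Nat.Coprime N (p - 1) := by
      have hg : Nat.gcd N (p - 1) = Nat.gcd q (p - 1) := by
        exact Nat.ModEq.gcd_eq hNq
      unfold Nat.Coprime
      rw [hg]
      rcases Nat.coprime_or_dvd_of_prime hq (p - 1) with h | h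
      · exact h
      · exfalso
        apply hpq
        obtain ⟨k, hk⟩ := h
        have : p = 1 + q * k := by omega
        rw [this, Nat.add_mul_mod_self_left, Nat.mod_eq_of_lt (by omega)]
    refine ⟨hcop, ?_⟩
    intro x
    induction x using Nat.recOnMul with
    | zero =>
      intro h0
      exfalso
      have : N = 0 := Nat.eq_zero_of_zero_dvd h0
      rw [this] at hNodd
      exact absurd hNodd (by decide)
    | one =>
      intro _
      exact Nat.mod_eq_of_lt (by omega)
    | prime r hr =>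
      intro hrN
      have : Fact r.Prime := ⟨hr⟩
      have hpN : (p - 1) * N = p ^ q - 1 := by
        have := Nat.geomSum_eq hp2' q
        rw [hN, this]
        have hdvd : p - 1 ∣ p ^ q - 1 := by
          simpa using Nat.sub_dvd_pow_sub_pow p 1 q
        exact Nat.mul_div_cancel' hdvd
      have hr1 : r ∣ p ^ q - 1 := by
        rw [← hpN]
        exact Dvd.dvd.mul_left hrN _
      have hpos : 1 ≤ p ^ q := Nat.one_le_pow _ _ (by omega)
      have hzq : ((p : ZMod r)) ^ q = 1 := by
        have : ((p ^ q - 1 : ℕ) : ZMod r) = 0 := (ZMod.natCast_eq_zero_iff _ _).mpr hr1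
        rw [Nat.cast_sub hpos] at this
        push_cast at this
        exact sub_eq_zero.mp this
      have hrp : ¬ r ∣ p - 1 := by
        intro hdv
        have h5 := Nat.dvd_gcd hrN hdv
        unfold Nat.Coprime at hcop
        rw [hcop] at h5
        exact hr.one_lt.ne' (Nat.dvd_one.mp h5)
      have hp1 : (p : ZMod r) ≠ 1 := by
        intro h6
        apply hrp
        have : ((p - 1 : ℕ) : ZMod r) = 0 := by
          rw [Nat.cast_sub (by omega)]
          push_cast
          exact sub_eq_zero.mpr h6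
        exact (ZMod.natCast_eq_zero_iff _ _).mp this
      have hp0 : (p : ZMod r) ≠ 0 := by
        intro h6
        rw [h6, zero_pow (by omega)] at hzq
        exact zero_ne_one hzq
      have hord : orderOf (p : ZMod r) ∣ q := orderOf_dvd_of_pow_eq_one hzq
      have hord2 : orderOf (p : ZMod r) = q := by
        rcases (Nat.dvd_prime hq).mp hord with h7 | h7
        · exact absurd (orderOf_eq_one_iff.mp h7) hp1
        · exact h7
      have hqr : q ∣ r - 1 := hord2 ▸ ZMod.orderOf_dvd_card_sub_one hp0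
      obtain ⟨k, hk⟩ := hqr
      have hr2 := hr.two_le
      have : r = 1 + q * k := by omega
      rw [this, Nat.add_mul_mod_self_left, Nat.mod_eq_of_lt (by omega)]
    | mul a b ha hb =>
      intro hab
      have h1 := ha (Dvd.dvd.trans (Dvd.intro _ rfl) hab)
      have h2 := hb (Dvd.dvd.trans (Dvd.intro_left _ rfl) hab)
      rw [Nat.mul_mod, h1, h2]
      simp
      exact Nat.mod_eq_of_lt (by omega)

end Cfsg.Agent.S1546
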