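import Cfsg.Statements.S1555
import Cfsg.Agent.Lib.Helper12.Golay.Tuples
import Cfsg.Agent.Lib.Helper12.Golay.Subsets

set_option autoImplicit false
open scoped Pointwise
open Cfsg

namespace Cfsg.Agent.S1555

open Cfsg.Agent.Lib.Helper12.Golay

theorem count_base (a n : ℕ) (ha : a < 2 ^ 24)
    (h : countK 4096 (fun u => Nat.beq (popcF (encF u)) 8 &&
      Nat.beq (Nat.land o₀ (encF u)) a) = n) :
    {o' : Finset GolayPt | o' ∈ octads ∧ fs o₀ ∩ o' = fs a}.ncard = n := by
  rw [← h]
  apply ncard_wordsOfWeightK 8 (fun s => fs o₀ ∩ s = fs a) (fun m => Nat.beq (Nat.land o₀ m) a)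
  intro m hm
  rw [natBeq_iff, ← fs_and]
  constructor
  · intro h1
    exact fs_inj (lt_of_le_of_lt Nat.and_le_right hm) ha h1
  · intro h1
    have : o₀ &&& m = a := h1
    rw [this]

theorem invariant (k : M24) (o s : Finset GolayPt) :
    {o' : Finset GolayPt | o' ∈ octads ∧ k • o ∩ o' = k • s}.ncard =
      {o' : Finset GolayPt | o' ∈ octads ∧ o ∩ o' = s}.ncard := by
  have := ncard_invariant (G := M24) (A := Finset GolayPt × Finset GolayPt) (B := Finset GolayPt)
    octads (fun g b hb => smul_mem_octads g.2 hb) (fun a b => a.1 ∩ b = a.2)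
    (fun g a b => by
      apply propext
      show g • a.1 ∩ g • b = g • a.2 ↔ a.1 ∩ b = a.2
      rw [← Finset.smul_finset_inter]
      exact (MulAction.injective g).eq_iff)
    (fun t => t) k (o, s)
  exact this

theorem fs_3 : fs 3 = ({pt 0, pt 1} : Finset GolayPt) := by
  have : mask ({pt 0, pt 1} : Finset GolayPt) = 3 := by
    rw [Finset.insert_eq, mask_union, mask_singleton (by decide), mask_singleton (by decide)]
    rfl
  rw [← this, fs_mask]

theorem fs_15 : fs 15 = ({pt 0, pt 1, pt 2, pt 3} : Finset GolayPt) := by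
  have : mask ({pt 0, pt 1, pt 2, pt 3} : Finset GolayPt) = 15 := by
    rw [Finset.insert_eq, Finset.insert_eq, Finset.insert_eq, mask_union, mask_union, mask_union,
      mask_singleton (by decide), mask_singleton (by decide), mask_singleton (by decide),
      mask_singleton (by decide)]
    rfl
  rw [← this, fs_mask]

/-- The number of octads meeting a given octad in a given set of two or of four points. -/
theorem result (o : Finset Cfsg.GolayPt) (ho : o ∈ Cfsg.octads) (s : Finset Cfsg.GolayPt) (hs : s ⊆ o) : (s.card = 2 → {o' : Finset Cfsg.GolayPt | o' ∈ Cfsg.octads ∧ o ∩ o' = s}.ncard = 16) ∧ (s.card = 4 → {o' : Finset Cfsg.GolayPt | o' ∈ Cfsg.octads ∧ o ∩ o' = s}.ncard = 4) := by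
  constructor
  · intro h2
    obtain ⟨a, b, hab, rfl⟩ := Finset.card_eq_two.mp h2
    obtain ⟨k, hk⟩ := flag_in_in o ho a b (hs (by simp)) (hs (by simp)) hab
    simp only [Prod.smul_mk, Prod.mk.injEq] at hk
    obtain ⟨⟨k0, k1⟩, k2⟩ := hk
    have hks : k • ({pt 0, pt 1} : Finset GolayPt) = {a, b} := by
      rw [Finset.smul_finset_insert, Finset.smul_finset_singleton]
      exact congrArg₂ _ k1 (congrArg _ k2)
    rw [← k0, ← hks, invariant, ← fs_3]
    exact count_base 3 16 (by norm_num) (by decide +kernel)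
  · intro h4
    obtain ⟨a, b, c, e, hab, hac, hae, hbc, hbe, hce, rfl⟩ := Finset.card_eq_four.mp h4
    obtain ⟨k, hk⟩ := flag4 o ho a b c e (hs (by simp)) (hs (by simp)) (hs (by simp))
      (hs (by simp)) hab hac hbc hae hbe hce
    simp only [flag4₀, flag3₀, Prod.smul_mk, Prod.mk.injEq] at hk
    obtain ⟨⟨⟨⟨k0, k1⟩, k2⟩, k3⟩, k4⟩ := hk
    have hks : k • ({pt 0, pt 1, pt 2, pt 3} : Finset GolayPt) = {a, b, c, e} := by
      rw [Finset.smul_finset_insert, Finset.smul_finset_insert, Finset.smul_finset_insert,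
        Finset.smul_finset_singleton]
      exact congrArg₂ _ k1 (congrArg₂ _ k2 (congrArg₂ _ k3 (congrArg _ k4)))
    rw [← k0, ← hks, invariant, ← fs_15]
    exact count_base 15 4 (by norm_num) (by decide +kernel)

end Cfsg.Agent.S1555
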