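import Cfsg.Statements.S1559
import Cfsg.Agent.Lib.Helper12.Golay.TrioClasses
import Cfsg.Agent.Lib.Helper12.Maximal

set_option autoImplicit false
open scoped Pointwise
open Cfsg

namespace Cfsg.Agent.S1559

open Cfsg.Agent.Lib.Helper12 Cfsg.Agent.Lib.Helper12.Golay

/-- The index of a value of the invariant. -/
def idx5 (v : ℕ) : Fin 5 :=
  if v = 128 then 1 else if v = 96 then 2 else if v = 80 then 3 else if v = 72 then 4 else 0

theorem idx5_vT : ∀ i : Fin 5, idx5 (vT i) = i := by decide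

theorem nT_ne_zero : ∀ i : Fin 5, nT i ≠ 0 := by decide

set_option maxRecDepth 100000 in
theorem arith : ∀ I : Finset (Fin 5), (0 : Fin 5) ∈ I → (∀ i ∈ I, nT i ≠ 0) →
    (∑ i ∈ I, nT i) ∣ 3795 → I = {0} ∨ ∀ i : Fin 5, nT i ≠ 0 → i ∈ I := by decide +kernel

theorem smul_trios' (g : M24) (X : Finset (Finset GolayPt)) (hX : X ∈ trios) : g • X ∈ trios :=
  Cfsg.Agent.S1557.smul_trios g X hX

/-- Everything that is needed about a general trio. -/
theorem facts (T : Finset (Finset GolayPt)) (hT : T ∈ trios) :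
    (∃ k : M24, k • T₀ = T) ∧
    (∀ X ∈ trios, ∀ X' ∈ trios, I3 T X = I3 T X' → ∃ g : M24, g • T = T ∧ g • X = X') ∧
    (∀ i : Fin 5, {X : Finset (Finset GolayPt) | X ∈ trios ∧ I3 T X = vT i}.ncard = nT i) ∧
    (∀ X ∈ trios, ∃ i : Fin 5, I3 T X = vT i) ∧
    (∀ i : Fin 5, ∃ X ∈ trios, I3 T X = vT i) ∧ I3 T T = vT 0 := by
  obtain ⟨k0, hk0, hkT⟩ := trios_transitive T hT
  have hk : (⟨k0, hk0⟩ : M24) • T₀ = T := hkT
  generalize (⟨k0, hk0⟩ : M24) = k at hk
  subst hk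
  refine ⟨⟨k, rfl⟩, ?_, ?_, ?_, ?_, ?_⟩
  · intro X hX X' hX' h
    exact homogeneous_of_base (G := M24) T₀ trios smul_trios' I3 I3_smul
      (fun b hb b' hb' hh => base_homogT b b' hb hb' hh) (k • T₀) ⟨k, rfl⟩ X X' hX hX' h
  · intro i
    rw [← ncard_classT i]
    exact ncard_invariant (G := M24) trios smul_trios' I3 I3_smul (fun n => n = vT i) k T₀
  · intro X hX
    obtain ⟨i, t, ht, e⟩ := trios_cases (k⁻¹ • X) (smul_trios' k⁻¹ X hX)
    refine ⟨i, ?_⟩
    have h1 := I3_smul k T₀ (k⁻¹ • X)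
    rw [smul_inv_smul] at h1
    rw [h1, ← e]
    exact (LTof_spec i t ht).2.2.2
  · intro i
    refine ⟨k • D3 (repT i), smul_trios' k _ (repT_mem i), ?_⟩
    rw [I3_smul, I3_repT]
  · rw [I3_smul]
    exact I3_repT 0

theorem orbit_eq (T : Finset (Finset GolayPt))
    (hhom : ∀ X ∈ trios, ∀ X' ∈ trios, I3 T X = I3 T X' → ∃ g : M24, g • T = T ∧ g • X = X')
    (X : Finset (Finset GolayPt)) (hX : X ∈ trios) :
    MulAction.orbit ↥(MulAction.stabilizer M24 T) X =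
      {Y : Finset (Finset GolayPt) | Y ∈ trios ∧ I3 T Y = I3 T X} := by
  ext Y
  constructor
  · rintro ⟨⟨h, hh⟩, rfl⟩
    have hh' : h • T = T := hh
    refine ⟨smul_trios' h X hX, ?_⟩
    show I3 T (h • X) = I3 T X
    have := I3_smul h T X
    rw [hh'] at this
    exact this
  · rintro ⟨hY, hI⟩
    obtain ⟨g, hg, e⟩ := hhom X hX Y hY hI.symm
    exact ⟨⟨g, hg⟩, e⟩

/-- A trio stabiliser has five orbits on the 3795 trios, of sizes 1, 42, 56, 1008, 2688; and the stabiliser is a maximal proper subgroup. -/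
theorem result (T : Finset (Finset Cfsg.GolayPt)) (hT : T ∈ Cfsg.trios) : ∃ X₁ ∈ Cfsg.trios, ∃ X₂ ∈ Cfsg.trios, ∃ X₃ ∈ Cfsg.trios, ∃ X₄ ∈ Cfsg.trios, (MulAction.orbit ↥(MulAction.stabilizer Cfsg.M24 T) X₁).ncard = 42 ∧ (MulAction.orbit ↥(MulAction.stabilizer Cfsg.M24 T) X₂).ncard = 56 ∧ (MulAction.orbit ↥(MulAction.stabilizer Cfsg.M24 T) X₃).ncard = 1008 ∧ (MulAction.orbit ↥(MulAction.stabilizer Cfsg.M24 T) X₄).ncard = 2688 ∧ Cfsg.trios = {T} ∪ MulAction.orbit ↥(MulAction.stabilizer Cfsg.M24 T) X₁ ∪ MulAction.orbit ↥(MulAction.stabilizer Cfsg.M24 T) X₂ ∪ MulAction.orbit ↥(MulAction.stabilizer Cfsg.M24 T) X₃ ∪ MulAction.orbit ↥(MulAction.stabilizer Cfsg.M24 T) X₄ ∧ IsCoatom (MulAction.stabilizer Cfsg.M24 T) := by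
  obtain ⟨⟨k, hk⟩, hhom, hcount, hvals, hreps, hTT⟩ := facts T hT
  obtain ⟨X₁, hX₁, hv₁⟩ := hreps 1
  obtain ⟨X₂, hX₂, hv₂⟩ := hreps 2
  obtain ⟨X₃, hX₃, hv₃⟩ := hreps 3
  obtain ⟨X₄, hX₄, hv₄⟩ := hreps 4
  have hone : ∀ X ∈ trios, I3 T X = vT 0 → X = T := by
    intro X hX hv
    have h1 := hcount 0
    have h1' : {X : Finset (Finset GolayPt) | X ∈ trios ∧ I3 T X = vT 0}.ncard = 1 := h1
    obtain ⟨a, ha⟩ := Set.ncard_eq_one.mp h1'
    have hXa : X ∈ ({a} : Set (Finset (Finset GolayPt))) := by rw [← ha]; exact ⟨hX, hv⟩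
    have hTa : T ∈ ({a} : Set (Finset (Finset GolayPt))) := by rw [← ha]; exact ⟨hT, hTT⟩
    rw [Set.mem_singleton_iff] at hXa hTa
    rw [hXa, hTa]
  have ho₁ := orbit_eq T hhom X₁ hX₁
  have ho₂ := orbit_eq T hhom X₂ hX₂
  have ho₃ := orbit_eq T hhom X₃ hX₃
  have ho₄ := orbit_eq T hhom X₄ hX₄
  rw [hv₁] at ho₁
  rw [hv₂] at ho₂
  rw [hv₃] at ho₃
  rw [hv₄] at ho₄
  refine ⟨X₁, hX₁, X₂, hX₂, X₃, hX₃, X₄, hX₄, ?_, ?_, ?_, ?_, ?_, ?_⟩
  · rw [ho₁]; exact hcount 1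
  · rw [ho₂]; exact hcount 2
  · rw [ho₃]; exact hcount 3
  · rw [ho₄]; exact hcount 4
  · rw [ho₁, ho₂, ho₃, ho₄]
    ext X
    simp only [Set.mem_union, Set.mem_singleton_iff, Set.mem_ofPred_eq]
    constructor
    · intro hX
      obtain ⟨i, hi⟩ := hvals X hX
      fin_cases i
      · left; left; left; left
        exact hone X hX hi
      · left; left; left; right
        exact ⟨hX, hi⟩
      · left; left; right
        exact ⟨hX, hi⟩
      · left; right
        exact ⟨hX, hi⟩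
      · right
        exact ⟨hX, hi⟩
    · rintro ((((rfl | h) | h) | h) | h)
      · exact hT
      all_goals exact h.1
  · have hidx : ∀ X ∈ trios, vT (idx5 (I3 T X)) = I3 T X := by
      intro X hX
      obtain ⟨i, hi⟩ := hvals X hX
      rw [hi, idx5_vT]
    have hcT : idx5 (I3 T T) = 0 := by rw [hTT, idx5_vT]
    apply isCoatom_stabilizer_of_classes (G := M24) (X := Finset (Finset GolayPt)) (ι := Fin 5)
      T trios (Set.toFinite _) _ (fun X => idx5 (I3 T X)) _ nT _ _ _ _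
    · intro y
      constructor
      · intro hy
        obtain ⟨a, ha, hay⟩ := trios_transitive y hy
        refine ⟨⟨a, ha⟩ * k⁻¹, ?_⟩
        rw [mul_smul]
        have : k⁻¹ • T = T₀ := by rw [inv_smul_eq_iff]; exact hk.symm
        rw [this]
        exact hay
      · rintro ⟨g, rfl⟩
        exact smul_trios' g T hT
    · intro y hy y' hy' hc
      have hc' : I3 T y = I3 T y' := by
        rw [← hidx y hy, ← hidx y' hy']
        exact congrArg vT hc
      obtain ⟨g, hg, e⟩ := hhom y hy y' hy' hc'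
      exact ⟨g, hg, e⟩
    · intro i
      rw [← hcount i]
      refine congrArg Set.ncard (Set.ext fun X => ?_)
      constructor
      · rintro ⟨hX, hc⟩
        refine ⟨hX, ?_⟩
        have hc' : idx5 (I3 T X) = i := hc
        rw [← hidx X hX, hc']
      · rintro ⟨hX, hc⟩
        refine ⟨hX, ?_⟩
        show idx5 (I3 T X) = i
        rw [hc, idx5_vT]
    · intro y hy hc
      have hc' : idx5 (I3 T y) = idx5 (I3 T T) := hc
      apply hone y hy
      rw [← hidx y hy, hc', hcT]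
    · refine ⟨X₁, hX₁, ?_⟩
      rintro rfl
      rw [hTT] at hv₁
      exact absurd hv₁ (by decide)
    · intro I hI hnz hdvd
      have hI' : (0 : Fin 5) ∈ I := by
        have : idx5 (I3 T T) ∈ I := hI
        rw [hcT] at this
        exact this
      rw [Cfsg.Agent.S1557.result.2] at hdvd
      rw [hcT]
      exact arith I hI' hnz hdvd

end Cfsg.Agent.S1559
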