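import Cfsg.Statements.S1563
import Cfsg.Agent.Lib.Helper12.Golay.Trans
import Cfsg.Agent.Lib.Helper12.Maximal

set_option autoImplicit false
open scoped Pointwise
open Cfsg

namespace Cfsg.Agent.S1563

open Cfsg.Agent.Lib.Helper12 Cfsg.Agent.Lib.Helper12.Golay

/-- Two-element sets meeting a two-element set `s` in equally many points are conjugate under the
stabiliser of `s`. -/
theorem pair_homog (s t t' : Finset GolayPt) (hs2 : s.card = 2) (ht2 : t.card = 2)
    (ht2' : t'.card = 2) (hcard : (s ∩ t).card = (s ∩ t').card) :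
    ∃ g : M24, g • s = s ∧ g • t = t' := by
  have hfull : ∀ u : Finset GolayPt, u.card = 2 → 2 ≤ (s ∩ u).card → u = s := by
    intro u hu h2
    have e1 : s ∩ u = s := Finset.eq_of_subset_of_card_le Finset.inter_subset_left (by rw [hs2]; exact h2)
    have e2 : s ∩ u = u := Finset.eq_of_subset_of_card_le Finset.inter_subset_right (by rw [hu]; exact h2)
    exact e2.symm.trans e1
  rcases Nat.lt_or_ge 1 (s ∩ t).card with hbig | hsmall
  · have e1 : t = s := hfull t ht2 hbig
    have e2 : t' = s := hfull t' ht2' (hcard ▸ hbig)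
    exact ⟨1, one_smul _ _, by rw [one_smul, e1, e2]⟩
  rcases Nat.lt_or_ge 0 (s ∩ t).card with hpos | hzero
  · have h1 : (s ∩ t).card = 1 := le_antisymm hsmall hpos
    have h1' : (s ∩ t').card = 1 := hcard ▸ h1
    obtain ⟨a, ha⟩ := Finset.card_eq_one.mp h1
    obtain ⟨a', ha'⟩ := Finset.card_eq_one.mp h1'
    have has : a ∈ s := Finset.mem_of_mem_inter_left (ha ▸ Finset.mem_singleton_self a)
    have hat : a ∈ t := Finset.mem_of_mem_inter_right (ha ▸ Finset.mem_singleton_self a)
    have has' : a' ∈ s := Finset.mem_of_mem_inter_left (ha' ▸ Finset.mem_singleton_self a')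
    have hat' : a' ∈ t' := Finset.mem_of_mem_inter_right (ha' ▸ Finset.mem_singleton_self a')
    obtain ⟨b, hb⟩ : ∃ b, s.erase a = {b} := Finset.card_eq_one.mp (by
      rw [Finset.card_erase_of_mem has, hs2])
    obtain ⟨b', hb'⟩ : ∃ b', s.erase a' = {b'} := Finset.card_eq_one.mp (by
      rw [Finset.card_erase_of_mem has', hs2])
    obtain ⟨x, hx⟩ : ∃ x, t.erase a = {x} := Finset.card_eq_one.mp (by
      rw [Finset.card_erase_of_mem hat, ht2])
    obtain ⟨x', hx'⟩ : ∃ x', t'.erase a' = {x'} := Finset.card_eq_one.mp (by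
      rw [Finset.card_erase_of_mem hat', ht2'])
    have hsab : s = {a, b} := by rw [← Finset.insert_erase has, hb]
    have hsab' : s = {a', b'} := by rw [← Finset.insert_erase has', hb']
    have htax : t = {a, x} := by rw [← Finset.insert_erase hat, hx]
    have htax' : t' = {a', x'} := by rw [← Finset.insert_erase hat', hx']
    have hbm : b ∈ s.erase a := hb ▸ Finset.mem_singleton_self b
    have hbm' : b' ∈ s.erase a' := hb' ▸ Finset.mem_singleton_self b'
    have hxm : x ∈ t.erase a := hx ▸ Finset.mem_singleton_self x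
    have hxm' : x' ∈ t'.erase a' := hx' ▸ Finset.mem_singleton_self x'
    have hba : b ≠ a := Finset.ne_of_mem_erase hbm
    have hbs : b ∈ s := Finset.mem_of_mem_erase hbm
    have hba' : b' ≠ a' := Finset.ne_of_mem_erase hbm'
    have hbs' : b' ∈ s := Finset.mem_of_mem_erase hbm'
    have hxa : x ≠ a := Finset.ne_of_mem_erase hxm
    have hxt : x ∈ t := Finset.mem_of_mem_erase hxm
    have hxa' : x' ≠ a' := Finset.ne_of_mem_erase hxm'
    have hxt' : x' ∈ t' := Finset.mem_of_mem_erase hxm'
    have hxs : x ∉ s := by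
      intro h
      have : x ∈ s ∩ t := Finset.mem_inter.mpr ⟨h, hxt⟩
      rw [ha, Finset.mem_singleton] at this
      exact hxa this
    have hxs' : x' ∉ s := by
      intro h
      have : x' ∈ s ∩ t' := Finset.mem_inter.mpr ⟨h, hxt'⟩
      rw [ha', Finset.mem_singleton] at this
      exact hxa' this
    obtain ⟨g, g1, g2, g3⟩ := three_trans a b x a' b' x' (Ne.symm hba) (Ne.symm hxa)
      (fun h => hxs (h ▸ hbs)) (Ne.symm hba') (Ne.symm hxa') (fun h => hxs' (h ▸ hbs'))
    refine ⟨g, ?_, ?_⟩
    · conv_lhs => rw [hsab]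
      rw [pair_smul g a b a' b' g1 g2, ← hsab']
    · rw [htax, pair_smul g a x a' x' g1 g3, ← htax']
  · have h0 : (s ∩ t).card = 0 := Nat.le_zero.mp hzero
    have h0' : (s ∩ t').card = 0 := hcard ▸ h0
    have hd : Disjoint s t := Finset.disjoint_iff_inter_eq_empty.mpr (Finset.card_eq_zero.mp h0)
    have hd' : Disjoint s t' := Finset.disjoint_iff_inter_eq_empty.mpr (Finset.card_eq_zero.mp h0')
    have ne : ∀ x ∈ s, ∀ y ∈ t, x ≠ y := fun x hx y hy h => Finset.disjoint_left.mp hd hx (h ▸ hy)
    have ne' : ∀ x ∈ s, ∀ y ∈ t', x ≠ y := fun x hx y hy h => Finset.disjoint_left.mp hd' hx (h ▸ hy)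
    obtain ⟨s1, s2, h12, rfl⟩ := Finset.card_eq_two.mp hs2
    obtain ⟨u1, u2, g12, rfl⟩ := Finset.card_eq_two.mp ht2
    obtain ⟨v1, v2, f12, rfl⟩ := Finset.card_eq_two.mp ht2'
    have m1 : s1 ∈ ({s1, s2} : Finset GolayPt) := by simp
    have m2 : s2 ∈ ({s1, s2} : Finset GolayPt) := by simp
    have n1 : u1 ∈ ({u1, u2} : Finset GolayPt) := by simp
    have n2 : u2 ∈ ({u1, u2} : Finset GolayPt) := by simp
    have p1 : v1 ∈ ({v1, v2} : Finset GolayPt) := by simp
    have p2 : v2 ∈ ({v1, v2} : Finset GolayPt) := by simp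
    obtain ⟨g, e1, e2, e3, e4⟩ := four_trans s1 s2 u1 u2 s1 s2 v1 v2 h12 (ne _ m1 _ n1) (ne _ m1 _ n2)
      (ne _ m2 _ n1) (ne _ m2 _ n2) g12 h12 (ne' _ m1 _ p1) (ne' _ m1 _ p2) (ne' _ m2 _ p1)
      (ne' _ m2 _ p2) f12
    exact ⟨g, pair_smul g s1 s2 s1 s2 e1 e2, pair_smul g u1 u2 v1 v2 e3 e4⟩

/-- The number of two-element sets meeting a given one in `k` points. -/
def nOf (k : ℕ) : ℕ := if k = 2 then 1 else if k = 1 then 44 else if k = 0 then 231 else 0

theorem count_base : ∀ k : Fin 3, cntSub (fun m => Nat.beq (popcF (Nat.land 3 m)) k) 24 2 0 =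
    nOf k := by decide +kernel

theorem mask_s₀ : mask ({pt 0, pt 1} : Finset GolayPt) = 3 := by
  rw [Finset.insert_eq, mask_union, mask_singleton (by decide), mask_singleton (by decide)]
  rfl

theorem ncard_base (k : Fin 3) :
    {y : Finset GolayPt | y.card = 2 ∧ (({pt 0, pt 1} : Finset GolayPt) ∩ y).card = k}.ncard =
      nOf k := by
  rw [← count_base k]
  apply ncard_card_eq 2 (fun y => (({pt 0, pt 1} : Finset GolayPt) ∩ y).card = k)
    (fun m => Nat.beq (popcF (Nat.land 3 m)) k)
  intro y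
  have h := card_fs_inter (a := 3) (by norm_num) y
  have hfs : fs 3 = ({pt 0, pt 1} : Finset GolayPt) := by
    rw [← mask_s₀, fs_mask]
  rw [hfs] at h
  rw [h, natBeq_iff]

theorem card_smul' (g : M24) (b : Finset GolayPt) : (g • b).card = b.card :=
  card_smul_finset (g : Equiv.Perm GolayPt) b

theorem ncard_general (s : Finset GolayPt) (hs : s.card = 2) (k : Fin 3) :
    {y : Finset GolayPt | y.card = 2 ∧ (s ∩ y).card = k}.ncard = nOf k := by
  obtain ⟨a, b, hab, rfl⟩ := Finset.card_eq_two.mp hs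
  obtain ⟨g, g1, g2⟩ := two_trans (pt 0) (pt 1) a b (by decide) hab
  have hg := pair_smul g (pt 0) (pt 1) a b g1 g2
  rw [← ncard_base k, ← hg]
  exact ncard_invariant (G := M24) (A := Finset GolayPt) (B := Finset GolayPt)
    {y : Finset GolayPt | y.card = 2}
    (fun g b hb => (card_smul' g b).trans hb) (fun a b => (a ∩ b).card)
    (fun g a b => card_smul_inter (g : Equiv.Perm GolayPt) a b) (fun n => n = k) g
    ({pt 0, pt 1} : Finset GolayPt)

theorem ncard_pairs : {y : Finset GolayPt | y.card = 2}.ncard = 276 := by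
  have h : cntSub (fun _ => true) 24 2 0 = 276 := by decide +kernel
  rw [← h]
  have := ncard_card_eq 2 (fun _ => True) (fun _ => true) (fun _ => by simp)
  simp only [and_true] at this
  exact this

set_option maxRecDepth 100000 in
theorem arith : ∀ I : Finset (Fin 3), (2 : Fin 3) ∈ I → (∀ i ∈ I, nOf i ≠ 0) →
    (∑ i ∈ I, nOf i) ∣ 276 → I = {2} ∨ ∀ i : Fin 3, nOf i ≠ 0 → i ∈ I := by decide +kernel

theorem inter_le (s y : Finset GolayPt) (hs : s.card = 2) : (s ∩ y).card < 3 := by
  have h1 : (s ∩ y).card ≤ s.card := Finset.card_le_card Finset.inter_subset_left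
  omega

/-- The stabiliser of a pair of points is a maximal proper subgroup of the group of the length-24 code. -/
theorem result (s : Finset Cfsg.GolayPt) (hs : s.card = 2) : IsCoatom (MulAction.stabilizer Cfsg.M24 s) := by
  have hcard2 : (s ∩ s).card = 2 := by rw [Finset.inter_self]; exact hs
  apply isCoatom_stabilizer_of_classes (G := M24) (X := Finset GolayPt) (ι := Fin 3) s
    {y : Finset GolayPt | y.card = 2}
    (Set.toFinite _) _ (fun y => (⟨(s ∩ y).card % 3, Nat.mod_lt _ (by norm_num)⟩ : Fin 3)) _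
    (fun i => nOf i) _ _ _ _
  · intro y
    constructor
    · intro hy
      obtain ⟨a, b, hab, hsab⟩ := Finset.card_eq_two.mp hs
      obtain ⟨a', b', hab', hyab⟩ := Finset.card_eq_two.mp hy
      obtain ⟨g, g1, g2⟩ := two_trans a b a' b' hab hab'
      exact ⟨g, by rw [hsab, hyab]; exact pair_smul g a b a' b' g1 g2⟩
    · rintro ⟨g, rfl⟩
      exact (card_smul' g s).trans hs
  · intro y hy y' hy' hc
    have hc' : (s ∩ y).card = (s ∩ y').card := by
      have := congrArg Fin.val hc
      simp only at this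
      rw [Nat.mod_eq_of_lt (inter_le s y hs), Nat.mod_eq_of_lt (inter_le s y' hs)] at this
      exact this
    obtain ⟨g, hgs, hgy⟩ := pair_homog s y y' hs hy hy' hc'
    exact ⟨g, hgs, hgy⟩
  · intro i
    rw [← ncard_general s hs i]
    congr 1
    ext y
    simp only [Set.mem_ofPred_eq]
    constructor
    · rintro ⟨hy, hc⟩
      refine ⟨hy, ?_⟩
      have := congrArg Fin.val hc
      simp only at this
      rw [Nat.mod_eq_of_lt (inter_le s y hs)] at this
      exact this
    · rintro ⟨hy, hc⟩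
      refine ⟨hy, Fin.ext ?_⟩
      simp only
      rw [Nat.mod_eq_of_lt (inter_le s y hs)]
      exact hc
  · intro y hy hc
    have := congrArg Fin.val hc
    simp only at this
    rw [Nat.mod_eq_of_lt (inter_le s y hs), Nat.mod_eq_of_lt (inter_le s s hs), hcard2] at this
    have h1 : s ∩ y = s :=
      Finset.eq_of_subset_of_card_le Finset.inter_subset_left (by rw [this, hs])
    have h2 : s ∩ y = y :=
      Finset.eq_of_subset_of_card_le Finset.inter_subset_right (by rw [this]; exact le_of_eq hy)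
    exact h2.symm.trans h1
  · have h0 := ncard_general s hs 0
    have hne : {y : Finset GolayPt | y.card = 2 ∧ (s ∩ y).card = ((0 : Fin 3) : ℕ)}.Nonempty := by
      apply Set.nonempty_of_ncard_ne_zero
      rw [h0]; decide
    obtain ⟨y, hy, hc⟩ := hne
    refine ⟨y, hy, ?_⟩
    rintro rfl
    rw [hcard2] at hc
    exact absurd hc (by decide)
  · intro I hI hnz hdvd
    have h2 : (⟨(s ∩ s).card % 3, Nat.mod_lt _ (by norm_num)⟩ : Fin 3) = 2 := by
      apply Fin.ext
      simp only
      rw [hcard2]; rfl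
    rw [h2] at hI ⊢
    rw [ncard_pairs] at hdvd
    exact arith I hI hnz hdvd

end Cfsg.Agent.S1563
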