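import Cfsg.Statements.S1568
import Cfsg.Agent.Lib.Lead.LeechCount

set_option autoImplicit false
open Cfsg

namespace Cfsg.Agent.S1568

open Cfsg.Agent.Lib.Lead.LC in
set_option maxHeartbeats 1600000 in
/-- Shape census of the lattice vectors of sum of squares 48 (customary norm 6): the four families (2^12, 0^12), (±3^3, ±1^21), (±4, ±2^8, 0^15) and (±5, ±1^23) have 5275648, 8290304, 3108864 and 98304 members. -/
theorem result : {x : Cfsg.GolayPt → ℤ | x ∈ Cfsg.leechLattice ∧ Cfsg.sqNorm x = 48 ∧ ∀ i, x i = 0 ∨ x i = 2 ∨ x i = -2}.ncard = 5275648 ∧ {x : Cfsg.GolayPt → ℤ | x ∈ Cfsg.leechLattice ∧ Cfsg.sqNorm x = 48 ∧ ∃ i j k, i ≠ j ∧ j ≠ k ∧ i ≠ k ∧ |x i| = 3 ∧ |x j| = 3 ∧ |x k| = 3}.ncard = 8290304 ∧ {x : Cfsg.GolayPt → ℤ | x ∈ Cfsg.leechLattice ∧ Cfsg.sqNorm x = 48 ∧ ∃ i, |x i| = 4}.ncard = 3108864 ∧ {x : Cfsg.GolayPt → ℤ | x ∈ Cfsg.leechLattice ∧ Cfsg.sqNorm x = 48 ∧ ∃ i, |x i| = 5}.ncard = 98304 := by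
  classical
  -- the four finsets
  obtain ⟨F1, hF1, hc1⟩ := core ({2, -2} : Finset ℤ) ({0} : Finset ℤ) 2 (Or.inr rfl)
    (by decide) (by decide) (by decide) (by decide) 48
  obtain ⟨F2, hF2, hc2⟩ := core ({1, -3} : Finset ℤ) ({-1, 3} : Finset ℤ) 1 (Or.inl rfl)
    (by decide) (by decide) (by decide) (by decide) 48
  obtain ⟨FE, hFE, hcE⟩ := core Ev1 Ev0 2 (Or.inr rfl) ev_h1 ev_h0 (by decide) (by decide) 48
  obtain ⟨FE', hFE', hcE'⟩ := core Ev1 ({0, 8, -8} : Finset ℤ) 2 (Or.inr rfl) ev_h1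
    (by decide) (by decide) (by decide) 48
  obtain ⟨FO, hFO, hcO⟩ := core Od1 Od0 1 (Or.inl rfl) od_h1 od_h0 (by decide) (by decide) 48
  obtain ⟨FO', hFO', hcO'⟩ := core ({1, -3, -7} : Finset ℤ) ({-1, 3, 7} : Finset ℤ) 1 (Or.inl rfl)
    (by decide) (by decide) (by decide) (by decide) 48
  rw [sum_by_weight (fun w => G _ _ w 48 _)] at hc1 hc2 hcE hcE' hcO hcO'
  have n1 : G ({2, -2} : Finset ℤ) ({0} : Finset ℤ) 0 48 (4 * (2 : ℤ).toNat)
      + 759 * G ({2, -2} : Finset ℤ) ({0} : Finset ℤ) 8 48 (4 * (2 : ℤ).toNat)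
      + 2576 * G ({2, -2} : Finset ℤ) ({0} : Finset ℤ) 12 48 (4 * (2 : ℤ).toNat)
      + 759 * G ({2, -2} : Finset ℤ) ({0} : Finset ℤ) 16 48 (4 * (2 : ℤ).toNat)
      + G ({2, -2} : Finset ℤ) ({0} : Finset ℤ) 24 48 (4 * (2 : ℤ).toNat) = 5275648 := by
    decide +kernel
  have n2 : G ({1, -3} : Finset ℤ) ({-1, 3} : Finset ℤ) 0 48 (4 * (1 : ℤ).toNat)
      + 759 * G ({1, -3} : Finset ℤ) ({-1, 3} : Finset ℤ) 8 48 (4 * (1 : ℤ).toNat)
      + 2576 * G ({1, -3} : Finset ℤ) ({-1, 3} : Finset ℤ) 12 48 (4 * (1 : ℤ).toNat)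
      + 759 * G ({1, -3} : Finset ℤ) ({-1, 3} : Finset ℤ) 16 48 (4 * (1 : ℤ).toNat)
      + G ({1, -3} : Finset ℤ) ({-1, 3} : Finset ℤ) 24 48 (4 * (1 : ℤ).toNat) = 8290304 := by
    decide +kernel
  have nE : G Ev1 Ev0 0 48 (4 * (2 : ℤ).toNat) + 759 * G Ev1 Ev0 8 48 (4 * (2 : ℤ).toNat)
      + 2576 * G Ev1 Ev0 12 48 (4 * (2 : ℤ).toNat) + 759 * G Ev1 Ev0 16 48 (4 * (2 : ℤ).toNat)
      + G Ev1 Ev0 24 48 (4 * (2 : ℤ).toNat) = 8384512 := by
    decide +kernel
  have nE' : G Ev1 ({0, 8, -8} : Finset ℤ) 0 48 (4 * (2 : ℤ).toNat)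
      + 759 * G Ev1 ({0, 8, -8} : Finset ℤ) 8 48 (4 * (2 : ℤ).toNat)
      + 2576 * G Ev1 ({0, 8, -8} : Finset ℤ) 12 48 (4 * (2 : ℤ).toNat)
      + 759 * G Ev1 ({0, 8, -8} : Finset ℤ) 16 48 (4 * (2 : ℤ).toNat)
      + G Ev1 ({0, 8, -8} : Finset ℤ) 24 48 (4 * (2 : ℤ).toNat) = 5275648 := by
    decide +kernel
  have nO : G Od1 Od0 0 48 (4 * (1 : ℤ).toNat) + 759 * G Od1 Od0 8 48 (4 * (1 : ℤ).toNat)
      + 2576 * G Od1 Od0 12 48 (4 * (1 : ℤ).toNat) + 759 * G Od1 Od0 16 48 (4 * (1 : ℤ).toNat)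
      + G Od1 Od0 24 48 (4 * (1 : ℤ).toNat) = 8388608 := by
    decide +kernel
  have nO' : G ({1, -3, -7} : Finset ℤ) ({-1, 3, 7} : Finset ℤ) 0 48 (4 * (1 : ℤ).toNat)
      + 759 * G ({1, -3, -7} : Finset ℤ) ({-1, 3, 7} : Finset ℤ) 8 48 (4 * (1 : ℤ).toNat)
      + 2576 * G ({1, -3, -7} : Finset ℤ) ({-1, 3, 7} : Finset ℤ) 12 48 (4 * (1 : ℤ).toNat)
      + 759 * G ({1, -3, -7} : Finset ℤ) ({-1, 3, 7} : Finset ℤ) 16 48 (4 * (1 : ℤ).toNat)
      + G ({1, -3, -7} : Finset ℤ) ({-1, 3, 7} : Finset ℤ) 24 48 (4 * (1 : ℤ).toNat) = 8290304 := by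
    decide +kernel
  rw [n1] at hc1
  rw [n2] at hc2
  rw [nE] at hcE
  rw [nE'] at hcE'
  rw [nO] at hcO
  rw [nO'] at hcO'
  have h48 : ((48 : ℕ) : ℤ) = 48 := by norm_num
  simp only [h48] at hF1 hF2 hFE hFE' hFO hFO'
  refine ⟨?_, ?_, ?_, ?_⟩
  · -- shape (2^12, 0^12)
    have hset : {x : Cfsg.GolayPt → ℤ | x ∈ Cfsg.leechLattice ∧ Cfsg.sqNorm x = 48 ∧
        ∀ i, x i = 0 ∨ x i = 2 ∨ x i = -2} = ↑F1 := by
      ext x
      simp only [Set.mem_ofPred_eq, Finset.mem_coe, hF1]
      constructor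
      · rintro ⟨h1, h2, h3⟩
        refine ⟨h1, h2, fun i => ?_⟩
        rcases h3 i with h | h | h <;> rw [h] <;> decide
      · rintro ⟨h1, h2, h3⟩
        refine ⟨h1, h2, fun i => ?_⟩
        have := h3 i
        simp only [Finset.mem_union, Finset.mem_insert, Finset.mem_singleton] at this
        omega
    rw [hset, Set.ncard_coe_finset, hc1]
  · -- shape (3^3, 1^21)
    have hset : {x : Cfsg.GolayPt → ℤ | x ∈ Cfsg.leechLattice ∧ Cfsg.sqNorm x = 48 ∧
        ∃ i j k, i ≠ j ∧ j ≠ k ∧ i ≠ k ∧ |x i| = 3 ∧ |x j| = 3 ∧ |x k| = 3} = ↑F2 := by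
      ext x
      simp only [Set.mem_ofPred_eq, Finset.mem_coe, hF2]
      constructor
      · rintro ⟨h1, h2, i, j, k, hij, hjk, hik, hi, hj, hk⟩
        refine ⟨h1, h2, ?_⟩
        -- all entries odd
        have hod : ∀ l, x l ∈ Od1 ∪ Od0 := by
          rcases entries_cases x h1 48 (by rw [h2]; norm_num) (by norm_num) with h | h
          · exfalso
            have := h i
            simp only [Ev1, Ev0, Finset.mem_union, Finset.mem_insert, Finset.mem_singleton] at this
            rcases abs_eq (by norm_num : (0 : ℤ) ≤ 3) |>.1 hi with h' | h' <;> omega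
          · exact h
        have hge : ∀ l, 0 ≤ x l ^ 2 - 1 := by
          intro l
          have := hod l
          simp only [Od1, Od0, Finset.mem_union, Finset.mem_insert, Finset.mem_singleton] at this
          rcases this with (h | h | h | h) | (h | h | h | h) <;> rw [h] <;> norm_num
        have hsq3 : ∀ l, |x l| = 3 → x l ^ 2 - 1 = 8 := by
          intro l hl
          have : x l ^ 2 = 9 := by rw [← sq_abs, hl]; norm_num
          omega
        have htot : ∑ l, (x l ^ 2 - 1) = 24 := by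
          rw [Finset.sum_sub_distrib]
          have : ∑ l, x l ^ 2 = 48 := h2
          rw [this]
          simp [card_golayPt]
        set S : Finset Cfsg.GolayPt := {i, j, k} with hS
        have hSsum : ∑ l ∈ S, (x l ^ 2 - 1) = 24 := by
          rw [hS, Finset.sum_insert (by simp [hij, hik]), Finset.sum_insert (by simp [hjk]),
            Finset.sum_singleton, hsq3 i hi, hsq3 j hj, hsq3 k hk]
          norm_num
        have hcompl : ∑ l ∈ Sᶜ, (x l ^ 2 - 1) = 0 := by
          have := Finset.sum_add_sum_compl S (fun l => x l ^ 2 - 1)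
          rw [hSsum, htot] at this
          omega
        have hzero := (Finset.sum_eq_zero_iff_of_nonneg (fun l _ => hge l)).1 hcompl
        intro l
        by_cases hl : l ∈ S
        · have hl3 : |x l| = 3 := by
            rw [hS] at hl
            simp only [Finset.mem_insert, Finset.mem_singleton] at hl
            rcases hl with rfl | rfl | rfl <;> assumption
          rcases abs_eq (by norm_num : (0 : ℤ) ≤ 3) |>.1 hl3 with h' | h' <;> rw [h'] <;> decide
        · have h0 := hzero l (Finset.mem_compl.2 hl)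
          have h1' : x l ^ 2 = 1 := by omega
          have := hod l
          simp only [Od1, Od0, Finset.mem_union, Finset.mem_insert, Finset.mem_singleton] at this
          rcases this with (h | h | h | h) | (h | h | h | h) <;> rw [h] at h1' ⊢ <;>
            first | decide | (exfalso; norm_num at h1')
      · rintro ⟨h1, h2, h3⟩
        refine ⟨h1, h2, ?_⟩
        have hval : ∀ l, x l ^ 2 = 1 + 8 * (if |x l| = 3 then 1 else 0) := by
          intro l
          have := h3 l
          simp only [Finset.mem_union, Finset.mem_insert, Finset.mem_singleton] at this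
          rcases this with (h | h) | (h | h) <;> rw [h] <;> norm_num
        have hsum : (48 : ℤ) = 24 + 8 * ((Finset.univ.filter (fun l => |x l| = 3)).card : ℤ) := by
          have : ∑ l, x l ^ 2 = 48 := h2
          rw [← this, Finset.sum_congr rfl (fun l _ => hval l), Finset.sum_add_distrib,
            ← Finset.mul_sum, Finset.sum_boole]
          simp [card_golayPt]
        have hcard : (Finset.univ.filter (fun l => |x l| = 3)).card = 3 := by omega
        obtain ⟨i, j, k, hij, hik, hjk, hT⟩ := Finset.card_eq_three.1 hcard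
        have hmem : ∀ l, l ∈ ({i, j, k} : Finset Cfsg.GolayPt) → |x l| = 3 := by
          intro l hl
          rw [← hT] at hl
          exact (Finset.mem_filter.1 hl).2
        exact ⟨i, j, k, hij, hjk, hik, hmem i (by simp), hmem j (by simp), hmem k (by simp)⟩
    rw [hset, Set.ncard_coe_finset, hc2]
  · -- shape (4, 2^8, 0^15)
    have hsub : FE' ⊆ FE := by
      intro x hx
      rw [hFE'] at hx
      rw [hFE]
      refine ⟨hx.1, hx.2.1, fun i => ?_⟩
      have := hx.2.2 i
      simp only [Ev1, Ev0, Finset.mem_union, Finset.mem_insert, Finset.mem_singleton] at this ⊢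
      omega
    have hset : {x : Cfsg.GolayPt → ℤ | x ∈ Cfsg.leechLattice ∧ Cfsg.sqNorm x = 48 ∧
        ∃ i, |x i| = 4} = ↑(FE \ FE') := by
      ext x
      simp only [Set.mem_ofPred_eq, Finset.coe_sdiff, Set.mem_sdiff, Finset.mem_coe, hFE, hFE']
      constructor
      · rintro ⟨h1, h2, i, hi⟩
        have hi' : x i = 4 ∨ x i = -4 := abs_eq (by norm_num : (0 : ℤ) ≤ 4) |>.1 hi
        refine ⟨⟨h1, h2, ?_⟩, ?_⟩
        · rcases entries_cases x h1 48 (by rw [h2]; norm_num) (by norm_num) with h | h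
          · exact h
          · exfalso
            have := h i
            simp only [Od1, Od0, Finset.mem_union, Finset.mem_insert, Finset.mem_singleton] at this
            omega
        · rintro ⟨-, -, h⟩
          have := h i
          simp only [Ev1, Finset.mem_union, Finset.mem_insert, Finset.mem_singleton] at this
          omega
      · rintro ⟨⟨h1, h2, h3⟩, hnot⟩
        refine ⟨h1, h2, ?_⟩
        by_contra hno
        push Not at hno
        apply hnot
        refine ⟨h1, h2, fun i => ?_⟩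
        have := h3 i
        have hne := hno i
        simp only [Ev1, Ev0, Finset.mem_union, Finset.mem_insert, Finset.mem_singleton] at this ⊢
        rcases this with (h | h | h | h) | (h | h | h | h | h) <;>
          first | omega | (exfalso; rw [h] at hne; norm_num at hne)
    rw [hset, Set.ncard_coe_finset, Finset.card_sdiff_of_subset hsub, hcE, hcE']
  · -- shape (5, 1^23)
    have hsub : FO' ⊆ FO := by
      intro x hx
      rw [hFO'] at hx
      rw [hFO]
      refine ⟨hx.1, hx.2.1, fun i => ?_⟩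
      have := hx.2.2 i
      simp only [Od1, Od0, Finset.mem_union, Finset.mem_insert, Finset.mem_singleton] at this ⊢
      omega
    have hset : {x : Cfsg.GolayPt → ℤ | x ∈ Cfsg.leechLattice ∧ Cfsg.sqNorm x = 48 ∧
        ∃ i, |x i| = 5} = ↑(FO \ FO') := by
      ext x
      simp only [Set.mem_ofPred_eq, Finset.coe_sdiff, Set.mem_sdiff, Finset.mem_coe, hFO, hFO']
      constructor
      · rintro ⟨h1, h2, i, hi⟩
        have hi' : x i = 5 ∨ x i = -5 := abs_eq (by norm_num : (0 : ℤ) ≤ 5) |>.1 hi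
        refine ⟨⟨h1, h2, ?_⟩, ?_⟩
        · rcases entries_cases x h1 48 (by rw [h2]; norm_num) (by norm_num) with h | h
          · exfalso
            have := h i
            simp only [Ev1, Ev0, Finset.mem_union, Finset.mem_insert, Finset.mem_singleton] at this
            omega
          · exact h
        · rintro ⟨-, -, h⟩
          have := h i
          simp only [Finset.mem_union, Finset.mem_insert, Finset.mem_singleton] at this
          omega
      · rintro ⟨⟨h1, h2, h3⟩, hnot⟩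
        refine ⟨h1, h2, ?_⟩
        by_contra hno
        push Not at hno
        apply hnot
        refine ⟨h1, h2, fun i => ?_⟩
        have := h3 i
        have hne := hno i
        simp only [Od1, Od0, Finset.mem_union, Finset.mem_insert, Finset.mem_singleton] at this ⊢
        rcases this with (h | h | h | h) | (h | h | h | h) <;>
          first | omega | (exfalso; rw [h] at hne; norm_num at hne)
    rw [hset, Set.ncard_coe_finset, Finset.card_sdiff_of_subset hsub, hcO, hcO']

end Cfsg.Agent.S1568
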