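import Cfsg.Statements.S1571
import Cfsg.Agent.S0398
import Cfsg.Agent.S0364
import Cfsg.Agent.Lib.helper3.GolayM24
import Cfsg.Agent.Lib.helper3.GolayDim
import Cfsg.Agent.Lib.helper4.GolayOrth

set_option autoImplicit false
open scoped Pointwise
open Cfsg

namespace Cfsg.Agent.S1571

open Cfsg.Agent.S0398 Cfsg.Agent.Lib.helper4 Cfsg.Agent.Lib.helper3

/-- the stabiliser condition -/
def Stab (g : ↥Co0) : Prop :=
  ∀ v : ↥leechLattice, (v : GolayPt → ℤ) ∈ stdCross →
    ((g • v : ↥leechLattice) : GolayPt → ℤ) ∈ stdCross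

theorem ev_mem_stdCross (i : GolayPt) : ((ev i : ↥leechLattice) : GolayPt → ℤ) ∈ stdCross :=
  ⟨i, 8, Or.inl rfl, rfl⟩

theorem exists_image (g : ↥Co0) (hg : Stab g) (i : GolayPt) :
    ∃ (j : GolayPt) (s : ℤ), (s = 8 ∨ s = -8) ∧
      (g.1 (ev i)).1 = (Pi.single j s : GolayPt → ℤ) :=
  hg (ev i) (ev_mem_stdCross i)

/-- images of all lattice vectors from the images of the `8 e_i` -/
theorem eight_image (g : ↥Co0) (τ : GolayPt → GolayPt) (s : GolayPt → ℤ)
    (hτ : ∀ i, (g.1 (ev i)).1 = (Pi.single (τ i) (s i) : GolayPt → ℤ))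
    (v : ↥leechLattice) (k : GolayPt) :
    8 * (g.1 v).1 k = ∑ i, v.1 i * (if k = τ i then s i else 0) := by
  have h1 : toHom g ((8 : ℤ) • v) = (8 : ℤ) • toHom g v := map_zsmul _ _ _
  rw [eight_smul v, map_sum] at h1
  have h2 := congrArg (fun w : leechLattice => w.1 k) h1
  simp only [AddSubgroup.val_finsetSum, Finset.sum_apply] at h2
  have h3 : ∀ i, (toHom g ((v.1 i) • ev i)).1 k = v.1 i * (if k = τ i then s i else 0) := by
    intro i
    rw [map_zsmul, toHom_apply]
    show (v.1 i) • (g.1 (ev i)).1 k = _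
    rw [hτ i, Pi.single_apply, smul_eq_mul]
  rw [Finset.sum_congr rfl (fun i _ => h3 i)] at h2
  have h4 : ((8 : ℤ) • toHom g v).1 k = 8 * (g.1 v).1 k := rfl
  rw [h4] at h2
  exact h2.symm

theorem struct1 (g : ↥Co0) (hg : Stab g) : ∃ (π : Equiv.Perm GolayPt) (w : GolayPt → ZMod 2),
    ∀ v : ↥leechLattice,
      (g.1 v).1 = fun k => if w k ≠ 0 then -(v.1 (π k)) else v.1 (π k) := by
  choose τ s hs hτ using exists_image g hg
  have hsurj : Function.Surjective τ := by
    intro k
    by_contra hk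
    push Not at hk
    have h := eight_image g τ s hτ (g.1.symm (ev k)) k
    rw [Equiv.apply_symm_apply] at h
    have h0 : ∑ i, (g.1.symm (ev k)).1 i * (if k = τ i then s i else 0) = 0 := by
      apply Finset.sum_eq_zero
      intro i _
      rw [if_neg (fun h => hk i h.symm), mul_zero]
    rw [h0, ev_val, Pi.single_eq_same] at h
    norm_num at h
  have hbij : Function.Bijective τ := ⟨Finite.injective_iff_surjective.2 hsurj, hsurj⟩
  let σ : Equiv.Perm GolayPt := Equiv.ofBijective τ hbij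
  have hσ : ∀ i, σ i = τ i := fun i => rfl
  refine ⟨σ.symm, fun k => if s (σ.symm k) = -8 then 1 else 0, fun v => ?_⟩
  funext k
  have h := eight_image g τ s hτ v k
  rw [Finset.sum_eq_single (σ.symm k)] at h
  · have hk : k = τ (σ.symm k) := by rw [← hσ, Equiv.apply_symm_apply]
    rw [if_pos hk] at h
    rcases hs (σ.symm k) with h8 | h8
    · rw [h8] at h
      have : (if s (σ.symm k) = -8 then (1 : ZMod 2) else 0) = 0 := by
        rw [if_neg (by rw [h8]; norm_num)]
      show (g.1 v).1 k = if (if s (σ.symm k) = -8 then (1 : ZMod 2) else 0) ≠ 0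
        then -(v.1 (σ.symm k)) else v.1 (σ.symm k)
      rw [this, if_neg (by simp)]
      omega
    · rw [h8] at h
      have : (if s (σ.symm k) = -8 then (1 : ZMod 2) else 0) = 1 := by
        rw [if_pos h8]
      show (g.1 v).1 k = if (if s (σ.symm k) = -8 then (1 : ZMod 2) else 0) ≠ 0
        then -(v.1 (σ.symm k)) else v.1 (σ.symm k)
      rw [this, if_pos (by decide)]
      omega
  · intro i _ hi
    have : k ≠ τ i := by
      intro h'
      apply hi
      rw [h', ← hσ, Equiv.symm_apply_apply]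
    rw [if_neg this, mul_zero]
  · intro h'
    exact absurd (Finset.mem_univ _) h'

/-! ### test vectors -/

/-- twice the indicator of a word -/
def twoInd (c : GolayPt → ZMod 2) : GolayPt → ℤ := fun i => if c i ≠ 0 then 2 else 0

theorem twoInd_zero {c : GolayPt → ZMod 2} {i : GolayPt} (h : c i = 0) : twoInd c i = 0 := by
  unfold twoInd
  rw [h, if_neg (by simp)]

theorem twoInd_one {c : GolayPt → ZMod 2} {i : GolayPt} (h : c i = 1) : twoInd c i = 2 := by
  unfold twoInd
  rw [h, if_pos (by decide)]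

theorem ite_modEq_pos {a k : ℤ} (h : a % 4 = k % 4) :
    (if a ≡ k [ZMOD 4] then (1 : ZMod 2) else 0) = 1 := if_pos h

theorem ite_modEq_neg {a k : ℤ} (h : a % 4 ≠ k % 4) :
    (if a ≡ k [ZMOD 4] then (1 : ZMod 2) else 0) = 0 := if_neg h

theorem twoInd_mem (c : GolayPt → ZMod 2) (hc : c ∈ golayCode) : twoInd c ∈ leechLattice := by
  rw [mem_leechLattice_iff, mem_leechSet_iff]
  refine ⟨0, fun i => ?_, ?_, fun k => ?_⟩
  · rcases zmod2_cases_l (c i) with h | h
    · rw [twoInd_zero h]
    · rw [twoInd_one h]; decide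
  · have h1 : ∑ i, twoInd c i = 2 * ((hammingNorm c : ℕ) : ℤ) := by
      rw [hammingNorm_cast, Finset.mul_sum]
      apply Finset.sum_congr rfl
      intro i _
      unfold twoInd
      split_ifs <;> norm_num
    obtain ⟨d, hd⟩ := golay_four_dvd hc
    rw [h1, hd, mul_zero]
    push_cast
    exact Int.modEq_zero_iff_dvd.2 ⟨d, by ring⟩
  · have hk : k % 4 = 0 ∨ k % 4 = 1 ∨ k % 4 = 2 ∨ k % 4 = 3 := by omega
    rcases hk with hk | hk | hk | hk
    · have : ind4 (twoInd c) k = 1 + c := by
        funext i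
        show (if twoInd c i ≡ k [ZMOD 4] then (1 : ZMod 2) else 0) = 1 + c i
        rcases zmod2_cases_l (c i) with h | h
        · rw [twoInd_zero h, h, ite_modEq_pos (by omega)]; decide
        · rw [twoInd_one h, h, ite_modEq_neg (by omega)]; decide
      rw [this]
      exact golayCode.add_mem one_mem_golay hc
    · have : ind4 (twoInd c) k = 0 := by
        funext i
        show (if twoInd c i ≡ k [ZMOD 4] then (1 : ZMod 2) else 0) = 0
        rcases zmod2_cases_l (c i) with h | h
        · rw [twoInd_zero h, ite_modEq_neg (by omega)]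
        · rw [twoInd_one h, ite_modEq_neg (by omega)]
      rw [this]
      exact golayCode.zero_mem
    · have : ind4 (twoInd c) k = c := by
        funext i
        show (if twoInd c i ≡ k [ZMOD 4] then (1 : ZMod 2) else 0) = c i
        rcases zmod2_cases_l (c i) with h | h
        · rw [twoInd_zero h, h, ite_modEq_neg (by omega)]
        · rw [twoInd_one h, h, ite_modEq_pos (by omega)]
      rw [this]
      exact hc
    · have : ind4 (twoInd c) k = 0 := by
        funext i
        show (if twoInd c i ≡ k [ZMOD 4] then (1 : ZMod 2) else 0) = 0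
        rcases zmod2_cases_l (c i) with h | h
        · rw [twoInd_zero h, ite_modEq_neg (by omega)]
        · rw [twoInd_one h, ite_modEq_neg (by omega)]
      rw [this]
      exact golayCode.zero_mem

/-- the vector `(-3, 1^23)` -/
def x0 : GolayPt → ℤ := fun i => if i = none then -3 else 1

theorem x0_cases (i : GolayPt) : x0 i = -3 ∨ x0 i = 1 := by
  unfold x0
  split_ifs
  · left; rfl
  · right; rfl

theorem x0_mem : x0 ∈ leechLattice := by
  rw [mem_leechLattice_iff]
  apply Spor.mem_leechSet_of_const_mod_four x0 1 1 (Int.ModEq.refl _)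
  · intro i
    rcases x0_cases i with h | h <;> rw [h] <;> decide
  · have : ∑ i, x0 i = 20 := by
      unfold x0
      decide +kernel
    rw [this]
    decide

theorem struct2 (π : Equiv.Perm GolayPt) (w : GolayPt → ZMod 2)
    (f : ↥leechLattice → ↥leechLattice)
    (hf : ∀ v : ↥leechLattice,
      (f v).1 = fun k => if w k ≠ 0 then -(v.1 (π k)) else v.1 (π k)) :
    π ∈ M24 ∧ w ∈ golayCode := by
  constructor
  · apply mem_M24_of_gens
    intro t
    have hc : qrWord t ∈ golayCode := Submodule.subset_span (Or.inl ⟨t, rfl⟩)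
    have hm := (f ⟨twoInd (qrWord t), twoInd_mem _ hc⟩).2
    rw [mem_leechLattice_iff, mem_leechSet_iff] at hm
    obtain ⟨m, -, -, h3⟩ := hm
    have h2 := h3 2
    have : ind4 (f ⟨twoInd (qrWord t), twoInd_mem _ hc⟩).1 2 = qrWord t ∘ π := by
      rw [hf]
      funext k
      show (if (if w k ≠ 0 then -(twoInd (qrWord t) (π k)) else twoInd (qrWord t) (π k))
        ≡ 2 [ZMOD 4] then (1 : ZMod 2) else 0) = qrWord t (π k)
      rcases zmod2_cases_l (qrWord t (π k)) with h | h
      · rw [twoInd_zero h, h]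
        split_ifs <;> first | rfl | (exfalso; revert ‹_ ≡ 2 [ZMOD 4]›; decide)
      · rw [twoInd_one h, h]
        split_ifs <;> first | rfl | (exfalso; revert ‹¬ _ ≡ 2 [ZMOD 4]›; decide)
    rw [this] at h2
    exact h2
  · have hm := (f ⟨x0, x0_mem⟩).2
    rw [mem_leechLattice_iff, mem_leechSet_iff] at hm
    obtain ⟨m, -, -, h3⟩ := hm
    have h2 := h3 3
    have : ind4 (f ⟨x0, x0_mem⟩).1 3 = w := by
      rw [hf]
      funext k
      show (if (if w k ≠ 0 then -(x0 (π k)) else x0 (π k)) ≡ 3 [ZMOD 4]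
        then (1 : ZMod 2) else 0) = w k
      rcases zmod2_cases_l (w k) with h | h
      · have e : (if w k ≠ 0 then -(x0 (π k)) else x0 (π k)) = x0 (π k) :=
          if_neg (by rw [h]; simp)
        rw [e, h]
        rcases x0_cases (π k) with h' | h' <;> rw [h'] <;> rfl
      · have e : (if w k ≠ 0 then -(x0 (π k)) else x0 (π k)) = -(x0 (π k)) :=
          if_pos (by rw [h]; decide)
        rw [e, h]
        rcases x0_cases (π k) with h' | h' <;> rw [h'] <;> rfl
    rw [this] at h2
    exact h2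

/-! ### the monomial elements -/

/-- the monomial element attached to a codeword and a permutation -/
def mk (w : ↥golayCode) (π : ↥M24) : ↥Co0 :=
  ⟨flipE w.1 w.2 * permE π.1 π.2, Co0.mul_mem (flipE_mem _ _) (permE_mem _ _)⟩

theorem mk_apply (w : ↥golayCode) (π : ↥M24) (v : ↥leechLattice) :
    ((mk w π).1 v).1 = fun k => if w.1 k ≠ 0 then -(v.1 (π.1 k)) else v.1 (π.1 k) := rfl

theorem mk_stab (w : ↥golayCode) (π : ↥M24) : Stab (mk w π) := by
  rintro v ⟨j, s, hs, hv⟩
  show ((mk w π).1 v).1 ∈ stdCross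
  rw [mk_apply, hv]
  refine ⟨π.1.symm j, if w.1 (π.1.symm j) ≠ 0 then -s else s, ?_, ?_⟩
  · split_ifs <;> rcases hs with h | h <;> rw [h] <;> norm_num
  · funext k
    by_cases hk : k = π.1.symm j
    · subst hk
      rw [Equiv.apply_symm_apply, Pi.single_eq_same, Pi.single_eq_same]
    · have : π.1 k ≠ j := by
        intro h
        apply hk
        rw [← h, Equiv.symm_apply_apply]
      rw [Pi.single_eq_of_ne this, Pi.single_eq_of_ne hk]
      simp

theorem mk_inj (w w' : ↥golayCode) (π π' : ↥M24) (h : mk w π = mk w' π') : w = w' ∧ π = π' := by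
  have hv : ∀ v : ↥leechLattice, ∀ k,
      (if w.1 k ≠ 0 then -(v.1 (π.1 k)) else v.1 (π.1 k))
        = (if w'.1 k ≠ 0 then -(v.1 (π'.1 k)) else v.1 (π'.1 k)) := by
    intro v k
    have h1 : ((mk w π).1 v).1 k = ((mk w' π').1 v).1 k := by rw [h]
    rw [mk_apply, mk_apply] at h1
    exact h1
  have hπ : π = π' := by
    apply Subtype.ext
    apply Equiv.ext
    intro k
    by_contra hne
    have h1 := hv (ev (π.1 k)) k
    rw [ev_val, Pi.single_eq_same, Pi.single_eq_of_ne (Ne.symm hne)] at h1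
    split_ifs at h1 <;> omega
  subst hπ
  refine ⟨?_, rfl⟩
  apply Subtype.ext
  funext k
  have h1 := hv ⟨x0, x0_mem⟩ k
  have h2 : (⟨x0, x0_mem⟩ : ↥leechLattice).1 (π.1 k) = x0 (π.1 k) := rfl
  rw [h2] at h1
  rcases zmod2_cases_l (w.1 k) with h | h <;> rcases zmod2_cases_l (w'.1 k) with h' | h'
  · rw [h, h']
  · exfalso
    rw [h, h', if_neg (by simp), if_pos (by decide)] at h1
    rcases x0_cases (π.1 k) with h'' | h'' <;> omega
  · exfalso
    rw [h, h', if_pos (by decide), if_neg (by simp)] at h1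
    rcases x0_cases (π.1 k) with h'' | h'' <;> omega
  · rw [h, h']

theorem stab_eq_mk (g : ↥Co0) (hg : Stab g) : ∃ (w : ↥golayCode) (π : ↥M24), g = mk w π := by
  obtain ⟨π, w, h⟩ := struct1 g hg
  obtain ⟨hπ, hw⟩ := struct2 π w g.1 h
  refine ⟨⟨w, hw⟩, ⟨π, hπ⟩, ?_⟩
  apply Subtype.ext
  apply Equiv.ext
  intro v
  apply Subtype.ext
  rw [h v, mk_apply]

theorem card_stab : Nat.card {g : ↥Co0 // Stab g} = 4096 * 244823040 := by
  have hbij : Function.Bijective
      (fun p : ↥golayCode × ↥M24 => (⟨mk p.1 p.2, mk_stab p.1 p.2⟩ : {g : ↥Co0 // Stab g})) := by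
    constructor
    · rintro ⟨w, π⟩ ⟨w', π'⟩ h
      have h1 : mk w π = mk w' π' := congrArg Subtype.val h
      obtain ⟨h2, h3⟩ := mk_inj w w' π π' h1
      rw [h2, h3]
    · rintro ⟨g, hg⟩
      obtain ⟨w, π, h⟩ := stab_eq_mk g hg
      exact ⟨⟨w, π⟩, Subtype.ext h.symm⟩
  rw [← Nat.card_eq_of_bijective _ hbij, Nat.card_prod, natCard_golayCode,
    Cfsg.Agent.S0364.result]

/-- The stabiliser of the standard cross in the automorphism group of the lattice is the monomial group of the code: each of its elements acts as a signed permutation with permutation part in the code's group and sign set a codeword, and it has order 4096 · 244823040. -/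
theorem result : (∀ g : ↥Cfsg.Co0, (∀ v : ↥Cfsg.leechLattice, (v : Cfsg.GolayPt → ℤ) ∈ Cfsg.stdCross → ((g • v : ↥Cfsg.leechLattice) : Cfsg.GolayPt → ℤ) ∈ Cfsg.stdCross) → ∃ f ∈ Cfsg.golayMonomialMaps, ∀ v : ↥Cfsg.leechLattice, ((g • v : ↥Cfsg.leechLattice) : Cfsg.GolayPt → ℤ) = f (v : Cfsg.GolayPt → ℤ)) ∧ Nat.card {g : ↥Cfsg.Co0 // (∀ v : ↥Cfsg.leechLattice, (v : Cfsg.GolayPt → ℤ) ∈ Cfsg.stdCross → ((g • v : ↥Cfsg.leechLattice) : Cfsg.GolayPt → ℤ) ∈ Cfsg.stdCross)} = 4096 * 244823040 := by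
  refine ⟨fun g hg => ?_, card_stab⟩
  obtain ⟨w, π, h⟩ := stab_eq_mk g hg
  refine ⟨signedPerm π.1.symm (support₂ w.1),
    ⟨π.1.symm, M24.inv_mem π.2, support₂ w.1, ⟨w.1, w.2, rfl⟩, rfl⟩, fun v => ?_⟩
  show (g.1 v).1 = _
  rw [h, mk_apply]
  funext k
  unfold signedPerm
  have : (k ∈ support₂ w.1) ↔ w.1 k ≠ 0 := by simp [support₂]
  by_cases hk : w.1 k ≠ 0
  · rw [if_pos hk, if_pos (this.2 hk)]
    rfl
  · rw [if_neg hk, if_neg (fun h' => hk (this.1 h'))]
    rfl

end Cfsg.Agent.S1571
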