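import Cfsg.Statements.S1583
import Cfsg.Agent.S1578
import Cfsg.Agent.Lib.Lead.LeechPin
import Cfsg.Agent.Lib.Lead.LeechMark32
import Cfsg.Agent.Lib.Lead.ConwayHS

set_option autoImplicit false
open Cfsg

namespace Cfsg.Agent.S1583

open Cfsg.Agent.Lib.Lead.LX Cfsg.Agent.Lib.Lead.CW Cfsg.Agent.Lib.Lead.CO Cfsg.Agent.Lib.Lead.CP
open Cfsg.Agent.Lib.helper3 Cfsg.Agent.Lib.helper4 Cfsg.Agent.S0398 Cfsg.Agent.S1571
open Cfsg.Agent.S1578

/-- the minimal vectors orthogonal to `v32` -/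
noncomputable def P32 : Finset (GolayPt → ℤ) := by
  classical
  exact F32.filter (fun x => x none + x (some 0) = 0)

/-- the vectors of sum of squares 48 with dot product `-16` with `v32` -/
noncomputable def P48 : Finset (GolayPt → ℤ) := by
  classical
  exact F48.filter (fun x => x none + x (some 0) = -4)

theorem mem_P32 (x : GolayPt → ℤ) :
    x ∈ P32 ↔ x ∈ leechLattice ∧ sqNorm x = 32 ∧ x none + x (some 0) = 0 := by
  classical
  unfold P32
  rw [Finset.mem_filter, mem_F32, and_assoc]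

theorem mem_P48 (x : GolayPt → ℤ) :
    x ∈ P48 ↔ x ∈ leechLattice ∧ sqNorm x = 48 ∧ x none + x (some 0) = -4 := by
  classical
  unfold P48
  rw [Finset.mem_filter, mem_F48, and_assoc]

theorem card_P32 : P32.card = 93150 := by
  rw [← Cfsg.Agent.Lib.Lead.LC3.count32.2.2, ← Set.ncard_coe_finset]
  congr 1
  ext x
  simp only [Finset.mem_coe, mem_P32, Set.mem_ofPred_eq]

theorem card_P48 : P48.card = 953856 := by
  rw [← Cfsg.Agent.Lib.Lead.LC3.count48, ← Set.ncard_coe_finset]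
  congr 1
  ext x
  simp only [Finset.mem_coe, mem_P48, Set.mem_ofPred_eq]

theorem stab_sum (g : ↥Co0) (hg : g.1 v32 = v32) (y : ↥leechLattice) :
    (g.1 y).1 none + (g.1 y).1 (some 0) = y.1 none + y.1 (some 0) := by
  have := dot_map g v32 y
  rw [hg, dot_v32, dot_v32] at this
  omega

/-- transport of a count along an automorphism fixing `v32` -/
theorem transport (S : Finset (GolayPt → ℤ)) (N s : ℤ)
    (memS : ∀ y, y ∈ S ↔ y ∈ leechLattice ∧ sqNorm y = N ∧ y none + y (some 0) = s)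
    (g : ↥Co0) (hg : g.1 v32 = v32) (a a' : ↥leechLattice) (hga : g.1 a = a') (d : ℤ)
    [DecidablePred fun y => dotInt a.1 y = d] [DecidablePred fun y => dotInt a'.1 y = d] :
    (S.filter (fun y => dotInt a.1 y = d)).card = (S.filter (fun y => dotInt a'.1 y = d)).card := by
  have hgi : g⁻¹.1 v32 = v32 := by
    have := inv_apply_apply g v32
    rw [hg] at this
    exact this
  refine Finset.card_bij' (fun y hy => (g.1 ⟨y, ((memS y).1 (Finset.mem_filter.1 hy).1).1⟩).1)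
    (fun y hy => (g⁻¹.1 ⟨y, ((memS y).1 (Finset.mem_filter.1 hy).1).1⟩).1) ?_ ?_ ?_ ?_
  · intro y hy
    rw [Finset.mem_filter] at hy ⊢
    have hyL := (memS y).1 hy.1
    refine ⟨(memS _).2 ⟨(g.1 ⟨y, hyL.1⟩).2, by rw [g.2.2]; exact hyL.2.1, ?_⟩, ?_⟩
    · rw [stab_sum g hg ⟨y, hyL.1⟩]
      exact hyL.2.2
    · rw [← hga, dot_map]
      exact hy.2
  · intro y hy
    rw [Finset.mem_filter] at hy ⊢
    have hyL := (memS y).1 hy.1
    refine ⟨(memS _).2 ⟨(g⁻¹.1 ⟨y, hyL.1⟩).2, by rw [g⁻¹.2.2]; exact hyL.2.1, ?_⟩, ?_⟩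
    · rw [stab_sum g⁻¹ hgi ⟨y, hyL.1⟩]
      exact hyL.2.2
    · have h1 := dot_map g a (g⁻¹.1 ⟨y, hyL.1⟩)
      rw [apply_inv_apply, hga] at h1
      rw [← h1]
      exact hy.2
  · intro y hy
    exact congrArg Subtype.val (inv_apply_apply g ⟨y, _⟩)
  · intro y hy
    exact congrArg Subtype.val (apply_inv_apply g ⟨y, _⟩)

/-- the number of minimal vectors orthogonal to `v32` with dot product `-24` with `u` -/
noncomputable def Y (u : GolayPt → ℤ) : ℕ := by
  classical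
  exact (P32.filter (fun x => dotInt u x = -24)).card

/-- the number of vectors of `P48` with dot product `-24` with `x` -/
noncomputable def Z (x : GolayPt → ℤ) : ℕ := by
  classical
  exact (P48.filter (fun u => dotInt x u = -24)).card

theorem Y_const (u u' : GolayPt → ℤ) (hu : u ∈ P48) (hu' : u' ∈ P48) : Y u = Y u' := by
  classical
  rw [mem_P48] at hu hu'
  obtain ⟨g, hg, hgu⟩ := t3_stab ⟨u, hu.1⟩ ⟨u', hu'.1⟩ hu.2.1 hu'.2.1 hu.2.2 hu'.2.2
  unfold Y
  exact transport P32 32 0 mem_P32 g hg ⟨u, hu.1⟩ ⟨u', hu'.1⟩ hgu (-24)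

theorem Z_B0 : Z B0.1 = 1024 := by
  classical
  unfold Z
  rw [← Cfsg.Agent.Lib.Lead.LC3.count48_pin, ← Set.ncard_coe_finset]
  congr 1
  ext u
  simp only [Finset.coe_filter, Set.mem_ofPred_eq, mem_P48, dot_B0]
  constructor
  · rintro ⟨⟨h1, h2, h3⟩, h4⟩
    exact ⟨h1, h2, by omega, by omega⟩
  · rintro ⟨h1, h2, h3, h4⟩
    exact ⟨⟨h1, h2, by omega⟩, by omega⟩

theorem Z_value (x : GolayPt → ℤ) (hx : x ∈ P32) : Z x = 1024 := by
  classical
  rw [mem_P32] at hx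
  have hd : dotInt v32.1 x = 0 := by
    rw [dot_v32]
    omega
  obtain ⟨g, hg1, hg2⟩ := orth_std v32 ⟨x, hx.1⟩ norm_v32 hx.2.1 hd
  rw [← Z_B0]
  unfold Z
  exact transport P48 48 (-4) mem_P48 g hg1 ⟨x, hx.1⟩ B0 hg2 (-24)

theorem Y_value (u : GolayPt → ℤ) (hu : u ∈ P48) : Y u = 100 := by
  classical
  have hP1 : ((P32 ×ˢ P48).filter (fun p => dotInt p.1 p.2 = -24)).card = 93150 * 1024 := by
    rw [Finset.card_filter, Finset.sum_product]
    have : ∀ x ∈ P32, ∑ w ∈ P48, (if dotInt (x, w).1 (x, w).2 = -24 then 1 else 0) = 1024 := by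
      intro x hx
      rw [← Finset.card_filter, ← Z_value x hx]
      unfold Z
      rfl
    rw [Finset.sum_congr rfl this, Finset.sum_const, card_P32, smul_eq_mul]
  have hmaps : ∀ p ∈ (P32 ×ˢ P48).filter (fun p => dotInt p.1 p.2 = -24), p.2 ∈ P48 := by
    intro p hp
    rw [Finset.mem_filter, Finset.mem_product] at hp
    exact hp.1.2
  have hP2 := Finset.card_eq_sum_card_fiberwise hmaps
  have hfib : ∀ u' ∈ P48, (((P32 ×ˢ P48).filter (fun p => dotInt p.1 p.2 = -24)).filter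
      (fun p => p.2 = u')).card = Y u := by
    intro u' hu'
    rw [Y_const u u' hu hu']
    unfold Y
    refine Finset.card_bij' (fun p _ => p.1) (fun v _ => (v, u')) ?_ ?_ ?_ ?_
    · intro p hp
      rw [Finset.mem_filter, Finset.mem_filter, Finset.mem_product] at hp
      rw [Finset.mem_filter]
      refine ⟨hp.1.1.1, ?_⟩
      rw [← hp.2, dot_symm]
      exact hp.1.2
    · intro v hv
      rw [Finset.mem_filter] at hv
      rw [Finset.mem_filter, Finset.mem_filter, Finset.mem_product]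
      refine ⟨⟨⟨hv.1, hu'⟩, ?_⟩, rfl⟩
      show dotInt v u' = -24
      rw [dot_symm]
      exact hv.2
    · intro p hp
      rw [Finset.mem_filter] at hp
      show (p.1, u') = p
      rw [← hp.2]
    · intro v hv
      rfl
  rw [Finset.sum_congr rfl hfib, Finset.sum_const, card_P48, smul_eq_mul, hP1] at hP2
  omega

/-- The Higman–Sims configuration: for two vectors of customary norm 6 with inner product −4, exactly 100 minimal vectors have customary inner products 3 and −3 with them, and the joint stabiliser permutes these transitively. -/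
theorem result (v w : ↥Cfsg.leechLattice) (hv : Cfsg.sqNorm (v : Cfsg.GolayPt → ℤ) = 48) (hw : Cfsg.sqNorm (w : Cfsg.GolayPt → ℤ) = 48) (hvw : Cfsg.dotInt (v : Cfsg.GolayPt → ℤ) (w : Cfsg.GolayPt → ℤ) = -32) : {x : ↥Cfsg.leechLattice | Cfsg.sqNorm (x : Cfsg.GolayPt → ℤ) = 32 ∧ Cfsg.dotInt (v : Cfsg.GolayPt → ℤ) (x : Cfsg.GolayPt → ℤ) = 24 ∧ Cfsg.dotInt (w : Cfsg.GolayPt → ℤ) (x : Cfsg.GolayPt → ℤ) = -24}.ncard = 100 ∧ ∀ x ∈ {x : ↥Cfsg.leechLattice | Cfsg.sqNorm (x : Cfsg.GolayPt → ℤ) = 32 ∧ Cfsg.dotInt (v : Cfsg.GolayPt → ℤ) (x : Cfsg.GolayPt → ℤ) = 24 ∧ Cfsg.dotInt (w : Cfsg.GolayPt → ℤ) (x : Cfsg.GolayPt → ℤ) = -24}, ∀ x' ∈ {x : ↥Cfsg.leechLattice | Cfsg.sqNorm (x : Cfsg.GolayPt → ℤ) = 32 ∧ Cfsg.dotInt (v : Cfsg.GolayPt → ℤ) (x : Cfsg.GolayPt → ℤ) = 24 ∧ Cfsg.dotInt (w : Cfsg.GolayPt → ℤ) (x : Cfsg.GolayPt → ℤ) = -24}, ∃ g : ↥Cfsg.Co0, g • v = v ∧ g • w = w ∧ g • x = x' := by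
  classical
  have hm : sqNorm (v + w).1 = 32 := by
    show sqNorm (v.1 + w.1) = 32
    rw [sqNorm_add, hv, hw, hvw]
    norm_num
  have hmv : dotInt (v + w).1 v.1 = 16 := by
    show dotInt (v.1 + w.1) v.1 = 16
    rw [dot_add_left, dot_self, hv, dot_symm, hvw]
    norm_num
  have hmx : ∀ x : ↥leechLattice, dotInt (v + w).1 x.1 = dotInt v.1 x.1 + dotInt w.1 x.1 := by
    intro x
    show dotInt (v.1 + w.1) x.1 = _
    rw [dot_add_left]
  constructor
  · obtain ⟨g0, hg0⟩ := trans32 (v + w) hm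
    have hg0' : g0.1 (v + w) = v32 := hg0
    have hu : (-(g0.1 v)).1 ∈ P48 := by
      rw [mem_P48]
      refine ⟨(-(g0.1 v)).2, ?_, ?_⟩
      · show sqNorm (-(g0.1 v).1) = 48
        rw [sqNorm_neg, g0.2.2]
        exact hv
      · have h1 := dot_map g0 (v + w) v
        rw [hg0', hmv, dot_v32] at h1
        show -(g0.1 v).1 none + -(g0.1 v).1 (some 0) = -4
        omega
    rw [← Y_value _ hu]
    unfold Y
    rw [← Set.ncard_coe_finset]
    apply Set.ncard_congr (fun x _ => (g0.1 x).1)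
    · intro x hx
      obtain ⟨hxN, hxv, hxw⟩ := hx
      rw [Finset.mem_coe, Finset.mem_filter, mem_P32]
      refine ⟨⟨(g0.1 x).2, by rw [g0.2.2]; exact hxN, ?_⟩, ?_⟩
      · have h1 := dot_map g0 (v + w) x
        rw [hg0', hmx, hxv, hxw, dot_v32] at h1
        omega
      · show dotInt (-(g0.1 v).1) (g0.1 x).1 = -24
        rw [dot_neg_left, dot_map, hxv]
    · intro a b _ _ hab
      exact g0.1.injective (Subtype.ext hab)
    · intro y hy
      rw [Finset.mem_coe, Finset.mem_filter, mem_P32] at hy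
      obtain ⟨⟨hyL, hyN, hys⟩, hyd⟩ := hy
      have hyd' : dotInt (-(g0.1 v).1) y = -24 := hyd
      rw [dot_neg_left] at hyd'
      have hgy : g0.1 (g0⁻¹.1 ⟨y, hyL⟩) = ⟨y, hyL⟩ := apply_inv_apply g0 _
      have e1 : dotInt v.1 (g0⁻¹.1 ⟨y, hyL⟩).1 = 24 := by
        have h1 := dot_map g0 v (g0⁻¹.1 ⟨y, hyL⟩)
        rw [hgy] at h1
        rw [← h1]
        show dotInt (g0.1 v).1 y = 24
        omega
      have e2 : dotInt (v + w).1 (g0⁻¹.1 ⟨y, hyL⟩).1 = 0 := by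
        have h1 := dot_map g0 (v + w) (g0⁻¹.1 ⟨y, hyL⟩)
        rw [hgy, hg0', dot_v32] at h1
        rw [← h1]
        show 4 * y none + 4 * y (some 0) = 0
        omega
      refine ⟨g0⁻¹.1 ⟨y, hyL⟩, ⟨?_, e1, ?_⟩, ?_⟩
      · rw [g0⁻¹.2.2]
        exact hyN
      · rw [hmx, e1] at e2
        omega
      · rw [hgy]
  · intro x hx x' hx'
    obtain ⟨hxN, hxv, hxw⟩ := hx
    obtain ⟨hxN', hxv', hxw'⟩ := hx'
    have hd : dotInt (v + w).1 x.1 = 0 := by rw [hmx, hxv, hxw]; norm_num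
    have hd' : dotInt (v + w).1 x'.1 = 0 := by rw [hmx, hxv', hxw']; norm_num
    obtain ⟨g, hg1, hg2⟩ := orth_std (v + w) x hm hxN hd
    obtain ⟨g', hg1', hg2'⟩ := orth_std (v + w) x' hm hxN' hd'
    -- the images of `-v`
    have pin : ∀ (k : ↥Co0) (y : ↥leechLattice), k.1 (v + w) = A0 → k.1 y = B0 →
        dotInt v.1 y.1 = 24 → (-(k.1 v)).1 none = -5 ∧ (-(k.1 v)).1 (some 0) = 1 := by
      intro k y hk1 hk2 hy
      have h1 := dot_map k (v + w) v
      rw [hk1, hmv] at h1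
      have h1' : dotInt v32.1 (k.1 v).1 = 16 := h1
      rw [dot_v32] at h1'
      have h2 := dot_map k y v
      rw [hk2, dot_B0, dot_symm, hy] at h2
      constructor
      · show -(k.1 v).1 none = -5
        omega
      · show -(k.1 v).1 (some 0) = 1
        omega
    obtain ⟨p0, p1⟩ := pin g x hg1 hg2 hxv
    obtain ⟨p0', p1'⟩ := pin g' x' hg1' hg2' hxv'
    have n1 : sqNorm (-(g.1 v)).1 = 48 := by
      show sqNorm (-(g.1 v).1) = 48
      rw [sqNorm_neg, g.2.2]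
      exact hv
    have n1' : sqNorm (-(g'.1 v)).1 = 48 := by
      show sqNorm (-(g'.1 v).1) = 48
      rw [sqNorm_neg, g'.2.2]
      exact hv
    obtain ⟨c, hc, c0, c1, hflip⟩ := t3_flip (-(g.1 v)) (-(g'.1 v)) n1 n1' p0 p0' p1 p1'
    let f : ↥Co0 := ⟨flipE c hc, flipE_mem c hc⟩
    have hfv : f.1 (g.1 v) = g'.1 v := by
      have : f.1 (-(g.1 v)) = -(g'.1 v) := hflip
      rw [map_neg'] at this
      exact neg_injective this
    have hfA : f.1 A0 = A0 := flip_fix c hc c0 c1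
    have hfB : f.1 B0 = B0 := flip_fix_B0 c hc c0 c1
    have hV : (g'⁻¹ * f * g).1 v = v := by
      show g'⁻¹.1 (f.1 (g.1 v)) = v
      rw [hfv, inv_apply_apply]
    have hM : (g'⁻¹ * f * g).1 (v + w) = v + w := by
      show g'⁻¹.1 (f.1 (g.1 (v + w))) = v + w
      rw [hg1, hfA, ← hg1', inv_apply_apply]
    refine ⟨g'⁻¹ * f * g, hV, ?_, ?_⟩
    · show (g'⁻¹ * f * g).1 w = w
      have := map_add' (g'⁻¹ * f * g) v w
      rw [hM, hV] at this
      exact (add_left_cancel this).symm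
    · show g'⁻¹.1 (f.1 (g.1 x)) = x'
      rw [hg2, hfB, ← hg2', inv_apply_apply]

end Cfsg.Agent.S1583
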