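import Cfsg.Statements.S1584
import Cfsg.Agent.Lib.Lead.ConwayHS3

set_option autoImplicit false
open Cfsg

namespace Cfsg.Agent.S1584

open Cfsg.Agent.Lib.Lead.LX Cfsg.Agent.Lib.Lead.CW Cfsg.Agent.Lib.Lead.CO Cfsg.Agent.Lib.Lead.CP
open Cfsg.Agent.Lib.helper3 Cfsg.Agent.Lib.helper4 Cfsg.Agent.S0398 Cfsg.Agent.S1571
open Cfsg.Agent.Lib.Lead.HS

theorem conj_fix (k0 f : ↥Co0) (a b : ↥leechLattice) (hk : k0.1 a = b) (hf : f.1 a = a) :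
    (k0 * f * k0⁻¹).1 b = b := by
  show k0.1 (f.1 (k0⁻¹.1 b)) = b
  rw [← hk, inv_apply_apply, hf]

theorem conj_map (k0 f : ↥Co0) (y y' : ↥leechLattice) (h : f.1 (k0⁻¹.1 y) = k0⁻¹.1 y') :
    (k0 * f * k0⁻¹).1 y = y' := by
  show k0.1 (f.1 (k0⁻¹.1 y)) = y'
  rw [h, apply_inv_apply]

/-- The Higman–Sims group acts with rank 3 and subdegrees 1, 22, 77 on its 100 points, the orbits of a point stabiliser being distinguished by customary inner product 1 with the fixed point. -/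
theorem result (v w x : ↥Cfsg.leechLattice) (hv : Cfsg.sqNorm (v : Cfsg.GolayPt → ℤ) = 48) (hw : Cfsg.sqNorm (w : Cfsg.GolayPt → ℤ) = 48) (hvw : Cfsg.dotInt (v : Cfsg.GolayPt → ℤ) (w : Cfsg.GolayPt → ℤ) = -32) (hx : x ∈ {x : ↥Cfsg.leechLattice | Cfsg.sqNorm (x : Cfsg.GolayPt → ℤ) = 32 ∧ Cfsg.dotInt (v : Cfsg.GolayPt → ℤ) (x : Cfsg.GolayPt → ℤ) = 24 ∧ Cfsg.dotInt (w : Cfsg.GolayPt → ℤ) (x : Cfsg.GolayPt → ℤ) = -24}) : {y : ↥Cfsg.leechLattice | y ∈ {x : ↥Cfsg.leechLattice | Cfsg.sqNorm (x : Cfsg.GolayPt → ℤ) = 32 ∧ Cfsg.dotInt (v : Cfsg.GolayPt → ℤ) (x : Cfsg.GolayPt → ℤ) = 24 ∧ Cfsg.dotInt (w : Cfsg.GolayPt → ℤ) (x : Cfsg.GolayPt → ℤ) = -24} ∧ Cfsg.dotInt (x : Cfsg.GolayPt → ℤ) (y : Cfsg.GolayPt → ℤ) = 8}.ncard = 22 ∧ {y : ↥Cfsg.leechLattice | y ∈ {x : ↥Cfsg.leechLattice | Cfsg.sqNorm (x : Cfsg.GolayPt → ℤ) = 32 ∧ Cfsg.dotInt (v : Cfsg.GolayPt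 → ℤ) (x : Cfsg.GolayPt → ℤ) = 24 ∧ Cfsg.dotInt (w : Cfsg.GolayPt → ℤ) (x : Cfsg.GolayPt → ℤ) = -24} ∧ y ≠ x ∧ Cfsg.dotInt (x : Cfsg.GolayPt → ℤ) (y : Cfsg.GolayPt → ℤ) ≠ 8}.ncard = 77 ∧ ∀ y ∈ {x : ↥Cfsg.leechLattice | Cfsg.sqNorm (x : Cfsg.GolayPt → ℤ) = 32 ∧ Cfsg.dotInt (v : Cfsg.GolayPt → ℤ) (x : Cfsg.GolayPt → ℤ) = 24 ∧ Cfsg.dotInt (w : Cfsg.GolayPt → ℤ) (x : Cfsg.GolayPt → ℤ) = -24}, ∀ y' ∈ {x : ↥Cfsg.leechLattice | Cfsg.sqNorm (x : Cfsg.GolayPt → ℤ) = 32 ∧ Cfsg.dotInt (v : Cfsg.GolayPt → ℤ) (x : Cfsg.GolayPt → ℤ) = 24 ∧ Cfsg.dotInt (w : Cfsg.GolayPt → ℤ) (x : Cfsg.GolayPt → ℤ) = -24}, y ≠ x → y' ≠ x → (Cfsg.dotInt (x : Cfsg.GolayPt → ℤ) (y : Cfsg.GolayPt → ℤ) = 8 ↔ Cfsg.dotInt (x : Cfsg.GolayPt → ℤ) (y' : Cfsg.GolayPt → ℤ) = 8) → ∃ g : ↥Cfsg.Co0, g • v = v ∧ g • w = w ∧ g • x = x ∧ g • y = y' := by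
  obtain ⟨g0, hg0v, hg0w⟩ := hs_pair u48 wS v w frame_chk.1 frame_chk.2.1 frame_chk.2.2.1 hv hw hvw
  -- dot products with images under an automorphism
  have hdot : ∀ (k : ↥Co0) (a y : ↥leechLattice), dotInt (k.1 a).1 y.1 = dotInt a.1 (k⁻¹.1 y).1 := by
    intro k a y
    have := dot_map k a (k⁻¹.1 y)
    rw [apply_inv_apply] at this
    exact this
  have hx1 : g0⁻¹.1 x ∈ XS := by
    obtain ⟨h1, h2, h3⟩ := hx
    refine ⟨by rw [g0⁻¹.2.2]; exact h1, ?_, ?_⟩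
    · rw [← hdot, hg0v]; exact h2
    · rw [← hdot, hg0w]; exact h3
  obtain ⟨h, hhu, hhw, hhx⟩ := (Cfsg.Agent.S1583.result u48 wS frame_chk.1 frame_chk.2.1
    frame_chk.2.2.1).2 v32 v32_mem (g0⁻¹.1 x) hx1
  have hhu' : h.1 u48 = u48 := hhu
  have hhw' : h.1 wS = wS := hhw
  have hhx' : h.1 v32 = g0⁻¹.1 x := hhx
  have k0v : (g0 * h).1 u48 = v := by
    show g0.1 (h.1 u48) = v
    rw [hhu', hg0v]
  have k0w : (g0 * h).1 wS = w := by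
    show g0.1 (h.1 wS) = w
    rw [hhw', hg0w]
  have k0x : (g0 * h).1 v32 = x := by
    show g0.1 (h.1 v32) = x
    rw [hhx', apply_inv_apply]
  generalize g0 * h = k0 at k0v k0w k0x
  have memX : ∀ y : ↥leechLattice, (sqNorm y.1 = 32 ∧ dotInt v.1 y.1 = 24 ∧ dotInt w.1 y.1 = -24)
      ↔ k0⁻¹.1 y ∈ XS := by
    intro y
    show _ ↔ (sqNorm (k0⁻¹.1 y).1 = 32 ∧ dotInt u48.1 (k0⁻¹.1 y).1 = 24
      ∧ dotInt wS.1 (k0⁻¹.1 y).1 = -24)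
    rw [k0⁻¹.2.2, ← hdot, ← hdot, k0v, k0w]
  have dotx : ∀ y : ↥leechLattice, dotInt x.1 y.1 = dotInt v32.1 (k0⁻¹.1 y).1 := by
    intro y
    rw [← hdot, k0x]
  have nex : ∀ y : ↥leechLattice, y ≠ x ↔ k0⁻¹.1 y ≠ v32 := by
    intro y
    constructor
    · intro hne he
      apply hne
      rw [← k0x, ← he, apply_inv_apply]
    · intro hne he
      apply hne
      rw [he, ← k0x, inv_apply_apply]
  obtain ⟨cls1, cls2, cnt1, cnt2⟩ := std_class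
  refine ⟨?_, ?_, ?_⟩
  · refine Eq.trans ?_ cnt1
    apply Set.ncard_congr (fun y _ => k0⁻¹.1 y)
    · intro y hy
      exact ⟨(memX y).1 hy.1, by rw [← dotx]; exact hy.2⟩
    · intro a b _ _ hab
      exact k0⁻¹.1.injective hab
    · intro b hb
      refine ⟨k0.1 b, ⟨(memX _).2 (by rw [inv_apply_apply]; exact hb.1), ?_⟩, inv_apply_apply k0 b⟩
      rw [dotx, inv_apply_apply]
      exact hb.2
  · refine Eq.trans ?_ cnt2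
    apply Set.ncard_congr (fun y _ => k0⁻¹.1 y)
    · intro y hy
      exact ⟨(memX y).1 hy.1, (nex y).1 hy.2.1, by rw [← dotx]; exact hy.2.2⟩
    · intro a b _ _ hab
      exact k0⁻¹.1.injective hab
    · intro b hb
      refine ⟨k0.1 b, ⟨(memX _).2 (by rw [inv_apply_apply]; exact hb.1), ?_, ?_⟩,
        inv_apply_apply k0 b⟩
      · rw [nex, inv_apply_apply]
        exact hb.2.1
      · rw [dotx, inv_apply_apply]
        exact hb.2.2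
  · intro y hy y' hy' hyx hyx' hiff
    have m1 := (memX y).1 hy
    have m1' := (memX y').1 hy'
    have n1 := (nex y).1 hyx
    have n1' := (nex y').1 hyx'
    rw [dotx, dotx] at hiff
    -- it suffices to find a permutation of the frame
    have fin : ∀ (π : Equiv.Perm GolayPt) (hπ : π ∈ M24), π none = none → π (some 0) = some 0 →
        (permE π hπ) (k0⁻¹.1 y) = k0⁻¹.1 y' →
        ∃ g : ↥Co0, g • v = v ∧ g • w = w ∧ g • x = x ∧ g • y = y' := by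
      intro π hπ p0 p1 hmap
      refine ⟨k0 * ⟨permE π hπ, permE_mem π hπ⟩ * k0⁻¹, ?_, ?_, ?_, ?_⟩
      · exact conj_fix k0 _ u48 v k0v (perm_fix_u48 π hπ p0)
      · exact conj_fix k0 _ wS w k0w (perm_fix_wS π hπ p1)
      · exact conj_fix k0 _ v32 x k0x (perm_fix π hπ p0 p1)
      · exact conj_map k0 _ y y' hmap
    by_cases h8 : dotInt v32.1 (k0⁻¹.1 y).1 = 8
    · obtain ⟨j, hj, ej⟩ := cls1 _ m1 h8
      obtain ⟨j', hj', ej'⟩ := cls1 _ m1' (hiff.1 h8)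
      obtain ⟨π, hπ, p0, p1, p2⟩ := exists_perm_h j j' hj hj'
      apply fin π hπ p0 p1
      rw [ej, ej']
      exact perm_hL π hπ _ _ p2
    · obtain ⟨k, hk, ek⟩ := cls2 _ m1 n1 h8
      obtain ⟨k', hk', ek'⟩ := cls2 _ m1' n1' (fun h => h8 (hiff.2 h))
      obtain ⟨π, hπ, p0, p1, p2⟩ := exists_perm_o k k' hk hk'
      apply fin π hπ p0 p1
      rw [ek, ek']
      exact perm_oL π hπ k k' hk hk' p2

end Cfsg.Agent.S1584
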