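import Cfsg.Statements.S1585
import Cfsg.Agent.Lib.Lead.ConwayT3

set_option autoImplicit false
open Cfsg

namespace Cfsg.Agent.S1585

/-- Two vectors of customary norm 6 with inner product −4 are exchanged by some automorphism of the lattice. -/
theorem result (v w : ↥Cfsg.leechLattice) (hv : Cfsg.sqNorm (v : Cfsg.GolayPt → ℤ) = 48) (hw : Cfsg.sqNorm (w : Cfsg.GolayPt → ℤ) = 48) (hvw : Cfsg.dotInt (v : Cfsg.GolayPt → ℤ) (w : Cfsg.GolayPt → ℤ) = -32) : ∃ g : ↥Cfsg.Co0, g • v = w ∧ g • w = v := by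
  have hd1 : ∀ a b : Cfsg.GolayPt → ℤ, Cfsg.dotInt (a + b) (-a)
      = -(Cfsg.sqNorm a) - Cfsg.dotInt a b := by
    intro a b
    unfold Cfsg.dotInt Cfsg.sqNorm
    rw [← Finset.sum_neg_distrib, ← Finset.sum_sub_distrib]
    apply Finset.sum_congr rfl
    intro p _
    simp only [Pi.add_apply, Pi.neg_apply]
    ring
  have hd2 : ∀ a b : Cfsg.GolayPt → ℤ, Cfsg.dotInt (a + b) (-b)
      = -(Cfsg.sqNorm b) - Cfsg.dotInt a b := by
    intro a b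
    unfold Cfsg.dotInt Cfsg.sqNorm
    rw [← Finset.sum_neg_distrib, ← Finset.sum_sub_distrib]
    apply Finset.sum_congr rfl
    intro p _
    simp only [Pi.add_apply, Pi.neg_apply]
    ring
  have ht : Cfsg.sqNorm ((v + w : ↥Cfsg.leechLattice) : Cfsg.GolayPt → ℤ) = 32 := by
    show Cfsg.sqNorm ((v : Cfsg.GolayPt → ℤ) + (w : Cfsg.GolayPt → ℤ)) = 32
    rw [Cfsg.Agent.Lib.Lead.CP.sqNorm_add, hv, hw, hvw]
    norm_num
  have hnv : Cfsg.sqNorm ((-v : ↥Cfsg.leechLattice) : Cfsg.GolayPt → ℤ) = 48 := by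
    show Cfsg.sqNorm (-(v : Cfsg.GolayPt → ℤ)) = 48
    rw [Cfsg.Agent.Lib.Lead.LX.sqNorm_neg]
    exact hv
  have hnw : Cfsg.sqNorm ((-w : ↥Cfsg.leechLattice) : Cfsg.GolayPt → ℤ) = 48 := by
    show Cfsg.sqNorm (-(w : Cfsg.GolayPt → ℤ)) = 48
    rw [Cfsg.Agent.Lib.Lead.LX.sqNorm_neg]
    exact hw
  have e1 : Cfsg.dotInt ((v + w : ↥Cfsg.leechLattice) : Cfsg.GolayPt → ℤ)
      ((-v : ↥Cfsg.leechLattice) : Cfsg.GolayPt → ℤ) = -16 := by
    show Cfsg.dotInt ((v : Cfsg.GolayPt → ℤ) + (w : Cfsg.GolayPt → ℤ)) (-(v : Cfsg.GolayPt → ℤ)) = -16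
    rw [hd1, hv, hvw]
    norm_num
  have e2 : Cfsg.dotInt ((v + w : ↥Cfsg.leechLattice) : Cfsg.GolayPt → ℤ)
      ((-w : ↥Cfsg.leechLattice) : Cfsg.GolayPt → ℤ) = -16 := by
    show Cfsg.dotInt ((v : Cfsg.GolayPt → ℤ) + (w : Cfsg.GolayPt → ℤ)) (-(w : Cfsg.GolayPt → ℤ)) = -16
    rw [hd2, hw, hvw]
    norm_num
  obtain ⟨g, hg1, hg2⟩ := Cfsg.Agent.Lib.Lead.CP.t3_pair (v + w) (-v) (v + w) (-w) ht ht hnv hnw e1 e2
  have hgv : g.1 v = w := by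
    have := Cfsg.Agent.S0398.map_neg' g v
    rw [hg2] at this
    exact (neg_injective this).symm
  refine ⟨g, hgv, ?_⟩
  show g.1 w = v
  have h3 := g.2.1 v w
  rw [hg1, hgv] at h3
  -- v + w = w + g w
  have : g.1 w = v + w - w := by
    rw [h3]
    abel
  rw [this]
  abel

end Cfsg.Agent.S1585
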