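import Mathlib
import Cfsg.Statements.S1589
import Cfsg.Agent.Lib.helper3.M24IdxF
import Cfsg.Agent.Lib.helper3.M24IdxG
open Cfsg.Agent.Lib.helper3 Cfsg.Agent.Lib.helper4 Cfsg.Agent.Lib.Helper12.Golay

set_option autoImplicit false
open scoped Pointwise
open Cfsg

namespace Cfsg.Agent.S1589

/-- Subgroups of the group of the length-24 code of index 759, 276 and 1771 are exactly the octad, duad and sextet stabilisers, and no subgroup has index 253. -/
theorem result : (∀ H : Subgroup ↥Cfsg.M24, H.index = 759 → ∃ o ∈ Cfsg.octads, H = MulAction.stabilizer Cfsg.M24 o) ∧ (∀ H : Subgroup ↥Cfsg.M24, H.index = 276 → ∃ s : Finset Cfsg.GolayPt, s.card = 2 ∧ H = MulAction.stabilizer Cfsg.M24 s) ∧ (∀ H : Subgroup ↥Cfsg.M24, H.index = 1771 → ∃ S ∈ Cfsg.sextets, H = MulAction.stabilizer Cfsg.M24 S) ∧ ∀ H : Subgroup ↥Cfsg.M24, H.index ≠ 253 := by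
  classical
  haveI : Finite ↥M24 := finite_M24
  have hcardK : ∀ (H : Subgroup ↥M24) (n m : ℕ), H.index = n → m * n = 244823040 → 0 < n →
      Nat.card (H.map M24.subtype) = m := by
    intro H n m hn hm hpos
    rw [Subgroup.card_map_of_injective M24.subtype_injective]
    have h1 := H.card_mul_index
    rw [hn, card_M24, ← hm] at h1
    exact Nat.eq_of_mul_eq_mul_right hpos h1
  have hcardH : ∀ H : Subgroup ↥M24, Nat.card (H.map M24.subtype) = Nat.card H :=
    fun H => Subgroup.card_map_of_injective M24.subtype_injective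
  have hmemK : ∀ (H : Subgroup ↥M24) (h : ↥M24), h ∈ H →
      (h : Equiv.Perm GolayPt) ∈ H.map M24.subtype :=
    fun H h hh => Subgroup.mem_map_of_mem M24.subtype hh
  have hKle : ∀ H : Subgroup ↥M24, H.map M24.subtype ≤ M24 := fun H => Subgroup.map_subtype_le H
  refine ⟨?_, ?_, ?_, ?_⟩
  · intro H hH
    have hc := hcardK H 759 322560 hH (by norm_num) (by norm_num)
    obtain ⟨o, ho, hinv⟩ := idx759_main _ (hKle H) hc
    refine ⟨o, ho, ?_⟩
    apply Subgroup.eq_of_le_of_card_ge
    · intro h hh
      rw [MulAction.mem_stabilizer_iff]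
      exact MulAction.mem_stabilizer_iff.1 ((mem_stab_iff _ o).2 (hinv _ (hmemK H h hh)))
    · rw [card_stabilizer_eq_octStab, card_octStab o ho, ← hc, hcardH]
  · intro H hH
    have hc := hcardK H 276 887040 hH (by norm_num) (by norm_num)
    obtain ⟨s, hs2, hinv⟩ := idx276_main _ (hKle H) hc
    refine ⟨s, hs2, ?_⟩
    apply Subgroup.eq_of_le_of_card_ge
    · intro h hh
      rw [MulAction.mem_stabilizer_iff]
      exact MulAction.mem_stabilizer_iff.1 ((mem_stab_iff _ s).2 (hinv _ (hmemK H h hh)))
    · rw [card_stabilizer_eq_octStab, ← hcardH, hc]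
      have h6 := card_mul_le_of_setwise (octStab s) inf_le_left s ∅
        (fun k hk => (mem_stab_iff k _).1 hk.2)
        (fun _ _ q hq => absurd hq (Finset.notMem_empty q)) 2
        (by rw [Finset.union_empty]; exact hs2) (by norm_num)
      have h7 : Nat.descFactorial 24 2 = 552 := by decide
      have h8 : Nat.factorial 2 = 2 := by decide
      rw [hs2, h7, h8] at h6
      omega
  · intro H hH
    have hc := hcardK H 1771 138240 hH (by norm_num) (by norm_num)
    obtain ⟨S, hS, hinv⟩ := idx1771_main _ (hKle H) hc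
    refine ⟨S, hS, ?_⟩
    apply Subgroup.eq_of_le_of_card_ge
    · intro h hh
      rw [MulAction.mem_stabilizer_iff]
      exact hinv _ (hmemK H h hh)
    · rw [card_stab_sextet S hS, ← hc, hcardH]
  · intro H hH
    have hc := hcardK H 253 967680 hH (by norm_num) (by norm_num)
    exact idx253_main _ (hKle H) hc

end Cfsg.Agent.S1589
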