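import Cfsg.Statements.S1591
import Cfsg.Agent.Lib.Lead.TGolay

set_option autoImplicit false
open Cfsg

namespace Cfsg.Agent.S1591

open Cfsg.Agent.Lib.Lead.TG

theorem norm_zero' (x : Cfsg.ArrayPt → ZMod 3) (hx : x ∈ Cfsg.ternaryGolayCode) :
    ∑ p, x p * x p = 0 := by
  rw [eq_gen_info x hx]
  exact norm_zero _

/-- Any two words of the length-12 ternary code have dot product zero. -/
theorem result (x y : Cfsg.ArrayPt → ZMod 3) (hx : x ∈ Cfsg.ternaryGolayCode) (hy : y ∈ Cfsg.ternaryGolayCode) : ∑ p, x p * y p = 0 := by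
  have h1 := norm_zero' x hx
  have h2 := norm_zero' y hy
  have h3 := norm_zero' (x + y) (Submodule.add_mem _ hx hy)
  have h4 : ∑ p, (x + y) p * (x + y) p =
      ∑ p, x p * x p + 2 * ∑ p, x p * y p + ∑ p, y p * y p := by
    rw [Finset.mul_sum, ← Finset.sum_add_distrib, ← Finset.sum_add_distrib]
    apply Finset.sum_congr rfl
    intro p _
    simp only [Pi.add_apply]
    ring
  rw [h4, h1, h2, zero_add, add_zero] at h3
  have h5 : (2 : ZMod 3) * 2 = 1 := by decide
  calc ∑ p, x p * y p = (2 * 2) * ∑ p, x p * y p := by rw [h5, one_mul]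
    _ = 2 * (2 * ∑ p, x p * y p) := by ring
    _ = 0 := by rw [h3, mul_zero]

end Cfsg.Agent.S1591
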