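import Mathlib
import Cfsg.Statements.S1595
import Cfsg.Agent.Lib.helper3.SteinerExact

set_option autoImplicit false
open Cfsg

namespace Cfsg.Agent.S1595

/-- Leech triangle of S(5, 6, 12): blocks meet in 0, 2, 3 or 4 points, and a block is met exactly in a given 2-, 3- or 4-subset by 3, 2, 3 blocks respectively. -/
theorem result {α : Type*} [Fintype α] [DecidableEq α] (hα : Fintype.card α = 12) {B : Set (Finset α)} (hB : Cfsg.IsSteinerSystem 5 6 B) (b : Finset α) (hb : b ∈ B) : (∀ c ∈ B, c ≠ b → (b ∩ c).card = 0 ∨ (b ∩ c).card = 2 ∨ (b ∩ c).card = 3 ∨ (b ∩ c).card = 4) ∧ ∀ s ⊆ b, (s.card = 2 → {c : Finset α | c ∈ B ∧ b ∩ c = s}.ncard = 3) ∧ (s.card = 3 → {c : Finset α | c ∈ B ∧ b ∩ c = s}.ncard = 2) ∧ (s.card = 4 → {c : Finset α | c ∈ B ∧ b ∩ c = s}.ncard = 3) := by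
  classical
  have hk : ∀ u : Finset α, u ⊆ b → u.card ≤ 6 := fun u hu => by
    rw [← hB.1 b hb]
    exact Finset.card_le_card hu
  have hset : ∀ s : Finset α, {c : Finset α | c ∈ B ∧ b ∩ c = s}.ncard =
      (Cfsg.Agent.Lib.helper3.exactInter B b s).card := by
    intro s
    rw [← Set.ncard_coe_finset]
    congr 1
    ext c
    simp only [Set.mem_ofPred_eq, Finset.mem_coe, Cfsg.Agent.Lib.helper3.mem_exactInter]
  let n : ℕ → ℕ := fun i => if i = 6 then 1 else if i = 4 then 3 else if i = 3 then 2 else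
    if i = 2 then 3 else 0
  have h6 : ∀ u : Finset α, u ⊆ b → u.card = 6 →
      (Cfsg.Agent.Lib.helper3.exactInter B b u).card = 1 := by
    intro u hu hcard
    have hub : u = b := Finset.eq_of_subset_of_card_le hu (by rw [hcard, hB.1 b hb])
    subst hub
    rw [Finset.card_eq_one]
    refine ⟨u, ?_⟩
    ext c
    rw [Cfsg.Agent.Lib.helper3.mem_exactInter, Finset.mem_singleton]
    constructor
    · rintro ⟨hc, hbc⟩
      exact Cfsg.Agent.Lib.helper3.steiner_eq_of_le_inter hB hb hc (by rw [hbc, hcard]; norm_num)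
    · rintro rfl
      exact ⟨hb, Finset.inter_self _⟩
  have h5 : ∀ u : Finset α, u ⊆ b → u.card = 5 →
      (Cfsg.Agent.Lib.helper3.exactInter B b u).card = 0 := by
    intro u hu hcard
    rw [Finset.card_eq_zero, Finset.eq_empty_iff_forall_notMem]
    intro c hc
    rw [Cfsg.Agent.Lib.helper3.mem_exactInter] at hc
    have := Cfsg.Agent.Lib.helper3.steiner_eq_of_le_inter hB hb hc.1 (by rw [hc.2, hcard])
    subst this
    rw [Finset.inter_self] at hc
    rw [← hc.2, hB.1 c hb] at hcard
    omega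
  have h4 : ∀ u : Finset α, u ⊆ b → u.card = 4 →
      (Cfsg.Agent.Lib.helper3.exactInter B b u).card = 3 := by
    intro u hu hcard
    have := Cfsg.Agent.Lib.helper3.exact_step hB hb hu (by omega) n (by
      intro w hw hlt
      have := hk w hw
      rcases (show w.card = 5 ∨ w.card = 6 by omega) with h | h
      · rw [h5 w hw h, h]; rfl
      · rw [h6 w hw h, h]; rfl)
    rw [hcard, hα] at this
    simp [Finset.sum_Ioc_succ_top, n] at this
    omega
  have h3 : ∀ u : Finset α, u ⊆ b → u.card = 3 →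
      (Cfsg.Agent.Lib.helper3.exactInter B b u).card = 2 := by
    intro u hu hcard
    have := Cfsg.Agent.Lib.helper3.exact_step hB hb hu (by omega) n (by
      intro w hw hlt
      have := hk w hw
      rcases (show w.card = 4 ∨ w.card = 5 ∨ w.card = 6 by omega) with h | h | h
      · rw [h4 w hw h, h]; rfl
      · rw [h5 w hw h, h]; rfl
      · rw [h6 w hw h, h]; rfl)
    rw [hcard, hα] at this
    simp [Finset.sum_Ioc_succ_top, n, Nat.choose] at this
    omega
  have h2 : ∀ u : Finset α, u ⊆ b → u.card = 2 →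
      (Cfsg.Agent.Lib.helper3.exactInter B b u).card = 3 := by
    intro u hu hcard
    have := Cfsg.Agent.Lib.helper3.exact_step hB hb hu (by omega) n (by
      intro w hw hlt
      have := hk w hw
      rcases (show w.card = 3 ∨ w.card = 4 ∨ w.card = 5 ∨ w.card = 6 by omega) with h | h | h | h
      · rw [h3 w hw h, h]; rfl
      · rw [h4 w hw h, h]; rfl
      · rw [h5 w hw h, h]; rfl
      · rw [h6 w hw h, h]; rfl)
    rw [hcard, hα] at this
    simp [Finset.sum_Ioc_succ_top, n, Nat.choose] at this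
    omega
  have h1 : ∀ u : Finset α, u ⊆ b → u.card = 1 →
      (Cfsg.Agent.Lib.helper3.exactInter B b u).card = 0 := by
    intro u hu hcard
    have := Cfsg.Agent.Lib.helper3.exact_step hB hb hu (by omega) n (by
      intro w hw hlt
      have := hk w hw
      rcases (show w.card = 2 ∨ w.card = 3 ∨ w.card = 4 ∨ w.card = 5 ∨ w.card = 6 by omega)
        with h | h | h | h | h
      · rw [h2 w hw h, h]; rfl
      · rw [h3 w hw h, h]; rfl
      · rw [h4 w hw h, h]; rfl
      · rw [h5 w hw h, h]; rfl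
      · rw [h6 w hw h, h]; rfl)
    rw [hcard, hα] at this
    simp [Finset.sum_Ioc_succ_top, n, Nat.choose] at this
    omega
  refine ⟨?_, ?_⟩
  · intro c hc hcb
    have hsub : b ∩ c ⊆ b := Finset.inter_subset_left
    have hle := hk _ hsub
    have hmem : c ∈ Cfsg.Agent.Lib.helper3.exactInter B b (b ∩ c) :=
      Cfsg.Agent.Lib.helper3.mem_exactInter.2 ⟨hc, rfl⟩
    have hpos : 0 < (Cfsg.Agent.Lib.helper3.exactInter B b (b ∩ c)).card :=
      Finset.card_pos.2 ⟨c, hmem⟩
    have hne1 : (b ∩ c).card ≠ 1 := by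
      intro h
      rw [h1 _ hsub h] at hpos
      exact absurd hpos (lt_irrefl 0)
    have hne5 : (b ∩ c).card ≠ 5 := by
      intro h
      rw [h5 _ hsub h] at hpos
      exact absurd hpos (lt_irrefl 0)
    have hne6 : (b ∩ c).card ≠ 6 := by
      intro h
      exact hcb (Cfsg.Agent.Lib.helper3.steiner_eq_of_le_inter hB hb hc (by rw [h]; norm_num))
    omega
  · intro s hs
    refine ⟨fun h => ?_, fun h => ?_, fun h => ?_⟩
    · rw [hset, h2 s hs h]
    · rw [hset, h3 s hs h]
    · rw [hset, h4 s hs h]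

end Cfsg.Agent.S1595
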