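import Cfsg.Statements.S1596
import Cfsg.Agent.Lib.Helper12.Golay.QuartetClasses

set_option autoImplicit false
open scoped Pointwise
open Cfsg

namespace Cfsg.Agent.S1596

open Cfsg.Agent.Lib.Helper12 Cfsg.Agent.Lib.Helper12.Golay

/-- The case of the standard dodecad, with the triples ordered. -/
theorem base_lt (t u : Finset GolayPt) (ht : t.card = 3) (htu : t ∩ u = ∅)
    (hh : t ∪ u ∈ hexadsOn (fs d₀)) (hlt : mask t < mask u) :
    ∃ Q₁ : Finset (Finset GolayPt), (Q₁ ∈ quartets (fs d₀) ∧ t ∈ Q₁ ∧ u ∈ Q₁) ∧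
      ∀ Q, Q ∈ quartets (fs d₀) ∧ t ∈ Q ∧ u ∈ Q → Q = Q₁ := by
  have hsub : t ⊆ fs d₀ := by
    obtain ⟨_, o, _, ho⟩ := hh
    intro x hx
    have : x ∈ o ∩ fs d₀ := by rw [ho]; exact Finset.mem_union_left _ hx
    exact (Finset.mem_inter.mp this).2
  have hnb := nb_of_hexad hh htu
  obtain ⟨c, e, hint, hmem⟩ := pair_data t ht hsub (mask u) hnb hlt
  have hne : t ≠ u := fun h => by rw [h] at hlt; exact lt_irrefl _ hlt
  rw [← listsQ_ok.1] at hmem
  refine ⟨DL (List.insertionSort (· ≤ ·) [mask t, mask u, c, e]), ⟨(LQall_props _ hmem).2, ?_, ?_⟩, ?_⟩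
  · exact mem_DL.mpr ⟨mask t, mem_sort4.mpr (Or.inl rfl), fs_mask t⟩
  · exact mem_DL.mpr ⟨mask u, mem_sort4.mpr (Or.inr (Or.inl rfl)), fs_mask u⟩
  · rintro Q ⟨hQ, htQ, huQ⟩
    exact quartet_eq hQ htQ huQ hint

/-- The case of the standard dodecad. -/
theorem base (t u : Finset GolayPt) (ht : t.card = 3) (hu : u.card = 3) (htu : t ∩ u = ∅)
    (hh : t ∪ u ∈ hexadsOn (fs d₀)) :
    ∃ Q₁ : Finset (Finset GolayPt), (Q₁ ∈ quartets (fs d₀) ∧ t ∈ Q₁ ∧ u ∈ Q₁) ∧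
      ∀ Q, Q ∈ quartets (fs d₀) ∧ t ∈ Q ∧ u ∈ Q → Q = Q₁ := by
  have hne : mask t ≠ mask u := by
    intro h
    have e : t = u := mask_injective h
    rw [e, Finset.inter_self] at htu
    rw [htu] at hu
    exact absurd hu (by decide)
  rcases lt_or_gt_of_ne hne with hlt | hlt
  · exact base_lt t u ht htu hh hlt
  · have hh' : u ∪ t ∈ hexadsOn (fs d₀) := by rw [Finset.union_comm]; exact hh
    have htu' : u ∩ t = ∅ := by rw [Finset.inter_comm]; exact htu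
    obtain ⟨Q₁, ⟨h1, h2, h3⟩, h4⟩ := base_lt u t hu htu' hh' hlt
    exact ⟨Q₁, ⟨h1, h3, h2⟩, fun Q hQ => h4 Q ⟨hQ.1, hQ.2.2, hQ.2.1⟩⟩

/-- A quartet of a dodecad is determined by any two of its triples: two disjoint triples uniting to a hexad extend to exactly one quartet. -/
theorem result (d : Finset Cfsg.GolayPt) (hd : d ∈ Cfsg.dodecads) (t u : Finset Cfsg.GolayPt) (ht : t.card = 3) (hu : u.card = 3) (htu : Disjoint t u) (hh : t ∪ u ∈ Cfsg.hexadsOn d) : ∃! Q : Finset (Finset Cfsg.GolayPt), Q ∈ Cfsg.quartets d ∧ t ∈ Q ∧ u ∈ Q := by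
  obtain ⟨k, hk, rfl⟩ := dodecads_transitive d hd
  have hkinv : k⁻¹ ∈ M24 := M24.inv_mem hk
  have hdis : k⁻¹ • t ∩ k⁻¹ • u = ∅ := by
    rw [← Finset.smul_finset_inter, Finset.disjoint_iff_inter_eq_empty.mp htu,
      Finset.smul_finset_empty]
  have hh' : k⁻¹ • t ∪ k⁻¹ • u ∈ hexadsOn (fs d₀) := by
    have := smul_hexadsOn hkinv hh
    rwa [inv_smul_smul, Finset.smul_finset_union] at this
  obtain ⟨Q₁, ⟨h1, h2, h3⟩, h4⟩ := base (k⁻¹ • t) (k⁻¹ • u)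
    (by rw [Finset.card_smul_finset]; exact ht) (by rw [Finset.card_smul_finset]; exact hu) hdis hh'
  refine ⟨k • Q₁, ⟨smul_quartets hk h1, ?_, ?_⟩, ?_⟩
  · have := Finset.smul_mem_smul_finset (a := k) h2
    rwa [smul_inv_smul] at this
  · have := Finset.smul_mem_smul_finset (a := k) h3
    rwa [smul_inv_smul] at this
  · rintro Q ⟨hQ, htQ, huQ⟩
    have e := h4 (k⁻¹ • Q) ⟨by
      have := smul_quartets hkinv hQ
      rwa [inv_smul_smul] at this, Finset.smul_mem_smul_finset htQ, Finset.smul_mem_smul_finset huQ⟩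
    rw [← e, smul_inv_smul]

end Cfsg.Agent.S1596
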