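import Cfsg.Statements.S1599
import Cfsg.Agent.Lib.Helper12.Golay.QuartetClasses

set_option autoImplicit false
open scoped Pointwise
open Cfsg

namespace Cfsg.Agent.S1599

open Cfsg.Agent.Lib.Helper12 Cfsg.Agent.Lib.Helper12.Golay

theorem smul_quartets' (g : M24) {d : Finset GolayPt} {X : Finset (Finset GolayPt)}
    (hX : X ∈ quartets d) : g • X ∈ quartets (g • d) := smul_quartets g.2 hX

theorem inv_smul_quartets (k : M24) {d : Finset GolayPt} {X : Finset (Finset GolayPt)}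
    (hX : X ∈ quartets (k • d)) : k⁻¹ • X ∈ quartets d := by
  have := smul_quartets' k⁻¹ hX
  rwa [inv_smul_smul] at this

/-- Everything that is needed about a general quartet. -/
theorem facts (d : Finset GolayPt) (hd : d ∈ dodecads) (Q : Finset (Finset GolayPt))
    (hQ : Q ∈ quartets d) :
    (∀ X ∈ quartets d, ∀ X' ∈ quartets d, I4 Q X = I4 Q X' →
      ∃ g : M24, g • d = d ∧ g • Q = Q ∧ g • X = X') ∧
    (∀ i : Fin 5, {X : Finset (Finset GolayPt) | X ∈ quartets d ∧ I4 Q X = vQ i}.ncard = nQ i) ∧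
    (∀ X ∈ quartets d, ∃ i : Fin 5, I4 Q X = vQ i) ∧
    (∀ i : Fin 5, ∃ X ∈ quartets d, I4 Q X = vQ i) ∧ I4 Q Q = vQ 0 := by
  obtain ⟨k1, hk1, rfl⟩ := dodecads_transitive d hd
  have hQ1 : k1⁻¹ • Q ∈ quartets (fs d₀) := by
    have := smul_quartets (M24.inv_mem hk1) hQ
    rwa [inv_smul_smul] at this
  obtain ⟨g0, hg0, eg0⟩ := quartets_transitive _ hQ1
  have hk : ∃ k : M24, k • fs d₀ = k1 • fs d₀ ∧ k • Q₀ = Q := by
    refine ⟨⟨k1, hk1⟩ * ⟨g0, hg0.1⟩, ?_, ?_⟩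
    · rw [mul_smul]
      have : (⟨g0, hg0.1⟩ : M24) • fs d₀ = fs d₀ := hg0.2
      rw [this]; rfl
    · rw [mul_smul]
      have : (⟨g0, hg0.1⟩ : M24) • Q₀ = k1⁻¹ • Q := eg0
      rw [this]
      exact smul_inv_smul k1 Q
  obtain ⟨k, hkd, rfl⟩ := hk
  rw [← hkd]
  refine ⟨?_, ?_, ?_, ?_, ?_⟩
  · intro X hX X' hX' h
    have h1 : I4 Q₀ (k⁻¹ • X) = I4 Q₀ (k⁻¹ • X') := by
      have e1 := I4_smul k Q₀ (k⁻¹ • X)
      have e2 := I4_smul k Q₀ (k⁻¹ • X')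
      rw [smul_inv_smul] at e1 e2
      rw [← e1, ← e2, h]
    obtain ⟨g, hg1, hg2, hg3⟩ := base_homogQ _ _ (inv_smul_quartets k hX) (inv_smul_quartets k hX') h1
    refine ⟨k * g * k⁻¹, ?_, ?_, ?_⟩
    · rw [mul_smul, mul_smul, inv_smul_smul, hg1]
    · rw [mul_smul, mul_smul, inv_smul_smul, hg2]
    · rw [mul_smul, mul_smul, hg3, smul_inv_smul]
  · intro i
    rw [← ncard_classQ i]
    have hset : {X : Finset (Finset GolayPt) | X ∈ quartets (k • fs d₀) ∧ I4 (k • Q₀) X = vQ i} =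
        (fun X => k • X) '' {X : Finset (Finset GolayPt) | X ∈ quartets (fs d₀) ∧ I4 Q₀ X = vQ i} := by
      ext X
      constructor
      · rintro ⟨hX, hv⟩
        refine ⟨k⁻¹ • X, ⟨inv_smul_quartets k hX, ?_⟩, smul_inv_smul k X⟩
        have e1 := I4_smul k Q₀ (k⁻¹ • X)
        rw [smul_inv_smul] at e1
        rw [← e1]; exact hv
      · rintro ⟨Y, ⟨hY, hv⟩, rfl⟩
        exact ⟨smul_quartets' k hY, by rw [I4_smul]; exact hv⟩
    rw [hset, Set.ncard_image_of_injective _ (MulAction.injective k)]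
  · intro X hX
    obtain ⟨i, l, hl, e⟩ := quartets_cases (k⁻¹ • X) (inv_smul_quartets k hX)
    refine ⟨i, ?_⟩
    have h1 := I4_smul k Q₀ (k⁻¹ • X)
    rw [smul_inv_smul] at h1
    rw [h1, ← e]
    exact (LQof_spec i l hl).2.2.2
  · intro i
    refine ⟨k • DL (repQ i), smul_quartets' k (repQ_mem i), ?_⟩
    rw [I4_smul, I4_repQ]
  · rw [I4_smul]
    exact I4_repQ 0

theorem orbit_eq (d : Finset GolayPt) (Q : Finset (Finset GolayPt))
    (hhom : ∀ X ∈ quartets d, ∀ X' ∈ quartets d, I4 Q X = I4 Q X' →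
      ∃ g : M24, g • d = d ∧ g • Q = Q ∧ g • X = X')
    (X : Finset (Finset GolayPt)) (hX : X ∈ quartets d) :
    MulAction.orbit ↥(MulAction.stabilizer M24 d ⊓ MulAction.stabilizer M24 Q) X =
      {Y : Finset (Finset GolayPt) | Y ∈ quartets d ∧ I4 Q Y = I4 Q X} := by
  ext Y
  constructor
  · rintro ⟨⟨h, hh⟩, rfl⟩
    have hh1 : h • d = d := hh.1
    have hh2 : h • Q = Q := hh.2
    have m1 := smul_quartets' h hX
    rw [hh1] at m1
    refine ⟨m1, ?_⟩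
    show I4 Q (h • X) = I4 Q X
    have := I4_smul h Q X
    rw [hh2] at this
    exact this
  · rintro ⟨hY, hI⟩
    obtain ⟨g, hg1, hg2, e⟩ := hhom X hX Y hY hI.symm
    exact ⟨⟨g, ⟨hg1, hg2⟩⟩, e⟩

/-- A quartet stabiliser has five orbits on the quartets of its dodecad, of sizes 1, 12, 27, 72, 108. -/
theorem result (d : Finset Cfsg.GolayPt) (hd : d ∈ Cfsg.dodecads) (Q : Finset (Finset Cfsg.GolayPt)) (hQ : Q ∈ Cfsg.quartets d) : ∃ X₁ ∈ Cfsg.quartets d, ∃ X₂ ∈ Cfsg.quartets d, ∃ X₃ ∈ Cfsg.quartets d, ∃ X₄ ∈ Cfsg.quartets d, (MulAction.orbit ↥(MulAction.stabilizer Cfsg.M24 d ⊓ MulAction.stabilizer Cfsg.M24 Q) X₁).ncard = 12 ∧ (MulAction.orbit ↥(MulAction.stabilizer Cfsg.M24 d ⊓ MulAction.stabilizer Cfsg.M24 Q) X₂).ncard = 27 ∧ (MulAction.orbit ↥(MulAction.stabilizer Cfsg.M24 d ⊓ MulAction.stabilizer Cfsg.M24 Q) X₃).ncard = 72 ∧ (MulAction.orbit ↥(MulAction.stabilizer Cfsg.M24 d ⊓ MulAction.stabilizer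 Cfsg.M24 Q) X₄).ncard = 108 ∧ Cfsg.quartets d = {Q} ∪ MulAction.orbit ↥(MulAction.stabilizer Cfsg.M24 d ⊓ MulAction.stabilizer Cfsg.M24 Q) X₁ ∪ MulAction.orbit ↥(MulAction.stabilizer Cfsg.M24 d ⊓ MulAction.stabilizer Cfsg.M24 Q) X₂ ∪ MulAction.orbit ↥(MulAction.stabilizer Cfsg.M24 d ⊓ MulAction.stabilizer Cfsg.M24 Q) X₃ ∪ MulAction.orbit ↥(MulAction.stabilizer Cfsg.M24 d ⊓ MulAction.stabilizer Cfsg.M24 Q) X₄ := by
  obtain ⟨hhom, hcount, hvals, hreps, hTT⟩ := facts d hd Q hQ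
  obtain ⟨X₁, hX₁, hv₁⟩ := hreps 1
  obtain ⟨X₂, hX₂, hv₂⟩ := hreps 2
  obtain ⟨X₃, hX₃, hv₃⟩ := hreps 3
  obtain ⟨X₄, hX₄, hv₄⟩ := hreps 4
  have hone : ∀ X ∈ quartets d, I4 Q X = vQ 0 → X = Q := by
    intro X hX hv
    have h1' : {X : Finset (Finset GolayPt) | X ∈ quartets d ∧ I4 Q X = vQ 0}.ncard = 1 := hcount 0
    obtain ⟨a, ha⟩ := Set.ncard_eq_one.mp h1'
    have hXa : X ∈ ({a} : Set (Finset (Finset GolayPt))) := by rw [← ha]; exact ⟨hX, hv⟩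
    have hTa : Q ∈ ({a} : Set (Finset (Finset GolayPt))) := by rw [← ha]; exact ⟨hQ, hTT⟩
    rw [Set.mem_singleton_iff] at hXa hTa
    rw [hXa, hTa]
  have ho₁ := orbit_eq d Q hhom X₁ hX₁
  have ho₂ := orbit_eq d Q hhom X₂ hX₂
  have ho₃ := orbit_eq d Q hhom X₃ hX₃
  have ho₄ := orbit_eq d Q hhom X₄ hX₄
  rw [hv₁] at ho₁
  rw [hv₂] at ho₂
  rw [hv₃] at ho₃
  rw [hv₄] at ho₄
  refine ⟨X₁, hX₁, X₂, hX₂, X₃, hX₃, X₄, hX₄, ?_, ?_, ?_, ?_, ?_⟩
  · rw [ho₁]; exact hcount 1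
  · rw [ho₂]; exact hcount 2
  · rw [ho₃]; exact hcount 3
  · rw [ho₄]; exact hcount 4
  · rw [ho₁, ho₂, ho₃, ho₄]
    ext X
    simp only [Set.mem_union, Set.mem_singleton_iff, Set.mem_ofPred_eq]
    constructor
    · intro hX
      obtain ⟨i, hi⟩ := hvals X hX
      fin_cases i
      · left; left; left; left
        exact hone X hX hi
      · left; left; left; right
        exact ⟨hX, hi⟩
      · left; left; right
        exact ⟨hX, hi⟩
      · left; right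
        exact ⟨hX, hi⟩
      · right
        exact ⟨hX, hi⟩
    · rintro ((((rfl | h) | h) | h) | h)
      · exact hQ
      all_goals exact h.1

end Cfsg.Agent.S1599
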