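import Cfsg.Statements.S1602
import Cfsg.Agent.Lib.Helper12.Golay.DFlags2
import Cfsg.Agent.Lib.Helper12.Golay.DStab
import Cfsg.Agent.Lib.Helper12.Golay.OctadStab

set_option autoImplicit false
open scoped Pointwise
open Cfsg

namespace Cfsg.Agent.S1602

open Cfsg.Agent.Lib.Helper12 Cfsg.Agent.Lib.Helper12.Golay

/-! ### Abstract recognition of the symmetric group of degree 5 -/

theorem univ_eq_of_nodup {α : Type*} [Fintype α] [DecidableEq α] (h5 : Fintype.card α = 5)
    (a0 a1 a2 a3 a4 : α) (hnd : [a0, a1, a2, a3, a4].Nodup) (x : α) :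
    x = a0 ∨ x = a1 ∨ x = a2 ∨ x = a3 ∨ x = a4 := by
  have hc : ([a0, a1, a2, a3, a4].toFinset).card = 5 := List.toFinset_card_of_nodup hnd
  have hu : [a0, a1, a2, a3, a4].toFinset = Finset.univ := by
    apply Finset.eq_univ_of_card
    rw [hc, h5]
  have hx : x ∈ [a0, a1, a2, a3, a4].toFinset := by rw [hu]; exact Finset.mem_univ x
  simpa only [List.mem_toFinset, List.mem_cons, List.not_mem_nil, or_false] using hx

theorem cycle_props {α : Type*} [Fintype α] [DecidableEq α] (h5 : Fintype.card α = 5)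
    (σ : Equiv.Perm α) (a0 a1 a2 a3 a4 : α) (hnd : [a0, a1, a2, a3, a4].Nodup)
    (h0 : σ a0 = a1) (h1 : σ a1 = a2) (h2 : σ a2 = a3) (h3 : σ a3 = a4) (h4 : σ a4 = a0) :
    σ.IsCycle ∧ σ.support = Finset.univ := by
  have hall := univ_eq_of_nodup h5 a0 a1 a2 a3 a4 hnd
  have hnd' := hnd
  simp only [List.nodup_cons, List.mem_cons, List.not_mem_nil, or_false, not_or, List.nodup_nil,
    not_false_eq_true, and_true] at hnd'
  obtain ⟨⟨n01, n02, n03, n04⟩, ⟨n12, n13, n14⟩, ⟨n23, n24⟩, n34⟩ := hnd'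
  have hpow : σ ^ 5 = 1 := by
    apply Equiv.ext
    intro x
    have h5' : (σ ^ 5) x = σ (σ (σ (σ (σ x)))) := by
      rw [pow_succ, pow_succ, pow_succ, pow_succ, pow_one, Equiv.Perm.mul_apply,
        Equiv.Perm.mul_apply, Equiv.Perm.mul_apply, Equiv.Perm.mul_apply]
    rw [h5', Equiv.Perm.one_apply]
    rcases hall x with rfl | rfl | rfl | rfl | rfl
    · rw [h0, h1, h2, h3, h4]
    · rw [h1, h2, h3, h4, h0]
    · rw [h2, h3, h4, h0, h1]
    · rw [h3, h4, h0, h1, h2]
    · rw [h4, h0, h1, h2, h3]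
  have hne : σ ≠ 1 := by
    intro h
    rw [h, Equiv.Perm.one_apply] at h0
    exact n01 h0
  have hp5 : Nat.Prime 5 := by norm_num
  have hord : orderOf σ = 5 := by
    have := Fact.mk hp5
    exact orderOf_eq_prime hpow hne
  have hcyc : σ.IsCycle := Equiv.Perm.isCycle_of_prime_order'' (by rw [h5]; exact hp5)
    (by rw [hord, h5])
  refine ⟨hcyc, ?_⟩
  apply Finset.eq_univ_of_forall
  intro x
  rw [Equiv.Perm.mem_support]
  rcases hall x with rfl | rfl | rfl | rfl | rfl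
  · rw [h0]; exact Ne.symm n01
  · rw [h1]; exact Ne.symm n12
  · rw [h2]; exact Ne.symm n23
  · rw [h3]; exact Ne.symm n34
  · rw [h4]; exact n04

theorem swap_props {α : Type*} [Fintype α] [DecidableEq α] (h5 : Fintype.card α = 5)
    (τ : Equiv.Perm α) (a0 a1 a2 a3 a4 : α) (hnd : [a0, a1, a2, a3, a4].Nodup)
    (h0 : τ a0 = a1) (h1 : τ a1 = a0) (h2 : τ a2 = a2) (h3 : τ a3 = a3) (h4 : τ a4 = a4) :
    τ.IsSwap := by
  have hall := univ_eq_of_nodup h5 a0 a1 a2 a3 a4 hnd
  have hnd' := hnd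
  simp only [List.nodup_cons, List.mem_cons, List.not_mem_nil, or_false, not_or, List.nodup_nil,
    not_false_eq_true, and_true] at hnd'
  obtain ⟨⟨n01, n02, n03, n04⟩, ⟨n12, n13, n14⟩, ⟨n23, n24⟩, n34⟩ := hnd'
  refine ⟨a0, a1, n01, ?_⟩
  apply Equiv.ext
  intro x
  rcases hall x with rfl | rfl | rfl | rfl | rfl
  · rw [h0, Equiv.swap_apply_left]
  · rw [h1, Equiv.swap_apply_right]
  · rw [h2, Equiv.swap_apply_of_ne_of_ne (Ne.symm n02) (Ne.symm n12)]
  · rw [h3, Equiv.swap_apply_of_ne_of_ne (Ne.symm n03) (Ne.symm n13)]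
  · rw [h4, Equiv.swap_apply_of_ne_of_ne (Ne.symm n04) (Ne.symm n14)]

/-- A finite group of order 120 with a subgroup mapping onto the symmetric group of a 5-element
type is isomorphic to that symmetric group. -/
theorem equiv_of_surjective {G α : Type*} [Group G] [Fintype α] [DecidableEq α]
    (h5 : Fintype.card α = 5) (hG : Nat.card G = 120) (H : Subgroup G) (ρ : H →* Equiv.Perm α)
    (hρ : Function.Surjective ρ) : Nonempty (G ≃* Equiv.Perm α) := by
  have hfin : Finite G := Nat.finite_of_card_ne_zero (by rw [hG]; norm_num)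
  have hP : Nat.card (Equiv.Perm α) = 120 := by
    rw [Nat.card_perm, Nat.card_eq_fintype_card, h5]; rfl
  have h1 : Nat.card (Equiv.Perm α) ≤ Nat.card H := Nat.card_le_card_of_surjective ρ hρ
  have h2 : Nat.card H ≤ Nat.card G := Subgroup.card_le_card_group H
  have hH : H = ⊤ := by
    apply Subgroup.eq_top_of_card_eq
    omega
  have hbij : Function.Bijective ρ := hρ.bijective_of_nat_card_le (by omega)
  have e1 : G ≃* H := (Subgroup.topEquiv.symm).trans (MulEquiv.subgroupCongr hH.symm)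
  exact ⟨e1.trans (MulEquiv.ofBijective ρ hbij)⟩

/-! ### The restriction homomorphism -/

/-- The action of the stabiliser of a set of points on that set. -/
noncomputable def resM (S : Finset GolayPt) :
    ↥(MulAction.stabilizer M24 S) →* Equiv.Perm ↥S :=
  MonoidHom.mk' (fun g => ((g.1 : M24) : Equiv.Perm GolayPt).subtypePerm
    ((mem_stab_iff _ S).mp g.2)) (by
    intro a b
    ext x
    rfl)

theorem resM_apply (S : Finset GolayPt) (g : ↥(MulAction.stabilizer M24 S)) (x : ↥S) :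
    ((resM S g) x : GolayPt) = ((g.1 : M24) : Equiv.Perm GolayPt) x.1 := rfl

/-! ### The base configuration -/

/-- Bitmask of the base pair `{5, 7}` outside the standard dodecad. -/
def sM : ℕ := 160
/-- Bitmask of the five points `2, 3, 6, 8, 18` of the standard dodecad. -/
def ΩM : ℕ := 262476

theorem fs_sM : fs sM = {pt 5, pt 7} := by decide

/-- Inverse table of an element acting on the five points as the cycle `2 → 18 → 8 → 3 → 6`. -/
def cycT : List ℕ := [0, 1, 6, 8, 12, 5, 3, 7, 18, 13, 22, 10, 16, 4, 19, 21, 9, 11, 2, 15, 14, 20, 23, 17]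
/-- Inverse table of an element swapping the points `2` and `3` and fixing `6`, `8`, `18`. -/
def swT : List ℕ := [0, 9, 3, 2, 16, 7, 6, 5, 8, 1, 10, 11, 13, 12, 14, 21, 4, 20, 18, 23, 17, 15, 22, 19]

theorem tables_ok : ∀ T ∈ [cycT, swT], okK T = true ∧ actK T d₀ = d₀ ∧ T.getD 0 0 = 0 ∧
    actK T sM = sM ∧ actK T ΩM = ΩM := by decide +kernel

/-- The base group: stabiliser of the standard dodecad, its point `0` and the base pair. -/
abbrev G₀ : Subgroup ↥M24 :=
  MulAction.stabilizer M24 (fs d₀) ⊓ MulAction.stabilizer M24 (pt 0) ⊓ MulAction.stabilizer M24 (fs sM)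

/-- The subgroup of the base group stabilising the five points. -/
abbrev H₀ : Subgroup ↥M24 := G₀ ⊓ MulAction.stabilizer M24 (fs ΩM)

theorem table_mem (T : List ℕ) (hT : T ∈ [cycT, swT]) :
    ∃ g : ↥M24, g ∈ H₀ ∧ (g : Equiv.Perm GolayPt) = permT T := by
  obtain ⟨h1, h2, h3, h4, h5⟩ := tables_ok T hT
  have hv := okK_valid h1
  refine ⟨⟨permT T, permT_mem_M24' h1⟩, ⟨⟨⟨?_, ?_⟩, ?_⟩, ?_⟩, rfl⟩
  · exact permT_mem_stabilizer_fs hv (by decide) h2
  · exact permT_mem_stabilizer_pt hv (by decide) h3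
  · exact permT_mem_stabilizer_fs hv (by decide) h4
  · exact permT_mem_stabilizer_fs hv (by decide) h5

/-- The action of `H₀` on the five points. -/
noncomputable def ρ₀ : ↥H₀ →* Equiv.Perm ↥(fs ΩM) :=
  (resM (fs ΩM)).comp (Subgroup.inclusion (inf_le_right : H₀ ≤ MulAction.stabilizer M24 (fs ΩM)))

theorem ρ₀_apply (g : ↥H₀) (x : ↥(fs ΩM)) :
    ((ρ₀ g) x : GolayPt) = ((g.1 : M24) : Equiv.Perm GolayPt) x.1 := rfl

theorem memΩ (i : ℕ) (hi : i < 24) (h : tb ΩM i = true) : pt i ∈ fs ΩM :=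
  (mem_fs_pt hi).mpr h

/-- The five points as elements of the subtype. -/
def ω (i : ℕ) (hi : i < 24) (h : tb ΩM i = true) : ↥(fs ΩM) := ⟨pt i, memΩ i hi h⟩

theorem ω_ne (i j : ℕ) (hi : i < 24) (hj : j < 24) (h : tb ΩM i = true) (h' : tb ΩM j = true)
    (hij : i ≠ j) : ω i hi h ≠ ω j hj h' := by
  intro e
  apply hij
  have : pt i = pt j := congrArg Subtype.val e
  exact pt_injOn hi hj this

theorem card_Ω : Fintype.card ↥(fs ΩM) = 5 := by
  rw [Fintype.card_coe, card_fs]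
  decide

theorem ρ₀_surjective : Function.Surjective ρ₀ := by
  classical
  obtain ⟨g1, hg1, e1⟩ := table_mem cycT (by simp)
  obtain ⟨g2, hg2, e2⟩ := table_mem swT (by simp)
  have hv1 : ValidT cycT := okK_valid (tables_ok cycT (by simp)).1
  have hv2 : ValidT swT := okK_valid (tables_ok swT (by simp)).1
  let a0 := ω 2 (by decide) (by decide)
  let a1 := ω 18 (by decide) (by decide)
  let a2 := ω 8 (by decide) (by decide)
  let a3 := ω 3 (by decide) (by decide)
  let a4 := ω 6 (by decide) (by decide)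
  have hnd : [a0, a1, a2, a3, a4].Nodup := by
    simp only [List.nodup_cons, List.mem_cons, List.not_mem_nil, or_false, not_or, List.nodup_nil,
      not_false_eq_true, and_true]
    refine ⟨⟨?_, ?_, ?_, ?_⟩, ⟨?_, ?_, ?_⟩, ⟨?_, ?_⟩, ?_⟩ <;> exact ω_ne _ _ _ _ _ _ (by decide)
  have key1 : ∀ (i j : ℕ) (hi : i < 24) (hj : j < 24) (h : tb ΩM i = true) (h' : tb ΩM j = true),
      cycT.getD j 0 = i → ρ₀ ⟨g1, hg1⟩ (ω i hi h) = ω j hj h' := by
    intro i j hi hj h h' hT
    apply Subtype.ext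
    rw [ρ₀_apply]
    show (g1 : Equiv.Perm GolayPt) (pt i) = pt j
    rw [e1, permT_apply_eq_iff hv1, idx_pt hj, idx_pt hi]
    exact hT
  have key2 : ∀ (i j : ℕ) (hi : i < 24) (hj : j < 24) (h : tb ΩM i = true) (h' : tb ΩM j = true),
      swT.getD j 0 = i → ρ₀ ⟨g2, hg2⟩ (ω i hi h) = ω j hj h' := by
    intro i j hi hj h h' hT
    apply Subtype.ext
    rw [ρ₀_apply]
    show (g2 : Equiv.Perm GolayPt) (pt i) = pt j
    rw [e2, permT_apply_eq_iff hv2, idx_pt hj, idx_pt hi]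
    exact hT
  have hc := cycle_props card_Ω (ρ₀ ⟨g1, hg1⟩) a0 a1 a2 a3 a4 hnd
    (key1 _ _ _ _ _ _ (by decide)) (key1 _ _ _ _ _ _ (by decide)) (key1 _ _ _ _ _ _ (by decide))
    (key1 _ _ _ _ _ _ (by decide)) (key1 _ _ _ _ _ _ (by decide))
  have hs := swap_props card_Ω (ρ₀ ⟨g2, hg2⟩) a0 a3 a1 a2 a4 (by
      simp only [List.nodup_cons, List.mem_cons, List.not_mem_nil, or_false, not_or,
        List.nodup_nil, not_false_eq_true, and_true]
      refine ⟨⟨?_, ?_, ?_, ?_⟩, ⟨?_, ?_, ?_⟩, ⟨?_, ?_⟩, ?_⟩ <;>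
        exact ω_ne _ _ _ _ _ _ (by decide))
    (key2 _ _ _ _ _ _ (by decide)) (key2 _ _ _ _ _ _ (by decide)) (key2 _ _ _ _ _ _ (by decide))
    (key2 _ _ _ _ _ _ (by decide)) (key2 _ _ _ _ _ _ (by decide))
  have hp5 : (Fintype.card ↥(fs ΩM)).Prime := by rw [card_Ω]; norm_num
  have htop := Equiv.Perm.closure_prime_cycle_swap hp5 hc.1 hc.2 hs
  rw [← MonoidHom.range_eq_top, eq_top_iff, ← htop, Subgroup.closure_le]
  intro x hx
  rcases hx with rfl | rfl
  · exact ⟨_, rfl⟩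
  · exact ⟨_, rfl⟩

/-! ### Orders -/

theorem orbit_pair (d : Finset GolayPt) (hd : d ∈ dodecads) (p q q' : GolayPt) (hp : p ∈ d)
    (hq : q ∉ d) (hq' : q' ∉ d) (hqq' : q ≠ q') (s : Finset GolayPt) :
    s ∈ MulAction.orbit ↥(MulAction.stabilizer M24 d ⊓ MulAction.stabilizer M24 p)
      ({q, q'} : Finset GolayPt) ↔ s ∈ Finset.powersetCard 2 dᶜ := by
  rw [Finset.mem_powersetCard]
  constructor
  · rintro ⟨g, rfl⟩
    have hgd : (g : M24) • d = d := g.2.1
    refine ⟨?_, ?_⟩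
    · intro x hx
      obtain ⟨y, hy, rfl⟩ := Finset.mem_smul_finset.mp hx
      rw [Finset.mem_compl]
      intro h
      have h' : (g : M24) • y ∈ (g : M24) • d := by rw [hgd]; exact h
      rw [smul_mem_iff'] at h'
      rw [Finset.mem_insert, Finset.mem_singleton] at hy
      rcases hy with rfl | rfl
      · exact hq h'
      · exact hq' h'
    · have : (g • ({q, q'} : Finset GolayPt)).card = ({q, q'} : Finset GolayPt).card :=
        Finset.card_smul_finset _ _
      rw [this, Finset.card_pair hqq']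
  · rintro ⟨hsub, hcard⟩
    obtain ⟨x, y, hxy, rfl⟩ := Finset.card_eq_two.mp hcard
    have hx : x ∉ d := Finset.mem_compl.mp (hsub (by simp))
    have hy : y ∉ d := Finset.mem_compl.mp (hsub (by simp))
    obtain ⟨k1, hk1⟩ := dflag1_out_out d hd p hp q q' hq hq' hqq'
    obtain ⟨k2, hk2⟩ := dflag1_out_out d hd p hp x y hx hy hxy
    have hκ : (k2 * k1⁻¹) • ((((d, p), q), q') : Flag3) = ((((d, p), x), y) : Flag3) := by
      rw [mul_smul, ← hk1, inv_smul_smul, hk2]
    simp only [Prod.smul_mk, Prod.mk.injEq] at hκ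
    obtain ⟨⟨⟨hd', hp'⟩, hq1⟩, hq2⟩ := hκ
    refine ⟨⟨k2 * k1⁻¹, hd', hp'⟩, ?_⟩
    show (k2 * k1⁻¹) • ({q, q'} : Finset GolayPt) = {x, y}
    rw [Finset.smul_finset_insert, Finset.smul_finset_singleton, hq1, hq2]

theorem card_G (d : Finset GolayPt) (hd : d ∈ dodecads) (p q q' : GolayPt) (hp : p ∈ d)
    (hq : q ∉ d) (hq' : q' ∉ d) (hqq' : q ≠ q') :
    Nat.card ↥(MulAction.stabilizer M24 d ⊓ MulAction.stabilizer M24 p ⊓
      MulAction.stabilizer M24 ({q, q'} : Finset GolayPt)) = 120 := by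
  have h := card_inf_stabilizer_mul (MulAction.stabilizer M24 d ⊓ MulAction.stabilizer M24 p)
    ({q, q'} : Finset GolayPt)
  have horb : MulAction.orbit ↥(MulAction.stabilizer M24 d ⊓ MulAction.stabilizer M24 p)
      ({q, q'} : Finset GolayPt) = ↑(Finset.powersetCard 2 dᶜ) := by
    ext s
    rw [orbit_pair d hd p q q' hp hq hq' hqq', Finset.mem_coe]
  have hc : (Finset.powersetCard 2 dᶜ).card = 66 := by
    rw [Finset.card_powersetCard, Finset.card_compl, hd.2, Fintype.card_option, ZMod.card]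
    rfl
  rw [horb, Set.ncard_coe_finset, hc, card_dstab1 d hd p hp] at h
  omega

theorem pt5_notMem_d₀ : pt 5 ∉ fs d₀ := by
  rw [mem_fs_pt (by decide)]; decide

theorem pt7_notMem_d₀ : pt 7 ∉ fs d₀ := by
  rw [mem_fs_pt (by decide)]; decide

theorem pt0_mem_d₀ : pt 0 ∈ fs d₀ := by
  rw [mem_fs_pt (by decide)]; decide

theorem d₀_mem : fs d₀ ∈ dodecads := by
  rw [fs_mem_dodecads_iff (by decide)]
  decide +kernel

theorem base_iso : Nonempty (↥G₀ ≃* Equiv.Perm (Fin 5)) := by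
  classical
  have hcard : Nat.card ↥G₀ = 120 := by
    have := card_G (fs d₀) d₀_mem (pt 0) (pt 5) (pt 7) pt0_mem_d₀ pt5_notMem_d₀ pt7_notMem_d₀
      (by decide)
    rw [← fs_sM] at this
    exact this
  let H' : Subgroup ↥G₀ := (MulAction.stabilizer M24 (fs ΩM)).subgroupOf G₀
  let φ : ↥H' →* ↥(MulAction.stabilizer M24 (fs ΩM)) :=
    { toFun := fun h => ⟨h.1.1, h.2⟩
      map_one' := rfl
      map_mul' := fun _ _ => rfl }
  have hsurj : Function.Surjective ((resM (fs ΩM)).comp φ) := by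
    intro e
    obtain ⟨g, hg⟩ := ρ₀_surjective e
    exact ⟨⟨⟨g.1, g.2.1⟩, g.2.2⟩, hg⟩
  obtain ⟨e1⟩ := equiv_of_surjective card_Ω hcard H' ((resM (fs ΩM)).comp φ) hsurj
  have e2 : Equiv.Perm ↥(fs ΩM) ≃* Equiv.Perm (Fin 5) :=
    (Fintype.equivFinOfCardEq card_Ω).permCongrHom
  exact ⟨e1.trans e2⟩

theorem stab_prod_eq (d : Finset GolayPt) (p : GolayPt) (s : Finset GolayPt) :
    MulAction.stabilizer M24 (((d, p), s) : (Finset GolayPt × GolayPt) × Finset GolayPt) =
      MulAction.stabilizer M24 d ⊓ MulAction.stabilizer M24 p ⊓ MulAction.stabilizer M24 s := by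
  ext g
  simp only [MulAction.mem_stabilizer_iff, Prod.smul_mk, Prod.mk.injEq, Subgroup.mem_inf]

/-- In the 12-point action of the smallest Mathieu group the setwise stabiliser of a pair is isomorphic to the symmetric group of degree 5. -/
theorem result (d : Finset Cfsg.GolayPt) (hd : d ∈ Cfsg.dodecads) (p q q' : Cfsg.GolayPt) (hp : p ∈ d) (hq : q ∉ d) (hq' : q' ∉ d) (hqq' : q ≠ q') : Nonempty (↥(MulAction.stabilizer Cfsg.M24 d ⊓ MulAction.stabilizer Cfsg.M24 p ⊓ MulAction.stabilizer Cfsg.M24 ({q, q'} : Finset Cfsg.GolayPt)) ≃* Equiv.Perm (Fin 5)) := by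
  obtain ⟨k, hk0⟩ := dflag1_out_out d hd p hp q q' hq hq' hqq'
  have hk : k • ((((fs d₀, pt 0), pt 5), pt 7) : Flag3) = ((((d, p), q), q') : Flag3) := hk0
  simp only [Prod.smul_mk, Prod.mk.injEq] at hk
  obtain ⟨⟨⟨hd', hp'⟩, hq1⟩, hq2⟩ := hk
  have horb : MulAction.orbitRel M24 ((Finset GolayPt × GolayPt) × Finset GolayPt)
      (((d, p), ({q, q'} : Finset GolayPt)))
      (((fs d₀, pt 0), fs sM)) := by
    rw [MulAction.orbitRel_apply]
    refine ⟨k, ?_⟩
    show k • (((fs d₀, pt 0), fs sM) : (Finset GolayPt × GolayPt) × Finset GolayPt) = _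
    rw [Prod.smul_mk, Prod.smul_mk, fs_sM, Finset.smul_finset_insert, Finset.smul_finset_singleton,
      hq1, hq2]
    exact Prod.ext (Prod.ext hd' hp') rfl
  have e1 := MulAction.stabilizerEquivStabilizerOfOrbitRel horb
  have e0 : ↥(MulAction.stabilizer M24 d ⊓ MulAction.stabilizer M24 p ⊓
      MulAction.stabilizer M24 ({q, q'} : Finset GolayPt)) ≃*
      ↥(MulAction.stabilizer M24 (((d, p), ({q, q'} : Finset GolayPt)) :
        (Finset GolayPt × GolayPt) × Finset GolayPt)) :=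
    MulEquiv.subgroupCongr (stab_prod_eq d p _).symm
  have e2 : ↥(MulAction.stabilizer M24 (((fs d₀, pt 0), fs sM) :
      (Finset GolayPt × GolayPt) × Finset GolayPt)) ≃* ↥G₀ :=
    MulEquiv.subgroupCongr (stab_prod_eq _ _ _)
  obtain ⟨e3⟩ := base_iso
  exact ⟨((e0.trans e1).trans e2).trans e3⟩

end Cfsg.Agent.S1602
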