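import Cfsg.Statements.S1604
import Cfsg.Agent.Lib.Helper12.Golay.Flags2

set_option autoImplicit false
open scoped Pointwise
open Cfsg

namespace Cfsg.Agent.S1604

open Cfsg.Agent.Lib.Helper12.Golay

/-- Class values, representatives and instructions for the orbits of the stabiliser of the standard
octad and its points `0`, `1` on the octads through `0` and `1`. -/
def reps : List (ℕ × ℕ × List ℕ) := [(8, 5279, []),
  (4, 18147, [1,1,1,2,1,1,1,0,2,0,0,2,2,2,0,0,0,0,2,1,0,2,0,0,0,0,2,1,1,2,1,2,0,0,2,2,0,0,0,0,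
  0,2,1,1,2,0,0,0,2,0,0,0,0,2,1,2,2,2,0,0,0,0,2,1,2,1,0,2,1,0,0,0,0,2,1,1,2,0,0,0,
  2,0,0,0,0,0,2,1,2,1,0,2,2,0,0,0,0,2,1,1,0,0,2,2,1,1,0,2,2,1]),
  (2, 352547, [1,1,1,2,2,2,1,0,0,0,0,0,2,0,0,2,2,1,0,0,0,0,2,1,1,0,0,2])]

theorem reps_ok : allL reps (repOK stabO01Gens 8 (fun m => tb m 0 && tb m 1)
    (fun m => popcF (Nat.land o₀ m))) = true := by decide +kernel

theorem cases_ok : casesOK 8 (fun m => tb m 0 && tb m 1) (fun m => popcF (Nat.land o₀ m))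
    (reps.map fun r => r.1) = true := by decide +kernel

theorem cnd_iff {m : ℕ} : (pt 0 ∈ fs m ∧ pt 1 ∈ fs m) ↔ (tb m 0 && tb m 1) = true := by
  rw [mem_fs_pt (by decide), mem_fs_pt (by decide), Bool.and_eq_true]

theorem count_base (c n : ℕ)
    (h : countK 4096 (fun u => Nat.beq (popcF (encF u)) 8 &&
      ((tb (encF u) 0 && tb (encF u) 1) && Nat.beq (popcF (Nat.land o₀ (encF u))) c)) = n) :
    {x : Finset GolayPt | x ∈ octads ∧ pt 0 ∈ x ∧ pt 1 ∈ x ∧ (fs o₀ ∩ x).card = c}.ncard = n := by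
  rw [← h]
  have hset : {x : Finset GolayPt | x ∈ octads ∧ pt 0 ∈ x ∧ pt 1 ∈ x ∧ (fs o₀ ∩ x).card = c} =
      {s : Finset GolayPt | s ∈ wordsOfWeight (golayCode : Set (GolayPt → ZMod 2)) 8 ∧
        ((pt 0 ∈ s ∧ pt 1 ∈ s) ∧ (fs o₀ ∩ s).card = c)} := by
    ext x
    simp only [Set.mem_ofPred_eq, and_assoc]
    rfl
  rw [hset]
  apply ncard_wordsOfWeightK 8 (fun s => (pt 0 ∈ s ∧ pt 1 ∈ s) ∧ (fs o₀ ∩ s).card = c)
    (fun m => (tb m 0 && tb m 1) && Nat.beq (popcF (Nat.land o₀ m)) c)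
  intro m hm
  rw [card_fs_inter (by decide), mask_fs hm, Bool.and_eq_true, natBeq_iff, cnd_iff]

theorem count_general (p q : GolayPt) (o : Finset GolayPt) (ho : o ∈ octads) (hp : p ∈ o)
    (hq : q ∈ o) (hpq : p ≠ q) (c : ℕ) :
    {x : Finset GolayPt | x ∈ octads ∧ p ∈ x ∧ q ∈ x ∧ (o ∩ x).card = c}.ncard =
      {x : Finset GolayPt | x ∈ octads ∧ pt 0 ∈ x ∧ pt 1 ∈ x ∧ (fs o₀ ∩ x).card = c}.ncard := by
  obtain ⟨k, hk⟩ := flag_in_in o ho p q hp hq hpq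
  have := ncard_invariant (G := M24) (A := (Finset GolayPt × GolayPt) × GolayPt)
    (B := Finset GolayPt) octads
    (fun g b hb => smul_mem_octads g.2 hb) (fun a b => (a.1.2 ∈ b, a.2 ∈ b, (a.1.1 ∩ b).card))
    (fun g a b => by
      rw [smul_flag2]
      refine Prod.ext (propext ?_) (Prod.ext (propext ?_)
        (card_smul_inter (g : Equiv.Perm GolayPt) a.1.1 b))
      · exact Finset.smul_mem_smul_finset_iff (g : Equiv.Perm GolayPt)
      · exact Finset.smul_mem_smul_finset_iff (g : Equiv.Perm GolayPt))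
    (fun t => t.1 ∧ t.2.1 ∧ t.2.2 = c) k ((fs o₀, pt 0), pt 1)
  rw [hk] at this
  exact this

/-- A hexad stabiliser in the two-point stabiliser has orbits of sizes 1, 16, 60 on the 77 hexads: the 16 hexads disjoint from it and the 60 meeting it in two points. -/
theorem result (p q : Cfsg.GolayPt) (hpq : p ≠ q) (o o' o'' : Finset Cfsg.GolayPt) (ho : o ∈ Cfsg.octads) (ho' : o' ∈ Cfsg.octads) (ho'' : o'' ∈ Cfsg.octads) (hp : p ∈ o ∧ p ∈ o' ∧ p ∈ o'') (hq : q ∈ o ∧ q ∈ o' ∧ q ∈ o'') (h : (o ∩ o').card = (o ∩ o'').card) : {x : Finset Cfsg.GolayPt | x ∈ Cfsg.octads ∧ p ∈ x ∧ q ∈ x ∧ (o ∩ x).card = 2}.ncard = 16 ∧ {x : Finset Cfsg.GolayPt | x ∈ Cfsg.octads ∧ p ∈ x ∧ q ∈ x ∧ (o ∩ x).card = 4}.ncard = 60 ∧ ∃ g : Equiv.Perm Cfsg.GolayPt, g ∈ Cfsg.M24 ∧ g p = p ∧ g q = q ∧ g • o = o ∧ g • o' = o'' := by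
  refine ⟨?_, ?_, ?_⟩
  · rw [count_general p q o ho hp.1 hq.1 hpq]
    exact count_base 2 16 (by decide +kernel)
  · rw [count_general p q o ho hp.1 hq.1 hpq]
    exact count_base 4 60 (by decide +kernel)
  · have key := homogeneous_of_base' (G := M24) (A := (Finset GolayPt × GolayPt) × GolayPt)
      (B := Finset GolayPt) ((fs o₀, pt 0), pt 1) (fun a => {b | b ∈ octads ∧ a.1.2 ∈ b ∧ a.2 ∈ b})
      (fun g a b hb => ⟨smul_mem_octads g.2 hb.1,
        (Finset.smul_mem_smul_finset_iff (g : Equiv.Perm GolayPt)).mpr hb.2.1,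
        (Finset.smul_mem_smul_finset_iff (g : Equiv.Perm GolayPt)).mpr hb.2.2⟩)
      (fun a b => (a.1.1 ∩ b).card)
      (fun g a b => card_smul_inter (g : Equiv.Perm GolayPt) a.1.1 b)
      (by
        intro b hb b' hb' hbb'
        have hinv : popcF (Nat.land o₀ (mask b)) = popcF (Nat.land o₀ (mask b')) := by
          rw [← card_fs_inter (by decide), ← card_fs_inter (by decide)]; exact hbb'
        obtain ⟨g, hg, hgb⟩ := classes_homog stabO01 stabO01_le stabO01Gens stabO01Gens_ok 8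
          (fun m => tb m 0 && tb m 1) (fun m => popcF (Nat.land o₀ m)) reps reps_ok cases_ok b b'
          hb.1 hb'.1
          (by rw [← cnd_iff, fs_mask]; exact hb.2)
          (by rw [← cnd_iff, fs_mask]; exact hb'.2) hinv
        refine ⟨⟨g, stabO01_le hg⟩, ?_, hgb⟩
        rw [smul_flag2]
        exact Prod.ext (Prod.ext hg.1.1.2 hg.1.2) hg.2)
      ((o, p), q) (flag_in_in o ho p q hp.1 hq.1 hpq) o' o'' ⟨ho', hp.2.1, hq.2.1⟩
      ⟨ho'', hp.2.2, hq.2.2⟩ h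
    obtain ⟨g, hg1, hg2⟩ := key
    rw [smul_flag2] at hg1
    have h1 := Prod.ext_iff.mp hg1
    have h2 := Prod.ext_iff.mp h1.1
    exact ⟨g.1, g.2, h2.2, h1.2, h2.1, hg2⟩

end Cfsg.Agent.S1604
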