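import Cfsg.Statements.S1605
import Cfsg.Agent.Lib.Helper12.Golay.Flags2

set_option autoImplicit false
open scoped Pointwise
open Cfsg

namespace Cfsg.Agent.S1605

open Cfsg.Agent.Lib.Helper12.Golay

/-- Class values, representatives and instructions for the orbits of the stabiliser of the standard
octad, its point `0` and the outside point `5` on the octads through `0` and not through `5`. -/
def reps : List (ℕ × ℕ × List ℕ) := [(8, 5279, []),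
  (4, 39257, [1,1,1,1,0,2,1,2,0,0,0,0,2,1,1,1,1,0,2,1,1,0,0,2,0,0,0,2,1,0,2,0,0,0,2,1,1,0,2,0,
  0,2,1,0,2,1,0,0,0,0,0,2,1,2,2,1,2,0,0,0,0,0,2,1,1,0,2,0,0,0,0,0,0,2,1,1,2,1,0,2,
  0,0,0,2,1,1,2,0,0,2,1,1,0,0,2,1,0,0,0,0,2,1,1,0,2,0,0,2,0,0,0,0,2,1,1,1,0,0,2,1,
  0,0,0,2,1,0,0,0,0,0,2,1,1,1,1,2,1,0,2,0,0,0,2,1,0,0,0,2,1,2,1,0,2,1,0,0,0,0,2,1,
  1,0,2,2,2,0,0,0,0,0,0,0,2,1,1,2,2,1,0,0,0,0,2,1,1,0,2,1,0,0,0,2,1,0,0,0,0,0,0,2,
  2,1,1]),
  (2, 175681, [1,1,1,1,2,1,0,0,0,2,0,0,2,1,1,1,1,0,0,0,2,1,2,0,0,2,0,0,0,2,1,1,2,0,0,2,2,0,0,0,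
  2,0,0,0,0,2,1,1,2,2,0,0,0,0,2,1,1,1,2,1,0,0,0,2,2,0,0,0,2,2,2,0,0,0,0,2,0,0,0,0,
  2,1,1,1,1,0,2,2,0,0,0,2,1,0,2,0,0,0,2,1,2,1,0,2,2,0,0,0,0,0,0,2,1,1,1,1,0,2,1,0,
  2,0,0,0,0,2,2,1,0,2,0,0,0,0,2])]

theorem reps_ok : allL reps (repOK stabO05Gens 8 (fun m => tb m 0 && !tb m 5)
    (fun m => popcF (Nat.land o₀ m))) = true := by decide +kernel

theorem cases_ok : casesOK 8 (fun m => tb m 0 && !tb m 5) (fun m => popcF (Nat.land o₀ m))
    (reps.map fun r => r.1) = true := by decide +kernel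

theorem cnd_iff {m : ℕ} : (pt 0 ∈ fs m ∧ pt 5 ∉ fs m) ↔ (tb m 0 && !tb m 5) = true := by
  rw [mem_fs_pt (by decide), mem_fs_pt (by decide), Bool.and_eq_true]
  cases tb m 5 <;> simp

theorem count_fam_base : {x : Finset GolayPt | x ∈ octads ∧ pt 0 ∈ x ∧ pt 5 ∉ x}.ncard = 176 := by
  have h : countK 4096 (fun u => Nat.beq (popcF (encF u)) 8 &&
      (tb (encF u) 0 && !tb (encF u) 5)) = 176 := by decide +kernel
  rw [← h]
  apply ncard_wordsOfWeightK 8 (fun s => pt 0 ∈ s ∧ pt 5 ∉ s) (fun m => tb m 0 && !tb m 5)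
  intro m hm
  exact cnd_iff

theorem count_fam (p q : GolayPt) (hpq : p ≠ q) :
    {x : Finset GolayPt | x ∈ octads ∧ p ∈ x ∧ q ∉ x}.ncard = 176 := by
  obtain ⟨k, hk⟩ := two_transitive p q hpq
  have := ncard_invariant (G := M24) (A := GolayPt × GolayPt) (B := Finset GolayPt) octads
    (fun g b hb => smul_mem_octads g.2 hb) (fun a b => (a.1 ∈ b, a.2 ∉ b))
    (fun g a b => by
      rw [smul_pt_pair]
      refine Prod.ext (propext ?_) (propext (not_congr ?_))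
      · exact Finset.smul_mem_smul_finset_iff (g : Equiv.Perm GolayPt)
      · exact Finset.smul_mem_smul_finset_iff (g : Equiv.Perm GolayPt))
    (fun t => t.1 ∧ t.2) k (pt 0, pt 5)
  rw [hk] at this
  exact this.trans count_fam_base

theorem count_base (c n : ℕ)
    (h : countK 4096 (fun u => Nat.beq (popcF (encF u)) 8 &&
      ((tb (encF u) 0 && !tb (encF u) 5) && Nat.beq (popcF (Nat.land o₀ (encF u))) c)) = n) :
    {x : Finset GolayPt | (x ∈ octads ∧ pt 0 ∈ x ∧ pt 5 ∉ x) ∧ (fs o₀ ∩ x).card = c}.ncard = n := by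
  rw [← h]
  have hset : {x : Finset GolayPt | (x ∈ octads ∧ pt 0 ∈ x ∧ pt 5 ∉ x) ∧ (fs o₀ ∩ x).card = c} =
      {s : Finset GolayPt | s ∈ wordsOfWeight (golayCode : Set (GolayPt → ZMod 2)) 8 ∧
        ((pt 0 ∈ s ∧ pt 5 ∉ s) ∧ (fs o₀ ∩ s).card = c)} := by
    ext x
    simp only [Set.mem_ofPred_eq, and_assoc]
    rfl
  rw [hset]
  apply ncard_wordsOfWeightK 8 (fun s => (pt 0 ∈ s ∧ pt 5 ∉ s) ∧ (fs o₀ ∩ s).card = c)
    (fun m => (tb m 0 && !tb m 5) && Nat.beq (popcF (Nat.land o₀ m)) c)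
  intro m hm
  rw [card_fs_inter (by decide), mask_fs hm, Bool.and_eq_true, natBeq_iff, cnd_iff]

theorem count_general (p q : GolayPt) (o : Finset GolayPt) (ho : o ∈ octads) (hp : p ∈ o)
    (hq : q ∉ o) (c : ℕ) :
    {x : Finset GolayPt | (x ∈ octads ∧ p ∈ x ∧ q ∉ x) ∧ (o ∩ x).card = c}.ncard =
      {x : Finset GolayPt | (x ∈ octads ∧ pt 0 ∈ x ∧ pt 5 ∉ x) ∧ (fs o₀ ∩ x).card = c}.ncard := by
  obtain ⟨k, hk⟩ := flag_in_out o ho p q hp hq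
  have := ncard_invariant (G := M24) (A := (Finset GolayPt × GolayPt) × GolayPt)
    (B := Finset GolayPt) octads
    (fun g b hb => smul_mem_octads g.2 hb) (fun a b => (a.1.2 ∈ b, a.2 ∉ b, (a.1.1 ∩ b).card))
    (fun g a b => by
      rw [smul_flag2]
      refine Prod.ext (propext ?_) (Prod.ext (propext (not_congr ?_))
        (card_smul_inter (g : Equiv.Perm GolayPt) a.1.1 b))
      · exact Finset.smul_mem_smul_finset_iff (g : Equiv.Perm GolayPt)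
      · exact Finset.smul_mem_smul_finset_iff (g : Equiv.Perm GolayPt))
    (fun t => t.1 ∧ t.2.1 ∧ t.2.2 = c) k ((fs o₀, pt 0), pt 5)
  rw [hk] at this
  have e1 : {x : Finset GolayPt | (x ∈ octads ∧ p ∈ x ∧ q ∉ x) ∧ (o ∩ x).card = c} =
      {x : Finset GolayPt | x ∈ octads ∧ (p ∈ x ∧ q ∉ x ∧ (o ∩ x).card = c)} := by
    ext x; simp only [Set.mem_ofPred_eq, and_assoc]
  have e2 : {x : Finset GolayPt | (x ∈ octads ∧ pt 0 ∈ x ∧ pt 5 ∉ x) ∧ (fs o₀ ∩ x).card = c} =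
      {x : Finset GolayPt | x ∈ octads ∧ (pt 0 ∈ x ∧ pt 5 ∉ x ∧ (fs o₀ ∩ x).card = c)} := by
    ext x; simp only [Set.mem_ofPred_eq, and_assoc]
  rw [e1, e2]
  exact this

/-- The stabiliser of two points acts on the 176 octads through the first and not the second point with rank 3: subdegrees 1, 70, 105 (intersections 8, 2, 4). -/
theorem result (p q : Cfsg.GolayPt) (hpq : p ≠ q) : {x : Finset Cfsg.GolayPt | (x ∈ Cfsg.octads ∧ p ∈ x ∧ q ∉ x)}.ncard = 176 ∧ (∀ o o' : Finset Cfsg.GolayPt, (o ∈ Cfsg.octads ∧ p ∈ o ∧ q ∉ o) → (o' ∈ Cfsg.octads ∧ p ∈ o' ∧ q ∉ o') → ∃ g : Equiv.Perm Cfsg.GolayPt, g ∈ Cfsg.M24 ∧ g p = p ∧ g q = q ∧ g • o = o') ∧ ∀ o : Finset Cfsg.GolayPt, (o ∈ Cfsg.octads ∧ p ∈ o ∧ q ∉ o) → {x : Finset Cfsg.GolayPt | (x ∈ Cfsg.octads ∧ p ∈ x ∧ q ∉ x) ∧ (o ∩ x).card = 2}.ncard = 70 ∧ {x : Finset Cfsg.GolayPt | (x ∈ Cfsg.octads ∧ p ∈ x ∧ q ∉ x) ∧ (o ∩ x).card = 4}.ncard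 = 105 ∧ ∀ o' o'' : Finset Cfsg.GolayPt, (o' ∈ Cfsg.octads ∧ p ∈ o' ∧ q ∉ o') → (o'' ∈ Cfsg.octads ∧ p ∈ o'' ∧ q ∉ o'') → (o ∩ o').card = (o ∩ o'').card → ∃ g : Equiv.Perm Cfsg.GolayPt, g ∈ Cfsg.M24 ∧ g p = p ∧ g q = q ∧ g • o = o ∧ g • o' = o'' := by
  refine ⟨count_fam p q hpq, ?_, ?_⟩
  · intro o o' hfo hfo'
    obtain ⟨k, hk⟩ := flag_in_out o hfo.1 p q hfo.2.1 hfo.2.2
    obtain ⟨k', hk'⟩ := flag_in_out o' hfo'.1 p q hfo'.2.1 hfo'.2.2
    have h1 : (k' * k⁻¹) • (((o, p), q) : (Finset GolayPt × GolayPt) × GolayPt) = ((o', p), q) := by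
      rw [mul_smul, ← hk, inv_smul_smul, hk']
    rw [smul_flag2] at h1
    have h2 := Prod.ext_iff.mp h1
    have h3 := Prod.ext_iff.mp h2.1
    exact ⟨(k' * k⁻¹).1, (k' * k⁻¹).2, h3.2, h2.2, h3.1⟩
  · intro o hfo
    refine ⟨?_, ?_, ?_⟩
    · rw [count_general p q o hfo.1 hfo.2.1 hfo.2.2]
      exact count_base 2 70 (by decide +kernel)
    · rw [count_general p q o hfo.1 hfo.2.1 hfo.2.2]
      exact count_base 4 105 (by decide +kernel)
    · intro o' o'' hfo' hfo'' h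
      have key := homogeneous_of_base' (G := M24) (A := (Finset GolayPt × GolayPt) × GolayPt)
        (B := Finset GolayPt) ((fs o₀, pt 0), pt 5)
        (fun a => {b | b ∈ octads ∧ a.1.2 ∈ b ∧ a.2 ∉ b})
        (fun g a b hb => ⟨smul_mem_octads g.2 hb.1,
          (Finset.smul_mem_smul_finset_iff (g : Equiv.Perm GolayPt)).mpr hb.2.1,
          fun hmem => hb.2.2 ((Finset.smul_mem_smul_finset_iff (g : Equiv.Perm GolayPt)).mp hmem)⟩)
        (fun a b => (a.1.1 ∩ b).card)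
        (fun g a b => card_smul_inter (g : Equiv.Perm GolayPt) a.1.1 b)
        (by
          intro b hb b' hb' hbb'
          have hinv : popcF (Nat.land o₀ (mask b)) = popcF (Nat.land o₀ (mask b')) := by
            rw [← card_fs_inter (by decide), ← card_fs_inter (by decide)]; exact hbb'
          obtain ⟨g, hg, hgb⟩ := classes_homog stabO05 stabO05_le stabO05Gens stabO05Gens_ok 8
            (fun m => tb m 0 && !tb m 5) (fun m => popcF (Nat.land o₀ m)) reps reps_ok cases_ok b b'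
            hb.1 hb'.1
            (by rw [← cnd_iff, fs_mask]; exact hb.2)
            (by rw [← cnd_iff, fs_mask]; exact hb'.2) hinv
          refine ⟨⟨g, stabO05_le hg⟩, ?_, hgb⟩
          rw [smul_flag2]
          exact Prod.ext (Prod.ext hg.1.1.2 hg.1.2) hg.2)
        ((o, p), q) (flag_in_out o hfo.1 p q hfo.2.1 hfo.2.2) o' o'' hfo' hfo'' h
      obtain ⟨g, hg1, hg2⟩ := key
      rw [smul_flag2] at hg1
      have h1 := Prod.ext_iff.mp hg1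
      have h2 := Prod.ext_iff.mp h1.1
      exact ⟨g.1, g.2, h2.2, h1.2, h2.1, hg2⟩

end Cfsg.Agent.S1605
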