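import Cfsg.Statements.S1608
import Cfsg.Agent.Lib.Helper12.Golay.Flags

set_option autoImplicit false
open scoped Pointwise
open Cfsg

namespace Cfsg.Agent.S1608

open Cfsg.Agent.Lib.Helper12.Golay

/-- Class values, representatives and instructions for the orbits of the stabiliser of the standard
octad and the point `5` on the octads not through `5`. -/
def reps : List (ℕ × ℕ × List ℕ) := [(8, 5279, []),
  (2, 31554, [1,1,1,2,1,2,1,1,2,0,0,2,1,0,2,0,0,0,2,1,0,2,1,0,0,0,0,0,2,1,1,1,2,0,0,0,2,1,1,0,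
  2,0,0,2,1,0,2,0,0,0,0,2,1,1,0,2,1,0,2,0,0,0,0,0,0,0,2,1,1,0,2,1,1,1,0,0,0,2,1,1,
  1,2,0,0,0,0,2,0,0,0,0,2,2,1,1,2,2,0,0,0,0,2,2,1,2,0,0,0,0,0,0,0,0,2,1,2,1,1,1,2,
  1,1,0,0,0,0,2,1,0,2,1,0,0,0,0,2,1,1,1,2,0,0,2,0,0,0,2,1,0,2,1,0,0,0,0,0,2,1,1,1,
  0,2,0,0,0,2,1,0,2,1,0,2,1,0,0,0,0,0,0,0,2,1,1,1,2,1,1,1,0,0,0,2,1,1,0,0,0,0,0,2,
  1,2,1,0,0,0,2,2,0,0,0,0,2,1,1,1,0,0,2,1,0,2,1,0,2,0,0,0,0,2,1,0,2,0,0,0,0,2,1,1,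
  1,2,0,0,2,2,1,2,0,0,2,0,0,0,0,2,1,1,0,2,1,0,0,0,2,1,0,2,2,0,0,0,0,0,2,1,1,1,2,0,
  0,2,2,1,0,2,0,0,0,0,0,2,1,1,1,0,0,2,1,0,0,0,2,1,1,0,0,2,1,0,0,0,0,0,0,0,0,0,2,1,
  1,1,2,1,1,1,0,0,2,2,0,0,0,2,1,1,0,2,1,0,2,0,0,0,2,1,0,0,0,0,0,2,1,1,1,0,2,1,1,1,
  0,0,2,0,0,2,0,0,0,2,1,2,0,0,2,0,0,0,2,1,1,1,0,0,2,1,2,0,0,0,0,0,0,0,2,1,1,1,0,2,
  1,1,0,2,0,0,0,0,2,1,0,2,2,1,1,1,0,0,2,0,0,0,0,0,0,2,1,1,1,2,0,0,2,1,0,0,0,0,2,1,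
  1,2,0,0,2,1,1,0,2,0,0,2,2,0,0,0,0,0,0,0,0,2,1,2,1,0,2,1,0,2,1,2,1,0,0,0,2,2,1,0,
  0,0,0,0,0,0,2,1,1,1,2,1,0,0,0,2,1,2,0,0,0,0,2,1,1,1,0,0,0,2,1,0,2,0,0,0,0,2,1,1,
  2,0,0,2,1,2,0,0,2,2,0,0,0,0,2,2,1,1,2,0,0,0,2,1,2,0,0,2,2]),
  (4, 36294, [1,1,1,2,1,1,2,1,1,0,2,1,0,2,0,0,0,2,0,0,0,2,1,1,0,2,0,0,2,1,0,2,1,0,0,0,0,0,2,1,
  1,2,1,0,2,0,0,0,0,2,1,1,0,2,1,0,2,0,0,0,2,0,0,0,0,0,2,1,1,1,2,2,0,0,0,2,1,1,1,0,
  2,0,0,2,0,0,2,1,0,2,0,0,0,0,2,1,0,2,2,0,0,0,0,2,1,1,1,2,1,1,0,0,0,0,0,2,2,1,1,0,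
  0,2,1,0,2,0,0,0,0,0,2,1,0,2,1,2,2,0,0,0,2,1,2,0,0,0,0,0,0,0,0,2,1,1,1,2,1,2,0,0,
  0,0,2,2,1,1,1,0,0,0,2,1,1,0,0,2,0,0,0,0,0,2,1,1,1,0,2,2,0,0,0,2,1,0,2,0,0,0,2,1,
  0,2,1,1,0,2,0,0,0,0,0,0,2,1,1,2,2,1,2,0,0,0,0,0,2,1,2,0,0,2,1,0,0,0,0,2,1,1,1,2,
  0,0,0,0,2,1,0,2,2,2,1,0,2,0,0,0,0,0,0,0,0,0,2,1,1,1,2,1,1,1,0,2,0,0,2,1,2,0,0,0,
  0,2,1,0,0,0,0,2,1,1,2,1,0,2,0,0,0,2,2,1,0,0,0,0,2,2,0,0,0,0,2,1,1,1,0,2,2,1,1,0,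
  0,0,0,0,2,0,0,2,1,0,0,0,0,2,1,1,1,0,2,2,1,1,0,2,0,0,0,0,0,2,1,2,1,1,0,0,2,1,0,2,
  0,0,0,0,0,0,2,1,1,1,2,1,0,2,0,0,0,2,2,1,0,0,0,0,2,2,0,0,0,2,1,1,1,0,0,2,1,0,2,0,
  0,0,2,2,1,2,0,0,2,2]),
  (0, 1009728, [1,1,1,2,1,0,0,0,2,1,0,0,0,2,2,1,0,2,0,0,0,0,2,2,2])]

theorem reps_ok : allL reps (repOK stabO5Gens 8 (fun m => !tb m 5)
    (fun m => popcF (Nat.land o₀ m))) = true := by decide +kernel

theorem cases_ok : casesOK 8 (fun m => !tb m 5) (fun m => popcF (Nat.land o₀ m))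
    (reps.map fun r => r.1) = true := by decide +kernel

/-- The action of the group of the code on pairs (set, point). -/
theorem smul_pair (g : M24) (a : Finset GolayPt × GolayPt) :
    g • a = ((g : Equiv.Perm GolayPt) • a.1, (g : Equiv.Perm GolayPt) a.2) := rfl

theorem cnd_iff {m : ℕ} : pt 5 ∉ fs m ↔ (!tb m 5) = true := by
  rw [mem_fs_pt (by decide)]
  cases tb m 5 <;> simp

theorem count_base (c n : ℕ)
    (h : countK 4096 (fun u => Nat.beq (popcF (encF u)) 8 &&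
      (!tb (encF u) 5 && Nat.beq (popcF (Nat.land o₀ (encF u))) c)) = n) :
    {o' : Finset GolayPt | o' ∈ octads ∧ pt 5 ∉ o' ∧ (fs o₀ ∩ o').card = c}.ncard = n := by
  rw [← h]
  apply ncard_wordsOfWeightK 8 (fun s => pt 5 ∉ s ∧ (fs o₀ ∩ s).card = c)
    (fun m => !tb m 5 && Nat.beq (popcF (Nat.land o₀ m)) c)
  intro m hm
  rw [card_fs_inter (by decide), mask_fs hm, Bool.and_eq_true, natBeq_iff, cnd_iff]

theorem count_general (x : GolayPt) (o : Finset GolayPt) (ho : o ∈ octads) (hx : x ∉ o) (c : ℕ) :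
    {o' : Finset GolayPt | o' ∈ octads ∧ x ∉ o' ∧ (o ∩ o').card = c}.ncard =
      {o' : Finset GolayPt | o' ∈ octads ∧ pt 5 ∉ o' ∧ (fs o₀ ∩ o').card = c}.ncard := by
  obtain ⟨k, hk⟩ := flag_out o ho x hx
  have := ncard_invariant (G := M24) (A := Finset GolayPt × GolayPt) (B := Finset GolayPt) octads
    (fun g b hb => smul_mem_octads g.2 hb) (fun a b => (a.2 ∉ b, (a.1 ∩ b).card))
    (fun g a b => by
      rw [smul_pair]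
      refine Prod.ext (propext (not_congr ?_)) (card_smul_inter (g : Equiv.Perm GolayPt) a.1 b)
      exact Finset.smul_mem_smul_finset_iff (g : Equiv.Perm GolayPt))
    (fun t => t.1 ∧ t.2 = c) k (fs o₀, pt 5)
  rw [hk] at this
  exact this

/-- The point stabiliser acts on the 506 octads avoiding the point with rank 4 and subdegrees 1, 15, 210, 280, the suborbits being given by intersection size with the fixed octad. -/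
theorem result (x : Cfsg.GolayPt) (o : Finset Cfsg.GolayPt) (ho : o ∈ Cfsg.octads) (hx : x ∉ o) : {o' : Finset Cfsg.GolayPt | o' ∈ Cfsg.octads ∧ x ∉ o' ∧ (o ∩ o').card = 0}.ncard = 15 ∧ {o' : Finset Cfsg.GolayPt | o' ∈ Cfsg.octads ∧ x ∉ o' ∧ (o ∩ o').card = 4}.ncard = 210 ∧ {o' : Finset Cfsg.GolayPt | o' ∈ Cfsg.octads ∧ x ∉ o' ∧ (o ∩ o').card = 2}.ncard = 280 ∧ ∀ o' o'' : Finset Cfsg.GolayPt, o' ∈ Cfsg.octads → o'' ∈ Cfsg.octads → x ∉ o' → x ∉ o'' → (o ∩ o').card = (o ∩ o'').card → ∃ g : Equiv.Perm Cfsg.GolayPt, g ∈ Cfsg.M24 ∧ g x = x ∧ g • o = o ∧ g • o' = o'' := by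
  refine ⟨?_, ?_, ?_, ?_⟩
  · rw [count_general x o ho hx]
    exact count_base 0 15 (by decide +kernel)
  · rw [count_general x o ho hx]
    exact count_base 4 210 (by decide +kernel)
  · rw [count_general x o ho hx]
    exact count_base 2 280 (by decide +kernel)
  · intro o' o'' ho' ho'' hxo' hxo'' hcard
    have key := homogeneous_of_base' (G := M24) (A := Finset GolayPt × GolayPt)
      (B := Finset GolayPt) (fs o₀, pt 5) (fun a => {b | b ∈ octads ∧ a.2 ∉ b})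
      (fun g a b hb => ⟨smul_mem_octads g.2 hb.1,
        fun hmem => hb.2 ((Finset.smul_mem_smul_finset_iff (g : Equiv.Perm GolayPt)).mp hmem)⟩)
      (fun a b => (a.1 ∩ b).card)
      (fun g a b => card_smul_inter (g : Equiv.Perm GolayPt) a.1 b)
      (by
        intro b hb b' hb' hbb'
        have hinv : popcF (Nat.land o₀ (mask b)) = popcF (Nat.land o₀ (mask b')) := by
          rw [← card_fs_inter (by decide), ← card_fs_inter (by decide)]; exact hbb'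
        obtain ⟨g, hg, hgb⟩ := classes_homog stabO5 stabO5_le stabO5Gens stabO5Gens_ok 8
          (fun m => !tb m 5) (fun m => popcF (Nat.land o₀ m)) reps reps_ok cases_ok b b' hb.1 hb'.1
          (by rw [← cnd_iff, fs_mask]; exact hb.2)
          (by rw [← cnd_iff, fs_mask]; exact hb'.2) hinv
        refine ⟨⟨g, stabO5_le hg⟩, ?_, hgb⟩
        rw [smul_pair]
        exact Prod.ext hg.1.2 hg.2)
      (o, x) (flag_out o ho x hx) o' o'' ⟨ho', hxo'⟩ ⟨ho'', hxo''⟩ hcard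
    obtain ⟨g, hg1, hg2⟩ := key
    rw [smul_pair] at hg1
    exact ⟨g.1, g.2, (Prod.ext_iff.mp hg1).2, (Prod.ext_iff.mp hg1).1, hg2⟩

end Cfsg.Agent.S1608
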