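import Mathlib
import Cfsg.Statements.S1609
import Cfsg.Agent.Lib.helper3.M23Idx
open Cfsg.Agent.Lib.Helper12.Golay

set_option autoImplicit false
open scoped Pointwise
open Cfsg

namespace Cfsg.Agent.S1609

/-- Subgroups of index 253 in the Mathieu group of degree 23 are exactly the duad stabilisers and the heptad stabilisers. -/
theorem result (x : Cfsg.GolayPt) (H : Subgroup ↥(MulAction.stabilizer Cfsg.M24 x)) (hH : H.index = 253) : (∃ s : Finset Cfsg.GolayPt, s.card = 2 ∧ x ∉ s ∧ H = (MulAction.stabilizer Cfsg.M24 s).subgroupOf (MulAction.stabilizer Cfsg.M24 x)) ∨ ∃ o ∈ Cfsg.octads, x ∈ o ∧ H = (MulAction.stabilizer Cfsg.M24 o).subgroupOf (MulAction.stabilizer Cfsg.M24 x) := by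
  classical
  have hS : Nat.card (MulAction.stabilizer Cfsg.M24 x) = 10200960 :=
    Cfsg.Agent.Lib.helper4.card_M23 x
  have hHc : Nat.card H = 40320 := by
    have := H.card_mul_index
    rw [hH, hS] at this
    omega
  -- an octad through `x`
  obtain ⟨t, hxt, htc⟩ := Finset.exists_superset_card_eq (s := ({x} : Finset Cfsg.GolayPt)) (n := 5)
    (by rw [Finset.card_singleton]; norm_num)
    (by rw [Fintype.card_option, ZMod.card]; norm_num)
  obtain ⟨o, ⟨ho, hto⟩, _⟩ := Cfsg.Agent.Lib.helper3.octads_steiner.2 t htc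
  have hxo : x ∈ o := hto (hxt (Finset.mem_singleton_self x))
  -- the pointwise stabiliser of the octad, inside the point stabiliser
  let E : Subgroup ↥(MulAction.stabilizer Cfsg.M24 x) :=
    { carrier := {g | ∀ y ∈ o, ((g : Cfsg.M24) : Equiv.Perm Cfsg.GolayPt) y = y}
      one_mem' := fun _ _ => rfl
      mul_mem' := by
        intro a b ha hb y hy
        show ((a : Cfsg.M24) : Equiv.Perm Cfsg.GolayPt) (((b : Cfsg.M24) : Equiv.Perm Cfsg.GolayPt) y) = y
        rw [hb y hy, ha y hy]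
      inv_mem' := by
        intro a ha y hy
        show (((a : Cfsg.M24) : Equiv.Perm Cfsg.GolayPt))⁻¹ y = y
        rw [Equiv.Perm.inv_eq_iff_eq, ha y hy] }
  have hE2 : IsPGroup 2 E := by
    have hmemO : ∀ g : E, ((g.1 : Cfsg.M24) : Equiv.Perm Cfsg.GolayPt) ∈ octStab o := by
      intro g
      refine ⟨(g.1 : Cfsg.M24).2, (mem_stab_iff _ o).2 fun q => ?_⟩
      constructor
      · intro hq
        have := g.2 _ hq
        rw [Equiv.apply_eq_iff_eq] at this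
        rwa [this] at hq
      · intro hq
        rw [g.2 q hq]
        exact hq
    let φ : E →* (resHom o).ker := MonoidHom.mk'
      (fun g => ⟨⟨((g.1 : Cfsg.M24) : Equiv.Perm Cfsg.GolayPt), hmemO g⟩,
        (mem_ker_resHom o _).2 g.2⟩) (fun _ _ => rfl)
    have hφ : Function.Injective φ := by
      intro g g' h
      apply Subtype.ext
      apply Subtype.ext
      apply Subtype.ext
      exact congrArg (fun z : (resHom o).ker => ((z.1 : octStab o) : Equiv.Perm Cfsg.GolayPt)) h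
    exact (IsPGroup.of_card (n := 4) (by rw [card_ker_resHom o ho]; norm_num)).of_injective φ hφ
  haveI : Fact (Nat.Prime 2) := ⟨Nat.prime_two⟩
  obtain ⟨g, hg⟩ := Cfsg.Agent.Lib.helper3.exists_conj_mem_of_pgroup 2 7 H E hE2
    (by rw [hHc]; norm_num) (by rw [hS]; norm_num)
  -- the image of `H` in the symmetric group
  let K : Subgroup (Equiv.Perm Cfsg.GolayPt) :=
    (H.map (MulAction.stabilizer Cfsg.M24 x).subtype).map Cfsg.M24.subtype
  have hKmem : ∀ k, k ∈ K ↔ ∃ h : ↥(MulAction.stabilizer Cfsg.M24 x), h ∈ H ∧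
      ((h : Cfsg.M24) : Equiv.Perm Cfsg.GolayPt) = k := by
    intro k
    constructor
    · rintro ⟨m, ⟨h, hh, rfl⟩, rfl⟩
      exact ⟨h, hh, rfl⟩
    · rintro ⟨h, hh, rfl⟩
      exact ⟨_, ⟨h, hh, rfl⟩, rfl⟩
  have hKcard : Nat.card K = 40320 := by
    rw [Subgroup.card_map_of_injective Cfsg.M24.subtype_injective,
      Subgroup.card_map_of_injective (MulAction.stabilizer Cfsg.M24 x).subtype_injective, hHc]
  have hK24 : K ≤ Cfsg.M24 := by
    intro k hk
    obtain ⟨h, _, rfl⟩ := (hKmem k).1 hk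
    exact (h : Cfsg.M24).2
  have hKx : ∀ k ∈ K, k x = x := by
    intro k hk
    obtain ⟨h, _, rfl⟩ := (hKmem k).1 hk
    exact MulAction.mem_stabilizer_iff.1 h.2
  have hgx : ((g : Cfsg.M24) : Equiv.Perm Cfsg.GolayPt) x = x := MulAction.mem_stabilizer_iff.1 g.2
  have ho' : ((g : Cfsg.M24) : Equiv.Perm Cfsg.GolayPt) • o ∈ Cfsg.octads :=
    smul_mem_octads (g : Cfsg.M24).2 ho
  have hxo' : x ∈ ((g : Cfsg.M24) : Equiv.Perm Cfsg.GolayPt) • o := by
    have h1 : ((g : Cfsg.M24) : Equiv.Perm Cfsg.GolayPt) • x ∈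
        ((g : Cfsg.M24) : Equiv.Perm Cfsg.GolayPt) • o := Finset.smul_mem_smul_finset hxo
    rw [Equiv.Perm.smul_def, hgx] at h1
    exact h1
  have hE' : ∀ e ∈ Cfsg.M24, (∀ y ∈ ((g : Cfsg.M24) : Equiv.Perm Cfsg.GolayPt) • o, e y = y) →
      e ∈ K := by
    intro e he hfix
    have he' : ((g : Cfsg.M24) : Equiv.Perm Cfsg.GolayPt)⁻¹ * e *
        ((g : Cfsg.M24) : Equiv.Perm Cfsg.GolayPt) ∈ Cfsg.M24 :=
      Cfsg.M24.mul_mem (Cfsg.M24.mul_mem (Cfsg.M24.inv_mem (g : Cfsg.M24).2) he) (g : Cfsg.M24).2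
    have hfix' : ∀ y ∈ o, (((g : Cfsg.M24) : Equiv.Perm Cfsg.GolayPt)⁻¹ * e *
        ((g : Cfsg.M24) : Equiv.Perm Cfsg.GolayPt)) y = y := by
      intro y hy
      have h1 : ((g : Cfsg.M24) : Equiv.Perm Cfsg.GolayPt) y ∈
          ((g : Cfsg.M24) : Equiv.Perm Cfsg.GolayPt) • o := by
        have : ((g : Cfsg.M24) : Equiv.Perm Cfsg.GolayPt) • y ∈
            ((g : Cfsg.M24) : Equiv.Perm Cfsg.GolayPt) • o := Finset.smul_mem_smul_finset hy
        exact this
      rw [Equiv.Perm.mul_apply, Equiv.Perm.mul_apply, hfix _ h1]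
      exact perm_inv_apply _ y
    let eS : ↥(MulAction.stabilizer Cfsg.M24 x) :=
      ⟨⟨_, he'⟩, MulAction.mem_stabilizer_iff.2 (hfix' x hxo)⟩
    have heE : eS ∈ E := hfix'
    have h2 := hg eS heE
    rw [hKmem]
    refine ⟨g * eS * g⁻¹, h2, ?_⟩
    show ((g : Cfsg.M24) : Equiv.Perm Cfsg.GolayPt) *
      (((g : Cfsg.M24) : Equiv.Perm Cfsg.GolayPt)⁻¹ * e * ((g : Cfsg.M24) : Equiv.Perm Cfsg.GolayPt)) *
      ((g : Cfsg.M24) : Equiv.Perm Cfsg.GolayPt)⁻¹ = e
    group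
  have hinvH : ∀ (s : Finset Cfsg.GolayPt), (∀ k ∈ K, ∀ q, k q ∈ s ↔ q ∈ s) →
      ∀ h ∈ H, ∀ q, ((h : Cfsg.M24) : Equiv.Perm Cfsg.GolayPt) q ∈ s ↔ q ∈ s :=
    fun s hs h hh q => hs _ ((hKmem _).2 ⟨h, hh, rfl⟩) q
  rcases Cfsg.Agent.Lib.helper3.m23_orbit_main x K hK24 hKx hKcard _ ho' hxo' hE' with
    ⟨s, hs2, hxs, hsinv⟩ | hoinv
  · left
    refine ⟨s, hs2, hxs, ?_⟩
    apply Cfsg.Agent.Lib.helper3.m23_eq_subgroupOf x H s (hinvH s hsinv)
    rw [hHc]
    exact Cfsg.Agent.Lib.helper3.card_m23Stab_pair x s hs2 hxs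
  · right
    refine ⟨_, ho', hxo', ?_⟩
    apply Cfsg.Agent.Lib.helper3.m23_eq_subgroupOf x H _ (hinvH _ hoinv)
    rw [hHc, Cfsg.Agent.Lib.helper3.card_m23Stab_octad x _ ho' hxo']

end Cfsg.Agent.S1609
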