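import Cfsg.Statements.S1611
import Cfsg.Agent.Lib.Lead.HexMono

set_option autoImplicit false
open Cfsg

namespace Cfsg.Agent.S1611

open Cfsg.Agent.Lib.Lead.F4 Cfsg.Agent.Lib.Lead.F4.F4c Cfsg.Agent.S1610
  Cfsg.Agent.Lib.Lead.HexMono Equiv

open Classical in
theorem card_alt : (Finset.univ.filter
    (fun σ : Perm (Fin 6) => σ ∈ alternatingGroup (Fin 6))).card = 360 := by
  have h1 : Nat.card ↥(alternatingGroup (Fin 6)) = 360 := by
    rw [nat_card_alternatingGroup, Nat.card_eq_fintype_card, Fintype.card_fin]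
    rfl
  rw [← Fintype.card_subtype, ← Nat.card_eq_fintype_card]
  exact h1

section
variable {F : Type*} [Field F] [Fintype F] [DecidableEq F]

/-- a monomial map preserves the hexacode -/
def Valid (ω : F) (σ : Perm (Fin 6)) (c : Fin 6 → Fˣ) : Prop :=
  ∀ x ∈ Cfsg.hexacode F ω, Cfsg.monomialMap σ c x ∈ Cfsg.hexacode F ω

theorem mono_apply (σ : Perm (Fin 6)) (c : Fin 6 → Fˣ) (x : Fin 6 → F) (i : Fin 6) :
    Cfsg.monomialMap σ c x i = (c i : F) * x (σ.symm i) := rfl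

/-- the monomial map as a linear map -/
def monoLin (σ : Perm (Fin 6)) (c : Fin 6 → Fˣ) : (Fin 6 → F) →ₗ[F] (Fin 6 → F) where
  toFun := Cfsg.monomialMap σ c
  map_add' x y := by
    funext i
    simp only [mono_apply, Pi.add_apply, mul_add]
  map_smul' a x := by
    funext i
    simp only [mono_apply, Pi.smul_apply, smul_eq_mul, RingHom.id_apply]
    ring

theorem valid_iff_gens (ω : F) (σ : Perm (Fin 6)) (c : Fin 6 → Fˣ) :
    Valid ω σ c ↔
      Cfsg.monomialMap σ c ![ω, ω ^ 2, ω ^ 2, ω, ω ^ 2, ω] ∈ Cfsg.hexacode F ω ∧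
      Cfsg.monomialMap σ c ![ω ^ 2, ω, ω, ω ^ 2, ω ^ 2, ω] ∈ Cfsg.hexacode F ω ∧
      Cfsg.monomialMap σ c ![ω ^ 2, ω, ω ^ 2, ω, ω, ω ^ 2] ∈ Cfsg.hexacode F ω := by
  constructor
  · intro h
    refine ⟨h _ ?_, h _ ?_, h _ ?_⟩ <;>
    · apply Submodule.subset_span
      simp
  · rintro ⟨h1, h2, h3⟩
    have hle : Cfsg.hexacode F ω ≤ (Cfsg.hexacode F ω).comap (monoLin σ c) := by
      unfold Cfsg.hexacode
      rw [Submodule.span_le]
      rintro x (rfl | rfl | rfl)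
      · exact h1
      · exact h2
      · exact h3
    intro x hx
    exact hle hx

section basic
variable (ω : F)

theorem valid_one : Valid ω (1 : Perm (Fin 6)) (1 : Fin 6 → Fˣ) := by
  intro x hx
  have : Cfsg.monomialMap (1 : Perm (Fin 6)) (1 : Fin 6 → Fˣ) x = x := by
    funext i
    have h1 : (1 : Perm (Fin 6)).symm i = i := rfl
    rw [mono_apply, h1]
    simp
  rw [this]
  exact hx

theorem valid_mul (σ τ : Perm (Fin 6)) (c d : Fin 6 → Fˣ) (h1 : Valid ω σ c) (h2 : Valid ω τ d) :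
    Valid ω (σ * τ) (fun i => c i * d (σ.symm i)) := by
  intro x hx
  have : Cfsg.monomialMap (σ * τ) (fun i => c i * d (σ.symm i)) x =
      Cfsg.monomialMap σ c (Cfsg.monomialMap τ d x) := by
    funext i
    simp only [mono_apply, Units.val_mul]
    have : (σ * τ).symm i = τ.symm (σ.symm i) := rfl
    rw [this]
    ring
  rw [this]
  exact h1 _ (h2 _ hx)

/-- the permutations occurring in monomial automorphisms of the hexacode -/
def SigmaGrp (ω : F) : Subgroup (Perm (Fin 6)) where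
  carrier := {σ | ∃ c : Fin 6 → Fˣ, Valid ω σ c}
  one_mem' := ⟨1, valid_one ω⟩
  mul_mem' := by
    rintro σ τ ⟨c, hc⟩ ⟨d, hd⟩
    exact ⟨_, valid_mul ω σ τ c d hc hd⟩
  inv_mem' := by
    rintro σ hσ
    have hpow : ∀ n : ℕ, σ ^ n ∈ {σ : Perm (Fin 6) | ∃ c : Fin 6 → Fˣ, Valid ω σ c} := by
      intro n
      induction n with
      | zero => rw [pow_zero]; exact ⟨1, valid_one ω⟩
      | succ k ih =>
        obtain ⟨c, hc⟩ := ih
        obtain ⟨d, hd⟩ := hσ
        rw [pow_succ]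
        exact ⟨_, valid_mul ω _ _ c d hc hd⟩
    have hinv : σ⁻¹ = σ ^ (orderOf σ - 1) := by
      have hpos : 0 < orderOf σ := orderOf_pos σ
      have h1 : σ ^ (orderOf σ - 1) * σ = 1 := by
        rw [← pow_succ, Nat.sub_add_cancel hpos, pow_orderOf_eq_one]
      exact (eq_inv_of_mul_eq_one_left h1).symm
    rw [hinv]
    exact hpow _

theorem mem_SigmaGrp (σ : Perm (Fin 6)) : σ ∈ SigmaGrp ω ↔ ∃ c : Fin 6 → Fˣ, Valid ω σ c := Iff.rfl

end basic

variable (hF : Fintype.card F = 4) (ω : F) (hω : ω ^ 2 + ω + 1 = 0)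
include hF hω

/-- the embedding of the concrete field -/
noncomputable abbrev ιω : F4c →+* F := toFHom ω (char_two_of_card hF) (omega_sq hF ω hω)

theorem ι_inj : Function.Injective (ιω hF ω hω) :=
  toFHom_injective ω (char_two_of_card hF) (omega_sq hF ω hω)

theorem ι_w : ιω hF ω hω F4c.w = ω := rfl

theorem ι_v : ιω hF ω hω F4c.v = ω ^ 2 := by
  have hsq : ω ^ 2 = ω + 1 := by rw [sq]; exact omega_sq hF ω hω
  rw [hsq]
  rfl

theorem G1_eq : (![ω, ω ^ 2, ω ^ 2, ω, ω ^ 2, ω] : Fin 6 → F) = fun i => ιω hF ω hω (g1c i) := by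
  funext i
  fin_cases i <;> simp [g1c, ι_w, ι_v]

theorem G2_eq : (![ω ^ 2, ω, ω, ω ^ 2, ω ^ 2, ω] : Fin 6 → F) = fun i => ιω hF ω hω (g2c i) := by
  funext i
  fin_cases i <;> simp [g2c, ι_w, ι_v]

theorem G3_eq : (![ω ^ 2, ω, ω ^ 2, ω, ω, ω ^ 2] : Fin 6 → F) = fun i => ιω hF ω hω (g3c i) := by
  funext i
  fin_cases i <;> simp [g3c, ι_w, ι_v]

theorem mem_iff_inHc (y : Fin 6 → F4c) :
    (fun i => ιω hF ω hω (y i)) ∈ Cfsg.hexacode F ω ↔ inHc y := by
  rw [mem_hexacode_iff hF ω hω, inHc_iff]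
  constructor
  · rintro ⟨t, ht⟩
    refine ⟨t, ?_⟩
    funext i
    exact ι_inj hF ω hω (congrFun ht i)
  · rintro ⟨t, rfl⟩
    exact ⟨t, rfl⟩

/-- concrete scalars of a monomial map -/
theorem exists_conc (c : Fin 6 → Fˣ) :
    ∃ c' : Fin 6 → F4c, (∀ i, ιω hF ω hω (c' i) = (c i : F)) ∧ ∀ i, c' i ≠ 0 := by
  have hs := ι_surj hF (ιω hF ω hω) (ι_inj hF ω hω)
  choose c' hc' using fun i => hs (c i : F)
  refine ⟨c', hc', fun i h0 => ?_⟩
  have := hc' i
  rw [h0, map_zero] at this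
  exact (c i).ne_zero this.symm

theorem mono_conc (σ : Perm (Fin 6)) (c : Fin 6 → Fˣ) (c' : Fin 6 → F4c)
    (hc' : ∀ i, ιω hF ω hω (c' i) = (c i : F)) (g : Fin 6 → F4c) :
    Cfsg.monomialMap σ c (fun i => ιω hF ω hω (g i)) =
      fun i => ιω hF ω hω (c' i * g (σ.symm i)) := by
  funext i
  rw [mono_apply, map_mul, hc']

theorem valid_iff_validc (σ : Perm (Fin 6)) (c : Fin 6 → Fˣ) (c' : Fin 6 → F4c)
    (hc' : ∀ i, ιω hF ω hω (c' i) = (c i : F)) :
    Valid ω σ c ↔ validc (⇑σ.symm) c' := by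
  rw [valid_iff_gens, G1_eq hF ω hω, G2_eq hF ω hω, G3_eq hF ω hω,
    mono_conc hF ω hω σ c c' hc', mono_conc hF ω hω σ c c' hc', mono_conc hF ω hω σ c c' hc',
    mem_iff_inHc, mem_iff_inHc, mem_iff_inHc]
  rfl

/-- validity in terms of the parameter `t` -/
theorem valid_iff_good (σ : Perm (Fin 6)) (c : Fin 6 → Fˣ) :
    Valid ω σ c ↔ ∃ t : T3, goodf (⇑σ.symm) t ∧
      ∀ i, (c i : F) = ιω hF ω hω (candf (⇑σ.symm) t i) := by
  obtain ⟨c', hc', hne⟩ := exists_conc hF ω hω c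
  rw [valid_iff_validc hF ω hω σ c c' hc', validc_iff _ _ hne]
  constructor
  · rintro ⟨t, hg, rfl⟩
    exact ⟨t, hg, fun i => (hc' i).symm⟩
  · rintro ⟨t, hg, h⟩
    refine ⟨t, hg, ?_⟩
    funext i
    apply ι_inj hF ω hω
    rw [hc', h]

/-- the scalars attached to a good parameter -/
noncomputable def cOf (σ : Perm (Fin 6)) (t : T3) (h : goodf (⇑σ.symm) t) : Fin 6 → Fˣ :=
  fun i => Units.mk0 (ιω hF ω hω (candf (⇑σ.symm) t i)) (by
    rw [Ne, map_eq_zero_iff _ (ι_inj hF ω hω)]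
    exact candf_ne _ t h i)

theorem cOf_valid (σ : Perm (Fin 6)) (t : T3) (h : goodf (⇑σ.symm) t) :
    Valid ω σ (cOf hF ω hω σ t h) :=
  (valid_iff_good hF ω hω σ _).mpr ⟨t, h, fun _ => rfl⟩

/-- the number of valid scalars for a given permutation -/
theorem card_valid (σ : Perm (Fin 6)) :
    Nat.card {c : Fin 6 → Fˣ // Valid ω σ c} =
      (Finset.univ.filter (fun t : T3 => goodf (⇑σ.symm) t)).card := by
  rw [← Fintype.card_subtype, ← Nat.card_eq_fintype_card]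
  symm
  apply Nat.card_congr
  refine Equiv.ofBijective
    (fun t : {t : T3 // goodf (⇑σ.symm) t} => ⟨cOf hF ω hω σ t.1 t.2, cOf_valid hF ω hω σ t.1 t.2⟩)
    ⟨?_, ?_⟩
  · rintro ⟨t, ht⟩ ⟨t', ht'⟩ h
    apply Subtype.ext
    apply candf_injective (⇑σ.symm)
    funext i
    have h1 := congrFun (congrArg Subtype.val h) i
    have h2 := congrArg Units.val h1
    exact ι_inj hF ω hω h2
  · rintro ⟨c, hc⟩
    obtain ⟨t, ht, hct⟩ := (valid_iff_good hF ω hω σ c).mp hc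
    refine ⟨⟨t, ht⟩, ?_⟩
    apply Subtype.ext
    funext i
    apply Units.ext
    exact (hct i).symm

theorem mem_SigmaGrp_iff_good (σ : Perm (Fin 6)) :
    σ ∈ SigmaGrp ω ↔ ∃ t : T3, goodf (⇑σ.symm) t := by
  rw [mem_SigmaGrp]
  constructor
  · rintro ⟨c, hc⟩
    obtain ⟨t, ht, -⟩ := (valid_iff_good hF ω hω σ c).mp hc
    exact ⟨t, ht⟩
  · rintro ⟨t, ht⟩
    exact ⟨_, cOf_valid hF ω hω σ t ht⟩

theorem threeCycle_mem (σ : Perm (Fin 6)) (h3 : σ.IsThreeCycle) : σ ∈ SigmaGrp ω := by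
  rw [mem_SigmaGrp_iff_good hF ω hω]
  apply tab2 _ σ.symm.injective
  have h3' : σ⁻¹.IsThreeCycle := h3.inv
  have hcard := card_support_eq_three_iff.mpr h3'
  unfold moved
  rw [← hcard]
  congr 1

theorem swap_not_mem : Equiv.swap (0 : Fin 6) 1 ∉ SigmaGrp ω := by
  rw [mem_SigmaGrp_iff_good hF ω hω]
  rintro ⟨t, ht⟩
  have htab : (⇑(Equiv.swap (0 : Fin 6) 1).symm : Fin 6 → Fin 6) = ![1, 0, 2, 3, 4, 5] := by
    funext i
    fin_cases i <;> decide
  rw [htab] at ht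
  exact tab3 t ht

theorem SigmaGrp_eq : SigmaGrp ω = alternatingGroup (Fin 6) := by
  have hle : alternatingGroup (Fin 6) ≤ SigmaGrp ω := by
    rw [← Equiv.Perm.closure_three_cycles_eq_alternating, Subgroup.closure_le]
    intro σ hσ
    exact threeCycle_mem hF ω hω σ hσ
  have hdvd := Subgroup.index_dvd_of_le hle
  rw [alternatingGroup.index_eq_two] at hdvd
  have hne : SigmaGrp ω ≠ ⊤ := by
    intro h
    apply swap_not_mem hF ω hω
    rw [h]
    trivial
  rcases (Nat.dvd_prime Nat.prime_two).mp hdvd with h1 | h2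
  · exact absurd (Subgroup.index_eq_one.mp h1) hne
  · exact Equiv.Perm.eq_alternatingGroup_of_index_eq_two h2

theorem diag_const (c : Fin 6 → Fˣ) (h : Valid ω 1 c) : ∀ i j, c i = c j := by
  obtain ⟨t, ht, hct⟩ := (valid_iff_good hF ω hω 1 c).mp h
  have htab : (⇑(1 : Perm (Fin 6)).symm : Fin 6 → Fin 6) = ![0, 1, 2, 3, 4, 5] := by
    funext i
    fin_cases i <;> rfl
  rw [htab] at ht hct
  intro i j
  apply Units.ext
  rw [hct i, hct j, tab4 t ht i j]

open Classical in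
theorem card_total :
    Nat.card {f : Perm (Fin 6) × (Fin 6 → Fˣ) // Valid ω f.1 f.2} = 1080 := by
  rw [Nat.card_congr (Equiv.subtypeProdEquivSigmaSubtype (fun σ c => Valid ω σ c)),
    Nat.card_sigma]
  have h : ∀ σ : Perm (Fin 6), Nat.card {c : Fin 6 → Fˣ // Valid ω σ c} =
      if σ ∈ alternatingGroup (Fin 6) then 3 else 0 := by
    intro σ
    rw [card_valid hF ω hω]
    split_ifs with hσ
    · rw [← SigmaGrp_eq hF ω hω, mem_SigmaGrp_iff_good hF ω hω] at hσ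
      exact tab1 _ σ.symm.injective hσ
    · rw [← SigmaGrp_eq hF ω hω, mem_SigmaGrp_iff_good hF ω hω] at hσ
      rw [Finset.card_eq_zero, Finset.filter_eq_empty_iff]
      intro t _ ht
      exact hσ ⟨t, ht⟩
  simp_rw [h]
  rw [Finset.sum_ite, Finset.sum_const_zero, add_zero, Finset.sum_const, smul_eq_mul, card_alt]

end

/-- The monomial automorphism group of the hexacode has order 1080: its diagonal part is the scalars and its permutation parts form the alternating group of degree 6. -/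
theorem result (F : Type*) [Field F] [Fintype F] [DecidableEq F] (hF : Fintype.card F = 4) (ω : F) (hω : ω ^ 2 + ω + 1 = 0) : Nat.card {f : Equiv.Perm (Fin 6) × (Fin 6 → Fˣ) // (∀ x ∈ Cfsg.hexacode F ω, Cfsg.monomialMap f.1 f.2 x ∈ Cfsg.hexacode F ω)} = 1080 ∧ (∀ c : Fin 6 → Fˣ, (∀ x ∈ Cfsg.hexacode F ω, Cfsg.monomialMap 1 c x ∈ Cfsg.hexacode F ω) → ∀ i j, c i = c j) ∧ {σ : Equiv.Perm (Fin 6) | ∃ c : Fin 6 → Fˣ, (∀ x ∈ Cfsg.hexacode F ω, Cfsg.monomialMap σ c x ∈ Cfsg.hexacode F ω)} = (alternatingGroup (Fin 6) : Set (Equiv.Perm (Fin 6))) := by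
  refine ⟨card_total hF ω hω, fun c h => diag_const hF ω hω c h, ?_⟩
  rw [← SigmaGrp_eq hF ω hω]
  rfl

end Cfsg.Agent.S1611
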