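import Cfsg.Statements.S1613
import Cfsg.Agent.Lib.Helper27.TTLocalClass
import Cfsg.Agent.Lib.Helper27.PerpSylow
import Cfsg.Agent.Lib.Helper13.FStarQuot
import Cfsg.Agent.S5352
import Cfsg.Agent.S5353

set_option autoImplicit false
open Cfsg
open scoped commutatorElement

namespace Cfsg.Agent.S1613

/-- For a transposition x of a Fischer 3-transposition group, the transpositions commuting with x (other than x) form one conjugacy class of the subgroup they generate. -/
theorem result {G : Type*} [Group G] [Finite G] (hsol : ∀ N : Subgroup G, N.Normal → Group.IsSolvable ↥N → N = ⊥) (hperf : ⁅commutator G, commutator G⁆ = commutator G) {D : Set G} (hD : Cfsg.IsThreeTranspositionClass D) (x : G) (hx : x ∈ D) : ∀ y ∈ {y : G | y ∈ D ∧ y ≠ x ∧ Commute x y}, ∀ y' ∈ {y : G | y ∈ D ∧ y ≠ x ∧ Commute x y}, ∃ g ∈ Subgroup.closure {y : G | y ∈ D ∧ y ≠ x ∧ Commute x y}, g * y * g⁻¹ = y' := by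
  classical
  intro y hy y' hy'
  obtain ⟨hDs, ⟨d₀, hd₀, hDeq⟩, hgen⟩ := hD
  have hD : Cfsg.IsThreeTranspositionClass D := ⟨hDs, ⟨d₀, hd₀, hDeq⟩, hgen⟩
  have hconj : ∀ g : G, ∀ d ∈ D, g * d * g⁻¹ ∈ D := by
    intro g d hd
    rw [hDeq] at hd ⊢
    have h1 : IsConj d₀ d := hd
    show IsConj d₀ (g * d * g⁻¹)
    exact h1.trans (isConj_iff.mpr ⟨g, rfl⟩)
  have hall : ∀ a ∈ D, ∀ b ∈ D, ∃ g : G, g * a * g⁻¹ = b := by
    intro a ha b hb
    rw [hDeq] at ha hb
    have h1 : IsConj d₀ a := ha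
    have h2 : IsConj d₀ b := hb
    exact isConj_iff.mp (h1.symm.trans h2)
  have hD2 : ∃ a ∈ D, ∃ b ∈ D, a ≠ b := ⟨x, hx, y, hy.1, fun e => hy.2.1 e.symm⟩
  have hw : ∃ a ∈ D, ∃ b ∈ D, a ≠ b ∧ Commute a b :=
    ⟨x, hx, y, hy.1, fun e => hy.2.1 e.symm, hy.2.2⟩
  haveI : Fact (Nat.Prime 2) := ⟨Nat.prime_two⟩
  haveI : Fact (Nat.Prime 3) := ⟨Nat.prime_three⟩
  have hpsol : ∀ p : ℕ, [Fact p.Prime] → Cfsg.pCore p G = ⊥ := by
    intro p _
    apply hsol _ (Cfsg.Agent.Lib.Helper1.pCore_normal p)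
    haveI : Group.IsNilpotent ↥(Cfsg.pCore p G) :=
      (Cfsg.Agent.Lib.Helper1.pCore_isPGroup (G := G) p).isNilpotent
    infer_instance
  have h2 : Cfsg.pCore 2 G ≤ Subgroup.center G := by rw [hpsol 2]; exact bot_le
  have h3 : Cfsg.pCore 3 G ≤ Subgroup.center G := by rw [hpsol 3]; exact bot_le
  obtain ⟨L, hLn, hLq, hF, hor⟩ := Cfsg.Agent.S5352.result hD hD2 h2 h3
  haveI := hLn
  have hidx : L.index ≤ 2 := by
    rcases hor with hL | hwid
    · rw [hL, Subgroup.index_top]; norm_num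
    · have hK : ∀ a ∈ D, ∀ b ∈ D, Commute a b → a⁻¹ * b ∈ L := by
        intro a ha b hb hc
        apply hwid a ha b hb
        have : a * b * a⁻¹ * b⁻¹ = 1 := by
          rw [hc.eq, mul_inv_cancel_right, mul_inv_cancel]
        rw [this]; exact L.one_mem
      have hcube := Cfsg.Agent.Lib.Helper27.PerpSylow.cubeClass_image hDs hconj L hK
      have hgen' : Subgroup.closure ((QuotientGroup.mk' L) '' D) = ⊤ := by
        rw [← MonoidHom.map_closure, hgen]
        exact Subgroup.map_top_of_surjective _ (QuotientGroup.mk'_surjective L)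
      have hwidth := Cfsg.Agent.Lib.Helper27.W1.width_one hcube hgen'
        (d := QuotientGroup.mk' L x) ⟨x, hx, rfl⟩
      haveI hPn : (Cfsg.pCore 3 (G ⧸ L)).Normal := Cfsg.Agent.Lib.Helper1.pCore_normal 3
      have hcyc : IsCyclic ((G ⧸ L) ⧸ Cfsg.pCore 3 (G ⧸ L)) := by
        rw [isCyclic_iff_exists_zpowers_eq_top]
        refine ⟨QuotientGroup.mk' _ (QuotientGroup.mk' L x), ?_⟩
        have h1 : Subgroup.map (QuotientGroup.mk' (Cfsg.pCore 3 (G ⧸ L)))
            (Subgroup.zpowers (QuotientGroup.mk' L x) ⊔ Cfsg.pCore 3 (G ⧸ L)) = ⊤ := by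
          rw [hwidth]
          exact Subgroup.map_top_of_surjective _ (QuotientGroup.mk'_surjective _)
        rw [Subgroup.map_sup, MonoidHom.map_zpowers, QuotientGroup.map_mk'_self, sup_bot_eq] at h1
        exact h1
      have hcomle : commutator (G ⧸ L) ≤ Cfsg.pCore 3 (G ⧸ L) :=
        Subgroup.Normal.quotient_commutative_iff_commutator_le.mp IsCyclic.isMulCommutative
      have hmap : Subgroup.map (QuotientGroup.mk' L) (commutator G) = commutator (G ⧸ L) := by
        rw [commutator_def, commutator_def, Subgroup.map_commutator,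
          Subgroup.map_top_of_surjective _ (QuotientGroup.mk'_surjective L)]
      have hperf' : ⁅commutator (G ⧸ L), commutator (G ⧸ L)⁆ = commutator (G ⧸ L) := by
        rw [← hmap, ← Subgroup.map_commutator, hperf]
      have hsolv : Group.IsSolvable ↥(commutator (G ⧸ L)) := by
        haveI : Group.IsNilpotent ↥(Cfsg.pCore 3 (G ⧸ L)) :=
          (Cfsg.Agent.Lib.Helper1.pCore_isPGroup (G := G ⧸ L) 3).isNilpotent
        haveI : Group.IsSolvable ↥(Cfsg.pCore 3 (G ⧸ L)) := inferInstance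
        exact Group.isSolvable_of_isSolvable_injective (Subgroup.inclusion_injective hcomle)
      have hbot := Cfsg.Agent.Lib.Helper13.perfect_eq_bot_of_isSolvable _ hsolv hperf'
      have hcomL : commutator G ≤ L := by
        rw [← hmap, Subgroup.map_eq_bot_iff, QuotientGroup.ker_mk'] at hbot
        exact hbot
      have hsame : ∀ a ∈ D, (QuotientGroup.mk' L) a = (QuotientGroup.mk' L) x := by
        intro a ha
        obtain ⟨g, hg⟩ := hall x hx a ha
        show (a : G ⧸ L) = (x : G ⧸ L)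
        rw [QuotientGroup.eq]
        apply hcomL
        have e : a⁻¹ * x = ⁅g, x⁻¹⁆ := by
          rw [commutatorElement_def, ← hg]; group
        rw [e, commutator_def]
        exact Subgroup.commutator_mem_commutator (Subgroup.mem_top g) (Subgroup.mem_top _)
      exact Cfsg.Agent.Lib.Helper27.TTPrim2.index_le_two_of_coset_dichotomy
        (Cfsg.Agent.Lib.Helper27.TTPrim2.coset_dichotomy hgen
          (Cfsg.Agent.Lib.Helper27.tt_sq hDs hx) hsame)
  have hprim := (Cfsg.Agent.S5353.result hD hD2 h2 h3 L hLq hF).1 hidx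
  exact Cfsg.Agent.Lib.Helper27.TTLocalClass.single_class hDs hconj hgen hprim hw hx y hy y' hy'

end Cfsg.Agent.S1613
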