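import Cfsg.Statements.S1612
import Cfsg.Agent.S1613
import Cfsg.Agent.S5345

set_option autoImplicit false
open Cfsg

namespace Cfsg.Agent.S1612

section Aux

variable {G : Type*} [Group G] [Finite G] {D : Set G}

/-- a member mapping a finite set into itself by conjugation normalizes it -/
theorem mem_normalizer_of_forall (E : Set G) (n : G) (h : ∀ e ∈ E, n * e * n⁻¹ ∈ E) :
    n ∈ Subgroup.normalizer E := by
  rw [Subgroup.mem_set_normalizer_iff]
  intro x
  refine ⟨h x, ?_⟩
  intro hx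
  have hinj : Function.Injective (fun y : G => n * y * n⁻¹) := by
    intro u v huv
    exact mul_left_cancel (mul_right_cancel huv)
  have hsub : (fun y : G => n * y * n⁻¹) '' E ⊆ E := by
    rintro _ ⟨e, he, rfl⟩
    exact h e he
  have hcard : E.ncard ≤ ((fun y : G => n * y * n⁻¹) '' E).ncard :=
    le_of_eq (Set.ncard_image_of_injective E hinj).symm
  have heq := Set.eq_of_subset_of_ncard_le hsub hcard (Set.toFinite _)
  rw [← heq] at hx
  obtain ⟨e, he, hex⟩ := hx
  rw [← hinj hex]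
  exact he

/-- the members of the class inside a 2-subgroup containing a commuting set of maximum size are
the members of that set -/
theorem inter_eq (hDs : Cfsg.IsThreeTranspositionSet D) {E : Set G} (hE : E ⊆ D)
    (hmax : ∀ E' : Set G, E' ⊆ D → (∀ a ∈ E', ∀ b ∈ E', Commute a b) → E'.ncard ≤ E.ncard)
    (T : Subgroup G) (hT : IsPGroup 2 T) (hET : ∀ e ∈ E, e ∈ T) :
    {d : G | d ∈ D ∧ d ∈ T} = E := by
  have sq : ∀ d ∈ D, d * d = 1 := fun d hd => Cfsg.Agent.S5345.sq_one d (hDs.1 d hd)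
  have inv : ∀ d ∈ D, d⁻¹ = d := fun d hd => inv_eq_of_mul_eq_one_right (sq d hd)
  have hXc : ∀ a ∈ {d : G | d ∈ D ∧ d ∈ T}, ∀ b ∈ {d : G | d ∈ D ∧ d ∈ T}, Commute a b := by
    rintro a ⟨haD, haT⟩ b ⟨hbD, hbT⟩
    have habT : a * b ∈ T := T.mul_mem haT hbT
    have h2 : (a * b) ^ 2 = 1 := by
      rcases hDs.2 a haD b hbD with h | h
      · exact h
      · obtain ⟨k, hk⟩ := hT ⟨a * b, habT⟩
        have hk' : (a * b) ^ 2 ^ k = 1 := by
          have := congrArg Subtype.val hk
          simpa using this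
        have h1 : orderOf (a * b) ∣ 2 ^ k := orderOf_dvd_of_pow_eq_one hk'
        have h3 : orderOf (a * b) ∣ 3 := orderOf_dvd_of_pow_eq_one h
        have hcop : Nat.Coprime (2 ^ k) 3 := Nat.Coprime.pow_left k (by norm_num)
        have := Nat.dvd_gcd h1 h3
        rw [hcop] at this
        have : a * b = 1 := orderOf_eq_one_iff.mp (Nat.dvd_one.mp this)
        rw [this, one_pow]
    have h3 : a * b = (a * b)⁻¹ := by
      rw [eq_inv_iff_mul_eq_one, ← pow_two]; exact h2
    rw [mul_inv_rev, inv a haD, inv b hbD] at h3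
    exact h3
  have hsub : E ⊆ {d : G | d ∈ D ∧ d ∈ T} := fun e he => ⟨hE he, hET e he⟩
  exact (Set.eq_of_subset_of_ncard_le hsub (hmax _ (fun d hd => hd.1) hXc) (Set.toFinite _)).symm

/-- a conjugate of the maximum commuting set inside a subgroup containing the set can be moved
back onto the set by a member of the subgroup -/
theorem conj_back (hDs : Cfsg.IsThreeTranspositionSet D)
    (hconj : ∀ g : G, ∀ d ∈ D, g * d * g⁻¹ ∈ D) {E : Set G} (hE : E ⊆ D)
    (hc : ∀ a ∈ E, ∀ b ∈ E, Commute a b)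
    (hmax : ∀ E' : Set G, E' ⊆ D → (∀ a ∈ E', ∀ b ∈ E', Commute a b) → E'.ncard ≤ E.ncard)
    (K : Subgroup G) (hEK : ∀ e ∈ E, e ∈ K) (g : G) (hgK : ∀ e ∈ E, g * e * g⁻¹ ∈ K) :
    ∃ h ∈ K, h * g ∈ Subgroup.normalizer E := by
  haveI : Fact (Nat.Prime 2) := ⟨Nat.prime_two⟩
  have sq : ∀ d ∈ D, d * d = 1 := fun d hd => Cfsg.Agent.S5345.sq_one d (hDs.1 d hd)
  have hP : IsPGroup 2 (Subgroup.closure E) :=
    Cfsg.Agent.S5345.pgroup_of_comm_invol E (fun e he => sq e (hE he))
      (fun a ha b hb => (hc a ha b hb).eq)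
  have hP' : IsPGroup 2 (Subgroup.closure ((fun x => g * x * g⁻¹) '' E)) := by
    apply Cfsg.Agent.S5345.pgroup_of_comm_invol
    · rintro _ ⟨e, he, rfl⟩
      exact sq _ (hconj g e (hE he))
    · rintro _ ⟨a, ha, rfl⟩ _ ⟨b, hb, rfl⟩
      exact ((Commute.conj_iff g).mpr (hc a ha b hb)).eq
  obtain ⟨S, hS⟩ := (hP.comap_subtype (K := K)).exists_le_sylow
  obtain ⟨m, hm⟩ := Cfsg.Agent.S5345.sylow_conj_into S _ (hP'.comap_subtype (K := K))
  refine ⟨(m : G), m.2, ?_⟩
  have hT : IsPGroup 2 ((S : Subgroup ↥K).map K.subtype) := S.isPGroup'.map K.subtype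
  have hET : ∀ e ∈ E, e ∈ (S : Subgroup ↥K).map K.subtype := by
    intro e he
    refine ⟨⟨e, hEK e he⟩, ?_, rfl⟩
    apply hS
    show (⟨e, hEK e he⟩ : ↥K) ∈ (Subgroup.closure E).comap K.subtype
    rw [Subgroup.mem_comap]
    exact Subgroup.subset_closure he
  have hint := inter_eq hDs hE hmax _ hT hET
  apply mem_normalizer_of_forall
  intro e he
  rw [← hint]
  refine ⟨hconj _ e (hE he), ?_⟩
  have hy : (⟨g * e * g⁻¹, hgK e he⟩ : ↥K) ∈
      (Subgroup.closure ((fun x => g * x * g⁻¹) '' E)).comap K.subtype := by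
    rw [Subgroup.mem_comap]
    exact Subgroup.subset_closure ⟨e, he, rfl⟩
  have := hm _ hy
  refine ⟨_, this, ?_⟩
  simp only [Subgroup.coe_subtype, Subgroup.coe_mul, Subgroup.coe_inv]
  group

end Aux

/-- In a 3-transposition group (no solvable normal subgroup, perfect derived group), the normaliser of a commuting set of transpositions of maximum size contains a Sylow 2-subgroup and is doubly transitive on the set. -/
theorem result {G : Type*} [Group G] [Finite G] (hsol : ∀ N : Subgroup G, N.Normal → Group.IsSolvable ↥N → N = ⊥) (hperf : ⁅commutator G, commutator G⁆ = commutator G) {D : Set G} (hD : Cfsg.IsThreeTranspositionClass D) {E : Set G} (hE : E ⊆ D) (hc : ∀ a ∈ E, ∀ b ∈ E, Commute a b) (hmax : ∀ E' : Set G, E' ⊆ D → (∀ a ∈ E', ∀ b ∈ E', Commute a b) → E'.ncard ≤ E.ncard) : (∃ P : Sylow 2 G, (P : Subgroup G) ≤ Subgroup.normalizer E) ∧ ∀ a ∈ E, ∀ b ∈ E, ∀ c ∈ E, ∀ d ∈ E, a ≠ b → c ≠ d → ∃ g ∈ Subgroup.normalizer E, g * a * g⁻¹ = c ∧ g * b * g⁻¹ = d := by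
  classical
  haveI : Fact (Nat.Prime 2) := ⟨Nat.prime_two⟩
  obtain ⟨hDs, ⟨d₀, hd₀, hDeq⟩, hgen⟩ := hD
  have hD : Cfsg.IsThreeTranspositionClass D := ⟨hDs, ⟨d₀, hd₀, hDeq⟩, hgen⟩
  have hconj : ∀ g : G, ∀ d ∈ D, g * d * g⁻¹ ∈ D := by
    intro g d hd
    rw [hDeq] at hd ⊢
    have h1 : IsConj d₀ d := hd
    show IsConj d₀ (g * d * g⁻¹)
    exact h1.trans (isConj_iff.mpr ⟨g, rfl⟩)
  have hall : ∀ a ∈ D, ∀ b ∈ D, ∃ g : G, g * a * g⁻¹ = b := by
    intro a ha b hb
    rw [hDeq] at ha hb
    have h1 : IsConj d₀ a := ha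
    have h2 : IsConj d₀ b := hb
    exact isConj_iff.mp (h1.symm.trans h2)
  have sq : ∀ d ∈ D, d * d = 1 := fun d hd => Cfsg.Agent.S5345.sq_one d (hDs.1 d hd)
  have hP : IsPGroup 2 (Subgroup.closure E) :=
    Cfsg.Agent.S5345.pgroup_of_comm_invol E (fun e he => sq e (hE he))
      (fun a ha b hb => (hc a ha b hb).eq)
  refine ⟨?_, ?_⟩
  · obtain ⟨P, hPle⟩ := hP.exists_le_sylow
    refine ⟨P, ?_⟩
    intro p hp
    apply mem_normalizer_of_forall
    intro e he
    have hint := inter_eq hDs hE hmax (P : Subgroup G) P.isPGroup'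
      (fun e he => hPle (Subgroup.subset_closure he))
    rw [← hint]
    exact ⟨hconj p e (hE he), (P : Subgroup G).mul_mem ((P : Subgroup G).mul_mem hp
      (hPle (Subgroup.subset_closure he))) ((P : Subgroup G).inv_mem hp)⟩
  · -- transitivity
    have htrans : ∀ a ∈ E, ∀ c ∈ E, ∃ n ∈ Subgroup.normalizer E, n * a * n⁻¹ = c := by
      intro a ha c hc'
      obtain ⟨g, hg⟩ := hall a (hE ha) c (hE hc')
      have hEK : ∀ e ∈ E, e ∈ Subgroup.centralizer ({c} : Set G) := by
        intro e he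
        rw [Subgroup.mem_centralizer_iff]
        intro t ht
        rw [Set.mem_singleton_iff] at ht
        rw [ht]
        exact (hc c hc' e he).eq
      have hgK : ∀ e ∈ E, g * e * g⁻¹ ∈ Subgroup.centralizer ({c} : Set G) := by
        intro e he
        rw [Subgroup.mem_centralizer_iff]
        intro t ht
        rw [Set.mem_singleton_iff] at ht
        rw [ht, ← hg]
        exact ((Commute.conj_iff g).mpr (hc a ha e he)).eq
      obtain ⟨h, hhK, hn⟩ := conj_back hDs hconj hE hc hmax _ hEK g hgK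
      refine ⟨h * g, hn, ?_⟩
      rw [Subgroup.mem_centralizer_iff] at hhK
      have hhc : c * h = h * c := hhK c rfl
      calc h * g * a * (h * g)⁻¹ = h * (g * a * g⁻¹) * h⁻¹ := by group
        _ = h * c * h⁻¹ := by rw [hg]
        _ = c := by rw [← hhc, mul_inv_cancel_right]
    -- transitivity of the stabilizer of a member
    have hstab : ∀ a ∈ E, ∀ b ∈ E, ∀ c ∈ E, b ≠ a → c ≠ a →
        ∃ n ∈ Subgroup.normalizer E, n * a * n⁻¹ = a ∧ n * b * n⁻¹ = c := by
      intro a ha b hb c hc' hba hca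
      obtain ⟨g, hgmem, hg⟩ := Cfsg.Agent.S1613.result hsol hperf hD a (hE ha) b
        ⟨hE hb, hba, hc a ha b hb⟩ c ⟨hE hc', hca, hc a ha c hc'⟩
      have hga : g * a * g⁻¹ = a := by
        have hle : Subgroup.closure {y : G | y ∈ D ∧ y ≠ a ∧ Commute a y} ≤
            Subgroup.centralizer ({a} : Set G) := by
          rw [Subgroup.closure_le]
          intro y hy
          rw [SetLike.mem_coe, Subgroup.mem_centralizer_iff]
          intro t ht
          rw [Set.mem_singleton_iff] at ht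
          rw [ht]
          exact hy.2.2.eq
        have := hle hgmem
        rw [Subgroup.mem_centralizer_iff] at this
        rw [← this a rfl, mul_inv_cancel_right]
      have hEK : ∀ e ∈ E, e ∈ Subgroup.centralizer ({a} : Set G) ⊓
          Subgroup.centralizer ({c} : Set G) := by
        intro e he
        refine ⟨?_, ?_⟩
        · show e ∈ Subgroup.centralizer _
          rw [Subgroup.mem_centralizer_iff]
          intro t ht
          rw [Set.mem_singleton_iff] at ht
          rw [ht]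
          exact (hc a ha e he).eq
        · show e ∈ Subgroup.centralizer _
          rw [Subgroup.mem_centralizer_iff]
          intro t ht
          rw [Set.mem_singleton_iff] at ht
          rw [ht]
          exact (hc c hc' e he).eq
      have hgK : ∀ e ∈ E, g * e * g⁻¹ ∈ Subgroup.centralizer ({a} : Set G) ⊓
          Subgroup.centralizer ({c} : Set G) := by
        intro e he
        refine ⟨?_, ?_⟩
        · show _ ∈ Subgroup.centralizer _
          rw [Subgroup.mem_centralizer_iff]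
          intro t ht
          rw [Set.mem_singleton_iff] at ht
          rw [ht]
          have := ((Commute.conj_iff g).mpr (hc a ha e he)).eq
          rwa [hga] at this
        · show _ ∈ Subgroup.centralizer _
          rw [Subgroup.mem_centralizer_iff]
          intro t ht
          rw [Set.mem_singleton_iff] at ht
          rw [ht, ← hg]
          exact ((Commute.conj_iff g).mpr (hc b hb e he)).eq
      obtain ⟨h, hhK, hn⟩ := conj_back hDs hconj hE hc hmax _ hEK g hgK
      have hha : h ∈ Subgroup.centralizer ({a} : Set G) := hhK.1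
      have hhc : h ∈ Subgroup.centralizer ({c} : Set G) := hhK.2
      rw [Subgroup.mem_centralizer_iff] at hha hhc
      refine ⟨h * g, hn, ?_, ?_⟩
      · calc h * g * a * (h * g)⁻¹ = h * (g * a * g⁻¹) * h⁻¹ := by group
          _ = h * a * h⁻¹ := by rw [hga]
          _ = a := by rw [← hha a rfl, mul_inv_cancel_right]
      · calc h * g * b * (h * g)⁻¹ = h * (g * b * g⁻¹) * h⁻¹ := by group
          _ = h * c * h⁻¹ := by rw [hg]
          _ = c := by rw [← hhc c rfl, mul_inv_cancel_right]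
    intro a ha b hb c hc' d hd hab hcd
    obtain ⟨n₁, hn₁, h1⟩ := htrans a ha c hc'
    have hb' : n₁ * b * n₁⁻¹ ∈ E := (Subgroup.mem_set_normalizer_iff.mp hn₁ b).mp hb
    have hb'c : n₁ * b * n₁⁻¹ ≠ c := by
      intro e
      apply hab
      rw [← h1] at e
      exact (mul_left_cancel (mul_right_cancel e)).symm
    obtain ⟨n₂, hn₂, h2, h3⟩ := hstab c hc' _ hb' d hd hb'c (fun e => hcd e.symm)
    refine ⟨n₂ * n₁, Subgroup.mul_mem _ hn₂ hn₁, ?_, ?_⟩
    · calc n₂ * n₁ * a * (n₂ * n₁)⁻¹ = n₂ * (n₁ * a * n₁⁻¹) * n₂⁻¹ := by group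
        _ = c := by rw [h1, h2]
    · calc n₂ * n₁ * b * (n₂ * n₁)⁻¹ = n₂ * (n₁ * b * n₁⁻¹) * n₂⁻¹ := by group
        _ = d := h3

end Cfsg.Agent.S1612
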