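import Cfsg.Statements.S1615
import Cfsg.Agent.Lib.Helper27.TTTwin
import Cfsg.Agent.Lib.Helper27.TTLocal3
import Cfsg.Agent.Lib.Helper27.TTS5

set_option autoImplicit false
open Cfsg
open Cfsg.Agent.Lib.Helper27 Cfsg.Agent.Lib.Helper27.TTLocalClass Cfsg.Agent.Lib.Helper27.TTRank3

namespace Cfsg.Agent.S1615

/-- If O(⟨D_x⟩) is not central in ⟨D_x⟩ for some transposition x, the 3-transposition group is the symmetric group of degree 5. -/
theorem result {G : Type*} [Group G] [Finite G] (hsol : ∀ N : Subgroup G, N.Normal → Group.IsSolvable ↥N → N = ⊥) (hperf : ⁅commutator G, commutator G⁆ = commutator G) {D : Set G} (hD : Cfsg.IsThreeTranspositionClass D) (x : G) (hx : x ∈ D) (h : ¬ Cfsg.oddCore ↥(Subgroup.closure {y : G | y ∈ D ∧ y ≠ x ∧ Commute x y}) ≤ Subgroup.center ↥(Subgroup.closure {y : G | y ∈ D ∧ y ≠ x ∧ Commute x y})) : Nonempty (G ≃* Equiv.Perm (Fin 5)) := by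
  classical
  have hDs := hD.1
  have hgen := hD.2.2
  have hconj := class_conj hD
  -- two distinct local twins
  obtain ⟨e, f, hef, ht⟩ := TTTwin.exists_tw_of_oddCore hDs hconj h
  have hw : ∃ a ∈ D, ∃ b ∈ D, a ≠ b ∧ Commute a b :=
    ⟨x, hx, e, ht.1.1, fun e' => ht.1.2.1 e'.symm, ht.1.2.2⟩
  -- primitivity
  haveI : Fact (Nat.Prime 2) := ⟨Nat.prime_two⟩
  haveI : Fact (Nat.Prime 3) := ⟨Nat.prime_three⟩
  have hpsol : ∀ p : ℕ, [Fact p.Prime] → Cfsg.pCore p G = ⊥ := by
    intro p _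
    apply hsol _ (Cfsg.Agent.Lib.Helper1.pCore_normal p)
    haveI : Group.IsNilpotent ↥(Cfsg.pCore p G) :=
      (Cfsg.Agent.Lib.Helper1.pCore_isPGroup (G := G) p).isNilpotent
    infer_instance
  have h2 : Cfsg.pCore 2 G ≤ Subgroup.center G := by rw [hpsol 2]; exact bot_le
  have h3 : Cfsg.pCore 3 G ≤ Subgroup.center G := by rw [hpsol 3]; exact bot_le
  have hprim := prim_of_perfect hD hw h2 h3 hperf
  -- members commuting with a common member do not commute
  have hindep : ∀ x' ∈ D, ∀ y v : G, Loc D x' y → Loc D x' v → y ≠ v → ¬ Commute y v :=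
    fun x' hx' y v hy hv hne =>
      TTTwin.local_indep hDs hconj hgen hprim hw hx hef ht hx' hy hv hne
  -- every member commutes with exactly three others
  have h3' := TTLocal3.local_ncard_three hDs hconj hgen hprim hw hindep hx ht.1 ht.2.1 hef
  exact TTS5.s5_of_local_three hsol hDs hconj hgen hprim hw hindep h3'

end Cfsg.Agent.S1615
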