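import Cfsg.Statements.S1620
import Cfsg.Agent.Lib.Lead.J2.K7
import Cfsg.Agent.Lib.helper23.J2pMain

set_option autoImplicit false
open Quaternion
open Cfsg

namespace Cfsg.Agent.S1620

/-- The Hall–Janko group is simple and non-abelian. -/
theorem result : IsSimpleGroup Cfsg.Spor.J2 ∧ ∃ a b : Cfsg.Spor.J2, a * b ≠ b * a := by
  have e := Cfsg.Agent.Lib.Lead.J2.J2Iso
  have : IsSimpleGroup ↥Cfsg.Agent.Lib.Lead.J2.P315 := Cfsg.Agent.Lib.helper23.P315_simple
  obtain ⟨a, b, hab⟩ := Cfsg.Agent.Lib.helper23.P315_noncomm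
  have hnc : ∃ a b : Cfsg.Spor.J2, a * b ≠ b * a := by
    refine ⟨e.symm a, e.symm b, ?_⟩
    intro h
    apply hab
    have := congrArg e h
    rwa [map_mul, map_mul, e.apply_symm_apply, e.apply_symm_apply] at this
  exact ⟨e.isSimpleGroup, hnc⟩

end Cfsg.Agent.S1620
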