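import Cfsg.Statements.S1628
import Cfsg.Agent.Lib.Helper29.RvLFinal

set_option autoImplicit false
open Cfsg

namespace Cfsg.Agent.S1628

/-- The Conway–Wales lattice as stored is even with no vectors of true norm 2: stored norms are multiples of 8, never equal to 8, and the minimum over nonzero vectors is 16. -/
theorem result : (∀ x ∈ Cfsg.Spor.ruLattice, (8 : ℤ) ∣ Cfsg.Spor.ruNorm x) ∧ (∀ x ∈ Cfsg.Spor.ruLattice, Cfsg.Spor.ruNorm x ≠ 8) ∧ (∀ x ∈ Cfsg.Spor.ruLattice, x ≠ 0 → 16 ≤ Cfsg.Spor.ruNorm x) ∧ ∃ x ∈ Cfsg.Spor.ruLattice, Cfsg.Spor.ruNorm x = 16 := by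
  open Cfsg.Agent.Lib.Helper29 Cfsg.Spor in
  refine ⟨fun x hx => rvl_even hx, fun x hx h8 => rvl_no_norm8 (rvl_lattice_le_M hx) h8,
    fun x hx h0 => ?_, ruTable.getD 0 0, ?_, rvl_table_norm 0⟩
  · have h1 := ruNorm_pos h0
    obtain ⟨k, hk⟩ := rvl_even hx
    have h8 : ruNorm x ≠ 8 := fun h8 => rvl_no_norm8 (rvl_lattice_le_M hx) h8
    omega
  · exact rvl_lattice_mem_ruClosed.1 _ (by decide)

end Cfsg.Agent.S1628
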