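import Cfsg.Statements.S1629
import Cfsg.Agent.Lib.Lead.OrthTransp2
import Cfsg.Agent.Lib.Helper16.PlusFam

set_option autoImplicit false
open Cfsg

namespace Cfsg.Agent.S1629

open Cfsg.Agent.Lib.Lead Cfsg.Agent.Lib.Helper16

theorem result (m : ℕ) (hm : 3 ≤ m) : Cfsg.IsThreeTranspositionClass {g : ↥(Cfsg.isometryGroup (ZMod 2) (Cfsg.quadFormPlus m (ZMod 2))) | (((g : GL (Fin m ⊕ Fin m) (ZMod 2)) : Matrix (Fin m ⊕ Fin m) (Fin m ⊕ Fin m) (ZMod 2)) - 1).rank = 1} := by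
  have hcard : Fintype.card (Fin m ⊕ Fin m) = 2 * m := by
    simp only [Fintype.card_sum, Fintype.card_fin]; ring
  have := OT2.isThreeTranspositionClass (qfPlus m (ZMod 2)) (qfPlus_nondeg m (ZMod 2))
    (by rw [hcard]; omega) (by rw [hcard]; omega)
  rw [qfPlus_coe] at this
  exact this

end Cfsg.Agent.S1629
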