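import Cfsg.Statements.S1630
import Cfsg.Agent.Lib.Lead.OrthTransp2
import Cfsg.Agent.S0791

set_option autoImplicit false
open Cfsg

namespace Cfsg.Agent.S1630

open Cfsg.Agent.Lib.Lead Cfsg.Agent.Lib.Helper16

theorem aniso : ∀ z₁ z₂ : ZMod 2, z₁ ^ 2 + 1 * z₁ * z₂ + 1 * z₂ ^ 2 = 0 → z₁ = 0 ∧ z₂ = 0 := by
  decide

theorem result (m : ℕ) (hm : 2 ≤ m) : Cfsg.IsThreeTranspositionClass {g : ↥(Cfsg.isometryGroup (ZMod 2) (Cfsg.quadFormMinus m (ZMod 2) 1 1)) | (((g : GL ((Fin m ⊕ Fin m) ⊕ Fin 2) (ZMod 2)) : Matrix ((Fin m ⊕ Fin m) ⊕ Fin 2) ((Fin m ⊕ Fin m) ⊕ Fin 2) (ZMod 2)) - 1).rank = 1} := by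
  have hcard : Fintype.card ((Fin m ⊕ Fin m) ⊕ Fin 2) = 2 * m + 2 := by
    simp only [Fintype.card_sum, Fintype.card_fin]; ring
  have := OT2.isThreeTranspositionClass (qfMinus m (ZMod 2) 1 1)
    (Cfsg.Agent.S0791.nondeg_minus m 1 1 aniso)
    (by rw [hcard]; omega) (by rw [hcard]; omega)
  rw [qfMinus_coe] at this
  exact this

end Cfsg.Agent.S1630
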