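import Cfsg.Statements.S1634
import Cfsg.Agent.Lib.Lead.McL4

set_option autoImplicit false
open Cfsg

namespace Cfsg.Agent.S1634

open Cfsg.Agent.Lib.Lead.ML Cfsg.Agent.Lib.Lead.CP Cfsg.Agent.Lib.Lead.HS
open Cfsg.Agent.Lib.Lead.LX Cfsg.Agent.Lib.Lead.CW Cfsg.Agent.Lib.Lead.CO
open MulAction

/-- transport of the orbits of the stabiliser of a triple -/
theorem orbit_conj (g : ↥Co0) (a b c y : ↥leechLattice) :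
    orbit ↥(stabilizer ↥Co0 (g.1 a) ⊓ stabilizer ↥Co0 (g.1 b) ⊓ stabilizer ↥Co0 (g.1 c)) (g.1 y)
      = (fun z => g.1 z) ''
        orbit ↥(stabilizer ↥Co0 a ⊓ stabilizer ↥Co0 b ⊓ stabilizer ↥Co0 c) y := by
  ext z
  constructor
  · rintro ⟨h, rfl⟩
    have hh := h.2
    rw [Subgroup.mem_inf, Subgroup.mem_inf, mem_stabilizer_iff, mem_stabilizer_iff,
      mem_stabilizer_iff] at hh
    obtain ⟨⟨ha, hb⟩, hc⟩ := hh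
    have ha' : h.1.1 (g.1 a) = g.1 a := ha
    have hb' : h.1.1 (g.1 b) = g.1 b := hb
    have hc' : h.1.1 (g.1 c) = g.1 c := hc
    have hmem : g⁻¹ * h.1 * g ∈ stabilizer ↥Co0 a ⊓ stabilizer ↥Co0 b ⊓ stabilizer ↥Co0 c := by
      rw [Subgroup.mem_inf, Subgroup.mem_inf, mem_stabilizer_iff, mem_stabilizer_iff,
        mem_stabilizer_iff]
      refine ⟨⟨?_, ?_⟩, ?_⟩
      · show g⁻¹.1 (h.1.1 (g.1 a)) = a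
        rw [ha', inv_apply_apply]
      · show g⁻¹.1 (h.1.1 (g.1 b)) = b
        rw [hb', inv_apply_apply]
      · show g⁻¹.1 (h.1.1 (g.1 c)) = c
        rw [hc', inv_apply_apply]
    refine ⟨g⁻¹.1 (h.1.1 (g.1 y)), ⟨⟨g⁻¹ * h.1 * g, hmem⟩, rfl⟩, ?_⟩
    show g.1 (g⁻¹.1 (h.1.1 (g.1 y))) = h.1.1 (g.1 y)
    exact apply_inv_apply g _
  · rintro ⟨_, ⟨h, rfl⟩, rfl⟩
    have hh := h.2
    rw [Subgroup.mem_inf, Subgroup.mem_inf, mem_stabilizer_iff, mem_stabilizer_iff,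
      mem_stabilizer_iff] at hh
    obtain ⟨⟨ha, hb⟩, hc⟩ := hh
    have ha' : h.1.1 a = a := ha
    have hb' : h.1.1 b = b := hb
    have hc' : h.1.1 c = c := hc
    have hmem : g * h.1 * g⁻¹ ∈ stabilizer ↥Co0 (g.1 a) ⊓ stabilizer ↥Co0 (g.1 b)
        ⊓ stabilizer ↥Co0 (g.1 c) := by
      rw [Subgroup.mem_inf, Subgroup.mem_inf, mem_stabilizer_iff, mem_stabilizer_iff,
        mem_stabilizer_iff]
      refine ⟨⟨?_, ?_⟩, ?_⟩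
      · show g.1 (h.1.1 (g⁻¹.1 (g.1 a))) = g.1 a
        rw [inv_apply_apply, ha']
      · show g.1 (h.1.1 (g⁻¹.1 (g.1 b))) = g.1 b
        rw [inv_apply_apply, hb']
      · show g.1 (h.1.1 (g⁻¹.1 (g.1 c))) = g.1 c
        rw [inv_apply_apply, hc']
    refine ⟨⟨g * h.1 * g⁻¹, hmem⟩, ?_⟩
    show g.1 (h.1.1 (g⁻¹.1 (g.1 y))) = g.1 (h.1.1 y)
    rw [inv_apply_apply]

theorem ncard_orbit_conj (g : ↥Co0) (a b c y : ↥leechLattice) :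
    (orbit ↥(stabilizer ↥Co0 (g.1 a) ⊓ stabilizer ↥Co0 (g.1 b) ⊓ stabilizer ↥Co0 (g.1 c))
      (g.1 y)).ncard
      = (orbit ↥(stabilizer ↥Co0 a ⊓ stabilizer ↥Co0 b ⊓ stabilizer ↥Co0 c) y).ncard := by
  rw [orbit_conj, Set.ncard_image_of_injective _ g.1.injective]

/-- The McLaughlin group acts on 2025 points (minimal vectors orthogonal to v with customary inner product 2 with w) transitively with rank 4 and subdegrees 1, 330, 462, 1232. -/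
theorem result (v w : ↥Cfsg.leechLattice) (hv : Cfsg.sqNorm (v : Cfsg.GolayPt → ℤ) = 32) (hw : Cfsg.sqNorm (w : Cfsg.GolayPt → ℤ) = 32) (hvw : Cfsg.dotInt (v : Cfsg.GolayPt → ℤ) (w : Cfsg.GolayPt → ℤ) = -8) : {x : ↥Cfsg.leechLattice | Cfsg.sqNorm (x : Cfsg.GolayPt → ℤ) = 32 ∧ Cfsg.dotInt (v : Cfsg.GolayPt → ℤ) (x : Cfsg.GolayPt → ℤ) = 0 ∧ Cfsg.dotInt (w : Cfsg.GolayPt → ℤ) (x : Cfsg.GolayPt → ℤ) = 16}.ncard = 2025 ∧ (∀ x ∈ {x : ↥Cfsg.leechLattice | Cfsg.sqNorm (x : Cfsg.GolayPt → ℤ) = 32 ∧ Cfsg.dotInt (v : Cfsg.GolayPt → ℤ) (x : Cfsg.GolayPt → ℤ) = 0 ∧ Cfsg.dotInt (w : Cfsg.GolayPt → ℤ) (x : Cfsg.GolayPt → ℤ) = 16}, ∀ x' ∈ {x : ↥Cfsg.leechLattice | Cfsg.sqNorm (x : Cfsg.GolayPt → ℤ) = 32 ∧ Cfsg.dotInt (v : Cfsg.GolayPt → ℤ) (x : Cfsg.GolayPt → ℤ) = 0 ∧ Cfsg.dotInt (w : Cfsg.GolayPt → ℤ) (x : Cfsg.GolayPt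 → ℤ) = 16}, ∃ g : ↥Cfsg.Co0, g • v = v ∧ g • w = w ∧ g • x = x') ∧ ∀ x ∈ {x : ↥Cfsg.leechLattice | Cfsg.sqNorm (x : Cfsg.GolayPt → ℤ) = 32 ∧ Cfsg.dotInt (v : Cfsg.GolayPt → ℤ) (x : Cfsg.GolayPt → ℤ) = 0 ∧ Cfsg.dotInt (w : Cfsg.GolayPt → ℤ) (x : Cfsg.GolayPt → ℤ) = 16}, ∃ y₁ ∈ {x : ↥Cfsg.leechLattice | Cfsg.sqNorm (x : Cfsg.GolayPt → ℤ) = 32 ∧ Cfsg.dotInt (v : Cfsg.GolayPt → ℤ) (x : Cfsg.GolayPt → ℤ) = 0 ∧ Cfsg.dotInt (w : Cfsg.GolayPt → ℤ) (x : Cfsg.GolayPt → ℤ) = 16}, ∃ y₂ ∈ {x : ↥Cfsg.leechLattice | Cfsg.sqNorm (x : Cfsg.GolayPt → ℤ) = 32 ∧ Cfsg.dotInt (v : Cfsg.GolayPt → ℤ) (x : Cfsg.GolayPt → ℤ) = 0 ∧ Cfsg.dotInt (w : Cfsg.GolayPt → ℤ) (x : Cfsg.GolayPt → ℤ) = 16}, ∃ y₃ ∈ {x : ↥Cfsg.leechLattice | Cfsg.sqNorm (x : Cfsg.GolayPt → ℤ) = 32 ∧ Cfsg.dotInt (v : Cfsg.GolayPt → ℤ) (x : Cfsg.GolayPt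 → ℤ) = 0 ∧ Cfsg.dotInt (w : Cfsg.GolayPt → ℤ) (x : Cfsg.GolayPt → ℤ) = 16}, (MulAction.orbit ↥(MulAction.stabilizer ↥Cfsg.Co0 v ⊓ MulAction.stabilizer ↥Cfsg.Co0 w ⊓ MulAction.stabilizer ↥Cfsg.Co0 x) y₁).ncard = 330 ∧ (MulAction.orbit ↥(MulAction.stabilizer ↥Cfsg.Co0 v ⊓ MulAction.stabilizer ↥Cfsg.Co0 w ⊓ MulAction.stabilizer ↥Cfsg.Co0 x) y₂).ncard = 462 ∧ (MulAction.orbit ↥(MulAction.stabilizer ↥Cfsg.Co0 v ⊓ MulAction.stabilizer ↥Cfsg.Co0 w ⊓ MulAction.stabilizer ↥Cfsg.Co0 x) y₃).ncard = 1232 := by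
  refine ⟨ncard_X v w hv hw hvw, ?_, ?_⟩
  · rintro x ⟨hx1, hx2, hx3⟩ x' ⟨hx1', hx2', hx3'⟩
    exact triple_trans v w x v w x' hv hw hx1 hvw hx2 hx3 hv hw hx1' hvw hx2' hx3'
  · rintro x ⟨hx1, hx2, hx3⟩
    obtain ⟨g, rfl, rfl, rfl⟩ := triple_trans v32 w0 B0 v w x norm_v32 frame2_chk.1
      frame2_chk.2.2.2.2.1 frame2_chk.2.1 frame2_chk.2.2.2.1 frame2_chk.2.2.1 hv hw hx1 hvw
      hx2 hx3
    obtain ⟨y1, m1, y2, m2, y3, m3, c1, c2, c3, -⟩ := orbits_std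
    have mem : ∀ y ∈ X0, g.1 y ∈ {x : ↥leechLattice | sqNorm x.1 = 32 ∧
        dotInt (g.1 v32).1 x.1 = 0 ∧ dotInt (g.1 w0).1 x.1 = 16} := by
      rintro y ⟨a, b, c⟩
      refine ⟨by rw [g.2.2]; exact a, ?_, ?_⟩
      · rw [dot_map]; exact b
      · rw [dot_map]; exact c
    refine ⟨g.1 y1, mem y1 m1, g.1 y2, mem y2 m2, g.1 y3, mem y3 m3, ?_, ?_, ?_⟩
    · rw [ncard_orbit_conj]; exact c1
    · rw [ncard_orbit_conj]; exact c2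
    · rw [ncard_orbit_conj]; exact c3

end Cfsg.Agent.S1634
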