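import Cfsg.Statements.S1638
import Cfsg.Agent.Lib.Helper12.Golay.Tuples
import Cfsg.Agent.Lib.helper3.GolaySteiner

set_option autoImplicit false
open scoped Pointwise
open Cfsg

namespace Cfsg.Agent.S1638

open Cfsg.Agent.Lib.Helper12.Golay

theorem exists_octad5 (a b c d e : GolayPt) (hab : a ≠ b) (hac : a ≠ c) (had : a ≠ d) (hae : a ≠ e)
    (hbc : b ≠ c) (hbd : b ≠ d) (hbe : b ≠ e) (hcd : c ≠ d) (hce : c ≠ e) (hde : d ≠ e) :
    ∃ o ∈ octads, a ∈ o ∧ b ∈ o ∧ c ∈ o ∧ d ∈ o ∧ e ∈ o := by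
  have hcard : ({a, b, c, d, e} : Finset GolayPt).card = 5 := by
    rw [Finset.card_insert_of_notMem, Finset.card_insert_of_notMem, Finset.card_insert_of_notMem,
      Finset.card_insert_of_notMem, Finset.card_singleton]
    · simpa using hde
    · simp [hcd, hce]
    · simp [hbc, hbd, hbe]
    · simp [hab, hac, had, hae]
  obtain ⟨o, ⟨ho, hsub⟩, _⟩ := Cfsg.Agent.Lib.helper3.octads_steiner.2 _ hcard
  refine ⟨o, ho, hsub (by simp), hsub (by simp), hsub (by simp), hsub (by simp), hsub (by simp)⟩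

/-- Five-fold transitivity of the group of the code. -/
theorem five_trans (a b c d e a' b' c' d' e' : GolayPt) (hab : a ≠ b) (hac : a ≠ c) (had : a ≠ d)
    (hae : a ≠ e) (hbc : b ≠ c) (hbd : b ≠ d) (hbe : b ≠ e) (hcd : c ≠ d) (hce : c ≠ e) (hde : d ≠ e)
    (hab' : a' ≠ b') (hac' : a' ≠ c') (had' : a' ≠ d') (hae' : a' ≠ e') (hbc' : b' ≠ c')
    (hbd' : b' ≠ d') (hbe' : b' ≠ e') (hcd' : c' ≠ d') (hce' : c' ≠ e') (hde' : d' ≠ e') :
    ∃ g : M24, g • a = a' ∧ g • b = b' ∧ g • c = c' ∧ g • d = d' ∧ g • e = e' := by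
  obtain ⟨o, ho, a1, a2, a3, a4, a5⟩ := exists_octad5 a b c d e hab hac had hae hbc hbd hbe hcd hce hde
  obtain ⟨o', ho', b1, b2, b3, b4, b5⟩ :=
    exists_octad5 a' b' c' d' e' hab' hac' had' hae' hbc' hbd' hbe' hcd' hce' hde'
  obtain ⟨k, hk⟩ := flag5 o ho a b c d e a1 a2 a3 a4 a5 hab hac hbc had hbd hcd hae hbe hce hde
  obtain ⟨k', hk'⟩ := flag5 o' ho' a' b' c' d' e' b1 b2 b3 b4 b5 hab' hac' hbc' had' hbd' hcd' hae'
    hbe' hce' hde'
  have h : (k' * k⁻¹) • ((((((o, a), b), c), d), e) : Flag5) = (((((o', a'), b'), c'), d'), e') := by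
    rw [mul_smul, ← hk, inv_smul_smul, hk']
  simp only [Prod.smul_mk, Prod.mk.injEq] at h
  obtain ⟨⟨⟨⟨⟨_, h1⟩, h2⟩, h3⟩, h4⟩, h5⟩ := h
  exact ⟨k' * k⁻¹, h1, h2, h3, h4, h5⟩

theorem pair_smul (g : M24) (a b a' b' : GolayPt) (ha : g • a = a') (hb : g • b = b') :
    (g : Equiv.Perm GolayPt) • ({a, b} : Finset GolayPt) = {a', b'} := by
  rw [Finset.smul_finset_insert, Finset.smul_finset_singleton]
  exact congrArg₂ _ ha (congrArg _ hb)

theorem homog (p q : GolayPt) (hpq : p ≠ q) (s : Finset GolayPt)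
    (hs : s.card = 2 ∧ p ∉ s ∧ q ∉ s) (t t' : Finset GolayPt) (ht : t.card = 2 ∧ p ∉ t ∧ q ∉ t)
    (ht' : t'.card = 2 ∧ p ∉ t' ∧ q ∉ t') (hts : t ≠ s) (hts' : t' ≠ s)
    (hcard : (s ∩ t).card = (s ∩ t').card)
    (hiff : (∃ o ∈ octads, p ∈ o ∧ q ∈ o ∧ s ∪ t ⊆ o) ↔ (∃ o ∈ octads, p ∈ o ∧ q ∈ o ∧ s ∪ t' ⊆ o)) :
    ∃ g : Equiv.Perm GolayPt, g ∈ M24 ∧ g p = p ∧ g q = q ∧ g • s = s ∧ g • t = t' := by
  obtain ⟨hs2, hps, hqs⟩ := hs
  obtain ⟨ht2, hpt, hqt⟩ := ht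
  obtain ⟨ht2', hpt', hqt'⟩ := ht'
  -- a two-element set different from s meets s in at most one point
  have hle : ∀ u : Finset GolayPt, u.card = 2 → u ≠ s → (s ∩ u).card ≤ 1 := by
    intro u hu hus
    by_contra hgt
    have h2 : 2 ≤ (s ∩ u).card := by omega
    have e1 : s ∩ u = s := Finset.eq_of_subset_of_card_le Finset.inter_subset_left (by rw [hs2]; exact h2)
    have e2 : s ∩ u = u := Finset.eq_of_subset_of_card_le Finset.inter_subset_right (by rw [hu]; exact h2)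
    exact hus (e2.symm.trans e1)
  rcases Nat.lt_or_ge 0 (s ∩ t).card with hpos | hzero
  · -- the sets t, t' meet s in one point
    have h1 : (s ∩ t).card = 1 := le_antisymm (hle t ht2 hts) hpos
    have h1' : (s ∩ t').card = 1 := hcard ▸ h1
    obtain ⟨a, ha⟩ := Finset.card_eq_one.mp h1
    obtain ⟨a', ha'⟩ := Finset.card_eq_one.mp h1'
    have has : a ∈ s := Finset.mem_of_mem_inter_left (ha ▸ Finset.mem_singleton_self a)
    have hat : a ∈ t := Finset.mem_of_mem_inter_right (ha ▸ Finset.mem_singleton_self a)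
    have has' : a' ∈ s := Finset.mem_of_mem_inter_left (ha' ▸ Finset.mem_singleton_self a')
    have hat' : a' ∈ t' := Finset.mem_of_mem_inter_right (ha' ▸ Finset.mem_singleton_self a')
    -- the other points
    obtain ⟨b, hb⟩ : ∃ b, s.erase a = {b} := Finset.card_eq_one.mp (by
      rw [Finset.card_erase_of_mem has, hs2])
    obtain ⟨b', hb'⟩ : ∃ b', s.erase a' = {b'} := Finset.card_eq_one.mp (by
      rw [Finset.card_erase_of_mem has', hs2])
    obtain ⟨x, hx⟩ : ∃ x, t.erase a = {x} := Finset.card_eq_one.mp (by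
      rw [Finset.card_erase_of_mem hat, ht2])
    obtain ⟨x', hx'⟩ : ∃ x', t'.erase a' = {x'} := Finset.card_eq_one.mp (by
      rw [Finset.card_erase_of_mem hat', ht2'])
    have hsab : s = {a, b} := by rw [← Finset.insert_erase has, hb]
    have hsab' : s = {a', b'} := by rw [← Finset.insert_erase has', hb']
    have htax : t = {a, x} := by rw [← Finset.insert_erase hat, hx]
    have htax' : t' = {a', x'} := by rw [← Finset.insert_erase hat', hx']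
    have hbm : b ∈ s.erase a := hb ▸ Finset.mem_singleton_self b
    have hbm' : b' ∈ s.erase a' := hb' ▸ Finset.mem_singleton_self b'
    have hxm : x ∈ t.erase a := hx ▸ Finset.mem_singleton_self x
    have hxm' : x' ∈ t'.erase a' := hx' ▸ Finset.mem_singleton_self x'
    have hba : b ≠ a := Finset.ne_of_mem_erase hbm
    have hbs : b ∈ s := Finset.mem_of_mem_erase hbm
    have hba' : b' ≠ a' := Finset.ne_of_mem_erase hbm'
    have hbs' : b' ∈ s := Finset.mem_of_mem_erase hbm'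
    have hxa : x ≠ a := Finset.ne_of_mem_erase hxm
    have hxt : x ∈ t := Finset.mem_of_mem_erase hxm
    have hxa' : x' ≠ a' := Finset.ne_of_mem_erase hxm'
    have hxt' : x' ∈ t' := Finset.mem_of_mem_erase hxm'
    have hxs : x ∉ s := by
      intro h
      have : x ∈ s ∩ t := Finset.mem_inter.mpr ⟨h, hxt⟩
      rw [ha, Finset.mem_singleton] at this
      exact hxa this
    have hxs' : x' ∉ s := by
      intro h
      have : x' ∈ s ∩ t' := Finset.mem_inter.mpr ⟨h, hxt'⟩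
      rw [ha', Finset.mem_singleton] at this
      exact hxa' this
    have nps : ∀ y ∈ s, p ≠ y := fun y hy h => hps (h ▸ hy)
    have nqs : ∀ y ∈ s, q ≠ y := fun y hy h => hqs (h ▸ hy)
    have npt : ∀ y ∈ t, p ≠ y := fun y hy h => hpt (h ▸ hy)
    have nqt : ∀ y ∈ t, q ≠ y := fun y hy h => hqt (h ▸ hy)
    have npt' : ∀ y ∈ t', p ≠ y := fun y hy h => hpt' (h ▸ hy)
    have nqt' : ∀ y ∈ t', q ≠ y := fun y hy h => hqt' (h ▸ hy)
    obtain ⟨g, g1, g2, g3, g4, g5⟩ := five_trans p q a b x p q a' b' x' hpq (nps a has) (nps b hbs)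
      (npt x hxt) (nqs a has) (nqs b hbs) (nqt x hxt) (Ne.symm hba) (Ne.symm hxa)
      (fun h => hxs (h ▸ hbs)) hpq (nps a' has') (nps b' hbs') (npt' x' hxt') (nqs a' has')
      (nqs b' hbs') (nqt' x' hxt') (Ne.symm hba') (Ne.symm hxa') (fun h => hxs' (h ▸ hbs'))
    refine ⟨g.1, g.2, g1, g2, ?_, ?_⟩
    · conv_lhs => rw [hsab]
      rw [pair_smul g a b a' b' g3 g4, ← hsab']
    · rw [htax, pair_smul g a x a' x' g3 g5, ← htax']
  · -- the sets t, t' are disjoint from s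
    have h0 : (s ∩ t).card = 0 := Nat.le_zero.mp hzero
    have h0' : (s ∩ t').card = 0 := hcard ▸ h0
    have hd : Disjoint s t := Finset.disjoint_iff_inter_eq_empty.mpr (Finset.card_eq_zero.mp h0)
    have hd' : Disjoint s t' := Finset.disjoint_iff_inter_eq_empty.mpr (Finset.card_eq_zero.mp h0')
    have ne : ∀ x ∈ s, ∀ y ∈ t, x ≠ y := fun x hx y hy h => Finset.disjoint_left.mp hd hx (h ▸ hy)
    have ne' : ∀ x ∈ s, ∀ y ∈ t', x ≠ y := fun x hx y hy h => Finset.disjoint_left.mp hd' hx (h ▸ hy)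
    obtain ⟨s1, s2, h12, rfl⟩ := Finset.card_eq_two.mp hs2
    obtain ⟨u1, u2, g12, rfl⟩ := Finset.card_eq_two.mp ht2
    obtain ⟨v1, v2, f12, rfl⟩ := Finset.card_eq_two.mp ht2'
    have m1 : s1 ∈ ({s1, s2} : Finset GolayPt) := by simp
    have m2 : s2 ∈ ({s1, s2} : Finset GolayPt) := by simp
    have n1 : u1 ∈ ({u1, u2} : Finset GolayPt) := by simp
    have n2 : u2 ∈ ({u1, u2} : Finset GolayPt) := by simp
    have p1 : v1 ∈ ({v1, v2} : Finset GolayPt) := by simp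
    have p2 : v2 ∈ ({v1, v2} : Finset GolayPt) := by simp
    have nps : ∀ y ∈ ({s1, s2} : Finset GolayPt), p ≠ y := fun y hy h => hps (h ▸ hy)
    have nqs : ∀ y ∈ ({s1, s2} : Finset GolayPt), q ≠ y := fun y hy h => hqs (h ▸ hy)
    have npt : ∀ y ∈ ({u1, u2} : Finset GolayPt), p ≠ y := fun y hy h => hpt (h ▸ hy)
    have nqt : ∀ y ∈ ({u1, u2} : Finset GolayPt), q ≠ y := fun y hy h => hqt (h ▸ hy)
    have npt' : ∀ y ∈ ({v1, v2} : Finset GolayPt), p ≠ y := fun y hy h => hpt' (h ▸ hy)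
    have nqt' : ∀ y ∈ ({v1, v2} : Finset GolayPt), q ≠ y := fun y hy h => hqt' (h ▸ hy)
    have finish : ∀ (g : M24) (o o' : Finset GolayPt),
        g • (((((((o, p), q), s1), s2), u1), u2) : Flag6) = (((((((o', p), q), s1), s2), v1), v2) : Flag6) →
        ∃ g : Equiv.Perm GolayPt, g ∈ M24 ∧ g p = p ∧ g q = q ∧
          g • ({s1, s2} : Finset GolayPt) = {s1, s2} ∧ g • ({u1, u2} : Finset GolayPt) = {v1, v2} := by
      intro g o o' h
      simp only [Prod.smul_mk, Prod.mk.injEq] at h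
      obtain ⟨⟨⟨⟨⟨⟨_, e1⟩, e2⟩, e3⟩, e4⟩, e5⟩, e6⟩ := h
      exact ⟨g.1, g.2, e1, e2, pair_smul g s1 s2 s1 s2 e3 e4, pair_smul g u1 u2 v1 v2 e5 e6⟩
    by_cases hin : ∃ o ∈ octads, p ∈ o ∧ q ∈ o ∧ ({s1, s2} : Finset GolayPt) ∪ {u1, u2} ⊆ o
    · obtain ⟨o', ho', hp', hq', hsub'⟩ := hiff.mp hin
      obtain ⟨o, ho, hp, hq, hsub⟩ := hin
      have hl : ∀ x ∈ ({s1, s2} : Finset GolayPt), x ∈ o :=
        fun x hx => hsub (Finset.mem_union_left _ hx)
      have hr : ∀ x ∈ ({u1, u2} : Finset GolayPt), x ∈ o :=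
        fun x hx => hsub (Finset.mem_union_right _ hx)
      have hl' : ∀ x ∈ ({s1, s2} : Finset GolayPt), x ∈ o' :=
        fun x hx => hsub' (Finset.mem_union_left _ hx)
      have hr' : ∀ x ∈ ({v1, v2} : Finset GolayPt), x ∈ o' :=
        fun x hx => hsub' (Finset.mem_union_right _ hx)
      obtain ⟨k, hk⟩ := flag6_in o ho p q s1 s2 u1 u2 hp hq (hl _ m1) (hl _ m2) (hr _ n1) (hr _ n2)
        hpq (nps _ m1) (nqs _ m1) (nps _ m2) (nqs _ m2) h12 (npt _ n1) (nqt _ n1) (ne _ m1 _ n1)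
        (ne _ m2 _ n1) (npt _ n2) (nqt _ n2) (ne _ m1 _ n2) (ne _ m2 _ n2) g12
      obtain ⟨k', hk'⟩ := flag6_in o' ho' p q s1 s2 v1 v2 hp' hq' (hl' _ m1) (hl' _ m2) (hr' _ p1)
        (hr' _ p2) hpq (nps _ m1) (nqs _ m1) (nps _ m2) (nqs _ m2) h12 (npt' _ p1) (nqt' _ p1)
        (ne' _ m1 _ p1) (ne' _ m2 _ p1) (npt' _ p2) (nqt' _ p2) (ne' _ m1 _ p2) (ne' _ m2 _ p2) f12
      apply finish (k' * k⁻¹) o o'
      rw [mul_smul, ← hk, inv_smul_smul, hk']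
    · have hin' : ¬ ∃ o ∈ octads, p ∈ o ∧ q ∈ o ∧ ({s1, s2} : Finset GolayPt) ∪ {v1, v2} ⊆ o :=
        fun h => hin (hiff.mpr h)
      obtain ⟨o, ho, a1, a2, a3, a4, a5⟩ := exists_octad5 p q s1 s2 u1 hpq (nps _ m1) (nps _ m2)
        (npt _ n1) (nqs _ m1) (nqs _ m2) (nqt _ n1) h12 (ne _ m1 _ n1) (ne _ m2 _ n1)
      obtain ⟨o', ho', b1, b2, b3, b4, b5⟩ := exists_octad5 p q s1 s2 v1 hpq (nps _ m1) (nps _ m2)
        (npt' _ p1) (nqs _ m1) (nqs _ m2) (nqt' _ p1) h12 (ne' _ m1 _ p1) (ne' _ m2 _ p1)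
      have a6 : u2 ∉ o := by
        intro h
        apply hin
        refine ⟨o, ho, a1, a2, ?_⟩
        intro x hx
        simp only [Finset.mem_union, Finset.mem_insert, Finset.mem_singleton] at hx
        rcases hx with (rfl | rfl) | (rfl | rfl) <;> assumption
      have b6 : v2 ∉ o' := by
        intro h
        apply hin'
        refine ⟨o', ho', b1, b2, ?_⟩
        intro x hx
        simp only [Finset.mem_union, Finset.mem_insert, Finset.mem_singleton] at hx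
        rcases hx with (rfl | rfl) | (rfl | rfl) <;> assumption
      obtain ⟨k, hk⟩ := flag6_out o ho p q s1 s2 u1 u2 a1 a2 a3 a4 a5 a6 hpq (nps _ m1) (nqs _ m1)
        (nps _ m2) (nqs _ m2) h12 (npt _ n1) (nqt _ n1) (ne _ m1 _ n1) (ne _ m2 _ n1)
      obtain ⟨k', hk'⟩ := flag6_out o' ho' p q s1 s2 v1 v2 b1 b2 b3 b4 b5 b6 hpq (nps _ m1)
        (nqs _ m1) (nps _ m2) (nqs _ m2) h12 (npt' _ p1) (nqt' _ p1) (ne' _ m1 _ p1) (ne' _ m2 _ p1)
      apply finish (k' * k⁻¹) o o'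
      rw [mul_smul, ← hk, inv_smul_smul, hk']

theorem count_R₀ : {o : Finset GolayPt | o ∈ octads ∧
    ({pt 0, pt 1, pt 2, pt 3} : Finset GolayPt) ⊆ o}.ncard = 5 := by
  have h : countK 4096 (fun u => Nat.beq (popcF (encF u)) 8 &&
      (tb (encF u) 0 && tb (encF u) 1 && tb (encF u) 2 && tb (encF u) 3)) = 5 := by decide +kernel
  rw [← h]
  apply ncard_wordsOfWeightK 8 (fun s => ({pt 0, pt 1, pt 2, pt 3} : Finset GolayPt) ⊆ s)
    (fun m => tb m 0 && tb m 1 && tb m 2 && tb m 3)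
  intro m hm
  rw [Bool.and_eq_true, Bool.and_eq_true, Bool.and_eq_true, ← mem_fs_pt (by decide),
    ← mem_fs_pt (by decide), ← mem_fs_pt (by decide), ← mem_fs_pt (by decide),
    Finset.insert_subset_iff, Finset.insert_subset_iff, Finset.insert_subset_iff,
    Finset.singleton_subset_iff, and_assoc, and_assoc]

theorem count_oct (R : Finset GolayPt) (hR : R.card = 4) :
    {o : Finset GolayPt | o ∈ octads ∧ R ⊆ o}.ncard = 5 := by
  obtain ⟨S, hRS, hS⟩ := Finset.exists_superset_card_eq (s := R) (n := 5) (by omega)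
    (by rw [Fintype.card_option, ZMod.card]; norm_num)
  obtain ⟨o, ⟨ho, hsub⟩, _⟩ := Cfsg.Agent.Lib.helper3.octads_steiner.2 S hS
  obtain ⟨t1, t2, t3, t4, h12, h13, h14, h23, h24, h34, rfl⟩ := Finset.card_eq_four.mp hR
  have hRo := hRS.trans hsub
  obtain ⟨k, hk⟩ := flag4 o ho t1 t2 t3 t4 (hRo (by simp)) (hRo (by simp)) (hRo (by simp))
    (hRo (by simp)) h12 h13 h23 h14 h24 h34
  simp only [flag4₀, flag3₀, Prod.smul_mk, Prod.mk.injEq] at hk
  obtain ⟨⟨⟨⟨_, k1⟩, k2⟩, k3⟩, k4⟩ := hk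
  have hkT : k • ({pt 0, pt 1, pt 2, pt 3} : Finset GolayPt) = {t1, t2, t3, t4} := by
    rw [Finset.smul_finset_insert, Finset.smul_finset_insert, Finset.smul_finset_insert,
      Finset.smul_finset_singleton]
    exact congrArg₂ _ k1 (congrArg₂ _ k2 (congrArg₂ _ k3 (congrArg _ k4)))
  have := ncard_invariant (G := M24) (A := Finset GolayPt) (B := Finset GolayPt) octads
    (fun g b hb => smul_mem_octads g.2 hb) (fun a b => a ⊆ b)
    (fun g a b => propext Finset.smul_finset_subset_smul_finset_iff)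
    (fun t => t) k ({pt 0, pt 1, pt 2, pt 3} : Finset GolayPt)
  rw [hkT] at this
  exact this.trans count_R₀

theorem card_R (p q : GolayPt) (hpq : p ≠ q) (s : Finset GolayPt)
    (hs : s.card = 2 ∧ p ∉ s ∧ q ∉ s) : (insert p (insert q s)).card = 4 := by
  rw [Finset.card_insert_of_notMem, Finset.card_insert_of_notMem hs.2.2, hs.1]
  rw [Finset.mem_insert]
  rintro (h | h)
  · exact hpq h
  · exact hs.2.1 h

theorem sub_sdiff_R (p q : GolayPt) (s t o : Finset GolayPt) :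
    t ⊆ o \ insert p (insert q s) ↔ t ⊆ o ∧ p ∉ t ∧ q ∉ t ∧ Disjoint s t := by
  rw [Finset.subset_sdiff, Finset.disjoint_insert_right, Finset.disjoint_insert_right,
    disjoint_comm]

theorem count_in (p q : GolayPt) (hpq : p ≠ q) (s : Finset GolayPt)
    (hs : s.card = 2 ∧ p ∉ s ∧ q ∉ s) :
    {t : Finset GolayPt | (t.card = 2 ∧ p ∉ t ∧ q ∉ t) ∧ Disjoint s t ∧
      (∃ o ∈ octads, p ∈ o ∧ q ∈ o ∧ s ∪ t ⊆ o)}.ncard = 30 := by
  classical
  set R : Finset GolayPt := insert p (insert q s) with hRdef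
  have hR : R.card = 4 := card_R p q hpq s hs
  have hfin : octads.Finite := Set.toFinite _
  set O : Finset (Finset GolayPt) := hfin.toFinset.filter (fun o => R ⊆ o) with hO
  have hOmem : ∀ o, o ∈ O ↔ o ∈ octads ∧ R ⊆ o := by
    intro o
    rw [hO, Finset.mem_filter, Set.Finite.mem_toFinset]
  have hOcard : O.card = 5 := by
    rw [← count_oct R hR, ← Set.ncard_coe_finset]
    congr 1
    ext o
    exact hOmem o
  have hRsub : ∀ o : Finset GolayPt, R ⊆ o ↔ p ∈ o ∧ q ∈ o ∧ s ⊆ o := by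
    intro o
    rw [hRdef, Finset.insert_subset_iff, Finset.insert_subset_iff]
  have hset : {t : Finset GolayPt | (t.card = 2 ∧ p ∉ t ∧ q ∉ t) ∧ Disjoint s t ∧
      (∃ o ∈ octads, p ∈ o ∧ q ∈ o ∧ s ∪ t ⊆ o)} =
      ↑(O.biUnion (fun o => (o \ R).powersetCard 2)) := by
    ext t
    simp only [Set.mem_ofPred_eq, Finset.coe_biUnion, Set.mem_iUnion, Finset.mem_coe,
      Finset.mem_powersetCard, exists_prop]
    constructor
    · rintro ⟨⟨ht, hpt, hqt⟩, hd, o, ho, hp, hq, hsub⟩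
      refine ⟨o, (hOmem o).mpr ⟨ho, (hRsub o).mpr ⟨hp, hq, Finset.union_subset_left hsub⟩⟩, ?_, ht⟩
      exact (sub_sdiff_R p q s t o).mpr ⟨Finset.union_subset_right hsub, hpt, hqt, hd⟩
    · rintro ⟨o, ho, hsub, ht⟩
      obtain ⟨ho1, ho2⟩ := (hOmem o).mp ho
      obtain ⟨hp, hq, hso⟩ := (hRsub o).mp ho2
      obtain ⟨hto, hpt, hqt, hd⟩ := (sub_sdiff_R p q s t o).mp hsub
      exact ⟨⟨ht, hpt, hqt⟩, hd, o, ho1, hp, hq, Finset.union_subset hso hto⟩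
  rw [hset, Set.ncard_coe_finset, Finset.card_biUnion]
  · have : ∀ o ∈ O, ((o \ R).powersetCard 2).card = 6 := by
      intro o ho
      obtain ⟨ho1, ho2⟩ := (hOmem o).mp ho
      rw [Finset.card_powersetCard, Finset.card_sdiff_of_subset ho2, ho1.2, hR]
      rfl
    rw [Finset.sum_congr rfl this, Finset.sum_const, hOcard]
    rfl
  · intro o ho o' ho' hne
    rw [Function.onFun, Finset.disjoint_left]
    intro t ht ht'
    rw [Finset.mem_powersetCard] at ht ht'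
    obtain ⟨ho1, ho2⟩ := (hOmem o).mp ho
    obtain ⟨ho1', ho2'⟩ := (hOmem o').mp ho'
    obtain ⟨hto, htR⟩ := Finset.subset_sdiff.mp ht.1
    obtain ⟨hto', _⟩ := Finset.subset_sdiff.mp ht'.1
    have h1 : R ∪ t ⊆ o ∩ o' :=
      Finset.subset_inter (Finset.union_subset ho2 hto) (Finset.union_subset ho2' hto')
    have h2 := Finset.card_le_card h1
    rw [Finset.card_union_of_disjoint htR.symm, hR, ht.2] at h2
    have h3 := Cfsg.Agent.Lib.helper3.octads_inter_card_le ho1 ho1' hne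
    omega

theorem count_all (p q : GolayPt) (hpq : p ≠ q) (s : Finset GolayPt)
    (hs : s.card = 2 ∧ p ∉ s ∧ q ∉ s) :
    {t : Finset GolayPt | (t.card = 2 ∧ p ∉ t ∧ q ∉ t) ∧ Disjoint s t}.ncard = 190 := by
  classical
  have hR : (insert p (insert q s)).card = 4 := card_R p q hpq s hs
  have hset : {t : Finset GolayPt | (t.card = 2 ∧ p ∉ t ∧ q ∉ t) ∧ Disjoint s t} =
      ↑((insert p (insert q s))ᶜ.powersetCard 2) := by
    ext t
    simp only [Set.mem_ofPred_eq, Finset.mem_coe, Finset.mem_powersetCard]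
    rw [Finset.compl_eq_univ_sdiff, sub_sdiff_R]
    constructor
    · rintro ⟨⟨ht, hpt, hqt⟩, hd⟩
      exact ⟨⟨Finset.subset_univ _, hpt, hqt, hd⟩, ht⟩
    · rintro ⟨⟨_, hpt, hqt, hd⟩, ht⟩
      exact ⟨⟨ht, hpt, hqt⟩, hd⟩
  rw [hset, Set.ncard_coe_finset, Finset.card_powersetCard, Finset.card_compl, hR,
    Fintype.card_option, ZMod.card]
  rfl

theorem count_out (p q : GolayPt) (hpq : p ≠ q) (s : Finset GolayPt)
    (hs : s.card = 2 ∧ p ∉ s ∧ q ∉ s) :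
    {t : Finset GolayPt | (t.card = 2 ∧ p ∉ t ∧ q ∉ t) ∧ Disjoint s t ∧
      ¬ (∃ o ∈ octads, p ∈ o ∧ q ∈ o ∧ s ∪ t ⊆ o)}.ncard = 160 := by
  have h1 := count_in p q hpq s hs
  have h2 := count_all p q hpq s hs
  have hsub : {t : Finset GolayPt | (t.card = 2 ∧ p ∉ t ∧ q ∉ t) ∧ Disjoint s t ∧
      (∃ o ∈ octads, p ∈ o ∧ q ∈ o ∧ s ∪ t ⊆ o)} ⊆
      {t : Finset GolayPt | (t.card = 2 ∧ p ∉ t ∧ q ∉ t) ∧ Disjoint s t} :=
    fun t ht => ⟨ht.1, ht.2.1⟩
  have hdiff : {t : Finset GolayPt | (t.card = 2 ∧ p ∉ t ∧ q ∉ t) ∧ Disjoint s t ∧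
      ¬ (∃ o ∈ octads, p ∈ o ∧ q ∈ o ∧ s ∪ t ⊆ o)} =
      {t : Finset GolayPt | (t.card = 2 ∧ p ∉ t ∧ q ∉ t) ∧ Disjoint s t} \
        {t : Finset GolayPt | (t.card = 2 ∧ p ∉ t ∧ q ∉ t) ∧ Disjoint s t ∧
          (∃ o ∈ octads, p ∈ o ∧ q ∈ o ∧ s ∪ t ⊆ o)} := by
    ext t
    simp only [Set.mem_ofPred_eq, Set.mem_sdiff]
    constructor
    · rintro ⟨a, b, c⟩
      exact ⟨⟨a, b⟩, fun h => c h.2.2⟩
    · rintro ⟨⟨a, b⟩, c⟩
      exact ⟨a, b, fun h => c ⟨a, b, h⟩⟩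
  rw [hdiff, Set.ncard_sdiff hsub (Set.toFinite _), h1, h2]

/-- Orbits of the stabiliser of two points and a pair on the pairs. -/
theorem result (p q : Cfsg.GolayPt) (hpq : p ≠ q) (s : Finset Cfsg.GolayPt) (hs : (s.card = 2 ∧ p ∉ s ∧ q ∉ s)) : {t : Finset Cfsg.GolayPt | (t.card = 2 ∧ p ∉ t ∧ q ∉ t) ∧ Disjoint s t ∧ (∃ o ∈ Cfsg.octads, p ∈ o ∧ q ∈ o ∧ s ∪ t ⊆ o)}.ncard = 30 ∧ {t : Finset Cfsg.GolayPt | (t.card = 2 ∧ p ∉ t ∧ q ∉ t) ∧ Disjoint s t ∧ ¬ (∃ o ∈ Cfsg.octads, p ∈ o ∧ q ∈ o ∧ s ∪ t ⊆ o)}.ncard = 160 ∧ ∀ t t' : Finset Cfsg.GolayPt, (t.card = 2 ∧ p ∉ t ∧ q ∉ t) → (t'.card = 2 ∧ p ∉ t' ∧ q ∉ t') → t ≠ s → t' ≠ s → (s ∩ t).card = (s ∩ t').card → ((∃ o ∈ Cfsg.octads, p ∈ o ∧ q ∈ o ∧ s ∪ t ⊆ o) ↔ (∃ o ∈ Cfsg.octads, p ∈ o ∧ q ∈ o ∧ s ∪ t' ⊆ o)) → ∃ g : Equiv.Perm Cfsg.GolayPt, g ∈ Cfsg.M24 ∧ g p = p ∧ g q = q ∧ g • s = s ∧ g • t = t' :=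
  ⟨count_in p q hpq s hs, count_out p q hpq s hs,
    fun t t' ht ht' hts hts' hcard hiff => homog p q hpq s hs t t' ht ht' hts hts' hcard hiff⟩

end Cfsg.Agent.S1638
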