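import Cfsg.Statements.S1641
import Cfsg.Agent.Lib.Lead.Co3R5b

set_option autoImplicit false
open Cfsg

namespace Cfsg.Agent.S1641

open Cfsg.Agent.Lib.Lead.LX Cfsg.Agent.Lib.Lead.CW Cfsg.Agent.Lib.Lead.CO Cfsg.Agent.Lib.Lead.CP
open Cfsg.Agent.Lib.helper3 Cfsg.Agent.Lib.helper4 Cfsg.Agent.S0398 Cfsg.Agent.S1571
open Cfsg.Agent.Lib.Lead.LC Cfsg.Agent.Lib.Lead.LC3 Cfsg.Agent.Lib.Lead.HS
open Cfsg.Agent.Lib.Lead.HSG Cfsg.Agent.Lib.Lead.ML Cfsg.Agent.Lib.Lead.R5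
open MulAction

theorem orbit_conj2 (g : ↥Co0) (a b y : ↥leechLattice) :
    orbit ↥(stabilizer ↥Co0 (g.1 a) ⊓ stabilizer ↥Co0 (g.1 b)) (g.1 y)
      = (fun z => g.1 z) '' orbit ↥(stabilizer ↥Co0 a ⊓ stabilizer ↥Co0 b) y := by
  ext z
  constructor
  · rintro ⟨h, rfl⟩
    have hh := h.2
    rw [Subgroup.mem_inf, mem_stabilizer_iff, mem_stabilizer_iff] at hh
    obtain ⟨ha, hb⟩ := hh
    have ha' : h.1.1 (g.1 a) = g.1 a := ha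
    have hb' : h.1.1 (g.1 b) = g.1 b := hb
    have hmem : g⁻¹ * h.1 * g ∈ stabilizer ↥Co0 a ⊓ stabilizer ↥Co0 b := by
      rw [Subgroup.mem_inf, mem_stabilizer_iff, mem_stabilizer_iff]
      refine ⟨?_, ?_⟩
      · show g⁻¹.1 (h.1.1 (g.1 a)) = a
        rw [ha', inv_apply_apply]
      · show g⁻¹.1 (h.1.1 (g.1 b)) = b
        rw [hb', inv_apply_apply]
    refine ⟨g⁻¹.1 (h.1.1 (g.1 y)), ⟨⟨g⁻¹ * h.1 * g, hmem⟩, rfl⟩, ?_⟩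
    show g.1 (g⁻¹.1 (h.1.1 (g.1 y))) = h.1.1 (g.1 y)
    exact apply_inv_apply g _
  · rintro ⟨_, ⟨h, rfl⟩, rfl⟩
    have hh := h.2
    rw [Subgroup.mem_inf, mem_stabilizer_iff, mem_stabilizer_iff] at hh
    obtain ⟨ha, hb⟩ := hh
    have ha' : h.1.1 a = a := ha
    have hb' : h.1.1 b = b := hb
    have hmem : g * h.1 * g⁻¹ ∈ stabilizer ↥Co0 (g.1 a) ⊓ stabilizer ↥Co0 (g.1 b) := by
      rw [Subgroup.mem_inf, mem_stabilizer_iff, mem_stabilizer_iff]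
      refine ⟨?_, ?_⟩
      · show g.1 (h.1.1 (g⁻¹.1 (g.1 a))) = g.1 a
        rw [inv_apply_apply, ha']
      · show g.1 (h.1.1 (g⁻¹.1 (g.1 b))) = g.1 b
        rw [inv_apply_apply, hb']
    refine ⟨⟨g * h.1 * g⁻¹, hmem⟩, ?_⟩
    show g.1 (h.1.1 (g⁻¹.1 (g.1 y))) = g.1 (h.1.1 y)
    rw [inv_apply_apply]

theorem orbit_sub_eq (S T : Subgroup ↥Co0) (h : S = T) (y : ↥leechLattice) :
    orbit ↥S y = orbit ↥T y := by
  subst h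
  rfl

/-- The third Conway group acts on the 11178 cosets of the Higman–Sims group with rank 5 and subdegrees 1, 352, 1100, 4125, 5600. -/
theorem result (u x : ↥Cfsg.leechLattice) (hu : Cfsg.sqNorm (u : Cfsg.GolayPt → ℤ) = 48) (hx : x ∈ {x : ↥Cfsg.leechLattice | Cfsg.sqNorm (x : Cfsg.GolayPt → ℤ) = 32 ∧ Cfsg.dotInt (u : Cfsg.GolayPt → ℤ) (x : Cfsg.GolayPt → ℤ) = -16}) : ∃ y₁ ∈ {x : ↥Cfsg.leechLattice | Cfsg.sqNorm (x : Cfsg.GolayPt → ℤ) = 32 ∧ Cfsg.dotInt (u : Cfsg.GolayPt → ℤ) (x : Cfsg.GolayPt → ℤ) = -16}, ∃ y₂ ∈ {x : ↥Cfsg.leechLattice | Cfsg.sqNorm (x : Cfsg.GolayPt → ℤ) = 32 ∧ Cfsg.dotInt (u : Cfsg.GolayPt → ℤ) (x : Cfsg.GolayPt → ℤ) = -16}, ∃ y₃ ∈ {x : ↥Cfsg.leechLattice | Cfsg.sqNorm (x : Cfsg.GolayPt → ℤ) = 32 ∧ Cfsg.dotInt (u : Cfsg.GolayPt → ℤ) (x : Cfsg.GolayPt → ℤ) = -16}, ∃ y₄ ∈ {x : ↥Cfsg.leechLattice | Cfsg.sqNorm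 (x : Cfsg.GolayPt → ℤ) = 32 ∧ Cfsg.dotInt (u : Cfsg.GolayPt → ℤ) (x : Cfsg.GolayPt → ℤ) = -16}, (MulAction.orbit ↥(MulAction.stabilizer ↥Cfsg.Co0 u ⊓ MulAction.stabilizer ↥Cfsg.Co0 x) y₁).ncard = 352 ∧ (MulAction.orbit ↥(MulAction.stabilizer ↥Cfsg.Co0 u ⊓ MulAction.stabilizer ↥Cfsg.Co0 x) y₂).ncard = 1100 ∧ (MulAction.orbit ↥(MulAction.stabilizer ↥Cfsg.Co0 u ⊓ MulAction.stabilizer ↥Cfsg.Co0 x) y₃).ncard = 4125 ∧ (MulAction.orbit ↥(MulAction.stabilizer ↥Cfsg.Co0 u ⊓ MulAction.stabilizer ↥Cfsg.Co0 x) y₄).ncard = 5600 ∧ {x : ↥Cfsg.leechLattice | Cfsg.sqNorm (x : Cfsg.GolayPt → ℤ) = 32 ∧ Cfsg.dotInt (u : Cfsg.GolayPt → ℤ) (x : Cfsg.GolayPt → ℤ) = -16} = {x} ∪ MulAction.orbit ↥(MulAction.stabilizer ↥Cfsg.Co0 u ⊓ MulAction.stabilizer ↥Cfsg.Co0 x) y₁ ∪ MulAction.orbit ↥(MulAction.stabilizer ↥Cfsg.Co0 u ⊓ MulAction.stabilizer ↥Cfsg.Co0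 x) y₂ ∪ MulAction.orbit ↥(MulAction.stabilizer ↥Cfsg.Co0 u ⊓ MulAction.stabilizer ↥Cfsg.Co0 x) y₃ ∪ MulAction.orbit ↥(MulAction.stabilizer ↥Cfsg.Co0 u ⊓ MulAction.stabilizer ↥Cfsg.Co0 x) y₄ := by
  obtain ⟨g1, hg1⟩ : ∃ g1 : ↥Co0, g1.1 u48 = u := by
    have h : u ∈ orbit ↥Co0 u48 := by
      rw [orbit_u48]
      exact hu
    obtain ⟨g, hg⟩ := h
    exact ⟨g, hg⟩
  have hx1 : g1.1 xS ∈ {x : ↥leechLattice | sqNorm x.1 = 32 ∧ dotInt u.1 x.1 = -16} := by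
    refine ⟨?_, ?_⟩
    · rw [g1.2.2]
      exact xS_mem.1.1
    · rw [← hg1, dot_map]
      exact xS_mem.1.2
  obtain ⟨g2, hg2u, hg2x⟩ := (Cfsg.Agent.S1640.result u hu).2 (g1.1 xS) hx1 x hx
  have k0u : (g2 * g1).1 u48 = u := by
    show g2.1 (g1.1 u48) = u
    rw [hg1]
    exact hg2u
  have k0x : (g2 * g1).1 xS = x := hg2x
  generalize g2 * g1 = k0 at k0u k0x
  subst k0u
  subst k0x
  obtain ⟨y1, m1, y2, m2, y3, m3, y4, m4, c1, c2, c3, c4, hY⟩ := orbits_std5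
  have mem : ∀ y ∈ Ystd, k0.1 y ∈ {x : ↥leechLattice | sqNorm x.1 = 32 ∧
      dotInt (k0.1 u48).1 x.1 = -16} := by
    rintro y ⟨a, b⟩
    refine ⟨by rw [k0.2.2]; exact a, ?_⟩
    rw [dot_map]
    exact b
  have horb : ∀ y : ↥leechLattice,
      orbit ↥(stabilizer ↥Co0 (k0.1 u48) ⊓ stabilizer ↥Co0 (k0.1 xS)) (k0.1 y)
        = (fun z => k0.1 z) '' orbit ↥G0 y := by
    intro y
    rw [orbit_conj2, orbit_sub_eq _ _ G0_eq]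
  refine ⟨k0.1 y1, mem y1 m1, k0.1 y2, mem y2 m2, k0.1 y3, mem y3 m3, k0.1 y4, mem y4 m4,
    ?_, ?_, ?_, ?_, ?_⟩
  · rw [horb, Set.ncard_image_of_injective _ k0.1.injective]
    exact c1
  · rw [horb, Set.ncard_image_of_injective _ k0.1.injective]
    exact c2
  · rw [horb, Set.ncard_image_of_injective _ k0.1.injective]
    exact c3
  · rw [horb, Set.ncard_image_of_injective _ k0.1.injective]
    exact c4
  · rw [horb, horb, horb, horb]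
    have hsing : ({k0.1 xS} : Set ↥leechLattice) = (fun z => k0.1 z) '' {xS} := by
      rw [Set.image_singleton]
    rw [hsing, ← Set.image_union, ← Set.image_union, ← Set.image_union, ← Set.image_union, ← hY]
    ext z
    constructor
    · rintro ⟨a, b⟩
      refine ⟨k0⁻¹.1 z, ⟨?_, ?_⟩, apply_inv_apply k0 z⟩
      · rw [k0⁻¹.2.2]
        exact a
      · have := dot_map k0 u48 (k0⁻¹.1 z)
        rw [apply_inv_apply] at this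
        rw [← this]
        exact b
    · rintro ⟨y, hy, rfl⟩
      exact mem y hy


end Cfsg.Agent.S1641
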