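import Cfsg.Statements.S1642
import Cfsg.Agent.Lib.Lead.ConwayHS

set_option autoImplicit false
open Cfsg

namespace Cfsg.Agent.S1642

open Cfsg.Agent.Lib.Lead.LX Cfsg.Agent.Lib.Lead.CW Cfsg.Agent.Lib.Lead.CO Cfsg.Agent.Lib.Lead.CP
open Cfsg.Agent.Lib.helper3 Cfsg.Agent.Lib.helper4 Cfsg.Agent.S0398 Cfsg.Agent.S1571
open Cfsg.Agent.Lib.Lead.LC

/-- a dodecad avoiding `∞` and `1` -/
def cD : GolayPt → ZMod 2 := Cw 13

def vDv : GolayPt → ℤ := fun p => if cD p ≠ 0 then 0 else 2

def wDv : GolayPt → ℤ :=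
  fun p => if cD p ≠ 0 then 0 else if p = none ∨ p = some 1 then 2 else -2

set_option maxRecDepth 100000 in
theorem vD_chk : isLeechB vDv = true := by decide +kernel

set_option maxRecDepth 100000 in
theorem wD_chk : isLeechB wDv = true := by decide +kernel

def vD : ↥leechLattice := ⟨vDv, isLeechB_sound _ vD_chk⟩

def wD : ↥leechLattice := ⟨wDv, isLeechB_sound _ wD_chk⟩

set_option maxRecDepth 100000 in
theorem vD_norm : sqNorm vD.1 = 48 := by decide +kernel

set_option maxRecDepth 100000 in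
theorem wD_norm : sqNorm wD.1 = 48 := by decide +kernel

set_option maxRecDepth 100000 in
theorem vwD_dot : dotInt vD.1 wD.1 = -32 := by decide +kernel

/-- the sign change on the dodecad -/
def gD : ↥Co0 := ⟨flipE cD (Cw_mem 13), flipE_mem _ _⟩

theorem gD_apply (x : ↥leechLattice) (p : GolayPt) :
    (gD.1 x).1 p = if cD p ≠ 0 then -(x.1 p) else x.1 p := rfl

theorem gD_v : gD.1 vD = vD := by
  apply Subtype.ext
  funext p
  rw [gD_apply]
  show (if cD p ≠ 0 then -(vDv p) else vDv p) = vDv p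
  unfold vDv
  split_ifs <;> simp

theorem gD_w : gD.1 wD = wD := by
  apply Subtype.ext
  funext p
  rw [gD_apply]
  show (if cD p ≠ 0 then -(wDv p) else wDv p) = wDv p
  unfold wDv
  by_cases h : cD p ≠ 0
  · rw [if_pos h, if_pos h]
    simp
  · rw [if_neg h]

theorem gD_sq : gD * gD = 1 := by
  apply Subtype.ext
  apply Equiv.ext
  intro x
  apply Subtype.ext
  exact flip_flip cD x.1

set_option maxRecDepth 100000 in
theorem cD_zero : cD (some 0) ≠ 0 := by decide +kernel

theorem gD_ne : gD ≠ 1 := by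
  intro h
  have h1 : (gD.1 v32).1 (some 0) = v32.1 (some 0) := by rw [h]; rfl
  rw [gD_apply, if_pos cD_zero] at h1
  have h2 : v32.1 (some 0) = 4 := rfl
  omega

set_option maxRecDepth 1000000 in
/-- a codeword inside the complementary dodecad is zero or the whole of it -/
theorem inside : ∀ k : Fin 4096, (∀ p, cD p ≠ 0 → Cw k p = 0) →
    (∀ p, Cw k p = 0) ∨ (∀ p, cD p = 0 → Cw k p ≠ 0) := by decide +kernel

set_option maxRecDepth 100000 in
theorem sum_compl : (∑ p : GolayPt, (if cD p ≠ 0 then (0 : ℤ) else 4)) = 48 := by decide +kernel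

/-- no minimal vector supported off the dodecad has dot product 24 with `vD` -/
theorem no_fixed (x : ↥leechLattice) (hN : sqNorm x.1 = 32) (hfix : gD.1 x = x) :
    dotInt vD.1 x.1 ≠ 24 := by
  intro hd
  have hz : ∀ p, cD p ≠ 0 → x.1 p = 0 := by
    intro p hp
    have := congrArg (fun y : ↥leechLattice => y.1 p) hfix
    simp only [gD_apply, if_pos hp] at this
    omega
  have hx := x.2
  rw [mem_leechLattice_iff, mem_leechSet_iff] at hx
  obtain ⟨m, hm, -, hind⟩ := hx
  have hev : ∀ p, x.1 p % 2 = 0 := by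
    intro p
    have h0 := hm (some 0)
    have hp := hm p
    rw [hz _ cD_zero] at h0
    change (0 : ℤ) % 2 = m % 2 at h0
    change x.1 p % 2 = m % 2 at hp
    omega
  obtain ⟨k, hk, hC⟩ := (mem_golayCode_iff _).1 (hind 2)
  have hC' : ∀ p, ind4 x.1 2 p = Cw k p := fun p => congrFun hC p
  have hsupp : ∀ p, cD p ≠ 0 → Cw k p = 0 := by
    intro p hp
    rw [← hC']
    by_contra hne
    have hne' : ind4 x.1 2 p ≠ 0 := hne
    rw [ind4_ne_zero_iff, hz p hp] at hne'
    omega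
  rcases inside ⟨k, hk⟩ hsupp with h | h
  · -- all entries divisible by four
    have h4 : ∀ p, x.1 p % 4 = 0 := by
      intro p
      have h1 : ¬ ind4 x.1 2 p ≠ 0 := by
        rw [hC' p]
        simpa using h p
      rw [ind4_ne_zero_iff] at h1
      have := hev p
      omega
    have hle : ∀ p, 2 * (vDv p * x.1 p) ≤ x.1 p ^ 2 := by
      intro p
      obtain ⟨y, hy⟩ : ∃ y, x.1 p = 4 * y := ⟨x.1 p / 4, by have := h4 p; omega⟩
      rw [hy]
      unfold vDv
      split_ifs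
      · nlinarith [sq_nonneg y]
      · have : y ≤ y ^ 2 := by nlinarith [sq_nonneg (2 * y - 1)]
        nlinarith
    have : 2 * dotInt vD.1 x.1 ≤ sqNorm x.1 := by
      unfold dotInt sqNorm
      rw [Finset.mul_sum]
      exact Finset.sum_le_sum (fun p _ => hle p)
    rw [hd, hN] at this
    omega
  · have hle : ∀ p, (if cD p ≠ 0 then (0 : ℤ) else 4) ≤ x.1 p ^ 2 := by
      intro p
      by_cases hp : cD p ≠ 0
      · rw [if_pos hp]
        exact sq_nonneg _
      · rw [if_neg hp]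
        have h1 : ind4 x.1 2 p ≠ 0 := by
          rw [hC' p]
          exact h p (by simpa using hp)
        rw [ind4_ne_zero_iff] at h1
        have h2 : x.1 p ≠ 0 := by
          intro h0
          rw [h0] at h1
          omega
        have h3 : x.1 p ≠ 1 ∧ x.1 p ≠ -1 := by
          constructor <;> intro h0 <;> rw [h0] at h1 <;> omega
        obtain ⟨h3a, h3b⟩ := h3
        have : 2 ≤ x.1 p ∨ x.1 p ≤ -2 := by omega
        rcases this with h5 | h5 <;> nlinarith
    have : (∑ p : GolayPt, (if cD p ≠ 0 then (0 : ℤ) else 4)) ≤ sqNorm x.1 := by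
      unfold sqNorm
      exact Finset.sum_le_sum (fun p _ => hle p)
    rw [sum_compl, hN] at this
    omega

/-- Some involution of the Higman–Sims group acts without fixed points on its 100 points. -/
theorem result (v w : ↥Cfsg.leechLattice) (hv : Cfsg.sqNorm (v : Cfsg.GolayPt → ℤ) = 48) (hw : Cfsg.sqNorm (w : Cfsg.GolayPt → ℤ) = 48) (hvw : Cfsg.dotInt (v : Cfsg.GolayPt → ℤ) (w : Cfsg.GolayPt → ℤ) = -32) : ∃ g : ↥Cfsg.Co0, g • v = v ∧ g • w = w ∧ orderOf g = 2 ∧ ∀ x ∈ {x : ↥Cfsg.leechLattice | Cfsg.sqNorm (x : Cfsg.GolayPt → ℤ) = 32 ∧ Cfsg.dotInt (v : Cfsg.GolayPt → ℤ) (x : Cfsg.GolayPt → ℤ) = 24 ∧ Cfsg.dotInt (w : Cfsg.GolayPt → ℤ) (x : Cfsg.GolayPt → ℤ) = -24}, g • x ≠ x := by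
  obtain ⟨g0, hg0v, hg0w⟩ := hs_pair vD wD v w vD_norm wD_norm vwD_dot hv hw hvw
  refine ⟨g0 * gD * g0⁻¹, ?_, ?_, ?_, ?_⟩
  · show g0.1 (gD.1 (g0⁻¹.1 v)) = v
    rw [← hg0v, inv_apply_apply, gD_v]
  · show g0.1 (gD.1 (g0⁻¹.1 w)) = w
    rw [← hg0w, inv_apply_apply, gD_w]
  · apply orderOf_eq_prime
    · rw [pow_two]
      calc g0 * gD * g0⁻¹ * (g0 * gD * g0⁻¹) = g0 * (gD * gD) * g0⁻¹ := by group
        _ = 1 := by rw [gD_sq]; group
    · intro h
      apply gD_ne
      calc gD = g0⁻¹ * (g0 * gD * g0⁻¹) * g0 := by group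
        _ = 1 := by rw [h]; group
  · intro x hx hfix
    obtain ⟨hxN, hxv, -⟩ := hx
    have hfix' : g0.1 (gD.1 (g0⁻¹.1 x)) = x := hfix
    have h1 : gD.1 (g0⁻¹.1 x) = g0⁻¹.1 x := by
      have := congrArg (fun y => g0⁻¹.1 y) hfix'
      simp only [inv_apply_apply] at this
      exact this
    refine no_fixed (g0⁻¹.1 x) (by rw [g0⁻¹.2.2]; exact hxN) h1 ?_
    have h2 := dot_map g0 vD (g0⁻¹.1 x)
    rw [apply_inv_apply, hg0v] at h2
    rw [← h2]
    exact hxv

end Cfsg.Agent.S1642
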