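import Mathlib
import Cfsg.Statements.S1643
import Cfsg.Agent.Lib.helper3.M24L23D

set_option autoImplicit false
open scoped Pointwise
open Cfsg

namespace Cfsg.Agent.S1643

/-- PSL(2, 23) = ⟨t ↦ t+1, t ↦ u t (u square), t ↦ −1/t⟩ is maximal of order 6072 in the group of the length-24 code, and its point stabiliser 23:11 (order 253) is maximal in the Mathieu group of degree 23. -/
theorem result : (Subgroup.closure ({Equiv.optionCongr (Equiv.addRight (1 : ZMod 23)), Cfsg.projInv} ∪ {g : Equiv.Perm Cfsg.GolayPt | ∃ u : (ZMod 23)ˣ, IsSquare u ∧ g = Equiv.optionCongr (Units.mulLeft u)}) ≤ Cfsg.M24 ∧ Nat.card ↥(Subgroup.closure ({Equiv.optionCongr (Equiv.addRight (1 : ZMod 23)), Cfsg.projInv} ∪ {g : Equiv.Perm Cfsg.GolayPt | ∃ u : (ZMod 23)ˣ, IsSquare u ∧ g = Equiv.optionCongr (Units.mulLeft u)})) = 6072 ∧ IsCoatom ((Subgroup.closure ({Equiv.optionCongr (Equiv.addRight (1 : ZMod 23)), Cfsg.projInv} ∪ {g : Equiv.Perm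 Cfsg.GolayPt | ∃ u : (ZMod 23)ˣ, IsSquare u ∧ g = Equiv.optionCongr (Units.mulLeft u)})).subgroupOf Cfsg.M24)) ∧ (Subgroup.closure ({Equiv.optionCongr (Equiv.addRight (1 : ZMod 23))} ∪ {g : Equiv.Perm Cfsg.GolayPt | ∃ u : (ZMod 23)ˣ, IsSquare u ∧ g = Equiv.optionCongr (Units.mulLeft u)}) ≤ Cfsg.M24 ⊓ MulAction.stabilizer (Equiv.Perm Cfsg.GolayPt) (none : Cfsg.GolayPt) ∧ Nat.card ↥(Subgroup.closure ({Equiv.optionCongr (Equiv.addRight (1 : ZMod 23))} ∪ {g : Equiv.Perm Cfsg.GolayPt | ∃ u : (ZMod 23)ˣ, IsSquare u ∧ g = Equiv.optionCongr (Units.mulLeft u)})) = 253 ∧ IsCoatom (((Subgroup.closure ({Equiv.optionCongr (Equiv.addRight (1 : ZMod 23))} ∪ {g : Equiv.Perm Cfsg.GolayPt | ∃ u : (ZMod 23)ˣ, IsSquare u ∧ g = Equiv.optionCongr (Units.mulLeft u)})).subgroupOf Cfsg.M24).subgroupOf (MulAction.stabilizer Cfsg.M24 (none : Cfsg.GolayPt)))) := by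
  have e1 := Cfsg.Agent.Lib.helper3.closure_psl_eq
  have e2 := Cfsg.Agent.Lib.helper3.closure_bor_eq
  unfold Cfsg.Agent.Lib.helper3.sqSet at e1 e2
  rw [e1, e2]
  have hinj : Function.Injective (Cfsg.M24.subtype) := Subgroup.subtype_injective _
  refine ⟨⟨Subgroup.map_subtype_le _, ?_, ?_⟩, ⟨?_, ?_, ?_⟩⟩
  · rw [Subgroup.card_map_of_injective hinj]
    exact Cfsg.Agent.Lib.helper3.card_psl23
  · rw [Subgroup.subgroupOf, Subgroup.comap_map_eq_self_of_injective hinj]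
    exact Cfsg.Agent.Lib.helper3.psl23_isCoatom
  · refine le_inf (Subgroup.map_subtype_le _) ?_
    rintro x ⟨b, hb, rfl⟩
    exact Cfsg.Agent.Lib.helper3.bor23_le_stabInf hb
  · rw [Subgroup.card_map_of_injective hinj]
    exact Cfsg.Agent.Lib.helper3.card_bor23
  · have e3 : (Subgroup.map Cfsg.M24.subtype Cfsg.Agent.Lib.helper3.bor23).subgroupOf Cfsg.M24 =
        Cfsg.Agent.Lib.helper3.bor23 := by
      rw [Subgroup.subgroupOf, Subgroup.comap_map_eq_self_of_injective hinj]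
    rw [e3]
    exact Cfsg.Agent.Lib.helper3.bor23_isCoatom

end Cfsg.Agent.S1643
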