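import Cfsg.Statements.S1680
import Cfsg.Agent.Lib.Helper12.TC.Suz1782.Main

set_option autoImplicit false
open Cfsg

namespace Cfsg.Agent.S1680

open Cfsg.Agent.Lib.Helper12.TC Cfsg.Agent.Lib.Helper12.TC.Suz1782 in
theorem key :
    ((Subgroup.closure S).map (PresentedGroup.mk (Cfsg.Spor.coxRelators Cfsg.Spor.Suz.edges ∪
      {r | r ∈ Cfsg.Spor.Suz.extra}))).index = cN ∧
    ∃ q₁ q₂ : PresentedGroup (Cfsg.Spor.coxRelators Cfsg.Spor.Suz.edges ∪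
        {r | r ∈ Cfsg.Spor.Suz.extra}) ⧸
        (Subgroup.closure S).map (PresentedGroup.mk (Cfsg.Spor.coxRelators Cfsg.Spor.Suz.edges ∪
          {r | r ∈ Cfsg.Spor.Suz.extra})),
      (MulAction.orbit ((Subgroup.closure S).map (PresentedGroup.mk
        (Cfsg.Spor.coxRelators Cfsg.Spor.Suz.edges ∪ {r | r ∈ Cfsg.Spor.Suz.extra}))) q₁).ncard = 416 ∧
      (MulAction.orbit ((Subgroup.closure S).map (PresentedGroup.mk
        (Cfsg.Spor.coxRelators Cfsg.Spor.Suz.edges ∪ {r | r ∈ Cfsg.Spor.Suz.extra}))) q₂).ncard = 1365 := by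
  obtain ⟨hindex, Φ, horb⟩ := main
  have hN : cN = 1782 := rfl
  refine ⟨hindex, Φ.symm ⟨1366, by rw [hN]; decide⟩, Φ.symm ⟨1, by rw [hN]; decide⟩, ?_, ?_⟩
  · rw [← Set.ncard_image_of_injective _ Φ.injective,
      horb ⟨1366, by rw [hN]; decide⟩ 1782 (show 1366 < 1782 by decide) (le_of_eq hN.symm) horbi1 horbc1]
    exact ncard_interval (le_of_eq hN.symm)
  · rw [← Set.ncard_image_of_injective _ Φ.injective,
      horb ⟨1, by rw [hN]; decide⟩ 1366 (show 1 < 1366 by decide) (by rw [hN]; decide) horbi0 horbc0]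
    exact ncard_interval (by rw [hN]; decide)

/-- In the presented sporadic Suzuki group, let H be the subgroup generated by the images of a, …, f. Then H has index 1782, H has orbits of sizes 416 and 1365 on the cosets of H other than H itself (with the index 1782 this makes the action rank 3). -/
theorem result : (((Subgroup.closure ({Cfsg.Spor.Suz.a, Cfsg.Spor.Suz.b, Cfsg.Spor.Suz.c, Cfsg.Spor.Suz.d, Cfsg.Spor.Suz.e, Cfsg.Spor.Suz.f} : Set (FreeGroup Cfsg.Spor.Suz.Gen))).map (PresentedGroup.mk (Cfsg.Spor.coxRelators Cfsg.Spor.Suz.edges ∪ {r | r ∈ Cfsg.Spor.Suz.extra})))).index = 1782 ∧ ∃ q₁ q₂ : Cfsg.Spor.Suz ⧸ (((Subgroup.closure ({Cfsg.Spor.Suz.a, Cfsg.Spor.Suz.b, Cfsg.Spor.Suz.c, Cfsg.Spor.Suz.d, Cfsg.Spor.Suz.e, Cfsg.Spor.Suz.f} : Set (FreeGroup Cfsg.Spor.Suz.Gen))).map (PresentedGroup.mk (Cfsg.Spor.coxRelators Cfsg.Spor.Suz.edges ∪ {r | r ∈ Cfsg.Spor.Suz.extra})))),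 (MulAction.orbit (((Subgroup.closure ({Cfsg.Spor.Suz.a, Cfsg.Spor.Suz.b, Cfsg.Spor.Suz.c, Cfsg.Spor.Suz.d, Cfsg.Spor.Suz.e, Cfsg.Spor.Suz.f} : Set (FreeGroup Cfsg.Spor.Suz.Gen))).map (PresentedGroup.mk (Cfsg.Spor.coxRelators Cfsg.Spor.Suz.edges ∪ {r | r ∈ Cfsg.Spor.Suz.extra})))) q₁).ncard = 416 ∧ (MulAction.orbit (((Subgroup.closure ({Cfsg.Spor.Suz.a, Cfsg.Spor.Suz.b, Cfsg.Spor.Suz.c, Cfsg.Spor.Suz.d, Cfsg.Spor.Suz.e, Cfsg.Spor.Suz.f} : Set (FreeGroup Cfsg.Spor.Suz.Gen))).map (PresentedGroup.mk (Cfsg.Spor.coxRelators Cfsg.Spor.Suz.edges ∪ {r | r ∈ Cfsg.Spor.Suz.extra})))) q₂).ncard = 1365 := key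

end Cfsg.Agent.S1680
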