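import Cfsg.Statements.S1683
import Cfsg.Agent.Lib.Helper12.TC.He2058.Main

set_option autoImplicit false
open Cfsg

namespace Cfsg.Agent.S1683

open Cfsg.Agent.Lib.Helper12.TC Cfsg.Agent.Lib.Helper12.TC.He2058 in
theorem key :
    ((Subgroup.closure S).map (PresentedGroup.mk (Cfsg.Spor.coxRelators Cfsg.Spor.He.edges ∪
      {r | r ∈ Cfsg.Spor.He.extra}))).index = cN ∧
    ∃ q₁ q₂ q₃ q₄ : PresentedGroup (Cfsg.Spor.coxRelators Cfsg.Spor.He.edges ∪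
      {r | r ∈ Cfsg.Spor.He.extra}) ⧸ ((Subgroup.closure S).map (PresentedGroup.mk (Cfsg.Spor.coxRelators Cfsg.Spor.He.edges ∪
      {r | r ∈ Cfsg.Spor.He.extra}))),
      MulAction.orbit ((Subgroup.closure S).map (PresentedGroup.mk (Cfsg.Spor.coxRelators Cfsg.Spor.He.edges ∪
      {r | r ∈ Cfsg.Spor.He.extra}))) q₁ ≠ MulAction.orbit ((Subgroup.closure S).map (PresentedGroup.mk (Cfsg.Spor.coxRelators Cfsg.Spor.He.edges ∪
      {r | r ∈ Cfsg.Spor.He.extra}))) q₂ ∧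
      (MulAction.orbit ((Subgroup.closure S).map (PresentedGroup.mk (Cfsg.Spor.coxRelators Cfsg.Spor.He.edges ∪
      {r | r ∈ Cfsg.Spor.He.extra}))) q₁).ncard = 136 ∧
      (MulAction.orbit ((Subgroup.closure S).map (PresentedGroup.mk (Cfsg.Spor.coxRelators Cfsg.Spor.He.edges ∪
      {r | r ∈ Cfsg.Spor.He.extra}))) q₂).ncard = 136 ∧
      (MulAction.orbit ((Subgroup.closure S).map (PresentedGroup.mk (Cfsg.Spor.coxRelators Cfsg.Spor.He.edges ∪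
      {r | r ∈ Cfsg.Spor.He.extra}))) q₃).ncard = 425 ∧
      (MulAction.orbit ((Subgroup.closure S).map (PresentedGroup.mk (Cfsg.Spor.coxRelators Cfsg.Spor.He.edges ∪
      {r | r ∈ Cfsg.Spor.He.extra}))) q₄).ncard = 1360 := by
  obtain ⟨hindex, Φ, horb⟩ := main
  have hN : cN = 2058 := rfl
  have h1 := horb ⟨1786, by rw [hN]; decide⟩ 1922 (show 1786 < 1922 by decide) (by rw [hN]; decide)
    horbi2 horbc2
  have h2 := horb ⟨1922, by rw [hN]; decide⟩ 2058 (show 1922 < 2058 by decide) (le_of_eq hN.symm)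
    horbi3 horbc3
  have h3 := horb ⟨1361, by rw [hN]; decide⟩ 1786 (show 1361 < 1786 by decide) (by rw [hN]; decide)
    horbi1 horbc1
  have h4 := horb ⟨1, by rw [hN]; decide⟩ 1361 (show 1 < 1361 by decide) (by rw [hN]; decide)
    horbi0 horbc0
  refine ⟨hindex, Φ.symm ⟨1786, by rw [hN]; decide⟩, Φ.symm ⟨1922, by rw [hN]; decide⟩,
    Φ.symm ⟨1361, by rw [hN]; decide⟩, Φ.symm ⟨1, by rw [hN]; decide⟩, ?_, ?_, ?_, ?_, ?_⟩
  · intro heq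
    rw [heq, h2] at h1
    have hm : (⟨1922, by rw [hN]; decide⟩ : Fin cN) ∈
        {i : Fin cN | (1922 : ℕ) ≤ i.val ∧ i.val < 2058} :=
      ⟨le_refl _, show (1922 : ℕ) < 2058 by decide⟩
    rw [h1] at hm
    exact absurd hm.2 (show ¬ (1922 : ℕ) < 1922 by decide)
  · rw [← Set.ncard_image_of_injective _ Φ.injective, h1]
    exact ncard_interval (by rw [hN]; decide)
  · rw [← Set.ncard_image_of_injective _ Φ.injective, h2]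
    exact ncard_interval (le_of_eq hN.symm)
  · rw [← Set.ncard_image_of_injective _ Φ.injective, h3]
    exact ncard_interval (by rw [hN]; decide)
  · rw [← Set.ncard_image_of_injective _ Φ.injective, h4]
    exact ncard_interval (by rw [hN]; decide)

/-- In the presented Held group, let H be the subgroup generated by the images of a, c, d, e, f, (ab)^2 and (bcde)^7. Then H has index 2058, there are four distinct H-orbits on the cosets of H other than H itself, of sizes 136, 136, 425 and 1360. -/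
theorem result : (((Subgroup.closure ({Cfsg.Spor.He.a, Cfsg.Spor.He.c, Cfsg.Spor.He.d, Cfsg.Spor.He.e, Cfsg.Spor.He.f, (Cfsg.Spor.He.a * Cfsg.Spor.He.b) ^ 2, (Cfsg.Spor.He.b * Cfsg.Spor.He.c * Cfsg.Spor.He.d * Cfsg.Spor.He.e) ^ 7} : Set (FreeGroup Cfsg.Spor.He.Gen))).map (PresentedGroup.mk (Cfsg.Spor.coxRelators Cfsg.Spor.He.edges ∪ {r | r ∈ Cfsg.Spor.He.extra})))).index = 2058 ∧ ∃ q₁ q₂ q₃ q₄ : Cfsg.Spor.He ⧸ (((Subgroup.closure ({Cfsg.Spor.He.a, Cfsg.Spor.He.c, Cfsg.Spor.He.d, Cfsg.Spor.He.e, Cfsg.Spor.He.f, (Cfsg.Spor.He.a * Cfsg.Spor.He.b) ^ 2, (Cfsg.Spor.He.b * Cfsg.Spor.He.c * Cfsg.Spor.He.d * Cfsg.Spor.He.e) ^ 7} : Set (FreeGroup Cfsg.Spor.He.Gen))).map (PresentedGroup.mk (Cfsg.Spor.coxRelators Cfsg.Spor.He.edges ∪ {r | r ∈ Cfsg.Spor.He.extra})))), MulAction.orbit (((Subgroup.closure ({Cfsg.Spor.He.a, Cfsg.Spor.He.c, Cfsg.Spor.He.d, Cfsg.Spor.He.e,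 Cfsg.Spor.He.f, (Cfsg.Spor.He.a * Cfsg.Spor.He.b) ^ 2, (Cfsg.Spor.He.b * Cfsg.Spor.He.c * Cfsg.Spor.He.d * Cfsg.Spor.He.e) ^ 7} : Set (FreeGroup Cfsg.Spor.He.Gen))).map (PresentedGroup.mk (Cfsg.Spor.coxRelators Cfsg.Spor.He.edges ∪ {r | r ∈ Cfsg.Spor.He.extra})))) q₁ ≠ MulAction.orbit (((Subgroup.closure ({Cfsg.Spor.He.a, Cfsg.Spor.He.c, Cfsg.Spor.He.d, Cfsg.Spor.He.e, Cfsg.Spor.He.f, (Cfsg.Spor.He.a * Cfsg.Spor.He.b) ^ 2, (Cfsg.Spor.He.b * Cfsg.Spor.He.c * Cfsg.Spor.He.d * Cfsg.Spor.He.e) ^ 7} : Set (FreeGroup Cfsg.Spor.He.Gen))).map (PresentedGroup.mk (Cfsg.Spor.coxRelators Cfsg.Spor.He.edges ∪ {r | r ∈ Cfsg.Spor.He.extra})))) q₂ ∧ (MulAction.orbit (((Subgroup.closure ({Cfsg.Spor.He.a, Cfsg.Spor.He.c, Cfsg.Spor.He.d, Cfsg.Spor.He.e, Cfsg.Spor.He.f, (Cfsg.Spor.He.a * Cfsg.Spor.He.b) ^ 2, (Cfsg.Spor.He.b * Cfsg.Spor.He.c * Cfsg.Spor.He.d * Cfsg.Spor.He.e)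 ^ 7} : Set (FreeGroup Cfsg.Spor.He.Gen))).map (PresentedGroup.mk (Cfsg.Spor.coxRelators Cfsg.Spor.He.edges ∪ {r | r ∈ Cfsg.Spor.He.extra})))) q₁).ncard = 136 ∧ (MulAction.orbit (((Subgroup.closure ({Cfsg.Spor.He.a, Cfsg.Spor.He.c, Cfsg.Spor.He.d, Cfsg.Spor.He.e, Cfsg.Spor.He.f, (Cfsg.Spor.He.a * Cfsg.Spor.He.b) ^ 2, (Cfsg.Spor.He.b * Cfsg.Spor.He.c * Cfsg.Spor.He.d * Cfsg.Spor.He.e) ^ 7} : Set (FreeGroup Cfsg.Spor.He.Gen))).map (PresentedGroup.mk (Cfsg.Spor.coxRelators Cfsg.Spor.He.edges ∪ {r | r ∈ Cfsg.Spor.He.extra})))) q₂).ncard = 136 ∧ (MulAction.orbit (((Subgroup.closure ({Cfsg.Spor.He.a, Cfsg.Spor.He.c, Cfsg.Spor.He.d, Cfsg.Spor.He.e, Cfsg.Spor.He.f, (Cfsg.Spor.He.a * Cfsg.Spor.He.b) ^ 2, (Cfsg.Spor.He.b * Cfsg.Spor.He.c * Cfsg.Spor.He.d * Cfsg.Spor.He.e) ^ 7} : Set (FreeGroup Cfsg.Spor.He.Gen))).map (PresentedGroup.mk (Cfsg.Spor.coxRelators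 Cfsg.Spor.He.edges ∪ {r | r ∈ Cfsg.Spor.He.extra})))) q₃).ncard = 425 ∧ (MulAction.orbit (((Subgroup.closure ({Cfsg.Spor.He.a, Cfsg.Spor.He.c, Cfsg.Spor.He.d, Cfsg.Spor.He.e, Cfsg.Spor.He.f, (Cfsg.Spor.He.a * Cfsg.Spor.He.b) ^ 2, (Cfsg.Spor.He.b * Cfsg.Spor.He.c * Cfsg.Spor.He.d * Cfsg.Spor.He.e) ^ 7} : Set (FreeGroup Cfsg.Spor.He.Gen))).map (PresentedGroup.mk (Cfsg.Spor.coxRelators Cfsg.Spor.He.edges ∪ {r | r ∈ Cfsg.Spor.He.extra})))) q₄).ncard = 1360 := key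

end Cfsg.Agent.S1683
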