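import Cfsg.Statements.S1686
import Cfsg.Agent.Lib.Helper12.O73.Mat
import Cfsg.Agent.Lib.Helper12.Ord.Fi22Order
import Cfsg.Agent.S0292
import Cfsg.Agent.S0295

set_option autoImplicit false
open Cfsg

namespace Cfsg.Agent.S1686

open Cfsg.Spor Cfsg.Agent.Lib.Helper12.O73 Cfsg.Agent.Lib.Helper12.Ord Cfsg.Agent.Lib.Helper12.TC
  Cfsg.Agent.Lib.Helper16

/-- the order of the orthogonal group -/
theorem card_POmega :
    Nat.card (Cfsg.POmega (ZMod 3) (Cfsg.quadFormOdd 3 (ZMod 3))) = 4585351680 := by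
  have h := Cfsg.Agent.S0292.result (F := ZMod 3) (q := 3) (ZMod.card 3) (by decide) 3 le_rfl
  norm_num [Finset.prod_range_succ] at h
  omega

/-- the order of the presented group on the generators `b, …, i` -/
theorem grp_finite_card : Finite Grp ∧ Nat.card Grp ≤ 4585351680 := by
  obtain ⟨f3, c3⟩ := CoxE6x51840.card_eq
  obtain ⟨f2, c2⟩ := Fi22P2x243.card_le f3 51840 (le_of_eq c3)
  exact Fi22P1x364.card_le f2 _ c2

theorem tup_vec (a : T7) : tup (vec a) = a := rfl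

theorem M_ne_one : M .b ≠ 1 := by
  intro h
  have h1 := M_mulVec .b (gv .c)
  rw [h, iso_one_coe, Matrix.one_mulVec] at h1
  have h2 := congrArg tup h1
  rw [tup_vec, tup_vec] at h2
  revert h2
  decide

/-- the homomorphism onto the orthogonal group -/
theorem phi_exists : ∃ φ : Grp →* Cfsg.POmega K (⇑Q7), Function.Surjective φ := by
  obtain ⟨ψ, hψ⟩ := exists_psi
  have hr := range_psi ψ hψ
  have hmemJ : ∀ x, ψ x ∈ J := fun x => by rw [← hr]; exact ⟨x, rfl⟩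
  have hle : ∀ x, ψ x ∈ commutator O7 := fun x => J_le_commutator (hmemJ x)
  let ψ' : Grp →* ↥(commutator O7) := ψ.codRestrict (commutator O7) hle
  let π := QuotientGroup.mk' (Subgroup.center ↥(commutator O7))
  let φ : Grp →* (↥(commutator O7) ⧸ Subgroup.center ↥(commutator O7)) := π.comp ψ'
  refine ⟨φ, ?_⟩
  have hn' : (ψ'.range).Normal := by
    constructor
    rintro _ ⟨g, rfl⟩ ω
    have h1 : (ω : O7) * ψ g * (ω : O7)⁻¹ ∈ J := J_normal.conj_mem _ (hmemJ g) _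
    rw [← hr] at h1
    obtain ⟨g', hg'⟩ := h1
    exact ⟨g', Subtype.ext hg'⟩
  have hn : (φ.range).Normal := by
    have : φ.range = (ψ'.range).map π := by
      rw [MonoidHom.range_eq_map, MonoidHom.range_eq_map, Subgroup.map_map]
    rw [this]
    exact Subgroup.Normal.map hn' π (QuotientGroup.mk'_surjective _)
  have hs : IsSimpleGroup (Cfsg.POmega (ZMod 3) (Cfsg.quadFormOdd 3 (ZMod 3))) :=
    Cfsg.Agent.S0295.result (F := ZMod 3) (by rw [ZMod.card]; decide) 3 le_rfl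
  have hcases : φ.range = ⊥ ∨ φ.range = ⊤ := @Subgroup.Normal.eq_bot_or_eq_top _ _ hs _ hn
  rcases hcases with hbot | htop
  · exfalso
    have h1 : φ (PresentedGroup.of Fi22P1.Gen.b) ∈ φ.range := ⟨_, rfl⟩
    rw [hbot, Subgroup.mem_bot] at h1
    have h2 : ψ' (PresentedGroup.of Fi22P1.Gen.b) ∈ Subgroup.center ↥(commutator O7) :=
      (QuotientGroup.eq_one_iff _).mp h1
    have hc : Subgroup.center ↥(commutator O7) = ⊥ :=
      Cfsg.Agent.S0292.center_trivial (F := ZMod 3) (by decide) 3 le_rfl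
    rw [hc, Subgroup.mem_bot] at h2
    have h3 : ψ (PresentedGroup.of Fi22P1.Gen.b) = 1 := congrArg Subtype.val h2
    rw [hψ] at h3
    exact M_ne_one h3
  · exact MonoidHom.range_eq_top.mp htop

/-- In the presented Fischer group Fi₂₂, the subgroup generated by the images of b, …, i is isomorphic to PΩ(7, 3), the commutator subgroup of the isometry group of the quadratic form x₀² + x₁y₁ + x₂y₂ + x₃y₃ over the integers mod 3, modulo its centre. -/
theorem result : Nonempty ((((Subgroup.closure ({Cfsg.Spor.Fi22.b, Cfsg.Spor.Fi22.c, Cfsg.Spor.Fi22.d, Cfsg.Spor.Fi22.e, Cfsg.Spor.Fi22.f, Cfsg.Spor.Fi22.g, Cfsg.Spor.Fi22.h, Cfsg.Spor.Fi22.i} : Set (FreeGroup Cfsg.Spor.Fi22.Gen))).map (PresentedGroup.mk (Cfsg.Spor.coxRelators Cfsg.Spor.Fi22.edges ∪ {r | r ∈ Cfsg.Spor.Fi22.extra})))) ≃* Cfsg.POmega (ZMod 3) (Cfsg.quadFormOdd 3 (ZMod 3))) := by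
  obtain ⟨φ, hφ⟩ := phi_exists
  obtain ⟨hfin, hcard⟩ := grp_finite_card
  have := hfin
  have hcP : Nat.card (Cfsg.POmega K (⇑Q7)) = 4585351680 := card_POmega
  have hbij : Function.Bijective φ :=
    hφ.bijective_of_nat_card_le (by rw [hcP]; exact hcard)
  let e1 : Grp ≃* Cfsg.POmega K (⇑Q7) := MulEquiv.ofBijective φ hbij
  obtain ⟨φ₀, hφ₀⟩ := subpres_hom Cfsg.Spor.Fi22.edges Cfsg.Spor.Fi22.extra Fi22P1.edges Fi22P1.extra
    Fi22P1.ι Fi22P1.sub_nodes Fi22P1.sub_lab Fi22P1.sub_extra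
  have hS : (Subgroup.closure (Set.range fun y : Fi22P1.Gen =>
      (FreeGroup.of (Fi22P1.ι y) : FreeGroup Cfsg.Spor.Fi22.Gen))) = Subgroup.closure Fi22x14080.S := by
    rw [Fi22x14080.S_eq]
    rfl
  have hidx : φ₀.range.index = 14080 := by
    rw [hφ₀, hS]
    exact Fi22x14080.main.1
  have hcardH : Nat.card φ₀.range = 4585351680 := by
    have h1 := Subgroup.index_mul_card φ₀.range
    rw [hidx, Fi22Order.card_eq] at h1
    omega
  have hbij0 : Function.Bijective φ₀.rangeRestrict :=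
    (φ₀.rangeRestrict_surjective).bijective_of_nat_card_le (by rw [hcardH]; exact hcard)
  let e0 : Grp ≃* φ₀.range := MulEquiv.ofBijective _ hbij0
  have hH : ((Subgroup.closure ({Cfsg.Spor.Fi22.b, Cfsg.Spor.Fi22.c, Cfsg.Spor.Fi22.d, Cfsg.Spor.Fi22.e, Cfsg.Spor.Fi22.f, Cfsg.Spor.Fi22.g, Cfsg.Spor.Fi22.h, Cfsg.Spor.Fi22.i} : Set (FreeGroup Cfsg.Spor.Fi22.Gen))).map (PresentedGroup.mk (Cfsg.Spor.coxRelators Cfsg.Spor.Fi22.edges ∪ {r | r ∈ Cfsg.Spor.Fi22.extra}))) = φ₀.range := by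
    rw [hφ₀, hS]
    rfl
  exact ⟨(MulEquiv.subgroupCongr hH).trans (e0.symm.trans e1)⟩

end Cfsg.Agent.S1686
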