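import Cfsg.Statements.S1689
import Cfsg.Agent.Lib.Helper12.TC.Fi23x31671.Main

set_option autoImplicit false
open Cfsg

namespace Cfsg.Agent.S1689

open Cfsg.Agent.Lib.Helper12.TC Cfsg.Agent.Lib.Helper12.TC.Fi23x31671 in
theorem key :
    ((Subgroup.closure S).map (PresentedGroup.mk (Cfsg.Spor.coxRelators Cfsg.Spor.Fi23.edges ∪
      {r | r ∈ Cfsg.Spor.Fi23.extra}))).index = cN ∧
    ∃ q₁ q₂ : PresentedGroup (Cfsg.Spor.coxRelators Cfsg.Spor.Fi23.edges ∪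
      {r | r ∈ Cfsg.Spor.Fi23.extra}) ⧸ ((Subgroup.closure S).map (PresentedGroup.mk (Cfsg.Spor.coxRelators Cfsg.Spor.Fi23.edges ∪
      {r | r ∈ Cfsg.Spor.Fi23.extra}))),
      (MulAction.orbit ((Subgroup.closure S).map (PresentedGroup.mk (Cfsg.Spor.coxRelators Cfsg.Spor.Fi23.edges ∪
      {r | r ∈ Cfsg.Spor.Fi23.extra}))) q₁).ncard = 3510 ∧
      (MulAction.orbit ((Subgroup.closure S).map (PresentedGroup.mk (Cfsg.Spor.coxRelators Cfsg.Spor.Fi23.edges ∪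
      {r | r ∈ Cfsg.Spor.Fi23.extra}))) q₂).ncard = 28160 := by
  obtain ⟨hindex, Φ, horb⟩ := main
  have hN : cN = 31671 := rfl
  have h0 := horb ⟨28161, (by decide : 28161 < cN)⟩ 31671 (show 28161 < 31671 by decide) (by decide : 31671 ≤ cN)
    horbi1 horbc1
  have h1 := horb ⟨1, (by decide : 1 < cN)⟩ 28161 (show 1 < 28161 by decide) (by decide : 28161 ≤ cN)
    horbi0 horbc0
  refine ⟨hindex, Φ.symm ⟨28161, (by decide : 28161 < cN)⟩, Φ.symm ⟨1, (by decide : 1 < cN)⟩, ?_, ?_⟩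
  · rw [← Set.ncard_image_of_injective _ Φ.injective, h0]
    exact ncard_interval (by decide : 31671 ≤ cN)
  · rw [← Set.ncard_image_of_injective _ Φ.injective, h1]
    exact ncard_interval (by decide : 28161 ≤ cN)

/-- In the presented Fischer group Fi₂₃, let H be the subgroup generated by the images of a, …, i. Then H has index 31671, H has orbits of sizes 3510 and 28160 on the cosets of H other than H itself. -/
theorem result : (((Subgroup.closure ({Cfsg.Spor.Fi23.a, Cfsg.Spor.Fi23.b, Cfsg.Spor.Fi23.c, Cfsg.Spor.Fi23.d, Cfsg.Spor.Fi23.e, Cfsg.Spor.Fi23.f, Cfsg.Spor.Fi23.g, Cfsg.Spor.Fi23.h, Cfsg.Spor.Fi23.i} : Set (FreeGroup Cfsg.Spor.Fi23.Gen))).map (PresentedGroup.mk (Cfsg.Spor.coxRelators Cfsg.Spor.Fi23.edges ∪ {r | r ∈ Cfsg.Spor.Fi23.extra})))).index = 31671 ∧ ∃ q₁ q₂ : Cfsg.Spor.Fi23 ⧸ (((Subgroup.closure ({Cfsg.Spor.Fi23.a,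 Cfsg.Spor.Fi23.b, Cfsg.Spor.Fi23.c, Cfsg.Spor.Fi23.d, Cfsg.Spor.Fi23.e, Cfsg.Spor.Fi23.f, Cfsg.Spor.Fi23.g, Cfsg.Spor.Fi23.h, Cfsg.Spor.Fi23.i} : Set (FreeGroup Cfsg.Spor.Fi23.Gen))).map (PresentedGroup.mk (Cfsg.Spor.coxRelators Cfsg.Spor.Fi23.edges ∪ {r | r ∈ Cfsg.Spor.Fi23.extra})))), (MulAction.orbit (((Subgroup.closure ({Cfsg.Spor.Fi23.a, Cfsg.Spor.Fi23.b, Cfsg.Spor.Fi23.c, Cfsg.Spor.Fi23.d, Cfsg.Spor.Fi23.e, Cfsg.Spor.Fi23.f, Cfsg.Spor.Fi23.g, Cfsg.Spor.Fi23.h, Cfsg.Spor.Fi23.i} : Set (FreeGroup Cfsg.Spor.Fi23.Gen))).map (PresentedGroup.mk (Cfsg.Spor.coxRelators Cfsg.Spor.Fi23.edges ∪ {r | r ∈ Cfsg.Spor.Fi23.extra})))) q₁).ncard = 3510 ∧ (MulAction.orbit (((Subgroup.closure ({Cfsg.Spor.Fi23.a, Cfsg.Spor.Fi23.b, Cfsg.Spor.Fi23.c, Cfsg.Spor.Fi23.d, Cfsg.Spor.Fi23.e, Cfsg.Spor.Fi23.f, Cfsg.Spor.Fi23.g, Cfsg.Spor.Fi23.h, Cfsg.Spor.Fi23.i}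 : Set (FreeGroup Cfsg.Spor.Fi23.Gen))).map (PresentedGroup.mk (Cfsg.Spor.coxRelators Cfsg.Spor.Fi23.edges ∪ {r | r ∈ Cfsg.Spor.Fi23.extra})))) q₂).ncard = 28160 := key

end Cfsg.Agent.S1689
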