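import Cfsg.Statements.S1717
import Cfsg.Agent.Lib.Helper28.TvE
import Cfsg.Agent.Lib.Helper28.SylCent

set_option autoImplicit false

open Cfsg

namespace Cfsg.Agent.S1717

open Cfsg.Agent.Lib.Helper28.Tv Cfsg.Agent.Lib.Helper28.SylCent

theorem mem_zpowers_z0 {g : SLn2 3} (h : g ∈ Subgroup.zpowers (z0 3)) : g = 1 ∨ g = z0 3 := by
  obtain ⟨k, hk⟩ := Subgroup.mem_zpowers_iff.mp h
  rw [← zpow_mod_orderOf, orderOf_z0] at hk
  have h2 : ((2 : ℕ) : ℤ) = 2 := rfl
  rw [h2] at hk
  rcases Int.emod_two_eq_zero_or_one k with h | h <;> rw [h] at hk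
  · left; simpa using hk.symm
  · right; simpa using hk.symm

/-- Let G be a finite group with an involution z whose centraliser C is isomorphic to the centraliser of a transvection of SL(5, 2). Then a Sylow 2-subgroup of C, viewed in G, is a Sylow 2-subgroup of G (its index in G is odd). -/
theorem result {G : Type*} [Group G] [Finite G] (s : Matrix.SpecialLinearGroup (Fin 5) (ZMod 2)) (hs : (s : Matrix (Fin 5) (Fin 5) (ZMod 2)) = Matrix.transvection 0 1 1) (z : G) (hz : orderOf z = 2) (e : (Subgroup.centralizer ({z} : Set G)) ≃* Subgroup.centralizer ({s} : Set (Matrix.SpecialLinearGroup (Fin 5) (ZMod 2)))) (T : Sylow 2 (Subgroup.centralizer ({z} : Set G))) : ¬ 2 ∣ ((T : Subgroup (Subgroup.centralizer ({z} : Set G))).map (Subgroup.subtype (Subgroup.centralizer ({z} : Set G)))).index := by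
  have hs0 : s = z0 3 := Subtype.ext (by rw [hs]; exact (z0_coe (n := 3)).symm)
  subst hs0
  have : Fact (Nat.Prime 2) := ⟨Nat.prime_two⟩
  have hz1 : z ≠ 1 := by
    intro h
    rw [h, orderOf_one] at hz
    omega
  have hzC : z ∈ Subgroup.centralizer ({z} : Set G) := by
    rw [Subgroup.mem_centralizer_iff]
    intro y hy
    rw [Set.mem_singleton_iff] at hy
    subst hy
    rfl
  -- elements commuting with the preimage of `Qs`
  have hcent : ∀ y : Subgroup.centralizer ({z} : Set G),
      (∀ w : Subgroup.centralizer ({z} : Set G), ((e w : Cz 3) : SLn2 3) ∈ Qs 3 → w * y = y * w) →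
      e y = 1 ∨ ((e y : Cz 3) : SLn2 3) = z0 3 := by
    intro y hy
    have hmem : ((e y : Cz 3) : SLn2 3) ∈ Subgroup.centralizer (Qs 3 : Set (SLn2 3)) := by
      rw [Subgroup.mem_centralizer_iff]
      intro q hq
      have hqC : q ∈ Cz 3 := Qs_le_Cz hq
      have h1 := hy (e.symm ⟨q, hqC⟩) (by rw [MulEquiv.apply_symm_apply]; exact hq)
      have h2 := congrArg e h1
      rw [map_mul, map_mul, MulEquiv.apply_symm_apply] at h2
      exact congrArg Subtype.val h2
    rw [centralizer_Qs] at hmem
    rcases mem_zpowers_z0 hmem with h | h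
    · left; exact Subtype.ext h
    · right; exact h
  -- the central involution
  set t : Subgroup.centralizer ({z} : Set G) := ⟨z, hzC⟩ with ht
  have htc : ∀ w : Subgroup.centralizer ({z} : Set G), w * t = t * w := by
    intro w
    apply Subtype.ext
    have := w.2
    rw [Subgroup.mem_centralizer_iff] at this
    exact (this z (Set.mem_singleton z)).symm
  have het : ((e t : Cz 3) : SLn2 3) = z0 3 := by
    rcases hcent t (fun w _ => htc w) with h | h
    · exfalso
      apply hz1
      have : t = 1 := by
        apply e.injective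
        rw [h, map_one]
      exact congrArg Subtype.val this
    · exact h
  -- the preimage of Qs
  let Q0 : Subgroup (Cz 3) := (Qs 3).subgroupOf (Cz 3)
  have hQ0n : Q0.Normal := by
    constructor
    intro q hq g
    rw [Subgroup.mem_subgroupOf] at hq ⊢
    exact Qs_conj_mem g.2 hq
  have hQ0p : IsPGroup 2 Q0 := (Qs_isPGroup (n := 3)).comap_subtype
  let Q' : Subgroup (Subgroup.centralizer ({z} : Set G)) := Q0.comap e.toMonoidHom
  have hQ'n : Q'.Normal := hQ0n.comap _
  have hQ'p : IsPGroup 2 Q' := hQ0p.comap_of_injective _ e.injective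
  have hQ'T : Q' ≤ T := hQ'p.le_sylow_of_normal T
  have memQ' : ∀ w : Subgroup.centralizer ({z} : Set G), w ∈ Q' ↔ ((e w : Cz 3) : SLn2 3) ∈ Qs 3 := by
    intro w
    rfl
  apply sylow_of_center_small z hz1 T
  · refine ⟨t, hQ'T ?_, rfl⟩
    rw [memQ', het]
    exact z0_mem_Qs
  · intro y hyT hyc
    rcases hcent y (fun w hw => hyc w (hQ'T ((memQ' w).mpr hw))) with h | h
    · left
      apply e.injective
      rw [h, map_one]
    · right
      have : y = t := by
        apply e.injective
        apply Subtype.ext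
        rw [h, het]
      rw [this]

end Cfsg.Agent.S1717
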