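import Cfsg.Statements.S1755
import Cfsg.Agent.Lib.Helper12.Symplectic

set_option autoImplicit false
open Cfsg

namespace Cfsg.Agent.S1755

open Cfsg.Agent.Lib.Helper12

theorem mem_image {G : Type*} [Group G] (z : G)
    (B : Subgroup ↥(Cfsg.generalizedFittingSubgroup ↥(Subgroup.centralizer ({z} : Set G)))) (x : G) :
    x ∈ (B.map (Cfsg.generalizedFittingSubgroup ↥(Subgroup.centralizer ({z} : Set G))).subtype).map
      (Subgroup.centralizer ({z} : Set G)).subtype ↔
    ∃ b : ↥(Cfsg.generalizedFittingSubgroup ↥(Subgroup.centralizer ({z} : Set G))), b ∈ B ∧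
      ((b : ↥(Subgroup.centralizer ({z} : Set G))) : G) = x := by
  constructor
  · rintro ⟨c, ⟨b, hb, rfl⟩, rfl⟩
    exact ⟨b, hb, rfl⟩
  · rintro ⟨b, hb, rfl⟩
    exact ⟨_, ⟨b, hb, rfl⟩, rfl⟩

theorem pow_half_order {G : Type*} [Group G] [Finite G] (z : G) (hz : orderOf z = 2)
    (hQ : Cfsg.IsOfSymplecticType ↥(Cfsg.generalizedFittingSubgroup ↥(Subgroup.centralizer ({z} : Set G))))
    (B : Subgroup ↥(Cfsg.generalizedFittingSubgroup ↥(Subgroup.centralizer ({z} : Set G))))
    (hBc : B.Characteristic) (hBa : IsMulCommutative ↥B) (x : G)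
    (hx : x ∈ (B.map (Cfsg.generalizedFittingSubgroup ↥(Subgroup.centralizer ({z} : Set G))).subtype).map
      (Subgroup.centralizer ({z} : Set G)).subtype) (hx1 : x ≠ 1) :
    x ^ (orderOf x / 2) = z := by
  obtain ⟨b, hb, rfl⟩ := (mem_image z B x).mp hx
  have hb1 : b ≠ 1 := by
    rintro rfl
    exact hx1 rfl
  have hord : orderOf ((b : ↥(Subgroup.centralizer ({z} : Set G))) : G) = orderOf b := by
    rw [Subgroup.orderOf_coe, Subgroup.orderOf_coe]
  obtain ⟨m, hm⟩ := (IsPGroup.iff_orderOf.mp hQ.1) b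
  have hm0 : m ≠ 0 := by
    rintro rfl
    rw [pow_zero, orderOf_eq_one_iff] at hm
    exact hb1 hm
  obtain ⟨m', rfl⟩ := Nat.exists_eq_succ_of_ne_zero hm0
  have hhalf : orderOf b / 2 = 2 ^ m' := by
    rw [hm, pow_succ, Nat.mul_div_cancel _ (by norm_num : 0 < 2)]
  have hu2 : (b ^ 2 ^ m') ^ 2 = 1 := by
    rw [← pow_mul, ← pow_succ, ← hm, pow_orderOf_eq_one]
  have hu1 : b ^ 2 ^ m' ≠ 1 := by
    intro h
    have := orderOf_dvd_of_pow_eq_one h
    rw [hm, pow_succ] at this
    have h2 : 2 ^ m' * 2 ≤ 2 ^ m' := Nat.le_of_dvd (by positivity) this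
    have : 0 < 2 ^ m' := by positivity
    omega
  have hu := involution_of_char_abelian_eq_zQ z hz hQ B hBc hBa (B.pow_mem hb _) hu2 hu1
  rw [hord, hhalf]
  have := congrArg (fun q : ↥(Cfsg.generalizedFittingSubgroup ↥(Subgroup.centralizer ({z} : Set G))) =>
    ((q : ↥(Subgroup.centralizer ({z} : Set G))) : G)) hu
  simpa [zQ_coe] using this

theorem conj_le {G : Type*} [Group G] (z : G)
    (B : Subgroup ↥(Cfsg.generalizedFittingSubgroup ↥(Subgroup.centralizer ({z} : Set G))))
    (hBc : B.Characteristic) (c : ↥(Subgroup.centralizer ({z} : Set G))) :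
    ((B.map (Cfsg.generalizedFittingSubgroup ↥(Subgroup.centralizer ({z} : Set G))).subtype).map
      (Subgroup.centralizer ({z} : Set G)).subtype).map (MulAut.conj (c : G)).toMonoidHom ≤
    (B.map (Cfsg.generalizedFittingSubgroup ↥(Subgroup.centralizer ({z} : Set G))).subtype).map
      (Subgroup.centralizer ({z} : Set G)).subtype := by
  have hQn := generalizedFittingSubgroup_normal ↥(Subgroup.centralizer ({z} : Set G))
  rintro _ ⟨x, hx, rfl⟩
  obtain ⟨b, hb, rfl⟩ := (mem_image z B x).mp hx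
  rw [mem_image]
  refine ⟨MulAut.conjNormal c b, ?_, ?_⟩
  · have h := (Subgroup.characteristic_iff_map_le.mp hBc) (MulAut.conjNormal c)
    exact h ⟨b, hb, rfl⟩
  · rw [MulAut.conjNormal_apply]
    simp

theorem result {G : Type*} [Group G] [Finite G] (z : G) (hz : orderOf z = 2) (hQ : Cfsg.IsOfSymplecticType ↥(Cfsg.generalizedFittingSubgroup ↥(Subgroup.centralizer ({z} : Set G))))
    (B : Subgroup ↥(Cfsg.generalizedFittingSubgroup ↥(Subgroup.centralizer ({z} : Set G)))) (hBc : B.Characteristic) (hBa : IsMulCommutative ↥B) (g : G) :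
    ((B.map (Cfsg.generalizedFittingSubgroup ↥(Subgroup.centralizer ({z} : Set G))).subtype).map (Subgroup.centralizer ({z} : Set G)).subtype).map (MulAut.conj g).toMonoidHom =
        (B.map (Cfsg.generalizedFittingSubgroup ↥(Subgroup.centralizer ({z} : Set G))).subtype).map (Subgroup.centralizer ({z} : Set G)).subtype ∨
      ((B.map (Cfsg.generalizedFittingSubgroup ↥(Subgroup.centralizer ({z} : Set G))).subtype).map (Subgroup.centralizer ({z} : Set G)).subtype).map (MulAut.conj g).toMonoidHom ⊓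
        (B.map (Cfsg.generalizedFittingSubgroup ↥(Subgroup.centralizer ({z} : Set G))).subtype).map (Subgroup.centralizer ({z} : Set G)).subtype = ⊥ := by
  set B' := (B.map (Cfsg.generalizedFittingSubgroup ↥(Subgroup.centralizer ({z} : Set G))).subtype).map (Subgroup.centralizer ({z} : Set G)).subtype with hB'
  by_cases h : B'.map (MulAut.conj g).toMonoidHom ⊓ B' = ⊥
  · right; exact h
  · left
    obtain ⟨⟨x, hxg, hxB⟩, hx1⟩ := (Subgroup.ne_bot_iff_exists_ne_one).mp h
    have hx1' : x ≠ 1 := fun h => hx1 (Subtype.ext h)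
    obtain ⟨y, hy, hyx⟩ := hxg
    simp only [MulEquiv.coe_toMonoidHom, MulAut.conj_apply] at hyx
    have hy1 : y ≠ 1 := by
      rintro rfl
      apply hx1'
      rw [← hyx]; simp
    have hordxy : orderOf x = orderOf y := by
      rw [← hyx]
      have := orderOf_injective (MulAut.conj g).toMonoidHom (MulAut.conj g).injective y
      simpa using this
    have h1 := pow_half_order z hz hQ B hBc hBa x hxB hx1'
    have h2 := pow_half_order z hz hQ B hBc hBa y hy hy1
    have hgz : g * z * g⁻¹ = z := by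
      have h3 : g * z * g⁻¹ = x ^ (orderOf x / 2) := by
        rw [hordxy, ← hyx, conj_pow, h2]
      rw [h3, h1]
    have hgC : g ∈ Subgroup.centralizer ({z} : Set G) := by
      rw [Subgroup.mem_centralizer_singleton_iff]
      calc g * z = g * z * g⁻¹ * g := by group
        _ = z * g := by rw [hgz]
    apply le_antisymm
    · exact conj_le z B hBc ⟨g, hgC⟩
    · have h3 := conj_le z B hBc (⟨g, hgC⟩⁻¹ : ↥(Subgroup.centralizer ({z} : Set G)))
      rw [← hB'] at h3
      intro w hw
      have hw' : g⁻¹ * w * g ∈ B' := by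
        apply h3
        refine ⟨w, hw, ?_⟩
        simp
      refine ⟨g⁻¹ * w * g, hw', ?_⟩
      simp only [MulEquiv.coe_toMonoidHom, MulAut.conj_apply]
      group

end Cfsg.Agent.S1755
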