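import Cfsg.Statements.S5395

set_option autoImplicit false
open Cfsg

namespace Cfsg.Agent.S5395

open scoped IsMulCommutative

variable {E : Type*} [Group E]

theorem comm_mem_center (hc : commutator E = Subgroup.center E) (g x : E) :
    g * x * g⁻¹ * x⁻¹ ∈ Subgroup.center E := by
  rw [← hc, commutator_def]
  have := Subgroup.commutator_mem_commutator (Subgroup.mem_top g) (Subgroup.mem_top x)
  rwa [commutatorElement_def] at this

theorem center_comm {z : E} (hz : z ∈ Subgroup.center E) (a : E) : z * a = a * z :=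
  (Subgroup.mem_center_iff.mp hz a).symm

def muHom (hc : commutator E = Subgroup.center E) (g : E) : E →* Subgroup.center E where
  toFun x := ⟨g * x * g⁻¹ * x⁻¹, comm_mem_center hc g x⟩
  map_one' := by
    apply Subtype.ext
    show g * 1 * g⁻¹ * 1⁻¹ = 1
    group
  map_mul' x y := by
    apply Subtype.ext
    show g * (x * y) * g⁻¹ * (x * y)⁻¹ = (g * x * g⁻¹ * x⁻¹) * (g * y * g⁻¹ * y⁻¹)
    have h := center_comm (comm_mem_center hc g y) x⁻¹
    calc g * (x * y) * g⁻¹ * (x * y)⁻¹ = g * x * g⁻¹ * ((g * y * g⁻¹ * y⁻¹) * x⁻¹) := by group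
      _ = g * x * g⁻¹ * (x⁻¹ * (g * y * g⁻¹ * y⁻¹)) := by rw [h]
      _ = (g * x * g⁻¹ * x⁻¹) * (g * y * g⁻¹ * y⁻¹) := by group

def muHomHom (hc : commutator E = Subgroup.center E) : E →* (E →* Subgroup.center E) where
  toFun g := muHom hc g
  map_one' := by
    ext x
    show (1 : E) * x * 1⁻¹ * x⁻¹ = 1
    group
  map_mul' g h := by
    ext x
    show g * h * x * (g * h)⁻¹ * x⁻¹ = (g * x * g⁻¹ * x⁻¹) * (h * x * h⁻¹ * x⁻¹)
    have h1 := center_comm (comm_mem_center hc h x) (x * g⁻¹ * x⁻¹)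
    calc g * h * x * (g * h)⁻¹ * x⁻¹ = g * ((h * x * h⁻¹ * x⁻¹) * (x * g⁻¹ * x⁻¹)) := by group
      _ = g * ((x * g⁻¹ * x⁻¹) * (h * x * h⁻¹ * x⁻¹)) := by rw [h1]
      _ = (g * x * g⁻¹ * x⁻¹) * (h * x * h⁻¹ * x⁻¹) := by group

theorem muHomHom_ker (hc : commutator E = Subgroup.center E) :
    (muHomHom hc).ker = Subgroup.center E := by
  ext g
  rw [MonoidHom.mem_ker, Subgroup.mem_center_iff]
  constructor
  · intro h x
    have h1 := congrArg (fun f : E →* Subgroup.center E => ((f x : Subgroup.center E) : E)) h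
    have h2 : g * x * g⁻¹ * x⁻¹ = 1 := h1
    calc x * g = (g * x * g⁻¹ * x⁻¹)⁻¹ * (g * x) := by group
      _ = g * x := by rw [h2]; group
  · intro h
    ext x
    show g * x * g⁻¹ * x⁻¹ = 1
    rw [← h x]
    group

def lamHom (φ : E ≃* E) (hφ : ∀ x : E, φ x * x⁻¹ ∈ Subgroup.center E) : E →* Subgroup.center E where
  toFun x := ⟨φ x * x⁻¹, hφ x⟩
  map_one' := by
    apply Subtype.ext
    show φ 1 * 1⁻¹ = 1
    rw [map_one]; group
  map_mul' x y := by
    apply Subtype.ext
    show φ (x * y) * (x * y)⁻¹ = (φ x * x⁻¹) * (φ y * y⁻¹)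
    have h := center_comm (hφ y) x⁻¹
    rw [map_mul]
    calc φ x * φ y * (x * y)⁻¹ = φ x * ((φ y * y⁻¹) * x⁻¹) := by group
      _ = φ x * (x⁻¹ * (φ y * y⁻¹)) := by rw [h]
      _ = (φ x * x⁻¹) * (φ y * y⁻¹) := by group

theorem exists_inj_hom (Z : Type*) [CommGroup Z] [Finite Z] (hZ : Nat.card Z = 2) :
    ∃ ι : Z →* ℂˣ, Function.Injective ι := by
  have : Fact (Nat.Prime 2) := ⟨Nat.prime_two⟩
  have : IsSimpleGroup Z := isSimpleGroup_of_prime_card hZ
  have : NeZero (Monoid.exponent Z) := ⟨Monoid.exponent_ne_zero_of_finite⟩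
  have : Nontrivial Z := Finite.one_lt_card_iff_nontrivial.mp (by omega)
  obtain ⟨z, hz⟩ := exists_ne (1 : Z)
  obtain ⟨ι, hι⟩ := CommGroup.exists_apply_ne_one_of_hasEnoughRootsOfUnity Z ℂ hz
  refine ⟨ι, ?_⟩
  rw [← MonoidHom.ker_eq_bot_iff]
  rcases IsSimpleGroup.eq_bot_or_eq_top_of_normal ι.ker inferInstance with h | h
  · exact h
  · exfalso
    apply hι
    have : z ∈ ι.ker := by rw [h]; exact Subgroup.mem_top z
    exact this

/-- For a finite extraspecial 2-group E, an automorphism of E that induces the identity on E modulo its centre is inner (so these automorphisms form exactly the inner automorphism group, an elementary abelian 2-group of order |E|/2). -/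
theorem result {E : Type*} [Group E] [Finite E] (hE : Cfsg.IsExtraspecial 2 E) (φ : E ≃* E) (hφ : ∀ x : E, φ x * x⁻¹ ∈ Subgroup.center E) : ∃ g : E, ∀ x : E, φ x = g * x * g⁻¹ := by
  obtain ⟨⟨-, -, hc⟩, hZ⟩ := hE
  have : Finite (E →* Subgroup.center E) :=
    Finite.of_injective (fun f => (f : E → Subgroup.center E)) DFunLike.coe_injective
  have hcardE : Nat.card E = Nat.card (Abelianization E) * 2 := by
    have h1 := Subgroup.card_eq_card_quotient_mul_card_subgroup (commutator E)
    have h2 : Nat.card (commutator E) = 2 := by rw [hc]; exact hZ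
    rw [h2] at h1
    exact h1
  have hrange : 2 * Nat.card (muHomHom hc).range = Nat.card E := by
    have := Subgroup.card_mul_index (muHomHom hc).ker
    rw [Subgroup.index_ker, muHomHom_ker, hZ] at this
    exact this
  obtain ⟨ι, hι⟩ := exists_inj_hom (Subgroup.center E) hZ
  have hle : Nat.card (E →* Subgroup.center E) ≤ Nat.card (Abelianization E) := by
    have : NeZero (Monoid.exponent (Abelianization E)) := ⟨Monoid.exponent_ne_zero_of_finite⟩
    rw [← CommGroup.card_monoidHom_of_hasEnoughRootsOfUnity (Abelianization E) ℂ]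
    apply Nat.card_le_card_of_injective (fun f : E →* Subgroup.center E => Abelianization.lift (ι.comp f))
    intro f f' hff
    have h1 : ι.comp f = ι.comp f' := Abelianization.lift.injective hff
    ext x
    have h2 := congrArg (fun k : E →* ℂˣ => k x) h1
    exact congrArg Subtype.val (hι h2)
  have htop : (muHomHom hc).range = ⊤ := by
    apply Subgroup.eq_top_of_le_card
    omega
  have hmem : lamHom φ hφ ∈ (muHomHom hc).range := by rw [htop]; exact Subgroup.mem_top _
  obtain ⟨g, hg⟩ := hmem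
  refine ⟨g, fun x => ?_⟩
  have h1 := congrArg (fun f : E →* Subgroup.center E => ((f x : Subgroup.center E) : E)) hg
  have h2 : g * x * g⁻¹ * x⁻¹ = φ x * x⁻¹ := h1
  exact (mul_right_cancel h2).symm

end Cfsg.Agent.S5395
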