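import Cfsg.Statements.S1756
import Cfsg.Agent.S5395
import Cfsg.Agent.Lib.Helper1.Extraspecial

set_option autoImplicit false
open Cfsg

namespace Cfsg.Agent.S1756

/-- An automorphism of order at most 2 of an extraspecial 2-group whose fixed points have index at
most 2 acts trivially modulo the centre. -/
theorem key {E : Type*} [Group E] [Finite E] (hE : Cfsg.IsExtraspecial 2 E) (φ : E ≃* E)
    (hφ2 : ∀ x, φ (φ x) = x) (C : Subgroup E) (hC : ∀ x, x ∈ C ↔ φ x = x) (hidx : C.index ≤ 2) :
    ∀ x : E, φ x * x⁻¹ ∈ Subgroup.center E := by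
  have hp2 : Fact (Nat.Prime 2) := ⟨Nat.prime_two⟩
  obtain ⟨hs, hcardZ⟩ := hE
  have hcomm : ∀ g x : E, g * x * g⁻¹ * x⁻¹ ∈ Subgroup.center E :=
    Cfsg.Agent.S5395.comm_mem_center hs.2.2
  have hsq : ∀ x : E, x ^ 2 ∈ Subgroup.center E :=
    Cfsg.Agent.Lib.Helper1.special_pow_mem_center hs
  -- the centre has exactly two elements
  have hZ2 : ∀ a b : E, a ∈ Subgroup.center E → b ∈ Subgroup.center E → a ≠ 1 → b ≠ 1 → a = b := by
    intro a b ha hb ha1 hb1
    by_contra hab
    have hfin : Finite (Subgroup.center E) := inferInstance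
    have h3 : 3 ≤ Nat.card (Subgroup.center E) := by
      classical
      let _ : Fintype (Subgroup.center E) := Fintype.ofFinite _
      rw [Nat.card_eq_fintype_card]
      have hsub : ({1, ⟨a, ha⟩, ⟨b, hb⟩} : Finset (Subgroup.center E)) ⊆ Finset.univ :=
        Finset.subset_univ _
      have hc : ({1, ⟨a, ha⟩, ⟨b, hb⟩} : Finset (Subgroup.center E)).card = 3 := by
        rw [Finset.card_insert_of_notMem, Finset.card_insert_of_notMem, Finset.card_singleton]
        · rw [Finset.mem_singleton]
          intro h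
          exact hab (congrArg Subtype.val h)
        · rw [Finset.mem_insert, Finset.mem_singleton]
          rintro (h | h)
          · exact ha1 (congrArg Subtype.val h).symm
          · exact hb1 (congrArg Subtype.val h).symm
      have := Finset.card_le_card hsub
      rw [hc, Finset.card_univ] at this
      exact this
    omega
  by_cases htop : C = ⊤
  · intro x
    have hx : x ∈ C := by rw [htop]; trivial
    rw [(hC x).mp hx, mul_inv_cancel]
    exact Subgroup.one_mem _
  have hidx2 : C.index = 2 := by
    have h1 : C.index ≠ 1 := fun h => htop (Subgroup.index_eq_one.mp h)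
    have h0 : C.index ≠ 0 := Subgroup.index_ne_zero_of_finite
    omega
  have hCn : C.Normal := Subgroup.normal_of_index_eq_two hidx2
  -- the centre is fixed pointwise
  have hφZ : ∀ z ∈ Subgroup.center E, φ z = z := by
    intro z hz
    by_cases hz1 : z = 1
    · rw [hz1, map_one]
    · have hφz : φ z ∈ Subgroup.center E := by
        rw [Subgroup.mem_center_iff] at hz ⊢
        intro g
        have := congrArg φ (hz (φ.symm g))
        rw [map_mul, map_mul, MulEquiv.apply_symm_apply] at this
        exact this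
      have hφz1 : φ z ≠ 1 := by
        intro h
        apply hz1
        have := congrArg φ.symm h
        rwa [MulEquiv.symm_apply_apply, map_one] at this
      exact hZ2 _ _ hφz hz hφz1 hz1
  have hZC : ∀ z ∈ Subgroup.center E, z ∈ C := fun z hz => (hC z).mpr (hφZ z hz)
  -- reduction to elements outside C
  have main : ∀ q : E, q ∉ C → q⁻¹ * φ q ∈ Subgroup.center E := by
    intro q hq
    set w := q⁻¹ * φ q with hw
    -- w centralises C
    have hwC : ∀ c ∈ C, w * c = c * w := by
      intro c hc
      have h1 : q * c * q⁻¹ ∈ C := hCn.conj_mem c hc q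
      have h2 := (hC _).mp h1
      rw [map_mul, map_mul, (hC c).mp hc, map_inv] at h2
      -- φ q * c * (φ q)⁻¹ = q * c * q⁻¹
      have h3 : φ q * c = q * c * q⁻¹ * φ q := by
        rw [← h2]; group
      calc w * c = q⁻¹ * (φ q * c) := by rw [hw]; group
        _ = q⁻¹ * (q * c * q⁻¹ * φ q) := by rw [h3]
        _ = c * w := by rw [hw]; group
    -- φ w = w⁻¹
    have hφw : φ w = w⁻¹ := by
      rw [hw, map_mul, map_inv, hφ2]
      group
    -- every element is in C or in q C
    have hcoset : ∀ b : E, b ∉ C → q⁻¹ * b ∈ C := by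
      intro b hb
      rw [Subgroup.mul_mem_iff_of_index_two hidx2, inv_mem_iff]
      exact ⟨fun h => absurd h hq, fun h => absurd h hb⟩
    have hcentral : ∀ y : E, y ∉ C → w * y = y * w → (∀ b, b ∉ C → y⁻¹ * b ∈ C) →
        w ∈ Subgroup.center E := by
      intro y _ hwy hy
      rw [Subgroup.mem_center_iff]
      intro b
      by_cases hb : b ∈ C
      · exact (hwC b hb).symm
      · have hc := hy b hb
        have e : b = y * (y⁻¹ * b) := by group
        rw [e]
        calc y * (y⁻¹ * b) * w = y * ((y⁻¹ * b) * w) := by group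
          _ = y * (w * (y⁻¹ * b)) := by rw [hwC _ hc]
          _ = (y * w) * (y⁻¹ * b) := by group
          _ = (w * y) * (y⁻¹ * b) := by rw [hwy]
          _ = w * (y * (y⁻¹ * b)) := by group
    by_cases hwmem : w ∈ C
    · -- w is an involution or trivial
      have hww : w = w⁻¹ := by rw [← hφw]; exact ((hC w).mp hwmem).symm
      have hw2 : w * w = 1 := by
        nth_rewrite 2 [hww]
        exact mul_inv_cancel w
      -- the commutator of q and w
      have hz := hcomm q w
      set z := q * w * q⁻¹ * w⁻¹ with hzdef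
      have hqw : q * w = z * w * q := by rw [hzdef]; group
      have hzc : ∀ a : E, z * a = a * z := fun a => Cfsg.Agent.S5395.center_comm hz a
      have hq2 := hsq q
      have hq2c : ∀ a : E, q ^ 2 * a = a * q ^ 2 := fun a => Cfsg.Agent.S5395.center_comm hq2 a
      have hφq : φ q = q * w := by rw [hw]; group
      have e1 : φ q * φ q = q ^ 2 := by
        rw [← map_mul, ← pow_two, hφZ _ hq2]
      have e2 : (q * w) * (q * w) = z * q ^ 2 := by
        calc (q * w) * (q * w) = (z * w * q) * (q * w) := by rw [← hqw]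
          _ = z * (w * (q ^ 2 * w)) := by rw [pow_two]; group
          _ = z * (w * (w * q ^ 2)) := by rw [hq2c w]
          _ = z * ((w * w) * q ^ 2) := by group
          _ = z * q ^ 2 := by rw [hw2, one_mul]
      rw [hφq, e2] at e1
      have hz1 : z = 1 := by
        have := mul_right_cancel (b := q ^ 2) (a := z) (c := 1) (by rw [one_mul]; exact e1)
        exact this
      have hwq : w * q = q * w := by
        rw [hqw, hz1, one_mul]
      exact hcentral q hq hwq hcoset
    · exfalso
      have hcoset' : ∀ b : E, b ∉ C → w⁻¹ * b ∈ C := by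
        intro b hb
        rw [Subgroup.mul_mem_iff_of_index_two hidx2, inv_mem_iff]
        exact ⟨fun h => absurd h hwmem, fun h => absurd h hb⟩
      exact hwmem (hZC w (hcentral w hwmem rfl hcoset'))
  intro x
  by_cases hx : x ∈ C
  · rw [(hC x).mp hx, mul_inv_cancel]
    exact Subgroup.one_mem _
  · have hw := main x hx
    have e : φ x * x⁻¹ = x * (x⁻¹ * φ x) * x⁻¹ := by group
    rw [e, ← Cfsg.Agent.S5395.center_comm hw x, mul_assoc, mul_inv_cancel, mul_one]
    exact hw

/-- Let Q be an extraspecial 2-subgroup of the finite group G (special with centre of order 2) and t an involution of G normalizing Q such that the centralizer of t in Q has index at most 2 in Q. Then t lies in the product of Q with the centralizer of Q. -/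
theorem result {G : Type*} [Group G] [Finite G] (Q : Subgroup G)
    (hQ : Cfsg.IsExtraspecial 2 ↥Q) (t : G) (ht : orderOf t = 2) (htN : t ∈ Subgroup.normalizer (Q : Set G))
    (hi : (Subgroup.centralizer ({t} : Set G) ⊓ Q).relIndex Q ≤ 2) :
    t ∈ Q ⊔ Subgroup.centralizer (Q : Set G) := by
  have ht2 : t * t = 1 := by
    rw [← pow_two, ← ht]; exact pow_orderOf_eq_one t
  have htinv : t⁻¹ = t := inv_eq_of_mul_eq_one_left ht2
  have hN : ∀ x : G, x ∈ Q ↔ t * x * t⁻¹ ∈ Q := fun x => Subgroup.mem_normalizer_iff.mp htN x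
  -- conjugation by t as an automorphism of Q
  let φ : ↥Q ≃* ↥Q :=
    { toFun := fun x => ⟨t * x.1 * t⁻¹, (hN x.1).mp x.2⟩
      invFun := fun x => ⟨t⁻¹ * x.1 * t, by
        have := (hN (t⁻¹ * x.1 * t)).mpr (by
          have e : t * (t⁻¹ * x.1 * t) * t⁻¹ = x.1 := by group
          rw [e]; exact x.2)
        exact this⟩
      left_inv := fun x => Subtype.ext (by show t⁻¹ * (t * x.1 * t⁻¹) * t = x.1; group)
      right_inv := fun x => Subtype.ext (by show t * (t⁻¹ * x.1 * t) * t⁻¹ = x.1; group)
      map_mul' := fun x y => Subtype.ext (by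
        show t * (x.1 * y.1) * t⁻¹ = (t * x.1 * t⁻¹) * (t * y.1 * t⁻¹); group) }
  have hφ : ∀ x : ↥Q, ((φ x : ↥Q) : G) = t * x.1 * t⁻¹ := fun x => rfl
  have hφ2 : ∀ x, φ (φ x) = x := by
    intro x
    apply Subtype.ext
    rw [hφ, hφ, htinv]
    calc t * (t * x.1 * t) * t = (t * t) * x.1 * (t * t) := by group
      _ = x.1 := by rw [ht2, one_mul, mul_one]
  let C : Subgroup ↥Q := (Subgroup.centralizer ({t} : Set G) ⊓ Q).subgroupOf Q
  have hC : ∀ x, x ∈ C ↔ φ x = x := by
    intro x
    show (x.1 ∈ Subgroup.centralizer ({t} : Set G) ⊓ Q) ↔ φ x = x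
    rw [Subgroup.mem_inf, Subgroup.mem_centralizer_singleton_iff]
    constructor
    · rintro ⟨h, _⟩
      apply Subtype.ext
      rw [hφ]
      -- h : x * t = t * x (or reversed)
      calc t * x.1 * t⁻¹ = (x.1 * t) * t⁻¹ := by rw [h]
        _ = x.1 := by group
    · intro h
      refine ⟨?_, x.2⟩
      have h' : t * x.1 * t⁻¹ = x.1 := by rw [← hφ, h]
      calc x.1 * t = (t * x.1 * t⁻¹) * t := by rw [h']
        _ = t * x.1 := by group
  have hkey := key hQ φ hφ2 C hC hi
  obtain ⟨g, hg⟩ := Cfsg.Agent.S5395.result hQ φ hkey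
  -- t = g * (g⁻¹ * t)
  have hcent : g.1⁻¹ * t ∈ Subgroup.centralizer (Q : Set G) := by
    rw [Subgroup.mem_centralizer_iff]
    intro x hx
    have h1 := congrArg Subtype.val (hg ⟨x, hx⟩)
    rw [hφ] at h1
    have h2 : t * x * t⁻¹ = g.1 * x * g.1⁻¹ := h1
    calc x * (g.1⁻¹ * t) = g.1⁻¹ * (g.1 * x * g.1⁻¹) * t := by group
      _ = g.1⁻¹ * (t * x * t⁻¹) * t := by rw [h2]
      _ = g.1⁻¹ * t * x := by group
  have e : t = g.1 * (g.1⁻¹ * t) := by group
  rw [e]
  exact Subgroup.mul_mem_sup g.2 hcent

end Cfsg.Agent.S1756
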