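import Cfsg.Statements.S1757

set_option autoImplicit false
open Cfsg

namespace Cfsg.Agent.S1757

theorem result {G : Type*} [Group G] [Finite G] (p : ℕ) [Fact p.Prime] (A B : Subgroup G)
    (hA : IsPGroup p ↥A) (hB : IsPGroup p ↥B)
    (hAti : ∀ g : G, A.map (MulAut.conj g).toMonoidHom = A ∨ A.map (MulAut.conj g).toMonoidHom ⊓ A = ⊥)
    (hBti : ∀ g : G, B.map (MulAut.conj g).toMonoidHom = B ∨ B.map (MulAut.conj g).toMonoidHom ⊓ B = ⊥)
    (hle : Nat.card ↥A ≤ Nat.card ↥B) (hAB : A ⊓ B = ⊥) (hN : B ≤ Subgroup.normalizer (A : Set G)) : ⁅A, B⁆ = ⊥ := by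
  have hBA : ∀ b ∈ B, ∀ a ∈ A, b * a * b⁻¹ ∈ A := by
    intro b hb a ha
    exact (Subgroup.mem_normalizer_iff.mp (hN hb) a).mp ha
  by_cases hall : ∀ a ∈ A, B.map (MulAut.conj a).toMonoidHom = B
  · rw [eq_bot_iff, ← hAB]
    apply le_inf
    · rw [Subgroup.commutator_le]
      intro a ha b hb
      rw [commutatorElement_def]
      have h1 : b * a⁻¹ * b⁻¹ ∈ A := hBA b hb a⁻¹ (A.inv_mem ha)
      have : a * b * a⁻¹ * b⁻¹ = a * (b * a⁻¹ * b⁻¹) := by group
      rw [this]
      exact A.mul_mem ha h1
    · rw [Subgroup.commutator_le]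
      intro a ha b hb
      rw [commutatorElement_def]
      have h1 : a * b * a⁻¹ ∈ B := by
        have h2 : a * b * a⁻¹ ∈ B.map (MulAut.conj a).toMonoidHom := ⟨b, hb, by simp⟩
        rwa [hall a ha] at h2
      exact B.mul_mem h1 (B.inv_mem hb)
  · exfalso
    rw [not_forall] at hall
    obtain ⟨a, hall⟩ := hall
    rw [Classical.not_imp] at hall
    obtain ⟨ha, hne⟩ := hall
    have hti : B.map (MulAut.conj a).toMonoidHom ⊓ B = ⊥ := (hBti a).resolve_left hne
    have ha1 : a ≠ 1 := by
      rintro rfl
      apply hne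
      ext x
      simp
    let f : Option B → A := fun o =>
      match o with
      | none => 1
      | some b => ⟨(b : G) * a * (b : G)⁻¹, hBA b b.2 a ha⟩
    have hf : Function.Injective f := by
      intro o o' h
      match o, o' with
      | none, none => rfl
      | none, some b =>
        exfalso
        have h' := congrArg Subtype.val h
        simp only [f, Subgroup.coe_one] at h'
        apply ha1
        have : a = (b : G)⁻¹ * ((b : G) * a * (b : G)⁻¹) * (b : G) := by group
        rw [this, ← h']
        group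
      | some b, none =>
        exfalso
        have h' := congrArg Subtype.val h
        simp only [f, Subgroup.coe_one] at h'
        apply ha1
        have : a = (b : G)⁻¹ * ((b : G) * a * (b : G)⁻¹) * (b : G) := by group
        rw [this, h']
        group
      | some b, some b' =>
        have h' := congrArg Subtype.val h
        simp only [f] at h'
        have hc : ((b' : G)⁻¹ * (b : G)) * a = a * ((b' : G)⁻¹ * (b : G)) := by
          have : (b' : G)⁻¹ * ((b : G) * a * (b : G)⁻¹) * (b : G) = (b' : G)⁻¹ * ((b' : G) * a * (b' : G)⁻¹) * (b : G) := by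
            rw [h']
          calc ((b' : G)⁻¹ * (b : G)) * a = (b' : G)⁻¹ * ((b : G) * a * (b : G)⁻¹) * (b : G) := by group
            _ = (b' : G)⁻¹ * ((b' : G) * a * (b' : G)⁻¹) * (b : G) := this
            _ = a * ((b' : G)⁻¹ * (b : G)) := by group
        have hcB : (b' : G)⁻¹ * (b : G) ∈ B := B.mul_mem (B.inv_mem b'.2) b.2
        have hcB' : (b' : G)⁻¹ * (b : G) ∈ B.map (MulAut.conj a).toMonoidHom := by
          refine ⟨(b' : G)⁻¹ * (b : G), hcB, ?_⟩
          simp only [MulEquiv.coe_toMonoidHom, MulAut.conj_apply]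
          rw [← hc]
          group
        have h1 : (b' : G)⁻¹ * (b : G) ∈ B.map (MulAut.conj a).toMonoidHom ⊓ B := ⟨hcB', hcB⟩
        rw [hti, Subgroup.mem_bot] at h1
        have : (b : G) = (b' : G) := by
          have := congrArg (fun x => (b' : G) * x) h1
          simpa using this
        exact congrArg some (Subtype.ext this)
    have hcard := Nat.card_le_card_of_injective f hf
    rw [Finite.card_option] at hcard
    omega

end Cfsg.Agent.S1757
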