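import Cfsg.Statements.S1775
import Cfsg.Agent.Lib.Helper10.PCompMap2

set_option autoImplicit false
open Cfsg

namespace Cfsg.Agent.S1775

/-- Let G be a finite group whose generalized Fitting subgroup is a non-abelian simple group and in which every proper section (every quotient H/N of a proper subgroup H, or of G by a nontrivial normal subgroup) has the B-property. Let x, y be commuting involutions, let D be the intersection of the 2-layer of C_G(x) with C_G(y), and let J be a 2-component of D. Write Q for the quotient of C_G(y) by its largest normal odd-order subgroup. Then (i) the image of J in Q is a component of the centralizer in Q of the image of x; and (ii) for every J-invariant subgroup E of odd order of C_G(x) ∩ C_G(y), the commutator subgroup [J, E] lies in the largest normal odd-order subgroup of C_G(y). -/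
theorem result {G : Type*} [Group G] [Finite G]
    (hF : IsSimpleGroup ↥(Cfsg.generalizedFittingSubgroup G)) (hF' : ¬ IsMulCommutative ↥(Cfsg.generalizedFittingSubgroup G))
    (hsec : ∀ (H : Subgroup G) (N : Subgroup ↥H) [N.Normal], (H ≠ ⊤ ∨ N ≠ ⊥) → Cfsg.HasBProperty (↥H ⧸ N))
    (x y : G) (hx : orderOf x = 2) (hy : orderOf y = 2) (hxy : x * y = y * x)
    (J : Subgroup ↥((Cfsg.pLayer 2 ↥(Subgroup.centralizer ({x} : Set G))).map (Subgroup.centralizer ({x} : Set G)).subtype ⊓ Subgroup.centralizer ({y} : Set G)))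
    (hJ : Cfsg.IsPComponent 2 J) :
    Cfsg.IsComponent
        ((((J.map (Subgroup.subtype _)).subgroupOf (Subgroup.centralizer ({y} : Set G))).map (QuotientGroup.mk' (Cfsg.oddCore ↥(Subgroup.centralizer ({y} : Set G))))).subgroupOf
          (Subgroup.centralizer ({(QuotientGroup.mk' (Cfsg.oddCore ↥(Subgroup.centralizer ({y} : Set G))) ⟨x, Subgroup.mem_centralizer_singleton_iff.mpr hxy⟩ : ↥(Subgroup.centralizer ({y} : Set G)) ⧸ Cfsg.oddCore ↥(Subgroup.centralizer ({y} : Set G)))} : Set _))) ∧
      ∀ E : Subgroup G, E ≤ Subgroup.centralizer ({x} : Set G) ⊓ Subgroup.centralizer ({y} : Set G) → Odd (Nat.card ↥E) →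
        (∀ j ∈ J.map (Subgroup.subtype _), ∀ e ∈ E, j * e * j⁻¹ ∈ E) →
          ⁅J.map (Subgroup.subtype _), E⁆ ≤ (Cfsg.oddCore ↥(Subgroup.centralizer ({y} : Set G))).map (Subgroup.centralizer ({y} : Set G)).subtype := by
  have hxCy : x ∈ Subgroup.centralizer ({y} : Set G) :=
    Subgroup.mem_centralizer_singleton_iff.mpr hxy
  -- C(y) is a proper subgroup
  have hprop : Subgroup.centralizer ({y} : Set G) ≠ ⊤ := by
    intro htop
    have hyc : y ∈ Subgroup.center G := by
      rw [Subgroup.mem_center_iff]
      intro g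
      have : g ∈ Subgroup.centralizer ({y} : Set G) := by rw [htop]; trivial
      rw [Subgroup.mem_centralizer_singleton_iff] at this
      exact this
    have h1 : Subgroup.center G ≤ Cfsg.fittingSubgroup G :=
      Cfsg.Agent.Lib.Helper1.le_fittingSubgroup inferInstance
        ⟨1, Subgroup.upperCentralSeries_one_eq_top_iff.2 inferInstance⟩
    have h2 : Cfsg.fittingSubgroup G ≤ Cfsg.generalizedFittingSubgroup G := le_sup_right
    have hyF := h2 (h1 hyc)
    have h3 : (⟨y, hyF⟩ : ↥(Cfsg.generalizedFittingSubgroup G)) ∈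
        Subgroup.center ↥(Cfsg.generalizedFittingSubgroup G) := by
      rw [Subgroup.mem_center_iff]
      intro g
      apply Subtype.ext
      rw [Subgroup.mem_center_iff] at hyc
      exact hyc g
    rcases (inferInstance : (Subgroup.center ↥(Cfsg.generalizedFittingSubgroup G)).Normal).eq_bot_or_eq_top
      with h | h
    · rw [h, Subgroup.mem_bot] at h3
      have : y = 1 := congrArg Subtype.val h3
      rw [this, orderOf_one] at hy
      omega
    · apply hF'
      refine ⟨⟨fun a b => ?_⟩⟩
      have : b ∈ Subgroup.center ↥(Cfsg.generalizedFittingSubgroup G) := by rw [h]; trivial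
      rw [Subgroup.mem_center_iff] at this
      exact this a
  have hBQ := hsec (Subgroup.centralizer ({y} : Set G))
    (Cfsg.oddCore ↥(Subgroup.centralizer ({y} : Set G))) (Or.inl hprop)
  have hDle : (Cfsg.pLayer 2 ↥(Subgroup.centralizer ({x} : Set G))).map
      (Subgroup.centralizer ({x} : Set G)).subtype ⊓ Subgroup.centralizer ({y} : Set G) ≤
      Subgroup.centralizer ({y} : Set G) ⊓ Subgroup.centralizer ({x} : Set G) :=
    le_inf inf_le_right (inf_le_left.trans (Subgroup.map_subtype_le _))
  have hconj : ∀ g ∈ Subgroup.centralizer ({y} : Set G) ⊓ Subgroup.centralizer ({x} : Set G),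
      ∀ d ∈ (Cfsg.pLayer 2 ↥(Subgroup.centralizer ({x} : Set G))).map
        (Subgroup.centralizer ({x} : Set G)).subtype ⊓ Subgroup.centralizer ({y} : Set G),
      g * d * g⁻¹ ∈ (Cfsg.pLayer 2 ↥(Subgroup.centralizer ({x} : Set G))).map
        (Subgroup.centralizer ({x} : Set G)).subtype ⊓ Subgroup.centralizer ({y} : Set G) := by
    intro g hg d hd
    refine ⟨?_, ?_⟩
    · obtain ⟨l, hl, hld⟩ := hd.1
      have hn : (Cfsg.pLayer 2 ↥(Subgroup.centralizer ({x} : Set G))).Normal :=
        Cfsg.Agent.Lib.Helper10.pLayer_normal 2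
      refine ⟨⟨g, hg.2⟩ * l * ⟨g, hg.2⟩⁻¹, hn.conj_mem l hl _, ?_⟩
      rw [← hld]; rfl
    · exact Subgroup.mul_mem _ (Subgroup.mul_mem _ hg.1 hd.2) (Subgroup.inv_mem _ hg.1)
  have hDn : Subgroup.centralizer ({y} : Set G) ⊓ Subgroup.centralizer ({x} : Set G) ≤
      Subgroup.normalizer (((Cfsg.pLayer 2 ↥(Subgroup.centralizer ({x} : Set G))).map
        (Subgroup.centralizer ({x} : Set G)).subtype ⊓ Subgroup.centralizer ({y} : Set G) :
        Subgroup G) : Set G) := by
    intro g hg
    rw [Subgroup.mem_normalizer_iff]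
    intro d
    constructor
    · exact hconj g hg d
    · intro h
      have := hconj g⁻¹ (Subgroup.inv_mem _ hg) _ h
      simpa [mul_assoc] using this
  have key := Cfsg.Agent.Lib.Helper10.PCompMap.bprop_main (Subgroup.centralizer ({y} : Set G)) x hxCy hx
    _ hDle hDn J hJ hBQ
  refine ⟨key.1, fun E hE hodd hnorm => key.2 E ?_ hodd hnorm⟩
  rw [inf_comm]; exact hE

end Cfsg.Agent.S1775
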