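import Cfsg.Statements.S1780
import Mathlib.GroupTheory.Perm.Cycle.Type

set_option autoImplicit false
open Cfsg

namespace Cfsg.Agent.S1780

theorem exists_fixed_in_subgroup {A : Type*} [CommGroup A] [Finite A]
    (hA : IsPGroup 2 A) (t : MulAut A) (k : ℕ) (htk : t ^ 2 ^ k = 1)
    (C : Subgroup A) (hC : C ≠ ⊥) (hinv : ∀ x, t x ∈ C ↔ x ∈ C) :
    ∃ x ∈ C, x ≠ 1 ∧ t x = x := by
  classical
  have : Fact (Nat.Prime 2) := ⟨Nat.prime_two⟩
  have : Fintype C := Fintype.ofFinite C
  let f : Equiv.Perm C := Equiv.Perm.subtypePerm (p := fun x => x ∈ C) t.toEquiv hinv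
  have hf : f ^ 2 ^ k = 1 := by
    ext x
    have h1 : ∀ n : ℕ, ∀ y : C, (((f ^ n) y : C) : A) = (t ^ n) (y : A) := by
      intro n
      induction n with
      | zero => intro y; simp
      | succ n ih =>
        intro y
        rw [pow_succ, Equiv.Perm.mul_apply, ih, pow_succ, MulAut.mul_apply]
        rfl
    rw [h1, htk]
    simp
  have hcard : 2 ∣ Fintype.card C := by
    have hpC : IsPGroup 2 C := hA.to_subgroup C
    obtain ⟨n, hn⟩ := IsPGroup.iff_card.mp hpC
    rw [← Nat.card_eq_fintype_card, hn]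
    have hn0 : n ≠ 0 := by
      rintro rfl
      rw [pow_zero] at hn
      exact hC (Subgroup.card_eq_one.mp hn)
    exact dvd_pow_self 2 hn0
  have hone : f 1 = 1 := by
    apply Subtype.ext
    change t 1 = 1
    exact map_one t
  obtain ⟨b, hb, hb1⟩ := Equiv.Perm.exists_fixed_point_of_prime' hcard hf hone
  refine ⟨b, b.2, ?_, ?_⟩
  · intro h
    apply hb1
    exact Subtype.ext h
  · have := congrArg Subtype.val hb
    exact this

theorem result {A : Type*} [CommGroup A] [Finite A]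
    (hA : IsPGroup 2 A) (t : MulAut A) (ht : ∃ k : ℕ, orderOf t = 2 ^ k) (hC : ∀ a : A, t (t a) = a → t a = a) :
    ∀ a : A, t a = a := by
  by_contra hcon
  rw [not_forall] at hcon
  obtain ⟨a₀, ha₀⟩ := hcon
  obtain ⟨k, hk⟩ := ht
  have htk : t ^ 2 ^ k = 1 := by rw [← hk]; exact pow_orderOf_eq_one t
  let φ : A →* A :=
    { toFun := fun a => t a * a⁻¹
      map_one' := by simp
      map_mul' := by
        intro a b
        simp only [map_mul, mul_inv]
        rw [mul_mul_mul_comm] }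
  have hφ : ∀ a, φ a = t a * a⁻¹ := fun a => rfl
  have hCne : φ.range ≠ ⊥ := by
    intro h
    have : φ a₀ ∈ φ.range := ⟨a₀, rfl⟩
    rw [h, Subgroup.mem_bot, hφ, mul_inv_eq_one] at this
    exact ha₀ this
  have hinv : ∀ x, t x ∈ φ.range ↔ x ∈ φ.range := by
    intro x
    constructor
    · rintro ⟨a, ha⟩
      refine ⟨t⁻¹ a, ?_⟩
      apply t.injective
      rw [← ha, hφ, hφ, map_mul, map_inv]
      simp
    · rintro ⟨a, rfl⟩
      exact ⟨t a, by rw [hφ, hφ, map_mul, map_inv]⟩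
  obtain ⟨x, ⟨a, hax⟩, hx1, htx⟩ := exists_fixed_in_subgroup hA t k htk φ.range hCne hinv
  obtain ⟨m, hm⟩ := (IsPGroup.iff_orderOf.mp hA) x
  have hm0 : m ≠ 0 := by
    rintro rfl
    rw [pow_zero, orderOf_eq_one_iff] at hm
    exact hx1 hm
  obtain ⟨m', rfl⟩ := Nat.exists_eq_succ_of_ne_zero hm0
  have hta : t a = x * a := by
    rw [← hax, hφ]; simp
  set c := x ^ 2 ^ m' with hc
  have hc1 : c ≠ 1 := by
    intro h
    have := orderOf_dvd_of_pow_eq_one h
    rw [hm, pow_succ] at this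
    have h2 : 2 ^ m' * 2 ≤ 2 ^ m' := Nat.le_of_dvd (by positivity) this
    have : 0 < 2 ^ m' := by positivity
    omega
  have hc2 : c * c = 1 := by
    rw [hc, ← pow_add, ← two_mul, ← pow_succ', ← hm, pow_orderOf_eq_one]
  have htc : t c = c := by rw [hc, map_pow, htx]
  have hta' : t (a ^ 2 ^ m') = c * a ^ 2 ^ m' := by
    rw [map_pow, hta, mul_pow]
  have h2 : t (t (a ^ 2 ^ m')) = a ^ 2 ^ m' := by
    rw [hta', map_mul, htc, hta', ← mul_assoc, hc2, one_mul]
  have h3 := hC _ h2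
  rw [hta'] at h3
  exact hc1 (by simpa using h3)

end Cfsg.Agent.S1780
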