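import Cfsg.Statements.S1781
import Cfsg.Agent.S1780

set_option autoImplicit false
open Cfsg

namespace Cfsg.Agent.S1781

theorem mul_comm_of_isMulCommutative {M : Type*} [Mul M] (h : IsMulCommutative M) (x y : M) :
    x * y = y * x := h.is_comm.comm x y

theorem centralizes_of_sq_ne_one {G : Type*} [Group G] [Finite G] (A B : Subgroup G)
    (hA2 : IsPGroup 2 ↥A) (hB2 : IsPGroup 2 ↥B) (hBa : IsMulCommutative ↥B) (hAB : A ⊓ B = ⊥)
    (hti : ∀ h : G, A.map (MulAut.conj h).toMonoidHom = A ∨ A.map (MulAut.conj h).toMonoidHom ⊓ A = ⊥)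
    (a : G) (haA : a ∈ A) (haN : a ∈ Subgroup.normalizer (B : Set G)) (ha2 : a ^ 2 ≠ 1) :
    ∀ b ∈ B, a * b = b * a := by
  have hconj : ∀ b ∈ B, a * b * a⁻¹ ∈ B := fun b hb =>
    (Subgroup.mem_normalizer_iff.mp haN b).mp hb
  have hconj' : ∀ b ∈ B, a⁻¹ * b * a ∈ B := fun b hb => by
    have := (Subgroup.mem_normalizer_iff.mp (Subgroup.inv_mem _ haN) b).mp hb
    simpa using this
  let _ : CommGroup B :=
    { (inferInstance : Group B) with
      mul_comm := fun x y => mul_comm_of_isMulCommutative hBa x y }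
  let t : MulAut B :=
    { toFun := fun b => ⟨a * (b : G) * a⁻¹, hconj b b.2⟩
      invFun := fun b => ⟨a⁻¹ * (b : G) * a, hconj' b b.2⟩
      left_inv := fun b => Subtype.ext (by simp [mul_assoc])
      right_inv := fun b => Subtype.ext (by simp [mul_assoc])
      map_mul' := fun x y => Subtype.ext (by simp [mul_assoc]) }
  have ht_apply : ∀ b : B, ((t b : B) : G) = a * (b : G) * a⁻¹ := fun b => rfl
  have htpow : ∀ n : ℕ, ∀ b : B, (((t ^ n) b : B) : G) = a ^ n * (b : G) * (a ^ n)⁻¹ := by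
    intro n
    induction n with
    | zero => intro b; simp
    | succ n ih =>
      intro b
      rw [pow_succ', MulAut.mul_apply, ht_apply, ih, pow_succ']
      simp [mul_assoc]
  have hord : ∃ k : ℕ, orderOf t = 2 ^ k := by
    have hGp : ∃ m : ℕ, orderOf a = 2 ^ m := by
      obtain ⟨m, hm⟩ := (IsPGroup.iff_orderOf.mp hA2) ⟨a, haA⟩
      exact ⟨m, by rw [← hm, ← Subgroup.orderOf_coe]⟩
    obtain ⟨m, hm⟩ := hGp
    have h1 : t ^ (2 ^ m) = 1 := by
      ext b
      rw [htpow, ← hm, pow_orderOf_eq_one]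
      simp
    have := orderOf_dvd_of_pow_eq_one h1
    obtain ⟨k, _, hk⟩ := (Nat.dvd_prime_pow Nat.prime_two).mp this
    exact ⟨k, hk⟩
  have hC : ∀ b : B, t (t b) = b → t b = b := by
    intro b hb
    have hb' : a * (a * (b : G) * a⁻¹) * a⁻¹ = (b : G) := by
      have := congrArg Subtype.val hb
      rwa [ht_apply, ht_apply] at this
    have hcomm : (b : G) * a ^ 2 * (b : G)⁻¹ = a ^ 2 := by
      calc (b : G) * a ^ 2 * (b : G)⁻¹
          = (a * (a * (b : G) * a⁻¹) * a⁻¹) * a ^ 2 * (b : G)⁻¹ := by rw [hb']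
        _ = a ^ 2 := by rw [pow_two]; group
    have hmem : a ^ 2 ∈ A.map (MulAut.conj (b : G)).toMonoidHom ⊓ A := by
      refine ⟨⟨a ^ 2, A.pow_mem haA 2, ?_⟩, A.pow_mem haA 2⟩
      simpa using hcomm
    have hAb : A.map (MulAut.conj (b : G)).toMonoidHom = A := by
      rcases hti (b : G) with h | h
      · exact h
      · rw [h, Subgroup.mem_bot] at hmem
        exact absurd hmem ha2
    have h1 : (b : G) * a * (b : G)⁻¹ ∈ A := by
      rw [← hAb]
      exact ⟨a, haA, by simp⟩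
    have h2 : (b : G) * a * (b : G)⁻¹ * a⁻¹ ∈ A ⊓ B := by
      refine ⟨A.mul_mem h1 (A.inv_mem haA), ?_⟩
      have : (b : G) * a * (b : G)⁻¹ * a⁻¹ = (b : G) * (a * (b : G)⁻¹ * a⁻¹) := by group
      rw [this]
      exact B.mul_mem b.2 (hconj _ (B.inv_mem b.2))
    rw [hAB, Subgroup.mem_bot] at h2
    apply Subtype.ext
    rw [ht_apply]
    calc a * (b : G) * a⁻¹ = ((b : G) * a * (b : G)⁻¹ * a⁻¹)⁻¹ * (b : G) := by group
      _ = (b : G) := by rw [h2]; simp
  have hfix := Cfsg.Agent.S1780.result hB2 t hord hC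
  intro b hb
  have := congrArg Subtype.val (hfix ⟨b, hb⟩)
  rw [ht_apply] at this
  calc a * b = a * b * a⁻¹ * a := by group
    _ = b * a := by rw [this]

theorem conj_comp {G : Type*} [Group G] (h g : G) :
    (MulAut.conj h).toMonoidHom.comp (MulAut.conj g).toMonoidHom = (MulAut.conj (h * g)).toMonoidHom := by
  ext x
  simp [mul_assoc]

theorem ti_conj {G : Type*} [Group G] (A : Subgroup G)
    (hti : ∀ h : G, A.map (MulAut.conj h).toMonoidHom = A ∨ A.map (MulAut.conj h).toMonoidHom ⊓ A = ⊥)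
    (g : G) (h : G) :
    (A.map (MulAut.conj g).toMonoidHom).map (MulAut.conj h).toMonoidHom = A.map (MulAut.conj g).toMonoidHom ∨
      (A.map (MulAut.conj g).toMonoidHom).map (MulAut.conj h).toMonoidHom ⊓ A.map (MulAut.conj g).toMonoidHom = ⊥ := by
  have hkey : (A.map (MulAut.conj g).toMonoidHom).map (MulAut.conj h).toMonoidHom =
      (A.map (MulAut.conj (g⁻¹ * h * g)).toMonoidHom).map (MulAut.conj g).toMonoidHom := by
    rw [Subgroup.map_map, Subgroup.map_map, conj_comp, conj_comp]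
    congr 3
    group
  rw [hkey]
  rcases hti (g⁻¹ * h * g) with h1 | h1
  · left
    rw [h1]
  · right
    rw [← Subgroup.map_inf _ _ _ (MulAut.conj g).injective, h1, Subgroup.map_bot]

theorem mem_normalizer_of_map_conj_eq {G : Type*} [Group G] (A : Subgroup G) (b : G)
    (h : A.map (MulAut.conj b).toMonoidHom = A) : b ∈ Subgroup.normalizer (A : Set G) := by
  rw [Subgroup.mem_normalizer_iff]
  intro x
  constructor
  · intro hx
    rw [← h]
    exact ⟨x, hx, by simp⟩
  · intro hx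
    rw [← h] at hx
    obtain ⟨y, hy, hyx⟩ := hx
    simp only [MulEquiv.coe_toMonoidHom, MulAut.conj_apply] at hyx
    have : y = x := by
      have := congrArg (fun z => b⁻¹ * z * b) hyx
      simpa [mul_assoc] using this
    rwa [← this]

theorem map_conj_eq_of_fixed {G : Type*} [Group G] (A : Subgroup G)
    (hti : ∀ h : G, A.map (MulAut.conj h).toMonoidHom = A ∨ A.map (MulAut.conj h).toMonoidHom ⊓ A = ⊥)
    (a : G) (haA : a ∈ A) (ha1 : a ≠ 1) (b : G) (hab : a * b = b * a) :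
    A.map (MulAut.conj b).toMonoidHom = A := by
  rcases hti b with h | h
  · exact h
  · exfalso
    have hmem : a ∈ A.map (MulAut.conj b).toMonoidHom ⊓ A := by
      refine ⟨⟨a, haA, ?_⟩, haA⟩
      simp only [MulEquiv.coe_toMonoidHom, MulAut.conj_apply]
      rw [← hab]
      group
    rw [h, Subgroup.mem_bot] at hmem
    exact ha1 hmem

theorem result {G : Type*} [Group G] [Finite G] (A : Subgroup G)
    (hA2 : IsPGroup 2 ↥A) (hAa : IsMulCommutative ↥A)
    (hti : ∀ h : G, A.map (MulAut.conj h).toMonoidHom = A ∨ A.map (MulAut.conj h).toMonoidHom ⊓ A = ⊥)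
    (g : G) (hg : A.map (MulAut.conj g).toMonoidHom ≠ A) :
    Cfsg.IsElementaryAbelian 2 (A ⊓ Subgroup.normalizer ((A.map (MulAut.conj g).toMonoidHom : Subgroup G) : Set G)) ∨
      ⁅A, A.map (MulAut.conj g).toMonoidHom⁆ = ⊥ := by
  set B := A.map (MulAut.conj g).toMonoidHom with hBdef
  have hBti := ti_conj A hti g
  rw [← hBdef] at hBti
  have hB2 : IsPGroup 2 ↥B := hA2.map _
  have hBa : IsMulCommutative ↥B := Subgroup.map_isMulCommutative A _
  have hBA : B ⊓ A = ⊥ := (hti g).resolve_left hg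
  have hAB : A ⊓ B = ⊥ := by rw [inf_comm]; exact hBA
  by_cases hel : ∀ a ∈ A ⊓ Subgroup.normalizer (B : Set G), a ^ 2 = 1
  · left
    refine ⟨⟨⟨fun x y => ?_⟩⟩, hel⟩
    apply Subtype.ext
    have := mul_comm_of_isMulCommutative hAa ⟨x.1, x.2.1⟩ ⟨y.1, y.2.1⟩
    have h2 := congrArg (Subtype.val : A → G) this
    exact h2
  · right
    rw [not_forall] at hel
    obtain ⟨a, hel⟩ := hel
    rw [Classical.not_imp] at hel
    obtain ⟨⟨haA, haN⟩, ha2⟩ := hel
    have ha1 : a ≠ 1 := by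
      rintro rfl
      exact ha2 (one_pow 2)
    have hcB := centralizes_of_sq_ne_one A B hA2 hB2 hBa hAB hti a haA haN ha2
    have hBN : ∀ b ∈ B, A.map (MulAut.conj b).toMonoidHom = A := fun b hb =>
      map_conj_eq_of_fixed A hti a haA ha1 b (hcB b hb)
    have hb₀B : g * a * g⁻¹ ∈ B := ⟨a, haA, by simp⟩
    have hb₀2 : (g * a * g⁻¹) ^ 2 ≠ 1 := by
      intro h
      apply ha2
      have : (g * a * g⁻¹) ^ 2 = g * a ^ 2 * g⁻¹ := by rw [pow_two, pow_two]; group
      rw [this] at h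
      have := congrArg (fun z => g⁻¹ * z * g) h
      simpa [mul_assoc] using this
    have hb₀1 : g * a * g⁻¹ ≠ 1 := by
      intro h
      rw [h] at hb₀2
      exact hb₀2 (one_pow 2)
    have hb₀N : g * a * g⁻¹ ∈ Subgroup.normalizer (A : Set G) :=
      mem_normalizer_of_map_conj_eq A _ (hBN _ hb₀B)
    have hcA := centralizes_of_sq_ne_one B A hB2 hA2 hAa hBA hBti (g * a * g⁻¹) hb₀B hb₀N hb₀2
    have hAN : ∀ a' ∈ A, B.map (MulAut.conj a').toMonoidHom = B := fun a' ha' =>
      map_conj_eq_of_fixed B hBti _ hb₀B hb₀1 a' (hcA a' ha')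
    rw [eq_bot_iff, ← hAB]
    apply le_inf
    · rw [Subgroup.commutator_le]
      intro a' ha' b hb
      rw [commutatorElement_def]
      have hbN := mem_normalizer_of_map_conj_eq A b (hBN b hb)
      have h1 : b * a'⁻¹ * b⁻¹ ∈ A := (Subgroup.mem_normalizer_iff.mp hbN _).mp (A.inv_mem ha')
      have : a' * b * a'⁻¹ * b⁻¹ = a' * (b * a'⁻¹ * b⁻¹) := by group
      rw [this]
      exact A.mul_mem ha' h1
    · rw [Subgroup.commutator_le]
      intro a' ha' b hb
      rw [commutatorElement_def]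
      have haN' := mem_normalizer_of_map_conj_eq B a' (hAN a' ha')
      have h1 : a' * b * a'⁻¹ ∈ B := (Subgroup.mem_normalizer_iff.mp haN' _).mp hb
      exact B.mul_mem h1 (B.inv_mem hb)

end Cfsg.Agent.S1781
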