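import Cfsg.Statements.S1782
import Cfsg.Agent.Lib.Helper18.TIFamily

set_option autoImplicit false
open Cfsg

namespace Cfsg.Agent.S1782

theorem result {S : Type*} [Group S] [Finite S] (hS : IsPGroup 2 S)
    (Δ : Set (Subgroup S)) (hinv : ∀ s : S, ∀ R ∈ Δ, R.map (MulAut.conj s).toMonoidHom ∈ Δ)
    (hΦ : ∀ R ∈ Δ, frattini ↥R ≠ ⊥) (hord : ∀ R ∈ Δ, ∀ T ∈ Δ, Nat.card ↥R = Nat.card ↥T)
    (hti : ∀ R ∈ Δ, ∀ T ∈ Δ, R = T ∨ R ⊓ T = ⊥) :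
    ∀ R ∈ Δ, ∀ T ∈ Δ, R ≠ T → ⁅R, T⁆ = ⊥ := by
  intro R hR T hT hne
  rw [← Cfsg.Agent.Lib.Helper18.TIF.comm_iff]
  refine Cfsg.Agent.Lib.Helper18.TIF.main hS _ (⊤ : Subgroup S) rfl Δ ?_ R hR T hT hne
  exact ⟨fun R _ => le_top, fun h _ R hR => hinv h R hR, hΦ, hord, hti⟩

end Cfsg.Agent.S1782
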