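import Cfsg.Statements.S1783
import Cfsg.Agent.Lib.helper23.TISqD

set_option autoImplicit false
open Cfsg

namespace Cfsg.Agent.S1783

/-- Let X be a finite group whose generalized Fitting subgroup equals its largest normal 2-subgroup Q, and let A be an abelian 2-subgroup of X such that every conjugate of A equals A or meets A trivially. Let B be the subgroup generated by the squares of the elements of A. Then B lies in Q, and if B is not an elementary abelian 2-group then the normal closure of B in X is commutative. -/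
theorem result {X : Type*} [Group X] [Finite X]
    (hX : Cfsg.generalizedFittingSubgroup X = Cfsg.pCore 2 X) (A : Subgroup X) (hA2 : IsPGroup 2 ↥A) (hAa : IsMulCommutative ↥A)
    (hti : ∀ h : X, A.map (MulAut.conj h).toMonoidHom = A ∨ A.map (MulAut.conj h).toMonoidHom ⊓ A = ⊥) :
    Subgroup.closure ((fun a : X => a ^ 2) '' (A : Set X)) ≤ Cfsg.pCore 2 X ∧
      (¬ Cfsg.IsElementaryAbelian 2 (Subgroup.closure ((fun a : X => a ^ 2) '' (A : Set X))) →
        IsMulCommutative ↥(Subgroup.normalClosure ((fun a : X => a ^ 2) '' (A : Set X)))) := by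
  have hA : Cfsg.Agent.Lib.helper23.TIab A := by
    refine ⟨hA2, ?_, hti⟩
    intro x hx y hy
    have := hAa.is_comm.comm (⟨x, hx⟩ : ↥A) ⟨y, hy⟩
    exact congrArg Subtype.val this
  have h1 := hA.sq_le_pCore hX
  refine ⟨le_trans Subgroup.closure_le_normalClosure h1, ?_⟩
  intro hne
  have hBle : Subgroup.closure ((fun a : X => a ^ 2) '' (A : Set X)) ≤ A :=
    Cfsg.Agent.Lib.helper23.tisqB_le A
  have hBcomm : IsMulCommutative ↥(Subgroup.closure ((fun a : X => a ^ 2) '' (A : Set X))) := by
    refine ⟨⟨fun x y => Subtype.ext ?_⟩⟩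
    exact hA.comm _ (hBle x.2) _ (hBle y.2)
  have hex : ∃ b0 ∈ Subgroup.closure ((fun a : X => a ^ 2) '' (A : Set X)), b0 ^ 2 ≠ 1 := by
    by_contra hcon
    push Not at hcon
    exact hne ⟨hBcomm, hcon⟩
  obtain ⟨b0, hb0, hb0sq⟩ := hex
  have hc := hA.normalClosure_comm hX b0 hb0 hb0sq
  refine ⟨⟨fun x y => Subtype.ext ?_⟩⟩
  exact hc _ x.2 _ y.2

end Cfsg.Agent.S1783
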