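import Cfsg.Statements.S1784
import Cfsg.Agent.Lib.Helper10.LargeXS24
import Cfsg.Agent.Lib.Helper10.LargeXS23
import Cfsg.Agent.Lib.Helper10.LargeXS5
import Cfsg.Agent.Lib.Helper12.Symplectic
import Cfsg.Agent.S1265

set_option autoImplicit false
open Cfsg

namespace Cfsg.Agent.S1784

open Cfsg.Agent.Lib.Helper10.LargeXS in
theorem result {G : Type*} [Group G] [Finite G] (z : G) (hz : orderOf z = 2) (hQ : Cfsg.IsOfSymplecticType ↥(Cfsg.generalizedFittingSubgroup ↥(Subgroup.centralizer ({z} : Set G)))) (hE : Cfsg.IsExtraspecial 2 ↥(Cfsg.generalizedFittingSubgroup ↥(Subgroup.centralizer ({z} : Set G))))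
    (α : G) (hα : orderOf α = 2) (hαC : α ∈ Subgroup.centralizer ({z} : Set G)) (hαQ : α ∉ (Cfsg.generalizedFittingSubgroup ↥(Subgroup.centralizer ({z} : Set G))).map (Subgroup.centralizer ({z} : Set G)).subtype)
    (Q₀ : Subgroup G) (hQ₀ : ∀ q : G, q ∈ Q₀ ↔ (q ∈ (Cfsg.generalizedFittingSubgroup ↥(Subgroup.centralizer ({z} : Set G))).map (Subgroup.centralizer ({z} : Set G)).subtype ∧ α * q * α⁻¹ * q⁻¹ ∈ Subgroup.zpowers z)) :
    Subgroup.closure ((fun q : G => α * q * α⁻¹ * q⁻¹) '' ((Cfsg.generalizedFittingSubgroup ↥(Subgroup.centralizer ({z} : Set G))).map (Subgroup.centralizer ({z} : Set G)).subtype : Set G)) = (Subgroup.center ↥Q₀).map Q₀.subtype ∧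
      (¬ Q₀ ≤ ((Cfsg.generalizedFittingSubgroup ↥(Subgroup.centralizer ({z} : Set G))).map (Subgroup.centralizer ({z} : Set G)).subtype ⊓ Subgroup.centralizer ({α} : Set G)) ⊔ Subgroup.zpowers z →
        ∃ q ∈ (Cfsg.generalizedFittingSubgroup ↥(Subgroup.centralizer ({z} : Set G))).map (Subgroup.centralizer ({z} : Set G)).subtype, q * α * q⁻¹ = α * z) := by
  have hzz : z * z = 1 := by rw [← pow_two, ← hz, pow_orderOf_eq_one]
  have hz1 : z ≠ 1 := by
    intro h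
    rw [h, orderOf_one] at hz
    omega
  have hα2 : α * α = 1 := by rw [← pow_two, ← hα, pow_orderOf_eq_one]
  have hαinv : α⁻¹ = α := by rw [inv_eq_iff_mul_eq_one]; exact hα2
  have hαz : α * z = z * α := by
    rw [Subgroup.mem_centralizer_singleton_iff] at hαC
    exact hαC
  obtain ⟨zC, hzCdef⟩ : ∃ zC : ↥(Subgroup.centralizer ({z} : Set G)),
      zC = Cfsg.Agent.Lib.Helper12.zC z := ⟨_, rfl⟩
  have hzCv : (zC : G) = z := by rw [hzCdef]; rfl
  have hzCQ : zC ∈ Cfsg.generalizedFittingSubgroup ↥(Subgroup.centralizer ({z} : Set G)) := by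
    rw [hzCdef]
    exact Cfsg.Agent.Lib.Helper12.zC_mem_generalizedFittingSubgroup z
  have hzC1 : zC ≠ 1 := by
    intro h
    apply hz1
    rw [← hzCv, h]; rfl
  have hzC2 : zC * zC = 1 := by
    apply Subtype.ext
    rw [Subgroup.coe_mul, hzCv, hzz]; rfl
  have hzCcomm : ∀ x ∈ Cfsg.generalizedFittingSubgroup ↥(Subgroup.centralizer ({z} : Set G)),
      x * zC = zC * x := by
    intro x _
    have h1 := Cfsg.Agent.Lib.Helper12.zC_mem_center z
    rw [← hzCdef, Subgroup.mem_center_iff] at h1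
    exact h1 x
  have hxsH : XS (Cfsg.generalizedFittingSubgroup ↥(Subgroup.centralizer ({z} : Set G))) zC :=
    xs_of_extraspecial hE hzC1 hzC2 hzCQ hzCcomm
  have hFn : (Cfsg.generalizedFittingSubgroup ↥(Subgroup.centralizer ({z} : Set G))).Normal :=
    Cfsg.Agent.Lib.Helper12.generalizedFittingSubgroup_normal _
  obtain ⟨Q', hQ'⟩ : ∃ Q' : Subgroup G,
      Q' = (Cfsg.generalizedFittingSubgroup ↥(Subgroup.centralizer ({z} : Set G))).map
        (Subgroup.centralizer ({z} : Set G)).subtype := ⟨_, rfl⟩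
  rw [← hQ'] at hαQ hQ₀ ⊢
  have hxs : XS Q' z := by
    have h1 := hxsH.map_injective (Subgroup.centralizer ({z} : Set G)).subtype
      Subtype.coe_injective
    rw [← hQ'] at h1
    have h2 : (Subgroup.centralizer ({z} : Set G)).subtype zC = z := hzCv
    rw [h2] at h1
    exact h1
  have hQ'mem : ∀ k : G, k ∈ Q' ↔ ∃ hk : k ∈ Subgroup.centralizer ({z} : Set G),
      (⟨k, hk⟩ : ↥(Subgroup.centralizer ({z} : Set G))) ∈
        Cfsg.generalizedFittingSubgroup ↥(Subgroup.centralizer ({z} : Set G)) := by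
    intro k
    rw [hQ']
    constructor
    · rintro ⟨k', hk', rfl⟩
      exact ⟨k'.2, hk'⟩
    · rintro ⟨hk, hkQ⟩
      exact ⟨⟨k, hk⟩, hkQ, rfl⟩
  have hNz : ∀ h : G, h * z = z * h → ∀ k ∈ Q', h * k * h⁻¹ ∈ Q' := by
    intro h hh k hk
    obtain ⟨hkC, hkQ⟩ := (hQ'mem k).1 hk
    have hhC : h ∈ Subgroup.centralizer ({z} : Set G) := by
      rw [Subgroup.mem_centralizer_singleton_iff]; exact hh
    rw [hQ'mem]
    refine ⟨Subgroup.mul_mem _ (Subgroup.mul_mem _ hhC hkC) (Subgroup.inv_mem _ hhC), ?_⟩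
    exact hFn.conj_mem ⟨k, hkC⟩ hkQ ⟨h, hhC⟩
  have hCzQ : ∀ c : G, (∀ k ∈ Q', c * k = k * c) → c ∈ Q' := by
    intro c hc
    have hcC : c ∈ Subgroup.centralizer ({z} : Set G) := by
      rw [Subgroup.mem_centralizer_singleton_iff]; exact hc z hxs.z_mem
    have h1 : (⟨c, hcC⟩ : ↥(Subgroup.centralizer ({z} : Set G))) ∈
        Subgroup.centralizer ((Cfsg.generalizedFittingSubgroup
          ↥(Subgroup.centralizer ({z} : Set G)) : Subgroup _) : Set _) := by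
      rw [Subgroup.mem_centralizer_iff]
      intro f hf
      apply Subtype.ext
      have hfQ : (f : G) ∈ Q' := (hQ'mem _).2 ⟨f.2, hf⟩
      exact (hc _ hfQ).symm
    have h2 := Cfsg.Agent.S1265.result h1
    exact (hQ'mem c).2 ⟨hcC, h2⟩
  have haQ : ∀ k ∈ Q', α * k * α⁻¹ ∈ Q' := hNz α hαz
  have hcQ : ∀ q ∈ Q', α * q * α⁻¹ * q⁻¹ ∈ Q' := fun q hq => Q'.mul_mem (haQ q hq) (Q'.inv_mem hq)
  have hQ₀' : ∀ q : G, q ∈ Q₀ ↔ (q ∈ Q' ∧ (α * q * α⁻¹ * q⁻¹ = 1 ∨ α * q * α⁻¹ * q⁻¹ = z)) := by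
    intro q
    rw [hQ₀, mem_zpowers_of_sq hzz]
  have hcentral : ∀ d : G, (d = 1 ∨ d = z) → ∀ x ∈ Q', d * x = x * d := by
    intro d hd x hx
    rcases hd with rfl | rfl
    · rw [one_mul, mul_one]
    · exact (hxs.z_comm x hx).symm
  have goal1 : ∀ q ∈ Q', (∀ x ∈ Q', q * (α * x * α⁻¹ * x⁻¹) = (α * x * α⁻¹ * x⁻¹) * q) ↔ q ∈ Q₀ := by
    intro q hq
    constructor
    · intro h
      rw [hQ₀']
      refine ⟨hq, ?_⟩
      apply hxs.center _ (hcQ q hq)
      intro x hx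
      exact (hxs.comm_commutator_iff hα2 haQ hq hx).1 (h x hx)
    · intro h x hx
      obtain ⟨-, h1⟩ := (hQ₀' q).1 h
      exact (hxs.comm_commutator_iff hα2 haQ hq hx).2 (hcentral _ h1 x hx)
  obtain ⟨D, hD⟩ : ∃ D : Subgroup G,
      D = Subgroup.closure ((fun q : G => α * q * α⁻¹ * q⁻¹) '' (Q' : Set G)) := ⟨_, rfl⟩
  rw [← hD]
  have hgenD : ∀ q ∈ Q', α * q * α⁻¹ * q⁻¹ ∈ D := by
    intro q hq
    rw [hD]
    exact Subgroup.subset_closure ⟨q, hq, rfl⟩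
  have hDQ : D ≤ Q' := by
    rw [hD, Subgroup.closure_le]
    rintro _ ⟨q, hq, rfl⟩
    exact hcQ q hq
  have hQ₀Q : Q₀ ≤ Q' := fun q hq => ((hQ₀' q).1 hq).1
  have hZmem : ∀ x : G, x ∈ (Subgroup.center ↥Q₀).map Q₀.subtype ↔
      (x ∈ Q₀ ∧ ∀ y ∈ Q₀, x * y = y * x) := by
    intro x
    constructor
    · rintro ⟨x', hx', rfl⟩
      refine ⟨x'.2, ?_⟩
      intro y hy
      have h1 := Subgroup.mem_center_iff.1 hx' ⟨y, hy⟩
      exact (congrArg Subtype.val h1).symm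
    · rintro ⟨hx, hall⟩
      refine ⟨⟨x, hx⟩, ?_, rfl⟩
      rw [SetLike.mem_coe, Subgroup.mem_center_iff]
      intro y
      apply Subtype.ext
      exact (hall y.1 y.2).symm
  have hzD : z ∈ D := by
    obtain ⟨q0, hq0, hq0ne⟩ : ∃ q0 ∈ Q', α * q0 * α⁻¹ * q0⁻¹ ≠ 1 := by
      by_contra hne
      apply hαQ
      apply hCzQ
      intro k hk
      by_contra hk2
      apply hne
      refine ⟨k, hk, ?_⟩
      intro h1
      apply hk2
      calc α * k = (α * k * α⁻¹ * k⁻¹) * (k * α) := by group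
        _ = k * α := by rw [h1, one_mul]
    obtain ⟨d, hd⟩ : ∃ d, d = α * q0 * α⁻¹ * q0⁻¹ := ⟨_, rfl⟩
    have hdD : d ∈ D := by rw [hd]; exact hgenD q0 hq0
    have hdQ : d ∈ Q' := hDQ hdD
    have hd1 : d ≠ 1 := by rw [hd]; exact hq0ne
    by_cases hdz : d = z
    · rw [← hdz]; exact hdD
    · obtain ⟨k, hk, hkd⟩ := hxs.exists_noncomm hdQ hd1 hdz
      have h1 : k * d * k⁻¹ ∈ D := by
        have h2 : k * d * k⁻¹ = (α * k * α⁻¹ * k⁻¹)⁻¹ * (α * (k * q0) * α⁻¹ * (k * q0)⁻¹) := by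
          rw [hd]; group
        rw [h2]
        exact D.mul_mem (D.inv_mem (hgenD k hk)) (hgenD _ (Q'.mul_mem hk hq0))
      have h3 : z = (k * d * k⁻¹) * d⁻¹ := by rw [hkd]; group
      rw [h3]
      exact D.mul_mem h1 (D.inv_mem hdD)
  constructor
  · apply le_antisymm
    · rw [hD, Subgroup.closure_le]
      rintro _ ⟨q, hq, rfl⟩
      show α * q * α⁻¹ * q⁻¹ ∈ (Subgroup.center ↥Q₀).map Q₀.subtype
      rw [hZmem]
      have hcq0 : α * q * α⁻¹ * q⁻¹ ∈ Q₀ := by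
        rw [hQ₀']
        refine ⟨hcQ q hq, ?_⟩
        have h1 : α * (α * q * α⁻¹ * q⁻¹) * α⁻¹ * (α * q * α⁻¹ * q⁻¹)⁻¹
            = ((α * q * α⁻¹ * q⁻¹) * (α * q * α⁻¹ * q⁻¹))⁻¹ := by
          have h2 : α * (α * q * α⁻¹ * q⁻¹) * α⁻¹ = (α * α) * q * α⁻¹ * q⁻¹ * α⁻¹ := by group
          rw [h2, hα2, one_mul]
          have h3 : q * α⁻¹ * q⁻¹ * α⁻¹ = q * α * q⁻¹ * α⁻¹ := by rw [hαinv]
          rw [h3]
          group
        rw [h1]
        rcases hxs.sq _ (hcQ q hq) with h4 | h4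
        · left; rw [h4, inv_one]
        · right; rw [h4, hxs.z_inv]
      refine ⟨hcq0, ?_⟩
      intro y hy
      exact ((goal1 y (hQ₀Q hy)).2 hy q hq).symm
    · intro x hx
      obtain ⟨hx0, hxall⟩ := (hZmem x).1 hx
      apply hxs.double_centralizer_subgroup D hDQ hzD (hQ₀Q hx0)
      intro cc hcc hccD
      have hcc0 : cc ∈ Q₀ := by
        apply (goal1 cc hcc).1
        intro y hy
        exact hccD _ (hgenD y hy)
      exact hxall cc hcc0
  · intro hnle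
    obtain ⟨q, hq0, hqn⟩ : ∃ q ∈ Q₀, q ∉ (Q' ⊓ Subgroup.centralizer ({α} : Set G)) ⊔
        Subgroup.zpowers z := by
      by_contra hne
      apply hnle
      intro q hq
      by_contra hq2
      exact hne ⟨q, hq, hq2⟩
    obtain ⟨hqQ, hqc⟩ := (hQ₀' q).1 hq0
    refine ⟨q, hqQ, ?_⟩
    rcases hqc with h1 | h1
    · exfalso
      apply hqn
      apply Subgroup.mem_sup_left
      rw [Subgroup.mem_inf, Subgroup.mem_centralizer_singleton_iff]
      refine ⟨hqQ, ?_⟩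
      calc q * α = (α * q * α⁻¹ * q⁻¹)⁻¹ * (α * q) := by group
        _ = α * q := by rw [h1, inv_one, one_mul]
    · calc q * α * q⁻¹ = (α * q * α⁻¹ * q⁻¹)⁻¹ * α := by group
        _ = z * α := by rw [h1, hxs.z_inv]
        _ = α * z := hαz.symm

end Cfsg.Agent.S1784
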