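import Cfsg.Statements.S1785
import Cfsg.Agent.Lib.Helper18.E8Connected

set_option autoImplicit false
open Cfsg

namespace Cfsg.Agent.S1785

theorem result {X : Type*} [Group X] [Finite X]
    (hX : IsPGroup 2 X) (E : Subgroup X) [E.Normal] (hE : Cfsg.IsElementaryAbelian 2 E) (hE32 : 32 ≤ Nat.card ↥E) :
    (∀ A B : Subgroup X, Cfsg.IsElementaryAbelian 2 A → Nat.card ↥A = 8 → Cfsg.IsElementaryAbelian 2 B → Nat.card ↥B = 8 →
        Relation.ReflTransGen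
          (fun C D : Subgroup X => Cfsg.IsElementaryAbelian 2 C ∧ Nat.card ↥C = 8 ∧ Cfsg.IsElementaryAbelian 2 D ∧ Nat.card ↥D = 8 ∧ ⁅C, D⁆ = ⊥)
          A B) ∧
      (∀ V : Subgroup X, Cfsg.IsElementaryAbelian 2 V → Nat.card ↥V = 4 →
        ∃ A : Subgroup X, V ≤ A ∧ Cfsg.IsElementaryAbelian 2 A ∧ Nat.card ↥A = 8) := by
  refine ⟨?_, ?_⟩
  · intro A B hA hA8 hB hB8
    exact Cfsg.Agent.Lib.Helper18.E8C.connected hX hE hE32 hA hA8 hB hB8
  · intro V hV hV4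
    exact Cfsg.Agent.Lib.Helper18.E8C.exists_e8_over hE hE32 hV hV4

end Cfsg.Agent.S1785
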