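import Cfsg.Statements.S1850
import Cfsg.Agent.Lib.Helper9.HeChar2

set_option autoImplicit false
open Cfsg

namespace Cfsg.Agent.S1850

open Cfsg.Agent.Lib.Helper9

/-- Let G be a non-abelian finite simple QTKE-group and T a Sylow 2-subgroup of G. If U is a nontrivial 2-subgroup of G with U ∩ Z(T) ≠ 1, then F*(N_G(U)) = O₂(N_G(U)). -/
theorem result {G : Type*} [Group G] [Finite G] [IsSimpleGroup G]
    (hG : ¬ IsMulCommutative G) (hQ : Cfsg.IsQTKE G) (T : Sylow 2 G) (U : Subgroup G)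
    (hU : IsPGroup 2 ↥U) (hZ : U ⊓ ((T : Subgroup G) ⊓ Subgroup.centralizer ((T : Subgroup G) : Set G)) ≠ ⊥) :
    Subgroup.normalizer (U : Set G) ∈ Cfsg.calHe G := by
  haveI : Fact (Nat.Prime 2) := ⟨Nat.prime_two⟩
  obtain ⟨_, _, hE⟩ := hQ
  -- a nontrivial element of U ∩ Z(T)
  obtain ⟨g, hg1⟩ := (Subgroup.ne_bot_iff_exists_ne_one).1 hZ
  have hg : (g : G) ∈ U ⊓ ((T : Subgroup G) ⊓ Subgroup.centralizer ((T : Subgroup G) : Set G)) := g.2
  have hg1' : (g : G) ≠ 1 := fun h => hg1 (Subtype.ext h)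
  obtain ⟨hgU, hgT'⟩ := Subgroup.mem_inf.1 hg
  obtain ⟨hgT, hgC⟩ := Subgroup.mem_inf.1 hgT'
  -- order of g is a power of two
  obtain ⟨k, hk⟩ := (IsPGroup.iff_orderOf.1 T.isPGroup') ⟨(g : G), hgT⟩
  have hk' : orderOf (g : G) = 2 ^ k := by
    have := hk
    rwa [Subgroup.orderOf_mk] at this
  have hk0 : k ≠ 0 := by
    intro h
    rw [h, pow_zero, orderOf_eq_one_iff] at hk'
    exact hg1' hk'
  obtain ⟨m, rfl⟩ := Nat.exists_eq_succ_of_ne_zero hk0
  set z : G := (g : G) ^ (2 ^ m) with hz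
  have hzord : orderOf z = 2 := by
    have h1 : orderOf z = orderOf (g : G) / Nat.gcd (orderOf (g : G)) (2 ^ m) := orderOf_pow (g : G)
    rw [h1, hk']
    have : Nat.gcd (2 ^ (m + 1)) (2 ^ m) = 2 ^ m :=
      Nat.gcd_eq_right (pow_dvd_pow 2 (Nat.le_succ m))
    rw [this, pow_succ, Nat.mul_div_cancel_left _ (pow_pos (by norm_num) m)]
  have hzU : z ∈ U := U.pow_mem hgU _
  have hzT : z ∈ Subgroup.centralizer ((T : Subgroup G) : Set G) := Subgroup.pow_mem _ hgC _
  have hz1 : z ≠ 1 := by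
    intro h
    rw [h, orderOf_one] at hzord
    omega
  -- M = N_G(<z>) is a 2-local containing T
  set M : Subgroup G := Subgroup.normalizer ((Subgroup.zpowers z : Subgroup G) : Set G) with hM
  have hzp : IsPGroup 2 (Subgroup.zpowers z) := by
    apply IsPGroup.of_card (n := 1)
    rw [Nat.card_zpowers, hzord, pow_one]
  have hMloc : Cfsg.IsTwoLocal M := by
    refine ⟨Subgroup.zpowers z, hzp, ?_, rfl⟩
    intro h
    have : z ∈ (⊥ : Subgroup G) := h ▸ Subgroup.mem_zpowers z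
    exact hz1 (Subgroup.mem_bot.1 this)
  have hTM : (T : Subgroup G) ≤ M := by
    intro t ht
    apply Subgroup.centralizer_le_normalizer
    rw [Subgroup.mem_centralizer_iff]
    intro w hw
    obtain ⟨j, rfl⟩ := Subgroup.mem_zpowers_iff.1 hw
    rw [Subgroup.mem_centralizer_iff] at hzT
    have h1 : Commute t z := (hzT t ht)
    exact ((h1.zpow_right j).eq).symm
  have hMch : Cfsg.IsOfCharacteristicTwo ↥M := hE M hMloc ⟨T, hTM⟩
  have hM2 : HeCh2 M := heCh2_of_char2 M hMch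
  -- chain from <z> to U
  have hzU' : Subgroup.zpowers z ≤ U := by
    rw [Subgroup.zpowers_le]; exact hzU
  have hN : HeCh2 (Subgroup.normalizer (U : Set G)) :=
    heCh2_chain hU _ (Subgroup.zpowers z) hzU' le_rfl hM2
  -- conclude
  show Cfsg.generalizedFittingSubgroup ↥(Subgroup.normalizer (U : Set G)) =
    Cfsg.pCore 2 ↥(Subgroup.normalizer (U : Set G))
  apply gfs_eq_pCore_of_forall 2
  intro Y hYc hYcomm
  rw [Subgroup.eq_bot_iff_forall]
  intro y hy
  have hodd : Odd (orderOf ((y : G))) := by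
    have h1 : orderOf y ∣ Nat.card Y := by
      have := Subgroup.orderOf_dvd_natCard Y hy
      exact this
    have h2 : Odd (Nat.card Y) := Nat.coprime_two_right.1 hYc
    have h3 : Odd (orderOf y) := by
      obtain ⟨c, hc⟩ := h1
      rw [hc] at h2
      exact (Nat.odd_mul.1 h2).1
    rwa [Subgroup.orderOf_coe]
  have := hN (y : G) y.2 hodd ?_
  · exact Subtype.ext this
  · intro x hx
    unfold Cfsg.pCoreTwoOf at hx
    obtain ⟨x', hx', rfl⟩ := Subgroup.mem_map.1 hx
    have := hYcomm y hy x' hx'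
    have h2 := congrArg (fun t : ↥(Subgroup.normalizer (U : Set G)) => (t : G)) this
    simpa using h2

end Cfsg.Agent.S1850
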