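import Cfsg.Statements.S1892
import Cfsg.Agent.Lib.Helper5.PConstr
import Cfsg.Agent.Lib.Helper10.Components

set_option autoImplicit false
open Cfsg

namespace Cfsg.Agent.S1892

open scoped commutatorElement

/-- The elements of `S` normalizing `N` and acting trivially on `R / N` (for `R` normal). -/
def trivOn {S : Type*} [Group S] (R N : Subgroup S) [R.Normal] : Subgroup S where
  carrier := {y | y ∈ Subgroup.normalizer (N : Set S) ∧ ∀ r ∈ R, y * r * y⁻¹ * r⁻¹ ∈ N}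
  one_mem' := ⟨Subgroup.one_mem _, fun r _ => by simp⟩
  mul_mem' := by
    rintro y₁ y₂ ⟨h₁n, h₁⟩ ⟨h₂n, h₂⟩
    refine ⟨Subgroup.mul_mem _ h₁n h₂n, fun r hr => ?_⟩
    have e : y₁ * y₂ * r * (y₁ * y₂)⁻¹ * r⁻¹ =
        (y₁ * (y₂ * r * y₂⁻¹ * r⁻¹) * y₁⁻¹) * (y₁ * r * y₁⁻¹ * r⁻¹) := by group
    rw [e]
    exact N.mul_mem ((Subgroup.mem_normalizer_iff.mp h₁n _).mp (h₂ r hr)) (h₁ r hr)
  inv_mem' := by
    rintro y ⟨hn, h⟩
    refine ⟨Subgroup.inv_mem _ hn, fun r hr => ?_⟩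
    have hr' : y⁻¹ * r * y ∈ R := by
      have := (inferInstance : R.Normal).conj_mem r hr y⁻¹
      simpa using this
    have h1 := h _ hr'
    have e : y⁻¹ * r * y⁻¹⁻¹ * r⁻¹ = (y * (y⁻¹ * r * y) * y⁻¹ * (y⁻¹ * r * y)⁻¹)⁻¹ := by group
    rw [e]
    exact N.inv_mem h1

/-- Let S be a finite p-solvable group with no nontrivial normal subgroup of order prime to p, A a p-subgroup of S, and Q a nontrivial A-invariant subgroup of order prime to p with [A, Q] = Q. Then the commutator [O_p(S), A, Q] is nontrivial. -/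
theorem result {S : Type*} [Group S] [Finite S] {p : ℕ} [Fact p.Prime]
    (hS : Cfsg.IsPSolvable p S) (hred : Cfsg.pPrimeCore p S = ⊥)
    (A Q : Subgroup S) (hA : IsPGroup p A) (hQ : ¬ p ∣ Nat.card Q) (hQ1 : Q ≠ ⊥)
    (hinv : ∀ a ∈ A, ∀ x ∈ Q, a * x * a⁻¹ ∈ Q) (hAQ : ⁅A, Q⁆ = Q) :
    ⁅⁅Cfsg.pCore p S, A⁆, Q⁆ ≠ ⊥ := by
  have hp : p.Prime := Fact.out
  intro h
  obtain ⟨R, hR⟩ : ∃ R : Subgroup S, R = Cfsg.pCore p S := ⟨_, rfl⟩
  rw [← hR] at h
  haveI hRn : R.Normal := hR ▸ Cfsg.pCore_normal p S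
  have hRp : IsPGroup p ↥R := hR ▸ Cfsg.Agent.Lib.Helper1.pCore_isPGroup p
  obtain ⟨N, hN⟩ : ∃ N : Subgroup S, N = ⁅R, A⁆ := ⟨_, rfl⟩
  rw [← hN] at h
  have hNR : N ≤ R := hN ▸ Subgroup.commutator_le_left R A
  have hAN : A ≤ Subgroup.normalizer (N : Set S) := by
    rw [hN, Subgroup.commutator_comm]
    exact Cfsg.Agent.Lib.Helper10.le_normalizer_commutator_left A R
  have hQN : ∀ x ∈ Q, ∀ n ∈ N, x * n = n * x := by
    rw [Subgroup.commutator_eq_bot_iff_le_centralizer] at h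
    intro x hx n hn
    have := Subgroup.mem_centralizer_iff.mp (h hn) x hx
    exact this
  have hQnorm : Q ≤ Subgroup.normalizer (N : Set S) := by
    intro x hx
    rw [Subgroup.mem_normalizer_iff]
    intro n
    constructor
    · intro hn
      have : x * n * x⁻¹ = n := by rw [hQN x hx n hn]; group
      rw [this]; exact hn
    · intro hn
      have h1 := hQN x hx _ hn
      have : n = x * n * x⁻¹ := by
        calc n = x⁻¹ * (x * n * x⁻¹ * x) := by group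
          _ = x⁻¹ * (x * (x * n * x⁻¹)) := by rw [h1]
          _ = x * n * x⁻¹ := by group
      rw [this]; exact hn
  -- A ≤ T
  have hAT : A ≤ trivOn R N := by
    intro a ha
    refine ⟨hAN ha, fun r hr => ?_⟩
    have : a * r * a⁻¹ * r⁻¹ = ⁅a, r⁆ := rfl
    rw [this, hN, Subgroup.commutator_comm]
    exact Subgroup.commutator_mem_commutator ha hr
  -- commutators [a, x] lie in T
  have hcomm : ∀ a ∈ A, ∀ x ∈ Q, ⁅a, x⁆ ∈ trivOn R N := by
    intro a ha x hx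
    have hxn := hQnorm hx
    refine ⟨?_, fun r hr => ?_⟩
    · exact Subgroup.mul_mem _ (Subgroup.mul_mem _ (Subgroup.mul_mem _ (hAN ha) hxn)
        (Subgroup.inv_mem _ (hAN ha))) (Subgroup.inv_mem _ hxn)
    · -- r₁ = x⁻¹ r x
      have hr₁ : x⁻¹ * r * x ∈ R := by
        have := hRn.conj_mem r hr x⁻¹
        simpa using this
      obtain ⟨n₁, hn₁⟩ : ∃ n₁, n₁ = a⁻¹ * (x⁻¹ * r * x) * a⁻¹⁻¹ * (x⁻¹ * r * x)⁻¹ := ⟨_, rfl⟩
      have hn₁N : n₁ ∈ N := by
        rw [hn₁]; exact ((trivOn R N).inv_mem (hAT ha)).2 _ hr₁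
      obtain ⟨n₂, hn₂⟩ : ∃ n₂, n₂ = a * r * a⁻¹ * r⁻¹ := ⟨_, rfl⟩
      have hn₂N : n₂ ∈ N := by rw [hn₂]; exact (hAT ha).2 r hr
      have hxn₁ : x * n₁ * x⁻¹ = n₁ := by rw [hQN x hx n₁ hn₁N]; group
      have hn₁' : a * n₁ * a⁻¹ ∈ N := (Subgroup.mem_normalizer_iff.mp (hAN ha) n₁).mp hn₁N
      have e : ⁅a, x⁆ * r * ⁅a, x⁆⁻¹ * r⁻¹ = (a * (x * n₁ * x⁻¹) * a⁻¹) * n₂ := by
        rw [hn₁, hn₂, commutatorElement_def]; group
      rw [e, hxn₁]
      exact N.mul_mem hn₁' hn₂N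
  have hQT : Q ≤ trivOn R N := by
    rw [← hAQ, Subgroup.commutator_le]
    exact hcomm
  -- Q centralizes R
  have hQR : Q ≤ Subgroup.centralizer (R : Set S) := by
    intro x hx
    rw [Subgroup.mem_centralizer_iff]
    intro r hr
    obtain ⟨n, hn⟩ : ∃ n, n = x * r * x⁻¹ * r⁻¹ := ⟨_, rfl⟩
    have hnN : n ∈ N := by rw [hn]; exact (hQT hx).2 r hr
    have hxn : x * n = n * x := hQN x hx n hnN
    have hxr : x * r * x⁻¹ = n * r := by rw [hn]; group
    have hpow : ∀ k : ℕ, x ^ k * r * (x ^ k)⁻¹ = n ^ k * r := by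
      intro k
      induction k with
      | zero => simp
      | succ k ih =>
        have hc : x * n ^ k = n ^ k * x := (Commute.pow_right hxn k)
        have hc' : x * n ^ k * x⁻¹ = n ^ k := by rw [hc]; group
        calc x ^ (k + 1) * r * (x ^ (k + 1))⁻¹ = x * (x ^ k * r * (x ^ k)⁻¹) * x⁻¹ := by
              rw [pow_succ']; group
          _ = x * (n ^ k * r) * x⁻¹ := by rw [ih]
          _ = (x * n ^ k * x⁻¹) * (x * r * x⁻¹) := by group
          _ = n ^ k * (n * r) := by rw [hc', hxr]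
          _ = n ^ (k + 1) * r := by rw [pow_succ]; group
    have h1 := hpow (orderOf x)
    rw [pow_orderOf_eq_one, one_mul, inv_one, mul_one] at h1
    have h2 : n ^ orderOf x = 1 := by
      have : n ^ orderOf x * r = 1 * r := by rw [one_mul]; exact h1.symm
      exact mul_right_cancel this
    obtain ⟨j, hj⟩ := hRp ⟨n, hNR hnN⟩
    have h3 : n ^ p ^ j = 1 := by
      have := congrArg Subtype.val hj
      simpa using this
    have hd1 : orderOf n ∣ orderOf x := orderOf_dvd_of_pow_eq_one h2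
    have hd2 : orderOf n ∣ p ^ j := orderOf_dvd_of_pow_eq_one h3
    have hd3 : orderOf x ∣ Nat.card ↥Q := Subgroup.orderOf_dvd_natCard Q hx
    have hcop : Nat.Coprime (Nat.card ↥Q) (p ^ j) :=
      Nat.Coprime.pow_right j ((Nat.Prime.coprime_iff_not_dvd hp).mpr hQ).symm
    have hn1 : orderOf n = 1 :=
      Nat.eq_one_of_dvd_coprimes hcop (dvd_trans hd1 hd3) hd2
    rw [orderOf_eq_one_iff] at hn1
    rw [hn1, one_mul] at hxr
    calc r * x = (x * r * x⁻¹) * x := by rw [hxr]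
      _ = x * r := by group
  have hQR' : Q ≤ R := by
    rw [hR]
    refine le_trans ?_ (Cfsg.Agent.Lib.Helper5.h5_centralizer_pCore_le hS hred)
    rw [← hR]; exact hQR
  have hQp : IsPGroup p ↥Q := hRp.to_le hQR'
  obtain ⟨k, hk⟩ := IsPGroup.iff_card.mp hQp
  apply hQ1
  rcases Nat.eq_zero_or_pos k with rfl | hpos
  · rw [pow_zero] at hk
    exact Subgroup.card_eq_one.mp hk
  · exfalso
    apply hQ
    rw [hk]
    exact dvd_pow_self p hpos.ne'

end Cfsg.Agent.S1892
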