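import Cfsg.Statements.S1894
import Cfsg.Agent.Lib.Helper13.CentExt2
import Mathlib.Order.Preorder.Finite

set_option autoImplicit false
open Cfsg

namespace Cfsg.Agent.S1894

open Cfsg.Agent.Lib.Helper13
open scoped commutatorElement

/-- Let P be a finite p-group, A a normal subgroup of P and B an abelian subgroup of A that is normal in P. Then some subgroup C of A containing B is normal in P and is self-centralizing and normal in A (C ∈ SCN(A)). -/
theorem result {P : Type*} [Group P] [Finite P] {p : ℕ} [Fact p.Prime] (hP : IsPGroup p P)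
    (A : Subgroup P) [A.Normal] (B : Subgroup P) [B.Normal] (hBA : B ≤ A) (hB : IsMulCommutative B) :
    ∃ C : Subgroup P, C.Normal ∧ B ≤ C ∧ Cfsg.IsSCN A C := by
  haveI : Group.IsNilpotent P := hP.isNilpotent
  let 𝒜 : Set (Subgroup P) := {C | C.Normal ∧ B ≤ C ∧ C ≤ A ∧ C ≤ Subgroup.centralizer (C : Set P)}
  have hB𝒜 : B ∈ 𝒜 := by
    refine ⟨inferInstance, le_rfl, hBA, ?_⟩
    intro a ha
    rw [Subgroup.mem_centralizer_iff]
    intro b hb
    have := (isMulCommutative_iff.mp hB) ⟨b, hb⟩ ⟨a, ha⟩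
    exact congrArg Subtype.val this
  obtain ⟨C, hBC, hCmax⟩ := (Set.toFinite 𝒜).exists_le_maximal hB𝒜
  obtain ⟨⟨hCn, -, hCA, hCab⟩, hmax⟩ := hCmax
  have hNtop : Subgroup.normalizer (C : Set P) = ⊤ := Subgroup.normalizer_eq_top_iff.mpr hCn
  refine ⟨C, hCn, hBC, hCA, by rw [hNtop]; exact le_top, ?_⟩
  apply le_antisymm _ (le_inf hCA hCab)
  by_contra hcon
  have hM : ∀ n ∈ Subgroup.normalizer (C : Set P),
      ∀ y ∈ A ⊓ Subgroup.centralizer (C : Set P), n * y * n⁻¹ ∈ A ⊓ Subgroup.centralizer (C : Set P) := by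
    intro n hn y hy
    exact Subgroup.mem_inf.mpr ⟨‹A.Normal›.conj_mem y (Subgroup.mem_inf.mp hy).1 n,
      conj_mem_centralizer_of_mem_normalizer hn (Subgroup.mem_inf.mp hy).2⟩
  obtain ⟨x, hxM, hxC, hxn⟩ := exists_elt_central_mod C _ hM hcon
  have hxA : x ∈ A := (Subgroup.mem_inf.mp hxM).1
  have hxcent : x ∈ Subgroup.centralizer (C : Set P) := (Subgroup.mem_inf.mp hxM).2
  have hmem : C ⊔ Subgroup.zpowers x ∈ 𝒜 := by
    refine ⟨?_, hBC.trans le_sup_left, sup_le hCA ((Subgroup.zpowers_le).mpr hxA),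
      ext_le_centralizer_self hxcent hCab⟩
    rw [← Subgroup.normalizer_eq_top_iff, eq_top_iff, ← hNtop]
    exact normalizer_le_normalizer_ext hxcent hxn
  have := hmax hmem le_sup_left
  exact hxC (this (Subgroup.mem_sup_right (Subgroup.mem_zpowers x)))

end Cfsg.Agent.S1894
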