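import Mathlib
import Cfsg.Statements.S1895
import Cfsg.Agent.Lib.Helper21.RkG
import Cfsg.Agent.Lib.Helper11.RankTwoSolvable
import Cfsg.Agent.Lib.Helper5.PConstr
import Cfsg.Agent.Lib.Helper1.PLength
import Cfsg.Agent.Lib.Helper1.Fitting

set_option autoImplicit false
open Cfsg

namespace Cfsg.Agent.S1895

open Cfsg.Agent.Lib.Helper21.Rk

theorem sup_relIndex_eq {G : Type*} [Group G] {H K : Subgroup G} (h : IsChief H K)
    (N : Subgroup G) [hN : N.Normal] (hle : H ⊓ N ≤ K) : (K ⊔ N).relIndex H = K.relIndex H := by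
  haveI := h.hH
  haveI := h.hK
  have h1 : (K ⊔ N) ⊓ H = K := by
    apply le_antisymm
    · intro x hx
      obtain ⟨hx1, hxH⟩ := Subgroup.mem_inf.mp hx
      obtain ⟨k, hk, n, hn', rfl⟩ := exists_mul_of_mem_sup_normal hx1
      have hnH : n ∈ H := by
        have : n = k⁻¹ * (k * n) := by group
        rw [this]
        exact H.mul_mem (H.inv_mem (h.lt.le hk)) hxH
      exact K.mul_mem hk (hle (Subgroup.mem_inf.mpr ⟨hnH, hn'⟩))
    · exact le_inf le_sup_left h.lt.le
  rw [← Subgroup.inf_relIndex_right (K ⊔ N) H, h1]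

/-- Let p be an odd prime and G a finite p-solvable group with no elementary abelian subgroup of order p³. Then every chief factor H/K of G (H, K normal in G with no normal subgroup of G strictly between them) whose order is a power of p has order p or p². -/
theorem result {G : Type*} [Group G] [Finite G] {p : ℕ} [Fact p.Prime] (hp : p ≠ 2)
    (hG : Cfsg.IsPSolvable p G) (hr : Cfsg.PRankLE p 2 G)
    (H K : Subgroup G) [H.Normal] [K.Normal] (hKH : K < H) (hpow : ∃ n : ℕ, K.relIndex H = p ^ n)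
    (hchief : ∀ L : Subgroup G, L.Normal → K ≤ L → L ≤ H → L = K ∨ L = H) :
    K.relIndex H = p ∨ K.relIndex H = p ^ 2 := by
  have hpp : p.Prime := Fact.out
  have h : IsChief H K := ⟨inferInstance, inferInstance, hKH, hchief⟩
  obtain ⟨n, hn⟩ := hpow
  have hn0 : n ≠ 0 := by
    intro h0
    rw [h0, pow_zero, Subgroup.relIndex_eq_one] at hn
    exact absurd hn (not_le_of_gt hKH)
  obtain ⟨N, hNdef⟩ : ∃ N : Subgroup G, N = Cfsg.pPrimeCore p G := ⟨_, rfl⟩
  haveI hNn : N.Normal := hNdef ▸ inferInstance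
  have hNcop : (Nat.card N).Coprime p := hNdef ▸ Cfsg.Agent.Lib.Helper1.pPrimeCore_card_coprime p
  -- Step 1
  have hle : H ⊓ N ≤ K := by
    rcases h.dichotomy N with h1 | h1
    · exact h1
    · exfalso
      obtain ⟨-, hrel⟩ := h.inside N h1
      have hd1 : (K ⊓ N).relIndex (H ⊓ N) ∣ Nat.card ↥(H ⊓ N) :=
        ((K ⊓ N).subgroupOf (H ⊓ N)).index_dvd_card
      have hd2 : Nat.card ↥(H ⊓ N) ∣ Nat.card N := Subgroup.card_dvd_of_le inf_le_right
      rw [hrel, hn] at hd1
      have hd3 : p ∣ Nat.card N := (dvd_pow_self p hn0).trans (hd1.trans hd2)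
      exact (Nat.Prime.coprime_iff_not_dvd hpp).mp hNcop.symm hd3
  -- Step 2
  have hsurj := QuotientGroup.mk'_surjective N
  have hker : (QuotientGroup.mk' N).ker = N := QuotientGroup.ker_mk' N
  have hrel : (K.map (QuotientGroup.mk' N)).relIndex (H.map (QuotientGroup.mk' N)) =
      K.relIndex H := by
    rw [Subgroup.relIndex_map_map, hker]
    have h1 : H ⊔ N = H ⊔ (K ⊔ N) := by
      rw [← sup_assoc, sup_eq_left.mpr hKH.le]
    rw [h1, Subgroup.relIndex_sup_right H (K ⊔ N)]
    exact sup_relIndex_eq h N hle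
  have hchief' : IsChief (H.map (QuotientGroup.mk' N)) (K.map (QuotientGroup.mk' N)) := by
    refine ⟨Subgroup.Normal.map inferInstance _ hsurj, Subgroup.Normal.map inferInstance _ hsurj,
      ?_, ?_⟩
    · refine lt_of_le_of_ne (Subgroup.map_mono hKH.le) ?_
      intro heq
      have h1 : (K.map (QuotientGroup.mk' N)).relIndex (H.map (QuotientGroup.mk' N)) = 1 := by
        rw [Subgroup.relIndex_eq_one, heq]
      rw [hrel, Subgroup.relIndex_eq_one] at h1
      exact absurd h1 (not_le_of_gt hKH)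
    · intro L hL hKL hLH
      haveI := hL
      have hn' : ((L.comap (QuotientGroup.mk' N)) ⊓ H).Normal := inferInstance
      have hK' : K ≤ (L.comap (QuotientGroup.mk' N)) ⊓ H := by
        apply le_inf _ hKH.le
        intro k hk
        rw [Subgroup.mem_comap]
        exact hKL ⟨k, hk, rfl⟩
      rcases hchief _ hn' hK' inf_le_right with h1 | h1
      · left
        apply le_antisymm _ hKL
        intro y hy
        obtain ⟨x, hx, rfl⟩ := hLH hy
        have : x ∈ (L.comap (QuotientGroup.mk' N)) ⊓ H :=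
          Subgroup.mem_inf.mpr ⟨Subgroup.mem_comap.mpr hy, hx⟩
        rw [h1] at this
        exact ⟨x, this, rfl⟩
      · right
        apply le_antisymm hLH
        rintro _ ⟨x, hx, rfl⟩
        have : x ∈ (L.comap (QuotientGroup.mk' N)) ⊓ H := by rw [h1]; exact hx
        exact Subgroup.mem_comap.mp (Subgroup.mem_inf.mp this).1
  -- Step 3
  have hrQ : Cfsg.PRankLE p 2 (G ⧸ N) :=
    Cfsg.Agent.Lib.Helper11.RankTwoSolvable.prank_quotient p 2 hr N hNcop
  have hsolQ : Cfsg.IsPSolvable p (G ⧸ N) :=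
    Cfsg.Agent.Lib.Helper5.h5_isPSolvable_of_surjective (QuotientGroup.mk' N) hsurj hG
  have hOQ : Cfsg.pPrimeCore p (G ⧸ N) = ⊥ := by
    subst hNdef
    exact Cfsg.Agent.Lib.Helper1.pPrimeCore_quotient_eq_bot p
  have hCQ := Cfsg.Agent.Lib.Helper5.h5_centralizer_pCore_le hsolQ hOQ
  have hcube := hchief'.not_cube_dvd hp hrQ hCQ
  rw [hrel, hn] at hcube
  -- Step 4
  have hn3 : n < 3 := by
    by_contra h3
    push Not at h3
    exact hcube (pow_dvd_pow p h3)
  rw [hn]
  rcases (by omega : n = 1 ∨ n = 2) with rfl | rfl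
  · left; exact pow_one p
  · right; rfl

end Cfsg.Agent.S1895
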