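import Cfsg.Statements.S1898
import Mathlib.Data.Nat.Factorization.Basic
import Mathlib.Data.Finite.Prod
import Mathlib.GroupTheory.OrderOfElement

set_option autoImplicit false
open Cfsg
open scoped commutatorElement

namespace Cfsg.Agent.S1898

section
variable {X : Type*} [Group X]

theorem pow_four_eq (x : X) : x ^ 4 = x * x * (x * x) := by
  simp [pow_succ, mul_assoc]

theorem comm_central (hcen : commutator X ≤ Subgroup.center X) (a b g : X) :
    g * ⁅a, b⁆ = ⁅a, b⁆ * g := by
  have h1 : ⁅a, b⁆ ∈ commutator X :=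
    Subgroup.commutator_mem_commutator (Subgroup.mem_top a) (Subgroup.mem_top b)
  exact (Subgroup.mem_center_iff.mp (hcen h1)) g

theorem comm_sq (hel : Cfsg.IsElementaryAbelian 2 (commutator X)) (a b : X) :
    ⁅a, b⁆ * ⁅a, b⁆ = 1 := by
  have h1 : ⁅a, b⁆ ∈ commutator X :=
    Subgroup.commutator_mem_commutator (Subgroup.mem_top a) (Subgroup.mem_top b)
  have := hel.2 _ h1
  rwa [pow_two] at this

theorem swap_eq (a b : X) : a * b = ⁅a, b⁆ * (b * a) := by
  rw [commutatorElement_def]; group

theorem sq_mul (hel : Cfsg.IsElementaryAbelian 2 (commutator X))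
    (hcen : commutator X ≤ Subgroup.center X) (x y : X) :
    (x * y) * (x * y) = ⁅y, x⁆ * (x * x * (y * y)) := by
  have hc := comm_central hcen y x
  calc (x * y) * (x * y) = x * (y * x) * y := by group
    _ = x * (⁅y, x⁆ * (x * y)) * y := by rw [← swap_eq y x]
    _ = (x * ⁅y, x⁆) * (x * y) * y := by group
    _ = (⁅y, x⁆ * x) * (x * y) * y := by rw [hc x]
    _ = ⁅y, x⁆ * (x * x * (y * y)) := by group

theorem comm_sq_right (hel : Cfsg.IsElementaryAbelian 2 (commutator X))
    (hcen : commutator X ≤ Subgroup.center X) (x y : X) :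
    y * (x * x) = (x * x) * y := by
  have hc := comm_central hcen y x
  have h2 := comm_sq hel y x
  calc y * (x * x) = (y * x) * x := by group
    _ = (⁅y, x⁆ * (x * y)) * x := by rw [← swap_eq y x]
    _ = ⁅y, x⁆ * x * (y * x) := by group
    _ = ⁅y, x⁆ * x * (⁅y, x⁆ * (x * y)) := by rw [← swap_eq y x]
    _ = ⁅y, x⁆ * (x * ⁅y, x⁆) * (x * y) := by group
    _ = ⁅y, x⁆ * (⁅y, x⁆ * x) * (x * y) := by rw [hc x]
    _ = (⁅y, x⁆ * ⁅y, x⁆) * (x * x) * y := by group
    _ = (x * x) * y := by rw [h2]; group

theorem pow_four_mul (hel : Cfsg.IsElementaryAbelian 2 (commutator X))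
    (hcen : commutator X ≤ Subgroup.center X) (x y : X) (hx : x ^ 4 = 1) (hy : y ^ 4 = 1) :
    (x * y) ^ 4 = 1 := by
  have hc := comm_central hcen y x
  have h2 := comm_sq hel y x
  have hs := sq_mul hel hcen x y
  have hyx := comm_sq_right hel hcen x y
  have hyyxx : (y * y) * (x * x) = (x * x) * (y * y) := by
    calc (y * y) * (x * x) = y * (y * (x * x)) := by group
      _ = y * ((x * x) * y) := by rw [hyx]
      _ = (y * (x * x)) * y := by group
      _ = ((x * x) * y) * y := by rw [hyx]
      _ = (x * x) * (y * y) := by group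
  have hx4 : x * x * (x * x) = 1 := by rw [← hx, pow_four_eq]
  have hy4 : y * y * (y * y) = 1 := by rw [← hy, pow_four_eq]
  calc (x * y) ^ 4 = ((x * y) * (x * y)) * ((x * y) * (x * y)) := pow_four_eq _
    _ = (⁅y, x⁆ * (x * x * (y * y))) * (⁅y, x⁆ * (x * x * (y * y))) := by rw [hs]
    _ = ⁅y, x⁆ * ((x * x * (y * y)) * ⁅y, x⁆) * (x * x * (y * y)) := by group
    _ = ⁅y, x⁆ * (⁅y, x⁆ * (x * x * (y * y))) * (x * x * (y * y)) := by rw [hc]
    _ = (⁅y, x⁆ * ⁅y, x⁆) * (x * x) * ((y * y) * (x * x)) * (y * y) := by group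
    _ = (x * x) * ((x * x) * (y * y)) * (y * y) := by rw [h2, hyyxx]; group
    _ = (x * x * (x * x)) * (y * y * (y * y)) := by group
    _ = 1 := by rw [hx4, hy4]; group

end

/-- X a 2-group with X' elementary abelian and central: Ω₂(X) has exponent 4 and the automorphisms trivial on Ω₂(X) form a 2-group. -/
theorem result {X : Type*} [Group X] [Finite X] (hX : IsPGroup 2 X)
    (hel : Cfsg.IsElementaryAbelian 2 (commutator X)) (hcen : commutator X ≤ Subgroup.center X) :
    (∀ x ∈ Subgroup.closure {g : X | g ^ 4 = 1}, x ^ 4 = 1) ∧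
      ∀ φ : MulAut X, (∀ g : X, g ^ 4 = 1 → φ g = g) → ∃ k : ℕ, φ ^ (2 ^ k) = 1 := by
  constructor
  · intro x hx
    induction hx using Subgroup.closure_induction with
    | mem g hg => exact hg
    | one => simp
    | mul a b _ _ ha hb => exact pow_four_mul hel hcen a b ha hb
    | inv a _ ha => rw [inv_pow, ha, inv_one]
  · intro φ hφ
    have hN : orderOf φ ≠ 0 := (orderOf_pos φ).ne'
    obtain ⟨k, m, hm, hkm⟩ := Nat.exists_eq_two_pow_mul_odd hN
    refine ⟨k, ?_⟩
    set ψ : MulAut X := φ ^ (2 ^ k) with hψ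
    have hψm : ψ ^ m = 1 := by
      rw [hψ, ← pow_mul, ← hkm, pow_orderOf_eq_one]
    have hφpow : ∀ (j : ℕ) (g : X), g ^ 4 = 1 → (φ ^ j) g = g := by
      intro j g hg
      induction j with
      | zero => simp
      | succ j ih => rw [pow_succ, MulAut.mul_apply, hφ g hg, ih]
    have hψfix : ∀ g : X, g ^ 4 = 1 → ψ g = g := fun g hg => hφpow _ g hg
    have key : ∀ e : ℕ, ∀ x : X, x ^ (2 ^ e) = 1 → ψ x = x := by
      intro e
      induction e with
      | zero =>
        intro x hx
        apply hψfix
        have : x = 1 := by simpa using hx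
        rw [this, one_pow]
      | succ e ih =>
        intro x hx
        have hx2 : (x * x) ^ (2 ^ e) = 1 := by
          rw [← pow_two, ← pow_mul, ← pow_succ']; exact hx
        have hψx2 : ψ (x * x) = x * x := ih _ hx2
        set z := x⁻¹ * ψ x with hz
        have hψx : ψ x = x * z := by rw [hz]; group
        have h1 : (x * z) * (x * z) = x * x := by
          rw [← hψx, ← map_mul, hψx2]
        have h2 := sq_mul hel hcen x z
        rw [h1] at h2
        have h3 : ⁅z, x⁆ * (z * z) = 1 := by
          have hc := comm_central hcen z x (x * x)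
          have : x * x * (⁅z, x⁆ * (z * z)) = x * x := by
            calc x * x * (⁅z, x⁆ * (z * z)) = (x * x * ⁅z, x⁆) * (z * z) := by group
              _ = (⁅z, x⁆ * (x * x)) * (z * z) := by rw [hc]
              _ = ⁅z, x⁆ * (x * x * (z * z)) := by group
              _ = x * x := h2.symm
          exact mul_eq_left.mp this
        have hc2 := comm_sq hel z x
        have hz4 : z ^ 4 = 1 := by
          have hzz : z * z = ⁅z, x⁆⁻¹ := eq_inv_of_mul_eq_one_right h3
          calc z ^ 4 = (z * z) * (z * z) := pow_four_eq _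
            _ = ⁅z, x⁆⁻¹ * ⁅z, x⁆⁻¹ := by rw [hzz]
            _ = (⁅z, x⁆ * ⁅z, x⁆)⁻¹ := by group
            _ = 1 := by rw [hc2, inv_one]
        have hψz : ψ z = z := hψfix z hz4
        have hpow : ∀ j : ℕ, (ψ ^ j) x = x * z ^ j := by
          intro j
          induction j with
          | zero => simp
          | succ j ihj =>
            rw [pow_succ', MulAut.mul_apply, ihj, map_mul, map_pow, hψz, hψx, pow_succ']
            group
        have hzm : z ^ m = 1 := by
          have := hpow m
          rw [hψm, MulAut.one_apply] at this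
          exact (mul_eq_left.mp this.symm)
        have hz1 : z = 1 := by
          have hd1 : orderOf z ∣ m := orderOf_dvd_of_pow_eq_one hzm
          have hd2 : orderOf z ∣ 4 := orderOf_dvd_of_pow_eq_one hz4
          have hcop : Nat.Coprime m 4 := by
            have : Nat.Coprime m 2 := Nat.coprime_two_right.mpr hm
            exact Nat.Coprime.pow_right 2 this
          have : orderOf z ∣ 1 := by
            have := Nat.dvd_gcd hd1 hd2
            rwa [hcop.gcd_eq_one] at this
          exact orderOf_eq_one_iff.mp (Nat.dvd_one.mp this)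
        rw [hψx, hz1, mul_one]
    apply MulEquiv.ext
    intro x
    obtain ⟨e, he⟩ := hX x
    rw [MulAut.one_apply]
    exact key e x he

end Cfsg.Agent.S1898
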