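import Cfsg.Statements.S1899

set_option autoImplicit false
open Cfsg

namespace Cfsg.Agent.S1899

theorem core {A : Type*} [CommGroup A] [Finite A]
    {n : ℕ} (hn : Odd n) (d t : MulAut A) (hd : d ^ n = 1) (ht : t ^ 2 = 1) (hdt : t * d * t⁻¹ = d⁻¹)
    (hfix : ∀ a : A, d a = a → a = 1) :
    (∀ c : A, t c = c → t (d c) = d c → c = 1) ∧
    (∀ x : A, ∃ a b : A, t a = a ∧ t b = b ∧ x = a * d b) := by
  have h_td : ∀ a, t (d a) = d⁻¹ (t a) := by
    intro a
    have h : t * d = d⁻¹ * t := by
      calc t * d = (t * d * t⁻¹) * t := by group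
        _ = d⁻¹ * t := by rw [hdt]
    have := congrArg (fun φ : MulAut A => φ a) h
    simpa [MulAut.mul_apply] using this
  have h_tt : ∀ a, t (t a) = a := by
    intro a
    have := congrArg (fun φ : MulAut A => φ a) ht
    simpa [pow_two, MulAut.mul_apply] using this
  have h_d1 : ∀ a, d⁻¹ (d a) = a := fun a => MulAut.inv_apply_self A d a
  have h_d2 : ∀ a, d (d⁻¹ a) = a := fun a => MulAut.apply_inv_self A d a
  have h_dd : ∀ a, d (d a) = a → a = 1 := by
    intro a ha
    apply hfix
    obtain ⟨k, hk⟩ := hn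
    have h1 : ∀ j : ℕ, (d ^ (2 * j)) a = a := by
      intro j
      induction j with
      | zero => simp
      | succ j ih =>
        have : 2 * (j + 1) = 2 * j + 2 := by ring
        rw [this, pow_add, MulAut.mul_apply, pow_two, MulAut.mul_apply, ha, ih]
    have h2 : d ^ (2 * (k + 1)) = d := by
      have : 2 * (k + 1) = n + 1 := by omega
      rw [this, pow_succ, hd, one_mul]
    have := h1 (k + 1)
    rw [h2] at this
    exact this
  have h_td' : ∀ a, t (d⁻¹ a) = d (t a) := by
    intro a
    have := h_td (d⁻¹ a)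
    rw [h_d2] at this
    rw [this, h_d2]
  constructor
  · intro c hc hdc
    apply h_dd
    rw [h_td, hc] at hdc
    have := congrArg d hdc
    rw [h_d2] at this
    exact this.symm
  · intro x
    let f : A →* A :=
      { toFun := fun y => d y / d⁻¹ y
        map_one' := by simp
        map_mul' := by
          intro y z
          simp only [map_mul]
          rw [div_mul_div_comm] }
    have hf : ∀ y, f y = d y / d⁻¹ y := fun y => rfl
    have hinj : Function.Injective f := by
      rw [injective_iff_map_eq_one]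
      intro y hy
      rw [hf, div_eq_one] at hy
      apply h_dd
      have := congrArg d hy
      rw [h_d2] at this
      exact this
    have hsurj : Function.Surjective f := Finite.surjective_of_injective hinj
    obtain ⟨b, hb⟩ := hsurj (x / t x)
    have htb : t b = b := by
      apply hinj
      calc f (t b) = d (t b) / d⁻¹ (t b) := hf _
        _ = t (d⁻¹ b) / t (d b) := by rw [h_td', h_td]
        _ = t ((d b / d⁻¹ b)⁻¹) := by rw [inv_div, map_div]
        _ = t ((x / t x)⁻¹) := by rw [← hf, hb]
        _ = t (t x) / t x := by rw [inv_div, map_div]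
        _ = x / t x := by rw [h_tt]
        _ = f b := hb.symm
    refine ⟨x / d b, b, ?_, htb, (div_mul_cancel x (d b)).symm⟩
    rw [map_div, h_td, htb, div_eq_div_iff_div_eq_div, ← inv_div x (t x), ← inv_div (d b) (d⁻¹ b),
      ← hf, hb]

/-- Let a dihedral group of order 2n, n odd and n > 1, act on a finite abelian 2-group A through automorphisms d and t with d^n = 1, t² = 1 and t d t⁻¹ = d⁻¹, and suppose that d fixes only the identity. Then A is the internal direct product of C_A(t) and its image under d. -/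
theorem result {A : Type*} [CommGroup A] [Finite A] (hA : IsPGroup 2 A)
    {n : ℕ} (hn : Odd n) (hn1 : 1 < n) (d t : MulAut A) (hd : d ^ n = 1) (ht : t ^ 2 = 1) (hdt : t * d * t⁻¹ = d⁻¹)
    (hfix : ∀ a : A, d a = a → a = 1) :
    (MulEquiv.toMonoidHom t).eqLocus (MonoidHom.id A) ⊓ ((MulEquiv.toMonoidHom t).eqLocus (MonoidHom.id A)).map d.toMonoidHom = ⊥ ∧
      (MulEquiv.toMonoidHom t).eqLocus (MonoidHom.id A) ⊔ ((MulEquiv.toMonoidHom t).eqLocus (MonoidHom.id A)).map d.toMonoidHom = ⊤ := by
  obtain ⟨h1, h2⟩ := core hn d t hd ht hdt hfix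
  have hmem : ∀ a : A, a ∈ (MulEquiv.toMonoidHom t).eqLocus (MonoidHom.id A) ↔ t a = a := fun a => Iff.rfl
  constructor
  · rw [eq_bot_iff]
    rintro x ⟨hx1, hx2⟩
    obtain ⟨c, hc, rfl⟩ := hx2
    have hc' : t c = c := (hmem c).mp hc
    have hx1' : t (d c) = d c := (hmem _).mp hx1
    have := h1 c hc' hx1'
    rw [Subgroup.mem_bot, this]
    exact map_one _
  · rw [eq_top_iff]
    intro x _
    obtain ⟨a, b, ha, hb, rfl⟩ := h2 x
    apply Subgroup.mul_mem_sup
    · exact (hmem a).mpr ha
    · exact ⟨b, (hmem b).mpr hb, rfl⟩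

end Cfsg.Agent.S1899
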