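import Cfsg.Statements.S1900
import Cfsg.Agent.S0058
import Cfsg.Agent.S0026
import Cfsg.Agent.Lib.Lead.Coprime
import Cfsg.Agent.Lib.Helper13.ConjFamily

set_option autoImplicit false
open Cfsg
open Cfsg.Agent.Lib.Helper13

namespace Cfsg.Agent.S1900

open scoped commutatorElement

variable {S : Type*} [Group S]

theorem normalizer_inf_le (A B : Subgroup S) :
    Subgroup.normalizer (A : Set S) ⊓ Subgroup.normalizer (B : Set S) ≤
      Subgroup.normalizer ((A ⊓ B : Subgroup S) : Set S) := by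
  intro x hx
  have hA : x ∈ Subgroup.normalizer (A : Set S) := hx.1
  have hB : x ∈ Subgroup.normalizer (B : Set S) := hx.2
  rw [Subgroup.mem_normalizer_iff] at hA hB ⊢
  intro h
  exact ⟨fun hh => ⟨(hA h).mp hh.1, (hB h).mp hh.2⟩, fun hh => ⟨(hA h).mpr hh.1, (hB h).mpr hh.2⟩⟩

/-- Three subgroups lemma in the form used here. -/
theorem comm_eq_bot_of_normalizes (A D X : Subgroup S) (hDX : ⁅D, X⁆ = ⊥)
    (hAD : A ≤ Subgroup.normalizer (D : Set S)) (hXA : ⁅A, X⁆ = A) : ⁅A, D⁆ = ⊥ := by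
  have h1 : ⁅⁅A, D⁆, X⁆ = ⊥ := by
    have hle : ⁅A, D⁆ ≤ D := by
      rw [Subgroup.commutator_comm]
      exact Cfsg.Agent.Lib.Lead.commutator_le_left_of_le_normalizer D A hAD
    exact le_bot_iff.mp (hDX ▸ Subgroup.commutator_mono hle le_rfl)
  have h2 : ⁅⁅D, X⁆, A⁆ = ⊥ := by rw [hDX, Subgroup.commutator_bot_left]
  have h3 := Subgroup.commutator_commutator_eq_bot_of_rotate h1 h2
  rwa [Subgroup.commutator_comm X A, hXA] at h3

theorem zpowers_eq_of_card_prime [Finite S] {q : ℕ} (hq : q.Prime) {X : Subgroup S}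
    (hX : Nat.card ↥X = q) {x : S} (hx : x ∈ X) (hx1 : x ≠ 1) : Subgroup.zpowers x = X := by
  apply Subgroup.eq_of_le_of_card_ge ((Subgroup.zpowers_le).mpr hx)
  rw [hX, Nat.card_zpowers]
  have hd : orderOf x ∣ q := hX ▸ Subgroup.orderOf_dvd_natCard X hx
  rcases (Nat.dvd_prime hq).mp hd with h | h
  · exact absurd (orderOf_eq_one_iff.mp h) hx1
  · exact h.ge

/-- Let S = PQ be a finite group with P a normal Sylow p-subgroup and Q elementary abelian of order q², q a prime different from p. If exactly two subgroups X₁, X₂ of order q in Q have a nontrivial centralizer in P, then P is the internal direct product of C_P(X₁) and C_P(X₂): they commute elementwise, meet trivially and generate P. -/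
theorem result {S : Type*} [Group S] [Finite S] {p q : ℕ} [Fact p.Prime] [Fact q.Prime] (hpq : p ≠ q)
    (P : Sylow p S) [(P : Subgroup S).Normal] (Q : Subgroup S) (hQ : Cfsg.IsElementaryAbelian q Q) (hQc : Nat.card Q = q ^ 2)
    (hS : (P : Subgroup S) ⊔ Q = ⊤)
    (X₁ X₂ : Subgroup S) (h₁ : X₁ ≤ Q) (h₂ : X₂ ≤ Q) (h₁₂ : X₁ ≠ X₂) (hc₁ : Nat.card X₁ = q) (hc₂ : Nat.card X₂ = q)
    (hf₁ : (P : Subgroup S) ⊓ Subgroup.centralizer (X₁ : Set S) ≠ ⊥)
    (hf₂ : (P : Subgroup S) ⊓ Subgroup.centralizer (X₂ : Set S) ≠ ⊥)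
    (honly : ∀ X : Subgroup S, X ≤ Q → Nat.card X = q →
      (P : Subgroup S) ⊓ Subgroup.centralizer (X : Set S) ≠ ⊥ → X = X₁ ∨ X = X₂) :
    ⁅(P : Subgroup S) ⊓ Subgroup.centralizer (X₁ : Set S), (P : Subgroup S) ⊓ Subgroup.centralizer (X₂ : Set S)⁆ = ⊥ ∧
      ((P : Subgroup S) ⊓ Subgroup.centralizer (X₁ : Set S)) ⊓ ((P : Subgroup S) ⊓ Subgroup.centralizer (X₂ : Set S)) = ⊥ ∧
      ((P : Subgroup S) ⊓ Subgroup.centralizer (X₁ : Set S)) ⊔ ((P : Subgroup S) ⊓ Subgroup.centralizer (X₂ : Set S)) = P := by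
  have hp : p.Prime := Fact.out
  have hq : q.Prime := Fact.out
  have hPn : (P : Subgroup S).Normal := inferInstance
  have hPp : IsPGroup p ↥(P : Subgroup S) := P.isPGroup'
  haveI hQcomm : IsMulCommutative ↥Q := hQ.1
  have hQc' : ∀ a ∈ Q, ∀ b ∈ Q, a * b = b * a := by
    intro a ha b hb
    have := hQcomm.is_comm.comm (⟨a, ha⟩ : ↥Q) ⟨b, hb⟩
    exact congrArg Subtype.val this
  obtain ⟨P₁, hP₁⟩ : ∃ P₁ : Subgroup S, P₁ = (P : Subgroup S) ⊓ Subgroup.centralizer (X₁ : Set S) :=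
    ⟨_, rfl⟩
  obtain ⟨P₂, hP₂⟩ : ∃ P₂ : Subgroup S, P₂ = (P : Subgroup S) ⊓ Subgroup.centralizer (X₂ : Set S) :=
    ⟨_, rfl⟩
  rw [← hP₁, ← hP₂]
  have hP₁P : P₁ ≤ (P : Subgroup S) := hP₁ ▸ inf_le_left
  have hP₂P : P₂ ≤ (P : Subgroup S) := hP₂ ▸ inf_le_left
  have hP₁C : P₁ ≤ Subgroup.centralizer (X₁ : Set S) := hP₁ ▸ inf_le_right
  have hP₂C : P₂ ≤ Subgroup.centralizer (X₂ : Set S) := hP₂ ▸ inf_le_right
  -- coprimality and solvability for subgroups of P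
  have hcopQ : ∀ Y : Subgroup S, Y ≤ (P : Subgroup S) → (Nat.card ↥Q).Coprime (Nat.card ↥Y) := by
    intro Y hY
    obtain ⟨k, hk⟩ := IsPGroup.iff_card.mp (hPp.to_le hY)
    rw [hk, hQc]
    exact Nat.Coprime.pow _ _ ((Nat.coprime_primes hq hp).mpr (Ne.symm hpq))
  have hcopX : ∀ X : Subgroup S, X ≤ Q → ∀ Y : Subgroup S, Y ≤ (P : Subgroup S) →
      (Nat.card ↥X).Coprime (Nat.card ↥Y) := fun X hX Y hY =>
    Nat.Coprime.coprime_dvd_left (Subgroup.card_dvd_of_le hX) (hcopQ Y hY)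
  have hsolv : ∀ Y : Subgroup S, Y ≤ (P : Subgroup S) → Group.IsSolvable ↥Y := by
    intro Y hY
    haveI : Group.IsNilpotent ↥Y := (hPp.to_le hY).isNilpotent
    infer_instance
  -- Q normalizes everything in sight
  have hQP : Q ≤ Subgroup.normalizer ((P : Subgroup S) : Set S) := by
    rw [Subgroup.normalizer_eq_top_iff.mpr hPn]; exact le_top
  have hQCX : ∀ X : Subgroup S, X ≤ Q →
      Q ≤ Subgroup.normalizer ((Subgroup.centralizer (X : Set S) : Subgroup S) : Set S) := by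
    intro X hX
    refine le_trans ?_ Subgroup.le_normalizer
    intro a ha
    rw [Subgroup.mem_centralizer_iff]
    intro x hx
    exact hQc' x (hX hx) a ha
  have hQP₁ : Q ≤ Subgroup.normalizer (P₁ : Set S) := by
    rw [hP₁]; exact le_trans (le_inf hQP (hQCX X₁ h₁)) (normalizer_inf_le _ _)
  have hQP₂ : Q ≤ Subgroup.normalizer (P₂ : Set S) := by
    rw [hP₂]; exact le_trans (le_inf hQP (hQCX X₂ h₂)) (normalizer_inf_le _ _)
  -- generators
  have hX₁ne : X₁ ≠ ⊥ := by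
    intro h; rw [h, Subgroup.card_bot] at hc₁; exact hq.one_lt.ne hc₁
  have hX₂ne : X₂ ≠ ⊥ := by
    intro h; rw [h, Subgroup.card_bot] at hc₂; exact hq.one_lt.ne hc₂
  obtain ⟨⟨x₁, hx₁⟩, hx₁1'⟩ := (Subgroup.ne_bot_iff_exists_ne_one.mp hX₁ne)
  obtain ⟨⟨x₂, hx₂⟩, hx₂1'⟩ := (Subgroup.ne_bot_iff_exists_ne_one.mp hX₂ne)
  have hx₁1 : x₁ ≠ 1 := fun h => hx₁1' (Subtype.ext h)
  have hx₂1 : x₂ ≠ 1 := fun h => hx₂1' (Subtype.ext h)
  have hz₁ : Subgroup.zpowers x₁ = X₁ := zpowers_eq_of_card_prime hq hc₁ hx₁ hx₁1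
  have hz₂ : Subgroup.zpowers x₂ = X₂ := zpowers_eq_of_card_prime hq hc₂ hx₂ hx₂1
  -- x₂ ∉ X₁
  have hx₂X₁ : x₂ ∉ X₁ := by
    intro h
    apply h₁₂
    have hle : X₂ ≤ X₁ := by rw [← hz₂]; exact (Subgroup.zpowers_le).mpr h
    exact (Subgroup.eq_of_le_of_card_ge hle (by rw [hc₁, hc₂])).symm
  have hx₁X₂ : x₁ ∉ X₂ := by
    intro h
    apply h₁₂
    have hle : X₁ ≤ X₂ := by rw [← hz₁]; exact (Subgroup.zpowers_le).mpr h
    exact Subgroup.eq_of_le_of_card_ge hle (by rw [hc₁, hc₂])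
  -- the third subgroup
  have hx₃Q : x₁ * x₂ ∈ Q := Q.mul_mem (h₁ hx₁) (h₂ hx₂)
  have hx₃1 : x₁ * x₂ ≠ 1 := by
    intro h
    apply hx₂X₁
    have : x₂ = x₁⁻¹ := eq_inv_of_mul_eq_one_right h
    rw [this]; exact X₁.inv_mem hx₁
  have hx₃ord : orderOf (x₁ * x₂) = q := by
    have hd : orderOf (x₁ * x₂) ∣ q := orderOf_dvd_of_pow_eq_one (hQ.2 _ hx₃Q)
    rcases (Nat.dvd_prime hq).mp hd with h | h
    · exact absurd (orderOf_eq_one_iff.mp h) hx₃1
    · exact h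
  have hX₃ : (P : Subgroup S) ⊓ Subgroup.centralizer ((Subgroup.zpowers (x₁ * x₂) : Subgroup S) : Set S) = ⊥ := by
    by_contra hne
    rcases honly (Subgroup.zpowers (x₁ * x₂)) ((Subgroup.zpowers_le).mpr hx₃Q)
      (by rw [Nat.card_zpowers, hx₃ord]) hne with h | h
    · apply hx₂X₁
      have h3 : x₁ * x₂ ∈ X₁ := h ▸ Subgroup.mem_zpowers _
      have : x₂ = x₁⁻¹ * (x₁ * x₂) := by group
      rw [this]; exact X₁.mul_mem (X₁.inv_mem hx₁) h3
    · apply hx₁X₂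
      have h3 : x₁ * x₂ ∈ X₂ := h ▸ Subgroup.mem_zpowers _
      have : x₁ = (x₁ * x₂) * x₂⁻¹ := by group
      rw [this]; exact X₂.mul_mem h3 (X₂.inv_mem hx₂)
  -- C_P(Q) = 1
  have hdisj : P₁ ⊓ P₂ = ⊥ := by
    rw [eq_bot_iff, ← hX₃]
    refine le_inf (inf_le_left.trans hP₁P) ?_
    rw [Subgroup.le_centralizer_iff, Subgroup.zpowers_le]
    apply Subgroup.mul_mem
    · exact (Subgroup.le_centralizer_iff.mp (inf_le_left.trans hP₁C)) hx₁
    · exact (Subgroup.le_centralizer_iff.mp (inf_le_right.trans hP₂C)) hx₂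
  -- Q is not cyclic
  have hQnc : ¬ IsCyclic ↥Q := by
    intro hcyc
    obtain ⟨g, hg⟩ := hcyc.exists_generator
    have h1 : orderOf g = Nat.card ↥Q := orderOf_eq_card_of_forall_mem_zpowers hg
    have h2 : g ^ q = 1 := Subtype.ext (by rw [Subgroup.coe_pow, Subgroup.coe_one]; exact hQ.2 _ g.2)
    have h3 : orderOf g ∣ q := orderOf_dvd_of_pow_eq_one h2
    rw [h1, hQc] at h3
    have := Nat.le_of_dvd hq.pos h3
    have h4 : q < q ^ 2 := by nlinarith [hq.one_lt]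
    omega
  -- generation
  have hgen : ∀ Y : Subgroup S, Y ≤ (P : Subgroup S) → Q ≤ Subgroup.normalizer (Y : Set S) →
      Y ≤ (Y ⊓ Subgroup.centralizer (X₁ : Set S)) ⊔ (Y ⊓ Subgroup.centralizer (X₂ : Set S)) := by
    intro Y hY hQY
    have h58 := Cfsg.Agent.S0058.result Q Y hQnc hQY (hcopQ Y hY)
    refine le_trans (le_of_eq h58.symm) ?_
    apply iSup₂_le
    rintro a ⟨haQ, ha1⟩
    have hcard : Nat.card ↥(Subgroup.zpowers a) = q := by
      rw [Nat.card_zpowers]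
      have hd : orderOf a ∣ q := orderOf_dvd_of_pow_eq_one (hQ.2 _ haQ)
      rcases (Nat.dvd_prime hq).mp hd with h | h
      · exact absurd (orderOf_eq_one_iff.mp h) ha1
      · exact h
    have hcz : Subgroup.centralizer ({a} : Set S) ≤
        Subgroup.centralizer ((Subgroup.zpowers a : Subgroup S) : Set S) := by
      intro g hg
      rw [Subgroup.mem_centralizer_singleton_iff] at hg
      rw [Subgroup.mem_centralizer_iff]
      rintro _ ⟨k, rfl⟩
      exact ((Commute.zpow_right (show Commute g a from hg) k)).symm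
    by_cases hX : (P : Subgroup S) ⊓
        Subgroup.centralizer ((Subgroup.zpowers a : Subgroup S) : Set S) = ⊥
    · have : Y ⊓ Subgroup.centralizer ({a} : Set S) ≤ ⊥ := by
        rw [← hX]; exact inf_le_inf hY hcz
      exact this.trans bot_le
    · rcases honly _ ((Subgroup.zpowers_le).mpr haQ) hcard hX with h | h
      · rw [h] at hcz
        have h5 : Y ⊓ Subgroup.centralizer ({a} : Set S) ≤ Y ⊓ Subgroup.centralizer (X₁ : Set S) :=
          inf_le_inf_left Y hcz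
        exact h5.trans le_sup_left
      · rw [h] at hcz
        have h5 : Y ⊓ Subgroup.centralizer ({a} : Set S) ≤ Y ⊓ Subgroup.centralizer (X₂ : Set S) :=
          inf_le_inf_left Y hcz
        exact h5.trans le_sup_right
  -- coprime: [A, X] = A when C_A(X) = 1
  have hcomm : ∀ (A X : Subgroup S), A ≤ (P : Subgroup S) → X ≤ Q →
      X ≤ Subgroup.normalizer (A : Set S) → A ⊓ Subgroup.centralizer (X : Set S) = ⊥ →
      ⁅A, X⁆ = A := by
    intro A X hA hX hXA hfix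
    have h26 := Cfsg.Agent.S0026.result X A hXA (hcopX X hX A hA) (Or.inr (hsolv A hA))
    rwa [hfix, sup_bot_eq] at h26
  -- C₂
  obtain ⟨C₂, hC₂⟩ : ∃ C₂ : Subgroup S, C₂ = P₂ ⊓ Subgroup.normalizer (P₁ : Set S) := ⟨_, rfl⟩
  have hC₂P₂ : C₂ ≤ P₂ := hC₂ ▸ inf_le_left
  have hC₂N : C₂ ≤ Subgroup.normalizer (P₁ : Set S) := hC₂ ▸ inf_le_right
  have hQC₂ : Q ≤ Subgroup.normalizer (C₂ : Set S) := by
    rw [hC₂]
    exact le_trans (le_inf hQP₂ (hQP₁.trans Subgroup.le_normalizer)) (normalizer_inf_le _ _)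
  have hC₂fix : C₂ ⊓ Subgroup.centralizer (X₁ : Set S) = ⊥ := by
    rw [eq_bot_iff, ← hdisj]
    refine le_inf ?_ (inf_le_left.trans hC₂P₂)
    rw [hP₁]
    exact le_inf (inf_le_left.trans (hC₂P₂.trans hP₂P)) inf_le_right
  have hC₂X₁ : ⁅C₂, X₁⁆ = C₂ :=
    hcomm C₂ X₁ (hC₂P₂.trans hP₂P) h₁ (h₁.trans hQC₂) hC₂fix
  have hP₁X₁ : ⁅P₁, X₁⁆ = ⊥ := by
    rw [Subgroup.commutator_eq_bot_iff_le_centralizer]; exact hP₁C
  have hC₂P₁ : ⁅C₂, P₁⁆ = ⊥ := comm_eq_bot_of_normalizes C₂ P₁ X₁ hP₁X₁ hC₂N hC₂X₁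
  -- [P₁, X₂] = P₁
  have hP₁fix : P₁ ⊓ Subgroup.centralizer (X₂ : Set S) = ⊥ := by
    rw [eq_bot_iff, ← hdisj]
    refine le_inf inf_le_left ?_
    rw [hP₂]
    exact le_inf (inf_le_left.trans hP₁P) inf_le_right
  have hP₁X₂ : ⁅P₁, X₂⁆ = P₁ := hcomm P₁ X₂ hP₁P h₂ (h₂.trans hQP₁) hP₁fix
  -- M = P₁ ⊔ C₂
  obtain ⟨M, hM⟩ : ∃ M : Subgroup S, M = P₁ ⊔ C₂ := ⟨_, rfl⟩
  have hMP : M ≤ (P : Subgroup S) := hM ▸ sup_le hP₁P (hC₂P₂.trans hP₂P)
  have hQM : Q ≤ Subgroup.normalizer (M : Set S) := by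
    rw [hM]
    exact le_trans (le_inf hQP₁ hQC₂) (Subgroup.normalizer_inf_normalizer_le_normalizer_sup _ _)
  have hMX₂ : ⁅M, X₂⁆ = P₁ := by
    apply le_antisymm
    · rw [Subgroup.commutator_le]
      intro m hm x hx
      have hm' : m ∈ ((P₁ ⊔ C₂ : Subgroup S) : Set S) := hM ▸ hm
      rw [Subgroup.coe_mul_of_right_le_normalizer_left P₁ C₂ hC₂N] at hm'
      obtain ⟨y, hy, c, hc, hyc⟩ := hm'
      have hyc' : m = y * c := hyc.symm
      rw [hyc']
      have hcx : c * x * c⁻¹ = x := by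
        have := Subgroup.mem_centralizer_iff.mp (hP₂C (hC₂P₂ hc)) x hx
        rw [← this]; group
      have hxn : x * y⁻¹ * x⁻¹ ∈ P₁ :=
        (Subgroup.mem_normalizer_iff.mp (hQP₁ (h₂ hx)) y⁻¹).mp (P₁.inv_mem hy)
      have e : ⁅y * c, x⁆ = y * (x * y⁻¹ * x⁻¹) := by
        rw [commutatorElement_def]
        calc y * c * x * (y * c)⁻¹ * x⁻¹ = y * (c * x * c⁻¹) * y⁻¹ * x⁻¹ := by group
          _ = y * x * y⁻¹ * x⁻¹ := by rw [hcx]
          _ = y * (x * y⁻¹ * x⁻¹) := by group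
      rw [e]
      exact P₁.mul_mem hy hxn
    · rw [← hP₁X₂]
      exact Subgroup.commutator_mono (hM ▸ le_sup_left) le_rfl
  -- M = P
  have hMeq : M = (P : Subgroup S) := by
    by_contra hne
    have hlt := card_lt_card_inf_normalizer hPp hMP hne
    obtain ⟨Y, hY⟩ : ∃ Y : Subgroup S, Y = (P : Subgroup S) ⊓ Subgroup.normalizer (M : Set S) :=
      ⟨_, rfl⟩
    rw [← hY] at hlt
    have hYP : Y ≤ (P : Subgroup S) := hY ▸ inf_le_left
    have hQY : Q ≤ Subgroup.normalizer (Y : Set S) := by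
      rw [hY]
      exact le_trans (le_inf hQP (hQM.trans Subgroup.le_normalizer)) (normalizer_inf_le _ _)
    have hYle : Y ≤ M := by
      refine (hgen Y hYP hQY).trans (sup_le ?_ ?_)
      · refine le_trans ?_ (hM ▸ le_sup_left : P₁ ≤ M)
        rw [hP₁]; exact inf_le_inf hYP le_rfl
      · refine le_trans ?_ (hM ▸ le_sup_right : C₂ ≤ M)
        -- B' = Y ⊓ C(X₂) normalizes [M, X₂] = P₁
        have hB1 : Y ⊓ Subgroup.centralizer (X₂ : Set S) ≤ Subgroup.normalizer (M : Set S) :=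
          inf_le_left.trans (hY ▸ inf_le_right)
        have hB2 : Y ⊓ Subgroup.centralizer (X₂ : Set S) ≤ Subgroup.normalizer (X₂ : Set S) :=
          inf_le_right.trans (Subgroup.centralizer_le_normalizer _)
        have hB3 := Cfsg.Agent.Lib.Lead.le_normalizer_commutator _ M X₂ hB1 hB2
        rw [hMX₂] at hB3
        rw [hC₂, hP₂]
        exact le_inf (inf_le_inf hYP le_rfl) hB3
    have := Subgroup.card_le_of_le hYle
    omega
  -- P₂ ≤ C₂
  have hP₂C₂ : P₂ ≤ C₂ := by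
    intro z hz
    have hz' : z ∈ ((P₁ ⊔ C₂ : Subgroup S) : Set S) := by
      rw [← hM, hMeq]; exact hP₂P hz
    rw [Subgroup.coe_mul_of_right_le_normalizer_left P₁ C₂ hC₂N] at hz'
    obtain ⟨y, hy, c, hc, hyc⟩ := hz'
    have hyc' : z = y * c := hyc.symm
    have hy2 : y ∈ P₂ := by
      have : y = z * c⁻¹ := by rw [hyc']; group
      rw [this]; exact P₂.mul_mem hz (P₂.inv_mem (hC₂P₂ hc))
    have : y ∈ P₁ ⊓ P₂ := ⟨hy, hy2⟩
    rw [hdisj, Subgroup.mem_bot] at this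
    rw [hyc', this, one_mul]; exact hc
  refine ⟨?_, hdisj, ?_⟩
  · rw [Subgroup.commutator_comm]
    exact le_bot_iff.mp (hC₂P₁ ▸ Subgroup.commutator_mono hP₂C₂ le_rfl)
  · apply le_antisymm (sup_le hP₁P hP₂P)
    rw [← hMeq, hM]
    exact sup_le_sup le_rfl hC₂P₂


end Cfsg.Agent.S1900
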