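import Cfsg.Statements.S1901
import Cfsg.Agent.Lib.Helper5.PConstr
import Cfsg.Agent.Lib.Helper13.ConjFamily
import Cfsg.Agent.Lib.Helper13.WellPlaced

set_option autoImplicit false
open Cfsg
open Cfsg.Agent.Lib.Helper13

namespace Cfsg.Agent.S1901

universe u

/-- A `p`-element and a `p'`-element that coincide are trivial (group version). -/
theorem eq_one_of_pow_of_coprime {G : Type*} [Group G] {k : G} {m n : ℕ} (h1 : k ^ m = 1)
    (h2 : k ^ n = 1) (hc : Nat.Coprime m n) : k = 1 := by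
  have hd1 : orderOf k ∣ m := orderOf_dvd_of_pow_eq_one h1
  have hd2 : orderOf k ∣ n := orderOf_dvd_of_pow_eq_one h2
  have : orderOf k = 1 := Nat.eq_one_of_dvd_coprimes hc hd1 hd2
  exact orderOf_eq_one_iff.mp this

theorem pow_card_of_mem {G : Type*} [Group G] {H : Subgroup G} {k : G} (hk : k ∈ H) :
    k ^ Nat.card ↥H = 1 := by
  have h := pow_card_eq_one' (G := ↥H) (x := ⟨k, hk⟩)
  have h' := congrArg Subtype.val h
  rwa [Subgroup.coe_pow, Subgroup.coe_one] at h'

/-- If `x` commutes with `k = x q x⁻¹ q⁻¹`, then `x^j q x^{-j} = k^j q`. -/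
theorem conj_pow_of_commute {G : Type*} [Group G] {x q k : G} (hk : k = x * q * x⁻¹ * q⁻¹)
    (hxk : x * k = k * x) (j : ℕ) : x ^ j * q * (x ^ j)⁻¹ = k ^ j * q := by
  have hxq : x * q * x⁻¹ = k * q := by rw [hk]; group
  induction j with
  | zero => simp
  | succ j ih =>
    have hc : x * k ^ j = k ^ j * x := Commute.pow_right hxk j
    have hc' : x * k ^ j * x⁻¹ = k ^ j := by rw [hc]; group
    calc x ^ (j + 1) * q * (x ^ (j + 1))⁻¹ = x * (x ^ j * q * (x ^ j)⁻¹) * x⁻¹ := by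
          rw [pow_succ']; group
      _ = x * (k ^ j * q) * x⁻¹ := by rw [ih]
      _ = (x * k ^ j * x⁻¹) * (x * q * x⁻¹) := by group
      _ = k ^ j * (k * q) := by rw [hc', hxq]
      _ = k ^ (j + 1) * q := by rw [pow_succ]; group

/-- The quotient step of the induction. -/
theorem quot_step {p : ℕ} [Fact p.Prime] {G : Type u} [Group G] [Finite G]
    (IH : ∀ (H : Type u) [Group H] [Finite H], Nat.card H < Nat.card G → IsPSolvable p H →
      ∀ (P Q X : Subgroup H), IsPGroup p ↥P → ¬ p ∣ P.index → ¬ p ∣ Nat.card ↥Q →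
        Q ≤ Subgroup.normalizer (P : Set H) → IsPGroup p ↥X → X ≤ Subgroup.normalizer (Q : Set H) →
        X ≤ Subgroup.centralizer (Q : Set H))
    (hsol : IsPSolvable p G) (P Q X : Subgroup G) (hP : IsPGroup p ↥P) (hPi : ¬ p ∣ P.index)
    (hQ : ¬ p ∣ Nat.card ↥Q) (hQP : Q ≤ Subgroup.normalizer (P : Set G)) (hX : IsPGroup p ↥X)
    (hXQ : X ≤ Subgroup.normalizer (Q : Set G)) (M : Subgroup G) [M.Normal] (hM : M ≠ ⊥) :
    ∀ x ∈ X, ∀ q ∈ Q, x * q * x⁻¹ * q⁻¹ ∈ M := by
  have hcard : Nat.card (G ⧸ M) < Nat.card G := by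
    have h1 := Subgroup.card_eq_card_quotient_mul_card_subgroup M
    have h2 : 1 < Nat.card ↥M := (Subgroup.one_lt_card_iff_ne_bot _).mpr hM
    have h3 : 0 < Nat.card (G ⧸ M) := Nat.card_pos
    rw [h1]
    nlinarith
  have hπ : Function.Surjective (QuotientGroup.mk' M) := QuotientGroup.mk'_surjective M
  have key := IH (G ⧸ M) hcard
    (Cfsg.Agent.Lib.Helper5.h5_isPSolvable_of_surjective _ hπ hsol)
    (P.map (QuotientGroup.mk' M)) (Q.map (QuotientGroup.mk' M)) (X.map (QuotientGroup.mk' M))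
    (hP.map _) (fun h => hPi (dvd_trans h (Subgroup.index_map_dvd P hπ)))
    (fun h => hQ (dvd_trans h (Subgroup.card_map_dvd Q _)))
    ((Subgroup.map_mono hQP).trans (Subgroup.le_normalizer_map _))
    (hX.map _)
    ((Subgroup.map_mono hXQ).trans (Subgroup.le_normalizer_map _))
  intro x hx q hq
  have h1 : (QuotientGroup.mk' M) x ∈ Subgroup.centralizer
      ((Q.map (QuotientGroup.mk' M) : Subgroup (G ⧸ M)) : Set (G ⧸ M)) :=
    key (Subgroup.mem_map_of_mem _ hx)
  have h2 := Subgroup.mem_centralizer_iff.mp h1 _ (Subgroup.mem_map_of_mem _ hq)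
  rw [← QuotientGroup.eq_one_iff, ← QuotientGroup.mk'_apply]
  simp only [map_mul, map_inv]
  rw [← h2]
  group

/-- In a finite `p`-solvable group, if a `p'`-subgroup `Q` normalizes a Sylow `p`-subgroup, then
every `p`-subgroup of `N_G(Q)` centralizes `Q`. -/
theorem claim (p : ℕ) [Fact p.Prime] : ∀ (n : ℕ) (G : Type u) [Group G] [Finite G],
    Nat.card G = n → IsPSolvable p G →
    ∀ (P Q X : Subgroup G), IsPGroup p ↥P → ¬ p ∣ P.index → ¬ p ∣ Nat.card ↥Q →
      Q ≤ Subgroup.normalizer (P : Set G) → IsPGroup p ↥X → X ≤ Subgroup.normalizer (Q : Set G) →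
      X ≤ Subgroup.centralizer (Q : Set G) := by
  have hp : p.Prime := Fact.out
  intro n
  induction n using Nat.strong_induction_on with
  | _ n ih =>
  intro G _ _ hn hsol P Q X hP hPi hQ hQP hX hXQ
  have IH : ∀ (H : Type u) [Group H] [Finite H], Nat.card H < Nat.card G → IsPSolvable p H →
      ∀ (P Q X : Subgroup H), IsPGroup p ↥P → ¬ p ∣ P.index → ¬ p ∣ Nat.card ↥Q →
        Q ≤ Subgroup.normalizer (P : Set H) → IsPGroup p ↥X → X ≤ Subgroup.normalizer (Q : Set H) →
        X ≤ Subgroup.centralizer (Q : Set H) := by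
    intro H _ _ hlt hs
    exact ih (Nat.card H) (hn ▸ hlt) H rfl hs
  have hQcop : Nat.Coprime (Nat.card ↥Q) p :=
    ((Nat.Prime.coprime_iff_not_dvd hp).mpr hQ).symm
  -- commutators lie in Q
  have hcommQ : ∀ x ∈ X, ∀ q ∈ Q, x * q * x⁻¹ * q⁻¹ ∈ Q := fun x hx q hq =>
    Q.mul_mem ((Subgroup.mem_normalizer_iff.mp (hXQ hx) q).mp hq) (Q.inv_mem hq)
  by_cases hK : pPrimeCore p G = ⊥
  · -- O_{p'}(G) = 1 : use R = O_p(G)
    by_cases hR : pCore p G = ⊥
    · have h1 := Cfsg.Agent.Lib.Helper5.h5_centralizer_pCore_le hsol hK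
      rw [hR] at h1
      intro x _
      have : x ∈ (⊥ : Subgroup G) := h1 (by
        rw [Subgroup.mem_centralizer_iff]
        intro h hh
        have : h = 1 := hh
        rw [this]; simp)
      rw [Subgroup.mem_bot] at this
      rw [this]; exact Subgroup.one_mem _
    · have hRp : IsPGroup p ↥(pCore p G) := Cfsg.Agent.Lib.Helper1.pCore_isPGroup p
      have hstep := quot_step IH hsol P Q X hP hPi hQ hQP hX hXQ (pCore p G) hR
      intro x hx
      rw [Subgroup.mem_centralizer_iff]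
      intro q hq
      have h1 := hstep x hx q hq
      have h2 := hcommQ x hx q hq
      -- element of a p-group and of a p'-group
      obtain ⟨j, hj⟩ := hRp ⟨_, h1⟩
      have h3 : (x * q * x⁻¹ * q⁻¹) ^ p ^ j = 1 := by
        have := congrArg Subtype.val hj
        simpa using this
      have h4 : (x * q * x⁻¹ * q⁻¹) ^ Nat.card ↥Q = 1 := pow_card_of_mem h2
      have h5 := eq_one_of_pow_of_coprime h4 h3 (Nat.Coprime.pow_right j hQcop)
      calc q * x = (x * q * x⁻¹ * q⁻¹)⁻¹ * (x * q) := by group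
        _ = x * q := by rw [h5]; group
  · -- K = O_{p'}(G) ≠ 1
    have hKn : (pPrimeCore p G).Normal := Cfsg.Agent.Lib.Helper1.pPrimeCore_normal p
    have hKcop : (Nat.card ↥(pPrimeCore p G)).Coprime p :=
      Cfsg.Agent.Lib.Helper1.pPrimeCore_card_coprime p
    have hstep := quot_step IH hsol P Q X hP hPi hQ hQP hX hXQ (pPrimeCore p G) hK
    obtain ⟨Q₂, hQ₂⟩ : ∃ Q₂ : Subgroup G, Q₂ = Q ⊓ pPrimeCore p G := ⟨_, rfl⟩
    have hQ₂Q : Q₂ ≤ Q := hQ₂ ▸ inf_le_left
    have hQ₂K : Q₂ ≤ pPrimeCore p G := hQ₂ ▸ inf_le_right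
    -- Q₂ centralizes P
    have hPC : P ≤ Subgroup.centralizer (Q₂ : Set G) := by
      intro y hy
      rw [Subgroup.mem_centralizer_iff]
      intro q hq
      have h1 : q * y * q⁻¹ * y⁻¹ ∈ P :=
        P.mul_mem ((Subgroup.mem_normalizer_iff.mp (hQP (hQ₂Q hq)) y).mp hy) (P.inv_mem hy)
      have h2 : q * y * q⁻¹ * y⁻¹ ∈ pPrimeCore p G := by
        have : q * y * q⁻¹ * y⁻¹ = q * (y * q⁻¹ * y⁻¹) := by group
        rw [this]
        exact Subgroup.mul_mem _ (hQ₂K hq) (hKn.conj_mem _ (Subgroup.inv_mem _ (hQ₂K hq)) y)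
      obtain ⟨j, hj⟩ := hP ⟨_, h1⟩
      have h3 : (q * y * q⁻¹ * y⁻¹) ^ p ^ j = 1 := by
        have := congrArg Subtype.val hj
        simpa using this
      have h4 : (q * y * q⁻¹ * y⁻¹) ^ Nat.card ↥(pPrimeCore p G) = 1 := pow_card_of_mem h2
      have h5 := eq_one_of_pow_of_coprime h4 h3 (Nat.Coprime.pow_right j hKcop)
      calc q * y = (q * y * q⁻¹ * y⁻¹) * (y * q) := by group
        _ = y * q := by rw [h5, one_mul]
    -- X normalizes Q₂
    have hXQ₂ : X ≤ Subgroup.normalizer (Q₂ : Set G) := by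
      intro x hx
      apply mem_normalizer_of_cj_le
      rintro _ ⟨q, hq, rfl⟩
      rw [hQ₂] at hq ⊢
      exact ⟨(Subgroup.mem_normalizer_iff.mp (hXQ hx) q).mp hq.1, hKn.conj_mem _ hq.2 x⟩
    -- X centralizes Q₂
    have hPN : P ≤ Subgroup.normalizer (Q₂ : Set G) := hPC.trans (Subgroup.centralizer_le_normalizer _)
    have hPiN : ¬ p ∣ P.relIndex (Subgroup.normalizer (Q₂ : Set G)) := fun h =>
      hPi (dvd_trans h (Subgroup.relIndex_dvd_index_of_le hPN))
    obtain ⟨m, hmN, hm⟩ := exists_mem_cj_le_of_relIndex hPN hP hPiN hXQ₂ hX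
    have hXC₂ : X ≤ Subgroup.centralizer (Q₂ : Set G) := by
      intro x hx
      have h1 : m * x * m⁻¹ ∈ Subgroup.centralizer (Q₂ : Set G) := hPC (hm (cj_mem hx))
      rw [Subgroup.mem_centralizer_iff] at h1 ⊢
      intro q hq
      have hq' : m * q * m⁻¹ ∈ Q₂ := (Subgroup.mem_normalizer_iff.mp hmN q).mp hq
      have h2 := h1 _ hq'
      calc q * x = m⁻¹ * ((m * q * m⁻¹) * (m * x * m⁻¹)) * m := by group
        _ = m⁻¹ * ((m * x * m⁻¹) * (m * q * m⁻¹)) * m := by rw [h2]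
        _ = x * q := by group
    -- conclusion
    intro x hx
    rw [Subgroup.mem_centralizer_iff]
    intro q hq
    obtain ⟨k, hk⟩ : ∃ k, k = x * q * x⁻¹ * q⁻¹ := ⟨_, rfl⟩
    have hkQ₂ : k ∈ Q₂ := by
      rw [hQ₂, hk]; exact ⟨hcommQ x hx q hq, hstep x hx q hq⟩
    have hxk : x * k = k * x := (Subgroup.mem_centralizer_iff.mp (hXC₂ hx) k hkQ₂).symm
    obtain ⟨j, hj⟩ := hX ⟨x, hx⟩
    have hxj : x ^ p ^ j = 1 := by
      have := congrArg Subtype.val hj
      simpa using this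
    have h1 := conj_pow_of_commute hk hxk (p ^ j)
    rw [hxj, one_mul, inv_one, mul_one] at h1
    have h2 : k ^ p ^ j = 1 := by
      have : k ^ p ^ j * q = 1 * q := by rw [one_mul]; exact h1.symm
      exact mul_right_cancel this
    have h3 : k ^ Nat.card ↥Q = 1 := pow_card_of_mem (hQ₂Q hkQ₂)
    have h5 := eq_one_of_pow_of_coprime h3 h2 (Nat.Coprime.pow_right j hQcop)
    calc q * x = k⁻¹ * (x * q) := by rw [hk]; group
      _ = x * q := by rw [h5]; group

/-- Let G be a finite p-solvable group and Q a subgroup of order prime to p such that p divides the index of C_G(Q) in N_G(Q). Then Q normalizes no Sylow p-subgroup of G. -/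
theorem result {G : Type*} [Group G] [Finite G] {p : ℕ} [Fact p.Prime]
    (hG : Cfsg.IsPSolvable p G) (Q : Subgroup G) (hQ : ¬ p ∣ Nat.card Q)
    (hA : p ∣ (Subgroup.centralizer (Q : Set G)).relIndex (Subgroup.normalizer (Q : Set G)))
    (P : Sylow p G) : ¬ Q ≤ Subgroup.normalizer ((P : Subgroup G) : Set G) := by
  intro hQP
  obtain ⟨X, -, hXN, hXp, hXi⟩ := exists_sylow_between (p := p)
    (bot_le : (⊥ : Subgroup G) ≤ Subgroup.normalizer (Q : Set G)) (IsPGroup.of_bot)
  have hXC := claim p (Nat.card G) G rfl hG (P : Subgroup G) Q X P.isPGroup' P.not_dvd_index hQ hQP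
    hXp hXN
  exact hXi (dvd_trans hA (Subgroup.relIndex_dvd_of_le_left _ hXC))

end Cfsg.Agent.S1901
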