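import Cfsg.Statements.S1905
import Cfsg.Agent.S1875
import Cfsg.Agent.Lib.Helper13.StrEmb
import Mathlib.Combinatorics.Pigeonhole

set_option autoImplicit false
open Cfsg

namespace Cfsg.Agent.S1905

open Cfsg.Agent.Lib.Helper13

section aux
variable {G : Type*} [Group G] [Finite G] (M : Subgroup G)

open Classical in
/-- Counting lemma: the number of involutions of `G` is `|G : M|` times the number of
involutions of `M`. -/
theorem card_invol_eq [Fintype G]
    (hC : ∀ i ∈ M, orderOf i = 2 → Subgroup.centralizer ({i} : Set G) ≤ M)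
    (hconj : ∀ x y : G, orderOf x = 2 → orderOf y = 2 → IsConj x y)
    (hconjM : ∀ x y : M, orderOf x = 2 → orderOf y = 2 → IsConj x y)
    {z : G} (hz : z ∈ M) (hz2 : orderOf z = 2) :
    (Finset.univ.filter (fun u : G => orderOf u = 2)).card =
      ((Finset.univ.filter (fun u : G => orderOf u = 2)).filter (· ∈ M)).card * M.index := by
  classical
  set Inv := Finset.univ.filter (fun u : G => orderOf u = 2) with hInv
  set InvM := Inv.filter (· ∈ M) with hInvM
  set c := Nat.card ↥(Subgroup.centralizer ({z} : Set G)) with hc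
  have hcpos : 0 < c := Nat.card_pos
  -- class of z in G
  have h1 : Inv.card * c = Nat.card G := by
    rw [← Cfsg.Agent.S1875.card_conj_mul_card_centralizer z]
    congr 1
    rw [Nat.card_eq_fintype_card, Fintype.card_subtype, hInv]
    congr 1
    apply Finset.filter_congr
    intro y _
    constructor
    · intro hy; exact (hconj z y hz2 hy)
    · intro hy
      obtain ⟨g, hg⟩ := isConj_iff.mp hy
      rw [← hg, orderOf_conj']; exact hz2
  -- class of z in M
  have hI2 : orderOf (⟨z, hz⟩ : M) = 2 := by rw [Subgroup.orderOf_mk]; exact hz2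
  have h2 : InvM.card * c = Nat.card M := by
    rw [← Cfsg.Agent.S1875.card_conj_mul_card_centralizer (⟨z, hz⟩ : M)]
    congr 1
    · have e : {y : ↥M // IsConj (⟨z, hz⟩ : M) y} ≃ {u : G // u ∈ InvM} :=
        { toFun := fun y => ⟨(y.1 : G), by
            rw [hInvM, hInv, Finset.mem_filter, Finset.mem_filter]
            refine ⟨⟨Finset.mem_univ _, ?_⟩, y.1.2⟩
            obtain ⟨g, hg⟩ := isConj_iff.mp y.2
            rw [Subgroup.orderOf_coe, ← hg, orderOf_conj']; exact hI2⟩
          invFun := fun u => ⟨⟨u.1, (Finset.mem_filter.mp u.2).2⟩, by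
            apply hconjM _ _ hI2
            rw [Subgroup.orderOf_mk]
            exact (Finset.mem_filter.mp (Finset.mem_filter.mp u.2).1).2⟩
          left_inv := fun y => rfl
          right_inv := fun u => rfl }
      rw [Nat.card_congr e, Nat.card_eq_fintype_card, Fintype.card_coe]
    · have e : ↥(Subgroup.centralizer ({z} : Set G)) ≃
          ↥(Subgroup.centralizer ({(⟨z, hz⟩ : M)} : Set M)) :=
        { toFun := fun g => ⟨⟨g.1, hC z hz hz2 g.2⟩, by
            rw [Subgroup.mem_centralizer_singleton_iff]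
            apply Subtype.ext
            exact Subgroup.mem_centralizer_singleton_iff.mp g.2⟩
          invFun := fun x => ⟨(x.1 : G), by
            rw [Subgroup.mem_centralizer_singleton_iff]
            have := Subgroup.mem_centralizer_singleton_iff.mp x.2
            exact congrArg Subtype.val this⟩
          left_inv := fun g => rfl
          right_inv := fun x => rfl }
      rw [hc, Nat.card_congr e]
  have h3 : Nat.card M * M.index = Nat.card G := Subgroup.card_mul_index M
  have : Inv.card * c = InvM.card * M.index * c := by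
    rw [h1, ← h3, ← h2]; ring
  exact Nat.eq_of_mul_eq_mul_right hcpos this

/-- Bender's counting: there is an involution `t ∉ M` such that every involution of `M` is
of the form `(t s) z (t s)⁻¹` for an involution `s ∈ tM`. -/
theorem exists_invol_fiber_surj (hM : Even (Nat.card M))
    (hC : ∀ i ∈ M, orderOf i = 2 → Subgroup.centralizer ({i} : Set G) ≤ M)
    (hcore : Odd (Nat.card M.normalCore))
    (hconj : ∀ x y : G, orderOf x = 2 → orderOf y = 2 → IsConj x y)
    (hconjM : ∀ x y : M, orderOf x = 2 → orderOf y = 2 → IsConj x y)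
    {z : G} (hz : z ∈ M) (hz2 : orderOf z = 2) :
    ∃ t, orderOf t = 2 ∧ t ∉ M ∧ ∀ u ∈ M, orderOf u = 2 →
      ∃ s, orderOf s = 2 ∧ t * s ∈ M ∧ u = (t * s) * z * (t * s)⁻¹ := by
  classical
  let _ : Fintype G := Fintype.ofFinite G
  set Inv := Finset.univ.filter (fun u : G => orderOf u = 2) with hInv
  set InvM := Inv.filter (· ∈ M) with hInvM
  set InvOut := Inv.filter (· ∉ M) with hInvOut
  have hcard := card_invol_eq M hC hconj hconjM hz hz2
  have hsplit : InvM.card + InvOut.card = Inv.card :=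
    Finset.card_filter_add_card_filter_not _
  have hzIn : z ∈ InvM := by
    rw [hInvM, hInv, Finset.mem_filter, Finset.mem_filter]
    exact ⟨⟨Finset.mem_univ _, hz2⟩, hz⟩
  have hmpos : 0 < InvM.card := Finset.card_pos.mpr ⟨z, hzIn⟩
  -- the pigeonhole
  set T : Finset (G ⧸ M) := Finset.univ.erase ((1 : G) : G ⧸ M) with hT
  have hTcard : T.card + 1 = M.index := by
    rw [hT, Finset.card_erase_of_mem (Finset.mem_univ _), Finset.card_univ,
      ← Nat.card_eq_fintype_card, ← Subgroup.index_eq_card]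
    have : 0 < M.index := Nat.pos_of_ne_zero M.index_ne_zero_of_finite
    omega
  have hf : ∀ u ∈ InvOut, ((u : G) : G ⧸ M) ∈ T := by
    intro u hu
    rw [hT, Finset.mem_erase]
    refine ⟨?_, Finset.mem_univ _⟩
    intro h
    rw [QuotientGroup.eq] at h
    have hu' := (Finset.mem_filter.mp hu).2
    apply hu'
    have := M.inv_mem h
    simpa using this
  obtain ⟨t1, ht12, ht1M⟩ := exists_invol_notMem M hM hcore
  have ht1 : t1 ∈ InvOut := by
    rw [hInvOut, hInv, Finset.mem_filter, Finset.mem_filter]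
    exact ⟨⟨Finset.mem_univ _, ht12⟩, ht1M⟩
  have hTne : T.Nonempty := ⟨_, hf t1 ht1⟩
  have hle : T.card * InvM.card ≤ InvOut.card := by
    have : InvOut.card = T.card * InvM.card := by
      have h1 : InvM.card + InvOut.card = InvM.card * (T.card + 1) := by
        rw [hsplit, hcard, hTcard]
      rw [mul_add, mul_one] at h1
      rw [mul_comm T.card]
      omega
    rw [this]
  obtain ⟨y, _, hy⟩ := Finset.exists_le_card_fiber_of_mul_le_card_of_maps_to hf hTne hle
  set F := InvOut.filter (fun u => ((u : G) : G ⧸ M) = y) with hF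
  have hFne : F.Nonempty := Finset.card_pos.mp (lt_of_lt_of_le hmpos hy)
  obtain ⟨t, ht⟩ := hFne
  have htF := Finset.mem_filter.mp ht
  have htOut := Finset.mem_filter.mp htF.1
  have ht2 : orderOf t = 2 := (Finset.mem_filter.mp htOut.1).2
  have htM : t ∉ M := htOut.2
  have htinv : t⁻¹ = t := inv_eq_self_of_orderOf_two ht2
  refine ⟨t, ht2, htM, ?_⟩
  -- facts about members of F
  have hFmem : ∀ s ∈ F, orderOf s = 2 ∧ s ∉ M ∧ t * s ∈ M := by
    intro s hs
    have hsF := Finset.mem_filter.mp hs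
    have hsOut := Finset.mem_filter.mp hsF.1
    refine ⟨(Finset.mem_filter.mp hsOut.1).2, hsOut.2, ?_⟩
    have : ((t : G) : G ⧸ M) = ((s : G) : G ⧸ M) := by rw [htF.2, hsF.2]
    rw [QuotientGroup.eq, htinv] at this
    exact this
  set φ : G → G := fun s => (t * s) * z * (t * s)⁻¹ with hφ
  have hφmaps : ∀ s ∈ F, φ s ∈ InvM := by
    intro s hs
    obtain ⟨_, _, hts⟩ := hFmem s hs
    rw [hInvM, hInv, Finset.mem_filter, Finset.mem_filter]
    refine ⟨⟨Finset.mem_univ _, ?_⟩, ?_⟩
    · rw [hφ]; simp only; rw [orderOf_conj']; exact hz2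
    · exact M.mul_mem (M.mul_mem hts hz) (M.inv_mem hts)
  have hφinj : Set.InjOn φ (F : Set G) := by
    intro s hs s' hs' hss'
    obtain ⟨hs2, hsM, _⟩ := hFmem s hs
    obtain ⟨hs'2, _, _⟩ := hFmem s' hs'
    apply invol_eq_of_conj_eq M hC hz hz2 hs2 hsM hs'2
    have e : ∀ r : G, orderOf r = 2 → r * z * r = t⁻¹ * φ r * t := by
      intro r hr
      rw [hφ]; simp only
      rw [mul_inv_rev, inv_eq_self_of_orderOf_two hr]
      group
    rw [e s hs2, e s' hs'2, hss']
  have himg : F.image φ = InvM := by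
    apply Finset.eq_of_subset_of_card_le
    · intro u hu
      obtain ⟨s, hs, rfl⟩ := Finset.mem_image.mp hu
      exact hφmaps s hs
    · rw [Finset.card_image_of_injOn hφinj]
      exact hy
  intro u hu hu2
  have huIn : u ∈ InvM := by
    rw [hInvM, hInv, Finset.mem_filter, Finset.mem_filter]
    exact ⟨⟨Finset.mem_univ _, hu2⟩, hu⟩
  rw [← himg] at huIn
  obtain ⟨s, hs, rfl⟩ := Finset.mem_image.mp huIn
  obtain ⟨hs2, _, hts⟩ := hFmem s hs
  exact ⟨s, hs2, hts, rfl⟩

end aux

/-- Let M be a subgroup of even order of a finite group S such that M contains the centralizer in S of each of its involutions and the normal core of M in S has odd order. Then all involutions of S are conjugate. If moreover N_S(X) ≤ M for a Sylow 2-subgroup X of M and I is an involution in the centre of X, then all involutions of M are conjugate in M and M = M₀ C_M(I) for some subgroup M₀ of M of odd order. -/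
theorem result {S : Type*} [Group S] [Finite S] (M : Subgroup S) (hM : Even (Nat.card M))
    (hC : ∀ i ∈ M, orderOf i = 2 → Subgroup.centralizer ({i} : Set S) ≤ M) (hcore : Odd (Nat.card M.normalCore)) :
    (∀ x y : S, orderOf x = 2 → orderOf y = 2 → IsConj x y) ∧
      ∀ (X : Sylow 2 M) (I : M), I ∈ (Subgroup.center ↥(X : Subgroup ↥M)).map (X : Subgroup ↥M).subtype → orderOf I = 2 →
        Subgroup.normalizer (((X : Subgroup M).map M.subtype : Subgroup S) : Set S) ≤ M →
        (∀ x y : M, orderOf x = 2 → orderOf y = 2 → IsConj x y) ∧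
          ∃ M₀ : Subgroup M, Odd (Nat.card M₀) ∧
            ∀ m : M, ∃ a ∈ M₀, ∃ c ∈ Subgroup.centralizer ({I} : Set M), m = a * c := by
  have hconj := isConj_invol_of_centralizers_le M hM hC hcore
  refine ⟨hconj, ?_⟩
  intro X I hIc hI2 hN
  have hz2 : orderOf (I : S) = 2 := by rw [Subgroup.orderOf_coe]; exact hI2
  have hzc : ∀ x ∈ (X : Subgroup ↥M).map M.subtype, x * (I : S) = (I : S) * x := by
    rintro _ ⟨x, hx, rfl⟩
    obtain ⟨c, hc, hcI⟩ := hIc
    have h1 := Subgroup.mem_center_iff.mp hc ⟨x, hx⟩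
    have h2 := congrArg (fun y : ↥(X : Subgroup ↥M) => (((y : ↥M)) : S)) h1
    simp only [Subgroup.coe_mul] at h2
    have h3 : ((c : ↥M) : S) = (I : S) := congrArg Subtype.val hcI
    rw [h3] at h2
    exact h2
  have hSE : ∀ {u g : S}, u ∈ M → orderOf u = 2 → g⁻¹ * u * g ∈ M → g ∈ M :=
    fun hu hu2 hg => mem_of_conj_invol_mem M hC X hN hz2 hzc hu hu2 hg
  have hconjM : ∀ x y : M, orderOf x = 2 → orderOf y = 2 → IsConj x y := by
    intro x y hx hy
    have hx' : orderOf (x : S) = 2 := by rw [Subgroup.orderOf_coe]; exact hx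
    have hy' : orderOf (y : S) = 2 := by rw [Subgroup.orderOf_coe]; exact hy
    obtain ⟨g, hg⟩ := isConj_iff.mp (hconj x y hx' hy')
    have hgM : g⁻¹ ∈ M := hSE x.2 hx' (by rw [inv_inv, hg]; exact y.2)
    have hgM' : g ∈ M := by simpa using M.inv_mem hgM
    exact isConj_iff.mpr ⟨⟨g, hgM'⟩, Subtype.ext hg⟩
  refine ⟨hconjM, ?_⟩
  obtain ⟨t, ht2, htM, hsurj⟩ := exists_invol_fiber_surj M hM hC hcore hconj hconjM I.2 hz2
  have htinv : t⁻¹ = t := inv_eq_self_of_orderOf_two ht2
  -- D = M ∩ M^t as a subgroup of M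
  let D : Subgroup M := (M.map (MulAut.conj t).toMonoidHom).subgroupOf M
  have hDmem : ∀ x : M, x ∈ D ↔ t * (x : S) * t ∈ M := by
    intro x
    show (x : S) ∈ M.map (MulAut.conj t).toMonoidHom ↔ _
    rw [mem_cj, htinv]
  refine ⟨D, ?_, ?_⟩
  · -- D has odd order
    by_contra hodd
    have hev : Even (Nat.card D) := Nat.not_odd_iff_even.mp hodd
    have : Fact (Nat.Prime 2) := ⟨Nat.prime_two⟩
    obtain ⟨x, hx⟩ := exists_prime_orderOf_dvd_card' (G := ↥D) 2 hev.two_dvd
    have hx2 : orderOf ((x : M) : S) = 2 := by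
      rw [Subgroup.orderOf_coe, Subgroup.orderOf_coe]; exact hx
    have hxD := (hDmem (x : M)).mp x.2
    apply htM
    have := hSE (u := ((x : M) : S)) (g := t) (x : M).2 hx2 (by rw [htinv]; exact hxD)
    exact this
  · intro m
    have hu2 : orderOf ((m : S) * (I : S) * (m : S)⁻¹) = 2 := by rw [orderOf_conj']; exact hz2
    have huM : (m : S) * (I : S) * (m : S)⁻¹ ∈ M := M.mul_mem (M.mul_mem m.2 I.2) (M.inv_mem m.2)
    obtain ⟨s, hs2, hts, hu⟩ := hsurj _ huM hu2
    have hsinv : s⁻¹ = s := inv_eq_self_of_orderOf_two hs2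
    have haD : (⟨t * s, hts⟩ : M) ∈ D := by
      rw [hDmem]
      show t * (t * s) * t ∈ M
      have e : t * (t * s) * t = (t * s)⁻¹ := by
        rw [mul_inv_rev, htinv, hsinv, ← mul_assoc, inv_mul_self_of_orderOf_two ht2, one_mul]
      rw [e]; exact M.inv_mem hts
    refine ⟨⟨t * s, hts⟩, haD, (⟨t * s, hts⟩ : M)⁻¹ * m, ?_, by group⟩
    rw [Subgroup.mem_centralizer_singleton_iff]
    apply Subtype.ext
    show ((t * s)⁻¹ * (m : S)) * (I : S) = (I : S) * ((t * s)⁻¹ * (m : S))
    have h1 : (m : S) * (I : S) = (t * s) * (I : S) * (t * s)⁻¹ * (m : S) := by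
      rw [← hu]; group
    calc ((t * s)⁻¹ * (m : S)) * (I : S) = (t * s)⁻¹ * ((m : S) * (I : S)) := by group
      _ = (t * s)⁻¹ * ((t * s) * (I : S) * (t * s)⁻¹ * (m : S)) := by rw [← h1]
      _ = (I : S) * ((t * s)⁻¹ * (m : S)) := by group

end Cfsg.Agent.S1905
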