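import Cfsg.Statements.S1906
import Cfsg.Agent.Lib.Helper5.S1906.Defs
import Cfsg.Agent.Lib.Helper26.S1906L1
import Cfsg.Agent.Lib.helper14.S1906L4
import Cfsg.Agent.Lib.Helper5.S1906L13
import Cfsg.Agent.Lib.helper15.S1906L14
import Cfsg.Agent.Lib.Helper1.S1906G6
import Cfsg.Agent.Lib.Helper1.S1906G7
import Cfsg.Agent.Lib.Helper5.S1906G10
import Cfsg.Agent.Lib.Helper5.S1906G12
import Cfsg.Agent.Lib.Helper5.S1906G13
import Cfsg.Agent.Lib.Helper5.S1906G14
import Cfsg.Agent.Lib.Helper25.S1906P8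

set_option autoImplicit false
open Cfsg

namespace Cfsg.Agent.Lib.Helper5.S1906

/-- the linear part: the context exists -/
theorem lin_main {H : Type*} [Group H] [Finite H] (hH : IsPGroup 2 H)
    (hna : ∃ a b : H, a * b ≠ b * a) {F : Type*} [Field F] (h2 : (2 : F) ≠ 0)
    (f : H →* GL (Fin 3) F) (hf : Function.Injective f) (E : Subgroup H)
    (hE : ∀ a ∈ E, a * a = 1) (hE8 : Nat.card E = 8) :
    ∃ (X0 : Subgroup H) (c z : H), Ctx (⊤ : Subgroup H) X0 c z := by
  obtain ⟨c, hcD, hcc, hc2, hc1⟩ := exists_central_comm_invol hH hna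
  obtain ⟨φ, hφ, hφc⟩ := block_embedding h2 f hf c hcc hc2 hc1 hcD
  obtain ⟨X0, z, h⟩ := ctx_of_embedding ⟨hφ, h2, hH, hna, hcD, hφc⟩ E hE hE8
  exact ⟨X0, c, z, h⟩

/-- the abstract part: the context is contradictory -/
theorem abs_main {G : Type*} [Group G] [Finite G] (hG : ∀ H : Subgroup G, H.index ≠ 2)
    (P : Sylow 2 G) {X0 : Subgroup G} {c z : G} (h : Ctx (P : Subgroup G) X0 c z) : False := by
  by_cases h2 : Nat.card (⁅(P : Subgroup G), (P : Subgroup G)⁆ : Subgroup G) = 2
  · by_cases hbig : ∃ x ∈ (P : Subgroup G), x ^ 4 ≠ 1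
    · exact case_two_big hG P h h2 hbig
    · push Not at hbig
      exact case_two_small hG P h h2 hbig
  · rcases aut_dichotomy P h with hN | ⟨C0, D, hC0, hD, hprod, hfix, hinv, e, he, he1, heD⟩
    · have hZ : ∀ ζ ∈ X0, Cen (P : Subgroup G) ζ → ζ * ζ = 1 := fun ζ hζ hc =>
        transfer_X0 hG P h h2 ζ hζ (fun n hn => hN n hn ζ hζ hc)
      by_cases hall : ∀ e ∈ X0, e * e = 1 → Cen (P : Subgroup G) e
      · exact case_XC_rank2 hG P h hZ hall
      · push Not at hall
        obtain ⟨e, he0, he2, hec⟩ := hall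
        exact case_XC_rank3 P.isPGroup' h h2 hZ e he0 he2 hec
    · exact case_S3 hG P h h2 C0 D hC0 hD hprod hfix hinv e he he1 heD

end Cfsg.Agent.Lib.Helper5.S1906

namespace Cfsg.Agent.S1906

open Cfsg.Agent.Lib.Helper5.S1906 in
/-- Let G be a finite group with no subgroup of index 2 whose Sylow 2-subgroup X embeds in GL₃(F) for a finite field F of odd order. If X contains an elementary abelian subgroup of order 8, then X is abelian. -/
theorem result {G : Type*} [Group G] [Finite G] (hG : ∀ H : Subgroup G, H.index ≠ 2) (X : Sylow 2 G)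
    {F : Type*} [Field F] [Fintype F] (hF : Odd (Fintype.card F))
    (f : ↥(X : Subgroup G) →* GL (Fin 3) F) (hf : Function.Injective f)
    (E : Subgroup G) (hE : E ≤ (X : Subgroup G)) (hEa : Cfsg.IsElementaryAbelian 2 E) (hE8 : Nat.card E = 8) :
    IsMulCommutative (X : Subgroup G) := by
  by_contra hna
  have hna' : ∃ a b : ↥(X : Subgroup G), a * b ≠ b * a := by
    by_contra hcon
    push Not at hcon
    exact hna ⟨⟨hcon⟩⟩
  have h2F : (2 : F) ≠ 0 := by
    intro h20
    have hch : ringChar F = 2 := CharP.ringChar_of_prime_eq_zero Nat.prime_two h20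
    have := (FiniteField.even_card_iff_char_two (F := F)).1 hch
    rcases hF with ⟨k, hk⟩
    omega
  have hE' : ∀ a ∈ E.subgroupOf (X : Subgroup G), a * a = 1 := by
    intro a ha
    have h1 := hEa.2 (a : G) (Subgroup.mem_subgroupOf.1 ha)
    apply Subtype.ext
    rw [Subgroup.coe_mul, Subgroup.coe_one, ← pow_two]
    exact h1
  have hE8' : Nat.card (E.subgroupOf (X : Subgroup G)) = 8 := by
    rw [Nat.card_congr (Subgroup.subgroupOfEquivOfLe hE).toEquiv, hE8]
  obtain ⟨X0, c, z, h⟩ := lin_main (H := ↥(X : Subgroup G)) X.isPGroup' hna' h2F f hf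
    (E.subgroupOf (X : Subgroup G)) hE' hE8'
  have h' := ctx_map (X : Subgroup G).subtype Subtype.coe_injective h
  rw [← MonoidHom.range_eq_map, Subgroup.range_subtype] at h'
  exact abs_main hG X h'

end Cfsg.Agent.S1906
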