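import Cfsg.Statements.S1907
import Cfsg.Agent.Lib.Helper5.PConstr
import Cfsg.Agent.Lib.helper23.Fitting
import Cfsg.Agent.Lib.Helper13.ConjFamily
import Cfsg.Agent.Lib.Helper13.CentExt

set_option autoImplicit false
open Cfsg

namespace Cfsg.Agent.S1907

open Cfsg.Agent.Lib.Helper13

section aux

variable {G : Type*} [Group G] [Finite G] {p : ℕ} [Fact p.Prime]

/-- elements of a normal `p'`-subgroup normalizing a `p`-subgroup centralize it -/
theorem mem_centralizer_of_mem_normalizer {K H : Subgroup G} [K.Normal]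
    (hK : (Nat.card K).Coprime p) (hH : IsPGroup p H) {k : G} (hk : k ∈ K)
    (hkN : k ∈ Subgroup.normalizer (H : Set G)) : k ∈ Subgroup.centralizer (H : Set G) := by
  rw [Subgroup.mem_centralizer_iff]
  intro h hh
  have h1 : k * h * k⁻¹ ∈ H := (Subgroup.mem_normalizer_iff.mp hkN h).mp hh
  have h2 : k * h * k⁻¹ * h⁻¹ ∈ H := H.mul_mem h1 (H.inv_mem hh)
  have h3 : k * h * k⁻¹ * h⁻¹ ∈ K := by
    have : h * k⁻¹ * h⁻¹ ∈ K := Subgroup.Normal.conj_mem inferInstance _ (K.inv_mem hk) h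
    have e : k * h * k⁻¹ * h⁻¹ = k * (h * k⁻¹ * h⁻¹) := by group
    rw [e]; exact K.mul_mem hk this
  have h4 := Cfsg.Agent.Lib.Helper5.h5_eq_one_of_mem_pgroup_of_mem_coprime hH hK h2 h3
  calc h * k = (k * h * k⁻¹ * h⁻¹)⁻¹ * (k * h) := by group
    _ = k * h := by rw [h4, inv_one, one_mul]

/-- the key factorization (coprime action on the coset `d C_K(H)`) -/
theorem factor_of_conj_mem_normalizer {K H : Subgroup G} [hKn : K.Normal]
    (hK : (Nat.card K).Coprime p) (hH : IsPGroup p H)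
    {y : G} (hy : y ∈ Subgroup.normalizer (H : Set G)) (hyp : ∃ k : ℕ, orderOf y = p ^ k)
    {d : G} (hd : d ∈ K) (hdy : d⁻¹ * y * d ∈ Subgroup.normalizer (H : Set G)) :
    ∃ d₁ ∈ K ⊓ Subgroup.centralizer ({y} : Set G),
      ∃ d₂ ∈ K ⊓ Subgroup.centralizer (H : Set G), d = d₁ * d₂ := by
  set C := K ⊓ Subgroup.centralizer (H : Set G) with hC
  set A := Subgroup.zpowers y with hA
  -- N(H) normalizes C
  have hNC : ∀ a ∈ Subgroup.normalizer (H : Set G), a ∈ Subgroup.normalizer (C : Set G) := by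
    intro a ha
    apply mem_normalizer_of_cj_le
    rintro _ ⟨c, hc, rfl⟩
    show a * c * a⁻¹ ∈ C
    exact Subgroup.mem_inf.mpr ⟨hKn.conj_mem c (Subgroup.mem_inf.mp hc).1 a,
      conj_mem_centralizer_of_mem_normalizer ha (Subgroup.mem_inf.mp hc).2⟩
  have hCconj : ∀ a ∈ Subgroup.normalizer (C : Set G), ∀ c ∈ C, a * c * a⁻¹ ∈ C := by
    intro a ha c hc
    exact (Subgroup.mem_normalizer_iff.mp ha c).mp hc
  have hAC : A ≤ Subgroup.normalizer (C : Set G) := by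
    rw [hA, Subgroup.zpowers_le]; exact hNC y hy
  obtain ⟨k, hk⟩ := hyp
  have hAcard : Nat.card ↥A = p ^ k := by rw [hA, Nat.card_zpowers, hk]
  have hAp : IsPGroup p ↥A := IsPGroup.of_card hAcard
  have hcop : (Nat.card ↥A).Coprime (Nat.card ↥C) := by
    rw [hAcard]
    apply Nat.Coprime.pow_left
    exact (Nat.Coprime.coprime_dvd_left (Subgroup.card_dvd_of_le inf_le_left) hK).symm
  have hsolv : Group.IsSolvable ↥A := by
    have := hAp.isNilpotent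
    infer_instance
  -- the subgroup of good elements
  let Z : Subgroup G :=
    { carrier := {a | a ∈ Subgroup.normalizer (C : Set G) ∧ d⁻¹ * (a * d * a⁻¹) ∈ C}
      one_mem' := by
        refine ⟨Subgroup.one_mem _, ?_⟩
        have : d⁻¹ * (1 * d * 1⁻¹) = 1 := by group
        rw [this]; exact C.one_mem
      mul_mem' := by
        rintro a b ⟨ha1, ha2⟩ ⟨hb1, hb2⟩
        refine ⟨Subgroup.mul_mem _ ha1 hb1, ?_⟩
        have e : d⁻¹ * (a * b * d * (a * b)⁻¹) =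
            (d⁻¹ * (a * d * a⁻¹)) * (a * (d⁻¹ * (b * d * b⁻¹)) * a⁻¹) := by group
        rw [e]
        exact C.mul_mem ha2 (hCconj a ha1 _ hb2)
      inv_mem' := by
        rintro a ⟨ha1, ha2⟩
        refine ⟨Subgroup.inv_mem _ ha1, ?_⟩
        have e : d⁻¹ * (a⁻¹ * d * a⁻¹⁻¹) = a⁻¹ * (d⁻¹ * (a * d * a⁻¹))⁻¹ * a⁻¹⁻¹ := by group
        rw [e]
        exact hCconj a⁻¹ (Subgroup.inv_mem _ ha1) _ (C.inv_mem ha2) }
  have hyZ : y ∈ Z := by
    refine ⟨hNC y hy, ?_⟩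
    have hinK : d⁻¹ * (y * d * y⁻¹) ∈ K := K.mul_mem (K.inv_mem hd) (hKn.conj_mem d hd y)
    have hinN : d⁻¹ * (y * d * y⁻¹) ∈ Subgroup.normalizer (H : Set G) := by
      have e : d⁻¹ * (y * d * y⁻¹) = (d⁻¹ * y * d) * y⁻¹ := by group
      rw [e]
      exact Subgroup.mul_mem _ hdy (Subgroup.inv_mem _ hy)
    exact Subgroup.mem_inf.mpr ⟨hinK, mem_centralizer_of_mem_normalizer hK hH hinK hinN⟩
  have hAZ : A ≤ Z := by rw [hA, Subgroup.zpowers_le]; exact hyZ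
  obtain ⟨c, hc, hdc⟩ := Cfsg.Agent.Lib.Lead.coset_fixed A C hAC hcop (Or.inl hsolv) d
    (fun a ha => (hAZ ha).2)
  refine ⟨d * c, Subgroup.mem_inf.mpr ⟨K.mul_mem hd (Subgroup.mem_inf.mp hc).1, ?_⟩, c⁻¹,
    C.inv_mem hc, by group⟩
  rw [Subgroup.mem_centralizer_singleton_iff]
  exact ((Subgroup.mem_centralizer_iff.mp hdc) y (Subgroup.mem_zpowers y)).symm

/-- Frattini: `G = N_G(P ∩ O_{p',p}(G)) O_{p'}(G)`. -/
theorem frattini_factor (P : Sylow p G) (g : G) :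
    ∃ n ∈ Subgroup.normalizer (((P : Subgroup G) ⊓ Cfsg.pPrimePCore p G : Subgroup G) : Set G),
      ∃ d ∈ Cfsg.pPrimeCore p G, g = n * d := by
  set K := Cfsg.pPrimeCore p G with hK
  set L := Cfsg.pPrimePCore p G with hL
  set H := (P : Subgroup G) ⊓ L with hH
  have hKn : K.Normal := Cfsg.Agent.Lib.Helper1.pPrimeCore_normal p
  have hLn : L.Normal := Cfsg.Agent.Lib.Helper5.h5_pPrimePCore_normal p G
  have hHL : H ≤ L := inf_le_right
  have hHp : IsPGroup p ↥H := P.isPGroup'.to_le inf_le_left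
  have hHi : ¬ p ∣ H.relIndex L := by
    rw [hH, Subgroup.inf_relIndex_right]
    intro h
    exact P.not_dvd_index
      (h.trans (Cfsg.Agent.Lib.helper23.relIndex_dvd_index_of_normal_right L (P : Subgroup G)))
  -- conjugate `H^g` back into `H` inside `L`
  have hRL : H.map (MulAut.conj g).toMonoidHom ≤ L := by
    rintro _ ⟨x, hx, rfl⟩
    exact hLn.conj_mem x (hHL hx) g
  obtain ⟨l, hl, hle⟩ := exists_mem_cj_le_of_relIndex (p := p) hHL hHp hHi hRL (isPGroup_cj g hHp)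
  rw [cj_cj] at hle
  have hlgN : l * g ∈ Subgroup.normalizer (H : Set G) := mem_normalizer_of_cj_le hle
  -- `l ∈ H K`
  have hlhk : ∃ h ∈ H, h⁻¹ * l ∈ K := by
    let HS : Sylow p ↥L := (hHp.comap_subtype (H := H) (K := L)).toSylow hHi
    have hmap := Cfsg.Agent.Lib.Helper5.h5_sylow_pPrimePCore_map (G := G) (p := p) HS
    have hHS : (HS : Subgroup ↥L).map L.subtype = H := by
      show (H.subgroupOf L).map L.subtype = H
      rw [Subgroup.subgroupOf_map_subtype]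
      exact inf_eq_left.mpr hHL
    rw [hHS] at hmap
    have hl' : QuotientGroup.mk' K l ∈ Cfsg.pCore p (G ⧸ K) :=
      (Cfsg.Agent.Lib.Helper5.h5_mem_pPrimePCore_iff l).mp hl
    rw [← hmap] at hl'
    obtain ⟨h, hh, hhl⟩ := hl'
    exact ⟨h, hh, QuotientGroup.eq.mp hhl⟩
  obtain ⟨h, hh, hk'⟩ := hlhk
  have hhN : h ∈ Subgroup.normalizer (H : Set G) := Subgroup.le_normalizer hh
  refine ⟨h⁻¹ * (l * g), Subgroup.mul_mem _ (Subgroup.inv_mem _ hhN) hlgN,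
    (h⁻¹ * (l * g))⁻¹ * (h⁻¹ * l)⁻¹ * (h⁻¹ * (l * g)), ?_, by group⟩
  have := hKn.conj_mem _ (K.inv_mem hk') (h⁻¹ * (l * g))⁻¹
  rwa [inv_inv] at this

end aux

/-- Let P be a Sylow p-subgroup of the finite group G and H = P ∩ O_{p',p}(G). -/
theorem result {G : Type*} [Group G] [Finite G] {p : ℕ} [Fact p.Prime] (P : Sylow p G) :
    (∀ y ∈ Subgroup.normalizer (((P : Subgroup G) ⊓ Cfsg.pPrimePCore p G : Subgroup G) : Set G), (∃ k : ℕ, orderOf y = p ^ k) →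
      ∀ d ∈ Cfsg.pPrimeCore p G, d⁻¹ * y * d ∈ Subgroup.normalizer (((P : Subgroup G) ⊓ Cfsg.pPrimePCore p G : Subgroup G) : Set G) →
        ∃ d₁ ∈ Cfsg.pPrimeCore p G ⊓ Subgroup.centralizer ({y} : Set G),
          ∃ d₂ ∈ Cfsg.pPrimeCore p G ⊓ Subgroup.centralizer (((P : Subgroup G) ⊓ Cfsg.pPrimePCore p G : Subgroup G) : Set G), d = d₁ * d₂) ∧
    ∀ x y : G, x ∈ (P : Subgroup G) → y ∈ (P : Subgroup G) → IsConj x y →
      ∃ n ∈ Subgroup.normalizer (((P : Subgroup G) ⊓ Cfsg.pPrimePCore p G : Subgroup G) : Set G), n * x * n⁻¹ = y := by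
  have hKn : (Cfsg.pPrimeCore p G).Normal := Cfsg.Agent.Lib.Helper1.pPrimeCore_normal p
  have hLn : (Cfsg.pPrimePCore p G).Normal := Cfsg.Agent.Lib.Helper5.h5_pPrimePCore_normal p G
  have hKcop : (Nat.card (Cfsg.pPrimeCore p G)).Coprime p :=
    Cfsg.Agent.Lib.Helper1.pPrimeCore_card_coprime p
  have hHp : IsPGroup p ↥((P : Subgroup G) ⊓ Cfsg.pPrimePCore p G) := P.isPGroup'.to_le inf_le_left
  have part1 : ∀ y ∈ Subgroup.normalizer (((P : Subgroup G) ⊓ Cfsg.pPrimePCore p G : Subgroup G) : Set G), (∃ k : ℕ, orderOf y = p ^ k) →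
      ∀ d ∈ Cfsg.pPrimeCore p G, d⁻¹ * y * d ∈ Subgroup.normalizer (((P : Subgroup G) ⊓ Cfsg.pPrimePCore p G : Subgroup G) : Set G) →
        ∃ d₁ ∈ Cfsg.pPrimeCore p G ⊓ Subgroup.centralizer ({y} : Set G),
          ∃ d₂ ∈ Cfsg.pPrimeCore p G ⊓ Subgroup.centralizer (((P : Subgroup G) ⊓ Cfsg.pPrimePCore p G : Subgroup G) : Set G), d = d₁ * d₂ :=
    fun y hy hyp d hd hdy => factor_of_conj_mem_normalizer hKcop hHp hy hyp hd hdy
  refine ⟨part1, ?_⟩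
  intro x y hx hy hxy
  obtain ⟨g, hg⟩ := isConj_iff.mp hxy
  obtain ⟨n, hn, d, hd, hgnd⟩ := frattini_factor P g
  -- `P` normalizes `H`
  have hPN : ∀ z ∈ (P : Subgroup G), z ∈ Subgroup.normalizer
      (((P : Subgroup G) ⊓ Cfsg.pPrimePCore p G : Subgroup G) : Set G) := by
    intro z hz
    apply mem_normalizer_of_cj_le
    rintro _ ⟨w, hw, rfl⟩
    exact Subgroup.mem_inf.mpr
      ⟨Subgroup.mul_mem _ (Subgroup.mul_mem _ hz (Subgroup.mem_inf.mp hw).1) (Subgroup.inv_mem _ hz),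
       hLn.conj_mem w (Subgroup.mem_inf.mp hw).2 z⟩
  have hxp : ∃ k : ℕ, orderOf x = p ^ k := by
    obtain ⟨k, hk⟩ := (IsPGroup.iff_orderOf.mp P.isPGroup') ⟨x, hx⟩
    exact ⟨k, by rw [← hk, Subgroup.orderOf_mk]⟩
  have hdx : (d⁻¹)⁻¹ * x * d⁻¹ ∈ Subgroup.normalizer
      (((P : Subgroup G) ⊓ Cfsg.pPrimePCore p G : Subgroup G) : Set G) := by
    have e : (d⁻¹)⁻¹ * x * d⁻¹ = n⁻¹ * y * n := by
      rw [← hg, hgnd]; group
    rw [e]
    exact Subgroup.mul_mem _ (Subgroup.mul_mem _ (Subgroup.inv_mem _ hn) (hPN y hy)) hn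
  obtain ⟨d₁, hd₁, d₂, hd₂, hdd⟩ := part1 x (hPN x hx) hxp d⁻¹ (Subgroup.inv_mem _ hd) hdx
  have hd₁x : d₁ * x = x * d₁ :=
    Subgroup.mem_centralizer_singleton_iff.mp (Subgroup.mem_inf.mp hd₁).2
  have hd₂N : d₂ ∈ Subgroup.normalizer
      (((P : Subgroup G) ⊓ Cfsg.pPrimePCore p G : Subgroup G) : Set G) :=
    Subgroup.centralizer_le_normalizer _ (Subgroup.mem_inf.mp hd₂).2
  refine ⟨n * d₂⁻¹, Subgroup.mul_mem _ hn (Subgroup.inv_mem _ hd₂N), ?_⟩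
  have hd : d = d₂⁻¹ * d₁⁻¹ := by
    have : d = (d⁻¹)⁻¹ := by simp
    rw [this, hdd]; group
  rw [← hg, hgnd, hd]
  have hx' : d₁⁻¹ * x * d₁ = x := by
    calc d₁⁻¹ * x * d₁ = d₁⁻¹ * (x * d₁) := by group
      _ = d₁⁻¹ * (d₁ * x) := by rw [hd₁x]
      _ = x := by group
  calc n * d₂⁻¹ * x * (n * d₂⁻¹)⁻¹ = n * d₂⁻¹ * (d₁⁻¹ * x * d₁) * (n * d₂⁻¹)⁻¹ := by rw [hx']
    _ = n * (d₂⁻¹ * d₁⁻¹) * x * (n * (d₂⁻¹ * d₁⁻¹))⁻¹ := by group

end Cfsg.Agent.S1907
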