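import Cfsg.Statements.S1910
import Cfsg.Agent.Lib.Helper13.Tight

set_option autoImplicit false
open Cfsg
open Cfsg.Agent.Lib.Helper13

namespace Cfsg.Agent.S1910

/-- Core of the argument: the first parts of the statement, together with the alternative
"`N_S(T) ∩ Q` is Sylow in `Q`, or `T` embeds in `N_S(T) ∩ Q`". -/
theorem tight_core {G : Type*} [Group G] [Finite G] (Q : Subgroup G)
    (hQ : Cfsg.IsTightlyEmbedded Q)
    (g : G) (hg : g ∉ Subgroup.normalizer (Q : Set G))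
    (T : Subgroup G)
    (hT : T ≤ Q.map (MulAut.conj g).toMonoidHom ⊓ Subgroup.normalizer (Q : Set G))
    (hTsyl : IsPGroup 2 T ∧ ¬ 2 ∣ T.relIndex
      (Q.map (MulAut.conj g).toMonoidHom ⊓ Subgroup.normalizer (Q : Set G)))
    (S : Subgroup G) (hTS : T ≤ S) (hS : S ≤ Q ⊔ T)
    (hSsyl : IsPGroup 2 S ∧ ¬ 2 ∣ S.relIndex (Q ⊔ T)) :
    T ⊓ Q = ⊥ ∧
      (∀ t ∈ T, ∀ r ∈ S ⊓ Subgroup.normalizer (T : Set G) ⊓ Q, t * r = r * t) ∧
      T ⊔ (S ⊓ Subgroup.normalizer (T : Set G) ⊓ Q) = S ⊓ Subgroup.normalizer (T : Set G) ∧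
      ((¬ 2 ∣ (S ⊓ Subgroup.normalizer (T : Set G) ⊓ Q).relIndex Q) ∨
        ∃ f : ↥T →* ↥(S ⊓ Subgroup.normalizer (T : Set G) ⊓ Q), Function.Injective f) := by
  haveI : Fact (Nat.Prime 2) := ⟨Nat.prime_two⟩
  have hTQg : T ≤ Q.map (MulAut.conj g).toMonoidHom := hT.trans inf_le_left
  have hTN : T ≤ Subgroup.normalizer (Q : Set G) := hT.trans inf_le_right
  have hSN : S ≤ Subgroup.normalizer (Q : Set G) :=
    hS.trans (sup_le Subgroup.le_normalizer hTN)
  -- (F1)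
  have hTQ : T ⊓ Q = ⊥ :=
    eq_bot_of_isPGroup_two_of_le_odd (hTsyl.1.to_le inf_le_left)
      (le_inf inf_le_right (inf_le_left.trans hTQg)) (hQ.2 g hg)
  -- commuting
  have hcomm : ∀ t ∈ T, ∀ r ∈ S ⊓ Subgroup.normalizer (T : Set G) ⊓ Q, t * r = r * t := by
    intro t ht r hr
    have hrQ : r ∈ Q := hr.2
    have hrN : r ∈ Subgroup.normalizer (T : Set G) := hr.1.2
    have h1 : t * r * t⁻¹ ∈ Q := (Subgroup.mem_normalizer_iff.mp (hTN ht) r).mp hrQ
    have h2 : r * t⁻¹ * r⁻¹ ∈ T := (Subgroup.mem_normalizer_iff.mp hrN t⁻¹).mp (T.inv_mem ht)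
    have hc : t * r * t⁻¹ * r⁻¹ ∈ T ⊓ Q := by
      refine ⟨?_, Q.mul_mem h1 (Q.inv_mem hrQ)⟩
      have : t * r * t⁻¹ * r⁻¹ = t * (r * t⁻¹ * r⁻¹) := by group
      rw [this]
      exact T.mul_mem ht h2
    rw [hTQ, Subgroup.mem_bot] at hc
    calc t * r = (t * r * t⁻¹ * r⁻¹) * (r * t) := by group
      _ = r * t := by rw [hc, one_mul]
  -- the product decomposition
  have hsup : T ⊔ (S ⊓ Subgroup.normalizer (T : Set G) ⊓ Q) =
      S ⊓ Subgroup.normalizer (T : Set G) := by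
    apply le_antisymm
    · exact sup_le (le_inf hTS Subgroup.le_normalizer) inf_le_left
    · intro y hy
      have hyS : y ∈ S := hy.1
      have hyN : y ∈ Subgroup.normalizer (T : Set G) := hy.2
      have hy' : y ∈ ((Q ⊔ T : Subgroup G) : Set G) := hS hyS
      rw [Subgroup.coe_mul_of_right_le_normalizer_left Q T hTN] at hy'
      obtain ⟨q, hq, t, ht, hqt⟩ := hy'
      have hq' : q = y * t⁻¹ := by rw [← hqt]; group
      have hqR : q ∈ S ⊓ Subgroup.normalizer (T : Set G) ⊓ Q := by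
        refine ⟨⟨?_, ?_⟩, hq⟩
        · rw [hq']; exact S.mul_mem hyS (S.inv_mem (hTS ht))
        · rw [hq']
          exact Subgroup.mul_mem _ hyN (Subgroup.inv_mem _ (Subgroup.le_normalizer ht))
      rw [← hqt]
      exact Subgroup.mul_mem _ (Subgroup.mem_sup_right hqR) (Subgroup.mem_sup_left ht)
  refine ⟨hTQ, hcomm, hsup, ?_⟩
  by_cases hN : S ≤ Subgroup.normalizer (T : Set G)
  · left
    rw [inf_eq_left.mpr hN]
    exact not_dvd_relIndex_inf_of_normal (L := Q ⊔ T) le_sup_left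
      (sup_le Subgroup.le_normalizer hTN) hSsyl.2
  · right
    have hne : S ⊓ Subgroup.normalizer (T : Set G) ≠ S := fun h => hN (inf_eq_left.mp h)
    have hlt := card_lt_card_inf_normalizer hSsyl.1
      (inf_le_left : S ⊓ Subgroup.normalizer (T : Set G) ≤ S) hne
    obtain ⟨x, hx, hxn⟩ : ∃ x ∈ S ⊓ Subgroup.normalizer
        ((S ⊓ Subgroup.normalizer (T : Set G) : Subgroup G) : Set G),
        x ∉ S ⊓ Subgroup.normalizer (T : Set G) := by
      by_contra hcon
      push Not at hcon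
      have hle : S ⊓ Subgroup.normalizer
          ((S ⊓ Subgroup.normalizer (T : Set G) : Subgroup G) : Set G) ≤
          S ⊓ Subgroup.normalizer (T : Set G) := hcon
      have := Subgroup.card_le_of_le hle
      omega
    have hxS : x ∈ S := hx.1
    have hxNN : x ∈ Subgroup.normalizer
        ((S ⊓ Subgroup.normalizer (T : Set G) : Subgroup G) : Set G) := hx.2
    have hxNT : x ∉ Subgroup.normalizer (T : Set G) := fun h => hxn ⟨hxS, h⟩
    -- T = S ⊓ Q^g
    have hTeq : T = S ⊓ Q.map (MulAut.conj g).toMonoidHom :=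
      eq_of_le_of_not_dvd_relIndex (le_inf hTS hTQg)
        (le_inf inf_le_right (inf_le_left.trans hSN)) (hSsyl.1.to_le inf_le_left) hTsyl.2
    have hxNQg : x ∉ Subgroup.normalizer
        ((Q.map (MulAut.conj g).toMonoidHom : Subgroup G) : Set G) := by
      intro h
      apply hxNT
      rw [mem_normalizer_iff_cj_eq]
      have e1 : S.map (MulAut.conj x).toMonoidHom = S := cj_self_of_mem hxS
      have e2 := mem_normalizer_iff_cj_eq.mp h
      calc T.map (MulAut.conj x).toMonoidHom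
          = (S ⊓ Q.map (MulAut.conj g).toMonoidHom).map (MulAut.conj x).toMonoidHom := by
            rw [← hTeq]
        _ = S ⊓ Q.map (MulAut.conj g).toMonoidHom := by rw [cj_inf, e1, e2]
        _ = T := hTeq.symm
    have hTxNS : T.map (MulAut.conj x).toMonoidHom ≤ S ⊓ Subgroup.normalizer (T : Set G) := by
      have h1 : T.map (MulAut.conj x).toMonoidHom ≤
          (S ⊓ Subgroup.normalizer (T : Set G)).map (MulAut.conj x).toMonoidHom :=
        cj_mono (le_inf hTS Subgroup.le_normalizer)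
      rwa [mem_normalizer_iff_cj_eq.mp hxNN] at h1
    have hTxT : T.map (MulAut.conj x).toMonoidHom ⊓ T = ⊥ := by
      refine eq_bot_of_isPGroup_two_of_le_odd (hTsyl.1.to_le inf_le_right) ?_
        ((tight_cj hQ g).2 x hxNQg)
      exact le_inf (inf_le_right.trans hTQg) (inf_le_left.trans (cj_mono hTQg))
    obtain ⟨f', hf'⟩ := exists_injective_hom_of_le_sup (A := T)
      (B := S ⊓ Subgroup.normalizer (T : Set G) ⊓ Q)
      (V := T.map (MulAut.conj x).toMonoidHom) hcomm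
      (le_bot_iff.mp (hTQ ▸ inf_le_inf_left T inf_le_right)) (hTxNS.trans hsup.ge) hTxT
    let e := T.equivMapOfInjective (MulAut.conj x).toMonoidHom (MulAut.conj x).injective
    exact ⟨f'.comp e.toMonoidHom, hf'.comp e.injective⟩

/-- Let Q be a tightly embedded subgroup of a finite group G, g an element outside N_G(Q), T a nontrivial Sylow 2-subgroup of Q^g ∩ N_G(Q), and S a Sylow 2-subgroup of QT containing T. Then T ∩ Q = 1, and N_S(T) is the direct product of T and N_S(T) ∩ Q, with N_S(T) ∩ Q isomorphic to T. -/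
theorem result {G : Type*} [Group G] [Finite G] (Q : Subgroup G) (hQ : Cfsg.IsTightlyEmbedded Q)
    (g : G) (hg : g ∉ Subgroup.normalizer (Q : Set G))
    (T : Subgroup G) (hT1 : T ≠ ⊥) (hT : T ≤ Q.map (MulAut.conj g).toMonoidHom ⊓ Subgroup.normalizer (Q : Set G))
    (hTsyl : IsPGroup 2 T ∧ ¬ 2 ∣ T.relIndex (Q.map (MulAut.conj g).toMonoidHom ⊓ Subgroup.normalizer (Q : Set G)))
    (S : Subgroup G) (hTS : T ≤ S) (hS : S ≤ Q ⊔ T) (hSsyl : IsPGroup 2 S ∧ ¬ 2 ∣ S.relIndex (Q ⊔ T)) :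
    T ⊓ Q = ⊥ ∧
      T ⊓ (S ⊓ Subgroup.normalizer (T : Set G) ⊓ Q) = ⊥ ∧
      ⁅T, S ⊓ Subgroup.normalizer (T : Set G) ⊓ Q⁆ = ⊥ ∧
      T ⊔ (S ⊓ Subgroup.normalizer (T : Set G) ⊓ Q) = S ⊓ Subgroup.normalizer (T : Set G) ∧
      Nonempty (↥(S ⊓ Subgroup.normalizer (T : Set G) ⊓ Q) ≃* T) := by
  have : Fact (Nat.Prime 2) := ⟨Nat.prime_two⟩
  obtain ⟨hTQ, hcomm, hsup, hA⟩ := tight_core Q hQ g hg T hT hTsyl S hTS hS hSsyl
  have hTQg : T ≤ Q.map (MulAut.conj g).toMonoidHom := hT.trans inf_le_left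
  have hTN : T ≤ Subgroup.normalizer (Q : Set G) := hT.trans inf_le_right
  refine ⟨hTQ, le_bot_iff.mp (hTQ ▸ inf_le_inf_left T inf_le_right), ?_, hsup, ?_⟩
  · rw [Subgroup.commutator_eq_bot_iff_le_centralizer]
    intro t ht
    rw [Subgroup.mem_centralizer_iff]
    intro r hr
    exact (hcomm t ht r hr).symm
  -- the isomorphism
  obtain ⟨R, hR⟩ : ∃ R : Subgroup G, R = S ⊓ Subgroup.normalizer (T : Set G) ⊓ Q := ⟨_, rfl⟩
  rw [← hR] at hA ⊢
  have hRQ : R ≤ Q := hR ▸ inf_le_right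
  have hRNT : R ≤ Subgroup.normalizer (T : Set G) := hR ▸ (inf_le_left.trans inf_le_right)
  have hR2 : IsPGroup 2 ↥R := hSsyl.1.to_le (hR ▸ (inf_le_left.trans inf_le_left))
  have hQg := tight_cj hQ g
  -- Step 1
  have hTR : Nat.card ↥T ≤ Nat.card ↥R := by
    rcases hA with h | ⟨f, hf⟩
    · have h1 : T.map (MulAut.conj g⁻¹).toMonoidHom ≤ Q := by
        rw [cj_le_iff, inv_inv]; exact hTQg
      have h2 := card_dvd_card_of_not_dvd_relIndex hRQ hR2 h h1 (isPGroup_cj _ hTsyl.1)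
      rw [card_cj] at h2
      exact Nat.le_of_dvd Nat.card_pos h2
    · exact Nat.card_le_card_of_injective f hf
  -- Step 2
  have hRA : R ≤ Q ⊓ Subgroup.normalizer
      ((Q.map (MulAut.conj g).toMonoidHom : Subgroup G) : Set G) := by
    intro r hr
    refine ⟨hRQ hr, ?_⟩
    apply mem_normalizer_of_tight hQg hTQg hTsyl.1 hT1
    rw [mem_normalizer_iff_cj_eq.mp (hRNT hr)]
    exact hTQg
  -- Step 3
  obtain ⟨R', hRR', hR'A, hR'2, hR'syl⟩ := exists_sylow_between hRA hR2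
  have hR'1 : R' ≠ ⊥ := by
    rw [← Subgroup.one_lt_card_iff_ne_bot]
    have h1 : 1 < Nat.card ↥T := (Subgroup.one_lt_card_iff_ne_bot _).mpr hT1
    have h2 := Subgroup.card_le_of_le hRR'
    omega
  -- Step 4
  obtain ⟨S', hR'S', hS', hS'2, hS'syl⟩ := exists_sylow_between
    (le_sup_right : R' ≤ Q.map (MulAut.conj g).toMonoidHom ⊔ R') hR'2
  -- Step 5
  have hg' : g⁻¹ ∉ Subgroup.normalizer
      ((Q.map (MulAut.conj g).toMonoidHom : Subgroup G) : Set G) := by
    intro h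
    apply hg
    rw [normalizer_cj, mem_cj] at h
    have : g⁻¹ * g⁻¹ * g = g⁻¹ := by group
    rw [this] at h
    simpa using inv_mem h
  have hR'le : R' ≤ (Q.map (MulAut.conj g).toMonoidHom).map (MulAut.conj g⁻¹).toMonoidHom ⊓
      Subgroup.normalizer ((Q.map (MulAut.conj g).toMonoidHom : Subgroup G) : Set G) := by
    rw [cj_inv_cj]; exact hR'A
  have hR'syl' : IsPGroup 2 ↥R' ∧ ¬ 2 ∣ R'.relIndex
      ((Q.map (MulAut.conj g).toMonoidHom).map (MulAut.conj g⁻¹).toMonoidHom ⊓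
      Subgroup.normalizer ((Q.map (MulAut.conj g).toMonoidHom : Subgroup G) : Set G)) := by
    rw [cj_inv_cj]; exact ⟨hR'2, hR'syl⟩
  obtain ⟨-, -, -, hA'⟩ := tight_core (Q.map (MulAut.conj g).toMonoidHom) hQg g⁻¹ hg' R' hR'le
    hR'syl' S' hR'S' hS' ⟨hS'2, hS'syl⟩
  obtain ⟨R'', hR''⟩ : ∃ R'' : Subgroup G, R'' = S' ⊓ Subgroup.normalizer (R' : Set G) ⊓
      Q.map (MulAut.conj g).toMonoidHom := ⟨_, rfl⟩
  rw [← hR''] at hA'
  have hR''Qg : R'' ≤ Q.map (MulAut.conj g).toMonoidHom := hR'' ▸ inf_le_right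
  have hR''N : R'' ≤ Subgroup.normalizer (R' : Set G) := hR'' ▸ (inf_le_left.trans inf_le_right)
  have hR''2 : IsPGroup 2 ↥R'' := hS'2.to_le (hR'' ▸ (inf_le_left.trans inf_le_left))
  have hR'Q : R' ≤ Q := hR'A.trans inf_le_left
  -- Step 6
  have h6 : Nat.card ↥R' ≤ Nat.card ↥R'' := by
    rcases hA' with h | ⟨f, hf⟩
    · have h2 := card_dvd_card_of_not_dvd_relIndex hR''Qg hR''2 h
        (cj_mono (g := g) hR'Q) (isPGroup_cj _ hR'2)
      rw [card_cj] at h2
      exact Nat.le_of_dvd Nat.card_pos h2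
    · exact Nat.card_le_card_of_injective f hf
  -- Step 7
  have h7 : Nat.card ↥R'' ≤ Nat.card ↥T := by
    have hle : R'' ≤ Q.map (MulAut.conj g).toMonoidHom ⊓ Subgroup.normalizer (Q : Set G) := by
      intro y hy
      refine ⟨hR''Qg hy, ?_⟩
      apply mem_normalizer_of_tight hQ hR'Q hR'2 hR'1
      rw [mem_normalizer_iff_cj_eq.mp (hR''N hy)]
      exact hR'Q
    exact Nat.le_of_dvd Nat.card_pos
      (card_dvd_card_of_not_dvd_relIndex hT hTsyl.1 hTsyl.2 hle hR''2)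
  -- Step 8
  have h8 : Nat.card ↥T = Nat.card ↥R := by
    have := Subgroup.card_le_of_le hRR'
    omega
  -- Step 9
  rcases hA with h | ⟨f, hf⟩
  · have hsyl : ¬ 2 ∣ (R.map (MulAut.conj g).toMonoidHom).relIndex
        (Q.map (MulAut.conj g).toMonoidHom) := by rw [relIndex_cj]; exact h
    obtain ⟨n, -, hn⟩ := exists_mem_cj_le_of_relIndex (cj_mono (g := g) hRQ)
      (isPGroup_cj g hR2) hsyl hTQg hTsyl.1
    have heq : T.map (MulAut.conj n).toMonoidHom = R.map (MulAut.conj g).toMonoidHom := by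
      apply Subgroup.eq_of_le_of_card_ge hn
      rw [card_cj, card_cj, h8]
    let e1 := R.equivMapOfInjective (MulAut.conj g).toMonoidHom (MulAut.conj g).injective
    let e2 := T.equivMapOfInjective (MulAut.conj n).toMonoidHom (MulAut.conj n).injective
    exact ⟨(e1.trans (MulEquiv.subgroupCongr heq.symm)).trans e2.symm⟩
  · have hbij : Function.Bijective f := (Nat.bijective_iff_injective_and_card f).mpr ⟨hf, h8⟩
    exact ⟨(MulEquiv.ofBijective f hbij).symm⟩

end Cfsg.Agent.S1910
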