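import Cfsg.Statements.S1921
import Cfsg.Agent.S1270
import Cfsg.Agent.S1331

set_option autoImplicit false
open Cfsg

namespace Cfsg.Agent.S1921

open Cfsg.Agent.Lib.Helper10 Cfsg.Agent.Lib.Helper9

/-- Let a be an involution of a finite group H and L a component of H with a L a⁻¹ ≠ L; put M = ⟨L, aLa⁻¹⟩ and let J be the subgroup generated by the elements x · a x a⁻¹ with x ∈ L (the diagonal). Then every element of M outside J·Z(M) generates M together with J. -/
theorem result {H : Type*} [Group H] [Finite H] (a : H) (ha : orderOf a = 2) (L : Subgroup H) (hL : Cfsg.IsComponent L)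
    (hLa : L.map (MulAut.conj a).toMonoidHom ≠ L) (x : H) (hxM : x ∈ L ⊔ L.map (MulAut.conj a).toMonoidHom)
    (hxJ : x ∉ Subgroup.closure {y : H | ∃ l ∈ L, y = l * (a * l * a⁻¹)} ⊔
      ((L ⊔ L.map (MulAut.conj a).toMonoidHom) ⊓ Subgroup.centralizer ((L ⊔ L.map (MulAut.conj a).toMonoidHom : Subgroup H) : Set H))) :
    Subgroup.closure {y : H | ∃ l ∈ L, y = l * (a * l * a⁻¹)} ⊔ Subgroup.zpowers x = L ⊔ L.map (MulAut.conj a).toMonoidHom := by
  have hcjdef : L.map (MulAut.conj a).toMonoidHom = cj a L := rfl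
  rw [hcjdef] at hLa hxM hxJ ⊢
  have hcomm0 : ⁅cj a L, L⁆ = ⊥ :=
    Cfsg.Agent.S1263.distinct_components_commute (isComponent_cj hL a) hL hLa
  have hcomm : ∀ m ∈ cj a L, ∀ l ∈ L, m * l = l * m := by
    intro m hm l hl
    have h1 := Subgroup.commutator_eq_bot_iff_le_centralizer.1 hcomm0 hm
    rw [Subgroup.mem_centralizer_iff] at h1
    exact (h1 l hl).symm
  have hconj : ∀ l ∈ L, a * l * a⁻¹ ∈ cj a L := fun l hl => conj_mem_cj hl
  obtain ⟨J, hJdef⟩ : ∃ J, J = Subgroup.closure {y : H | ∃ l ∈ L, y = l * (a * l * a⁻¹)} := ⟨_, rfl⟩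
  rw [← hJdef] at hxJ ⊢
  have hJgen : ∀ l ∈ L, l * (a * l * a⁻¹) ∈ J := by
    intro l hl
    rw [hJdef]
    exact Subgroup.subset_closure ⟨l, hl, rfl⟩
  have hJM : J ≤ L ⊔ cj a L := by
    rw [hJdef, Subgroup.closure_le]
    rintro _ ⟨l, hl, rfl⟩
    exact Subgroup.mul_mem _ (Subgroup.mem_sup_left hl) (Subgroup.mem_sup_right (hconj l hl))
  apply le_antisymm
  · apply sup_le hJM
    rw [Subgroup.zpowers_le]; exact hxM
  · have hnorm0 : cj a L ≤ Subgroup.normalizer (L : Set H) := by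
      apply le_normalizer_of_commute
      intro l hl m hm
      exact (hcomm m hm l hl).symm
    obtain ⟨l₁, hl₁, m, hm, hxeq⟩ := exists_mul_of_mem_sup L (cj a L) hnorm0 x hxM
    have hl₂ : a⁻¹ * m * a ∈ L := mem_cj.1 hm
    have hmeq : m = a * (a⁻¹ * m * a) * a⁻¹ := by group
    obtain ⟨l₂, hl₂def⟩ : ∃ l₂, l₂ = a⁻¹ * m * a := ⟨_, rfl⟩
    rw [← hl₂def] at hl₂ hmeq
    have hj : l₂ * m ∈ J := by
      have := hJgen l₂ hl₂
      rwa [← hmeq] at this
    have hxT : x ∈ J ⊔ Subgroup.zpowers x :=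
      Subgroup.mem_sup_right (Subgroup.mem_zpowers x)
    have hueq : x * (l₂ * m)⁻¹ = l₁ * l₂⁻¹ := by
      rw [hxeq, mul_inv_rev, ← mul_assoc, mul_assoc l₁, mul_inv_cancel, mul_one]
    have huT : l₁ * l₂⁻¹ ∈ J ⊔ Subgroup.zpowers x := by
      rw [← hueq]
      exact Subgroup.mul_mem _ hxT (Subgroup.inv_mem _ (Subgroup.mem_sup_left hj))
    have huL : l₁ * l₂⁻¹ ∈ L := L.mul_mem hl₁ (L.inv_mem hl₂)
    have huC : l₁ * l₂⁻¹ ∉ Subgroup.centralizer (L : Set H) := by
      intro hc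
      apply hxJ
      have hxu : x = (l₁ * l₂⁻¹) * (l₂ * m) := by
        rw [← hueq, inv_mul_cancel_right]
      rw [hxu, sup_comm]
      refine Subgroup.mul_mem _ (Subgroup.mem_sup_left ?_) (Subgroup.mem_sup_right hj)
      refine Subgroup.mem_inf.2 ⟨Subgroup.mem_sup_left huL, ?_⟩
      have hle : L ⊔ cj a L ≤ Subgroup.centralizer ({l₁ * l₂⁻¹} : Set H) := by
        apply sup_le
        · intro l hl
          rw [Subgroup.mem_centralizer_iff]
          intro z hz
          rw [Set.mem_singleton_iff] at hz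
          subst hz
          rw [Subgroup.mem_centralizer_iff] at hc
          exact (hc l hl).symm
        · intro m' hm'
          rw [Subgroup.mem_centralizer_iff]
          intro z hz
          rw [Set.mem_singleton_iff] at hz
          subst hz
          exact (hcomm m' hm' _ huL).symm
      rw [Subgroup.mem_centralizer_iff]
      intro h hh
      have := hle hh
      rw [Subgroup.mem_centralizer_iff] at this
      exact (this _ rfl).symm
    have hNnorm : L ≤ Subgroup.normalizer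
        (((J ⊔ Subgroup.zpowers x) ⊓ L : Subgroup H) : Set H) := by
      apply Cfsg.Agent.S1331.le_normalizer_of_conj_mem
      intro l hl t ht
      have htL : t ∈ L := (Subgroup.mem_inf.1 ht).2
      have htT : t ∈ J ⊔ Subgroup.zpowers x := (Subgroup.mem_inf.1 ht).1
      refine Subgroup.mem_inf.2 ⟨?_, L.mul_mem (L.mul_mem hl htL) (L.inv_mem hl)⟩
      have hc := hcomm _ (hconj l hl) t htL
      have e : l * t * l⁻¹ = (l * (a * l * a⁻¹)) * t * (l * (a * l * a⁻¹))⁻¹ := by
        rw [mul_inv_rev, mul_assoc l (a * l * a⁻¹) t, hc]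
        group
      rw [e]
      have hjl : l * (a * l * a⁻¹) ∈ J ⊔ Subgroup.zpowers x :=
        Subgroup.mem_sup_left (hJgen l hl)
      exact Subgroup.mul_mem _ (Subgroup.mul_mem _ hjl htT) (Subgroup.inv_mem _ hjl)
    have hLT : L ≤ J ⊔ Subgroup.zpowers x := by
      rcases Cfsg.Agent.S1270.eq_or_le_centralizer_of_normal hL inf_le_right hNnorm with h1 | h1
      · rw [← h1]; exact inf_le_left
      · exact absurd (h1 (Subgroup.mem_inf.2 ⟨huT, huL⟩)) huC
    apply sup_le hLT
    intro m' hm'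
    have hl' : a⁻¹ * m' * a ∈ L := mem_cj.1 hm'
    have e : m' = (a⁻¹ * m' * a)⁻¹ * ((a⁻¹ * m' * a) * (a * (a⁻¹ * m' * a) * a⁻¹)) := by group
    rw [e]
    exact Subgroup.mul_mem _ (Subgroup.inv_mem _ (hLT hl'))
      (Subgroup.mem_sup_left (hJgen _ hl'))

end Cfsg.Agent.S1921
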