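import Cfsg.Statements.S1922
import Cfsg.Agent.Lib.Helper13.IsolatedInv
import Cfsg.Agent.Lib.Helper13.ConjFamily

set_option autoImplicit false
open Cfsg
open Cfsg.Agent.Lib.Helper13

namespace Cfsg.Agent.S1922

/-- Let z be an involution of a finite group G and H a proper subgroup such that z lies in gHg⁻¹ exactly when g ∈ H. Then the following are equivalent: (1) for every conjugate t ≠ z of z commuting with z, the product zt lies in gHg⁻¹ exactly when g ∈ H; (2) z lies in the centre of some Sylow 2-subgroup of G, and for every conjugate t ≠ z of z commuting with z, the centralizer of zt is contained in H. -/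
theorem result {G : Type*} [Group G] [Finite G] (z : G) (hz : orderOf z = 2) (H : Subgroup G) (hH : H ≠ ⊤)
    (h0 : ∀ g : G, z ∈ H.map (MulAut.conj g).toMonoidHom ↔ g ∈ H) :
    (∀ t : G, IsConj z t → t ≠ z → t * z = z * t → ∀ g : G, z * t ∈ H.map (MulAut.conj g).toMonoidHom ↔ g ∈ H) ↔
      ((∃ P : Sylow 2 G, z ∈ (Subgroup.center ↥(P : Subgroup G)).map (P : Subgroup G).subtype) ∧
        ∀ t : G, IsConj z t → t ≠ z → t * z = z * t → Subgroup.centralizer ({z * t} : Set G) ≤ H) := by
  haveI : Fact (Nat.Prime 2) := ⟨Nat.prime_two⟩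
  have hz2 : z * z = 1 := by
    have := pow_orderOf_eq_one z
    rwa [hz, pow_two] at this
  have h0' : ∀ g : G, g⁻¹ * z * g ∈ H ↔ g ∈ H := fun g => by
    rw [← mem_cj]; exact h0 g
  have hzH : z ∈ H := iso_z_mem h0'
  constructor
  · intro h1
    have h1' : ∀ t : G, IsConj z t → t ≠ z → t * z = z * t →
        ∀ g : G, g⁻¹ * (z * t) * g ∈ H ↔ g ∈ H := fun t ht htz htc g => by
      rw [← mem_cj]; exact h1 t ht htz htc g
    refine ⟨?_, ?_⟩
    · have hidx := iso_not_dvd_index_centralizer hz2 hH h0' h1'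
      obtain ⟨C, hC⟩ : ∃ C : Subgroup G, C = Subgroup.centralizer ({z} : Set G) := ⟨_, rfl⟩
      rw [← hC] at hidx
      have hzC : z ∈ C := by
        rw [hC, Subgroup.mem_centralizer_iff]
        intro y hy
        rw [Set.mem_singleton_iff.mp hy]
      have hZ2 : IsPGroup 2 ↥(Subgroup.zpowers (⟨z, hzC⟩ : ↥C)) := by
        rintro ⟨y, hy⟩
        obtain ⟨k, rfl⟩ := Subgroup.mem_zpowers_iff.mp hy
        refine ⟨1, ?_⟩
        apply Subtype.ext
        apply Subtype.ext
        simp only [pow_one, Subgroup.coe_pow, Subgroup.coe_zpow, Subgroup.coe_one]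
        rw [← zpow_natCast, ← zpow_mul, mul_comm, zpow_mul, zpow_natCast, pow_two, hz2, one_zpow]
      obtain ⟨Q, hQ⟩ := hZ2.exists_le_sylow
      have hP'2 : IsPGroup 2 ↥((Q : Subgroup ↥C).map C.subtype) := Q.isPGroup'.map _
      have hP'i : ¬ 2 ∣ ((Q : Subgroup ↥C).map C.subtype).index := by
        rw [Subgroup.index_map_subtype]
        intro hd
        rcases (Nat.Prime.dvd_mul Nat.prime_two).mp hd with h | h
        · exact Q.not_dvd_index h
        · exact hidx h
      refine ⟨hP'2.toSylow hP'i, ?_⟩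
      have hzP : z ∈ ((hP'2.toSylow hP'i : Sylow 2 G) : Subgroup G) := by
        rw [IsPGroup.toSylow_coe]
        exact ⟨⟨z, hzC⟩, hQ (Subgroup.mem_zpowers _), rfl⟩
      refine ⟨⟨z, hzP⟩, Subgroup.mem_center_iff.mpr ?_, rfl⟩
      rintro ⟨y, hy⟩
      apply Subtype.ext
      show y * z = z * y
      rw [IsPGroup.toSylow_coe] at hy
      obtain ⟨c, -, rfl⟩ := hy
      have hc : (c : G) ∈ Subgroup.centralizer ({z} : Set G) := hC ▸ c.2
      rw [Subgroup.mem_centralizer_iff] at hc
      exact (hc z rfl).symm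
    · intro t ht htz htc x hx
      rw [Subgroup.mem_centralizer_iff] at hx
      have hx' := hx (z * t) rfl
      apply (h1' t ht htz htc x).mp
      have e : x⁻¹ * (z * t) * x = z * t := by
        rw [mul_assoc, hx']; group
      rw [e]
      have := (h1' t ht htz htc 1).mpr (one_mem H)
      simpa using this
  · rintro ⟨⟨P, hzP⟩, hcent⟩ t ht htz htc g
    rw [mem_cj]
    have htH : t ∈ H := iso_centralizer_le h0' htc
    constructor
    swap
    · intro hg
      exact mul_mem (mul_mem (inv_mem hg) (mul_mem hzH htH)) hg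
    · intro hu
      -- `P ≤ C(z) ≤ H`
      obtain ⟨⟨z', hz'P⟩, hz'c, hz'z⟩ := hzP
      have hz'z' : z' = z := hz'z
      subst hz'z'
      have hz'c := Subgroup.mem_center_iff.mp hz'c
      have hPz : ∀ x ∈ (P : Subgroup G), x * z' = z' * x := by
        intro x hx
        have := hz'c ⟨x, hx⟩
        exact congrArg Subtype.val this
      have hPH : (P : Subgroup G) ≤ H := fun x hx => iso_centralizer_le h0' (hPz x hx)
      have hPi : ¬ 2 ∣ (P : Subgroup G).relIndex H := by
        intro hd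
        apply P.not_dvd_index
        rw [← Subgroup.relIndex_mul_index hPH]
        exact dvd_mul_of_dvd_left hd _
      have ht2 : t * t = 1 := iso_sq_conj hz2 ht
      have hu2 : (g⁻¹ * (z' * t) * g) * (g⁻¹ * (z' * t) * g) = 1 := by
        calc (g⁻¹ * (z' * t) * g) * (g⁻¹ * (z' * t) * g) = g⁻¹ * (z' * (t * z') * t) * g := by group
          _ = g⁻¹ * (z' * (z' * t) * t) * g := by rw [htc]
          _ = g⁻¹ * ((z' * z') * (t * t)) * g := by group
          _ = 1 := by rw [hz2, ht2]; group
      have hR2 : IsPGroup 2 ↥(Subgroup.zpowers (g⁻¹ * (z' * t) * g)) := by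
        rintro ⟨y, hy⟩
        obtain ⟨k, rfl⟩ := Subgroup.mem_zpowers_iff.mp hy
        refine ⟨1, ?_⟩
        apply Subtype.ext
        simp only [pow_one, Subgroup.coe_pow, Subgroup.coe_one]
        rw [← zpow_natCast, ← zpow_mul, mul_comm, zpow_mul, zpow_natCast, pow_two, hu2, one_zpow]
      obtain ⟨h, hhH, hle⟩ := exists_mem_cj_le_of_relIndex hPH P.isPGroup' hPi
        ((Subgroup.zpowers_le).mpr hu) hR2
      have hmem : h * (g⁻¹ * (z' * t) * g) * h⁻¹ ∈ (P : Subgroup G) :=
        hle (cj_mem (Subgroup.mem_zpowers _))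
      have hcomm := hPz _ hmem
      -- `z'' = (g h⁻¹) z (g h⁻¹)⁻¹` commutes with `z' * t`
      have hz'' : (g * h⁻¹) * z' * (g * h⁻¹)⁻¹ ∈ Subgroup.centralizer ({z' * t} : Set G) := by
        rw [Subgroup.mem_centralizer_iff]
        intro y hy
        rw [Set.mem_singleton_iff.mp hy]
        have e1 : z' * t * (g * h⁻¹ * z' * (g * h⁻¹)⁻¹) =
            g * h⁻¹ * ((h * (g⁻¹ * (z' * t) * g) * h⁻¹) * z') * h * g⁻¹ := by group
        have e2 : g * h⁻¹ * z' * (g * h⁻¹)⁻¹ * (z' * t) =
            g * h⁻¹ * (z' * (h * (g⁻¹ * (z' * t) * g) * h⁻¹)) * h * g⁻¹ := by group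
        rw [e1, e2, hcomm]
      have h3 := hcent t ht htz htc hz''
      rw [iso_conj_mem_iff h0'] at h3
      have : g = (g * h⁻¹) * h := by group
      rw [this]
      exact mul_mem h3 hhH

end Cfsg.Agent.S1922
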