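import Cfsg.Statements.S1924
import Cfsg.Agent.Lib.Helper13.FreeSign
import Cfsg.Agent.Lib.Helper13.DihedralAux

set_option autoImplicit false
open Cfsg

namespace Cfsg.Agent.S1924

open Cfsg.Agent.Lib.Helper13

theorem card_mul_relIndex' {G : Type*} [Group G] {H K : Subgroup G} (h : H ≤ K) :
    Nat.card H * H.relIndex K = Nat.card K := by
  have := Subgroup.relIndex_mul_relIndex (⊥ : Subgroup G) H K bot_le h
  rwa [Subgroup.relIndex_bot_left, Subgroup.relIndex_bot_left] at this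

theorem card_mul_card_le_sup {G : Type*} [Group G] [Finite G] (T C : Subgroup G) (h : T ⊓ C = ⊥) :
    Nat.card T * Nat.card C ≤ Nat.card ↥(T ⊔ C) := by
  rw [← Nat.card_prod]
  let f : ↥T × ↥C → ↥(T ⊔ C) := fun tc =>
    ⟨(tc.1 : G) * (tc.2 : G), Subgroup.mul_mem _ (Subgroup.mem_sup_left tc.1.2) (Subgroup.mem_sup_right tc.2.2)⟩
  apply Nat.card_le_card_of_injective f
  rintro ⟨t, c⟩ ⟨t', c'⟩ hf
  have hf' : (t : G) * (c : G) = (t' : G) * (c' : G) := congrArg Subtype.val hf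
  have h1 : (t' : G)⁻¹ * (t : G) = (c' : G) * (c : G)⁻¹ := by
    calc (t' : G)⁻¹ * (t : G) = (t' : G)⁻¹ * ((t : G) * (c : G)) * (c : G)⁻¹ := by group
      _ = (t' : G)⁻¹ * ((t' : G) * (c' : G)) * (c : G)⁻¹ := by rw [hf']
      _ = (c' : G) * (c : G)⁻¹ := by group
  have h2 : (t' : G)⁻¹ * (t : G) ∈ T ⊓ C := by
    refine Subgroup.mem_inf.mpr ⟨T.mul_mem (T.inv_mem t'.2) t.2, ?_⟩
    rw [h1]
    exact C.mul_mem c'.2 (C.inv_mem c.2)
  rw [h, Subgroup.mem_bot] at h2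
  have h3 : (c' : G) * (c : G)⁻¹ = 1 := by rw [← h1, h2]
  have e1 : (t : G) = (t' : G) := by
    have := inv_mul_eq_one.mp h2
    exact this.symm
  have e2 : (c : G) = (c' : G) := by
    have := mul_inv_eq_one.mp h3
    exact this.symm
  exact Prod.ext (Subtype.ext e1) (Subtype.ext e2)

theorem subgroupOf_le_pResidual {H : Type*} [Group H] (p : ℕ) (T K : Subgroup H)
    (hT : T ≤ Cfsg.pResidual p H) (hK : Cfsg.pResidual p H ≤ K) :
    T.subgroupOf K ≤ Cfsg.pResidual p ↥K := by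
  intro t ht
  rw [Subgroup.mem_subgroupOf] at ht
  have h3 : (t : H) ∈ (Cfsg.pResidual p ↥K).map K.subtype := by
    rw [pResidual_map_subtype p K hK]; exact hT ht
  obtain ⟨t', ht', htt'⟩ := h3
  have : t' = t := Subtype.ext htt'
  rw [← this]
  exact ht'

theorem le_pResidual_of_pResidual_eq_top {G : Type*} [Group G] (p : ℕ) (L : Subgroup G)
    (hL : Cfsg.pResidual p ↥L = ⊤) : L ≤ Cfsg.pResidual p G := by
  have h1 : (Cfsg.pResidual p ↥L).map L.subtype ≤ Cfsg.pResidual p G := by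
    unfold Cfsg.pResidual
    rw [MonoidHom.map_closure, Subgroup.closure_le]
    rintro _ ⟨g, hg, rfl⟩
    apply Subgroup.subset_closure
    show Nat.Coprime (orderOf (L.subtype g)) p
    rw [Subgroup.coe_subtype, Subgroup.orderOf_coe]
    exact hg
  rw [hL] at h1
  intro x hx
  exact h1 ⟨⟨x, hx⟩, Subgroup.mem_top _, rfl⟩

theorem outside_involution {G : Type*} [Group G] (D C : Subgroup G)
    (hDih : ∃ n : ℕ, 2 ≤ n ∧ Nonempty (↥D ≃* DihedralGroup n)) (hCD : C ≤ D) (hC : IsCyclic ↥C)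
    (hCi : C.relIndex D = 2) (d : G) (hd : d ∈ D) (hdC : d ∉ C) : orderOf d = 2 := by
  obtain ⟨n, hn, ⟨e⟩⟩ := hDih
  set C' : Subgroup (DihedralGroup n) := (C.subgroupOf D).map (e : ↥D →* DihedralGroup n) with hC'
  have hcyc0 : IsCyclic ↥(C.subgroupOf D) :=
    (Subgroup.subgroupOfEquivOfLe hCD).isCyclic.mpr hC
  have hcyc : IsCyclic ↥C' := by
    have e2 : ↥(C.subgroupOf D) ≃* ↥C' :=
      (C.subgroupOf D).equivMapOfInjective (e : ↥D →* DihedralGroup n) e.injective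
    exact e2.isCyclic.mp hcyc0
  have hidx : C'.index = 2 := by
    rw [hC', Subgroup.index_map_equiv]
    exact hCi
  have hd' : e ⟨d, hd⟩ ∉ C' := by
    rintro ⟨y, hy, hye⟩
    have : y = ⟨d, hd⟩ := e.injective hye
    rw [this] at hy
    exact hdC (Subgroup.mem_subgroupOf.mp hy)
  have := dihedral_outside_cyclic_index_two hn C' hcyc hidx _ hd'
  rw [MulEquiv.orderOf_eq, Subgroup.orderOf_mk] at this
  exact this

theorem card_eq_of_sylow_in {G : Type*} [Group G] [Finite G] (L T T' : Subgroup G)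
    (hTL : T ≤ L) (hT2 : IsPGroup 2 T) (hTsyl : ¬ 2 ∣ T.relIndex L)
    (hT'L : T' ≤ L) (hT'2 : IsPGroup 2 T') (hT'syl : ¬ 2 ∣ T'.relIndex L) :
    Nat.card T' = Nat.card T := by
  have e1 := card_mul_relIndex' hTL
  have e2 := card_mul_relIndex' hT'L
  obtain ⟨a, ha⟩ := IsPGroup.iff_card.mp hT2
  obtain ⟨b, hb⟩ := IsPGroup.iff_card.mp hT'2
  have c1 : Nat.Coprime (2 ^ a) (T'.relIndex L) :=
    Nat.Coprime.pow_left a ((Nat.Prime.coprime_iff_not_dvd Nat.prime_two).mpr hT'syl)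
  have c2 : Nat.Coprime (2 ^ b) (T.relIndex L) :=
    Nat.Coprime.pow_left b ((Nat.Prime.coprime_iff_not_dvd Nat.prime_two).mpr hTsyl)
  have d1 : Nat.card T ∣ Nat.card T' := by
    rw [ha] at e1 ⊢
    apply c1.dvd_of_dvd_mul_right
    rw [e2, ← e1]
    exact dvd_mul_right _ _
  have d2 : Nat.card T' ∣ Nat.card T := by
    rw [hb] at e2 ⊢
    apply c2.dvd_of_dvd_mul_right
    rw [e1, ← e2]
    exact dvd_mul_right _ _
  exact Nat.dvd_antisymm d2 d1

/-- A consequence of Thompson's transfer lemma. Let G be a finite group, L a subgroup with O²(L) = L, T a Sylow 2-subgroup of L and S a Sylow 2-subgroup of G containing T. Suppose D ≤ S is a dihedral subgroup of order at least 4 (the four-group counts) with D ∩ T = 1 and S = TD as a set of products (so |S| = |T|·|D|), and C ≤ D is cyclic of index 2 in D. If no involution of D outside C is G-conjugate to an involution of the subgroup generated by T and C, and the involution of C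 is not G-conjugate to any involution of T, then G has a normal subgroup K, containing every Sylow 2-subgroup of L as a Sylow 2-subgroup, with G = KD. -/
theorem result {G : Type*} [Group G] [Finite G] (L T S D C : Subgroup G) (hL : Cfsg.pResidual 2 ↥L = ⊤)
    (hTL : T ≤ L) (hT2 : IsPGroup 2 T) (hTsyl : ¬ 2 ∣ T.relIndex L)
    (hS2 : IsPGroup 2 S) (hSsyl : ¬ 2 ∣ S.index) (hTS : T ≤ S)
    (hDS : D ≤ S) (hDih : ∃ n : ℕ, 2 ≤ n ∧ Nonempty (↥D ≃* DihedralGroup n)) (hDT : D ⊓ T = ⊥) (hTD : T ⊔ D = S) (hTDc : Nat.card T * Nat.card D = Nat.card S)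
    (hCD : C ≤ D) (hC : IsCyclic ↥C) (hCi : C.relIndex D = 2)
    (h1 : ∀ x ∈ D, x ∉ C → orderOf x = 2 → ∀ g : G, g * x * g⁻¹ ∈ T ⊔ C → False)
    (h2 : ∀ c ∈ C, orderOf c = 2 → ∀ g : G, g * c * g⁻¹ ∈ T → False) :
    ∃ K : Subgroup G, K.Normal ∧ K ⊔ D = ⊤ ∧
      ∀ T' : Subgroup G, T' ≤ L → IsPGroup 2 T' → ¬ 2 ∣ T'.relIndex L → T' ≤ K ∧ ¬ 2 ∣ T'.relIndex K := by
  haveI : Fact (Nat.Prime 2) := ⟨Nat.prime_two⟩
  have hDinv : ∀ d ∈ D, d ∉ C → orderOf d = 2 := outside_involution D C hDih hCD hC hCi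
  have hLK : L ≤ Cfsg.pResidual 2 G := le_pResidual_of_pResidual_eq_top 2 L hL
  have hTK : T ≤ Cfsg.pResidual 2 G := hTL.trans hLK
  have hmodd : Odd S.index := Nat.odd_iff.mpr (Nat.two_dvd_ne_zero.mp hSsyl)
  -- an element of D outside C
  obtain ⟨x₀, hx₀D, hx₀C⟩ : ∃ x₀ ∈ D, x₀ ∉ C := by
    by_contra hcon
    push_neg at hcon
    have : D ≤ C := hcon
    rw [← Subgroup.relIndex_eq_one, hCi] at this
    norm_num at this
  -- cardinalities
  have hTC : T ⊓ C = ⊥ := by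
    rw [eq_bot_iff, ← hDT]
    exact le_inf (inf_le_right.trans hCD) inf_le_left
  have hcardD : Nat.card C * 2 = Nat.card D := by
    have := card_mul_relIndex' hCD
    rwa [hCi] at this
  have hS₁S : T ⊔ C ≤ S := sup_le hTS (hCD.trans hDS)
  have hx₀S₁ : x₀ ∉ T ⊔ C := by
    intro hmem
    apply h1 x₀ hx₀D hx₀C (hDinv x₀ hx₀D hx₀C) 1
    simpa using hmem
  have hcardS₁ : Nat.card ↥(T ⊔ C) = Nat.card T * Nat.card C := by
    have hle := card_mul_card_le_sup T C hTC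
    have hdvd : Nat.card ↥(T ⊔ C) ∣ Nat.card S := Subgroup.card_dvd_of_le hS₁S
    have hne : Nat.card ↥(T ⊔ C) ≠ Nat.card S := by
      intro heq
      have : T ⊔ C = S := Subgroup.eq_of_le_of_card_ge hS₁S heq.ge
      exact hx₀S₁ (this ▸ hDS hx₀D)
    have hS : Nat.card S = 2 * (Nat.card T * Nat.card C) := by
      rw [← hTDc, ← hcardD]; ring
    obtain ⟨q, hq⟩ := hdvd
    have hpos : 0 < Nat.card ↥(T ⊔ C) := Nat.card_pos
    rcases Nat.lt_or_ge q 2 with hq2 | hq2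
    · interval_cases q
      · rw [mul_zero] at hq
        have : 0 < Nat.card S := Nat.card_pos
        omega
      · rw [mul_one] at hq
        exact absurd hq.symm hne
    · rcases Nat.lt_or_ge 2 q with hq3 | hq3
      · exfalso
        have : Nat.card ↥(T ⊔ C) * 3 ≤ Nat.card ↥(T ⊔ C) * q := Nat.mul_le_mul_left _ hq3
        rw [← hq, hS] at this
        omega
      · have : q = 2 := le_antisymm hq3 hq2
        subst this
        rw [hS] at hq
        omega
  have hidxS₁ : (T ⊔ C).index = 2 ^ (0 + 1) * S.index := by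
    have e1 := (T ⊔ C).card_mul_index
    have e2 := S.card_mul_index
    rw [hcardS₁] at e1
    rw [← hTDc, ← hcardD] at e2
    have hpos : 0 < Nat.card T * Nat.card C :=
      Nat.mul_pos Nat.card_pos Nat.card_pos
    have : Nat.card T * Nat.card C * (T ⊔ C).index = Nat.card T * Nat.card C * (2 ^ (0 + 1) * S.index) := by
      rw [e1, ← e2]; ring
    exact Nat.eq_of_mul_eq_mul_left hpos this
  -- the first sign hom
  have hφ : ∀ x ∈ D, x ∉ C → cosetSignHom (T ⊔ C) x = -1 := by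
    intro x hxD hxC
    have hxo := hDinv x hxD hxC
    apply cosetSignHom_eq_neg_one (T ⊔ C) x 0 S.index _ _ hidxS₁ hmodd
    · rw [zero_add, pow_one, ← hxo, pow_orderOf_eq_one]
    · intro g hmem
      apply h1 x hxD hxC hxo g⁻¹
      rw [inv_inv]
      simpa using hmem
  set G₁ : Subgroup G := (cosetSignHom (T ⊔ C)).ker with hG₁
  have hG₁idx : G₁.index = 2 := index_ker_eq_two _ x₀ (hφ x₀ hx₀D hx₀C)
  have hKG₁ : Cfsg.pResidual 2 G ≤ G₁ := pResidual_two_le_ker _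
  have hCG₁ : C ≤ G₁ := by
    intro c hc
    have hcx : c * x₀ ∉ C := by
      intro hmem
      apply hx₀C
      have : x₀ = c⁻¹ * (c * x₀) := by group
      rw [this]
      exact C.mul_mem (C.inv_mem hc) hmem
    have e1 := hφ (c * x₀) (D.mul_mem (hCD hc) hx₀D) hcx
    rw [map_mul, hφ x₀ hx₀D hx₀C] at e1
    show c ∈ (cosetSignHom (T ⊔ C)).ker
    rw [MonoidHom.mem_ker]
    have : cosetSignHom (T ⊔ C) c * -1 * -1 = -1 * -1 := by rw [e1]
    simpa using this
  -- generator of C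
  obtain ⟨c₀, hc₀⟩ := hC.exists_generator
  have hC2 : IsPGroup 2 C := hS2.to_le (hCD.trans hDS)
  obtain ⟨k, hk⟩ := IsPGroup.iff_card.mp hC2
  have hc₀o : orderOf (c₀ : G) = 2 ^ k := by
    rw [Subgroup.orderOf_coe, orderOf_eq_card_of_forall_mem_zpowers hc₀, hk]
  have hfree : ∀ i < k, ∀ g : G, g⁻¹ * (c₀ : G) ^ (2 ^ i) * g ∉ T := by
    intro i hi g hmem
    have hk1 : k - 1 + 1 = k := by omega
    have hzo : orderOf ((c₀ : G) ^ 2 ^ (k - 1)) = 2 := by
      rw [orderOf_pow_of_dvd (by positivity) (by rw [hc₀o]; exact pow_dvd_pow 2 (by omega)), hc₀o]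
      rw [Nat.div_eq_iff_eq_mul_left (by positivity) (pow_dvd_pow 2 (by omega))]
      rw [← pow_succ', hk1]
    apply h2 _ (C.pow_mem c₀.2 _) hzo g⁻¹
    rw [inv_inv]
    have e : g⁻¹ * (c₀ : G) ^ 2 ^ (k - 1) * g = (g⁻¹ * (c₀ : G) ^ (2 ^ i) * g) ^ (2 ^ (k - 1 - i)) := by
      rw [show g⁻¹ * (c₀ : G) ^ (2 ^ i) * g = g⁻¹ * (c₀ : G) ^ (2 ^ i) * g⁻¹⁻¹ by rw [inv_inv]]
      rw [conj_pow, ← pow_mul, ← pow_add, inv_inv]
      have hik : i + (k - 1 - i) = k - 1 := by omega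
      rw [hik]
    rw [e]
    exact T.pow_mem hmem _
  -- index of T in G₁
  have hTG₁ : T ≤ G₁ := hTK.trans hKG₁
  have hidxT : (T.subgroupOf G₁).index = 2 ^ k * S.index := by
    have e1 := Subgroup.relIndex_mul_index hTG₁
    have e2 := Subgroup.relIndex_mul_index hTS
    have e3 := card_mul_relIndex' hTS
    rw [← hTDc] at e3
    have e4 : T.relIndex S = Nat.card D := Nat.eq_of_mul_eq_mul_left Nat.card_pos e3
    rw [e4, ← hcardD, hk] at e2
    rw [hG₁idx, ← e2] at e1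
    have : T.relIndex G₁ * 2 = 2 ^ k * S.index * 2 := by rw [e1]; ring
    exact Nat.eq_of_mul_eq_mul_right (by norm_num) this
  have key := two_pow_dvd_index_pResidual k ↥G₁ (T.subgroupOf G₁) ⟨(c₀ : G), hCG₁ c₀.2⟩ S.index
    ?_ ?_ (subgroupOf_le_pResidual 2 T G₁ hTK hKG₁) hidxT hmodd
  rotate_left
  · apply Subtype.ext
    rw [Subgroup.coe_pow]
    show (c₀ : G) ^ 2 ^ k = 1
    rw [← hc₀o, pow_orderOf_eq_one]
  · intro i hi g hmem
    rw [Subgroup.mem_subgroupOf] at hmem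
    apply hfree i hi (g : G)
    have e : (g : G)⁻¹ * (c₀ : G) ^ 2 ^ i * (g : G) =
        ((g⁻¹ * (⟨(c₀ : G), hCG₁ c₀.2⟩ : ↥G₁) ^ 2 ^ i * g : ↥G₁) : G) := by
      rw [Subgroup.coe_mul, Subgroup.coe_mul, Subgroup.coe_inv, Subgroup.coe_pow]
    rw [e]
    exact hmem
  have hKidx : 2 ^ (k + 1) ∣ (Cfsg.pResidual 2 G).index := by
    rw [← pResidual_map_subtype 2 G₁ hKG₁, Subgroup.index_map_subtype, hG₁idx, pow_succ]
    exact Nat.mul_dvd_mul_right key 2
  -- conclusion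
  refine ⟨Cfsg.pResidual 2 G, pResidual_normal' 2, ?_, ?_⟩
  · rw [eq_top_iff, ← sylow_sup_pResidual_eq_top S hSsyl, ← hTD]
    refine sup_le (sup_le (hTK.trans le_sup_left) le_sup_right) le_sup_left
  · intro T' hT'L hT'2 hT'syl
    refine ⟨hT'L.trans hLK, ?_⟩
    intro hdvd
    have hcard := card_eq_of_sylow_in L T T' hTL hT2 hTsyl hT'L hT'2 hT'syl
    have e1 := card_mul_relIndex' (hT'L.trans hLK)
    have e2 := (Cfsg.pResidual 2 G).card_mul_index
    have e3 := S.card_mul_index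
    rw [← hTDc, ← hcardD, hk] at e3
    obtain ⟨q, hq⟩ := hKidx
    obtain ⟨r, hr⟩ := hdvd
    rw [hq, ← e1, hr, hcard, ← e3] at e2
    have hpos : 0 < Nat.card T * 2 ^ (k + 1) := Nat.mul_pos Nat.card_pos (by positivity)
    have : Nat.card T * 2 ^ (k + 1) * (2 * (r * q)) = Nat.card T * 2 ^ (k + 1) * S.index := by
      rw [pow_succ] at e2 ⊢
      rw [← e2]; ring
    have := Nat.eq_of_mul_eq_mul_left hpos this
    exact hSsyl ⟨r * q, this.symm⟩

end Cfsg.Agent.S1924
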