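import Cfsg.Statements.S1939
import Cfsg.Agent.Lib.Helper13.SylowConj

set_option autoImplicit false
open Cfsg

namespace Cfsg.Agent.S1939

open Cfsg.Agent.Lib.Helper13
open scoped Pointwise

/-- If a ∈ S (S Sylow) is weakly closed in S with respect to G, so is every power of a. -/
theorem result {G : Type*} [Group G] [Finite G] {p : ℕ} [Fact p.Prime] (S : Sylow p G) (a : G)
    (haS : a ∈ (S : Subgroup G)) (hwc : ∀ g : G, g * a * g⁻¹ ∈ (S : Subgroup G) → g * a * g⁻¹ = a) (n : ℕ) :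
    ∀ g : G, g * a ^ n * g⁻¹ ∈ (S : Subgroup G) → g * a ^ n * g⁻¹ = a ^ n := by
  intro g hc
  have hacen : ∀ s ∈ (S : Subgroup G), s * a = a * s := by
    intro s hs
    have h1 : s * a * s⁻¹ ∈ (S : Subgroup G) :=
      (S : Subgroup G).mul_mem ((S : Subgroup G).mul_mem hs haS) ((S : Subgroup G).inv_mem hs)
    have := hwc s h1
    calc s * a = (s * a * s⁻¹) * s := by group
      _ = a * s := by rw [this]
  have hbcen : ∀ s ∈ (S : Subgroup G), s * a ^ n = a ^ n * s := fun s hs =>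
    (Commute.pow_right (hacen s hs) n)
  have hP1 : ((g • S : Sylow p G) : Subgroup G) ≤ Subgroup.centralizer ({g * a ^ n * g⁻¹} : Set G) := by
    rw [Sylow.coe_subgroup_smul]
    have := conj_sylow_le_centralizer (S : Subgroup G) (a ^ n) g hbcen
    exact this
  have hRC : Subgroup.zpowers a ≤ Subgroup.centralizer ({g * a ^ n * g⁻¹} : Set G) := by
    rw [Subgroup.zpowers_le, Subgroup.mem_centralizer_iff]
    intro y hy
    rw [Set.mem_singleton_iff] at hy
    subst hy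
    exact hacen _ hc
  have hR : IsPGroup p (Subgroup.zpowers a) :=
    S.isPGroup'.to_le (by rw [Subgroup.zpowers_le]; exact haS)
  obtain ⟨h, hhC, hh⟩ := exists_conj_le_of_sylow_le (g • S) _ _ hP1 hRC hR
  have h1 : h * a * h⁻¹ ∈ ((g • S : Sylow p G) : Subgroup G) := hh a (Subgroup.mem_zpowers a)
  rw [Sylow.coe_subgroup_smul, Subgroup.mem_pointwise_smul_iff_inv_smul_mem] at h1
  have h2 : (g⁻¹ * h) * a * (g⁻¹ * h)⁻¹ ∈ (S : Subgroup G) := by
    have e : (MulAut.conj g)⁻¹ • (h * a * h⁻¹) = (g⁻¹ * h) * a * (g⁻¹ * h)⁻¹ := by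
      rw [← map_inv, MulAut.smul_def, MulAut.conj_apply]; group
    rw [e] at h1; exact h1
  have h3 := hwc _ h2
  have h4 : h * a * h⁻¹ = g * a * g⁻¹ := by
    calc h * a * h⁻¹ = g * ((g⁻¹ * h) * a * (g⁻¹ * h)⁻¹) * g⁻¹ := by group
      _ = g * a * g⁻¹ := by rw [h3]
  have h5 : h * a ^ n * h⁻¹ = g * a ^ n * g⁻¹ := by
    rw [← conj_pow, ← conj_pow, h4]
  rw [Subgroup.mem_centralizer_iff] at hhC
  have h6 := hhC _ (Set.mem_singleton _)
  rw [← h5] at h6 ⊢
  calc h * a ^ n * h⁻¹ = h⁻¹ * ((h * a ^ n * h⁻¹) * h) := by rw [h6]; group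
    _ = a ^ n := by group

end Cfsg.Agent.S1939
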