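import Cfsg.Statements.S1940
import Mathlib.Algebra.BigOperators.GroupWithZero.Action
import Mathlib.GroupTheory.OrderOfElement

set_option autoImplicit false
open Cfsg

namespace Cfsg.Agent.S1940

/-- Averaging lemma: L acting on finite abelian M, trivially on the p-group M/N; if M = N·C_M(T) for a Sylow p-subgroup T of L then M = N·C_M(L). -/
theorem result {L : Type*} [Group L] [Finite L] {M : Type*} [CommGroup M] [Finite M] [MulDistribMulAction L M]
    {p : ℕ} [Fact p.Prime] (N : Subgroup M) (hN : ∀ (l : L) (m : M), m ∈ N → l • m ∈ N)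
    (hquot : IsPGroup p (M ⧸ N)) (htriv : ∀ (l : L) (m : M), (l • m) * m⁻¹ ∈ N) (T : Sylow p L)
    (hT : ∀ m : M, ∃ n ∈ N, ∃ c : M, (∀ t ∈ (T : Subgroup L), t • c = c) ∧ m = n * c) :
    ∀ m : M, ∃ n ∈ N, ∃ c : M, (∀ l : L, l • c = c) ∧ m = n * c := by
  classical
  intro m
  obtain ⟨n, hn, c, hc, rfl⟩ := hT m
  haveI : Fintype (L ⧸ (T : Subgroup L)) := Fintype.ofFinite _
  let f : L ⧸ (T : Subgroup L) → M := Quotient.lift (fun l : L => l • c) (by
    intro a b hab
    have hab' : a⁻¹ * b ∈ (T : Subgroup L) := QuotientGroup.leftRel_apply.mp hab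
    have : (a⁻¹ * b) • c = c := hc _ hab'
    show a • c = b • c
    calc a • c = a • ((a⁻¹ * b) • c) := by rw [this]
      _ = b • c := by rw [← mul_smul]; congr 1; group)
  have hf : ∀ l : L, f (QuotientGroup.mk l) = l • c := fun l => rfl
  let c' : M := ∏ q : L ⧸ (T : Subgroup L), f q
  have hc' : ∀ l : L, l • c' = c' := by
    intro l
    show l • (∏ q : L ⧸ (T : Subgroup L), f q) = ∏ q : L ⧸ (T : Subgroup L), f q
    rw [Finset.smul_prod']
    have hlf : ∀ q : L ⧸ (T : Subgroup L), l • f q = f (l • q) := by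
      intro q
      induction q using QuotientGroup.induction_on with
      | H a =>
        rw [hf]
        show l • a • c = f (QuotientGroup.mk (l * a))
        rw [hf, mul_smul]
    simp_rw [hlf]
    exact Fintype.prod_equiv (MulAction.toPerm l) _ _ (fun q => rfl)
  have hmod : c' * (c ^ (Fintype.card (L ⧸ (T : Subgroup L))))⁻¹ ∈ N := by
    have h1 : ∏ q : L ⧸ (T : Subgroup L), (f q * c⁻¹) ∈ N := by
      apply Subgroup.prod_mem
      intro q _
      induction q using QuotientGroup.induction_on with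
      | H a => rw [hf]; exact htriv a c
    rw [Finset.prod_mul_distrib, Finset.prod_const, Finset.card_univ, inv_pow] at h1
    exact h1
  set k := Fintype.card (L ⧸ (T : Subgroup L)) with hk
  have hkp : ¬ p ∣ k := by
    have := T.not_dvd_index
    rwa [Subgroup.index, Nat.card_eq_fintype_card] at this
  let x : M ⧸ N := QuotientGroup.mk c
  have hcop : k.Coprime (orderOf x) := by
    obtain ⟨i, hi⟩ := (IsPGroup.iff_orderOf.mp hquot) x
    rw [hi]
    apply Nat.Coprime.pow_right
    exact ((Nat.Prime.coprime_iff_not_dvd Fact.out).mpr hkp).symm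
  obtain ⟨j, hj⟩ := exists_pow_eq_self_of_coprime hcop
  have hx' : (QuotientGroup.mk c' : M ⧸ N) = x ^ k := by
    rw [← QuotientGroup.mk_pow, QuotientGroup.eq]
    have : c'⁻¹ * c ^ k = (c' * (c ^ k)⁻¹)⁻¹ := by rw [mul_inv_rev, inv_inv, mul_comm]
    rw [this]
    exact N.inv_mem hmod
  have hfin : (QuotientGroup.mk (c' ^ j) : M ⧸ N) = QuotientGroup.mk c := by
    rw [QuotientGroup.mk_pow, hx', hj]
  refine ⟨n * (c * (c' ^ j)⁻¹), N.mul_mem hn ?_, c' ^ j, ?_, ?_⟩
  · have := QuotientGroup.eq.mp hfin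
    have e : c * (c' ^ j)⁻¹ = (c' ^ j)⁻¹ * c := mul_comm _ _
    rw [e]; exact this
  · intro l
    rw [smul_pow', hc']
  · rw [mul_assoc, mul_assoc, inv_mul_cancel, mul_one]

end Cfsg.Agent.S1940
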