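import Cfsg.Statements.S1941
import Cfsg.Agent.Lib.Helper13.InnerCocycle
import Cfsg.Agent.Lib.Helper1.CFitting
import Cfsg.Agent.Lib.Helper12.Local
import Cfsg.Agent.S1265

set_option autoImplicit false
open Cfsg

namespace Cfsg.Agent.S1941

/-- Let G be a finite group with no nontrivial normal subgroup of order prime to p, T a Sylow p-subgroup of G and E(G) the layer of G (the subgroup generated by its components). An automorphism of G of p-power order that fixes T and E(G) elementwise is inner. -/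
theorem result {G : Type*} [Group G] [Finite G] {p : ℕ} [Fact p.Prime] (hcore : Cfsg.pPrimeCore p G = ⊥)
    (T : Sylow p G) (α : MulAut G) (hα : ∃ j : ℕ, orderOf α = p ^ j) (hfixT : ∀ x ∈ (T : Subgroup G), α x = x)
    (hfixE : ∀ x ∈ Cfsg.layer G, α x = x) : ∃ g : G, ∀ x : G, α x = g * x * g⁻¹ := by
  have hF : Cfsg.fittingSubgroup G = Cfsg.pCore p G :=
    Cfsg.Agent.Lib.Helper1.fittingSubgroup_eq_pCore_of_pPrimeCore_eq_bot p hcore
  have hFT : Cfsg.fittingSubgroup G ≤ (T : Subgroup G) := by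
    rw [hF]; exact Cfsg.Agent.Lib.Helper1.pCore_le_sylow p T
  obtain ⟨Fs, hFs⟩ : ∃ Fs : Subgroup G, Fs = Cfsg.generalizedFittingSubgroup G := ⟨_, rfl⟩
  have hFsn : Fs.Normal := hFs ▸ Cfsg.Agent.Lib.Helper12.generalizedFittingSubgroup_normal G
  -- α fixes F*(G) elementwise
  have hfixFs : ∀ x ∈ Fs, α x = x := by
    have hle : Fs ≤ MonoidHom.eqLocus α.toMonoidHom (MonoidHom.id G) := by
      rw [hFs]
      refine sup_le ?_ ?_
      · intro x hx; exact hfixE x hx
      · intro x hx; exact hfixT x (hFT hx)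
    intro x hx
    exact hle hx
  -- Z = Z(F*(G))
  obtain ⟨Z, hZ⟩ : ∃ Z : Subgroup G, Z = Fs ⊓ Subgroup.centralizer (Fs : Set G) := ⟨_, rfl⟩
  have hCn : (Subgroup.centralizer (Fs : Set G)).Normal := Subgroup.normal_centralizer
  have hZn : Z.Normal := by rw [hZ]; infer_instance
  have hZc : ∀ a ∈ Z, ∀ b ∈ Z, a * b = b * a := by
    intro a ha b hb
    rw [hZ] at ha hb
    exact (Subgroup.mem_centralizer_iff.mp ha.2 b hb.1).symm
  have hZnil : Group.IsNilpotent ↥Z := by
    refine ⟨⟨1, ?_⟩⟩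
    rw [Subgroup.upperCentralSeries_one, Subgroup.center_eq_top_iff]
    exact ⟨⟨fun a b => Subtype.ext (hZc a a.2 b b.2)⟩⟩
  have hZF : Z ≤ Cfsg.fittingSubgroup G := Cfsg.Agent.Lib.Helper12.le_fittingSubgroup hZn hZnil
  have hZp : IsPGroup p ↥Z := by
    have : IsPGroup p ↥(Cfsg.pCore p G) := Cfsg.Agent.Lib.Helper1.pCore_isPGroup p
    exact this.to_le (hF ▸ hZF)
  -- the cocycle takes values in Z
  have hf : ∀ g : G, α g * g⁻¹ ∈ Z := by
    intro g
    have hC : α g * g⁻¹ ∈ Subgroup.centralizer (Fs : Set G) := by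
      rw [Subgroup.mem_centralizer_iff]
      intro y hy
      have h1 : g⁻¹ * y * g ∈ Fs := by
        have := hFsn.conj_mem y hy g⁻¹
        simpa using this
      have h2 := hfixFs _ h1
      rw [map_mul, map_mul, map_inv, hfixFs y hy] at h2
      -- h2 : (α g)⁻¹ * y * α g = g⁻¹ * y * g
      calc y * (α g * g⁻¹) = α g * ((α g)⁻¹ * y * α g) * g⁻¹ := by group
        _ = α g * (g⁻¹ * y * g) * g⁻¹ := by rw [h2]
        _ = α g * g⁻¹ * y := by group
    have hFsC : α g * g⁻¹ ∈ Fs := by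
      rw [hFs]
      exact Cfsg.Agent.S1265.result (hFs ▸ hC)
    rw [hZ]
    exact ⟨hFsC, hC⟩
  obtain ⟨v, -, hv⟩ := Cfsg.Agent.Lib.Helper13.inner_of_cocycle Z hZc hZp (T : Subgroup G)
    T.not_dvd_index α hf hfixT
  exact ⟨v, hv⟩

end Cfsg.Agent.S1941
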