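import Mathlib
import Cfsg.Statements.S1947
import Cfsg.Prelude.Def_Transfer
import Cfsg.Agent.Lib.Helper21.FrobeniusNPC
import Cfsg.Agent.Lib.Helper21.OmegaLemma

set_option autoImplicit false
open Cfsg

namespace Cfsg.Agent.S1947

open Cfsg.Agent.Lib.Helper21

/-- `p`-elements of the hypercentre commute with `p'`-elements. -/
theorem comm_of_mem_upperCentralSeries.{u} {p : ℕ} [hp : Fact p.Prime] :
    ∀ (n : ℕ) (G : Type u) [Group G] [Finite G] (a : G), a ∈ Subgroup.upperCentralSeries G n →
      (∃ k : ℕ, a ^ p ^ k = 1) → ∀ g : G, (orderOf g).Coprime p → g * a = a * g := by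
  intro n
  induction n with
  | zero =>
    intro G _ _ a ha _ g _
    rw [Subgroup.upperCentralSeries_zero, Subgroup.mem_bot] at ha
    rw [ha]; simp
  | succ n ih =>
    intro G _ _ a ha hk g hg
    obtain ⟨k, hk⟩ := hk
    rw [← Subgroup.comap_upperCentralSeries_quotient_center, Subgroup.mem_comap] at ha
    have hk' : (QuotientGroup.mk' (Subgroup.center G) a) ^ p ^ k = 1 := by
      rw [← map_pow, hk, map_one]
    have hg' : (orderOf (QuotientGroup.mk' (Subgroup.center G) g)).Coprime p :=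
      Nat.Coprime.coprime_dvd_left (orderOf_map_dvd _ g) hg
    have h1 := ih (G ⧸ Subgroup.center G) _ ha ⟨k, hk'⟩ _ hg'
    -- u := a⁻¹ (g a g⁻¹) is central
    have hu : a⁻¹ * (g * a * g⁻¹) ∈ Subgroup.center G := by
      rw [← QuotientGroup.eq_one_iff, ← QuotientGroup.mk'_apply]
      rw [map_mul, map_mul, map_mul, map_inv, map_inv, h1, mul_inv_cancel_right, inv_mul_cancel]
    rw [Subgroup.mem_center_iff] at hu
    have hn : g * a * g⁻¹ = a * (a⁻¹ * (g * a * g⁻¹)) := (mul_inv_cancel_left _ _).symm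
    generalize a⁻¹ * (g * a * g⁻¹) = u at hu hn
    -- u is a p-element
    have hup : u ^ p ^ k = 1 := by
      have h2 : (g * a * g⁻¹) ^ p ^ k = 1 := by rw [conj_pow, hk]; group
      rw [hn, (show Commute a u from hu a).mul_pow, hk, one_mul] at h2
      exact h2
    have h3 := Cfsg.Agent.Lib.Helper22.conj_pow_mul_of_comm g a u (hu g) hn (orderOf g)
    rw [pow_orderOf_eq_one, one_mul, inv_one, mul_one] at h3
    have h4 : u ^ orderOf g = 1 := by
      have := congrArg (fun t => a⁻¹ * t) h3
      simpa using this.symm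
    have h5 : orderOf u = 1 :=
      Nat.eq_one_of_dvd_coprimes (Nat.Coprime.pow_right k hg) (orderOf_dvd_of_pow_eq_one h4)
        (orderOf_dvd_of_pow_eq_one hup)
    rw [orderOf_eq_one_iff] at h5
    rw [h5, mul_one] at hn
    calc g * a = (g * a * g⁻¹) * g := by group
      _ = a * g := by rw [hn]

theorem result {G : Type*} [Group G] [Finite G] {p : ℕ} [Fact p.Prime] (n : ℕ)
    (h : ∀ a : G, (a ^ p = 1 ∨ (p = 2 ∧ a ^ 4 = 1)) → a ∈ Subgroup.upperCentralSeries G n) : Cfsg.HasNormalPComplement p G := by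
  have hF : FrobHyp p G := by
    intro D hD g hg hcop
    apply comm_of_comm_small g hcop D hD hg
    intro a _ hsm
    apply comm_of_mem_upperCentralSeries n G a (h a hsm) ?_ g hcop
    rcases hsm with h1 | ⟨h2, h4⟩
    · exact ⟨1, by rw [pow_one]; exact h1⟩
    · exact ⟨2, by rw [h2]; exact h4⟩
  let P : Sylow p G := default
  obtain ⟨N, hNn, hN⟩ := hF.exists_normal_complement P
  exact ⟨P, N, hNn, hN⟩

end Cfsg.Agent.S1947
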