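import Mathlib
import Cfsg.Statements.S1948
import Cfsg.Agent.Lib.Helper13.NormalSylow
import Cfsg.Agent.Lib.Helper10.PComp
import Cfsg.Agent.Lib.Helper5.PConstr
import Cfsg.Agent.S1907

set_option autoImplicit false
open Cfsg
open scoped Pointwise

namespace Cfsg.Agent.S1948
open Cfsg.Agent.Lib.Helper13

/-- Let S be a Sylow p-subgroup of the finite group G. Then G = N_G(S)·O_{p'}(G) if and only if G is p-constrained and N_G(S) controls fusion in S, in the sense that whenever a subgroup Q of S has a conjugate g Q g⁻¹ inside S, the element g is a product n c with n normalizing S and c centralizing Q. -/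
theorem result {G : Type*} [Group G] [Finite G] {p : ℕ} [Fact p.Prime] (S : Sylow p G) :
    Subgroup.normalizer ((S : Subgroup G) : Set G) ⊔ Cfsg.pPrimeCore p G = ⊤ ↔
      (Cfsg.IsPConstrained p G ∧
        ∀ Q : Subgroup G, Q ≤ (S : Subgroup G) → ∀ g : G, Q.map (MulAut.conj g).toMonoidHom ≤ (S : Subgroup G) →
          ∃ n ∈ Subgroup.normalizer ((S : Subgroup G) : Set G), ∃ c ∈ Subgroup.centralizer (Q : Set G), g = n * c) := by
  classical
  have hp : p.Prime := Fact.out
  have hKn : (pPrimeCore p G).Normal := Cfsg.Agent.Lib.Helper1.pPrimeCore_normal p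
  have hLn : (pPrimePCore p G).Normal := Cfsg.Agent.Lib.Helper5.h5_pPrimePCore_normal p G
  have hKcop : (Nat.card ↥(pPrimeCore p G)).Coprime p :=
    Cfsg.Agent.Lib.Helper1.pPrimeCore_card_coprime p
  constructor
  · intro htop
    have hfac : ∀ g : G, ∃ n ∈ Subgroup.normalizer ((S : Subgroup G) : Set G),
        ∃ o ∈ pPrimeCore p G, g = n * o := by
      intro g
      have hg : g ∈ ((Subgroup.normalizer ((S : Subgroup G) : Set G) ⊔ pPrimeCore p G :
          Subgroup G) : Set G) := by rw [htop]; trivial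
      rw [Subgroup.mul_normal, Set.mem_mul] at hg
      obtain ⟨n, hn, o, ho, hno⟩ := hg
      exact ⟨n, hn, o, ho, hno.symm⟩
    refine ⟨?_, ?_⟩
    · -- p-constraint
      intro P' c hc
      rw [Cfsg.Agent.Lib.Helper5.h5_mem_pPrimePCore_iff]
      have hsurj : Function.Surjective (QuotientGroup.mk' (pPrimeCore p G)) :=
        QuotientGroup.mk'_surjective _
      -- the image of S is a normal Sylow subgroup of the quotient
      have hSn : ((S.mapSurjective hsurj : Sylow p (G ⧸ pPrimeCore p G)) :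
          Subgroup (G ⧸ pPrimeCore p G)).Normal := by
        rw [Sylow.coe_mapSurjective]
        constructor
        intro x hx y
        obtain ⟨g, rfl⟩ := hsurj y
        obtain ⟨s, hs, rfl⟩ := hx
        obtain ⟨n, hn, o, ho, rfl⟩ := hfac g
        have h1 : n * s * n⁻¹ ∈ (S : Subgroup G) := (Subgroup.mem_normalizer_iff.mp hn s).mp hs
        have ho1 : (QuotientGroup.mk' (pPrimeCore p G)) o = 1 :=
          (QuotientGroup.eq_one_iff o).mpr ho
        refine ⟨n * s * n⁻¹, h1, ?_⟩
        rw [map_mul, map_mul, map_inv, map_mul, ho1, mul_one]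
      have hO := Cfsg.Agent.Lib.Helper10.pPrimeCore_quotient_eq_bot (G := G) p
      have hcent := centralizer_le_of_normal_sylow (S.mapSurjective hsurj) hSn hO
      have hcore : pCore p (G ⧸ pPrimeCore p G) =
          ((S.mapSurjective hsurj : Sylow p (G ⧸ pPrimeCore p G)) :
            Subgroup (G ⧸ pPrimeCore p G)) := by
        apply le_antisymm (Cfsg.Agent.Lib.Helper1.pCore_le_sylow p _)
        exact Cfsg.Agent.Lib.Helper1.le_pCore hSn (Sylow.isPGroup' _)
      rw [hcore]
      apply hcent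
      rw [← hcore, ← Cfsg.Agent.Lib.Helper5.h5_sylow_pPrimePCore_map P', Subgroup.mem_centralizer_iff]
      rintro _ ⟨y, hy, rfl⟩
      have := (Subgroup.mem_centralizer_iff.mp hc) y hy
      rw [← map_mul, ← map_mul, this]
    · -- control of fusion
      intro Q hQS g hg
      obtain ⟨n, hn, o, ho, rfl⟩ := hfac g
      refine ⟨n, hn, o, ?_, rfl⟩
      rw [Subgroup.mem_centralizer_iff]
      intro x hx
      have h1 : n * o * x * (n * o)⁻¹ ∈ (S : Subgroup G) := hg ⟨x, hx, rfl⟩
      have h2 : o * x * o⁻¹ ∈ (S : Subgroup G) := by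
        rw [Subgroup.mem_normalizer_iff.mp hn (o * x * o⁻¹)]
        have e : n * (o * x * o⁻¹) * n⁻¹ = n * o * x * (n * o)⁻¹ := by group
        rw [e]; exact h1
      have h3 : o * x * o⁻¹ * x⁻¹ ∈ (S : Subgroup G) :=
        (S : Subgroup G).mul_mem h2 ((S : Subgroup G).inv_mem (hQS hx))
      have h4 : o * x * o⁻¹ * x⁻¹ ∈ pPrimeCore p G := by
        have := hKn.conj_mem o⁻¹ ((pPrimeCore p G).inv_mem ho) x
        have e : o * x * o⁻¹ * x⁻¹ = o * (x * o⁻¹ * x⁻¹) := by group
        rw [e]; exact (pPrimeCore p G).mul_mem ho this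
      have h5 : (S : Subgroup G) ⊓ pPrimeCore p G = ⊥ := by
        apply Subgroup.inf_eq_bot_of_coprime
        obtain ⟨k, hk⟩ := S.isPGroup'.exists_card_eq
        rw [hk]
        exact Nat.Coprime.pow_left k hKcop.symm
      have h6 : o * x * o⁻¹ * x⁻¹ ∈ (S : Subgroup G) ⊓ pPrimeCore p G := ⟨h3, h4⟩
      rw [h5, Subgroup.mem_bot] at h6
      calc x * o = (o * x * o⁻¹ * x⁻¹)⁻¹ * o * x := by group
        _ = o * x := by rw [h6, inv_one, one_mul]
  · rintro ⟨hcon, hctl⟩
    rw [eq_top_iff]
    intro g _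
    obtain ⟨n, hn, d, hd, rfl⟩ := Cfsg.Agent.S1907.frattini_factor S g
    obtain ⟨H, hH⟩ : ∃ H : Subgroup G, H = (S : Subgroup G) ⊓ pPrimePCore p G := ⟨_, rfl⟩
    rw [← hH] at hn
    have hHS : H ≤ (S : Subgroup G) := by rw [hH]; exact inf_le_left
    have hHL : H ≤ pPrimePCore p G := by rw [hH]; exact inf_le_right
    have hHp : IsPGroup p ↥H := S.isPGroup'.to_le hHS
    have hHi : ¬ p ∣ H.relIndex (pPrimePCore p G) := by
      rw [hH, Subgroup.inf_relIndex_right]
      intro h
      exact S.not_dvd_index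
        (h.trans (Cfsg.Agent.Lib.helper23.relIndex_dvd_index_of_normal_right _ (S : Subgroup G)))
    have hcj : H.map (MulAut.conj n).toMonoidHom ≤ (S : Subgroup G) := by
      rw [(mem_normalizer_iff_cj_eq).mp hn]; exact hHS
    obtain ⟨n', hn', c, hc, rfl⟩ := hctl H hHS n hcj
    -- c ∈ O_{p',p}(G) by p-constraint
    let HS : Sylow p ↥(pPrimePCore p G) :=
      (hHp.comap_subtype (H := H) (K := pPrimePCore p G)).toSylow hHi
    have hHSmap : (HS : Subgroup ↥(pPrimePCore p G)).map (pPrimePCore p G).subtype = H := by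
      show (H.subgroupOf (pPrimePCore p G)).map (pPrimePCore p G).subtype = H
      rw [Subgroup.subgroupOf_map_subtype]
      exact inf_eq_left.mpr hHL
    have hcL : c ∈ pPrimePCore p G := by
      apply hcon HS
      rw [hHSmap]; exact hc
    -- c = h k with h ∈ H, k ∈ O_{p'}(G)
    have hmap := Cfsg.Agent.Lib.Helper5.h5_sylow_pPrimePCore_map (G := G) (p := p) HS
    rw [hHSmap] at hmap
    have hc' : QuotientGroup.mk' (pPrimeCore p G) c ∈ pCore p (G ⧸ pPrimeCore p G) :=
      (Cfsg.Agent.Lib.Helper5.h5_mem_pPrimePCore_iff c).mp hcL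
    rw [← hmap] at hc'
    obtain ⟨h, hh, hhc⟩ := hc'
    have hk : h⁻¹ * c ∈ pPrimeCore p G := QuotientGroup.eq.mp hhc
    have hhN : h ∈ Subgroup.normalizer ((S : Subgroup G) : Set G) :=
      Subgroup.le_normalizer (hHS hh)
    have e : n' * c * d = (n' * h) * ((h⁻¹ * c) * d) := by group
    rw [e]
    exact Subgroup.mul_mem_sup (Subgroup.mul_mem _ hn' hhN) ((pPrimeCore p G).mul_mem hk hd)

end Cfsg.Agent.S1948
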