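import Cfsg.Statements.S1953
import Cfsg.Agent.Lib.Helper10.KS8

set_option autoImplicit false
open Cfsg

namespace Cfsg.Agent.S1953

open Cfsg.Agent.Lib.Helper10.KS Cfsg.Agent.Lib.Helper13 in
/-- Let p be an odd prime and P a Sylow p-subgroup of the finite group G, and suppose that for no p-subgroup Q of G does N_G(Q)/C_G(Q) have a section isomorphic to SL₂(p). Call a subgroup Q of P centric-radical when Z(Q) is a Sylow p-subgroup of C_G(Q) and the only normal subgroup X of N_G(Q) containing Q·C_G(Q) such that the index of Q·C_G(Q) in X is a power of p is Q·C_G(Q) itself (that is, N_G(Q)/Q·C_G(Q) has no nontrivial normal p-subgroup). Then there is a centric-radical subgroup Q of P contained in every centric-radical subgroup of P; it is normal in P, and N_G(Q) controls strong fusion in P: whenever a subgroup A of P has g A g⁻¹ ≤ P, the element g is a product h c with h in N_G(Q) and c centralizing A. -/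
theorem result {G : Type*} [Group G] [Finite G] {p : ℕ} [Fact p.Prime] (hp : p ≠ 2) (P : Sylow p G)
    (hfree : ∀ Q : Subgroup G, IsPGroup p ↥Q → ¬ ∃ (H K : Subgroup G) (_ : (K.subgroupOf H).Normal),
      Subgroup.centralizer (Q : Set G) ≤ K ∧ K ≤ H ∧ H ≤ Subgroup.normalizer (Q : Set G) ∧
      Nonempty ((↥H ⧸ K.subgroupOf H) ≃* Matrix.SpecialLinearGroup (Fin 2) (ZMod p)))
    (cr : Subgroup G → Prop)
    (hcr : ∀ Q : Subgroup G, cr Q ↔ (Q ≤ (P : Subgroup G) ∧
      (∃ R : Sylow p ↥(Subgroup.centralizer (Q : Set G)),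
        (R : Subgroup ↥(Subgroup.centralizer (Q : Set G))).map (Subgroup.centralizer (Q : Set G)).subtype = Q ⊓ Subgroup.centralizer (Q : Set G)) ∧
      ∀ X : Subgroup G, X ≤ Subgroup.normalizer (Q : Set G) →
        (∀ n ∈ Subgroup.normalizer (Q : Set G), X.map (MulAut.conj n).toMonoidHom = X) →
        Q ⊔ Subgroup.centralizer (Q : Set G) ≤ X → (∃ k : ℕ, (Q ⊔ Subgroup.centralizer (Q : Set G)).relIndex X = p ^ k) →
        X = Q ⊔ Subgroup.centralizer (Q : Set G))) :
    ∃ Q : Subgroup G, cr Q ∧ (∀ R : Subgroup G, cr R → Q ≤ R) ∧ (∀ x ∈ (P : Subgroup G), Q.map (MulAut.conj x).toMonoidHom = Q) ∧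
      ∀ A : Subgroup G, A ≤ (P : Subgroup G) → ∀ g : G, A.map (MulAut.conj g).toMonoidHom ≤ (P : Subgroup G) →
        ∃ h ∈ Subgroup.normalizer (Q : Set G), ∃ c ∈ Subgroup.centralizer (A : Set G), g = h * c := by
  have haf : AutFree p G := autFree_of_hfree hfree
  obtain ⟨Q, hQP, hQctl, hcent, hrad⟩ := exists_ctl_cr hp P haf
  have hPN : (P : Subgroup G) ≤ Subgroup.normalizer (Q : Set G) := hQctl.le_normalizer hQP
  refine ⟨Q, ?_, ?_, ?_, hQctl⟩
  · rw [hcr]
    refine ⟨hQP, ?_, hrad⟩
    have hCN : Subgroup.centralizer (Q : Set G) ≤ Subgroup.normalizer (Q : Set G) :=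
      Subgroup.centralizer_le_normalizer _
    have hNC : Subgroup.normalizer (Q : Set G) ≤
        Subgroup.normalizer ((Subgroup.centralizer (Q : Set G) : Subgroup G) : Set G) := by
      intro n hn
      rw [mem_normalizer_iff_cj_eq]
      exact cj_centralizer_of_mem_normalizer hn
    have hPNi : ¬ p ∣ (P : Subgroup G).relIndex (Subgroup.normalizer (Q : Set G)) := fun hd =>
      P.not_dvd_index (hd.trans (Subgroup.relIndex_dvd_index_of_le hPN))
    have hsylC : ¬ p ∣ ((P : Subgroup G) ⊓ Subgroup.centralizer (Q : Set G)).relIndex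
        (Subgroup.centralizer (Q : Set G)) := not_dvd_relIndex_inf_of_normal hCN hNC hPNi
    have heq : (P : Subgroup G) ⊓ Subgroup.centralizer (Q : Set G) =
        Q ⊓ Subgroup.centralizer (Q : Set G) :=
      le_antisymm (le_inf hcent inf_le_right) (inf_le_inf_right _ hQP)
    rw [heq] at hsylC
    have hpg : IsPGroup p ↥((Q ⊓ Subgroup.centralizer (Q : Set G)).subgroupOf
        (Subgroup.centralizer (Q : Set G))) :=
      (P.isPGroup'.to_le (inf_le_left.trans hQP)).comap_subtype
    refine ⟨hpg.toSylow hsylC, ?_⟩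
    show ((Q ⊓ Subgroup.centralizer (Q : Set G)).subgroupOf
      (Subgroup.centralizer (Q : Set G))).map (Subgroup.centralizer (Q : Set G)).subtype = _
    exact Subgroup.map_subgroupOf_eq_of_le inf_le_right
  · intro R hR
    rw [hcr] at hR
    obtain ⟨hRP, ⟨S, hS⟩, hradR⟩ := hR
    refine ctl_le_of_cr P.isPGroup' hQctl hQP hRP ?_ hradR
    have h1 : (R ⊓ Subgroup.centralizer (R : Set G)).subgroupOf
        (Subgroup.centralizer (R : Set G)) = (S : Subgroup ↥(Subgroup.centralizer (R : Set G))) := by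
      rw [← hS]
      exact Subgroup.comap_map_eq_self_of_injective (Subgroup.subtype_injective _) _
    show ¬ p ∣ ((R ⊓ Subgroup.centralizer (R : Set G)).subgroupOf
        (Subgroup.centralizer (R : Set G))).index
    rw [h1]; exact S.not_dvd_index
  · intro x hx
    exact mem_normalizer_iff_cj_eq.mp (hPN hx)

end Cfsg.Agent.S1953
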