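import Cfsg.Statements.S1956
import Cfsg.Agent.Lib.Helper13.SylowConj

set_option autoImplicit false
open Cfsg

namespace Cfsg.Agent.S1956

open Cfsg.Agent.Lib.Helper13
open scoped Pointwise

/-- If the elements of order p (≤ 4 for p = 2) of a Sylow p-subgroup P are central in P, then N_G(P) controls their fusion: g a g⁻¹ ∈ P forces g ∈ N_G(P)C_G(a). -/
theorem result {G : Type*} [Group G] [Finite G] {p : ℕ} [Fact p.Prime] (P : Sylow p G)
    (hcen : ∀ a ∈ (P : Subgroup G), (a ^ p = 1 ∨ (p = 2 ∧ a ^ 4 = 1)) → ∀ y ∈ (P : Subgroup G), a * y = y * a) :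
    ∀ a ∈ (P : Subgroup G), (a ^ p = 1 ∨ (p = 2 ∧ a ^ 4 = 1)) → ∀ g : G, g * a * g⁻¹ ∈ (P : Subgroup G) →
      ∃ n ∈ Subgroup.normalizer ((P : Subgroup G) : Set G), ∃ c : G, c * a = a * c ∧ g = n * c := by
  intro a haP hapow g hb
  have hbpow : ((g * a * g⁻¹) ^ p = 1 ∨ (p = 2 ∧ (g * a * g⁻¹) ^ 4 = 1)) := by
    rcases hapow with h | ⟨h2, h4⟩
    · left; rw [conj_pow, h]; group
    · right; refine ⟨h2, ?_⟩; rw [conj_pow, h4]; group
  have hbcen := hcen _ hb hbpow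
  have hacen := hcen _ haP hapow
  have hPC : (P : Subgroup G) ≤ Subgroup.centralizer ({g * a * g⁻¹} : Set G) := by
    intro y hy
    rw [Subgroup.mem_centralizer_iff]
    intro z hz
    rw [Set.mem_singleton_iff] at hz
    subst hz
    exact hbcen y hy
  have hQC : ((g • P : Sylow p G) : Subgroup G) ≤ Subgroup.centralizer ({g * a * g⁻¹} : Set G) := by
    rw [Sylow.coe_subgroup_smul]
    exact conj_sylow_le_centralizer (P : Subgroup G) a g (fun s hs => (hacen s hs).symm)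
  obtain ⟨h, hhC, hh⟩ := exists_mem_smul_eq_of_sylow_le P (g • P) _ hPC hQC
  have hn : h * g ∈ Subgroup.normalizer ((P : Subgroup G) : Set G) := by
    have h8 : (h * g) • P = P := by rw [mul_smul]; exact hh
    exact Sylow.smul_eq_iff_mem_normalizer.mp h8
  refine ⟨h * g, hn, g⁻¹ * h⁻¹ * g, ?_, by group⟩
  rw [Subgroup.mem_centralizer_iff] at hhC
  have h6 := hhC _ (Set.mem_singleton _)
  have h7 : h⁻¹ * (g * a * g⁻¹) = (g * a * g⁻¹) * h⁻¹ := by
    calc h⁻¹ * (g * a * g⁻¹) = h⁻¹ * ((g * a * g⁻¹) * h) * h⁻¹ := by group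
      _ = h⁻¹ * (h * (g * a * g⁻¹)) * h⁻¹ := by rw [h6]
      _ = (g * a * g⁻¹) * h⁻¹ := by group
  calc g⁻¹ * h⁻¹ * g * a = g⁻¹ * (h⁻¹ * (g * a * g⁻¹)) * g := by group
    _ = g⁻¹ * ((g * a * g⁻¹) * h⁻¹) * g := by rw [h7]
    _ = a * (g⁻¹ * h⁻¹ * g) := by group

end Cfsg.Agent.S1956
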