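import Cfsg.Statements.S1958
import Cfsg.Agent.Lib.Helper10.Automizer2

set_option autoImplicit false
open Cfsg

namespace Cfsg.Agent.S1958

open Cfsg.Agent.Lib.Helper10 Cfsg.Agent.Lib.Helper9
open scoped commutatorElement

theorem half {G : Type*} [Group G] [Finite G]
    (p : ℕ) [Fact p.Prime] (x y : G) (hx : orderOf x = p) (hxy : x * y = y * x)
    (hCy : Group.IsSolvable ↥(Subgroup.centralizer ({y} : Set G))) :
    Cfsg.centralizerPPrimeCore p x ⊓ Subgroup.centralizer {y} ≤ Cfsg.centralizerPPrimeCore p y := by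
  have hp : p.Prime := Fact.out
  have hQ : pPrimeCore p (↥(Subgroup.centralizer ({y} : Set G)) ⧸
      Cfsg.pPrimeCore p ↥(Subgroup.centralizer ({y} : Set G))) = ⊥ := pPrimeCore_quotient_eq_bot p
  have hOc : (Nat.card ↥(Cfsg.pPrimeCore p ↥(Subgroup.centralizer ({y} : Set G)))).Coprime p :=
    Cfsg.Agent.Lib.Helper1.pPrimeCore_card_coprime p
  have hxC : x ∈ Subgroup.centralizer ({y} : Set G) := by
    rw [Subgroup.mem_centralizer_iff]
    intro z hz
    rw [Set.mem_singleton_iff] at hz
    subst hz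
    exact hxy.symm
  have hxp : x ^ p = 1 := by rw [← hx]; exact pow_orderOf_eq_one x
  have hx'ord : orderOf (⟨x, hxC⟩ : ↥(Subgroup.centralizer ({y} : Set G))) = p := by
    rw [← hx]; exact Subgroup.orderOf_mk x hxC
  have hord : orderOf (QuotientGroup.mk' (Cfsg.pPrimeCore p ↥(Subgroup.centralizer ({y} : Set G)))
      (⟨x, hxC⟩ : ↥(Subgroup.centralizer ({y} : Set G)))) = p := by
    apply orderOf_eq_prime
    · rw [← map_pow]
      have : (⟨x, hxC⟩ : ↥(Subgroup.centralizer ({y} : Set G))) ^ p = 1 :=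
        Subtype.ext (by simpa using hxp)
      rw [this, map_one]
    · intro h1
      rw [← MonoidHom.mem_ker, QuotientGroup.ker_mk'] at h1
      have h2 := Subgroup.orderOf_dvd_natCard _ h1
      rw [hx'ord] at h2
      have h3 : p ∣ Nat.gcd
          (Nat.card ↥(Cfsg.pPrimeCore p ↥(Subgroup.centralizer ({y} : Set G)))) p :=
        Nat.dvd_gcd h2 dvd_rfl
      rw [hOc] at h3
      exact hp.one_lt.ne' (Nat.dvd_one.1 h3)
  have hW : centralizerPPrimeCore p
      (QuotientGroup.mk' (Cfsg.pPrimeCore p ↥(Subgroup.centralizer ({y} : Set G)))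
        (⟨x, hxC⟩ : ↥(Subgroup.centralizer ({y} : Set G)))) = ⊥ := by
    apply eq_bot_of_centralizes p hQ
    · intro L hL
      exfalso
      exact isComponent_not_isSolvable hL inferInstance
    · exact Cfsg.Agent.S1271.core_le_centralizer_pCore p _ hord
    · exact coreOf_card_coprime p _
  intro w hw
  have hwC : w ∈ Subgroup.centralizer ({y} : Set G) := (Subgroup.mem_inf.1 hw).2
  have h1 := core_inf_image_le p x y hx hxC w hwC (Subgroup.mem_inf.1 hw).1
  rw [hW, Subgroup.mem_bot, ← MonoidHom.mem_ker, QuotientGroup.ker_mk'] at h1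
  exact ⟨_, h1, rfl⟩

/-- Let `G` be a finite group, `p` a prime, and `x, y` commuting elements of order `p` whose centralizers `C_G(x)` and `C_G(y)` are both solvable. Then `O_{p'}(C_G(x)) ∩ C_G(y) = O_{p'}(C_G(y)) ∩ C_G(x)` (balance). -/
theorem result {G : Type*} [Group G] [Finite G]
    (p : ℕ) [Fact p.Prime] (x y : G) (hx : orderOf x = p) (hy : orderOf y = p) (hxy : x * y = y * x)
    (hCx : Group.IsSolvable ↥(Subgroup.centralizer ({x} : Set G))) (hCy : Group.IsSolvable ↥(Subgroup.centralizer ({y} : Set G))) :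
    Cfsg.centralizerPPrimeCore p x ⊓ Subgroup.centralizer {y} = Cfsg.centralizerPPrimeCore p y ⊓ Subgroup.centralizer {x} := by
  apply le_antisymm
  · exact le_inf (half p x y hx hxy hCy) (inf_le_left.trans (coreOf_le p _))
  · exact le_inf (half p y x hy hxy.symm hCx) (inf_le_left.trans (coreOf_le p _))

end Cfsg.Agent.S1958
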