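import Cfsg.Statements.S1962
import Cfsg.Agent.S1963
import Cfsg.Agent.Lib.Helper13.TransferCtl

set_option autoImplicit false
open Cfsg

namespace Cfsg.Agent.S1962

open Cfsg.Agent.Lib.Helper13
open scoped commutatorElement

section

variable {G : Type*} [Group G] [Finite G] {p : ℕ} [Fact p.Prime] (S : Sylow p G)
  (W : Subgroup G → Subgroup G) (hW : Cfsg.IsConjugacyFunctor p W)
  (hloc : ∀ T : Subgroup G, T ≠ ⊥ → Cfsg.IsWellPlaced p W (S : Subgroup G) T →
    Cfsg.ControlsTransferIn p W (Subgroup.normalizer ((T : Subgroup G) : Set G)))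

include hW hloc in
/-- For a well-placed `U ≠ 1`, `S ∩ N(U)' ≤ S ∩ N(W(S))'`. -/
theorem lemmaT (U : Subgroup G) (hU : Cfsg.IsWellPlaced p W (S : Subgroup G) U) (hne : U ≠ ⊥) :
    (S : Subgroup G) ⊓ ⁅Subgroup.normalizer ((U : Subgroup G) : Set G),
      Subgroup.normalizer ((U : Subgroup G) : Set G)⁆ ≤
    (S : Subgroup G) ⊓ ⁅Subgroup.normalizer ((W (S : Subgroup G) : Subgroup G) : Set G),
      Subgroup.normalizer ((W (S : Subgroup G) : Subgroup G) : Set G)⁆ := by
  have hSp : IsPGroup p ↥(S : Subgroup G) := S.isPGroup'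
  have key : ∀ j : ℕ, (S : Subgroup G) ⊓ ⁅Subgroup.normalizer ((U : Subgroup G) : Set G),
      Subgroup.normalizer ((U : Subgroup G) : Set G)⁆ ≤
      (S : Subgroup G) ⊓ ⁅Subgroup.normalizer
        ((Cfsg.functorTower W (S : Subgroup G) U j : Subgroup G) : Set G),
        Subgroup.normalizer ((Cfsg.functorTower W (S : Subgroup G) U j : Subgroup G) : Set G)⁆ := by
    intro j
    induction j with
    | zero => exact le_rfl
    | succ j ih =>
      refine ih.trans ?_
      have hwp := wellPlaced_tower hW hSp hU j
      have hnb := tower_ne_bot hW hSp hU.1 hne j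
      have hc := hloc _ hnb hwp
      set H := Subgroup.normalizer
        ((Cfsg.functorTower W (S : Subgroup G) U j : Subgroup G) : Set G) with hH
      have heq := transfer_of_sylow hW hc (inf_le_right : (S : Subgroup G) ⊓ H ≤ H)
        (hSp.to_le inf_le_left) (hU.2 j)
      intro x hx
      have hxS := (Subgroup.mem_inf.mp hx).1
      have hxH' := (Subgroup.mem_inf.mp hx).2
      have hxH : x ∈ H := Subgroup.commutator_le_self H hxH'
      have hx1 : x ∈ ((S : Subgroup G) ⊓ H) ⊓ ⁅H, H⁆ :=
        Subgroup.mem_inf.mpr ⟨Subgroup.mem_inf.mpr ⟨hxS, hxH⟩, hxH'⟩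
      rw [heq] at hx1
      refine Subgroup.mem_inf.mpr ⟨hxS, ?_⟩
      rw [tower_succ]
      exact Subgroup.commutator_mono inf_le_right inf_le_right (Subgroup.mem_inf.mp hx1).2
  have := key (Nat.card ↥(S : Subgroup G) + 1)
  rwa [tower_eq_functor_top hW hSp U] at this

end

/-- Local-to-global control of transfer through well-placed subgroups. Let p be a prime, G a finite group with Sylow p-subgroup S, and W a conjugacy functor for p on G. If W controls transfer in N_G(T) for every nonidentity subgroup T of S that is well placed in S with respect to W, then W controls transfer in G: S ∩ G' = S ∩ (N_G(W(S)))'. -/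
theorem result {G : Type*} [Group G] [Finite G] {p : ℕ} [Fact p.Prime] (S : Sylow p G) (W : Subgroup G → Subgroup G) (hW : Cfsg.IsConjugacyFunctor p W) (hloc : ∀ T : Subgroup G, T ≠ ⊥ → Cfsg.IsWellPlaced p W (S : Subgroup G) T → Cfsg.ControlsTransferIn p W (Subgroup.normalizer ((T : Subgroup G) : Set G))) : Cfsg.ControlsTransferIn p W ⊤ := by
  refine ⟨(S : Subgroup G), le_top, S.isPGroup', ?_, ?_⟩
  · rw [Subgroup.relIndex_top_right]; exact S.not_dvd_index
  · rw [top_inf_eq]
    apply le_antisymm
    · apply le_inf inf_le_left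
      have := comm_mem_of_conjChain S {T : Subgroup G | Cfsg.IsWellPlaced p W (S : Subgroup G) T}
        (fun U hU => hU.1)
        (fun T' hT' => by
          obtain ⟨g', hg'⟩ := Cfsg.Agent.S1963.result S W hW T' hT'
          exact ⟨_, hg', ⟨g', rfl⟩, hg'.2 0⟩)
        (D := (S : Subgroup G) ⊓ ⁅Subgroup.normalizer ((W (S : Subgroup G) : Subgroup G) : Set G),
          Subgroup.normalizer ((W (S : Subgroup G) : Subgroup G) : Set G)⁆)
        (by
          intro T hT a ha x hx
          by_cases hTb : T = ⊥
          · have : a = 1 := by rw [hTb] at ha; exact ha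
            rw [this]
            have e : (1 : G)⁻¹ * (x⁻¹ * 1 * x) = 1 := by group
            rw [e]; exact Subgroup.one_mem _
          · apply lemmaT S W hW hloc T hT hTb
            have hxa : x⁻¹ * a * x ∈ T := by
              have := (Subgroup.mem_normalizer_iff.mp (Subgroup.inv_mem _ hx) a).mp ha
              rwa [inv_inv] at this
            refine Subgroup.mem_inf.mpr ⟨hT.1 (T.mul_mem (T.inv_mem ha) hxa), ?_⟩
            have e : a⁻¹ * (x⁻¹ * a * x) = ⁅a⁻¹, x⁻¹⁆ := by
              rw [commutatorElement_def]; group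
            rw [e]
            exact Subgroup.commutator_mem_commutator
              (Subgroup.inv_mem _ (Subgroup.le_normalizer ha)) (Subgroup.inv_mem _ hx))
      exact this.trans inf_le_right
    · exact inf_le_inf_left _ (Subgroup.commutator_mono le_top le_top)

end Cfsg.Agent.S1962
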