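import Cfsg.Statements.S1966
import Cfsg.Agent.Lib.Helper13.Basic

set_option autoImplicit false
open Cfsg

namespace Cfsg.Agent.S1966

open Cfsg.Agent.Lib.Helper13

/-- In a conjugation family for S in G, the members containing O_p(G) already form a conjugation family. -/
theorem result {G : Type*} [Group G] [Finite G] {p : ℕ} [Fact p.Prime] (S : Sylow p G) (𝓕 : Set (Subgroup G)) (h : Cfsg.IsConjugationFamily 𝓕 (S : Subgroup G)) : Cfsg.IsConjugationFamily {T : Subgroup G | T ∈ 𝓕 ∧ Cfsg.pCore p G ≤ T} (S : Subgroup G) := by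
  obtain ⟨h1, h2⟩ := h
  refine ⟨fun T hT => h1 T hT.1, ?_⟩
  intro A g hAne hAS hAg
  have hO : Cfsg.pCore p G ≤ (S : Subgroup G) := pCore_le_sylow S
  haveI hn : (Cfsg.pCore p G).Normal := pCore_normal' p
  have hconj : ∀ (w a : G), a ∈ Cfsg.pCore p G → w⁻¹ * a * w ∈ Cfsg.pCore p G := by
    intro w a ha
    have := hn.conj_mem a ha w⁻¹
    simpa using this
  obtain ⟨n, T, x, hprod, hT, hx, h0, hstep⟩ := h2 (A ∪ (Cfsg.pCore p G : Set G)) g
    (hAne.mono Set.subset_union_left)
    (Set.union_subset hAS (fun a ha => hO ha))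
    (by
      rintro _ ⟨a, ha | ha, rfl⟩
      · exact hAg ⟨a, ha, rfl⟩
      · exact hO (hconj g a ha))
  refine ⟨n, T, x, hprod, ?_, hx, ?_, ?_⟩
  · intro i
    refine ⟨hT i, ?_⟩
    obtain ⟨i, hi⟩ := i
    cases i with
    | zero =>
      intro a ha
      exact h0 hi (Or.inr ha)
    | succ j =>
      intro a ha
      have hj : j < n := Nat.lt_of_succ_lt hi
      have := hstep ⟨j, hj⟩ hi
      set w := ((List.ofFn x).take (j + 1)).prod with hw
      have hmem : w * a * w⁻¹ ∈ Cfsg.pCore p G := by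
        have := hconj w⁻¹ a ha
        simpa using this
      have h3 := this ⟨w * a * w⁻¹, Or.inr hmem, rfl⟩
      have e : w⁻¹ * (w * a * w⁻¹) * w = a := by group
      have h4 : w⁻¹ * (w * a * w⁻¹) * w ∈ T ⟨j + 1, hi⟩ := h3
      rw [e] at h4
      exact h4
  · intro hn0
    exact Set.subset_union_left.trans (h0 hn0)
  · intro i hi
    exact (Set.image_mono Set.subset_union_left).trans (hstep i hi)

end Cfsg.Agent.S1966
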