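import Cfsg.Statements.S1968
import Cfsg.Agent.S1963
import Cfsg.Agent.Lib.Helper13.WellPlaced2
import Mathlib.Order.Preorder.Finite

set_option autoImplicit false
open Cfsg

namespace Cfsg.Agent.S1968

open Cfsg.Agent.Lib.Helper13

/-- In a chain that moves `R`, some step inside a normalizer of a member of the family moves `R`. -/
theorem exists_moving_step {G : Type*} [Group G] {𝓕 : Set (Subgroup G)} {R : Subgroup G} {k : G}
    (h : ConjChain 𝓕 R k) (hne : rc R k ≠ R) :
    ∃ T ∈ 𝓕, R ≤ T ∧ ∃ x ∈ Subgroup.normalizer (T : Set G), rc R x ≠ R := by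
  induction h with
  | nil R => exact absurd (rc_one R) hne
  | cons R T x g hT hx hRT _ ih =>
    by_cases hx' : rc R x = R
    · rw [hx'] at ih
      apply ih
      rw [← rc_rc, hx'] at hne
      exact hne
    · exact ⟨T, hT, hRT, x, hx, hx'⟩

/-- If two consecutive normalizers of the tower agree, they are all of `S`. -/
theorem tower_normalizer_eq_top {G : Type*} [Group G] [Finite G] {p : ℕ} [Fact p.Prime]
    {W : Subgroup G → Subgroup G} {S : Subgroup G} (hW : Cfsg.IsConjugacyFunctor p W)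
    (hS : IsPGroup p ↥S) (T : Subgroup G) (i : ℕ)
    (heq : S ⊓ Subgroup.normalizer ((Cfsg.functorTower W S T i : Subgroup G) : Set G) =
      S ⊓ Subgroup.normalizer ((Cfsg.functorTower W S T (i + 1) : Subgroup G) : Set G)) :
    S ⊓ Subgroup.normalizer ((Cfsg.functorTower W S T i : Subgroup G) : Set G) = S := by
  by_contra hne
  have hlt := card_lt_card_inf_normalizer hS
    (inf_le_left : S ⊓ Subgroup.normalizer ((Cfsg.functorTower W S T i : Subgroup G) : Set G) ≤ S) hne
  have hle : S ⊓ Subgroup.normalizer ((S ⊓ Subgroup.normalizer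
      ((Cfsg.functorTower W S T i : Subgroup G) : Set G) : Subgroup G) : Set G) ≤
      S ⊓ Subgroup.normalizer ((Cfsg.functorTower W S T (i + 1) : Subgroup G) : Set G) := by
    rw [tower_succ]
    exact inf_le_inf_left _ (normalizer_le_normalizer_functor hW (hS.to_le inf_le_left))
  rw [← heq] at hle
  have := Subgroup.card_le_of_le hle
  omega

/-- Let p be a prime, G a finite group with Sylow p-subgroup S and W a conjugacy functor for p on G with Z(P) ≤ W(P) for every p-subgroup P. Let A be a subgroup of Z(S) normalized by N_G(W(S)) that is not weakly closed in S with respect to G. Then there is a subgroup T of S, well placed in S with respect to W, such that: A ≤ T; N_G(W(N_S(T))) normalizes A; N_S(T) is a Sylow p-subgroup of N_G(T); A ≤ Z(N_S(T)); and A is not weakly closed in N_S(T) with respect to N_G(T), that is, some N_G(T)-conjugate of A other than A lies in N_S(T). -/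
theorem result {G : Type*} [Group G] [Finite G] {p : ℕ} [Fact p.Prime] (S : Sylow p G) (W : Subgroup G → Subgroup G) (hW : Cfsg.IsConjugacyFunctor p W) (hWZ : ∀ P : Subgroup G, IsPGroup p ↥P → P ⊓ Subgroup.centralizer (P : Set G) ≤ W P) (A : Subgroup G) (hAZ : A ≤ (S : Subgroup G) ⊓ Subgroup.centralizer ((S : Subgroup G) : Set G)) (hAN : Subgroup.normalizer ((W (S : Subgroup G) : Subgroup G) : Set G) ≤ Subgroup.normalizer ((A : Subgroup G) : Set G)) (hnwc : ¬ Cfsg.IsWeaklyClosed A (S : Subgroup G)) : ∃ T : Subgroup G, Cfsg.IsWellPlaced p W (S : Subgroup G) T ∧ A ≤ T ∧ Subgroup.normalizer ((W ((S : Subgroup G) ⊓ Subgroup.normalizer ((T : Subgroup G) : Set G)) : Subgroup G) : Set G) ≤ Subgroup.normalizer ((A : Subgroup G) : Set G) ∧ ¬ p ∣ ((S : Subgroup G) ⊓ Subgroup.normalizer ((T : Subgroup G) : Set G)).relIndex (Subgroup.normalizer ((T : Subgroup G) : Set G)) ∧ A ≤ Subgroup.centralizer (((S : Subgroup G) ⊓ Subgroup.normalizer ((T : Subgroup G) : Set G) : Subgroup G) : Set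 G) ∧ ∃ g ∈ Subgroup.normalizer ((T : Subgroup G) : Set G), A.map (MulAut.conj g).toMonoidHom ≤ (S : Subgroup G) ⊓ Subgroup.normalizer ((T : Subgroup G) : Set G) ∧ A.map (MulAut.conj g).toMonoidHom ≠ A := by
  have hSp : IsPGroup p ↥(S : Subgroup G) := S.isPGroup'
  have hAS : A ≤ (S : Subgroup G) := hAZ.trans inf_le_left
  have hAC : A ≤ Subgroup.centralizer ((S : Subgroup G) : Set G) := hAZ.trans inf_le_right
  -- a conjugate of A in S different from A
  obtain ⟨g₀, hg₀S, hg₀A⟩ : ∃ g : G, A.map (MulAut.conj g).toMonoidHom ≤ (S : Subgroup G) ∧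
      A.map (MulAut.conj g).toMonoidHom ≠ A := by
    by_contra hcon
    push Not at hcon
    exact hnwc ⟨hAS, hcon⟩
  -- the family of candidates
  let Φ : Set (Subgroup G) := {T | Cfsg.IsWellPlaced p W (S : Subgroup G) T ∧ A ≤ T ∧
    ∃ g ∈ Subgroup.normalizer ((T : Subgroup G) : Set G), A.map (MulAut.conj g).toMonoidHom ≠ A}
  have hΦne : Φ.Nonempty := by
    have hchain : ConjChain {T : Subgroup G | Cfsg.IsWellPlaced p W (S : Subgroup G) T} A g₀⁻¹ := by
      apply conjChain_of_le S _ (fun U hU => hU.1) _ (Nat.card ↥(S : Subgroup G)) A hAS (Nat.sub_le _ _)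
      · rw [rc_def, inv_inv]; exact hg₀S
      · intro T' hT'
        obtain ⟨g', hg'⟩ := Cfsg.Agent.S1963.result S W hW T' hT'
        exact ⟨_, hg', ⟨g', rfl⟩, hg'.2 0⟩
    have hne : rc A g₀⁻¹ ≠ A := by rw [rc_def, inv_inv]; exact hg₀A
    obtain ⟨T, hT, hAT, x, hx, hxA⟩ := exists_moving_step hchain hne
    refine ⟨T, hT, hAT, x⁻¹, Subgroup.inv_mem _ hx, ?_⟩
    rw [rc_def] at hxA
    exact hxA
  obtain ⟨T, hTmax⟩ := (Set.toFinite Φ).exists_maximalFor
    (fun T : Subgroup G => Nat.card ↥((S : Subgroup G) ⊓ Subgroup.normalizer ((T : Subgroup G) : Set G))) Φ hΦne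
  obtain ⟨⟨hTwp, hAT, g, hgN, hgA⟩, hmax⟩ := hTmax
  have hTQ : T ≤ (S : Subgroup G) ⊓ Subgroup.normalizer ((T : Subgroup G) : Set G) :=
    le_inf hTwp.1 Subgroup.le_normalizer
  have hAcentQ : A ≤ Subgroup.centralizer (((S : Subgroup G) ⊓ Subgroup.normalizer ((T : Subgroup G) : Set G) : Subgroup G) : Set G) :=
    hAC.trans (Subgroup.centralizer_le inf_le_left)
  refine ⟨T, hTwp, hAT, ?_, hTwp.2 0, hAcentQ, g, hgN, ?_, hgA⟩
  · -- N_G(W(N_S(T))) normalizes A
    intro g₁ hg₁
    by_contra hg₁A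
    have hA1 : A.map (MulAut.conj g₁).toMonoidHom ≠ A := fun h => hg₁A (mem_normalizer_iff_cj_eq.mpr h)
    have hT1wp := wellPlaced_tower hW hSp hTwp 1
    have hT1 : Cfsg.functorTower W (S : Subgroup G) T 1 =
        W ((S : Subgroup G) ⊓ Subgroup.normalizer ((T : Subgroup G) : Set G)) := rfl
    have hAT1 : A ≤ Cfsg.functorTower W (S : Subgroup G) T 1 := by
      rw [hT1]
      exact (le_inf (hAT.trans hTQ) hAcentQ).trans (hWZ _ (hSp.to_le inf_le_left))
    have hΦ1 : Cfsg.functorTower W (S : Subgroup G) T 1 ∈ Φ := ⟨hT1wp, hAT1, g₁, by rw [hT1]; exact hg₁, hA1⟩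
    have hmono := tower_normalizer_mono hW hSp T 0
    have hle := hmax hΦ1 (Subgroup.card_le_of_le hmono)
    have heq : (S : Subgroup G) ⊓ Subgroup.normalizer ((Cfsg.functorTower W (S : Subgroup G) T 0 : Subgroup G) : Set G) =
        (S : Subgroup G) ⊓ Subgroup.normalizer ((Cfsg.functorTower W (S : Subgroup G) T (0 + 1) : Subgroup G) : Set G) :=
      Subgroup.eq_of_le_of_card_ge hmono hle
    have htop := tower_normalizer_eq_top hW hSp T 0 heq
    have hQS : (S : Subgroup G) ⊓ Subgroup.normalizer ((T : Subgroup G) : Set G) = (S : Subgroup G) := htop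
    rw [hQS] at hg₁
    exact hg₁A (hAN hg₁)
  · -- the conjugate lies in N_S(T)
    have h1 : A.map (MulAut.conj g).toMonoidHom ≤ T.map (MulAut.conj g).toMonoidHom := cj_mono hAT
    rw [mem_normalizer_iff_cj_eq.mp hgN] at h1
    exact h1.trans hTQ

end Cfsg.Agent.S1968
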