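import Mathlib
import Cfsg.Statements.S1971
import Cfsg.Agent.Lib.Helper13.SectionFunctor

set_option autoImplicit false
universe u

namespace Cfsg.Agent.S1971

theorem result {G : Type u} [Group G] [Finite G] {p : ℕ} [Fact p.Prime] (W : ∀ (Q : Type u) [Group Q], Subgroup Q) (hW : Cfsg.IsCharPFunctor.{u} p W) (hctl : ∀ (K R : Subgroup G) [hR : (R.subgroupOf K).Normal], Cfsg.ControlsTransferIn p (Cfsg.inducedFunctor (G := (↥K ⧸ R.subgroupOf K)) W) ⊤) (S : Sylow p G) (hS : (S : Subgroup G) ≠ ⊥) (hN : ∀ g ∈ Subgroup.normalizer (((S : Subgroup G) : Subgroup G) : Set G), (orderOf g).Coprime p → g ∈ Subgroup.centralizer ((S : Subgroup G) : Set G)) : ∃ N : Subgroup G, N.Normal ∧ N.index = p :=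
  Cfsg.Agent.Lib.Helper13.exists_index_p_of_secCtl W hW (Nat.card G) G le_rfl
    (Cfsg.Agent.Lib.Helper13.secCtl_of_sections W hW hctl) S hS hN

end Cfsg.Agent.S1971
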