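import Cfsg.Statements.S1976
import Mathlib.Order.OrderIsoNat
import Mathlib.Order.WellFounded

set_option autoImplicit false
open Cfsg

namespace Cfsg.Agent.S1976

theorem kLowerStarFamily_anti {P : Type*} [Group P] {Q Q' : Subgroup P} (h : Q' ≤ Q) :
    Cfsg.kLowerStarFamily Q ⊆ Cfsg.kLowerStarFamily Q' := by
  rintro B ⟨hB2, hBn, hBA⟩
  exact ⟨hB2, le_trans h hBn, fun A hA hAQ => hBA A hA (le_trans hAQ h)⟩

theorem kUpperStarFamily_anti {P : Type*} [Group P] {Q Q' : Subgroup P} (h : Q' ≤ Q) :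
    Cfsg.kUpperStarFamily Q ⊆ Cfsg.kUpperStarFamily Q' := by
  rintro B ⟨hB2, hBQ⟩
  exact ⟨hB2, le_trans (Subgroup.commutator_mono le_rfl h) hBQ⟩

theorem kSeqOdd_succ_le {P : Type*} [Group P] (n : ℕ) :
    Cfsg.kSeqOdd P (n + 1) ≤ Cfsg.kSeqOdd P n := by
  induction n with
  | zero => exact le_top
  | succ n ih =>
    show sSup (Cfsg.kUpperStarFamily (sSup (Cfsg.kLowerStarFamily (Cfsg.kSeqOdd P (n + 1))))) ≤
      sSup (Cfsg.kUpperStarFamily (sSup (Cfsg.kLowerStarFamily (Cfsg.kSeqOdd P n))))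
    apply sSup_le_sSup
    apply kUpperStarFamily_anti
    apply sSup_le_sSup
    exact kLowerStarFamily_anti ih

theorem kSeqEven_le_succ {P : Type*} [Group P] (n : ℕ) :
    Cfsg.kSeqEven P n ≤ Cfsg.kSeqEven P (n + 1) := by
  show sSup (Cfsg.kLowerStarFamily (Cfsg.kSeqOdd P n)) ≤
    sSup (Cfsg.kLowerStarFamily (Cfsg.kSeqOdd P (n + 1)))
  apply sSup_le_sSup
  exact kLowerStarFamily_anti (kSeqOdd_succ_le n)

theorem kSeqOdd_antitone {P : Type*} [Group P] : Antitone (Cfsg.kSeqOdd P) :=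
  antitone_nat_of_succ_le kSeqOdd_succ_le

theorem kSeqEven_monotone {P : Type*} [Group P] : Monotone (Cfsg.kSeqEven P) :=
  monotone_nat_of_le_succ kSeqEven_le_succ

/-- Let P be a finite p-group. The K-sequence of P is eventually constant on each parity: from some index on, every even-indexed term equals the lower K-infinity subgroup and every odd-indexed term equals the upper K-infinity subgroup. -/
theorem result {P : Type*} [Group P] [Finite P] {p : ℕ} [Fact p.Prime] (hP : IsPGroup p P) : ∃ n : ℕ, ∀ m : ℕ, n ≤ m → Cfsg.kSeqEven P m = Cfsg.kInfLower P ∧ Cfsg.kSeqOdd P m = Cfsg.kInfUpper P := by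
  obtain ⟨n1, h1⟩ := WellFoundedGT.monotone_chain_condition
    (⟨Cfsg.kSeqEven P, kSeqEven_monotone⟩ : ℕ →o Subgroup P)
  obtain ⟨n2, h2⟩ := WellFoundedLT.antitone_chain_condition (kSeqOdd_antitone (P := P))
  refine ⟨max n1 n2, fun m hm => ⟨?_, ?_⟩⟩
  · have hm1 : n1 ≤ m := le_trans (le_max_left _ _) hm
    have e : Cfsg.kSeqEven P n1 = Cfsg.kSeqEven P m := h1 m hm1
    rw [← e]
    apply le_antisymm
    · exact le_iSup (fun n => Cfsg.kSeqEven P n) n1
    · apply iSup_le
      intro k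
      have : Cfsg.kSeqEven P (max k n1) = Cfsg.kSeqEven P n1 := (h1 _ (le_max_right _ _)).symm
      rw [← this]
      exact kSeqEven_monotone (le_max_left _ _)
  · have hm2 : n2 ≤ m := le_trans (le_max_right _ _) hm
    have e : Cfsg.kSeqOdd P n2 = Cfsg.kSeqOdd P m := h2 m hm2
    rw [← e]
    apply le_antisymm
    · apply le_iInf
      intro k
      have : Cfsg.kSeqOdd P (max k n2) = Cfsg.kSeqOdd P n2 := (h2 _ (le_max_right _ _)).symm
      rw [← this]
      exact kSeqOdd_antitone (le_max_left _ _)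
    · exact iInf_le (fun n => Cfsg.kSeqOdd P n) n2

end Cfsg.Agent.S1976
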