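import Cfsg.Statements.S1977
import Cfsg.Agent.Lib.Helper13.CentExt

set_option autoImplicit false
open Cfsg

namespace Cfsg.Agent.S1977

open Cfsg.Agent.Lib.Helper13
open scoped commutatorElement

theorem centralizer_le_of_maximal {P : Type*} [Group P] [Group.IsNilpotent P]
    (B : Subgroup P) (𝒦 : Set (Subgroup P)) (h𝒦 : 𝒦 = Cfsg.classTwoSubgroups P ∨ (∃ Q : Subgroup P, 𝒦 = Cfsg.kLowerStarFamily Q) ∨ ∃ Q : Subgroup P, 𝒦 = Cfsg.kUpperStarFamily Q) (hB : B ∈ 𝒦) (hmax : ∀ C ∈ 𝒦, B ≤ C → C = B) : Subgroup.centralizer (B : Set P) ≤ B := by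
  by_contra hcon
  obtain ⟨x, hxC, hxB, hxn⟩ := exists_centralizer_elt_central_mod B hcon
  have hmem : B ⊔ Subgroup.zpowers x ∈ 𝒦 := by
    rcases h𝒦 with rfl | ⟨Q, rfl⟩ | ⟨Q, rfl⟩
    · exact ext_classTwo hxC hB
    · obtain ⟨hB2, hQN, hA⟩ := hB
      refine ⟨ext_classTwo hxC hB2, hQN.trans (normalizer_le_normalizer_ext hxC hxn), ?_⟩
      intro A hA2 hAQ hBA hc1 hc2
      have h1 : ⁅B, A⁆ ≤ B ⊓ Subgroup.centralizer (B : Set P) := by
        apply hA A hA2 hAQ (le_sup_left.trans hBA)
        · rw [eq_bot_iff, ← hc1]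
          exact Subgroup.commutator_mono le_sup_left le_rfl
        · rw [eq_bot_iff, ← hc2]
          exact Subgroup.commutator_mono
            (Subgroup.commutator_mono (center_le_ext_center hxC) le_rfl) le_rfl
      rw [Subgroup.commutator_le]
      intro g hg a ha
      apply center_le_ext_center hxC
      apply ext_comm_mem hxC hxn (hQN (hAQ ha)) _ g hg
      intro b hb
      exact h1 (Subgroup.commutator_mem_commutator hb ha)
    · obtain ⟨hB2, hBQ⟩ := hB
      refine ⟨ext_classTwo hxC hB2, ?_⟩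
      have hQN : Q ≤ Subgroup.normalizer (B : Set P) := by
        intro q hq
        have key : ∀ q ∈ Q, ∀ b ∈ B, q * b * q⁻¹ ∈ B := by
          intro q hq b hb
          have h1 : ⁅b⁻¹, q⁆ ∈ B :=
            (Subgroup.mem_inf.mp (hBQ (Subgroup.commutator_mem_commutator (B.inv_mem hb) hq))).1
          have e : q * b * q⁻¹ = b * ⁅b⁻¹, q⁆ := by
            simp only [commutatorElement_def]; group
          rw [e]
          exact B.mul_mem hb h1
        rw [Subgroup.mem_normalizer_iff]
        intro b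
        constructor
        · exact key q hq b
        · intro h
          have := key q⁻¹ (Q.inv_mem hq) _ h
          have e : q⁻¹ * (q * b * q⁻¹) * q⁻¹⁻¹ = b := by group
          rwa [e] at this
      rw [Subgroup.commutator_le]
      intro g hg q hq
      apply center_le_ext_center hxC
      apply ext_comm_mem hxC hxn (hQN hq) _ g hg
      intro b hb
      exact hBQ (Subgroup.commutator_mem_commutator hb hq)
  have := hmax _ hmem le_sup_left
  apply hxB
  rw [← this]
  exact Subgroup.mem_sup_right (Subgroup.mem_zpowers x)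

/-- Let P be a finite p-group. A member B that is maximal under inclusion in any one of the families used to build the K-sequence of P — the class-two family, the lower-star family relative to an odd-indexed term, or the upper-star family relative to an even-indexed term — contains its centralizer: C_P(B) ≤ B. -/
theorem result {P : Type*} [Group P] [Finite P] {p : ℕ} [Fact p.Prime] (hP : IsPGroup p P) (B : Subgroup P) (𝒦 : Set (Subgroup P)) (h𝒦 : 𝒦 = Cfsg.classTwoSubgroups P ∨ (∃ n, 𝒦 = Cfsg.kLowerStarFamily (Cfsg.kSeqOdd P n)) ∨ ∃ n, 𝒦 = Cfsg.kUpperStarFamily (Cfsg.kSeqEven P n)) (hB : B ∈ 𝒦) (hmax : ∀ C ∈ 𝒦, B ≤ C → C = B) : Subgroup.centralizer (B : Set P) ≤ B := by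
  haveI : Group.IsNilpotent P := hP.isNilpotent
  apply centralizer_le_of_maximal B 𝒦 _ hB hmax
  rcases h𝒦 with h | ⟨n, h⟩ | ⟨n, h⟩
  · exact Or.inl h
  · exact Or.inr (Or.inl ⟨_, h⟩)
  · exact Or.inr (Or.inr ⟨_, h⟩)

end Cfsg.Agent.S1977
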