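import Cfsg.Statements.S1980

set_option autoImplicit false
open Cfsg

namespace Cfsg.Agent.S1980

theorem comm_bot_of_comm {P : Type*} [Group P] (A : Subgroup P) (hA : IsMulCommutative ↥A) :
    ⁅A, A⁆ = ⊥ := by
  rw [Subgroup.commutator_eq_bot_iff_le_centralizer]
  intro a ha b hb
  have := (isMulCommutative_iff.mp hA) ⟨b, hb⟩ ⟨a, ha⟩
  exact congrArg Subtype.val this

theorem le_centralizer_of_comm {P : Type*} [Group P] (A : Subgroup P) (hA : IsMulCommutative ↥A) :
    A ≤ Subgroup.centralizer (A : Set P) := by
  rw [← Subgroup.commutator_eq_bot_iff_le_centralizer]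
  exact comm_bot_of_comm A hA

theorem mem_classTwo {P : Type*} [Group P] (A : Subgroup P) (hA : IsMulCommutative ↥A) :
    A ∈ Cfsg.classTwoSubgroups P := by
  show ⁅A, A⁆ ≤ Subgroup.centralizer (A : Set P)
  rw [comm_bot_of_comm A hA]; exact bot_le

theorem mem_lower {P : Type*} [Group P] (A : Subgroup P) [A.Normal] (hA : IsMulCommutative ↥A)
    (Q : Subgroup P) : A ∈ Cfsg.kLowerStarFamily Q := by
  refine ⟨mem_classTwo A hA, ?_, ?_⟩
  · rw [Subgroup.normalizer_eq_top]; exact le_top
  · intro B _ _ _ _ _
    apply le_inf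
    · exact Subgroup.commutator_le_left A B
    · exact le_trans (Subgroup.commutator_le_left A B) (le_centralizer_of_comm A hA)

theorem mem_upper {P : Type*} [Group P] (A : Subgroup P) [A.Normal] (hA : IsMulCommutative ↥A)
    (Q : Subgroup P) : A ∈ Cfsg.kUpperStarFamily Q := by
  refine ⟨mem_classTwo A hA, ?_⟩
  apply le_inf
  · exact Subgroup.commutator_le_left A Q
  · exact le_trans (Subgroup.commutator_le_left A Q) (le_centralizer_of_comm A hA)

/-- Let P be a finite p-group and A an abelian normal subgroup of P. Then A belongs to every family used to build the K-sequence of P: the class-two family, every lower-star family relative to an odd-indexed term, and every upper-star family relative to an even-indexed term. In particular A lies in every term of the K-sequence. -/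
theorem result {P : Type*} [Group P] [Finite P] {p : ℕ} [Fact p.Prime] (hP : IsPGroup p P) (A : Subgroup P) [A.Normal] (hA : IsMulCommutative ↥A) : A ∈ Cfsg.classTwoSubgroups P ∧ ∀ n : ℕ, A ∈ Cfsg.kLowerStarFamily (Cfsg.kSeqOdd P n) ∧ A ∈ Cfsg.kUpperStarFamily (Cfsg.kSeqEven P n) := by
  exact ⟨mem_classTwo A hA, fun n => ⟨mem_lower A hA _, mem_upper A hA _⟩⟩

end Cfsg.Agent.S1980
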