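import Cfsg.Statements.S1978
import Cfsg.Agent.S1976
import Cfsg.Agent.S1977
import Cfsg.Agent.S1980
import Mathlib.Order.Preorder.Finite

set_option autoImplicit false
open Cfsg

namespace Cfsg.Agent.S1978

theorem centralizer_sSup_le {P : Type*} [Group P] [Finite P] [Group.IsNilpotent P]
    (𝒦 : Set (Subgroup P)) (h𝒦 : 𝒦 = Cfsg.classTwoSubgroups P ∨ (∃ Q : Subgroup P, 𝒦 = Cfsg.kLowerStarFamily Q) ∨ ∃ Q : Subgroup P, 𝒦 = Cfsg.kUpperStarFamily Q)
    (hne : (⊥ : Subgroup P) ∈ 𝒦) (K : Subgroup P) (hK : sSup 𝒦 ≤ K) :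
    Subgroup.centralizer (K : Set P) ≤ K := by
  obtain ⟨B, -, hB⟩ := (Set.toFinite 𝒦).exists_le_maximal hne
  have hBK : B ≤ K := (le_sSup hB.1).trans hK
  have h1 : Subgroup.centralizer (B : Set P) ≤ B :=
    Cfsg.Agent.S1977.centralizer_le_of_maximal B 𝒦 h𝒦 hB.1
      (fun C hC hBC => le_antisymm (hB.2 hC hBC) hBC)
  exact (Subgroup.centralizer_le hBK).trans (h1.trans hBK)

/-- Let P be a finite p-group. Each of the two K-infinity subgroups of P contains its own centralizer in P, which in turn contains Z(P); in particular both are nontrivial when P is. -/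
theorem result {P : Type*} [Group P] [Finite P] {p : ℕ} [Fact p.Prime] (hP : IsPGroup p P) : Subgroup.centralizer (Cfsg.kInfLower P : Set P) ≤ Cfsg.kInfLower P ∧ Subgroup.center P ≤ Subgroup.centralizer (Cfsg.kInfLower P : Set P) ∧ Subgroup.centralizer (Cfsg.kInfUpper P : Set P) ≤ Cfsg.kInfUpper P ∧ Subgroup.center P ≤ Subgroup.centralizer (Cfsg.kInfUpper P : Set P) := by
  haveI : Group.IsNilpotent P := hP.isNilpotent
  have hbot : IsMulCommutative ↥(⊥ : Subgroup P) := inferInstance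
  refine ⟨?_, Subgroup.center_le_centralizer _, ?_, Subgroup.center_le_centralizer _⟩
  · apply centralizer_sSup_le (Cfsg.kLowerStarFamily (Cfsg.kSeqOdd P 0)) (Or.inr (Or.inl ⟨_, rfl⟩))
      (Cfsg.Agent.S1980.mem_lower ⊥ hbot _)
    exact le_iSup (fun n => Cfsg.kSeqEven P n) 0
  · obtain ⟨n₀, hn₀⟩ := Cfsg.Agent.S1976.result hP
    have h1 : Cfsg.kSeqOdd P (n₀ + 1) = Cfsg.kInfUpper P := (hn₀ (n₀ + 1) (Nat.le_succ n₀)).2
    apply centralizer_sSup_le (Cfsg.kUpperStarFamily (Cfsg.kSeqEven P n₀)) (Or.inr (Or.inr ⟨_, rfl⟩))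
      (Cfsg.Agent.S1980.mem_upper ⊥ hbot _)
    rw [← h1]
    exact le_of_eq rfl

end Cfsg.Agent.S1978
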