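import Mathlib
import Cfsg.Statements.S1979
import Cfsg.Agent.Lib.Helper13.KSeqSub
import Cfsg.Agent.S1976

set_option autoImplicit false
open Cfsg

namespace Cfsg.Agent.S1979
open Cfsg.Agent.Lib.Helper13

theorem kSeqOdd_succ_eq (P : Type*) [Group P] (n : ℕ) :
    Cfsg.kSeqOdd P (n + 1) = sSup (Cfsg.kUpperStarFamily (Cfsg.kSeqEven P n)) := rfl

theorem kSeqEven_eq (P : Type*) [Group P] (n : ℕ) :
    Cfsg.kSeqEven P n = sSup (Cfsg.kLowerStarFamily (Cfsg.kSeqOdd P n)) := rfl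

theorem interleave {P : Type*} [Group P] (Q : Subgroup P)
    (hQ : ∀ n : ℕ, Cfsg.kSeqEven P n ≤ Q ∧ Cfsg.kSeqOdd P (n + 1) ≤ Q) (n : ℕ) :
    (Cfsg.kSeqOdd P (n + 1) ≤ (Cfsg.kSeqOdd ↥Q n).map Q.subtype ∧
      (Cfsg.kSeqOdd ↥Q n).map Q.subtype ≤ Cfsg.kSeqOdd P n) ∧
    (Cfsg.kSeqEven P n ≤ (Cfsg.kSeqEven ↥Q n).map Q.subtype ∧
      (Cfsg.kSeqEven ↥Q n).map Q.subtype ≤ Cfsg.kSeqEven P (n + 1)) := by
  have hE : ∀ n : ℕ, (Cfsg.kSeqOdd P (n + 1) ≤ (Cfsg.kSeqOdd ↥Q n).map Q.subtype ∧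
      (Cfsg.kSeqOdd ↥Q n).map Q.subtype ≤ Cfsg.kSeqOdd P n) →
      (Cfsg.kSeqEven P n ≤ (Cfsg.kSeqEven ↥Q n).map Q.subtype ∧
      (Cfsg.kSeqEven ↥Q n).map Q.subtype ≤ Cfsg.kSeqEven P (n + 1)) := by
    intro n ⟨h1, h2⟩
    rw [kSeqEven_eq ↥Q n, ks_map_sSup_lower]
    constructor
    · rw [kSeqEven_eq P n]
      apply sSup_le
      intro B hB
      apply le_sSup
      refine ⟨?_, Cfsg.Agent.S1976.kLowerStarFamily_anti h2 hB⟩
      exact (le_sSup hB).trans ((kSeqEven_eq P n).symm.le.trans (hQ n).1)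
    · rw [kSeqEven_eq P (n + 1)]
      apply sSup_le
      rintro B ⟨-, hB⟩
      exact le_sSup (Cfsg.Agent.S1976.kLowerStarFamily_anti h1 hB)
  induction n with
  | zero =>
    have h0 : (Cfsg.kSeqOdd P (0 + 1) ≤ (Cfsg.kSeqOdd ↥Q 0).map Q.subtype ∧
        (Cfsg.kSeqOdd ↥Q 0).map Q.subtype ≤ Cfsg.kSeqOdd P 0) := by
      have e : (Cfsg.kSeqOdd ↥Q 0).map Q.subtype = Q := by
        show (⊤ : Subgroup ↥Q).map Q.subtype = Q
        rw [← MonoidHom.range_eq_map, Subgroup.range_subtype]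
      rw [e]
      exact ⟨(hQ 0).2, le_top⟩
    exact ⟨h0, hE 0 h0⟩
  | succ n ih =>
    obtain ⟨-, ih1, ih2⟩ := ih
    have h0 : (Cfsg.kSeqOdd P (n + 1 + 1) ≤ (Cfsg.kSeqOdd ↥Q (n + 1)).map Q.subtype ∧
        (Cfsg.kSeqOdd ↥Q (n + 1)).map Q.subtype ≤ Cfsg.kSeqOdd P (n + 1)) := by
      rw [kSeqOdd_succ_eq ↥Q n, ks_map_sSup_upper]
      constructor
      · rw [kSeqOdd_succ_eq P (n + 1)]
        apply sSup_le
        intro B hB
        apply le_sSup
        refine ⟨?_, Cfsg.Agent.S1976.kUpperStarFamily_anti ih2 hB⟩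
        exact (le_sSup hB).trans ((kSeqOdd_succ_eq P (n + 1)).symm.le.trans (hQ (n + 1)).2)
      · rw [kSeqOdd_succ_eq P n]
        apply sSup_le
        rintro B ⟨-, hB⟩
        exact le_sSup (Cfsg.Agent.S1976.kUpperStarFamily_anti ih1 hB)
    exact ⟨h0, hE (n + 1) h0⟩

/-- Let P be a finite p-group and Q a subgroup of P containing every term of the K-sequence of P of nonnegative index (every even-indexed term and every odd-indexed term after the initial term P). Then the K-infinity subgroups of Q, computed in Q and viewed in P, equal those of P. -/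
theorem result {P : Type*} [Group P] [Finite P] {p : ℕ} [Fact p.Prime] (hP : IsPGroup p P) (Q : Subgroup P) (hQ : ∀ n : ℕ, Cfsg.kSeqEven P n ≤ Q ∧ Cfsg.kSeqOdd P (n + 1) ≤ Q) : (Cfsg.kInfLower ↥Q).map Q.subtype = Cfsg.kInfLower P ∧ (Cfsg.kInfUpper ↥Q).map Q.subtype = Cfsg.kInfUpper P := by
  constructor
  · unfold Cfsg.kInfLower
    rw [Subgroup.map_iSup]
    apply le_antisymm
    · apply iSup_le
      intro n
      exact ((interleave Q hQ n).2.2).trans (le_iSup (fun n => Cfsg.kSeqEven P n) (n + 1))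
    · apply iSup_le
      intro n
      exact ((interleave Q hQ n).2.1).trans
        (le_iSup (fun n => (Cfsg.kSeqEven ↥Q n).map Q.subtype) n)
  · unfold Cfsg.kInfUpper
    rw [Subgroup.map_iInf _ Q.subtype_injective]
    apply le_antisymm
    · apply le_iInf
      intro n
      exact (iInf_le (fun n => (Cfsg.kSeqOdd ↥Q n).map Q.subtype) n).trans
        (interleave Q hQ n).1.2
    · apply le_iInf
      intro n
      exact (iInf_le (fun n => Cfsg.kSeqOdd P n) (n + 1)).trans (interleave Q hQ n).1.1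

end Cfsg.Agent.S1979
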