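import Cfsg.Statements.S1981

set_option autoImplicit false
open Cfsg

namespace Cfsg.Agent.S1981

theorem comm_bot_of_comm {P : Type*} [Group P] (A : Subgroup P) (hA : IsMulCommutative ↥A) :
    ⁅A, A⁆ = ⊥ := by
  rw [Subgroup.commutator_eq_bot_iff_le_centralizer]
  intro a ha b hb
  have := (isMulCommutative_iff.mp hA) ⟨b, hb⟩ ⟨a, ha⟩
  exact congrArg Subtype.val this

theorem le_centralizer_of_comm {P : Type*} [Group P] (A : Subgroup P) (hA : IsMulCommutative ↥A) :
    A ≤ Subgroup.centralizer (A : Set P) := by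
  rw [← Subgroup.commutator_eq_bot_iff_le_centralizer]
  exact comm_bot_of_comm A hA

theorem mem_classTwo {P : Type*} [Group P] (A : Subgroup P) (hA : IsMulCommutative ↥A) :
    A ∈ Cfsg.classTwoSubgroups P := by
  show ⁅A, A⁆ ≤ Subgroup.centralizer (A : Set P)
  rw [comm_bot_of_comm A hA]; exact bot_le

theorem mem_lower {P : Type*} [Group P] (A : Subgroup P) [A.Normal] (hA : IsMulCommutative ↥A)
    (Q : Subgroup P) : A ∈ Cfsg.kLowerStarFamily Q := by
  refine ⟨mem_classTwo A hA, ?_, ?_⟩
  · rw [Subgroup.normalizer_eq_top]; exact le_top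
  · intro B _ _ _ _ _
    apply le_inf
    · exact Subgroup.commutator_le_left A B
    · exact le_trans (Subgroup.commutator_le_left A B) (le_centralizer_of_comm A hA)

theorem mem_upper {P : Type*} [Group P] (A : Subgroup P) [A.Normal] (hA : IsMulCommutative ↥A)
    (Q : Subgroup P) : A ∈ Cfsg.kUpperStarFamily Q := by
  refine ⟨mem_classTwo A hA, ?_⟩
  apply le_inf
  · exact Subgroup.commutator_le_left A Q
  · exact le_trans (Subgroup.commutator_le_left A Q) (le_centralizer_of_comm A hA)

theorem top_le_of_forall {P : Type*} [Group P]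
    (hgen : ⨆ A ∈ {A : Subgroup P | A.Normal ∧ IsMulCommutative ↥A}, A = ⊤) (X : Subgroup P)
    (h : ∀ A : Subgroup P, A.Normal → IsMulCommutative ↥A → A ≤ X) : X = ⊤ := by
  rw [eq_top_iff, ← hgen]
  apply iSup₂_le
  rintro A ⟨hn, hc⟩
  exact h A hn hc

/-- Let P be a finite p-group generated by its abelian normal subgroups. Then both K-infinity subgroups of P equal P. -/
theorem result {P : Type*} [Group P] [Finite P] {p : ℕ} [Fact p.Prime] (hP : IsPGroup p P) (hgen : ⨆ A ∈ {A : Subgroup P | A.Normal ∧ IsMulCommutative ↥A}, A = ⊤) : Cfsg.kInfLower P = ⊤ ∧ Cfsg.kInfUpper P = ⊤ := by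
  constructor
  · apply top_le_of_forall hgen
    intro A hn hc
    haveI := hn
    refine le_trans ?_ (le_iSup (fun n => Cfsg.kSeqEven P n) 0)
    exact le_sSup (mem_lower A hc _)
  · unfold Cfsg.kInfUpper
    rw [iInf_eq_top]
    intro n
    apply top_le_of_forall hgen
    intro A hn hc
    haveI := hn
    cases n with
    | zero => exact le_top
    | succ n => exact le_sSup (mem_upper A hc _)

end Cfsg.Agent.S1981
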