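import Cfsg.Statements.S1985
import Cfsg.Agent.S1973
import Cfsg.Agent.Lib.Helper13.WcElemF

set_option autoImplicit false
universe u
open Cfsg

namespace Cfsg.Agent.S1985

/-- Let p be an odd prime and G a finite group. Then the lower K-infinity subgroup controls weak closure of elements in G: the lower K-infinity subgroup of every p-subgroup P of G contains Z(P), and for some (equivalently, every) Sylow p-subgroup S of G, with K the lower K-infinity subgroup of S, every element of S commuting with all of N_G(K) is weakly closed in S with respect to G (every G-conjugate of it lying in S equals it). -/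
theorem result {G : Type u} [Group G] [Finite G] {p : ℕ} [Fact p.Prime] (hp : p ≠ 2) : Cfsg.ControlsWeakClosureOfElementsIn p (Cfsg.inducedFunctor (G := G) Cfsg.kInfLower) ⊤ := by
  apply Cfsg.Agent.S1973.result (Cfsg.inducedFunctor (G := G) Cfsg.kInfLower)
    (Cfsg.Agent.Lib.Helper13.inducedFunctor_isConjugacyFunctor _
      (Cfsg.Agent.Lib.Helper13.isCharPFunctor_kInfLower p))
    (fun P _ => Cfsg.Agent.Lib.Helper13.zIn_le_inducedFunctor_kInfLower P)
  intro H T hTH hTp hidx hnot
  exact Cfsg.Agent.Lib.Helper13.hloc_of_quadratic hp Cfsg.kInfLower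
    (Cfsg.Agent.Lib.Helper13.isCharPFunctor_kInfLower p)
    (fun Γ _ _ S hn => Cfsg.Agent.Lib.Helper13.exists_quadratic_of_kinf_not_normal S (Or.inl hn))
    H T hTH hTp hidx hnot

end Cfsg.Agent.S1985
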