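import Cfsg.Statements.S1990
import Cfsg.Agent.S2005
import Cfsg.Agent.Lib.Helper13.NPStable
import Cfsg.Agent.Lib.Helper13.CoatomSylow

set_option autoImplicit false
universe u
open Cfsg

namespace Cfsg.Agent.S1990

open Cfsg.Agent.Lib.Helper13

/-- Let p be an odd prime, G a finite group with Sylow p-subgroup S, and W an isomorphism-invariant p-group functor (W assigns to every group Q a subgroup W(Q), nontrivial whenever Q is a nontrivial finite p-group, and every isomorphism from a finite p-group Q onto a group R carries W(Q) onto W(R)). Suppose N_G(W(S)) has a normal p-complement, and W(T) controls strong fusion in every section G* = K/R of G all of whose sections are p-stable in the normalizer form, for every Sylow p-subgroup T of G*. Then G has a normal p-complement. -/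
theorem result {G : Type u} [Group G] [Finite G] {p : ℕ} [Fact p.Prime] (hp : p ≠ 2) (W : ∀ (Q : Type u) [Group Q], Subgroup Q) (hW : Cfsg.IsCharPFunctor.{u} p W) (S : Sylow p G) (hN : Cfsg.HasNormalPComplement p ↥(Subgroup.normalizer ((Cfsg.inducedFunctor (G := G) W (S : Subgroup G) : Subgroup G) : Set G))) (hctl : ∀ (K R : Subgroup G) [hR : (R.subgroupOf K).Normal], (∀ (K' R' : Subgroup (↥K ⧸ R.subgroupOf K)) [hR' : (R'.subgroupOf K').Normal], Cfsg.IsNormalizerPStable p (↥K' ⧸ R'.subgroupOf K')) → ∀ T : Sylow p (↥K ⧸ R.subgroupOf K), Cfsg.ControlsStrongFusion p (Cfsg.inducedFunctor (G := (↥K ⧸ R.subgroupOf K)) W (T : Subgroup (↥K ⧸ R.subgroupOf K)))) : Cfsg.HasNormalPComplement p G := by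
  apply Cfsg.Agent.S2005.result W hW S hN
  intro K R hR hc hn T hT
  have h2 : ∀ T₂ : Sylow 2 (↥K ⧸ R.subgroupOf K), IsMulCommutative T₂ :=
    syl2comm_of_coatom_sylow hp (Cfsg.pCore p (↥K ⧸ R.subgroupOf K))
      (Cfsg.Agent.Lib.Helper1.pCore_isPGroup p) hn T hT
  have hst : ∀ (K' R' : Subgroup (↥K ⧸ R.subgroupOf K)) [hR' : (R'.subgroupOf K').Normal],
      Cfsg.IsNormalizerPStable p (↥K' ⧸ R'.subgroupOf K') := by
    intro K' R' _
    apply isNormalizerPStable_of_syl2comm hp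
    exact Cfsg.Agent.Lib.Helper5.syl2comm_of_surjective (QuotientGroup.mk' _)
      (QuotientGroup.mk'_surjective _) (Cfsg.Agent.Lib.Helper5.syl2comm_subgroup K' h2)
  obtain ⟨T', hWT', hctl'⟩ := hctl K R hst T
  have hAT' : ((Cfsg.pCore p (↥K ⧸ R.subgroupOf K) : Subgroup (↥K ⧸ R.subgroupOf K)) :
      Set (↥K ⧸ R.subgroupOf K)) ⊆ ((T' : Subgroup (↥K ⧸ R.subgroupOf K)) : Set (↥K ⧸ R.subgroupOf K)) :=
    Cfsg.Agent.Lib.Helper1.pCore_le_sylow p T'
  have hAT : Cfsg.pCore p (↥K ⧸ R.subgroupOf K) ≤ (T : Subgroup (↥K ⧸ R.subgroupOf K)) :=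
    Cfsg.Agent.Lib.Helper1.pCore_le_sylow p T
  have hAn : (Cfsg.pCore p (↥K ⧸ R.subgroupOf K)).Normal := Cfsg.Agent.Lib.Helper1.pCore_normal p
  have hTN : (T : Subgroup (↥K ⧸ R.subgroupOf K)) ≤ Subgroup.normalizer
      ((Cfsg.inducedFunctor (G := (↥K ⧸ R.subgroupOf K)) W (T : Subgroup (↥K ⧸ R.subgroupOf K)) :
        Subgroup (↥K ⧸ R.subgroupOf K)) : Set (↥K ⧸ R.subgroupOf K)) :=
    Subgroup.le_normalizer.trans (normalizer_le_normalizer_functor
      (inducedFunctor_isConjugacyFunctor (G := (↥K ⧸ R.subgroupOf K)) W hW) T.isPGroup')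
  rw [← Subgroup.normalizer_eq_top_iff, eq_top_iff]
  intro g _
  obtain ⟨x, hx, hxa⟩ := (hctl' _ hAT').2 g (by
    rintro _ ⟨a, ha, rfl⟩
    exact hAT' (hAn.conj_mem a ha g))
  have hc' : x⁻¹ * g ∈ Subgroup.centralizer
      ((Cfsg.pCore p (↥K ⧸ R.subgroupOf K) : Subgroup (↥K ⧸ R.subgroupOf K)) : Set (↥K ⧸ R.subgroupOf K)) := by
    rw [Subgroup.mem_centralizer_iff]
    intro a ha
    have := hxa a ha
    calc a * (x⁻¹ * g) = x⁻¹ * (x * a * x⁻¹) * g := by group
      _ = x⁻¹ * (g * a * g⁻¹) * g := by rw [this]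
      _ = x⁻¹ * g * a := by group
  have : g = x * (x⁻¹ * g) := by group
  rw [this]
  exact Subgroup.mul_mem _ hx (hTN (hAT (hc hc')))

end Cfsg.Agent.S1990
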