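import Cfsg.Statements.S1992
import Cfsg.Agent.S1991
import Cfsg.Agent.S0144

set_option autoImplicit false
open Cfsg

namespace Cfsg.Agent.S1992

/-- If all Sylow subgroups are self-normalizing and `G` has a normal subgroup of prime index `r`,
then `G` is an `r`-group. -/
theorem isPGroup_of_normal_index {G : Type*} [Group G] [Finite G]
    (h : ∀ q : ℕ, q.Prime → q ∣ Nat.card G → ∀ Q : Sylow q G, Subgroup.normalizer ((Q : Subgroup G) : Set G) = Q)
    (r : ℕ) (hr : r.Prime) (N : Subgroup G) (hN : N.Normal) (hNr : N.index = r) :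
    IsPGroup r G := by
  have hne : Nat.card G ≠ 0 := Nat.card_pos.ne'
  have key : ∀ {q : ℕ}, q.Prime → q ∣ Nat.card G → q = r := by
    intro q hq hqd
    by_contra hqr
    have : Fact q.Prime := ⟨hq⟩
    obtain ⟨Q⟩ : Nonempty (Sylow q G) := inferInstance
    have hQN : (Q : Subgroup G) ≤ N := by
      intro x hx
      rw [← QuotientGroup.eq_one_iff]
      obtain ⟨k, hk⟩ := (IsPGroup.iff_orderOf.mp Q.isPGroup') ⟨x, hx⟩
      rw [Subgroup.orderOf_mk] at hk
      have h1 : orderOf (x : G ⧸ N) ∣ q ^ k := by
        rw [← hk]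
        exact orderOf_dvd_of_pow_eq_one (by rw [← QuotientGroup.mk_pow, pow_orderOf_eq_one]; rfl)
      have h2 : orderOf (x : G ⧸ N) ∣ r := by
        have := orderOf_dvd_natCard (x : G ⧸ N)
        rwa [← Subgroup.index_eq_card, hNr] at this
      have h3 : Nat.Coprime (q ^ k) r :=
        Nat.Coprime.pow_left k ((Nat.coprime_primes hq hr).mpr hqr)
      exact orderOf_eq_one_iff.mp (Nat.eq_one_of_dvd_coprimes h3 h1 h2)
    have hfr := Sylow.normalizer_sup_eq_top (Q.subtype hQN)
    have hmap : ((Q.subtype hQN : Sylow q ↥N) : Subgroup ↥N).map N.subtype = (Q : Subgroup G) := by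
      rw [Sylow.coe_subtype, Subgroup.map_subgroupOf_eq_of_le hQN]
    rw [hmap, h q hq hqd Q, sup_eq_right.mpr hQN] at hfr
    rw [hfr, Subgroup.index_top] at hNr
    exact hr.one_lt.ne hNr
  have := Nat.eq_prime_pow_of_unique_prime_dvd hne key
  exact IsPGroup.of_card this

/-- Let G be a finite group in which, for every prime q dividing the order of G, every Sylow q-subgroup is its own normalizer. Then the order of G is a power of a single prime (G is a q-group for some prime q; for G trivial any prime works). -/
theorem result {G : Type*} [Group G] [Finite G] (h : ∀ q : ℕ, q.Prime → q ∣ Nat.card G → ∀ Q : Sylow q G, Subgroup.normalizer ((Q : Subgroup G) : Set G) = Q) : ∃ q : ℕ, q.Prime ∧ IsPGroup q G := by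
  have hne : Nat.card G ≠ 0 := Nat.card_pos.ne'
  by_cases hbig : ∃ p : ℕ, p.Prime ∧ p ∣ Nat.card G ∧ 5 ≤ p
  · obtain ⟨p, hp, hpd, hp5⟩ := hbig
    have : Fact p.Prime := ⟨hp⟩
    obtain ⟨S⟩ : Nonempty (Sylow p G) := inferInstance
    have hS : (S : Subgroup G) ≠ ⊥ := by
      intro hbot
      have h1 := S.card_eq_multiplicity
      rw [hbot, Subgroup.card_bot] at h1
      have h2 : (Nat.card G).factorization p = 0 := by
        by_contra h0
        have : 1 < p ^ (Nat.card G).factorization p := Nat.one_lt_pow h0 hp.one_lt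
        omega
      have h3 := (hp.factorization_pos_of_dvd hne hpd)
      omega
    obtain ⟨N, hN, hNp⟩ := Cfsg.Agent.S1991.result hp5 S hS (by
      intro g hg hgo
      rw [h p hp hpd S] at hg
      obtain ⟨k, hk⟩ := (IsPGroup.iff_orderOf.mp S.isPGroup') ⟨g, hg⟩
      rw [Subgroup.orderOf_mk] at hk
      have h1 : orderOf g = 1 := by
        have h2 : Nat.Coprime (p ^ k) p := hk ▸ hgo
        cases k with
        | zero => rw [hk, pow_zero]
        | succ k =>
          exfalso
          have h3 : p ∣ Nat.gcd (p ^ (k + 1)) p := Nat.dvd_gcd (dvd_pow_self p (Nat.succ_ne_zero k)) dvd_rfl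
          rw [h2] at h3
          exact hp.one_lt.ne' (Nat.dvd_one.mp h3)
      rw [orderOf_eq_one_iff.mp h1]
      exact Subgroup.one_mem _)
    exact ⟨p, hp, isPGroup_of_normal_index h p hp N hN hNp⟩
  · push Not at hbig
    by_cases htriv : Subsingleton G
    · refine ⟨2, Nat.prime_two, ?_⟩
      intro g
      exact ⟨0, by rw [pow_zero, pow_one]; exact Subsingleton.elim _ _⟩
    · rw [not_subsingleton_iff_nontrivial] at htriv
      have hcard : Nat.card G = 2 ^ (Nat.card G).factorization 2 * 3 ^ (Nat.card G).factorization 3 := by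
        have hsub : (Nat.card G).factorization.support ⊆ ({2, 3} : Finset ℕ) := by
          intro q hq
          rw [Nat.support_factorization, Nat.mem_primeFactors] at hq
          have hq5 : q < 5 := by
            by_contra hge
            exact absurd (hbig q hq.1 hq.2.1) (by omega)
          have hq2 := hq.1.two_le
          have : q = 2 ∨ q = 3 := by
            interval_cases q
            · left; rfl
            · right; rfl
            · exact absurd hq.1 (by norm_num)
          rcases this with rfl | rfl <;> simp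
        conv_lhs => rw [← Nat.prod_factorization_pow_eq_self hne]
        rw [Finsupp.prod_of_support_subset _ hsub _ (fun _ _ => pow_zero _)]
        rw [Finset.prod_pair (by norm_num)]
      have hsolv : Group.IsSolvable G := Cfsg.Agent.S0144.result 2 3 _ _ Nat.prime_two Nat.prime_three hcard
      have hlt : commutator G < ⊤ := Group.IsSolvable.commutator_lt_top_of_nontrivial G
      have hidx : (commutator G).index ≠ 1 := by
        intro h1
        exact hlt.ne (Subgroup.index_eq_one.mp h1)
      obtain ⟨r, hr, hrd⟩ := Nat.exists_prime_and_dvd hidx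
      have : Fact r.Prime := ⟨hr⟩
      obtain ⟨N, hN, hNr⟩ := Cfsg.Agent.Lib.Helper13.exists_normal_index_p_of_dvd hrd
      exact ⟨r, hr, isPGroup_of_normal_index h r hr N hN hNr⟩


end Cfsg.Agent.S1992
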