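import Cfsg.Statements.S1998
import Cfsg.Agent.Lib.Helper13.EngF

set_option autoImplicit false
universe u
open Cfsg

namespace Cfsg.Agent.S1998

/-- Let p be a prime, G a finite group with Sylow p-subgroup S, and 𝓦 a nonempty set of isomorphism-invariant p-group functors (W assigns to every group Q a subgroup W(Q), nontrivial whenever Q is a nontrivial finite p-group, and every isomorphism from a finite p-group Q onto a group R carries W(Q) onto W(R)). Suppose the induced conjugacy functors control transfer in every section of G other than G itself, but not in G. Let T be the subgroup generated by the S ∩ (N_G(W(S)))', W ∈ 𝓦, and M = N_G(T ∩ O_p(G)). Then: C_G(O_p(G)) ≤ O_p(G); M is a proper subgroup of G containing every proper subgroup of G that contains S (the unique maximal subgroup over S); [O_p(G), M] ≤ O_p(G) ∩ M' ≤ O_p(G) ∩ T; and every element u of S outside O_p(G) satisfies [X, u, …, u] ≰ Y with p − 1 entries u, for some chief factor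 X/Y of G with X ≤ O_p(G). -/
theorem result {G : Type u} [Group G] [Finite G] {p : ℕ} [Fact p.Prime] (S : Sylow p G) (𝓦 : Set (∀ (Q : Type u) [Group Q], Subgroup Q)) (h𝓦 : ∀ W ∈ 𝓦, Cfsg.IsCharPFunctor.{u} p W) (hne : 𝓦.Nonempty) (hsec : ∀ (K R : Subgroup G) [hR : (R.subgroupOf K).Normal], (K = ⊤ → R ≠ ⊥) → Cfsg.FamilyControlsTransferIn p ((fun W => Cfsg.inducedFunctor (G := (↥K ⧸ R.subgroupOf K)) W) '' 𝓦) ⊤) (hG : ¬ Cfsg.FamilyControlsTransferIn p ((fun W => Cfsg.inducedFunctor (G := G) W) '' 𝓦) ⊤) (T M : Subgroup G) (hT : T = (⨆ W ∈ 𝓦, (S : Subgroup G) ⊓ ⁅Subgroup.normalizer ((Cfsg.inducedFunctor (G := G) W (S : Subgroup G) : Subgroup G) : Set G), Subgroup.normalizer ((Cfsg.inducedFunctor (G := G) W (S : Subgroup G) : Subgroup G) : Set G)⁆)) (hM : M = Subgroup.normalizer ((T ⊓ Cfsg.pCore p G : Subgroup G) : Set G)) : Subgroup.centralizer ((Cfsg.pCore p G : Subgroup G) : Set G) ≤ Cfsg.pCore p G ∧ (M ≠ ⊤ ∧ ∀ H : Subgroup G, (S : Subgroup G) ≤ H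 → H ≠ ⊤ → H ≤ M) ∧ (⁅Cfsg.pCore p G, M⁆ ≤ Cfsg.pCore p G ⊓ ⁅M, M⁆ ∧ Cfsg.pCore p G ⊓ ⁅M, M⁆ ≤ Cfsg.pCore p G ⊓ T) ∧ ∀ u : G, u ∈ (S : Subgroup G) → u ∉ Cfsg.pCore p G → ∃ U V : Subgroup G, Cfsg.IsChiefFactor U V ∧ U ≤ Cfsg.pCore p G ∧ ¬ Cfsg.iterCommutator U (Subgroup.zpowers u) (p - 1) ≤ V := by
  have hprop : ∀ (Q : Type u) [Group Q] [Finite Q] (K : Subgroup G) (f : ↥K →* Q),
      Function.Surjective f → Nat.card Q < Nat.card G → Cfsg.Agent.Lib.Helper13.FT p 𝓦 Q := by
    intro Q _ _ K f hf hlt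
    have hR : ((f.ker.map K.subtype).subgroupOf K) = f.ker :=
      Subgroup.comap_map_eq_self_of_injective K.subtype_injective f.ker
    have hRn : ((f.ker.map K.subtype).subgroupOf K).Normal := by rw [hR]; infer_instance
    have hcond : K = ⊤ → f.ker.map K.subtype ≠ ⊥ := by
      intro hK hbot
      have hker : f.ker = ⊥ := (Subgroup.map_eq_bot_iff_of_injective _ K.subtype_injective).mp hbot
      have hinj : Function.Injective f := (MonoidHom.ker_eq_bot_iff f).mp hker
      have h1 : Nat.card ↥K = Nat.card Q := Nat.card_eq_of_bijective f ⟨hinj, hf⟩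
      have h2 : Nat.card ↥K = Nat.card G := by
        rw [hK]
        exact Nat.card_congr Subgroup.topEquiv.toEquiv
      omega
    have h1 := Cfsg.Agent.Lib.Helper13.ft_of_familyControlsTransferIn h𝓦
      (hsec K (f.ker.map K.subtype) hcond)
    have e : (↥K ⧸ (f.ker.map K.subtype).subgroupOf K) ≃* Q :=
      (QuotientGroup.quotientMulEquivOfEq hR).trans (QuotientGroup.quotientKerEquivOfSurjective f hf)
    exact Cfsg.Agent.Lib.Helper13.ft_of_equiv h𝓦 _ _ e h1
  have hsub : ∀ N : Subgroup G, N ≠ ⊤ → Cfsg.Agent.Lib.Helper13.FT p 𝓦 ↥N := by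
    intro N hN
    exact hprop ↥N N (MonoidHom.id ↥N) Function.surjective_id
      (Cfsg.Agent.Lib.Helper13.card_subgroup_lt_of_ne_top N hN)
  have hnotHyp : ¬ Cfsg.Agent.Lib.Helper13.HypT p 𝓦 G := by
    intro hH
    have h1 := Cfsg.Agent.Lib.Helper13.secAll_hypT_of_proper h𝓦 hprop hH
    have h2 := Cfsg.Agent.Lib.Helper13.sec_tr_main h𝓦 _ G rfl h1
    exact hG (Cfsg.Agent.Lib.Helper13.familyControlsTransferIn_of_ft h2)
  have hc : Subgroup.centralizer ((Cfsg.pCore p G : Subgroup G) : Set G) ≤ Cfsg.pCore p G := by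
    by_contra hc
    exact hnotHyp (fun h => absurd h hc)
  have hfail : ¬ Cfsg.pCore p G ⊓ _root_.commutator G ≤
      Cfsg.Agent.Lib.Helper13.focD 𝓦 (S : Subgroup G) := by
    intro h
    apply hnotHyp
    intro _ T₁ hT₁p hT₁i
    exact Cfsg.Agent.Lib.Helper13.pCore_inf_commutator_le_focD_of_sylow h𝓦 S h T₁ hT₁p hT₁i
  have hTfoc : T = Cfsg.Agent.Lib.Helper13.focD 𝓦 (S : Subgroup G) := hT
  have hMnorm : M = Subgroup.normalizer ((Cfsg.pCore p G ⊓
      Cfsg.Agent.Lib.Helper13.focD 𝓦 (S : Subgroup G) : Subgroup G) : Set G) := by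
    rw [hM, hTfoc, inf_comm]
  have hPn : (Cfsg.pCore p G).Normal := Cfsg.Agent.Lib.Helper13.pCore_normal' p
  have hPS : Cfsg.pCore p G ≤ (S : Subgroup G) :=
    Cfsg.Agent.Lib.Helper13.normal_pgroup_le_sylow _ Cfsg.Agent.Lib.Helper13.pCore_isPGroup S
  have hMne : M ≠ ⊤ := by
    intro htop
    apply hfail
    rw [hMnorm] at htop
    exact Cfsg.Agent.Lib.Helper13.pCore_inf_commutator_le_focD_of_normalizer_eq_top h𝓦 S hsub hne htop
  have hmax : ∀ H : Subgroup G, (S : Subgroup G) ≤ H → H ≠ ⊤ → H ≤ M := by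
    intro H hSH hH
    rw [hMnorm]
    exact Cfsg.Agent.Lib.Helper13.le_normalizer_pCore_inf_focD h𝓦 S hsub H hH hSH
  have hSne : (S : Subgroup G) ≠ ⊤ := by
    intro h
    apply hfail
    have hSn : Subgroup.normalizer ((S : Subgroup G) : Set G) = ⊤ := by
      rw [h]
      exact Subgroup.normalizer_eq_top_iff.mpr inferInstance
    rw [commutator_def]
    exact (inf_le_inf_right _ hPS).trans
      (Cfsg.Agent.Lib.Helper13.sylow_inf_commutator_le_focD_of_normal h𝓦 S hne hSn)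
  have hSM : (S : Subgroup G) ≤ M := hmax _ le_rfl hSne
  refine ⟨hc, ⟨hMne, hmax⟩, ⟨?_, ?_⟩, ?_⟩
  · exact le_inf (Subgroup.commutator_le_left _ _)
      (Subgroup.commutator_mono (hPS.trans hSM) le_rfl)
  · refine le_inf inf_le_left ?_
    rw [hTfoc]
    exact (inf_le_inf_right _ hPS).trans
      (Cfsg.Agent.Lib.Helper13.sylow_inf_commutator_le_focD h𝓦 S hsub M hMne hSM)
  · intro u huS huP
    by_contra hno
    push Not at hno
    apply hfail
    rw [hMnorm] at hMne
    exact Cfsg.Agent.Lib.Helper13.pCore_inf_commutator_le_focD_of_engel h𝓦 S hsub hMne u huS huP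
      (fun U V hUV hU => hno U V hUV hU)

end Cfsg.Agent.S1998
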