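import Cfsg.Statements.S2007
import Cfsg.Agent.Lib.Helper13.BurnsideRes
import Cfsg.Agent.Lib.Helper13.SylowConj
import Cfsg.Agent.Lib.Helper13.CentExt

set_option autoImplicit false
open Cfsg

namespace Cfsg.Agent.S2007

open Cfsg.Agent.Lib.Helper13

/-- Type-level version: `T ⊴ H`, `T ≤ S` Sylow, `C_S(T) ≤ T`, and `p'`-elements centralize `T`. -/
theorem npc_of_centralizing {H : Type*} [Group H] [Finite H] {p : ℕ} [Fact p.Prime] (S : Sylow p H)
    (T : Subgroup H) [hTn : T.Normal]
    (hC : (S : Subgroup H) ⊓ Subgroup.centralizer (T : Set H) ≤ T)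
    (hN : ∀ g : H, (orderOf g).Coprime p → g ∈ Subgroup.centralizer (T : Set H)) :
    Cfsg.HasNormalPComplement p H := by
  set C : Subgroup H := Subgroup.centralizer (T : Set H) with hCdef
  have hCn : ∀ c ∈ C, ∀ h : H, h * c * h⁻¹ ∈ C := by
    intro c hc h
    apply conj_mem_centralizer_of_mem_normalizer _ hc
    rw [Subgroup.normalizer_eq_top_iff.mpr hTn]
    exact Subgroup.mem_top h
  -- any Sylow p-subgroup of C is central in C
  have hcentral : ∀ (P : Sylow p ↥C), ∀ r ∈ (P : Subgroup ↥C), ∀ c : ↥C, c * r = r * c := by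
    intro P r hr c
    have hRp : IsPGroup p ↥((P : Subgroup ↥C).map C.subtype) := P.isPGroup'.map _
    obtain ⟨h, -, hh⟩ := exists_conj_le_of_sylow_le S ⊤ ((P : Subgroup ↥C).map C.subtype)
      le_top le_top hRp
    have h1 : h * (r : H) * h⁻¹ ∈ (S : Subgroup H) := hh _ ⟨r, hr, rfl⟩
    have h2 : h * (r : H) * h⁻¹ ∈ C := hCn _ r.2 h
    have h3 : h * (r : H) * h⁻¹ ∈ T := hC (Subgroup.mem_inf.mpr ⟨h1, h2⟩)
    have h4 : h * (c : H) * h⁻¹ ∈ C := hCn _ c.2 h
    have h5 := (Subgroup.mem_centralizer_iff.mp h4) _ h3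
    apply Subtype.ext
    show (c : H) * (r : H) = (r : H) * (c : H)
    have e1 : (c : H) * (r : H) = h⁻¹ * ((h * (c : H) * h⁻¹) * (h * (r : H) * h⁻¹)) * h := by group
    have e2 : (r : H) * (c : H) = h⁻¹ * ((h * (r : H) * h⁻¹) * (h * (c : H) * h⁻¹)) * h := by group
    rw [e1, e2, h5]
  obtain ⟨P⟩ : Nonempty (Sylow p ↥C) := inferInstance
  have hP : Subgroup.normalizer ((P : Subgroup ↥C) : Set ↥C) ≤
      Subgroup.centralizer ((P : Subgroup ↥C) : Set ↥C) := by
    intro c _
    rw [Subgroup.mem_centralizer_iff]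
    intro r hr
    exact (hcentral P r hr c).symm
  have hres := not_dvd_card_pResidual_of_burnside P hP
  -- O^p(H) ≤ image of O^p(C)
  have hle : Cfsg.pResidual p H ≤ (Cfsg.pResidual p ↥C).map C.subtype := by
    have : Cfsg.pResidual p H = Subgroup.closure {g : H | Nat.Coprime (orderOf g) p} := rfl
    rw [this, Subgroup.closure_le]
    intro g hg
    have hgC : g ∈ C := hN g hg
    refine ⟨⟨g, hgC⟩, ?_, rfl⟩
    apply Subgroup.subset_closure
    show Nat.Coprime (orderOf (⟨g, hgC⟩ : ↥C)) p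
    rw [Subgroup.orderOf_mk]
    exact hg
  have hcard : ¬ p ∣ Nat.card ↥(Cfsg.pResidual p H) := by
    intro hdvd
    apply hres
    have h1 := Subgroup.card_dvd_of_le hle
    have h2 : Nat.card ↥((Cfsg.pResidual p ↥C).map C.subtype) = Nat.card ↥(Cfsg.pResidual p ↥C) :=
      Nat.card_congr ((Cfsg.pResidual p ↥C).equivMapOfInjective _
        (Subgroup.subtype_injective _)).symm.toEquiv
    rw [h2] at h1
    exact hdvd.trans h1
  exact ⟨S, Cfsg.pResidual p H, pResidual_normal' p,
    hasNormalPComplement_of_not_dvd_card_pResidual S hcard⟩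

/-- Let p be a prime, G a finite group with Sylow p-subgroup S, and T a normal subgroup of S containing C_S(T). If N_G(T)/C_G(T) is a p-group (every element of N_G(T) of order prime to p centralizes T), then N_G(T) has a normal p-complement. -/
theorem result {G : Type*} [Group G] [Finite G] {p : ℕ} [Fact p.Prime] (S : Sylow p G) (T : Subgroup G) (hTS : T ≤ (S : Subgroup G)) (hTn : (S : Subgroup G) ≤ Subgroup.normalizer ((T : Subgroup G) : Set G)) (hC : (S : Subgroup G) ⊓ Subgroup.centralizer ((T : Subgroup G) : Set G) ≤ T) (hN : ∀ g ∈ Subgroup.normalizer ((T : Subgroup G) : Set G), (orderOf g).Coprime p → g ∈ Subgroup.centralizer ((T : Subgroup G) : Set G)) : Cfsg.HasNormalPComplement p ↥(Subgroup.normalizer ((T : Subgroup G) : Set G)) := by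
  set N : Subgroup G := Subgroup.normalizer ((T : Subgroup G) : Set G) with hNdef
  haveI hT'n : (T.subgroupOf N).Normal := Subgroup.normal_in_normalizer
  have hmemC : ∀ x : ↥N, x ∈ Subgroup.centralizer ((T.subgroupOf N : Subgroup ↥N) : Set ↥N) ↔
      (x : G) ∈ Subgroup.centralizer ((T : Subgroup G) : Set G) := by
    intro x
    rw [Subgroup.mem_centralizer_iff, Subgroup.mem_centralizer_iff]
    constructor
    · intro h t ht
      have := h ⟨t, Subgroup.le_normalizer ht⟩ (Subgroup.mem_subgroupOf.mpr ht)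
      exact congrArg Subtype.val this
    · intro h t ht
      apply Subtype.ext
      exact h (t : G) (Subgroup.mem_subgroupOf.mp ht)
  apply npc_of_centralizing (S.subtype hTn) (T.subgroupOf N)
  · intro x hx
    obtain ⟨hx1, hx2⟩ := Subgroup.mem_inf.mp hx
    rw [Subgroup.mem_subgroupOf]
    apply hC
    refine Subgroup.mem_inf.mpr ⟨?_, (hmemC x).mp hx2⟩
    have : x ∈ (S : Subgroup G).subgroupOf N := by
      simpa using hx1
    exact Subgroup.mem_subgroupOf.mp this
  · intro g hg
    rw [hmemC]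
    apply hN (g : G) g.2
    rwa [Subgroup.orderOf_coe]

end Cfsg.Agent.S2007
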