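import Cfsg.Statements.S2008

set_option autoImplicit false
open Cfsg

namespace Cfsg.Agent.S2008

theorem exists_third {H : Type*} [Group H] (E : Subgroup H) (hE : Nat.card ↥E = 4) (z : H) :
    ∃ e ∈ E, e ≠ 1 ∧ e ≠ z := by
  by_contra hcon
  push_neg at hcon
  classical
  haveI : Finite ↥E := Nat.finite_of_card_ne_zero (by rw [hE]; norm_num)
  let f : ↥E → Bool := fun e => decide ((e : H) = 1)
  have hf : Function.Injective f := by
    intro a b hab
    apply Subtype.ext
    have hab' : decide ((a : H) = 1) = decide ((b : H) = 1) := hab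
    by_cases ha : (a : H) = 1
    · have hb : (b : H) = 1 := by
        have h1 : decide ((a : H) = 1) = true := decide_eq_true ha
        rw [hab'] at h1
        exact of_decide_eq_true h1
      rw [ha, hb]
    · have hb : (b : H) ≠ 1 := by
        intro hb
        have h1 : decide ((b : H) = 1) = true := decide_eq_true hb
        rw [← hab'] at h1
        exact ha (of_decide_eq_true h1)
      rw [hcon a a.2 ha, hcon b b.2 hb]
  have := Nat.card_le_card_of_injective f hf
  rw [hE] at this
  simp at this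

theorem inter_centralizer_conj {H : Type*} [Group H] (z : H) (N : Subgroup H) [N.Normal]
    (hNz : N ⊓ Subgroup.centralizer ({z} : Set H) = ⊥) (e : H) (he : IsConj z e) :
    N ⊓ Subgroup.centralizer ({e} : Set H) = ⊥ := by
  rw [isConj_iff] at he
  obtain ⟨c, rfl⟩ := he
  rw [eq_bot_iff]
  intro n hn
  obtain ⟨hnN, hnC⟩ := Subgroup.mem_inf.mp hn
  rw [Subgroup.mem_centralizer_iff] at hnC
  have h1 := hnC (c * z * c⁻¹) (Set.mem_singleton _)
  have hmem : c⁻¹ * n * c ∈ N ⊓ Subgroup.centralizer ({z} : Set H) := by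
    refine Subgroup.mem_inf.mpr ⟨?_, ?_⟩
    · have := (inferInstance : N.Normal).conj_mem n hnN c⁻¹
      simpa using this
    · rw [Subgroup.mem_centralizer_iff]
      intro y hy
      rw [Set.mem_singleton_iff] at hy
      subst hy
      calc y * (c⁻¹ * n * c) = c⁻¹ * ((c * y * c⁻¹) * n) * c := by group
        _ = c⁻¹ * (n * (c * y * c⁻¹)) * c := by rw [h1]
        _ = c⁻¹ * n * c * y := by group
  rw [hNz, Subgroup.mem_bot] at hmem
  rw [Subgroup.mem_bot]
  calc n = c * (c⁻¹ * n * c) * c⁻¹ := by group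
    _ = 1 := by rw [hmem]; group

theorem inverts {H : Type*} [Group H] (N : Subgroup H) [N.Normal] (hab : IsMulCommutative ↥N)
    (e : H) (he2 : e * e = 1) (hNe : N ⊓ Subgroup.centralizer ({e} : Set H) = ⊥) (n : H) (hn : n ∈ N) :
    e * n * e⁻¹ = n⁻¹ := by
  have hconj : e * n * e⁻¹ ∈ N := (inferInstance : N.Normal).conj_mem n hn e
  have hcomm : n * (e * n * e⁻¹) = (e * n * e⁻¹) * n := by
    have := (isMulCommutative_iff.mp hab) ⟨n, hn⟩ ⟨e * n * e⁻¹, hconj⟩
    exact congrArg Subtype.val this
  have einv : e⁻¹ = e := inv_eq_of_mul_eq_one_left he2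
  have hm : n * (e * n * e⁻¹) ∈ N ⊓ Subgroup.centralizer ({e} : Set H) := by
    refine Subgroup.mem_inf.mpr ⟨N.mul_mem hn hconj, ?_⟩
    rw [Subgroup.mem_centralizer_iff]
    intro y hy
    rw [Set.mem_singleton_iff] at hy
    subst hy
    rw [einv] at hcomm ⊢
    calc y * (n * (y * n * y)) = (y * n * y) * n * y := by group
      _ = n * (y * n * y) * y := by rw [← hcomm]
  rw [hNe, Subgroup.mem_bot] at hm
  exact (eq_inv_of_mul_eq_one_right hm)

/-- H finite, z an involution with every proper normal subgroup meeting C(z) trivially, z in a four-group of H-conjugates of z ⇒ H has no non-trivial abelian normal subgroup. -/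
theorem result {H : Type*} [Group H] [Finite H] (z : H) (hz : orderOf z = 2) (hN : ∀ N : Subgroup H, N.Normal → N ≠ ⊤ → N ⊓ Subgroup.centralizer ({z} : Set H) = ⊥) (E : Subgroup H) (hE : IsKleinFour ↥E) (hzE : z ∈ E) (hc : ∀ e ∈ E, e ≠ 1 → IsConj z e) (N : Subgroup H) [N.Normal] (hab : IsMulCommutative ↥N) : N = ⊥ := by
  have hz1 : z ≠ 1 := by
    intro h; rw [h, orderOf_one] at hz; norm_num at hz
  have hz2 : z * z = 1 := by
    have := pow_orderOf_eq_one z
    rw [hz, pow_two] at this; exact this
  obtain ⟨e, heE, he1, hez⟩ := exists_third E hE.card_four z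
  have hNtop : N ≠ ⊤ := by
    intro htop
    apply hez
    have hze := hc e heE he1
    rw [isConj_iff] at hze
    obtain ⟨c, hc'⟩ := hze
    have hcz : c * z = z * c := by
      have hcN : c ∈ N := by rw [htop]; trivial
      have hzN : z ∈ N := by rw [htop]; trivial
      have := (isMulCommutative_iff.mp hab) ⟨c, hcN⟩ ⟨z, hzN⟩
      exact congrArg Subtype.val this
    rw [← hc', hcz]; group
  have hNz := hN N inferInstance hNtop
  have hexp : ∀ x ∈ E, x * x = 1 := by
    intro x hx
    have h := Monoid.pow_exponent_eq_one (⟨x, hx⟩ : ↥E)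
    rw [hE.exponent_two] at h
    have := congrArg Subtype.val h
    simpa [pow_two] using this
  have he2 : e * e = 1 := hexp e heE
  have hNe := inter_centralizer_conj z N hNz e (hc e heE he1)
  have hzeE : z * e ∈ E := E.mul_mem hzE heE
  have hze1 : z * e ≠ 1 := by
    intro h
    apply hez
    have : e = z⁻¹ := eq_inv_of_mul_eq_one_right h
    rw [this]; exact inv_eq_of_mul_eq_one_left hz2
  have hNze := inter_centralizer_conj z N hNz (z * e) (hc (z * e) hzeE hze1)
  rw [eq_bot_iff]
  intro n hn
  have h1 := inverts N hab e he2 hNe n hn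
  have h2 := inverts N hab z hz2 hNz n⁻¹ (N.inv_mem hn)
  have hmem : n ∈ N ⊓ Subgroup.centralizer ({z * e} : Set H) := by
    refine Subgroup.mem_inf.mpr ⟨hn, ?_⟩
    rw [Subgroup.mem_centralizer_iff]
    intro y hy
    rw [Set.mem_singleton_iff] at hy
    subst hy
    have : (z * e) * n * (z * e)⁻¹ = n := by
      calc (z * e) * n * (z * e)⁻¹ = z * (e * n * e⁻¹) * z⁻¹ := by group
        _ = z * n⁻¹ * z⁻¹ := by rw [h1]
        _ = n⁻¹⁻¹ := h2
        _ = n := inv_inv n
    calc z * e * n = ((z * e) * n * (z * e)⁻¹) * (z * e) := by group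
      _ = n * (z * e) := by rw [this]
  rw [hNze] at hmem
  exact hmem

end Cfsg.Agent.S2008
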