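import Cfsg.Statements.S2009
import Cfsg.Agent.S2008

set_option autoImplicit false
open Cfsg

namespace Cfsg.Agent.S2009

theorem abelian_of_fpf_involution {H : Type*} [Group H] [Finite H] (z : H) (hz2 : z * z = 1)
    (N : Subgroup H) [N.Normal] (hNz : N ⊓ Subgroup.centralizer ({z} : Set H) = ⊥) :
    IsMulCommutative ↥N := by
  have zinv : z⁻¹ = z := inv_eq_of_mul_eq_one_left hz2
  have hconjmem : ∀ n ∈ N, z * n * z ∈ N := by
    intro n hn
    have := (inferInstance : N.Normal).conj_mem n hn z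
    rwa [zinv] at this
  let φ : ↥N → ↥N := fun n => ⟨(n : H)⁻¹ * (z * n * z), N.mul_mem (N.inv_mem n.2) (hconjmem n n.2)⟩
  have hinj : Function.Injective φ := by
    intro a b hab
    have h1 : (a : H)⁻¹ * (z * a * z) = (b : H)⁻¹ * (z * b * z) := congrArg Subtype.val hab
    have hmem : (b : H) * (a : H)⁻¹ ∈ N ⊓ Subgroup.centralizer ({z} : Set H) := by
      refine Subgroup.mem_inf.mpr ⟨N.mul_mem b.2 (N.inv_mem a.2), ?_⟩
      rw [Subgroup.mem_centralizer_iff]
      intro y hy
      rw [Set.mem_singleton_iff] at hy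
      subst hy
      have h2 : (a : H)⁻¹ * y * a = (b : H)⁻¹ * y * b := by
        have : (a : H)⁻¹ * (y * a * y) * y = (b : H)⁻¹ * (y * b * y) * y := by rw [h1]
        calc (a : H)⁻¹ * y * a = (a : H)⁻¹ * (y * a * y) * y⁻¹ := by group
          _ = (a : H)⁻¹ * (y * a * y) * y := by rw [zinv]
          _ = (b : H)⁻¹ * (y * b * y) * y := this
          _ = (b : H)⁻¹ * (y * b * y) * y⁻¹ := by rw [zinv]
          _ = (b : H)⁻¹ * y * b := by group
      calc y * ((b : H) * (a : H)⁻¹) = (b : H) * ((b : H)⁻¹ * y * b) * (a : H)⁻¹ := by group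
        _ = (b : H) * ((a : H)⁻¹ * y * a) * (a : H)⁻¹ := by rw [h2]
        _ = (b : H) * (a : H)⁻¹ * y := by group
    rw [hNz, Subgroup.mem_bot] at hmem
    apply Subtype.ext
    have : (b : H) = a := by
      calc (b : H) = ((b : H) * (a : H)⁻¹) * a := by group
        _ = a := by rw [hmem]; group
    exact this.symm
  have hsurj : Function.Surjective φ := Finite.surjective_of_injective hinj
  have hinv : ∀ k ∈ N, z * k * z = k⁻¹ := by
    intro k hk
    obtain ⟨n, hn⟩ := hsurj ⟨k, hk⟩
    have hk' : (n : H)⁻¹ * (z * n * z) = k := congrArg Subtype.val hn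
    rw [← hk']
    calc z * ((n : H)⁻¹ * (z * n * z)) * z = z * (n : H)⁻¹ * z * n * (z * z) := by group
      _ = z * (n : H)⁻¹ * z * n := by rw [hz2, mul_one]
      _ = z⁻¹ * (n : H)⁻¹ * z⁻¹ * n := by rw [zinv]
      _ = ((n : H)⁻¹ * (z * n * z))⁻¹ := by group
  rw [isMulCommutative_iff]
  intro a b
  apply Subtype.ext
  show (a : H) * b = b * a
  have hab := hinv ((a : H) * b) (N.mul_mem a.2 b.2)
  have ha := hinv a a.2
  have hb := hinv b b.2
  have h3 : (z * a * z) * (z * b * z) = z * ((a : H) * b) * z := by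
    calc (z * a * z) * (z * b * z) = z * a * (z * z) * b * z := by group
      _ = z * ((a : H) * b) * z := by rw [hz2]; group
  rw [ha, hb, hab] at h3
  have h4 : ((a : H)⁻¹ * (b : H)⁻¹)⁻¹ = (((a : H) * b)⁻¹)⁻¹ := by rw [h3]
  simpa using h4.symm

/-- H finite, z an involution with every proper normal subgroup meeting C(z) trivially, z in a four-group of H-conjugates of z ⇒ H is simple. -/
theorem result {H : Type*} [Group H] [Finite H] (z : H) (hz : orderOf z = 2) (hN : ∀ N : Subgroup H, N.Normal → N ≠ ⊤ → N ⊓ Subgroup.centralizer ({z} : Set H) = ⊥) (E : Subgroup H) (hE : IsKleinFour ↥E) (hzE : z ∈ E) (hc : ∀ e ∈ E, e ≠ 1 → IsConj z e) : IsSimpleGroup H := by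
  have hz1 : z ≠ 1 := by
    intro h; rw [h, orderOf_one] at hz; norm_num at hz
  have hz2 : z * z = 1 := by
    have := pow_orderOf_eq_one z
    rw [hz, pow_two] at this; exact this
  haveI : Nontrivial H := ⟨⟨z, 1, hz1⟩⟩
  refine ⟨fun N hNn => ?_⟩
  by_cases htop : N = ⊤
  · exact Or.inr htop
  · left
    haveI := hNn
    have hNz := hN N hNn htop
    have hab := abelian_of_fpf_involution z hz2 N hNz
    exact Cfsg.Agent.S2008.result z hz hN E hE hzE hc N hab

end Cfsg.Agent.S2009
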