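import Cfsg.Statements.S2232
import Cfsg.Agent.S5299
import Cfsg.Agent.Lib.helper14.QdNotPC
import Cfsg.Agent.Lib.helper14.SU3Geo

set_option autoImplicit false
open Cfsg

namespace Cfsg.Agent.S2232

theorem involves_of_quotient {G : Type*} [Group G] {X : Type*} [Group X] (N : Subgroup G) [N.Normal]
    (h : Cfsg.Involves X (G ⧸ N)) : Cfsg.Involves X G := by
  obtain ⟨K, R, hn, ⟨e⟩⟩ := h
  haveI := hn
  apply Cfsg.Agent.S5299.involves_of_surj (K.comap (QuotientGroup.mk' N))
    ((e.toMonoidHom.comp (QuotientGroup.mk' (R.subgroupOf K))).comp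
      ((QuotientGroup.mk' N).subgroupComap K))
  intro x
  obtain ⟨kb, hkb⟩ := (e.surjective.comp (QuotientGroup.mk'_surjective (R.subgroupOf K))) x
  obtain ⟨g, hg⟩ := QuotientGroup.mk'_surjective N (kb : G ⧸ N)
  refine ⟨⟨g, ?_⟩, ?_⟩
  · rw [Subgroup.mem_comap, hg]
    exact kb.2
  · rw [← hkb]
    show e (QuotientGroup.mk' (R.subgroupOf K) (((QuotientGroup.mk' N).subgroupComap K) ⟨g, _⟩)) = _
    congr 2
    exact Subtype.ext hg

/-- Let p be an odd prime, q a power of p and K a finite field with q² elements. Then Qd(p) (the natural semidirect product of an elementary abelian group of order p² by SL₂(p)) is not involved in the projective special unitary group PSU₃(q) realised over K. -/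
theorem result {p : ℕ} [Fact p.Prime] (hp : p ≠ 2) {K : Type*} [Field K] [Fintype K] [CharP K p] (n : ℕ) (hn : 1 ≤ n) (hK : Fintype.card K = (p ^ n) ^ 2) : ¬ Cfsg.Involves ↥(Cfsg.qd p) (Cfsg.PSU 3 K (p ^ n)) := by
  intro h
  have h1 : Cfsg.Involves ↥(Cfsg.qd p) ↥(Cfsg.SU 3 K (p ^ n)) := involves_of_quotient _ h
  refine Cfsg.Agent.Lib.helper14.QdNotPC.not_involves_qd hp ?_ h1
  intro P hP hP1
  have hodd : Odd (p ^ n) := Odd.pow ((Fact.out : p.Prime).odd_of_ne_two hp)
  exact Cfsg.Agent.Lib.helper14.SU3Geo.local_pc hK hp (dvd_pow_self p (by omega)) hodd P hP hP1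

end Cfsg.Agent.S2232
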