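import Cfsg.Statements.S2010
import Cfsg.Agent.Lib.Helper10.S4Free3
import Cfsg.Agent.S0609
import Cfsg.Agent.S2232
import Cfsg.Agent.Lib.Helper10.PComp
import Cfsg.Agent.Lib.Helper1.Fitting

set_option autoImplicit false
open Cfsg

namespace Cfsg.Agent.S2010

/-- Let G be a finite solvable group with no section isomorphic to the symmetric group of degree 4, whose Sylow 2-subgroup S has nilpotency class at most 2. Then G = N_G(J_e(S)) · O_{2'}(G), where J_e(S) is the subgroup generated by the elementary abelian subgroups of S of largest order. -/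
theorem result {G : Type*} [Group G] [Finite G]
    [Group.IsSolvable G] (hS4 : ¬ Cfsg.Involves (Equiv.Perm (Fin 4)) G) (S : Sylow 2 G)
    (hcl : Subgroup.lowerCentralSeries (S : Subgroup G) 2 = ⊥) :
    Subgroup.normalizer ((Cfsg.thompsonSubgroupOf 2 (S : Subgroup G)) : Set G) ⊔ Cfsg.pPrimeCore 2 G = ⊤ := by
  haveI hNn : (Cfsg.pPrimeCore 2 G).Normal := Cfsg.Agent.Lib.Helper1.pPrimeCore_normal 2
  have hsurj := QuotientGroup.mk'_surjective (Cfsg.pPrimeCore 2 G)
  have hNcop : (Nat.card (Cfsg.pPrimeCore 2 G)).Coprime 2 :=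
    Cfsg.Agent.Lib.Helper1.pPrimeCore_card_coprime 2
  have hO : Cfsg.pPrimeCore 2 (G ⧸ Cfsg.pPrimeCore 2 G) = ⊥ :=
    Cfsg.Agent.Lib.Helper10.pPrimeCore_quotient_eq_bot 2
  have hS4' : ¬ Cfsg.Involves (Equiv.Perm (Fin 4)) (G ⧸ Cfsg.pPrimeCore 2 G) :=
    fun h => hS4 (Cfsg.Agent.S2232.involves_of_quotient _ h)
  have hSb : ((S.mapSurjective hsurj : Sylow 2 (G ⧸ Cfsg.pPrimeCore 2 G)) :
      Subgroup (G ⧸ Cfsg.pPrimeCore 2 G)) =
      (S : Subgroup G).map (QuotientGroup.mk' (Cfsg.pPrimeCore 2 G)) := Sylow.coe_mapSurjective _ _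
  have hclb : ((S.mapSurjective hsurj : Sylow 2 (G ⧸ Cfsg.pPrimeCore 2 G)) :
      Subgroup (G ⧸ Cfsg.pPrimeCore 2 G)).lowerCentralSeries 2 = ⊥ := by
    rw [hSb, ← Subgroup.map_lowerCentralSeries, hcl, Subgroup.map_bot]
  have hnorm := Cfsg.Agent.Lib.Helper10.S4Free.thompsonOf_normal_of_coreFree hO hS4'
    (S.mapSurjective hsurj) hclb
  have hinj : ∀ x ∈ (S : Subgroup G), QuotientGroup.mk' (Cfsg.pPrimeCore 2 G) x = 1 → x = 1 := by
    intro x hx h1
    rw [QuotientGroup.mk'_apply, QuotientGroup.eq_one_iff] at h1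
    exact Cfsg.Agent.Lib.Helper5.h5_eq_one_of_mem_pgroup_of_mem_coprime S.isPGroup' hNcop hx h1
  have hmap := Cfsg.Agent.S0609.thompsonOf_map 2 (QuotientGroup.mk' (Cfsg.pPrimeCore 2 G))
    (S : Subgroup G) hinj
  have hJS : Cfsg.thompsonSubgroupOf 2 (S : Subgroup G) ≤ (S : Subgroup G) :=
    Subgroup.map_subtype_le _
  rw [eq_top_iff]
  intro g _
  obtain ⟨d, hd, hdg⟩ := Cfsg.Agent.S0609.lift_normalizer S (Cfsg.pPrimeCore 2 G) hNcop
    (Cfsg.thompsonSubgroupOf 2 (S : Subgroup G)) hJS g (by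
      rw [hmap, ← hSb]
      haveI := hnorm
      rw [Subgroup.normalizer_eq_top_iff.mpr inferInstance]
      exact Subgroup.mem_top _)
  have hg : g = d⁻¹ * (d * g) := by group
  rw [hg]
  exact Subgroup.mul_mem _ (le_sup_right (α := Subgroup G) (Subgroup.inv_mem _ hd))
    (le_sup_left (α := Subgroup G) hdg)

end Cfsg.Agent.S2010
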