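import Cfsg.Statements.S2011
import Cfsg.Agent.Lib.Helper13.CentralSylow
import Cfsg.Agent.Lib.Helper13.SylowConj
import Cfsg.Agent.Lib.Helper13.Conj

set_option autoImplicit false
open Cfsg

namespace Cfsg.Agent.S2011

open Cfsg.Agent.Lib.Helper13

section aux

variable {G : Type*} [Group G]

theorem isConj_groupFusionSystem_iff (P Q Q' : Subgroup G) (hQ : Q ≤ P) :
    (Cfsg.groupFusionSystem P).IsConj Q Q' ↔
      ∃ g : G, Q' = Q.map (MulAut.conj g).toMonoidHom ∧ Q' ≤ P := by
  constructor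
  · rintro ⟨φ, ⟨-, hφP, g, hg⟩, hrange⟩
    refine ⟨g, ?_, ?_⟩
    · rw [← hrange]
      ext x
      constructor
      · rintro ⟨q, rfl⟩
        exact ⟨q, q.2, (hg q).symm⟩
      · rintro ⟨q, hq, rfl⟩
        exact ⟨⟨q, hq⟩, hg ⟨q, hq⟩⟩
    · rw [← hrange]
      rintro _ ⟨q, rfl⟩
      exact hφP q
  · rintro ⟨g, rfl, hle⟩
    refine ⟨Cfsg.conjHom Q g, ⟨hQ, fun x => hle ⟨x, x.2, rfl⟩, g, fun x => rfl⟩, ?_⟩
    ext x
    constructor
    · rintro ⟨q, rfl⟩
      exact ⟨q, q.2, rfl⟩
    · rintro ⟨q, hq, rfl⟩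
      exact ⟨⟨q, hq⟩, rfl⟩

end aux

theorem result {G : Type*} [Group G] [Finite G] (p : ℕ) [Fact p.Prime] (P : Sylow p G) (Q : Subgroup G) (hQ : Q ≤ P) : (Cfsg.groupFusionSystem (P : Subgroup G)).IsCentric Q ↔ Cfsg.IsInternalDirectProduct (Q ⊓ Subgroup.centralizer (Q : Set G)) ((Cfsg.pPrimeCore p ↥(Subgroup.centralizer (Q : Set G))).map (Subgroup.centralizer (Q : Set G)).subtype) (Subgroup.centralizer (Q : Set G)) := by
  set C := Subgroup.centralizer (Q : Set G) with hC
  set O := (Cfsg.pPrimeCore p ↥C).map C.subtype with hO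
  have hQp : IsPGroup p ↥Q := P.isPGroup'.to_le hQ
  have hZp : IsPGroup p ↥(Q ⊓ C) := hQp.to_le inf_le_left
  have hOcop : (Nat.card ↥O).Coprime p := by
    rw [hO, Subgroup.card_map_of_injective C.subtype_injective]
    exact Cfsg.Agent.Lib.Helper1.pPrimeCore_card_coprime p
  have hdisj : ∀ x : G, x ∈ Q ⊓ C → x ∈ O → x = 1 := by
    intro x h1 h2
    have hcop : (Nat.card ↥(Q ⊓ C)).Coprime (Nat.card ↥O) := by
      obtain ⟨n, hn⟩ := IsPGroup.iff_card.mp hZp
      rw [hn]
      exact Nat.Coprime.pow_left n hOcop.symm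
    exact Subgroup.disjoint_def.mp (Subgroup.disjoint_of_coprime_natCard hcop) h1 h2
  constructor
  · rintro ⟨-, hcen⟩
    -- Z(Q) is a Sylow subgroup of C
    have hZ' : IsPGroup p ↥((Q ⊓ C).subgroupOf C) := hZp.comap_subtype
    obtain ⟨R, hZR⟩ := hZ'.exists_le_sylow
    have hRG : (R : Subgroup ↥C).map C.subtype ≤ Q ⊓ C := by
      set RG := (R : Subgroup ↥C).map C.subtype with hRGdef
      have hRGC : RG ≤ C := Subgroup.map_subtype_le _
      have hRGp : IsPGroup p ↥RG := R.isPGroup'.map _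
      have hRGN : RG ≤ Subgroup.normalizer (Q : Set G) :=
        hRGC.trans (Subgroup.centralizer_le_normalizer _)
      have hDp : IsPGroup p ↥(RG ⊔ Q) := IsPGroup.to_sup_of_normal_right' hRGp hQp hRGN
      obtain ⟨g, -, hg⟩ := exists_conj_le_of_sylow_le P ⊤ (RG ⊔ Q) le_top le_top hDp
      have hQ'P : Q.map (MulAut.conj g).toMonoidHom ≤ (P : Subgroup G) := by
        rintro _ ⟨q, hq, rfl⟩
        exact hg q (Subgroup.mem_sup_right hq)
      have hconj : (Cfsg.groupFusionSystem (P : Subgroup G)).IsConj Q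
          (Q.map (MulAut.conj g).toMonoidHom) :=
        (isConj_groupFusionSystem_iff _ _ _ hQ).mpr ⟨g, rfl, hQ'P⟩
      have h1 := hcen _ hconj
      intro r hr
      refine Subgroup.mem_inf.mpr ⟨?_, hRGC hr⟩
      have h2 : g * r * g⁻¹ ∈ Cfsg.FusionSystem.centralizerIn (P : Subgroup G)
          (Q.map (MulAut.conj g).toMonoidHom) := by
        refine Subgroup.mem_inf.mpr ⟨hg r (Subgroup.mem_sup_left hr), ?_⟩
        rw [centralizer_cj]
        exact cj_mem (hRGC hr)
      have h3 := h1 h2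
      rw [mem_cj] at h3
      have e : g⁻¹ * (g * r * g⁻¹) * g = r := by group
      rwa [e] at h3
    have hRcen : (R : Subgroup ↥C) ≤ Subgroup.center ↥C := by
      intro r hr
      rw [Subgroup.mem_center_iff]
      intro c
      have hrQ : (r : G) ∈ Q := (Subgroup.mem_inf.mp (hRG ⟨r, hr, rfl⟩)).1
      apply Subtype.ext
      exact ((Subgroup.mem_centralizer_iff.mp c.2) (r : G) hrQ).symm
    have hdecomp := exists_mul_of_central_sylow R hRcen
    refine ⟨inf_le_right, Subgroup.map_subtype_le _, ?_, ?_, ?_⟩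
    · intro a ha b hb
      have hbC : b ∈ C := (Subgroup.map_subtype_le _) hb
      exact (Subgroup.mem_centralizer_iff.mp hbC) a (Subgroup.mem_inf.mp ha).1
    · rw [eq_bot_iff]
      intro x hx
      exact hdisj x (Subgroup.mem_inf.mp hx).1 (Subgroup.mem_inf.mp hx).2
    · apply le_antisymm (sup_le inf_le_right (Subgroup.map_subtype_le _))
      intro c hc
      obtain ⟨t, ht, r, hr, hcr⟩ := hdecomp ⟨c, hc⟩
      have : c = (t : G) * (r : G) := congrArg Subtype.val hcr
      rw [this]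
      exact Subgroup.mul_mem _ (Subgroup.mem_sup_right ⟨t, ht, rfl⟩)
        (Subgroup.mem_sup_left (hRG ⟨r, hr, rfl⟩))
  · rintro ⟨-, -, hcomm, -, hsup⟩
    refine ⟨hQ, ?_⟩
    intro Q' hQ'
    obtain ⟨g, rfl, hQ'P⟩ := (isConj_groupFusionSystem_iff _ _ _ hQ).mp hQ'
    intro x hx
    have hxP : x ∈ (P : Subgroup G) := (Subgroup.mem_inf.mp hx).1
    have hxC : x ∈ Subgroup.centralizer ((Q.map (MulAut.conj g).toMonoidHom : Subgroup G) : Set G) :=
      (Subgroup.mem_inf.mp hx).2
    rw [centralizer_cj, mem_cj] at hxC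
    rw [mem_cj]
    set x' := g⁻¹ * x * g with hx'
    -- x' is a p-element of C = Z(Q) × O
    have hx'p : ∃ k : ℕ, x' ^ p ^ k = 1 := by
      obtain ⟨k, hk⟩ := P.isPGroup' ⟨x, hxP⟩
      refine ⟨k, ?_⟩
      have hk' : x ^ p ^ k = 1 := by
        have := congrArg Subtype.val hk
        simpa using this
      have e : x' ^ p ^ k = g⁻¹ * x ^ p ^ k * g := by
        rw [hx']
        have := conj_pow (a := g⁻¹) (b := x) (i := p ^ k)
        rw [inv_inv] at this
        exact this
      rw [e, hk']; group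
    have hmem : x' ∈ ((Q ⊓ C) ⊔ O : Subgroup G) := by rw [hsup]; exact hxC
    have hnorm : O ≤ Subgroup.normalizer ((Q ⊓ C : Subgroup G) : Set G) := by
      intro b hb
      apply Subgroup.centralizer_le_normalizer
      rw [Subgroup.mem_centralizer_iff]
      intro a ha
      exact hcomm a ha b hb
    have hmem' : x' ∈ (((Q ⊓ C) ⊔ O : Subgroup G) : Set G) := hmem
    rw [Subgroup.coe_mul_of_right_le_normalizer_left (Q ⊓ C) O hnorm] at hmem'
    obtain ⟨z, hz, t, ht, hzt⟩ := hmem'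
    obtain ⟨k, hk⟩ := hx'p
    have hcomm_zt : Commute z t := hcomm z hz t ht
    have hpow : z ^ p ^ k * t ^ p ^ k = 1 := by
      rw [← hcomm_zt.mul_pow]
      have : z * t = x' := hzt
      rw [this, hk]
    have htk : t ^ p ^ k = 1 := by
      have h1 : t ^ p ^ k ∈ O := Subgroup.pow_mem _ ht _
      have h2 : t ^ p ^ k ∈ Q ⊓ C := by
        have : t ^ p ^ k = (z ^ p ^ k)⁻¹ := eq_inv_of_mul_eq_one_right hpow
        rw [this]
        exact Subgroup.inv_mem _ (Subgroup.pow_mem _ hz _)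
      exact hdisj _ h2 h1
    have ht1 : t = 1 := by
      have h1 : orderOf t ∣ p ^ k := orderOf_dvd_of_pow_eq_one htk
      have h2 : orderOf t ∣ Nat.card ↥O := by
        have := orderOf_dvd_natCard (⟨t, ht⟩ : ↥O)
        rwa [Subgroup.orderOf_mk] at this
      have h3 : (p ^ k).Coprime (Nat.card ↥O) := Nat.Coprime.pow_left k hOcop.symm
      have h4 : orderOf t = 1 := Nat.eq_one_of_dvd_coprimes h3 h1 h2
      exact orderOf_eq_one_iff.mp h4
    have : x' = z := by
      have : z * t = x' := hzt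
      rw [← this, ht1, mul_one]
    rw [this]
    exact (Subgroup.mem_inf.mp hz).1

end Cfsg.Agent.S2011
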