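import Cfsg.Statements.S2012
import Cfsg.Agent.Lib.Helper1.EChain

set_option autoImplicit false
open Cfsg
open Cfsg.Agent.Lib.Helper1 Cfsg.Agent.Lib.Helper13 Cfsg.Agent.S0116

namespace Cfsg.Agent.S2012

/-- Alperin's fusion Theorem with the factors taken to be p-elements: let P be a Sylow p-subgroup of a finite group G, A a subset of P and g an element with g⁻¹Ag ⊆ P. Then g = x_1 ⋯ x_n where, for each i, Q_i is a Sylow p-subgroup with P ∩ Q_i a tame intersection (the normalizers in P and in Q_i of P ∩ Q_i are Sylow in N_G(P ∩ Q_i)), x_i normalizes P ∩ Q_i, x_i has p-power order unless Q_i = P, A ⊆ P ∩ Q_1, and (x_1 ⋯ x_i)⁻¹ A (x_1 ⋯ x_i) lies in P ∩ Q_{i+1} for i < n. -/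
theorem result {G : Type*} [Group G] [Finite G] {p : ℕ} [Fact p.Prime] (P : Sylow p G) (A : Set G) (g : G) (hA : A ⊆ (P : Set G)) (hAg : (fun a => g⁻¹ * a * g) '' A ⊆ (P : Set G)) : ∃ (n : ℕ) (Q : Fin n → Sylow p G) (x : Fin n → G), (List.ofFn x).prod = g ∧ (∀ i : Fin n, x i ∈ Subgroup.normalizer ((((P : Subgroup G) ⊓ (Q i : Subgroup G)) : Subgroup G) : Set G) ∧ ¬ p ∣ ((P : Subgroup G) ⊓ Subgroup.normalizer ((((P : Subgroup G) ⊓ (Q i : Subgroup G)) : Subgroup G) : Set G)).relIndex (Subgroup.normalizer ((((P : Subgroup G) ⊓ (Q i : Subgroup G)) : Subgroup G) : Set G)) ∧ ¬ p ∣ ((Q i : Subgroup G) ⊓ Subgroup.normalizer ((((P : Subgroup G) ⊓ (Q i : Subgroup G)) : Subgroup G) : Set G)).relIndex (Subgroup.normalizer ((((P : Subgroup G) ⊓ (Q i : Subgroup G)) : Subgroup G) : Set G)) ∧ ((Q i : Subgroup G) = (P : Subgroup G) ∨ ∃ k : ℕ, orderOf (x i) = p ^ k)) ∧ (∀ h : 0 < n, A ⊆ (((P : Subgroup G) ⊓ (Q ⟨0, h⟩ : Subgroup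 G) : Subgroup G) : Set G)) ∧ ∀ i : Fin n, ∀ h : i.val + 1 < n, (fun a => (((List.ofFn x).take (i.val + 1)).prod)⁻¹ * a * ((List.ofFn x).take (i.val + 1)).prod) '' A ⊆ (((P : Subgroup G) ⊓ (Q ⟨i.val + 1, h⟩ : Subgroup G) : Subgroup G) : Set G) := by
  classical
  have hPp : IsPGroup p (P : Subgroup G) := P.2
  obtain ⟨R₀, hR₀⟩ : ∃ R₀ : Subgroup G, R₀ = Subgroup.closure A := ⟨_, rfl⟩
  have hAR₀ : A ⊆ R₀ := hR₀ ▸ Subgroup.subset_closure
  have hR₀P : R₀ ≤ P := by rw [hR₀, Subgroup.closure_le]; exact hA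
  have hRg : rc R₀ g ≤ (P : Subgroup G) := by
    rw [rc_def, hR₀, MonoidHom.map_closure, Subgroup.closure_le]
    rintro _ ⟨a, ha, rfl⟩
    have h1 := hAg ⟨a, ha, rfl⟩
    simpa using h1
  have chain := pchain P _ R₀ hR₀P le_rfl g hRg
  obtain ⟨n, T, xs, hprod, hE, h0, hstep⟩ := chain.exists_fin A hAR₀
  have hF : ∀ i, T i ∈ tame p (P : Subgroup G) := fun i => (hE i).1
  choose Qs hQs using hF
  have hcard : ∀ i, Nat.card (Qs i) = p ^ (Nat.card G).factorization p := by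
    intro i
    rw [(hQs i).2.1, Sylow.card_eq_multiplicity]
  refine ⟨n, fun i => Sylow.ofCard (Qs i) (hcard i), xs, hprod, ?_, ?_, ?_⟩
  · intro i
    have hTi : T i = (P : Subgroup G) ⊓ Qs i := (hQs i).2.2.1
    simp only [Sylow.coe_ofCard]
    rw [← hTi]
    refine ⟨(hE i).2.1, (hQs i).2.2.2.1, (hQs i).2.2.2.2, ?_⟩
    rcases (hE i).2.2 with h1 | h1
    · left
      rw [h1] at hTi
      have h2 : (P : Subgroup G) ≤ Qs i := by
        rw [hTi]
        exact inf_le_right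
      exact (Subgroup.eq_of_le_of_card_ge h2 (hQs i).2.1.le).symm
    · exact Or.inr h1
  · intro h
    simp only [Sylow.coe_ofCard]
    rw [← (hQs ⟨0, h⟩).2.2.1]
    exact h0 h
  · intro i h
    simp only [Sylow.coe_ofCard]
    rw [← (hQs ⟨i.val + 1, h⟩).2.2.1]
    exact hstep i h

end Cfsg.Agent.S2012
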