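import Cfsg.Statements.S2014
import Cfsg.Agent.Lib.Helper13.Conj
import Cfsg.Agent.Lib.Helper13.SylowConj
import Cfsg.Agent.Lib.Helper13.PResidual

set_option autoImplicit false
open Cfsg

namespace Cfsg.Agent.S2014

open Cfsg.Agent.Lib.Helper13

/-- Let P be a Sylow p-subgroup of a finite group G and A, C ≤ P subgroups conjugate in G, with C extremal: N_P(C) is a Sylow p-subgroup of N_G(C). Then there is g with gAg⁻¹ = C and g N_P(A) g⁻¹ ≤ N_P(C); moreover, given any h with hAh⁻¹ = C, g can be chosen so that h g⁻¹ lies in O^p(N_G(C)), the subgroup of N_G(C) generated by its elements of order prime to p. -/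
theorem result {G : Type*} [Group G] [Finite G] (p : ℕ) [Fact p.Prime] (P : Sylow p G) (A C : Subgroup G) (hA : A ≤ P) (hC : C ≤ P) (hext : ¬ p ∣ ((P : Subgroup G) ⊓ Subgroup.normalizer ((C : Subgroup G) : Set G)).relIndex (Subgroup.normalizer ((C : Subgroup G) : Set G))) (h : G) (hh : A.map (MulAut.conj h).toMonoidHom = C) : ∃ g : G, A.map (MulAut.conj g).toMonoidHom = C ∧ ((P : Subgroup G) ⊓ Subgroup.normalizer ((A : Subgroup G) : Set G)).map (MulAut.conj g).toMonoidHom ≤ (P : Subgroup G) ⊓ Subgroup.normalizer ((C : Subgroup G) : Set G) ∧ h * g⁻¹ ∈ (Cfsg.pResidual p ↥(Subgroup.normalizer ((C : Subgroup G) : Set G))).map (Subgroup.normalizer ((C : Subgroup G) : Set G)).subtype := by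
  set N : Subgroup G := Subgroup.normalizer ((C : Subgroup G) : Set G) with hN
  set Q' : Subgroup ↥N := ((P : Subgroup G) ⊓ N).subgroupOf N with hQ'
  have hQ'p : IsPGroup p ↥Q' := by
    have : IsPGroup p ↥((P : Subgroup G) ⊓ N) := P.isPGroup'.to_le inf_le_left
    exact this.comap_subtype
  have hQ'i : ¬ p ∣ Q'.index := hext
  set R : Subgroup G := ((P : Subgroup G) ⊓ Subgroup.normalizer ((A : Subgroup G) : Set G)).map
    (MulAut.conj h).toMonoidHom with hR
  have hRN : R ≤ N := by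
    have : R ≤ (Subgroup.normalizer ((A : Subgroup G) : Set G)).map (MulAut.conj h).toMonoidHom :=
      cj_mono inf_le_right
    rw [← normalizer_cj, hh] at this
    exact this
  have hRp : IsPGroup p ↥R := isPGroup_cj h (P.isPGroup'.to_le inf_le_left)
  have hR'p : IsPGroup p ↥(R.subgroupOf N) := hRp.comap_subtype
  obtain ⟨n, -, hn⟩ := exists_conj_le_of_sylow_le (hQ'p.toSylow hQ'i) ⊤ (R.subgroupOf N) le_top le_top hR'p
  obtain ⟨q, hq, m, hm, hnqm⟩ := exists_mul_of_sylow_pResidual Q' hQ'i n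
  have hm' : ∀ r ∈ R.subgroupOf N, m * r * m⁻¹ ∈ Q' := by
    intro r hr
    have h1 : n * r * n⁻¹ ∈ Q' := hn r hr
    have h2 : m * r * m⁻¹ = q⁻¹ * (n * r * n⁻¹) * q := by rw [hnqm]; group
    rw [h2]
    exact Q'.mul_mem (Q'.mul_mem (Q'.inv_mem hq) h1) hq
  refine ⟨(m : G) * h, ?_, ?_, ?_⟩
  · rw [← cj_cj, hh]
    exact mem_normalizer_iff_cj_eq.mp m.2
  · rw [← cj_cj]
    rintro _ ⟨r, hr, rfl⟩
    have hr' : (⟨r, hRN hr⟩ : ↥N) ∈ R.subgroupOf N := by
      rw [Subgroup.mem_subgroupOf]; exact hr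
    have := hm' _ hr'
    rw [hQ', Subgroup.mem_subgroupOf] at this
    exact this
  · refine ⟨m⁻¹, inv_mem hm, ?_⟩
    show ((m⁻¹ : ↥N) : G) = h * ((m : G) * h)⁻¹
    rw [Subgroup.coe_inv]
    group

end Cfsg.Agent.S2014
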