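import Cfsg.Statements.S2035
import Cfsg.Agent.Lib.Helper5.M12MD
import Cfsg.Agent.Lib.Helper5.M12CovC
import Cfsg.Agent.Lib.Helper21.SchurCyclic

set_option autoImplicit false
open Cfsg

namespace Cfsg.Agent.S2035

/-- The Schur multiplier of the Mathieu group M₁₂ (the stabiliser of a dodecad in the automorphism group of the length-24 binary code) is cyclic of order 2; here the Schur multiplier is described through stem extensions, as in the definitions: surjective homomorphisms onto the group from a finite group, whose kernel is central in that finite group and contained in that finite group's commutator subgroup. -/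
theorem result : Cfsg.HasCyclicSchurMultiplier ↥Cfsg.Spor.M12 2 := by
  constructor
  · exact Cfsg.Agent.Lib.Helper5.M12M.exists_stem_two
  · intro Γ _ _ σ hσ
    have hle := Cfsg.Agent.Lib.Helper5.M12M.m12_card_ker_le_two σ hσ
    have hpos : 0 < Nat.card σ.ker := Nat.card_pos
    have hcases : Nat.card σ.ker = 1 ∨ Nat.card σ.ker = 2 := by omega
    rcases hcases with h1 | h2
    · refine Cfsg.Agent.Lib.Helper21.exists_surj_of_cyclic 2 (1 : σ.ker) (one_pow 2) ?_
      intro x
      haveI : Subsingleton σ.ker := (Nat.card_eq_one_iff_unique.mp h1).1
      rw [Subsingleton.elim x 1]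
      exact one_mem _
    · haveI : Fact (Nat.Prime 2) := ⟨Nat.prime_two⟩
      have hcyc : IsCyclic σ.ker := isCyclic_of_prime_card h2
      obtain ⟨w, hw⟩ := hcyc.exists_generator
      refine Cfsg.Agent.Lib.Helper21.exists_surj_of_cyclic 2 w ?_ hw
      rw [← h2]
      exact pow_card_eq_one'

end Cfsg.Agent.S2035
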