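import Cfsg.Statements.S2039
import Cfsg.Agent.Lib.helper4.J1Mult
import Cfsg.Agent.Lib.Helper21.SchurCyclic

set_option autoImplicit false
open Cfsg

namespace Cfsg.Agent.S2039

/-- The Schur multiplier of the Janko group J₁ (the group generated by two explicit 7 × 7 matrices over the integers modulo 11) is trivial; here the Schur multiplier is described through stem extensions, as in the definitions: surjective homomorphisms onto the group from a finite group, whose kernel is central in that finite group and contained in that finite group's commutator subgroup. -/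
theorem result : Cfsg.HasCyclicSchurMultiplier ↥Cfsg.Spor.J1 1 := by
  refine ⟨Cfsg.Agent.Lib.Helper21.exists_trivial_stem ↥Cfsg.Spor.J1, ?_⟩
  intro Γ _ _ σ hσ
  obtain ⟨hsurj, hcen, hder⟩ := hσ
  have htriv := Cfsg.Agent.Lib.helper4.j1_stem_ker_trivial σ hsurj hcen hder
  refine ⟨1, ?_⟩
  intro y
  refine ⟨1, ?_⟩
  apply Subtype.ext
  rw [MonoidHom.one_apply]
  exact (htriv y.1 y.2).symm

end Cfsg.Agent.S2039
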