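import Cfsg.Statements.S2047
import Cfsg.Agent.Lib.Helper12.McLM.Exist
import Cfsg.Agent.Lib.Helper12.McLM.TwoPart
import Cfsg.Agent.Lib.Helper21.SchurCyclic

set_option autoImplicit false
open Cfsg

namespace Cfsg.Agent.S2047

/-- The Schur multiplier of the McLaughlin group (as a two-vector stabiliser in the automorphism group of the rank-24 lattice) is cyclic of order 3; here the Schur multiplier is described through stem extensions, as in the definitions: surjective homomorphisms onto the group from a finite group, whose kernel is central in that finite group and contained in that finite group's commutator subgroup. -/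
theorem result : Cfsg.HasCyclicSchurMultiplier ↥Cfsg.Spor.McL 3 := by
  constructor
  · exact Cfsg.Agent.Lib.Helper12.McLM.Exist.exists_stem_three_McL
  · intro Γ _ _ σ hσ
    obtain ⟨e⟩ := Cfsg.Agent.Lib.helper14.MP.M275_equiv
    -- the extension of the group on 275 points
    have hker : (e.toMonoidHom.comp σ).ker = σ.ker := by
      ext x
      rw [MonoidHom.mem_ker, MonoidHom.mem_ker, MonoidHom.comp_apply]
      exact MulEquiv.map_eq_one_iff e
    have hσ' : Cfsg.IsStemExtension (e.toMonoidHom.comp σ) := by
      refine ⟨e.surjective.comp hσ.1, ?_, ?_⟩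
      · rw [hker]; exact hσ.2.1
      · rw [hker]; exact hσ.2.2
    have hodd := Cfsg.Agent.Lib.Helper12.McLM.TwoPart.odd_card_ker _ hσ'
    have hle := Cfsg.Agent.Lib.Helper12.McLM.Upper.card_ker_le_of_odd _ hσ' hodd
    rw [hker] at hodd hle
    have hpos : 0 < Nat.card σ.ker := Nat.card_pos
    have hcases : Nat.card σ.ker = 1 ∨ Nat.card σ.ker = 3 := by
      obtain ⟨m, hm⟩ := hodd
      omega
    rcases hcases with h1 | h3
    · refine Cfsg.Agent.Lib.Helper21.exists_surj_of_cyclic 3 (1 : σ.ker) (one_pow 3) ?_
      intro x
      haveI : Subsingleton σ.ker := (Nat.card_eq_one_iff_unique.mp h1).1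
      rw [Subsingleton.elim x 1]
      exact one_mem _
    · haveI : Fact (Nat.Prime 3) := ⟨Nat.prime_three⟩
      have hcyc : IsCyclic σ.ker := isCyclic_of_prime_card h3
      obtain ⟨w, hw⟩ := hcyc.exists_generator
      refine Cfsg.Agent.Lib.Helper21.exists_surj_of_cyclic 3 w ?_ hw
      rw [← h3]
      exact pow_card_eq_one'

end Cfsg.Agent.S2047
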