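import Cfsg.Statements.S2049
import Cfsg.Agent.Lib.Helper5.HeMF
import Cfsg.Agent.Lib.Helper21.SchurCyclic

set_option autoImplicit false
open Cfsg

namespace Cfsg.Agent.S2049

/-- The Schur multiplier of the Held group (the finitely presented group of the definitions) is trivial; here the Schur multiplier is described through stem extensions, as in the definitions: surjective homomorphisms onto the group from a finite group, whose kernel is central in that finite group and contained in that finite group's commutator subgroup. -/
theorem result : Cfsg.HasCyclicSchurMultiplier Cfsg.Spor.He 1 := by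
  refine ⟨Cfsg.Agent.Lib.Helper21.exists_trivial_stem Cfsg.Spor.He, ?_⟩
  intro Γ _ _ σ hσ
  have htriv := Cfsg.Agent.Lib.Helper5.HeM.he_stem_ker_trivial σ hσ
  refine ⟨1, ?_⟩
  intro y
  refine ⟨1, ?_⟩
  apply Subtype.ext
  rw [MonoidHom.one_apply]
  exact (htriv y.1 y.2).symm

end Cfsg.Agent.S2049
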