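import Cfsg.Statements.S2053
import Cfsg.Agent.Lib.Helper12.Fi22M.Glue
import Cfsg.Agent.Lib.Helper12.Fi22M.UpperI
import Cfsg.Agent.Lib.Helper12.Fi22M.UpperU
import Cfsg.Agent.Lib.Helper12.Fi22M.ExistP

set_option autoImplicit false
open Cfsg

namespace Cfsg.Agent.S2053

/-- The Schur multiplier of the Fischer group Fi₂₂ (the finitely presented group of the definitions) is cyclic of order 6; here the Schur multiplier is described through stem extensions, as in the definitions: surjective homomorphisms onto the group from a finite group, whose kernel is central in that finite group and contained in that finite group's commutator subgroup. -/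
theorem result : Cfsg.HasCyclicSchurMultiplier Cfsg.Spor.Fi22 6 := by
  refine ⟨?_, fun Γ _ _ σ hσ => ?_⟩
  · exact Cfsg.Agent.Lib.Helper12.Fi22M.Glue.exists_stem_six
      Cfsg.Agent.Lib.Helper12.Fi22M.ModelI.phi Cfsg.Agent.Lib.Helper12.Fi22M.ModelP.phi
      Cfsg.Agent.Lib.Helper12.Fi22M.ExistI.phi_stem Cfsg.Agent.Lib.Helper12.Fi22M.ExistP.phi_stem
      Cfsg.Agent.Lib.Helper12.Fi22M.ExistI.card_ker Cfsg.Agent.Lib.Helper12.Fi22M.ExistP.card_ker
  · exact Cfsg.Agent.Lib.Helper12.Fi22M.Glue.exists_surj_six σ hσ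
      (fun Δ _ _ τ hτ ho => Cfsg.Agent.Lib.Helper12.Fi22M.UpperI.card_ker_le_of_odd Δ τ hτ ho)
      (fun Δ _ _ τ hτ hc => Cfsg.Agent.Lib.Helper12.Fi22M.UpperU.card_ker_le_of_coprime Δ τ hτ hc)

end Cfsg.Agent.S2053
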