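import Cfsg.Statements.S2077
import Cfsg.Agent.Lib.Helper16.RU.Final
import Cfsg.Agent.Lib.helper17.RuOut.Main
import Cfsg.Agent.Lib.helper4.OutCongr

set_option autoImplicit false
open Cfsg

namespace Cfsg.Agent.S2077

/-- The outer automorphism group of the Rudvalis group (the unitary automorphism group of the rank-28 Gaussian lattice modulo its centre) is trivial: every automorphism is inner. -/
theorem result : Nat.card (Cfsg.Out Cfsg.Spor.Ru) = 1 := by
  obtain ⟨e⟩ := Cfsg.Agent.Lib.Helper16.RU.ru_iso
  rw [Cfsg.Agent.Lib.helper4.out_card_congr_equiv e]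
  exact Cfsg.Agent.Lib.helper17.RuOut.ruo_out

end Cfsg.Agent.S2077
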