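import Mathlib
import Cfsg.Statements.S2087
import Cfsg.Agent.S0255
import Cfsg.Agent.S0254
import Cfsg.Agent.S0249
import Cfsg.Agent.S1004
import Cfsg.Agent.Lib.Helper21.SchurCyclic
import Cfsg.Agent.Lib.helper3.StemDihedral

set_option autoImplicit false
open Cfsg

namespace Cfsg.Agent.S2087

/-- Exceptional Schur multiplier: over the field with 2 elements, PSL₃ has Schur multiplier cyclic of order 2 (here the Schur multiplier is described through stem extensions, as in the definitions). -/
theorem result {F : Type*} [Field F] [Fintype F] (hF : Fintype.card F = 2) : Cfsg.HasCyclicSchurMultiplier (Matrix.ProjectiveSpecialLinearGroup (Fin 3) F) 2 := by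
  classical
  have e20 : (2 : ZMod 7) ≠ 0 := by decide
  have e41 : (2 : ZMod 7) ^ 2 ≠ 1 := by decide
  have hp7 : Nat.Prime 7 := by norm_num
  haveI : Fact (Nat.Prime 7) := ⟨hp7⟩
  have h7 : Fintype.card (ULift.{u_1, 0} (ZMod 7)) = 7 := by
    rw [Fintype.card_ulift, ZMod.card]
  obtain ⟨e⟩ := Cfsg.Agent.S0255.result (F := ULift.{u_1, 0} (ZMod 7)) (K := F) h7 hF
  have hsimple : IsSimpleGroup (Matrix.ProjectiveSpecialLinearGroup (Fin 3) F) :=
    Cfsg.Agent.S0249.PSL_simple (by rw [Fintype.card_fin])
  have hcard2 : Nat.card (Matrix.ProjectiveSpecialLinearGroup (Fin 2) (ULift.{u_1, 0} (ZMod 7))) = 168 := by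
    have := Cfsg.Agent.S0254.card_psl2 (F := ULift.{u_1, 0} (ZMod 7)) (by rw [h7])
    rw [h7] at this
    omega
  have hcard : Nat.card (Matrix.ProjectiveSpecialLinearGroup (Fin 3) F) = 168 := by
    rw [← Nat.card_congr e.toEquiv, hcard2]
  haveI : Finite (Matrix.ProjectiveSpecialLinearGroup (Fin 3) F) :=
    Nat.finite_of_card_ne_zero (by rw [hcard]; norm_num)
  constructor
  · -- existence: SL(2,7)
    refine ⟨Matrix.SpecialLinearGroup (Fin 2) (ULift.{u_1, 0} (ZMod 7)), inferInstance, inferInstance,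
      e.toMonoidHom.comp (QuotientGroup.mk' (Subgroup.center _)), ?_, ?_⟩
    · have hker : (e.toMonoidHom.comp (QuotientGroup.mk' (Subgroup.center
          (Matrix.SpecialLinearGroup (Fin 2) (ULift.{u_1, 0} (ZMod 7)))))).ker =
          Subgroup.center (Matrix.SpecialLinearGroup (Fin 2) (ULift.{u_1, 0} (ZMod 7))) := by
        ext x
        rw [MonoidHom.mem_ker, MonoidHom.comp_apply]
        rw [show e.toMonoidHom ((QuotientGroup.mk' _) x) = e ((QuotientGroup.mk' _) x) from rfl,
          MulEquiv.map_eq_one_iff, QuotientGroup.mk'_apply, QuotientGroup.eq_one_iff]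
      refine ⟨e.surjective.comp (QuotientGroup.mk'_surjective _), ?_, ?_⟩
      · rw [hker]
      · have h2 : (2 : ULift.{u_1, 0} (ZMod 7)) ≠ 0 := by
          intro h
          have h' : (2 : ZMod 7) = 0 := congrArg ULift.down h
          exact e20 h'
        have h4 : (2 : ULift.{u_1, 0} (ZMod 7)) ^ 2 ≠ 1 := by
          intro h
          have h' : (2 : ZMod 7) ^ 2 = 1 := congrArg ULift.down h
          exact e41 h'
        rw [Matrix.SL2.commutator_eq_top h2 h4]
        exact le_top
    · have hker : (e.toMonoidHom.comp (QuotientGroup.mk' (Subgroup.center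
          (Matrix.SpecialLinearGroup (Fin 2) (ULift.{u_1, 0} (ZMod 7)))))).ker =
          Subgroup.center (Matrix.SpecialLinearGroup (Fin 2) (ULift.{u_1, 0} (ZMod 7))) := by
        ext x
        rw [MonoidHom.mem_ker, MonoidHom.comp_apply]
        rw [show e.toMonoidHom ((QuotientGroup.mk' _) x) = e ((QuotientGroup.mk' _) x) from rfl,
          MulEquiv.map_eq_one_iff, QuotientGroup.mk'_apply, QuotientGroup.eq_one_iff]
      rw [hker]
      have hc2 : Nat.card (Subgroup.center
          (Matrix.SpecialLinearGroup (Fin 2) (ULift.{u_1, 0} (ZMod 7)))) = 2 :=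
        Cfsg.Agent.S0254.card_center (by rw [h7])
      haveI : Fact (Nat.Prime 2) := ⟨Nat.prime_two⟩
      have hcyc : IsCyclic (Subgroup.center
          (Matrix.SpecialLinearGroup (Fin 2) (ULift.{u_1, 0} (ZMod 7)))) :=
        isCyclic_of_prime_card hc2
      have e2 := zmodCyclicMulEquiv hcyc
      rw [hc2] at e2
      exact ⟨e2.symm⟩
  · -- upper bound
    intro Γ _ _ σ hσ
    obtain ⟨hsurj, hcen, hder⟩ := hσ
    haveI : Fact (Nat.Prime 2) := ⟨Nat.prime_two⟩
    obtain ⟨T⟩ : Nonempty (Sylow 2 (Matrix.ProjectiveSpecialLinearGroup (Fin 3) F)) := inferInstance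
    obtain ⟨⟨eT⟩, -, -⟩ := Cfsg.Agent.S1004.result hcard T
    have hodd : ∀ (r : ℕ) [Fact r.Prime], r ≠ 2 →
        ∀ R : Sylow r (Matrix.ProjectiveSpecialLinearGroup (Fin 3) F),
          IsCyclic (R : Subgroup (Matrix.ProjectiveSpecialLinearGroup (Fin 3) F)) := by
      intro r hr hr2 R
      have hrP : r.Prime := hr.out
      obtain ⟨k, hk⟩ := IsPGroup.iff_card.mp R.2
      have hdvd : r ^ k ∣ 168 := by
        rw [← hk, ← hcard]
        exact Subgroup.card_subgroup_dvd_card _
      have hk1 : k ≤ 1 := by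
        by_contra hlt
        push Not at hlt
        have h2 : r ^ 2 ∣ 168 := dvd_trans (pow_dvd_pow r hlt) hdvd
        have hle : r ^ 2 ≤ 168 := Nat.le_of_dvd (by norm_num) h2
        have hr13 : r ≤ 12 := by
          by_contra h13
          push Not at h13
          have : 13 ^ 2 ≤ r ^ 2 := Nat.pow_le_pow_left h13 2
          omega
        have hr2' := hrP.two_le
        interval_cases r <;> omega
      interval_cases k
      · rw [pow_zero] at hk
        haveI : Subsingleton (R : Subgroup (Matrix.ProjectiveSpecialLinearGroup (Fin 3) F)) :=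
          (Nat.card_eq_one_iff_unique.mp hk).1
        exact isCyclic_of_subsingleton
      · rw [pow_one] at hk
        exact isCyclic_of_prime_card hk
    obtain ⟨w, hwker, hw2, hgen⟩ :=
      Cfsg.Agent.Lib.helper3.stem_ker_le_two_of_dihedral σ hsurj hcen hder T 2 (by norm_num) eT hodd
    refine Cfsg.Agent.Lib.Helper21.exists_surj_of_cyclic 2 (⟨w, hwker⟩ : σ.ker) ?_ ?_
    · exact Subtype.ext hw2
    · intro x
      obtain ⟨j, hj⟩ := Subgroup.mem_zpowers_iff.mp (hgen x.1 x.2)
      refine Subgroup.mem_zpowers_iff.mpr ⟨j, ?_⟩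
      apply Subtype.ext
      rw [← hj]
      simp

end Cfsg.Agent.S2087
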