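import Cfsg.Statements.S2094
import Cfsg.Agent.Lib.Helper11.SPBM3
import Cfsg.Agent.Lib.Helper1.OMBG9
import Cfsg.Agent.Lib.Helper22.OMBC3
import Cfsg.Agent.Lib.Helper16.STBK3
import Cfsg.Agent.Lib.helper6.CEBM9

set_option autoImplicit false
open Cfsg

namespace Cfsg.Agent.S2094

/-- Schur multipliers of the odd-dimensional orthogonal groups: for m ≥ 3 and a field F of odd order q with (m, q) ≠ (3, 3), the Schur multiplier of PΩ_(2m+1)(F) (for the form x₀² + Σ xᵢyᵢ) is cyclic of order 2 = gcd(2, q − 1); here the Schur multiplier is described through stem extensions, as in the definitions. -/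
theorem result {F : Type*} [Field F] [Fintype F] {q : ℕ} (hF : Fintype.card F = q) (hq : Odd q) (m : ℕ) (hm : 3 ≤ m) (hexc : ¬ (m = 3 ∧ q = 3)) : Cfsg.HasCyclicSchurMultiplier (Cfsg.POmega F (Cfsg.quadFormOdd m F)) 2 := by
  have h2 : (2 : F) ≠ 0 := Cfsg.Agent.Lib.helper3.SPB.spbm3_two_ne_zero hF hq
  have hexc' : ¬ (m = 3 ∧ Fintype.card F = 3) := by rw [hF]; exact hexc
  refine Cfsg.Agent.Lib.helper3.SPB.s2094_core hF hq m hm ?_ ?_ ?_ ?_
  · intro H _ S R hS hgen
    exact Cfsg.Agent.Lib.Lead.STB.SysB.Rep.injective R hS hgen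
  · exact Cfsg.Agent.Lib.Helper12.OMB.exists_omegaSysB hm h2
  · exact Cfsg.Agent.Lib.Helper12.OMB.center_omegaB hm h2
  · intro G _ S R hgen a hspin Γ _ σ hsurj hcen
    exact Cfsg.Agent.Lib.helper6.CEB.ceb_split hm h2 hexc' S R hgen a hspin ⟨hsurj, hcen⟩

end Cfsg.Agent.S2094
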