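import Mathlib
import Cfsg.Statements.S2111
import Cfsg.Agent.Lib.helper3.SuzukiMultC

set_option autoImplicit false
open Cfsg

namespace Cfsg.Agent.S2111

/-- Schur multipliers of the Suzuki groups: for q = 2^(2m+1) with m ≥ 2 the Schur multiplier of Sz(q) is trivial (here the Schur multiplier is described through stem extensions, as in the definitions); q = 8 is exceptional. -/
theorem result {F : Type*} [Field F] [Fintype F] {m : ℕ} (hm : 2 ≤ m) (hF : Fintype.card F = 2 ^ (2 * m + 1)) : Cfsg.HasCyclicSchurMultiplier ↥(Cfsg.Lie.Sz F (2 ^ (m + 1))) 1 := by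
  have hm1 : 1 ≤ m := by omega
  have hfinSz : Finite (Cfsg.Sz F m) := Cfsg.Agent.Lib.helper3.finite_Sz hF hm1
  have hfinG : Finite ↥(Cfsg.Lie.Sz F (2 ^ (m + 1))) :=
    Finite.of_equiv _ (Cfsg.Agent.Lib.helper3.szLieEquiv hF hm1).toEquiv
  refine ⟨⟨↥(Cfsg.Lie.Sz F (2 ^ (m + 1))), inferInstance, hfinG,
    MonoidHom.id _, ⟨Function.surjective_id, ?_, ?_⟩, ?_⟩, ?_⟩
  · intro x hx
    rw [MonoidHom.mem_ker, MonoidHom.id_apply] at hx
    rw [hx]
    exact Subgroup.one_mem _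
  · intro x hx
    rw [MonoidHom.mem_ker, MonoidHom.id_apply] at hx
    rw [hx]
    exact Subgroup.one_mem _
  · haveI : Unique ↥(MonoidHom.id ↥(Cfsg.Lie.Sz F (2 ^ (m + 1)))).ker :=
      ⟨⟨1⟩, fun x => Subtype.ext (by
        have := x.2
        rw [MonoidHom.mem_ker, MonoidHom.id_apply] at this
        exact this)⟩
    haveI : Unique (Multiplicative (ZMod 1)) :=
      ⟨⟨1⟩, fun x => Subsingleton.elim (α := ZMod 1) _ _⟩
    exact ⟨MulEquiv.ofUnique⟩
  · intro Γ _ _ σ hσ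
    obtain ⟨hsurj, hcen, hder⟩ := hσ
    obtain ⟨e, he⟩ : ∃ e : ↥(Cfsg.Lie.Sz F (2 ^ (m + 1))) ≃* Cfsg.Sz F m,
        e = (Cfsg.Agent.Lib.helper3.szLieEquiv hF hm1).symm := ⟨_, rfl⟩
    have hker : (e.toMonoidHom.comp σ).ker = σ.ker := by
      ext x
      rw [MonoidHom.mem_ker, MonoidHom.mem_ker, MonoidHom.comp_apply]
      exact MulEquiv.map_eq_one_iff e
    have htriv : ∀ x ∈ σ.ker, x = 1 := by
      intro x hx
      refine Cfsg.Agent.Lib.helper3.sz_stem_ker_trivial hF (e.toMonoidHom.comp σ)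
        (e.surjective.comp hsurj) ?_ hm ?_ x ?_
      · rw [hker]; exact hcen
      · rw [hker]; exact hder
      · rw [hker]; exact hx
    refine ⟨1, ?_⟩
    intro y
    refine ⟨1, ?_⟩
    apply Subtype.ext
    rw [MonoidHom.one_apply]
    exact (htriv y.1 y.2).symm

end Cfsg.Agent.S2111
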