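import Mathlib
import Cfsg.Statements.S2112
import Cfsg.Agent.Lib.helper3.Sz8Cover
import Cfsg.Agent.Lib.helper3.Sz8UpperMain
import Cfsg.Agent.Lib.helper3.SuzukiLieIso

set_option autoImplicit false
open Cfsg

namespace Cfsg.Agent.S2112

/-- Exceptional Schur multiplier: the Suzuki group Sz(8), built over the field with 8 elements using the map x ↦ x⁴, has Schur multiplier a four-group, the product of two cyclic groups of order 2 (here the Schur multiplier is described through stem extensions, as in the definitions). -/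
theorem result {F : Type*} [Field F] [Fintype F] (hF : Fintype.card F = 8) : Cfsg.HasSchurMultiplier ↥(Cfsg.Lie.Sz F 4) (Multiplicative (ZMod 2 × ZMod 2)) := by
  have hF' : Fintype.card F = 2 ^ (2 * 1 + 1) := by rw [hF]; norm_num
  obtain ⟨E, hE⟩ : ∃ E : Cfsg.Sz F 1 ≃* ↥(Cfsg.Lie.Sz F 4),
      E = Cfsg.Agent.Lib.helper3.szLieEquiv hF' (le_refl 1) := ⟨_, rfl⟩
  refine ⟨?_, ?_⟩
  · obtain ⟨Γ, hG, hfin, σ, ⟨hsurj, hcen, hder⟩, ⟨eK⟩⟩ :=
      Cfsg.Agent.Lib.helper3.Sz8.exists_stem_v4 hF'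
    have hker : (E.toMonoidHom.comp σ).ker = σ.ker := by
      ext x
      rw [MonoidHom.mem_ker, MonoidHom.mem_ker, MonoidHom.comp_apply]
      exact MulEquiv.map_eq_one_iff E
    refine ⟨Γ, hG, hfin, E.toMonoidHom.comp σ, ⟨E.surjective.comp hsurj, ?_, ?_⟩, ?_⟩
    · rw [hker]; exact hcen
    · rw [hker]; exact hder
    · exact ⟨(MulEquiv.subgroupCongr hker).trans eK⟩
  · intro Γ _ _ σ hσ
    obtain ⟨hsurj, hcen, hder⟩ := hσ
    have hker : (E.symm.toMonoidHom.comp σ).ker = σ.ker := by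
      ext x
      rw [MonoidHom.mem_ker, MonoidHom.mem_ker, MonoidHom.comp_apply]
      exact MulEquiv.map_eq_one_iff E.symm
    obtain ⟨π, hπ⟩ := Cfsg.Agent.Lib.helper3.sz8_ker_quotient_v4 hF' (E.symm.toMonoidHom.comp σ)
      (E.symm.surjective.comp hsurj) (by rw [hker]; exact hcen) (by rw [hker]; exact hder)
    refine ⟨(MulEquiv.subgroupCongr hker).toMonoidHom.comp π, ?_⟩
    exact (MulEquiv.subgroupCongr hker).surjective.comp hπ

end Cfsg.Agent.S2112
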