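import Mathlib
import Cfsg.Statements.S2113
import Cfsg.Agent.Lib.helper8.RSM.Bridge
import Cfsg.Agent.Lib.helper8.RSM.Main
import Cfsg.Agent.Lib.helper7.REE.Ax
import Cfsg.Agent.Lib.helper4.REEG5A
import Cfsg.Agent.Lib.Helper1.REEG8
import Cfsg.Agent.Lib.Helper21.SchurCyclic

set_option autoImplicit false
open Cfsg

namespace Cfsg.Agent.S2113

/-- Schur multipliers of the small Ree groups: for q = 3^(2m+1) with m ≥ 1 the Schur multiplier of ²G₂(q) is trivial (here the Schur multiplier is described through stem extensions, as in the definitions). -/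
theorem result {K : Type*} [Field K] [Fintype K] {m : ℕ} (hm : 1 ≤ m) (hK : Fintype.card K = 3 ^ (2 * m + 1)) : Cfsg.HasCyclicSchurMultiplier ↥(Cfsg.Lie.twistedG2 K (3 ^ m)) 1 := by
  obtain ⟨R⟩ := Cfsg.Agent.Lib.helper7.REE.ree_ax hm hK
  obtain ⟨RU⟩ := Cfsg.Agent.Lib.helper8.RSM.rsm_ree_u hm hK
  obtain ⟨S⟩ : Nonempty (Sylow 2 ↥(Cfsg.Lie.twistedG2 K (3 ^ m))) := inferInstance
  obtain ⟨hexp, hC, hN⟩ := R.syl2 S
  have h8 := R.syl2_card.1 S
  refine ⟨Cfsg.Agent.Lib.Helper21.exists_trivial_stem _, ?_⟩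
  intro Γ _ _ σ hσ
  have htriv := Cfsg.Agent.Lib.helper8.RSM.rsm_main RU S h8 hexp hC hN
    (fun p _ hp P => R.sylow_cyclic hp P) σ hσ
  refine ⟨1, ?_⟩
  intro y
  refine ⟨1, ?_⟩
  apply Subtype.ext
  rw [MonoidHom.one_apply]
  exact (htriv y.1 y.2).symm

end Cfsg.Agent.S2113
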