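import Cfsg.Statements.S2115
import Cfsg.Agent.Lib.helper17.TitsM.Final
import Cfsg.Agent.Lib.Helper21.SchurCyclic

set_option autoImplicit false
open Cfsg

namespace Cfsg.Agent.S2115

/-- The Tits group, the commutator subgroup of ²F₄(2), has trivial Schur multiplier (here the Schur multiplier is described through stem extensions, as in the definitions). -/
theorem result : Cfsg.HasCyclicSchurMultiplier Cfsg.Lie.TitsGroup 1 := by
  haveI : Finite Cfsg.Lie.TitsGroup := by
    apply Nat.finite_of_card_ne_zero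
    rw [Cfsg.Agent.Lib.helper8.h8tw_tits_main.2.2]
    norm_num
  refine ⟨Cfsg.Agent.Lib.Helper21.exists_trivial_stem Cfsg.Lie.TitsGroup, ?_⟩
  intro Γ _ _ σ hσ
  refine ⟨1, ?_⟩
  intro y
  refine ⟨1, ?_⟩
  apply Subtype.ext
  rw [MonoidHom.one_apply]
  exact (Cfsg.Agent.Lib.Helper17.TitsM.h17tm_stem_trivial σ hσ y.1 y.2).symm

end Cfsg.Agent.S2115
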