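import Cfsg.Statements.S2133
import Cfsg.Agent.Lib.Helper28.M24B

set_option autoImplicit false
open Cfsg

namespace Cfsg.Agent.S2133

open Cfsg.Agent.Lib.Helper28.Tv Cfsg.Agent.Lib.Helper28.M24X

/-- The Mathieu group M₂₄ (the automorphism group of the length-24 binary code) has an involution whose centraliser is isomorphic to the centraliser of a transvection in SL(5, 2) (a group of shape 2^{1+6}:GL(3, 2)). -/
theorem result (s : Matrix.SpecialLinearGroup (Fin 5) (ZMod 2)) (hs : (s : Matrix (Fin 5) (Fin 5) (ZMod 2)) = Matrix.transvection 0 1 1) : ∃ z : ↥Cfsg.M24, orderOf z = 2 ∧ Nonempty (↥(Subgroup.centralizer ({z} : Set ↥Cfsg.M24)) ≃* ↥(Subgroup.centralizer ({s} : Set (Matrix.SpecialLinearGroup (Fin 5) (ZMod 2))))) := by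
  have hs' : s = z0 3 := Subtype.ext (hs.trans (z0_coe (n := 3)).symm)
  subst hs'
  obtain ⟨g, hg, hg2, hg8⟩ := (Cfsg.Agent.S5394.result).2.1
  have hz : orderOf (⟨g, hg⟩ : ↥M24) = 2 := by
    rw [← Subgroup.orderOf_coe]; exact hg2
  obtain ⟨κ, -⟩ := exists_kappa ⟨g, hg⟩ hz hg8
  exact ⟨⟨g, hg⟩, hz, ⟨κ⟩⟩

end Cfsg.Agent.S2133
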