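import Cfsg.Statements.S2140
import Cfsg.Agent.Lib.helper2.MIAsm

set_option autoImplicit false
open Cfsg
open scoped LinearAlgebra.Projectivization

namespace Cfsg.Agent.S2140

/-- Minimal index of a proper subgroup of the linear groups: for n ≥ 3 and a field F with q elements, (n, q) ≠ (4, 2), every proper subgroup of PSL_n(F) has index at least (q^n − 1)/(q − 1), and some subgroup has exactly that index (the stabiliser of a point of the projective space). -/
theorem result {F : Type*} [Field F] [Fintype F] {q : ℕ} (hF : Fintype.card F = q) (n : ℕ) (hn : 3 ≤ n) (hexc : ¬ (n = 4 ∧ q = 2)) : (∀ H : Subgroup (Matrix.ProjectiveSpecialLinearGroup (Fin n) F), H ≠ ⊤ → (q ^ n - 1) / (q - 1) ≤ H.index) ∧ (∃ H : Subgroup (Matrix.ProjectiveSpecialLinearGroup (Fin n) F), H.index = (q ^ n - 1) / (q - 1)) := by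
  subst hF
  constructor
  · intro H hH
    set f : Matrix.SpecialLinearGroup (Fin n) F →* Matrix.ProjectiveSpecialLinearGroup (Fin n) F :=
      QuotientGroup.mk' _ with hf
    have hsurj : Function.Surjective f := QuotientGroup.mk'_surjective _
    have hidx : (H.comap f).index = H.index := Subgroup.index_comap_of_surjective H hsurj
    have hne : H.comap f ≠ ⊤ := by
      intro htop
      apply hH
      rw [← Subgroup.index_eq_one, ← hidx, htop, Subgroup.index_top]
    have := Cfsg.Agent.Lib.helper2.MI.sl_index_ge hn hexc (H.comap f) hne
    rw [hidx] at this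
    exact this
  · have hcard : Nat.card (ℙ F (Fin n → F)) = (Fintype.card F ^ n - 1) / (Fintype.card F - 1) := by
      rw [Projectivization.card'', Nat.card_eq_fintype_card, Nat.card_eq_fintype_card]
      simp
    have hne : (Pi.single (⟨0, by omega⟩ : Fin n) (1 : F) : Fin n → F) ≠ 0 := by
      intro h
      have := congrFun h ⟨0, by omega⟩
      simp at this
    refine ⟨MulAction.stabilizer (Matrix.ProjectiveSpecialLinearGroup (Fin n) F)
      (Projectivization.mk F _ hne), ?_⟩
    rw [MulAction.index_stabilizer_of_transitive, hcard]

end Cfsg.Agent.S2140
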