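import Cfsg.Statements.S2155
import Cfsg.Agent.S1048
import Cfsg.Agent.Lib.helper14.ChevCentUJ
import Cfsg.Agent.Lib.helper14.ChevFiltAll
import Cfsg.Agent.Lib.Helper9.FStarP
import Cfsg.Agent.Lib.helper8.ChevPair
import Cfsg.Agent.Lib.helper8.ChevBNAll2
import Cfsg.Agent.Lib.helper8.ChevTabSC

set_option autoImplicit false
open Cfsg

namespace Cfsg.Agent.S2155

/-- a group mapping injectively into a `p`-subgroup is a `p`-group -/
theorem isPGroup_of_inj {G K : Type*} [Group G] [Group K] (p : ℕ) (U : Subgroup G)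
    (hU : IsPGroup p U) (f : K →* G) (hf : Function.Injective f) (h : ∀ k, f k ∈ U) :
    IsPGroup p K := by
  intro k
  obtain ⟨n, hn⟩ := hU ⟨f k, h k⟩
  refine ⟨n, hf ?_⟩
  rw [map_pow, map_one]
  have := congrArg Subtype.val hn
  simpa using this

open Cfsg.Agent.Lib.helper8 Cfsg.Agent.Lib.helper14 in
/-- In a Chevalley group of type G₂, B₂, D₄, F₄, E₆, E₇ or E₈ over a finite field of characteristic p (for types G₂ and B₂ the field is assumed to have at least 3 elements, so that the group is simple), the generalized Fitting subgroup of every proper standard parabolic subgroup P_J is a p-group (P_J is p-constrained with trivial largest normal subgroup of order prime to p). -/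
theorem result {F : Type*} [Field F] [Fintype F] (p : ℕ) [Fact p.Prime] [CharP F p] (D : Cfsg.Lie.ChevalleyDatum) (hD : D ∈ [Cfsg.Lie.chevG2, Cfsg.Lie.chevB2, Cfsg.Lie.chevD4, Cfsg.Lie.chevF4, Cfsg.Lie.chevE6, Cfsg.Lie.chevE7, Cfsg.Lie.chevE8]) (hq : (D = Cfsg.Lie.chevG2 ∨ D = Cfsg.Lie.chevB2) → 3 ≤ Fintype.card F) (J : Set ℕ) (hJ : ∃ i, i < D.rank ∧ i ∉ J) : IsPGroup p ↥(Cfsg.generalizedFittingSubgroup ↥(D.parabolicSubgroup F J)) := by
  classical
  obtain ⟨j, hj, hjJ⟩ := hJ
  have hB := h8base_all D hD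
  have hA := h8reflAll D hD
  have hC := h8commAll D hD
  have hBN := h8bn_all D hD
  have hW := h8bn2_all D hD
  obtain ⟨hO, hO2⟩ := h8ord_all D hD
  have hM := cfMax_all D hD
  have hRC := cfRootChk_all D hD
  have hsc := h8scChk_all D hD
  have hLat := cfLat_all D hD
  have hUp : IsPGroup p (D.posUnipotent F) := h8U_isPGroup p D hD
  have h48 := (Cfsg.Agent.S1048.result (F := F) D hD {i | i ≠ j}).1
  have hBP' : D.borelSubgroup F ≤ D.parabolicSubgroup F {i | i ≠ j} := by
    unfold Cfsg.Lie.ChevalleyDatum.parabolicSubgroup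
    exact le_sup_left
  have hBUJ := le_trans hBP' h48
  have hcent := cf_cent_le_U (F := F) D hB hA hC hBN hW hO hO2 hM hRC hsc hLat j hj hBUJ
  -- `P_J ≤ P_{J'}` and `P_J ≤ G`
  have hPP' : D.parabolicSubgroup F J ≤ D.parabolicSubgroup F {i | i ≠ j} := by
    unfold Cfsg.Lie.ChevalleyDatum.parabolicSubgroup
    apply sup_le_sup_left
    apply Subgroup.closure_mono
    rintro g ⟨i, hiJ, hi, hg⟩
    refine ⟨i, ?_, hi, hg⟩
    rintro rfl
    exact hjJ hiJ
  have hPG : D.parabolicSubgroup F J ≤ D.group F := by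
    unfold Cfsg.Lie.ChevalleyDatum.parabolicSubgroup
    apply sup_le (h8_B_le_group D hB)
    rw [Subgroup.closure_le]
    rintro g ⟨i, _, hi, hg⟩
    have hg' : g = h8nU D hB (D.simple i) (1 : F) := Units.ext (by rw [hg, h8nU_val])
    rw [hg']
    exact h8_N_le_group D hB (h8nU_mem_N D hB _ (h8simple_pos D hBN i hi).1)
  have hUJU : D.unipotentRadical F {i | i ≠ j} ≤ D.posUnipotent F := by
    unfold Cfsg.Lie.ChevalleyDatum.unipotentRadical Cfsg.Lie.ChevalleyDatum.posUnipotent
    apply Subgroup.closure_mono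
    rintro g ⟨r, t, hr, _, hg⟩
    exact ⟨r, t, hr, hg⟩
  have hUJP : D.unipotentRadical F {i | i ≠ j} ≤ D.parabolicSubgroup F J := by
    refine le_trans hUJU (le_trans (h8U_le_B D) ?_)
    unfold Cfsg.Lie.ChevalleyDatum.parabolicSubgroup
    exact le_sup_left
  -- the normal `p`-subgroup `Q = U_{J'}` of `P_J`
  have hQn : ((D.unipotentRadical F {i | i ≠ j}).subgroupOf (D.parabolicSubgroup F J)).Normal :=
    (Subgroup.normal_subgroupOf_iff_le_normalizer hUJP).mpr (le_trans hPP' h48)
  have hQp : IsPGroup p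
      ((D.unipotentRadical F {i | i ≠ j}).subgroupOf (D.parabolicSubgroup F J)) := by
    apply isPGroup_of_inj p (D.posUnipotent F) hUp
      ((D.parabolicSubgroup F J).subtype.comp
        ((D.unipotentRadical F {i | i ≠ j}).subgroupOf (D.parabolicSubgroup F J)).subtype)
    · exact (Subgroup.subtype_injective _).comp (Subgroup.subtype_injective _)
    · rintro ⟨x, hx⟩
      exact hUJU (Subgroup.mem_subgroupOf.mp hx)
  have hQle := Cfsg.Agent.Lib.Helper1.le_pCore hQn hQp
  have key : Cfsg.generalizedFittingSubgroup ↥(D.parabolicSubgroup F J) =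
      Cfsg.pCore p ↥(D.parabolicSubgroup F J) := by
    apply Cfsg.Agent.Lib.Helper9.gfs_eq_pCore_of_forall p
    intro Y hYc hYcomm
    apply Cfsg.Agent.Lib.Helper9.eq_bot_of_isPGroup_of_coprime Y _ hYc
    apply isPGroup_of_inj p (D.posUnipotent F) hUp
      ((D.parabolicSubgroup F J).subtype.comp Y.subtype)
    · exact (Subgroup.subtype_injective _).comp (Subgroup.subtype_injective _)
    · rintro ⟨y, hy⟩
      apply hcent
      rw [Subgroup.mem_inf]
      refine ⟨?_, hPG y.2⟩
      rw [Subgroup.mem_centralizer_iff]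
      intro x hx
      have hxQ : (⟨x, hUJP hx⟩ : ↥(D.parabolicSubgroup F J)) ∈
          (D.unipotentRadical F {i | i ≠ j}).subgroupOf (D.parabolicSubgroup F J) :=
        Subgroup.mem_subgroupOf.mpr hx
      have := hYcomm y hy _ (hQle hxQ)
      have h2 := congrArg Subtype.val this
      simpa using h2.symm
  rw [key]
  exact Cfsg.Agent.Lib.Helper1.pCore_isPGroup p

end Cfsg.Agent.S2155
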