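import Cfsg.Statements.S2160
import Cfsg.Agent.Lib.helper8.ChevGen
import Cfsg.Agent.Lib.helper8.ChevPar2
import Cfsg.Agent.Lib.helper8.ChevBaseAll
import Cfsg.Agent.Lib.helper8.ChevReflAll
import Cfsg.Agent.Lib.helper8.ChevBNAll

set_option autoImplicit false
open Cfsg

namespace Cfsg.Agent.S2160

open Cfsg.Agent.Lib.helper8 in
/-- In a Chevalley group of type G₂, B₂, D₄, F₄, E₆, E₇ or E₈ over a finite field, every field automorphism commutes with every graph automorphism. -/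
theorem result {F : Type*} [Field F] [Finite F] (D : Cfsg.Lie.ChevalleyDatum) (hD : D ∈ [Cfsg.Lie.chevG2, Cfsg.Lie.chevB2, Cfsg.Lie.chevD4, Cfsg.Lie.chevF4, Cfsg.Lie.chevE6, Cfsg.Lie.chevE7, Cfsg.Lie.chevE8]) (f g : ↥(D.group F) ≃* ↥(D.group F))
    (hf : D.IsFieldAut f) (hg : D.IsGraphAut g) (y : ↥(D.group F)) : f (g y) = g (f y) := by
  have hB := h8base_all D hD
  have hA := h8reflAll D hD
  have hBN := h8bn_all D hD
  have hS := h8simChk_all D hD
  obtain ⟨σ, hσ⟩ := hf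
  obtain ⟨π, -, hπ⟩ := hg
  let E : Subgroup ↥(D.group F) :=
    MonoidHom.eqLocus (f.toMonoidHom.comp g.toMonoidHom) (g.toMonoidHom.comp f.toMonoidHom)
  have hmem : ∀ z : ↥(D.group F), z ∈ E ↔ f (g z) = g (f z) := fun z => Iff.rfl
  have hlt : ∀ j < D.rank, D.simple j < D.nroots ∧ D.neg (D.simple j) < D.nroots := by
    intro j hj
    obtain ⟨h1, h2⟩ := h8simChk_spec D hS Set.univ j hj (Set.mem_univ _)
    exact ⟨h1.1, h2.1⟩
  have hle : D.group F ≤ E.map (D.group F).subtype := by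
    apply h8group_le_of_simple D hB hA hBN
    · intro j hj t
      have hxm : h8xU D hB (D.simple j) t ∈ D.group F := by
        have := h8wordU_mem_group D hB [(D.simple j, t)]
        unfold h8wordU at this
        simpa using this
      refine ⟨⟨_, hxm⟩, ?_, rfl⟩
      rw [SetLike.mem_coe, hmem]
      apply Subtype.ext
      apply Units.ext
      have h1 := (hπ ⟨_, hxm⟩ ⟨j, hj⟩ t).1 rfl
      have h2 := hσ (g ⟨_, hxm⟩) (D.simple (π ⟨j, hj⟩)) _ (hlt _ (π ⟨j, hj⟩).2).1 h1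
      have h3 := hσ ⟨_, hxm⟩ (D.simple j) t (hlt j hj).1 rfl
      have h4 := (hπ (f ⟨_, hxm⟩) ⟨j, hj⟩ (σ t)).1 h3
      rw [h2, h4, map_pow]
    · intro j hj t
      have hxm : h8xU D hB (D.negIdx.getD (D.simple j) 0) t ∈ D.group F := by
        have := h8wordU_mem_group D hB [(D.negIdx.getD (D.simple j) 0, t)]
        unfold h8wordU at this
        simpa using this
      refine ⟨⟨_, hxm⟩, ?_, rfl⟩
      rw [SetLike.mem_coe, hmem]
      apply Subtype.ext
      apply Units.ext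
      have h1 := (hπ ⟨_, hxm⟩ ⟨j, hj⟩ t).2 rfl
      have h2 := hσ (g ⟨_, hxm⟩) (D.neg (D.simple (π ⟨j, hj⟩))) _ (hlt _ (π ⟨j, hj⟩).2).2 h1
      have h3 := hσ ⟨_, hxm⟩ (D.neg (D.simple j)) t (hlt j hj).2 rfl
      have h4 := (hπ (f ⟨_, hxm⟩) ⟨j, hj⟩ (σ t)).2 h3
      rw [h2, h4, map_pow]
  obtain ⟨z, hz, hzy⟩ := hle y.2
  have : z = y := Subtype.ext hzy
  rw [← this]
  exact (hmem z).mp hz

end Cfsg.Agent.S2160
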