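import Cfsg.Statements.S2163

set_option autoImplicit false
open Cfsg

namespace Cfsg.Agent.S2163

variable {F : Type*} [Field F]

def Emat (n ℓ : ℕ) : Matrix (Fin n) (Fin n) F :=
  Matrix.of (fun i j : Fin n => if j.val < ℓ ∧ i.val = j.val + (n - ℓ) then (1 : F) else 0)

def Amat (n ℓ : ℕ) : Matrix (Fin n) (Fin ℓ) F :=
  Matrix.of (fun (i : Fin n) (j : Fin ℓ) => if i.val = j.val + (n - ℓ) then (1 : F) else 0)

def Bmat (n ℓ : ℕ) : Matrix (Fin ℓ) (Fin n) F :=
  Matrix.of (fun (j : Fin ℓ) (k : Fin n) => if k.val = j.val then (1 : F) else 0)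

theorem Emat_eq (n ℓ : ℕ) (h2 : 2 * ℓ ≤ n) : (Emat n ℓ : Matrix (Fin n) (Fin n) F) = (Amat n ℓ : Matrix (Fin n) (Fin ℓ) F) * (Bmat n ℓ : Matrix (Fin ℓ) (Fin n) F) := by
  ext i k
  simp only [Emat, Amat, Bmat, Matrix.mul_apply, Matrix.of_apply]
  by_cases hk : k.val < ℓ
  · rw [Finset.sum_eq_single (⟨k.val, hk⟩ : Fin ℓ)]
    · simp [hk]
    · intro b _ hb
      have : ¬ (k.val = b.val) := by
        intro h; apply hb; ext; exact h.symm
      simp [this]
    · intro h; exact absurd (Finset.mem_univ _) h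
  · rw [Finset.sum_eq_zero]
    · simp [hk]
    · intro b _
      have : ¬ (k.val = b.val) := by
        intro h; apply hk; rw [h]; exact b.2
      simp [this]

theorem AtA (n ℓ : ℕ) (h2 : 2 * ℓ ≤ n) : Matrix.transpose (Amat n ℓ : Matrix (Fin n) (Fin ℓ) F) * (Amat n ℓ : Matrix (Fin n) (Fin ℓ) F) = 1 := by
  ext j j'
  simp only [Amat, Matrix.mul_apply, Matrix.transpose_apply, Matrix.of_apply, Matrix.one_apply]
  have hlt : j.val + (n - ℓ) < n := by have := j.2; omega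
  rw [Finset.sum_eq_single (⟨j.val + (n - ℓ), hlt⟩ : Fin n)]
  · by_cases hjj : j = j'
    · subst hjj; simp
    · have : ¬ (j.val = j'.val) := by
        intro h; apply hjj; ext; exact h
      simp [this, hjj]
  · intro b _ hb
    have : ¬ (b.val = j.val + (n - ℓ)) := by
      intro h; apply hb; ext; exact h
    simp [this]
  · intro h; exact absurd (Finset.mem_univ _) h

theorem BBt (n ℓ : ℕ) (h2 : 2 * ℓ ≤ n) : (Bmat n ℓ : Matrix (Fin ℓ) (Fin n) F) * Matrix.transpose (Bmat n ℓ : Matrix (Fin ℓ) (Fin n) F) = 1 := by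
  ext j j'
  simp only [Bmat, Matrix.mul_apply, Matrix.transpose_apply, Matrix.of_apply, Matrix.one_apply]
  have hlt : j.val < n := by have := j.2; omega
  rw [Finset.sum_eq_single (⟨j.val, hlt⟩ : Fin n)]
  · by_cases hjj : j = j'
    · subst hjj; simp
    · have : ¬ (j.val = j'.val) := by
        intro h; apply hjj; ext; exact h
      simp [this, hjj]
  · intro b _ hb
    have : ¬ (b.val = j.val) := by
      intro h; apply hb; ext; exact h
    simp [this]
  · intro h; exact absurd (Finset.mem_univ _) h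

theorem rank_Emat (n ℓ : ℕ) (h2 : 2 * ℓ ≤ n) : (Emat n ℓ : Matrix (Fin n) (Fin n) F).rank = ℓ := by
  apply le_antisymm
  · rw [Emat_eq n ℓ h2]
    calc ((Amat n ℓ : Matrix (Fin n) (Fin ℓ) F) * (Bmat n ℓ : Matrix (Fin ℓ) (Fin n) F)).rank ≤ (Amat n ℓ : Matrix (Fin n) (Fin ℓ) F).rank :=
          Matrix.rank_mul_le_left _ _
      _ ≤ ℓ := Matrix.rank_le_width _
  · have h1 : (1 : Matrix (Fin ℓ) (Fin ℓ) F) = Matrix.transpose (Amat n ℓ : Matrix (Fin n) (Fin ℓ) F) * (Emat n ℓ : Matrix (Fin n) (Fin n) F) * Matrix.transpose (Bmat n ℓ : Matrix (Fin ℓ) (Fin n) F) := by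
      rw [Emat_eq n ℓ h2, ← Matrix.mul_assoc, AtA n ℓ h2, Matrix.one_mul, BBt n ℓ h2]
    have h3 : (1 : Matrix (Fin ℓ) (Fin ℓ) F).rank = ℓ := by
      rw [Matrix.rank_one, Fintype.card_fin]
    calc ℓ = (1 : Matrix (Fin ℓ) (Fin ℓ) F).rank := h3.symm
      _ = (Matrix.transpose (Amat n ℓ : Matrix (Fin n) (Fin ℓ) F) * (Emat n ℓ : Matrix (Fin n) (Fin n) F) * Matrix.transpose (Bmat n ℓ : Matrix (Fin ℓ) (Fin n) F)).rank := by rw [← h1]
      _ ≤ (Matrix.transpose (Amat n ℓ : Matrix (Fin n) (Fin ℓ) F) * (Emat n ℓ : Matrix (Fin n) (Fin n) F)).rank := Matrix.rank_mul_le_left _ _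
      _ ≤ (Emat n ℓ : Matrix (Fin n) (Fin n) F).rank := Matrix.rank_mul_le_right _ _

theorem Emat_sq (n ℓ : ℕ) (h2 : 2 * ℓ ≤ n) : (Emat n ℓ : Matrix (Fin n) (Fin n) F) * Emat n ℓ = 0 := by
  ext i k
  simp only [Emat, Matrix.mul_apply, Matrix.of_apply, Matrix.zero_apply]
  apply Finset.sum_eq_zero
  intro j _
  by_cases hj : j.val < ℓ
  · have : ¬ (k.val < ℓ ∧ j.val = k.val + (n - ℓ)) := by
      rintro ⟨_, h⟩; omega
    simp [this]
  · have : ¬ (j.val < ℓ ∧ i.val = j.val + (n - ℓ)) := by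
      rintro ⟨h, _⟩; exact hj h
    simp [this]

theorem Emat_lower (n ℓ : ℕ) (h1 : 1 ≤ ℓ) (h2 : 2 * ℓ ≤ n) :
    (1 + Emat n ℓ : Matrix (Fin n) (Fin n) F).IsLowerTriangular := by
  intro i j hij
  have hij' : i < j := hij
  have hne : i ≠ j := ne_of_lt hij'
  have : ¬ (j.val < ℓ ∧ i.val = j.val + (n - ℓ)) := by
    rintro ⟨_, h⟩
    have : i.val < j.val := hij'
    omega
  simp [Emat, Matrix.add_apply, Matrix.one_apply, hne, this]

theorem det_one_add_Emat (n ℓ : ℕ) (h1 : 1 ≤ ℓ) (h2 : 2 * ℓ ≤ n) :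
    (1 + Emat n ℓ : Matrix (Fin n) (Fin n) F).det = 1 := by
  rw [Matrix.det_of_isLowerTriangular _ (Emat_lower n ℓ h1 h2)]
  apply Finset.prod_eq_one
  intro i _
  have : ¬ (i.val < ℓ ∧ i.val = i.val + (n - ℓ)) := by
    rintro ⟨h, h'⟩; omega
  simp only [Emat, Matrix.add_apply, Matrix.one_apply_eq, Matrix.of_apply, if_neg this, add_zero]

theorem result {F : Type*} [Field F] [Fintype F] [CharP F 2] {n : ℕ} (hn : 3 ≤ n) (ℓ : ℕ) (h1 : 1 ≤ ℓ) (h2 : 2 * ℓ ≤ n) :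
    ∃ a : Matrix.SpecialLinearGroup (Fin n) F, (a : Matrix (Fin n) (Fin n) F) = 1 + Matrix.of (fun i j : Fin n => if j.val < ℓ ∧ i.val = j.val + (n - ℓ) then (1 : F) else 0) ∧ orderOf a = 2 ∧ ((a : Matrix (Fin n) (Fin n) F) - 1).rank = ℓ := by
  let a : Matrix.SpecialLinearGroup (Fin n) F := ⟨1 + Emat n ℓ, det_one_add_Emat n ℓ h1 h2⟩
  have ha : (a : Matrix (Fin n) (Fin n) F) = 1 + Emat n ℓ := rfl
  refine ⟨a, rfl, ?_, ?_⟩
  · have : Fact (Nat.Prime 2) := ⟨Nat.prime_two⟩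
    apply orderOf_eq_prime
    · apply Subtype.ext
      rw [Matrix.SpecialLinearGroup.coe_pow, ha, pow_two]
      rw [mul_add, add_mul, add_mul, Emat_sq n ℓ h2]
      simp only [mul_one, one_mul, add_zero]
      have h22 : (2 : Matrix (Fin n) (Fin n) F) = 0 := by
        have hn0 : Nonempty (Fin n) := ⟨⟨0, by omega⟩⟩
        have : CharP (Matrix (Fin n) (Fin n) F) 2 := inferInstance
        exact_mod_cast CharP.cast_eq_zero (Matrix (Fin n) (Fin n) F) 2
      rw [add_assoc, ← two_mul, h22, zero_mul, add_zero]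
      rfl
    · intro h
      have h' : (1 + Emat n ℓ : Matrix (Fin n) (Fin n) F) = 1 := congrArg Subtype.val h
      have hE : (Emat n ℓ : Matrix (Fin n) (Fin n) F) = 0 := by
        have := h'
        rwa [add_eq_left] at this
      have hr := rank_Emat (F := F) n ℓ h2
      rw [hE, Matrix.rank_zero] at hr
      omega
  · rw [ha, add_sub_cancel_left]
    exact rank_Emat n ℓ h2

end Cfsg.Agent.S2163
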