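import Cfsg.Statements.S2164
import Cfsg.Agent.Lib.helper14.UnitInv2

set_option autoImplicit false
open Cfsg

namespace Cfsg.Agent.S2164

open Cfsg.Agent.Lib.Lead Cfsg.Agent.Lib.Lead.HI Cfsg.Agent.Lib.helper6.HF
  Cfsg.Agent.Lib.helper14.UnitInv Matrix

section Aux

variable {F : Type*} [Field F] {n q : ℕ}

local notation "H" => Cfsg.hermForm n F q
local notation "MM" => Matrix (Fin n) (Fin n) F
local notation "SLn" => Matrix.SpecialLinearGroup (Fin n) F

theorem herm_sub_right (σ : F →+* F) (hσ : ∀ x, σ x = x ^ q) (u v w : Fin n → F) :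
    H u (v - w) = H u v - H u w := by
  simp only [Cfsg.hermForm, Pi.sub_apply, ← hσ, map_sub, mul_sub, Finset.sum_sub_distrib]

theorem herm_sub_left (u v w : Fin n → F) : H (u - v) w = H u w - H v w := by
  simp only [Cfsg.hermForm, Pi.sub_apply, sub_mul, Finset.sum_sub_distrib]

theorem su_pres (a : ↥(Cfsg.SU n F q)) (u v : Fin n → F) :
    H (((a : SLn) : MM) *ᵥ u) (((a : SLn) : MM) *ᵥ v) = H u v := a.2 u v

theorem mat_eq_of_mulVec (M M' : MM) (h : ∀ v, M *ᵥ v = M' *ᵥ v) : M = M' := by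
  apply Matrix.toLin'.injective
  apply LinearMap.ext
  intro v
  rw [Matrix.toLin'_apply, Matrix.toLin'_apply]
  exact h v

variable [CharP F 2]

theorem sq_zero' (A : MM) (hA2 : A * A = 1) : (A - 1) * (A - 1) = 0 := by
  have h2 : ∀ X : MM, X + X = 0 := fun X => by
    rw [← two_smul F X, CharTwo.two_eq_zero, zero_smul]
  rw [sub_mul, mul_sub, mul_sub, hA2, mul_one, one_mul, one_mul]
  calc (1 - A) - (A - 1) = (1 - A) + (1 - A) := by abel
    _ = 0 := h2 _

theorem isInvPartH (σ : F →+* F) (hσ : ∀ x, σ x = x ^ q) (A : MM)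
    (hA : ∀ u v, H (A *ᵥ u) (A *ᵥ v) = H u v) (hA2 : A * A = 1) :
    IsInvPartH (hB n σ) (Matrix.mulVecLin (A - 1)) := by
  constructor
  · intro v
    rw [Matrix.mulVecLin_apply, Matrix.mulVecLin_apply, Matrix.mulVec_mulVec, sq_zero' A hA2,
      Matrix.zero_mulVec]
  · intro u v
    rw [hB_apply σ hσ, hB_apply σ hσ, Matrix.mulVecLin_apply, Matrix.mulVecLin_apply,
      Matrix.sub_mulVec, Matrix.sub_mulVec, Matrix.one_mulVec, Matrix.one_mulVec,
      herm_sub_right σ hσ, herm_sub_left]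
    congr 1
    rw [← hA (A *ᵥ v) u, Matrix.mulVec_mulVec, hA2, Matrix.one_mulVec]

end Aux

section Main

variable {F : Type*} [Field F] [Fintype F] [CharP F 2] {n q : ℕ}

local notation "H" => Cfsg.hermForm n F q
local notation "MM" => Matrix (Fin n) (Fin n) F
local notation "SLn" => Matrix.SpecialLinearGroup (Fin n) F

theorem coe_sq (a : ↥(Cfsg.SU n F q)) (ha : orderOf a = 2) :
    ((a : SLn) : MM) * ((a : SLn) : MM) = 1 := by
  have h1 : a ^ 2 = 1 := by rw [← ha]; exact pow_orderOf_eq_one a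
  rw [pow_two] at h1
  have h2 : (a : SLn) * (a : SLn) = 1 := congrArg Subtype.val h1
  have h3 := congrArg (fun x : SLn => (x : MM)) h2
  simpa using h3

theorem coe_ne_one (a : ↥(Cfsg.SU n F q)) (ha : orderOf a = 2) : ((a : SLn) : MM) ≠ 1 := by
  intro h
  have : a = 1 := by
    apply Subtype.ext
    apply Subtype.ext
    exact h
  rw [this, orderOf_one] at ha
  omega

theorem even_q (hF : Fintype.card F = q ^ 2) : Even q := by
  have h := FiniteField.even_card_of_char_two (F := F) (ringChar.eq F 2)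
  rw [hF] at h
  have : 2 ∣ q ^ 2 := Nat.dvd_of_mod_eq_zero h
  exact even_iff_two_dvd.mpr (Nat.Prime.dvd_of_dvd_pow Nat.prime_two this)

/-- conjugacy in `SU` from equality of ranks -/
theorem conj_of_rank (hF : Fintype.card F = q ^ 2) (a b : ↥(Cfsg.SU n F q))
    (ha : orderOf a = 2) (hb : orderOf b = 2)
    (hrank : (((a : SLn) : MM) - 1).rank = (((b : SLn) : MM) - 1).rank) : IsConj a b := by
  obtain ⟨σ, hσ⟩ := exists_frob hF
  have hσσ := frob_frob hF σ hσ
  have hσne := frob_ne_id hF σ hσ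
  have htr : ∀ s, σ s = s → ∃ t, t + σ t = s := by
    intro s hs
    rw [hσ] at hs
    obtain ⟨c, hc⟩ := trace_surj hF s hs
    exact ⟨c, by rw [hσ]; exact hc⟩
  set A : MM := ((a : SLn) : MM) with hAdef
  set B' : MM := ((b : SLn) : MM) with hBdef
  have ha2 : A * A = 1 := coe_sq a ha
  have hb2 : B' * B' = 1 := coe_sq b hb
  have hApres : ∀ u v, H (A *ᵥ u) (A *ᵥ v) = H u v := su_pres a
  have hBpres : ∀ u v, H (B' *ᵥ u) (B' *ᵥ v) = H u v := su_pres b
  have hNa := isInvPartH σ hσ A hApres ha2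
  have hNb := isInvPartH σ hσ B' hBpres hb2
  have hS := hB_symm (n := n) σ hσ hσσ
  have hND := hB_nondeg (n := n) σ hσ hσσ
  obtain ⟨g, hgiso, hgN⟩ := exists_isometry_conj hσne hσσ hS hND htr hNa hNb hrank
  obtain ⟨D, hDU, hD⟩ := exists_gu_of_linearEquiv (q := q) g (fun x y => by
    have := hgiso y x
    rwa [hB_apply σ hσ, hB_apply σ hσ] at this)
  have hDpres : ∀ u v, H ((D : MM) *ᵥ u) ((D : MM) *ᵥ v) = H u v := hDU
  -- `D A = B' D`
  have hDA : (D : MM) * A = B' * (D : MM) := by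
    have h1 : (D : MM) * (A - 1) = (B' - 1) * (D : MM) := by
      apply mat_eq_of_mulVec
      intro v
      rw [← Matrix.mulVec_mulVec, ← Matrix.mulVec_mulVec, hD, hD]
      exact hgN v
    rw [mul_sub, sub_mul, mul_one, one_mul] at h1
    exact sub_left_injective h1
  -- the determinant of `D`
  set δ : F := (D : MM).det with hδ
  have hδ1 : δ * δ ^ q = 1 := by
    have h1 := (preserves_iff σ hσ (D : MM)).mp hDpres
    have h2 := congrArg Matrix.det h1
    rw [Matrix.det_mul, Matrix.det_transpose, Matrix.det_one] at h2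
    have h3 : ((D : MM).map σ).det = σ δ := by
      rw [hδ, RingHom.map_det]
      rfl
    rw [h3, hσ] at h2
    exact h2
  obtain ⟨k, hk⟩ := even_q hF
  set μ : F := δ ^ k with hμ
  have hμ2 : μ ^ 2 = δ ^ q := by rw [hμ, ← pow_mul, hk]; congr 1; ring
  have hμq : μ ^ (q + 1) = 1 := by
    rw [hμ, ← pow_mul, mul_comm, pow_mul, pow_succ, mul_comm, hδ1, one_pow]
  set c : F := μ - 1 with hc
  have hc1 : 1 + c = μ := by rw [hc]; ring
  have hcq : c + c ^ q + c ^ (q + 1) = 0 := by
    have h1 : (1 + c) ^ q = 1 + c ^ q := by rw [← hσ, map_add, map_one, hσ]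
    have h2 : (1 + c) ^ (q + 1) = 1 := by rw [hc1]; exact hμq
    rw [pow_succ, h1] at h2
    linear_combination h2
  -- a hyperbolic pair for `a`
  have hN0 : Matrix.mulVecLin (A - 1) ≠ 0 := by
    intro h
    apply coe_ne_one a ha
    have : A - 1 = 0 := by
      apply mat_eq_of_mulVec
      intro v
      have h3 : Matrix.mulVecLin (A - 1) v = 0 := by rw [h]; rfl
      rw [Matrix.mulVecLin_apply] at h3
      rw [h3, Matrix.zero_mulVec]
    exact sub_eq_zero.mp this
  obtain ⟨p, hp1, hp2⟩ := exists_hyp_vector hσne hσσ hS hND htr hNa hN0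
  rw [hB_apply σ hσ] at hp1 hp2
  set p' : Fin n → F := Matrix.mulVecLin (A - 1) p with hp'
  have hp'A : p' = A *ᵥ p - p := by
    rw [hp', Matrix.mulVecLin_apply, Matrix.sub_mulVec, Matrix.one_mulVec]
  have hAp : A *ᵥ p = p + p' := by rw [hp'A]; abel
  have hAp' : A *ᵥ p' = p' := by
    have := hNa.sq p
    rw [← hp', Matrix.mulVecLin_apply, Matrix.sub_mulVec, Matrix.one_mulVec] at this
    exact sub_eq_zero.mp this
  have hp'p : H p' p = 1 := hp2
  have hpp' : H p p' = 1 := by rw [herm_symm σ hσ hσσ, hp'p, map_one]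
  have hp'p' : H p' p' = 0 := by
    have := hNa.sa p p'
    rw [hB_apply σ hσ, hB_apply σ hσ, ← hp', Matrix.mulVecLin_apply, Matrix.sub_mulVec,
      Matrix.one_mulVec, hAp', sub_self] at this
    rw [this]
    simp [Cfsg.hermForm]
  set Z : MM := zMat q p p' c with hZ
  have hZv : ∀ x, Z *ᵥ x = x + c • (H x p' • p + H x p • p') := zMat_mulVec p p' c
  have hZpres : ∀ u v, H (Z *ᵥ u) (Z *ᵥ v) = H u v := by
    intro u v
    rw [hZv, hZv]
    exact qr_preserve σ hσ hσσ p p' c hp1 hp'p' hpp' hp'p hcq u v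
  have hZdet : Z.det = μ ^ 2 := by
    rw [hZ, zMat_det p p' c hp1 hp'p' hpp' hp'p, hc1]
  have hZA : Z * A = A * Z := by
    apply mat_eq_of_mulVec
    intro x
    rw [← Matrix.mulVec_mulVec, ← Matrix.mulVec_mulVec, hZv, hZv]
    have e1 : H (A *ᵥ x) p' = H x p' := by
      conv_lhs => rw [← hAp']
      exact hApres x p'
    have e2 : H (A *ᵥ x) p = H x p + H x p' := by
      have hpe : p = A *ᵥ (p - p') := by
        rw [Matrix.mulVec_sub, hAp, hAp']
        abel
      conv_lhs => rw [hpe]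
      rw [hApres, herm_sub_right σ hσ, sub_eq_add_neg, CharTwo.neg_eq]
    rw [e1, e2, Matrix.mulVec_add, Matrix.mulVec_smul, Matrix.mulVec_add, Matrix.mulVec_smul,
      Matrix.mulVec_smul, hAp, hAp']
    module
  -- the conjugating element
  set C : MM := (D : MM) * Z with hC
  have hCdet : C.det = 1 := by
    rw [hC, Matrix.det_mul, hZdet, hμ2]
    exact hδ1
  have hCpres : ∀ u v, H (C *ᵥ u) (C *ᵥ v) = H u v := by
    intro u v
    rw [hC, ← Matrix.mulVec_mulVec, ← Matrix.mulVec_mulVec, hDpres, hZpres]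
  have hCA : C * A = B' * C := by
    rw [hC, mul_assoc, hZA, ← mul_assoc, hDA, mul_assoc]
  rw [isConj_iff]
  refine ⟨⟨⟨C, hCdet⟩, hCpres⟩, ?_⟩
  rw [mul_inv_eq_iff_eq_mul]
  apply Subtype.ext
  apply Subtype.ext
  exact hCA

/-- conjugacy in `SL` gives equal ranks -/
theorem rank_of_conj (a b : SLn) (h : IsConj a b) :
    ((a : MM) - 1).rank = ((b : MM) - 1).rank := by
  obtain ⟨c, hc⟩ := isConj_iff.mp h
  have hcm : (c : MM) * (a : MM) = (b : MM) * (c : MM) := by
    have h' := mul_inv_eq_iff_eq_mul.mp hc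
    have := congrArg (fun x : SLn => (x : MM)) h'
    simpa using this
  have hdet : IsUnit (c : MM).det := by
    rw [c.2]
    exact isUnit_one
  have hcm1 : (c : MM) * ((a : MM) - 1) = ((b : MM) - 1) * (c : MM) := by
    rw [mul_sub, sub_mul, mul_one, one_mul, hcm]
  have h1 := Matrix.rank_mul_eq_right_of_isUnit_det (c : MM) ((a : MM) - 1) hdet
  have h2 := Matrix.rank_mul_eq_left_of_isUnit_det (c : MM) ((b : MM) - 1) hdet
  rw [← h1, hcm1, h2]

end Main

/-- Conjugacy of involutions in the special unitary group SU_n(q), q even, n ≥ 3, realised over the field F with q² elements as the matrices of determinant 1 preserving the form Σ u_i v_i^q: for two elements of order 2 of SU_n(q) the following are equivalent — they are conjugate in SU_n(q); they are conjugate in SL_n(F); the matrices a − 1 and b − 1 have the same rank. -/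
theorem result {F : Type*} [Field F] [Fintype F] [CharP F 2] {n q : ℕ} (hF : Fintype.card F = q ^ 2) (hn : 3 ≤ n) (a b : ↥(Cfsg.SU n F q)) (ha : orderOf a = 2) (hb : orderOf b = 2) :
    (IsConj a b ↔ IsConj (a : Matrix.SpecialLinearGroup (Fin n) F) (b : Matrix.SpecialLinearGroup (Fin n) F)) ∧
    (IsConj a b ↔ (((a : Matrix.SpecialLinearGroup (Fin n) F) : Matrix (Fin n) (Fin n) F) - 1).rank = (((b : Matrix.SpecialLinearGroup (Fin n) F) : Matrix (Fin n) (Fin n) F) - 1).rank) := by
  have hsub : IsConj a b → IsConj (a : Matrix.SpecialLinearGroup (Fin n) F) (b : Matrix.SpecialLinearGroup (Fin n) F) := by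
    intro h
    exact (Cfsg.SU n F q).subtype.map_isConj h
  refine ⟨⟨hsub, ?_⟩, ⟨?_, ?_⟩⟩
  · intro h
    exact conj_of_rank hF a b ha hb (rank_of_conj _ _ h)
  · intro h
    exact rank_of_conj _ _ (hsub h)
  · intro h
    exact conj_of_rank hF a b ha hb h

end Cfsg.Agent.S2164
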