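import Cfsg.Statements.S2165

set_option autoImplicit false
open Cfsg

namespace Cfsg.Agent.S2165

variable {F : Type*} [Field F]

def sfun (n ℓ : ℕ) (h2 : 2 * ℓ ≤ n) (i : Fin n) : Fin n :=
  if h : i.val < ℓ then ⟨i.val + (n - ℓ), by omega⟩
  else if h' : n - ℓ ≤ i.val then ⟨i.val - (n - ℓ), by have := i.2; omega⟩
  else i

theorem sfun_val (n ℓ : ℕ) (h2 : 2 * ℓ ≤ n) (i : Fin n) :
    (sfun n ℓ h2 i).val = if i.val < ℓ then i.val + (n - ℓ) else if n - ℓ ≤ i.val then i.val - (n - ℓ) else i.val := by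
  unfold sfun
  split_ifs <;> rfl

theorem sfun_invol (n ℓ : ℕ) (h2 : 2 * ℓ ≤ n) : Function.Involutive (sfun n ℓ h2) := by
  intro i
  apply Fin.ext
  rw [sfun_val, sfun_val]
  have := i.2
  split_ifs <;> omega

def Mmat (n ℓ : ℕ) : Matrix (Fin n) (Fin n) F :=
  Matrix.of (fun i j : Fin n => if (j.val < ℓ ∧ i.val = j.val + (n - ℓ)) ∨ (i.val < ℓ ∧ j.val = i.val + (n - ℓ)) ∨ (i = j ∧ ℓ ≤ i.val ∧ i.val < n - ℓ) then (1 : F) else 0)

theorem Mmat_apply (n ℓ : ℕ) (h2 : 2 * ℓ ≤ n) (i j : Fin n) :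
    (Mmat n ℓ : Matrix (Fin n) (Fin n) F) i j = if j = sfun n ℓ h2 i then 1 else 0 := by
  simp only [Mmat, Matrix.of_apply]
  have hi := i.2
  have hj := j.2
  have hiff : ((j.val < ℓ ∧ i.val = j.val + (n - ℓ)) ∨ (i.val < ℓ ∧ j.val = i.val + (n - ℓ)) ∨ (i = j ∧ ℓ ≤ i.val ∧ i.val < n - ℓ)) ↔ j = sfun n ℓ h2 i := by
    rw [Fin.ext_iff (a := j), Fin.ext_iff (a := i), sfun_val]
    split_ifs <;> omega
  by_cases h : j = sfun n ℓ h2 i
  · rw [if_pos h, if_pos (hiff.mpr h)]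
  · rw [if_neg h, if_neg (fun h' => h (hiff.mp h'))]

theorem Mmat_mulVec (n ℓ : ℕ) (h2 : 2 * ℓ ≤ n) (v : Fin n → F) (i : Fin n) :
    Matrix.mulVec (Mmat n ℓ : Matrix (Fin n) (Fin n) F) v i = v (sfun n ℓ h2 i) := by
  simp only [Matrix.mulVec, dotProduct, Mmat_apply n ℓ h2]
  rw [Finset.sum_eq_single (sfun n ℓ h2 i)]
  · simp
  · intro b _ hb
    simp [hb]
  · intro h; exact absurd (Finset.mem_univ _) h

theorem Mmat_sq (n ℓ : ℕ) (h2 : 2 * ℓ ≤ n) : (Mmat n ℓ : Matrix (Fin n) (Fin n) F) * Mmat n ℓ = 1 := by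
  ext i k
  rw [Matrix.mul_apply]
  simp only [Mmat_apply n ℓ h2]
  rw [Finset.sum_eq_single (sfun n ℓ h2 i)]
  · simp only [if_true, one_mul, sfun_invol n ℓ h2 i, Matrix.one_apply]
    by_cases hik : i = k
    · subst hik; simp
    · have : ¬ (k = i) := fun h => hik h.symm
      simp [hik, this]
  · intro b _ hb
    simp [hb]
  · intro h; exact absurd (Finset.mem_univ _) h

theorem Mmat_det [CharP F 2] (n ℓ : ℕ) (h2 : 2 * ℓ ≤ n) : (Mmat n ℓ : Matrix (Fin n) (Fin n) F).det = 1 := by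
  have h := congrArg Matrix.det (Mmat_sq (F := F) n ℓ h2)
  rw [Matrix.det_mul, Matrix.det_one] at h
  set d := (Mmat n ℓ : Matrix (Fin n) (Fin n) F).det
  have h2' : (2 : F) = 0 := by exact_mod_cast CharP.cast_eq_zero F 2
  have : (d - 1) * (d - 1) = 0 := by
    have : (d - 1) * (d - 1) = d * d - 2 * d + 1 := by ring
    rw [this, h, h2']; ring_nf
    rw [h2']
  have h3 : d - 1 = 0 := by
    rcases mul_eq_zero.mp this with h | h <;> exact h
  exact sub_eq_zero.mp h3

def Amat (n ℓ : ℕ) : Matrix (Fin n) (Fin ℓ) F :=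
  Matrix.of (fun (i : Fin n) (k : Fin ℓ) => if i.val = k.val ∨ i.val = k.val + (n - ℓ) then (1 : F) else 0)

def Lmat (n ℓ : ℕ) : Matrix (Fin ℓ) (Fin n) F :=
  Matrix.of (fun (k : Fin ℓ) (i : Fin n) => if i.val = k.val then (1 : F) else 0)

theorem LA (n ℓ : ℕ) (h2 : 2 * ℓ ≤ n) :
    (Lmat n ℓ : Matrix (Fin ℓ) (Fin n) F) * (Amat n ℓ : Matrix (Fin n) (Fin ℓ) F) = 1 := by
  ext k k'
  simp only [Lmat, Amat, Matrix.mul_apply, Matrix.of_apply, Matrix.one_apply]
  have hk := k.2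
  have hk' := k'.2
  have hlt : k.val < n := by omega
  rw [Finset.sum_eq_single (⟨k.val, hlt⟩ : Fin n)]
  · by_cases hkk : k = k'
    · subst hkk; simp
    · have h1 : ¬ (k.val = k'.val) := fun h => hkk (Fin.ext h)
      have h2 : ¬ (k.val = k'.val + (n - ℓ)) := by omega
      simp [h1, h2, hkk]
  · intro b _ hb
    have : ¬ (b.val = k.val) := fun h => hb (Fin.ext h)
    simp [this]
  · intro h; exact absurd (Finset.mem_univ _) h

theorem M_sub_one [CharP F 2] (n ℓ : ℕ) (h2 : 2 * ℓ ≤ n) :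
    (Mmat n ℓ : Matrix (Fin n) (Fin n) F) - 1 =
      (Amat n ℓ : Matrix (Fin n) (Fin ℓ) F) * Matrix.transpose (Amat n ℓ : Matrix (Fin n) (Fin ℓ) F) := by
  have h2' : (2 : F) = 0 := by exact_mod_cast CharP.cast_eq_zero F 2
  have h11 : (1 : F) - 1 = 0 := sub_self 1
  have hneg : (0 : F) - 1 = 1 := by
    have : (1 : F) + 1 = 0 := by rw [← h2']; norm_num
    linear_combination (-1 : F) * this
  ext i j
  rw [Matrix.sub_apply, Mmat_apply n ℓ h2, Matrix.mul_apply]
  simp only [Amat, Matrix.transpose_apply, Matrix.of_apply, Matrix.one_apply]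
  have hi := i.2
  have hj := j.2
  by_cases hlow : i.val < ℓ
  · rw [Finset.sum_eq_single (⟨i.val, hlow⟩ : Fin ℓ)]
    · have hs : (sfun n ℓ h2 i).val = i.val + (n - ℓ) := by rw [sfun_val, if_pos hlow]
      by_cases hji : i = j
      · subst hji
        have : ¬ (i = sfun n ℓ h2 i) := by
          intro h; have := congrArg Fin.val h; omega
        simp [this, hneg]
      · by_cases hjs : j = sfun n ℓ h2 i
        · have hjv : j.val = i.val + (n - ℓ) := by rw [hjs, hs]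
          simp [hjs, hji, hjv, hs]
          intro h; exact hji (h.trans hjs.symm)
        · have h1 : ¬ (j.val = i.val) := fun h => hji (Fin.ext h.symm)
          have h2'' : ¬ (j.val = i.val + (n - ℓ)) := by
            intro h; apply hjs; apply Fin.ext; rw [hs, h]
          simp [hjs, hji, h1, h2'']
    · intro b _ hb
      have hb' := b.2
      have h1 : ¬ (i.val = b.val) := fun h => hb (Fin.ext h.symm)
      have h2'' : ¬ (i.val = b.val + (n - ℓ)) := by omega
      simp [h1, h2'']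
    · intro h; exact absurd (Finset.mem_univ _) h
  · by_cases hhigh : n - ℓ ≤ i.val
    · have hlt : i.val - (n - ℓ) < ℓ := by omega
      have hs : (sfun n ℓ h2 i).val = i.val - (n - ℓ) := by rw [sfun_val, if_neg hlow, if_pos hhigh]
      rw [Finset.sum_eq_single (⟨i.val - (n - ℓ), hlt⟩ : Fin ℓ)]
      · have hi2 : i.val = i.val - (n - ℓ) + (n - ℓ) := by omega
        by_cases hji : i = j
        · subst hji
          have : ¬ (i = sfun n ℓ h2 i) := by
            intro h; have := congrArg Fin.val h; omega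
          have h3 : ¬ (i.val = i.val - (n - ℓ)) := by omega
          simp [this, hneg, h3, ← hi2]
        · by_cases hjs : j = sfun n ℓ h2 i
          · have hjv : j.val = i.val - (n - ℓ) := by rw [hjs, hs]
            have h3 : ¬ (i.val = i.val - (n - ℓ)) := by omega
            simp [hjs, hji, hs, h3, ← hi2]
            intro h; exact hji (h.trans hjs.symm)
          · have h1 : ¬ (j.val = i.val - (n - ℓ)) := by
              intro h; apply hjs; apply Fin.ext; rw [hs, h]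
            have h2'' : ¬ (j.val = i.val - (n - ℓ) + (n - ℓ)) := by
              intro h; apply hji; apply Fin.ext; omega
            simp [hjs, hji, h1, h2'']
      · intro b _ hb
        have hb' := b.2
        have h1 : ¬ (i.val = b.val) := by omega
        have h2'' : ¬ (i.val = b.val + (n - ℓ)) := by
          intro h; apply hb; apply Fin.ext; simp only; omega
        simp [h1, h2'']
      · intro h; exact absurd (Finset.mem_univ _) h
    · have hs : sfun n ℓ h2 i = i := by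
        apply Fin.ext; rw [sfun_val, if_neg hlow, if_neg hhigh]
      rw [Finset.sum_eq_zero]
      · rw [hs]
        by_cases hji : i = j
        · subst hji; simp
        · have : ¬ (j = i) := fun h => hji h.symm
          simp [hji, this]
      · intro b _
        have hb' := b.2
        have h1 : ¬ (i.val = b.val) := by omega
        have h2'' : ¬ (i.val = b.val + (n - ℓ)) := by omega
        simp [h1, h2'']

theorem rank_M_sub_one [CharP F 2] (n ℓ : ℕ) (h2 : 2 * ℓ ≤ n) :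
    ((Mmat n ℓ : Matrix (Fin n) (Fin n) F) - 1).rank = ℓ := by
  rw [M_sub_one n ℓ h2]
  apply le_antisymm
  · calc ((Amat n ℓ : Matrix (Fin n) (Fin ℓ) F) * Matrix.transpose (Amat n ℓ : Matrix (Fin n) (Fin ℓ) F)).rank
          ≤ (Amat n ℓ : Matrix (Fin n) (Fin ℓ) F).rank := Matrix.rank_mul_le_left _ _
      _ ≤ ℓ := Matrix.rank_le_width _
  · have hLA := LA (F := F) n ℓ h2
    have hAL : Matrix.transpose (Amat n ℓ : Matrix (Fin n) (Fin ℓ) F) * Matrix.transpose (Lmat n ℓ : Matrix (Fin ℓ) (Fin n) F) = 1 := by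
      rw [← Matrix.transpose_mul, hLA, Matrix.transpose_one]
    have h1 : (1 : Matrix (Fin ℓ) (Fin ℓ) F) =
        (Lmat n ℓ : Matrix (Fin ℓ) (Fin n) F) * ((Amat n ℓ : Matrix (Fin n) (Fin ℓ) F) * Matrix.transpose (Amat n ℓ : Matrix (Fin n) (Fin ℓ) F)) * Matrix.transpose (Lmat n ℓ : Matrix (Fin ℓ) (Fin n) F) := by
      rw [← Matrix.mul_assoc, hLA, Matrix.one_mul, hAL]
    have h3 : (1 : Matrix (Fin ℓ) (Fin ℓ) F).rank = ℓ := by
      rw [Matrix.rank_one, Fintype.card_fin]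
    calc ℓ = (1 : Matrix (Fin ℓ) (Fin ℓ) F).rank := h3.symm
      _ = ((Lmat n ℓ : Matrix (Fin ℓ) (Fin n) F) * ((Amat n ℓ : Matrix (Fin n) (Fin ℓ) F) * Matrix.transpose (Amat n ℓ : Matrix (Fin n) (Fin ℓ) F)) * Matrix.transpose (Lmat n ℓ : Matrix (Fin ℓ) (Fin n) F)).rank := by rw [← h1]
      _ ≤ ((Lmat n ℓ : Matrix (Fin ℓ) (Fin n) F) * ((Amat n ℓ : Matrix (Fin n) (Fin ℓ) F) * Matrix.transpose (Amat n ℓ : Matrix (Fin n) (Fin ℓ) F))).rank := Matrix.rank_mul_le_left _ _
      _ ≤ ((Amat n ℓ : Matrix (Fin n) (Fin ℓ) F) * Matrix.transpose (Amat n ℓ : Matrix (Fin n) (Fin ℓ) F)).rank := Matrix.rank_mul_le_right _ _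

theorem result {F : Type*} [Field F] [Fintype F] [CharP F 2] {n q : ℕ} (hF : Fintype.card F = q ^ 2) (hn : 3 ≤ n) (ℓ : ℕ) (h1 : 1 ≤ ℓ) (h2 : 2 * ℓ ≤ n) :
    ∃ a : ↥(Cfsg.SU n F q), (((a : Matrix.SpecialLinearGroup (Fin n) F) : Matrix (Fin n) (Fin n) F) = Matrix.of (fun i j : Fin n => if (j.val < ℓ ∧ i.val = j.val + (n - ℓ)) ∨ (i.val < ℓ ∧ j.val = i.val + (n - ℓ)) ∨ (i = j ∧ ℓ ≤ i.val ∧ i.val < n - ℓ) then (1 : F) else 0)) ∧ orderOf a = 2 ∧ ((((a : Matrix.SpecialLinearGroup (Fin n) F) : Matrix (Fin n) (Fin n) F)) - 1).rank = ℓ := by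
  let a0 : Matrix.SpecialLinearGroup (Fin n) F := ⟨Mmat n ℓ, Mmat_det n ℓ h2⟩
  have ha0 : (a0 : Matrix (Fin n) (Fin n) F) = Mmat n ℓ := rfl
  have hmem : a0 ∈ Cfsg.SU n F q := by
    intro u v
    show hermForm n F q (Matrix.mulVec ((slToMat n F) a0) u) (Matrix.mulVec ((slToMat n F) a0) v) = hermForm n F q u v
    have hm : (slToMat n F) a0 = Mmat n ℓ := rfl
    rw [hm]
    unfold hermForm
    simp only [Mmat_mulVec n ℓ h2]
    exact Equiv.sum_comp (Function.Involutive.toPerm _ (sfun_invol n ℓ h2)) (fun i => u i * v i ^ q)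
  let a : ↥(Cfsg.SU n F q) := ⟨a0, hmem⟩
  refine ⟨a, rfl, ?_, ?_⟩
  · have : Fact (Nat.Prime 2) := ⟨Nat.prime_two⟩
    apply orderOf_eq_prime
    · apply Subtype.ext
      apply Subtype.ext
      show ((a0 ^ 2 : Matrix.SpecialLinearGroup (Fin n) F) : Matrix (Fin n) (Fin n) F) = 1
      rw [Matrix.SpecialLinearGroup.coe_pow, ha0, pow_two, Mmat_sq n ℓ h2]
    · intro h
      have h' : (Mmat n ℓ : Matrix (Fin n) (Fin n) F) = 1 := by
        have := congrArg (fun x : ↥(Cfsg.SU n F q) => ((x : Matrix.SpecialLinearGroup (Fin n) F) : Matrix (Fin n) (Fin n) F)) h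
        exact this
      have hr := rank_M_sub_one (F := F) n ℓ h2
      rw [h', sub_self, Matrix.rank_zero] at hr
      omega
  · show ((Mmat n ℓ : Matrix (Fin n) (Fin n) F) - 1).rank = ℓ
    exact rank_M_sub_one n ℓ h2

end Cfsg.Agent.S2165
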