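import Cfsg.Statements.S2172
import Cfsg.Agent.Lib.Helper16.Char2K
import Cfsg.Agent.Lib.Helper16.PlusFam
import Cfsg.Agent.Lib.Lead.OrthPlus
import Cfsg.Agent.S2167

set_option autoImplicit false
open Cfsg

namespace Cfsg.Agent.S2172

open Cfsg.Agent.Lib.Helper16 Cfsg.Agent.Lib.helper6 Cfsg.Agent.Lib.Lead Matrix Module

section Aux

variable {F : Type*} [Field F] [Fintype F] [CharP F 2] {m : ℕ}

local notation "ι" => (Fin m ⊕ Fin m)
local notation "VV" => (Fin m ⊕ Fin m → F)
local notation "MM" => Matrix (Fin m ⊕ Fin m) (Fin m ⊕ Fin m) F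
local notation "QQ" => qfPlus m F
set_option quotPrecheck false in
local notation "OO" => ↥(Cfsg.isometryGroup F ⇑(qfPlus m F))

/-- the matrix of an element of the isometry group -/
abbrev mat (t : OO) : MM := ((t : Matrix.GeneralLinearGroup ι F) : MM)

theorem hcard : Fintype.card ι = 2 * m := by
  rw [Fintype.card_sum, Fintype.card_fin]; ring

theorem hdimV : finrank F VV = 2 * m := finrank_pi_eq_two_mul hcard

theorem hsmall (hm : 4 ≤ m) : Fintype.card F ≠ 2 ∨ Fintype.card ι ≠ 4 := by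
  right
  rw [hcard]
  omega

theorem mat_Q (t : OO) (x : VV) : QQ (mat t *ᵥ x) = QQ x := (CDG.mem_iso QQ t.1).mp t.2 x

theorem mat_sq (t : OO) (ht : orderOf t = 2) : mat t * mat t = 1 := by
  have h1 : t ^ 2 = 1 := by rw [← ht]; exact pow_orderOf_eq_one t
  rw [pow_two] at h1
  have h2 := congrArg (fun x : OO => mat x) h1
  exact h2

theorem vec_char2 (x y : VV) : x + y = y - x := by
  funext i
  show x i + y i = y i - x i
  rw [sub_eq_add_neg, CharTwo.neg_eq, add_comm]

theorem N_apply (t : OO) (x : VV) : (mat t - 1) *ᵥ x = x + mat t *ᵥ x := by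
  rw [Matrix.sub_mulVec, Matrix.one_mulVec, vec_char2]

theorem N_sq (t : OO) (ht : orderOf t = 2) (x : VV) : (mat t - 1) *ᵥ ((mat t - 1) *ᵥ x) = 0 := by
  rw [N_apply, N_apply, Matrix.mulVec_add, Matrix.mulVec_mulVec, mat_sq t ht, Matrix.one_mulVec]
  funext i
  show (x i + (mat t *ᵥ x) i) + ((mat t *ᵥ x) i + x i) = 0
  have := CharTwo.add_self_eq_zero (x i + (mat t *ᵥ x) i)
  linear_combination this

/-- the exceptional condition -/
def Exc (t : OO) : Prop :=
  (mat t - 1).rank = m ∧ ∀ v : VV, Cfsg.quadFormPlus m F (v + mat t *ᵥ v) = 0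

theorem exists_fixed_nonsing (t : OO) (ht : orderOf t = 2) (hne : ¬ Exc t) :
    ∃ v : VV, mat t *ᵥ v = v ∧ QQ v ≠ 0 := by
  by_contra hcon
  apply hne
  have hall : ∀ v : VV, mat t *ᵥ v = v → QQ v = 0 := by
    intro v hv
    by_contra h
    exact hcon ⟨v, hv, h⟩
  obtain ⟨K, hK⟩ : ∃ K : Submodule F VV, K = LinearMap.ker (Matrix.mulVecLin (mat t - 1)) :=
    ⟨_, rfl⟩
  have hKTS : TS QQ K := by
    intro u hu
    apply hall
    rw [hK, LinearMap.mem_ker, Matrix.mulVecLin_apply, Matrix.sub_mulVec, Matrix.one_mulVec] at hu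
    exact sub_eq_zero.mp hu
  have h1 := hKTS.finrank_le (qfPlus_nondeg m F) hdimV
  have h2 := LinearMap.finrank_range_add_finrank_ker (Matrix.mulVecLin (mat t - 1))
  rw [hdimV, ← hK] at h2
  have hle : LinearMap.range (Matrix.mulVecLin (mat t - 1)) ≤ K := by
    rintro _ ⟨x, rfl⟩
    rw [hK, LinearMap.mem_ker, Matrix.mulVecLin_apply, Matrix.mulVecLin_apply]
    exact N_sq t ht x
  have h3 := Submodule.finrank_mono hle
  have hrank : (mat t - 1).rank = finrank F (LinearMap.range (Matrix.mulVecLin (mat t - 1))) := rfl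
  constructor
  · rw [hrank]
    omega
  · intro v
    have : v + mat t *ᵥ v ∈ K := by
      apply hle
      exact ⟨v, by rw [Matrix.mulVecLin_apply, N_apply]⟩
    have h := hKTS _ this
    rw [qfPlus_coe] at h
    exact h

theorem refl_comm (t : OO) (v : VV) (hv : QQ v ≠ 0) (htv : mat t *ᵥ v = v) :
    CDG.refl QQ v hv * t = t * CDG.refl QQ v hv := by
  apply CDG.iso_ext
  show Cfsg.reflectionMatrix ⇑QQ v * mat t = mat t * Cfsg.reflectionMatrix ⇑QQ v
  apply Matrix.toLin'.injective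
  apply LinearMap.ext
  intro x
  rw [Matrix.toLin'_apply, Matrix.toLin'_apply, ← Matrix.mulVec_mulVec, ← Matrix.mulVec_mulVec,
    reflectionMatrix_mulVec, reflectionMatrix_mulVec, Matrix.mulVec_sub, Matrix.mulVec_smul, htv]
  have := CDG.polar_iso QQ t v x
  rw [htv] at this
  rw [this]

theorem part1 (hm : 4 ≤ m) (t s : OO) (ht : orderOf t = 2) (hconj : IsConj t s)
    (hne : ¬ Exc t) : ∃ g ∈ Cfsg.Omega F ⇑QQ, g * t * g⁻¹ = s := by
  obtain ⟨v, htv, hv⟩ := exists_fixed_nonsing t ht hne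
  obtain ⟨g, hg⟩ := isConj_iff.mp hconj
  rcases C2.mem_omega_or QQ (qfPlus_nondeg m F) (hsmall hm) v hv g with h1 | h1
  · exact ⟨g, h1, hg⟩
  · refine ⟨g * CDG.refl QQ v hv, h1, ?_⟩
    have hc := refl_comm t v hv htv
    have : CDG.refl QQ v hv * t * (CDG.refl QQ v hv)⁻¹ = t := by
      rw [mul_inv_eq_iff_eq_mul]
      exact hc
    calc g * CDG.refl QQ v hv * t * (g * CDG.refl QQ v hv)⁻¹
        = g * (CDG.refl QQ v hv * t * (CDG.refl QQ v hv)⁻¹) * g⁻¹ := by group
      _ = s := by rw [this, hg]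

/-- the image of `t - 1` -/
abbrev img (t : OO) : Submodule F VV := LinearMap.range (Matrix.toLin' (mat t - 1))

theorem img_TS (t : OO) (hE : Exc t) : TS QQ (img t) := by
  rintro _ ⟨x, rfl⟩
  rw [Matrix.toLin'_apply, N_apply, qfPlus_coe]
  exact hE.2 x

theorem img_finrank (t : OO) (hE : Exc t) : finrank F (img t) = m := hE.1

theorem img_map (t s g : OO) (hg : g * t * g⁻¹ = s) :
    (img t).map (Matrix.mulVecLin (mat g)) = img s := by
  have h1 : g * t = s * g := mul_inv_eq_iff_eq_mul.mp hg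
  have h2 : mat g * mat t = mat s * mat g := congrArg (fun x : OO => mat x) h1
  have h3 : mat g * (mat t - 1) = (mat s - 1) * mat g := by
    rw [mul_sub, sub_mul, mul_one, one_mul, h2]
  have hsurj : LinearMap.range (Matrix.mulVecLin (mat g)) = ⊤ := by
    rw [LinearMap.range_eq_top]
    intro y
    refine ⟨mat g⁻¹ *ᵥ y, ?_⟩
    rw [Matrix.mulVecLin_apply, Matrix.mulVec_mulVec]
    have : mat g * mat g⁻¹ = 1 := by
      have := congrArg (fun x : OO => mat x) (mul_inv_cancel g)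
      exact this
    rw [this, Matrix.one_mulVec]
  show (LinearMap.range (Matrix.toLin' (mat t - 1))).map (Matrix.mulVecLin (mat g)) =
    LinearMap.range (Matrix.toLin' (mat s - 1))
  rw [Matrix.toLin'_apply', Matrix.toLin'_apply', ← LinearMap.range_comp, ← Matrix.mulVecLin_mul,
    h3, Matrix.mulVecLin_mul, LinearMap.range_comp, hsurj, Submodule.map_top]

theorem even_m (t : OO) (hE : Exc t) : Even m := by
  have hr : (swapS F m * (mat t - 1)).rank = (mat t - 1).rank := by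
    apply Matrix.rank_mul_eq_right_of_isUnit_det
    have := congrArg Matrix.det (swapS_mul_self (F := F) (m := m))
    rw [Matrix.det_mul, Matrix.det_one] at this
    exact IsUnit.of_mul_eq_one _ this
  rw [← hE.1, ← hr]
  apply Cfsg.Agent.S2167.even_rank_of_alt
  intro x
  rw [Matrix.toBilin'_apply', ← Matrix.mulVec_mulVec]
  have h1 : x ⬝ᵥ (swapS F m *ᵥ ((mat t - 1) *ᵥ x)) = polarP F m x ((mat t - 1) *ᵥ x) := by
    rw [polarP, Matrix.toBilin'_apply']
  rw [h1, Matrix.sub_mulVec, Matrix.one_mulVec, map_sub, polarP_self, polarP_eq_sub,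
    hE.2 x]
  have e1 : Cfsg.quadFormPlus m F (mat t *ᵥ x) = Cfsg.quadFormPlus m F x := by
    have := mat_Q t x
    rw [qfPlus_coe] at this
    exact this
  rw [e1]
  have := CharTwo.add_self_eq_zero (Cfsg.quadFormPlus m F x)
  linear_combination (-2 : F) * this

theorem part2 (hm : 4 ≤ m) (t s : OO) (hconj : IsConj t s) (hE : Exc t) :
    (∃ g ∈ Cfsg.Omega F ⇑QQ, g * t * g⁻¹ = s) ↔ Even (finrank F ↥(img t ⊓ img s)) := by
  have hQ := qfPlus_nondeg m F
  set χ := famCharHom QQ hQ hcard (img t) (img_TS t hE) (img_finrank t hE) with hχ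
  have hχr : ∀ (u : VV) (hu : QQ u ≠ 0), χ (CDG.refl QQ u hu) = -1 := by
    intro u hu
    exact famChar_refl QQ hQ hcard (img t) (img_TS t hE) (img_finrank t hE) _ u hu
      (CDG.refl_coe QQ u hu)
  have hker := C2.ker_eq_omega QQ hQ (hsmall hm) χ hχr
  have hm2 := even_m t hE
  have key : ∀ g : OO, g * t * g⁻¹ = s →
      (g ∈ Cfsg.Omega F ⇑QQ ↔ Even (finrank F ↥(img t ⊓ img s))) := by
    intro g hg
    rw [← hker g]
    show famChar QQ m (img t) g = 1 ↔ _
    rw [famChar_eq_one_iff]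
    have : (img t).map (Matrix.mulVecLin ((g : Matrix.GeneralLinearGroup ι F) : MM)) = img s :=
      img_map t s g hg
    rw [this, Nat.even_add]
    exact ⟨fun h => h.mp hm2, fun h => ⟨fun _ => h, fun _ => hm2⟩⟩
  constructor
  · rintro ⟨g, hgΩ, hg⟩
    exact (key g hg).mp hgΩ
  · intro hev
    obtain ⟨g, hg⟩ := isConj_iff.mp hconj
    exact ⟨g, (key g hg).mpr hev, hg⟩

end Aux

/-- Splitting of involution classes from O to Ω for the hyperbolic quadratic form Q = Σ x_i y_i in dimension 2m over a finite field F of characteristic two, m ≥ 4. Let t, s be involutions of the commutator subgroup Ω that are conjugate in the full isometry group O. If it is not the case that t − 1 has rank m and Q(v + t v) = 0 for every vector v, then t and s are conjugate by an element of Ω. If t − 1 has rank m and Q(v + t v) = 0 for all v, then t and s are conjugate by an element of Ω exactly when the intersection of the images of t − 1 and s − 1 has even dimension (so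 the class of t in O meets at most two classes of Ω). -/
theorem result {F : Type*} [Field F] [Fintype F] [CharP F 2] {m : ℕ} (hm : 4 ≤ m) (t s : ↥(Cfsg.isometryGroup F (Cfsg.quadFormPlus m F))) (ht : orderOf t = 2) (hs : orderOf s = 2) (htO : t ∈ Cfsg.Omega F (Cfsg.quadFormPlus m F)) (hsO : s ∈ Cfsg.Omega F (Cfsg.quadFormPlus m F)) (hconj : IsConj t s) :
    (¬ (((((t : ↥(Cfsg.isometryGroup F (Cfsg.quadFormPlus m F))) : GL (Fin m ⊕ Fin m) F) : Matrix (Fin m ⊕ Fin m) (Fin m ⊕ Fin m) F) - 1).rank = m ∧ ∀ v : Fin m ⊕ Fin m → F, Cfsg.quadFormPlus m F (v + Matrix.mulVec (((t : ↥(Cfsg.isometryGroup F (Cfsg.quadFormPlus m F))) : GL (Fin m ⊕ Fin m) F) : Matrix (Fin m ⊕ Fin m) (Fin m ⊕ Fin m) F) v) = 0) →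
      ∃ g ∈ Cfsg.Omega F (Cfsg.quadFormPlus m F), g * t * g⁻¹ = s) ∧
    ((((((t : ↥(Cfsg.isometryGroup F (Cfsg.quadFormPlus m F))) : GL (Fin m ⊕ Fin m) F) : Matrix (Fin m ⊕ Fin m) (Fin m ⊕ Fin m) F) - 1).rank = m ∧ ∀ v : Fin m ⊕ Fin m → F, Cfsg.quadFormPlus m F (v + Matrix.mulVec (((t : ↥(Cfsg.isometryGroup F (Cfsg.quadFormPlus m F))) : GL (Fin m ⊕ Fin m) F) : Matrix (Fin m ⊕ Fin m) (Fin m ⊕ Fin m) F) v) = 0) →
      ((∃ g ∈ Cfsg.Omega F (Cfsg.quadFormPlus m F), g * t * g⁻¹ = s) ↔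
        Even (Module.finrank F ↥(LinearMap.range (Matrix.toLin' ((((t : ↥(Cfsg.isometryGroup F (Cfsg.quadFormPlus m F))) : GL (Fin m ⊕ Fin m) F) : Matrix (Fin m ⊕ Fin m) (Fin m ⊕ Fin m) F) - 1)) ⊓ LinearMap.range (Matrix.toLin' ((((s : ↥(Cfsg.isometryGroup F (Cfsg.quadFormPlus m F))) : GL (Fin m ⊕ Fin m) F) : Matrix (Fin m ⊕ Fin m) (Fin m ⊕ Fin m) F) - 1)))))) := by
  refine ⟨fun hne => part1 hm t s ht hconj hne, fun hE => part2 hm t s hconj hE⟩

end Cfsg.Agent.S2172
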