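import Cfsg.Statements.S2173
import Cfsg.Agent.Lib.Lead.InvolConj
import Cfsg.Agent.Lib.Lead.WittIndex
import Cfsg.Agent.S0791

set_option autoImplicit false
open Cfsg

namespace Cfsg.Agent.S2173

open Cfsg.Agent.Lib.Lead Cfsg.Agent.Lib.Helper16 Matrix Module

theorem result {F : Type*} [Field F] [Fintype F] [CharP F 2] {m : ℕ} (hm : 4 ≤ m) (c d : F) (hcd : ∀ z₁ z₂ : F, z₁ ^ 2 + c * z₁ * z₂ + d * z₂ ^ 2 = 0 → z₁ = 0 ∧ z₂ = 0) (t s : ↥(Cfsg.isometryGroup F (Cfsg.quadFormMinus (m - 1) F c d))) (ht : orderOf t = 2) (hs : orderOf s = 2) (htO : t ∈ Cfsg.Omega F (Cfsg.quadFormMinus (m - 1) F c d)) (hsO : s ∈ Cfsg.Omega F (Cfsg.quadFormMinus (m - 1) F c d)) (hconj : IsConj t s) :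
    ∃ g ∈ Cfsg.Omega F (Cfsg.quadFormMinus (m - 1) F c d), g * t * g⁻¹ = s := by
  have hcard : Fintype.card ((Fin (m - 1) ⊕ Fin (m - 1)) ⊕ Fin 2) = 2 * m := by
    simp only [Fintype.card_sum, Fintype.card_fin]; omega
  have hQ := Cfsg.Agent.S0791.nondeg_minus (m - 1) c d hcd
  have htt : t * t = 1 := by
    have := pow_orderOf_eq_one t
    rw [ht, pow_two] at this
    exact this
  have key := DK.conj_in_omega (qfMinus (m - 1) F c d) hQ (Or.inr (by rw [hcard]; omega)) t s hconj ?_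
  · exact key
  · by_contra hcon
    push Not at hcon
    -- the fixed space is totally singular
    have hU : ∀ u ∈ DK.fixSub ((t : Matrix.GeneralLinearGroup ((Fin (m - 1) ⊕ Fin (m - 1)) ⊕ Fin 2) F) :
        Matrix ((Fin (m - 1) ⊕ Fin (m - 1)) ⊕ Fin 2) ((Fin (m - 1) ⊕ Fin (m - 1)) ⊕ Fin 2) F),
        Cfsg.quadFormMinus (m - 1) F c d u = 0 := by
      intro u hu
      by_contra hne
      exact hcon u hne ((DK.mem_fixSub _ u).mp hu)
    have h1 := WI.minus_ts_le hcd _ hU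
    have h2 : 2 * m ≤ 2 * finrank F ↥(DK.fixSub
        ((t : Matrix.GeneralLinearGroup ((Fin (m - 1) ⊕ Fin (m - 1)) ⊕ Fin 2) F) :
        Matrix ((Fin (m - 1) ⊕ Fin (m - 1)) ⊕ Fin 2) ((Fin (m - 1) ⊕ Fin (m - 1)) ⊕ Fin 2) F)) := by
      have h3 := DK.fixDim_ge_of_invol (qfMinus (m - 1) F c d) t htt
      rw [hcard] at h3
      exact h3
    have h4 : 2 * m ≤ 2 * (m - 1) := le_trans h2 (Nat.mul_le_mul_left 2 h1)
    omega

end Cfsg.Agent.S2173
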