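import Cfsg.Statements.S2174
import Cfsg.Agent.Lib.helper14.INV.Asm

set_option autoImplicit false
open Cfsg

namespace Cfsg.Agent.S2174

open Cfsg.Lie Cfsg.Lie.ChevalleyDatum Cfsg.Agent.Lib.helper8 Cfsg.Agent.Lib.helper14
  Cfsg.Agent.Lib.helper14.INV

universe u

theorem rep_of_mem {F : Type u} [Field F] (hB : H8Base.{u} chevF4) (y : GL chevF4.Idx F)
    (hy : ((y : GL chevF4.Idx F) : Matrix chevF4.Idx chevF4.Idx F) ∈
      [chevF4.x F 47 1, chevF4.x F 44 1, chevF4.x F 47 1 * chevF4.x F 44 1,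
        chevF4.x F 39 1 * chevF4.x F 45 1]) :
    ∃ a ∈ f4Reps, y = w1 chevF4 hB a := by
  simp only [List.mem_cons, List.not_mem_nil, or_false] at hy
  rcases hy with h | h | h | h
  · refine ⟨[47], by simp [f4Reps], Units.ext ?_⟩
    rw [h]; simp [w1, h8wordU, h8xU_val]
  · refine ⟨[44], by simp [f4Reps], Units.ext ?_⟩
    rw [h]; simp [w1, h8wordU, h8xU_val]
  · refine ⟨[47, 44], by simp [f4Reps], Units.ext ?_⟩
    rw [h]; simp [w1, h8wordU, h8xU_val]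
  · refine ⟨[39, 45], by simp [f4Reps], Units.ext ?_⟩
    rw [h]; simp [w1, h8wordU, h8xU_val]

theorem mem_of_rep {F : Type u} [Field F] (hB : H8Base.{u} chevF4) (a : List ℕ) (ha : a ∈ f4Reps) :
    (((w1 chevF4 hB a : GL chevF4.Idx F)) : Matrix chevF4.Idx chevF4.Idx F) ∈
      [chevF4.x F 47 1, chevF4.x F 44 1, chevF4.x F 47 1 * chevF4.x F 44 1,
        chevF4.x F 39 1 * chevF4.x F 45 1] := by
  simp only [f4Reps, List.mem_cons, List.not_mem_nil, or_false] at ha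
  rcases ha with rfl | rfl | rfl | rfl <;> simp [w1, h8wordU, h8xU_val]

/-- Conjugacy classes of involutions in the Chevalley group of type F₄ over a finite field F of characteristic two (the matrix group generated by the root elements x_r(t)). In this problem's root numbering for type F₄ (the Chevalley data module; fundamental roots p₁, p₂ short and p₃, p₄ long; roots indexed by their coefficient vectors in increasing order) let r = 47 be the highest root (2,4,3,2), s = 44 the highest short root (2,3,2,1), and α = 39 = (1,2,2,1), β = 45 = (2,4,2,1), an orthogonal short/long pair; consider the four elements x_r(1), x_s(1), x_r(1)x_s(1), x_α(1)x_β(1). Then: each invertible matrix equal to one of these four products lies in the group and has order 2; every element of order 2 of the group is conjugate in the group to one of them; and no two of them are conjugate in the group (so, the four matrices being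 distinct, the group has exactly four conjugacy classes of involutions). -/
theorem result {F : Type*} [Field F] [Fintype F] [CharP F 2] :
    (∀ y : GL Cfsg.Lie.chevF4.Idx F, ((y : GL Cfsg.Lie.chevF4.Idx F) : Matrix Cfsg.Lie.chevF4.Idx Cfsg.Lie.chevF4.Idx F) ∈ [Cfsg.Lie.chevF4.x F 47 1, Cfsg.Lie.chevF4.x F 44 1, Cfsg.Lie.chevF4.x F 47 1 * Cfsg.Lie.chevF4.x F 44 1, Cfsg.Lie.chevF4.x F 39 1 * Cfsg.Lie.chevF4.x F 45 1] → y ∈ Cfsg.Lie.chevF4.group F ∧ orderOf y = 2) ∧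
    (∀ g ∈ Cfsg.Lie.chevF4.group F, orderOf g = 2 → ∃ y ∈ Cfsg.Lie.chevF4.group F, ((y : GL Cfsg.Lie.chevF4.Idx F) : Matrix Cfsg.Lie.chevF4.Idx Cfsg.Lie.chevF4.Idx F) ∈ [Cfsg.Lie.chevF4.x F 47 1, Cfsg.Lie.chevF4.x F 44 1, Cfsg.Lie.chevF4.x F 47 1 * Cfsg.Lie.chevF4.x F 44 1, Cfsg.Lie.chevF4.x F 39 1 * Cfsg.Lie.chevF4.x F 45 1] ∧ ∃ h ∈ Cfsg.Lie.chevF4.group F, h * g * h⁻¹ = y) ∧
    (∀ y₁ ∈ Cfsg.Lie.chevF4.group F, ∀ y₂ ∈ Cfsg.Lie.chevF4.group F, ((y₁ : GL Cfsg.Lie.chevF4.Idx F) : Matrix Cfsg.Lie.chevF4.Idx Cfsg.Lie.chevF4.Idx F) ∈ [Cfsg.Lie.chevF4.x F 47 1, Cfsg.Lie.chevF4.x F 44 1, Cfsg.Lie.chevF4.x F 47 1 * Cfsg.Lie.chevF4.x F 44 1, Cfsg.Lie.chevF4.x F 39 1 * Cfsg.Lie.chevF4.x F 45 1] → ((y₂ : GL Cfsg.Lie.chevF4.Idx F) : Matrix Cfsg.Lie.chevF4.Idx Cfsg.Lie.chevF4.Idx F) ∈ [Cfsg.Lie.chevF4.x F 47 1, Cfsg.Lie.chevF4.x F 44 1, Cfsg.Lie.chevF4.x F 47 1 * Cfsg.Lie.chevF4.x F 44 1, Cfsg.Lie.chevF4.x F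 39 1 * Cfsg.Lie.chevF4.x F 45 1] →
      (∃ h ∈ Cfsg.Lie.chevF4.group F, h * y₁ * h⁻¹ = y₂) → ((y₁ : GL Cfsg.Lie.chevF4.Idx F) : Matrix Cfsg.Lie.chevF4.Idx Cfsg.Lie.chevF4.Idx F) = ((y₂ : GL Cfsg.Lie.chevF4.Idx F) : Matrix Cfsg.Lie.chevF4.Idx Cfsg.Lie.chevF4.Idx F)) := by
  have hB := h8base_all chevF4 nc_memL
  refine ⟨?_, ?_, ?_⟩
  · intro y hy
    obtain ⟨a, ha, rfl⟩ := rep_of_mem hB y hy
    exact f4_mem_order hB a ha
  · intro g hg ho
    obtain ⟨a, ha, g', hg', e⟩ := f4_invol_class g hg ho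
    exact ⟨_, (f4_mem_order hB a ha).1, mem_of_rep hB a ha, g', hg', e⟩
  · intro y₁ _ y₂ _ h1 h2 hc
    obtain ⟨a, ha, rfl⟩ := rep_of_mem hB y₁ h1
    obtain ⟨b, hb, rfl⟩ := rep_of_mem hB y₂ h2
    have := f4_not_conj hB a b ha hb hc
    rw [this]

end Cfsg.Agent.S2174
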