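import Cfsg.Statements.S2175
import Cfsg.Agent.Lib.Helper21.INVE6.Asm

set_option autoImplicit false
open Cfsg

namespace Cfsg.Agent.S2175

open Cfsg.Lie Cfsg.Lie.ChevalleyDatum Cfsg.Agent.Lib.helper8 Cfsg.Agent.Lib.helper14
  Cfsg.Agent.Lib.helper14.INV

universe u

theorem rep_of_mem {F : Type u} [Field F] (hB : H8Base.{u} chevE6) (y : GL chevE6.Idx F)
    (hy : ((y : GL chevE6.Idx F) : Matrix chevE6.Idx chevE6.Idx F) ∈
      [chevE6.x F 71 1, chevE6.x F 68 1 * chevE6.x F 66 1,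
        chevE6.x F 55 1 * chevE6.x F 65 1 * chevE6.x F 67 1]) :
    ∃ a ∈ e6Reps, y = w1 chevE6 hB a := by
  simp only [List.mem_cons, List.not_mem_nil, or_false] at hy
  rcases hy with h | h | h
  · refine ⟨[71], by simp [e6Reps], Units.ext ?_⟩
    rw [h]; simp [w1, h8wordU, h8xU_val]
  · refine ⟨[68, 66], by simp [e6Reps], Units.ext ?_⟩
    rw [h]; simp [w1, h8wordU, h8xU_val]
  · refine ⟨[55, 65, 67], by simp [e6Reps], Units.ext ?_⟩
    rw [h]; simp [w1, h8wordU, h8xU_val, mul_assoc]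

theorem mem_of_rep {F : Type u} [Field F] (hB : H8Base.{u} chevE6) (a : List ℕ) (ha : a ∈ e6Reps) :
    (((w1 chevE6 hB a : GL chevE6.Idx F)) : Matrix chevE6.Idx chevE6.Idx F) ∈
      [chevE6.x F 71 1, chevE6.x F 68 1 * chevE6.x F 66 1,
        chevE6.x F 55 1 * chevE6.x F 65 1 * chevE6.x F 67 1] := by
  simp only [e6Reps, List.mem_cons, List.not_mem_nil, or_false] at ha
  rcases ha with rfl | rfl | rfl <;> simp [w1, h8wordU, h8xU_val, mul_assoc]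

/-- Conjugacy classes of involutions in the Chevalley group of type E₆ over a finite field F of characteristic two (the matrix group generated by the root elements x_r(t)). In this problem's root numbering for type E₆ (the Chevalley data module; fundamental roots numbered so that p₁–p₃–p₄–p₅–p₆ is the long chain of the diagram and p₂ is joined to p₄; roots indexed by their coefficient vectors in increasing order) let r = 71 be the highest root (1,2,2,3,2,1), α = 68 = (1,1,2,2,1,1), β = 66 = (1,1,1,2,2,1), γ = 55 = (0,1,1,2,2,1), δ = 65 = (1,1,1,2,1,1), ε = 67 = (1,1,2,2,1,0) (α ⊥ β and γ, δ, ε pairwise orthogonal); consider x_r(1), x_α(1)x_β(1) and x_γ(1)x_δ(1)x_ε(1). Then: each invertible matrix equal to one of these three products lies in the group and has order 2; every element of order 2 of the group is conjugate in the group to one of them; and no two of them are conjugate in the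 group (so, the three matrices being distinct, the group has exactly three conjugacy classes of involutions). -/
theorem result {F : Type*} [Field F] [Fintype F] [CharP F 2] :
    (∀ y : GL Cfsg.Lie.chevE6.Idx F, ((y : GL Cfsg.Lie.chevE6.Idx F) : Matrix Cfsg.Lie.chevE6.Idx Cfsg.Lie.chevE6.Idx F) ∈ [Cfsg.Lie.chevE6.x F 71 1, Cfsg.Lie.chevE6.x F 68 1 * Cfsg.Lie.chevE6.x F 66 1, Cfsg.Lie.chevE6.x F 55 1 * Cfsg.Lie.chevE6.x F 65 1 * Cfsg.Lie.chevE6.x F 67 1] → y ∈ Cfsg.Lie.chevE6.group F ∧ orderOf y = 2) ∧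
    (∀ g ∈ Cfsg.Lie.chevE6.group F, orderOf g = 2 → ∃ y ∈ Cfsg.Lie.chevE6.group F, ((y : GL Cfsg.Lie.chevE6.Idx F) : Matrix Cfsg.Lie.chevE6.Idx Cfsg.Lie.chevE6.Idx F) ∈ [Cfsg.Lie.chevE6.x F 71 1, Cfsg.Lie.chevE6.x F 68 1 * Cfsg.Lie.chevE6.x F 66 1, Cfsg.Lie.chevE6.x F 55 1 * Cfsg.Lie.chevE6.x F 65 1 * Cfsg.Lie.chevE6.x F 67 1] ∧ ∃ h ∈ Cfsg.Lie.chevE6.group F, h * g * h⁻¹ = y) ∧
    (∀ y₁ ∈ Cfsg.Lie.chevE6.group F, ∀ y₂ ∈ Cfsg.Lie.chevE6.group F, ((y₁ : GL Cfsg.Lie.chevE6.Idx F) : Matrix Cfsg.Lie.chevE6.Idx Cfsg.Lie.chevE6.Idx F) ∈ [Cfsg.Lie.chevE6.x F 71 1, Cfsg.Lie.chevE6.x F 68 1 * Cfsg.Lie.chevE6.x F 66 1, Cfsg.Lie.chevE6.x F 55 1 * Cfsg.Lie.chevE6.x F 65 1 * Cfsg.Lie.chevE6.x F 67 1] → ((y₂ : GL Cfsg.Lie.chevE6.Idx F) : Matrix Cfsg.Lie.chevE6.Idx Cfsg.Lie.chevE6.Idx F) ∈ [Cfsg.Lie.chevE6.x F 71 1, Cfsg.Lie.chevE6.x F 68 1 * Cfsg.Lie.chevE6.x F 66 1, Cfsg.Lie.chevE6.x F 55 1 * Cfsg.Lie.chevE6.x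 F 65 1 * Cfsg.Lie.chevE6.x F 67 1] →
      (∃ h ∈ Cfsg.Lie.chevE6.group F, h * y₁ * h⁻¹ = y₂) → ((y₁ : GL Cfsg.Lie.chevE6.Idx F) : Matrix Cfsg.Lie.chevE6.Idx Cfsg.Lie.chevE6.Idx F) = ((y₂ : GL Cfsg.Lie.chevE6.Idx F) : Matrix Cfsg.Lie.chevE6.Idx Cfsg.Lie.chevE6.Idx F)) := by
  have hB := h8base_all chevE6 e6_mem_list
  refine ⟨?_, ?_, ?_⟩
  · intro y hy
    obtain ⟨a, ha, rfl⟩ := rep_of_mem hB y hy
    exact e6_mem_order hB a ha
  · intro g hg ho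
    obtain ⟨a, ha, g', hg', e⟩ := e6_invol_class g hg ho
    exact ⟨_, (e6_mem_order hB a ha).1, mem_of_rep hB a ha, g', hg', e⟩
  · intro y₁ _ y₂ _ h1 h2 hc
    obtain ⟨a, ha, rfl⟩ := rep_of_mem hB y₁ h1
    obtain ⟨b, hb, rfl⟩ := rep_of_mem hB y₂ h2
    have := e6_not_conj hB a b ha hb hc
    rw [this]

end Cfsg.Agent.S2175
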