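import Cfsg.Statements.S2176
import Cfsg.Agent.Lib.Helper12.INVE8.Asm
import Cfsg.Agent.Lib.Helper12.INVE8.NONCONJ
import Cfsg.Agent.Lib.Helper22.INVE8MEM

set_option autoImplicit false
open Cfsg

namespace Cfsg.Agent.S2176

open Cfsg.Lie Cfsg.Lie.ChevalleyDatum Cfsg.Agent.Lib.helper8 Cfsg.Agent.Lib.helper14
  Cfsg.Agent.Lib.helper14.INV Cfsg.Agent.Lib.Helper12.INVE8

universe u

theorem rep_of_mem {F : Type u} [Field F] (hB : H8Base.{u} chevE8) (y : GL chevE8.Idx F)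
    (hy : ((y : GL chevE8.Idx F) : Matrix chevE8.Idx chevE8.Idx F) ∈
      [chevE8.x F 239 1, chevE8.x F 232 1 * chevE8.x F 233 1,
        chevE8.x F 228 1 * chevE8.x F 222 1 * chevE8.x F 218 1,
        chevE8.x F 226 1 * chevE8.x F 220 1 * chevE8.x F 213 1 * chevE8.x F 216 1]) :
    ∃ a ∈ e8Reps, y = w1 chevE8 hB a := by
  simp only [List.mem_cons, List.not_mem_nil, or_false] at hy
  rcases hy with h | h | h | h
  · refine ⟨[239], by simp [e8Reps], Units.ext ?_⟩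
    rw [h]; simp [w1, h8wordU, h8xU_val]
  · refine ⟨[232, 233], by simp [e8Reps], Units.ext ?_⟩
    rw [h]; simp [w1, h8wordU, h8xU_val]
  · refine ⟨[228, 222, 218], by simp [e8Reps], Units.ext ?_⟩
    rw [h]; simp [w1, h8wordU, h8xU_val, mul_assoc]
  · refine ⟨[226, 220, 213, 216], by simp [e8Reps], Units.ext ?_⟩
    rw [h]; simp [w1, h8wordU, h8xU_val, mul_assoc]

theorem mem_of_rep {F : Type u} [Field F] (hB : H8Base.{u} chevE8) (a : List ℕ) (ha : a ∈ e8Reps) :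
    (((w1 chevE8 hB a : GL chevE8.Idx F)) : Matrix chevE8.Idx chevE8.Idx F) ∈
      [chevE8.x F 239 1, chevE8.x F 232 1 * chevE8.x F 233 1,
        chevE8.x F 228 1 * chevE8.x F 222 1 * chevE8.x F 218 1,
        chevE8.x F 226 1 * chevE8.x F 220 1 * chevE8.x F 213 1 * chevE8.x F 216 1] := by
  simp only [e8Reps, List.mem_cons, List.not_mem_nil, or_false] at ha
  rcases ha with rfl | rfl | rfl | rfl <;> simp [w1, h8wordU, h8xU_val, mul_assoc]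

/-- Conjugacy classes of involutions in the Chevalley group of type E₈ over a finite field F of characteristic two (the matrix group generated by the root elements x_r(t)). In this problem's root numbering for type E₈ (the Chevalley data module; fundamental roots numbered so that p₁–p₃–p₄–p₅–p₆–p₇–p₈ is the long chain of the diagram and p₂ is joined to p₄; roots indexed by their coefficient vectors in increasing order) let r = 239 be the highest root (2,3,4,6,5,4,3,2), α = 232 = (2,2,4,5,4,3,2,1), β = 233 = (2,3,3,5,4,3,2,1), γ = 228 = (2,2,3,4,3,2,2,1), δ = 222 = (1,2,3,4,3,3,2,1), ε = 218 = (1,2,2,4,4,3,2,1), φ = 226 = (2,2,3,4,3,2,1,0), ψ = 220 = (1,2,3,4,3,2,1,1), θ = 213 = (1,2,2,3,3,3,2,1), ω = 216 = (1,2,2,4,3,2,2,1) (the roots within each of {α, β}, {γ, δ, ε}, {φ, ψ, θ, ω} pairwise orthogonal); consider x_r(1), x_α(1)x_β(1), x_γ(1)x_δ(1)x_ε(1) and x_φ(1)x_ψ(1)x_θ(1)x_ω(1).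 Then: each invertible matrix equal to one of these four products lies in the group and has order 2; every element of order 2 of the group is conjugate in the group to one of them; and no two of them are conjugate in the group (so, the four matrices being distinct, the group has exactly four conjugacy classes of involutions). -/
theorem result {F : Type*} [Field F] [Fintype F] [CharP F 2] :
    (∀ y : GL Cfsg.Lie.chevE8.Idx F, ((y : GL Cfsg.Lie.chevE8.Idx F) : Matrix Cfsg.Lie.chevE8.Idx Cfsg.Lie.chevE8.Idx F) ∈ [Cfsg.Lie.chevE8.x F 239 1, Cfsg.Lie.chevE8.x F 232 1 * Cfsg.Lie.chevE8.x F 233 1, Cfsg.Lie.chevE8.x F 228 1 * Cfsg.Lie.chevE8.x F 222 1 * Cfsg.Lie.chevE8.x F 218 1, Cfsg.Lie.chevE8.x F 226 1 * Cfsg.Lie.chevE8.x F 220 1 * Cfsg.Lie.chevE8.x F 213 1 * Cfsg.Lie.chevE8.x F 216 1] → y ∈ Cfsg.Lie.chevE8.group F ∧ orderOf y = 2) ∧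
    (∀ g ∈ Cfsg.Lie.chevE8.group F, orderOf g = 2 → ∃ y ∈ Cfsg.Lie.chevE8.group F, ((y : GL Cfsg.Lie.chevE8.Idx F) : Matrix Cfsg.Lie.chevE8.Idx Cfsg.Lie.chevE8.Idx F) ∈ [Cfsg.Lie.chevE8.x F 239 1, Cfsg.Lie.chevE8.x F 232 1 * Cfsg.Lie.chevE8.x F 233 1, Cfsg.Lie.chevE8.x F 228 1 * Cfsg.Lie.chevE8.x F 222 1 * Cfsg.Lie.chevE8.x F 218 1, Cfsg.Lie.chevE8.x F 226 1 * Cfsg.Lie.chevE8.x F 220 1 * Cfsg.Lie.chevE8.x F 213 1 * Cfsg.Lie.chevE8.x F 216 1] ∧ ∃ h ∈ Cfsg.Lie.chevE8.group F, h * g * h⁻¹ = y) ∧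
    (∀ y₁ ∈ Cfsg.Lie.chevE8.group F, ∀ y₂ ∈ Cfsg.Lie.chevE8.group F, ((y₁ : GL Cfsg.Lie.chevE8.Idx F) : Matrix Cfsg.Lie.chevE8.Idx Cfsg.Lie.chevE8.Idx F) ∈ [Cfsg.Lie.chevE8.x F 239 1, Cfsg.Lie.chevE8.x F 232 1 * Cfsg.Lie.chevE8.x F 233 1, Cfsg.Lie.chevE8.x F 228 1 * Cfsg.Lie.chevE8.x F 222 1 * Cfsg.Lie.chevE8.x F 218 1, Cfsg.Lie.chevE8.x F 226 1 * Cfsg.Lie.chevE8.x F 220 1 * Cfsg.Lie.chevE8.x F 213 1 * Cfsg.Lie.chevE8.x F 216 1] → ((y₂ : GL Cfsg.Lie.chevE8.Idx F) : Matrix Cfsg.Lie.chevE8.Idx Cfsg.Lie.chevE8.Idx F) ∈ [Cfsg.Lie.chevE8.x F 239 1, Cfsg.Lie.chevE8.x F 232 1 * Cfsg.Lie.chevE8.x F 233 1, Cfsg.Lie.chevE8.x F 228 1 * Cfsg.Lie.chevE8.x F 222 1 * Cfsg.Lie.chevE8.x F 218 1, Cfsg.Lie.chevE8.x F 226 1 * Cfsg.Lie.chevE8.x F 220 1 * Cfsg.Lie.chevE8.x F 213 1 * Cfsg.Lie.chevE8.x F 216 1] →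
      (∃ h ∈ Cfsg.Lie.chevE8.group F, h * y₁ * h⁻¹ = y₂) → ((y₁ : GL Cfsg.Lie.chevE8.Idx F) : Matrix Cfsg.Lie.chevE8.Idx Cfsg.Lie.chevE8.Idx F) = ((y₂ : GL Cfsg.Lie.chevE8.Idx F) : Matrix Cfsg.Lie.chevE8.Idx Cfsg.Lie.chevE8.Idx F)) := by
  have hB := h8base_all chevE8 e8_mem_list
  refine ⟨?_, ?_, ?_⟩
  · intro y hy
    obtain ⟨a, ha, rfl⟩ := rep_of_mem hB y hy
    exact e8_mem_order hB a ha
  · intro g hg ho
    obtain ⟨a, ha, g', hg', e⟩ := e8_invol_class g hg ho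
    exact ⟨_, (e8_mem_order hB a ha).1, mem_of_rep hB a ha, g', hg', e⟩
  · intro y₁ _ y₂ _ h1 h2 hc
    obtain ⟨a, ha, rfl⟩ := rep_of_mem hB y₁ h1
    obtain ⟨b, hb, rfl⟩ := rep_of_mem hB y₂ h2
    have := e8_not_conj hB a b ha hb hc
    rw [this]

end Cfsg.Agent.S2176
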