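import Cfsg.Statements.S2177
import Cfsg.Agent.Lib.helper14.G2InvE

set_option autoImplicit false
open Cfsg

namespace Cfsg.Agent.S2177

open Cfsg.Agent.Lib.helper8 Cfsg.Agent.Lib.helper14 in
/-- Conjugacy classes of involutions in the Chevalley group of type G₂ over a finite field F of characteristic two with at least four elements (the matrix group generated by the root elements x_r(t)). In this problem's root numbering for type G₂ (the Chevalley data module; p₁ = a short, p₂ = b long; roots indexed by coefficient vectors in increasing order) let 11 be the highest root 3a + 2b (long) and 9 the short root 2a + b; consider x_{3a+2b}(1) and x_{2a+b}(1). Then: each invertible matrix equal to one of these two products lies in the group and has order 2; every element of order 2 of the group is conjugate in the group to one of them; and no two of them are conjugate in the group (so, the two matrices being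 distinct, the group has exactly two conjugacy classes of involutions). -/
theorem result {F : Type*} [Field F] [Fintype F] [CharP F 2] (hF : 4 ≤ Fintype.card F) :
    (∀ y : GL Cfsg.Lie.chevG2.Idx F, ((y : GL Cfsg.Lie.chevG2.Idx F) : Matrix Cfsg.Lie.chevG2.Idx Cfsg.Lie.chevG2.Idx F) ∈ [Cfsg.Lie.chevG2.x F 11 1, Cfsg.Lie.chevG2.x F 9 1] → y ∈ Cfsg.Lie.chevG2.group F ∧ orderOf y = 2) ∧
    (∀ g ∈ Cfsg.Lie.chevG2.group F, orderOf g = 2 → ∃ y ∈ Cfsg.Lie.chevG2.group F, ((y : GL Cfsg.Lie.chevG2.Idx F) : Matrix Cfsg.Lie.chevG2.Idx Cfsg.Lie.chevG2.Idx F) ∈ [Cfsg.Lie.chevG2.x F 11 1, Cfsg.Lie.chevG2.x F 9 1] ∧ ∃ h ∈ Cfsg.Lie.chevG2.group F, h * g * h⁻¹ = y) ∧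
    (∀ y₁ ∈ Cfsg.Lie.chevG2.group F, ∀ y₂ ∈ Cfsg.Lie.chevG2.group F, ((y₁ : GL Cfsg.Lie.chevG2.Idx F) : Matrix Cfsg.Lie.chevG2.Idx Cfsg.Lie.chevG2.Idx F) ∈ [Cfsg.Lie.chevG2.x F 11 1, Cfsg.Lie.chevG2.x F 9 1] → ((y₂ : GL Cfsg.Lie.chevG2.Idx F) : Matrix Cfsg.Lie.chevG2.Idx Cfsg.Lie.chevG2.Idx F) ∈ [Cfsg.Lie.chevG2.x F 11 1, Cfsg.Lie.chevG2.x F 9 1] →
      (∃ h ∈ Cfsg.Lie.chevG2.group F, h * y₁ * h⁻¹ = y₂) → ((y₁ : GL Cfsg.Lie.chevG2.Idx F) : Matrix Cfsg.Lie.chevG2.Idx Cfsg.Lie.chevG2.Idx F) = ((y₂ : GL Cfsg.Lie.chevG2.Idx F) : Matrix Cfsg.Lie.chevG2.Idx Cfsg.Lie.chevG2.Idx F)) := by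
  classical
  have hD : Cfsg.Lie.chevG2 ∈ [Cfsg.Lie.chevG2, Cfsg.Lie.chevB2, Cfsg.Lie.chevD4, Cfsg.Lie.chevF4,
      Cfsg.Lie.chevE6, Cfsg.Lie.chevE7, Cfsg.Lie.chevE8] := by simp
  have hB := h8base_all Cfsg.Lie.chevG2 hD
  have hA := h8reflAll Cfsg.Lie.chevG2 hD
  have hC := h8commAll Cfsg.Lie.chevG2 hD
  have hBN := h8bn_all Cfsg.Lie.chevG2 hD
  have hW := h8bn2_all Cfsg.Lie.chevG2 hD
  obtain ⟨hO, hO2⟩ := h8ord_all Cfsg.Lie.chevG2 hD
  -- the two representatives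
  have hrep : ∀ y : GL Cfsg.Lie.chevG2.Idx F,
      (y : Matrix Cfsg.Lie.chevG2.Idx Cfsg.Lie.chevG2.Idx F) ∈
        [Cfsg.Lie.chevG2.x F 11 1, Cfsg.Lie.chevG2.x F 9 1] →
      y = h8xU Cfsg.Lie.chevG2 hB 11 1 ∨ y = h8xU Cfsg.Lie.chevG2 hB 9 1 := by
    intro y hy
    simp only [List.mem_cons, List.mem_nil_iff, or_false] at hy
    rcases hy with hy | hy
    · exact Or.inl (Units.ext (by rw [hy, h8xU_val]))
    · exact Or.inr (Units.ext (by rw [hy, h8xU_val]))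
  have hval : ∀ r : ℕ, ((h8xU Cfsg.Lie.chevG2 hB r (1 : F) : GL Cfsg.Lie.chevG2.Idx F) :
      Matrix Cfsg.Lie.chevG2.Idx Cfsg.Lie.chevG2.Idx F) = Cfsg.Lie.chevG2.x F r 1 :=
    fun r => h8xU_val Cfsg.Lie.chevG2 hB r 1
  have hne1 : ∀ r : ℕ, 6 ≤ r → r < 12 → h8xU Cfsg.Lie.chevG2 hB r (1 : F) ≠ 1 := by
    intro r h6 h12 h1
    exact one_ne_zero (g2i_x_eq_one hB hO2 r h6 h12 (1 : F) h1)
  refine ⟨?_, ?_, ?_⟩
  · intro y hy
    have key : ∀ r : ℕ, 6 ≤ r → r < 12 → h8xU Cfsg.Lie.chevG2 hB r (1 : F) ∈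
        Cfsg.Lie.chevG2.group F ∧ orderOf (h8xU Cfsg.Lie.chevG2 hB r (1 : F)) = 2 := by
      intro r h6 h12
      refine ⟨h8xU_mem_group Cfsg.Lie.chevG2 hB r 1, ?_⟩
      apply orderOf_eq_prime
      · rw [pow_two]
        exact g2i_sq hB r h12 1
      · exact hne1 r h6 h12
    rcases hrep y hy with rfl | rfl
    · exact key 11 (by omega) (by omega)
    · exact key 9 (by omega) (by omega)
  · intro g hgG hord
    have hsq : g * g = 1 := by
      rw [← pow_two, ← hord]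
      exact pow_orderOf_eq_one g
    have hne : g ≠ 1 := by
      rintro rfl
      rw [orderOf_one] at hord
      omega
    obtain ⟨k, hk, hkU⟩ := g2i_sylow g hgG hord
    have hsq1 := g2i_conj_sq k g hsq
    have hne1' : k * g * k⁻¹ ≠ 1 := by
      intro h1
      apply hne
      have : g = k⁻¹ * (k * g * k⁻¹) * k := by group
      rw [this, h1]; group
    rcases g2i_U_inv hB hA hC hO hO2 _ hkU hsq1 hne1' with ⟨h, hh, e⟩ | ⟨h, hh, e⟩
    · refine ⟨h8xU Cfsg.Lie.chevG2 hB 11 1, h8xU_mem_group Cfsg.Lie.chevG2 hB 11 1, ?_,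
        h * k, Subgroup.mul_mem _ hh hk, ?_⟩
      · rw [hval]; simp
      · rw [← e]; group
    · refine ⟨h8xU Cfsg.Lie.chevG2 hB 9 1, h8xU_mem_group Cfsg.Lie.chevG2 hB 9 1, ?_,
        h * k, Subgroup.mul_mem _ hh hk, ?_⟩
      · rw [hval]; simp
      · rw [← e]; group
  · intro y₁ _ y₂ _ hy₁ hy₂ hconj
    obtain ⟨h, hh, e⟩ := hconj
    rcases hrep y₁ hy₁ with rfl | rfl <;> rcases hrep y₂ hy₂ with rfl | rfl
    · rfl
    · exact (g2i_not_conj hB hA hC hBN hW hO hO2 h hh e).elim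
    · exfalso
      apply g2i_not_conj hB hA hC hBN hW hO hO2 h⁻¹ (Subgroup.inv_mem _ hh)
      rw [← e]; group
    · rfl

end Cfsg.Agent.S2177
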