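import Cfsg.Statements.S2178
import Cfsg.Agent.Lib.helper8.ChevCentTab

set_option autoImplicit false
open Cfsg

namespace Cfsg.Agent.S2178

theorem closure_roots_eq {F : Type*} [Field F] (D : Cfsg.Lie.ChevalleyDatum) (a b c : ℕ) :
    Subgroup.closure {g : GL D.Idx F | ∃ s ∈ [a, b, c], ∃ v : F,
      (g : Matrix D.Idx D.Idx F) = D.x F s v} =
      D.rootSubgroup F a ⊔ D.rootSubgroup F b ⊔ D.rootSubgroup F c := by
  apply le_antisymm
  · rw [Subgroup.closure_le]
    rintro g ⟨s, hs, v, hg⟩
    simp only [List.mem_cons, List.mem_nil_iff, or_false] at hs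
    rcases hs with rfl | rfl | rfl
    · exact Subgroup.mem_sup_left (Subgroup.mem_sup_left (Subgroup.subset_closure ⟨v, hg⟩))
    · exact Subgroup.mem_sup_left (Subgroup.mem_sup_right (Subgroup.subset_closure ⟨v, hg⟩))
    · exact Subgroup.mem_sup_right (Subgroup.subset_closure ⟨v, hg⟩)
  · refine sup_le (sup_le ?_ ?_) ?_
    · apply Subgroup.closure_mono
      rintro g ⟨v, hg⟩
      exact ⟨a, by simp, v, hg⟩
    · apply Subgroup.closure_mono
      rintro g ⟨v, hg⟩
      exact ⟨b, by simp, v, hg⟩
    · apply Subgroup.closure_mono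
      rintro g ⟨v, hg⟩
      exact ⟨c, by simp, v, hg⟩

open Cfsg.Agent.Lib.helper8 in
/-- Centralizers of the long and the short root involutions in the Chevalley group G of type F₄ over a finite field F of characteristic two (this problem's root numbering for type F₄, from the Chevalley data module: fundamental roots p₁, p₂ short, p₃, p₄ long, with indices 33, 27, 25, 24, their negatives 14, 20, 22, 23; highest root 47, highest short root 44; U the subgroup generated by the positive root subgroups). For an element t of G with matrix x_47(1): the centralizer of t in G is the subgroup generated by U and the root subgroups X_{−p₁}, X_{−p₂}, X_{−p₃} (the unipotent radical of the maximal parabolic subgroup whose Levi factor has fundamental roots p₁, p₂, p₃, together with that Levi factor's root subgroups; the Levi factor is of type C₃). For an element u of G with matrix x_44(1): the centralizer of u in G is generated by U and X_{−p₂}, X_{−p₃}, X_{−p₄} (the same construction for the Levi factor with fundamental roots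 p₂, p₃, p₄, of type B₃). -/
theorem result {F : Type*} [Field F] [Fintype F] [CharP F 2] (t u : GL Cfsg.Lie.chevF4.Idx F) (ht : (t : Matrix Cfsg.Lie.chevF4.Idx Cfsg.Lie.chevF4.Idx F) = Cfsg.Lie.chevF4.x F 47 1) (hu : (u : Matrix Cfsg.Lie.chevF4.Idx Cfsg.Lie.chevF4.Idx F) = Cfsg.Lie.chevF4.x F 44 1) :
    Cfsg.Lie.chevF4.group F ⊓ Subgroup.centralizer {t} = Cfsg.Lie.chevF4.posUnipotent F ⊔ Cfsg.Lie.chevF4.rootSubgroup F 14 ⊔ Cfsg.Lie.chevF4.rootSubgroup F 20 ⊔ Cfsg.Lie.chevF4.rootSubgroup F 22 ∧
    Cfsg.Lie.chevF4.group F ⊓ Subgroup.centralizer {u} = Cfsg.Lie.chevF4.posUnipotent F ⊔ Cfsg.Lie.chevF4.rootSubgroup F 20 ⊔ Cfsg.Lie.chevF4.rootSubgroup F 22 ⊔ Cfsg.Lie.chevF4.rootSubgroup F 23 := by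
  constructor
  · have e : [0, 1, 2].map (fun i => Cfsg.Lie.chevF4.neg (Cfsg.Lie.chevF4.simple i)) =
        [14, 20, 22] := by decide +kernel
    have h := h8cent_main (F := F) Cfsg.Lie.chevF4 (by simp) 47 [0, 1, 2] 3 0 h8centChk_F4a
      (by simp) t ht
    rw [e, closure_roots_eq, ← sup_assoc, ← sup_assoc] at h
    exact h
  · have e : [1, 2, 3].map (fun i => Cfsg.Lie.chevF4.neg (Cfsg.Lie.chevF4.simple i)) =
        [20, 22, 23] := by decide +kernel
    have h2 : ((2 : ℕ) : ℤ) = (2 : ℤ) := rfl
    have h := h8cent_main (F := F) Cfsg.Lie.chevF4 (by simp) 44 [1, 2, 3] 0 2 h8centChk_F4b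
      (by
        have : ((2 : ℕ) : F) = 0 := CharP.cast_eq_zero F 2
        exact_mod_cast this) u hu
    rw [e, closure_roots_eq, ← sup_assoc, ← sup_assoc] at h
    exact h

end Cfsg.Agent.S2178
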