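import Cfsg.Statements.S2180
import Cfsg.Agent.Lib.helper14.G2CentD

set_option autoImplicit false
open Cfsg

namespace Cfsg.Agent.S2180

open Cfsg.Agent.Lib.helper8 in
theorem centChk_G2 : h8centChk Cfsg.Lie.chevG2 11 [0] 1 0 = true := by decide +kernel

theorem closure_root_eq {F : Type*} [Field F] (D : Cfsg.Lie.ChevalleyDatum) (a : ℕ) :
    Subgroup.closure {g : GL D.Idx F | ∃ s ∈ [a], ∃ v : F,
      (g : Matrix D.Idx D.Idx F) = D.x F s v} = D.rootSubgroup F a := by
  unfold Cfsg.Lie.ChevalleyDatum.rootSubgroup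
  congr 1
  ext g
  simp

open Cfsg.Agent.Lib.helper8 Cfsg.Agent.Lib.helper14 in
/-- Centralizers of involutions in the Chevalley group G of type G₂ over a finite field F of characteristic two with at least four elements (this problem's root numbering for type G₂, from the Chevalley data module: a = p₁ short with index 7, b = p₂ long with index 6, −a = 4, −b = 5, 2a + b = 9, 3a + b = 10, 3a + 2b = 11; U generated by the positive root subgroups). For an element z of G with matrix x_{3a+2b}(1): the centralizer of z in G is generated by U and X_{−a}. For an element t of G with matrix x_{2a+b}(1): the centralizer of t in G is generated by X_{2a+b}, X_{3a+b}, X_{3a+2b}, X_b and X_{−b}. -/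
theorem result {F : Type*} [Field F] [Fintype F] [CharP F 2] (hF : 4 ≤ Fintype.card F) (z t : GL Cfsg.Lie.chevG2.Idx F) (hz : (z : Matrix Cfsg.Lie.chevG2.Idx Cfsg.Lie.chevG2.Idx F) = Cfsg.Lie.chevG2.x F 11 1) (ht : (t : Matrix Cfsg.Lie.chevG2.Idx Cfsg.Lie.chevG2.Idx F) = Cfsg.Lie.chevG2.x F 9 1) :
    Cfsg.Lie.chevG2.group F ⊓ Subgroup.centralizer {z} = Cfsg.Lie.chevG2.posUnipotent F ⊔ Cfsg.Lie.chevG2.rootSubgroup F 4 ∧
    Cfsg.Lie.chevG2.group F ⊓ Subgroup.centralizer {t} = Cfsg.Lie.chevG2.rootSubgroup F 9 ⊔ Cfsg.Lie.chevG2.rootSubgroup F 10 ⊔ Cfsg.Lie.chevG2.rootSubgroup F 11 ⊔ Cfsg.Lie.chevG2.rootSubgroup F 6 ⊔ Cfsg.Lie.chevG2.rootSubgroup F 5 := by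
  constructor
  · have e : [0].map (fun i => Cfsg.Lie.chevG2.neg (Cfsg.Lie.chevG2.simple i)) = [4] := by
      decide +kernel
    have h := h8cent_main (F := F) Cfsg.Lie.chevG2 (by simp) 11 [0] 1 0 centChk_G2 (by simp) z hz
    rw [e, closure_root_eq] at h
    exact h
  · apply g2c_cent9 _ t ht
    have h2 : (2 : F) = 0 := by
      have : ((2 : ℕ) : F) = 0 := CharP.cast_eq_zero F 2
      exact_mod_cast this
    have h3 : (3 : F) = 1 := by
      have : (3 : F) = 2 + 1 := by norm_num
      rw [this, h2, zero_add]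
    rw [h3]
    exact one_ne_zero

end Cfsg.Agent.S2180
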