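import Cfsg.Statements.S2182
-- import your own Cfsg.Agent.* helpers here
import Cfsg.Agent.Lib.helper6.TWIE6.Asm
import Cfsg.Agent.Lib.helper6.TWIE6REPM
import Cfsg.Agent.Lib.Helper21.INVE6.NC
import Cfsg.Agent.Lib.Helper21.INVE6.MEM

set_option autoImplicit false
open Cfsg

namespace Cfsg.Agent.S2182

open Cfsg.Lie Cfsg.Lie.ChevalleyDatum Cfsg.Agent.Lib.helper8 Cfsg.Agent.Lib.helper14
  Cfsg.Agent.Lib.helper14.INV Cfsg.Agent.Lib.helper14.TWI Cfsg.Agent.Lib.helper6.TWIE6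

universe u

theorem count_three {G : Type*} [Group G] (a₁ a₂ a₃ : G) (h1 : orderOf a₁ = 2)
    (h2 : orderOf a₂ = 2) (h3 : orderOf a₃ = 2)
    (hne12 : ¬ IsConj a₁ a₂) (hne13 : ¬ IsConj a₁ a₃) (hne23 : ¬ IsConj a₂ a₃)
    (hall : ∀ g : G, orderOf g = 2 → IsConj g a₁ ∨ IsConj g a₂ ∨ IsConj g a₃) :
    (ConjClasses.mk '' {g : G | orderOf g = 2}).ncard = 3 := by
  have e : ConjClasses.mk '' {g : G | orderOf g = 2} =
      {ConjClasses.mk a₁, ConjClasses.mk a₂, ConjClasses.mk a₃} := by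
    ext c
    simp only [Set.mem_image, Set.mem_setOf_eq, Set.mem_insert_iff, Set.mem_singleton_iff]
    constructor
    · rintro ⟨g, hg, rfl⟩
      rcases hall g hg with h | h | h
      · exact Or.inl (ConjClasses.mk_eq_mk_iff_isConj.mpr h)
      · exact Or.inr (Or.inl (ConjClasses.mk_eq_mk_iff_isConj.mpr h))
      · exact Or.inr (Or.inr (ConjClasses.mk_eq_mk_iff_isConj.mpr h))
    · rintro (rfl | rfl | rfl)
      · exact ⟨a₁, h1, rfl⟩
      · exact ⟨a₂, h2, rfl⟩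
      · exact ⟨a₃, h3, rfl⟩
  rw [e]
  apply Set.ncard_eq_three.mpr
  refine ⟨_, _, _, ?_, ?_, ?_, rfl⟩
  · intro h
    exact hne12 (ConjClasses.mk_eq_mk_iff_isConj.mp h)
  · intro h
    exact hne13 (ConjClasses.mk_eq_mk_iff_isConj.mp h)
  · intro h
    exact hne23 (ConjClasses.mk_eq_mk_iff_isConj.mp h)

/-- The twisted group ²E₆(q), q even, realised inside the Chevalley group of type E₆ over the field K with q² elements, has exactly three conjugacy classes of elements of order 2. -/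
theorem result {K : Type*} [Field K] [Fintype K] [CharP K 2] (q : ℕ) (hK : Fintype.card K = q ^ 2) :
    (ConjClasses.mk '' {g : ↥(Cfsg.Lie.twistedE6 K q) | orderOf g = 2}).ncard = 3 := by
  have hD := te6_mem_list
  have hB := h8base_all chevE6 hD
  have hq := te6_primePow q hK
  obtain ⟨hmemW, -⟩ := te6_mem q hq hK hB
  have hG₁ : twistedE6 K q ≤ chevE6.group K := h8gen_le_group chevE6 hB _
  have hrho : ([71] : List ℕ) ∈ te6RhoOrbs ∧ ([68, 66] : List ℕ) ∈ te6RhoOrbs ∧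
      ([55, 67] : List ℕ) ∈ te6RhoOrbs ∧ ([65] : List ℕ) ∈ te6RhoOrbs := by decide
  have m1 : (w1 chevE6 hB [71] : GL chevE6.Idx K) ∈ twistedE6 K q := hmemW [71] hrho.1
  have m2 : (w1 chevE6 hB [68, 66] : GL chevE6.Idx K) ∈ twistedE6 K q := hmemW [68, 66] hrho.2.1
  have m3 : (w1 chevE6 hB [55, 65, 67] : GL chevE6.Idx K) ∈ twistedE6 K q :=
    te6_rep_memG hB _ hmemW [55, 65, 67] (by simp [te6Reps])
  have cjconv : ∀ (x y : ↥(twistedE6 K q)),
      CjS chevE6 (twistedE6 K q) (x : GL chevE6.Idx K) (y : GL chevE6.Idx K) → IsConj x y := by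
    intro x y ⟨g, hg, e⟩
    rw [isConj_iff]
    exact ⟨⟨g, hg⟩, Subtype.ext (by simpa using e)⟩
  have hnc : ∀ (a b : List ℕ) (ha : a ∈ e6Reps) (hb : b ∈ e6Reps) (hab : a ≠ b)
      (ma : (w1 chevE6 hB a : GL chevE6.Idx K) ∈ twistedE6 K q)
      (mb : (w1 chevE6 hB b : GL chevE6.Idx K) ∈ twistedE6 K q),
      ¬ IsConj (⟨_, ma⟩ : ↥(twistedE6 K q)) ⟨_, mb⟩ := by
    intro a b ha hb hab ma mb h
    rw [isConj_iff] at h
    obtain ⟨c, hc⟩ := h
    apply hab
    apply e6_not_conj (F := K) hB a b ha hb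
    refine ⟨(c : GL chevE6.Idx K), hG₁ c.2, ?_⟩
    have := congrArg Subtype.val hc
    simpa using this
  have hord : ∀ (a : List ℕ) (ha : a ∈ e6Reps)
      (ma : (w1 chevE6 hB a : GL chevE6.Idx K) ∈ twistedE6 K q),
      orderOf (⟨_, ma⟩ : ↥(twistedE6 K q)) = 2 := by
    intro a ha ma
    rw [← Subgroup.orderOf_coe]
    exact (e6_mem_order hB a ha).2
  apply count_three (⟨_, m1⟩ : ↥(twistedE6 K q)) ⟨_, m2⟩ ⟨_, m3⟩
  · exact hord _ (by simp [e6Reps]) m1
  · exact hord _ (by simp [e6Reps]) m2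
  · exact hord _ (by simp [e6Reps]) m3
  · exact hnc _ _ (by simp [e6Reps]) (by simp [e6Reps]) (by decide) m1 m2
  · exact hnc _ _ (by simp [e6Reps]) (by simp [e6Reps]) (by decide) m1 m3
  · exact hnc _ _ (by simp [e6Reps]) (by simp [e6Reps]) (by decide) m2 m3
  · intro g hg
    have hg' : orderOf (g : GL chevE6.Idx K) = 2 := by rw [Subgroup.orderOf_coe]; exact hg
    obtain ⟨a, ha, hc⟩ := te6_invol_class q hK (g : GL chevE6.Idx K) g.2 hg'
    simp only [te6Reps, List.mem_cons, List.not_mem_nil, or_false] at ha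
    rcases ha with rfl | rfl | rfl
    · exact Or.inl (cjconv g ⟨_, m1⟩ hc)
    · exact Or.inr (Or.inl (cjconv g ⟨_, m2⟩ hc))
    · exact Or.inr (Or.inr (cjconv g ⟨_, m3⟩ hc))

end Cfsg.Agent.S2182
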