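import Cfsg.Statements.S2183
-- import your own Cfsg.Agent.* helpers here
import Cfsg.Agent.Lib.helper14.TWI.AsmD4

set_option autoImplicit false
open Cfsg

namespace Cfsg.Agent.S2183

open Cfsg.Lie Cfsg.Lie.ChevalleyDatum Cfsg.Agent.Lib.helper8 Cfsg.Agent.Lib.helper14
  Cfsg.Agent.Lib.helper14.INV Cfsg.Agent.Lib.helper14.TWI

universe u

theorem count_two {G : Type*} [Group G] (a₁ a₂ : G) (h1 : orderOf a₁ = 2) (h2 : orderOf a₂ = 2)
    (hne : ¬ IsConj a₁ a₂)
    (hall : ∀ g : G, orderOf g = 2 → IsConj g a₁ ∨ IsConj g a₂) :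
    (ConjClasses.mk '' {g : G | orderOf g = 2}).ncard = 2 := by
  have e : ConjClasses.mk '' {g : G | orderOf g = 2} = {ConjClasses.mk a₁, ConjClasses.mk a₂} := by
    ext c
    simp only [Set.mem_image, Set.mem_setOf_eq, Set.mem_insert_iff, Set.mem_singleton_iff]
    constructor
    · rintro ⟨g, hg, rfl⟩
      rcases hall g hg with h | h
      · exact Or.inl (ConjClasses.mk_eq_mk_iff_isConj.mpr h)
      · exact Or.inr (ConjClasses.mk_eq_mk_iff_isConj.mpr h)
    · rintro (rfl | rfl)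
      · exact ⟨a₁, h1, rfl⟩
      · exact ⟨a₂, h2, rfl⟩
  rw [e]
  apply Set.ncard_pair
  intro h
  exact hne (ConjClasses.mk_eq_mk_iff_isConj.mp h)

/-- The twisted group ³D₄(q), q even, realised inside the Chevalley group of type D₄ over the field K with q³ elements, has exactly two conjugacy classes of elements of order 2. -/
theorem result {K : Type*} [Field K] [Fintype K] [CharP K 2] (q : ℕ) (hK : Fintype.card K = q ^ 3) :
    (ConjClasses.mk '' {g : ↥(Cfsg.Lie.twistedD4 K q) | orderOf g = 2}).ncard = 2 := by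
  have hD := d4_mem_list
  have hB := h8base_all chevD4 hD
  have hq := d4_primePow q hK
  obtain ⟨hmemW, -, -⟩ := d4_mem q hq hK hB
  have hG₁ : twistedD4 K q ≤ chevD4.group K := h8gen_le_group chevD4 hB _
  have m1 : (w1 chevD4 hB [23] : GL chevD4.Idx K) ∈ twistedD4 K q := hmemW [23] (by simp)
  have m2 : (w1 chevD4 hB [17, 20, 21] : GL chevD4.Idx K) ∈ twistedD4 K q :=
    hmemW [17, 20, 21] (by simp)
  have cjconv : ∀ (x y : ↥(twistedD4 K q)),
      CjS chevD4 (twistedD4 K q) (x : GL chevD4.Idx K) (y : GL chevD4.Idx K) → IsConj x y := by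
    intro x y ⟨g, hg, e⟩
    rw [isConj_iff]
    exact ⟨⟨g, hg⟩, Subtype.ext (by simpa using e)⟩
  apply count_two (⟨_, m1⟩ : ↥(twistedD4 K q)) ⟨_, m2⟩
  · rw [← Subgroup.orderOf_coe]
    exact d4_order hB [23] (by simp [d4Reps])
  · rw [← Subgroup.orderOf_coe]
    exact d4_order hB [17, 20, 21] (by simp [d4Reps])
  · intro h
    rw [isConj_iff] at h
    obtain ⟨c, hc⟩ := h
    apply d4_not_conj (K := K) hB
    refine ⟨(c : GL chevD4.Idx K), hG₁ c.2, ?_⟩
    have := congrArg Subtype.val hc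
    simpa using this
  · intro g hg
    have hg' : orderOf (g : GL chevD4.Idx K) = 2 := by rw [Subgroup.orderOf_coe]; exact hg
    obtain ⟨a, ha, hc⟩ := d4_invol_class q hK (g : GL chevD4.Idx K) g.2 hg'
    simp only [d4Reps, List.mem_cons, List.not_mem_nil, or_false] at ha
    rcases ha with rfl | rfl
    · exact Or.inl (cjconv g ⟨_, m1⟩ hc)
    · exact Or.inr (cjconv g ⟨_, m2⟩ hc)

end Cfsg.Agent.S2183
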