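import Cfsg.Statements.S2231

set_option autoImplicit false
set_option linter.unusedSectionVars false
open Cfsg

namespace Cfsg.Agent.S2231

def AbP (p : ℕ) (G : Type*) [Group G] : Prop :=
  ∀ Q : Subgroup G, IsPGroup p Q → ∀ x ∈ Q, ∀ y ∈ Q, x * y = y * x

section general
variable {p : ℕ} [Fact p.Prime] {G : Type*} [Group G]

theorem abP_of_sylow [Finite G] (P : Sylow p G)
    (hP : ∀ x ∈ (P : Subgroup G), ∀ y ∈ (P : Subgroup G), x * y = y * x) : AbP p G := by
  intro Q hQ x hx y hy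
  obtain ⟨R, hR⟩ := hQ.exists_le_sylow
  obtain ⟨g, hg⟩ := MulAction.exists_smul_eq G P R
  have hx' : x ∈ (R : Subgroup G) := hR hx
  have hy' : y ∈ (R : Subgroup G) := hR hy
  rw [← hg, Sylow.coe_subgroup_smul, Subgroup.mem_pointwise_smul_iff_inv_smul_mem] at hx' hy'
  have hx2 : g⁻¹ * x * g ∈ (P : Subgroup G) := by
    have : (MulAut.conj g)⁻¹ • x = g⁻¹ * x * g := by
      rw [← map_inv]; simp [MulAut.smul_def]
    rwa [this] at hx'
  have hy2 : g⁻¹ * y * g ∈ (P : Subgroup G) := by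
    have : (MulAut.conj g)⁻¹ • y = g⁻¹ * y * g := by
      rw [← map_inv]; simp [MulAut.smul_def]
    rwa [this] at hy'
  have h := hP _ hx2 _ hy2
  have e1 : x * y = g * ((g⁻¹ * x * g) * (g⁻¹ * y * g)) * g⁻¹ := by group
  have e2 : y * x = g * ((g⁻¹ * y * g) * (g⁻¹ * x * g)) * g⁻¹ := by group
  rw [e1, e2, h]

theorem abP_subgroup (h : AbP p G) (H : Subgroup G) : AbP p H := by
  intro Q hQ x hx y hy
  have hQ' : IsPGroup p (Q.map H.subtype) := hQ.map _
  have := h (Q.map H.subtype) hQ' (x : G) (Subgroup.mem_map_of_mem _ hx) (y : G) (Subgroup.mem_map_of_mem _ hy)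
  apply Subtype.ext
  exact this

theorem abP_of_surjective [Finite G] {G' : Type*} [Group G'] (f : G →* G') (hf : Function.Surjective f)
    (h : AbP p G) : AbP p G' := by
  haveI : Finite G' := Finite.of_surjective f hf
  obtain ⟨P⟩ : Nonempty (Sylow p G) := Sylow.nonempty
  apply abP_of_sylow (P.mapSurjective hf)
  intro x hx y hy
  rw [Sylow.coe_mapSurjective] at hx hy
  obtain ⟨a, ha, rfl⟩ := hx
  obtain ⟨b, hb, rfl⟩ := hy
  rw [← map_mul, ← map_mul, h (P : Subgroup G) P.2 a ha b hb]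

theorem abP_equiv {G' : Type*} [Group G'] (e : G ≃* G') (h : AbP p G) : AbP p G' := by
  intro Q hQ x hx y hy
  have hQ' : IsPGroup p (Q.map e.symm.toMonoidHom) := hQ.map _
  have := h (Q.map e.symm.toMonoidHom) hQ' (e.symm x) (Subgroup.mem_map_of_mem _ hx) (e.symm y)
    (Subgroup.mem_map_of_mem _ hy)
  have := congrArg e this
  simpa using this

end general


section sl2
variable {p : ℕ} [Fact p.Prime] {K : Type*} [Field K] [Fintype K] [CharP K p]

def uMat (b : K) : Matrix.SpecialLinearGroup (Fin 2) K :=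
  ⟨!![1, b; 0, 1], by rw [Matrix.det_fin_two_of]; ring⟩

theorem uMat_coe (b : K) : ((uMat b : Matrix.SpecialLinearGroup (Fin 2) K) : Matrix (Fin 2) (Fin 2) K) = !![1, b; 0, 1] := rfl

theorem uMat_mul (a b : K) : uMat a * uMat b = uMat (a + b) := by
  apply Subtype.ext
  show (!![1, a; 0, 1] : Matrix (Fin 2) (Fin 2) K) * !![1, b; 0, 1] = !![1, a + b; 0, 1]
  rw [Matrix.mul_fin_two]
  congr 1
  ext i j
  fin_cases i <;> fin_cases j <;> simp [add_comm]

theorem uMat_zero : uMat (0 : K) = 1 := by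
  apply Subtype.ext
  show (!![1, 0; 0, 1] : Matrix (Fin 2) (Fin 2) K) = 1
  rw [Matrix.one_fin_two]

def uHom : Multiplicative K →* Matrix.SpecialLinearGroup (Fin 2) K where
  toFun b := uMat (Multiplicative.toAdd b)
  map_one' := uMat_zero
  map_mul' a b := (uMat_mul _ _).symm

theorem uHom_apply (b : Multiplicative K) : uHom b = uMat (Multiplicative.toAdd b) := rfl

theorem uHom_injective : Function.Injective (uHom (K := K)) := by
  intro a b h
  rw [uHom_apply, uHom_apply] at h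
  have := congrArg (fun g : Matrix.SpecialLinearGroup (Fin 2) K => (g : Matrix (Fin 2) (Fin 2) K) 0 1) h
  simp only [uMat_coe] at this
  simpa using this

theorem uRange_comm (x : Matrix.SpecialLinearGroup (Fin 2) K) (hx : x ∈ (uHom (K := K)).range)
    (y : Matrix.SpecialLinearGroup (Fin 2) K) (hy : y ∈ (uHom (K := K)).range) : x * y = y * x := by
  obtain ⟨a, rfl⟩ := hx
  obtain ⟨b, rfl⟩ := hy
  rw [← map_mul, ← map_mul, mul_comm]

theorem uRange_card : Nat.card (uHom (K := K)).range = Fintype.card K := by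
  rw [← Nat.card_congr (MonoidHom.ofInjective (uHom_injective (K := K))).toEquiv, Nat.card_eq_fintype_card,
    Fintype.card_multiplicative]

theorem uRange_index : ¬ p ∣ ((uHom (K := K)).range).index := by
  obtain ⟨n, hp, hq⟩ := FiniteField.card K p
  set q := Fintype.card K with hqdef
  have hpq : p ∣ q := by rw [hq]; exact dvd_pow_self p n.ne_zero
  have hqpos : 0 < q := Fintype.card_pos
  have h1 : Nat.card (uHom (K := K)).range * ((uHom (K := K)).range).index =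
      Nat.card (Matrix.SpecialLinearGroup (Fin 2) K) := Subgroup.card_mul_index _
  have h2 : Nat.card (Matrix.SpecialLinearGroup (Fin 2) K) ∣ Nat.card (GL (Fin 2) K) :=
    Subgroup.card_dvd_of_injective Matrix.SpecialLinearGroup.toGL Matrix.SpecialLinearGroup.toGL_injective
  have h3 : Nat.card (GL (Fin 2) K) = (q ^ 2 - 1) * (q ^ 2 - q) := by
    rw [Matrix.card_GL_field, Fin.prod_univ_two]; simp [hqdef]
  rw [← h1, uRange_card, h3] at h2
  have h4 : q ^ 2 - q = q * (q - 1) := by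
    rw [Nat.mul_sub, mul_one, pow_two]
  rw [h4] at h2
  have h5 : (q ^ 2 - 1) * (q * (q - 1)) = q * ((q ^ 2 - 1) * (q - 1)) := by ring
  rw [h5] at h2
  have h6 := Nat.dvd_of_mul_dvd_mul_left hqpos h2
  intro hdiv
  have h7 := hdiv.trans h6
  rcases (Nat.Prime.dvd_mul hp).mp h7 with h8 | h8
  · have h9 : p ∣ q ^ 2 := dvd_pow hpq (by norm_num)
    have h10 := Nat.dvd_sub h9 h8
    have hq2 : 1 ≤ q ^ 2 := Nat.one_le_pow _ _ hqpos
    have : q ^ 2 - (q ^ 2 - 1) = 1 := by omega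
    rw [this] at h10
    exact hp.one_lt.ne' (Nat.dvd_one.mp h10)
  · have h10 := Nat.dvd_sub hpq h8
    have : q - (q - 1) = 1 := by omega
    rw [this] at h10
    exact hp.one_lt.ne' (Nat.dvd_one.mp h10)

theorem sl2_abP : AbP p (Matrix.SpecialLinearGroup (Fin 2) K) := by
  obtain ⟨n, hp, hq⟩ := FiniteField.card K p
  have hU : IsPGroup p (uHom (K := K)).range := IsPGroup.of_card (uRange_card.trans hq)
  apply abP_of_sylow (hU.toSylow (uRange_index (p := p)))
  intro x hx y hy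
  rw [IsPGroup.toSylow_coe] at hx hy
  exact uRange_comm x hx y hy

theorem psl2_abP : AbP p (Matrix.ProjectiveSpecialLinearGroup (Fin 2) K) :=
  abP_of_surjective (QuotientGroup.mk' _) (QuotientGroup.mk'_surjective _) (sl2_abP (p := p))

end sl2


section ut3
variable {p : ℕ} [Fact p.Prime]

local notation "SL3" => Matrix.SpecialLinearGroup (Fin 3) (ZMod p)
local notation "M3" => Matrix (Fin 3) (Fin 3) (ZMod p)

def IsUT (M : M3) : Prop :=
  M 1 0 = 0 ∧ M 2 0 = 0 ∧ M 2 1 = 0 ∧ M 0 0 = 1 ∧ M 1 1 = 1 ∧ M 2 2 = 1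

theorem isUT_mul (A B : M3) (hA : IsUT A) (hB : IsUT B) : IsUT (A * B) := by
  obtain ⟨a1, a2, a3, a4, a5, a6⟩ := hA
  obtain ⟨b1, b2, b3, b4, b5, b6⟩ := hB
  refine ⟨?_, ?_, ?_, ?_, ?_, ?_⟩ <;>
    simp [Matrix.mul_apply, Fin.sum_univ_three, a1, a2, a3, a4, a5, a6, b1, b2, b3, b4, b5, b6]

theorem isUT_one : IsUT (1 : M3) := by
  refine ⟨?_, ?_, ?_, ?_, ?_, ?_⟩ <;> simp

theorem isUT_adjugate (A : M3) (hA : IsUT A) : IsUT A.adjugate := by
  obtain ⟨a1, a2, a3, a4, a5, a6⟩ := hA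
  rw [Matrix.adjugate_fin_three]
  refine ⟨?_, ?_, ?_, ?_, ?_, ?_⟩ <;>
    simp [a1, a2, a3, a4, a5, a6]

def UT : Subgroup SL3 where
  carrier := {g | IsUT (g : M3)}
  mul_mem' := fun {a b} ha hb => isUT_mul _ _ ha hb
  one_mem' := isUT_one
  inv_mem' := fun {a} ha => by
    show IsUT ((a⁻¹ : SL3) : M3)
    rw [Matrix.SpecialLinearGroup.coe_inv]
    exact isUT_adjugate _ ha

theorem mem_UT (g : SL3) : g ∈ UT (p := p) ↔ IsUT (g : M3) := Iff.rfl

theorem nil_cube (A : M3) (hA : IsUT A) : (A - 1) * (A - 1) * (A - 1) = 0 := by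
  obtain ⟨a1, a2, a3, a4, a5, a6⟩ := hA
  ext i j
  fin_cases i <;> fin_cases j <;>
    simp [Matrix.mul_apply, Fin.sum_univ_three, a1, a2, a3, a4, a5, a6]

theorem pow_p_eq_one (hp : p ≠ 2) (A : M3) (hA : IsUT A) : A ^ p = 1 := by
  have h3 : 3 ≤ p := by
    have := (Fact.out : p.Prime).two_le
    omega
  have hN' : ∀ m : ℕ, 3 ≤ m → (A - 1) ^ m = 0 := by
    intro m hm
    obtain ⟨k, hk⟩ := Nat.exists_eq_add_of_le hm
    rw [hk, pow_add, pow_succ, pow_two, nil_cube A hA, zero_mul]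
  have hN : (A - 1) ^ p = 0 := hN' p h3
  have h1 : A = (A - 1) + 1 := by abel
  have h2 := add_pow_char_of_commute (p := p) (Commute.one_right (A - 1))
  rw [hN, one_pow, zero_add, ← h1] at h2
  exact h2

theorem UT_isPGroup (hp : p ≠ 2) : IsPGroup p (UT (p := p)) := by
  intro g
  refine ⟨1, ?_⟩
  rw [pow_one]
  apply Subtype.ext
  apply Subtype.ext
  show ((g : SL3) ^ p : SL3).1 = 1
  rw [Matrix.SpecialLinearGroup.coe_pow]
  exact pow_p_eq_one hp _ g.2

def xEl : SL3 := ⟨!![1, 1, 0; 0, 1, 0; 0, 0, 1], by rw [Matrix.det_fin_three]; simp⟩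

def yEl : SL3 := ⟨!![1, 0, 0; 0, 1, 1; 0, 0, 1], by rw [Matrix.det_fin_three]; simp⟩

theorem xEl_coe : ((xEl : SL3) : M3) = !![1, 1, 0; 0, 1, 0; 0, 0, 1] := rfl

theorem yEl_coe : ((yEl : SL3) : M3) = !![1, 0, 0; 0, 1, 1; 0, 0, 1] := rfl

theorem xEl_mem : (xEl : SL3) ∈ UT (p := p) := by
  rw [mem_UT, xEl_coe]
  refine ⟨?_, ?_, ?_, ?_, ?_, ?_⟩ <;> simp

theorem yEl_mem : (yEl : SL3) ∈ UT (p := p) := by
  rw [mem_UT, yEl_coe]
  refine ⟨?_, ?_, ?_, ?_, ?_, ?_⟩ <;> simp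

theorem xy_ne : (xEl : SL3) * yEl ≠ yEl * xEl := by
  intro h
  have := congrArg (fun g : SL3 => (g : M3) 0 2) h
  simp only [Matrix.SpecialLinearGroup.coe_mul, xEl_coe, yEl_coe] at this
  simp [Matrix.mul_apply, Fin.sum_univ_three] at this

theorem UT_le_qd : UT (p := p) ≤ Cfsg.qd p := by
  intro g hg
  apply Subgroup.subset_closure
  exact ⟨hg.2.1, hg.2.2.1, hg.2.2.2.2.2⟩

theorem not_abP_qd (hp : p ≠ 2) : ¬ AbP p ↥(Cfsg.qd p) := by
  intro h
  have hQ : IsPGroup p ((UT (p := p)).subgroupOf (Cfsg.qd p)) :=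
    (UT_isPGroup hp).comap_of_injective (Cfsg.qd p).subtype (Subgroup.subtype_injective _)
  have hx : (⟨xEl, UT_le_qd xEl_mem⟩ : ↥(Cfsg.qd p)) ∈ (UT (p := p)).subgroupOf (Cfsg.qd p) := by
    rw [Subgroup.mem_subgroupOf]; exact xEl_mem
  have hy : (⟨yEl, UT_le_qd yEl_mem⟩ : ↥(Cfsg.qd p)) ∈ (UT (p := p)).subgroupOf (Cfsg.qd p) := by
    rw [Subgroup.mem_subgroupOf]; exact yEl_mem
  have := h _ hQ _ hx _ hy
  exact xy_ne (congrArg Subtype.val this)

end ut3

theorem result {p : ℕ} [Fact p.Prime] (hp : p ≠ 2) {K : Type*} [Field K] [Fintype K] [CharP K p] : ¬ Cfsg.Involves ↥(Cfsg.qd p) (Matrix.ProjectiveSpecialLinearGroup (Fin 2) K) := by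
  classical
  rintro ⟨K₀, R, hN, ⟨φ⟩⟩
  have h1 : AbP p (Matrix.ProjectiveSpecialLinearGroup (Fin 2) K) := psl2_abP
  have h2 := abP_subgroup h1 K₀
  haveI : Finite (Matrix.ProjectiveSpecialLinearGroup (Fin 2) K) :=
    Finite.of_surjective _ (QuotientGroup.mk'_surjective _)
  have h3 := abP_of_surjective (QuotientGroup.mk' (R.subgroupOf K₀)) (QuotientGroup.mk'_surjective _) h2
  have h4 := abP_equiv φ h3
  exact not_abP_qd hp h4

end Cfsg.Agent.S2231
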