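import Cfsg.Statements.S2250
import Cfsg.Agent.S2234
import Cfsg.Agent.Lib.Lead.SpWreathB

set_option autoImplicit false
open Cfsg

namespace Cfsg.Agent.S2250

open Matrix Cfsg.Agent.Lib.Lead.SpW Cfsg.Agent.S2234 Pointwise

section
variable {F : Type*} [Field F] [Fintype F]

/-- the diagonal group `{diag(ε, ε)}` -/
noncomputable def E0 (F : Type*) [Field F] [Fintype F] (n : ℕ) : Subgroup (Matrix.symplecticGroup (Fin n) F) :=
  (φ (F := F) n).range

theorem W_mul_phi (n : ℕ) (σ : Equiv.Perm (Fin n)) (A : Fin n → Matrix.SpecialLinearGroup (Fin 2) F)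
    (ε : Fin n → ℤˣ) : W σ A * φ n ε = φ n (fun i => ε (σ⁻¹ i)) * W σ A := by
  apply Subtype.ext
  rw [Submonoid.coe_mul, Submonoid.coe_mul, W_coe]
  show wMat σ (fun i => (A i).1) * φ₀ n ε = φ₀ n (fun i => ε (σ⁻¹ i)) * wMat σ (fun i => (A i).1)
  rw [φ₀_apply, φ₀_apply]
  unfold wMat dMat
  rw [Matrix.fromBlocks_multiply, Matrix.fromBlocks_multiply]
  have hinv : ∀ i, σ⁻¹ (σ i) = i := fun i => Equiv.Perm.inv_eq_iff_eq.mpr rfl
  simp only [Matrix.mul_zero, Matrix.zero_mul, add_zero, zero_add, pm_mul_diagonal, diagonal_mul_pm, hinv]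
  congr 1 <;> (congr 1; funext i; ring)

theorem H_normalizes (n : ℕ) : H F n ≤ Subgroup.normalizer ((E0 F n : Subgroup _) : Set _) := by
  rintro _ ⟨σ, A, rfl⟩
  rw [Subgroup.mem_normalizer_iff]
  intro e
  constructor
  · rintro ⟨ε, rfl⟩
    refine ⟨fun i => ε (σ⁻¹ i), ?_⟩
    rw [W_mul_phi, mul_inv_cancel_right]
  · intro he
    obtain ⟨ε', hε'⟩ := he
    refine ⟨fun i => ε' (σ i), ?_⟩
    have h1 := W_mul_phi n σ A (fun i => ε' (σ i))
    have hinv' : ∀ i, σ (σ⁻¹ i) = i := fun i => (Equiv.eq_symm_apply σ).mp rfl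
    simp only [hinv'] at h1
    have h2 : φ n ε' = W σ A * e * (W σ A)⁻¹ := hε'
    have h3 : W σ A * φ n (fun i => ε' (σ i)) = W σ A * e := by
      rw [h1, h2]; group
    exact mul_left_cancel h3

theorem E0_comm (n : ℕ) : IsMulCommutative (E0 F n) := by
  refine ⟨⟨fun a b => ?_⟩⟩
  obtain ⟨x, hx⟩ := a.2
  obtain ⟨y, hy⟩ := b.2
  apply Subtype.ext
  show a.1 * b.1 = b.1 * a.1
  rw [← hx, ← hy, ← map_mul, ← map_mul, mul_comm]

theorem E0_exp (n : ℕ) : ∀ a ∈ E0 F n, a ^ 2 = 1 := by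
  rintro _ ⟨x, rfl⟩
  rw [← map_pow]
  have : x ^ 2 = 1 := by
    funext j
    simp [Int.units_sq]
  rw [this, map_one]

theorem E0_card (h2 : (2 : F) ≠ 0) (n : ℕ) : Nat.card (E0 F n) = 2 ^ n := by
  unfold E0
  rw [← Nat.card_congr (MonoidHom.ofInjective (φ_inj h2 n)).toEquiv, Nat.card_eq_fintype_card, Fintype.card_fun,
    Fintype.card_units_int, Fintype.card_fin]

end

/-- The normal 2-rank of the symplectic group over a finite field of odd order: for n ≥ 1 and S a Sylow 2-subgroup of Sp_{2n}(F), the largest rank of an elementary abelian subgroup of S that is normal in S equals n. -/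
theorem result {F : Type*} [Field F] [Fintype F] (hF : Odd (Fintype.card F)) (n : ℕ) (hn : 1 ≤ n) (S : Sylow 2 ↥(Matrix.symplecticGroup (Fin n) F)) :
    ((∃ E : Subgroup ↥(S : Subgroup ↥(Matrix.symplecticGroup (Fin n) F)), E.Normal ∧ Cfsg.IsElementaryAbelian 2 E ∧ 2 ^ (n) ≤ Nat.card ↥E) ∧
      ∀ E : Subgroup ↥(S : Subgroup ↥(Matrix.symplecticGroup (Fin n) F)), E.Normal → Cfsg.IsElementaryAbelian 2 E → Nat.card ↥E ≤ 2 ^ (n)) := by
  have h2 : (2 : F) ≠ 0 := two_ne_zero_of_odd hF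
  have : Fact (Nat.Prime 2) := ⟨Nat.prime_two⟩
  constructor
  · obtain ⟨P, hPH⟩ := exists_sylow_le_H hF n
    have hPN : (P : Subgroup (Matrix.symplecticGroup (Fin n) F)) ≤
        Subgroup.normalizer ((E0 F n : Subgroup _) : Set _) := hPH.trans (H_normalizes n)
    have hE0pg : IsPGroup 2 (E0 F n) := IsPGroup.of_card (E0_card h2 n)
    have hsup : IsPGroup 2 (E0 F n ⊔ P : Subgroup (Matrix.symplecticGroup (Fin n) F)) :=
      hE0pg.to_sup_of_normal_left' P.isPGroup' hPN
    have hE0P : E0 F n ≤ P := by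
      have := P.is_maximal' hsup le_sup_right
      rw [← this]; exact le_sup_left
    obtain ⟨g, hg⟩ := MulAction.exists_smul_eq (Matrix.symplecticGroup (Fin n) F) P S
    have hmem : ∀ x, x ∈ (S : Subgroup (Matrix.symplecticGroup (Fin n) F)) ↔
        g⁻¹ * x * g ∈ (P : Subgroup (Matrix.symplecticGroup (Fin n) F)) := by
      intro x
      rw [← hg, Sylow.coe_subgroup_smul, Subgroup.mem_pointwise_smul_iff_inv_smul_mem]
      simp [MulAut.smul_def]
    let ψ : ↥(S : Subgroup (Matrix.symplecticGroup (Fin n) F)) →* Matrix.symplecticGroup (Fin n) F :=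
      (MulAut.conj g⁻¹).toMonoidHom.comp (S : Subgroup (Matrix.symplecticGroup (Fin n) F)).subtype
    have hψ : ∀ s, ψ s = g⁻¹ * s.1 * g := by
      intro s
      show MulAut.conj g⁻¹ s.1 = _
      rw [MulAut.conj_apply, inv_inv]
    have hψinj : Function.Injective ψ := by
      intro a b hab
      rw [hψ, hψ] at hab
      apply Subtype.ext
      have := mul_left_cancel (mul_right_cancel hab)
      exact this
    refine ⟨(E0 F n).comap ψ, ?_, ⟨?_, ?_⟩, ?_⟩
    · constructor
      intro e he s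
      rw [Subgroup.mem_comap] at he ⊢
      rw [map_mul, map_mul, map_inv]
      have hs : ψ s ∈ Subgroup.normalizer ((E0 F n : Subgroup _) : Set _) := by
        apply hPN
        rw [hψ]
        exact (hmem s.1).mp s.2
      exact (Subgroup.mem_normalizer_iff.mp hs _).mp he
    · refine ⟨⟨fun a b => ?_⟩⟩
      apply Subtype.ext
      apply hψinj
      show ψ (a.1 * b.1) = ψ (b.1 * a.1)
      rw [map_mul, map_mul]
      have := @mul_comm' _ _ (E0_comm (F := F) n) ⟨ψ a.1, a.2⟩ ⟨ψ b.1, b.2⟩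
      exact congrArg Subtype.val this
    · intro a ha
      apply hψinj
      rw [map_pow, map_one]
      exact E0_exp n _ ha
    · rw [← E0_card h2 n]
      have hxS : ∀ x : E0 F n, g * x.1 * g⁻¹ ∈ (S : Subgroup (Matrix.symplecticGroup (Fin n) F)) := by
        intro x
        rw [hmem]
        have : g⁻¹ * (g * x.1 * g⁻¹) * g = x.1 := by group
        rw [this]
        exact hE0P x.2
      let f : E0 F n → ((E0 F n).comap ψ) := fun x => ⟨⟨g * x.1 * g⁻¹, hxS x⟩, by
        rw [Subgroup.mem_comap, hψ]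
        have : g⁻¹ * (g * x.1 * g⁻¹) * g = x.1 := by group
        rw [this]
        exact x.2⟩
      apply Nat.card_le_card_of_injective f
      intro x y hxy
      have h1 : g * x.1 * g⁻¹ = g * y.1 * g⁻¹ := congrArg (fun z => z.1.1) hxy
      apply Subtype.ext
      exact mul_left_cancel (mul_right_cancel h1)
  · intro E _ hE
    have := upper hF n (E.map (S : Subgroup ↥(Matrix.symplecticGroup (Fin n) F)).subtype) (by
      refine ⟨⟨fun a b => ?_⟩⟩
      obtain ⟨x, hx, hxa⟩ := a.2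
      obtain ⟨y, hy, hyb⟩ := b.2
      apply Subtype.ext
      show a.1 * b.1 = b.1 * a.1
      rw [← hxa, ← hyb, ← map_mul, ← map_mul]
      have := @mul_comm' _ _ hE.1 (⟨x, hx⟩ : E) ⟨y, hy⟩
      have h' : x * y = y * x := congrArg Subtype.val this
      rw [h']) (by
      rintro _ ⟨x, hx, rfl⟩
      rw [← map_pow, hE.2 x hx, map_one])
    rwa [Subgroup.card_map_of_injective (Subgroup.subtype_injective _)] at this

end Cfsg.Agent.S2250
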