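import Cfsg.Statements.S2254
import Cfsg.Agent.Lib.Helper20.NilpSym3

set_option autoImplicit false
open Cfsg

namespace Cfsg.Agent.S2254



/-- Let n ≡ 3 (mod 4). Then every nilpotent subgroup of the symmetric group on n letters has order at most 3 times the order of a Sylow 2-subgroup of the symmetric group on n − 3 letters; the bound is attained by a nilpotent subgroup isomorphic to the direct product of such a Sylow 2-subgroup with a cyclic group of order 3; and any two nilpotent subgroups attaining the bound are conjugate. -/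
theorem result  (n : ℕ) (hn : n % 4 = 3)
    (P : Sylow 2 (Equiv.Perm (Fin (n - 3)))) :
    (∀ N : Subgroup (Equiv.Perm (Fin n)), Group.IsNilpotent N → Nat.card N ≤ 3 * Nat.card P) ∧
    (∃ M : Subgroup (Equiv.Perm (Fin n)), Group.IsNilpotent M ∧ Nat.card M = 3 * Nat.card P ∧
      Nonempty (M ≃* (↥(P : Subgroup (Equiv.Perm (Fin (n - 3)))) × Multiplicative (ZMod 3)))) ∧
    (∀ N₁ N₂ : Subgroup (Equiv.Perm (Fin n)), Group.IsNilpotent N₁ → Group.IsNilpotent N₂ →
      Nat.card N₁ = 3 * Nat.card P → Nat.card N₂ = 3 * Nat.card P →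
      ∃ g : Equiv.Perm (Fin n), N₂ = N₁.map (MulAut.conj g).toMonoidHom) := by
  have hn3 : 3 ≤ n := by omega
  obtain ⟨j, hj⟩ : ∃ j, n = 4 * j + 3 := ⟨n / 4, by omega⟩
  have hP : Nat.card P = 2 ^ Cfsg.Agent.Lib.Helper20.NilpSym.v (4 * j) := by
    haveI : Fact (Nat.Prime 2) := ⟨Nat.prime_two⟩
    rw [P.card_eq_multiplicity, Nat.card_perm, Nat.card_eq_fintype_card (α := Fin (n - 3)),
      Fintype.card_fin, Nat.factorization_def _ Nat.prime_two]
    have : n - 3 = 4 * j := by omega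
    rw [this]
    rfl
  refine ⟨?_, ?_, ?_⟩
  · intro N hN
    haveI : Group.IsNilpotent ↥N := hN
    have h := Cfsg.Agent.Lib.Helper20.NilpSym.nilp_bound (X := Fin n) N
    rw [Nat.card_eq_fintype_card (α := Fin n), Fintype.card_fin] at h
    have hB : Cfsg.Agent.Lib.Helper20.NilpSym.Bd n = _ :=
      hj ▸ Cfsg.Agent.Lib.Helper20.NilpSym.Bd_four j 3 (by norm_num)
    rw [hB] at h
    have h4 := Cfsg.Agent.Lib.Helper20.NilpSym.v_four j 0 (by norm_num)
    simp only [add_zero] at h4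
    rw [hP, h4]
    simpa [Cfsg.Agent.Lib.Helper20.NilpSym.β] using h
  · exact Cfsg.Agent.Lib.Helper20.NilpSym.exists_max_nilp n hn3 P
  · intro N₁ N₂ hN₁ hN₂ h₁ h₂
    rw [hP] at h₁ h₂
    exact Cfsg.Agent.Lib.Helper20.NilpSym.nilp_conj j (by rw [Fintype.card_fin, hj]) N₁ N₂
      hN₁ hN₂ h₁ h₂

end Cfsg.Agent.S2254
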