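import Cfsg.Statements.S2255
import Cfsg.Agent.Lib.Helper20.NilpAlt2

set_option autoImplicit false
open Cfsg

namespace Cfsg.Agent.S2255

open Cfsg.Agent.Lib.Helper20.NilpSym in
theorem card_sylow_alt (n : ℕ) (hn2 : 2 ≤ n) (P : Sylow 2 (alternatingGroup (Fin n))) :
    2 * Nat.card P = 2 ^ v n := by
  haveI : Nontrivial (Fin n) := Fin.nontrivial_iff_two_le.2 hn2
  have h2 : 2 * Nat.card (alternatingGroup (Fin n)) = n.factorial := by
    rw [two_mul_nat_card_alternatingGroup (α := Fin n), Nat.card_perm, Nat.card_eq_fintype_card,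
      Fintype.card_fin]
  have h0 : Nat.card (alternatingGroup (Fin n)) ≠ 0 := Nat.card_pos.ne'
  have h3 : v n = (Nat.card (alternatingGroup (Fin n))).factorization 2 + 1 := by
    unfold v
    rw [← h2, padicValNat.mul (by norm_num) h0, Nat.factorization_def _ Nat.prime_two]
    simp
    ring
  rw [P.card_eq_multiplicity, h3, pow_succ]
  ring


/-- Let n be a natural number not congruent to 3 modulo 4, with n ∉ {5, 6, 9}. Then every nilpotent subgroup of the alternating group on n letters has order at most the order of a Sylow 2-subgroup of the alternating group (so the nilpotent subgroups of largest order are exactly the Sylow 2-subgroups). -/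
theorem result  (n : ℕ) (hn : n % 4 ≠ 3)
    (h5 : n ≠ 5) (h6 : n ≠ 6) (h9 : n ≠ 9)
    (N : Subgroup (alternatingGroup (Fin n))) (hN : Group.IsNilpotent N)
    (P : Sylow 2 (alternatingGroup (Fin n))) :
    Nat.card N ≤ Nat.card P := by
  open Cfsg.Agent.Lib.Helper20.NilpSym in
  by_cases hn2 : 2 ≤ n
  · let N' : Subgroup (Equiv.Perm (Fin n)) := N.map (alternatingGroup (Fin n)).subtype
    let e : ↥N ≃* ↥N' := N.equivMapOfInjective _ (alternatingGroup (Fin n)).subtype_injective
    haveI : Group.IsNilpotent ↥N' := (Group.nilpotent_of_mulEquiv e)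
    have hN' : N' ≤ alternatingGroup (Fin n) := by
      rintro _ ⟨g, _, rfl⟩
      exact g.2
    have hc : Nat.card N = Nat.card N' := Nat.card_congr e.toEquiv
    have hcard : Nat.card (Fin n) = n := by simp
    have h1 := two_nilp_alt_bound N' hN' (by omega) (by omega) (by omega) (by omega) (by omega)
      (by omega)
    rw [hcard, Bd_eq hn, ← card_sylow_alt n hn2 P, ← hc] at h1
    omega
  · have hsub : Subsingleton (Equiv.Perm (Fin n)) := by
      have : n = 0 ∨ n = 1 := by omega
      rcases this with rfl | rfl <;> infer_instance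
    have h1 : Nat.card N ≤ 1 := Finite.card_le_one_iff_subsingleton.2 inferInstance
    have h2 : 0 < Nat.card P := Nat.card_pos
    omega

end Cfsg.Agent.S2255
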