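import Cfsg.Statements.S2256
import Cfsg.Agent.Lib.Helper20.NilpAlt3

set_option autoImplicit false
open Cfsg

namespace Cfsg.Agent.S2256



/-- Let n ≡ 3 (mod 4) with n ≥ 7. Then every nilpotent subgroup of the alternating group on n letters has order at most 3 times the order of a Sylow 2-subgroup of the alternating group on n − 3 letters; the bound is attained by a nilpotent subgroup isomorphic to the direct product of such a Sylow 2-subgroup with a cyclic group of order 3; and any two nilpotent subgroups of the alternating group attaining the bound are conjugate in it. -/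
theorem result  (n : ℕ) (hn : n % 4 = 3) (h7 : 7 ≤ n)
    (P : Sylow 2 (alternatingGroup (Fin (n - 3)))) :
    (∀ N : Subgroup (alternatingGroup (Fin n)), Group.IsNilpotent N → Nat.card N ≤ 3 * Nat.card P) ∧
    (∃ M : Subgroup (alternatingGroup (Fin n)), Group.IsNilpotent M ∧ Nat.card M = 3 * Nat.card P ∧
      Nonempty (M ≃* (↥(P : Subgroup (alternatingGroup (Fin (n - 3)))) × Multiplicative (ZMod 3)))) ∧
    (∀ N₁ N₂ : Subgroup (alternatingGroup (Fin n)), Group.IsNilpotent N₁ → Group.IsNilpotent N₂ →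
      Nat.card N₁ = 3 * Nat.card P → Nat.card N₂ = 3 * Nat.card P →
      ∃ g : alternatingGroup (Fin n), N₂ = N₁.map (MulAut.conj g).toMonoidHom) := by
  open Cfsg.Agent.Lib.Helper20.NilpSym in
  have hn3 : 3 ≤ n := by omega
  obtain ⟨j, hj⟩ : ∃ j, n = 4 * j + 3 := ⟨n / 4, by omega⟩
  have hj1 : 1 ≤ j := by omega
  have hn4 : n - 3 = 4 * j := by omega
  have hP2 : 2 * Nat.card P = 2 ^ v (4 * j) := by
    have := two_mul_card_sylow_alt (Fin (n - 3)) (by rw [Fintype.card_fin]; omega) P
    rw [Fintype.card_fin] at this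
    rw [this, hn4]
  have hv3 : 3 ≤ v (4 * j) := by
    have h4 := v_four j 0 (by norm_num)
    simp only [add_zero] at h4
    omega
  obtain ⟨w, hw⟩ : ∃ w, w + 1 = v (4 * j) := ⟨v (4 * j) - 1, by omega⟩
  have hP : Nat.card P = 2 ^ w := by
    rw [← hw, pow_succ] at hP2
    omega
  have key : ∀ N : Subgroup (alternatingGroup (Fin n)), Group.IsNilpotent N →
      ∃ N' : Subgroup (Equiv.Perm (Fin n)), N' = N.map (alternatingGroup (Fin n)).subtype ∧
        N' ≤ alternatingGroup (Fin n) ∧ Group.IsNilpotent ↥N' ∧ Nat.card N' = Nat.card N := by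
    intro N hN
    let e : ↥N ≃* ↥(N.map (alternatingGroup (Fin n)).subtype) :=
      N.equivMapOfInjective _ (alternatingGroup (Fin n)).subtype_injective
    refine ⟨_, rfl, ?_, ?_, (Nat.card_congr e.toEquiv).symm⟩
    · rintro _ ⟨g, _, rfl⟩
      exact g.2
    · exact Group.nilpotent_of_mulEquiv e
  refine ⟨?_, ?_, ?_⟩
  · intro N hN
    obtain ⟨N', -, hle, hnil, hc⟩ := key N hN
    haveI := hnil
    have hcard : Nat.card (Fin n) = n := by simp
    have h1 := two_nilp_alt_bound N' hle (by omega) (by omega) (by omega) (by omega) (by omega)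
      (by omega)
    rw [hcard, hc] at h1
    have hB : Bd n = _ := hj ▸ Bd_four j 3 (by norm_num)
    rw [hB] at h1
    have h4 := v_four j 0 (by norm_num)
    simp only [add_zero] at h4
    have hβ : β 3 = 3 := by simp [β]
    rw [hβ] at h1
    have h5 : (2 : ℕ) ^ (3 * j + v j) = 2 * Nat.card P := by
      rw [hP2, h4]; simp
    rw [h5] at h1
    omega
  · exact exists_max_nilp_alt n hn3 P
  · intro N₁ N₂ hN₁ hN₂ h₁ h₂
    obtain ⟨N₁', e₁, hle₁, hnil₁, hc₁⟩ := key N₁ hN₁
    obtain ⟨N₂', e₂, hle₂, hnil₂, hc₂⟩ := key N₂ hN₂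
    rw [hP] at h₁ h₂
    obtain ⟨g, hg, hgN⟩ := nilp_conj_alt j hj1 (by rw [Fintype.card_fin, hj]) N₁' N₂' hle₁ hle₂
      hnil₁ hnil₂ w hw (hc₁.trans h₁) (hc₂.trans h₂)
    refine ⟨⟨g, hg⟩, ?_⟩
    apply conj_transport
    rw [← e₁, ← e₂]
    exact hgN

end Cfsg.Agent.S2256
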