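import Cfsg.Statements.S2257
import Cfsg.Agent.Lib.helper6.SolD
import Cfsg.Agent.Lib.helper6.PSL2Struct
import Cfsg.Agent.Lib.helper3.DicksonConcB

set_option autoImplicit false
open Cfsg

namespace Cfsg.Agent.S2257

/-- Let G = PSL_2(F) with F a field of order q = 2^p, p prime, and for x ∈ G call the solubilizer of x the set of y ∈ G such that x and y generate a solvable subgroup. Then the solubilizer of an involution has 3q(q − 1) elements; that of a non-identity element of order dividing q − 1 has 2q(q − 1) elements; and that of a non-identity element of order dividing q + 1 has 2(q + 1) elements. -/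
theorem result (p : ℕ) (hp : p.Prime) {F : Type*} [Field F] [Fintype F]
    (hF : Fintype.card F = 2 ^ p) (x : Matrix.ProjectiveSpecialLinearGroup (Fin 2) F) :
    (orderOf x = 2 → Nat.card {y : Matrix.ProjectiveSpecialLinearGroup (Fin 2) F // Group.IsSolvable ↥(Subgroup.closure ({x, y} : Set (Matrix.ProjectiveSpecialLinearGroup (Fin 2) F)))} = 3 * 2 ^ p * (2 ^ p - 1)) ∧
    (x ≠ 1 → orderOf x ∣ 2 ^ p - 1 → Nat.card {y : Matrix.ProjectiveSpecialLinearGroup (Fin 2) F // Group.IsSolvable ↥(Subgroup.closure ({x, y} : Set (Matrix.ProjectiveSpecialLinearGroup (Fin 2) F)))} = 2 * 2 ^ p * (2 ^ p - 1)) ∧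
    (x ≠ 1 → orderOf x ∣ 2 ^ p + 1 → Nat.card {y : Matrix.ProjectiveSpecialLinearGroup (Fin 2) F // Group.IsSolvable ↥(Subgroup.closure ({x, y} : Set (Matrix.ProjectiveSpecialLinearGroup (Fin 2) F)))} = 2 * (2 ^ p + 1)) := by
  classical
  haveI : Fact (Nat.Prime 2) := ⟨Nat.prime_two⟩
  haveI : CharP F 2 := charP_of_card_eq_prime_pow hF
  have hp2 : 2 ≤ p := hp.two_le
  have h4 : 4 ≤ Fintype.card F := by
    rw [hF]
    calc 4 = 2 ^ 2 := by norm_num
      _ ≤ 2 ^ p := Nat.pow_le_pow_right (by norm_num) hp2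
  obtain ⟨X, instX, D⟩ := Cfsg.Agent.Lib.helper3.psl2_dact (F := F) 2
  obtain ⟨r, s, hFull⟩ := Cfsg.Agent.Lib.helper6.PSL2Struct.psl_full 2 h4 D
  have hq2 : 2 ∣ 2 ^ p := dvd_pow_self 2 (by omega)
  have hg : Nat.gcd 2 (Fintype.card F - 1) = 1 := by
    rw [hF]
    have hodd : Odd (2 ^ p - 1) := by
      obtain ⟨k, hk⟩ := hq2
      exact ⟨k - 1, by omega⟩
    exact (Nat.coprime_two_left.mpr hodd)
  rw [hg, hF] at hFull
  haveI : Finite (Matrix.ProjectiveSpecialLinearGroup (Fin 2) F) := inferInstance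
  refine ⟨?_, ?_, ?_⟩
  · intro h2
    have hx1 : x ≠ 1 := by
      rintro rfl
      rw [orderOf_one] at h2
      omega
    have hx2 : x * x = 1 := by
      have h3 := pow_orderOf_eq_one x
      rw [h2, pow_two] at h3
      exact h3
    exact Cfsg.Agent.Lib.helper6.Sol2.sol_invol hFull hx1 hx2
  · intro hx1 hd
    exact Cfsg.Agent.Lib.helper6.Sol2.sol_split hFull hq2 hx1 hd
  · intro hx1 hd
    exact Cfsg.Agent.Lib.helper6.Sol2.sol_nonsplit hFull hq2 hx1 hd

end Cfsg.Agent.S2257
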