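import Cfsg.Statements.S2258
import Cfsg.Agent.Lib.helper6.Sol3M
import Cfsg.Agent.Lib.helper6.PSL2Struct
import Cfsg.Agent.Lib.helper3.DicksonConcB

set_option autoImplicit false
open Cfsg

namespace Cfsg.Agent.S2258

/-- Let G = PSL_2(F) with F a field of order q = 3^p, p an odd prime, and for x ∈ G call the solubilizer of x the set of y ∈ G such that x and y generate a solvable subgroup. Then the solubilizer of an involution has q(q + 1) elements; that of an element of order 3 has q(q + 5)/2 elements; that of an element of order neither 1 nor 2 dividing q − 1 has q(q − 1) elements; and that of an element of order neither 1 nor 2 dividing q + 1 has q + 1 elements. -/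
theorem result (p : ℕ) (hp : p.Prime) (hodd : Odd p) {F : Type*} [Field F] [Fintype F]
    (hF : Fintype.card F = 3 ^ p) (x : Matrix.ProjectiveSpecialLinearGroup (Fin 2) F) :
    (orderOf x = 2 → Nat.card {y : Matrix.ProjectiveSpecialLinearGroup (Fin 2) F // Group.IsSolvable ↥(Subgroup.closure ({x, y} : Set (Matrix.ProjectiveSpecialLinearGroup (Fin 2) F)))} = 3 ^ p * (3 ^ p + 1)) ∧
    (orderOf x = 3 → 2 * Nat.card {y : Matrix.ProjectiveSpecialLinearGroup (Fin 2) F // Group.IsSolvable ↥(Subgroup.closure ({x, y} : Set (Matrix.ProjectiveSpecialLinearGroup (Fin 2) F)))} = 3 ^ p * (3 ^ p + 5)) ∧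
    (x ≠ 1 → orderOf x ≠ 2 → orderOf x ∣ 3 ^ p - 1 → Nat.card {y : Matrix.ProjectiveSpecialLinearGroup (Fin 2) F // Group.IsSolvable ↥(Subgroup.closure ({x, y} : Set (Matrix.ProjectiveSpecialLinearGroup (Fin 2) F)))} = 3 ^ p * (3 ^ p - 1)) ∧
    (x ≠ 1 → orderOf x ≠ 2 → orderOf x ∣ 3 ^ p + 1 → Nat.card {y : Matrix.ProjectiveSpecialLinearGroup (Fin 2) F // Group.IsSolvable ↥(Subgroup.closure ({x, y} : Set (Matrix.ProjectiveSpecialLinearGroup (Fin 2) F)))} = 3 ^ p + 1) := by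
  classical
  haveI : Fact (Nat.Prime 3) := ⟨Nat.prime_three⟩
  haveI : CharP F 3 := charP_of_card_eq_prime_pow hF
  have hp2 : 2 ≤ p := hp.two_le
  have h4 : 4 ≤ Fintype.card F := by
    rw [hF]
    calc 4 ≤ 3 ^ 2 := by norm_num
      _ ≤ 3 ^ p := Nat.pow_le_pow_right (by norm_num) hp2
  obtain ⟨X, instX, D⟩ := Cfsg.Agent.Lib.helper3.psl2_dact (F := F) 3
  obtain ⟨r, s, hFull⟩ := Cfsg.Agent.Lib.helper6.PSL2Struct.psl_full 3 h4 D
  -- arithmetic of q = 3 ^ p
  obtain ⟨k, hk⟩ : ∃ k, 3 ^ p = 8 * k + 3 := by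
    obtain ⟨j, hj⟩ := hodd
    refine ⟨3 ^ p / 8, ?_⟩
    have hmod : 3 ^ p % 8 = 3 := by
      rw [hj, pow_succ, pow_mul, Nat.mul_mod, Nat.pow_mod]
      norm_num
    omega
  have h3 : 3 ∣ 8 * k + 3 := by
    rw [← hk]; exact dvd_pow_self 3 (by omega)
  have hg : Nat.gcd 2 (Fintype.card F - 1) = 2 := by
    rw [hF, hk]
    have e : 8 * k + 3 - 1 = 2 * (4 * k + 1) := by omega
    rw [e]
    exact Nat.gcd_mul_right_right (4 * k + 1) 2 ▸ (by simp)
  rw [hg, hF, hk] at hFull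
  haveI : Finite (Matrix.ProjectiveSpecialLinearGroup (Fin 2) F) := inferInstance
  rw [hk]
  have e1 : 8 * k + 3 - 1 = 8 * k + 2 := by omega
  have e2 : 8 * k + 3 + 1 = 8 * k + 4 := by omega
  have e5 : 8 * k + 3 + 5 = 8 * k + 8 := by omega
  rw [e1, e2, e5]
  refine ⟨?_, ?_, ?_, ?_⟩
  · intro h2
    have hx1 : x ≠ 1 := by
      rintro rfl
      rw [orderOf_one] at h2
      omega
    have hx2 : x * x = 1 := by
      have h3 := pow_orderOf_eq_one x
      rw [h2, pow_two] at h3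
      exact h3
    exact Cfsg.Agent.Lib.helper6.Sol3.card_sol_inv3 hFull hx1 hx2
  · intro h3'
    have hx1 : x ≠ 1 := by
      rintro rfl
      rw [orderOf_one] at h3'
      omega
    have hx3 : x * x * x = 1 := by
      have h3 := pow_orderOf_eq_one x
      rw [h3', pow_succ, pow_two] at h3
      exact h3
    obtain ⟨t, ht⟩ := Cfsg.Agent.Lib.helper6.Sol3.isPar_of_cube D hx1 hx3
    rw [Cfsg.Agent.Lib.helper6.Sol3.card_sol_par3 hFull ht]
    ring
  · intro hx1 hx2 hd
    exact Cfsg.Agent.Lib.helper6.Sol3.sol_split3 hFull h3 hx1 hx2 hd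
  · intro hx1 hx2 hd
    exact Cfsg.Agent.Lib.helper6.Sol3.sol_nonsplit3 hFull h3 hx1 hx2 hd

end Cfsg.Agent.S2258
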