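import Mathlib
import Cfsg.Statements.S2259
import Cfsg.Agent.Lib.helper3.SuzukiSolO
import Cfsg.Agent.Lib.helper3.SuzukiLieIso

set_option autoImplicit false
open Cfsg

namespace Cfsg.Agent.S2259

/-- Let G be the Suzuki group Sz(q), q = 2^(2m+1) with 2m + 1 prime and m ≥ 1, realised inside Sp_4(F) for F the field of order q, write r = 2^(m+1) (so r² = 2q), and for x ∈ G call the solubilizer of x the set of y ∈ G such that x and y generate a solvable subgroup. Then the solubilizer of an involution has q²(4q − 3) elements; that of an element of order 4 has q²(q + 3) elements; that of a non-identity element of order dividing q − 1 has 2q²(q − 1) elements; that of a non-identity element of order dividing q + r + 1 has 4(q + r + 1) elements; and that of a non-identity element of order dividing q − r + 1 has 4(q − r + 1) elements. -/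
theorem result {F : Type*} [Field F] [Fintype F] {m : ℕ} (hm : 1 ≤ m)
    (hp : (2 * m + 1).Prime) (hF : Fintype.card F = 2 ^ (2 * m + 1)) (x : ↥(Cfsg.Lie.Sz F (2 ^ (m + 1)))) :
    (orderOf x = 2 → Nat.card {y : ↥(Cfsg.Lie.Sz F (2 ^ (m + 1))) // Group.IsSolvable ↥(Subgroup.closure ({x, y} : Set (↥(Cfsg.Lie.Sz F (2 ^ (m + 1))))))} = (2 ^ (2 * m + 1)) ^ 2 * (4 * 2 ^ (2 * m + 1) - 3)) ∧
    (orderOf x = 4 → Nat.card {y : ↥(Cfsg.Lie.Sz F (2 ^ (m + 1))) // Group.IsSolvable ↥(Subgroup.closure ({x, y} : Set (↥(Cfsg.Lie.Sz F (2 ^ (m + 1))))))} = (2 ^ (2 * m + 1)) ^ 2 * (2 ^ (2 * m + 1) + 3)) ∧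
    (x ≠ 1 → orderOf x ∣ 2 ^ (2 * m + 1) - 1 →
      Nat.card {y : ↥(Cfsg.Lie.Sz F (2 ^ (m + 1))) // Group.IsSolvable ↥(Subgroup.closure ({x, y} : Set (↥(Cfsg.Lie.Sz F (2 ^ (m + 1))))))} = 2 * (2 ^ (2 * m + 1)) ^ 2 * (2 ^ (2 * m + 1) - 1)) ∧
    (x ≠ 1 → orderOf x ∣ 2 ^ (2 * m + 1) + 2 ^ (m + 1) + 1 → Nat.card {y : ↥(Cfsg.Lie.Sz F (2 ^ (m + 1))) // Group.IsSolvable ↥(Subgroup.closure ({x, y} : Set (↥(Cfsg.Lie.Sz F (2 ^ (m + 1))))))} = 4 * (2 ^ (2 * m + 1) + 2 ^ (m + 1) + 1)) ∧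
    (x ≠ 1 → orderOf x ∣ 2 ^ (2 * m + 1) - 2 ^ (m + 1) + 1 → Nat.card {y : ↥(Cfsg.Lie.Sz F (2 ^ (m + 1))) // Group.IsSolvable ↥(Subgroup.closure ({x, y} : Set (↥(Cfsg.Lie.Sz F (2 ^ (m + 1))))))} = 4 * (2 ^ (2 * m + 1) - 2 ^ (m + 1) + 1)) := by
  classical
  set e := Cfsg.Agent.Lib.helper3.szLieEquiv hF hm with he
  obtain ⟨x', rfl⟩ : ∃ x', e x' = x := ⟨e.symm x, e.apply_symm_apply x⟩
  have ho : orderOf (e x') = orderOf x' := MulEquiv.orderOf_eq e x'
  have hne : e x' ≠ 1 → x' ≠ 1 := by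
    intro h h'
    apply h
    rw [h', map_one]
  rw [Cfsg.Agent.Lib.helper3.card_sol_equiv e x', ho]
  refine ⟨?_, ?_, ?_, ?_, ?_⟩
  · intro h2
    have hx1 : x' ≠ 1 := by
      rintro rfl
      rw [orderOf_one] at h2
      omega
    have hx2 : x' * x' = 1 := by
      rw [← pow_two, ← h2]
      exact pow_orderOf_eq_one x'
    exact Cfsg.Agent.Lib.helper3.card_sol_invol hF hm hp hx1 hx2
  · intro h4
    have hx2 : x' * x' ≠ 1 := by
      intro h
      have hd : orderOf x' ∣ 2 := orderOf_dvd_of_pow_eq_one (by rw [pow_two]; exact h)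
      rw [h4] at hd
      omega
    have hx4 : (x' * x') * (x' * x') = 1 := by
      rw [Cfsg.Agent.Lib.helper3.mul_self_mul_self_eq_pow_four]
      have h5 := pow_orderOf_eq_one x'
      rw [h4] at h5
      exact h5
    exact Cfsg.Agent.Lib.helper3.card_sol_four hF hm hp hx2 hx4
  · intro hx1 hd
    exact Cfsg.Agent.Lib.helper3.card_sol_dtype hF hm hp (hne hx1) hd
  · intro hx1 hd
    exact Cfsg.Agent.Lib.helper3.card_sol_plus hF hm hp (hne hx1) hd
  · intro hx1 hd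
    exact Cfsg.Agent.Lib.helper3.card_sol_minus hF hm hp (hne hx1) hd

end Cfsg.Agent.S2259
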