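import Cfsg.Statements.S2260

set_option autoImplicit false
open Cfsg

namespace Cfsg.Agent.S2260

theorem nilp_pow_card {F : Type*} [Field F] {d : ℕ} (N : Matrix (Fin d) (Fin d) F)
    (hN : IsNilpotent N) : N ^ d = 0 := by
  have h1 : IsNilpotent (N.charpoly - Polynomial.X ^ (Fintype.card (Fin d))) :=
    Matrix.isNilpotent_charpoly_sub_pow_of_isNilpotent hN
  have h2 : N.charpoly - Polynomial.X ^ (Fintype.card (Fin d)) = 0 := h1.eq_zero
  have h3 : N.charpoly = Polynomial.X ^ d := by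
    have := sub_eq_zero.mp h2
    simpa using this
  have h4 := Matrix.aeval_self_charpoly N
  rw [h3] at h4
  simpa using h4

theorem result {F : Type*} [Field F] [Finite F] (p : ℕ) [Fact p.Prime] [CharP F p] (d : ℕ)
    (u : GL (Fin d) F) (hu : IsNilpotent ((u : Matrix (Fin d) (Fin d) F) - 1)) :
    orderOf u ≤ p ^ Nat.clog p d ∧
    (((u : Matrix (Fin d) (Fin d) F) - 1) ^ (d - 1) ≠ 0 → orderOf u = p ^ Nat.clog p d) := by
  have hp : p.Prime := Fact.out
  have hp1 : 1 < p := hp.one_lt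
  rcases Nat.eq_zero_or_pos d with hd | hd
  · subst hd
    have hu1 : u = 1 := Subsingleton.elim _ _
    subst hu1
    simp
  have hne : Nonempty (Fin d) := ⟨⟨0, hd⟩⟩
  have hchar : CharP (Matrix (Fin d) (Fin d) F) p := inferInstance
  set N : Matrix (Fin d) (Fin d) F := (u : Matrix (Fin d) (Fin d) F) - 1 with hN
  have hNd : N ^ d = 0 := nilp_pow_card N hu
  have key : ∀ k : ℕ, ((u ^ (p ^ k) : GL (Fin d) F) : Matrix (Fin d) (Fin d) F) - 1 = N ^ (p ^ k) := by
    intro k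
    have hc : Commute (u : Matrix (Fin d) (Fin d) F) 1 := Commute.one_right _
    have := sub_pow_char_pow_of_commute (R := Matrix (Fin d) (Fin d) F) (p := p) (n := k) hc
    rw [hN, this]
    simp
  have hpow_one : ∀ k : ℕ, u ^ (p ^ k) = 1 ↔ N ^ (p ^ k) = 0 := by
    intro k
    rw [← key k, sub_eq_zero]
    constructor
    · intro h
      rw [h]; rfl
    · intro h
      exact Units.ext h
  have hk : u ^ (p ^ Nat.clog p d) = 1 := by
    rw [hpow_one]
    have hle : d ≤ p ^ Nat.clog p d := Nat.le_pow_clog hp1 d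
    obtain ⟨c, hc⟩ := Nat.exists_eq_add_of_le hle
    rw [hc, pow_add, hNd, zero_mul]
  have hdvd : orderOf u ∣ p ^ Nat.clog p d := orderOf_dvd_of_pow_eq_one hk
  refine ⟨Nat.le_of_dvd (pow_pos hp.pos _) hdvd, ?_⟩
  intro hne0
  obtain ⟨j, hj, hoj⟩ := (Nat.dvd_prime_pow hp).1 hdvd
  rw [hoj]
  congr 1
  by_contra hjk
  have hlt : j < Nat.clog p d := lt_of_le_of_ne hj hjk
  have hlt2 : p ^ j < d := Nat.pow_lt_of_lt_clog hlt
  have h1 : u ^ (p ^ j) = 1 := by
    rw [← hoj]; exact pow_orderOf_eq_one u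
  have h0 : N ^ (p ^ j) = 0 := (hpow_one j).1 h1
  apply hne0
  have hle : p ^ j ≤ d - 1 := Nat.le_sub_one_of_lt hlt2
  obtain ⟨c, hc⟩ := Nat.exists_eq_add_of_le hle
  rw [hc, pow_add, h0, zero_mul]

end Cfsg.Agent.S2260
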