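import Cfsg.Statements.S2263
import Cfsg.Agent.Lib.Helper10.PGMUPPER
import Cfsg.Agent.Lib.Helper10.PGMLOWER

set_option autoImplicit false
open Cfsg

namespace Cfsg.Agent.S2263

/-- Let q = p^f with p prime and f ≥ 1, F a field with q² elements, d ≥ 3 with (d, q) ≠ (3, 2), and PGU_d(q) the general unitary group of the standard Hermitian form modulo its centre. Then the largest order of an element of PGU_d(q) is: q^(d−1) − 1 if d is odd and f ≥ 2; (p^(d−2) + 1)p if d is odd and f = 1; q^(d−1) + 1 if d is even and q > 2; 4(2^(d−3) + 1) if d is even and q = 2. -/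
theorem result {F : Type*} [Field F] [Fintype F] (p f d : ℕ) (hp : p.Prime) (hf : 1 ≤ f) (q : ℕ) (hq : q = p ^ f)
    (hF : Fintype.card F = q ^ 2) (hd : 3 ≤ d) (h32 : ¬ (d = 3 ∧ q = 2)) :
    (Odd d → 2 ≤ f → (∀ g : (↥(Cfsg.GU d F q) ⧸ Subgroup.center ↥(Cfsg.GU d F q)), orderOf g ≤ q ^ (d - 1) - 1) ∧ ∃ g : (↥(Cfsg.GU d F q) ⧸ Subgroup.center ↥(Cfsg.GU d F q)), orderOf g = q ^ (d - 1) - 1) ∧
    (Odd d → f = 1 → (∀ g : (↥(Cfsg.GU d F q) ⧸ Subgroup.center ↥(Cfsg.GU d F q)), orderOf g ≤ (p ^ (d - 2) + 1) * p) ∧ ∃ g : (↥(Cfsg.GU d F q) ⧸ Subgroup.center ↥(Cfsg.GU d F q)), orderOf g = (p ^ (d - 2) + 1) * p) ∧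
    (Even d → 2 < q → (∀ g : (↥(Cfsg.GU d F q) ⧸ Subgroup.center ↥(Cfsg.GU d F q)), orderOf g ≤ q ^ (d - 1) + 1) ∧ ∃ g : (↥(Cfsg.GU d F q) ⧸ Subgroup.center ↥(Cfsg.GU d F q)), orderOf g = q ^ (d - 1) + 1) ∧
    (Even d → q = 2 → (∀ g : (↥(Cfsg.GU d F q) ⧸ Subgroup.center ↥(Cfsg.GU d F q)), orderOf g ≤ 4 * (2 ^ (d - 3) + 1)) ∧ ∃ g : (↥(Cfsg.GU d F q) ⧸ Subgroup.center ↥(Cfsg.GU d F q)), orderOf g = 4 * (2 ^ (d - 3) + 1)) := by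
  have hup := Cfsg.Agent.Lib.Helper10.PGM.upper p f d hp hf q hq hF hd
  have hlo := Cfsg.Agent.Lib.Helper10.PGM.lower p f d hp hf q hq hF hd
  refine ⟨fun hodd hf2 => ?_, fun hodd hf1 => ?_, fun hev hq2 => ?_, fun hev hq2 => ?_⟩
  · have hM : Cfsg.Agent.Lib.Helper10.PGM.Mx p f d = q ^ (d - 1) - 1 := by
      unfold Cfsg.Agent.Lib.Helper10.PGM.Mx; rw [if_pos hodd, if_pos hf2, hq]
    rw [← hM]; exact ⟨hup, hlo⟩
  · have hM : Cfsg.Agent.Lib.Helper10.PGM.Mx p f d = (p ^ (d - 2) + 1) * p := by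
      unfold Cfsg.Agent.Lib.Helper10.PGM.Mx; rw [if_pos hodd, if_neg (by omega)]
    rw [← hM]; exact ⟨hup, hlo⟩
  · have hnodd : ¬ Odd d := Nat.not_odd_iff_even.2 hev
    have hM : Cfsg.Agent.Lib.Helper10.PGM.Mx p f d = q ^ (d - 1) + 1 := by
      unfold Cfsg.Agent.Lib.Helper10.PGM.Mx; rw [if_neg hnodd, ← hq, if_pos hq2]
    rw [← hM]; exact ⟨hup, hlo⟩
  · have hnodd : ¬ Odd d := Nat.not_odd_iff_even.2 hev
    have hM : Cfsg.Agent.Lib.Helper10.PGM.Mx p f d = 4 * (2 ^ (d - 3) + 1) := by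
      unfold Cfsg.Agent.Lib.Helper10.PGM.Mx; rw [if_neg hnodd, ← hq, if_neg (by omega)]
    rw [← hM]; exact ⟨hup, hlo⟩

end Cfsg.Agent.S2263
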