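import Cfsg.Statements.S2268

set_option autoImplicit false
open Cfsg

namespace Cfsg.Agent.S2268

open Subgroup MulAction in
theorem frattini_part {G : Type*} [Group G] [Finite G] {p : ℕ} [Fact p.Prime]
    (P : Sylow p G) (hP : IsMulCommutative (P : Subgroup G)) (Q : Subgroup G) (hQ : Q ≤ (P : Subgroup G)) :
    Subgroup.normalizer (Q : Set G) =
      (Subgroup.normalizer (Q : Set G) ⊓ Subgroup.normalizer ((P : Subgroup G) : Set G)) ⊔ Subgroup.centralizer (Q : Set G) := by
  apply le_antisymm
  · intro g hg
    have h1 : (P : Subgroup G) ≤ centralizer (Q : Set G) := by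
      intro x hx
      rw [mem_centralizer_iff]
      intro y hy
      have := hP.is_comm.comm (⟨y, hQ hy⟩ : (P : Subgroup G)) ⟨x, hx⟩
      exact congrArg Subtype.val this
    have h2 : ↑(g • P) ≤ centralizer (Q : Set G) := by
      rintro - ⟨z, hz, rfl⟩
      rw [mem_centralizer_iff]
      intro y hy
      have hy' : g⁻¹ * y * g ∈ Q := by
        have := (mem_set_normalizer_iff'' (S := (Q : Set G))).mp hg y
        exact this.mp hy
      have hc := h1 hz
      rw [mem_centralizer_iff] at hc
      have := hc _ hy'
      simp only [MulDistribMulAction.toMonoidEnd_apply, MulDistribMulAction.toMonoidHom_apply,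
        MulAut.smul_def, MulAut.conj_apply]
      have e1 : y * (g * z * g⁻¹) = g * ((g⁻¹ * y * g) * z) * g⁻¹ := by group
      have e2 : g * z * g⁻¹ * y = g * (z * (g⁻¹ * y * g)) * g⁻¹ := by group
      rw [e1, e2, this]
    obtain ⟨h, hh⟩ :=
      exists_smul_eq (centralizer (Q : Set G)) ((g • P).subtype h2) (P.subtype h1)
    simp_rw [Sylow.smul_subtype, Subgroup.smul_def, smul_smul] at hh
    have hn : (h : G) * g ∈ normalizer ((P : Subgroup G) : Set G) :=
      Sylow.smul_eq_iff_mem_normalizer.mp (Sylow.subtype_injective hh)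
    have : g = (h : G)⁻¹ * ((h : G) * g) := by group
    rw [this, sup_comm]
    apply mul_mem_sup (inv_mem h.2)
    refine ⟨?_, hn⟩
    exact mul_mem (centralizer_le_normalizer _ h.2) hg
  · exact sup_le inf_le_left (centralizer_le_normalizer _)

open Subgroup in
theorem result {G : Type*} [Group G] [Finite G] {p : ℕ} [Fact p.Prime]
    (P : Sylow p G) (hP : IsMulCommutative (P : Subgroup G)) (Q : Subgroup G) (hQ : Q ≤ (P : Subgroup G)) :
    Subgroup.normalizer (Q : Set G) =
      (Subgroup.normalizer (Q : Set G) ⊓ Subgroup.normalizer ((P : Subgroup G) : Set G)) ⊔ Subgroup.centralizer (Q : Set G) ∧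
    ((Subgroup.centralizer (Q : Set G)).subgroupOf (Subgroup.normalizer (Q : Set G))).index ∣ ((Subgroup.centralizer ((P : Subgroup G) : Set G)).subgroupOf (Subgroup.normalizer ((P : Subgroup G) : Set G))).index := by
  have part1 := frattini_part P hP Q hQ
  refine ⟨part1, ?_⟩
  set A : Subgroup G := normalizer (Q : Set G) ⊓ normalizer ((P : Subgroup G) : Set G) with hA
  set L : Subgroup G := normalizer (Q : Set G) with hL
  set CQ : Subgroup G := centralizer (Q : Set G) with hCQ
  set CP : Subgroup G := centralizer ((P : Subgroup G) : Set G) with hCP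
  set NP : Subgroup G := normalizer ((P : Subgroup G) : Set G) with hNP
  have hAL : A ≤ L := inf_le_left
  have hCQL : CQ ≤ L := centralizer_le_normalizer _
  have hCPCQ : CP ≤ CQ := centralizer_le (by exact_mod_cast hQ)
  have hCPNP : CP ≤ NP := centralizer_le_normalizer _
  have hCPA : CP ≤ A := le_inf (hCPCQ.trans hCQL) hCPNP
  have hANP : A ≤ NP := inf_le_right
  have hnorm : (CQ.subgroupOf L).Normal := normal_subgroupOf_centralizer_normalizer _
  have htop : A.subgroupOf L ⊔ CQ.subgroupOf L = ⊤ := by
    rw [← subgroupOf_sup hAL hCQL, ← part1]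
    exact subgroupOf_self L
  have e1 : (CQ.subgroupOf L).index = CQ.relIndex A := by
    rw [← relIndex_top_right, ← htop, relIndex_sup_right, relIndex_subgroupOf hAL]
  have e2 : CQ.relIndex A ∣ CP.relIndex A := relIndex_dvd_of_le_left A hCPCQ
  have e3 : CP.relIndex A ∣ CP.relIndex NP := by
    rw [← relIndex_mul_relIndex CP A NP hCPA hANP]
    exact dvd_mul_right _ _
  rw [e1]
  exact e2.trans e3

end Cfsg.Agent.S2268
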