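import Cfsg.Statements.S2270

set_option autoImplicit false
open Cfsg

namespace Cfsg.Agent.S2270

open Subgroup in
theorem even_automizer_of_inverting {G : Type*} [Group G] [Finite G] {p : ℕ} [Fact p.Prime] (hp : p ≠ 2)
    (P : Sylow p G) (hP : IsMulCommutative (P : Subgroup G))
    (x : G) (hxP : x ∈ (P : Subgroup G)) (hxo : orderOf x = p) (hconj : IsConj x x⁻¹) :
    2 ∣ ((centralizer ((P : Subgroup G) : Set G)).subgroupOf (normalizer ((P : Subgroup G) : Set G))).index := by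
  have hpp : p.Prime := Fact.out
  obtain ⟨g, hg⟩ := isConj_iff.mp hconj
  have hy : g⁻¹⁻¹ * x * g⁻¹ ∈ (P : Subgroup G) := by
    rw [inv_inv, hg]; exact inv_mem hxP
  have : IsMulCommutative (P : Subgroup G) := hP
  obtain ⟨n, hn, hnx⟩ := Sylow.conj_eq_normalizer_conj_of_mem P x g⁻¹ hxP hy
  rw [inv_inv, hg] at hnx
  have hxne : x⁻¹ ≠ x := by
    intro h
    have h2 : x ^ 2 = 1 := by
      rw [pow_two]
      calc x * x = x⁻¹ * x := by rw [h]
        _ = 1 := inv_mul_cancel x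
    have := orderOf_dvd_of_pow_eq_one h2
    rw [hxo] at this
    exact hp ((Nat.prime_dvd_prime_iff_eq hpp Nat.prime_two).mp this)
  have hcomm2 : Commute (n ^ 2) x := by
    have h1 : n⁻¹ * x⁻¹ * n = x := by
      have hx' : x = (n⁻¹ * x * n)⁻¹ := by rw [← hnx, inv_inv]
      calc n⁻¹ * x⁻¹ * n = (n⁻¹ * x * n)⁻¹ := by group
        _ = x := hx'.symm
    have h2 : n⁻¹ * (n⁻¹ * x * n) * n = x := by rw [← hnx]; exact h1
    have h3 : (n ^ 2)⁻¹ * x * n ^ 2 = x := by
      calc (n ^ 2)⁻¹ * x * n ^ 2 = n⁻¹ * (n⁻¹ * x * n) * n := by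
            simp only [pow_two, mul_inv_rev, mul_assoc]
        _ = x := h2
    have : x * n ^ 2 = n ^ 2 * x := by
      calc x * n ^ 2 = n ^ 2 * ((n ^ 2)⁻¹ * x * n ^ 2) := by group
        _ = n ^ 2 * x := by rw [h3]
    exact this.symm
  set N : Subgroup G := normalizer ((P : Subgroup G) : Set G) with hN
  set C : Subgroup N := (centralizer ((P : Subgroup G) : Set G)).subgroupOf N with hC
  have : C.Normal := normal_subgroupOf_centralizer_normalizer _
  let nb : N ⧸ C := QuotientGroup.mk (⟨n, hn⟩ : N)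
  have hdvd : orderOf nb ∣ Nat.card (N ⧸ C) := orderOf_dvd_natCard nb
  rw [Subgroup.index_eq_card]
  refine dvd_trans ?_ hdvd
  by_contra hodd
  have hodd' : Odd (orderOf nb) := Nat.not_even_iff_odd.mp (fun h => hodd (even_iff_two_dvd.mp h))
  obtain ⟨j, hj⟩ := hodd'
  have hpow : nb ^ (2 * j + 1) = 1 := by rw [← hj]; exact pow_orderOf_eq_one nb
  have hmem : (⟨n, hn⟩ : N) ^ (2 * j + 1) ∈ C := by
    rw [← QuotientGroup.eq_one_iff]
    exact hpow
  have hmem' : n ^ (2 * j + 1) ∈ centralizer ((P : Subgroup G) : Set G) := by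
    have := hmem
    rw [hC, mem_subgroupOf] at this
    simpa using this
  have hc : x * n ^ (2 * j + 1) = n ^ (2 * j + 1) * x := by
    rw [mem_centralizer_iff] at hmem'
    exact hmem' x hxP
  have hcj : Commute ((n ^ 2) ^ j) x := hcomm2.pow_left j
  have e : n ^ (2 * j + 1) = (n ^ 2) ^ j * n := by
    rw [pow_succ, pow_mul]
  rw [e] at hc
  have hc2 : (n ^ 2) ^ j * (x * n) = (n ^ 2) ^ j * (n * x) := by
    calc (n ^ 2) ^ j * (x * n) = ((n ^ 2) ^ j * x) * n := by group
      _ = (x * (n ^ 2) ^ j) * n := by rw [hcj.eq]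
      _ = x * ((n ^ 2) ^ j * n) := by group
      _ = (n ^ 2) ^ j * n * x := hc
      _ = (n ^ 2) ^ j * (n * x) := by group
  have hc3 : x * n = n * x := mul_left_cancel hc2
  apply hxne
  rw [hnx]
  calc n⁻¹ * x * n = n⁻¹ * (x * n) := by group
    _ = n⁻¹ * (n * x) := by rw [hc3]
    _ = x := by group

theorem result (n : ℕ) (hn : 3 ≤ n) {p : ℕ} [Fact p.Prime] (hp : p ≠ 2) (hpn : p ≤ n)
    (P : Sylow p (Equiv.Perm (Fin n))) (hP : IsMulCommutative (P : Subgroup (Equiv.Perm (Fin n)))) :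
    2 ∣ ((Subgroup.centralizer ((P : Subgroup (Equiv.Perm (Fin n))) : Set (Equiv.Perm (Fin n)))).subgroupOf (Subgroup.normalizer ((P : Subgroup (Equiv.Perm (Fin n))) : Set (Equiv.Perm (Fin n))))).index := by
  have hpp : p.Prime := Fact.out
  have hcardG : Nat.card (Equiv.Perm (Fin n)) = n.factorial := by
    rw [Nat.card_eq_fintype_card, Fintype.card_perm, Fintype.card_fin]
  have hpdvd : p ∣ Nat.card (Equiv.Perm (Fin n)) := by
    rw [hcardG]; exact (hpp.dvd_factorial).mpr hpn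
  have hcardP : p ∣ Nat.card (P : Subgroup (Equiv.Perm (Fin n))) := by
    rw [Sylow.card_eq_multiplicity]
    have : 1 ≤ (Nat.card (Equiv.Perm (Fin n))).factorization p := by
      have hne : Nat.card (Equiv.Perm (Fin n)) ≠ 0 := Nat.card_pos.ne'
      exact (hpp.dvd_iff_one_le_factorization hne).mp hpdvd
    exact dvd_pow_self p (by omega)
  obtain ⟨x, hx⟩ := exists_prime_orderOf_dvd_card' (G := (P : Subgroup (Equiv.Perm (Fin n)))) p hcardP
  have hxo : orderOf (x : Equiv.Perm (Fin n)) = p := by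
    rw [Subgroup.orderOf_coe]; exact hx
  have hconj : IsConj (x : Equiv.Perm (Fin n)) (x : Equiv.Perm (Fin n))⁻¹ := by
    rw [Equiv.Perm.isConj_iff_cycleType_eq, Equiv.Perm.cycleType_inv]
  exact even_automizer_of_inverting hp P hP x x.2 hxo hconj

end Cfsg.Agent.S2270
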