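import Cfsg.Statements.S2269
import Cfsg.Agent.S2270
import Cfsg.Agent.S2231

set_option autoImplicit false
open Cfsg

namespace Cfsg.Agent.S2269

open Equiv Equiv.Perm

theorem conj_inv_alt (n : ℕ) (x : alternatingGroup (Fin n))
    (hc : ¬ Subgroup.centralizer {(x : Perm (Fin n))} ≤ alternatingGroup (Fin n)) : IsConj x x⁻¹ := by
  rw [SetLike.not_le_iff_exists] at hc
  obtain ⟨c, hc1, hc2⟩ := hc
  have hconj : IsConj (x : Perm (Fin n)) (x : Perm (Fin n))⁻¹ := by
    rw [Equiv.Perm.isConj_iff_cycleType_eq, Equiv.Perm.cycleType_inv]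
  obtain ⟨σ, hσ⟩ := isConj_iff.mp hconj
  rw [Subgroup.mem_centralizer_singleton_iff] at hc1
  rw [mem_alternatingGroup] at hc2
  have hcs : sign c = -1 := (Int.units_eq_one_or (sign c)).resolve_left hc2
  rcases Int.units_eq_one_or (sign σ) with h | h
  · rw [isConj_iff]
    refine ⟨⟨σ, mem_alternatingGroup.mpr h⟩, ?_⟩
    apply Subtype.ext
    exact hσ
  · rw [isConj_iff]
    refine ⟨⟨σ * c, mem_alternatingGroup.mpr (by rw [map_mul, h, hcs]; rfl)⟩, ?_⟩
    apply Subtype.ext
    show σ * c * (x : Perm (Fin n)) * (σ * c)⁻¹ = (x : Perm (Fin n))⁻¹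
    rw [← hσ]
    have : c * (x : Perm (Fin n)) = (x : Perm (Fin n)) * c := hc1
    calc σ * c * (x : Perm (Fin n)) * (σ * c)⁻¹ = σ * (c * (x : Perm (Fin n))) * c⁻¹ * σ⁻¹ := by group
      _ = σ * ((x : Perm (Fin n)) * c) * c⁻¹ * σ⁻¹ := by rw [this]
      _ = σ * (x : Perm (Fin n)) * σ⁻¹ := by group

theorem not_sq_dvd_factorial {p n : ℕ} (hp : p.Prime) (h1 : p ≤ n) (h2 : n ≤ p + 1) (hp2 : p ≠ 2) :
    ¬ p ^ 2 ∣ n.factorial := by
  have hp3 : 3 ≤ p := by
    have := hp.two_le
    omega
  have hlog : Nat.log p n < 2 := by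
    apply Nat.log_lt_of_lt_pow (by omega)
    nlinarith
  rw [Nat.Prime.pow_dvd_factorial_iff hp hlog]
  simp only [Nat.Ico_succ_singleton, Finset.sum_singleton, pow_one, not_le]
  have : n / p = 1 := by
    apply Nat.div_eq_of_lt_le
    · simpa using h1
    · nlinarith
  omega

theorem odd_case (n : ℕ) (hn : 5 ≤ n) {p : ℕ} [Fact p.Prime] (hp : p ≠ 2)
    (P : Sylow p (alternatingGroup (Fin n))) (hP : IsMulCommutative (P : Subgroup (alternatingGroup (Fin n)))) :
    2 ∣ ((Subgroup.centralizer ((P : Subgroup (alternatingGroup (Fin n))) : Set (alternatingGroup (Fin n)))).subgroupOf (Subgroup.normalizer ((P : Subgroup (alternatingGroup (Fin n))) : Set (alternatingGroup (Fin n))))).index ∨ IsCyclic (P : Subgroup (alternatingGroup (Fin n))) := by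
  have hpp : p.Prime := Fact.out
  by_cases hcard : Nat.card (P : Subgroup (alternatingGroup (Fin n))) = 1
  · right
    have := (Nat.card_eq_one_iff_unique.mp hcard).1
    exact isCyclic_of_subsingleton
  · obtain ⟨m, hm⟩ := IsPGroup.iff_card.mp P.2
    have hm0 : m ≠ 0 := by
      intro h; rw [h, pow_zero] at hm; exact hcard hm
    have hpdvd : p ∣ Nat.card (P : Subgroup (alternatingGroup (Fin n))) := by
      rw [hm]; exact dvd_pow_self p hm0
    obtain ⟨x, hx⟩ := exists_prime_orderOf_dvd_card' (G := (P : Subgroup (alternatingGroup (Fin n)))) p hpdvd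
    have hxo : orderOf (x : alternatingGroup (Fin n)) = p := by
      rw [Subgroup.orderOf_coe]; exact hx
    have hxo' : orderOf ((x : alternatingGroup (Fin n)) : Perm (Fin n)) = p := by
      rw [Subgroup.orderOf_coe]; exact hxo
    by_cases hc : Subgroup.centralizer {((x : alternatingGroup (Fin n)) : Perm (Fin n))} ≤ alternatingGroup (Fin n)
    · right
      rw [Equiv.Perm.centralizer_le_alternating_iff] at hc
      obtain ⟨-, hc2, hc3⟩ := hc
      obtain ⟨k, hk⟩ := Equiv.Perm.cycleType_prime_order (σ := ((x : alternatingGroup (Fin n)) : Perm (Fin n)))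
        (by rw [hxo']; exact hpp)
      rw [hxo'] at hk
      have hk0 : k = 0 := by
        have := hc3 p
        rw [hk, Multiset.count_replicate_self] at this
        omega
      rw [hk0] at hk
      rw [hk] at hc2
      simp only [zero_add, Multiset.replicate_one, Multiset.sum_singleton, Fintype.card_fin] at hc2
      have hpn : p ≤ n := by
        have h1 := Equiv.Perm.sum_cycleType ((x : alternatingGroup (Fin n)) : Perm (Fin n))
        rw [hk] at h1
        simp only [zero_add, Multiset.replicate_one, Multiset.sum_singleton] at h1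
        have h2 := Finset.card_le_univ ((x : alternatingGroup (Fin n)) : Perm (Fin n)).support
        rw [← h1, Fintype.card_fin] at h2
        exact h2
      have hm1 : m = 1 := by
        by_contra hne
        have hm2 : 2 ≤ m := by omega
        have h1 : p ^ m ∣ Nat.card (alternatingGroup (Fin n)) := by
          rw [← hm]; exact Subgroup.card_subgroup_dvd_card _
        haveI : Nontrivial (Fin n) := Fin.nontrivial_iff_two_le.mpr (by omega)
        have h2 : Nat.card (alternatingGroup (Fin n)) ∣ n.factorial := by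
          have := two_mul_nat_card_alternatingGroup (α := Fin n)
          rw [Nat.card_eq_fintype_card (α := Perm (Fin n)), Fintype.card_perm, Fintype.card_fin] at this
          exact Dvd.intro_left _ this
        exact not_sq_dvd_factorial hpp hpn hc2 hp ((pow_dvd_pow p hm2).trans (h1.trans h2))
      rw [hm1, pow_one] at hm
      haveI : Fact (Nat.card (P : Subgroup (alternatingGroup (Fin n)))).Prime := ⟨by rw [hm]; exact hpp⟩
      exact isCyclic_of_prime_card hm
    · left
      have hconj := conj_inv_alt n (x : alternatingGroup (Fin n)) hc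
      exact Cfsg.Agent.S2270.even_automizer_of_inverting hp P hP (x : alternatingGroup (Fin n)) x.2 hxo hconj

theorem dihedral_pgroup {G : Type*} [Group G] [Finite G] (a b : G) (ha : a ^ 4 = 1) (hb : b ^ 2 = 1)
    (hab : b * a * b⁻¹ = a⁻¹) : IsPGroup 2 (Subgroup.zpowers b ⊔ Subgroup.zpowers a : Subgroup G) := by
  have hH : IsPGroup 2 (Subgroup.zpowers b) := by
    rintro ⟨g, hg⟩
    obtain ⟨k, rfl⟩ := Subgroup.mem_zpowers_iff.mp hg
    refine ⟨1, ?_⟩
    apply Subtype.ext
    show (b ^ k) ^ (2 ^ 1) = 1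
    rw [pow_one, ← zpow_natCast, ← zpow_mul, mul_comm, zpow_mul, zpow_natCast, hb, one_zpow]
  have hK : IsPGroup 2 (Subgroup.zpowers a) := by
    rintro ⟨g, hg⟩
    obtain ⟨k, rfl⟩ := Subgroup.mem_zpowers_iff.mp hg
    refine ⟨2, ?_⟩
    apply Subtype.ext
    show (a ^ k) ^ (2 ^ 2) = 1
    have : (2 : ℕ) ^ 2 = 4 := by norm_num
    rw [this, ← zpow_natCast, ← zpow_mul, mul_comm, zpow_mul, zpow_natCast, ha, one_zpow]
  have hHK : Subgroup.zpowers b ≤ Subgroup.normalizer (Subgroup.zpowers a : Set G) := by
    rw [Subgroup.zpowers_le]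
    apply Subgroup.mem_normalizer_fintype
    intro g hg
    obtain ⟨k, rfl⟩ := Subgroup.mem_zpowers_iff.mp hg
    rw [← conj_zpow, hab]
    exact Subgroup.zpow_mem _ (Subgroup.inv_mem _ (Subgroup.mem_zpowers a)) k
  exact IsPGroup.to_sup_of_normal_right' hH hK hHK

def aEl : Perm (Fin 6) := swap 0 1 * swap 1 2 * swap 2 3 * swap 4 5

def bEl : Perm (Fin 6) := swap 0 2 * swap 4 5

theorem aEl_pow : aEl ^ 4 = 1 := by decide

theorem bEl_pow : bEl ^ 2 = 1 := by decide

theorem ab_conj : bEl * aEl * bEl⁻¹ = aEl⁻¹ := by decide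

theorem ab_ne : aEl * bEl ≠ bEl * aEl := by decide

theorem aEl_sign : sign aEl = 1 := by decide

theorem bEl_sign : sign bEl = 1 := by decide

theorem sign_via (n : ℕ) (h : 6 ≤ n) (e : Perm (Fin 6)) :
    sign (viaEmbeddingHom (Fin.castLEEmb h) e) = sign e := by
  rw [viaEmbeddingHom_apply]
  exact @sign_extendDomain _ _ _ _ _ _ e _ (fun a => Classical.propDecidable _) _

theorem two_case (n : ℕ) (hn : 6 ≤ n) (P : Sylow 2 (alternatingGroup (Fin n)))
    (hP : IsMulCommutative (P : Subgroup (alternatingGroup (Fin n)))) : False := by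
  have hab : Cfsg.Agent.S2231.AbP 2 (alternatingGroup (Fin n)) := by
    apply Cfsg.Agent.S2231.abP_of_sylow P
    intro x hx y hy
    have := mul_comm' (⟨x, hx⟩ : (P : Subgroup (alternatingGroup (Fin n)))) ⟨y, hy⟩
    exact congrArg Subtype.val this
  set ι := viaEmbeddingHom (Fin.castLEEmb hn) with hι
  have hinj : Function.Injective ι := viaEmbeddingHom_injective _
  let a' : alternatingGroup (Fin n) := ⟨ι aEl, mem_alternatingGroup.mpr (by rw [hι, sign_via, aEl_sign])⟩
  let b' : alternatingGroup (Fin n) := ⟨ι bEl, mem_alternatingGroup.mpr (by rw [hι, sign_via, bEl_sign])⟩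
  have ha4 : a' ^ 4 = 1 := by
    apply Subtype.ext
    show (ι aEl) ^ 4 = 1
    rw [← map_pow, aEl_pow, map_one]
  have hb2 : b' ^ 2 = 1 := by
    apply Subtype.ext
    show (ι bEl) ^ 2 = 1
    rw [← map_pow, bEl_pow, map_one]
  have hconj : b' * a' * b'⁻¹ = a'⁻¹ := by
    apply Subtype.ext
    show ι bEl * ι aEl * (ι bEl)⁻¹ = (ι aEl)⁻¹
    rw [← map_inv, ← map_inv, ← map_mul, ← map_mul, ab_conj]
  have hne : a' * b' ≠ b' * a' := by
    intro h
    have h' : ι aEl * ι bEl = ι bEl * ι aEl := congrArg Subtype.val h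
    rw [← map_mul, ← map_mul] at h'
    exact ab_ne (hinj h')
  have hQ := dihedral_pgroup a' b' ha4 hb2 hconj
  have hbm : b' ∈ (Subgroup.zpowers b' ⊔ Subgroup.zpowers a' : Subgroup (alternatingGroup (Fin n))) :=
    (le_sup_left : Subgroup.zpowers b' ≤ _) (Subgroup.mem_zpowers b')
  have ham : a' ∈ (Subgroup.zpowers b' ⊔ Subgroup.zpowers a' : Subgroup (alternatingGroup (Fin n))) :=
    (le_sup_right : Subgroup.zpowers a' ≤ _) (Subgroup.mem_zpowers a')
  exact hne (hab _ hQ a' ham b' hbm)

set_option maxRecDepth 100000 in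
theorem factA : ∀ g : Perm (Fin 5), sign g = 1 → g ^ 4 = 1 → g ^ 2 = 1 := by decide

theorem card_A5 : Nat.card (alternatingGroup (Fin 5)) = 60 := by
  have := two_mul_nat_card_alternatingGroup (α := Fin 5)
  rw [Nat.card_eq_fintype_card (α := Perm (Fin 5)), Fintype.card_perm, Fintype.card_fin] at this
  have h : Nat.factorial 5 = 120 := by decide
  omega

theorem card_syl (P : Sylow 2 (alternatingGroup (Fin 5))) :
    Nat.card (P : Subgroup (alternatingGroup (Fin 5))) = 4 ∧ (P : Subgroup (alternatingGroup (Fin 5))).index = 15 := by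
  obtain ⟨k, hk⟩ := IsPGroup.iff_card.mp P.2
  have h1 := Subgroup.card_mul_index (P : Subgroup (alternatingGroup (Fin 5)))
  rw [card_A5, hk] at h1
  have h2 := P.not_dvd_index
  have hk5 : k < 6 := by
    by_contra h
    have : 2 ^ 6 ≤ 2 ^ k := Nat.pow_le_pow_right (by norm_num) (by omega)
    have hpos : 0 < (P : Subgroup (alternatingGroup (Fin 5))).index := by
      rcases Nat.eq_zero_or_pos (P : Subgroup (alternatingGroup (Fin 5))).index with h0 | h0
      · rw [h0] at h1; omega
      · exact h0
    nlinarith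
  rw [hk]
  interval_cases k <;> omega

theorem five_case (P : Sylow 2 (alternatingGroup (Fin 5))) :
    ((Subgroup.centralizer ((P : Subgroup (alternatingGroup (Fin 5))) : Set (alternatingGroup (Fin 5)))).subgroupOf (Subgroup.normalizer ((P : Subgroup (alternatingGroup (Fin 5))) : Set (alternatingGroup (Fin 5))))).index = 3 ∧ IsKleinFour (P : Subgroup (alternatingGroup (Fin 5))) := by
  obtain ⟨hc4, hi15⟩ := card_syl P
  have hsq : ∀ g : (P : Subgroup (alternatingGroup (Fin 5))), g ^ 2 = 1 := by
    intro g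
    have h4 : g ^ 4 = 1 := by rw [← hc4]; exact pow_card_eq_one'
    have h4' : ((g : alternatingGroup (Fin 5)) : Perm (Fin 5)) ^ 4 = 1 := by
      have := congrArg (fun x : (P : Subgroup (alternatingGroup (Fin 5))) => ((x : alternatingGroup (Fin 5)) : Perm (Fin 5))) h4
      simpa using this
    have := factA _ (mem_alternatingGroup.mp (g : alternatingGroup (Fin 5)).2) h4'
    apply Subtype.ext
    apply Subtype.ext
    simpa using this
  have hK : IsKleinFour (P : Subgroup (alternatingGroup (Fin 5))) := by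
    refine ⟨hc4, ?_⟩
    have hd : Monoid.exponent (P : Subgroup (alternatingGroup (Fin 5))) ∣ 2 :=
      Monoid.exponent_dvd_of_forall_pow_eq_one hsq
    rcases (Nat.dvd_prime Nat.prime_two).mp hd with h | h
    · rw [Monoid.exp_eq_one_iff] at h
      have := Nat.card_eq_one_iff_unique.mpr ⟨h, ⟨1⟩⟩
      omega
    · exact h
  refine ⟨?_, hK⟩
  haveI : IsMulCommutative (P : Subgroup (alternatingGroup (Fin 5))) := by
    refine ⟨⟨fun a b => ?_⟩⟩
    have ha := hsq a
    have hb := hsq b
    have hab := hsq (a * b)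
    have e1 : a⁻¹ = a := by
      rw [inv_eq_iff_mul_eq_one, ← pow_two]; exact ha
    have e2 : b⁻¹ = b := by
      rw [inv_eq_iff_mul_eq_one, ← pow_two]; exact hb
    have e3 : (a * b)⁻¹ = a * b := by
      rw [inv_eq_iff_mul_eq_one, ← pow_two]; exact hab
    rw [mul_inv_rev, e1, e2] at e3
    exact e3.symm
  set N := Subgroup.normalizer ((P : Subgroup (alternatingGroup (Fin 5))) : Set (alternatingGroup (Fin 5))) with hN
  set C := Subgroup.centralizer ((P : Subgroup (alternatingGroup (Fin 5))) : Set (alternatingGroup (Fin 5))) with hC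
  have h24 : (C.subgroupOf N).index ∣ 24 := by
    rw [← Subgroup.normalizerMonoidHom_ker, Subgroup.index_ker]
    have h1 : Nat.card ((P : Subgroup (alternatingGroup (Fin 5))).normalizerMonoidHom.range) ∣
        Nat.card (MulAut (P : Subgroup (alternatingGroup (Fin 5)))) := Subgroup.card_subgroup_dvd_card _
    have h2 : Nat.card (MulAut (P : Subgroup (alternatingGroup (Fin 5)))) ∣
        Nat.card (Perm (P : Subgroup (alternatingGroup (Fin 5)))) :=
      Subgroup.card_dvd_of_injective (MulAut.toPerm _) MulEquiv.toEquiv_injective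
    have h3 : Nat.card (Perm (P : Subgroup (alternatingGroup (Fin 5)))) = 24 := by
      rw [Nat.card_perm, hc4]; decide
    rw [h3] at h2
    exact h1.trans h2
  have h15 : (C.subgroupOf N).index ∣ 15 := by
    have h1 : C.relIndex N ∣ (P : Subgroup (alternatingGroup (Fin 5))).relIndex N :=
      Subgroup.relIndex_dvd_of_le_left N (Subgroup.le_centralizer _)
    have h2 : (P : Subgroup (alternatingGroup (Fin 5))).relIndex N ∣ (P : Subgroup (alternatingGroup (Fin 5))).index :=
      Subgroup.relIndex_dvd_index_of_le Subgroup.le_normalizer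
    rw [hi15] at h2
    exact h1.trans h2
  have h3 : (C.subgroupOf N).index ∣ 3 := by
    have := Nat.dvd_gcd h24 h15
    norm_num at this
    exact this
  rcases (Nat.dvd_prime Nat.prime_three).mp h3 with h | h
  · exfalso
    rw [Subgroup.index_eq_one, Subgroup.subgroupOf_eq_top] at h
    have hcomp := MonoidHom.ker_transferSylow_isComplement' P h
    have hcard := hcomp.card_mul_card
    rw [hc4, card_A5] at hcard
    have hker : Nat.card (MonoidHom.transferSylow P h).ker = 15 := by omega
    rcases (MonoidHom.transferSylow P h).normal_ker.eq_bot_or_eq_top with hb | ht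
    · rw [hb, Subgroup.card_bot] at hker; omega
    · rw [ht, Subgroup.card_top, card_A5] at hker; omega
  · exact h

theorem result (n : ℕ) (hn : 5 ≤ n) {p : ℕ} [Fact p.Prime]
    (P : Sylow p (alternatingGroup (Fin n))) (hP : IsMulCommutative (P : Subgroup (alternatingGroup (Fin n)))) :
    (¬ (n = 5 ∧ p = 2) → 2 ∣ ((Subgroup.centralizer ((P : Subgroup (alternatingGroup (Fin n))) : Set (alternatingGroup (Fin n)))).subgroupOf (Subgroup.normalizer ((P : Subgroup (alternatingGroup (Fin n))) : Set (alternatingGroup (Fin n))))).index ∨ IsCyclic (P : Subgroup (alternatingGroup (Fin n)))) ∧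
    ((n = 5 ∧ p = 2) → ((Subgroup.centralizer ((P : Subgroup (alternatingGroup (Fin n))) : Set (alternatingGroup (Fin n)))).subgroupOf (Subgroup.normalizer ((P : Subgroup (alternatingGroup (Fin n))) : Set (alternatingGroup (Fin n))))).index = 3 ∧ IsKleinFour (P : Subgroup (alternatingGroup (Fin n)))) := by
  constructor
  · intro hne
    by_cases hp : p = 2
    · subst hp
      have h6 : 6 ≤ n := by
        by_contra h
        exact hne ⟨by omega, rfl⟩
      exact (two_case n h6 P hP).elim
    · exact odd_case n hn hp P hP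
  · rintro ⟨rfl, rfl⟩
    exact five_case P

end Cfsg.Agent.S2269
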