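import Cfsg.Statements.S2272
import Cfsg.Agent.Lib.helper14.SLnVec
import Cfsg.Agent.Lib.helper2.MIDefs

set_option autoImplicit false
open Cfsg

namespace Cfsg.Agent.S2272

open Matrix Cfsg.Agent.Lib.helper14.SLnVec Cfsg.Agent.Lib.helper2.MI

section LinAlg

variable {F : Type*} [Field F] {d : ℕ}

/-- a non-scalar matrix has a vector which is not an eigenvector -/
theorem s2272_exists_not_eigen (hd : 3 ≤ d) (A : Matrix (Fin d) (Fin d) F)
    (hA : ∀ c : F, A ≠ c • (1 : Matrix (Fin d) (Fin d) F)) :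
    ∃ u : Fin d → F, ∀ c : F, A *ᵥ u ≠ c • u := by
  classical
  by_contra hcon
  push Not at hcon
  choose c hc using hcon
  have key : ∀ i j : Fin d, c (Pi.single i 1) = c (Pi.single j 1) := by
    intro i j
    by_cases hij : i = j
    · rw [hij]
    · have h1 := hc (Pi.single i 1 + Pi.single j 1)
      rw [Matrix.mulVec_add, hc (Pi.single i 1), hc (Pi.single j 1)] at h1
      have hi := congrFun h1 i
      have hj := congrFun h1 j
      simp [hij, Ne.symm hij] at hi hj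
      rw [hi, hj]
  let i0 : Fin d := ⟨0, by omega⟩
  apply hA (c (Pi.single i0 1))
  ext i j
  have h2 := congrFun (hc (Pi.single j 1)) i
  rw [key j i0, Matrix.mulVec_single_one] at h2
  simp only [Matrix.col_apply, Pi.smul_apply, smul_eq_mul, Pi.single_apply] at h2
  rw [Matrix.smul_apply, Matrix.one_apply, h2, smul_eq_mul]

/-- a row vector vanishing on `a`, `b` and equal to `1` on `x ∉ ⟨a, b⟩` -/
theorem s2272_exists_row (a b x : Fin d → F)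
    (hx : x ∉ Submodule.span F ({a, b} : Set (Fin d → F))) :
    ∃ θ : Fin d → F, θ ⬝ᵥ a = 0 ∧ θ ⬝ᵥ b = 0 ∧ θ ⬝ᵥ x = 1 := by
  classical
  obtain ⟨f, hfx, hf⟩ := Submodule.exists_dual_map_eq_bot_of_notMem hx inferInstance
  have hzero : ∀ w ∈ Submodule.span F ({a, b} : Set (Fin d → F)), f w = 0 := by
    intro w hw
    have : f w ∈ (Submodule.span F ({a, b} : Set (Fin d → F))).map f :=
      Submodule.mem_map_of_mem hw
    rw [hf] at this
    exact (Submodule.mem_bot F).mp this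
  have hdot : ∀ w : Fin d → F,
      (fun i => f (fun j => if i = j then (1 : F) else 0)) ⬝ᵥ w = f w := by
    intro w
    rw [LinearMap.pi_apply_eq_sum_univ f w]
    simp only [dotProduct, smul_eq_mul]
    exact Finset.sum_congr rfl (fun i _ => mul_comm _ _)
  refine ⟨(f x)⁻¹ • fun i => f (fun j => if i = j then (1 : F) else 0), ?_, ?_, ?_⟩
  · rw [smul_dotProduct, hdot, hzero a (Submodule.subset_span (by simp)), smul_zero]
  · rw [smul_dotProduct, hdot, hzero b (Submodule.subset_span (by simp)), smul_zero]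
  · rw [smul_dotProduct, hdot, smul_eq_mul, inv_mul_cancel₀ hfx]

/-- the trace of `A` times a transvection-conjugate of `X` -/
theorem s2272_trace_formula (A X : Matrix (Fin d) (Fin d) F) (u θ : Fin d → F) :
    trace (A * ((1 + vecMulVec u θ) * X * (1 - vecMulVec u θ))) =
      trace (A * X) + θ ⬝ᵥ (X *ᵥ (A *ᵥ u)) - θ ⬝ᵥ (A *ᵥ (X *ᵥ u)) -
        (θ ⬝ᵥ (X *ᵥ u)) * (θ ⬝ᵥ (A *ᵥ u)) := by
  have e : A * ((1 + vecMulVec u θ) * X * (1 - vecMulVec u θ)) =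
      A * X + A * vecMulVec u θ * X - A * X * vecMulVec u θ -
        A * vecMulVec u θ * X * vecMulVec u θ := by
    noncomm_ring
  rw [e, trace_sub, trace_sub, trace_add]
  have t1 : trace (A * vecMulVec u θ * X) = θ ⬝ᵥ (X *ᵥ (A *ᵥ u)) := by
    rw [Matrix.mul_vecMulVec, Matrix.vecMulVec_mul, trace_vecMulVec, dotProduct_comm,
      ← dotProduct_mulVec]
  have t2 : trace (A * X * vecMulVec u θ) = θ ⬝ᵥ (A *ᵥ (X *ᵥ u)) := by
    rw [Matrix.mul_vecMulVec, trace_vecMulVec, dotProduct_comm, ← mulVec_mulVec]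
  have t3 : trace (A * vecMulVec u θ * X * vecMulVec u θ) =
      (θ ⬝ᵥ (X *ᵥ u)) * (θ ⬝ᵥ (A *ᵥ u)) := by
    rw [Matrix.mul_vecMulVec A u θ, Matrix.vecMulVec_mul, Matrix.vecMulVec_mul_vecMulVec,
      trace_vecMulVec, dotProduct_smul, smul_eq_mul, ← dotProduct_mulVec, dotProduct_comm _ θ]
  rw [t1, t2, t3]


local notation:1024 "↑ₘ" A:1024 =>
  ((A : Matrix.SpecialLinearGroup (Fin d) F) : Matrix (Fin d) (Fin d) F)

theorem s2272_inv_mul (g : Matrix.SpecialLinearGroup (Fin d) F) : ↑ₘ(g⁻¹) * ↑ₘg = 1 := by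
  rw [← Matrix.SpecialLinearGroup.coe_mul, inv_mul_cancel, Matrix.SpecialLinearGroup.coe_one]

/-- key lemma: by conjugating `B` we can prescribe the trace of `A * B'` -/
theorem s2272_main (hd : 3 ≤ d) (A B : Matrix.SpecialLinearGroup (Fin d) F)
    (hA : ∀ c : F, ↑ₘA ≠ c • (1 : Matrix (Fin d) (Fin d) F))
    (hB : ∀ c : F, ↑ₘB ≠ c • (1 : Matrix (Fin d) (Fin d) F)) (τ : F) :
    ∃ h : Matrix.SpecialLinearGroup (Fin d) F, trace (↑ₘA * ↑ₘ(h * B * h⁻¹)) = τ := by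
  obtain ⟨u, hu⟩ := s2272_exists_not_eigen hd ↑ₘA hA
  obtain ⟨w, hw⟩ := s2272_exists_not_eigen hd ↑ₘB hB
  have hu0 : u ≠ 0 := by
    rintro rfl
    exact hu 0 (by simp)
  have hw0 : w ≠ 0 := by
    rintro rfl
    exact hw 0 (by simp)
  obtain ⟨v, hv⟩ : ∃ v, v = ↑ₘA *ᵥ u := ⟨_, rfl⟩
  have hvu : v ∉ Submodule.span F ({u} : Set (Fin d → F)) := by
    intro h
    obtain ⟨c, hc⟩ := Submodule.mem_span_singleton.mp h
    exact hu c (by rw [hc, hv])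
  obtain ⟨ga, hga⟩ := exists_sl_map hd w u hw0 hu0
  obtain ⟨w₂, hw₂⟩ : ∃ w₂, w₂ = ↑ₘga *ᵥ (↑ₘB *ᵥ w) := ⟨_, rfl⟩
  have hw₂u : w₂ ∉ Submodule.span F ({u} : Set (Fin d → F)) := by
    intro h
    obtain ⟨c, hc⟩ := Submodule.mem_span_singleton.mp h
    apply hw c
    have h1 : ↑ₘga *ᵥ (c • w) = ↑ₘga *ᵥ (↑ₘB *ᵥ w) := by
      rw [Matrix.mulVec_smul, hga, hc, hw₂]
    have h2 : ↑ₘ(ga⁻¹) *ᵥ (↑ₘga *ᵥ (c • w)) = ↑ₘ(ga⁻¹) *ᵥ (↑ₘga *ᵥ (↑ₘB *ᵥ w)) := by rw [h1]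
    rw [mulVec_mulVec, mulVec_mulVec, s2272_inv_mul, one_mulVec, one_mulVec] at h2
    exact h2.symm
  obtain ⟨y, hy⟩ := exists_notMem_span_pair hd u v
  have hyu : y ∉ Submodule.span F ({u} : Set (Fin d → F)) :=
    fun h => hy (Submodule.span_mono (by simp) h)
  obtain ⟨gb, hgbu, hgbw⟩ := exists_sl_fix hd u w₂ y hw₂u hyu
  obtain ⟨g₁, hg₁⟩ : ∃ g₁, g₁ = gb * ga := ⟨_, rfl⟩
  obtain ⟨X, hX⟩ : ∃ X, X = g₁ * B * g₁⁻¹ := ⟨_, rfl⟩
  have hXu : ↑ₘX *ᵥ u = y := by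
    have h1 : ↑ₘg₁ *ᵥ w = u := by
      rw [hg₁, Matrix.SpecialLinearGroup.coe_mul, ← mulVec_mulVec, hga, hgbu]
    have h2 : ↑ₘ(g₁⁻¹) *ᵥ u = w := by
      rw [← h1, mulVec_mulVec, s2272_inv_mul, one_mulVec]
    rw [hX, Matrix.SpecialLinearGroup.coe_mul, Matrix.SpecialLinearGroup.coe_mul, ← mulVec_mulVec,
      ← mulVec_mulVec, h2, hg₁, Matrix.SpecialLinearGroup.coe_mul, ← mulVec_mulVec, ← hw₂, hgbw]
  have hvuy : v ∉ Submodule.span F ({u, y} : Set (Fin d → F)) := by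
    intro h
    obtain ⟨α, β, hαβ⟩ := Submodule.mem_span_pair.mp h
    by_cases hβ : β = 0
    · apply hvu
      rw [Submodule.mem_span_singleton]
      exact ⟨α, by rw [← hαβ, hβ, zero_smul, add_zero]⟩
    · apply hy
      have : y = β⁻¹ • (v - α • u) := by
        rw [← hαβ, add_sub_cancel_left, smul_smul, inv_mul_cancel₀ hβ, one_smul]
      rw [this]
      exact Submodule.smul_mem _ _ (Submodule.sub_mem _ (Submodule.subset_span (by simp))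
        (Submodule.smul_mem _ _ (Submodule.subset_span (by simp))))
  obtain ⟨θ₁, h1u, h1v, h1y⟩ := s2272_exists_row u v y hy
  obtain ⟨θ₂, h2u, h2y, h2v⟩ := s2272_exists_row u y v hvuy
  obtain ⟨r, hr⟩ : ∃ r, r = ↑ₘX *ᵥ v - ↑ₘA *ᵥ y := ⟨_, rfl⟩
  obtain ⟨c₀, hc₀⟩ : ∃ c₀, c₀ = trace (↑ₘA * ↑ₘX) := ⟨_, rfl⟩
  obtain ⟨a, ha⟩ : ∃ a, a = θ₁ ⬝ᵥ r := ⟨_, rfl⟩
  obtain ⟨b, hb⟩ : ∃ b, b = θ₂ ⬝ᵥ r := ⟨_, rfl⟩
  obtain ⟨δ, hδ⟩ : ∃ δ, δ = τ - c₀ := ⟨_, rfl⟩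
  obtain ⟨θ, hθ⟩ : ∃ θ, θ = (b + 1) • θ₁ + ((b + 1) * a - δ) • θ₂ := ⟨_, rfl⟩
  have hθu : θ ⬝ᵥ u = 0 := by
    rw [hθ, add_dotProduct, smul_dotProduct, smul_dotProduct, h1u, h2u]; simp
  have hθy : θ ⬝ᵥ y = b + 1 := by
    rw [hθ, add_dotProduct, smul_dotProduct, smul_dotProduct, h1y, h2y]; simp
  have hθv : θ ⬝ᵥ v = (b + 1) * a - δ := by
    rw [hθ, add_dotProduct, smul_dotProduct, smul_dotProduct, h1v, h2v]; simp
  have hθr : θ ⬝ᵥ r = (b + 1) * a + ((b + 1) * a - δ) * b := by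
    rw [hθ, add_dotProduct, smul_dotProduct, smul_dotProduct, ← ha, ← hb]; simp
  refine ⟨tv u θ hθu * g₁, ?_⟩
  have hconj : (tv u θ hθu * g₁ * B * (tv u θ hθu * g₁)⁻¹) =
      tv u θ hθu * X * (tv u θ hθu)⁻¹ := by
    rw [hX]; group
  rw [hconj, tv_inv]
  have hval : ↑ₘ(tv u θ hθu * X * tv u (-θ) (by rw [neg_dotProduct, hθu, neg_zero])) =
      (1 + vecMulVec u θ) * ↑ₘX * (1 - vecMulVec u θ) := by
    rw [Matrix.SpecialLinearGroup.coe_mul, Matrix.SpecialLinearGroup.coe_mul, tv_val, tv_val]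
    unfold tvM
    rw [vecMulVec_neg, sub_eq_add_neg]
  rw [hval, s2272_trace_formula, hXu, ← hv]
  have h3 : θ ⬝ᵥ (↑ₘX *ᵥ v) - θ ⬝ᵥ (↑ₘA *ᵥ y) = θ ⬝ᵥ r := by rw [hr, dotProduct_sub]
  rw [hθy, hθv]
  have h4 : trace (↑ₘA * ↑ₘX) + θ ⬝ᵥ (↑ₘX *ᵥ v) - θ ⬝ᵥ (↑ₘA *ᵥ y) =
      c₀ + (θ ⬝ᵥ (↑ₘX *ᵥ v) - θ ⬝ᵥ (↑ₘA *ᵥ y)) := by rw [hc₀]; ring
  rw [h4, h3, hθr, hδ]
  ring

/-- a non-central element of `SL_d` is a non-scalar matrix -/
theorem s2272_nonscalar (A : Matrix.SpecialLinearGroup (Fin d) F)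
    (hA : A ∉ Subgroup.center (Matrix.SpecialLinearGroup (Fin d) F)) :
    ∀ c : F, ↑ₘA ≠ c • (1 : Matrix (Fin d) (Fin d) F) := by
  intro c hc
  apply hA
  rw [Subgroup.mem_center_iff]
  intro g
  apply Subtype.ext
  show ↑ₘ(g * A) = ↑ₘ(A * g)
  rw [Matrix.SpecialLinearGroup.coe_mul, Matrix.SpecialLinearGroup.coe_mul, hc, Matrix.mul_smul,
    Matrix.smul_mul, Matrix.mul_one, Matrix.one_mul]

/-- trace zero is invariant under conjugation and central multiples -/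
theorem s2272_trace_inv (P₀ P₁ K : Matrix.SpecialLinearGroup (Fin d) F)
    (h : (K * P₀ * K⁻¹)⁻¹ * P₁ ∈ Subgroup.center (Matrix.SpecialLinearGroup (Fin d) F))
    (h0 : trace ↑ₘP₀ = 0) : trace ↑ₘP₁ = 0 := by
  obtain ⟨r, -, hr⟩ := Matrix.SpecialLinearGroup.mem_center_iff.1 h
  have h1 : ↑ₘP₁ = ↑ₘ(K * P₀ * K⁻¹) * ↑ₘ((K * P₀ * K⁻¹)⁻¹ * P₁) := by
    rw [← Matrix.SpecialLinearGroup.coe_mul, mul_inv_cancel_left]
  rw [← hr, Matrix.scalar_apply, ← Matrix.smul_one_eq_diagonal, Matrix.mul_smul, Matrix.mul_one]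
    at h1
  rw [h1, Matrix.trace_smul, Matrix.SpecialLinearGroup.coe_mul, Matrix.SpecialLinearGroup.coe_mul,
    Matrix.trace_mul_comm, ← Matrix.mul_assoc, s2272_inv_mul, Matrix.one_mul, h0, smul_zero]

end LinAlg

/-- Let F be a finite field and d ≥ 3, and let a, b be non-identity elements of PSL_d(F). Then the product of the conjugacy classes of a and b is not a single conjugacy class: there are conjugates a′ of a and b′ of b such that a′b′ is not conjugate to ab. -/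
theorem result {F : Type*} [Field F] [Fintype F] (d : ℕ) (hd : 3 ≤ d)
    (a b : Matrix.ProjectiveSpecialLinearGroup (Fin d) F) (ha : a ≠ 1) (hb : b ≠ 1) :
    ∃ g h : Matrix.ProjectiveSpecialLinearGroup (Fin d) F, ¬ IsConj (a * b) (g * a * g⁻¹ * (h * b * h⁻¹)) := by
  obtain ⟨A, rfl⟩ := QuotientGroup.mk_surjective a
  obtain ⟨B, rfl⟩ := QuotientGroup.mk_surjective b
  have hA := s2272_nonscalar A (fun h => ha ((QuotientGroup.eq_one_iff A).2 h))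
  have hB := s2272_nonscalar B (fun h => hb ((QuotientGroup.eq_one_iff B).2 h))
  obtain ⟨h₀, hh₀⟩ := s2272_main hd A B hA hB 0
  obtain ⟨h₁, hh₁⟩ := s2272_main hd A B hA hB 1
  by_contra hcon
  push Not at hcon
  have c0 := hcon 1 (QuotientGroup.mk h₀)
  have c1 := hcon 1 (QuotientGroup.mk h₁)
  simp only [one_mul, inv_one, mul_one] at c0 c1
  have c2 := c0.symm.trans c1
  obtain ⟨k, hk⟩ := isConj_iff.1 c2
  obtain ⟨K, rfl⟩ := QuotientGroup.mk_surjective k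
  have h3 : (QuotientGroup.mk (K * (A * (h₀ * B * h₀⁻¹)) * K⁻¹) :
      Matrix.ProjectiveSpecialLinearGroup (Fin d) F) =
      QuotientGroup.mk (A * (h₁ * B * h₁⁻¹)) := by
    simpa using hk
  rw [QuotientGroup.eq] at h3
  have h4 := s2272_trace_inv _ _ K h3 (by rw [Matrix.SpecialLinearGroup.coe_mul]; exact hh₀)
  rw [Matrix.SpecialLinearGroup.coe_mul, hh₁] at h4
  exact one_ne_zero h4

end Cfsg.Agent.S2272
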