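import Cfsg.Statements.S2276
import Cfsg.Agent.Lib.Helper24.APF.Asm5

set_option autoImplicit false
open Cfsg

namespace Cfsg.Agent.S2276

theorem result (n : ℕ) (hn : 5 ≤ n) (p : ℕ) (hp : p.Prime) (hp3 : 3 ≤ p) (u w : alternatingGroup (Fin n)) (hu : u ≠ 1) (hw : w ≠ 1)
    (hu' : ∃ k : ℕ, orderOf u = p ^ k) (hw' : ∃ k : ℕ, orderOf w = p ^ k) :
    ∃ g : alternatingGroup (Fin n), (¬ ∃ k : ℕ, orderOf (u * (g * w * g⁻¹)) = p ^ k) ∧
      ¬ Group.IsSolvable ↥(Subgroup.closure ({u, g * w * g⁻¹} : Set (alternatingGroup (Fin n)))) := by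
  exact Cfsg.Agent.Lib.Helper24.APF.final n hn p hp hp3 u w hu hw hu' hw'

end Cfsg.Agent.S2276
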