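import Cfsg.Statements.S2277
import Cfsg.Agent.Lib.Helper20.TwoGen2
import Cfsg.Agent.S0023
import Cfsg.Agent.Lib.helper4.MinNonNilp

set_option autoImplicit false
open Cfsg

namespace Cfsg.Agent.S2277



/-- Let p ≥ 3 be prime and G a finite group with a Sylow p-subgroup P and a normal p-complement N (N normal, of order prime to p, with NP = G). Suppose P is generated by a subset C and also by a subset D, and that ⟨x c x⁻¹, d⟩ is a p-group for all x ∈ N, c ∈ C, d ∈ D. Then P centralizes N, so that G = N × P. -/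
theorem result {G : Type*} [Group G] [Finite G] (p : ℕ) [Fact p.Prime] (hp3 : 3 ≤ p) (P : Sylow p G)
    (N : Subgroup G) [N.Normal] (hN : (Nat.card N).Coprime p) (hNP : N ⊔ (P : Subgroup G) = ⊤)
    (C D : Set G) (hC : Subgroup.closure C = (P : Subgroup G)) (hD : Subgroup.closure D = (P : Subgroup G))
    (h : ∀ x ∈ N, ∀ c ∈ C, ∀ d ∈ D, IsPGroup p ↥(Subgroup.closure ({x * c * x⁻¹, d} : Set G))) :
    ⁅(P : Subgroup G), N⁆ = ⊥ := by
  classical
  have hpp : p.Prime := Fact.out
  have hp2 : p ≠ 2 := by omega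
  have hCP : ∀ c ∈ C, c ∈ (P : Subgroup G) := fun c hc => hC ▸ Subgroup.subset_closure hc
  have hDP : ∀ d ∈ D, d ∈ (P : Subgroup G) := fun d hd => hD ▸ Subgroup.subset_closure hd
  have hPp : IsPGroup p ↥(P : Subgroup G) := P.2
  -- coprimality
  have hcopPN : (Nat.card ↥(P : Subgroup G)).Coprime (Nat.card ↥N) := by
    obtain ⟨k, hk⟩ := (IsPGroup.iff_card).1 hPp
    rw [hk]
    exact Nat.Coprime.pow_left _ hN.symm
  have hPnormN : (P : Subgroup G) ≤ Subgroup.normalizer (N : Set G) := by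
    rw [Subgroup.normalizer_eq_top]; exact le_top
  have hsolv : Group.IsSolvable ↥(P : Subgroup G) := by
    haveI : Group.IsNilpotent ↥(P : Subgroup G) := hPp.isNilpotent
    infer_instance
  -- the centralizer of P in N
  set K : Subgroup ↥N := (Subgroup.centralizer ((P : Subgroup G) : Set G)).subgroupOf N with hK
  have hKtop : K = ⊤ := by
    apply Cfsg.Agent.Lib.helper4.eq_top_of_contains_sylows
    intro r hr
    obtain ⟨S, hS⟩ := Cfsg.Agent.S0023.result (P : Subgroup G) N hPnormN hcopPN (Or.inl hsolv) r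
    refine ⟨S, ?_⟩
    set Qs : Subgroup G := (S : Subgroup ↥N).map N.subtype with hQs
    have hQN : Qs ≤ N := Subgroup.map_subtype_le _
    have hQr : IsPGroup r ↥Qs := S.2.map N.subtype
    by_cases hrp : r = p
    · -- S is trivial
      subst hrp
      intro y hy
      have hc1 : Nat.card ↥(S : Subgroup ↥N) = 1 := by
        obtain ⟨k, hk⟩ := (IsPGroup.iff_card).1 S.2
        have hdvd : Nat.card ↥(S : Subgroup ↥N) ∣ Nat.card ↥N := Subgroup.card_subgroup_dvd_card _
        have hcop : (Nat.card ↥(S : Subgroup ↥N)).Coprime (Nat.card ↥N) := by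
          rw [hk]; exact Nat.Coprime.pow_left _ hN.symm
        exact Nat.Coprime.eq_one_of_dvd hcop hdvd
      have hbot : (S : Subgroup ↥N) = ⊥ := Subgroup.card_eq_one.1 hc1
      rw [hbot, Subgroup.mem_bot] at hy
      rw [hy]; exact K.one_mem
    · have hHQ : ∀ c ∈ C, ∀ d ∈ D, ∀ x ∈ Qs, ∃ u ∈ Qs, ∃ w ∈ Qs,
          u * d = d * u ∧ w * c = c * w ∧ x = u * w := by
        intro c hc d hd x hx
        exact Cfsg.Agent.Lib.Helper20.TwoGen.HQ_of_hyp p P N hN Qs hQN hS c d (hCP c hc)
          (hDP d hd) x hx (h x (hQN hx) c hc d hd)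
      have hcent := Cfsg.Agent.Lib.Helper20.TwoGen.centralizes_of_H hp2 (Ne.symm hrp)
        (P : Subgroup G) Qs hPp hQr hS C D hC hD hHQ
      intro y hy
      rw [hK, Subgroup.mem_subgroupOf, Subgroup.mem_centralizer_iff]
      intro t ht
      have hyQ : (y : G) ∈ Qs := ⟨y, hy, rfl⟩
      exact (hcent t ht (y : G) hyQ).symm
  rw [Subgroup.commutator_eq_bot_iff_le_centralizer]
  intro t ht
  rw [Subgroup.mem_centralizer_iff]
  intro n hn
  have hmem : (⟨n, hn⟩ : ↥N) ∈ K := by rw [hKtop]; trivial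
  rw [hK, Subgroup.mem_subgroupOf, Subgroup.mem_centralizer_iff] at hmem
  exact (hmem t ht).symm

end Cfsg.Agent.S2277
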