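import Cfsg.Statements.S2279
import Cfsg.Agent.Lib.helper15.TwoRU6

set_option autoImplicit false
open Cfsg

namespace Cfsg.Agent.S2279

open Cfsg.Agent.Lib.helper15.TwoRU

/-- Let F be a finite field with q elements and n ≥ 4. Then SL_n(F) is generated by two regular unipotent elements (elements u with u − 1 nilpotent and (u − 1)^(n−1) ≠ 0); if q is prime, the two can be taken conjugate in SL_n(F). -/
theorem result {F : Type*} [Field F] [Fintype F] (n : ℕ) (hn : 4 ≤ n) :
    (∃ u v : Matrix.SpecialLinearGroup (Fin n) F, (IsNilpotent ((u : Matrix (Fin n) (Fin n) F) - 1) ∧ ((u : Matrix (Fin n) (Fin n) F) - 1) ^ (n - 1) ≠ 0) ∧ (IsNilpotent ((v : Matrix (Fin n) (Fin n) F) - 1) ∧ ((v : Matrix (Fin n) (Fin n) F) - 1) ^ (n - 1) ≠ 0) ∧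
      Subgroup.closure ({u, v} : Set (Matrix.SpecialLinearGroup (Fin n) F)) = ⊤) ∧
    ((Fintype.card F).Prime → ∃ u g : Matrix.SpecialLinearGroup (Fin n) F, (IsNilpotent ((u : Matrix (Fin n) (Fin n) F) - 1) ∧ ((u : Matrix (Fin n) (Fin n) F) - 1) ^ (n - 1) ≠ 0) ∧
      Subgroup.closure ({u, g * u * g⁻¹} : Set (Matrix.SpecialLinearGroup (Fin n) F)) = ⊤) := by
  by_cases h2F : (2 : F) = 0
  · obtain ⟨g, hg0, hg⟩ := exists_gen0 (F := F)
    refine ⟨(good_two hn h2F g hg0 hg).part1 (by omega) hg0, ?_⟩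
    intro hp
    have hneg : (-1 : F) = 1 := by
      have : (1 : F) + 1 = 0 := by
        rw [one_add_one_eq_two]
        exact h2F
      exact neg_eq_of_add_eq_zero_left this
    refine (good_two hn h2F 1 one_ne_zero (closure_top_of_prime hp 1)).part2 (by omega) 1 ?_
    rw [hneg, one_pow, one_pow, mul_one, mul_one]
  · obtain ⟨k, hk⟩ := exists_half h2F
    have h4 : (4 : F) ≠ 0 := by
      have : (4 : F) = 2 * 2 := by norm_num
      rw [this]
      exact mul_ne_zero h2F h2F
    have h8 : (8 : F) ≠ 0 := by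
      have : (8 : F) = 2 * 4 := by norm_num
      rw [this]
      exact mul_ne_zero h2F h4
    constructor
    · obtain ⟨c, hc0, hct, hcl⟩ := exists_gen h2F (-4 * (-1) ^ (n - 2))
      have hc'0 : c / 2 ≠ 0 := div_ne_zero hc0 h2F
      have hκ0 : 2 + c / 2 * (-1) ^ (n - 2) ≠ 0 := by
        intro h
        apply hct
        have hε : ((-1 : F) ^ (n - 2)) * ((-1) ^ (n - 2)) = 1 := by
          rw [← mul_pow, neg_mul_neg, one_mul, one_pow]
        have h1 : c * (-1) ^ (n - 2) = -4 := by
          have h' : 2 * (2 + c / 2 * (-1) ^ (n - 2)) = 0 := by rw [h, mul_zero]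
          have h'' : 2 * (2 + c / 2 * (-1) ^ (n - 2)) = 4 + c * (-1) ^ (n - 2) := by
            field_simp
            ring
          rw [h''] at h'
          linear_combination h'
        calc c = c * ((-1) ^ (n - 2) * (-1) ^ (n - 2)) := by rw [hε, mul_one]
          _ = -4 * (-1) ^ (n - 2) := by rw [← mul_assoc, h1]
      have hcl' : Subring.closure {2 * (c / 2)} = ⊤ := by
        rwa [mul_div_cancel₀ c h2F]
      exact (good_odd1 hn h2F k hk (c / 2) hc'0 hκ0 hcl').part1 (by omega) (mul_ne_zero h4 hc'0)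
    · intro hp
      by_cases hn4 : n = 4
      · subst hn4
        have hκ0 : (2 : F) + (-4) * (-1) ^ (4 - 2) ≠ 0 := by
          have : (2 : F) + (-4) * (-1) ^ (4 - 2) = -2 := by norm_num
          rw [this]
          exact neg_ne_zero.mpr h2F
        have hG := good_odd1 (n := 4) le_rfl h2F k hk (-4) (neg_ne_zero.mpr h4) hκ0
          (closure_top_of_prime hp _)
        refine hG.part2 (by norm_num) (1 / 8) ?_
        rw [div_pow, one_pow, div_mul_eq_mul_div, one_mul, div_eq_one_iff_eq (pow_ne_zero 4 h8)]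
        norm_num
      · have hc0 : (-(1 / 4) : F) ≠ 0 := neg_ne_zero.mpr (one_div_ne_zero h4)
        have hG := good_odd2 (n := n) (by omega) h2F k hk (-(1 / 4)) hc0
          (closure_top_of_prime hp _)
        refine hG.part2 (by omega) 1 ?_
        rw [mul_neg, mul_one_div_cancel h4, one_pow, one_mul, ← mul_pow, neg_mul_neg, one_mul,
          one_pow]

end Cfsg.Agent.S2279
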