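import Cfsg.Statements.S2281
import Cfsg.Agent.Lib.helper15.SpRU8

set_option autoImplicit false
open Cfsg

namespace Cfsg.Agent.S2281

lemma card_cases {F : Type*} [Field F] [Fintype F] (h2 : (2 : F) = 0)
    (hq : ¬ 4 ≤ Fintype.card F) : Fintype.card F = 2 := by
  have h1 : 1 < Fintype.card F := Fintype.one_lt_card
  have h3 : Fintype.card F ≠ 3 := by
    intro h
    have := FiniteField.cast_card_eq_zero F
    rw [h] at this
    have h3' : (3 : F) = 0 := by exact_mod_cast this
    have : (1 : F) = 0 := by linear_combination h3' - h2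
    exact one_ne_zero this
  omega

/-- Let F be a finite field and n ≥ 2, excluding the case n = 2 with F of two elements (where the group is not quasisimple). Then the symplectic group Sp_2n(F) is generated by three conjugate regular unipotent elements: there are u ∈ Sp_2n(F) with u − 1 nilpotent and (u − 1)^(2n−1) ≠ 0, and g, h ∈ Sp_2n(F), such that u, g u g⁻¹ and h u h⁻¹ generate Sp_2n(F). -/
theorem result {F : Type*} [Field F] [Fintype F] (n : ℕ) (hn : 2 ≤ n) (h22 : ¬ (n = 2 ∧ Fintype.card F = 2)) :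
    ∃ u g h : Matrix.symplecticGroup (Fin n) F,
      IsNilpotent ((u : Matrix (Fin n ⊕ Fin n) (Fin n ⊕ Fin n) F) - 1) ∧
      ((u : Matrix (Fin n ⊕ Fin n) (Fin n ⊕ Fin n) F) - 1) ^ (2 * n - 1) ≠ 0 ∧
      Subgroup.closure ({u, g * u * g⁻¹, h * u * h⁻¹} : Set (Matrix.symplecticGroup (Fin n) F)) = ⊤ := by
  obtain ⟨n', rfl⟩ : ∃ n', n = n' + 2 := ⟨n - 2, by omega⟩
  by_cases h2 : (2 : F) = 0
  · by_cases hq : 4 ≤ Fintype.card F
    · exact Cfsg.Agent.Lib.helper15.SpRU.even_top h2 hq n'
    · have hc := card_cases h2 hq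
      obtain ⟨n'', rfl⟩ : ∃ n'', n' = n'' + 1 := by
        refine ⟨n' - 1, ?_⟩
        have : n' ≠ 0 := by
          intro h
          apply h22
          exact ⟨by omega, hc⟩
        omega
      exact Cfsg.Agent.Lib.helper15.SpRU.two_top hc n''
  · exact Cfsg.Agent.Lib.helper15.SpRU.odd_top h2 n'

end Cfsg.Agent.S2281
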