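import Cfsg.Statements.S2283
import Cfsg.Agent.Lib.Helper11.SU3GCube
import Cfsg.Agent.Lib.helper15.SU3G.H5
import Cfsg.Agent.Lib.helper15.SU3G.H8

set_option autoImplicit false
open Cfsg

namespace Cfsg.Agent.S2283

open Cfsg.Agent.Lib.helper15.SU3G

theorem result {F : Type*} [Field F] [Fintype F] (q : ℕ) (hq : 3 ≤ q) (hF : Fintype.card F = q ^ 2) :
    ∃ u g : ↥(Cfsg.SU 3 F q), (IsNilpotent (((u : Matrix.SpecialLinearGroup (Fin 3) F) : Matrix (Fin 3) (Fin 3) F) - 1) ∧ (((u : Matrix.SpecialLinearGroup (Fin 3) F) : Matrix (Fin 3) (Fin 3) F) - 1) ^ (3 - 1) ≠ 0) ∧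
      Subgroup.closure ({u, g * u * g⁻¹} : Set ↥(Cfsg.SU 3 F q)) = ⊤ := by
  obtain ⟨σ, hσ⟩ := Cfsg.Agent.Lib.Lead.exists_frob hF
  have hσσ := sigma_sigma hF hσ
  obtain ⟨l, hl⟩ := exists_lam hF (by omega)
  obtain ⟨hl0, hD, hσl⟩ := lam_facts hq hσ hl
  obtain ⟨P, hP⟩ := exists_frame hF hσ hl0 hD hσl
  apply main_of_stab hF hq hσ hσσ hl0 hD hσl hP
  intro H hHu hHv
  by_cases h5 : q = 5
  · subst h5
    exact stab_five hF hσ hσσ hl hP H hHu hHv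
  · by_cases h8 : q = 8
    · subst h8
      exact stab_eight hF hσ hσσ hl hP H hHu hHv
    · exact stab_generic hF hσσ hl0 hD hσl hP
        (Cfsg.Agent.Lib.Helper11.SU3GCube.closure_cube_eq_top q hF hq h5 h8 l hl) H hHu hHv

end Cfsg.Agent.S2283
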