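import Cfsg.Statements.S2282
import Cfsg.Agent.S2283
import Cfsg.Agent.Lib.helper15.SUn.EvenMain
import Cfsg.Agent.Lib.helper15.SUn.OddMain

set_option autoImplicit false
open Cfsg

namespace Cfsg.Agent.S2282

theorem result {F : Type*} [Field F] [Fintype F] (q : ℕ) (hF : Fintype.card F = q ^ 2) (n : ℕ) (hn : 3 ≤ n) (hodd : Odd n) (h32 : ¬ (n = 3 ∧ q = 2)) :
    ∃ u g h : ↥(Cfsg.SU n F q), (IsNilpotent (((u : Matrix.SpecialLinearGroup (Fin n) F) : Matrix (Fin n) (Fin n) F) - 1) ∧ (((u : Matrix.SpecialLinearGroup (Fin n) F) : Matrix (Fin n) (Fin n) F) - 1) ^ (n - 1) ≠ 0) ∧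
      Subgroup.closure ({u, g * u * g⁻¹, h * u * h⁻¹} : Set ↥(Cfsg.SU n F q)) = ⊤ := by
  obtain ⟨σ, hσ, hf⟩ := Cfsg.Agent.Lib.Helper28.UHerm.herm_unitary hF n
  obtain ⟨m, hm⟩ := hodd
  by_cases h3 : n = 3
  · subst h3
    have hq : 3 ≤ q := by
      have := Cfsg.Agent.Lib.Helper28.UHerm.two_le_q hF
      by_contra hlt
      exact h32 ⟨rfl, by omega⟩
    obtain ⟨u, g, hu, hcl⟩ := Cfsg.Agent.S2283.result q hq hF
    refine ⟨u, g, 1, hu, ?_⟩
    rw [one_mul, inv_one, mul_one]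
    have hset : ({u, g * u * g⁻¹, u} : Set ↥(Cfsg.SU 3 F q)) = {u, g * u * g⁻¹} := by
      ext x
      simp only [Set.mem_insert_iff, Set.mem_singleton_iff]
      tauto
    rw [hset]
    exact hcl
  · have hm2 : 2 ≤ m := by omega
    by_cases h2 : (2 : F) = 0
    · exact Cfsg.Agent.Lib.helper15.SUn.even_main hF hσ hf h2 hm2 hm
    · exact Cfsg.Agent.Lib.helper15.SUn.odd_main hF hσ hf h2 hm2 hm

end Cfsg.Agent.S2282
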