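-- Statement S2285 (row 2285): S_n and A_n, n ≥ 5, on 3 generators and at most 7 relators.
-- Project SA3 (designer helper20): project SAP (helper7) with the two relators `a^p`, `g^(3m)` merged into
-- `a^p = g^(3m)` (2 generators, 6 relators), then a third generator `x₂` with the relator `x₂`.
import Cfsg.Statements.S2285
import Cfsg.Agent.Lib.Helper20.SA3FIN2core
import Cfsg.Agent.Lib.Helper29.SA3MAcore
import Cfsg.Agent.Lib.Helper29.SA3FIN1
import Cfsg.Agent.Lib.helper7.SA3SX
import Cfsg.Agent.Lib.helper7.SA3PA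
import Cfsg.Agent.Lib.helper7.SA3PS

set_option autoImplicit false
open Cfsg

namespace Cfsg.Agent.S2285

open Cfsg.Agent.Lib.helper7.SAP in
/-- For every n ≥ 5, the symmetric group S_n and the alternating group A_n each have a presentation with 3 generators and at most 7 relations. -/
theorem result (n : ℕ) (hn : 5 ≤ n) : (∃ rels : Finset (FreeGroup (Fin 3)), rels.card ≤ 7 ∧ Nonempty (PresentedGroup (↑rels : Set (FreeGroup (Fin 3))) ≃* Equiv.Perm (Fin n))) ∧ (∃ rels : Finset (FreeGroup (Fin 3)), rels.card ≤ 7 ∧ Nonempty (PresentedGroup (↑rels : Set (FreeGroup (Fin 3))) ≃* ↥(alternatingGroup (Fin n)))) :=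
  sa3fin2_core
    (sa3ma_alt_core (fun p k l _ hp hkl hlp hodd h3 => sa3_presA p k l hp hkl hlp hodd h3) sa3_pres_A6)
    (sa3ma_sym_core (fun p k l _ hp hkl hlp heven h3 => sa3_presS p k l hp hkl hlp heven h3) sa3_pres_S6)
    (fun h => sa3_three_gen h) n hn

end Cfsg.Agent.S2285
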