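import Mathlib
import Cfsg.Statements.S2292
import Cfsg.Agent.Lib.Helper13.SPMEND
import Cfsg.Agent.Lib.Helper9.SPX.Bridge
import Cfsg.Agent.Lib.Helper9.SPMP12

set_option autoImplicit false
open Cfsg

namespace Cfsg.Agent.S2292

/-- Let F be a finite field with q elements and m ≥ 2 with (m, q) ≠ (2, 2). Then the simple group PSp_2m(F) has a presentation with 2 generators and at most 80 relations. -/
theorem result {F : Type*} [Field F] [Fintype F] (m : ℕ) (hm : 2 ≤ m) (h22 : ¬ (m = 2 ∧ Fintype.card F = 2)) :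
    ∃ rels : Finset (FreeGroup (Fin 2)), rels.card ≤ 80 ∧ Nonempty (PresentedGroup (↑rels : Set (FreeGroup (Fin 2))) ≃* Cfsg.PSp m F) := by
  refine Cfsg.Agent.Lib.helper3.SPM.spm_s2292 m hm h22 (fun h3 => ?_)
  obtain ⟨R, hR, he⟩ := Cfsg.Agent.Lib.Helper9.SPX.spx_bridge (F := F) m
    (fun hn relsN eN => Cfsg.Agent.Lib.helper3.SPM.spm_pres m hn relsN eN) h3
  exact ⟨8, R, by split_ifs at hR <;> omega, he⟩

end Cfsg.Agent.S2292
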