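import Cfsg.Statements.S2304

import Cfsg.Agent.S2432
import Cfsg.Agent.Lib.helper14.GL2Sylow
import Cfsg.Agent.Lib.Helper25.CharQuot
import Cfsg.Agent.Lib.helper7.CharTools
import Cfsg.Agent.Lib.helper2.CharInd

set_option autoImplicit false
set_option linter.unusedSectionVars false
open Cfsg

namespace Cfsg.Agent.S2304

open Cfsg.Agent.Lib.helper7 Cfsg.Agent.Lib.helper2 Cfsg.Agent.Lib.Helper25 Cfsg.Agent.Lib.helper14

open scoped ComplexConjugate

section Helpers

variable {F : Type*} [Field F]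

local notation "G2" => GL (Fin 2) F
local notation "M2" => Matrix (Fin 2) (Fin 2) F

abbrev BorG (F : Type*) [Field F] : Subgroup (GL (Fin 2) F) := Cfsg.upperTriangularGL 2 F

theorem mem_BorG (y : G2) : y ∈ BorG F ↔ (y : M2) 1 0 = 0 := by
  show ((y : M2)).BlockTriangular id ↔ _
  constructor
  · intro h
    exact h (show id (0 : Fin 2) < id 1 by decide)
  · intro h i j hij
    fin_cases i <;> fin_cases j
    · exact absurd hij (by decide)
    · exact absurd hij (by decide)
    · exact h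
    · exact absurd hij (by decide)

theorem ext0 (α β : F → ℂ) (y : G2) [Decidable ((y : M2) 1 0 = 0)] :
    Cfsg.extendByZero (BorG F) (fun b => α (((b : G2) : M2) 0 0) * β (((b : G2) : M2) 1 1)) y =
      if (y : M2) 1 0 = 0 then α ((y : M2) 0 0) * β ((y : M2) 1 1) else 0 := by
  split_ifs with h
  · rw [h7_extendByZero_mem _ _ y ((mem_BorG y).mpr h)]
  · rw [h7_extendByZero_not_mem _ _ y (fun hy => h ((mem_BorG y).mp hy))]

theorem conj_mat (x g : G2) : ((x⁻¹ * g * x : G2) : M2) =
    ((x : M2).det)⁻¹ • ((x : M2).adjugate * (g : M2) * (x : M2)) := by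
  rw [gl2_coe_mul, gl2_coe_mul, Matrix.coe_units_inv, Matrix.inv_def, Ring.inverse_eq_inv',
    Matrix.smul_mul, Matrix.smul_mul]

theorem conj10 (x g : G2) : ((x⁻¹ * g * x : G2) : M2) 1 0 = ((x : M2).det)⁻¹ *
    ((x : M2) 0 0 ^ 2 * (g : M2) 1 0 + (x : M2) 0 0 * (x : M2) 1 0 * ((g : M2) 1 1 - (g : M2) 0 0) -
      (x : M2) 1 0 ^ 2 * (g : M2) 0 1) := by
  rw [conj_mat, Matrix.adjugate_fin_two, Matrix.smul_apply, smul_eq_mul]
  congr 1
  simp only [Matrix.mul_apply, Fin.sum_univ_two, Matrix.of_apply, Matrix.cons_val_zero,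
    Matrix.cons_val_one, Matrix.cons_val', Matrix.empty_val', Matrix.cons_val_fin_one]
  ring

theorem conj00 (x g : G2) : ((x⁻¹ * g * x : G2) : M2) 0 0 = ((x : M2).det)⁻¹ *
    ((x : M2) 1 1 * ((g : M2) 0 0 * (x : M2) 0 0 + (g : M2) 0 1 * (x : M2) 1 0) -
      (x : M2) 0 1 * ((g : M2) 1 0 * (x : M2) 0 0 + (g : M2) 1 1 * (x : M2) 1 0)) := by
  rw [conj_mat, Matrix.adjugate_fin_two, Matrix.smul_apply, smul_eq_mul]
  congr 1
  simp only [Matrix.mul_apply, Fin.sum_univ_two, Matrix.of_apply, Matrix.cons_val_zero,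
    Matrix.cons_val_one, Matrix.cons_val', Matrix.empty_val', Matrix.cons_val_fin_one]
  ring

theorem conj11 (x g : G2) : ((x⁻¹ * g * x : G2) : M2) 1 1 = ((x : M2).det)⁻¹ *
    ((x : M2) 0 0 * ((g : M2) 1 0 * (x : M2) 0 1 + (g : M2) 1 1 * (x : M2) 1 1) -
      (x : M2) 1 0 * ((g : M2) 0 0 * (x : M2) 0 1 + (g : M2) 0 1 * (x : M2) 1 1)) := by
  rw [conj_mat, Matrix.adjugate_fin_two, Matrix.smul_apply, smul_eq_mul]
  congr 1
  simp only [Matrix.mul_apply, Fin.sum_univ_two, Matrix.of_apply, Matrix.cons_val_zero,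
    Matrix.cons_val_one, Matrix.cons_val', Matrix.empty_val', Matrix.cons_val_fin_one]
  ring

theorem det_ne (x : G2) : (x : M2).det ≠ 0 := by
  rw [Matrix.det_fin_two]
  exact gl2_det x

end Helpers

section Fin

variable {F : Type*} [Field F] [Fintype F] [DecidableEq F]

local notation "G2" => GL (Fin 2) F
local notation "M2" => Matrix (Fin 2) (Fin 2) F

theorem sum_ind_B (c : ℂ) :
    ∑ x : G2, (if (x : M2) 1 0 = 0 then c else 0) = (Nat.card (BorG F) : ℂ) * c := by
  rw [← Finset.sum_filter, Finset.sum_const, nsmul_eq_mul]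
  congr 2
  rw [← Fintype.card_subtype, ← Nat.card_eq_fintype_card]
  apply Nat.card_congr
  exact ⟨fun x => ⟨x.1, (mem_BorG x.1).mpr x.2⟩, fun y => ⟨y.1, (mem_BorG y.1).mp y.2⟩,
    fun _ => rfl, fun _ => rfl⟩

theorem exists_wG : ∃ w : G2, (w : M2) = !![0, 1; 1, 0] :=
  ⟨Matrix.GeneralLinearGroup.mkOfDetNeZero !![0, 1; 1, 0] (by
    rw [Matrix.det_fin_two_of]; norm_num), rfl⟩

theorem sum_ind_wB (c : ℂ) :
    ∑ x : G2, (if (x : M2) 0 0 = 0 then c else 0) = (Nat.card (BorG F) : ℂ) * c := by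
  obtain ⟨w, hw⟩ := exists_wG (F := F)
  rw [← sum_ind_B c, ← Equiv.sum_comp (Equiv.mulLeft w)]
  apply Finset.sum_congr rfl
  intro x _
  rw [Equiv.coe_mulLeft, gl2_coe_mul, hw]
  simp [Matrix.mul_apply, Fin.sum_univ_two]

theorem indFun_eq (α β : F → ℂ) (g : G2) :
    Cfsg.indFun (BorG F) (fun b => α (((b : G2) : M2) 0 0) * β (((b : G2) : M2) 1 1)) g =
      (Nat.card (BorG F) : ℂ)⁻¹ * ∑ x : G2,
        (if ((x⁻¹ * g * x : G2) : M2) 1 0 = 0
          then α (((x⁻¹ * g * x : G2) : M2) 0 0) * β (((x⁻¹ * g * x : G2) : M2) 1 1)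
          else 0) := by
  unfold Cfsg.indFun
  congr 1
  apply Finset.sum_congr rfl
  intro x _
  exact ext0 α β _

theorem card_BorG_ne_zero : (Nat.card (BorG F) : ℂ) ≠ 0 := by
  have : 0 < Nat.card (BorG F) := Nat.card_pos
  exact_mod_cast this.ne'

theorem BorG_eq : BorG F = BG F := by
  ext y
  rw [mem_BorG, mem_BG]

theorem card_G_eq : (Nat.card G2 : ℂ) = ((Fintype.card F : ℂ) + 1) * (Nat.card (BorG F) : ℂ) := by
  rw [card_GL2, BorG_eq, card_BG]
  push_cast
  ring

theorem value_diag (α β : MulChar F ℂ) (g : G2) (h01 : (g : M2) 0 1 = 0) (h10 : (g : M2) 1 0 = 0)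
    (hne : (g : M2) 0 0 ≠ (g : M2) 1 1) :
    Cfsg.indFun (BorG F) (fun b => α (((b : G2) : M2) 0 0) * β (((b : G2) : M2) 1 1)) g =
      α ((g : M2) 0 0) * β ((g : M2) 1 1) + α ((g : M2) 1 1) * β ((g : M2) 0 0) := by
  have hB0 := card_BorG_ne_zero (F := F)
  have hpt : ∀ x : G2,
      (if ((x⁻¹ * g * x : G2) : M2) 1 0 = 0
        then α (((x⁻¹ * g * x : G2) : M2) 0 0) * β (((x⁻¹ * g * x : G2) : M2) 1 1) else 0) =
      (if (x : M2) 1 0 = 0 then α ((g : M2) 0 0) * β ((g : M2) 1 1) else 0) +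
      (if (x : M2) 0 0 = 0 then α ((g : M2) 1 1) * β ((g : M2) 0 0) else 0) := by
    intro x
    have hd := det_ne x
    have hdx := Matrix.det_fin_two (x : M2)
    rw [conj10, conj00, conj11, h01, h10]
    by_cases hs : (x : M2) 1 0 = 0
    · have hp : (x : M2) 0 0 ≠ 0 := by
        intro hp
        rw [hp, hs] at hdx
        apply hd
        rw [hdx]
        ring
      rw [if_pos (by rw [hs]; ring), if_pos hs, if_neg hp, add_zero]
      congr 2
      · rw [hs]
        field_simp
        rw [hdx, hs]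
        ring
      · rw [hs]
        field_simp
        rw [hdx, hs]
        ring
    · by_cases hp : (x : M2) 0 0 = 0
      · rw [if_pos (by rw [hp]; ring), if_neg hs, if_pos hp, zero_add]
        congr 2
        · rw [hp]
          field_simp
          rw [hdx, hp]
          ring
        · rw [hp]
          field_simp
          rw [hdx, hp]
          ring
      · rw [if_neg, if_neg hs, if_neg hp, add_zero]
        intro h
        rcases mul_eq_zero.mp h with h | h
        · exact inv_ne_zero hd h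
        · have : (x : M2) 0 0 * (x : M2) 1 0 * ((g : M2) 1 1 - (g : M2) 0 0) = 0 := by
            linear_combination h
          exact mul_ne_zero (mul_ne_zero hp hs) (sub_ne_zero.mpr (Ne.symm hne)) this
  rw [indFun_eq, Finset.sum_congr rfl (fun x _ => hpt x), Finset.sum_add_distrib, sum_ind_B,
    sum_ind_wB, ← mul_add, ← mul_assoc, inv_mul_cancel₀ hB0, one_mul]

theorem value_unip (α β : MulChar F ℂ) (g : G2) (h10 : (g : M2) 1 0 = 0)
    (heq : (g : M2) 0 0 = (g : M2) 1 1) (h01 : (g : M2) 0 1 ≠ 0) :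
    Cfsg.indFun (BorG F) (fun b => α (((b : G2) : M2) 0 0) * β (((b : G2) : M2) 1 1)) g =
      α ((g : M2) 0 0) * β ((g : M2) 0 0) := by
  have hB0 := card_BorG_ne_zero (F := F)
  have hpt : ∀ x : G2,
      (if ((x⁻¹ * g * x : G2) : M2) 1 0 = 0
        then α (((x⁻¹ * g * x : G2) : M2) 0 0) * β (((x⁻¹ * g * x : G2) : M2) 1 1) else 0) =
      (if (x : M2) 1 0 = 0 then α ((g : M2) 0 0) * β ((g : M2) 0 0) else 0) := by
    intro x
    have hd := det_ne x
    have hdx := Matrix.det_fin_two (x : M2)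
    rw [conj10, conj00, conj11, h10, ← heq]
    by_cases hs : (x : M2) 1 0 = 0
    · rw [if_pos (by rw [hs]; ring), if_pos hs]
      congr 2
      · rw [hs]
        field_simp
        rw [hdx, hs]
        ring
      · rw [hs]
        field_simp
        rw [hdx, hs]
        ring
    · rw [if_neg, if_neg hs]
      intro h
      rcases mul_eq_zero.mp h with h | h
      · exact inv_ne_zero hd h
      · have : (x : M2) 1 0 ^ 2 * (g : M2) 0 1 = 0 := by
          linear_combination -h
        exact mul_ne_zero (pow_ne_zero 2 hs) h01 this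
  rw [indFun_eq, Finset.sum_congr rfl (fun x _ => hpt x), sum_ind_B, ← mul_assoc,
    inv_mul_cancel₀ hB0, one_mul]

theorem value_scalar (α β : MulChar F ℂ) (g : G2) (h01 : (g : M2) 0 1 = 0) (h10 : (g : M2) 1 0 = 0)
    (heq : (g : M2) 0 0 = (g : M2) 1 1) :
    Cfsg.indFun (BorG F) (fun b => α (((b : G2) : M2) 0 0) * β (((b : G2) : M2) 1 1)) g =
      ((Fintype.card F : ℂ) + 1) * (α ((g : M2) 0 0) * β ((g : M2) 0 0)) := by
  have hB0 := card_BorG_ne_zero (F := F)
  have hpt : ∀ x : G2,
      (if ((x⁻¹ * g * x : G2) : M2) 1 0 = 0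
        then α (((x⁻¹ * g * x : G2) : M2) 0 0) * β (((x⁻¹ * g * x : G2) : M2) 1 1) else 0) =
      α ((g : M2) 0 0) * β ((g : M2) 0 0) := by
    intro x
    have hd := det_ne x
    have hdx := Matrix.det_fin_two (x : M2)
    rw [conj10, conj00, conj11, h10, h01, ← heq]
    rw [if_pos (by ring)]
    congr 2
    · field_simp
      rw [hdx]
      ring
    · field_simp
      rw [hdx]
      ring
  rw [indFun_eq, Finset.sum_congr rfl (fun x _ => hpt x), Finset.sum_const, Finset.card_univ,
    nsmul_eq_mul, ← Nat.card_eq_fintype_card, card_G_eq]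
  field_simp

end Fin

section Inner

variable {F : Type*} [Field F] [Fintype F] [DecidableEq F]

local notation "G2" => GL (Fin 2) F
local notation "M2" => Matrix (Fin 2) (Fin 2) F

noncomputable def bG (a d : Fˣ) (c : F) : G2 :=
  Matrix.GeneralLinearGroup.mkOfDetNeZero !![(a : F), c; 0, (d : F)] (by
    rw [Matrix.det_fin_two_of, mul_zero, sub_zero]
    exact mul_ne_zero a.ne_zero d.ne_zero)

theorem bG_coe (a d : Fˣ) (c : F) : ((bG a d c : G2) : M2) = !![(a : F), c; 0, (d : F)] := rfl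

noncomputable def borEquivG : BorG F ≃ Fˣ × Fˣ × F :=
  (Equiv.subtypeEquivRight (fun y => by rw [mem_BorG, mem_BG])).trans BGEquiv

theorem borEquivG_symm_coe (a d : Fˣ) (c : F) :
    (((borEquivG (F := F)).symm (a, d, c) : BorG F) : G2) = bG a d c := rfl

theorem bG_conj (a d : Fˣ) (c : F) (hne : (a : F) ≠ (d : F)) :
    ∃ x : G2, x * bG a d 0 * x⁻¹ = bG a d c := by
  have hd : (d : F) - (a : F) ≠ 0 := sub_ne_zero.mpr (Ne.symm hne)
  refine ⟨uG (c / ((d : F) - (a : F))), ?_⟩
  rw [mul_inv_eq_iff_eq_mul]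
  apply Units.ext
  rw [gl2_coe_mul, gl2_coe_mul, uG_coe, bG_coe, bG_coe, Matrix.mul_fin_two, Matrix.mul_fin_two]
  apply m2_congr
  · ring
  · field_simp
    ring
  · ring
  · ring

theorem inner_sum (α β : MulChar F ℂ) (a d : Fˣ) :
    ∑ c : F, Cfsg.indFun (BorG F) (fun b => α (((b : G2) : M2) 0 0) * β (((b : G2) : M2) 1 1))
      (bG a d c) =
      (Fintype.card F : ℂ) * (α (a : F) * β (d : F) + α (d : F) * β (a : F)) := by
  have e00 : ∀ c : F, ((bG a d c : G2) : M2) 0 0 = (a : F) := fun c => rfl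
  have e01 : ∀ c : F, ((bG a d c : G2) : M2) 0 1 = c := fun c => rfl
  have e10 : ∀ c : F, ((bG a d c : G2) : M2) 1 0 = 0 := fun c => rfl
  have e11 : ∀ c : F, ((bG a d c : G2) : M2) 1 1 = (d : F) := fun c => rfl
  by_cases had : (a : F) = (d : F)
  · have hpt : ∀ c : F, Cfsg.indFun (BorG F) (fun b => α (((b : G2) : M2) 0 0) *
        β (((b : G2) : M2) 1 1)) (bG a d c) =
        α (a : F) * β (a : F) + (if c = 0 then (Fintype.card F : ℂ) * (α (a : F) * β (a : F))
          else 0) := by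
      intro c
      by_cases hc : c = 0
      · rw [if_pos hc]
        have := value_scalar α β (bG a d c) (by rw [e01, hc]) (e10 c) (by rw [e00, e11, had])
        rw [e00] at this
        rw [this]
        ring
      · rw [if_neg hc, add_zero]
        have := value_unip α β (bG a d c) (e10 c) (by rw [e00, e11, had]) (by rw [e01]; exact hc)
        rw [e00] at this
        exact this
    rw [Finset.sum_congr rfl (fun c _ => hpt c), Finset.sum_add_distrib, Finset.sum_const,
      Finset.card_univ, nsmul_eq_mul, Finset.sum_ite_eq' Finset.univ (0 : F),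
      if_pos (Finset.mem_univ _), ← had]
    ring
  · have hpt : ∀ c : F, Cfsg.indFun (BorG F) (fun b => α (((b : G2) : M2) 0 0) *
        β (((b : G2) : M2) 1 1)) (bG a d c) =
        α (a : F) * β (d : F) + α (d : F) * β (a : F) := by
      intro c
      obtain ⟨x, hx⟩ := bG_conj a d c had
      rw [← hx, h7_indFun_conj]
      have := value_diag α β (bG a d 0) (e01 0) (e10 0) (by rw [e00, e11]; exact had)
      rw [e00, e11] at this
      exact this
    rw [Finset.sum_congr rfl (fun c _ => hpt c), Finset.sum_const, Finset.card_univ, nsmul_eq_mul]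

theorem inner (α β α' β' : MulChar F ℂ) [Decidable (α = α')] [Decidable (β = β')]
    [Decidable (α = β')] [Decidable (β = α')] :
    Cfsg.classInner
      (Cfsg.indFun (BorG F) (fun b => α (((b : G2) : M2) 0 0) * β (((b : G2) : M2) 1 1)))
      (Cfsg.indFun (BorG F) (fun b => α' (((b : G2) : M2) 0 0) * β' (((b : G2) : M2) 1 1))) =
      (if α = α' then 1 else 0) * (if β = β' then 1 else 0) +
      (if α = β' then 1 else 0) * (if β = α' then 1 else 0) := by
  have : Fintype ↥(BorG F) := Fintype.ofFinite _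
  have hq : 2 ≤ Fintype.card F := Fintype.one_lt_card
  rw [h7_frobenius_reciprocity (BorG F) _ _ (h7_indFun_isClassFunction (BorG F) _)]
  unfold Cfsg.classInner
  rw [← Equiv.sum_comp (borEquivG (F := F)).symm, Fintype.sum_prod_type]
  simp_rw [Fintype.sum_prod_type]
  have hterm : ∀ (a d : Fˣ) (c : F),
      (fun b : BorG F => α (((b : G2) : M2) 0 0) * β (((b : G2) : M2) 1 1))
        ((borEquivG (F := F)).symm (a, d, c)) *
      conj ((fun h : BorG F => Cfsg.indFun (BorG F) (fun b => α' (((b : G2) : M2) 0 0) *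
        β' (((b : G2) : M2) 1 1)) (h : G2)) ((borEquivG (F := F)).symm (a, d, c))) =
      α (a : F) * β (d : F) * conj (Cfsg.indFun (BorG F) (fun b => α' (((b : G2) : M2) 0 0) *
        β' (((b : G2) : M2) 1 1)) (bG a d c)) := by
    intro a d c
    rfl
  have hinner : ∀ a d : Fˣ, ∑ c : F,
      α (a : F) * β (d : F) * conj (Cfsg.indFun (BorG F) (fun b => α' (((b : G2) : M2) 0 0) *
        β' (((b : G2) : M2) 1 1)) (bG a d c)) =
      (Fintype.card F : ℂ) * ((α (a : F) * conj (α' (a : F))) * (β (d : F) * conj (β' (d : F)))) +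
      (Fintype.card F : ℂ) * ((α (a : F) * conj (β' (a : F))) * (β (d : F) * conj (α' (d : F)))) := by
    intro a d
    rw [← Finset.mul_sum, ← map_sum, inner_sum α' β' a d, map_mul, map_add, map_mul, map_mul,
      Complex.conj_natCast]
    ring
  rw [Finset.sum_congr rfl (fun a _ => Finset.sum_congr rfl (fun d _ =>
    Finset.sum_congr rfl (fun c _ => hterm a d c)))]
  rw [Finset.sum_congr rfl (fun a _ => Finset.sum_congr rfl (fun d _ => hinner a d))]
  simp_rw [Finset.sum_add_distrib, ← Finset.mul_sum]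
  simp_rw [← Finset.sum_mul]
  rw [Cfsg.Agent.S2432.units_sum (fun a : F => α a * conj (α' a)) (by rw [MulChar.map_zero]; ring),
    Cfsg.Agent.S2432.units_sum (fun a : F => β a * conj (β' a)) (by rw [MulChar.map_zero]; ring),
    Cfsg.Agent.S2432.units_sum (fun a : F => α a * conj (β' a)) (by rw [MulChar.map_zero]; ring),
    Cfsg.Agent.S2432.units_sum (fun a : F => β a * conj (α' a)) (by rw [MulChar.map_zero]; ring),
    Cfsg.Agent.S2432.orth1, Cfsg.Agent.S2432.orth1, Cfsg.Agent.S2432.orth1, Cfsg.Agent.S2432.orth1,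
    BorG_eq, card_BG]
  have h1 : ((Fintype.card F : ℂ) - 1) ≠ 0 := by
    have : (Fintype.card F : ℂ) ≠ 1 := by
      have h3 : Fintype.card F ≠ 1 := by omega
      exact_mod_cast h3
    exact sub_ne_zero.mpr this
  have h2 : (Fintype.card F : ℂ) ≠ 0 := by
    have : 0 < Fintype.card F := by omega
    exact_mod_cast this.ne'
  have hcast : ((Fintype.card F * (Fintype.card F - 1) ^ 2 : ℕ) : ℂ) =
      (Fintype.card F : ℂ) * ((Fintype.card F : ℂ) - 1) ^ 2 := by
    have : 1 ≤ Fintype.card F := by omega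
    push_cast [Nat.cast_sub this]
    ring
  rw [hcast]
  split_ifs <;> field_simp <;> ring

end Inner

section Char

variable {F : Type*} [Field F]

local notation "G2" => GL (Fin 2) F
local notation "M2" => Matrix (Fin 2) (Fin 2) F

theorem bor_entries_ne_zero (b : BorG F) :
    ((b : G2) : M2) 0 0 ≠ 0 ∧ ((b : G2) : M2) 1 1 ≠ 0 := by
  have hd := gl2_det (b : G2)
  rw [(mem_BorG b.1).mp b.2, mul_zero, sub_zero] at hd
  exact ⟨left_ne_zero_of_mul hd, right_ne_zero_of_mul hd⟩

noncomputable def diagHom0 : BorG F →* Fˣ where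
  toFun b := Units.mk0 _ (bor_entries_ne_zero b).1
  map_one' := by
    apply Units.ext
    simp
  map_mul' x y := by
    apply Units.ext
    show (((x * y : BorG F) : G2) : M2) 0 0 = ((x : G2) : M2) 0 0 * ((y : G2) : M2) 0 0
    rw [Subgroup.coe_mul, gl2_coe_mul, Matrix.mul_apply, Fin.sum_univ_two,
      (mem_BorG y.1).mp y.2, mul_zero, add_zero]

noncomputable def diagHom1 : BorG F →* Fˣ where
  toFun b := Units.mk0 _ (bor_entries_ne_zero b).2
  map_one' := by
    apply Units.ext
    simp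
  map_mul' x y := by
    apply Units.ext
    show (((x * y : BorG F) : G2) : M2) 1 1 = ((x : G2) : M2) 1 1 * ((y : G2) : M2) 1 1
    rw [Subgroup.coe_mul, gl2_coe_mul, Matrix.mul_apply, Fin.sum_univ_two,
      (mem_BorG x.1).mp x.2, zero_mul, zero_add]

theorem isCharacter_theta (α β : MulChar F ℂ) :
    Cfsg.IsCharacter (BorG F) (fun b => α (((b : G2) : M2) 0 0) * β (((b : G2) : M2) 1 1)) := by
  have h := isCharacter_of_irr (linIrr (((MulChar.toUnitHom α).comp (diagHom0 (F := F))) *
    ((MulChar.toUnitHom β).comp (diagHom1 (F := F)))))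
  convert h using 1
  funext b
  rw [linIrr_apply, MonoidHom.mul_apply, Units.val_mul, MonoidHom.comp_apply, MonoidHom.comp_apply,
    MulChar.coe_toUnitHom, MulChar.coe_toUnitHom]
  rfl

end Char

theorem irr_of_ne {F : Type*} [Field F] [Fintype F] [DecidableEq F] (α β : MulChar F ℂ)
    (hαβ : α ≠ β) :
    Cfsg.IsIrrCharacter (GL (Fin 2) F) (Cfsg.indFun (BorG F)
      (fun b => α (((b : GL (Fin 2) F) : Matrix (Fin 2) (Fin 2) F) 0 0) *
        β (((b : GL (Fin 2) F) : Matrix (Fin 2) (Fin 2) F) 1 1))) := by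
  classical
  have hR := isCharacter_indFun (BorG F) _ (isCharacter_theta α β)
  have hinner := inner α β α β
  rw [if_pos rfl, if_pos rfl, if_neg hαβ, if_neg (Ne.symm hαβ)] at hinner
  apply h7_irr_of_norm_one hR
  rw [hinner]
  ring

/-- Over a finite field F with q elements, for multiplicative characters α ≠ β of F, the function induced to GL₂ from the linear character b ↦ α(b₁₁) β(b₂₂) of the upper triangular subgroup B is an irreducible character (of degree q + 1). -/
theorem result {F : Type*} [Field F] [Fintype F] [DecidableEq F] (α β : MulChar F ℂ) (hαβ : α ≠ β) :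
    Cfsg.IsIrrCharacter (Matrix.GeneralLinearGroup (Fin 2) F) (Cfsg.indFun (Cfsg.upperTriangularGL 2 F) (fun b => α (((b : Matrix.GeneralLinearGroup (Fin 2) F) : Matrix (Fin 2) (Fin 2) F) 0 0) * β (((b : Matrix.GeneralLinearGroup (Fin 2) F) : Matrix (Fin 2) (Fin 2) F) 1 1))) := by
  exact irr_of_ne α β hαβ

end Cfsg.Agent.S2304
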