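import Cfsg.Statements.S2305

import Cfsg.Agent.S2304
set_option autoImplicit false
open Cfsg

namespace Cfsg.Agent.S2305

open Cfsg.Agent.Lib.helper7 Cfsg.Agent.Lib.helper2 Cfsg.Agent.Lib.Helper25 Cfsg.Agent.S2304

theorem swap_eq {F : Type*} [Field F] [Fintype F] [DecidableEq F] (α β : MulChar F ℂ) :
    Cfsg.indFun (BorG F) (fun b => α (((b : GL (Fin 2) F) : Matrix (Fin 2) (Fin 2) F) 0 0) *
      β (((b : GL (Fin 2) F) : Matrix (Fin 2) (Fin 2) F) 1 1)) =
    Cfsg.indFun (BorG F) (fun b => β (((b : GL (Fin 2) F) : Matrix (Fin 2) (Fin 2) F) 0 0) *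
      α (((b : GL (Fin 2) F) : Matrix (Fin 2) (Fin 2) F) 1 1)) := by
  classical
  by_cases hαβ : α = β
  · rw [hαβ]
  · have h1 := irr_of_ne α β hαβ
    have h2 := irr_of_ne β α (Ne.symm hαβ)
    by_contra hne
    have h0 := h7_irr_inner_ne h1 h2 hne
    have hinner := Cfsg.Agent.S2304.inner α β β α
    rw [if_neg hαβ, if_pos rfl, if_pos rfl, h0] at hinner
    norm_num at hinner

/-- Over a finite field F, for multiplicative characters α, β, α′, β′ of F, the characters of GL₂ induced from the linear characters b ↦ α(b₁₁) β(b₂₂) and b ↦ α′(b₁₁) β′(b₂₂) of the upper triangular subgroup coincide exactly when {α, β} = {α′, β′} as unordered pairs. -/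
theorem result {F : Type*} [Field F] [Fintype F] [DecidableEq F] (α β α' β' : MulChar F ℂ) :
    Cfsg.indFun (Cfsg.upperTriangularGL 2 F) (fun b => α (((b : Matrix.GeneralLinearGroup (Fin 2) F) : Matrix (Fin 2) (Fin 2) F) 0 0) * β (((b : Matrix.GeneralLinearGroup (Fin 2) F) : Matrix (Fin 2) (Fin 2) F) 1 1)) = Cfsg.indFun (Cfsg.upperTriangularGL 2 F) (fun b => α' (((b : Matrix.GeneralLinearGroup (Fin 2) F) : Matrix (Fin 2) (Fin 2) F) 0 0) * β' (((b : Matrix.GeneralLinearGroup (Fin 2) F) : Matrix (Fin 2) (Fin 2) F) 1 1)) ↔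
      (α = α' ∧ β = β') ∨ (α = β' ∧ β = α') := by
  classical
  constructor
  · intro heq
    have h1 := Cfsg.Agent.S2304.inner α β α' β'
    have h2 := Cfsg.Agent.S2304.inner α β α β
    have heq' : Cfsg.indFun (BorG F) (fun b => α (((b : GL (Fin 2) F) : Matrix (Fin 2) (Fin 2) F) 0 0) *
        β (((b : GL (Fin 2) F) : Matrix (Fin 2) (Fin 2) F) 1 1)) =
      Cfsg.indFun (BorG F) (fun b => α' (((b : GL (Fin 2) F) : Matrix (Fin 2) (Fin 2) F) 0 0) *
        β' (((b : GL (Fin 2) F) : Matrix (Fin 2) (Fin 2) F) 1 1)) := heq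
    rw [← heq', h2, if_pos rfl, if_pos rfl] at h1
    by_contra hcon
    rw [not_or, not_and_or, not_and_or] at hcon
    obtain ⟨hc1, hc2⟩ := hcon
    have e1 : (if α = α' then (1 : ℂ) else 0) * (if β = β' then 1 else 0) = 0 := by
      rcases hc1 with h | h
      · rw [if_neg h, zero_mul]
      · rw [if_neg h, mul_zero]
    have e2 : (if α = β' then (1 : ℂ) else 0) * (if β = α' then 1 else 0) = 0 := by
      rcases hc2 with h | h
      · rw [if_neg h, zero_mul]
      · rw [if_neg h, mul_zero]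
    rw [e1, e2] at h1
    split_ifs at h1 <;> norm_num at h1
  · rintro (⟨rfl, rfl⟩ | ⟨rfl, rfl⟩)
    · rfl
    · exact swap_eq α β

end Cfsg.Agent.S2305
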