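import Cfsg.Statements.S2308

set_option autoImplicit false
set_option linter.unusedSectionVars false
open Cfsg

namespace Cfsg.Agent.S2308

section
variable {F : Type*} [Field F]

local notation "G2" => Matrix.GeneralLinearGroup (Fin 2) F
local notation "M2" => Matrix (Fin 2) (Fin 2) F

theorem memB (x : G2) : x ∈ Cfsg.upperTriangularGL 2 F ↔ (x : M2) 1 0 = 0 := by
  show (x : M2).BlockTriangular id ↔ _
  constructor
  · intro h
    exact h (by decide : (id (0 : Fin 2)) < id 1)
  · intro h i j hij
    fin_cases i <;> fin_cases j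
    · exact absurd hij (by decide)
    · exact absurd hij (by decide)
    · exact h
    · exact absurd hij (by decide)

theorem det_ne (x : G2) : (x : M2) 0 0 * (x : M2) 1 1 - (x : M2) 0 1 * (x : M2) 1 0 ≠ 0 := by
  have := ((Matrix.isUnit_iff_isUnit_det _).mp (Units.isUnit x)).ne_zero
  rwa [Matrix.det_fin_two] at this

theorem inv_mul_entry (x y : G2) :
    ((x⁻¹ * y : G2) : M2) 1 0 =
      ((x : M2).det)⁻¹ * ((x : M2) 0 0 * (y : M2) 1 0 - (x : M2) 1 0 * (y : M2) 0 0) := by
  have h1 : ((x⁻¹ * y : G2) : M2) = (x : M2)⁻¹ * (y : M2) := by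
    rw [Units.val_mul, Matrix.coe_units_inv]
  rw [h1, Matrix.inv_def, Matrix.adjugate_fin_two, Matrix.mul_apply, Fin.sum_univ_two]
  simp only [Matrix.smul_apply, Matrix.of_apply, Matrix.cons_val_one, Matrix.cons_val_zero, smul_eq_mul,
    Ring.inverse_eq_inv']
  ring

open Classical in
noncomputable def π (x : G2) : Option F :=
  if (x : M2) 1 0 = 0 then none else some ((x : M2) 0 0 / (x : M2) 1 0)

theorem π_eq_iff (x y : G2) : π x = π y ↔ (x : M2) 0 0 * (y : M2) 1 0 = (x : M2) 1 0 * (y : M2) 0 0 := by
  have hx := det_ne x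
  have hy := det_ne y
  unfold π
  by_cases h1 : (x : M2) 1 0 = 0
  · have hx0 : (x : M2) 0 0 ≠ 0 := by
      intro h; apply hx; rw [h, h1]; ring
    by_cases h2 : (y : M2) 1 0 = 0
    · rw [if_pos h1, if_pos h2, h1, h2]; simp
    · rw [if_pos h1, if_neg h2, h1]
      constructor
      · intro h; exact absurd h (by simp)
      · intro h
        rw [zero_mul] at h
        exact absurd (mul_eq_zero.mp h) (by push_neg; exact ⟨hx0, h2⟩)
  · by_cases h2 : (y : M2) 1 0 = 0
    · have hy0 : (y : M2) 0 0 ≠ 0 := by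
        intro h; apply hy; rw [h, h2]; ring
      rw [if_neg h1, if_pos h2, h2]
      constructor
      · intro h; exact absurd h (by simp)
      · intro h
        rw [mul_zero] at h
        exact absurd (mul_eq_zero.mp h.symm) (by push_neg; exact ⟨h1, hy0⟩)
    · rw [if_neg h1, if_neg h2]
      constructor
      · intro h
        have := Option.some.inj h
        field_simp at this
        linear_combination this
      · intro h
        congr 1
        field_simp
        linear_combination h

theorem π_eq_iff_mem (x y : G2) : π x = π y ↔ x⁻¹ * y ∈ Cfsg.upperTriangularGL 2 F := by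
  rw [π_eq_iff, memB, inv_mul_entry]
  have hd : ((x : M2).det)⁻¹ ≠ 0 := by
    apply inv_ne_zero
    rw [Matrix.det_fin_two]; exact det_ne x
  constructor
  · intro h
    rw [h, sub_self, mul_zero]
  · intro h
    rcases mul_eq_zero.mp h with h' | h'
    · exact absurd h' hd
    · exact sub_eq_zero.mp h'

noncomputable def rep (p : Option F) : G2 :=
  match p with
  | none => 1
  | some t => Matrix.GeneralLinearGroup.mkOfDetNeZero !![t, 1; 1, 0] (by
      rw [Matrix.det_fin_two_of]; simp)

theorem rep_some_coe (t : F) : ((rep (some t) : G2) : M2) = !![t, 1; 1, 0] := rfl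

theorem π_rep (p : Option F) : π (rep p) = p := by
  rcases p with _ | t
  · show π (1 : G2) = none
    unfold π
    rw [if_pos (by simp)]
  · unfold π
    rw [rep_some_coe]
    simp

noncomputable def Ψ : (G2 ⧸ Cfsg.upperTriangularGL 2 F) ≃ Option F :=
  Equiv.ofBijective
    (Quotient.lift (s := QuotientGroup.leftRel (Cfsg.upperTriangularGL 2 F)) π (fun a b hab =>
      (π_eq_iff_mem a b).mpr (QuotientGroup.leftRel_apply.mp hab)))
    ⟨by
      intro x y
      induction x using Quotient.inductionOn
      induction y using Quotient.inductionOn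
      intro h
      apply Quotient.sound
      exact QuotientGroup.leftRel_apply.mpr ((π_eq_iff_mem _ _).mp h),
     by
      intro p
      exact ⟨Quotient.mk _ (rep p), π_rep p⟩⟩

theorem Ψ_mk (x : G2) : Ψ (QuotientGroup.mk x : G2 ⧸ Cfsg.upperTriangularGL 2 F) = π x := rfl

def Fix (g : G2) (p : Option F) : Prop := π (g * rep p) = p

theorem mem_fixedBy_iff (g : G2) (a : G2 ⧸ Cfsg.upperTriangularGL 2 F) :
    a ∈ MulAction.fixedBy (G2 ⧸ Cfsg.upperTriangularGL 2 F) g ↔ Fix g (Ψ a) := by
  induction a using QuotientGroup.induction_on with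
  | H x =>
    rw [MulAction.mem_fixedBy, Ψ_mk]
    show ((g * x : G2) : G2 ⧸ Cfsg.upperTriangularGL 2 F) = (x : G2 ⧸ Cfsg.upperTriangularGL 2 F) ↔ _
    have h1 : ((g * x : G2) : G2 ⧸ Cfsg.upperTriangularGL 2 F) = (x : G2 ⧸ Cfsg.upperTriangularGL 2 F) ↔
        π (g * x) = π x := by
      rw [QuotientGroup.eq, π_eq_iff_mem]
    rw [h1]
    unfold Fix
    have h2 : π (g * rep (π x)) = π (g * x) := by
      rw [π_eq_iff_mem]
      have : (g * rep (π x))⁻¹ * (g * x) = (rep (π x))⁻¹ * x := by group
      rw [this, ← π_eq_iff_mem, π_rep]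
    rw [h2]

theorem card_fixedBy (g : G2) :
    Nat.card (MulAction.fixedBy (G2 ⧸ Cfsg.upperTriangularGL 2 F) g) = Nat.card {p : Option F // Fix g p} :=
  Nat.card_congr (Equiv.subtypeEquiv Ψ (fun a => mem_fixedBy_iff g a))

theorem fix_none (g : G2) : Fix g none ↔ (g : M2) 1 0 = 0 := by
  unfold Fix
  have : g * rep none = g := mul_one g
  rw [this]
  unfold π
  by_cases h : (g : M2) 1 0 = 0
  · rw [if_pos h]; simp [h]
  · rw [if_neg h]; simp [h]

theorem fix_some (g : G2) (t : F) : Fix g (some t) ↔
    ((g : M2) 1 0 * t + (g : M2) 1 1 ≠ 0 ∧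
      (g : M2) 0 0 * t + (g : M2) 0 1 = t * ((g : M2) 1 0 * t + (g : M2) 1 1)) := by
  unfold Fix π
  have h1 : ((g * rep (some t) : G2) : M2) 1 0 = (g : M2) 1 0 * t + (g : M2) 1 1 := by
    rw [Units.val_mul, rep_some_coe, Matrix.mul_apply, Fin.sum_univ_two]
    simp
  have h0 : ((g * rep (some t) : G2) : M2) 0 0 = (g : M2) 0 0 * t + (g : M2) 0 1 := by
    rw [Units.val_mul, rep_some_coe, Matrix.mul_apply, Fin.sum_univ_two]
    simp
  rw [h1, h0]
  by_cases h : (g : M2) 1 0 * t + (g : M2) 1 1 = 0
  · rw [if_pos h]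
    constructor
    · intro h'; exact absurd h' (by simp)
    · intro h'; exact absurd h h'.1
  · rw [if_neg h]
    constructor
    · intro h'
      refine ⟨h, ?_⟩
      have := Option.some.inj h'
      exact (div_eq_iff h).mp this
    · rintro ⟨_, h'⟩
      congr 1
      exact (div_eq_iff h).mpr h'

theorem case1 [Fintype F] (g : G2) (a : F) (h : (g : M2) = a • (1 : M2)) :
    Nat.card {p : Option F // Fix g p} = Fintype.card F + 1 := by
  have h00 : (g : M2) 0 0 = a := by rw [h]; simp
  have h01 : (g : M2) 0 1 = 0 := by rw [h]; simp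
  have h10 : (g : M2) 1 0 = 0 := by rw [h]; simp
  have h11 : (g : M2) 1 1 = a := by rw [h]; simp
  have ha : a ≠ 0 := by
    intro ha
    have := det_ne g
    rw [h00, h01, h10, h11, ha] at this
    exact this (by ring)
  have hall : ∀ p : Option F, Fix g p := by
    intro p
    rcases p with _ | t
    · rw [fix_none]; exact h10
    · rw [fix_some, h00, h01, h10, h11]
      refine ⟨by simpa using ha, by ring⟩
  rw [Nat.card_congr (Equiv.subtypeUnivEquiv hall), Nat.card_eq_fintype_card, Fintype.card_option]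

theorem case2 (g : G2) (h01 : (g : M2) 0 1 = 0) (h10 : (g : M2) 1 0 = 0) (hne : (g : M2) 0 0 ≠ (g : M2) 1 1) :
    Nat.card {p : Option F // Fix g p} = 2 := by
  have hd := det_ne g
  rw [h01, h10] at hd
  have h11 : (g : M2) 1 1 ≠ 0 := by
    intro h; apply hd; rw [h]; ring
  have hset : {p : Option F | Fix g p} = {none, some 0} := by
    ext p
    simp only [Set.mem_ofPred_eq, Set.mem_insert_iff, Set.mem_singleton_iff]
    rcases p with _ | t
    · simp [fix_none, h10]
    · rw [fix_some, h01, h10]
      constructor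
      · rintro ⟨_, h2⟩
        right
        congr 1
        have : t * ((g : M2) 0 0 - (g : M2) 1 1) = 0 := by linear_combination h2
        rcases mul_eq_zero.mp this with h3 | h3
        · exact h3
        · exact absurd (sub_eq_zero.mp h3) hne
      · intro h2
        rcases h2 with h2 | h2
        · exact absurd h2 (by simp)
        · have : t = 0 := Option.some.inj h2
          rw [this]
          refine ⟨by simpa using h11, by ring⟩
  have : Nat.card {p : Option F // Fix g p} = Set.ncard {p : Option F | Fix g p} := rfl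
  rw [this, hset, Set.ncard_pair (by simp)]

theorem case3 (g : G2) (h : ∀ (c : F) (v : Fin 2 → F), v ≠ 0 → (g : M2).mulVec v ≠ c • v) :
    Nat.card {p : Option F // Fix g p} = 0 := by
  have hempty : IsEmpty {p : Option F // Fix g p} := by
    constructor
    rintro ⟨p, hp⟩
    rcases p with _ | t
    · rw [fix_none] at hp
      apply h ((g : M2) 0 0) ![1, 0] (by
        intro h0
        have := congrFun h0 0
        simp at this)
      funext i
      fin_cases i
      · simp [Matrix.mulVec, dotProduct, Fin.sum_univ_two]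
      · simp [Matrix.mulVec, dotProduct, Fin.sum_univ_two, hp]
    · rw [fix_some] at hp
      obtain ⟨_, h2⟩ := hp
      apply h ((g : M2) 1 0 * t + (g : M2) 1 1) ![t, 1] (by
        intro h0
        have := congrFun h0 1
        simp at this)
      funext i
      fin_cases i
      · simp [Matrix.mulVec, dotProduct, Fin.sum_univ_two]
        linear_combination h2
      · simp [Matrix.mulVec, dotProduct, Fin.sum_univ_two]
  exact Nat.card_of_isEmpty

theorem case4 (g : G2) (h10 : (g : M2) 1 0 = 0) (heq : (g : M2) 0 0 = (g : M2) 1 1) (h01 : (g : M2) 0 1 ≠ 0) :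
    Nat.card {p : Option F // Fix g p} = 1 := by
  have hset : {p : Option F | Fix g p} = {none} := by
    ext p
    simp only [Set.mem_ofPred_eq, Set.mem_singleton_iff]
    rcases p with _ | t
    · simp [fix_none, h10]
    · rw [fix_some, h10, heq]
      constructor
      · rintro ⟨_, h2⟩
        exfalso
        apply h01
        linear_combination h2
      · intro h2
        exact absurd h2 (by simp)
  have : Nat.card {p : Option F // Fix g p} = Set.ncard {p : Option F | Fix g p} := rfl
  rw [this, hset, Set.ncard_singleton]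

end

theorem result {F : Type*} [Field F] [Fintype F] (g : Matrix.GeneralLinearGroup (Fin 2) F) :
    ((∃ a : F, (g : Matrix (Fin 2) (Fin 2) F) = a • (1 : Matrix (Fin 2) (Fin 2) F)) → Cfsg.fixedPointCharacter (Cfsg.upperTriangularGL 2 F) g = Fintype.card F + 1) ∧
    ((g : Matrix (Fin 2) (Fin 2) F) 0 1 = 0 → (g : Matrix (Fin 2) (Fin 2) F) 1 0 = 0 → (g : Matrix (Fin 2) (Fin 2) F) 0 0 ≠ (g : Matrix (Fin 2) (Fin 2) F) 1 1 →
      Cfsg.fixedPointCharacter (Cfsg.upperTriangularGL 2 F) g = 2) ∧
    ((∀ (c : F) (v : Fin 2 → F), v ≠ 0 → (g : Matrix (Fin 2) (Fin 2) F).mulVec v ≠ c • v) → Cfsg.fixedPointCharacter (Cfsg.upperTriangularGL 2 F) g = 0) ∧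
    ((g : Matrix (Fin 2) (Fin 2) F) 1 0 = 0 → (g : Matrix (Fin 2) (Fin 2) F) 0 0 = (g : Matrix (Fin 2) (Fin 2) F) 1 1 → (g : Matrix (Fin 2) (Fin 2) F) 0 1 ≠ 0 →
      Cfsg.fixedPointCharacter (Cfsg.upperTriangularGL 2 F) g = 1) := by
  have hdef : Cfsg.fixedPointCharacter (Cfsg.upperTriangularGL 2 F) g =
      (Nat.card {p : Option F // Fix g p} : ℂ) := by
    unfold Cfsg.fixedPointCharacter
    rw [card_fixedBy]
  refine ⟨?_, ?_, ?_, ?_⟩
  · rintro ⟨a, ha⟩
    rw [hdef, case1 g a ha]
    push_cast
    rfl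
  · intro h01 h10 hne
    rw [hdef, case2 g h01 h10 hne]
    norm_num
  · intro h
    rw [hdef, case3 g h]
    norm_num
  · intro h10 heq h01
    rw [hdef, case4 g h10 heq h01]
    norm_num

end Cfsg.Agent.S2308
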