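import Cfsg.Statements.S2311
import Cfsg.Agent.Lib.helper8.ChevBNAll2
import Cfsg.Agent.Lib.helper8.ChevOrdAll
import Cfsg.Agent.Lib.helper8.ChevPosLen
import Cfsg.Agent.Lib.helper14.StChevIrr

set_option autoImplicit false
open Cfsg

namespace Cfsg.Agent.S2311

/-- In a Chevalley group of type G₂, B₂, D₄, F₄, E₆, E₇ or E₈ over a finite field, the alternating sum over all sets J of fundamental roots of (−1)^|J| times the permutation character on the cosets of the standard parabolic subgroup P_J is an irreducible complex character: the Steinberg character. -/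
theorem result {F : Type*} [Field F] [Fintype F] (D : Cfsg.Lie.ChevalleyDatum) (hD : D ∈ [Cfsg.Lie.chevG2, Cfsg.Lie.chevB2, Cfsg.Lie.chevD4, Cfsg.Lie.chevF4, Cfsg.Lie.chevE6, Cfsg.Lie.chevE7, Cfsg.Lie.chevE8]) :
    Cfsg.IsIrrCharacter ↥(D.group F) (D.steinbergCharacter F) := by
  have hB := Cfsg.Agent.Lib.helper8.h8base_all D hD
  have hA := Cfsg.Agent.Lib.helper8.h8reflAll D hD
  have hC := Cfsg.Agent.Lib.helper8.h8commAll D hD
  have hBN := Cfsg.Agent.Lib.helper8.h8bn_all D hD
  have hW := Cfsg.Agent.Lib.helper8.h8bn2_all D hD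
  have hO := Cfsg.Agent.Lib.helper8.h8ord_all D hD
  exact Cfsg.Agent.Lib.helper14.st_chev_irr D hB hA hC hBN hW hO.1 hO.2
    (Cfsg.Agent.Lib.helper8.h8posLen_all D hD)

end Cfsg.Agent.S2311
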