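import Cfsg.Statements.S2315
import Cfsg.Agent.Lib.helper14.NilCount3
-- import your own Cfsg.Agent.* helpers here

set_option autoImplicit false
open Cfsg

namespace Cfsg.Agent.S2315

open Cfsg.Agent.Lib.helper14.NilCount in
/-- elements of `p`-power order of `GL_n` correspond to nilpotent matrices via `g ↦ g - 1` -/
theorem card_unipotent_eq {F : Type*} [Field F] [Fintype F] (p : ℕ) [Fact p.Prime] [CharP F p]
    (n : ℕ) [NeZero n] :
    Nat.card {g : Matrix.GeneralLinearGroup (Fin n) F // ∃ k : ℕ, orderOf g = p ^ k} =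
      Nat.card {N : Matrix (Fin n) (Fin n) F // IsNilpotent N} := by
  haveI : Nonempty (Fin n) := ⟨⟨0, Nat.pos_of_ne_zero (NeZero.ne n)⟩⟩
  apply Nat.card_congr
  refine Equiv.ofBijective (fun g => ⟨(g.1 : Matrix (Fin n) (Fin n) F) - 1, ?_⟩) ⟨?_, ?_⟩
  · obtain ⟨k, hk⟩ := g.2
    refine ⟨p ^ k, ?_⟩
    rw [sub_pow_char_pow_of_commute p k (Commute.one_right _), one_pow, ← Units.val_pow_eq_pow_val,
      ← hk, pow_orderOf_eq_one, Units.val_one, sub_self]
  · intro g g' h
    have h' := congrArg Subtype.val h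
    simp only at h'
    exact Subtype.ext (Units.ext (sub_left_injective h'))
  · rintro ⟨N, hN⟩
    obtain ⟨u, hu⟩ := hN.isUnit_one_add
    obtain ⟨j, hj⟩ := hN
    have hpow : u ^ (p ^ j) = 1 := by
      apply Units.ext
      rw [Units.val_pow_eq_pow_val, hu, add_pow_char_pow_of_commute p j (Commute.one_left _),
        one_pow, Units.val_one]
      have hlt : j ≤ p ^ j := (Nat.lt_pow_self (Fact.out : p.Prime).one_lt).le
      rw [← Nat.sub_add_cancel hlt, pow_add, hj, mul_zero, add_zero]
    obtain ⟨i, -, hi⟩ := (Nat.dvd_prime_pow (Fact.out : p.Prime)).mp (orderOf_dvd_of_pow_eq_one hpow)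
    refine ⟨⟨u, i, hi⟩, ?_⟩
    apply Subtype.ext
    show (u : Matrix (Fin n) (Fin n) F) - 1 = N
    rw [hu, add_sub_cancel_left]

/-- Steinberg's count of unipotent elements for the general linear group: over a finite field with q elements of characteristic p, the number of elements of GL_n of p-power order (the unipotent matrices) is q^(n(n−1)). -/
theorem result {F : Type*} [Field F] [Fintype F] (p : ℕ) [Fact p.Prime] [CharP F p] (n : ℕ) :
    Nat.card {g : Matrix.GeneralLinearGroup (Fin n) F // ∃ k : ℕ, orderOf g = p ^ k} = Fintype.card F ^ (n * (n - 1)) := by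
  rcases Nat.eq_zero_or_pos n with rfl | hn
  · rw [zero_mul, pow_zero]
    haveI : Subsingleton (Matrix.GeneralLinearGroup (Fin 0) F) := ⟨fun a b => Units.ext (Subsingleton.elim _ _)⟩
    haveI : Unique {g : Matrix.GeneralLinearGroup (Fin 0) F // ∃ k : ℕ, orderOf g = p ^ k} :=
      { default := ⟨1, 0, by simp⟩
        uniq := fun a => Subtype.ext (Subsingleton.elim _ _) }
    exact Nat.card_unique
  · haveI : NeZero n := ⟨hn.ne'⟩
    rw [card_unipotent_eq p n, Cfsg.Agent.Lib.helper14.NilCount.card_nilpotent]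

end Cfsg.Agent.S2315
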