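import Cfsg.Statements.S2320
import Cfsg.Agent.Lib.helper14.GL2Char2

set_option autoImplicit false
open Cfsg

namespace Cfsg.Agent.S2320

open Cfsg.Agent.Lib.helper14

section Aux

variable {F : Type*} [Field F] [Fintype F] [DecidableEq F]
variable [Fintype (Cfsg.IrrCharacter (GL (Fin 2) F))] [Fintype (MulChar F ℂ)]

local notation "G2" => GL (Fin 2) F
local notation "M2" => Matrix (Fin 2) (Fin 2) F
local notation "Irr2" => Cfsg.IrrCharacter (GL (Fin 2) F)

open Classical

/-- An irreducible character of degree `q` is a Steinberg twist. -/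
theorem eq_glSt_of_deg (χ : Irr2) (hdeg : (χ : G2 → ℂ) 1 = (Fintype.card F : ℂ)) :
    ∃ α : MulChar F ℂ, χ = glSt α := by
  obtain ⟨f1, f2, f3⟩ := q_ne_facts (F := F)
  rcases gl_classification χ with ⟨α, rfl⟩ | ⟨α, rfl⟩ | ⟨α, β, h, rfl⟩ | h
  · exfalso
    rw [glLam_one] at hdeg
    exact f1 hdeg.symm
  · exact ⟨α, rfl⟩
  · exfalso
    rw [glRirr_one] at hdeg
    exact f3 hdeg.symm
  · exfalso
    rw [(glPsi_values χ h).1] at hdeg
    have : (0 : ℂ) = 1 := by linear_combination hdeg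
    exact zero_ne_one this

theorem det_ne_zero (g : G2) : (g : M2).det ≠ 0 := by
  have := Matrix.GeneralLinearGroup.det_ne_zero g
  exact this

end Aux

/-- Over a finite field F with q elements, every irreducible complex character of GL₂ of degree q takes a value of absolute value 1 at every diagonal matrix with two different diagonal entries and at every element with no eigenvector in F². -/
theorem result {F : Type*} [Field F] [Fintype F] (χ : Matrix.GeneralLinearGroup (Fin 2) F → ℂ) (hχ : Cfsg.IsIrrCharacter (Matrix.GeneralLinearGroup (Fin 2) F) χ) (hdeg : χ 1 = (Fintype.card F : ℂ)) (g : Matrix.GeneralLinearGroup (Fin 2) F) :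
    ((g : Matrix (Fin 2) (Fin 2) F) 0 1 = 0 → (g : Matrix (Fin 2) (Fin 2) F) 1 0 = 0 → (g : Matrix (Fin 2) (Fin 2) F) 0 0 ≠ (g : Matrix (Fin 2) (Fin 2) F) 1 1 → ‖χ g‖ = 1) ∧
    ((∀ (c : F) (v : Fin 2 → F), v ≠ 0 → (g : Matrix (Fin 2) (Fin 2) F).mulVec v ≠ c • v) → ‖χ g‖ = 1) := by
  classical
  haveI : Fintype (Cfsg.IrrCharacter (GL (Fin 2) F)) := Fintype.ofFinite _
  haveI : Fintype (MulChar F ℂ) := Fintype.ofFinite _
  obtain ⟨α, hα⟩ := eq_glSt_of_deg (⟨χ, hχ⟩ : Cfsg.IrrCharacter (GL (Fin 2) F)) hdeg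
  have hval : ∀ x, χ x = (glSt α : GL (Fin 2) F → ℂ) x := by
    intro x
    rw [← hα]
  have hdet := det_ne_zero g
  constructor
  · intro h01 h10 hne
    rw [hval, glSt_apply, glR_diag α α g h01 h10 hne, Matrix.det_fin_two, h01, h10, mul_zero,
      sub_zero, map_mul]
    have h2 : α ((g : Matrix (Fin 2) (Fin 2) F) 0 0) * α ((g : Matrix (Fin 2) (Fin 2) F) 1 1) +
        α ((g : Matrix (Fin 2) (Fin 2) F) 1 1) * α ((g : Matrix (Fin 2) (Fin 2) F) 0 0) -
        α ((g : Matrix (Fin 2) (Fin 2) F) 0 0) * α ((g : Matrix (Fin 2) (Fin 2) F) 1 1) =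
        α ((g : Matrix (Fin 2) (Fin 2) F) 0 0 * (g : Matrix (Fin 2) (Fin 2) F) 1 1) := by
      rw [map_mul]; ring
    rw [h2]
    apply mulChar_norm
    rw [Matrix.det_fin_two, h01, h10, mul_zero, sub_zero] at hdet
    exact hdet
  · intro hg
    rw [hval, glSt_apply, glR_noEig α α g hg, zero_sub, norm_neg]
    exact mulChar_norm α _ hdet

end Cfsg.Agent.S2320
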