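import Cfsg.Statements.S2324
import Cfsg.Agent.Lib.helper14.SL2Half2
import Cfsg.Agent.S2322
import Cfsg.Agent.S2323
import Cfsg.Agent.S2299

set_option autoImplicit false
open Cfsg

namespace Cfsg.Agent.S2324

open Cfsg.Agent.Lib.helper14 Cfsg.Agent.S2304 Cfsg.Agent.S2307
open scoped ComplexConjugate

section Aux

variable {F : Type*} [Field F] [Fintype F] [DecidableEq F]
variable [Fintype (Cfsg.IrrCharacter (GL (Fin 2) F))] [Fintype (MulChar F ℂ)]
variable [Fintype (Cfsg.IrrCharacter (Matrix.SpecialLinearGroup (Fin 2) F))]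

local notation "G2" => GL (Fin 2) F
local notation "S2" => Matrix.SpecialLinearGroup (Fin 2) F
local notation "M2" => Matrix (Fin 2) (Fin 2) F
local notation "Irr2" => Cfsg.IrrCharacter (GL (Fin 2) F)
local notation "IrrS" => Cfsg.IrrCharacter (Matrix.SpecialLinearGroup (Fin 2) F)

open Classical

theorem toGL_uS : (Matrix.SpecialLinearGroup.toGL (uS (1 : F)) : G2) = uG 1 := by
  apply Units.ext
  rw [uG_coe]
  rfl

/-- the companion of a half-degree character -/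
theorem aux0 (hodd : Odd (Fintype.card F)) (hq : 5 ≤ Fintype.card F) (χ : S2 → ℂ)
    (hχ : Cfsg.IsIrrCharacter S2 χ) (d : ℕ) (hd : χ 1 = (d : ℂ))
    (hd' : 2 * d = Fintype.card F + 1 ∨ 2 * d + 1 = Fintype.card F) :
    ∃ (η : Irr2) (χ' : S2 → ℂ), Cfsg.IsIrrCharacter S2 χ' ∧ χ' ≠ χ ∧ χ' 1 = χ 1 ∧
      resS (η : G2 → ℂ) = χ + χ' ∧ (η : G2 → ℂ) 1 = ((2 * d : ℕ) : ℂ) ∧
      (χ (uS 1) - χ' (uS 1)) ^ 2 =
        (-1 : ℂ) ^ ((Fintype.card F - 1) / 2) * (Fintype.card F : ℂ) := by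
  obtain ⟨η, hη⟩ := exists_above' (F := F) ⟨χ, hχ⟩
  change Cfsg.classInner (resS (η : G2 → ℂ)) χ ≠ 0 at hη
  obtain ⟨hdeg, -⟩ := constituent_value hodd η χ hχ hη
  obtain ⟨n, hn, hncases⟩ := Cfsg.Agent.S2322.deg_nat η
  rcases constituent_structure η χ hχ hη with ⟨ht, -⟩ | ⟨ht, χ', hχ', hres, k, hk⟩
  · exfalso
    rw [ht, hn, hd] at hdeg
    have : n = 1 * d := by exact_mod_cast hdeg
    omega
  · obtain ⟨h1, h2⟩ := half_core hodd η χ χ' hχ hχ' ht hres k hk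
    have hη1 : (η : G2 → ℂ) 1 = ((2 * d : ℕ) : ℂ) := by
      rw [hdeg, ht, hd]
      push_cast
      ring
    have hq0 : (Fintype.card F : ℂ) ≠ 0 := by
      have : Fintype.card F ≠ 0 := by omega
      exact_mod_cast this
    refine ⟨η, χ', hχ', ?_, ?_, hres, hη1, ?_⟩
    · intro h
      rw [h, sub_self, zero_mul] at h1
      exact hq0 h1.symm
    · have h3 : resS (η : G2 → ℂ) 1 = χ 1 + χ' 1 := by rw [hres]; rfl
      rw [resS_one, hdeg, ht] at h3
      push_cast at h3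
      linear_combination -h3
    · set X := χ (uS 1) - χ' (uS 1) with hX
      set s := (-1 : ℂ) ^ ((Fintype.card F - 1) / 2) with hs
      have hss : s * s = 1 := by
        rw [hs, ← mul_pow]
        norm_num
      rw [h2] at h1
      linear_combination s * h1 - X ^ 2 * hss

end Aux

/-- Over a finite field F with q elements, q odd and q ≥ 5, let u be the upper unitriangular matrix of SL₂ with off-diagonal entry 1 and let δ = (−1)^((q−1)/2). Every irreducible complex character χ of SL₂ of degree (q + 1)/2 satisfies (2χ(u) − 1)² = δq, and every irreducible complex character χ of degree (q − 1)/2 satisfies (2χ(u) + 1)² = δq; that is, χ(u) = (1 ± √(δq))/2 in the first case and χ(u) = (−1 ± √(δq))/2 in the second. Moreover two different irreducible characters of degree (q + 1)/2 take the two different values (their values at u add up to 1), and likewise for degree (q − 1)/2 (values adding up to −1).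 -/
theorem result {F : Type*} [Field F] [Fintype F] (hodd : Odd (Fintype.card F)) (hq : 5 ≤ Fintype.card F)
    (u : Matrix.SpecialLinearGroup (Fin 2) F) (hu : (u : Matrix (Fin 2) (Fin 2) F) = !![1, 1; 0, 1]) :
    (∀ χ : Matrix.SpecialLinearGroup (Fin 2) F → ℂ, Cfsg.IsIrrCharacter (Matrix.SpecialLinearGroup (Fin 2) F) χ → χ 1 = (((Fintype.card F + 1) / 2 : ℕ) : ℂ) → (2 * χ u - 1) ^ 2 = (-1 : ℂ) ^ ((Fintype.card F - 1) / 2) * (Fintype.card F : ℂ)) ∧
    (∀ χ : Matrix.SpecialLinearGroup (Fin 2) F → ℂ, Cfsg.IsIrrCharacter (Matrix.SpecialLinearGroup (Fin 2) F) χ → χ 1 = (((Fintype.card F - 1) / 2 : ℕ) : ℂ) → (2 * χ u + 1) ^ 2 = (-1 : ℂ) ^ ((Fintype.card F - 1) / 2) * (Fintype.card F : ℂ)) ∧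
    (∀ χ₁ χ₂ : Matrix.SpecialLinearGroup (Fin 2) F → ℂ, Cfsg.IsIrrCharacter (Matrix.SpecialLinearGroup (Fin 2) F) χ₁ → Cfsg.IsIrrCharacter (Matrix.SpecialLinearGroup (Fin 2) F) χ₂ → χ₁ ≠ χ₂ →
      χ₁ 1 = (((Fintype.card F + 1) / 2 : ℕ) : ℂ) → χ₂ 1 = (((Fintype.card F + 1) / 2 : ℕ) : ℂ) → χ₁ u + χ₂ u = 1) ∧
    (∀ χ₁ χ₂ : Matrix.SpecialLinearGroup (Fin 2) F → ℂ, Cfsg.IsIrrCharacter (Matrix.SpecialLinearGroup (Fin 2) F) χ₁ → Cfsg.IsIrrCharacter (Matrix.SpecialLinearGroup (Fin 2) F) χ₂ → χ₁ ≠ χ₂ →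
      χ₁ 1 = (((Fintype.card F - 1) / 2 : ℕ) : ℂ) → χ₂ 1 = (((Fintype.card F - 1) / 2 : ℕ) : ℂ) → χ₁ u + χ₂ u = -1) := by
  classical
  haveI : Fintype (Cfsg.IrrCharacter (GL (Fin 2) F)) := Fintype.ofFinite _
  haveI : Fintype (Cfsg.IrrCharacter (Matrix.SpecialLinearGroup (Fin 2) F)) := Fintype.ofFinite _
  haveI : Fintype (MulChar F ℂ) := Fintype.ofFinite _
  have hu' : u = uS 1 := by
    apply Subtype.ext
    rw [hu]
    rfl
  subst hu'
  obtain ⟨m, hm⟩ := hodd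
  have hm2 : 2 ≤ m := by omega
  have hdp : (Fintype.card F + 1) / 2 = m + 1 := by omega
  have hdm : (Fintype.card F - 1) / 2 = m := by omega
  have hodd : Odd (Fintype.card F) := ⟨m, hm⟩
  -- the value of the character above at the transvection
  have valp : ∀ η : Cfsg.IrrCharacter (GL (Fin 2) F),
      (η : GL (Fin 2) F → ℂ) 1 = ((2 * (m + 1) : ℕ) : ℂ) →
      resS (η : GL (Fin 2) F → ℂ) (uS 1) = 1 := by
    intro η h1
    have h2 : (η : GL (Fin 2) F → ℂ) 1 = ((1 : ℕ) : ℂ) * ((Fintype.card F : ℂ) + 1) := by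
      rw [h1, hm]; push_cast; ring
    obtain ⟨-, α, β, h, e⟩ := Cfsg.Agent.S2323.of_deg_mul_qp1 η 1 le_rfl h2
    rw [resS_apply, toGL_uS, e, glRirr_uG α β h 1 one_ne_zero]
  have valm : ∀ η : Cfsg.IrrCharacter (GL (Fin 2) F),
      (η : GL (Fin 2) F → ℂ) 1 = ((2 * m : ℕ) : ℂ) →
      resS (η : GL (Fin 2) F → ℂ) (uS 1) = -1 := by
    intro η h1
    have h2 : (η : GL (Fin 2) F → ℂ) 1 = ((1 : ℕ) : ℂ) * ((Fintype.card F : ℂ) - 1) := by
      rw [h1, hm]; push_cast; ring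
    obtain ⟨-, hmem⟩ := Cfsg.Agent.S2323.of_deg_mul_qm1 (by omega) η 1 le_rfl h2
    rw [resS_apply, toGL_uS]
    exact (glPsi_values _ hmem).2
  obtain ⟨-, hcount⟩ := Cfsg.Agent.S2299.result (F := F) hodd
  obtain ⟨-, -, -, -, cp, cm⟩ := hcount hq
  -- uniqueness of the companion
  have uniq : ∀ (dd : ℂ), Nat.card {χ : Cfsg.IrrCharacter (Matrix.SpecialLinearGroup (Fin 2) F) //
      (χ : Matrix.SpecialLinearGroup (Fin 2) F → ℂ) 1 = dd} = 2 →
      ∀ χ₁ χ₂ χ₃ : Matrix.SpecialLinearGroup (Fin 2) F → ℂ,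
      Cfsg.IsIrrCharacter (Matrix.SpecialLinearGroup (Fin 2) F) χ₁ →
      Cfsg.IsIrrCharacter (Matrix.SpecialLinearGroup (Fin 2) F) χ₂ →
      Cfsg.IsIrrCharacter (Matrix.SpecialLinearGroup (Fin 2) F) χ₃ →
      χ₁ 1 = dd → χ₂ 1 = dd → χ₃ 1 = dd → χ₁ ≠ χ₂ → χ₃ ≠ χ₁ → χ₂ = χ₃ := by
    intro dd hc χ₁ χ₂ χ₃ h1 h2 h3 d1 d2 d3 n12 n31
    by_contra n23
    rw [Nat.card_eq_fintype_card] at hc
    have : 2 < Fintype.card {χ : Cfsg.IrrCharacter (Matrix.SpecialLinearGroup (Fin 2) F) //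
        (χ : Matrix.SpecialLinearGroup (Fin 2) F → ℂ) 1 = dd} := by
      rw [Fintype.two_lt_card_iff]
      refine ⟨⟨⟨χ₁, h1⟩, d1⟩, ⟨⟨χ₂, h2⟩, d2⟩, ⟨⟨χ₃, h3⟩, d3⟩, ?_, ?_, ?_⟩
      · intro h
        apply n12
        exact congrArg (fun x => (x.1 : Matrix.SpecialLinearGroup (Fin 2) F → ℂ)) h
      · intro h
        apply n31
        exact (congrArg (fun x => (x.1 : Matrix.SpecialLinearGroup (Fin 2) F → ℂ)) h).symm
      · intro h
        apply n23
        exact congrArg (fun x => (x.1 : Matrix.SpecialLinearGroup (Fin 2) F → ℂ)) h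
    omega
  refine ⟨?_, ?_, ?_, ?_⟩
  · intro χ hχ hdeg
    rw [hdp] at hdeg
    obtain ⟨η, χ', hχ', hne, hd1, hres, hη1, hsq⟩ :=
      aux0 hodd hq χ hχ (m + 1) hdeg (Or.inl (by omega))
    have hv := valp η hη1
    rw [hres] at hv
    change χ (uS 1) + χ' (uS 1) = 1 at hv
    rw [← hsq]
    congr 1
    linear_combination hv
  · intro χ hχ hdeg
    rw [hdm] at hdeg
    obtain ⟨η, χ', hχ', hne, hd1, hres, hη1, hsq⟩ :=
      aux0 hodd hq χ hχ m hdeg (Or.inr (by omega))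
    have hv := valm η hη1
    rw [hres] at hv
    change χ (uS 1) + χ' (uS 1) = -1 at hv
    rw [← hsq]
    congr 1
    linear_combination hv
  · intro χ₁ χ₂ h1 h2 hne d1 d2
    have d1' := d1
    rw [hdp] at d1'
    obtain ⟨η, χ', hχ', hne', hd1, hres, hη1, hsq⟩ :=
      aux0 hodd hq χ₁ h1 (m + 1) d1' (Or.inl (by omega))
    have hv := valp η hη1
    rw [hres] at hv
    change χ₁ (uS 1) + χ' (uS 1) = 1 at hv
    have e : χ₂ = χ' := uniq _ cp χ₁ χ₂ χ' h1 h2 hχ' d1 d2 (hd1.trans d1) hne hne'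
    rw [e]
    exact hv
  · intro χ₁ χ₂ h1 h2 hne d1 d2
    have d1' := d1
    rw [hdm] at d1'
    obtain ⟨η, χ', hχ', hne', hd1, hres, hη1, hsq⟩ :=
      aux0 hodd hq χ₁ h1 m d1' (Or.inr (by omega))
    have hv := valm η hη1
    rw [hres] at hv
    change χ₁ (uS 1) + χ' (uS 1) = -1 at hv
    have e : χ₂ = χ' := uniq _ cm χ₁ χ₂ χ' h1 h2 hχ' d1 d2 (hd1.trans d1) hne hne'
    rw [e]
    exact hv

end Cfsg.Agent.S2324
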