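import Cfsg.Statements.S2328
import Cfsg.Agent.Lib.helper8.ChevBNAll2
import Cfsg.Agent.Lib.helper8.ChevOrdAll
import Cfsg.Agent.Lib.helper8.ChevPosLen
import Cfsg.Agent.Lib.helper14.StVanish

set_option autoImplicit false
open Cfsg

namespace Cfsg.Agent.S2328

/-- In a Chevalley group of type G₂, B₂, D₄, F₄, E₆, E₇ or E₈ over a finite field of characteristic p, the Steinberg character vanishes at every element whose order is divisible by p (every element that is not semisimple). -/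
theorem result {F : Type*} [Field F] [Fintype F] (p : ℕ) [Fact p.Prime] [CharP F p] (D : Cfsg.Lie.ChevalleyDatum) (hD : D ∈ [Cfsg.Lie.chevG2, Cfsg.Lie.chevB2, Cfsg.Lie.chevD4, Cfsg.Lie.chevF4, Cfsg.Lie.chevE6, Cfsg.Lie.chevE7, Cfsg.Lie.chevE8]) (g : ↥(D.group F)) (hg : p ∣ orderOf g) :
    D.steinbergCharacter F g = 0 := by
  classical
  haveI : Fintype ↥(D.group F) := Fintype.ofFinite _
  have hB := Cfsg.Agent.Lib.helper8.h8base_all D hD
  have hA := Cfsg.Agent.Lib.helper8.h8reflAll D hD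
  have hC := Cfsg.Agent.Lib.helper8.h8commAll D hD
  have hBN := Cfsg.Agent.Lib.helper8.h8bn_all D hD
  have hW := Cfsg.Agent.Lib.helper8.h8bn2_all D hD
  have hO := Cfsg.Agent.Lib.helper8.h8ord_all D hD
  have hlen := Cfsg.Agent.Lib.helper8.h8posLen_all D hD
  have hirr := Cfsg.Agent.Lib.helper14.st_chev_irr (F := F) D hB hA hC hBN hW hO.1 hO.2 hlen
  have hdeg := Cfsg.Agent.Lib.helper14.st_chev_deg (F := F) D hB hA hC hBN hW hO.1 hO.2 hlen
  have hcd : Cfsg.charDegree (D.steinbergCharacter F) = Fintype.card F ^ (D.nroots / 2) := by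
    unfold Cfsg.charDegree
    rw [hdeg]
    have e : ((Fintype.card F : ℂ) ^ (D.nroots / 2)) =
        ((Fintype.card F ^ (D.nroots / 2) : ℕ) : ℂ) := by
      push_cast
      rfl
    rw [e, Complex.natCast_re, Nat.floor_natCast]
  have hdiv := Cfsg.Agent.Lib.helper14.chev_ppart_dvd (F := F) p D hD
  rw [← hcd] at hdiv
  exact Cfsg.Agent.Lib.Helper24.fz_vanish (⟨D.steinbergCharacter F, hirr⟩ : Cfsg.IrrCharacter ↥(D.group F))
    p Fact.out hdiv g hg

end Cfsg.Agent.S2328
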