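import Cfsg.Statements.S2329

set_option autoImplicit false
open Cfsg

namespace Cfsg.Agent.S2329

theorem nilp_sq {F : Type*} [Field F] (N : Matrix (Fin 2) (Fin 2) F)
    (hN : IsNilpotent N) : N ^ 2 = 0 := by
  have h1 : IsNilpotent (N.charpoly - Polynomial.X ^ (Fintype.card (Fin 2))) :=
    Matrix.isNilpotent_charpoly_sub_pow_of_isNilpotent hN
  have h2 : N.charpoly - Polynomial.X ^ (Fintype.card (Fin 2)) = 0 := h1.eq_zero
  have h3 : N.charpoly = Polynomial.X ^ 2 := by
    have := sub_eq_zero.mp h2
    simpa using this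
  have h4 := Matrix.aeval_self_charpoly N
  rw [h3] at h4
  simpa using h4

def Jmat (F : Type*) [Field F] : Matrix.GeneralLinearGroup (Fin 2) F :=
  Matrix.GeneralLinearGroup.mkOfDetNeZero !![1, 1; 0, 1] (by simp [Matrix.det_fin_two])

theorem conj_J {F : Type*} [Field F] [Fintype F] (p : ℕ) [Fact p.Prime] [CharP F p]
    (g : Matrix.GeneralLinearGroup (Fin 2) F) (hg : orderOf g = p) : IsConj (Jmat F) g := by
  have hp : p.Prime := Fact.out
  have hchar : CharP (Matrix (Fin 2) (Fin 2) F) p := inferInstance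
  set M : Matrix (Fin 2) (Fin 2) F := (g : Matrix (Fin 2) (Fin 2) F) with hM
  have hgp : g ^ p = 1 := by rw [← hg]; exact pow_orderOf_eq_one g
  have hMp : M ^ p = 1 := by
    have := congrArg (fun x : Matrix.GeneralLinearGroup (Fin 2) F => (x : Matrix (Fin 2) (Fin 2) F)) hgp
    simpa using this
  have hnil : IsNilpotent (M - 1) := by
    refine ⟨p, ?_⟩
    rw [sub_pow_char_of_commute (R := Matrix (Fin 2) (Fin 2) F) (p := p) (Commute.one_right M), hMp, one_pow, sub_self]
  have hsq : (M - 1) ^ 2 = 0 := nilp_sq _ hnil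
  have hg1 : g ≠ 1 := by
    intro h
    rw [h, orderOf_one] at hg
    exact hp.one_lt.ne hg
  have hM1 : M ≠ 1 := by
    intro h
    apply hg1
    exact Units.ext h
  set a := M 0 0 with ha
  set b := M 0 1 with hb
  set c := M 1 0 with hc
  set d := M 1 1 with hd
  have hMeta : M = !![a, b; c, d] := Matrix.eta_fin_two M
  have e00 : (a - 1) * (a - 1) + b * c = 0 := by
    have := congrFun (congrFun hsq 0) 0
    rw [hMeta] at this
    simpa [pow_two, Matrix.mul_apply, Fin.sum_univ_two, Matrix.sub_apply] using this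
  have e01 : (a - 1) * b + b * (d - 1) = 0 := by
    have := congrFun (congrFun hsq 0) 1
    rw [hMeta] at this
    simpa [pow_two, Matrix.mul_apply, Fin.sum_univ_two, Matrix.sub_apply] using this
  have e10 : c * (a - 1) + (d - 1) * c = 0 := by
    have := congrFun (congrFun hsq 1) 0
    rw [hMeta] at this
    simpa [pow_two, Matrix.mul_apply, Fin.sum_univ_two, Matrix.sub_apply] using this
  have e11 : c * b + (d - 1) * (d - 1) = 0 := by
    have := congrFun (congrFun hsq 1) 1
    rw [hMeta] at this
    simpa [pow_two, Matrix.mul_apply, Fin.sum_univ_two, Matrix.sub_apply] using this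
  rw [isConj_iff]
  by_cases hc0 : c = 0
  · have ha1 : a = 1 := by
      rw [hc0, mul_zero, add_zero] at e00
      have := mul_self_eq_zero.mp e00
      exact sub_eq_zero.mp this
    have hd1 : d = 1 := by
      rw [hc0, zero_mul, zero_add] at e11
      have := mul_self_eq_zero.mp e11
      exact sub_eq_zero.mp this
    have hb0 : b ≠ 0 := by
      intro hb0
      apply hM1
      rw [hMeta, ha1, hd1, hb0, hc0]
      exact Matrix.one_fin_two.symm
    let P : Matrix.GeneralLinearGroup (Fin 2) F :=
      Matrix.GeneralLinearGroup.mkOfDetNeZero !![b, 0; 0, 1] (by simpa [Matrix.det_fin_two] using hb0)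
    refine ⟨P, ?_⟩
    rw [mul_inv_eq_iff_eq_mul]
    apply Units.ext
    show (!![b, 0; 0, 1] : Matrix (Fin 2) (Fin 2) F) * !![1, 1; 0, 1] = M * !![b, 0; 0, 1]
    rw [hMeta, ha1, hd1, hc0]
    ext i j
    fin_cases i <;> fin_cases j <;> simp [Matrix.mul_apply, Fin.sum_univ_two]
  · have htr : a + d = 2 := by
      have : c * (a + d - 2) = 0 := by linear_combination e10
      rcases mul_eq_zero.mp this with h | h
      · exact absurd h hc0
      · linear_combination h
    let P : Matrix.GeneralLinearGroup (Fin 2) F :=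
      Matrix.GeneralLinearGroup.mkOfDetNeZero !![a - 1, 1; c, 0] (by simpa [Matrix.det_fin_two] using hc0)
    refine ⟨P, ?_⟩
    rw [mul_inv_eq_iff_eq_mul]
    apply Units.ext
    show (!![a - 1, 1; c, 0] : Matrix (Fin 2) (Fin 2) F) * !![1, 1; 0, 1] = M * !![a - 1, 1; c, 0]
    rw [hMeta]
    ext i j
    fin_cases i <;> fin_cases j <;> simp [Matrix.mul_apply, Fin.sum_univ_two]
    · linear_combination (-1 : F) * e00
    · linear_combination (-c) * htr

theorem result {F : Type*} [Field F] [Fintype F] (p : ℕ) [Fact p.Prime] [CharP F p] (g h : Matrix.GeneralLinearGroup (Fin 2) F)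
    (hg : orderOf g = p) (hh : orderOf h = p) : IsConj g h :=
  (conj_J p g hg).symm.trans (conj_J p h hh)

end Cfsg.Agent.S2329
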