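import Cfsg.Statements.S2330
import Cfsg.Agent.Lib.helper14.Mat2

set_option autoImplicit false
open Cfsg

namespace Cfsg.Agent.S2330

open Cfsg.Agent.Lib.helper14

section
variable {F : Type*} [Field F]

theorem coe_mk (A : Matrix (Fin 2) (Fin 2) F) (h : A.det ≠ 0) :
    ((Matrix.GeneralLinearGroup.mkOfDetNeZero A h : GL (Fin 2) F) : Matrix (Fin 2) (Fin 2) F) = A := rfl

theorem scalar_entry_ne_zero (g : GL (Fin 2) F) (h : IsScalar2 (g : Matrix (Fin 2) (Fin 2) F)) :
    (g : Matrix (Fin 2) (Fin 2) F) 0 0 ≠ 0 := by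
  intro h0
  apply gl2_det_ne_zero g
  rw [Matrix.det_fin_two, h.1, h.2.1, ← h.2.2, h0]; ring

open Classical in
/-- the class invariant -/
noncomputable def inv2 (g : GL (Fin 2) F) : Fˣ ⊕ (F × Fˣ) :=
  if h : IsScalar2 (g : Matrix (Fin 2) (Fin 2) F) then
      Sum.inl (Units.mk0 ((g : Matrix (Fin 2) (Fin 2) F) 0 0) (scalar_entry_ne_zero g h))
    else Sum.inr ((g : Matrix (Fin 2) (Fin 2) F).trace, Units.mk0 _ (gl2_det_ne_zero g))

theorem conj_scalar (g c : GL (Fin 2) F) (h : IsScalar2 (g : Matrix (Fin 2) (Fin 2) F)) :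
    c * g * c⁻¹ = g := by
  apply Units.ext
  have := isScalar2_conj (g : Matrix (Fin 2) (Fin 2) F) (c : Matrix (Fin 2) (Fin 2) F)
    ((c⁻¹ : GL (Fin 2) F) : Matrix (Fin 2) (Fin 2) F) (by
      have := congrArg (fun x : GL (Fin 2) F => (x : Matrix (Fin 2) (Fin 2) F)) (mul_inv_cancel c)
      simpa using this) h
  simpa using this

theorem inv2_conj (g c : GL (Fin 2) F) : inv2 (c * g * c⁻¹) = inv2 g := by
  by_cases h : IsScalar2 (g : Matrix (Fin 2) (Fin 2) F)
  · rw [conj_scalar g c h]
  · have h' : ¬ IsScalar2 ((c * g * c⁻¹ : GL (Fin 2) F) : Matrix (Fin 2) (Fin 2) F) := by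
      intro h'
      apply h
      have := conj_scalar (c * g * c⁻¹) c⁻¹ h'
      have e : c⁻¹ * (c * g * c⁻¹) * c⁻¹⁻¹ = g := by group
      rw [e] at this
      rw [this]
      exact h'
    unfold inv2
    rw [dif_neg h, dif_neg h']
    congr 1
    apply Prod.ext
    · show ((c * g * c⁻¹ : GL (Fin 2) F) : Matrix (Fin 2) (Fin 2) F).trace = (g : Matrix (Fin 2) (Fin 2) F).trace
      have := Matrix.trace_units_conj c (g : Matrix (Fin 2) (Fin 2) F)
      simpa using this
    · apply Units.ext
      show ((c * g * c⁻¹ : GL (Fin 2) F) : Matrix (Fin 2) (Fin 2) F).det = (g : Matrix (Fin 2) (Fin 2) F).det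
      have := Matrix.det_units_conj c (g : Matrix (Fin 2) (Fin 2) F)
      simpa using this

theorem inv2_eq_iff (g h : GL (Fin 2) F) : inv2 g = inv2 h ↔ IsConj g h := by
  constructor
  · intro e
    by_cases hg : IsScalar2 (g : Matrix (Fin 2) (Fin 2) F)
    · by_cases hh : IsScalar2 (h : Matrix (Fin 2) (Fin 2) F)
      · unfold inv2 at e
        rw [dif_pos hg, dif_pos hh] at e
        have e' : (g : Matrix (Fin 2) (Fin 2) F) 0 0 = (h : Matrix (Fin 2) (Fin 2) F) 0 0 := by
          have := Sum.inl.inj e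
          exact congrArg Units.val this
        have : g = h := by
          apply Units.ext
          rw [(isScalar2_iff _).mp hg, (isScalar2_iff _).mp hh, e']
        rw [this]
      · unfold inv2 at e
        rw [dif_pos hg, dif_neg hh] at e
        exact absurd e (by simp)
    · by_cases hh : IsScalar2 (h : Matrix (Fin 2) (Fin 2) F)
      · unfold inv2 at e
        rw [dif_neg hg, dif_pos hh] at e
        exact absurd e (by simp)
      · unfold inv2 at e
        rw [dif_neg hg, dif_neg hh] at e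
        have e' := Sum.inr.inj e
        have e1 : (g : Matrix (Fin 2) (Fin 2) F).trace = (h : Matrix (Fin 2) (Fin 2) F).trace := congrArg Prod.fst e'
        have e2 : (g : Matrix (Fin 2) (Fin 2) F).det = (h : Matrix (Fin 2) (Fin 2) F).det :=
          congrArg Units.val (congrArg Prod.snd e')
        exact gl2_isConj_of_trace_det g h hg hh e1 e2
  · intro hc
    obtain ⟨c, hc⟩ := isConj_iff.mp hc
    rw [← hc, inv2_conj]

theorem inv2_surj : Function.Surjective (inv2 (F := F)) := by
  intro x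
  rcases x with a | ⟨t, δ⟩
  · refine ⟨Matrix.GeneralLinearGroup.mkOfDetNeZero !![(a : F), 0; 0, (a : F)] (by
      rw [Matrix.det_fin_two_of]; simp), ?_⟩
    have hs : IsScalar2 ((Matrix.GeneralLinearGroup.mkOfDetNeZero !![(a : F), 0; 0, (a : F)] (by
      rw [Matrix.det_fin_two_of]; simp) : GL (Fin 2) F) : Matrix (Fin 2) (Fin 2) F) := by
      refine ⟨?_, ?_, ?_⟩ <;> simp [coe_mk]
    unfold inv2
    rw [dif_pos hs]
    congr 1
    apply Units.ext
    simp [coe_mk]
  · have hd : (compMat t (δ : F)).det ≠ 0 := by rw [compMat_det]; exact δ.ne_zero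
    refine ⟨Matrix.GeneralLinearGroup.mkOfDetNeZero (compMat t (δ : F)) hd, ?_⟩
    have hs : ¬ IsScalar2 ((Matrix.GeneralLinearGroup.mkOfDetNeZero (compMat t (δ : F)) hd : GL (Fin 2) F) : Matrix (Fin 2) (Fin 2) F) :=
      compMat_not_scalar t δ
    unfold inv2
    rw [dif_neg hs]
    congr 1
    apply Prod.ext
    · exact compMat_trace t δ
    · apply Units.ext
      exact compMat_det t δ

noncomputable def classEquiv : ConjClasses (GL (Fin 2) F) ≃ Fˣ ⊕ (F × Fˣ) :=
  Equiv.ofBijective
    (Quotient.lift (s := IsConj.setoid (GL (Fin 2) F)) inv2 (fun a b hab => (inv2_eq_iff a b).mpr hab))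
    ⟨by
      intro x y
      induction x using Quotient.inductionOn
      induction y using Quotient.inductionOn
      intro h
      apply Quotient.sound
      exact (inv2_eq_iff _ _).mp h,
     by
      intro y
      obtain ⟨g, hg⟩ := inv2_surj y
      exact ⟨Quotient.mk _ g, hg⟩⟩

end

theorem result {F : Type*} [Field F] [Fintype F] :
    Nat.card (ConjClasses (Matrix.GeneralLinearGroup (Fin 2) F)) = Fintype.card F ^ 2 - 1 := by
  classical
  rw [Nat.card_congr classEquiv, Nat.card_eq_fintype_card, Fintype.card_sum, Fintype.card_prod, Fintype.card_units]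
  have hq : 1 ≤ Fintype.card F := Fintype.card_pos
  obtain ⟨k, hk⟩ := Nat.exists_eq_add_of_le hq
  rw [hk]
  have : (1 + k) ^ 2 - 1 = k + (1 + k) * k := by
    have : (1 + k) ^ 2 = k + (1 + k) * k + 1 := by ring
    rw [this]; rfl
  rw [this]
  simp

end Cfsg.Agent.S2330
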