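import Cfsg.Statements.S2333
import Cfsg.Agent.Lib.Helper18.SpE.Final

set_option autoImplicit false
open Cfsg

namespace Cfsg.Agent.S2333

theorem result {F : Type*} [Field F] [Fintype F] [DecidableEq F] (n : ℕ) (hn : 2 ≤ n) (heven : Even (Fintype.card F)) (hex : (n, Fintype.card F) ≠ (2, 2)) :
    (∀ (k : ℕ) (ρ : Representation ℂ (Matrix.symplecticGroup (Fin n) F) (Fin k → ℂ)), ρ.IsIrreducible → 2 ≤ k → (Fintype.card F ^ n - 1) * (Fintype.card F ^ n - Fintype.card F) / (2 * (Fintype.card F + 1)) ≤ k) := by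
  intro k ρ hirr hk
  apply Nat.div_le_of_le_mul
  exact Cfsg.Agent.Lib.Helper18.SpE.main n hn heven hex k ρ hirr hk

end Cfsg.Agent.S2333
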