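import Cfsg.Statements.S2336
import Cfsg.Agent.Lib.helper14.SLnVec3
import Cfsg.Agent.Lib.helper2.CharInd
import Cfsg.Agent.Lib.Helper25.CharLinear
-- import your own Cfsg.Agent.* helpers here

set_option autoImplicit false
open Cfsg

namespace Cfsg.Agent.S2336

open Cfsg.Agent.Lib.helper14.SLnVec Cfsg.Agent.Lib.helper6.PermChar MulAction

/-- a multiplicity-free permutation character of rank `r` is the sum of the principal character
and `r - 1` distinct irreducible characters -/
theorem multfree_decomp {G : Type*} [Group G] [Fintype G] {Ω : Type*} [Fintype Ω] [DecidableEq Ω]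
    [MulAction G Ω] [IsPretransitive G Ω] (a : Ω) (r : ℕ)
    (hr : Nat.card (orbitRel.Quotient (stabilizer G a) Ω) = r)
    (hmf : ∀ χ : G → ℂ, Cfsg.IsIrrCharacter G χ →
      Cfsg.classInner (piChar G Ω) χ = 0 ∨ Cfsg.classInner (piChar G Ω) χ = 1) :
    ∃ χ : Fin (r - 1) → (G → ℂ), (∀ i, Cfsg.IsIrrCharacter G (χ i)) ∧ Function.Injective χ ∧
      ∀ g : G, piChar G Ω g = 1 + ∑ i, χ i g := by
  classical
  haveI : Fintype (Cfsg.IrrCharacter G) := Fintype.ofFinite _
  obtain ⟨m, hm, hexp⟩ :=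
    Cfsg.Agent.Lib.helper2.isCharacter_expansion (piChar_isCharacter (G := G) (Ω := Ω))
  have hm01 : ∀ χ : Cfsg.IrrCharacter G, m χ = 0 ∨ m χ = 1 := by
    intro χ
    rcases hmf χ.1 χ.2 with h | h
    · left
      rw [hm χ] at h
      exact_mod_cast h
    · right
      rw [hm χ] at h
      exact_mod_cast h
  -- the norm
  have hnorm : (∑ χ : Cfsg.IrrCharacter G, m χ) = r := by
    have h1 := inner_pi_pi (G := G) (Ω := Ω) a
    rw [hr] at h1
    have h2 : Cfsg.classInner (piChar G Ω) (piChar G Ω) =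
        ∑ χ : Cfsg.IrrCharacter G, (m χ : ℂ) * (m χ : ℂ) := by
      conv_lhs => arg 1; rw [hexp]
      rw [Cfsg.Agent.Lib.Helper25.classInner_sum_left]
      apply Finset.sum_congr rfl
      intro χ _
      rw [Cfsg.Agent.Lib.Helper25.classInner_smul_left,
        Cfsg.Agent.Lib.helper2.classInner_symm_of_nat _ _ (m χ) (hm χ)]
    rw [h2] at h1
    have h3 : ∀ χ : Cfsg.IrrCharacter G, (m χ : ℂ) * (m χ : ℂ) = ((m χ : ℕ) : ℂ) := by
      intro χ
      rcases hm01 χ with h | h <;> rw [h] <;> simp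
    rw [Finset.sum_congr rfl (fun χ _ => h3 χ), ← Nat.cast_sum] at h1
    exact_mod_cast h1
  -- the trivial character
  have htriv : m (Cfsg.Agent.Lib.Helper25.trivIrr G) = 1 := by
    have h1 := inner_pi_triv (G := G) (Ω := Ω) a
    have h2 := hm (Cfsg.Agent.Lib.Helper25.trivIrr G)
    have h3 : ((Cfsg.Agent.Lib.Helper25.trivIrr G : Cfsg.IrrCharacter G) : G → ℂ) =
        fun _ => (1 : ℂ) := rfl
    rw [h3, h1] at h2
    exact_mod_cast h2.symm
  -- the constituents other than the trivial one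
  obtain ⟨C, hC⟩ : ∃ C : Finset (Cfsg.IrrCharacter G),
      C = (Finset.univ.filter (fun χ : Cfsg.IrrCharacter G => m χ = 1)).erase
        (Cfsg.Agent.Lib.Helper25.trivIrr G) := ⟨_, rfl⟩
  have hsum_filter : (∑ χ : Cfsg.IrrCharacter G, m χ) =
      (Finset.univ.filter (fun χ : Cfsg.IrrCharacter G => m χ = 1)).card := by
    rw [Finset.card_filter]
    apply Finset.sum_congr rfl
    intro χ _
    rcases hm01 χ with h | h <;> rw [h] <;> simp
  have hcardC : C.card = r - 1 := by
    rw [hC, Finset.card_erase_of_mem (by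
      rw [Finset.mem_filter]; exact ⟨Finset.mem_univ _, htriv⟩), ← hsum_filter, hnorm]
  obtain ⟨e⟩ : Nonempty (Fin (r - 1) ≃ C) := by
    have : Fintype.card C = r - 1 := by rw [Fintype.card_coe, hcardC]
    exact ⟨(Fintype.equivFinOfCardEq this).symm⟩
  refine ⟨fun i => ((e i : C) : Cfsg.IrrCharacter G).1, fun i => ((e i : C) : Cfsg.IrrCharacter G).2,
    ?_, ?_⟩
  · intro i j h
    exact e.injective (Subtype.ext (Subtype.ext h))
  · intro g
    have h1 : piChar G Ω g = ∑ χ : Cfsg.IrrCharacter G, (m χ : ℂ) * (χ : G → ℂ) g := by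
      conv_lhs => rw [hexp]
      rw [Finset.sum_apply]
      rfl
    have h2 : ∑ χ : Cfsg.IrrCharacter G, (m χ : ℂ) * (χ : G → ℂ) g =
        ∑ χ ∈ Finset.univ.filter (fun χ : Cfsg.IrrCharacter G => m χ = 1), (χ : G → ℂ) g := by
      rw [Finset.sum_filter]
      apply Finset.sum_congr rfl
      intro χ _
      rcases hm01 χ with h | h <;> rw [h] <;> simp
    have h3 : ∑ χ ∈ Finset.univ.filter (fun χ : Cfsg.IrrCharacter G => m χ = 1), (χ : G → ℂ) g =
        ((Cfsg.Agent.Lib.Helper25.trivIrr G : Cfsg.IrrCharacter G) : G → ℂ) g +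
          ∑ χ ∈ C, (χ : G → ℂ) g := by
      rw [hC]
      have hmem : Cfsg.Agent.Lib.Helper25.trivIrr G ∈
          Finset.univ.filter (fun χ : Cfsg.IrrCharacter G => m χ = 1) := by
        rw [Finset.mem_filter]; exact ⟨Finset.mem_univ _, htriv⟩
      exact (Finset.add_sum_erase (Finset.univ.filter (fun χ : Cfsg.IrrCharacter G => m χ = 1))
        (fun χ : Cfsg.IrrCharacter G => (χ : G → ℂ) g) hmem).symm
    rw [h1, h2, h3, Cfsg.Agent.Lib.Helper25.trivIrr_apply]
    congr 1
    rw [← Finset.sum_coe_sort C]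
    exact (Equiv.sum_comp e (fun χ : C => ((χ : Cfsg.IrrCharacter G) : G → ℂ) g)).symm

/-- Let F be a finite field with q elements and n ≥ 3. The permutation character of SL_n(F) on the non-zero vectors of F^n (the function sending a matrix to the number of non-zero vectors it fixes) is the sum of the principal character and q − 1 pairwise distinct irreducible complex characters. -/
theorem result {F : Type*} [Field F] [Fintype F] [DecidableEq F] (n : ℕ) (hn : 3 ≤ n) :
    ∃ χ : Fin (Fintype.card F - 1) → (Matrix.SpecialLinearGroup (Fin n) F → ℂ),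
      (∀ i, Cfsg.IsIrrCharacter (Matrix.SpecialLinearGroup (Fin n) F) (χ i)) ∧ Function.Injective χ ∧
      ∀ g : Matrix.SpecialLinearGroup (Fin n) F,
        (Nat.card {v : Fin n → F // v ≠ 0 ∧ (g : Matrix (Fin n) (Fin n) F).mulVec v = v} : ℂ) = 1 + ∑ i, χ i g := by
  haveI := pretransitive (F := F) hn
  obtain ⟨a⟩ : Nonempty (NZ n F) := by
    obtain ⟨x, hx⟩ := exists_notMem_span_pair (F := F) hn (0 : Fin n → F) 0
    refine ⟨⟨x, ?_⟩⟩
    intro h
    apply hx
    rw [h]
    exact Submodule.zero_mem _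
  have hmf : ∀ χ : Matrix.SpecialLinearGroup (Fin n) F → ℂ,
      Cfsg.IsIrrCharacter (Matrix.SpecialLinearGroup (Fin n) F) χ →
      Cfsg.classInner (piChar (Matrix.SpecialLinearGroup (Fin n) F) (NZ n F)) χ = 0 ∨
        Cfsg.classInner (piChar (Matrix.SpecialLinearGroup (Fin n) F) (NZ n F)) χ = 1 := by
    intro χ hχ
    apply multfree_of_commutant_comm _ χ hχ
    intro S T hS hT
    apply LinearMap.toMatrix'.injective
    rw [LinearMap.toMatrix'_mul, LinearMap.toMatrix'_mul]
    exact invariant_commute hn _ _ (fun g x y => matrix_invariant S hS g x y)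
      (fun g x y => matrix_invariant T hT g x y)
  obtain ⟨χ, hirr, hinj, hval⟩ := multfree_decomp (G := Matrix.SpecialLinearGroup (Fin n) F)
    (Ω := NZ n F) a (Fintype.card F) (card_suborbits hn a) hmf
  refine ⟨χ, hirr, hinj, ?_⟩
  intro g
  rw [← hval g]
  unfold piChar
  congr 1
  apply Nat.card_congr
  exact
    { toFun := fun v => ⟨⟨v.1, v.2.1⟩, NZ.ext v.2.2⟩
      invFun := fun w => ⟨w.1.1, w.1.2, congrArg Subtype.val w.2⟩
      left_inv := fun v => rfl
      right_inv := fun w => rfl }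

end Cfsg.Agent.S2336
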