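import Mathlib
import Cfsg.Statements.S2337
import Cfsg.Agent.Lib.helper3.SuzukiRepB

set_option autoImplicit false
open Cfsg

namespace Cfsg.Agent.S2337

/-- For the Suzuki group Sz(q), q = 2^(2m+1) with m ≥ 1 (realised inside Sp₄ over the field with q elements), every irreducible complex representation of degree at least 2 has degree at least 2^m·(q − 1). -/
theorem result {F : Type*} [Field F] [Fintype F] (m : ℕ) (hm : 1 ≤ m) (hF : Fintype.card F = 2 ^ (2 * m + 1)) :
    (∀ (k : ℕ) (ρ : Representation ℂ (Cfsg.Lie.Sz F (2 ^ (m + 1))) (Fin k → ℂ)), ρ.IsIrreducible → 2 ≤ k → 2 ^ m * (2 ^ (2 * m + 1) - 1) ≤ k) := by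
  intro k ρ hirr hk
  obtain ⟨φ, hφ⟩ : ∃ φ : Cfsg.Sz F m ≃* Cfsg.Lie.Sz F (2 ^ (m + 1)),
      φ = Cfsg.Agent.Lib.helper3.szLieEquiv hF hm := ⟨_, rfl⟩
  have hne : ∃ g : Cfsg.Sz F m, (ρ.comp φ.toMonoidHom) g ≠ 1 := by
    by_contra hcon
    push Not at hcon
    have hall : ∀ g, ρ g = 1 := by
      intro g
      have := hcon (φ.symm g)
      simpa using this
    obtain ⟨L, hL⟩ : ∃ L : Subrepresentation ρ, L.toSubmodule =
        Submodule.span ℂ {Pi.single (⟨0, by omega⟩ : Fin k) (1 : ℂ)} :=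
      ⟨⟨Submodule.span ℂ {Pi.single (⟨0, by omega⟩ : Fin k) (1 : ℂ)}, by
        intro g v hv
        rw [hall g]
        exact hv⟩, rfl⟩
    rcases eq_bot_or_eq_top L with h | h
    · have h1 : Pi.single (⟨0, by omega⟩ : Fin k) (1 : ℂ) ∈ L.toSubmodule := by
        rw [hL]
        exact Submodule.subset_span rfl
      rw [h] at h1
      have h2 : (Pi.single (⟨0, by omega⟩ : Fin k) (1 : ℂ) : Fin k → ℂ) = 0 :=
        (Submodule.mem_bot ℂ).1 h1
      have h3 := congrFun h2 ⟨0, by omega⟩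
      simp at h3
    · have h1 : Pi.single (⟨1, by omega⟩ : Fin k) (1 : ℂ) ∈ L.toSubmodule := by
        rw [h]
        trivial
      rw [hL, Submodule.mem_span_singleton] at h1
      obtain ⟨c, hc⟩ := h1
      have h3 := congrFun hc ⟨1, by omega⟩
      simp [Fin.ext_iff] at h3
  have := Cfsg.Agent.Lib.helper3.sz_rep_degree hF hm (ρ.comp φ.toMonoidHom) hne
  rwa [Module.finrank_fin_fun] at this

end Cfsg.Agent.S2337
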