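import Cfsg.Statements.S2352

set_option autoImplicit false
open Cfsg

namespace Cfsg.Agent.S2352

open Equiv

theorem exists_perm_of_rel {α : Type*} [Fintype α] (R : α → α → Prop)
    (h1 : ∀ a b b', R a b → R a b' → b = b') (h2 : ∀ a a' b, R a b → R a' b → a = a') :
    ∃ σ : Perm α, ∀ a b, R a b → σ a = b := by
  classical
  let p : α → Prop := fun a => ∃ b, R a b
  let q : α → Prop := fun b => ∃ a, R a b
  let e : {x // p x} ≃ {x // q x} := Equiv.ofBijective
    (fun a => ⟨Classical.choose a.2, ⟨a.1, Classical.choose_spec a.2⟩⟩)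
    ⟨by
      intro a a' h
      have h' : Classical.choose a.2 = Classical.choose a'.2 := congrArg Subtype.val h
      apply Subtype.ext
      have s1 := Classical.choose_spec a.2
      have s2 := Classical.choose_spec a'.2
      rw [h'] at s1
      exact h2 _ _ _ s1 s2,
     by
      rintro ⟨b, a, hab⟩
      refine ⟨⟨a, b, hab⟩, ?_⟩
      apply Subtype.ext
      exact h1 _ _ _ (Classical.choose_spec (⟨b, hab⟩ : p a)) hab⟩
  refine ⟨e.extendSubtype, ?_⟩
  intro a b hab
  rw [Equiv.extendSubtype_apply_of_mem e a ⟨b, hab⟩]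
  exact h1 _ _ _ (Classical.choose_spec (⟨b, hab⟩ : p a)) hab

def Rel (L : List (ℕ × Bool)) (i : ℕ) (a b : Fin (L.length + 1)) : Prop :=
  ∃ (j : ℕ) (hj : j < L.length),
    (L[j] = (i, true) ∧ a.val = j + 1 ∧ b.val = j) ∨ (L[j] = (i, false) ∧ a.val = j ∧ b.val = j + 1)

theorem red_contra (L : List (ℕ × Bool)) (hL : FreeGroup.IsReduced L) (i : ℕ) (j : ℕ) (hj : j + 1 < L.length)
    (b b' : Bool) (h1 : L[j] = (i, b)) (h2 : L[j + 1] = (i, b')) : b = b' := by
  have := (List.isChain_iff_getElem.mp hL) j hj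
  rw [h1, h2] at this
  exact this rfl

theorem rel_fun (L : List (ℕ × Bool)) (hL : FreeGroup.IsReduced L) (i : ℕ) (a b b' : Fin (L.length + 1))
    (h : Rel L i a b) (h' : Rel L i a b') : b = b' := by
  obtain ⟨j, hj, h⟩ := h
  obtain ⟨j', hj', h'⟩ := h'
  rcases h with ⟨e1, e2, e3⟩ | ⟨e1, e2, e3⟩ <;> rcases h' with ⟨e1', e2', e3'⟩ | ⟨e1', e2', e3'⟩
  · apply Fin.ext; omega
  · exfalso
    have hjj : j' = j + 1 := by omega
    subst hjj
    exact Bool.noConfusion (red_contra L hL i j hj' _ _ e1 e1')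
  · exfalso
    have hjj : j = j' + 1 := by omega
    subst hjj
    exact Bool.noConfusion (red_contra L hL i j' hj _ _ e1' e1)
  · apply Fin.ext; omega

theorem rel_inj (L : List (ℕ × Bool)) (hL : FreeGroup.IsReduced L) (i : ℕ) (a a' b : Fin (L.length + 1))
    (h : Rel L i a b) (h' : Rel L i a' b) : a = a' := by
  obtain ⟨j, hj, h⟩ := h
  obtain ⟨j', hj', h'⟩ := h'
  rcases h with ⟨e1, e2, e3⟩ | ⟨e1, e2, e3⟩ <;> rcases h' with ⟨e1', e2', e3'⟩ | ⟨e1', e2', e3'⟩
  · apply Fin.ext; omega
  · exfalso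
    have hjj : j = j' + 1 := by omega
    subst hjj
    exact Bool.noConfusion (red_contra L hL i j' hj _ _ e1' e1)
  · exfalso
    have hjj : j' = j + 1 := by omega
    subst hjj
    exact Bool.noConfusion (red_contra L hL i j hj' _ _ e1 e1')
  · apply Fin.ext; omega

theorem exists_perm_word (L : List (ℕ × Bool)) (hL : FreeGroup.IsReduced L) :
    ∃ f : ℕ → Perm (Fin (L.length + 1)),
      (L.map fun x => cond x.2 (f x.1) (f x.1)⁻¹).prod (Fin.last L.length) = 0 := by
  choose f hf using fun i => exists_perm_of_rel (Rel L i) (rel_fun L hL i) (rel_inj L hL i)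
  refine ⟨f, ?_⟩
  have key : ∀ d : ℕ, ∀ hd : d ≤ L.length,
      ((L.drop (L.length - d)).map fun x => cond x.2 (f x.1) (f x.1)⁻¹).prod (Fin.last L.length) =
        ⟨L.length - d, by omega⟩ := by
    intro d
    induction d with
    | zero =>
      intro _
      simp only [Nat.sub_zero, List.drop_length, List.map_nil, List.prod_nil, Perm.coe_one, id_eq]
      rfl
    | succ d ih =>
      intro hd
      have hj : L.length - (d + 1) < L.length := by omega
      have hj1 : L.length - (d + 1) + 1 = L.length - d := by omega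
      rw [List.drop_eq_getElem_cons hj, List.map_cons, List.prod_cons, Perm.mul_apply, hj1, ih (by omega)]
      rcases hb : L[L.length - (d + 1)] with ⟨i, b⟩
      cases b
      · simp only [cond_false]
        rw [Perm.inv_eq_iff_eq]
        symm
        apply hf i
        exact ⟨L.length - (d + 1), hj, Or.inr ⟨hb, rfl, by simp only; omega⟩⟩
      · simp only [cond_true]
        apply hf i
        exact ⟨L.length - (d + 1), hj, Or.inl ⟨hb, by simp only; omega, rfl⟩⟩
  have := key L.length le_rfl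
  simp only [Nat.sub_self, List.drop_zero] at this
  rw [this]
  rfl

theorem exists_hom_alt (m n : ℕ) (h : 2 * m ≤ n) :
    ∃ Φ : Perm (Fin m) →* alternatingGroup (Fin n), Function.Injective Φ := by
  classical
  have hcard : Fintype.card (Fin m ⊕ Fin m) ≤ Fintype.card (Fin n) := by
    rw [Fintype.card_sum, Fintype.card_fin, Fintype.card_fin]; omega
  obtain ⟨ι⟩ := Function.Embedding.nonempty_of_card_le hcard
  let Δ : Perm (Fin m) →* Perm (Fin m ⊕ Fin m) :=
    (Perm.sumCongrHom (Fin m) (Fin m)).comp ((MonoidHom.id _).prod (MonoidHom.id _))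
  have hΔ : Function.Injective Δ := by
    intro a b hab
    have := Perm.sumCongrHom_injective hab
    exact congrArg Prod.fst this
  let Φ₀ : Perm (Fin m) →* Perm (Fin n) := (Perm.viaEmbeddingHom ι).comp Δ
  have hΦ₀ : Function.Injective Φ₀ := (Perm.viaEmbeddingHom_injective ι).comp hΔ
  have hsign : ∀ g, Φ₀ g ∈ alternatingGroup (Fin n) := by
    intro g
    rw [Perm.mem_alternatingGroup]
    show Perm.sign (Perm.viaEmbeddingHom ι (Δ g)) = 1
    rw [Perm.viaEmbeddingHom_apply]
    have h1 : Perm.sign ((Δ g).viaEmbedding ι) = Perm.sign (Δ g) :=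
      @Perm.sign_extendDomain _ _ _ _ _ _ (Δ g) _ (fun a => Classical.propDecidable _) _
    rw [h1]
    show Perm.sign (Equiv.sumCongr g g) = 1
    rw [Perm.sign_sumCongr, Int.units_mul_self]
  refine ⟨Φ₀.codRestrict _ hsign, ?_⟩
  intro a b hab
  apply hΦ₀
  exact congrArg Subtype.val hab

theorem result (w : FreeGroup ℕ) (hw : w ≠ 1) :
    ∃ N : ℕ, ∀ n : ℕ, N ≤ n → ∃ f : ℕ → alternatingGroup (Fin n), FreeGroup.lift f w ≠ 1 := by
  have hL : FreeGroup.IsReduced w.toWord := FreeGroup.isReduced_toWord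
  obtain ⟨f, hf⟩ := exists_perm_word w.toWord hL
  have hne : FreeGroup.lift f w ≠ 1 := by
    intro h
    have h2 : FreeGroup.lift f (FreeGroup.mk w.toWord) =
        (w.toWord.map fun x => cond x.2 (f x.1) (f x.1)⁻¹).prod := FreeGroup.lift_mk
    have h3 : FreeGroup.mk w.toWord = w := FreeGroup.mk_toWord
    rw [h3, h] at h2
    rw [← h2] at hf
    have hlen : w.toWord.length ≠ 0 := by
      intro h0
      apply hw
      rw [← FreeGroup.toWord_eq_nil_iff]
      exact List.eq_nil_of_length_eq_zero h0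
    have : (Fin.last w.toWord.length).val = (0 : Fin (w.toWord.length + 1)).val := by
      have := congrArg Fin.val hf
      simpa using this
    simp at this
    exact hw this
  refine ⟨2 * (w.toWord.length + 1), fun n hn => ?_⟩
  obtain ⟨Φ, hΦ⟩ := exists_hom_alt (w.toWord.length + 1) n hn
  refine ⟨fun i => Φ (f i), ?_⟩
  have hcomp : FreeGroup.lift (fun i => Φ (f i)) = Φ.comp (FreeGroup.lift f) := by
    apply FreeGroup.ext_hom
    intro a
    simp
  rw [hcomp]
  intro h
  apply hne
  apply hΦ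
  rw [map_one]
  exact h

end Cfsg.Agent.S2352
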