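import Cfsg.Statements.S2353

import Cfsg.Agent.S2508
set_option autoImplicit false
open Cfsg

namespace Cfsg.Agent.S2353


open Polynomial

section Deg

variable {K : Type*} [Field K]

def Pos (v : K[X] × K[X]) : Prop := v.2.degree < v.1.degree

def Neg (v : K[X] × K[X]) : Prop := v.1.degree < v.2.degree

theorem deg_mul_add (x p s : K[X]) (hx : 0 < x.degree) (h : s.degree < p.degree) :
    (x * p + s).degree = x.degree + p.degree ∧ p.degree < x.degree + p.degree := by
  have hp0 : p ≠ 0 := by
    rintro rfl
    simp at h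
  have hx0 : x ≠ 0 := by
    rintro rfl
    simp at hx
  have hpd : (0 : WithBot ℕ) ≤ p.degree := by
    rw [Polynomial.zero_le_degree_iff]
    exact hp0
  have h1 : p.degree < x.degree + p.degree := by
    rw [Polynomial.degree_eq_natDegree hp0, Polynomial.degree_eq_natDegree hx0] at *
    have hx' : 0 < x.natDegree := by exact_mod_cast hx
    exact_mod_cast (by omega : p.natDegree < x.natDegree + p.natDegree)
  have h2 : s.degree < (x * p).degree := by
    rw [Polynomial.degree_mul]
    exact lt_trans h h1
  refine ⟨?_, h1⟩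
  rw [Polynomial.degree_add_eq_left_of_degree_lt h2, Polynomial.degree_mul]

theorem deg_mul_add_pos (x p s : K[X]) (hx : 0 < x.degree) (h : s.degree < p.degree) :
    0 < (x * p + s).degree := by
  obtain ⟨h1, h2⟩ := deg_mul_add x p s hx h
  have hp0 : p ≠ 0 := by
    rintro rfl
    simp at h
  have hpd : (0 : WithBot ℕ) ≤ p.degree := by
    rw [Polynomial.zero_le_degree_iff]
    exact hp0
  rw [h1]
  exact lt_of_le_of_lt hpd h2

theorem pos_E (x : K[X]) (hx : 0 < x.degree) (v : K[X] × K[X]) (hv : Pos v) :
    Pos (x * v.1 + v.2, -v.1) := by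
  obtain ⟨h1, h2⟩ := deg_mul_add x v.1 v.2 hx hv
  show (-v.1).degree < (x * v.1 + v.2).degree
  rw [Polynomial.degree_neg, h1]
  exact h2

theorem neg_Einv (x : K[X]) (hx : 0 < x.degree) (v : K[X] × K[X]) (hv : Neg v) :
    Neg (-v.2, v.1 + x * v.2) := by
  obtain ⟨h1, h2⟩ := deg_mul_add x v.2 v.1 hx hv
  show (-v.2).degree < (v.1 + x * v.2).degree
  rw [Polynomial.degree_neg, add_comm, h1]
  exact h2

theorem neg_L (c : K[X]) (hc : 0 < c.degree) (v : K[X] × K[X]) (hv : Pos v) :
    Neg (v.1, c * v.1 + v.2) := by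
  obtain ⟨h1, h2⟩ := deg_mul_add c v.1 v.2 hc hv
  show v.1.degree < (c * v.1 + v.2).degree
  rw [h1]
  exact h2

theorem pos_U (c : K[X]) (hc : 0 < c.degree) (v : K[X] × K[X]) (hv : Neg v) :
    Pos (v.1 + c * v.2, v.2) := by
  obtain ⟨h1, h2⟩ := deg_mul_add c v.2 v.1 hc hv
  show v.2.degree < (v.1 + c * v.2).degree
  rw [add_comm, h1]
  exact h2

theorem deg_X_pow_sub (m n : ℕ) (hm : 1 ≤ m) (hn : 1 ≤ n) (hmn : m ≠ n) :
    0 < ((X : K[X]) ^ m - X ^ n).degree := by
  rcases Nat.lt_or_gt_of_ne hmn with h | h
  · rw [Polynomial.degree_sub_eq_right_of_degree_lt (by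
      rw [Polynomial.degree_X_pow, Polynomial.degree_X_pow]; exact_mod_cast h),
      Polynomial.degree_X_pow]
    exact_mod_cast hn
  · rw [Polynomial.degree_sub_eq_left_of_degree_lt (by
      rw [Polynomial.degree_X_pow, Polynomial.degree_X_pow]; exact_mod_cast h),
      Polynomial.degree_X_pow]
    exact_mod_cast hm

end Deg

section Mats

variable {R : Type*} [CommRing R]

def E (x : R) : Matrix.SpecialLinearGroup (Fin 2) R :=
  ⟨!![x, 1; -1, 0], by simp [Matrix.det_fin_two_of]⟩

def Einv (x : R) : Matrix.SpecialLinearGroup (Fin 2) R :=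
  ⟨!![0, -1; 1, x], by simp [Matrix.det_fin_two_of]⟩

theorem E_mul_Einv (x : R) : E x * Einv x = 1 := by
  apply Subtype.ext
  rw [Matrix.SpecialLinearGroup.coe_mul]
  show (!![x, 1; -1, 0] : Matrix (Fin 2) (Fin 2) R) * !![0, -1; 1, x] = 1
  rw [Matrix.mul_fin_two, Matrix.one_fin_two]
  simp

theorem E_inv (x : R) : (E x)⁻¹ = Einv x := inv_eq_of_mul_eq_one_right (E_mul_Einv x)

def act (A : Matrix.SpecialLinearGroup (Fin 2) R) (v : R × R) : R × R :=
  (A 0 0 * v.1 + A 0 1 * v.2, A 1 0 * v.1 + A 1 1 * v.2)

def col (A : Matrix.SpecialLinearGroup (Fin 2) R) : R × R := (A 0 0, A 1 0)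

theorem col_mul (A B : Matrix.SpecialLinearGroup (Fin 2) R) : col (A * B) = act A (col B) := by
  simp only [col, act, Matrix.SpecialLinearGroup.coe_mul, Matrix.mul_apply, Fin.sum_univ_two]

theorem act_mul (A B : Matrix.SpecialLinearGroup (Fin 2) R) (v : R × R) :
    act (A * B) v = act A (act B v) := by
  simp only [act, Matrix.SpecialLinearGroup.coe_mul, Matrix.mul_apply, Fin.sum_univ_two]
  apply Prod.ext <;> simp only <;> ring

theorem act_E (x : R) (v : R × R) : act (E x) v = (x * v.1 + v.2, -v.1) := by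
  simp [act, E]

theorem act_Einv (x : R) (v : R × R) : act (Einv x) v = (-v.2, v.1 + x * v.2) := by
  simp [act, Einv]

theorem act_Einv_E (x y : R) (v : R × R) :
    act (Einv x * E y) v = (v.1, (y - x) * v.1 + v.2) := by
  rw [act_mul, act_E, act_Einv]
  apply Prod.ext <;> simp only <;> ring

theorem act_E_Einv (x y : R) (v : R × R) :
    act (E x * Einv y) v = (v.1 + (y - x) * v.2, v.2) := by
  rw [act_mul, act_Einv, act_E]
  apply Prod.ext <;> simp only <;> ring

theorem col_E (x : R) : col (E x) = (x, -1) := by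
  simp [col, E]

theorem col_Einv (x : R) : col (Einv x) = (0, 1) := by
  simp [col, Einv]

noncomputable def gen (R : Type*) [CommRing R] (i : ℕ) : Matrix.SpecialLinearGroup (Fin 2) R[X] :=
  E (X ^ (2 * i + 1)) * E (X ^ (2 * i + 2))

theorem gen_inv (i : ℕ) : (gen R i)⁻¹ = Einv (X ^ (2 * i + 2)) * Einv (X ^ (2 * i + 1)) := by
  rw [gen, mul_inv_rev, E_inv, E_inv]

noncomputable def letter (R : Type*) [CommRing R] (x : ℕ × Bool) : Matrix.SpecialLinearGroup (Fin 2) R[X] :=
  cond x.2 (gen R x.1) (gen R x.1)⁻¹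

noncomputable def prodL (R : Type*) [CommRing R] (L : List (ℕ × Bool)) :
    Matrix.SpecialLinearGroup (Fin 2) R[X] := (L.map (letter R)).prod

theorem prodL_cons (x : ℕ × Bool) (L : List (ℕ × Bool)) :
    prodL R (x :: L) = letter R x * prodL R L := by
  simp [prodL]

end Mats

section Invariant

variable {K : Type*} [Field K]

def StH (h : ℕ × Bool) (M : Matrix.SpecialLinearGroup (Fin 2) K[X]) : Prop :=
  (h.2 = true → ∃ u : K[X] × K[X], Pos u ∧ col M = act (E (X ^ (2 * h.1 + 1))) u) ∧
  (h.2 = false → ∃ u : K[X] × K[X], Neg u ∧ col M = act (Einv (X ^ (2 * h.1 + 2))) u)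

theorem deg_X_pow_pos (n : ℕ) (hn : 1 ≤ n) : 0 < ((X : K[X]) ^ n).degree := by
  rw [Polynomial.degree_X_pow]
  exact_mod_cast hn

theorem state_of_reduced : ∀ (L : List (ℕ × Bool)) (h : ℕ × Bool),
    FreeGroup.IsReduced (h :: L) → StH h (prodL K (h :: L)) := by
  intro L
  induction L with
  | nil =>
    intro h _
    obtain ⟨i, b⟩ := h
    constructor
    · intro hb
      simp only at hb
      subst hb
      refine ⟨col (E (X ^ (2 * i + 2))), ?_, ?_⟩
      · rw [col_E]
        show (-1 : K[X]).degree < ((X : K[X]) ^ (2 * i + 2)).degree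
        rw [Polynomial.degree_neg, Polynomial.degree_one]
        exact deg_X_pow_pos _ (by omega)
      · rw [prodL_cons]
        simp only [prodL, List.map_nil, List.prod_nil, mul_one, letter, cond_true, gen]
        rw [col_mul]
    · intro hb
      simp only at hb
      subst hb
      refine ⟨col (Einv (X ^ (2 * i + 1))), ?_, ?_⟩
      · rw [col_Einv]
        show (0 : K[X]).degree < (1 : K[X]).degree
        rw [Polynomial.degree_zero, Polynomial.degree_one]
        exact WithBot.bot_lt_coe 0
      · rw [prodL_cons]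
        simp only [prodL, List.map_nil, List.prod_nil, mul_one, letter, cond_false, gen_inv]
        rw [col_mul]
  | cons y L' ih =>
    intro h hred
    rw [FreeGroup.isReduced_cons_cons] at hred
    obtain ⟨hhy, hred'⟩ := hred
    have IH := ih y hred'
    obtain ⟨j, b⟩ := h
    obtain ⟨i, c⟩ := y
    rw [prodL_cons]
    constructor
    · intro hb
      simp only at hb
      subst hb
      simp only [letter, cond_true, gen]
      cases c with
      | true =>
        obtain ⟨u, hu, hcol⟩ := IH.1 rfl
        refine ⟨act (E (X ^ (2 * j + 2))) (act (E (X ^ (2 * i + 1))) u), ?_, ?_⟩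
        · rw [act_E, act_E]
          apply pos_E _ (deg_X_pow_pos _ (by omega))
          exact pos_E _ (deg_X_pow_pos _ (by omega)) u hu
        · rw [col_mul, hcol, act_mul]
      | false =>
        obtain ⟨u, hu, hcol⟩ := IH.2 rfl
        have hij : j ≠ i := by
          intro hji
          have := hhy hji
          simp at this
        refine ⟨act (E (X ^ (2 * j + 2)) * Einv (X ^ (2 * i + 2))) u, ?_, ?_⟩
        · rw [act_E_Einv]
          exact pos_U _ (deg_X_pow_sub _ _ (by omega) (by omega) (by omega)) u hu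
        · rw [col_mul, hcol, act_mul, act_mul]
    · intro hb
      simp only at hb
      subst hb
      simp only [letter, cond_false, gen_inv]
      cases c with
      | true =>
        obtain ⟨u, hu, hcol⟩ := IH.1 rfl
        have hij : j ≠ i := by
          intro hji
          have := hhy hji
          simp at this
        refine ⟨act (Einv (X ^ (2 * j + 1)) * E (X ^ (2 * i + 1))) u, ?_, ?_⟩
        · rw [act_Einv_E]
          exact neg_L _ (deg_X_pow_sub _ _ (by omega) (by omega) (by omega)) u hu
        · rw [col_mul, hcol, act_mul, act_mul]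
      | false =>
        obtain ⟨u, hu, hcol⟩ := IH.2 rfl
        refine ⟨act (Einv (X ^ (2 * j + 1))) (act (Einv (X ^ (2 * i + 2))) u), ?_, ?_⟩
        · rw [act_Einv, act_Einv]
          apply neg_Einv _ (deg_X_pow_pos _ (by omega))
          exact neg_Einv _ (deg_X_pow_pos _ (by omega)) u hu
        · rw [col_mul, hcol, act_mul]

theorem deg_pos_of_reduced (L : List (ℕ × Bool)) (hL : FreeGroup.IsReduced L) (hne : L ≠ []) :
    0 < ((prodL K L) 0 0).degree ∨ 0 < ((prodL K L) 1 0).degree := by
  obtain ⟨h, L', rfl⟩ := List.exists_cons_of_ne_nil hne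
  have hs := state_of_reduced (K := K) L' h hL
  obtain ⟨i, b⟩ := h
  cases b with
  | true =>
    left
    obtain ⟨u, hu, hcol⟩ := hs.1 rfl
    have h1 : (prodL K ((i, true) :: L')) 0 0 = (col (prodL K ((i, true) :: L'))).1 := rfl
    rw [h1, hcol, act_E]
    exact deg_mul_add_pos _ _ _ (deg_X_pow_pos _ (by omega)) hu
  | false =>
    right
    obtain ⟨u, hu, hcol⟩ := hs.2 rfl
    have h1 : (prodL K ((i, false) :: L')) 1 0 = (col (prodL K ((i, false) :: L'))).2 := rfl
    rw [h1, hcol, act_Einv]
    simp only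
    rw [add_comm]
    exact deg_mul_add_pos _ _ _ (deg_X_pow_pos _ (by omega)) hu

end Invariant

section Natural

theorem lift_hom {G H : Type*} [Group G] [Group H] (ψ : G →* H) (f : ℕ → G) (w : FreeGroup ℕ) :
    ψ (FreeGroup.lift f w) = FreeGroup.lift (fun i => ψ (f i)) w := by
  have : ψ.comp (FreeGroup.lift f) = FreeGroup.lift (fun i => ψ (f i)) := by
    apply FreeGroup.ext_hom
    intro a
    simp
  rw [← this]
  rfl

theorem lift_eq_prodL (R : Type*) [CommRing R] (w : FreeGroup ℕ) :
    FreeGroup.lift (gen R) w = prodL R w.toWord := by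
  conv_lhs => rw [← FreeGroup.mk_toWord (x := w)]
  rw [FreeGroup.lift_mk]
  rfl

theorem map_E {R S : Type*} [CommRing R] [CommRing S] (φ : R →+* S) (x : R) :
    Matrix.SpecialLinearGroup.map φ (E x) = E (φ x) := by
  apply Subtype.ext
  rw [Matrix.SpecialLinearGroup.map_apply_coe]
  ext i j
  fin_cases i <;> fin_cases j <;> simp [E]

theorem map_gen {R S : Type*} [CommRing R] [CommRing S] (φ : R →+* S) (i : ℕ) :
    Matrix.SpecialLinearGroup.map (Polynomial.mapRingHom φ) (gen R i) = gen S i := by
  rw [gen, map_mul, map_E, map_E, gen]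
  simp

theorem lift_gen_map {R S : Type*} [CommRing R] [CommRing S] (φ : R →+* S) (w : FreeGroup ℕ) :
    Matrix.SpecialLinearGroup.map (Polynomial.mapRingHom φ) (FreeGroup.lift (gen R) w) =
      FreeGroup.lift (gen S) w := by
  rw [lift_hom]
  have : (fun i => Matrix.SpecialLinearGroup.map (Polynomial.mapRingHom φ) (gen R i)) = gen S :=
    funext (map_gen φ)
  rw [this]

end Natural

section Special

variable {F : Type*} [Field F] [Fintype F]

theorem exists_good_eval (M : Matrix.SpecialLinearGroup (Fin 2) F[X]) (D : ℕ)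
    (h00 : (M 0 0).natDegree ≤ D) (h10 : (M 1 0).natDegree ≤ D)
    (hcard : 2 * D < Fintype.card F)
    (hdeg : 0 < (M 0 0).degree ∨ 0 < (M 1 0).degree) :
    ∃ t : F, (QuotientGroup.mk (Matrix.SpecialLinearGroup.map (Polynomial.evalRingHom t) M) :
      Matrix.ProjectiveSpecialLinearGroup (Fin 2) F) ≠ 1 := by
  have hcenter : ∀ t : F, (QuotientGroup.mk (Matrix.SpecialLinearGroup.map
      (Polynomial.evalRingHom t) M) : Matrix.ProjectiveSpecialLinearGroup (Fin 2) F) = 1 →
      ((M 0 0).eval t = 1 ∨ (M 0 0).eval t = -1) ∧ (M 1 0).eval t = 0 := by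
    intro t ht
    rw [QuotientGroup.eq_one_iff, Cfsg.Agent.S2508.mem_center_iff'] at ht
    obtain ⟨c, hc, hM⟩ := ht
    rw [Matrix.SpecialLinearGroup.map_apply_coe] at hM
    have e00 := congrFun (congrFun hM 0) 0
    have e10 := congrFun (congrFun hM 1) 0
    simp [RingHom.mapMatrix_apply] at e00 e10
    refine ⟨?_, e10⟩
    rw [e00]
    have : (c - 1) * (c + 1) = 0 := by linear_combination hc
    rcases mul_eq_zero.mp this with h | h
    · left
      linear_combination h
    · right
      linear_combination h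
  rcases hdeg with hd | hd
  · obtain ⟨P, hP⟩ : ∃ P, P = M 0 0 := ⟨_, rfl⟩
    rw [← hP] at hd h00
    have h1 : (P - C 1).degree = P.degree := Polynomial.degree_sub_C hd
    have h2 : (P + C 1).degree = P.degree := Polynomial.degree_add_C hd
    have hQ : (P - C 1) * (P + C 1) ≠ 0 := by
      apply mul_ne_zero
      · intro h0
        rw [h0, Polynomial.degree_zero] at h1
        rw [← h1] at hd
        simp at hd
      · intro h0
        rw [h0, Polynomial.degree_zero] at h2
        rw [← h2] at hd
        simp at hd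
    have hQd : ((P - C 1) * (P + C 1)).natDegree < Fintype.card F := by
      have h3 : (P - C 1).natDegree = P.natDegree :=
        Polynomial.natDegree_eq_natDegree h1
      have h4 : (P + C 1).natDegree = P.natDegree :=
        Polynomial.natDegree_eq_natDegree h2
      calc ((P - C 1) * (P + C 1)).natDegree ≤ (P - C 1).natDegree + (P + C 1).natDegree :=
            Polynomial.natDegree_mul_le
        _ = P.natDegree + P.natDegree := by rw [h3, h4]
        _ ≤ 2 * D := by omega
        _ < Fintype.card F := hcard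
    by_contra hall
    push_neg at hall
    apply hQ
    apply Polynomial.eq_zero_of_natDegree_lt_card_of_eval_eq_zero _
      (f := (id : F → F)) Function.injective_id _ hQd
    intro t
    obtain ⟨h5, _⟩ := hcenter t (hall t)
    rw [← hP] at h5
    simp only [id, Polynomial.eval_mul, Polynomial.eval_sub, Polynomial.eval_add,
      Polynomial.eval_C]
    rcases h5 with h5 | h5
    · rw [h5]; ring
    · rw [h5]; ring
  · obtain ⟨P, hP⟩ : ∃ P, P = M 1 0 := ⟨_, rfl⟩
    rw [← hP] at hd h10
    have hP0 : P ≠ 0 := by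
      rintro rfl
      simp at hd
    by_contra hall
    push_neg at hall
    apply hP0
    apply Polynomial.eq_zero_of_natDegree_lt_card_of_eval_eq_zero _
      (f := (id : F → F)) Function.injective_id _ (by omega)
    intro t
    obtain ⟨_, h5⟩ := hcenter t (hall t)
    rw [← hP] at h5
    exact h5

end Special

/-- A non-trivial law holds in PSL_2 over only finitely many finite fields: for every non-trivial element w of the free group on countably many generators there is N such that over every finite field with at least N elements some substitution of elements of PSL_2 into w is not the identity. -/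
theorem result (w : FreeGroup ℕ) (hw : w ≠ 1) :
    ∃ N : ℕ, ∀ (F : Type*) [Field F] [Fintype F], N ≤ Fintype.card F →
      ∃ f : ℕ → Matrix.ProjectiveSpecialLinearGroup (Fin 2) F, FreeGroup.lift f w ≠ 1 := by
  obtain ⟨MZ, hMZ⟩ : ∃ MZ, MZ = FreeGroup.lift (gen ℤ) w := ⟨_, rfl⟩
  refine ⟨2 * ((MZ 0 0).natDegree + (MZ 1 0).natDegree) + 1, fun F _ _ hN => ?_⟩
  obtain ⟨MF, hMF⟩ : ∃ MF, MF = FreeGroup.lift (gen F) w := ⟨_, rfl⟩
  have hmap : MF = Matrix.SpecialLinearGroup.map
      (Polynomial.mapRingHom (Int.castRingHom F)) MZ := by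
    rw [hMF, hMZ, lift_gen_map]
  have hentry : ∀ a b : Fin 2, MF a b = Polynomial.map (Int.castRingHom F) (MZ a b) := by
    intro a b
    rw [hmap, Matrix.SpecialLinearGroup.map_apply_coe]
    simp [RingHom.mapMatrix_apply]
  have h00 : (MF 0 0).natDegree ≤ (MZ 0 0).natDegree + (MZ 1 0).natDegree := by
    rw [hentry]
    exact le_trans Polynomial.natDegree_map_le (by omega)
  have h10 : (MF 1 0).natDegree ≤ (MZ 0 0).natDegree + (MZ 1 0).natDegree := by
    rw [hentry]
    exact le_trans Polynomial.natDegree_map_le (by omega)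
  have hdeg : 0 < (MF 0 0).degree ∨ 0 < (MF 1 0).degree := by
    rw [hMF, lift_eq_prodL]
    apply deg_pos_of_reduced _ FreeGroup.isReduced_toWord
    rw [Ne, FreeGroup.toWord_eq_nil_iff]
    exact hw
  obtain ⟨t, ht⟩ := exists_good_eval MF _ h00 h10 (by omega) hdeg
  refine ⟨fun i => QuotientGroup.mk (Matrix.SpecialLinearGroup.map (Polynomial.evalRingHom t)
    (gen F i)), ?_⟩
  have hlift : FreeGroup.lift (fun i => (QuotientGroup.mk (Matrix.SpecialLinearGroup.map
      (Polynomial.evalRingHom t) (gen F i)) : Matrix.ProjectiveSpecialLinearGroup (Fin 2) F)) w =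
      QuotientGroup.mk (Matrix.SpecialLinearGroup.map (Polynomial.evalRingHom t) MF) := by
    rw [hMF]
    exact (lift_hom ((QuotientGroup.mk' _).comp
      (Matrix.SpecialLinearGroup.map (Polynomial.evalRingHom t))) (gen F) w).symm
  rw [hlift]
  exact ht

end Cfsg.Agent.S2353
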