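import Cfsg.Statements.S2355

import Cfsg.Agent.S2352
import Cfsg.Agent.S2353
import Cfsg.Agent.S0281
import Cfsg.Agent.Lib.Lead.SLn
set_option autoImplicit false
open Cfsg

namespace Cfsg.Agent.S2355


open Matrix

section law

variable (w : FreeGroup ℕ)

def Law (G : Type*) [Group G] : Prop := ∀ f : ℕ → G, FreeGroup.lift f w = 1

theorem lift_comp {G H : Type*} [Group G] [Group H] (φ : G →* H) (f : ℕ → G) :
    FreeGroup.lift (φ ∘ f) w = φ (FreeGroup.lift f w) := by
  have h : FreeGroup.lift (φ ∘ f) = φ.comp (FreeGroup.lift f) := by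
    ext i
    simp
  rw [h]
  rfl

theorem law_of_injective {G H : Type*} [Group G] [Group H] (φ : H →* G)
    (hφ : Function.Injective φ) (h : Law w G) : Law w H := by
  intro f
  apply hφ
  rw [← lift_comp, map_one]
  exact h _

theorem law_of_surjective {G K : Type*} [Group G] [Group K] (φ : G →* K)
    (hφ : Function.Surjective φ) (h : Law w G) : Law w K := by
  intro f
  obtain ⟨f', hf'⟩ : ∃ f' : ℕ → G, ∀ i, φ (f' i) = f i := ⟨fun i => (hφ (f i)).choose,
    fun i => (hφ (f i)).choose_spec⟩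
  have : f = φ ∘ f' := by
    funext i
    exact (hf' i).symm
  rw [this, lift_comp, h f', map_one]

theorem law_equiv {G G' : Type*} [Group G] [Group G'] (e : G ≃* G') (h : Law w G) : Law w G' :=
  law_of_injective w e.symm.toMonoidHom e.symm.injective h

theorem law_center_quot {S H : Type*} [Group S] [Group H] (ι : H →* S)
    (hι : Function.Injective ι) (h : Law w (S ⧸ Subgroup.center S)) :
    Law w (H ⧸ Subgroup.center H) := by
  intro f
  obtain ⟨f', hf'⟩ : ∃ f' : ℕ → H, ∀ i, (QuotientGroup.mk (f' i) : H ⧸ Subgroup.center H) = f i :=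
    ⟨fun i => (QuotientGroup.mk_surjective (f i)).choose,
      fun i => (QuotientGroup.mk_surjective (f i)).choose_spec⟩
  have e1 : f = (QuotientGroup.mk' (Subgroup.center H)) ∘ f' := by
    funext i
    exact (hf' i).symm
  rw [e1, lift_comp]
  have h1 := h ((QuotientGroup.mk' (Subgroup.center S)) ∘ (ι ∘ f'))
  rw [lift_comp, lift_comp] at h1
  rw [QuotientGroup.mk'_apply, QuotientGroup.eq_one_iff, Subgroup.mem_center_iff] at h1 ⊢
  intro g
  apply hι
  rw [map_mul, map_mul]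
  exact h1 (ι g)

theorem not_law_center_quot_of_center_eq_bot {H : Type*} [Group H]
    (hZ : Subgroup.center H = ⊥) (h : ¬ Law w H) : ¬ Law w (H ⧸ Subgroup.center H) := by
  intro h1
  apply h
  apply law_of_injective w (QuotientGroup.mk' (Subgroup.center H)) _ h1
  rw [← MonoidHom.ker_eq_bot_iff, QuotientGroup.ker_mk', hZ]

end law

section emb

variable {F : Type*} [Field F]

def slMap {α β : Type*} [Fintype α] [DecidableEq α] [Fintype β] [DecidableEq β]
    (Φ : Matrix α α F →* Matrix β β F) (hdet : ∀ A, (Φ A).det = A.det) :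
    Matrix.SpecialLinearGroup α F →* Matrix.SpecialLinearGroup β F where
  toFun g := ⟨Φ g.1, by rw [hdet, g.2]⟩
  map_one' := by
    apply Subtype.ext
    show Φ (1 : Matrix α α F) = 1
    exact map_one Φ
  map_mul' g h := by
    apply Subtype.ext
    show Φ ((g : Matrix α α F) * (h : Matrix α α F)) = Φ g.1 * Φ h.1
    exact map_mul Φ _ _

theorem slMap_injective {α β : Type*} [Fintype α] [DecidableEq α] [Fintype β] [DecidableEq β]
    (Φ : Matrix α α F →* Matrix β β F) (hdet : ∀ A, (Φ A).det = A.det)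
    (hΦ : Function.Injective Φ) : Function.Injective (slMap Φ hdet) := by
  intro g h hgh
  apply Subtype.ext
  apply hΦ
  exact congrArg Subtype.val hgh

def blkHom (α β : Type*) [Fintype α] [DecidableEq α] [Fintype β] [DecidableEq β] :
    Matrix α α F →* Matrix (α ⊕ β) (α ⊕ β) F where
  toFun A := Matrix.fromBlocks A 0 0 1
  map_one' := Matrix.fromBlocks_one
  map_mul' A B := by
    rw [Matrix.fromBlocks_multiply]
    simp

theorem blkHom_det (α β : Type*) [Fintype α] [DecidableEq α] [Fintype β] [DecidableEq β]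
    (A : Matrix α α F) : (blkHom α β A).det = A.det := by
  show (Matrix.fromBlocks A 0 0 1).det = A.det
  rw [Matrix.det_fromBlocks_zero₂₁, Matrix.det_one, mul_one]

theorem blkHom_injective (α β : Type*) [Fintype α] [DecidableEq α] [Fintype β] [DecidableEq β] :
    Function.Injective (blkHom (F := F) α β) := by
  intro A B h
  have := congrArg Matrix.toBlocks₁₁ h
  simpa [blkHom] using this

def reHom {α β : Type*} [Fintype α] [DecidableEq α] [Fintype β] [DecidableEq β] (e : α ≃ β) :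
    Matrix α α F →* Matrix β β F :=
  ((Matrix.reindexAlgEquiv F F e : Matrix α α F ≃ₐ[F] Matrix β β F) : Matrix α α F →* Matrix β β F)

theorem reHom_det {α β : Type*} [Fintype α] [DecidableEq α] [Fintype β] [DecidableEq β]
    (e : α ≃ β) (A : Matrix α α F) : (reHom e A).det = A.det := by
  show (Matrix.reindexAlgEquiv F F e A).det = A.det
  rw [Matrix.det_reindexAlgEquiv]

theorem reHom_injective {α β : Type*} [Fintype α] [DecidableEq α] [Fintype β] [DecidableEq β]
    (e : α ≃ β) : Function.Injective (reHom (F := F) e) := by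
  intro A B h
  exact (Matrix.reindexAlgEquiv F F e).injective h

def slBlock (k : ℕ) : Matrix.SpecialLinearGroup (Fin 2) F →* Matrix.SpecialLinearGroup (Fin (2 + k)) F :=
  slMap ((reHom (finSumFinEquiv : Fin 2 ⊕ Fin k ≃ Fin (2 + k))).comp (blkHom (Fin 2) (Fin k)))
    (fun A => by rw [MonoidHom.comp_apply, reHom_det, blkHom_det])

theorem slBlock_injective (k : ℕ) : Function.Injective (slBlock (F := F) k) := by
  apply slMap_injective
  exact (reHom_injective _).comp (blkHom_injective _ _)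

def altToSL (n : ℕ) : alternatingGroup (Fin n) →* Matrix.SpecialLinearGroup (Fin n) F where
  toFun σ := ⟨Matrix.permMatrixHom (R := F) (σ : Equiv.Perm (Fin n)), by
    rw [Matrix.permMatrixHom_apply, Matrix.det_permutation, Equiv.Perm.sign_inv,
      Equiv.Perm.mem_alternatingGroup.mp σ.2]
    simp⟩
  map_one' := by
    apply Subtype.ext
    show Matrix.permMatrixHom (R := F) ((1 : alternatingGroup (Fin n)) : Equiv.Perm (Fin n)) = 1
    rw [Subgroup.coe_one, map_one]
  map_mul' σ τ := by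
    apply Subtype.ext
    show Matrix.permMatrixHom (R := F) ((σ * τ : alternatingGroup (Fin n)) : Equiv.Perm (Fin n)) =
      Matrix.permMatrixHom (R := F) (σ : Equiv.Perm (Fin n)) *
        Matrix.permMatrixHom (R := F) (τ : Equiv.Perm (Fin n))
    rw [Subgroup.coe_mul, map_mul]

theorem permMatrixHom_injective (n : ℕ) :
    Function.Injective (Matrix.permMatrixHom (R := F) (n := Fin n)) := by
  intro σ τ h
  rw [Matrix.permMatrixHom_apply, Matrix.permMatrixHom_apply] at h
  have h2 : (σ⁻¹).toPEquiv = (τ⁻¹).toPEquiv := PEquiv.toMatrix_injective h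
  have h3 : σ⁻¹ = τ⁻¹ := by
    ext i
    have h4 := congrArg (fun e : Fin n ≃. Fin n => e i) h2
    simp only [Equiv.toPEquiv_apply, Option.some.injEq] at h4
    rw [h4]
  exact inv_injective h3

theorem altToSL_injective (n : ℕ) : Function.Injective (altToSL (F := F) n) := by
  intro σ τ h
  apply Subtype.ext
  apply permMatrixHom_injective (F := F) n
  exact congrArg Subtype.val h

end emb

section hyp

variable {F : Type*} [Field F]

def hypHom (m : ℕ) :
    Matrix.SpecialLinearGroup (Fin m) F →* Matrix (Fin m ⊕ Fin m) (Fin m ⊕ Fin m) F where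
  toFun g := Matrix.fromBlocks (g : Matrix (Fin m) (Fin m) F) 0 0
    ((g⁻¹ : Matrix.SpecialLinearGroup (Fin m) F) : Matrix (Fin m) (Fin m) F)ᵀ
  map_one' := by
    rw [inv_one, Matrix.SpecialLinearGroup.coe_one, Matrix.transpose_one, Matrix.fromBlocks_one]
  map_mul' g h := by
    rw [Matrix.fromBlocks_multiply, _root_.mul_inv_rev, Matrix.SpecialLinearGroup.coe_mul,
      Matrix.SpecialLinearGroup.coe_mul, Matrix.transpose_mul]
    simp

theorem hypHom_injective (m : ℕ) : Function.Injective (hypHom (F := F) m) := by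
  intro g h hgh
  apply Subtype.ext
  have := congrArg Matrix.toBlocks₁₁ hgh
  simpa [hypHom] using this

theorem hyp_sum (m : ℕ) (g : Matrix.SpecialLinearGroup (Fin m) F) (u : Fin m ⊕ Fin m → F) :
    ∑ i : Fin m, (hypHom m g *ᵥ u) (Sum.inl i) * (hypHom m g *ᵥ u) (Sum.inr i) =
      ∑ i : Fin m, u (Sum.inl i) * u (Sum.inr i) := by
  have h1 : hypHom m g *ᵥ u = Sum.elim ((g : Matrix (Fin m) (Fin m) F) *ᵥ (u ∘ Sum.inl))
      (((g⁻¹ : Matrix.SpecialLinearGroup (Fin m) F) : Matrix (Fin m) (Fin m) F)ᵀ *ᵥ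
        (u ∘ Sum.inr)) := by
    show Matrix.fromBlocks _ _ _ _ *ᵥ u = _
    rw [Matrix.fromBlocks_mulVec]
    simp
  rw [h1]
  simp only [Sum.elim_inl, Sum.elim_inr]
  show ((g : Matrix (Fin m) (Fin m) F) *ᵥ (u ∘ Sum.inl)) ⬝ᵥ
    (((g⁻¹ : Matrix.SpecialLinearGroup (Fin m) F) : Matrix (Fin m) (Fin m) F)ᵀ *ᵥ
      (u ∘ Sum.inr)) = (u ∘ Sum.inl) ⬝ᵥ (u ∘ Sum.inr)
  rw [Matrix.dotProduct_mulVec, Matrix.vecMul_transpose, Matrix.mulVec_mulVec,
    ← Matrix.SpecialLinearGroup.coe_mul, inv_mul_cancel, Matrix.SpecialLinearGroup.coe_one,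
    Matrix.one_mulVec]

def spHom (m : ℕ) :
    Matrix.SpecialLinearGroup (Fin m) F →* Matrix.symplecticGroup (Fin m) F :=
  (hypHom m).codRestrict (Matrix.symplecticGroup (Fin m) F) (fun g => by
    show Matrix.fromBlocks _ _ _ _ ∈ _
    rw [SymplecticGroup.fromBlocks_mem_iff]
    refine ⟨by simp, by simp, ?_⟩
    rw [Matrix.transpose_zero, zero_mul, sub_zero, ← Matrix.transpose_mul,
      ← Matrix.SpecialLinearGroup.coe_mul, inv_mul_cancel, Matrix.SpecialLinearGroup.coe_one,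
      Matrix.transpose_one])

theorem spHom_injective (m : ℕ) : Function.Injective (spHom (F := F) m) := by
  intro g h hgh
  apply hypHom_injective m
  exact congrArg Subtype.val hgh

def isoHom {ι : Type} [Fintype ι] [DecidableEq ι] (m : ℕ) (Q : (ι → F) → F)
    (Φ : Matrix.SpecialLinearGroup (Fin m) F →* Matrix ι ι F)
    (hΦ : ∀ g u, Q (Φ g *ᵥ u) = Q u) :
    Matrix.SpecialLinearGroup (Fin m) F →* Cfsg.isometryGroup F Q :=
  (Φ.toHomUnits).codRestrict (Cfsg.isometryGroup F Q) (fun g => by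
    intro u v
    exact hΦ g u)

theorem isoHom_injective {ι : Type} [Fintype ι] [DecidableEq ι] (m : ℕ) (Q : (ι → F) → F)
    (Φ : Matrix.SpecialLinearGroup (Fin m) F →* Matrix ι ι F)
    (hΦ : ∀ g u, Q (Φ g *ᵥ u) = Q u) (hinj : Function.Injective Φ) :
    Function.Injective (isoHom m Q Φ hΦ) := by
  intro g h hgh
  apply hinj
  have h1 := congrArg (fun x : Cfsg.isometryGroup F Q => ((x : GL ι F) : Matrix ι ι F)) hgh
  exact h1

def omegaHom {ι : Type} [Fintype ι] [DecidableEq ι] (m : ℕ) (Q : (ι → F) → F)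
    (J : Matrix.SpecialLinearGroup (Fin m) F →* Cfsg.isometryGroup F Q)
    (hperf : commutator (Matrix.SpecialLinearGroup (Fin m) F) = ⊤) :
    Matrix.SpecialLinearGroup (Fin m) F →* Cfsg.Omega F Q :=
  J.codRestrict (commutator (Cfsg.isometryGroup F Q)) (fun g => by
    have h1 : g ∈ commutator (Matrix.SpecialLinearGroup (Fin m) F) := by
      rw [hperf]
      trivial
    rw [commutator_def] at h1 ⊢
    have h2 := Subgroup.mem_map_of_mem J h1
    rw [Subgroup.map_commutator] at h2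
    exact Subgroup.commutator_mono le_top le_top h2)

theorem omegaHom_injective {ι : Type} [Fintype ι] [DecidableEq ι] (m : ℕ) (Q : (ι → F) → F)
    (J : Matrix.SpecialLinearGroup (Fin m) F →* Cfsg.isometryGroup F Q)
    (hperf : commutator (Matrix.SpecialLinearGroup (Fin m) F) = ⊤)
    (hJ : Function.Injective J) : Function.Injective (omegaHom m Q J hperf) := by
  intro g h hgh
  apply hJ
  exact congrArg Subtype.val hgh

def blkHom' (α β : Type*) [Fintype α] [DecidableEq α] [Fintype β] [DecidableEq β] :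
    Matrix β β F →* Matrix (α ⊕ β) (α ⊕ β) F where
  toFun B := Matrix.fromBlocks 1 0 0 B
  map_one' := Matrix.fromBlocks_one
  map_mul' A B := by
    rw [Matrix.fromBlocks_multiply]
    simp

theorem blkHom'_injective (α β : Type*) [Fintype α] [DecidableEq α] [Fintype β] [DecidableEq β] :
    Function.Injective (blkHom' (F := F) α β) := by
  intro A B h
  have := congrArg Matrix.toBlocks₂₂ h
  simpa [blkHom'] using this

theorem plus_iso (m : ℕ) (g : Matrix.SpecialLinearGroup (Fin m) F) (u : Fin m ⊕ Fin m → F) :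
    Cfsg.quadFormPlus m F (hypHom m g *ᵥ u) = Cfsg.quadFormPlus m F u := by
  unfold Cfsg.quadFormPlus
  exact hyp_sum m g u

theorem odd_iso (m : ℕ) (g : Matrix.SpecialLinearGroup (Fin m) F)
    (u : Unit ⊕ (Fin m ⊕ Fin m) → F) :
    Cfsg.quadFormOdd m F (((blkHom' Unit (Fin m ⊕ Fin m)).comp (hypHom m)) g *ᵥ u) =
      Cfsg.quadFormOdd m F u := by
  have h1 : ((blkHom' Unit (Fin m ⊕ Fin m)).comp (hypHom m)) g *ᵥ u =
      Sum.elim (u ∘ Sum.inl) (hypHom m g *ᵥ (u ∘ Sum.inr)) := by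
    show Matrix.fromBlocks 1 0 0 (hypHom m g) *ᵥ u = _
    rw [Matrix.fromBlocks_mulVec]
    simp
  rw [h1]
  unfold Cfsg.quadFormOdd
  simp only [Sum.elim_inl, Sum.elim_inr, Function.comp]
  congr 1
  exact hyp_sum m g (u ∘ Sum.inr)

theorem minus_iso (m : ℕ) (a b : F) (g : Matrix.SpecialLinearGroup (Fin m) F)
    (u : (Fin m ⊕ Fin m) ⊕ Fin 2 → F) :
    Cfsg.quadFormMinus m F a b (((blkHom (Fin m ⊕ Fin m) (Fin 2)).comp (hypHom m)) g *ᵥ u) =
      Cfsg.quadFormMinus m F a b u := by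
  have h1 : ((blkHom (Fin m ⊕ Fin m) (Fin 2)).comp (hypHom m)) g *ᵥ u =
      Sum.elim (hypHom m g *ᵥ (u ∘ Sum.inl)) (u ∘ Sum.inr) := by
    show Matrix.fromBlocks (hypHom m g) 0 0 1 *ᵥ u = _
    rw [Matrix.fromBlocks_mulVec]
    simp
  rw [h1]
  unfold Cfsg.quadFormMinus
  simp only [Sum.elim_inl, Sum.elim_inr, Function.comp]
  congr 1
  exact hyp_sum m g (u ∘ Sum.inl)

end hyp

section unitary

variable {F : Type*} [Field F]

theorem slToMat_apply (n : ℕ) (g : Matrix.SpecialLinearGroup (Fin n) F) :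
    Cfsg.slToMat n F g = (g : Matrix (Fin n) (Fin n) F) := rfl

def altToSU (n q : ℕ) : alternatingGroup (Fin n) →* Cfsg.SU n F q :=
  (altToSL n).codRestrict (Cfsg.SU n F q) (fun σ => by
    intro u v
    rw [slToMat_apply]
    show Cfsg.hermForm n F q
      (Matrix.permMatrixHom (R := F) (σ : Equiv.Perm (Fin n)) *ᵥ u)
      (Matrix.permMatrixHom (R := F) (σ : Equiv.Perm (Fin n)) *ᵥ v) = _
    rw [Matrix.permMatrixHom_apply, Matrix.permMatrix_mulVec, Matrix.permMatrix_mulVec]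
    unfold Cfsg.hermForm
    exact Equiv.sum_comp ((σ : Equiv.Perm (Fin n))⁻¹) (fun i => u i * v i ^ q))

theorem altToSU_injective (n q : ℕ) : Function.Injective (altToSU (F := F) n q) := by
  intro σ τ h
  apply altToSL_injective (F := F) n
  exact congrArg Subtype.val h

theorem herm_sum_split (k q : ℕ) (x y : Fin (2 + k) → F) :
    Cfsg.hermForm (2 + k) F q x y =
      Cfsg.hermForm 2 F q (x ∘ finSumFinEquiv ∘ Sum.inl) (y ∘ finSumFinEquiv ∘ Sum.inl) +
        ∑ b : Fin k, x (finSumFinEquiv (Sum.inr b)) * y (finSumFinEquiv (Sum.inr b)) ^ q := by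
  unfold Cfsg.hermForm
  rw [← Equiv.sum_comp (finSumFinEquiv : Fin 2 ⊕ Fin k ≃ Fin (2 + k)), Fintype.sum_sum_type]
  rfl

theorem slBlock_mulVec (k : ℕ) (g : Matrix.SpecialLinearGroup (Fin 2) F) (u : Fin (2 + k) → F) :
    (slBlock k g : Matrix (Fin (2 + k)) (Fin (2 + k)) F) *ᵥ u =
      (Sum.elim ((g : Matrix (Fin 2) (Fin 2) F) *ᵥ (u ∘ finSumFinEquiv ∘ Sum.inl))
        (u ∘ finSumFinEquiv ∘ Sum.inr)) ∘ (finSumFinEquiv : Fin 2 ⊕ Fin k ≃ Fin (2 + k)).symm := by
  show (Matrix.reindexAlgEquiv F F (finSumFinEquiv : Fin 2 ⊕ Fin k ≃ Fin (2 + k))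
    (Matrix.fromBlocks (g : Matrix (Fin 2) (Fin 2) F) 0 0 1)) *ᵥ u = _
  rw [Matrix.reindexAlgEquiv_apply, Matrix.reindex_apply, Matrix.submatrix_mulVec_equiv,
    Matrix.fromBlocks_mulVec]
  simp [Function.comp_def]

def su2Block (k q : ℕ) : Cfsg.SU 2 F q →* Cfsg.SU (2 + k) F q :=
  ((slBlock k).comp (Cfsg.SU 2 F q).subtype).codRestrict (Cfsg.SU (2 + k) F q) (fun g => by
    intro u v
    rw [slToMat_apply]
    show Cfsg.hermForm (2 + k) F q
      ((slBlock k (g : Matrix.SpecialLinearGroup (Fin 2) F) :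
        Matrix (Fin (2 + k)) (Fin (2 + k)) F) *ᵥ u)
      ((slBlock k (g : Matrix.SpecialLinearGroup (Fin 2) F) :
        Matrix (Fin (2 + k)) (Fin (2 + k)) F) *ᵥ v) = _
    rw [slBlock_mulVec, slBlock_mulVec, herm_sum_split, herm_sum_split k q u v]
    have hg := g.2 (u ∘ finSumFinEquiv ∘ Sum.inl) (v ∘ finSumFinEquiv ∘ Sum.inl)
    rw [slToMat_apply] at hg
    have e1 : ∀ x : Fin (2 + k) → F,
        ((Sum.elim (((g : Matrix.SpecialLinearGroup (Fin 2) F) : Matrix (Fin 2) (Fin 2) F) *ᵥ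
          (x ∘ finSumFinEquiv ∘ Sum.inl)) (x ∘ finSumFinEquiv ∘ Sum.inr)) ∘
          (finSumFinEquiv : Fin 2 ⊕ Fin k ≃ Fin (2 + k)).symm) ∘ finSumFinEquiv ∘ Sum.inl =
        ((g : Matrix.SpecialLinearGroup (Fin 2) F) : Matrix (Fin 2) (Fin 2) F) *ᵥ
          (x ∘ finSumFinEquiv ∘ Sum.inl) := by
      intro x
      funext a
      simp [Function.comp_def]
    have e2 : ∀ (x : Fin (2 + k) → F) (b : Fin k),
        ((Sum.elim (((g : Matrix.SpecialLinearGroup (Fin 2) F) : Matrix (Fin 2) (Fin 2) F) *ᵥ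
          (x ∘ finSumFinEquiv ∘ Sum.inl)) (x ∘ finSumFinEquiv ∘ Sum.inr)) ∘
          (finSumFinEquiv : Fin 2 ⊕ Fin k ≃ Fin (2 + k)).symm) (finSumFinEquiv (Sum.inr b)) =
        x (finSumFinEquiv (Sum.inr b)) := by
      intro x b
      simp [Function.comp_def]
    rw [e1 u, e1 v, hg]
    congr 1
    apply Finset.sum_congr rfl
    intro b _
    rw [e2 u b, e2 v b])

theorem su2Block_injective (k q : ℕ) : Function.Injective (su2Block (F := F) k q) := by
  intro g h hgh
  apply Subtype.ext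
  apply slBlock_injective (F := F) k
  exact congrArg Subtype.val hgh

end unitary

section bounds

theorem card_quot_le {S : Type*} [Group S] [Finite S] (K : Subgroup S) :
    Nat.card (S ⧸ K) ≤ Nat.card S :=
  Nat.card_le_card_of_surjective _ (QuotientGroup.mk_surjective (s := K))

theorem pow_bound (c d C D : ℕ) (hc : c ≤ C) (hd : d ≤ D) (hc1 : 1 ≤ c) :
    c ^ (d * d) ≤ C ^ (D * D) :=
  (Nat.pow_le_pow_left hc _).trans (Nat.pow_le_pow_right (hc1.trans hc) (Nat.mul_le_mul hd hd))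

theorem family_bound {G S : Type*} [Group G] [Group S] (e : G ≃* S ⧸ Subgroup.center S)
    {ι F : Type} [Fintype ι] [DecidableEq ι] [Fintype F] [Nonempty F] (j : S → Matrix ι ι F)
    (hj : Function.Injective j) (C D : ℕ) (hc : Fintype.card F ≤ C) (hd : Fintype.card ι ≤ D) :
    Nat.card G ≤ C ^ (D * D) := by
  haveI : Finite S := Finite.of_injective j hj
  have h1 : Nat.card G = Nat.card (S ⧸ Subgroup.center S) := Nat.card_congr e.toEquiv
  have h2 : Nat.card S ≤ Nat.card (Matrix ι ι F) := Nat.card_le_card_of_injective j hj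
  have h3 : Nat.card (Matrix ι ι F) = Fintype.card F ^ (Fintype.card ι * Fintype.card ι) := by
    rw [Nat.card_eq_fintype_card]
    show Fintype.card (ι → ι → F) = _
    rw [Fintype.card_fun, Fintype.card_fun, ← pow_mul]
  rw [h1]
  refine (card_quot_le _).trans (h2.trans ?_)
  rw [h3]
  exact pow_bound _ _ _ _ hc hd Fintype.card_pos

end bounds

section core

variable (w : FreeGroup ℕ) (N₁ N₂ : ℕ)

theorem alt_fail
    (hN₁ : ∀ n, N₁ ≤ n → ∃ f : ℕ → alternatingGroup (Fin n), FreeGroup.lift f w ≠ 1)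
    (n : ℕ) (hn : N₁ ≤ n) (h4 : 4 ≤ n) :
    ¬ Law w (alternatingGroup (Fin n) ⧸ Subgroup.center (alternatingGroup (Fin n))) := by
  apply not_law_center_quot_of_center_eq_bot
  · exact alternatingGroup.center_eq_bot
      (by rw [Nat.card_eq_fintype_card, Fintype.card_fin]; exact h4)
  · intro h
    obtain ⟨f, hf⟩ := hN₁ n hn
    exact hf (h f)

theorem sl2_fail
    (hN₂ : ∀ (F : Type) [Field F] [Fintype F], N₂ ≤ Fintype.card F →
      ∃ f : ℕ → Matrix.ProjectiveSpecialLinearGroup (Fin 2) F, FreeGroup.lift f w ≠ 1)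
    (F : Type) [Field F] [Fintype F] (h : N₂ ≤ Fintype.card F) :
    ¬ Law w (Matrix.SpecialLinearGroup (Fin 2) F ⧸
      Subgroup.center (Matrix.SpecialLinearGroup (Fin 2) F)) := by
  intro hl
  obtain ⟨f, hf⟩ := hN₂ F h
  exact hf (hl f)

theorem rank_field_bound
    (hN₁ : ∀ n, N₁ ≤ n → ∃ f : ℕ → alternatingGroup (Fin n), FreeGroup.lift f w ≠ 1)
    (hN₂ : ∀ (F : Type) [Field F] [Fintype F], N₂ ≤ Fintype.card F →
      ∃ f : ℕ → Matrix.ProjectiveSpecialLinearGroup (Fin 2) F, FreeGroup.lift f w ≠ 1)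
    {S : Type} [Group S] (hl : Law w (S ⧸ Subgroup.center S))
    (m : ℕ) (F : Type) [Field F] [Fintype F] (hm : 2 ≤ m)
    (J : Matrix.SpecialLinearGroup (Fin m) F →* S) (hJ : Function.Injective J) :
    m < max N₁ 4 ∧ Fintype.card F < N₂ := by
  constructor
  · by_contra hcon
    push Not at hcon
    have h1 : N₁ ≤ m := (le_max_left _ _).trans hcon
    have h4 : 4 ≤ m := (le_max_right _ _).trans hcon
    exact alt_fail w N₁ hN₁ m h1 h4
      (law_center_quot w (J.comp (altToSL m)) (hJ.comp (altToSL_injective m)) hl)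
  · by_contra hcon
    push Not at hcon
    obtain ⟨k, rfl⟩ : ∃ k, m = 2 + k := ⟨m - 2, by omega⟩
    exact sl2_fail w N₂ hN₂ F hcon
      (law_center_quot w (J.comp (slBlock k)) (hJ.comp (slBlock_injective k)) hl)

end core

section final

variable (w : FreeGroup ℕ) (N₁ N₂ : ℕ)

theorem card_le_of_lt {c : ℕ} (h : c < N₂) : c ≤ N₂ * N₂ :=
  (Nat.le_of_lt h).trans (Nat.le_mul_self N₂)

theorem alt_case
    (hN₁ : ∀ n, N₁ ≤ n → ∃ f : ℕ → alternatingGroup (Fin n), FreeGroup.lift f w ≠ 1)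
    (G : Type*) [Group G] (n : ℕ) (e : G ≃* alternatingGroup (Fin n)) (hl : Law w G) :
    Nat.card G ≤ (max N₁ 4).factorial := by
  have h1 : n < N₁ := by
    by_contra hcon
    push Not at hcon
    obtain ⟨f, hf⟩ := hN₁ n hcon
    exact hf (law_equiv w e hl f)
  rw [Nat.card_congr e.toEquiv]
  have h2 : Nat.card (alternatingGroup (Fin n)) ≤ Nat.card (Equiv.Perm (Fin n)) :=
    Nat.card_le_card_of_injective _ Subtype.val_injective
  rw [Nat.card_eq_fintype_card (α := Equiv.Perm (Fin n)), Fintype.card_perm,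
    Fintype.card_fin] at h2
  exact h2.trans (Nat.factorial_le (h1.le.trans (le_max_left _ _)))

theorem psl_case
    (hN₁ : ∀ n, N₁ ≤ n → ∃ f : ℕ → alternatingGroup (Fin n), FreeGroup.lift f w ≠ 1)
    (hN₂ : ∀ (F : Type) [Field F] [Fintype F], N₂ ≤ Fintype.card F →
      ∃ f : ℕ → Matrix.ProjectiveSpecialLinearGroup (Fin 2) F, FreeGroup.lift f w ≠ 1)
    (G : Type*) [Group G] (F : Type) [Field F] [Fintype F] (n : ℕ) (hn : 2 ≤ n)
    (e : G ≃* Matrix.ProjectiveSpecialLinearGroup (Fin n) F) (hl : Law w G) :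
    Nat.card G ≤ (N₂ * N₂) ^ ((2 * max N₁ 4 + 1) * (2 * max N₁ 4 + 1)) := by
  have hl' : Law w (Matrix.SpecialLinearGroup (Fin n) F ⧸
      Subgroup.center (Matrix.SpecialLinearGroup (Fin n) F)) := law_equiv w e hl
  obtain ⟨h1, h2⟩ := rank_field_bound w N₁ N₂ hN₁ hN₂ hl' n F hn (MonoidHom.id _)
    Function.injective_id
  refine family_bound e (fun g => (g : Matrix (Fin n) (Fin n) F)) Subtype.val_injective _ _
    (card_le_of_lt N₂ h2) ?_
  rw [Fintype.card_fin]
  omega

theorem psp_case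
    (hN₁ : ∀ n, N₁ ≤ n → ∃ f : ℕ → alternatingGroup (Fin n), FreeGroup.lift f w ≠ 1)
    (hN₂ : ∀ (F : Type) [Field F] [Fintype F], N₂ ≤ Fintype.card F →
      ∃ f : ℕ → Matrix.ProjectiveSpecialLinearGroup (Fin 2) F, FreeGroup.lift f w ≠ 1)
    (G : Type*) [Group G] (F : Type) [Field F] [Fintype F] (m : ℕ) (hm : 2 ≤ m)
    (e : G ≃* Cfsg.PSp m F) (hl : Law w G) :
    Nat.card G ≤ (N₂ * N₂) ^ ((2 * max N₁ 4 + 1) * (2 * max N₁ 4 + 1)) := by
  have hl' : Law w (Matrix.symplecticGroup (Fin m) F ⧸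
      Subgroup.center (Matrix.symplecticGroup (Fin m) F)) := law_equiv w e hl
  obtain ⟨h1, h2⟩ := rank_field_bound w N₁ N₂ hN₁ hN₂ hl' m F hm (spHom m)
    (spHom_injective m)
  refine family_bound e (fun g => (g : Matrix (Fin m ⊕ Fin m) (Fin m ⊕ Fin m) F))
    Subtype.val_injective _ _ (card_le_of_lt N₂ h2) ?_
  rw [Fintype.card_sum, Fintype.card_fin]
  omega

theorem omega_case
    (hN₁ : ∀ n, N₁ ≤ n → ∃ f : ℕ → alternatingGroup (Fin n), FreeGroup.lift f w ≠ 1)
    (hN₂ : ∀ (F : Type) [Field F] [Fintype F], N₂ ≤ Fintype.card F →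
      ∃ f : ℕ → Matrix.ProjectiveSpecialLinearGroup (Fin 2) F, FreeGroup.lift f w ≠ 1)
    {ι : Type} [Fintype ι] [DecidableEq ι]
    (G : Type*) [Group G] (F : Type) [Field F] [Fintype F] (Q : (ι → F) → F) (m : ℕ) (hm : 3 ≤ m)
    (Φ : Matrix.SpecialLinearGroup (Fin m) F →* Matrix ι ι F)
    (hΦ : ∀ g u, Q (Φ g *ᵥ u) = Q u) (hinj : Function.Injective Φ)
    (hι : m < max N₁ 4 → Fintype.card ι ≤ 2 * max N₁ 4 + 1)
    (e : G ≃* Cfsg.POmega F Q) (hl : Law w G) :
    Nat.card G ≤ (N₂ * N₂) ^ ((2 * max N₁ 4 + 1) * (2 * max N₁ 4 + 1)) := by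
  have hl' : Law w (Cfsg.Omega F Q ⧸ Subgroup.center (Cfsg.Omega F Q)) := law_equiv w e hl
  have hperf : commutator (Matrix.SpecialLinearGroup (Fin m) F) = ⊤ :=
    Cfsg.Agent.Lib.Lead.SL_commutator_eq_top (by rw [Fintype.card_fin]; exact hm)
  obtain ⟨h1, h2⟩ := rank_field_bound w N₁ N₂ hN₁ hN₂ hl' m F (by omega)
    (omegaHom m Q (isoHom m Q Φ hΦ) hperf)
    (omegaHom_injective m Q _ hperf (isoHom_injective m Q Φ hΦ hinj))
  refine family_bound e
    (fun g => (((g : Cfsg.isometryGroup F Q) : GL ι F) : Matrix ι ι F))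
    ?_ _ _ (card_le_of_lt N₂ h2) (hι h1)
  intro a b hab
  apply Subtype.ext
  apply Subtype.ext
  exact Units.ext hab

theorem exists_field_card (F : Type) [Field F] [Fintype F] (q : ℕ)
    (hF : Fintype.card F = q ^ 2) :
    ∃ (K : Type) (_ : Field K) (_ : Fintype K), Fintype.card K = q := by
  obtain ⟨p, hchar⟩ := CharP.exists F
  haveI : Fact p.Prime := ⟨CharP.char_is_prime F p⟩
  obtain ⟨n, hp, hcard⟩ := FiniteField.card F p
  rw [hF] at hcard
  have hdvd : q ∣ p ^ (n : ℕ) := ⟨q, by rw [← hcard]; ring⟩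
  obtain ⟨j, -, rfl⟩ := (Nat.dvd_prime_pow hp).mp hdvd
  have hj : j ≠ 0 := by
    rintro rfl
    have h1 : 1 < Fintype.card F := Fintype.one_lt_card
    rw [hF] at h1
    simp at h1
  haveI : Fintype (GaloisField p j) := Fintype.ofFinite _
  refine ⟨GaloisField p j, inferInstance, inferInstance, ?_⟩
  rw [← Nat.card_eq_fintype_card, GaloisField.card p j hj]

theorem psu_case
    (hN₁ : ∀ n, N₁ ≤ n → ∃ f : ℕ → alternatingGroup (Fin n), FreeGroup.lift f w ≠ 1)
    (hN₂ : ∀ (F : Type) [Field F] [Fintype F], N₂ ≤ Fintype.card F →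
      ∃ f : ℕ → Matrix.ProjectiveSpecialLinearGroup (Fin 2) F, FreeGroup.lift f w ≠ 1)
    (G : Type*) [Group G] (F : Type) [Field F] [Fintype F] (n q : ℕ)
    (hF : Fintype.card F = q ^ 2) (hn : 3 ≤ n)
    (e : G ≃* Cfsg.PSU n F q) (hl : Law w G) :
    Nat.card G ≤ (N₂ * N₂) ^ ((2 * max N₁ 4 + 1) * (2 * max N₁ 4 + 1)) := by
  have hl' : Law w (Cfsg.SU n F q ⧸ Subgroup.center (Cfsg.SU n F q)) := law_equiv w e hl
  have h1 : n < max N₁ 4 := by
    by_contra hcon
    push Not at hcon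
    exact alt_fail w N₁ hN₁ n ((le_max_left _ _).trans hcon) ((le_max_right _ _).trans hcon)
      (law_center_quot w (altToSU n q) (altToSU_injective n q) hl')
  have h2 : q < N₂ := by
    by_contra hcon
    push Not at hcon
    obtain ⟨K, _, _, hK⟩ := exists_field_card F q hF
    obtain ⟨e2⟩ := Cfsg.Agent.S0281.result hF hK
    obtain ⟨k', rfl⟩ : ∃ k', n = 2 + k' := ⟨n - 2, by omega⟩
    refine sl2_fail w N₂ hN₂ K (by rw [hK]; exact hcon)
      (law_center_quot w ((su2Block k' q).comp e2.symm.toMonoidHom)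
        ((su2Block_injective k' q).comp e2.symm.injective) hl')
  refine family_bound e
    (fun g => ((g : Matrix.SpecialLinearGroup (Fin n) F) : Matrix (Fin n) (Fin n) F))
    (Subtype.val_injective.comp Subtype.val_injective) _ _ ?_ ?_
  · rw [hF, sq]
    exact Nat.mul_le_mul h2.le h2.le
  · rw [Fintype.card_fin]
    omega

end final

/-- A non-trivial law is satisfied by only finitely many finite simple groups that are alternating or classical, up to isomorphism: for every non-trivial element w of the free group on countably many generators there is a bound N such that every alternating group of degree ≥ 5 and every simple classical group (linear, symplectic, unitary or orthogonal, in this problem's sense) in which w is a law has order at most N. -/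
theorem result (w : FreeGroup ℕ) (hw : w ≠ 1) :
    ∃ N : ℕ, ∀ (G : Type*) [Group G] [Finite G],
      (Cfsg.IsAlternating G ∨ Cfsg.IsPSL G ∨ Cfsg.IsPSp G ∨ Cfsg.IsPSU G ∨ Cfsg.IsPOmegaOdd G ∨
          Cfsg.IsPOmegaPlus G ∨ Cfsg.IsPOmegaMinus G) →
      (∀ f : ℕ → G, FreeGroup.lift f w = 1) → Nat.card G ≤ N := by
  obtain ⟨N₁, hN₁⟩ := Cfsg.Agent.S2352.result w hw
  obtain ⟨N₂, hN₂'⟩ := Cfsg.Agent.S2353.result w hw
  have hN₂ : ∀ (F : Type) [Field F] [Fintype F], N₂ ≤ Fintype.card F →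
      ∃ f : ℕ → Matrix.ProjectiveSpecialLinearGroup (Fin 2) F, FreeGroup.lift f w ≠ 1 :=
    fun F _ _ h => hN₂' F h
  refine ⟨max (max N₁ 4).factorial
    ((N₂ * N₂) ^ ((2 * max N₁ 4 + 1) * (2 * max N₁ 4 + 1))), ?_⟩
  intro G _ _ hG hl
  rcases hG with h | h | h | h | h | h | h
  · obtain ⟨n, -, ⟨e⟩⟩ := h
    exact (alt_case w N₁ hN₁ G n e hl).trans (le_max_left _ _)
  · obtain ⟨F, _, _, n, hn, -, ⟨e⟩⟩ := h
    exact (psl_case w N₁ N₂ hN₁ hN₂ G F n hn e hl).trans (le_max_right _ _)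
  · obtain ⟨F, _, _, m, hm, -, ⟨e⟩⟩ := h
    exact (psp_case w N₁ N₂ hN₁ hN₂ G F m hm e hl).trans (le_max_right _ _)
  · obtain ⟨F, _, _, n, q, hF, hn, -, ⟨e⟩⟩ := h
    exact (psu_case w N₁ N₂ hN₁ hN₂ G F n q hF hn e hl).trans (le_max_right _ _)
  · obtain ⟨F, _, _, m, hm, -, ⟨e⟩⟩ := h
    refine (omega_case w N₁ N₂ hN₁ hN₂ G F (Cfsg.quadFormOdd m F) m hm
      ((blkHom' Unit (Fin m ⊕ Fin m)).comp (hypHom m)) (odd_iso m)
      ((blkHom'_injective _ _).comp (hypHom_injective m)) ?_ e hl).trans (le_max_right _ _)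
    intro h1
    rw [Fintype.card_sum, Fintype.card_sum, Fintype.card_fin, Fintype.card_unit]
    omega
  · obtain ⟨F, _, _, m, hm, ⟨e⟩⟩ := h
    refine (omega_case w N₁ N₂ hN₁ hN₂ G F (Cfsg.quadFormPlus m F) m (by omega)
      (hypHom m) (plus_iso m) (hypHom_injective m) ?_ e hl).trans (le_max_right _ _)
    intro h1
    rw [Fintype.card_sum, Fintype.card_fin]
    omega
  · obtain ⟨F, _, _, m, a, b, hm, -, ⟨e⟩⟩ := h
    refine (omega_case w N₁ N₂ hN₁ hN₂ G F (Cfsg.quadFormMinus (m - 1) F a b) (m - 1) (by omega)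
      ((blkHom (Fin (m - 1) ⊕ Fin (m - 1)) (Fin 2)).comp (hypHom (m - 1))) (minus_iso (m - 1) a b)
      ((blkHom_injective _ _).comp (hypHom_injective (m - 1))) ?_ e hl).trans (le_max_right _ _)
    intro h1
    rw [Fintype.card_sum, Fintype.card_sum, Fintype.card_fin, Fintype.card_fin]
    omega

end Cfsg.Agent.S2355
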