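import Cfsg.Statements.S2356

import Cfsg.Agent.Lib.helper15.SU3Inv
import Cfsg.Agent.Lib.helper15.SU3InvG
import Cfsg.Agent.Lib.helper15.SU3InvH
set_option autoImplicit false
open Cfsg

namespace Cfsg.Agent.S2356


open Matrix Finset Cfsg.Agent.Lib.Lead Cfsg.Agent.Lib.helper15.SU3Inv

section
variable {F : Type*} [Field F] [Fintype F] {q : ℕ} (σ : F →+* F)

theorem norm_eq_zero (a : F) (h : a * σ a = 0) : a = 0 := by
  rcases mul_eq_zero.mp h with h | h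
  · exact h
  · exact (map_eq_zero σ).mp h

theorem e1_ne (h2 : (2 : F) ≠ 0) (hσ : ∀ x, σ x = x ^ q) (hσσ : ∀ x, σ (σ x) = x)
    (w : Fin 3 → F) (hw : hd σ w w = 1)
    (h : invSU σ hσ hσσ e1 (hd_e1 σ) = invSU σ hσ hσσ w hw) : w 1 = 0 ∧ w 2 = 0 := by
  rw [invSU_eq_iff σ h2 hσ hσσ] at h
  have h1 := eq_smul_of_proj_eq σ w e1 hw h.symm
  constructor
  · have := congrFun h1 1
    simpa [e1] using this
  · have := congrFun h1 2
    simpa [e1] using this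

theorem comm_d_iff (h2 : (2 : F) ≠ 0) (hσ : ∀ x, σ x = x ^ q) (hσσ : ∀ x, σ (σ x) = x)
    (w : Fin 3 → F) (hw : hd σ w w = 1) :
    Commute (invSU σ hσ hσσ e1 (hd_e1 σ)) (invSU σ hσ hσσ w hw) ↔
      w 0 = 0 ∨ invSU σ hσ hσσ e1 (hd_e1 σ) = invSU σ hσ hσσ w hw := by
  rw [commute_invSU_iff σ h2 hσ hσσ, hd_e1_right]

theorem A_iff (h2 : (2 : F) ≠ 0) (hσ : ∀ x, σ x = x ^ q) (hσσ : ∀ x, σ (σ x) = x)
    (w : Fin 3 → F) :
    (invSU' σ hσ hσσ w ≠ 1 ∧ invSU' σ hσ hσσ w * invSU' σ hσ hσσ w = 1 ∧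
      invSU' σ hσ hσσ w ≠ invSU σ hσ hσσ e1 (hd_e1 σ) ∧
      Commute (invSU σ hσ hσσ e1 (hd_e1 σ)) (invSU' σ hσ hσσ w)) ↔
    (hd σ w w = 1 ∧ w 0 = 0) := by
  constructor
  · rintro ⟨h1, -, hne, hc⟩
    have hw := unit_of_invSU'_ne_one σ hσ hσσ w h1
    rw [invSU'_unit σ hσ hσσ w hw] at hne hc
    refine ⟨hw, ?_⟩
    rcases (comm_d_iff σ h2 hσ hσσ w hw).mp hc with h | h
    · exact h
    · exact absurd h.symm hne
  · rintro ⟨hw, h0⟩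
    rw [invSU'_unit σ hσ hσσ w hw]
    refine ⟨invSU_ne_one σ h2 hσ hσσ w hw, invSU_mul_self σ hσ hσσ w hw, ?_, ?_⟩
    · intro h
      obtain ⟨h1', h2'⟩ := e1_ne σ h2 hσ hσσ w hw h.symm
      rw [hd_expand, h0, h1', h2'] at hw
      simp at hw
    · exact (comm_d_iff σ h2 hσ hσσ w hw).mpr (Or.inl h0)

theorem key_alg (a A b B c C d D : F) (h1 : a * C + b * D = 0) (h1' : A * c + B * d = 0)
    (h2 : a * A + b * B = 0) (h3 : c * C + d * D = 1) : a * A = 0 := by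
  linear_combination (A * c) * h1 + (-b * D) * h1' + (d * D) * h2 + (-a * A) * h3

theorem C_iff (hF : Fintype.card F = q ^ 2) (h2 : (2 : F) ≠ 0) (hσ : ∀ x, σ x = x ^ q)
    (hσσ : ∀ x, σ (σ x) = x) (w : Fin 3 → F) :
    (invSU' σ hσ hσσ w ≠ 1 ∧ invSU' σ hσ hσσ w * invSU' σ hσ hσσ w = 1 ∧
      ¬ Commute (invSU σ hσ hσσ e1 (hd_e1 σ)) (invSU' σ hσ hσσ w) ∧
      ∀ y : Cfsg.SU 3 F q, y ≠ 1 → y * y = 1 →
        ¬ (Commute (invSU σ hσ hσσ e1 (hd_e1 σ)) y ∧ Commute y (invSU' σ hσ hσσ w))) ↔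
    (w 0 * σ (w 0) = 1 ∧ ¬ (w 1 = 0 ∧ w 2 = 0) ∧ w 1 * σ (w 1) + w 2 * σ (w 2) = 0) := by
  constructor
  · rintro ⟨h1, -, hnc, hall⟩
    have hw := unit_of_invSU'_ne_one σ hσ hσσ w h1
    rw [invSU'_unit σ hσ hσσ w hw] at hnc hall
    have hiso : w 1 * σ (w 1) + w 2 * σ (w 2) = 0 := by
      by_contra hc
      have hcfix : σ (w 1 * σ (w 1) + w 2 * σ (w 2))⁻¹ = (w 1 * σ (w 1) + w 2 * σ (w 2))⁻¹ := by
        rw [map_inv₀]
        congr 1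
        simp only [map_add, map_mul, hσσ]
        ring
      obtain ⟨a, ha⟩ := norm_surj hF σ hσ _ (inv_ne_zero hc) hcfix
      have hv' : hd σ ![0, -σ (w 2), σ (w 1)] ![0, -σ (w 2), σ (w 1)] =
          w 1 * σ (w 1) + w 2 * σ (w 2) := by
        simp [hd_expand, hσσ]
        ring
      have hu : hd σ (a • ![0, -σ (w 2), σ (w 1)]) (a • ![0, -σ (w 2), σ (w 1)]) = 1 := by
        rw [hd_smul_smul, ha, hv', inv_mul_cancel₀ hc]
      apply hall (invSU σ hσ hσσ _ hu) (invSU_ne_one σ h2 hσ hσσ _ hu)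
        (invSU_mul_self σ hσ hσσ _ hu)
      constructor
      · apply (comm_d_iff σ h2 hσ hσσ _ hu).mpr
        left
        simp
      · apply (commute_invSU_iff σ h2 hσ hσσ _ _ hu hw).mpr
        left
        rw [hd_smul_right]
        simp [hd_expand, hσσ]
        right
        ring
    have hN0 : w 0 * σ (w 0) = 1 := by
      have := hw
      rw [hd_expand] at this
      linear_combination this - hiso
    refine ⟨hN0, ?_, hiso⟩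
    rintro ⟨h1', h2'⟩
    apply hnc
    apply (comm_d_iff σ h2 hσ hσσ w hw).mpr
    right
    rw [invSU_eq_iff σ h2 hσ hσσ]
    have : w = w 0 • e1 := by
      funext i
      fin_cases i <;> simp [e1, h1', h2']
    rw [this, proj_eq_of_smul σ _ hN0]
  · rintro ⟨hN0, hne, hiso⟩
    have hw : hd σ w w = 1 := by
      rw [hd_expand]
      linear_combination hN0 + hiso
    have hw0 : w 0 ≠ 0 := by
      intro h
      rw [h] at hN0
      simp at hN0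
    rw [invSU'_unit σ hσ hσσ w hw]
    have hnc : ¬ Commute (invSU σ hσ hσσ e1 (hd_e1 σ)) (invSU σ hσ hσσ w hw) := by
      intro hc
      rcases (comm_d_iff σ h2 hσ hσσ w hw).mp hc with h | h
      · exact hw0 h
      · exact hne (e1_ne σ h2 hσ hσσ w hw h)
    refine ⟨invSU_ne_one σ h2 hσ hσσ w hw, invSU_mul_self σ hσ hσσ w hw, hnc, ?_⟩
    rintro y hy hy2 ⟨hdy, hyw⟩
    obtain ⟨u, hu, rfl⟩ := exists_invSU σ hF h2 hσ hσσ y hy hy2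
    rcases (comm_d_iff σ h2 hσ hσσ u hu).mp hdy with h0 | h0
    · rcases (commute_invSU_iff σ h2 hσ hσσ u w hu hw).mp hyw with h1 | h1
      · rw [hd_expand, h0] at h1 hu
        simp only [map_zero, mul_zero, zero_mul, zero_add] at h1 hu
        have h1' : σ (w 1) * u 1 + σ (w 2) * u 2 = 0 := by
          have := congrArg σ h1
          simpa only [map_add, map_mul, hσσ, map_zero] using this
        have ha := key_alg (w 1) (σ (w 1)) (w 2) (σ (w 2)) (u 1) (σ (u 1)) (u 2) (σ (u 2)) h1 h1'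
          hiso hu
        have hb : w 2 * σ (w 2) = 0 := by linear_combination hiso - ha
        exact hne ⟨norm_eq_zero σ _ ha, norm_eq_zero σ _ hb⟩
      · rw [h1] at hdy
        exact hnc hdy
    · rw [← h0] at hyw
      exact hnc hyw

def e2 : Fin 3 → F := Pi.single 1 1
def e3 : Fin 3 → F := Pi.single 2 1

omit [Fintype F] in
theorem hd_e2 : hd σ (e2 : Fin 3 → F) e2 = 1 := by simp [hd_expand, e2]

omit [Fintype F] in
theorem hd_e3 : hd σ (e3 : Fin 3 → F) e3 = 1 := by simp [hd_expand, e3]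

theorem path_aux (hF : Fintype.card F = q ^ 2) (h2 : (2 : F) ≠ 0) (hσ : ∀ x, σ x = x ^ q)
    (hσσ : ∀ x, σ (σ x) = x) (u w v' : Fin 3 → F) (hu : hd σ u u = 1) (hw : hd σ w w = 1)
    (h1 : hd σ v' u = 0) (h3 : hd σ w v' = 0) (hn : hd σ v' v' ≠ 0) :
    ∃ z : Cfsg.SU 3 F q, z ≠ 1 ∧ z * z = 1 ∧ Commute (invSU σ hσ hσσ u hu) z ∧
      Commute z (invSU σ hσ hσσ w hw) := by
  have hfix : σ (hd σ v' v')⁻¹ = (hd σ v' v')⁻¹ := by
    rw [map_inv₀, hd_self_fixed σ hσσ]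
  obtain ⟨a, ha⟩ := norm_surj hF σ hσ _ (inv_ne_zero hn) hfix
  have hv : hd σ (a • v') (a • v') = 1 := by
    rw [hd_smul_smul, ha, inv_mul_cancel₀ hn]
  refine ⟨invSU σ hσ hσσ _ hv, invSU_ne_one σ h2 hσ hσσ _ hv, invSU_mul_self σ hσ hσσ _ hv,
    ?_, ?_⟩
  · apply (commute_invSU_iff σ h2 hσ hσσ _ _ hu hv).mpr
    left
    rw [hd_smul_left, h1, mul_zero]
  · apply (commute_invSU_iff σ h2 hσ hσσ _ _ hv hw).mpr
    left
    rw [hd_smul_right, h3, mul_zero]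

theorem path_d (hF : Fintype.card F = q ^ 2) (h2 : (2 : F) ≠ 0) (hσ : ∀ x, σ x = x ^ q)
    (hσσ : ∀ x, σ (σ x) = x) (x : Cfsg.SU 3 F q) (hx : x ≠ 1) (hx2 : x * x = 1) :
    ∃ y z : Cfsg.SU 3 F q, y ≠ 1 ∧ y * y = 1 ∧ z ≠ 1 ∧ z * z = 1 ∧
      Commute (invSU σ hσ hσσ e1 (hd_e1 σ)) y ∧ Commute y z ∧ Commute z x := by
  obtain ⟨w, hw, rfl⟩ := exists_invSU σ hF h2 hσ hσσ x hx hx2
  have hsum : (w 1 * σ (w 1) + w 2 * σ (w 2)) + (w 2 * σ (w 2) + w 0 * σ (w 0)) +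
      (w 1 * σ (w 1) + w 0 * σ (w 0)) = 2 := by
    have := hw
    rw [hd_expand] at this
    linear_combination (2 : F) * this
  by_cases c0 : w 1 * σ (w 1) + w 2 * σ (w 2) = 0
  · by_cases c1 : w 2 * σ (w 2) + w 0 * σ (w 0) = 0
    · have c2 : w 1 * σ (w 1) + w 0 * σ (w 0) ≠ 0 := by
        intro c2
        rw [c0, c1, c2] at hsum
        apply h2
        rw [← hsum]; ring
      obtain ⟨z, hz, hz2, hc1, hc2⟩ := path_aux σ hF h2 hσ hσσ e3 w ![σ (w 1), -σ (w 0), 0]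
        (hd_e3 σ) hw (by simp [hd_expand, e3]) (by simp [hd_expand, hσσ]; ring)
        (by simp [hd_expand, hσσ]; intro h; apply c2; linear_combination h)
      refine ⟨invSU σ hσ hσσ e3 (hd_e3 σ), z, invSU_ne_one σ h2 hσ hσσ _ _,
        invSU_mul_self σ hσ hσσ _ _, hz, hz2, ?_, hc1, hc2⟩
      apply (comm_d_iff σ h2 hσ hσσ _ _).mpr
      left
      simp [e3]
    · obtain ⟨z, hz, hz2, hc1, hc2⟩ := path_aux σ hF h2 hσ hσσ e2 w ![σ (w 2), 0, -σ (w 0)]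
        (hd_e2 σ) hw (by simp [hd_expand, e2]) (by simp [hd_expand, hσσ]; ring)
        (by simp [hd_expand, hσσ]; intro h; apply c1; linear_combination h)
      refine ⟨invSU σ hσ hσσ e2 (hd_e2 σ), z, invSU_ne_one σ h2 hσ hσσ _ _,
        invSU_mul_self σ hσ hσσ _ _, hz, hz2, ?_, hc1, hc2⟩
      apply (comm_d_iff σ h2 hσ hσσ _ _).mpr
      left
      simp [e2]
  · obtain ⟨z, hz, hz2, hc1, hc2⟩ := path_aux σ hF h2 hσ hσσ e1 w ![0, σ (w 2), -σ (w 1)]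
      (hd_e1 σ) hw (by simp [hd_expand, e1]) (by simp [hd_expand, hσσ]; ring)
      (by simp [hd_expand, hσσ]; intro h; apply c0; linear_combination h)
    exact ⟨invSU σ hσ hσσ e1 (hd_e1 σ), z, invSU_ne_one σ h2 hσ hσσ _ _,
      invSU_mul_self σ hσ hσσ _ _, hz, hz2, Commute.refl _, hc1, hc2⟩

theorem split_card {G : Type*} [Finite G] (P Q : G → Prop) :
    Nat.card {x // P x} = Nat.card {x // P x ∧ Q x} + Nat.card {x // P x ∧ ¬ Q x} := by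
  have := Set.ncard_inter_add_ncard_sdiff_eq_ncard {x | P x} {x | Q x} (Set.toFinite _)
  rw [← Nat.card_coe_set_eq, ← Nat.card_coe_set_eq, ← Nat.card_coe_set_eq] at this
  exact this.symm

theorem card_partition {G : Type*} [Finite G] (I C E : G → Prop) (d : G) (hdI : I d) (hdC : C d) :
    Nat.card {x // I x} = 1 + Nat.card {x // I x ∧ x ≠ d ∧ C x} +
      Nat.card {x // I x ∧ ¬ C x ∧ E x} + Nat.card {x // I x ∧ ¬ C x ∧ ¬ E x} := by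
  have h1 := split_card I C
  have h2 := split_card (fun x => I x ∧ C x) (fun x => x = d)
  have h3 := split_card (fun x => I x ∧ ¬ C x) E
  have e1 : Nat.card {x // (I x ∧ C x) ∧ x = d} = 1 := by
    rw [Nat.card_eq_one_iff_unique]
    refine ⟨⟨?_⟩, ⟨⟨d, ⟨hdI, hdC⟩, rfl⟩⟩⟩
    rintro ⟨a, -, rfl⟩ ⟨b, -, rfl⟩
    rfl
  have e2 : Nat.card {x // (I x ∧ C x) ∧ ¬ x = d} = Nat.card {x // I x ∧ x ≠ d ∧ C x} :=
    Nat.card_congr (Equiv.subtypeEquivRight (fun x => by tauto))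
  have e3 : Nat.card {x // (I x ∧ ¬ C x) ∧ E x} = Nat.card {x // I x ∧ ¬ C x ∧ E x} :=
    Nat.card_congr (Equiv.subtypeEquivRight (fun x => by tauto))
  have e4 : Nat.card {x // (I x ∧ ¬ C x) ∧ ¬ E x} = Nat.card {x // I x ∧ ¬ C x ∧ ¬ E x} :=
    Nat.card_congr (Equiv.subtypeEquivRight (fun x => by tauto))
  rw [e1, e2] at h2
  rw [e3, e4] at h3
  omega

theorem countA (hF : Fintype.card F = q ^ 2) (h2 : (2 : F) ≠ 0) (hσ : ∀ x, σ x = x ^ q)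
    (hσσ : ∀ x, σ (σ x) = x) :
    Nat.card {x : Cfsg.SU 3 F q // x ≠ 1 ∧ x * x = 1 ∧ x ≠ invSU σ hσ hσσ e1 (hd_e1 σ) ∧
      Commute (invSU σ hσ hσσ e1 (hd_e1 σ)) x} = q * (q - 1) := by
  have hq := two_le_q hF
  have h := card_fiber σ hF h2 hσ hσσ
    (fun x => x ≠ 1 ∧ x * x = 1 ∧ x ≠ invSU σ hσ hσσ e1 (hd_e1 σ) ∧
      Commute (invSU σ hσ hσσ e1 (hd_e1 σ)) x) (fun x hx => ⟨hx.1, hx.2.1⟩)
  have h3 : Nat.card {w : Fin 3 → F // (fun x : Cfsg.SU 3 F q => x ≠ 1 ∧ x * x = 1 ∧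
      x ≠ invSU σ hσ hσσ e1 (hd_e1 σ) ∧ Commute (invSU σ hσ hσσ e1 (hd_e1 σ)) x)
      (invSU' σ hσ hσσ w)} = q ^ 3 - q := by
    rw [← card_unit_orth_e1 σ hF hσ]
    exact Nat.card_congr (Equiv.subtypeEquivRight (fun w => A_iff σ h2 hσ hσσ w))
  rw [h3] at h
  have hle : q ≤ q ^ 3 := by nlinarith
  have e : q ^ 3 - q = (q + 1) * (q * (q - 1)) := by
    zify [hle, (by omega : 1 ≤ q)]; ring
  rw [e] at h
  exact (Nat.eq_of_mul_eq_mul_left (by omega) h).symm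

theorem countC (hF : Fintype.card F = q ^ 2) (h2 : (2 : F) ≠ 0) (hσ : ∀ x, σ x = x ^ q)
    (hσσ : ∀ x, σ (σ x) = x) :
    Nat.card {x : Cfsg.SU 3 F q // x ≠ 1 ∧ x * x = 1 ∧
      ¬ Commute (invSU σ hσ hσσ e1 (hd_e1 σ)) x ∧
      ∀ y : Cfsg.SU 3 F q, y ≠ 1 → y * y = 1 →
        ¬ (Commute (invSU σ hσ hσσ e1 (hd_e1 σ)) y ∧ Commute y x)} = (q + 1) * (q ^ 2 - 1) := by
  have hq := two_le_q hF
  have h := card_fiber σ hF h2 hσ hσσ
    (fun x => x ≠ 1 ∧ x * x = 1 ∧ ¬ Commute (invSU σ hσ hσσ e1 (hd_e1 σ)) x ∧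
      ∀ y : Cfsg.SU 3 F q, y ≠ 1 → y * y = 1 →
        ¬ (Commute (invSU σ hσ hσσ e1 (hd_e1 σ)) y ∧ Commute y x)) (fun x hx => ⟨hx.1, hx.2.1⟩)
  have h3 : Nat.card {w : Fin 3 → F // (fun x : Cfsg.SU 3 F q => x ≠ 1 ∧ x * x = 1 ∧
      ¬ Commute (invSU σ hσ hσσ e1 (hd_e1 σ)) x ∧
      ∀ y : Cfsg.SU 3 F q, y ≠ 1 → y * y = 1 →
        ¬ (Commute (invSU σ hσ hσσ e1 (hd_e1 σ)) y ∧ Commute y x))
      (invSU' σ hσ hσσ w)} = (q + 1) * (q ^ 3 + q ^ 2 - q - 1) := by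
    rw [← card_type3 σ hF hσ]
    exact Nat.card_congr (Equiv.subtypeEquivRight (fun w => C_iff σ hF h2 hσ hσσ w))
  rw [h3] at h
  have h' := (Nat.eq_of_mul_eq_mul_left (by omega) h).symm
  rw [h']
  have hle1 : 1 ≤ q ^ 2 := by nlinarith
  have hle2 : q + 1 ≤ q ^ 3 + q ^ 2 := by nlinarith
  have : q ^ 3 + q ^ 2 - q - 1 = q ^ 3 + q ^ 2 - (q + 1) := by omega
  rw [this]
  zify [hle1, hle2]; ring

theorem main_d (hq : Odd q) (hF : Fintype.card F = q ^ 2) (h2 : (2 : F) ≠ 0)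
    (hσ : ∀ x, σ x = x ^ q) (hσσ : ∀ x, σ (σ x) = x) :
    Nat.card {x : ↥(Cfsg.SU 3 F q) // x ≠ 1 ∧ x * x = 1 ∧ x ≠ invSU σ hσ hσσ e1 (hd_e1 σ) ∧
      Commute (invSU σ hσ hσσ e1 (hd_e1 σ)) x} = q * (q - 1) ∧
    Nat.card {x : ↥(Cfsg.SU 3 F q) // x ≠ 1 ∧ x * x = 1 ∧
        ¬ Commute (invSU σ hσ hσσ e1 (hd_e1 σ)) x ∧
        ∃ y : ↥(Cfsg.SU 3 F q), y ≠ 1 ∧ y * y = 1 ∧
          Commute (invSU σ hσ hσσ e1 (hd_e1 σ)) y ∧ Commute y x} = q * (q - 2) * (q ^ 2 - 1) ∧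
    Nat.card {x : ↥(Cfsg.SU 3 F q) // x ≠ 1 ∧ x * x = 1 ∧
        ¬ Commute (invSU σ hσ hσσ e1 (hd_e1 σ)) x ∧
        ∀ y : ↥(Cfsg.SU 3 F q), y ≠ 1 → y * y = 1 →
          ¬ (Commute (invSU σ hσ hσσ e1 (hd_e1 σ)) y ∧ Commute y x)} = (q + 1) * (q ^ 2 - 1) ∧
    ∀ x : ↥(Cfsg.SU 3 F q), x ≠ 1 → x * x = 1 →
      ∃ y z : ↥(Cfsg.SU 3 F q), y ≠ 1 ∧ y * y = 1 ∧ z ≠ 1 ∧ z * z = 1 ∧
        Commute (invSU σ hσ hσσ e1 (hd_e1 σ)) y ∧ Commute y z ∧ Commute z x := by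
  have hq2 := two_le_q hF
  have hq3 : 3 ≤ q := by
    rcases hq with ⟨k, rfl⟩
    omega
  have hA := countA σ hF h2 hσ hσσ
  have hC := countC σ hF h2 hσ hσσ
  refine ⟨hA, ?_, hC, fun x hx hx2 => path_d σ hF h2 hσ hσσ x hx hx2⟩
  have hfin : Finite (Cfsg.SU 3 F q) := by
    classical
    exact Subtype.finite
  set d := invSU σ hσ hσσ e1 (hd_e1 σ) with hd_def
  have hP := card_partition (fun x : Cfsg.SU 3 F q => x ≠ 1 ∧ x * x = 1) (fun x => Commute d x)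
    (fun x => ∃ y : ↥(Cfsg.SU 3 F q), y ≠ 1 ∧ y * y = 1 ∧ Commute d y ∧ Commute y x) d
    ⟨invSU_ne_one σ h2 hσ hσσ _ _, invSU_mul_self σ hσ hσσ _ _⟩ (Commute.refl d)
  have eA : Nat.card {x : ↥(Cfsg.SU 3 F q) // (x ≠ 1 ∧ x * x = 1) ∧ x ≠ d ∧ Commute d x} =
      q * (q - 1) := by
    rw [← hA]
    exact Nat.card_congr (Equiv.subtypeEquivRight (fun x => by tauto))
  have eC : Nat.card {x : ↥(Cfsg.SU 3 F q) // (x ≠ 1 ∧ x * x = 1) ∧ ¬ Commute d x ∧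
      ¬ ∃ y : ↥(Cfsg.SU 3 F q), y ≠ 1 ∧ y * y = 1 ∧ Commute d y ∧ Commute y x} =
      (q + 1) * (q ^ 2 - 1) := by
    rw [← hC]
    refine Nat.card_congr (Equiv.subtypeEquivRight (fun x => ?_))
    constructor
    · rintro ⟨⟨h1, h2'⟩, h3, h4⟩
      refine ⟨h1, h2', h3, ?_⟩
      intro y hy hy2 hyc
      exact h4 ⟨y, hy, hy2, hyc.1, hyc.2⟩
    · rintro ⟨h1, h2', h3, h4⟩
      refine ⟨⟨h1, h2'⟩, h3, ?_⟩
      rintro ⟨y, hy, hy2, hc1, hc2⟩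
      exact h4 y hy hy2 ⟨hc1, hc2⟩
  have eB : Nat.card {x : ↥(Cfsg.SU 3 F q) // (x ≠ 1 ∧ x * x = 1) ∧ ¬ Commute d x ∧
      ∃ y : ↥(Cfsg.SU 3 F q), y ≠ 1 ∧ y * y = 1 ∧ Commute d y ∧ Commute y x} =
      Nat.card {x : ↥(Cfsg.SU 3 F q) // x ≠ 1 ∧ x * x = 1 ∧ ¬ Commute d x ∧
      ∃ y : ↥(Cfsg.SU 3 F q), y ≠ 1 ∧ y * y = 1 ∧ Commute d y ∧ Commute y x} :=
    Nat.card_congr (Equiv.subtypeEquivRight (fun x => by rw [and_assoc]))
  rw [eA, eC, eB, card_invol σ hF h2 hσ hσσ] at hP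
  have hle : q ≤ q ^ 2 := by nlinarith
  have hle1 : 1 ≤ q ^ 2 := by nlinarith
  have e : q ^ 2 * (q ^ 2 - q + 1) = 1 + q * (q - 1) + q * (q - 2) * (q ^ 2 - 1) +
      (q + 1) * (q ^ 2 - 1) := by
    zify [hle, hle1, (by omega : 1 ≤ q), (by omega : 2 ≤ q)]; ring
  omega

theorem conj_sq {G : Type*} [Group G] (g x : G) :
    g * x * g⁻¹ * (g * x * g⁻¹) = 1 ↔ x * x = 1 := by
  rw [conj_mul, conj_eq_one_iff]

theorem conj_surj_exists {G : Type*} [Group G] (g : G) (R : G → Prop) :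
    (∃ y, R y) ↔ ∃ y, R (g * y * g⁻¹) := by
  constructor
  · rintro ⟨y, hy⟩
    refine ⟨g⁻¹ * y * g, ?_⟩
    have : g * (g⁻¹ * y * g) * g⁻¹ = y := by group
    rw [this]; exact hy
  · rintro ⟨y, hy⟩
    exact ⟨_, hy⟩

theorem conj_surj_forall {G : Type*} [Group G] (g : G) (R : G → Prop) :
    (∀ y, R y) ↔ ∀ y, R (g * y * g⁻¹) := by
  constructor
  · intro h y
    exact h _
  · intro h y
    have : g * (g⁻¹ * y * g) * g⁻¹ = y := by group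
    rw [← this]; exact h _

theorem transport {G : Type*} [Group G] (g d : G) (nA nB nC : ℕ)
    (h : Nat.card {x : G // x ≠ 1 ∧ x * x = 1 ∧ x ≠ d ∧ Commute d x} = nA ∧
      Nat.card {x : G // x ≠ 1 ∧ x * x = 1 ∧ ¬ Commute d x ∧
        ∃ y : G, y ≠ 1 ∧ y * y = 1 ∧ Commute d y ∧ Commute y x} = nB ∧
      Nat.card {x : G // x ≠ 1 ∧ x * x = 1 ∧ ¬ Commute d x ∧
        ∀ y : G, y ≠ 1 → y * y = 1 → ¬ (Commute d y ∧ Commute y x)} = nC ∧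
      ∀ x : G, x ≠ 1 → x * x = 1 →
        ∃ y z : G, y ≠ 1 ∧ y * y = 1 ∧ z ≠ 1 ∧ z * z = 1 ∧
          Commute d y ∧ Commute y z ∧ Commute z x) :
    Nat.card {x : G // x ≠ 1 ∧ x * x = 1 ∧ x ≠ g * d * g⁻¹ ∧ Commute (g * d * g⁻¹) x} = nA ∧
      Nat.card {x : G // x ≠ 1 ∧ x * x = 1 ∧ ¬ Commute (g * d * g⁻¹) x ∧
        ∃ y : G, y ≠ 1 ∧ y * y = 1 ∧ Commute (g * d * g⁻¹) y ∧ Commute y x} = nB ∧
      Nat.card {x : G // x ≠ 1 ∧ x * x = 1 ∧ ¬ Commute (g * d * g⁻¹) x ∧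
        ∀ y : G, y ≠ 1 → y * y = 1 → ¬ (Commute (g * d * g⁻¹) y ∧ Commute y x)} = nC ∧
      ∀ x : G, x ≠ 1 → x * x = 1 →
        ∃ y z : G, y ≠ 1 ∧ y * y = 1 ∧ z ≠ 1 ∧ z * z = 1 ∧
          Commute (g * d * g⁻¹) y ∧ Commute y z ∧ Commute z x := by
  obtain ⟨hA, hB, hC, hD⟩ := h
  have c1 : ∀ x : G, g * x * g⁻¹ ≠ 1 ↔ x ≠ 1 := fun x => not_congr conj_eq_one_iff
  have c3 : ∀ x : G, g * x * g⁻¹ ≠ g * d * g⁻¹ ↔ x ≠ d := fun x => by
    rw [ne_eq, ne_eq, mul_left_inj, mul_right_inj]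
  have c4 : ∀ a b : G, Commute (g * a * g⁻¹) (g * b * g⁻¹) ↔ Commute a b :=
    fun a b => Commute.conj_iff g
  refine ⟨?_, ?_, ?_, ?_⟩
  · rw [← hA]
    symm
    refine Nat.card_congr ((MulAut.conj g).toEquiv.subtypeEquiv (fun x => ?_))
    show _ ↔ (g * x * g⁻¹ ≠ 1 ∧ g * x * g⁻¹ * (g * x * g⁻¹) = 1 ∧ g * x * g⁻¹ ≠ _ ∧
      Commute _ (g * x * g⁻¹))
    rw [c1, conj_sq, c4, c3]
  · rw [← hB]
    symm
    refine Nat.card_congr ((MulAut.conj g).toEquiv.subtypeEquiv (fun x => ?_))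
    show _ ↔ (g * x * g⁻¹ ≠ 1 ∧ g * x * g⁻¹ * (g * x * g⁻¹) = 1 ∧ ¬ Commute _ (g * x * g⁻¹) ∧
      ∃ y : G, y ≠ 1 ∧ y * y = 1 ∧ Commute (g * d * g⁻¹) y ∧ Commute y (g * x * g⁻¹))
    rw [c1, conj_sq, c4, conj_surj_exists g (fun y => y ≠ 1 ∧ y * y = 1 ∧
      Commute (g * d * g⁻¹) y ∧ Commute y (g * x * g⁻¹))]
    simp only [c1, conj_sq, c4]
  · rw [← hC]
    symm
    refine Nat.card_congr ((MulAut.conj g).toEquiv.subtypeEquiv (fun x => ?_))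
    show _ ↔ (g * x * g⁻¹ ≠ 1 ∧ g * x * g⁻¹ * (g * x * g⁻¹) = 1 ∧ ¬ Commute _ (g * x * g⁻¹) ∧
      ∀ y : G, y ≠ 1 → y * y = 1 → ¬ (Commute (g * d * g⁻¹) y ∧ Commute y (g * x * g⁻¹)))
    rw [c1, conj_sq, c4, conj_surj_forall g (fun y => y ≠ 1 → y * y = 1 →
      ¬ (Commute (g * d * g⁻¹) y ∧ Commute y (g * x * g⁻¹)))]
    simp only [c1, conj_sq, c4]
  · intro x hx hx2
    have hx' : g⁻¹ * x * g ≠ 1 := by
      intro h
      apply hx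
      have : x = g * (g⁻¹ * x * g) * g⁻¹ := by group
      rw [this, h]; group
    have hx2' : g⁻¹ * x * g * (g⁻¹ * x * g) = 1 := by
      have : g⁻¹ * x * g * (g⁻¹ * x * g) = g⁻¹ * (x * x) * g := by group
      rw [this, hx2]; group
    obtain ⟨y, z, hy, hy2, hz, hz2, h1, h2, h3⟩ := hD _ hx' hx2'
    refine ⟨g * y * g⁻¹, g * z * g⁻¹, (c1 y).mpr hy, (conj_sq g y).mpr hy2, (c1 z).mpr hz,
      (conj_sq g z).mpr hz2, (c4 d y).mpr h1, (c4 y z).mpr h2, ?_⟩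
    have := (c4 z (g⁻¹ * x * g)).mpr h3
    have e : g * (g⁻¹ * x * g) * g⁻¹ = x := by group
    rwa [e] at this

end

/-- Let q be odd, F the field with q² elements, S = SU_3(F) (determinant-one isometries of the standard Hermitian form) and t an involution of S. Then: exactly q(q−1) involutions other than t commute with t; exactly q(q−2)(q²−1) involutions do not commute with t but commute with some involution commuting with t; exactly (q+1)(q²−1) involutions x do not commute with t and admit no involution commuting with both t and x; and every involution can be reached from t in at most three steps, each step going to an involution that commutes with the previous one (the commuting involution graph is connected of diameter 3). -/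
theorem result {F : Type*} [Field F] [Fintype F] {q : ℕ} (hq : Odd q)
    (hF : Fintype.card F = q ^ 2) (t : ↥(Cfsg.SU 3 F q)) (ht : t ≠ 1) (ht2 : t * t = 1) :
    Nat.card {x : ↥(Cfsg.SU 3 F q) // x ≠ 1 ∧ x * x = 1 ∧ x ≠ t ∧ Commute t x} = q * (q - 1) ∧
    Nat.card {x : ↥(Cfsg.SU 3 F q) // x ≠ 1 ∧ x * x = 1 ∧ ¬ Commute t x ∧
        ∃ y : ↥(Cfsg.SU 3 F q), y ≠ 1 ∧ y * y = 1 ∧ Commute t y ∧ Commute y x} = q * (q - 2) * (q ^ 2 - 1) ∧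
    Nat.card {x : ↥(Cfsg.SU 3 F q) // x ≠ 1 ∧ x * x = 1 ∧ ¬ Commute t x ∧
        ∀ y : ↥(Cfsg.SU 3 F q), y ≠ 1 → y * y = 1 → ¬ (Commute t y ∧ Commute y x)} = (q + 1) * (q ^ 2 - 1) ∧
    ∀ x : ↥(Cfsg.SU 3 F q), x ≠ 1 → x * x = 1 →
      ∃ y z : ↥(Cfsg.SU 3 F q), y ≠ 1 ∧ y * y = 1 ∧ z ≠ 1 ∧ z * z = 1 ∧
        Commute t y ∧ Commute y z ∧ Commute z x := by
  obtain ⟨σ, hσ⟩ := exists_frob hF
  have hσσ := frob_frob hF σ hσ
  have h2 := two_ne_zero_of_odd hq hF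
  obtain ⟨g, hg⟩ := invol_conj_e1 σ hF h2 hσ hσσ t ht ht2
  rw [← hg]
  exact transport g _ _ _ _ (main_d σ hq hF h2 hσ hσσ)

end Cfsg.Agent.S2356
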