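import Cfsg.Statements.S2360

import Cfsg.Agent.Lib.helper15.SU3Inv
import Cfsg.Agent.Lib.helper15.SU3InvG
import Cfsg.Agent.Lib.helper15.SU3InvH
set_option autoImplicit false
open Cfsg

namespace Cfsg.Agent.S2360


open Matrix Finset Cfsg.Agent.Lib.Lead Cfsg.Agent.Lib.helper15.SU3Inv

theorem third_unique {F : Type*} [Field F] [Fintype F] {q : ℕ} (σ : F →+* F)
    (hF : Fintype.card F = q ^ 2) (h2 : (2 : F) ≠ 0) (hσ : ∀ x, σ x = x ^ q)
    (hσσ : ∀ x, σ (σ x) = x) (t x y : Cfsg.SU 3 F q) (ht : t ≠ 1) (ht2 : t * t = 1)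
    (hx : x ≠ 1) (hx2 : x * x = 1) (hxt : x ≠ t) (htx : Commute t x)
    (hy : y ≠ 1) (hy2 : y * y = 1) (hyt : y ≠ t) (hyx : y ≠ x) (hty : Commute t y)
    (hxy : Commute x y) : y = t * x := by
  obtain ⟨w, hw, rfl⟩ := exists_invSU σ hF h2 hσ hσσ t ht ht2
  obtain ⟨u, hu, rfl⟩ := exists_invSU σ hF h2 hσ hσσ x hx hx2
  obtain ⟨v, hv, rfl⟩ := exists_invSU σ hF h2 hσ hσσ y hy hy2
  have huw : hd σ u w = 0 := by
    rcases (commute_invSU_iff σ h2 hσ hσσ w u hw hu).mp htx with h | h
    · exact h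
    · exact absurd h.symm hxt
  have hvw : hd σ v w = 0 := by
    rcases (commute_invSU_iff σ h2 hσ hσσ w v hw hv).mp hty with h | h
    · exact h
    · exact absurd h.symm hyt
  have hvu : hd σ v u = 0 := by
    rcases (commute_invSU_iff σ h2 hσ hσσ u v hu hv).mp hxy with h | h
    · exact h
    · exact absurd h.symm hyx
  apply SU_ext
  rw [coe_mul_SU, coe_invSU, coe_invSU, coe_invSU]
  exact rfl3_mul_of_orth σ hσσ w u v hw hu hv huw hvw hvu

/-- Let q be odd, F the field with q² elements and S = SU_3(F) (determinant-one isometries of the standard Hermitian form). Then all involutions of S are conjugate; there are exactly q²(q²−q+1) of them; the centralizer of an involution has order q(q+1)(q²−1), the order of the full unitary group of degree 2; and for two distinct commuting involutions t and x there is exactly one further involution commuting with both. -/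
theorem result {F : Type*} [Field F] [Fintype F] {q : ℕ} (hq : Odd q)
    (hF : Fintype.card F = q ^ 2) (t : ↥(Cfsg.SU 3 F q)) (ht : t ≠ 1) (ht2 : t * t = 1) :
    (∀ x : ↥(Cfsg.SU 3 F q), x ≠ 1 → x * x = 1 → ∃ g : ↥(Cfsg.SU 3 F q), g * t * g⁻¹ = x) ∧
    Nat.card {x : ↥(Cfsg.SU 3 F q) // x ≠ 1 ∧ x * x = 1} = q ^ 2 * (q ^ 2 - q + 1) ∧
    Nat.card ↥(Subgroup.centralizer ({t} : Set ↥(Cfsg.SU 3 F q))) = q * (q + 1) * (q ^ 2 - 1) ∧
    ∀ x : ↥(Cfsg.SU 3 F q), x ≠ 1 → x * x = 1 → x ≠ t → Commute t x →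
      Nat.card {y : ↥(Cfsg.SU 3 F q) // y ≠ 1 ∧ y * y = 1 ∧ y ≠ t ∧ y ≠ x ∧ Commute t y ∧ Commute x y} = 1 := by
  obtain ⟨σ, hσ⟩ := exists_frob hF
  have hσσ := frob_frob hF σ hσ
  have h2 := two_ne_zero_of_odd hq hF
  have hq2 := two_le_q hF
  have hconj : ∀ x : ↥(Cfsg.SU 3 F q), x ≠ 1 → x * x = 1 →
      ∃ g : ↥(Cfsg.SU 3 F q), g * t * g⁻¹ = x :=
    fun x hx hx2 => invol_conj σ hF h2 hσ hσσ t x ht ht2 hx hx2
  have hcard := card_invol σ hF h2 hσ hσσ
  refine ⟨hconj, hcard, ?_, ?_⟩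
  · have hfin : Finite (Cfsg.SU 3 F q) := by
      classical
      exact Subtype.finite
    have h1 := card_conj_mul_card_centralizer t
    have h3 : Nat.card {x : ↥(Cfsg.SU 3 F q) // ∃ g : ↥(Cfsg.SU 3 F q), g * t * g⁻¹ = x} =
        q ^ 2 * (q ^ 2 - q + 1) := by
      rw [← hcard]
      apply Nat.card_congr
      apply Equiv.subtypeEquivRight
      intro x
      constructor
      · rintro ⟨g, rfl⟩
        constructor
        · intro h
          apply ht
          have : t = g⁻¹ * (g * t * g⁻¹) * g := by group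
          rw [this, h]; group
        · calc g * t * g⁻¹ * (g * t * g⁻¹) = g * (t * t) * g⁻¹ := by group
            _ = 1 := by rw [ht2]; group
      · rintro ⟨hx, hx2⟩
        exact hconj x hx hx2
    rw [h3, card_SU3 hF] at h1
    have hle : q ≤ q ^ 2 := by nlinarith
    have hle1 : 1 ≤ q ^ 2 := by nlinarith
    have e : q ^ 3 * (q ^ 2 - 1) * (q ^ 3 + 1) =
        q ^ 2 * (q ^ 2 - q + 1) * (q * (q + 1) * (q ^ 2 - 1)) := by
      zify [hle, hle1]; ring
    rw [e] at h1
    have hpos : 0 < q ^ 2 * (q ^ 2 - q + 1) := by positivity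
    exact Nat.eq_of_mul_eq_mul_left hpos h1
  · intro x hx hx2 hxt htx
    rw [Nat.card_eq_one_iff_unique]
    constructor
    · constructor
      rintro ⟨y, hy, hy2, hyt, hyx, hty, hxy⟩ ⟨y', hy', hy2', hyt', hyx', hty', hxy'⟩
      apply Subtype.ext
      show y = y'
      rw [third_unique σ hF h2 hσ hσσ t x y ht ht2 hx hx2 hxt htx hy hy2 hyt hyx hty hxy,
        third_unique σ hF h2 hσ hσσ t x y' ht ht2 hx hx2 hxt htx hy' hy2' hyt' hyx' hty' hxy']
    · refine ⟨⟨t * x, ?_, ?_, ?_, ?_, ?_, ?_⟩⟩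
      · intro h
        apply hxt
        have : x = t * (t * x) := by rw [← mul_assoc, ht2, one_mul]
        rw [this, h, mul_one]
      · calc t * x * (t * x) = t * (x * t) * x := by group
          _ = t * (t * x) * x := by rw [htx.eq]
          _ = (t * t) * (x * x) := by group
          _ = 1 := by rw [ht2, hx2, one_mul]
      · intro h
        apply hx
        have : x = t * (t * x) := by rw [← mul_assoc, ht2, one_mul]
        rw [this, h, ht2]
      · intro h
        apply ht
        have : t = (t * x) * x := by rw [mul_assoc, hx2, mul_one]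
        rw [this, h, hx2]
      · exact (Commute.refl t).mul_right htx
      · exact htx.symm.mul_right (Commute.refl x)

end Cfsg.Agent.S2360
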