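import Cfsg.Statements.S2362
import Cfsg.Agent.Lib.Lead.BCS.Defs

import Cfsg.Agent.Lib.Helper20.BCSZ1
import Cfsg.Agent.Lib.Helper28.BCSC4
import Cfsg.Agent.Lib.Helper28.BCSB0
import Cfsg.Agent.Lib.Helper25.BCSB13
import Cfsg.Agent.S0292

set_option autoImplicit false
open Cfsg

namespace Cfsg.Agent.S2362

open Cfsg.Agent.Lib.Lead.BCS

/-- Let F be a finite field of odd order and n ≥ 3. The simple orthogonal group PΩ(2n+1, F) (type B_n) and the projective symplectic group PSp(2n, F) (type C_n), which have the same order, do not have the same set of element orders. -/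
theorem result {F : Type*} [Field F] [Fintype F] (hodd : Odd (Fintype.card F)) (n : ℕ) (hn : 3 ≤ n) :
    Set.range (orderOf : Cfsg.POmega F (Cfsg.quadFormOdd n F) → ℕ) ≠ Set.range (orderOf : Cfsg.PSp n F → ℕ) := by
  classical
  obtain ⟨p, hpc⟩ := CharP.exists F
  have := hpc
  have hpf : Fact p.Prime := ⟨CharP.char_is_prime F p⟩
  obtain ⟨m, rfl⟩ : ∃ m, n = m + 1 := ⟨n - 1, by omega⟩
  have hm : 2 ≤ m := by omega
  have h2 : (2 : F) ≠ 0 := Cfsg.Agent.S0292.two_ne_zero_of_odd rfl hodd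
  have hq3 : 3 ≤ Fintype.card F := by
    have h1 : 1 < Fintype.card F := Fintype.one_lt_card
    obtain ⟨k, hk⟩ := hodd
    omega
  obtain ⟨ℓ, hℓ, hppd⟩ := bcs_ppd (Fintype.card F) m hodd hq3 hm
  have : Fact ℓ.Prime := ⟨hℓ⟩
  obtain ⟨hℓ2, hℓq, hℓd⟩ := bcs_ppd_facts (Fintype.card F) m ℓ hℓ hm (ppd_ordc hppd)
  have hpq : p ∣ Fintype.card F := by
    obtain ⟨k, -, hk⟩ := FiniteField.card F p
    rw [hk]
    exact dvd_pow_self p k.ne_zero
  have hℓp : ℓ ≠ p := by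
    rintro rfl
    exact hℓq hpq
  intro heq
  have h1 : 2 * p * ℓ ∈ Set.range (orderOf : Cfsg.PSp (m + 1) F → ℕ) :=
    bcs_psp_mem hodd m (by omega) ℓ hℓp hℓ2 hℓd
  rw [← heq] at h1
  obtain ⟨X, hX, hXo⟩ := bcs_lift h2 (m + 1) hn (2 * p * ℓ) h1
  exact bcs_pomega_not_mem hodd m hm ℓ hℓp hℓ2 hppd X hX hXo

end Cfsg.Agent.S2362
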