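import Cfsg.Statements.S2364

import Cfsg.Agent.S2468
set_option autoImplicit false
open Cfsg

namespace Cfsg.Agent.S2364


open scoped MatrixGroups
open Cfsg.Agent.Lib.helper15.SylowVal Cfsg.Agent.Lib.helper15.SylowEmb
open Cfsg.Agent.S2468

section ml

variable {F : Type*} [Field F] [Fintype F] {V : Type*} [AddCommGroup V] [Module F V] [Finite V]

lemma inf_fx_ne_bot (p : ℕ) [Fact p.Prime] [CharP F p] (x : Module.End F V) (hx : x ^ p = 1)
    (W : Submodule F V) (hW : ∀ v ∈ W, x v ∈ W) (hne : W ≠ ⊥) : W ⊓ fx x ≠ ⊥ := by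
  intro h
  have h1 := card_modEq x p hx W hW
  have : Module.Finite F V := inferInstance
  rw [h, Module.natCard_eq_pow_finrank (K := F) (V := W),
    Module.natCard_eq_pow_finrank (K := F) (V := ↥(⊥ : Submodule F V)), finrank_bot, pow_zero,
    Nat.card_eq_fintype_card] at h1
  have hpos : 0 < Module.finrank F W := by
    rw [Module.finrank_pos_iff_exists_ne_zero]
    obtain ⟨v, hv, hv0⟩ := (Submodule.ne_bot_iff W).1 hne
    exact ⟨⟨v, hv⟩, fun h0 => hv0 (congrArg Subtype.val h0)⟩
  have hpq : p ∣ Fintype.card F := by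
    obtain ⟨e, -, he⟩ := FiniteField.card F p
    rw [he]
    exact dvd_pow_self p e.pos.ne'
  have h2 : p ∣ Fintype.card F ^ Module.finrank F W := dvd_pow hpq hpos.ne'
  have h3 := (Nat.modEq_zero_iff_dvd.2 h2).symm.trans h1
  have h4 : p ∣ 1 := Nat.modEq_zero_iff_dvd.1 h3.symm
  exact (Fact.out : p.Prime).one_lt.ne' (Nat.dvd_one.1 h4)

theorem ml (p : ℕ) [Fact p.Prime] [CharP F p] (r : ℕ) [Fact r.Prime] (hrq : ¬ r ∣ Fintype.card F)
    (x y : Module.End F V) (hxy : Commute x y) (hx : x ^ p = 1) (hx1 : x ≠ 1)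
    (hy : y ^ r = 1) (hy1 : y ≠ 1) :
    2 * orderOf ((Fintype.card F : ℕ) : ZMod r) ≤ Module.finrank F V ∨
      orderOf ((Fintype.card F : ℕ) : ZMod r) + 2 ≤ Module.finrank F V := by
  have : Module.Finite F V := inferInstance
  set k := orderOf ((Fintype.card F : ℕ) : ZMod r) with hk
  have hk0 : 0 < k := orderOf_pos' _ hrq
  have hcomm : ∀ v, x (y v) = y (x v) := by
    intro v
    rw [← Module.End.mul_apply, ← Module.End.mul_apply, hxy.eq]
  have hrF : ((r : ℕ) : F) ≠ 0 := by
    rw [Ne, CharP.cast_eq_zero_iff F p r]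
    intro h
    apply hrq
    obtain ⟨e, -, he⟩ := FiniteField.card F p
    rw [he, ← (Nat.prime_dvd_prime_iff_eq Fact.out Fact.out).1 h]
    exact dvd_pow_self p e.pos.ne'
  set D : Submodule F V := LinearMap.range (y - 1) with hD
  have hdim : Module.finrank F D + Module.finrank F (fx y) = Module.finrank F V :=
    LinearMap.finrank_range_add_finrank_ker (y - 1)
  have hDy : ∀ v ∈ D, y v ∈ D := by
    rintro v ⟨u, rfl⟩
    refine ⟨y u, ?_⟩
    simp
  have hDx : ∀ v ∈ D, x v ∈ D := by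
    rintro v ⟨u, rfl⟩
    refine ⟨x u, ?_⟩
    simp [hcomm]
  have hAx : ∀ v ∈ fx y, x v ∈ fx y := by
    intro v hv
    rw [mem_fx] at hv ⊢
    rw [← hcomm, hv]
  have hfxy : ∀ v ∈ fx x, y v ∈ fx x := by
    intro v hv
    rw [mem_fx] at hv ⊢
    rw [hcomm, hv]
  have hDA : D ⊓ fx y = ⊥ := by
    rw [eq_bot_iff]
    rintro v ⟨⟨u, rfl⟩, hv⟩
    rw [SetLike.mem_coe, mem_fx] at hv
    have h1 : (∑ i ∈ Finset.range r, y ^ i) ((y - 1) u) = 0 := by
      rw [← Module.End.mul_apply, geom_sum_mul, hy, sub_self]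
      rfl
    have h2 : ∀ i : ℕ, (y ^ i) ((y - 1) u) = (y - 1) u := by
      intro i
      induction i with
      | zero => rfl
      | succ i ih => rw [pow_succ, Module.End.mul_apply, hv, ih]
    rw [LinearMap.sum_apply, Finset.sum_congr rfl (fun i _ => h2 i), Finset.sum_const,
      Finset.card_range, ← Nat.cast_smul_eq_nsmul F, smul_eq_zero] at h1
    rcases h1 with h1 | h1
    · exact absurd h1 hrF
    · exact h1
  have hDne : D ≠ ⊥ := by
    intro h
    apply hy1
    rw [hD, LinearMap.range_eq_bot] at h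
    exact sub_eq_zero.1 h
  have hkD : k ∣ Module.finrank F D := by
    have := dvd_finrank_sub y r hy hrq D hDy
    rwa [hDA, finrank_bot, Nat.sub_zero] at this
  have hDpos : 0 < Module.finrank F D := by
    rw [Module.finrank_pos_iff_exists_ne_zero]
    obtain ⟨v, hv, hv0⟩ := (Submodule.ne_bot_iff D).1 hDne
    exact ⟨⟨v, hv⟩, fun h0 => hv0 (congrArg Subtype.val h0)⟩
  by_cases hxD : D ≤ fx x
  · right
    have hsup : fx y ⊔ D = ⊤ := by
      apply Submodule.eq_top_of_finrank_eq
      have := Submodule.finrank_sup_add_finrank_inf_eq (fx y) D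
      rw [inf_comm, hDA, finrank_bot] at this
      omega
    have hnA : ¬ fx y ≤ fx x := by
      intro h
      apply hx1
      have : fx x = ⊤ := by
        rw [eq_top_iff, ← hsup]
        exact sup_le h hxD
      ext v
      have hv : v ∈ fx x := by rw [this]; trivial
      exact (mem_fx x v).1 hv
    have hAne : fx y ≠ ⊥ := by
      intro h
      apply hnA
      rw [h]
      exact bot_le
    have h1 := inf_fx_ne_bot p x hx (fx y) hAx hAne
    have h2 : fx y ⊓ fx x < fx y := lt_of_le_of_ne inf_le_left (fun h => hnA (h ▸ inf_le_right))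
    have h3 := Submodule.finrank_lt_finrank_of_lt h2
    have h4 : 0 < Module.finrank F ↥(fx y ⊓ fx x) := by
      rw [Module.finrank_pos_iff_exists_ne_zero]
      obtain ⟨v, hv, hv0⟩ := (Submodule.ne_bot_iff _).1 h1
      exact ⟨⟨v, hv⟩, fun h0 => hv0 (congrArg Subtype.val h0)⟩
    have := Nat.le_of_dvd hDpos hkD
    omega
  · left
    have h1 := inf_fx_ne_bot p x hx D hDx hDne
    have h2 : D ⊓ fx x < D := lt_of_le_of_ne inf_le_left (fun h => hxD (h ▸ inf_le_right))
    have h3 := Submodule.finrank_lt_finrank_of_lt h2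
    have h4 : 0 < Module.finrank F ↥(D ⊓ fx x) := by
      rw [Module.finrank_pos_iff_exists_ne_zero]
      obtain ⟨v, hv, hv0⟩ := (Submodule.ne_bot_iff _).1 h1
      exact ⟨⟨v, hv⟩, fun h0 => hv0 (congrArg Subtype.val h0)⟩
    have h5 : k ∣ Module.finrank F ↥(D ⊓ fx x) := by
      have := dvd_finrank_sub y r hy hrq (D ⊓ fx x) (fun v hv => ⟨hDy v hv.1, hfxy v hv.2⟩)
      have h6 : D ⊓ fx x ⊓ fx y = ⊥ := by
        rw [eq_bot_iff, ← hDA]
        exact inf_le_inf_right _ inf_le_left
      rwa [h6, finrank_bot, Nat.sub_zero] at this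
    have h7 : k ∣ Module.finrank F D - Module.finrank F ↥(D ⊓ fx x) := Nat.dvd_sub hkD h5
    have := Nat.le_of_dvd (by omega) h7
    have := Nat.le_of_dvd h4 h5
    omega

end ml

section nt

variable {F : Type*} [Field F] [Fintype F]

lemma factor_dvd_card_GL (m i : ℕ) (hi : i < m) :
    Fintype.card F ^ m - Fintype.card F ^ i ∣ Nat.card (GL (Fin m) F) := by
  rw [Matrix.card_GL_field]
  exact Finset.dvd_prod_of_mem (fun j : Fin m => Fintype.card F ^ m - Fintype.card F ^ (j : ℕ))
    (Finset.mem_univ (⟨i, hi⟩ : Fin m))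

lemma dvd_card_SL_of_dvd_pow_sub_one (m t k : ℕ) (ht : t.Prime) (h1 : ¬ t ∣ Fintype.card F - 1)
    (hk : 1 ≤ k) (hkm : k ≤ m) (h : t ∣ Fintype.card F ^ k - 1) :
    t ∣ Nat.card (Matrix.SpecialLinearGroup (Fin m) F) := by
  have h2 := factor_dvd_card_GL (F := F) m (m - k) (by omega)
  have h3 : Fintype.card F ^ m - Fintype.card F ^ (m - k) =
      Fintype.card F ^ (m - k) * (Fintype.card F ^ k - 1) := by
    rw [Nat.mul_sub, mul_one, ← pow_add]
    congr 2
    omega
  rw [h3, ← Cfsg.Agent.S2379.card_SL_mul (F := F) (n := m) (by omega)] at h2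
  have h4 : t ∣ Nat.card (Matrix.SpecialLinearGroup (Fin m) F) * (Fintype.card F - 1) :=
    (h.trans (Dvd.intro_left _ rfl)).trans h2
  rcases (Nat.Prime.dvd_mul ht).1 h4 with h5 | h5
  · exact h5
  · exact absurd h5 h1

lemma char_dvd_card_SL (p : ℕ) [Fact p.Prime] [CharP F p] (m : ℕ) (hm : 2 ≤ m) :
    p ∣ Nat.card (Matrix.SpecialLinearGroup (Fin m) F) := by
  have hpp : p.Prime := Fact.out
  have hpq : p ∣ Fintype.card F := by
    obtain ⟨e, -, he⟩ := FiniteField.card F p
    rw [he]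
    exact dvd_pow_self p e.pos.ne'
  have hq1 : 1 ≤ Fintype.card F := Fintype.card_pos
  have h2 := factor_dvd_card_GL (F := F) m 1 (by omega)
  have h3 : Fintype.card F ^ m - Fintype.card F ^ 1 =
      Fintype.card F * (Fintype.card F ^ (m - 1) - 1) := by
    rw [Nat.mul_sub, mul_one, ← pow_succ', pow_one]
    congr 2
    omega
  rw [h3, ← Cfsg.Agent.S2379.card_SL_mul (F := F) (n := m) (by omega)] at h2
  have h4 : p ∣ Nat.card (Matrix.SpecialLinearGroup (Fin m) F) * (Fintype.card F - 1) :=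
    (hpq.trans (Dvd.intro _ rfl)).trans h2
  rcases (Nat.Prime.dvd_mul hpp).1 h4 with h5 | h5
  · exact h5
  · exfalso
    have h6 : p ∣ Fintype.card F - (Fintype.card F - 1) := Nat.dvd_sub hpq h5
    have h7 : Fintype.card F - (Fintype.card F - 1) = 1 := by omega
    rw [h7] at h6
    exact hpp.one_lt.ne' (Nat.dvd_one.1 h6)

lemma dvd_card_SL_of_dvd_pred (m t : ℕ) (hm : 2 ≤ m) (h : t ∣ Fintype.card F - 1) :
    t ∣ Nat.card (Matrix.SpecialLinearGroup (Fin m) F) := by
  obtain ⟨k, rfl⟩ : ∃ k, m = (k + 1) + 1 := ⟨m - 2, by omega⟩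
  obtain ⟨a, ha⟩ := exists_unit_orderOf F t (by
    rw [Nat.card_units, Nat.card_eq_fintype_card]
    exact h)
  let ψ : Fˣ →* Matrix.SpecialLinearGroup (Fin ((k + 1) + 1)) F :=
    (Cfsg.Agent.S2379.diagSL (F := F) (k := k + 1)).comp
      (MonoidHom.mulSingle (fun _ : Fin (k + 1) => Fˣ) 0)
  have hψ : Function.Injective ψ :=
    Cfsg.Agent.S2379.diagSL_injective.comp
      (Pi.mulSingle_injective (M := fun _ : Fin (k + 1) => Fˣ) (0 : Fin (k + 1)))
  rw [← ha, ← orderOf_injective ψ hψ a]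
  exact orderOf_dvd_natCard _

end nt

section main

variable {F : Type*} [Field F] [Fintype F]

omit [Fintype F] in
lemma exists_end_of_SL (n : ℕ) (g : Matrix.SpecialLinearGroup (Fin n) F) :
    ∃ f : Module.End F (Fin n → F), ∀ m : ℕ, f ^ m = 1 ↔ g ^ m = 1 := by
  classical
  refine ⟨Matrix.toLinAlgEquiv' (g : Matrix (Fin n) (Fin n) F), ?_⟩
  intro m
  rw [← map_pow, EmbeddingLike.map_eq_one_iff, ← Matrix.SpecialLinearGroup.coe_pow,
    ← Matrix.SpecialLinearGroup.coe_one]
  exact ⟨fun h => Subtype.ext h, fun h => congrArg Subtype.val h⟩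

theorem le_of_SL_orderOf (p : ℕ) [Fact p.Prime] [CharP F p] (n : ℕ) (t : ℕ) [Fact t.Prime]
    (htq : ¬ t ∣ Fintype.card F)
    (g : Matrix.SpecialLinearGroup (Fin n) F) (hg : orderOf g = p * t) :
    2 * orderOf ((Fintype.card F : ℕ) : ZMod t) ≤ n ∨
      orderOf ((Fintype.card F : ℕ) : ZMod t) + 2 ≤ n := by
  have hp : p.Prime := Fact.out
  have ht : t.Prime := Fact.out
  obtain ⟨f, hpow⟩ := exists_end_of_SL n g
  have hf : f ^ (p * t) = 1 := by
    rw [hpow, ← hg, pow_orderOf_eq_one]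
  have hft : f ^ t ≠ 1 := by
    rw [Ne, hpow]
    intro h
    have h1 := orderOf_dvd_of_pow_eq_one h
    rw [hg] at h1
    have := Nat.le_of_dvd ht.pos h1
    have := hp.two_le
    nlinarith [ht.pos]
  have hfp : f ^ p ≠ 1 := by
    rw [Ne, hpow]
    intro h
    have h1 := orderOf_dvd_of_pow_eq_one h
    rw [hg] at h1
    have := Nat.le_of_dvd hp.pos h1
    have := ht.two_le
    nlinarith [hp.pos]
  have := ml p t htq (f ^ t) (f ^ p) (Commute.pow_pow (Commute.refl f) t p)
    (by rw [← pow_mul, mul_comm, hf]) hft (by rw [← pow_mul, hf]) hfp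
  rwa [Module.finrank_fin_fun] at this

end main

/-- Let F be a finite field of characteristic p, n ≥ 4, and let a, b be commuting elements of PSL(n, F) with a of order p. Then every prime divisor of the order of b divides the order of SL(n − 2, F). -/
theorem result {F : Type*} [Field F] [Fintype F] (p : ℕ) [Fact p.Prime] [CharP F p] (n : ℕ) (hn : 4 ≤ n)
    (a b : Matrix.ProjectiveSpecialLinearGroup (Fin n) F) (ha : orderOf a = p) (hab : Commute a b) :
    (orderOf b).primeFactors ⊆ (Nat.card (Matrix.SpecialLinearGroup (Fin (n - 2)) F)).primeFactors := by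
  classical
  intro t ht
  rw [Nat.mem_primeFactors] at ht ⊢
  obtain ⟨htp, htb, hb0⟩ := ht
  refine ⟨htp, ?_, Nat.card_pos.ne'⟩
  have hpp : p.Prime := Fact.out
  have hq1 : 1 ≤ Fintype.card F := Fintype.card_pos
  obtain ⟨e, -, he⟩ := FiniteField.card F p
  by_cases htp' : t = p
  · rw [htp']
    exact char_dvd_card_SL p (n - 2) (by omega)
  by_cases ht1 : t ∣ Fintype.card F - 1
  · exact dvd_card_SL_of_dvd_pred (n - 2) t (by omega) ht1
  have : Fact t.Prime := ⟨htp⟩
  have htq : ¬ t ∣ Fintype.card F := by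
    rw [he]
    intro h
    exact htp' ((Nat.prime_dvd_prime_iff_eq htp hpp).1 (htp.dvd_of_dvd_pow h))
  have hp1 : ¬ p ∣ Fintype.card F - 1 := by
    intro h
    have hpq : p ∣ Fintype.card F := by
      rw [he]
      exact dvd_pow_self p e.pos.ne'
    have h6 : p ∣ Fintype.card F - (Fintype.card F - 1) := Nat.dvd_sub hpq h
    have h7 : Fintype.card F - (Fintype.card F - 1) = 1 := by omega
    rw [h7] at h6
    exact hpp.one_lt.ne' (Nat.dvd_one.1 h6)
  have hk0 : 0 < orderOf ((Fintype.card F : ℕ) : ZMod t) := orderOf_pos' _ htq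
  have hk2 : 2 ≤ orderOf ((Fintype.card F : ℕ) : ZMod t) := by
    by_contra hlt
    have h1 : orderOf ((Fintype.card F : ℕ) : ZMod t) = 1 := by omega
    apply ht1
    have := (dvd_pow_sub_one_iff (r := t) _ hq1 1).2 (by rw [h1])
    simpa using this
  have hob : orderOf (b ^ (orderOf b / t)) = t := orderOf_pow_orderOf_div hb0 htb
  have hcop : Nat.Coprime p t := (Nat.coprime_primes hpp htp).2 (Ne.symm htp')
  have hord : orderOf (a * b ^ (orderOf b / t)) = p * t := by
    rw [(hab.pow_right _).orderOf_mul_eq_mul_orderOf_of_coprime (by rw [ha, hob]; exact hcop),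
      ha, hob]
  have hcen : (Nat.card (Subgroup.center (Matrix.SpecialLinearGroup (Fin n) F))).Coprime (p * t) := by
    have e := Matrix.SpecialLinearGroup.center_equiv_rootsOfUnity' (n := Fin n) (R := F) ⟨0, by omega⟩
    rw [Nat.card_congr e.toEquiv]
    have h1 : Nat.card (rootsOfUnity (Fintype.card (Fin n)) F) ∣ Fintype.card F - 1 := by
      have := Subgroup.card_subgroup_dvd_card (rootsOfUnity (Fintype.card (Fin n)) F)
      rwa [Nat.card_units, Nat.card_eq_fintype_card (α := F)] at this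
    apply Nat.Coprime.coprime_dvd_left h1
    exact (Nat.Coprime.mul_left ((Nat.Prime.coprime_iff_not_dvd hpp).2 hp1)
      ((Nat.Prime.coprime_iff_not_dvd htp).2 ht1)).symm
  obtain ⟨g, hg⟩ := (exists_orderOf_quotient_iff
    (Subgroup.center (Matrix.SpecialLinearGroup (Fin n) F)) (p * t) hcen).1 ⟨_, hord⟩
  have hle := le_of_SL_orderOf p n t htq g hg
  apply dvd_card_SL_of_dvd_pow_sub_one (n - 2) t (orderOf ((Fintype.card F : ℕ) : ZMod t)) htp ht1
    (by omega) (by omega)
  rw [dvd_pow_sub_one_iff (r := t) _ hq1]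

end Cfsg.Agent.S2364
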