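import Cfsg.Statements.S2365

import Cfsg.Agent.S0278
import Cfsg.Agent.S0279
import Cfsg.Agent.Lib.Lead.Unitary
import Cfsg.Agent.Lib.helper15.URegSemi
set_option autoImplicit false
open Cfsg

namespace Cfsg.Agent.S2365


open Cfsg.Agent.Lib.helper15.URegSemi

def ff (q i : ℕ) : ℕ := if Even i then q ^ (i + 1) + 1 else q ^ (i + 1) - 1

theorem card_su_eq {F : Type*} [Field F] [Fintype F] {q : ℕ} (hF : Fintype.card F = q ^ 2)
    (k : ℕ) (hk : 1 ≤ k) :
    Nat.card (Cfsg.SU k F q) = q ^ (k * (k - 1) / 2) * ∏ i ∈ Finset.range (k - 1), ff q (i + 1) := by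
  have h := Cfsg.Agent.S0278.result hF k hk
  obtain ⟨k', rfl⟩ : ∃ k', k = k' + 1 := ⟨k - 1, by omega⟩
  rw [Finset.prod_range_succ'] at h
  have e0 : (if Even 0 then q ^ (0 + 1) + 1 else q ^ (0 + 1) - 1) = q + 1 := by simp
  rw [e0] at h
  have h2 : (q + 1) * Nat.card (Cfsg.SU (k' + 1) F q) = (q + 1) *
      (q ^ ((k' + 1) * (k' + 1 - 1) / 2) * ∏ i ∈ Finset.range k', ff q (i + 1)) := by
    rw [h]
    unfold ff
    ring
  have h3 := Nat.eq_of_mul_eq_mul_left (by omega : 0 < q + 1) h2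
  rw [h3]
  rfl

theorem ff_dvd_card {F : Type*} [Field F] [Fintype F] {q : ℕ} (hF : Fintype.card F = q ^ 2)
    (k : ℕ) (i : ℕ) (hi1 : 1 ≤ i) (hik : i < k) : ff q i ∣ Nat.card (Cfsg.SU k F q) := by
  rw [card_su_eq hF k (by omega)]
  apply Dvd.dvd.mul_left
  obtain ⟨i', rfl⟩ : ∃ i', i = i' + 1 := ⟨i - 1, by omega⟩
  exact Finset.dvd_prod_of_mem (fun i => ff q (i + 1)) (Finset.mem_range.2 (by omega))

theorem q_dvd_card {F : Type*} [Field F] [Fintype F] {q : ℕ} (hF : Fintype.card F = q ^ 2)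
    (k : ℕ) (hk : 2 ≤ k) : q ∣ Nat.card (Cfsg.SU k F q) := by
  rw [card_su_eq hF k (by omega)]
  apply Dvd.dvd.mul_right
  apply dvd_pow_self
  have : 2 ≤ k * (k - 1) := by
    have h1 : 1 ≤ k - 1 := by omega
    calc 2 = 2 * 1 := rfl
      _ ≤ k * (k - 1) := Nat.mul_le_mul hk h1
  omega

theorem hord_of_not_dvd {F : Type*} [Field F] [Fintype F] {q : ℕ} (hF : Fintype.card F = q ^ 2)
    (hq : 1 ≤ q) (k : ℕ) (hk : 2 ≤ k) (r : ℕ) (hr : ¬ r ∣ Nat.card (Cfsg.SU k F q)) :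
    ∀ t : ℕ, 1 ≤ t → t ≤ k → ¬ (r : ℤ) ∣ (-(q : ℤ)) ^ t - 1 := by
  intro t ht1 htk hdvd
  apply hr
  have hqt : 1 ≤ q ^ t := Nat.one_le_pow _ _ hq
  by_cases ht : t = 1
  · subst ht
    have h1 : (r : ℤ) ∣ ((q + 1 : ℕ) : ℤ) := by
      have e : ((q + 1 : ℕ) : ℤ) = -((-(q : ℤ)) ^ 1 - 1) := by
        push_cast
        ring
      rw [e]
      exact (dvd_neg).2 hdvd
    have h2 : r ∣ q + 1 := Int.natCast_dvd_natCast.1 h1
    have h3 : ff q 1 = (q + 1) * (q - 1) := by
      unfold ff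
      rw [if_neg (by decide)]
      have : q ^ (1 + 1) - 1 = (q + 1) * (q - 1) := by
        obtain ⟨c, rfl⟩ : ∃ c, q = c + 1 := ⟨q - 1, by omega⟩
        have e2 : (c + 1) ^ (1 + 1) = (c + 1 + 1) * c + 1 := by ring
        rw [e2]
        simp
      exact this
    exact dvd_trans (dvd_trans h2 (Dvd.intro _ h3.symm)) (ff_dvd_card hF k 1 le_rfl (by omega))
  · have hff : r ∣ ff q (t - 1) := by
      unfold ff
      have e1 : t - 1 + 1 = t := by omega
      rw [e1]
      by_cases hev : Even (t - 1)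
      · rw [if_pos hev]
        have hodd : Odd t := by
          obtain ⟨c, hc⟩ := hev
          exact ⟨c, by omega⟩
        have e : ((q ^ t + 1 : ℕ) : ℤ) = -((-(q : ℤ)) ^ t - 1) := by
          rw [hodd.neg_pow]
          push_cast
          ring
        have h1 : (r : ℤ) ∣ ((q ^ t + 1 : ℕ) : ℤ) := by
          rw [e]
          exact (dvd_neg).2 hdvd
        exact Int.natCast_dvd_natCast.1 h1
      · rw [if_neg hev]
        have hev' : Even t := by
          rcases Nat.even_or_odd t with h | h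
          · exact h
          · exfalso
            apply hev
            obtain ⟨c, hc⟩ := h
            exact ⟨c, by omega⟩
        have e : ((q ^ t - 1 : ℕ) : ℤ) = (-(q : ℤ)) ^ t - 1 := by
          rw [hev'.neg_pow, Nat.cast_sub hqt]
          push_cast
          ring
        have h1 : (r : ℤ) ∣ ((q ^ t - 1 : ℕ) : ℤ) := by
          rw [e]
          exact hdvd
        exact Int.natCast_dvd_natCast.1 h1
    exact dvd_trans hff (ff_dvd_card hF k (t - 1) (by omega) (by omega))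

theorem su_unitary {F : Type*} [Field F] {q m : ℕ} (σ : F →+* F) (hσ : ∀ x, σ x = x ^ q)
    (s : Cfsg.SU m F q) :
    ((s : Matrix.SpecialLinearGroup (Fin m) F) : Matrix (Fin m) (Fin m) F).transpose *
      ((s : Matrix.SpecialLinearGroup (Fin m) F) : Matrix (Fin m) (Fin m) F).map σ = 1 :=
  (Cfsg.Agent.Lib.Lead.preserves_iff σ hσ _).1 (fun u v => s.2 u v)

theorem no_commuting {F : Type*} [Field F] [Fintype F] (p : ℕ) [Fact p.Prime] [CharP F p]
    (m q f : ℕ) (hm : 3 ≤ m) (hqf : q = p ^ f)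
    (r : ℕ) (hr : r.Prime) (hrp : r ≠ p)
    (hord : ∀ t : ℕ, 1 ≤ t → t ≤ m - 2 → ¬ (r : ℤ) ∣ (-(q : ℤ)) ^ t - 1)
    (s u : Cfsg.SU m F q) (j : ℕ) (hs : s ^ (r ^ j) = 1) (hs1 : s ≠ 1)
    (hu : u ^ p = 1) (hsu : u * s = s * u) : u = 1 := by
  classical
  have hp : p.Prime := Fact.out
  obtain ⟨σ, hσ⟩ : ∃ σ : F →+* F, ∀ x, σ x = x ^ q := by
    refine ⟨iterateFrobenius F p f, fun x => ?_⟩
    rw [iterateFrobenius_def, hqf]
  obtain ⟨K, hKdef⟩ : ∃ K : Type _, K = AlgebraicClosure F := ⟨_, rfl⟩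
  subst hKdef
  obtain ⟨ι, hι⟩ : ∃ ι : F →+* AlgebraicClosure F, ι = algebraMap F (AlgebraicClosure F) := ⟨_, rfl⟩
  have hιinj : Function.Injective ι := ι.injective
  have hcharK : CharP (AlgebraicClosure F) p := by
    rw [hι] at hιinj
    exact charP_of_injective_algebraMap hιinj p
  obtain ⟨Φ, hΦ⟩ : ∃ Φ : AlgebraicClosure F →+* AlgebraicClosure F, ∀ x, Φ x = x ^ q := by
    refine ⟨iterateFrobenius (AlgebraicClosure F) p f, fun x => ?_⟩
    rw [iterateFrobenius_def, hqf]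
  obtain ⟨S, hS⟩ : ∃ S : Matrix (Fin m) (Fin m) F,
      S = ((s : Matrix.SpecialLinearGroup (Fin m) F) : Matrix (Fin m) (Fin m) F) := ⟨_, rfl⟩
  obtain ⟨U, hU⟩ : ∃ U : Matrix (Fin m) (Fin m) F,
      U = ((u : Matrix.SpecialLinearGroup (Fin m) F) : Matrix (Fin m) (Fin m) F) := ⟨_, rfl⟩
  have hSun : S.transpose * S.map σ = 1 := by
    rw [hS]
    exact su_unitary σ hσ s
  have hcomp : ∀ M : Matrix (Fin m) (Fin m) F, (M.map ι).map Φ = (M.map σ).map ι := by
    intro M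
    ext a b
    simp only [Matrix.map_apply]
    rw [hΦ, hσ, map_pow]
  have hA : (S.map ι).transpose * (S.map ι).map Φ = 1 := by
    rw [hcomp, ← Matrix.transpose_map, ← Matrix.map_mul, hSun, Matrix.map_one _ (map_zero ι) (map_one ι)]
  have hSpow : S ^ (r ^ j) = 1 := by
    have h1 := congrArg (fun t : Cfsg.SU m F q =>
      ((t : Matrix.SpecialLinearGroup (Fin m) F) : Matrix (Fin m) (Fin m) F)) hs
    simp only [Subgroup.coe_pow, Matrix.SpecialLinearGroup.coe_pow, Subgroup.coe_one,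
      Matrix.SpecialLinearGroup.coe_one] at h1
    rw [hS]
    exact h1
  have hUpow : U ^ p = 1 := by
    have h1 := congrArg (fun t : Cfsg.SU m F q =>
      ((t : Matrix.SpecialLinearGroup (Fin m) F) : Matrix (Fin m) (Fin m) F)) hu
    simp only [Subgroup.coe_pow, Matrix.SpecialLinearGroup.coe_pow, Subgroup.coe_one,
      Matrix.SpecialLinearGroup.coe_one] at h1
    rw [hU]
    exact h1
  have hUS : U * S = S * U := by
    have h1 := congrArg (fun t : Cfsg.SU m F q =>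
      ((t : Matrix.SpecialLinearGroup (Fin m) F) : Matrix (Fin m) (Fin m) F)) hsu
    simp only [Subgroup.coe_mul, Matrix.SpecialLinearGroup.coe_mul] at h1
    rw [hU, hS]
    exact h1
  have hmapmul : ∀ M N : Matrix (Fin m) (Fin m) F, (M * N).map ι = M.map ι * N.map ι :=
    fun M N => Matrix.map_mul
  have hmappow : ∀ (M : Matrix (Fin m) (Fin m) F) (k : ℕ), (M ^ k).map ι = (M.map ι) ^ k := by
    intro M k
    exact map_pow ι.mapMatrix M k
  have hApow : (S.map ι) ^ (r ^ j) = 1 := by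
    rw [← hmappow, hSpow, Matrix.map_one _ (map_zero ι) (map_one ι)]
  have hS1 : S ≠ 1 := by
    intro h
    apply hs1
    apply Subtype.ext
    apply Subtype.ext
    rw [← hS, h]
    rfl
  have hA1 : S.map ι ≠ 1 := by
    intro h
    apply hS1
    have h2 : S.map ι = (1 : Matrix (Fin m) (Fin m) F).map ι := by
      rw [h, Matrix.map_one _ (map_zero ι) (map_one ι)]
    exact Matrix.map_injective hιinj h2
  have hrK : ((r : ℕ) : AlgebraicClosure F) ≠ 0 := by
    rw [Ne, CharP.cast_eq_zero_iff (AlgebraicClosure F) p]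
    intro h
    exact hrp ((Nat.prime_dvd_prime_iff_eq hp hr).1 h).symm
  have hrq : ¬ r ∣ q := by
    rw [hqf]
    intro h
    exact hrp ((Nat.prime_dvd_prime_iff_eq hr hp).1 (hr.dvd_of_dvd_pow h))
  have hne : Nonempty (Fin m) := ⟨⟨0, by omega⟩⟩
  have hNil : IsNilpotent ((U - 1).map ι) := by
    refine ⟨p, ?_⟩
    have h1 : (U - 1) ^ p = U ^ p - 1 ^ p := sub_pow_char_of_commute p (Commute.one_right U)
    rw [← hmappow, h1, hUpow, one_pow, sub_self]
    exact Matrix.map_zero _ (map_zero ι)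
  have hNA : (U - 1).map ι * S.map ι = S.map ι * (U - 1).map ι := by
    rw [← hmapmul, ← hmapmul, sub_mul, mul_sub, hUS, one_mul, mul_one]
  have h0 := core (S.map ι) ((U - 1).map ι) Φ q hΦ hA r hr j hApow hrK hrq hA1 hm hord hNil hNA
  have hU1 : U = 1 := by
    have h2 : (U - 1).map ι = (0 : Matrix (Fin m) (Fin m) F).map ι := by
      rw [h0, Matrix.map_zero _ (map_zero ι)]
    exact sub_eq_zero.1 (Matrix.map_injective hιinj h2)
  apply Subtype.ext
  apply Subtype.ext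
  rw [← hU, hU1]
  rfl

/-- Let q be a power of the prime p, F the field with q² elements, m ≥ 4, and let a, b be commuting elements of PSU(m, q) with a of order p. Then every prime divisor of the order of b divides the order of SU(m − 2, q). -/
theorem result {F : Type*} [Field F] [Fintype F] (p : ℕ) [Fact p.Prime] [CharP F p] (m q : ℕ) (hm : 4 ≤ m) (hF : Fintype.card F = q ^ 2)
    (a b : Cfsg.PSU m F q) (ha : orderOf a = p) (hab : Commute a b) :
    (orderOf b).primeFactors ⊆ (Nat.card ↥(Cfsg.SU (m - 2) F q)).primeFactors := by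
  classical
  have hp : p.Prime := Fact.out
  obtain ⟨f, hqf, hf1⟩ : ∃ f : ℕ, q = p ^ f ∧ 1 ≤ f := by
    obtain ⟨n, -, hn⟩ := FiniteField.card F p
    rw [hF] at hn
    have hdvd : q ∣ p ^ (n : ℕ) := ⟨q, by rw [← hn]; ring⟩
    obtain ⟨f, -, hf⟩ := (Nat.dvd_prime_pow hp).1 hdvd
    refine ⟨f, hf, ?_⟩
    rcases Nat.eq_zero_or_pos f with h0 | h0
    · exfalso
      rw [h0, pow_zero] at hf
      have h1 := Fintype.one_lt_card (α := F)
      rw [hF, hf] at h1
      omega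
    · exact h0
  have hpq : p ∣ q := by
    rw [hqf]
    exact dvd_pow_self p (by omega)
  have hq1 : 1 ≤ q := by
    rw [hqf]
    exact Nat.one_le_pow _ _ hp.pos
  intro r hr
  rw [Nat.mem_primeFactors] at hr ⊢
  obtain ⟨hrp, hrdvd, hb0⟩ := hr
  refine ⟨hrp, ?_, Nat.card_pos.ne'⟩
  by_contra hnd
  have hrnep : r ≠ p := by
    intro h
    apply hnd
    rw [h]
    exact dvd_trans hpq (q_dvd_card hF (m - 2) (by omega))
  have hord := hord_of_not_dvd hF hq1 (m - 2) (by omega) r hnd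
  obtain ⟨b', hb'def⟩ : ∃ b' : Cfsg.PSU m F q, b' = b ^ (orderOf b / r) := ⟨_, rfl⟩
  have hb'ord : orderOf b' = r := by
    rw [hb'def]
    exact orderOf_pow_orderOf_div hb0 hrdvd
  have hab' : Commute a b' := by
    rw [hb'def]
    exact hab.pow_right _
  obtain ⟨x, hx⟩ := QuotientGroup.mk_surjective a
  obtain ⟨y, hy⟩ := QuotientGroup.mk_surjective b'
  obtain ⟨kZ, hkZ⟩ : ∃ kZ : ℕ, kZ = Nat.card (Subgroup.center (Cfsg.SU m F q)) := ⟨_, rfl⟩
  have hkZgcd : kZ = Nat.gcd m (q + 1) := by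
    rw [hkZ]
    exact Cfsg.Agent.S0279.result hF m (by omega)
  have hkZ0 : kZ ≠ 0 := by
    rw [hkZgcd]
    exact (Nat.gcd_pos_of_pos_left _ (by omega)).ne'
  have hkZp : ¬ p ∣ kZ := by
    intro h
    have h1 : p ∣ q + 1 := dvd_trans h (by rw [hkZgcd]; exact Nat.gcd_dvd_right _ _)
    have h2 : p ∣ 1 := (Nat.dvd_add_right hpq).1 h1
    exact hp.one_lt.ne' (Nat.dvd_one.1 h2)
  have hZpow : ∀ z : Cfsg.SU m F q, z ∈ Subgroup.center (Cfsg.SU m F q) → z ^ kZ = 1 := by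
    intro z hz
    have h1 : (⟨z, hz⟩ : Subgroup.center (Cfsg.SU m F q)) ^ kZ = 1 := by
      rw [hkZ]
      exact pow_card_eq_one'
    exact congrArg Subtype.val h1
  have hmem : ∀ z : Cfsg.SU m F q,
      (QuotientGroup.mk z : Cfsg.PSU m F q) = 1 → z ∈ Subgroup.center (Cfsg.SU m F q) :=
    fun z hz => (QuotientGroup.eq_one_iff z).1 hz
  obtain ⟨u, hu⟩ : ∃ u : Cfsg.SU m F q, u = x ^ kZ := ⟨_, rfl⟩
  have hxp : x ^ p ∈ Subgroup.center (Cfsg.SU m F q) := by
    apply hmem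
    rw [QuotientGroup.mk_pow, hx, ← ha, pow_orderOf_eq_one]
  have hup : u ^ p = 1 := by
    rw [hu, ← pow_mul, mul_comm, pow_mul]
    exact hZpow _ hxp
  have humk : (QuotientGroup.mk u : Cfsg.PSU m F q) = a ^ kZ := by
    rw [hu, QuotientGroup.mk_pow, hx]
  have hu1 : u ≠ 1 := by
    intro h
    rw [h, QuotientGroup.mk_one] at humk
    have h1 := orderOf_dvd_of_pow_eq_one humk.symm
    rw [ha] at h1
    exact hkZp h1
  obtain ⟨e, k2, hk2, hkZe⟩ := Nat.exists_eq_pow_mul_and_not_dvd hkZ0 r hrp.ne_one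
  obtain ⟨s, hs⟩ : ∃ s : Cfsg.SU m F q, s = y ^ k2 := ⟨_, rfl⟩
  have hyr : y ^ r ∈ Subgroup.center (Cfsg.SU m F q) := by
    apply hmem
    rw [QuotientGroup.mk_pow, hy, ← hb'ord, pow_orderOf_eq_one]
  have hspow : s ^ (r ^ (e + 1)) = 1 := by
    have h1 := hZpow _ hyr
    rw [hs, ← pow_mul]
    rw [← pow_mul, hkZe] at h1
    have e1 : k2 * r ^ (e + 1) = r * (r ^ e * k2) := by ring
    rw [e1]
    exact h1
  have hsmk : (QuotientGroup.mk s : Cfsg.PSU m F q) = b' ^ k2 := by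
    rw [hs, QuotientGroup.mk_pow, hy]
  have hs1 : s ≠ 1 := by
    intro h
    rw [h, QuotientGroup.mk_one] at hsmk
    have h1 := orderOf_dvd_of_pow_eq_one hsmk.symm
    rw [hb'ord] at h1
    exact hk2 h1
  have hcomm : u * s = s * u := by
    obtain ⟨w, hw⟩ : ∃ w : Cfsg.SU m F q, w = s * u * s⁻¹ * u⁻¹ := ⟨_, rfl⟩
    have hwZ : w ∈ Subgroup.center (Cfsg.SU m F q) := by
      apply hmem
      rw [hw, QuotientGroup.mk_mul, QuotientGroup.mk_mul, QuotientGroup.mk_mul,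
        QuotientGroup.mk_inv, QuotientGroup.mk_inv, humk, hsmk]
      have hc : Commute (b' ^ k2) (a ^ kZ) := (hab'.pow_pow kZ k2).symm
      rw [hc.eq, mul_inv_cancel_right, mul_inv_cancel]
    have hwu : s * u * s⁻¹ = w * u := by
      rw [hw, inv_mul_cancel_right]
    have hwc : Commute w u := by
      rw [Subgroup.mem_center_iff] at hwZ
      exact (hwZ u).symm
    have h1 : (s * u * s⁻¹) ^ p = 1 := by
      rw [conj_pow, hup, mul_one, mul_inv_cancel]
    rw [hwu, hwc.mul_pow, hup, mul_one] at h1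
    have h2 := hZpow w hwZ
    have h3 : w ^ (Nat.gcd p kZ) = 1 := pow_gcd_eq_one.2 ⟨h1, h2⟩
    have h4 : Nat.gcd p kZ = 1 := (Nat.Prime.coprime_iff_not_dvd hp).2 hkZp
    rw [h4, pow_one] at h3
    rw [h3, one_mul] at hwu
    have h5 : s * u * s⁻¹ * s = u * s := by rw [hwu]
    rw [inv_mul_cancel_right] at h5
    exact h5.symm
  exact hu1 (no_commuting p m q f (by omega) hqf r hrp hrnep hord s u (e + 1) hspow hs1 hup hcomm)

end Cfsg.Agent.S2365
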