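import Cfsg.Statements.S2476

import Cfsg.Agent.S2495
import Cfsg.Agent.Lib.helper15.Spec3
set_option autoImplicit false
open Cfsg

namespace Cfsg.Agent.S2476


open Polynomial Cfsg.Agent.Lib.helper15.Spec3

section sub

variable {F : Type*} [Field F] [Fintype F]

theorem order_dvd_of_charpoly_dvd (A : Matrix.SpecialLinearGroup (Fin 3) F) (N : ℕ) (c : F)
    (h : (A : Matrix (Fin 3) (Fin 3) F).charpoly ∣ X ^ N - C c) :
    orderOf (QuotientGroup.mk A : Matrix.ProjectiveSpecialLinearGroup (Fin 3) F) ∣ N := by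
  apply orderOf_dvd_of_pow_eq_one
  rw [Cfsg.Agent.S2495.mk_pow_eq_one_iff]
  refine ⟨c, ?_⟩
  have h1 := pow_eq_of_dvd (A : Matrix (Fin 3) (Fin 3) F) _
    (Matrix.aeval_self_charpoly (A : Matrix (Fin 3) (Fin 3) F)) N c h
  rw [Matrix.SpecialLinearGroup.coe_pow, h1, Algebra.algebraMap_eq_smul_one]

theorem charpoly_facts (A : Matrix.SpecialLinearGroup (Fin 3) F) :
    (A : Matrix (Fin 3) (Fin 3) F).charpoly.Monic ∧
    (A : Matrix (Fin 3) (Fin 3) F).charpoly.natDegree = 3 ∧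
    (A : Matrix (Fin 3) (Fin 3) F).charpoly.coeff 0 = -1 := by
  refine ⟨Matrix.charpoly_monic _, ?_, ?_⟩
  · rw [Matrix.charpoly_natDegree_eq_dim, Fintype.card_fin]
  · have h := Matrix.det_eq_sign_charpoly_coeff (A : Matrix (Fin 3) (Fin 3) F)
    rw [A.det_coe, Fintype.card_fin] at h
    have h2 : ((-1 : F) ^ 3) = -1 := by norm_num
    rw [h2] at h
    have := congrArg Neg.neg h
    simp only [neg_mul, one_mul, neg_neg] at this
    exact this.symm

theorem sub_dir (p : ℕ) [Fact p.Prime] [CharP F p]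
    (g : Matrix.ProjectiveSpecialLinearGroup (Fin 3) F) :
    orderOf g ∣ (Fintype.card F ^ 2 + Fintype.card F + 1) / Nat.gcd 3 (Fintype.card F - 1) ∨
    orderOf g ∣ (Fintype.card F ^ 2 - 1) / Nat.gcd 3 (Fintype.card F - 1) ∨
    orderOf g ∣ Fintype.card F - 1 ∨
    orderOf g ∣ p * (Fintype.card F - 1) / Nat.gcd 3 (Fintype.card F - 1) ∨
    (p = 2 ∧ orderOf g ∣ 4) := by
  obtain ⟨A, rfl⟩ := QuotientGroup.mk_surjective g
  obtain ⟨hm, hdeg, h0⟩ := charpoly_facts A
  have hassoc : p * (Fintype.card F - 1) / Nat.gcd 3 (Fintype.card F - 1) =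
      p * ((Fintype.card F - 1) / Nat.gcd 3 (Fintype.card F - 1)) :=
    Nat.mul_div_assoc p (Nat.gcd_dvd_right _ _)
  rw [hassoc]
  rcases psl3_poly p _ hm hdeg h0 with ⟨c, h⟩ | ⟨c, h⟩ | ⟨c, h⟩ | ⟨c, h⟩ | ⟨hp, c, h⟩
  · left; exact order_dvd_of_charpoly_dvd A _ c h
  · right; left; exact order_dvd_of_charpoly_dvd A _ c h
  · right; right; left; exact order_dvd_of_charpoly_dvd A _ c h
  · right; right; right; left; exact order_dvd_of_charpoly_dvd A _ c h
  · right; right; right; right; exact ⟨hp, order_dvd_of_charpoly_dvd A _ c h⟩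

end sub

section sup

variable {F : Type*} [Field F] [Fintype F]

theorem exists_of_dvd {G : Type*} [Group G] (g : G) (N m : ℕ) (hN : 0 < N) (hg : orderOf g = N)
    (hm : m ∣ N) : ∃ h : G, orderOf h = m := by
  refine ⟨g ^ (N / m), ?_⟩
  have hmpos : 0 < m := Nat.pos_of_dvd_of_pos hm hN
  have h1 : N / m ≠ 0 := by
    have := Nat.div_pos (Nat.le_of_dvd hN hm) hmpos
    omega
  have h2 : N / m ∣ orderOf g := by
    rw [hg]
    exact Nat.div_dvd_of_dvd hm
  rw [orderOf_pow_of_dvd h1 h2, hg, Nat.div_div_self hm hN.ne']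

theorem order_eq_of_scalar_iff (A : Matrix.SpecialLinearGroup (Fin 3) F) (N : ℕ)
    (h : ∀ t : ℕ, (∃ c : F, ((A ^ t : Matrix.SpecialLinearGroup (Fin 3) F) :
      Matrix (Fin 3) (Fin 3) F) = c • (1 : Matrix (Fin 3) (Fin 3) F)) ↔ N ∣ t) :
    orderOf (QuotientGroup.mk A : Matrix.ProjectiveSpecialLinearGroup (Fin 3) F) = N := by
  apply Nat.dvd_antisymm
  · apply orderOf_dvd_of_pow_eq_one
    rw [Cfsg.Agent.S2495.mk_pow_eq_one_iff, h]
  · rw [← h, ← Cfsg.Agent.S2495.mk_pow_eq_one_iff]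
    exact pow_orderOf_eq_one _

theorem exists_of_scalar_iff (M : Matrix (Fin 3) (Fin 3) F) (hdet : M.det = 1) (N : ℕ)
    (h : ∀ t : ℕ, (∃ c : F, M ^ t = c • (1 : Matrix (Fin 3) (Fin 3) F)) ↔ N ∣ t) :
    ∃ g : Matrix.ProjectiveSpecialLinearGroup (Fin 3) F, orderOf g = N := by
  let A : Matrix.SpecialLinearGroup (Fin 3) F := ⟨M, hdet⟩
  have hA : (A : Matrix (Fin 3) (Fin 3) F) = M := rfl
  refine ⟨QuotientGroup.mk A, ?_⟩
  apply order_eq_of_scalar_iff
  intro t
  rw [Matrix.SpecialLinearGroup.coe_pow, hA]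
  exact h t

theorem exists_gen : ∃ a : Fˣ, orderOf a = Fintype.card F - 1 := by
  obtain ⟨a, ha⟩ := IsCyclic.exists_ofOrder_eq_natCard (α := Fˣ)
  refine ⟨a, ?_⟩
  rw [ha, Nat.card_units, Nat.card_eq_fintype_card]

theorem exists_E3 : ∃ g : Matrix.ProjectiveSpecialLinearGroup (Fin 3) F,
    orderOf g = Fintype.card F - 1 := by
  obtain ⟨a, ha⟩ := exists_gen (F := F)
  have hdet : (Matrix.diagonal ![(a : F), ((a⁻¹ : Fˣ) : F), 1]).det = 1 := by
    rw [Matrix.det_diagonal, Fin.prod_univ_three]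
    simp
  apply exists_of_scalar_iff _ hdet
  intro t
  rw [Matrix.diagonal_pow, ← ha, orderOf_dvd_iff_pow_eq_one]
  constructor
  · rintro ⟨c, hc⟩
    have h0 := congrFun (congrFun hc 0) 0
    have h2 := congrFun (congrFun hc 2) 2
    simp at h0 h2
    apply Units.ext
    rw [Units.val_pow_eq_pow_val, Units.val_one, h0, ← h2]
  · intro h
    refine ⟨1, ?_⟩
    have h' : (a : F) ^ t = 1 := by
      have := congrArg Units.val h
      simpa using this
    rw [one_smul, ← Matrix.diagonal_one]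
    congr 1
    ext i
    fin_cases i
    · simpa using h'
    · simp [h']
    · simp

theorem e4_pow (a : F) (t : ℕ) :
    (!![a, a, 0; 0, a, 0; 0, 0, (a ^ 2)⁻¹] : Matrix (Fin 3) (Fin 3) F) ^ t =
      !![a ^ t, (t : F) * a ^ t, 0; 0, a ^ t, 0; 0, 0, ((a ^ 2)⁻¹) ^ t] := by
  induction t with
  | zero =>
    rw [pow_zero, Matrix.one_fin_three]
    simp
  | succ t ih =>
    rw [pow_succ, ih, Matrix.mul_fin_three]
    congr 1
    simp only [mul_zero, add_zero, zero_mul, zero_add]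
    have h1 : a ^ t * a + (t : F) * a ^ t * a = ((t + 1 : ℕ) : F) * a ^ (t + 1) := by
      push_cast
      ring
    rw [h1, pow_succ, pow_succ ((a ^ 2)⁻¹)]

theorem p_dvd_card (p : ℕ) [Fact p.Prime] [CharP F p] : p ∣ Fintype.card F :=
  (CharP.cast_eq_zero_iff F p _).mp (Nat.cast_card_eq_zero F)

theorem coprime_p (p : ℕ) [hp : Fact p.Prime] [CharP F p] : Nat.Coprime p (Fintype.card F - 1) := by
  rw [Nat.Prime.coprime_iff_not_dvd hp.out]
  intro h
  have h1 := p_dvd_card (F := F) p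
  have hq : 1 ≤ Fintype.card F := Fintype.card_pos
  have h2 : p ∣ 1 := by
    have := Nat.dvd_sub h1 h
    rwa [Nat.sub_sub_self hq] at this
  exact hp.out.one_lt.ne' (Nat.dvd_one.mp h2)

theorem nt_three (M' t : ℕ) : M' ∣ 3 * t ↔ M' / Nat.gcd 3 M' ∣ t := by
  obtain ⟨d, hd⟩ : ∃ d, d = Nat.gcd 3 M' := ⟨_, rfl⟩
  have hdpos : 0 < d := by rw [hd]; exact Nat.gcd_pos_of_pos_left _ (by norm_num)
  obtain ⟨k, hk⟩ : d ∣ 3 := by rw [hd]; exact Nat.gcd_dvd_left _ _
  obtain ⟨M, hM⟩ : d ∣ M' := by rw [hd]; exact Nat.gcd_dvd_right _ _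
  have hcop : Nat.Coprime M k := by
    have h1 := Nat.coprime_div_gcd_div_gcd (m := 3) (n := M') (by rw [← hd]; exact hdpos)
    rw [← hd] at h1
    have h2 : 3 / d = k := Nat.div_eq_of_eq_mul_right hdpos hk
    have h3 : M' / d = M := Nat.div_eq_of_eq_mul_right hdpos hM
    rw [h2, h3] at h1
    exact h1.symm
  rw [← hd, Nat.div_eq_of_eq_mul_right hdpos hM]
  have e : 3 * t = d * (k * t) := by rw [← mul_assoc, ← hk]
  rw [e, hM]
  constructor
  · intro h
    exact hcop.dvd_of_dvd_mul_left (Nat.dvd_of_mul_dvd_mul_left hdpos h)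
  · intro h
    exact Nat.mul_dvd_mul_left d (h.trans (Nat.dvd_mul_left t k))

theorem exists_E4 (p : ℕ) [Fact p.Prime] [CharP F p] :
    ∃ g : Matrix.ProjectiveSpecialLinearGroup (Fin 3) F,
      orderOf g = p * ((Fintype.card F - 1) / Nat.gcd 3 (Fintype.card F - 1)) := by
  obtain ⟨u, hu⟩ := exists_gen (F := F)
  set a : F := (u : F) with ha
  have ha0 : a ≠ 0 := u.ne_zero
  set q := Fintype.card F with hq
  have hcoppM : Nat.Coprime p ((q - 1) / Nat.gcd 3 (q - 1)) := by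
    have h1 := coprime_p (F := F) p
    rw [← hq] at h1
    exact Nat.Coprime.coprime_div_right h1 (Nat.gcd_dvd_right _ _)
  have hpow_iff : ∀ t : ℕ, a ^ t = 1 ↔ q - 1 ∣ t := by
    intro t
    rw [← hu, orderOf_dvd_iff_pow_eq_one]
    constructor
    · intro h
      apply Units.ext
      rw [Units.val_pow_eq_pow_val, Units.val_one]
      exact h
    · intro h
      have := congrArg Units.val h
      rwa [Units.val_pow_eq_pow_val, Units.val_one] at this
  have hdet : (!![a, a, 0; 0, a, 0; 0, 0, (a ^ 2)⁻¹] : Matrix (Fin 3) (Fin 3) F).det = 1 := by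
    rw [Matrix.det_fin_three]
    simp
    field_simp
  have hinv : ∀ t : ℕ, ((a ^ 2)⁻¹) ^ t = a ^ t ↔ a ^ (3 * t) = 1 := by
    intro t
    have h5 : a ^ t ≠ 0 := pow_ne_zero _ ha0
    have h6 : a ^ (2 * t) ≠ 0 := pow_ne_zero _ ha0
    rw [inv_pow, ← pow_mul]
    have e : a ^ (3 * t) = a ^ (2 * t) * a ^ t := by rw [← pow_add]; congr 1; ring
    rw [e]
    constructor
    · intro h
      rw [← h]
      exact mul_inv_cancel₀ h6
    · intro h
      exact inv_eq_of_mul_eq_one_right h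
  apply exists_of_scalar_iff _ hdet
  intro t
  rw [e4_pow]
  have key : (∃ c : F, (!![a ^ t, (t : F) * a ^ t, 0; 0, a ^ t, 0; 0, 0, ((a ^ 2)⁻¹) ^ t] :
      Matrix (Fin 3) (Fin 3) F) = c • 1) ↔ (p ∣ t ∧ q - 1 ∣ 3 * t) := by
    constructor
    · rintro ⟨c, hc⟩
      have h00 := congrFun (congrFun hc 0) 0
      have h01 := congrFun (congrFun hc 0) 1
      have h22 := congrFun (congrFun hc 2) 2
      simp at h00 h01 h22
      refine ⟨?_, ?_⟩
      · rcases h01 with h | h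
        · exact (CharP.cast_eq_zero_iff F p t).mp h
        · exact absurd h.1 ha0
      · rw [← hpow_iff, ← hinv, h00, inv_pow]
        exact h22
    · rintro ⟨hpt, h3⟩
      have hpt' : (t : F) = 0 := (CharP.cast_eq_zero_iff F p t).mpr hpt
      rw [← hpow_iff, ← hinv] at h3
      refine ⟨a ^ t, ?_⟩
      rw [hpt', h3, Matrix.one_fin_three]
      ext i j
      fin_cases i <;> fin_cases j <;> simp
  rw [key, nt_three]
  constructor
  · rintro ⟨h1, h2⟩
    exact hcoppM.mul_dvd_of_dvd_of_dvd h1 h2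
  · intro h
    exact ⟨dvd_of_mul_right_dvd h, dvd_of_mul_left_dvd h⟩

theorem exists_E5 [CharP F 2] : ∃ g : Matrix.ProjectiveSpecialLinearGroup (Fin 3) F,
    orderOf g = 4 := by
  have h2 : (2 : F) = 0 := by
    have := CharP.cast_eq_zero F 2
    exact_mod_cast this
  have hdet : (!![1, 1, 0; 0, 1, 1; 0, 0, 1] : Matrix (Fin 3) (Fin 3) F).det = 1 := by
    rw [Matrix.det_fin_three]
    simp
  have hsq : (!![1, 1, 0; 0, 1, 1; 0, 0, 1] : Matrix (Fin 3) (Fin 3) F) ^ 2 =
      !![1, 0, 1; 0, 1, 0; 0, 0, 1] := by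
    rw [pow_two, Matrix.mul_fin_three]
    congr 1
    simp only [mul_zero, add_zero, zero_mul, zero_add, mul_one]
    have : (1 : F) + 1 = 0 := by rw [one_add_one_eq_two, h2]
    rw [this]
  have h4 : (!![1, 1, 0; 0, 1, 1; 0, 0, 1] : Matrix (Fin 3) (Fin 3) F) ^ 4 = 1 := by
    have : (4 : ℕ) = 2 * 2 := by norm_num
    rw [this, pow_mul, hsq, pow_two, Matrix.mul_fin_three, Matrix.one_fin_three]
    congr 1
    simp only [mul_zero, add_zero, zero_mul, zero_add, mul_one]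
    have : (1 : F) + 1 = 0 := by rw [one_add_one_eq_two, h2]
    rw [this]
  let A : Matrix.SpecialLinearGroup (Fin 3) F := ⟨_, hdet⟩
  have hA : (A : Matrix (Fin 3) (Fin 3) F) = !![1, 1, 0; 0, 1, 1; 0, 0, 1] := rfl
  refine ⟨QuotientGroup.mk A, ?_⟩
  haveI : Fact (Nat.Prime 2) := ⟨Nat.prime_two⟩
  have := orderOf_eq_prime_pow (x := (QuotientGroup.mk A :
    Matrix.ProjectiveSpecialLinearGroup (Fin 3) F)) (p := 2) (n := 1) ?_ ?_
  · simpa using this
  · rw [Cfsg.Agent.S2495.mk_pow_eq_one_iff, Matrix.SpecialLinearGroup.coe_pow, hA]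
    rintro ⟨c, hc⟩
    rw [pow_one, hsq] at hc
    have h02 := congrFun (congrFun hc 0) 2
    simp at h02
  · rw [Cfsg.Agent.S2495.mk_pow_eq_one_iff, Matrix.SpecialLinearGroup.coe_pow, hA]
    refine ⟨1, ?_⟩
    have : (2 : ℕ) ^ (1 + 1) = 4 := by norm_num
    rw [this, h4, one_smul]

theorem exists_E1 : ∃ g : Matrix.ProjectiveSpecialLinearGroup (Fin 3) F,
    orderOf g = (Fintype.card F ^ 2 + Fintype.card F + 1) / Nat.gcd 3 (Fintype.card F - 1) := by
  classical
  obtain ⟨p, hp⟩ := CharP.exists F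
  haveI : Fact p.Prime := ⟨CharP.char_is_prime F p⟩
  let K := FiniteField.Extension F p 3
  have hfr : Module.finrank F K = 3 := FiniteField.finrank_extension F p 3
  set q := Fintype.card F with hq
  have hq2 : 2 ≤ q := Fintype.one_lt_card
  obtain ⟨ζ, hζ⟩ := exists_gen_ext (F := F) (K := K) 3 hfr
  rw [← hq, cube_sub_one q (by omega)] at hζ
  set Φ := q ^ 2 + q + 1 with hΦ
  have hΦpos : 0 < Φ := by positivity
  let y : Kˣ := ζ ^ (q - 1)
  have hy : ∀ t : ℕ, (∃ c : F, algebraMap F K c = ((y ^ t : Kˣ) : K)) ↔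
      Φ / Nat.gcd 3 (q - 1) ∣ t := by
    intro t
    rw [mem_base_iff, ← hq, ← gcd_phi3 q (by omega), ← nt_gcd Φ (q - 1) t hΦpos]
    show ((ζ ^ (q - 1)) ^ t) ^ (q - 1) = 1 ↔ _
    rw [← pow_mul, ← pow_mul, ← orderOf_dvd_iff_pow_eq_one, hζ]
    constructor
    · intro h
      have := Nat.dvd_of_mul_dvd_mul_left (by omega) h
      rwa [mul_comm] at this
    · intro h
      apply Nat.mul_dvd_mul_left
      rwa [mul_comm]
  let b : Module.Basis (Fin 3) F K := Module.finBasisOfFinrankEq F K hfr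
  have hρinj : Function.Injective (Algebra.leftMulMatrix b) := Algebra.leftMulMatrix_injective b
  have hyΦ : (y : K) ^ Φ = 1 := by
    have : y ^ Φ = 1 := by
      show (ζ ^ (q - 1)) ^ Φ = 1
      rw [← pow_mul, ← hζ, pow_orderOf_eq_one]
    have := congrArg Units.val this
    rwa [Units.val_pow_eq_pow_val, Units.val_one] at this
  have hdet : (Algebra.leftMulMatrix b (y : K)).det = 1 := by
    rw [← Algebra.norm_eq_matrix_det b]
    have h := norm_pow_formula (F := F) (E := K) 3 hfr (y : K)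
    rw [← hq, geom3 q hq2, ← hΦ, hyΦ] at h
    exact (algebraMap F K).injective (by rw [← h, map_one])
  apply exists_of_scalar_iff _ hdet
  intro t
  rw [← hy t, ← map_pow]
  constructor
  · rintro ⟨c, hc⟩
    refine ⟨c, hρinj ?_⟩
    rw [Units.val_pow_eq_pow_val, hc, AlgHom.commutes, Algebra.algebraMap_eq_smul_one]
  · rintro ⟨c, hc⟩
    refine ⟨c, ?_⟩
    rw [Units.val_pow_eq_pow_val] at hc
    rw [← hc, AlgHom.commutes, Algebra.algebraMap_eq_smul_one]

theorem exists_E2 : ∃ g : Matrix.ProjectiveSpecialLinearGroup (Fin 3) F,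
    orderOf g = (Fintype.card F ^ 2 - 1) / Nat.gcd 3 (Fintype.card F - 1) := by
  classical
  obtain ⟨p, hp⟩ := CharP.exists F
  haveI : Fact p.Prime := ⟨CharP.char_is_prime F p⟩
  let K := FiniteField.Extension F p 2
  have hfr : Module.finrank F K = 2 := FiniteField.finrank_extension F p 2
  set q := Fintype.card F with hq
  have hq2 : 2 ≤ q := Fintype.one_lt_card
  obtain ⟨ζ, hζ⟩ := exists_gen_ext (F := F) (K := K) 2 hfr
  rw [← hq] at hζ
  have hpos : 0 < q ^ 2 - 1 := by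
    have : 2 ^ 2 ≤ q ^ 2 := Nat.pow_le_pow_left hq2 2
    omega
  let b : Module.Basis (Fin 2) F K := Module.finBasisOfFinrankEq F K hfr
  have hρinj : Function.Injective (Algebra.leftMulMatrix b) := Algebra.leftMulMatrix_injective b
  set δ : F := Algebra.norm F (ζ : K) with hδ
  have hδK : algebraMap F K δ = (ζ : K) ^ (q + 1) := by
    have h := norm_pow_formula (F := F) (E := K) 2 hfr (ζ : K)
    rw [← hq, geom2 q hq2] at h
    exact h.symm
  have hδ0 : δ ≠ 0 := by
    intro h0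
    rw [h0, map_zero] at hδK
    exact pow_ne_zero _ ζ.ne_zero hδK.symm
  let B : Matrix (Fin 2) (Fin 2) F := Algebra.leftMulMatrix b (ζ : K)
  let D : Matrix (Fin 1) (Fin 1) F := Matrix.diagonal fun _ => δ⁻¹
  let Y : Matrix (Fin 2 ⊕ Fin 1) (Fin 2 ⊕ Fin 1) F := Matrix.fromBlocks B 0 0 D
  let R : Matrix (Fin 2 ⊕ Fin 1) (Fin 2 ⊕ Fin 1) F ≃ₐ[F] Matrix (Fin 3) (Fin 3) F :=
    Matrix.reindexAlgEquiv F F (finSumFinEquiv : Fin 2 ⊕ Fin 1 ≃ Fin 3)
  have hdetB : B.det = δ := (Algebra.norm_eq_matrix_det b (ζ : K)).symm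
  have hdetD : D.det = δ⁻¹ := by
    rw [Matrix.det_diagonal]
    simp
  have hdet : (R Y).det = 1 := by
    rw [Matrix.det_reindexAlgEquiv, Matrix.det_fromBlocks_zero₂₁, hdetB, hdetD,
      mul_inv_cancel₀ hδ0]
  have hBt : ∀ t : ℕ, B ^ t = Algebra.leftMulMatrix b ((ζ : K) ^ t) := fun t => (map_pow _ _ _).symm
  have hDt : ∀ t : ℕ, D ^ t = Matrix.diagonal fun _ => (δ⁻¹) ^ t := by
    intro t
    rw [Matrix.diagonal_pow]
    rfl
  have hscal : ∀ (t : ℕ) (c : F), (R Y) ^ t = c • (1 : Matrix (Fin 3) (Fin 3) F) ↔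
      ((ζ : K) ^ t = algebraMap F K c ∧ (δ⁻¹) ^ t = c) := by
    intro t c
    rw [← map_pow]
    have h1 : c • (1 : Matrix (Fin 3) (Fin 3) F) = R (c • 1) := by rw [map_smul, map_one]
    rw [h1, R.injective.eq_iff, Matrix.fromBlocks_diagonal_pow, ← Matrix.fromBlocks_one,
      Matrix.fromBlocks_smul, Matrix.fromBlocks_inj, hBt, hDt]
    simp only [smul_zero, true_and]
    constructor
    · rintro ⟨h2, h3⟩
      refine ⟨hρinj ?_, ?_⟩
      · rw [h2, AlgHom.commutes, Algebra.algebraMap_eq_smul_one]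
      · have := congrFun (congrFun h3 0) 0
        simpa using this
    · rintro ⟨h2, h3⟩
      refine ⟨?_, ?_⟩
      · rw [h2, AlgHom.commutes, Algebra.algebraMap_eq_smul_one]
      · rw [h3]
        ext i j
        rw [Subsingleton.elim i 0, Subsingleton.elim j 0]
        simp
  apply exists_of_scalar_iff _ hdet
  intro t
  rw [← gcd_sq q hq2, ← nt_gcd (q ^ 2 - 1) (q + 2) t hpos, ← hζ,
    orderOf_dvd_iff_pow_eq_one]
  have hkey : ζ ^ ((q + 2) * t) = 1 ↔ (ζ : K) ^ t = algebraMap F K ((δ⁻¹) ^ t) := by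
    rw [map_pow, map_inv₀, hδK, inv_pow, ← pow_mul]
    have hne : (ζ : K) ^ ((q + 1) * t) ≠ 0 := pow_ne_zero _ ζ.ne_zero
    rw [← mul_eq_one_iff_eq_inv₀ hne, ← pow_add]
    have e : t + (q + 1) * t = (q + 2) * t := by ring
    rw [e]
    constructor
    · intro h
      have := congrArg Units.val h
      rwa [Units.val_pow_eq_pow_val, Units.val_one] at this
    · intro h
      apply Units.ext
      rwa [Units.val_pow_eq_pow_val, Units.val_one]
  rw [hkey]
  constructor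
  · rintro ⟨c, hc⟩
    obtain ⟨h2, h3⟩ := (hscal t c).mp hc
    rw [h3]
    exact h2
  · intro h
    exact ⟨(δ⁻¹) ^ t, (hscal t _).mpr ⟨h, rfl⟩⟩

end sup

/-- The set of element orders of PSL(3,q): let F be a finite field of characteristic p with q elements and d = gcd(3, q − 1). The orders of elements of PSL(3,F) are exactly the divisors of (q² + q + 1)/d, of (q² − 1)/d, of q − 1, of p(q − 1)/d, and, when p = 2, of 4. -/
theorem result {F : Type*} [Field F] [Fintype F] (p : ℕ) [Fact p.Prime] [CharP F p] :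
    Set.range (orderOf : Matrix.ProjectiveSpecialLinearGroup (Fin 3) F → ℕ) =
      {m : ℕ | m ∣ (Fintype.card F ^ 2 + Fintype.card F + 1) / Nat.gcd 3 (Fintype.card F - 1) ∨
        m ∣ (Fintype.card F ^ 2 - 1) / Nat.gcd 3 (Fintype.card F - 1) ∨ m ∣ Fintype.card F - 1 ∨
        m ∣ p * (Fintype.card F - 1) / Nat.gcd 3 (Fintype.card F - 1) ∨ (p = 2 ∧ m ∣ 4)} := by
  ext m
  simp only [Set.mem_range, Set.mem_setOf_eq]
  have hq2 : 2 ≤ Fintype.card F := Fintype.one_lt_card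
  have hdpos : 0 < Nat.gcd 3 (Fintype.card F - 1) := Nat.gcd_pos_of_pos_left _ (by norm_num)
  have hd3 : Nat.gcd 3 (Fintype.card F - 1) ≤ 3 := Nat.le_of_dvd (by norm_num) (Nat.gcd_dvd_left _ _)
  have hsq : 2 ^ 2 ≤ Fintype.card F ^ 2 := Nat.pow_le_pow_left hq2 2
  constructor
  · rintro ⟨g, rfl⟩
    exact sub_dir p g
  · rintro (h | h | h | h | ⟨hp, h⟩)
    · obtain ⟨g, hg⟩ := exists_E1 (F := F)
      refine exists_of_dvd g _ m ?_ hg h
      apply Nat.div_pos _ hdpos
      omega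
    · obtain ⟨g, hg⟩ := exists_E2 (F := F)
      refine exists_of_dvd g _ m ?_ hg h
      apply Nat.div_pos _ hdpos
      omega
    · obtain ⟨g, hg⟩ := exists_E3 (F := F)
      exact exists_of_dvd g _ m (by omega) hg h
    · obtain ⟨g, hg⟩ := exists_E4 (F := F) p
      rw [Nat.mul_div_assoc p (Nat.gcd_dvd_right _ _)] at h
      refine exists_of_dvd g _ m ?_ hg h
      apply Nat.mul_pos (Fact.out : p.Prime).pos
      apply Nat.div_pos _ hdpos
      exact Nat.le_of_dvd (by omega) (Nat.gcd_dvd_right _ _)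
    · subst hp
      obtain ⟨g, hg⟩ := exists_E5 (F := F)
      exact exists_of_dvd g _ m (by norm_num) hg h

end Cfsg.Agent.S2476
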