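import Cfsg.Statements.S2366

import Cfsg.Agent.S0279
import Cfsg.Agent.S2476
import Cfsg.Agent.S0755
import Cfsg.Agent.Lib.helper15.Spec3U
set_option autoImplicit false
open Cfsg

namespace Cfsg.Agent.S2366


open Polynomial Matrix Cfsg.Agent.Lib.helper15.Spec3 Cfsg.Agent.Lib.helper15.Spec3U
  Cfsg.Agent.Lib.Lead

section sub

theorem charpoly_fin_three {R : Type*} [CommRing R] (M : Matrix (Fin 3) (Fin 3) R) :
    M.charpoly = X ^ 3 - C (M.trace) * X ^ 2 + C (M.adjugate.trace) * X - C M.det := by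
  rw [Matrix.charpoly, Matrix.det_fin_three, Matrix.trace_fin_three, Matrix.trace_fin_three,
    Matrix.adjugate_fin_three, Matrix.det_fin_three]
  simp only [Matrix.charmatrix_apply, Matrix.of_apply, Matrix.cons_val', Matrix.cons_val_zero,
    Matrix.cons_val_one, Matrix.cons_val_two, Matrix.diagonal_apply]
  simp
  ring

variable {F : Type*} [Field F] [Fintype F] {q : ℕ}

theorem charpoly_SU (σ : F →+* F) (hσ : ∀ x, σ x = x ^ q) (M : Matrix (Fin 3) (Fin 3) F)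
    (hdet : M.det = 1) (hU : Mᵀ * M.map σ = 1) : M.charpoly = chi q M.trace := by
  have h1 : (M.adjugate)ᵀ = M.map σ := by
    rw [Matrix.adjugate_transpose]
    calc Mᵀ.adjugate = Mᵀ.adjugate * (Mᵀ * M.map σ) := by rw [hU, mul_one]
      _ = (Mᵀ.adjugate * Mᵀ) * M.map σ := by rw [mul_assoc]
      _ = M.map σ := by rw [Matrix.adjugate_mul, Matrix.det_transpose, hdet, one_smul, one_mul]
  have h2 : M.adjugate.trace = M.trace ^ q := by
    rw [← Matrix.trace_transpose, h1, ← hσ]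
    simp only [Matrix.trace, Matrix.diag_apply, Matrix.map_apply, map_sum]
  rw [charpoly_fin_three, h2, hdet, chi, C_1]

theorem mk_pow_eq_one_of_scalar (x : Cfsg.SU 3 F q) (t : ℕ) (c : F)
    (h : (((x ^ t : Cfsg.SU 3 F q) : Matrix.SpecialLinearGroup (Fin 3) F) :
      Matrix (Fin 3) (Fin 3) F) = c • (1 : Matrix (Fin 3) (Fin 3) F)) :
    (QuotientGroup.mk x : Cfsg.PSU 3 F q) ^ t = 1 := by
  rw [← QuotientGroup.mk_pow, QuotientGroup.eq_one_iff, Subgroup.mem_center_iff]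
  intro B
  apply Subtype.ext
  apply Subtype.ext
  show ((B : Matrix.SpecialLinearGroup (Fin 3) F) : Matrix (Fin 3) (Fin 3) F) *
    (((x ^ t : Cfsg.SU 3 F q) : Matrix.SpecialLinearGroup (Fin 3) F) : Matrix (Fin 3) (Fin 3) F) =
    (((x ^ t : Cfsg.SU 3 F q) : Matrix.SpecialLinearGroup (Fin 3) F) : Matrix (Fin 3) (Fin 3) F) *
    ((B : Matrix.SpecialLinearGroup (Fin 3) F) : Matrix (Fin 3) (Fin 3) F)
  rw [h]
  simp

theorem coe_pow_SU (x : Cfsg.SU 3 F q) (t : ℕ) :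
    (((x ^ t : Cfsg.SU 3 F q) : Matrix.SpecialLinearGroup (Fin 3) F) :
      Matrix (Fin 3) (Fin 3) F) =
    ((x : Matrix.SpecialLinearGroup (Fin 3) F) : Matrix (Fin 3) (Fin 3) F) ^ t := by
  rw [Subgroup.coe_pow, Matrix.SpecialLinearGroup.coe_pow]

theorem q_pow (p : ℕ) [Fact p.Prime] [CharP F p] (hF : Fintype.card F = q ^ 2) :
    ∃ k : ℕ, q = p ^ k := by
  obtain ⟨n, hp, hcard⟩ := FiniteField.card F p
  rw [hF] at hcard
  have hdvd : q ∣ p ^ (n : ℕ) := ⟨q, by rw [← hcard]; ring⟩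
  obtain ⟨j, -, rfl⟩ := (Nat.dvd_prime_pow hp).mp hdvd
  exact ⟨j, rfl⟩

theorem sub_dir (p : ℕ) [Fact p.Prime] [CharP F p] (hp : p ≠ 2) (hF : Fintype.card F = q ^ 2)
    (g : Cfsg.PSU 3 F q) :
    orderOf g ∣ q + 1 ∨ orderOf g ∣ p * ((q + 1) / Nat.gcd 3 (q + 1)) ∨
    orderOf g ∣ (q ^ 2 - 1) / Nat.gcd 3 (q + 1) ∨
    orderOf g ∣ (q ^ 2 - q + 1) / Nat.gcd 3 (q + 1) := by
  obtain ⟨x, rfl⟩ := QuotientGroup.mk_surjective g
  obtain ⟨σ, hσ⟩ := exists_frob hF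
  obtain ⟨k, hk⟩ := q_pow p hF
  set M : Matrix (Fin 3) (Fin 3) F :=
    ((x : Matrix.SpecialLinearGroup (Fin 3) F) : Matrix (Fin 3) (Fin 3) F) with hM
  have hdet : M.det = 1 := (x : Matrix.SpecialLinearGroup (Fin 3) F).det_coe
  have hU : Mᵀ * M.map σ = 1 := (Cfsg.Agent.S0279.mem_SU_iff' σ hσ _).mp x.2
  have hchar := charpoly_SU σ hσ M hdet hU
  have key : ∀ (N : ℕ) (c : F), chi q M.trace ∣ X ^ N - C c →
      orderOf (QuotientGroup.mk x : Cfsg.PSU 3 F q) ∣ N := by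
    intro N c h
    apply orderOf_dvd_of_pow_eq_one
    apply mk_pow_eq_one_of_scalar x N c
    rw [coe_pow_SU, ← hM]
    have h1 := pow_eq_of_dvd M _ (Matrix.aeval_self_charpoly M) N c (hchar ▸ h)
    rw [h1, Algebra.algebraMap_eq_smul_one]
  rcases psu3_poly p hp q k hk hF M.trace with ⟨c, h⟩ | ⟨c, h⟩ | ⟨c, h⟩ | ⟨c, h⟩
  · left; exact key _ c h
  · right; left; exact key _ c h
  · right; right; left; exact key _ c h
  · right; right; right; exact key _ c h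

end sub

section families

variable {K : Type*} [Field K]

def Wm (e e' a t : K) : Matrix (Fin 3) (Fin 3) K :=
  !![a * (1 + t), a * t * e', 0; a * t * e, a * (1 - t), 0; 0, 0, (a ^ 2)⁻¹]

theorem Wm_mul (e e' : K) (he : e * e' = -1) (a t b t' : K) :
    Wm e e' a t * Wm e e' b t' = Wm e e' (a * b) (t + t') := by
  have he' : e' * e = -1 := by rw [mul_comm]; exact he
  ext i j
  fin_cases i <;> fin_cases j <;>
    simp [Wm, Matrix.mul_apply, Fin.sum_univ_three] <;>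
    first
      | ring1
      | linear_combination (a * b * t * t') * he

theorem Wm_one (e e' : K) : Wm e e' 1 0 = 1 := by
  unfold Wm
  rw [Matrix.one_fin_three]
  simp

theorem Wm_pow (e e' : K) (he : e * e' = -1) (a t : K) (n : ℕ) :
    (Wm e e' a t) ^ n = Wm e e' (a ^ n) ((n : K) * t) := by
  induction n with
  | zero => simp [Wm_one]
  | succ n ih =>
    rw [pow_succ, ih, Wm_mul e e' he, ← pow_succ]
    congr 1
    push_cast
    ring

theorem Wm_det (e e' : K) (he : e * e' = -1) (a t : K) (ha : a ≠ 0) : (Wm e e' a t).det = 1 := by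
  unfold Wm
  rw [Matrix.det_fin_three]
  simp
  field_simp
  linear_combination (-(t ^ 2)) * he

theorem Wm_scalar (e e' : K) (he0 : e ≠ 0) (a t c : K) (ha : a ≠ 0) :
    Wm e e' a t = c • (1 : Matrix (Fin 3) (Fin 3) K) ↔ (t = 0 ∧ a = c ∧ (a ^ 2)⁻¹ = c) := by
  constructor
  · intro h
    have h10 := congrFun (congrFun h 1) 0
    have h00 := congrFun (congrFun h 0) 0
    have h22 := congrFun (congrFun h 2) 2
    simp [Wm] at h10 h00 h22
    have ht : t = 0 := by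
      rcases h10 with (h | h) | h
      · exact absurd h ha
      · exact h
      · exact absurd h he0
    refine ⟨ht, ?_, h22⟩
    rw [ht] at h00
    simpa using h00
  · rintro ⟨rfl, rfl, h3⟩
    unfold Wm
    rw [Matrix.one_fin_three, h3]
    ext i j
    fin_cases i <;> fin_cases j <;> simp

def Tm (e x y z : K) : Matrix (Fin 3) (Fin 3) K :=
  !![(x + y) / 2, (x - y) / (2 * e), 0; e * (x - y) / 2, (x + y) / 2, 0; 0, 0, z]

theorem Tm_mul (e : K) (he0 : e ≠ 0) (h2 : (2 : K) ≠ 0) (x y z x' y' z' : K) :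
    Tm e x y z * Tm e x' y' z' = Tm e (x * x') (y * y') (z * z') := by
  ext i j
  fin_cases i <;> fin_cases j <;>
    simp [Tm, Matrix.mul_apply, Fin.sum_univ_three] <;>
    (field_simp <;> ring)

theorem Tm_one (e : K) (h2 : (2 : K) ≠ 0) : Tm e 1 1 1 = 1 := by
  unfold Tm
  rw [Matrix.one_fin_three]
  have : ((1 : K) + 1) / 2 = 1 := by field_simp; norm_num
  simp [this]

theorem Tm_pow (e : K) (he0 : e ≠ 0) (h2 : (2 : K) ≠ 0) (x y z : K) (n : ℕ) :
    (Tm e x y z) ^ n = Tm e (x ^ n) (y ^ n) (z ^ n) := by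
  induction n with
  | zero => simp [Tm_one e h2]
  | succ n ih => rw [pow_succ, ih, Tm_mul e he0 h2, ← pow_succ, ← pow_succ, ← pow_succ]

theorem Tm_det (e : K) (he0 : e ≠ 0) (h2 : (2 : K) ≠ 0) (x y z : K) :
    (Tm e x y z).det = x * y * z := by
  unfold Tm
  rw [Matrix.det_fin_three]
  simp
  field_simp
  ring

theorem Tm_scalar (e : K) (he0 : e ≠ 0) (h2 : (2 : K) ≠ 0) (x y z c : K) :
    Tm e x y z = c • (1 : Matrix (Fin 3) (Fin 3) K) ↔ (x = c ∧ y = c ∧ z = c) := by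
  constructor
  · intro h
    have h01 := congrFun (congrFun h 0) 1
    have h00 := congrFun (congrFun h 0) 0
    have h22 := congrFun (congrFun h 2) 2
    simp [Tm] at h01 h00 h22
    have hxy : x = y := by
      rcases h01 with h | h
      · exact sub_eq_zero.mp h
      · rcases h with h | h
        · exact absurd h h2
        · exact absurd h he0
    rw [← hxy] at h00
    have hx : x = c := by
      rw [← h00]
      field_simp
      ring
    exact ⟨hx, hxy ▸ hx, h22⟩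
  · rintro ⟨hx, hy, hz⟩
    rw [hx, hy, hz]
    unfold Tm
    rw [Matrix.one_fin_three]
    have h3 : (c + c) / 2 = c := by field_simp; ring
    ext i j
    fin_cases i <;> fin_cases j <;> simp [h3]

theorem Wm_map (σ : K →+* K) (e e' a t : K) (ha : σ a = a⁻¹) (ht : σ t = -t) (he : σ e = e')
    (he' : σ e' = e) : (Wm e e' a t).map σ = (Wm e e' a⁻¹ (-t))ᵀ := by
  ext i j
  fin_cases i <;> fin_cases j <;>
    simp [Wm, ha, ht, he, he'] <;> ring1

theorem Wm_unitary (σ : K →+* K) (e e' a t : K) (hee : e * e' = -1) (ha0 : a ≠ 0)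
    (ha : σ a = a⁻¹) (ht : σ t = -t) (he : σ e = e') (he' : σ e' = e) :
    (Wm e e' a t)ᵀ * (Wm e e' a t).map σ = 1 := by
  rw [Wm_map σ e e' a t ha ht he he', ← Matrix.transpose_mul, Wm_mul e e' hee,
    inv_mul_cancel₀ ha0, neg_add_cancel, Wm_one, Matrix.transpose_one]

theorem Tm_map (σ : K →+* K) (e x y z : K) (he0 : e ≠ 0) (h2 : (2 : K) ≠ 0) (hx : σ x = y⁻¹)
    (hy : σ y = x⁻¹) (hz : σ z = z⁻¹) (he : σ e = -e⁻¹) :
    (Tm e x y z).map σ = (Tm e x⁻¹ y⁻¹ z⁻¹)ᵀ := by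
  have hσ2 : σ 2 = 2 := map_ofNat σ 2
  ext i j
  fin_cases i <;> fin_cases j <;>
    simp [Tm, hx, hy, hz, he, hσ2] <;> (field_simp <;> ring1)

theorem Tm_unitary (σ : K →+* K) (e x y z : K) (he0 : e ≠ 0) (h2 : (2 : K) ≠ 0) (hx0 : x ≠ 0)
    (hy0 : y ≠ 0) (hz0 : z ≠ 0) (hx : σ x = y⁻¹) (hy : σ y = x⁻¹) (hz : σ z = z⁻¹)
    (he : σ e = -e⁻¹) : (Tm e x y z)ᵀ * (Tm e x y z).map σ = 1 := by
  rw [Tm_map σ e x y z he0 h2 hx hy hz he, ← Matrix.transpose_mul, Tm_mul e he0 h2,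
    inv_mul_cancel₀ hx0, inv_mul_cancel₀ hy0, inv_mul_cancel₀ hz0, Tm_one e h2,
    Matrix.transpose_one]

end families

section sup

variable {F : Type*} [Field F] [Fintype F] {q : ℕ}

theorem exists_of_dvd {G : Type*} [Group G] (g : G) (N m : ℕ) (hN : 0 < N) (hg : orderOf g = N)
    (hm : m ∣ N) : ∃ h : G, orderOf h = m := by
  refine ⟨g ^ (N / m), ?_⟩
  have hmpos : 0 < m := Nat.pos_of_dvd_of_pos hm hN
  have h1 : N / m ≠ 0 := by
    have := Nat.div_pos (Nat.le_of_dvd hN hm) hmpos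
    omega
  have h2 : N / m ∣ orderOf g := by
    rw [hg]
    exact Nat.div_dvd_of_dvd hm
  rw [orderOf_pow_of_dvd h1 h2, hg, Nat.div_div_self hm hN.ne']

theorem exists_of_scalar_iff (hF : Fintype.card F = q ^ 2) (σ : F →+* F) (hσ : ∀ x, σ x = x ^ q)
    (M : Matrix (Fin 3) (Fin 3) F) (hdet : M.det = 1) (hU : Mᵀ * M.map σ = 1) (N : ℕ)
    (h : ∀ t : ℕ, (∃ c : F, M ^ t = c • (1 : Matrix (Fin 3) (Fin 3) F)) ↔ N ∣ t) :
    ∃ g : Cfsg.PSU 3 F q, orderOf g = N := by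
  let A : Matrix.SpecialLinearGroup (Fin 3) F := ⟨M, hdet⟩
  have hA : (A : Matrix (Fin 3) (Fin 3) F) = M := rfl
  let x : Cfsg.SU 3 F q := ⟨A, (Cfsg.Agent.S0279.mem_SU_iff' σ hσ A).mpr (by rw [hA]; exact hU)⟩
  have hx : ((x : Matrix.SpecialLinearGroup (Fin 3) F) : Matrix (Fin 3) (Fin 3) F) = M := rfl
  refine ⟨QuotientGroup.mk x, ?_⟩
  apply Nat.dvd_antisymm
  · apply orderOf_dvd_of_pow_eq_one
    obtain ⟨c, hc⟩ := (h N).mpr dvd_rfl
    apply mk_pow_eq_one_of_scalar x N c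
    rw [coe_pow_SU, hx, hc]
  · rw [← h]
    have h1 := pow_orderOf_eq_one (QuotientGroup.mk x : Cfsg.PSU 3 F q)
    set o := orderOf (QuotientGroup.mk x : Cfsg.PSU 3 F q) with ho
    rw [← QuotientGroup.mk_pow, QuotientGroup.eq_one_iff, Subgroup.mem_center_iff] at h1
    obtain ⟨l, hl⟩ := Cfsg.Agent.S0279.central_is_scalar hF (by norm_num)
      ((x ^ o : Cfsg.SU 3 F q) : Matrix.SpecialLinearGroup (Fin 3) F) (by
        intro B hB
        have := h1 ⟨B, hB⟩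
        have h2 := congrArg Subtype.val this
        exact h2.symm)
    refine ⟨l, ?_⟩
    rw [coe_pow_SU, hx] at hl
    rw [hl, Matrix.smul_one_eq_diagonal]
    rfl

theorem two_le_q (hF : Fintype.card F = q ^ 2) : 2 ≤ q := by
  by_contra hcon
  have hq1 : q ≤ 1 := by omega
  have h2 : 2 ≤ Fintype.card F := Fintype.one_lt_card
  rw [hF] at h2
  have : q ^ 2 ≤ 1 ^ 2 := Nat.pow_le_pow_left hq1 2
  omega

theorem exists_gen (hF : Fintype.card F = q ^ 2) : ∃ ζ : Fˣ, orderOf ζ = q ^ 2 - 1 := by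
  obtain ⟨a, ha⟩ := IsCyclic.exists_ofOrder_eq_natCard (α := Fˣ)
  refine ⟨a, ?_⟩
  rw [ha, Nat.card_units, Nat.card_eq_fintype_card, hF]

theorem gen_pow_iff (ζ : Fˣ) (N : ℕ) (hζ : orderOf ζ = N) (t : ℕ) : (ζ : F) ^ t = 1 ↔ N ∣ t := by
  rw [← hζ, orderOf_dvd_iff_pow_eq_one]
  constructor
  · intro h
    apply Units.ext
    rw [Units.val_pow_eq_pow_val, Units.val_one]
    exact h
  · intro h
    have := congrArg Units.val h
    rwa [Units.val_pow_eq_pow_val, Units.val_one] at this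

theorem exists_norm_gen (hF : Fintype.card F = q ^ 2) : ∃ a : Fˣ, orderOf a = q + 1 := by
  obtain ⟨ζ, hζ⟩ := exists_gen hF
  have hq2 := two_le_q hF
  refine ⟨ζ ^ (q - 1), ?_⟩
  rw [orderOf_pow_of_dvd (by omega) (by rw [hζ, sq_sub_one q (by omega)]; exact dvd_mul_left _ _),
    hζ, sq_sub_one q (by omega)]
  exact Nat.mul_div_cancel _ (by omega)

theorem exists_U1 (hF : Fintype.card F = q ^ 2) : ∃ g : Cfsg.PSU 3 F q, orderOf g = q + 1 := by
  obtain ⟨σ, hσ⟩ := exists_frob hF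
  obtain ⟨a, ha⟩ := exists_norm_gen hF
  have ha1 : (a : F) ^ (q + 1) = 1 := (gen_pow_iff a (q + 1) ha (q + 1)).mpr dvd_rfl
  have hdet : (Matrix.diagonal ![(a : F), ((a⁻¹ : Fˣ) : F), 1]).det = 1 := by
    rw [Matrix.det_diagonal, Fin.prod_univ_three]
    simp
  have hU : (Matrix.diagonal ![(a : F), ((a⁻¹ : Fˣ) : F), 1])ᵀ *
      (Matrix.diagonal ![(a : F), ((a⁻¹ : Fˣ) : F), 1]).map σ = 1 := by
    rw [Matrix.diagonal_transpose, Matrix.diagonal_map (map_zero σ), Matrix.diagonal_mul_diagonal,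
      ← Matrix.diagonal_one]
    congr 1
    ext i
    fin_cases i
    · simp [hσ, ← pow_succ', ha1]
    · simp only [Function.comp, hσ]
      show ((a⁻¹ : Fˣ) : F) * ((a⁻¹ : Fˣ) : F) ^ q = 1
      rw [← pow_succ', Units.val_inv_eq_inv_val, inv_pow, ha1, inv_one]
    · simp [hσ]
  apply exists_of_scalar_iff hF σ hσ _ hdet hU
  intro t
  rw [Matrix.diagonal_pow, ← gen_pow_iff a (q + 1) ha t]
  constructor
  · rintro ⟨c, hc⟩
    have h0 := congrFun (congrFun hc 0) 0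
    have h2 := congrFun (congrFun hc 2) 2
    simp at h0 h2
    rw [h0, ← h2]
  · intro h'
    refine ⟨1, ?_⟩
    rw [one_smul, ← Matrix.diagonal_one]
    congr 1
    ext i
    fin_cases i
    · simpa using h'
    · simp [h']
    · simp

theorem q_odd (p : ℕ) [Fact p.Prime] [CharP F p] (hp : p ≠ 2) (hF : Fintype.card F = q ^ 2) :
    ∃ m : ℕ, q = 2 * m + 1 := by
  obtain ⟨k, hk⟩ := q_pow p hF
  have hpodd : Odd p := (Fact.out : p.Prime).odd_of_ne_two hp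
  have hqodd : Odd q := by rw [hk]; exact hpodd.pow
  obtain ⟨m, hm⟩ := hqodd
  exact ⟨m, hm⟩

theorem p_dvd_q (p : ℕ) [Fact p.Prime] [CharP F p] (hF : Fintype.card F = q ^ 2) : p ∣ q := by
  obtain ⟨k, hk⟩ := q_pow p hF
  have hq2 := two_le_q hF
  have hk0 : k ≠ 0 := by
    rintro rfl
    rw [pow_zero] at hk
    omega
  rw [hk]
  exact dvd_pow_self p hk0

theorem gen_half (ζ : Fˣ) (m : ℕ) (hq : q = 2 * m + 1) (hq2 : 2 ≤ q)
    (hζ : orderOf ζ = q ^ 2 - 1) : (ζ : F) ^ (m * (q + 1)) = -1 := by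
  have hm : 1 ≤ m := by omega
  have hsq : ((ζ : F) ^ (m * (q + 1))) ^ 2 = 1 := by
    rw [← pow_mul, gen_pow_iff ζ _ hζ]
    rw [hq]
    refine ⟨1, ?_⟩
    have : (2 * m + 1) ^ 2 = 4 * m ^ 2 + 4 * m + 1 := by ring
    rw [this, Nat.add_sub_cancel]
    ring
  rcases sq_eq_one_iff.mp hsq with h | h
  · exfalso
    rw [gen_pow_iff ζ _ hζ, hq] at h
    have e : (2 * m + 1) ^ 2 - 1 = 2 * (m * (2 * m + 1 + 1)) := by
      have : (2 * m + 1) ^ 2 = 4 * m ^ 2 + 4 * m + 1 := by ring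
      rw [this, Nat.add_sub_cancel]
      ring
    rw [e] at h
    have hpos : 0 < m * (2 * m + 1 + 1) := by positivity
    have := Nat.le_of_dvd hpos h
    omega
  · exact h

theorem exists_U2 (p : ℕ) [Fact p.Prime] [CharP F p] (hp : p ≠ 2) (hF : Fintype.card F = q ^ 2) :
    ∃ g : Cfsg.PSU 3 F q, orderOf g = p * ((q + 1) / Nat.gcd 3 (q + 1)) := by
  obtain ⟨σ, hσ⟩ := exists_frob hF
  obtain ⟨a, ha⟩ := exists_norm_gen hF
  obtain ⟨ζ, hζ⟩ := exists_gen hF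
  obtain ⟨m, hm⟩ := q_odd p hp hF
  have hq2 := two_le_q hF
  have hhalf := gen_half ζ m hm hq2 hζ
  have ha1 : (a : F) ^ (q + 1) = 1 := (gen_pow_iff a (q + 1) ha (q + 1)).mpr dvd_rfl
  have ha0 : (a : F) ≠ 0 := a.ne_zero
  have hζ0 : (ζ : F) ≠ 0 := ζ.ne_zero
  obtain ⟨e, he⟩ : ∃ e : F, e = (ζ : F) ^ m := ⟨_, rfl⟩
  obtain ⟨κ, hκ⟩ : ∃ κ : F, κ = (ζ : F) ^ (m + 1) := ⟨_, rfl⟩
  have he0 : e ≠ 0 := by rw [he]; exact pow_ne_zero _ hζ0
  have hκ0 : κ ≠ 0 := by rw [hκ]; exact pow_ne_zero _ hζ0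
  have heq1 : e ^ (q + 1) = -1 := by rw [he, ← pow_mul]; exact hhalf
  have hκq : κ ^ (q - 1) = -1 := by
    rw [hκ, ← pow_mul]
    have : (m + 1) * (q - 1) = m * (q + 1) := by
      rw [hm, Nat.add_sub_cancel]
      ring
    rw [this]
    exact hhalf
  have hσa : σ a = (a : F)⁻¹ := by
    rw [hσ]
    apply eq_inv_of_mul_eq_one_left
    rw [← pow_succ]
    exact ha1
  have hσe : σ e = -e⁻¹ := by
    rw [hσ]
    have h1 : e ^ q * e = -1 := by rw [← pow_succ]; exact heq1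
    rw [eq_neg_iff_add_eq_zero, ← mul_right_inj' he0]
    field_simp
    linear_combination h1
  have hσe' : σ (-e⁻¹) = e := by
    rw [map_neg, map_inv₀, hσe, inv_neg, inv_inv, neg_neg]
  have hσκ : σ κ = -κ := by
    rw [hσ]
    obtain ⟨r, hr⟩ : ∃ r, q = r + 1 := ⟨q - 1, by omega⟩
    rw [hr, Nat.add_sub_cancel] at hκq
    rw [hr, pow_succ, hκq]
    ring
  have hee : e * (-e⁻¹) = -1 := by field_simp
  have hdet := Wm_det e (-e⁻¹) hee (a : F) κ ha0
  have hU := Wm_unitary σ e (-e⁻¹) (a : F) κ hee ha0 hσa hσκ hσe hσe'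
  apply exists_of_scalar_iff hF σ hσ _ hdet hU
  intro t
  rw [Wm_pow e (-e⁻¹) hee]
  have hpP : p.Prime := Fact.out
  have hcop : Nat.Coprime p ((q + 1) / Nat.gcd 3 (q + 1)) := by
    apply Nat.Coprime.coprime_div_right _ (Nat.gcd_dvd_right _ _)
    rw [Nat.Prime.coprime_iff_not_dvd hpP]
    intro h
    have h1 : p ∣ 1 := (Nat.dvd_add_right (p_dvd_q p hF)).mp h
    exact hpP.one_lt.ne' (Nat.dvd_one.mp h1)
  have hat0 : (a : F) ^ t ≠ 0 := pow_ne_zero _ ha0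
  constructor
  · rintro ⟨c, hc⟩
    rw [Wm_scalar e _ he0 _ _ c hat0] at hc
    obtain ⟨h1, h2, h3⟩ := hc
    have hpt : p ∣ t := by
      have : (t : F) = 0 := by
        rcases mul_eq_zero.mp h1 with h | h
        · exact h
        · exact absurd h hκ0
      exact (CharP.cast_eq_zero_iff F p t).mp this
    have h3t : (a : F) ^ (3 * t) = 1 := by
      rw [← h2] at h3
      rw [mul_comm, pow_mul]
      have h4 : ((a : F) ^ t) ^ 3 = ((a : F) ^ t) ^ 2 * (a : F) ^ t := by ring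
      have h5 := inv_mul_cancel₀ (pow_ne_zero 2 hat0)
      rw [h3] at h5
      rw [h4, mul_comm]
      exact h5
    rw [gen_pow_iff a (q + 1) ha, Cfsg.Agent.S2476.nt_three] at h3t
    exact hcop.mul_dvd_of_dvd_of_dvd hpt h3t
  · intro h
    have hpt : p ∣ t := (dvd_mul_right _ _).trans h
    have h3t : (q + 1) / Nat.gcd 3 (q + 1) ∣ t := (dvd_mul_left _ _).trans h
    rw [← Cfsg.Agent.S2476.nt_three, ← gen_pow_iff a (q + 1) ha] at h3t
    refine ⟨(a : F) ^ t, ?_⟩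
    rw [Wm_scalar e _ he0 _ _ _ hat0]
    refine ⟨?_, rfl, ?_⟩
    · rw [(CharP.cast_eq_zero_iff F p t).mpr hpt, zero_mul]
    · apply inv_eq_of_mul_eq_one_left
      rw [← pow_succ', ← pow_mul, mul_comm]
      exact h3t


theorem nt_U3 (q t : ℕ) (hq : 2 ≤ q) :
    ((q - 1) ∣ t ∧ (q ^ 2 - 1) ∣ (q - 2) * t) ↔ (q ^ 2 - 1) / Nat.gcd 3 (q + 1) ∣ t := by
  obtain ⟨r, rfl⟩ : ∃ r, q = r + 2 := ⟨q - 2, by omega⟩
  have e1 : (r + 2) ^ 2 - 1 = (r + 3) * (r + 1) := by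
    rw [sq_sub_one (r + 2) (by omega)]
    rfl
  have e2 : r + 2 - 1 = r + 1 := by omega
  have e3 : r + 2 - 2 = r := by omega
  have e4 : r + 2 + 1 = r + 3 := by omega
  rw [e1, e2, e3, e4]
  obtain ⟨d, hd⟩ : ∃ d, d = Nat.gcd 3 (r + 3) := ⟨_, rfl⟩
  have hdpos : 0 < d := by rw [hd]; exact Nat.gcd_pos_of_pos_left _ (by norm_num)
  have h3 := Cfsg.Agent.S2476.nt_three (r + 3)
  rw [← hd] at h3 ⊢
  obtain ⟨A', hA'⟩ : d ∣ r + 3 := by rw [hd]; exact Nat.gcd_dvd_right _ _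
  have e5 : (r + 3) * (r + 1) / d = A' * (r + 1) := by
    rw [hA', mul_assoc, Nat.mul_div_cancel_left _ hdpos]
  have e6 : (r + 3) / d = A' := by rw [hA', Nat.mul_div_cancel_left _ hdpos]
  rw [e5]
  rw [e6] at h3
  constructor
  · rintro ⟨⟨s, rfl⟩, h2⟩
    have h4 : (r + 3) * (r + 1) ∣ (r * s) * (r + 1) := by
      convert h2 using 1
      ring
    have h5 : r + 3 ∣ r * s := Nat.dvd_of_mul_dvd_mul_right (by omega) h4
    have h6 : r + 3 ∣ r * s + 3 * s := ⟨s, by ring⟩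
    have h7 : r + 3 ∣ 3 * s := (Nat.dvd_add_right h5).mp h6
    rw [h3] at h7
    rw [mul_comm (r + 1)]
    exact Nat.mul_dvd_mul_right h7 _
  · rintro ⟨u, rfl⟩
    refine ⟨⟨A' * u, by ring⟩, ?_⟩
    have h7 : r + 3 ∣ 3 * (A' * u) := (h3 _).mpr (dvd_mul_right _ _)
    have h6 : r + 3 ∣ r * (A' * u) + 3 * (A' * u) := ⟨A' * u, by ring⟩
    have h5 : r + 3 ∣ r * (A' * u) := (Nat.dvd_add_left h7).mp h6
    have : r * (A' * (r + 1) * u) = (r * (A' * u)) * (r + 1) := by ring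
    rw [this]
    exact Nat.mul_dvd_mul_right h5 _

theorem exists_U3 (p : ℕ) [Fact p.Prime] [CharP F p] (hp : p ≠ 2) (hF : Fintype.card F = q ^ 2) :
    ∃ g : Cfsg.PSU 3 F q, orderOf g = (q ^ 2 - 1) / Nat.gcd 3 (q + 1) := by
  obtain ⟨σ, hσ⟩ := exists_frob hF
  obtain ⟨ζ, hζ⟩ := exists_gen hF
  obtain ⟨m, hm⟩ := q_odd p hp hF
  have hq2 := two_le_q hF
  have hhalf := gen_half ζ m hm hq2 hζ
  have hζ0 : (ζ : F) ≠ 0 := ζ.ne_zero
  have h2 : (2 : F) ≠ 0 := two_ne_zero' p hp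
  obtain ⟨e, he⟩ : ∃ e : F, e = (ζ : F) ^ m := ⟨_, rfl⟩
  have he0 : e ≠ 0 := by rw [he]; exact pow_ne_zero _ hζ0
  have heq1 : e ^ (q + 1) = -1 := by rw [he, ← pow_mul]; exact hhalf
  have hσe : σ e = -e⁻¹ := by
    rw [hσ]
    have h1 : e ^ q * e = -1 := by rw [← pow_succ]; exact heq1
    rw [eq_neg_iff_add_eq_zero, ← mul_right_inj' he0]
    field_simp
    linear_combination h1
  obtain ⟨x, hx⟩ : ∃ x : F, x = ζ := ⟨_, rfl⟩
  have hx0 : x ≠ 0 := by rw [hx]; exact hζ0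
  have hxq : (x ^ q) ^ q = x := pow_card_sq q hF x
  have hxq0 : x ^ q ≠ 0 := pow_ne_zero _ hx0
  have hσx : σ x = ((x ^ q)⁻¹)⁻¹ := by rw [hσ, inv_inv]
  have hσy : σ ((x ^ q)⁻¹) = x⁻¹ := by rw [map_inv₀, hσ, hxq]
  have hσz : σ (x⁻¹ * x ^ q) = (x⁻¹ * x ^ q)⁻¹ := by
    rw [map_mul, map_inv₀, hσ, hσ, hxq, mul_inv, inv_inv, mul_comm]
  have hdet : (Tm e x (x ^ q)⁻¹ (x⁻¹ * x ^ q)).det = 1 := by
    rw [Tm_det e he0 h2]
    field_simp
  have hU := Tm_unitary σ e x (x ^ q)⁻¹ (x⁻¹ * x ^ q) he0 h2 hx0 (inv_ne_zero hxq0)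
    (mul_ne_zero (inv_ne_zero hx0) hxq0) hσx hσy hσz hσe
  apply exists_of_scalar_iff hF σ hσ _ hdet hU
  intro t
  rw [Tm_pow e he0 h2, ← nt_U3 q t hq2]
  have k1 : x ^ t = ((x ^ q)⁻¹) ^ t ↔ (q - 1) ∣ t := by
    rw [inv_pow, ← mul_eq_one_iff_eq_inv₀ (pow_ne_zero _ hxq0), ← pow_mul, ← pow_add, hx,
      gen_pow_iff ζ _ hζ, sq_sub_one q (by omega)]
    have : t + q * t = (q + 1) * t := by ring
    rw [this]
    exact Nat.mul_dvd_mul_iff_left (by omega)
  have k2 : x ^ t = (x⁻¹ * x ^ q) ^ t ↔ (q ^ 2 - 1) ∣ (q - 2) * t := by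
    rw [mul_pow, inv_pow, ← pow_mul, eq_comm, inv_mul_eq_iff_eq_mul₀ (pow_ne_zero _ hx0), ← pow_add]
    obtain ⟨r, hr⟩ : ∃ r, q = r + 2 := ⟨q - 2, by omega⟩
    have : q * t = (q - 2) * t + (t + t) := by
      rw [hr, Nat.add_sub_cancel]
      ring
    rw [this, pow_add, mul_eq_right₀ (pow_ne_zero _ hx0), hx, gen_pow_iff ζ _ hζ]
  constructor
  · rintro ⟨c, hc⟩
    rw [Tm_scalar e he0 h2] at hc
    obtain ⟨h1, h2', h3⟩ := hc
    exact ⟨k1.mp (h1.trans h2'.symm), k2.mp (h1.trans h3.symm)⟩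
  · rintro ⟨h1, h2'⟩
    refine ⟨x ^ t, ?_⟩
    rw [Tm_scalar e he0 h2]
    exact ⟨rfl, (k1.mpr h1).symm, (k2.mpr h2').symm⟩

theorem unitary_of_isometry {K V : Type*} [Field K] [AddCommGroup V] [Module K V] (σ : K →+* K)
    (B : V →ₛₗ[σ] V →ₗ[K] K) {n : ℕ} (b : Module.Basis (Fin n) K V)
    (hb : ∀ i j, B (b i) (b j) = if i = j then 1 else 0) (f : V →ₗ[K] V)
    (hf : ∀ x y, B (f x) (f y) = B x y) :
    (LinearMap.toMatrix b b f)ᵀ * (LinearMap.toMatrix b b f).map σ = 1 := by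
  obtain ⟨A, hA⟩ : ∃ A, A = LinearMap.toMatrix b b f := ⟨_, rfl⟩
  rw [← hA]
  have h1 : ∀ j, f (b j) = ∑ k, A k j • b k := by
    intro j
    conv_lhs => rw [← b.sum_repr (f (b j))]
    apply Finset.sum_congr rfl
    intro k _
    rw [hA, LinearMap.toMatrix_apply]
  ext i j
  rw [Matrix.mul_apply]
  have h2 := hf (b j) (b i)
  rw [h1 j, h1 i, hb] at h2
  simp only [map_sum, LinearMap.sum_apply, LinearMap.map_smulₛₗ, LinearMap.smul_apply,
    smul_eq_mul, hb, mul_ite, mul_one, mul_zero, Finset.sum_ite_eq', Finset.mem_univ,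
    if_true, RingHom.id_apply] at h2
  rw [Matrix.one_apply]
  simp only [Matrix.transpose_apply, Matrix.map_apply]
  rw [h2]
  simp only [eq_comm]

theorem psi_add (q : ℕ) (hq : 1 ≤ q) : q ^ 2 - q + 1 + q = q ^ 2 + 1 := by
  have h3 : q ≤ q ^ 2 := Nat.le_self_pow (by norm_num) _
  omega

theorem q6_eq (q : ℕ) (hq : 1 ≤ q) :
    (q ^ 2) ^ 3 - 1 = (q ^ 2 - q + 1) * ((q ^ 3 - 1) * (q + 1)) := by
  obtain ⟨N, hN⟩ : ∃ N, N = q ^ 2 - q + 1 := ⟨_, rfl⟩
  have h1 := psi_add q hq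
  rw [← hN] at h1 ⊢
  obtain ⟨C, hC⟩ : ∃ C, C + 1 = q ^ 3 := ⟨q ^ 3 - 1, Nat.sub_add_cancel (Nat.one_le_pow _ _ hq)⟩
  rw [← hC, Nat.add_sub_cancel]
  apply Nat.sub_eq_of_eq_add
  zify at h1 hC ⊢
  have h2 : (N : ℤ) = q ^ 2 + 1 - q := by linarith
  have h3 : (C : ℤ) = q ^ 3 - 1 := by linarith
  rw [h2, h3]
  ring

theorem q3_eq (q : ℕ) (hq : 1 ≤ q) : q ^ 3 + 1 = (q ^ 2 - q + 1) * (q + 1) := by
  obtain ⟨N, hN⟩ : ∃ N, N = q ^ 2 - q + 1 := ⟨_, rfl⟩
  have h1 := psi_add q hq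
  rw [← hN] at h1 ⊢
  zify at h1 ⊢
  have h2 : (N : ℤ) = q ^ 2 + 1 - q := by linarith
  rw [h2]
  ring

theorem q4_eq' (q : ℕ) (hq : 1 ≤ q) : q ^ 4 + q ^ 2 + 1 = (q ^ 2 - q + 1) * (q ^ 2 + q + 1) := by
  obtain ⟨N, hN⟩ : ∃ N, N = q ^ 2 - q + 1 := ⟨_, rfl⟩
  have h1 := psi_add q hq
  rw [← hN] at h1 ⊢
  zify at h1 ⊢
  have h2 : (N : ℤ) = q ^ 2 + 1 - q := by linarith
  rw [h2]
  ring

theorem psi_eq'' (q : ℕ) (hq : 1 ≤ q) : q ^ 2 - q + 1 = q * (q - 1) + 1 := by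
  obtain ⟨r, rfl⟩ : ∃ r, q = r + 1 := ⟨q - 1, by omega⟩
  rw [Nat.add_sub_cancel]
  have : (r + 1) ^ 2 = (r + 1) * r + (r + 1) := by ring
  rw [this, Nat.add_sub_cancel]

theorem gcd_psi (q : ℕ) (hq : 2 ≤ q) :
    Nat.gcd (q ^ 2 - q + 1) (q ^ 2 - 1) = Nat.gcd 3 (q + 1) := by
  rw [sq_sub_one q (by omega)]
  have hcop : Nat.Coprime (q - 1) (q ^ 2 - q + 1) := by
    rw [psi_eq'' q (by omega), Nat.coprime_mul_right_add_right]
    exact Nat.coprime_one_right _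
  rw [Nat.Coprime.gcd_mul_right_cancel_right _ hcop, psi_eq q hq, Nat.gcd_mul_left_add_left]

theorem frob_ne_id (hF : Fintype.card F = q ^ 2) (σ : F →+* F) (hσ : ∀ x, σ x = x ^ q) :
    σ ≠ RingHom.id F := by
  intro h
  have hq2 := two_le_q hF
  obtain ⟨ζ, hζ⟩ := exists_gen hF
  have h1 : (ζ : F) ^ q = ζ := by rw [← hσ, h]; rfl
  have h2 : (ζ : F) ^ (q - 1) = 1 := by
    have : (ζ : F) ^ (q - 1) * ζ = 1 * ζ := by
      rw [← pow_succ, Nat.sub_add_cancel (by omega), h1, one_mul]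
    exact mul_right_cancel₀ ζ.ne_zero this
  rw [gen_pow_iff ζ _ hζ] at h2
  have h3 := Nat.le_of_dvd (by omega) h2
  have h4 : 2 * q ≤ q ^ 2 := by nlinarith
  omega

theorem exists_singer (p : ℕ) [Fact p.Prime] [CharP F p] (hF : Fintype.card F = q ^ 2)
    (σ : F →+* F) (hσ : ∀ x, σ x = x ^ q) :
    ∃ M : Matrix (Fin 3) (Fin 3) F, M.det = 1 ∧ Mᵀ * M.map σ = 1 ∧
      ∀ t : ℕ, (∃ c : F, M ^ t = c • (1 : Matrix (Fin 3) (Fin 3) F)) ↔
        (q ^ 2 - q + 1) / Nat.gcd 3 (q + 1) ∣ t := by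
  classical
  obtain ⟨k, hk⟩ : ∃ k : ℕ, q = p ^ k := by
    obtain ⟨n, hp, hcard⟩ := FiniteField.card F p
    rw [hF] at hcard
    have hdvd : q ∣ p ^ (n : ℕ) := ⟨q, by rw [← hcard]; ring⟩
    obtain ⟨j, -, rfl⟩ := (Nat.dvd_prime_pow hp).mp hdvd
    exact ⟨j, rfl⟩
  have hq2 := two_le_q hF
  let E := FiniteField.Extension F p 3
  have hfr : Module.finrank F E = 3 := FiniteField.finrank_extension F p 3
  haveI : CharP E p := charP_of_injective_algebraMap (algebraMap F E).injective p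
  haveI : Fintype E := Fintype.ofFinite E
  have hcardE : Fintype.card E = q ^ 6 := by
    rw [← Nat.card_eq_fintype_card, FiniteField.natCard_extension, Nat.card_eq_fintype_card, hF,
      ← pow_mul]
  let τ : E →+* E := iterateFrobenius E p (3 * k)
  have hτ : ∀ x : E, τ x = x ^ (q ^ 3) := by
    intro x
    show iterateFrobenius E p (3 * k) x = _
    rw [iterateFrobenius_def, hk, ← pow_mul, mul_comm]
  have hττ : ∀ x : E, τ (τ x) = x := by
    intro x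
    rw [hτ, hτ, ← pow_mul, ← pow_add]
    have : 3 + 3 = 6 := rfl
    rw [this, ← hcardE, FiniteField.pow_card]
  have hτF : ∀ c : F, τ (algebraMap F E c) = algebraMap F E (σ c) := by
    intro c
    rw [hτ, ← map_pow, hσ]
    congr 1
    have : q ^ 3 = q ^ 2 * q := by ring
    rw [this, pow_mul, ← hF, FiniteField.pow_card]
  have htr : ∀ z : E, σ (Algebra.trace F E z) = Algebra.trace F E (τ z) := by
    intro z
    apply (algebraMap F E).injective
    rw [← hτF, FiniteField.algebraMap_trace_eq_sum_pow, FiniteField.algebraMap_trace_eq_sum_pow,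
      map_sum]
    apply Finset.sum_congr rfl
    intro i _
    rw [map_pow]
  let B : E →ₛₗ[σ] E →ₗ[F] F := LinearMap.mk₂'ₛₗ σ (RingHom.id F)
    (fun x y => Algebra.trace F E (τ x * y))
    (by intro x x' y; simp only [map_add, add_mul])
    (by
      intro c x y
      have h1 : τ (c • x) = algebraMap F E (σ c) * τ x := by
        rw [Algebra.smul_def, map_mul, hτF]
      rw [h1, mul_assoc, ← Algebra.smul_def, map_smul])
    (by intro x y y'; simp only [mul_add, map_add])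
    (by
      intro c x y
      rw [mul_smul_comm, map_smul]
      rfl)
  have hB : ∀ x y, B x y = Algebra.trace F E (τ x * y) := fun _ _ => rfl
  have hS : B.IsSymm := by
    rw [LinearMap.isSymm_def]
    intro x y
    rw [hB, hB, htr, map_mul, hττ, mul_comm]
  have hND : B.Nondegenerate := by
    constructor
    · intro x hx
      have h1 : τ x = 0 := (traceForm_nondegenerate F E).1 (τ x) (fun y => by
        rw [Algebra.traceForm_apply]
        exact hx y)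
      have := hττ x
      rw [h1, map_zero] at this
      exact this.symm
    · intro y hy
      apply (traceForm_nondegenerate F E).1 y
      intro x
      rw [Algebra.traceForm_apply, mul_comm]
      have := hy (τ x)
      rwa [hB, hττ] at this
  have hσne : σ ≠ RingHom.id F := frob_ne_id hF σ hσ
  have hσσ : ∀ a, σ (σ a) = a := by
    intro a
    rw [hσ, hσ]
    exact pow_card_sq q hF a
  obtain ⟨b0, hb0⟩ := Cfsg.Agent.S0755.result σ hσne hσσ B hS hND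
  let b : Module.Basis (Fin 3) F E := b0.reindex (finCongr hfr)
  have hb : ∀ i j, B (b i) (b j) = if i = j then 1 else 0 := by
    intro i j
    simp only [b, Module.Basis.reindex_apply]
    rw [hb0]
    simp
  obtain ⟨ζ, hζ⟩ := exists_gen_ext (F := F) (K := E) 3 hfr
  rw [hF, q6_eq q (by omega)] at hζ
  obtain ⟨N, hN⟩ : ∃ N, N = q ^ 2 - q + 1 := ⟨_, rfl⟩
  rw [← hN] at hζ
  have hNpos : 0 < N := by rw [hN]; omega
  obtain ⟨R, hR⟩ : ∃ R, R = (q ^ 3 - 1) * (q + 1) := ⟨_, rfl⟩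
  rw [← hR] at hζ
  have hRpos : 0 < R := by
    rw [hR]
    apply Nat.mul_pos _ (by omega)
    have : 2 ^ 3 ≤ q ^ 3 := Nat.pow_le_pow_left hq2 3
    omega
  let y : Eˣ := ζ ^ R
  have hyord : orderOf y = N := by
    show orderOf (ζ ^ R) = N
    rw [orderOf_pow_of_dvd hRpos.ne' (by rw [hζ]; exact dvd_mul_left _ _), hζ,
      Nat.mul_div_cancel _ hRpos]
  have hyN : (y : E) ^ N = 1 := by
    have h1 : y ^ N = 1 := by rw [← hyord]; exact pow_orderOf_eq_one y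
    have := congrArg Units.val h1
    rwa [Units.val_pow_eq_pow_val, Units.val_one] at this
  have hy1 : τ (y : E) * (y : E) = 1 := by
    rw [hτ, ← pow_succ, q3_eq q (by omega), ← hN, pow_mul, hyN, one_pow]
  have hdet : (Algebra.leftMulMatrix b (y : E)).det = 1 := by
    rw [← Algebra.norm_eq_matrix_det b]
    have h := norm_pow_formula (F := F) (E := E) 3 hfr (y : E)
    rw [hF, geom3_sq q hq2, q4_eq' q (by omega), ← hN, pow_mul, hyN, one_pow] at h
    exact (algebraMap F E).injective (by rw [← h, map_one])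
  have hU : (Algebra.leftMulMatrix b (y : E))ᵀ * (Algebra.leftMulMatrix b (y : E)).map σ = 1 := by
    rw [Algebra.leftMulMatrix_apply]
    apply unitary_of_isometry σ B b hb
    intro x x'
    rw [hB, hB]
    show Algebra.trace F E (τ ((y : E) * x) * ((y : E) * x')) = _
    have h1 : τ ((y : E) * x) = τ (y : E) * τ x := map_mul τ _ _
    have h2 : τ (y : E) * τ x * ((y : E) * x') = (τ (y : E) * (y : E)) * (τ x * x') := by ring
    rw [h1, h2, hy1, one_mul]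
  refine ⟨_, hdet, hU, ?_⟩
  intro t
  have hy : (∃ c : F, algebraMap F E c = ((y ^ t : Eˣ) : E)) ↔ N / Nat.gcd 3 (q + 1) ∣ t := by
    rw [mem_base_iff, hF, ← gcd_psi q hq2, ← hN, ← nt_gcd N (q ^ 2 - 1) t hNpos, ← pow_mul,
      ← orderOf_dvd_iff_pow_eq_one, hyord, mul_comm]
  rw [← hN, ← hy, ← map_pow]
  constructor
  · rintro ⟨c, hc⟩
    refine ⟨c, Algebra.leftMulMatrix_injective b ?_⟩
    rw [Units.val_pow_eq_pow_val, hc, AlgHom.commutes, Algebra.algebraMap_eq_smul_one]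
  · rintro ⟨c, hc⟩
    refine ⟨c, ?_⟩
    rw [Units.val_pow_eq_pow_val] at hc
    rw [← hc, AlgHom.commutes, Algebra.algebraMap_eq_smul_one]


theorem exists_U4 (p : ℕ) [Fact p.Prime] [CharP F p] (hF : Fintype.card F = q ^ 2) :
    ∃ g : Cfsg.PSU 3 F q, orderOf g = (q ^ 2 - q + 1) / Nat.gcd 3 (q + 1) := by
  obtain ⟨σ, hσ⟩ := exists_frob hF
  obtain ⟨M, hdet, hU, h⟩ := exists_singer p hF σ hσ
  exact exists_of_scalar_iff hF σ hσ M hdet hU _ h

end sup

/-- The set of element orders of PSU(3, q) for an odd prime power q = p^n: writing d = gcd(3, q + 1), a positive integer is the order of some element exactly when it divides one of q + 1, p(q + 1)/d, (q² − 1)/d, (q² − q + 1)/d. -/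
theorem result {F : Type*} [Field F] [Fintype F] (p : ℕ) [Fact p.Prime] [CharP F p] (hp : p ≠ 2) (q : ℕ) (hF : Fintype.card F = q ^ 2) :
    Set.range (orderOf : Cfsg.PSU 3 F q → ℕ) =
      {s : ℕ | s ∣ q + 1} ∪ {s : ℕ | s ∣ p * (q + 1) / Nat.gcd 3 (q + 1)} ∪
        {s : ℕ | s ∣ (q ^ 2 - 1) / Nat.gcd 3 (q + 1)} ∪ {s : ℕ | s ∣ (q ^ 2 - q + 1) / Nat.gcd 3 (q + 1)} := by
  have hq2 := two_le_q hF
  have hdpos : 0 < Nat.gcd 3 (q + 1) := Nat.gcd_pos_of_pos_left _ (by norm_num)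
  have hdle : Nat.gcd 3 (q + 1) ≤ 3 := Nat.le_of_dvd (by norm_num) (Nat.gcd_dvd_left _ _)
  have hpP : p.Prime := Fact.out
  have e1 : p * (q + 1) / Nat.gcd 3 (q + 1) = p * ((q + 1) / Nat.gcd 3 (q + 1)) :=
    Nat.mul_div_assoc p (Nat.gcd_dvd_right _ _)
  rw [e1]
  ext s
  simp only [Set.mem_range, Set.mem_union, Set.mem_setOf_eq]
  constructor
  · rintro ⟨g, rfl⟩
    rcases sub_dir p hp hF g with h | h | h | h
    · left; left; left; exact h
    · left; left; right; exact h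
    · left; right; exact h
    · right; exact h
  · rintro (((h | h) | h) | h)
    · obtain ⟨g, hg⟩ := exists_U1 hF
      exact exists_of_dvd g _ s (by omega) hg h
    · obtain ⟨g, hg⟩ := exists_U2 p hp hF
      refine exists_of_dvd g _ s ?_ hg h
      apply Nat.mul_pos hpP.pos
      exact Nat.div_pos (Nat.le_of_dvd (by omega) (Nat.gcd_dvd_right _ _)) hdpos
    · obtain ⟨g, hg⟩ := exists_U3 p hp hF
      refine exists_of_dvd g _ s ?_ hg h
      apply Nat.div_pos _ hdpos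
      have : 2 ^ 2 ≤ q ^ 2 := Nat.pow_le_pow_left hq2 2
      omega
    · obtain ⟨g, hg⟩ := exists_U4 p hF
      refine exists_of_dvd g _ s ?_ hg h
      apply Nat.div_pos _ hdpos
      have : q ≤ q ^ 2 := Nat.le_self_pow (by norm_num) _
      have : 2 * q ≤ q ^ 2 := by nlinarith
      omega

end Cfsg.Agent.S2366
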