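import Cfsg.Statements.S2367

import Mathlib
set_option autoImplicit false
open Cfsg

namespace Cfsg.Agent.S2367


open Nat

theorem key (N : ℕ) (l : List ℕ) (hl : N.primeFactorsList = l)
    (hcheck : ∀ p ∈ l, p ≠ 2 → l.count p = 3 → p ^ 3 < 2 ^ (l.count 2))
    (p : ℕ) (hodd : p ≠ 2) (h3 : N.factorization p = 3) : p ^ 3 < 2 ^ N.factorization 2 := by
  rw [← Nat.primeFactorsList_count_eq, hl] at h3 ⊢
  have hmem : p ∈ l := List.count_pos_iff.mp (by omega)
  exact hcheck p hmem hodd h3

theorem cube_lt (k : ℕ) (hk : 2 ≤ k) : (2 * k + 1) ^ 3 < 2 ^ (4 * k + 1) := by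
  induction k, hk using Nat.le_induction with
  | base => norm_num
  | succ k hk ih =>
    have h1 : 2 ^ (4 * (k + 1) + 1) = 16 * 2 ^ (4 * k + 1) := by
      rw [show 4 * (k + 1) + 1 = 4 + (4 * k + 1) by ring, pow_add]; norm_num
    rw [h1]
    have h2 : (2 * (k + 1) + 1) ^ 3 ≤ 16 * (2 * k + 1) ^ 3 := by nlinarith [sq_nonneg k]
    omega

theorem alt_case (n p : ℕ) (hn : 5 ≤ n) (hp : p.Prime) (hodd : p ≠ 2)
    (h3 : (n ! / 2).factorization p = 3) : p ^ 3 < 2 ^ ((n ! / 2).factorization 2) := by
  have : Fact p.Prime := ⟨hp⟩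
  have : Fact (Nat.Prime 2) := ⟨Nat.prime_two⟩
  have h2dvd : 2 ∣ n ! := Nat.dvd_factorial (by norm_num) (by omega)
  have hfac : (n ! / 2).factorization = (n !).factorization - (2 : ℕ).factorization :=
    Nat.factorization_div h2dvd
  have h2fac : (2 : ℕ).factorization = Finsupp.single 2 1 := Nat.Prime.factorization Nat.prime_two
  rw [hfac, h2fac] at h3 ⊢
  simp only [Finsupp.coe_tsub, Pi.sub_apply, Finsupp.single_apply, if_neg (Ne.symm hodd), if_true,
    Nat.sub_zero] at h3 ⊢
  rw [Nat.factorization_def _ hp] at h3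
  rw [Nat.factorization_def _ Nat.prime_two]
  have hp3 : 3 ≤ p := by
    have := hp.two_le
    omega
  have hn3p : 3 * p ≤ n := by
    by_contra hlt
    push Not at hlt
    have hlog : Nat.log p n < 2 := by
      apply Nat.log_lt_of_lt_pow (by omega)
      nlinarith
    have := padicValNat_factorial (p := p) hlog
    rw [this] at h3
    simp at h3
    have : n / p < 3 := by
      rw [Nat.div_lt_iff_lt_mul hp.pos]
      omega
    omega
  have hv2 : n / 2 + n / 4 ≤ padicValNat 2 (n !) := by
    have hb : Nat.log 2 n < Nat.log 2 n + 3 := by omega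
    rw [padicValNat_factorial (p := 2) hb]
    have hsub : ({1, 2} : Finset ℕ) ⊆ Finset.Ico 1 (Nat.log 2 n + 3) := by
      intro x hx
      simp at hx
      rw [Finset.mem_Ico]
      omega
    calc n / 2 + n / 4 = ∑ i ∈ ({1, 2} : Finset ℕ), n / 2 ^ i := by
          rw [Finset.sum_pair (by norm_num)]; norm_num
      _ ≤ _ := Finset.sum_le_sum_of_subset hsub
  obtain ⟨k, hk⟩ : ∃ k, p = 2 * k + 1 := hp.odd_of_ne_two hodd
  have hk1 : 1 ≤ k := by omega
  by_cases hk2 : k = 1
  · have : p = 3 := by omega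
    subst this
    have h5 : 5 ≤ padicValNat 2 (n !) - 1 := by omega
    calc 3 ^ 3 < 2 ^ 5 := by norm_num
      _ ≤ _ := Nat.pow_le_pow_right (by norm_num) h5
  · have hk2' : 2 ≤ k := by omega
    have h5 : 4 * k + 1 ≤ padicValNat 2 (n !) - 1 := by omega
    calc p ^ 3 = (2 * k + 1) ^ 3 := by rw [hk]
      _ < 2 ^ (4 * k + 1) := cube_lt k hk2'
      _ ≤ _ := Nat.pow_le_pow_right (by norm_num) h5

set_option maxRecDepth 100000 in

/-- Let G be an alternating group of degree at least 5 or a simple group with the order of one of the 26 sporadic groups, and let p be an odd prime such that p³ is the exact power of p dividing the order of G. Then p³ is less than the 2-part of the order of G. -/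
theorem result {G : Type*} [Group G] [Finite G] (hG : Cfsg.IsAlternating G ∨ Cfsg.IsSporadic G)
    (p : ℕ) (hp : p.Prime) (hodd : p ≠ 2) (h3 : (Nat.card G).factorization p = 3) :
    p ^ 3 < 2 ^ (Nat.card G).factorization 2 := by
  rcases hG with hA | hS
  · obtain ⟨n, hn, ⟨e⟩⟩ := hA
    have hcard : Nat.card G = n ! / 2 := by
      rw [Nat.card_congr e.toEquiv]
      have : Nontrivial (Fin n) := Fin.nontrivial_iff_two_le.mpr (by omega)
      have h1 := two_mul_nat_card_alternatingGroup (α := Fin n)
      rw [Nat.card_eq_fintype_card (α := Equiv.Perm (Fin n)), Fintype.card_perm, Fintype.card_fin] at h1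
      omega
    rw [hcard] at h3 ⊢
    exact alt_case n p hn hp hodd h3
  · unfold Cfsg.IsSporadic at hS
    rcases hS with h | h | h | h | h | h | h | h | h | h | h | h | h | h | h | h | h | h | h | h | h | h | h | h | h | h
    all_goals
      obtain ⟨_, hc⟩ := h
      rw [hc] at h3 ⊢
      refine key _ _ rfl ?_ p hodd h3
      simp only [Nat.primeFactorsList_ofNat]
      decide

end Cfsg.Agent.S2367
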