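import Cfsg.Statements.S2370

import Cfsg.Agent.S2326
import Cfsg.Agent.Lib.helper8.ChevTri
import Cfsg.Agent.Lib.helper8.ChevPerf
set_option autoImplicit false
open Cfsg

namespace Cfsg.Agent.S2370


open Cfsg.Lie Cfsg.Lie.ChevalleyDatum Cfsg.Agent.Lib.helper8

def htList : List ℕ := [0, 1, 2, 3, 4, 5, 6, 4, 5, 6, 7, 7, 8, 9, 10, 6, 7, 8, 8, 9, 10, 9, 10, 10,
  12, 12, 13, 12, 13, 14, 14, 15, 16, 12, 13, 14, 15, 15, 16, 17, 18, 16, 17, 18, 19, 20, 21, 22]

def rho : chevF4.Idx → ℕ
  | Sum.inl _ => 11
  | Sum.inr s => htList.getD s.val 0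

theorem htList_lt : ∀ s : ℕ, htList.getD s 0 < 23 := by
  intro s
  by_cases hs : s < 48
  · interval_cases s <;> decide
  · rw [List.getD_eq_default]
    · omega
    · simp [htList]
      omega

theorem rho_lt (c : chevF4.Idx) : rho c < 23 := by
  rcases c with i | s
  · show 11 < 23
    omega
  · exact htList_lt s.val

def posOK : Bool :=
  (List.range chevF4.nroots).all fun r =>
    !(decide (chevF4.IsPosRoot r)) ||
      (decide (12 ≤ htList.getD r 0) && decide (htList.getD (chevF4.negIdx.getD r 0) 0 ≤ 10) &&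
        (chevF4.chain.getD r #[]).toList.all fun e => e.2.toList.all fun q =>
          decide (htList.getD e.1 0 < htList.getD q.1 0))

theorem posOK_true : posOK = true := by decide +kernel

theorem posOK_spec {r : ℕ} (hr : chevF4.IsPosRoot r) :
    12 ≤ htList.getD r 0 ∧ htList.getD (chevF4.negIdx.getD r 0) 0 ≤ 10 ∧
      ∀ e ∈ (chevF4.chain.getD r #[]).toList, ∀ q ∈ e.2.toList,
        htList.getD e.1 0 < htList.getD q.1 0 := by
  have h := posOK_true
  unfold posOK at h
  rw [List.all_eq_true] at h
  have h1 := h r (List.mem_range.mpr hr.1)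
  simp only [hr, decide_true, Bool.not_true, Bool.false_or, Bool.and_eq_true, decide_eq_true_eq,
    List.all_eq_true] at h1
  exact ⟨h1.1.1, h1.1.2, h1.2⟩

theorem xMat_unitri {F : Type*} [Field F] (r : Fin chevF4.nroots)
    (hr : chevF4.IsPosRoot r.val) (t : F) : H8Unitri rho 1 (chevF4.xMat F r t) := by
  obtain ⟨h1, h2, h3⟩ := posOK_spec hr
  intro row col hne
  rw [Matrix.sub_apply, Matrix.one_apply] at hne
  unfold ChevalleyDatum.xMat at hne
  rw [Matrix.of_apply] at hne
  generalize chevF4.negIdx.getD r.val 0 = nr at h2 hne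
  rcases col with i | s
  · rcases row with i' | u
    · exfalso
      apply hne
      by_cases hii : i' = i
      · simp [hii]
      · have : ¬ (Sum.inl i' : chevF4.Idx) = Sum.inl i := fun h => hii (Sum.inl.inj h)
        simp [hii]
    · by_cases hur : u = r
      · subst hur
        show 11 + 1 ≤ htList.getD u.val 0
        omega
      · exfalso
        apply hne
        simp [hur]
  · by_cases hsr : s = r
    · exfalso
      apply hne
      subst hsr
      rcases row with i' | u
      · simp
      · by_cases hus : u = s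
        · simp [hus]
        · have : ¬ (Sum.inr u : chevF4.Idx) = Sum.inr s := fun h => hus (Sum.inr.inj h)
          simp [hus]
    · by_cases hsn : s.val = nr
      · rcases row with i' | u
        · show htList.getD s.val 0 + 1 ≤ 11
          rw [hsn]
          omega
        · by_cases hus : u = s
          · exfalso
            apply hne
            simp [hsr, hsn, hus]
          · by_cases hur : u = r
            · subst hur
              show htList.getD s.val 0 + 1 ≤ htList.getD u.val 0
              rw [hsn]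
              omega
            · exfalso
              apply hne
              have : ¬ (Sum.inr u : chevF4.Idx) = Sum.inr s := fun h => hus (Sum.inr.inj h)
              simp [hsr, hsn, hus, hur]
      · rcases row with i' | u
        · exfalso
          apply hne
          simp [hsr, hsn]
        · simp only [hsr, hsn, if_false] at hne
          by_cases hcc : chevF4.chainCoeff r.val s.val u.val = []
          · exfalso
            apply hne
            rw [hcc]
            by_cases hus : u = s
            · simp [hus]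
            · have : ¬ (Sum.inr u : chevF4.Idx) = Sum.inr s := fun h => hus (Sum.inr.inj h)
              simp [hus]
          · obtain ⟨e, he, hes, q, hq, hqu⟩ := h8_chainCoeff_ne_nil chevF4 _ _ _ hcc
            have := h3 e he q hq
            show htList.getD s.val 0 + 1 ≤ htList.getD u.val 0
            rw [← hes, ← hqu]
            omega

theorem x_unitri {F : Type*} [Field F] (r : ℕ) (hr : chevF4.IsPosRoot r) (t : F) :
    H8Unitri rho 1 (chevF4.x F r t) := by
  unfold ChevalleyDatum.x
  rw [dif_pos hr.1]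
  exact xMat_unitri ⟨r, hr.1⟩ hr t

theorem posUnipotent_unitri {F : Type*} [Field F] (g : GL chevF4.Idx F)
    (hg : g ∈ chevF4.posUnipotent F) : H8Unitri rho 1 (g : Matrix chevF4.Idx chevF4.Idx F) := by
  unfold ChevalleyDatum.posUnipotent at hg
  induction hg using Subgroup.closure_induction with
  | mem x hx =>
    obtain ⟨r, t, hr, hx⟩ := hx
    rw [hx]
    exact x_unitri r hr t
  | one => exact h8unitri_one _ _
  | mul x y _ _ hx hy =>
    rw [Units.val_mul]
    exact h8unitri_mul hx hy
  | inv x _ hx =>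
    exact h8unitri_inv (n := 23) le_rfl rho_lt hx (by
      rw [← Units.val_mul, mul_inv_cancel, Units.val_one])

theorem U_pow {F : Type*} [Field F] (g : GL chevF4.Idx F) (hg : g ∈ chevF4.posUnipotent F) :
    ((g : Matrix chevF4.Idx chevF4.Idx F) - 1) ^ 23 = 0 :=
  h8unitri_pow_eq_zero rho_lt (posUnipotent_unitri g hg)

universe u

theorem twisted_le {K : Type u} [Field K] (e : ℕ) : twistedF4 K e ≤ chevF4.group K := by
  have hD : chevF4 ∈ [chevG2, chevB2, chevD4, chevF4, chevE6, chevE7, chevE8] := by simp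
  have hB := h8base_all.{u} chevF4 hD
  unfold twistedF4 ChevalleyDatum.genSubgroup
  rw [Subgroup.closure_le]
  rintro g ⟨w, -, hg⟩
  have : g = h8wordU chevF4 hB w := Units.ext (by rw [hg, h8wordU_val])
  rw [this]
  exact h8wordU_mem_group chevF4 hB w

theorem conj_sub_one {R : Type*} [Ring R] (a : Rˣ) (X : R) :
    X - 1 = (a : R) * ((a⁻¹ : Rˣ) * X * a - 1) * (a⁻¹ : Rˣ) := by
  rw [mul_sub, sub_mul, mul_one, Units.mul_inv, ← mul_assoc, ← mul_assoc, Units.mul_inv, one_mul,
    mul_assoc, Units.mul_inv, mul_one]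

theorem two_elt_pow {K : Type u} [Field K] [Fintype K] [CharP K 2] (y : chevF4.group K) (j : ℕ)
    (hy : orderOf y = 2 ^ j) :
    (((y : GL chevF4.Idx K) : Matrix chevF4.Idx chevF4.Idx K) - 1) ^ 23 = 0 := by
  classical
  haveI : Fact (Nat.Prime 2) := ⟨Nat.prime_two⟩
  have hD : chevF4 ∈ [chevG2, chevB2, chevD4, chevF4, chevE6, chevE7, chevE8] := by simp
  obtain ⟨P, hP⟩ := Cfsg.Agent.S2326.result (F := K) 2 chevF4 hD
  have hpg : IsPGroup 2 (Subgroup.zpowers y) := IsPGroup.of_card (n := j) (by
    rw [Nat.card_zpowers, hy])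
  obtain ⟨Q, hQ⟩ := hpg.exists_le_sylow
  obtain ⟨g, rfl⟩ := MulAction.exists_smul_eq (chevF4.group K) P Q
  have hyQ : y ∈ ((g • P : Sylow 2 (chevF4.group K)) : Subgroup (chevF4.group K)) :=
    hQ (Subgroup.mem_zpowers y)
  rw [Sylow.coe_subgroup_smul, Subgroup.mem_pointwise_smul_iff_inv_smul_mem, MulAut.smul_def,
    MulAut.conj_inv_apply, hP, Subgroup.mem_subgroupOf] at hyQ
  have h1 := U_pow _ hyQ
  rw [conj_sub_one (g : GL chevF4.Idx K), Units.conj_pow]
  have e : ((((g⁻¹ * y * g : chevF4.group K) : GL chevF4.Idx K)) : Matrix chevF4.Idx chevF4.Idx K) =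
      (((g : GL chevF4.Idx K)⁻¹ : GL chevF4.Idx K) : Matrix chevF4.Idx chevF4.Idx K) *
        ((y : GL chevF4.Idx K) : Matrix chevF4.Idx chevF4.Idx K) *
        ((g : GL chevF4.Idx K) : Matrix chevF4.Idx chevF4.Idx K) := by
    simp
  rw [e] at h1
  rw [h1, mul_zero, zero_mul]

/-- Let q = 2^(2m+1) with m ≥ 1. Every element of 2-power order of the large Ree group ²F₄(q) has order at most 32. -/
theorem result {K : Type*} [Field K] [Fintype K] (m : ℕ) (hm : 1 ≤ m) (hK : Fintype.card K = 2 ^ (2 * m + 1))
    (x : ↥(Cfsg.Lie.twistedF4 K (2 ^ m))) (hx : ∃ j : ℕ, orderOf x = 2 ^ j) : orderOf x ≤ 32 := by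
  classical
  haveI : Fact (Nat.Prime 2) := ⟨Nat.prime_two⟩
  haveI : CharP K 2 := charP_of_card_eq_prime_pow hK
  haveI : Nonempty chevF4.Idx := ⟨Sum.inl ⟨0, by decide⟩⟩
  obtain ⟨j, hj⟩ := hx
  have hle := twisted_le (K := K) (2 ^ m)
  have hy : orderOf (Subgroup.inclusion hle x) = 2 ^ j := by
    rw [orderOf_injective (Subgroup.inclusion hle) (Subgroup.inclusion_injective hle)]
    exact hj
  have h23 := two_elt_pow (Subgroup.inclusion hle x) j hy
  have hX : ((Subgroup.inclusion hle x : chevF4.group K) : GL chevF4.Idx K) = (x : GL chevF4.Idx K) :=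
    rfl
  rw [hX] at h23
  have h32 : (((x : GL chevF4.Idx K) : Matrix chevF4.Idx chevF4.Idx K) - 1) ^ 2 ^ 5 = 0 := by
    have : (2 : ℕ) ^ 5 = 23 + 9 := by norm_num
    rw [this, pow_add, h23, zero_mul]
  rw [sub_pow_char_pow_of_commute 2 5 (Commute.one_right _), one_pow, sub_eq_zero] at h32
  have hx32 : x ^ 32 = 1 := by
    apply Subtype.ext
    apply Units.ext
    rw [Subgroup.coe_pow, Units.val_pow_eq_pow_val, Subgroup.coe_one, Units.val_one]
    exact h32
  exact Nat.le_of_dvd (by norm_num) (orderOf_dvd_of_pow_eq_one hx32)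

end Cfsg.Agent.S2370
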