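import Cfsg.Statements.S2380

import Cfsg.Agent.Lib.helper15.SylowVal
import Cfsg.Agent.Lib.helper15.SylowEmb
set_option autoImplicit false
open scoped MatrixGroups
open Cfsg

namespace Cfsg.Agent.S2380


open Cfsg.Agent.Lib.helper15.SylowVal Cfsg.Agent.Lib.helper15.SylowEmb
  Cfsg.Agent.Lib.helper15.BlockTri

/-- Sylow subgroups of `GL_n(q)` for large primes. Let `F` be a field with `q` elements and `r` a prime with `r > n` and `r ∤ q`. Let `d` be the multiplicative order of `q` modulo `r` and `m` the `r`-part of the value at `q` of the `d`-th cyclotomic polynomial. Then every Sylow `r`-subgroup of `GL_n(q)` is a direct product of `⌊n/d⌋` cyclic groups of order `m` (the degrees of the Weyl group being `1, …, n`). -/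
theorem result {F : Type*} [Field F] [Fintype F] {q : ℕ} (hq : Fintype.card F = q) (n : ℕ)
    (r : ℕ) [Fact r.Prime] (hrn : n < r) (hrq : ¬ r ∣ q) (P : Sylow r (GL (Fin n) F)) :
    Nonempty (↥(P : Subgroup (GL (Fin n) F)) ≃*
      (Fin (n / orderOf (q : ZMod r)) →
        Multiplicative (ZMod (r ^ padicValNat r ((Polynomial.cyclotomic (orderOf (q : ZMod r)) ℤ).eval (q : ℤ)).natAbs)))) := by
  classical
  subst hq
  have hq1 : 1 < Fintype.card F := Fintype.one_lt_card
  have : Fact (ringChar F).Prime := ⟨CharP.char_is_prime F _⟩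
  have hd0 : 0 < orderOf ((Fintype.card F : ℕ) : ZMod r) := orderOf_pos' _ hrq
  have : NeZero (orderOf ((Fintype.card F : ℕ) : ZMod r)) := ⟨hd0.ne'⟩
  let E := FiniteField.Extension F (ringChar F) (orderOf ((Fintype.card F : ℕ) : ZMod r))
  have hE : Module.finrank F E = orderOf ((Fintype.card F : ℕ) : ZMod r) :=
    FiniteField.finrank_extension F (ringChar F) _
  have hcE : Nat.card Eˣ = Fintype.card F ^ orderOf ((Fintype.card F : ℕ) : ZMod r) - 1 := by
    rw [Nat.card_units, FiniteField.natCard_extension, Nat.card_eq_fintype_card]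
  have hm : r ^ padicValNat r ((Polynomial.cyclotomic (orderOf ((Fintype.card F : ℕ) : ZMod r)) ℤ).eval
      ((Fintype.card F : ℕ) : ℤ)).natAbs ∣ Nat.card Eˣ := by
    rw [hcE, ← val_cyc _ hq1 hrq]
    exact pow_padicValNat_dvd
  obtain ⟨ψ, hψ⟩ := exists_cyc E _ hm
  obtain ⟨φ, hφ⟩ := exists_emb (F := F) E n (n / orderOf ((Fintype.card F : ℕ) : ZMod r))
    (by rw [hE]; exact Nat.div_mul_le_self _ _)
  refine sylow_equiv_of_injective (φ.comp (MonoidHom.compLeft ψ _)) ?_ ?_ P
  · intro u v huv
    have := hφ huv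
    funext i
    exact hψ (congrFun this i)
  · rw [Nat.card_fun, Nat.card_eq_fintype_card (α := Fin _), Fintype.card_fin,
      Nat.card_congr Multiplicative.toAdd, Nat.card_zmod, Matrix.card_GL_field, ← pow_mul]
    congr 1
    have := val_gam (r := r) (Fintype.card F) hq1 hrq n hrn
    unfold gam at this
    rw [this, mul_comm]

end Cfsg.Agent.S2380
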