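import Cfsg.Statements.S2569
import Cfsg.Agent.Lib.Helper16.SemisimpleCent

set_option autoImplicit false
open Cfsg
open Cfsg.Agent.Lib.Helper16

namespace Cfsg.Agent.S2569

open Polynomial in
theorem semisimple_of_order {F : Type*} [Field F] [Fintype F] {p : ℕ} [Fact p.Prime] [CharP F p]
    {n : ℕ} (x : GL (Fin n) F) (hx : (orderOf x).Coprime p) :
    Module.End.IsSemisimple (Matrix.toLin' (x : Matrix (Fin n) (Fin n) F)) := by
  have hk : 0 < orderOf x := orderOf_pos x
  have hkF : ((orderOf x : ℕ) : F) ≠ 0 := by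
    intro h0
    rw [CharP.cast_eq_zero_iff F p] at h0
    have h1 : p ∣ Nat.gcd (orderOf x) p := Nat.dvd_gcd h0 dvd_rfl
    rw [hx] at h1
    exact (Fact.out : p.Prime).one_lt.ne' (Nat.dvd_one.mp h1)
  apply Module.End.isSemisimple_of_squarefree_aeval_eq_zero (p := X ^ orderOf x - C (1 : F))
  · exact (separable_X_pow_sub_C (1 : F) hkF one_ne_zero).squarefree
  · rw [map_sub, map_pow, aeval_X, aeval_C, map_one]
    have h1 : (x : Matrix (Fin n) (Fin n) F) ^ orderOf x = 1 := by
      rw [← Units.val_pow_eq_pow_val, pow_orderOf_eq_one]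
      rfl
    have h2 : Matrix.toLin' (x : Matrix (Fin n) (Fin n) F) ^ orderOf x
        = Matrix.toLin' ((x : Matrix (Fin n) (Fin n) F) ^ orderOf x) := by
      rw [Matrix.toLin'_pow]
    rw [h2, h1, Matrix.toLin'_one, sub_eq_zero]
    rfl

/-- In GL_n over a finite field of characteristic p, the conjugacy class of a semisimple element (an element of order prime to p) under the special linear group is its whole GL-conjugacy class: for every such x and every invertible g there is h of determinant one with h x h⁻¹ = g x g⁻¹. -/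
theorem result {F : Type*} [Field F] [Fintype F] {p : ℕ} [Fact p.Prime] [CharP F p] {n : ℕ} (x g : GL (Fin n) F) (hx : (orderOf x).Coprime p) : ∃ h : GL (Fin n) F, (h : Matrix (Fin n) (Fin n) F).det = 1 ∧ h * x * h⁻¹ = g * x * g⁻¹ := by
  rcases Nat.eq_zero_or_pos n with rfl | hn
  · exact ⟨g, Matrix.det_isEmpty, rfl⟩
  · have : Nonempty (Fin n) := ⟨⟨0, hn⟩⟩
    have hss := semisimple_of_order x hx
    obtain ⟨c, hcf, hdet⟩ := exists_commuting_det (Matrix.toLin' (x : Matrix (Fin n) (Fin n) F)) hss (g : Matrix (Fin n) (Fin n) F).det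
    have hdetC : (LinearMap.toMatrix' c).det = (g : Matrix (Fin n) (Fin n) F).det := by
      rw [LinearMap.det_toMatrix', hdet]
    have hg0 : (g : Matrix (Fin n) (Fin n) F).det ≠ 0 := Matrix.GeneralLinearGroup.det_ne_zero g
    let C : GL (Fin n) F := Matrix.GeneralLinearGroup.mkOfDetNeZero (LinearMap.toMatrix' c)
      (by rw [hdetC]; exact hg0)
    have hCv : (C : Matrix (Fin n) (Fin n) F) = LinearMap.toMatrix' c := rfl
    have hcomm : C * x = x * C := by
      apply Units.ext
      rw [Units.val_mul, Units.val_mul, hCv]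
      have h1 := congrArg LinearMap.toMatrix' hcf
      rw [Module.End.mul_eq_comp, Module.End.mul_eq_comp, LinearMap.toMatrix'_comp,
        LinearMap.toMatrix'_comp, LinearMap.toMatrix'_toLin'] at h1
      exact h1
    refine ⟨g * C⁻¹, ?_, ?_⟩
    · rw [Units.val_mul, Matrix.det_mul]
      have h2 : (C⁻¹ : GL (Fin n) F).val.det * (C : Matrix (Fin n) (Fin n) F).det = 1 := by
        rw [← Matrix.det_mul, ← Units.val_mul, inv_mul_cancel]
        exact Matrix.det_one
      rw [hCv, hdetC] at h2
      rw [mul_comm]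
      exact h2
    · have h3 : C⁻¹ * x * C = x := by
        rw [mul_assoc, ← hcomm, ← mul_assoc, inv_mul_cancel, one_mul]
      calc g * C⁻¹ * x * (g * C⁻¹)⁻¹ = g * (C⁻¹ * x * C) * g⁻¹ := by
            rw [mul_inv_rev, inv_inv]
            simp only [mul_assoc]
        _ = g * x * g⁻¹ := by rw [h3]

end Cfsg.Agent.S2569
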