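import Cfsg.Statements.S2388

import Cfsg.Agent.Lib.helper15.SemiConj
import Cfsg.Agent.S2569
set_option autoImplicit false
open Cfsg

namespace Cfsg.Agent.S2388


open scoped MatrixGroups
open Cfsg.Agent.Lib.helper15.SemiConj

/-- In `SL_n(q)`, `q` a power of the prime `p`, two elements of order prime to `p` with the same characteristic polynomial are conjugate in `SL_n(q)` (not merely in `GL_n`). -/
theorem result {F : Type*} [Field F] [Fintype F] (p : ℕ) [Fact p.Prime] [CharP F p] (n : ℕ)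
    (g h : Matrix.SpecialLinearGroup (Fin n) F) (hg : (orderOf g).Coprime p) (hh : (orderOf h).Coprime p)
    (hc : (g : Matrix (Fin n) (Fin n) F).charpoly = (h : Matrix (Fin n) (Fin n) F).charpoly) : IsConj g h := by
  classical
  have hpp : p.Prime := Fact.out
  have hmF : ((orderOf g * orderOf h : ℕ) : F) ≠ 0 := by
    rw [Ne, CharP.cast_eq_zero_iff F p]
    intro hd
    rcases (Nat.Prime.dvd_mul hpp).1 hd with h1 | h1
    · exact hpp.one_lt.ne' (Nat.eq_one_of_dvd_coprimes hg.symm (dvd_refl p) h1)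
    · exact hpp.one_lt.ne' (Nat.eq_one_of_dvd_coprimes hh.symm (dvd_refl p) h1)
  have hgm : (g : Matrix (Fin n) (Fin n) F) ^ (orderOf g * orderOf h) = 1 := by
    rw [← Matrix.SpecialLinearGroup.coe_pow, pow_mul, pow_orderOf_eq_one, one_pow]
    rfl
  have hhm : (h : Matrix (Fin n) (Fin n) F) ^ (orderOf g * orderOf h) = 1 := by
    rw [← Matrix.SpecialLinearGroup.coe_pow, mul_comm, pow_mul, pow_orderOf_eq_one, one_pow]
    rfl
  obtain ⟨Q, hQ⟩ := exists_GL_conj_of_charpoly_eq n _ hmF _ _ hgm hhm hc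
  have hgG : (orderOf (Matrix.SpecialLinearGroup.toGL g)).Coprime p := by
    rw [orderOf_injective _ Matrix.SpecialLinearGroup.toGL_injective]
    exact hg
  obtain ⟨c, hcdet, hcc⟩ := Cfsg.Agent.S2569.result (Matrix.SpecialLinearGroup.toGL g) Q hgG
  have hQg : Q * Matrix.SpecialLinearGroup.toGL g * Q⁻¹ = Matrix.SpecialLinearGroup.toGL h := by
    rw [mul_inv_eq_iff_eq_mul]
    apply Units.ext
    exact hQ
  rw [hQg] at hcc
  obtain ⟨c', hc'⟩ : ∃ c' : Matrix.SpecialLinearGroup (Fin n) F,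
      Matrix.SpecialLinearGroup.toGL c' = c := ⟨⟨_, hcdet⟩, Units.ext rfl⟩
  rw [isConj_iff]
  refine ⟨c', ?_⟩
  apply Matrix.SpecialLinearGroup.toGL_injective
  rw [map_mul, map_mul, map_inv, hc']
  exact hcc

end Cfsg.Agent.S2388
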