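import Cfsg.Statements.S2384

import Cfsg.Agent.Lib.helper15.SemiCount
import Cfsg.Agent.S2388
set_option autoImplicit false
open Cfsg

namespace Cfsg.Agent.S2384


open scoped MatrixGroups
open Cfsg.Agent.Lib.helper15.SemiCount Cfsg.Agent.Lib.helper15.SemiReal

section aux

variable {F : Type*} [Field F]

lemma charpoly_coeff_zero_SL (n : ℕ) (g : Matrix.SpecialLinearGroup (Fin n) F) :
    (g : Matrix (Fin n) (Fin n) F).charpoly.coeff 0 = (-1) ^ n := by
  have h1 := Matrix.det_eq_sign_charpoly_coeff (g : Matrix (Fin n) (Fin n) F)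
  rw [g.2, Fintype.card_fin] at h1
  have h2 : ((-1 : F) ^ n) * ((-1 : F) ^ n) = 1 := by
    rw [← mul_pow, neg_one_mul, neg_neg, one_pow]
  have h3 : (-1 : F) ^ n * 1 = (-1 : F) ^ n * ((-1) ^ n *
      (g : Matrix (Fin n) (Fin n) F).charpoly.coeff 0) := congrArg (fun t => (-1 : F) ^ n * t) h1
  rw [mul_one, ← mul_assoc, h2, one_mul] at h3
  exact h3.symm

lemma charpoly_eq_of_isConj_SL (n : ℕ) (g h : Matrix.SpecialLinearGroup (Fin n) F)
    (hgh : IsConj g h) :
    (g : Matrix (Fin n) (Fin n) F).charpoly = (h : Matrix (Fin n) (Fin n) F).charpoly := by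
  have h1 := charpoly_eq_of_isConj n (Matrix.SpecialLinearGroup.toGL g)
    (Matrix.SpecialLinearGroup.toGL h) (MonoidHom.map_isConj Matrix.SpecialLinearGroup.toGL hgh)
  rw [Matrix.SpecialLinearGroup.coe_GL_coe_matrix, Matrix.SpecialLinearGroup.coe_GL_coe_matrix] at h1
  exact h1

end aux

/-- In `SL_n(q)`, `q` a power of the prime `p`, the number of conjugacy classes of elements of order prime to `p` (the semisimple classes) is `q^(n-1)`. -/
theorem result {F : Type*} [Field F] [Fintype F] {q : ℕ} (hq : Fintype.card F = q) (p : ℕ) [Fact p.Prime] [CharP F p] (n : ℕ) (hn : 1 ≤ n) :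
    Nat.card {c : ConjClasses (Matrix.SpecialLinearGroup (Fin n) F) //
      ∃ g : Matrix.SpecialLinearGroup (Fin n) F, ConjClasses.mk g = c ∧ (orderOf g).Coprime p} = q ^ (n - 1) := by
  classical
  obtain ⟨n', rfl⟩ : ∃ n', n = n' + 1 := ⟨n - 1, by omega⟩
  rw [Nat.add_sub_cancel, ← hq, ← card_monic_coeff_zero_eq (F := F) n' ((-1) ^ (n' + 1))]
  apply Nat.card_congr
  let f : {c : ConjClasses (Matrix.SpecialLinearGroup (Fin (n' + 1)) F) //
      ∃ g : Matrix.SpecialLinearGroup (Fin (n' + 1)) F,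
      ConjClasses.mk g = c ∧ (orderOf g).Coprime p} →
      {χ : Polynomial F // χ.Monic ∧ χ.natDegree = n' + 1 ∧ χ.coeff 0 = (-1) ^ (n' + 1)} :=
    fun c => ⟨((Classical.choose c.2 : Matrix.SpecialLinearGroup (Fin (n' + 1)) F) :
      Matrix (Fin (n' + 1)) (Fin (n' + 1)) F).charpoly,
      Matrix.charpoly_monic _, by rw [Matrix.charpoly_natDegree_eq_dim, Fintype.card_fin],
      charpoly_coeff_zero_SL _ _⟩
  refine Equiv.ofBijective f ⟨?_, ?_⟩
  · intro c c' hcc'
    have h1 := Classical.choose_spec c.2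
    have h2 := Classical.choose_spec c'.2
    have h3 : ((Classical.choose c.2 : Matrix.SpecialLinearGroup (Fin (n' + 1)) F) :
        Matrix (Fin (n' + 1)) (Fin (n' + 1)) F).charpoly =
        ((Classical.choose c'.2 : Matrix.SpecialLinearGroup (Fin (n' + 1)) F) :
        Matrix (Fin (n' + 1)) (Fin (n' + 1)) F).charpoly := congrArg Subtype.val hcc'
    have h4 := Cfsg.Agent.S2388.result p (n' + 1) _ _ h1.2 h2.2 h3
    apply Subtype.ext
    rw [← h1.1, ← h2.1]
    exact ConjClasses.mk_eq_mk_iff_isConj.2 h4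
  · rintro ⟨χ, hχm, hχd, hχ0⟩
    have hne : χ.coeff 0 ≠ 0 := by
      rw [hχ0]
      exact pow_ne_zero _ (neg_ne_zero.2 one_ne_zero)
    obtain ⟨g, hg, hgc⟩ := exists_GL_of_charpoly p (n' + 1) χ hχm hχd hne
    have hdet : (g : Matrix (Fin (n' + 1)) (Fin (n' + 1)) F).det = 1 := by
      rw [Matrix.det_eq_sign_charpoly_coeff, hgc, hχ0, Fintype.card_fin, ← mul_pow]
      simp
    obtain ⟨g', hg'⟩ : ∃ g' : Matrix.SpecialLinearGroup (Fin (n' + 1)) F,
        Matrix.SpecialLinearGroup.toGL g' = g := ⟨⟨_, hdet⟩, Units.ext rfl⟩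
    have hg'o : (orderOf g').Coprime p := by
      rw [← orderOf_injective _ Matrix.SpecialLinearGroup.toGL_injective, hg']
      exact hg
    have hg'c : (g' : Matrix (Fin (n' + 1)) (Fin (n' + 1)) F).charpoly = χ := by
      rw [← hgc, ← hg']
      rfl
    refine ⟨⟨ConjClasses.mk g', g', rfl, hg'o⟩, ?_⟩
    apply Subtype.ext
    show ((Classical.choose (⟨g', rfl, hg'o⟩ : ∃ g'' : Matrix.SpecialLinearGroup (Fin (n' + 1)) F,
      ConjClasses.mk g'' = ConjClasses.mk g' ∧ (orderOf g'').Coprime p) :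
      Matrix.SpecialLinearGroup (Fin (n' + 1)) F) :
      Matrix (Fin (n' + 1)) (Fin (n' + 1)) F).charpoly = χ
    have h1 := Classical.choose_spec (⟨g', rfl, hg'o⟩ :
      ∃ g'' : Matrix.SpecialLinearGroup (Fin (n' + 1)) F,
      ConjClasses.mk g'' = ConjClasses.mk g' ∧ (orderOf g'').Coprime p)
    rw [← hg'c]
    exact charpoly_eq_of_isConj_SL _ _ _ (ConjClasses.mk_eq_mk_iff_isConj.1 h1.1)

end Cfsg.Agent.S2384
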