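import Cfsg.Statements.S2385

import Cfsg.Agent.Lib.helper15.SpCnt
import Cfsg.Agent.S2389
set_option autoImplicit false
open Cfsg

namespace Cfsg.Agent.S2385


open Matrix Cfsg.Agent.Lib.helper15.SpCnt

theorem charpoly_eq_of_isConj_Sp {F : Type*} [Field F] {n : ℕ}
    (g h : Matrix.symplecticGroup (Fin n) F) (hgh : IsConj g h) :
    (g : Matrix (Fin n ⊕ Fin n) (Fin n ⊕ Fin n) F).charpoly =
      (h : Matrix (Fin n ⊕ Fin n) (Fin n ⊕ Fin n) F).charpoly := by
  obtain ⟨c, hc⟩ := isConj_iff.1 hgh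
  have h1 : (h : Matrix (Fin n ⊕ Fin n) (Fin n ⊕ Fin n) F) =
      (c : Matrix (Fin n ⊕ Fin n) (Fin n ⊕ Fin n) F) * g *
        ((c⁻¹ : Matrix.symplecticGroup (Fin n) F) : Matrix (Fin n ⊕ Fin n) (Fin n ⊕ Fin n) F) := by
    rw [← hc]
    rfl
  have h2 : ((c⁻¹ : Matrix.symplecticGroup (Fin n) F) : Matrix (Fin n ⊕ Fin n) (Fin n ⊕ Fin n) F) *
      (c : Matrix (Fin n ⊕ Fin n) (Fin n ⊕ Fin n) F) = 1 := by
    have := congrArg Subtype.val (inv_mul_cancel c)
    exact this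
  rw [h1, Matrix.charpoly_mul_comm, ← mul_assoc, h2, one_mul]

/-- In the symplectic group `Sp_{2n}(q)`, `q` a power of the prime `p`, the number of conjugacy classes of elements of order prime to `p` is `q^n`. -/
theorem result {F : Type*} [Field F] [Fintype F] {q : ℕ} (hq : Fintype.card F = q) (p : ℕ) [Fact p.Prime] [CharP F p] (n : ℕ) :
    Nat.card {c : ConjClasses ↥(Matrix.symplecticGroup (Fin n) F) //
      ∃ g : ↥(Matrix.symplecticGroup (Fin n) F), ConjClasses.mk g = c ∧ (orderOf g).Coprime p} = q ^ n := by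
  classical
  rw [← hq, ← card_pal n]
  apply Nat.card_congr
  let f : {c : ConjClasses ↥(Matrix.symplecticGroup (Fin n) F) //
      ∃ g : ↥(Matrix.symplecticGroup (Fin n) F), ConjClasses.mk g = c ∧ (orderOf g).Coprime p} →
      {χ : Polynomial F // Pal n χ} :=
    fun c => ⟨((Classical.choose c.2 : ↥(Matrix.symplecticGroup (Fin n) F)) :
      Matrix (Fin n ⊕ Fin n) (Fin n ⊕ Fin n) F).charpoly, pal_charpoly n _⟩
  refine Equiv.ofBijective f ⟨?_, ?_⟩
  · intro c c' hcc'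
    have h1 := Classical.choose_spec c.2
    have h2 := Classical.choose_spec c'.2
    have h3 : ((Classical.choose c.2 : ↥(Matrix.symplecticGroup (Fin n) F)) :
        Matrix (Fin n ⊕ Fin n) (Fin n ⊕ Fin n) F).charpoly =
        ((Classical.choose c'.2 : ↥(Matrix.symplecticGroup (Fin n) F)) :
        Matrix (Fin n ⊕ Fin n) (Fin n ⊕ Fin n) F).charpoly := congrArg Subtype.val hcc'
    have h4 := Cfsg.Agent.S2389.result p n _ _ h1.2 h2.2 h3
    apply Subtype.ext
    rw [← h1.1, ← h2.1]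
    exact ConjClasses.mk_eq_mk_iff_isConj.2 h4
  · rintro ⟨χ, hχ⟩
    obtain ⟨g', hg'o, hg'c⟩ := exists_sp_of_pal p n χ hχ
    refine ⟨⟨ConjClasses.mk g', g', rfl, hg'o⟩, ?_⟩
    apply Subtype.ext
    show ((Classical.choose (⟨g', rfl, hg'o⟩ : ∃ g'' : ↥(Matrix.symplecticGroup (Fin n) F),
      ConjClasses.mk g'' = ConjClasses.mk g' ∧ (orderOf g'').Coprime p) :
      ↥(Matrix.symplecticGroup (Fin n) F)) :
      Matrix (Fin n ⊕ Fin n) (Fin n ⊕ Fin n) F).charpoly = χ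
    have h1 := Classical.choose_spec (⟨g', rfl, hg'o⟩ :
      ∃ g'' : ↥(Matrix.symplecticGroup (Fin n) F),
      ConjClasses.mk g'' = ConjClasses.mk g' ∧ (orderOf g'').Coprime p)
    rw [← hg'c]
    exact charpoly_eq_of_isConj_Sp _ _ (ConjClasses.mk_eq_mk_iff_isConj.1 h1.1)

end Cfsg.Agent.S2385
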