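import Cfsg.Statements.S2390

import Cfsg.Agent.Lib.helper15.UCent
import Cfsg.Agent.Lib.helper15.SemiConj
import Cfsg.Agent.Lib.Helper16.GUConj
set_option autoImplicit false
open Cfsg

namespace Cfsg.Agent.S2390


open Matrix Cfsg.Agent.Lib.Helper16.RN Cfsg.Agent.Lib.helper15.UBase
open Cfsg.Agent.Lib.helper15.UDich Cfsg.Agent.Lib.helper15.UCent

/-- In the special unitary group `SU_n(q)` (inside `SL_n` over the field with `q²` elements), `q` a power of the prime `p`, two elements of order prime to `p` with the same characteristic polynomial are conjugate in `SU_n(q)`. -/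
theorem result {F : Type*} [Field F] [Fintype F] {q : ℕ} (hF : Fintype.card F = q ^ 2) (p : ℕ) [Fact p.Prime] [CharP F p] (n : ℕ)
    (g h : ↥(Cfsg.SU n F q)) (hg : (orderOf g).Coprime p) (hh : (orderOf h).Coprime p)
    (hc : ((g : Matrix.SpecialLinearGroup (Fin n) F) : Matrix (Fin n) (Fin n) F).charpoly =
      ((h : Matrix.SpecialLinearGroup (Fin n) F) : Matrix (Fin n) (Fin n) F).charpoly) : IsConj g h := by
  classical
  have hp : p.Prime := Fact.out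
  rcases Nat.eq_zero_or_pos n with hn0 | hn
  · subst hn0
    have : g = h := by
      apply Subtype.ext
      apply Subtype.ext
      exact Subsingleton.elim _ _
    rw [this]
  obtain ⟨σ, hσ, hσσ⟩ := frob_data hF
  have hq2 := two_le_q hF
  obtain ⟨G, hG⟩ : ∃ G : Matrix (Fin n) (Fin n) F, G = (g.1 : Matrix (Fin n) (Fin n) F) := ⟨_, rfl⟩
  obtain ⟨H, hH⟩ : ∃ H : Matrix (Fin n) (Fin n) F, H = (h.1 : Matrix (Fin n) (Fin n) F) := ⟨_, rfl⟩
  obtain ⟨M, hMdef⟩ : ∃ M, M = orderOf g * orderOf h := ⟨_, rfl⟩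
  have hM : ((M : ℕ) : F) ≠ 0 := by
    rw [Ne, CharP.cast_eq_zero_iff F p, hMdef]
    intro hdvd
    rcases (Nat.Prime.dvd_mul hp).1 hdvd with h1 | h1
    · exact (Nat.Prime.coprime_iff_not_dvd hp).1 hg.symm h1
    · exact (Nat.Prime.coprime_iff_not_dvd hp).1 hh.symm h1
  have hGM : G ^ M = 1 := by
    rw [hG, ← coe_pow_SU, hMdef, pow_mul, pow_orderOf_eq_one, one_pow]
    rfl
  have hHM : H ^ M = 1 := by
    rw [hH, ← coe_pow_SU, hMdef, mul_comm, pow_mul, pow_orderOf_eq_one, one_pow]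
    rfl
  have hGU : (uAdj n σ hσσ).adj G * G = 1 := by rw [hG]; exact SU_adj σ hσ hσσ g
  have hHU : (uAdj n σ hσσ).adj H * H = 1 := by rw [hH]; exact SU_adj σ hσ hσσ h
  obtain ⟨Qm, hQm⟩ := Cfsg.Agent.Lib.helper15.SemiConj.exists_GL_conj_of_charpoly_eq n M hM G H hGM hHM
    (by rw [hG, hH]; exact hc)
  obtain ⟨Ag, hAg⟩ : ∃ Ag : GL (Fin n) F, (Ag : Matrix (Fin n) (Fin n) F) = G :=
    ⟨⟨G, (uAdj n σ hσσ).adj G, mul_adj_of_adj_mul _ G hGU, hGU⟩, rfl⟩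
  obtain ⟨Bh, hBh⟩ : ∃ Bh : GL (Fin n) F, (Bh : Matrix (Fin n) (Fin n) F) = H :=
    ⟨⟨H, (uAdj n σ hσσ).adj H, mul_adj_of_adj_mul _ H hHU, hHU⟩, rfl⟩
  have hAmem : Ag ∈ Cfsg.GU n F q := by
    rw [mem_GU_iff σ hσ hσσ, hAg]
    exact hGU
  have hBmem : Bh ∈ Cfsg.GU n F q := by
    rw [mem_GU_iff σ hσ hσσ, hBh]
    exact hHU
  have hconjGL : IsConj Ag Bh := by
    rw [isConj_iff]
    refine ⟨Qm, ?_⟩
    rw [mul_inv_eq_iff_eq_mul]
    apply Units.ext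
    rw [Units.val_mul, Units.val_mul, hAg, hBh]
    exact hQm
  have hconjGU : IsConj (⟨Ag, hAmem⟩ : Cfsg.GU n F q) ⟨Bh, hBmem⟩ :=
    (Cfsg.Agent.Lib.Helper16.FCR.gu_conj_iff hF _ _).2 hconjGL
  obtain ⟨x, hx⟩ := isConj_iff.1 hconjGU
  obtain ⟨Xm, hXm⟩ : ∃ Xm : Matrix (Fin n) (Fin n) F, Xm = ((x.1 : GL (Fin n) F) : Matrix (Fin n) (Fin n) F) :=
    ⟨_, rfl⟩
  have hXU : (uAdj n σ hσσ).adj Xm * Xm = 1 := by
    rw [hXm]
    exact (mem_GU_iff σ hσ hσσ x.1).1 x.2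
  have hXG : Xm * G = H * Xm := by
    rw [mul_inv_eq_iff_eq_mul] at hx
    have h1 := congrArg (fun y : Cfsg.GU n F q => ((y.1 : GL (Fin n) F) : Matrix (Fin n) (Fin n) F)) hx
    simp only [Subgroup.coe_mul, Units.val_mul] at h1
    rw [hAg, hBh, ← hXm] at h1
    exact h1
  obtain ⟨δ₀, hδ₀⟩ : ∃ δ₀, δ₀ = Xm.det := ⟨_, rfl⟩
  have hδ₀1 : δ₀ ^ (q + 1) = 1 := by
    have h1 := congrArg Matrix.det hXU
    rw [Matrix.det_mul, det_adj σ hσσ, Matrix.det_one, hσ, ← hδ₀, ← pow_succ] at h1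
    exact h1
  have hδ₀0 : δ₀ ≠ 0 := by
    intro h0
    rw [h0, zero_pow (by omega)] at hδ₀1
    exact zero_ne_one hδ₀1
  obtain ⟨c, hcU, hcG, hcdet⟩ := exists_unitary_commuting_det hF hn σ hσ hσσ G hGU M hGM hM δ₀⁻¹
    (by rw [inv_pow, hδ₀1, inv_one])
  have hYdet : (Xm * c).det = 1 := by
    rw [Matrix.det_mul, ← hδ₀, hcdet, mul_inv_cancel₀ hδ₀0]
  have hYU : (uAdj n σ hσσ).adj (Xm * c) * (Xm * c) = 1 := by
    rw [(uAdj n σ hσσ).mul']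
    calc (uAdj n σ hσσ).adj c * (uAdj n σ hσσ).adj Xm * (Xm * c)
        = (uAdj n σ hσσ).adj c * ((uAdj n σ hσσ).adj Xm * Xm) * c := by
          simp only [Matrix.mul_assoc]
      _ = 1 := by rw [hXU, Matrix.mul_one, hcU]
  rw [isConj_iff]
  refine ⟨mkSU σ hσ hσσ (Xm * c) hYdet hYU, ?_⟩
  rw [mul_inv_eq_iff_eq_mul]
  apply Subtype.ext
  apply Subtype.ext
  show (Xm * c) * (g.1 : Matrix (Fin n) (Fin n) F) = (h.1 : Matrix (Fin n) (Fin n) F) * (Xm * c)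
  rw [← hG, ← hH, Matrix.mul_assoc, hcG.eq, ← Matrix.mul_assoc, hXG, Matrix.mul_assoc]

end Cfsg.Agent.S2390
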