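import Cfsg.Statements.S2386

import Cfsg.Agent.Lib.helper15.UCount
import Cfsg.Agent.S2384
import Cfsg.Agent.S2390
set_option autoImplicit false
open Cfsg

namespace Cfsg.Agent.S2386


open Matrix Cfsg.Agent.Lib.Helper16.RN Cfsg.Agent.Lib.helper15.UBase
open Cfsg.Agent.Lib.helper15.UDich Cfsg.Agent.Lib.helper15.UCount

theorem charpoly_eq_of_isConj_SU {F : Type*} [Field F] {n q : ℕ} (g h : Cfsg.SU n F q)
    (hgh : IsConj g h) :
    (g.1 : Matrix (Fin n) (Fin n) F).charpoly = (h.1 : Matrix (Fin n) (Fin n) F).charpoly :=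
  Cfsg.Agent.S2384.charpoly_eq_of_isConj_SL n g.1 h.1
    (MonoidHom.map_isConj (Cfsg.SU n F q).subtype hgh)

/-- In the special unitary group `SU_n(q)` (matrices of determinant one over the field with `q²` elements preserving the standard Hermitian form), `q` a power of the prime `p`, the number of conjugacy classes of elements of order prime to `p` is `q^(n-1)`. -/
theorem result {F : Type*} [Field F] [Fintype F] {q : ℕ} (hF : Fintype.card F = q ^ 2) (p : ℕ) [Fact p.Prime] [CharP F p] (n : ℕ) (hn : 1 ≤ n) :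
    Nat.card {c : ConjClasses ↥(Cfsg.SU n F q) // ∃ g : ↥(Cfsg.SU n F q), ConjClasses.mk g = c ∧ (orderOf g).Coprime p} = q ^ (n - 1) := by
  classical
  obtain ⟨σ, hσ, hσσ⟩ := frob_data hF
  obtain ⟨n', rfl⟩ : ∃ n', n = n' + 1 := ⟨n - 1, by omega⟩
  rw [Nat.add_sub_cancel, ← card_SD hF σ hσ hσσ n']
  apply Nat.card_congr
  let f : {c : ConjClasses ↥(Cfsg.SU (n' + 1) F q) //
      ∃ g : ↥(Cfsg.SU (n' + 1) F q), ConjClasses.mk g = c ∧ (orderOf g).Coprime p} →
      {χ : Polynomial F // χ.Monic ∧ χ.natDegree = n' + 1 ∧ χ.coeff 0 = (-1 : F) ^ (n' + 1) ∧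
        SD σ (n' + 1) χ} :=
    fun c => ⟨(((Classical.choose c.2 : ↥(Cfsg.SU (n' + 1) F q)).1 :
      Matrix.SpecialLinearGroup (Fin (n' + 1)) F) : Matrix (Fin (n' + 1)) (Fin (n' + 1)) F).charpoly,
      Matrix.charpoly_monic _, by rw [Matrix.charpoly_natDegree_eq_dim, Fintype.card_fin],
      Cfsg.Agent.S2384.charpoly_coeff_zero_SL _ _,
      SD_charpoly σ hσσ _ (SU_adj σ hσ hσσ _) (Classical.choose c.2).1.2⟩
  refine Equiv.ofBijective f ⟨?_, ?_⟩
  · intro c c' hcc'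
    have h1 := Classical.choose_spec c.2
    have h2 := Classical.choose_spec c'.2
    have h3 : (((Classical.choose c.2 : ↥(Cfsg.SU (n' + 1) F q)).1 :
        Matrix.SpecialLinearGroup (Fin (n' + 1)) F) :
        Matrix (Fin (n' + 1)) (Fin (n' + 1)) F).charpoly =
        (((Classical.choose c'.2 : ↥(Cfsg.SU (n' + 1) F q)).1 :
        Matrix.SpecialLinearGroup (Fin (n' + 1)) F) :
        Matrix (Fin (n' + 1)) (Fin (n' + 1)) F).charpoly := congrArg Subtype.val hcc'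
    have h4 := Cfsg.Agent.S2390.result hF p (n' + 1) _ _ h1.2 h2.2 h3
    apply Subtype.ext
    rw [← h1.1, ← h2.1]
    exact ConjClasses.mk_eq_mk_iff_isConj.2 h4
  · rintro ⟨χ, hχm, hχd, hχ0, hχS⟩
    obtain ⟨g', hg'o, hg'c⟩ := exists_SU_of_charpoly hF p σ hσ hσσ (n' + 1) χ hχm hχd hχ0 hχS
    refine ⟨⟨ConjClasses.mk g', g', rfl, hg'o⟩, ?_⟩
    apply Subtype.ext
    show (((Classical.choose (⟨g', rfl, hg'o⟩ : ∃ g'' : ↥(Cfsg.SU (n' + 1) F q),
      ConjClasses.mk g'' = ConjClasses.mk g' ∧ (orderOf g'').Coprime p) :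
      ↥(Cfsg.SU (n' + 1) F q)).1 : Matrix.SpecialLinearGroup (Fin (n' + 1)) F) :
      Matrix (Fin (n' + 1)) (Fin (n' + 1)) F).charpoly = χ
    have h1 := Classical.choose_spec (⟨g', rfl, hg'o⟩ :
      ∃ g'' : ↥(Cfsg.SU (n' + 1) F q),
      ConjClasses.mk g'' = ConjClasses.mk g' ∧ (orderOf g'').Coprime p)
    rw [← hg'c]
    exact charpoly_eq_of_isConj_SU _ _ (ConjClasses.mk_eq_mk_iff_isConj.1 h1.1)

end Cfsg.Agent.S2386
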