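import Cfsg.Statements.S2387

import Cfsg.Agent.Lib.helper15.SemiCount
set_option autoImplicit false
open scoped MatrixGroups
open Cfsg

namespace Cfsg.Agent.S2387


open scoped MatrixGroups
open Cfsg.Agent.Lib.helper15.SemiCount Cfsg.Agent.Lib.helper15.SemiReal

/-- In `GL_n(q)` with `n ≥ 1`, `q` a power of the prime `p`, the number of conjugacy classes of elements of order prime to `p` (diagonalisable over the algebraic closure; determined by the characteristic polynomial) is `(q - 1) q^(n-1)`. -/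
theorem result {F : Type*} [Field F] [Fintype F] {q : ℕ} (hq : Fintype.card F = q) (p : ℕ) [Fact p.Prime] [CharP F p] (n : ℕ) (hn : 1 ≤ n) :
    Nat.card {c : ConjClasses (GL (Fin n) F) // ∃ g : GL (Fin n) F, ConjClasses.mk g = c ∧ (orderOf g).Coprime p} = (q - 1) * q ^ (n - 1) := by
  classical
  obtain ⟨n', rfl⟩ : ∃ n', n = n' + 1 := ⟨n - 1, by omega⟩
  rw [Nat.add_sub_cancel, ← hq, ← card_monic_coeff_zero_ne (F := F) n']
  apply Nat.card_congr
  let f : {c : ConjClasses (GL (Fin (n' + 1)) F) // ∃ g : GL (Fin (n' + 1)) F,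
      ConjClasses.mk g = c ∧ (orderOf g).Coprime p} →
      {χ : Polynomial F // χ.Monic ∧ χ.natDegree = n' + 1 ∧ χ.coeff 0 ≠ 0} :=
    fun c => ⟨((Classical.choose c.2 : GL (Fin (n' + 1)) F) :
      Matrix (Fin (n' + 1)) (Fin (n' + 1)) F).charpoly,
      Matrix.charpoly_monic _, by rw [Matrix.charpoly_natDegree_eq_dim, Fintype.card_fin],
      charpoly_coeff_zero_ne _ _⟩
  refine Equiv.ofBijective f ⟨?_, ?_⟩
  · intro c c' hcc'
    have h1 := Classical.choose_spec c.2
    have h2 := Classical.choose_spec c'.2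
    have h3 : ((Classical.choose c.2 : GL (Fin (n' + 1)) F) :
        Matrix (Fin (n' + 1)) (Fin (n' + 1)) F).charpoly =
        ((Classical.choose c'.2 : GL (Fin (n' + 1)) F) :
        Matrix (Fin (n' + 1)) (Fin (n' + 1)) F).charpoly := congrArg Subtype.val hcc'
    have h4 := isConj_GL_of_charpoly_eq p (n' + 1) _ _ h1.2 h2.2 h3
    apply Subtype.ext
    rw [← h1.1, ← h2.1]
    exact ConjClasses.mk_eq_mk_iff_isConj.2 h4
  · rintro ⟨χ, hχm, hχd, hχ0⟩
    obtain ⟨g, hg, hgc⟩ := exists_GL_of_charpoly p (n' + 1) χ hχm hχd hχ0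
    refine ⟨⟨ConjClasses.mk g, g, rfl, hg⟩, ?_⟩
    apply Subtype.ext
    show ((Classical.choose (⟨g, rfl, hg⟩ : ∃ g' : GL (Fin (n' + 1)) F,
      ConjClasses.mk g' = ConjClasses.mk g ∧ (orderOf g').Coprime p) : GL (Fin (n' + 1)) F) :
      Matrix (Fin (n' + 1)) (Fin (n' + 1)) F).charpoly = χ
    have h1 := Classical.choose_spec (⟨g, rfl, hg⟩ : ∃ g' : GL (Fin (n' + 1)) F,
      ConjClasses.mk g' = ConjClasses.mk g ∧ (orderOf g').Coprime p)
    rw [← hgc]
    exact charpoly_eq_of_isConj _ _ _ (ConjClasses.mk_eq_mk_iff_isConj.1 h1.1)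

end Cfsg.Agent.S2387
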