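import Cfsg.Statements.S2391

set_option autoImplicit false
open Cfsg

namespace Cfsg.Agent.S2391


open Matrix

section
variable {F : Type*} [Field F] {n : ℕ}

def nxt (U : Subgroup (SpecialLinearGroup (Fin n) F)) (S : Submodule F (Fin n → F)) :
    Submodule F (Fin n → F) where
  carrier := {v | ∀ u ∈ U, (u : Matrix (Fin n) (Fin n) F).mulVec v - v ∈ S}
  add_mem' := by
    intro a b ha hb u hu
    have : (u : Matrix (Fin n) (Fin n) F).mulVec (a + b) - (a + b) =
        ((u : Matrix (Fin n) (Fin n) F).mulVec a - a) + ((u : Matrix (Fin n) (Fin n) F).mulVec b - b) := by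
      rw [Matrix.mulVec_add]; abel
    rw [this]
    exact S.add_mem (ha u hu) (hb u hu)
  zero_mem' := by
    intro u _
    simp
  smul_mem' := by
    intro c a ha u hu
    have : (u : Matrix (Fin n) (Fin n) F).mulVec (c • a) - c • a =
        c • ((u : Matrix (Fin n) (Fin n) F).mulVec a - a) := by
      rw [Matrix.mulVec_smul, smul_sub]
    rw [this]
    exact S.smul_mem c (ha u hu)

lemma mem_nxt (U : Subgroup (SpecialLinearGroup (Fin n) F)) (S : Submodule F (Fin n → F))
    (v : Fin n → F) :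
    v ∈ nxt U S ↔ ∀ u ∈ U, (u : Matrix (Fin n) (Fin n) F).mulVec v - v ∈ S := Iff.rfl

lemma nxt_mono (U : Subgroup (SpecialLinearGroup (Fin n) F)) {S T : Submodule F (Fin n → F)}
    (h : S ≤ T) : nxt U S ≤ nxt U T := fun _ hv u hu => h (hv u hu)

def W (U : Subgroup (SpecialLinearGroup (Fin n) F)) : ℕ → Submodule F (Fin n → F)
  | 0 => ⊥
  | m + 1 => nxt U (W U m)

lemma W_zero (U : Subgroup (SpecialLinearGroup (Fin n) F)) : W U 0 = ⊥ := rfl
lemma W_succ (U : Subgroup (SpecialLinearGroup (Fin n) F)) (m : ℕ) : W U (m + 1) = nxt U (W U m) := rfl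

lemma W_le_succ (U : Subgroup (SpecialLinearGroup (Fin n) F)) (m : ℕ) : W U m ≤ W U (m + 1) := by
  induction m with
  | zero => rw [W_zero]; exact bot_le
  | succ m ih => rw [W_succ, W_succ U (m + 1)]; exact nxt_mono U ih

lemma W_mono (U : Subgroup (SpecialLinearGroup (Fin n) F)) : Monotone (W U) :=
  monotone_nat_of_le_succ (W_le_succ U)

lemma W_stable (U : Subgroup (SpecialLinearGroup (Fin n) F)) (m : ℕ) (u : SpecialLinearGroup (Fin n) F)
    (hu : u ∈ U) (v : Fin n → F) (hv : v ∈ W U m) :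
    (u : Matrix (Fin n) (Fin n) F).mulVec v ∈ W U m := by
  have h1 : v ∈ W U (m + 1) := W_le_succ U m hv
  have h2 := h1 u hu
  have : (u : Matrix (Fin n) (Fin n) F).mulVec v = ((u : Matrix (Fin n) (Fin n) F).mulVec v - v) + v := by
    abel
  rw [this]
  exact (W U m).add_mem h2 hv

lemma W_normalizer (U : Subgroup (SpecialLinearGroup (Fin n) F)) (g : SpecialLinearGroup (Fin n) F)
    (hg : g ∈ Subgroup.normalizer (U : Set (SpecialLinearGroup (Fin n) F))) (m : ℕ) :
    ∀ v ∈ W U m, (g : Matrix (Fin n) (Fin n) F).mulVec v ∈ W U m := by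
  induction m with
  | zero =>
    intro v hv
    rw [W_zero, Submodule.mem_bot] at hv ⊢
    rw [hv, Matrix.mulVec_zero]
  | succ m ih =>
    intro v hv u hu
    have hconj : g⁻¹ * u * g ∈ U := by
      have := (Subgroup.mem_normalizer_iff.1 hg (g⁻¹ * u * g))
      rw [this]
      have e : g * (g⁻¹ * u * g) * g⁻¹ = u := by group
      rw [e]
      exact hu
    have h1 := hv _ hconj
    have h2 := ih _ h1
    have e : (g : Matrix (Fin n) (Fin n) F).mulVec
        (((g⁻¹ * u * g : SpecialLinearGroup (Fin n) F) : Matrix (Fin n) (Fin n) F).mulVec v - v) =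
        (u : Matrix (Fin n) (Fin n) F).mulVec ((g : Matrix (Fin n) (Fin n) F).mulVec v) -
          (g : Matrix (Fin n) (Fin n) F).mulVec v := by
      rw [Matrix.mulVec_sub, Matrix.mulVec_mulVec, Matrix.mulVec_mulVec]
      congr 2
      have e2 : g * (g⁻¹ * u * g) = u * g := by group
      have := congrArg (fun z : SpecialLinearGroup (Fin n) F => (z : Matrix (Fin n) (Fin n) F)) e2
      simpa using this
    rw [← e]
    exact h2

lemma W_strict [Fintype F] (p : ℕ) [Fact p.Prime] [CharP F p]
    (U : Subgroup (SpecialLinearGroup (Fin n) F)) (hU : IsPGroup p ↥U) (m : ℕ)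
    (hm : W U m ≠ ⊤) : W U m < W U (m + 1) := by
  classical
  refine lt_of_le_of_ne (W_le_succ U m) ?_
  intro heq
  set S := W U m with hS
  let qmap : ↥U → ((Fin n → F) ⧸ S) →ₗ[F] ((Fin n → F) ⧸ S) := fun u =>
    S.mapQ S (Matrix.mulVecLin (u.1 : Matrix (Fin n) (Fin n) F))
      (fun v hv => W_stable U m u.1 u.2 v hv)
  have hq : ∀ (u : ↥U) (v : Fin n → F), qmap u (Submodule.Quotient.mk v) =
      Submodule.Quotient.mk ((u.1 : Matrix (Fin n) (Fin n) F).mulVec v) := fun u v => rfl
  let _ : MulAction ↥U ((Fin n → F) ⧸ S) :=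
    { smul := fun u x => qmap u x
      one_smul := by
        intro x
        obtain ⟨v, rfl⟩ := Submodule.Quotient.mk_surjective S x
        show qmap 1 (Submodule.Quotient.mk v) = _
        rw [hq]
        simp
      mul_smul := by
        intro u u' x
        obtain ⟨v, rfl⟩ := Submodule.Quotient.mk_surjective S x
        show qmap (u * u') (Submodule.Quotient.mk v) = qmap u (qmap u' (Submodule.Quotient.mk v))
        rw [hq, hq, hq, Matrix.mulVec_mulVec]
        rfl }
  have hsmul : ∀ (u : ↥U) (v : Fin n → F), u • (Submodule.Quotient.mk v : (Fin n → F) ⧸ S) =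
      Submodule.Quotient.mk ((u.1 : Matrix (Fin n) (Fin n) F).mulVec v) := fun u v => rfl
  have hnt : Nontrivial ((Fin n → F) ⧸ S) := Submodule.Quotient.nontrivial_iff.2 hm
  have hdvd : p ∣ Nat.card ((Fin n → F) ⧸ S) := by
    have : Fintype ((Fin n → F) ⧸ S) := Fintype.ofFinite _
    rw [Nat.card_eq_fintype_card, Module.card_eq_pow_finrank (K := F)]
    have h1 : p ∣ Fintype.card F := by
      obtain ⟨k, hk⟩ := FiniteField.card F p
      rw [hk.2]
      exact dvd_pow_self p k.ne_zero
    exact dvd_pow h1 (Module.finrank_pos (R := F)).ne'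
  have h0 : (0 : (Fin n → F) ⧸ S) ∈ MulAction.fixedPoints ↥U ((Fin n → F) ⧸ S) := by
    intro u
    have : (0 : (Fin n → F) ⧸ S) = Submodule.Quotient.mk 0 := rfl
    rw [this, hsmul, Matrix.mulVec_zero]
  obtain ⟨b, hb, hb0⟩ := hU.exists_fixed_point_of_prime_dvd_card_of_fixed_point _ hdvd h0
  obtain ⟨v, rfl⟩ := Submodule.Quotient.mk_surjective S b
  have hvS : v ∉ S := by
    intro hv
    apply hb0
    exact ((Submodule.Quotient.mk_eq_zero S).2 hv).symm
  apply hvS
  rw [heq]
  intro u hu
  have := hb ⟨u, hu⟩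
  rw [hsmul, Submodule.Quotient.eq] at this
  exact this

lemma W_top_or [Fintype F] (p : ℕ) [Fact p.Prime] [CharP F p]
    (U : Subgroup (SpecialLinearGroup (Fin n) F)) (hU : IsPGroup p ↥U) (m : ℕ) :
    W U m = ⊤ ∨ m ≤ Module.finrank F (W U m) := by
  induction m with
  | zero => right; exact Nat.zero_le _
  | succ m ih =>
    by_cases hm : W U m = ⊤
    · left
      exact top_le_iff.1 (hm ▸ W_le_succ U m)
    · right
      rcases ih with h | h
      · exact absurd h hm
      · have := Submodule.finrank_lt_finrank_of_lt (W_strict p U hU m hm)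
        omega

lemma exists_top [Fintype F] (p : ℕ) [Fact p.Prime] [CharP F p]
    (U : Subgroup (SpecialLinearGroup (Fin n) F)) (hU : IsPGroup p ↥U) : ∃ m, W U m = ⊤ := by
  refine ⟨n + 1, ?_⟩
  rcases W_top_or p U hU (n + 1) with h | h
  · exact h
  · exfalso
    have h1 : Module.finrank F (W U (n + 1)) ≤ Module.finrank F (Fin n → F) :=
      Submodule.finrank_le _
    rw [Module.finrank_fin_fun] at h1
    omega

end

/-- The Borel–Tits property of `SL_n(q)` in flag form: for a field `F` of characteristic `p` with finitely many elements and a non-trivial `p`-subgroup `U` of `SL_n(F)`, there is a flag `0 = V₀ < V₁ < ⋯ < V_{k+1} = F^n` with at least one proper non-zero member such that every element of the normaliser of `U` maps each `V_i` onto itself and every element of `U` acts trivially on each quotient `V_{i+1}/V_i` (so the normaliser lies in the parabolic subgroup of the flag and `U` in its unipotent radical). -/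
theorem result {F : Type*} [Field F] [Fintype F] (p : ℕ) [Fact p.Prime] [CharP F p] (n : ℕ)
    (U : Subgroup (Matrix.SpecialLinearGroup (Fin n) F)) (hU : IsPGroup p ↥U) (hne : U ≠ ⊥) :
    ∃ (k : ℕ) (V : Fin (k + 2) → Submodule F (Fin n → F)), 1 ≤ k ∧ StrictMono V ∧ V 0 = ⊥ ∧ V (Fin.last (k + 1)) = ⊤ ∧
      (∀ g ∈ Subgroup.normalizer (U : Set (Matrix.SpecialLinearGroup (Fin n) F)), ∀ i, (V i).map (Matrix.mulVecLin (g : Matrix (Fin n) (Fin n) F)) = V i) ∧
      (∀ u ∈ U, ∀ i : Fin (k + 1), ∀ v ∈ V i.succ, (u : Matrix (Fin n) (Fin n) F).mulVec v - v ∈ V (Fin.castSucc i)) := by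
  classical
  have hex := exists_top p U hU
  set K := Nat.find hex with hK
  have hKtop : W U K = ⊤ := Nat.find_spec hex
  have hKmin : ∀ m, m < K → W U m ≠ ⊤ := fun m hm => Nat.find_min hex hm
  have hW1 : W U 1 ≠ ⊤ := by
    intro h
    apply hne
    rw [Subgroup.eq_bot_iff_forall]
    intro u hu
    apply Subtype.ext
    ext i j
    have hv : (Pi.single j 1 : Fin n → F) ∈ W U 1 := by rw [h]; trivial
    have h2 := hv u hu
    rw [W_zero, Submodule.mem_bot, sub_eq_zero] at h2
    have := congrFun h2 i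
    show (u : Matrix (Fin n) (Fin n) F) i j = (1 : Matrix (Fin n) (Fin n) F) i j
    rw [Matrix.one_apply, ← Pi.single_apply, ← this]
    simp
  have hK2 : 2 ≤ K := by
    by_contra hlt
    have hK1 : K ≤ 1 := by omega
    apply hW1
    exact top_le_iff.1 (hKtop ▸ W_mono U hK1)
  obtain ⟨k, hk⟩ : ∃ k, K = k + 1 := ⟨K - 1, by omega⟩
  refine ⟨k, fun i => W U i.val, by omega, ?_, rfl, ?_, ?_, ?_⟩
  · rw [Fin.strictMono_iff_lt_succ]
    intro i
    show W U i.val < W U (i.val + 1)
    exact W_strict p U hU _ (hKmin _ (by have := i.2; omega))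
  · show W U (k + 1) = ⊤
    rw [← hk]
    exact hKtop
  · intro g hg i
    apply le_antisymm
    · rintro _ ⟨v, hv, rfl⟩
      exact W_normalizer U g hg _ v hv
    · intro v hv
      refine ⟨((g⁻¹ : Matrix.SpecialLinearGroup (Fin n) F) : Matrix (Fin n) (Fin n) F).mulVec v,
        W_normalizer U g⁻¹ (inv_mem hg) _ v hv, ?_⟩
      show (g : Matrix (Fin n) (Fin n) F).mulVec
        (((g⁻¹ : Matrix.SpecialLinearGroup (Fin n) F) : Matrix (Fin n) (Fin n) F).mulVec v) = v
      rw [Matrix.mulVec_mulVec]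
      have h3 : (g : Matrix (Fin n) (Fin n) F) *
          ((g⁻¹ : Matrix.SpecialLinearGroup (Fin n) F) : Matrix (Fin n) (Fin n) F) = 1 := by
        rw [← Matrix.SpecialLinearGroup.coe_mul, mul_inv_cancel, Matrix.SpecialLinearGroup.coe_one]
      rw [h3, Matrix.one_mulVec]
  · intro u hu i v hv
    exact hv u hu

end Cfsg.Agent.S2391
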