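import Cfsg.Statements.S2392

import Cfsg.Agent.Lib.helper15.FourierIdem
set_option autoImplicit false
open scoped MatrixGroups
open Cfsg

namespace Cfsg.Agent.S2392


open Matrix Cfsg.Agent.Lib.helper15.FourierIdem

section sl

variable {F : Type*} [Field F] {m : ℕ}

lemma det_tv (u w : Fin (m + 1) → F) (h : w ⬝ᵥ u = 0) : (1 + vecMulVec u w).det = 1 := by
  rw [vecMulVec_eq Unit, det_one_add_replicateCol_mul_replicateRow, h, add_zero]

def tv (u w : Fin (m + 1) → F) (h : w ⬝ᵥ u = 0) : Matrix.SpecialLinearGroup (Fin (m + 1)) F :=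
  ⟨1 + vecMulVec u w, det_tv u w h⟩

lemma tv_coe (u w : Fin (m + 1) → F) (h : w ⬝ᵥ u = 0) :
    (tv u w h : Matrix (Fin (m + 1)) (Fin (m + 1)) F) = 1 + vecMulVec u w := rfl

lemma tv_mul_tv (u w x y : Fin (m + 1) → F) (h1 : w ⬝ᵥ u = 0) (h2 : y ⬝ᵥ x = 0) :
    ((tv u w h1 * tv x y h2 : Matrix.SpecialLinearGroup (Fin (m + 1)) F) :
      Matrix (Fin (m + 1)) (Fin (m + 1)) F) =
      1 + vecMulVec u w + vecMulVec x y + (w ⬝ᵥ x) • vecMulVec u y := by
  rw [Matrix.SpecialLinearGroup.coe_mul, tv_coe, tv_coe, add_mul, mul_add, mul_add, one_mul,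
    mul_one, one_mul, vecMulVec_mul_vecMulVec, vecMulVec_smul]
  abel

def ex (v : Fin m → F) : Fin (m + 1) → F := vecCons 0 v

lemma ex_add (v w : Fin m → F) : ex (v + w) = ex v + ex w := by
  funext i
  refine Fin.cases ?_ (fun j => ?_) i <;> simp [ex]

lemma ex_smul (c : F) (v : Fin m → F) : ex (c • v) = c • ex v := by
  funext i
  refine Fin.cases ?_ (fun j => ?_) i <;> simp [ex]

lemma ex_zero : ex (0 : Fin m → F) = 0 := by
  funext i
  refine Fin.cases ?_ (fun j => ?_) i <;> simp [ex]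

lemma ex_dot_ex (v w : Fin m → F) : ex v ⬝ᵥ ex w = v ⬝ᵥ w := by
  simp [ex]

def e0 : Fin (m + 1) → F := Pi.single 0 1

lemma e0_dot_ex (v : Fin m → F) : (e0 : Fin (m + 1) → F) ⬝ᵥ ex v = 0 := by
  simp [e0, ex]

def av (v : Fin m → F) : Matrix.SpecialLinearGroup (Fin (m + 1)) F :=
  tv (ex v) e0 (e0_dot_ex v)

lemma av_add (v w : Fin m → F) : av (v + w) = av v * av w := by
  apply Subtype.ext
  rw [av, av, av, tv_mul_tv, tv_coe, e0_dot_ex, zero_smul, add_zero, ex_add, add_vecMulVec,
    add_assoc]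

lemma av_zero : av (0 : Fin m → F) = 1 := by
  apply Subtype.ext
  rw [av, tv_coe, ex_zero]
  simp

lemma av_entry (v : Fin m → F) (j : Fin m) :
    (av v : Matrix (Fin (m + 1)) (Fin (m + 1)) F) j.succ 0 = v j := by
  rw [av, tv_coe, Matrix.add_apply, vecMulVec_apply, Matrix.one_apply_ne (Fin.succ_ne_zero j)]
  simp [ex, e0]

lemma av_not_center (v : Fin m → F) (hv : v ≠ 0) :
    av v ∉ Subgroup.center (Matrix.SpecialLinearGroup (Fin (m + 1)) F) := by
  intro h
  rw [Matrix.SpecialLinearGroup.mem_center_iff] at h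
  obtain ⟨r, -, hr⟩ := h
  apply hv
  funext j
  rw [← av_entry v j, ← hr]
  simp [Fin.succ_ne_zero]

def gt (u w : Fin m → F) (h : w ⬝ᵥ u = 0) : Matrix.SpecialLinearGroup (Fin (m + 1)) F :=
  tv (ex u) (ex w) (by rw [ex_dot_ex, h])

lemma gt_mul_av (u w : Fin m → F) (h : w ⬝ᵥ u = 0) (v : Fin m → F) :
    gt u w h * av v = av (v + (w ⬝ᵥ v) • u) * gt u w h := by
  apply Subtype.ext
  rw [gt, av, av, tv_mul_tv, tv_mul_tv, ex_dot_ex, e0_dot_ex, zero_smul, add_zero, ex_add,
    add_vecMulVec, ex_smul, smul_vecMulVec]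
  abel

def Tm (u w : Fin m → F) (h : w ⬝ᵥ u = 0) : (Fin m → F) ≃ (Fin m → F) where
  toFun v := v + (w ⬝ᵥ v) • u
  invFun v := v - (w ⬝ᵥ v) • u
  left_inv v := by
    simp only [dotProduct_add, dotProduct_smul, h, smul_eq_mul, mul_zero, add_zero]
    abel
  right_inv v := by
    simp only [dotProduct_sub, dotProduct_smul, h, smul_eq_mul, mul_zero, sub_zero]
    abel

end sl

section main

variable {F : Type*} [Field F] [Fintype F] [DecidableEq F] {m : ℕ} {L : Type*} [Field L] {d : ℕ}

lemma step (ψ : AddChar F L)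
    (rr : Matrix.SpecialLinearGroup (Fin (m + 1)) F →* Matrix (Fin d) (Fin d) L)
    (l μ : Fin m → F) (j : Fin m) (hj : l j ≠ 0) (hμ : μ j = l j)
    (hl : idem ψ (fun v => rr (av v)) l ≠ 0) : idem ψ (fun v => rr (av v)) μ ≠ 0 := by
  set w : Fin m → F := (l j)⁻¹ • (l - μ) with hw
  have hwu : w ⬝ᵥ Pi.single j 1 = 0 := by
    simp [hw, hμ]
  intro h0
  apply hl
  have hs := conj_idem ψ (fun v => rr (av v)) (rr (gt (Pi.single j 1) w hwu))
    (Tm (Pi.single j 1) w hwu) ?_ l μ ?_
  · have h1 : idem ψ (fun v => rr (av v)) l = rr (gt (Pi.single j 1) w hwu)⁻¹ *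
        (rr (gt (Pi.single j 1) w hwu) * idem ψ (fun v => rr (av v)) l) := by
      rw [← mul_assoc, ← map_mul, inv_mul_cancel, map_one, one_mul]
    rw [h1, hs, h0, zero_mul, mul_zero]
  · intro v
    rw [← map_mul, ← map_mul, gt_mul_av]
    rfl
  · intro v
    show μ ⬝ᵥ (v + (w ⬝ᵥ v) • Pi.single j 1) = l ⬝ᵥ v
    rw [dotProduct_add, dotProduct_smul, dotProduct_single, hw, smul_dotProduct, sub_dotProduct,
      hμ]
    simp only [smul_eq_mul, mul_one]
    field_simp
    ring

lemma all_ne_zero (hm : 2 ≤ m) (ψ : AddChar F L)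
    (rr : Matrix.SpecialLinearGroup (Fin (m + 1)) F →* Matrix (Fin d) (Fin d) L)
    (l : Fin m → F) (hl0 : l ≠ 0) (hl : idem ψ (fun v => rr (av v)) l ≠ 0)
    (μ : Fin m → F) (hμ0 : μ ≠ 0) : idem ψ (fun v => rr (av v)) μ ≠ 0 := by
  obtain ⟨j, hj⟩ : ∃ j, l j ≠ 0 := by
    by_contra h
    push Not at h
    exact hl0 (funext h)
  obtain ⟨k, hk⟩ : ∃ k, μ k ≠ 0 := by
    by_contra h
    push Not at h
    exact hμ0 (funext h)
  by_cases hkj : k = j
  · subst hkj
    have : Nontrivial (Fin m) := Fin.nontrivial_iff_two_le.2 hm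
    obtain ⟨i, hi⟩ := exists_ne k
    have h1 := step ψ rr l (Function.update l i 1) k hj
      (Function.update_of_ne (Ne.symm hi) _ _) hl
    have h2 := step ψ rr (Function.update l i 1)
      (Function.update (Function.update l i 1) k (μ k)) i
      (by rw [Function.update_self]; exact one_ne_zero)
      (Function.update_of_ne hi _ _) h1
    exact step ψ rr _ μ k (by rw [Function.update_self]; exact hk)
      (by rw [Function.update_self]) h2
  · have h1 := step ψ rr l (Function.update l k (μ k)) j hj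
      (Function.update_of_ne (Ne.symm hkj) _ _) hl
    exact step ψ rr _ μ k (by rw [Function.update_self]; exact hk)
      (by rw [Function.update_self]) h1

end main

theorem main {F : Type*} [Field F] [Fintype F] {q : ℕ} (hq : Fintype.card F = q) (m : ℕ)
    (hm : 2 ≤ m) {K : Type*} [Field K] (hK : ringChar K ≠ ringChar F) {d : ℕ}
    (ρ : Matrix.SpecialLinearGroup (Fin (m + 1)) F →* GL (Fin d) K)
    (hker : ρ.ker ≤ Subgroup.center (Matrix.SpecialLinearGroup (Fin (m + 1)) F)) :
    q ^ m - 1 ≤ d := by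
  classical
  let P := AddChar.FiniteField.primitiveChar F K hK
  let L := CyclotomicField P.n K
  let ψ : AddChar F L := P.char
  have hψ : ψ.IsPrimitive := P.prim
  let rr : Matrix.SpecialLinearGroup (Fin (m + 1)) F →* Matrix (Fin d) (Fin d) L :=
    ((algebraMap K L).mapMatrix : Matrix (Fin d) (Fin d) K →+* Matrix (Fin d) (Fin d) L).toMonoidHom.comp
      ((Units.coeHom _).comp ρ)
  have hrr : ∀ x, rr x = 1 → x ∈ Subgroup.center (Matrix.SpecialLinearGroup (Fin (m + 1)) F) := by
    intro x hx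
    apply hker
    rw [MonoidHom.mem_ker]
    apply Units.ext
    have h1 : ((ρ x : GL (Fin d) K) : Matrix (Fin d) (Fin d) K).map (algebraMap K L) =
        (1 : Matrix (Fin d) (Fin d) K).map (algebraMap K L) := by
      rw [Matrix.map_one _ (map_zero _) (map_one _)]
      exact hx
    exact Matrix.map_injective (algebraMap K L).injective h1
  have hp : (ringChar F).Prime := CharP.char_is_prime F _
  have hpK : ((ringChar F : ℕ) : K) ≠ 0 := by
    intro h0
    have h1 : ringChar K ∣ ringChar F := ringChar.dvd h0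
    rcases (Nat.dvd_prime hp).1 h1 with h2 | h2
    · exact CharP.ringChar_ne_one h2
    · exact hK h2
  have hc : (Fintype.card (Fin m → F) : L) ≠ 0 := by
    obtain ⟨n, -, hn⟩ := FiniteField.card F (ringChar F)
    rw [Fintype.card_fun, hn, Fintype.card_fin]
    push_cast
    apply pow_ne_zero
    apply pow_ne_zero
    rw [← map_natCast (algebraMap K L)]
    exact (map_ne_zero_iff _ (algebraMap K L).injective).2 hpK
  have hr : ∀ v w : Fin m → F, rr (av (v + w)) = rr (av v) * rr (av w) := by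
    intro v w
    rw [av_add, map_mul]
  have hr0 : rr (av (0 : Fin m → F)) = 1 := by
    rw [av_zero, map_one]
  have hex : ∃ l : Fin m → F, l ≠ 0 ∧ idem ψ (fun v => rr (av v)) l ≠ 0 := by
    by_contra hno
    push Not at hno
    have h1 := sum_idem ψ hψ (fun v => rr (av v)) hc hr0
    rw [Finset.sum_eq_single (0 : Fin m → F) (fun b _ hb => hno b hb)
      (fun h => absurd (Finset.mem_univ _) h)] at h1
    have h2 : ∀ v : Fin m → F, rr (av v) = 1 := by
      intro v
      have := r_mul_idem ψ (fun v => rr (av v)) hr v 0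
      rw [h1, zero_dotProduct, AddChar.map_zero_eq_one, one_smul, mul_one] at this
      exact this
    have h3 : (Pi.single ⟨0, by omega⟩ 1 : Fin m → F) ≠ 0 := by
      intro h
      have := congrFun h ⟨0, by omega⟩
      simp at this
    exact av_not_center _ h3 (hrr _ (h2 _))
  obtain ⟨l, hl0, hl⟩ := hex
  have hS := card_support_le ψ hψ (fun v => rr (av v)) hc hr
    (Finset.univ.filter (fun μ : Fin m → F => μ ≠ 0))
    (fun μ hμ => all_ne_zero hm ψ rr l hl0 hl μ (Finset.mem_filter.1 hμ).2)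
  rw [Finset.filter_ne', Finset.card_erase_of_mem (Finset.mem_univ _), Finset.card_univ,
    Fintype.card_fun, Fintype.card_fin, hq] at hS
  exact hS

/-- A lower bound for representations in cross characteristic: for `n ≥ 3` and a field `F` with `q` elements, every homomorphism from `SL_n(F)` to `GL_d(K)`, `K` a field of characteristic different from that of `F`, whose kernel is central has `d ≥ q^(n-1) - 1`. -/
theorem result {F : Type*} [Field F] [Fintype F] {q : ℕ} (hq : Fintype.card F = q) (n : ℕ) (hn : 3 ≤ n)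
    {K : Type*} [Field K] (hK : ringChar K ≠ ringChar F) {d : ℕ}
    (ρ : Matrix.SpecialLinearGroup (Fin n) F →* GL (Fin d) K) (hker : ρ.ker ≤ Subgroup.center (Matrix.SpecialLinearGroup (Fin n) F)) :
    q ^ (n - 1) - 1 ≤ d := by
  obtain ⟨m, rfl⟩ : ∃ m, n = m + 1 := ⟨n - 1, by omega⟩
  exact main hq m (by omega) hK ρ hker

end Cfsg.Agent.S2392
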