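import Cfsg.Statements.S2393

import Cfsg.Agent.Lib.helper15.FourierIdem
set_option autoImplicit false
open scoped MatrixGroups
open Cfsg

namespace Cfsg.Agent.S2393


open Matrix Cfsg.Agent.Lib.helper15.FourierIdem

section sp

variable {F : Type*} [Field F] {k : ℕ}

abbrev Sp (k : ℕ) (F : Type*) [Field F] := ↥(Matrix.symplecticGroup (Fin (k + 1)) F)

lemma bb_mem (S : Matrix (Fin (k + 1)) (Fin (k + 1)) F) (hS : Sᵀ = S) :
    fromBlocks 1 S 0 1 ∈ Matrix.symplecticGroup (Fin (k + 1)) F := by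
  rw [SymplecticGroup.mem_iff, Matrix.J, fromBlocks_transpose, fromBlocks_multiply,
    fromBlocks_multiply, hS]
  simp

def bb (S : Matrix (Fin (k + 1)) (Fin (k + 1)) F) (hS : Sᵀ = S) : Sp k F :=
  ⟨fromBlocks 1 S 0 1, bb_mem S hS⟩

lemma ll_mem (S : Matrix (Fin (k + 1)) (Fin (k + 1)) F) (hS : Sᵀ = S) :
    fromBlocks 1 0 S 1 ∈ Matrix.symplecticGroup (Fin (k + 1)) F := by
  rw [SymplecticGroup.mem_iff, Matrix.J, fromBlocks_transpose, fromBlocks_multiply,
    fromBlocks_multiply, hS]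
  simp

def ll (S : Matrix (Fin (k + 1)) (Fin (k + 1)) F) (hS : Sᵀ = S) : Sp k F :=
  ⟨fromBlocks 1 0 S 1, ll_mem S hS⟩

lemma hh_mem (g g' : Matrix (Fin (k + 1)) (Fin (k + 1)) F) (h1 : g * g' = 1) (h2 : g' * g = 1) :
    fromBlocks g 0 0 g'ᵀ ∈ Matrix.symplecticGroup (Fin (k + 1)) F := by
  rw [SymplecticGroup.mem_iff, Matrix.J, fromBlocks_transpose, fromBlocks_multiply,
    fromBlocks_multiply]
  simp [h1, h2, ← transpose_mul]

def hh (g g' : Matrix (Fin (k + 1)) (Fin (k + 1)) F) (h1 : g * g' = 1) (h2 : g' * g = 1) :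
    Sp k F :=
  ⟨fromBlocks g 0 0 g'ᵀ, hh_mem g g' h1 h2⟩

lemma bb_mul_bb (S S' : Matrix (Fin (k + 1)) (Fin (k + 1)) F) (hS : Sᵀ = S) (hS' : S'ᵀ = S')
    (hSS' : (S + S')ᵀ = S + S') : bb (S + S') hSS' = bb S hS * bb S' hS' := by
  apply Subtype.ext
  show fromBlocks 1 (S + S') 0 1 = fromBlocks 1 S 0 1 * fromBlocks 1 S' 0 1
  rw [fromBlocks_multiply]
  simp [add_comm]

lemma hh_mul_bb (g g' : Matrix (Fin (k + 1)) (Fin (k + 1)) F) (h1 : g * g' = 1) (h2 : g' * g = 1)
    (S : Matrix (Fin (k + 1)) (Fin (k + 1)) F) (hS : Sᵀ = S) (hS' : (g * S * gᵀ)ᵀ = g * S * gᵀ) :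
    hh g g' h1 h2 * bb S hS = bb (g * S * gᵀ) hS' * hh g g' h1 h2 := by
  apply Subtype.ext
  show fromBlocks g 0 0 g'ᵀ * fromBlocks 1 S 0 1 =
    fromBlocks 1 (g * S * gᵀ) 0 1 * fromBlocks g 0 0 g'ᵀ
  rw [fromBlocks_multiply, fromBlocks_multiply]
  have : g * S * gᵀ * g'ᵀ = g * S := by
    rw [Matrix.mul_assoc, ← transpose_mul, h2, transpose_one, Matrix.mul_one]
  simp [this]

def e0 : Fin (k + 1) → F := Pi.single 0 1

def Sy (y : Fin (k + 1) → F) : Matrix (Fin (k + 1)) (Fin (k + 1)) F :=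
  vecMulVec e0 y + vecMulVec y e0

lemma transpose_vecMulVec' (u v : Fin (k + 1) → F) : (vecMulVec u v)ᵀ = vecMulVec v u := by
  ext i j
  simp [vecMulVec_apply, mul_comm]

lemma Sy_transpose (y : Fin (k + 1) → F) : (Sy y)ᵀ = Sy y := by
  rw [Sy, transpose_add, transpose_vecMulVec', transpose_vecMulVec']
  exact add_comm _ _

lemma Sy_add (y z : Fin (k + 1) → F) : Sy (y + z) = Sy y + Sy z := by
  rw [Sy, Sy, Sy, vecMulVec_add, add_vecMulVec]
  abel

lemma Sy_zero : Sy (0 : Fin (k + 1) → F) = 0 := by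
  rw [Sy]
  simp

def bS (y : Fin (k + 1) → F) : Sp k F := bb (Sy y) (Sy_transpose y)

lemma bS_add (y z : Fin (k + 1) → F) : bS (y + z) = bS y * bS z := by
  rw [bS, bS, bS, ← bb_mul_bb (Sy y) (Sy z) (Sy_transpose y) (Sy_transpose z)
    (by rw [← Sy_add]; exact Sy_transpose _)]
  congr 1
  exact Sy_add y z

lemma bS_zero : bS (0 : Fin (k + 1) → F) = 1 := by
  apply Subtype.ext
  show fromBlocks 1 (Sy 0) 0 1 = 1
  rw [Sy_zero, fromBlocks_one]

lemma conj_Sy (g : Matrix (Fin (k + 1)) (Fin (k + 1)) F) (a : F) (hg : g *ᵥ e0 = a • e0)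
    (y : Fin (k + 1) → F) : g * Sy y * gᵀ = Sy (a • (g *ᵥ y)) := by
  rw [Sy, Sy, Matrix.mul_add, Matrix.add_mul, mul_vecMulVec, mul_vecMulVec, vecMulVec_mul,
    vecMulVec_mul, vecMul_transpose, vecMul_transpose, hg, smul_vecMulVec, vecMulVec_smul,
    vecMulVec_smul, smul_vecMulVec]

lemma hh_mul_bS (g g' : Matrix (Fin (k + 1)) (Fin (k + 1)) F) (h1 : g * g' = 1) (h2 : g' * g = 1)
    (a : F) (hg : g *ᵥ e0 = a • e0) (y : Fin (k + 1) → F) :
    hh g g' h1 h2 * bS y = bS (a • (g *ᵥ y)) * hh g g' h1 h2 := by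
  rw [bS, hh_mul_bb g g' h1 h2 (Sy y) (Sy_transpose y)
    (by rw [conj_Sy g a hg]; exact Sy_transpose _)]
  congr 1
  apply Subtype.ext
  show fromBlocks 1 (g * Sy y * gᵀ) 0 1 = fromBlocks 1 (Sy (a • (g *ᵥ y))) 0 1
  rw [conj_Sy g a hg]

def Tg (g g' : Matrix (Fin (k + 1)) (Fin (k + 1)) F) (h1 : g * g' = 1) (h2 : g' * g = 1)
    (a : F) (ha : a ≠ 0) : (Fin (k + 1) → F) ≃ (Fin (k + 1) → F) where
  toFun y := a • (g *ᵥ y)
  invFun y := a⁻¹ • (g' *ᵥ y)
  left_inv y := by
    simp only [mulVec_smul, mulVec_mulVec, h2, one_mulVec, smul_smul, inv_mul_cancel₀ ha, one_smul]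
  right_inv y := by
    simp only [mulVec_smul, mulVec_mulVec, h1, one_mulVec, smul_smul, mul_inv_cancel₀ ha, one_smul]

lemma bS_not_center (h2 : (2 : F) ≠ 0) :
    bS (e0 : Fin (k + 1) → F) ∉ Subgroup.center (Sp k F) := by
  intro h
  rw [Subgroup.mem_center_iff] at h
  have h1 := h (ll (vecMulVec e0 e0) (transpose_vecMulVec' _ _))
  have h3 := congrArg Subtype.val h1
  change fromBlocks 1 0 (vecMulVec e0 e0) 1 * fromBlocks 1 (Sy e0) 0 1 =
    fromBlocks 1 (Sy e0) 0 1 * fromBlocks 1 0 (vecMulVec e0 e0) 1 at h3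
  rw [fromBlocks_multiply, fromBlocks_multiply, fromBlocks_inj] at h3
  have h4 := h3.1
  simp only [Matrix.mul_one, Matrix.mul_zero, add_zero, Matrix.one_mul] at h4
  have h5 := congrFun (congrFun h4 0) 0
  rw [Matrix.add_apply, Matrix.mul_apply, Fin.sum_univ_succ] at h5
  simp [Sy, Matrix.add_apply, vecMulVec_apply, e0, Fin.succ_ne_zero] at h5
  apply h2
  have : (1 : F) + 1 = 2 := by norm_num
  rw [← this]
  exact h5

end sp

section main

variable {F : Type*} [Field F] [Fintype F] [DecidableEq F] {k : ℕ} {L : Type*} [Field L] {d : ℕ}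

lemma step_gen (ψ : AddChar F L) (rr : Sp k F →* Matrix (Fin d) (Fin d) L)
    (g g' : Matrix (Fin (k + 1)) (Fin (k + 1)) F) (h1 : g * g' = 1) (h2 : g' * g = 1)
    (a : F) (ha : a ≠ 0) (hg : g *ᵥ e0 = a • e0) (l m : Fin (k + 1) → F)
    (hlm : l = a • (m ᵥ* g))
    (hl : idem ψ (fun y => rr (bS y)) l ≠ 0) : idem ψ (fun y => rr (bS y)) m ≠ 0 := by
  intro h0
  apply hl
  have hs := conj_idem ψ (fun y => rr (bS y)) (rr (hh g g' h1 h2)) (Tg g g' h1 h2 a ha) ?_ l m ?_
  · have h3 : idem ψ (fun y => rr (bS y)) l = rr (hh g g' h1 h2)⁻¹ *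
        (rr (hh g g' h1 h2) * idem ψ (fun y => rr (bS y)) l) := by
      rw [← mul_assoc, ← map_mul, inv_mul_cancel, map_one, one_mul]
    rw [h3, hs, h0, zero_mul, mul_zero]
  · intro v
    rw [← map_mul, ← map_mul, hh_mul_bS g g' h1 h2 a hg]
    rfl
  · intro v
    show m ⬝ᵥ (a • (g *ᵥ v)) = l ⬝ᵥ v
    rw [hlm, dotProduct_smul, smul_dotProduct, dotProduct_mulVec]

lemma step_b (ψ : AddChar F L) (rr : Sp k F →* Matrix (Fin d) (Fin d) L)
    (l m : Fin (k + 1) → F) (hl0 : l 0 ≠ 0) (hm : m 0 = l 0)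
    (hl : idem ψ (fun y => rr (bS y)) l ≠ 0) : idem ψ (fun y => rr (bS y)) m ≠ 0 := by
  set c : Fin (k + 1) → F := (l 0)⁻¹ • (l - m) with hc
  have hc0 : c ⬝ᵥ e0 = 0 := by
    simp [hc, e0, hm]
  refine step_gen ψ rr (1 + vecMulVec e0 c) (1 - vecMulVec e0 c) ?_ ?_ 1 one_ne_zero ?_ l m ?_ hl
  · simp only [add_mul, mul_sub, Matrix.one_mul, Matrix.mul_one, vecMulVec_mul_vecMulVec, hc0,
      zero_smul, vecMulVec_zero]
    abel
  · simp only [sub_mul, mul_add, Matrix.one_mul, Matrix.mul_one, vecMulVec_mul_vecMulVec, hc0,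
      zero_smul, vecMulVec_zero]
    abel
  · rw [add_mulVec, one_mulVec, vecMulVec_mulVec, hc0, one_smul]
    simp
  · rw [one_smul, vecMul_add, vecMul_one, vecMul_vecMulVec]
    have : m ⬝ᵥ e0 = l 0 := by
      simp [e0, hm]
    rw [this, hc, smul_smul, mul_inv_cancel₀ hl0, one_smul]
    abel

lemma step_a (ψ : AddChar F L) (rr : Sp k F →* Matrix (Fin d) (Fin d) L)
    (l : Fin (k + 1) → F) (a : F) (ha : a ≠ 0)
    (hl : idem ψ (fun y => rr (bS y)) l ≠ 0) :
    idem ψ (fun y => rr (bS y)) (fun i => if i = 0 then l 0 / a ^ 2 else l i / a) ≠ 0 := by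
  refine step_gen ψ rr (diagonal (Function.update 1 0 a)) (diagonal (Function.update 1 0 a⁻¹))
    ?_ ?_ a ha ?_ l _ ?_ hl
  · rw [diagonal_mul_diagonal, ← diagonal_one]
    congr 1
    funext i
    by_cases hi : i = 0
    · subst hi
      simp [mul_inv_cancel₀ ha]
    · simp [Function.update_of_ne hi]
  · rw [diagonal_mul_diagonal, ← diagonal_one]
    congr 1
    funext i
    by_cases hi : i = 0
    · subst hi
      simp [inv_mul_cancel₀ ha]
    · simp [Function.update_of_ne hi]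
  · funext i
    rw [mulVec_diagonal]
    by_cases hi : i = 0
    · subst hi
      simp [e0]
    · simp [e0, hi]
  · funext i
    rw [Pi.smul_apply, vecMul_diagonal]
    by_cases hi : i = 0
    · subst hi
      simp only [if_true, Function.update_self, smul_eq_mul]
      field_simp
    · simp only [if_neg hi, Function.update_of_ne hi, Pi.one_apply, smul_eq_mul, mul_one]
      field_simp

lemma card_sq (τ : F) (hτ : τ ≠ 0) :
    Fintype.card F - 1 ≤ 2 * ((Finset.univ.filter (fun a : F => a ≠ 0)).image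
      (fun a => τ / a ^ 2)).card := by
  have h1 : (Finset.univ.filter (fun a : F => a ≠ 0)).card = Fintype.card F - 1 := by
    rw [Finset.filter_ne', Finset.card_erase_of_mem (Finset.mem_univ _), Finset.card_univ]
  rw [← h1]
  apply Finset.card_le_mul_card_image
  intro b hb
  obtain ⟨a0, ha0, rfl⟩ := Finset.mem_image.1 hb
  have ha0' : a0 ≠ 0 := (Finset.mem_filter.1 ha0).2
  refine le_trans (Finset.card_le_card (t := {a0, -a0}) ?_) Finset.card_le_two
  intro x hx
  rw [Finset.mem_filter, Finset.mem_filter] at hx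
  obtain ⟨⟨-, hx0⟩, hx1⟩ := hx
  have h2 : x ^ 2 = a0 ^ 2 := by
    field_simp at hx1
    exact hx1.symm
  rcases sq_eq_sq_iff_eq_or_eq_neg.1 h2 with h3 | h3
  · rw [h3]
    exact Finset.mem_insert_self _ _
  · rw [h3]
    exact Finset.mem_insert_of_mem (Finset.mem_singleton_self _)

end main

theorem main {F : Type*} [Field F] [Fintype F] {q : ℕ} (hq : Fintype.card F = q) (hodd : Odd q)
    (k : ℕ) {K : Type*} [Field K] (hK : ringChar K ≠ ringChar F) {d : ℕ}
    (ρ : Sp k F →* GL (Fin d) K) (hker : ρ.ker ≤ Subgroup.center (Sp k F)) :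
    q ^ k * (q - 1) / 2 ≤ d := by
  classical
  let P := AddChar.FiniteField.primitiveChar F K hK
  let L := CyclotomicField P.n K
  let ψ : AddChar F L := P.char
  have hψ : ψ.IsPrimitive := P.prim
  let rr : Sp k F →* Matrix (Fin d) (Fin d) L :=
    ((algebraMap K L).mapMatrix : Matrix (Fin d) (Fin d) K →+* Matrix (Fin d) (Fin d) L).toMonoidHom.comp
      ((Units.coeHom _).comp ρ)
  have hrr : ∀ x, rr x = 1 → x ∈ Subgroup.center (Sp k F) := by
    intro x hx
    apply hker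
    rw [MonoidHom.mem_ker]
    apply Units.ext
    have h1 : ((ρ x : GL (Fin d) K) : Matrix (Fin d) (Fin d) K).map (algebraMap K L) =
        (1 : Matrix (Fin d) (Fin d) K).map (algebraMap K L) := by
      rw [Matrix.map_one _ (map_zero _) (map_one _)]
      exact hx
    exact Matrix.map_injective (algebraMap K L).injective h1
  have hp : (ringChar F).Prime := CharP.char_is_prime F _
  have hpK : ((ringChar F : ℕ) : K) ≠ 0 := by
    intro h0
    have h1 : ringChar K ∣ ringChar F := ringChar.dvd h0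
    rcases (Nat.dvd_prime hp).1 h1 with h2 | h2
    · exact CharP.ringChar_ne_one h2
    · exact hK h2
  have hc : (Fintype.card (Fin (k + 1) → F) : L) ≠ 0 := by
    obtain ⟨n, -, hn⟩ := FiniteField.card F (ringChar F)
    rw [Fintype.card_fun, hn, Fintype.card_fin]
    push_cast
    apply pow_ne_zero
    apply pow_ne_zero
    rw [← map_natCast (algebraMap K L)]
    exact (map_ne_zero_iff _ (algebraMap K L).injective).2 hpK
  have h2F : (2 : F) ≠ 0 := by
    intro h0
    have h1 : ringChar F ∣ 2 := by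
      apply ringChar.dvd
      exact_mod_cast h0
    have h2 : ringChar F = 2 := by
      rcases (Nat.dvd_prime Nat.prime_two).1 h1 with h3 | h3
      · exact absurd h3 (CharP.ringChar_ne_one)
      · exact h3
    have h3 := FiniteField.even_card_of_char_two h2
    rw [hq] at h3
    rcases hodd with ⟨t, ht⟩
    omega
  have hr : ∀ v w : Fin (k + 1) → F, rr (bS (v + w)) = rr (bS v) * rr (bS w) := by
    intro v w
    rw [bS_add, map_mul]
  have hr0 : rr (bS (0 : Fin (k + 1) → F)) = 1 := by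
    rw [bS_zero, map_one]
  have hex : ∃ l : Fin (k + 1) → F, l 0 ≠ 0 ∧ idem ψ (fun v => rr (bS v)) l ≠ 0 := by
    by_contra hno
    push Not at hno
    have h1 := sum_idem ψ hψ (fun v => rr (bS v)) hc hr0
    have h2 : rr (bS (e0 : Fin (k + 1) → F)) = 1 := by
      calc rr (bS (e0 : Fin (k + 1) → F))
          = rr (bS e0) * ∑ l : Fin (k + 1) → F, idem ψ (fun v => rr (bS v)) l := by
            rw [h1, mul_one]
        _ = ∑ l : Fin (k + 1) → F, idem ψ (fun v => rr (bS v)) l := by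
            rw [Finset.mul_sum]
            refine Finset.sum_congr rfl fun l _ => ?_
            have h3 := r_mul_idem ψ (fun v => rr (bS v)) hr e0 l
            rw [h3]
            by_cases hl : l 0 = 0
            · have : l ⬝ᵥ e0 = 0 := by simp [e0, hl]
              rw [this, AddChar.map_zero_eq_one, one_smul]
            · rw [hno l hl, smul_zero]
        _ = 1 := h1
    exact bS_not_center h2F (hrr _ h2)
  obtain ⟨l, hl0, hl⟩ := hex
  set Sq := (Finset.univ.filter (fun a : F => a ≠ 0)).image (fun a => l 0 / a ^ 2) with hSq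
  let S : Finset (Fin (k + 1) → F) :=
    (Sq ×ˢ (Finset.univ : Finset (Fin k → F))).image (fun p => vecCons p.1 p.2)
  have hS : ∀ μ ∈ S, idem ψ (fun v => rr (bS v)) μ ≠ 0 := by
    intro μ hμ
    obtain ⟨⟨s, t⟩, hst, rfl⟩ := Finset.mem_image.1 hμ
    obtain ⟨hs, -⟩ := Finset.mem_product.1 hst
    obtain ⟨a, ha, rfl⟩ := Finset.mem_image.1 hs
    have ha0 := (Finset.mem_filter.1 ha).2
    have h1 := step_a ψ rr l a ha0 hl
    refine step_b ψ rr _ _ ?_ ?_ h1
    · simp only [if_true]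
      exact div_ne_zero hl0 (pow_ne_zero _ ha0)
    · simp
  have hcard : S.card = Sq.card * q ^ k := by
    rw [Finset.card_image_of_injective, Finset.card_product, Finset.card_univ, Fintype.card_fun,
      Fintype.card_fin, hq]
    rintro ⟨s, t⟩ ⟨s', t'⟩ h
    simp only at h
    have h1 := congrFun h 0
    simp only [cons_val_zero] at h1
    have h2 : t = t' := by
      funext i
      have := congrFun h i.succ
      simpa using this
    rw [h1, h2]
  have hle := card_support_le ψ hψ (fun v => rr (bS v)) hc hr S hS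
  have hsq := card_sq (l 0) hl0
  rw [hq] at hsq
  apply Nat.div_le_of_le_mul
  calc q ^ k * (q - 1) ≤ q ^ k * (2 * Sq.card) := Nat.mul_le_mul_left _ hsq
    _ = 2 * (Sq.card * q ^ k) := by ring
    _ = 2 * S.card := by rw [hcard]
    _ ≤ 2 * d := Nat.mul_le_mul_left _ hle

/-- A lower bound for representations in cross characteristic: for `n ≥ 2` and a field `F` with `q` elements, `q` odd, every homomorphism from the symplectic group `Sp_{2n}(F)` to `GL_d(K)`, `K` a field of characteristic different from that of `F`, whose kernel is central has `d ≥ q^(n-1)(q-1)/2`. -/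
theorem result {F : Type*} [Field F] [Fintype F] {q : ℕ} (hq : Fintype.card F = q) (hodd : Odd q) (n : ℕ) (hn : 2 ≤ n)
    {K : Type*} [Field K] (hK : ringChar K ≠ ringChar F) {d : ℕ}
    (ρ : ↥(Matrix.symplecticGroup (Fin n) F) →* GL (Fin d) K) (hker : ρ.ker ≤ Subgroup.center ↥(Matrix.symplecticGroup (Fin n) F)) :
    q ^ (n - 1) * (q - 1) / 2 ≤ d := by
  obtain ⟨k, rfl⟩ : ∃ k, n = k + 1 := ⟨n - 1, by omega⟩
  exact main hq hodd k hK ρ hker

end Cfsg.Agent.S2393
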