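import Cfsg.Statements.S2413
import Cfsg.Agent.Lib.Helper29.OG.OddBridge
import Cfsg.Agent.S0301
import Cfsg.Agent.S2411

set_option autoImplicit false
open Cfsg

namespace Cfsg.Agent.S2413

/-- The simple orthogonal group `PΩ_{2m+1}(q)` (commutator subgroup of the orthogonal group of `x₀² + Σ x_i y_i` modulo its centre) with `m ≥ 2` and `q` odd is generated by two of its elements. -/
theorem result {F : Type*} [Field F] [Fintype F] (hodd : Odd (Fintype.card F)) (m : ℕ) (hm : 2 ≤ m) :
    ∃ a b : Cfsg.POmega F (Cfsg.quadFormOdd m F), Subgroup.closure ({a, b} : Set (Cfsg.POmega F (Cfsg.quadFormOdd m F))) = ⊤ := by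
  have h2 : (2 : F) ≠ 0 := by
    intro h
    have h1 : ringChar F = 2 := CharP.ringChar_of_prime_eq_zero Nat.prime_two h
    have h3 := FiniteField.even_card_iff_char_two.mp h1
    rw [Nat.odd_iff] at hodd
    omega
  by_cases h3 : 3 ≤ m
  · exact Cfsg.Agent.Lib.Helper29.OG.pomega_odd_two_gen h2 m h3
  · have hm2 : m = 2 := by omega
    subst hm2
    obtain ⟨ψ⟩ := Cfsg.Agent.S0301.result (F := F) hodd
    have hcard : 2 < Fintype.card F := by
      have h1 := Fintype.one_lt_card (α := F)
      rw [Nat.odd_iff] at hodd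
      omega
    have h4 := Cfsg.Agent.S2411.result (F := F) 2 le_rfl (fun _ => hcard)
    exact Cfsg.Agent.Lib.Helper29.OG.twoGen_of_surjective ψ.symm.toMonoidHom ψ.symm.surjective h4

end Cfsg.Agent.S2413
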