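import Cfsg.Statements.S2416
import Cfsg.Agent.Lib.helper8.ChevGen2

set_option autoImplicit false
open Cfsg

namespace Cfsg.Agent.S2416

open Cfsg.Agent.Lib.helper8 in
/-- A Chevalley group of type G₂, B₂, D₄, F₄, E₆, E₇ or E₈ over a finite field lies in (indeed equals) the subgroup generated by its monomial subgroup `N` and a single fundamental root subgroup `X_p`, where `p` is a short fundamental root if there are two root lengths (any fundamental root otherwise), provided the characteristic is not 2 for types B₂, F₄ and not 3 for type G₂ (and the field has more than two elements for B₂, G₂). -/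
theorem result {K : Type*} [Field K] [Finite K] (D : Cfsg.Lie.ChevalleyDatum) (hD : D ∈ [Cfsg.Lie.chevG2, Cfsg.Lie.chevB2, Cfsg.Lie.chevD4, Cfsg.Lie.chevF4, Cfsg.Lie.chevE6, Cfsg.Lie.chevE7, Cfsg.Lie.chevE8])
    (hK : D ∈ [Cfsg.Lie.chevB2, Cfsg.Lie.chevG2] → ∃ x : K, x ≠ 0 ∧ x ≠ 1)
    (h2 : D ∈ [Cfsg.Lie.chevB2, Cfsg.Lie.chevF4] → ringChar K ≠ 2) (h3 : D = Cfsg.Lie.chevG2 → ringChar K ≠ 3)
    (i : ℕ) (hi : i < D.rank) (hshort : D.isLong (D.simple i) = false) :
    D.group K ≤ D.monomialSubgroup K ⊔ D.rootSubgroup K (D.simple i) := by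
  simp only [List.mem_cons, List.not_mem_nil, or_false] at hD
  rcases hD with rfl | rfl | rfl | rfl | rfl | rfl | rfl
  · have hr : Cfsg.Lie.chevG2.rank = 2 := rfl
    rw [hr] at hi
    interval_cases i
    · exact h8gen16 _ (by simp) _ (h8cs3 (h3 rfl)) 0 (by decide) _ h8der16_G2_0
    · exact absurd hshort (by decide +kernel)
  · have hr : Cfsg.Lie.chevB2.rank = 2 := rfl
    rw [hr] at hi
    interval_cases i
    · exact h8gen16 _ (by simp) _ (h8cs2 (h2 (by simp))) 0 (by decide) _ h8der16_B2_0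
    · exact absurd hshort (by decide +kernel)
  · have hr : Cfsg.Lie.chevD4.rank = 4 := rfl
    rw [hr] at hi
    interval_cases i
    · exact h8gen16 _ (by simp) _ h8cs1 0 (by decide) _ h8der16_D4_0
    · exact h8gen16 _ (by simp) _ h8cs1 1 (by decide) _ h8der16_D4_1
    · exact h8gen16 _ (by simp) _ h8cs1 2 (by decide) _ h8der16_D4_2
    · exact h8gen16 _ (by simp) _ h8cs1 3 (by decide) _ h8der16_D4_3
  · have hr : Cfsg.Lie.chevF4.rank = 4 := rfl
    rw [hr] at hi
    interval_cases i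
    · exact h8gen16 _ (by simp) _ (h8cs2 (h2 (by simp))) 0 (by decide) _ h8der16_F4_0
    · exact h8gen16 _ (by simp) _ (h8cs2 (h2 (by simp))) 1 (by decide) _ h8der16_F4_1
    · exact absurd hshort (by decide +kernel)
    · exact absurd hshort (by decide +kernel)
  · have hr : Cfsg.Lie.chevE6.rank = 6 := rfl
    rw [hr] at hi
    interval_cases i
    · exact h8gen16 _ (by simp) _ h8cs1 0 (by decide) _ h8der16_E6_0
    · exact h8gen16 _ (by simp) _ h8cs1 1 (by decide) _ h8der16_E6_1
    · exact h8gen16 _ (by simp) _ h8cs1 2 (by decide) _ h8der16_E6_2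
    · exact h8gen16 _ (by simp) _ h8cs1 3 (by decide) _ h8der16_E6_3
    · exact h8gen16 _ (by simp) _ h8cs1 4 (by decide) _ h8der16_E6_4
    · exact h8gen16 _ (by simp) _ h8cs1 5 (by decide) _ h8der16_E6_5
  · have hr : Cfsg.Lie.chevE7.rank = 7 := rfl
    rw [hr] at hi
    interval_cases i
    · exact h8gen16 _ (by simp) _ h8cs1 0 (by decide) _ h8der16_E7_0
    · exact h8gen16 _ (by simp) _ h8cs1 1 (by decide) _ h8der16_E7_1
    · exact h8gen16 _ (by simp) _ h8cs1 2 (by decide) _ h8der16_E7_2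
    · exact h8gen16 _ (by simp) _ h8cs1 3 (by decide) _ h8der16_E7_3
    · exact h8gen16 _ (by simp) _ h8cs1 4 (by decide) _ h8der16_E7_4
    · exact h8gen16 _ (by simp) _ h8cs1 5 (by decide) _ h8der16_E7_5
    · exact h8gen16 _ (by simp) _ h8cs1 6 (by decide) _ h8der16_E7_6
  · have hr : Cfsg.Lie.chevE8.rank = 8 := rfl
    rw [hr] at hi
    interval_cases i
    · exact h8gen16 _ (by simp) _ h8cs1 0 (by decide) _ h8der16_E8_0
    · exact h8gen16 _ (by simp) _ h8cs1 1 (by decide) _ h8der16_E8_1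
    · exact h8gen16 _ (by simp) _ h8cs1 2 (by decide) _ h8der16_E8_2
    · exact h8gen16 _ (by simp) _ h8cs1 3 (by decide) _ h8der16_E8_3
    · exact h8gen16 _ (by simp) _ h8cs1 4 (by decide) _ h8der16_E8_4
    · exact h8gen16 _ (by simp) _ h8cs1 5 (by decide) _ h8der16_E8_5
    · exact h8gen16 _ (by simp) _ h8cs1 6 (by decide) _ h8der16_E8_6
    · exact h8gen16 _ (by simp) _ h8cs1 7 (by decide) _ h8der16_E8_7

end Cfsg.Agent.S2416
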