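import Cfsg.Statements.S2417
import Cfsg.Agent.Lib.helper8.ChevGen2

set_option autoImplicit false
open Cfsg

namespace Cfsg.Agent.S2417

open Cfsg.Agent.Lib.helper8 in
/-- In the characteristics with an exceptional graph symmetry — type B₂ or F₄ in characteristic 2 (field of more than two elements for B₂) and type G₂ in characteristic 3 — the Chevalley group lies in the subgroup generated by its monomial subgroup `N` and the two fundamental root subgroups `X_a`, `X_b` of a short root `a` and a long root `b` joined in the Dynkin diagram. -/
theorem result {K : Type*} [Field K] [Finite K] (e : Cfsg.Lie.ChevalleyDatum × ℕ)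
    (he : e ∈ [(Cfsg.Lie.chevB2, 2), (Cfsg.Lie.chevF4, 2), (Cfsg.Lie.chevG2, 3)]) [CharP K e.2]
    (hK : e.1 = Cfsg.Lie.chevB2 → ∃ x : K, x ≠ 0 ∧ x ≠ 1)
    (i j : ℕ) (hi : i < e.1.rank) (hj : j < e.1.rank) (hshort : e.1.isLong (e.1.simple i) = false)
    (hlong : e.1.isLong (e.1.simple j) = true) (hbond : e.1.bonds i j ≠ 0) :
    e.1.group K ≤ e.1.monomialSubgroup K ⊔ e.1.rootSubgroup K (e.1.simple i) ⊔ e.1.rootSubgroup K (e.1.simple j) := by
  obtain ⟨D, p⟩ := e
  simp only [List.mem_cons, List.not_mem_nil, or_false, Prod.mk.injEq] at he
  rcases he with ⟨rfl, rfl⟩ | ⟨rfl, rfl⟩ | ⟨rfl, rfl⟩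
  · dsimp only at hi hj hshort hlong hbond ⊢
    have hr : Cfsg.Lie.chevB2.rank = 2 := rfl
    rw [hr] at hi hj
    interval_cases i <;> interval_cases j
    · exact absurd hlong (by decide +kernel)
    · exact h8gen17 _ (by simp) 0 1 (by decide) (by decide) _ h8der17_B2
    · exact absurd hshort (by decide +kernel)
    · exact absurd hshort (by decide +kernel)
  · dsimp only at hi hj hshort hlong hbond ⊢
    have hr : Cfsg.Lie.chevF4.rank = 4 := rfl
    rw [hr] at hi hj
    interval_cases i <;> interval_cases j
    · exact absurd hlong (by decide +kernel)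
    · exact absurd hlong (by decide +kernel)
    · exact absurd (by decide +kernel) hbond
    · exact absurd (by decide +kernel) hbond
    · exact absurd hlong (by decide +kernel)
    · exact absurd hlong (by decide +kernel)
    · exact h8gen17 _ (by simp) 1 2 (by decide) (by decide) _ h8der17_F4
    · exact absurd (by decide +kernel) hbond
    · exact absurd hshort (by decide +kernel)
    · exact absurd hshort (by decide +kernel)
    · exact absurd hshort (by decide +kernel)
    · exact absurd hshort (by decide +kernel)
    · exact absurd hshort (by decide +kernel)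
    · exact absurd hshort (by decide +kernel)
    · exact absurd hshort (by decide +kernel)
    · exact absurd hshort (by decide +kernel)
  · dsimp only at hi hj hshort hlong hbond ⊢
    have hr : Cfsg.Lie.chevG2.rank = 2 := rfl
    rw [hr] at hi hj
    interval_cases i <;> interval_cases j
    · exact absurd hlong (by decide +kernel)
    · exact h8gen17 _ (by simp) 0 1 (by decide) (by decide) _ h8der17_G2
    · exact absurd hshort (by decide +kernel)
    · exact absurd hshort (by decide +kernel)

end Cfsg.Agent.S2417
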