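import Cfsg.Statements.S2425

import Cfsg.Agent.Lib.helper15.StV7
set_option autoImplicit false
open scoped MatrixGroups
open Cfsg

namespace Cfsg.Agent.S2425


open Polynomial UniqueFactorizationMonoid Cfsg.Agent.Lib.helper15.StV

theorem natDegree_eq_sum {F : Type*} [Field F] [DecidableEq F] (χ : F[X]) (hχ : χ.Monic) :
    χ.natDegree = ∑ f ∈ (normalizedFactors χ).toFinset, (normalizedFactors χ).count f * f.natDegree := by
  have hmon : ∀ f ∈ normalizedFactors χ, f.Monic := by
    intro f hf
    rw [← normalize_normalized_factor f hf]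
    exact Polynomial.monic_normalize (ne_zero_of_mem_normalizedFactors hf)
  have h1 : (normalizedFactors χ).prod = χ := by
    apply Polynomial.eq_of_monic_of_associated _ hχ (prod_normalizedFactors hχ.ne_zero)
    have := Polynomial.monic_multiset_prod_of_monic (normalizedFactors χ) id (fun f hf => hmon f hf)
    simpa using this
  conv_lhs => rw [← h1]
  rw [Polynomial.natDegree_multiset_prod_of_monic _ hmon, Finset.sum_multiset_map_count]
  rfl

theorem semisimple_data {F : Type*} [Field F] [Fintype F] (p : ℕ) [Fact p.Prime] [CharP F p]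
    {n : ℕ} (x : GL (Fin n) F) (hx : (orderOf x).Coprime p) :
    ∃ P : F[X], Squarefree P ∧
      aeval (Matrix.toLin' (x : Matrix (Fin n) (Fin n) F)) P = 0 := by
  have hp : p.Prime := Fact.out
  have hk : 0 < orderOf x := orderOf_pos x
  have hkF : ((orderOf x : ℕ) : F) ≠ 0 := by
    intro h
    rw [CharP.cast_eq_zero_iff F p] at h
    have := Nat.dvd_gcd h (dvd_refl p)
    rw [Nat.Coprime] at hx
    rw [hx] at this
    exact hp.one_lt.ne' (Nat.dvd_one.1 this)
  refine ⟨X ^ orderOf x - C 1, (Polynomial.separable_X_pow_sub_C 1 hkF one_ne_zero).squarefree, ?_⟩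
  rw [map_sub, map_pow, aeval_X, aeval_C, map_one, ← Matrix.toLin'_pow, ← Units.val_pow_eq_pow_val,
    pow_orderOf_eq_one, Units.val_one, Matrix.toLin'_one]
  exact sub_self _

/-- Values of the Steinberg character of `GL_n(q)` (the partition-indexed character for `ν = (1,…,1)`, of degree `q^(n(n−1)/2)`) at elements of order prime to the characteristic: if the characteristic polynomial of such an element is `∏ f^(m_f)` over distinct monic irreducible `f`, the value is `∏_f (−1)^((deg f − 1) m_f) q^(deg f · m_f (m_f − 1)/2)`. (At elements of order divisible by the characteristic the value is 0; that is not part of this statement.) -/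
theorem result {F : Type*} [Field F] [Fintype F] [DecidableEq F] {q : ℕ} (hq : Fintype.card F = q) (p : ℕ) [Fact p.Prime] [CharP F p]
    {n : ℕ} (x : GL (Fin n) F) (hx : (orderOf x).Coprime p) :
    Cfsg.unipotentCharacterGL n F (fun _ => 1) x =
      ∏ f ∈ (UniqueFactorizationMonoid.normalizedFactors (x : Matrix (Fin n) (Fin n) F).charpoly).toFinset,
        (-1 : ℂ) ^ ((f.natDegree - 1) * (UniqueFactorizationMonoid.normalizedFactors (x : Matrix (Fin n) (Fin n) F).charpoly).count f) *
          (q : ℂ) ^ (f.natDegree * (UniqueFactorizationMonoid.normalizedFactors (x : Matrix (Fin n) (Fin n) F).charpoly).count f *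
            ((UniqueFactorizationMonoid.normalizedFactors (x : Matrix (Fin n) (Fin n) F).charpoly).count f - 1) / 2) := by
  obtain ⟨P, hsq, hP⟩ := semisimple_data p x hx
  letI : Fintype ↥(Module.End.invtSubmodule (Matrix.toLin' (x : Matrix (Fin n) (Fin n) F))) :=
    Fintype.ofFinite _
  obtain ⟨m, hm⟩ := exists_isMob
    (L := ↥(Module.End.invtSubmodule (Matrix.toLin' (x : Matrix (Fin n) (Fin n) F))))
  have h1 := steinberg_eq_mob x m hm
  have h2 := mob_semisimple P.natDegree (Fin n → F) (Matrix.toLin' (x : Matrix (Fin n) (Fin n) F)) P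
    le_rfl hsq hP m hm
  rw [Matrix.charpoly_toLin', hq] at h2
  rw [h1, h2]
  set χ := (x : Matrix (Fin n) (Fin n) F).charpoly with hχ
  have hn : n = ∑ f ∈ (normalizedFactors χ).toFinset, (normalizedFactors χ).count f * f.natDegree := by
    rw [← natDegree_eq_sum χ (Matrix.charpoly_monic _), hχ, Matrix.charpoly_natDegree_eq_dim,
      Fintype.card_fin]
  unfold rhsZ termZ
  conv_lhs => rw [hn]
  rw [← Finset.prod_pow_eq_pow_sum, ← Finset.prod_mul_distrib]
  push_cast
  apply Finset.prod_congr rfl
  intro f hf
  rw [← mul_assoc]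
  congr 1
  have hirr : Irreducible f := irreducible_of_normalized_factor f (Multiset.mem_toFinset.1 hf)
  have hd := hirr.natDegree_pos
  rw [← pow_add]
  have : (normalizedFactors χ).count f * f.natDegree + (normalizedFactors χ).count f =
      (f.natDegree - 1) * (normalizedFactors χ).count f + 2 * (normalizedFactors χ).count f := by
    obtain ⟨d, hd'⟩ : ∃ d, f.natDegree = d + 1 := ⟨f.natDegree - 1, by omega⟩
    rw [hd']
    simp only [Nat.add_sub_cancel]
    ring
  rw [this, pow_add, pow_mul (-1 : ℂ) 2]
  simp

end Cfsg.Agent.S2425
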