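import Cfsg.Statements.S2428
import Cfsg.Agent.Lib.helper14.SL2Odd
import Cfsg.Agent.Lib.helper14.Quat
import Cfsg.Agent.Lib.helper14.QuatClasses
import Cfsg.Agent.S0262

set_option autoImplicit false
set_option linter.unusedSectionVars false
open Cfsg

namespace Cfsg.Agent.S2428

open Cfsg.Agent.Lib.helper14
open Cfsg.Agent.S0262 (tS tS_coe tSHom tSHom_injective)

section
variable {F : Type*} [Field F]

local notation "SL2" => Matrix.SpecialLinearGroup (Fin 2) F
local notation "M2" => Matrix (Fin 2) (Fin 2) F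

theorem conj_entries (g n : SL2) :
    ((g * n * g⁻¹ : SL2) : M2) 0 1 =
      -((g : M2) 0 0 * (g : M2) 0 1 * (n : M2) 0 0) - (g : M2) 0 1 * (g : M2) 0 1 * (n : M2) 1 0
        + (g : M2) 0 0 * (g : M2) 0 0 * (n : M2) 0 1 + (g : M2) 0 0 * (g : M2) 0 1 * (n : M2) 1 1 ∧
    ((g * n * g⁻¹ : SL2) : M2) 1 0 =
      (g : M2) 1 0 * (g : M2) 1 1 * (n : M2) 0 0 + (g : M2) 1 1 * (g : M2) 1 1 * (n : M2) 1 0
        - (g : M2) 1 0 * (g : M2) 1 0 * (n : M2) 0 1 - (g : M2) 1 0 * (g : M2) 1 1 * (n : M2) 1 1 := by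
  obtain ⟨p, hp⟩ : ∃ p, (g : M2) 0 0 = p := ⟨_, rfl⟩
  obtain ⟨q, hq⟩ : ∃ q, (g : M2) 0 1 = q := ⟨_, rfl⟩
  obtain ⟨r, hr⟩ : ∃ r, (g : M2) 1 0 = r := ⟨_, rfl⟩
  obtain ⟨s, hs⟩ : ∃ s, (g : M2) 1 1 = s := ⟨_, rfl⟩
  obtain ⟨x, hx⟩ : ∃ x, (n : M2) 0 0 = x := ⟨_, rfl⟩
  obtain ⟨y, hy⟩ : ∃ y, (n : M2) 0 1 = y := ⟨_, rfl⟩
  obtain ⟨z, hz⟩ : ∃ z, (n : M2) 1 0 = z := ⟨_, rfl⟩
  obtain ⟨w, hw⟩ : ∃ w, (n : M2) 1 1 = w := ⟨_, rfl⟩
  have hg : (g : M2) = !![p, q; r, s] := by rw [Matrix.eta_fin_two (g : M2), hp, hq, hr, hs]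
  have hn : (n : M2) = !![x, y; z, w] := by rw [Matrix.eta_fin_two (n : M2), hx, hy, hz, hw]
  rw [hp, hq, hr, hs, hx, hy, hz, hw, sl2_coe_mul, sl2_coe_mul, Matrix.SpecialLinearGroup.coe_inv, hg, hn,
    Matrix.adjugate_fin_two_of, Matrix.mul_fin_two, Matrix.mul_fin_two]
  constructor
  · simp only [Matrix.of_apply, Matrix.cons_val_zero, Matrix.cons_val_one]
    ring
  · simp only [Matrix.of_apply, Matrix.cons_val_zero, Matrix.cons_val_one]
    ring

theorem diag_ne (d : SL2) (hd01 : (d : M2) 0 1 = 0) (hda : (d : M2) 0 0 ^ 2 ≠ 1) :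
    (d : M2) 0 0 - (d : M2) 1 1 ≠ 0 := by
  intro h
  have hdet := sl2_det d
  rw [hd01, zero_mul, sub_zero] at hdet
  apply hda
  have : (d : M2) 0 0 = (d : M2) 1 1 := sub_eq_zero.mp h
  rw [pow_two]
  nth_rewrite 2 [this]
  exact hdet

theorem mem_cent_iff (d : SL2) (hd01 : (d : M2) 0 1 = 0) (hd10 : (d : M2) 1 0 = 0)
    (hda : (d : M2) 0 0 ^ 2 ≠ 1) (g : SL2) :
    g ∈ Subgroup.centralizer ({d} : Set SL2) ↔ ((g : M2) 0 1 = 0 ∧ (g : M2) 1 0 = 0) := by
  have hne := diag_ne d hd01 hda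
  rw [Subgroup.mem_centralizer_iff]
  simp only [Set.mem_singleton_iff, forall_eq]
  obtain ⟨a, ha⟩ : ∃ a, (d : M2) 0 0 = a := ⟨_, rfl⟩
  obtain ⟨b, hb⟩ : ∃ b, (d : M2) 1 1 = b := ⟨_, rfl⟩
  have hdm : (d : M2) = !![a, 0; 0, b] := by rw [Matrix.eta_fin_two (d : M2), ha, hb, hd01, hd10]
  rw [ha, hb] at hne
  obtain ⟨p, hp⟩ : ∃ p, (g : M2) 0 0 = p := ⟨_, rfl⟩
  obtain ⟨q, hq⟩ : ∃ q, (g : M2) 0 1 = q := ⟨_, rfl⟩
  obtain ⟨r, hr⟩ : ∃ r, (g : M2) 1 0 = r := ⟨_, rfl⟩
  obtain ⟨s, hs⟩ : ∃ s, (g : M2) 1 1 = s := ⟨_, rfl⟩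
  have hg : (g : M2) = !![p, q; r, s] := by rw [Matrix.eta_fin_two (g : M2), hp, hq, hr, hs]
  have key : d * g = g * d ↔ ((d * g : SL2) : M2) = ((g * d : SL2) : M2) :=
    ⟨fun h => congrArg _ h, fun h => Subtype.ext h⟩
  rw [key, hq, hr, sl2_coe_mul, sl2_coe_mul, hdm, hg, Matrix.mul_fin_two, Matrix.mul_fin_two, m2_eq_iff]
  simp only [mul_zero, zero_mul, add_zero, zero_add]
  constructor
  · rintro ⟨-, h2, h3, -⟩
    constructor
    · have : (a - b) * q = 0 := by linear_combination h2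
      rcases mul_eq_zero.mp this with h | h
      · exact absurd h hne
      · exact h
    · have : (a - b) * r = 0 := by linear_combination -h3
      rcases mul_eq_zero.mp this with h | h
      · exact absurd h hne
      · exact h
  · rintro ⟨rfl, rfl⟩
    refine ⟨mul_comm _ _, by ring, by ring, mul_comm _ _⟩

theorem mem_norm_iff (d : SL2) (hd01 : (d : M2) 0 1 = 0) (hd10 : (d : M2) 1 0 = 0)
    (hda : (d : M2) 0 0 ^ 2 ≠ 1) (g : SL2) :
    g ∈ Subgroup.normalizer ((Subgroup.centralizer ({d} : Set SL2)) : Set SL2) ↔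
      (((g : M2) 0 1 = 0 ∧ (g : M2) 1 0 = 0) ∨ ((g : M2) 0 0 = 0 ∧ (g : M2) 1 1 = 0)) := by
  have hne := diag_ne d hd01 hda
  have hdet := sl2_det g
  rw [Subgroup.mem_set_normalizer_iff]
  simp only [SetLike.mem_coe, mem_cent_iff d hd01 hd10 hda]
  constructor
  · intro h
    have h1 := (h d).mp ⟨hd01, hd10⟩
    obtain ⟨e1, e2⟩ := conj_entries g d
    rw [e1, e2, hd01, hd10] at h1
    obtain ⟨h01, h10⟩ := h1
    have k1 : (g : M2) 0 0 * (g : M2) 0 1 * ((d : M2) 0 0 - (d : M2) 1 1) = 0 := by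
      linear_combination -h01
    have k2 : (g : M2) 1 0 * (g : M2) 1 1 * ((d : M2) 0 0 - (d : M2) 1 1) = 0 := by
      linear_combination h10
    have k1' : (g : M2) 0 0 * (g : M2) 0 1 = 0 := by
      rcases mul_eq_zero.mp k1 with h | h
      · exact h
      · exact absurd h hne
    have k2' : (g : M2) 1 0 * (g : M2) 1 1 = 0 := by
      rcases mul_eq_zero.mp k2 with h | h
      · exact h
      · exact absurd h hne
    rcases mul_eq_zero.mp k1' with hp | hq
    · right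
      refine ⟨hp, ?_⟩
      rw [hp, zero_mul, zero_sub] at hdet
      rcases mul_eq_zero.mp k2' with hr | hs
      · rw [hr, mul_zero, neg_zero] at hdet
        exact absurd hdet zero_ne_one
      · exact hs
    · left
      refine ⟨hq, ?_⟩
      rw [hq, zero_mul, sub_zero] at hdet
      rcases mul_eq_zero.mp k2' with hr | hs
      · exact hr
      · rw [hs, mul_zero] at hdet
        exact absurd hdet zero_ne_one
  · rintro (⟨hq, hr⟩ | ⟨hp, hs⟩) n
    · obtain ⟨e1, e2⟩ := conj_entries g n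
      rw [e1, e2, hq, hr]
      rw [hq, zero_mul, sub_zero] at hdet
      have hp0 : (g : M2) 0 0 ≠ 0 := by
        intro h0
        rw [h0, zero_mul] at hdet
        exact zero_ne_one hdet
      have hs0 : (g : M2) 1 1 ≠ 0 := by
        intro h0
        rw [h0, mul_zero] at hdet
        exact zero_ne_one hdet
      constructor
      · rintro ⟨h1, h2⟩
        rw [h1, h2]
        constructor <;> ring
      · rintro ⟨h1, h2⟩
        constructor
        · have : (g : M2) 0 0 * (g : M2) 0 0 * (n : M2) 0 1 = 0 := by linear_combination h1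
          rcases mul_eq_zero.mp this with h | h
          · exact absurd (mul_self_eq_zero.mp h) hp0
          · exact h
        · have : (g : M2) 1 1 * (g : M2) 1 1 * (n : M2) 1 0 = 0 := by linear_combination h2
          rcases mul_eq_zero.mp this with h | h
          · exact absurd (mul_self_eq_zero.mp h) hs0
          · exact h
    · obtain ⟨e1, e2⟩ := conj_entries g n
      rw [e1, e2, hp, hs]
      rw [hp, zero_mul, zero_sub] at hdet
      have hq0 : (g : M2) 0 1 ≠ 0 := by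
        intro h0
        rw [h0, zero_mul, neg_zero] at hdet
        exact zero_ne_one hdet
      have hr0 : (g : M2) 1 0 ≠ 0 := by
        intro h0
        rw [h0, mul_zero, neg_zero] at hdet
        exact zero_ne_one hdet
      constructor
      · rintro ⟨h1, h2⟩
        rw [h1, h2]
        constructor <;> ring
      · rintro ⟨h1, h2⟩
        constructor
        · have : (g : M2) 1 0 * (g : M2) 1 0 * (n : M2) 0 1 = 0 := by linear_combination -h2
          rcases mul_eq_zero.mp this with h | h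
          · exact absurd (mul_self_eq_zero.mp h) hr0
          · exact h
        · have : (g : M2) 0 1 * (g : M2) 0 1 * (n : M2) 1 0 = 0 := by linear_combination -h1
          rcases mul_eq_zero.mp this with h | h
          · exact absurd (mul_self_eq_zero.mp h) hq0
          · exact h

def wD : SL2 := ⟨!![0, 1; -1, 0], by rw [Matrix.det_fin_two_of]; ring⟩

theorem wD_coe : ((wD : SL2) : M2) = !![0, 1; -1, 0] := rfl

theorem neg_one_coe : (((-1 : SL2)) : M2) = !![-1, 0; 0, -1] := by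
  rw [Matrix.SpecialLinearGroup.coe_neg, sl2_coe_one, Matrix.one_fin_two]
  ext i j
  fin_cases i <;> fin_cases j <;> simp

theorem antidiag_sq (g : SL2) (hp : (g : M2) 0 0 = 0) (hs : (g : M2) 1 1 = 0) :
    ((g * g : SL2) : M2) = -1 := by
  have hdet := sl2_det g
  rw [hp, zero_mul, zero_sub] at hdet
  obtain ⟨q, hq⟩ : ∃ q, (g : M2) 0 1 = q := ⟨_, rfl⟩
  obtain ⟨r, hr⟩ : ∃ r, (g : M2) 1 0 = r := ⟨_, rfl⟩
  have hg : (g : M2) = !![0, q; r, 0] := by rw [Matrix.eta_fin_two (g : M2), hp, hq, hr, hs]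
  rw [hq, hr] at hdet
  rw [sl2_coe_mul, hg, Matrix.mul_fin_two, ← sl2_coe_one, ← Matrix.SpecialLinearGroup.coe_neg, neg_one_coe]
  apply m2_congr
  · linear_combination -hdet
  · ring
  · ring
  · linear_combination -hdet

theorem wD_sq : (wD : SL2) * wD = -1 := by
  apply Subtype.ext
  rw [antidiag_sq wD rfl rfl]
  rfl

theorem tS_neg_one : tS (-1 : Fˣ) = (-1 : SL2) := by
  apply Subtype.ext
  rw [tS_coe, neg_one_coe]
  apply m2_congr
  · simp
  · rfl
  · rfl
  · simp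

theorem wD_conj (x : Fˣ) : wD * tS x * wD⁻¹ = (tS x)⁻¹ := by
  have hinv : (tS x)⁻¹ = tS x⁻¹ := (map_inv (tSHom (K := F)) x).symm
  rw [hinv, mul_inv_eq_iff_eq_mul]
  apply Subtype.ext
  rw [sl2_coe_mul, sl2_coe_mul, wD_coe, tS_coe, tS_coe, Matrix.mul_fin_two, Matrix.mul_fin_two, inv_inv]
  apply m2_congr <;> ring

theorem diag_eq_tS (g : SL2) (hq : (g : M2) 0 1 = 0) (hr : (g : M2) 1 0 = 0) :
    ∃ x : Fˣ, g = tS x := by
  have hdet := sl2_det g
  rw [hq, zero_mul, sub_zero] at hdet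
  refine ⟨⟨(g : M2) 0 0, (g : M2) 1 1, hdet, by rw [mul_comm]; exact hdet⟩, ?_⟩
  apply Subtype.ext
  rw [tS_coe]
  refine (Matrix.eta_fin_two (g : M2)).trans ?_
  rw [hq, hr]
  rfl

theorem antidiag_eq_tS_mul (g : SL2) (hp : (g : M2) 0 0 = 0) (hs : (g : M2) 1 1 = 0) :
    ∃ x : Fˣ, g = tS x * wD := by
  have hdet := sl2_det g
  rw [hp, zero_mul, zero_sub] at hdet
  have h1 : (g : M2) 0 1 * (-(g : M2) 1 0) = 1 := by linear_combination hdet
  refine ⟨⟨(g : M2) 0 1, -(g : M2) 1 0, h1, by rw [mul_comm]; exact h1⟩, ?_⟩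
  apply Subtype.ext
  rw [sl2_coe_mul, tS_coe, wD_coe, Matrix.mul_fin_two]
  refine (Matrix.eta_fin_two (g : M2)).trans ?_
  rw [hp, hs]
  apply m2_congr
  · ring
  · simp
  · show (g : M2) 1 0 = 0 * 0 + -(g : M2) 1 0 * -1
    ring
  · simp

end

theorem result {F : Type*} [Field F] [Fintype F] (hodd : Odd (Fintype.card F))
    (d : Matrix.SpecialLinearGroup (Fin 2) F) (hd01 : (d : Matrix (Fin 2) (Fin 2) F) 0 1 = 0) (hd10 : (d : Matrix (Fin 2) (Fin 2) F) 1 0 = 0) (hda : (d : Matrix (Fin 2) (Fin 2) F) 0 0 ^ 2 ≠ 1) :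
    (∀ g : Matrix.SpecialLinearGroup (Fin 2) F, g ∈ Subgroup.centralizer ({d} : Set (Matrix.SpecialLinearGroup (Fin 2) F)) ↔ ((g : Matrix (Fin 2) (Fin 2) F) 0 1 = 0 ∧ (g : Matrix (Fin 2) (Fin 2) F) 1 0 = 0)) ∧
    Nat.card (Subgroup.normalizer ((Subgroup.centralizer ({d} : Set (Matrix.SpecialLinearGroup (Fin 2) F))) : Set (Matrix.SpecialLinearGroup (Fin 2) F))) = 2 * (Fintype.card F - 1) ∧
    Nat.card (ConjClasses (Subgroup.normalizer ((Subgroup.centralizer ({d} : Set (Matrix.SpecialLinearGroup (Fin 2) F))) : Set (Matrix.SpecialLinearGroup (Fin 2) F)))) = (Fintype.card F + 5) / 2 ∧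
    ∀ g : Matrix.SpecialLinearGroup (Fin 2) F, g ∈ Subgroup.normalizer ((Subgroup.centralizer ({d} : Set (Matrix.SpecialLinearGroup (Fin 2) F))) : Set (Matrix.SpecialLinearGroup (Fin 2) F)) →
      g ∉ Subgroup.centralizer ({d} : Set (Matrix.SpecialLinearGroup (Fin 2) F)) → ((g * g) : Matrix (Fin 2) (Fin 2) F) = -1 := by
  have hq1 : 1 < Fintype.card F := Fintype.one_lt_card
  obtain ⟨m, hm⟩ : ∃ m, Fintype.card F = 2 * m + 1 := by
    obtain ⟨k, hk⟩ := hodd
    exact ⟨k, hk⟩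
  have hm1 : 1 ≤ m := by omega
  haveI : NeZero m := ⟨by omega⟩
  obtain ⟨ζ, hζ⟩ := IsCyclic.exists_generator (α := Fˣ)
  have hordζ : orderOf ζ = 2 * m := by
    rw [orderOf_eq_card_of_forall_mem_zpowers hζ, Nat.card_units, Nat.card_eq_fintype_card, hm]
    omega
  have hordt : orderOf (tS ζ) = 2 * m := by
    rw [← hordζ]
    exact orderOf_injective (tSHom (K := F)) tSHom_injective ζ
  have hζm : ζ ^ m = -1 := by
    have h1 : (ζ ^ m) * (ζ ^ m) = 1 := by
      rw [← pow_add, ← two_mul, ← hordζ]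
      exact pow_orderOf_eq_one ζ
    have h2 : ζ ^ m ≠ 1 := by
      intro h
      have := orderOf_dvd_of_pow_eq_one h
      rw [hordζ] at this
      have := Nat.le_of_dvd (by omega) this
      omega
    have h3 : ((ζ ^ m : Fˣ) : F) * ((ζ ^ m : Fˣ) : F) = 1 := by
      rw [← Units.val_mul, h1, Units.val_one]
    rcases mul_self_eq_one_iff.mp h3 with h | h
    · exact absurd (Units.ext h) h2
    · exact Units.ext (by rw [h]; simp)
  have htm : (wD : Matrix.SpecialLinearGroup (Fin 2) F) * wD = tS ζ ^ m := by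
    have : tS ζ ^ m = tS (ζ ^ m) := (map_pow (tSHom (K := F)) ζ m).symm
    rw [this, hζm, tS_neg_one, wD_sq]
  obtain ⟨hcard, ⟨e⟩⟩ := quaternion_closure m hm1 (tS ζ) wD hordt htm (wD_conj ζ)
  have hN : Subgroup.normalizer ((Subgroup.centralizer ({d} : Set (Matrix.SpecialLinearGroup (Fin 2) F))) :
      Set (Matrix.SpecialLinearGroup (Fin 2) F)) = Subgroup.closure {tS ζ, wD} := by
    apply le_antisymm
    · intro g hg
      have hpow : ∀ x : Fˣ, tS x ∈ Subgroup.closure ({tS ζ, wD} : Set (Matrix.SpecialLinearGroup (Fin 2) F)) := by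
        intro x
        obtain ⟨k, hk⟩ := Subgroup.mem_zpowers_iff.mp (hζ x)
        have : tS x = tS ζ ^ k := by
          rw [← hk]
          exact map_zpow (tSHom (K := F)) ζ k
        rw [this]
        exact Subgroup.zpow_mem _ (Subgroup.subset_closure (by simp)) k
      rcases (mem_norm_iff d hd01 hd10 hda g).mp hg with ⟨h1, h2⟩ | ⟨h1, h2⟩
      · obtain ⟨x, rfl⟩ := diag_eq_tS g h1 h2
        exact hpow x
      · obtain ⟨x, rfl⟩ := antidiag_eq_tS_mul g h1 h2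
        exact Subgroup.mul_mem _ (hpow x) (Subgroup.subset_closure (by simp))
    · rw [Subgroup.closure_le]
      rintro g (rfl | rfl)
      · exact (mem_norm_iff d hd01 hd10 hda _).mpr (Or.inl ⟨rfl, rfl⟩)
      · exact (mem_norm_iff d hd01 hd10 hda _).mpr (Or.inr ⟨rfl, rfl⟩)
  refine ⟨mem_cent_iff d hd01 hd10 hda, ?_, ?_, ?_⟩
  · rw [hN, hcard, hm]
    omega
  · rw [hN, card_conjClasses_of_mulEquiv_quaternion m e, hm]
    omega
  · intro g hg hgT
    rcases (mem_norm_iff d hd01 hd10 hda g).mp hg with h | ⟨h1, h2⟩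
    · exact absurd ((mem_cent_iff d hd01 hd10 hda g).mpr h) hgT
    · exact antidiag_sq g h1 h2

end Cfsg.Agent.S2428
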