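import Cfsg.Statements.S2431
import Cfsg.Agent.Lib.helper14.SL2Odd
import Cfsg.Agent.Lib.helper14.SL2Card
import Cfsg.Agent.Lib.helper14.QuatNorm
import Cfsg.Agent.Lib.helper14.QuatClasses
import Cfsg.Agent.Lib.helper15.SL2Cent
import Cfsg.Agent.S0261
import Cfsg.Agent.S0257

set_option autoImplicit false
set_option linter.unusedSectionVars false
open Cfsg

namespace Cfsg.Agent.S2431

open Cfsg.Agent.Lib.helper14

section
variable {F : Type*} [Field F]

local notation "SL2" => Matrix.SpecialLinearGroup (Fin 2) F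
local notation "M2" => Matrix (Fin 2) (Fin 2) F

theorem coe_neg_one : (((-1 : SL2)) : M2) = -1 := by
  rw [Matrix.SpecialLinearGroup.coe_neg, sl2_coe_one]

theorem smul_coe_eq_zero (c : F) (m : SL2) (h : c • (m : M2) = 0) : c = 0 := by
  by_contra hc
  have hd := sl2_det m
  have h1 : ∀ i j, (m : M2) i j = 0 := by
    intro i j
    have := congrFun (congrFun h i) j
    rw [Matrix.smul_apply, smul_eq_mul, Matrix.zero_apply] at this
    rcases mul_eq_zero.mp this with h' | h'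
    · exact absurd h' hc
    · exact h'
  rw [h1 0 0, h1 0 1, zero_mul, zero_mul, sub_zero] at hd
  exact zero_ne_one hd

theorem inv_eq_neg_of_sq (x : SL2) (hx : x * x = -1) : x⁻¹ = -x := by
  apply inv_eq_of_mul_eq_one_right
  rw [mul_neg, hx, neg_neg]

theorem anticomm_of_inverts (x w : SL2) (hx : x * x = -1) (hwx : w * x * w⁻¹ = x⁻¹) :
    (w : M2) * (x : M2) = -((x : M2) * (w : M2)) := by
  have h1 : w * x = x⁻¹ * w := by
    rw [← hwx]; group
  rw [inv_eq_neg_of_sq x hx, neg_mul] at h1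
  have h2 := congrArg (fun g : SL2 => (g : M2)) h1
  simp only [sl2_coe_mul, Matrix.SpecialLinearGroup.coe_neg] at h2
  exact h2

theorem central_of_commute (h2 : (2 : F) ≠ 0) (x w g : SL2) (hx : x * x = -1) (hwx : w * x * w⁻¹ = x⁻¹)
    (hgx : g * x = x * g) (hgw : g * w = w * g) : g = 1 ∨ g = -1 := by
  have hXX : (x : M2) * (x : M2) = -1 := by rw [← sl2_coe_mul, hx, coe_neg_one]
  have hWX := anticomm_of_inverts x w hx hwx
  have hns : ∀ c : F, (x : M2) ≠ c • (1 : M2) := by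
    intro c hc
    rw [hc] at hWX
    simp only [Matrix.mul_smul, Matrix.smul_mul, mul_one, one_mul] at hWX
    have h3 : (2 * c) • (w : M2) = 0 := by
      rw [mul_smul, two_smul]
      nth_rewrite 1 [hWX]
      exact neg_add_cancel _
    have h4 := smul_coe_eq_zero _ _ h3
    have hc0 : c = 0 := by
      rcases mul_eq_zero.mp h4 with h | h
      · exact absurd h h2
      · exact h
    rw [hc0, zero_smul] at hc
    have := smul_coe_eq_zero 1 x (by rw [one_smul, hc])
    exact one_ne_zero this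
  have hGX : (g : M2) * (x : M2) = (x : M2) * (g : M2) := by rw [← sl2_coe_mul, hgx, sl2_coe_mul]
  have hGW : (g : M2) * (w : M2) = (w : M2) * (g : M2) := by rw [← sl2_coe_mul, hgw, sl2_coe_mul]
  obtain ⟨α, β, hαβ⟩ := Cfsg.Agent.Lib.helper15.m2_commute_lin (x : M2) (g : M2) hns hGX
  rw [hαβ] at hGW
  simp only [add_mul, mul_add, Matrix.smul_mul, Matrix.mul_smul, one_mul, mul_one] at hGW
  have h3 : β • ((x : M2) * (w : M2)) = β • ((w : M2) * (x : M2)) := add_left_cancel hGW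
  rw [hWX, smul_neg] at h3
  have h4 : (2 * β) • ((x * w : SL2) : M2) = 0 := by
    rw [sl2_coe_mul, mul_smul, two_smul]
    nth_rewrite 2 [h3]
    exact add_neg_cancel _
  have h5 := smul_coe_eq_zero _ _ h4
  have hβ : β = 0 := by
    rcases mul_eq_zero.mp h5 with h | h
    · exact absurd h h2
    · exact h
  rw [hβ, zero_smul, add_zero] at hαβ
  apply scalar_sl2
  rw [hαβ]
  refine ⟨?_, ?_, ?_⟩ <;> simp

section
variable [Fintype F]

theorem quat_elts (h2 : (2 : F) ≠ 0) (S : Subgroup SL2) (k : ℕ) (hk : 1 ≤ k)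
    (e : S ≃* QuaternionGroup (2 ^ k)) :
    ((e.symm (QuaternionGroup.a ((2 ^ (k - 1) : ℕ) : ZMod (2 * 2 ^ k))) : S) : SL2) *
        ((e.symm (QuaternionGroup.a ((2 ^ (k - 1) : ℕ) : ZMod (2 * 2 ^ k))) : S) : SL2) = -1 ∧
      ((e.symm (QuaternionGroup.xa 0) : S) : SL2) *
        ((e.symm (QuaternionGroup.a ((2 ^ (k - 1) : ℕ) : ZMod (2 * 2 ^ k))) : S) : SL2) *
        ((e.symm (QuaternionGroup.xa 0) : S) : SL2)⁻¹ =
        ((e.symm (QuaternionGroup.a ((2 ^ (k - 1) : ℕ) : ZMod (2 * 2 ^ k))) : S) : SL2)⁻¹ ∧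
      ((e.symm (QuaternionGroup.xa 0) : S) : SL2) * ((e.symm (QuaternionGroup.xa 0) : S) : SL2) = -1 := by
  haveI : NeZero (2 ^ k) := ⟨by positivity⟩
  obtain ⟨m, hm⟩ : ∃ m, m = 2 ^ (k - 1) := ⟨_, rfl⟩
  have hmm : m + m = 2 ^ k := by
    rw [hm, ← two_mul, ← pow_succ']
    congr 1
    omega
  rw [← hm]
  obtain ⟨xq, hxq⟩ : ∃ xq : QuaternionGroup (2 ^ k), xq = QuaternionGroup.a ((m : ℕ) : ZMod (2 * 2 ^ k)) :=
    ⟨_, rfl⟩
  obtain ⟨uq, huq⟩ : ∃ uq : QuaternionGroup (2 ^ k), uq = QuaternionGroup.a (((2 ^ k : ℕ)) : ZMod (2 * 2 ^ k)) :=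
    ⟨_, rfl⟩
  rw [← hxq]
  have h1 : xq * xq = uq := by
    rw [hxq, huq, QuaternionGroup.a_mul_a, ← Nat.cast_add, hmm]
  have h3 : uq * uq = 1 := by
    rw [huq, QuaternionGroup.a_mul_a, ← Nat.cast_add, ← two_mul, ZMod.natCast_self, QuaternionGroup.a_zero]
  have h4 : uq ≠ 1 := by
    rw [huq, QuaternionGroup.one_def]
    intro h
    have h5 := QuaternionGroup.a.inj h
    rw [ZMod.natCast_eq_zero_iff] at h5
    have h6 := Nat.le_of_dvd (by positivity) h5
    have : 0 < 2 ^ k := by positivity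
    omega
  have h5 : ((e.symm uq : S) : SL2) = -1 := by
    apply S0261.eq_neg_one_of_sq h2
    · rw [← Subgroup.coe_mul, ← map_mul, h3, map_one, Subgroup.coe_one]
    · intro h
      have h6 : e.symm uq = 1 := Subtype.ext h
      rw [← map_one e.symm] at h6
      exact h4 (e.symm.injective h6)
  refine ⟨?_, ?_, ?_⟩
  · rw [← Subgroup.coe_mul, ← map_mul, h1, h5]
  · rw [← Subgroup.coe_inv, ← Subgroup.coe_inv, ← Subgroup.coe_mul, ← Subgroup.coe_mul, ← map_inv,
      ← map_inv, ← map_mul, ← map_mul]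
    congr 2
    rw [hxq, conj_xa_a, qa_inv]
  · rw [← Subgroup.coe_mul, ← map_mul, QuaternionGroup.xa_mul_xa, add_zero, sub_zero, ← huq, h5]

theorem neg_one_mem_center : (-1 : SL2) ∈ Subgroup.center SL2 := by
  rw [Subgroup.mem_center_iff]
  intro g
  rw [mul_neg, neg_mul, mul_one, one_mul]

theorem centralizer_sub (h2 : (2 : F) ≠ 0) (S : Subgroup SL2) (k : ℕ) (hk : 1 ≤ k)
    (e : S ≃* QuaternionGroup (2 ^ k)) (g : SL2) (hg : g ∈ Subgroup.centralizer (S : Set SL2)) :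
    g = 1 ∨ g = -1 := by
  obtain ⟨hx, hwx, -⟩ := quat_elts h2 S k hk e
  rw [Subgroup.mem_centralizer_iff] at hg
  exact central_of_commute h2 _ _ g hx hwx (hg _ (Subtype.mem _)).symm (hg _ (Subtype.mem _)).symm

theorem centralizer_eq_center (h2 : (2 : F) ≠ 0) (S : Subgroup SL2) (k : ℕ) (hk : 1 ≤ k)
    (e : S ≃* QuaternionGroup (2 ^ k)) :
    Subgroup.centralizer (S : Set SL2) = Subgroup.center SL2 := by
  apply le_antisymm
  · intro g hg
    rcases centralizer_sub h2 S k hk e g hg with h | h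
    · rw [h]; exact Subgroup.one_mem _
    · rw [h]; exact neg_one_mem_center
  · exact Subgroup.center_le_centralizer _

end

end

section quat_alg
variable {R : Type*} [Ring R] (A B : R)

theorem qa1 (hA : A * A = -1) : A * (A * B) = -B := by rw [← mul_assoc, hA, neg_mul, one_mul]

theorem qa2 (hA : A * A = -1) (hBA : B * A = -(A * B)) : (A * B) * A = B := by
  rw [mul_assoc, hBA, mul_neg, ← mul_assoc, hA, neg_mul, one_mul, neg_neg]

theorem qa3 (hB : B * B = -1) (hBA : B * A = -(A * B)) : B * (A * B) = A := by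
  rw [← mul_assoc, hBA, neg_mul, mul_assoc, hB, mul_neg, mul_one, neg_neg]

theorem qa4 (hB : B * B = -1) : (A * B) * B = -A := by rw [mul_assoc, hB, mul_neg, mul_one]

theorem qa5 (hA : A * A = -1) (hB : B * B = -1) (hBA : B * A = -(A * B)) : (A * B) * (A * B) = -1 := by
  rw [mul_assoc, qa3 A B hB hBA, hA]

theorem V_mul_V' (hA : A * A = -1) (hB : B * B = -1) (hBA : B * A = -(A * B)) :
    (-1 + A + B + A * B) * (-1 - A - B - A * B) = 1 + 1 + 1 + 1 := by
  have h1 := qa1 A B hA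
  have h2 := qa2 A B hA hBA
  have h3 := qa3 A B hB hBA
  have h4 := qa4 A B hB
  have h5 := qa5 A B hA hB hBA
  simp only [mul_add, add_mul, mul_sub, sub_mul, mul_neg, neg_mul, mul_one, one_mul, hA, hB, hBA, h1, h2,
    h3, h4, h5]
  abel

theorem V_mul_B (hA : A * A = -1) (hB : B * B = -1) :
    (-1 + A + B + A * B) * B = A * (-1 + A + B + A * B) := by
  have h1 := qa1 A B hA
  have h4 := qa4 A B hB
  simp only [mul_add, add_mul, mul_neg, neg_mul, mul_one, one_mul, hA, hB, h1, h4]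
  abel

theorem V_mul_A (hA : A * A = -1) (hB : B * B = -1) (hBA : B * A = -(A * B)) :
    (-1 + A + B + A * B) * A = (A * B) * (-1 + A + B + A * B) := by
  have h2 := qa2 A B hA hBA
  have h4 := qa4 A B hB
  have h5 := qa5 A B hA hB hBA
  simp only [mul_add, add_mul, mul_neg, neg_mul, mul_one, one_mul, hA, hBA, h2, h4, h5]
  abel

end quat_alg

section omega
variable {F : Type*} [Field F] [Fintype F]

local notation "SL2" => Matrix.SpecialLinearGroup (Fin 2) F
local notation "M2" => Matrix (Fin 2) (Fin 2) F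

theorem one_ne_neg_one_sl2 (h2 : (2 : F) ≠ 0) : (1 : SL2) ≠ -1 := by
  intro h
  have h1 := congrArg (fun g : SL2 => (g : M2) 0 0) h
  simp only [sl2_coe_one, coe_neg_one, Matrix.neg_apply, Matrix.one_apply_eq] at h1
  apply h2
  linear_combination h1

theorem trace_zero_of_sq (h2 : (2 : F) ≠ 0) (x : SL2) (hx : x * x = -1) :
    (x : M2) 0 0 + (x : M2) 1 1 = 0 := by
  have h4 : x ^ 4 = 1 := by
    rw [pow_succ, pow_succ, pow_succ, pow_one, mul_assoc (x * x) x x, hx, neg_mul_neg, one_mul]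
  rcases S0257.mem_Q0_of_pow_four h2 x h4 with (h | h) | h
  · exfalso
    rw [h, one_mul] at hx
    exact one_ne_neg_one_sl2 h2 hx
  · exfalso
    have h' : x = -1 := h
    rw [h', neg_mul_neg, one_mul] at hx
    exact one_ne_neg_one_sl2 h2 hx
  · have h' : (x : M2).trace = 0 := h
    rwa [Matrix.trace_fin_two] at h'

theorem exists_omega (h2 : (2 : F) ≠ 0) (x y : SL2) (hx : x * x = -1) (hy : y * y = -1)
    (hyx : y * x * y⁻¹ = x⁻¹) :
    ∃ Ω : SL2, Ω * x * Ω⁻¹ = x * y ∧ Ω * y * Ω⁻¹ = x := by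
  obtain ⟨A, hAdef⟩ : ∃ A : M2, A = (x : M2) := ⟨_, rfl⟩
  obtain ⟨B, hBdef⟩ : ∃ B : M2, B = (y : M2) := ⟨_, rfl⟩
  have hA : A * A = -1 := by rw [hAdef, ← sl2_coe_mul, hx, coe_neg_one]
  have hB : B * B = -1 := by rw [hBdef, ← sl2_coe_mul, hy, coe_neg_one]
  have hBA : B * A = -(A * B) := by rw [hAdef, hBdef]; exact anticomm_of_inverts x y hx hyx
  have tA : A 0 0 + A 1 1 = 0 := by rw [hAdef]; exact trace_zero_of_sq h2 x hx
  have tB : B 0 0 + B 1 1 = 0 := by rw [hBdef]; exact trace_zero_of_sq h2 y hy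
  have tAB : (A * B) 0 0 + (A * B) 1 1 = 0 := by
    have h1 : (A * B).trace = (B * A).trace := Matrix.trace_mul_comm A B
    rw [hBA, Matrix.trace_neg] at h1
    have h3 : (2 : F) * (A * B).trace = 0 := by linear_combination h1
    rcases mul_eq_zero.mp h3 with h | h
    · exact absurd h h2
    · rwa [Matrix.trace_fin_two] at h
  obtain ⟨c, hc⟩ : ∃ c : F, c = 2⁻¹ := ⟨_, rfl⟩
  have hc4 : c * c * (1 + 1 + 1 + 1) = 1 := by
    rw [hc]
    field_simp
    norm_num
  obtain ⟨V, hV⟩ : ∃ V : M2, V = -1 + A + B + A * B := ⟨_, rfl⟩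
  obtain ⟨V', hV'⟩ : ∃ V' : M2, V' = -1 - A - B - A * B := ⟨_, rfl⟩
  have hadj : (c • V).adjugate = c • V' := by
    rw [Matrix.adjugate_fin_two, Matrix.eta_fin_two (c • V')]
    apply m2_congr
    · simp only [hV, hV', Matrix.smul_apply, Matrix.add_apply, Matrix.sub_apply, Matrix.neg_apply,
        Matrix.one_apply_eq, smul_eq_mul]
      linear_combination c * (tA + tB + tAB)
    · simp only [hV, hV', Matrix.smul_apply, Matrix.add_apply, Matrix.sub_apply, Matrix.neg_apply,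
        smul_eq_mul, Matrix.one_apply_ne (show (0 : Fin 2) ≠ 1 by decide)]
      ring
    · simp only [hV, hV', Matrix.smul_apply, Matrix.add_apply, Matrix.sub_apply, Matrix.neg_apply,
        smul_eq_mul, Matrix.one_apply_ne (show (1 : Fin 2) ≠ 0 by decide)]
      ring
    · simp only [hV, hV', Matrix.smul_apply, Matrix.add_apply, Matrix.sub_apply, Matrix.neg_apply,
        Matrix.one_apply_eq, smul_eq_mul]
      linear_combination c * (tA + tB + tAB)
  have hdet : (c • V).det = 1 := by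
    have h1 := Matrix.mul_adjugate (c • V)
    have hVV : V * V' = 1 + 1 + 1 + 1 := by rw [hV, hV']; exact V_mul_V' A B hA hB hBA
    rw [hadj, Matrix.smul_mul, Matrix.mul_smul, smul_smul, hVV] at h1
    have h3 := congrFun (congrFun h1 0) 0
    simp only [Matrix.smul_apply, Matrix.add_apply, Matrix.one_apply_eq, smul_eq_mul, mul_one] at h3
    rw [← h3]
    exact hc4
  obtain ⟨Ω, hΩ⟩ : ∃ Ω : SL2, (Ω : M2) = c • V := ⟨⟨c • V, hdet⟩, rfl⟩
  refine ⟨Ω, ?_, ?_⟩
  · rw [mul_inv_eq_iff_eq_mul]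
    apply Subtype.ext
    rw [sl2_coe_mul, sl2_coe_mul, sl2_coe_mul, hΩ, ← hAdef, ← hBdef, Matrix.smul_mul, Matrix.mul_smul, hV,
      V_mul_A A B hA hB hBA]
  · rw [mul_inv_eq_iff_eq_mul]
    apply Subtype.ext
    rw [sl2_coe_mul, sl2_coe_mul, hΩ, ← hAdef, ← hBdef, Matrix.smul_mul, Matrix.mul_smul, hV,
      V_mul_B A B hA hB]

theorem mem_normalizer_of_conj_mem {G : Type*} [Group G] (S : Subgroup G) [Finite S] (g : G)
    (h : ∀ s ∈ S, g * s * g⁻¹ ∈ S) : g ∈ Subgroup.normalizer (S : Set G) := by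
  rw [Subgroup.mem_set_normalizer_iff]
  intro s
  constructor
  · exact h s
  · intro hs
    have hinj : Function.Injective (fun t : S => (⟨g * t * g⁻¹, h t t.2⟩ : S)) := by
      intro t t' htt
      have h1 := congrArg Subtype.val htt
      simp only at h1
      apply Subtype.ext
      have h2 := mul_right_cancel h1
      exact mul_left_cancel h2
    obtain ⟨t, ht⟩ := Finite.surjective_of_injective hinj ⟨g * s * g⁻¹, hs⟩
    have h1 := congrArg Subtype.val ht
    simp only at h1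
    have h2 := mul_left_cancel (mul_right_cancel h1)
    rw [← h2]
    exact t.2

theorem card_normalizer_le (h2 : (2 : F) ≠ 0) (S : Subgroup SL2) (e : S ≃* QuaternionGroup 2)
    (x y : S) (hx : x = e.symm (QuaternionGroup.a 1)) (hy : y = e.symm (QuaternionGroup.xa 0))
    (hxx : (x : SL2) * (x : SL2) = -1) (hyx : (y : SL2) * (x : SL2) * (y : SL2)⁻¹ = (x : SL2)⁻¹) :
    Nat.card (Subgroup.normalizer (S : Set SL2)) ≤ 48 := by
  classical
  have mem : ∀ (g : Subgroup.normalizer (S : Set SL2)) (s : S), (g : SL2) * (s : SL2) * (g : SL2)⁻¹ ∈ S :=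
    fun g s => (Subgroup.mem_set_normalizer_iff.mp g.2 s).mp s.2
  obtain ⟨f, hf⟩ : ∃ f : Subgroup.normalizer (S : Set SL2) → QuaternionGroup 2 × QuaternionGroup 2,
      ∀ g, f g = (e ⟨_, mem g x⟩, e ⟨_, mem g y⟩) := ⟨fun g => (e ⟨_, mem g x⟩, e ⟨_, mem g y⟩), fun _ => rfl⟩
  have hP : (Finset.univ.filter fun p : QuaternionGroup 2 × QuaternionGroup 2 =>
      p.1 * p.2 ≠ p.2 * p.1).card = 24 := by decide
  haveI : Fintype (Subgroup.normalizer (S : Set SL2)) := Fintype.ofFinite _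
  have hfiber : ∀ g g₀ : Subgroup.normalizer (S : Set SL2), f g = f g₀ →
      (g₀ : SL2)⁻¹ * (g : SL2) = 1 ∨ (g₀ : SL2)⁻¹ * (g : SL2) = -1 := by
    intro g g₀ hgg
    rw [hf, hf, Prod.ext_iff] at hgg
    obtain ⟨e1, e2⟩ := hgg
    have e1' := congrArg Subtype.val (e.injective e1)
    have e2' := congrArg Subtype.val (e.injective e2)
    simp only at e1' e2'
    apply central_of_commute h2 (x : SL2) (y : SL2) _ hxx hyx
    · have : (g₀ : SL2)⁻¹ * (g : SL2) * (x : SL2) =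
          (g₀ : SL2)⁻¹ * ((g : SL2) * (x : SL2) * (g : SL2)⁻¹) * (g : SL2) := by group
      rw [this, e1']; group
    · have : (g₀ : SL2)⁻¹ * (g : SL2) * (y : SL2) =
          (g₀ : SL2)⁻¹ * ((g : SL2) * (y : SL2) * (g : SL2)⁻¹) * (g : SL2) := by group
      rw [this, e2']; group
  have hmaps : ∀ g ∈ (Finset.univ : Finset (Subgroup.normalizer (S : Set SL2))),
      f g ∈ Finset.univ.filter fun p : QuaternionGroup 2 × QuaternionGroup 2 => p.1 * p.2 ≠ p.2 * p.1 := by
    intro g _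
    rw [Finset.mem_filter]
    refine ⟨Finset.mem_univ _, ?_⟩
    rw [hf]
    intro hcomm
    simp only at hcomm
    rw [← map_mul, ← map_mul] at hcomm
    have h1 := congrArg Subtype.val (e.injective hcomm)
    simp only [Subgroup.coe_mul] at h1
    have h3 : (x : SL2) * (y : SL2) = (y : SL2) * (x : SL2) := by
      have e1 : (x : SL2) * (y : SL2) =
          (g : SL2)⁻¹ * (((g : SL2) * (x : SL2) * (g : SL2)⁻¹) * ((g : SL2) * (y : SL2) * (g : SL2)⁻¹)) *
            (g : SL2) := by group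
      rw [e1, h1]; group
    have h4 : x * y = y * x := Subtype.ext h3
    have h5 := congrArg e h4
    rw [map_mul, map_mul, hx, hy, MulEquiv.apply_symm_apply, MulEquiv.apply_symm_apply] at h5
    revert h5
    decide
  have hfib : ∀ p ∈ Finset.univ.filter (fun p : QuaternionGroup 2 × QuaternionGroup 2 => p.1 * p.2 ≠ p.2 * p.1),
      (Finset.univ.filter fun g : Subgroup.normalizer (S : Set SL2) => f g = p).card ≤ 2 := by
    intro p _
    rcases (Finset.univ.filter fun g : Subgroup.normalizer (S : Set SL2) => f g = p).eq_empty_or_nonempty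
      with h0 | ⟨g₀, hg₀⟩
    · rw [h0]; simp
    · have hsub : (Finset.univ.filter fun g : Subgroup.normalizer (S : Set SL2) => f g = p).card ≤
          ({1, -1} : Finset SL2).card := by
        refine Finset.card_le_card_of_injOn
          (s := Finset.univ.filter fun g : Subgroup.normalizer (S : Set SL2) => f g = p)
          (t := ({1, -1} : Finset SL2))
          (fun g : Subgroup.normalizer (S : Set SL2) => ((g₀ : SL2)⁻¹ * (g : SL2) : SL2)) ?_ ?_
        · intro g hg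
          rw [Finset.mem_coe, Finset.mem_filter] at hg
          rw [Finset.mem_filter] at hg₀
          rw [Finset.mem_coe, Finset.mem_insert, Finset.mem_singleton]
          exact hfiber g g₀ (hg.2.trans hg₀.2.symm)
        · intro g _ g' _ hgg
          simp only at hgg
          exact Subtype.ext (mul_left_cancel hgg)
      exact hsub.trans Finset.card_le_two
  have key := Finset.card_le_mul_card_image_of_maps_to hmaps 2 hfib
  rw [hP, Finset.card_univ] at key
  rw [Nat.card_eq_fintype_card]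
  exact key

theorem card_normalizer_Q8 (h2 : (2 : F) ≠ 0) (S : Sylow 2 SL2)
    (e : (S : Subgroup SL2) ≃* QuaternionGroup 2)
    (x y : (S : Subgroup SL2)) (hx : x = e.symm (QuaternionGroup.a 1)) (hy : y = e.symm (QuaternionGroup.xa 0))
    (hxx : (x : SL2) * (x : SL2) = -1) (hyx : (y : SL2) * (x : SL2) * (y : SL2)⁻¹ = (x : SL2)⁻¹)
    (hyy : (y : SL2) * (y : SL2) = -1) :
    Nat.card (Subgroup.normalizer ((S : Subgroup SL2) : Set SL2)) = 3 * Nat.card (S : Subgroup SL2) := by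
  obtain ⟨T, hT⟩ : ∃ T : Subgroup SL2, T = (S : Subgroup SL2) := ⟨_, rfl⟩
  have hle := card_normalizer_le h2 (S : Subgroup SL2) e x y hx hy hxx hyx
  have hcardS : Nat.card (S : Subgroup SL2) = 8 := by
    rw [Nat.card_congr e.toEquiv, Nat.card_eq_fintype_card, QuaternionGroup.card]
  obtain ⟨Ω, hΩx, hΩy⟩ := exists_omega h2 (x : SL2) (y : SL2) hxx hyy hyx
  have hxyx : (x : SL2) * (y : SL2) * (x : SL2) = (y : SL2) := by
    have h1 : (y : SL2) * (x : SL2) = (x : SL2)⁻¹ * (y : SL2) := by rw [← hyx]; group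
    rw [mul_assoc, h1, mul_inv_cancel_left]
  have hΩxy : Ω * ((x : SL2) * (y : SL2)) * Ω⁻¹ = (y : SL2) := by
    rw [← conj_mul, hΩx, hΩy, hxyx]
  have hΩN : Ω ∈ Subgroup.normalizer ((S : Subgroup SL2) : Set SL2) := by
    apply mem_normalizer_of_conj_mem
    intro s hs
    rcases quat_cases 2 (e ⟨s, hs⟩) with ⟨i, hi⟩ | ⟨i, hi⟩
    · have h1 : (⟨s, hs⟩ : (S : Subgroup SL2)) = x ^ i := by
        rw [hx, ← map_pow, ← hi, MulEquiv.symm_apply_apply]
      have h3 : s = (x : SL2) ^ i := by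
        have := congrArg Subtype.val h1
        rwa [Subgroup.coe_pow] at this
      rw [h3, ← conj_pow, hΩx]
      exact Subgroup.pow_mem _ (Subgroup.mul_mem _ x.2 y.2) i
    · have h1 : (⟨s, hs⟩ : (S : Subgroup SL2)) = y * x ^ i := by
        rw [hx, hy, ← map_pow, ← map_mul, ← hi, MulEquiv.symm_apply_apply]
      have h3 : s = (y : SL2) * (x : SL2) ^ i := by
        have := congrArg Subtype.val h1
        rwa [Subgroup.coe_mul, Subgroup.coe_pow] at this
      rw [h3, ← conj_mul, ← conj_pow, hΩx, hΩy]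
      exact Subgroup.mul_mem _ x.2 (Subgroup.pow_mem _ (Subgroup.mul_mem _ x.2 y.2) i)
  have hΩT : Ω ∉ (S : Subgroup SL2) := by
    intro hΩ
    have h1 : (⟨Ω, hΩ⟩ : (S : Subgroup SL2)) * y * (⟨Ω, hΩ⟩ : (S : Subgroup SL2))⁻¹ = x := Subtype.ext hΩy
    have h3 := congrArg e h1
    rw [map_mul, map_mul, map_inv, hy, hx, MulEquiv.apply_symm_apply, MulEquiv.apply_symm_apply] at h3
    have h4 : ∀ t : QuaternionGroup 2, t * QuaternionGroup.xa 0 * t⁻¹ ≠ QuaternionGroup.a 1 := by decide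
    exact h4 _ h3
  have hΩ3 : Ω ^ 3 ∈ (S : Subgroup SL2) := by
    have e3 : Ω ^ 3 = Ω * Ω * Ω := by rw [pow_succ, pow_succ, pow_one]
    have c1 : Ω ^ 3 * (x : SL2) * (Ω ^ 3)⁻¹ = (x : SL2) := by
      have : Ω ^ 3 * (x : SL2) * (Ω ^ 3)⁻¹ = Ω * (Ω * (Ω * (x : SL2) * Ω⁻¹) * Ω⁻¹) * Ω⁻¹ := by
        rw [e3]; group
      rw [this, hΩx, hΩxy, hΩy]
    have c2 : Ω ^ 3 * (y : SL2) * (Ω ^ 3)⁻¹ = (y : SL2) := by
      have : Ω ^ 3 * (y : SL2) * (Ω ^ 3)⁻¹ = Ω * (Ω * (Ω * (y : SL2) * Ω⁻¹) * Ω⁻¹) * Ω⁻¹ := by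
        rw [e3]; group
      rw [this, hΩy, hΩx, hΩxy]
    rcases central_of_commute h2 (x : SL2) (y : SL2) (Ω ^ 3) hxx hyx
      (mul_inv_eq_iff_eq_mul.mp c1) (mul_inv_eq_iff_eq_mul.mp c2) with h | h
    · rw [h]; exact Subgroup.one_mem _
    · rw [h, ← hxx]; exact Subgroup.mul_mem _ x.2 x.2
  have hTN : (S : Subgroup SL2) ≤ Subgroup.normalizer ((S : Subgroup SL2) : Set SL2) := Subgroup.le_normalizer
  haveI hnorm : ((S : Subgroup SL2).subgroupOf (Subgroup.normalizer ((S : Subgroup SL2) : Set SL2))).Normal :=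
    Subgroup.normal_in_normalizer
  obtain ⟨ω, hω⟩ : ∃ ω : Subgroup.normalizer ((S : Subgroup SL2) : Set SL2), (ω : SL2) = Ω := ⟨⟨Ω, hΩN⟩, rfl⟩
  have hq3 : (QuotientGroup.mk ω : Subgroup.normalizer ((S : Subgroup SL2) : Set SL2) ⧸
      (S : Subgroup SL2).subgroupOf (Subgroup.normalizer ((S : Subgroup SL2) : Set SL2))) ^ 3 = 1 := by
    rw [← QuotientGroup.mk_pow, QuotientGroup.eq_one_iff, Subgroup.mem_subgroupOf, Subgroup.coe_pow, hω]
    exact hΩ3
  have hq1 : (QuotientGroup.mk ω : Subgroup.normalizer ((S : Subgroup SL2) : Set SL2) ⧸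
      (S : Subgroup SL2).subgroupOf (Subgroup.normalizer ((S : Subgroup SL2) : Set SL2))) ≠ 1 := by
    rw [Ne, QuotientGroup.eq_one_iff, Subgroup.mem_subgroupOf, hω]
    exact hΩT
  haveI : Fact (Nat.Prime 3) := ⟨Nat.prime_three⟩
  have hord := orderOf_eq_prime hq3 hq1
  have h3 : 3 ∣ ((S : Subgroup SL2).subgroupOf (Subgroup.normalizer ((S : Subgroup SL2) : Set SL2))).index := by
    rw [Subgroup.index_eq_card, ← hord]
    exact orderOf_dvd_natCard _
  have hcardN : Nat.card (Subgroup.normalizer ((S : Subgroup SL2) : Set SL2)) = Nat.card (S : Subgroup SL2) *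
      ((S : Subgroup SL2).subgroupOf (Subgroup.normalizer ((S : Subgroup SL2) : Set SL2))).index := by
    rw [← Subgroup.card_mul_index ((S : Subgroup SL2).subgroupOf
      (Subgroup.normalizer ((S : Subgroup SL2) : Set SL2))),
      Nat.card_congr (Subgroup.subgroupOfEquivOfLe hTN).toEquiv]
  have hodd : ¬ 2 ∣ ((S : Subgroup SL2).subgroupOf
      (Subgroup.normalizer ((S : Subgroup SL2) : Set SL2))).index := by
    intro h
    have h5 := Subgroup.relIndex_mul_index hTN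
    apply S.not_dvd_index
    rw [← h5]
    exact Dvd.dvd.mul_right h _
  rw [hcardN, hcardS] at hle ⊢
  obtain ⟨j, hj⟩ := h3
  rw [hj] at hle hodd ⊢
  have hj1 : j = 1 := by
    rcases Nat.even_or_odd j with he | ho
    · exfalso
      apply hodd
      exact Dvd.dvd.mul_left (even_iff_two_dvd.mp he) 3
    · obtain ⟨i, hi⟩ := ho
      omega
  rw [hj1]

end omega

theorem arith1 (q : ℕ) (hq : q % 8 = 1 ∨ q % 8 = 7) : 16 ∣ q * (q ^ 2 - 1) := by
  apply Dvd.dvd.mul_left
  obtain ⟨j, hj⟩ : ∃ j, q = 8 * j + q % 8 := ⟨q / 8, (Nat.div_add_mod q 8).symm⟩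
  rcases hq with h | h
  · rw [h] at hj
    have : q ^ 2 = 16 * (j * (4 * j + 1)) + 1 := by rw [hj]; ring
    rw [this, Nat.add_sub_cancel]
    exact dvd_mul_right _ _
  · rw [h] at hj
    have : q ^ 2 = 16 * (4 * j ^ 2 + 7 * j + 3) + 1 := by rw [hj]; ring
    rw [this, Nat.add_sub_cancel]
    exact dvd_mul_right _ _

theorem arith3 (q : ℕ) (hq : q % 8 = 3 ∨ q % 8 = 5) : ∃ c, Odd c ∧ q * (q ^ 2 - 1) = 8 * c := by
  obtain ⟨j, hj⟩ : ∃ j, q = 8 * j + q % 8 := ⟨q / 8, (Nat.div_add_mod q 8).symm⟩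
  have hqodd : Odd q := by
    rw [Nat.odd_iff]
    omega
  rcases hq with h | h
  · rw [h] at hj
    have h1 : q ^ 2 = 8 * (2 * (4 * j ^ 2 + 3 * j) + 1) + 1 := by rw [hj]; ring
    refine ⟨q * (2 * (4 * j ^ 2 + 3 * j) + 1), hqodd.mul ⟨_, rfl⟩, ?_⟩
    rw [h1, Nat.add_sub_cancel]
    ring
  · rw [h] at hj
    have h1 : q ^ 2 = 8 * (2 * (4 * j ^ 2 + 5 * j + 1) + 1) + 1 := by rw [hj]; ring
    refine ⟨q * (2 * (4 * j ^ 2 + 5 * j + 1) + 1), hqodd.mul ⟨_, rfl⟩, ?_⟩
    rw [h1, Nat.add_sub_cancel]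
    ring

theorem k_ge_two (N k idx : ℕ) (hidx : ¬ 2 ∣ idx) (h : 4 * 2 ^ k * idx = N) (h16 : 16 ∣ N) : 2 ≤ k := by
  by_contra hk
  have hk' : k = 0 ∨ k = 1 := by omega
  rcases hk' with rfl | rfl
  · norm_num at h
    omega
  · norm_num at h
    omega

theorem k_eq_one (k idx c : ℕ) (hk : 1 ≤ k) (hc : Odd c) (h : 4 * 2 ^ k * idx = 8 * c) : k = 1 := by
  by_contra hk1
  obtain ⟨j, rfl⟩ : ∃ j, k = j + 2 := ⟨k - 2, by omega⟩
  have h1 : 4 * 2 ^ (j + 2) * idx = 16 * (2 ^ j * idx) := by ring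
  rw [h1] at h
  rw [Nat.odd_iff] at hc
  omega

theorem result {F : Type*} [Field F] [Fintype F] (hodd : Odd (Fintype.card F)) (S : Sylow 2 (Matrix.SpecialLinearGroup (Fin 2) F)) :
    Subgroup.centralizer ((S : Subgroup (Matrix.SpecialLinearGroup (Fin 2) F)) : Set (Matrix.SpecialLinearGroup (Fin 2) F)) = Subgroup.center (Matrix.SpecialLinearGroup (Fin 2) F) ∧
    ((Fintype.card F % 8 = 1 ∨ Fintype.card F % 8 = 7) →
      Subgroup.normalizer ((S : Subgroup (Matrix.SpecialLinearGroup (Fin 2) F)) : Set (Matrix.SpecialLinearGroup (Fin 2) F)) = (S : Subgroup (Matrix.SpecialLinearGroup (Fin 2) F))) ∧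
    ((Fintype.card F % 8 = 3 ∨ Fintype.card F % 8 = 5) →
      Nat.card (Subgroup.normalizer ((S : Subgroup (Matrix.SpecialLinearGroup (Fin 2) F)) : Set (Matrix.SpecialLinearGroup (Fin 2) F))) = 3 * Nat.card S) := by
  have hodd' : Fintype.card F % 2 = 1 := Nat.odd_iff.mp hodd
  have h2 := S0261.two_ne_zero_of_odd hodd'
  obtain ⟨k, hk1, ⟨e⟩⟩ := S0261.result hodd S
  haveI : NeZero (2 ^ k) := ⟨by positivity⟩
  have hcardS : Nat.card (S : Subgroup (Matrix.SpecialLinearGroup (Fin 2) F)) = 4 * 2 ^ k := by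
    rw [Nat.card_congr e.toEquiv, Nat.card_eq_fintype_card, QuaternionGroup.card]
  have hmul := Subgroup.card_mul_index (S : Subgroup (Matrix.SpecialLinearGroup (Fin 2) F))
  rw [hcardS, card_sl2] at hmul
  have hidx := S.not_dvd_index
  refine ⟨centralizer_eq_center h2 _ k hk1 e, ?_, ?_⟩
  · intro hq
    have hk2 : 2 ≤ k := k_ge_two _ k _ hidx hmul (arith1 _ hq)
    apply normalizer_eq_of_quaternion S k hk2 e
    intro g hg
    rcases centralizer_sub h2 _ k hk1 e g hg with h | h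
    · rw [h, mul_one]
    · rw [h, neg_mul_neg, mul_one]
  · intro hq
    obtain ⟨c, hc, hqc⟩ := arith3 _ hq
    rw [hqc] at hmul
    have hk : k = 1 := k_eq_one k _ c hk1 hc hmul
    subst hk
    obtain ⟨hxx, hyx, hyy⟩ := quat_elts h2 _ 1 le_rfl e
    have hcast : ((2 ^ (1 - 1) : ℕ) : ZMod (2 * 2 ^ 1)) = 1 := by norm_num
    rw [hcast] at hxx hyx
    exact card_normalizer_Q8 h2 S e _ _ rfl rfl hxx hyx hyy

end Cfsg.Agent.S2431
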