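import Cfsg.Statements.S2434
import Cfsg.Agent.Lib.helper14.SL2Cusp3
import Cfsg.Agent.Lib.helper15.SL2Order

set_option autoImplicit false
open Cfsg

namespace Cfsg.Agent.S2434

open Cfsg.Agent.Lib.helper14 Cfsg.Agent.Lib.helper7 Cfsg.Agent.Lib.helper2 Cfsg.Agent.Lib.Helper25
open Cfsg.Agent.S2304 Cfsg.Agent.S2307
open scoped ComplexConjugate

section Torus

variable {F : Type*} [Field F] [Fintype F]

local notation "S2" => Matrix.SpecialLinearGroup (Fin 2) F
local notation "M2" => Matrix (Fin 2) (Fin 2) F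

/-- a cyclic subgroup of order `q + 1` is the centraliser of an element without eigenvalue -/
theorem exists_centralizer (hodd : Odd (Fintype.card F)) (C : Subgroup S2) (hC : IsCyclic C)
    (hcard : Nat.card C = Fintype.card F + 1) :
    ∃ g₀ : S2, NSp g₀ ∧ C = Subgroup.centralizer ({g₀} : Set S2) := by
  classical
  obtain ⟨p, hp⟩ := CharP.exists F
  haveI := hp
  haveI : Fact p.Prime := ⟨CharP.char_is_prime F p⟩
  obtain ⟨n, hpp, hq⟩ := FiniteField.card F p
  have hq3 : 3 ≤ Fintype.card F := by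
    have h2 : 2 ≤ Fintype.card F := Fintype.one_lt_card
    obtain ⟨k, hk⟩ := hodd
    omega
  obtain ⟨g, hg⟩ := IsCyclic.exists_generator (α := C)
  have hord : orderOf (g : S2) = Fintype.card F + 1 := by
    rw [Subgroup.orderOf_coe, orderOf_eq_card_of_forall_mem_zpowers hg, hcard]
  have hpow : ∀ k : ℕ, ((g : S2) : M2) ^ k = 1 → (Fintype.card F + 1) ∣ k := by
    intro k hk
    rw [← hord]
    apply orderOf_dvd_of_pow_eq_one
    apply Subtype.ext
    rw [Matrix.SpecialLinearGroup.coe_pow, hk]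
    rfl
  have hns : NSp (g : S2) := by
    intro l hl
    by_cases hl1 : l ^ 2 = 1
    · have h1 := Cfsg.Agent.Lib.helper15.m2_pow_char_of_double_root p ((g : S2) : M2) (g : S2).2 l hl hl1
      have h2 : ((g : S2) : M2) ^ (2 * p) = 1 := by
        rw [mul_comm, pow_mul, h1, smul_pow, one_pow, ← pow_mul, mul_comm, pow_mul, hl1, one_pow,
          one_smul]
      have hdvd := hpow _ h2
      have hpq : p ∣ Fintype.card F := by
        rw [hq]
        exact dvd_pow_self p n.ne_zero
      have hple : p ≤ Fintype.card F := Nat.le_of_dvd (by omega) hpq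
      have hpos : 0 < 2 * p := by
        have := hpp.pos
        omega
      obtain ⟨k, hk⟩ := hdvd
      have hk1 : k = 1 := by
        rcases Nat.lt_or_ge k 2 with h | h
        · interval_cases k
          · omega
          · rfl
        · exfalso
          have : (Fintype.card F + 1) * 2 ≤ (Fintype.card F + 1) * k := Nat.mul_le_mul_left _ h
          omega
      rw [hk1, mul_one] at hk
      obtain ⟨j, hj⟩ := hpq
      have : p * (2 - j) = 1 ∨ 2 ≤ j := by
        rcases Nat.lt_or_ge j 2 with h | h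
        · left
          interval_cases j
          · omega
          · omega
        · right
          exact h
      rcases this with h | h
      · have := Nat.eq_one_of_mul_eq_one_right h
        exact hpp.one_lt.ne' this
      · have : p * 2 ≤ p * j := Nat.mul_le_mul_left _ h
        omega
    · have hlm : l * (((g : S2) : M2).trace - l) = 1 := by linear_combination -hl
      have hl0 : l ≠ 0 := by
        intro h0
        rw [h0, zero_mul] at hlm
        exact zero_ne_one hlm
      have hmu0 : ((g : S2) : M2).trace - l ≠ 0 := by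
        intro h0
        rw [h0, mul_zero] at hlm
        exact zero_ne_one hlm
      have h1 := Cfsg.Agent.Lib.helper15.m2_pow_of_root ((g : S2) : M2) (g : S2).2 l hl hl1
        (Fintype.card F - 1) 1 (FiniteField.pow_card_sub_one_eq_one l hl0)
        (FiniteField.pow_card_sub_one_eq_one _ hmu0)
      rw [one_smul] at h1
      have hdvd := hpow _ h1
      have := Nat.le_of_dvd (by omega) hdvd
      omega
  refine ⟨(g : S2), hns, ?_⟩
  have hle : C ≤ Subgroup.centralizer ({(g : S2)} : Set S2) := by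
    intro x hx
    rw [Subgroup.mem_centralizer_singleton_iff]
    obtain ⟨k, hk⟩ := Subgroup.mem_zpowers_iff.mp (hg ⟨x, hx⟩)
    have : x = (g : S2) ^ k := by
      have := congrArg Subtype.val hk
      simpa using this.symm
    rw [this]
    exact (Commute.zpow_self (g : S2) k).eq
  apply Subgroup.eq_of_le_of_card_ge hle
  rw [card_centralizer_nsp hodd (g : S2) hns, hcard]

end Torus

section Main

variable {F : Type*} [Field F] [Fintype F] [DecidableEq F]
variable [Fintype (Cfsg.IrrCharacter (GL (Fin 2) F))] [Fintype (MulChar F ℂ)]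
variable [Fintype (Cfsg.IrrCharacter (Matrix.SpecialLinearGroup (Fin 2) F))]

local notation "G2" => GL (Fin 2) F
local notation "S2" => Matrix.SpecialLinearGroup (Fin 2) F
local notation "M2" => Matrix (Fin 2) (Fin 2) F
local notation "Irr2" => Cfsg.IrrCharacter (GL (Fin 2) F)
local notation "IrrS" => Cfsg.IrrCharacter (Matrix.SpecialLinearGroup (Fin 2) F)

open Classical

omit [Fintype F] [DecidableEq F] [Fintype (Cfsg.IrrCharacter (GL (Fin 2) F))]
  [Fintype (MulChar F ℂ)] [Fintype (Cfsg.IrrCharacter (Matrix.SpecialLinearGroup (Fin 2) F))] in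
theorem neg_one_mem_center : (-1 : S2) ∈ Subgroup.center S2 := by
  rw [Subgroup.mem_center_iff]
  intro g
  rw [neg_one_mul, mul_neg_one]

omit [DecidableEq F] [Fintype (Cfsg.IrrCharacter (GL (Fin 2) F))]
  [Fintype (MulChar F ℂ)] [Fintype (Cfsg.IrrCharacter (Matrix.SpecialLinearGroup (Fin 2) F))] in
theorem center_cases' (z : S2) (hz : z ∈ Subgroup.center S2) : z = 1 ∨ z = -1 := by
  have hsc : IsScalar2 (z : M2) := by
    obtain ⟨r, -, hr⟩ := Matrix.SpecialLinearGroup.mem_center_iff.mp hz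
    rw [← hr]
    refine ⟨by simp, by simp, by simp⟩
  exact scalar_sl2 z hsc

omit [Fintype F] [DecidableEq F] [Fintype (Cfsg.IrrCharacter (GL (Fin 2) F))]
  [Fintype (MulChar F ℂ)] [Fintype (Cfsg.IrrCharacter (Matrix.SpecialLinearGroup (Fin 2) F))] in
theorem nonscalar_of_noncentral (c : S2) (hc : c ∉ Subgroup.center S2) :
    ¬ IsScalar2 (c : M2) := by
  intro h
  apply hc
  rcases scalar_sl2 c h with h' | h'
  · rw [h']
    exact Subgroup.one_mem _
  · rw [h']
    exact neg_one_mem_center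

omit [Fintype F] [DecidableEq F] [Fintype (Cfsg.IrrCharacter (GL (Fin 2) F))]
  [Fintype (MulChar F ℂ)] [Fintype (Cfsg.IrrCharacter (Matrix.SpecialLinearGroup (Fin 2) F))]
  [Field F] in
theorem unit_inv_conj (u : ℂˣ) (h : (u : ℂ) * conj (u : ℂ) = 1) :
    ((u⁻¹ : ℂˣ) : ℂ) = conj (u : ℂ) := by
  rw [Units.val_inv_eq_inv_val]
  exact inv_eq_of_mul_eq_one_right h

/-- the converse part -/
theorem partB (hodd : Odd (Fintype.card F)) (g₀ : S2) (h0 : NSp g₀) (χ : S2 → ℂ)
    (hχ : Cfsg.IsIrrCharacter S2 χ) (hdeg : χ 1 = (Fintype.card F : ℂ) - 1) :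
    ∃ θ : ↥(Subgroup.centralizer ({g₀} : Set S2)) →* ℂˣ,
      (∃ c : ↥(Subgroup.centralizer ({g₀} : Set S2)), θ c ^ 2 ≠ 1) ∧
      ∀ c : ↥(Subgroup.centralizer ({g₀} : Set S2)), (c : S2) ∉ Subgroup.center S2 →
        χ c = -((θ c).val + (θ c)⁻¹.val) := by
  obtain ⟨m, hm⟩ := hodd
  have hodd : Odd (Fintype.card F) := ⟨m, hm⟩
  have hq2 : 2 ≤ Fintype.card F := Fintype.one_lt_card
  have hm1 : 1 ≤ m := by omega
  -- a restriction with the same values on the torus
  obtain ⟨η, hη, ht, hval⟩ : ∃ η : Irr2, η ∈ glPsi (F := F) ∧ twI η = 1 ∧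
      ∀ x : ↥(Subgroup.centralizer ({g₀} : Set S2)), ¬ IsScalar2 ((x : S2) : M2) →
        χ (x : S2) = resS (η : G2 → ℂ) (x : S2) := by
    rcases Nat.lt_or_ge (Fintype.card F) 5 with h | h
    · have hq3 : Fintype.card F = 3 := by omega
      obtain ⟨η, hη, ht⟩ := exists_typeA_q3 hodd hq3
      refine ⟨η, hη, ht, ?_⟩
      intro x hx
      have hxn : NSp (x : S2) := nsp_of_mem_centralizer g₀ h0 x x.2 hx
      have hne := noEigvec_of_nsp (x : S2) hxn
      have hirr : Cfsg.IsIrrCharacter S2 (resS (η : G2 → ℂ)) := by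
        have hn := resS_norm η
        rw [ht, Nat.cast_one] at hn
        exact h7_irr_of_norm_one (isCharacter_resS η) hn
      have e1 := (Cfsg.Agent.S2322.result hodd χ hχ (x : S2)).2 (Or.inr (by
        rw [hdeg, hq3]
        norm_num)) hne
      have e2 := (Cfsg.Agent.S2322.result hodd _ hirr (x : S2)).2 (Or.inr (by
        rw [resS_one, (glPsi_values η hη).1, hq3]
        norm_num)) hne
      rw [e1, e2]
    · obtain ⟨η, hη, ht, hres⟩ := deg_qm1_above hodd h χ hχ hdeg
      exact ⟨η, hη, ht, fun x _ => by rw [hres]⟩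
  obtain ⟨c, θ, -, -, hnr, -, -, -, -, hv⟩ := typeA_core hodd m hm1 hm η hη ht g₀ h0
  have hθ1 := torus_irr_one g₀ h0 θ
  have hmc : ∀ x : ↥(Subgroup.centralizer ({g₀} : Set S2)),
      (θ : ↥(Subgroup.centralizer ({g₀} : Set S2)) → ℂ) x *
        conj ((θ : ↥(Subgroup.centralizer ({g₀} : Set S2)) → ℂ) x) = 1 :=
    fun x => irr_linear_mul_conj θ hθ1 x
  refine ⟨irrLinearHom θ hθ1, ?_, ?_⟩
  · by_contra hcon
    push_neg at hcon
    apply hnr
    apply Subtype.ext
    funext x
    show conj ((θ : ↥(Subgroup.centralizer ({g₀} : Set S2)) → ℂ) x) = _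
    have h1 := congrArg (fun u : ℂˣ => (u : ℂ)) (hcon x)
    simp only [Units.val_pow_eq_pow_val, Units.val_one, irrLinearHom_apply] at h1
    have h2 := hmc x
    have hne : (θ : ↥(Subgroup.centralizer ({g₀} : Set S2)) → ℂ) x ≠ 0 := by
      intro h
      rw [h, zero_mul] at h2
      exact zero_ne_one h2
    apply mul_left_cancel₀ hne
    rw [h2, ← h1]
    ring
  · intro x hx
    have hxs := nonscalar_of_noncentral (x : S2) hx
    rw [hval x hxs, hv x hxs, unit_inv_conj _ (by rw [irrLinearHom_apply]; exact hmc x),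
      irrLinearHom_apply]
    ring

/-- the existence part -/
theorem partA (hodd : Odd (Fintype.card F)) (g₀ : S2) (h0 : NSp g₀)
    (θ₀ : ↥(Subgroup.centralizer ({g₀} : Set S2)) →* ℂˣ)
    (hθ₀ : ∃ c : ↥(Subgroup.centralizer ({g₀} : Set S2)), θ₀ c ^ 2 ≠ 1) :
    ∃ χ : S2 → ℂ, Cfsg.IsIrrCharacter S2 χ ∧ χ 1 = (Fintype.card F : ℂ) - 1 ∧
      (∀ c : ↥(Subgroup.centralizer ({g₀} : Set S2)), (c : S2) ∉ Subgroup.center S2 →
        χ c = -((θ₀ c).val + (θ₀ c)⁻¹.val)) ∧
      (∀ c : ↥(Subgroup.centralizer ({g₀} : Set S2)), (c : S2) ∈ Subgroup.center S2 →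
        ∀ g : S2, χ ((c : S2) * g) = (θ₀ c).val * χ g) ∧
      (∀ g : S2, (g : M2) 0 1 = 0 → (g : M2) 1 0 = 0 → (g : M2) 0 0 ^ 2 ≠ 1 → χ g = 0) ∧
      (∀ g : S2, (g : M2) 1 0 = 0 → (g : M2) 0 0 = 1 → (g : M2) 1 1 = 1 → (g : M2) 0 1 ≠ 0 →
        χ g = -1) := by
  obtain ⟨m, hm⟩ := hodd
  have hodd : Odd (Fintype.card F) := ⟨m, hm⟩
  have hq2 : 2 ≤ Fintype.card F := Fintype.one_lt_card
  have hm1 : 1 ≤ m := by omega
  have hzC : (-1 : S2) ∈ Subgroup.centralizer ({g₀} : Set S2) := by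
    rw [Subgroup.mem_centralizer_singleton_iff, neg_one_mul, mul_neg_one]
  -- the character of the torus
  have hθ1 : (linIrr θ₀ : ↥(Subgroup.centralizer ({g₀} : Set S2)) → ℂ) 1 = 1 := by
    rw [linIrr_apply, map_one]
    rfl
  have hmc : ∀ x : ↥(Subgroup.centralizer ({g₀} : Set S2)),
      ((θ₀ x : ℂˣ) : ℂ) * conj ((θ₀ x : ℂˣ) : ℂ) = 1 :=
    fun x => irr_linear_mul_conj (linIrr θ₀) hθ1 x
  have hnr : irrConj (linIrr θ₀) ≠ linIrr θ₀ := by
    obtain ⟨c, hc⟩ := hθ₀
    intro h
    apply hc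
    have h1 := congrArg (fun μ : Cfsg.IrrCharacter ↥(Subgroup.centralizer ({g₀} : Set S2)) =>
      (μ : ↥(Subgroup.centralizer ({g₀} : Set S2)) → ℂ) c) h
    simp only [irrConj_apply, linIrr_apply] at h1
    apply Units.ext
    rw [Units.val_pow_eq_pow_val, Units.val_one, pow_two]
    have h2 := hmc c
    rw [h1] at h2
    exact h2
  obtain ⟨η, hη, ht, hin⟩ := typeA_surj hodd m hm1 hm g₀ h0 (linIrr θ₀) hnr
  obtain ⟨c, θ', hc, hcs, -, hz, -, -, hu, hv⟩ := typeA_core hodd m hm1 hm η hη ht g₀ h0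
  have hcc : conj c = c := by
    rcases sq_one_cases c hc with h | h <;> rw [h] <;> simp
  have key : ((θ₀ ⟨-1, hzC⟩ : ℂˣ) : ℂ) = c ∧
      ∀ x : ↥(Subgroup.centralizer ({g₀} : Set S2)), ¬ IsScalar2 ((x : S2) : M2) →
        resS (η : G2 → ℂ) (x : S2) = -((θ₀ x : ℂˣ) : ℂ) - conj ((θ₀ x : ℂˣ) : ℂ) := by
    rcases hu _ hin with h | h
    · constructor
      · rw [← linIrr_apply, h]
        exact hz _ rfl
      · intro x hx
        rw [← linIrr_apply, h]
        exact hv x hx
    · constructor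
      · rw [← linIrr_apply, h, irrConj_apply, hz _ rfl, hcc]
      · intro x hx
        rw [← linIrr_apply, h, hv x hx, irrConj_apply, Complex.conj_conj]
        ring
  have hirr : Cfsg.IsIrrCharacter S2 (resS (η : G2 → ℂ)) := by
    have hn := resS_norm η
    rw [ht, Nat.cast_one] at hn
    exact h7_irr_of_norm_one (isCharacter_resS η) hn
  have hE1 : resS (η : G2 → ℂ) 1 = (Fintype.card F : ℂ) - 1 := by
    rw [resS_one]
    exact (glPsi_values η hη).1
  refine ⟨resS (η : G2 → ℂ), hirr, hE1, ?_, ?_, ?_, ?_⟩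
  · intro x hx
    have hxs := nonscalar_of_noncentral (x : S2) hx
    rw [key.2 x hxs, unit_inv_conj _ (hmc x)]
    ring
  · intro x hx g
    rcases center_cases' (x : S2) hx with h | h
    · have hx1 : x = 1 := Subtype.ext h
      rw [h, one_mul, hx1, map_one, Units.val_one, one_mul]
    · have hx1 : x = ⟨-1, hzC⟩ := Subtype.ext h
      rw [h, neg_one_mul, hcs, hx1, key.1]
  · intro g h01 h10 hsq
    exact (Cfsg.Agent.S2322.result hodd _ hirr g).1 (Or.inl hE1) h01 h10 hsq
  · intro g h10 h00 h11 h01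
    apply cusp_trace_two η hη g
    · intro hs
      exact h01 hs.1
    · rw [Matrix.trace_fin_two, h00, h11]
      norm_num

end Main

/-- Let F be a finite field with q elements, q odd, and C a cyclic subgroup of order q + 1 of SL₂ over F (a non-split torus; it contains the centre). For every homomorphism θ from C to the non-zero complex numbers with θ² ≠ 1 there is an irreducible complex character χ of degree q − 1 such that χ(c) = −θ(c) − θ(c)⁻¹ for every non-central c in C, χ(zg) = θ(z)χ(g) for central z in C, χ vanishes at diagonal elements with entry a, a² ≠ 1, and χ takes the value −1 at every upper unitriangular element other than 1. Conversely every irreducible character of degree q − 1 has, for some such θ, the values −θ(c) − θ(c)⁻¹ at the non-central elements c of C (for q ≥ 5 these are exactly the cuspidal characters of degree q − 1). -/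
theorem result {F : Type*} [Field F] [Fintype F] (hodd : Odd (Fintype.card F))
    (C : Subgroup (Matrix.SpecialLinearGroup (Fin 2) F)) (hC : IsCyclic C) (hcard : Nat.card C = Fintype.card F + 1) :
    (∀ θ : C →* ℂˣ, (∃ c : C, θ c ^ 2 ≠ 1) →
      ∃ χ : Matrix.SpecialLinearGroup (Fin 2) F → ℂ, Cfsg.IsIrrCharacter (Matrix.SpecialLinearGroup (Fin 2) F) χ ∧ χ 1 = (Fintype.card F : ℂ) - 1 ∧
        (∀ c : C, (c : Matrix.SpecialLinearGroup (Fin 2) F) ∉ Subgroup.center (Matrix.SpecialLinearGroup (Fin 2) F) → χ c = -((θ c).val + (θ c)⁻¹.val)) ∧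
        (∀ c : C, (c : Matrix.SpecialLinearGroup (Fin 2) F) ∈ Subgroup.center (Matrix.SpecialLinearGroup (Fin 2) F) → ∀ g : Matrix.SpecialLinearGroup (Fin 2) F, χ ((c : Matrix.SpecialLinearGroup (Fin 2) F) * g) = (θ c).val * χ g) ∧
        (∀ g : Matrix.SpecialLinearGroup (Fin 2) F, (g : Matrix (Fin 2) (Fin 2) F) 0 1 = 0 → (g : Matrix (Fin 2) (Fin 2) F) 1 0 = 0 → (g : Matrix (Fin 2) (Fin 2) F) 0 0 ^ 2 ≠ 1 → χ g = 0) ∧
        (∀ g : Matrix.SpecialLinearGroup (Fin 2) F, (g : Matrix (Fin 2) (Fin 2) F) 1 0 = 0 → (g : Matrix (Fin 2) (Fin 2) F) 0 0 = 1 → (g : Matrix (Fin 2) (Fin 2) F) 1 1 = 1 → (g : Matrix (Fin 2) (Fin 2) F) 0 1 ≠ 0 → χ g = -1)) ∧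
    (∀ χ : Matrix.SpecialLinearGroup (Fin 2) F → ℂ, Cfsg.IsIrrCharacter (Matrix.SpecialLinearGroup (Fin 2) F) χ → χ 1 = (Fintype.card F : ℂ) - 1 →
      ∃ θ : C →* ℂˣ, (∃ c : C, θ c ^ 2 ≠ 1) ∧
        ∀ c : C, (c : Matrix.SpecialLinearGroup (Fin 2) F) ∉ Subgroup.center (Matrix.SpecialLinearGroup (Fin 2) F) → χ c = -((θ c).val + (θ c)⁻¹.val)) := by
  classical
  haveI : Fintype (Cfsg.IrrCharacter (GL (Fin 2) F)) := Fintype.ofFinite _
  haveI : Fintype (Cfsg.IrrCharacter (Matrix.SpecialLinearGroup (Fin 2) F)) := Fintype.ofFinite _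
  haveI : Fintype (MulChar F ℂ) := Fintype.ofFinite _
  obtain ⟨g₀, h0, rfl⟩ := exists_centralizer hodd C hC hcard
  exact ⟨fun θ hθ => partA hodd g₀ h0 θ hθ, fun χ hχ hdeg => partB hodd g₀ h0 χ hχ hdeg⟩

end Cfsg.Agent.S2434
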