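import Cfsg.Statements.S2436
import Cfsg.Agent.Lib.helper14.McKayTorus
import Cfsg.Agent.Lib.helper14.McKayTwo
-- import your own Cfsg.Agent.* helpers here

set_option autoImplicit false
open Cfsg

namespace Cfsg.Agent.S2436

open Cfsg.Agent.Lib.helper14 Cfsg.Agent.Lib.helper14.McKay

/-- the trivial case: the prime does not divide the group order -/
theorem mckay_trivial {G : Type*} [Group G] [Finite G] (ℓ : ℕ) [Fact ℓ.Prime]
    (h : ¬ ℓ ∣ Nat.card G) (S : Sylow ℓ G) :
    Nat.card {χ : Cfsg.IrrCharacter G // ¬ ℓ ∣ Cfsg.charDegree (χ : G → ℂ)} =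
      Nat.card {ψ : Cfsg.IrrCharacter (Subgroup.normalizer ((S : Subgroup G) : Set G)) //
        ¬ ℓ ∣ Cfsg.charDegree (ψ : Subgroup.normalizer ((S : Subgroup G) : Set G) → ℂ)} := by
  have hcard : Nat.card (S : Subgroup G) = 1 := by
    have h1 := S.card_eq_multiplicity
    rw [Nat.factorization_eq_zero_of_not_dvd h, pow_zero] at h1
    exact h1
  have hbot : (S : Subgroup G) = ⊥ := Subgroup.eq_bot_of_card_eq _ hcard
  rw [hbot, Subgroup.normalizer_eq_top]
  exact (card_degree_congr Subgroup.topEquiv (fun d => ¬ ℓ ∣ d)).symm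

/-- Let F be a finite field with q elements, q odd, ℓ any prime and S a Sylow ℓ-subgroup of SL₂ over F with normaliser N. Then SL₂ and N have the same number of irreducible complex characters of degree not divisible by ℓ (the McKay equality holds for SL₂ over F at every prime). -/
theorem result {F : Type*} [Field F] [Fintype F] (hodd : Odd (Fintype.card F)) (ℓ : ℕ) [Fact ℓ.Prime] (S : Sylow ℓ (Matrix.SpecialLinearGroup (Fin 2) F)) :
    Nat.card {χ : Cfsg.IrrCharacter (Matrix.SpecialLinearGroup (Fin 2) F) // ¬ ℓ ∣ Cfsg.charDegree (χ : Matrix.SpecialLinearGroup (Fin 2) F → ℂ)} =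
      Nat.card {ψ : Cfsg.IrrCharacter (Subgroup.normalizer ((S : Subgroup (Matrix.SpecialLinearGroup (Fin 2) F)) : Set (Matrix.SpecialLinearGroup (Fin 2) F))) //
        ¬ ℓ ∣ Cfsg.charDegree (ψ : Subgroup.normalizer ((S : Subgroup (Matrix.SpecialLinearGroup (Fin 2) F)) : Set (Matrix.SpecialLinearGroup (Fin 2) F)) → ℂ)} := by
  have hℓ : ℓ.Prime := Fact.out
  by_cases hℓ2 : ℓ = 2
  · subst hℓ2
    have hodd' : Fintype.card F % 2 = 1 := Nat.odd_iff.mp hodd
    rw [lhs_two hodd]
    have hcases : (Fintype.card F % 8 = 1 ∨ Fintype.card F % 8 = 7) ∨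
        (Fintype.card F % 8 = 3 ∨ Fintype.card F % 8 = 5) := by omega
    rcases hcases with hq | hq
    · exact (rhs_two_self hodd S hq).symm
    · exact (rhs_two_q8 hodd S hq).symm
  · obtain ⟨p, hchar⟩ := CharP.exists F
    haveI := hchar
    haveI hpF : Fact p.Prime := ⟨CharP.char_is_prime F p⟩
    by_cases hℓp : ℓ = p
    · subst hℓp
      exact mckay_char hodd ℓ S
    · by_cases hdiv : ℓ ∣ Fintype.card F - 1 ∨ ℓ ∣ Fintype.card F + 1
      · exact mckay_odd hodd ℓ hℓ2 hdiv S
      · apply mckay_trivial ℓ _ S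
        rw [card_sl2]
        intro hd
        obtain ⟨n, hp, hn⟩ := FiniteField.card F p
        have hq1 : 1 ≤ Fintype.card F := Fintype.card_pos
        have e : Fintype.card F ^ 2 - 1 = (Fintype.card F - 1) * (Fintype.card F + 1) := by
          obtain ⟨k, hk⟩ : ∃ k, Fintype.card F = k + 1 := ⟨Fintype.card F - 1, by omega⟩
          rw [hk]
          simp only [Nat.add_sub_cancel]
          have : (k + 1) ^ 2 = k * (k + 1 + 1) + 1 := by ring
          rw [this, Nat.add_sub_cancel]
        rw [e] at hd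
        rcases (Nat.Prime.dvd_mul hℓ).mp hd with h | h
        · rw [hn] at h
          have := (Nat.prime_dvd_prime_iff_eq hℓ hp).mp (hℓ.dvd_of_dvd_pow h)
          exact hℓp this
        · rcases (Nat.Prime.dvd_mul hℓ).mp h with h | h
          · exact hdiv (Or.inl h)
          · exact hdiv (Or.inr h)

end Cfsg.Agent.S2436
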