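import Cfsg.Statements.S2437
import Cfsg.Agent.Lib.helper14.SL2Odd
import Cfsg.Agent.S2325
import Cfsg.Agent.S2308

set_option autoImplicit false
set_option linter.unusedSectionVars false
open Cfsg

namespace Cfsg.Agent.S2437

open Cfsg.Agent.Lib.helper14

section
variable {F : Type*} [Field F] [Fintype F]

local notation "SL2" => Matrix.SpecialLinearGroup (Fin 2) F
local notation "M2" => Matrix (Fin 2) (Fin 2) F
local notation "BB" => Subgroup.comap (Matrix.SpecialLinearGroup.toGL : Matrix.SpecialLinearGroup (Fin 2) F →* GL (Fin 2) F) (Cfsg.upperTriangularGL 2 F)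

theorem mem_B (g : SL2) : g ∈ BB ↔ (g : M2) 1 0 = 0 := by
  rw [Subgroup.mem_comap, S2308.memB]
  rfl

def mkS (a x : F) (ha : a ≠ 0) : SL2 :=
  ⟨!![a, x; 0, a⁻¹], by rw [Matrix.det_fin_two_of, mul_zero, sub_zero, mul_inv_cancel₀ ha]⟩

def mkB (a x : F) (ha : a ≠ 0) : ↥BB := ⟨mkS a x ha, (mem_B _).mpr rfl⟩

theorem mkB_coe (a x : F) (ha : a ≠ 0) : (((mkB a x ha : ↥BB) : SL2) : M2) = !![a, x; 0, a⁻¹] := rfl

def uSel (y : F) : SL2 := ⟨!![1, y; 0, 1], by rw [Matrix.det_fin_two_of]; ring⟩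

def uB (y : F) : ↥BB := ⟨uSel y, (mem_B _).mpr rfl⟩

theorem uB_coe (y : F) : (((uB y : ↥BB) : SL2) : M2) = !![1, y; 0, 1] := rfl

theorem b_entries (b : ↥BB) : ((b : SL2) : M2) 0 0 ≠ 0 ∧
    ((b : SL2) : M2) = !![((b : SL2) : M2) 0 0, ((b : SL2) : M2) 0 1; 0, (((b : SL2) : M2) 0 0)⁻¹] := by
  have h10 := (mem_B (b : SL2)).mp b.2
  have hd := sl2_det (b : SL2)
  rw [h10, mul_zero, sub_zero] at hd
  have ha : ((b : SL2) : M2) 0 0 ≠ 0 := left_ne_zero_of_mul_eq_one hd
  refine ⟨ha, ?_⟩
  have h11 : ((b : SL2) : M2) 1 1 = (((b : SL2) : M2) 0 0)⁻¹ := eq_inv_of_mul_eq_one_right hd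
  nth_rewrite 1 [Matrix.eta_fin_two ((b : SL2) : M2)]
  rw [h10, h11]

theorem eq_mkB (b : ↥BB) : b = mkB (((b : SL2) : M2) 0 0) (((b : SL2) : M2) 0 1) (b_entries b).1 := by
  apply Subtype.ext
  apply Subtype.ext
  rw [mkB_coe]
  exact (b_entries b).2

theorem isConj_of_mul_eq (g h P : ↥BB)
    (hP : ((g : SL2) : M2) * ((P : SL2) : M2) = ((P : SL2) : M2) * ((h : SL2) : M2)) : IsConj h g := by
  rw [isConj_iff]
  refine ⟨P, ?_⟩
  rw [mul_inv_eq_iff_eq_mul]
  apply Subtype.ext
  apply Subtype.ext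
  exact hP.symm

abbrev T (F : Type*) [Field F] := {a : F // a ≠ 0 ∧ a * a ≠ 1} ⊕ (Bool × Option Bool)

open Classical in
noncomputable def inv (b : ↥BB) : T F :=
  if h : ((b : SL2) : M2) 0 0 * ((b : SL2) : M2) 0 0 ≠ 1 then Sum.inl ⟨((b : SL2) : M2) 0 0, (b_entries b).1, h⟩
  else Sum.inr (decide (((b : SL2) : M2) 0 0 = 1),
    if ((b : SL2) : M2) 0 1 = 0 then none else some (decide (IsSquare (((b : SL2) : M2) 0 1))))

theorem eps_ne_zero (e : Bool) : S2325.eps (F := F) e ≠ 0 := by
  intro h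
  have := S2325.eps_sq (F := F) e
  rw [h, mul_zero] at this
  exact zero_ne_one this

noncomputable def canon (hodd : Odd (Fintype.card F)) (τ : T F) : ↥BB :=
  match τ with
  | Sum.inl a => mkB a.1 0 a.2.1
  | Sum.inr (e, none) => mkB (S2325.eps e) 0 (eps_ne_zero e)
  | Sum.inr (e, some s) => mkB (S2325.eps e) (S2325.nonsq hodd s) (eps_ne_zero e)

theorem mkB_congr (a a' x x' : F) (ha : a ≠ 0) (ha' : a' ≠ 0) (h1 : a = a') (h2 : x = x') :
    mkB a x ha = mkB a' x' ha' := by
  subst h1 h2; rfl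

theorem inv_mkB_regular (a x : F) (ha : a ≠ 0) (h : a * a ≠ 1) : inv (mkB a x ha) = Sum.inl ⟨a, ha, h⟩ := by
  unfold inv
  have h' : (((mkB a x ha : ↥BB) : SL2) : M2) 0 0 * (((mkB a x ha : ↥BB) : SL2) : M2) 0 0 ≠ 1 := h
  rw [dif_pos h']
  rfl

theorem inv_mkB_eps (hodd : Odd (Fintype.card F)) (e : Bool) (x : F) :
    inv (mkB (S2325.eps e) x (eps_ne_zero e)) =
      Sum.inr (e, open Classical in if x = 0 then none else some (decide (IsSquare x))) := by
  classical
  unfold inv
  have h' : ¬ ((((mkB (S2325.eps e) x (eps_ne_zero e) : ↥BB) : SL2) : M2) 0 0 *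
      (((mkB (S2325.eps e) x (eps_ne_zero e) : ↥BB) : SL2) : M2) 0 0 ≠ 1) := by
    rw [not_not]
    exact S2325.eps_sq e
  rw [dif_neg h']
  have h00 : (((mkB (S2325.eps e) x (eps_ne_zero e) : ↥BB) : SL2) : M2) 0 0 = S2325.eps e := rfl
  have h01 : (((mkB (S2325.eps e) x (eps_ne_zero e) : ↥BB) : SL2) : M2) 0 1 = x := rfl
  rw [h00, h01]
  have hdec : decide (S2325.eps (F := F) e = 1) = e := by
    cases e
    · apply decide_eq_false
      simp only [S2325.eps, Bool.false_eq_true, if_false]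
      exact fun h => S2325.one_ne_neg_one hodd h.symm
    · apply decide_eq_true
      simp [S2325.eps]
  rw [hdec]

theorem inv_canon (hodd : Odd (Fintype.card F)) (τ : T F) : inv (canon hodd τ) = τ := by
  classical
  rcases τ with a | ⟨e, _ | s⟩
  · exact inv_mkB_regular a.1 0 a.2.1 a.2.2
  · show inv (mkB (S2325.eps e) 0 (eps_ne_zero e)) = _
    rw [inv_mkB_eps hodd, if_pos rfl]
  · show inv (mkB (S2325.eps e) (S2325.nonsq hodd s) (eps_ne_zero e)) = _
    rw [inv_mkB_eps hodd, if_neg (S2325.nonsq_ne_zero hodd s)]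
    congr 3
    cases s
    · exact decide_eq_false ((S2325.nonsq_isSquare hodd false).not.mpr (by simp))
    · exact decide_eq_true ((S2325.nonsq_isSquare hodd true).mpr rfl)

theorem sq_eq_one_iff (hodd : Odd (Fintype.card F)) (a : F) (h : a * a = 1) :
    a = S2325.eps (open Classical in decide (a = 1)) := by
  classical
  have : (a - 1) * (a + 1) = 0 := by linear_combination h
  rcases mul_eq_zero.mp this with h1 | h1
  · have ha : a = 1 := sub_eq_zero.mp h1
    have : decide (a = 1) = true := decide_eq_true ha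
    rw [this, ha]
    simp [S2325.eps]
  · have ha : a = -1 := eq_neg_of_add_eq_zero_left h1
    have : decide (a = 1) = false := by
      apply decide_eq_false
      rw [ha]
      exact fun h => S2325.one_ne_neg_one hodd h.symm
    rw [this, ha]
    simp [S2325.eps]

theorem conj_canon (hodd : Odd (Fintype.card F)) (b : ↥BB) : IsConj (canon hodd (inv b)) b := by
  classical
  obtain ⟨a, ha⟩ : ∃ a, ((b : SL2) : M2) 0 0 = a := ⟨_, rfl⟩
  obtain ⟨x, hx⟩ : ∃ x, ((b : SL2) : M2) 0 1 = x := ⟨_, rfl⟩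
  have ha0 : a ≠ 0 := ha ▸ (b_entries b).1
  have hb : b = mkB a x ha0 := by
    rw [eq_mkB b]
    exact mkB_congr _ _ _ _ _ _ ha hx
  rw [hb]
  by_cases h : a * a ≠ 1
  · rw [inv_mkB_regular a x ha0 h]
    show IsConj (mkB a 0 ha0) (mkB a x ha0)
    have hne : 1 - a ^ 2 ≠ 0 := fun h0 => h (by linear_combination -h0)
    apply isConj_of_mul_eq _ _ (uB (x * a / (1 - a ^ 2)))
    rw [mkB_coe, mkB_coe, uB_coe, Matrix.mul_fin_two, Matrix.mul_fin_two]
    apply m2_congr
    · ring
    · field_simp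
      ring
    · ring
    · ring
  · rw [not_not] at h
    have hae := sq_eq_one_iff hodd a h
    obtain ⟨e, he⟩ : ∃ e, decide (a = 1) = e := ⟨_, rfl⟩
    rw [he] at hae
    have hb' : mkB a x ha0 = mkB (S2325.eps e) x (eps_ne_zero e) := mkB_congr _ _ _ _ _ _ hae rfl
    rw [hb', inv_mkB_eps hodd]
    by_cases hx0 : x = 0
    · rw [if_pos hx0]
      show IsConj (mkB (S2325.eps e) 0 (eps_ne_zero e)) _
      rw [mkB_congr (S2325.eps e) (S2325.eps e) x 0 (eps_ne_zero e) (eps_ne_zero e) rfl hx0]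
    · rw [if_neg hx0]
      show IsConj (mkB (S2325.eps e) (S2325.nonsq hodd (decide (IsSquare x))) (eps_ne_zero e)) _
      have hν0 := S2325.nonsq_ne_zero hodd (decide (IsSquare x))
      have hsq : IsSquare (S2325.nonsq hodd (decide (IsSquare x)) * x) := by
        by_cases hs : IsSquare x
        · have : decide (IsSquare x) = true := decide_eq_true hs
          rw [this]
          simp only [S2325.nonsq, if_true, one_mul]
          exact hs
        · have : decide (IsSquare x) = false := decide_eq_false hs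
          rw [this]
          simp only [S2325.nonsq, Bool.false_eq_true, if_false]
          exact S2325.nonsq_mul hodd _ _ (S2325.nu_spec hodd) hs
      obtain ⟨r, hr⟩ := hsq
      obtain ⟨ν', hν'⟩ : ∃ ν', S2325.nonsq hodd (decide (IsSquare x)) = ν' := ⟨_, rfl⟩
      rw [hν'] at hr hν0 ⊢
      have hr0 : r ≠ 0 := by
        rintro rfl
        rw [mul_zero] at hr
        exact (mul_ne_zero hν0 hx0) hr
      have hp0 : r / ν' ≠ 0 := div_ne_zero hr0 hν0
      apply isConj_of_mul_eq _ _ (mkB (r / ν') 0 hp0)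
      rw [mkB_coe, mkB_coe, mkB_coe, Matrix.mul_fin_two, Matrix.mul_fin_two]
      apply m2_congr
      · ring
      · field_simp
        linear_combination hr
      · ring
      · ring

theorem inv_conj (hodd : Odd (Fintype.card F)) (b c : ↥BB) (hc : IsConj b c) : inv b = inv c := by
  classical
  obtain ⟨P, hP⟩ := isConj_iff.mp hc
  rw [mul_inv_eq_iff_eq_mul] at hP
  have hP' : ((P : SL2) : M2) * ((b : SL2) : M2) = ((c : SL2) : M2) * ((P : SL2) : M2) := by
    have := congrArg (fun z : ↥BB => ((z : SL2) : M2)) hP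
    exact this
  obtain ⟨a, ha⟩ : ∃ a, ((b : SL2) : M2) 0 0 = a := ⟨_, rfl⟩
  obtain ⟨x, hx⟩ : ∃ x, ((b : SL2) : M2) 0 1 = x := ⟨_, rfl⟩
  obtain ⟨a', ha'⟩ : ∃ a', ((c : SL2) : M2) 0 0 = a' := ⟨_, rfl⟩
  obtain ⟨x', hx'⟩ : ∃ x', ((c : SL2) : M2) 0 1 = x' := ⟨_, rfl⟩
  obtain ⟨s, hs⟩ : ∃ s, ((P : SL2) : M2) 0 0 = s := ⟨_, rfl⟩
  obtain ⟨y, hy⟩ : ∃ y, ((P : SL2) : M2) 0 1 = y := ⟨_, rfl⟩
  have ha0 : a ≠ 0 := ha ▸ (b_entries b).1
  have ha'0 : a' ≠ 0 := ha' ▸ (b_entries c).1
  have hs0 : s ≠ 0 := hs ▸ (b_entries P).1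
  have hbm := (b_entries b).2
  have hcm := (b_entries c).2
  have hPm := (b_entries P).2
  rw [ha, hx] at hbm
  rw [ha', hx'] at hcm
  rw [hs, hy] at hPm
  rw [hbm, hcm, hPm, Matrix.mul_fin_two, Matrix.mul_fin_two, m2_eq_iff] at hP'
  obtain ⟨e1, e2, -, -⟩ := hP'
  have haa : a = a' := by
    have : s * (a - a') = 0 := by linear_combination e1
    rcases mul_eq_zero.mp this with h | h
    · exact absurd h hs0
    · exact sub_eq_zero.mp h
  have hb : b = mkB a x ha0 := by
    rw [eq_mkB b]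
    exact mkB_congr _ _ _ _ _ _ ha hx
  have hc' : c = mkB a x' ha0 := by
    rw [eq_mkB c]
    exact mkB_congr _ _ _ _ _ _ (ha'.trans haa.symm) hx'
  rw [hb, hc']
  by_cases h : a * a ≠ 1
  · rw [inv_mkB_regular a x ha0 h, inv_mkB_regular a x' ha0 h]
  · rw [not_not] at h
    have hae := sq_eq_one_iff hodd a h
    obtain ⟨e, he⟩ : ∃ e, decide (a = 1) = e := ⟨_, rfl⟩
    rw [he] at hae
    rw [mkB_congr a (S2325.eps e) x x ha0 (eps_ne_zero e) hae rfl,
      mkB_congr a (S2325.eps e) x' x' ha0 (eps_ne_zero e) hae rfl, inv_mkB_eps hodd, inv_mkB_eps hodd]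
    have hinv : a⁻¹ = a := (eq_inv_of_mul_eq_one_left h).symm
    rw [← haa, hinv] at e2
    have hxx : x' = s * s * x := by
      have : s⁻¹ * x' = s * x := by linear_combination -e2
      calc x' = s * (s⁻¹ * x') := by rw [← mul_assoc, mul_inv_cancel₀ hs0, one_mul]
        _ = s * s * x := by rw [this]; ring
    congr 2
    by_cases hx0 : x = 0
    · have hx'0 : x' = 0 := by rw [hxx, hx0, mul_zero]
      rw [if_pos hx0, if_pos hx'0]
    · have hx'0 : x' ≠ 0 := by
        rw [hxx]
        exact mul_ne_zero (mul_ne_zero hs0 hs0) hx0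
      rw [if_neg hx0, if_neg hx'0]
      congr 1
      apply decide_eq_decide.mpr
      apply S2325.isSquare_iff_of_mul x x' hx0 hx'0
      exact ⟨s * x, by rw [hxx]; ring⟩

noncomputable def classEquiv (hodd : Odd (Fintype.card F)) : ConjClasses ↥BB ≃ T F :=
  Equiv.ofBijective
    (Quotient.lift (s := IsConj.setoid ↥BB) inv (fun a b hab => inv_conj hodd a b hab))
    ⟨by
      intro x y hxy
      induction x using Quotient.inductionOn with | _ a => ?_
      induction y using Quotient.inductionOn with | _ b => ?_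
      apply Quotient.sound
      show IsConj a b
      have hxy' : inv a = inv b := hxy
      have h1 := conj_canon hodd a
      have h2 := conj_canon hodd b
      rw [hxy'] at h1
      exact h1.symm.trans h2,
    by
      intro τ
      exact ⟨Quotient.mk _ (canon hodd τ), inv_canon hodd τ⟩⟩

theorem card_reg (hodd : Odd (Fintype.card F)) [DecidableEq F] :
    Fintype.card {a : F // a ≠ 0 ∧ a * a ≠ 1} = Fintype.card F - 3 := by
  have h1 : Fintype.card {a : F // a ≠ 0 ∧ a * a ≠ 1} = Fintype.card {a : F // ¬ (a = 0 ∨ a * a = 1)} := by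
    apply Fintype.card_congr
    exact Equiv.subtypeEquivRight (fun a => by push_neg; rfl)
  rw [h1, Fintype.card_subtype_compl, Fintype.card_subtype]
  congr 1
  have : (Finset.univ.filter fun a : F => a = 0 ∨ a * a = 1) = {0, 1, -1} := by
    ext t
    simp only [Finset.mem_filter, Finset.mem_univ, true_and, Finset.mem_insert, Finset.mem_singleton]
    constructor
    · rintro (h | h)
      · left; exact h
      · right
        have : (t - 1) * (t + 1) = 0 := by linear_combination h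
        rcases mul_eq_zero.mp this with h' | h'
        · left; exact sub_eq_zero.mp h'
        · right; exact eq_neg_of_add_eq_zero_left h'
    · rintro (rfl | rfl | rfl)
      · left; rfl
      · right; ring
      · right; ring
  rw [this]
  have h01 : (0 : F) ∉ ({1, -1} : Finset F) := by
    simp only [Finset.mem_insert, Finset.mem_singleton, not_or]
    exact ⟨zero_ne_one, by rw [zero_eq_neg]; exact one_ne_zero⟩
  rw [Finset.card_insert_of_notMem h01, Finset.card_pair (S2325.one_ne_neg_one hodd)]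

end

theorem result {F : Type*} [Field F] [Fintype F] (hodd : Odd (Fintype.card F)) :
    Nat.card (ConjClasses ((Cfsg.upperTriangularGL 2 F).comap Matrix.SpecialLinearGroup.toGL)) = Fintype.card F + 3 := by
  classical
  rw [Nat.card_congr (classEquiv hodd), Nat.card_eq_fintype_card, Fintype.card_sum, Fintype.card_prod,
    Fintype.card_bool, Fintype.card_option, Fintype.card_bool, card_reg hodd]
  have : 3 ≤ Fintype.card F := by
    have h1 := Fintype.one_lt_card (α := F)
    have h2 := S2325.card_mod hodd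
    omega
  omega

end Cfsg.Agent.S2437
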