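import Cfsg.Statements.S2438
import Cfsg.Agent.Lib.helper14.SL2Half2
import Cfsg.Agent.S2321
import Cfsg.Agent.S2322
import Cfsg.Agent.S2323

set_option autoImplicit false
open Cfsg

namespace Cfsg.Agent.S2438

open Cfsg.Agent.Lib.helper14 Cfsg.Agent.Lib.helper7 Cfsg.Agent.S2304 Cfsg.Agent.S2307
open scoped ComplexConjugate

section Aux

variable {F : Type*} [Field F] [Fintype F] [DecidableEq F]

local notation "G2" => GL (Fin 2) F
local notation "S2" => Matrix.SpecialLinearGroup (Fin 2) F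
local notation "M2" => Matrix (Fin 2) (Fin 2) F
local notation "Irr2" => Cfsg.IrrCharacter (GL (Fin 2) F)
local notation "IrrS" => Cfsg.IrrCharacter (Matrix.SpecialLinearGroup (Fin 2) F)

omit [Fintype F] [DecidableEq F] in
theorem toGL_uS : (Matrix.SpecialLinearGroup.toGL (uS (1 : F)) : G2) = uG 1 := by
  apply Units.ext
  rw [uG_coe]
  rfl

omit [Fintype F] in
/-- the sum over the unitriangular subgroup as a sum over the field -/
theorem sum_U_eq [Fintype F] (χ : S2 → ℂ) :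
    (∑ g : S2, if (g : M2) 1 0 = 0 ∧ (g : M2) 0 0 = 1 ∧ (g : M2) 1 1 = 1 then χ g else 0) =
      ∑ β : F, χ (uS β) := by
  rw [← Finset.sum_filter]
  symm
  apply Finset.sum_bij (fun β _ => uS β)
  · intro β _
    rw [Finset.mem_filter]
    refine ⟨Finset.mem_univ _, ?_, ?_, ?_⟩ <;> rw [uS_coe] <;> simp
  · intro β _ β' _ h
    exact uS_injective h
  · intro g hg
    rw [Finset.mem_filter] at hg
    obtain ⟨-, h10, h00, h11⟩ := hg
    refine ⟨(g : M2) 0 1, Finset.mem_univ _, ?_⟩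
    apply Subtype.ext
    rw [uS_coe]
    conv_rhs => rw [Matrix.eta_fin_two (g : M2), h10, h00, h11]
  · intro β _
    rfl

/-- the sum of a class function over the unitriangular subgroup -/
theorem sum_U_classFun (hodd : Odd (Fintype.card F)) (χ : S2 → ℂ)
    (hcf : Cfsg.IsClassFunction S2 χ) (δ₀ : F) (hδ₀ : ¬ IsSquare δ₀) :
    2 * ∑ β : F, χ (uS β) =
      2 * χ 1 + ((Fintype.card F : ℂ) - 1) * (χ (uS 1) + χ (uS δ₀)) := by
  have hδ0 : δ₀ ≠ 0 := by
    rintro rfl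
    exact hδ₀ ⟨0, by ring⟩
  set f : F → ℂ := fun β => if β = 0 then 0 else χ (uS β) with hf
  have h1 : ∑ β : F, χ (uS β) = χ 1 + ∑ β : F, f β := by
    rw [← Finset.add_sum_erase Finset.univ _ (Finset.mem_univ (0 : F)), uS_zero]
    congr 1
    rw [← Finset.add_sum_erase Finset.univ f (Finset.mem_univ (0 : F))]
    have : f 0 = 0 := by simp [hf]
    rw [this, zero_add]
    apply Finset.sum_congr rfl
    intro β hβ
    have hβ0 : β ≠ 0 := Finset.ne_of_mem_erase hβ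
    simp [hf, hβ0]
  have h2 : ∑ β : F, f β = ∑ β : F, f (δ₀ * β) :=
    (Equiv.sum_comp (Equiv.mulLeft₀ δ₀ hδ0) f).symm
  have h3 : ∀ β : F, f β + f (δ₀ * β) =
      if β = 0 then 0 else χ (uS 1) + χ (uS δ₀) := by
    intro β
    by_cases hβ : β = 0
    · simp [hf, hβ]
    · have hδβ : δ₀ * β ≠ 0 := mul_ne_zero hδ0 hβ
      simp only [hf, if_neg hβ, if_neg hδβ]
      by_cases hsq : IsSquare β
      · obtain ⟨c, hc⟩ := hsq
        have e1 : χ (uS β) = χ (uS 1) :=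
          classFun_uS_of_isSquare hcf β 1 hβ one_ne_zero ⟨c, by rw [mul_one, hc]⟩
        have e2 : χ (uS (δ₀ * β)) = χ (uS δ₀) :=
          classFun_uS_of_isSquare hcf (δ₀ * β) δ₀ hδβ hδ0 ⟨δ₀ * c, by rw [hc]; ring⟩
        rw [e1, e2]
      · have e1 : χ (uS β) = χ (uS δ₀) :=
          classFun_uS_of_isSquare hcf β δ₀ hβ hδ0 (isSquare_mul_of_not β δ₀ hsq hδ₀)
        have e2 : χ (uS (δ₀ * β)) = χ (uS 1) :=
          classFun_uS_of_isSquare hcf (δ₀ * β) 1 hδβ one_ne_zero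
            (by rw [mul_one]; exact isSquare_mul_of_not δ₀ β hδ₀ hsq)
        rw [e1, e2]
        ring
  have h4 : 2 * ∑ β : F, f β = ((Fintype.card F : ℂ) - 1) * (χ (uS 1) + χ (uS δ₀)) := by
    rw [two_mul]
    nth_rewrite 2 [h2]
    rw [← Finset.sum_add_distrib, Finset.sum_congr rfl (fun β _ => h3 β)]
    rw [← Finset.add_sum_erase Finset.univ _ (Finset.mem_univ (0 : F)), if_pos rfl, zero_add]
    rw [Finset.sum_congr rfl (fun β hβ => if_neg (Finset.ne_of_mem_erase hβ)), Finset.sum_const,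
      Finset.card_erase_of_mem (Finset.mem_univ _), Finset.card_univ, nsmul_eq_mul]
    have : 1 ≤ Fintype.card F := Fintype.card_pos
    push_cast [Nat.cast_sub this]
    ring
  rw [h1, mul_add, h4]

variable [Fintype (Cfsg.IrrCharacter (GL (Fin 2) F))] [Fintype (MulChar F ℂ)]
variable [Fintype (Cfsg.IrrCharacter (Matrix.SpecialLinearGroup (Fin 2) F))]

open Classical in
/-- the two unipotent values of a half-degree character add up to the value of the
character of `GL₂` above it -/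
theorem half_pair (hodd : Odd (Fintype.card F)) (hq : 5 ≤ Fintype.card F) (χ : S2 → ℂ)
    (hχ : Cfsg.IsIrrCharacter S2 χ) (d : ℕ) (hd : χ 1 = (d : ℂ))
    (hd' : 2 * d = Fintype.card F + 1 ∨ 2 * d + 1 = Fintype.card F)
    (δ₀ : F) (hδ₀ : ¬ IsSquare δ₀) :
    ∃ η : Irr2, (η : G2 → ℂ) 1 = ((2 * d : ℕ) : ℂ) ∧
      χ (uS 1) + χ (uS δ₀) = resS (η : G2 → ℂ) (uS 1) := by
  have hcf := h7_irr_isClassFunction hχ
  have hδ0 : δ₀ ≠ 0 := by
    rintro rfl
    exact hδ₀ ⟨0, by ring⟩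
  obtain ⟨η, hη⟩ := exists_above' (F := F) ⟨χ, hχ⟩
  change Cfsg.classInner (resS (η : G2 → ℂ)) χ ≠ 0 at hη
  obtain ⟨hdeg, -⟩ := constituent_value hodd η χ hχ hη
  obtain ⟨n, hn, hncases⟩ := Cfsg.Agent.S2322.deg_nat η
  rcases constituent_structure η χ hχ hη with ⟨ht, -⟩ | ⟨ht, χ', hχ', hres, k, hk⟩
  · exfalso
    rw [ht, hn, hd] at hdeg
    have : n = 1 * d := by exact_mod_cast hdeg
    omega
  · obtain ⟨h1, -⟩ := half_core hodd η χ χ' hχ hχ' ht hres k hk
    have hη1 : (η : G2 → ℂ) 1 = ((2 * d : ℕ) : ℂ) := by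
      rw [hdeg, ht, hd]
      push_cast
      ring
    have hq0 : (Fintype.card F : ℂ) ≠ 0 := by
      have : Fintype.card F ≠ 0 := by omega
      exact_mod_cast this
    refine ⟨η, hη1, ?_⟩
    have hδ : (k : M2).det ≠ 0 := Matrix.GeneralLinearGroup.det_ne_zero k
    have hχ'1 : χ' (uS 1) = χ (uS ((k : M2).det * 1)) := by
      rw [hk, ← sig_uS _ hδ]
      obtain ⟨c, hc⟩ := isConj_iff.mp (sig_isConj_conjS k (uS 1))
      rw [← hc, hcf]
    have hns : ¬ IsSquare (k : M2).det := by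
      intro hsq
      have : χ (uS ((k : M2).det * 1)) = χ (uS 1) :=
        classFun_uS_of_isSquare hcf _ 1 (mul_ne_zero hδ one_ne_zero) one_ne_zero
          (by rwa [mul_one, mul_one])
      rw [hχ'1, this, sub_self, zero_mul] at h1
      exact hq0 h1.symm
    have e : χ (uS δ₀) = χ (uS ((k : M2).det * 1)) :=
      classFun_uS_of_isSquare hcf δ₀ _ hδ0 (mul_ne_zero hδ one_ne_zero)
        (by rw [mul_one]; exact isSquare_mul_of_not δ₀ _ hδ₀ hns)
    rw [hres, e, ← hχ'1]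
    rfl

end Aux


/-- Let F be a finite field with q elements, q odd, q ≥ 5, U the upper unitriangular subgroup of SL₂ over F, and χ an irreducible complex character. The sum of the values of χ over U equals 2q, q, 0, q, 0 according as the degree of χ is q + 1, q, q − 1, (q + 1)/2, (q − 1)/2; so among these five degrees the sum vanishes exactly for the degrees q − 1 and (q − 1)/2, i.e. the irreducible characters of those two degrees are the ones whose restriction to U does not contain the trivial character (the cuspidal characters), while those of degree q + 1, q and (q + 1)/2 are not cuspidal. -/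
theorem result {F : Type*} [Field F] [Fintype F] [DecidableEq F] (hodd : Odd (Fintype.card F)) (hq : 5 ≤ Fintype.card F)
    (χ : Matrix.SpecialLinearGroup (Fin 2) F → ℂ) (hχ : Cfsg.IsIrrCharacter (Matrix.SpecialLinearGroup (Fin 2) F) χ) :
    (χ 1 = (Fintype.card F : ℂ) + 1 →
      (∑ g : Matrix.SpecialLinearGroup (Fin 2) F, if (g : Matrix (Fin 2) (Fin 2) F) 1 0 = 0 ∧ (g : Matrix (Fin 2) (Fin 2) F) 0 0 = 1 ∧ (g : Matrix (Fin 2) (Fin 2) F) 1 1 = 1 then χ g else 0) = 2 * (Fintype.card F : ℂ)) ∧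
    (χ 1 = (Fintype.card F : ℂ) →
      (∑ g : Matrix.SpecialLinearGroup (Fin 2) F, if (g : Matrix (Fin 2) (Fin 2) F) 1 0 = 0 ∧ (g : Matrix (Fin 2) (Fin 2) F) 0 0 = 1 ∧ (g : Matrix (Fin 2) (Fin 2) F) 1 1 = 1 then χ g else 0) = (Fintype.card F : ℂ)) ∧
    (χ 1 = (Fintype.card F : ℂ) - 1 →
      (∑ g : Matrix.SpecialLinearGroup (Fin 2) F, if (g : Matrix (Fin 2) (Fin 2) F) 1 0 = 0 ∧ (g : Matrix (Fin 2) (Fin 2) F) 0 0 = 1 ∧ (g : Matrix (Fin 2) (Fin 2) F) 1 1 = 1 then χ g else 0) = 0) ∧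
    (χ 1 = (((Fintype.card F + 1) / 2 : ℕ) : ℂ) →
      (∑ g : Matrix.SpecialLinearGroup (Fin 2) F, if (g : Matrix (Fin 2) (Fin 2) F) 1 0 = 0 ∧ (g : Matrix (Fin 2) (Fin 2) F) 0 0 = 1 ∧ (g : Matrix (Fin 2) (Fin 2) F) 1 1 = 1 then χ g else 0) = (Fintype.card F : ℂ)) ∧
    (χ 1 = (((Fintype.card F - 1) / 2 : ℕ) : ℂ) →
      (∑ g : Matrix.SpecialLinearGroup (Fin 2) F, if (g : Matrix (Fin 2) (Fin 2) F) 1 0 = 0 ∧ (g : Matrix (Fin 2) (Fin 2) F) 0 0 = 1 ∧ (g : Matrix (Fin 2) (Fin 2) F) 1 1 = 1 then χ g else 0) = 0) := by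
  classical
  haveI : Fintype (Cfsg.IrrCharacter (GL (Fin 2) F)) := Fintype.ofFinite _
  haveI : Fintype (Cfsg.IrrCharacter (Matrix.SpecialLinearGroup (Fin 2) F)) := Fintype.ofFinite _
  haveI : Fintype (MulChar F ℂ) := Fintype.ofFinite _
  have hcf := h7_irr_isClassFunction hχ
  have h2F := Cfsg.Agent.S2322.two_ne_zero_of_odd (F := F) hodd
  have hchar : ringChar F ≠ 2 := by
    intro h
    apply h2F
    have := ringChar.spec F 2
    rw [h] at this
    have h2 : ((2 : ℕ) : F) = 0 := this.mpr (dvd_refl 2)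
    exact_mod_cast h2
  obtain ⟨δ₀, hδ₀⟩ := FiniteField.exists_nonsquare hchar
  have hδ0 : δ₀ ≠ 0 := by
    rintro rfl
    exact hδ₀ ⟨0, by ring⟩
  have hsum := sum_U_classFun hodd χ hcf δ₀ hδ₀
  rw [sum_U_eq]
  -- the twisted character
  have hχ2 : Cfsg.IsIrrCharacter (Matrix.SpecialLinearGroup (Fin 2) F)
      (fun s => χ (sig δ₀ hδ0 s)) := h7_isIrr_comp_equiv (sig δ₀ hδ0) χ hχ
  have hχ2one : (fun s => χ (sig δ₀ hδ0 s)) 1 = χ 1 := by
    show χ (sig δ₀ hδ0 1) = χ 1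
    rw [map_one]
  have huS : ((uS (1 : F) : Matrix.SpecialLinearGroup (Fin 2) F) : Matrix (Fin 2) (Fin 2) F) =
      !![1, 1; 0, 1] := uS_coe 1
  obtain ⟨m, hm⟩ := hodd
  have hm2 : 2 ≤ m := by omega
  have hdp : (Fintype.card F + 1) / 2 = m + 1 := by omega
  have hdm : (Fintype.card F - 1) / 2 = m := by omega
  have hodd : Odd (Fintype.card F) := ⟨m, hm⟩
  have hqc : (Fintype.card F : ℂ) = 2 * (m : ℂ) + 1 := by
    rw [hm]; push_cast; ring
  have valp : ∀ η : Cfsg.IrrCharacter (GL (Fin 2) F),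
      (η : GL (Fin 2) F → ℂ) 1 = ((2 * (m + 1) : ℕ) : ℂ) →
      resS (η : GL (Fin 2) F → ℂ) (uS 1) = 1 := by
    intro η h1
    have h2 : (η : GL (Fin 2) F → ℂ) 1 = ((1 : ℕ) : ℂ) * ((Fintype.card F : ℂ) + 1) := by
      rw [h1, hm]; push_cast; ring
    obtain ⟨-, α, β, h, e⟩ := Cfsg.Agent.S2323.of_deg_mul_qp1 η 1 le_rfl h2
    rw [resS_apply, toGL_uS, e, glRirr_uG α β h 1 one_ne_zero]
  have valm : ∀ η : Cfsg.IrrCharacter (GL (Fin 2) F),
      (η : GL (Fin 2) F → ℂ) 1 = ((2 * m : ℕ) : ℂ) →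
      resS (η : GL (Fin 2) F → ℂ) (uS 1) = -1 := by
    intro η h1
    have h2 : (η : GL (Fin 2) F → ℂ) 1 = ((1 : ℕ) : ℂ) * ((Fintype.card F : ℂ) - 1) := by
      rw [h1, hm]; push_cast; ring
    obtain ⟨-, hmem⟩ := Cfsg.Agent.S2323.of_deg_mul_qm1 (by omega) η 1 le_rfl h2
    rw [resS_apply, toGL_uS]
    exact (glPsi_values _ hmem).2
  refine ⟨?_, ?_, ?_, ?_, ?_⟩
  · intro hdeg
    have a1 := (Cfsg.Agent.S2323.result (by omega) χ hχ (uS 1) huS).1 hdeg
    have a2 := (Cfsg.Agent.S2323.result (by omega) _ hχ2 (uS 1) huS).1 (hχ2one.trans hdeg)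
    rw [sig_uS, mul_one] at a2
    rw [a1, a2, hdeg] at hsum
    linear_combination (1 / 2 : ℂ) * hsum
  · intro hdeg
    have a1 := (Cfsg.Agent.S2321.result χ hχ hdeg (uS 1)).2.2 (by rw [uS_coe]; simp)
      (by rw [uS_coe]; simp) (by rw [uS_coe]; simp)
    have a2 := (Cfsg.Agent.S2321.result χ hχ hdeg (uS δ₀)).2.2 (by rw [uS_coe]; simp)
      (by rw [uS_coe]; simp) (by rw [uS_coe]; simpa using hδ0)
    rw [a1, a2, hdeg] at hsum
    linear_combination (1 / 2 : ℂ) * hsum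
  · intro hdeg
    have a1 := (Cfsg.Agent.S2323.result (by omega) χ hχ (uS 1) huS).2 hdeg
    have a2 := (Cfsg.Agent.S2323.result (by omega) _ hχ2 (uS 1) huS).2 (hχ2one.trans hdeg)
    rw [sig_uS, mul_one] at a2
    rw [a1, a2, hdeg] at hsum
    linear_combination (1 / 2 : ℂ) * hsum
  · intro hdeg
    rw [hdp] at hdeg
    obtain ⟨η, hη1, hpair⟩ := half_pair hodd hq χ hχ (m + 1) hdeg (Or.inl (by omega)) δ₀ hδ₀
    rw [hpair, valp η hη1, hdeg, hqc] at hsum
    rw [hqc]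
    push_cast at hsum
    linear_combination (1 / 2 : ℂ) * hsum
  · intro hdeg
    rw [hdm] at hdeg
    obtain ⟨η, hη1, hpair⟩ := half_pair hodd hq χ hχ m hdeg (Or.inr (by omega)) δ₀ hδ₀
    rw [hpair, valm η hη1, hdeg, hqc] at hsum
    linear_combination (1 / 2 : ℂ) * hsum

end Cfsg.Agent.S2438
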