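import Cfsg.Statements.S2439
import Cfsg.Agent.Lib.helper14.SL2Blocks2

set_option autoImplicit false
open Cfsg

namespace Cfsg.Agent.S2439

open Cfsg.Agent.Lib.helper14 Cfsg.Agent.Lib.helper7 Cfsg.Agent.Lib.helper2 Cfsg.Agent.Lib.Helper25
open Cfsg.Agent.S2304
open scoped ComplexConjugate

section Main

variable {F : Type*} [Field F] [Fintype F] [DecidableEq F]
variable [Fintype (Cfsg.IrrCharacter (GL (Fin 2) F))] [Fintype (MulChar F ℂ)]
variable [Fintype (Cfsg.IrrCharacter (Matrix.SpecialLinearGroup (Fin 2) F))]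

local notation "G2" => GL (Fin 2) F
local notation "S2" => Matrix.SpecialLinearGroup (Fin 2) F
local notation "M2" => Matrix (Fin 2) (Fin 2) F
local notation "Irr2" => Cfsg.IrrCharacter (GL (Fin 2) F)
local notation "IrrS" => Cfsg.IrrCharacter (Matrix.SpecialLinearGroup (Fin 2) F)

open Classical

omit [Fintype F] [DecidableEq F] [Fintype (Cfsg.IrrCharacter (GL (Fin 2) F))]
  [Fintype (MulChar F ℂ)] [Fintype (Cfsg.IrrCharacter (Matrix.SpecialLinearGroup (Fin 2) F))]
  [Field F] in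
theorem not_memLocalIdeal_two {p : ℕ} (hp2 : p ≠ 2) {M : Ideal Cfsg.AlgInt}
    (hM : Cfsg.IsPModular p M) : ¬ Cfsg.MemLocalIdeal M 2 := by
  intro h
  have hMp := h7_isPrime_of_isPModular hM
  have h1 : Cfsg.MemLocalIdeal M (((2 : ℕ) : Cfsg.AlgInt) : ℂ) := by
    convert h using 1
    push_cast
    rfl
  rw [h7_memLocalIdeal_algInt_iff hMp] at h1
  apply h7_natCast_not_mem hM 2 _ h1
  rw [Nat.coprime_comm, Nat.Prime.coprime_iff_not_dvd hM.1]
  intro hd
  exact hp2 ((Nat.prime_dvd_prime_iff_eq hM.1 Nat.prime_two).mp hd)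

omit [Fintype F] [DecidableEq F] [Fintype (Cfsg.IrrCharacter (GL (Fin 2) F))]
  [Fintype (MulChar F ℂ)] [Fintype (Cfsg.IrrCharacter (Matrix.SpecialLinearGroup (Fin 2) F))] in
/-- the central character at `-1` -/
theorem centralChar_neg_one (χ : IrrS) :
    Cfsg.centralChar (χ : S2 → ℂ) (-1) = (χ : S2 → ℂ) (-1) / (χ : S2 → ℂ) 1 := by
  unfold Cfsg.centralChar
  have : Subgroup.centralizer ({(-1 : S2)} : Set S2) = ⊤ := by
    rw [Subgroup.centralizer_eq_top_iff_subset]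
    intro x hx
    rw [Set.mem_singleton_iff] at hx
    rw [hx]
    show (-1 : S2) ∈ Subgroup.center S2
    rw [Subgroup.mem_center_iff]
    intro g
    rw [mul_neg_one, neg_one_mul]
  rw [this, Subgroup.index_top]
  simp

omit [DecidableEq F] [Fintype (Cfsg.IrrCharacter (GL (Fin 2) F))]
  [Fintype (MulChar F ℂ)] [Fintype (Cfsg.IrrCharacter (Matrix.SpecialLinearGroup (Fin 2) F))] in
/-- the central sign of an irreducible character -/
theorem sign_cases (χ : IrrS) :
    (χ : S2 → ℂ) (-1) = (χ : S2 → ℂ) 1 ∨ (χ : S2 → ℂ) (-1) = -(χ : S2 → ℂ) 1 := by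
  obtain ⟨ω, hω, -⟩ := sl_central_sign (χ : S2 → ℂ) χ.2
  have h1 := hω (-1)
  rw [neg_neg, hω 1] at h1
  have hne := irr_one_ne_zero χ
  have h2 : (χ : S2 → ℂ) 1 * ((ω - 1) * (ω + 1)) = 0 := by linear_combination -h1
  rcases mul_eq_zero.mp h2 with h | h
  · exact absurd h hne
  · rcases mul_eq_zero.mp h with h' | h'
    · left
      rw [hω 1]
      linear_combination (χ : S2 → ℂ) 1 * h'
    · right
      rw [hω 1]
      linear_combination (χ : S2 → ℂ) 1 * h'

omit [DecidableEq F] [Fintype (Cfsg.IrrCharacter (GL (Fin 2) F))]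
  [Fintype (MulChar F ℂ)] in
/-- there is an irreducible character which is not trivial on the centre -/
theorem exists_minus (h2 : (2 : F) ≠ 0) : ∃ χ : IrrS, (χ : S2 → ℂ) (-1) = -(χ : S2 → ℂ) 1 := by
  by_contra hcon
  push_neg at hcon
  have hall : ∀ χ : IrrS, (χ : S2 → ℂ) (-1) = (χ : S2 → ℂ) 1 := by
    intro χ
    rcases sign_cases χ with h | h
    · exact h
    · exact absurd h (hcon χ)
  have hne : (-1 : S2) ≠ 1 := by
    intro h
    have h'' := congrArg (fun s : S2 => (s : M2) 0 0) h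
    simp only [Matrix.SpecialLinearGroup.coe_neg, Matrix.SpecialLinearGroup.coe_one,
      Matrix.neg_apply, Matrix.one_apply_eq] at h''
    apply h2
    linear_combination -h''
  have o1 := irr_column_orthogonality (G := S2) (-1) 1
  have o2 := irr_column_orthogonality (G := S2) 1 1
  rw [if_neg] at o1
  · rw [if_pos (IsConj.refl _)] at o2
    rw [Finset.sum_congr rfl (fun χ _ => by rw [hall χ])] at o1
    rw [o1] at o2
    have : (Nat.card (Subgroup.centralizer ({(1 : S2)} : Set S2)) : ℂ) ≠ 0 := by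
      exact_mod_cast Nat.card_pos.ne'
    exact this o2.symm
  · intro h
    rw [isConj_iff] at h
    obtain ⟨c, hc⟩ := h
    apply hne
    rw [← hc]
    group

/-- the three blocks -/
theorem main (p : ℕ) [Fact p.Prime] [CharP F p] (hp : p ≠ 2)
    (M : Ideal Cfsg.AlgInt) (hM : Cfsg.IsPModular p M) :
    (∀ B : Set IrrS, Cfsg.IsPBlock M B ↔
      (B = {χ : IrrS | (χ : S2 → ℂ) 1 = (Fintype.card F : ℂ)} ∨
       B = {χ : IrrS | (χ : S2 → ℂ) (-1) = (χ : S2 → ℂ) 1 ∧
          (χ : S2 → ℂ) 1 ≠ (Fintype.card F : ℂ)} ∨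
       B = {χ : IrrS | (χ : S2 → ℂ) (-1) = -(χ : S2 → ℂ) 1})) ∧
    Nat.card {B : Set IrrS // Cfsg.IsPBlock M B} = 3 ∧
    ∀ P : Sylow p S2,
      Cfsg.IsDefectGroup p M {χ : IrrS | (χ : S2 → ℂ) (-1) = (χ : S2 → ℂ) 1 ∧
          (χ : S2 → ℂ) 1 ≠ (Fintype.card F : ℂ)} (P : Subgroup S2) ∧
      Cfsg.IsDefectGroup p M {χ : IrrS | (χ : S2 → ℂ) (-1) = -(χ : S2 → ℂ) 1}
        (P : Subgroup S2) := by
  have hpp : p.Prime := Fact.out
  have hMp := h7_isPrime_of_isPModular hM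
  have hodd := odd_card_of_char (F := F) p hp
  have h2F := two_ne_zero_of_odd_card hodd
  have hpq := char_dvd_card (F := F) p
  have hq1 : 1 < Fintype.card F := Fintype.one_lt_card
  have hqC : (Fintype.card F : ℂ) ≠ 0 := by
    have : Fintype.card F ≠ 0 := by omega
    exact_mod_cast this
  obtain ⟨St, hSt1, hStz, hStu⟩ := sl2_steinberg_unique (F := F) hodd
  obtain ⟨χ₂, hχ₂⟩ := exists_minus (F := F) h2F
  set B₀ : Set IrrS := {χ : IrrS | (χ : S2 → ℂ) 1 = (Fintype.card F : ℂ)} with hB₀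
  set B₁ : Set IrrS := {χ : IrrS | (χ : S2 → ℂ) (-1) = (χ : S2 → ℂ) 1 ∧
          (χ : S2 → ℂ) 1 ≠ (Fintype.card F : ℂ)} with hB₁
  set B₂ : Set IrrS := {χ : IrrS | (χ : S2 → ℂ) (-1) = -(χ : S2 → ℂ) 1} with hB₂
  -- a character in the last block does not have degree `q`
  have hminus_deg : ∀ χ : IrrS, χ ∈ B₂ → (χ : S2 → ℂ) 1 ≠ (Fintype.card F : ℂ) := by
    intro χ hχ h
    have hχ' : (χ : S2 → ℂ) (-1) = -(χ : S2 → ℂ) 1 := hχ
    rw [hStu χ h, hStz, hSt1] at hχ'
    apply hqC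
    linear_combination (1 / 2 : ℂ) * hχ'
  -- the block of the Steinberg character
  have hblock0 : Cfsg.blockOf M (St : S2 → ℂ) = B₀ := by
    have h1 := (Cfsg.Agent.S0914.result p M hM St).mp (by
      have hdeg : Cfsg.charDegree (St : S2 → ℂ) = Fintype.card F := by
        unfold Cfsg.charDegree
        rw [hSt1]
        simp
      rw [hdeg, card_sl2, Nat.mul_div_cancel_left _ (by omega)]
      intro h
      have hsq : 1 ≤ Fintype.card F ^ 2 := Nat.one_le_pow _ _ (by omega)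
      have h5 : p ∣ Fintype.card F ^ 2 - 1 + 1 := by
        rw [Nat.sub_add_cancel hsq]
        exact Dvd.dvd.trans hpq (dvd_pow_self _ (by norm_num))
      have := (Nat.dvd_add_right h).mp h5
      exact hpp.one_lt.ne' (Nat.dvd_one.mp this))
    rw [h1]
    ext χ
    simp only [Set.mem_singleton_iff, hB₀, Set.mem_setOf_eq]
    constructor
    · intro h
      rw [h, hSt1]
    · intro h
      exact hStu χ h
  have hnot0 : ∀ χ ψ : IrrS, (χ : S2 → ℂ) 1 ≠ (Fintype.card F : ℂ) →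
      Cfsg.SameBlock M (χ : S2 → ℂ) (ψ : S2 → ℂ) → (ψ : S2 → ℂ) 1 ≠ (Fintype.card F : ℂ) := by
    intro χ ψ hχ hsame h
    have hψ := hStu ψ h
    rw [hψ] at hsame
    have : χ ∈ Cfsg.blockOf M (St : S2 → ℂ) := h7_sameBlock_symm hsame
    rw [hblock0] at this
    exact hχ this
  -- characters with different signs are in different blocks
  have hdiff : ∀ χ ψ : IrrS, (χ : S2 → ℂ) (-1) = (χ : S2 → ℂ) 1 →
      (ψ : S2 → ℂ) (-1) = -(ψ : S2 → ℂ) 1 →
      ¬ Cfsg.SameBlock M (χ : S2 → ℂ) (ψ : S2 → ℂ) := by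
    intro χ ψ hχ hψ hsame
    have h1 := hsame (-1)
    rw [centralChar_neg_one, centralChar_neg_one, hχ, hψ, div_self (irr_one_ne_zero χ), neg_div,
      div_self (irr_one_ne_zero ψ)] at h1
    apply not_memLocalIdeal_two hp hM
    convert h1 using 1
    norm_num
  have hsame : ∀ χ ψ : IrrS, (χ : S2 → ℂ) 1 ≠ (Fintype.card F : ℂ) →
      (ψ : S2 → ℂ) 1 ≠ (Fintype.card F : ℂ) →
      (χ : S2 → ℂ) (-1) * (ψ : S2 → ℂ) 1 = (ψ : S2 → ℂ) (-1) * (χ : S2 → ℂ) 1 →
      Cfsg.SameBlock M (χ : S2 → ℂ) (ψ : S2 → ℂ) := by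
    intro χ ψ hχ hψ hs
    obtain ⟨dχ, hdχ, hcχ⟩ := sl2_degree_coprime p hp χ hχ
    obtain ⟨dψ, hdψ, hcψ⟩ := sl2_degree_coprime p hp ψ hψ
    exact sl2_sameBlock_of_sign p hp M hM χ ψ dχ dψ hdχ hcχ hdψ hcψ hs
  have hblock1 : ∀ χ : IrrS, χ ∈ B₁ → Cfsg.blockOf M (χ : S2 → ℂ) = B₁ := by
    intro χ hχ
    obtain ⟨hχs, hχd⟩ := hχ
    ext ψ
    constructor
    · intro hψ
      have hψ' : Cfsg.SameBlock M (χ : S2 → ℂ) (ψ : S2 → ℂ) := hψ
      refine ⟨?_, hnot0 χ ψ hχd hψ'⟩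
      rcases sign_cases ψ with h | h
      · exact h
      · exact absurd hψ' (hdiff χ ψ hχs h)
    · rintro ⟨hψs, hψd⟩
      show Cfsg.SameBlock M (χ : S2 → ℂ) (ψ : S2 → ℂ)
      apply hsame χ ψ hχd hψd
      rw [hχs, hψs]
      ring
  have hblock2 : ∀ χ : IrrS, χ ∈ B₂ → Cfsg.blockOf M (χ : S2 → ℂ) = B₂ := by
    intro χ hχ
    have hχs : (χ : S2 → ℂ) (-1) = -(χ : S2 → ℂ) 1 := hχ
    have hχd := hminus_deg χ hχ
    ext ψ
    constructor
    · intro hψ
      have hψ' : Cfsg.SameBlock M (χ : S2 → ℂ) (ψ : S2 → ℂ) := hψ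
      rcases sign_cases ψ with h | h
      · exact absurd (h7_sameBlock_symm hψ') (hdiff ψ χ h hχs)
      · exact h
    · intro hψ
      have hψs : (ψ : S2 → ℂ) (-1) = -(ψ : S2 → ℂ) 1 := hψ
      show Cfsg.SameBlock M (χ : S2 → ℂ) (ψ : S2 → ℂ)
      apply hsame χ ψ hχd (hminus_deg ψ hψ)
      rw [hχs, hψs]
      ring
  -- the trivial character
  have htriv : trivIrr S2 ∈ B₁ := by
    refine ⟨rfl, ?_⟩
    show (1 : ℂ) ≠ (Fintype.card F : ℂ)
    intro h
    have : (1 : ℕ) = Fintype.card F := by exact_mod_cast h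
    omega
  have hSt0 : St ∈ B₀ := hSt1
  have hχ₂' : χ₂ ∈ B₂ := hχ₂
  have hclass : ∀ B : Set IrrS, Cfsg.IsPBlock M B ↔ (B = B₀ ∨ B = B₁ ∨ B = B₂) := by
    intro B
    constructor
    · rintro ⟨χ, rfl⟩
      by_cases h : (χ : S2 → ℂ) 1 = (Fintype.card F : ℂ)
      · left
        rw [hStu χ h]
        exact hblock0
      · rcases sign_cases χ with hs | hs
        · right; left
          exact hblock1 χ ⟨hs, h⟩
        · right; right
          exact hblock2 χ hs
    · rintro (h | h | h)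
      · exact ⟨St, by rw [h, hblock0]⟩
      · exact ⟨trivIrr S2, by rw [h, hblock1 _ htriv]⟩
      · exact ⟨χ₂, by rw [h, hblock2 _ hχ₂']⟩
  refine ⟨hclass, ?_, ?_⟩
  · -- the number of blocks
    have h01 : B₀ ≠ B₁ := by
      intro h
      have : St ∈ B₁ := h ▸ hSt0
      exact this.2 hSt1
    have h02 : B₀ ≠ B₂ := by
      intro h
      have : St ∈ B₂ := h ▸ hSt0
      exact hminus_deg St this hSt1
    have h12 : B₁ ≠ B₂ := by
      intro h
      have : trivIrr S2 ∈ B₂ := h ▸ htriv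
      have h' : (1 : ℂ) = -1 := this
      norm_num at h'
    have hset : {B : Set IrrS | Cfsg.IsPBlock M B} = {B₀, B₁, B₂} := by
      ext B
      simp only [Set.mem_setOf_eq, Set.mem_insert_iff, Set.mem_singleton_iff]
      exact hclass B
    have : Nat.card {B : Set IrrS // Cfsg.IsPBlock M B} =
        Set.ncard {B : Set IrrS | Cfsg.IsPBlock M B} := by
      rw [← Nat.card_coe_set_eq]
      rfl
    rw [this, hset]
    exact Set.ncard_eq_three.mpr ⟨B₀, B₁, B₂, h01, h02, h12, rfl⟩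
  · intro P
    constructor
    · have h := sylow_defect_of_coprime_degree p M hM (trivIrr S2) 1 (by simp)
        (Nat.coprime_one_left p) P
      rw [hblock1 _ htriv] at h
      exact h
    · obtain ⟨d, hd, hc⟩ := sl2_degree_coprime p hp χ₂ (hminus_deg χ₂ hχ₂')
      have h := sylow_defect_of_coprime_degree p M hM χ₂ d hd hc P
      rw [hblock2 _ hχ₂'] at h
      exact h

end Main

/-- Let F be a finite field with q elements of odd characteristic p, and M a maximal ideal of the algebraic integers containing p. Then SL₂ over F has exactly three p-blocks relative to M: the irreducible character of degree q (the Steinberg character) alone; the other irreducible characters taking the same value at −1 as at 1 (the principal block); and the irreducible characters χ with χ(−1) = −χ(1). Every Sylow p-subgroup is a defect group of each of the last two blocks. -/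
theorem result {F : Type*} [Field F] [Fintype F] (p : ℕ) [Fact p.Prime] [CharP F p] (hp : p ≠ 2)
    (M : Ideal Cfsg.AlgInt) (hM : Cfsg.IsPModular p M) :
    (∀ B : Set (Cfsg.IrrCharacter (Matrix.SpecialLinearGroup (Fin 2) F)), Cfsg.IsPBlock M B ↔
      (B = {χ : Cfsg.IrrCharacter (Matrix.SpecialLinearGroup (Fin 2) F) | (χ : Matrix.SpecialLinearGroup (Fin 2) F → ℂ) 1 = (Fintype.card F : ℂ)} ∨
       B = {χ : Cfsg.IrrCharacter (Matrix.SpecialLinearGroup (Fin 2) F) | (χ : Matrix.SpecialLinearGroup (Fin 2) F → ℂ) (-1) = (χ : Matrix.SpecialLinearGroup (Fin 2) F → ℂ) 1 ∧ (χ : Matrix.SpecialLinearGroup (Fin 2) F → ℂ) 1 ≠ (Fintype.card F : ℂ)} ∨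
       B = {χ : Cfsg.IrrCharacter (Matrix.SpecialLinearGroup (Fin 2) F) | (χ : Matrix.SpecialLinearGroup (Fin 2) F → ℂ) (-1) = -(χ : Matrix.SpecialLinearGroup (Fin 2) F → ℂ) 1})) ∧
    Nat.card {B : Set (Cfsg.IrrCharacter (Matrix.SpecialLinearGroup (Fin 2) F)) // Cfsg.IsPBlock M B} = 3 ∧
    ∀ P : Sylow p (Matrix.SpecialLinearGroup (Fin 2) F),
      Cfsg.IsDefectGroup p M {χ : Cfsg.IrrCharacter (Matrix.SpecialLinearGroup (Fin 2) F) | (χ : Matrix.SpecialLinearGroup (Fin 2) F → ℂ) (-1) = (χ : Matrix.SpecialLinearGroup (Fin 2) F → ℂ) 1 ∧ (χ : Matrix.SpecialLinearGroup (Fin 2) F → ℂ) 1 ≠ (Fintype.card F : ℂ)} (P : Subgroup (Matrix.SpecialLinearGroup (Fin 2) F)) ∧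
      Cfsg.IsDefectGroup p M {χ : Cfsg.IrrCharacter (Matrix.SpecialLinearGroup (Fin 2) F) | (χ : Matrix.SpecialLinearGroup (Fin 2) F → ℂ) (-1) = -(χ : Matrix.SpecialLinearGroup (Fin 2) F → ℂ) 1} (P : Subgroup (Matrix.SpecialLinearGroup (Fin 2) F)) := by
  classical
  haveI : Fintype (Cfsg.IrrCharacter (GL (Fin 2) F)) := Fintype.ofFinite _
  haveI : Fintype (Cfsg.IrrCharacter (Matrix.SpecialLinearGroup (Fin 2) F)) := Fintype.ofFinite _
  haveI : Fintype (MulChar F ℂ) := Fintype.ofFinite _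
  exact main p hp M hM

end Cfsg.Agent.S2439
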