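import Cfsg.Statements.S2444
import Cfsg.Agent.Lib.Helper19.ORE.Defs
import Cfsg.Agent.Lib.Helper19.ORE.Defs2
import Cfsg.Agent.Lib.helper14.OREE3
import Cfsg.Agent.Lib.Helper9.OREE4core
import Cfsg.Agent.Lib.helper2.OREG5core
import Cfsg.Agent.Lib.helper2.OREM1
import Cfsg.Agent.Lib.helper15.OREG4
import Cfsg.Agent.Lib.Helper28.OREM2
import Cfsg.Agent.Lib.Helper28.OREM3

set_option autoImplicit false
open Cfsg

namespace Cfsg.Agent.S2444
open Cfsg.Agent.Lib.Helper19.ORE

/-- In the special linear group SL(n,F) over a finite field F, with n ≥ 2 and (n, |F|) not (2,2) or (2,3), every element is a commutator a·b·a⁻¹·b⁻¹ of two elements of SL(n,F). -/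
theorem result {F : Type*} [Field F] [Fintype F] (n : ℕ) (hn : 2 ≤ n) (hex : n = 2 → 4 ≤ Fintype.card F) :
    ∀ g : Matrix.SpecialLinearGroup (Fin n) F, ∃ a b : Matrix.SpecialLinearGroup (Fin n) F, g = a * b * a⁻¹ * b⁻¹ := by
  intro g
  by_cases h4 : 4 ≤ Fintype.card F
  · exact big_main h4 n hn g
  · have hn3 : 3 ≤ n := by
      by_contra h
      exact h4 (hex (by omega))
    have h1 : 1 < Fintype.card F := Fintype.one_lt_card
    have h23 : Fintype.card F = 2 ∨ Fintype.card F = 3 := by omega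
    have two_main : ∀ g : Matrix.SpecialLinearGroup (Fin n) (ZMod 2),
        ∃ a b : Matrix.SpecialLinearGroup (Fin n) (ZMod 2), g = a * b * a⁻¹ * b⁻¹ := fun g =>
      oree4_core n hn3 g _
        (two_all n (Fin n → ZMod 2) (Matrix.SpecialLinearGroup.toLin' g) (by simp)) (bridge n g)
    have three_main : ∀ g : Matrix.SpecialLinearGroup (Fin n) (ZMod 3),
        ∃ a b : Matrix.SpecialLinearGroup (Fin n) (ZMod 3), g = a * b * a⁻¹ * b⁻¹ := fun g =>
      oreg5_core n hn3 g
        (three_all n (Fin n → ZMod 3) (Matrix.SpecialLinearGroup.toLin' g) (by simp)).1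
    rcases h23 with h2 | h3
    · exact transfer (ZMod.ringEquivOfPrime F Nat.prime_two h2).symm n two_main g
    · exact transfer (ZMod.ringEquivOfPrime F Nat.prime_three h3).symm n three_main g

end Cfsg.Agent.S2444
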