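import Cfsg.Statements.S2450

import Cfsg.Agent.Lib.helper15.SL2Conj
set_option autoImplicit false
open Cfsg

namespace Cfsg.Agent.S2450


open Cfsg.Agent.Lib.helper15

section Helpers

variable {F : Type*} [Field F] [Fintype F]

theorem mem_center_iff' (g : Matrix.SpecialLinearGroup (Fin 2) F) :
    g ∈ Subgroup.center (Matrix.SpecialLinearGroup (Fin 2) F) ↔
      ∃ c : F, c ^ 2 = 1 ∧ (g : Matrix (Fin 2) (Fin 2) F) = c • (1 : Matrix (Fin 2) (Fin 2) F) := by
  rw [Matrix.SpecialLinearGroup.mem_center_iff]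
  simp only [Fintype.card_fin]
  constructor
  · rintro ⟨r, hr, h⟩
    refine ⟨r, hr, ?_⟩
    rw [← h, Matrix.scalar_apply, Matrix.smul_one_eq_diagonal]
  · rintro ⟨c, hc, h⟩
    refine ⟨c, hc, ?_⟩
    rw [h, Matrix.scalar_apply, Matrix.smul_one_eq_diagonal]

theorem mk_eq_one_of_scalar (g : Matrix.SpecialLinearGroup (Fin 2) F) (c : F)
    (hc : (g : Matrix (Fin 2) (Fin 2) F) = c • (1 : Matrix (Fin 2) (Fin 2) F)) :
    (QuotientGroup.mk g : Matrix.ProjectiveSpecialLinearGroup (Fin 2) F) = 1 := by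
  have hdet : (g : Matrix (Fin 2) (Fin 2) F).det = 1 := g.2
  rw [hc, Matrix.det_smul, Matrix.det_one, Fintype.card_fin, mul_one] at hdet
  rw [QuotientGroup.eq_one_iff, mem_center_iff']
  exact ⟨c, hdet, hc⟩

theorem mk_eq_imp (A B : Matrix.SpecialLinearGroup (Fin 2) F)
    (h : (QuotientGroup.mk A : Matrix.ProjectiveSpecialLinearGroup (Fin 2) F) = QuotientGroup.mk B) :
    (A : Matrix (Fin 2) (Fin 2) F) = B ∨ (A : Matrix (Fin 2) (Fin 2) F) = -B := by
  rw [QuotientGroup.eq, mem_center_iff'] at h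
  obtain ⟨c, hc, h⟩ := h
  have hB : (B : Matrix (Fin 2) (Fin 2) F) = c • (A : Matrix (Fin 2) (Fin 2) F) := by
    have h1 : B = A * (A⁻¹ * B) := by group
    have h2 := congrArg (fun y : Matrix.SpecialLinearGroup (Fin 2) F => (y : Matrix (Fin 2) (Fin 2) F)) h1
    simp only [Matrix.SpecialLinearGroup.coe_mul] at h2
    rw [← Matrix.SpecialLinearGroup.coe_mul, h, Matrix.mul_smul, mul_one] at h2
    exact h2
  rcases sq_eq_one_iff.mp hc with rfl | rfl
  · left
    rw [hB, one_smul]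
  · right
    rw [hB, neg_smul, one_smul, neg_neg]

theorem trace_sq_eq_of_isConj (G₁ G₂ : Matrix.SpecialLinearGroup (Fin 2) F)
    (h : IsConj (QuotientGroup.mk G₁ : Matrix.ProjectiveSpecialLinearGroup (Fin 2) F)
      (QuotientGroup.mk G₂)) :
    (G₁ : Matrix (Fin 2) (Fin 2) F).trace ^ 2 = (G₂ : Matrix (Fin 2) (Fin 2) F).trace ^ 2 := by
  rw [isConj_iff] at h
  obtain ⟨c, hc⟩ := h
  obtain ⟨H, rfl⟩ := QuotientGroup.mk_surjective c
  have h1 : (QuotientGroup.mk (H * G₁ * H⁻¹) : Matrix.ProjectiveSpecialLinearGroup (Fin 2) F) =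
      QuotientGroup.mk G₂ := by
    rw [← hc]
    rfl
  have htr : ((H * G₁ * H⁻¹ : Matrix.SpecialLinearGroup (Fin 2) F) : Matrix (Fin 2) (Fin 2) F).trace =
      (G₁ : Matrix (Fin 2) (Fin 2) F).trace := by
    rw [Matrix.SpecialLinearGroup.coe_mul, Matrix.trace_mul_comm,
      ← Matrix.SpecialLinearGroup.coe_mul, ← mul_assoc, inv_mul_cancel, one_mul]
  rcases mk_eq_imp _ _ h1 with h2 | h2
  · rw [← htr, h2]
  · rw [← htr, h2, Matrix.trace_neg, neg_sq]

theorem quad_card_le (a b c : F) (ha : a ≠ 0) (h : ∀ u : F, a * u ^ 2 + b * u + c = 0) :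
    Fintype.card F ≤ 2 := by
  by_contra hcon
  push Not at hcon
  have hp : (Polynomial.C a * Polynomial.X ^ 2 + Polynomial.C b * Polynomial.X + Polynomial.C c :
      Polynomial F) = 0 := by
    apply Polynomial.eq_zero_of_natDegree_lt_card_of_eval_eq_zero _ Function.injective_id
    · intro u
      simp only [Polynomial.eval_add, Polynomial.eval_mul, Polynomial.eval_C, Polynomial.eval_pow,
        Polynomial.eval_X, id]
      exact h u
    · rw [Polynomial.natDegree_quadratic ha]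
      exact hcon
  have := Polynomial.natDegree_quadratic (b := b) (c := c) ha
  rw [hp] at this
  simp at this

theorem quad_mul_card_le (a b c c' : F) (ha : a ≠ 0)
    (h : ∀ u : F, (a * u ^ 2 + b * u + c) * (a * u ^ 2 + b * u + c') = 0) :
    Fintype.card F ≤ 4 := by
  by_contra hcon
  push Not at hcon
  have hd1 := Polynomial.natDegree_quadratic (b := b) (c := c) ha
  have hd2 := Polynomial.natDegree_quadratic (b := b) (c := c') ha
  have hn1 : (Polynomial.C a * Polynomial.X ^ 2 + Polynomial.C b * Polynomial.X + Polynomial.C c :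
      Polynomial F) ≠ 0 := by
    intro h0
    rw [h0] at hd1
    simp at hd1
  have hn2 : (Polynomial.C a * Polynomial.X ^ 2 + Polynomial.C b * Polynomial.X + Polynomial.C c' :
      Polynomial F) ≠ 0 := by
    intro h0
    rw [h0] at hd2
    simp at hd2
  have hp : (Polynomial.C a * Polynomial.X ^ 2 + Polynomial.C b * Polynomial.X + Polynomial.C c :
      Polynomial F) * (Polynomial.C a * Polynomial.X ^ 2 + Polynomial.C b * Polynomial.X +
      Polynomial.C c') = 0 := by
    apply Polynomial.eq_zero_of_natDegree_lt_card_of_eval_eq_zero _ Function.injective_id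
    · intro u
      simp only [Polynomial.eval_add, Polynomial.eval_mul, Polynomial.eval_C, Polynomial.eval_pow,
        Polynomial.eval_X, id]
      exact h u
    · rw [Polynomial.natDegree_mul hn1 hn2, hd1, hd2]
      exact hcon
  rcases mul_eq_zero.mp hp with h0 | h0
  · exact hn1 h0
  · exact hn2 h0

theorem no_const_sq (h4 : 4 ≤ Fintype.card F) (a b c : F) (ha : a ≠ 0)
    (h : ∀ u : F, (a * u ^ 2 + b * u + c) ^ 2 = c ^ 2) : False := by
  have h1 : ∀ u : F, (a * u ^ 2 + b * u + 0) * (a * u ^ 2 + b * u + 2 * c) = 0 := by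
    intro u
    linear_combination h u
  have hle := quad_mul_card_le a b 0 (2 * c) ha h1
  have hq : Fintype.card F = 4 := le_antisymm hle h4
  obtain ⟨p, hp⟩ := CharP.exists F
  obtain ⟨n, hprime, hn⟩ := FiniteField.card F p
  have hp2 : p = 2 := by
    have h2 : 2 ∣ p ^ (n : ℕ) := by
      rw [← hn, hq]
      norm_num
    have h3 : 2 ∣ p := Nat.Prime.dvd_of_dvd_pow Nat.prime_two h2
    exact ((Nat.prime_dvd_prime_iff_eq Nat.prime_two hprime).mp h3).symm
  subst hp2
  have h20 : (2 : F) = 0 := CharTwo.two_eq_zero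
  have h2 : ∀ u : F, a * u ^ 2 + b * u + 0 = 0 := by
    intro u
    have h3 := h1 u
    rw [h20, zero_mul] at h3
    exact mul_self_eq_zero.mp h3
  have := quad_card_le a b 0 ha h2
  omega

def uT (u : F) : Matrix.SpecialLinearGroup (Fin 2) F :=
  mkSL !![1, u; 0, 1] (by simp [Matrix.det_fin_two])

theorem uT_coe (u : F) : ((uT u : Matrix.SpecialLinearGroup (Fin 2) F) : Matrix (Fin 2) (Fin 2) F) =
    !![1, u; 0, 1] := rfl

theorem uT_inv (u : F) : (uT u : Matrix.SpecialLinearGroup (Fin 2) F)⁻¹ = uT (-u) := by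
  apply inv_eq_of_mul_eq_one_right
  apply Subtype.ext
  rw [Matrix.SpecialLinearGroup.coe_mul, uT_coe, uT_coe, Matrix.SpecialLinearGroup.coe_one,
    Matrix.mul_fin_two, Matrix.one_fin_two]
  simp

theorem trace_formula (A B : Matrix.SpecialLinearGroup (Fin 2) F) (u : F) :
    ((uT u * A * (uT u)⁻¹ * B : Matrix.SpecialLinearGroup (Fin 2) F) :
      Matrix (Fin 2) (Fin 2) F).trace =
    (-((A : Matrix (Fin 2) (Fin 2) F) 1 0 * (B : Matrix (Fin 2) (Fin 2) F) 1 0)) * u ^ 2 +
    ((A : Matrix (Fin 2) (Fin 2) F) 1 0 * (B : Matrix (Fin 2) (Fin 2) F) 0 0 -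
      (A : Matrix (Fin 2) (Fin 2) F) 0 0 * (B : Matrix (Fin 2) (Fin 2) F) 1 0 +
      (A : Matrix (Fin 2) (Fin 2) F) 1 1 * (B : Matrix (Fin 2) (Fin 2) F) 1 0 -
      (A : Matrix (Fin 2) (Fin 2) F) 1 0 * (B : Matrix (Fin 2) (Fin 2) F) 1 1) * u +
    ((A * B : Matrix.SpecialLinearGroup (Fin 2) F) : Matrix (Fin 2) (Fin 2) F).trace := by
  rw [uT_inv]
  simp only [Matrix.SpecialLinearGroup.coe_mul, uT_coe, Matrix.trace_fin_two, Matrix.mul_apply,
    Fin.sum_univ_two, Matrix.of_apply, Matrix.cons_val', Matrix.cons_val_zero, Matrix.cons_val_one,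
    Matrix.empty_val', Matrix.cons_val_fin_one]
  ring

end Helpers

/-- The Arad–Herzog conjecture for PSL(2,q): let F be a finite field with q ≥ 4 elements. For any two non-identity elements a, b of PSL(2,F), the set of products of a conjugate of a with a conjugate of b is not a single conjugacy class. -/
theorem result {F : Type*} [Field F] [Fintype F] (h4 : 4 ≤ Fintype.card F)
    (a b : Matrix.ProjectiveSpecialLinearGroup (Fin 2) F) (ha : a ≠ 1) (hb : b ≠ 1) (c : Matrix.ProjectiveSpecialLinearGroup (Fin 2) F) :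
    {g : Matrix.ProjectiveSpecialLinearGroup (Fin 2) F | ∃ u v : Matrix.ProjectiveSpecialLinearGroup (Fin 2) F, g = (u * a * u⁻¹) * (v * b * v⁻¹)} ≠ {g | IsConj c g} := by
  intro hS
  obtain ⟨A₀, rfl⟩ := QuotientGroup.mk_surjective a
  obtain ⟨B₀, rfl⟩ := QuotientGroup.mk_surjective b
  have hA₀ : ∀ c : F, (A₀ : Matrix (Fin 2) (Fin 2) F) ≠ c • (1 : Matrix (Fin 2) (Fin 2) F) :=
    fun c hc => ha (mk_eq_one_of_scalar A₀ c hc)
  have hB₀ : ∀ c : F, (B₀ : Matrix (Fin 2) (Fin 2) F) ≠ c • (1 : Matrix (Fin 2) (Fin 2) F) :=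
    fun c hc => hb (mk_eq_one_of_scalar B₀ c hc)
  obtain ⟨P, A, hPA, hA10⟩ := exists_conj_entry_ne_zero A₀ hA₀
  obtain ⟨Q, B, hQB, hB10⟩ := exists_conj_entry_ne_zero B₀ hB₀
  have hA : A = P * A₀ * P⁻¹ := by rw [hPA]; group
  have hB : B = Q * B₀ * Q⁻¹ := by rw [hQB]; group
  have hmem : ∀ u : F, IsConj c
      (QuotientGroup.mk (uT u * A * (uT u)⁻¹ * B) : Matrix.ProjectiveSpecialLinearGroup (Fin 2) F) := by
    intro u
    have h1 : (QuotientGroup.mk (uT u * A * (uT u)⁻¹ * B) :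
        Matrix.ProjectiveSpecialLinearGroup (Fin 2) F) ∈
        {g : Matrix.ProjectiveSpecialLinearGroup (Fin 2) F | ∃ u v : Matrix.ProjectiveSpecialLinearGroup (Fin 2) F,
          g = (u * (QuotientGroup.mk A₀) * u⁻¹) * (v * (QuotientGroup.mk B₀) * v⁻¹)} := by
      refine ⟨QuotientGroup.mk (uT u * P), QuotientGroup.mk Q, ?_⟩
      have h2 : uT u * A * (uT u)⁻¹ * B =
          (uT u * P) * A₀ * (uT u * P)⁻¹ * (Q * B₀ * Q⁻¹) := by
        rw [hA, hB]
        group
      rw [h2]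
      rfl
    rw [hS] at h1
    exact h1
  have hsq : ∀ u : F,
      ((uT u * A * (uT u)⁻¹ * B : Matrix.SpecialLinearGroup (Fin 2) F) :
        Matrix (Fin 2) (Fin 2) F).trace ^ 2 =
      ((A * B : Matrix.SpecialLinearGroup (Fin 2) F) : Matrix (Fin 2) (Fin 2) F).trace ^ 2 := by
    intro u
    have h0 := hmem 0
    have hu := hmem u
    have h00 : (uT (0 : F) * A * (uT (0 : F))⁻¹ * B) = A * B := by
      have : uT (0 : F) = 1 := by
        apply Subtype.ext
        rw [uT_coe, Matrix.SpecialLinearGroup.coe_one, Matrix.one_fin_two]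
      rw [this]
      group
    rw [h00] at h0
    exact (trace_sq_eq_of_isConj _ _ (h0.symm.trans hu)).symm
  apply no_const_sq h4
    (-((A : Matrix (Fin 2) (Fin 2) F) 1 0 * (B : Matrix (Fin 2) (Fin 2) F) 1 0))
    ((A : Matrix (Fin 2) (Fin 2) F) 1 0 * (B : Matrix (Fin 2) (Fin 2) F) 0 0 -
      (A : Matrix (Fin 2) (Fin 2) F) 0 0 * (B : Matrix (Fin 2) (Fin 2) F) 1 0 +
      (A : Matrix (Fin 2) (Fin 2) F) 1 1 * (B : Matrix (Fin 2) (Fin 2) F) 1 0 -
      (A : Matrix (Fin 2) (Fin 2) F) 1 0 * (B : Matrix (Fin 2) (Fin 2) F) 1 1)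
    (((A * B : Matrix.SpecialLinearGroup (Fin 2) F) : Matrix (Fin 2) (Fin 2) F).trace)
    (neg_ne_zero.mpr (mul_ne_zero hA10 hB10))
  intro u
  rw [← trace_formula A B u]
  exact hsq u

end Cfsg.Agent.S2450
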