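import Cfsg.Statements.S2456

import Cfsg.Agent.Lib.helper15.SL2Conj
set_option autoImplicit false
open Cfsg

namespace Cfsg.Agent.S2456


open Cfsg.Agent.Lib.helper15

section Helpers

variable {F : Type*} [Field F] [Fintype F]

theorem mk_eq_one_of_scalar (g : Matrix.SpecialLinearGroup (Fin 2) F) (c : F)
    (hc : (g : Matrix (Fin 2) (Fin 2) F) = c • (1 : Matrix (Fin 2) (Fin 2) F)) :
    (QuotientGroup.mk g : Matrix.ProjectiveSpecialLinearGroup (Fin 2) F) = 1 := by
  have hdet : (g : Matrix (Fin 2) (Fin 2) F).det = 1 := g.2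
  rw [hc, Matrix.det_smul, Matrix.det_one, Fintype.card_fin, mul_one] at hdet
  rw [QuotientGroup.eq_one_iff, Matrix.SpecialLinearGroup.mem_center_iff]
  refine ⟨c, by rw [Fintype.card_fin]; exact hdet, ?_⟩
  rw [hc, Matrix.scalar_apply, Matrix.smul_one_eq_diagonal]

theorem pow_card_succ_of_nonsplit [CharP F 2] (X : Matrix.SpecialLinearGroup (Fin 2) F)
    (hX : ∀ c : F, (X : Matrix (Fin 2) (Fin 2) F) ≠ c • (1 : Matrix (Fin 2) (Fin 2) F))
    (hns : ∀ l : F, l ^ 2 - (X : Matrix (Fin 2) (Fin 2) F).trace * l + 1 ≠ 0) :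
    X ^ (Fintype.card F + 1) = 1 := by
  have hcard : Nat.card (Subgroup.centralizer ({X} : Set (Matrix.SpecialLinearGroup (Fin 2) F))) =
      Fintype.card F + 1 := by
    rw [card_centralizer_eq X hX, card_normSet_nonsplit _ hns]
  have hmem : X ∈ Subgroup.centralizer ({X} : Set (Matrix.SpecialLinearGroup (Fin 2) F)) := by
    rw [Subgroup.mem_centralizer_singleton_iff]
  have h1 : (⟨X, hmem⟩ : Subgroup.centralizer ({X} : Set (Matrix.SpecialLinearGroup (Fin 2) F))) ^
      (Fintype.card F + 1) = 1 := by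
    rw [← hcard]
    exact pow_card_eq_one'
  have h2 := congrArg Subtype.val h1
  simpa using h2

theorem exists_root_of_order [CharP F 2] (X : Matrix.SpecialLinearGroup (Fin 2) F)
    (hx2 : 2 < orderOf (QuotientGroup.mk X : Matrix.ProjectiveSpecialLinearGroup (Fin 2) F))
    (hxq : ¬ orderOf (QuotientGroup.mk X : Matrix.ProjectiveSpecialLinearGroup (Fin 2) F) ∣
      Fintype.card F + 1) :
    (∀ c : F, (X : Matrix (Fin 2) (Fin 2) F) ≠ c • (1 : Matrix (Fin 2) (Fin 2) F)) ∧
    (X : Matrix (Fin 2) (Fin 2) F).trace ≠ 0 ∧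
    ∃ l : F, l ^ 2 - (X : Matrix (Fin 2) (Fin 2) F).trace * l + 1 = 0 := by
  have hX : ∀ c : F, (X : Matrix (Fin 2) (Fin 2) F) ≠ c • (1 : Matrix (Fin 2) (Fin 2) F) := by
    intro c hc
    rw [mk_eq_one_of_scalar X c hc, orderOf_one] at hx2
    omega
  refine ⟨hX, ?_, ?_⟩
  · intro ht
    have hsq := m2_sq (X : Matrix (Fin 2) (Fin 2) F) X.2
    rw [ht, zero_smul, zero_sub] at hsq
    have h1 : X ^ 2 = 1 := by
      apply Subtype.ext
      rw [Matrix.SpecialLinearGroup.coe_pow, pow_two, hsq, Matrix.SpecialLinearGroup.coe_one,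
        CharTwo.neg_eq]
    have h2 : (QuotientGroup.mk X : Matrix.ProjectiveSpecialLinearGroup (Fin 2) F) ^ 2 = 1 := by
      rw [← QuotientGroup.mk_pow, h1]
      rfl
    have := Nat.le_of_dvd (by norm_num) (orderOf_dvd_of_pow_eq_one h2)
    omega
  · by_contra hns
    push Not at hns
    apply hxq
    apply orderOf_dvd_of_pow_eq_one
    rw [← QuotientGroup.mk_pow, pow_card_succ_of_nonsplit X hX hns]
    rfl

theorem factor_companion (t s l : F) (hl : l ^ 2 - t * l + 1 = 0) (ht : t ≠ 0) (h2 : (2 : F) = 0) :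
    ∃ A B : Matrix.SpecialLinearGroup (Fin 2) F,
      (∀ c : F, (A : Matrix (Fin 2) (Fin 2) F) ≠ c • (1 : Matrix (Fin 2) (Fin 2) F)) ∧
      (∀ c : F, (B : Matrix (Fin 2) (Fin 2) F) ≠ c • (1 : Matrix (Fin 2) (Fin 2) F)) ∧
      (A : Matrix (Fin 2) (Fin 2) F).trace = t ∧ (B : Matrix (Fin 2) (Fin 2) F).trace = t ∧
      A * B = compSL s := by
  have hl0 : l ≠ 0 := by
    rintro rfl
    simp at hl
  have hli : l * l⁻¹ = 1 := mul_inv_cancel₀ hl0
  have hsum : l + l⁻¹ = t := by
    have : l * (l + l⁻¹) = l * t := by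
      rw [mul_add, hli]
      linear_combination hl
    exact mul_left_cancel₀ hl0 this
  have hdA : (!![l, 0; t - l * s, l⁻¹] : Matrix (Fin 2) (Fin 2) F).det = 1 := by
    rw [Matrix.det_fin_two_of]
    linear_combination hli
  have hdB : (!![0, -l⁻¹; l, t] : Matrix (Fin 2) (Fin 2) F).det = 1 := by
    rw [Matrix.det_fin_two_of]
    linear_combination hli
  refine ⟨mkSL _ hdA, mkSL _ hdB, ?_, ?_, ?_, ?_, ?_⟩
  · intro c hc
    rw [mkSL_coe] at hc
    have h00 := congrFun (congrFun hc 0) 0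
    have h11 := congrFun (congrFun hc 1) 1
    simp at h00 h11
    have hll : l = l⁻¹ := h00.trans h11.symm
    apply ht
    rw [← hsum, ← hll]
    linear_combination l * h2
  · intro c hc
    rw [mkSL_coe] at hc
    have h10 := congrFun (congrFun hc 1) 0
    simp at h10
    exact hl0 h10
  · rw [mkSL_coe, Matrix.trace_fin_two]
    simpa using hsum
  · rw [mkSL_coe, Matrix.trace_fin_two]
    simp
  · apply Subtype.ext
    rw [Matrix.SpecialLinearGroup.coe_mul, mkSL_coe, mkSL_coe, compSL_coe, m2_eq_iff]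
    simp only [Matrix.mul_apply, Fin.sum_univ_two, Matrix.of_apply,
      Matrix.cons_val', Matrix.cons_val_zero, Matrix.cons_val_one, Matrix.empty_val',
      Matrix.cons_val_fin_one]
    refine ⟨by ring, ?_, ?_, ?_⟩
    · linear_combination (-1 : F) * hli
    · linear_combination hli
    · linear_combination s * hli

end Helpers

/-- A strong covering result in the direction of Thompson's conjecture (non-identity elements) for PSL(2,q), q even: let F be a finite field of characteristic 2 with q ≥ 4 elements and let x ∈ PSL(2,F) have order greater than 2 and not dividing q + 1. Then every non-identity element of PSL(2,F) is a product of two conjugates of x. -/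
theorem result {F : Type*} [Field F] [Fintype F] [CharP F 2] (h4 : 4 ≤ Fintype.card F)
    (x : Matrix.ProjectiveSpecialLinearGroup (Fin 2) F) (hx2 : 2 < orderOf x) (hxq : ¬ orderOf x ∣ Fintype.card F + 1) : ∀ g : Matrix.ProjectiveSpecialLinearGroup (Fin 2) F, g ≠ 1 → ∃ u v : Matrix.ProjectiveSpecialLinearGroup (Fin 2) F, g = (u * x * u⁻¹) * (v * x * v⁻¹) := by
  intro g hg
  obtain ⟨X, rfl⟩ := QuotientGroup.mk_surjective x
  obtain ⟨G, rfl⟩ := QuotientGroup.mk_surjective g
  obtain ⟨hX, ht, l, hl⟩ := exists_root_of_order X hx2 hxq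
  have hG : ∀ c : F, (G : Matrix (Fin 2) (Fin 2) F) ≠ c • (1 : Matrix (Fin 2) (Fin 2) F) := by
    intro c hc
    exact hg (mk_eq_one_of_scalar G c hc)
  have huniv : ∀ t : F, ∀ n : F, n ≠ 0 → ∃ y : F × F, nrm t y = n :=
    fun t n _ => nrm_universal_char2 t n
  obtain ⟨P, hP⟩ := conj_companion G hG (huniv _)
  obtain ⟨A, B, hA, hB, htA, htB, hAB⟩ := factor_companion
    (X : Matrix (Fin 2) (Fin 2) F).trace (G : Matrix (Fin 2) (Fin 2) F).trace l hl ht
    CharTwo.two_eq_zero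
  obtain ⟨U, hU⟩ := conj_of_trace_eq X A hX hA htA.symm (huniv _)
  obtain ⟨V, hV⟩ := conj_of_trace_eq X B hX hB htB.symm (huniv _)
  refine ⟨QuotientGroup.mk (P⁻¹ * U), QuotientGroup.mk (P⁻¹ * V), ?_⟩
  have hGeq : G = (P⁻¹ * U) * X * (P⁻¹ * U)⁻¹ * ((P⁻¹ * V) * X * (P⁻¹ * V)⁻¹) := by
    have h1 : (P⁻¹ * U) * X * (P⁻¹ * U)⁻¹ * ((P⁻¹ * V) * X * (P⁻¹ * V)⁻¹) =
        P⁻¹ * ((U * X * U⁻¹) * (V * X * V⁻¹)) * P := by group
    rw [h1, hU, hV, hAB, ← hP]
    group
  conv_lhs => rw [hGeq]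
  rfl

end Cfsg.Agent.S2456
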