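import Cfsg.Statements.S2459

import Cfsg.Agent.Lib.helper15.LU3Q
set_option autoImplicit false
open Cfsg

namespace Cfsg.Agent.S2459


open Matrix Cfsg.Agent.Lib.helper15.LU3

theorem sl_lift {F : Type*} [Field F] (P P' : Matrix (Fin 3) (Fin 3) F) (hP : P.det = 1)
    (hPP : P * P' = 1) :
    ∃ Pt : Matrix.SpecialLinearGroup (Fin 3) F, Pt.val = P ∧ (Pt⁻¹).val = P' := by
  have hP' : P'.det = 1 := by
    have := congrArg Matrix.det hPP
    rw [Matrix.det_mul, hP, one_mul, Matrix.det_one] at this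
    exact this
  let Pt : Matrix.SpecialLinearGroup (Fin 3) F := ⟨P, hP⟩
  let Pt' : Matrix.SpecialLinearGroup (Fin 3) F := ⟨P', hP'⟩
  have h : Pt' = Pt⁻¹ := by
    apply eq_inv_of_mul_eq_one_right
    apply Subtype.ext
    exact hPP
  exact ⟨Pt, rfl, by rw [← h]⟩

def mkSL {F : Type*} [Field F] (D : Matrix (Fin 3) (Fin 3) F) (hD : D.det = 1) :
    Matrix.SpecialLinearGroup (Fin 3) F := ⟨D, hD⟩

theorem psl_of_matrix {F : Type*} [Field F] (D : Matrix (Fin 3) (Fin 3) F) (hD : D.det = 1)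
    (H : ∀ g : Matrix (Fin 3) (Fin 3) F, g.det = 1 → (∀ r : F, Matrix.scalar (Fin 3) r ≠ g) →
      ∃ P P' Q Q' : Matrix (Fin 3) (Fin 3) F, P.det = 1 ∧ P * P' = 1 ∧ Q.det = 1 ∧ Q * Q' = 1 ∧
        g = P * D * P' * (Q * D * Q'))
    (g : Matrix.ProjectiveSpecialLinearGroup (Fin 3) F) (hg : g ≠ 1) :
    ∃ u v : Matrix.ProjectiveSpecialLinearGroup (Fin 3) F,
      g = (u * (QuotientGroup.mk (mkSL D hD)) * u⁻¹) * (v * (QuotientGroup.mk (mkSL D hD)) * v⁻¹) := by
  obtain ⟨gt, rfl⟩ := QuotientGroup.mk_surjective g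
  have hns : ∀ r : F, Matrix.scalar (Fin 3) r ≠ gt.val := by
    intro r hr
    apply hg
    rw [QuotientGroup.eq_one_iff, Matrix.SpecialLinearGroup.mem_center_iff]
    refine ⟨r, ?_, hr⟩
    have := gt.property
    rw [← hr] at this
    simpa using this
  obtain ⟨P, P', Q, Q', hP, hPP, hQ, hQQ, hgPQ⟩ := H gt.val gt.property hns
  obtain ⟨Pt, hPt, hPt'⟩ := sl_lift P P' hP hPP
  obtain ⟨Qt, hQt, hQt'⟩ := sl_lift Q Q' hQ hQQ
  have e3 : gt = (Pt * mkSL D hD * Pt⁻¹) * (Qt * mkSL D hD * Qt⁻¹) := by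
    apply Subtype.ext
    show gt.val = (Pt.val * D * (Pt⁻¹).val) * (Qt.val * D * (Qt⁻¹).val)
    rw [hPt, hPt', hQt, hQt']
    exact hgPQ
  refine ⟨QuotientGroup.mk Pt, QuotientGroup.mk Qt, ?_⟩
  conv_lhs => rw [e3]
  rfl

theorem not_dvd_order {F : Type*} [Field F] [Fintype F] (p : ℕ) [Fact p.Prime]
    (xt : Matrix.SpecialLinearGroup (Fin 3) F) (n : ℕ) (hx : xt ^ n = 1) (hn : ¬ p ∣ n) :
    ¬ p ∣ orderOf (QuotientGroup.mk xt : Matrix.ProjectiveSpecialLinearGroup (Fin 3) F) := by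
  intro h
  apply hn
  refine dvd_trans h (orderOf_dvd_of_pow_eq_one ?_)
  rw [← QuotientGroup.mk_pow, hx]
  rfl

theorem dmat_pow {F : Type*} [Field F] [Fintype F] (t : F) (ht : t ≠ 0) :
    (dmat t) ^ (Fintype.card F - 1) = 1 := by
  have hd : dmat t = Matrix.diagonal ![1, t, t⁻¹] := by
    ext i j
    fin_cases i <;> fin_cases j <;> simp [dmat]
  have hpow : t ^ (Fintype.card F - 1) = 1 := FiniteField.pow_card_sub_one_eq_one t ht
  rw [hd, Matrix.diagonal_pow]
  ext i j
  fin_cases i <;> fin_cases j <;> simp [Matrix.one_apply, hpow, inv_pow]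

theorem x0_pow : x0 ^ 4 = 1 := by
  have h2 : x0 * x0 = Matrix.of ![![2, 0, 0], ![0, 1, 0], ![0, 0, 2]] := by
    rw [mul3_eq]
    decide
  have h4 : (Matrix.of ![![2, 0, 0], ![0, 1, 0], ![0, 0, 2]] : Matrix (Fin 3) (Fin 3) (ZMod 3)) *
      Matrix.of ![![2, 0, 0], ![0, 1, 0], ![0, 0, 2]] = 1 := by
    rw [mul3_eq]
    decide
  rw [show (4 : ℕ) = 2 + 2 from rfl, pow_add, pow_two, h2, h4]

theorem exists_t {F : Type*} [Field F] [Fintype F] (h4 : 4 ≤ Fintype.card F) :
    ∃ t : F, t ≠ 0 ∧ t ≠ 1 ∧ t ^ 2 ≠ 1 := by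
  classical
  have hlt : ({0, 1, -1} : Finset F).card < (Finset.univ : Finset F).card := by
    rw [Finset.card_univ]
    exact lt_of_le_of_lt Finset.card_le_three (by omega)
  obtain ⟨t, -, ht⟩ := Finset.exists_mem_notMem_of_card_lt_card hlt
  simp only [Finset.mem_insert, Finset.mem_singleton, not_or] at ht
  refine ⟨t, ht.1, ht.2.1, ?_⟩
  intro h
  have : (t - 1) * (t + 1) = 0 := by linear_combination h
  rcases mul_eq_zero.mp this with h1 | h1
  · exact ht.2.1 (by linear_combination h1)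
  · exact ht.2.2 (by linear_combination h1)

/-- A form of Thompson's conjecture for PSL(3,q), q > 2 (covering the non-identity elements), with a semisimple class: for F a finite field of characteristic p with more than 2 elements there is an element x of PSL(3,F) of order prime to p such that every non-identity element of PSL(3,F) is a product of two conjugates of x. -/
theorem result {F : Type*} [Field F] [Fintype F] (p : ℕ) [Fact p.Prime] [CharP F p] (h3 : 3 ≤ Fintype.card F) :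
    ∃ x : Matrix.ProjectiveSpecialLinearGroup (Fin 3) F, ¬ p ∣ orderOf x ∧ ∀ g : Matrix.ProjectiveSpecialLinearGroup (Fin 3) F, g ≠ 1 → ∃ u v : Matrix.ProjectiveSpecialLinearGroup (Fin 3) F, g = (u * x * u⁻¹) * (v * x * v⁻¹) := by
  have hpq : p ∣ Fintype.card F := (CharP.cast_eq_zero_iff F p (Fintype.card F)).mp (Nat.cast_card_eq_zero F)
  by_cases hc3 : Fintype.card F = 3
  · have hp3 : p = 3 := by
      rw [hc3] at hpq
      exact (Nat.prime_dvd_prime_iff_eq (Fact.out : p.Prime) Nat.prime_three).mp hpq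
    let e : ZMod 3 ≃+* F := ZMod.ringEquivOfPrime F Nat.prime_three hc3
    let φ : Matrix (Fin 3) (Fin 3) (ZMod 3) →+* Matrix (Fin 3) (Fin 3) F := (e : ZMod 3 →+* F).mapMatrix
    let ψ : Matrix (Fin 3) (Fin 3) F →+* Matrix (Fin 3) (Fin 3) (ZMod 3) := (e.symm : F →+* ZMod 3).mapMatrix
    have hφψ : ∀ g, φ (ψ g) = g := by
      intro g
      ext i j
      simp [φ, ψ, RingHom.mapMatrix_apply]
    have hdetφ : ∀ A, (φ A).det = e A.det := fun A => ((e : ZMod 3 →+* F).map_det A).symm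
    have hdetψ : ∀ A, (ψ A).det = e.symm A.det := fun A => ((e.symm : F →+* ZMod 3).map_det A).symm
    have hD : (φ x0).det = 1 := by rw [hdetφ, det_x0, map_one]
    refine ⟨QuotientGroup.mk (mkSL (φ x0) hD), ?_, psl_of_matrix (φ x0) hD ?_⟩
    · apply not_dvd_order p _ 4
      · apply Subtype.ext
        rw [Matrix.SpecialLinearGroup.coe_pow]
        show (φ x0) ^ 4 = 1
        rw [← map_pow, x0_pow, map_one]
      · rw [hp3]; decide
    · intro g hg hns
      have hg' : (ψ g).det = 1 := by rw [hdetψ, hg, map_one]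
      have hne : ψ g ≠ 1 := by
        intro h
        apply hns 1
        rw [← hφψ g, h, map_one]
        simp
      obtain ⟨P, P', Q, Q', hP, hPP, hQ, hQQ, hgPQ⟩ := main_q3 (ψ g) hg' hne
      refine ⟨φ P, φ P', φ Q, φ Q', by rw [hdetφ, hP, map_one], by rw [← map_mul, hPP, map_one],
        by rw [hdetφ, hQ, map_one], by rw [← map_mul, hQQ, map_one], ?_⟩
      rw [← hφψ g, hgPQ]
      simp only [map_mul]
  · have h4 : 4 ≤ Fintype.card F := by omega
    obtain ⟨t, ht, ht1, ht2⟩ := exists_t h4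
    refine ⟨QuotientGroup.mk (mkSL (dmat t) (det_dmat ht)), ?_,
      psl_of_matrix (dmat t) (det_dmat ht) (fun g hg hns => main_split t ht ht1 ht2 g hg hns)⟩
    apply not_dvd_order p _ (Fintype.card F - 1)
    · apply Subtype.ext
      rw [Matrix.SpecialLinearGroup.coe_pow]
      exact dmat_pow t ht
    · intro h
      have : p ∣ 1 := by
        have h5 := Nat.dvd_sub hpq h
        rwa [Nat.sub_sub_self (by omega)] at h5
      exact (Fact.out : p.Prime).one_lt.ne' (Nat.dvd_one.mp this)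

end Cfsg.Agent.S2459
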