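import Cfsg.Statements.S2467

import Mathlib
set_option autoImplicit false
open Cfsg

namespace Cfsg.Agent.S2467


theorem prime_dvd_multiset_lcm {p : ℕ} (hp : p.Prime) (m : Multiset ℕ) (h : p ∣ m.lcm) :
    ∃ a ∈ m, p ∣ a := by
  induction m using Multiset.induction_on with
  | empty =>
    simp at h
    exact absurd h hp.one_lt.ne'
  | cons a s ih =>
    rw [Multiset.lcm_cons] at h
    have h' : p ∣ Nat.lcm a s.lcm := h
    have h2 : p ∣ a * s.lcm := dvd_trans h' (Nat.lcm_dvd_mul _ _)
    rcases (Nat.Prime.dvd_mul hp).mp h2 with h3 | h3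
    · exact ⟨a, Multiset.mem_cons_self a s, h3⟩
    · obtain ⟨b, hb, hpb⟩ := ih h3
      exact ⟨b, Multiset.mem_cons_of_mem hb, hpb⟩

/-- Adjacency of 2 and an odd prime in the prime graph of the alternating groups: let r be an odd prime at most n, with n ≥ 4. The alternating group of degree n has an element of order 2r if and only if r + 4 ≤ n. -/
theorem result (n r : ℕ) (hn : 4 ≤ n) (hr : r.Prime) (hr2 : r ≠ 2) (hrn : r ≤ n) :
    (2 * r ∈ Set.range (orderOf : alternatingGroup (Fin n) → ℕ)) ↔ r + 4 ≤ n := by
  have hr3 : 3 ≤ r := by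
    have := hr.two_le
    omega
  have hro : Odd r := hr.odd_of_ne_two hr2
  constructor
  · rintro ⟨x, hx⟩
    have hx' : orderOf (x : Equiv.Perm (Fin n)) = 2 * r := by
      rw [Subgroup.orderOf_coe]; exact hx
    set σ : Equiv.Perm (Fin n) := (x : Equiv.Perm (Fin n)) with hσ
    have hsign : Equiv.Perm.sign σ = 1 := Equiv.Perm.mem_alternatingGroup.mp x.2
    rw [Equiv.Perm.sign_of_cycleType, neg_one_pow_eq_one_iff_even (by decide)] at hsign
    have hlcm : σ.cycleType.lcm = 2 * r := by rw [Equiv.Perm.lcm_cycleType]; exact hx'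
    obtain ⟨a, ha, hra⟩ := prime_dvd_multiset_lcm hr _ (hlcm ▸ Dvd.intro_left _ rfl)
    obtain ⟨b, hb, h2b⟩ := prime_dvd_multiset_lcm Nat.prime_two _ (hlcm ▸ Dvd.intro _ rfl)
    have hsum : σ.cycleType.sum ≤ n := by
      simpa using Equiv.Perm.sum_cycleType_le σ
    have hmem : ∀ c ∈ σ.cycleType, c ∈ ({2, r, 2 * r} : Finset ℕ) := by
      intro c hc
      have h2 : 2 ≤ c := Equiv.Perm.two_le_of_mem_cycleType hc
      have hd : c ∣ 2 * r := hx' ▸ Equiv.Perm.dvd_of_mem_cycleType hc
      have : c ∈ (2 * r).divisors := Nat.mem_divisors.mpr ⟨hd, by omega⟩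
      rw [Nat.divisors_mul, Nat.Prime.divisors Nat.prime_two, Nat.Prime.divisors hr] at this
      simp only [Finset.mem_mul, Finset.mem_insert, Finset.mem_singleton] at this
      obtain ⟨y, hy, z, hz, rfl⟩ := this
      simp only [Finset.mem_insert, Finset.mem_singleton]
      rcases hy with rfl | rfl <;> rcases hz with rfl | rfl <;> simp at h2 ⊢
    have hsub : σ.cycleType.toFinset ⊆ ({2, r, 2 * r} : Finset ℕ) := by
      intro c hc
      exact hmem c (Multiset.mem_toFinset.mp hc)
    have hS := Finset.sum_multiset_count_of_subset σ.cycleType _ hsub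
    have hC := Multiset.sum_count_eq_card hmem
    have hne1 : (2 : ℕ) ≠ r := by omega
    have hne2 : (2 : ℕ) ≠ 2 * r := by omega
    have hne3 : r ≠ 2 * r := by omega
    rw [Finset.sum_insert (by simp [hne1, hne2]), Finset.sum_insert (by simp [hne3]),
      Finset.sum_singleton] at hS hC
    simp only [smul_eq_mul] at hS
    set c2 := σ.cycleType.count 2
    set cr := σ.cycleType.count r
    set c2r := σ.cycleType.count (2 * r)
    rw [hS, ← hC] at hsign
    rw [hS] at hsum
    have hpar : Even (c2 + c2r) := by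
      obtain ⟨t, ht⟩ := hro
      have : c2 * 2 + (cr * r + c2r * (2 * r)) + (c2 + (cr + c2r)) = (c2 + c2r) + 2 * (c2 + cr * (t + 1) + c2r * r) := by
        subst ht; ring
      rw [this] at hsign
      have h2 : Even (2 * (c2 + cr * (t + 1) + c2r * r)) := even_two_mul _
      exact (Nat.even_add.mp hsign).mpr h2
    have hb' : b = 2 ∨ b = 2 * r := by
      have := hmem b hb
      simp only [Finset.mem_insert, Finset.mem_singleton] at this
      rcases this with h | h | h
      · exact Or.inl h
      · exfalso
        subst h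
        exact (Nat.not_even_iff_odd.mpr hro) (even_iff_two_dvd.mpr h2b)
      · exact Or.inr h
    have ha' : a = r ∨ a = 2 * r := by
      have := hmem a ha
      simp only [Finset.mem_insert, Finset.mem_singleton] at this
      rcases this with h | h | h
      · exfalso
        subst h
        have := Nat.le_of_dvd (by norm_num) hra
        omega
      · exact Or.inl h
      · exact Or.inr h
    have hb1 : 1 ≤ c2 + c2r := by
      rcases hb' with h | h
      · have : 0 < c2 := Multiset.count_pos.mpr (h ▸ hb)
        omega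
      · have : 0 < c2r := Multiset.count_pos.mpr (h ▸ hb)
        omega
    have ha1 : 1 ≤ cr + c2r := by
      rcases ha' with h | h
      · have : 0 < cr := Multiset.count_pos.mpr (h ▸ ha)
        omega
      · have : 0 < c2r := Multiset.count_pos.mpr (h ▸ ha)
        omega
    obtain ⟨t, ht⟩ := hpar
    have h2le : 2 ≤ c2 + c2r := by omega
    rcases Nat.eq_zero_or_pos c2r with h0 | hpos
    · rw [h0] at hsum h2le ha1
      have : cr * r ≥ r := Nat.le_mul_of_pos_left r (by omega)
      nlinarith
    · have h1 : c2r * (2 * r) ≥ 2 * r := Nat.le_mul_of_pos_left (2 * r) hpos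
      by_cases hc : 2 ≤ c2r
      · have : c2r * (2 * r) ≥ 2 * (2 * r) := Nat.mul_le_mul_right (2 * r) hc
        nlinarith
      · have : c2r = 1 := by omega
        have : 1 ≤ c2 := by omega
        nlinarith
  · intro h
    obtain ⟨g, hg⟩ := (Equiv.Perm.exists_with_cycleType_iff (Fin n) (m := {r, 2, 2})).mpr (by
      constructor
      · simp; omega
      · intro a ha
        simp at ha
        rcases ha with rfl | rfl <;> omega)
    have hsign : Equiv.Perm.sign g = 1 := by
      rw [Equiv.Perm.sign_of_cycleType, hg]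
      have : Even (({r, 2, 2} : Multiset ℕ).sum + Multiset.card ({r, 2, 2} : Multiset ℕ)) := by
        simp
        obtain ⟨t, ht⟩ := hro
        exact ⟨t + 4, by omega⟩
      exact Even.neg_one_pow this
    refine ⟨⟨g, Equiv.Perm.mem_alternatingGroup.mpr hsign⟩, ?_⟩
    rw [← Subgroup.orderOf_coe]
    change orderOf g = 2 * r
    rw [← Equiv.Perm.lcm_cycleType, hg]
    simp
    have hcop : Nat.Coprime r 2 := (Nat.coprime_primes hr Nat.prime_two).mpr hr2
    change Nat.lcm r 2 = 2 * r
    rw [hcop.lcm_eq_mul, mul_comm]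

end Cfsg.Agent.S2467
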