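import Cfsg.Statements.S2470

import Cfsg.Agent.S2364
import Cfsg.Agent.S2475
set_option autoImplicit false
open Cfsg

namespace Cfsg.Agent.S2470


open scoped MatrixGroups
open Cfsg.Agent.Lib.helper15.SylowVal Cfsg.Agent.Lib.helper15.SylowEmb
open Cfsg.Agent.S2468 Cfsg.Agent.S2364

section big

variable {F : Type*} [Field F] [Fintype F]

omit [Fintype F] in
open scoped DualNumber in
lemma eps_pow (m : ℕ) : ((1 : DualNumber F) + DualNumber.eps) ^ m = 1 + (m : F) • DualNumber.eps := by
  induction m with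
  | zero => simp
  | succ m ih =>
    rw [pow_succ, ih]
    ext <;> simp [add_comm]

open scoped DualNumber in
theorem exists_SL_orderOf_unip (p : ℕ) [Fact p.Prime] [CharP F p] (n r k : ℕ) (hr : r.Prime)
    (hrp : r ≠ p) (hr1 : ¬ r ∣ Fintype.card F - 1) (hk0 : 0 < k)
    (hrk : r ∣ Fintype.card F ^ k - 1) (hkn : k + 2 ≤ n) :
    ∃ g : Matrix.SpecialLinearGroup (Fin n) F, orderOf g = r * p := by
  have hpp : p.Prime := Fact.out
  have hcop : Nat.Coprime p r := (Nat.coprime_primes hpp hr).2 (Ne.symm hrp)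
  have hp1 : ¬ p ∣ Fintype.card F - 1 := by
    intro h
    have hpq : p ∣ Fintype.card F := by
      obtain ⟨e, -, he⟩ := FiniteField.card F p
      rw [he]
      exact dvd_pow_self p e.pos.ne'
    have hq1 : 1 ≤ Fintype.card F := Fintype.card_pos
    have h6 : p ∣ Fintype.card F - (Fintype.card F - 1) := Nat.dvd_sub hpq h
    have h7 : Fintype.card F - (Fintype.card F - 1) = 1 := by omega
    rw [h7] at h6
    exact hpp.one_lt.ne' (Nat.dvd_one.1 h6)
  have hcop1 : (p * r).Coprime (Fintype.card F - 1) :=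
    Nat.Coprime.mul_left ((Nat.Prime.coprime_iff_not_dvd hpp).2 hp1)
      ((Nat.Prime.coprime_iff_not_dvd hr).2 hr1)
  have : NeZero k := ⟨hk0.ne'⟩
  let E := FiniteField.Extension F p k
  have hfin : Module.Finite F (DualNumber F) := inferInstanceAs (Module.Finite F (F × F))
  have hfr2 : Module.finrank F (DualNumber F) = 2 := by
    show Module.finrank F (F × F) = 2
    rw [Module.finrank_prod, Module.finrank_self]
  have hfr : Module.finrank F (DualNumber F × E) ≤ n := by
    rw [Module.finrank_prod, FiniteField.finrank_extension, hfr2]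
    omega
  obtain ⟨φ, hφ⟩ := exists_emb_alg (F := F) (DualNumber F × E) n hfr
  obtain ⟨a₂, ha₂⟩ := exists_unit_orderOf E r (by
    rw [Nat.card_units, FiniteField.natCard_extension, Nat.card_eq_fintype_card]
    exact hrk)
  have hmul : ((1 : DualNumber F) + DualNumber.eps) * (1 - DualNumber.eps) = 1 := by
    ext <;> simp
  have hmul' : (1 - DualNumber.eps) * ((1 : DualNumber F) + DualNumber.eps) = 1 := by
    ext <;> simp
  let a₁ : (DualNumber F)ˣ := ⟨1 + DualNumber.eps, 1 - DualNumber.eps, hmul, hmul'⟩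
  have ha₁ : orderOf a₁ = p := by
    apply orderOf_eq_prime
    · apply Units.ext
      show ((1 : DualNumber F) + DualNumber.eps) ^ p = 1
      rw [eps_pow, CharP.cast_eq_zero, zero_smul, add_zero]
    · intro h
      have h1 := congrArg (fun u : (DualNumber F)ˣ => ((u : DualNumber F)).snd) h
      simp [a₁] at h1
  have ha : orderOf ((MulEquiv.prodUnits (M := DualNumber F) (N := E)).symm (a₁, a₂)) = p * r := by
    rw [MulEquiv.orderOf_eq, Prod.orderOf, ha₁, ha₂]
    exact hcop.lcm_eq_mul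
  obtain ⟨g, hg⟩ := exists_SL_of_emb φ hφ _ (by rw [ha]; exact hcop1)
  exact ⟨g, by rw [hg, ha, mul_comm]⟩

end big

section td

variable {F : Type*} [Field F] {n : ℕ}

def dg (d : Fin n → Fˣ) (h : ∏ i, d i = 1) : Matrix.SpecialLinearGroup (Fin n) F :=
  ⟨Matrix.diagonal (fun i => ((d i : Fˣ) : F)), by
    rw [Matrix.det_diagonal, ← Units.coe_prod, h, Units.val_one]⟩

def tv (i j : Fin n) (hij : i ≠ j) : Matrix.SpecialLinearGroup (Fin n) F :=
  ⟨Matrix.transvection i j 1, Matrix.det_transvection_of_ne i j hij 1⟩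

lemma dg_pow (d : Fin n → Fˣ) (h : ∏ i, d i = 1) (m : ℕ) :
    ((dg d h ^ m : Matrix.SpecialLinearGroup (Fin n) F) : Matrix (Fin n) (Fin n) F) =
      Matrix.diagonal (fun i => ((d i : Fˣ) : F) ^ m) := by
  rw [Matrix.SpecialLinearGroup.coe_pow]
  show (Matrix.diagonal (fun i => ((d i : Fˣ) : F))) ^ m = _
  rw [Matrix.diagonal_pow]
  rfl

lemma tv_pow (i j : Fin n) (hij : i ≠ j) (m : ℕ) :
    ((tv (F := F) i j hij ^ m : Matrix.SpecialLinearGroup (Fin n) F) :
      Matrix (Fin n) (Fin n) F) = Matrix.transvection i j (m : F) := by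
  rw [Matrix.SpecialLinearGroup.coe_pow]
  show (Matrix.transvection i j (1 : F)) ^ m = _
  induction m with
  | zero => simp [Matrix.transvection]
  | succ m ih =>
    rw [pow_succ, ih, Matrix.transvection_mul_transvection_same i j hij]
    push_cast
    rfl

lemma dg_tv_commute (d : Fin n → Fˣ) (h : ∏ i, d i = 1) (i j : Fin n) (hij : i ≠ j)
    (hd : d i = d j) : Commute (dg d h) (tv (F := F) i j hij) := by
  apply Subtype.ext
  show Matrix.diagonal (fun i => ((d i : Fˣ) : F)) * Matrix.transvection i j (1 : F) =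
    Matrix.transvection i j (1 : F) * Matrix.diagonal (fun i => ((d i : Fˣ) : F))
  ext a b
  rw [Matrix.diagonal_mul, Matrix.mul_diagonal, Matrix.transvection, Matrix.add_apply,
    Matrix.one_apply, Matrix.single_apply]
  by_cases hab : a = b
  · subst hab
    ring
  · rw [if_neg hab, zero_add]
    by_cases h1 : i = a ∧ j = b
    · obtain ⟨rfl, rfl⟩ := h1
      rw [if_pos ⟨rfl, rfl⟩, hd]
      ring
    · rw [if_neg h1]
      ring

lemma mem_center_pow_iff (p : ℕ) [Fact p.Prime] [CharP F p] (d : Fin n → Fˣ) (h : ∏ i, d i = 1)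
    (i j : Fin n) (hij : i ≠ j) (hd : d i = d j) (m : ℕ) :
    (dg d h * tv (F := F) i j hij) ^ m ∈
        Subgroup.center (Matrix.SpecialLinearGroup (Fin n) F) ↔
      (p ∣ m ∧ ∀ a b, d a ^ m = d b ^ m) := by
  have hpow : (((dg d h * tv (F := F) i j hij) ^ m : Matrix.SpecialLinearGroup (Fin n) F) :
      Matrix (Fin n) (Fin n) F) =
      Matrix.diagonal (fun i => ((d i : Fˣ) : F) ^ m) * Matrix.transvection i j (m : F) := by
    rw [(dg_tv_commute d h i j hij hd).mul_pow, Matrix.SpecialLinearGroup.coe_mul, dg_pow, tv_pow]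
  rw [Matrix.SpecialLinearGroup.mem_center_iff]
  constructor
  · rintro ⟨c, hc, hsc⟩
    rw [hpow] at hsc
    have h1 := congrFun (congrFun hsc i) j
    rw [Matrix.scalar_apply, Matrix.diagonal_apply_ne _ hij, Matrix.diagonal_mul,
      Matrix.transvection, Matrix.add_apply, Matrix.one_apply_ne hij, zero_add,
      Matrix.single_apply, if_pos ⟨rfl, rfl⟩] at h1
    have h2 : ((m : ℕ) : F) = 0 := by
      rcases mul_eq_zero.1 h1.symm with h3 | h3
      · exact absurd h3 (pow_ne_zero _ (Units.ne_zero _))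
      · exact h3
    have hpm : p ∣ m := (CharP.cast_eq_zero_iff F p m).1 h2
    refine ⟨hpm, ?_⟩
    rw [h2, Matrix.transvection_zero, mul_one] at hsc
    have h4 : ∀ a, ((d a : Fˣ) : F) ^ m = c := by
      intro a
      have := congrFun (congrFun hsc a) a
      rw [Matrix.scalar_apply, Matrix.diagonal_apply_eq, Matrix.diagonal_apply_eq] at this
      exact this.symm
    intro a b
    apply Units.ext
    rw [Units.val_pow_eq_pow_val, Units.val_pow_eq_pow_val, h4, h4]
  · rintro ⟨hpm, hall⟩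
    have h2 : ((m : ℕ) : F) = 0 := (CharP.cast_eq_zero_iff F p m).2 hpm
    refine ⟨((d i : Fˣ) : F) ^ m, ?_, ?_⟩
    · rw [Fintype.card_fin]
      have h3 : (∏ a : Fin n, d a ^ m) = 1 := by
        rw [Finset.prod_pow, h, one_pow]
      have h4 : (∏ a : Fin n, d a ^ m) = (d i ^ m) ^ n := by
        rw [Finset.prod_congr rfl (fun a _ => hall a i), Finset.prod_const, Finset.card_univ,
          Fintype.card_fin]
      rw [h4] at h3
      have := congrArg Units.val h3
      simpa using this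
    · rw [hpow, h2, Matrix.transvection_zero, mul_one]
      ext a b
      rw [Matrix.scalar_apply]
      by_cases hab : a = b
      · subst hab
        rw [Matrix.diagonal_apply_eq, Matrix.diagonal_apply_eq]
        have := congrArg Units.val (hall i a)
        simpa using this
      · rw [Matrix.diagonal_apply_ne _ hab, Matrix.diagonal_apply_ne _ hab]

theorem orderOf_mk_dg_tv (p : ℕ) [Fact p.Prime] [CharP F p] (r : ℕ) (hr : r.Prime) (hrp : r ≠ p)
    (d : Fin n → Fˣ) (h : ∏ i, d i = 1)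
    (i j : Fin n) (hij : i ≠ j) (hd : d i = d j)
    (hall : ∀ m : ℕ, (∀ a b, d a ^ m = d b ^ m) ↔ r ∣ m) :
    orderOf (QuotientGroup.mk (dg d h * tv (F := F) i j hij) :
      Matrix.ProjectiveSpecialLinearGroup (Fin n) F) = r * p := by
  have hpp : p.Prime := Fact.out
  have hcop : Nat.Coprime r p := (Nat.coprime_primes hr hpp).2 hrp
  have hiff : ∀ m : ℕ, (QuotientGroup.mk (dg d h * tv (F := F) i j hij) :
      Matrix.ProjectiveSpecialLinearGroup (Fin n) F) ^ m = 1 ↔ (p ∣ m ∧ r ∣ m) := by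
    intro m
    rw [← QuotientGroup.mk_pow]
    show (QuotientGroup.mk ((dg d h * tv (F := F) i j hij) ^ m) :
      Matrix.SpecialLinearGroup (Fin n) F ⧸ Subgroup.center _) = 1 ↔ _
    rw [QuotientGroup.eq_one_iff, mem_center_pow_iff p d h i j hij hd m, hall m]
  apply Nat.dvd_antisymm
  · apply orderOf_dvd_of_pow_eq_one
    rw [hiff]
    exact ⟨dvd_mul_left _ _, dvd_mul_right _ _⟩
  · have h1 := (hiff _).1 (pow_orderOf_eq_one _)
    exact hcop.mul_dvd_of_dvd_of_dvd h1.2 h1.1

theorem exists_PSL_orderOf_ge4 (p : ℕ) [Fact p.Prime] [CharP F p] (r : ℕ) (hr : r.Prime)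
    (hrp : r ≠ p) (hn : 4 ≤ n) (a : Fˣ) (ha : orderOf a = r) :
    ∃ x : Matrix.ProjectiveSpecialLinearGroup (Fin n) F, orderOf x = r * p := by
  let i0 : Fin n := ⟨0, by omega⟩
  let i1 : Fin n := ⟨1, by omega⟩
  let i2 : Fin n := ⟨2, by omega⟩
  let i3 : Fin n := ⟨3, by omega⟩
  have h01 : i0 ≠ i1 := by simp [i0, i1, Fin.ext_iff]
  have h02 : i0 ≠ i2 := by simp [i0, i2, Fin.ext_iff]
  have h03 : i0 ≠ i3 := by simp [i0, i3, Fin.ext_iff]
  have h12 : i1 ≠ i2 := by simp [i1, i2, Fin.ext_iff]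
  have h13 : i1 ≠ i3 := by simp [i1, i3, Fin.ext_iff]
  have h23 : i2 ≠ i3 := by simp [i2, i3, Fin.ext_iff]
  let d : Fin n → Fˣ := fun t => Pi.mulSingle (M := fun _ : Fin n => Fˣ) i2 a t *
    Pi.mulSingle (M := fun _ : Fin n => Fˣ) i3 a⁻¹ t
  have hprod : ∏ t, d t = 1 := by
    rw [Finset.prod_mul_distrib, Finset.prod_pi_mulSingle', Finset.prod_pi_mulSingle',
      if_pos (Finset.mem_univ _), if_pos (Finset.mem_univ _), mul_inv_cancel]
  have hd0 : d i0 = 1 := by
    simp [d, Pi.mulSingle_apply, h02, h03]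
  have hd1 : d i1 = 1 := by
    simp [d, Pi.mulSingle_apply, h12, h13]
  have hd2 : d i2 = a := by
    simp [d, Pi.mulSingle_apply, h23]
  refine ⟨_, orderOf_mk_dg_tv p r hr hrp d hprod i0 i1 h01 (hd0.trans hd1.symm) ?_⟩
  intro m
  constructor
  · intro h
    have h1 := h i2 i0
    rw [hd2, hd0, one_pow] at h1
    rw [← ha]
    exact orderOf_dvd_of_pow_eq_one h1
  · intro h
    have h1 : a ^ m = 1 := by
      rw [← ha] at h
      exact orderOf_dvd_iff_pow_eq_one.1 h
    have h2 : ∀ t, d t ^ m = 1 := by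
      intro t
      simp only [d, Pi.mulSingle_apply]
      split_ifs <;> simp [h1]
    intro s t
    rw [h2, h2]

theorem exists_PSL_orderOf_three (p : ℕ) [Fact p.Prime] [CharP F p] (r : ℕ) (hr : r.Prime)
    (hrp : r ≠ p) (a : Fˣ) (ha : ∀ m : ℕ, a ^ (3 * m) = 1 ↔ r ∣ m) :
    ∃ x : Matrix.ProjectiveSpecialLinearGroup (Fin 3) F, orderOf x = r * p := by
  let d : Fin 3 → Fˣ := ![a, a, (a ^ 2)⁻¹]
  have hprod : ∏ t, d t = 1 := by
    rw [Fin.prod_univ_three]
    simp only [d, Matrix.cons_val_zero, Matrix.cons_val_one, Matrix.cons_val_two,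
      Matrix.head_cons, Matrix.tail_cons]
    rw [← pow_two, mul_inv_cancel]
  refine ⟨_, orderOf_mk_dg_tv p r hr hrp d hprod 0 1 (by decide) rfl ?_⟩
  intro m
  rw [← ha m]
  constructor
  · intro h
    have h1 := h 0 2
    simp only [d, Matrix.cons_val_zero, Matrix.cons_val_two, Matrix.head_cons,
      Matrix.tail_cons] at h1
    rw [inv_pow, eq_inv_iff_mul_eq_one, ← pow_mul, ← pow_add] at h1
    rw [← h1]
    congr 1
    ring
  · intro h
    have h1 : ((a ^ 2)⁻¹) ^ m = a ^ m := by
      rw [inv_pow, inv_eq_iff_eq_inv, eq_inv_iff_mul_eq_one, ← pow_mul, ← pow_add, ← h]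
      congr 1
      ring
    intro s t
    fin_cases s <;> fin_cases t <;>
      simp only [d, Fin.zero_eta, Fin.mk_one, Fin.reduceFinMk, Matrix.cons_val_zero,
        Matrix.cons_val_one, Matrix.cons_val_two, Matrix.head_cons, Matrix.tail_cons, h1] <;> rfl

end td

section exc

variable {F : Type*} [Field F] {V : Type*} [AddCommGroup V] [Module F V] [FiniteDimensional F V]

lemma line_eigen (y : Module.End F V) (W : Submodule F V) (hW : ∀ v ∈ W, y v ∈ W)
    (h1 : Module.finrank F W = 1) : ∃ v : V, v ≠ 0 ∧ v ∈ W ∧ (∀ w ∈ W, ∃ c : F, c • v = w) ∧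
      ∃ γ : F, y v = γ • v := by
  obtain ⟨v₀, hv₀, hall⟩ := finrank_eq_one_iff'.1 h1
  obtain ⟨γ, hγ⟩ := hall ⟨y v₀, hW _ v₀.2⟩
  refine ⟨v₀, fun h => hv₀ (Subtype.ext h), v₀.2, ?_, γ, ?_⟩
  · intro w hw
    obtain ⟨c, hc⟩ := hall ⟨w, hw⟩
    exact ⟨c, congrArg Subtype.val hc⟩
  · exact (congrArg Subtype.val hγ).symm

theorem rank_one_det (y : Module.End F V) (h1 : Module.finrank F (LinearMap.range (y - 1)) ≤ 1)
    (hdet : LinearMap.det y = 1) : ∀ v, (y - 1) ((y - 1) v) = 0 := by
  set W : Submodule F V := LinearMap.range (y - 1) with hWdef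
  have hW : W ≤ W.comap y := by
    rintro w ⟨u, rfl⟩
    refine ⟨y u, ?_⟩
    simp
  have hd := LinearMap.det_eq_det_mul_det W y hW
  have hQ : W.mapQ W y hW = LinearMap.id := by
    ext v
    simp only [LinearMap.coe_comp, Function.comp_apply, Submodule.mkQ_apply, Submodule.mapQ_apply,
      LinearMap.id_coe, id_eq]
    rw [Submodule.Quotient.eq]
    exact ⟨v, by simp⟩
  rw [hQ, LinearMap.det_id, mul_one, hdet] at hd
  have hfix : ∀ w ∈ W, y w = w := by
    rcases Nat.lt_or_ge (Module.finrank F W) 1 with h0 | h0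
    · have hbot : W = ⊥ := Submodule.finrank_eq_zero.1 (by omega)
      intro w hw
      rw [hbot, Submodule.mem_bot] at hw
      rw [hw, map_zero]
    · have h1' : Module.finrank F W = 1 := le_antisymm h1 h0
      obtain ⟨v₀, hv₀, -, hall, β, hβ⟩ := line_eigen y W (fun v hv => hW hv) h1'
      have hres : ∀ (h : ∀ x ∈ W, y x ∈ W), y.restrict h = β • LinearMap.id := by
        intro h
        ext w
        obtain ⟨c, hc⟩ := hall w w.2
        simp only [LinearMap.restrict_coe_apply, LinearMap.smul_apply, LinearMap.id_coe, id_eq,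
          Submodule.coe_smul]
        rw [← hc, map_smul, hβ, smul_comm]
      rw [hres, LinearMap.det_smul, LinearMap.det_id, mul_one, h1', pow_one] at hd
      intro w hw
      obtain ⟨c, hc⟩ := hall w hw
      rw [← hc, map_smul, hβ, ← hd, one_smul]
  intro v
  have : (y - 1) v ∈ W := ⟨v, rfl⟩
  have h2 := hfix _ this
  rw [LinearMap.sub_apply, h2]
  simp

end exc

section exc2

variable {F : Type*} [Field F] [Fintype F] {V : Type*} [AddCommGroup V] [Module F V] [Finite V]

theorem ex_scalar (hfr : Module.finrank F V = 3) (p : ℕ) [Fact p.Prime] [CharP F p]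
    (x y : Module.End F V) (hxy : Commute x y) (hx : x ^ p = 1) (hx1 : x ≠ 1)
    (hdet : LinearMap.det y = 1) (μ : F) (hy3 : y ^ 3 = μ • 1)
    (hno9 : ∀ α : F, α ^ 9 = 1 → α ^ 3 = 1) (ω : F) (hω3 : ω ^ 3 = 1) (hω1 : ω ≠ 1)
    (h3 : (3 : F) ≠ 0) : ∃ c : F, y = c • 1 := by
  have : Module.Finite F V := inferInstance
  have hcomm : ∀ v, x (y v) = y (x v) := by
    intro v
    rw [← Module.End.mul_apply, ← Module.End.mul_apply, hxy.eq]
  have hy3u : ∀ u, y (y (y u)) = μ • u := by
    intro u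
    have := congrArg (fun f : Module.End F V => f u) hy3
    simpa [pow_succ, Module.End.mul_apply] using this
  have hKI : Module.finrank F (LinearMap.range (x - 1)) + Module.finrank F (fx x) = 3 := by
    rw [← hfr]
    exact LinearMap.finrank_range_add_finrank_ker (x - 1)
  have htop : (⊤ : Submodule F V) ≠ ⊥ := by
    intro h
    have := finrank_top F V
    rw [h, finrank_bot] at this
    omega
  have hK : fx x ≠ ⊥ := by
    have := inf_fx_ne_bot p x hx ⊤ (fun _ _ => trivial) htop
    rwa [top_inf_eq] at this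
  have hI : LinearMap.range (x - 1) ≠ ⊥ := by
    intro h
    apply hx1
    rw [LinearMap.range_eq_bot] at h
    exact sub_eq_zero.1 h
  have hK1 : Module.finrank F (fx x) ≠ 0 := fun h => hK (Submodule.finrank_eq_zero.1 h)
  have hI1 : Module.finrank F (LinearMap.range (x - 1)) ≠ 0 :=
    fun h => hI (Submodule.finrank_eq_zero.1 h)
  have hKy : ∀ v ∈ fx x, y v ∈ fx x := by
    intro v hv
    rw [mem_fx] at hv ⊢
    rw [hcomm, hv]
  have hIy : ∀ v ∈ LinearMap.range (x - 1), y v ∈ LinearMap.range (x - 1) := by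
    rintro v ⟨u, rfl⟩
    refine ⟨y u, ?_⟩
    simp [hcomm]
  obtain ⟨v, hv0, γ, hγ⟩ : ∃ v : V, v ≠ 0 ∧ ∃ γ : F, y v = γ • v := by
    by_cases h1 : Module.finrank F (fx x) = 1
    · obtain ⟨v, hv0, -, -, γ, hγ⟩ := line_eigen y (fx x) hKy h1
      exact ⟨v, hv0, γ, hγ⟩
    · have h2 : Module.finrank F (LinearMap.range (x - 1)) = 1 := by omega
      obtain ⟨v, hv0, -, -, γ, hγ⟩ := line_eigen y _ hIy h2
      exact ⟨v, hv0, γ, hγ⟩
  have hγμ : γ ^ 3 = μ := by
    have h1 := hy3u v
    rw [hγ, map_smul, hγ, map_smul, map_smul, hγ] at h1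
    have h2 : (γ ^ 3 - μ) • v = 0 := by
      linear_combination (norm := module) h1
    rcases smul_eq_zero.1 h2 with h | h
    · exact sub_eq_zero.1 h
    · exact absurd h hv0
  have hμ3 : μ ^ 3 = 1 := by
    have h1 := congrArg LinearMap.det hy3
    rw [map_pow, hdet, one_pow, LinearMap.det_smul, hfr] at h1
    have h2 : LinearMap.det (1 : Module.End F V) = 1 := map_one _
    rw [h2, mul_one] at h1
    exact h1.symm
  have hμ1 : μ = 1 := by
    rw [← hγμ]
    apply hno9
    rw [← hμ3, ← hγμ, ← pow_mul]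
  have hy3' : ∀ u, y (y (y u)) = u := by
    intro u
    rw [hy3u, hμ1, one_smul]
  have hω : 1 + ω + ω ^ 2 = 0 := by
    have h1 : (ω - 1) * (1 + ω + ω ^ 2) = 0 := by
      have : (ω - 1) * (1 + ω + ω ^ 2) = ω ^ 3 - 1 := by ring
      rw [this, hω3, sub_self]
    rcases mul_eq_zero.1 h1 with h | h
    · exact absurd (sub_eq_zero.1 h) hω1
    · exact h
  have hω4 : ω ^ 4 = ω := by rw [pow_succ, hω3, one_mul]
  have h33 : (3 : F)⁻¹ * 3 = 1 := inv_mul_cancel₀ h3
  have hP : ∀ c : F, c ^ 3 = 1 → ∀ u : V,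
      y ((3 : F)⁻¹ • (u + c ^ 2 • y u + c • y (y u))) =
        c • ((3 : F)⁻¹ • (u + c ^ 2 • y u + c • y (y u))) := by
    intro c hc u
    simp only [map_smul, map_add, hy3']
    have hc' : c ^ 3 - 1 = 0 := by rw [hc, sub_self]
    linear_combination (norm := module) (-(3 : F)⁻¹) • hc' • y u
  have hsum : ∀ u : V, (3 : F)⁻¹ • (u + (1 : F) ^ 2 • y u + (1 : F) • y (y u)) +
      (3 : F)⁻¹ • (u + ω ^ 2 • y u + ω • y (y u)) +
      (3 : F)⁻¹ • (u + (ω ^ 2) ^ 2 • y u + (ω ^ 2) • y (y u)) = u := by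
    intro u
    linear_combination (norm := module) (3 : F)⁻¹ • hω • y u + (3 : F)⁻¹ • hω • y (y u) +
      (3 : F)⁻¹ • (hω4 • y u) + h33 • u
  obtain ⟨c, hc3, u, hyu, hxu⟩ : ∃ c : F, c ^ 3 = 1 ∧ ∃ u : V, y u = c • u ∧ x u ≠ u := by
    by_contra hcon
    push Not at hcon
    apply hx1
    ext u
    have h1 := hcon 1 (one_pow 3) _ (hP 1 (one_pow 3) u)
    have h2 := hcon ω hω3 _ (hP ω hω3 u)
    have h3 := hcon (ω ^ 2) (by rw [← pow_mul, mul_comm, pow_mul, hω3, one_pow]) _
      (hP (ω ^ 2) (by rw [← pow_mul, mul_comm, pow_mul, hω3, one_pow]) u)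
    have h4 := congrArg x (hsum u)
    rw [map_add, map_add, h1, h2, h3, hsum u] at h4
    exact h4.symm
  have hc0 : c ≠ 0 := by
    intro h
    rw [h] at hc3
    simp at hc3
  set E : Submodule F V := LinearMap.ker (y - c • 1) with hE
  have hmemE : ∀ w, w ∈ E ↔ y w = c • w := by
    intro w
    simp [hE, sub_eq_zero]
  have hEx : ∀ w ∈ E, x w ∈ E := by
    intro w hw
    rw [hmemE] at hw ⊢
    rw [← hcomm, hw, map_smul]
  have huE : u ∈ E := (hmemE u).2 hyu
  have hEne : E ≠ ⊥ := by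
    intro h
    rw [h, Submodule.mem_bot] at huE
    apply hxu
    rw [huE, map_zero]
  have h1 := inf_fx_ne_bot p x hx E hEx hEne
  have h2 : E ⊓ fx x < E := by
    refine lt_of_le_of_ne inf_le_left (fun h => hxu ?_)
    have : u ∈ E ⊓ fx x := by rw [h]; exact huE
    exact (mem_fx x u).1 this.2
  have h3' := Submodule.finrank_lt_finrank_of_lt h2
  have h4 : Module.finrank F ↥(E ⊓ fx x) ≠ 0 := fun h => h1 (Submodule.finrank_eq_zero.1 h)
  have h5 : Module.finrank F (LinearMap.range (y - c • 1)) + Module.finrank F E = 3 := by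
    rw [← hfr]
    exact LinearMap.finrank_range_add_finrank_ker (y - c • 1)
  have h6 : Module.finrank F (LinearMap.range (c ^ 2 • y - 1)) ≤ 1 := by
    have h7 : LinearMap.range (c ^ 2 • y - 1) ≤ LinearMap.range (y - c • 1) := by
      rintro w ⟨t, rfl⟩
      refine ⟨c ^ 2 • t, ?_⟩
      simp only [LinearMap.sub_apply, LinearMap.smul_apply, Module.End.one_apply, map_smul]
      have hc' : c ^ 3 - 1 = 0 := by rw [hc3, sub_self]
      linear_combination (norm := module) (-1 : F) • hc' • t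
    have := Submodule.finrank_mono h7
    omega
  have hdet2 : LinearMap.det (c ^ 2 • y) = 1 := by
    rw [LinearMap.det_smul, hfr, hdet, mul_one, ← pow_mul, mul_comm, pow_mul, hc3, one_pow]
  have hR := rank_one_det (c ^ 2 • y) h6 hdet2
  refine ⟨c, ?_⟩
  ext t
  have h8 := hR t
  simp only [LinearMap.sub_apply, LinearMap.smul_apply, Module.End.one_apply, map_smul,
    map_sub] at h8
  have hc' : c ^ 3 - 1 = 0 := by rw [hc3, sub_self]
  have h9 : y (y t - c • t) = c • (y t - c • t) := by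
    rw [map_sub, map_smul]
    linear_combination (norm := module) (c ^ 2) • h8 - (c ^ 3 + 1) • hc' • y (y t) +
      (2 * c) • hc' • y t
  have h10 : y t = c • t + (y t - c • t) := by abel
  have h11 : ((3 : F) * c ^ 2) • (y t - c • t) = 0 := by
    have h12 := hy3' t
    generalize y t - c • t = w at h9 h10
    simp only [h10, h9, map_add, map_smul] at h12
    linear_combination (norm := module) h12 - hc' • t
  rcases smul_eq_zero.1 h11 with h | h
  · exact absurd h (mul_ne_zero h3 (pow_ne_zero _ hc0))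
  · rw [LinearMap.smul_apply, Module.End.one_apply]
    exact sub_eq_zero.1 h

theorem no_PSL3_orderOf (p : ℕ) [Fact p.Prime] [CharP F p] (hp3 : p ≠ 3)
    (h3 : 3 ∣ Fintype.card F - 1) (h9 : ¬ 9 ∣ Fintype.card F - 1)
    (x : Matrix.ProjectiveSpecialLinearGroup (Fin 3) F) : orderOf x ≠ 3 * p := by
  classical
  intro hord
  have hpp : p.Prime := Fact.out
  obtain ⟨g, rfl⟩ := QuotientGroup.mk_surjective x
  have hmk : ∀ m : ℕ, (QuotientGroup.mk g : Matrix.ProjectiveSpecialLinearGroup (Fin 3) F) ^ m = 1 ↔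
      g ^ m ∈ Subgroup.center (Matrix.SpecialLinearGroup (Fin 3) F) := by
    intro m
    rw [← QuotientGroup.mk_pow]
    exact QuotientGroup.eq_one_iff _
  have hz := (hmk (3 * p)).1 (by rw [← hord]; exact pow_orderOf_eq_one _)
  rw [Matrix.SpecialLinearGroup.mem_center_iff] at hz
  obtain ⟨μ, hμ3, hμ⟩ := hz
  rw [Fintype.card_fin] at hμ3
  let f : Module.End F (Fin 3 → F) := Matrix.toLinAlgEquiv' (g : Matrix (Fin 3) (Fin 3) F)
  have hfpow : ∀ m : ℕ, f ^ m = Matrix.toLinAlgEquiv'
      ((g ^ m : Matrix.SpecialLinearGroup (Fin 3) F) : Matrix (Fin 3) (Fin 3) F) := by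
    intro m
    rw [Matrix.SpecialLinearGroup.coe_pow, map_pow]
  have hdetf : LinearMap.det f = 1 := by
    show LinearMap.det (Matrix.toLin' (g : Matrix (Fin 3) (Fin 3) F)) = 1
    rw [LinearMap.det_toLin']
    exact g.2
  have hf3p : f ^ (3 * p) = μ • 1 := by
    rw [hfpow, ← hμ, Matrix.scalar_apply, ← Matrix.smul_one_eq_diagonal, map_smul, map_one]
  have hy3 : (f ^ p) ^ 3 = μ • 1 := by
    rw [← pow_mul, mul_comm, hf3p]
  have hx : (f ^ 9) ^ p = 1 := by
    have : 9 * p = (3 * p) * 3 := by ring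
    rw [← pow_mul, this, pow_mul, hf3p, smul_pow, one_pow, hμ3, one_smul]
  have hx1 : f ^ 9 ≠ 1 := by
    intro h
    rw [hfpow, EmbeddingLike.map_eq_one_iff] at h
    have h1 : g ^ 9 = 1 := Subtype.ext h
    have h2 : (QuotientGroup.mk g : Matrix.ProjectiveSpecialLinearGroup (Fin 3) F) ^ 9 = 1 := by
      rw [hmk, h1]
      exact Subgroup.one_mem _
    have h4 := orderOf_dvd_of_pow_eq_one h2
    rw [hord] at h4
    have h5 : p ∣ 3 := by
      have : 3 * p ∣ 3 * 3 := h4
      exact Nat.dvd_of_mul_dvd_mul_left (by norm_num) this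
    exact hp3 ((Nat.prime_dvd_prime_iff_eq hpp Nat.prime_three).1 h5)
  have hdet : LinearMap.det (f ^ p) = 1 := by
    rw [map_pow, hdetf, one_pow]
  have hno9 : ∀ α : F, α ^ 9 = 1 → α ^ 3 = 1 := by
    intro α hα
    have hα0 : α ≠ 0 := by
      intro h
      rw [h] at hα
      simp at hα
    have h1 : (Units.mk0 α hα0) ^ 9 = 1 := Units.ext (by simpa using hα)
    have h2 : (Units.mk0 α hα0) ^ (Fintype.card F - 1) = 1 :=
      Units.ext (by simpa using FiniteField.pow_card_sub_one_eq_one α hα0)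
    have h4 := pow_gcd_eq_one.2 ⟨h1, h2⟩
    have hg : Nat.gcd 9 (Fintype.card F - 1) = 3 := by
      have hd : Nat.gcd 9 (Fintype.card F - 1) ∣ 3 ^ 2 := Nat.gcd_dvd_left _ _
      obtain ⟨j, hj, hj'⟩ := (Nat.dvd_prime_pow Nat.prime_three).1 hd
      have h5 : 3 ∣ Nat.gcd 9 (Fintype.card F - 1) := Nat.dvd_gcd (by norm_num) h3
      have h6 : Nat.gcd 9 (Fintype.card F - 1) ∣ Fintype.card F - 1 := Nat.gcd_dvd_right _ _
      interval_cases j
      · rw [hj'] at h5
        norm_num at h5
      · rw [hj']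
        norm_num
      · rw [hj'] at h6
        exact absurd h6 h9
    rw [hg] at h4
    have := congrArg Units.val h4
    simpa using this
  obtain ⟨w, hw⟩ := exists_unit_orderOf F 3 (by
    rw [Nat.card_units, Nat.card_eq_fintype_card]
    exact h3)
  have hw3 : ((w : Fˣ) : F) ^ 3 = 1 := by
    have h1 : w ^ 3 = 1 := by
      rw [← hw]
      exact pow_orderOf_eq_one w
    have := congrArg Units.val h1
    simpa using this
  have hw1 : ((w : Fˣ) : F) ≠ 1 := by
    intro h
    have h1 : w = 1 := Units.ext h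
    rw [h1, orderOf_one] at hw
    omega
  have h3F : (3 : F) ≠ 0 := by
    have h1 : ((3 : ℕ) : F) ≠ 0 := by
      rw [Ne, CharP.cast_eq_zero_iff F p 3]
      intro h
      exact hp3 ((Nat.prime_dvd_prime_iff_eq hpp Nat.prime_three).1 h)
    simpa using h1
  obtain ⟨c, hc⟩ := ex_scalar (Module.finrank_fin_fun F) p (f ^ 9) (f ^ p)
    (Commute.pow_pow (Commute.refl f) 9 p) hx hx1 hdet μ hy3 hno9 _ hw3 hw1 h3F
  have hgp : ((g ^ p : Matrix.SpecialLinearGroup (Fin 3) F) : Matrix (Fin 3) (Fin 3) F) =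
      c • (1 : Matrix (Fin 3) (Fin 3) F) := by
    apply (Matrix.toLinAlgEquiv' (R := F) (n := Fin 3)).injective
    rw [← hfpow, hc, map_smul, map_one]
  have hc3 : c ^ 3 = 1 := by
    have h1 := congrArg Matrix.det hgp
    rw [Matrix.det_smul, Matrix.det_one, mul_one, Fintype.card_fin] at h1
    rw [← h1]
    exact (g ^ p).2
  have hcen : g ^ p ∈ Subgroup.center (Matrix.SpecialLinearGroup (Fin 3) F) := by
    rw [Matrix.SpecialLinearGroup.mem_center_iff]
    refine ⟨c, by rw [Fintype.card_fin]; exact hc3, ?_⟩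
    rw [hgp, Matrix.scalar_apply, Matrix.smul_one_eq_diagonal]
  have h6 := orderOf_dvd_of_pow_eq_one ((hmk p).2 hcen)
  rw [hord] at h6
  have := Nat.le_of_dvd hpp.pos h6
  have := hpp.pos
  omega

end exc2

section asm

variable {F : Type*} [Field F] [Fintype F]

lemma center_coprime (n : ℕ) (hn : 1 ≤ n) (N : ℕ) (hN : N.Coprime (Fintype.card F - 1)) :
    (Nat.card (Subgroup.center (Matrix.SpecialLinearGroup (Fin n) F))).Coprime N := by
  have e := Matrix.SpecialLinearGroup.center_equiv_rootsOfUnity' (n := Fin n) (R := F) ⟨0, by omega⟩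
  rw [Nat.card_congr e.toEquiv]
  have h1 : Nat.card (rootsOfUnity (Fintype.card (Fin n)) F) ∣ Fintype.card F - 1 := by
    have := Subgroup.card_subgroup_dvd_card (rootsOfUnity (Fintype.card (Fin n)) F)
    rwa [Nat.card_units, Nat.card_eq_fintype_card (α := F)] at this
  exact Nat.Coprime.coprime_dvd_left h1 hN.symm

lemma char_not_dvd_pred (p : ℕ) [Fact p.Prime] [CharP F p] : ¬ p ∣ Fintype.card F - 1 := by
  have hpp : p.Prime := Fact.out
  intro h
  have hpq : p ∣ Fintype.card F := by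
    obtain ⟨e, -, he⟩ := FiniteField.card F p
    rw [he]
    exact dvd_pow_self p e.pos.ne'
  have hq1 : 1 ≤ Fintype.card F := Fintype.card_pos
  have h6 : p ∣ Fintype.card F - (Fintype.card F - 1) := Nat.dvd_sub hpq h
  have h7 : Fintype.card F - (Fintype.card F - 1) = 1 := by omega
  rw [h7] at h6
  exact hpp.one_lt.ne' (Nat.dvd_one.1 h6)

theorem no_PSL2_orderOf (p : ℕ) [Fact p.Prime] [CharP F p] (h4 : 4 ≤ Fintype.card F)
    (r : ℕ) (hr : r.Prime) :
    r * p ∉ Set.range (orderOf : Matrix.ProjectiveSpecialLinearGroup (Fin 2) F → ℕ) := by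
  have hpp : p.Prime := Fact.out
  rw [Cfsg.Agent.S2475.result p h4, Set.mem_setOf_eq]
  have hp1 := char_not_dvd_pred (F := F) p
  have hpq : p ∣ Fintype.card F := by
    obtain ⟨e, -, he⟩ := FiniteField.card F p
    rw [he]
    exact dvd_pow_self p e.pos.ne'
  have hd1 : Nat.gcd 2 (Fintype.card F - 1) ∣ Fintype.card F - 1 := Nat.gcd_dvd_right _ _
  have hd2 : Nat.gcd 2 (Fintype.card F - 1) ∣ Fintype.card F + 1 := by
    have h1 : Fintype.card F + 1 = (Fintype.card F - 1) + 2 := by omega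
    rw [h1]
    exact Nat.dvd_add hd1 (Nat.gcd_dvd_left _ _)
  rintro (h | h | h)
  · have := Nat.le_of_dvd hpp.pos h
    have := hr.two_le
    nlinarith [hpp.pos]
  · exact hp1 (((Dvd.intro_left _ rfl).trans h).trans (Nat.div_dvd_of_dvd hd1))
  · have h1 : p ∣ Fintype.card F + 1 :=
      ((Dvd.intro_left _ rfl).trans h).trans (Nat.div_dvd_of_dvd hd2)
    have h2 : p ∣ 1 := (Nat.dvd_add_right hpq).1 h1
    exact hpp.one_lt.ne' (Nat.dvd_one.1 h2)

end asm

/-- Adjacency of an odd prime and the characteristic in the prime graph of PSL(n,q): let F be a finite field of characteristic p with q elements, n ≥ 2 with PSL(n,F) simple, and let r ≠ p be an odd prime dividing the order of PSL(n,F), with k the multiplicative order of q modulo r. Then PSL(n,F) has NO element of order r·p if and only if either k > n − 2, or n = 3, r = 3 and 3 divides q − 1 exactly once. -/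
theorem result {F : Type*} [Field F] [Fintype F] (p : ℕ) [Fact p.Prime] [CharP F p] (n : ℕ) (hn : 2 ≤ n) (hsmall : n = 2 → 4 ≤ Fintype.card F)
    (r : ℕ) (hr : r.Prime) (hr2 : r ≠ 2) (hrp : r ≠ p) (hrG : r ∣ Nat.card (Matrix.ProjectiveSpecialLinearGroup (Fin n) F))
    (k : ℕ) (hk : k = orderOf ((Fintype.card F : ℕ) : ZMod r)) :
    (r * p ∉ Set.range (orderOf : Matrix.ProjectiveSpecialLinearGroup (Fin n) F → ℕ)) ↔
      (n - 2 < k ∨ (n = 3 ∧ r = 3 ∧ 3 ∣ Fintype.card F - 1 ∧ ¬ 9 ∣ Fintype.card F - 1)) := by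
  classical
  have hpp : p.Prime := Fact.out
  have hq1 : 1 ≤ Fintype.card F := Fintype.card_pos
  have : Fact r.Prime := ⟨hr⟩
  obtain ⟨e, -, he⟩ := FiniteField.card F p
  have hrq : ¬ r ∣ Fintype.card F := by
    rw [he]
    intro h
    exact hrp ((Nat.prime_dvd_prime_iff_eq hr hpp).1 (hr.dvd_of_dvd_pow h))
  have hk0 : 0 < k := by
    rw [hk]
    exact orderOf_pos' _ hrq
  have hp1 := char_not_dvd_pred (F := F) p
  have hk1 : r ∣ Fintype.card F - 1 ↔ k = 1 := by
    have h1 := dvd_pow_sub_one_iff (r := r) (Fintype.card F) hq1 1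
    rw [pow_one, ← hk, Nat.dvd_one] at h1
    exact h1
  have hrk : r ∣ Fintype.card F ^ k - 1 := by
    rw [dvd_pow_sub_one_iff (r := r) _ hq1 k, hk]
  constructor
  · intro hno
    by_contra hcon
    push Not at hcon
    obtain ⟨hkn, hexc⟩ := hcon
    apply hno
    rcases Nat.lt_or_ge k 2 with hk2 | hk2
    · have hk1' : k = 1 := by omega
      have hrq1 : r ∣ Fintype.card F - 1 := hk1.2 hk1'
      rcases Nat.lt_or_ge n 4 with hn4 | hn4
      · obtain rfl : n = 3 := by omega
        by_cases hr3 : r = 3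
        · have h9 : 9 ∣ Fintype.card F - 1 := hexc rfl hr3 (hr3 ▸ hrq1)
          obtain ⟨a, ha⟩ := exists_unit_orderOf F 9 (by
            rw [Nat.card_units, Nat.card_eq_fintype_card]
            exact h9)
          obtain ⟨x, hx⟩ := exists_PSL_orderOf_three (F := F) p r hr hrp a (by
            intro m
            rw [← orderOf_dvd_iff_pow_eq_one, ha, hr3]
            have : 9 = 3 * 3 := by norm_num
            rw [this]
            exact Nat.mul_dvd_mul_iff_left (by norm_num))
          exact ⟨x, hx⟩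
        · obtain ⟨a, ha⟩ := exists_unit_orderOf F r (by
            rw [Nat.card_units, Nat.card_eq_fintype_card]
            exact hrq1)
          obtain ⟨x, hx⟩ := exists_PSL_orderOf_three (F := F) p r hr hrp a (by
            intro m
            rw [← orderOf_dvd_iff_pow_eq_one, ha]
            exact Nat.Coprime.dvd_mul_left ((Nat.coprime_primes hr Nat.prime_three).2 hr3))
          exact ⟨x, hx⟩
      · obtain ⟨a, ha⟩ := exists_unit_orderOf F r (by
          rw [Nat.card_units, Nat.card_eq_fintype_card]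
          exact hrq1)
        obtain ⟨x, hx⟩ := exists_PSL_orderOf_ge4 (F := F) (n := n) p r hr hrp hn4 a ha
        exact ⟨x, hx⟩
    · have hr1 : ¬ r ∣ Fintype.card F - 1 := by
        intro h
        have := hk1.1 h
        omega
      obtain ⟨g, hg⟩ := exists_SL_orderOf_unip (F := F) p n r k hr hrp hr1 hk0 hrk (by omega)
      have hcen := center_coprime (F := F) n (by omega) (r * p)
        (Nat.Coprime.mul_left ((Nat.Prime.coprime_iff_not_dvd hr).2 hr1)
          ((Nat.Prime.coprime_iff_not_dvd hpp).2 hp1))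
      exact (exists_orderOf_quotient_iff _ _ hcen).2 ⟨g, hg⟩
  · rintro (hkn | ⟨rfl, rfl, h3, h9⟩)
    · rcases Nat.lt_or_ge n 3 with hn3 | hn3
      · obtain rfl : n = 2 := by omega
        exact no_PSL2_orderOf p (hsmall rfl) r hr
      · have hk2 : 2 ≤ k := by omega
        have hr1 : ¬ r ∣ Fintype.card F - 1 := by
          intro h
          have := hk1.1 h
          omega
        have hcen := center_coprime (F := F) n (by omega) (p * r)
          (Nat.Coprime.mul_left ((Nat.Prime.coprime_iff_not_dvd hpp).2 hp1)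
            ((Nat.Prime.coprime_iff_not_dvd hr).2 hr1))
        rintro ⟨x, hx⟩
        rw [mul_comm] at hx
        obtain ⟨g, hg⟩ := (exists_orderOf_quotient_iff _ _ hcen).1 ⟨x, hx⟩
        have := le_of_SL_orderOf p n r hrq g hg
        rw [← hk] at this
        omega
    · rintro ⟨x, hx⟩
      exact no_PSL3_orderOf p (fun h => hrp h.symm) h3 h9 x hx

end Cfsg.Agent.S2470
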