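import Cfsg.Statements.S2471

import Mathlib
set_option autoImplicit false
open Cfsg

namespace Cfsg.Agent.S2471


open Matrix

theorem nilp_pow_card {F : Type*} [Field F] {m : ℕ} (N : Matrix (Fin m) (Fin m) F)
    (hN : IsNilpotent N) : N ^ m = 0 := by
  have h1 := Matrix.isNilpotent_charpoly_sub_pow_of_isNilpotent hN
  have h2 : N.charpoly - Polynomial.X ^ (Fintype.card (Fin m)) = 0 := h1.eq_zero
  have h3 : N.charpoly = Polynomial.X ^ m := by
    rw [sub_eq_zero] at h2
    simpa using h2
  have h4 := Matrix.aeval_self_charpoly N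
  rw [h3] at h4
  simpa using h4

theorem cayley {F : Type*} [Field F] (M : Matrix (Fin 2) (Fin 2) F) (hdet : M.det = 1) :
    M ^ 2 = (M 0 0 + M 1 1) • M - 1 := by
  rw [Matrix.det_fin_two] at hdet
  ext i j
  fin_cases i <;> fin_cases j <;>
    simp [pow_two, Matrix.mul_apply, Fin.sum_univ_two] <;>
    first | linear_combination (-1 : F) * hdet | linear_combination (0 : F) * hdet

theorem mem_center_of_pow_scalar {F : Type*} [Field F] (A : Matrix.SpecialLinearGroup (Fin 2) F) (k : ℕ) (s : F)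
    (h : (A : Matrix (Fin 2) (Fin 2) F) ^ k = s • (1 : Matrix (Fin 2) (Fin 2) F)) :
    A ^ k ∈ Subgroup.center (Matrix.SpecialLinearGroup (Fin 2) F) := by
  rw [Matrix.SpecialLinearGroup.mem_center_iff]
  refine ⟨s, ?_, ?_⟩
  · have hd : ((A ^ k : Matrix.SpecialLinearGroup (Fin 2) F) : Matrix (Fin 2) (Fin 2) F).det = 1 := (A ^ k).2
    rw [Matrix.SpecialLinearGroup.coe_pow, h] at hd
    simpa using hd
  · rw [Matrix.SpecialLinearGroup.coe_pow, h]
    ext i j
    simp [Matrix.one_apply, Matrix.diagonal_apply]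

/-- In PSL(2,q) with q odd, the characteristic p is isolated from 2 in the prime graph: for F a finite field of odd characteristic p with at least 5 elements, PSL(2,F) has no element of order 2p. -/
theorem result {F : Type*} [Field F] [Fintype F] (p : ℕ) [Fact p.Prime] [CharP F p] (hp : p ≠ 2) (h5 : 5 ≤ Fintype.card F) (g : Matrix.ProjectiveSpecialLinearGroup (Fin 2) F) :
    orderOf g ≠ 2 * p := by
  classical
  have hpp : p.Prime := Fact.out
  have hp2 : 2 ≤ p := hpp.two_le
  have hodd : Odd p := hpp.odd_of_ne_two hp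
  have : CharP (Matrix (Fin 2) (Fin 2) F) p := inferInstance
  intro hord
  obtain ⟨A, rfl⟩ := QuotientGroup.mk_surjective g
  set M : Matrix (Fin 2) (Fin 2) F := (A : Matrix (Fin 2) (Fin 2) F) with hM
  have hdet : M.det = 1 := A.2
  have h1 : A ^ (2 * p) ∈ Subgroup.center (Matrix.SpecialLinearGroup (Fin 2) F) := by
    rw [← QuotientGroup.eq_one_iff, QuotientGroup.mk_pow, ← hord, pow_orderOf_eq_one]
  obtain ⟨c, hc2, hc⟩ := Matrix.SpecialLinearGroup.mem_center_iff.mp h1
  rw [Fintype.card_fin] at hc2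
  have hcM : M ^ (2 * p) = c • (1 : Matrix (Fin 2) (Fin 2) F) := by
    rw [hM, ← Matrix.SpecialLinearGroup.coe_pow, ← hc]
    ext i j
    simp [Matrix.one_apply, Matrix.diagonal_apply]
  have hnot : ∀ k, 0 < k → k < 2 * p → A ^ k ∉ Subgroup.center (Matrix.SpecialLinearGroup (Fin 2) F) := by
    intro k hk0 hk hmem
    have : ((A : Matrix.SpecialLinearGroup (Fin 2) F) : Matrix.ProjectiveSpecialLinearGroup (Fin 2) F) ^ k = 1 := by
      rw [← QuotientGroup.mk_pow, QuotientGroup.eq_one_iff]; exact hmem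
    have h2 := orderOf_dvd_of_pow_eq_one this
    rw [hord] at h2
    have := Nat.le_of_dvd hk0 h2
    omega
  set t : F := M 0 0 + M 1 1 with ht
  have hCH : M ^ 2 = t • M - 1 := cayley M hdet
  set C : Matrix (Fin 2) (Fin 2) F := c • M ^ 2 with hC
  have hcp : c ^ (p + 1) = 1 := by
    obtain ⟨r, hr⟩ := hodd
    have : p + 1 = 2 * (r + 1) := by omega
    rw [this, pow_mul, hc2, one_pow]
  have hCp : C ^ p = 1 := by
    rw [hC, smul_pow, ← pow_mul, hcM, smul_smul, ← pow_succ, hcp, one_smul]
  set N : Matrix (Fin 2) (Fin 2) F := C - 1 with hN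
  have hNp : N ^ (p ^ 1) = 0 := by
    rw [hN, sub_pow_char_pow_of_commute _ _ (Commute.one_right _), pow_one, hCp, one_pow, sub_self]
  have hN2 : N ^ 2 = 0 := nilp_pow_card N ⟨p ^ 1, hNp⟩
  have hNpp : N ^ p = 0 := by
    rw [← Nat.sub_add_cancel hp2, pow_add, hN2, mul_zero]
  have hNeq : N = (c * t) • M - (c + 1) • (1 : Matrix (Fin 2) (Fin 2) F) := by
    rw [hN, hC, hCH, smul_sub, smul_smul, add_smul, one_smul]
    abel
  by_cases hN0 : N = 0
  · -- then c • M^2 = 1, so M^2 = c • 1
    have hC1 : C = 1 := by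
      have := hN0 ▸ hN
      exact (sub_eq_zero.mp this.symm)
    have hM2 : M ^ 2 = c • (1 : Matrix (Fin 2) (Fin 2) F) := by
      have : c • C = c • (1 : Matrix (Fin 2) (Fin 2) F) := by rw [hC1]
      rw [hC, smul_smul, ← pow_two, hc2, one_smul] at this
      exact this
    exact hnot 2 (by norm_num) (by omega) (mem_center_of_pow_scalar A 2 c hM2)
  · have hct : c * t ≠ 0 := by
      intro h0
      rw [h0, zero_smul, zero_sub] at hNeq
      have h3 : N ^ 2 = ((c + 1) ^ 2) • (1 : Matrix (Fin 2) (Fin 2) F) := by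
        rw [hNeq, neg_pow, smul_pow, one_pow]
        simp
      rw [hN2] at h3
      have h4 := congrFun (congrFun h3 0) 0
      simp at h4
      have h5 : c + 1 = 0 := by
        have h6 : (c + 1) ^ 2 = 0 := h4.symm
        exact pow_eq_zero_iff (two_ne_zero) |>.mp h6
      apply hN0
      rw [hNeq, h5, zero_smul, neg_zero]
    have hMeq : M = (c * t)⁻¹ • (N + (c + 1) • (1 : Matrix (Fin 2) (Fin 2) F)) := by
      rw [hNeq, sub_add_cancel, smul_smul, inv_mul_cancel₀ hct, one_smul]
    have hMp : M ^ p = (((c * t)⁻¹) ^ p * (c + 1) ^ p) • (1 : Matrix (Fin 2) (Fin 2) F) := by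
      have hcomm : Commute N ((c + 1) • (1 : Matrix (Fin 2) (Fin 2) F)) := by
        apply Commute.smul_right
        exact Commute.one_right N
      have := add_pow_char_pow_of_commute p 1 hcomm
      rw [pow_one] at this
      rw [hMeq, smul_pow, this, hNpp, zero_add, smul_pow, one_pow, smul_smul]
    exact hnot p hpp.pos (by omega) (mem_center_of_pow_scalar A p _ hMp)

end Cfsg.Agent.S2471
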