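import Cfsg.Statements.S2474
import Cfsg.Agent.Lib.Lead.BCG.Defs
import Cfsg.Agent.S0292
import Cfsg.Agent.Lib.Helper9.BCGL1
import Cfsg.Agent.Lib.Helper24.BCGL2
import Cfsg.Agent.Lib.Helper24.BCGT7
import Cfsg.Agent.Lib.Helper28.BCGT8
import Cfsg.Agent.Lib.Helper25.BCGO1
import Cfsg.Agent.Lib.Helper10.BCGO2
import Cfsg.Agent.Lib.Helper28.BCGO3
import Cfsg.Agent.Lib.Helper29.BCGO4
import Cfsg.Agent.Lib.Helper22.BCGO5
import Cfsg.Agent.Lib.Helper11.BCGS5
import Cfsg.Agent.Lib.Helper26.BCGS6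
import Cfsg.Agent.Lib.helper6.BCGS7
import Cfsg.Agent.Lib.Helper28.BCGS8
import Cfsg.Agent.Lib.Helper28.BCGS9

set_option autoImplicit false
open Cfsg

namespace Cfsg.Agent.S2474

open Cfsg.Agent.Lib.Lead.BCG

/-- the case `2 * s`, `s ∉ {2, p}` -/
theorem two_s {F : Type*} [Field F] [Fintype F] {p : ℕ} [Fact p.Prime] [CharP F p]
    (hodd : Odd (Fintype.card F)) (n : ℕ) (hn : 3 ≤ n) (s : ℕ) (hs : s.Prime) (hsp : s ≠ p)
    (hs2 : s ≠ 2) :
    InO n F (2 * s) ↔ 2 * s ∈ Set.range (orderOf : Cfsg.PSp n F → ℕ) := by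
  have : Fact s.Prime := ⟨hs⟩
  constructor
  · intro h
    exact s_2s_suf hodd n hn s hsp hs2 (o_2s_nec hodd n hn s hsp hs2 h)
  · intro h
    exact o_2s_suf hodd n hn s hsp hs2 (s_2s_nec hodd n hn s hsp hs2 h)

/-- the case `p * s`, `s ∉ {2, p}` -/
theorem p_s {F : Type*} [Field F] [Fintype F] {p : ℕ} [Fact p.Prime] [CharP F p]
    (hodd : Odd (Fintype.card F)) (n : ℕ) (hn : 3 ≤ n) (s : ℕ) (hs : s.Prime) (hsp : s ≠ p)
    (hs2 : s ≠ 2) :
    InO n F (p * s) ↔ p * s ∈ Set.range (orderOf : Cfsg.PSp n F → ℕ) := by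
  have : Fact s.Prime := ⟨hs⟩
  constructor
  · intro h
    exact s_ps_suf hodd n hn s hsp hs2 (o_ps_nec hodd n hn s hsp hs2 h)
  · intro h
    exact o_ps_suf hodd n hn s hsp hs2 (s_ps_nec hodd n hn s hsp hs2 h)


/-- For q odd and n ≥ 3 the simple groups PΩ(2n+1,q) and PSp(2n,q) (which have the same order but different sets of element orders) have the same prime graph: for all distinct primes r, s, one of them has an element of order r·s if and only if the other does. -/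
theorem result {F : Type*} [Field F] [Fintype F] (hodd : Odd (Fintype.card F)) (n : ℕ) (hn : 3 ≤ n) (r s : ℕ) (hr : r.Prime) (hs : s.Prime) (hrs : r ≠ s) :
    (r * s ∈ Set.range (orderOf : Cfsg.POmega F (Cfsg.quadFormOdd n F) → ℕ)) ↔ (r * s ∈ Set.range (orderOf : Cfsg.PSp n F → ℕ)) := by
  classical
  obtain ⟨p, hpc⟩ := CharP.exists F
  have := hpc
  have hpf : Fact p.Prime := ⟨CharP.char_is_prime F p⟩
  have h2 : (2 : F) ≠ 0 := Cfsg.Agent.S0292.two_ne_zero_of_odd rfl hodd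
  have hp2 : p ≠ 2 := by
    rintro rfl
    apply h2
    have : ((2 : ℕ) : F) = 0 := CharP.cast_eq_zero F 2
    exact_mod_cast this
  rw [ino_iff h2 n hn]
  by_cases hr2 : r = 2
  · subst hr2
    by_cases hsp : s = p
    · subst hsp
      exact ⟨fun _ => s_2p hodd n hn, fun _ => o_2p hodd n hn⟩
    · exact two_s hodd n hn s hs hsp (Ne.symm hrs)
  by_cases hs2 : s = 2
  · subst hs2
    rw [mul_comm]
    by_cases hrp : r = p
    · subst hrp
      exact ⟨fun _ => s_2p hodd n hn, fun _ => o_2p hodd n hn⟩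
    · exact two_s hodd n hn r hr hrp hr2
  by_cases hrp : r = p
  · subst hrp
    exact p_s hodd n hn s hs (Ne.symm hrs) hs2
  by_cases hsp : s = p
  · subst hsp
    rw [mul_comm]
    exact p_s hodd n hn r hr hrp hr2
  -- both odd and different from `p`
  have hro : Odd r := hr.odd_of_ne_two hr2
  have hso : Odd s := hs.odd_of_ne_two hs2
  have hNo : Odd (r * s) := hro.mul hso
  have hN1 : 1 < r * s := by
    have h1 := hr.two_le
    have h3 := hs.two_le
    nlinarith
  have hNp : ¬ p ∣ r * s := by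
    intro hd
    rcases (Nat.Prime.dvd_mul hpf.out).mp hd with h | h
    · exact hrp ((Nat.prime_dvd_prime_iff_eq hpf.out hr).mp h).symm
    · exact hsp ((Nat.prime_dvd_prime_iff_eq hpf.out hs).mp h).symm
  rw [ins_odd h2 n (by omega) (r * s) hNo]
  exact ⟨fun h => odd_O_to_S hodd n hn (r * s) hNo hN1 hNp h,
    fun h => odd_S_to_O hodd n hn (r * s) hNo hN1 hNp h⟩

end Cfsg.Agent.S2474
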