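import Cfsg.Statements.S2477

import Mathlib
set_option autoImplicit false
open Cfsg

namespace Cfsg.Agent.S2477


def step (a : ℕ) (st : ℕ × ℕ × ℕ) : ℕ × ℕ × ℕ := (Nat.lcm a st.1, a + st.2.1, st.2.2 + 1)

def T : ℕ → List (ℕ × ℕ × ℕ)
  | 0 => [(1, 0, 0)]
  | k + 1 => (T k).flatMap (fun st =>
      ((List.range 11).filter (fun a => decide (2 ≤ a) && decide (a + st.2.1 ≤ 10))).map (fun a => step a st))

def state (m : Multiset ℕ) : ℕ × ℕ × ℕ := (m.lcm, m.sum, Multiset.card m)

theorem state_mem (m : Multiset ℕ) (h2 : ∀ a ∈ m, 2 ≤ a) (hs : m.sum ≤ 10) :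
    state m ∈ T (Multiset.card m) := by
  induction m using Multiset.induction_on with
  | empty => simp [state, T]
  | cons a s ih =>
    have h2' : ∀ b ∈ s, 2 ≤ b := fun b hb => h2 b (Multiset.mem_cons_of_mem hb)
    have hsum : a + s.sum ≤ 10 := by simpa using hs
    have ih' := ih h2' (by omega)
    rw [Multiset.card_cons, T, List.mem_flatMap]
    refine ⟨state s, ih', ?_⟩
    rw [List.mem_map]
    refine ⟨a, ?_, ?_⟩
    · rw [List.mem_filter, List.mem_range]
      have ha2 := h2 a (Multiset.mem_cons_self a s)
      refine ⟨by omega, ?_⟩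
      simp [state]
      exact ⟨ha2, decide_eq_true hsum⟩
    · simp [step, state, Multiset.lcm_cons]
      rfl

theorem check : ∀ k ∈ List.range 6, ∀ st ∈ T k, (st.2.1 + st.2.2) % 2 = 0 →
    st.1 ∈ [1, 2, 3, 4, 5, 6, 7, 8, 9, 10, 12, 15, 21] := by
  decide

/-- The set of element orders of the alternating group of degree 10 is {1, 2, 3, 4, 5, 6, 7, 8, 9, 10, 12, 15, 21}. -/
theorem result : Set.range (orderOf : alternatingGroup (Fin 10) → ℕ) = {1, 2, 3, 4, 5, 6, 7, 8, 9, 10, 12, 15, 21} := by
  apply Set.eq_of_subset_of_subset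
  · rintro _ ⟨x, rfl⟩
    set σ : Equiv.Perm (Fin 10) := (x : Equiv.Perm (Fin 10)) with hσ
    have hsign : Equiv.Perm.sign σ = 1 := Equiv.Perm.mem_alternatingGroup.mp x.2
    rw [Equiv.Perm.sign_of_cycleType, neg_one_pow_eq_one_iff_even (by decide)] at hsign
    have hsum : σ.cycleType.sum ≤ 10 := by
      simpa using Equiv.Perm.sum_cycleType_le σ
    have h2 : ∀ a ∈ σ.cycleType, 2 ≤ a := fun a ha => Equiv.Perm.two_le_of_mem_cycleType ha
    have hmem := state_mem σ.cycleType h2 hsum
    have hcard : Multiset.card σ.cycleType ∈ List.range 6 := by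
      rw [List.mem_range]
      have := Multiset.card_nsmul_le_sum h2
      simp at this
      omega
    have := check _ hcard _ hmem (Nat.even_iff.mp hsign)
    rw [← Subgroup.orderOf_coe]
    change orderOf σ ∈ _
    rw [← Equiv.Perm.lcm_cycleType]
    simp only [state] at this
    simpa using this
  · have key : ∀ m : Multiset ℕ, m.sum ≤ 10 → (∀ a ∈ m, 2 ≤ a) → Even (m.sum + Multiset.card m) →
        m.lcm ∈ Set.range (orderOf : alternatingGroup (Fin 10) → ℕ) := by
      intro m h1 h2 h3
      obtain ⟨g, hg⟩ := (Equiv.Perm.exists_with_cycleType_iff (Fin 10) (m := m)).mpr ⟨by simpa using h1, h2⟩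
      have hsign : Equiv.Perm.sign g = 1 := by
        rw [Equiv.Perm.sign_of_cycleType, hg]
        exact Even.neg_one_pow h3
      refine ⟨⟨g, Equiv.Perm.mem_alternatingGroup.mpr hsign⟩, ?_⟩
      rw [← Subgroup.orderOf_coe]
      change orderOf g = _
      rw [← Equiv.Perm.lcm_cycleType, hg]
    intro n hn
    simp only [Set.mem_insert_iff, Set.mem_singleton_iff] at hn
    rcases hn with rfl | rfl | rfl | rfl | rfl | rfl | rfl | rfl | rfl | rfl | rfl | rfl | rfl
    · exact key 0 (by decide) (by decide) (by decide)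
    · exact key {2, 2} (by decide) (by decide) (by decide)
    · exact key {3} (by decide) (by decide) (by decide)
    · exact key {4, 2} (by decide) (by decide) (by decide)
    · exact key {5} (by decide) (by decide) (by decide)
    · exact key {3, 2, 2} (by decide) (by decide) (by decide)
    · exact key {7} (by decide) (by decide) (by decide)
    · exact key {8, 2} (by decide) (by decide) (by decide)
    · exact key {9} (by decide) (by decide) (by decide)
    · exact key {5, 2, 2} (by decide) (by decide) (by decide)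
    · exact key {4, 3, 2} (by decide) (by decide) (by decide)
    · exact key {5, 3} (by decide) (by decide) (by decide)
    · exact key {7, 3} (by decide) (by decide) (by decide)

end Cfsg.Agent.S2477
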