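import Cfsg.Statements.S2485

import Cfsg.Agent.S0265
import Cfsg.Agent.Lib.helper15.SL2Card
import Cfsg.Agent.Lib.helper15.SL2Cent
set_option autoImplicit false
open scoped Pointwise
open Cfsg

namespace Cfsg.Agent.S2485


open Matrix Cfsg.Agent.Lib.helper15

section Gen

variable {F : Type*} [Field F]

def J0m : Matrix (Fin 2) (Fin 2) F := !![0, -1; 1, 0]

theorem J0m_det : (J0m : Matrix (Fin 2) (Fin 2) F).det = 1 := by
  simp [J0m, Matrix.det_fin_two]

def J0 : GL (Fin 2) F :=
  Matrix.GeneralLinearGroup.mkOfDetNeZero J0m (by rw [J0m_det]; exact one_ne_zero)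

theorem J0_coe : ((J0 : GL (Fin 2) F) : Matrix (Fin 2) (Fin 2) F) = J0m := rfl

theorem comm_J0m_iff (P : Matrix (Fin 2) (Fin 2) F) :
    P * J0m = J0m * P ↔ P 0 1 = -P 1 0 ∧ P 1 1 = P 0 0 := by
  rw [m2_eq_iff]
  simp only [Matrix.mul_apply, Fin.sum_univ_two, J0m, Matrix.of_apply, Matrix.cons_val',
    Matrix.cons_val_zero, Matrix.cons_val_one, Matrix.empty_val', Matrix.cons_val_fin_one]
  constructor
  · rintro ⟨e1, e2, e3, e4⟩
    constructor
    · linear_combination e1
    · linear_combination e3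
  · rintro ⟨e1, e2⟩
    refine ⟨?_, ?_, ?_, ?_⟩
    · linear_combination e1
    · linear_combination e2
    · linear_combination e2
    · linear_combination -e1

theorem anti_J0m_iff (P : Matrix (Fin 2) (Fin 2) F) :
    P * J0m = -(J0m * P) ↔ P 0 1 = P 1 0 ∧ P 1 1 = -P 0 0 := by
  rw [m2_eq_iff]
  simp only [Matrix.mul_apply, Matrix.neg_apply, Fin.sum_univ_two, J0m, Matrix.of_apply, Matrix.cons_val',
    Matrix.cons_val_zero, Matrix.cons_val_one, Matrix.empty_val', Matrix.cons_val_fin_one]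
  constructor
  · rintro ⟨e1, e2, e3, e4⟩
    constructor
    · linear_combination e1
    · linear_combination e3
  · rintro ⟨e1, e2⟩
    refine ⟨?_, ?_, ?_, ?_⟩
    · linear_combination e1
    · linear_combination -e2
    · linear_combination e2
    · linear_combination e1

theorem mk_eq_of_smul (X Y : GL (Fin 2) F) (c : F) (hc : c ≠ 0)
    (h : (Y : Matrix (Fin 2) (Fin 2) F) = c • (X : Matrix (Fin 2) (Fin 2) F)) :
    (QuotientGroup.mk X : GL (Fin 2) F ⧸ Subgroup.center (GL (Fin 2) F)) = QuotientGroup.mk Y := by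
  rw [← QuotientGroup.mk'_apply, ← QuotientGroup.mk'_apply, QuotientGroup.mk'_eq_mk']
  refine ⟨Matrix.GeneralLinearGroup.scalar (Fin 2) (Units.mk0 c hc), ?_, ?_⟩
  · rw [Matrix.GeneralLinearGroup.center_eq_range_scalar]
    exact ⟨_, rfl⟩
  · apply Units.ext
    rw [Units.val_mul, Matrix.GeneralLinearGroup.coe_scalar, h]
    simp only [Units.val_mk0, Matrix.scalar_apply]
    rw [← Matrix.smul_one_eq_diagonal, Matrix.mul_smul, mul_one]

theorem smul_of_mk_eq (X Y : GL (Fin 2) F)
    (h : (QuotientGroup.mk X : GL (Fin 2) F ⧸ Subgroup.center (GL (Fin 2) F)) = QuotientGroup.mk Y) :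
    ∃ c : F, c ≠ 0 ∧ (Y : Matrix (Fin 2) (Fin 2) F) = c • (X : Matrix (Fin 2) (Fin 2) F) := by
  rw [← QuotientGroup.mk'_apply, ← QuotientGroup.mk'_apply, QuotientGroup.mk'_eq_mk'] at h
  obtain ⟨z, hz, hXz⟩ := h
  rw [Matrix.GeneralLinearGroup.center_eq_range_scalar] at hz
  obtain ⟨u, rfl⟩ := hz
  refine ⟨(u : F), u.ne_zero, ?_⟩
  rw [← hXz, Units.val_mul, Matrix.GeneralLinearGroup.coe_scalar]
  simp only [Matrix.scalar_apply]
  rw [← Matrix.smul_one_eq_diagonal, Matrix.mul_smul, mul_one]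

theorem commute_mk_iff (P J : GL (Fin 2) F) :
    (QuotientGroup.mk P : GL (Fin 2) F ⧸ Subgroup.center (GL (Fin 2) F)) * QuotientGroup.mk J =
      QuotientGroup.mk J * QuotientGroup.mk P ↔
    ((P : Matrix (Fin 2) (Fin 2) F) * (J : Matrix (Fin 2) (Fin 2) F) =
      (J : Matrix (Fin 2) (Fin 2) F) * (P : Matrix (Fin 2) (Fin 2) F) ∨
     (P : Matrix (Fin 2) (Fin 2) F) * (J : Matrix (Fin 2) (Fin 2) F) =
      -((J : Matrix (Fin 2) (Fin 2) F) * (P : Matrix (Fin 2) (Fin 2) F))) := by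
  rw [← QuotientGroup.mk_mul, ← QuotientGroup.mk_mul]
  constructor
  · intro h
    obtain ⟨c, hc, hcX⟩ := smul_of_mk_eq _ _ h
    rw [Units.val_mul, Units.val_mul] at hcX
    have hd := congrArg Matrix.det hcX
    rw [Matrix.det_smul, Matrix.det_mul, Matrix.det_mul, Fintype.card_fin] at hd
    have hP : (P : Matrix (Fin 2) (Fin 2) F).det ≠ 0 := by
      have := (Matrix.isUnit_iff_isUnit_det _).mp P.isUnit
      exact this.ne_zero
    have hJ : (J : Matrix (Fin 2) (Fin 2) F).det ≠ 0 := by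
      have := (Matrix.isUnit_iff_isUnit_det _).mp J.isUnit
      exact this.ne_zero
    have hc2 : c ^ 2 = 1 := by
      have h3 : (P : Matrix (Fin 2) (Fin 2) F).det * (J : Matrix (Fin 2) (Fin 2) F).det *
          (c ^ 2 - 1) = 0 := by linear_combination -hd
      rcases mul_eq_zero.mp h3 with h4 | h4
      · exact absurd h4 (mul_ne_zero hP hJ)
      · linear_combination h4
    rcases sq_eq_one_iff.mp hc2 with rfl | rfl
    · left
      rw [hcX, one_smul]
    · right
      rw [hcX, neg_smul, one_smul, neg_neg]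
  · rintro (h | h)
    · have : P * J = J * P := Units.ext (by rw [Units.val_mul, Units.val_mul]; exact h)
      rw [this]
    · apply mk_eq_of_smul _ _ (-1) (neg_ne_zero.mpr one_ne_zero)
      rw [Units.val_mul, Units.val_mul, h, neg_smul, one_smul, neg_neg]

theorem card_comap_mk {G : Type*} [Group G] [Finite G] (N : Subgroup G) [N.Normal]
    (K : Subgroup (G ⧸ N)) :
    Nat.card (K.comap (QuotientGroup.mk' N)) = Nat.card N * Nat.card K := by
  have h1 := Subgroup.index_comap_of_surjective K (QuotientGroup.mk'_surjective N)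
  have h3 := Subgroup.card_mul_index (K.comap (QuotientGroup.mk' N))
  have h4 := Subgroup.card_mul_index K
  have h5 := Subgroup.card_eq_card_quotient_mul_card_subgroup N
  have hpos : 0 < K.index := Nat.pos_of_ne_zero Subgroup.index_ne_zero_of_finite
  rw [h1] at h3
  apply Nat.eq_of_mul_eq_mul_right hpos
  rw [h3, h5, ← h4]
  ring

def Chat (F : Type*) [Field F] : Subgroup (GL (Fin 2) F) :=
  (Subgroup.centralizer ({(QuotientGroup.mk J0 :
    GL (Fin 2) F ⧸ Subgroup.center (GL (Fin 2) F))} :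
      Set (GL (Fin 2) F ⧸ Subgroup.center (GL (Fin 2) F)))).comap
    (QuotientGroup.mk' (Subgroup.center (GL (Fin 2) F)))

theorem mem_Chat (P : GL (Fin 2) F) :
    P ∈ Chat F ↔
      ((P : Matrix (Fin 2) (Fin 2) F) * J0m = J0m * (P : Matrix (Fin 2) (Fin 2) F) ∨
       (P : Matrix (Fin 2) (Fin 2) F) * J0m = -(J0m * (P : Matrix (Fin 2) (Fin 2) F))) := by
  rw [Chat, Subgroup.mem_comap, Subgroup.mem_centralizer_singleton_iff]
  exact commute_mk_iff P J0

def pmat (v : F × F) (s : Bool) : Matrix (Fin 2) (Fin 2) F :=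
  if s then !![v.1, v.2; v.2, -v.1] else !![v.1, -v.2; v.2, v.1]

theorem pmat_det_ne (hns : ∀ x y : F, x ^ 2 + y ^ 2 = 0 → x = 0 ∧ y = 0) (v : F × F) (hv : v ≠ 0)
    (s : Bool) : (pmat v s).det ≠ 0 := by
  have hne : v.1 ^ 2 + v.2 ^ 2 ≠ 0 := by
    intro h
    obtain ⟨h1, h2⟩ := hns _ _ h
    exact hv (Prod.ext h1 h2)
  cases s
  · simp only [pmat, Bool.false_eq_true, if_false, Matrix.det_fin_two_of]
    intro h
    apply hne
    linear_combination h
  · simp only [pmat, if_true, Matrix.det_fin_two_of]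
    intro h
    apply hne
    linear_combination -h

theorem pmat_mem (v : F × F) (s : Bool) :
    pmat v s * J0m = J0m * pmat v s ∨ pmat v s * J0m = -(J0m * pmat v s) := by
  cases s
  · left
    rw [comm_J0m_iff]
    simp [pmat]
  · right
    rw [anti_J0m_iff]
    simp [pmat]

def pChat (hns : ∀ x y : F, x ^ 2 + y ^ 2 = 0 → x = 0 ∧ y = 0)
    (a : {v : F × F // v ≠ 0} × Bool) : Chat F :=
  ⟨Matrix.GeneralLinearGroup.mkOfDetNeZero (pmat a.1.1 a.2) (pmat_det_ne hns a.1.1 a.1.2 a.2),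
    (mem_Chat _).mpr (pmat_mem a.1.1 a.2)⟩

theorem pChat_coe (hns : ∀ x y : F, x ^ 2 + y ^ 2 = 0 → x = 0 ∧ y = 0)
    (a : {v : F × F // v ≠ 0} × Bool) :
    (((pChat hns a : Chat F) : GL (Fin 2) F) : Matrix (Fin 2) (Fin 2) F) = pmat a.1.1 a.2 := rfl

theorem pChat_bijective (h2 : (2 : F) ≠ 0)
    (hns : ∀ x y : F, x ^ 2 + y ^ 2 = 0 → x = 0 ∧ y = 0) :
    Function.Bijective (pChat hns) := by
  constructor
  · rintro ⟨⟨v, hv⟩, s⟩ ⟨⟨w, hw⟩, t⟩ h
    have hm : pmat v s = pmat w t := by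
      have := congrArg (fun x : Chat F => ((x : GL (Fin 2) F) : Matrix (Fin 2) (Fin 2) F)) h
      simpa only [pChat_coe] using this
    have h00 := congrFun (congrFun hm 0) 0
    have h10 := congrFun (congrFun hm 1) 0
    have h01 := congrFun (congrFun hm 0) 1
    have h11 := congrFun (congrFun hm 1) 1
    have hvw : v = w := by
      cases s <;> cases t <;> simp [pmat] at h00 h10 <;> exact Prod.ext h00 h10
    subst hvw
    have hst : s = t := by
      cases s <;> cases t
      · rfl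
      · exfalso
        simp [pmat] at h01 h11
        apply hv
        have h1 : v.1 = 0 := by
          have : 2 * v.1 = 0 := by linear_combination h11
          rcases mul_eq_zero.mp this with h | h
          · exact absurd h h2
          · exact h
        have h3 : v.2 = 0 := by
          have : 2 * v.2 = 0 := by linear_combination -h01
          rcases mul_eq_zero.mp this with h | h
          · exact absurd h h2
          · exact h
        exact Prod.ext h1 h3
      · exfalso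
        simp [pmat] at h01 h11
        apply hv
        have h1 : v.1 = 0 := by
          have : 2 * v.1 = 0 := by linear_combination -h11
          rcases mul_eq_zero.mp this with h | h
          · exact absurd h h2
          · exact h
        have h3 : v.2 = 0 := by
          have : 2 * v.2 = 0 := by linear_combination h01
          rcases mul_eq_zero.mp this with h | h
          · exact absurd h h2
          · exact h
        exact Prod.ext h1 h3
      · rfl
    rw [hst]
  · rintro ⟨P, hP⟩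
    have hdet : (P : Matrix (Fin 2) (Fin 2) F).det ≠ 0 := by
      have := (Matrix.isUnit_iff_isUnit_det _).mp P.isUnit
      exact this.ne_zero
    have hv : ((P : Matrix (Fin 2) (Fin 2) F) 0 0, (P : Matrix (Fin 2) (Fin 2) F) 1 0) ≠ (0 : F × F) := by
      intro h
      have h1 : (P : Matrix (Fin 2) (Fin 2) F) 0 0 = 0 := congrArg Prod.fst h
      have h3 : (P : Matrix (Fin 2) (Fin 2) F) 1 0 = 0 := congrArg Prod.snd h
      apply hdet
      rw [Matrix.det_fin_two, h1, h3]
      ring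
    rw [mem_Chat] at hP
    rcases hP with hc | hc
    · refine ⟨(⟨_, hv⟩, false), ?_⟩
      apply Subtype.ext
      apply Units.ext
      show pmat _ false = (P : Matrix (Fin 2) (Fin 2) F)
      rw [comm_J0m_iff] at hc
      obtain ⟨e1, e2⟩ := hc
      rw [m2_eq_iff]
      simp only [pmat, Bool.false_eq_true, if_false, Matrix.of_apply, Matrix.cons_val',
        Matrix.cons_val_zero, Matrix.cons_val_one, Matrix.empty_val', Matrix.cons_val_fin_one]
      exact ⟨trivial, e1.symm, trivial, e2.symm⟩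
    · refine ⟨(⟨_, hv⟩, true), ?_⟩
      apply Subtype.ext
      apply Units.ext
      show pmat _ true = (P : Matrix (Fin 2) (Fin 2) F)
      rw [anti_J0m_iff] at hc
      obtain ⟨e1, e2⟩ := hc
      rw [m2_eq_iff]
      simp only [pmat, if_true, Matrix.of_apply, Matrix.cons_val',
        Matrix.cons_val_zero, Matrix.cons_val_one, Matrix.empty_val', Matrix.cons_val_fin_one]
      exact ⟨trivial, e1.symm, trivial, e2.symm⟩

end Gen

section Fin

variable {F : Type*} [Field F] [Fintype F]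

theorem card_P0 (h2 : (2 : F) ≠ 0) (hns : ∀ x y : F, x ^ 2 + y ^ 2 = 0 → x = 0 ∧ y = 0) :
    Nat.card (Subgroup.centralizer ({(QuotientGroup.mk J0 :
      GL (Fin 2) F ⧸ Subgroup.center (GL (Fin 2) F))} :
        Set (GL (Fin 2) F ⧸ Subgroup.center (GL (Fin 2) F)))) = 2 * (Fintype.card F + 1) := by
  classical
  have h1 := card_comap_mk (Subgroup.center (GL (Fin 2) F))
    (Subgroup.centralizer ({(QuotientGroup.mk J0 :
      GL (Fin 2) F ⧸ Subgroup.center (GL (Fin 2) F))} :
        Set (GL (Fin 2) F ⧸ Subgroup.center (GL (Fin 2) F))))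
  have h3 : Nat.card (Chat F) = (Fintype.card F ^ 2 - 1) * 2 := by
    rw [← Nat.card_congr (Equiv.ofBijective _ (pChat_bijective h2 hns)), Nat.card_prod,
      Nat.card_eq_fintype_card, Nat.card_eq_fintype_card, Fintype.card_bool,
      Fintype.card_subtype_compl, Fintype.card_subtype_eq, Fintype.card_prod, pow_two]
  have h4 : Nat.card (Subgroup.center (GL (Fin 2) F)) = Fintype.card F - 1 := by
    rw [Cfsg.Agent.S0265.card_center_GL 2 (by norm_num), Nat.card_eq_fintype_card,
      Fintype.card_units]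
  have hq : 2 ≤ Fintype.card F := Fintype.one_lt_card
  have h5 : Nat.card (Chat F) = Nat.card (Subgroup.center (GL (Fin 2) F)) *
      Nat.card (Subgroup.centralizer ({(QuotientGroup.mk J0 :
      GL (Fin 2) F ⧸ Subgroup.center (GL (Fin 2) F))} :
        Set (GL (Fin 2) F ⧸ Subgroup.center (GL (Fin 2) F)))) := h1
  rw [h3, h4] at h5
  obtain ⟨n, hn⟩ : ∃ n, Fintype.card F = n + 2 := ⟨Fintype.card F - 2, by omega⟩
  rw [hn] at h5 ⊢
  have h6 : (n + 2) ^ 2 - 1 = (n + 1) * (n + 3) := by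
    have : (n + 2) ^ 2 = (n + 1) * (n + 3) + 1 := by ring
    omega
  have h7 : n + 2 - 1 = n + 1 := by omega
  rw [h6, h7] at h5
  have h8 : (n + 1) * ((n + 3) * 2) = (n + 1) * Nat.card (Subgroup.centralizer
      ({(QuotientGroup.mk J0 : GL (Fin 2) F ⧸ Subgroup.center (GL (Fin 2) F))} :
        Set (GL (Fin 2) F ⧸ Subgroup.center (GL (Fin 2) F)))) := by
    rw [← h5]
    ring
  have h9 := Nat.eq_of_mul_eq_mul_left (Nat.succ_pos n) h8
  rw [← h9]
  ring

theorem core (h2 : (2 : F) ≠ 0) (hns : ∀ x y : F, x ^ 2 + y ^ 2 = 0 → x = 0 ∧ y = 0)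
    (g : GL (Fin 2) F ⧸ Subgroup.center (GL (Fin 2) F)) :
    ∃ m : GL (Fin 2) F ⧸ Subgroup.center (GL (Fin 2) F), m ≠ 1 ∧
      m * QuotientGroup.mk J0 = QuotientGroup.mk J0 * m ∧
      m * (g * QuotientGroup.mk J0 * g⁻¹) = (g * QuotientGroup.mk J0 * g⁻¹) * m := by
  obtain ⟨A, rfl⟩ := QuotientGroup.mk_surjective g
  have hconj : (QuotientGroup.mk A : GL (Fin 2) F ⧸ Subgroup.center (GL (Fin 2) F)) *
      QuotientGroup.mk J0 * (QuotientGroup.mk A)⁻¹ = QuotientGroup.mk (A * J0 * A⁻¹) := rfl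
  rw [hconj]
  have hKm : ((A * J0 * A⁻¹ : GL (Fin 2) F) : Matrix (Fin 2) (Fin 2) F) =
      (A : Matrix (Fin 2) (Fin 2) F) * J0m * ((A⁻¹ : GL (Fin 2) F) : Matrix (Fin 2) (Fin 2) F) := rfl
  have htr : ((A * J0 * A⁻¹ : GL (Fin 2) F) : Matrix (Fin 2) (Fin 2) F).trace = 0 := by
    rw [hKm, Matrix.trace_units_conj]
    simp [J0m, Matrix.trace_fin_two]
  have hdet : ((A * J0 * A⁻¹ : GL (Fin 2) F) : Matrix (Fin 2) (Fin 2) F).det = 1 := by
    rw [hKm, Matrix.det_units_conj, J0m_det]
  generalize (A * J0 * A⁻¹ : GL (Fin 2) F) = K at htr hdet ⊢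
  have hsq : (K : Matrix (Fin 2) (Fin 2) F) * (K : Matrix (Fin 2) (Fin 2) F) = -1 := by
    rw [m2_sq _ hdet, htr, zero_smul, zero_sub]
  have hJsq : (J0m : Matrix (Fin 2) (Fin 2) F) * J0m = -1 := by
    rw [m2_eq_iff]
    simp [J0m, Matrix.mul_apply, Fin.sum_univ_two]
  have hnotscalar : ¬ (J0 : GL (Fin 2) F) ∈ Subgroup.center (GL (Fin 2) F) := by
    intro h
    rw [Matrix.GeneralLinearGroup.mem_center_iff_val_mem_range_scalar] at h
    obtain ⟨c, hc⟩ := h
    have := congrFun (congrFun hc 1) 0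
    simp [J0, Matrix.GeneralLinearGroup.mkOfDetNeZero, J0m] at this
  have hz1 : (QuotientGroup.mk J0 : GL (Fin 2) F ⧸ Subgroup.center (GL (Fin 2) F)) ≠ 1 := by
    intro h
    rw [QuotientGroup.eq_one_iff] at h
    exact hnotscalar h
  by_cases hM : (J0m * (K : Matrix (Fin 2) (Fin 2) F) - (K : Matrix (Fin 2) (Fin 2) F) * J0m).det = 0
  · refine ⟨QuotientGroup.mk J0, hz1, rfl, ?_⟩
    rw [commute_mk_iff]
    left
    rw [J0_coe]
    rw [Matrix.trace_fin_two] at htr
    rw [Matrix.det_fin_two] at hdet hM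
    simp only [Matrix.sub_apply, Matrix.mul_apply, Fin.sum_univ_two, J0m, Matrix.of_apply,
      Matrix.cons_val', Matrix.cons_val_zero, Matrix.cons_val_one, Matrix.empty_val',
      Matrix.cons_val_fin_one] at hM
    have h11 : (K : Matrix (Fin 2) (Fin 2) F) 1 1 = -(K : Matrix (Fin 2) (Fin 2) F) 0 0 := by
      linear_combination htr
    have hsum : ((K : Matrix (Fin 2) (Fin 2) F) 0 1 + (K : Matrix (Fin 2) (Fin 2) F) 1 0) ^ 2 +
        (2 * (K : Matrix (Fin 2) (Fin 2) F) 0 0) ^ 2 = 0 := by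
      rw [h11] at hM
      linear_combination -hM
    obtain ⟨e1, e2⟩ := hns _ _ hsum
    have e3 : (K : Matrix (Fin 2) (Fin 2) F) 0 0 = 0 := by
      rcases mul_eq_zero.mp e2 with h | h
      · exact absurd h h2
      · exact h
    symm
    rw [comm_J0m_iff]
    constructor
    · linear_combination e1
    · rw [h11, e3, neg_zero]
  · refine ⟨QuotientGroup.mk (Matrix.GeneralLinearGroup.mkOfDetNeZero _ hM), ?_, ?_, ?_⟩
    · intro h
      rw [QuotientGroup.eq_one_iff, Matrix.GeneralLinearGroup.mem_center_iff_val_mem_range_scalar]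
        at h
      obtain ⟨c, hc⟩ := h
      apply hM
      have hc' : Matrix.scalar (Fin 2) c =
          J0m * (K : Matrix (Fin 2) (Fin 2) F) - (K : Matrix (Fin 2) (Fin 2) F) * J0m := hc
      have h01 := congrFun (congrFun hc' 0) 1
      have h00 := congrFun (congrFun hc' 0) 0
      have h11 := congrFun (congrFun hc' 1) 1
      rw [Matrix.trace_fin_two] at htr
      simp only [Matrix.scalar_apply, Matrix.diagonal_apply_ne _ (show (0 : Fin 2) ≠ 1 by decide),
        Matrix.diagonal_apply_eq, Matrix.sub_apply, Matrix.mul_apply, Fin.sum_univ_two, J0m,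
        Matrix.of_apply, Matrix.cons_val', Matrix.cons_val_zero, Matrix.cons_val_one,
        Matrix.empty_val', Matrix.cons_val_fin_one] at h01 h00 h11
      rw [Matrix.det_fin_two]
      simp only [Matrix.sub_apply, Matrix.mul_apply, Fin.sum_univ_two, J0m, Matrix.of_apply,
        Matrix.cons_val', Matrix.cons_val_zero, Matrix.cons_val_one, Matrix.empty_val',
        Matrix.cons_val_fin_one]
      have hbc : (K : Matrix (Fin 2) (Fin 2) F) 0 1 + (K : Matrix (Fin 2) (Fin 2) F) 1 0 = 0 := by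
        have : 2 * ((K : Matrix (Fin 2) (Fin 2) F) 0 1 + (K : Matrix (Fin 2) (Fin 2) F) 1 0) = 0 := by
          linear_combination h00 - h11
        rcases mul_eq_zero.mp this with h | h
        · exact absurd h h2
        · exact h
      linear_combination (-((K : Matrix (Fin 2) (Fin 2) F) 1 0) - (K : Matrix (Fin 2) (Fin 2) F) 0 1) * hbc +
        ((K : Matrix (Fin 2) (Fin 2) F) 0 0 - (K : Matrix (Fin 2) (Fin 2) F) 1 1) * h01
    · rw [commute_mk_iff]
      right
      show (J0m * (K : Matrix (Fin 2) (Fin 2) F) - (K : Matrix (Fin 2) (Fin 2) F) * J0m) * J0m =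
        -(J0m * (J0m * (K : Matrix (Fin 2) (Fin 2) F) - (K : Matrix (Fin 2) (Fin 2) F) * J0m))
      rw [sub_mul, mul_sub, mul_assoc _ J0m J0m, ← mul_assoc J0m J0m, hJsq]
      simp only [mul_neg, neg_mul, mul_one, one_mul, mul_assoc]
      abel
    · rw [commute_mk_iff]
      right
      show (J0m * (K : Matrix (Fin 2) (Fin 2) F) - (K : Matrix (Fin 2) (Fin 2) F) * J0m) *
          (K : Matrix (Fin 2) (Fin 2) F) =
        -((K : Matrix (Fin 2) (Fin 2) F) *
          (J0m * (K : Matrix (Fin 2) (Fin 2) F) - (K : Matrix (Fin 2) (Fin 2) F) * J0m))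
      rw [sub_mul, mul_sub, mul_assoc J0m _ _, hsq, ← mul_assoc _ _ J0m, hsq]
      simp only [mul_neg, neg_mul, mul_one, one_mul, mul_assoc]
      abel

end Fin

theorem sylow_conj_mem' {G : Type*} [Group G] [Finite G] {p : ℕ} [Fact p.Prime] (P0 P : Sylow p G) :
    ∃ g : G, ∀ a : G, a ∈ P ↔ g⁻¹ * a * g ∈ P0 := by
  obtain ⟨g, hg⟩ := MulAction.exists_smul_eq G P0 P
  refine ⟨g, fun a => ?_⟩
  have : a ∈ P ↔ a ∈ (P : Subgroup G) := Iff.rfl
  rw [this, ← hg, Sylow.coe_subgroup_smul, Subgroup.mem_pointwise_smul_iff_inv_smul_mem]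
  have : (MulAut.conj g)⁻¹ • a = g⁻¹ * a * g := by
    rw [← map_inv]; simp [MulAut.smul_def]
  rw [this]
  rfl

open scoped Pointwise

/-- Let q = 2^k − 1 ≥ 7 be a prime and let G = PGL(2,q), the general linear group of degree 2 over the field with q elements modulo its centre. Then any two Sylow 2-subgroups of G have a non-trivial intersection: for a Sylow 2-subgroup H and every x ∈ G, H ∩ H^x ≠ 1. -/
theorem result {q k : ℕ} [Fact q.Prime] (hk : q + 1 = 2 ^ k) (hq : 7 ≤ q)
    (H : Sylow 2 (GL (Fin 2) (ZMod q) ⧸ Subgroup.center (GL (Fin 2) (ZMod q))))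
    (x : GL (Fin 2) (ZMod q) ⧸ Subgroup.center (GL (Fin 2) (ZMod q))) :
    (H : Subgroup (GL (Fin 2) (ZMod q) ⧸ Subgroup.center (GL (Fin 2) (ZMod q)))) ⊓ MulAut.conj x • (H : Subgroup _) ≠ ⊥ := by
  haveI : NeZero q := ⟨(Fact.out : q.Prime).ne_zero⟩
  have hcard : Fintype.card (ZMod q) = q := ZMod.card q
  have hk3 : 3 ≤ k := by
    by_contra hlt
    have hk2 : k ≤ 2 := by omega
    have : 2 ^ k ≤ 2 ^ 2 := Nat.pow_le_pow_right (by norm_num) hk2
    omega
  obtain ⟨j, rfl⟩ : ∃ j, k = j + 2 := ⟨k - 2, by omega⟩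
  have hj1 : 1 ≤ j := by omega
  have hq4 : q % 4 = 3 := by
    have : q + 1 = 4 * 2 ^ j := by rw [hk]; ring
    omega
  have h2 : (2 : ZMod q) ≠ 0 := by
    intro h
    have h3 : ((2 : ℕ) : ZMod q) = 0 := by exact_mod_cast h
    rw [ZMod.natCast_eq_zero_iff] at h3
    have := Nat.le_of_dvd (by norm_num) h3
    omega
  have hns : ∀ x y : ZMod q, x ^ 2 + y ^ 2 = 0 → x = 0 ∧ y = 0 := by
    intro x y hxy
    by_cases hy : y = 0
    · subst hy
      refine ⟨?_, rfl⟩
      have : x ^ 2 = 0 := by linear_combination hxy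
      exact pow_eq_zero_iff (by norm_num) |>.mp this
    · exfalso
      have hsq : IsSquare (-1 : ZMod q) := by
        refine ⟨x / y, ?_⟩
        field_simp
        linear_combination -hxy
      rw [ZMod.exists_sq_eq_neg_one_iff] at hsq
      exact hsq hq4
  have hP0 := card_P0 h2 hns
  rw [hcard] at hP0
  have hG : Nat.card (GL (Fin 2) (ZMod q) ⧸ Subgroup.center (GL (Fin 2) (ZMod q))) =
      q * (q ^ 2 - 1) := by
    have h1 : Nat.card (GL (Fin 2) (ZMod q) ⧸ Subgroup.center (GL (Fin 2) (ZMod q))) =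
        Nat.card (Matrix.SpecialLinearGroup (Fin 2) (ZMod q)) :=
      Cfsg.Agent.S0265.result (F := ZMod q) 2
    rw [h1, card_SL2, hcard]
  obtain ⟨r, hr⟩ : ∃ r, 2 ^ j = r + 1 := ⟨2 ^ j - 1, by have := Nat.one_le_two_pow (n := j); omega⟩
  have hqr : q = 4 * r + 3 := by
    have : q + 1 = 4 * 2 ^ j := by rw [hk]; ring
    omega
  have hrodd : r % 2 = 1 := by
    obtain ⟨i, rfl⟩ : ∃ i, j = i + 1 := ⟨j - 1, by omega⟩
    rw [pow_succ] at hr
    omega
  have hGf : q * (q ^ 2 - 1) = 2 ^ (j + 3) * ((4 * r + 3) * (2 * r + 1)) := by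
    have h1 : q ^ 2 - 1 = (q - 1) * (q + 1) := by
      have : q ^ 2 = (q - 1) * (q + 1) + 1 := by
        obtain ⟨n, rfl⟩ : ∃ n, q = n + 1 := ⟨q - 1, by omega⟩
        simp only [Nat.add_sub_cancel]
        ring
      omega
    have h3 : q - 1 = 2 * (2 * r + 1) := by omega
    rw [h1, h3, hk, hqr]
    ring
  have hfact : (Nat.card (GL (Fin 2) (ZMod q) ⧸ Subgroup.center (GL (Fin 2) (ZMod q)))).factorization
      2 = j + 3 := by
    rw [hG, hGf, Nat.factorization_mul (pow_ne_zero _ (by norm_num)) (by positivity),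
      Finsupp.add_apply, Nat.Prime.factorization_pow Nat.prime_two, Finsupp.single_eq_same,
      Nat.factorization_eq_zero_of_not_dvd, add_zero]
    intro hdvd
    have : ((4 * r + 3) * (2 * r + 1)) % 2 = 1 := by
      rw [Nat.mul_mod]
      have e1 : (4 * r + 3) % 2 = 1 := by omega
      have e2 : (2 * r + 1) % 2 = 1 := by omega
      rw [e1, e2]
    omega
  have hP0' : Nat.card (Subgroup.centralizer ({(QuotientGroup.mk J0 :
      GL (Fin 2) (ZMod q) ⧸ Subgroup.center (GL (Fin 2) (ZMod q)))} :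
        Set (GL (Fin 2) (ZMod q) ⧸ Subgroup.center (GL (Fin 2) (ZMod q))))) =
      2 ^ (Nat.card (GL (Fin 2) (ZMod q) ⧸ Subgroup.center (GL (Fin 2) (ZMod q)))).factorization 2 := by
    rw [hfact, hP0, hk]
    ring
  obtain ⟨y, hy⟩ := sylow_conj_mem' (Sylow.ofCard _ hP0') H
  obtain ⟨m, hm1, hmz, hmz'⟩ := core h2 hns (y⁻¹ * x * y)
  intro hbot
  have hmem : y * m * y⁻¹ ∈ (H : Subgroup (GL (Fin 2) (ZMod q) ⧸ Subgroup.center (GL (Fin 2) (ZMod q)))) ⊓
      MulAut.conj x • (H : Subgroup (GL (Fin 2) (ZMod q) ⧸ Subgroup.center (GL (Fin 2) (ZMod q)))) := by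
    refine Subgroup.mem_inf.mpr ⟨?_, ?_⟩
    · show y * m * y⁻¹ ∈ H
      rw [hy]
      show y⁻¹ * (y * m * y⁻¹) * y ∈ Subgroup.centralizer _
      rw [Subgroup.mem_centralizer_singleton_iff]
      have : y⁻¹ * (y * m * y⁻¹) * y = m := by group
      rw [this]
      exact hmz
    · rw [Subgroup.mem_pointwise_smul_iff_inv_smul_mem]
      have e1 : (MulAut.conj x)⁻¹ • (y * m * y⁻¹) = x⁻¹ * (y * m * y⁻¹) * x := by
        rw [← map_inv, MulAut.smul_def, MulAut.conj_apply, inv_inv]
      rw [e1]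
      show x⁻¹ * (y * m * y⁻¹) * x ∈ H
      rw [hy]
      show y⁻¹ * (x⁻¹ * (y * m * y⁻¹) * x) * y ∈ Subgroup.centralizer _
      rw [Subgroup.mem_centralizer_singleton_iff]
      have e2 : y⁻¹ * (x⁻¹ * (y * m * y⁻¹) * x) * y = (y⁻¹ * x * y)⁻¹ * m * (y⁻¹ * x * y) := by group
      rw [e2]
      have e3 : (y⁻¹ * x * y)⁻¹ * m * (y⁻¹ * x * y) * QuotientGroup.mk J0 =
          (y⁻¹ * x * y)⁻¹ * (m * ((y⁻¹ * x * y) * QuotientGroup.mk J0 * (y⁻¹ * x * y)⁻¹)) *
            (y⁻¹ * x * y) := by group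
      rw [e3, hmz']
      group
  rw [hbot, Subgroup.mem_bot] at hmem
  apply hm1
  have : m = y⁻¹ * (y * m * y⁻¹) * y := by group
  rw [this, hmem]
  group

end Cfsg.Agent.S2485
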