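import Cfsg.Statements.S2486
import Cfsg.Agent.Lib.Helper28.BruhatF2
import Cfsg.Agent.Lib.Helper28.BigCell

set_option autoImplicit false
open scoped Pointwise
open Cfsg

namespace Cfsg.Agent.S2486

open Cfsg.Agent.Lib.Helper28.BruhatF2
open Cfsg.Agent.Lib.Helper16.AP (UT UT_isPGroup UT_index_not_dvd)

/-- Let n ≥ 4 and let G be a finite group with a normal subgroup N of index 2 isomorphic to SL(n,2) and with trivial centralizer in G (so G is the extension of the simple group L_n(2) by its inverse-transpose automorphism, its full automorphism group). Then any two Sylow 2-subgroups of G have a non-trivial intersection: for a Sylow 2-subgroup H and every x ∈ G, H ∩ H^x ≠ 1. -/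
theorem result {G : Type*} [Group G] [Finite G] {n : ℕ} (hn : 4 ≤ n) (N : Subgroup G) [N.Normal]
    (e : N ≃* Matrix.SpecialLinearGroup (Fin n) (ZMod 2)) (hidx : N.index = 2)
    (hC : Subgroup.centralizer (N : Set G) = ⊥)
    (H : Sylow 2 G) (x : G) :
    (H : Subgroup G) ⊓ MulAut.conj x • (H : Subgroup G) ≠ ⊥ := by
  classical
  have hF : Fintype.card (ZMod 2) = 2 ^ 1 := by simp
  -- the standard Sylow 2-subgroup of SL_n(2)
  let P0 : Sylow 2 (S n) := (UT_isPGroup (n := n) Nat.prime_two hF).toSylow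
    (UT_index_not_dvd Nat.prime_two le_rfl hF (by omega))
  have hP0 : (P0 : Subgroup (S n)) = UT n (ZMod 2) := rfl
  -- the embedding S n → G
  let f : S n →* G := N.subtype.comp e.symm.toMonoidHom
  have hf : Function.Injective f := by
    intro a b hab
    apply e.symm.injective
    exact Subtype.ext hab
  have hfN : ∀ s, f s ∈ N := fun s => (e.symm s).2
  have hfsurj : ∀ g ∈ N, ∃ s, f s = g := by
    intro g hg
    refine ⟨e ⟨g, hg⟩, ?_⟩
    show ((e.symm (e ⟨g, hg⟩) : N) : G) = g
    rw [MulEquiv.symm_apply_apply]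
  let U1 : Subgroup G := (UT n (ZMod 2)).map f
  have hU1p : IsPGroup 2 U1 := (UT_isPGroup (n := n) Nat.prime_two hF).map f
  obtain ⟨H1, hH1⟩ := hU1p.exists_le_sylow
  -- H1 ⊓ N = U1
  have hmeet : ∀ y, y ∈ (H1 : Subgroup G) ⊓ N ↔ ∃ s ∈ UT n (ZMod 2), f s = y := by
    intro y
    constructor
    · rintro ⟨hyH, hyN⟩
      obtain ⟨s, rfl⟩ := hfsurj y hyN
      refine ⟨s, ?_, rfl⟩
      -- Q = preimage of H1 under f is a 2-group containing UT
      have hQp : IsPGroup 2 ((H1 : Subgroup G).comap f) := H1.isPGroup'.comap_of_injective f hf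
      have hle : (P0 : Subgroup (S n)) ≤ (H1 : Subgroup G).comap f := by
        intro u hu
        exact hH1 (Subgroup.mem_map_of_mem f hu)
      have := P0.is_maximal' hQp hle
      have hs : s ∈ (H1 : Subgroup G).comap f := hyH
      rw [this] at hs
      exact hs
    · rintro ⟨s, hs, rfl⟩
      exact ⟨hH1 (Subgroup.mem_map_of_mem f hs), hfN s⟩
  have hmeet' : ∀ s : S n, f s ∈ (H1 : Subgroup G) ⊓ N ↔ s ∈ UT n (ZMod 2) := by
    intro s
    rw [hmeet]
    constructor
    · rintro ⟨s', hs', h⟩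
      rw [← hf h]; exact hs'
    · intro hs; exact ⟨s, hs, rfl⟩
  -- H1 is not contained in N
  have hHN : ¬ (H1 : Subgroup G) ≤ N := by
    intro hle
    have h1 := Subgroup.index_dvd_of_le hle
    rw [hidx] at h1
    exact H1.not_dvd_index h1
  -- conjugate H1 to H
  obtain ⟨g, hg⟩ := MulAction.exists_smul_eq G H1 H
  have hgH : ∀ y, y ∈ (H : Subgroup G) ↔ g⁻¹ * y * g ∈ (H1 : Subgroup G) := by
    intro y
    have hg' : (H : Subgroup G) = MulAut.conj g • (H1 : Subgroup G) := by
      rw [← hg]; exact Sylow.coe_subgroup_smul (g := g) (P := H1)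
    rw [hg', Subgroup.mem_pointwise_smul_iff_inv_smul_mem]
    simp [MulAut.smul_def, mul_assoc]
  obtain ⟨y, hy1, hyH, hyx⟩ := Cfsg.Agent.Lib.Helper28.BigCell.main N (H1 : Subgroup G) hidx hHN
    {w | ∃ σ : Equiv.Perm (Fin n), w = f (PS σ)} (f (PS Fin.revPerm)) (hfN _)
    (by
      intro a ha
      obtain ⟨s, rfl⟩ := hfsurj a ha
      obtain ⟨σ, b, hb, b', hb', hs⟩ := bruhat s
      refine ⟨f (PS σ), ⟨σ, rfl⟩, f b, (hmeet' b).2 hb, f b', (hmeet' b').2 hb', ?_⟩
      rw [hs, map_mul, map_mul])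
    (by
      rintro w ⟨σ, rfl⟩
      rcases dichotomy σ with ⟨c, hc, hc1, hcc⟩ | h
      · left
        refine ⟨f c, (hmeet' c).2 hc, ?_, ?_⟩
        · intro h
          apply hc1
          apply hf
          rw [h, map_one]
        · rw [← map_inv, ← map_mul, ← map_mul]
          exact (hmeet' _).2 hcc
      · right
        rw [h])
    (by
      intro c hc hcc
      obtain ⟨s, hs, rfl⟩ := (hmeet c).1 hc
      rw [← map_inv, ← map_mul, ← map_mul] at hcc
      have := big_cell_inj s hs ((hmeet' _).1 hcc)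
      rw [this, map_one])
    (g⁻¹ * x * g)
  intro hbot
  have hmem : g * y * g⁻¹ ∈ (H : Subgroup G) ⊓ MulAut.conj x • (H : Subgroup G) := by
    refine Subgroup.mem_inf.mpr ⟨?_, ?_⟩
    · rw [hgH]
      have : g⁻¹ * (g * y * g⁻¹) * g = y := by group
      rw [this]; exact hyH
    · rw [Subgroup.mem_pointwise_smul_iff_inv_smul_mem]
      have : (MulAut.conj x)⁻¹ • (g * y * g⁻¹) = x⁻¹ * (g * y * g⁻¹) * x := by
        simp [MulAut.smul_def, mul_assoc]
      rw [this, hgH]
      have : g⁻¹ * (x⁻¹ * (g * y * g⁻¹) * x) * g = (g⁻¹ * x * g)⁻¹ * y * (g⁻¹ * x * g) := by group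
      rw [this]; exact hyx
  rw [hbot, Subgroup.mem_bot] at hmem
  apply hy1
  have : y = g⁻¹ * (g * y * g⁻¹) * g := by group
  rw [this, hmem]; group

end Cfsg.Agent.S2486
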