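import Cfsg.Statements.S2487
import Cfsg.Agent.Lib.Helper28.SylOD
import Cfsg.Agent.Lib.Helper16.PlusFam
import Cfsg.Agent.S0832

set_option autoImplicit false
open scoped Pointwise
open Cfsg

namespace Cfsg.Agent.S2487

open Module Cfsg.Agent.Lib.Helper16 Cfsg.Agent.Lib.Helper28.SylO

theorem two_plus {F : Type*} [Field F] [Finite F] (k : ℕ) (X : Submodule F (Fin (k + 1) ⊕ Fin (k + 1) → F))
    (hX : finrank F X = k) (hts : TS (qfPlus (k + 1) F) X) : Two (qfPlus (k + 1) F) k X := by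
  have hcard := Cfsg.Agent.S0832.main (F := F) (k + 1) (by omega) X
    ⟨by rw [hX], fun u hu => hts u hu⟩
  rw [Nat.card_eq_two_iff] at hcard
  obtain ⟨M₁, M₂, hne, huniv⟩ := hcard
  refine ⟨M₁.1, M₂.1, fun hc => hne (Subtype.ext hc), ⟨M₁.2.1, M₁.2.2.1, M₁.2.2.2⟩,
    ⟨M₂.2.1, M₂.2.2.1, M₂.2.2.2⟩, ?_⟩
  rintro M ⟨h1, h2, h3⟩
  have hmem : (⟨M, h1, h2, h3⟩ : {W : Submodule F (Fin (k + 1) ⊕ Fin (k + 1) → F) //
      finrank F W = k + 1 ∧ (∀ w ∈ W, Cfsg.quadFormPlus (k + 1) F w = 0) ∧ X ≤ W})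
      ∈ ({M₁, M₂} : Set _) := by
    rw [huniv]; trivial
  rcases hmem with h4 | h4
  · left; exact congrArg Subtype.val h4
  · right; exact congrArg Subtype.val h4

/-- Let m ≥ 4 and let G be the full isometry group of the hyperbolic quadratic form x₁y₁ + ⋯ + x_m y_m on the 2m-dimensional space over the field with 2 elements (the orthogonal group O⁺(2m,2), which contains Ω⁺(2m,2) with index 2). Then any two Sylow 2-subgroups of G have a non-trivial intersection: for a Sylow 2-subgroup H and every x ∈ G, H ∩ H^x ≠ 1. -/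
theorem result {F : Type*} [Field F] [Fintype F] (hF : Fintype.card F = 2) {m : ℕ} (hm : 4 ≤ m)
    (H : Sylow 2 (Cfsg.isometryGroup F (Cfsg.quadFormPlus m F)))
    (x : Cfsg.isometryGroup F (Cfsg.quadFormPlus m F)) :
    (H : Subgroup (Cfsg.isometryGroup F (Cfsg.quadFormPlus m F))) ⊓ MulAut.conj x • (H : Subgroup _) ≠ ⊥ := by
  obtain ⟨k, rfl⟩ : ∃ k, m = k + 1 := ⟨m - 1, by omega⟩
  have hdim : finrank F (Fin (k + 1) ⊕ Fin (k + 1) → F) = 2 * (k + 1) :=
    finrank_pi_eq_two_mul (card_plus_index (k + 1))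
  exact sylow_meet (f2_of_card hF) (qfPlus (k + 1) F) (qfPlus_nondeg (k + 1) F) hdim
    (fun X hX hts => two_plus k X hX hts) H x

end Cfsg.Agent.S2487
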