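import Cfsg.Statements.S2496

import Cfsg.Agent.Lib.helper15.UHalf2
import Cfsg.Agent.Lib.helper15.UTorus
set_option autoImplicit false
open Cfsg

namespace Cfsg.Agent.S2496


open Cfsg.Agent.Lib.helper15.UNat Cfsg.Agent.Lib.helper15.UHalf Cfsg.Agent.Lib.helper15.UHalf2
open Cfsg.Agent.Lib.helper15.UDich Cfsg.Agent.Lib.helper15.UTorus

/-- Let q be an odd prime power, n ≥ 4 even, and U = PSU(n,q) (realised over the field with q² elements). Then U has an element of order q^(n/2) + (−1)^(n/2) — that is, q^(n/2) + 1 when n/2 is even and q^(n/2) − 1 when n/2 is odd — if and only if the 2-part of n exceeds the 2-part of q + 1. -/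
theorem result {F : Type*} [Field F] [Fintype F] {q : ℕ} (hF : Fintype.card F = q ^ 2) (hodd : Odd q)
    {n : ℕ} (hn : 4 ≤ n) (heven : Even n) :
    (∃ g : Cfsg.PSU n F q, orderOf g = if Even (n / 2) then q ^ (n / 2) + 1 else q ^ (n / 2) - 1) ↔
      padicValNat 2 (q + 1) < padicValNat 2 n := by
  obtain ⟨m, hm⟩ := heven
  have hnm : n = 2 * m := by omega
  subst hnm
  have hm2 : 2 ≤ m := by omega
  have hdiv : 2 * m / 2 = m := by omega
  rw [hdiv]
  have hq2 := two_le_q hF
  obtain ⟨p, hchar⟩ := CharP.exists F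
  obtain ⟨k, hp, hcard⟩ := FiniteField.card F p
  haveI : Fact p.Prime := ⟨hp⟩
  obtain ⟨a, -, hqa⟩ : ∃ a, a ≤ (k : ℕ) ∧ q = p ^ a := by
    apply (Nat.dvd_prime_pow hp).1
    rw [← hcard, hF]
    exact dvd_pow_self q (by norm_num)
  have hval : padicValNat 2 (2 * m) = padicValNat 2 m + 1 := by
    rw [padicValNat.mul (by norm_num) (by omega), padicValNat_self]
    ring
  have hiff : padicValNat 2 (q + 1) < padicValNat 2 (2 * m) ↔
      ∀ j, 2 ^ j ∣ q + 1 → 2 ^ j ∣ m := by
    rw [hval, Nat.lt_succ_iff]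
    constructor
    · intro h j hj
      have h1 : j ≤ padicValNat 2 (q + 1) := (padicValNat_dvd_iff_le (by omega)).mp hj
      exact (padicValNat_dvd_iff_le (by omega)).mpr (h1.trans h)
    · intro h
      exact (padicValNat_dvd_iff_le (by omega)).mp (h _ pow_padicValNat_dvd)
  rw [hiff, ← half_dvd_iff q m hq2 (by omega)]
  change (∃ g : Cfsg.PSU (2 * m) F q, orderOf g = Nh q m) ↔ _
  constructor
  · rintro ⟨g, hg⟩
    exact of_elt_u p a hqa hF hodd m hm2 g hg
  · intro h
    obtain ⟨t, ht⟩ := exists_torus_u (n := 2 * m) p a hqa hF (by omega)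
    obtain ⟨c, hc⟩ := h
    have hN := Nh_pos q m hq2 (by omega)
    have hc0 : c ≠ 0 := by
      intro h0
      rw [h0, mul_zero] at hc
      have := orderOf_pos t
      omega
    refine ⟨t ^ c, ?_⟩
    rw [orderOf_pow_of_dvd hc0 ⟨Nh q m, by rw [ht, hc, mul_comm]⟩, ht, hc,
      Nat.mul_div_cancel _ (Nat.pos_of_ne_zero hc0)]

end Cfsg.Agent.S2496
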