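import Cfsg.Statements.S2503
import Cfsg.Agent.Lib.helper14.SL2Odd
import Cfsg.Agent.Lib.helper14.SL2Sylow
import Cfsg.Agent.Lib.helper15.SL2Char2
import Cfsg.Agent.Lib.helper15.SL2Torus
import Cfsg.Agent.Lib.helper15.SL2Cent
import Cfsg.Agent.Lib.helper15.SL2Conj
import Cfsg.Agent.Lib.helper15.SL2Nonsplit
import Mathlib

set_option autoImplicit false
set_option linter.unusedSectionVars false
open Cfsg

namespace Cfsg.Agent.S2503

open Cfsg.Agent.Lib.helper14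
open Cfsg.Agent.Lib.helper15 (compSL compSL_coe compSL_trace compSL_nonscalar mkSL mkSL_coe m2_det_lin m2_sq
  lin_mem_centralizer normSet_aniso exists_sqrt_char2 sq_eq_one_char2 exists_nonsplit card_normSet_nonsplit
  card_centralizer_eq isCyclic_centralizer charTwo_of_even_card)

section
variable {F : Type*} [Field F] [Fintype F] [CharP F 2]

local notation "SL2" => Matrix.SpecialLinearGroup (Fin 2) F
local notation "M2" => Matrix (Fin 2) (Fin 2) F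

theorem two_eq_zero' : (2 : F) = 0 := CharTwo.two_eq_zero

theorem exists_norm_one_on_line (t : F) (hns : ∀ l : F, l ^ 2 - t * l + 1 ≠ 0) (x y : F)
    (hxy : ¬ (x = 0 ∧ y = 0)) :
    ∃ s : F, (s * x) ^ 2 + (s * x) * (s * y) * t + (s * y) ^ 2 = 1 := by
  have hN : x ^ 2 + x * y * t + y ^ 2 ≠ 0 := fun h => hxy (normSet_aniso t hns x y h)
  obtain ⟨s, hs⟩ := exists_sqrt_char2 ((x ^ 2 + x * y * t + y ^ 2)⁻¹)
  refine ⟨s, ?_⟩
  have : (s * x) ^ 2 + (s * x) * (s * y) * t + (s * y) ^ 2 = s ^ 2 * (x ^ 2 + x * y * t + y ^ 2) := by ring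
  rw [this, hs, inv_mul_cancel₀ hN]

def kEl (t α β : F) (hN : α ^ 2 + α * β * t + β ^ 2 = 1) : SL2 :=
  mkSL (α • (1 : M2) + β • ((compSL t : SL2) : M2)) (by
    rw [m2_det_lin _ (compSL t).2, compSL_trace]; exact hN)

theorem kEl_coe (t α β : F) (hN : α ^ 2 + α * β * t + β ^ 2 = 1) :
    ((kEl t α β hN : SL2) : M2) = !![α, -β; β, α + β * t] := by
  show α • (1 : M2) + β • ((compSL t : SL2) : M2) = _
  rw [compSL_coe, Matrix.one_fin_two]
  ext i j
  fin_cases i <;> fin_cases j <;> simp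

theorem kEl_mem (t α β : F) (hN : α ^ 2 + α * β * t + β ^ 2 = 1) :
    kEl t α β hN ∈ Subgroup.centralizer ({compSL t} : Set SL2) :=
  lin_mem_centralizer (compSL t) α β _

theorem step1 (t : F) (hns : ∀ l : F, l ^ 2 - t * l + 1 ≠ 0) (h : SL2) :
    ∃ (α β : F) (hN : α ^ 2 + α * β * t + β ^ 2 = 1), ((kEl t α β hN * h : SL2) : M2).trace = 0 := by
  obtain ⟨p, hp⟩ : ∃ p, (h : M2) 0 0 = p := ⟨_, rfl⟩
  obtain ⟨q, hq⟩ : ∃ q, (h : M2) 0 1 = q := ⟨_, rfl⟩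
  obtain ⟨r, hr⟩ : ∃ r, (h : M2) 1 0 = r := ⟨_, rfl⟩
  obtain ⟨s, hs⟩ : ∃ s, (h : M2) 1 1 = s := ⟨_, rfl⟩
  have hh : (h : M2) = !![p, q; r, s] := by rw [Matrix.eta_fin_two (h : M2), hp, hq, hr, hs]
  have key : ∀ (α β : F) (hN : α ^ 2 + α * β * t + β ^ 2 = 1),
      ((kEl t α β hN * h : SL2) : M2).trace = α * (p + s) + β * (-r + q + t * s) := by
    intro α β hN
    rw [sl2_coe_mul, kEl_coe, hh, Matrix.mul_fin_two, Matrix.trace_fin_two_of]
    ring
  by_cases h0 : (-r + q + t * s) = 0 ∧ (p + s) = 0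
  · refine ⟨1, 0, by ring, ?_⟩
    rw [key, h0.1, h0.2]; ring
  · obtain ⟨σ, hσ⟩ := exists_norm_one_on_line t hns (-r + q + t * s) (p + s) h0
    refine ⟨σ * (-r + q + t * s), σ * (p + s), hσ, ?_⟩
    rw [key]
    have h2 := two_eq_zero' (F := F)
    linear_combination (σ * (-r + q + t * s) * (p + s)) * h2

theorem neg_one_eq_one_mat : (-1 : M2) = 1 := by
  ext i j
  rw [Matrix.neg_apply, CharTwo.neg_eq]

theorem sq_eq_one_of_trace_zero (u : SL2) (htr : (u : M2).trace = 0) : u * u = 1 := by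
  apply Subtype.ext
  rw [sl2_coe_mul, m2_sq _ u.2, htr, zero_smul, zero_sub, sl2_coe_one, neg_one_eq_one_mat]

theorem step2 (t : F) (hns : ∀ l : F, l ^ 2 - t * l + 1 ≠ 0) (u : SL2) (hu : u * u = 1) :
    ∃ (α β : F), α ^ 2 + α * β * t + β ^ 2 = 1 ∧ (u : M2) 0 0 * α + (u : M2) 0 1 * β = α ∧
      (u : M2) 1 0 * α + (u : M2) 1 1 * β = β := by
  obtain ⟨p, hp⟩ : ∃ p, (u : M2) 0 0 = p := ⟨_, rfl⟩
  obtain ⟨q, hq⟩ : ∃ q, (u : M2) 0 1 = q := ⟨_, rfl⟩
  obtain ⟨r, hr⟩ : ∃ r, (u : M2) 1 0 = r := ⟨_, rfl⟩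
  obtain ⟨s, hs⟩ : ∃ s, (u : M2) 1 1 = s := ⟨_, rfl⟩
  have hh : (u : M2) = !![p, q; r, s] := by rw [Matrix.eta_fin_two (u : M2), hp, hq, hr, hs]
  have huu : (u : M2) * (u : M2) = 1 := by rw [← sl2_coe_mul, hu, sl2_coe_one]
  rw [hh, Matrix.mul_fin_two, Matrix.one_fin_two, m2_eq_iff] at huu
  obtain ⟨e1, e2, e3, e4⟩ := huu
  simp only [hp, hq, hr, hs]
  by_cases h1 : p + 1 = 0 ∧ r = 0
  · by_cases h3 : q = 0 ∧ s + 1 = 0
    · refine ⟨1, 0, by ring, ?_, ?_⟩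
      · have : p = 1 := by
          have := CharTwo.add_self_eq_zero (1 : F)
          linear_combination h1.1 - this
        rw [this]; ring
      · rw [h1.2]; ring
    · obtain ⟨σ, hσ⟩ := exists_norm_one_on_line t hns q (s + 1) h3
      refine ⟨σ * q, σ * (s + 1), hσ, ?_, ?_⟩
      · linear_combination σ * e2
      · linear_combination σ * e4
  · obtain ⟨σ, hσ⟩ := exists_norm_one_on_line t hns (p + 1) r h1
    refine ⟨σ * (p + 1), σ * r, hσ, ?_, ?_⟩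
    · linear_combination σ * e1
    · linear_combination σ * e3

theorem conj_mem_US (u K : SL2) (hcol0 : ((u * K : SL2) : M2) 0 0 = (K : M2) 0 0)
    (hcol1 : ((u * K : SL2) : M2) 1 0 = (K : M2) 1 0) : K⁻¹ * u * K ∈ US F := by
  have hb : ∀ i, ((K⁻¹ * u * K : SL2) : M2) i 0 = (1 : M2) i 0 := by
    intro i
    have e1 : K⁻¹ * u * K = K⁻¹ * (u * K) := mul_assoc _ _ _
    rw [e1, sl2_coe_mul, Matrix.mul_apply, Fin.sum_univ_two, hcol0, hcol1]
    have e2 : ((K⁻¹ * K : SL2) : M2) i 0 = (1 : M2) i 0 := by rw [inv_mul_cancel, sl2_coe_one]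
    rw [sl2_coe_mul, Matrix.mul_apply, Fin.sum_univ_two] at e2
    exact e2
  obtain ⟨b, hbdef⟩ : ∃ b : SL2, b = K⁻¹ * u * K := ⟨_, rfl⟩
  rw [← hbdef] at hb ⊢
  have h00 : (b : M2) 0 0 = 1 := by rw [hb 0, Matrix.one_apply_eq]
  have h10 : (b : M2) 1 0 = 0 := by rw [hb 1]; simp
  have hdet := sl2_det b
  rw [h00, h10, mul_zero, sub_zero, one_mul] at hdet
  rw [mem_US]
  refine ⟨(b : M2) 0 1, ?_⟩
  apply Subtype.ext
  rw [uS_coe]
  refine Eq.trans ?_ (Matrix.eta_fin_two (b : M2)).symm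
  rw [h00, h10, hdet]

theorem aba (t : F) (hns : ∀ l : F, l ^ 2 - t * l + 1 ≠ 0) (h : SL2) :
    ∃ a ∈ Subgroup.centralizer ({compSL t} : Set SL2), ∃ b ∈ US F,
      ∃ c ∈ Subgroup.centralizer ({compSL t} : Set SL2), h = a * b * c := by
  obtain ⟨α, β, hN, htr⟩ := step1 t hns h
  have huu := sq_eq_one_of_trace_zero _ htr
  obtain ⟨α', β', hN', he0, he1⟩ := step2 t hns _ huu
  obtain ⟨k, hk⟩ : ∃ k : SL2, k = kEl t α β hN := ⟨_, rfl⟩
  obtain ⟨K, hK⟩ : ∃ K : SL2, K = kEl t α' β' hN' := ⟨_, rfl⟩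
  rw [← hk] at he0 he1 huu
  have hkmem : k ∈ Subgroup.centralizer ({compSL t} : Set SL2) := hk ▸ kEl_mem t α β hN
  have hKmem : K ∈ Subgroup.centralizer ({compSL t} : Set SL2) := hK ▸ kEl_mem t α' β' hN'
  have hK00 : (K : M2) 0 0 = α' := by rw [hK, kEl_coe]; rfl
  have hK10 : (K : M2) 1 0 = β' := by rw [hK, kEl_coe]; rfl
  have hb := conj_mem_US (k * h) K
    (by rw [sl2_coe_mul, Matrix.mul_apply, Fin.sum_univ_two, hK00, hK10]; exact he0)
    (by rw [sl2_coe_mul, Matrix.mul_apply, Fin.sum_univ_two, hK00, hK10]; exact he1)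
  refine ⟨k⁻¹ * K, Subgroup.mul_mem _ (Subgroup.inv_mem _ hkmem) hKmem, K⁻¹ * (k * h) * K, hb, K⁻¹,
    Subgroup.inv_mem _ hKmem, ?_⟩
  group

theorem center_eq_bot : Subgroup.center SL2 = ⊥ := by
  rw [Subgroup.eq_bot_iff_forall]
  intro z hz
  rw [Matrix.SpecialLinearGroup.mem_center_iff] at hz
  obtain ⟨r, hr, hz⟩ := hz
  rw [Fintype.card_fin] at hr
  have hr1 := sq_eq_one_char2 r hr
  apply Subtype.ext
  rw [← hz, hr1, map_one, sl2_coe_one]

end

theorem result {F : Type*} [Field F] [Fintype F]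
    (h2 : 2 ∣ Fintype.card F) (h4 : 4 ≤ Fintype.card F) :
    ∃ A B : Subgroup (Matrix.ProjectiveSpecialLinearGroup (Fin 2) F),
      IsCyclic A ∧ Nat.card A = Fintype.card F + 1 ∧ IsMulCommutative B ∧ (∀ b ∈ B, b * b = 1) ∧
        Nat.card B = Fintype.card F ∧
        ∀ g : Matrix.ProjectiveSpecialLinearGroup (Fin 2) F, ∃ a ∈ A, ∃ b ∈ B, ∃ c ∈ A, g = a * b * c := by
  haveI : CharP F 2 := charTwo_of_even_card h2
  obtain ⟨t, -, hns⟩ := exists_nonsplit (F := F)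
  obtain ⟨π, hπ⟩ : ∃ π : Matrix.SpecialLinearGroup (Fin 2) F →* Matrix.ProjectiveSpecialLinearGroup (Fin 2) F,
      π = QuotientGroup.mk' (Subgroup.center (Matrix.SpecialLinearGroup (Fin 2) F)) := ⟨_, rfl⟩
  have hπinj : Function.Injective π := by
    rw [← MonoidHom.ker_eq_bot_iff, hπ, QuotientGroup.ker_mk', center_eq_bot]
  have hπsurj : Function.Surjective π := by
    rw [hπ]; exact QuotientGroup.mk'_surjective _
  obtain ⟨A0, hA0⟩ : ∃ A0 : Subgroup (Matrix.SpecialLinearGroup (Fin 2) F),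
      A0 = Subgroup.centralizer ({compSL t} : Set (Matrix.SpecialLinearGroup (Fin 2) F)) := ⟨_, rfl⟩
  haveI hcyc : IsCyclic A0 := by
    rw [hA0]
    apply isCyclic_centralizer (compSL t) (compSL_nonscalar t)
    intro c hc
    exfalso
    rw [compSL_trace] at hc
    exact hns c hc
  have hcardA0 : Nat.card A0 = Fintype.card F + 1 := by
    rw [hA0, card_centralizer_eq (compSL t) (compSL_nonscalar t), compSL_trace, card_normSet_nonsplit t hns]
  refine ⟨A0.map π, (US F).map π, ?_, ?_, ?_, ?_, ?_, ?_⟩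
  · exact isCyclic_of_surjective (π.subgroupMap A0) (π.subgroupMap_surjective A0)
  · rw [Subgroup.card_map_of_injective hπinj, hcardA0]
  · haveI : IsMulCommutative (US F) := by
      refine ⟨⟨fun x y => ?_⟩⟩
      obtain ⟨a, ha⟩ := (mem_US _).mp x.2
      obtain ⟨b, hb⟩ := (mem_US _).mp y.2
      apply Subtype.ext
      rw [Subgroup.coe_mul, Subgroup.coe_mul, ← ha, ← hb, uS_mul, uS_mul, add_comm]
    infer_instance
  · rintro _ ⟨b, hb, rfl⟩
    obtain ⟨x, rfl⟩ := (mem_US _).mp hb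
    rw [← map_mul, uS_mul, CharTwo.add_self_eq_zero, uS_zero, map_one]
  · rw [Subgroup.card_map_of_injective hπinj, card_US]
  · intro g
    obtain ⟨h, rfl⟩ := hπsurj g
    obtain ⟨a, ha, b, hb, c, hc, habc⟩ := aba t hns h
    rw [← hA0] at ha hc
    refine ⟨π a, Subgroup.mem_map_of_mem π ha, π b, Subgroup.mem_map_of_mem π hb, π c,
      Subgroup.mem_map_of_mem π hc, ?_⟩
    rw [habc, map_mul, map_mul]

end Cfsg.Agent.S2503
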