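import Cfsg.Statements.S2505

import Cfsg.Agent.Lib.helper15.AbelianPerm
set_option autoImplicit false
open Cfsg

namespace Cfsg.Agent.S2505


open Cfsg.Agent.Lib.helper15

theorem greatest (n c : ℕ) (hex : HasAbelian (Fin n) c) (hc : maxProd n = c) :
    IsGreatest {c : ℕ | ∃ A : Subgroup (Equiv.Perm (Fin n)), IsMulCommutative A ∧ Nat.card A = c} c := by
  refine ⟨hex, ?_⟩
  rintro d ⟨A, hA, rfl⟩
  rw [← hc]
  exact abelian_perm_card_le n (Fin n) (Nat.card_fin n) A hA

/-- The largest order of an abelian subgroup of the symmetric group of degree n is 3^k when n = 3k, 4·3^(k−1) when n = 3k + 1, and 2·3^k when n = 3k + 2, for every k ≥ 1. -/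
theorem result (k : ℕ) (hk : 1 ≤ k) :
    IsGreatest {c : ℕ | ∃ A : Subgroup (Equiv.Perm (Fin (3 * k))), IsMulCommutative A ∧ Nat.card A = c} (3 ^ k) ∧
    IsGreatest {c : ℕ | ∃ A : Subgroup (Equiv.Perm (Fin (3 * k + 1))), IsMulCommutative A ∧ Nat.card A = c}
      (4 * 3 ^ (k - 1)) ∧
    IsGreatest {c : ℕ | ∃ A : Subgroup (Equiv.Perm (Fin (3 * k + 2))), IsMulCommutative A ∧ Nat.card A = c}
      (2 * 3 ^ k) := by
  exact ⟨greatest _ _ (hasAbelian_three_mul k) (maxProd_three_mul k),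
    greatest _ _ (hasAbelian_three_mul_add_one k hk) (maxProd_three_mul_add_one k hk),
    greatest _ _ (hasAbelian_three_mul_add_two k) (maxProd_three_mul_add_two k)⟩

end Cfsg.Agent.S2505
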