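import Cfsg.Statements.S2506
import Cfsg.Agent.Lib.Helper20.AbelAlt5

set_option autoImplicit false
open scoped Pointwise
open Cfsg

namespace Cfsg.Agent.S2506



/-- In the alternating group of any degree, any two abelian subgroups of the largest possible order (among abelian subgroups) are conjugate. -/
theorem result (n : ℕ)
    (A B : Subgroup (alternatingGroup (Fin n))) (hA : IsMulCommutative A) (hB : IsMulCommutative B)
    (hAmax : ∀ C : Subgroup (alternatingGroup (Fin n)), IsMulCommutative C → Nat.card C ≤ Nat.card A)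
    (hBmax : ∀ C : Subgroup (alternatingGroup (Fin n)), IsMulCommutative C → Nat.card C ≤ Nat.card B) :
    ∃ g : alternatingGroup (Fin n), B = MulAut.conj g • A := by
  open Cfsg.Agent.Lib.Helper20.AbelAlt Cfsg.Agent.Lib.Helper20.NilpSym in
  have hgr := greatest_alt n (altProd n) (hasAbelAlt_all n) rfl
  have hcA : Nat.card A = altProd n := by
    obtain ⟨C, hC, hCc⟩ := hgr.1
    have h1 := hAmax C hC
    have h2 := hgr.2 ⟨A, hA, rfl⟩
    omega
  have hcB : Nat.card B = altProd n := by
    obtain ⟨C, hC, hCc⟩ := hgr.1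
    have h1 := hBmax C hC
    have h2 := hgr.2 ⟨B, hB, rfl⟩
    omega
  by_cases hn2 : n ≤ 2
  · have h1 : altProd n = 1 := by
      interval_cases n <;> rfl
    rw [h1] at hcA hcB
    have hAB : A = B := by
      rw [Subgroup.card_eq_one.1 hcA, Subgroup.card_eq_one.1 hcB]
    refine ⟨1, ?_⟩
    rw [map_one, one_smul, hAB]
  by_cases hn5 : n = 5
  · subst hn5
    haveI : Fact (Nat.Prime 5) := ⟨by norm_num⟩
    have hG : Nat.card (alternatingGroup (Fin 5)) = 60 := by
      have h2 : 2 * Nat.card (alternatingGroup (Fin 5)) = Nat.factorial 5 := by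
        rw [two_mul_nat_card_alternatingGroup (α := Fin 5), Nat.card_perm, Nat.card_eq_fintype_card,
          Fintype.card_fin]
      have : Nat.factorial 5 = 120 := rfl
      omega
    have hfac : (Nat.card (alternatingGroup (Fin 5))).factorization 5 = 1 := by
      rw [hG]
      have e : (60 : ℕ) = 5 * 12 := by norm_num
      rw [e, Nat.factorization_mul (by norm_num) (by norm_num)]
      simp [Nat.Prime.factorization_self (by norm_num : Nat.Prime 5),
        Nat.factorization_eq_zero_of_not_dvd (by norm_num : ¬ 5 ∣ 12)]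
    have h5 : altProd 5 = 5 := rfl
    let PA : Sylow 5 (alternatingGroup (Fin 5)) :=
      Sylow.ofCard A (by rw [hcA, h5, hfac, pow_one])
    let PB : Sylow 5 (alternatingGroup (Fin 5)) :=
      Sylow.ofCard B (by rw [hcB, h5, hfac, pow_one])
    obtain ⟨g, hg⟩ := MulAction.exists_smul_eq (alternatingGroup (Fin 5)) PA PB
    refine ⟨g, ?_⟩
    have := congrArg (fun P : Sylow 5 (alternatingGroup (Fin 5)) =>
      (P : Subgroup (alternatingGroup (Fin 5)))) hg
    simp only [Sylow.coe_subgroup_smul] at this
    exact this.symm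
  · have key : ∀ N : Subgroup (alternatingGroup (Fin n)), IsMulCommutative N →
        ∃ N' : Subgroup (Equiv.Perm (Fin n)), N' = N.map (alternatingGroup (Fin n)).subtype ∧
          N' ≤ alternatingGroup (Fin n) ∧ (∀ a ∈ N', ∀ b ∈ N', a * b = b * a) ∧
          Nat.card N' = Nat.card N := by
      intro N hN
      refine ⟨_, rfl, ?_, ?_, ?_⟩
      · rintro _ ⟨g, _, rfl⟩
        exact g.2
      · rintro _ ⟨a, ha, rfl⟩ _ ⟨b, hb, rfl⟩
        rw [← map_mul, ← map_mul]
        congr 1
        exact congrArg Subtype.val (hN.is_comm.comm ⟨a, ha⟩ ⟨b, hb⟩)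
      · exact Subgroup.card_map_of_injective (alternatingGroup (Fin n)).subtype_injective
    obtain ⟨A', eA, hleA, hcommA, hcardA⟩ := key A hA
    obtain ⟨B', eB, hleB, hcommB, hcardB⟩ := key B hB
    have hcardn : Nat.card (Fin n) = n := by simp
    obtain ⟨g, hg, hgAB⟩ := conj_alt A' B' hcommA hcommB hleA hleB n hcardn (by omega) hn5
      (hcardA.trans hcA) (hcardB.trans hcB)
    refine ⟨⟨g, hg⟩, ?_⟩
    rw [Subgroup.pointwise_smul_def]
    apply conj_transport
    rw [← eA, ← eB]
    exact hgAB

end Cfsg.Agent.S2506
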