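import Cfsg.Statements.S2507

import Cfsg.Agent.Lib.helper15.SL2Char2
set_option autoImplicit false
open Cfsg

namespace Cfsg.Agent.S2507


open Cfsg.Agent.Lib.helper15

section Helpers

variable {F : Type*} [Field F] [Fintype F]

theorem center_eq_bot [CharP F 2] :
    Subgroup.center (Matrix.SpecialLinearGroup (Fin 2) F) = ⊥ := by
  rw [Subgroup.eq_bot_iff_forall]
  intro A hA
  rw [Matrix.SpecialLinearGroup.mem_center_iff] at hA
  obtain ⟨r, hr, hA⟩ := hA
  rw [Fintype.card_fin] at hr
  have h1 := sq_eq_one_char2 r hr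
  subst h1
  apply Subtype.ext
  rw [← hA]
  simp

theorem mk_injective [CharP F 2] :
    Function.Injective (QuotientGroup.mk' (Subgroup.center (Matrix.SpecialLinearGroup (Fin 2) F))) := by
  rw [← MonoidHom.ker_eq_bot_iff, QuotientGroup.ker_mk', center_eq_bot]

noncomputable def eqv [CharP F 2] :
    Matrix.SpecialLinearGroup (Fin 2) F ≃* Matrix.ProjectiveSpecialLinearGroup (Fin 2) F :=
  MulEquiv.ofBijective (QuotientGroup.mk' (Subgroup.center (Matrix.SpecialLinearGroup (Fin 2) F)))
    ⟨mk_injective, QuotientGroup.mk'_surjective _⟩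

theorem index_eqv [CharP F 2] (s : Matrix.SpecialLinearGroup (Fin 2) F) :
    (Subgroup.centralizer ({eqv s} : Set (Matrix.ProjectiveSpecialLinearGroup (Fin 2) F))).index =
      (Subgroup.centralizer ({s} : Set (Matrix.SpecialLinearGroup (Fin 2) F))).index := by
  have hc : (Subgroup.centralizer ({eqv s} : Set (Matrix.ProjectiveSpecialLinearGroup (Fin 2) F))).comap
      (eqv : Matrix.SpecialLinearGroup (Fin 2) F ≃* Matrix.ProjectiveSpecialLinearGroup (Fin 2) F).toMonoidHom =
      Subgroup.centralizer ({s} : Set (Matrix.SpecialLinearGroup (Fin 2) F)) := by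
    ext x
    rw [Subgroup.mem_comap, Subgroup.mem_centralizer_singleton_iff,
      Subgroup.mem_centralizer_singleton_iff]
    show eqv x * eqv s = eqv s * eqv x ↔ _
    rw [← map_mul, ← map_mul, (eqv : Matrix.SpecialLinearGroup (Fin 2) F ≃* _).injective.eq_iff]
  rw [← hc]
  exact (Subgroup.index_comap_of_surjective _ (eqv : Matrix.SpecialLinearGroup (Fin 2) F ≃* _).surjective).symm

theorem nonscalar_of_ne_one [CharP F 2] (s : Matrix.SpecialLinearGroup (Fin 2) F) (hs : s ≠ 1) :
    ∀ c : F, (s : Matrix (Fin 2) (Fin 2) F) ≠ c • (1 : Matrix (Fin 2) (Fin 2) F) := by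
  intro c hc
  have hdet : (s : Matrix (Fin 2) (Fin 2) F).det = 1 := s.2
  rw [hc, Matrix.det_smul, Matrix.det_one, Fintype.card_fin, mul_one] at hdet
  have h1 := sq_eq_one_char2 c hdet
  rw [h1, one_smul] at hc
  apply hs
  apply Subtype.ext
  exact hc

theorem card_mul_index_SL (s : Matrix.SpecialLinearGroup (Fin 2) F)
    (hs : ∀ c : F, (s : Matrix (Fin 2) (Fin 2) F) ≠ c • (1 : Matrix (Fin 2) (Fin 2) F)) :
    Nat.card (normSet (s : Matrix (Fin 2) (Fin 2) F).trace) *
      (Subgroup.centralizer ({s} : Set (Matrix.SpecialLinearGroup (Fin 2) F))).index =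
      Fintype.card F * (Fintype.card F ^ 2 - 1) := by
  rw [← card_centralizer_eq s hs, Subgroup.card_mul_index, card_SL2]

theorem index_of_trace_zero [CharP F 2] (s : Matrix.SpecialLinearGroup (Fin 2) F)
    (hs : ∀ c : F, (s : Matrix (Fin 2) (Fin 2) F) ≠ c • (1 : Matrix (Fin 2) (Fin 2) F))
    (ht : (s : Matrix (Fin 2) (Fin 2) F).trace = 0) :
    (Subgroup.centralizer ({s} : Set (Matrix.SpecialLinearGroup (Fin 2) F))).index =
      Fintype.card F ^ 2 - 1 := by
  have hq : 2 ≤ Fintype.card F := Fintype.one_lt_card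
  have h := card_mul_index_SL s hs
  rw [ht, card_normSet_zero] at h
  exact Nat.eq_of_mul_eq_mul_left (by omega) h

theorem index_of_split [CharP F 2] (s : Matrix.SpecialLinearGroup (Fin 2) F)
    (hs : ∀ c : F, (s : Matrix (Fin 2) (Fin 2) F) ≠ c • (1 : Matrix (Fin 2) (Fin 2) F))
    (ht : (s : Matrix (Fin 2) (Fin 2) F).trace ≠ 0) (l : F)
    (hl : l ^ 2 - (s : Matrix (Fin 2) (Fin 2) F).trace * l + 1 = 0) :
    (Subgroup.centralizer ({s} : Set (Matrix.SpecialLinearGroup (Fin 2) F))).index =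
      Fintype.card F * (Fintype.card F + 1) := by
  have hq : 2 ≤ Fintype.card F := Fintype.one_lt_card
  have h := card_mul_index_SL s hs
  have hl1 : l ^ 2 ≠ 1 := by
    intro h1
    have h2 := sq_eq_one_char2 l h1
    subst h2
    apply ht
    have h3 := CharTwo.add_self_eq_zero (1 : F)
    linear_combination h3 - hl
  rw [card_normSet_split _ l hl hl1] at h
  have h3 : Fintype.card F * (Fintype.card F ^ 2 - 1) =
      (Fintype.card F - 1) * (Fintype.card F * (Fintype.card F + 1)) := by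
    obtain ⟨k, hk⟩ : ∃ k, Fintype.card F = k + 1 := ⟨Fintype.card F - 1, by omega⟩
    rw [hk]
    simp only [Nat.add_sub_cancel]
    have : (k + 1) ^ 2 = k * (k + 1 + 1) + 1 := by ring
    rw [this, Nat.add_sub_cancel]
    ring
  rw [h3] at h
  exact Nat.eq_of_mul_eq_mul_left (by omega) h

theorem index_of_nonsplit [CharP F 2] (s : Matrix.SpecialLinearGroup (Fin 2) F)
    (hs : ∀ c : F, (s : Matrix (Fin 2) (Fin 2) F) ≠ c • (1 : Matrix (Fin 2) (Fin 2) F))
    (hns : ∀ l : F, l ^ 2 - (s : Matrix (Fin 2) (Fin 2) F).trace * l + 1 ≠ 0) :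
    (Subgroup.centralizer ({s} : Set (Matrix.SpecialLinearGroup (Fin 2) F))).index =
      Fintype.card F * (Fintype.card F - 1) := by
  have hq : 2 ≤ Fintype.card F := Fintype.one_lt_card
  have h := card_mul_index_SL s hs
  rw [card_normSet_nonsplit _ hns] at h
  have h3 : Fintype.card F * (Fintype.card F ^ 2 - 1) =
      (Fintype.card F + 1) * (Fintype.card F * (Fintype.card F - 1)) := by
    obtain ⟨k, hk⟩ : ∃ k, Fintype.card F = k + 1 := ⟨Fintype.card F - 1, by omega⟩
    rw [hk]
    simp only [Nat.add_sub_cancel]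
    have : (k + 1) ^ 2 = k * (k + 1 + 1) + 1 := by ring
    rw [this, Nat.add_sub_cancel]
    ring
  rw [h3] at h
  exact Nat.eq_of_mul_eq_mul_left (by omega) h

theorem exists_unip [CharP F 2] : ∃ s : Matrix.SpecialLinearGroup (Fin 2) F,
    (∀ c : F, (s : Matrix (Fin 2) (Fin 2) F) ≠ c • (1 : Matrix (Fin 2) (Fin 2) F)) ∧
    (s : Matrix (Fin 2) (Fin 2) F).trace = 0 := by
  refine ⟨⟨!![1, 1; 0, 1], by simp [Matrix.det_fin_two]⟩, ?_, ?_⟩
  · intro c hc
    have := congrFun (congrFun hc 0) 1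
    simp at this
  · show (!![1, 1; 0, 1] : Matrix (Fin 2) (Fin 2) F).trace = 0
    rw [Matrix.trace_fin_two]
    simp
    exact CharTwo.add_self_eq_zero (1 : F)

theorem exists_diag [CharP F 2] (h4 : 4 ≤ Fintype.card F) :
    ∃ s : Matrix.SpecialLinearGroup (Fin 2) F,
    (∀ c : F, (s : Matrix (Fin 2) (Fin 2) F) ≠ c • (1 : Matrix (Fin 2) (Fin 2) F)) ∧
    (s : Matrix (Fin 2) (Fin 2) F).trace ≠ 0 ∧
    ∃ l : F, l ^ 2 - (s : Matrix (Fin 2) (Fin 2) F).trace * l + 1 = 0 := by
  classical
  obtain ⟨l, hl0, hl1⟩ : ∃ l : F, l ≠ 0 ∧ l ≠ 1 := by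
    by_contra hcon
    push Not at hcon
    have hsub : (Finset.univ : Finset F) ⊆ {0, 1} := by
      intro x _
      by_cases hx : x = 0
      · simp [hx]
      · simp [hcon x hx]
    have := Finset.card_le_card hsub
    rw [Finset.card_univ] at this
    have h2 : ({0, 1} : Finset F).card ≤ 2 := Finset.card_le_two
    omega
  have hll : l ≠ l⁻¹ := by
    intro h
    apply hl1
    apply sq_eq_one_char2
    rw [pow_two]
    nth_rewrite 2 [h]
    exact mul_inv_cancel₀ hl0
  refine ⟨⟨!![l, 0; 0, l⁻¹], by simp [Matrix.det_fin_two, hl0]⟩, ?_, ?_, l, ?_⟩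
  · intro c hc
    have h00 := congrFun (congrFun hc 0) 0
    have h11 := congrFun (congrFun hc 1) 1
    simp at h00 h11
    exact hll (h00.trans h11.symm)
  · show (!![l, 0; 0, l⁻¹] : Matrix (Fin 2) (Fin 2) F).trace ≠ 0
    rw [Matrix.trace_fin_two]
    simp
    intro h
    apply hll
    exact CharTwo.add_eq_zero.mp h
  · show l ^ 2 - (!![l, 0; 0, l⁻¹] : Matrix (Fin 2) (Fin 2) F).trace * l + 1 = 0
    rw [Matrix.trace_fin_two]
    simp
    field_simp
    ring

theorem exists_companion [CharP F 2] :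
    ∃ s : Matrix.SpecialLinearGroup (Fin 2) F,
    (∀ c : F, (s : Matrix (Fin 2) (Fin 2) F) ≠ c • (1 : Matrix (Fin 2) (Fin 2) F)) ∧
    ∀ l : F, l ^ 2 - (s : Matrix (Fin 2) (Fin 2) F).trace * l + 1 ≠ 0 := by
  obtain ⟨t, ht0, ht⟩ := exists_nonsplit (F := F)
  refine ⟨⟨!![0, 1; 1, t], by simp [Matrix.det_fin_two, CharTwo.neg_eq]⟩, ?_, ?_⟩
  · intro c hc
    have := congrFun (congrFun hc 0) 1
    simp at this
  · show ∀ l : F, l ^ 2 - (!![0, 1; 1, t] : Matrix (Fin 2) (Fin 2) F).trace * l + 1 ≠ 0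
    rw [Matrix.trace_fin_two]
    simpa using ht

end Helpers

/-- Let F be a finite field with q = 2^f ≥ 4 elements. The conjugacy class sizes of PSL(2,F) are exactly 1, q(q − 1), q² − 1 and q(q + 1). -/
theorem result {F : Type*} [Field F] [Fintype F]
    (h2 : 2 ∣ Fintype.card F) (h4 : 4 ≤ Fintype.card F) :
    Set.range (fun g : (Matrix.ProjectiveSpecialLinearGroup (Fin 2) F) => (Subgroup.centralizer ({g} : Set (Matrix.ProjectiveSpecialLinearGroup (Fin 2) F))).index) =
      {1, Fintype.card F * (Fintype.card F - 1), Fintype.card F ^ 2 - 1, Fintype.card F * (Fintype.card F + 1)} := by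
  have hchar : CharP F 2 := charTwo_of_even_card h2
  ext x
  simp only [Set.mem_range, Set.mem_insert_iff, Set.mem_singleton_iff]
  constructor
  · rintro ⟨g, rfl⟩
    obtain ⟨s, rfl⟩ := (eqv : Matrix.SpecialLinearGroup (Fin 2) F ≃* _).surjective g
    rw [index_eqv]
    by_cases hs1 : s = 1
    · left
      subst hs1
      have : Subgroup.centralizer ({1} : Set (Matrix.SpecialLinearGroup (Fin 2) F)) = ⊤ := by
        ext y
        simp [Subgroup.mem_centralizer_singleton_iff]
      rw [this, Subgroup.index_top]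
    · have hs := nonscalar_of_ne_one s hs1
      by_cases ht : (s : Matrix (Fin 2) (Fin 2) F).trace = 0
      · right; right; left
        exact index_of_trace_zero s hs ht
      · by_cases hsp : ∃ l : F, l ^ 2 - (s : Matrix (Fin 2) (Fin 2) F).trace * l + 1 = 0
        · obtain ⟨l, hl⟩ := hsp
          right; right; right
          exact index_of_split s hs ht l hl
        · push Not at hsp
          right; left
          exact index_of_nonsplit s hs hsp
  · rintro (rfl | rfl | rfl | rfl)
    · refine ⟨eqv (1 : Matrix.SpecialLinearGroup (Fin 2) F), ?_⟩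
      rw [index_eqv]
      have : Subgroup.centralizer ({1} : Set (Matrix.SpecialLinearGroup (Fin 2) F)) = ⊤ := by
        ext y
        simp [Subgroup.mem_centralizer_singleton_iff]
      rw [this, Subgroup.index_top]
    · obtain ⟨s, hs, hns⟩ := exists_companion (F := F)
      refine ⟨eqv s, ?_⟩
      rw [index_eqv]
      exact index_of_nonsplit s hs hns
    · obtain ⟨s, hs, ht⟩ := exists_unip (F := F)
      refine ⟨eqv s, ?_⟩
      rw [index_eqv]
      exact index_of_trace_zero s hs ht
    · obtain ⟨s, hs, ht, l, hl⟩ := exists_diag (F := F) h4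
      refine ⟨eqv s, ?_⟩
      rw [index_eqv]
      exact index_of_split s hs ht l hl

end Cfsg.Agent.S2507
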