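import Cfsg.Statements.S2510

import Cfsg.Agent.Lib.helper15.PslMix
set_option autoImplicit false
open Cfsg

namespace Cfsg.Agent.S2510


open Cfsg.Agent.Lib.helper15.PslMix

/-- Let F be a finite field with q = p^a elements, n ≥ 2 (with q ≥ 4 when n = 2), L = PSL(n, F), and let r be a prime dividing q − 1 and not dividing n. Then for every m the direct product L × L × L × (ℤ/r)^m has the same set of element orders as L × L × L; and if n − 1 ≠ p^j for every j ≥ 0 (so never when n = 2, since 1 = p^0), then already L × L × (ℤ/r)^m has the same set of element orders as L × L. -/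
theorem result {F : Type*} [Field F] [Fintype F] (p a n r m : ℕ) (hp : p.Prime) (ha : 1 ≤ a) (hF : Fintype.card F = p ^ a)
    (hn : 2 ≤ n) (hn2 : n = 2 → 4 ≤ Fintype.card F) (hr : r.Prime) (hrq : r ∣ Fintype.card F - 1) (hrn : ¬ r ∣ n) :
    Set.range (orderOf : Matrix.ProjectiveSpecialLinearGroup (Fin n) F × Matrix.ProjectiveSpecialLinearGroup (Fin n) F × Matrix.ProjectiveSpecialLinearGroup (Fin n) F × Multiplicative (Fin m → ZMod r) → ℕ) =
      Set.range (orderOf : Matrix.ProjectiveSpecialLinearGroup (Fin n) F × Matrix.ProjectiveSpecialLinearGroup (Fin n) F × Matrix.ProjectiveSpecialLinearGroup (Fin n) F → ℕ) ∧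
    ((¬ ∃ j : ℕ, n - 1 = p ^ j) →
      Set.range (orderOf : Matrix.ProjectiveSpecialLinearGroup (Fin n) F × Matrix.ProjectiveSpecialLinearGroup (Fin n) F × Multiplicative (Fin m → ZMod r) → ℕ) =
        Set.range (orderOf : Matrix.ProjectiveSpecialLinearGroup (Fin n) F × Matrix.ProjectiveSpecialLinearGroup (Fin n) F → ℕ)) := by
  have hfp : Fact p.Prime := ⟨hp⟩
  have hchar : CharP F p := charP_of_card_eq_prime_pow hF
  constructor
  · ext N
    constructor
    · rintro ⟨⟨x1, x2, x3, z⟩, rfl⟩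
      rw [Prod.orderOf, Prod.orderOf, Prod.orderOf]
      rcases orderOf_zr hr z with hz | hz
      · refine ⟨(x1, x2, x3), ?_⟩
        rw [Prod.orderOf, Prod.orderOf]
        show Nat.lcm (orderOf x1) (Nat.lcm (orderOf x2) (orderOf x3)) =
          Nat.lcm (orderOf x1) (Nat.lcm (orderOf x2) (Nat.lcm (orderOf x3) (orderOf z)))
        rw [hz, Nat.lcm_one_right]
      · obtain ⟨y1, y2, y3, hy⟩ := claim3 p n hn r hr hrq hrn x1 x2 x3
        refine ⟨(y1, y2, y3), ?_⟩
        rw [Prod.orderOf, Prod.orderOf]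
        show Nat.lcm (orderOf y1) (Nat.lcm (orderOf y2) (orderOf y3)) =
          Nat.lcm (orderOf x1) (Nat.lcm (orderOf x2) (Nat.lcm (orderOf x3) (orderOf z)))
        rw [hz]
        exact hy
    · rintro ⟨⟨x1, x2, x3⟩, rfl⟩
      refine ⟨(x1, x2, x3, 1), ?_⟩
      rw [Prod.orderOf, Prod.orderOf, Prod.orderOf, Prod.orderOf, Prod.orderOf]
      show Nat.lcm (orderOf x1) (Nat.lcm (orderOf x2) (Nat.lcm (orderOf x3) (orderOf (1 : Multiplicative (Fin m → ZMod r))))) =
        Nat.lcm (orderOf x1) (Nat.lcm (orderOf x2) (orderOf x3))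
      rw [orderOf_one, Nat.lcm_one_right]
  · intro hnp
    ext N
    constructor
    · rintro ⟨⟨x1, x2, z⟩, rfl⟩
      rw [Prod.orderOf, Prod.orderOf]
      rcases orderOf_zr hr z with hz | hz
      · refine ⟨(x1, x2), ?_⟩
        rw [Prod.orderOf]
        show Nat.lcm (orderOf x1) (orderOf x2) =
          Nat.lcm (orderOf x1) (Nat.lcm (orderOf x2) (orderOf z))
        rw [hz, Nat.lcm_one_right]
      · obtain ⟨y1, y2, hy⟩ := claim2 p n hn r hr hrq hrn hnp x1 x2
        refine ⟨(y1, y2), ?_⟩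
        rw [Prod.orderOf]
        show Nat.lcm (orderOf y1) (orderOf y2) =
          Nat.lcm (orderOf x1) (Nat.lcm (orderOf x2) (orderOf z))
        rw [hz]
        exact hy
    · rintro ⟨⟨x1, x2⟩, rfl⟩
      refine ⟨(x1, x2, 1), ?_⟩
      rw [Prod.orderOf, Prod.orderOf, Prod.orderOf]
      show Nat.lcm (orderOf x1) (Nat.lcm (orderOf x2) (orderOf (1 : Multiplicative (Fin m → ZMod r)))) =
        Nat.lcm (orderOf x1) (orderOf x2)
      rw [orderOf_one, Nat.lcm_one_right]

end Cfsg.Agent.S2510
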