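import Cfsg.Statements.S2511

import Cfsg.Agent.Lib.helper15.UTorus
set_option autoImplicit false
open Cfsg

namespace Cfsg.Agent.S2511


open Cfsg.Agent.Lib.helper15.PslMix Cfsg.Agent.Lib.helper15.UMix Cfsg.Agent.Lib.helper15.UTorus
open Cfsg.Agent.Lib.helper15.MixAbs Cfsg.Agent.Lib.helper15.UNat

/-- Let F be a finite field with q² elements, q = p^a, n ≥ 3 with (n, q) ≠ (3, 2), L = PSU(n, q) realised over F, and let r be a prime dividing q + 1 and not dividing n. Then for every m the direct product L × L × L × (ℤ/r)^m has the same set of element orders as L × L × L; and if n − 1 is not a power of p, then already L × L × (ℤ/r)^m has the same set of element orders as L × L. -/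
theorem result {F : Type*} [Field F] [Fintype F] (p a n q r m : ℕ) (hp : p.Prime) (ha : 1 ≤ a) (hq : q = p ^ a) (hF : Fintype.card F = q ^ 2)
    (hn : 3 ≤ n) (hn3 : ¬ (n = 3 ∧ q = 2)) (hr : r.Prime) (hrq : r ∣ q + 1) (hrn : ¬ r ∣ n) :
    Set.range (orderOf : Cfsg.PSU n F q × Cfsg.PSU n F q × Cfsg.PSU n F q × Multiplicative (Fin m → ZMod r) → ℕ) = Set.range (orderOf : Cfsg.PSU n F q × Cfsg.PSU n F q × Cfsg.PSU n F q → ℕ) ∧
    ((¬ ∃ j : ℕ, n - 1 = p ^ j) →
      Set.range (orderOf : Cfsg.PSU n F q × Cfsg.PSU n F q × Multiplicative (Fin m → ZMod r) → ℕ) = Set.range (orderOf : Cfsg.PSU n F q × Cfsg.PSU n F q → ℕ)) := by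
  have hfp : Fact p.Prime := ⟨hp⟩
  have hF' : Fintype.card F = p ^ (a * 2) := by rw [hF, hq, ← pow_mul]
  have hchar : CharP F p := charP_of_card_eq_prime_pow hF'
  have hfin : Finite (Cfsg.PSU n F q) := finite_PSU n q
  have hrp : r ≠ p := r_ne_p_u (K := F) p a hq ha r hrq
  have hsplit : ∀ x : Cfsg.PSU n F q, ¬ r ∣ orderOf x → (∃ y : Cfsg.PSU n F q, orderOf y = orderOf x * r) ∨
      (∃ v M : ℕ, orderOf x = p ^ v * M ∧ M.Coprime p ∧ M ∣ Dn q n ∧ ∃ y : Cfsg.PSU n F q, orderOf y = p ^ v) :=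
    fun x hx => split_of_dich p r (Dn q n) hp hr
      (fun x => psu_dichotomy p a hq hF (by omega) r hr hrq hrn x) x hx
  have hT : ∃ g : Cfsg.PSU n F q, orderOf g = Dn q n := exists_torus_u p a hq hF (by omega)
  have hrT : ∃ y : Cfsg.PSU n F q, orderOf y = r := ur_T p a hq ha hF (by omega) r hr hrq hrn
  constructor
  · ext N
    constructor
    · rintro ⟨⟨x1, x2, x3, z⟩, rfl⟩
      rw [Prod.orderOf, Prod.orderOf, Prod.orderOf]
      rcases orderOf_zr hr z with hz | hz
      · refine ⟨(x1, x2, x3), ?_⟩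
        rw [Prod.orderOf, Prod.orderOf]
        show Nat.lcm (orderOf x1) (Nat.lcm (orderOf x2) (orderOf x3)) =
          Nat.lcm (orderOf x1) (Nat.lcm (orderOf x2) (Nat.lcm (orderOf x3) (orderOf z)))
        rw [hz, Nat.lcm_one_right]
      · obtain ⟨y1, y2, y3, hy⟩ := claim3_abs p r (Dn q n) hp hr hrp hsplit hT hrT x1 x2 x3
        refine ⟨(y1, y2, y3), ?_⟩
        rw [Prod.orderOf, Prod.orderOf]
        show Nat.lcm (orderOf y1) (Nat.lcm (orderOf y2) (orderOf y3)) =
          Nat.lcm (orderOf x1) (Nat.lcm (orderOf x2) (Nat.lcm (orderOf x3) (orderOf z)))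
        rw [hz]
        exact hy
    · rintro ⟨⟨x1, x2, x3⟩, rfl⟩
      refine ⟨(x1, x2, x3, 1), ?_⟩
      rw [Prod.orderOf, Prod.orderOf, Prod.orderOf, Prod.orderOf, Prod.orderOf]
      show Nat.lcm (orderOf x1) (Nat.lcm (orderOf x2) (Nat.lcm (orderOf x3) (orderOf (1 : Multiplicative (Fin m → ZMod r))))) =
        Nat.lcm (orderOf x1) (Nat.lcm (orderOf x2) (orderOf x3))
      rw [orderOf_one, Nat.lcm_one_right]
  · intro hnp
    have hprT : ∀ c : ℕ, (∃ w : Cfsg.PSU n F q, orderOf w = p ^ (c + 1)) →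
        ∃ y : Cfsg.PSU n F q, orderOf y = p ^ (c + 1) * r := by
      rintro c ⟨w, hw⟩
      have hlt := uppow_lt p (by omega) c w hw
      have hne : p ^ c ≠ n - 1 := fun h => hnp ⟨c, h.symm⟩
      exact upr_T p a hq ha hF (by omega) r hr hrq hrn c (by omega)
    ext N
    constructor
    · rintro ⟨⟨x1, x2, z⟩, rfl⟩
      rw [Prod.orderOf, Prod.orderOf]
      rcases orderOf_zr hr z with hz | hz
      · refine ⟨(x1, x2), ?_⟩
        rw [Prod.orderOf]
        show Nat.lcm (orderOf x1) (orderOf x2) =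
          Nat.lcm (orderOf x1) (Nat.lcm (orderOf x2) (orderOf z))
        rw [hz, Nat.lcm_one_right]
      · obtain ⟨y1, y2, hy⟩ := claim2_abs p r (Dn q n) hp hr hrp hsplit hT hrT hprT x1 x2
        refine ⟨(y1, y2), ?_⟩
        rw [Prod.orderOf]
        show Nat.lcm (orderOf y1) (orderOf y2) =
          Nat.lcm (orderOf x1) (Nat.lcm (orderOf x2) (orderOf z))
        rw [hz]
        exact hy
    · rintro ⟨⟨x1, x2⟩, rfl⟩
      refine ⟨(x1, x2, 1), ?_⟩
      rw [Prod.orderOf, Prod.orderOf, Prod.orderOf]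
      show Nat.lcm (orderOf x1) (Nat.lcm (orderOf x2) (orderOf (1 : Multiplicative (Fin m → ZMod r)))) =
        Nat.lcm (orderOf x1) (orderOf x2)
      rw [orderOf_one, Nat.lcm_one_right]

end Cfsg.Agent.S2511
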