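import Cfsg.Statements.S2512

import Cfsg.Agent.Lib.helper15.PSpMix
set_option autoImplicit false
open Cfsg

namespace Cfsg.Agent.S2512


open Cfsg.Agent.Lib.helper15.PslMix Cfsg.Agent.Lib.helper15.PSpMix

/-- Let F be a finite field of odd order q = p^a, n ≥ 2 (with q ≥ 3 automatic), and L = PSp(2n, F). Then for every m the direct product L × L × L × (ℤ/2)^m has the same set of element orders as L × L × L; and if 2n − 1 is not a power of p, then already L × L × (ℤ/2)^m has the same set of element orders as L × L. -/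
theorem result {F : Type*} [Field F] [Fintype F] (p a n m : ℕ) (hp : p.Prime) (ha : 1 ≤ a) (hF : Fintype.card F = p ^ a) (hodd : Odd (Fintype.card F))
    (hn : 2 ≤ n) :
    Set.range (orderOf : Cfsg.PSp n F × Cfsg.PSp n F × Cfsg.PSp n F × Multiplicative (Fin m → ZMod 2) → ℕ) = Set.range (orderOf : Cfsg.PSp n F × Cfsg.PSp n F × Cfsg.PSp n F → ℕ) ∧
    ((¬ ∃ j : ℕ, 2 * n - 1 = p ^ j) →
      Set.range (orderOf : Cfsg.PSp n F × Cfsg.PSp n F × Multiplicative (Fin m → ZMod 2) → ℕ) = Set.range (orderOf : Cfsg.PSp n F × Cfsg.PSp n F → ℕ)) := by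
  have hfp : Fact p.Prime := ⟨hp⟩
  have hchar : CharP F p := charP_of_card_eq_prime_pow hF
  have hp2 : p ≠ 2 := by
    intro h
    rw [hF, h] at hodd
    have : Even (2 ^ a) := (Nat.even_pow' (by omega)).2 even_two
    exact (Nat.not_odd_iff_even.2 this) hodd
  have hr : (2 : ℕ).Prime := Nat.prime_two
  constructor
  · ext N
    constructor
    · rintro ⟨⟨x1, x2, x3, z⟩, rfl⟩
      rw [Prod.orderOf, Prod.orderOf, Prod.orderOf]
      rcases orderOf_zr hr z with hz | hz
      · refine ⟨(x1, x2, x3), ?_⟩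
        rw [Prod.orderOf, Prod.orderOf]
        show Nat.lcm (orderOf x1) (Nat.lcm (orderOf x2) (orderOf x3)) =
          Nat.lcm (orderOf x1) (Nat.lcm (orderOf x2) (Nat.lcm (orderOf x3) (orderOf z)))
        rw [hz, Nat.lcm_one_right]
      · obtain ⟨y1, y2, y3, hy⟩ := claim3 p hp2 n hn x1 x2 x3
        refine ⟨(y1, y2, y3), ?_⟩
        rw [Prod.orderOf, Prod.orderOf]
        show Nat.lcm (orderOf y1) (Nat.lcm (orderOf y2) (orderOf y3)) =
          Nat.lcm (orderOf x1) (Nat.lcm (orderOf x2) (Nat.lcm (orderOf x3) (orderOf z)))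
        rw [hz]
        exact hy
    · rintro ⟨⟨x1, x2, x3⟩, rfl⟩
      refine ⟨(x1, x2, x3, 1), ?_⟩
      rw [Prod.orderOf, Prod.orderOf, Prod.orderOf, Prod.orderOf, Prod.orderOf]
      show Nat.lcm (orderOf x1) (Nat.lcm (orderOf x2) (Nat.lcm (orderOf x3) (orderOf (1 : Multiplicative (Fin m → ZMod 2))))) =
        Nat.lcm (orderOf x1) (Nat.lcm (orderOf x2) (orderOf x3))
      rw [orderOf_one, Nat.lcm_one_right]
  · intro hnp
    ext N
    constructor
    · rintro ⟨⟨x1, x2, z⟩, rfl⟩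
      rw [Prod.orderOf, Prod.orderOf]
      rcases orderOf_zr hr z with hz | hz
      · refine ⟨(x1, x2), ?_⟩
        rw [Prod.orderOf]
        show Nat.lcm (orderOf x1) (orderOf x2) =
          Nat.lcm (orderOf x1) (Nat.lcm (orderOf x2) (orderOf z))
        rw [hz, Nat.lcm_one_right]
      · obtain ⟨y1, y2, hy⟩ := claim2 p hp2 n hn hnp x1 x2
        refine ⟨(y1, y2), ?_⟩
        rw [Prod.orderOf]
        show Nat.lcm (orderOf y1) (orderOf y2) =
          Nat.lcm (orderOf x1) (Nat.lcm (orderOf x2) (orderOf z))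
        rw [hz]
        exact hy
    · rintro ⟨⟨x1, x2⟩, rfl⟩
      refine ⟨(x1, x2, 1), ?_⟩
      rw [Prod.orderOf, Prod.orderOf, Prod.orderOf]
      show Nat.lcm (orderOf x1) (Nat.lcm (orderOf x2) (orderOf (1 : Multiplicative (Fin m → ZMod 2)))) =
        Nat.lcm (orderOf x1) (orderOf x2)
      rw [orderOf_one, Nat.lcm_one_right]

end Cfsg.Agent.S2512
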