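import Cfsg.Statements.S2513

import Cfsg.Agent.S2364
set_option autoImplicit false
open Cfsg

namespace Cfsg.Agent.S2513


section ppow

variable {F : Type*} [Field F] [Fintype F] {V : Type*} [AddCommGroup V] [Module F V] [Finite V]

open Cfsg.Agent.S2468 in
theorem ppow_dvd (r a : ℕ) (hr : r.Prime) (hrq : ¬ r ∣ Fintype.card F) (f : Module.End F V)
    (hf : f ^ r ^ (a + 1) = 1) (hf0 : f ^ r ^ a ≠ 1) :
    ∃ d, 1 ≤ d ∧ d ≤ Module.finrank F V ∧ r ^ (a + 1) ∣ Fintype.card F ^ d - 1 := by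
  classical
  have : Module.Finite F V := inferInstance
  haveI : Fact r.Prime := ⟨hr⟩
  obtain ⟨N, hN⟩ : ∃ N, N = r ^ (a + 1) := ⟨_, rfl⟩
  rw [← hN] at hf ⊢
  have hNpos : 0 < N := by rw [hN]; exact pow_pos hr.pos _
  obtain ⟨f0, hf0def⟩ : ∃ f0, f0 = f ^ r ^ a := ⟨_, rfl⟩
  rw [← hf0def] at hf0
  obtain ⟨W, hW⟩ : ∃ W, W = fx f0 := ⟨_, rfl⟩
  have hfinv1 : ∀ v, (f ^ (N - 1)) (f v) = v := by
    intro v
    rw [← Module.End.mul_apply, ← pow_succ, Nat.sub_add_cancel hNpos, hf]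
    rfl
  have hfinv2 : ∀ v, f ((f ^ (N - 1)) v) = v := by
    intro v
    rw [← Module.End.mul_apply, ← pow_succ', Nat.sub_add_cancel hNpos, hf]
    rfl
  have hcomm : ∀ v, f0 (f v) = f (f0 v) := by
    intro v
    rw [← Module.End.mul_apply, ← Module.End.mul_apply, hf0def, ← pow_succ, ← pow_succ']
  have hfinj : Function.Injective f := fun u v h => by rw [← hfinv1 u, ← hfinv1 v, h]
  let σV : Equiv.Perm V := ⟨fun v => f v, fun v => (f ^ (N - 1)) v, hfinv1, hfinv2⟩
  have hmemW : ∀ v, v ∈ W ↔ f0 v = v := fun v => by rw [hW, mem_fx]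
  have hmem : ∀ v, (σV v ∉ W) ↔ (v ∉ W) := by
    intro v
    show (f v ∉ W) ↔ (v ∉ W)
    rw [hmemW, hmemW, hcomm]
    exact not_congr hfinj.eq_iff
  let σ : Equiv.Perm {v : V // v ∉ W} := σV.subtypePerm hmem
  have hσpow : ∀ (j : ℕ) (x : {v : V // v ∉ W}), ((σ ^ j) x : V) = (f ^ j) x := by
    intro j
    induction j with
    | zero => intro x; rfl
    | succ j ih =>
      intro x
      rw [pow_succ', pow_succ', Equiv.Perm.mul_apply, Module.End.mul_apply, ← ih]
      rfl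
  have hσN : σ ^ N = 1 := by
    ext x
    rw [hσpow, hf]
    rfl
  have hne : W ≠ ⊤ := by
    rw [hW]
    exact fx_lt_top f0 hf0
  have hmove : ∀ x : {v : V // v ∉ W}, (σ ^ r ^ a) x ≠ x := by
    intro x h
    apply x.2
    rw [hmemW, hf0def, ← hσpow, h]
  have hstab : ∀ x : {v : V // v ∉ W}, ∀ j : ℕ, (σ ^ j) x = x → σ ^ j = 1 := by
    intro x j hj
    have h1 : Function.IsPeriodicPt σ j x := by
      show (⇑σ)^[j] x = x
      rw [Equiv.Perm.iterate_eq_pow]
      exact hj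
    have h2 : Function.IsPeriodicPt σ N x := by
      show (⇑σ)^[N] x = x
      rw [Equiv.Perm.iterate_eq_pow, hσN]
      rfl
    have h3 := h2.minimalPeriod_dvd
    rw [hN, Nat.dvd_prime_pow hr] at h3
    obtain ⟨b, hb, hb2⟩ := h3
    have h4 : b = a + 1 := by
      by_contra hcon
      have hb3 : b ≤ a := by omega
      have h5 : Function.IsPeriodicPt σ (r ^ a) x := by
        rw [Function.isPeriodicPt_iff_minimalPeriod_dvd, hb2]
        exact pow_dvd_pow r hb3
      apply hmove x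
      have h6 : (⇑σ)^[r ^ a] x = x := h5
      rw [Equiv.Perm.iterate_eq_pow] at h6
      exact h6
    rw [h4, ← hN] at hb2
    have h7 := h1.minimalPeriod_dvd
    rw [hb2] at h7
    obtain ⟨c, rfl⟩ := h7
    rw [pow_mul, hσN, one_pow]
  have hstab' : ∀ x : {v : V // v ∉ W},
      MulAction.stabilizer (Subgroup.zpowers σ) x = ⊥ := by
    intro x
    rw [eq_bot_iff]
    rintro ⟨τ, hτ⟩ hfix
    rw [MulAction.mem_stabilizer_iff] at hfix
    obtain ⟨j, rfl⟩ := mem_powers_iff_mem_zpowers.mpr hτ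
    rw [Subgroup.mem_bot]
    apply Subtype.ext
    exact hstab x j hfix
  have hcardX : Nat.card {v : V // v ∉ W} =
      Nat.card (Quotient (MulAction.orbitRel (Subgroup.zpowers σ) {v : V // v ∉ W})) *
        Nat.card (Subgroup.zpowers σ) := by
    rw [← Nat.card_prod]
    exact Nat.card_congr (MulAction.selfEquivOrbitsQuotientProd hstab')
  obtain ⟨x0, hx0⟩ : ∃ v : V, v ∉ W := by
    by_contra hcon
    push Not at hcon
    exact hne (eq_top_iff.mpr fun v _ => hcon v)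
  have hord : orderOf σ = N := by
    rw [hN]
    apply orderOf_eq_prime_pow
    · intro h
      apply hmove ⟨x0, hx0⟩
      rw [h]
      rfl
    · rw [← hN]
      exact hσN
  rw [Nat.card_zpowers, hord] at hcardX
  have hNdvd : N ∣ Nat.card {v : V // v ∉ W} := ⟨_, by rw [hcardX, mul_comm]⟩
  have hfin : Fintype V := Fintype.ofFinite V
  have hcard2 : Nat.card {v : V // v ∉ W} = Nat.card V - Nat.card W := by
    rw [Nat.card_eq_fintype_card, Nat.card_eq_fintype_card, Nat.card_eq_fintype_card]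
    exact Fintype.card_subtype_compl (fun v => v ∈ W)
  rw [hcard2, Module.natCard_eq_pow_finrank (K := F) (V := V),
    Module.natCard_eq_pow_finrank (K := F) (V := W), Nat.card_eq_fintype_card] at hNdvd
  have hlt : Module.finrank F W < Module.finrank F V := Submodule.finrank_lt hne
  refine ⟨Module.finrank F V - Module.finrank F W, by omega, by omega, ?_⟩
  have h8 : Fintype.card F ^ Module.finrank F V - Fintype.card F ^ Module.finrank F W =
      Fintype.card F ^ Module.finrank F W *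
        (Fintype.card F ^ (Module.finrank F V - Module.finrank F W) - 1) := by
    rw [Nat.mul_sub, mul_one, ← pow_add, Nat.add_sub_cancel' hlt.le]
  rw [h8] at hNdvd
  refine (Nat.Coprime.dvd_mul_left ?_).mp hNdvd
  rw [hN]
  apply Nat.Coprime.pow
  rw [Nat.Prime.coprime_iff_not_dvd hr]
  exact hrq

end ppow

section spectrum

variable {F : Type*} [Field F] [Fintype F]

theorem eq_one_of_ne_zero (hF : Fintype.card F = 2) (x : F) (hx : x ≠ 0) : x = 1 := by
  classical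
  have h1 : Fintype.card Fˣ = 1 := by rw [Fintype.card_units, hF]
  have h2 : Subsingleton Fˣ := Fintype.card_le_one_iff_subsingleton.mp h1.le
  have h3 : Units.mk0 x hx = 1 := Subsingleton.elim _ _
  exact congrArg Units.val h3

theorem center_eq_bot (hF : Fintype.card F = 2) (n : ℕ) (hn : 1 ≤ n) :
    Subgroup.center (Matrix.SpecialLinearGroup (Fin n) F) = ⊥ := by
  rw [eq_bot_iff]
  intro A hA
  rw [Matrix.SpecialLinearGroup.mem_center_iff] at hA
  obtain ⟨c, hc, hA⟩ := hA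
  rw [Fintype.card_fin] at hc
  have hc0 : c ≠ 0 := by
    rintro rfl
    rw [zero_pow (by omega)] at hc
    exact zero_ne_one hc
  rw [eq_one_of_ne_zero hF c hc0, map_one] at hA
  rw [Subgroup.mem_bot]
  apply Subtype.ext
  exact hA.symm

theorem orderOf_mk (hF : Fintype.card F = 2) (n : ℕ) (hn : 1 ≤ n)
    (g : Matrix.SpecialLinearGroup (Fin n) F) :
    orderOf (QuotientGroup.mk g : Matrix.ProjectiveSpecialLinearGroup (Fin n) F) = orderOf g := by
  apply orderOf_injective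
    (QuotientGroup.mk' (Subgroup.center (Matrix.SpecialLinearGroup (Fin n) F)))
  rw [← MonoidHom.ker_eq_bot_iff, QuotientGroup.ker_mk', center_eq_bot hF n hn]

def T (F : Type*) [Field F] [Fintype F] (n : ℕ) : Set ℕ :=
  Set.range (orderOf : Matrix.ProjectiveSpecialLinearGroup (Fin n) F → ℕ)

theorem T_one (n : ℕ) : 1 ∈ T F n := ⟨1, orderOf_one⟩

theorem T_pos (n : ℕ) (o : ℕ) (ho : o ∈ T F n) : o ≠ 0 := by
  obtain ⟨y, rfl⟩ := ho
  exact (orderOf_pos y).ne'

theorem T_dvd (n : ℕ) (o d : ℕ) (ho : o ∈ T F n) (hd : d ∣ o) : d ∈ T F n := by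
  obtain ⟨y, rfl⟩ := ho
  exact ⟨y ^ (orderOf y / d), orderOf_pow_orderOf_div (orderOf_pos y).ne' hd⟩

theorem T_ppow (hF : Fintype.card F = 2) (n : ℕ) (hn : 1 ≤ n) (r a : ℕ) (hr : r.Prime)
    (hr2 : r ≠ 2) (h : r ^ (a + 1) ∈ T F n) :
    ∃ d, 1 ≤ d ∧ d ≤ n ∧ r ^ (a + 1) ∣ 2 ^ d - 1 := by
  obtain ⟨y, hy⟩ := h
  obtain ⟨g, rfl⟩ := QuotientGroup.mk_surjective y
  rw [orderOf_mk hF n hn] at hy
  obtain ⟨f, hpow⟩ := Cfsg.Agent.S2364.exists_end_of_SL n g
  have h1 : f ^ r ^ (a + 1) = 1 := by rw [hpow, ← hy, pow_orderOf_eq_one]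
  have h2 : f ^ r ^ a ≠ 1 := by
    rw [Ne, hpow]
    intro h
    have h3 := orderOf_dvd_of_pow_eq_one h
    rw [hy] at h3
    have h4 := Nat.le_of_dvd (pow_pos hr.pos _) h3
    have h5 : r ^ a < r ^ (a + 1) := Nat.pow_lt_pow_right hr.one_lt (Nat.lt_succ_self a)
    omega
  have hrq : ¬ r ∣ Fintype.card F := by
    rw [hF, Nat.prime_dvd_prime_iff_eq hr Nat.prime_two]
    exact hr2
  obtain ⟨d, hd1, hd2, hd3⟩ := ppow_dvd r a hr hrq f h1 h2
  rw [Module.finrank_fin_fun] at hd2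
  rw [hF] at hd3
  exact ⟨d, hd1, hd2, hd3⟩

end spectrum

section singer

variable {F : Type*} [Field F] [Fintype F]

theorem T_singer (hF : Fintype.card F = 2) (n : ℕ) (hn : 1 ≤ n) (d E : ℕ) (hd1 : 1 ≤ d)
    (hdn : d ≤ n) (hE : E ∣ 2 ^ d - 1) : E ∈ T F n := by
  classical
  haveI : CharP F 2 := charP_of_card_eq_prime hF
  haveI : NeZero d := ⟨by omega⟩
  have hfr : Module.finrank F (FiniteField.Extension F 2 d) = d :=
    FiniteField.finrank_extension F 2 d
  obtain ⟨φ, hφ⟩ := Cfsg.Agent.S2468.exists_emb_alg (F := F) (FiniteField.Extension F 2 d) n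
    (by rw [hfr]; exact hdn)
  have hcardK : Nat.card (FiniteField.Extension F 2 d)ˣ = 2 ^ d - 1 := by
    rw [Nat.card_units, FiniteField.natCard_extension, Nat.card_eq_fintype_card, hF]
  obtain ⟨γ, hγ⟩ := IsCyclic.exists_ofOrder_eq_natCard (α := (FiniteField.Extension F 2 d)ˣ)
  rw [hcardK] at hγ
  have hpos : 2 ^ d - 1 ≠ 0 := by
    have : 2 ^ 1 ≤ 2 ^ d := Nat.pow_le_pow_right (by norm_num) hd1
    omega
  have hα : orderOf (γ ^ ((2 ^ d - 1) / E)) = E := by
    have h1 := orderOf_pow_orderOf_div (x := γ) (n := E) (by rw [hγ]; exact hpos)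
      (by rw [hγ]; exact hE)
    rwa [hγ] at h1
  obtain ⟨A, hA⟩ : ∃ A : GL (Fin n) F, A = φ (γ ^ ((2 ^ d - 1) / E)) := ⟨_, rfl⟩
  have hAord : orderOf A = E := by rw [hA, orderOf_injective φ hφ, hα]
  have hdet : (A : Matrix (Fin n) (Fin n) F).det = 1 := by
    apply eq_one_of_ne_zero hF
    have h1 : ((Matrix.GeneralLinearGroup.det A : Fˣ) : F) ≠ 0 := Units.ne_zero _
    exact h1
  obtain ⟨g, hgA⟩ : ∃ g : Matrix.SpecialLinearGroup (Fin n) F,
      (g : Matrix (Fin n) (Fin n) F) = (A : Matrix (Fin n) (Fin n) F) := ⟨⟨_, hdet⟩, rfl⟩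
  have hg : orderOf g = E := by
    rw [← hAord, ← orderOf_injective Matrix.SpecialLinearGroup.toGL
      Matrix.SpecialLinearGroup.toGL_injective]
    congr 1
    apply Units.ext
    exact hgA
  exact ⟨QuotientGroup.mk g, by rw [orderOf_mk hF n hn, hg]⟩

end singer

section core

def mm (n j : ℕ) : ℕ := (2 * j + 1) * 2 ^ Nat.log 2 (n / (2 * j + 1))

theorem mm_le (n j : ℕ) (hj : 2 * j + 1 ≤ n) : 1 ≤ mm n j ∧ mm n j ≤ n := by
  unfold mm
  have h1 : n / (2 * j + 1) ≠ 0 := by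
    rw [Nat.div_ne_zero_iff]
    omega
  have h2 := Nat.pow_log_le_self 2 h1
  constructor
  · exact Nat.mul_pos (by omega) (pow_pos (by norm_num) _)
  · calc (2 * j + 1) * 2 ^ Nat.log 2 (n / (2 * j + 1)) ≤ (2 * j + 1) * (n / (2 * j + 1)) :=
        Nat.mul_le_mul_left _ h2
      _ ≤ n := Nat.mul_div_le n (2 * j + 1)

theorem dvd_mm (n d : ℕ) (hd1 : 1 ≤ d) (hdn : d ≤ n) : ∃ j, 2 * j + 1 ≤ n ∧ d ∣ mm n j := by
  obtain ⟨b, u, hu, rfl⟩ := Nat.exists_eq_two_pow_mul_odd (by omega : d ≠ 0)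
  obtain ⟨j, rfl⟩ := hu
  have h2b : 1 ≤ 2 ^ b := Nat.one_le_two_pow
  have hu_le : 2 * j + 1 ≤ n := by nlinarith
  refine ⟨j, hu_le, ?_⟩
  unfold mm
  rw [mul_comm]
  apply Nat.mul_dvd_mul_left
  apply pow_dvd_pow
  apply Nat.le_log_of_pow_le (by norm_num)
  rw [Nat.le_div_iff_mul_le (by omega)]
  exact hdn

theorem core (n : ℕ) (T : Set ℕ) (h1 : 1 ∈ T)
    (hdvd : ∀ o d, o ∈ T → d ∣ o → d ∈ T) (hpos : ∀ o, o ∈ T → o ≠ 0)
    (hpp : ∀ r a, r.Prime → r ≠ 2 → r ^ (a + 1) ∈ T →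
      ∃ d, 1 ≤ d ∧ d ≤ n ∧ r ^ (a + 1) ∣ 2 ^ d - 1)
    (hsing : ∀ d E, 1 ≤ d → d ≤ n → E ∣ 2 ^ d - 1 → E ∈ T)
    (k : ℕ) (f : Fin k → ℕ) (hf : ∀ i, f i ∈ T) :
    ∃ f' : Fin ((n + 3) / 2) → ℕ, (∀ j, f' j ∈ T) ∧
      Finset.univ.lcm f' = Finset.univ.lcm f := by
  obtain ⟨O, hO⟩ : ∃ O, O = Finset.univ.lcm f := ⟨_, rfl⟩
  have hO0 : O ≠ 0 := by
    rw [hO, Ne, Finset.lcm_eq_zero_iff]
    rintro ⟨i, -, hi⟩
    exact hpos _ (hf i) hi
  have hkey : ∀ p, p.Prime → 1 ≤ O.factorization p → ∃ i, p ^ O.factorization p ∣ f i := by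
    intro p hp h1
    have h2 := Finset.factorization_lcm (f := f) (s := Finset.univ)
      (fun i _ => hpos _ (hf i)) p
    rw [← hO] at h2
    rcases Finset.eq_empty_or_nonempty (Finset.univ : Finset (Fin k)) with he | hne
    · rw [he, Finset.sup_empty] at h2
      rw [h2] at h1
      simp at h1
    · obtain ⟨i, -, hi⟩ := Finset.exists_mem_eq_sup _ hne (fun a => (f a).factorization p)
      refine ⟨i, ?_⟩
      rw [h2, hi]
      exact Nat.ordProj_dvd _ _
  obtain ⟨f', hf'⟩ : ∃ f' : Fin ((n + 3) / 2) → ℕ, f' = fun j : Fin ((n + 3) / 2) =>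
      if (j : ℕ) = 0 then 2 ^ O.factorization 2 else Nat.gcd O (2 ^ mm n ((j : ℕ) - 1) - 1) :=
    ⟨_, rfl⟩
  have hf'0 : ∀ j : Fin ((n + 3) / 2), (j : ℕ) = 0 → f' j = 2 ^ O.factorization 2 := by
    intro j hj
    rw [hf']
    simp only [hj, if_true]
  have hf'1 : ∀ j : Fin ((n + 3) / 2), (j : ℕ) ≠ 0 →
      f' j = Nat.gcd O (2 ^ mm n ((j : ℕ) - 1) - 1) := by
    intro j hj
    rw [hf']
    simp only [hj, if_false]
  refine ⟨f', ?_, ?_⟩
  · intro j
    by_cases hj : (j : ℕ) = 0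
    · rw [hf'0 j hj]
      by_cases ht : O.factorization 2 = 0
      · rw [ht, pow_zero]
        exact h1
      · obtain ⟨i, hi⟩ := hkey 2 Nat.prime_two (by omega)
        exact hdvd _ _ (hf i) hi
    · rw [hf'1 j hj]
      have hj2 : 2 * ((j : ℕ) - 1) + 1 ≤ n := by
        have := j.2
        omega
      obtain ⟨hm1, hm2⟩ := mm_le n _ hj2
      exact hsing _ _ hm1 hm2 (Nat.gcd_dvd_right _ _)
  · rw [← hO]
    apply Nat.dvd_antisymm
    · apply Finset.lcm_dvd
      intro j _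
      by_cases hj : (j : ℕ) = 0
      · rw [hf'0 j hj]
        exact Nat.ordProj_dvd O 2
      · rw [hf'1 j hj]
        exact Nat.gcd_dvd_left _ _
    · rw [Nat.dvd_iff_prime_pow_dvd_dvd]
      intro p c hp hpc
      by_cases hc : c = 0
      · rw [hc, pow_zero]
        exact one_dvd _
      have hc2 : c ≤ O.factorization p := (hp.pow_dvd_iff_le_factorization hO0).mp hpc
      have h3 : p ^ c ∣ p ^ O.factorization p := pow_dvd_pow p hc2
      refine h3.trans ?_
      by_cases hp2 : p = 2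
      · subst hp2
        have hlt : 0 < (n + 3) / 2 := by omega
        have h4 : (2 : ℕ) ^ O.factorization 2 = f' ⟨0, hlt⟩ := (hf'0 ⟨0, hlt⟩ rfl).symm
        rw [h4]
        exact Finset.dvd_lcm (Finset.mem_univ _)
      · obtain ⟨i, hi⟩ := hkey p hp (by omega)
        obtain ⟨a, ha⟩ : ∃ a, O.factorization p = a + 1 := ⟨O.factorization p - 1, by omega⟩
        have h5 : p ^ (a + 1) ∣ O := by
          rw [← ha]
          exact Nat.ordProj_dvd O p
        rw [ha] at hi ⊢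
        have hT : p ^ (a + 1) ∈ T := hdvd _ _ (hf i) hi
        obtain ⟨d, hd1, hdn, hd⟩ := hpp p a hp hp2 hT
        obtain ⟨j, hj, hdj⟩ := dvd_mm n d hd1 hdn
        have h4 : p ^ (a + 1) ∣ 2 ^ mm n j - 1 :=
          hd.trans (Nat.pow_sub_one_dvd_pow_sub_one 2 hdj)
        have h6 : p ^ (a + 1) ∣ Nat.gcd O (2 ^ mm n j - 1) := Nat.dvd_gcd h5 h4
        have hjlt : j + 1 < (n + 3) / 2 := by omega
        have h7 : Nat.gcd O (2 ^ mm n j - 1) = f' ⟨j + 1, hjlt⟩ :=
          (hf'1 ⟨j + 1, hjlt⟩ (Nat.succ_ne_zero j)).symm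
        rw [h7] at h6
        exact h6.trans (Finset.dvd_lcm (Finset.mem_univ _))

end core

section final

variable {F : Type*} [Field F] [Fintype F]

theorem range_eq (n k : ℕ) :
    Set.range (orderOf : (Fin k → Matrix.ProjectiveSpecialLinearGroup (Fin n) F) → ℕ) =
      {N | ∃ f : Fin k → ℕ, (∀ i, f i ∈ T F n) ∧ Finset.univ.lcm f = N} := by
  ext N
  constructor
  · rintro ⟨x, rfl⟩
    exact ⟨fun i => orderOf (x i), fun i => ⟨x i, rfl⟩, (Pi.orderOf x).symm⟩
  · rintro ⟨f, hf, rfl⟩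
    choose x hx using hf
    refine ⟨x, ?_⟩
    rw [Pi.orderOf]
    congr 1
    funext i
    exact hx i

end final

/-- Let F be the field with two elements, n ≥ 2, L = PSL(n, F) and k₀ = ⌊(n + 3)/2⌋. Then for every k ≥ k₀ the direct product of k copies of L has the same set of element orders as the direct product of k₀ copies of L. -/
theorem result {F : Type*} [Field F] [Fintype F] (hF : Fintype.card F = 2) (n k : ℕ) (hn : 2 ≤ n) (hk : (n + 3) / 2 ≤ k) :
    Set.range (orderOf : (Fin k → Matrix.ProjectiveSpecialLinearGroup (Fin n) F) → ℕ) = Set.range (orderOf : (Fin ((n + 3) / 2) → Matrix.ProjectiveSpecialLinearGroup (Fin n) F) → ℕ) := by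
  have hn1 : 1 ≤ n := by omega
  rw [range_eq, range_eq]
  ext N
  constructor
  · rintro ⟨f, hf, rfl⟩
    obtain ⟨f', hf', h⟩ := core n (T F n) (T_one n) (T_dvd n) (T_pos n) (T_ppow hF n hn1)
      (T_singer hF n hn1) k f hf
    exact ⟨f', hf', h⟩
  · rintro ⟨f', hf', rfl⟩
    refine ⟨fun i => if h : (i : ℕ) < (n + 3) / 2 then f' ⟨i, h⟩ else 1, ?_, ?_⟩
    · intro i
      by_cases h : (i : ℕ) < (n + 3) / 2
      · simp only [h, dif_pos]
        exact hf' _
      · simp only [h, dif_neg, not_false_iff]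
        exact T_one n
    · apply Nat.dvd_antisymm
      · apply Finset.lcm_dvd
        intro i _
        by_cases h : (i : ℕ) < (n + 3) / 2
        · simp only [h, dif_pos]
          exact Finset.dvd_lcm (Finset.mem_univ _)
        · simp only [h, dif_neg, not_false_iff]
          exact one_dvd _
      · apply Finset.lcm_dvd
        intro j _
        have hj : (j : ℕ) < k := lt_of_lt_of_le j.2 hk
        have h2 : f' j = (fun i : Fin k => if h : (i : ℕ) < (n + 3) / 2 then f' ⟨i, h⟩ else 1)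
            ⟨j, hj⟩ := by
          simp [j.2]
        rw [h2]
        exact Finset.dvd_lcm (Finset.mem_univ _)

end Cfsg.Agent.S2513
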