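import Cfsg.Statements.S2514

import Mathlib
set_option autoImplicit false
open Cfsg

namespace Cfsg.Agent.S2514


theorem range_dvd_closed {G : Type*} [Group G] [Finite G] {n d : ℕ}
    (hn : n ∈ Set.range (orderOf : G → ℕ)) (hd : d ∣ n) : d ∈ Set.range (orderOf : G → ℕ) := by
  obtain ⟨x, rfl⟩ := hn
  have hpos : 0 < orderOf x := orderOf_pos x
  obtain ⟨c, hc⟩ := hd
  have hc0 : c ≠ 0 := by
    rintro rfl
    rw [mul_zero] at hc
    omega
  refine ⟨x ^ c, ?_⟩
  rw [orderOf_pow_of_dvd hc0 ⟨d, by rw [hc, mul_comm]⟩, hc]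
  exact Nat.mul_div_cancel _ (Nat.pos_of_ne_zero hc0)

theorem exists_maximal {G : Type*} [Group G] [Finite G] {n : ℕ}
    (hn : n ∈ Set.range (orderOf : G → ℕ)) :
    ∃ m, (m ∈ Set.range (orderOf : G → ℕ) ∧ ∀ m' ∈ Set.range (orderOf : G → ℕ), m ∣ m' → m' = m) ∧ n ∣ m := by
  classical
  let S : Finset ℕ := (Finset.range (Nat.card G + 1)).filter
    (fun m => m ∈ Set.range (orderOf : G → ℕ) ∧ n ∣ m)
  have hnS : n ∈ S := by
    simp only [S, Finset.mem_filter, Finset.mem_range]
    refine ⟨?_, hn, dvd_rfl⟩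
    obtain ⟨x, rfl⟩ := hn
    exact Nat.lt_succ_of_le (orderOf_le_card)
  obtain ⟨m, hmS, hmax⟩ := Finset.exists_max_image S id ⟨n, hnS⟩
  simp only [S, Finset.mem_filter, Finset.mem_range] at hmS
  refine ⟨m, ⟨hmS.2.1, ?_⟩, hmS.2.2⟩
  intro m' hm' hdvd
  have hm'S : m' ∈ S := by
    simp only [S, Finset.mem_filter, Finset.mem_range]
    refine ⟨?_, hm', dvd_trans hmS.2.2 hdvd⟩
    obtain ⟨x, rfl⟩ := hm'
    exact Nat.lt_succ_of_le (orderOf_le_card)
  have h1 : m' ≤ m := hmax m' hm'S
  have hm'pos : 0 < m' := by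
    obtain ⟨x, rfl⟩ := hm'
    exact orderOf_pos x
  have h2 : m ≤ m' := Nat.le_of_dvd hm'pos hdvd
  omega

/-- For a finite group X write μ(X) for the set of element orders of X that are maximal under divisibility. Let G and H be finite groups and k ≥ 1 such that μ(H) ⊆ μ(G) and μ(G) has fewer than k elements outside μ(H). Then the direct product of k copies of G has the same set of element orders as the direct product of k − 1 copies of G with H. -/
theorem result {G H : Type*} [Group G] [Finite G] [Group H] [Finite H] (k : ℕ) (hk : 1 ≤ k)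
    (hsub : {n : ℕ | n ∈ Set.range (orderOf : H → ℕ) ∧ ∀ m ∈ Set.range (orderOf : H → ℕ), n ∣ m → m = n} ⊆ {n : ℕ | n ∈ Set.range (orderOf : G → ℕ) ∧ ∀ m ∈ Set.range (orderOf : G → ℕ), n ∣ m → m = n})
    (hfew : ({n : ℕ | n ∈ Set.range (orderOf : G → ℕ) ∧ ∀ m ∈ Set.range (orderOf : G → ℕ), n ∣ m → m = n} \ {n : ℕ | n ∈ Set.range (orderOf : H → ℕ) ∧ ∀ m ∈ Set.range (orderOf : H → ℕ), n ∣ m → m = n}).ncard < k) :
    Set.range (orderOf : (Fin k → G) → ℕ) = Set.range (orderOf : (Fin (k - 1) → G) × H → ℕ) := by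
  classical
  obtain ⟨k', rfl⟩ : ∃ k', k = k' + 1 := ⟨k - 1, by omega⟩
  change Set.range (orderOf : (Fin (k' + 1) → G) → ℕ) = Set.range (orderOf : (Fin k' → G) × H → ℕ)
  have hHG : ∀ b, b ∈ Set.range (orderOf : H → ℕ) → b ∈ Set.range (orderOf : G → ℕ) := by
    intro b hb
    obtain ⟨m, hm, hbm⟩ := exists_maximal hb
    exact range_dvd_closed (hsub hm).1 hbm
  apply Set.eq_of_subset_of_subset
  · rintro _ ⟨x, rfl⟩
    rw [Pi.orderOf]
    have hch : ∀ i, ∃ m, (m ∈ Set.range (orderOf : G → ℕ) ∧ ∀ m' ∈ Set.range (orderOf : G → ℕ), m ∣ m' → m' = m) ∧ orderOf (x i) ∣ m :=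
      fun i => exists_maximal ⟨x i, rfl⟩
    choose m hm hxm using hch
    by_cases hcase : ∃ i, (m i ∈ Set.range (orderOf : H → ℕ) ∧ ∀ m' ∈ Set.range (orderOf : H → ℕ), m i ∣ m' → m' = m i)
    · obtain ⟨i, hi⟩ := hcase
      obtain ⟨h, hh⟩ := range_dvd_closed hi.1 (hxm i)
      refine ⟨(fun t => x (i.succAbove t), h), ?_⟩
      rw [Prod.orderOf, Pi.orderOf]
      apply Nat.dvd_antisymm
      · apply Nat.lcm_dvd
        · apply Finset.lcm_dvd
          intro t _
          exact Finset.dvd_lcm (Finset.mem_univ _)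
        · change orderOf h ∣ _
          rw [hh]
          exact Finset.dvd_lcm (Finset.mem_univ _)
      · apply Finset.lcm_dvd
        intro s _
        by_cases hs : s = i
        · subst hs
          refine dvd_trans ?_ (Nat.dvd_lcm_right _ _)
          change orderOf (x s) ∣ orderOf h
          rw [hh]
        · obtain ⟨t, rfl⟩ := Fin.exists_succAbove_eq hs
          refine dvd_trans ?_ (Nat.dvd_lcm_left _ _)
          exact Finset.dvd_lcm (f := fun t => orderOf (x (i.succAbove t))) (Finset.mem_univ t)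
    · have hcase' : ∀ i, ¬ (m i ∈ Set.range (orderOf : H → ℕ) ∧ ∀ m' ∈ Set.range (orderOf : H → ℕ), m i ∣ m' → m' = m i) :=
        fun i hi => hcase ⟨i, hi⟩
      have hfin : ({n : ℕ | n ∈ Set.range (orderOf : G → ℕ) ∧ ∀ m ∈ Set.range (orderOf : G → ℕ), n ∣ m → m = n} \ {n : ℕ | n ∈ Set.range (orderOf : H → ℕ) ∧ ∀ m ∈ Set.range (orderOf : H → ℕ), n ∣ m → m = n}).Finite := by
        apply Set.Finite.subset (Set.finite_range (orderOf : G → ℕ))
        intro n hn
        exact hn.1.1
      have hmaps : ∀ a ∈ (Set.univ : Set (Fin (k' + 1))), m a ∈ ({n : ℕ | n ∈ Set.range (orderOf : G → ℕ) ∧ ∀ m ∈ Set.range (orderOf : G → ℕ), n ∣ m → m = n} \ {n : ℕ | n ∈ Set.range (orderOf : H → ℕ) ∧ ∀ m ∈ Set.range (orderOf : H → ℕ), n ∣ m → m = n}) := by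
        intro a _
        exact ⟨hm a, hcase' a⟩
      have hcard : ({n : ℕ | n ∈ Set.range (orderOf : G → ℕ) ∧ ∀ m ∈ Set.range (orderOf : G → ℕ), n ∣ m → m = n} \ {n : ℕ | n ∈ Set.range (orderOf : H → ℕ) ∧ ∀ m ∈ Set.range (orderOf : H → ℕ), n ∣ m → m = n}).ncard < (Set.univ : Set (Fin (k' + 1))).ncard := by
        rw [Set.ncard_univ, Nat.card_eq_fintype_card, Fintype.card_fin]
        exact hfew
      obtain ⟨i, _, j, _, hij, hmij⟩ := Set.exists_ne_map_eq_of_ncard_lt_of_maps_to hcard hmaps hfin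
      have hl : Nat.lcm (orderOf (x i)) (orderOf (x j)) ∣ m i :=
        Nat.lcm_dvd (hxm i) (hmij ▸ hxm j)
      obtain ⟨g, hg⟩ := range_dvd_closed (hm i).1 hl
      refine ⟨(fun t => if i.succAbove t = j then g else x (i.succAbove t), 1), ?_⟩
      rw [Prod.orderOf, Pi.orderOf]
      simp only [orderOf_one, Nat.lcm_one_right]
      apply Nat.dvd_antisymm
      · apply Finset.lcm_dvd
        intro t _
        by_cases ht : i.succAbove t = j
        · simp only [ht, if_true, hg]
          exact Nat.lcm_dvd (Finset.dvd_lcm (Finset.mem_univ _)) (Finset.dvd_lcm (Finset.mem_univ _))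
        · simp only [ht, if_false]
          exact Finset.dvd_lcm (Finset.mem_univ _)
      · apply Finset.lcm_dvd
        intro s _
        obtain ⟨tj, htj⟩ := Fin.exists_succAbove_eq (Ne.symm hij)
        have hgt : orderOf g ∣ Finset.univ.lcm (fun t => orderOf (if i.succAbove t = j then g else x (i.succAbove t))) := by
          have := Finset.dvd_lcm (f := fun t => orderOf (if i.succAbove t = j then g else x (i.succAbove t))) (Finset.mem_univ tj)
          simpa [htj] using this
        by_cases hs : s = i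
        · subst hs
          exact dvd_trans (hg ▸ Nat.dvd_lcm_left _ _) hgt
        · by_cases hsj : s = j
          · subst hsj
            exact dvd_trans (hg ▸ Nat.dvd_lcm_right _ _) hgt
          · obtain ⟨t, rfl⟩ := Fin.exists_succAbove_eq hs
            have := Finset.dvd_lcm (f := fun t => orderOf (if i.succAbove t = j then g else x (i.succAbove t))) (Finset.mem_univ t)
            simpa [hsj] using this
  · rintro _ ⟨y, rfl⟩
    obtain ⟨g, hg⟩ := hHG (orderOf y.2) ⟨y.2, rfl⟩
    refine ⟨Fin.cons g y.1, ?_⟩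
    rw [Prod.orderOf, Pi.orderOf, Pi.orderOf]
    apply Nat.dvd_antisymm
    · apply Finset.lcm_dvd
      intro s _
      refine Fin.cases ?_ ?_ s
      · simp only [Fin.cons_zero, hg]
        exact Nat.dvd_lcm_right _ _
      · intro t
        simp only [Fin.cons_succ]
        refine dvd_trans ?_ (Nat.dvd_lcm_left _ _)
        exact Finset.dvd_lcm (f := fun t => orderOf (y.1 t)) (Finset.mem_univ t)
    · apply Nat.lcm_dvd
      · apply Finset.lcm_dvd
        intro t _
        have := Finset.dvd_lcm (f := fun s => orderOf ((Fin.cons g y.1 : Fin (k' + 1) → G) s)) (Finset.mem_univ t.succ)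
        simpa using this
      · have := Finset.dvd_lcm (f := fun s => orderOf ((Fin.cons g y.1 : Fin (k' + 1) → G) s)) (Finset.mem_univ 0)
        simpa [hg] using this

end Cfsg.Agent.S2514
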