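import Mathlib
import Cfsg.Statements.S2515
import Cfsg.Agent.Lib.Helper19.TwMain
-- import your own Cfsg.Agent.* helpers here

set_option autoImplicit false
open Cfsg

namespace Cfsg.Agent.S2515

/-- Let q = 3^α with α ≥ 3 odd. There is a finite group H having a non-trivial normal 3-subgroup and whose element orders maximal under divisibility are exactly 6, 9, q − 1 and (q + 1)/2. -/
theorem result (α : ℕ) (hα : 3 ≤ α) (hodd : Odd α) :
    ∃ (H : Type) (_ : Group H) (_ : Fintype H), (∃ P : Subgroup H, P.Normal ∧ P ≠ ⊥ ∧ IsPGroup 3 ↥P) ∧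
      {n : ℕ | n ∈ Set.range (orderOf : H → ℕ) ∧ ∀ m ∈ Set.range (orderOf : H → ℕ), n ∣ m → m = n} = ({6, 9, 3 ^ α - 1, (3 ^ α + 1) / 2} : Set ℕ) := by
  classical
  have hα0 : α ≠ 0 := by omega
  haveI : Fact (Nat.Prime 3) := ⟨by norm_num⟩
  haveI : Fintype (GaloisField 3 α) := Fintype.ofFinite _
  have hcard : Fintype.card (GaloisField 3 α) = 3 ^ α := by
    rw [← Nat.card_eq_fintype_card]
    exact GaloisField.card 3 α hα0
  haveI : Fintype (Cfsg.Agent.Lib.Helper19.TwGroup.HH (GaloisField 3 α)) := Fintype.ofFinite _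
  refine ⟨Cfsg.Agent.Lib.Helper19.TwGroup.HH (GaloisField 3 α), inferInstance, inferInstance,
    Cfsg.Agent.Lib.Helper19.TwMain.exists_P, ?_⟩
  have h := Cfsg.Agent.Lib.Helper19.TwMain.main_orders (F := GaloisField 3 α)
    (by rw [hcard]; exact Cfsg.Agent.Lib.Helper19.TwMain.q_mod4 α hodd)
    (by rw [hcard]; exact Cfsg.Agent.Lib.Helper19.TwMain.q_mod3 α hα)
    (by rw [hcard]; exact Cfsg.Agent.Lib.Helper19.TwMain.q_ge α hα)
  rw [hcard] at h
  exact h

end Cfsg.Agent.S2515
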