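import Cfsg.Statements.S2516

set_option autoImplicit false
open Cfsg

namespace Cfsg.Agent.S2516


section
variable {F : Type*} [Field F] {V : Type*} [AddCommGroup V] [Module F V]
    {G : Type*} [Group G] (ρ : Representation F G V)

abbrev phi : G →* MulAut (Multiplicative V) :=
  (MulAutMultiplicative V).symm.toMonoidHom.comp
        ((DistribMulAction.toAddAut ((V →ₗ[F] V)ˣ) V).comp ρ.asGroupHom)

theorem phi_apply (g : G) (w : Multiplicative V) :
    phi ρ g w = Multiplicative.ofAdd (ρ g (Multiplicative.toAdd w)) := by
  rfl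

theorem pow_formula (x : Multiplicative V ⋊[phi ρ] G) (n : ℕ) :
    (x ^ n).right = x.right ^ n ∧
    (x ^ n).left = Multiplicative.ofAdd
      (∑ i ∈ Finset.range n, ((ρ x.right) ^ i) (Multiplicative.toAdd x.left)) := by
  induction n with
  | zero =>
    refine ⟨?_, ?_⟩
    · rw [pow_zero, pow_zero]; rfl
    · rw [pow_zero, Finset.sum_range_zero]; rfl
  | succ n ih =>
    obtain ⟨ih1, ih2⟩ := ih
    refine ⟨?_, ?_⟩
    · rw [pow_succ, SemidirectProduct.mul_right, ih1, pow_succ]
    · rw [pow_succ, SemidirectProduct.mul_left, ih1, ih2, phi_apply, Finset.sum_range_succ,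
        map_pow]
      rfl

end

/-- Let F be a field of characteristic p > 0, V a non-zero finite-dimensional F-vector space, G a finite group and ρ a representation of G on V; form the semidirect product V ⋊ G. For g ∈ G of order k, the coset Vg contains an element of order pk if and only if the minimal polynomial of ρ(g) does not divide 1 + X + ⋯ + X^(k−1). -/
theorem result {F : Type*} [Field F] (p : ℕ) [Fact p.Prime] [CharP F p] {V : Type*} [AddCommGroup V] [Module F V] [FiniteDimensional F V] [Nontrivial V]
    {G : Type*} [Group G] [Finite G] (ρ : Representation F G V) (g : G) :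
    (∃ x : Multiplicative V ⋊[(MulAutMultiplicative V).symm.toMonoidHom.comp
        ((DistribMulAction.toAddAut ((V →ₗ[F] V)ˣ) V).comp ρ.asGroupHom)] G,
        x.right = g ∧ orderOf x = p * orderOf g) ↔
      ¬ (minpoly F (ρ g) ∣ ∑ i ∈ Finset.range (orderOf g), (Polynomial.X : Polynomial F) ^ i) := by
  classical
  have hp : p.Prime := Fact.out
  have hk : 0 < orderOf g := orderOf_pos g
  set N : V →ₗ[F] V := ∑ i ∈ Finset.range (orderOf g), (ρ g) ^ i with hN
  have haeval : Polynomial.aeval (ρ g) (∑ i ∈ Finset.range (orderOf g), (Polynomial.X : Polynomial F) ^ i) = N := by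
    simp [hN, map_sum]
  rw [minpoly.dvd_iff, haeval]
  have key : ∀ x : Multiplicative V ⋊[phi ρ] G, x.right = g →
      (orderOf x = p * orderOf g ↔ N (Multiplicative.toAdd x.left) ≠ 0) := by
    intro x hx
    obtain ⟨hr, hl⟩ := pow_formula ρ x (orderOf g)
    rw [hx, pow_orderOf_eq_one] at hr
    rw [hx] at hl
    have hNv : (∑ i ∈ Finset.range (orderOf g), ((ρ g) ^ i) (Multiplicative.toAdd x.left)) = N (Multiplicative.toAdd x.left) := by
      simp [hN, LinearMap.sum_apply]
    rw [hNv] at hl
    have hxk : x ^ orderOf g = SemidirectProduct.inl (Multiplicative.ofAdd (N (Multiplicative.toAdd x.left))) := by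
      ext
      · rw [hl]; rfl
      · rw [hr]; rfl
    constructor
    · intro ho hzero
      rw [hzero] at hxk
      have h1 : x ^ orderOf g = 1 := by
        rw [hxk]; simp
      have h2 : orderOf x ∣ orderOf g := orderOf_dvd_of_pow_eq_one h1
      rw [ho] at h2
      have h3 : p * orderOf g ≤ orderOf g := Nat.le_of_dvd hk h2
      have h4 : 2 ≤ p := hp.two_le
      nlinarith
    · intro hne
      have hxpk : x ^ (orderOf g * p) = 1 := by
        rw [pow_mul, hxk, ← map_pow]
        have : (Multiplicative.ofAdd (N (Multiplicative.toAdd x.left))) ^ p = 1 := by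
          rw [← ofAdd_nsmul]
          have : p • N (Multiplicative.toAdd x.left) = 0 := by
            rw [← Nat.cast_smul_eq_nsmul F, CharP.cast_eq_zero, zero_smul]
          rw [this]; rfl
        rw [this, map_one]
      have hd1 : orderOf x ∣ orderOf g * p := orderOf_dvd_of_pow_eq_one hxpk
      have hd2 : orderOf g ∣ orderOf x := by
        have := orderOf_map_dvd (SemidirectProduct.rightHom : Multiplicative V ⋊[phi ρ] G →* G) x
        rw [SemidirectProduct.rightHom_eq_right] at this
        rwa [hx] at this
      obtain ⟨d, hd⟩ := hd2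
      rw [hd] at hd1
      have hdp : d ∣ p := (Nat.mul_dvd_mul_iff_left hk).mp hd1
      rcases (Nat.dvd_prime hp).mp hdp with h | h
      · exfalso
        rw [h, mul_one] at hd
        have : x ^ orderOf g = 1 := by rw [← hd]; exact pow_orderOf_eq_one x
        rw [hxk] at this
        have h5 := congrArg SemidirectProduct.left this
        simp at h5
        exact hne h5
      · rw [hd, h, mul_comm]
  constructor
  · rintro ⟨x, hx, ho⟩ hN0
    have := (key x hx).mp ho
    rw [hN0] at this
    simp at this
  · intro hN0
    have : ∃ v, N v ≠ 0 := by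
      by_contra hcon
      push Not at hcon
      exact hN0 (LinearMap.ext hcon)
    obtain ⟨v, hv⟩ := this
    refine ⟨⟨Multiplicative.ofAdd v, g⟩, rfl, ?_⟩
    exact (key ⟨Multiplicative.ofAdd v, g⟩ rfl).mpr hv

end Cfsg.Agent.S2516
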