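import Cfsg.Statements.S2517
import Cfsg.Agent.Lib.Helper19.O9U.Defs
import Cfsg.Agent.Lib.Helper19.O9UUPPER
import Cfsg.Agent.Lib.Helper1.O9LMain
import Cfsg.Agent.Lib.helper3.O9AMain

set_option autoImplicit false
open Cfsg

namespace Cfsg.Agent.S2517

open Cfsg.Agent.Lib.Helper19.O9U

/-- Let F be a finite field of odd order q, let Ω₉ be the simple orthogonal group PΩ(9, F), and let Ω₈⁻ be the commutator subgroup of the isometry group of a minus-type non-singular quadratic form on V = F⁸ (the simple group PΩ⁻(8, F), acting on its natural module V). Then Ω₉ and the semidirect product V ⋊ Ω₈⁻ have exactly the same set of element orders. -/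
theorem result {F : Type*} [Field F] [Fintype F] (hF : Odd (Fintype.card F)) (a b : F)
    (hab : ∀ z₁ z₂ : F, z₁ ^ 2 + a * z₁ * z₂ + b * z₂ ^ 2 = 0 → z₁ = 0 ∧ z₂ = 0) :
    Set.range (orderOf : Cfsg.POmega F (Cfsg.quadFormOdd 4 F) → ℕ) =
      Set.range (orderOf :
        (Multiplicative (((Fin 3 ⊕ Fin 3) ⊕ Fin 2) → F)) ⋊[
          (MulAutMultiplicative (((Fin 3 ⊕ Fin 3) ⊕ Fin 2) → F)).symm.toMonoidHom.comp
           ((DistribMulAction.toAddAut (LinearMap.GeneralLinearGroup F (((Fin 3 ⊕ Fin 3) ⊕ Fin 2) → F))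
              (((Fin 3 ⊕ Fin 3) ⊕ Fin 2) → F)).comp
            (Matrix.GeneralLinearGroup.toLin.toMonoidHom.comp
              ((Cfsg.isometryGroup F (Cfsg.quadFormMinus 3 F a b)).subtype.comp
                (Cfsg.Omega F (Cfsg.quadFormMinus 3 F a b)).subtype)))]
          ↥(Cfsg.Omega F (Cfsg.quadFormMinus 3 F a b)) → ℕ) := by
  classical
  obtain ⟨p, hp⟩ := CharP.exists F
  have := hp
  have : Fact p.Prime := ⟨CharP.char_is_prime F p⟩
  apply Set.Subset.antisymm
  · rintro _ ⟨x, rfl⟩
    obtain ⟨N, hN, hdvd⟩ := o9u_main hF p x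
    obtain ⟨g, hg⟩ := Cfsg.Agent.Lib.Helper1.O9L.o9l_main p hF a b hab N hN
    obtain ⟨k, hk⟩ := hdvd
    have hxpos : 0 < orderOf x := orderOf_pos x
    have hNpos : 0 < N := by
      rcases Nat.eq_zero_or_pos N with h0 | h0
      · exfalso
        have : orderOf g ≠ 0 := by
          intro h
          have : Finite ((Multiplicative (((Fin 3 ⊕ Fin 3) ⊕ Fin 2) → F)) ⋊[
            (MulAutMultiplicative (((Fin 3 ⊕ Fin 3) ⊕ Fin 2) → F)).symm.toMonoidHom.comp
             ((DistribMulAction.toAddAut (LinearMap.GeneralLinearGroup F (((Fin 3 ⊕ Fin 3) ⊕ Fin 2) → F))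
                (((Fin 3 ⊕ Fin 3) ⊕ Fin 2) → F)).comp
              (Matrix.GeneralLinearGroup.toLin.toMonoidHom.comp
                ((Cfsg.isometryGroup F (Cfsg.quadFormMinus 3 F a b)).subtype.comp
                  (Cfsg.Omega F (Cfsg.quadFormMinus 3 F a b)).subtype)))]
            ↥(Cfsg.Omega F (Cfsg.quadFormMinus 3 F a b))) :=
            Finite.of_equiv _ SemidirectProduct.equivProd.symm
          have hfin : IsOfFinOrder g := isOfFinOrder_of_finite g
          exact (orderOf_pos_iff.mpr hfin).ne' h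
        exact this (hg.trans h0)
      · exact h0
    have hk0 : k ≠ 0 := by
      rintro rfl
      rw [mul_zero] at hk
      omega
    refine ⟨g ^ k, ?_⟩
    show orderOf (g ^ k) = orderOf x
    rw [orderOf_pow_of_dvd hk0 (by rw [hg, hk]; exact dvd_mul_left k _), hg, hk,
      Nat.mul_div_cancel _ (Nat.pos_of_ne_zero hk0)]
  · exact Cfsg.Agent.Lib.helper3.O9A.o9a_main hF a b hab

end Cfsg.Agent.S2517
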