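import Cfsg.Statements.S2518
import Cfsg.Agent.Lib.helper23.G23Iso
import Cfsg.Agent.Lib.helper23.G23Graph
import Cfsg.Agent.Lib.helper23.G23Tr
import Cfsg.Agent.Lib.helper23.G23Psl

set_option autoImplicit false
open Cfsg

namespace Cfsg.Agent.S2518

open Cfsg.Agent.Lib.helper23

/-- Let F₃ be the field with 3 elements and F₁₃ the field with 13 elements. The Chevalley group G₂(F₃) and PSL(2, F₁₃) have the same prime graph: the same prime divisors of their orders, and for distinct primes r, s an element of order rs in one iff in the other. -/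
theorem result {F : Type*} [Field F] [Fintype F] (hF : Fintype.card F = 3) {E : Type*} [Field E] [Fintype E] (hE : Fintype.card E = 13) :
    ((∀ r : ℕ, r.Prime → (r ∣ Nat.card ↥(Cfsg.Lie.chevG2.group F) ↔ r ∣ Nat.card (Matrix.ProjectiveSpecialLinearGroup (Fin 2) E))) ∧
      (∀ r s : ℕ, r.Prime → s.Prime → r ≠ s → ((∃ x : ↥(Cfsg.Lie.chevG2.group F), orderOf x = r * s) ↔ (∃ y : (Matrix.ProjectiveSpecialLinearGroup (Fin 2) E), orderOf y = r * s)))) := by
  obtain ⟨e1⟩ := g23_of_card_three hF
  have e : ↥(Cfsg.Lie.chevG2.group F) ≃* P364 := e1.trans G23_equiv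
  constructor
  · intro r hr
    rw [Nat.card_congr e.toEquiv, P364_prime_dvd r hr, psl13_prime_dvd hE r hr]
  · intro r s hr hs hrs
    rw [psl13_prime_graph hE r s hr hs hrs, ← P364_prime_graph r s hr hs hrs]
    constructor
    · rintro ⟨x, hx⟩
      exact ⟨e x, by rw [MulEquiv.orderOf_eq, hx]⟩
    · rintro ⟨x, hx⟩
      exact ⟨e.symm x, by rw [MulEquiv.orderOf_eq, hx]⟩

end Cfsg.Agent.S2518
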