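import Cfsg.Statements.S2521

set_option autoImplicit false
open Cfsg

namespace Cfsg.Agent.S2521

/-- Let B be a finite group that is the semidirect product of a nilpotent normal subgroup U by an abelian subgroup T (U ∩ T = 1, UT = B), and let t ∈ T have centralizer exactly T. Then every element of the coset tU is conjugate to t in B: for each u ∈ U there is b ∈ B with b t b⁻¹ = t u. -/
theorem result {B : Type*} [Group B] [Finite B] (U T : Subgroup B) [U.Normal] (hU : Group.IsNilpotent ↥U) (hT : IsMulCommutative ↥T)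
    (hcompl : Subgroup.IsComplement' U T) (t : B) (ht : t ∈ T) (hreg : Subgroup.centralizer ({t} : Set B) = T) (u : B) (hu : u ∈ U) :
    ∃ b : B, b * t * b⁻¹ = t * u := by
  classical
  have hdisj : U ⊓ T = ⊥ := hcompl.disjoint.eq_bot
  let f : U → U := fun x => ⟨t⁻¹ * ((x:B) * t * (x:B)⁻¹), by
    have h1 : t⁻¹ * (x:B) * t ∈ U := by
      have := ‹U.Normal›.conj_mem (x:B) x.2 t⁻¹
      simpa using this
    have h2 : t⁻¹ * ((x:B) * t * (x:B)⁻¹) = (t⁻¹ * x * t) * (x:B)⁻¹ := by group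
    rw [h2]
    exact U.mul_mem h1 (U.inv_mem x.2)⟩
  have hinj : Function.Injective f := by
    intro x y hxy
    have h : t⁻¹ * ((x:B) * t * (x:B)⁻¹) = t⁻¹ * ((y:B) * t * (y:B)⁻¹) := congrArg Subtype.val hxy
    have h' : (x:B) * t * (x:B)⁻¹ = (y:B) * t * (y:B)⁻¹ := mul_left_cancel h
    have hc : ((y:B)⁻¹ * x) ∈ Subgroup.centralizer ({t} : Set B) := by
      rw [Subgroup.mem_centralizer_iff]
      intro z hz
      rw [Set.mem_singleton_iff] at hz
      subst hz
      have : (y:B)⁻¹ * ((x:B) * z * (x:B)⁻¹) * x = (y:B)⁻¹ * ((y:B) * z * (y:B)⁻¹) * x := by rw [h']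
      calc z * ((y:B)⁻¹ * x) = (y:B)⁻¹ * ((y:B) * z * (y:B)⁻¹) * x := by group
        _ = (y:B)⁻¹ * ((x:B) * z * (x:B)⁻¹) * x := this.symm
        _ = (y:B)⁻¹ * x * z := by group
    rw [hreg] at hc
    have hU' : ((y:B)⁻¹ * x) ∈ U := U.mul_mem (U.inv_mem y.2) x.2
    have : ((y:B)⁻¹ * x) ∈ U ⊓ T := ⟨hU', hc⟩
    rw [hdisj, Subgroup.mem_bot] at this
    have : (x:B) = y := by
      have := congrArg (fun z => (y:B) * z) this
      simpa using this
    exact Subtype.ext this
  have hsurj : Function.Surjective f := Finite.surjective_of_injective hinj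
  obtain ⟨x, hx⟩ := hsurj ⟨u, hu⟩
  refine ⟨x, ?_⟩
  have : t⁻¹ * ((x:B) * t * (x:B)⁻¹) = u := congrArg Subtype.val hx
  rw [← this]
  group

end Cfsg.Agent.S2521
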