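import Cfsg.Statements.S2522
import Cfsg.Agent.Lib.helper14.RuG

set_option autoImplicit false
open Cfsg

namespace Cfsg.Agent.S2522

open Cfsg.Agent.Lib.helper14.RuF Cfsg.Agent.Lib.helper14.RuG

/-- Let K be a field with at least four elements (finite or infinite), n ≥ 3, and J ∈ GL(n, K) the regular unipotent matrix (ones on the diagonal and the superdiagonal, zeros elsewhere). Then every non-scalar g ∈ GL(n, K) with det g = 1 is a product of two GL(n, K)-conjugates of J. -/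
theorem result {K : Type*} [Field K] (hK : 4 ≤ Cardinal.mk K) (n : ℕ) (hn : 3 ≤ n) (J g : GL (Fin n) K)
    (hJ : ∀ i j : Fin n, (J : Matrix (Fin n) (Fin n) K) i j = if i = j then 1 else if j.val = i.val + 1 then 1 else 0)
    (hg : ¬ ∃ c : K, (g : Matrix (Fin n) (Fin n) K) = c • (1 : Matrix (Fin n) (Fin n) K))
    (hdet : (g : Matrix (Fin n) (Fin n) K).det = 1) :
    ∃ x y : GL (Fin n) K, g = (x * J * x⁻¹) * (y * J * y⁻¹) := by
  classical
  obtain ⟨m, rfl⟩ : ∃ m, n = m + 1 := ⟨n - 1, by omega⟩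
  have hfr : Module.finrank K (Fin (m + 1) → K) = m + 1 := Module.finrank_fin_fun K
  have hdet' : LinearMap.det (Matrix.toLin' (g : Matrix (Fin (m + 1)) (Fin (m + 1)) K)) = 1 := by
    rw [LinearMap.det_toLin', hdet]
  have hns : ¬ ∃ c : K, Matrix.toLin' (g : Matrix (Fin (m + 1)) (Fin (m + 1)) K) = c • 1 := by
    rintro ⟨c, hc⟩
    apply hg
    refine ⟨c, ?_⟩
    have := congrArg LinearMap.toMatrix' hc
    rw [LinearMap.toMatrix'_toLin', map_smul, LinearMap.toMatrix'_one] at this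
    exact this
  obtain ⟨A, B, hAB, hA, hB⟩ := main_T hK m (Fin (m + 1) → K) hfr
    (Matrix.toLin' (g : Matrix (Fin (m + 1)) (Fin (m + 1)) K)) hdet' (fun _ => hns)
  have hA' : RegU (Matrix.toLin' (LinearMap.toMatrix' A)) := by
    rw [Matrix.toLin'_toMatrix']
    exact hA
  have hB' : RegU (Matrix.toLin' (LinearMap.toMatrix' B)) := by
    rw [Matrix.toLin'_toMatrix']
    exact hB
  obtain ⟨P, P', hPP', hP'P, hPA⟩ := conj_J (m + 1) (by omega) (LinearMap.toMatrix' A) hA'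
    (J : Matrix (Fin (m + 1)) (Fin (m + 1)) K) hJ
  obtain ⟨Q, Q', hQQ', hQ'Q, hQB⟩ := conj_J (m + 1) (by omega) (LinearMap.toMatrix' B) hB'
    (J : Matrix (Fin (m + 1)) (Fin (m + 1)) K) hJ
  refine ⟨⟨P, P', hPP', hP'P⟩, ⟨Q, Q', hQQ', hQ'Q⟩, ?_⟩
  apply Units.ext
  have h1 : (g : Matrix (Fin (m + 1)) (Fin (m + 1)) K) =
      LinearMap.toMatrix' A * LinearMap.toMatrix' B := by
    rw [← LinearMap.toMatrix'_mul, ← hAB, LinearMap.toMatrix'_toLin']
  rw [h1, hPA, hQB]
  rfl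

end Cfsg.Agent.S2522
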