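import Cfsg.Statements.S2531
import Cfsg.Agent.Lib.helper14.ProjPts
-- import your own Cfsg.Agent.* helpers here

set_option autoImplicit false
open Cfsg

namespace Cfsg.Agent.S2531

open scoped LinearAlgebra.Projectivization
open Cfsg.Agent.Lib.helper14.ProjPts

section aux

variable {F : Type*} [Field F] [Finite F]

/-- a nonzero subspace of a finite vector space has cardinality divisible by `#F` -/
theorem card_dvd_of_ne_bot {V : Type*} [AddCommGroup V] [Module F V] [Finite V]
    (W : Submodule F V) (v : V) (hv : v ∈ W) (hv0 : v ≠ 0) : Nat.card F ∣ Nat.card W := by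
  haveI : Module.Finite F W := Module.Finite.of_finite
  rw [Module.natCard_eq_pow_finrank (K := F) (V := W)]
  have hpos : 0 < Module.finrank F W := by
    rw [Module.finrank_pos_iff]
    exact ⟨⟨⟨v, hv⟩, 0, fun h => hv0 (congrArg Subtype.val h)⟩⟩
  exact dvd_pow_self _ hpos.ne'

/-- the hyperplane `x₀ = 0` -/
def Hyp (m : ℕ) : Submodule F (Fin (m + 3) → F) :=
  LinearMap.ker (LinearMap.proj (0 : Fin (m + 3)))

theorem mem_Hyp {m : ℕ} (v : Fin (m + 3) → F) : v ∈ Hyp (F := F) m ↔ v 0 = 0 := by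
  simp [Hyp]

/-- the subspace of vectors of the hyperplane sent into the hyperplane -/
def Wf {m : ℕ} {σ : F →+* F} (f : (Fin (m + 3) → F) →ₛₗ[σ] (Fin (m + 3) → F)) :
    Submodule F (Fin (m + 3) → F) :=
  Hyp m ⊓ Submodule.comap f (Hyp m)

theorem mem_Wf {m : ℕ} {σ : F →+* F} (f : (Fin (m + 3) → F) →ₛₗ[σ] (Fin (m + 3) → F))
    (v : Fin (m + 3) → F) : v ∈ Wf f ↔ v 0 = 0 ∧ f v 0 = 0 := by
  simp [Wf, mem_Hyp]

theorem card_Wf_dvd {m : ℕ} (σ : F ≃+* F)
    (f : (Fin (m + 3) → F) →ₛₗ[(σ : F →+* F)] (Fin (m + 3) → F)) :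
    Nat.card F ∣ Nat.card (Wf f) := by
  classical
  set e1 : Fin (m + 3) → F := Pi.single 1 1 with he1
  set e2 : Fin (m + 3) → F := Pi.single 2 1 with he2
  have h10 : e1 0 = 0 := by simp [he1, Pi.single_apply]
  have h20 : e2 0 = 0 := by
    rw [he2, Pi.single_apply, if_neg]
    intro h
    have := congrArg Fin.val h
    rw [Fin.val_zero, Fin.val_two] at this
    omega
  by_cases h : f e1 0 = 0
  · refine card_dvd_of_ne_bot (Wf f) e1 ((mem_Wf f e1).2 ⟨h10, h⟩) ?_
    intro h0
    have := congrFun h0 1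
    simp [he1] at this
  · set t : F := f e2 0 / f e1 0 with ht
    set c : F := σ.symm t with hc
    have hv : e2 - c • e1 ∈ Wf f := by
      rw [mem_Wf]
      refine ⟨by simp [h10, h20], ?_⟩
      rw [map_sub, LinearMap.map_smulₛₗ]
      simp only [Pi.sub_apply, Pi.smul_apply, smul_eq_mul]
      have : (σ : F →+* F) c = t := by
        rw [hc]
        simp
      rw [this, ht]
      field_simp
      ring
    refine card_dvd_of_ne_bot (Wf f) _ hv ?_
    intro h0
    have := congrFun h0 2
    have h12 : (2 : Fin (m + 3)) ≠ 1 := by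
      intro h
      have := congrArg Fin.val h
      rw [Fin.val_one, Fin.val_two] at this
      omega
    simp [he1, he2, Pi.single_apply, h12] at this

end aux

/-- Let `F` be a finite field and `n ≥ 3`. No set of permutations of the points of the projective space of `Fⁿ`, each induced by an invertible semilinear transformation of `Fⁿ` (so a subset of the full projective semilinear group), is sharply 2-transitive on the points: it is impossible that for all pairs of distinct points `(a, b)` and `(c, d)` exactly one member of the set sends `a` to `c` and `b` to `d`. -/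
theorem result {F : Type*} [Field F] [Finite F]
    (n : ℕ) (hn : 3 ≤ n) (S : Set (Equiv.Perm (Projectivization F (Fin n → F))))
    (hS : ∀ s ∈ S, ∃ (σ : F ≃+* F) (f : (Fin n → F) →ₛₗ[(σ : F →+* F)] (Fin n → F)) (hf : Function.Injective f),
      ∀ x, s x = Projectivization.map f hf x) :
    ¬ (∀ a b c d : Projectivization F (Fin n → F), a ≠ b → c ≠ d →
        ∃! s, s ∈ S ∧ s a = c ∧ s b = d) := by
  obtain ⟨m, rfl⟩ : ∃ m, n = m + 3 := ⟨n - 3, by omega⟩
  intro h2
  classical
  haveI : Fintype (ℙ F (Fin (m + 3) → F)) := Fintype.ofFinite _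
  -- the two base points
  have e0 : (Pi.single 0 1 : Fin (m + 3) → F) ≠ 0 := by
    intro h0
    have := congrFun h0 0
    simp at this
  have e1 : (Pi.single 1 1 : Fin (m + 3) → F) ≠ 0 := by
    intro h0
    have := congrFun h0 1
    simp at this
  set a : ℙ F (Fin (m + 3) → F) := Projectivization.mk F _ e0 with ha_def
  set b0 : ℙ F (Fin (m + 3) → F) := Projectivization.mk F _ e1 with hb0_def
  have haH : a ∉ ptsIn (Hyp (F := F) m) := by
    rw [ha_def, mk_mem_ptsIn, mem_Hyp]
    simp
  have hb0H : b0 ∈ ptsIn (Hyp (F := F) m) := by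
    rw [hb0_def, mk_mem_ptsIn, mem_Hyp]
    simp [Pi.single_apply]
  have hab0 : a ≠ b0 := fun h => haH (h ▸ hb0H)
  -- finsets
  obtain ⟨PH, memPH, hPH⟩ : ∃ PH : Finset (ℙ F (Fin (m + 3) → F)),
      (∀ x, x ∈ PH ↔ x ∈ ptsIn (Hyp (F := F) m)) ∧
      PH = Finset.univ.filter (fun x => x ∈ ptsIn (Hyp (F := F) m)) :=
    ⟨_, fun x => by simp, rfl⟩
  obtain ⟨T, memT⟩ : ∃ T : Finset (Equiv.Perm (ℙ F (Fin (m + 3) → F))),
      ∀ s, s ∈ T ↔ s ∈ S ∧ s a = a :=
    ⟨Finset.univ.filter (fun s => s ∈ S ∧ s a = a), fun s => by simp⟩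
  set q := Nat.card F with hq
  have hq2 : 2 ≤ q := Finite.one_lt_card
  set N := Fintype.card (ℙ F (Fin (m + 3) → F)) with hN
  set k := PH.card with hk
  -- (1) the number of points
  have hN1 : q ∣ N * (q - 1) + 1 := by
    have := Projectivization.card' F (Fin (m + 3) → F)
    rw [Nat.card_eq_fintype_card (α := ℙ F (Fin (m + 3) → F))] at this
    rw [← this, Nat.card_fun, Nat.card_fin]
    exact dvd_pow_self _ (by omega)
  -- (2) the number of points of the hyperplane
  have hk1 : q ∣ k * (q - 1) + 1 := by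
    have h1 := card_ptsIn (Hyp (F := F) m)
    have h2 : Nat.card (ptsIn (Hyp (F := F) m)) = k := by
      rw [hk, hPH, Nat.card_eq_fintype_card, Fintype.card_subtype]
    rw [h2] at h1
    rw [h1]
    refine card_dvd_of_ne_bot _ (Pi.single 1 1) ?_ e1
    rw [mem_Hyp]
    simp [Pi.single_apply]
  -- (3) the number of elements of `T`
  have hT1 : T.card + 1 = N := by
    have : T.card = (Finset.univ.erase a).card := by
      refine Finset.card_bij (fun s _ => s b0) ?_ ?_ ?_
      · intro s hs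
        rw [memT] at hs
        rw [Finset.mem_erase]
        refine ⟨?_, Finset.mem_univ _⟩
        intro h
        rw [← hs.2] at h
        exact hab0 (s.injective h).symm
      · intro s hs s' hs' h
        rw [memT] at hs hs'
        exact (h2 a b0 a (s' b0) hab0 (by
          intro h'
          have : s' a = s' b0 := by rw [hs'.2]; exact h'
          exact hab0 (s'.injective this))).unique ⟨hs.1, hs.2, h⟩ ⟨hs'.1, hs'.2, rfl⟩
      · intro d hd
        rw [Finset.mem_erase] at hd
        obtain ⟨s, hs, -⟩ := h2 a b0 a d hab0 (Ne.symm hd.1)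
        exact ⟨s, (memT s).2 ⟨hs.1, hs.2.1⟩, hs.2.2⟩
    rw [this, Finset.card_erase_of_mem (Finset.mem_univ _), Finset.card_univ]
    have : 0 < N := Fintype.card_pos_iff.2 ⟨a⟩
    omega
  -- (4) the double count
  have hsum : ∑ s ∈ T, (PH.filter (fun b => s b ∈ PH)).card = k * k := by
    rw [← Finset.card_sigma, hk, ← Finset.card_product]
    refine Finset.card_bij (fun x _ => (x.2, x.1 x.2)) ?_ ?_ ?_
    · rintro ⟨s, b⟩ hx
      rw [Finset.mem_sigma, Finset.mem_filter] at hx
      rw [Finset.mem_product]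
      exact ⟨hx.2.1, hx.2.2⟩
    · rintro ⟨s, b⟩ hx ⟨s', b'⟩ hx' h
      rw [Finset.mem_sigma, Finset.mem_filter, memT] at hx hx'
      simp only [Prod.mk.injEq] at h
      obtain ⟨h1, h3⟩ := h
      subst h1
      have hab : a ≠ b := fun h => haH (h ▸ (memPH b).1 hx.2.1)
      have had : a ≠ s' b := fun h => haH (h ▸ (memPH _).1 hx'.2.2)
      have := (h2 a b a (s' b) hab had).unique ⟨hx.1.1, hx.1.2, h3⟩ ⟨hx'.1.1, hx'.1.2, rfl⟩
      subst this
      rfl
    · rintro ⟨b, d⟩ hbd
      rw [Finset.mem_product] at hbd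
      have hab : a ≠ b := fun h => haH (h ▸ (memPH b).1 hbd.1)
      have had : a ≠ d := fun h => haH (h ▸ (memPH d).1 hbd.2)
      obtain ⟨s, hs, -⟩ := h2 a b a d hab had
      refine ⟨⟨s, b⟩, ?_, ?_⟩
      · rw [Finset.mem_sigma, Finset.mem_filter, memT]
        exact ⟨⟨hs.1, hs.2.1⟩, hbd.1, by rw [hs.2.2]; exact hbd.2⟩
      · simp [hs.2.2]
  -- (5) each summand
  have hX : ∀ s ∈ T, q ∣ (PH.filter (fun b => s b ∈ PH)).card * (q - 1) + 1 := by
    intro s hs
    rw [memT] at hs
    obtain ⟨σ, f, hf, hsf⟩ := hS s hs.1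
    have h1 := card_ptsIn (Wf f)
    have h3 : Nat.card (ptsIn (Wf f)) = (PH.filter (fun b => s b ∈ PH)).card := by
      rw [Nat.card_eq_fintype_card, Fintype.card_subtype]
      congr 1
      ext x
      simp only [Finset.mem_filter, Finset.mem_univ, true_and, memPH]
      induction x using Projectivization.ind with | h v hv =>
      rw [hsf, Projectivization.map_mk, mk_mem_ptsIn, mk_mem_ptsIn, mk_mem_ptsIn, mem_Wf,
        mem_Hyp, mem_Hyp]
    rw [← h3, h1]
    exact card_Wf_dvd σ f
  -- arithmetic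
  have hfin : q ∣ k * k * (q - 1) + T.card := by
    have : ∑ s ∈ T, ((PH.filter (fun b => s b ∈ PH)).card * (q - 1) + 1)
        = k * k * (q - 1) + T.card := by
      rw [Finset.sum_add_distrib, ← Finset.sum_mul, hsum]
      simp
    rw [← this]
    exact Finset.dvd_sum hX
  obtain ⟨r, hr⟩ : ∃ r, q = r + 1 := ⟨q - 1, by omega⟩
  have hr1 : q - 1 = r := by omega
  rw [hr1] at hN1 hk1 hfin
  have hN1' : (q : ℤ) ∣ (N : ℤ) * r + 1 := by exact_mod_cast hN1
  have hk1' : (q : ℤ) ∣ (k : ℤ) * r + 1 := by exact_mod_cast hk1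
  have hfin' : (q : ℤ) ∣ (k : ℤ) * k * r + T.card := by exact_mod_cast hfin
  have hqr : (q : ℤ) = r + 1 := by exact_mod_cast hr
  have hTc : (T.card : ℤ) = N - 1 := by
    have : (T.card : ℤ) + 1 = N := by exact_mod_cast hT1
    linarith
  have d1 : (q : ℤ) ∣ (N : ℤ) - 1 := by
    have e : (N : ℤ) - 1 = N * q - (N * r + 1) := by rw [hqr]; ring
    rw [e]
    exact dvd_sub (dvd_mul_left (q : ℤ) N) hN1'
  have d2 : (q : ℤ) ∣ (k : ℤ) - 1 := by
    have e : (k : ℤ) - 1 = k * q - (k * r + 1) := by rw [hqr]; ring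
    rw [e]
    exact dvd_sub (dvd_mul_left (q : ℤ) k) hk1'
  have d3 : (q : ℤ) ∣ (k : ℤ) * k := by
    rw [hTc] at hfin'
    have e : (k : ℤ) * k = (k * k * q + (N - 1)) - (k * k * r + (N - 1)) := by rw [hqr]; ring
    rw [e]
    exact dvd_sub (dvd_add (dvd_mul_left (q : ℤ) (k * k)) d1) hfin'
  have d4 : (q : ℤ) ∣ 1 := by
    have e : (1 : ℤ) = k * k - (k + 1) * (k - 1) := by ring
    rw [e]
    exact dvd_sub d3 (Dvd.dvd.mul_left d2 ((k : ℤ) + 1))
  have := Int.le_of_dvd one_pos d4
  have : (2 : ℤ) ≤ q := by exact_mod_cast hq2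
  omega

end Cfsg.Agent.S2531
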