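import Cfsg.Statements.S2532

import Cfsg.Agent.Lib.helper15.OrbitPerm
set_option autoImplicit false
open Cfsg

namespace Cfsg.Agent.S2532


open Cfsg.Agent.Lib.helper15

theorem units_cube {u : ℤˣ} (h : u ^ 3 = 1) : u = 1 := by
  rcases Int.units_eq_one_or u with h1 | h1
  · exact h1
  · rw [h1] at h
    exact absurd h (by decide)

theorem smul_eq_apply (m : ℕ) (H : Subgroup ↥(alternatingGroup (Fin m))) (h : ↥H) (y : Fin m) :
    h • y = ((h : ↥(alternatingGroup (Fin m))) : Equiv.Perm (Fin m)) y := rfl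

theorem key (m r : ℕ) (H : Subgroup ↥(alternatingGroup (Fin m)))
    (hm : Nat.card H * (2 ^ Nat.card H * r + 1) ≤ m) :
    ∃ K : Subgroup ↥(alternatingGroup (Fin m)), Nonempty (↥K ≃* ↥(alternatingGroup (Fin r))) ∧
        K ≤ Subgroup.centralizer (H : Set ↥(alternatingGroup (Fin m))) := by
  classical
  have hfinH : Finite ↥H := inferInstance
  have hfinΩ : Finite (Orb ↥H (Fin m)) := Quotient.finite _
  have : Fintype (Orb ↥H (Fin m)) := Fintype.ofFinite _
  have : Fintype ↥H := Fintype.ofFinite _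
  have hn : 0 < Nat.card H := Nat.card_pos
  have hcard : Nat.card (Fin m) ≤ Nat.card (Orb ↥H (Fin m)) * Nat.card H := card_le_card_orb_mul
  rw [Nat.card_fin] at hcard
  have hΩ : 2 ^ Nat.card H * r < Nat.card (Orb ↥H (Fin m)) := by
    by_contra hcon
    push Not at hcon
    have h1 : Nat.card (Orb ↥H (Fin m)) * Nat.card H ≤ (2 ^ Nat.card H * r) * Nat.card H :=
      Nat.mul_le_mul_right _ hcon
    have h2 : Nat.card H * (2 ^ Nat.card H * r + 1) = (2 ^ Nat.card H * r) * Nat.card H + Nat.card H := by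
      ring
    omega
  have hpig : Fintype.card (Set ↥H) * r < Fintype.card (Orb ↥H (Fin m)) := by
    rw [Fintype.card_set, ← Nat.card_eq_fintype_card, ← Nat.card_eq_fintype_card]
    exact hΩ
  obtain ⟨S, hS⟩ := Fintype.exists_lt_card_fiber_of_mul_lt_card
    (fun ω : Orb ↥H (Fin m) => (MulAction.stabilizer ↥H (orbRep ω) : Set ↥H)) hpig
  obtain ⟨T, hTsub, hTcard⟩ := Finset.exists_subset_card_eq (le_of_lt hS)
  have hTS : ∀ ω ∈ T, (MulAction.stabilizer ↥H (orbRep ω) : Set ↥H) = S := by
    intro ω hω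
    have := hTsub hω
    simpa using this
  let e : Fin r ≃ {ω // ω ∈ T} := (Finset.equivFinOfCardEq hTcard).symm
  let E : Equiv.Perm (Fin r) →* Equiv.Perm (Orb ↥H (Fin m)) := Equiv.Perm.extendDomainHom e
  have hE : ∀ σ, E σ ∈ stabPres (H := ↥H) (X := Fin m) := by
    intro σ ω
    by_cases hω : ω ∈ T
    · have h1 : E σ ω = e (σ (e.symm ⟨ω, hω⟩)) := Equiv.Perm.extendDomain_apply_subtype σ e hω
      apply SetLike.coe_injective
      rw [hTS ω hω, h1]
      exact hTS _ (e (σ (e.symm ⟨ω, hω⟩))).2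
    · have h1 : E σ ω = ω := Equiv.Perm.extendDomain_apply_not_subtype σ e hω
      rw [h1]
  let E' : Equiv.Perm (Fin r) →* stabPres (H := ↥H) (X := Fin m) := E.codRestrict _ hE
  have hE'inj : Function.Injective E' := by
    intro a b hab
    apply Equiv.Perm.extendDomainHom_injective e
    exact congrArg Subtype.val hab
  let Ψ : Equiv.Perm (Fin r) →* Equiv.Perm (Fin m) := piHom.comp E'
  have hΨinj : Function.Injective Ψ := piHom_injective.comp hE'inj
  have hΨsmul : ∀ σ (g : ↥H) (y : Fin m), Ψ σ (g • y) = g • Ψ σ y := fun σ g y => piHom_smul (E' σ) g y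
  have heven : ∀ σ ∈ alternatingGroup (Fin r), Ψ σ ∈ alternatingGroup (Fin m) := by
    have hle : alternatingGroup (Fin r) ≤ (Equiv.Perm.sign.comp Ψ).ker := by
      rw [← Equiv.Perm.closure_three_cycles_eq_alternating, Subgroup.closure_le]
      intro σ hσ
      have h3 : σ ^ 3 = 1 := by
        have := Equiv.Perm.IsThreeCycle.orderOf hσ
        rw [← this]
        exact pow_orderOf_eq_one σ
      rw [SetLike.mem_coe, MonoidHom.mem_ker]
      apply units_cube
      rw [← map_pow, h3, map_one]
    intro σ hσ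
    have := hle hσ
    rw [MonoidHom.mem_ker] at this
    rw [Equiv.Perm.mem_alternatingGroup]
    exact this
  let Ψa : ↥(alternatingGroup (Fin r)) →* ↥(alternatingGroup (Fin m)) :=
    (Ψ.comp (alternatingGroup (Fin r)).subtype).codRestrict (alternatingGroup (Fin m))
      (fun σ => heven σ.1 σ.2)
  have hΨainj : Function.Injective Ψa := by
    intro a b hab
    apply Subtype.ext
    apply hΨinj
    exact congrArg Subtype.val hab
  refine ⟨Ψa.range, ⟨(MonoidHom.ofInjective hΨainj).symm⟩, ?_⟩
  rintro k ⟨σ, rfl⟩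
  rw [Subgroup.mem_centralizer_iff]
  intro h hh
  apply Subtype.ext
  apply Equiv.ext
  intro y
  have := hΨsmul σ.1 ⟨h, hh⟩ y
  show (h : Equiv.Perm (Fin m)) (Ψ σ.1 y) = Ψ σ.1 ((h : Equiv.Perm (Fin m)) y)
  exact this.symm

/-- There is a function `f` of two natural-number arguments such that, whenever `m ≥ f(n, r)`, every subgroup of order `n` of the alternating group of degree `m` centralizes some subgroup of that alternating group isomorphic to the alternating group of degree `r`. -/
theorem result :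
    ∃ f : ℕ → ℕ → ℕ, ∀ (m r : ℕ) (H : Subgroup ↥(alternatingGroup (Fin m))), f (Nat.card H) r ≤ m →
      ∃ K : Subgroup ↥(alternatingGroup (Fin m)), Nonempty (↥K ≃* ↥(alternatingGroup (Fin r))) ∧
        K ≤ Subgroup.centralizer (H : Set ↥(alternatingGroup (Fin m))) := by
  exact ⟨fun n r => n * (2 ^ n * r + 1), fun m r H hm => key m r H hm⟩

end Cfsg.Agent.S2532
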