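import Cfsg.Statements.S2533
import Cfsg.Agent.Lib.helper14.DihP3Mat
-- import your own Cfsg.Agent.* helpers here

set_option autoImplicit false
open Cfsg

namespace Cfsg.Agent.S2533

open Cfsg.Agent.Lib.helper14.DihP3

/-- For every odd prime `p` there is a finite group `H` of order `2p³` which, for infinitely many `n`, embeds in the projective special linear group `PSL(n, p)` as a subgroup with trivial centralizer. -/
theorem result
    (p : ℕ) [Fact p.Prime] (hp : p ≠ 2) :
    ∃ (H : Type) (_ : Group H) (_ : Finite H), Nat.card H = 2 * p ^ 3 ∧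
      ∀ N : ℕ, ∃ n, N ≤ n ∧ ∃ φ : H →* Matrix.ProjectiveSpecialLinearGroup (Fin n) (ZMod p),
        Function.Injective φ ∧ Subgroup.centralizer (φ.range : Set (Matrix.ProjectiveSpecialLinearGroup (Fin n) (ZMod p))) = ⊥ := by
  classical
  refine ⟨Dih p, inferInstance, inferInstance, Dih.card p, ?_⟩
  intro N
  have hKe : Even (2 * (N + 1)) := even_two_mul _
  have hK2 : 2 ≤ 2 * (N + 1) := by omega
  refine ⟨2 * (N + 1) + 2 * (N + 1), by omega, ?_⟩
  generalize 2 * (N + 1) = K at hKe hK2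
  have h2ne : (-1 : ZMod p) ≠ 1 := by
    intro h
    have h2 : ((2 : ℕ) : ZMod p) = 0 := by
      have : (2 : ZMod p) = 1 - (-1) := by ring
      push_cast
      rw [this, h, sub_self]
    rw [ZMod.natCast_eq_zero_iff] at h2
    have hp' : p.Prime := Fact.out
    exact hp ((Nat.prime_dvd_prime_iff_eq hp' Nat.prime_two).1 h2)
  set φ₀ : Dih p →* Matrix.ProjectiveSpecialLinearGroup (Fin K ⊕ Fin K) (ZMod p) :=
    (QuotientGroup.mk' (Subgroup.center (Matrix.SpecialLinearGroup (Fin K ⊕ Fin K) (ZMod p)))).comp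
      (phiSL p K hKe) with hφ₀
  have hinj : Function.Injective φ₀ := by
    rw [injective_iff_map_eq_one]
    intro x hx
    have h1 : phiSL p K hKe x ∈ Subgroup.center _ := (QuotientGroup.eq_one_iff _).1 hx
    rw [Matrix.SpecialLinearGroup.mem_center_iff] at h1
    obtain ⟨r, -, hr⟩ := h1
    rw [phiSL_coe, Mh, Matrix.scalar_apply, ← Matrix.smul_one_eq_diagonal r, ← Matrix.fromBlocks_one,
      Matrix.fromBlocks_smul, Matrix.fromBlocks_inj] at hr
    obtain ⟨h3, h4, -, h5⟩ := hr
    have hr1 : r = 1 := by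
      have := congrFun (congrFun h3 ⟨0, by omega⟩) ⟨0, by omega⟩
      simpa using this
    subst hr1
    have he : x.e = 1 := by
      have := congrFun (congrFun h5 ⟨0, by omega⟩) ⟨0, by omega⟩
      simp only [Matrix.smul_apply, Matrix.one_apply_eq, smul_eq_mul, mul_one] at this
      rcases Int.units_eq_one_or x.e with h | h
      · exact h
      · rw [h, sgn_apply] at this
        simp only [Units.val_neg, Units.val_one, Int.cast_neg, Int.cast_one] at this
        exact absurd this.symm h2ne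
    have hv : x.v = 0 := by
      rw [he, map_one, one_smul, one_smul] at h4
      exact Xv_inj hK2 _ h4.symm
    exact Dih.ext' hv he
  have hcent : Subgroup.centralizer
      (φ₀.range : Set (Matrix.ProjectiveSpecialLinearGroup (Fin K ⊕ Fin K) (ZMod p))) = ⊥ := by
    rw [eq_bot_iff]
    intro x hx
    obtain ⟨g, rfl⟩ := QuotientGroup.mk_surjective x
    rw [Subgroup.mem_bot]
    show (QuotientGroup.mk g : Matrix.SpecialLinearGroup (Fin K ⊕ Fin K) (ZMod p) ⧸ _) = 1
    rw [QuotientGroup.eq_one_iff, Matrix.SpecialLinearGroup.mem_center_iff]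
    have hg : (g : Matrix (Fin K ⊕ Fin K) (Fin K ⊕ Fin K) (ZMod p)).det ≠ 0 := by
      rw [g.2]
      exact one_ne_zero
    have hcomm : ∀ y : Dih p, ∃ r : ZMod p,
        (g : Matrix (Fin K ⊕ Fin K) (Fin K ⊕ Fin K) (ZMod p)) * Mh K y
          = r • (Mh K y * (g : Matrix (Fin K ⊕ Fin K) (Fin K ⊕ Fin K) (ZMod p))) := by
      intro y
      have h1 := (Subgroup.mem_centralizer_iff.1 hx) (φ₀ y) ⟨y, rfl⟩
      have h2 : (QuotientGroup.mk (phiSL p K hKe y * g) :
          Matrix.SpecialLinearGroup (Fin K ⊕ Fin K) (ZMod p) ⧸ _) =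
          QuotientGroup.mk (g * phiSL p K hKe y) := h1
      rw [QuotientGroup.eq, Matrix.SpecialLinearGroup.mem_center_iff] at h2
      obtain ⟨r, -, hr⟩ := h2
      refine ⟨r, ?_⟩
      have h3 : g * phiSL p K hKe y =
          (phiSL p K hKe y * g) * ((phiSL p K hKe y * g)⁻¹ * (g * phiSL p K hKe y)) := by group
      have h4 := congrArg (fun z : Matrix.SpecialLinearGroup (Fin K ⊕ Fin K) (ZMod p) =>
        (z : Matrix (Fin K ⊕ Fin K) (Fin K ⊕ Fin K) (ZMod p))) h3
      change ((g * phiSL p K hKe y : Matrix.SpecialLinearGroup (Fin K ⊕ Fin K) (ZMod p)) :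
          Matrix (Fin K ⊕ Fin K) (Fin K ⊕ Fin K) (ZMod p)) =
        (((phiSL p K hKe y * g) * ((phiSL p K hKe y * g)⁻¹ * (g * phiSL p K hKe y)) :
          Matrix.SpecialLinearGroup (Fin K ⊕ Fin K) (ZMod p)) :
          Matrix (Fin K ⊕ Fin K) (Fin K ⊕ Fin K) (ZMod p)) at h4
      rw [Matrix.SpecialLinearGroup.coe_mul, Matrix.SpecialLinearGroup.coe_mul
        (phiSL p K hKe y * g), ← hr, Matrix.SpecialLinearGroup.coe_mul, phiSL_coe] at h4
      rw [h4, Matrix.scalar_apply, ← Matrix.smul_one_eq_diagonal r]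
      simp
    obtain ⟨a, ha⟩ := scalar_of_comm hp hK2 _ hg hcomm
    refine ⟨a, ?_, ?_⟩
    · have := g.2
      rw [ha, Matrix.det_smul, Matrix.det_one, mul_one] at this
      exact this
    · rw [ha, Matrix.smul_one_eq_diagonal, Matrix.scalar_apply]
  obtain ⟨h1, h2⟩ := transfer (pslR (ZMod p) (finSumFinEquiv : Fin K ⊕ Fin K ≃ Fin (K + K)))
    φ₀ hinj hcent
  exact ⟨_, h1, h2⟩

end Cfsg.Agent.S2533
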