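import Cfsg.Statements.S2534
import Mathlib
import Cfsg.Agent.Lib.Helper22.HtB
-- import your own Cfsg.Agent.* helpers here

set_option autoImplicit false
open Cfsg

namespace Cfsg.Agent.S2534

open Cfsg.Agent.Lib.Helper22.HsA Cfsg.Agent.Lib.Helper22.HsF Cfsg.Agent.Lib.Helper22.HsG
  Cfsg.Agent.Lib.Helper22.HsU Cfsg.Agent.Lib.Helper22.HsY Cfsg.Agent.Lib.Helper22.HsZ
  Cfsg.Agent.Lib.Helper22.HtA Cfsg.Agent.Lib.Helper22.HtB

/-- For `n ≥ 5` and a set of primes `π`, the alternating group of degree `n` satisfies the full Sylow analogue for `π` (its maximal `π`-subgroups are pairwise conjugate; for a finite group this says Hall `π`-subgroups exist, are all conjugate, and contain every `π`-subgroup up to conjugacy) if and only if either at most one prime of `π` divides its order or every prime dividing its order lies in `π`. -/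
theorem result (n : ℕ) (hn : 5 ≤ n) (π : Set ℕ) :
    Cfsg.IsDPiGroup π ↥(alternatingGroup (Fin n)) ↔
      ((∀ r s : ℕ, r.Prime → s.Prime → r ∈ π → s ∈ π → r ∣ Nat.card ↥(alternatingGroup (Fin n)) → s ∣ Nat.card ↥(alternatingGroup (Fin n)) → r = s) ∨
        ∀ r : ℕ, r.Prime → r ∣ Nat.card ↥(alternatingGroup (Fin n)) → r ∈ π) := by
  constructor
  · intro hD
    by_contra hcon
    push Not at hcon
    obtain ⟨⟨r, s, hr, hs, hrπ, hsπ, hrd, hsd, hrs⟩, ⟨q, hq, hqd, hqπ⟩⟩ := hcon
    have hcard : Fintype.card (Fin n) = n := Fintype.card_fin n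
    have hrn : r ≤ n := hcard ▸ prime_le_of_dvd_card_alt hr hrd
    have hsn : s ≤ n := hcard ▸ prime_le_of_dvd_card_alt hs hsd
    have hqn : q ≤ n := hcard ▸ prime_le_of_dvd_card_alt hq hqd
    have h2p : TwoPrimes π n := ⟨r, s, hr, hs, hrs, hrπ, hsπ, hrn, hsn⟩
    have hnf : NotFull π n := ⟨q, hq, hqn, hqπ⟩
    have hbot : Cfsg.IsPiSubgroup π (⊥ : Subgroup ↥(alternatingGroup (Fin n))) := by
      intro p hp hpd
      rw [Subgroup.card_bot] at hpd
      exact absurd (Nat.dvd_one.1 hpd) hp.one_lt.ne'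
    obtain ⟨M, hM, -⟩ := hall_of_dpi hD ⊥ hbot
    obtain ⟨M₀, hM₀, -⟩ := (hall_alt_iff_inter π M).1 hM
    have hE : E π n := ⟨Fin n, inferInstance, M₀, by simp, hM₀⟩
    rcases main π n hE h2p hnf with ⟨hp, hπ⟩ | ⟨h78, hπ⟩
    · exact no_dpi_prime hD (by rw [hcard]; exact hp) (by rw [hcard]; exact hn)
        (by rw [hcard]; exact hπ)
    · rcases h78 with h7 | h8
      · subst h7
        exact no_dpi_seven hD hπ
      · subst h8
        exact no_dpi_eight hD hπ
  · rintro (h | h)
    · exact dpi_of_le_one_prime π h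
    · exact dpi_of_full π h

end Cfsg.Agent.S2534
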