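import Cfsg.Statements.S2537
import Cfsg.Agent.Lib.helper6.PSL2HallA
import Cfsg.Agent.Lib.helper6.PSL2MinA
import Cfsg.Agent.S0802
import Cfsg.Agent.S0803

set_option autoImplicit false
open Cfsg

namespace Cfsg.Agent.S2537

/-- Let `F` be a finite field with `q` elements of characteristic `p ≥ 5`, and `ε = 1` if `q ≡ 1 (mod 4)`, `ε = -1` otherwise. Then `PSL(2, F)` has a Hall `{2, 3}`-subgroup if and only if `3` divides `q − ε`, or the `{2,3}`-part of `q² − 1` is 24, or the `{2,3}`-part of `q² − 1` is 48 (the `{2,3}`-part of `m` being the largest divisor of `m` with no prime factor other than 2 and 3). -/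
theorem result {F : Type*} [Field F] [Fintype F] {p : ℕ} [Fact p.Prime] [CharP F p]
    (hp : 5 ≤ p) (q : ℕ) (hq : Fintype.card F = q) :
    (∃ H : Subgroup (Matrix.ProjectiveSpecialLinearGroup (Fin 2) F), Cfsg.IsPiHall ({2, 3} : Set ℕ) H) ↔
      (3 ∣ q - 1 ∧ q % 4 = 1) ∨ (3 ∣ q + 1 ∧ q % 4 = 3) ∨
        2 ^ (q ^ 2 - 1).factorization 2 * 3 ^ (q ^ 2 - 1).factorization 3 = 24 ∨
        2 ^ (q ^ 2 - 1).factorization 2 * 3 ^ (q ^ 2 - 1).factorization 3 = 48 := by
  classical
  have hpP : p.Prime := Fact.out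
  obtain ⟨n, -, hqn⟩ := FiniteField.card F p
  rw [hq] at hqn
  have hq2 : ¬ 2 ∣ q := by
    intro h
    rw [hqn] at h
    have := (Nat.prime_dvd_prime_iff_eq Nat.prime_two hpP).mp (Nat.prime_two.dvd_of_dvd_pow h)
    omega
  have hq3 : ¬ 3 ∣ q := by
    intro h
    rw [hqn] at h
    have := (Nat.prime_dvd_prime_iff_eq Nat.prime_three hpP).mp (Nat.prime_three.dvd_of_dvd_pow h)
    omega
  have hq5 : 5 ≤ q := by
    rw [hqn]
    calc 5 ≤ p := hp
      _ = p ^ 1 := (pow_one p).symm
      _ ≤ p ^ (n : ℕ) := Nat.pow_le_pow_right hpP.pos n.pos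
  have hqodd : q % 2 = 1 := by omega
  have hq3' : q % 3 ≠ 0 := by omega
  have hsq : q ^ 2 - 1 = (q + 1) * (q - 1) :=
    Cfsg.Agent.Lib.helper6.PSL2Index.sq_sub_one_eq q (by omega)
  have hM0 : (q + 1) * (q - 1) ≠ 0 := Nat.mul_ne_zero (by omega) (by omega)
  have hcard := Cfsg.Agent.Lib.helper6.PSL2Index.card_PSL2_mul (F := F)
  have hg : Nat.gcd 2 (q - 1) = 2 := by
    rcases Cfsg.Agent.Lib.helper6.PSL2Tor.gcd_two_cases q (by omega) with ⟨_, h⟩ | ⟨h, _⟩
    · omega
    · exact h
  rw [hq, hg, hsq] at hcard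
  obtain ⟨NL, hNL⟩ : ∃ N, N = Nat.card (Matrix.ProjectiveSpecialLinearGroup (Fin 2) F) :=
    ⟨_, rfl⟩
  rw [← hNL] at hcard
  obtain ⟨X, instX, D⟩ := Cfsg.Agent.Lib.helper3.psl2_dact (F := F) p
  obtain ⟨r, s, hFull⟩ := Cfsg.Agent.Lib.helper6.PSL2Struct.psl_full p (by rw [hq]; omega) D
  rw [hq, hg] at hFull
  rw [hsq]
  constructor
  · rintro ⟨H, hH1, hH2⟩
    have h2idx : ¬ 2 ∣ H.index := hH2 2 Nat.prime_two (by simp)
    have h3idx : ¬ 3 ∣ H.index := hH2 3 Nat.prime_three (by simp)
    have hmul := H.card_mul_index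
    rw [← hNL] at hmul
    have hH23 : ∀ p' : ℕ, p'.Prime → p' ∣ Nat.card H → p' = 2 ∨ p' = 3 := by
      intro p' hp' hd
      have := hH1 p' hp' hd
      simpa using this
    have hpH : ¬ p ∣ Nat.card H := by
      intro hd
      rcases hH23 p hpP hd with h | h <;> omega
    have hcopH : (Nat.card H).Coprime p :=
      ((Nat.Prime.coprime_iff_not_dvd hpP).mpr hpH).symm
    have hkey : Nat.card H * H.index * 2 = q * ((q + 1) * (q - 1)) := by rw [hmul, hcard]
    have hHpos : 0 < Nat.card H := Nat.card_pos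
    rcases Cfsg.Agent.Lib.helper6.Dickson.dickson_abstract
      (Cfsg.Agent.Lib.helper3.dk_restrict D H) with c | c | c | c | c | c | c
    · -- cyclic
      exfalso
      obtain ⟨hcyc, -⟩ := c
      haveI := hcyc
      obtain ⟨t, ht⟩ := IsCyclic.exists_generator (α := H)
      have hord : orderOf t = Nat.card H := orderOf_eq_card_of_forall_mem_zpowers ht
      have hd := hFull.order_dvd (by norm_num) (t : Matrix.ProjectiveSpecialLinearGroup (Fin 2) F)
        (by rw [Subgroup.orderOf_coe, hord]; exact hcopH)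
      rw [Subgroup.orderOf_coe, hord] at hd
      exact h2idx (Cfsg.Agent.Lib.helper6.PSL2Hall.arith_cyc q _ _ hqodd hHpos hkey hd)
    · -- dihedral
      obtain ⟨s₀, ⟨e⟩, hcop⟩ := c
      have hc : Nat.card H = 2 * orderOf s₀ := by
        rw [Nat.card_congr e.toEquiv, DihedralGroup.nat_card]
      have hk0 : 0 < orderOf s₀ := by omega
      have hd := hFull.order_dvd (by norm_num) (s₀ : Matrix.ProjectiveSpecialLinearGroup (Fin 2) F)
        (by rw [Subgroup.orderOf_coe]; exact hcop)
      rw [Subgroup.orderOf_coe] at hd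
      rw [hc] at hkey
      rcases Cfsg.Agent.Lib.helper6.PSL2Hall.arith_dih q _ _ hqodd hq3' hk0 hkey hd h2idx h3idx
        with h | h
      · left; exact h
      · right; left; exact h
    · -- Borel
      exfalso
      obtain ⟨r', -, hQ⟩ := c
      obtain ⟨u, hu1⟩ := (Subgroup.ne_bot_iff_exists_ne_one).mp hQ
      have hu1' : (u : H) ≠ 1 := fun h => hu1 (Subtype.ext h)
      have hup : (u : H) ^ p = 1 := (Cfsg.Agent.Lib.helper3.dk_restrict D H).Q_pow u.2
      have hord : orderOf (u : H) = p := orderOf_eq_prime hup hu1'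
      apply hpH
      rw [← hord]
      exact orderOf_dvd_natCard _
    · -- A4
      right; right; left
      obtain ⟨e⟩ := c
      have hc : Nat.card H = 12 := by
        rw [Nat.card_congr e.toEquiv, nat_card_alternatingGroup, Nat.card_eq_fintype_card,
          Fintype.card_fin]
        rfl
      rw [hc] at hkey
      obtain ⟨ha, hb⟩ := Cfsg.Agent.Lib.helper6.PSL2Hall.arith_val q _ H.index 3 1 hq2 hq3 hM0
        (by rw [← hkey]; ring) h2idx h3idx
      rw [ha, hb]
      norm_num
    · -- S4
      right; right; right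
      obtain ⟨e⟩ := c
      have hc : Nat.card H = 24 := by
        rw [Nat.card_congr e.toEquiv, Nat.card_perm, Nat.card_eq_fintype_card, Fintype.card_fin]
        rfl
      rw [hc] at hkey
      obtain ⟨ha, hb⟩ := Cfsg.Agent.Lib.helper6.PSL2Hall.arith_val q _ H.index 4 1 hq2 hq3 hM0
        (by rw [← hkey]; ring) h2idx h3idx
      rw [ha, hb]
      norm_num
    · -- A5
      exfalso
      obtain ⟨e⟩ := c
      have hc : Nat.card H = 60 := by
        rw [Nat.card_congr e.toEquiv, nat_card_alternatingGroup, Nat.card_eq_fintype_card,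
          Fintype.card_fin]
        rfl
      have := hH23 5 Nat.prime_five (by rw [hc]; norm_num)
      omega
    · -- subfield
      exfalso
      obtain ⟨K, instK, instKf, a, h, hK, hrest⟩ := c
      have ha1 : 1 ≤ a := by
        rcases Nat.eq_zero_or_pos a with h0 | h0
        · exfalso
          rw [h0, pow_zero] at hK
          have := Fintype.one_lt_card (α := K)
          omega
        · exact h0
      have hpK : p ∣ Fintype.card K := by rw [hK]; exact dvd_pow_self p (by omega)
      apply hpH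
      rcases hrest with ⟨⟨eM⟩, -⟩ | ⟨⟨eM⟩, -⟩
      · have h1 := Cfsg.Agent.Lib.helper6.PSL2Index.card_PSL2_mul (F := K)
        rw [← Nat.card_congr eM.toEquiv] at h1
        have h2 : p ∣ Nat.card H * Nat.gcd 2 (Fintype.card K - 1) := by
          rw [h1]; exact Dvd.dvd.mul_right hpK _
        rcases (Nat.Prime.dvd_mul hpP).mp h2 with h3 | h3
        · exact h3
        · exfalso
          have h4 : p ∣ 2 := h3.trans (Nat.gcd_dvd_left 2 _)
          have := Nat.le_of_dvd (by norm_num) h4
          omega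
      · have h1 := Cfsg.Agent.Lib.helper6.PSL2Index.card_PGL2 (F := K)
        rw [← Nat.card_congr eM.toEquiv] at h1
        rw [h1]; exact Dvd.dvd.mul_right hpK _
  · intro hcases
    -- index data of a subgroup
    have hidxH : ∀ (H : Subgroup (Matrix.ProjectiveSpecialLinearGroup (Fin 2) F)),
        Nat.card H * H.index * 2 = q * ((q + 1) * (q - 1)) := by
      intro H
      rw [H.card_mul_index, ← hNL, hcard]
    -- the dihedral cases
    have hdih : ∀ (x y : X), x ≠ y → ∀ c : ℕ, c * 2 + 2 ≤ q * (q + 1) →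
        Nat.card ↥(MulAction.stabilizer (Matrix.ProjectiveSpecialLinearGroup (Fin 2) F) x ⊓
          MulAction.stabilizer (Matrix.ProjectiveSpecialLinearGroup (Fin 2) F) y :
          Subgroup (Matrix.ProjectiveSpecialLinearGroup (Fin 2) F)) * 2 = c →
        (∃ g : Matrix.ProjectiveSpecialLinearGroup (Fin 2) F, g • x = y ∧ g • y = x) →
        4 ≤ c →
        ∀ Nidx : ℕ, c * Nidx * 2 = q * ((q + 1) * (q - 1)) → ¬ 2 ∣ Nidx → ¬ 3 ∣ Nidx →
        ∃ H : Subgroup (Matrix.ProjectiveSpecialLinearGroup (Fin 2) F),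
          Cfsg.IsPiHall ({2, 3} : Set ℕ) H := by
      intro x y hxy c _ hT hswap hc4 Nidx hN h2N h3N
      have hTne : (MulAction.stabilizer (Matrix.ProjectiveSpecialLinearGroup (Fin 2) F) x ⊓
          MulAction.stabilizer (Matrix.ProjectiveSpecialLinearGroup (Fin 2) F) y :
          Subgroup (Matrix.ProjectiveSpecialLinearGroup (Fin 2) F)) ≠ ⊥ := by
        intro hb
        rw [hb, Subgroup.card_bot] at hT
        omega
      obtain ⟨e⟩ := D.pairStab_dihedral hxy hTne hswap
      have hNc : Nat.card (Cfsg.Agent.Lib.helper6.Dickson.pairStab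
          (Matrix.ProjectiveSpecialLinearGroup (Fin 2) F) x y) = c := by
        rw [Nat.card_congr e.toEquiv, DihedralGroup.nat_card, ← hT]; ring
      have hsolv := Cfsg.Agent.Lib.helper6.PSL2Min.Meta.isSolvable
        (Cfsg.Agent.Lib.helper6.PSL2Max.Meta.of_equiv e
          (Cfsg.Agent.Lib.helper6.PSL2Max.meta_dihedral _))
      obtain ⟨H, -, hH1, n', hH2, h2n, h3n⟩ :=
        Cfsg.Agent.Lib.helper6.PSL2Hall.exists_hall23_sub _ hsolv
      have hNidx : (Cfsg.Agent.Lib.helper6.Dickson.pairStab
          (Matrix.ProjectiveSpecialLinearGroup (Fin 2) F) x y).index = Nidx := by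
        have h1 := hidxH (Cfsg.Agent.Lib.helper6.Dickson.pairStab
          (Matrix.ProjectiveSpecialLinearGroup (Fin 2) F) x y)
        rw [hNc, ← hN] at h1
        have h2 : c * 2 * (Cfsg.Agent.Lib.helper6.Dickson.pairStab
          (Matrix.ProjectiveSpecialLinearGroup (Fin 2) F) x y).index = c * 2 * Nidx := by
          calc _ = c * (Cfsg.Agent.Lib.helper6.Dickson.pairStab
                (Matrix.ProjectiveSpecialLinearGroup (Fin 2) F) x y).index * 2 := by ring
            _ = c * Nidx * 2 := h1
            _ = c * 2 * Nidx := by ring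
        exact Nat.eq_of_mul_eq_mul_left (by omega) h2
      refine ⟨H, ?_, ?_⟩
      · intro p' hp' hd
        rcases hH1 p' hp' hd with h | h <;> simp [h]
      · intro p' hp' hmem
        rw [hH2, hNidx]
        simp only [Set.mem_insert_iff, Set.mem_singleton_iff] at hmem
        intro hd
        rcases hmem with rfl | rfl
        · rcases (Nat.Prime.dvd_mul Nat.prime_two).mp hd with h | h
          · exact h2n h
          · exact h2N h
        · rcases (Nat.Prime.dvd_mul Nat.prime_three).mp hd with h | h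
          · exact h3n h
          · exact h3N h
    rcases hcases with ⟨h3, h4⟩ | ⟨h3, h4⟩ | hT | hT
    · obtain ⟨y, hyr, hcardT, hswap⟩ := hFull.plus_pair
      obtain ⟨B', hB'⟩ : ∃ B', q + 1 = 2 * B' := ⟨(q + 1) / 2, by omega⟩
      refine hdih r y (Ne.symm hyr) (q - 1) ?_ hcardT hswap (by omega) (q * B') ?_ ?_ ?_
      · have : (q - 1) * 2 + 2 = 2 * q := by omega
        rw [this]
        nlinarith
      · rw [hB']; ring
      · intro hd
        rcases (Nat.Prime.dvd_mul Nat.prime_two).mp hd with h | h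
        · exact hq2 h
        · omega
      · intro hd
        rcases (Nat.Prime.dvd_mul Nat.prime_three).mp hd with h | h
        · exact hq3 h
        · omega
    · have hd2 : 2 ≤ 2 := le_refl 2
      obtain ⟨y, hys, hcardT, hswap⟩ := hFull.minus_pair (by omega) hd2
      obtain ⟨A', hA'⟩ : ∃ A', q - 1 = 2 * A' := ⟨(q - 1) / 2, by omega⟩
      refine hdih s y (Ne.symm hys) (q + 1) ?_ hcardT hswap (by omega) (q * A') ?_ ?_ ?_
      · nlinarith
      · rw [hA']; ring
      · intro hd
        rcases (Nat.Prime.dvd_mul Nat.prime_two).mp hd with h | h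
        · exact hq2 h
        · omega
      · intro hd
        rcases (Nat.Prime.dvd_mul Nat.prime_three).mp hd with h | h
        · exact hq3 h
        · omega
    · obtain ⟨ha, hb⟩ := Cfsg.Agent.Lib.helper6.PSL2Hall.pow_eq_24 hT
      obtain ⟨H, ⟨e⟩⟩ := (Cfsg.Agent.S0802.result p n (by rw [hq]; exact hqn)).mpr
        (by rintro ⟨h2, -⟩; omega)
      have hc : Nat.card H = 12 := by
        rw [Nat.card_congr e.toEquiv, nat_card_alternatingGroup, Nat.card_eq_fintype_card,
          Fintype.card_fin]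
        rfl
      have hk := hidxH H
      rw [hc] at hk
      obtain ⟨h2i, h3i⟩ := Cfsg.Agent.Lib.helper6.PSL2Hall.arith_val' q _ H.index 3 1 hM0
        (by rw [← hk]; ring) ha hb hq2 hq3
      refine ⟨H, ?_, ?_⟩
      · intro p' hp' hd
        rw [hc] at hd
        have h12 : (12 : ℕ) = 2 ^ 2 * 3 := by norm_num
        rw [h12] at hd
        rcases (Nat.Prime.dvd_mul hp').mp hd with h | h
        · have := (Nat.prime_dvd_prime_iff_eq hp' Nat.prime_two).mp (hp'.dvd_of_dvd_pow h)
          simp [this]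
        · have := (Nat.prime_dvd_prime_iff_eq hp' Nat.prime_three).mp h
          simp [this]
      · intro p' hp' hmem
        simp only [Set.mem_insert_iff, Set.mem_singleton_iff] at hmem
        rcases hmem with rfl | rfl
        · exact h2i
        · exact h3i
    · obtain ⟨ha, hb⟩ := Cfsg.Agent.Lib.helper6.PSL2Hall.pow_eq_48 hT
      have h16 : q ^ 2 % 16 = 1 := by
        have h1 : 2 ^ 4 ∣ (q + 1) * (q - 1) :=
          (Nat.Prime.pow_dvd_iff_le_factorization Nat.prime_two hM0).mpr (by omega)
        rw [← hsq] at h1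
        have h2 : 1 ≤ q ^ 2 := Nat.one_le_pow _ _ (by omega)
        omega
      obtain ⟨H, ⟨e⟩⟩ := (Cfsg.Agent.S0803.result hq).mpr h16
      have hc : Nat.card H = 24 := by
        rw [Nat.card_congr e.toEquiv, Nat.card_perm, Nat.card_eq_fintype_card, Fintype.card_fin]
        rfl
      have hk := hidxH H
      rw [hc] at hk
      obtain ⟨h2i, h3i⟩ := Cfsg.Agent.Lib.helper6.PSL2Hall.arith_val' q _ H.index 4 1 hM0
        (by rw [← hk]; ring) ha hb hq2 hq3
      refine ⟨H, ?_, ?_⟩
      · intro p' hp' hd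
        rw [hc] at hd
        have h24 : (24 : ℕ) = 2 ^ 3 * 3 := by norm_num
        rw [h24] at hd
        rcases (Nat.Prime.dvd_mul hp').mp hd with h | h
        · have := (Nat.prime_dvd_prime_iff_eq hp' Nat.prime_two).mp (hp'.dvd_of_dvd_pow h)
          simp [this]
        · have := (Nat.prime_dvd_prime_iff_eq hp' Nat.prime_three).mp h
          simp [this]
      · intro p' hp' hmem
        simp only [Set.mem_insert_iff, Set.mem_singleton_iff] at hmem
        rcases hmem with rfl | rfl
        · exact h2i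
        · exact h3i

end Cfsg.Agent.S2537
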