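import Cfsg.Statements.S2540

import Cfsg.Agent.S0249
set_option autoImplicit false
open Cfsg

namespace Cfsg.Agent.S2540


open Matrix
open scoped commutatorElement

section Helpers

theorem comm_mul_central_left {S : Type*} [Group S] (h z b : S) (hz : z ∈ Subgroup.center S) :
    ⁅h * z, b⁆ = ⁅h, b⁆ := by
  rw [commutatorElement_def, commutatorElement_def]
  have h1 : z * b = b * z := ((Subgroup.mem_center_iff.mp hz) b).symm
  have h2 : (h * z)⁻¹ = z⁻¹ * h⁻¹ := mul_inv_rev h z
  calc h * z * b * (h * z)⁻¹ * b⁻¹ = h * (z * b) * z⁻¹ * h⁻¹ * b⁻¹ := by rw [h2]; group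
    _ = h * (b * z) * z⁻¹ * h⁻¹ * b⁻¹ := by rw [h1]
    _ = h * b * h⁻¹ * b⁻¹ := by group

theorem comm_mul_central_right {S : Type*} [Group S] (a h z : S) (hz : z ∈ Subgroup.center S) :
    ⁅a, h * z⁆ = ⁅a, h⁆ := by
  have h1 := comm_mul_central_left h z a hz
  have e1 : ⁅a, h * z⁆ = ⁅h * z, a⁆⁻¹ := (commutatorElement_inv (h * z) a).symm
  have e2 : ⁅a, h⁆ = ⁅h, a⁆⁻¹ := (commutatorElement_inv h a).symm
  rw [e1, e2, h1]

theorem dichotomy {S : Type*} [Group S] (hperf : commutator S = ⊤)
    (hsimple : IsSimpleGroup (S ⧸ Subgroup.center S)) (H : Subgroup S) (hH : H.Normal) :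
    H ≤ Subgroup.center S ∨ H = ⊤ := by
  have hN : (H.map (QuotientGroup.mk' (Subgroup.center S))).Normal :=
    Subgroup.Normal.map hH _ (QuotientGroup.mk'_surjective _)
  rcases hN.eq_bot_or_eq_top with hbot | htop
  · left
    intro h hh
    have : QuotientGroup.mk' (Subgroup.center S) h ∈ H.map (QuotientGroup.mk' (Subgroup.center S)) :=
      Subgroup.mem_map_of_mem _ hh
    rw [hbot, Subgroup.mem_bot] at this
    exact (QuotientGroup.eq_one_iff h).mp this
  · right
    have hdecomp : ∀ a : S, ∃ h ∈ H, ∃ z ∈ Subgroup.center S, a = h * z := by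
      intro a
      have : QuotientGroup.mk' (Subgroup.center S) a ∈ H.map (QuotientGroup.mk' (Subgroup.center S)) := by
        rw [htop]; exact Subgroup.mem_top _
      obtain ⟨h, hh, hha⟩ := this
      refine ⟨h, hh, h⁻¹ * a, ?_, by group⟩
      exact QuotientGroup.eq.mp hha
    apply top_unique
    rw [← hperf, commutator_def, Subgroup.commutator_le]
    intro a _ b _
    obtain ⟨h, hh, z, hz, rfl⟩ := hdecomp a
    obtain ⟨h', hh', z', hz', rfl⟩ := hdecomp b
    rw [comm_mul_central_left h z _ hz, comm_mul_central_right h h' z' hz']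
    rw [commutatorElement_def]
    exact H.mul_mem (H.mul_mem (H.mul_mem hh hh') (H.inv_mem hh)) (H.inv_mem hh')

theorem exists_field_cond {F : Type*} [Field F] [Fintype F] (h4 : 4 ≤ Fintype.card F) :
    ∃ a : F, a ≠ 0 ∧ a ^ 2 ≠ 1 := by
  classical
  by_contra hcon
  push Not at hcon
  have hsub : (Finset.univ : Finset F) ⊆ {0, 1, -1} := by
    intro a _
    by_cases ha : a = 0
    · simp [ha]
    · have h2 := hcon a ha
      have h3 : (a - 1) * (a + 1) = 0 := by linear_combination h2
      rcases mul_eq_zero.mp h3 with h | h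
      · have : a = 1 := sub_eq_zero.mp h
        simp [this]
      · have : a = -1 := eq_neg_of_add_eq_zero_left h
        simp [this]
  have h1 := Finset.card_le_card hsub
  have h2 : ({0, 1, -1} : Finset F).card ≤ 3 := Finset.card_le_three
  rw [Finset.card_univ] at h1
  omega

end Helpers

/-- Let F be a finite field and n ≥ 1, excluding the case n = 2 with #F ≤ 3. A subgroup of GL_n(F) that is normalized by every element of SL_n(F) either consists of scalar matrices or contains SL_n(F). -/
theorem result {F : Type*} [Field F] [Fintype F] (n : ℕ) (hn : 1 ≤ n) (hex : ¬ (n = 2 ∧ Fintype.card F ≤ 3)) (G : Subgroup (Matrix.GeneralLinearGroup (Fin n) F)) (hG : ∀ s : Matrix.SpecialLinearGroup (Fin n) F, ∀ g ∈ G, (Matrix.SpecialLinearGroup.toGL s) * g * (Matrix.SpecialLinearGroup.toGL s)⁻¹ ∈ G) : (∀ g ∈ G, ∃ c : F, (g : Matrix (Fin n) (Fin n) F) = c • (1 : Matrix (Fin n) (Fin n) F)) ∨ (Matrix.SpecialLinearGroup.toGL : Matrix.SpecialLinearGroup (Fin n) F →* _).range ≤ G := by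
  classical
  by_cases h1 : n = 1
  · subst h1
    left
    intro g _
    refine ⟨(g : Matrix (Fin 1) (Fin 1) F) 0 0, ?_⟩
    ext i j
    have hi : i = 0 := Subsingleton.elim _ _
    have hj : j = 0 := Subsingleton.elim _ _
    subst hi hj
    simp
  have hperf : commutator (Matrix.SpecialLinearGroup (Fin n) F) = ⊤ := by
    by_cases h2 : n = 2
    · subst h2
      have h4 : 4 ≤ Fintype.card F := by
        by_contra hlt
        exact hex ⟨rfl, by omega⟩
      obtain ⟨a, ha, hasq⟩ := exists_field_cond h4
      exact Matrix.SL2.commutator_eq_top ha hasq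
    · exact Cfsg.Agent.Lib.Lead.SL_commutator_eq_top (by rw [Fintype.card_fin]; omega)
  have hsimple : IsSimpleGroup (Matrix.SpecialLinearGroup (Fin n) F ⧸
      Subgroup.center (Matrix.SpecialLinearGroup (Fin n) F)) := by
    by_cases h2 : n = 2
    · subst h2
      have h4 : 4 ≤ Nat.card F := by
        rw [Nat.card_eq_fintype_card]
        by_contra hlt
        exact hex ⟨rfl, by omega⟩
      exact Matrix.ProjectiveSpecialLinearGroup.rank_two_simple h4
    · exact Cfsg.Agent.S0249.PSL_simple (by rw [Fintype.card_fin]; omega)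
  have hHn : (G.comap (Matrix.SpecialLinearGroup.toGL :
      Matrix.SpecialLinearGroup (Fin n) F →* _)).Normal := by
    refine ⟨fun s hs x => ?_⟩
    show Matrix.SpecialLinearGroup.toGL (x * s * x⁻¹) ∈ G
    rw [map_mul, map_mul, map_inv]
    exact hG x _ hs
  rcases dichotomy hperf hsimple _ hHn with hHZ | hHtop
  · left
    intro g hg
    have hkey : ∀ s : Matrix.SpecialLinearGroup (Fin n) F, ∃ k ∈ Subgroup.center (Matrix.SpecialLinearGroup (Fin n) F),
        g * Matrix.SpecialLinearGroup.toGL s * g⁻¹ = Matrix.SpecialLinearGroup.toGL (k * s) := by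
      intro s
      have hdet : ((g * Matrix.SpecialLinearGroup.toGL s * g⁻¹ * (Matrix.SpecialLinearGroup.toGL s)⁻¹ :
          Matrix.GeneralLinearGroup (Fin n) F) : Matrix (Fin n) (Fin n) F).det = 1 := by
        have h1 : ((g * Matrix.SpecialLinearGroup.toGL s * g⁻¹ * (Matrix.SpecialLinearGroup.toGL s)⁻¹ :
            Matrix.GeneralLinearGroup (Fin n) F) : Matrix (Fin n) (Fin n) F).det =
            ((Matrix.GeneralLinearGroup.det (g * Matrix.SpecialLinearGroup.toGL s * g⁻¹ *
              (Matrix.SpecialLinearGroup.toGL s)⁻¹) : Fˣ) : F) := rfl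
        have hab : ∀ (a b : Fˣ), a * b * a⁻¹ * b⁻¹ = 1 := by
          intro a b
          rw [mul_comm a b, mul_inv_cancel_right, mul_inv_cancel]
        rw [h1, map_mul, map_mul, map_mul, map_inv, map_inv, hab, Units.val_one]
      let k : Matrix.SpecialLinearGroup (Fin n) F := ⟨_, hdet⟩
      have hk : Matrix.SpecialLinearGroup.toGL k =
          g * Matrix.SpecialLinearGroup.toGL s * g⁻¹ * (Matrix.SpecialLinearGroup.toGL s)⁻¹ := by
        apply Units.ext
        rfl
      have hkH : k ∈ G.comap (Matrix.SpecialLinearGroup.toGL : Matrix.SpecialLinearGroup (Fin n) F →* _) := by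
        show Matrix.SpecialLinearGroup.toGL k ∈ G
        rw [hk]
        have h2 : Matrix.SpecialLinearGroup.toGL s * g⁻¹ * (Matrix.SpecialLinearGroup.toGL s)⁻¹ ∈ G :=
          hG s _ (G.inv_mem hg)
        have h3 := G.mul_mem hg h2
        have e : g * (Matrix.SpecialLinearGroup.toGL s * g⁻¹ * (Matrix.SpecialLinearGroup.toGL s)⁻¹) =
            g * Matrix.SpecialLinearGroup.toGL s * g⁻¹ * (Matrix.SpecialLinearGroup.toGL s)⁻¹ := by group
        rw [← e]
        exact h3
      refine ⟨k, hHZ hkH, ?_⟩
      rw [map_mul, hk]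
      group
    have hcomm : ∀ s : Matrix.SpecialLinearGroup (Fin n) F,
        g * Matrix.SpecialLinearGroup.toGL s * g⁻¹ = Matrix.SpecialLinearGroup.toGL s := by
      have hle : commutator (Matrix.SpecialLinearGroup (Fin n) F) ≤
          (Subgroup.centralizer ({g} : Set (Matrix.GeneralLinearGroup (Fin n) F))).comap
            (Matrix.SpecialLinearGroup.toGL : Matrix.SpecialLinearGroup (Fin n) F →* _) := by
        rw [commutator_def, Subgroup.commutator_le]
        intro a _ b _
        show Matrix.SpecialLinearGroup.toGL ⁅a, b⁆ ∈ Subgroup.centralizer {g}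
        rw [Subgroup.mem_centralizer_iff]
        obtain ⟨ka, hka, ha⟩ := hkey a
        obtain ⟨kb, hkb, hb⟩ := hkey b
        have h1 : MulAut.conj g (Matrix.SpecialLinearGroup.toGL ⁅a, b⁆) =
            Matrix.SpecialLinearGroup.toGL ⁅a, b⁆ := by
          rw [map_commutatorElement, map_commutatorElement, MulAut.conj_apply, MulAut.conj_apply, ha, hb,
            ← map_commutatorElement, ← Subgroup.mem_center_iff.mp hka a, ← Subgroup.mem_center_iff.mp hkb b,
            comm_mul_central_left a ka _ hka, comm_mul_central_right a b kb hkb]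
          exact map_commutatorElement _ a b
        rw [MulAut.conj_apply] at h1
        intro h hh
        rw [Set.mem_singleton_iff] at hh
        subst hh
        exact mul_inv_eq_iff_eq_mul.mp h1
      intro s
      have hs : s ∈ commutator (Matrix.SpecialLinearGroup (Fin n) F) := by rw [hperf]; exact Subgroup.mem_top _
      have h2 := hle hs
      have h3 : Matrix.SpecialLinearGroup.toGL s ∈ Subgroup.centralizer {g} := h2
      rw [Subgroup.mem_centralizer_iff] at h3
      exact mul_inv_eq_iff_eq_mul.mpr (h3 g rfl)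
    have hscal : (g : Matrix (Fin n) (Fin n) F) ∈ Set.range (Matrix.scalar (Fin n)) := by
      apply Matrix.mem_range_scalar_of_commute_single
      intro i j hij
      have h1 := hcomm (Matrix.SpecialLinearGroup.transvection hij 1)
      have h2 : g * Matrix.SpecialLinearGroup.toGL (Matrix.SpecialLinearGroup.transvection hij 1) =
          Matrix.SpecialLinearGroup.toGL (Matrix.SpecialLinearGroup.transvection hij 1) * g := by
        calc g * Matrix.SpecialLinearGroup.toGL (Matrix.SpecialLinearGroup.transvection hij 1)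
            = (g * Matrix.SpecialLinearGroup.toGL (Matrix.SpecialLinearGroup.transvection hij 1) * g⁻¹) * g := by group
          _ = _ := by rw [h1]
      have h3 := congrArg (fun x : Matrix.GeneralLinearGroup (Fin n) F => (x : Matrix (Fin n) (Fin n) F)) h2
      simp only [Matrix.GeneralLinearGroup.coe_mul, Matrix.SpecialLinearGroup.coe_GL_coe_matrix,
        Matrix.SpecialLinearGroup.transvection_coe] at h3
      rw [mul_add, add_mul, mul_one, one_mul] at h3
      have h4 := add_left_cancel h3
      exact h4.symm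
    obtain ⟨c, hc⟩ := hscal
    refine ⟨c, ?_⟩
    rw [← hc, Matrix.scalar_apply, Matrix.smul_one_eq_diagonal]
  · right
    rintro _ ⟨s, rfl⟩
    have : s ∈ G.comap (Matrix.SpecialLinearGroup.toGL : Matrix.SpecialLinearGroup (Fin n) F →* _) := by
      rw [hHtop]; exact Subgroup.mem_top _
    exact this

end Cfsg.Agent.S2540
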