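import Cfsg.Statements.S2541

set_option autoImplicit false
open Cfsg

namespace Cfsg.Agent.S2541


theorem perm6_pow60 (σ : Equiv.Perm (Fin 6)) : σ ^ 60 = 1 := by
  have h : orderOf σ ∣ 60 := by
    rw [← Equiv.Perm.lcm_cycleType]
    apply Multiset.lcm_dvd.mpr
    intro n hn
    have h2 : 2 ≤ n := Equiv.Perm.two_le_of_mem_cycleType hn
    have h6 : n ≤ 6 := by
      have h1 : n ≤ σ.cycleType.sum := Multiset.le_sum_of_mem hn
      have h3 : σ.cycleType.sum ≤ Fintype.card (Fin 6) := by
        rw [Equiv.Perm.sum_cycleType]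
        exact Finset.card_le_univ _
      simpa using le_trans h1 h3
    interval_cases n <;> decide
  exact orderOf_dvd_iff_pow_eq_one.mp h

/-- Let F be a field with 9 elements. The symmetric group S_6 is not isomorphic to PGL_2(F) (although both have index-2 subgroups isomorphic to A_6). -/
theorem result {F : Type*} [Field F] [Fintype F] (hF : Fintype.card F = 9) : ¬ Nonempty (Equiv.Perm (Fin 6) ≃* Matrix.ProjGenLinGroup (Fin 2) F) := by
  classical
  rintro ⟨e⟩
  obtain ⟨ζ, hζ⟩ := IsCyclic.exists_ofOrder_eq_natCard (α := Fˣ)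
  have hcard : Nat.card Fˣ = 8 := by
    rw [Nat.card_eq_fintype_card, Fintype.card_units, hF]
  rw [hcard] at hζ
  let d : GL (Fin 2) F := Matrix.GeneralLinearGroup.mk' (Matrix.diagonal ![(ζ : F), 1])
    (invertibleOfNonzero (by simp))
  let g : Matrix.ProjGenLinGroup (Fin 2) F := Matrix.ProjGenLinGroup.mk d
  have h1 : g ^ 60 = 1 := by
    have := perm6_pow60 (e.symm g)
    rw [← map_pow] at this
    have h' := congrArg e this
    rw [MulEquiv.apply_symm_apply, map_one] at h'
    exact h'
  have h2 : d ^ 60 ∈ Subgroup.center (GL (Fin 2) F) := by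
    rw [← Matrix.ProjGenLinGroup.mk_eq_one, map_pow]
    exact h1
  rw [Matrix.GeneralLinearGroup.mem_center_iff_val_mem_range_scalar] at h2
  obtain ⟨c, hc⟩ := h2
  have hd : ((d ^ 60 : GL (Fin 2) F) : Matrix (Fin 2) (Fin 2) F) = Matrix.diagonal ![(ζ : F) ^ 60, 1] := by
    rw [Units.val_pow_eq_pow_val]
    change (Matrix.diagonal ![(ζ : F), 1]) ^ 60 = _
    rw [Matrix.diagonal_pow]
    congr 1
    ext i
    fin_cases i <;> simp
  rw [hd] at hc
  have e00 := congrFun (congrFun hc 0) 0
  have e11 := congrFun (congrFun hc 1) 1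
  simp at e00 e11
  rw [e11] at e00
  have h3 : ζ ^ 60 = 1 := by
    apply Units.ext
    simpa using e00.symm
  have h4 : orderOf ζ ∣ 60 := orderOf_dvd_of_pow_eq_one h3
  rw [hζ] at h4
  omega

end Cfsg.Agent.S2541
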