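import Mathlib
import Cfsg.Statements.S2542
import Cfsg.Agent.S0255
import Cfsg.Agent.S3377
import Cfsg.Agent.Lib.Helper19.L211
-- import your own Cfsg.Agent.* helpers here

set_option autoImplicit false
open Cfsg

namespace Cfsg.Agent.S2542

open Matrix Equiv Cfsg.Agent.Lib.Helper19.L211 Cfsg.Agent.Lib.helper15.St2

/-- an injective homomorphism `PSL₂(F) → Perm (Fin 11)` with explicit values on root elements -/
theorem exists_rho {F : Type*} [Field F] [Fintype F] (hF : Fintype.card F = 11) :
    ∃ (ρ : Matrix.ProjectiveSpecialLinearGroup (Fin 2) F →* Perm (Fin 11))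
      (xg : Bool → ZMod 11 → Matrix.ProjectiveSpecialLinearGroup (Fin 2) F),
      Function.Injective ρ ∧ ∀ b t, ρ (xg b t) = M0 b t := by
  have p11 : Nat.Prime 11 := by norm_num
  let e11 : ZMod 11 ≃+* F := ZMod.ringEquivOfPrime F p11 hF
  let S' : St F (Perm (Fin 11)) := Cfsg.Agent.S0255.comapRing S0 e11.symm
  obtain ⟨ψ, hψx, hψy⟩ := Cfsg.Agent.S0255.exists_lift S'
  have hX : ∀ b t, S'.X b t = M0 b (e11.symm t) := fun b t => rfl
  have hneg : ψ (-1) = 1 := by
    rw [Cfsg.Agent.S0255.neg_one_eq, map_mul, map_mul, map_mul, hψx, hψy, hX, hX, map_neg, map_one]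
    exact M0_w
  have hcen : ∀ z ∈ Subgroup.center (Matrix.SpecialLinearGroup (Fin 2) F), ψ z = 1 := by
    intro z hz
    rcases Cfsg.Agent.S0255.center_sl2 z hz with rfl | rfl
    · exact map_one ψ
    · exact hneg
  let ρ : Matrix.ProjectiveSpecialLinearGroup (Fin 2) F →* Perm (Fin 11) :=
    QuotientGroup.lift _ ψ hcen
  have hsimple : IsSimpleGroup (Matrix.ProjectiveSpecialLinearGroup (Fin 2) F) :=
    Matrix.ProjectiveSpecialLinearGroup.rank_two_simple
      (by rw [Nat.card_eq_fintype_card, hF]; norm_num)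
  have hne : ρ (QuotientGroup.mk (xm 1)) ≠ 1 := by
    intro h
    have h0 : ρ (QuotientGroup.mk (xm 1)) = ψ (xm 1) := rfl
    rw [h0, hψx, hX, map_one] at h
    exact M0_ne h
  have hinj : Function.Injective ρ := by
    rw [← MonoidHom.ker_eq_bot_iff]
    rcases (Subgroup.Normal.eq_bot_or_eq_top (H := ρ.ker) inferInstance) with h | h
    · exact h
    · exfalso
      apply hne
      have : (QuotientGroup.mk (xm 1) : Matrix.ProjectiveSpecialLinearGroup (Fin 2) F) ∈ ρ.ker := by
        rw [h]
        trivial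
      exact this
  refine ⟨ρ, fun b t => QuotientGroup.mk (cond b (xm (e11 t)) (ym (e11 t))), hinj, ?_⟩
  intro b t
  cases b
  · show ψ (ym (e11 t)) = _
    rw [hψy, hX, e11.symm_apply_apply]
  · show ψ (xm (e11 t)) = _
    rw [hψx, hX, e11.symm_apply_apply]

theorem inv_app (f : Perm (Fin 11)) (x : Fin 11) : f⁻¹ (f x) = x := by simp

theorem app_inv (f : Perm (Fin 11)) (x : Fin 11) : f (f⁻¹ x) = x := by simp

theorem card_A5 : Nat.card (alternatingGroup (Fin 5)) = 60 := by
  rw [Nat.card_eq_fintype_card]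
  have h2 := two_mul_card_alternatingGroup (α := Fin 5)
  rw [Fintype.card_perm, Fintype.card_fin] at h2
  have h120 : Nat.factorial 5 = 120 := rfl
  omega

/-- Let F be a field with 11 elements. PSL_2(F) has a subgroup H of index 11 isomorphic to the alternating group A_5, and the action of PSL_2(F) on the cosets of H is 2-transitive (of degree 11). -/
theorem result {F : Type*} [Field F] [Fintype F] (hF : Fintype.card F = 11) : ∃ H : Subgroup (Matrix.ProjectiveSpecialLinearGroup (Fin 2) F), H.index = 11 ∧ Nonempty (H ≃* alternatingGroup (Fin 5)) ∧ MulAction.IsMultiplyPretransitive (Matrix.ProjectiveSpecialLinearGroup (Fin 2) F) ((Matrix.ProjectiveSpecialLinearGroup (Fin 2) F) ⧸ H) 2 := by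
  classical
  obtain ⟨ρ, xg, hinj, hρ⟩ := exists_rho hF
  let H : Subgroup (Matrix.ProjectiveSpecialLinearGroup (Fin 2) F) :=
    (MulAction.stabilizer (Perm (Fin 11)) (0 : Fin 11)).comap ρ
  have hmem : ∀ g, g ∈ H ↔ ρ g 0 = 0 := fun g => Iff.rfl
  let pt : (Matrix.ProjectiveSpecialLinearGroup (Fin 2) F ⧸ H) → Fin 11 := fun q =>
    Quotient.liftOn' q (fun g => ρ g 0) (by
      intro a b hab
      rw [QuotientGroup.leftRel_apply, hmem] at hab
      have h1 : ρ a (ρ (a⁻¹ * b) 0) = ρ b 0 := by
        rw [← Perm.mul_apply, ← map_mul, mul_inv_cancel_left]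
      show ρ a 0 = ρ b 0
      rw [← h1, hab])
  have hpt : ∀ g : Matrix.ProjectiveSpecialLinearGroup (Fin 2) F,
      pt (QuotientGroup.mk g) = ρ g 0 := fun g => rfl
  have hpt_inj : Function.Injective pt := by
    intro a b
    refine Quotient.inductionOn₂' a b ?_
    intro g g' h
    apply Quotient.sound'
    rw [QuotientGroup.leftRel_apply, hmem]
    have h' : ρ g 0 = ρ g' 0 := h
    rw [map_mul, map_inv, Perm.mul_apply, ← h', inv_app]
  have hpt_smul : ∀ (g : Matrix.ProjectiveSpecialLinearGroup (Fin 2) F)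
      (q : Matrix.ProjectiveSpecialLinearGroup (Fin 2) F ⧸ H), pt (g • q) = ρ g (pt q) := by
    intro g q
    refine Quotient.inductionOn' q ?_
    intro g'
    show ρ (g * g') 0 = ρ g (ρ g' 0)
    rw [map_mul, Perm.mul_apply]
  have hpt_surj : Function.Surjective pt := by
    intro i
    refine ⟨QuotientGroup.mk (xg true 1 ^ i.val), ?_⟩
    rw [hpt, map_pow, hρ, A_pow]
  have hindex : H.index = 11 := by
    show Nat.card (Matrix.ProjectiveSpecialLinearGroup (Fin 2) F ⧸ H) = 11
    rw [Nat.card_congr (Equiv.ofBijective pt ⟨hpt_inj, hpt_surj⟩), Nat.card_fin]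
  have hG : Nat.card (Matrix.ProjectiveSpecialLinearGroup (Fin 2) F) = 660 := by
    have h := Cfsg.Agent.S0254.card_psl2 (F := F) (by rw [hF])
    rw [hF] at h
    omega
  have hH : Nat.card H = 60 := by
    have h := Subgroup.index_mul_card H
    rw [hindex, hG] at h
    omega
  -- the elements generating `A₅`
  let x3g : Matrix.ProjectiveSpecialLinearGroup (Fin 2) F := xg true 2 * xg false 5
  let w2g : Matrix.ProjectiveSpecialLinearGroup (Fin 2) F := xg true 1 * xg false (-1) * xg true 1
  let y5g : Matrix.ProjectiveSpecialLinearGroup (Fin 2) F := xg false (-5) * xg true (-2) * w2g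
  have hx3g : ρ x3g = x3 := by
    simp only [x3g, map_mul, hρ]
    rfl
  have hw2g : ρ w2g = w2 := by
    simp only [w2g, map_mul, hρ]
    rfl
  have hy5g : ρ y5g = y5 := by
    simp only [y5g, map_mul, hρ, hw2g]
    rfl
  have r1 : x3g ^ 3 = 1 := by
    apply hinj
    rw [map_pow, map_one, hx3g]
    exact x3_pow
  have r2 : y5g ^ 5 = 1 := by
    apply hinj
    rw [map_pow, map_one, hy5g]
    exact y5_pow
  have r3 : (x3g * y5g) ^ 2 = 1 := by
    apply hinj
    rw [map_pow, map_mul, map_one, hx3g, hy5g]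
    exact xy_pow
  have hx3H : x3g ∈ H := by
    rw [hmem, hx3g]
    exact x3_zero
  have hy5H : y5g ∈ H := by
    rw [hmem, hy5g]
    exact y5_zero
  obtain ⟨e⟩ := Cfsg.Agent.S3377.result
  let f : Fin 2 → Matrix.ProjectiveSpecialLinearGroup (Fin 2) F := ![x3g, y5g]
  have hrel : ∀ r ∈ ({FreeGroup.of (0 : Fin 2) ^ 3, FreeGroup.of (1 : Fin 2) ^ 5,
      (FreeGroup.of (0 : Fin 2) * FreeGroup.of 1) ^ 2} : Set (FreeGroup (Fin 2))),
      FreeGroup.lift f r = 1 := by
    rintro r (rfl | rfl | rfl)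
    · rw [map_pow, FreeGroup.lift_apply_of]
      exact r1
    · rw [map_pow, FreeGroup.lift_apply_of]
      exact r2
    · rw [map_pow, map_mul, FreeGroup.lift_apply_of, FreeGroup.lift_apply_of]
      exact r3
  let τ0 := PresentedGroup.toGroup hrel
  let τ : alternatingGroup (Fin 5) →* Matrix.ProjectiveSpecialLinearGroup (Fin 2) F :=
    τ0.comp e.symm.toMonoidHom
  have hτ0H : ∀ p, τ0 p ∈ H := by
    intro p
    induction p using PresentedGroup.induction_on with
    | _ w =>
      show FreeGroup.lift f w ∈ H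
      induction w using FreeGroup.induction_on with
      | C1 => rw [map_one]; exact H.one_mem
      | of i =>
        rw [FreeGroup.lift_apply_of]
        fin_cases i
        · exact hx3H
        · exact hy5H
      | inv_of i hi => rw [map_inv]; exact H.inv_mem hi
      | mul a b ha hb => rw [map_mul]; exact H.mul_mem ha hb
  have hτne : τ (e (PresentedGroup.of 0)) ≠ 1 := by
    intro h
    have h1 : τ (e (PresentedGroup.of 0)) = x3g := by
      show τ0 (e.symm (e (PresentedGroup.of 0))) = x3g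
      rw [e.symm_apply_apply, PresentedGroup.toGroup.of]
      rfl
    rw [h1] at h
    have h2 := congrArg ρ h
    rw [hx3g, map_one] at h2
    exact x3_ne h2
  have hτinj : Function.Injective τ := by
    rw [← MonoidHom.ker_eq_bot_iff]
    have := alternatingGroup.isSimpleGroup_five
    rcases (Subgroup.Normal.eq_bot_or_eq_top (H := τ.ker) inferInstance) with h | h
    · exact h
    · exfalso
      apply hτne
      have : e (PresentedGroup.of 0) ∈ τ.ker := by
        rw [h]
        trivial
      exact this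
  have hle : τ.range ≤ H := by
    rintro _ ⟨a, rfl⟩
    exact hτ0H _
  have hcr : Nat.card τ.range = 60 := by
    rw [← Nat.card_congr (MonoidHom.ofInjective hτinj).toEquiv, card_A5]
  have heq : τ.range = H :=
    Subgroup.eq_of_le_of_card_ge hle (by rw [hcr, hH])
  refine ⟨H, hindex, ⟨(MulEquiv.subgroupCongr heq).symm.trans (MonoidHom.ofInjective hτinj).symm⟩, ?_⟩
  -- two-transitivity
  have key : ∀ i j : Fin 11, i ≠ j →
      ∃ g : Matrix.ProjectiveSpecialLinearGroup (Fin 2) F, ρ g 0 = i ∧ ρ g 1 = j := by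
    intro i j hij
    have h1 : ρ (xg true 1 ^ i.val) 0 = i := by rw [map_pow, hρ, A_pow]
    have hj' : (ρ (xg true 1 ^ i.val))⁻¹ j ≠ 0 := by
      intro h
      apply hij
      rw [Perm.inv_eq_iff_eq] at h
      rw [h, h1]
    obtain ⟨k, l, ee, h0, h2⟩ := trans2 _ hj'
    refine ⟨xg true 1 ^ i.val * (y5g ^ k.val * w2g ^ ee.val * y5g ^ l.val), ?_, ?_⟩
    · have h3 : ρ (y5g ^ k.val * w2g ^ ee.val * y5g ^ l.val) =
          y5 ^ k.val * w2 ^ ee.val * y5 ^ l.val := by
        simp only [map_mul, map_pow, hy5g, hw2g]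
      rw [map_mul, Perm.mul_apply, h3, h0, h1]
    · have h3 : ρ (y5g ^ k.val * w2g ^ ee.val * y5g ^ l.val) =
          y5 ^ k.val * w2 ^ ee.val * y5 ^ l.val := by
        simp only [map_mul, map_pow, hy5g, hw2g]
      rw [map_mul, Perm.mul_apply, h3, h2, app_inv]
  rw [MulAction.is_two_pretransitive_iff]
  intro a b c d hab hcd
  obtain ⟨g, hg0, hg1⟩ := key (pt a) (pt b) (hpt_inj.ne hab)
  obtain ⟨g', hg'0, hg'1⟩ := key (pt c) (pt d) (hpt_inj.ne hcd)
  refine ⟨g' * g⁻¹, ?_, ?_⟩
  · apply hpt_inj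
    rw [hpt_smul, map_mul, map_inv, Perm.mul_apply, ← hg0, inv_app, hg'0]
  · apply hpt_inj
    rw [hpt_smul, map_mul, map_inv, Perm.mul_apply, ← hg1, inv_app, hg'1]

end Cfsg.Agent.S2542
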