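import Mathlib
import Cfsg.Statements.S2543
import Cfsg.Agent.Lib.Helper19.PSL211
-- import your own Cfsg.Agent.* helpers here

set_option autoImplicit false
open scoped Pointwise
open Cfsg

namespace Cfsg.Agent.S2543

/-- Let F be a field with 11 elements. PSL_2(F) has exactly 22 subgroups isomorphic to the alternating group A_5, and they form two conjugacy classes: there are two such subgroups that are not conjugate, and every such subgroup is conjugate to one of these two. -/
theorem result {F : Type*} [Field F] [Fintype F] (hF : Fintype.card F = 11) : Nat.card {H : Subgroup (Matrix.ProjectiveSpecialLinearGroup (Fin 2) F) // Nonempty (H ≃* alternatingGroup (Fin 5))} = 22 ∧ ∃ H K : Subgroup (Matrix.ProjectiveSpecialLinearGroup (Fin 2) F), Nonempty (H ≃* alternatingGroup (Fin 5)) ∧ Nonempty (K ≃* alternatingGroup (Fin 5)) ∧ (∀ g : Matrix.ProjectiveSpecialLinearGroup (Fin 2) F, MulAut.conj g • H ≠ K) ∧ ∀ L : Subgroup (Matrix.ProjectiveSpecialLinearGroup (Fin 2) F), Nonempty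 (L ≃* alternatingGroup (Fin 5)) → ∃ g : Matrix.ProjectiveSpecialLinearGroup (Fin 2) F, MulAut.conj g • L = H ∨ MulAut.conj g • L = K := by
  classical
  obtain ⟨m⟩ := Cfsg.Agent.Lib.Helper19.PSL211.exists_model hF
  let Φ : Bool × Fin 11 → {H : Subgroup (Matrix.ProjectiveSpecialLinearGroup (Fin 2) F) //
      Nonempty (H ≃* alternatingGroup (Fin 5))} :=
    fun ci => ⟨m.Hs ci.1 ci.2, m.iso_Hs ci.1 ci.2⟩
  have hΦ : Function.Bijective Φ := by
    constructor
    · rintro ⟨c, i⟩ ⟨c', i'⟩ h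
      exact m.Hs_inj (congrArg Subtype.val h)
    · rintro ⟨L, ⟨e⟩⟩
      obtain ⟨c, i, h⟩ := m.eq_Hs_of_iso L e
      exact ⟨(c, i), Subtype.ext h.symm⟩
  refine ⟨?_, m.Hs true 0, m.Hs false 0, m.iso_Hs _ _, m.iso_Hs _ _, ?_, ?_⟩
  · rw [← Nat.card_congr (Equiv.ofBijective Φ hΦ), Nat.card_prod, Nat.card_eq_fintype_card,
      Fintype.card_bool, Nat.card_fin]
  · intro g h
    rw [m.conj_Hs] at h
    have h2 := m.Hs_inj h
    exact Bool.noConfusion (congrArg Prod.fst h2)
  · rintro L ⟨e⟩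
    obtain ⟨c, i, rfl⟩ := m.eq_Hs_of_iso L e
    obtain ⟨g, hg⟩ := m.trans c i 0
    refine ⟨g, ?_⟩
    rw [m.conj_Hs, hg]
    cases c
    · right; rfl
    · left; rfl

end Cfsg.Agent.S2543
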