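import Cfsg.Statements.S2545
import Cfsg.Agent.Lib.helper14.SpBNm
import Cfsg.Agent.Lib.helper14.StIrr
import Cfsg.Agent.Lib.helper14.StVal
import Cfsg.Agent.Lib.Helper25.CharQuot
import Cfsg.Agent.Lib.Helper25.CharRestrict
import Cfsg.Agent.Lib.helper2.CharInt
import Cfsg.Agent.Lib.Helper24.FSDefZero
import Cfsg.Agent.Lib.helper15.StbSt3
import Cfsg.Agent.S0139

set_option autoImplicit false
open Cfsg

namespace Cfsg.Agent.S2545

open Cfsg.Agent.Lib.helper14 Cfsg.Agent.Lib.helper14.SpBN Cfsg.Agent.Lib.helper3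
  Cfsg.Agent.Lib.Helper25

/-- Let F be a finite field of characteristic p and consider the projective symplectic group PSp_{2m}(F) with m ≥ 1. This group has an irreducible complex character χ whose degree equals the order of a Sylow p-subgroup (namely q^(m²) when #F = q) and whose restriction to any Sylow p-subgroup P is the regular character of P: χ vanishes on the non-identity elements of P. (This is the Steinberg character.) -/
theorem result {F : Type*} [Field F] [Fintype F] (p : ℕ) [Fact p.Prime] [CharP F p] (m : ℕ) (hm : 1 ≤ m) : ∃ χ : Cfsg.PSp m F → ℂ, Cfsg.IsIrrCharacter (Cfsg.PSp m F) χ ∧ ∀ P : Sylow p (Cfsg.PSp m F), χ 1 = Nat.card P ∧ ∀ x : Cfsg.PSp m F, x ∈ P → x ≠ 1 → χ x = 0 := by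
  classical
  have hp : p.Prime := Fact.out
  have hm' : 0 < m := hm
  haveI : Fintype ↥(Matrix.symplecticGroup (Fin m) F) := Fintype.ofFinite _
  set P : Cfsg.BNPair ↥(Matrix.symplecticGroup (Fin m) F) := spBN (F := F) hm' with hP
  let Q : Finset ℕ → Subgroup ↥(Matrix.symplecticGroup (Fin m) F) :=
    fun J => P.parabolic (sigmaS m F '' (J : Set ℕ))
  set θ : ↥(Matrix.symplecticGroup (Fin m) F) → ℂ := fun g =>
    ∑ J ∈ (Finset.range m).powerset, (-1 : ℂ) ^ J.card * Cfsg.fixedPointCharacter (Q J) g with hθ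
  -- the value at the identity
  have hval : ∀ b : ↥(Bsp m F), θ (b : ↥(Matrix.symplecticGroup (Fin m) F)) =
      (Nat.card (MulAction.fixedBy
        (↥(Bsp m F) ⧸ (Bsp m F ⊓ Nsp m F).subgroupOf (Bsp m F)) b) : ℂ) := fun b =>
    st_value P (Bsp m F) rfl Q (sigmaS m F) m (sigmaS_mem hm') (sigmaS_surj hm')
      (fun J _ => rfl) (nLong_mem_N hm') (nLong_h1 hm') (nLong_h2 hm') (Bsp m F ⊓ Nsp m F)
      (fun h hh _ => nLong_conj_torus h hh) (fun β hβ hc => mem_torus_of_nLong_conj β hβ hc) b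
  obtain ⟨a, r, hUa, hGa, hr⟩ := card_sp_ppart (m := m) (F := F) hm' p
  have hθ1 : θ 1 = ((p ^ a : ℕ) : ℂ) := by
    have h1 := hval 1
    rw [MulAction.fixedBy_one_eq_univ, Nat.card_congr (Equiv.Set.univ _)] at h1
    have h2 : Nat.card (↥(Bsp m F) ⧸ (Bsp m F ⊓ Nsp m F).subgroupOf (Bsp m F)) = p ^ a := by
      rw [← Subgroup.index_eq_card, (Uup_isComplement' (m := m) (F := F)).index_eq_card, hUa]
    rw [h2] at h1
    exact h1
  have hirr : Cfsg.IsIrrCharacter ↥(Matrix.symplecticGroup (Fin m) F) θ :=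
    st_irr_abstract P Q (sigmaS m F) m (sigmaS_mem hm') (sigmaS_surj hm') (fun J _ => rfl)
      (nLong_mem_N hm') (nLong_h1 hm') (nLong_h1' hm') (nLong_h2 hm') θ hθ
      ⟨p ^ a, pow_pos hp.pos _, hθ1⟩
  obtain ⟨d, ρ, hρ, hρχ⟩ := hirr
  haveI := hρ
  -- the centre acts trivially
  have hcent : ∀ z ∈ Subgroup.center ↥(Matrix.symplecticGroup (Fin m) F), θ z = θ 1 := by
    intro z hz
    rw [hθ]
    apply Finset.sum_congr rfl
    intro J _
    rw [fpc_central' (Q J) z hz (le_sup_left (a := P.B) (center_le_Bsp hz))]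
  have hK : Subgroup.center ↥(Matrix.symplecticGroup (Fin m) F) ≤ MonoidHom.ker ρ := by
    intro z hz
    rw [MonoidHom.mem_ker]
    have h1 : ρ.character z = (Module.finrank ℂ (Fin d → ℂ) : ℂ) := by
      rw [← Representation.char_one ρ, hρχ]
      exact hcent z hz
    exact (Cfsg.Agent.S0139.result ρ z).mp h1
  let σ : Representation ℂ (Cfsg.PSp m F) (Fin d → ℂ) :=
    QuotientGroup.lift (Subgroup.center ↥(Matrix.symplecticGroup (Fin m) F)) ρ hK
  have hσ : σ.IsIrreducible := quotient_irreducible ρ _ hK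
  have hσirr : Cfsg.IsIrrCharacter (Cfsg.PSp m F) σ.character := ⟨d, σ, hσ, rfl⟩
  have hσchar : ∀ s : ↥(Matrix.symplecticGroup (Fin m) F),
      σ.character (QuotientGroup.mk s : Cfsg.PSp m F) = θ s := by
    intro s
    rw [← hρχ]
    rfl
  have h1Q : σ.character 1 = ((p ^ a : ℕ) : ℂ) := by
    have := hσchar 1
    rw [hθ1] at this
    exact this
  haveI : Fintype (Cfsg.PSp m F) := Fintype.ofFinite _
  have hdeg : Cfsg.charDegree σ.character = p ^ a := by
    unfold Cfsg.charDegree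
    rw [h1Q, Complex.natCast_re, Nat.floor_natCast]
  have hdiv : p ^ (Nat.card (Cfsg.PSp m F)).factorization p ∣ Cfsg.charDegree σ.character := by
    rw [hdeg]
    have h1 : p ^ (Nat.card (Cfsg.PSp m F)).factorization p ∣ p ^ a * r := by
      rw [← hGa]
      exact dvd_trans (Nat.ordProj_dvd _ _) (Subgroup.card_quotient_dvd_card _)
    exact (Nat.Coprime.pow_left _ ((Nat.Prime.coprime_iff_not_dvd hp).mpr hr)).dvd_of_dvd_mul_right h1
  have hvanQ : ∀ x : Cfsg.PSp m F, p ∣ orderOf x → σ.character x = 0 := fun x hx =>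
    Cfsg.Agent.Lib.Helper24.fz_vanish (⟨σ.character, hσirr⟩ : Cfsg.IrrCharacter (Cfsg.PSp m F)) p hp
      hdiv x hx
  refine ⟨σ.character, hσirr, ?_⟩
  intro S
  have hSvan : ∀ x : Cfsg.PSp m F, x ∈ S → x ≠ 1 → σ.character x = 0 := by
    intro x hxS hx1
    apply hvanQ
    have hx1' : (⟨x, hxS⟩ : (S : Subgroup (Cfsg.PSp m F))) ≠ 1 := by
      intro h
      exact hx1 (congrArg Subtype.val h)
    exact Cfsg.Agent.Lib.helper15.StbSt.dvd_orderOf_of_mem_pgroup p (S : Subgroup _) S.isPGroup'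
      ⟨x, hxS⟩ hx1'
  refine ⟨?_, hSvan⟩
  have : Fintype (S : Subgroup (Cfsg.PSp m F)) := Fintype.ofFinite _
  obtain ⟨k, hk⟩ := sum_subgroup_irr (S : Subgroup (Cfsg.PSp m F))
    (⟨σ.character, hσirr⟩ : Cfsg.IrrCharacter (Cfsg.PSp m F))
  have hsumS : ∑ x : (S : Subgroup (Cfsg.PSp m F)), σ.character (x : Cfsg.PSp m F) =
      σ.character 1 := by
    rw [Finset.sum_eq_single (1 : (S : Subgroup (Cfsg.PSp m F)))]
    · rfl
    · intro x _ hx
      apply hSvan _ x.2
      intro h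
      exact hx (Subtype.ext h)
    · intro h
      exact absurd (Finset.mem_univ _) h
  have hdvd1 : Nat.card (S : Subgroup (Cfsg.PSp m F)) ∣ p ^ a := by
    have h3 : ((p ^ a : ℕ) : ℂ) =
        ((Nat.card (S : Subgroup (Cfsg.PSp m F)) * k : ℕ) : ℂ) := by
      rw [← h1Q, ← hsumS]
      push_cast
      exact hk
    have h4 : p ^ a = Nat.card (S : Subgroup (Cfsg.PSp m F)) * k := by
      exact_mod_cast h3
    exact ⟨k, h4⟩
  have hdvd2 : p ^ a ∣ Nat.card (S : Subgroup (Cfsg.PSp m F)) := by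
    obtain ⟨n', _, hn1, hn2⟩ := Cfsg.Agent.Lib.helper2.irr_degree_dvd_card
      (⟨σ.character, hσirr⟩ : Cfsg.IrrCharacter (Cfsg.PSp m F))
    have hn' : n' = p ^ a := by
      have : ((n' : ℕ) : ℂ) = ((p ^ a : ℕ) : ℂ) := by
        rw [← hn1]
        exact h1Q
      exact_mod_cast this
    rw [hn'] at hn2
    rw [Sylow.card_eq_multiplicity]
    apply pow_dvd_pow
    exact (hp.pow_dvd_iff_le_factorization Nat.card_pos.ne').mp hn2
  rw [h1Q]
  congr 1
  exact Nat.dvd_antisymm hdvd2 hdvd1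

end Cfsg.Agent.S2545
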