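import Cfsg.Statements.S2550
import Cfsg.Agent.S0243
import Cfsg.Agent.Lib.helper14.SqZero

set_option autoImplicit false
open Cfsg

namespace Cfsg.Agent.S2550

open Cfsg.Agent.Lib.helper14 Module Matrix

section FieldFacts

variable {K : Type*} [Field K] [Fintype K]

theorem two_eq_zero_of_card_four (hK : Fintype.card K = 4) : (2 : K) = 0 := by
  have h := FiniteField.cast_card_eq_zero K
  rw [hK] at h
  have h4 : (2 : K) * 2 = 0 := by
    rw [← h]; norm_num
  exact mul_self_eq_zero.mp h4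

theorem cube_eq_one_of_card_four (hK : Fintype.card K = 4) (x : K) (hx : x ≠ 0) : x ^ 3 = 1 := by
  have := FiniteField.pow_card_sub_one_eq_one x hx
  rwa [hK] at this

theorem two_eq_zero_of_card_two {F : Type*} [Field F] [Fintype F] (hF : Fintype.card F = 2) :
    (2 : F) = 0 := by
  have h := FiniteField.cast_card_eq_zero F
  rw [hF] at h
  exact_mod_cast h

end FieldFacts

def idx3 : (Fin 1 ⊕ Fin 1) ⊕ Fin 1 ≃ Fin 3 :=
  (Equiv.sumCongr finSumFinEquiv (Equiv.refl _)).trans finSumFinEquiv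

theorem idx3_0 (i : Fin 1) : idx3 (Sum.inl (Sum.inl i)) = 0 := by
  fin_cases i; rfl

theorem idx3_1 (i : Fin 1) : idx3 (Sum.inl (Sum.inr i)) = 1 := by
  fin_cases i; rfl

theorem idx3_2 (i : Fin 1) : idx3 (Sum.inr i) = 2 := by
  fin_cases i; rfl

section LemmaB

variable {K : Type*} [Field K]

theorem sq_zero_of (h2 : (2 : K) = 0) (M : Matrix (Fin 3) (Fin 3) K) (ζ : K) (hζ : ζ ^ 4 = ζ)
    (h6 : M ^ 6 = ζ • (1 : Matrix (Fin 3) (Fin 3) K)) :
    (M ^ 3 - (ζ ^ 2) • (1 : Matrix (Fin 3) (Fin 3) K)) * (M ^ 3 - (ζ ^ 2) • (1 : Matrix (Fin 3) (Fin 3) K)) = 0 := by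
  have e1 : (M ^ 3 - (ζ ^ 2) • (1 : Matrix (Fin 3) (Fin 3) K)) * (M ^ 3 - (ζ ^ 2) • (1 : Matrix (Fin 3) (Fin 3) K))
      = M ^ 6 - ((ζ ^ 2) • M ^ 3 + (ζ ^ 2) • M ^ 3) + (ζ ^ 4) • (1 : Matrix (Fin 3) (Fin 3) K) := by
    rw [sub_mul, mul_sub, mul_sub, ← pow_add, Matrix.mul_smul, Matrix.smul_mul, Matrix.smul_mul, Matrix.mul_one,
      Matrix.one_mul, Matrix.mul_smul, Matrix.mul_one, smul_smul]
    have : ζ ^ 2 * ζ ^ 2 = ζ ^ 4 := by ring
    rw [this]
    abel
  rw [e1, ← two_smul K, h2, zero_smul, sub_zero, h6, hζ, ← two_smul K, h2, zero_smul]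

theorem tri_sq (h2 : (2 : K) = 0) (γ s x y : K) :
    (!![γ, s, x; 0, γ, y; 0, 0, γ] : Matrix (Fin 3) (Fin 3) K) ^ 2 =
      !![γ ^ 2, 0, s * y; 0, γ ^ 2, 0; 0, 0, γ ^ 2] := by
  rw [pow_two]
  ext i j
  fin_cases i <;> fin_cases j <;> simp [Matrix.mul_apply, Fin.sum_univ_three]
  · ring
  · linear_combination (γ * s) * h2
  · linear_combination (γ * x) * h2
  · ring
  · linear_combination (γ * y) * h2
  · ring

theorem tri_pow_four (h2 : (2 : K) = 0) (γ s x y : K) :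
    (!![γ, s, x; 0, γ, y; 0, 0, γ] : Matrix (Fin 3) (Fin 3) K) ^ 4 =
      (γ ^ 4) • (1 : Matrix (Fin 3) (Fin 3) K) := by
  have : (4 : ℕ) = 2 * 2 := rfl
  rw [this, pow_mul, tri_sq h2, pow_two]
  ext i j
  fin_cases i <;> fin_cases j <;> simp [Matrix.mul_apply, Fin.sum_univ_three]
  · ring
  · linear_combination (γ ^ 2 * (s * y)) * h2
  · ring
  · ring

theorem lemmaB [Fintype K] (hK : Fintype.card K = 4) (M : Matrix (Fin 3) (Fin 3) K) (hdet : M.det = 1)
    (ζ : K) (h6 : M ^ 6 = ζ • (1 : Matrix (Fin 3) (Fin 3) K)) :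
    (∃ c : K, M ^ 3 = c • (1 : Matrix (Fin 3) (Fin 3) K)) ∨
      (∃ c : K, M ^ 4 = c • (1 : Matrix (Fin 3) (Fin 3) K)) := by
  classical
  have h2 := two_eq_zero_of_card_four hK
  have hζ0 : ζ ≠ 0 := by
    rintro rfl
    rw [zero_smul] at h6
    have := congrArg Matrix.det h6
    rw [Matrix.det_pow, hdet, one_pow, Matrix.det_zero] at this
    exact one_ne_zero this
  have hζ3 := cube_eq_one_of_card_four hK ζ hζ0
  have hζ4 : ζ ^ 4 = ζ := by rw [pow_succ, hζ3, one_mul]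
  obtain ⟨P, hP⟩ : ∃ P : Matrix (Fin 3) (Fin 3) K,
      P = M ^ 3 - (ζ ^ 2) • (1 : Matrix (Fin 3) (Fin 3) K) := ⟨_, rfl⟩
  have hPP : P * P = 0 := by rw [hP]; exact sq_zero_of h2 M ζ hζ4 h6
  have hcomm : M * P = P * M := by
    rw [hP, mul_sub, sub_mul, Matrix.mul_smul, Matrix.smul_mul, Matrix.mul_one, Matrix.one_mul,
      ← pow_succ', ← pow_succ]
  by_cases hP0 : P = 0
  · left
    rw [hP] at hP0
    exact ⟨ζ ^ 2, sub_eq_zero.mp hP0⟩
  right
  have hN : P.mulVecLin ∘ₗ P.mulVecLin = 0 := by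
    rw [← Matrix.mulVecLin_mul, hPP, Matrix.mulVecLin_zero]
  obtain ⟨r, hr⟩ : ∃ r, finrank K (LinearMap.range P.mulVecLin) = r := ⟨_, rfl⟩
  obtain ⟨m, B, h1, h2'⟩ := exists_adapted_basis P.mulVecLin hN r hr
  have hc := Module.finrank_eq_card_basis B
  simp only [Fintype.card_sum, Fintype.card_fin, Module.finrank_fintype_fun_eq_card] at hc
  have hr0 : r ≠ 0 := by
    rintro rfl
    apply hP0
    have h3 : LinearMap.range P.mulVecLin = ⊥ := Submodule.finrank_eq_zero.mp hr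
    rw [LinearMap.range_eq_bot] at h3
    have h4 : Matrix.toLin' P = 0 := by rw [Matrix.toLin'_apply']; exact h3
    exact (LinearEquiv.map_eq_zero_iff _).mp h4
  obtain rfl : 1 = r := by omega
  obtain rfl : 1 = m := by omega
  set b : Basis (Fin 3) K (Fin 3 → K) := B.reindex idx3 with hb
  have e0 : b 0 = B (Sum.inl (Sum.inl 0)) := by
    rw [hb, Basis.reindex_apply, ← idx3_0 0, Equiv.symm_apply_apply]
  have e1 : b 1 = B (Sum.inl (Sum.inr 0)) := by
    rw [hb, Basis.reindex_apply, ← idx3_1 0, Equiv.symm_apply_apply]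
  have e2 : b 2 = B (Sum.inr 0) := by
    rw [hb, Basis.reindex_apply, ← idx3_2 0, Equiv.symm_apply_apply]
  have hb2 : P *ᵥ b 2 = b 0 := by rw [e2, e0]; exact h1 0
  have hb0 : P *ᵥ b 0 = 0 := by rw [e0]; exact h2' _
  have hb1 : P *ᵥ b 1 = 0 := by rw [e1]; exact h2' _
  have hexp : ∀ v : Fin 3 → K, v = b.repr v 0 • b 0 + b.repr v 1 • b 1 + b.repr v 2 • b 2 := by
    intro v
    have := (b.sum_repr v).symm
    rwa [Fin.sum_univ_three] at this
  have hPv : ∀ v : Fin 3 → K, P *ᵥ v = b.repr v 2 • b 0 := by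
    intro v
    conv_lhs => rw [hexp v]
    rw [Matrix.mulVec_add, Matrix.mulVec_add, Matrix.mulVec_smul, Matrix.mulVec_smul, Matrix.mulVec_smul,
      hb0, hb1, hb2, smul_zero, smul_zero, zero_add, zero_add]
  let Φ : Matrix (Fin 3) (Fin 3) K ≃ₐ[K] Matrix (Fin 3) (Fin 3) K :=
    (Matrix.toLinAlgEquiv' : Matrix (Fin 3) (Fin 3) K ≃ₐ[K] _).trans (LinearMap.toMatrixAlgEquiv b)
  have hΦ : ∀ (X : Matrix (Fin 3) (Fin 3) K) i j, Φ X i j = b.repr (X *ᵥ b j) i := by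
    intro X i j
    show LinearMap.toMatrixAlgEquiv b (Matrix.toLinAlgEquiv' X) i j = _
    rw [LinearMap.toMatrixAlgEquiv_apply, Matrix.toLinAlgEquiv'_apply]
  have hΦdet : (Φ M).det = M.det := by
    show (LinearMap.toMatrixAlgEquiv b (Matrix.toLinAlgEquiv' M)).det = _
    have : LinearMap.toMatrixAlgEquiv b (Matrix.toLinAlgEquiv' M) =
        LinearMap.toMatrix b b (Matrix.toLin' M) := rfl
    rw [this, LinearMap.det_toMatrix, LinearMap.det_toLin']
  obtain ⟨γ, hγ⟩ : ∃ γ, b.repr (M *ᵥ b 2) 2 = γ := ⟨_, rfl⟩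
  have hcol0 : M *ᵥ b 0 = γ • b 0 := by
    rw [← hb2, Matrix.mulVec_mulVec, hcomm, ← Matrix.mulVec_mulVec, hPv, hγ, hb2]
  have hA21 : Φ M 2 1 = 0 := by
    rw [hΦ]
    have h5 : P *ᵥ (M *ᵥ b 1) = 0 := by
      rw [Matrix.mulVec_mulVec, ← hcomm, ← Matrix.mulVec_mulVec, hb1, Matrix.mulVec_zero]
    rw [hPv] at h5
    rcases smul_eq_zero.mp h5 with h | h
    · exact h
    · exact absurd h (b.ne_zero 0)
  have hA00 : Φ M 0 0 = γ := by
    rw [hΦ, hcol0, map_smul, Basis.repr_self, Finsupp.smul_apply, Finsupp.single_eq_same, smul_eq_mul, mul_one]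
  have hA10 : Φ M 1 0 = 0 := by
    rw [hΦ, hcol0, map_smul, Basis.repr_self, Finsupp.smul_apply,
      Finsupp.single_eq_of_ne (by decide), smul_zero]
  have hA20 : Φ M 2 0 = 0 := by
    rw [hΦ, hcol0, map_smul, Basis.repr_self, Finsupp.smul_apply,
      Finsupp.single_eq_of_ne (by decide), smul_zero]
  have hA22 : Φ M 2 2 = γ := by rw [hΦ, hγ]
  have hdetA : γ * Φ M 1 1 * γ = 1 := by
    rw [← hdet, ← hΦdet, Matrix.det_fin_three, hA00, hA10, hA20, hA21, hA22]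
    ring
  have hγ0 : γ ≠ 0 := by
    rintro rfl
    rw [zero_mul, zero_mul] at hdetA
    exact zero_ne_one hdetA
  have hγ3 := cube_eq_one_of_card_four hK γ hγ0
  have hA11 : Φ M 1 1 = γ := by
    have h7 : γ ^ 2 * Φ M 1 1 = γ ^ 2 * γ := by
      have : γ ^ 2 * γ = 1 := by rw [← hγ3]; ring
      rw [this, ← hdetA]; ring
    exact mul_left_cancel₀ (pow_ne_zero 2 hγ0) h7
  have hAform : Φ M = !![γ, Φ M 0 1, Φ M 0 2; 0, γ, Φ M 1 2; 0, 0, γ] := by
    ext i j
    fin_cases i <;> fin_cases j <;> simp [hA00, hA10, hA20, hA21, hA22, hA11]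
  refine ⟨γ ^ 4, ?_⟩
  apply Φ.injective
  rw [map_pow, map_smul, map_one, hAform]
  exact tri_pow_four h2 _ _ _ _

end LemmaB

section LemmaC

variable {K : Type*} [Field K] [Fintype K]

omit [Fintype K] in
theorem mk_pow_eq_one_of_scalar (g : Matrix.SpecialLinearGroup (Fin 3) K) (k : ℕ) (c : K)
    (hc : (g : Matrix (Fin 3) (Fin 3) K) ^ k = c • (1 : Matrix (Fin 3) (Fin 3) K)) :
    ((QuotientGroup.mk g : Matrix.ProjectiveSpecialLinearGroup (Fin 3) K)) ^ k = 1 := by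
  classical
  rw [← QuotientGroup.mk_pow, QuotientGroup.eq_one_iff, Matrix.SpecialLinearGroup.mem_center_iff]
  refine ⟨c, ?_, ?_⟩
  · have := congrArg Matrix.det hc
    rw [Matrix.det_pow, g.2, one_pow, Matrix.det_smul, Matrix.det_one, mul_one] at this
    exact this.symm
  · rw [Matrix.SpecialLinearGroup.coe_pow, hc, Matrix.scalar_apply, Matrix.smul_one_eq_diagonal]

theorem lemmaC (hK : Fintype.card K = 4) (x : Matrix.ProjectiveSpecialLinearGroup (Fin 3) K)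
    (hx : x ^ 6 = 1) : x ^ 3 = 1 ∨ x ^ 2 = 1 := by
  classical
  obtain ⟨g, rfl⟩ := QuotientGroup.mk_surjective x
  have hx' := hx
  rw [← QuotientGroup.mk_pow, QuotientGroup.eq_one_iff, Matrix.SpecialLinearGroup.mem_center_iff] at hx'
  obtain ⟨ζ, -, hs⟩ := hx'
  have h6 : (g : Matrix (Fin 3) (Fin 3) K) ^ 6 = ζ • (1 : Matrix (Fin 3) (Fin 3) K) := by
    rw [← Matrix.SpecialLinearGroup.coe_pow, ← hs, Matrix.scalar_apply, Matrix.smul_one_eq_diagonal]
  rcases lemmaB hK g.1 g.2 ζ h6 with ⟨c, hc⟩ | ⟨c, hc⟩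
  · left
    exact mk_pow_eq_one_of_scalar g 3 c hc
  · right
    have h4 := mk_pow_eq_one_of_scalar g 4 c hc
    have : (QuotientGroup.mk g : Matrix.ProjectiveSpecialLinearGroup (Fin 3) K) ^ 6 =
        (QuotientGroup.mk g : Matrix.ProjectiveSpecialLinearGroup (Fin 3) K) ^ 4 *
        (QuotientGroup.mk g : Matrix.ProjectiveSpecialLinearGroup (Fin 3) K) ^ 2 := by
      rw [← pow_add]
    rw [hx, h4, one_mul] at this
    exact this.symm

end LemmaC

section Elt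

variable {F : Type*} [Field F]

def M0 : Matrix (Fin 4) (Fin 4) F := !![0, 1, 0, 0; 1, 1, 0, 0; 0, 0, 1, 1; 0, 0, 0, 1]

theorem M0_det (h2 : (2 : F) = 0) : (M0 : Matrix (Fin 4) (Fin 4) F).det = 1 := by
  rw [M0, Matrix.det_succ_row_zero]
  simp [Fin.sum_univ_succ, Matrix.det_fin_three, Fin.succAbove]
  linear_combination (-1 : F) * h2

theorem M0_sq (h2 : (2 : F) = 0) : (M0 : Matrix (Fin 4) (Fin 4) F) ^ 2 =
    !![1, 1, 0, 0; 1, 0, 0, 0; 0, 0, 1, 0; 0, 0, 0, 1] := by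
  rw [pow_two, M0]
  ext i j
  fin_cases i <;> fin_cases j <;> simp [Matrix.mul_apply, Fin.sum_univ_four]
  all_goals linear_combination h2

theorem M0_cube (h2 : (2 : F) = 0) : (M0 : Matrix (Fin 4) (Fin 4) F) ^ 3 =
    !![1, 0, 0, 0; 0, 1, 0, 0; 0, 0, 1, 1; 0, 0, 0, 1] := by
  rw [pow_succ, M0_sq h2, M0]
  ext i j
  fin_cases i <;> fin_cases j <;> simp [Matrix.mul_apply, Fin.sum_univ_four]
  all_goals linear_combination h2

theorem M0_six (h2 : (2 : F) = 0) : (M0 : Matrix (Fin 4) (Fin 4) F) ^ 6 = 1 := by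
  have : (6 : ℕ) = 3 * 2 := rfl
  rw [this, pow_mul, M0_cube h2, pow_two]
  ext i j
  fin_cases i <;> fin_cases j <;> simp [Matrix.mul_apply, Fin.sum_univ_four]
  all_goals linear_combination h2

theorem exists_elt (h2 : (2 : F) = 0) : ∃ x : Matrix.ProjectiveSpecialLinearGroup (Fin 4) F,
    x ^ 6 = 1 ∧ x ^ 3 ≠ 1 ∧ x ^ 2 ≠ 1 := by
  classical
  obtain ⟨g, hg⟩ : ∃ g : Matrix.SpecialLinearGroup (Fin 4) F,
      (g : Matrix (Fin 4) (Fin 4) F) = M0 := ⟨⟨M0, M0_det h2⟩, rfl⟩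
  refine ⟨QuotientGroup.mk g, ?_, ?_, ?_⟩
  · rw [← QuotientGroup.mk_pow]
    have : g ^ 6 = 1 := by
      apply Subtype.ext
      rw [Matrix.SpecialLinearGroup.coe_pow, hg, M0_six h2]
      rfl
    rw [this]
    rfl
  · intro h
    rw [← QuotientGroup.mk_pow, QuotientGroup.eq_one_iff, Matrix.SpecialLinearGroup.mem_center_iff] at h
    obtain ⟨r, -, hr⟩ := h
    rw [Matrix.SpecialLinearGroup.coe_pow, hg, M0_cube h2, Matrix.scalar_apply] at hr
    have := congrFun (congrFun hr 2) 3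
    simp at this
  · intro h
    rw [← QuotientGroup.mk_pow, QuotientGroup.eq_one_iff, Matrix.SpecialLinearGroup.mem_center_iff] at h
    obtain ⟨r, -, hr⟩ := h
    rw [Matrix.SpecialLinearGroup.coe_pow, hg, M0_sq h2, Matrix.scalar_apply] at hr
    have := congrFun (congrFun hr 0) 1
    simp at this

end Elt

/-- Let F be a field with 2 elements and K a field with 4 elements. PSL_4(F) and PSL_3(K) have the same order (20160) but are not isomorphic. -/
theorem result {F K : Type*} [Field F] [Fintype F] [Field K] [Fintype K] (hF : Fintype.card F = 2) (hK : Fintype.card K = 4) : Nat.card (Matrix.ProjectiveSpecialLinearGroup (Fin 4) F) = Nat.card (Matrix.ProjectiveSpecialLinearGroup (Fin 3) K) ∧ ¬ Nonempty (Matrix.ProjectiveSpecialLinearGroup (Fin 4) F ≃* Matrix.ProjectiveSpecialLinearGroup (Fin 3) K) := by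
  classical
  constructor
  · have h1 := Cfsg.Agent.S0243.result hF 4 (by norm_num)
    have h2 := Cfsg.Agent.S0243.result hK 3 (by norm_num)
    rw [Fin.prod_univ_four] at h1
    rw [Fin.prod_univ_three] at h2
    generalize Nat.card (Matrix.ProjectiveSpecialLinearGroup (Fin 4) F) = A at h1 ⊢
    generalize Nat.card (Matrix.ProjectiveSpecialLinearGroup (Fin 3) K) = B at h2 ⊢
    norm_num at h1 h2
    omega
  · rintro ⟨φ⟩
    obtain ⟨x, h6, h3, h2⟩ := exists_elt (two_eq_zero_of_card_two hF)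
    have hφ6 : (φ x) ^ 6 = 1 := by rw [← map_pow, h6, map_one]
    rcases lemmaC hK (φ x) hφ6 with h | h
    · apply h3
      apply φ.injective
      rw [map_pow, h, map_one]
    · apply h2
      apply φ.injective
      rw [map_pow, h, map_one]

end Cfsg.Agent.S2550
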