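import Cfsg.Statements.S2552

import Mathlib
set_option autoImplicit false
open Cfsg

namespace Cfsg.Agent.S2552


open Matrix

theorem exists_equiv_map {F : Type*} [Field F] {V : Type*} [AddCommGroup V] [Module F V] [FiniteDimensional F V]
    (U₁ U₂ : Submodule F V) (h : Module.finrank F U₁ = Module.finrank F U₂) :
    ∃ e : V ≃ₗ[F] V, U₁.map (e : V →ₗ[F] V) = U₂ := by
  obtain ⟨W₁, hc₁⟩ := Submodule.exists_isCompl U₁
  obtain ⟨W₂, hc₂⟩ := Submodule.exists_isCompl U₂
  have hf₁ := Submodule.finrank_add_eq_of_isCompl hc₁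
  have hf₂ := Submodule.finrank_add_eq_of_isCompl hc₂
  have hW : Module.finrank F W₁ = Module.finrank F W₂ := by omega
  let e₁ : U₁ ≃ₗ[F] U₂ := LinearEquiv.ofFinrankEq U₁ U₂ h
  let e₂ : W₁ ≃ₗ[F] W₂ := LinearEquiv.ofFinrankEq W₁ W₂ hW
  let P₁ := Submodule.prodEquivOfIsCompl U₁ W₁ hc₁
  let P₂ := Submodule.prodEquivOfIsCompl U₂ W₂ hc₂
  let e : V ≃ₗ[F] V := P₁.symm ≪≫ₗ (LinearEquiv.prodCongr e₁ e₂) ≪≫ₗ P₂
  have he : ∀ u : U₁, e (u : V) = (e₁ u : V) := by
    intro u
    simp only [e, LinearEquiv.trans_apply, P₁, P₂]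
    rw [Submodule.prodEquivOfIsCompl_symm_apply_left]
    simp [Submodule.coe_prodEquivOfIsCompl']
  refine ⟨e, ?_⟩
  apply le_antisymm
  · rintro _ ⟨u, hu, rfl⟩
    have := he ⟨u, hu⟩
    simp only [LinearEquiv.coe_coe] at this ⊢
    rw [this]
    exact (e₁ ⟨u, hu⟩).2
  · intro v hv
    refine ⟨(e₁.symm ⟨v, hv⟩ : V), (e₁.symm ⟨v, hv⟩).2, ?_⟩
    have := he (e₁.symm ⟨v, hv⟩)
    simp only [LinearEquiv.coe_coe]
    rw [this]
    simp

/-- Let F be a finite field and n ≥ 1. For every k, the special linear group SL_n(F) acts transitively on the set of k-dimensional subspaces of F^n: any two subspaces of the same dimension are carried onto each other by some matrix of determinant 1. -/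
theorem result {F : Type*} [Field F] [Fintype F] (n : ℕ) (hn : 1 ≤ n) (U₁ U₂ : Submodule F (Fin n → F)) (h : Module.finrank F U₁ = Module.finrank F U₂) : ∃ g : Matrix.SpecialLinearGroup (Fin n) F, U₁.map ((Matrix.SpecialLinearGroup.toLin' g : (Fin n → F) ≃ₗ[F] (Fin n → F)) : (Fin n → F) →ₗ[F] (Fin n → F)) = U₂ := by
  by_cases hbot : U₁ = ⊥
  · subst hbot
    have h2 : U₂ = ⊥ := by
      rw [finrank_bot] at h
      exact Submodule.finrank_eq_zero.mp h.symm
    subst h2
    exact ⟨1, by simp⟩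
  · obtain ⟨u, hu, hu0⟩ := (Submodule.ne_bot_iff U₁).mp hbot
    obtain ⟨i, hi⟩ : ∃ i, u i ≠ 0 := by
      by_contra hcon
      push Not at hcon
      exact hu0 (funext hcon)
    obtain ⟨e, he⟩ := exists_equiv_map U₁ U₂ h
    set E : Matrix (Fin n) (Fin n) F := LinearMap.toMatrix' (e : (Fin n → F) →ₗ[F] (Fin n → F)) with hE
    have hEdet : E.det ≠ 0 := by
      rw [hE, LinearMap.det_toMatrix']
      exact (LinearEquiv.isUnit_det' e).ne_zero
    set d := E.det with hd
    let f : Fin n → F := Pi.single i (u i)⁻¹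
    have hfu : f ⬝ᵥ u = 1 := by
      simp [f, inv_mul_cancel₀ hi]
    let S : Matrix (Fin n) (Fin n) F := 1 + replicateCol (Fin 1) ((d⁻¹ - 1) • u) * replicateRow (Fin 1) f
    have hSdet : S.det = d⁻¹ := by
      have h0 := Matrix.det_one_add_replicateCol_mul_replicateRow (ι := Fin 1) ((d⁻¹ - 1) • u) f
      rw [dotProduct_smul, hfu] at h0
      refine h0.trans ?_
      simp
    have hSv : ∀ v : Fin n → F, S *ᵥ v = v + ((d⁻¹ - 1) * (f ⬝ᵥ v)) • u := by
      intro v
      simp only [S, Matrix.add_mulVec, Matrix.one_mulVec]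
      congr 1
      ext j
      simp only [Matrix.mulVec, Matrix.mul_apply, dotProduct, Matrix.replicateCol_apply, Matrix.replicateRow_apply,
        Finset.univ_unique, Finset.sum_singleton, Pi.smul_apply, smul_eq_mul]
      rw [Finset.mul_sum, Finset.sum_mul]
      apply Finset.sum_congr rfl
      intro x _
      ring
    have hGdet : (E * S).det = 1 := by
      rw [Matrix.det_mul, hSdet, ← hd, mul_inv_cancel₀ hEdet]
    refine ⟨(⟨E * S, hGdet⟩ : Matrix.SpecialLinearGroup (Fin n) F), ?_⟩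
    change U₁.map (Matrix.toLin' (E * S)) = U₂
    rw [Matrix.toLin'_mul, Submodule.map_comp]
    have hSmap : U₁.map (Matrix.toLin' S) = U₁ := by
      have hle : U₁.map (Matrix.toLin' S) ≤ U₁ := by
        rintro _ ⟨v, hv, rfl⟩
        rw [Matrix.toLin'_apply, hSv]
        exact U₁.add_mem hv (U₁.smul_mem _ hu)
      have hinj : Function.Injective (Matrix.toLin' S) := by
        have hunit : IsUnit S.det := by
          rw [hSdet]; exact (inv_ne_zero hEdet).isUnit
        exact Matrix.mulVec_injective_of_isUnit ((Matrix.isUnit_iff_isUnit_det S).mpr hunit)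
      apply Submodule.eq_of_le_of_finrank_eq hle
      have h1 := LinearEquiv.finrank_map_eq (LinearEquiv.ofInjectiveEndo (Matrix.toLin' S) hinj) U₁
      rw [← h1]
      rfl
    rw [hSmap, hE, Matrix.toLin'_toMatrix']
    exact he

end Cfsg.Agent.S2552
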