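import Cfsg.Statements.S2553
import Cfsg.Agent.Lib.Helper24.G42A
import Cfsg.Agent.Lib.Helper24.G42L

set_option autoImplicit false
open Cfsg

namespace Cfsg.Agent.S2553

open Cfsg.Agent.Lib.Helper24

theorem result (H : Subgroup (GL (Fin 4) (ZMod 2))) (hH : H ≠ ⊥) (hO : Cfsg.pPrimeCore 2 ↥H = ⊥) (hO2 : Cfsg.pCore 2 ↥H = ⊥) :
    (∃ n : ℕ, 5 ≤ n ∧ n ≤ 8 ∧ Nonempty (↥H ≃* alternatingGroup (Fin n))) ∨
    Nonempty (↥H ≃* Equiv.Perm (Fin 5)) ∨ Nonempty (↥H ≃* Equiv.Perm (Fin 6)) ∨ Nonempty (↥H ≃* GL (Fin 3) (ZMod 2)) := by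
  have htf : G42TF H := g42_tf_of_cores hO hO2
  have h1344 := g42_no_1344 H htf
  obtain ⟨f, hf, hsign⟩ := g42_gl4_embed
  let e : H ≃* H.map f := Subgroup.equivMapOfInjective H f hf
  have hnt0 : Nontrivial H := (Subgroup.nontrivial_iff_ne_bot H).2 hH
  have hnt : Nontrivial (H.map f) := e.symm.toEquiv.nontrivial
  have hle : H.map f ≤ alternatingGroup (Fin 8) := by
    rintro _ ⟨g, _, rfl⟩
    exact Equiv.Perm.mem_alternatingGroup.2 (hsign g)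
  have hc := g42_perm_main (Ω := Fin 8) (by simp) (H.map f) (g42_tf_equiv e htf) hle
    (by rw [← Nat.card_congr e.toEquiv]; exact h1344)
  rcases g42_concl_equiv e hc with h | h | h | ⟨h1, h2⟩
  · exact Or.inl h
  · exact Or.inr (Or.inl h)
  · exact Or.inr (Or.inr (Or.inl h))
  · exact Or.inr (Or.inr (Or.inr (g42_iso_gl3 h1)))

end Cfsg.Agent.S2553
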