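import Cfsg.Statements.S2556
import Cfsg.Agent.Lib.helper3.SuzukiSylow
import Cfsg.Agent.Lib.helper3.SuzukiLieIso
import Cfsg.Agent.Lib.helper14.SzAut2
import Cfsg.Agent.Lib.Helper18.CharP

set_option autoImplicit false
open Cfsg

namespace Cfsg.Agent.S2556

open Cfsg.Agent.Lib.helper14 Cfsg.Agent.Lib.helper14.SzModel Cfsg.Agent.Lib.helper14.SzAut
  Cfsg.Agent.Lib.helper14.SzAut2 Cfsg.Agent.Lib.helper3

section iso
variable {F : Type*} [Field F] [Fintype F] {m : ℕ} (hF : Fintype.card F = 2 ^ (2 * m + 1))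
  [CharP F 2] {θ : F →+* F}

/-- the model is isomorphic to helper3's group of translations -/
noncomputable def modelEquiv (hθe : ∀ x, θ x = x ^ (2 ^ (m + 1))) : SzP θ ≃* Qs hF :=
  MulEquiv.ofBijective
    ({ toFun := fun x => qT hF x.a x.b
       map_one' := qT_zero hF
       map_mul' := fun x y => by
        rw [qT_mul]
        have : szθ m x.a = θ x.a := (hθe x.a).symm
        rw [this]
        rfl } : SzP θ →* Qs hF)
    ⟨fun x y h => by
        have := qT_inj hF h
        exact SzP.ext this.1 this.2,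
      fun h => by
        obtain ⟨a, b, rfl⟩ := qT_surj hF h
        exact ⟨⟨a, b⟩, rfl⟩⟩

end iso

/-- Let S be a Sylow 2-subgroup of the Suzuki group Sz(q), q = 2ⁿ with n = 2m + 1 ≥ 3 (realised as 4 × 4 matrices over the field with q elements). Then the largest normal 2-subgroup of the automorphism group of S is elementary abelian of order 2^(n²), and the automorphism group of S has order 2^(n²) · n · (q − 1). -/
theorem result {S : Type*} [Group S] [Finite S] (m : ℕ) (hm : 1 ≤ m)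
    {F : Type*} [Field F] [Fintype F] (hF : Fintype.card F = 2 ^ (2 * m + 1))
    (P : Sylow 2 ↥(Cfsg.Lie.Sz F (2 ^ (m + 1)))) (hS : Nonempty (S ≃* ↥(P : Subgroup ↥(Cfsg.Lie.Sz F (2 ^ (m + 1)))))) :
    Cfsg.IsElementaryAbelian 2 (Cfsg.pCore 2 (MulAut S)) ∧ Nat.card ↥(Cfsg.pCore 2 (MulAut S)) = 2 ^ ((2 * m + 1) ^ 2) ∧
      Nat.card (MulAut S) = 2 ^ ((2 * m + 1) ^ 2) * ((2 * m + 1) * (2 ^ (2 * m + 1) - 1)) := by
  haveI : Fact (Nat.Prime 2) := ⟨Nat.prime_two⟩
  haveI : CharP F 2 := charP_of_card_eq_prime_pow (f := 2 * m + 1) hF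
  -- the ring homomorphism θ
  let θ : F →+* F := iterateFrobenius F 2 (m + 1)
  have hθe : ∀ x, θ x = x ^ (2 ^ (m + 1)) := fun x => iterateFrobenius_def 2 (m + 1) x
  have hθθ : ∀ x, θ (θ x) = x * x := by
    intro x
    rw [hθe, hθe, ← pow_mul, ← pow_add]
    have : m + 1 + (m + 1) = (2 * m + 1) + 1 := by ring
    rw [this, pow_succ, pow_mul, ← hF, FiniteField.pow_card, pow_two]
  -- the isomorphism with the model
  set E := szLieEquiv hF hm with hE
  have hrange : (P : Subgroup ↥(Cfsg.Lie.Sz F (2 ^ (m + 1)))) ≤ E.toMonoidHom.range := by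
    intro x _
    exact ⟨E.symm x, E.apply_symm_apply x⟩
  let P' : Sylow 2 (Sz F m) := P.comapOfInjective E.toMonoidHom E.injective hrange
  have hP' : (P' : Subgroup (Sz F m)) =
      (P : Subgroup ↥(Cfsg.Lie.Sz F (2 ^ (m + 1)))).comap E.toMonoidHom :=
    Sylow.coe_comapOfInjective _ _ _ _
  have e1 : ↥(P' : Subgroup (Sz F m)) ≃* ↥(P : Subgroup ↥(Cfsg.Lie.Sz F (2 ^ (m + 1)))) :=
    (MulEquiv.subgroupCongr hP').trans
      (MulEquiv.ofBijective
        (E.toMonoidHom.subgroupComap (P : Subgroup ↥(Cfsg.Lie.Sz F (2 ^ (m + 1)))))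
        ⟨fun x y h => by
            apply Subtype.ext
            apply E.injective
            exact congrArg Subtype.val h,
          E.toMonoidHom.subgroupComap_surjective_of_surjective _ E.surjective⟩)
  obtain ⟨e2⟩ := sylow_equiv_Qs hF hm P'
  obtain ⟨e0⟩ := hS
  let e : S ≃* SzP θ := ((e0.trans e1.symm).trans e2).trans (modelEquiv hF hθe).symm
  let EE : MulAut S ≃* MulAut (SzP θ) := MulAut.congr e
  have hmap : (Cfsg.pCore 2 (MulAut S)).map EE.toMonoidHom = KerS θ := by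
    rw [Cfsg.Agent.Lib.Helper18.pCore_map_mulEquiv EE,
      pCore_eq hθθ _ hθe (2 * m + 1) (by omega) hF]
  have hmem : ∀ a ∈ Cfsg.pCore 2 (MulAut S), EE a ∈ KerS θ := by
    intro a ha
    rw [← hmap]
    exact Subgroup.mem_map_of_mem _ ha
  refine ⟨⟨⟨⟨fun a b => ?_⟩⟩, fun a ha => ?_⟩, ?_, ?_⟩
  · apply Subtype.ext
    apply EE.injective
    show EE ((a : MulAut S) * (b : MulAut S)) = EE ((b : MulAut S) * (a : MulAut S))
    rw [map_mul, map_mul]
    exact ker_comm hθθ _ hθe _ _ (hmem _ a.2) (hmem _ b.2)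
  · apply EE.injective
    rw [map_pow, map_one]
    exact ker_sq hθθ _ hθe _ (hmem _ ha)
  · rw [← card_KerS hθθ _ hθe (2 * m + 1) hF, ← hmap]
    exact Nat.card_congr
      ((Cfsg.pCore 2 (MulAut S)).equivMapOfInjective EE.toMonoidHom EE.injective).toEquiv
  · rw [Nat.card_congr EE.toEquiv]
    exact card_mulAut hθθ _ hθe (2 * m + 1) hF

end Cfsg.Agent.S2556
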