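import Cfsg.Statements.S2561

import Cfsg.Agent.Lib.helper15.QuadF2Count
set_option autoImplicit false
open Cfsg

namespace Cfsg.Agent.S2561


open Cfsg.Agent.Lib.helper15

theorem main (k : ℕ) :
    Nat.card {q : VP (k + 1) → ZMod 2 // IsPol (k + 1) q} = 2 ^ (2 * (k + 1)) ∧
    (∀ q : VP (k + 1) → ZMod 2, IsPol (k + 1) q →
      (∃ g : VP (k + 1) ≃ₗ[ZMod 2] VP (k + 1), ∀ v, q v = QP (k + 1) (g v)) ∨
      (∃ g : VP (k + 1) ≃ₗ[ZMod 2] ((Fin k ⊕ Fin k) ⊕ Fin 2 → ZMod 2), ∀ v, q v = QM k (g v))) ∧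
    Nat.card {q : VP (k + 1) → ZMod 2 // IsPol (k + 1) q ∧
      ∃ g : VP (k + 1) ≃ₗ[ZMod 2] VP (k + 1), ∀ v, q v = QP (k + 1) (g v)} = 2 ^ (2 * k + 1) + 2 ^ k ∧
    Nat.card {q : VP (k + 1) → ZMod 2 // IsPol (k + 1) q ∧
      ∃ g : VP (k + 1) ≃ₗ[ZMod 2] ((Fin k ⊕ Fin k) ⊕ Fin 2 → ZMod 2), ∀ v, q v = QM k (g v)}
        = 2 ^ (2 * k + 1) - 2 ^ k := by
  refine ⟨card_pol (k + 1), ?_, ?_, ?_⟩
  · intro q hq
    obtain ⟨w, rfl⟩ := exists_qw (k + 1) q hq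
    have : QP (k + 1) w = 0 ∨ QP (k + 1) w = 1 := by
      generalize QP (k + 1) w = c; revert c; decide
    rcases this with h | h
    · exact Or.inl ((plus_type_iff (k + 1) w).mpr h)
    · exact Or.inr ((minus_type_iff k w).mpr h)
  · rw [card_pol_sub (k + 1) (fun q => ∃ g : VP (k + 1) ≃ₗ[ZMod 2] VP (k + 1), ∀ v, q v = QP (k + 1) (g v))]
    rw [← card_QP_zero k]
    apply Nat.card_congr
    exact Equiv.subtypeEquivRight (fun w => plus_type_iff (k + 1) w)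
  · rw [card_pol_sub (k + 1) (fun q => ∃ g : VP (k + 1) ≃ₗ[ZMod 2] ((Fin k ⊕ Fin k) ⊕ Fin 2 → ZMod 2), ∀ v, q v = QM k (g v))]
    rw [← card_QP_one k]
    apply Nat.card_congr
    exact Equiv.subtypeEquivRight (fun w => minus_type_iff k w)

/-- Fix the non-singular alternating form on the 2m-dimensional space over the field of two elements obtained by polarizing the plus-type form Σ xᵢyᵢ (m ≥ 1). The functions q on the space with q(u + v) = q(u) + q(v) + f(u, v) (the quadratic forms polarizing to f) number 2^(2m); each is equivalent under an invertible linear map either to the plus-type form or to the minus-type form Σ xᵢyᵢ + (z₁² + z₁z₂ + z₂²); and those of plus type number 2^(2m−1) + 2^(m−1), those of minus type 2^(2m−1) − 2^(m−1). -/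
theorem result (m : ℕ) (hm : 1 ≤ m) :
    Nat.card {q : (Fin m ⊕ Fin m → ZMod 2) → ZMod 2 // (∀ u v : (Fin m ⊕ Fin m → ZMod 2), q (u + v) = q u + q v + (Cfsg.quadFormPlus m (ZMod 2) (u + v) - Cfsg.quadFormPlus m (ZMod 2) u - Cfsg.quadFormPlus m (ZMod 2) v))} = 2 ^ (2 * m) ∧
    (∀ q : (Fin m ⊕ Fin m → ZMod 2) → ZMod 2, (∀ u v : (Fin m ⊕ Fin m → ZMod 2), q (u + v) = q u + q v + (Cfsg.quadFormPlus m (ZMod 2) (u + v) - Cfsg.quadFormPlus m (ZMod 2) u - Cfsg.quadFormPlus m (ZMod 2) v)) →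
      (∃ g : (Fin m ⊕ Fin m → ZMod 2) ≃ₗ[ZMod 2] (Fin m ⊕ Fin m → ZMod 2), ∀ v, q v = Cfsg.quadFormPlus m (ZMod 2) (g v)) ∨
      (∃ g : (Fin m ⊕ Fin m → ZMod 2) ≃ₗ[ZMod 2] ((Fin (m - 1) ⊕ Fin (m - 1)) ⊕ Fin 2 → ZMod 2), ∀ v, q v = Cfsg.quadFormMinus (m - 1) (ZMod 2) 1 1 (g v))) ∧
    Nat.card {q : (Fin m ⊕ Fin m → ZMod 2) → ZMod 2 // (∀ u v : (Fin m ⊕ Fin m → ZMod 2), q (u + v) = q u + q v + (Cfsg.quadFormPlus m (ZMod 2) (u + v) - Cfsg.quadFormPlus m (ZMod 2) u - Cfsg.quadFormPlus m (ZMod 2) v)) ∧ ∃ g : (Fin m ⊕ Fin m → ZMod 2) ≃ₗ[ZMod 2] (Fin m ⊕ Fin m → ZMod 2), ∀ v, q v = Cfsg.quadFormPlus m (ZMod 2) (g v)} = 2 ^ (2 * m - 1) + 2 ^ (m - 1) ∧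
    Nat.card {q : (Fin m ⊕ Fin m → ZMod 2) → ZMod 2 // (∀ u v : (Fin m ⊕ Fin m → ZMod 2), q (u + v) = q u + q v + (Cfsg.quadFormPlus m (ZMod 2) (u + v) - Cfsg.quadFormPlus m (ZMod 2) u - Cfsg.quadFormPlus m (ZMod 2) v)) ∧ ∃ g : (Fin m ⊕ Fin m → ZMod 2) ≃ₗ[ZMod 2] ((Fin (m - 1) ⊕ Fin (m - 1)) ⊕ Fin 2 → ZMod 2), ∀ v, q v = Cfsg.quadFormMinus (m - 1) (ZMod 2) 1 1 (g v)} = 2 ^ (2 * m - 1) - 2 ^ (m - 1) := by
  obtain ⟨k, rfl⟩ : ∃ k, m = k + 1 := ⟨m - 1, by omega⟩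
  exact main k

end Cfsg.Agent.S2561
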