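import Cfsg.Statements.S2562

import Cfsg.Agent.Lib.helper15.QuadF2Witt
set_option autoImplicit false
open Cfsg

namespace Cfsg.Agent.S2562


open Cfsg.Agent.Lib.helper15

theorem main (k : ℕ) :
    (∃ U : Submodule (ZMod 2) (VP (k + 1)), (∀ u ∈ U, QP (k + 1) u = 0) ∧ Module.finrank (ZMod 2) ↥U = k + 1) ∧
    (∀ U : Submodule (ZMod 2) (VP (k + 1)), (∀ u ∈ U, QP (k + 1) u = 0) → Module.finrank (ZMod 2) ↥U ≤ k + 1) ∧
    (∃ U : Submodule (ZMod 2) ((Fin k ⊕ Fin k) ⊕ Fin 2 → ZMod 2), (∀ u ∈ U, QM k u = 0) ∧ Module.finrank (ZMod 2) ↥U = k) ∧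
    (∀ U : Submodule (ZMod 2) ((Fin k ⊕ Fin k) ⊕ Fin 2 → ZMod 2), (∀ u ∈ U, QM k u = 0) → Module.finrank (ZMod 2) ↥U ≤ k) :=
  ⟨exists_singular_plus (k + 1), finrank_le_plus (k + 1), exists_singular_minus k, finrank_le_minus k⟩

/-- Witt indices over the field of two elements, m ≥ 1: for the plus-type form Σ xᵢyᵢ in dimension 2m some m-dimensional subspace is totally singular and no totally singular subspace has larger dimension; for the minus-type form Σ xᵢyᵢ + (z₁² + z₁z₂ + z₂²) in dimension 2m the maximal dimension of a totally singular subspace is m − 1. -/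
theorem result (m : ℕ) (hm : 1 ≤ m) :
    (∃ U : Submodule (ZMod 2) (Fin m ⊕ Fin m → ZMod 2), (∀ u ∈ U, Cfsg.quadFormPlus m (ZMod 2) u = 0) ∧ Module.finrank (ZMod 2) ↥U = m) ∧
    (∀ U : Submodule (ZMod 2) (Fin m ⊕ Fin m → ZMod 2), (∀ u ∈ U, Cfsg.quadFormPlus m (ZMod 2) u = 0) → Module.finrank (ZMod 2) ↥U ≤ m) ∧
    (∃ U : Submodule (ZMod 2) ((Fin (m - 1) ⊕ Fin (m - 1)) ⊕ Fin 2 → ZMod 2), (∀ u ∈ U, Cfsg.quadFormMinus (m - 1) (ZMod 2) 1 1 u = 0) ∧ Module.finrank (ZMod 2) ↥U = m - 1) ∧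
    (∀ U : Submodule (ZMod 2) ((Fin (m - 1) ⊕ Fin (m - 1)) ⊕ Fin 2 → ZMod 2), (∀ u ∈ U, Cfsg.quadFormMinus (m - 1) (ZMod 2) 1 1 u = 0) → Module.finrank (ZMod 2) ↥U ≤ m - 1) := by
  obtain ⟨k, rfl⟩ : ∃ k, m = k + 1 := ⟨m - 1, by omega⟩
  exact main k

end Cfsg.Agent.S2562
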