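import Cfsg.Statements.S2563

import Cfsg.Agent.Lib.helper15.QuadF2Refl
import Cfsg.Agent.S2530
set_option autoImplicit false
open Cfsg

namespace Cfsg.Agent.S2563


open Cfsg.Agent.Lib.helper15

def conjHom {V V' : Type} [AddCommGroup V] [Module (ZMod 2) V] [AddCommGroup V'] [Module (ZMod 2) V']
    (g : V ≃ₗ[ZMod 2] V') : (V ≃ₗ[ZMod 2] V) →* (V' ≃ₗ[ZMod 2] V') where
  toFun f := (g.symm.trans f).trans g
  map_one' := by
    apply LinearEquiv.ext
    intro v
    simp
  map_mul' a b := by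
    apply LinearEquiv.ext
    intro v
    simp [LinearEquiv.mul_apply]

theorem conjHom_apply {V V' : Type} [AddCommGroup V] [Module (ZMod 2) V] [AddCommGroup V']
    [Module (ZMod 2) V'] (g : V ≃ₗ[ZMod 2] V') (f : V ≃ₗ[ZMod 2] V) (v : V') :
    conjHom g f v = g (f (g.symm v)) := rfl

theorem conjHom_injective {V V' : Type} [AddCommGroup V] [Module (ZMod 2) V] [AddCommGroup V']
    [Module (ZMod 2) V'] (g : V ≃ₗ[ZMod 2] V') : Function.Injective (conjHom g) := by
  intro a b hab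
  apply LinearEquiv.ext
  intro v
  have := congrArg (fun f : V' ≃ₗ[ZMod 2] V' => f (g v)) hab
  simp only [conjHom_apply, LinearEquiv.symm_apply_apply] at this
  exact g.injective this

noncomputable def toGLEquiv (ι : Type) [Fintype ι] [DecidableEq ι] :
    ((ι → ZMod 2) ≃ₗ[ZMod 2] (ι → ZMod 2)) ≃* Matrix.GeneralLinearGroup ι (ZMod 2) :=
  (LinearMap.GeneralLinearGroup.generalLinearEquiv (ZMod 2) (ι → ZMod 2)).symm.trans
    Matrix.GeneralLinearGroup.toLin.symm

theorem toGLEquiv_mulVec (ι : Type) [Fintype ι] [DecidableEq ι]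
    (f : (ι → ZMod 2) ≃ₗ[ZMod 2] (ι → ZMod 2)) (u : ι → ZMod 2) :
    ((toGLEquiv ι f : Matrix.GeneralLinearGroup ι (ZMod 2)) : Matrix ι ι (ZMod 2)).mulVec u = f u := by
  have h : f = LinearMap.GeneralLinearGroup.generalLinearEquiv (ZMod 2) (ι → ZMod 2)
      (Matrix.GeneralLinearGroup.toLin (toGLEquiv ι f)) := by
    unfold toGLEquiv
    simp
  conv_rhs => rw [h]
  simp

theorem embed_of_equiv {ι : Type} [Fintype ι] [DecidableEq ι] (m n : ℕ) (q : VP m → ZMod 2)
    (Q : (ι → ZMod 2) → ZMod 2) (g : VP m ≃ₗ[ZMod 2] (ι → ZMod 2)) (hg : ∀ v, q v = Q (g v))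
    (Φ : Equiv.Perm (Fin n) →* (VP m ≃ₗ[ZMod 2] VP m)) (hΦinj : Function.Injective Φ)
    (hΦ : ∀ σ v, q (Φ σ v) = q v) :
    ∃ φ : Equiv.Perm (Fin n) →* ↥(Cfsg.isometryGroup (ZMod 2) Q), Function.Injective φ := by
  let Ψ : Equiv.Perm (Fin n) →* Matrix.GeneralLinearGroup ι (ZMod 2) :=
    (toGLEquiv ι).toMonoidHom.comp ((conjHom g).comp Φ)
  have hΨinj : Function.Injective Ψ :=
    (toGLEquiv ι).injective.comp ((conjHom_injective g).comp hΦinj)
  have hmem : ∀ σ, Ψ σ ∈ Cfsg.isometryGroup (ZMod 2) Q := by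
    intro σ u _
    show Q (((Ψ σ : Matrix.GeneralLinearGroup ι (ZMod 2)) : Matrix ι ι (ZMod 2)).mulVec u) = Q u
    have h1 : ((Ψ σ : Matrix.GeneralLinearGroup ι (ZMod 2)) : Matrix ι ι (ZMod 2)).mulVec u
        = conjHom g (Φ σ) u := toGLEquiv_mulVec ι _ u
    rw [h1, conjHom_apply, ← hg, hΦ, hg, LinearEquiv.apply_symm_apply]
  refine ⟨Ψ.codRestrict _ hmem, ?_⟩
  intro a b hab
  apply hΨinj
  exact congrArg Subtype.val hab

theorem exists_chain_hom (m n : ℕ) (hn : 5 ≤ n + 1) (q : VP m → ZMod 2)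
    (hq : ∀ u v : VP m, q (u + v) = q u + q v + BP m u v) (a : ℕ → VP m)
    (ha : ∀ i, i < n → q (a i) = 1)
    (hB : ∀ i j, i < n → j < n → BP m (a i) (a j) = if i + 1 = j ∨ j + 1 = i then 1 else 0) :
    ∃ Φ : Equiv.Perm (Fin (n + 1)) →* (VP m ≃ₗ[ZMod 2] VP m), Function.Injective Φ ∧
      ∀ σ v, q (Φ σ v) = q v := by
  obtain ⟨cs, hcs⟩ := Cfsg.Agent.S2530.result n
  have hlift : (CoxeterMatrix.A n).IsLiftable (fun i : Fin n => transvEquiv m (a i)) := by
    intro i j
    rw [Cfsg.Agent.S2530.A_apply]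
    by_cases hij : i = j
    · subst hij
      rw [if_pos rfl, pow_one]
      exact refl_mul_self m (a i)
    · rw [if_neg hij]
      have hij' : (i : ℕ) ≠ j := fun h => hij (Fin.ext h)
      by_cases hadj : (j : ℕ) + 1 = i ∨ (i : ℕ) + 1 = j
      · rw [if_pos hadj]
        apply refl_pow_three
        rw [hB i j i.2 j.2, if_pos]
        omega
      · rw [if_neg hadj]
        apply refl_pow_two
        rw [hB i j i.2 j.2, if_neg]
        omega
  let Φ : Equiv.Perm (Fin (n + 1)) →* (VP m ≃ₗ[ZMod 2] VP m) := cs.lift ⟨_, hlift⟩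
  have hΦs : ∀ i : Fin n, Φ (cs.simple i) = transvEquiv m (a i) := fun i =>
    cs.lift_apply_simple hlift i
  have hpres : ∀ σ v, q (Φ σ v) = q v := by
    intro σ
    induction σ using cs.simple_induction with
    | simple i =>
      intro v
      rw [hΦs i]
      exact refl_preserves m q hq (a i) (ha i i.2) v
    | one =>
      intro v
      rw [map_one]
      rfl
    | mul w w' hw hw' =>
      intro v
      rw [map_mul, LinearEquiv.mul_apply, hw, hw']
  refine ⟨Φ, ?_, hpres⟩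
  rw [injective_iff_map_eq_one]
  intro σ hσ
  by_contra hne
  have hker : Nontrivial Φ.ker := by
    refine ⟨⟨⟨σ, hσ⟩, 1, ?_⟩⟩
    intro h
    exact hne (congrArg Subtype.val h)
  have hcard : 5 ≤ Nat.card (Fin (n + 1)) := by rw [Nat.card_fin]; exact hn
  have hle := Equiv.Perm.alternatingGroup_le_of_normal hcard hker
  have h0 : (0 : ℕ) < n := by omega
  have h1 : (1 : ℕ) < n := by omega
  have hmem : cs.simple ⟨0, h0⟩ * cs.simple ⟨1, h1⟩ ∈ alternatingGroup (Fin (n + 1)) := by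
    rw [Equiv.Perm.mem_alternatingGroup, map_mul, hcs, hcs, Equiv.Perm.sign_swap, Equiv.Perm.sign_swap]
    · rfl
    · intro h
      have := congrArg Fin.val h
      simp at this
    · intro h
      have := congrArg Fin.val h
      simp at this
  have h2 := hle hmem
  rw [MonoidHom.mem_ker, map_mul, hΦs, hΦs] at h2
  have h3 : transvEquiv m (a 0) (transvEquiv m (a 1) (a 1)) = a 1 := by
    have := congrArg (fun f : VP m ≃ₗ[ZMod 2] VP m => f (a 1)) h2
    exact this
  rw [transvEquiv_apply m (a 1), BP_alt, zero_smul, add_zero, transvEquiv_apply,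
    BP_symm, hB 0 1 h0 h1, if_pos (Or.inl rfl), one_smul] at h3
  have h4 : a 0 = 0 := by
    have : a 1 + (a 1 + a 0) = a 1 + a 1 := congrArg (fun x => a 1 + x) h3
    rw [← add_assoc, vp_add_self, zero_add] at this
    exact this
  have h5 := ha 0 h0
  rw [h4] at h5
  have h6 : q 0 = 0 := (isQuadPair_of_polar m q hq).map_zero
  rw [h6] at h5
  exact zero_ne_one h5

theorem chain_data (k : ℕ) (hk : 1 ≤ k) :
    ∃ Φ : Equiv.Perm (Fin (4 * k + 4)) →* (VP (2 * k + 1) ≃ₗ[ZMod 2] VP (2 * k + 1)),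
      Function.Injective Φ ∧
      ∀ σ v, qw (2 * k + 1) (wvec (2 * k + 1)) (Φ σ v) = qw (2 * k + 1) (wvec (2 * k + 1)) v := by
  have hm : (2 * k + 1) % 2 = 1 := by omega
  have h1 : ∀ i, i < 4 * k + 3 → qw (2 * k + 1) (wvec (2 * k + 1)) (avec (2 * k + 1) i) = 1 := by
    intro i hi
    have hi' : i ≤ 2 * (2 * k + 1) := by omega
    exact q_avec (2 * k + 1) i hm hi'
  have h2 : ∀ i j, i < 4 * k + 3 → j < 4 * k + 3 →
      BP (2 * k + 1) (avec (2 * k + 1) i) (avec (2 * k + 1) j) =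
        if i + 1 = j ∨ j + 1 = i then 1 else 0 := by
    intro i j hi hj
    have hi' : i ≤ 2 * (2 * k + 1) := by omega
    have hj' : j ≤ 2 * (2 * k + 1) := by omega
    exact BP_avec (2 * k + 1) i j hi' hj'
  have h5 : 5 ≤ 4 * k + 3 + 1 := by omega
  have h := exists_chain_hom (2 * k + 1) (4 * k + 3) h5
    (qw (2 * k + 1) (wvec (2 * k + 1))) (qw_polar _ _) (avec (2 * k + 1)) h1 h2
  exact h

/-- For k ≥ 1 the symmetric group of degree 4k + 4 embeds in a full orthogonal group in dimension 4k + 2 over the field of two elements: in the isometry group of the plus-type form Σ xᵢyᵢ when k is odd, and in that of the minus-type form Σ xᵢyᵢ + (z₁² + z₁z₂ + z₂²) when k is even (through its action on even partitions of a (4k+4)-set, with the form 'half the size of a part, modulo 2'). -/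
theorem result (k : ℕ) (hk : 1 ≤ k) :
    (Odd k → ∃ φ : Equiv.Perm (Fin (4 * k + 4)) →* ↥(Cfsg.isometryGroup (ZMod 2) (Cfsg.quadFormPlus (2 * k + 1) (ZMod 2))), Function.Injective φ) ∧
    (Even k → ∃ φ : Equiv.Perm (Fin (4 * k + 4)) →* ↥(Cfsg.isometryGroup (ZMod 2) (Cfsg.quadFormMinus (2 * k) (ZMod 2) 1 1)), Function.Injective φ) := by
  obtain ⟨Φ, hΦinj, hΦ⟩ := chain_data k hk
  have hw := QP_wvec k
  constructor
  · intro hodd
    have hw0 : QP (2 * k + 1) (wvec (2 * k + 1)) = 0 := by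
      rw [hw]
      obtain ⟨j, rfl⟩ := hodd
      have : ((2 * j + 1 + 1 : ℕ) : ZMod 2) = ((2 * (j + 1) : ℕ) : ZMod 2) := by congr 1
      rw [this]
      push_cast
      have h2 : (2 : ZMod 2) = 0 := by decide
      rw [h2, zero_mul]
    obtain ⟨g, hg⟩ := (plus_type_iff (2 * k + 1) (wvec (2 * k + 1))).mpr hw0
    exact embed_of_equiv (2 * k + 1) (4 * k + 4) _ (QP (2 * k + 1)) g hg Φ hΦinj hΦ
  · intro heven
    have hw1 : QP (2 * k + 1) (wvec (2 * k + 1)) = 1 := by
      rw [hw]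
      obtain ⟨j, rfl⟩ := heven
      have : ((j + j + 1 : ℕ) : ZMod 2) = ((2 * j + 1 : ℕ) : ZMod 2) := by congr 1; ring
      rw [this]
      push_cast
      have h2 : (2 : ZMod 2) = 0 := by decide
      rw [h2, zero_mul, zero_add]
    obtain ⟨g, hg⟩ := (minus_type_iff (2 * k) (wvec (2 * k + 1))).mpr hw1
    exact embed_of_equiv (2 * k + 1) (4 * k + 4) _ (QM (2 * k)) g hg Φ hΦinj hΦ

end Cfsg.Agent.S2563
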