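import Cfsg.Statements.S2565
import Cfsg.Agent.Lib.Lead.O6S8
import Mathlib

set_option autoImplicit false
open Cfsg

namespace Cfsg.Agent.S2565

open Cfsg.Agent.Lib.Lead

/-- The commutator subgroup of the full orthogonal group of the plus-type form Σ xᵢyᵢ in dimension 6 over the field of two elements (the group Ω⁺₆(2), of index 2) is isomorphic to the alternating group of degree 8. -/
theorem result :
    (Cfsg.Omega (ZMod 2) (Cfsg.quadFormPlus 3 (ZMod 2))).index = 2 ∧
    Nonempty (↥(Cfsg.Omega (ZMod 2) (Cfsg.quadFormPlus 3 (ZMod 2))) ≃* alternatingGroup (Fin 8)) := by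
  let e : ↥(Cfsg.isometryGroup (ZMod 2) (Cfsg.quadFormPlus 3 (ZMod 2))) ≃* Equiv.Perm (Fin 8) :=
    O6.s8Equiv.symm
  have hmap : (Cfsg.Omega (ZMod 2) (Cfsg.quadFormPlus 3 (ZMod 2))).map e.toMonoidHom =
      alternatingGroup (Fin 8) := by
    show (commutator _).map e.toMonoidHom = _
    rw [map_commutator_eq, MonoidHom.range_eq_top.mpr (show Function.Surjective e.toMonoidHom from e.surjective), ← _root_.commutator_def,
      alternatingGroup.commutator_perm_eq (by simp)]
  constructor
  · have := Subgroup.index_map_equiv (Cfsg.Omega (ZMod 2) (Cfsg.quadFormPlus 3 (ZMod 2))) e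
    rw [← this]
    show (Subgroup.map e.toMonoidHom _).index = 2
    rw [hmap, alternatingGroup.index_eq_two]
  · exact ⟨(e.subgroupMap _).trans (MulEquiv.subgroupCongr hmap)⟩

end Cfsg.Agent.S2565
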