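import Cfsg.Statements.S2566
import Cfsg.Agent.S0287
import Mathlib

set_option autoImplicit false
open Cfsg

namespace Cfsg.Agent.S2566

open Matrix

abbrev I4 : Type := Fin 2 ⊕ Fin 2

abbrev GO4 : Type := ↥(Cfsg.isometryGroup (ZMod 2) (Cfsg.quadFormPlus 2 (ZMod 2)))

def P2 : Matrix (Fin 2) (Fin 3) (ZMod 2) := !![0,1,1; 1,0,1]
def T2 : Matrix (Fin 3) (Fin 2) (ZMod 2) := !![1,0; 0,1; 1,1]

def ρ (σ : Equiv.Perm (Fin 3)) : Matrix (Fin 2) (Fin 2) (ZMod 2) :=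
  P2 * (σ⁻¹).permMatrix (ZMod 2) * T2

def e4 : Fin 2 × Fin 2 ≃ I4 where
  toFun p := match p with
    | (0, 0) => Sum.inl 0
    | (0, 1) => Sum.inl 1
    | (1, 0) => Sum.inr 1
    | (1, 1) => Sum.inr 0
  invFun s := match s with
    | Sum.inl 0 => (0, 0)
    | Sum.inl 1 => (0, 1)
    | Sum.inr 1 => (1, 0)
    | Sum.inr 0 => (1, 1)
  left_inv := by decide
  right_inv := by decide

def LA (σ : Equiv.Perm (Fin 3)) : Matrix I4 I4 (ZMod 2) :=
  Matrix.reindex e4 e4 (Matrix.kroneckerMap (· * ·) (ρ σ) (1 : Matrix (Fin 2) (Fin 2) (ZMod 2)))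

def GM : Matrix I4 I4 (ZMod 2) :=
  Matrix.of (fun i j => if (i = Sum.inl 1 ∧ j = Sum.inr 1) ∨ (i = Sum.inr 1 ∧ j = Sum.inl 1) ∨
    (i = j ∧ i ≠ Sum.inl 1 ∧ i ≠ Sum.inr 1) then 1 else 0)

theorem LA_one : LA 1 = 1 := by decide
theorem LA_mul : ∀ σ τ : Equiv.Perm (Fin 3), LA (σ * τ) = LA σ * LA τ := by decide
theorem LA_pres : ∀ σ : Equiv.Perm (Fin 3), ∀ x : I4 → ZMod 2,
    Cfsg.quadFormPlus 2 (ZMod 2) (LA σ *ᵥ x) = Cfsg.quadFormPlus 2 (ZMod 2) x := by decide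
theorem GM_sq : GM * GM = 1 := by decide
theorem GM_pres : ∀ x : I4 → ZMod 2,
    Cfsg.quadFormPlus 2 (ZMod 2) (GM *ᵥ x) = Cfsg.quadFormPlus 2 (ZMod 2) x := by decide
theorem LA_comm : ∀ σ τ : Equiv.Perm (Fin 3),
    LA σ * (GM * LA τ * GM) = (GM * LA τ * GM) * LA σ := by decide
theorem LA_meet : ∀ σ τ : Equiv.Perm (Fin 3), LA σ = GM * LA τ * GM → σ = 1 ∧ τ = 1 := by decide
theorem LA_prod_one : ∀ σ τ : Equiv.Perm (Fin 3), LA σ * (GM * LA τ * GM) = 1 → σ = 1 ∧ τ = 1 := by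
  decide
theorem LA_inj : ∀ σ : Equiv.Perm (Fin 3), LA σ = 1 → σ = 1 := by decide

theorem mem_iso (g : GL I4 (ZMod 2)) :
    g ∈ Cfsg.isometryGroup (ZMod 2) (Cfsg.quadFormPlus 2 (ZMod 2)) ↔
      ∀ u, Cfsg.quadFormPlus 2 (ZMod 2) ((g : Matrix I4 I4 (ZMod 2)) *ᵥ u) =
        Cfsg.quadFormPlus 2 (ZMod 2) u :=
  ⟨fun h u => h u u, fun h u _ => h u⟩

def LAg (σ : Equiv.Perm (Fin 3)) : GL I4 (ZMod 2) :=
  ⟨LA σ, LA σ⁻¹, by rw [← LA_mul, mul_inv_cancel, LA_one], by rw [← LA_mul, inv_mul_cancel, LA_one]⟩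

def φA : Equiv.Perm (Fin 3) →* GO4 where
  toFun σ := ⟨LAg σ, (mem_iso _).mpr (LA_pres σ)⟩
  map_one' := Subtype.ext (Units.ext LA_one)
  map_mul' σ τ := Subtype.ext (Units.ext (LA_mul σ τ))

def gG : GO4 := ⟨⟨GM, GM, GM_sq, GM_sq⟩, (mem_iso _).mpr GM_pres⟩

theorem gG_inv : gG⁻¹ = gG := by
  rw [inv_eq_iff_mul_eq_one]
  exact Subtype.ext (Units.ext GM_sq)

def φB : Equiv.Perm (Fin 3) →* GO4 := (MulAut.conj gG).toMonoidHom.comp φA

theorem coe_φA (σ : Equiv.Perm (Fin 3)) :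
    (((φA σ : GO4) : GL I4 (ZMod 2)) : Matrix I4 I4 (ZMod 2)) = LA σ := rfl

theorem coe_φB (τ : Equiv.Perm (Fin 3)) :
    (((φB τ : GO4) : GL I4 (ZMod 2)) : Matrix I4 I4 (ZMod 2)) = GM * LA τ * GM := by
  show (((gG * φA τ * gG⁻¹ : GO4) : GL I4 (ZMod 2)) : Matrix I4 I4 (ZMod 2)) = _
  rw [gG_inv]
  rfl

theorem ext_mat {x y : GO4}
    (h : ((x : GL I4 (ZMod 2)) : Matrix I4 I4 (ZMod 2)) = ((y : GL I4 (ZMod 2)) : Matrix I4 I4 (ZMod 2))) :
    x = y := Subtype.ext (Units.ext h)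

theorem coe_mul' (x y : GO4) :
    (((x * y : GO4) : GL I4 (ZMod 2)) : Matrix I4 I4 (ZMod 2)) =
      ((x : GL I4 (ZMod 2)) : Matrix I4 I4 (ZMod 2)) * ((y : GL I4 (ZMod 2)) : Matrix I4 I4 (ZMod 2)) := rfl

theorem coe_one' : (((1 : GO4) : GL I4 (ZMod 2)) : Matrix I4 I4 (ZMod 2)) = 1 := rfl

theorem φA_inj : Function.Injective φA := by
  rw [injective_iff_map_eq_one]
  intro σ h
  apply LA_inj
  rw [← coe_φA, h, coe_one']

theorem φB_inj : Function.Injective φB := by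
  unfold φB
  exact (MulAut.conj gG).injective.comp φA_inj

theorem comm (σ τ : Equiv.Perm (Fin 3)) : Commute (φA σ) (φB τ) := by
  apply ext_mat
  rw [coe_mul', coe_mul', coe_φA, coe_φB]
  exact LA_comm σ τ

def Φ : Equiv.Perm (Fin 3) × Equiv.Perm (Fin 3) →* GO4 :=
  MonoidHom.noncommCoprod φA φB comm

theorem Φ_inj : Function.Injective Φ := by
  rw [injective_iff_map_eq_one]
  rintro ⟨σ, τ⟩ h
  have h' : φA σ * φB τ = 1 := h
  have h2 := congrArg (fun y : GO4 => ((y : GL I4 (ZMod 2)) : Matrix I4 I4 (ZMod 2))) h'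
  simp only [coe_mul', coe_φA, coe_φB, coe_one'] at h2
  obtain ⟨h3, h4⟩ := LA_prod_one σ τ h2
  rw [h3, h4]
  rfl

theorem card_GO4 : Nat.card GO4 = 72 := by
  have h := Cfsg.Agent.S0287.result (F := ZMod 2) (q := 2) (ZMod.card 2) 2 (by norm_num)
  rw [h]
  norm_num [Finset.prod_range_succ]

/-- The full orthogonal group of the plus-type form x₁y₁ + x₂y₂ in dimension 4 over the field of two elements has order 72 and is isomorphic to the wreath product of the symmetric group of degree 3 by a group of order 2: it has a normal subgroup isomorphic to the direct product of two symmetric groups of degree 3, of index 2, whose two direct factors are interchanged by conjugation by some element. -/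
theorem result :
    Nat.card ↥(Cfsg.isometryGroup (ZMod 2) (Cfsg.quadFormPlus 2 (ZMod 2))) = 72 ∧
    ∃ (A B : Subgroup ↥(Cfsg.isometryGroup (ZMod 2) (Cfsg.quadFormPlus 2 (ZMod 2)))),
      Nonempty (↥A ≃* Equiv.Perm (Fin 3)) ∧ Nonempty (↥B ≃* Equiv.Perm (Fin 3)) ∧ A ⊓ B = ⊥ ∧ (∀ a ∈ A, ∀ b ∈ B, a * b = b * a) ∧
      (A ⊔ B).index = 2 ∧ ∃ g : ↥(Cfsg.isometryGroup (ZMod 2) (Cfsg.quadFormPlus 2 (ZMod 2))), A.map (MulAut.conj g).toMonoidHom = B := by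
  refine ⟨card_GO4, φA.range, φB.range, ⟨(MonoidHom.ofInjective φA_inj).symm⟩,
    ⟨(MonoidHom.ofInjective φB_inj).symm⟩, ?_, ?_, ?_, gG, ?_⟩
  · rw [eq_bot_iff]
    rintro x ⟨⟨σ, rfl⟩, ⟨τ, hτ⟩⟩
    have h2 := congrArg (fun y : GO4 => ((y : GL I4 (ZMod 2)) : Matrix I4 I4 (ZMod 2))) hτ
    simp only [coe_φA, coe_φB] at h2
    obtain ⟨h3, _⟩ := LA_meet σ τ h2.symm
    rw [h3, map_one]
    exact Subgroup.mem_bot.mpr rfl
  · rintro a ⟨σ, rfl⟩ b ⟨τ, rfl⟩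
    exact comm σ τ
  · have hr : φA.range ⊔ φB.range = Φ.range := by
      unfold Φ
      rw [MonoidHom.noncommCoprod_range]
    rw [hr]
    have hc : Nat.card Φ.range = 36 := by
      rw [Nat.card_congr (MonoidHom.ofInjective Φ_inj).symm.toEquiv, Nat.card_prod,
        Nat.card_perm, Nat.card_eq_fintype_card, Fintype.card_fin]
      rfl
    have := Subgroup.card_mul_index Φ.range
    rw [hc, card_GO4] at this
    omega
  · unfold φB
    rw [MonoidHom.range_comp]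

end Cfsg.Agent.S2566
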