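import Cfsg.Statements.S2567

set_option autoImplicit false
open Cfsg

namespace Cfsg.Agent.S2567

theorem unique_lift {G : Type*} [Group G] {r : ℕ} (hr : r.Prime)
    (hco : (Nat.card (Subgroup.center G)).Coprime r) (x : G ⧸ Subgroup.center G) (hx : orderOf x = r) :
    ∃! g : G, (QuotientGroup.mk g : G ⧸ Subgroup.center G) = x ∧ orderOf g = r := by
  have hbij := Nat.Coprime.pow_left_bijective (G := Subgroup.center G) hco
  obtain ⟨g₀, rfl⟩ := QuotientGroup.mk_surjective x
  have hg₀r : g₀ ^ r ∈ Subgroup.center G := by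
    rw [← QuotientGroup.eq_one_iff, QuotientGroup.mk_pow, ← hx]
    exact pow_orderOf_eq_one _
  have hne : (QuotientGroup.mk g₀ : G ⧸ Subgroup.center G) ≠ 1 := by
    intro h
    rw [h, orderOf_one] at hx
    exact hr.one_lt.ne hx
  obtain ⟨w, hw⟩ := hbij.2 (⟨g₀ ^ r, hg₀r⟩⁻¹)
  have hw' : (w : G) ^ r = (g₀ ^ r)⁻¹ := by
    have := congrArg Subtype.val hw
    simpa using this
  have hcomm : Commute g₀ (w : G) := Subgroup.mem_center_iff.mp w.2 g₀
  have hlift : ∀ g : G, (QuotientGroup.mk g : G ⧸ Subgroup.center G) = QuotientGroup.mk g₀ → g ^ r = 1 →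
      orderOf g = r := by
    intro g hg hgr
    have hdvd := orderOf_dvd_of_pow_eq_one hgr
    rcases (Nat.dvd_prime hr).mp hdvd with h1 | h1
    · exfalso
      rw [orderOf_eq_one_iff] at h1
      rw [h1] at hg
      exact hne hg.symm
    · exact h1
  refine ⟨g₀ * w, ⟨?_, ?_⟩, ?_⟩
  · rw [QuotientGroup.mk_mul, (QuotientGroup.eq_one_iff (w : G)).mpr w.2, mul_one]
  · apply hlift
    · rw [QuotientGroup.mk_mul, (QuotientGroup.eq_one_iff (w : G)).mpr w.2, mul_one]
    · rw [hcomm.mul_pow, hw', mul_inv_cancel]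
  · rintro g' ⟨hg'1, hg'2⟩
    have hmem : (g₀ * w)⁻¹ * g' ∈ Subgroup.center G := by
      rw [← QuotientGroup.eq, hg'1, QuotientGroup.mk_mul, (QuotientGroup.eq_one_iff (w : G)).mpr w.2, mul_one]
    set u : Subgroup.center G := ⟨(g₀ * w)⁻¹ * g', hmem⟩ with hu
    have hg' : g' = (g₀ * w) * u := by simp only [hu]; group
    have hcomm2 : Commute (g₀ * w) (u : G) := Subgroup.mem_center_iff.mp u.2 _
    have h1 : (g₀ * (w : G)) ^ r = 1 := by rw [hcomm.mul_pow, hw', mul_inv_cancel]
    have h2 : g' ^ r = 1 := by rw [← hg'2]; exact pow_orderOf_eq_one _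
    rw [hg', hcomm2.mul_pow, h1, one_mul] at h2
    have h3 : u ^ r = (1 : Subgroup.center G) ^ r := by
      apply Subtype.ext
      simpa using h2
    have h4 : u = 1 := hbij.1 h3
    rw [hg', h4]; simp

theorem center_coprime {F : Type*} [Field F] [Fintype F] {q n r : ℕ} (hF : Fintype.card F = q) (hr : r.Prime) (hdiv : ¬ r ∣ q - 1) : (Nat.card (Subgroup.center (GL (Fin n) F))).Coprime r := by
  classical
  rw [Matrix.GeneralLinearGroup.center_eq_range_scalar]
  have h1 : Nat.card (Matrix.GeneralLinearGroup.scalar (Fin n) (R := F)).range ∣ Nat.card Fˣ :=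
    Subgroup.card_range_dvd _
  have h2 : Nat.card Fˣ = q - 1 := by
    rw [Nat.card_eq_fintype_card, Fintype.card_units, hF]
  rw [h2] at h1
  rw [Nat.coprime_comm, hr.coprime_iff_not_dvd]
  exact fun h => hdiv (h.trans h1)

theorem result {F : Type*} [Field F] [Fintype F] {q n r : ℕ} (hF : Fintype.card F = q) (hr : r.Prime) (hdiv : ¬ r ∣ q - 1) (x : GL (Fin n) F ⧸ Subgroup.center (GL (Fin n) F)) (hx : orderOf x = r) : ∃! g : GL (Fin n) F, (QuotientGroup.mk g : GL (Fin n) F ⧸ Subgroup.center (GL (Fin n) F)) = x ∧ orderOf g = r := by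
  exact unique_lift hr (center_coprime hF hr hdiv) x hx

end Cfsg.Agent.S2567
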