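import Cfsg.Statements.S2579

set_option autoImplicit false
open Cfsg

namespace Cfsg.Agent.S2579

open Module

section
variable {F : Type*} [Field F]

theorem exists_adapted_basis {k : ℕ} (N : Matrix (Fin (k + 2)) (Fin (k + 2)) F) (hrank : N.rank = 1) (hsq : N * N = 0) :
    ∃ b : Basis (Fin (k + 2)) F (Fin (k + 2) → F), N.mulVec (b 0) = b 1 ∧ ∀ j, j ≠ 0 → N.mulVec (b j) = 0 := by
  set ν := Matrix.mulVecLin N with hν
  have hνν : ∀ v, ν (ν v) = 0 := by
    intro v
    simp only [hν, Matrix.mulVecLin_apply, Matrix.mulVec_mulVec, hsq, Matrix.zero_mulVec]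
  have hr : finrank F (LinearMap.range ν) = 1 := hrank
  have hk : finrank F (LinearMap.ker ν) = k + 1 := by
    have := LinearMap.finrank_range_add_finrank_ker ν
    rw [hr] at this
    simp only [Module.finrank_fintype_fun_eq_card, Fintype.card_fin] at this
    omega
  have hνne : ∃ b₁, ν b₁ ≠ 0 := by
    by_contra hcon
    push Not at hcon
    have : LinearMap.range ν = ⊥ := by
      rw [LinearMap.range_eq_bot]
      exact LinearMap.ext hcon
    rw [this, finrank_bot] at hr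
    exact zero_ne_one hr
  obtain ⟨b₁, hb₁⟩ := hνne
  set a := ν b₁ with ha
  have haK : a ∈ LinearMap.ker ν := LinearMap.mem_ker.mpr (hνν b₁)
  have hrange : ∀ z, ∃ c : F, ν z = c • a := by
    intro z
    have h1 := (finrank_eq_one_iff_of_nonzero' (⟨a, b₁, rfl⟩ : LinearMap.range ν)
      (by intro h; exact hb₁ (congrArg Subtype.val h))).mp hr ⟨ν z, z, rfl⟩
    obtain ⟨c, hc⟩ := h1
    exact ⟨c, (congrArg Subtype.val hc).symm⟩
  set a' : LinearMap.ker ν := ⟨a, haK⟩ with ha'
  have ha'0 : a' ≠ 0 := by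
    intro h
    exact hb₁ (congrArg Subtype.val h)
  obtain ⟨C, hC⟩ := Submodule.exists_isCompl (F ∙ a')
  have hCfr : finrank F C = k := by
    have := Submodule.finrank_add_eq_of_isCompl hC
    rw [finrank_span_singleton ha'0, hk] at this
    omega
  have hfree : Module.Free F C := Module.Free.of_divisionRing F C
  let c' : Basis (Fin k) F C := (Module.finBasis F C).reindex (finCongr hCfr)
  let bK : Basis (Fin (k + 1)) F (LinearMap.ker ν) := Basis.mkFinCons a' c'
    (by
      intro c x hx hc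
      have h1 : c • a' ∈ F ∙ a' := Submodule.smul_mem _ _ (Submodule.mem_span_singleton_self a')
      have h2 : c • a' ∈ C := by
        have : c • a' = -x := eq_neg_of_add_eq_zero_left hc
        rw [this]
        exact C.neg_mem hx
      have h3 := Submodule.disjoint_def.mp hC.disjoint _ h1 h2
      exact (smul_eq_zero.mp h3).resolve_right ha'0)
    (by
      intro z
      have hz : z ∈ (F ∙ a') ⊔ C := by rw [hC.sup_eq_top]; exact Submodule.mem_top
      obtain ⟨y, hy, x, hx, rfl⟩ := Submodule.mem_sup.mp hz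
      obtain ⟨α, rfl⟩ := Submodule.mem_span_singleton.mp hy
      refine ⟨-α, ?_⟩
      have : α • a' + x + (-α) • a' = x := by
        module
      rw [this]
      exact hx)
  let b : Basis (Fin (k + 2)) F (Fin (k + 2) → F) := Basis.mkFinCons b₁ bK
    (by
      intro c x hx hc
      have h1 := congrArg ν hc
      rw [map_add, map_smul, LinearMap.mem_ker.mp hx, add_zero, map_zero] at h1
      exact (smul_eq_zero.mp h1).resolve_right hb₁)
    (by
      intro z
      obtain ⟨α, hα⟩ := hrange z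
      refine ⟨-α, ?_⟩
      rw [LinearMap.mem_ker, map_add, map_smul, hα, neg_smul, add_neg_cancel])
  refine ⟨b, ?_, ?_⟩
  · show ν (b 0) = b 1
    simp only [b, Basis.coe_mkFinCons]
    have : (1 : Fin (k + 2)) = Fin.succ 0 := rfl
    rw [this, Fin.cons_zero, Fin.cons_succ]
    simp only [bK, Basis.coe_mkFinCons, Fin.cons_zero]
    rfl
  · intro j hj
    obtain ⟨i, rfl⟩ := Fin.exists_succ_eq.mpr hj
    show ν (b i.succ) = 0
    simp only [b, Basis.coe_mkFinCons, Fin.cons_succ]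
    exact LinearMap.mem_ker.mp (bK i).2
end

section
variable {F : Type*} [Field F]

theorem exists_conj_std {k : ℕ} (N : Matrix (Fin (k + 3)) (Fin (k + 3)) F) (hrank : N.rank = 1) (hsq : N * N = 0) :
    ∃ P : Matrix (Fin (k + 3)) (Fin (k + 3)) F, P.det = 1 ∧ N * P = P * Matrix.single 1 0 1 := by
  obtain ⟨b, hb0, hbj⟩ := exists_adapted_basis (k := k + 1) N hrank hsq
  set P₀ : Matrix (Fin (k + 3)) (Fin (k + 3)) F := (Pi.basisFun F (Fin (k + 3))).toMatrix b with hP₀
  have hP₀app : ∀ i j, P₀ i j = b j i := by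
    intro i j
    simp [hP₀, Basis.toMatrix_apply]
  have hinv : Invertible P₀ := (Pi.basisFun F (Fin (k + 3))).invertibleToMatrix b
  have hdet : P₀.det ≠ 0 := (Matrix.isUnit_det_of_invertible P₀).ne_zero
  have hNP : N * P₀ = P₀ * Matrix.single 1 0 1 := by
    ext i j
    have h1 : (N * P₀) i j = (N.mulVec (b j)) i := by
      simp only [Matrix.mul_apply, Matrix.mulVec, dotProduct, hP₀app]
    rw [h1]
    by_cases hj : j = 0
    · subst hj
      rw [hb0, Matrix.mul_single_apply_same, mul_one, hP₀app]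
    · rw [hbj j hj, Matrix.mul_single_apply_of_ne _ _ _ _ _ hj]
      rfl
  set d : Fin (k + 3) → F := fun i => if i = 2 then P₀.det⁻¹ else 1 with hd
  refine ⟨P₀ * Matrix.diagonal d, ?_, ?_⟩
  · rw [Matrix.det_mul, Matrix.det_diagonal, Finset.prod_ite_eq' Finset.univ (2 : Fin (k + 3)) (fun _ => P₀.det⁻¹)]
    simp [hdet]
  · rw [← Matrix.mul_assoc, hNP, Matrix.mul_assoc, Matrix.mul_assoc]
    congr 1
    have h20 : (0 : Fin (k + 3)) ≠ 2 := by
      intro h; have := congrArg Fin.val h; rw [Fin.val_two, Fin.val_zero] at this; omega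
    have h21 : (1 : Fin (k + 3)) ≠ 2 := by
      intro h; have := congrArg Fin.val h; rw [Fin.val_two, Fin.val_one] at this; omega
    ext i j
    rw [Matrix.mul_diagonal, Matrix.diagonal_mul, Matrix.single_apply]
    by_cases hij : 1 = i ∧ 0 = j
    · obtain ⟨rfl, rfl⟩ := hij
      simp [hd, h20, h21]
    · rw [if_neg hij, zero_mul, mul_zero]
end

/-- In SL_n(F) with n ≥ 3, over a finite field F, any two transvections (matrices t with t − 1 of rank one and square zero) are conjugate by an element of SL_n(F). -/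
theorem result {F : Type*} [Field F] [Finite F] {n : ℕ} (hn : 3 ≤ n) (s t : Matrix.SpecialLinearGroup (Fin n) F) (hs : Cfsg.IsTransvection (s : Matrix (Fin n) (Fin n) F)) (ht : Cfsg.IsTransvection (t : Matrix (Fin n) (Fin n) F)) : IsConj s t := by
  obtain ⟨k, rfl⟩ : ∃ k, n = k + 3 := ⟨n - 3, by omega⟩
  have key : ∀ u : Matrix.SpecialLinearGroup (Fin (k + 3)) F, Cfsg.IsTransvection (u : Matrix (Fin (k + 3)) (Fin (k + 3)) F) →
      ∃ P : Matrix.SpecialLinearGroup (Fin (k + 3)) F,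
        (u : Matrix (Fin (k + 3)) (Fin (k + 3)) F) * (P : Matrix (Fin (k + 3)) (Fin (k + 3)) F) =
          (P : Matrix (Fin (k + 3)) (Fin (k + 3)) F) * (1 + Matrix.single 1 0 1) := by
    intro u hu
    obtain ⟨P, hdet, hP⟩ := exists_conj_std ((u : Matrix (Fin (k + 3)) (Fin (k + 3)) F) - 1) hu.1 hu.2
    refine ⟨⟨P, hdet⟩, ?_⟩
    show (u : Matrix (Fin (k + 3)) (Fin (k + 3)) F) * P = P * (1 + Matrix.single 1 0 1)
    rw [Matrix.mul_add, Matrix.mul_one, ← hP, Matrix.sub_mul, Matrix.one_mul]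
    abel
  obtain ⟨Ps, hPs⟩ := key s hs
  obtain ⟨Pt, hPt⟩ := key t ht
  rw [isConj_iff]
  refine ⟨Pt * Ps⁻¹, ?_⟩
  have h1 : (s : Matrix (Fin (k + 3)) (Fin (k + 3)) F) = Ps.1 * (1 + Matrix.single 1 0 1) * (Ps⁻¹).1 := by
    have : (Ps.1 * (Ps⁻¹).1 : Matrix (Fin (k + 3)) (Fin (k + 3)) F) = 1 := by
      have := congrArg Subtype.val (mul_inv_cancel Ps)
      exact this
    rw [← hPs, Matrix.mul_assoc, this, Matrix.mul_one]
  have h2 : (t : Matrix (Fin (k + 3)) (Fin (k + 3)) F) = Pt.1 * (1 + Matrix.single 1 0 1) * (Pt⁻¹).1 := by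
    have : (Pt.1 * (Pt⁻¹).1 : Matrix (Fin (k + 3)) (Fin (k + 3)) F) = 1 := by
      have := congrArg Subtype.val (mul_inv_cancel Pt)
      exact this
    rw [← hPt, Matrix.mul_assoc, this, Matrix.mul_one]
  apply Subtype.ext
  have hinv : ((Ps⁻¹).1 * Ps.1 : Matrix (Fin (k + 3)) (Fin (k + 3)) F) = 1 := by
    have := congrArg Subtype.val (inv_mul_cancel Ps)
    exact this
  show (Pt * Ps⁻¹).1 * s.1 * ((Pt * Ps⁻¹)⁻¹).1 = t.1
  rw [mul_inv_rev, inv_inv]
  show (Pt.1 * (Ps⁻¹).1) * s.1 * (Ps.1 * (Pt⁻¹).1) = t.1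
  rw [h1, h2]
  calc Pt.1 * (Ps⁻¹).1 * (Ps.1 * (1 + Matrix.single 1 0 1) * (Ps⁻¹).1) * (Ps.1 * (Pt⁻¹).1)
      = Pt.1 * ((Ps⁻¹).1 * Ps.1) * (1 + Matrix.single 1 0 1) * ((Ps⁻¹).1 * Ps.1) * (Pt⁻¹).1 := by
        simp only [Matrix.mul_assoc]
    _ = _ := by rw [hinv, Matrix.mul_one, Matrix.mul_one]

end Cfsg.Agent.S2579
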