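import Cfsg.Statements.S2572
import Cfsg.Agent.Lib.Helper16.TransvCent
import Cfsg.Agent.S2579

set_option autoImplicit false
open Cfsg
open Cfsg.Agent.Lib.Helper16

namespace Cfsg.Agent.S2572

open Module

def reidx (k : ℕ) : TI k → Fin (k + 2)
  | Sum.inl (Sum.inl _) => 0
  | Sum.inl (Sum.inr j) => j.succ.succ
  | Sum.inr _ => 1

theorem reidx_bijective (k : ℕ) : Function.Bijective (reidx k) := by
  constructor
  · intro x y hxy
    rcases x with (⟨⟩ | i) | ⟨⟩ <;> rcases y with (⟨⟩ | j) | ⟨⟩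
    · rfl
    · exact absurd hxy (by simp [reidx, Fin.ext_iff])
    · exact absurd hxy (by simp [reidx, Fin.ext_iff])
    · exact absurd hxy (by simp [reidx, Fin.ext_iff])
    · simp only [reidx, Fin.succ_inj] at hxy
      rw [hxy]
    · exact absurd hxy (by simp [reidx, Fin.ext_iff])
    · exact absurd hxy (by simp [reidx, Fin.ext_iff])
    · exact absurd hxy (by simp [reidx, Fin.ext_iff])
    · rfl
  · intro y
    refine Fin.cases ?_ ?_ y
    · exact ⟨Sum.inl (Sum.inl ()), rfl⟩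
    · intro y'
      refine Fin.cases ?_ ?_ y'
      · exact ⟨Sum.inr (), rfl⟩
      · intro j
        exact ⟨Sum.inl (Sum.inr j), rfl⟩

section
variable {F : Type*} [Field F]

theorem exists_transport {k : ℕ} (N : Matrix (Fin (k + 2)) (Fin (k + 2)) F) (hrank : N.rank = 1) (hsq : N * N = 0) :
    ∃ Ψ : Matrix (Fin (k + 2)) (Fin (k + 2)) F ≃ₐ[F] Matrix (TI k) (TI k) F, Ψ N = stdN F k := by
  obtain ⟨b, hb0, hbj⟩ := Cfsg.Agent.S2579.exists_adapted_basis N hrank hsq
  let e : TI k ≃ Fin (k + 2) := Equiv.ofBijective (reidx k) (reidx_bijective k)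
  let b' : Basis (TI k) F (Fin (k + 2) → F) := b.reindex e.symm
  have hb' : ∀ x, b' x = b (reidx k x) := by
    intro x
    simp only [b', Basis.reindex_apply, Equiv.symm_symm]
    rfl
  refine ⟨Matrix.toLinAlgEquiv'.trans (LinearMap.toMatrixAlgEquiv b'), ?_⟩
  ext x y
  rw [AlgEquiv.trans_apply, LinearMap.toMatrixAlgEquiv_apply, Matrix.toLinAlgEquiv'_apply, hb']
  unfold stdN
  rw [Matrix.single_apply]
  by_cases hy : y = Sum.inl (Sum.inl ())
  · subst hy
    have h1 : reidx k (Sum.inl (Sum.inl ())) = 0 := rfl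
    have h2 : b 1 = b' (Sum.inr ()) := by rw [hb']; rfl
    rw [h1, hb0, h2, Basis.repr_self, Finsupp.single_apply]
    simp
  · have h1 : reidx k y ≠ 0 := by
      intro h0
      apply hy
      apply (reidx_bijective k).1
      rw [h0]; rfl
    rw [hbj _ h1, map_zero]
    have : ¬ (Sum.inr () = x ∧ Sum.inl (Sum.inl ()) = y) := fun h => hy h.2.symm
    simp [this]

end

theorem result {F : Type*} [Field F] [Fintype F] {q n : ℕ} (hF : Fintype.card F = q) (hn : 2 ≤ n) (t : GL (Fin n) F) (ht : Cfsg.IsTransvection (t : Matrix (Fin n) (Fin n) F)) : Nat.card ↥(Subgroup.centralizer ({t} : Set (GL (Fin n) F))) = q ^ (2 * n - 3) * (q - 1) * ∏ i : Fin (n - 2), (q ^ (n - 2) - q ^ (i : ℕ)) := by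
  obtain ⟨k, rfl⟩ : ∃ k, n = k + 2 := ⟨n - 2, by omega⟩
  show _ = q ^ (2 * (k + 2) - 3) * (q - 1) * ∏ i : Fin k, (q ^ k - q ^ (i : ℕ))
  obtain ⟨Ψ, hΨ⟩ := exists_transport ((t : Matrix (Fin (k + 2)) (Fin (k + 2)) F) - 1) ht.1 ht.2
  let φ : GL (Fin (k + 2)) F ≃* GL (TI k) F := Units.mapEquiv Ψ.toMulEquiv
  have hφ : ∀ g : GL (Fin (k + 2)) F, ((φ g : GL (TI k) F) : Matrix (TI k) (TI k) F) = Ψ (g : Matrix (Fin (k + 2)) (Fin (k + 2)) F) := fun g => rfl
  have hequiv : Nat.card ↥(Subgroup.centralizer ({t} : Set (GL (Fin (k + 2)) F))) =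
      Nat.card {g : GL (TI k) F // (g : Matrix (TI k) (TI k) F) * stdN F k = stdN F k * (g : Matrix (TI k) (TI k) F)} := by
    apply Nat.card_congr
    apply φ.toEquiv.subtypeEquiv
    intro g
    rw [Subgroup.mem_centralizer_iff]
    simp only [Set.mem_singleton_iff, forall_eq, MulEquiv.toEquiv_eq_coe, MulEquiv.coe_toEquiv]
    rw [hφ, ← hΨ, ← map_mul, ← map_mul, Ψ.injective.eq_iff]
    constructor
    · intro h
      have h' := congrArg Units.val h
      rw [Units.val_mul, Units.val_mul] at h'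
      rw [mul_sub, sub_mul, mul_one, one_mul, h']
    · intro h
      apply Units.ext
      rw [Units.val_mul, Units.val_mul]
      rw [mul_sub, sub_mul, mul_one, one_mul] at h
      have := sub_left_inj.mp h
      exact this.symm
  rw [hequiv, card_comm_stdN, Matrix.card_GL_field, hF]
  have : 2 * (k + 2) - 3 = k + (k + 1) := by omega
  rw [this, pow_add]
  ring

end Cfsg.Agent.S2572
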