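import Cfsg.Statements.S2576

set_option autoImplicit false
open Cfsg

namespace Cfsg.Agent.S2576

theorem padicValNat_two_pow_mul_odd (a n' : ℕ) (h : Odd n') : padicValNat 2 (2 ^ a * n') = a := by
  have hn0 : n' ≠ 0 := by rintro rfl; simp at h
  have h2 : ¬ 2 ∣ n' := by
    rw [Nat.odd_iff] at h
    omega
  rw [padicValNat.mul (by positivity) hn0, padicValNat.prime_pow,
    padicValNat.eq_zero_of_not_dvd h2, add_zero]

theorem det_smul_block {F : Type*} [Field F] {m : ℕ} (μ c : F) :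
    (c • Matrix.blockDiagonal (fun _ : Fin m => !![(0 : F), 1; μ, 0])).det = c ^ (2 * m) * (-μ) ^ m := by
  rw [Matrix.det_smul, Matrix.det_blockDiagonal]
  simp [Matrix.det_fin_two_of]

section
variable {F : Type*} [Field F] [Fintype F]

theorem ringChar_ne_two_of_odd (hq : Odd (Fintype.card F)) : ringChar F ≠ 2 := by
  intro h
  have := FiniteField.even_card_of_char_two h
  rw [Nat.odd_iff] at hq
  omega

theorem neg_one_ne_one_of_odd (hq : Odd (Fintype.card F)) : (-1 : F) ≠ 1 :=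
  Ring.neg_one_ne_one_of_char_ne_two (ringChar_ne_two_of_odd hq)

theorem main (hq : Odd (Fintype.card F)) {m : ℕ} (hm : 1 ≤ m) (μ : F)
    (hμ : orderOf μ = 2 ^ padicValNat 2 (Fintype.card F - 1)) :
    (∃ c : F, c ≠ 0 ∧ c ^ (2 * m) * (-μ) ^ m = 1) ↔
      (Fintype.card F % 4 = 3 ∨ padicValNat 2 (Fintype.card F - 1) < padicValNat 2 (2 * m)) := by
  have hq1 : Fintype.card F - 1 ≠ 0 := by
    have := Fintype.one_lt_card (α := F)
    omega
  obtain ⟨a, m₁, hm₁, rfl⟩ := Nat.exists_eq_two_pow_mul_odd (n := m) (by omega)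
  obtain ⟨b, m', hm', hbm⟩ := Nat.exists_eq_two_pow_mul_odd hq1
  have h2m : 2 * (2 ^ a * m₁) = 2 ^ (a + 1) * m₁ := by ring
  rw [h2m, padicValNat_two_pow_mul_odd (a + 1) m₁ hm₁]
  rw [hbm, padicValNat_two_pow_mul_odd b m' hm'] at hμ ⊢
  have hb1 : 1 ≤ b := by
    rcases Nat.eq_zero_or_pos b with rfl | h
    · exfalso
      rw [pow_zero, one_mul] at hbm
      rw [Nat.odd_iff] at hq hm'
      omega
    · exact h
  obtain ⟨b', rfl⟩ : ∃ b', b = b' + 1 := ⟨b - 1, by omega⟩
  have hhalf : (Fintype.card F - 1) / 2 = 2 ^ b' * m' := by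
    rw [hbm, pow_succ, mul_assoc, mul_comm 2 m', ← mul_assoc, Nat.mul_div_cancel _ (by norm_num)]
  have hμpow : μ ^ (2 ^ (b' + 1)) = 1 := by rw [← hμ]; exact pow_orderOf_eq_one μ
  have hν : μ ^ (2 ^ b') = -1 := by
    have h1 : (μ ^ (2 ^ b')) ^ 2 = 1 := by rw [← pow_mul, ← pow_succ, hμpow]
    have h2 : μ ^ (2 ^ b') ≠ 1 := by
      intro h
      have := orderOf_dvd_of_pow_eq_one h
      rw [hμ] at this
      have := Nat.le_of_dvd (by positivity) this
      rw [pow_succ] at this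
      have : 0 < 2 ^ b' := by positivity
      omega
    rw [pow_two] at h1
    rcases mul_self_eq_one_iff.mp h1 with h | h
    · exact absurd h h2
    · exact h
  have hdet_free : ∀ c : F, c ≠ 0 → (c ^ 2 * (-μ)) ^ ((Fintype.card F - 1) / 2)
      = (-1) ^ (2 ^ b' * m') * (-1) := by
    intro c hc
    have h1 : c ^ (Fintype.card F - 1) = 1 := FiniteField.pow_card_sub_one_eq_one c hc
    rw [mul_pow, ← pow_mul, hhalf]
    have e1 : 2 * (2 ^ b' * m') = Fintype.card F - 1 := by rw [hbm]; ring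
    rw [e1, h1, one_mul, neg_eq_neg_one_mul μ, mul_pow, pow_mul μ, hν, Odd.neg_one_pow hm']
  constructor
  · rintro ⟨c, hc0, hc⟩
    by_contra hcon
    push Not at hcon
    obtain ⟨h43, hab⟩ := hcon
    -- b' ≥ 1
    have hb' : 1 ≤ b' := by
      rcases Nat.eq_zero_or_pos b' with rfl | h
      · exfalso
        rw [zero_add, pow_one] at hbm
        rw [Nat.odd_iff] at hq hm'
        omega
      · exact h
    have hev : Even (2 ^ b' * m') := by
      obtain ⟨b'', rfl⟩ : ∃ b'', b' = b'' + 1 := ⟨b' - 1, by omega⟩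
      rw [pow_succ, mul_assoc]
      exact Even.mul_left (Even.mul_right even_two _) _
    have hw := hdet_free c hc0
    rw [Even.neg_one_pow hev, one_mul] at hw
    have hwm : (c ^ 2 * (-μ)) ^ (2 ^ a * m₁) = 1 := by
      rw [mul_pow, ← pow_mul, h2m]; exact hc
    have h3 : ((c ^ 2 * (-μ)) ^ (2 ^ a * m₁)) ^ (2 ^ (b' - a) * m') = -1 := by
      rw [← pow_mul]
      have : 2 ^ a * m₁ * (2 ^ (b' - a) * m') = (2 ^ b' * m') * m₁ := by
        have : 2 ^ b' = 2 ^ (b' - a) * 2 ^ a := by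
          rw [← pow_add]; congr 1; omega
        rw [this]; ring
      rw [this, pow_mul, ← hhalf, hw, Odd.neg_one_pow hm₁]
    rw [hwm, one_pow] at h3
    exact neg_one_ne_one_of_odd hq h3.symm
  · intro h
    refine ⟨1, one_ne_zero, ?_⟩
    rw [one_pow, one_mul]
    rcases h with h | h
    · have hb0 : b' = 0 := by
        by_contra hb
        obtain ⟨b'', rfl⟩ : ∃ b'', b' = b'' + 1 := ⟨b' - 1, by omega⟩
        have : 4 ∣ Fintype.card F - 1 := ⟨2 ^ b'' * m', by rw [hbm]; ring⟩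
        omega
      subst hb0
      rw [pow_zero, pow_one] at hν
      rw [hν, neg_neg, one_pow]
    · have hev : Even (2 ^ a * m₁) := by
        obtain ⟨a', rfl⟩ : ∃ a', a = a' + 1 := ⟨a - 1, by omega⟩
        rw [pow_succ, mul_assoc]
        exact Even.mul_left (Even.mul_right even_two _) _
      rw [neg_eq_neg_one_mul μ, mul_pow, Even.neg_one_pow hev, one_mul]
      obtain ⟨d, rfl⟩ : ∃ d, a = b' + 1 + d := ⟨a - (b' + 1), by omega⟩
      have : 2 ^ (b' + 1 + d) * m₁ = 2 ^ (b' + 1) * (2 ^ d * m₁) := by ring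
      rw [this, pow_mul, hμpow, one_pow]
end

theorem result {F : Type*} [Field F] [Fintype F] {q : ℕ} (hF : Fintype.card F = q) (hq : Odd q) {m : ℕ} (hm : 1 ≤ m) (μ : F) (hμ : orderOf μ = 2 ^ padicValNat 2 (q - 1)) : (∃ c : F, c ≠ 0 ∧ (c • Matrix.blockDiagonal (fun _ : Fin m => !![(0 : F), 1; μ, 0])).det = 1) ↔ (q % 4 = 3 ∨ padicValNat 2 (q - 1) < padicValNat 2 (2 * m)) := by
  subst hF
  simp only [det_smul_block]
  exact main hq hm μ hμ

end Cfsg.Agent.S2576
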