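import Cfsg.Statements.S2578
import Cfsg.Agent.Lib.Helper16.RegUnip

set_option autoImplicit false
open Cfsg
open Cfsg.Agent.Lib.Helper16

namespace Cfsg.Agent.S2578

open Matrix

theorem result {F : Type*} [Field F] [Fintype F] {q : ℕ} (hF : Fintype.card F = q) {n : ℕ} (hn : 2 ≤ n) : Nat.card {C : ConjClasses (Matrix.SpecialLinearGroup (Fin n) F) // ∃ u : Matrix.SpecialLinearGroup (Fin n) F, ConjClasses.mk u = C ∧ ((u : Matrix (Fin n) (Fin n) F) - 1) ^ n = 0 ∧ ((u : Matrix (Fin n) (Fin n) F) - 1).rank = n - 1} = Nat.gcd n (q - 1) := by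
  obtain ⟨m, rfl⟩ : ∃ m, n = m + 1 := ⟨n - 1, by omega⟩
  show Nat.card {C : ConjClasses (Matrix.SpecialLinearGroup (Fin (m + 1)) F) //
    ∃ u : Matrix.SpecialLinearGroup (Fin (m + 1)) F, ConjClasses.mk u = C ∧
      ((u : Matrix (Fin (m + 1)) (Fin (m + 1)) F) - 1) ^ (m + 1) = 0 ∧
      ((u : Matrix (Fin (m + 1)) (Fin (m + 1)) F) - 1).rank = m} = _
  set H : Subgroup Fˣ := (powMonoidHom (m + 1) : Fˣ →* Fˣ).range with hH
  have hex : ∀ C : {C : ConjClasses (Matrix.SpecialLinearGroup (Fin (m + 1)) F) //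
      ∃ u : Matrix.SpecialLinearGroup (Fin (m + 1)) F, ConjClasses.mk u = C ∧
        ((u : Matrix (Fin (m + 1)) (Fin (m + 1)) F) - 1) ^ (m + 1) = 0 ∧
        ((u : Matrix (Fin (m + 1)) (Fin (m + 1)) F) - 1).rank = m},
      ∃ (u : Matrix.SpecialLinearGroup (Fin (m + 1)) F) (P : Matrix (Fin (m + 1)) (Fin (m + 1)) F),
        ConjClasses.mk u = C.1 ∧ P.det ≠ 0 ∧ (u : Matrix (Fin (m + 1)) (Fin (m + 1)) F) * P = P * stdJ F (m + 1) := by
    rintro ⟨C, u, hu, hnil, hrank⟩
    obtain ⟨P, hP, hrel⟩ := exists_conj_shift _ hnil hrank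
    exact ⟨u, P, hu, hP, conj_rel_of_shift hrel⟩
  choose uC PC hmk hdetP hrel using hex
  let ψ : {C : ConjClasses (Matrix.SpecialLinearGroup (Fin (m + 1)) F) //
      ∃ u : Matrix.SpecialLinearGroup (Fin (m + 1)) F, ConjClasses.mk u = C ∧
        ((u : Matrix (Fin (m + 1)) (Fin (m + 1)) F) - 1) ^ (m + 1) = 0 ∧
        ((u : Matrix (Fin (m + 1)) (Fin (m + 1)) F) - 1).rank = m} → Fˣ ⧸ H :=
    fun C => QuotientGroup.mk (Units.mk0 (PC C).det (hdetP C))
  have hψ : Function.Bijective ψ := by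
    constructor
    · intro C C' hCC'
      have h1 : (Units.mk0 (PC C).det (hdetP C))⁻¹ * Units.mk0 (PC C').det (hdetP C') ∈ H := QuotientGroup.eq.mp hCC'
      obtain ⟨c, hc⟩ := h1
      have hc' : (PC C').det = (PC C).det * (c : F) ^ (m + 1) := by
        have h2 := congrArg Units.val hc
        simp only [powMonoidHom_apply, Units.val_pow_eq_pow_val, Units.val_mul, Units.val_inv_eq_inv_val,
          Units.val_mk0] at h2
        rw [h2]
        field_simp [hdetP C]
      obtain ⟨S, hSdet, hS⟩ := conj_of_ratio (hdetP C) (hrel C) (hrel C') (c : F) c.ne_zero hc'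
      have hconj : IsConj (uC C) (uC C') := by
        apply isConj_iff.mpr
        refine ⟨(⟨S, hSdet⟩ : Matrix.SpecialLinearGroup (Fin (m + 1)) F), ?_⟩
        apply mul_inv_eq_of_eq_mul
        apply Subtype.ext
        exact hS
      apply Subtype.ext
      rw [← hmk C, ← hmk C']
      exact ConjClasses.mk_eq_mk_iff_isConj.mpr hconj
    · intro x
      obtain ⟨a, rfl⟩ := QuotientGroup.mk_surjective x
      set Da : Matrix (Fin (m + 1)) (Fin (m + 1)) F := Matrix.diagonal (fun i => if i = 0 then (a : F) else 1) with hDa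
      set Da' : Matrix (Fin (m + 1)) (Fin (m + 1)) F := Matrix.diagonal (fun i => if i = 0 then ((a⁻¹ : Fˣ) : F) else 1) with hDa'
      have hDD : Da' * Da = 1 := by
        rw [hDa, hDa', Matrix.diagonal_mul_diagonal, ← Matrix.diagonal_one]
        congr 1
        funext i
        by_cases hi : i = 0
        · simp [hi]
        · simp [hi]
      have hdetDa : Da.det = (a : F) := by
        rw [hDa, Matrix.det_diagonal, Finset.prod_ite_eq' Finset.univ (0 : Fin (m + 1)) (fun _ => (a : F))]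
        simp
      have hdetDa' : Da.det ≠ 0 := by rw [hdetDa]; exact a.ne_zero
      set ua : Matrix (Fin (m + 1)) (Fin (m + 1)) F := Da * stdJ F (m + 1) * Da' with hua
      have hua_rel : ua * Da = Da * stdJ F (m + 1) := by
        rw [hua, Matrix.mul_assoc, hDD, mul_one]
      have hua_det : ua.det = 1 := by
        rw [hua, Matrix.det_mul, Matrix.det_mul, det_stdJ (m + 1) (by omega), mul_one, mul_comm, ← Matrix.det_mul, hDD,
          Matrix.det_one]
      have hreg := reg_of_conj hdetDa' hua_rel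
      let C₀ : {C : ConjClasses (Matrix.SpecialLinearGroup (Fin (m + 1)) F) //
          ∃ u : Matrix.SpecialLinearGroup (Fin (m + 1)) F, ConjClasses.mk u = C ∧
            ((u : Matrix (Fin (m + 1)) (Fin (m + 1)) F) - 1) ^ (m + 1) = 0 ∧
            ((u : Matrix (Fin (m + 1)) (Fin (m + 1)) F) - 1).rank = m} :=
        ⟨ConjClasses.mk ⟨ua, hua_det⟩, ⟨⟨ua, hua_det⟩, rfl, hreg.1, hreg.2⟩⟩
      refine ⟨C₀, ?_⟩
      show QuotientGroup.mk (Units.mk0 (PC C₀).det (hdetP C₀)) = QuotientGroup.mk a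
      rw [QuotientGroup.eq]
      have hconj : IsConj (uC C₀) ⟨ua, hua_det⟩ := ConjClasses.mk_eq_mk_iff_isConj.mp (hmk C₀)
      obtain ⟨S, hS⟩ := isConj_iff.mp hconj
      replace hS := eq_mul_of_mul_inv_eq hS
      have hS' : (S : Matrix (Fin (m + 1)) (Fin (m + 1)) F) * (uC C₀ : Matrix (Fin (m + 1)) (Fin (m + 1)) F) =
          ua * (S : Matrix (Fin (m + 1)) (Fin (m + 1)) F) := by
        have := congrArg Subtype.val hS
        exact this
      have hrel2 : ua * ((S : Matrix (Fin (m + 1)) (Fin (m + 1)) F) * PC C₀) =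
          ((S : Matrix (Fin (m + 1)) (Fin (m + 1)) F) * PC C₀) * stdJ F (m + 1) := by
        rw [← Matrix.mul_assoc, ← hS', Matrix.mul_assoc, hrel C₀, Matrix.mul_assoc]
      have hdet2 : ((S : Matrix (Fin (m + 1)) (Fin (m + 1)) F) * PC C₀).det = (PC C₀).det := by
        rw [Matrix.det_mul, S.2, one_mul]
      obtain ⟨c, hc0, hc⟩ := det_ratio (by rw [hdet2]; exact hdetP C₀) hdetDa' hrel2 hua_rel
      rw [hdet2, hdetDa] at hc
      refine ⟨Units.mk0 c hc0, ?_⟩
      apply Units.ext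
      simp only [powMonoidHom_apply, Units.val_pow_eq_pow_val, Units.val_mul, Units.val_inv_eq_inv_val,
        Units.val_mk0]
      rw [hc]
      field_simp [hdetP C₀]
  rw [Nat.card_eq_of_bijective ψ hψ]
  have hidx : Nat.card (Fˣ ⧸ H) = H.index := rfl
  rw [hidx, hH, IsCyclic.index_powMonoidHom_range, Nat.card_units, Nat.card_eq_fintype_card, hF, Nat.gcd_comm]

end Cfsg.Agent.S2578
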