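import Cfsg.Statements.S2580

set_option autoImplicit false
open Cfsg

namespace Cfsg.Agent.S2580

open Polynomial

variable {F : Type*} [Field F]

theorem smul_quot (g : F[X]) (r : F[X]) (y : F[X] ⧸ (F[X] ∙ g)) : r • y = Ideal.Quotient.mk (F[X] ∙ g) r * y := by
  obtain ⟨a, rfl⟩ := Submodule.Quotient.mk_surjective _ y
  rw [← Submodule.Quotient.mk_smul, smul_eq_mul]
  rfl

noncomputable def lam0 (g : F[X]) : F[X] →ₗ[F] F :=
  (Polynomial.lcoeff F (g.natDegree - 1)) ∘ₗ (Polynomial.modByMonicHom (g * C g.leadingCoeff⁻¹))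

theorem lam0_apply (g r : F[X]) : lam0 g r = (r %ₘ (g * C g.leadingCoeff⁻¹)).coeff (g.natDegree - 1) := rfl

theorem lam0_vanish (g : F[X]) (hg : g ≠ 0) (x : F[X]) (hx : x ∈ F[X] ∙ g) : lam0 g x = 0 := by
  obtain ⟨r, rfl⟩ := Submodule.mem_span_singleton.mp hx
  rw [lam0_apply]
  have hmonic : (g * C g.leadingCoeff⁻¹).Monic := Polynomial.monic_mul_leadingCoeff_inv hg
  have hdvd : (g * C g.leadingCoeff⁻¹) ∣ r • g := by
    refine ⟨C g.leadingCoeff * r, ?_⟩
    have : C g.leadingCoeff⁻¹ * C g.leadingCoeff = (1 : F[X]) := by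
      rw [← C_mul, inv_mul_cancel₀ (leadingCoeff_ne_zero.mpr hg), C_1]
    calc r • g = g * (C g.leadingCoeff⁻¹ * C g.leadingCoeff) * r := by rw [this, mul_one, smul_eq_mul, mul_comm]
      _ = _ := by ring
  rw [(Polynomial.modByMonic_eq_zero_iff_dvd hmonic).mpr hdvd, coeff_zero]

noncomputable def lam (g : F[X]) (hg : g ≠ 0) : (F[X] ⧸ (F[X] ∙ g)) →+ F :=
  QuotientAddGroup.lift (F[X] ∙ g).toAddSubgroup (lam0 g).toAddMonoidHom (by
    intro x hx
    exact lam0_vanish g hg x hx)

theorem lam_mk (g : F[X]) (hg : g ≠ 0) (r : F[X]) : lam g hg (Ideal.Quotient.mk (F[X] ∙ g) r) = lam0 g r := rfl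

theorem lam_C_mul (g : F[X]) (hg : g ≠ 0) (c : F) (y : F[X] ⧸ (F[X] ∙ g)) :
    lam g hg (Ideal.Quotient.mk (F[X] ∙ g) (C c) * y) = c * lam g hg y := by
  obtain ⟨r, rfl⟩ := Ideal.Quotient.mk_surjective y
  rw [← map_mul, lam_mk, lam_mk, ← smul_eq_C_mul, map_smul, smul_eq_mul]

theorem mk_eq_mk_mod (g : F[X]) (hg : g ≠ 0) (r₀ : F[X]) :
    Ideal.Quotient.mk (F[X] ∙ g) r₀ = Ideal.Quotient.mk (F[X] ∙ g) (r₀ %ₘ (g * C g.leadingCoeff⁻¹)) := by
  rw [Ideal.Quotient.eq, Ideal.mem_span_singleton]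
  have h := Polynomial.modByMonic_add_div r₀ (g * C g.leadingCoeff⁻¹)
  refine ⟨C g.leadingCoeff⁻¹ * (r₀ /ₘ (g * C g.leadingCoeff⁻¹)), ?_⟩
  rw [← mul_assoc]
  linear_combination h.symm

theorem lam_nondeg (g : F[X]) (hg : g ≠ 0) (a : F[X] ⧸ (F[X] ∙ g)) (ha : ∀ b, lam g hg (a * b) = 0) : a = 0 := by
  obtain ⟨r₀, rfl⟩ := Ideal.Quotient.mk_surjective a
  have hmonic : (g * C g.leadingCoeff⁻¹).Monic := Polynomial.monic_mul_leadingCoeff_inv hg
  have hlc : g.leadingCoeff⁻¹ ≠ 0 := inv_ne_zero (leadingCoeff_ne_zero.mpr hg)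
  have hdeg : (g * C g.leadingCoeff⁻¹).natDegree = g.natDegree := Polynomial.natDegree_mul_C hlc
  rw [mk_eq_mk_mod g hg r₀] at ha ⊢
  set r := r₀ %ₘ (g * C g.leadingCoeff⁻¹) with hr
  by_cases hr0 : r = 0
  · rw [hr0, map_zero]
  exfalso
  have hlt : r.degree < (g * C g.leadingCoeff⁻¹).degree := Polynomial.degree_modByMonic_lt r₀ hmonic
  have hnlt : r.natDegree < g.natDegree := by
    rw [← hdeg]
    exact Polynomial.natDegree_lt_natDegree hr0 hlt
  obtain ⟨j, hj⟩ : ∃ j, g.natDegree - 1 = r.natDegree + j := ⟨g.natDegree - 1 - r.natDegree, by omega⟩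
  have h1 := ha (Ideal.Quotient.mk (F[X] ∙ g) (X ^ j))
  rw [← map_mul, lam_mk, lam0_apply] at h1
  have h2 : (r * X ^ j) %ₘ (g * C g.leadingCoeff⁻¹) = r * X ^ j := by
    rw [Polynomial.modByMonic_eq_self_iff hmonic]
    apply Polynomial.degree_lt_degree
    rw [Polynomial.natDegree_mul_X_pow _ hr0, hdeg]
    omega
  rw [h2, hj, Polynomial.coeff_mul_X_pow] at h1
  exact hr0 (Polynomial.leadingCoeff_eq_zero.mp h1)

open Module in
theorem exists_selfadjoint_form {V : Type*} [AddCommGroup V] [Module F V] [FiniteDimensional F V] (f : V →ₗ[F] V) :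
    ∃ β : LinearMap.BilinForm F V, β.Nondegenerate ∧ ∀ u v, β (f u) v = β u (f v) := by
  have htors : Module.IsTorsion F[X] (Module.AEval' f) := Module.AEval.isTorsion_of_finiteDimensional F V f
  obtain ⟨ι, _, p, hp, e, ⟨Φ⟩⟩ := Module.equiv_directSum_of_isTorsion htors
  classical
  have hne : ∀ i, p i ^ e i ≠ 0 := fun i => pow_ne_zero _ (hp i).ne_zero
  let comp : ∀ i, V → (F[X] ⧸ (F[X] ∙ p i ^ e i)) := fun i u =>
    DirectSum.component F[X] ι (fun i => F[X] ⧸ (F[X] ∙ p i ^ e i)) i (Φ (Module.AEval'.of f u))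
  have comp_add : ∀ i u v, comp i (u + v) = comp i u + comp i v := by
    intro i u v
    simp only [comp, map_add]
  have comp_smul : ∀ i (c : F) u, comp i (c • u) = Ideal.Quotient.mk (F[X] ∙ p i ^ e i) (C c) * comp i u := by
    intro i c u
    simp only [comp]
    rw [map_smul, ← Module.AEval.C_smul, map_smul, map_smul, smul_quot]
  have comp_f : ∀ i u, comp i (f u) = Ideal.Quotient.mk (F[X] ∙ p i ^ e i) X * comp i u := by
    intro i u
    simp only [comp]
    rw [← Module.AEval'.X_smul_of, map_smul, map_smul, smul_quot]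
  have comp_zero : ∀ u, (∀ i, comp i u = 0) → u = 0 := by
    intro u hu
    have h1 : Φ (Module.AEval'.of f u) = 0 := by
      apply DirectSum.ext_component F[X]
      intro i
      rw [map_zero]
      exact hu i
    have h2 := Φ.injective (h1.trans (map_zero Φ).symm)
    exact (Module.AEval'.of f).injective (h2.trans (map_zero _).symm)
  have comp_surj : ∀ i (b : F[X] ⧸ (F[X] ∙ p i ^ e i)), ∃ v, comp i v = b ∧ ∀ j, j ≠ i → comp j v = 0 := by
    intro i b
    refine ⟨(Module.AEval'.of f).symm (Φ.symm (DirectSum.lof F[X] ι (fun i => F[X] ⧸ (F[X] ∙ p i ^ e i)) i b)), ?_, ?_⟩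
    · simp only [comp, LinearEquiv.apply_symm_apply]
      exact DirectSum.component.lof_self (M := fun i => F[X] ⧸ (F[X] ∙ p i ^ e i)) F[X] i b
    · intro j hj
      simp only [comp, LinearEquiv.apply_symm_apply]
      rw [DirectSum.component.of (M := fun i => F[X] ⧸ (F[X] ∙ p i ^ e i)) F[X] j i b, dif_neg hj.symm]
  let β : LinearMap.BilinForm F V := LinearMap.mk₂ F (fun u v => ∑ i, lam (p i ^ e i) (hne i) (comp i u * comp i v))
    (by intro u u' v; simp only [comp_add, add_mul, map_add, Finset.sum_add_distrib])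
    (by intro c u v; simp only [comp_smul, mul_assoc, lam_C_mul, smul_eq_mul, Finset.mul_sum])
    (by intro u v v'; simp only [comp_add, mul_add, map_add, Finset.sum_add_distrib])
    (by
      intro c u v
      simp only [comp_smul, smul_eq_mul, Finset.mul_sum]
      apply Finset.sum_congr rfl
      intro i _
      rw [← lam_C_mul]
      congr 1
      ring)
  have hβ : ∀ u v, β u v = ∑ i, lam (p i ^ e i) (hne i) (comp i u * comp i v) := fun u v => rfl
  have hleft : ∀ u, (∀ v, β u v = 0) → u = 0 := by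
    intro u hu
    apply comp_zero
    intro i
    apply lam_nondeg (p i ^ e i) (hne i)
    intro b
    obtain ⟨v, hv, hv'⟩ := comp_surj i b
    have := hu v
    rw [hβ, Finset.sum_eq_single i] at this
    · rwa [hv] at this
    · intro j _ hj
      rw [hv' j hj, mul_zero, map_zero]
    · intro h; exact absurd (Finset.mem_univ i) h
  have hsymm : ∀ u v, β u v = β v u := by
    intro u v
    rw [hβ, hβ]
    apply Finset.sum_congr rfl
    intro i _
    rw [mul_comm]
  refine ⟨β, ⟨hleft, ?_⟩, ?_⟩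
  · intro v hv
    apply hleft
    intro u
    rw [hsymm]
    exact hv u
  · intro u v
    rw [hβ, hβ]
    apply Finset.sum_congr rfl
    intro i _
    rw [comp_f, comp_f]
    congr 1
    ring

theorem conj_transpose {n : ℕ} (A : Matrix (Fin n) (Fin n) F) : IsConj A A.transpose := by
  obtain ⟨β, hnd, hsa⟩ := exists_selfadjoint_form (Matrix.toLin' A)
  set P := LinearMap.BilinForm.toMatrix' β with hP
  have h1 : β.compLeft (Matrix.toLin' A) = β.compRight (Matrix.toLin' A) := by
    apply LinearMap.ext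
    intro u
    apply LinearMap.ext
    intro v
    exact hsa u v
  have h2 := congrArg LinearMap.BilinForm.toMatrix' h1
  rw [LinearMap.BilinForm.toMatrix'_compLeft, LinearMap.BilinForm.toMatrix'_compRight,
    LinearMap.toMatrix'_toLin'] at h2
  have hdet : P.det ≠ 0 :=
    (Matrix.nondegenerate_iff_det_ne_zero).mp (LinearMap.BilinForm.Nondegenerate.toMatrix' hnd)
  have hunit : IsUnit P := (Matrix.isUnit_iff_isUnit_det P).mpr (IsUnit.mk0 _ hdet)
  refine ⟨hunit.unit, ?_⟩
  show hunit.unit.1 * A = A.transpose * hunit.unit.1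
  rw [IsUnit.unit_spec]
  exact h2.symm

/-- Over a finite field, a square matrix is similar to its transpose: for every n × n matrix A there is an invertible matrix P with P A P⁻¹ = Aᵀ (stated as conjugacy in the monoid of matrices, whose units are the invertible matrices). -/
theorem result {F : Type*} [Field F] [Finite F] {n : ℕ} (A : Matrix (Fin n) (Fin n) F) : IsConj A A.transpose :=
  conj_transpose A

end Cfsg.Agent.S2580
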