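import Cfsg.Statements.S2585
import Cfsg.Agent.S2574
import Cfsg.Agent.Lib.Helper16.Witt

set_option autoImplicit false
open Cfsg

namespace Cfsg.Agent.S2585

open Module

section
variable {F : Type*} [Field F] [Fintype F] [CharP F 2] {m : ℕ}

noncomputable def betaForm (m : ℕ) (F : Type*) [Field F] : LinearMap.BilinForm F (Fin m ⊕ Fin m → F) :=
  Matrix.toLinearMap₂' F (Matrix.fromBlocks (0 : Matrix (Fin m) (Fin m) F) 1 0 0)

noncomputable def Q0 (m : ℕ) (F : Type*) [Field F] : QuadraticForm F (Fin m ⊕ Fin m → F) :=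
  (betaForm m F).toQuadraticMap

omit [Fintype F] [CharP F 2] in
theorem betaForm_apply (u v : Fin m ⊕ Fin m → F) :
    betaForm m F u v = ∑ i, u (Sum.inl i) * v (Sum.inr i) := by
  unfold betaForm
  rw [Matrix.toLinearMap₂'_apply']
  simp [dotProduct, Matrix.mulVec, Matrix.fromBlocks, Fintype.sum_sum_type, Matrix.one_apply]

omit [Fintype F] in
theorem sympForm_apply (u v : Fin m ⊕ Fin m → F) :
    Cfsg.sympForm m F u v = ∑ i, (u (Sum.inl i) * v (Sum.inr i) + u (Sum.inr i) * v (Sum.inl i)) := by
  unfold Cfsg.sympForm Matrix.J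
  simp [dotProduct, Matrix.mulVec, Matrix.fromBlocks, Fintype.sum_sum_type, Matrix.one_apply, Finset.sum_add_distrib,
    CharTwo.neg_eq]

theorem polar_Q0 (u v : Fin m ⊕ Fin m → F) :
    QuadraticMap.polar ⇑(Q0 m F) u v = Cfsg.sympForm m F u v := by
  unfold Q0
  rw [LinearMap.BilinMap.polar_toQuadraticMap, betaForm_apply, betaForm_apply, sympForm_apply, Finset.sum_add_distrib]
  congr 1
  apply Finset.sum_congr rfl
  intro i _
  ring

end

section
variable {F : Type*} [Field F] [Fintype F] [CharP F 2] {m : ℕ}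

omit [Fintype F] [CharP F 2] in
theorem char2_sq_eq_zero {x : F} (h : x ^ 2 = 0) : x = 0 := by
  exact pow_eq_zero_iff (two_ne_zero) |>.mp h

/-- Over a finite field of characteristic two every element of Sp_2m preserves some quadratic form whose polar form is the symplectic form (Sp_2m is the union of the orthogonal groups of the quadratic forms polarising to the symplectic form). -/
theorem result {F : Type*} [Field F] [Fintype F] [CharP F 2] {m : ℕ} (A : Matrix.symplecticGroup (Fin m) F) : ∃ Q : QuadraticForm F (Fin m ⊕ Fin m → F), (∀ u v : Fin m ⊕ Fin m → F, QuadraticMap.polar ⇑Q u v = Cfsg.sympForm m F u v) ∧ ∀ v : Fin m ⊕ Fin m → F, Q ((A : Matrix (Fin m ⊕ Fin m) (Fin m ⊕ Fin m) F).mulVec v) = Q v := by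
  have hA := A.2
  set U := (A : Matrix (Fin m ⊕ Fin m) (Fin m ⊕ Fin m) F) with hU
  have h2 : (2 : F) = 0 := CharTwo.two_eq_zero
  have : ExpChar F 2 := ExpChar.prime Nat.prime_two
  set g := Matrix.mulVecLin U with hg
  have hpres : ∀ u v, Cfsg.sympForm m F (g u) (g v) = Cfsg.sympForm m F u v := fun u v =>
    Cfsg.Agent.S2574.symp_pres U hA u v
  let B : LinearMap.BilinForm F (Fin m ⊕ Fin m → F) := Matrix.toBilin' (Matrix.J (Fin m) F)
  have hB : ∀ u v, B u v = Cfsg.sympForm m F u v := fun u v => Matrix.toBilin'_apply' _ u v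
  have hBnd : B.Nondegenerate := by
    apply Matrix.Nondegenerate.toBilin'
    apply Matrix.nondegenerate_of_det_ne_zero
    exact (Matrix.isUnit_det_J (Fin m) F).ne_zero
  have hBsymm : ∀ u v, B u v = B v u := by
    intro u v
    rw [hB, hB, Cfsg.Agent.S2574.symp_skew, CharTwo.neg_eq]
  set δ : (Fin m ⊕ Fin m → F) → F := fun v => Q0 m F (g v) - Q0 m F v with hδ
  have hδadd : ∀ u v, δ (u + v) = δ u + δ v := by
    intro u v
    simp only [hδ, map_add]
    rw [Cfsg.Agent.Lib.Helper16.quad_add, Cfsg.Agent.Lib.Helper16.quad_add, polar_Q0, polar_Q0, hpres]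
    ring
  have hδsmul : ∀ (c : F) v, δ (c • v) = c ^ 2 * δ v := by
    intro c v
    simp only [hδ, map_smul, QuadraticMap.map_smul, smul_eq_mul]
    ring
  let ℓ : (Fin m ⊕ Fin m → F) →ₗ[F] F :=
    { toFun := fun v => (frobeniusEquiv F 2).symm (δ v)
      map_add' := fun u v => by rw [hδadd, map_add]
      map_smul' := fun c v => by
        rw [hδsmul, map_mul, frobeniusEquiv_symm_pow, RingHom.id_apply, smul_eq_mul] }
  have hℓ : ∀ v, ℓ v ^ 2 = δ v := fun v => frobeniusEquiv_symm_pow_p F 2 (δ v)
  set w := (B.toDual hBnd).symm ℓ with hw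
  have hwv : ∀ v, B w v = ℓ v := fun v => LinearMap.BilinForm.apply_toDual_symm_apply (hB := hBnd) ℓ v
  set h := g - LinearMap.id with hh
  have hrange : LinearMap.range h = B.orthogonal (LinearMap.ker h) := by
    apply Submodule.eq_of_le_of_finrank_eq
    · rintro y ⟨u, rfl⟩
      intro v hv
      have hgv : g v = v := by
        have := LinearMap.mem_ker.mp hv
        rw [hh, LinearMap.sub_apply, LinearMap.id_apply, sub_eq_zero] at this
        exact this
      rw [hh, LinearMap.sub_apply, LinearMap.id_apply, map_sub, hB, hB]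
      nth_rewrite 1 [← hgv]
      rw [hpres, sub_self]
    · have h1 := LinearMap.BilinForm.finrank_orthogonal hBnd (LinearMap.ker h)
      have h3 := LinearMap.finrank_range_add_finrank_ker h
      omega
  have hgw : g w ∈ LinearMap.range h := by
    rw [hrange]
    intro v hv
    have hgv : g v = v := by
      have := LinearMap.mem_ker.mp hv
      rw [hh, LinearMap.sub_apply, LinearMap.id_apply, sub_eq_zero] at this
      exact this
    have h4 : B v (g w) = ℓ v := by
      rw [hB]
      nth_rewrite 1 [← hgv]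
      rw [hpres, ← hB, hBsymm, hwv]
    rw [h4]
    apply char2_sq_eq_zero
    rw [hℓ]
    simp only [hδ, hgv, sub_self]
  obtain ⟨a, ha⟩ := hgw
  have ha' : a = g (a - w) := by
    rw [hh, LinearMap.sub_apply, LinearMap.id_apply] at ha
    rw [map_sub, ← ha]
    abel
  refine ⟨Q0 m F + QuadraticMap.linMulLin (B a) (B a), ?_, ?_⟩
  · intro u v
    rw [← polar_Q0]
    unfold QuadraticMap.polar
    simp only [QuadraticMap.add_apply, QuadraticMap.linMulLin_apply, map_add]
    linear_combination (B a u * B a v) * h2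
  · intro v
    change (Q0 m F + QuadraticMap.linMulLin (B a) (B a)) (g v) = _
    simp only [QuadraticMap.add_apply, QuadraticMap.linMulLin_apply]
    have h5 : B a (g v) = B a v - ℓ v := by
      nth_rewrite 1 [ha']
      rw [hB, hpres, ← hB, map_sub, LinearMap.sub_apply, hwv]
    have h6 : Q0 m F (g v) = Q0 m F v + δ v := by
      simp only [hδ]; ring
    rw [h5, h6, ← hℓ]
    linear_combination (ℓ v ^ 2 - B a v * ℓ v) * h2

end

end Cfsg.Agent.S2585
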