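import Cfsg.Statements.S2586
import Cfsg.Agent.S2580

set_option autoImplicit false
open Cfsg

namespace Cfsg.Agent.S2586

/-- Over a finite field, every element of the symplectic group Sp_2m(F) is conjugate by an invertible matrix to its inverse. -/
theorem result {F : Type*} [Field F] [Finite F] {m : ℕ} (A : Matrix.symplecticGroup (Fin m) F) : IsConj (A : Matrix (Fin m ⊕ Fin m) (Fin m ⊕ Fin m) F) ((A⁻¹ : Matrix.symplecticGroup (Fin m) F) : Matrix (Fin m ⊕ Fin m) (Fin m ⊕ Fin m) F) := by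
  have h1 : IsConj (A : Matrix (Fin m ⊕ Fin m) (Fin m ⊕ Fin m) F) (A : Matrix (Fin m ⊕ Fin m) (Fin m ⊕ Fin m) F).transpose := by
    obtain ⟨β, hnd, hsa⟩ := Cfsg.Agent.S2580.exists_selfadjoint_form (Matrix.toLin' (A : Matrix (Fin m ⊕ Fin m) (Fin m ⊕ Fin m) F))
    set P := LinearMap.BilinForm.toMatrix' β with hP
    have h1 : β.compLeft (Matrix.toLin' (A : Matrix (Fin m ⊕ Fin m) (Fin m ⊕ Fin m) F)) = β.compRight (Matrix.toLin' (A : Matrix (Fin m ⊕ Fin m) (Fin m ⊕ Fin m) F)) := by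
      apply LinearMap.ext
      intro u
      apply LinearMap.ext
      intro v
      exact hsa u v
    have h2 := congrArg LinearMap.BilinForm.toMatrix' h1
    rw [LinearMap.BilinForm.toMatrix'_compLeft, LinearMap.BilinForm.toMatrix'_compRight,
      LinearMap.toMatrix'_toLin'] at h2
    have hdet : P.det ≠ 0 :=
      (Matrix.nondegenerate_iff_det_ne_zero).mp (LinearMap.BilinForm.Nondegenerate.toMatrix' hnd)
    have hunit : IsUnit P := (Matrix.isUnit_iff_isUnit_det P).mpr (IsUnit.mk0 _ hdet)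
    refine ⟨hunit.unit, ?_⟩
    show hunit.unit.1 * _ = _ * hunit.unit.1
    rw [IsUnit.unit_spec]
    exact h2.symm
  have h2 : IsConj (A : Matrix (Fin m ⊕ Fin m) (Fin m ⊕ Fin m) F).transpose ((A⁻¹ : Matrix.symplecticGroup (Fin m) F) : Matrix (Fin m ⊕ Fin m) (Fin m ⊕ Fin m) F) := by
    have hJ : IsUnit (-Matrix.J (Fin m) F) := by
      rw [Matrix.isUnit_iff_isUnit_det, Matrix.det_neg]
      exact IsUnit.mul (IsUnit.pow _ isUnit_one.neg) (Matrix.isUnit_det_J (Fin m) F)
    refine ⟨hJ.unit, ?_⟩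
    show hJ.unit.1 * _ = _ * hJ.unit.1
    rw [IsUnit.unit_spec, SymplecticGroup.coe_inv]
    rw [Matrix.mul_assoc (-Matrix.J (Fin m) F * _), Matrix.mul_neg, Matrix.J_squared]
    simp
  exact h1.trans h2

end Cfsg.Agent.S2586
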