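import Cfsg.Statements.S2595
import Cfsg.Agent.Lib.helper14.OrthInv2

set_option autoImplicit false
open Cfsg

namespace Cfsg.Agent.S2595

open Cfsg.Agent.Lib.Lead Cfsg.Agent.Lib.Lead.OG Cfsg.Agent.Lib.helper14.OrthSp Cfsg.Agent.Lib.helper14.OrthInv Matrix

open Cfsg.Agent.S2593 (tS tS_sq tS_sub_one rank_tS cS cS_transpose cS_add rank_cS
  alt_of_add_transpose tgt mem_tgt card_tgt)

section Reps

variable {F : Type*} [Field F] [CharP F 2] {m : ℕ}

local notation "VV" => (Fin m ⊕ Fin m → F)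
local notation "MM" => Matrix (Fin m ⊕ Fin m) (Fin m ⊕ Fin m) F
local notation "M1" => Matrix (Fin m) (Fin m) F

/-- a symmetric alternating matrix of rank `2k` -/
theorem exists_alt_S (k : ℕ) (hkm : 2 * k ≤ m) :
    ∃ S : M1, Sᵀ = S ∧ S.rank = 2 * k ∧ ∀ y : Fin m → F, y ⬝ᵥ (S *ᵥ y) = 0 := by
  classical
  have e : Fin m ≃ (Fin k ⊕ Fin k) ⊕ Fin (m - 2 * k) :=
    Fintype.equivOfCardEq (by simp only [Fintype.card_sum, Fintype.card_fin]; omega)
  set N0 : Matrix (Fin k ⊕ Fin k) (Fin k ⊕ Fin k) F := Matrix.fromBlocks 0 1 0 0 with hN0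
  set S : M1 := cS e (N0 + N0ᵀ) with hS
  have hSt : Sᵀ = S := by
    rw [hS, cS_transpose, Matrix.transpose_add, Matrix.transpose_transpose, add_comm]
  have hS2 : S = cS e N0 + (cS e N0)ᵀ := by rw [hS, cS_add, cS_transpose]
  refine ⟨S, hSt, ?_, ?_⟩
  · rw [hS, rank_cS]
    have hsq : (N0 + N0ᵀ) * (N0 + N0ᵀ) = 1 := by
      rw [hN0, Matrix.fromBlocks_transpose, Matrix.fromBlocks_add, Matrix.fromBlocks_multiply]
      simp [Matrix.fromBlocks_one]
    have hu : IsUnit (N0 + N0ᵀ) := IsUnit.of_mul_eq_one _ hsq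
    rw [Matrix.rank_of_isUnit _ hu]
    simp only [Fintype.card_sum, Fintype.card_fin]
    omega
  · intro y
    rw [hS2]
    exact alt_of_add_transpose _ _

theorem exists_alt_plus (k : ℕ) (hkm : 2 * k ≤ m) :
    ∃ t : ↥(Cfsg.isometryGroup F (Cfsg.quadFormPlus m F)), mat t * mat t = 1 ∧ rk t = 2 * k ∧
      isAltT (polarP F m) t := by
  obtain ⟨S, hSt, hSr, hSa⟩ := exists_alt_S (F := F) (m := m) k hkm
  refine ⟨ofSq (tS S) (tS_sq S) (fun v => by rw [quadP_tS, hSa, add_zero]), tS_sq S, ?_, ?_⟩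
  · show (tS S - 1).rank = 2 * k
    rw [rank_tS, hSr]
  · rw [isAltT_iff (isQP_plus m)]
    intro v
    exact quadP_tS_sub_one S v

theorem exists_nonalt_plus (r : ℕ) (hr1 : 1 ≤ r) (hrm : r ≤ m) :
    ∃ t : ↥(Cfsg.isometryGroup F (Cfsg.quadFormPlus m F)), mat t * mat t = 1 ∧ rk t = r ∧
      ¬ isAltT (polarP F m) t := by
  refine ⟨ofSq (wD (ind m r F)) (wD_sq _ (ind_sq r)) (quadP_wD _ (ind_sq r)),
    wD_sq _ (ind_sq r), ?_, ?_⟩
  · show (wD (ind m r F) - 1).rank = r
    rw [rank_wD, rank_ind r hrm]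
  · rw [isAltT_iff (isQP_plus m)]
    intro h
    set i0 : Fin m := ⟨0, by omega⟩ with hi0
    have h1 := h (Sum.elim (Pi.single i0 1) 0)
    rw [show mat (ofSq (wD (ind m r F)) (wD_sq _ (ind_sq r)) (quadP_wD _ (ind_sq r))) =
      wD (ind m r F) from rfl, wD_sub_one, Matrix.fromBlocks_mulVec] at h1
    unfold Cfsg.quadFormPlus at h1
    simp only [Sum.elim_inl, Sum.elim_inr, Sum.elim_comp_inl, Sum.elim_comp_inr,
      Matrix.mulVec_zero, add_zero, Matrix.mulVec_diagonal] at h1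
    rw [Finset.sum_eq_single i0] at h1
    · have hd : ind m r F i0 = 1 := by
        unfold ind
        rw [if_pos (by rw [hi0]; exact hr1)]
      rw [hd, Pi.single_eq_same, mul_one, mul_one] at h1
      exact one_ne_zero h1
    · intro i _ hne
      rw [Pi.single_eq_of_ne hne, mul_zero, mul_zero]
    · intro h'
      exact absurd (Finset.mem_univ _) h'

end Reps

/-- Number of conjugacy classes of involutions in the full orthogonal group O⁺_2m(F) of the hyperbolic quadratic form Σ x_i y_i over a finite field of characteristic two (m ≥ 1): one class for each odd s ≤ m and two for each even s with 2 ≤ s ≤ m, where s = rank(t − 1); in all m + ⌊m/2⌋. -/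
theorem result {F : Type*} [Field F] [Fintype F] [CharP F 2] {m : ℕ} (hm : 1 ≤ m) : Nat.card {C : ConjClasses ↥(Cfsg.isometryGroup F (Cfsg.quadFormPlus m F)) // ∃ g : ↥(Cfsg.isometryGroup F (Cfsg.quadFormPlus m F)), ConjClasses.mk g = C ∧ orderOf g = 2} = m + m / 2 := by
  classical
  rw [card_classes (isQP_plus m) (tgt m), card_tgt]
  · intro t ht
    refine ⟨decide (isAltT (polarP F m) t), ?_, by simp⟩
    rw [mem_tgt]
    have h2 := mat_sq t ht
    have hle := two_rk_le t h2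
    simp only [Fintype.card_sum, Fintype.card_fin] at hle
    refine ⟨⟨rk_pos t (ne_one_of_order t ht), by omega⟩, ?_⟩
    intro h
    exact rk_even (isQP_plus m) t (of_decide_eq_true h)
  · rintro ⟨r, b⟩ hp
    rw [mem_tgt] at hp
    obtain ⟨⟨hr1, hrm⟩, hb⟩ := hp
    cases b with
    | false =>
      obtain ⟨t, ht2, htr, hta⟩ := exists_nonalt_plus (F := F) (m := m) r hr1 hrm
      exact ⟨t, ht2, by omega, htr, ⟨fun h => absurd h hta, fun h => absurd h Bool.false_ne_true⟩⟩
    | true =>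
      obtain ⟨k, hk⟩ := hb rfl
      obtain ⟨t, ht2, htr, hta⟩ := exists_alt_plus (F := F) (m := m) k (by omega)
      exact ⟨t, ht2, by omega, by rw [htr]; show 2 * k = r; omega, ⟨fun _ => rfl, fun _ => hta⟩⟩

end Cfsg.Agent.S2595
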