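import Cfsg.Statements.S2596
import Cfsg.Agent.S2595
import Cfsg.Agent.Lib.Lead.WittIndex

set_option autoImplicit false
open Cfsg

namespace Cfsg.Agent.S2596

open Cfsg.Agent.Lib.Lead Cfsg.Agent.Lib.Lead.OG Cfsg.Agent.Lib.Lead.Bin
  Cfsg.Agent.Lib.helper14.OrthSp Cfsg.Agent.Lib.helper14.OrthInv Matrix

section Count

/-- the index set of the classes -/
def tgtM (k : ℕ) : Finset (ℕ × Bool) :=
  (Finset.Icc 1 (k + 1) ×ˢ {false}) ∪ ((Finset.Icc 1 k).filter Even ×ˢ {true})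

theorem mem_tgtM (k : ℕ) (r : ℕ) (b : Bool) :
    (r, b) ∈ tgtM k ↔ (1 ≤ r ∧ r ≤ k + 1) ∧ (b = true → Even r ∧ r ≤ k) := by
  unfold tgtM
  simp only [Finset.mem_union, Finset.mem_product, Finset.mem_Icc, Finset.mem_singleton,
    Finset.mem_filter]
  cases b
  · simp
  · simp only [Bool.true_eq_false, and_false, false_or, and_true, forall_const]
    constructor
    · rintro ⟨⟨h1, h2⟩, h3⟩
      exact ⟨⟨h1, by omega⟩, h3, h2⟩
    · rintro ⟨⟨h1, _⟩, h3, h2⟩
      exact ⟨⟨h1, h2⟩, h3⟩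

theorem card_tgtM (k : ℕ) : (tgtM k).card = k + 1 + k / 2 := by
  unfold tgtM
  have hdisj : Disjoint (Finset.Icc 1 (k + 1) ×ˢ ({false} : Finset Bool))
      ((Finset.Icc 1 k).filter Even ×ˢ ({true} : Finset Bool)) := by
    rw [Finset.disjoint_left]
    rintro ⟨r, b⟩ h1 h2
    simp only [Finset.mem_product, Finset.mem_singleton] at h1 h2
    rw [h1.2] at h2
    exact Bool.false_ne_true h2.2
  rw [Finset.card_union_of_disjoint hdisj, Finset.card_product, Finset.card_product,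
    Finset.card_singleton, Finset.card_singleton, Nat.card_Icc, mul_one, mul_one]
  have h2 : ((Finset.Icc 1 k).filter Even).card = k / 2 := by
    rw [← Nat.Ioc_filter_dvd_card_eq_div k 2]
    congr 1
    ext x
    simp only [Finset.mem_filter, Finset.mem_Icc, Finset.mem_Ioc, even_iff_two_dvd]
    constructor
    · rintro ⟨⟨h1, h2⟩, h3⟩
      exact ⟨⟨by omega, h2⟩, h3⟩
    · rintro ⟨⟨h1, h2⟩, h3⟩
      exact ⟨⟨by omega, h2⟩, h3⟩
  rw [h2]
  omega

end Count

section Reps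

variable {F : Type*} [Field F] [CharP F 2] {k : ℕ} {a b : F}

/-- the binary form as a function of a vector -/
def bqv (a b : F) (w : Fin 2 → F) : F := w 0 ^ 2 + a * w 0 * w 1 + b * w 1 ^ 2

theorem quadM_split (v : MI k → F) :
    Cfsg.quadFormMinus k F a b v =
      Cfsg.quadFormPlus k F (v ∘ Sum.inl) + bqv a b (v ∘ Sum.inr) := rfl

/-- the reflection of the anisotropic plane -/
def rR (a : F) : Matrix (Fin 2) (Fin 2) F := !![1, a; 0, 1]

theorem rR_mulVec (a : F) (w : Fin 2 → F) : rR a *ᵥ w = ![w 0 + a * w 1, w 1] := by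
  unfold rR
  ext i
  fin_cases i <;> simp [Matrix.mulVec, dotProduct, Fin.sum_univ_two]

theorem rR_sq (a : F) : rR a * rR a = 1 := by
  rw [Matrix.ext_iff_mulVec]
  intro w
  rw [← Matrix.mulVec_mulVec, rR_mulVec, rR_mulVec, Matrix.one_mulVec]
  ext i
  fin_cases i
  · simp only [Fin.zero_eta, Matrix.cons_val_zero, Matrix.cons_val_one]
    rw [add_assoc, CharTwo.add_self_eq_zero, add_zero]
  · simp

theorem bqv_rR (a b : F) (w : Fin 2 → F) : bqv a b (rR a *ᵥ w) = bqv a b w := by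
  rw [rR_mulVec]
  unfold bqv
  simp only [Matrix.cons_val_zero, Matrix.cons_val_one]
  linear_combination (a * w 0 * w 1 + a ^ 2 * w 1 ^ 2) * (CharTwo.two_eq_zero : (2 : F) = 0)

theorem rR_sub_one_mulVec (a : F) (w : Fin 2 → F) : (rR a - 1) *ᵥ w = ![a * w 1, 0] := by
  rw [Matrix.sub_mulVec, rR_mulVec, Matrix.one_mulVec]
  ext i
  fin_cases i <;> simp

/-- block diagonal isometries -/
theorem quadM_bd (A : Matrix (Fin k ⊕ Fin k) (Fin k ⊕ Fin k) F) (R : Matrix (Fin 2) (Fin 2) F)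
    (v : MI k → F) :
    Cfsg.quadFormMinus k F a b ((Matrix.fromBlocks A 0 0 R : Matrix (MI k) (MI k) F) *ᵥ v) =
      Cfsg.quadFormPlus k F (A *ᵥ (v ∘ Sum.inl)) + bqv a b (R *ᵥ (v ∘ Sum.inr)) := by
  rw [quadM_split, Matrix.fromBlocks_mulVec]
  simp only [Sum.elim_comp_inl, Sum.elim_comp_inr, Matrix.zero_mulVec, add_zero, zero_add]

theorem bd_sub_one (A : Matrix (Fin k ⊕ Fin k) (Fin k ⊕ Fin k) F) (R : Matrix (Fin 2) (Fin 2) F) :
    (Matrix.fromBlocks A 0 0 R : Matrix (MI k) (MI k) F) - 1 =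
      Matrix.fromBlocks (A - 1) 0 0 (R - 1) := by
  ext i j
  rcases i with i | i <;> rcases j with j | j <;> simp [Matrix.one_apply]

theorem bd_sq (A : Matrix (Fin k ⊕ Fin k) (Fin k ⊕ Fin k) F) (R : Matrix (Fin 2) (Fin 2) F)
    (hA : A * A = 1) (hR : R * R = 1) :
    (Matrix.fromBlocks A 0 0 R : Matrix (MI k) (MI k) F) * Matrix.fromBlocks A 0 0 R = 1 := by
  rw [Matrix.fromBlocks_multiply, hA, hR]
  simp only [Matrix.mul_zero, Matrix.zero_mul, add_zero, zero_add, Matrix.fromBlocks_one]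

/-- the block diagonal isometry -/
def bd (A : Matrix (Fin k ⊕ Fin k) (Fin k ⊕ Fin k) F) (R : Matrix (Fin 2) (Fin 2) F)
    (hA : A * A = 1) (hR : R * R = 1)
    (hAQ : ∀ u, Cfsg.quadFormPlus k F (A *ᵥ u) = Cfsg.quadFormPlus k F u)
    (hRQ : ∀ w, bqv a b (R *ᵥ w) = bqv a b w) :
    ↥(Cfsg.isometryGroup F (Cfsg.quadFormMinus k F a b)) :=
  ofSq (Matrix.fromBlocks A 0 0 R) (bd_sq A R hA hR)
    (fun v => by rw [quadM_bd, hAQ, hRQ]; rfl)

theorem rk_bd (A : Matrix (Fin k ⊕ Fin k) (Fin k ⊕ Fin k) F) (R : Matrix (Fin 2) (Fin 2) F)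
    (hA : A * A = 1) (hR : R * R = 1)
    (hAQ : ∀ u, Cfsg.quadFormPlus k F (A *ᵥ u) = Cfsg.quadFormPlus k F u)
    (hRQ : ∀ w, bqv a b (R *ᵥ w) = bqv a b w) :
    rk (bd (a := a) (b := b) A R hA hR hAQ hRQ) = (A - 1).rank + (R - 1).rank := by
  show ((Matrix.fromBlocks A 0 0 R : Matrix (MI k) (MI k) F) - 1).rank = _
  rw [bd_sub_one, rank_blockDiag]

theorem bd_sub_one_Q (A : Matrix (Fin k ⊕ Fin k) (Fin k ⊕ Fin k) F) (R : Matrix (Fin 2) (Fin 2) F)
    (hA : A * A = 1) (hR : R * R = 1)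
    (hAQ : ∀ u, Cfsg.quadFormPlus k F (A *ᵥ u) = Cfsg.quadFormPlus k F u)
    (hRQ : ∀ w, bqv a b (R *ᵥ w) = bqv a b w) (v : MI k → F) :
    Cfsg.quadFormMinus k F a b ((mat (bd (a := a) (b := b) A R hA hR hAQ hRQ) - 1) *ᵥ v) =
      Cfsg.quadFormPlus k F ((A - 1) *ᵥ (v ∘ Sum.inl)) + bqv a b ((R - 1) *ᵥ (v ∘ Sum.inr)) := by
  show Cfsg.quadFormMinus k F a b
    (((Matrix.fromBlocks A 0 0 R : Matrix (MI k) (MI k) F) - 1) *ᵥ v) = _
  rw [bd_sub_one, quadM_bd]

theorem bqv_zero : bqv a b 0 = 0 := by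
  unfold bqv
  simp

end Reps

section Exist

variable {F : Type*} [Field F] [Fintype F] [CharP F 2] {k : ℕ} {a b : F}

theorem a_ne_zero (hab : Aniso a b) : a ≠ 0 := by
  rintro rfl
  obtain ⟨s, hs⟩ := exists_sqrt_char_two (F := F) CharTwo.two_eq_zero b
  have h := hab s 1 (by
    rw [hs, zero_mul, zero_mul, add_zero, one_pow, mul_one]
    exact CharTwo.add_self_eq_zero b)
  exact one_ne_zero h.2

theorem quadP_zero : Cfsg.quadFormPlus k F 0 = 0 := by
  unfold Cfsg.quadFormPlus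
  simp

/-- lift of a plus-type involution to the minus-type group -/
theorem exists_lift (hab : Aniso a b)
    (t' : ↥(Cfsg.isometryGroup F (Cfsg.quadFormPlus k F))) (h2 : mat t' * mat t' = 1) :
    ∃ t : ↥(Cfsg.isometryGroup F (Cfsg.quadFormMinus k F a b)), mat t * mat t = 1 ∧
      rk t = rk t' ∧ (isAltT (polarM a b k) t ↔ isAltT (polarP F k) t') := by
  have hR : (1 : Matrix (Fin 2) (Fin 2) F) * 1 = 1 := one_mul 1
  have hRQ : ∀ w : Fin 2 → F, bqv a b ((1 : Matrix (Fin 2) (Fin 2) F) *ᵥ w) = bqv a b w :=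
    fun w => by rw [Matrix.one_mulVec]
  refine ⟨bd (a := a) (b := b) (mat t') 1 h2 hR (mat_Q t') hRQ, bd_sq _ _ h2 hR, ?_, ?_⟩
  · rw [rk_bd, sub_self, Matrix.rank_zero, add_zero]
    rfl
  · rw [isAltT_iff (isQP_minus hab), isAltT_iff (isQP_plus k)]
    constructor
    · intro h u
      have := h (Sum.elim u 0)
      rw [bd_sub_one_Q, sub_self, Matrix.zero_mulVec, bqv_zero, add_zero,
        Sum.elim_comp_inl] at this
      exact this
    · intro h v
      rw [bd_sub_one_Q, sub_self, Matrix.zero_mulVec, bqv_zero, add_zero]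
      exact h _

/-- the class of rank `k + 1` -/
theorem exists_top (hab : Aniso a b) :
    ∃ t : ↥(Cfsg.isometryGroup F (Cfsg.quadFormMinus k F a b)), mat t * mat t = 1 ∧
      rk t = k + 1 ∧ ¬ isAltT (polarM a b k) t := by
  have ha := a_ne_zero hab
  set t : ↥(Cfsg.isometryGroup F (Cfsg.quadFormMinus k F a b)) :=
    bd (a := a) (b := b) (wD (ind k k F)) (rR a) (wD_sq _ (ind_sq k)) (rR_sq a)
      (quadP_wD _ (ind_sq k)) (bqv_rR a b) with ht
  have h2 : mat t * mat t = 1 := bd_sq _ _ (wD_sq _ (ind_sq k)) (rR_sq a)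
  have hrk : rk t = k + (rR a - 1).rank := by
    rw [ht, rk_bd, rank_wD, rank_ind k le_rfl]
  have h1 : 1 ≤ (rR a - 1).rank := by
    apply rank_pos_of_ne_zero
    intro h0
    have := congrFun (congrFun h0 0) 1
    simp [rR] at this
    exact ha this
  have hle := two_rk_le t h2
  simp only [Fintype.card_sum, Fintype.card_fin] at hle
  refine ⟨t, h2, by omega, ?_⟩
  rw [isAltT_iff (isQP_minus hab)]
  intro h
  have h3 := h (Sum.elim 0 ![0, 1])
  rw [ht, bd_sub_one_Q, Sum.elim_comp_inl, Sum.elim_comp_inr, Matrix.mulVec_zero, quadP_zero,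
    zero_add, rR_sub_one_mulVec] at h3
  unfold bqv at h3
  simp only [Matrix.cons_val_zero, Matrix.cons_val_one, mul_one, mul_zero,
    ne_eq, OfNat.ofNat_ne_zero, not_false_eq_true, zero_pow, add_zero] at h3
  exact ha ((pow_eq_zero_iff (two_ne_zero)).mp h3)

theorem count_minus (hab : Aniso a b) :
    Nat.card {C : ConjClasses ↥(Cfsg.isometryGroup F (Cfsg.quadFormMinus k F a b)) //
      ∃ g : ↥(Cfsg.isometryGroup F (Cfsg.quadFormMinus k F a b)),
        ConjClasses.mk g = C ∧ orderOf g = 2} = k + 1 + k / 2 := by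
  classical
  rw [card_classes (isQP_minus hab) (tgtM k), card_tgtM]
  · intro t ht
    refine ⟨decide (isAltT (polarM a b k) t), ?_, by simp⟩
    rw [mem_tgtM]
    have h2 := mat_sq t ht
    have hle := two_rk_le t h2
    simp only [Fintype.card_sum, Fintype.card_fin] at hle
    refine ⟨⟨rk_pos t (ne_one_of_order t ht), by omega⟩, ?_⟩
    intro h
    have halt := of_decide_eq_true h
    refine ⟨rk_even (isQP_minus hab) t halt, ?_⟩
    have hts := WI.minus_ts_le hab (LinearMap.range (Matrix.mulVecLin (mat t - 1))) (by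
      rintro u ⟨v, rfl⟩
      rw [Matrix.mulVecLin_apply]
      exact (isAltT_iff (isQP_minus hab) t).mp halt v)
    exact hts
  · rintro ⟨r, c⟩ hp
    rw [mem_tgtM] at hp
    obtain ⟨⟨hr1, hrm⟩, hb⟩ := hp
    cases c with
    | false =>
      by_cases hrk : r ≤ k
      · obtain ⟨t', ht2, htr, hta⟩ :=
          Cfsg.Agent.S2595.exists_nonalt_plus (F := F) (m := k) r hr1 hrk
        obtain ⟨t, h2, hr, ha⟩ := exists_lift (a := a) (b := b) hab t' ht2
        exact ⟨t, h2, by omega, by rw [hr, htr],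
          ⟨fun h => absurd (ha.mp h) hta, fun h => absurd h Bool.false_ne_true⟩⟩
      · obtain ⟨t, h2, hr, ha⟩ := exists_top (k := k) hab
        have hrk' : r = k + 1 := by omega
        exact ⟨t, h2, by omega, by rw [hr, hrk'],
          ⟨fun h => absurd h ha, fun h => absurd h Bool.false_ne_true⟩⟩
    | true =>
      obtain ⟨⟨j, hj⟩, hrk⟩ := hb rfl
      obtain ⟨t', ht2, htr, hta⟩ :=
        Cfsg.Agent.S2595.exists_alt_plus (F := F) (m := k) j (by omega)
      obtain ⟨t, h2, hr, ha⟩ := exists_lift (a := a) (b := b) hab t' ht2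
      exact ⟨t, h2, by omega, by rw [hr, htr]; show 2 * j = r; omega,
        ⟨fun _ => rfl, fun _ => ha.mpr hta⟩⟩

end Exist

/-- Number of conjugacy classes of involutions in the full orthogonal group O⁻_2m(F) of an elliptic quadratic form (Σ_(i<m−1) x_i y_i plus an anisotropic binary form) over a finite field of characteristic two (m ≥ 1): one class for each odd s ≤ m, two for each even s with 2 ≤ s < m and one for s = m when m is even, where s = rank(t − 1); in all m + ⌊(m − 1)/2⌋. -/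
theorem result {F : Type*} [Field F] [Fintype F] [CharP F 2] {m : ℕ} (hm : 1 ≤ m) (a b : F) (hab : ∀ z₁ z₂ : F, z₁ ^ 2 + a * z₁ * z₂ + b * z₂ ^ 2 = 0 → z₁ = 0 ∧ z₂ = 0) : Nat.card {C : ConjClasses ↥(Cfsg.isometryGroup F (Cfsg.quadFormMinus (m - 1) F a b)) // ∃ g : ↥(Cfsg.isometryGroup F (Cfsg.quadFormMinus (m - 1) F a b)), ConjClasses.mk g = C ∧ orderOf g = 2} = m + (m - 1) / 2 := by
  rw [count_minus (k := m - 1) hab]
  omega

end Cfsg.Agent.S2596
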