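import Cfsg.Statements.S2597
import Cfsg.Agent.S2595
import Cfsg.Agent.S2172
import Cfsg.Agent.Lib.helper14.OmegaInv2

set_option autoImplicit false
open Cfsg

namespace Cfsg.Agent.S2597

open Cfsg.Agent.Lib.Lead Cfsg.Agent.Lib.Lead.OG
  Cfsg.Agent.Lib.helper14.OrthSp Cfsg.Agent.Lib.helper14.OrthInv Cfsg.Agent.Lib.helper14.OmegaInv
  Cfsg.Agent.Lib.Helper16 Matrix Module

open Cfsg.Agent.S2593 (tgt mem_tgt)

section Count

/-- the index set of the classes of `O` inside `Ω` -/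
def tgtΩP (m : ℕ) : Finset (ℕ × Bool) :=
  ((Finset.Icc 1 m).filter Even ×ˢ {false}) ∪ ((Finset.Icc 1 m).filter Even ×ˢ {true})

theorem mem_tgtΩP (m : ℕ) (r : ℕ) (b : Bool) :
    (r, b) ∈ tgtΩP m ↔ (r, b) ∈ tgt m ∧ Even r := by
  rw [mem_tgt]
  unfold tgtΩP
  simp only [Finset.mem_union, Finset.mem_product, Finset.mem_Icc, Finset.mem_singleton,
    Finset.mem_filter]
  cases b
  · simp
  · simp only [Bool.true_eq_false, and_false, false_or, and_true, forall_const]
    constructor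
    · rintro ⟨h1, h3⟩
      exact ⟨⟨h1, h3⟩, h3⟩
    · rintro ⟨⟨h1, h3⟩, _⟩
      exact ⟨h1, h3⟩

theorem card_even_Icc (n : ℕ) : ((Finset.Icc 1 n).filter Even).card = n / 2 := by
  rw [← Nat.Ioc_filter_dvd_card_eq_div n 2]
  congr 1
  ext x
  simp only [Finset.mem_filter, Finset.mem_Icc, Finset.mem_Ioc, even_iff_two_dvd]
  constructor
  · rintro ⟨⟨h1, h2⟩, h3⟩
    exact ⟨⟨by omega, h2⟩, h3⟩
  · rintro ⟨⟨h1, h2⟩, h3⟩
    exact ⟨⟨by omega, h2⟩, h3⟩

theorem card_tgtΩP (m : ℕ) : (tgtΩP m).card = m / 2 + m / 2 := by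
  unfold tgtΩP
  have hdisj : Disjoint ((Finset.Icc 1 m).filter Even ×ˢ ({false} : Finset Bool))
      ((Finset.Icc 1 m).filter Even ×ˢ ({true} : Finset Bool)) := by
    rw [Finset.disjoint_left]
    rintro ⟨r, b⟩ h1 h2
    simp only [Finset.mem_product, Finset.mem_singleton] at h1 h2
    rw [h1.2] at h2
    exact Bool.false_ne_true h2.2
  rw [Finset.card_union_of_disjoint hdisj, Finset.card_product, Finset.card_product,
    Finset.card_singleton, Finset.card_singleton, mul_one, card_even_Icc]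

end Count

section Main

variable {F : Type*} [Field F] [Fintype F] [CharP F 2] {m : ℕ}

local notation "ι" => (Fin m ⊕ Fin m)
local notation "VV" => (Fin m ⊕ Fin m → F)
local notation "QQ" => qfPlus m F
set_option quotPrecheck false in
local notation "OO" => ↥(Cfsg.isometryGroup F ⇑(qfPlus m F))

theorem hcard : Fintype.card ι = 2 * m := by
  rw [Fintype.card_sum, Fintype.card_fin]; ring

theorem hdimV : finrank F VV = 2 * m := finrank_pi_eq_two_mul hcard

theorem hQP : IsQP (⇑QQ) (polarP F m) := isQP_plus m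

theorem mem_of_invol (t : OO) (ht : orderOf t = 2) (c : Bool)
    (hc : isAltT (polarP F m) t ↔ c = true) : (rk t, c) ∈ tgt m := by
  rw [mem_tgt]
  have h2 := mat_sq t ht
  have hle := two_rk_le t h2
  rw [hcard] at hle
  refine ⟨⟨rk_pos t (ne_one_of_order t ht), by omega⟩, ?_⟩
  intro h
  exact rk_even hQP t (hc.mpr h)

theorem exists_rep (r : ℕ) (c : Bool) (hp : (r, c) ∈ tgt m) :
    ∃ t : OO, mat t * mat t = 1 ∧ rk t = r ∧ (isAltT (polarP F m) t ↔ c = true) := by
  rw [mem_tgt] at hp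
  obtain ⟨⟨hr1, hrm⟩, hb⟩ := hp
  cases c with
  | false =>
    obtain ⟨t, ht2, htr, hta⟩ := Cfsg.Agent.S2595.exists_nonalt_plus (F := F) (m := m) r hr1 hrm
    exact ⟨t, ht2, htr, ⟨fun h => absurd h hta, fun h => absurd h Bool.false_ne_true⟩⟩
  | true =>
    obtain ⟨j, hj⟩ := hb rfl
    obtain ⟨t, ht2, htr, hta⟩ := Cfsg.Agent.S2595.exists_alt_plus (F := F) (m := m) j (by omega)
    exact ⟨t, ht2, htr.trans (by omega), ⟨fun _ => rfl, fun _ => hta⟩⟩

/-- non-exceptional involutions fix a nonsingular vector -/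
theorem exists_fixed_nonsing (t : OO) (ht2 : mat t * mat t = 1)
    (hne : ¬ (rk t = m ∧ isAltT (polarP F m) t)) :
    ∃ v : VV, QQ v ≠ 0 ∧ mat t *ᵥ v = v := by
  by_contra hcon
  apply hne
  have hall : ∀ v : VV, mat t *ᵥ v = v → QQ v = 0 := by
    intro v hv
    by_contra h
    exact hcon ⟨v, h, hv⟩
  obtain ⟨K, hK⟩ : ∃ K : Submodule F VV, K = LinearMap.ker (Matrix.mulVecLin (mat t - 1)) :=
    ⟨_, rfl⟩
  have hKTS : TS QQ K := by
    intro u hu
    apply hall
    rw [hK, LinearMap.mem_ker, Matrix.mulVecLin_apply, Matrix.sub_mulVec, Matrix.one_mulVec] at hu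
    exact sub_eq_zero.mp hu
  have h1 := hKTS.finrank_le (qfPlus_nondeg m F) hdimV
  have h2 : rk t + finrank F K = Fintype.card ι := by
    have := LinearMap.finrank_range_add_finrank_ker (Matrix.mulVecLin (mat t - 1))
    rw [Module.finrank_pi, ← hK] at this
    exact this
  have h3 := two_rk_le t ht2
  rw [hcard] at h2 h3
  have hle : LinearMap.range (Matrix.mulVecLin (mat t - 1)) ≤ K := by
    rintro _ ⟨x, rfl⟩
    rw [hK, LinearMap.mem_ker, Matrix.mulVecLin_apply, Matrix.mulVecLin_apply,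
      Matrix.mulVec_mulVec, N_sq _ ht2, Matrix.zero_mulVec]
  constructor
  · omega
  · rw [isAltT_iff hQP]
    intro v
    exact hKTS _ (hle ⟨v, rfl⟩)

/-- the centraliser of an exceptional involution lies in `Ω` -/
theorem cent_le_omega (hs : Fintype.card F ≠ 2 ∨ Fintype.card ι ≠ 4) (t₀ : OO) (hr : rk t₀ = m)
    (ha : isAltT (polarP F m) t₀) (c : OO) (hc : c * t₀ = t₀ * c) :
    c ∈ Cfsg.Omega F ⇑QQ := by
  have hE : Cfsg.Agent.S2172.Exc t₀ := by
    refine ⟨hr, fun v => ?_⟩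
    have := (isAltT_iff hQP t₀).mp ha v
    rw [Cfsg.Agent.S2172.N_apply] at this
    exact this
  have hQ := qfPlus_nondeg m F
  set χ := famCharHom QQ hQ hcard (Cfsg.Agent.S2172.img t₀) (Cfsg.Agent.S2172.img_TS t₀ hE)
    (Cfsg.Agent.S2172.img_finrank t₀ hE) with hχ
  have hχr : ∀ (u : VV) (hu : QQ u ≠ 0), χ (CDG.refl QQ u hu) = -1 := by
    intro u hu
    exact famChar_refl QQ hQ hcard (Cfsg.Agent.S2172.img t₀) (Cfsg.Agent.S2172.img_TS t₀ hE)
      (Cfsg.Agent.S2172.img_finrank t₀ hE) _ u hu (CDG.refl_coe QQ u hu)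
  rw [← C2.ker_eq_omega QQ hQ hs χ hχr c]
  show famChar QQ m (Cfsg.Agent.S2172.img t₀) c = 1
  rw [famChar_eq_one_iff]
  have hg : c * t₀ * c⁻¹ = t₀ := by rw [hc]; group
  have := Cfsg.Agent.S2172.img_map t₀ t₀ c hg
  rw [this, inf_idem, Cfsg.Agent.S2172.img_finrank t₀ hE]
  exact ⟨m, rfl⟩

theorem count_omega_plus (hm : 1 ≤ m) (hs : Fintype.card F ≠ 2 ∨ Fintype.card ι ≠ 4) :
    Nat.card {C : ConjClasses ↥(Cfsg.Omega F (Cfsg.quadFormPlus m F)) //
      ∃ g : ↥(Cfsg.Omega F (Cfsg.quadFormPlus m F)),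
        ConjClasses.mk g = C ∧ orderOf g = 2} = 2 * (m / 2) + (if Even m then 1 else 0) := by
  classical
  have hk : KerHyp QQ (qfPlus_nondeg m F) := kerHyp_of_small _ _ hs
  have hmemT : ∀ t : OO, orderOf t = 2 → t ∈ Cfsg.Omega F ⇑QQ →
      ∃ b : Bool, (rk t, b) ∈ tgtΩP m ∧ (isAltT (polarP F m) t ↔ b = true) := by
    intro t ht htΩ
    refine ⟨decide (isAltT (polarP F m) t), ?_,
      ⟨fun h => decide_eq_true h, fun h => of_decide_eq_true h⟩⟩
    rw [mem_tgtΩP]
    exact ⟨mem_of_invol t ht _ ⟨fun h => decide_eq_true h, fun h => of_decide_eq_true h⟩,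
      (mem_omega_iff_even hk t).mp htΩ⟩
  have hexT : ∀ p ∈ tgtΩP m, ∃ t : OO, mat t * mat t = 1 ∧ 1 ≤ rk t ∧
      Even (rk t) ∧ rk t = p.1 ∧ (isAltT (polarP F m) t ↔ p.2 = true) := by
    rintro ⟨r, c⟩ hp
    rw [mem_tgtΩP] at hp
    obtain ⟨t, h2, hr, ha⟩ := exists_rep (F := F) r c hp.1
    have h1 : 1 ≤ r := ((mem_tgt m r c).mp hp.1).1.1
    exact ⟨t, h2, le_of_le_of_eq h1 hr.symm, Eq.mpr (congrArg Even hr) hp.2, hr, ha⟩
  by_cases hev : Even m
  · rw [if_pos hev]
    have hmT : (m, true) ∈ tgt m := by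
      rw [mem_tgt]
      exact ⟨⟨hm, le_rfl⟩, fun _ => hev⟩
    obtain ⟨t₀, ht₀2, ht₀r, ht₀a⟩ := exists_rep (F := F) m true hmT
    have ht₀alt : isAltT (polarP F m) t₀ := ht₀a.mpr rfl
    haveI : Nonempty ι := ⟨Sum.inl ⟨0, hm⟩⟩
    obtain ⟨v0, hv0⟩ := C2.exists_nonsing QQ (qfPlus_nondeg m F)
    have key := card_omega_classes_exc (Q := QQ) (B := polarP F m) hQP hk (tgtΩP m) t₀ ht₀2
      (by rw [ht₀r]; exact hm)
      ((mem_omega_iff_even hk t₀).mpr (by rw [ht₀r]; exact hev)) true ht₀a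
      (by rw [ht₀r, mem_tgtΩP]; exact ⟨hmT, hev⟩)
      (fun c hc => cent_le_omega hs t₀ ht₀r ht₀alt c hc)
      (CDG.refl QQ v0 hv0) (refl_not_mem hk v0 hv0)
      (by
        intro t ht _ hne
        apply exists_fixed_nonsing t (mat_sq t ht)
        rintro ⟨h1, h2⟩
        apply hne
        exact ⟨h1.trans ht₀r.symm, ⟨fun _ => ht₀alt, fun _ => h2⟩⟩)
      hmemT hexT
    refine key.trans ?_
    rw [card_tgtΩP]
    ring
  · rw [if_neg hev, add_zero]
    have key := card_omega_classes (Q := QQ) (B := polarP F m) hQP hk (tgtΩP m)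
      (by
        intro t ht htΩ
        apply exists_fixed_nonsing t (mat_sq t ht)
        rintro ⟨h1, _⟩
        apply hev
        rw [← h1]
        exact (mem_omega_iff_even hk t).mp htΩ)
      hmemT hexT
    refine key.trans ?_
    rw [card_tgtΩP]
    ring

end Main

/-- Number of conjugacy classes of involutions in Ω⁺_2m(F) (the commutator subgroup of the orthogonal group of Σ x_i y_i) over a finite field F of characteristic two, m ≥ 1, excluding the case m = 2 over the field of two elements: the involutions of Ω are those with s = rank(t − 1) even, giving two O-classes for each even s with 2 ≤ s ≤ m, each of which is a single Ω-class except that for m even the class with s = m and v ↦ f(v, tv) identically zero splits in two; in all 2⌊m/2⌋ + 1 classes if m is even and 2⌊m/2⌋ if m is odd. -/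
theorem result {F : Type*} [Field F] [Fintype F] [CharP F 2] {m : ℕ} (hm : 1 ≤ m) (h : Fintype.card F ≠ 2 ∨ m ≠ 2) : Nat.card {C : ConjClasses ↥(Cfsg.Omega F (Cfsg.quadFormPlus m F)) // ∃ g : ↥(Cfsg.Omega F (Cfsg.quadFormPlus m F)), ConjClasses.mk g = C ∧ orderOf g = 2} = 2 * (m / 2) + (if Even m then 1 else 0) := by
  apply count_omega_plus hm
  rcases h with h | h
  · exact Or.inl h
  · right
    rw [hcard]
    omega

end Cfsg.Agent.S2597
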