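import Cfsg.Statements.S2598
import Cfsg.Agent.S2596
import Cfsg.Agent.Lib.helper14.OmegaInv
import Cfsg.Agent.Lib.helper14.OmegaGen
import Cfsg.Agent.Lib.Helper16.OHelp

set_option autoImplicit false
open Cfsg

namespace Cfsg.Agent.S2598

open Cfsg.Agent.Lib.Lead Cfsg.Agent.Lib.Lead.OG Cfsg.Agent.Lib.Lead.Bin
  Cfsg.Agent.Lib.helper14.OrthSp Cfsg.Agent.Lib.helper14.OrthInv Cfsg.Agent.Lib.helper14.OmegaInv
  Cfsg.Agent.Lib.Helper16 Matrix Module

open Cfsg.Agent.S2596 (tgtM mem_tgtM exists_lift exists_top)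

section Count

/-- the index set of the classes -/
def tgtΩ (k : ℕ) : Finset (ℕ × Bool) :=
  ((Finset.Icc 1 (k + 1)).filter Even ×ˢ {false}) ∪ ((Finset.Icc 1 k).filter Even ×ˢ {true})

theorem mem_tgtΩ (k : ℕ) (r : ℕ) (b : Bool) :
    (r, b) ∈ tgtΩ k ↔ (r, b) ∈ tgtM k ∧ Even r := by
  rw [mem_tgtM]
  unfold tgtΩ
  simp only [Finset.mem_union, Finset.mem_product, Finset.mem_Icc, Finset.mem_singleton,
    Finset.mem_filter]
  cases b
  · simp
  · simp only [Bool.true_eq_false, and_false, false_or, and_true, forall_const]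
    constructor
    · rintro ⟨⟨h1, h2⟩, h3⟩
      exact ⟨⟨⟨h1, by omega⟩, h3, h2⟩, h3⟩
    · rintro ⟨⟨⟨h1, _⟩, h3, h2⟩, _⟩
      exact ⟨⟨h1, h2⟩, h3⟩

theorem card_even_Icc (n : ℕ) : ((Finset.Icc 1 n).filter Even).card = n / 2 := by
  rw [← Nat.Ioc_filter_dvd_card_eq_div n 2]
  congr 1
  ext x
  simp only [Finset.mem_filter, Finset.mem_Icc, Finset.mem_Ioc, even_iff_two_dvd]
  constructor
  · rintro ⟨⟨h1, h2⟩, h3⟩
    exact ⟨⟨by omega, h2⟩, h3⟩
  · rintro ⟨⟨h1, h2⟩, h3⟩
    exact ⟨⟨by omega, h2⟩, h3⟩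

theorem card_tgtΩ (k : ℕ) : (tgtΩ k).card = (k + 1) / 2 + k / 2 := by
  unfold tgtΩ
  have hdisj : Disjoint ((Finset.Icc 1 (k + 1)).filter Even ×ˢ ({false} : Finset Bool))
      ((Finset.Icc 1 k).filter Even ×ˢ ({true} : Finset Bool)) := by
    rw [Finset.disjoint_left]
    rintro ⟨r, b⟩ h1 h2
    simp only [Finset.mem_product, Finset.mem_singleton] at h1 h2
    rw [h1.2] at h2
    exact Bool.false_ne_true h2.2
  rw [Finset.card_union_of_disjoint hdisj, Finset.card_product, Finset.card_product,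
    Finset.card_singleton, Finset.card_singleton, mul_one, mul_one, card_even_Icc, card_even_Icc]

end Count

section Main

variable {F : Type*} [Field F] [Fintype F] [CharP F 2] {k : ℕ} {a b : F}

theorem hcard : Fintype.card (MI k) = 2 * (k + 1) := by
  simp only [Fintype.card_sum, Fintype.card_fin]
  ring

/-- every involution of the minus-type group fixes a nonsingular vector -/
theorem exists_fixed_nonsing (hab : Aniso a b)
    (t : ↥(Cfsg.isometryGroup F (Cfsg.quadFormMinus k F a b))) (ht2 : mat t * mat t = 1) :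
    ∃ v : MI k → F, Cfsg.quadFormMinus k F a b v ≠ 0 ∧ mat t *ᵥ v = v := by
  by_contra hcon
  have hall : ∀ v : MI k → F, mat t *ᵥ v = v → Cfsg.quadFormMinus k F a b v = 0 := by
    intro v hv
    by_contra h
    exact hcon ⟨v, h, hv⟩
  obtain ⟨K, hK⟩ : ∃ K : Submodule F (MI k → F),
      K = LinearMap.ker (Matrix.mulVecLin (mat t - 1)) := ⟨_, rfl⟩
  have hKTS : ∀ u ∈ K, Cfsg.quadFormMinus k F a b u = 0 := by
    intro u hu
    apply hall
    rw [hK, LinearMap.mem_ker, Matrix.mulVecLin_apply, Matrix.sub_mulVec, Matrix.one_mulVec] at hu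
    exact sub_eq_zero.mp hu
  have h1 := WI.minus_ts_le hab K hKTS
  have h2 : rk t + finrank F K = Fintype.card (MI k) := by
    have := LinearMap.finrank_range_add_finrank_ker (Matrix.mulVecLin (mat t - 1))
    rw [Module.finrank_pi, ← hK] at this
    exact this
  have h3 := two_rk_le t ht2
  rw [hcard] at h2 h3
  omega

theorem mem_of_invol (hab : Aniso a b)
    (t : ↥(Cfsg.isometryGroup F (Cfsg.quadFormMinus k F a b))) (ht : orderOf t = 2) (c : Bool)
    (hc : isAltT (polarM a b k) t ↔ c = true) : (rk t, c) ∈ tgtM k := by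
  rw [mem_tgtM]
  have h2 := mat_sq t ht
  have hle := two_rk_le t h2
  rw [hcard] at hle
  refine ⟨⟨rk_pos t (ne_one_of_order t ht), by omega⟩, ?_⟩
  intro h
  have halt := hc.mpr h
  refine ⟨rk_even (isQP_minus hab) t halt, ?_⟩
  have hts := WI.minus_ts_le hab (LinearMap.range (Matrix.mulVecLin (mat t - 1))) (by
    rintro u ⟨v, rfl⟩
    rw [Matrix.mulVecLin_apply]
    exact (isAltT_iff (isQP_minus hab) t).mp halt v)
  exact hts

theorem exists_rep (hab : Aniso a b) (r : ℕ) (c : Bool) (hp : (r, c) ∈ tgtM k) :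
    ∃ t : ↥(Cfsg.isometryGroup F (Cfsg.quadFormMinus k F a b)), mat t * mat t = 1 ∧
      rk t = r ∧ (isAltT (polarM a b k) t ↔ c = true) := by
  rw [mem_tgtM] at hp
  obtain ⟨⟨hr1, hrm⟩, hb⟩ := hp
  cases c with
  | false =>
    by_cases hrk : r ≤ k
    · obtain ⟨t', ht2, htr, hta⟩ :=
        Cfsg.Agent.S2595.exists_nonalt_plus (F := F) (m := k) r hr1 hrk
      obtain ⟨t, h2, hr, ha⟩ := exists_lift (a := a) (b := b) hab t' ht2
      exact ⟨t, h2, by rw [hr, htr],
        ⟨fun h => absurd (ha.mp h) hta, fun h => absurd h Bool.false_ne_true⟩⟩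
    · obtain ⟨t, h2, hr, ha⟩ := exists_top (k := k) hab
      have hrk' : r = k + 1 := by omega
      exact ⟨t, h2, by rw [hr, hrk'],
        ⟨fun h => absurd h ha, fun h => absurd h Bool.false_ne_true⟩⟩
  | true =>
    obtain ⟨⟨j, hj⟩, hrk⟩ := hb rfl
    obtain ⟨t', ht2, htr, hta⟩ :=
      Cfsg.Agent.S2595.exists_alt_plus (F := F) (m := k) j (by omega)
    obtain ⟨t, h2, hr, ha⟩ := exists_lift (a := a) (b := b) hab t' ht2
    exact ⟨t, h2, by rw [hr, htr]; show 2 * j = r; omega, ⟨fun _ => rfl, fun _ => ha.mpr hta⟩⟩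

theorem count_omega_minus (hab : Aniso a b)
    (hk : KerHyp (qfMinus k F a b) (OSemi.qfMinus_nondeg k a b hab)) :
    Nat.card {C : ConjClasses ↥(Cfsg.Omega F (Cfsg.quadFormMinus k F a b)) //
      ∃ g : ↥(Cfsg.Omega F (Cfsg.quadFormMinus k F a b)),
        ConjClasses.mk g = C ∧ orderOf g = 2} = (k + 1) / 2 + k / 2 := by
  classical
  rw [← card_tgtΩ]
  apply card_omega_classes (Q := qfMinus k F a b) (isQP_minus hab) hk (tgtΩ k)
  · intro t ht _
    exact exists_fixed_nonsing hab t (mat_sq t ht)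
  · intro t ht htΩ
    refine ⟨decide (isAltT (polarM a b k) t), ?_,
      ⟨fun h => decide_eq_true h, fun h => of_decide_eq_true h⟩⟩
    rw [mem_tgtΩ]
    exact ⟨mem_of_invol hab t ht _ ⟨fun h => decide_eq_true h, fun h => of_decide_eq_true h⟩,
      (mem_omega_iff_even hk t).mp htΩ⟩
  · rintro ⟨r, c⟩ hp
    rw [mem_tgtΩ] at hp
    obtain ⟨t, h2, hr, ha⟩ := exists_rep hab r c hp.1
    have h1 : 1 ≤ r := ((mem_tgtM k r c).mp hp.1).1.1
    exact ⟨t, h2, le_of_le_of_eq h1 hr.symm, Eq.mpr (congrArg Even hr) hp.2, hr, ha⟩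

/-- intermediate vectors for the minus-type form in dimension four over the field of two
elements -/
theorem mid_minus_F2 (hF : Fintype.card F = 2) (hk1 : k ≤ 1) (hab : Aniso a b)
    (u u' : MI k → F) (hu : qfMinus k F a b u ≠ 0) (hQuu : qfMinus k F a b u' = qfMinus k F a b u)
    (hpol : QuadraticMap.polar (⇑(qfMinus k F a b)) u' u = 0) (hne : u' ≠ u) :
    ∃ w : MI k → F, qfMinus k F a b w = qfMinus k F a b u ∧
      QuadraticMap.polar (⇑(qfMinus k F a b)) w u ≠ 0 ∧
      QuadraticMap.polar (⇑(qfMinus k F a b)) u' w ≠ 0 := by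
  classical
  obtain ⟨Q, hQdef⟩ : ∃ Q : QuadraticForm F (MI k → F), Q = qfMinus k F a b := ⟨_, rfl⟩
  rw [← hQdef] at hu hQuu hpol ⊢
  have hQ : (QuadraticMap.polarBilin Q).Nondegenerate := by
    rw [hQdef]; exact OSemi.qfMinus_nondeg k a b hab
  have hF01 : ∀ x : F, x = 0 ∨ x = 1 := by
    intro x
    have huniv : ({0, 1} : Finset F) = Finset.univ := by
      apply Finset.eq_univ_of_card
      rw [Finset.card_pair zero_ne_one, hF]
    have hx : x ∈ ({0, 1} : Finset F) := by rw [huniv]; exact Finset.mem_univ x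
    simpa using hx
  have h2 : u' ∉ Submodule.span F {u} := C2.not_mem_span_of_Q_eq Q u u' hu hQuu hne
  have h1 : u ∉ Submodule.span F {u'} :=
    C2.not_mem_span_of_Q_eq Q u' u (by rw [hQuu]; exact hu) hQuu.symm (fun h => hne h.symm)
  obtain ⟨w0, hw0u, hw0u'⟩ := C2.exists_pairing Q hQ u u' h1 h2 1 1
  by_cases hQw : Q w0 = Q u
  · refine ⟨w0, hQw, by rw [hw0u]; exact one_ne_zero, ?_⟩
    rw [QuadraticMap.polar_comm, hw0u']
    exact one_ne_zero
  · exfalso
    have hQu1 : Q u = 1 := (hF01 (Q u)).resolve_left hu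
    have hQw0 : Q w0 = 0 := by
      rcases hF01 (Q w0) with h | h
      · exact h
      · exact absurd (h.trans hQu1.symm) hQw
    have hx : Q (u + u') = 0 := by
      rw [C2.Q_add, hQuu, hQu1, QuadraticMap.polar_comm, hpol, add_zero]
      exact CharTwo.add_self_eq_zero 1
    have hxw : QuadraticMap.polar (⇑Q) (u + u') w0 = 0 := by
      rw [QuadraticMap.polar_add_left, QuadraticMap.polar_comm (⇑Q) u w0,
        QuadraticMap.polar_comm (⇑Q) u' w0, hw0u, hw0u']
      exact CharTwo.add_self_eq_zero 1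
    have hx0 : u + u' ≠ 0 := by
      intro h
      apply hne
      have : u' = -u := (neg_eq_of_add_eq_zero_right h).symm
      rw [this]
      ext i
      rw [Pi.neg_apply, CharTwo.neg_eq]
    have hw0x : w0 ∉ Submodule.span F {u + u'} := by
      intro h
      obtain ⟨c, hc⟩ := Submodule.mem_span_singleton.mp h
      have : QuadraticMap.polar (⇑Q) w0 u = 0 := by
        rw [← hc, QuadraticMap.polar_smul_left, QuadraticMap.polar_add_left, C2.polar_self2, hpol,
          add_zero, smul_zero]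
      rw [hw0u] at this
      exact one_ne_zero this
    have hfr := C2.finrank_sup_span_of_not_mem (Submodule.span F {u + u'}) w0 hw0x
    rw [finrank_span_singleton hx0] at hfr
    have hTS : ∀ z ∈ Submodule.span F {u + u'} ⊔ Submodule.span F {w0},
        Cfsg.quadFormMinus k F a b z = 0 := by
      intro z hz
      obtain ⟨z1, hz1, z2, hz2, rfl⟩ := Submodule.mem_sup.mp hz
      obtain ⟨c1, rfl⟩ := Submodule.mem_span_singleton.mp hz1
      obtain ⟨c2, rfl⟩ := Submodule.mem_span_singleton.mp hz2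
      have : Q (c1 • (u + u') + c2 • w0) = 0 := by
        rw [C2.Q_add, QuadraticMap.map_smul, QuadraticMap.map_smul, hx, hQw0,
          QuadraticMap.polar_smul_left, QuadraticMap.polar_smul_right, hxw]
        simp
      rw [hQdef] at this
      exact this
    have hle := WI.minus_ts_le hab _ hTS
    omega

theorem kerHyp_minus (hab : Aniso a b) :
    KerHyp (qfMinus k F a b) (OSemi.qfMinus_nondeg k a b hab) := by
  by_cases h : Fintype.card F ≠ 2 ∨ Fintype.card (MI k) ≠ 4
  · exact kerHyp_of_small _ _ h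
  · push Not at h
    obtain ⟨hF, hc⟩ := h
    rw [hcard] at hc
    apply Cfsg.Agent.Lib.helper14.OmegaGen.kerHyp_of_trans
    apply Cfsg.Agent.Lib.helper14.OmegaGen.transR_of_mid
    intro u u' hu hQuu hpol hne
    exact mid_minus_F2 hF (by omega) hab u u' hu hQuu hpol hne

end Main

/-- Number of conjugacy classes of involutions in Ω⁻_2m(F) (the commutator subgroup of the orthogonal group of an elliptic quadratic form, Σ_(i<m−1) x_i y_i plus an anisotropic binary form) over a finite field F of characteristic two, m ≥ 1: the involutions of Ω are those with s = rank(t − 1) even, one O-class for each even s with 2 ≤ s ≤ m on which v ↦ f(v, tv) is not identically zero and one for each even s with 2 ≤ s < m on which it is zero (f the polar form; in characteristic 2, f(v, tv) = Q(v + tv)), none of which splits in Ω; in all ⌊m/2⌋ + ⌊(m − 1)/2⌋. -/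
theorem result {F : Type*} [Field F] [Fintype F] [CharP F 2] {m : ℕ} (hm : 1 ≤ m) (a b : F) (hab : ∀ z₁ z₂ : F, z₁ ^ 2 + a * z₁ * z₂ + b * z₂ ^ 2 = 0 → z₁ = 0 ∧ z₂ = 0) : Nat.card {C : ConjClasses ↥(Cfsg.Omega F (Cfsg.quadFormMinus (m - 1) F a b)) // ∃ g : ↥(Cfsg.Omega F (Cfsg.quadFormMinus (m - 1) F a b)), ConjClasses.mk g = C ∧ orderOf g = 2} = m / 2 + (m - 1) / 2 := by
  rw [count_omega_minus (k := m - 1) hab (kerHyp_minus hab)]
  have : m - 1 + 1 = m := by omega
  rw [this]

end Cfsg.Agent.S2598
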