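import Cfsg.Statements.S2599
import Cfsg.Agent.Lib.Helper16.Witt

set_option autoImplicit false
open Cfsg
open Cfsg.Agent.Lib.Helper16

namespace Cfsg.Agent.S2599

open Module

theorem result {F : Type*} [Field F] [Fintype F] {p : ℕ} [Fact p.Prime] [CharP F p] {n : ℕ} (Q : QuadraticForm F (Fin n → F)) (hQ : (QuadraticMap.polarBilin Q).Nondegenerate) (x : ↥(Cfsg.isometryGroup F ⇑Q)) (hx : (orderOf x).Coprime p) (U : Submodule F (Fin n → F)) (hU0 : U ≠ ⊥) (hUx : ∀ u ∈ U, ((x : Matrix.GeneralLinearGroup (Fin n) F) : Matrix (Fin n) (Fin n) F).mulVec u ∈ U) (hirr : ∀ W : Submodule F (Fin n → F), W ≤ U → (∀ w ∈ W, ((x : Matrix.GeneralLinearGroup (Fin n) F) : Matrix (Fin n) (Fin n) F).mulVec w ∈ W) → W = ⊥ ∨ W = U) : U ⊓ LinearMap.BilinForm.orthogonal (QuadraticMap.polarBilin Q) U = ⊥ ∨ (∀ u ∈ U, Q u = 0) ∨ (p = 2 ∧ Module.finrank F U = 1 ∧ (∃ u ∈ U, Q u ≠ 0) ∧ ∀ u ∈ U, ((x : Matrix.GeneralLinearGroup (Fin n) F) : Matrix (Fin n) (Fin n) F).mulVec u = u) := by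
  set X : Matrix (Fin n) (Fin n) F := ((x : Matrix.GeneralLinearGroup (Fin n) F) : Matrix (Fin n) (Fin n) F) with hX
  have hXQ : ∀ u, Q (X.mulVec u) = Q u := fun u => x.2 u u
  have hXB : ∀ u v, QuadraticMap.polar ⇑Q (X.mulVec u) (X.mulVec v) = QuadraticMap.polar ⇑Q u v := by
    intro u v
    unfold QuadraticMap.polar
    rw [← Matrix.mulVec_add, hXQ, hXQ, hXQ]
  have hXinj : ∀ u, X.mulVec u = 0 → u = 0 := by
    intro u hu
    have h1 : ((x : Matrix.GeneralLinearGroup (Fin n) F)⁻¹ : Matrix.GeneralLinearGroup (Fin n) F).1 * X = 1 := by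
      rw [hX, ← Units.val_mul, inv_mul_cancel, Units.val_one]
    have := congrArg (fun w => ((x : Matrix.GeneralLinearGroup (Fin n) F)⁻¹ : Matrix.GeneralLinearGroup (Fin n) F).1.mulVec w) hu
    simp only [Matrix.mulVec_mulVec, h1, Matrix.one_mulVec, Matrix.mulVec_zero] at this
    exact this
  let L : U →ₗ[F] U := (Matrix.mulVecLin X).restrict hUx
  have hLapp : ∀ u : U, ((L u : U) : Fin n → F) = X.mulVec (u : Fin n → F) := fun u => rfl
  have hLinj : Function.Injective L := by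
    rw [← LinearMap.ker_eq_bot, LinearMap.ker_eq_bot']
    intro u hu
    apply Subtype.ext
    apply hXinj
    rw [← hLapp, hu]; rfl
  have hLsurj : Function.Surjective L := LinearMap.injective_iff_surjective.mp hLinj
  have hpre : ∀ u ∈ U, ∃ u' ∈ U, X.mulVec u' = u := by
    intro u hu
    obtain ⟨u', hu'⟩ := hLsurj ⟨u, hu⟩
    refine ⟨u', u'.2, ?_⟩
    rw [← hLapp, hu']
  set B := QuadraticMap.polarBilin Q with hB
  have hBapp : ∀ u v, B u v = QuadraticMap.polar ⇑Q u v := fun u v => rfl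
  have hRinv : ∀ w ∈ U ⊓ LinearMap.BilinForm.orthogonal B U,
      X.mulVec w ∈ U ⊓ LinearMap.BilinForm.orthogonal B U := by
    intro w hw
    rw [Submodule.mem_inf] at hw ⊢
    refine ⟨hUx w hw.1, ?_⟩
    rw [LinearMap.BilinForm.mem_orthogonal_iff]
    intro m hm
    obtain ⟨m', hm', rfl⟩ := hpre m hm
    show B (X.mulVec m') (X.mulVec w) = 0
    rw [hBapp, hXB, ← hBapp]
    exact (LinearMap.BilinForm.mem_orthogonal_iff.mp hw.2) m' hm'
  rcases hirr _ inf_le_left hRinv with hR | hR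
  · left; exact hR
  right
  have hUU : ∀ u ∈ U, ∀ v ∈ U, QuadraticMap.polar ⇑Q u v = 0 := by
    intro u hu v hv
    have : v ∈ U ⊓ LinearMap.BilinForm.orthogonal B U := by rw [hR]; exact hv
    exact (LinearMap.BilinForm.mem_orthogonal_iff.mp (Submodule.mem_inf.mp this).2) u hu
  by_cases hp : p = 2
  swap
  · left
    intro u hu
    have h2 : (2 : F) ≠ 0 := by
      intro h
      have : ((2 : ℕ) : F) = 0 := by exact_mod_cast h
      rw [CharP.cast_eq_zero_iff F p] at this
      have hp2 := (Nat.prime_dvd_prime_iff_eq (Fact.out : p.Prime) Nat.prime_two).mp this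
      exact hp hp2
    have := hUU u hu u hu
    rw [polar_self'] at this
    exact (mul_eq_zero.mp this).resolve_left h2
  subst hp
  have h2 : (2 : F) = 0 := CharTwo.two_eq_zero
  have hadd : ∀ u ∈ U, ∀ v ∈ U, Q (u + v) = Q u + Q v := by
    intro u hu v hv
    rw [quad_add, hUU u hu v hv, add_zero]
  let S : Submodule F (Fin n → F) :=
    { carrier := {u | u ∈ U ∧ Q u = 0}
      add_mem' := by
        rintro a b ⟨ha, ha0⟩ ⟨hb, hb0⟩
        exact ⟨U.add_mem ha hb, by rw [hadd a ha b hb, ha0, hb0, add_zero]⟩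
      zero_mem' := ⟨U.zero_mem, map_zero Q⟩
      smul_mem' := by
        rintro c a ⟨ha, ha0⟩
        exact ⟨U.smul_mem c ha, by rw [QuadraticMap.map_smul, ha0, smul_zero]⟩ }
  have hSmem : ∀ u, u ∈ S ↔ u ∈ U ∧ Q u = 0 := fun u => Iff.rfl
  have hSU : S ≤ U := fun u hu => hu.1
  have hSinv : ∀ w ∈ S, X.mulVec w ∈ S := by
    intro w hw
    exact ⟨hUx w hw.1, by rw [hXQ]; exact hw.2⟩
  rcases hirr S hSU hSinv with hS | hS
  swap
  · left
    intro u hu
    have : u ∈ S := by rw [hS]; exact hu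
    exact this.2
  right
  have hinj : ∀ u ∈ U, ∀ v ∈ U, Q u = Q v → u = v := by
    intro u hu v hv huv
    have h1 : u + v ∈ S := by
      refine ⟨U.add_mem hu hv, ?_⟩
      rw [hadd u hu v hv, huv]
      have : Q v + Q v = 2 * Q v := by ring
      rw [this, h2, zero_mul]
    rw [hS, Submodule.mem_bot] at h1
    have h3 : v + v = 0 := by
      have : v + v = (2 : F) • v := by rw [two_smul]
      rw [this, h2, zero_smul]
    calc u = u + (v + v) := by rw [h3, add_zero]
      _ = (u + v) + v := by abel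
      _ = v := by rw [h1, zero_add]
  obtain ⟨u₀, hu₀U, hu₀⟩ := (Submodule.ne_bot_iff U).mp hU0
  have hQu₀ : Q u₀ ≠ 0 := by
    intro h0
    have : u₀ ∈ S := ⟨hu₀U, h0⟩
    rw [hS, Submodule.mem_bot] at this
    exact hu₀ this
  refine ⟨rfl, ?_, ⟨u₀, hu₀U, hQu₀⟩, ?_⟩
  · have hspan : U = Submodule.span F {u₀} := by
      apply le_antisymm
      · intro u hu
        obtain ⟨c, hc⟩ := FiniteField.isSquare_of_char_two (ringChar.eq F 2) (Q u / Q u₀)
        have h4 : Q u = Q (c • u₀) := by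
          rw [QuadraticMap.map_smul, smul_eq_mul, ← hc]
          field_simp
        rw [hinj u hu (c • u₀) (U.smul_mem c hu₀U) h4]
        exact Submodule.smul_mem _ c (Submodule.mem_span_singleton_self u₀)
      · rw [Submodule.span_le]
        intro y hy
        rw [Set.mem_singleton_iff] at hy
        rw [hy]; exact hu₀U
    rw [hspan]
    exact finrank_span_singleton hu₀
  · intro u hu
    exact hinj _ (hUx u hu) u hu (hXQ u)

end Cfsg.Agent.S2599
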