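import Cfsg.Statements.S2600

import Cfsg.Agent.Lib.helper15.Sp4G4
set_option autoImplicit false
open Cfsg

namespace Cfsg.Agent.S2600


open Cfsg.Agent.Lib.Helper16.SPA Cfsg.Agent.Lib.Helper16.SPF Cfsg.Agent.Lib.helper15.SpAut
  Cfsg.Agent.Lib.helper15.Sp4G

/-- Outer automorphism group of PSp_4(q) for q = 2^f even: it is cyclic of order 2f, generated by the class of the exceptional (graph-field) automorphism whose square is the Frobenius field automorphism. -/
theorem result {F : Type*} [Field F] [Fintype F] {f : ℕ} (hf : 1 ≤ f) (hF : Fintype.card F = 2 ^ f) : IsCyclic (Cfsg.Out (Cfsg.PSp 2 F)) ∧ Nat.card (Cfsg.Out (Cfsg.PSp 2 F)) = 2 * f := by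
  have : Fact (Nat.Prime 2) := ⟨Nat.prime_two⟩
  have hch : CharP F 2 := charP_of_card_eq_prime_pow hF
  have h2 : (2 : F) = 0 := by
    have := CharP.cast_eq_zero F 2
    exact_mod_cast this
  have hrc : ringChar F = 2 := ringChar.eq F 2
  have hN : Cfsg.Inn (Cfsg.PSp 2 F) = (PhiS 2 F).range :=
    le_antisymm Inn_le_range_PhiS (range_PhiS_le_Inn_char2 hrc)
  exact ⟨isCyclic_quot22 (Cfsg.Inn (Cfsg.PSp 2 F)) h2 hf hF hN,
    card_quot22 (Cfsg.Inn (Cfsg.PSp 2 F)) h2 hF hN⟩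

end Cfsg.Agent.S2600
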