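import Mathlib
import Cfsg.Statements.S2602
import Cfsg.Agent.Lib.helper3.PSL2J

set_option autoImplicit false
open Cfsg

namespace Cfsg.Agent.S2602

/-- Structure of the outer automorphism group of PSL_2(q), q = p^f ≥ 4: it has a normal cyclic subgroup of order gcd(2, q − 1) (diagonal automorphisms) with cyclic quotient of order f (field automorphisms); there is no graph automorphism in dimension 2. -/
theorem result {F : Type*} [Field F] [Fintype F] {p f : ℕ} [Fact p.Prime] (hf : 1 ≤ f) (hF : Fintype.card F = p ^ f) (h4 : 4 ≤ p ^ f) : ∃ φ : Cfsg.Out (Matrix.ProjectiveSpecialLinearGroup (Fin 2) F) →* Multiplicative (ZMod f), Function.Surjective φ ∧ IsCyclic φ.ker ∧ Nat.card φ.ker = Nat.gcd 2 (p ^ f - 1) := by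
  classical
  obtain ⟨hcyc, hcard⟩ := Cfsg.Agent.Lib.helper3.ringAut_cyclic_card (F := F) hF
  haveI : NeZero f := ⟨by omega⟩
  haveI : IsCyclic (RingAut F) := hcyc
  have hcard' : Nat.card (RingAut F) = Nat.card (Multiplicative (ZMod f)) := by
    rw [hcard, Nat.card_eq_fintype_card, Fintype.card_multiplicative, ZMod.card]
  let e : RingAut F ≃* Multiplicative (ZMod f) := mulEquivOfCyclicCardEq hcard'
  refine ⟨e.toMonoidHom.comp (Cfsg.Agent.Lib.helper3.outTwHom hF hf), ?_, ?_, ?_⟩
  · exact e.surjective.comp (Cfsg.Agent.Lib.helper3.outTwHom_surjective hF hf)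
  · have hk : (e.toMonoidHom.comp (Cfsg.Agent.Lib.helper3.outTwHom hF hf)).ker
        = (Cfsg.Agent.Lib.helper3.outTwHom hF hf).ker := by
      ext x
      simp [MonoidHom.mem_ker]
    rw [hk]
    exact Cfsg.Agent.Lib.helper3.isCyclic_outTwHom_ker hF hf
  · have hk : (e.toMonoidHom.comp (Cfsg.Agent.Lib.helper3.outTwHom hF hf)).ker
        = (Cfsg.Agent.Lib.helper3.outTwHom hF hf).ker := by
      ext x
      simp [MonoidHom.mem_ker]
    rw [hk]
    exact Cfsg.Agent.Lib.helper3.card_outTwHom_ker hF hf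

end Cfsg.Agent.S2602
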