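import Cfsg.Statements.S2610
import Cfsg.Agent.Lib.Helper16.SpinH

set_option autoImplicit false
open Cfsg
open Cfsg.Agent.Lib.Helper16

namespace Cfsg.Agent.S2610

/-- For a quadratic form Q on F^n with non-degenerate polar form, F finite of odd order and n ≥ 2 even, the isometry −1 lies in Ω (the commutator subgroup of the orthogonal group) if and only if the discriminant of Q (the determinant of the Gram matrix of its polar form) is a square. -/
theorem result {F : Type*} [Field F] [Fintype F] (h2 : (2 : F) ≠ 0) {n : ℕ} (hn : 2 ≤ n) (he : Even n) (Q : QuadraticForm F (Fin n → F)) (hQ : (QuadraticMap.polarBilin Q).Nondegenerate) : (∃ g : ↥(Cfsg.isometryGroup F ⇑Q), g ∈ Cfsg.Omega F ⇑Q ∧ ((g : Matrix.GeneralLinearGroup (Fin n) F) : Matrix (Fin n) (Fin n) F) = -1) ↔ IsSquare (Matrix.of (fun i j : Fin n => QuadraticMap.polar ⇑Q (Pi.single i 1) (Pi.single j 1))).det := by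
  classical
  have : Invertible (2 : F) := invertibleOfNonzero h2
  have hsymm : LinearMap.IsSymm (QuadraticMap.polarBilin Q) :=
    LinearMap.BilinForm.isSymm_iff.mp (polarBilin_isSymm Q)
  obtain ⟨v, hv⟩ := LinearMap.BilinForm.exists_orthogonal_basis hsymm
  have hfr : Module.finrank F (Fin n → F) = n := Module.finrank_fin_fun F
  have hortho : ∀ i j, i ≠ j → QuadraticMap.polar (⇑Q) (v i) (v j) = 0 := by
    intro i j hij
    exact hv hij
  have hself : ∀ i, QuadraticMap.polarBilin Q (v i) (v i) ≠ 0 :=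
    fun i => LinearMap.BilinForm.iIsOrtho.not_isOrtho_basis_self_of_nondegenerate hv hQ i
  have hQv : ∀ i, Q (v i) ≠ 0 := by
    intro i h0
    apply hself i
    rw [QuadraticMap.polarBilin_apply_apply, QuadraticMap.polar_self, h0, smul_zero]
  let vs : List (Fin n → F) := List.ofFn (fun i => v i)
  have hvs : ∀ u ∈ vs, Q u ≠ 0 := by
    intro u hu
    obtain ⟨i, rfl⟩ := (List.mem_ofFn' _ _).mp hu
    exact hQv i
  have hnodup : vs.Nodup := List.nodup_ofFn.mpr v.injective
  have hmat : (vs.map (fun u => Cfsg.reflectionMatrix ⇑Q u)).prod = -1 :=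
    prod_refl_basis h2 Q v hortho hQv vs hnodup (fun u => by
      rw [List.mem_ofFn']
      rfl)
  have hlen : vs.length = n := by rw [List.length_ofFn, hfr]
  have hprod : (vs.map (fun u => Q u)).prod = ∏ i, Q (v i) := by
    rw [List.map_ofFn, List.prod_ofFn]
    rfl
  obtain ⟨d, hd0, hd⟩ := gram_det_change_basis (QuadraticMap.polarBilin Q) v
  have hdiag : (Matrix.of (fun i j => QuadraticMap.polarBilin Q (v i) (v j))) =
      Matrix.diagonal (fun i => 2 * Q (v i)) := by
    ext i j
    by_cases hij : i = j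
    · subst hij
      rw [Matrix.of_apply, Matrix.diagonal_apply_eq, QuadraticMap.polarBilin_apply_apply,
        QuadraticMap.polar_self, nsmul_eq_mul]
      push_cast
      rfl
    · rw [Matrix.of_apply, Matrix.diagonal_apply_ne _ hij, QuadraticMap.polarBilin_apply_apply]
      exact hortho i j hij
  rw [hdiag, Matrix.det_diagonal, Finset.prod_mul_distrib, Finset.prod_const, Finset.card_univ,
    Fintype.card_fin] at hd
  have hG : LinearMap.BilinForm.toMatrix' (QuadraticMap.polarBilin Q) =
      Matrix.of (fun i j : Fin n => QuadraticMap.polar ⇑Q (Pi.single i 1) (Pi.single j 1)) := by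
    ext i j
    rw [LinearMap.BilinForm.toMatrix'_apply, Matrix.of_apply, QuadraticMap.polarBilin_apply_apply]
  rw [hG] at hd
  obtain ⟨k, hk⟩ := he
  have h2pow : (2 : F) ^ Module.finrank F (Fin n → F) = ((2 : F) ^ k) ^ 2 := by
    rw [hfr, hk, ← two_mul, pow_mul']
  rw [h2pow] at hd
  have hsqiff : IsSquare (∏ i, Q (v i)) ↔
      IsSquare (Matrix.of (fun i j : Fin n => QuadraticMap.polar ⇑Q (Pi.single i 1) (Pi.single j 1))).det := by
    rw [← isSquare_sq_mul_iff (x := (Matrix.of (fun i j : Fin n => QuadraticMap.polar ⇑Q (Pi.single i 1) (Pi.single j 1))).det) hd0, ← hd]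
    have h2k : (2 : F) ^ k ≠ 0 := pow_ne_zero k h2
    exact (isSquare_sq_mul_iff h2k).symm
  rw [← hsqiff, ← hprod]
  constructor
  · rintro ⟨g, hgΩ, hg⟩
    exact ((master h2 Q g vs hvs (by rw [hg, hmat])).mp hgΩ).2
  · intro hsq
    refine ⟨(vs.map (reflG' Q)).prod, ?_, ?_⟩
    · apply master_backward h2 Q vs hvs _ hsq
      rw [hlen, hk]
      exact ⟨k, rfl⟩
    · rw [prod_reflG'_coe Q vs hvs, hmat]

end Cfsg.Agent.S2610
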