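import Cfsg.Statements.S2612
import Cfsg.Agent.Lib.Helper16.PlusSwap

set_option autoImplicit false
open Cfsg
open Cfsg.Agent.Lib.Helper16
open Matrix Module

namespace Cfsg.Agent.S2612

/-- For the hyperbolic quadratic form Σ x_i y_i on F^(2m) (F finite, m ≥ 1, excluding m = 2 over the field of two elements), Ω⁺_2m(F) (the commutator subgroup of the orthogonal group) contains an element interchanging the two complementary maximal totally singular subspaces {y = 0} and {x = 0} if and only if m is even (dimension divisible by 4). -/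
theorem result {F : Type*} [Field F] [Fintype F] {m : ℕ} (hm : 1 ≤ m) (h : Fintype.card F ≠ 2 ∨ m ≠ 2) : (∃ g : ↥(Cfsg.isometryGroup F (Cfsg.quadFormPlus m F)), g ∈ Cfsg.Omega F (Cfsg.quadFormPlus m F) ∧ (∀ v : Fin m ⊕ Fin m → F, (∀ i, v (Sum.inr i) = 0) → ∀ i, (((g : Matrix.GeneralLinearGroup (Fin m ⊕ Fin m) F) : Matrix (Fin m ⊕ Fin m) (Fin m ⊕ Fin m) F).mulVec v) (Sum.inl i) = 0) ∧ (∀ v : Fin m ⊕ Fin m → F, (∀ i, v (Sum.inl i) = 0) → ∀ i, (((g : Matrix.GeneralLinearGroup (Fin m ⊕ Fin m) F) : Matrix (Fin m ⊕ Fin m) (Fin m ⊕ Fin m) F).mulVec v) (Sum.inr i) = 0)) ↔ Even m := by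
  constructor
  · rintro ⟨g, hg, h1, _⟩
    have key := omega_famChar (qfPlus m F) (qfPlus_nondeg m F) (card_plus_index m) (EPlus m F)
      EPlus_TS EPlus_finrank g hg
    have hbot : EPlus m F ⊓ (EPlus m F).map (Matrix.mulVecLin
        ((g : GL (Fin m ⊕ Fin m) F) : Matrix (Fin m ⊕ Fin m) (Fin m ⊕ Fin m) F)) = ⊥ := by
      rw [eq_bot_iff]
      intro x hx
      obtain ⟨hx1, hx2⟩ := Submodule.mem_inf.mp hx
      obtain ⟨y, hy, rfl⟩ := Submodule.mem_map.mp hx2
      rw [mem_EPlus] at hx1 hy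
      rw [Submodule.mem_bot]
      funext k
      rcases k with i | i
      · exact h1 y hy i
      · exact hx1 i
    rw [hbot, finrank_bot, add_zero] at key
    exact key
  · rintro ⟨k, hk⟩
    have hk' : m = 2 * k := by omega
    refine ⟨permIso (Cfsg.quadFormPlus m F) (sigS m) sigS_pres, swap_mem_omega k hk', ?_, ?_⟩
    · intro v hv i
      rw [permIso_mulVec]
      exact hv i
    · intro v hv i
      rw [permIso_mulVec]
      exact hv i

end Cfsg.Agent.S2612
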