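import Cfsg.Statements.S2615
import Cfsg.Agent.Lib.Helper16.SpinG2

set_option autoImplicit false
open Cfsg
open Cfsg.Agent.Lib.Helper16

namespace Cfsg.Agent.S2615

/-- For an elliptic form Σ_(j<m−1) x_j y_j + (z₁² + a z₁z₂ + b z₂²) (anisotropic binary part) on F^(2m), F finite with q elements, q odd, and 1 ≤ i ≤ m − 1: the involution negating the first i hyperbolic pairs and fixing the rest lies in Ω⁻_2m(q) (commutator subgroup of the orthogonal group) if and only if q^i ≡ 1 (mod 4). -/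
theorem result {F : Type*} [Field F] [Fintype F] {q : ℕ} (hF : Fintype.card F = q) (hq : Odd q) {m : ℕ} (a b : F) (hab : ∀ z₁ z₂ : F, z₁ ^ 2 + a * z₁ * z₂ + b * z₂ ^ 2 = 0 → z₁ = 0 ∧ z₂ = 0) (i : ℕ) (hi : 1 ≤ i) (him : i + 1 ≤ m) : (∃ g : ↥(Cfsg.isometryGroup F (Cfsg.quadFormMinus (m - 1) F a b)), g ∈ Cfsg.Omega F (Cfsg.quadFormMinus (m - 1) F a b) ∧ ((g : Matrix.GeneralLinearGroup ((Fin (m - 1) ⊕ Fin (m - 1)) ⊕ Fin 2) F) : Matrix ((Fin (m - 1) ⊕ Fin (m - 1)) ⊕ Fin 2) ((Fin (m - 1) ⊕ Fin (m - 1)) ⊕ Fin 2) F) = Matrix.diagonal (fun k : (Fin (m - 1) ⊕ Fin (m - 1)) ⊕ Fin 2 => if (Sum.elim (Sum.elim (fun j : Fin (m - 1) => (j : ℕ)) (fun j : Fin (m - 1) => (j : ℕ))) (fun _ : Fin 2 => i) k) < i then (-1 : F) else 1)) ↔ q ^ i % 4 = 1 := by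
  have h2 : (2 : F) ≠ 0 := by
    intro h
    have hchar : ringChar F = 2 := by
      have : CharP F 2 := CharTwo.of_one_ne_zero_of_two_eq_zero one_ne_zero h
      exact ringChar.eq F 2
    have := FiniteField.even_card_of_char_two hchar
    rw [hF] at this
    obtain ⟨t, ht⟩ := hq
    omega
  rw [← neg_one_pow_isSquare_iff hF hq i]
  have key := negPairs_iff h2 (qfMinus (m - 1) F a b)
    (fun j : Fin (m - 1) => (Sum.inl (Sum.inl j) : (Fin (m - 1) ⊕ Fin (m - 1)) ⊕ Fin 2))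
    (fun j => Sum.inl (Sum.inr j))
    (by intro j; simp)
    (by
      intro j x
      rw [qfMinus_coe, polar_minus']
      simp [Pi.single_apply])
    (by
      intro j x
      rw [qfMinus_coe, polar_minus']
      simp [Pi.single_apply])
    (by
      intro j
      show Cfsg.quadFormMinus (m - 1) F a b _ = 0
      simp [Cfsg.quadFormMinus, Pi.single_apply])
    (by
      intro j
      show Cfsg.quadFormMinus (m - 1) F a b _ = 0
      simp [Cfsg.quadFormMinus, Pi.single_apply])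
    (Sum.elim (Sum.elim (fun j : Fin (m - 1) => (j : ℕ)) (fun j : Fin (m - 1) => (j : ℕ))) (fun _ : Fin 2 => i))
    (by intro j; rfl) (by intro j; rfl) i (by omega)
    (by
      intro k hk
      rcases k with (j | j) | u
      · exact ⟨j, Or.inl rfl⟩
      · exact ⟨j, Or.inr rfl⟩
      · simp at hk)
  exact key

end Cfsg.Agent.S2615
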