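import Cfsg.Statements.S2617
import Cfsg.Agent.Lib.Helper16.ZeroCount

set_option autoImplicit false
open Cfsg
open Cfsg.Agent.Lib.Helper16

namespace Cfsg.Agent.S2617

theorem result {F : Type*} [Field F] [Finite F] {m : ℕ} (hm : 1 ≤ m) (ζ : F) (hζ : ∀ t : F, t ^ 2 + t + ζ ≠ 0) (g : (Fin m ⊕ Fin m → F) ≃ₗ[F] ((Fin (m - 1) ⊕ Fin (m - 1)) ⊕ Fin 2 → F)) : ¬ (∀ v : Fin m ⊕ Fin m → F, Cfsg.quadFormMinus (m - 1) F 1 ζ (g v) = Cfsg.quadFormPlus m F v) := by
  classical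
  have : Fintype F := Fintype.ofFinite F
  intro h
  obtain ⟨k, rfl⟩ : ∃ k, m = k + 1 := ⟨m - 1, by omega⟩
  change (Fin (k + 1) ⊕ Fin (k + 1) → F) ≃ₗ[F] ((Fin k ⊕ Fin k) ⊕ Fin 2 → F) at g
  change ∀ v : Fin (k + 1) ⊕ Fin (k + 1) → F, Cfsg.quadFormMinus k F 1 ζ (g v) = Cfsg.quadFormPlus (k + 1) F v at h
  set q : ℤ := (Fintype.card F : ℤ) with hq
  have hq2 : 2 ≤ q := by
    rw [hq]
    exact_mod_cast Fintype.one_lt_card
  have hNPM : Fintype.card {v : Fin (k + 1) ⊕ Fin (k + 1) → F // Cfsg.quadFormPlus (k + 1) F v = 0} =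
      Fintype.card {u : (Fin k ⊕ Fin k) ⊕ Fin 2 → F // Cfsg.quadFormMinus k F 1 ζ u = 0} := by
    apply Fintype.card_congr
    apply g.toEquiv.subtypeEquiv
    intro v
    rw [← h v]
    rfl
  have hP := zeros_plus (F := F) (k + 1) (W := Fin 0 → F) (fun _ => 0)
  have hP1 : Fintype.card {p : (Fin (k + 1) ⊕ Fin (k + 1) → F) × (Fin 0 → F) // Cfsg.quadFormPlus (k + 1) F p.1 + 0 = 0} =
      Fintype.card {v : Fin (k + 1) ⊕ Fin (k + 1) → F // Cfsg.quadFormPlus (k + 1) F v = 0} := by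
    apply Fintype.card_congr
    apply (Equiv.prodUnique (Fin (k + 1) ⊕ Fin (k + 1) → F) (Fin 0 → F)).subtypeEquiv
    intro p
    simp
  have hP2 : Fintype.card {w : Fin 0 → F // (0 : F) = 0} = 1 := by
    rw [Fintype.card_subtype]
    simp
  rw [hP1, hP2] at hP
  set f : (Fin 2 → F) → F := fun z => z 0 ^ 2 + 1 * z 0 * z 1 + ζ * z 1 ^ 2 with hf
  have hM := zeros_plus (F := F) k (W := Fin 2 → F) f
  have hM1 : Fintype.card {p : (Fin k ⊕ Fin k → F) × (Fin 2 → F) // Cfsg.quadFormPlus k F p.1 + f p.2 = 0} =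
      Fintype.card {u : (Fin k ⊕ Fin k) ⊕ Fin 2 → F // Cfsg.quadFormMinus k F 1 ζ u = 0} := by
    apply Fintype.card_congr
    apply (Equiv.sumArrowEquivProdArrow (Fin k ⊕ Fin k) (Fin 2) F).symm.subtypeEquiv
    intro p
    rfl
  have hM2 : Fintype.card {z : Fin 2 → F // f z = 0} = 1 := by
    rw [Fintype.card_eq_one_iff]
    refine ⟨⟨0, by simp [hf]⟩, ?_⟩
    rintro ⟨z, hz⟩
    apply Subtype.ext
    show z = 0
    have h1 : z 1 = 0 := by
      by_contra hne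
      apply hζ (z 0 / z 1)
      have : (z 0 / z 1) ^ 2 + z 0 / z 1 + ζ = f z / (z 1) ^ 2 := by
        rw [hf]
        field_simp
      rw [this, hz, zero_div]
    have h0 : z 0 = 0 := by
      rw [hf] at hz
      simp only [h1] at hz
      have : z 0 ^ 2 = 0 := by linear_combination hz
      exact pow_eq_zero_iff (two_ne_zero) |>.mp this
    funext j
    fin_cases j
    · exact h0
    · exact h1
  rw [hM1, hM2, ← hNPM] at hM
  simp only [Fintype.card_pi, Finset.prod_const, Finset.card_univ, Fintype.card_fin, Nat.cast_pow, Nat.cast_one,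
    mul_one, pow_zero, one_mul] at hP hM
  rw [← hq] at hP hM
  have hcontra : q ^ (k + 1 + 1) + (q ^ (2 * (k + 1)) - q ^ (k + 1)) = q ^ (k + 1) + q ^ 2 * (q ^ (2 * k) - q ^ k) := by
    rw [← hP, ← hM]
  have h3 : q ^ (k + 1) * (q - 1) = 0 := by
    have : 2 * (q ^ (k + 1) * (q - 1)) = 0 := by linear_combination hcontra
    omega
  rcases mul_eq_zero.mp h3 with h4 | h4
  · have := pow_eq_zero_iff (n := k + 1) (by omega) |>.mp h4
    omega
  · omega

end Cfsg.Agent.S2617
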