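import Cfsg.Statements.S2619

set_option autoImplicit false
open Cfsg

namespace Cfsg.Agent.S2619

theorem char2_neg {F : Type*} [Field F] [CharP F 2] (x : F) : -x = x := by
  have h2 : (2 : F) = 0 := CharP.ofNat_eq_zero F 2
  have : x + x = 0 := by rw [← two_mul, h2, zero_mul]
  exact neg_eq_of_add_eq_zero_left this

theorem result {F V ι : Type*} [Field F] [Finite F] [CharP F 2] [AddCommGroup V] [Module F V] [Fintype ι] (b : Module.Basis ι F V) (B : LinearMap.BilinForm F V) (hB : B.IsAlt) (c : ι → F) : ∃! Q : QuadraticForm F V, QuadraticMap.polarBilin Q = B ∧ ∀ i, Q (b i) = c i := by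
  classical
  have h2 : (2 : F) = 0 := CharP.ofNat_eq_zero F 2
  have hsymm : ∀ x y, B x y = B y x := by
    intro x y
    have := hB.neg_eq x y
    rw [char2_neg] at this
    exact this
  let _ : LinearOrder ι := LinearOrder.lift' (Fintype.equivFin ι) (Equiv.injective _)
  let M : Matrix ι ι F := fun i j => if i < j then B (b i) (b j) else if i = j then c i else 0
  let A : LinearMap.BilinForm F V := Matrix.toBilin b M
  have hA : ∀ i j, A (b i) (b j) = M i j := by
    intro i j
    have := LinearMap.BilinForm.toMatrix_toBilin b M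
    have h3 := congrFun (congrFun this i) j
    rw [LinearMap.BilinForm.toMatrix_apply] at h3
    exact h3
  have hpol : QuadraticMap.polarBilin (LinearMap.BilinMap.toQuadraticMap A) = B := by
    apply LinearMap.BilinForm.ext_basis b
    intro i j
    rw [QuadraticMap.polarBilin_apply_apply, LinearMap.BilinMap.polar_toQuadraticMap, hA, hA]
    simp only [M]
    rcases lt_trichotomy i j with h | h | h
    · simp [h, not_lt_of_gt h, (ne_of_lt h).symm]
    · subst h
      simp only [lt_irrefl, if_false, if_true]
      rw [hB.self_eq_zero, ← two_mul, h2, zero_mul]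
    · simp [h, not_lt_of_gt h, (ne_of_lt h).symm, hsymm (b i) (b j)]
  have hval : ∀ i, LinearMap.BilinMap.toQuadraticMap A (b i) = c i := by
    intro i
    rw [LinearMap.BilinMap.toQuadraticMap_apply, hA]
    simp [M]
  refine ⟨LinearMap.BilinMap.toQuadraticMap A, ⟨hpol, hval⟩, ?_⟩
  rintro Q' ⟨hQ'1, hQ'2⟩
  ext v
  have hv : v ∈ Submodule.span F (Set.range b) := by rw [b.span_eq]; trivial
  induction hv using Submodule.span_induction with
  | mem x hx =>
    obtain ⟨i, rfl⟩ := hx
    rw [hQ'2, hval]
  | zero => simp
  | add x y _ _ hx hy =>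
    have e1 := QuadraticMap.map_add Q' x y
    have e2 := QuadraticMap.map_add (LinearMap.BilinMap.toQuadraticMap A) x y
    rw [e1, e2, hx, hy]
    congr 1
    rw [← QuadraticMap.polarBilin_apply_apply, ← QuadraticMap.polarBilin_apply_apply, hQ'1, hpol]
  | smul a x _ hx =>
    rw [QuadraticMap.map_smul, QuadraticMap.map_smul, hx]

end Cfsg.Agent.S2619
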