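import Cfsg.Statements.S2625

set_option autoImplicit false
open Cfsg

namespace Cfsg.Agent.S2625

theorem polar_scale {F : Type*} [Field F] {n : ℕ} (Q : QuadraticForm F (Fin n → F))
    (g : (Fin n → F) ≃ₗ[F] (Fin n → F)) (c : F) (hg : ∀ v, Q (g v) = c * Q v) :
    LinearMap.BilinForm.comp (QuadraticMap.polarBilin Q) (g : (Fin n → F) →ₗ[F] (Fin n → F)) (g : (Fin n → F) →ₗ[F] (Fin n → F))
      = c • QuadraticMap.polarBilin Q := by
  apply LinearMap.ext
  intro v
  apply LinearMap.ext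
  intro w
  simp only [LinearMap.BilinForm.comp_apply, LinearEquiv.coe_coe, QuadraticMap.polarBilin_apply_apply,
    LinearMap.smul_apply, smul_eq_mul, QuadraticMap.polar]
  rw [← map_add, hg, hg, hg]
  ring

theorem result {F : Type*} [Field F] [Fintype F] {n : ℕ} (hn : Odd n) (Q : QuadraticForm F (Fin n → F)) (hQ : (QuadraticMap.polarBilin Q).Nondegenerate) (g : (Fin n → F) ≃ₗ[F] (Fin n → F)) (c : F) (hg : ∀ v, Q (g v) = c * Q v) : IsSquare c := by
  classical
  have h1 := polar_scale Q g c hg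
  have h2 := congrArg LinearMap.BilinForm.toMatrix' h1
  rw [LinearMap.BilinForm.toMatrix'_comp, map_smul] at h2
  have h3 := congrArg Matrix.det h2
  rw [Matrix.det_mul, Matrix.det_mul, Matrix.det_transpose, Matrix.det_smul] at h3
  have hdet : (LinearMap.BilinForm.toMatrix' (QuadraticMap.polarBilin Q)).det ≠ 0 := by
    rw [← Matrix.nondegenerate_iff_det_ne_zero]
    exact LinearMap.BilinForm.Nondegenerate.toMatrix' hQ
  simp only [Fintype.card_fin] at h3
  have h4 : (LinearMap.toMatrix' (g : (Fin n → F) →ₗ[F] (Fin n → F))).det ^ 2 = c ^ n := by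
    apply mul_right_cancel₀ hdet
    rw [← h3]; ring
  obtain ⟨k, rfl⟩ := hn
  by_cases hc : c = 0
  · exact ⟨0, by simp [hc]⟩
  · refine ⟨(LinearMap.toMatrix' (g : (Fin (2*k+1) → F) →ₗ[F] (Fin (2*k+1) → F))).det / c ^ k, ?_⟩
    field_simp
    rw [h4]; ring

end Cfsg.Agent.S2625
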