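import Cfsg.Statements.S2626

set_option autoImplicit false
open Cfsg
open scoped Matrix

namespace Cfsg.Agent.S2626

theorem hom_commutator {G H : Type*} [Group G] [Group H] (f : G →* H) {g : G} (hg : g ∈ commutator G) :
    f g ∈ commutator H := by
  have h1 : f g ∈ (commutator G).map f := Subgroup.mem_map_of_mem f hg
  rw [map_commutator_eq] at h1
  exact Subgroup.commutator_mono le_top le_top h1

variable {F : Type*} [Field F] {k l : ℕ}

def blockL (k l : ℕ) (F : Type*) [Field F] : Matrix (Fin k) (Fin k) F →* Matrix (Fin k ⊕ Fin l) (Fin k ⊕ Fin l) F where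
  toFun A := Matrix.fromBlocks A 0 0 1
  map_one' := Matrix.fromBlocks_one
  map_mul' A B := by
    rw [Matrix.fromBlocks_multiply]
    simp

def blockR (k l : ℕ) (F : Type*) [Field F] : Matrix (Fin l) (Fin l) F →* Matrix (Fin k ⊕ Fin l) (Fin k ⊕ Fin l) F where
  toFun A := Matrix.fromBlocks 1 0 0 A
  map_one' := Matrix.fromBlocks_one
  map_mul' A B := by
    rw [Matrix.fromBlocks_multiply]
    simp

theorem mem_iso {ι : Type} [Fintype ι] [DecidableEq ι] (Q : (ι → F) → F) (g : GL ι F) :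
    g ∈ isometryGroup F Q ↔ ∀ v, Q ((g : Matrix ι ι F) *ᵥ v) = Q v := by
  constructor
  · intro h v; exact h v v
  · intro h u v; exact h u

def isoL (Q₁ : (Fin k → F) → F) (Q₂ : (Fin l → F) → F) :
    ↥(isometryGroup F Q₁) →* ↥(isometryGroup F (fun v : Fin k ⊕ Fin l → F => Q₁ (v ∘ Sum.inl) + Q₂ (v ∘ Sum.inr))) :=
  ((Units.map (blockL k l F)).comp (isometryGroup F Q₁).subtype).codRestrict _ (by
    intro g
    rw [mem_iso]
    intro v
    have hg := (mem_iso Q₁ g.1).mp g.2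
    simp only [MonoidHom.coe_comp, Subgroup.coe_subtype, Function.comp_apply, Units.coe_map, blockL,
      MonoidHom.coe_mk, OneHom.coe_mk, Matrix.fromBlocks_mulVec, Matrix.zero_mulVec, add_zero, zero_add,
      Matrix.one_mulVec]
    congr 1
    · have : (Sum.elim ((g.1 : Matrix (Fin k) (Fin k) F) *ᵥ (v ∘ Sum.inl)) (v ∘ Sum.inr)) ∘ Sum.inl
          = (g.1 : Matrix (Fin k) (Fin k) F) *ᵥ (v ∘ Sum.inl) := by ext i; simp
      rw [this, hg])

def isoR (Q₁ : (Fin k → F) → F) (Q₂ : (Fin l → F) → F) :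
    ↥(isometryGroup F Q₂) →* ↥(isometryGroup F (fun v : Fin k ⊕ Fin l → F => Q₁ (v ∘ Sum.inl) + Q₂ (v ∘ Sum.inr))) :=
  ((Units.map (blockR k l F)).comp (isometryGroup F Q₂).subtype).codRestrict _ (by
    intro g
    rw [mem_iso]
    intro v
    have hg := (mem_iso Q₂ g.1).mp g.2
    simp only [MonoidHom.coe_comp, Subgroup.coe_subtype, Function.comp_apply, Units.coe_map, blockR,
      MonoidHom.coe_mk, OneHom.coe_mk, Matrix.fromBlocks_mulVec, Matrix.zero_mulVec, add_zero, zero_add,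
      Matrix.one_mulVec]
    congr 1
    · have : (Sum.elim (v ∘ Sum.inl) ((g.1 : Matrix (Fin l) (Fin l) F) *ᵥ (v ∘ Sum.inr))) ∘ Sum.inr
          = (g.1 : Matrix (Fin l) (Fin l) F) *ᵥ (v ∘ Sum.inr) := by ext i; simp
      rw [this, hg])

theorem result {F : Type*} [Field F] [Fintype F] {k l : ℕ} (Q₁ : QuadraticForm F (Fin k → F)) (Q₂ : QuadraticForm F (Fin l → F)) (h₁ : (QuadraticMap.polarBilin Q₁).Nondegenerate) (h₂ : (QuadraticMap.polarBilin Q₂).Nondegenerate) (g₁ : ↥(Cfsg.isometryGroup F ⇑Q₁)) (g₂ : ↥(Cfsg.isometryGroup F ⇑Q₂)) (hg₁ : g₁ ∈ Cfsg.Omega F ⇑Q₁) (hg₂ : g₂ ∈ Cfsg.Omega F ⇑Q₂) : ∃ g : ↥(Cfsg.isometryGroup F (fun v : Fin k ⊕ Fin l → F => Q₁ (v ∘ Sum.inl) + Q₂ (v ∘ Sum.inr))), g ∈ Cfsg.Omega F (fun v : Fin k ⊕ Fin l → F => Q₁ (v ∘ Sum.inl) + Q₂ (v ∘ Sum.inr)) ∧ ((g : Matrix.GeneralLinearGroup (Fin k ⊕ Fin l) F) : Matrix (Fin k ⊕ Fin l) (Fin k ⊕ Fin l) F) = Matrix.fromBlocks ((g₁ : Matrix.GeneralLinearGroup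 (Fin k) F) : Matrix (Fin k) (Fin k) F) 0 0 ((g₂ : Matrix.GeneralLinearGroup (Fin l) F) : Matrix (Fin l) (Fin l) F) := by
  refine ⟨isoL Q₁ Q₂ g₁ * isoR Q₁ Q₂ g₂, ?_, ?_⟩
  · exact mul_mem (hom_commutator _ hg₁) (hom_commutator _ hg₂)
  · simp only [isoL, isoR, Subgroup.coe_mul, MonoidHom.codRestrict_apply, MonoidHom.coe_comp,
      Subgroup.coe_subtype, Function.comp_apply, Units.val_mul, Units.coe_map, blockL, blockR,
      MonoidHom.coe_mk, OneHom.coe_mk, Matrix.fromBlocks_multiply]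
    simp

end Cfsg.Agent.S2626
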