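import Cfsg.Statements.S2627
import Cfsg.Agent.Lib.Helper16.ReflList
import Cfsg.Agent.Lib.Helper16.Char2K

set_option autoImplicit false
open Cfsg
open Cfsg.Agent.Lib.Helper16
open Cfsg.Agent.Lib.helper6
open Matrix Module

namespace Cfsg.Agent.S2627

theorem embL_mem_omega {F : Type*} [Field F] {k l : ℕ} (Q₁ : QuadraticForm F (Fin k → F))
    (Q₂ : QuadraticForm F (Fin l → F)) (g₁ : ↥(Cfsg.isometryGroup F ⇑Q₁))
    (hg : g₁ ∈ Cfsg.Omega F ⇑Q₁) : embL Q₁ Q₂ g₁ ∈ Cfsg.Omega F ⇑(sumQF Q₁ Q₂) := by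
  have h1 : (commutator ↥(Cfsg.isometryGroup F ⇑Q₁)).map (embL Q₁ Q₂) ≤ commutator _ := by
    rw [commutator_def, Subgroup.map_commutator]
    exact Subgroup.commutator_mono le_top le_top
  exact h1 (Subgroup.mem_map_of_mem _ hg)

theorem odd_case {F : Type*} [Field F] [Fintype F] (h2 : (2 : F) ≠ 0) {k l : ℕ}
    (Q₁ : QuadraticForm F (Fin k → F)) (Q₂ : QuadraticForm F (Fin l → F))
    (h₁ : (QuadraticMap.polarBilin Q₁).Nondegenerate) (g₁ : ↥(Cfsg.isometryGroup F ⇑Q₁))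
    (hg : embL Q₁ Q₂ g₁ ∈ Cfsg.Omega F ⇑(sumQF Q₁ Q₂)) : g₁ ∈ Cfsg.Omega F ⇑Q₁ := by
  obtain ⟨vs, hvs, hgvs⟩ := exists_list_of_gen Q₁ (CDG.cartan_dieudonne h2 Q₁ h₁) g₁
  have hws : ∀ w ∈ vs.map (fun v => (Sum.elim v 0 : Fin k ⊕ Fin l → F)), sumQF Q₁ Q₂ w ≠ 0 := by
    intro w hw
    obtain ⟨v, hv, rfl⟩ := List.mem_map.mp hw
    rw [sumQF_inl]
    exact hvs v hv
  have m1 := master h2 Q₁ g₁ vs hvs (by rw [hgvs, prod_reflG'_coe Q₁ vs hvs])
  have m2 := master h2 (sumQF Q₁ Q₂) (embL Q₁ Q₂ g₁)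
    (vs.map (fun v => (Sum.elim v 0 : Fin k ⊕ Fin l → F))) hws
    (by rw [hgvs, embL_prod_coe Q₁ Q₂ vs hvs])
  rw [m1]
  have := m2.mp hg
  rw [List.length_map, List.map_map] at this
  have e : (vs.map ((fun v => (sumQF Q₁ Q₂) v) ∘ fun v => (Sum.elim v 0 : Fin k ⊕ Fin l → F)))
      = vs.map (fun v => Q₁ v) := by
    apply List.map_congr_left
    intro v _
    rw [Function.comp_apply, sumQF_inl]
  rw [e] at this
  exact this

/-- For an orthogonal direct sum Q = Q₁ ⊕ Q₂ of quadratic forms with non-degenerate polar forms over a finite field, an isometry g₁ of Q₁ extended by the identity on the second summand lies in Ω(Q) (the commutator subgroup of the orthogonal group of Q) if and only if g₁ lies in Ω(Q₁). (Excluded: the field of two elements when the first summand or the whole space has dimension 4, where the commutator subgroup of O⁺₄(2) is smaller than the group usually called Ω.) -/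
theorem result {F : Type*} [Field F] [Fintype F] {k l : ℕ} (h : Fintype.card F ≠ 2 ∨ (k ≠ 4 ∧ k + l ≠ 4)) (Q₁ : QuadraticForm F (Fin k → F)) (Q₂ : QuadraticForm F (Fin l → F)) (h₁ : (QuadraticMap.polarBilin Q₁).Nondegenerate) (h₂ : (QuadraticMap.polarBilin Q₂).Nondegenerate) (g₁ : ↥(Cfsg.isometryGroup F ⇑Q₁)) : (∃ g : ↥(Cfsg.isometryGroup F (fun v : Fin k ⊕ Fin l → F => Q₁ (v ∘ Sum.inl) + Q₂ (v ∘ Sum.inr))), g ∈ Cfsg.Omega F (fun v : Fin k ⊕ Fin l → F => Q₁ (v ∘ Sum.inl) + Q₂ (v ∘ Sum.inr)) ∧ ((g : Matrix.GeneralLinearGroup (Fin k ⊕ Fin l) F) : Matrix (Fin k ⊕ Fin l) (Fin k ⊕ Fin l) F) = Matrix.fromBlocks ((g₁ : Matrix.GeneralLinearGroup (Fin k) F) : Matrix (Fin k) (Fin k) F) 0 0 1) ↔ g₁ ∈ Cfsg.Omega F ⇑Q₁ := by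
  constructor
  · rintro ⟨g, hg, hgm⟩
    have hge : g = embL Q₁ Q₂ g₁ := iso_ext' _ _ _ (by rw [hgm]; rfl)
    rw [hge] at hg
    by_cases h2 : (2 : F) = 0
    · have : CharP F 2 := CharTwo.of_one_ne_zero_of_two_eq_zero one_ne_zero h2
      have hnd := sumQF_nondeg Q₁ Q₂ h₁ h₂
      have h' : Fintype.card F ≠ 2 ∨ Fintype.card (Fin k) ≠ 4 := by
        rw [Fintype.card_fin]
        rcases h with h | h
        · exact Or.inl h
        · exact Or.inr h.1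
      have hd : C2.dickson (sumQF Q₁ Q₂) hnd (embL Q₁ Q₂ g₁) = 1 :=
        MonoidHom.mem_ker.mp (Abelianization.commutator_subset_ker _ hg)
      apply (C2.ker_eq_omega Q₁ h₁ h' ((C2.dickson (sumQF Q₁ Q₂) hnd).comp (embL Q₁ Q₂)) ?_ g₁).mp hd
      intro u hu
      have hu' : sumQF Q₁ Q₂ (Sum.elim u 0) ≠ 0 := by rw [sumQF_inl]; exact hu
      have e1 : embL Q₁ Q₂ (CDG.refl Q₁ u hu) = CDG.refl (sumQF Q₁ Q₂) (Sum.elim u 0) hu' := by
        apply iso_ext'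
        rw [embL_coe, CDG.refl_coe, CDG.refl_coe, embL_refl_coe]
      rw [MonoidHom.comp_apply, e1, C2.dickson_refl]
    · exact odd_case h2 Q₁ Q₂ h₁ g₁ hg
  · intro hg
    exact ⟨embL Q₁ Q₂ g₁, embL_mem_omega Q₁ Q₂ g₁ hg, rfl⟩

end Cfsg.Agent.S2627
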