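import Cfsg.Statements.S2628
import Cfsg.Agent.Lib.Helper16.SumQF2
import Cfsg.Agent.Lib.Helper16.Char2H

set_option autoImplicit false
open Cfsg
open Cfsg.Agent.Lib.Helper16
open Cfsg.Agent.Lib.helper6
open Matrix Module

namespace Cfsg.Agent.S2628

/-- For the orthogonal direct sum Q ⊕ Q of two copies of a quadratic form Q with non-degenerate polar form on F^k (F finite), every isometry g of Q acting diagonally, diag(g, g), lies in Ω(Q ⊕ Q), the commutator subgroup of the orthogonal group of Q ⊕ Q. (Excluded: k = 2 over the field of two elements, where Q ⊕ Q is the hyperbolic 4-space whose orthogonal group's commutator subgroup is smaller than the group usually called Ω.) -/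
theorem result {F : Type*} [Field F] [Fintype F] {k : ℕ} (h : Fintype.card F ≠ 2 ∨ k ≠ 2) (Q : QuadraticForm F (Fin k → F)) (hQ : (QuadraticMap.polarBilin Q).Nondegenerate) (g : ↥(Cfsg.isometryGroup F ⇑Q)) : ∃ x : ↥(Cfsg.isometryGroup F (fun v : Fin k ⊕ Fin k → F => Q (v ∘ Sum.inl) + Q (v ∘ Sum.inr))), x ∈ Cfsg.Omega F (fun v : Fin k ⊕ Fin k → F => Q (v ∘ Sum.inl) + Q (v ∘ Sum.inr)) ∧ ((x : Matrix.GeneralLinearGroup (Fin k ⊕ Fin k) F) : Matrix (Fin k ⊕ Fin k) (Fin k ⊕ Fin k) F) = Matrix.fromBlocks ((g : Matrix.GeneralLinearGroup (Fin k) F) : Matrix (Fin k) (Fin k) F) 0 0 ((g : Matrix.GeneralLinearGroup (Fin k) F) : Matrix (Fin k) (Fin k) F) := by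
  have hnd := sumQF_nondeg Q Q hQ hQ
  have hgen : Subgroup.closure (CDG.Rset (sumQF Q Q)) = ⊤ := by
    by_cases h2 : (2 : F) = 0
    · have : CharP F 2 := CharTwo.of_one_ne_zero_of_two_eq_zero one_ne_zero h2
      apply C2.generation (sumQF Q Q) hnd
      rcases h with h | h
      · exact Or.inl h
      · right
        rw [Fintype.card_sum, Fintype.card_fin]
        omega
    · exact CDG.cartan_dieudonne h2 (sumQF Q Q) hnd
  refine ⟨embL Q Q g * embR Q Q g, double_mem_omega Q hgen g, ?_⟩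
  show Matrix.fromBlocks ((g : GL (Fin k) F) : Matrix (Fin k) (Fin k) F) 0 0 1 *
    Matrix.fromBlocks 1 0 0 ((g : GL (Fin k) F) : Matrix (Fin k) (Fin k) F) = _
  rw [Matrix.fromBlocks_multiply]
  simp

end Cfsg.Agent.S2628
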