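import Cfsg.Statements.S2629
import Cfsg.Agent.Lib.Helper16.FamRefl
import Cfsg.Agent.Lib.Helper16.PlusFam

set_option autoImplicit false
open Cfsg
open Cfsg.Agent.Lib.Helper16
open Matrix Module

namespace Cfsg.Agent.S2629

/-- For the hyperbolic form Σ x_i y_i on F^(2m) over a finite field of odd order (m ≥ 1), an isometry g preserves the class of the maximal totally singular subspace U₀ = {y = 0} (that is, m − dim(U₀ ∩ gU₀) is even) if and only if det g = 1: the stabiliser of each of the two classes of maximal totally singular subspaces is SO. -/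
theorem result {F : Type*} [Field F] [Fintype F] (h2 : (2 : F) ≠ 0) {m : ℕ} (hm : 1 ≤ m) (g : ↥(Cfsg.isometryGroup F (Cfsg.quadFormPlus m F))) : Even (m - Module.finrank F ↥(LinearMap.ker (LinearMap.funLeft F F (Sum.inr : Fin m → Fin m ⊕ Fin m)) ⊓ (LinearMap.ker (LinearMap.funLeft F F (Sum.inr : Fin m → Fin m ⊕ Fin m))).map (Matrix.mulVecLin ((g : Matrix.GeneralLinearGroup (Fin m ⊕ Fin m) F) : Matrix (Fin m ⊕ Fin m) (Fin m ⊕ Fin m) F)))) ↔ ((g : Matrix.GeneralLinearGroup (Fin m ⊕ Fin m) F) : Matrix (Fin m ⊕ Fin m) (Fin m ⊕ Fin m) F).det = 1 := by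
  have hfam := famChar_det h2 (qfPlus m F) (qfPlus_nondeg m F) (card_plus_index m) (EPlus m F)
    EPlus_TS EPlus_finrank g
  have hiff := famChar_eq_one_iff (qfPlus m F) m (EPlus m F) g
  have hle : finrank F ↥(EPlus m F ⊓ (EPlus m F).map (Matrix.mulVecLin
      ((g : GL (Fin m ⊕ Fin m) F) : Matrix (Fin m ⊕ Fin m) (Fin m ⊕ Fin m) F))) ≤ m := by
    have := Submodule.finrank_mono (inf_le_left : EPlus m F ⊓ (EPlus m F).map (Matrix.mulVecLin
      ((g : GL (Fin m ⊕ Fin m) F) : Matrix (Fin m ⊕ Fin m) (Fin m ⊕ Fin m) F)) ≤ EPlus m F)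
    rw [EPlus_finrank] at this
    exact this
  have hpar : Even (m - finrank F ↥(EPlus m F ⊓ (EPlus m F).map (Matrix.mulVecLin
      ((g : GL (Fin m ⊕ Fin m) F) : Matrix (Fin m ⊕ Fin m) (Fin m ⊕ Fin m) F)))) ↔
      Even (m + finrank F ↥(EPlus m F ⊓ (EPlus m F).map (Matrix.mulVecLin
      ((g : GL (Fin m ⊕ Fin m) F) : Matrix (Fin m ⊕ Fin m) (Fin m ⊕ Fin m) F)))) := by
    rw [Nat.even_sub hle, Nat.even_add]
  show Even (m - finrank F ↥(EPlus m F ⊓ (EPlus m F).map (Matrix.mulVecLin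
      ((g : GL (Fin m ⊕ Fin m) F) : Matrix (Fin m ⊕ Fin m) (Fin m ⊕ Fin m) F)))) ↔ _
  rw [hpar, ← hiff]
  have hne : (-1 : F) ≠ 1 := by
    intro h
    apply h2
    have : (2 : F) = 1 - (-1) := by ring
    rw [this, h]; ring
  rcases hfam with ⟨h1, h3⟩ | ⟨h1, h3⟩
  · rw [h1, h3]
    exact ⟨fun _ => rfl, fun _ => rfl⟩
  · rw [h1, h3]
    constructor
    · intro h; exact absurd h (by decide)
    · intro h; exact absurd h hne

end Cfsg.Agent.S2629
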