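import Cfsg.Statements.S2630
import Cfsg.Agent.Lib.Helper16.Char2J
import Cfsg.Agent.Lib.Helper16.PlusFam

set_option autoImplicit false
open Cfsg
open Cfsg.Agent.Lib.Helper16
open Matrix Module

namespace Cfsg.Agent.S2630

/-- For the hyperbolic form Σ x_i y_i on F^(2m) over a finite field of characteristic two (m ≥ 1, excluding m = 2 over the field of two elements), an isometry g preserves the class of the maximal totally singular subspace U₀ = {y = 0} (m − dim(U₀ ∩ gU₀) even) if and only if g lies in Ω (the commutator subgroup of the orthogonal group): the stabiliser of each class is Ω. -/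
theorem result {F : Type*} [Field F] [Fintype F] [CharP F 2] {m : ℕ} (hm : 1 ≤ m) (h : Fintype.card F ≠ 2 ∨ m ≠ 2) (g : ↥(Cfsg.isometryGroup F (Cfsg.quadFormPlus m F))) : Even (m - Module.finrank F ↥(LinearMap.ker (LinearMap.funLeft F F (Sum.inr : Fin m → Fin m ⊕ Fin m)) ⊓ (LinearMap.ker (LinearMap.funLeft F F (Sum.inr : Fin m → Fin m ⊕ Fin m))).map (Matrix.mulVecLin ((g : Matrix.GeneralLinearGroup (Fin m ⊕ Fin m) F) : Matrix (Fin m ⊕ Fin m) (Fin m ⊕ Fin m) F)))) ↔ g ∈ Cfsg.Omega F (Cfsg.quadFormPlus m F) := by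
  have h' : Fintype.card F ≠ 2 ∨ Fintype.card (Fin m ⊕ Fin m) ≠ 4 := by
    rw [card_plus_index]
    rcases h with h | h
    · exact Or.inl h
    · right; omega
  have hiff := famChar_eq_one_iff (qfPlus m F) m (EPlus m F) g
  have hle : finrank F ↥(EPlus m F ⊓ (EPlus m F).map (Matrix.mulVecLin
      ((g : GL (Fin m ⊕ Fin m) F) : Matrix (Fin m ⊕ Fin m) (Fin m ⊕ Fin m) F))) ≤ m := by
    have := Submodule.finrank_mono (inf_le_left : EPlus m F ⊓ (EPlus m F).map (Matrix.mulVecLin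
      ((g : GL (Fin m ⊕ Fin m) F) : Matrix (Fin m ⊕ Fin m) (Fin m ⊕ Fin m) F)) ≤ EPlus m F)
    rw [EPlus_finrank] at this
    exact this
  have hpar : Even (m - finrank F ↥(EPlus m F ⊓ (EPlus m F).map (Matrix.mulVecLin
      ((g : GL (Fin m ⊕ Fin m) F) : Matrix (Fin m ⊕ Fin m) (Fin m ⊕ Fin m) F)))) ↔
      Even (m + finrank F ↥(EPlus m F ⊓ (EPlus m F).map (Matrix.mulVecLin
      ((g : GL (Fin m ⊕ Fin m) F) : Matrix (Fin m ⊕ Fin m) (Fin m ⊕ Fin m) F)))) := by
    rw [Nat.even_sub hle, Nat.even_add]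
  show Even (m - finrank F ↥(EPlus m F ⊓ (EPlus m F).map (Matrix.mulVecLin
      ((g : GL (Fin m ⊕ Fin m) F) : Matrix (Fin m ⊕ Fin m) (Fin m ⊕ Fin m) F)))) ↔ _
  rw [hpar, ← hiff]
  exact C2.ker_eq_omega (qfPlus m F) (qfPlus_nondeg m F) h'
    (famCharHom (qfPlus m F) (qfPlus_nondeg m F) (card_plus_index m) (EPlus m F)
      EPlus_TS EPlus_finrank)
    (fun u hu => famChar_refl (qfPlus m F) (qfPlus_nondeg m F) (card_plus_index m) (EPlus m F)
      EPlus_TS EPlus_finrank _ u hu rfl) g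

end Cfsg.Agent.S2630
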