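import Cfsg.Statements.S2631
import Cfsg.Agent.Lib.Helper16.SpinAdjust
import Cfsg.Agent.Lib.Helper16.WittMat
import Cfsg.Agent.Lib.Helper16.Char2J
import Cfsg.Agent.Lib.Helper16.PlusFam

set_option autoImplicit false
open Cfsg
open Cfsg.Agent.Lib.Helper16
open Cfsg.Agent.Lib.helper6
open Matrix Module

namespace Cfsg.Agent.S2631

/-- For the hyperbolic form Σ x_i y_i on F^(2m) over a finite field (m ≥ 1, excluding m = 2 over the field of two elements), Ω (the commutator subgroup of the orthogonal group) acts transitively on each of the two classes of maximal totally singular subspaces: if U and W are m-dimensional totally singular subspaces with m − dim(U ∩ W) even, some element of Ω carries U to W. -/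
theorem result {F : Type*} [Field F] [Fintype F] {m : ℕ} (hm : 1 ≤ m) (h : Fintype.card F ≠ 2 ∨ m ≠ 2) (U W : Submodule F (Fin m ⊕ Fin m → F)) (hU : Module.finrank F U = m) (hW : Module.finrank F W = m) (hU0 : ∀ u ∈ U, Cfsg.quadFormPlus m F u = 0) (hW0 : ∀ w ∈ W, Cfsg.quadFormPlus m F w = 0) (he : Even (m - Module.finrank F ↥(U ⊓ W))) : ∃ g : ↥(Cfsg.isometryGroup F (Cfsg.quadFormPlus m F)), g ∈ Cfsg.Omega F (Cfsg.quadFormPlus m F) ∧ U.map (Matrix.mulVecLin ((g : Matrix.GeneralLinearGroup (Fin m ⊕ Fin m) F) : Matrix (Fin m ⊕ Fin m) (Fin m ⊕ Fin m) F)) = W := by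
  have hQ := qfPlus_nondeg m F
  have hcard := card_plus_index m
  have hUts : TS (qfPlus m F) U := hU0
  have hWts : TS (qfPlus m F) W := hW0
  obtain ⟨g0, _, hg0⟩ := witt_matrix (qfPlus m F) hQ U W
    (LinearEquiv.ofFinrankEq U W (by rw [hU, hW]))
    (by
      intro x
      have h1 : (qfPlus m F) ((LinearEquiv.ofFinrankEq U W (by rw [hU, hW]) x : W) :
        Fin m ⊕ Fin m → F) = 0 := hW0 _ (Subtype.mem _)
      have h2 : (qfPlus m F) (x : Fin m ⊕ Fin m → F) = 0 := hU0 _ x.2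
      rw [h1, h2])
  have hle : finrank F ↥(U ⊓ W) ≤ m := by
    have := Submodule.finrank_mono (inf_le_left : U ⊓ W ≤ U)
    rw [hU] at this
    exact this
  have hchi : famChar (qfPlus m F) m U g0 = 1 := by
    rw [famChar_eq_one_iff, hg0]
    rw [Nat.even_sub hle] at he
    rw [Nat.even_add]
    exact he
  by_cases h2 : (2 : F) = 0
  · have : CharP F 2 := CharTwo.of_one_ne_zero_of_two_eq_zero one_ne_zero h2
    have h' : Fintype.card F ≠ 2 ∨ Fintype.card (Fin m ⊕ Fin m) ≠ 4 := by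
      rw [card_plus_index]
      rcases h with h | h
      · exact Or.inl h
      · right; omega
    refine ⟨g0, ?_, hg0⟩
    exact (C2.ker_eq_omega (qfPlus m F) hQ h'
      (famCharHom (qfPlus m F) hQ hcard U hUts hU)
      (fun u hu => famChar_refl (qfPlus m F) hQ hcard U hUts hU _ u hu rfl) g0).mp hchi
  · have hdet : ((g0 : GL (Fin m ⊕ Fin m) F) : Matrix (Fin m ⊕ Fin m) (Fin m ⊕ Fin m) F).det = 1 := by
      rcases famChar_det h2 (qfPlus m F) hQ hcard U hUts hU g0 with ⟨_, h3⟩ | ⟨h1, _⟩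
      · exact h3
      · rw [hchi] at h1
        exact absurd h1 (by decide)
    have hWne : W ≠ ⊥ := by
      intro hbot
      rw [hbot, finrank_bot] at hW
      omega
    obtain ⟨w, hwW, hw0⟩ := Submodule.exists_mem_ne_zero_of_ne_bot hWne
    obtain ⟨hh, hmem, hfix⟩ := spin_adjust h2 (qfPlus m F) hQ g0 hdet w hw0 (hW0 w hwW)
    refine ⟨hh * g0, hmem, ?_⟩
    have e1 : U.map (Matrix.mulVecLin (((hh * g0 : ↥(Cfsg.isometryGroup F ⇑(qfPlus m F))) :
        GL (Fin m ⊕ Fin m) F) : Matrix (Fin m ⊕ Fin m) (Fin m ⊕ Fin m) F))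
        = (U.map (Matrix.mulVecLin ((g0 : GL (Fin m ⊕ Fin m) F) :
          Matrix (Fin m ⊕ Fin m) (Fin m ⊕ Fin m) F))).map (Matrix.mulVecLin
          ((hh : GL (Fin m ⊕ Fin m) F) : Matrix (Fin m ⊕ Fin m) (Fin m ⊕ Fin m) F)) :=
      map_mul_GL hh.1 g0.1 U
    show U.map (Matrix.mulVecLin (((hh * g0 : ↥(Cfsg.isometryGroup F ⇑(qfPlus m F))) :
        GL (Fin m ⊕ Fin m) F) : Matrix (Fin m ⊕ Fin m) (Fin m ⊕ Fin m) F)) = W
    rw [e1, hg0]
    exact map_eq_of_shift (qfPlus m F) hh W hWts w hwW hfix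

end Cfsg.Agent.S2631
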