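import Cfsg.Statements.S2632
import Cfsg.Agent.Lib.Helper16.SpinAdjust2
import Cfsg.Agent.Lib.Helper16.WittMat
import Cfsg.Agent.Lib.Helper16.Char2K

set_option autoImplicit false
open Cfsg
open Cfsg.Agent.Lib.Helper16
open Cfsg.Agent.Lib.helper6
open Matrix Module

namespace Cfsg.Agent.S2632

/-- Ω is transitive on non-degenerate subspaces of each isometry type: for a quadratic form Q on F^n, n ≥ 3, with non-degenerate polar form (F finite; excluding dimension 4 over the field of two elements), if U and W are subspaces on which the polar form is non-degenerate and there is a Q-preserving linear isomorphism U → W, then some element of Ω (the commutator subgroup of the orthogonal group) carries U to W. (In dimension 2 this fails: Ω can be {±1}, which fixes every line.) -/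
theorem result {F : Type*} [Field F] [Fintype F] {n : ℕ} (hn : 3 ≤ n) (h : Fintype.card F ≠ 2 ∨ n ≠ 4) (Q : QuadraticForm F (Fin n → F)) (hQ : (QuadraticMap.polarBilin Q).Nondegenerate) (U W : Submodule F (Fin n → F)) (hU : U ⊓ LinearMap.BilinForm.orthogonal (QuadraticMap.polarBilin Q) U = ⊥) (hW : W ⊓ LinearMap.BilinForm.orthogonal (QuadraticMap.polarBilin Q) W = ⊥) (e : U ≃ₗ[F] W) (he : ∀ u : U, Q (e u : Fin n → F) = Q (u : Fin n → F)) : ∃ g : ↥(Cfsg.isometryGroup F ⇑Q), g ∈ Cfsg.Omega F ⇑Q ∧ U.map (Matrix.mulVecLin ((g : Matrix.GeneralLinearGroup (Fin n) F) : Matrix (Fin n) (Fin n) F)) = W := by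
  classical
  obtain ⟨g0, _, hg0⟩ := witt_matrix Q hQ U W e he
  by_cases hWbot : W = ⊥
  · refine ⟨1, Subgroup.one_mem _, ?_⟩
    have hUbot : U = ⊥ := by
      have h1 : finrank F U = finrank F W := e.finrank_eq
      rw [hWbot, finrank_bot] at h1
      exact Submodule.finrank_eq_zero.mp h1
    rw [hUbot, hWbot, Submodule.map_bot]
  obtain ⟨u, huW, hu⟩ := exists_nonsing_mem Q W hW hWbot
  by_cases h2 : (2 : F) = 0
  · have : CharP F 2 := CharTwo.of_one_ne_zero_of_two_eq_zero one_ne_zero h2
    have h' : Fintype.card F ≠ 2 ∨ Fintype.card (Fin n) ≠ 4 := by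
      rw [Fintype.card_fin]; exact h
    rcases Int.units_eq_one_or (C2.dickson Q hQ g0) with h1 | h1
    · exact ⟨g0, (C2.dickson_eq_one_iff Q hQ h' g0).mp h1, hg0⟩
    · refine ⟨CDG.refl Q u hu * g0, ?_, ?_⟩
      · rw [← C2.dickson_eq_one_iff Q hQ h', map_mul, C2.dickson_refl, h1]
        decide
      · have e1 : U.map (Matrix.mulVecLin (((CDG.refl Q u hu * g0 : ↥(Cfsg.isometryGroup F ⇑Q)) :
            GL (Fin n) F) : Matrix (Fin n) (Fin n) F))
            = (U.map (Matrix.mulVecLin ((g0 : GL (Fin n) F) : Matrix (Fin n) (Fin n) F))).map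
              (Matrix.mulVecLin ((CDG.refl Q u hu : GL (Fin n) F) : Matrix (Fin n) (Fin n) F)) :=
          map_mul_GL (CDG.refl Q u hu).1 g0.1 U
        rw [e1, hg0]
        exact reflG_map_of_mem Q u hu W huW
  · have hfr : finrank F W + finrank F (CDG.perp Q W) = n := by
      have h3 := LinearMap.BilinForm.finrank_orthogonal (B := QuadraticMap.polarBilin Q) hQ W
      have hle := Submodule.finrank_le W
      rw [Module.finrank_fin_fun] at h3 hle
      have : finrank F (CDG.perp Q W) = n - finrank F W := h3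
      omega
    obtain ⟨X, hXnd, hXdim, hXstab⟩ : ∃ X : Submodule F (Fin n → F),
        X ⊓ CDG.perp Q X = ⊥ ∧ 2 ≤ finrank F X ∧
        ∀ (a : Fin n → F) (ha : Q a ≠ 0), a ∈ X →
          W.map (Matrix.mulVecLin ((reflG Q a ha : GL (Fin n) F) : Matrix (Fin n) (Fin n) F)) = W := by
      by_cases hd : 2 ≤ finrank F W
      · exact ⟨W, hW, hd, fun a ha haX => reflG_map_of_mem Q a ha W haX⟩
      · exact ⟨CDG.perp Q W, perp_nondeg Q hQ W hW, by omega,
          fun a ha haX => reflG_map_of_perp Q a ha W haX⟩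
    have hchar : ringChar F ≠ 2 := by
      intro hc
      apply h2
      have : CharP F 2 := by rw [← hc]; exact ringChar.charP F
      exact CharTwo.two_eq_zero
    obtain ⟨ns, hns⟩ := FiniteField.exists_nonsquare hchar
    have hns0 : ns ≠ 0 := by rintro rfl; exact hns IsSquare.zero
    obtain ⟨a, haX, hQa⟩ := exists_repr h2 Q X hXnd hXdim 1 one_ne_zero
    obtain ⟨b, hbX, hQb⟩ := exists_repr h2 Q X hXnd hXdim ns hns0
    have ha : Q a ≠ 0 := by rw [hQa]; exact one_ne_zero
    have hb : Q b ≠ 0 := by rw [hQb]; exact hns0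
    obtain ⟨hh, hmem, hcases⟩ := spin_adjust2 h2 Q hQ g0 a b ha hb
      (by rw [hQa]; exact IsSquare.one) (by rw [hQb]; exact hns)
    refine ⟨hh * g0, hmem, ?_⟩
    have e1 : U.map (Matrix.mulVecLin (((hh * g0 : ↥(Cfsg.isometryGroup F ⇑Q)) :
        GL (Fin n) F) : Matrix (Fin n) (Fin n) F))
        = (U.map (Matrix.mulVecLin ((g0 : GL (Fin n) F) : Matrix (Fin n) (Fin n) F))).map
          (Matrix.mulVecLin ((hh : GL (Fin n) F) : Matrix (Fin n) (Fin n) F)) :=
      map_mul_GL hh.1 g0.1 U
    rw [e1, hg0]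
    rcases hcases with rfl | rfl | rfl | rfl
    · show W.map (Matrix.mulVecLin (1 : Matrix (Fin n) (Fin n) F)) = W
      rw [Matrix.mulVecLin_one]
      exact Submodule.map_id W
    · exact hXstab a ha haX
    · exact hXstab b hb hbX
    · have e2 : W.map (Matrix.mulVecLin (((reflG Q a ha * reflG Q b hb :
          ↥(Cfsg.isometryGroup F ⇑Q)) : GL (Fin n) F) : Matrix (Fin n) (Fin n) F))
          = (W.map (Matrix.mulVecLin ((reflG Q b hb : GL (Fin n) F) : Matrix (Fin n) (Fin n) F))).map
            (Matrix.mulVecLin ((reflG Q a ha : GL (Fin n) F) : Matrix (Fin n) (Fin n) F)) :=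
        map_mul_GL (reflG Q a ha).1 (reflG Q b hb).1 W
      rw [e2]
      have e3 := hXstab b hb hbX
      have e4 := hXstab a ha haX
      rw [e3, e4]

end Cfsg.Agent.S2632
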