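import Cfsg.Statements.S2633
import Cfsg.Agent.Lib.Helper16.SpinAdjust
import Cfsg.Agent.Lib.Helper16.WittMat
import Cfsg.Agent.Lib.Helper16.Char2K

set_option autoImplicit false
open Cfsg
open Cfsg.Agent.Lib.Helper16
open Cfsg.Agent.Lib.helper6
open Matrix Module

namespace Cfsg.Agent.S2633

theorem map_refl_eq {F : Type*} [Field F] {n : ℕ} (Q : QuadraticForm F (Fin n → F))
    (W : Submodule F (Fin n → F)) (u : Fin n → F) (hu : Q u ≠ 0)
    (huW : ∀ x ∈ W, QuadraticMap.polar (⇑Q) u x = 0) :
    W.map (Matrix.mulVecLin ((reflG Q u hu : GL (Fin n) F) : Matrix (Fin n) (Fin n) F)) = W := by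
  ext y
  simp only [Submodule.mem_map, Matrix.mulVecLin_apply]
  constructor
  · rintro ⟨x, hx, rfl⟩
    rw [reflG_coe, CDG.refl_fix_polar Q u x (huW x hx)]
    exact hx
  · intro hy
    exact ⟨y, hy, by rw [reflG_coe, CDG.refl_fix_polar Q u y (huW y hy)]⟩

theorem exists_nonsing_perp {F : Type*} [Field F] {n : ℕ} (Q : QuadraticForm F (Fin n → F))
    (hQ : (QuadraticMap.polarBilin Q).Nondegenerate) (W : Submodule F (Fin n → F)) {k : ℕ}
    (hk : 2 * k < n) (hW : finrank F W = k) :
    ∃ u : Fin n → F, Q u ≠ 0 ∧ ∀ x ∈ W, QuadraticMap.polar (⇑Q) u x = 0 := by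
  by_contra hcon
  push Not at hcon
  have hTS : TS Q (CDG.perp Q W) := by
    intro u hu
    by_contra hne
    obtain ⟨x, hx, hux⟩ := hcon u hne
    apply hux
    rw [QuadraticMap.polar_comm]
    exact (CDG.mem_perp Q W u).mp hu x hx
  have h1 := Submodule.finrank_mono hTS.le_orthogonal
  have h2 : finrank F ↥(CDG.perp Q W) = finrank F (Fin n → F) - finrank F W :=
    LinearMap.BilinForm.finrank_orthogonal hQ W
  have h3 : finrank F ↥(LinearMap.BilinForm.orthogonal (QuadraticMap.polarBilin Q) (CDG.perp Q W))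
      = finrank F (Fin n → F) - finrank F ↥(CDG.perp Q W) :=
    LinearMap.BilinForm.finrank_orthogonal hQ _
  have h4 : finrank F (Fin n → F) = n := by rw [Module.finrank_pi, Fintype.card_fin]
  omega

/-- Ω is transitive on totally singular subspaces of each dimension less than half the dimension: for a quadratic form Q on F^n with non-degenerate polar form (F finite; excluding dimension 4 over the field of two elements), if U and W are subspaces of the same dimension k with 2k < n on which Q vanishes, then some element of Ω (the commutator subgroup of the orthogonal group) carries U to W. -/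
theorem result {F : Type*} [Field F] [Fintype F] {n : ℕ} (h : Fintype.card F ≠ 2 ∨ n ≠ 4) (Q : QuadraticForm F (Fin n → F)) (hQ : (QuadraticMap.polarBilin Q).Nondegenerate) (U W : Submodule F (Fin n → F)) {k : ℕ} (hk : 2 * k < n) (hU : Module.finrank F U = k) (hW : Module.finrank F W = k) (hU0 : ∀ u ∈ U, Q u = 0) (hW0 : ∀ w ∈ W, Q w = 0) : ∃ g : ↥(Cfsg.isometryGroup F ⇑Q), g ∈ Cfsg.Omega F ⇑Q ∧ U.map (Matrix.mulVecLin ((g : Matrix.GeneralLinearGroup (Fin n) F) : Matrix (Fin n) (Fin n) F)) = W := by
  have h' : Fintype.card F ≠ 2 ∨ Fintype.card (Fin n) ≠ 4 := by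
    rw [Fintype.card_fin]; exact h
  have hUts : TS Q U := hU0
  have hWts : TS Q W := hW0
  obtain ⟨g0, _, hg0⟩ := witt_matrix Q hQ U W
    (LinearEquiv.ofFinrankEq U W (by rw [hU, hW]))
    (by
      intro x
      have h1 : Q ((LinearEquiv.ofFinrankEq U W (by rw [hU, hW]) x : W) : Fin n → F) = 0 :=
        hW0 _ (Subtype.mem _)
      have h2 : Q (x : Fin n → F) = 0 := hU0 _ x.2
      rw [h1, h2])
  obtain ⟨u, hu, huW⟩ := exists_nonsing_perp Q hQ W hk hW
  have hmapmul : ∀ a b : ↥(Cfsg.isometryGroup F ⇑Q),
      U.map (Matrix.mulVecLin (((a * b : ↥(Cfsg.isometryGroup F ⇑Q)) : GL (Fin n) F) :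
        Matrix (Fin n) (Fin n) F))
      = (U.map (Matrix.mulVecLin ((b : GL (Fin n) F) : Matrix (Fin n) (Fin n) F))).map
        (Matrix.mulVecLin ((a : GL (Fin n) F) : Matrix (Fin n) (Fin n) F)) :=
    fun a b => map_mul_GL a.1 b.1 U
  by_cases h2 : (2 : F) = 0
  · have : CharP F 2 := CharTwo.of_one_ne_zero_of_two_eq_zero one_ne_zero h2
    rcases Int.units_eq_one_or (C2.dickson Q hQ g0) with hd | hd
    · exact ⟨g0, (C2.dickson_eq_one_iff Q hQ h' g0).mp hd, hg0⟩
    · refine ⟨reflG Q u hu * g0, ?_, ?_⟩
      · rw [← C2.dickson_eq_one_iff Q hQ h', map_mul, hd]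
        have e : reflG Q u hu = CDG.refl Q u hu := iso_ext' _ _ _ rfl
        rw [e, C2.dickson_refl]
        decide
      · rw [hmapmul, hg0]
        exact map_refl_eq Q W u hu huW
  · -- odd characteristic
    by_cases hk0 : k = 0
    · refine ⟨1, Subgroup.one_mem _, ?_⟩
      have hUb : U = ⊥ := by
        rw [← Submodule.finrank_eq_zero (R := F)]
        rw [hU, hk0]
      have hWb : W = ⊥ := by
        rw [← Submodule.finrank_eq_zero (R := F)]
        rw [hW, hk0]
      rw [hUb, hWb, Submodule.map_bot]
    · have hWne : W ≠ ⊥ := by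
        intro hbot
        rw [hbot, finrank_bot] at hW
        omega
      obtain ⟨w, hwW, hw0⟩ := Submodule.exists_mem_ne_zero_of_ne_bot hWne
      -- make determinant one
      obtain ⟨g1, hg1det, hg1⟩ : ∃ g1 : ↥(Cfsg.isometryGroup F ⇑Q),
          ((g1 : GL (Fin n) F) : Matrix (Fin n) (Fin n) F).det = 1 ∧
          U.map (Matrix.mulVecLin ((g1 : GL (Fin n) F) : Matrix (Fin n) (Fin n) F)) = W := by
        obtain ⟨vs, hvs, hgvs⟩ := exists_list_of_gen Q (CDG.cartan_dieudonne h2 Q hQ) g0
        by_cases hev : Even vs.length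
        · refine ⟨g0, ?_, hg0⟩
          have h1 := isoDet_prod Q vs hvs
          rw [← hgvs, hev.neg_one_pow] at h1
          have := congrArg Units.val h1
          rw [isoDet_coe] at this
          simpa using this
        · refine ⟨reflG Q u hu * g0, ?_, ?_⟩
          · have h1 := isoDet_prod Q (u :: vs) (by
              intro v hv
              rcases List.mem_cons.mp hv with rfl | hv
              · exact hu
              · exact hvs v hv)
            rw [List.map_cons, List.prod_cons, reflG'_eq Q u hu, ← hgvs, List.length_cons] at h1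
            rw [Nat.not_even_iff_odd] at hev
            have hev' : Even (vs.length + 1) := by
              obtain ⟨t, ht⟩ := hev
              exact ⟨t + 1, by omega⟩
            rw [hev'.neg_one_pow] at h1
            have := congrArg Units.val h1
            rw [isoDet_coe] at this
            simpa using this
          · rw [hmapmul, hg0]
            exact map_refl_eq Q W u hu huW
      obtain ⟨hh, hmem, hfix⟩ := spin_adjust h2 Q hQ g1 hg1det w hw0 (hW0 w hwW)
      refine ⟨hh * g1, hmem, ?_⟩
      rw [hmapmul, hg1]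
      exact map_eq_of_shift Q hh W hWts w hwW hfix

end Cfsg.Agent.S2633
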