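import Cfsg.Statements.S2634
import Cfsg.Agent.Lib.Helper16.Char2K

set_option autoImplicit false
open Cfsg
open Cfsg.Agent.Lib.Helper16
open Cfsg.Agent.Lib.helper6
open Matrix Module

namespace Cfsg.Agent.S2634

/-- Over a finite field of characteristic two, Ω (the commutator subgroup of the orthogonal group of a quadratic form Q on F^n with non-degenerate polar form; excluding dimension 4 over the field of two elements) acts transitively on the non-singular 1-spaces: for u, v with Q(u) ≠ 0 and Q(v) ≠ 0 some element of Ω carries the line through u to the line through v. -/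
theorem result {F : Type*} [Field F] [Fintype F] [CharP F 2] {n : ℕ} (h : Fintype.card F ≠ 2 ∨ n ≠ 4) (Q : QuadraticForm F (Fin n → F)) (hQ : (QuadraticMap.polarBilin Q).Nondegenerate) (u v : Fin n → F) (hu : Q u ≠ 0) (hv : Q v ≠ 0) : ∃ g : ↥(Cfsg.isometryGroup F ⇑Q), g ∈ Cfsg.Omega F ⇑Q ∧ (F ∙ ((g : Matrix.GeneralLinearGroup (Fin n) F) : Matrix (Fin n) (Fin n) F).mulVec u) = F ∙ v := by
  have h' : Fintype.card F ≠ 2 ∨ Fintype.card (Fin n) ≠ 4 := by
    rw [Fintype.card_fin]; exact h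
  obtain ⟨s, hs⟩ := C2.exists_sqrt (Q u)⁻¹
  obtain ⟨s', hs'⟩ := C2.exists_sqrt (Q v)⁻¹
  have hs0 : s ≠ 0 := by
    rintro rfl
    rw [mul_zero] at hs
    exact (inv_ne_zero hu) hs.symm
  have hs'0 : s' ≠ 0 := by
    rintro rfl
    rw [mul_zero] at hs'
    exact (inv_ne_zero hv) hs'.symm
  have hQu1 : Q (s • u) = 1 := by
    rw [QuadraticMap.map_smul, smul_eq_mul, hs, inv_mul_cancel₀ hu]
  have hQv1 : Q (s' • v) = 1 := by
    rw [QuadraticMap.map_smul, smul_eq_mul, hs', inv_mul_cancel₀ hv]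
  have hv1' : Q (s' • v) ≠ 0 := by rw [hQv1]; exact one_ne_zero
  obtain ⟨t, _, htu⟩ := C2.trans_nonsing Q hQ h' (s' • v) (s • u) hv1' (by rw [hQu1, hQv1])
  have key : ∃ g : ↥(Cfsg.isometryGroup F ⇑Q), g ∈ Cfsg.Omega F ⇑Q ∧
      ((g : GL (Fin n) F) : Matrix (Fin n) (Fin n) F) *ᵥ (s • u) = s' • v := by
    rcases Int.units_eq_one_or (C2.dickson Q hQ t) with hd | hd
    · exact ⟨t, (C2.dickson_eq_one_iff Q hQ h' t).mp hd, htu⟩
    · refine ⟨CDG.refl Q (s' • v) hv1' * t, ?_, ?_⟩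
      · rw [← C2.dickson_eq_one_iff Q hQ h', map_mul, hd, C2.dickson_refl]
        decide
      · rw [CDG.mul_mulVec, htu, CDG.refl_coe]
        exact C2.refl_fix_of_perp Q _ _ (C2.polar_self2 Q _)
  obtain ⟨g, hg, hgu⟩ := key
  refine ⟨g, hg, ?_⟩
  rw [Matrix.mulVec_smul] at hgu
  have h1 : ((g : GL (Fin n) F) : Matrix (Fin n) (Fin n) F).mulVec u = (s⁻¹ * s') • v := by
    have := congrArg (fun x => s⁻¹ • x) hgu
    simp only [smul_smul, inv_mul_cancel₀ hs0, one_smul] at this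
    exact this
  rw [h1]
  exact Submodule.span_singleton_smul_eq (IsUnit.mk0 _ (mul_ne_zero (inv_ne_zero hs0) hs'0)) v

end Cfsg.Agent.S2634
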