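import Cfsg.Statements.S2636
import Cfsg.Agent.Lib.Helper16.SemiFixed

set_option autoImplicit false
open Cfsg
open Cfsg.Agent.Lib.Helper16

namespace Cfsg.Agent.S2636

theorem result {F : Type*} [Field F] [Fintype F] {q₀ r n : ℕ} (hr : r.Prime) (hn : 1 ≤ n) (hF : Fintype.card F = q₀ ^ r) (σ : F ≃+* F) (hσ : orderOf σ = r) : Nat.card {g : GL (Fin n) F // ∃ c : F, c ≠ 0 ∧ (g : Matrix (Fin n) (Fin n) F).map σ = c • (g : Matrix (Fin n) (Fin n) F)} = (q₀ ^ r - 1) / (q₀ - 1) * ∏ i : Fin n, (q₀ ^ n - q₀ ^ (i : ℕ)) := by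
  classical
  set F₀ := FixedPoints.subfield (Subgroup.zpowers σ) F with hF₀def
  have hcard : Nat.card F₀ = q₀ := fixed_card hr hF σ hσ
  have hmem : ∀ x, x ∈ F₀ ↔ σ x = x := mem_fixed_iff σ
  have hcount := semifixed_count σ F₀ hmem hn
  have : Fintype F₀ := Fintype.ofFinite _
  have hq₀ : 2 ≤ q₀ := by
    rw [← hcard, Nat.card_eq_fintype_card]
    exact Fintype.one_lt_card
  have hU0 : Nat.card (↥F₀)ˣ = q₀ - 1 := by
    rw [Nat.card_units, hcard]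
  have hU : Nat.card Fˣ = q₀ ^ r - 1 := by
    rw [Nat.card_units, Nat.card_eq_fintype_card, hF]
  have hGL : Nat.card (GL (Fin n) F₀) = ∏ i : Fin n, (q₀ ^ n - q₀ ^ (i : ℕ)) := by
    rw [Matrix.card_GL_field, ← Nat.card_eq_fintype_card, hcard]
  rw [hU0, hU, hGL] at hcount
  obtain ⟨k, hk⟩ : q₀ - 1 ∣ q₀ ^ r - 1 := by
    have := Nat.sub_dvd_pow_sub_pow q₀ 1 r
    rwa [one_pow] at this
  have hpos : 0 < q₀ - 1 := by omega
  rw [hk, Nat.mul_div_cancel_left k hpos]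
  rw [hk] at hcount
  apply Nat.eq_of_mul_eq_mul_left hpos
  rw [mul_comm, hcount]
  ring

end Cfsg.Agent.S2636
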