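import Cfsg.Statements.S2638
import Cfsg.Agent.S2571

set_option autoImplicit false
open Cfsg

namespace Cfsg.Agent.S2638

open Module Polynomial

theorem minpoly_irred {F : Type*} [Field F] [Fintype F] {p q : ℕ} [Fact p.Prime] [CharP F p] (hF : Fintype.card F = q) {n r : ℕ} (hr : r.Prime) (hrp : r ≠ p) (hi : orderOf (q : ZMod r) = n)
    (M : Matrix (Fin n) (Fin n) F) (hXr : M ^ r = 1) (hX1 : M ≠ 1) :
    Irreducible (minpoly F M) ∧ (minpoly F M).natDegree = n := by
  have : Fact r.Prime := ⟨hr⟩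
  have hint : IsIntegral F M := Matrix.isIntegral M
  set μ := minpoly F M with hμ
  have hμ0 : μ ≠ 0 := minpoly.ne_zero hint
  have hdeg_le : μ.natDegree ≤ n := by
    have h1 := Matrix.minpoly_dvd_charpoly M
    have h2 := Polynomial.natDegree_le_of_dvd h1 (Matrix.charpoly_monic M).ne_zero
    rwa [Matrix.charpoly_natDegree_eq_dim, Fintype.card_fin] at h2
  have hdvd : μ ∣ cyclotomic r F * (X - 1 : F[X]) := by
    rw [cyclotomic_prime_mul_X_sub_one]
    apply minpoly.dvd
    simp [hXr]
  have hndvd : ¬ μ ∣ (X - 1 : F[X]) := by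
    intro h
    obtain ⟨c, hc⟩ := h
    have h1 := congrArg (Polynomial.aeval M) hc
    rw [map_mul, minpoly.aeval, zero_mul] at h1
    simp at h1
    exact hX1 (sub_eq_zero.mp h1)
  have hex : ∃ P : F[X], Irreducible P ∧ P ∣ μ ∧ P ∣ cyclotomic r F := by
    by_contra hcon
    push Not at hcon
    have hcop : IsCoprime μ (cyclotomic r F) :=
      isCoprime_of_irreducible_dvd (fun h => hμ0 h.1) (fun z hz hzμ => hcon z hz hzμ)
    exact hndvd (hcop.dvd_of_dvd_mul_left hdvd)
  obtain ⟨P, hPirr, hPμ, hPc⟩ := hex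
  obtain ⟨f, hf⟩ := FiniteField.card F p
  have hq : q = p ^ (f : ℕ) := by rw [← hF, hf.2]
  have hcop : p.Coprime r := by
    rw [Nat.coprime_primes (Fact.out : p.Prime) hr]
    exact fun h => hrp h.symm
  have hPdeg := Polynomial.natDegree_of_dvd_cyclotomic_of_irreducible (K := F) (p := p) (f := f) (n := r)
    (by rw [hF, hq]) hcop hPc hPirr
  have hord : orderOf (ZMod.unitOfCoprime (p ^ (f : ℕ)) (hcop.pow_left f)) = n := by
    rw [← orderOf_units, ZMod.coe_unitOfCoprime, ← hq]
    exact hi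
  rw [hord] at hPdeg
  have hge : n ≤ μ.natDegree := by
    rw [← hPdeg]
    exact Polynomial.natDegree_le_of_dvd hPμ hμ0
  have hassoc : Associated P μ :=
    Polynomial.associated_of_dvd_of_natDegree_le hPμ hμ0 (by omega)
  exact ⟨hassoc.irreducible hPirr, by omega⟩

open Cfsg.Agent.S2571

section
variable {F : Type*} [Field F]

noncomputable def polyOf {m : ℕ} (c : Fin (m + 1) → F) : F[X] := ∑ i : Fin (m + 1), C (c i) * X ^ (i : ℕ)

theorem Psi_eq_aeval {m : ℕ} (N : Matrix (Fin (m + 1)) (Fin (m + 1)) F) (c : Fin (m + 1) → F) :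
    Psi N c = aeval N (polyOf c) := by
  unfold Psi polyOf
  rw [map_sum]
  apply Finset.sum_congr rfl
  intro i _
  rw [map_mul, aeval_C, map_pow, aeval_X, Algebra.algebraMap_eq_smul_one, smul_mul_assoc, one_mul]

theorem polyOf_coeff {m : ℕ} (c : Fin (m + 1) → F) (i : Fin (m + 1)) : (polyOf c).coeff i = c i := by
  unfold polyOf
  rw [Polynomial.finset_sum_coeff, Finset.sum_eq_single i]
  · rw [coeff_C_mul, coeff_X_pow, if_pos rfl, mul_one]
  · intro j _ hji
    rw [coeff_C_mul, coeff_X_pow, if_neg (fun h => hji (Fin.ext h.symm)), mul_zero]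
  · intro h; exact absurd (Finset.mem_univ i) h

theorem polyOf_ne_zero {m : ℕ} (c : Fin (m + 1) → F) (hc : c ≠ 0) : polyOf c ≠ 0 := by
  intro h
  apply hc
  funext i
  have := polyOf_coeff c i
  rw [h, coeff_zero] at this
  rw [← this, Pi.zero_apply]

theorem polyOf_degree_lt {m : ℕ} (c : Fin (m + 1) → F) : (polyOf c).degree < (m + 1 : ℕ) :=
  Polynomial.degree_sum_fin_lt c

theorem Psi_isUnit_of_irred {m : ℕ} (N : Matrix (Fin (m + 1)) (Fin (m + 1)) F) (hirr : Irreducible (minpoly F N))
    (hdeg : (minpoly F N).natDegree = m + 1) (c : Fin (m + 1) → F) (hc : c ≠ 0) : IsUnit (Psi N c) := by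
  have hp0 := polyOf_ne_zero c hc
  have hndvd : ¬ minpoly F N ∣ polyOf c := by
    intro h
    have h1 := Polynomial.degree_le_of_dvd h hp0
    have h2 := polyOf_degree_lt c
    rw [Polynomial.degree_eq_natDegree hirr.ne_zero, hdeg] at h1
    exact absurd (lt_of_le_of_lt h1 h2) (lt_irrefl _)
  obtain ⟨a, b, hab⟩ := (hirr.coprime_iff_not_dvd.mpr hndvd)
  have h3 := congrArg (aeval N) hab
  rw [map_add, map_mul, map_mul, minpoly.aeval, mul_zero, zero_add, map_one] at h3
  rw [Psi_eq_aeval]
  exact IsUnit.of_mul_eq_one _ (by rw [← map_mul, mul_comm, map_mul]; exact h3)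

end

theorem card_c' {F : Type*} [Field F] [Fintype F] {q m : ℕ} (hF : Fintype.card F = q) :
    Nat.card {c : Fin (m + 1) → F // c ≠ 0} = q ^ (m + 1) - 1 := by
  classical
  rw [Nat.card_eq_fintype_card, Fintype.card_subtype_compl, Fintype.card_pi, Finset.prod_const, Finset.card_univ,
    Fintype.card_fin, hF]
  simp

/-- An element of GL_n(q) of prime order r with q of multiplicative order n mod r has cyclic centraliser of order q^n − 1. -/
theorem result {F : Type*} [Field F] [Fintype F] {p q : ℕ} [Fact p.Prime] [CharP F p] (hF : Fintype.card F = q) {n r : ℕ} (hn : 1 ≤ n) (hr : r.Prime) (hrp : r ≠ p) (hi : orderOf (q : ZMod r) = n) (x : GL (Fin n) F) (hx : orderOf x = r) : IsCyclic ↥(Subgroup.centralizer ({x} : Set (GL (Fin n) F))) ∧ Nat.card ↥(Subgroup.centralizer ({x} : Set (GL (Fin n) F))) = q ^ n - 1 := by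
  obtain ⟨m, rfl⟩ : ∃ m, n = m + 1 := ⟨n - 1, by omega⟩
  set M := (x : Matrix (Fin (m + 1)) (Fin (m + 1)) F) with hM
  have hMr : M ^ r = 1 := by
    have := congrArg Units.val (pow_orderOf_eq_one x)
    rw [hx] at this
    simpa using this
  have hM1 : M ≠ 1 := by
    intro h
    have : x = 1 := Units.ext h
    rw [this, orderOf_one] at hx
    exact hr.one_lt.ne hx
  obtain ⟨hirr, hdeg⟩ := minpoly_irred hF hr hrp hi M hMr hM1
  set f := Matrix.mulVecLin M with hf
  set v : Fin (m + 1) → F := Pi.single 0 1 with hv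
  have hv0 : v ≠ 0 := by
    intro h
    have := congrFun h 0
    simp [hv] at this
  have hli : LinearIndependent F (fun i : Fin (m + 1) => (f ^ (i : ℕ)) v) := by
    rw [Fintype.linearIndependent_iff]
    intro c hc
    by_contra hcon
    have hc0 : c ≠ 0 := by
      intro h
      apply hcon
      intro i
      rw [h, Pi.zero_apply]
    have hu := Psi_isUnit_of_irred M hirr hdeg c hc0
    have h1 : (Psi M c).mulVec v = 0 := by rw [Psi_mulVec]; exact hc
    obtain ⟨u, hu'⟩ := hu
    have h2 : (↑u⁻¹ : Matrix (Fin (m + 1)) (Fin (m + 1)) F).mulVec ((Psi M c).mulVec v) = v := by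
      rw [Matrix.mulVec_mulVec, ← hu', Units.inv_mul, Matrix.one_mulVec]
    rw [h1, Matrix.mulVec_zero] at h2
    exact hv0 h2.symm
  have hcard : Fintype.card (Fin (m + 1)) = finrank F (Fin (m + 1) → F) := by simp
  set B := basisOfLinearIndependentOfCardEqFinrank hli hcard with hB
  have hBapp : ∀ i, B i = (f ^ (i : ℕ)) v := by
    intro i
    rw [hB, coe_basisOfLinearIndependentOfCardEqFinrank]
  have hcent : ∀ g : GL (Fin (m + 1)) F, g ∈ Subgroup.centralizer ({x} : Set (GL (Fin (m + 1)) F)) ↔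
      Commute (g : Matrix (Fin (m + 1)) (Fin (m + 1)) F) M := by
    intro g
    rw [Subgroup.mem_centralizer_iff]
    constructor
    · intro h
      have h1 := congrArg Units.val (h x rfl)
      rw [Units.val_mul, Units.val_mul] at h1
      exact h1.symm
    · intro h y hy
      rw [Set.mem_singleton_iff] at hy
      subst hy
      apply Units.ext
      rw [Units.val_mul, Units.val_mul]
      exact h.eq.symm
  have hrepr : ∀ g : GL (Fin (m + 1)) F, Commute (g : Matrix (Fin (m + 1)) (Fin (m + 1)) F) M →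
      Psi M (fun i => B.repr ((g : Matrix (Fin (m + 1)) (Fin (m + 1)) F).mulVec v) i) =
        (g : Matrix (Fin (m + 1)) (Fin (m + 1)) F) := by
    intro g hg
    set G := (g : Matrix (Fin (m + 1)) (Fin (m + 1)) F) with hG
    set c : Fin (m + 1) → F := fun i => B.repr (G.mulVec v) i with hc
    have h1 : (Psi M c).mulVec v = G.mulVec v := by
      rw [Psi_mulVec]
      have := B.sum_repr (G.mulVec v)
      simp only [hBapp] at this
      exact this
    have hpow : ∀ (A : Matrix (Fin (m + 1)) (Fin (m + 1)) F), Commute A M → ∀ (k : ℕ) (y : Fin (m + 1) → F),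
        A.mulVec ((f ^ k) y) = (f ^ k) (A.mulVec y) := by
      intro A hA k y
      rw [hf, ← Cfsg.Agent.S2573.mulVecLin_pow', Matrix.mulVecLin_apply, Matrix.mulVecLin_apply,
        Matrix.mulVec_mulVec, Matrix.mulVec_mulVec, (hA.pow_right k).eq]
    have : Matrix.toLin' (Psi M c) = Matrix.toLin' G := by
      apply B.ext
      intro j
      rw [hBapp, Matrix.toLin'_apply, Matrix.toLin'_apply, hpow _ (Psi_commute M c), hpow _ hg, h1]
    exact Matrix.toLin'.injective this
  have hPsi0 : Psi M (0 : Fin (m + 1) → F) = 0 := by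
    unfold Psi
    simp
  have hrepr0 : ∀ g : GL (Fin (m + 1)) F, Commute (g : Matrix (Fin (m + 1)) (Fin (m + 1)) F) M →
      (fun i => B.repr ((g : Matrix (Fin (m + 1)) (Fin (m + 1)) F).mulVec v) i) ≠ 0 := by
    intro g hg h0
    have h1 := hrepr g hg
    rw [h0, hPsi0] at h1
    have := g.isUnit
    rw [← h1] at this
    exact not_isUnit_zero this
  let Φ : {c : Fin (m + 1) → F // c ≠ 0} → ↥(Subgroup.centralizer ({x} : Set (GL (Fin (m + 1)) F))) :=
    fun c => ⟨(Psi_isUnit_of_irred M hirr hdeg c.1 c.2).unit, by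
      rw [hcent]
      exact Psi_commute M c.1⟩
  have hΦ : ∀ c, ((Φ c).1 : Matrix (Fin (m + 1)) (Fin (m + 1)) F) = Psi M c.1 := fun c => rfl
  have hinj : Function.Injective Φ := by
    intro c c' hcc
    have h1 : Psi M c.1 = Psi M c'.1 := by
      rw [← hΦ, ← hΦ, hcc]
    have h2 := congrArg (fun A => Matrix.mulVec A v) h1
    simp only [Psi_mulVec] at h2
    have h3 : ∑ i : Fin (m + 1), (c.1 i - c'.1 i) • (f ^ (i : ℕ)) v = 0 := by
      simp only [sub_smul, Finset.sum_sub_distrib]
      rw [hf, h2, sub_self]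
    have h4 := (Fintype.linearIndependent_iff.mp hli) (fun i => c.1 i - c'.1 i) h3
    apply Subtype.ext
    funext i
    exact sub_eq_zero.mp (h4 i)
  have hsurj : Function.Surjective Φ := by
    rintro ⟨g, hg⟩
    rw [hcent] at hg
    refine ⟨⟨_, hrepr0 g hg⟩, ?_⟩
    apply Subtype.ext
    apply Units.ext
    exact hrepr g hg
  refine ⟨?_, ?_⟩
  · have : Fact (Irreducible (minpoly F M)) := ⟨hirr⟩
    let ψ : AdjoinRoot (minpoly F M) →+* Matrix (Fin (m + 1)) (Fin (m + 1)) F :=
      Ideal.Quotient.lift (Ideal.span {minpoly F M})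
        ((aeval M : F[X] →ₐ[F] Matrix (Fin (m + 1)) (Fin (m + 1)) F) : F[X] →+* Matrix (Fin (m + 1)) (Fin (m + 1)) F) (by
        intro a ha
        obtain ⟨b, rfl⟩ := Ideal.mem_span_singleton.mp ha
        simp [minpoly.aeval])
    have hψinj : Function.Injective ψ := ψ.injective
    have hψmk : ∀ p : F[X], ψ (AdjoinRoot.mk (minpoly F M) p) = aeval M p := by
      intro p
      rfl
    let θfun : ↥(Subgroup.centralizer ({x} : Set (GL (Fin (m + 1)) F))) → AdjoinRoot (minpoly F M) :=
      fun g => AdjoinRoot.mk (minpoly F M)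
        (polyOf (fun i => B.repr ((g.1 : Matrix (Fin (m + 1)) (Fin (m + 1)) F).mulVec v) i))
    have hθ : ∀ g, ψ (θfun g) = (g.1 : Matrix (Fin (m + 1)) (Fin (m + 1)) F) := by
      intro g
      simp only [θfun]
      rw [hψmk, ← Psi_eq_aeval]
      exact hrepr g.1 ((hcent g.1).mp g.2)
    let θ : ↥(Subgroup.centralizer ({x} : Set (GL (Fin (m + 1)) F))) →* AdjoinRoot (minpoly F M) :=
      { toFun := θfun
        map_one' := by
          apply hψinj
          rw [hθ, map_one]
          rfl
        map_mul' := by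
          intro g g'
          apply hψinj
          rw [map_mul, hθ, hθ, hθ]
          rfl }
    have hθinj : Function.Injective θ := by
      intro g g' h
      have h1 : ψ (θfun g) = ψ (θfun g') := congrArg ψ h
      rw [hθ, hθ] at h1
      exact Subtype.ext (Units.ext h1)
    exact isCyclic_of_injective_ringHom θ hθinj
  · rw [← Nat.card_congr (Equiv.ofBijective Φ ⟨hinj, hsurj⟩)]
    exact card_c' hF

end Cfsg.Agent.S2638
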