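import Cfsg.Statements.S2639
import Cfsg.Agent.Lib.Helper16.Symplectic
import Cfsg.Agent.Lib.Helper16.FieldExt

set_option autoImplicit false
open Cfsg

namespace Cfsg.Agent.S2639

open Cfsg.Agent.Lib.Helper16
open Module

/-- The unitary group embeds in the symplectic group of twice the dimension over the subfield: for a field K with q² elements and a field F with q elements (isomorphic to the subfield of K of order q), there is an injective homomorphism GU_m(q) → Sp_2m(F). -/
theorem result {K F : Type*} [Field K] [Fintype K] [Field F] [Fintype F] {q : ℕ} (hK : Fintype.card K = q ^ 2) (hF : Fintype.card F = q) (m : ℕ) : ∃ φ : ↥(Cfsg.GU m K q) →* ↥(Matrix.symplecticGroup (Fin m) F), Function.Injective φ := by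
  obtain ⟨alg, hfr⟩ := exists_algebra_of_card hK hF
  letI := alg
  have hV : finrank F (Fin m → K) = 2 * m := by
    rw [Module.finrank_pi_fintype]
    simp only [hfr, Finset.sum_const, Finset.card_univ, Fintype.card_fin, smul_eq_mul]
    ring
  set σ : K →ₐ[F] K := FiniteField.frobeniusAlgHom F K with hσ
  have hσapp : ∀ x, σ x = x ^ q := by
    intro x
    rw [hσ, FiniteField.coe_frobeniusAlgHom, hF]
  have hσσ : ∀ x, σ (σ x) = x := by
    intro x
    rw [hσapp, hσapp, ← pow_mul, ← pow_two, ← hK, FiniteField.pow_card]
  have hσne : ∃ x₀, x₀ - σ x₀ ≠ 0 := by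
    by_contra hcon
    push Not at hcon
    have h1 : σ = 1 := by
      apply AlgHom.ext
      intro x
      rw [AlgHom.one_apply]
      exact (sub_eq_zero.mp (hcon x)).symm
    have h2 := FiniteField.orderOf_frobeniusAlgHom F K
    rw [← hσ, h1, orderOf_one, hfr] at h2
    omega
  obtain ⟨x₀, hx₀⟩ := hσne
  obtain ⟨lam, hlam⟩ : ∃ lam : K →ₗ[F] F, lam (x₀ - σ x₀) ≠ 0 := by
    by_contra hcon
    push Not at hcon
    exact hx₀ ((Module.forall_dual_apply_eq_zero_iff F (x₀ - σ x₀)).mp hcon)
  let D : K →ₗ[F] K := LinearMap.id - σ.toLinearMap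
  have hD : ∀ x, D x = x - σ x := fun x => rfl
  have hh : ∀ u v : Fin m → K, Cfsg.hermForm m K q u v = ∑ i, u i * σ (v i) := by
    intro u v
    unfold Cfsg.hermForm
    simp only [hσapp]
  let ω : LinearMap.BilinForm F (Fin m → K) := LinearMap.mk₂ F
    (fun u v => lam (D (∑ i, u i * σ (v i))))
    (by intro u u' v; simp only [Pi.add_apply, add_mul, Finset.sum_add_distrib, map_add])
    (by
      intro c u v
      simp only [Pi.smul_apply, smul_mul_assoc, ← Finset.smul_sum, map_smul])
    (by intro u v v'; simp only [Pi.add_apply, map_add, mul_add, Finset.sum_add_distrib])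
    (by
      intro c u v
      simp only [Pi.smul_apply, map_smul, mul_smul_comm, ← Finset.smul_sum])
  have hω : ∀ u v, ω u v = lam (D (Cfsg.hermForm m K q u v)) := by
    intro u v
    rw [hh]
    rfl
  have hωalt : ω.IsAlt := by
    intro u
    rw [hω, hD, hh, map_sum]
    have : ∑ i, σ (u i * σ (u i)) = ∑ i, u i * σ (u i) := by
      apply Finset.sum_congr rfl
      intro i _
      rw [map_mul, hσσ, mul_comm]
    rw [this, sub_self, map_zero]
  have hleft : ∀ u, (∀ v, ω u v = 0) → u = 0 := by
    intro u hu
    have h1 : ∀ v, Cfsg.hermForm m K q u v = 0 := by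
      intro v
      by_contra hne
      apply hlam
      have h2 := hu ((σ (x₀ / Cfsg.hermForm m K q u v)) • v)
      rw [hω, hh] at h2
      have h3 : ∑ i, u i * σ ((σ (x₀ / Cfsg.hermForm m K q u v) • v) i) = x₀ := by
        simp only [Pi.smul_apply, smul_eq_mul, map_mul, hσσ]
        have : ∀ i, u i * (x₀ / Cfsg.hermForm m K q u v * σ (v i)) = (x₀ / Cfsg.hermForm m K q u v) * (u i * σ (v i)) := by
          intro i; ring
        simp only [this, ← Finset.mul_sum, ← hh]
        field_simp
      rw [h3, hD] at h2
      exact h2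
    funext i
    have h4 := h1 (Pi.single i 1)
    rw [hh] at h4
    rw [Finset.sum_eq_single i] at h4
    · simpa using h4
    · intro j _ hji
      simp [Pi.single_apply, hji]
    · intro h; exact absurd (Finset.mem_univ i) h
  have hωnd : ω.Nondegenerate := by
    refine ⟨hleft, ?_⟩
    intro v hv
    apply hleft
    intro u
    rw [← hωalt.neg_eq, hv u, neg_zero]
  obtain ⟨b, hb⟩ := symplectic_basis hV ω hωalt hωnd
  let ρ : ↥(Cfsg.GU m K q) →* ((Fin m → K) →ₗ[F] (Fin m → K)) :=
    { toFun := fun A => (Matrix.toLin' ((A : GL (Fin m) K) : Matrix (Fin m) (Fin m) K)).restrictScalars F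
      map_one' := by
        apply LinearMap.ext
        intro v
        simp
      map_mul' := by
        intro A B
        apply LinearMap.ext
        intro v
        simp [Matrix.toLin'_mul] }
  have hρapp : ∀ A v, ρ A v = ((A : GL (Fin m) K) : Matrix (Fin m) (Fin m) K).mulVec v := fun A v => rfl
  refine embed_of_invariant b ω hb ρ ?_ ?_
  · intro A u v
    rw [hω, hω, hρapp, hρapp]
    have := A.2 u v
    rw [← this]
    rfl
  · intro A B hAB
    apply Subtype.ext
    apply Units.ext
    apply Matrix.toLin'.injective
    apply LinearMap.ext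
    intro v
    have := congrArg (fun l => l v) hAB
    exact this

end Cfsg.Agent.S2639
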