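import Cfsg.Statements.S2641
import Cfsg.Agent.Lib.Helper16.HermQuad

set_option autoImplicit false
open Cfsg
open Cfsg.Agent.Lib.Helper16

namespace Cfsg.Agent.S2641

open Module

theorem result {K F : Type*} [Field K] [Fintype K] [Field F] [Fintype F] {q : ℕ} (hK : Fintype.card K = q ^ 2) (hF : Fintype.card F = q) (m : ℕ) (hm : Odd m) (a b : F) (hab : ∀ z₁ z₂ : F, z₁ ^ 2 + a * z₁ * z₂ + b * z₂ ^ 2 = 0 → z₁ = 0 ∧ z₂ = 0) : ∃ φ : ↥(Cfsg.GU m K q) →* ↥(Cfsg.isometryGroup F (Cfsg.quadFormMinus (m - 1) F a b)), Function.Injective φ := by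
  obtain ⟨alg, hfr⟩ := exists_algebra_of_card hK hF
  let _ := alg
  obtain ⟨k, rfl⟩ : ∃ k, m = k + k + 1 := by
    obtain ⟨k, hk⟩ := hm
    exact ⟨k, by omega⟩
  show ∃ φ : ↥(Cfsg.GU (k + k + 1) K q) →* ↥(Cfsg.isometryGroup F (Cfsg.quadFormMinus (k + k) F a b)), Function.Injective φ
  obtain ⟨lam, hlam1⟩ := exists_lam_one (K := K) (F := F)
  obtain ⟨T₁, hT₁⟩ := herm_plus_iso hK hF hfr lam hlam1 k
  obtain ⟨T₂, hT₂⟩ := norm_iso hfr lam hlam1 a b hab
  let T : (Fin (k + k + 1) → K) ≃ₗ[F] ((Fin (k + k) ⊕ Fin (k + k)) ⊕ Fin 2 → F) :=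
    (Fin.consLinearEquiv F (fun _ : Fin (k + k + 1) => K)).symm ≪≫ₗ (T₂.prodCongr T₁) ≪≫ₗ
      (LinearEquiv.prodComm F _ _) ≪≫ₗ
      (LinearEquiv.sumArrowLequivProdArrow (Fin (k + k) ⊕ Fin (k + k)) (Fin 2) F F).symm
  have hTl : ∀ v j, T v (Sum.inl j) = T₁ (fun i => v i.succ) j := fun v j => rfl
  have hTr : ∀ v j, T v (Sum.inr j) = T₂ (v 0) j := fun v j => rfl
  have hT : ∀ v, Cfsg.quadFormMinus (k + k) F a b (T v) = hermQ lam (k + k + 1) v := by
    intro v
    unfold Cfsg.quadFormMinus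
    simp only [hTl, hTr]
    rw [hT₂]
    have h1 := hT₁ (fun i => v i.succ)
    unfold Cfsg.quadFormPlus at h1
    rw [h1, hermQ_apply hF, hermQ_apply hF, ← map_add]
    congr 1
    unfold Cfsg.hermForm
    rw [Fin.sum_univ_succ, frob_apply' hF, add_comm]
  let ρ : ↥(Cfsg.GU (k + k + 1) K q) →* ((Fin (k + k + 1) → K) →ₗ[F] (Fin (k + k + 1) → K)) :=
    { toFun := fun A => (Matrix.toLin' ((A : GL (Fin (k + k + 1)) K) : Matrix (Fin (k + k + 1)) (Fin (k + k + 1)) K)).restrictScalars F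
      map_one' := by
        apply LinearMap.ext
        intro v
        simp
      map_mul' := by
        intro A B
        apply LinearMap.ext
        intro v
        simp [Matrix.toLin'_mul] }
  have hρapp : ∀ A v, ρ A v = ((A : GL (Fin (k + k + 1)) K) : Matrix (Fin (k + k + 1)) (Fin (k + k + 1)) K).mulVec v := fun A v => rfl
  refine embed_isometry T (Cfsg.quadFormMinus (k + k) F a b) (fun v => hermQ lam (k + k + 1) v) hT ρ ?_ ?_
  · intro A v
    rw [hρapp]
    exact hermQ_inv hF lam _ _ (fun u v => A.2 u v) v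
  · intro A B hAB
    apply Subtype.ext
    apply Units.ext
    apply Matrix.toLin'.injective
    apply LinearMap.ext
    intro v
    have := congrArg (fun l => l v) hAB
    exact this

end Cfsg.Agent.S2641
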