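import Cfsg.Statements.S2647
import Cfsg.Agent.Lib.Helper16.O7F.Main2
import Cfsg.Agent.Lib.Helper24.O7FR
import Cfsg.Agent.Lib.Helper18.O7FN
import Cfsg.Agent.Lib.Helper18.O7FO
import Cfsg.Agent.Lib.helper4.O7FF2

set_option autoImplicit false
open Cfsg


namespace Cfsg.Agent.S2647

open Cfsg.Agent.Lib.Helper16.O7F in
theorem result {F : Type*} [Field F] [Fintype F] [DecidableEq F] (q : ℕ) (hF : Fintype.card F = q) (hq : q % 8 = 3 ∨ q % 8 = 5) (S : Sylow 2 ↥(Cfsg.Omega F (Cfsg.quadFormOdd 3 F))) : (Cfsg.groupFusionSystem (S : Subgroup ↥(Cfsg.Omega F (Cfsg.quadFormOdd 3 F)))).autGroup (S : Subgroup ↥(Cfsg.Omega F (Cfsg.quadFormOdd 3 F))) = Cfsg.Inn ↥(S : Subgroup ↥(Cfsg.Omega F (Cfsg.quadFormOdd 3 F))) ∧ (∀ T : Subgroup ↥(Cfsg.Omega F (Cfsg.quadFormOdd 3 F)), (Cfsg.groupFusionSystem (S : Subgroup ↥(Cfsg.Omega F (Cfsg.quadFormOdd 3 F)))).StronglyClosed T → T = ⊥ ∨ T = (S : Subgroup ↥(Cfsg.Omega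 F (Cfsg.quadFormOdd 3 F)))) ∧ (Cfsg.groupFusionSystem (S : Subgroup ↥(Cfsg.Omega F (Cfsg.quadFormOdd 3 F)))).IsSimple 2 := by
  have h2 : (2 : F) ≠ 0 := by
    intro h
    have : CharP F 2 := CharTwo.of_one_ne_zero_of_two_eq_zero one_ne_zero h
    have hchar : ringChar F = 2 := ringChar.eq F 2
    have heven := FiniteField.even_card_of_char_two hchar
    rw [hF] at heven
    omega
  have hq' : Fintype.card F % 8 = 3 ∨ Fintype.card F % 8 = 5 := by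
    rw [hF]
    exact hq
  have fin : FinHyp :=
    { D8_le_alt := Cfsg.Agent.Lib.helper4.O7F.D8_le_alt
      norm_D8 := Cfsg.Agent.Lib.helper4.O7F.norm_D8
      conj_pb := Cfsg.Agent.Lib.helper4.O7F.conj_pb
      exists_even_map := Cfsg.Agent.Lib.helper4.O7F.exists_even_map
      Gen_sq := Cfsg.Agent.Lib.helper4.O7F.Gen_sq
      Gen_le_N0' := Cfsg.Agent.Lib.helper4.O7F.Gen_le_N0'
      E0'_le_closure := Cfsg.Agent.Lib.helper4.O7F.E0'_le_closure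
      N0'_le_closure := Cfsg.Agent.Lib.helper4.O7F.N0'_le_closure
      P0'_le_closure := Cfsg.Agent.Lib.helper4.O7F.P0'_le_closure
      card_P0' := Cfsg.Agent.Lib.helper4.O7F.card_P0'
      card_SO' := Cfsg.Agent.Lib.helper4.O7F.card_SO' }
  have H : Hyp F :=
    { rho_injective := Cfsg.Agent.Lib.Helper24.O7F.rho_injective F h2
      rho_mem_O7 := Cfsg.Agent.Lib.Helper24.O7F.rho_mem_O7 F
      det_monMat := Cfsg.Agent.Lib.Helper24.O7F.det_monMat F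
      A7_le_O7 := Cfsg.Agent.Lib.Helper24.O7F.A7_le_O7 F
      det_of_mem_A7 := Cfsg.Agent.Lib.Helper24.O7F.det_of_mem_A7 F
      cent_E0 := Cfsg.Agent.Lib.Helper18.O7F.cent_E0 F h2
      conj_E0_diag := Cfsg.Agent.Lib.Helper18.O7F.conj_E0_diag F h2
      norm_E0_mon := Cfsg.Agent.Lib.Helper18.O7F.norm_E0_mon F h2
      Gen_mem_A7 := Cfsg.Agent.Lib.Helper24.O7F.Gen_mem_A7 F h2
      fusion_elt := Cfsg.Agent.Lib.Helper24.O7F.fusion_elt F h2
      card_A7_two := Cfsg.Agent.Lib.Helper18.O7F.card_A7_two F hq'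
      two_ne := h2 }
  obtain ⟨f, hf, hA⟩ := Cfsg.Agent.Lib.Helper18.O7F.exists_emb F h2
  exact glue fin H S f hf hA

end Cfsg.Agent.S2647
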