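import Cfsg.Statements.S2648
import Mathlib
import Cfsg.Agent.Lib.Helper22.LinDLB
import Cfsg.Agent.Lib.Helper22.LinDLC
import Cfsg.Agent.Lib.Helper22.LinDLF
import Cfsg.Agent.Lib.Helper22.SpDLC

set_option autoImplicit false
open Cfsg

namespace Cfsg.Agent.S2648

open Cfsg.Agent.Lib.Helper22

/-- Base change of matrices (arbitrary finite index type) to endomorphisms of `ι → K`. -/
noncomputable def PhiG (F : Type*) [Field F] (K : Type*) [Field K] [Algebra F K] (ι : Type*)
    [Fintype ι] [DecidableEq ι] :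
    Matrix ι ι F →+* Module.End K (ι → K) :=
  ((Matrix.toLinAlgEquiv' : Matrix ι ι K ≃ₐ[K] _) : Matrix ι ι K →+* _).comp
    (algebraMap F K).mapMatrix

theorem PhiG_injective (F : Type*) [Field F] (K : Type*) [Field K] [Algebra F K] (ι : Type*)
    [Fintype ι] [DecidableEq ι] : Function.Injective (PhiG F K ι) := by
  intro A B h
  have h1 : Matrix.toLin' (A.map (algebraMap F K)) = Matrix.toLin' (B.map (algebraMap F K)) := h
  exact Matrix.map_injective (algebraMap F K).injective (Matrix.toLin'.injective h1)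

/-- Let q be odd, F a field with q elements and n ≥ 1. A Sylow 2-subgroup R of the symplectic group Sp_{2n}(F) has derived length exactly k + 1, where 2^k ≤ 2n < 2^{k+1}: the (k+1)-st term of its derived series is trivial and the k-th is not. -/
theorem result {F : Type*} [Field F] [Fintype F] [DecidableEq F] (q : ℕ) (hF : Fintype.card F = q) (hq : Odd q) (n : ℕ) (hn : 1 ≤ n) (R : Sylow 2 ↥(Matrix.symplecticGroup (Fin n) F)) : derivedSeries ↥(R : Subgroup ↥(Matrix.symplecticGroup (Fin n) F)) (Nat.log 2 (2 * n) + 1) = ⊥ ∧ derivedSeries ↥(R : Subgroup ↥(Matrix.symplecticGroup (Fin n) F)) (Nat.log 2 (2 * n)) ≠ ⊥ := by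
  classical
  subst hF
  have hfin : Finite ↥(Matrix.symplecticGroup (Fin n) F) := inferInstance
  have hR : IsPGroup 2 (R : Subgroup ↥(Matrix.symplecticGroup (Fin n) F)) := R.isPGroup'
  constructor
  · -- upper bound
    rw [eq_bot_iff]
    intro g hg
    rw [Subgroup.mem_bot]
    set K := AlgebraicClosure F with hKdef
    have hK : ((2 : ℕ) : K) ≠ 0 := LinDLC.natCast_ne_zero_of_not_dvd K 2 (by
      intro h
      exact (Nat.not_even_iff_odd.mpr hq) (even_iff_two_dvd.mpr h))
    let ρ : Representation K (R : Subgroup ↥(Matrix.symplecticGroup (Fin n) F))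
        (Fin n ⊕ Fin n → K) :=
      ((PhiG F K (Fin n ⊕ Fin n) : _ →* _)).comp
        ((Matrix.symplecticGroup (Fin n) F).subtype.comp
          (R : Subgroup ↥(Matrix.symplecticGroup (Fin n) F)).subtype)
    have hρa : ∀ a : (R : Subgroup ↥(Matrix.symplecticGroup (Fin n) F)),
        ρ a = PhiG F K (Fin n ⊕ Fin n) ((a : ↥(Matrix.symplecticGroup (Fin n) F)) :
          Matrix (Fin n ⊕ Fin n) (Fin n ⊕ Fin n) F) := fun a => rfl
    have hdim : Module.finrank K (Fin n ⊕ Fin n → K) = 2 * n := by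
      rw [Module.finrank_fintype_fun_eq_card, Fintype.card_sum, Fintype.card_fin]
      omega
    have h1 : ρ g = 1 :=
      LinDLB.good_all K 2 hK (2 * n) (Fin n ⊕ Fin n → K) _ hR ρ hdim g hg
    rw [hρa] at h1
    have h2 : ((g : ↥(Matrix.symplecticGroup (Fin n) F)) :
        Matrix (Fin n ⊕ Fin n) (Fin n ⊕ Fin n) F) = 1 := by
      apply PhiG_injective F K (Fin n ⊕ Fin n)
      rw [h1, map_one]
    apply Subtype.ext
    apply Subtype.ext
    exact h2
  · -- lower bound
    have hk1 : 1 ≤ Nat.log 2 (2 * n) := by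
      apply Nat.log_pos (by norm_num)
      omega
    have hk2 : 2 ^ Nat.log 2 (2 * n) ≤ 2 * n := Nat.pow_log_le_self 2 (by omega)
    obtain ⟨Q0, hQ0, hk⟩ := SpDLC.exists_subgroup_sp (F := F) hq n _ hk1 hk2
    exact LinDLF.sylow_derivedSeries_ne_bot 2 Q0 hQ0 _ hk R

end Cfsg.Agent.S2648
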