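import Cfsg.Statements.S2665
import Cfsg.Agent.Lib.Helper16.LangMatrix

set_option autoImplicit false
open scoped MatrixGroups
open Cfsg
open Cfsg.Agent.Lib.Helper16

namespace Cfsg.Agent.S2665

/-- The Lang–Steinberg Theorem for the general linear group. Let `K` be an algebraically closed field of prime characteristic `p`, let `q = p^f` with `f ≥ 1`, and let `σ` be the endomorphism of GL_n(K) raising every matrix entry to the `q`-th power. Then every element `g` of GL_n(K) can be written `g = x · σ(x)⁻¹` for some `x` in GL_n(K): the map `x ↦ x σ(x)⁻¹` is surjective. -/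
theorem result {K : Type*} [Field K] [IsAlgClosed K] (p : ℕ) [Fact p.Prime] [CharP K p]
    (f : ℕ) (hf : 1 ≤ f) (n : ℕ) (g : GL (Fin n) K) :
    ∃ x : GL (Fin n) K, g = x * (Matrix.GeneralLinearGroup.map (iterateFrobenius K p f) x)⁻¹ := by
  have hp : p.Prime := Fact.out
  have hQ : 2 ≤ p ^ f := by
    calc 2 ≤ p := hp.two_le
      _ = p ^ 1 := (pow_one p).symm
      _ ≤ p ^ f := Nat.pow_le_pow_right hp.pos hf
  have hφ : ∀ a : K, iterateFrobenius K p f a = a ^ (p ^ f) := fun a => iterateFrobenius_def p f a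
  have hg : IsUnit (g : Matrix (Fin n) (Fin n) K).det := by
    exact (Matrix.isUnit_iff_isUnit_det _).mp g.isUnit
  obtain ⟨x, hxdet, hx⟩ := lang_matrix (iterateFrobenius K p f) (p ^ f) hQ hφ
    (g : Matrix (Fin n) (Fin n) K) hg
  let X : GL (Fin n) K := Matrix.GeneralLinearGroup.mk'' x hxdet
  have hXv : (X : Matrix (Fin n) (Fin n) K) = x := rfl
  refine ⟨X, ?_⟩
  apply eq_mul_inv_of_mul_eq
  apply Units.ext
  rw [Units.val_mul, hXv]
  have h1 : ((Matrix.GeneralLinearGroup.map (iterateFrobenius K p f) X : GL (Fin n) K) :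
      Matrix (Fin n) (Fin n) K) = x.map (iterateFrobenius K p f) := by
    ext i j
    rw [Matrix.GeneralLinearGroup.map_apply, hXv]
    rfl
  rw [h1]
  exact hx

end Cfsg.Agent.S2665
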