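import Cfsg.Statements.S2666

set_option autoImplicit false
open Cfsg

namespace Cfsg.Agent.S2666

theorem mem_fix {X : Type*} [Group X] (τ : MulAut X) (k : X) :
    k ∈ (MulEquiv.toMonoidHom τ).eqLocus (MonoidHom.id X) ↔ τ k = k := Iff.rfl

theorem pow_fix {X : Type*} [Group X] (σ : MulAut X) (e : ℕ) (h : X) (hh : σ h = h) :
    (σ ^ e) h = h := by
  induction e with
  | zero => simp
  | succ n ih => rw [pow_succ]; simp [ih, hh]

theorem norm_eq {X : Type*} [Group X] (σ : MulAut X) (a : X) (d : ℕ) :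
    ((List.range d).map (fun i => (σ ^ i) (a * (σ a)⁻¹))).prod = a * ((σ ^ d) a)⁻¹ := by
  induction d with
  | zero => simp
  | succ n ih =>
    rw [List.range_succ, List.map_append, List.prod_append, ih]
    simp only [List.map_cons, List.map_nil, List.prod_cons, List.prod_nil, mul_one, map_mul, map_inv]
    have : (σ ^ n) (σ a) = (σ ^ (n+1)) a := by
      rw [pow_succ]; rfl
    rw [this]
    group

theorem comm_pow {X : Type*} [Group X] (σ : MulAut X) (e : ℕ) (a : X) :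
    σ ((σ ^ e) a) = (σ ^ e) (σ a) := by
  have : σ * σ ^ e = σ ^ e * σ := by rw [← pow_succ', ← pow_succ]
  calc σ ((σ ^ e) a) = (σ * σ ^ e) a := rfl
    _ = (σ ^ e * σ) a := by rw [this]
    _ = _ := rfl

theorem x_fixed {X : Type*} [Group X] (σ : MulAut X) (e : ℕ) (a : X)
    (hg : (σ ^ e) (a * (σ a)⁻¹) = a * (σ a)⁻¹) : σ (((σ ^ e) a)⁻¹ * a) = ((σ ^ e) a)⁻¹ * a := by
  have hc := comm_pow σ e a
  simp only [map_mul, map_inv] at hg ⊢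
  rw [hc]
  calc ((σ ^ e) (σ a))⁻¹ * σ a = ((σ ^ e) a)⁻¹ * ((σ ^ e) a * ((σ ^ e) (σ a))⁻¹) * σ a := by group
    _ = ((σ ^ e) a)⁻¹ * (a * (σ a)⁻¹) * σ a := by rw [hg]
    _ = _ := by group

theorem g_fixed {X : Type*} [Group X] (σ : MulAut X) (e : ℕ) (a : X)
    (hx : σ (((σ ^ e) a)⁻¹ * a) = ((σ ^ e) a)⁻¹ * a) : (σ ^ e) (a * (σ a)⁻¹) = a * (σ a)⁻¹ := by
  have hc := comm_pow σ e a
  simp only [map_mul, map_inv] at hx ⊢
  rw [← hc]
  calc (σ ^ e) a * (σ ((σ ^ e) a))⁻¹ = (σ ^ e) a * ((σ ((σ ^ e) a))⁻¹ * σ a) * (σ a)⁻¹ := by group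
    _ = (σ ^ e) a * (((σ ^ e) a)⁻¹ * a) * (σ a)⁻¹ := by rw [hx]
    _ = _ := by group

theorem result {X : Type*} [Group X] (σ : MulAut X) (e : ℕ) (he : 1 ≤ e)
    (hL : ∀ g : X, ∃ a : X, g = a * (σ a)⁻¹) (hLe : ∀ g : X, ∃ a : X, g = a * ((σ ^ e) a)⁻¹) :
    (∀ g ∈ (MulEquiv.toMonoidHom (σ ^ e)).eqLocus (MonoidHom.id X), ∀ a : X, g = a * (σ a)⁻¹ →
        ((σ ^ e) a)⁻¹ * a ∈ (MulEquiv.toMonoidHom σ).eqLocus (MonoidHom.id X) ∧
          a⁻¹ * ((List.range e).map (fun i => (σ ^ i) g)).prod * a = ((σ ^ e) a)⁻¹ * a) ∧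
    (∀ g ∈ (MulEquiv.toMonoidHom (σ ^ e)).eqLocus (MonoidHom.id X), ∀ g' ∈ (MulEquiv.toMonoidHom (σ ^ e)).eqLocus (MonoidHom.id X), ∀ a b : X,
        g = a * (σ a)⁻¹ → g' = b * (σ b)⁻¹ →
          ((∃ k ∈ (MulEquiv.toMonoidHom (σ ^ e)).eqLocus (MonoidHom.id X), g' = k * g * (σ k)⁻¹) ↔
            (∃ h ∈ (MulEquiv.toMonoidHom σ).eqLocus (MonoidHom.id X), ((σ ^ e) b)⁻¹ * b = h * (((σ ^ e) a)⁻¹ * a) * h⁻¹))) ∧
    (∀ x ∈ (MulEquiv.toMonoidHom σ).eqLocus (MonoidHom.id X), ∃ g ∈ (MulEquiv.toMonoidHom (σ ^ e)).eqLocus (MonoidHom.id X), ∃ a : X,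
        g = a * (σ a)⁻¹ ∧ ((σ ^ e) a)⁻¹ * a = x) := by
  simp only [mem_fix]
  refine ⟨?_, ?_, ?_⟩
  · intro g hg a ha
    subst ha
    refine ⟨x_fixed σ e a hg, ?_⟩
    rw [norm_eq]
    group
  · intro g hg g' hg' a b ha hb
    subst ha hb
    set τ := σ ^ e with hτ
    constructor
    · rintro ⟨k, hk, hkg⟩
      have h0 : σ ((k * a)⁻¹ * b) = (k * a)⁻¹ * b := by
        simp only [map_mul, map_inv, mul_inv_rev]
        calc (σ a)⁻¹ * (σ k)⁻¹ * σ b = a⁻¹ * k⁻¹ * (k * (a * (σ a)⁻¹) * (σ k)⁻¹) * σ b := by group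
          _ = a⁻¹ * k⁻¹ * (b * (σ b)⁻¹) * σ b := by rw [← hkg]
          _ = _ := by group
      refine ⟨((k * a)⁻¹ * b)⁻¹, ?_, ?_⟩
      · rw [map_inv, h0]
      · have h1 : τ ((k * a)⁻¹ * b) = (k * a)⁻¹ * b := pow_fix σ e _ h0
        simp only [map_mul, map_inv, mul_inv_rev, hk] at h1
        have h2 : τ b = k * τ a * (a⁻¹ * k⁻¹ * b) := by
          calc τ b = k * τ a * ((τ a)⁻¹ * k⁻¹ * τ b) := by group
            _ = _ := by rw [h1]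
        rw [h2]
        group
    · rintro ⟨h, hh, hx⟩
      have hτh : τ h = h := pow_fix σ e _ hh
      refine ⟨b * (a * h⁻¹)⁻¹, ?_, ?_⟩
      · simp only [map_mul, map_inv, mul_inv_rev, inv_inv, hτh]
        have : τ b = b * (h * ((τ a)⁻¹ * a) * h⁻¹)⁻¹ := by
          rw [← hx]; group
        rw [this]
        group
      · simp only [map_mul, map_inv, mul_inv_rev, inv_inv, hh]
        group
  · intro x hx
    obtain ⟨c, hc⟩ := hLe x⁻¹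
    have hxc : x = (σ ^ e) c * c⁻¹ := by
      calc x = (x⁻¹)⁻¹ := by group
        _ = _ := by rw [hc]; group
    have hxa : ((σ ^ e) c⁻¹)⁻¹ * c⁻¹ = x := by
      rw [hxc, map_inv, inv_inv]
    refine ⟨c⁻¹ * (σ c⁻¹)⁻¹, ?_, c⁻¹, rfl, hxa⟩
    apply g_fixed
    rw [hxa]; exact hx

end Cfsg.Agent.S2666
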