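import Cfsg.Statements.S2667

set_option autoImplicit false
open Cfsg

namespace Cfsg.Agent.S2667

theorem mem_fix {X : Type*} [Group X] (τ : MulAut X) (k : X) :
    k ∈ (MulEquiv.toMonoidHom τ).eqLocus (MonoidHom.id X) ↔ τ k = k := Iff.rfl

theorem pow_fix {X : Type*} [Group X] (σ : MulAut X) (e : ℕ) (h : X) (hh : σ h = h) :
    (σ ^ e) h = h := by
  induction e with
  | zero => simp
  | succ n ih => rw [pow_succ]; simp [ih, hh]

theorem result {X : Type*} [Group X] (σ : MulAut X) (e : ℕ) (he : 1 ≤ e)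
    (g : X) (hg : g ∈ (MulEquiv.toMonoidHom (σ ^ e)).eqLocus (MonoidHom.id X)) (a : X) (ha : g = a * (σ a)⁻¹) (k : X) :
    (k ∈ (MulEquiv.toMonoidHom (σ ^ e)).eqLocus (MonoidHom.id X) ∧ k * g * (σ k)⁻¹ = g) ↔
      (a⁻¹ * k * a ∈ (MulEquiv.toMonoidHom σ).eqLocus (MonoidHom.id X) ∧
        (a⁻¹ * k * a) * (((σ ^ e) a)⁻¹ * a) = (((σ ^ e) a)⁻¹ * a) * (a⁻¹ * k * a)) := by
  simp only [mem_fix]
  subst ha
  set τ := σ ^ e with hτ
  constructor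
  · rintro ⟨h1, h2⟩
    have h3 : σ (a⁻¹ * k * a) = a⁻¹ * k * a := by
      simp only [map_mul, map_inv]
      have : k * a = a * (σ a)⁻¹ * σ k * σ a := by
        calc k * a = (k * (a * (σ a)⁻¹) * (σ k)⁻¹) * σ k * σ a := by group
          _ = _ := by rw [h2]
      calc (σ a)⁻¹ * σ k * σ a = a⁻¹ * (a * (σ a)⁻¹ * σ k * σ a) := by group
        _ = _ := by rw [← this]; group
    refine ⟨h3, ?_⟩
    have h4 : τ (a⁻¹ * k * a) = a⁻¹ * k * a := pow_fix σ e _ h3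
    simp only [map_mul, map_inv, h1] at h4
    calc a⁻¹ * k * a * ((τ a)⁻¹ * a) = a⁻¹ * k * a * (τ a)⁻¹ * a := by group
      _ = (τ a)⁻¹ * ((τ a) * (a⁻¹ * k * a) * (τ a)⁻¹) * a := by group
      _ = (τ a)⁻¹ * ((τ a) * ((τ a)⁻¹ * k * τ a) * (τ a)⁻¹) * a := by rw [h4]
      _ = _ := by group
  · rintro ⟨h3, h5⟩
    have h4 : τ (a⁻¹ * k * a) = a⁻¹ * k * a := pow_fix σ e _ h3
    simp only [map_mul, map_inv] at h4 h3
    have h6 : (τ a) * (a⁻¹ * k * a) * (τ a)⁻¹ = k := by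
      calc (τ a) * (a⁻¹ * k * a) * (τ a)⁻¹ = (τ a) * ((a⁻¹ * k * a) * ((τ a)⁻¹ * a)) * a⁻¹ := by group
        _ = (τ a) * (((τ a)⁻¹ * a) * (a⁻¹ * k * a)) * a⁻¹ := by rw [h5]
        _ = k := by group
    constructor
    · calc τ k = τ a * ((τ a)⁻¹ * τ k * τ a) * (τ a)⁻¹ := by group
        _ = _ := by rw [h4, h6]
    · calc k * (a * (σ a)⁻¹) * (σ k)⁻¹ = a * (a⁻¹ * k * a) * (σ a)⁻¹ * (σ k)⁻¹ := by group
        _ = a * ((σ a)⁻¹ * σ k * σ a) * (σ a)⁻¹ * (σ k)⁻¹ := by rw [h3]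
        _ = _ := by group

end Cfsg.Agent.S2667
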