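import Cfsg.Statements.S2668

set_option autoImplicit false
open Cfsg

namespace Cfsg.Agent.S2668

theorem mem_fix {X : Type*} [Group X] (τ : MulAut X) (k : X) :
    k ∈ (MulEquiv.toMonoidHom τ).eqLocus (MonoidHom.id X) ↔ τ k = k := Iff.rfl

theorem pow_fix {X : Type*} [Group X] (σ : MulAut X) (e : ℕ) (h : X) (hh : σ h = h) :
    (σ ^ e) h = h := by
  induction e with
  | zero => simp
  | succ n ih => rw [pow_succ]; simp [ih, hh]

theorem norm_eq {X : Type*} [Group X] (σ : MulAut X) (a : X) (d : ℕ) :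
    ((List.range d).map (fun i => (σ ^ i) (a * (σ a)⁻¹))).prod = a * ((σ ^ d) a)⁻¹ := by
  induction d with
  | zero => simp
  | succ n ih =>
    rw [List.range_succ, List.map_append, List.prod_append, ih]
    simp only [List.map_cons, List.map_nil, List.prod_cons, List.prod_nil, mul_one, map_mul, map_inv]
    have : (σ ^ n) (σ a) = (σ ^ (n+1)) a := by
      rw [pow_succ]; rfl
    rw [this]
    group

theorem x_fixed {X : Type*} [Group X] (σ : MulAut X) (e : ℕ) (a : X)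
    (hg : (σ ^ e) (a * (σ a)⁻¹) = a * (σ a)⁻¹) : σ (((σ ^ e) a)⁻¹ * a) = ((σ ^ e) a)⁻¹ * a := by
  have hc : σ ((σ ^ e) a) = (σ ^ e) (σ a) := by
    have : σ * σ ^ e = σ ^ e * σ := by rw [← pow_succ', ← pow_succ]
    calc σ ((σ ^ e) a) = (σ * σ ^ e) a := rfl
      _ = (σ ^ e * σ) a := by rw [this]
      _ = _ := rfl
  simp only [map_mul, map_inv] at hg ⊢
  rw [hc]
  calc ((σ ^ e) (σ a))⁻¹ * σ a = ((σ ^ e) a)⁻¹ * ((σ ^ e) a * ((σ ^ e) (σ a))⁻¹) * σ a := by group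
    _ = ((σ ^ e) a)⁻¹ * (a * (σ a)⁻¹) * σ a := by rw [hg]
    _ = _ := by group

theorem pow_x {X : Type*} [Group X] (τ : MulAut X) (a : X) (hx : τ ((τ a)⁻¹ * a) = (τ a)⁻¹ * a) (j : ℕ) :
    ((τ ^ j) a)⁻¹ * a = ((τ a)⁻¹ * a) ^ j := by
  induction j with
  | zero => simp
  | succ n ih =>
    have h1 : (τ ^ (n+1)) a = τ ((τ ^ n) a) := by rw [pow_succ']; rfl
    have h2 : τ (((τ a)⁻¹ * a) ^ n) = ((τ a)⁻¹ * a) ^ n := by rw [map_pow, hx]
    rw [h1, pow_succ, ← h2, ← ih]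
    simp only [map_mul, map_inv]
    group

theorem norm_fixed {X : Type*} [Group X] (σ : MulAut X) (m : ℕ) (g : X) (hg : (σ ^ m) g = g) (d : ℕ) :
    (σ ^ m) ((List.range d).map (fun i => (σ ^ i) g)).prod = ((List.range d).map (fun i => (σ ^ i) g)).prod := by
  rw [map_list_prod, List.map_map]
  congr 1
  apply List.map_congr_left
  intro i _
  simp only [Function.comp]
  have : σ ^ m * σ ^ i = σ ^ i * σ ^ m := by rw [← pow_add, ← pow_add, add_comm]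
  calc (σ ^ m) ((σ ^ i) g) = (σ ^ m * σ ^ i) g := rfl
    _ = (σ ^ i * σ ^ m) g := by rw [this]
    _ = (σ ^ i) ((σ ^ m) g) := rfl
    _ = _ := by rw [hg]

theorem result {X : Type*} [Group X] (σ : MulAut X) (e d : ℕ) (he : 1 ≤ e) (hd : 1 ≤ d)
    (g : X) (hg : g ∈ (MulEquiv.toMonoidHom (σ ^ e)).eqLocus (MonoidHom.id X)) (a : X) (ha : g = a * (σ a)⁻¹) :
    ((List.range d).map (fun i => (σ ^ i) g)).prod = a * ((σ ^ d) a)⁻¹ ∧
      ((List.range d).map (fun i => (σ ^ i) g)).prod ∈ (MulEquiv.toMonoidHom ((σ ^ d) ^ e)).eqLocus (MonoidHom.id X) ∧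
      (((σ ^ d) ^ e) a)⁻¹ * a = (((σ ^ e) a)⁻¹ * a) ^ d := by
  rw [mem_fix] at hg
  have hpow : (σ ^ d) ^ e = (σ ^ e) ^ d := by rw [← pow_mul, ← pow_mul, mul_comm]
  have hpow2 : (σ ^ d) ^ e = σ ^ (e * d) := by rw [← pow_mul, mul_comm]
  have hg2 : (σ ^ (e * d)) g = g := by
    rw [pow_mul]; exact pow_fix _ d _ hg
  refine ⟨?_, ?_, ?_⟩
  · subst ha; exact norm_eq σ a d
  · rw [mem_fix, hpow2]
    exact norm_fixed σ (e * d) g hg2 d
  · subst ha
    have hx := x_fixed σ e a hg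
    have hτx : (σ ^ e) (((σ ^ e) a)⁻¹ * a) = ((σ ^ e) a)⁻¹ * a := pow_fix σ e _ hx
    rw [hpow]
    exact pow_x (σ ^ e) a hτx d

end Cfsg.Agent.S2668
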