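import Cfsg.Statements.S2669

set_option autoImplicit false
open Cfsg

namespace Cfsg.Agent.S2669

section Count
variable {X : Type*} [Group X] (G H Y : Subgroup X) (a : X)

/-- first fibration -/
noncomputable def equivA (PA : G → Prop)
    (h1 : ∀ (k : G) (h : H), (k : X)⁻¹ * a * (h : X)⁻¹ ∈ Y → PA k)
    (h2 : ∀ k : G, PA k → ∃ h₀ : H, (k : X)⁻¹ * a * (h₀ : X)⁻¹ ∈ Y) :
    {p : G × H // (p.1 : X)⁻¹ * a * (p.2 : X)⁻¹ ∈ Y} ≃ {k : G // PA k} × ↥(Y ⊓ H) := by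
  classical
  let h₀ : G → H := fun k => if hk : PA k then Classical.choose (h2 k hk) else 1
  have hh₀ : ∀ k : G, PA k → (k : X)⁻¹ * a * ((h₀ k : H) : X)⁻¹ ∈ Y := by
    intro k hk
    simp only [h₀, dif_pos hk]
    exact Classical.choose_spec (h2 k hk)
  refine
    { toFun := fun p => (⟨p.1.1, h1 p.1.1 p.1.2 p.2⟩,
        ⟨(h₀ p.1.1 : X) * (p.1.2 : X)⁻¹, ?_, ?_⟩)
      invFun := fun q => ⟨(q.1.1, ⟨(q.2 : X)⁻¹ * (h₀ q.1.1 : X), ?_⟩), ?_⟩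
      left_inv := ?_
      right_inv := ?_ }
  · have e1 := hh₀ p.1.1 (h1 p.1.1 p.1.2 p.2)
    have e2 := p.2
    have : (h₀ p.1.1 : X) * (p.1.2 : X)⁻¹ =
        ((p.1.1 : X)⁻¹ * a * ((h₀ p.1.1 : H) : X)⁻¹)⁻¹ * ((p.1.1 : X)⁻¹ * a * (p.1.2 : X)⁻¹) := by group
    rw [this]
    exact Y.mul_mem (Y.inv_mem e1) e2
  · exact H.mul_mem (h₀ p.1.1).2 (H.inv_mem p.1.2.2)
  · exact H.mul_mem (H.inv_mem q.2.2.2) (h₀ q.1.1).2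
  · have e1 := hh₀ q.1.1 q.1.2
    have : ((q.1.1 : G) : X)⁻¹ * a * ((q.2 : X)⁻¹ * (h₀ q.1.1 : X))⁻¹ =
        ((q.1.1 : X)⁻¹ * a * ((h₀ q.1.1 : H) : X)⁻¹) * (q.2 : X) := by group
    simp only
    rw [this]
    exact Y.mul_mem e1 q.2.2.1
  · rintro ⟨⟨k, h⟩, hp⟩
    apply Subtype.ext
    apply Prod.ext
    · rfl
    · apply Subtype.ext
      simp only
      group
  · rintro ⟨⟨k, hk⟩, ⟨u, hu⟩⟩
    apply Prod.ext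
    · rfl
    · apply Subtype.ext
      simp only
      group
end Count

section Count2
variable {X : Type*} [Group X] (G H Y : Subgroup X) (a : X)

noncomputable def equivB (PB : H → Prop)
    (h3 : ∀ (k : G) (h : H), (k : X)⁻¹ * a * (h : X)⁻¹ ∈ Y → PB h⁻¹)
    (h4 : ∀ h' : H, PB h' → ∃ k₀ : G, (k₀ : X)⁻¹ * a * (h' : X) ∈ Y) :
    {p : G × H // (p.1 : X)⁻¹ * a * (p.2 : X)⁻¹ ∈ Y} ≃ {h : H // PB h} × ↥(Y ⊓ G) := by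
  classical
  let k₀ : H → G := fun h' => if hh : PB h' then Classical.choose (h4 h' hh) else 1
  have hk₀ : ∀ h' : H, PB h' → ((k₀ h' : G) : X)⁻¹ * a * (h' : X) ∈ Y := by
    intro h' hh
    simp only [k₀, dif_pos hh]
    exact Classical.choose_spec (h4 h' hh)
  refine
    { toFun := fun p => (⟨p.1.2⁻¹, h3 p.1.1 p.1.2 p.2⟩,
        ⟨(p.1.1 : X)⁻¹ * (k₀ p.1.2⁻¹ : X), ?_, ?_⟩)
      invFun := fun q => ⟨(⟨(k₀ q.1.1 : X) * (q.2 : X)⁻¹, ?_⟩, q.1.1⁻¹), ?_⟩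
      left_inv := ?_
      right_inv := ?_ }
  · have e1 := hk₀ p.1.2⁻¹ (h3 p.1.1 p.1.2 p.2)
    have e2 := p.2
    have : (p.1.1 : X)⁻¹ * (k₀ p.1.2⁻¹ : X) =
        ((p.1.1 : X)⁻¹ * a * (p.1.2 : X)⁻¹) * (((k₀ p.1.2⁻¹ : G) : X)⁻¹ * a * ((p.1.2⁻¹ : H) : X))⁻¹ := by
      simp only [Subgroup.coe_inv]
      group
    rw [this]
    exact Y.mul_mem e2 (Y.inv_mem e1)
  · exact G.mul_mem (G.inv_mem p.1.1.2) (k₀ p.1.2⁻¹).2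
  · exact G.mul_mem (k₀ q.1.1).2 (G.inv_mem q.2.2.2)
  · have e1 := hk₀ q.1.1 q.1.2
    have : ((k₀ q.1.1 : X) * (q.2 : X)⁻¹)⁻¹ * a * ((q.1.1⁻¹ : H) : X)⁻¹ =
        (q.2 : X) * (((k₀ q.1.1 : G) : X)⁻¹ * a * ((q.1.1 : H) : X)) := by
      simp only [Subgroup.coe_inv]
      group
    simp only
    rw [this]
    exact Y.mul_mem q.2.2.1 e1
  · rintro ⟨⟨k, h⟩, hp⟩
    apply Subtype.ext
    apply Prod.ext
    · apply Subtype.ext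
      simp only
      group
    · simp
  · rintro ⟨⟨h', hh'⟩, ⟨u, hu⟩⟩
    apply Prod.ext
    · simp
    · apply Subtype.ext
      simp only [inv_inv]
      group

theorem count_lemma (PA : G → Prop) (PB : H → Prop)
    (h1 : ∀ (k : G) (h : H), (k : X)⁻¹ * a * (h : X)⁻¹ ∈ Y → PA k)
    (h2 : ∀ k : G, PA k → ∃ h₀ : H, (k : X)⁻¹ * a * (h₀ : X)⁻¹ ∈ Y)
    (h3 : ∀ (k : G) (h : H), (k : X)⁻¹ * a * (h : X)⁻¹ ∈ Y → PB h⁻¹)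
    (h4 : ∀ h' : H, PB h' → ∃ k₀ : G, (k₀ : X)⁻¹ * a * (h' : X) ∈ Y) :
    Nat.card {k : G // PA k} * Nat.card ↥(Y ⊓ H) = Nat.card {h : H // PB h} * Nat.card ↥(Y ⊓ G) := by
  rw [← Nat.card_prod, ← Nat.card_prod]
  exact Nat.card_congr ((equivA G H Y a PA h1 h2).symm.trans (equivB G H Y a PB h3 h4))
end Count2

theorem mem_fix {X : Type*} [Group X] (τ : MulAut X) (k : X) :
    k ∈ (MulEquiv.toMonoidHom τ).eqLocus (MonoidHom.id X) ↔ τ k = k := Iff.rfl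

theorem pow_fix {X : Type*} [Group X] (σ : MulAut X) (e : ℕ) (h : X) (hh : σ h = h) :
    (σ ^ e) h = h := by
  induction e with
  | zero => simp
  | succ n ih => rw [pow_succ]; simp [ih, hh]

theorem pow_stable {X : Type*} [Group X] (σ : MulAut X) (Y : Subgroup X) (hY : ∀ y : X, y ∈ Y ↔ σ y ∈ Y)
    (e : ℕ) (y : X) : y ∈ Y ↔ (σ ^ e) y ∈ Y := by
  induction e with
  | zero => simp
  | succ n ih =>
    rw [pow_succ']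
    simp only [MulAut.mul_apply]
    rw [ih]
    exact hY _

theorem main {X : Type*} [Group X] (σ : MulAut X) (e : ℕ)
    (Y : Subgroup X) (hY : ∀ y : X, y ∈ Y ↔ σ y ∈ Y)
    (hYL : ∀ y ∈ Y, ∃ a ∈ Y, y = a * (σ a)⁻¹) (hYLe : ∀ y ∈ Y, ∃ a ∈ Y, y = a * ((σ ^ e) a)⁻¹)
    (g : X) (a : X) (ha : g = a * (σ a)⁻¹) :
    Nat.card {k : ↥((MulEquiv.toMonoidHom (σ ^ e)).eqLocus (MonoidHom.id X)) // (k : X)⁻¹ * g * σ k ∈ Y} *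
        Nat.card ↥(Y ⊓ (MulEquiv.toMonoidHom σ).eqLocus (MonoidHom.id X)) =
      Nat.card {h : ↥((MulEquiv.toMonoidHom σ).eqLocus (MonoidHom.id X)) // (h : X)⁻¹ * (((σ ^ e) a)⁻¹ * a) * h ∈ Y} *
        Nat.card ↥(Y ⊓ (MulEquiv.toMonoidHom (σ ^ e)).eqLocus (MonoidHom.id X)) := by
  subst ha
  set τ := σ ^ e with hτ
  have hYτ := pow_stable σ Y hY e
  apply count_lemma _ _ Y a
  · rintro ⟨k, hk⟩ ⟨h, hh⟩ hy
    rw [mem_fix] at hk hh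
    simp only at hy ⊢
    have h2 : σ (k⁻¹ * a * h⁻¹) ∈ Y := (hY _).mp hy
    simp only [map_mul, map_inv, hh] at h2
    have : k⁻¹ * (a * (σ a)⁻¹) * σ k = (k⁻¹ * a * h⁻¹) * ((σ k)⁻¹ * σ a * h⁻¹)⁻¹ := by group
    rw [this]
    exact Y.mul_mem hy (Y.inv_mem h2)
  · rintro ⟨k, hk⟩ hP
    simp only at hP
    obtain ⟨y₀, hy₀, hy₀e⟩ := hYL _ hP
    have hfix : σ (y₀⁻¹ * (k⁻¹ * a)) = y₀⁻¹ * (k⁻¹ * a) := by
      simp only [map_mul, map_inv]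
      calc (σ y₀)⁻¹ * ((σ k)⁻¹ * σ a) = y₀⁻¹ * (y₀ * (σ y₀)⁻¹) * ((σ k)⁻¹ * σ a) := by group
        _ = y₀⁻¹ * (k⁻¹ * (a * (σ a)⁻¹) * σ k) * ((σ k)⁻¹ * σ a) := by rw [hy₀e]
        _ = _ := by group
    refine ⟨⟨y₀⁻¹ * (k⁻¹ * a), hfix⟩, ?_⟩
    simp only
    have : k⁻¹ * a * (y₀⁻¹ * (k⁻¹ * a))⁻¹ = y₀ := by group
    rw [this]
    exact hy₀
  · rintro ⟨k, hk⟩ ⟨h, hh⟩ hy
    rw [mem_fix] at hk hh
    have hh' : τ h = h := pow_fix σ e h hh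
    simp only [Subgroup.coe_inv] at hy ⊢
    have h2 : τ (k⁻¹ * a * h⁻¹) ∈ Y := (hYτ _).mp hy
    simp only [map_mul, map_inv, hh', hk] at h2
    have : h⁻¹⁻¹ * ((τ a)⁻¹ * a) * h⁻¹ = (k⁻¹ * τ a * h⁻¹)⁻¹ * (k⁻¹ * a * h⁻¹) := by group
    rw [this]
    exact Y.mul_mem (Y.inv_mem h2) hy
  · rintro ⟨h', hh⟩ hP
    rw [mem_fix] at hh
    have hh' : τ h' = h' := pow_fix σ e h' hh
    simp only at hP
    obtain ⟨y₁, hy₁, hy₁e⟩ := hYLe _ (Y.inv_mem hP)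
    have hfix : τ (a * h' * y₁) = a * h' * y₁ := by
      simp only [map_mul, hh']
      calc τ a * h' * τ y₁ = a * h' * (h'⁻¹ * ((τ a)⁻¹ * a) * h')⁻¹ * τ y₁ := by group
        _ = a * h' * (y₁ * (τ y₁)⁻¹) * τ y₁ := by rw [hy₁e]
        _ = _ := by group
    refine ⟨⟨a * h' * y₁, hfix⟩, ?_⟩
    simp only
    have : (a * h' * y₁)⁻¹ * a * h' = y₁⁻¹ := by group
    rw [this]
    exact Y.inv_mem hy₁

theorem result {X : Type*} [Group X] (σ : MulAut X) (e : ℕ) (he : 1 ≤ e)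
    [Finite ↥((MulEquiv.toMonoidHom (σ ^ e)).eqLocus (MonoidHom.id X))]
    (Y : Subgroup X) (hY : ∀ y : X, y ∈ Y ↔ σ y ∈ Y)
    (hYL : ∀ y ∈ Y, ∃ a ∈ Y, y = a * (σ a)⁻¹) (hYLe : ∀ y ∈ Y, ∃ a ∈ Y, y = a * ((σ ^ e) a)⁻¹)
    (g : X) (hg : g ∈ (MulEquiv.toMonoidHom (σ ^ e)).eqLocus (MonoidHom.id X)) (a : X) (ha : g = a * (σ a)⁻¹) :
    Nat.card {k : ↥((MulEquiv.toMonoidHom (σ ^ e)).eqLocus (MonoidHom.id X)) // (k : X)⁻¹ * g * σ k ∈ Y} *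
        Nat.card ↥(Y ⊓ (MulEquiv.toMonoidHom σ).eqLocus (MonoidHom.id X)) =
      Nat.card {h : ↥((MulEquiv.toMonoidHom σ).eqLocus (MonoidHom.id X)) // (h : X)⁻¹ * (((σ ^ e) a)⁻¹ * a) * h ∈ Y} *
        Nat.card ↥(Y ⊓ (MulEquiv.toMonoidHom (σ ^ e)).eqLocus (MonoidHom.id X)) := by
  exact main σ e Y hY hYL hYLe g a ha

end Cfsg.Agent.S2669
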