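import Cfsg.Statements.S2677
import Cfsg.Agent.Lib.Helper16.UnitaryFixed4
import Cfsg.Agent.S0277

set_option autoImplicit false
open Cfsg
open Cfsg.Agent.Lib.Helper16

namespace Cfsg.Agent.S2677

theorem result {K : Type*} [Field K] [Fintype K] {q₀ q r n : ℕ} (hr : r.Prime) (hr2 : r ≠ 2) (hn : 1 ≤ n) (hq : q = q₀ ^ r) (hK : Fintype.card K = q ^ 2) (σ : K ≃+* K) (hσ : orderOf σ = r) : (Nat.card {g : ↥(Cfsg.GU n K q) // ∃ c : K, c ≠ 0 ∧ ((g : GL (Fin n) K) : Matrix (Fin n) (Fin n) K).map σ = c • ((g : GL (Fin n) K) : Matrix (Fin n) (Fin n) K)} : ℤ) = ((q + 1) / (q₀ + 1) : ℕ) * ((q₀ : ℤ) ^ (n * (n - 1) / 2) * ∏ i : Fin n, ((q₀ : ℤ) ^ ((i : ℕ) + 1) - (-1) ^ ((i : ℕ) + 1))) := by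
  classical
  subst hq
  have hodd : Odd r := hr.eq_two_or_odd'.resolve_left hr2
  set K₀ := FixedPoints.subfield (Subgroup.zpowers σ) K with hK₀def
  have hK' : Fintype.card K = (q₀ ^ 2) ^ r := by rw [hK]; ring
  have hcard : Nat.card K₀ = q₀ ^ 2 := fixed_card hr hK' σ hσ
  have : Fintype K₀ := Fintype.ofFinite _
  have hK₀ : Fintype.card K₀ = q₀ ^ 2 := by rw [← Nat.card_eq_fintype_card, hcard]
  have hmem : ∀ x, x ∈ K₀ ↔ σ x = x := mem_fixed_iff σ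
  obtain ⟨p, a, hp, hcp, hqp⟩ := exists_char_pow hK
  obtain ⟨p₀, b, hp₀, hcp₀, hq₀p⟩ := exists_char_pow (K := K₀) hK₀
  have hcount := unitary_count σ K₀ hmem hodd hK hK₀ hp hqp hp₀ hq₀p hn
  have hGU := Cfsg.Agent.S0277.result hK₀ n
  have hq₀pos : 0 < q₀ := by
    rcases Nat.eq_zero_or_pos q₀ with h0 | h0
    · have : 1 < Fintype.card K₀ := Fintype.one_lt_card
      rw [hK₀, h0] at this
      omega
    · exact h0
  obtain ⟨k, hk⟩ : q₀ + 1 ∣ q₀ ^ r + 1 := by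
    have := Odd.nat_add_dvd_pow_add_pow q₀ 1 hodd
    rwa [one_pow] at this
  have hpos : 0 < q₀ + 1 := by omega
  rw [hk, Nat.mul_div_cancel_left k hpos]
  rw [hk] at hcount
  have hN : Nat.card {g : ↥(Cfsg.GU n K (q₀ ^ r)) // ∃ c : K, c ≠ 0 ∧
        ((g : GL (Fin n) K) : Matrix (Fin n) (Fin n) K).map σ = c • ((g : GL (Fin n) K) : Matrix (Fin n) (Fin n) K)}
      = k * Nat.card ↥(Cfsg.GU n K₀ q₀) := by
    apply Nat.eq_of_mul_eq_mul_left hpos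
    rw [mul_comm, hcount]
    ring
  rw [hN, hGU, Nat.cast_mul, Nat.cast_mul, Nat.cast_pow, Nat.cast_prod]
  congr 2
  rw [Fin.prod_univ_eq_prod_range (fun i => ((q₀ : ℤ) ^ (i + 1) - (-1) ^ (i + 1))) n]
  apply Finset.prod_congr rfl
  intro i _
  by_cases hi : Even i
  · rw [if_pos hi]
    have : Odd (i + 1) := hi.add_one
    rw [this.neg_one_pow]
    push_cast
    ring
  · rw [if_neg hi]
    have : Even (i + 1) := by
      rw [Nat.not_even_iff_odd] at hi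
      exact hi.add_one
    rw [this.neg_one_pow]
    have h1 : 1 ≤ q₀ ^ (i + 1) := Nat.one_le_pow _ _ hq₀pos
    push_cast [Nat.cast_sub h1]
    ring

end Cfsg.Agent.S2677
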