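import Cfsg.Statements.S2678
import Cfsg.Agent.Lib.Helper16.Symplectic
import Cfsg.Agent.Lib.Helper16.FieldExt
import Cfsg.Agent.S2574

set_option autoImplicit false
open Cfsg

namespace Cfsg.Agent.S2678

open Cfsg.Agent.Lib.Helper16
open Module

theorem sympForm_self {R : Type*} [CommRing R] {m : ℕ} (u : Fin m ⊕ Fin m → R) : Cfsg.sympForm m R u u = 0 := by
  unfold Cfsg.sympForm Matrix.J
  simp only [dotProduct, Matrix.mulVec, Matrix.fromBlocks, Fintype.sum_sum_type, Matrix.of_apply, Sum.elim_inl,
    Sum.elim_inr, Matrix.zero_apply, Matrix.neg_apply, Matrix.one_apply, zero_mul, Finset.sum_const_zero, zero_add,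
    add_zero]
  simp only [neg_mul, ite_mul, one_mul, zero_mul, Finset.sum_neg_distrib, Finset.sum_ite_eq, Finset.mem_univ, if_true,
    mul_neg]
  rw [← sub_eq_neg_add, sub_eq_zero]
  apply Finset.sum_congr rfl
  intro i _
  ring

/-- Field-extension embedding of symplectic groups: for a field K with q² elements and a field F with q elements there is an injective homomorphism Sp_2a(K) → Sp_4a(F). -/
theorem result {K F : Type*} [Field K] [Fintype K] [Field F] [Fintype F] {q : ℕ} (hK : Fintype.card K = q ^ 2) (hF : Fintype.card F = q) (a : ℕ) : ∃ φ : ↥(Matrix.symplecticGroup (Fin a) K) →* ↥(Matrix.symplecticGroup (Fin (2 * a)) F), Function.Injective φ := by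
  obtain ⟨alg, hfr⟩ := exists_algebra_of_card hK hF
  letI := alg
  have hV : finrank F (Fin a ⊕ Fin a → K) = 2 * (2 * a) := by
    rw [Module.finrank_pi_fintype]
    simp only [hfr, Finset.sum_const, Finset.card_univ, Fintype.card_sum, Fintype.card_fin, smul_eq_mul]
    ring
  obtain ⟨lam, hlam⟩ : ∃ lam : K →ₗ[F] F, lam 1 ≠ 0 := by
    by_contra hcon
    push Not at hcon
    exact one_ne_zero ((Module.forall_dual_apply_eq_zero_iff F (1 : K)).mp hcon)
  let BK : LinearMap.BilinForm K (Fin a ⊕ Fin a → K) := Matrix.toBilin' (Matrix.J (Fin a) K)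
  have hBK : ∀ u v, BK u v = Cfsg.sympForm a K u v := fun u v => Matrix.toBilin'_apply' _ u v
  have hBKnd : BK.Nondegenerate := by
    apply Matrix.Nondegenerate.toBilin'
    apply Matrix.nondegenerate_of_det_ne_zero
    exact (Matrix.isUnit_det_J (Fin a) K).ne_zero
  let ω : LinearMap.BilinForm F (Fin a ⊕ Fin a → K) := (BK.restrictScalars₁₂ F F).compr₂ lam
  have hω : ∀ u v, ω u v = lam (BK u v) := fun u v => rfl
  have hωalt : ω.IsAlt := by
    intro u
    rw [hω, hBK, sympForm_self, map_zero]
  have hleft : ∀ u, (∀ v, ω u v = 0) → u = 0 := by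
    intro u hu
    apply hBKnd.1 u
    intro v
    by_contra hne
    apply hlam
    have h1 := hu ((BK u v)⁻¹ • v)
    rw [hω, map_smul, smul_eq_mul, inv_mul_cancel₀ hne] at h1
    exact h1
  have hωnd : ω.Nondegenerate := by
    refine ⟨hleft, ?_⟩
    intro v hv
    apply hleft
    intro u
    rw [← hωalt.neg_eq, hv u, neg_zero]
  obtain ⟨b, hb⟩ := symplectic_basis hV ω hωalt hωnd
  let ρ : ↥(Matrix.symplecticGroup (Fin a) K) →* ((Fin a ⊕ Fin a → K) →ₗ[F] (Fin a ⊕ Fin a → K)) :=
    { toFun := fun A => (Matrix.toLin' (A : Matrix (Fin a ⊕ Fin a) (Fin a ⊕ Fin a) K)).restrictScalars F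
      map_one' := by
        apply LinearMap.ext
        intro v
        simp
      map_mul' := by
        intro A B
        apply LinearMap.ext
        intro v
        simp [Matrix.toLin'_mul] }
  have hρapp : ∀ A v, ρ A v = (A : Matrix (Fin a ⊕ Fin a) (Fin a ⊕ Fin a) K).mulVec v := fun A v => rfl
  refine embed_of_invariant b ω hb ρ ?_ ?_
  · intro A u v
    rw [hω, hω, hBK, hBK, hρapp, hρapp, Cfsg.Agent.S2574.symp_pres _ A.2]
  · intro A B hAB
    apply Subtype.ext
    apply Matrix.toLin'.injective
    apply LinearMap.ext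
    intro v
    have := congrArg (fun l => l v) hAB
    exact this

end Cfsg.Agent.S2678
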