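import Cfsg.Statements.S2679
import Cfsg.Agent.Lib.Helper16.MinusForm

set_option autoImplicit false
open Cfsg
open Cfsg.Agent.Lib.Helper16

namespace Cfsg.Agent.S2679

open Module

theorem result {F K : Type*} [Field F] [Fintype F] [Field K] [Fintype K] {q : ℕ} (hF : Fintype.card F = q) (hK : Fintype.card K = q ^ 2) {m : ℕ} (hm : 1 ≤ m) (a c : F) (hac : ∀ z₁ z₂ : F, z₁ ^ 2 + a * z₁ * z₂ + c * z₂ ^ 2 = 0 → z₁ = 0 ∧ z₂ = 0) : ∃ φ : ↥(Cfsg.isometryGroup F (Cfsg.quadFormMinus (m - 1) F a c)) →* ↥(Cfsg.isometryGroup K (Cfsg.quadFormPlus m K)), Function.Injective φ := by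
  obtain ⟨alg, hfr⟩ := exists_algebra_of_card hK hF
  let _ := alg
  obtain ⟨k, rfl⟩ : ∃ k, m = k + 1 := ⟨m - 1, by omega⟩
  show ∃ φ : ↥(Cfsg.isometryGroup F (Cfsg.quadFormMinus k F a c)) →* ↥(Cfsg.isometryGroup K (Cfsg.quadFormPlus (k + 1) K)), Function.Injective φ
  obtain ⟨r, hr⟩ := exists_root_of_aniso hfr a c hac
  have hdisc := disc_ne_zero_of_aniso a c hac
  set a' := algebraMap F K a with ha'
  set c' := algebraMap F K c with hc'
  have hrr : r ≠ -a' - r := by
    intro h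
    apply hdisc
    apply (algebraMap F K).injective
    rw [map_zero, map_sub, map_mul, map_pow, ← ha', ← hc']
    have h4 : algebraMap F K 4 = 4 := map_ofNat (algebraMap F K) 4
    rw [h4]
    have h2 : 2 * r + a' = 0 := by linear_combination h
    linear_combination (2 * r + a') * h2 - 4 * hr
  let T := splitEquiv k r (-a' - r) hrr
  have hT : ∀ v, Cfsg.quadFormPlus (k + 1) K (T v) = Cfsg.quadFormMinus k K a' c' v := by
    intro v
    rw [splitEquiv_apply]
    apply splitMap_quad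
    · ring
    · linear_combination (-1 : K) * hr
  let ρ : ↥(Cfsg.isometryGroup F (Cfsg.quadFormMinus k F a c)) →*
      (((Fin k ⊕ Fin k) ⊕ Fin 2 → K) →ₗ[K] ((Fin k ⊕ Fin k) ⊕ Fin 2 → K)) :=
    { toFun := fun A => Matrix.toLin' (((A : GL ((Fin k ⊕ Fin k) ⊕ Fin 2) F) :
        Matrix ((Fin k ⊕ Fin k) ⊕ Fin 2) ((Fin k ⊕ Fin k) ⊕ Fin 2) F).map (algebraMap F K))
      map_one' := by
        apply LinearMap.ext
        intro v
        simp
      map_mul' := by
        intro A B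
        apply LinearMap.ext
        intro v
        simp [Matrix.toLin'_mul, Matrix.map_mul] }
  have hρapp : ∀ A v, ρ A v = (((A : GL ((Fin k ⊕ Fin k) ⊕ Fin 2) F) :
        Matrix ((Fin k ⊕ Fin k) ⊕ Fin 2) ((Fin k ⊕ Fin k) ⊕ Fin 2) F).map (algebraMap F K)).mulVec v := fun A v => rfl
  refine embed_isometry T (Cfsg.quadFormPlus (k + 1) K) (Cfsg.quadFormMinus k K a' c') hT ρ ?_ ?_
  · intro A v
    rw [hρapp, ← minusQ_apply, ← minusQ_apply]
    apply ext_scalars_invariant (algebraMap F K) (minusQ k a' c') (Cfsg.quadFormMinus k F a c)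
    · intro u
      rw [minusQ_apply]
      exact quadFormMinus_map (algebraMap F K) a c u
    · intro u
      exact A.2 u u
  · intro A B hAB
    apply Subtype.ext
    apply Units.ext
    have h1 : Matrix.toLin' (((A : GL ((Fin k ⊕ Fin k) ⊕ Fin 2) F) :
        Matrix ((Fin k ⊕ Fin k) ⊕ Fin 2) ((Fin k ⊕ Fin k) ⊕ Fin 2) F).map (algebraMap F K)) =
        Matrix.toLin' (((B : GL ((Fin k ⊕ Fin k) ⊕ Fin 2) F) :
        Matrix ((Fin k ⊕ Fin k) ⊕ Fin 2) ((Fin k ⊕ Fin k) ⊕ Fin 2) F).map (algebraMap F K)) := hAB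
    have h2 := Matrix.toLin'.injective h1
    exact Matrix.map_injective (algebraMap F K).injective h2

end Cfsg.Agent.S2679
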