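import Cfsg.Statements.S2682
import Cfsg.Agent.Lib.helper14.SpcH

set_option autoImplicit false
open Cfsg

namespace Cfsg.Agent.S2682

open Cfsg.Agent.Lib.helper14.Spc

/-- Centraliser order of an involution t of Sp_2m(q), q even, with s = rank(t − 1) even and f(v, tv) ≠ 0 for some v, f the symplectic form (type c_s): |C(t)| = q^(2ms − (3s² − 3s)/2 − 1) · |Sp_(s−2)(q)| · |Sp_(2m−2s)(q)|. -/
theorem result {F : Type*} [Field F] [Fintype F] [CharP F 2] {q : ℕ} (hF : Fintype.card F = q) {m s : ℕ} (t : Matrix.symplecticGroup (Fin m) F) (ht : t ^ 2 = 1) (hs : ((t : Matrix (Fin m ⊕ Fin m) (Fin m ⊕ Fin m) F) - 1).rank = s) (heven : Even s) (hna : ∃ v : Fin m ⊕ Fin m → F, Cfsg.sympForm m F v ((t : Matrix (Fin m ⊕ Fin m) (Fin m ⊕ Fin m) F).mulVec v) ≠ 0) : Nat.card ↥(Subgroup.centralizer ({t} : Set ↥(Matrix.symplecticGroup (Fin m) F))) = q ^ (2 * m * s - (3 * s ^ 2 - 3 * s) / 2 - 1) * ((q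 : ℕ) ^ (((s - 2) / 2) ^ 2) * ∏ i : Fin ((s - 2) / 2), (q ^ (2 * ((i : ℕ) + 1)) - 1)) * ((q : ℕ) ^ ((m - s) ^ 2) * ∏ i : Fin (m - s), (q ^ (2 * ((i : ℕ) + 1)) - 1)) := by
  subst hF
  have hna' : ¬ ∀ v : Fin m ⊕ Fin m → F, Cfsg.sympForm m F v
      ((t : Matrix (Fin m ⊕ Fin m) (Fin m ⊕ Fin m) F).mulVec v) = 0 := by
    obtain ⟨v, hv⟩ := hna
    intro h
    exact hv (h v)
  have hs1 : 1 ≤ s := by rw [← hs]; exact rank_pos_of_na t hna'
  obtain ⟨hsm, h⟩ := card_centralizer_na t ht s hs hna'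
  have hs2 : 2 ≤ s := by
    obtain ⟨j, hj⟩ := heven
    omega
  have hexp := expo_c m s hsm heven hs2
  obtain ⟨k, hk⟩ : ∃ k, s = 2 * k + 2 := by
    obtain ⟨j, hj⟩ := heven
    exact ⟨j - 1, by omega⟩
  subst hk
  rw [h, (card_OG_one_closed (F := F) k).2, ← hexp]
  have e : (2 * k + 2 - 2) / 2 = k := by omega
  have e2 : 2 * k + 2 - 1 = 2 * k + 1 := by omega
  rw [e, e2, Fin.prod_univ_eq_prod_range (fun i => Fintype.card F ^ (2 * (i + 1)) - 1) k,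
    Fin.prod_univ_eq_prod_range (fun i => Fintype.card F ^ (2 * (i + 1)) - 1) (m - (2 * k + 2)),
    pow_add]
  unfold spOrd
  ring

end Cfsg.Agent.S2682
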