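import Cfsg.Statements.S2683
import Cfsg.Agent.Lib.helper14.SoK

set_option autoImplicit false
open Cfsg

namespace Cfsg.Agent.S2683

open Cfsg.Agent.Lib.helper14.Spc Cfsg.Agent.Lib.helper14.So Cfsg.Agent.Lib.Helper16

/-- For the hyperbolic form Σ x_j y_j on F^(2m) over a finite field with q elements, q even (excluding m = 2 over the field of two elements), and an involution x of the orthogonal group with s = rank(x − 1) odd (type b_s; such x lie outside Ω): the elements of Ω (the commutator subgroup of the orthogonal group) commuting with x number q^(2m(s−1) − (3s² − 3s)/2) · |Sp_(s−1)(q)| · |Sp_(2m−2s)(q)|, where |Sp_2k(q)| = q^(k²) Π_(i=1)^k (q^(2i) − 1). -/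
theorem result {F : Type*} [Field F] [Fintype F] [CharP F 2] {q : ℕ} (hF : Fintype.card F = q) {m s : ℕ} (h : Fintype.card F ≠ 2 ∨ m ≠ 2) (x : ↥(Cfsg.isometryGroup F (Cfsg.quadFormPlus m F))) (hx : x ^ 2 = 1) (hs : (((x : Matrix.GeneralLinearGroup (Fin m ⊕ Fin m) F) : Matrix (Fin m ⊕ Fin m) (Fin m ⊕ Fin m) F) - 1).rank = s) (hodd : Odd s) : Nat.card {g : ↥(Cfsg.Omega F (Cfsg.quadFormPlus m F)) // (g : ↥(Cfsg.isometryGroup F (Cfsg.quadFormPlus m F))) * x = x * (g : ↥(Cfsg.isometryGroup F (Cfsg.quadFormPlus m F)))} = q ^ (2 * m * (s - 1) - (3 * s ^ 2 - 3 * s) / 2) * ((q : ℕ) ^ (((s - 1) / 2) ^ 2) * ∏ i : Fin ((s - 1) / 2), (q ^ (2 * ((i : ℕ) + 1)) - 1)) * ((q : ℕ) ^ ((m - s) ^ 2) * ∏ i : Fin (m - s), (q ^ (2 * ((i : ℕ) + 1)) - 1)) := by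
  subst hF
  obtain ⟨k, rfl⟩ := hodd
  have hnd := qfPlus_nondeg m F
  have hna : ¬ ∀ v, pol (qfPlus m F) v (Npart (⇑(qfPlus m F)) x v) = 0 := by
    intro halt
    have hev := even_rank_of_alt (pol (qfPlus m F)) (pol_isAlt _) hnd
      (Npart_isInvPart (qfPlus m F) x hx) halt
    have hev' : Even (mat (⇑(qfPlus m F)) x - 1).rank := hev
    have hs' : (mat (⇑(qfPlus m F)) x - 1).rank = 2 * k + 1 := hs
    rw [hs'] at hev'
    exact (Nat.not_even_iff_odd.mpr ⟨k, rfl⟩) hev'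
  obtain ⟨_, _, hcard⟩ := card_commuting_na h x hx (2 * k + 1) hs hna
  rw [(card_OG_one_closed (F := F) k).1] at hcard
  have e : (2 * k + 1 - 1) / 2 = k := by omega
  rw [e, Fin.prod_univ_eq_prod_range (fun i => Fintype.card F ^ (2 * (i + 1)) - 1) k,
    Fin.prod_univ_eq_prod_range (fun i => Fintype.card F ^ (2 * (i + 1)) - 1) (m - (2 * k + 1))]
  exact hcard

end Cfsg.Agent.S2683
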