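import Cfsg.Statements.S2685
import Cfsg.Agent.Lib.helper14.SoK

set_option autoImplicit false
open Cfsg

namespace Cfsg.Agent.S2685

open Cfsg.Agent.Lib.helper14.Spc Cfsg.Agent.Lib.helper14.So Cfsg.Agent.Lib.Helper16

/-- For the hyperbolic form Q = Σ x_j y_j on F^(2m) over a finite field with q elements, q even (excluding m = 2 over the field of two elements), and an involution x of the orthogonal group with s = rank(x − 1) even and Q not vanishing on the image of x − 1 (f(v, xv) ≠ 0 for some v, where f(u, w) = Q(u + w) − Q(u) − Q(w) is the bilinear form of Q; type c_s, which lies in Ω): its centraliser in Ω (the commutator subgroup of the orthogonal group) has order q^(2m(s−1) − (3s² − 5s)/2 − 1) · |Sp_(s−2)(q)| · |Sp_(2m−2s)(q)|. -/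
theorem result {F : Type*} [Field F] [Fintype F] [CharP F 2] {q : ℕ} (hF : Fintype.card F = q) {m s : ℕ} (h : Fintype.card F ≠ 2 ∨ m ≠ 2) (x : ↥(Cfsg.isometryGroup F (Cfsg.quadFormPlus m F))) (hx : x ^ 2 = 1) (hs : (((x : Matrix.GeneralLinearGroup (Fin m ⊕ Fin m) F) : Matrix (Fin m ⊕ Fin m) (Fin m ⊕ Fin m) F) - 1).rank = s) (heven : Even s) (hna : ∃ v : Fin m ⊕ Fin m → F, Cfsg.quadFormPlus m F ((((x : Matrix.GeneralLinearGroup (Fin m ⊕ Fin m) F) : Matrix (Fin m ⊕ Fin m) (Fin m ⊕ Fin m) F) - 1).mulVec v) ≠ 0) : Nat.card {g : ↥(Cfsg.Omega F (Cfsg.quadFormPlus m F)) // (g : ↥(Cfsg.isometryGroup F (Cfsg.quadFormPlus m F))) * x = x * (g : ↥(Cfsg.isometryGroup F (Cfsg.quadFormPlus m F)))} = q ^ (2 * m * (s - 1) - (3 * s ^ 2 - 5 * s) / 2 - 1) * ((q : ℕ) ^ (((s - 2) / 2) ^ 2) * ∏ i : Fin ((s - 2) / 2), (q ^ (2 * ((i : ℕ) + 1)) - 1)) * ((q : ℕ) ^ ((m - s) ^ 2) * ∏ i : Fin (m - s), (q ^ (2 * ((i : ℕ) + 1)) - 1)) := by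
  subst hF
  have hna' : ¬ ∀ v, pol (qfPlus m F) v (Npart (⇑(qfPlus m F)) x v) = 0 := by
    obtain ⟨v, hv⟩ := hna
    intro hcon
    apply hv
    have h1 := Npart_isQN (qfPlus m F) x v
    rw [hcon v] at h1
    exact h1
  obtain ⟨hs1, hsm, hcard⟩ := card_commuting_na h x hx s hs hna'
  have hs2 : 2 ≤ s := by
    obtain ⟨j, hj⟩ := heven
    omega
  have hexp := expo_c' m s hsm heven hs2
  obtain ⟨k, hk⟩ : ∃ k, s = 2 * k + 2 := by
    obtain ⟨j, hj⟩ := heven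
    exact ⟨j - 1, by omega⟩
  subst hk
  rw [(card_OG_one_closed (F := F) k).2] at hcard
  rw [← hexp]
  have e : (2 * k + 2 - 2) / 2 = k := by omega
  have e2 : 2 * k + 2 - 1 = 2 * k + 1 := by omega
  rw [e, Fin.prod_univ_eq_prod_range (fun i => Fintype.card F ^ (2 * (i + 1)) - 1) k,
    Fin.prod_univ_eq_prod_range (fun i => Fintype.card F ^ (2 * (i + 1)) - 1) (m - (2 * k + 2)),
    pow_add]
  rw [e2] at hcard ⊢
  have hfin : Fintype.card F ^ (2 * m * (2 * k + 1) - (3 * (2 * k + 2) ^ 2 - 3 * (2 * k + 2)) / 2) *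
      (Fintype.card F ^ (2 * k + 1) * (Fintype.card F ^ k ^ 2 *
        ∏ i ∈ Finset.range k, (Fintype.card F ^ (2 * (i + 1)) - 1))) *
      spOrd (Fintype.card F) (m - (2 * k + 2)) =
      Fintype.card F ^ (2 * m * (2 * k + 1) - (3 * (2 * k + 2) ^ 2 - 3 * (2 * k + 2)) / 2) *
        Fintype.card F ^ (2 * k + 1) * (Fintype.card F ^ k ^ 2 *
        ∏ i ∈ Finset.range k, (Fintype.card F ^ (2 * (i + 1)) - 1)) *
      (Fintype.card F ^ (m - (2 * k + 2)) ^ 2 *
        ∏ i ∈ Finset.range (m - (2 * k + 2)), (Fintype.card F ^ (2 * (i + 1)) - 1)) := by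
    unfold spOrd
    ring
  rw [← hfin]
  exact hcard

end Cfsg.Agent.S2685
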