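import Cfsg.Statements.S2715
import Cfsg.Agent.Lib.Helper16.FA4
import Cfsg.Agent.Lib.Helper16.FB5

set_option autoImplicit false
open Cfsg

namespace Cfsg.Agent.S2715

/-- Let T = PΩ⁺_{2m}(F) (m ≥ 4, |F| = p^f; the form Σ xᵢ yᵢ), G = Inndiag(T) the image of the class-preserving similarities in Aut(T), and x a field automorphism of T of prime order r. Then r divides f; C_G(x) is isomorphic to Inndiag(PΩ⁺_{2m}(F₀)) for a field F₀ with p^(f/r) elements; and the G-class of x is the union of exactly c T-classes, where c = 1 if r is odd or p = 2, and otherwise (r = 2, p odd) c = 2 when m is odd and p^(f/2) ≡ 1 (mod 4), and c = 4 in the remaining cases. -/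
theorem result {F : Type*} [Field F] [Fintype F] {p f : ℕ} [Fact p.Prime] (hF : Fintype.card F = p ^ f) (hf : 1 ≤ f) {m : ℕ} (hm : 4 ≤ m) (x : MulAut (Cfsg.POmega F (Cfsg.quadFormPlus m F))) (hx : Cfsg.IsFieldAutClassPOmega (Cfsg.quadFormPlus m F) x) {r : ℕ} (hr : r.Prime) (hxr : orderOf x = r) (F₀ : Type*) [Field F₀] [Fintype F₀] (hF₀ : Fintype.card F₀ = p ^ (f / r)) :
    r ∣ f ∧ Nonempty (↥(Cfsg.inndiagPOmegaPlus m F ⊓ Subgroup.centralizer {x}) ≃* ↥(Cfsg.inndiagPOmegaPlus m F₀)) ∧ ((Odd r ∨ p = 2) → Cfsg.splitClassCount (Cfsg.inndiagPOmegaPlus m F) (Cfsg.Inn (Cfsg.POmega F (Cfsg.quadFormPlus m F))) x = 1) ∧ ((r = 2 ∧ p ≠ 2 ∧ Odd m ∧ p ^ (f / 2) % 4 = 1) → Cfsg.splitClassCount (Cfsg.inndiagPOmegaPlus m F) (Cfsg.Inn (Cfsg.POmega F (Cfsg.quadFormPlus m F))) x = 2) ∧ ((r = 2 ∧ p ≠ 2 ∧ ¬ (Odd m ∧ p ^ (f / 2) % 4 = 1)) → Cfsg.splitClassCount (Cfsg.inndiagPOmegaPlus m F) (Cfsg.Inn (Cfsg.POmega F (Cfsg.quadFormPlus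 m F))) x = 4) := by
  have hN : (Cfsg.inndiagPOmegaPlus m F).Normal := by
    rcases Nat.lt_or_ge 4 m with h5 | h4
    · obtain ⟨n, rfl⟩ : ∃ n, m = n + 1 := ⟨m - 1, by omega⟩
      obtain ⟨D, hDeq, hDN, -, -, -⟩ :=
        Cfsg.Agent.Lib.Helper16.OM.inndiag_plus_data (F := F) (n := n) (by omega)
      rw [hDeq]
      exact hDN
    · have h4' : m = 4 := by omega
      subst h4'
      by_cases hp : p = 2
      · subst hp
        have hcp : CharP F 2 := charP_of_card_eq_prime_pow hF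
        rw [Cfsg.Agent.Lib.Helper16.OM.inndiagPlus_eq_inn_char2 (by norm_num : 3 ≤ 4)]
        infer_instance
      · exact Cfsg.Agent.Lib.Helper16.FA.inndiagPlus4_normal hF hp
  exact Cfsg.Agent.Lib.Helper16.FA.S2715_aux hF hm hN x hx hr hxr F₀ hF₀

end Cfsg.Agent.S2715
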