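import Cfsg.Statements.S2722
import Cfsg.Agent.Lib.Lead.OrthAutPlus
-- import your own Cfsg.Agent.* helpers here

set_option autoImplicit false
open Cfsg

namespace Cfsg.Agent.S2722

/-- Let T = PΩ⁺_{2m}(F) with m ≥ 4 and |F| = q odd. Inside Aut(T), the image G̃ of the conformal orthogonal group of the form modulo the image of the special orthogonal group is elementary abelian of order 4. -/
theorem result {F : Type*} [Field F] [Fintype F] (hodd : Odd (Fintype.card F)) {m : ℕ} (hm : 4 ≤ m) :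
    (∃ φ : ↥(Cfsg.pgoAut F (Cfsg.quadFormPlus m F)) →* Multiplicative (ZMod 2 × ZMod 2), Function.Surjective φ ∧ φ.ker = (Cfsg.psoAut F (Cfsg.quadFormPlus m F)).subgroupOf (Cfsg.pgoAut F (Cfsg.quadFormPlus m F))) := by
  have h2 := Cfsg.Agent.Lib.Lead.OAP.two_ne_zero_of_odd hodd
  have hQ := Cfsg.Agent.Lib.Helper16.qfPlus_nondeg m F
  have hcard := Cfsg.Agent.Lib.Lead.OAP.card_plus (m := m)
  have hne := Cfsg.Agent.Lib.Lead.OA.exists_ne_zero (Cfsg.Agent.Lib.Helper16.qfPlus m F) h2 hQ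
    (by rw [hcard]; omega)
  obtain ⟨δ, hδ0, hδ⟩ := Cfsg.Agent.Lib.Lead.OI.exists_nonsquare (F := F) h2
  have h := Cfsg.Agent.Lib.Lead.OA.klein_quot (Cfsg.Agent.Lib.Helper16.qfPlus m F) h2 hQ
    (by rw [hcard]; omega) m hcard hne
    ⟨Cfsg.Agent.Lib.Lead.OAP.dPlus (Units.mk0 δ hδ0), Cfsg.Agent.Lib.Lead.OAP.dPlus_mem _⟩
    (by rw [Cfsg.Agent.Lib.Lead.OAP.mult_dPlus hne]; exact hδ)
    (Cfsg.Agent.Lib.Lead.OAP.eps_dPlus hne _)
  rw [Cfsg.Agent.Lib.Lead.OA.pgoAut_eq, Cfsg.Agent.Lib.Lead.OA.psoAut_eq]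
  exact h

end Cfsg.Agent.S2722
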