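import Cfsg.Statements.S2723
import Cfsg.Agent.Lib.Lead.OrthAutPlus
import Cfsg.Agent.S0790
-- import your own Cfsg.Agent.* helpers here

set_option autoImplicit false
open Cfsg

namespace Cfsg.Agent.S2723

/-- Let T = PΩ⁺_{2m}(F) with m ≥ 4 and |F| = q odd. The image of the special orthogonal group in Aut(T) contains the inner automorphism group T with index 1 (they coincide) when m is odd and q ≡ 3 (mod 4), and with index 2 otherwise (the index is 2 exactly when the discriminant of the form is a square). -/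
theorem result {F : Type*} [Field F] [Fintype F] (hodd : Odd (Fintype.card F)) {m : ℕ} (hm : 4 ≤ m) :
    ((Odd m ∧ Fintype.card F % 4 = 3) → (Cfsg.Inn (Cfsg.POmega F (Cfsg.quadFormPlus m F))).relIndex (Cfsg.psoAut F (Cfsg.quadFormPlus m F)) = 1) ∧ (¬ (Odd m ∧ Fintype.card F % 4 = 3) → (Cfsg.Inn (Cfsg.POmega F (Cfsg.quadFormPlus m F))).relIndex (Cfsg.psoAut F (Cfsg.quadFormPlus m F)) = 2) := by
  have h2 := Cfsg.Agent.Lib.Lead.OAP.two_ne_zero_of_odd hodd
  have hQ := Cfsg.Agent.Lib.Helper16.qfPlus_nondeg m F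
  have hcard := Cfsg.Agent.Lib.Lead.OAP.card_plus (m := m)
  have h := Cfsg.Agent.Lib.Lead.OA.relIndex_inn_pso (Cfsg.Agent.Lib.Helper16.qfPlus m F) h2 hQ
    (by rw [hcard]; omega) m hcard
  have hiff := Cfsg.Agent.S0790.result (F := F) rfl hodd m (by omega)
  have hq : Fintype.card F % 2 = 1 := Nat.odd_iff.mp hodd
  have har := Cfsg.Agent.Lib.Lead.OAP.pow_mod_four_iff (Fintype.card F) m hq
  constructor
  · intro hc
    apply h.2
    intro hneg
    exact (har.mp (hiff.mp hneg)) hc
  · intro hc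
    apply h.1
    exact hiff.mpr (har.mpr hc)

end Cfsg.Agent.S2723
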