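import Cfsg.Statements.S2726
import Cfsg.Agent.Lib.Lead.OrthAutMinus
import Cfsg.Agent.S0791
-- import your own Cfsg.Agent.* helpers here

set_option autoImplicit false
set_option maxHeartbeats 4000000
open Cfsg

namespace Cfsg.Agent.S2726

/-- Let T = PΩ⁻_{2m+2}(F) with m ≥ 3 and |F| = q odd (form with anisotropic binary part). Inside Aut(T), the image G̃ of the conformal orthogonal group of the form modulo the image of the special orthogonal group is elementary abelian of order 4. -/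
theorem result {F : Type*} [Field F] [Fintype F] (hodd : Odd (Fintype.card F)) {m : ℕ} (hm : 3 ≤ m) (a b : F) (hab : (∀ z₁ z₂ : F, z₁ ^ 2 + a * z₁ * z₂ + b * z₂ ^ 2 = 0 → z₁ = 0 ∧ z₂ = 0)) :
    (∃ φ : ↥(Cfsg.pgoAut F (Cfsg.quadFormMinus m F a b)) →* Multiplicative (ZMod 2 × ZMod 2), Function.Surjective φ ∧ φ.ker = (Cfsg.psoAut F (Cfsg.quadFormMinus m F a b)).subgroupOf (Cfsg.pgoAut F (Cfsg.quadFormMinus m F a b))) := by
  have h2 := Cfsg.Agent.Lib.Lead.OAP.two_ne_zero_of_odd hodd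
  have hQ := Cfsg.Agent.S0791.nondeg_minus m a b hab
  have hcard := Cfsg.Agent.Lib.Lead.OAM.card_minus (m := m)
  have hn : 4 ≤ Fintype.card ((Fin m ⊕ Fin m) ⊕ Fin 2) := by rw [hcard]; omega
  have hne := Cfsg.Agent.Lib.Lead.OA.exists_ne_zero (Cfsg.Agent.Lib.Helper16.qfMinus m F a b) h2 hQ
    (by omega)
  obtain ⟨δ, hδ0, hδ⟩ := Cfsg.Agent.Lib.Lead.OI.exists_nonsquare (F := F) h2
  obtain ⟨w₁, w₂, hc⟩ := Cfsg.Agent.Lib.Lead.OAM.exists_norm_binary a b h2 hab δ hδ0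
  have hc' : w₁ ^ 2 + a * w₁ * w₂ + b * w₂ ^ 2 = ((Units.mk0 δ hδ0 : Fˣ) : F) := hc
  have hg₁ : ¬ IsSquare ((Cfsg.Agent.Lib.Lead.OA.mult (Cfsg.Agent.Lib.Helper16.qfMinus m F a b)
      ⟨Cfsg.Agent.Lib.Lead.OAM.dMinus a b (Units.mk0 δ hδ0) w₁ w₂ hc',
        Cfsg.Agent.Lib.Lead.OAM.dMinus_mem a b _ w₁ w₂ hc'⟩ : Fˣ) : F) := by
    rw [Cfsg.Agent.Lib.Lead.OAM.mult_dMinus a b hne]; exact hδ
  have h := Cfsg.Agent.Lib.Lead.OA.klein_quot (Cfsg.Agent.Lib.Helper16.qfMinus m F a b) h2 hQ hn (m + 1)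
    hcard hne
    ⟨Cfsg.Agent.Lib.Lead.OAM.dMinus a b (Units.mk0 δ hδ0) w₁ w₂ hc',
      Cfsg.Agent.Lib.Lead.OAM.dMinus_mem a b _ w₁ w₂ hc'⟩ hg₁
    (Cfsg.Agent.Lib.Lead.OAM.eps_dMinus a b hne _ w₁ w₂ hc')
  rw [Cfsg.Agent.Lib.Lead.OA.pgoAut_eq, Cfsg.Agent.Lib.Lead.OA.psoAut_eq]
  exact h

end Cfsg.Agent.S2726
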