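import Cfsg.Statements.S2734
import Cfsg.Agent.Lib.helper8.ChevGrD4g

set_option autoImplicit false
open Cfsg

namespace Cfsg.Agent.S2734

open Cfsg.Agent.Lib.helper8 Cfsg.Lie in
/-- In the Chevalley group of type D₄ over a finite field F (the matrix group generated by the root elements), a graph automorphism attached to a symmetry π of the Dynkin diagram (sending each fundamental root element x_p(t) to x_{π(p)}(t) and each x_{−p}(t) to x_{−π(p)}(t)) that has order 3 — a standard triality graph automorphism, π being a 3-cycle of the three outer nodes — has fixed-point subgroup isomorphic to the Chevalley group of type G₂ over F. -/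
theorem result {F : Type*} [Field F] [Fintype F] (τ : MulAut ↥(Cfsg.Lie.chevD4.group F)) (hτ : Cfsg.Lie.chevD4.IsGraphAut τ) (hτ3 : orderOf τ = 3) :
    Nonempty (↥(MonoidHom.eqLocus τ.toMonoidHom (MonoidHom.id ↥(Cfsg.Lie.chevD4.group F))) ≃* ↥(Cfsg.Lie.chevG2.group F)) := by
  classical
  have hD : chevD4 ∈ [chevG2, chevB2, chevD4, chevF4, chevE6, chevE7, chevE8] := by simp
  have hB := h8base_all chevD4 hD
  have hA := h8reflAll chevD4 hD
  have hBN := h8bn_all chevD4 hD
  obtain ⟨π, hπ, hτ⟩ := hτ
  -- the automorphism on the generators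
  have hx : ∀ (j : Fin chevD4.rank) (t : F),
      ((τ ⟨h8xU chevD4 hB (chevD4.simple j.val) t, h8xU_mem_group chevD4 hB _ _⟩ :
        ↥(chevD4.group F)) : GL chevD4.Idx F) = h8xU chevD4 hB (chevD4.simple (π j).val) t ∧
      ((τ ⟨h8xU chevD4 hB (chevD4.negIdx.getD (chevD4.simple j.val) 0) t,
        h8xU_mem_group chevD4 hB _ _⟩ : ↥(chevD4.group F)) : GL chevD4.Idx F) =
        h8xU chevD4 hB (chevD4.negIdx.getD (chevD4.simple (π j).val) 0) t := by
    intro j t
    have h := hτ ⟨_, h8xU_mem_group chevD4 hB (chevD4.simple j.val) t⟩ j t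
    have h' := hτ ⟨_, h8xU_mem_group chevD4 hB (chevD4.negIdx.getD (chevD4.simple j.val) 0) t⟩ j t
    rw [h8grD4_gexp, pow_one] at h h'
    exact ⟨Units.ext (h.1 rfl), Units.ext (h'.2 rfl)⟩
  have hpow : ∀ (n : ℕ) (j : Fin chevD4.rank) (t : F),
      (((τ ^ n) ⟨h8xU chevD4 hB (chevD4.simple j.val) t, h8xU_mem_group chevD4 hB _ _⟩ :
        ↥(chevD4.group F)) : GL chevD4.Idx F) =
          h8xU chevD4 hB (chevD4.simple ((π ^ n) j).val) t ∧
      (((τ ^ n) ⟨h8xU chevD4 hB (chevD4.negIdx.getD (chevD4.simple j.val) 0) t,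
        h8xU_mem_group chevD4 hB _ _⟩ : ↥(chevD4.group F)) : GL chevD4.Idx F) =
        h8xU chevD4 hB (chevD4.negIdx.getD (chevD4.simple ((π ^ n) j).val) 0) t := by
    intro n
    induction n with
    | zero =>
      intro j t
      exact ⟨rfl, rfl⟩
    | succ n ih =>
      intro j t
      obtain ⟨i1, i2⟩ := ih j t
      rw [pow_succ', pow_succ', MulAut.mul_apply, MulAut.mul_apply, Equiv.Perm.mul_apply]
      have e1 : (τ ^ n) ⟨h8xU chevD4 hB (chevD4.simple j.val) t, h8xU_mem_group chevD4 hB _ _⟩ =
          ⟨h8xU chevD4 hB (chevD4.simple ((π ^ n) j).val) t, h8xU_mem_group chevD4 hB _ _⟩ :=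
        Subtype.ext i1
      have e2 : (τ ^ n) ⟨h8xU chevD4 hB (chevD4.negIdx.getD (chevD4.simple j.val) 0) t,
          h8xU_mem_group chevD4 hB _ _⟩ =
          ⟨h8xU chevD4 hB (chevD4.negIdx.getD (chevD4.simple ((π ^ n) j).val) 0) t,
            h8xU_mem_group chevD4 hB _ _⟩ := Subtype.ext i2
      rw [e1, e2]
      exact hx _ t
  have hone : ∀ n : ℕ, π ^ n = 1 → τ ^ n = 1 := by
    intro n hn
    have key : (τ ^ n).toMonoidHom = MonoidHom.id _ := by
      apply h8hom_ext_simple chevD4 hB hA hBN
      · intro j hj t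
        apply Subtype.ext
        have := (hpow n ⟨j, hj⟩ t).1
        rw [hn] at this
        exact this
      · intro j hj t
        apply Subtype.ext
        have := (hpow n ⟨j, hj⟩ t).2
        rw [hn] at this
        exact this
    apply MulEquiv.ext
    intro g
    exact DFunLike.congr_fun key g
  obtain ⟨L, hL, hπL⟩ := Cfsg.Agent.S2161.symD4 π hπ
  have hbad : L ∈ [h8aP_D4_0, h8aP_D4_1, h8aP_D4_2, h8aP_D4_5] → False := by
    intro hL'
    have h2 : π ^ 2 = 1 := by
      apply Equiv.ext
      intro i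
      apply Fin.ext
      rw [pow_two, Equiv.Perm.mul_apply, hπL, hπL]
      exact h8grD4_inv L hL' i.val i.2
    have hdvd := orderOf_dvd_of_pow_eq_one (hone 2 h2)
    rw [hτ3] at hdvd
    norm_num at hdvd
  have hgood : (∀ i : Fin chevD4.rank, (π i).val = h8pD4 i.val) ∨
      (∀ i : Fin chevD4.rank, (π i).val = h8pD4 (h8pD4 i.val)) := by
    simp only [List.mem_cons, List.not_mem_nil, or_false] at hL
    rcases hL with rfl | rfl | rfl | rfl | rfl | rfl
    · exact (hbad (by simp)).elim
    · exact (hbad (by simp)).elim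
    · exact (hbad (by simp)).elim
    · left
      intro i
      rw [hπL]
      exact (h8grD4_p3 i.val i.2).1
    · right
      intro i
      rw [hπL]
      exact (h8grD4_p3 i.val i.2).2
    · exact (hbad (by simp)).elim
  set Sig := h8Sig chevD4 h8sD4 h8tD4 h8pD4 h8qD4 h8eD4 (h8autD4 hA) (RingEquiv.refl F) with hSig
  have hfixiff : ∀ g : ↥(chevD4.group F), τ g = g ↔ Sig g.val = g.val := by
    rcases hgood with hg1 | hg2
    · have hτS : (chevD4.group F).subtype.comp τ.toMonoidHom =
          Sig.comp (chevD4.group F).subtype := by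
        apply h8hom_ext_simple chevD4 hB hA hBN
        · intro j hj t
          have e1 := (hx ⟨j, hj⟩ t).1
          have e2 := (h8grD4_sig_x (F := F) hB hA j hj t).1
          rw [hg1 ⟨j, hj⟩] at e1
          exact e1.trans e2.symm
        · intro j hj t
          have e1 := (hx ⟨j, hj⟩ t).2
          have e2 := (h8grD4_sig_x (F := F) hB hA j hj t).2
          rw [hg1 ⟨j, hj⟩] at e1
          exact e1.trans e2.symm
      intro g
      have e : (τ g).val = Sig g.val := DFunLike.congr_fun hτS g
      rw [Subtype.ext_iff, e]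
    · have hτS : (chevD4.group F).subtype.comp τ.toMonoidHom =
          (Sig.comp Sig).comp (chevD4.group F).subtype := by
        apply h8hom_ext_simple chevD4 hB hA hBN
        · intro j hj t
          obtain ⟨_, _, _, _, _, _, hpj, _⟩ := h8grD4_sdata j hj
          have e1 := (hx ⟨j, hj⟩ t).1
          have e2 : Sig (h8xU chevD4 hB (chevD4.simple j) t) = _ :=
            (h8grD4_sig_x (F := F) hB hA j hj t).1
          have e3 : Sig (h8xU chevD4 hB (chevD4.simple (h8pD4 j)) t) = _ :=
            (h8grD4_sig_x (F := F) hB hA _ hpj t).1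
          rw [hg2 ⟨j, hj⟩] at e1
          refine e1.trans ?_
          show _ = Sig (Sig (h8xU chevD4 hB (chevD4.simple j) t))
          rw [e2, e3]
        · intro j hj t
          obtain ⟨_, _, _, _, _, _, hpj, _⟩ := h8grD4_sdata j hj
          have e1 := (hx ⟨j, hj⟩ t).2
          have e2 : Sig (h8xU chevD4 hB (chevD4.negIdx.getD (chevD4.simple j) 0) t) = _ :=
            (h8grD4_sig_x (F := F) hB hA j hj t).2
          have e3 : Sig (h8xU chevD4 hB (chevD4.negIdx.getD (chevD4.simple (h8pD4 j)) 0) t) = _ :=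
            (h8grD4_sig_x (F := F) hB hA _ hpj t).2
          rw [hg2 ⟨j, hj⟩] at e1
          refine e1.trans ?_
          show _ = Sig (Sig (h8xU chevD4 hB (chevD4.negIdx.getD (chevD4.simple j) 0) t))
          rw [e2, e3]
      have hS3 : ((Sig.comp Sig).comp Sig).comp (chevD4.group F).subtype =
          (chevD4.group F).subtype := by
        apply h8hom_ext_simple chevD4 hB hA hBN
        · intro j hj t
          obtain ⟨_, _, _, _, _, _, hpj, h3⟩ := h8grD4_sdata j hj
          obtain ⟨_, _, _, _, _, _, hppj, _⟩ := h8grD4_sdata _ hpj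
          have e2 : Sig (h8xU chevD4 hB (chevD4.simple j) t) = _ :=
            (h8grD4_sig_x (F := F) hB hA j hj t).1
          have e3 : Sig (h8xU chevD4 hB (chevD4.simple (h8pD4 j)) t) = _ :=
            (h8grD4_sig_x (F := F) hB hA _ hpj t).1
          have e4 : Sig (h8xU chevD4 hB (chevD4.simple (h8pD4 (h8pD4 j))) t) = _ :=
            (h8grD4_sig_x (F := F) hB hA _ hppj t).1
          show Sig (Sig (Sig (h8xU chevD4 hB (chevD4.simple j) t))) =
            h8xU chevD4 hB (chevD4.simple j) t
          rw [e2, e3, e4, h3]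
        · intro j hj t
          obtain ⟨_, _, _, _, _, _, hpj, h3⟩ := h8grD4_sdata j hj
          obtain ⟨_, _, _, _, _, _, hppj, _⟩ := h8grD4_sdata _ hpj
          have e2 : Sig (h8xU chevD4 hB (chevD4.negIdx.getD (chevD4.simple j) 0) t) = _ :=
            (h8grD4_sig_x (F := F) hB hA j hj t).2
          have e3 : Sig (h8xU chevD4 hB (chevD4.negIdx.getD (chevD4.simple (h8pD4 j)) 0) t) = _ :=
            (h8grD4_sig_x (F := F) hB hA _ hpj t).2
          have e4 : Sig (h8xU chevD4 hB (chevD4.negIdx.getD (chevD4.simple (h8pD4 (h8pD4 j))) 0) t)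
              = _ := (h8grD4_sig_x (F := F) hB hA _ hppj t).2
          show Sig (Sig (Sig (h8xU chevD4 hB (chevD4.negIdx.getD (chevD4.simple j) 0) t))) =
            h8xU chevD4 hB (chevD4.negIdx.getD (chevD4.simple j) 0) t
          rw [e2, e3, e4, h3]
      intro g
      have e : (τ g).val = Sig (Sig g.val) := DFunLike.congr_fun hτS g
      have e3 : Sig (Sig (Sig g.val)) = g.val := DFunLike.congr_fun hS3 g
      rw [Subtype.ext_iff, e]
      constructor
      · intro h
        have := congrArg Sig h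
        rw [e3] at this
        exact this.symm
      · intro h
        rw [h, h]
  have hmap : (MonoidHom.eqLocus τ.toMonoidHom (MonoidHom.id _)).map (chevD4.group F).subtype =
      twistedD4 F 1 := by
    rw [← h8grD4_fix_eq hA]
    ext g
    constructor
    · rintro ⟨x, hx', rfl⟩
      exact ⟨x.2, (hfixiff x).1 hx'⟩
    · rintro ⟨hg, hgf⟩
      exact ⟨⟨g, hg⟩, (hfixiff ⟨g, hg⟩).2 hgf, rfl⟩
  obtain ⟨e⟩ := h8grD4_iso (K := F)
  exact ⟨((Subgroup.equivMapOfInjective _ _ (Subgroup.subtype_injective _)).trans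
    (MulEquiv.subgroupCongr hmap)).trans e⟩

end Cfsg.Agent.S2734
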