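import Cfsg.Statements.S2738

set_option autoImplicit false
open Cfsg
open Matrix

namespace Cfsg.Agent.S2738

theorem abstract_nosplit {G : Type*} [Group G] (A B C : G) (hC : C ∈ Subgroup.center G) (hC1 : C ≠ 1)
    (hABC : A * B = C * (B * A)) :
    ¬ ∃ K : Subgroup G, Subgroup.IsComplement' (Subgroup.center G) K := by
  rintro ⟨K, hK⟩
  obtain ⟨⟨⟨z₁, hz₁⟩, ⟨k₁, hk₁⟩⟩, h1⟩ := hK.2 A
  obtain ⟨⟨⟨z₂, hz₂⟩, ⟨k₂, hk₂⟩⟩, h2⟩ := hK.2 B
  simp only at h1 h2
  have hz₁' := Subgroup.mem_center_iff.mp hz₁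
  have hz₂' := Subgroup.mem_center_iff.mp hz₂
  have hC' := Subgroup.mem_center_iff.mp hC
  have hCK : C ∈ K := by
    have : C = k₁ * k₂ * k₁⁻¹ * k₂⁻¹ := by
      have e1 : A * B = z₁ * z₂ * (k₁ * k₂) := by
        rw [← h1, ← h2]
        calc z₁ * k₁ * (z₂ * k₂) = z₁ * (k₁ * z₂) * k₂ := by group
          _ = z₁ * (z₂ * k₁) * k₂ := by rw [hz₂' k₁]
          _ = _ := by group
      have e2 : B * A = z₁ * z₂ * (k₂ * k₁) := by
        rw [← h1, ← h2]
        calc z₂ * k₂ * (z₁ * k₁) = z₂ * (k₂ * z₁) * k₁ := by group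
          _ = z₂ * (z₁ * k₂) * k₁ := by rw [hz₁' k₂]
          _ = (z₂ * z₁) * k₂ * k₁ := by group
          _ = (z₁ * z₂) * k₂ * k₁ := by rw [hz₁' z₂]
          _ = _ := by group
      rw [e1, e2] at hABC
      have e3 : k₁ * k₂ = C * (k₂ * k₁) := by
        have : z₁ * z₂ * (k₁ * k₂) = z₁ * z₂ * (C * (k₂ * k₁)) := by
          rw [hABC]
          calc C * (z₁ * z₂ * (k₂ * k₁)) = (C * (z₁ * z₂)) * (k₂ * k₁) := by group
            _ = ((z₁ * z₂) * C) * (k₂ * k₁) := by rw [hC' (z₁ * z₂)]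
            _ = _ := by group
        exact mul_left_cancel this
      calc C = C * (k₂ * k₁) * (k₂ * k₁)⁻¹ := by group
        _ = k₁ * k₂ * (k₂ * k₁)⁻¹ := by rw [← e3]
        _ = _ := by group
    rw [this]
    exact K.mul_mem (K.mul_mem (K.mul_mem hk₁ hk₂) (K.inv_mem hk₁)) (K.inv_mem hk₂)
  have := Subgroup.disjoint_def.mp hK.disjoint hC hCK
  exact hC1 this

theorem exists_omega (F : Type*) [Field F] [Fintype F] (hF : Fintype.card F = 4) :
    ∃ ω : F, ω ≠ 0 ∧ ω ≠ 1 ∧ ω ^ 3 = 1 := by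
  classical
  have h : ∃ ω : F, ω ∉ ({0, 1} : Finset F) := by
    by_contra hcon
    simp only [not_exists, not_not] at hcon
    have : (Finset.univ : Finset F) ⊆ {0, 1} := fun x _ => hcon x
    have h2 := Finset.card_le_card this
    rw [Finset.card_univ, hF] at h2
    have h3 : ({0, 1} : Finset F).card ≤ 2 := Finset.card_le_two
    omega
  obtain ⟨ω, hω⟩ := h
  simp only [Finset.mem_insert, Finset.mem_singleton, not_or] at hω
  refine ⟨ω, hω.1, hω.2, ?_⟩
  have := FiniteField.pow_card_sub_one_eq_one ω hω.1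
  rw [hF] at this
  exact this

theorem card_center (F : Type*) [Field F] [Fintype F] (hF : Fintype.card F = 4) :
    Nat.card ↥(Subgroup.center (Matrix.SpecialLinearGroup (Fin 3) F)) = 3 := by
  classical
  rw [Nat.card_congr (Matrix.SpecialLinearGroup.center_equiv_rootsOfUnity' (n := Fin 3) (R := F) 0).toEquiv]
  have htop : rootsOfUnity (Fintype.card (Fin 3)) F = ⊤ := by
    rw [eq_top_iff]
    intro u _
    rw [mem_rootsOfUnity]
    have := FiniteField.pow_card_sub_one_eq_one (u : F) u.ne_zero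
    rw [hF] at this
    ext
    simpa using this
  rw [htop, Subgroup.card_top, Nat.card_eq_fintype_card, Fintype.card_units, hF]

def matA {F : Type*} [Field F] (ω : F) (h : ω ^ 3 = 1) : Matrix.SpecialLinearGroup (Fin 3) F :=
  ⟨!![1, 0, 0; 0, ω, 0; 0, 0, ω ^ 2], by rw [Matrix.det_fin_three]; simp; linear_combination h⟩

def matB (F : Type*) [Field F] : Matrix.SpecialLinearGroup (Fin 3) F :=
  ⟨!![0, 1, 0; 0, 0, 1; 1, 0, 0], by rw [Matrix.det_fin_three]; simp⟩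

def matC {F : Type*} [Field F] (ω : F) (h : ω ^ 3 = 1) : Matrix.SpecialLinearGroup (Fin 3) F :=
  ⟨!![ω ^ 2, 0, 0; 0, ω ^ 2, 0; 0, 0, ω ^ 2], by rw [Matrix.det_fin_three]; simp; linear_combination (ω ^ 3 + 1) * h⟩

theorem matABC {F : Type*} [Field F] (ω : F) (h : ω ^ 3 = 1) :
    matA ω h * matB F = matC ω h * (matB F * matA ω h) := by
  apply Subtype.ext
  show (!![1, 0, 0; 0, ω, 0; 0, 0, ω ^ 2] : Matrix (Fin 3) (Fin 3) F) * !![0, 1, 0; 0, 0, 1; 1, 0, 0]
    = !![ω ^ 2, 0, 0; 0, ω ^ 2, 0; 0, 0, ω ^ 2] * (!![0, 1, 0; 0, 0, 1; 1, 0, 0] * !![1, 0, 0; 0, ω, 0; 0, 0, ω ^ 2])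
  ext i j
  fin_cases i <;> fin_cases j <;> simp [Matrix.mul_apply, Fin.sum_univ_three]
  · linear_combination (-1 : F) * h
  · linear_combination (-ω) * h

theorem matC_center {F : Type*} [Field F] (ω : F) (h : ω ^ 3 = 1) :
    matC ω h ∈ Subgroup.center (Matrix.SpecialLinearGroup (Fin 3) F) := by
  rw [Matrix.SpecialLinearGroup.mem_center_iff]
  refine ⟨ω ^ 2, ?_, ?_⟩
  · simp only [Fintype.card_fin]; linear_combination (ω ^ 3 + 1) * h
  · ext i j
    fin_cases i <;> fin_cases j <;> simp [matC]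

theorem matC_ne_one {F : Type*} [Field F] (ω : F) (h : ω ^ 3 = 1) (h1 : ω ≠ 1) : matC ω h ≠ 1 := by
  intro hc
  have h2 : ω ^ 2 = 1 := by
    have := congrArg (fun M : Matrix.SpecialLinearGroup (Fin 3) F => M.1 0 0) hc
    simpa [matC] using this
  apply h1
  have hω : ω ≠ 0 := by
    rintro rfl
    simp at h
  calc ω = ω ^ 3 * (ω ^ 2)⁻¹ := by field_simp
    _ = 1 := by rw [h, h2]; simp

theorem result (F : Type*) [Field F] [Fintype F] (hF : Fintype.card F = 4) : Nat.card ↥(Subgroup.center (Matrix.SpecialLinearGroup (Fin 3) F)) = 3 ∧ ¬ ∃ K : Subgroup (Matrix.SpecialLinearGroup (Fin 3) F), Subgroup.IsComplement' (Subgroup.center (Matrix.SpecialLinearGroup (Fin 3) F)) K := by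
  refine ⟨card_center F hF, ?_⟩
  obtain ⟨ω, _, h1, h3⟩ := exists_omega F hF
  exact abstract_nosplit (matA ω h3) (matB F) (matC ω h3) (matC_center ω h3) (matC_ne_one ω h3 h1)
    (matABC ω h3)

end Cfsg.Agent.S2738
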