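import Cfsg.Statements.S2739
import Cfsg.Agent.S0819

set_option autoImplicit false
open Cfsg
open scoped Pointwise

namespace Cfsg.Agent.S2739

open Matrix Module Cfsg.Agent.S0819

section Mat

variable {K : Type*} [Field K]

theorem exists_diag (g : Matrix (Fin 3) (Fin 3) K) (a : Fin 3 → K)
    (hinj : Function.Injective a) (hdet : ∀ i, (Matrix.scalar (Fin 3) (a i) - g).det = 0) :
    ∃ Q : Matrix (Fin 3) (Fin 3) K, IsUnit Q.det ∧ g * Q = Q * Matrix.diagonal a := by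
  classical
  have hex : ∀ i, ∃ v : Fin 3 → K, v ≠ 0 ∧ (Matrix.scalar (Fin 3) (a i) - g) *ᵥ v = 0 := fun i =>
    Matrix.exists_mulVec_eq_zero_iff.mpr (hdet i)
  choose v hv0 hv using hex
  have hv' : ∀ i, g *ᵥ v i = a i • v i := by
    intro i
    have := hv i
    rw [Matrix.sub_mulVec, sub_eq_zero, Matrix.scalar_apply, ← Matrix.smul_one_eq_diagonal,
      Matrix.smul_mulVec, Matrix.one_mulVec] at this
    exact this.symm
  have heig : ∀ i, Module.End.HasEigenvector (Matrix.toLin' g) (a i) (v i) := by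
    intro i
    rw [Module.End.hasEigenvector_iff, Module.End.mem_eigenspace_iff]
    exact ⟨by rw [Matrix.toLin'_apply]; exact hv' i, hv0 i⟩
  have hli := Module.End.eigenvectors_linearIndependent' (Matrix.toLin' g) a hinj v heig
  refine ⟨Matrix.of (fun i j => v j i), ?_, ?_⟩
  · rw [← Matrix.isUnit_iff_isUnit_det, ← Matrix.linearIndependent_cols_iff_isUnit]
    exact hli
  · ext i j
    rw [Matrix.mul_diagonal, Matrix.of_apply]
    have := congrFun (hv' j) i
    rw [Pi.smul_apply, smul_eq_mul, mul_comm] at this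
    rw [← this]
    rfl

theorem conj_of_diag (g g' : Matrix (Fin 3) (Fin 3) K) (a : Fin 3 → K)
    (Q Q' : Matrix (Fin 3) (Fin 3) K) (hQ : IsUnit Q.det) (hQ' : IsUnit Q'.det)
    (hg : g * Q = Q * Matrix.diagonal a) (hg' : g' * Q' = Q' * Matrix.diagonal a) :
    ∃ P : Matrix (Fin 3) (Fin 3) K, P.det = 1 ∧ P * g = g' * P := by
  classical
  obtain ⟨δ, hδ⟩ : ∃ δ : K, δ = Q.det * Q'.det⁻¹ := ⟨_, rfl⟩
  have hQ0 : Q.det ≠ 0 := hQ.ne_zero
  have hQ'0 : Q'.det ≠ 0 := hQ'.ne_zero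
  obtain ⟨E, hE⟩ : ∃ E : Matrix (Fin 3) (Fin 3) K, E = Matrix.diagonal (Function.update 1 0 δ) := ⟨_, rfl⟩
  have hEdet : E.det = δ := by
    rw [hE, Matrix.det_diagonal, Finset.prod_update_of_mem (Finset.mem_univ _)]
    simp
  have hED : Matrix.diagonal a * E = E * Matrix.diagonal a := by
    rw [hE, Matrix.diagonal_mul_diagonal, Matrix.diagonal_mul_diagonal]
    congr 1
    funext i
    exact mul_comm _ _
  have hg'' : g' * (Q' * E) = (Q' * E) * Matrix.diagonal a := by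
    rw [← Matrix.mul_assoc, hg', Matrix.mul_assoc, hED, Matrix.mul_assoc]
  have hdet'' : (Q' * E).det = Q.det := by
    rw [Matrix.det_mul, hEdet, hδ]
    field_simp
  have hinvg : Q⁻¹ * g = Matrix.diagonal a * Q⁻¹ := by
    calc Q⁻¹ * g = Q⁻¹ * g * (Q * Q⁻¹) := by rw [Matrix.mul_nonsing_inv Q hQ, Matrix.mul_one]
      _ = Q⁻¹ * (g * Q) * Q⁻¹ := by simp only [Matrix.mul_assoc]
      _ = Q⁻¹ * (Q * Matrix.diagonal a) * Q⁻¹ := by rw [hg]
      _ = (Q⁻¹ * Q) * Matrix.diagonal a * Q⁻¹ := by simp only [Matrix.mul_assoc]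
      _ = Matrix.diagonal a * Q⁻¹ := by rw [Matrix.nonsing_inv_mul Q hQ, Matrix.one_mul]
  refine ⟨(Q' * E) * Q⁻¹, ?_, ?_⟩
  · rw [Matrix.det_mul, hdet'', Matrix.det_nonsing_inv, Ring.inverse_eq_inv', mul_inv_cancel₀ hQ0]
  · rw [Matrix.mul_assoc, hinvg, ← Matrix.mul_assoc, ← hg'', Matrix.mul_assoc]

end Mat

section Grp

variable {K : Type*} [Field K] [Fintype K]

theorem lift_order_three (hK : Fintype.card K = 4) (a : Fin 3 → K) (ha : ∀ i, a i ^ 3 = 1)
    (x : Matrix.ProjectiveSpecialLinearGroup (Fin 3) K) (hx : orderOf x = 3) :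
    ∃ g : Matrix.SpecialLinearGroup (Fin 3) K,
      (QuotientGroup.mk g : Matrix.ProjectiveSpecialLinearGroup (Fin 3) K) = x ∧
      ∀ i, (Matrix.scalar (Fin 3) (a i) - (g : Matrix (Fin 3) (Fin 3) K)).det = 0 := by
  classical
  obtain ⟨g, rfl⟩ := QuotientGroup.mk_surjective x
  refine ⟨g, rfl, ?_⟩
  have hx3 : (QuotientGroup.mk g : Matrix.ProjectiveSpecialLinearGroup (Fin 3) K) ^ 3 = 1 := by
    have := pow_orderOf_eq_one (QuotientGroup.mk g : Matrix.ProjectiveSpecialLinearGroup (Fin 3) K)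
    rwa [hx] at this
  rw [← QuotientGroup.mk_pow, QuotientGroup.eq_one_iff, Matrix.SpecialLinearGroup.mem_center_iff] at hx3
  obtain ⟨ζ, -, hs⟩ := hx3
  have h3 : (g : Matrix (Fin 3) (Fin 3) K) ^ 3 = ζ • (1 : Matrix (Fin 3) (Fin 3) K) := by
    rw [← Matrix.SpecialLinearGroup.coe_pow, ← hs, Matrix.scalar_apply, Matrix.smul_one_eq_diagonal]
  have hns : ∀ c : K, (g : Matrix (Fin 3) (Fin 3) K) ≠ c • (1 : Matrix (Fin 3) (Fin 3) K) := by
    intro c hc
    have h1 : (g : Matrix (Fin 3) (Fin 3) K) ^ 1 = c • (1 : Matrix (Fin 3) (Fin 3) K) := by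
      rw [pow_one]; exact hc
    have := mk_pow_eq_one_of_scalar g 1 c h1
    rw [pow_one] at this
    rw [this, orderOf_one] at hx
    exact absurd hx (by norm_num)
  obtain ⟨-, hroots⟩ := lemmaH (two_eq_zero_of_card_four hK) (cube_eq_one_of_card_four hK)
    (g : Matrix (Fin 3) (Fin 3) K) g.2 ζ h3 hns
  exact fun i => hroots _ (ha i)

theorem isConj_of_order_three (hK : Fintype.card K = 4)
    (x y : Matrix.ProjectiveSpecialLinearGroup (Fin 3) K) (hx : orderOf x = 3) (hy : orderOf y = 3) :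
    IsConj x y := by
  classical
  obtain ⟨ω, hω0, hω1⟩ := exists_omega hK
  have hω3 := cube_eq_one_of_card_four hK ω hω0
  have hinj := omega_inj ω hω0 hω1 hω3
  have ha : ∀ i, (![1, ω, ω ^ 2] : Fin 3 → K) i ^ 3 = 1 := by
    intro i
    fin_cases i
    · exact one_pow 3
    · exact hω3
    · show (ω ^ 2) ^ 3 = 1
      rw [← pow_mul, mul_comm, pow_mul, hω3, one_pow]
  obtain ⟨g, rfl, hg⟩ := lift_order_three hK _ ha x hx
  obtain ⟨g', rfl, hg'⟩ := lift_order_three hK _ ha y hy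
  obtain ⟨Q, hQ, hgQ⟩ := exists_diag (g : Matrix (Fin 3) (Fin 3) K) _ hinj hg
  obtain ⟨Q', hQ', hgQ'⟩ := exists_diag (g' : Matrix (Fin 3) (Fin 3) K) _ hinj hg'
  obtain ⟨P, hP, hPg⟩ := conj_of_diag _ _ _ Q Q' hQ hQ' hgQ hgQ'
  obtain ⟨p, hp⟩ : ∃ p : Matrix.SpecialLinearGroup (Fin 3) K,
      (p : Matrix (Fin 3) (Fin 3) K) = P := ⟨⟨P, hP⟩, rfl⟩
  have hconj : IsConj g g' := by
    rw [isConj_iff]
    refine ⟨p, ?_⟩
    rw [mul_inv_eq_iff_eq_mul]
    apply Subtype.ext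
    rw [Matrix.SpecialLinearGroup.coe_mul, Matrix.SpecialLinearGroup.coe_mul, hp]
    exact hPg
  exact (QuotientGroup.mk' (Subgroup.center (Matrix.SpecialLinearGroup (Fin 3) K))).map_isConj hconj

end Grp

theorem exists_gen {G : Type*} [Group G] (X : Subgroup G) (hX : Nat.card ↥X = 3) :
    ∃ x : G, orderOf x = 3 ∧ X = Subgroup.zpowers x := by
  have hfin : Finite ↥X := Nat.finite_of_card_ne_zero (by rw [hX]; norm_num)
  have hne : X ≠ ⊥ := by
    rintro rfl
    rw [Subgroup.card_bot] at hX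
    norm_num at hX
  obtain ⟨⟨x, hxX⟩, hx1⟩ := Subgroup.ne_bot_iff_exists_ne_one.mp hne
  have hx1' : (x : G) ≠ 1 := fun h => hx1 (Subtype.ext h)
  have hdvd : orderOf (x : G) ∣ 3 := by
    rw [← hX]; exact Subgroup.orderOf_dvd_natCard X hxX
  have hord : orderOf (x : G) = 3 := by
    rcases (Nat.dvd_prime Nat.prime_three).mp hdvd with h | h
    · exact absurd (orderOf_eq_one_iff.mp h) hx1'
    · exact h
  refine ⟨x, hord, ?_⟩
  symm
  apply Subgroup.eq_of_le_of_card_ge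
  · rw [Subgroup.zpowers_le]; exact hxX
  · rw [Nat.card_zpowers, hord, hX]

/-- In the projective special linear group PSL(3, 4) all subgroups of order 3 are conjugate. -/
theorem result (F : Type*) [Field F] [Fintype F] (hF : Fintype.card F = 4) (X Y : Subgroup (Matrix.ProjectiveSpecialLinearGroup (Fin 3) F)) (hX : Nat.card ↥X = 3) (hY : Nat.card ↥Y = 3) : ∃ g : Matrix.ProjectiveSpecialLinearGroup (Fin 3) F, MulAut.conj g • X = Y := by
  obtain ⟨x, hx, rfl⟩ := exists_gen X hX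
  obtain ⟨y, hy, rfl⟩ := exists_gen Y hY
  obtain ⟨c, hc⟩ := isConj_iff.mp (isConj_of_order_three hF x y hx hy)
  refine ⟨c, ?_⟩
  show Subgroup.map (MulAut.conj c).toMonoidHom (Subgroup.zpowers x) = _
  rw [MonoidHom.map_zpowers]
  congr 1

end Cfsg.Agent.S2739
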