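import Mathlib
import Cfsg.Statements.S2758
import Cfsg.Agent.Lib.helper17.Dih

set_option autoImplicit false
open Cfsg
open Cfsg.Agent.Lib.helper17

namespace Cfsg.Agent.S2758

theorem involves_imp_normalizes {G : Type*} [Group G] [Finite G] {p : ℕ} [Fact p.Prime] (hp : p ≠ 2)
    (h : Cfsg.Involves (DihedralGroup p) G) :
    ∃ (x : G) (P : Subgroup G), (∃ k : ℕ, orderOf x = 2 ^ k) ∧ IsPGroup p ↥P ∧
      x ∈ Subgroup.normalizer (P : Set G) ∧ x ∉ Subgroup.centralizer (P : Set G) := by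
  obtain ⟨K, R, hn, ⟨e⟩⟩ := h
  have hsurj : Function.Surjective (e.toMonoidHom.comp (QuotientGroup.mk' (R.subgroupOf K))) :=
    e.surjective.comp (QuotientGroup.mk'_surjective _)
  obtain ⟨x₀, P₀, ⟨k, hk⟩, hP₀, hxN, hxC⟩ :=
    exists_normalizes_of_surjective_dihedral hp _ hsurj
  refine ⟨(x₀ : G), P₀.map K.subtype, ⟨k, by rw [Subgroup.orderOf_coe]; exact hk⟩, hP₀.map _, ?_, ?_⟩
  · exact Subgroup.le_normalizer_map K.subtype ⟨x₀, hxN, rfl⟩
  · intro hcen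
    apply hxC
    rw [Subgroup.mem_centralizer_iff]
    intro g hg
    apply Subtype.ext
    exact Subgroup.mem_centralizer_iff.mp hcen (g : G) ⟨g, hg, rfl⟩

theorem inverted_imp_involves {G : Type*} [Group G] [Finite G] {p : ℕ} [hpp : Fact p.Prime] (hp : p ≠ 2)
    (x y : G) (hx : ∃ k : ℕ, orderOf x = 2 ^ k) (hy : ∃ k : ℕ, orderOf y = p ^ k) (hy1 : y ≠ 1)
    (hinv : x * y * x⁻¹ = y⁻¹) : Cfsg.Involves (DihedralGroup p) G := by
  obtain ⟨m, hm⟩ := hy
  have hm0 : m ≠ 0 := by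
    rintro rfl
    rw [pow_zero, orderOf_eq_one_iff] at hm
    exact hy1 hm
  obtain ⟨m', rfl⟩ := Nat.exists_eq_succ_of_ne_zero hm0
  set y' := y ^ (p ^ m') with hy'
  have hy'o : orderOf y' = p := by
    have hdvd : p ^ m' ∣ orderOf y := by rw [hm]; exact pow_dvd_pow p (Nat.le_succ m')
    rw [hy', orderOf_pow_of_dvd (pow_ne_zero _ hpp.out.ne_zero) hdvd, hm, pow_succ,
      Nat.mul_div_cancel_left _ (pow_pos hpp.out.pos m')]
  have hinv' : x * y' * x⁻¹ = y'⁻¹ := by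
    rw [hy', ← conj_pow, hinv, inv_pow]
  set K := Subgroup.closure ({x, y'} : Set G) with hK
  have hxK : x ∈ K := Subgroup.subset_closure (by simp)
  have hyK : y' ∈ K := Subgroup.subset_closure (by simp)
  have hgen : Subgroup.closure ({⟨x, hxK⟩, ⟨y', hyK⟩} : Set ↥K) = ⊤ := by
    have h1 := Subgroup.closure_closure_coe_preimage (k := ({x, y'} : Set G))
    have h2 : ((↑) ⁻¹' ({x, y'} : Set G) : Set ↥(Subgroup.closure ({x, y'} : Set G))) =
        {⟨x, hxK⟩, ⟨y', hyK⟩} := by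
      ext ⟨z, hz⟩
      simp [Subtype.ext_iff]
    rw [h2] at h1
    exact h1
  obtain ⟨Z, hZ, ⟨e⟩⟩ := exists_quotient_dihedral (K := ↥K) hp ⟨x, hxK⟩ ⟨y', hyK⟩
    (by obtain ⟨k, hk⟩ := hx; exact ⟨k, by rw [Subgroup.orderOf_mk]; exact hk⟩)
    (by rw [Subgroup.orderOf_mk]; exact hy'o)
    (by apply Subtype.ext; simpa using hinv') hgen
  exact involves_of_quotient K Z e

/-- For an odd prime p and a finite group G the following are equivalent: the dihedral group of order 2p is involved in G; some element of 2-power order normalizes but does not centralize some p-subgroup of G; some element of 2-power order inverts some nonidentity element of p-power order. -/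
theorem result {G : Type*} [Group G] [Finite G] {p : ℕ} [Fact p.Prime] (hp : p ≠ 2) : (Cfsg.Involves (DihedralGroup p) G ↔ ∃ (x : G) (P : Subgroup G), (∃ k : ℕ, orderOf x = 2 ^ k) ∧ IsPGroup p ↥P ∧ x ∈ Subgroup.normalizer (P : Set G) ∧ x ∉ Subgroup.centralizer (P : Set G)) ∧ (Cfsg.Involves (DihedralGroup p) G ↔ ∃ x y : G, (∃ k : ℕ, orderOf x = 2 ^ k) ∧ (∃ k : ℕ, orderOf y = p ^ k) ∧ y ≠ 1 ∧ x * y * x⁻¹ = y⁻¹) := by
  have h23 : (∃ (x : G) (P : Subgroup G), (∃ k : ℕ, orderOf x = 2 ^ k) ∧ IsPGroup p ↥P ∧ x ∈ Subgroup.normalizer (P : Set G) ∧ x ∉ Subgroup.centralizer (P : Set G)) →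
      ∃ x y : G, (∃ k : ℕ, orderOf x = 2 ^ k) ∧ (∃ k : ℕ, orderOf y = p ^ k) ∧ y ≠ 1 ∧ x * y * x⁻¹ = y⁻¹ := by
    rintro ⟨x, P, hx, hP, hxN, hxC⟩
    exact exists_inverted_of_normalizes x P hx hP hxN hxC
  have h31 : (∃ x y : G, (∃ k : ℕ, orderOf x = 2 ^ k) ∧ (∃ k : ℕ, orderOf y = p ^ k) ∧ y ≠ 1 ∧ x * y * x⁻¹ = y⁻¹) →
      Cfsg.Involves (DihedralGroup p) G := by
    rintro ⟨x, y, hx, hy, hy1, hinv⟩
    exact inverted_imp_involves hp x y hx hy hy1 hinv
  refine ⟨⟨involves_imp_normalizes hp, fun h => h31 (h23 h)⟩,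
    ⟨fun h => h23 (involves_imp_normalizes hp h), h31⟩⟩

end Cfsg.Agent.S2758
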