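import Mathlib
import Cfsg.Statements.S2760
import Cfsg.Agent.Lib.helper17.CharP5

set_option autoImplicit false
open Cfsg

namespace Cfsg.Agent.S2760

open Cfsg.Agent.Lib.helper17

theorem result {G : Type*} [Group G] [Finite G] (hchar : Subgroup.centralizer (Cfsg.pCore 2 G : Set G) ≤ Cfsg.pCore 2 G) (H : Subgroup G) (hH : H.Normal ∨ ((Cfsg.pResidual 2 ↥H).map H.subtype).Normal) : Subgroup.centralizer (Cfsg.pCore 2 ↥H : Set ↥H) ≤ Cfsg.pCore 2 ↥H := by
  have : Fact (Nat.Prime 2) := ⟨Nat.prime_two⟩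
  rw [charPSub_iff]
  rcases hH with hH | hH
  · exact charPSub_of_normal hchar hH
  · rw [map_pResidual_eq_opOf] at hH
    exact charPSub_of_opOf_normal hchar hH

end Cfsg.Agent.S2760
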