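import Cfsg.Statements.S2761

import Cfsg.Agent.Lib.helper15.Qd
import Cfsg.Agent.Lib.helper15.SL2Card
set_option autoImplicit false
open Cfsg

namespace Cfsg.Agent.S2761


open Matrix Cfsg.Agent.Lib.helper15 Cfsg.Agent.Lib.helper15.Qd

section
variable {F : Type*} [Field F]

lemma kerVec_surjective : Function.Surjective (kerVec (F := F)) := by
  intro w
  refine ⟨⟨mk 1 (Multiplicative.toAdd w), mk_one_mem_ker _⟩, ?_⟩
  show Multiplicative.ofAdd (Qd.vec (mk 1 (Multiplicative.toAdd w))) = w
  rw [vec_mk]; rfl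

lemma card_qd [Fintype F] : Nat.card ↥(Cfsg.qdOver F) =
    (Fintype.card F * (Fintype.card F ^ 2 - 1)) * Fintype.card F ^ 2 := by
  classical
  rw [Subgroup.card_eq_card_quotient_mul_card_subgroup (blk F).ker,
    Nat.card_congr (QuotientGroup.quotientKerEquivOfSurjective (blk F) blk_surjective).toEquiv,
    Cfsg.Agent.Lib.helper15.card_SL2,
    Nat.card_congr (Equiv.ofBijective _ ⟨kerVec_injective (F := F), kerVec_surjective⟩)]
  congr 1
  rw [Nat.card_eq_fintype_card, Fintype.card_multiplicative, Fintype.card_fun, Fintype.card_fin]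

@[reducible] def act : MulAction ↥(Cfsg.qdOver F) (Fin 2 → F) where
  smul M w := ((blk F M : SpecialLinearGroup (Fin 2) F) : Matrix (Fin 2) (Fin 2) F).mulVec w + Qd.vec M
  one_smul w := by
    show ((blk F 1 : SpecialLinearGroup (Fin 2) F) : Matrix (Fin 2) (Fin 2) F).mulVec w + Qd.vec 1 = w
    have : Qd.vec (1 : ↥(Cfsg.qdOver F)) = 0 := by rw [← mk_one_zero, vec_mk]
    rw [map_one, one_mulVec', this, add_zero]
  mul_smul M N w := by
    show ((blk F (M * N) : SpecialLinearGroup (Fin 2) F) : Matrix (Fin 2) (Fin 2) F).mulVec w +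
        Qd.vec (M * N) =
      ((blk F M : SpecialLinearGroup (Fin 2) F) : Matrix (Fin 2) (Fin 2) F).mulVec
        (((blk F N : SpecialLinearGroup (Fin 2) F) : Matrix (Fin 2) (Fin 2) F).mulVec w + Qd.vec N) + Qd.vec M
    have h : M * N = mk (blk F M * blk F N)
        (((blk F M : SpecialLinearGroup (Fin 2) F) : Matrix (Fin 2) (Fin 2) F).mulVec (Qd.vec N) + Qd.vec M) := by
      conv_lhs => rw [← mk_blk_vec M, ← mk_blk_vec N, mk_mul]
    rw [h, blk_mk, vec_mk, Matrix.mulVec_add, add_assoc]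
    congr 1
    show (((blk F M : SpecialLinearGroup (Fin 2) F) : Matrix (Fin 2) (Fin 2) F) *
      ((blk F N : SpecialLinearGroup (Fin 2) F) : Matrix (Fin 2) (Fin 2) F)) *ᵥ w = _
    rw [Matrix.mulVec_mulVec]

lemma act_injective :
    Function.Injective (@MulAction.toPermHom ↥(Cfsg.qdOver F) (Fin 2 → F) _ act) := by
  rw [injective_iff_map_eq_one]
  intro M hM
  have h : ∀ w : Fin 2 → F,
      ((blk F M : SpecialLinearGroup (Fin 2) F) : Matrix (Fin 2) (Fin 2) F).mulVec w + Qd.vec M = w := by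
    intro w
    have := congrArg (fun σ : Equiv.Perm (Fin 2 → F) => σ w) hM
    exact this
  have hv : Qd.vec M = 0 := by
    have := h 0
    rwa [Matrix.mulVec_zero, zero_add] at this
  have hA : blk F M = 1 := by
    apply mulVec_eq_self_imp
    intro w
    have := h w
    rwa [hv, add_zero] at this
  rw [← mk_blk_vec M, hA, hv, mk_one_zero]

end

/-- The group Qd(2), the natural semidirect product of an elementary abelian group of order 4 by SL₂(2) (realised as the affine subgroup of SL₃(2)), is isomorphic to the symmetric group of degree 4. -/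
theorem result : Nonempty (↥(Cfsg.qd 2) ≃* Equiv.Perm (Fin 4)) := by
  have hq : Cfsg.qd 2 = Cfsg.qdOver (ZMod 2) := rfl
  rw [hq]
  have hcard : Nat.card (Equiv.Perm (Fin 2 → ZMod 2)) ≤ Nat.card ↥(Cfsg.qdOver (ZMod 2)) := by
    rw [card_qd, ZMod.card, Nat.card_eq_fintype_card, Fintype.card_perm, Fintype.card_fun,
      Fintype.card_fin, ZMod.card]
    decide
  have hbij := (act_injective (F := ZMod 2)).bijective_of_nat_card_le hcard
  have e1 : ↥(Cfsg.qdOver (ZMod 2)) ≃* Equiv.Perm (Fin 2 → ZMod 2) := MulEquiv.ofBijective _ hbij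
  have hc4 : Fintype.card (Fin 2 → ZMod 2) = 4 := by
    rw [Fintype.card_fun, Fintype.card_fin, ZMod.card]
    norm_num
  have e2 : (Fin 2 → ZMod 2) ≃ Fin 4 := Fintype.equivFinOfCardEq hc4
  exact ⟨e1.trans (Equiv.permCongrHom e2)⟩

end Cfsg.Agent.S2761
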