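import Cfsg.Statements.S2762

import Cfsg.Agent.Lib.helper15.Qd
set_option autoImplicit false
open Cfsg

namespace Cfsg.Agent.S2762


open Matrix Cfsg.Agent.Lib.helper15.Qd

theorem natural {F : Type*} [Field F] :
    Cfsg.IsNaturalSL2Module F ((blk F).ker) ((emb (F := F)).range) := by
  have hnorm : ((blk F).ker).Normal := MonoidHom.normal_ker _
  refine ⟨?_, ?_⟩
  · intro l _
    rw [Subgroup.mem_normalizer_iff]
    intro h
    refine ⟨fun hh => hnorm.conj_mem h hh l, fun hh => ?_⟩
    have := hnorm.conj_mem _ hh l⁻¹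
    simpa [mul_assoc] using this
  · let ρ : ↥((emb (F := F)).range) →* SpecialLinearGroup (Fin 2) F :=
      (blk F).comp ((emb (F := F)).range).subtype
    let ψ : Additive ↥((blk F).ker) ≃+ (Fin 2 → F) :=
      { toFun := fun v => vec (Additive.toMul v).1
        invFun := fun w => Additive.ofMul ⟨mk 1 w, mk_one_mem_ker w⟩
        left_inv := by
          intro v
          apply Additive.toMul.injective
          apply Subtype.ext
          show mk 1 (vec (Additive.toMul v).1) = (Additive.toMul v).1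
          exact ((mem_ker_blk_iff' _).1 (Additive.toMul v).2).symm
        right_inv := by
          intro w
          show vec (mk 1 w) = w
          exact vec_mk 1 w
        map_add' := by
          intro v w
          show vec ((Additive.toMul v).1 * (Additive.toMul w).1) = _
          exact vec_mul_of_ker (Additive.toMul v).2 (Additive.toMul w).2 }
    refine ⟨ρ, ψ, ?_, ?_, ?_⟩
    · intro A
      exact ⟨⟨emb A, ⟨A, rfl⟩⟩, blk_mk A 0⟩
    · ext l
      rw [MonoidHom.mem_ker, Subgroup.mem_subgroupOf, Subgroup.mem_centralizer_iff]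
      constructor
      · intro hl
        have h1 : (l : ↥(Cfsg.qdOver F)) ∈ (emb (F := F)).range ⊓ (blk F).ker := ⟨l.2, hl⟩
        rw [inf_eq_bot, Subgroup.mem_bot] at h1
        intro h _
        rw [h1, one_mul, mul_one]
      · intro hl
        have h1 := (mem_range_emb_iff' l.1).1 l.2
        have h2 : blk F l.1 = 1 := by
          apply mulVec_eq_self_imp
          intro w
          have h3 := hl (mk 1 w) (mk_one_mem_ker w)
          rw [h1, mk_mul, mk_mul, one_mul, mul_one, Matrix.mulVec_zero, zero_add, add_zero] at h3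
          exact ((mk_injective h3).2).symm
        exact h2
    · intro l v
      have hw : (l : ↥(Cfsg.qdOver F)) * (v : ↥(Cfsg.qdOver F)) * (l : ↥(Cfsg.qdOver F))⁻¹ ∈
          (blk F).ker := hnorm.conj_mem _ v.2 _
      refine ⟨⟨_, hw⟩, rfl, ?_⟩
      show vec ((l : ↥(Cfsg.qdOver F)) * (v : ↥(Cfsg.qdOver F)) * (l : ↥(Cfsg.qdOver F))⁻¹) =
        ((blk F l.1 : SpecialLinearGroup (Fin 2) F) : Matrix (Fin 2) (Fin 2) F).mulVec (vec v.1)
      have h1 := (mem_range_emb_iff' l.1).1 l.2
      have h2 := (mem_ker_blk_iff' v.1).1 v.2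
      have h3 := (mem_ker_blk_iff' _).1 hw
      have h4 : (l : ↥(Cfsg.qdOver F)) * (v : ↥(Cfsg.qdOver F)) =
          ((l : ↥(Cfsg.qdOver F)) * (v : ↥(Cfsg.qdOver F)) * (l : ↥(Cfsg.qdOver F))⁻¹) *
            (l : ↥(Cfsg.qdOver F)) := by group
      set w := (l : ↥(Cfsg.qdOver F)) * (v : ↥(Cfsg.qdOver F)) * (l : ↥(Cfsg.qdOver F))⁻¹ with hwdef
      rw [h3] at h4
      conv_lhs at h4 => rw [h1, h2, mk_mul, mul_one, add_zero]
      conv_rhs at h4 => rw [h1, mk_mul, one_mul, one_mulVec', zero_add]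
      exact ((mk_injective h4).2).symm

/-- Structure of Qd over a finite field F of characteristic p (the affine subgroup of SL₃(F)): its largest normal p-subgroup is the group of translations (matrices with upper-left block the identity), the block-diagonal matrices form a complement isomorphic to SL₂(F), and the translation subgroup is a natural SL₂(F)-module for that complement. -/
theorem result {F : Type*} [Field F] [Fintype F] {p : ℕ} [Fact p.Prime] [CharP F p] : (∀ M : ↥(Cfsg.qdOver F), M ∈ Cfsg.pCore p ↥(Cfsg.qdOver F) ↔ ((M : Matrix.SpecialLinearGroup (Fin 3) F) : Matrix (Fin 3) (Fin 3) F) 0 0 = 1 ∧ ((M : Matrix.SpecialLinearGroup (Fin 3) F) : Matrix (Fin 3) (Fin 3) F) 0 1 = 0 ∧ ((M : Matrix.SpecialLinearGroup (Fin 3) F) : Matrix (Fin 3) (Fin 3) F) 1 0 = 0 ∧ ((M : Matrix.SpecialLinearGroup (Fin 3) F) : Matrix (Fin 3) (Fin 3) F) 1 1 = 1) ∧ ∃ K : Subgroup ↥(Cfsg.qdOver F), (∀ M : ↥(Cfsg.qdOver F), M ∈ K ↔ ((M : Matrix.SpecialLinearGroup (Fin 3) F) : Matrix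 (Fin 3) (Fin 3) F) 0 2 = 0 ∧ ((M : Matrix.SpecialLinearGroup (Fin 3) F) : Matrix (Fin 3) (Fin 3) F) 1 2 = 0) ∧ K ⊓ Cfsg.pCore p ↥(Cfsg.qdOver F) = ⊥ ∧ K ⊔ Cfsg.pCore p ↥(Cfsg.qdOver F) = ⊤ ∧ Nonempty (↥K ≃* Matrix.SpecialLinearGroup (Fin 2) F) ∧ Cfsg.IsNaturalSL2Module F (Cfsg.pCore p ↥(Cfsg.qdOver F)) K := by
  rw [pCore_eq (F := F) (p := p)]
  refine ⟨fun M => mem_ker_blk_iff M, (emb (F := F)).range, fun M => mem_range_emb_iff M,
    inf_eq_bot, sup_eq_top, ⟨(MonoidHom.ofInjective emb_injective).symm⟩, natural⟩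

end Cfsg.Agent.S2762
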