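import Cfsg.Statements.S2772
import Cfsg.Agent.S3685
import Cfsg.Agent.Lib.helper6.SimsG4

set_option autoImplicit false
open Cfsg

namespace Cfsg.Agent.S2772

/-- Sims' Theorem in local form: let H be a finite non-abelian simple group and G a maximal subgroup of H with C_G(O₂(G)) ≤ O₂(G), such that N_H(S) is not contained in G for a Sylow 2-subgroup S of G and G/O₂(G) is dihedral of order 2q for a prime q. Then G is isomorphic to the symmetric group of degree 4 or to its direct product with a group of order 2. -/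
theorem result {H : Type*} [Group H] [Finite H] [IsSimpleGroup H] (hna : ¬ IsMulCommutative H) (G : Subgroup H) (hG : IsCoatom G) (hchar : Subgroup.centralizer (Cfsg.pCore 2 ↥G : Set ↥G) ≤ Cfsg.pCore 2 ↥G) (S : Sylow 2 ↥G) (hN : ¬ Subgroup.normalizer (((S : Subgroup ↥G).map G.subtype : Subgroup H) : Set H) ≤ G) (q : ℕ) (hq : q.Prime) (hD : Nonempty (↥G ⧸ Cfsg.pCore 2 ↥G ≃* DihedralGroup q)) : Nonempty (↥G ≃* Equiv.Perm (Fin 4)) ∨ Nonempty (↥G ≃* Equiv.Perm (Fin 4) × Multiplicative (ZMod 2)) := by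
  classical
  have hq3 := Cfsg.Agent.Lib.helper6.Sims.q_eq_three G hG hchar S hN q hq hD
  subst hq3
  obtain ⟨hf, b, hprim, h3⟩ := Cfsg.Agent.Lib.helper6.Sims.glue_prep G hG hchar S hN hD
  haveI := hf
  have hW := Cfsg.Agent.S3685.result hprim ((1 : H) : H ⧸ G) b h3
  have hstab : MulAction.stabilizer H ((1 : H) : H ⧸ G) = G := MulAction.stabilizer_quotient G
  obtain ⟨h3', h6, h12⟩ := Cfsg.Agent.Lib.helper6.Sims.glue_excl G hchar hD
  have hcardeq : Nat.card (MulAction.stabilizer H ((1 : H) : H ⧸ G)) = Nat.card G := by rw [hstab]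
  let e0 : ↥G ≃* MulAction.stabilizer H ((1 : H) : H ⧸ G) := MulEquiv.subgroupCongr hstab.symm
  rcases hW with ⟨⟨e⟩⟩ | ⟨⟨e⟩⟩ | ⟨⟨e⟩⟩ | ⟨⟨e⟩⟩ | ⟨⟨e⟩⟩
  · exfalso
    apply h3'
    rw [← hcardeq, Nat.card_congr e.toEquiv, Nat.card_eq_fintype_card]
    rfl
  · exfalso
    apply h6
    rw [← hcardeq, Nat.card_congr e.toEquiv, Nat.card_eq_fintype_card, Fintype.card_perm,
      Fintype.card_fin]
    rfl
  · exfalso
    apply h12
    rw [← hcardeq, Nat.card_congr e.toEquiv, DihedralGroup.nat_card]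
  · left
    exact ⟨e0.trans e⟩
  · right
    exact ⟨e0.trans e⟩

end Cfsg.Agent.S2772
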