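import Cfsg.Statements.S2779

import Cfsg.Agent.Lib.helper15.NatMod
set_option autoImplicit false
open Cfsg

namespace Cfsg.Agent.S2779


open Matrix Cfsg.Agent.Lib.helper15.NatMod

section
variable {G : Type*} [Group G] {F : Type*} [Field F] {V L : Subgroup G} (d : NMData F V L)
  (S : Subgroup ↥L)
  (hS : ∀ l : ↥L, l ∈ S ↔ d.ρ l ∈ (Uu : Subgroup (SpecialLinearGroup (Fin 2) F)))

include hS in
lemma comm_mem_V0 (v : G) (hv : v ∈ V) (t : G) (ht : t ∈ (S.map L.subtype : Subgroup G)) :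
    v * t * v⁻¹ * t⁻¹ ∈ d.V0 := by
  obtain ⟨l, hlS, rfl⟩ := ht
  obtain ⟨a, ha⟩ := d.exists_coeff S hS l hlS
  have h1 := d.phi_comm_coeff l a ha ⟨v, hv⟩
  refine ⟨d.comm_mem l ⟨v, hv⟩, ?_⟩
  have := congrFun h1 1
  simpa using this

include hS in
lemma commutator_le_V0 : ⁅V, (S.map L.subtype : Subgroup G)⁆ ≤ d.V0 := by
  rw [Subgroup.commutator_le]
  intro v hv t ht
  rw [commutatorElement_def]
  exact comm_mem_V0 d S hS v hv t ht

lemma exists_comm_eq (l : ↥L) (a : F) (ha : d.ρ l = uu a) (ha0 : a ≠ 0) (g : G) (hg : g ∈ d.V0) :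
    ∃ v : ↥V, g = (v : G) * (l : G) * (v : G)⁻¹ * (l : G)⁻¹ := by
  obtain ⟨hgV, hg1⟩ := hg
  obtain ⟨v, hv⟩ := d.exists_coords 0 (-(d.phi ⟨g, hgV⟩ 0) / a)
  refine ⟨v, ?_⟩
  have h1 := d.phi_comm_coeff l a ha v
  have h2 : (⟨g, hgV⟩ : ↥V) = ⟨(v : G) * (l : G) * (v : G)⁻¹ * (l : G)⁻¹, d.comm_mem l v⟩ := by
    apply d.phi_ext
    · rw [h1, hv]
      simp
      field_simp
    · rw [h1, hg1]
      simp
  exact congrArg Subtype.val h2

lemma card_V0 [Fintype F] : Nat.card d.V0 = Fintype.card F := by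
  rw [← Nat.card_eq_fintype_card]
  apply Nat.card_congr
  refine Equiv.ofBijective (fun g : d.V0 => d.phi ⟨g.1, d.V0_le g.2⟩ 0) ⟨?_, ?_⟩
  · rintro ⟨g, hgV, hg1⟩ ⟨h, hhV, hh1⟩ hgh
    apply Subtype.ext
    have : (⟨g, hgV⟩ : ↥V) = ⟨h, hhV⟩ := d.phi_ext hgh (by rw [hg1, hh1])
    show g = h
    exact congrArg Subtype.val this
  · intro x
    obtain ⟨v, hv⟩ := d.exists_coords x 0
    refine ⟨⟨v.1, (d.mem_V0_iff v).2 (by rw [hv]; rfl)⟩, ?_⟩
    show d.phi ⟨v.1, _⟩ 0 = x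
    have : (⟨v.1, v.2⟩ : ↥V) = v := rfl
    rw [this, hv]; rfl

include d in
lemma card_V [Fintype F] : Nat.card ↥V = Fintype.card F ^ 2 := by
  have h1 : Nat.card ↥V = Nat.card (Fin 2 → F) :=
    Nat.card_congr (Additive.ofMul.trans d.ψ.toEquiv)
  rw [h1, Nat.card_eq_fintype_card, Fintype.card_fun, Fintype.card_fin]

end

/-- Let L act on the elementary abelian p-group V (inside a finite group, by conjugation, faithfully) as SL₂(F) on its natural module, F a field with p^n elements, and let S be a Sylow p-subgroup of L. Then [V, S, S] = 1; |V| = p^(2n) and |C_V(S)| = p^n; and for every nonidentity s ∈ S and every v ∈ V outside C_V(S): C_V(s) = C_V(S) = [V, S] = [V, s] = the subgroup generated by the commutators [v, t], t ∈ S. -/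
theorem result {G : Type*} [Group G] [Finite G] {p : ℕ} [Fact p.Prime] {F : Type*} [Field F] [Fintype F] (n : ℕ) (hF : Fintype.card F = p ^ n) (V L : Subgroup G) (hnat : Cfsg.IsNaturalSL2Module F V L) (hf : L ⊓ Subgroup.centralizer (V : Set G) = ⊥) (S : Sylow p ↥L) (T : Subgroup G) (hT : T = ((S : Subgroup ↥L).map L.subtype)) : ⁅⁅V, T⁆, T⁆ = ⊥ ∧ Nat.card V = p ^ (2 * n) ∧ Nat.card ↥(V ⊓ Subgroup.centralizer ((T : Subgroup G) : Set G)) = p ^ n ∧ ∀ s ∈ T, s ≠ 1 → (V ⊓ Subgroup.centralizer ({s} : Set G)) = (V ⊓ Subgroup.centralizer ((T : Subgroup G) : Set G)) ∧ ⁅V, T⁆ = (V ⊓ Subgroup.centralizer ((T : Subgroup G) : Set G)) ∧ ⁅V, Subgroup.zpowers s⁆ = (V ⊓ Subgroup.centralizer ((T : Subgroup G) : Set G)) ∧ ∀ v ∈ V, v ∉ Subgroup.centralizer (T : Set G) → Subgroup.closure {x : G | ∃ t ∈ T, x = v * t * v⁻¹ * t⁻¹} = (V ⊓ Subgroup.centralizer ((T : Subgroup G) : Set G)) := by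
  classical
  obtain ⟨d, hS⟩ := exists_data_sylow hF hnat hf S
  subst hT
  have hcent := d.inf_centralizer (S : Subgroup ↥L) hS
  have hle := commutator_le_V0 d (S : Subgroup ↥L) hS
  have hV0c : d.V0 ≤ Subgroup.centralizer
      ((((S : Subgroup ↥L).map L.subtype : Subgroup G)) : Set G) := by
    rw [← hcent]; exact inf_le_right
  rw [hcent]
  refine ⟨?_, ?_, ?_, ?_⟩
  · rw [eq_bot_iff]
    refine le_trans (Subgroup.commutator_mono hle le_rfl) ?_
    rw [← eq_bot_iff, Subgroup.commutator_eq_bot_iff_le_centralizer]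
    exact hV0c
  · rw [card_V d, hF, ← pow_mul, mul_comm]
  · rw [card_V0 d, hF]
  · rintro s ⟨l, hlS, rfl⟩ hs1
    obtain ⟨a, ha⟩ := d.exists_coeff _ hS l hlS
    have ha0 : a ≠ 0 := by
      rintro rfl
      rw [uu_zero] at ha
      have : l = 1 := d.inj (by rw [ha, map_one])
      apply hs1
      rw [this]; rfl
    refine ⟨?_, ?_, ?_, ?_⟩
    · ext g
      rw [Subgroup.mem_inf, Subgroup.mem_centralizer_singleton_iff]
      constructor
      · rintro ⟨hg, hc⟩
        have h2 := (d.comm_iff_coeff l a ha ⟨g, hg⟩).1 hc.symm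
        rcases mul_eq_zero.mp h2 with h | h
        · exact absurd h ha0
        · exact ⟨hg, h⟩
      · rintro ⟨hg, h0⟩
        exact ⟨hg, ((d.comm_iff_coeff l a ha ⟨g, hg⟩).2 (by rw [h0, mul_zero])).symm⟩
    · apply le_antisymm hle
      intro g hg
      obtain ⟨v, hv⟩ := exists_comm_eq d l a ha ha0 g hg
      rw [hv, ← commutatorElement_def]
      exact Subgroup.commutator_mem_commutator v.2 ⟨l, hlS, rfl⟩
    · apply le_antisymm
      · refine le_trans (Subgroup.commutator_mono le_rfl ?_) hle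
        rw [Subgroup.zpowers_le]
        exact ⟨l, hlS, rfl⟩
      · intro g hg
        obtain ⟨v, hv⟩ := exists_comm_eq d l a ha ha0 g hg
        rw [hv, ← commutatorElement_def]
        exact Subgroup.commutator_mem_commutator v.2 (Subgroup.mem_zpowers _)
    · intro v hv hvc
      have hy : d.phi ⟨v, hv⟩ 1 ≠ 0 := by
        intro h0
        exact hvc (hV0c ⟨hv, h0⟩)
      apply le_antisymm
      · rw [Subgroup.closure_le]
        rintro x ⟨t, ht, rfl⟩
        exact comm_mem_V0 d _ hS v hv t ht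
      · intro g hg
        obtain ⟨hgV, hg1⟩ := hg
        obtain ⟨l', hl'S, hl'⟩ := d.exists_lift _ hS (-(d.phi ⟨g, hgV⟩ 0) / d.phi ⟨v, hv⟩ 1)
        apply Subgroup.subset_closure
        refine ⟨(l' : G), ⟨l', hl'S, rfl⟩, ?_⟩
        have h1 := d.phi_comm_coeff l' _ hl' ⟨v, hv⟩
        have h2 : (⟨g, hgV⟩ : ↥V) =
            ⟨v * (l' : G) * v⁻¹ * (l' : G)⁻¹, d.comm_mem l' ⟨v, hv⟩⟩ := by
          apply d.phi_ext
          · rw [h1]
            simp
            field_simp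
          · rw [h1, hg1]
            simp
        exact congrArg Subtype.val h2

end Cfsg.Agent.S2779
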