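import Cfsg.Statements.S2780

import Cfsg.Agent.Lib.helper15.NatMod
set_option autoImplicit false
open Cfsg

namespace Cfsg.Agent.S2780


open Matrix Cfsg.Agent.Lib.helper15.NatMod

section Mat
variable {F : Type*} [Field F]

lemma inv_coe (B : SpecialLinearGroup (Fin 2) F) :
    ((B⁻¹ : SpecialLinearGroup (Fin 2) F) : Matrix (Fin 2) (Fin 2) F) =
      !![(B : Matrix (Fin 2) (Fin 2) F) 1 1, -(B : Matrix (Fin 2) (Fin 2) F) 0 1;
        -(B : Matrix (Fin 2) (Fin 2) F) 1 0, (B : Matrix (Fin 2) (Fin 2) F) 0 0] := by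
  have h1 : ((B⁻¹ : SpecialLinearGroup (Fin 2) F) : Matrix (Fin 2) (Fin 2) F) =
      adjugate (B : Matrix (Fin 2) (Fin 2) F) := Matrix.SpecialLinearGroup.coe_inv B
  rw [h1, Matrix.adjugate_fin_two]

lemma det_eq (B : SpecialLinearGroup (Fin 2) F) :
    (B : Matrix (Fin 2) (Fin 2) F) 0 0 * (B : Matrix (Fin 2) (Fin 2) F) 1 1 -
      (B : Matrix (Fin 2) (Fin 2) F) 0 1 * (B : Matrix (Fin 2) (Fin 2) F) 1 0 = 1 := by
  have := B.2
  rwa [Matrix.det_fin_two] at this

lemma conj_uu_mulVec (B : SpecialLinearGroup (Fin 2) F) (a : F) (w : Fin 2 → F) :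
    ((B * uu a * B⁻¹ : SpecialLinearGroup (Fin 2) F) : Matrix (Fin 2) (Fin 2) F).mulVec w =
      w + (a * (-((B : Matrix (Fin 2) (Fin 2) F) 1 0) * w 0 + (B : Matrix (Fin 2) (Fin 2) F) 0 0 * w 1)) •
        ![(B : Matrix (Fin 2) (Fin 2) F) 0 0, (B : Matrix (Fin 2) (Fin 2) F) 1 0] := by
  have hd := det_eq B
  rw [mul_coe, mul_coe, inv_coe, uu_coe]
  ext i
  fin_cases i
  · simp [Matrix.mulVec, dotProduct, Fin.sum_univ_two, Matrix.mul_apply]
    linear_combination (w 0) * hd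
  · simp [Matrix.mulVec, dotProduct, Fin.sum_univ_two, Matrix.mul_apply]
    linear_combination (w 1) * hd

lemma conj_uu_fix_iff (B : SpecialLinearGroup (Fin 2) F) (a : F) (w : Fin 2 → F) :
    ((B * uu a * B⁻¹ : SpecialLinearGroup (Fin 2) F) : Matrix (Fin 2) (Fin 2) F).mulVec w = w ↔
      a * (-((B : Matrix (Fin 2) (Fin 2) F) 1 0) * w 0 + (B : Matrix (Fin 2) (Fin 2) F) 0 0 * w 1) = 0 := by
  rw [conj_uu_mulVec]
  constructor
  · intro h
    have h0 := congrFun h 0
    have h1 := congrFun h 1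
    simp at h0 h1
    have hd := det_eq B
    rcases h0 with h0 | h0
    · rcases h0 with h0 | h0
      · rw [h0, zero_mul]
      · linear_combination a * h0
    · rcases h1 with h1 | h1
      · rcases h1 with h1 | h1
        · rw [h1, zero_mul]
        · linear_combination a * h1
      · rw [h0, h1] at hd
        simp at hd
  · intro h
    rw [h, zero_smul, add_zero]

lemma upper_conj_uu (B : SpecialLinearGroup (Fin 2) F) (hB : (B : Matrix (Fin 2) (Fin 2) F) 1 0 = 0)
    (a : F) : B * uu a * B⁻¹ ∈ (Uu : Subgroup (SpecialLinearGroup (Fin 2) F)) := by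
  have hd := det_eq B
  rw [hB, mul_zero, sub_zero] at hd
  rw [mem_Uu_iff', mul_coe, mul_coe, inv_coe, uu_coe]
  refine ⟨?_, ?_, ?_⟩
  · simp [Matrix.mul_apply, Fin.sum_univ_two, hB]
    linear_combination hd
  · simp [Matrix.mul_apply, Fin.sum_univ_two, hB]
  · simp [Matrix.mul_apply, Fin.sum_univ_two, hB]
    linear_combination hd

lemma fix_sq_zero (A : SpecialLinearGroup (Fin 2) F) (w : Fin 2 → F) (hw : w ≠ 0)
    (h : (A : Matrix (Fin 2) (Fin 2) F).mulVec w = w) :
    ((A : Matrix (Fin 2) (Fin 2) F) - 1) ^ 2 = 0 := by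
  have hd := det_eq A
  have h0 := congrFun h 0
  have h1 := congrFun h 1
  simp only [Matrix.mulVec, dotProduct, Fin.sum_univ_two] at h0 h1
  have hw' : w 0 ≠ 0 ∨ w 1 ≠ 0 := by
    by_contra hcon
    push_neg at hcon
    apply hw
    ext i
    fin_cases i
    · exact hcon.1
    · exact hcon.2
  have htr : (A : Matrix (Fin 2) (Fin 2) F) 0 0 + (A : Matrix (Fin 2) (Fin 2) F) 1 1 = 2 := by
    rcases hw' with hx | hy
    · have : (2 - (A : Matrix (Fin 2) (Fin 2) F) 0 0 - (A : Matrix (Fin 2) (Fin 2) F) 1 1) * w 0 = 0 := by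
        linear_combination ((A : Matrix (Fin 2) (Fin 2) F) 1 1 - 1) * h0 -
          (A : Matrix (Fin 2) (Fin 2) F) 0 1 * h1 - (w 0) * hd
      rcases mul_eq_zero.mp this with h2 | h2
      · linear_combination -h2
      · exact absurd h2 hx
    · have : (2 - (A : Matrix (Fin 2) (Fin 2) F) 0 0 - (A : Matrix (Fin 2) (Fin 2) F) 1 1) * w 1 = 0 := by
        linear_combination ((A : Matrix (Fin 2) (Fin 2) F) 0 0 - 1) * h1 -
          (A : Matrix (Fin 2) (Fin 2) F) 1 0 * h0 - (w 1) * hd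
      rcases mul_eq_zero.mp this with h2 | h2
      · linear_combination -h2
      · exact absurd h2 hy
  rw [pow_two]
  ext i j
  fin_cases i <;> fin_cases j
  · simp [Matrix.mul_apply, Fin.sum_univ_two]
    linear_combination ((A : Matrix (Fin 2) (Fin 2) F) 0 0) * htr - hd
  · simp [Matrix.mul_apply, Fin.sum_univ_two]
    linear_combination ((A : Matrix (Fin 2) (Fin 2) F) 0 1) * htr
  · simp [Matrix.mul_apply, Fin.sum_univ_two]
    linear_combination ((A : Matrix (Fin 2) (Fin 2) F) 1 0) * htr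
  · simp [Matrix.mul_apply, Fin.sum_univ_two]
    linear_combination ((A : Matrix (Fin 2) (Fin 2) F) 1 1) * htr - hd

lemma pow_p_eq_one {p : ℕ} [Fact p.Prime] [CharP F p] (A : SpecialLinearGroup (Fin 2) F)
    (h : ((A : Matrix (Fin 2) (Fin 2) F) - 1) ^ 2 = 0) : A ^ p = 1 := by
  have hp2 : 2 ≤ p := (Fact.out : p.Prime).two_le
  have h1 : ((A : Matrix (Fin 2) (Fin 2) F) - 1) ^ p = 0 := by
    have : p = 2 + (p - 2) := by omega
    rw [this, pow_add, h, zero_mul]
  rw [sub_pow_char_of_commute p (Commute.one_right _), one_pow, sub_eq_zero] at h1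
  apply Subtype.ext
  show ((A ^ p : SpecialLinearGroup (Fin 2) F) : Matrix (Fin 2) (Fin 2) F) = 1
  rw [Matrix.SpecialLinearGroup.coe_pow]
  exact h1

end Mat

section
variable {G : Type*} [Group G] {F : Type*} [Field F] {V L : Subgroup G} (d : NMData F V L)
  (S : Subgroup ↥L)
  (hS : ∀ l : ↥L, l ∈ S ↔ d.ρ l ∈ (Uu : Subgroup (SpecialLinearGroup (Fin 2) F)))

include hS in
lemma upper_conj_mem (g : ↥L) (hg : ((d.ρ g : SpecialLinearGroup (Fin 2) F) : Matrix (Fin 2) (Fin 2) F) 1 0 = 0)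
    (l : ↥L) (hl : l ∈ S) : g * l * g⁻¹ ∈ S := by
  obtain ⟨a, ha⟩ := d.exists_coeff S hS l hl
  rw [hS, map_mul, map_mul, map_inv, ha]
  exact upper_conj_uu _ hg a

include hS in
lemma mem_normalizer_of_upper (g : ↥L)
    (hg : ((d.ρ g : SpecialLinearGroup (Fin 2) F) : Matrix (Fin 2) (Fin 2) F) 1 0 = 0) :
    (g : G) ∈ Subgroup.normalizer ((S.map L.subtype : Subgroup G) : Set G) := by
  have hg' : ((d.ρ g⁻¹ : SpecialLinearGroup (Fin 2) F) : Matrix (Fin 2) (Fin 2) F) 1 0 = 0 := by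
    rw [map_inv, inv_coe]
    simp [hg]
  rw [Subgroup.mem_normalizer_iff]
  intro h
  constructor
  · rintro ⟨l, hl, rfl⟩
    exact ⟨g * l * g⁻¹, upper_conj_mem d S hS g hg l hl, rfl⟩
  · rintro ⟨l, hl, hlh⟩
    have h1 := upper_conj_mem d S hS g⁻¹ hg' l hl
    refine ⟨g⁻¹ * l * g⁻¹⁻¹, h1, ?_⟩
    show (g : G)⁻¹ * (l : G) * ((g : G)⁻¹)⁻¹ = h
    have : (l : G) = (g : G) * h * (g : G)⁻¹ := hlh
    rw [this]; group

include hS in
lemma mem_centralizer_conj_iff (g : ↥L) (v : ↥V) :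
    (v : G) ∈ Subgroup.centralizer ((((S.map L.subtype : Subgroup G).map
      (MulAut.conj (g : G)).toMonoidHom : Subgroup G)) : Set G) ↔
    -(((d.ρ g : SpecialLinearGroup (Fin 2) F) : Matrix (Fin 2) (Fin 2) F) 1 0) * d.phi v 0 +
      ((d.ρ g : SpecialLinearGroup (Fin 2) F) : Matrix (Fin 2) (Fin 2) F) 0 0 * d.phi v 1 = 0 := by
  rw [Subgroup.mem_centralizer_iff]
  constructor
  · intro hc
    obtain ⟨l, hlS, hl⟩ := d.exists_lift S hS 1
    have h1 : ((g * l * g⁻¹ : ↥L) : G) * (v : G) = (v : G) * ((g * l * g⁻¹ : ↥L) : G) := by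
      apply hc
      refine ⟨(l : G), ⟨l, hlS, rfl⟩, ?_⟩
      simp [MulAut.conj_apply]
    rw [d.comm_iff, map_mul, map_mul, map_inv, hl, conj_uu_fix_iff, one_mul] at h1
    exact h1
  · intro h0
    rintro t ⟨t0, ⟨l, hlS, rfl⟩, rfl⟩
    obtain ⟨a, ha⟩ := d.exists_coeff S hS l hlS
    have h1 : ((g * l * g⁻¹ : ↥L) : G) * (v : G) = (v : G) * ((g * l * g⁻¹ : ↥L) : G) := by
      rw [d.comm_iff, map_mul, map_mul, map_inv, ha, conj_uu_fix_iff, h0, mul_zero]
    simpa [MulAut.conj_apply] using h1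

end

/-- Let L act on the elementary abelian p-group V (inside a finite group, faithfully) as SL₂(F) on its natural module, F a field with p^n elements, S a Sylow p-subgroup of L. Then: for every g ∈ L not normalizing S, V is the internal direct product of C_V(S) and C_V(gSg⁻¹); every nonidentity element of L of order prime to p acts on V without nonidentity fixed points; and C_V(S) and V/C_V(S) are irreducible for N_L(S): the only N_L(S)-invariant subgroups of C_V(S) are 1 and C_V(S), and the only N_L(S)-invariant subgroups between C_V(S) and V are those two. -/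
theorem result {G : Type*} [Group G] [Finite G] {p : ℕ} [Fact p.Prime] {F : Type*} [Field F] [Fintype F] (n : ℕ) (hF : Fintype.card F = p ^ n) (V L : Subgroup G) (hnat : Cfsg.IsNaturalSL2Module F V L) (hf : L ⊓ Subgroup.centralizer (V : Set G) = ⊥) (S : Sylow p ↥L) (T : Subgroup G) (hT : T = ((S : Subgroup ↥L).map L.subtype)) : (∀ g ∈ L, g ∉ Subgroup.normalizer (T : Set G) → Cfsg.IsInternalDirectProduct (V ⊓ Subgroup.centralizer ((T : Subgroup G) : Set G)) (V ⊓ Subgroup.centralizer ((T.map (MulAut.conj g).toMonoidHom : Subgroup G) : Set G)) V) ∧ (∀ x ∈ L, x ≠ 1 → (orderOf x).Coprime p → (V ⊓ Subgroup.centralizer ({x} : Set G)) = ⊥) ∧ (∀ U : Subgroup G, U ≤ (V ⊓ Subgroup.centralizer ((T : Subgroup G) : Set G)) → L ⊓ Subgroup.normalizer (T : Set G) ≤ Subgroup.normalizer (U : Set G) → U = ⊥ ∨ U = (V ⊓ Subgroup.centralizer ((T : Subgroup G) : Set G))) ∧ (∀ U : Subgroup G, (V ⊓ Subgroup.centralizer ((T : Subgroup G) : Set G)) ≤ U → U ≤ V → L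 ⊓ Subgroup.normalizer (T : Set G) ≤ Subgroup.normalizer (U : Set G) → U = (V ⊓ Subgroup.centralizer ((T : Subgroup G) : Set G)) ∨ U = V) := by
  classical
  obtain ⟨d, hS⟩ := exists_data_sylow hF hnat hf S
  subst hT
  have hcent := d.inf_centralizer (S : Subgroup ↥L) hS
  rw [hcent]
  have hV0c : d.V0 ≤ Subgroup.centralizer
      ((((S : Subgroup ↥L).map L.subtype : Subgroup G)) : Set G) := by
    rw [← hcent]; exact inf_le_right
  have hlift : ∀ a : F, a ≠ 0 → ∃ l : ↥L, (l : G) ∈ L ⊓ Subgroup.normalizer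
      ((((S : Subgroup ↥L).map L.subtype : Subgroup G)) : Set G) ∧
      ∀ v : ↥V, d.phi ⟨(l : G) * (v : G) * (l : G)⁻¹, d.conj_mem l v⟩ =
        ![a * d.phi v 0, a⁻¹ * d.phi v 1] := by
    intro a ha
    obtain ⟨l, hl⟩ := d.surj (dd a ha)
    refine ⟨l, ⟨l.2, mem_normalizer_of_upper d _ hS l (by rw [hl, dd_coe]; simp)⟩, fun v => ?_⟩
    rw [d.phi_conj, hl, dd_mulVec]
  refine ⟨?_, ?_, ?_, ?_⟩
  · intro g hg hgN
    have hγ : ((d.ρ ⟨g, hg⟩ : SpecialLinearGroup (Fin 2) F) : Matrix (Fin 2) (Fin 2) F) 1 0 ≠ 0 := by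
      intro h0
      exact hgN (mem_normalizer_of_upper d _ hS ⟨g, hg⟩ h0)
    have hiff := mem_centralizer_conj_iff d _ hS ⟨g, hg⟩
    refine ⟨d.V0_le, inf_le_left, ?_, ?_, ?_⟩
    · intro a ha b hb
      have := d.comm ⟨a, d.V0_le ha⟩ ⟨b, hb.1⟩
      exact congrArg Subtype.val this
    · rw [eq_bot_iff]
      rintro x ⟨⟨hxV, hx1⟩, hxW⟩
      rw [Subgroup.mem_bot]
      have h1 := (hiff ⟨x, hxV⟩).1 hxW.2
      rw [hx1, mul_zero, add_zero] at h1
      have h2 : d.phi ⟨x, hxV⟩ 0 = 0 := by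
        rcases mul_eq_zero.mp h1 with h | h
        · exact absurd (neg_eq_zero.mp h) hγ
        · exact h
      have h3 : (⟨x, hxV⟩ : ↥V) = 1 := by
        rw [← d.phi_eq_zero_iff]
        ext i
        fin_cases i
        · exact h2
        · exact hx1
      exact congrArg Subtype.val h3
    · apply le_antisymm (sup_le d.V0_le inf_le_left)
      intro v hv
      set γ := ((d.ρ ⟨g, hg⟩ : SpecialLinearGroup (Fin 2) F) : Matrix (Fin 2) (Fin 2) F) 1 0 with hγdef
      set α := ((d.ρ ⟨g, hg⟩ : SpecialLinearGroup (Fin 2) F) : Matrix (Fin 2) (Fin 2) F) 0 0 with hαdef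
      obtain ⟨v2, hv2⟩ := d.exists_coords (α * d.phi ⟨v, hv⟩ 1 / γ) (d.phi ⟨v, hv⟩ 1)
      have hv2W : (v2 : G) ∈ V ⊓ Subgroup.centralizer
          ((((((S : Subgroup ↥L).map L.subtype : Subgroup G)).map
            (MulAut.conj g).toMonoidHom : Subgroup G)) : Set G) := by
        refine ⟨v2.2, (hiff v2).2 ?_⟩
        rw [hv2]
        simp
        field_simp
        ring
      have hv1 : v * (v2 : G)⁻¹ ∈ d.V0 := by
        refine ⟨V.mul_mem hv (V.inv_mem v2.2), ?_⟩
        have : (⟨v * (v2 : G)⁻¹, V.mul_mem hv (V.inv_mem v2.2)⟩ : ↥V) = ⟨v, hv⟩ * v2⁻¹ := rfl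
        rw [this, d.phi_mul, d.phi_inv, hv2]
        simp
      have : v = (v * (v2 : G)⁻¹) * (v2 : G) := by group
      rw [this]
      exact Subgroup.mul_mem_sup hv1 hv2W
  · intro x hx hx1 hcop
    rw [eq_bot_iff]
    rintro v ⟨hvV, hvc⟩
    rw [Subgroup.mem_bot]
    by_contra hv1
    have hvV : v ∈ V := hvV
    have hvc : v ∈ Subgroup.centralizer ({x} : Set G) := hvc
    rw [Subgroup.mem_centralizer_singleton_iff] at hvc
    have hA := (d.comm_iff ⟨x, hx⟩ ⟨v, hvV⟩).1 hvc.symm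
    have hw : d.phi ⟨v, hvV⟩ ≠ 0 := by
      intro h0
      rw [d.phi_eq_zero_iff] at h0
      exact hv1 (congrArg Subtype.val h0)
    have : CharP F p := charP_of_card_eq_prime_pow hF
    have hpow := pow_p_eq_one (p := p) _ (fix_sq_zero _ _ hw hA)
    have h1 : orderOf (d.ρ ⟨x, hx⟩) ∣ p := orderOf_dvd_of_pow_eq_one hpow
    rw [orderOf_injective d.ρ d.inj, Subgroup.orderOf_mk] at h1
    have h2 : orderOf x = 1 := Nat.Coprime.eq_one_of_dvd hcop h1
    exact hx1 (orderOf_eq_one_iff.mp h2)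
  · intro U hU hN
    by_cases hbot : U = ⊥
    · left; exact hbot
    · right
      apply le_antisymm hU
      obtain ⟨⟨u, huU⟩, hu1⟩ := (Subgroup.ne_bot_iff_exists_ne_one.mp hbot)
      obtain ⟨huV, hu0⟩ := hU huU
      have hc : d.phi ⟨u, huV⟩ 0 ≠ 0 := by
        intro h0
        have : (⟨u, huV⟩ : ↥V) = 1 := by
          rw [← d.phi_eq_zero_iff]
          ext i
          fin_cases i
          · exact h0
          · exact hu0
        apply hu1
        apply Subtype.ext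
        show u = 1
        exact congrArg Subtype.val this
      rintro g ⟨hgV, hg0⟩
      by_cases hc' : d.phi ⟨g, hgV⟩ 0 = 0
      · have : (⟨g, hgV⟩ : ↥V) = 1 := by
          rw [← d.phi_eq_zero_iff]
          ext i
          fin_cases i
          · exact hc'
          · exact hg0
        have hg1 : g = 1 := congrArg Subtype.val this
        rw [hg1]; exact U.one_mem
      · obtain ⟨l, hlN, hl⟩ := hlift (d.phi ⟨g, hgV⟩ 0 / d.phi ⟨u, huV⟩ 0) (div_ne_zero hc' hc)
        have h1 := hN hlN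
        rw [Subgroup.mem_normalizer_iff] at h1
        have h2 := (h1 u).1 huU
        have h3 : (⟨g, hgV⟩ : ↥V) = ⟨(l : G) * u * (l : G)⁻¹, d.conj_mem l ⟨u, huV⟩⟩ := by
          apply d.phi_ext
          · rw [hl ⟨u, huV⟩]
            simp
            field_simp
          · rw [hl ⟨u, huV⟩, hg0, hu0]
            simp
        have h4 : g = (l : G) * u * (l : G)⁻¹ := congrArg Subtype.val h3
        rw [h4]; exact h2
  · intro U hV0U hUV hN
    by_cases hle : U ≤ d.V0
    · left; exact le_antisymm hle hV0U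
    · right
      apply le_antisymm hUV
      obtain ⟨u, huU, huV0⟩ := SetLike.not_le_iff_exists.mp hle
      have huV := hUV huU
      have hy : d.phi ⟨u, huV⟩ 1 ≠ 0 := fun h0 => huV0 ⟨huV, h0⟩
      intro v hv
      by_cases hy' : d.phi ⟨v, hv⟩ 1 = 0
      · exact hV0U ⟨hv, hy'⟩
      · obtain ⟨l, hlN, hl⟩ := hlift (d.phi ⟨u, huV⟩ 1 / d.phi ⟨v, hv⟩ 1) (div_ne_zero hy hy')
        have h1 := hN hlN
        rw [Subgroup.mem_normalizer_iff] at h1
        have h2 := (h1 u).1 huU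
        have hu'V := d.conj_mem l ⟨u, huV⟩
        have h3 : v * ((l : G) * u * (l : G)⁻¹)⁻¹ ∈ d.V0 := by
          refine ⟨V.mul_mem hv (V.inv_mem hu'V), ?_⟩
          have : (⟨v * ((l : G) * u * (l : G)⁻¹)⁻¹, V.mul_mem hv (V.inv_mem hu'V)⟩ : ↥V) =
              ⟨v, hv⟩ * (⟨(l : G) * u * (l : G)⁻¹, hu'V⟩ : ↥V)⁻¹ := rfl
          rw [this, d.phi_mul, d.phi_inv, hl ⟨u, huV⟩]
          simp
          field_simp
          ring
        have : v = (v * ((l : G) * u * (l : G)⁻¹)⁻¹) * ((l : G) * u * (l : G)⁻¹) := by group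
        rw [this]
        exact U.mul_mem (hV0U h3) h2

end Cfsg.Agent.S2780
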