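import Mathlib
import Cfsg.Statements.S2781
import Cfsg.Agent.Lib.helper17.Avg
import Cfsg.Agent.Lib.helper17.PRed7

set_option autoImplicit false
open Cfsg

namespace Cfsg.Agent.S2781

open Cfsg.Agent.Lib.helper17
open scoped commutatorElement

theorem commutator_sup_le {G : Type*} [Group G] {V R : Subgroup G}
    (hVc : ∀ a ∈ V, ∀ b ∈ V, a * b = b * a) (hRV : R ≤ Subgroup.normalizer (V : Set G)) :
    ⁅V, V ⊔ R⁆ ≤ ⁅V, R⁆ := by
  rw [Subgroup.commutator_le]
  intro v hv k hk
  obtain ⟨v', hv', r, hr, rfl⟩ := exists_mul_of_mem_sup_right hRV hk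
  have h1 : ⁅v, r⁆ ∈ V := by
    rw [commutatorElement_def]
    have : r * v⁻¹ * r⁻¹ ∈ V := ((Subgroup.mem_normalizer_iff.mp (hRV hr)) v⁻¹).mp (V.inv_mem hv)
    have := V.mul_mem hv this
    simpa [mul_assoc] using this
  have e : ⁅v, v' * r⁆ = ⁅v, r⁆ := by
    have e1 : ⁅v, v' * r⁆ = (v * v') * r * v⁻¹ * r⁻¹ * v'⁻¹ := by
      simp only [commutatorElement_def]; group
    have e2 : (v * v') * r * v⁻¹ * r⁻¹ * v'⁻¹ = v' * ⁅v, r⁆ * v'⁻¹ := by
      rw [hVc v hv v' hv']
      simp only [commutatorElement_def]; group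
    rw [e1, e2, hVc v' hv' _ h1]
    group
  rw [e]
  exact Subgroup.commutator_mem_commutator hv hr

theorem result {G : Type*} [Group G] [Finite G] {p : ℕ} [Fact p.Prime] (V H : Subgroup G) (hV : Cfsg.IsElementaryAbelian p V) (hHV : H ≤ Subgroup.normalizer (V : Set G)) (hf : H ⊓ Subgroup.centralizer (V : Set G) = ⊥) (R : Subgroup G) (hR : R = (Cfsg.pResidual p ↥H).map H.subtype) (S : Sylow p ↥R) (T : Subgroup G) (hT : T = ((S : Subgroup ↥R).map R.subtype)) (hgen : ∀ W : Subgroup G, H ≤ Subgroup.normalizer (W : Set G) → (V ⊓ Subgroup.centralizer ((T : Subgroup G) : Set G)) ≤ W → V ≤ W) : ⁅V, R⁆ ⊔ (V ⊓ Subgroup.centralizer ((R : Subgroup G) : Set G)) = V := by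
  have hV' := isElementaryAbelian_iff.mp hV
  have hRH : R ≤ H := hR.le.trans (Subgroup.map_subtype_le _)
  have hRV : R ≤ Subgroup.normalizer (V : Set G) := hRH.trans hHV
  have hHR : H ≤ Subgroup.normalizer (R : Set G) := by
    have := (normal_iff_le_normalizer_map _).mp (pResidual_normal p ↥H)
    intro h hh
    have h1 := this hh
    rw [Subgroup.mem_normalizer_iff] at h1 ⊢
    intro x
    rw [hR]
    exact h1 x
  have hTR : T ≤ R := hT.le.trans (Subgroup.map_subtype_le _)
  have hcomm : ⁅V, R⁆ ≤ V := by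
    rw [Subgroup.commutator_comm]
    exact Subgroup.le_normalizer_iff_commutator_le_right.mp hRV
  apply le_antisymm
  · exact sup_le hcomm inf_le_left
  · apply hgen
    · exact le_normalizer_sup (le_normalizer_commutator hHV hHR)
        (le_normalizer_inf' hHV (hHR.trans (normalizer_le_normalizer_centralizer' R)))
    · intro z hz
      obtain ⟨hzV, hzT⟩ := Subgroup.mem_inf.mp hz
      -- the group `K = V R`
      have hVK : V ≤ V ⊔ R := le_sup_left
      have hRK : R ≤ V ⊔ R := le_sup_right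
      have hKV : V ⊔ R ≤ Subgroup.normalizer (V : Set G) := sup_le Subgroup.le_normalizer hRV
      have hVn : (V.subgroupOf (V ⊔ R)).Normal :=
        (Subgroup.normal_subgroupOf_iff_le_normalizer hVK).mpr hKV
      have hVmap : (V.subgroupOf (V ⊔ R)).map (V ⊔ R).subtype = V := by
        rw [Subgroup.subgroupOf_map_subtype, inf_eq_left.mpr hVK]
      have hVel : Cfsg.IsElementaryAbelian p (V.subgroupOf (V ⊔ R)) := by
        rw [← isElementaryAbelian_map_subtype, hVmap]
        exact hV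
      have hTp : IsPGroup p ↥T := by
        rw [hT]
        exact S.isPGroup'.map _
      have hVp : IsPGroup p ↥V := isPGroup_of_isElementaryAbelian hV
      have hVTp : IsPGroup p ↥(T ⊔ V) := IsPGroup.to_sup_of_normal_right' hTp hVp (hTR.trans hRV)
      have hVTK : T ⊔ V ≤ V ⊔ R := sup_le (hTR.trans hRK) hVK
      have hVTp' : IsPGroup p ↥((T ⊔ V).subgroupOf (V ⊔ R)) :=
        hVTp.comap_of_injective _ (Subgroup.subtype_injective _)
      obtain ⟨P, hP⟩ := hVTp'.exists_le_sylow
      -- `P ∩ R = T`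
      have hPR : ∀ r : G, ∀ hr : r ∈ R, (⟨r, hRK hr⟩ : ↥(V ⊔ R)) ∈ P → r ∈ T := by
        intro r hr hrP
        have hQp : IsPGroup p ↥(((P : Subgroup ↥(V ⊔ R)).map (V ⊔ R).subtype).subgroupOf R) :=
          (P.isPGroup'.map _).comap_of_injective _ (Subgroup.subtype_injective _)
        have hSQ : (S : Subgroup ↥R) ≤ ((P : Subgroup ↥(V ⊔ R)).map (V ⊔ R).subtype).subgroupOf R := by
          intro s hs
          rw [Subgroup.mem_subgroupOf]
          have hsT : (s : G) ∈ T := by rw [hT]; exact ⟨s, hs, rfl⟩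
          refine ⟨⟨(s : G), hRK s.2⟩, hP ?_, rfl⟩
          rw [Subgroup.mem_subgroupOf]
          exact le_sup_left (a := T) hsT
        have hQS := S.is_maximal' hQp hSQ
        have : (⟨r, hr⟩ : ↥R) ∈ ((P : Subgroup ↥(V ⊔ R)).map (V ⊔ R).subtype).subgroupOf R := by
          rw [Subgroup.mem_subgroupOf]
          exact ⟨⟨r, hRK hr⟩, hrP, rfl⟩
        rw [hQS] at this
        rw [hT]
        exact ⟨⟨r, hr⟩, this, rfl⟩
      have hzS : ∀ s ∈ (P : Subgroup ↥(V ⊔ R)), s * (⟨z, hVK hzV⟩ : ↥(V ⊔ R)) = ⟨z, hVK hzV⟩ * s := by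
        intro s hs
        obtain ⟨v, hv, r, hr, hsvr⟩ := exists_mul_of_mem_sup_right hRV s.2
        have hvP : (⟨v, hVK hv⟩ : ↥(V ⊔ R)) ∈ P := by
          apply hP
          rw [Subgroup.mem_subgroupOf]
          exact le_sup_right (a := T) hv
        have hrP : (⟨r, hRK hr⟩ : ↥(V ⊔ R)) ∈ P := by
          have e : (⟨r, hRK hr⟩ : ↥(V ⊔ R)) = (⟨v, hVK hv⟩ : ↥(V ⊔ R))⁻¹ * s := by
            apply Subtype.ext
            simp [hsvr]
          rw [e]
          exact Subgroup.mul_mem _ (Subgroup.inv_mem _ hvP) hs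
        have hrT := hPR r hr hrP
        apply Subtype.ext
        show (s : G) * z = z * (s : G)
        rw [hsvr]
        have h1 : r * z = z * r := (Subgroup.mem_centralizer_iff.mp hzT) r hrT
        have h2 : v * z = z * v := hV'.1 v hv z hzV
        calc v * r * z = v * (r * z) := by group
          _ = v * (z * r) := by rw [h1]
          _ = (v * z) * r := by group
          _ = (z * v) * r := by rw [h2]
          _ = z * (v * r) := by group
      obtain ⟨a, haV, hac, b, hb, hzab⟩ := exists_central_mul_commutator P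
        (V.subgroupOf (V ⊔ R)) hVel (z := ⟨z, hVK hzV⟩) (Subgroup.mem_subgroupOf.mpr hzV) hzS
      have hz' : z = (a : G) * (b : G) := by
        have := congrArg Subtype.val hzab
        simpa using this
      rw [hz']
      apply Subgroup.mul_mem
      · apply le_sup_right (a := ⁅V, R⁆)
        refine Subgroup.mem_inf.mpr ⟨Subgroup.mem_subgroupOf.mp haV, ?_⟩
        rw [Subgroup.mem_centralizer_iff]
        intro r hr
        have := congrArg Subtype.val (hac ⟨r, hRK hr⟩)
        simpa using this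
      · apply le_sup_left (b := V ⊓ Subgroup.centralizer ((R : Subgroup G) : Set G))
        have h1 : (b : G) ∈ (⁅V.subgroupOf (V ⊔ R), Cfsg.pResidual p ↥(V ⊔ R)⁆).map (V ⊔ R).subtype :=
          ⟨b, hb, rfl⟩
        rw [Subgroup.map_commutator, hVmap] at h1
        have h2 : ⁅V, (Cfsg.pResidual p ↥(V ⊔ R)).map (V ⊔ R).subtype⁆ ≤ ⁅V, V ⊔ R⁆ :=
          Subgroup.commutator_mono le_rfl (Subgroup.map_subtype_le _)
        exact commutator_sup_le hV'.1 hRV (h2 h1)

end Cfsg.Agent.S2781
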