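import Cfsg.Statements.S2787
import Cfsg.Agent.Lib.helper17.NQ4
import Cfsg.Agent.S1152

set_option autoImplicit false
open Cfsg

namespace Cfsg.Agent.S2787

/-- Let p be a prime and let H act by conjugation on the elementary abelian p-subgroup V of a finite group, irreducibly (no H-invariant subgroups of V other than 1 and V) and nontrivially, and suppose H/C_H(V) is isomorphic to PSL₂(F) for a field F with p^n elements, p^n odd, or p = 3 and H/C_H(V) is isomorphic to a Ree group ²G₂(3^(2m+1)), m ≥ 1. Then no subgroup A of H acting nontrivially on V acts quadratically: [V, A, A] = 1 forces [V, A] = 1. -/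
theorem result {G : Type*} [Group G] [Finite G] {p : ℕ} [Fact p.Prime] (V H : Subgroup G) (hV : Cfsg.IsElementaryAbelian p V) (hHV : H ≤ Subgroup.normalizer (V : Set G)) (hirr : ∀ U : Subgroup G, U ≤ V → H ≤ Subgroup.normalizer (U : Set G) → U = ⊥ ∨ U = V) (hnt : ¬ H ≤ Subgroup.centralizer (V : Set G)) [hn : ((Subgroup.centralizer (V : Set G)).subgroupOf H).Normal] (hq : (∃ (F : Type) (_ : Field F) (_ : Fintype F) (n : ℕ), Fintype.card F = p ^ n ∧ Odd (Fintype.card F) ∧ Nonempty (↥H ⧸ (Subgroup.centralizer (V : Set G)).subgroupOf H ≃* Matrix.ProjectiveSpecialLinearGroup (Fin 2) F)) ∨ (p = 3 ∧ Cfsg.Lie.IsoRee (↥H ⧸ (Subgroup.centralizer (V : Set G)).subgroupOf H))) (A : Subgroup G) (hA : A ≤ H) (hquad : ⁅⁅V, A⁆, A⁆ = ⊥) : ⁅V, A⁆ = ⊥ := by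
  obtain ⟨E, instE, finE, β, hE, hβ, hβq⟩ :=
    Cfsg.Agent.Lib.helper17.NQ.exists_faithful_quot V H hV hHV
  have key : ∀ (a : G) (ha : a ∈ A),
      (QuotientGroup.mk ⟨a, hA ha⟩ : ↥H ⧸ (Subgroup.centralizer (V : Set G)).subgroupOf H) = 1 := by
    intro a ha
    have hqa : ⁅⁅V, Subgroup.zpowers a⁆, Subgroup.zpowers a⁆ = ⊥ := by
      rw [eq_bot_iff, ← hquad]
      exact Subgroup.commutator_mono
        (Subgroup.commutator_mono le_rfl ((Subgroup.zpowers_le).2 ha)) ((Subgroup.zpowers_le).2 ha)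
    have hx := hβq a (hA ha) hqa
    rcases hq with ⟨F, _, _, n, hF, hodd, ⟨e⟩⟩ | ⟨hp3, K, _, _, m, hm, hK, ⟨e⟩⟩
    · have hp2 : p ≠ 2 := by
        rintro rfl
        rw [hF] at hodd
        rcases Nat.eq_zero_or_pos n with h0 | h0
        · rw [h0, pow_zero] at hF
          have := Fintype.one_lt_card (α := F)
          omega
        · exact (Nat.not_even_iff_odd.2 hodd) ((Nat.even_pow.2 ⟨even_two, h0.ne'⟩))
      have h1 := Cfsg.Agent.Lib.helper17.NQ.psl2_quad_trivial hF hp2 hE (β.comp e.symm.toMonoidHom)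
        (hβ.comp e.symm.injective) (e (QuotientGroup.mk ⟨a, hA ha⟩)) (by
          intro v
          simp only [MonoidHom.coe_comp, MulEquiv.coe_toMonoidHom, Function.comp_apply,
            MulEquiv.symm_apply_apply]
          exact hx v)
      exact (MulEquiv.map_eq_one_iff e).1 h1
    · subst hp3
      obtain ⟨hs, hna⟩ := Cfsg.Agent.S1073.result hm hK
      obtain ⟨i, hiD, hi1, hi2⟩ := Cfsg.Agent.Lib.helper17.NQ.ree_exists_involution (m := m) hK
      have hS2 : ∀ S : Sylow 2 ↥(Cfsg.Lie.twistedG2 K (3 ^ m)), ∀ x ∈ S, x * x = 1 :=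
        fun S => ((Cfsg.Agent.S1152.result hK i hiD hi1 hi2).2 S).2
      have h1 := Cfsg.Agent.Lib.helper17.NQ.simple_quad_trivial (p := 3) (by norm_num) hs hna hS2 hE
        (β.comp e.symm.toMonoidHom) (hβ.comp e.symm.injective)
        (e (QuotientGroup.mk ⟨a, hA ha⟩)) (by
          intro v
          simp only [MonoidHom.coe_comp, MulEquiv.coe_toMonoidHom, Function.comp_apply,
            MulEquiv.symm_apply_apply]
          exact hx v)
      exact (MulEquiv.map_eq_one_iff e).1 h1
  rw [Subgroup.commutator_eq_bot_iff_le_centralizer]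
  intro v hv
  rw [Subgroup.mem_centralizer_iff]
  intro a ha
  have h1 := (QuotientGroup.eq_one_iff _).1 (key a ha)
  rw [Subgroup.mem_subgroupOf, Subgroup.mem_centralizer_iff] at h1
  exact (h1 v hv).symm

end Cfsg.Agent.S2787
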