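import Cfsg.Statements.S2791
import Cfsg.Agent.Lib.Helper1.StrongControl

set_option autoImplicit false
open Cfsg
open Cfsg.Agent.Lib.Helper1 Cfsg.Agent.Lib.Helper13
open scoped commutatorElement

namespace Cfsg.Agent.S2791

/-- Let S be a Sylow p-subgroup of the finite group G and A an abelian subgroup of S that is strongly closed in S with respect to G. Then A controls strong fusion in G: for some Sylow p-subgroup T containing A, whenever a subset of T is conjugated into T by an element of G, the same elementwise conjugation is induced by an element of N_G(A). -/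
theorem result {G : Type*} [Group G] [Finite G] {p : ℕ} [Fact p.Prime] (S : Sylow p G) (A : Subgroup G) (hA : IsMulCommutative ↥A) (hsc : Cfsg.IsStronglyClosed A (S : Subgroup G)) : Cfsg.ControlsStrongFusion p A := by
  have hcommA : ∀ a ∈ A, ∀ b ∈ A, a * b = b * a := by
    intro a ha b hb
    have := hA.is_comm.comm (⟨a, ha⟩ : A) ⟨b, hb⟩
    exact congrArg Subtype.val this
  obtain ⟨Ws, hWs⟩ : ∃ Ws : ℕ → Subgroup G, Ws = fun i => if i = 0 then ⊥ else if i = 1 then A else (S : Subgroup G) := ⟨_, rfl⟩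
  have hW0 : Ws 0 = ⊥ := by rw [hWs]; simp
  have hW1 : Ws 1 = A := by rw [hWs]; simp
  have hW2 : Ws 2 = (S : Subgroup G) := by rw [hWs]; simp
  have hscW : ∀ i, Cfsg.IsStronglyClosed (Ws i) (S : Subgroup G) := by
    intro i
    rw [hWs]
    by_cases h0 : i = 0
    · simp only [h0, if_true]
      refine ⟨bot_le, ?_⟩
      intro x hx g _
      rw [Subgroup.mem_bot] at hx ⊢
      rw [hx]; group
    · by_cases h1 : i = 1
      · simp only [h1, if_true, one_ne_zero, if_false]
        exact hsc
      · simp only [h0, h1, if_false]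
        exact ⟨le_rfl, fun x _ g h => h⟩
  have hSn := le_normalizer_of_stronglyClosed hsc
  have hcomm : ∀ i < 2, ⁅Ws (i + 1), A⁆ ≤ Ws i := by
    intro i hi
    interval_cases i
    · rw [hW0, zero_add, hW1, Subgroup.commutator_le]
      intro a ha b hb
      rw [Subgroup.mem_bot, commutatorElement_eq_one_iff_mul_comm]
      exact hcommA a ha b hb
    · rw [hW1, hW2, Subgroup.commutator_le]
      intro s hs a ha
      rw [commutatorElement_def]
      exact A.mul_mem (conj_mem_of_mem_normalizer (hSn hs) ha) (A.inv_mem ha)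
  refine ⟨S, hsc.1, ?_⟩
  intro B hB
  refine ⟨hB, ?_⟩
  intro g hg
  have hRS : Subgroup.closure B ≤ (S : Subgroup G) := (Subgroup.closure_le _).mpr hB
  have hrc : rc (Subgroup.closure B) g⁻¹ ≤ (S : Subgroup G) := by
    rw [rc_def, inv_inv, Subgroup.map_le_iff_le_comap, Subgroup.closure_le]
    intro b hb
    have : g * b * g⁻¹ ∈ (S : Subgroup G) := hg ⟨b, hb, rfl⟩
    show (MulAut.conj g).toMonoidHom b ∈ (S : Subgroup G)
    simpa using this
  obtain ⟨c, hc, h, hh, hgch⟩ := controls_strong_of_series S A Ws 2 hsc hW0 hW2 hscW hcomm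
    (Subgroup.closure B) hRS g⁻¹ hrc
  refine ⟨h⁻¹, Subgroup.inv_mem _ hh, ?_⟩
  intro a ha
  have h1 := Subgroup.mem_centralizer_iff.mp hc a (Subgroup.subset_closure ha)
  have h2 : g = h⁻¹ * c⁻¹ := by
    rw [← inv_inv g, hgch]; group
  rw [h2]
  calc h⁻¹ * c⁻¹ * a * (h⁻¹ * c⁻¹)⁻¹ = h⁻¹ * (c⁻¹ * (a * c)) * h := by group
    _ = h⁻¹ * (c⁻¹ * (c * a)) * h := by rw [h1]
    _ = h⁻¹ * a * h⁻¹⁻¹ := by group

end Cfsg.Agent.S2791
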