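import Cfsg.Statements.S2792
import Mathlib
import Cfsg.Agent.Lib.Helper29.YoshidaW2

set_option autoImplicit false
open Cfsg

namespace Cfsg.Agent.S2792
open Subgroup
open Cfsg.Agent.Lib.Helper29.YoshidaW Cfsg.Agent.Lib.Helper29.YoshidaW2

theorem isCoatom_of_index_prime' {X : Type*} [Group X] {M : Subgroup X} (hp : M.index.Prime) : IsCoatom M := by
  constructor
  · intro h
    rw [h, index_top] at hp
    exact Nat.not_prime_one hp
  · intro L hL
    have h1 := relIndex_mul_index hL.le
    have h2 : L.index ∣ M.index := Dvd.intro_left _ h1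
    rcases (Nat.dvd_prime hp).mp h2 with h3 | h3
    · exact index_eq_one.mp h3
    · exfalso
      rw [h3] at h1
      have hpos : 0 < M.index := hp.pos
      have h4 : M.relIndex L = 1 := by
        have : M.relIndex L * M.index = 1 * M.index := by rw [h1, one_mul]
        exact Nat.eq_of_mul_eq_mul_right hpos this
      have h5 := relIndex_eq_one.mp h4
      exact (not_le_of_gt hL) h5

theorem frattini_le_ker_zmod {X : Type*} [Group X] [Finite X] {p : ℕ} [Fact p.Prime]
    (χ : X →* Multiplicative (ZMod p)) : frattini X ≤ χ.ker := by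
  have hp := (Fact.out : p.Prime)
  by_cases htop : χ.ker = ⊤
  · rw [htop]; exact le_top
  · apply frattini_le_coatom
    apply isCoatom_of_index_prime'
    rw [Subgroup.index_ker]
    have h1 : Nat.card χ.range ∣ p := by
      have := Subgroup.card_subgroup_dvd_card χ.range
      simpa using this
    rcases (Nat.dvd_prime hp).mp h1 with h2 | h2
    · exfalso
      apply htop
      rw [← Subgroup.index_eq_one, Subgroup.index_ker, h2]
    · rw [h2]; exact hp

theorem coprime_of_mem_pResidual_comm {B : Type*} [CommGroup B] [Finite B] {p : ℕ} (b : B)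
    (hb : b ∈ Cfsg.pResidual p B) : Nat.Coprime (orderOf b) p := by
  unfold Cfsg.pResidual at hb
  induction hb using Subgroup.closure_induction with
  | mem x hx => exact hx
  | one => simp
  | mul x y _ _ hx hy =>
    have h1 : orderOf (x * y) ∣ Nat.lcm (orderOf x) (orderOf y) := (Commute.all x y).orderOf_mul_dvd_lcm
    have h2 : Nat.Coprime (orderOf x * orderOf y) p := Nat.Coprime.mul_left hx hy
    exact Nat.Coprime.coprime_dvd_left (h1.trans (Nat.lcm_dvd_mul _ _)) h2
  | inv x _ hx => rwa [orderOf_inv]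

theorem concl_of_cfgB {G : Type*} [Group G] [Finite G] {p : ℕ} [Fact p.Prime] (W B : Subgroup G)
    (h : CfgB p W B) :
    ∃ x ∈ B, ∃ z ∈ W, ∃ W₀ : Subgroup ↥W, IsCoatom W₀ ∧
      (fun y : G => y⁻¹ * z⁻¹ * y * z)^[p - 1] x ∈ W₀.map W.subtype ∧
      (fun y : G => y⁻¹ * z⁻¹ * y * z)^[p - 1] x ∉ ((frattini ↥W₀).map W₀.subtype).map W.subtype := by
  have hp := (Fact.out : p.Prime)
  obtain ⟨x, hx, z, hz, W₁, ν, hle, hidx, hc, hν⟩ := h
  refine ⟨x, hx, z, hz, W₁.subgroupOf W, ?_, ?_, ?_⟩
  · apply isCoatom_of_index_prime'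
    show (W₁.relIndex W).Prime
    rw [hidx]; exact hp
  · exact ⟨⟨_, hle hc⟩, Subgroup.mem_subgroupOf.mpr hc, rfl⟩
  · rintro ⟨w, ⟨f, hf, rfl⟩, hEq⟩
    -- the character on W₀
    let j : ↥(W₁.subgroupOf W) →* ↥W₁ :=
      { toFun := fun a => ⟨((a : ↥W) : G), Subgroup.mem_subgroupOf.mp a.2⟩
        map_one' := rfl
        map_mul' := fun _ _ => rfl }
    have h1 : f ∈ (ν.comp j).ker := frattini_le_ker_zmod (ν.comp j) hf
    apply hν
    rw [← (MonoidHom.mem_ker.mp h1)]
    show ν _ = ν (j f)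
    congr 1
    apply Subtype.ext
    exact hEq.symm


/-- Let S be a Sylow p-subgroup of the finite group G and W a subgroup of S weakly closed in S with respect to G. If S ∩ G' ≠ S ∩ (N_G(W))', then there are x ∈ S, z ∈ W and a maximal subgroup W₀ of W such that the iterated commutator [x, z; p−1] (with [x, z] = x⁻¹z⁻¹xz and [x, z; i+1] = [[x, z; i], z]) lies in W₀ but not in the Frattini subgroup of W₀; in particular [x, z; p−1] ≠ 1. -/
theorem result {G : Type*} [Group G] [Finite G] {p : ℕ} [Fact p.Prime] (S : Sylow p G) (W : Subgroup G) (hW : Cfsg.IsWeaklyClosed W (S : Subgroup G)) (h : (S : Subgroup G) ⊓ commutator G ≠ (S : Subgroup G) ⊓ ⁅Subgroup.normalizer (W : Set G), Subgroup.normalizer (W : Set G)⁆) : ∃ x ∈ (S : Subgroup G), ∃ z ∈ W, ∃ W₀ : Subgroup ↥W, IsCoatom W₀ ∧ (fun y : G => y⁻¹ * z⁻¹ * y * z)^[p - 1] x ∈ W₀.map W.subtype ∧ (fun y : G => y⁻¹ * z⁻¹ * y * z)^[p - 1] x ∉ ((frattini ↥W₀).map W₀.subtype).map W.subtype := by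
  by_contra hcon
  have hnc : ¬ CfgB p W (S : Subgroup G) := fun hc => hcon (concl_of_cfgB W _ hc)
  apply h
  have hp := (Fact.out : p.Prime)
  have hPN : (S : Subgroup G) ≤ Subgroup.normalizer (W : Set G) := weaklyClosed_le_normalizer hW
  -- the p-part of the abelianization of N
  have hOn : (Cfsg.pResidual p (Abelianization ↥(Subgroup.normalizer (W : Set G)))).Normal :=
    Cfsg.Agent.Lib.Helper1.pResidual_normal p
  let δ : ↥(Subgroup.normalizer (W : Set G)) →*
      (Abelianization ↥(Subgroup.normalizer (W : Set G))) ⧸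
        (Cfsg.pResidual p (Abelianization ↥(Subgroup.normalizer (W : Set G)))) :=
    (QuotientGroup.mk' _).comp Abelianization.of
  have hA : IsPGroup p ((Abelianization ↥(Subgroup.normalizer (W : Set G))) ⧸
        (Cfsg.pResidual p (Abelianization ↥(Subgroup.normalizer (W : Set G))))) :=
    Cfsg.Agent.Lib.Helper1.quotient_pResidual_isPGroup p
  have key := fullW S W hW hnc _ rfl hPN hA δ
  apply le_antisymm
  · rintro x ⟨hxS, hxG⟩
    refine ⟨hxS, ?_⟩
    have h1 := key ⟨x, hxS⟩ hxG
    have h2 : Abelianization.of (Subgroup.inclusion hPN ⟨x, hxS⟩)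
        ∈ Cfsg.pResidual p (Abelianization ↥(Subgroup.normalizer (W : Set G))) :=
      (QuotientGroup.eq_one_iff _).mp h1
    have h3 := coprime_of_mem_pResidual_comm _ h2
    obtain ⟨a, ha⟩ := (IsPGroup.iff_orderOf.mp S.2) ⟨x, hxS⟩
    have h4 : orderOf (Abelianization.of (Subgroup.inclusion hPN ⟨x, hxS⟩)) ∣ p ^ a := by
      rw [← ha]
      exact orderOf_map_dvd (Abelianization.of.comp (Subgroup.inclusion hPN)) _
    have h5 : orderOf (Abelianization.of (Subgroup.inclusion hPN ⟨x, hxS⟩)) = 1 :=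
      Nat.eq_one_of_dvd_coprimes (Nat.Coprime.pow_right a h3) dvd_rfl h4
    have h6 : Subgroup.inclusion hPN ⟨x, hxS⟩ ∈ (Abelianization.of (G := ↥(Subgroup.normalizer (W : Set G)))).ker :=
      orderOf_eq_one_iff.mp h5
    rw [Abelianization.ker_of] at h6
    rw [← Subgroup.map_subtype_commutator]
    exact ⟨_, h6, rfl⟩
  · apply inf_le_inf_left
    rw [_root_.commutator_def]
    exact Subgroup.commutator_mono le_top le_top

end Cfsg.Agent.S2792
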