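import Cfsg.Statements.S5193
import Cfsg.Agent.Lib.helper17.GB12
import Cfsg.Agent.Lib.helper17.CWR
-- import your own Cfsg.Agent.* helpers here

set_option autoImplicit false
open Cfsg

namespace Cfsg.Agent.S5193

open Cfsg.FusionSystem Cfsg.Agent.Lib.Helper26 Cfsg.Agent.Lib.Helper27 Cfsg.Agent.Lib.helper17.CW
  Cfsg.Agent.Lib.helper17.GB

/-- Glauberman's Theorem for fusion systems. Let F be a saturated fusion system over a finite p-group S, let J(S) be the subgroup generated by the abelian subgroups of S of largest order, and let N be the normalizer fusion system of J(S) in F (a fusion system over N_S(J(S)) = S). Then every p-th power of an element of Z(S) that lies in the centre of N lies in the centre of F; and if p is odd, or if the symmetric group of degree 4 is not involved in any model of the normalizer system of a fully normalized F-centric subgroup (F is S₄-free), then the centre of N equals the centre of F. -/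
theorem result {Ω : Type*} [Group Ω] {S : Subgroup Ω} [Finite S] (p : ℕ) [Fact p.Prime] (hS : IsPGroup p S) (F : Cfsg.FusionSystem S) (hF : F.IsSaturated p) (N : Cfsg.FusionSystem (Cfsg.FusionSystem.normalizerIn S (Cfsg.thompsonSubgroupAOf S))) (hN : F.IsNormalizerSystem (Cfsg.thompsonSubgroupAOf S) N) : Subgroup.closure ((fun z : Ω => z ^ p) '' ((S ⊓ Subgroup.centralizer (S : Set Ω) : Subgroup Ω) : Set Ω)) ⊓ N.center ≤ F.center ∧ (p ≠ 2 ∨ F.IsSectionFree p (Equiv.Perm (Fin 4)) → N.center = F.center) := by
  constructor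
  · have hL : LocalHyp p p (thompsonFun p) := localHyp_thompson_pow
    have : Finite ↥(normalizerIn S (Cfsg.thompsonSubgroupAOf S)) :=
      finite_of_le (normalizerIn_le _ _)
    rintro z ⟨hzcl, hzN⟩
    -- `z` is a `p`-th power of an element of `Z(S)`
    have hpow : ∃ y ∈ (S ⊓ Subgroup.centralizer (S : Set Ω) : Subgroup Ω), z = y ^ p := by
      refine Subgroup.closure_induction (p := fun x _ =>
        ∃ y ∈ (S ⊓ Subgroup.centralizer (S : Set Ω) : Subgroup Ω), x = y ^ p) ?_ ?_ ?_ ?_ hzcl
      · rintro x ⟨y, hy, rfl⟩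
        exact ⟨y, hy, rfl⟩
      · exact ⟨1, Subgroup.one_mem _, (one_pow p).symm⟩
      · rintro a b _ _ ⟨y₁, hy₁, rfl⟩ ⟨y₂, hy₂, rfl⟩
        refine ⟨y₁ * y₂, Subgroup.mul_mem _ hy₁ hy₂, ?_⟩
        have hc : Commute y₁ y₂ := ((Subgroup.mem_centralizer_iff.mp hy₂.2) y₁ hy₁.1)
        exact (hc.mul_pow p).symm
      · rintro a _ ⟨y, hy, rfl⟩
        exact ⟨y⁻¹, Subgroup.inv_mem _ hy, (inv_pow y p).symm⟩
    obtain ⟨y, hy, rfl⟩ := hpow
    have hyS : y ∈ S := hy.1
    have hyc : ∀ s ∈ S, s * y = y * s := fun s hs => (Subgroup.mem_centralizer_iff.mp hy.2) s hs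
    have hfixN : Fixes N (y ^ p) := fixes_of_mem_center N hzN
    have hfix : FixOn F ((thompsonFun p).W S) (y ^ p) :=
      FixOn.of_fixes_normalizerSystem F N hN hfixN
    have hall := main (thompsonFun p) hL (Nat.card S + 1) S (Nat.lt_succ_self _) hS F hF y hyS hyc
      hfix
    exact mem_center_of_forall_centralizerHom F (S.pow_mem hyS p) hall
  · intro h
    by_cases hp : p = 2
    · rcases h with h | hfree
      · exact absurd hp h
      · subst hp
        exact Cfsg.Agent.Lib.helper17.CWR.center_eq_of_localHyp (thompsonFun 2)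
          (Equiv.Perm (Fin 4)) localHypX_thompson_two hS F hF hfree N hN
    · exact center_eq_of_localHyp (thompsonFun p) (localHyp_thompson_odd hp) hS F hF N hN

end Cfsg.Agent.S5193
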