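import Cfsg.Statements.S2799
import Cfsg.Agent.S5193
import Cfsg.Agent.S5076
import Cfsg.Agent.Lib.helper17.QF6
-- import your own Cfsg.Agent.* helpers here

set_option autoImplicit false
open Cfsg

namespace Cfsg.Agent.S2799

open Cfsg.FusionSystem Cfsg.Agent.Lib.Helper26 Cfsg.Agent.Lib.Helper27 Cfsg.Agent.Lib.helper17.CW
  Cfsg.Agent.Lib.helper17.GB Cfsg.Agent.Lib.Helper1.GNPC2

/-- Let S be a Sylow p-subgroup of the finite group G, J(S) the subgroup generated by the abelian subgroups of S of largest order, and x an element of S lying in the centre of N_G(J(S)). Assume that p is odd, or that x is a p-th power of an element of Z(S), or that the symmetric group of degree 4 is not involved in G. Then x is weakly closed in S with respect to G: every G-conjugate of x that lies in S equals x. -/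
theorem result {G : Type*} [Group G] [Finite G] {p : ℕ} [Fact p.Prime] (S : Sylow p G) (x : G) (hxS : x ∈ (S : Subgroup G)) (hxZ : x ∈ (Subgroup.center ↥(Subgroup.normalizer ((Cfsg.thompsonSubgroupAOf (S : Subgroup G)) : Set G))).map (Subgroup.normalizer ((Cfsg.thompsonSubgroupAOf (S : Subgroup G)) : Set G)).subtype) (h : p ≠ 2 ∨ (∃ z ∈ (S : Subgroup G) ⊓ Subgroup.centralizer ((S : Subgroup G) : Set G), z ^ p = x) ∨ ¬ Cfsg.Involves (Equiv.Perm (Fin 4)) G) : ∀ g : G, g * x * g⁻¹ ∈ (S : Subgroup G) → g * x * g⁻¹ = x := by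
  have hJS : Cfsg.thompsonSubgroupAOf (S : Subgroup G) ≤ (S : Subgroup G) := tja_le _
  have hF : (groupFusionSystem (S : Subgroup G)).IsSaturated p := Cfsg.Agent.S5076.result p S
  have hN := normalizerSystem_isNormalizerSystem (groupFusionSystem (S : Subgroup G))
    (Cfsg.thompsonSubgroupAOf (S : Subgroup G)) hJS
  have hJfin : Finite ↥(Cfsg.thompsonSubgroupAOf (S : Subgroup G)) := inferInstance
  -- `x` is central in `N_G(J)`
  obtain ⟨x', hx'c, hx'⟩ := hxZ
  have hxN : x ∈ Subgroup.normalizer ((Cfsg.thompsonSubgroupAOf (S : Subgroup G)) : Set G) := by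
    rw [← hx']
    exact x'.2
  have hxcomm : ∀ g ∈ Subgroup.normalizer ((Cfsg.thompsonSubgroupAOf (S : Subgroup G)) : Set G),
      g * x * g⁻¹ = x := by
    intro g hg
    have h1 := Subgroup.mem_center_iff.mp hx'c ⟨g, hg⟩
    have h2 : g * x = x * g := by
      have := congrArg Subtype.val h1
      rw [← hx']
      exact this
    rw [h2, mul_inv_cancel_right]
  have hzcomm : ∀ g ∈ Subgroup.normalizer ((Cfsg.thompsonSubgroupAOf (S : Subgroup G)) : Set G),
      ∀ z ∈ Subgroup.zpowers x, g * z * g⁻¹ = z := by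
    intro g hg z hz
    obtain ⟨k, rfl⟩ := Subgroup.mem_zpowers_iff.mp hz
    rw [← conj_zpow, hxcomm g hg]
  have hzS : Subgroup.zpowers x ≤ (S : Subgroup G) := by
    rw [Subgroup.zpowers_le]
    exact hxS
  have hzT : Subgroup.zpowers x ≤
      normalizerIn (S : Subgroup G) (Cfsg.thompsonSubgroupAOf (S : Subgroup G)) := by
    rw [Subgroup.zpowers_le]
    exact ⟨hxS, hxN⟩
  -- `⟨x⟩` is central in the normalizer system
  have hcen : (normalizerSystem (groupFusionSystem (S : Subgroup G))
      (Cfsg.thompsonSubgroupAOf (S : Subgroup G)) hJS).IsCentral (Subgroup.zpowers x) := by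
    refine ⟨hzT, fun P φ hφ => ?_⟩
    rw [hN P] at hφ
    obtain ⟨hφF, hPT, hφT, ψ₀, hψ₀, hext₀, hmap₀⟩ := hφ
    obtain ⟨hPJS, hψ₀S, g, hg⟩ := hψ₀
    have hgJ : g ∈ Subgroup.normalizer ((Cfsg.thompsonSubgroupAOf (S : Subgroup G)) : Set G) := by
      apply mem_normalizer_of_forall_conj_mem
      intro j hj
      have h1 : ψ₀ ⟨j, (le_sup_right : _ ≤ P ⊔ Cfsg.thompsonSubgroupAOf (S : Subgroup G)) hj⟩ ∈
          Cfsg.thompsonSubgroupAOf (S : Subgroup G) :=
        hmap₀.le ⟨_, Subgroup.mem_subgroupOf.mpr hj, rfl⟩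
      rw [hg] at h1
      exact h1
    have hPS : P ≤ (S : Subgroup G) := le_sup_left.trans hPJS
    have hφg : ∀ y : P, φ y = g * (y : G) * g⁻¹ := by
      intro y
      rw [← hext₀ y, hg]
      rfl
    have hle1 : P ⊔ Subgroup.zpowers x ≤ (S : Subgroup G) := sup_le hPS hzS
    have hmaps : ∀ y ∈ P ⊔ Subgroup.zpowers x, g * y * g⁻¹ ∈
        normalizerIn (S : Subgroup G) (Cfsg.thompsonSubgroupAOf (S : Subgroup G)) := by
      intro y hy
      have hle : P ⊔ Subgroup.zpowers x ≤
          (normalizerIn (S : Subgroup G) (Cfsg.thompsonSubgroupAOf (S : Subgroup G))).comap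
            (MulAut.conj g).toMonoidHom := by
        refine sup_le ?_ ?_
        · intro y hy
          rw [Subgroup.mem_comap]
          have := hφT ⟨y, hy⟩
          rw [hφg] at this
          exact this
        · intro z hz
          rw [Subgroup.mem_comap]
          show g * z * g⁻¹ ∈ _
          rw [hzcomm g hgJ z hz]
          exact hzT hz
      exact hle hy
    have hmapsJ : ∀ y ∈ (P ⊔ Subgroup.zpowers x) ⊔ Cfsg.thompsonSubgroupAOf (S : Subgroup G),
        g * y * g⁻¹ ∈ (S : Subgroup G) := by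
      intro y hy
      have hle : (P ⊔ Subgroup.zpowers x) ⊔ Cfsg.thompsonSubgroupAOf (S : Subgroup G) ≤
          (S : Subgroup G).comap (MulAut.conj g).toMonoidHom := by
        refine sup_le ?_ ?_
        · intro y hy
          rw [Subgroup.mem_comap]
          exact (hmaps y hy).1
        · intro j hj
          rw [Subgroup.mem_comap]
          show g * j * g⁻¹ ∈ _
          exact hJS ((Subgroup.mem_normalizer_iff.mp hgJ j).mp hj)
      exact hle hy
    refine ⟨conjHom (P ⊔ Subgroup.zpowers x) g, ?_, fun y => ?_, fun z => ?_⟩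
    · rw [hN _]
      refine ⟨⟨hle1, fun y => (hmaps y y.2).1, g, fun _ => rfl⟩, sup_le hPT hzT,
        fun y => hmaps y y.2,
        conjHom ((P ⊔ Subgroup.zpowers x) ⊔ Cfsg.thompsonSubgroupAOf (S : Subgroup G)) g,
        ⟨sup_le hle1 hJS, fun y => hmapsJ y y.2, g, fun _ => rfl⟩, fun _ => rfl, ?_⟩
      ext j
      constructor
      · rintro ⟨y, hy, rfl⟩
        show g * (y : G) * g⁻¹ ∈ _
        exact (Subgroup.mem_normalizer_iff.mp hgJ _).mp (Subgroup.mem_subgroupOf.mp hy)
      · intro hj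
        have hj' : g⁻¹ * j * g ∈ Cfsg.thompsonSubgroupAOf (S : Subgroup G) := by
          have := (Subgroup.mem_normalizer_iff.mp (Subgroup.inv_mem _ hgJ) j).mp hj
          rwa [inv_inv] at this
        refine ⟨⟨g⁻¹ * j * g, (le_sup_right : Cfsg.thompsonSubgroupAOf (S : Subgroup G) ≤ _) hj'⟩,
          Subgroup.mem_subgroupOf.mpr hj', ?_⟩
        show g * (g⁻¹ * j * g) * g⁻¹ = j
        group
    · show g * (y : G) * g⁻¹ = φ y
      rw [hφg]
    · show g * (z : G) * g⁻¹ = z
      exact hzcomm g hgJ z z.2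
  have hxNc : x ∈ (normalizerSystem (groupFusionSystem (S : Subgroup G))
      (Cfsg.thompsonSubgroupAOf (S : Subgroup G)) hJS).center :=
    (le_sSup hcen : Subgroup.zpowers x ≤ _) (Subgroup.mem_zpowers x)
  -- `x` lies in the centre of the fusion system of `G`
  have hxF : x ∈ (groupFusionSystem (S : Subgroup G)).center := by
    obtain ⟨h1, h2⟩ := Cfsg.Agent.S5193.result p S.2 (groupFusionSystem (S : Subgroup G)) hF _ hN
    rcases h with hp | ⟨z, hz, rfl⟩ | hfree
    · rw [← h2 (Or.inl hp)]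
      exact hxNc
    · exact h1 ⟨Subgroup.subset_closure ⟨z, hz, rfl⟩, hxNc⟩
    · rw [← h2 (Or.inr (Cfsg.Agent.Lib.helper17.QF6.sectionFree_of_not_involves S _ hfree))]
      exact hxNc
  -- weak closure
  intro g hg
  have hfix := fixes_of_mem_center (groupFusionSystem (S : Subgroup G)) hxF
  have hφ : conjHom (Subgroup.zpowers x) g ∈
      (groupFusionSystem (S : Subgroup G)).Hom (Subgroup.zpowers x) := by
    refine ⟨hzS, fun y => ?_, g, fun _ => rfl⟩
    obtain ⟨k, hk⟩ := Subgroup.mem_zpowers_iff.mp y.2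
    show g * (y : G) * g⁻¹ ∈ _
    rw [← hk, ← conj_zpow]
    exact Subgroup.zpow_mem _ hg k
  exact hfix _ _ hφ (Subgroup.mem_zpowers x)

end Cfsg.Agent.S2799
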