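import Mathlib
import Cfsg.Statements.S2801
import Cfsg.Agent.Lib.helper17.PIrr
import Cfsg.Agent.Lib.helper17.Cores

set_option autoImplicit false
open Cfsg

namespace Cfsg.Agent.S2801

open Cfsg.Agent.Lib.helper17

variable {L : Type*} [Group L]

/-- If `O_p(L/N) = 1`, `D` is normal and every element of `D` has a `p`-power in `N`, then `D ≤ N`. -/
theorem le_of_pCore_quotient_eq_bot {p : ℕ} {N : Subgroup L} [N.Normal]
    (h : Cfsg.pCore p (L ⧸ N) = ⊥) {D : Subgroup L} (hD : D.Normal)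
    (hp : ∀ d ∈ D, ∃ k : ℕ, d ^ (p ^ k) ∈ N) : D ≤ N := by
  have hn : (D.map (QuotientGroup.mk' N)).Normal :=
    Subgroup.Normal.map hD _ (QuotientGroup.mk'_surjective N)
  have hpg : IsPGroup p (D.map (QuotientGroup.mk' N)) := by
    rintro ⟨_, d, hd, rfl⟩
    obtain ⟨k, hk⟩ := hp d hd
    refine ⟨k, ?_⟩
    apply Subtype.ext
    rw [Subgroup.coe_pow, Subgroup.coe_one]
    show (QuotientGroup.mk' N d) ^ (p ^ k) = 1
    rw [← map_pow]
    exact (QuotientGroup.eq_one_iff _).mpr hk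
  have h1 := le_pCore hn hpg
  rw [h] at h1
  intro d hd
  have h2 : QuotientGroup.mk' N d ∈ (⊥ : Subgroup (L ⧸ N)) := h1 ⟨d, hd, rfl⟩
  rw [Subgroup.mem_bot] at h2
  exact (QuotientGroup.eq_one_iff d).mp h2

theorem result {L : Type*} [Group L] [Finite L] {p : ℕ} [Fact p.Prime] (hchar : Subgroup.centralizer (Cfsg.pCore p L : Set L) ≤ Cfsg.pCore p L) : ∃ Y : Subgroup L, (Cfsg.IsPReducedNormal p Y ∧ ∀ V : Subgroup L, Cfsg.IsPReducedNormal p V → V ≤ Y) := by
  refine ⟨sSup {V : Subgroup L | Cfsg.IsPReducedNormal p V}, ?_, fun V hV => le_sSup hV⟩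
  have hYn : (sSup {V : Subgroup L | Cfsg.IsPReducedNormal p V}).Normal :=
    sSup_normal_of_forall (fun V hV => hV.1)
  -- every member lies in `O_p(L)` and is centralised by it
  have h1 : ∀ V : Subgroup L, Cfsg.IsPReducedNormal p V → V ≤ Cfsg.pCore p L ∧
      V ≤ Subgroup.centralizer (Cfsg.pCore p L : Set L) := by
    rintro V ⟨hVn, hVel, hCn, hV⟩
    have hVp : IsPGroup p V := by
      rintro ⟨y, hy⟩
      refine ⟨1, ?_⟩
      apply Subtype.ext
      rw [pow_one]
      exact hVel.2 y hy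
    refine ⟨le_pCore hVn hVp, ?_⟩
    rw [← Subgroup.le_centralizer_iff]
    apply le_of_pCore_quotient_eq_bot hV (pCore_normal p L)
    intro d hd
    obtain ⟨k, hk⟩ := (pCore_isPGroup p L) ⟨d, hd⟩
    refine ⟨k, ?_⟩
    have : d ^ (p ^ k) = 1 := by
      have := congrArg Subtype.val hk
      simpa using this
    rw [this]
    exact Subgroup.one_mem _
  have hYle : sSup {V : Subgroup L | Cfsg.IsPReducedNormal p V} ≤
      Cfsg.pCore p L ⊓ Subgroup.centralizer (Cfsg.pCore p L : Set L) :=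
    sSup_le (fun V hV => le_inf (h1 V hV).1 (h1 V hV).2)
  have hcomm : ∀ a ∈ sSup {V : Subgroup L | Cfsg.IsPReducedNormal p V},
      ∀ b ∈ sSup {V : Subgroup L | Cfsg.IsPReducedNormal p V}, a * b = b * a := by
    intro a ha b hb
    have h2 := (hYle ha).2
    have h3 := (hYle hb).1
    exact (Subgroup.mem_centralizer_iff.mp h2 b h3).symm
  have hpow : ∀ a ∈ sSup {V : Subgroup L | Cfsg.IsPReducedNormal p V}, a ^ p = 1 := by
    intro a ha
    have key : a ∈ sSup {V : Subgroup L | Cfsg.IsPReducedNormal p V} ∧ a ^ p = 1 := by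
      have ha' := ha
      rw [sSup_eq_iSup'] at ha'
      refine Subgroup.iSup_induction _ (C := fun x => x ∈ sSup {V : Subgroup L | Cfsg.IsPReducedNormal p V} ∧ x ^ p = 1) ha' ?_ ?_ ?_
      · rintro ⟨V, hV⟩ x hx
        exact ⟨le_sSup hV hx, hV.2.1.2 x hx⟩
      · exact ⟨Subgroup.one_mem _, one_pow p⟩
      · rintro x y ⟨hx, hxp⟩ ⟨hy, hyp⟩
        refine ⟨Subgroup.mul_mem _ hx hy, ?_⟩
        have hc : Commute x y := hcomm x hx y hy
        rw [hc.mul_pow, hxp, hyp, one_mul]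
    exact key.2
  have hYel : Cfsg.IsElementaryAbelian p (sSup {V : Subgroup L | Cfsg.IsPReducedNormal p V}) := by
    refine ⟨?_, hpow⟩
    rw [isMulCommutative_iff]
    rintro ⟨a, ha⟩ ⟨b, hb⟩
    exact Subtype.ext (hcomm a ha b hb)
  have hCn : (Subgroup.centralizer ((sSup {V : Subgroup L | Cfsg.IsPReducedNormal p V} : Subgroup L) : Set L)).Normal :=
    Subgroup.normal_centralizer
  refine ⟨hYn, hYel, hCn, ?_⟩
  rw [eq_bot_iff]
  intro x hx
  obtain ⟨d, rfl⟩ := QuotientGroup.mk'_surjective _ x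
  rw [Subgroup.mem_bot]
  rw [QuotientGroup.mk'_apply, QuotientGroup.eq_one_iff]
  -- D := preimage of O_p(L/C(Y))
  have hDn : ((Cfsg.pCore p (L ⧸ Subgroup.centralizer ((sSup {V : Subgroup L | Cfsg.IsPReducedNormal p V} : Subgroup L) : Set L))).comap
      (QuotientGroup.mk' _)).Normal := by
    have := pCore_normal p (L ⧸ Subgroup.centralizer ((sSup {V : Subgroup L | Cfsg.IsPReducedNormal p V} : Subgroup L) : Set L))
    infer_instance
  have hDle : (Cfsg.pCore p (L ⧸ Subgroup.centralizer ((sSup {V : Subgroup L | Cfsg.IsPReducedNormal p V} : Subgroup L) : Set L))).comap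
      (QuotientGroup.mk' _) ≤ Subgroup.centralizer ((sSup {V : Subgroup L | Cfsg.IsPReducedNormal p V} : Subgroup L) : Set L) := by
    rw [Subgroup.le_centralizer_iff]
    apply sSup_le
    rintro V hV
    rw [← Subgroup.le_centralizer_iff]
    obtain ⟨hVn, hVel, hVCn, hVb⟩ := hV
    apply le_of_pCore_quotient_eq_bot hVb hDn
    intro e he
    rw [Subgroup.mem_comap] at he
    obtain ⟨k, hk⟩ := (pCore_isPGroup p _) ⟨_, he⟩
    refine ⟨k, ?_⟩
    have h2 : (QuotientGroup.mk' (Subgroup.centralizer ((sSup {V : Subgroup L | Cfsg.IsPReducedNormal p V} : Subgroup L) : Set L)) e) ^ (p ^ k) = 1 := by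
      have := congrArg Subtype.val hk
      simpa using this
    rw [← map_pow, QuotientGroup.mk'_apply, QuotientGroup.eq_one_iff] at h2
    have hle : Subgroup.centralizer ((sSup {V : Subgroup L | Cfsg.IsPReducedNormal p V} : Subgroup L) : Set L) ≤
        Subgroup.centralizer (V : Set L) :=
      Subgroup.centralizer_le (SetLike.coe_subset_coe.mpr (le_sSup ⟨hVn, hVel, hVCn, hVb⟩))
    exact hle h2
  exact hDle hx

end Cfsg.Agent.S2801
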