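import Mathlib
import Cfsg.Statements.S2802
import Cfsg.Agent.Lib.helper17.PRed3

set_option autoImplicit false
open Cfsg

namespace Cfsg.Agent.S2802

open Cfsg.Agent.Lib.helper17

theorem result {L : Type*} [Group L] [Finite L] {p : ℕ} [Fact p.Prime] (hchar : Subgroup.centralizer (Cfsg.pCore p L : Set L) ≤ Cfsg.pCore p L) (T : Sylow p L) (R : Subgroup L) (hTR : (T : Subgroup L) ≤ R) (X : Subgroup ↥R) (hX : Cfsg.IsPReducedNormal p X) : Cfsg.IsPReducedNormal p (Subgroup.normalClosure ((X.map R.subtype : Subgroup L) : Set L)) := by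
  have hX' : PRedIn p R (X.map R.subtype) := (isPReducedNormal_iff_pRedIn_map R X).mp hX
  have hL : CharPSub p (⊤ : Subgroup L) := (charPSub_top_iff p).mp hchar
  rw [isPReducedNormal_iff_pRedIn_top, ← conjClosure_top]
  have hOT : Cfsg.pCoreOf p (⊤ : Subgroup L) ≤ (T : Subgroup L) := pCoreOf_le_sylow T le_top
  have hOR : Cfsg.pCoreOf p (⊤ : Subgroup L) ≤ Cfsg.pCoreOf p R := by
    apply le_pCoreOf (hOT.trans hTR) (pCoreOf_isPGroup p ⊤)
    exact le_top.trans (le_normalizer_pCoreOf p ⊤)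
  have hXc : X.map R.subtype ≤ Subgroup.centralizer ((Cfsg.pCoreOf p (⊤ : Subgroup L) : Subgroup L) : Set L) :=
    hX'.le_centralizer_pCoreOf.trans (Subgroup.centralizer_le (SetLike.coe_subset_coe.mpr hOR))
  apply pRedIn_conjClosure T le_top le_top
    (conjClosure_isElementaryAbelian hL le_top hXc hX'.2.2.1.2)
  intro D _ hD hp
  have h1 : D ⊓ R ≤ Subgroup.centralizer ((X.map R.subtype : Subgroup L) : Set L) := by
    apply hX'.2.2.2 (D ⊓ R) inf_le_right
    · exact le_normalizer_inf' (le_top.trans hD) Subgroup.le_normalizer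
    · exact hp.mono inf_le_left
        (Subgroup.centralizer_le (SetLike.coe_subset_coe.mpr (le_conjClosure ⊤ _)))
  exact (inf_le_inf_left D hTR).trans h1

end Cfsg.Agent.S2802
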