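import Mathlib
import Cfsg.Statements.S2803
import Cfsg.Agent.Lib.helper17.PRed3

set_option autoImplicit false
open Cfsg

namespace Cfsg.Agent.S2803

open Cfsg.Agent.Lib.helper17

/-- modulo a normal subgroup `C`, powers of `q * c` (`c ∈ C`) agree with powers of `q` -/
theorem pow_mul_mem_iff {G : Type*} [Group G] {C : Subgroup G} [C.Normal] {q c : G} (hc : c ∈ C) (n : ℕ) :
    (q * c) ^ n ∈ C ↔ q ^ n ∈ C := by
  rw [← QuotientGroup.eq_one_iff, ← QuotientGroup.eq_one_iff, QuotientGroup.mk_pow, QuotientGroup.mk_pow,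
    QuotientGroup.mk_mul, (QuotientGroup.eq_one_iff c).mpr hc, mul_one]

theorem result {L : Type*} [Group L] [Finite L] {p : ℕ} [Fact p.Prime] (hchar : Subgroup.centralizer (Cfsg.pCore p L : Set L) ≤ Cfsg.pCore p L) (T : Sylow p L) (Y : Subgroup L) (hY : (Cfsg.IsPReducedNormal p Y ∧ ∀ V : Subgroup L, Cfsg.IsPReducedNormal p V → V ≤ Y)) (TL : Subgroup L) (hTL : TL = (T : Subgroup L) ⊓ Subgroup.centralizer (Y : Set L)) : (∀ g : L, ∃ a ∈ Subgroup.normalizer (TL : Set L), ∃ c ∈ Subgroup.centralizer (Y : Set L), g = a * c) ∧ (Cfsg.pCore p ↥(Subgroup.normalizer (TL : Set L))).map (Subgroup.normalizer (TL : Set L)).subtype = TL ∧ Y = Cfsg.omegaOne p (TL ⊓ Subgroup.centralizer (TL : Set L)) := by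
  obtain ⟨hYred, hYmax⟩ := hY
  have hYr : PRed p Y := (isPReducedNormal_iff_pRed Y).mp hYred
  have hYn : Y.Normal := hYr.1
  have hCn : (Subgroup.centralizer (Y : Set L)).Normal := Subgroup.normal_centralizer
  have hL : CharPSub p (⊤ : Subgroup L) := (charPSub_top_iff p).mp hchar
  have hYab := (isElementaryAbelian_iff.mp hYr.2.1)
  have hNC : ∀ K : Subgroup L, K ≤ Subgroup.normalizer ((Subgroup.centralizer (Y : Set L) : Subgroup L) : Set L) := by
    intro K
    rw [Subgroup.normalizer_eq_top_iff.mpr hCn]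
    exact le_top
  -- Frattini
  have hfr : Subgroup.normalizer (TL : Set L) ⊔ Subgroup.centralizer (Y : Set L) = ⊤ := by
    have h3 := Sylow.normalizer_sup_eq_top (sylowInfNormal T (Subgroup.centralizer (Y : Set L)))
    rw [sylowInfNormal_map, ← hTL] at h3
    exact h3
  have h1 : ∀ g : L, ∃ a ∈ Subgroup.normalizer (TL : Set L), ∃ c ∈ Subgroup.centralizer (Y : Set L), g = a * c := by
    intro g
    have hg : g ∈ Subgroup.normalizer (TL : Set L) ⊔ Subgroup.centralizer (Y : Set L) := by
      rw [hfr]; exact Subgroup.mem_top g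
    exact exists_mul_of_mem_sup_left (hNC _) hg
  have hTLle : TL ≤ (T : Subgroup L) ⊓ Subgroup.centralizer (Y : Set L) := hTL.le
  have hTLge : (T : Subgroup L) ⊓ Subgroup.centralizer (Y : Set L) ≤ TL := hTL.ge
  have hTLp : IsPGroup p TL := T.isPGroup'.to_le (hTLle.trans inf_le_left)
  have hTN : (T : Subgroup L) ≤ Subgroup.normalizer (TL : Set L) := by
    rw [hTL]
    exact le_normalizer_inf' Subgroup.le_normalizer (hNC _)
  have hOT : Cfsg.pCoreOf p (⊤ : Subgroup L) ≤ (T : Subgroup L) := pCoreOf_le_sylow T le_top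
  have hYtop : PRedIn p ⊤ Y := (pRed_iff_pRedIn_top Y).mp hYr
  have hOTL : Cfsg.pCoreOf p (⊤ : Subgroup L) ≤ TL :=
    le_trans (le_inf hOT hYtop.pCoreOf_le_centralizer) hTLge
  have h2 : Cfsg.pCoreOf p (Subgroup.normalizer (TL : Set L)) = TL := by
    apply le_antisymm
    · refine le_trans (le_inf (pCoreOf_le_sylow T hTN) ?_) hTLge
      -- Q ≤ C(Y)
      have hDn : (Cfsg.pCoreOf p (Subgroup.normalizer (TL : Set L)) ⊔ Subgroup.centralizer (Y : Set L)).Normal := by
        rw [← Subgroup.normalizer_eq_top_iff, ← top_le_iff, ← hfr]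
        apply sup_le
        · exact le_normalizer_sup (le_normalizer_pCoreOf p _) (hNC _)
        · exact le_sup_right.trans Subgroup.le_normalizer
      have hD := hYr.2.2 _ hDn (by
        intro d hd
        obtain ⟨q, hq, c, hc, rfl⟩ := exists_mul_of_mem_sup_left (hNC _) hd
        obtain ⟨k, hk⟩ := isPElt_of_mem (pCoreOf_isPGroup p _) hq
        refine ⟨k, ?_⟩
        rw [pow_mul_mem_iff hc, hk]
        exact Subgroup.one_mem _)
      exact le_sup_left.trans hD
    · exact le_pCoreOf Subgroup.le_normalizer hTLp le_rfl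
  refine ⟨h1, h2, ?_⟩
  have hTLcY : TL ≤ Subgroup.centralizer (Y : Set L) := hTLle.trans inf_le_right
  have hYTL : Y ≤ TL := by
    intro y hy
    apply hTLge
    refine Subgroup.mem_inf.mpr ⟨hOT (hYtop.le_pCoreOf hy), ?_⟩
    rw [Subgroup.mem_centralizer_iff]
    intro z hz
    exact hYab.1 z hz y hy
  apply le_antisymm
  · intro y hy
    apply mem_omegaOne _ (hYab.2 y hy)
    refine Subgroup.mem_inf.mpr ⟨hYTL hy, ?_⟩
    rw [Subgroup.mem_centralizer_iff]
    intro t ht
    exact ((Subgroup.mem_centralizer_iff.mp (hTLcY ht)) y hy).symm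
  · -- the closure of Ω₁Z(TL) is p-reduced
    have hXle : Cfsg.omegaOne p (TL ⊓ Subgroup.centralizer (TL : Set L)) ≤ Subgroup.centralizer (TL : Set L) :=
      (omegaOne_le _).trans inf_le_right
    have hXc : Cfsg.omegaOne p (TL ⊓ Subgroup.centralizer (TL : Set L)) ≤
        Subgroup.centralizer ((Cfsg.pCoreOf p (⊤ : Subgroup L) : Subgroup L) : Set L) :=
      hXle.trans (Subgroup.centralizer_le (SetLike.coe_subset_coe.mpr hOTL))
    have hXel := omegaOne_center_isElementaryAbelian p TL
    have hYX : Y ≤ Cfsg.omegaOne p (TL ⊓ Subgroup.centralizer (TL : Set L)) := by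
      intro y hy
      apply mem_omegaOne _ (hYab.2 y hy)
      refine Subgroup.mem_inf.mpr ⟨hYTL hy, ?_⟩
      rw [Subgroup.mem_centralizer_iff]
      intro t ht
      exact ((Subgroup.mem_centralizer_iff.mp (hTLcY ht)) y hy).symm
    have hW : PRedIn p ⊤ (conjClosure ⊤ (Cfsg.omegaOne p (TL ⊓ Subgroup.centralizer (TL : Set L)))) := by
      apply pRedIn_conjClosure T le_top le_top
        (conjClosure_isElementaryAbelian hL le_top hXc hXel.2)
      intro D _ hD hp
      have hDn : D.Normal := Subgroup.normalizer_eq_top_iff.mp (top_le_iff.mp hD)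
      have hDC : D ≤ Subgroup.centralizer (Y : Set L) := by
        apply hYr.2.2 D hDn
        exact hp.mono le_rfl (Subgroup.centralizer_le (SetLike.coe_subset_coe.mpr
          (hYX.trans (le_conjClosure ⊤ _))))
      have h3 : D ⊓ (T : Subgroup L) ≤ TL :=
        le_trans (le_inf inf_le_right (inf_le_left.trans hDC)) hTLge
      refine h3.trans ?_
      rw [Subgroup.le_centralizer_iff]
      exact hXle
    have := hYmax _ ((isPReducedNormal_iff_pRedIn_top _).mpr hW)
    exact (le_conjClosure ⊤ _).trans this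

end Cfsg.Agent.S2803
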