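import Cfsg.Statements.S2805
import Cfsg.Agent.Lib.helper17.PRed3
import Cfsg.Agent.Lib.helper17.CharP4
import Cfsg.Agent.S2923
import Cfsg.Agent.Lib.Helper10.SylowSubnormal
import Cfsg.Agent.Lib.Helper1.Nilp
import Cfsg.Agent.Lib.Helper1.Cores

set_option autoImplicit false
open Cfsg

namespace Cfsg.Agent.S2805

section Trace

open scoped IsMulCommutative

variable {G : Type*} [Group G]

/-- conjugation by an element normalizing `W`, as an endomorphism of `↥W` -/
def cjW (W : Subgroup G) (t : G) (ht : ∀ w ∈ W, t * w * t⁻¹ ∈ W) : ↥W →* ↥W where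
  toFun w := ⟨t * w * t⁻¹, ht w w.2⟩
  map_one' := by ext; simp
  map_mul' a b := by ext; simp [mul_assoc]

/-- the function on `D ⧸ P` whose product is the trace -/
def trFun (D P W : Subgroup G) (hDW : ∀ d ∈ D, ∀ w ∈ W, d * w * d⁻¹ ∈ W) (m : G) (hmW : m ∈ W)
    (hm : ∀ x ∈ P, x * m = m * x) : ↥D ⧸ P.subgroupOf D → ↥W :=
  Quotient.lift (fun d : ↥D => (⟨(d : G) * m * (d : G)⁻¹, hDW d d.2 m hmW⟩ : ↥W)) (by
    intro a b hab
    have h1 : a⁻¹ * b ∈ P.subgroupOf D := QuotientGroup.leftRel_apply.mp hab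
    rw [Subgroup.mem_subgroupOf] at h1
    have h2 := hm _ h1
    apply Subtype.ext
    simp only [Subgroup.coe_mul, Subgroup.coe_inv] at h2 ⊢
    have : (b : G) = a * ((a : G)⁻¹ * b) := by group
    rw [this]
    set x := (a : G)⁻¹ * b with hx
    calc (a : G) * m * (a : G)⁻¹ = a * (x * m * x⁻¹) * (a : G)⁻¹ := by rw [h2]; group
      _ = (a * x) * m * (a * x)⁻¹ := by group)

theorem trFun_mk (D P W : Subgroup G) (hDW : ∀ d ∈ D, ∀ w ∈ W, d * w * d⁻¹ ∈ W) (m : G) (hmW : m ∈ W)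
    (hm : ∀ x ∈ P, x * m = m * x) (d : ↥D) :
    trFun D P W hDW m hmW hm (QuotientGroup.mk d) = ⟨(d : G) * m * (d : G)⁻¹, hDW d d.2 m hmW⟩ := rfl

/-- The trace (norm) map from `C_W(P)` to `C_W(D)` for an abelian subgroup `W` normalized by `D ≥ P`. -/
theorem exists_trace (D P W : Subgroup G) [IsMulCommutative ↥W] [Finite (↥D ⧸ P.subgroupOf D)]
    (hDW : ∀ d ∈ D, ∀ w ∈ W, d * w * d⁻¹ ∈ W) :
    ∃ τ : G → G,
      (∀ m ∈ W, (∀ x ∈ P, x * m = m * x) → τ m ∈ W) ∧
      (∀ m ∈ W, (∀ x ∈ P, x * m = m * x) → ∀ d ∈ D, d * τ m * d⁻¹ = τ m) ∧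
      (∀ m ∈ W, (∀ x ∈ P, x * m = m * x) → (∀ d ∈ D, d * m = m * d) → τ m = m ^ (P.relIndex D)) ∧
      (∀ m ∈ W, (∀ x ∈ P, x * m = m * x) → ∀ m' ∈ W, (∀ x ∈ P, x * m' = m' * x) →
        τ (m * m') = τ m * τ m') ∧
      (∀ t : G, t ∈ Subgroup.normalizer (D : Set G) → t ∈ Subgroup.normalizer (P : Set G) →
        t ∈ Subgroup.normalizer (W : Set G) →
        ∀ m ∈ W, (∀ x ∈ P, x * m = m * x) → τ (t * m * t⁻¹) = t * τ m * t⁻¹) ∧
      (∀ W' : Subgroup G, ∀ m ∈ W, (∀ x ∈ P, x * m = m * x) →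
        (∀ d ∈ D, d * m * d⁻¹ * m⁻¹ ∈ W') → τ m * (m ^ (P.relIndex D))⁻¹ ∈ W') := by
  classical
  let _inst : Fintype (↥D ⧸ P.subgroupOf D) := Fintype.ofFinite _
  let τ : G → G := fun m =>
    if h : m ∈ W ∧ ∀ x ∈ P, x * m = m * x then
      ((∏ q, trFun D P W hDW m h.1 h.2 q : ↥W) : G) else 1
  have hτ : ∀ m (hmW : m ∈ W) (hm : ∀ x ∈ P, x * m = m * x),
      τ m = ((∏ q, trFun D P W hDW m hmW hm q : ↥W) : G) := by
    intro m hmW hm
    simp only [τ]
    rw [dif_pos ⟨hmW, hm⟩]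
  have hcard : Fintype.card (↥D ⧸ P.subgroupOf D) = P.relIndex D := by
    rw [Subgroup.relIndex, Subgroup.index, Nat.card_eq_fintype_card]
  refine ⟨τ, ?_, ?_, ?_, ?_, ?_, ?_⟩
  · intro m hmW hm
    rw [hτ m hmW hm]
    exact Subtype.mem _
  · intro m hmW hm d hd
    rw [hτ m hmW hm]
    have h1 : cjW W d (hDW d hd) (∏ q, trFun D P W hDW m hmW hm q) =
        ∏ q, trFun D P W hDW m hmW hm q := by
      rw [map_prod]
      rw [← Equiv.prod_comp (MulAction.toPerm (⟨d, hd⟩ : ↥D)) (trFun D P W hDW m hmW hm)]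
      apply Finset.prod_congr rfl
      intro q _
      induction q using QuotientGroup.induction_on with
      | H c =>
        rw [trFun_mk]
        change _ = trFun D P W hDW m hmW hm (QuotientGroup.mk ((⟨d, hd⟩ : ↥D) * c))
        rw [trFun_mk]
        apply Subtype.ext
        simp only [cjW, MonoidHom.coe_mk, OneHom.coe_mk, Subgroup.coe_mul]
        group
    exact congrArg Subtype.val h1
  · intro m hmW hm hmD
    rw [hτ m hmW hm]
    have h1 : ∀ q, trFun D P W hDW m hmW hm q = ⟨m, hmW⟩ := by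
      intro q
      induction q using QuotientGroup.induction_on with
      | H c =>
        rw [trFun_mk]
        apply Subtype.ext
        change (c : G) * m * (c : G)⁻¹ = m
        rw [hmD c c.2, mul_inv_cancel_right]
    rw [Finset.prod_congr rfl (fun q _ => h1 q), Finset.prod_const, Finset.card_univ, hcard]
    rfl
  · intro m hmW hm m' hmW' hm'
    have hmm : ∀ x ∈ P, x * (m * m') = m * m' * x := by
      intro x hx
      rw [← mul_assoc, hm x hx, mul_assoc, hm' x hx, mul_assoc]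
    rw [hτ m hmW hm, hτ m' hmW' hm', hτ (m * m') (W.mul_mem hmW hmW') hmm, ← Subgroup.coe_mul,
      ← Finset.prod_mul_distrib]
    congr 1
    apply Finset.prod_congr rfl
    intro q _
    induction q using QuotientGroup.induction_on with
    | H c =>
      rw [trFun_mk, trFun_mk, trFun_mk]
      apply Subtype.ext
      simp only [Subgroup.coe_mul]
      group
  · intro t htD htP htW m hmW hm
    have htW' : ∀ w ∈ W, t * w * t⁻¹ ∈ W := fun w hw => (Subgroup.mem_normalizer_iff.mp htW w).mp hw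
    have hmW2 : t * m * t⁻¹ ∈ W := htW' m hmW
    have hm2 : ∀ x ∈ P, x * (t * m * t⁻¹) = t * m * t⁻¹ * x := by
      intro x hx
      have hx' : t⁻¹ * x * t ∈ P := by
        have := (Subgroup.mem_normalizer_iff.mp (Subgroup.inv_mem _ htP) x).mp hx
        simpa using this
      have := hm _ hx'
      calc x * (t * m * t⁻¹) = t * ((t⁻¹ * x * t) * m) * t⁻¹ := by group
        _ = t * (m * (t⁻¹ * x * t)) * t⁻¹ := by rw [this]
        _ = t * m * t⁻¹ * x := by group
    rw [hτ m hmW hm, hτ _ hmW2 hm2]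
    -- the permutation of cosets induced by conjugation with t
    have hconjD : ∀ s : G, s ∈ Subgroup.normalizer (D : Set G) → ∀ d : ↥D, s * d * s⁻¹ ∈ D :=
      fun s hs d => (Subgroup.mem_normalizer_iff.mp hs d).mp d.2
    have hcompat : ∀ s : G, ∀ hsD : s ∈ Subgroup.normalizer (D : Set G),
        s ∈ Subgroup.normalizer (P : Set G) → ∀ a b : ↥D,
        QuotientGroup.leftRel (P.subgroupOf D) a b →
        QuotientGroup.leftRel (P.subgroupOf D) (⟨s * a * s⁻¹, hconjD s hsD a⟩ : ↥D)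
          ⟨s * b * s⁻¹, hconjD s hsD b⟩ := by
      intro s hsD hsP a b hab
      rw [QuotientGroup.leftRel_apply] at hab ⊢
      rw [Subgroup.mem_subgroupOf] at hab ⊢
      have := (Subgroup.mem_normalizer_iff.mp hsP _).mp hab
      simp only [Subgroup.coe_mul, Subgroup.coe_inv] at this ⊢
      convert this using 1
      group
    let σ : ∀ s : G, s ∈ Subgroup.normalizer (D : Set G) → s ∈ Subgroup.normalizer (P : Set G) →
        (↥D ⧸ P.subgroupOf D) → (↥D ⧸ P.subgroupOf D) := fun s hsD hsP =>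
      Quotient.map' (fun d : ↥D => (⟨s * d * s⁻¹, hconjD s hsD d⟩ : ↥D)) (hcompat s hsD hsP)
    have hσ : ∀ s hsD hsP (c : ↥D), σ s hsD hsP (QuotientGroup.mk c) =
        QuotientGroup.mk (⟨s * c * s⁻¹, hconjD s hsD c⟩ : ↥D) := fun s hsD hsP c => rfl
    have hbij : Function.Bijective (σ t htD htP) := by
      have htD' := Subgroup.inv_mem _ htD
      have htP' := Subgroup.inv_mem _ htP
      have hσ1 : ∀ c : ↥D, σ t htD htP (QuotientGroup.mk c) =
          QuotientGroup.mk (⟨t * c * t⁻¹, hconjD t htD c⟩ : ↥D) := fun c => rfl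
      have hσ2 : ∀ c : ↥D, σ t⁻¹ htD' htP' (QuotientGroup.mk c) =
          QuotientGroup.mk (⟨t⁻¹ * c * t⁻¹⁻¹, hconjD t⁻¹ htD' c⟩ : ↥D) := fun c => rfl
      refine Function.bijective_iff_has_inverse.mpr ⟨σ t⁻¹ htD' htP', ?_, ?_⟩
      · intro q
        induction q using QuotientGroup.induction_on with
        | H c =>
          rw [hσ1, hσ2]
          refine congrArg _ (Subtype.ext ?_)
          change t⁻¹ * (t * (c : G) * t⁻¹) * t⁻¹⁻¹ = c
          group
      · intro q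
        induction q using QuotientGroup.induction_on with
        | H c =>
          rw [hσ2, hσ1]
          refine congrArg _ (Subtype.ext ?_)
          change t * (t⁻¹ * (c : G) * t⁻¹⁻¹) * t⁻¹ = c
          group
    have h1 : cjW W t htW' (∏ q, trFun D P W hDW m hmW hm q) =
        ∏ q, trFun D P W hDW (t * m * t⁻¹) hmW2 hm2 q := by
      rw [map_prod, ← Function.Bijective.prod_comp hbij (trFun D P W hDW (t * m * t⁻¹) hmW2 hm2)]
      apply Finset.prod_congr rfl
      intro q _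
      induction q using QuotientGroup.induction_on with
      | H c =>
        rw [hσ t htD htP c, trFun_mk, trFun_mk]
        apply Subtype.ext
        simp only [cjW, MonoidHom.coe_mk, OneHom.coe_mk]
        group
    exact (congrArg Subtype.val h1).symm
  · intro W' m hmW hm hcomm
    rw [hτ m hmW hm]
    have h1 : (∏ q, trFun D P W hDW m hmW hm q) * ((⟨m, hmW⟩ : ↥W) ^ (P.relIndex D))⁻¹ =
        ∏ q, (trFun D P W hDW m hmW hm q * (⟨m, hmW⟩ : ↥W)⁻¹) := by
      rw [Finset.prod_mul_distrib, Finset.prod_const, Finset.card_univ, hcard, inv_pow]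
    have h2 : (∏ q, (trFun D P W hDW m hmW hm q * (⟨m, hmW⟩ : ↥W)⁻¹)) ∈ W'.subgroupOf W := by
      apply Subgroup.prod_mem
      intro q _
      induction q using QuotientGroup.induction_on with
      | H c =>
        rw [trFun_mk, Subgroup.mem_subgroupOf]
        exact hcomm c c.2
    rw [← h1, Subgroup.mem_subgroupOf] at h2
    exact h2

end Trace


section Kieler

open Cfsg.Agent.Lib.helper17

variable {G : Type*} [Group G]

/-- `Ω₁(Z(X))` -/
abbrev zz (p : ℕ) (X : Subgroup G) : Subgroup G :=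
  Cfsg.omegaOne p (X ⊓ Subgroup.centralizer (X : Set G))

theorem zz_le (p : ℕ) (X : Subgroup G) : zz p X ≤ X := (omegaOne_le _).trans inf_le_left

theorem zz_comm (p : ℕ) (X : Subgroup G) {z : G} (hz : z ∈ zz p X) {x : G} (hx : x ∈ X) :
    x * z = z * x :=
  Subgroup.mem_centralizer_iff.mp ((omegaOne_le _ hz).2) x hx

theorem zz_pow (p : ℕ) (X : Subgroup G) {z : G} (hz : z ∈ zz p X) : z ^ p = 1 :=
  (isElementaryAbelian_iff.mp (omegaOne_center_isElementaryAbelian p X)).2 z hz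

theorem mem_zz {p : ℕ} {X : Subgroup G} {x : G} (hx : x ∈ X) (hc : ∀ y ∈ X, y * x = x * y)
    (hp : x ^ p = 1) : x ∈ zz p X :=
  mem_omegaOne ⟨hx, Subgroup.mem_centralizer_iff.mpr hc⟩ hp

theorem conj_mem_of_le_normalizer {A B : Subgroup G} (h : A ≤ Subgroup.normalizer (B : Set G))
    {a : G} (ha : a ∈ A) {b : G} (hb : b ∈ B) : a * b * a⁻¹ ∈ B :=
  (Subgroup.mem_normalizer_iff.mp (h ha) b).mp hb

/-- if `x ^ n` commutes with `d`, `x ^ p = 1` and `p ∤ n`, then `x` commutes with `d` -/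
theorem commute_of_pow_commute {p : ℕ} [hp : Fact p.Prime] {x d : G} {n : ℕ} (hx : x ^ p = 1)
    (hn : ¬ p ∣ n) (h : d * x ^ n = x ^ n * d) : d * x = x * d := by
  have hcop : n.Coprime (orderOf x) := by
    have hdvd : orderOf x ∣ p := orderOf_dvd_of_pow_eq_one hx
    rcases (Nat.dvd_prime hp.out).mp hdvd with h1 | h1
    · rw [h1]; exact Nat.coprime_one_right n
    · rw [h1]; exact ((Nat.Prime.coprime_iff_not_dvd hp.out).mpr hn).symm
  obtain ⟨k, hk⟩ := exists_pow_eq_self_of_coprime hcop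
  have hc : Commute d (x ^ n) := h
  have := hc.pow_right k
  rw [hk] at this
  exact this


theorem eq_one_of_pow_eq_one {p : ℕ} [hp : Fact p.Prime] {x : G} {n : ℕ} (hx : x ^ p = 1)
    (hn : ¬ p ∣ n) (h : x ^ n = 1) : x = 1 := by
  have hcop : n.Coprime (orderOf x) := by
    have hdvd : orderOf x ∣ p := orderOf_dvd_of_pow_eq_one hx
    rcases (Nat.dvd_prime hp.out).mp hdvd with h1 | h1
    · rw [h1]; exact Nat.coprime_one_right n
    · rw [h1]; exact ((Nat.Prime.coprime_iff_not_dvd hp.out).mpr hn).symm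
  obtain ⟨k, hk⟩ := exists_pow_eq_self_of_coprime hcop
  rw [h, one_pow] at hk
  exact hk.symm

theorem kieler_ge [Finite G] {p : ℕ} [Fact p.Prime] (K L S : Subgroup G) (hLK : L ≤ K)
    (hKL : K ≤ Subgroup.normalizer (L : Set G)) (hSK : S ≤ K)
    (hcK : CharPSub p K) (hQK : Cfsg.pCoreOf p K ≤ S)
    (hSyl : ¬ p ∣ (S ⊓ L).relIndex L) :
    L ⊓ Subgroup.centralizer (zz p (S ⊓ L) : Set G) ≤ Subgroup.centralizer (zz p S : Set G) := by
  obtain ⟨P, hP⟩ : ∃ P : Subgroup G, P = S ⊓ L := ⟨_, rfl⟩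
  obtain ⟨Q, hQ⟩ : ∃ Q : Subgroup G, Q = Cfsg.pCoreOf p K := ⟨_, rfl⟩
  obtain ⟨Y, hY⟩ : ∃ Y : Subgroup G, Y = zz p Q := ⟨_, rfl⟩
  obtain ⟨C, hC⟩ : ∃ C : Subgroup G, C = L ⊓ Subgroup.centralizer (zz p P : Set G) := ⟨_, rfl⟩
  rw [← hP] at hSyl ⊢
  rw [← hC]
  rw [← hQ] at hQK
  have hYel := omegaOne_center_isElementaryAbelian p Q
  have : IsMulCommutative ↥Y := by rw [hY]; exact hYel.1
  have hKY : K ≤ Subgroup.normalizer (Y : Set G) := by
    rw [hY, hQ]
    exact le_normalizer_omegaOne_center (le_normalizer_pCoreOf p K)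
  have hPS : P ≤ S := hP ▸ inf_le_left
  have hPL : P ≤ L := hP ▸ inf_le_right
  have hCL : C ≤ L := hC ▸ inf_le_left
  have hPC : P ≤ C := by
    rw [hC]
    refine le_inf hPL (fun x hx => Subgroup.mem_centralizer_iff.mpr (fun z hz => ?_))
    exact (zz_comm p P hz hx).symm
  have hCY : ∀ d ∈ C, ∀ w ∈ Y, d * w * d⁻¹ ∈ Y := fun d hd w hw =>
    conj_mem_of_le_normalizer ((hCL.trans hLK).trans hKY) hd hw
  obtain ⟨τ, t0, t1, -, -, -, t5⟩ := exists_trace C P Y hCY
  have hn : ¬ p ∣ P.relIndex C := by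
    intro hdvd
    apply hSyl
    rw [← Subgroup.relIndex_mul_relIndex P C L hPC hCL]
    exact hdvd.mul_right _
  intro c hc
  rw [Subgroup.mem_centralizer_iff]
  intro z hz
  have hzS : z ∈ S := zz_le p S hz
  have hzc : ∀ s ∈ S, s * z = z * s := fun s hs => zz_comm p S hz hs
  have hzp : z ^ p = 1 := zz_pow p S hz
  have hzQ : z ∈ Q := by
    rw [hQ]
    apply hcK
    refine ⟨hSK hzS, Subgroup.mem_centralizer_iff.mpr (fun y hy => hzc y ?_)⟩
    rw [← hQ] at hy
    exact hQK hy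
  have hzY : z ∈ Y := by
    rw [hY]
    exact mem_zz hzQ (fun y hy => hzc y (hQK hy)) hzp
  have hzP : ∀ x ∈ P, x * z = z * x := fun x hx => hzc x (hPS hx)
  have h0 := t0 z hzY hzP
  have h1 := t1 z hzY hzP
  have h5 := t5 (Y ⊓ L) z hzY hzP (fun d hd => by
    refine ⟨Y.mul_mem (hCY d hd z hzY) (Y.inv_mem hzY), ?_⟩
    have hdL : d ∈ L := hCL hd
    have : z * d⁻¹ * z⁻¹ ∈ L := conj_mem_of_le_normalizer hKL (hSK hzS) (L.inv_mem hdL)
    have e : d * z * d⁻¹ * z⁻¹ = d * (z * d⁻¹ * z⁻¹) := by group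
    rw [e]
    exact L.mul_mem hdL this)
  obtain ⟨w, hw⟩ : ∃ w : G, w = τ z * (z ^ P.relIndex C)⁻¹ := ⟨_, rfl⟩
  rw [← hw] at h5
  have hwY : w ∈ Y := h5.1
  have hwL : w ∈ L := h5.2
  have hwS : w ∈ S := by
    apply hQK
    rw [hY] at hwY
    exact zz_le p Q hwY
  have hwP : w ∈ P := by rw [hP]; exact ⟨hwS, hwL⟩
  have hτC : ∀ d ∈ C, Commute d (τ z) := by
    intro d hd
    have := h1 d hd
    show d * τ z = τ z * d
    calc d * τ z = d * τ z * d⁻¹ * d := by group
      _ = τ z * d := by rw [this]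
  have hwcomm : ∀ x ∈ P, x * w = w * x := by
    intro x hx
    have c1 : Commute x (τ z) := hτC x (hPC hx)
    have c2 : Commute x z := hzP x hx
    have c3 : Commute x w := by
      rw [hw]
      exact c1.mul_right ((c2.pow_right _).inv_right)
    exact c3
  have hwp : w ^ p = 1 := by
    rw [hY] at hwY
    exact zz_pow p Q hwY
  have hwZ : w ∈ zz p P := mem_zz hwP hwcomm hwp
  have hcw : Commute c w := by
    have hc2 : c ∈ Subgroup.centralizer (zz p P : Set G) := by
      rw [hC] at hc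
      exact hc.2
    exact ((Subgroup.mem_centralizer_iff.mp hc2) w hwZ).symm
  have hcτ : Commute c (τ z) := hτC c hc
  have hzn : z ^ P.relIndex C = w⁻¹ * τ z := by
    rw [hw]
    group
  have hczn : Commute c (z ^ P.relIndex C) := by
    rw [hzn]
    exact hcw.inv_right.mul_right hcτ
  exact (commute_of_pow_commute hzp hn hczn).symm


theorem kieler_le [Finite G] {p : ℕ} [Fact p.Prime] (K L S : Subgroup G) (hLK : L ≤ K)
    (hKL : K ≤ Subgroup.normalizer (L : Set G)) (hS : IsPGroup p S) (hSK : S ≤ K)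
    (hcL : CharPSub p L) (hQL : Cfsg.pCoreOf p L ≤ S)
    (hSyl : ¬ p ∣ (S ⊓ L).relIndex L) :
    L ⊓ Subgroup.centralizer (zz p S : Set G) ≤ Subgroup.centralizer (zz p (S ⊓ L) : Set G) := by
  obtain ⟨P, hP⟩ : ∃ P : Subgroup G, P = S ⊓ L := ⟨_, rfl⟩
  obtain ⟨Q, hQ⟩ : ∃ Q : Subgroup G, Q = Cfsg.pCoreOf p L := ⟨_, rfl⟩
  obtain ⟨W, hW⟩ : ∃ W : Subgroup G, W = zz p Q := ⟨_, rfl⟩
  obtain ⟨D, hD⟩ : ∃ D : Subgroup G, D = L ⊓ Subgroup.centralizer (zz p S : Set G) := ⟨_, rfl⟩
  rw [← hP] at hSyl ⊢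
  rw [← hD]
  rw [← hQ] at hQL
  have hWel := omegaOne_center_isElementaryAbelian p Q
  have : IsMulCommutative ↥W := by rw [hW]; exact hWel.1
  have hKW : K ≤ Subgroup.normalizer (W : Set G) := by
    rw [hW, hQ]
    exact le_normalizer_omegaOne_center (hKL.trans (normalizer_le_normalizer_pCoreOf p L))
  have hPS : P ≤ S := hP ▸ inf_le_left
  have hPL : P ≤ L := hP ▸ inf_le_right
  have hDL : D ≤ L := hD ▸ inf_le_left
  have hQLL : Q ≤ L := hQ ▸ pCoreOf_le p L
  have hQP : Q ≤ P := by rw [hP]; exact le_inf hQL hQLL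
  have hWQ : W ≤ Q := hW ▸ zz_le p Q
  have hWp : ∀ w ∈ W, w ^ p = 1 := fun w hw => by rw [hW] at hw; exact zz_pow p Q hw
  have hSZ : S ≤ Subgroup.centralizer (zz p S : Set G) := fun x hx =>
    Subgroup.mem_centralizer_iff.mpr (fun z hz => (zz_comm p S hz hx).symm)
  have hPD : P ≤ D := by
    rw [hD]
    exact le_inf hPL (hPS.trans hSZ)
  have hDW : ∀ d ∈ D, ∀ w ∈ W, d * w * d⁻¹ ∈ W := fun d hd w hw =>
    conj_mem_of_le_normalizer ((hDL.trans hLK).trans hKW) hd hw
  obtain ⟨τ, t0, t1, t2, t3, t4, -⟩ := exists_trace D P W hDW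
  have hn : ¬ p ∣ P.relIndex D := by
    intro hdvd
    apply hSyl
    rw [← Subgroup.relIndex_mul_relIndex P D L hPD hDL]
    exact hdvd.mul_right _
  -- membership in `W` of central elements of order `p`
  have hmemW : ∀ x ∈ L, (∀ y ∈ P, y * x = x * y) → x ^ p = 1 → x ∈ W := by
    intro x hxL hxc hxp
    have hxQ : x ∈ Q := by
      rw [hQ]
      apply hcL
      refine ⟨hxL, Subgroup.mem_centralizer_iff.mpr (fun y hy => hxc y ?_)⟩
      rw [← hQ] at hy
      exact hQP hy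
    rw [hW]
    exact mem_zz hxQ (fun y hy => hxc y (hQP hy)) hxp
  -- `τ 1 = 1`
  have hone : τ 1 = 1 := by
    have := t2 1 W.one_mem (fun x _ => by simp) (fun d _ => by simp)
    simpa using this
  -- the kernel of the trace
  let Ks : Subgroup G :=
    { carrier := {m | m ∈ W ∧ (∀ x ∈ P, x * m = m * x) ∧ τ m = 1}
      one_mem' := ⟨W.one_mem, fun x _ => by simp, hone⟩
      mul_mem' := by
        rintro a b ⟨haW, haP, ha⟩ ⟨hbW, hbP, hb⟩
        refine ⟨W.mul_mem haW hbW, fun x hx => ?_, ?_⟩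
        · rw [← mul_assoc, haP x hx, mul_assoc, hbP x hx, mul_assoc]
        · rw [t3 a haW haP b hbW hbP, ha, hb, one_mul]
      inv_mem' := by
        rintro a ⟨haW, haP, ha⟩
        have haP' : ∀ x ∈ P, x * a⁻¹ = a⁻¹ * x := fun x hx =>
          ((show Commute x a from haP x hx).inv_right)
        refine ⟨W.inv_mem haW, haP', ?_⟩
        have := t3 a haW haP a⁻¹ (W.inv_mem haW) haP'
        rw [mul_inv_cancel, hone, ha, one_mul] at this
        exact this.symm }
  have hKs_mem : ∀ m, m ∈ Ks ↔ m ∈ W ∧ (∀ x ∈ P, x * m = m * x) ∧ τ m = 1 := fun m => Iff.rfl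
  have hKsS : Ks ≤ S := fun m hm => hPS (hQP (hWQ hm.1))
  -- `S` normalizes everything
  have hSD : S ≤ Subgroup.normalizer (D : Set G) := by
    rw [hD]
    exact le_normalizer_inf' (hSK.trans hKL) (hSZ.trans Subgroup.le_normalizer)
  have hSP : S ≤ Subgroup.normalizer (P : Set G) := by
    rw [hP]
    exact le_normalizer_inf' Subgroup.le_normalizer (hSK.trans hKL)
  have hSW : S ≤ Subgroup.normalizer (W : Set G) := hSK.trans hKW
  have hKsn : S ≤ Subgroup.normalizer (Ks : Set G) := by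
    apply le_normalizer_of_cj_le'
    intro s hs
    rintro _ ⟨m, hm, rfl⟩
    obtain ⟨hmW, hmP, hmτ⟩ := hm
    show s * m * s⁻¹ ∈ Ks
    refine ⟨conj_mem_of_le_normalizer hSW hs hmW, ?_, ?_⟩
    · intro x hx
      have hx' : s⁻¹ * x * s ∈ P := by
        have := conj_mem_of_le_normalizer hSP (S.inv_mem hs) hx
        simpa using this
      have := hmP _ hx'
      calc x * (s * m * s⁻¹) = s * ((s⁻¹ * x * s) * m) * s⁻¹ := by group
        _ = s * (m * (s⁻¹ * x * s)) * s⁻¹ := by rw [this]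
        _ = s * m * s⁻¹ * x := by group
    · rw [t4 s (hSD hs) (hSP hs) (hSW hs) m hmW hmP, hmτ]
      group
  -- the kernel is trivial
  have hKbot : Ks = ⊥ := by
    by_contra hne
    have : Group.IsNilpotent ↥S := hS.isNilpotent
    have hN : (Ks.subgroupOf S).Normal :=
      (Subgroup.normal_subgroupOf_iff_le_normalizer hKsS).mpr hKsn
    have hne' : Ks.subgroupOf S ≠ ⊥ := by
      intro h
      apply hne
      rw [Subgroup.subgroupOf_eq_bot, disjoint_iff, inf_eq_left.mpr hKsS] at h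
      exact h
    have h1 := Cfsg.Agent.Lib.Helper1.normal_inf_center_ne_bot (Ks.subgroupOf S) hne'
    obtain ⟨⟨k, hk⟩, hk1⟩ := (Subgroup.ne_bot_iff_exists_ne_one).mp h1
    have hkK : (k : G) ∈ Ks := Subgroup.mem_subgroupOf.mp hk.1
    have hkc : ∀ s ∈ S, s * (k : G) = k * s := by
      intro s hs
      have := (Subgroup.mem_center_iff.mp hk.2) ⟨s, hs⟩
      exact congrArg Subtype.val this
    obtain ⟨hkW, hkP, hkτ⟩ := hkK
    have hkp : (k : G) ^ p = 1 := hWp _ hkW
    have hkZ : (k : G) ∈ zz p S := mem_zz k.2 hkc hkp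
    have hkD : ∀ d ∈ D, d * (k : G) = k * d := by
      intro d hd
      rw [hD] at hd
      exact ((Subgroup.mem_centralizer_iff.mp hd.2) _ hkZ).symm
    have h2 := t2 (k : G) hkW hkP hkD
    rw [hkτ] at h2
    have hk1' : (k : G) = 1 := eq_one_of_pow_eq_one hkp hn h2.symm
    apply hk1
    apply Subtype.ext
    apply Subtype.ext
    exact hk1'
  -- `D` centralizes every `P`-central element of `W`
  have key : ∀ m ∈ W, (∀ x ∈ P, x * m = m * x) → ∀ d ∈ D, d * m = m * d := by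
    intro m hmW hmP
    have hτW := t0 m hmW hmP
    have hτD : ∀ d ∈ D, d * τ m = τ m * d := by
      intro d hd
      have := t1 m hmW hmP d hd
      calc d * τ m = d * τ m * d⁻¹ * d := by group
        _ = τ m * d := by rw [this]
    have hτP : ∀ x ∈ P, x * τ m = τ m * x := fun x hx => hτD x (hPD hx)
    have hpow : ∀ j : ℕ, m ^ j ∈ W ∧ (∀ x ∈ P, x * m ^ j = m ^ j * x) ∧ τ (m ^ j) = τ m ^ j := by
      intro j
      induction j with
      | zero => exact ⟨by simp, fun x _ => by simp, by simpa using hone⟩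
      | succ j ih =>
        obtain ⟨i1, i2, i3⟩ := ih
        refine ⟨W.pow_mem hmW _, fun x hx => ((show Commute x m from hmP x hx).pow_right _), ?_⟩
        rw [pow_succ, t3 (m ^ j) i1 i2 m hmW hmP, i3, pow_succ]
    obtain ⟨j1, j2, j3⟩ := hpow (P.relIndex D)
    have hinvW : (τ m)⁻¹ ∈ W := W.inv_mem hτW
    have hinvP : ∀ x ∈ P, x * (τ m)⁻¹ = (τ m)⁻¹ * x := fun x hx =>
      ((show Commute x (τ m) from hτP x hx).inv_right)
    have hinvD : ∀ d ∈ D, d * (τ m)⁻¹ = (τ m)⁻¹ * d := fun d hd =>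
      ((show Commute d (τ m) from hτD d hd).inv_right)
    have hmem : m ^ P.relIndex D * (τ m)⁻¹ ∈ Ks := by
      refine ⟨W.mul_mem j1 hinvW, fun x hx => ?_, ?_⟩
      · exact ((show Commute x (m ^ P.relIndex D) from j2 x hx).mul_right
          (show Commute x (τ m)⁻¹ from hinvP x hx))
      · rw [t3 _ j1 j2 _ hinvW hinvP, j3, t2 _ hinvW hinvP hinvD, inv_pow, mul_inv_cancel]
    rw [hKbot, Subgroup.mem_bot] at hmem
    have hmn : m ^ P.relIndex D = τ m := by
      rw [← mul_inv_eq_one]; exact hmem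
    intro d hd
    apply commute_of_pow_commute (hWp m hmW) hn
    rw [hmn]
    exact hτD d hd
  intro d hd
  rw [Subgroup.mem_centralizer_iff]
  intro z hz
  have hzP : z ∈ P := zz_le p P hz
  have hzc : ∀ y ∈ P, y * z = z * y := fun y hy => zz_comm p P hz hy
  have hzp : z ^ p = 1 := zz_pow p P hz
  have hzW : z ∈ W := hmemW z (hPL hzP) hzc hzp
  exact (key z hzW hzc d hd).symm

end Kieler



/-- Kieler's Lemma: let H be a finite group of characteristic p (C_H(O_p(H)) ≤ O_p(H)), T a Sylow p-subgroup of H and L a subnormal subgroup of H. Then C_L(Ω₁(Z(T))) = C_L(Ω₁(Z(T ∩ L))), Ω₁(Z(·)) denoting the elements of order dividing p in the centre. -/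
theorem result {H : Type*} [Group H] [Finite H] {p : ℕ} [Fact p.Prime] (hH : Subgroup.centralizer (Cfsg.pCore p H : Set H) ≤ Cfsg.pCore p H) (T : Sylow p H) (L : Subgroup H) (hL : L.IsSubnormal) : L ⊓ Subgroup.centralizer ((Cfsg.omegaOne p ((T : Subgroup H) ⊓ Subgroup.centralizer ((T : Subgroup H) : Set H))) : Set H) = L ⊓ Subgroup.centralizer ((Cfsg.omegaOne p (((T : Subgroup H) ⊓ L) ⊓ Subgroup.centralizer ((((T : Subgroup H) ⊓ L) : Subgroup H) : Set H))) : Set H) := by
  induction hL with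
  | top => rw [inf_top_eq]
  | step L K hLK hK hn ih =>
    have hLsn : L.IsSubnormal := Subgroup.IsSubnormal.step L K hLK hK hn
    have hcK : Cfsg.Agent.Lib.helper17.CharPSub p K :=
      (Cfsg.Agent.Lib.helper17.charPSub_iff p K).mp (Cfsg.Agent.S2923.result hH K hK)
    have hcL : Cfsg.Agent.Lib.helper17.CharPSub p L :=
      (Cfsg.Agent.Lib.helper17.charPSub_iff p L).mp (Cfsg.Agent.S2923.result hH L hLsn)
    have hKL : K ≤ Subgroup.normalizer (L : Set H) :=
      (Subgroup.normal_subgroupOf_iff_le_normalizer hLK).mp hn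
    have hQK : Cfsg.pCoreOf p K ≤ (T : Subgroup H) ⊓ K :=
      le_inf ((Cfsg.Agent.Lib.helper17.pCoreOf_le_pCore_of_subnormal hK).trans
        (Cfsg.Agent.Lib.Helper1.pCore_le_sylow p T)) (Cfsg.Agent.Lib.helper17.pCoreOf_le p K)
    have hQL : Cfsg.pCoreOf p L ≤ (T : Subgroup H) ⊓ K :=
      le_inf ((Cfsg.Agent.Lib.helper17.pCoreOf_le_pCore_of_subnormal hLsn).trans
        (Cfsg.Agent.Lib.Helper1.pCore_le_sylow p T))
        ((Cfsg.Agent.Lib.helper17.pCoreOf_le p L).trans hLK)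
    have e1 : ((T : Subgroup H) ⊓ K) ⊓ L = (T : Subgroup H) ⊓ L := by
      rw [inf_assoc, inf_eq_right.mpr hLK]
    have hSyl : ¬ p ∣ (((T : Subgroup H) ⊓ K) ⊓ L).relIndex L := by
      rw [e1]
      exact Cfsg.Agent.Lib.Helper10.not_dvd_relIndex_inf_of_isSubnormal p (T : Subgroup H)
        T.not_dvd_index L hLsn
    have hS : IsPGroup p ↥((T : Subgroup H) ⊓ K : Subgroup H) := T.isPGroup'.to_le inf_le_left
    have h1 := kieler_le K L ((T : Subgroup H) ⊓ K) hLK hKL hS inf_le_right hcL hQL hSyl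
    have h2 := kieler_ge K L ((T : Subgroup H) ⊓ K) hLK hKL inf_le_right hcK hQK hSyl
    rw [e1] at h1 h2
    have h3 : L ⊓ Subgroup.centralizer (zz p ((T : Subgroup H) ⊓ K) : Set H) =
        L ⊓ Subgroup.centralizer (zz p ((T : Subgroup H) ⊓ L) : Set H) :=
      le_antisymm (le_inf inf_le_left h1) (le_inf inf_le_left h2)
    have h4 : L ⊓ Subgroup.centralizer (zz p (T : Subgroup H) : Set H) =
        L ⊓ Subgroup.centralizer (zz p ((T : Subgroup H) ⊓ K) : Set H) := by
      have := congrArg (fun X => L ⊓ X) ih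
      simp only [← inf_assoc, inf_eq_left.mpr hLK] at this
      exact this
    exact h4.trans h3

end Cfsg.Agent.S2805
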