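import Cfsg.Statements.S2807
import Mathlib
import Cfsg.Agent.Lib.Helper29.Yoshida

set_option autoImplicit false
open Cfsg

namespace Cfsg.Agent.S2807
open MulAction Subgroup
open Cfsg.Agent.Lib.Helper29.Yoshida


/-- Let S be a Sylow p-subgroup of the finite group G. If S ∩ G' ≠ S ∩ (N_G(S))' (derived subgroups), then the wreath product Z_p ≀ Z_p — realised as a Sylow p-subgroup of the symmetric group of degree p² — is a homomorphic image of S. -/
theorem result {G : Type*} [Group G] [Finite G] {p : ℕ} [Fact p.Prime] (S : Sylow p G) (h : (S : Subgroup G) ⊓ commutator G ≠ (S : Subgroup G) ⊓ ⁅Subgroup.normalizer ((S : Subgroup G) : Set G), Subgroup.normalizer ((S : Subgroup G) : Set G)⁆) : ∃ (P : Sylow p (Equiv.Perm (Fin (p ^ 2)))) (f : ↥(S : Subgroup G) →* ↥(P : Subgroup (Equiv.Perm (Fin (p ^ 2))))), Function.Surjective f := by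
  by_contra hnw
  have hnw' : ¬ HasWreath p ↥(S : Subgroup G) := hnw
  apply h
  set N : Subgroup G := Subgroup.normalizer ((S : Subgroup G) : Set G) with hN
  have hSN : (S : Subgroup G) ≤ N := Subgroup.le_normalizer
  let lam₀ : ↥(S : Subgroup G) →* Abelianization ↥N :=
    (Abelianization.of).comp (Subgroup.inclusion hSN)
  have hker : ∀ u : ↥(S : Subgroup G), lam₀ u = 1 → (u : G) ∈ ⁅N, N⁆ := by
    intro u hu
    have h1 : Subgroup.inclusion hSN u ∈ (Abelianization.of (G := ↥N)).ker := hu
    rw [Abelianization.ker_of] at h1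
    rw [← Subgroup.map_subtype_commutator]
    exact ⟨_, h1, rfl⟩
  have hinv₀ : Inv (S : Subgroup G) lam₀ := by
    intro g hg u hu
    have hgN : g⁻¹ ∈ N := by
      apply Subgroup.mem_normalizer_fintype
      intro n hn
      have := hg n hn
      show g⁻¹ * n * g⁻¹⁻¹ ∈ ((S : Subgroup G) : Set G)
      rw [inv_inv]
      exact this
    have hgN' : g ∈ N := by simpa using N.inv_mem hgN
    have : Subgroup.inclusion hSN ⟨g⁻¹ * (u : G) * g, hu⟩
        = (⟨g, hgN'⟩ : ↥N)⁻¹ * Subgroup.inclusion hSN u * ⟨g, hgN'⟩ := by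
      apply Subtype.ext
      rfl
    show Abelianization.of (Subgroup.inclusion hSN ⟨g⁻¹ * (u : G) * g, hu⟩)
      = Abelianization.of (Subgroup.inclusion hSN u)
    rw [this, map_mul, map_mul, map_inv, mul_comm, ← mul_assoc, mul_inv_cancel, one_mul]
  let lam : ↥(S : Subgroup G) →* ↥lam₀.range := lam₀.rangeRestrict
  have hA : IsPGroup p ↥lam₀.range := IsPGroup.of_surjective S.2 lam lam₀.rangeRestrict_surjective
  have hinv : Inv (S : Subgroup G) lam := by
    intro g hg u hu
    apply Subtype.ext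
    exact hinv₀ g hg u hu
  have key := full S hnw' hA lam hinv
  apply le_antisymm
  · rintro x ⟨hxS, hxG⟩
    refine ⟨hxS, ?_⟩
    have := key ⟨x, hxS⟩ hxG
    exact hker ⟨x, hxS⟩ (congrArg Subtype.val this)
  · apply inf_le_inf_left
    rw [_root_.commutator_def]
    exact Subgroup.commutator_mono le_top le_top

end Cfsg.Agent.S2807
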