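import Mathlib
import Cfsg.Statements.S2809

set_option autoImplicit false
open Cfsg
open scoped commutatorElement

namespace Cfsg.Agent.S2809

variable {H : Type*} [Group H]

theorem conj_pow_of_commute_commutator (r x : H) (hc : Commute x ⁅r, x⁆) (n : ℕ) :
    x ^ n * r⁻¹ * (x ^ n)⁻¹ = r⁻¹ * ⁅r, x⁆ ^ n := by
  set c := ⁅r, x⁆ with hcdef
  have h1 : x * r⁻¹ * x⁻¹ = r⁻¹ * c := by
    rw [hcdef, commutatorElement_def]; group
  induction n with
  | zero => simp
  | succ n ih =>
    have hycn : x * c ^ n * x⁻¹ = c ^ n := by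
      have : Commute x (c ^ n) := hc.pow_right n
      rw [this.eq]; simp
    calc x ^ (n + 1) * r⁻¹ * (x ^ (n + 1))⁻¹
        = x * (x ^ n * r⁻¹ * (x ^ n)⁻¹) * x⁻¹ := by
          rw [pow_succ']; group
      _ = x * (r⁻¹ * c ^ n) * x⁻¹ := by rw [ih]
      _ = (x * r⁻¹ * x⁻¹) * (x * c ^ n * x⁻¹) := by group
      _ = r⁻¹ * c * c ^ n := by rw [h1, hycn]
      _ = r⁻¹ * c ^ (n + 1) := by rw [pow_succ', mul_assoc]

theorem iter_le (R L : Subgroup H) (hL : L ≤ Subgroup.normalizer (R : Set H)) (i : ℕ) :
    Cfsg.iterCommutator R L i ≤ R := by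
  induction i with
  | zero => exact le_rfl
  | succ i ih =>
    show ⁅Cfsg.iterCommutator R L i, L⁆ ≤ R
    exact (Subgroup.commutator_mono ih le_rfl).trans
      (Subgroup.le_normalizer_iff_commutator_le_left.mp hL)

/-- If C_H(R) ≤ R for a p-subgroup R and L ≤ N_H(R) acts nilpotently on R, then L is a p-group. -/
theorem result {H : Type*} [Group H] [Finite H] {p : ℕ} [Fact p.Prime] (R : Subgroup H) (hR : IsPGroup p ↥R) (hC : Subgroup.centralizer (R : Set H) ≤ R) (L : Subgroup H) (hL : L ≤ Subgroup.normalizer (R : Set H)) (hnil : ∃ n : ℕ, Cfsg.iterCommutator R L n = ⊥) : IsPGroup p ↥L := by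
  have hp : p.Prime := Fact.out
  obtain ⟨n, hn⟩ := hnil
  -- p'-elements of L centralize R
  have key : ∀ y ∈ L, (orderOf y).Coprime p → y ∈ Subgroup.centralizer (R : Set H) := by
    intro y hy hcop
    have hstep : ∀ j : ℕ, j ≤ n → ∀ r ∈ Cfsg.iterCommutator R L (n - j), r * y = y * r := by
      intro j
      induction j with
      | zero =>
        intro _ r hr
        rw [Nat.sub_zero, hn, Subgroup.mem_bot] at hr
        subst hr; simp
      | succ j ih =>
        intro hj r hr
        have hj' : j ≤ n := Nat.le_of_succ_le hj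
        have hidx : n - j = (n - (j + 1)) + 1 := by omega
        set c := ⁅r, y⁆ with hcdef
        have hcmem : c ∈ Cfsg.iterCommutator R L (n - j) := by
          rw [hidx]
          show c ∈ ⁅Cfsg.iterCommutator R L (n - (j + 1)), L⁆
          exact Subgroup.commutator_mem_commutator hr hy
        have hcy : Commute y c := (ih hj' c hcmem).symm
        have hpow := conj_pow_of_commute_commutator r y hcy (orderOf y)
        rw [pow_orderOf_eq_one] at hpow
        have hc1 : c ^ orderOf y = 1 := by simpa using hpow.symm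
        have hcR : c ∈ R := iter_le R L hL _ hcmem
        obtain ⟨k, hk⟩ := (IsPGroup.iff_orderOf.mp hR) ⟨c, hcR⟩
        have hk' : orderOf c = p ^ k := by
          rw [← hk]; exact (Subgroup.orderOf_mk c hcR).symm
        have hdvd : orderOf c ∣ orderOf y := orderOf_dvd_of_pow_eq_one hc1
        have hcop' : (orderOf c).Coprime p := Nat.Coprime.coprime_dvd_left hdvd hcop
        have hk0 : k = 0 := by
          by_contra hne
          rw [hk'] at hcop'
          have : p ∣ p ^ k := dvd_pow_self p hne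
          have := Nat.Coprime.eq_one_of_dvd hcop'.symm this
          exact hp.one_lt.ne' this
        have hc1' : c = 1 := by
          rw [← orderOf_eq_one_iff, hk', hk0, pow_zero]
        rw [hcdef, commutatorElement_eq_one_iff_mul_comm] at hc1'
        exact hc1'
    rw [Subgroup.mem_centralizer_iff]
    intro r hr
    have h0 : Cfsg.iterCommutator R L (n - n) = R := by
      rw [Nat.sub_self]; rfl
    have := hstep n le_rfl r (by rw [h0]; exact hr)
    exact this
  intro x
  have hx0 : orderOf (x : H) ≠ 0 := (orderOf_pos (x : H)).ne'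
  obtain ⟨e, m, hm, hem⟩ := Nat.exists_eq_pow_mul_and_not_dvd hx0 p hp.ne_one
  refine ⟨e, ?_⟩
  set y : H := (x : H) ^ (p ^ e) with hy
  have hyL : y ∈ L := L.pow_mem x.2 _
  have hym : y ^ m = 1 := by
    rw [hy, ← pow_mul, ← hem, pow_orderOf_eq_one]
  have hdvd : orderOf y ∣ m := orderOf_dvd_of_pow_eq_one hym
  have hcopm : m.Coprime p := ((Nat.Prime.coprime_iff_not_dvd hp).mpr hm).symm
  have hcop : (orderOf y).Coprime p := Nat.Coprime.coprime_dvd_left hdvd hcopm
  have hyR : y ∈ R := hC (key y hyL hcop)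
  obtain ⟨k, hk⟩ := (IsPGroup.iff_orderOf.mp hR) ⟨y, hyR⟩
  have hk' : orderOf y = p ^ k := by
    rw [← hk]; exact (Subgroup.orderOf_mk y hyR).symm
  have hk0 : k = 0 := by
    by_contra hne
    rw [hk'] at hcop
    have : p ∣ p ^ k := dvd_pow_self p hne
    have := Nat.Coprime.eq_one_of_dvd hcop.symm this
    exact hp.one_lt.ne' this
  have hy1 : y = 1 := by
    rw [← orderOf_eq_one_iff, hk', hk0, pow_zero]
  ext
  simpa [hy] using hy1

end Cfsg.Agent.S2809
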