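import Mathlib
import Cfsg.Statements.S2810

set_option autoImplicit false
open Cfsg
open scoped commutatorElement

namespace Cfsg.Agent.S2810

variable {H : Type*} [Group H]

theorem conj_pow_of_commute_commutator (r x : H) (hc : Commute x ⁅r, x⁆) (n : ℕ) :
    x ^ n * r⁻¹ * (x ^ n)⁻¹ = r⁻¹ * ⁅r, x⁆ ^ n := by
  set c := ⁅r, x⁆ with hcdef
  have h1 : x * r⁻¹ * x⁻¹ = r⁻¹ * c := by
    rw [hcdef, commutatorElement_def]; group
  induction n with
  | zero => simp
  | succ n ih =>
    have hycn : x * c ^ n * x⁻¹ = c ^ n := by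
      have : Commute x (c ^ n) := hc.pow_right n
      rw [this.eq]; simp
    calc x ^ (n + 1) * r⁻¹ * (x ^ (n + 1))⁻¹
        = x * (x ^ n * r⁻¹ * (x ^ n)⁻¹) * x⁻¹ := by
          rw [pow_succ']; group
      _ = x * (r⁻¹ * c ^ n) * x⁻¹ := by rw [ih]
      _ = (x * r⁻¹ * x⁻¹) * (x * c ^ n * x⁻¹) := by group
      _ = r⁻¹ * c * c ^ n := by rw [h1, hycn]
      _ = r⁻¹ * c ^ (n + 1) := by rw [pow_succ', mul_assoc]

theorem eq_one_of_mem_pgroup_of_coprime {p : ℕ} [Fact p.Prime] {R : Subgroup H} (hR : IsPGroup p R)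
    {c : H} (hcR : c ∈ R) (hcop : (orderOf c).Coprime p) : c = 1 := by
  have hp : p.Prime := Fact.out
  obtain ⟨k, hk⟩ := (IsPGroup.iff_orderOf.mp hR) ⟨c, hcR⟩
  have hk' : orderOf c = p ^ k := by
    rw [← hk]; exact (Subgroup.orderOf_mk c hcR).symm
  have hk0 : k = 0 := by
    by_contra hne
    rw [hk'] at hcop
    have : p ∣ p ^ k := dvd_pow_self p hne
    have := Nat.Coprime.eq_one_of_dvd hcop.symm this
    exact hp.one_lt.ne' this
  rw [← orderOf_eq_one_iff, hk', hk0, pow_zero]

theorem isPGroup_of_coprime_trivial [Finite H] {p : ℕ} [Fact p.Prime] (C : Subgroup H)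
    (h : ∀ y ∈ C, (orderOf y).Coprime p → y = 1) : IsPGroup p C := by
  have hp : p.Prime := Fact.out
  intro x
  have hx0 : orderOf (x : H) ≠ 0 := (orderOf_pos (x : H)).ne'
  obtain ⟨e, m, hm, hem⟩ := Nat.exists_eq_pow_mul_and_not_dvd hx0 p hp.ne_one
  refine ⟨e, ?_⟩
  set y : H := (x : H) ^ (p ^ e) with hy
  have hyL : y ∈ C := C.pow_mem x.2 _
  have hym : y ^ m = 1 := by
    rw [hy, ← pow_mul, ← hem, pow_orderOf_eq_one]
  have hdvd : orderOf y ∣ m := orderOf_dvd_of_pow_eq_one hym
  have hcopm : m.Coprime p := ((Nat.Prime.coprime_iff_not_dvd hp).mpr hm).symm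
  have hcop : (orderOf y).Coprime p := Nat.Coprime.coprime_dvd_left hdvd hcopm
  have hy1 : y = 1 := h y hyL hcop
  ext
  simpa [hy] using hy1

theorem pCore_isPGroup' (p : ℕ) (G : Type*) [Group G] : IsPGroup p (Cfsg.pCore p G) := by
  unfold Cfsg.pCore
  exact Sylow.sSup_of_normal _ (fun H hH => hH.2) (fun H hH => hH.1)

/-- the stability group of the chain -/
def stab {n : ℕ} (A : Fin (n + 1) → Subgroup H) (hnorm : ∀ i, (A i).Normal) : Subgroup H where
  carrier := {h | ∀ i : Fin n, ∀ a ∈ A i.succ, ⁅a, h⁆ ∈ A i.castSucc}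
  one_mem' := fun i a _ => by simp
  mul_mem' := by
    intro x y hx hy i a ha
    rw [commutatorElement_mul_right_eq_mul_conj]
    have h1 : x * ⁅a, y⁆ * x⁻¹ ∈ A i.castSucc := (hnorm _).conj_mem _ (hy i a ha) x
    have h2 := (A i.castSucc).mul_mem (hx i a ha) h1
    simpa [mul_assoc] using h2
  inv_mem' := by
    intro x hx i a ha
    rw [commutatorElement_inv_right]
    have h1 : ⁅x, a⁆ ∈ A i.castSucc := by
      rw [← commutatorElement_inv]; exact (A i.castSucc).inv_mem (hx i a ha)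
    have := (hnorm i.castSucc).conj_mem _ h1 x⁻¹
    simpa using this

theorem stab_normal {n : ℕ} (A : Fin (n + 1) → Subgroup H) (hnorm : ∀ i, (A i).Normal) :
    (stab A hnorm).Normal := by
  constructor
  intro x hx g i a ha
  have h1 : g⁻¹ * a * g ∈ A i.succ := by
    have := (hnorm i.succ).conj_mem _ ha g⁻¹
    simpa using this
  have h2 := hx i _ h1
  have h3 := (hnorm i.castSucc).conj_mem _ h2 g
  have : g * ⁅g⁻¹ * a * g, x⁆ * g⁻¹ = ⁅a, g * x * g⁻¹⁆ := by
    simp only [commutatorElement_def]; group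
  rw [this] at h3
  exact h3

theorem result {H : Type*} [Group H] [Finite H] {p : ℕ} [Fact p.Prime] (hchar : Subgroup.centralizer (Cfsg.pCore p H : Set H) ≤ Cfsg.pCore p H) (L : Subgroup H) (n : ℕ) (A : Fin (n + 1) → Subgroup H) (h0 : A 0 = ⊥) (hn : A (Fin.last n) = Cfsg.pCore p H) (hmono : Monotone A) (hnorm : ∀ i, (A i).Normal) (hcent : ∀ i : Fin n, ⁅A i.succ, L⁆ ≤ A i.castSucc) : L ≤ Cfsg.pCore p H := by
  have hOp : IsPGroup p (Cfsg.pCore p H) := pCore_isPGroup' p H
  have hLC : L ≤ stab A hnorm := by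
    intro l hl i a ha
    exact hcent i (Subgroup.commutator_mem_commutator ha hl)
  have hAle : ∀ i, A i ≤ Cfsg.pCore p H := by
    intro i
    rw [← hn]
    exact hmono (Fin.le_last i)
  have hCp : IsPGroup p (stab A hnorm) := by
    apply isPGroup_of_coprime_trivial
    intro y hy hcop
    -- y centralizes every A i
    have hcen : ∀ (k : ℕ) (hk : k < n + 1), ∀ a ∈ A ⟨k, hk⟩, a * y = y * a := by
      intro k
      induction k with
      | zero =>
        intro hk a ha
        have : A ⟨0, hk⟩ = ⊥ := h0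
        rw [this, Subgroup.mem_bot] at ha
        subst ha; simp
      | succ k ih =>
        intro hk a ha
        have hk' : k < n := Nat.lt_of_succ_lt_succ hk
        set c := ⁅a, y⁆ with hcdef
        have hc : c ∈ A (Fin.castSucc ⟨k, hk'⟩) := hy ⟨k, hk'⟩ a ha
        have hcy : Commute y c := (ih (Nat.lt_succ_of_lt hk') c hc).symm
        have hpow := conj_pow_of_commute_commutator a y hcy (orderOf y)
        rw [pow_orderOf_eq_one] at hpow
        have hc1 : c ^ orderOf y = 1 := by simpa using hpow.symm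
        have hdvd : orderOf c ∣ orderOf y := orderOf_dvd_of_pow_eq_one hc1
        have hcop' : (orderOf c).Coprime p := Nat.Coprime.coprime_dvd_left hdvd hcop
        have hc1' : c = 1 := eq_one_of_mem_pgroup_of_coprime hOp (hAle _ hc) hcop'
        rw [hcdef, commutatorElement_eq_one_iff_mul_comm] at hc1'
        exact hc1'
    have hyc : y ∈ Subgroup.centralizer (Cfsg.pCore p H : Set H) := by
      rw [Subgroup.mem_centralizer_iff]
      intro a ha
      have ha' : a ∈ A (Fin.last n) := by rw [hn]; exact ha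
      exact hcen n (Nat.lt_succ_self n) a ha'
    exact eq_one_of_mem_pgroup_of_coprime hOp (hchar hyc) hcop
  have hCle : stab A hnorm ≤ Cfsg.pCore p H := by
    unfold Cfsg.pCore
    exact le_sSup ⟨stab_normal A hnorm, hCp⟩
  exact hLC.trans hCle

end Cfsg.Agent.S2810
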