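import Mathlib
import Cfsg.Statements.S2813

set_option autoImplicit false
open Cfsg
open scoped commutatorElement

namespace Cfsg.Agent.S2813

/-- Let K be a subgroup of the finite group H with O_p(K) = 1 and Y a p-subgroup of N_H(K) with [K, Y, Y] = 1. Then [K, Y] = 1. -/
theorem result {H : Type*} [Group H] [Finite H] {p : ℕ} [Fact p.Prime] (K : Subgroup H) (hO : Cfsg.pCore p ↥K = ⊥) (Y : Subgroup H) (hY : IsPGroup p ↥Y) (hYK : Y ≤ Subgroup.normalizer (K : Set H)) (hq : ⁅⁅K, Y⁆, Y⁆ = ⊥) : ⁅K, Y⁆ = ⊥ := by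
  set A := ⁅K, Y⁆ with hA
  have hAK : A ≤ K := Subgroup.le_normalizer_iff_commutator_le_left.mp hYK
  have hKA : K ≤ Subgroup.normalizer (A : Set H) := Subgroup.normalizer_commutator_ge_left K Y
  have hAcY : A ≤ Subgroup.centralizer (Y : Set H) := Subgroup.commutator_eq_bot_iff_le_centralizer.mp hq
  -- A is abelian
  have hAA : ⁅A, A⁆ = ⊥ := by
    have h1 : ⁅⁅Y, A⁆, K⁆ = ⊥ := by
      rw [Subgroup.commutator_comm Y A, hq, Subgroup.commutator_bot_left]
    have h2 : ⁅⁅A, K⁆, Y⁆ = ⊥ := by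
      have : ⁅A, K⁆ ≤ A := Subgroup.le_normalizer_iff_commutator_le_left.mp hKA
      have := Subgroup.commutator_mono this (le_refl Y)
      rw [hq] at this
      exact le_bot_iff.mp this
    exact Subgroup.commutator_commutator_eq_bot_of_rotate h1 h2
  have hcomm : ∀ a ∈ A, ∀ b ∈ A, a * b = b * a := by
    intro a ha b hb
    have : ⁅a, b⁆ ∈ ⁅A, A⁆ := Subgroup.commutator_mem_commutator ha hb
    rw [hAA, Subgroup.mem_bot] at this
    exact commutatorElement_eq_one_iff_mul_comm.mp this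
  -- generators have p-power order
  have hgen : ∀ k ∈ K, ∀ y ∈ Y, ∃ n : ℕ, ⁅k, y⁆ ^ (p ^ n) = 1 := by
    intro k hk y hy
    set c := ⁅k, y⁆ with hc
    have hcA : c ∈ A := Subgroup.commutator_mem_commutator hk hy
    have hyc : y * c = c * y := (Subgroup.mem_centralizer_iff.mp (hAcY hcA)) y hy
    have h1 : y * k⁻¹ * y⁻¹ = k⁻¹ * c := by
      rw [hc, commutatorElement_def]; group
    have h2 : ∀ n : ℕ, y ^ n * k⁻¹ * (y ^ n)⁻¹ = k⁻¹ * c ^ n := by
      intro n
      induction n with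
      | zero => simp
      | succ n ih =>
        have hycn : y * c ^ n * y⁻¹ = c ^ n := by
          have : Commute y (c ^ n) := (show Commute y c from hyc).pow_right n
          rw [this.eq]; simp
        calc y ^ (n + 1) * k⁻¹ * (y ^ (n + 1))⁻¹
            = y * (y ^ n * k⁻¹ * (y ^ n)⁻¹) * y⁻¹ := by
              rw [pow_succ']; group
          _ = y * (k⁻¹ * c ^ n) * y⁻¹ := by rw [ih]
          _ = (y * k⁻¹ * y⁻¹) * (y * c ^ n * y⁻¹) := by group
          _ = k⁻¹ * c * c ^ n := by rw [h1, hycn]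
          _ = k⁻¹ * c ^ (n + 1) := by rw [pow_succ', mul_assoc]
    obtain ⟨n, hn⟩ := (IsPGroup.iff_orderOf.mp hY) ⟨y, hy⟩
    refine ⟨n, ?_⟩
    have hyn : y ^ (p ^ n) = 1 := by
      have : orderOf y = p ^ n := by
        rw [← hn]; exact (Subgroup.orderOf_mk y hy).symm
      rw [← this]; exact pow_orderOf_eq_one y
    have := h2 (p ^ n)
    rw [hyn] at this
    simpa using this.symm
  -- every element of A has p-power order
  have hAp : ∀ a ∈ A, ∃ n : ℕ, a ^ (p ^ n) = 1 := by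
    intro a ha
    have ha' := ha
    rw [hA, Subgroup.commutator_def] at ha'
    have key : ∀ (x : H) (hx : x ∈ Subgroup.closure {g | ∃ g₁ ∈ K, ∃ g₂ ∈ Y, ⁅g₁, g₂⁆ = g}),
        x ∈ A ∧ ∃ n : ℕ, x ^ (p ^ n) = 1 := by
      intro x hx
      induction hx using Subgroup.closure_induction with
      | mem x hx =>
        obtain ⟨k, hk, y, hy, rfl⟩ := hx
        exact ⟨Subgroup.commutator_mem_commutator hk hy, hgen k hk y hy⟩
      | one => exact ⟨A.one_mem, 0, by simp⟩
      | mul x y _ _ ihx ihy =>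
        obtain ⟨hxA, n, hn⟩ := ihx
        obtain ⟨hyA, m, hm⟩ := ihy
        refine ⟨A.mul_mem hxA hyA, n + m, ?_⟩
        have hc : Commute x y := hcomm x hxA y hyA
        rw [hc.mul_pow, pow_add, pow_mul, hn, one_pow, one_mul, mul_comm, pow_mul, hm, one_pow]
      | inv x _ ihx =>
        obtain ⟨hxA, n, hn⟩ := ihx
        exact ⟨A.inv_mem hxA, n, by rw [inv_pow, hn, inv_one]⟩
    exact (key a ha').2
  -- A as a subgroup of K is a normal p-subgroup
  have hnorm : (A.subgroupOf K).Normal := Subgroup.normal_subgroupOf_of_le_normalizer hKA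
  have hp : IsPGroup p (A.subgroupOf K) := by
    intro x
    obtain ⟨n, hn⟩ := hAp (x : K) x.2
    refine ⟨n, ?_⟩
    ext
    simpa using hn
  have hle : A.subgroupOf K ≤ Cfsg.pCore p K := by
    unfold Cfsg.pCore
    exact le_sSup ⟨hnorm, hp⟩
  rw [hO, le_bot_iff, Subgroup.subgroupOf_eq_bot] at hle
  exact (disjoint_of_le_iff_left_eq_bot hAK).mp hle

end Cfsg.Agent.S2813
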