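import Mathlib
import Cfsg.Statements.S2814
import Cfsg.Agent.Lib.helper17.Subn2

set_option autoImplicit false
open Cfsg

namespace Cfsg.Agent.S2814

open Cfsg.Agent.Lib.helper17

/-- Let A be a subgroup of the finite group H and K the subnormal closure of A (intersection of the subnormal subgroups containing A). Then K is the normal closure of A inside K and N_H(A) ≤ N_H(K); K = A·O^p(K), O^p(K) being generated by the elements of K of order prime to p; and if A is a p-group, O^p(K) = [O^p(K), A]. -/
theorem result {H : Type*} [Group H] [Finite H] {p : ℕ} [Fact p.Prime] (A : Subgroup H) (K : Subgroup H) (hK : K = Cfsg.subnormalClosure A) : (Subgroup.normalClosure ((A.subgroupOf K : Subgroup ↥K) : Set ↥K)).map K.subtype = K ∧ Subgroup.normalizer (A : Set H) ≤ Subgroup.normalizer (K : Set H) ∧ A ⊔ (Cfsg.pResidual p ↥K).map K.subtype = K ∧ (IsPGroup p ↥A → ⁅(Cfsg.pResidual p ↥K).map K.subtype, A⁆ = (Cfsg.pResidual p ↥K).map K.subtype) := by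
  have hKsn : K.IsSubnormal := hK ▸ subnormalClosure_isSubnormal A
  have hAK : A ≤ K := hK ▸ le_subnormalClosure A
  have hmin : ∀ X : Subgroup H, A ≤ X → X.IsSubnormal → K ≤ X := by
    intro X hAX hX
    rw [hK]
    exact subnormalClosure_le hAX hX
  have part1 : (Subgroup.normalClosure ((A.subgroupOf K : Subgroup ↥K) : Set ↥K)).map K.subtype = K := by
    apply le_antisymm (Subgroup.map_subtype_le _)
    apply hmin
    · intro a ha
      exact ⟨⟨a, hAK ha⟩, Subgroup.subset_normalClosure (Subgroup.mem_subgroupOf.mpr ha), rfl⟩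
    · exact (Subgroup.normalClosure_normal.isSubnormal).trans' hKsn
  have part2 : Subgroup.normalizer (A : Set H) ≤ Subgroup.normalizer (K : Set H) := by
    intro x hx
    have h1 : K ≤ cj x K := by
      apply hmin _ _ (cj_isSubnormal hKsn x)
      rw [← cj_eq_self_iff.mpr hx]
      exact cj_mono hAK
    rw [← cj_eq_self_iff]
    exact (Subgroup.eq_of_le_of_card_ge h1 (by rw [card_cj])).symm
  rw [map_pResidual_eq_opOf]
  have hRK : opOf p K ≤ K := opOf_le p K
  have hKR : K ≤ Subgroup.normalizer ((opOf p K : Subgroup H) : Set H) :=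
    Subgroup.le_normalizer.trans (normalizer_le_normalizer_opOf p K)
  have part3 : A ⊔ opOf p K = K := by
    apply le_antisymm (sup_le hAK hRK)
    apply hmin _ le_sup_left
    have hRn : (Cfsg.pResidual p ↥K).Normal := pResidual_normal p ↥K
    have hq : IsPGroup p (↥K ⧸ Cfsg.pResidual p ↥K) := isPGroup_quotient_pResidual p
    have hnil : Group.IsNilpotent (↥K ⧸ Cfsg.pResidual p ↥K) := hq.isNilpotent
    have h1 : ((A.subgroupOf K).map (QuotientGroup.mk' (Cfsg.pResidual p ↥K))).IsSubnormal :=
      isSubnormal_of_isNilpotent _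
    have h2 := h1.comap (QuotientGroup.mk' (Cfsg.pResidual p ↥K))
    rw [Subgroup.comap_map_eq, QuotientGroup.ker_mk'] at h2
    have h3 := h2.trans' hKsn
    rw [Subgroup.map_sup, Subgroup.subgroupOf_map_subtype, inf_of_le_left hAK,
      map_pResidual_eq_opOf] at h3
    exact h3
  refine ⟨part1, part2, part3, ?_⟩
  intro hAp
  have hAR : A ≤ Subgroup.normalizer ((opOf p K : Subgroup H) : Set H) := hAK.trans hKR
  have hCR : ⁅opOf p K, A⁆ ≤ opOf p K := Subgroup.le_normalizer_iff_commutator_le_left.mp hAR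
  apply le_antisymm hCR
  have hKC : K ≤ Subgroup.normalizer ((⁅opOf p K, A⁆ : Subgroup H) : Set H) := by
    refine part3.symm.le.trans ?_
    exact sup_le (Subgroup.normalizer_commutator_ge_right _ _) (Subgroup.normalizer_commutator_ge_left _ _)
  have hKCA : K ≤ Subgroup.normalizer ((⁅opOf p K, A⁆ ⊔ A : Subgroup H) : Set H) := by
    refine part3.symm.le.trans ?_
    apply sup_le
    · exact le_normalizer_sup (hAK.trans hKC) Subgroup.le_normalizer
    · exact le_normalizer_commutator_sup _ _
  have hCAK : ⁅opOf p K, A⁆ ⊔ A ≤ K := sup_le (hCR.trans hRK) hAK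
  have hsn : (⁅opOf p K, A⁆ ⊔ A : Subgroup H).IsSubnormal := by
    have hn : ((⁅opOf p K, A⁆ ⊔ A : Subgroup H).subgroupOf K).Normal :=
      (Subgroup.normal_subgroupOf_iff_le_normalizer hCAK).mpr hKCA
    exact Subgroup.IsSubnormal.trans hCAK hn.isSubnormal hKsn
  have hKle : K ≤ ⁅opOf p K, A⁆ ⊔ A := hmin _ le_sup_right hsn
  exact opOf_le_of_le_sup (hCR.trans hRK) hKC hAp hAK hKle

end Cfsg.Agent.S2814
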