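import Mathlib
import Cfsg.Statements.S2816
import Cfsg.Agent.Lib.helper17.QS7

set_option autoImplicit false
open Cfsg

namespace Cfsg.Agent.S2816

open Cfsg.Agent.Lib.helper17
open scoped commutatorElement

/-- Let H be a finite group and p a prime with O_p(H) = 1, and Y a p-subgroup of H. Then for every subnormal subgroup K of H containing Y, [F*(H), Y] = [F*(K), Y] = [F*(K), Y, Y]; and if Y₀ ≤ Y with [F*(H), Y, Y₀] = 1 then Y₀ = 1 (in particular [F*(H), Y] = 1 forces Y = 1). -/
theorem result {H : Type*} [Group H] [Finite H] {p : ℕ} [Fact p.Prime] (hO : Cfsg.pCore p H = ⊥) (Y : Subgroup H) (hY : IsPGroup p ↥Y) : (∀ K : Subgroup H, K.IsSubnormal → Y ≤ K → ⁅Cfsg.generalizedFittingSubgroup H, Y⁆ = ⁅(Cfsg.generalizedFittingSubgroup ↥K).map K.subtype, Y⁆ ∧ ⁅(Cfsg.generalizedFittingSubgroup ↥K).map K.subtype, Y⁆ = ⁅⁅(Cfsg.generalizedFittingSubgroup ↥K).map K.subtype, Y⁆, Y⁆) ∧ (∀ Y₀ : Subgroup H, Y₀ ≤ Y → ⁅⁅Cfsg.generalizedFittingSubgroup H, Y⁆, Y₀⁆ = ⊥ → Y₀ = ⊥) := by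
  have hFn : (generalizedFittingSubgroup H).Normal :=
    Cfsg.Agent.Lib.Helper12.generalizedFittingSubgroup_normal H
  have hsplit : ∀ Z : Subgroup H, IsPGroup p Z → SplitsUnder (generalizedFittingSubgroup H) Z := by
    intro Z hZ
    apply splitsUnder_of_subnormal_le_gfs_top hO Z hZ _ le_rfl (Subgroup.Normal.isSubnormal hFn)
    rw [Subgroup.normalizer_eq_top]
    exact le_top
  have hX := hsplit Y hY
  constructor
  · intro K hK hYK
    have hchar : (generalizedFittingSubgroup ↥K).Characteristic :=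
      Cfsg.Agent.Lib.Helper12.generalizedFittingSubgroup_characteristic _
    have hKn : (generalizedFittingSubgroup ↥K).Normal := inferInstance
    have hFK : SplitsUnder ((generalizedFittingSubgroup ↥K).map K.subtype) Y := by
      apply splitsUnder_of_subnormal_le_gfs K (pCore_eq_bot_of_subnormal hO hK) Y hY
        (hYK.trans Subgroup.le_normalizer) _ le_rfl
      · have e : ((generalizedFittingSubgroup ↥K).map K.subtype).subgroupOf K =
            generalizedFittingSubgroup ↥K :=
          Subgroup.comap_map_eq_self_of_injective K.subtype_injective _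
        rw [e]
        exact Subgroup.Normal.isSubnormal hKn
      · exact hYK.trans
          (Cfsg.Agent.Lib.Lead.le_normalizer_map_characteristic K K Subgroup.le_normalizer _)
    refine ⟨?_, hFK.2.symm⟩
    apply le_antisymm
    · have h1 : ⁅generalizedFittingSubgroup H, Y⁆ ≤ K :=
        le_of_commutator_eq_self_of_subnormal hK hX.2 hYK
      have h2 : ⁅generalizedFittingSubgroup H, Y⁆ ≤ generalizedFittingSubgroup H :=
        hX.commutator_le
      have h3 : ⁅generalizedFittingSubgroup H, Y⁆ ≤
          (generalizedFittingSubgroup ↥K).map K.subtype :=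
        (le_inf h1 h2).trans (inf_gfs_le_map_gfs hK)
      calc ⁅generalizedFittingSubgroup H, Y⁆ = ⁅⁅generalizedFittingSubgroup H, Y⁆, Y⁆ := hX.2.symm
        _ ≤ ⁅(generalizedFittingSubgroup ↥K).map K.subtype, Y⁆ :=
          Subgroup.commutator_mono h3 le_rfl
    · exact Subgroup.commutator_mono (gfs_map_le_of_subnormal hK) le_rfl
  · intro Y₀ hY₀ h0
    have hY₀p : IsPGroup p Y₀ := hY.to_le hY₀
    have hX₀ := hsplit Y₀ hY₀p
    have h1 : ⁅⁅generalizedFittingSubgroup H, Y₀⁆, Y₀⁆ = ⊥ := by
      rw [← le_bot_iff, ← h0]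
      exact Subgroup.commutator_mono (Subgroup.commutator_mono le_rfl hY₀) le_rfl
    have h2 : ⁅generalizedFittingSubgroup H, Y₀⁆ = ⊥ := by rw [← hX₀.2, h1]
    have h3 : Y₀ ≤ Subgroup.centralizer (generalizedFittingSubgroup H : Set H) := by
      rw [Subgroup.commutator_comm, Subgroup.commutator_eq_bot_iff_le_centralizer] at h2
      exact h2
    have h4 : Y₀ ≤ generalizedFittingSubgroup H := h3.trans Cfsg.Agent.S1265.result
    have hZn : (generalizedFittingSubgroup H ⊓
        Subgroup.centralizer (generalizedFittingSubgroup H : Set H)).Normal := inferInstance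
    have hcop := coprime_card_of_normal_nilpotent hO hZn (isNilpotent_inf_centralizer _)
    exact eq_bot_of_isPGroup_le_of_coprime hY₀p (le_inf h4 h3) hcop

end Cfsg.Agent.S2816
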