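import Mathlib
import Cfsg.Statements.S2817
import Cfsg.Agent.Lib.helper17.QS9
import Cfsg.Agent.S2816

set_option autoImplicit false
open Cfsg

namespace Cfsg.Agent.S2817

open Cfsg.Agent.Lib.helper17
open scoped commutatorElement

/-- Step A: with `L = [L,Q]` subnormal in `F*(H)`, `O_p(H) = 1`: elements of `L ∩ C(Q)` lie in `L'`. -/
theorem mem_commutator_of_mem_centralizer {H : Type*} [Group H] [Finite H] {p : ℕ} [Fact p.Prime]
    (hO : Cfsg.pCore p H = ⊥) {Q L : Subgroup H} (hQ : IsPGroup p Q)
    (hLX : L ≤ generalizedFittingSubgroup H) (hLsn : L.IsSubnormal)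
    (hQL : Q ≤ Subgroup.normalizer (L : Set H)) (hLQ : ⁅L, Q⁆ = L) {z : H} (hz : z ∈ L)
    (hzQ : z ∈ Subgroup.centralizer (Q : Set H)) : z ∈ ⁅L, L⁆ := by
  have hz' : z ∈ ⁅L, Q⁆ := by rw [hLQ]; exact hz
  obtain ⟨hzL, h1⟩ := pow_card_mem_commutator_of_mem_centralizer L Q hQL hz' hzQ
  have hdec := subnormal_le_gfs_decomp hLsn hLX
  -- exponent
  have hcopN : (Nat.card (L ⊓ fittingSubgroup H : Subgroup H)).Coprime p :=
    Nat.Coprime.coprime_dvd_left (Subgroup.card_dvd_of_le inf_le_right)
      (coprime_card_fitting_of_pCore_eq_bot hO)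
  have hker : ∀ x : L, (Abelianization.of x) ^ Nat.card (L ⊓ fittingSubgroup H : Subgroup H) = 1 := by
    have hle : L ≤ ((((powMonoidHom (Nat.card (L ⊓ fittingSubgroup H : Subgroup H)) :
        Abelianization L →* Abelianization L).comp Abelianization.of).ker).map L.subtype) := by
      conv_lhs => rw [hdec]
      apply sup_le
      · intro y hy
        have hyL : y ∈ L := (Subgroup.mem_inf.mp hy).1
        refine ⟨⟨y, hyL⟩, ?_, rfl⟩
        rw [SetLike.mem_coe, MonoidHom.mem_ker, MonoidHom.comp_apply, powMonoidHom_apply, ← map_pow]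
        have hpow : y ^ Nat.card (L ⊓ fittingSubgroup H : Subgroup H) = 1 := by
          have := pow_card_eq_one' (G := ↥(L ⊓ fittingSubgroup H)) (x := ⟨y, hy⟩)
          exact congrArg Subtype.val this
        have e : (⟨y, hyL⟩ : L) ^ Nat.card (L ⊓ fittingSubgroup H : Subgroup H) = 1 := by
          apply Subtype.ext
          simpa using hpow
        rw [e, map_one]
      · apply sSup_le
        rintro K ⟨hK, hKL⟩
        intro y hy
        have hyc : y ∈ ⁅L, L⁆ := by
          have hperf := Cfsg.Agent.Lib.Helper10.isComponent_commutator_self hK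
          rw [← hperf] at hy
          exact Subgroup.commutator_mono hKL hKL hy
        rw [← map_commutator_subtype] at hyc
        obtain ⟨y', hy', rfl⟩ := hyc
        refine ⟨y', ?_, rfl⟩
        rw [SetLike.mem_coe, MonoidHom.mem_ker, MonoidHom.comp_apply, powMonoidHom_apply]
        rw [SetLike.mem_coe, ← Abelianization.ker_of, MonoidHom.mem_ker] at hy'
        rw [hy', one_pow]
    intro x
    obtain ⟨x', hx', hxx⟩ := hle x.2
    have hxe : x' = x := Subtype.ext hxx
    rw [hxe] at hx'
    have hx'' := MonoidHom.mem_ker.mp hx'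
    rwa [MonoidHom.comp_apply, powMonoidHom_apply] at hx''
  have h2 := hker ⟨z, hzL⟩
  rw [← Abelianization.ker_of, MonoidHom.mem_ker, map_pow] at h1
  have hcop : (Nat.card Q).Coprime (Nat.card (L ⊓ fittingSubgroup H : Subgroup H)) :=
    coprime_card_of_isPGroup_of_coprime hQ hcopN
  have h3 : orderOf (Abelianization.of (⟨z, hzL⟩ : L)) = 1 := by
    have d1 := orderOf_dvd_of_pow_eq_one h1
    have d2 := orderOf_dvd_of_pow_eq_one h2
    have := Nat.dvd_gcd d1 d2
    rw [hcop] at this
    exact Nat.dvd_one.mp this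
  rw [orderOf_eq_one_iff, ← MonoidHom.mem_ker, Abelianization.ker_of] at h3
  rw [← map_commutator_subtype]
  exact ⟨⟨z, hzL⟩, h3, rfl⟩

/-- Let H be a finite group and p a prime with O_p(H) = 1, Q a p-subgroup of H, L = [F*(H), Q], and F the largest normal subgroup of F*(H) centralized by Q (a normal subgroup of F*(H) centralized by Q and containing every such). Then F = C_{F*(H)}(LQ); L = [L, Q]; L ∩ F ≤ Φ(L); every p-subgroup B of N_H(Q) with [L, B] ≤ F satisfies [L, B] = 1; and C_H(FL) has order prime to p. -/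
theorem result {H : Type*} [Group H] [Finite H] {p : ℕ} [Fact p.Prime] (hO : Cfsg.pCore p H = ⊥) (Q : Subgroup H) (hQ : IsPGroup p ↥Q) (L : Subgroup H) (hL : L = ⁅Cfsg.generalizedFittingSubgroup H, Q⁆) (F : Subgroup H) (hF : F ≤ Cfsg.generalizedFittingSubgroup H ∧ Cfsg.generalizedFittingSubgroup H ≤ Subgroup.normalizer (F : Set H) ∧ Q ≤ Subgroup.centralizer (F : Set H) ∧ ∀ N : Subgroup H, N ≤ Cfsg.generalizedFittingSubgroup H → Cfsg.generalizedFittingSubgroup H ≤ Subgroup.normalizer (N : Set H) → Q ≤ Subgroup.centralizer (N : Set H) → N ≤ F) : F = Cfsg.generalizedFittingSubgroup H ⊓ Subgroup.centralizer ((L ⊔ Q : Subgroup H) : Set H) ∧ ⁅L, Q⁆ = L ∧ L ⊓ F ≤ (frattini ↥L).map L.subtype ∧ (∀ B : Subgroup H, IsPGroup p ↥B → B ≤ Subgroup.normalizer (Q : Set H) → ⁅L, B⁆ ≤ F → ⁅L, B⁆ = ⊥) ∧ (Nat.card ↥(Subgroup.centralizer ((F ⊔ L : Subgroup H) : Set H))).Coprime p := by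
  obtain ⟨hF1, hF2, hF3, hF4⟩ := hF
  have hXn : (generalizedFittingSubgroup H).Normal :=
    Cfsg.Agent.Lib.Helper12.generalizedFittingSubgroup_normal H
  have htop : ∀ Z : Subgroup H, Z ≤ Subgroup.normalizer (generalizedFittingSubgroup H : Set H) := by
    intro Z
    rw [Subgroup.normalizer_eq_top]
    exact le_top
  have hsplitX : ∀ Z : Subgroup H, IsPGroup p Z → SplitsUnder (generalizedFittingSubgroup H) Z :=
    fun Z hZ => splitsUnder_of_subnormal_le_gfs_top hO Z hZ _ le_rfl
      (Subgroup.Normal.isSubnormal hXn) (htop Z)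
  have hXQ := hsplitX Q hQ
  have hLQ : ⁅L, Q⁆ = L := by rw [hL]; exact hXQ.2
  have hLX : L ≤ generalizedFittingSubgroup H := by rw [hL]; exact Subgroup.commutator_le_left _ _
  have hXL : generalizedFittingSubgroup H ≤ Subgroup.normalizer (L : Set H) := by
    rw [hL]; exact Cfsg.Agent.Lib.Helper10.le_normalizer_commutator_left _ Q
  have hQL : Q ≤ Subgroup.normalizer (L : Set H) := by
    rw [hL]; exact le_normalizer_commutator (htop Q) Subgroup.le_normalizer
  have hLsn : L.IsSubnormal :=
    Subgroup.IsSubnormal.step _ _ hLX (Subgroup.Normal.isSubnormal hXn)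
      ((Subgroup.normal_subgroupOf_iff_le_normalizer hLX).mpr hXL)
  -- F centralizes L and Q
  have hQF : ⁅Q, F⁆ = ⊥ := Subgroup.commutator_eq_bot_iff_le_centralizer.mpr hF3
  have hFQ : ⁅F, Q⁆ = ⊥ := by rw [Subgroup.commutator_comm]; exact hQF
  have hLF : ⁅L, F⁆ = ⊥ := by
    rw [hL]
    apply Subgroup.commutator_commutator_eq_bot_of_rotate
    · rw [hQF]; exact Subgroup.commutator_bot_left _
    · have h1 : ⁅F, generalizedFittingSubgroup H⁆ ≤ F :=
        Subgroup.le_normalizer_iff_commutator_le_left.mp hF2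
      rw [← le_bot_iff, ← hFQ]
      exact Subgroup.commutator_mono h1 le_rfl
  have hFCL : F ≤ Subgroup.centralizer (L : Set H) := by
    rw [Subgroup.commutator_comm, Subgroup.commutator_eq_bot_iff_le_centralizer] at hLF
    exact hLF
  have hFCQ : F ≤ Subgroup.centralizer (Q : Set H) := Subgroup.le_centralizer_iff.mp hF3
  -- Step A
  have hZ₀ : L ⊓ F ≤ ⁅L, L⁆ := fun z hz =>
    mem_commutator_of_mem_centralizer hO hQ hLX hLsn hQL hLQ hz.1 (hFCQ hz.2)
  refine ⟨?_, hLQ, ?_, ?_, ?_⟩
  · -- (1)
    apply le_antisymm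
    · refine le_inf hF1 ?_
      intro f hf
      exact mem_centralizer_sup (hFCL hf) (hFCQ hf)
    · apply hF4
      · exact inf_le_left
      · rw [centralizer_sup_eq, ← inf_assoc]
        apply le_normalizer_inf_centralizer_of_le_centralizer_commutator
        · exact le_normalizer_inf' Subgroup.le_normalizer (le_normalizer_centralizer' hXL)
        · rw [← hL]; exact inf_le_right
      · rw [Subgroup.le_centralizer_iff]
        exact inf_le_right.trans (Subgroup.centralizer_le (show Q ≤ L ⊔ Q from le_sup_right))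
  · -- (3)
    have hc : (L ⊓ F).subgroupOf L ≤ Subgroup.center L := by
      intro z hz
      rw [Subgroup.mem_center_iff]
      intro g
      apply Subtype.ext
      have := (Subgroup.mem_centralizer_iff.mp (hFCL (Subgroup.mem_subgroupOf.mp hz).2)) g g.2
      exact this
    have hd : (L ⊓ F).subgroupOf L ≤ commutator L := by
      intro z hz
      have h1 := hZ₀ (Subgroup.mem_subgroupOf.mp hz)
      rw [← map_commutator_subtype] at h1
      obtain ⟨z', hz', hzz⟩ := h1
      have : z' = z := Subtype.ext hzz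
      rwa [← this]
    have h1 := Subgroup.map_mono (f := L.subtype) (le_frattini_of_central_of_le_commutator _ hc hd)
    rwa [Subgroup.map_subgroupOf_eq_of_le inf_le_left] at h1
  · -- (4)
    intro B hB hBQ hBF
    have hBL : B ≤ Subgroup.normalizer (L : Set H) := by
      rw [hL]; exact le_normalizer_commutator (htop B) hBQ
    have hLB := splitsUnder_of_subnormal_le_gfs_top hO B hB L hLX hLsn hBL
    have hW : ⁅L, B⁆ ≤ ⁅L, L⁆ := (le_inf hLB.commutator_le hBF).trans hZ₀
    have hWL : ⁅⁅L, B⁆, L⁆ = ⊥ := by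
      rw [Subgroup.commutator_eq_bot_iff_le_centralizer]
      exact hBF.trans hFCL
    have h3 : ⁅⁅L, L⁆, B⁆ = ⊥ := by
      apply Subgroup.commutator_commutator_eq_bot_of_rotate hWL
      rw [Subgroup.commutator_comm B L]
      exact hWL
    have h4 : ⁅⁅L, B⁆, B⁆ = ⊥ := by
      rw [← le_bot_iff, ← h3]
      exact Subgroup.commutator_mono hW le_rfl
    rw [← hLB.2, h4]
  · -- (5)
    have hXFL : generalizedFittingSubgroup H ≤
        Subgroup.normalizer ((F ⊔ L : Subgroup H) : Set H) := le_normalizer_sup hF2 hXL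
    have hXT : generalizedFittingSubgroup H ≤ Subgroup.normalizer
        ((generalizedFittingSubgroup H ⊓ Subgroup.centralizer ((F ⊔ L : Subgroup H) : Set H) :
          Subgroup H) : Set H) :=
      le_normalizer_inf' Subgroup.le_normalizer (le_normalizer_centralizer' hXFL)
    have hTsn : (generalizedFittingSubgroup H ⊓
        Subgroup.centralizer ((F ⊔ L : Subgroup H) : Set H)).IsSubnormal :=
      Subgroup.IsSubnormal.step _ _ inf_le_left (Subgroup.Normal.isSubnormal hXn)
        ((Subgroup.normal_subgroupOf_iff_le_normalizer inf_le_left).mpr hXT)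
    have hQFL : Q ≤ Subgroup.normalizer ((F ⊔ L : Subgroup H) : Set H) :=
      le_normalizer_sup (hF3.trans (Subgroup.centralizer_le_normalizer _)) hQL
    have hQT : Q ≤ Subgroup.normalizer
        ((generalizedFittingSubgroup H ⊓ Subgroup.centralizer ((F ⊔ L : Subgroup H) : Set H) :
          Subgroup H) : Set H) :=
      le_normalizer_inf' (htop Q) (le_normalizer_centralizer' hQFL)
    have hTQ := splitsUnder_of_subnormal_le_gfs_top hO Q hQ _ inf_le_left hTsn hQT
    have hT1 : ⁅generalizedFittingSubgroup H ⊓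
        Subgroup.centralizer ((F ⊔ L : Subgroup H) : Set H), Q⁆ ≤ L := by
      rw [hL]; exact Subgroup.commutator_mono inf_le_left le_rfl
    have hTCL : generalizedFittingSubgroup H ⊓
        Subgroup.centralizer ((F ⊔ L : Subgroup H) : Set H) ≤
        Subgroup.centralizer ((⁅generalizedFittingSubgroup H, Q⁆ : Subgroup H) : Set H) := by
      rw [← hL]
      exact inf_le_right.trans (Subgroup.centralizer_le (show L ≤ F ⊔ L from le_sup_right))
    have hT2 : (generalizedFittingSubgroup H ⊓
        Subgroup.centralizer ((F ⊔ L : Subgroup H) : Set H)) ⊓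
        Subgroup.centralizer (Q : Set H) ≤ F := by
      apply hF4
      · exact inf_le_left.trans inf_le_left
      · exact le_normalizer_inf_centralizer_of_le_centralizer_commutator hXT hTCL
      · rw [Subgroup.le_centralizer_iff]; exact inf_le_right
    have hT : generalizedFittingSubgroup H ⊓
        Subgroup.centralizer ((F ⊔ L : Subgroup H) : Set H) ≤ F ⊔ L := by
      rw [← hTQ.1]
      exact sup_le (hT1.trans le_sup_right) (hT2.trans le_sup_left)
    have key : ∀ C : Subgroup H, C ≤ Subgroup.centralizer ((F ⊔ L : Subgroup H) : Set H) →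
        (Nat.card C).Coprime p := by
      intro C hCle
      by_contra hcop
      have hdvd : p ∣ Nat.card C := by
        rwa [Nat.coprime_comm, Nat.Prime.coprime_iff_not_dvd Fact.out, not_not] at hcop
      obtain ⟨P⟩ := (inferInstance : Nonempty (Sylow p C))
      have hPne : (P : Subgroup C) ≠ ⊥ := P.ne_bot_of_dvd_card hdvd
      have hP'C : (P : Subgroup C).map C.subtype ≤
          Subgroup.centralizer ((F ⊔ L : Subgroup H) : Set H) :=
        (Subgroup.map_subtype_le _).trans hCle
      have hP'p : IsPGroup p ((P : Subgroup C).map C.subtype) := P.2.map _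
      have hPFL : ⁅(P : Subgroup C).map C.subtype, F ⊔ L⁆ = ⊥ :=
        Subgroup.commutator_eq_bot_iff_le_centralizer.mpr hP'C
      have hFLP : ⁅F ⊔ L, (P : Subgroup C).map C.subtype⁆ = ⊥ := by
        rw [Subgroup.commutator_comm]; exact hPFL
      have h1 : ⁅⁅generalizedFittingSubgroup H, (P : Subgroup C).map C.subtype⁆, F ⊔ L⁆ = ⊥ := by
        apply Subgroup.commutator_commutator_eq_bot_of_rotate
        · rw [hPFL]; exact Subgroup.commutator_bot_left _
        · have h2 : ⁅F ⊔ L, generalizedFittingSubgroup H⁆ ≤ F ⊔ L :=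
            Subgroup.le_normalizer_iff_commutator_le_left.mp hXFL
          rw [← le_bot_iff, ← hFLP]
          exact Subgroup.commutator_mono h2 le_rfl
      have h2 : ⁅generalizedFittingSubgroup H, (P : Subgroup C).map C.subtype⁆ ≤ F ⊔ L := by
        refine le_trans (le_inf (Subgroup.commutator_le_left _ _) ?_) hT
        rwa [Subgroup.commutator_eq_bot_iff_le_centralizer] at h1
      have h3 : ⁅⁅generalizedFittingSubgroup H, (P : Subgroup C).map C.subtype⁆,
          (P : Subgroup C).map C.subtype⁆ = ⊥ := by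
        rw [← le_bot_iff, ← hFLP]
        exact Subgroup.commutator_mono h2 le_rfl
      have h4 := (Cfsg.Agent.S2816.result hO _ hP'p).2 _ le_rfl h3
      rw [Subgroup.map_eq_bot_iff_of_injective _ C.subtype_injective] at h4
      exact hPne h4
    exact key _ le_rfl

end Cfsg.Agent.S2817
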