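import Mathlib
import Cfsg.Statements.S2818
import Cfsg.Agent.Lib.helper17.Frattini

set_option autoImplicit false
open Cfsg
open scoped commutatorElement

namespace Cfsg.Agent.S2818

variable {G : Type*} [Group G]

/-- elements of Ω₁(Z(P)) are central in `P` and have order dividing `p` -/
theorem mem_omegaOne_center {p : ℕ} (P : Subgroup G) {z : G}
    (hz : z ∈ Cfsg.omegaOne p (P ⊓ Subgroup.centralizer (P : Set G))) :
    z ∈ P ∧ (∀ x ∈ P, x * z = z * x) ∧ z ^ p = 1 := by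
  unfold Cfsg.omegaOne at hz
  induction hz using Subgroup.closure_induction with
  | mem x hx =>
    obtain ⟨⟨hxP, hxc⟩, hxp⟩ := hx
    exact ⟨hxP, fun y hy => (Subgroup.mem_centralizer_iff.mp hxc) y hy, hxp⟩
  | one => exact ⟨P.one_mem, fun x _ => by simp, one_pow p⟩
  | mul x y _ _ ihx ihy =>
    obtain ⟨hxP, hxc, hxp⟩ := ihx
    obtain ⟨hyP, hyc, hyp⟩ := ihy
    refine ⟨P.mul_mem hxP hyP, ?_, ?_⟩
    · intro w hw
      rw [← mul_assoc, hxc w hw, mul_assoc, hyc w hw, mul_assoc]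
    · have hc : Commute x y := (hyc x hxP)
      rw [hc.mul_pow, hxp, hyp, one_mul]
  | inv x _ ihx =>
    obtain ⟨hxP, hxc, hxp⟩ := ihx
    refine ⟨P.inv_mem hxP, ?_, by rw [inv_pow, hxp, inv_one]⟩
    intro w hw
    have := hxc w hw
    calc w * x⁻¹ = x⁻¹ * (x * w) * x⁻¹ := by group
      _ = x⁻¹ * (w * x) * x⁻¹ := by rw [this]
      _ = x⁻¹ * w := by group

theorem result {G : Type*} [Group G] [Finite G] {p : ℕ} [Fact p.Prime] (P : Subgroup G) (hP : IsPGroup p ↥P) (H : Subgroup G) (hH : H ≤ Subgroup.normalizer (P : Set G)) (h : ⁅P, H⁆ ≤ Cfsg.omegaOne p (P ⊓ Subgroup.centralizer (P : Set G))) : ⁅(frattini ↥P).map P.subtype, H⁆ = ⊥ := by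
  rw [Subgroup.commutator_eq_bot_iff_le_centralizer]
  rintro _ ⟨y, hy, rfl⟩
  rw [Subgroup.mem_centralizer_iff]
  intro t ht
  -- conjugation by t on P: t x t⁻¹ = x * ζ with ζ central of order dividing p
  have hconj : ∀ x ∈ P, ∃ z : G, z ∈ P ∧ (∀ w ∈ P, w * z = z * w) ∧ z ^ p = 1 ∧ t * x * t⁻¹ = x * z := by
    intro x hx
    have h1 : ⁅x⁻¹, t⁆ ∈ ⁅P, H⁆ := Subgroup.commutator_mem_commutator (P.inv_mem hx) ht
    obtain ⟨hzP, hzc, hzp⟩ := mem_omegaOne_center P (h h1)
    refine ⟨⁅x⁻¹, t⁆, hzP, hzc, hzp, ?_⟩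
    rw [commutatorElement_def]; group
  -- the subgroup of P of elements commuting with t
  let N : Subgroup P :=
    { carrier := {x | (x : G) * t = t * (x : G)}
      one_mem' := by simp
      mul_mem' := by
        intro a b ha hb
        show ((a * b : P) : G) * t = t * ((a * b : P) : G)
        rw [Subgroup.coe_mul, mul_assoc, hb, ← mul_assoc, ha, mul_assoc]
      inv_mem' := by
        intro a ha
        show ((a⁻¹ : P) : G) * t = t * ((a⁻¹ : P) : G)
        rw [Subgroup.coe_inv]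
        have ha' : (a : G) * t = t * (a : G) := ha
        calc (a : G)⁻¹ * t = (a : G)⁻¹ * (t * (a : G)) * (a : G)⁻¹ := by group
          _ = (a : G)⁻¹ * ((a : G) * t) * (a : G)⁻¹ := by rw [ha']
          _ = t * (a : G)⁻¹ := by group }
  have hcommN : ∀ x y : P, ⁅x, y⁆ ∈ N := by
    intro x y
    show ((⁅x, y⁆ : P) : G) * t = t * ((⁅x, y⁆ : P) : G)
    obtain ⟨z, hzP, hzc, -, hxz⟩ := hconj x x.2
    obtain ⟨z', hz'P, hz'c, -, hyz⟩ := hconj y y.2
    have hxz' : t * (x : G)⁻¹ * t⁻¹ = ((x : G) * z)⁻¹ := by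
      rw [← hxz]; group
    have hyz' : t * (y : G)⁻¹ * t⁻¹ = ((y : G) * z')⁻¹ := by
      rw [← hyz]; group
    have e1 : t * ((⁅x, y⁆ : P) : G) * t⁻¹ = ((⁅x, y⁆ : P) : G) := by
      have : ((⁅x, y⁆ : P) : G) = (x : G) * (y : G) * (x : G)⁻¹ * (y : G)⁻¹ := by
        simp [commutatorElement_def]
      rw [this]
      calc t * ((x : G) * (y : G) * (x : G)⁻¹ * (y : G)⁻¹) * t⁻¹
          = (t * (x : G) * t⁻¹) * (t * (y : G) * t⁻¹) * (t * (x : G)⁻¹ * t⁻¹) * (t * (y : G)⁻¹ * t⁻¹) := by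
            group
        _ = ((x : G) * z) * ((y : G) * z') * ((x : G) * z)⁻¹ * ((y : G) * z')⁻¹ := by
            rw [hxz, hyz, hxz', hyz']
        _ = (x : G) * (y : G) * (x : G)⁻¹ * (y : G)⁻¹ := by
            have c1 : z * (y : G) = (y : G) * z := (hzc y y.2).symm
            have c2 : z * z' = z' * z := (hzc z' hz'P).symm
            have c3 : z' * (x : G) = (x : G) * z' := (hz'c x x.2).symm
            have c4 : z * (x : G) = (x : G) * z := (hzc x x.2).symm
            have c5 : z' * (y : G) = (y : G) * z' := (hz'c y y.2).symm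
            simp only [mul_inv_rev]
            calc (x : G) * z * ((y : G) * z') * (z⁻¹ * (x : G)⁻¹) * (z'⁻¹ * (y : G)⁻¹)
                = (x : G) * (z * (y : G)) * (z' * z⁻¹) * (x : G)⁻¹ * z'⁻¹ * (y : G)⁻¹ := by group
              _ = (x : G) * ((y : G) * z) * (z' * z⁻¹) * (x : G)⁻¹ * z'⁻¹ * (y : G)⁻¹ := by rw [c1]
              _ = (x : G) * (y : G) * (z * z') * z⁻¹ * (x : G)⁻¹ * z'⁻¹ * (y : G)⁻¹ := by group
              _ = (x : G) * (y : G) * (z' * z) * z⁻¹ * (x : G)⁻¹ * z'⁻¹ * (y : G)⁻¹ := by rw [c2]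
              _ = (x : G) * (y : G) * (z' * (x : G)⁻¹) * z'⁻¹ * (y : G)⁻¹ := by group
              _ = (x : G) * (y : G) * ((x : G)⁻¹ * z') * z'⁻¹ * (y : G)⁻¹ := by
                  have : z' * (x : G)⁻¹ = (x : G)⁻¹ * z' := by
                    calc z' * (x : G)⁻¹ = (x : G)⁻¹ * ((x : G) * z') * (x : G)⁻¹ := by group
                      _ = (x : G)⁻¹ * (z' * (x : G)) * (x : G)⁻¹ := by rw [c3]
                      _ = (x : G)⁻¹ * z' := by group
                  rw [this]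
              _ = (x : G) * (y : G) * (x : G)⁻¹ * (y : G)⁻¹ := by group
    calc ((⁅x, y⁆ : P) : G) * t = (t * ((⁅x, y⁆ : P) : G) * t⁻¹) * t := by rw [e1]
      _ = t * ((⁅x, y⁆ : P) : G) := by group
  have hpowN : ∀ x : P, x ^ p ∈ N := by
    intro x
    show ((x ^ p : P) : G) * t = t * ((x ^ p : P) : G)
    obtain ⟨z, hzP, hzc, hzp, hxz⟩ := hconj x x.2
    have e1 : t * ((x ^ p : P) : G) * t⁻¹ = ((x ^ p : P) : G) := by
      rw [Subgroup.coe_pow]
      have : t * (x : G) ^ p * t⁻¹ = (t * (x : G) * t⁻¹) ^ p := by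
        rw [conj_pow]
      rw [this, hxz]
      have hc : Commute (x : G) z := hzc x x.2
      rw [hc.mul_pow, hzp, mul_one]
    calc ((x ^ p : P) : G) * t = (t * ((x ^ p : P) : G) * t⁻¹) * t := by rw [e1]
      _ = t * ((x ^ p : P) : G) := by group
  have hcl : commutator P ≤ N := by
    rw [commutator_eq_closure, Subgroup.closure_le]
    rintro _ ⟨a, b, rfl⟩
    exact hcommN a b
  have : N.Normal := Subgroup.Normal.of_commutator_le (h := hcl)
  have hle := Cfsg.Agent.Lib.helper17.frattini_le_of_comm_pow_mem (p := p) N hcommN hpowN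
  have := hle hy
  exact this.symm

end Cfsg.Agent.S2818
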