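import Mathlib
import Cfsg.Statements.S2819
import Cfsg.Agent.Lib.helper17.Frattini
import Cfsg.Agent.Lib.helper17.CharP3
import Cfsg.Agent.Lib.helper17.CharP4
import Cfsg.Agent.Lib.helper17.Large2
import Cfsg.Agent.Lib.helper17.Op

set_option autoImplicit false
open Cfsg

namespace Cfsg.Agent.S2819

open Cfsg.Agent.Lib.helper17
open scoped commutatorElement

variable {G : Type*} [Group G]

/-- Conjugation by an element of `N_G(P)`, as an automorphism of `P`. -/
def conjEquivOfMem {P : Subgroup G} {n : G} (hn : n ∈ Subgroup.normalizer (P : Set G)) : ↥P ≃* ↥P where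
  toFun x := ⟨n * x * n⁻¹, (Subgroup.mem_normalizer_iff.mp hn x).mp x.2⟩
  invFun x := ⟨n⁻¹ * x * n, by
    have := (Subgroup.mem_normalizer_iff.mp hn (n⁻¹ * x * n)).mpr (by simpa [mul_assoc] using x.2)
    exact this⟩
  left_inv x := Subtype.ext (by simp [mul_assoc])
  right_inv x := Subtype.ext (by simp [mul_assoc])
  map_mul' x y := Subtype.ext (by simp [mul_assoc])

theorem normalizer_le_normalizer_map_of_characteristic {P : Subgroup G} (K : Subgroup ↥P)
    [hK : K.Characteristic] :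
    Subgroup.normalizer (P : Set G) ≤ Subgroup.normalizer ((K.map P.subtype : Subgroup G) : Set G) := by
  apply le_normalizer_of_cj_le'
  intro n hn
  rintro _ ⟨_, ⟨x, hx, rfl⟩, rfl⟩
  have h1 := Subgroup.characteristic_iff_le_comap.mp hK (conjEquivOfMem hn) hx
  exact ⟨conjEquivOfMem hn x, h1, rfl⟩

theorem comm_mem_of_mem_normalizer {P : Subgroup G} {y x : G} (hy : y ∈ Subgroup.normalizer (P : Set G))
    (hx : x ∈ P) : ⁅y, x⁆ ∈ P := by
  rw [commutatorElement_def]
  exact P.mul_mem ((Subgroup.mem_normalizer_iff.mp hy x).mp hx) (P.inv_mem hx)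

theorem commutatorElement_mul_right'' (x y z : G) :
    ⁅x, y * z⁆ = ⁅x, y⁆ * (y * ⁅x, z⁆ * y⁻¹) := by
  simp only [commutatorElement_def]
  group

theorem conj_mem_comm {P : Subgroup G} {a c : G} (ha : a ∈ P) (hc : c ∈ ⁅P, P⁆) :
    a * c * a⁻¹ ∈ ⁅P, P⁆ := by
  have h1 : P ≤ Subgroup.normalizer ((⁅P, P⁆ : Subgroup G) : Set G) :=
    le_normalizer_commutator Subgroup.le_normalizer Subgroup.le_normalizer
  exact (Subgroup.mem_normalizer_iff.mp (h1 ha) c).mp hc

theorem comm_pow_mem {P : Subgroup G} {y x : G} (hy : y ∈ Subgroup.normalizer (P : Set G))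
    (hx : x ∈ P) (n : ℕ) : ⁅y, x ^ n⁆ * (⁅y, x⁆ ^ n)⁻¹ ∈ ⁅P, P⁆ := by
  induction n with
  | zero => simp
  | succ n ih =>
    have ht : ⁅y, x⁆ ∈ P := comm_mem_of_mem_normalizer hy hx
    have hu : ⁅y, x ^ n⁆ ∈ P := comm_mem_of_mem_normalizer hy (P.pow_mem hx n)
    have h1 : ⁅x, ⁅y, x ^ n⁆⁆ ∈ ⁅P, P⁆ := Subgroup.commutator_mem_commutator hx hu
    have h2 := conj_mem_comm ht (Subgroup.mul_mem _ h1 ih)
    have e : ∀ t u w : G, t * (x * u * x⁻¹) * (t * w)⁻¹ = t * (⁅x, u⁆ * (u * w⁻¹)) * t⁻¹ := by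
      intro t u w
      simp only [commutatorElement_def]
      group
    rw [pow_succ' x n, commutatorElement_mul_right'', pow_succ' ⁅y, x⁆ n, e]
    exact h2

/-- `y` stabilises the chain `Φ(P) ≥ P' ≥ 1`. -/
theorem stab_frattini [Finite G] {p : ℕ} [Fact p.Prime] {P : Subgroup G} {y : G}
    (hy : y ∈ Subgroup.normalizer (P : Set G))
    (hyc : y ∈ Subgroup.centralizer ((⁅P, P⁆ : Subgroup G) : Set G))
    (hyp : ∀ x ∈ P, ⁅y, x⁆ ^ p = 1) :
    ∀ v ∈ (frattini ↥P).map P.subtype, ⁅y, v⁆ ∈ ⁅P, P⁆ := by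
  have hc1 : ∀ c ∈ ⁅P, P⁆, ⁅y, c⁆ = 1 := by
    intro c hc
    rw [commutatorElement_eq_one_iff_mul_comm]
    exact ((Subgroup.mem_centralizer_iff.mp hyc) c hc).symm
  let N : Subgroup ↥P :=
    { carrier := {v | ⁅y, (v : G)⁆ ∈ ⁅P, P⁆}
      one_mem' := by
        show ⁅y, ((1 : ↥P) : G)⁆ ∈ ⁅P, P⁆
        simp
      mul_mem' := by
        intro a b ha hb
        show ⁅y, ((a * b : ↥P) : G)⁆ ∈ ⁅P, P⁆
        rw [Subgroup.coe_mul, commutatorElement_mul_right'']
        exact Subgroup.mul_mem _ ha (conj_mem_comm a.2 hb)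
      inv_mem' := by
        intro a ha
        show ⁅y, ((a⁻¹ : ↥P) : G)⁆ ∈ ⁅P, P⁆
        have e : ⁅y, ((a⁻¹ : ↥P) : G)⁆ = (a : G)⁻¹ * ⁅y, (a : G)⁆⁻¹ * ((a : G)⁻¹)⁻¹ := by
          rw [Subgroup.coe_inv]
          simp only [commutatorElement_def]
          group
        rw [e]
        exact conj_mem_comm (P.inv_mem a.2) (Subgroup.inv_mem _ ha) }
  have hmemN : ∀ v : ↥P, v ∈ N ↔ ⁅y, (v : G)⁆ ∈ ⁅P, P⁆ := fun v => Iff.rfl
  have hcommN : ∀ a b : ↥P, ⁅a, b⁆ ∈ N := by
    intro a b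
    rw [hmemN]
    have h1 : ((⁅a, b⁆ : ↥P) : G) = ⁅(a : G), (b : G)⁆ := by
      simp [commutatorElement_def]
    rw [h1, hc1 _ (Subgroup.commutator_mem_commutator a.2 b.2)]
    exact Subgroup.one_mem _
  have hN : N.Normal := by
    constructor
    intro v hv x
    have e : x * v * x⁻¹ = ⁅x, v⁆ * v := by
      rw [commutatorElement_def]; group
    rw [e]
    exact N.mul_mem (hcommN x v) hv
  have hpowN : ∀ a : ↥P, a ^ p ∈ N := by
    intro a
    rw [hmemN]
    have h1 := comm_pow_mem hy a.2 p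
    rw [hyp _ a.2, inv_one, mul_one] at h1
    rw [Subgroup.coe_pow]
    exact h1
  have hfr : frattini ↥P ≤ N := frattini_le_of_comm_pow_mem (p := p) N hcommN hpowN
  rintro _ ⟨v, hv, rfl⟩
  exact hfr hv

theorem result {G : Type*} [Group G] [Finite G] {p : ℕ} [Fact p.Prime] (P : Subgroup G) (hP : IsPGroup p ↥P) (H : Subgroup G) (hH : H ≤ Subgroup.normalizer (P : Set G)) (Y : Subgroup G) (hYH : Y ≤ H) (hYc : Y ≤ Subgroup.centralizer ((⁅P, P⁆ : Subgroup G) : Set G)) (hel : Cfsg.IsElementaryAbelian p ⁅P, Y⁆) (NY : Subgroup G) (hNY : NY = (Subgroup.normalClosure ((Y.subgroupOf H : Subgroup ↥H) : Set ↥H)).map H.subtype) : (Cfsg.pResidual p ↥NY).map NY.subtype ≤ Subgroup.centralizer (((frattini ↥P).map P.subtype : Subgroup G) : Set G) := by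
  have hNP' : Subgroup.normalizer (P : Set G) ≤ Subgroup.normalizer ((⁅P, P⁆ : Subgroup G) : Set G) :=
    le_normalizer_commutator le_rfl le_rfl
  have hNΦ : Subgroup.normalizer (P : Set G) ≤
      Subgroup.normalizer (((frattini ↥P).map P.subtype : Subgroup G) : Set G) :=
    normalizer_le_normalizer_map_of_characteristic (frattini ↥P)
  have hP'P : ⁅P, P⁆ ≤ P := Subgroup.commutator_le.mpr
    (fun a ha b hb => P.mul_mem (P.mul_mem (P.mul_mem ha hb) (P.inv_mem ha)) (P.inv_mem hb))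
  -- the stabiliser of the chain
  have hHS : H ≤ Subgroup.normalizer ((chainKer ((frattini ↥P).map P.subtype) ⁅P, P⁆ ⊓
      Subgroup.centralizer ((⁅P, P⁆ : Subgroup G) : Set G) : Subgroup G) : Set G) := by
    apply le_normalizer_inf'
    · apply le_normalizer_of_cj_le'
      intro h hh x hx
      rw [mem_cj] at hx
      have h1 := conj_mem_chainKer (hNΦ (hH hh)) (hNP' (hH hh)) hx
      have e : h * (h⁻¹ * x * h) * h⁻¹ = x := by group
      rwa [e] at h1
    · exact (hH.trans hNP').trans (normalizer_le_normalizer_centralizer' _)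
  have hYS : Y ≤ chainKer ((frattini ↥P).map P.subtype) ⁅P, P⁆ ⊓
      Subgroup.centralizer ((⁅P, P⁆ : Subgroup G) : Set G) := by
    intro y hy
    have hyN : y ∈ Subgroup.normalizer (P : Set G) := hH (hYH hy)
    refine ⟨⟨hNΦ hyN, hNP' hyN, ?_⟩, hYc hy⟩
    intro v hv
    have hyp : ∀ x ∈ P, ⁅y, x⁆ ^ p = 1 := by
      intro x hx
      have h1 : ⁅x, y⁆ ∈ ⁅P, Y⁆ := Subgroup.commutator_mem_commutator hx hy
      have h2 := hel.2 _ h1
      rw [← commutatorElement_inv x y, inv_pow, h2, inv_one]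
    have := stab_frattini (p := p) hyN (hYc hy) hyp v hv
    rwa [commutatorElement_def] at this
  have hNYS : NY ≤ chainKer ((frattini ↥P).map P.subtype) ⁅P, P⁆ ⊓
      Subgroup.centralizer ((⁅P, P⁆ : Subgroup G) : Set G) := by
    rw [hNY, Subgroup.map_le_iff_le_comap]
    have hn : ((chainKer ((frattini ↥P).map P.subtype) ⁅P, P⁆ ⊓
      Subgroup.centralizer ((⁅P, P⁆ : Subgroup G) : Set G)).comap H.subtype).Normal := by
      constructor
      intro n hn g
      rw [Subgroup.mem_comap] at hn ⊢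
      exact (Subgroup.mem_normalizer_iff.mp (hHS g.2) _).mp hn
    apply Subgroup.normalClosure_le_normal
    intro y hy
    exact hYS (Subgroup.mem_subgroupOf.mp hy)
  rw [Subgroup.map_le_iff_le_comap]
  unfold Cfsg.pResidual
  rw [Subgroup.closure_le]
  intro g hg
  have hg' : Nat.Coprime (orderOf g) p := hg
  rw [← Subgroup.orderOf_coe] at hg'
  obtain ⟨⟨-, -, h1⟩, h2⟩ := hNYS g.2
  have hZ : IsPGroup p (⁅P, P⁆ : Subgroup G) := hP.to_le hP'P
  have h3 := centralizes_of_stabilizes_chain hg' (V := (frattini ↥P).map P.subtype) hZ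
    (fun v hv => by rw [commutatorElement_def]; exact h1 v hv)
    (fun z hz => ((Subgroup.mem_centralizer_iff.mp h2) z hz).symm)
  show (g : G) ∈ Subgroup.centralizer _
  rw [Subgroup.mem_centralizer_iff]
  intro v hv
  exact (h3 v hv).symm

end Cfsg.Agent.S2819
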