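import Mathlib
import Cfsg.Statements.S2821
import Cfsg.Agent.Lib.helper17.PRed5

set_option autoImplicit false
open Cfsg

namespace Cfsg.Agent.S2821

open Cfsg.Agent.Lib.helper17

theorem result {H : Type*} [Group H] [Finite H] {p : ℕ} [Fact p.Prime] (T : Sylow p H) (L : Subgroup H) (hTL : (T : Subgroup H) ≤ L) (hL : Subgroup.centralizer (Cfsg.pCore p ↥L : Set ↥L) ≤ Cfsg.pCore p ↥L) (T₀ : Subgroup H) (hT₀ : T₀ = (T : Subgroup H) ⊓ Subgroup.centralizer (((Cfsg.largestPReducedOf p L) : Subgroup H) : Set H)) : (∃ P : Sylow p ↥(Subgroup.centralizer (((Cfsg.largestPReducedOf p L) : Subgroup H) : Set H)), (P : Subgroup ↥(Subgroup.centralizer (((Cfsg.largestPReducedOf p L) : Subgroup H) : Set H))) = T₀.subgroupOf (Subgroup.centralizer (((Cfsg.largestPReducedOf p L) : Subgroup H) : Set H))) ∧ (Cfsg.pCoreOf p L) ≤ T₀ ∧ T₀ ≤ L ⊓ Subgroup.centralizer (((Cfsg.largestPReducedOf p L) : Subgroup H) : Set H) ∧ (Cfsg.omegaOne p ((T : Subgroup H) ⊓ Subgroup.centralizer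 (((T : Subgroup H) : Subgroup H) : Set H))) ≤ Cfsg.sylowCenterClosure p L ∧ Cfsg.sylowCenterClosure p L ≤ (Cfsg.largestPReducedOf p L) ∧ (Cfsg.largestPReducedOf p L) ≤ (Cfsg.omegaOne p ((Cfsg.pCoreOf p L) ⊓ Subgroup.centralizer (((Cfsg.pCoreOf p L) : Subgroup H) : Set H))) := by
  have hLc : CharPSub p L := (charPSub_iff p L).mp hL
  have hY : PRedIn p L (Cfsg.largestPReducedOf p L) := largestPReducedOf_pRedIn p L
  have hTC : (T : Subgroup H) ≤ Subgroup.normalizer
      ((Subgroup.centralizer (((Cfsg.largestPReducedOf p L) : Subgroup H) : Set H) : Subgroup H) : Set H) :=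
    (hTL.trans hY.2.1).trans (normalizer_le_normalizer_centralizer' _)
  refine ⟨⟨sylowInfOfLeNormalizer T hTC, ?_⟩, ?_, ?_, ?_, ?_, ?_⟩
  · rw [sylowInfOfLeNormalizer_coe, hT₀, Subgroup.inf_subgroupOf_right]
  · rw [hT₀]
    exact le_inf (pCoreOf_le_sylow T hTL) hY.pCoreOf_le_centralizer
  · rw [hT₀]
    exact le_inf (inf_le_left.trans hTL) inf_le_right
  · exact omegaOne_center_sylow_le_sylowCenterClosure T hTL
  · exact sylowCenterClosure_le_largestPReducedOf T hTL hLc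
  · exact hY.le_omegaOne

end Cfsg.Agent.S2821
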