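import Mathlib
import Cfsg.Statements.S2823
import Cfsg.Agent.Lib.helper17.PRed7

set_option autoImplicit false
open Cfsg

namespace Cfsg.Agent.S2823

open Cfsg.Agent.Lib.helper17
open scoped commutatorElement

/-- `L = O^p(L) T'` for a Sylow subgroup `T' ≤ L`, elementwise in the ambient group. -/
theorem exists_mul_residual_sylow {H : Type*} [Group H] [Finite H] {p : ℕ} [Fact p.Prime] (T' : Sylow p H)
    {L : Subgroup H} (hT'L : (T' : Subgroup H) ≤ L) {g : H} (hg : g ∈ L) :
    ∃ r ∈ (Cfsg.pResidual p ↥L).map L.subtype, ∃ t ∈ (T' : Subgroup H), g = r * t := by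
  have h1 := pResidual_sup_sylow (T'.subtype hT'L)
  have hn := pResidual_normal p ↥L
  have hle : ((T'.subtype hT'L : Sylow p ↥L) : Subgroup ↥L) ≤
      Subgroup.normalizer ((Cfsg.pResidual p ↥L : Subgroup ↥L) : Set ↥L) := by
    rw [Subgroup.normalizer_eq_top_iff.mpr hn]
    exact le_top
  have h2 : (⟨g, hg⟩ : ↥L) ∈ Cfsg.pResidual p ↥L ⊔ ((T'.subtype hT'L : Sylow p ↥L) : Subgroup ↥L) := by
    rw [h1]; exact Subgroup.mem_top _
  obtain ⟨r, hr, t, ht, hrt⟩ := exists_mul_of_mem_sup_right hle h2
  refine ⟨(r : H), ⟨r, hr, rfl⟩, (t : H), ?_, ?_⟩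
  · rw [Sylow.coe_subtype] at ht
    exact Subgroup.mem_subgroupOf.mp ht
  · have := congrArg Subtype.val hrt
    simpa using this

theorem result {H : Type*} [Group H] [Finite H] {p : ℕ} [Fact p.Prime] (T : Sylow p H) (L : Subgroup H) (hTL : (T : Subgroup H) ≤ L) (hL : Subgroup.centralizer (Cfsg.pCore p ↥L : Set ↥L) ≤ Cfsg.pCore p ↥L) : Cfsg.sylowCenterClosure p L = (Cfsg.omegaOne p (L ⊓ Subgroup.centralizer ((L : Subgroup H) : Set H))) ⊔ ⁅Cfsg.sylowCenterClosure p L, (Cfsg.pResidual p ↥L).map L.subtype⁆ ∧ ⁅Cfsg.sylowCenterClosure p L, L⁆ = ⁅Cfsg.sylowCenterClosure p L, (Cfsg.pResidual p ↥L).map L.subtype⁆ := by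
  have hLc : CharPSub p L := (charPSub_iff p L).mp hL
  have hY : PRedIn p L (Cfsg.largestPReducedOf p L) := largestPReducedOf_pRedIn p L
  have hZY : Cfsg.sylowCenterClosure p L ≤ Cfsg.largestPReducedOf p L :=
    sylowCenterClosure_le_largestPReducedOf T hTL hLc
  have hZel : Cfsg.IsElementaryAbelian p (Cfsg.sylowCenterClosure p L) :=
    isElementaryAbelian_mono hY.2.2.1 hZY
  have hZL : Cfsg.sylowCenterClosure p L ≤ L := hZY.trans hY.1
  have hLZ : L ≤ Subgroup.normalizer ((Cfsg.sylowCenterClosure p L : Subgroup H) : Set H) :=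
    le_normalizer_sylowCenterClosure T hTL
  have hR'L : (Cfsg.pResidual p ↥L).map L.subtype ≤ L := Subgroup.map_subtype_le _
  have hLR' : L ≤ Subgroup.normalizer (((Cfsg.pResidual p ↥L).map L.subtype : Subgroup H) : Set H) :=
    (normal_iff_le_normalizer_map _).mp (pResidual_normal p ↥L)
  have hLW : L ≤ Subgroup.normalizer ((⁅Cfsg.sylowCenterClosure p L, (Cfsg.pResidual p ↥L).map L.subtype⁆ : Subgroup H) : Set H) :=
    le_normalizer_commutator hLZ hLR'
  have hWZ : ⁅Cfsg.sylowCenterClosure p L, (Cfsg.pResidual p ↥L).map L.subtype⁆ ≤ Cfsg.sylowCenterClosure p L := by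
    rw [Subgroup.commutator_comm]
    exact Subgroup.le_normalizer_iff_commutator_le_right.mp (hR'L.trans hLZ)
  have hXZ : Cfsg.omegaOne p ((T : Subgroup H) ⊓ Subgroup.centralizer ((T : Subgroup H) : Set H)) ≤
      Cfsg.sylowCenterClosure p L := omegaOne_center_sylow_le_sylowCenterClosure T hTL
  -- part 2
  have h2 : ⁅Cfsg.sylowCenterClosure p L, L⁆ = ⁅Cfsg.sylowCenterClosure p L, (Cfsg.pResidual p ↥L).map L.subtype⁆ := by
    apply le_antisymm
    · have hn : (⨆ l : ↥L, cj (l : H) (Cfsg.omegaOne p ((T : Subgroup H) ⊓ Subgroup.centralizer ((T : Subgroup H) : Set H)))) ≤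
          Subgroup.normalizer ((⁅Cfsg.sylowCenterClosure p L, (Cfsg.pResidual p ↥L).map L.subtype⁆ : Subgroup H) : Set H) := by
        have e := sylowCenterClosure_eq_conjClosure T hTL
        unfold conjClosure at e
        rw [← e]
        exact hZL.trans hLW
      have key := commutator_iSup_le (fun l : ↥L => cj (l : H) (Cfsg.omegaOne p ((T : Subgroup H) ⊓ Subgroup.centralizer ((T : Subgroup H) : Set H))))
        L ⁅Cfsg.sylowCenterClosure p L, (Cfsg.pResidual p ↥L).map L.subtype⁆ hn (by
          intro l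
          rw [Subgroup.commutator_le]
          intro z hz g hg
          have hT'L : (((l : H) • T : Sylow p H) : Subgroup H) ≤ L := by
            rw [sylow_smul_coe_eq_cj]
            exact cj_le_of_mem hTL l.2
          have hzZ : z ∈ Cfsg.sylowCenterClosure p L := by
            rw [sylowCenterClosure_eq_conjClosure T hTL]
            exact cj_le_conjClosure L _ l.2 hz
          rw [cj_omegaOne_center, ← sylow_smul_coe_eq_cj] at hz
          have hzc : z ∈ Subgroup.centralizer ((((l : H) • T : Sylow p H) : Subgroup H) : Set H) :=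
            ((omegaOne_le _).trans inf_le_right) hz
          obtain ⟨r, hr, t, ht, rfl⟩ := exists_mul_residual_sylow ((l : H) • T) hT'L hg
          have h1 : ⁅z, t⁆ = 1 := by
            rw [commutatorElement_eq_one_iff_mul_comm]
            exact ((Subgroup.mem_centralizer_iff.mp hzc) t ht).symm
          have e : ⁅z, r * t⁆ = ⁅z, r⁆ * (r * ⁅z, t⁆ * r⁻¹) := by
            simp only [commutatorElement_def]; group
          rw [e, h1, mul_one, mul_inv_cancel, mul_one]
          exact Subgroup.commutator_mem_commutator hzZ hr)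
      have e := sylowCenterClosure_eq_conjClosure T hTL
      unfold conjClosure at e
      rw [← e] at key
      exact key
    · exact Subgroup.commutator_mono le_rfl hR'L
  refine ⟨?_, h2⟩
  apply le_antisymm
  · have hLRHS : L ≤ Subgroup.normalizer (((Cfsg.omegaOne p (L ⊓ Subgroup.centralizer ((L : Subgroup H) : Set H))) ⊔
        ⁅Cfsg.sylowCenterClosure p L, (Cfsg.pResidual p ↥L).map L.subtype⁆ : Subgroup H) : Set H) :=
      le_normalizer_sup (le_normalizer_omegaOne_center Subgroup.le_normalizer) hLW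
    have hX : Cfsg.omegaOne p ((T : Subgroup H) ⊓ Subgroup.centralizer ((T : Subgroup H) : Set H)) ≤
        (Cfsg.omegaOne p (L ⊓ Subgroup.centralizer ((L : Subgroup H) : Set H))) ⊔
        ⁅Cfsg.sylowCenterClosure p L, (Cfsg.pResidual p ↥L).map L.subtype⁆ := by
      unfold Cfsg.omegaOne
      rw [Subgroup.closure_le]
      rintro z ⟨⟨hzT, hzc⟩, hzp⟩
      have hzZ : z ∈ Cfsg.sylowCenterClosure p L := hXZ (mem_omegaOne ⟨hzT, hzc⟩ hzp)
      -- averaging inside `L`
      have hVn : ((Cfsg.sylowCenterClosure p L).subgroupOf L).Normal :=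
        (Subgroup.normal_subgroupOf_iff_le_normalizer hZL).mpr hLZ
      have hVmap : ((Cfsg.sylowCenterClosure p L).subgroupOf L).map L.subtype = Cfsg.sylowCenterClosure p L := by
        rw [Subgroup.subgroupOf_map_subtype, inf_eq_left.mpr hZL]
      have hVel : Cfsg.IsElementaryAbelian p ((Cfsg.sylowCenterClosure p L).subgroupOf L) := by
        rw [← isElementaryAbelian_map_subtype, hVmap]
        exact hZel
      obtain ⟨a, haV, hac, b, hb, hzab⟩ := exists_central_mul_commutator (T.subtype hTL)
        ((Cfsg.sylowCenterClosure p L).subgroupOf L) hVel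
        (z := ⟨z, hTL hzT⟩) (Subgroup.mem_subgroupOf.mpr hzZ) (by
          intro s hs
          rw [Sylow.coe_subtype] at hs
          apply Subtype.ext
          exact (Subgroup.mem_centralizer_iff.mp hzc) (s : H) (Subgroup.mem_subgroupOf.mp hs))
      have hz' : z = (a : H) * (b : H) := by
        have := congrArg Subtype.val hzab
        simpa using this
      rw [hz']
      apply Subgroup.mul_mem
      · apply le_sup_left (a := Cfsg.omegaOne p (L ⊓ Subgroup.centralizer ((L : Subgroup H) : Set H)))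
        apply mem_omegaOne
        · refine Subgroup.mem_inf.mpr ⟨a.2, ?_⟩
          rw [Subgroup.mem_centralizer_iff]
          intro g hg
          exact congrArg Subtype.val (hac ⟨g, hg⟩)
        · exact hZel.2 _ (Subgroup.mem_subgroupOf.mp haV)
      · apply le_sup_right (a := Cfsg.omegaOne p (L ⊓ Subgroup.centralizer ((L : Subgroup H) : Set H)))
        have h3 : (b : H) ∈ (⁅(Cfsg.sylowCenterClosure p L).subgroupOf L, Cfsg.pResidual p ↥L⁆).map L.subtype :=
          ⟨b, hb, rfl⟩
        rw [Subgroup.map_commutator, hVmap] at h3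
        exact h3
    rw [sylowCenterClosure_eq_conjClosure T hTL]
    rw [sylowCenterClosure_eq_conjClosure T hTL] at hX hLRHS
    exact conjClosure_le_of hX hLRHS
  · apply sup_le _ hWZ
    exact (omegaOne_center_le_omegaOne_center_sylow T hTL).trans hXZ

end Cfsg.Agent.S2823
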