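import Mathlib
import Cfsg.Statements.S2825
import Cfsg.Agent.Lib.helper17.PRed10

set_option autoImplicit false
open Cfsg

namespace Cfsg.Agent.S2825

open Cfsg.Agent.Lib.helper17
open scoped commutatorElement

/-- (c⊇) for subnormal `L`. -/
theorem inf_centralizer_le_of_subnormal {H : Type*} [Group H] [Finite H] {p : ℕ} [Fact p.Prime]
    {L : Subgroup H} (hL : L.IsSubnormal) :
    L ⊓ Subgroup.centralizer (Cfsg.largestPReduced p H : Set H) ≤
      Subgroup.centralizer ((Cfsg.largestPReducedOf p L : Subgroup H) : Set H) := by
  induction hL with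
  | top =>
    rw [largestPReduced_top]
    exact inf_le_right
  | step A B hle hB hn ih =>
    have hBA : B ≤ Subgroup.normalizer (A : Set H) :=
      (Subgroup.normal_subgroupOf_iff_le_normalizer hle).mp hn
    refine le_trans ?_ (inf_centralizer_largestPReducedOf_le hle hBA)
    refine le_inf inf_le_left ?_
    exact le_trans (le_inf (inf_le_left.trans hle) inf_le_right) ih

/-- Let L be a subnormal subgroup of the finite group H, p a prime, Y_H and Y_L the largest p-reduced normal subgroups. Then Y_H ∩ L = Y_H ∩ Y_L and this subgroup is a p-reduced normal subgroup of L; C_L(Y_L) = C_L(Y_H) = C_L(Y_H ∩ L); and if O^p(H) ≤ L, then [Y_L, L] = 1 if and only if [Y_H, H] = 1. -/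
theorem result {H : Type*} [Group H] [Finite H] {p : ℕ} [Fact p.Prime] (L : Subgroup H) (hL : L.IsSubnormal) : Cfsg.largestPReduced p H ⊓ L = Cfsg.largestPReduced p H ⊓ (Cfsg.largestPReducedOf p L) ∧ Cfsg.IsPReducedNormal p ((Cfsg.largestPReduced p H ⊓ L).subgroupOf L) ∧ L ⊓ Subgroup.centralizer ((Cfsg.largestPReducedOf p L : Subgroup H) : Set H) = L ⊓ Subgroup.centralizer (Cfsg.largestPReduced p H : Set H) ∧ L ⊓ Subgroup.centralizer (Cfsg.largestPReduced p H : Set H) = L ⊓ Subgroup.centralizer ((Cfsg.largestPReduced p H ⊓ L : Subgroup H) : Set H) ∧ (Cfsg.pResidual p H ≤ L → (⁅(Cfsg.largestPReducedOf p L), L⁆ = ⊥ ↔ ⁅Cfsg.largestPReduced p H, (⊤ : Subgroup H)⁆ = ⊥)) := by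
  have hYH : PRed p (largestPReduced p H) := largestPReduced_pRed p H
  have hYHn : (largestPReduced p H).Normal := hYH.1
  have hYL : PRedIn p L (largestPReducedOf p L) := largestPReducedOf_pRedIn p L
  -- subnormality of normal subgroups of L
  have hsub : ∀ D : Subgroup H, D ≤ L → L ≤ Subgroup.normalizer (D : Set H) → D.IsSubnormal := by
    intro D hDL hLD
    exact Subgroup.IsSubnormal.step D L hDL hL
      ((Subgroup.normal_subgroupOf_iff_le_normalizer hDL).mpr hLD)
  -- K1 applied to normal subgroups of L
  have hK1 : ∀ D : Subgroup H, D ≤ L → L ≤ Subgroup.normalizer (D : Set H) →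
      (∀ x ∈ D, Nat.Coprime (orderOf x) p →
        x ∈ Subgroup.centralizer ((largestPReduced p H ⊓ L : Subgroup H) : Set H)) →
      D ≤ Subgroup.centralizer (largestPReduced p H : Set H) := by
    intro D hDL hLD h
    apply le_centralizer_of_subnormal_of_coprime_centralize hYH (hsub D hDL hLD)
    intro x hx hc
    exact Subgroup.centralizer_le
      (show largestPReduced p H ⊓ D ≤ largestPReduced p H ⊓ L from inf_le_inf_left _ hDL)
      (h x hx hc)
  have hLV : L ≤ Subgroup.normalizer ((largestPReduced p H ⊓ L : Subgroup H) : Set H) :=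
    le_normalizer_inf' (by rw [Subgroup.normalizer_eq_top_iff.mpr hYHn]; exact le_top)
      Subgroup.le_normalizer
  -- (b)
  have hb : PRedIn p L (largestPReduced p H ⊓ L) := by
    refine ⟨inf_le_right, hLV, isElementaryAbelian_mono hYH.2.1 inf_le_left, ?_⟩
    intro D hDL hLD hp
    refine (hK1 D hDL hLD ?_).trans (Subgroup.centralizer_le inf_le_left)
    intro x hx hc
    obtain ⟨k, hk⟩ := hp x hx
    exact mem_of_coprime_of_pow_mem hc hk
  -- (a)
  have ha : largestPReduced p H ⊓ L = largestPReduced p H ⊓ largestPReducedOf p L := by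
    apply le_antisymm
    · exact le_inf inf_le_left (le_largestPReducedOf hb)
    · exact inf_le_inf_left _ hYL.1
  -- (d)
  have hd : L ⊓ Subgroup.centralizer (largestPReduced p H : Set H) =
      L ⊓ Subgroup.centralizer ((largestPReduced p H ⊓ L : Subgroup H) : Set H) := by
    apply le_antisymm
    · exact inf_le_inf_left _ (Subgroup.centralizer_le inf_le_left)
    · refine le_inf inf_le_left ?_
      apply hK1 _ inf_le_left
      · exact le_normalizer_inf' Subgroup.le_normalizer
          (hLV.trans (normalizer_le_normalizer_centralizer' _))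
      · intro x hx _
        exact hx.2
  -- (c)
  have hc : L ⊓ Subgroup.centralizer ((largestPReducedOf p L : Subgroup H) : Set H) =
      L ⊓ Subgroup.centralizer (largestPReduced p H : Set H) := by
    apply le_antisymm
    · refine le_inf inf_le_left ?_
      apply hK1 _ inf_le_left
      · exact le_normalizer_inf' Subgroup.le_normalizer
          (hYL.2.1.trans (normalizer_le_normalizer_centralizer' _))
      · intro x hx _
        refine Subgroup.centralizer_le ?_ hx.2
        rw [ha]
        exact inf_le_right
    · exact le_inf inf_le_left (inf_centralizer_le_of_subnormal hL)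
  refine ⟨ha, ?_, hc, hd, ?_⟩
  · rw [isPReducedNormal_iff_pRedIn_map, Subgroup.map_subgroupOf_eq_of_le inf_le_right]
    exact hb
  · intro hres
    constructor
    · intro h
      have h1 : L ≤ Subgroup.centralizer ((largestPReducedOf p L : Subgroup H) : Set H) := by
        rw [Subgroup.commutator_comm, Subgroup.commutator_eq_bot_iff_le_centralizer] at h
        exact h
      have h2 : L ≤ Subgroup.centralizer (largestPReduced p H : Set H) := by
        have : L ≤ L ⊓ Subgroup.centralizer ((largestPReducedOf p L : Subgroup H) : Set H) :=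
          le_inf le_rfl h1
        rw [hc] at this
        exact this.trans inf_le_right
      have h3 : (⊤ : Subgroup H) ≤ Subgroup.centralizer (largestPReduced p H : Set H) := by
        apply hYH.2.2 ⊤ inferInstance
        apply pPowIn_of_forall_coprime
        intro g _ hg
        exact h2 (hres (mem_pResidual_of_coprime hg))
      rw [Subgroup.commutator_comm, Subgroup.commutator_eq_bot_iff_le_centralizer]
      exact h3
    · intro h
      have h1 : (⊤ : Subgroup H) ≤ Subgroup.centralizer (largestPReduced p H : Set H) := by
        rw [Subgroup.commutator_comm, Subgroup.commutator_eq_bot_iff_le_centralizer] at h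
        exact h
      have h2 : L ≤ L ⊓ Subgroup.centralizer (largestPReduced p H : Set H) :=
        le_inf le_rfl (le_top.trans h1)
      rw [← hc] at h2
      rw [Subgroup.commutator_comm, Subgroup.commutator_eq_bot_iff_le_centralizer]
      exact h2.trans inf_le_right

end Cfsg.Agent.S2825
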