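import Mathlib
import Cfsg.Statements.S2826
import Cfsg.Agent.Lib.helper17.PRed7

set_option autoImplicit false
open Cfsg

namespace Cfsg.Agent.S2826

open Cfsg.Agent.Lib.helper17
open scoped commutatorElement

theorem result {H : Type*} [Group H] [Finite H] {p : ℕ} [Fact p.Prime] (hH : Subgroup.centralizer (Cfsg.pCore p H : Set H) ≤ Cfsg.pCore p H) (T : Sylow p H) (V : Subgroup H) [V.Normal] (hV : Cfsg.IsElementaryAbelian p V) (hZV : (Cfsg.omegaOne p ((T : Subgroup H) ⊓ Subgroup.centralizer (((T : Subgroup H) : Subgroup H) : Set H))) ≤ V) : Subgroup.centralizer ((Cfsg.omegaOne p ((T : Subgroup H) ⊓ Subgroup.centralizer (((T : Subgroup H) : Subgroup H) : Set H))) : Set H) = Subgroup.centralizer (((⁅V, Cfsg.pResidual p H⁆ ⊓ (Cfsg.omegaOne p ((T : Subgroup H) ⊓ Subgroup.centralizer (((T : Subgroup H) : Subgroup H) : Set H)))) : Subgroup H) : Set H) := by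
  apply le_antisymm
  · exact Subgroup.centralizer_le (SetLike.coe_subset_coe.mpr inf_le_right)
  · intro x hx
    have hgen : Cfsg.omegaOne p ((T : Subgroup H) ⊓ Subgroup.centralizer ((T : Subgroup H) : Set H)) ≤
        Subgroup.centralizer ((Subgroup.zpowers x : Subgroup H) : Set H) := by
      unfold Cfsg.omegaOne
      rw [Subgroup.closure_le]
      rintro z ⟨⟨hzT, hzc⟩, hzp⟩
      have hzZ : z ∈ Cfsg.omegaOne p ((T : Subgroup H) ⊓ Subgroup.centralizer ((T : Subgroup H) : Set H)) :=
        mem_omegaOne ⟨hzT, hzc⟩ hzp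
      obtain ⟨a, haV, hac, b, hb, hzab⟩ := exists_central_mul_commutator T V hV (hZV hzZ)
        (fun s hs => (Subgroup.mem_centralizer_iff.mp hzc s hs))
      have haZ : a ∈ Cfsg.omegaOne p ((T : Subgroup H) ⊓ Subgroup.centralizer ((T : Subgroup H) : Set H)) := by
        apply omegaOne_center_le_omegaOne_center_sylow T (le_top : (T : Subgroup H) ≤ ⊤)
        apply mem_omegaOne _ (hV.2 a haV)
        refine Subgroup.mem_inf.mpr ⟨Subgroup.mem_top a, ?_⟩
        rw [Subgroup.mem_centralizer_iff]
        intro g _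
        exact hac g
      have hbZ : b ∈ Cfsg.omegaOne p ((T : Subgroup H) ⊓ Subgroup.centralizer ((T : Subgroup H) : Set H)) := by
        have : b = a⁻¹ * z := by rw [hzab]; group
        rw [this]
        exact Subgroup.mul_mem _ (Subgroup.inv_mem _ haZ) hzZ
      have hxb : b * x = x * b := (Subgroup.mem_centralizer_iff.mp hx) b ⟨hb, hbZ⟩
      show z ∈ Subgroup.centralizer ((Subgroup.zpowers x : Subgroup H) : Set H)
      rw [Subgroup.mem_centralizer_iff]
      intro y hy
      obtain ⟨n, rfl⟩ := Subgroup.mem_zpowers_iff.mp hy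
      have hxz : x * z = z * x := by
        rw [hzab, ← mul_assoc, hac x, mul_assoc, ← hxb, mul_assoc]
      have hcomm : Commute (x ^ n) z := (show Commute x z from hxz).zpow_left n
      exact hcomm.eq
    rw [Subgroup.le_centralizer_iff] at hgen
    exact hgen (Subgroup.mem_zpowers x)

end Cfsg.Agent.S2826
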