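import Mathlib
import Cfsg.Statements.S2827
import Cfsg.Agent.Lib.helper17.PIrr

set_option autoImplicit false
open Cfsg

namespace Cfsg.Agent.S2827

open Cfsg.Agent.Lib.helper17
open scoped commutatorElement

/-- Let H be a finite p-irreducible group (not p-closed, and O^p(H) lies in every normal subgroup that is not p-closed) and T a Sylow p-subgroup. Then H is generated by the conjugates of T and H = H'·T; O^p(H) ≤ H'; and for every normal subgroup Y of T not contained in O_p(H), O^p(H) = [O^p(H), Y] and O^p(H) is contained in the normal closure of Y in H. -/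
theorem result {H : Type*} [Group H] [Finite H] {p : ℕ} [Fact p.Prime] (hH : Cfsg.IsPIrreducible p H) (T : Sylow p H) : Subgroup.normalClosure ((T : Subgroup H) : Set H) = ⊤ ∧ commutator H ⊔ (T : Subgroup H) = ⊤ ∧ Cfsg.pResidual p H ≤ commutator H ∧ ∀ Y : Subgroup H, Y ≤ (T : Subgroup H) → (T : Subgroup H) ≤ Subgroup.normalizer (Y : Set H) → ¬ Y ≤ Cfsg.pCore p H → ⁅Cfsg.pResidual p H, Y⁆ = Cfsg.pResidual p H ∧ Cfsg.pResidual p H ≤ Subgroup.normalClosure (Y : Set H) := by
  obtain ⟨hncl, hirr⟩ := hH
  have key : ∀ (N : Subgroup H), N.Normal → ∀ P : Subgroup H, P ≤ N → IsPGroup p P →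
      ¬ P ≤ Cfsg.pCore p H → Cfsg.pResidual p H ≤ N := by
    intro N hN P hPN hP hPc
    apply hirr N hN
    intro hcl
    have := hN
    exact hPc (le_pCore_of_isPClosed_normal N hcl hPN hP)
  have hT : ¬ (T : Subgroup H) ≤ Cfsg.pCore p H := fun h => hncl (isPClosed_of_sylow_le_pCore T h)
  have h1 : Subgroup.normalClosure ((T : Subgroup H) : Set H) = ⊤ := by
    have hR := key _ Subgroup.normalClosure_normal T Subgroup.le_normalClosure T.isPGroup' hT
    rw [← top_le_iff, ← pResidual_sup_sylow T]
    exact sup_le hR Subgroup.le_normalClosure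
  have h2 : commutator H ⊔ (T : Subgroup H) = ⊤ := by
    rw [← top_le_iff, ← h1]
    have hn : (commutator H ⊔ (T : Subgroup H)).Normal := by
      apply Subgroup.Normal.of_commutator_le
      exact (Subgroup.commutator_mono le_top le_top).trans le_sup_left
    exact Subgroup.normalClosure_le_normal (SetLike.coe_subset_coe.mpr le_sup_right)
  have h3 : Cfsg.pResidual p H ≤ commutator H :=
    pResidual_le_of_sup_eq_top (commutator H) T T.isPGroup' h2
  refine ⟨h1, h2, h3, ?_⟩
  intro Y hYT hTY hYc
  have hYp : IsPGroup p Y := T.isPGroup'.to_le hYT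
  have hN := key _ Subgroup.normalClosure_normal Y Subgroup.le_normalClosure hYp hYc
  refine ⟨?_, hN⟩
  have hRn : (Cfsg.pResidual p H).Normal := pResidual_normal p H
  have hTR : (T : Subgroup H) ≤ Subgroup.normalizer ((Cfsg.pResidual p H : Subgroup H) : Set H) := by
    rw [Subgroup.normalizer_eq_top_iff.mpr hRn]
    exact le_top
  have hQn : (⁅Cfsg.pResidual p H, Y⁆ : Subgroup H).Normal := by
    rw [← Subgroup.normalizer_eq_top_iff, ← top_le_iff, ← pResidual_sup_sylow T]
    exact sup_le (Subgroup.normalizer_commutator_ge_left _ _) (le_normalizer_commutator hTR hTY)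
  have hTQ : (T : Subgroup H) ≤ Subgroup.normalizer ((⁅Cfsg.pResidual p H, Y⁆ : Subgroup H) : Set H) := by
    rw [Subgroup.normalizer_eq_top_iff.mpr hQn]
    exact le_top
  have hQYn : (⁅Cfsg.pResidual p H, Y⁆ ⊔ Y : Subgroup H).Normal := by
    rw [← Subgroup.normalizer_eq_top_iff, ← top_le_iff, ← pResidual_sup_sylow T]
    refine sup_le ?_ (le_normalizer_sup hTQ hTY)
    intro r hr
    rw [← cj_eq_self_iff]
    apply Subgroup.eq_of_le_of_card_ge
    · unfold cj
      rw [Subgroup.map_sup]
      apply sup_le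
      · have : cj r ⁅Cfsg.pResidual p H, Y⁆ = ⁅Cfsg.pResidual p H, Y⁆ := by
          rw [cj_eq_self_iff, Subgroup.normalizer_eq_top_iff.mpr hQn]
          exact Subgroup.mem_top r
        unfold cj at this
        rw [this]
        exact le_sup_left
      · rintro _ ⟨y, hy, rfl⟩
        have h5 : r * y * r⁻¹ = ⁅r, y⁆ * y := by
          rw [commutatorElement_def]
          group
        change r * y * r⁻¹ ∈ _
        rw [h5]
        exact Subgroup.mul_mem_sup (Subgroup.commutator_mem_commutator hr hy) hy
    · rw [card_cj]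
  have hNle : Subgroup.normalClosure (Y : Set H) ≤ ⁅Cfsg.pResidual p H, Y⁆ ⊔ Y :=
    Subgroup.normalClosure_le_normal (SetLike.coe_subset_coe.mpr le_sup_right)
  apply le_antisymm (Subgroup.commutator_le_left _ _)
  have hgen : ∀ g : H, Nat.Coprime (orderOf g) p → g ∈ ⁅Cfsg.pResidual p H, Y⁆ := by
    intro g hg
    have := hQn
    exact mem_of_mem_sup_of_coprime _ Y hYp (hNle (hN (mem_pResidual_of_coprime hg))) hg
  have hcl : Cfsg.pResidual p H = Subgroup.closure {g : H | Nat.Coprime (orderOf g) p} := rfl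
  intro x hx
  rw [hcl] at hx
  exact (Subgroup.closure_le _).mpr (fun g hg => hgen g hg) hx

end Cfsg.Agent.S2827
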