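import Mathlib
import Cfsg.Statements.S2828
import Cfsg.Agent.Lib.helper17.PClosed

set_option autoImplicit false
open Cfsg

namespace Cfsg.Agent.S2828

open Cfsg.Agent.Lib.helper17

/-- Let H be a finite group, p a prime and D a normal p-subgroup of H. Then H is p-irreducible if and only if H/D is p-irreducible, and H is strongly p-irreducible if and only if H/D is strongly p-irreducible. -/
theorem result {H : Type*} [Group H] [Finite H] {p : ℕ} [Fact p.Prime] (D : Subgroup H) [D.Normal] (hD : IsPGroup p ↥D) : (Cfsg.IsPIrreducible p H ↔ Cfsg.IsPIrreducible p (H ⧸ D)) ∧ (Cfsg.IsStronglyPIrreducible p H ↔ Cfsg.IsStronglyPIrreducible p (H ⧸ D)) := by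
  have hsurj : Function.Surjective (QuotientGroup.mk' D) := QuotientGroup.mk'_surjective D
  have hres : (Cfsg.pResidual p H).map (QuotientGroup.mk' D) = Cfsg.pResidual p (H ⧸ D) :=
    pResidual_map_surjective _ hsurj
  have hcl : Cfsg.IsPClosed p (H ⧸ D) ↔ Cfsg.IsPClosed p H := isPClosed_quotient_iff D hD
  have hcore : Cfsg.pCore p (H ⧸ D) = (Cfsg.pCore p H).map (QuotientGroup.mk' D) := pCore_quotient D hD
  have hDle : D ≤ Cfsg.pCore p H := le_pCore_of_normal_isPGroup D hD
  have htop : (⊤ : Subgroup H).map (QuotientGroup.mk' D) = ⊤ := by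
    rw [← MonoidHom.range_eq_map, MonoidHom.range_eq_top.mpr hsurj]
  have hpull : ∀ N : Subgroup H, N.Normal → Cfsg.pResidual p (H ⧸ D) ≤ N.map (QuotientGroup.mk' D) →
      Cfsg.pResidual p H ≤ N := by
    intro N hN h
    rw [← hres] at h
    have h1 : Cfsg.pResidual p H ≤ N ⊔ D := by
      have := Subgroup.comap_mono (f := QuotientGroup.mk' D) h
      rw [Subgroup.comap_map_eq, Subgroup.comap_map_eq, QuotientGroup.ker_mk'] at this
      exact le_sup_left.trans this
    have hcl' : Cfsg.pResidual p H = Subgroup.closure {g : H | Nat.Coprime (orderOf g) p} := rfl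
    rw [hcl', Subgroup.closure_le]
    intro g hg
    have := hN
    exact mem_of_mem_sup_of_coprime N D hD (h1 (mem_pResidual_of_coprime hg)) hg
  have hmapcl : ∀ N : Subgroup H, ∀ N' : Subgroup (H ⧸ D), N.map (QuotientGroup.mk' D) = N' →
      (Cfsg.IsPClosed p ↥N' ↔ Cfsg.IsPClosed p ↥N) := by
    rintro N N' rfl
    exact isPClosed_map_mk_iff D hD N
  constructor
  · constructor
    · rintro ⟨h1, h2⟩
      refine ⟨fun h => h1 (hcl.mp h), ?_⟩
      intro N' hN' hN'cl
      have hmc : (N'.comap (QuotientGroup.mk' D)).map (QuotientGroup.mk' D) = N' :=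
        Subgroup.map_comap_eq_self_of_surjective hsurj N'
      have hNcl : ¬ Cfsg.IsPClosed p ↥(N'.comap (QuotientGroup.mk' D)) :=
        fun h => hN'cl ((hmapcl _ _ hmc).mpr h)
      have := h2 (N'.comap (QuotientGroup.mk' D)) (hN'.comap _) hNcl
      rw [← hres, ← hmc]
      exact Subgroup.map_mono this
    · rintro ⟨h1, h2⟩
      refine ⟨fun h => h1 (hcl.mpr h), ?_⟩
      intro N hN hNcl
      apply hpull N hN
      apply h2 (N.map (QuotientGroup.mk' D)) (hN.map _ hsurj)
      intro h
      exact hNcl ((isPClosed_map_mk_iff D hD N).mp h)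
  · constructor
    · rintro ⟨h1, h2⟩
      refine ⟨fun h => h1 (hcl.mp h), ?_⟩
      intro N' hN' hN'c
      have hmc : (N'.comap (QuotientGroup.mk' D)).map (QuotientGroup.mk' D) = N' :=
        Subgroup.map_comap_eq_self_of_surjective hsurj N'
      have hNc : ¬ ⁅N'.comap (QuotientGroup.mk' D), (⊤ : Subgroup H)⁆ ≤ Cfsg.pCore p H := by
        intro h
        apply hN'c
        have := Subgroup.map_mono (f := QuotientGroup.mk' D) h
        rwa [Subgroup.map_commutator, hmc, htop, ← hcore] at this
      have := h2 (N'.comap (QuotientGroup.mk' D)) (hN'.comap _) hNc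
      rw [← hres, ← hmc]
      exact Subgroup.map_mono this
    · rintro ⟨h1, h2⟩
      refine ⟨fun h => h1 (hcl.mpr h), ?_⟩
      intro N hN hNc
      apply hpull N hN
      apply h2 (N.map (QuotientGroup.mk' D)) (hN.map _ hsurj)
      intro h
      apply hNc
      rw [← htop, ← Subgroup.map_commutator, hcore] at h
      have := Subgroup.comap_mono (f := QuotientGroup.mk' D) h
      rw [Subgroup.comap_map_eq, Subgroup.comap_map_eq, QuotientGroup.ker_mk', sup_of_le_left hDle] at this
      exact le_sup_left.trans this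

end Cfsg.Agent.S2828
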