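import Mathlib
import Cfsg.Statements.S2829

set_option autoImplicit false
open Cfsg
open scoped commutatorElement

namespace Cfsg.Agent.S2829

theorem pCore_isPGroup' (p : ℕ) (G : Type*) [Group G] : IsPGroup p (Cfsg.pCore p G) := by
  unfold Cfsg.pCore
  exact Sylow.sSup_of_normal _ (fun H hH => hH.2) (fun H hH => hH.1)

/-- Strongly `p`-irreducible groups are `p`-irreducible. -/
theorem result {H : Type*} [Group H] [Finite H] {p : ℕ} [Fact p.Prime] (hH : Cfsg.IsStronglyPIrreducible p H) : Cfsg.IsPIrreducible p H := by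
  refine ⟨hH.1, ?_⟩
  intro N hN hNc
  apply hH.2 N hN
  intro hle
  apply hNc
  intro P
  constructor
  intro x hx n
  -- n x n⁻¹ = (n x n⁻¹ x⁻¹) x
  have hcomm : (n : H) * (x : H) * (n : H)⁻¹ * (x : H)⁻¹ ∈ Cfsg.pCore p H := by
    apply hle
    have : ⁅(n : H), (x : H)⁆ ∈ ⁅N, (⊤ : Subgroup H)⁆ :=
      Subgroup.commutator_mem_commutator n.2 (Subgroup.mem_top _)
    simpa [commutatorElement_def] using this
  -- the subgroup Q = (pCore ⊓ N) as a subgroup of N is a normal p-subgroup
  let Q : Subgroup N := (Cfsg.pCore p H).subgroupOf N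
  have hQn : Q.Normal := by
    have : (Cfsg.pCore p H).Normal := Cfsg.pCore_normal p H
    exact Subgroup.Normal.subgroupOf inferInstance N
  have hQp : IsPGroup p Q := by
    have := pCore_isPGroup' p H
    exact this.comap_subtype
  have hQP : Q ≤ P := by
    have := hQn
    exact hQp.le_sylow_of_normal P
  have h1 : n * x * n⁻¹ * x⁻¹ ∈ Q := by
    show ((n * x * n⁻¹ * x⁻¹ : N) : H) ∈ Cfsg.pCore p H
    simpa using hcomm
  have h2 : n * x * n⁻¹ * x⁻¹ ∈ (P : Subgroup N) := hQP h1
  have h3 : n * x * n⁻¹ * x⁻¹ * x ∈ (P : Subgroup N) := (P : Subgroup N).mul_mem h2 hx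
  simpa using h3

end Cfsg.Agent.S2829
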