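import Mathlib
import Cfsg.Statements.S2830
import Cfsg.Agent.Lib.helper17.PIrr2

set_option autoImplicit false
open Cfsg

namespace Cfsg.Agent.S2830

open Cfsg.Agent.Lib.helper17

/-- Let H act by conjugation on the elementary abelian p-subgroup V of a finite group G (H ≤ N(V)), with H p-irreducible and O^p(H) not centralizing V. Then C_H(V) is p-closed and C_T(V) ≤ O_p(H) for every p-subgroup T of H. If in addition O_p(H) centralizes V, then C_T(V) = T ∩ O_p(H) for every p-subgroup T of H, and V is p-reduced for H: O_p(H/C_H(V)) = 1. -/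
theorem result {G : Type*} [Group G] [Finite G] {p : ℕ} [Fact p.Prime] (V H : Subgroup G) (hV : Cfsg.IsElementaryAbelian p V) (hHV : H ≤ Subgroup.normalizer (V : Set G)) (hH : Cfsg.IsPIrreducible p ↥H) (hnc : ¬ (Cfsg.pResidual p ↥H).map H.subtype ≤ Subgroup.centralizer (V : Set G)) [hn : ((Subgroup.centralizer (V : Set G)).subgroupOf H).Normal] : Cfsg.IsPClosed p ↥(H ⊓ Subgroup.centralizer (V : Set G)) ∧ (∀ T : Subgroup G, T ≤ H → IsPGroup p ↥T → T ⊓ Subgroup.centralizer (V : Set G) ≤ Cfsg.pCoreOf p H) ∧ (Cfsg.pCoreOf p H ≤ Subgroup.centralizer (V : Set G) → (∀ T : Subgroup G, T ≤ H → IsPGroup p ↥T → T ⊓ Subgroup.centralizer (V : Set G) = T ⊓ Cfsg.pCoreOf p H) ∧ Cfsg.pCore p (↥H ⧸ (Subgroup.centralizer (V : Set G)).subgroupOf H) = ⊥) := by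
  have hRC : ¬ Cfsg.pResidual p ↥H ≤ (Subgroup.centralizer (V : Set G)).subgroupOf H := by
    intro h
    apply hnc
    rw [Subgroup.map_le_iff_le_comap]
    exact h
  have part2 : ∀ T : Subgroup G, T ≤ H → IsPGroup p ↥T →
      T ⊓ Subgroup.centralizer (V : Set G) ≤ Cfsg.pCoreOf p H := by
    intro T hTH hT x hx
    have hxH : x ∈ H := hTH hx.1
    have hP : IsPGroup p ((T ⊓ Subgroup.centralizer (V : Set G)).subgroupOf H) :=
      (hT.to_le inf_le_left).comap_subtype
    have hPC : (T ⊓ Subgroup.centralizer (V : Set G)).subgroupOf H ≤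
        (Subgroup.centralizer (V : Set G)).subgroupOf H := by
      intro y hy
      exact (Subgroup.mem_subgroupOf.mp hy).2
    have := pirr_le_pCore hH _ hRC hPC hP
    exact ⟨⟨x, hxH⟩, this (Subgroup.mem_subgroupOf.mpr hx), rfl⟩
  refine ⟨?_, part2, ?_⟩
  · exact isPClosed_inf_of_subgroupOf H _ (pirr_normal_isPClosed hH _ hRC)
  · intro hcore
    refine ⟨?_, ?_⟩
    · intro T hTH hT
      apply le_antisymm
      · exact le_inf inf_le_left (part2 T hTH hT)
      · exact le_inf inf_le_left (inf_le_right.trans hcore)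
    · apply pirr_pCore_quotient_eq_bot hH _ hRC
      intro x hx
      rw [Subgroup.mem_subgroupOf]
      apply hcore
      exact ⟨x, hx, rfl⟩

end Cfsg.Agent.S2830
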