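import Mathlib
import Cfsg.Statements.S2831
import Cfsg.Agent.Lib.helper17.Residual
import Cfsg.Agent.Lib.helper17.SylowNormal

set_option autoImplicit false
open Cfsg

namespace Cfsg.Agent.S2831

open Cfsg.Agent.Lib.helper17

/-- Let H be a finite group with Sylow p-subgroup T such that H is T-minimal (H is generated by the conjugates of T and T lies in exactly one maximal subgroup of H). Then H is p-irreducible: H is not p-closed and O^p(H) lies in every normal subgroup of H that is not p-closed. -/
theorem result {H : Type*} [Group H] [Finite H] {p : ℕ} [Fact p.Prime] (T : Sylow p H) (hmin : Cfsg.IsMinimalOver (T : Subgroup H)) : Cfsg.IsPIrreducible p H := by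
  obtain ⟨hnc, M, ⟨hMco, hTM⟩, hMuniq⟩ := hmin
  have key : ∀ K : Subgroup H, (T : Subgroup H) ≤ K → K ≠ ⊤ → K ≤ M := by
    intro K hTK hK
    obtain ⟨M', hM', hKM'⟩ := exists_coatom_ge hK
    have := hMuniq M' ⟨hM', hTK.trans hKM'⟩
    rw [← this]
    exact hKM'
  refine ⟨?_, ?_⟩
  · intro hcl
    have hTn : (T : Subgroup H).Normal := hcl T
    rw [Subgroup.normalClosure_eq_self] at hnc
    exact hMco.1 (top_le_iff.mp (hnc ▸ hTM))
  · intro N hN hNcl
    have := hN
    by_contra hres
    have h1 : N ⊔ (T : Subgroup H) ≠ ⊤ :=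
      fun h => hres (pResidual_le_of_sup_eq_top N T T.isPGroup' h)
    have h2 : N ⊔ (T : Subgroup H) ≤ M := key _ le_sup_right h1
    have h3 : Subgroup.normalizer (((sylowInfNormal T N : Sylow p N) : Subgroup N).map N.subtype : Set H) ⊔ N = ⊤ :=
      Sylow.normalizer_sup_eq_top (sylowInfNormal T N)
    rw [sylowInfNormal_map] at h3
    have h4 : (T : Subgroup H) ≤ Subgroup.normalizer (((T : Subgroup H) ⊓ N : Subgroup H) : Set H) := by
      intro t ht
      rw [Subgroup.mem_normalizer_iff]
      intro x
      rw [Subgroup.mem_inf, Subgroup.mem_inf]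
      constructor
      · rintro ⟨hx1, hx2⟩
        exact ⟨Subgroup.mul_mem _ (Subgroup.mul_mem _ ht hx1) (Subgroup.inv_mem _ ht), hN.conj_mem x hx2 t⟩
      · rintro ⟨hx1, hx2⟩
        refine ⟨?_, ?_⟩
        · have := Subgroup.mul_mem _ (Subgroup.mul_mem _ (Subgroup.inv_mem _ ht) hx1) ht
          simpa [mul_assoc] using this
        · have := hN.conj_mem _ hx2 t⁻¹
          simpa [mul_assoc] using this
    have h5 : Subgroup.normalizer (((T : Subgroup H) ⊓ N : Subgroup H) : Set H) ≠ ⊤ := by
      intro h
      apply hNcl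
      have hn : ((T : Subgroup H) ⊓ N).Normal := Subgroup.normalizer_eq_top_iff.mp h
      have hS : ((sylowInfNormal T N : Sylow p N) : Subgroup N).Normal := by
        rw [sylowInfNormal_coe, ← Subgroup.inf_subgroupOf_right]
        exact hn.subgroupOf N
      exact sylow_normal_of_normal _ hS
    have h6 := key _ h4 h5
    exact hMco.1 (top_le_iff.mp (h3 ▸ sup_le h6 (le_sup_left.trans h2)))

end Cfsg.Agent.S2831
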