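import Mathlib
import Cfsg.Statements.S2832
import Cfsg.Agent.Lib.helper17.Residual
import Cfsg.Agent.Lib.helper17.Coatom

set_option autoImplicit false
open Cfsg

namespace Cfsg.Agent.S2832

open Cfsg.Agent.Lib.helper17

/-- Let H be a finite group with Sylow p-subgroup T such that H is T-minimal (generated by the conjugates of T, with T in exactly one maximal subgroup), and let N be a normal subgroup of H. Then either H/N is a p-group or H/N is minimal over the image of T in the same sense. -/
theorem result {H : Type*} [Group H] [Finite H] {p : ℕ} [Fact p.Prime] (T : Sylow p H) (hmin : Cfsg.IsMinimalOver (T : Subgroup H)) (N : Subgroup H) [N.Normal] : IsPGroup p (H ⧸ N) ∨ Cfsg.IsMinimalOver ((T : Subgroup H).map (QuotientGroup.mk' N)) := by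
  obtain ⟨hnc, M, ⟨hMco, hTM⟩, hMuniq⟩ := hmin
  have key : ∀ K : Subgroup H, (T : Subgroup H) ≤ K → K ≠ ⊤ → K ≤ M := by
    intro K hTK hK
    obtain ⟨M', hM', hKM'⟩ := exists_coatom_ge hK
    have := hMuniq M' ⟨hM', hTK.trans hKM'⟩
    rw [← this]
    exact hKM'
  have hsurj : Function.Surjective (QuotientGroup.mk' N) := QuotientGroup.mk'_surjective N
  by_cases h : N ⊔ (T : Subgroup H) = ⊤
  · left
    exact isPGroup_quotient_of_sup_eq_top N T T.isPGroup' h
  · right
    have hNM : N ⊔ (T : Subgroup H) ≤ M := key _ le_sup_right h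
    have hker : (QuotientGroup.mk' N).ker ≤ M := by
      rw [QuotientGroup.ker_mk']
      exact le_sup_left.trans hNM
    refine ⟨?_, M.map (QuotientGroup.mk' N), ⟨isCoatom_map_of_surjective hsurj hMco hker,
      Subgroup.map_mono hTM⟩, ?_⟩
    · rw [Subgroup.coe_map, ← Subgroup.map_normalClosure _ _ hsurj, hnc, ← MonoidHom.range_eq_map,
        MonoidHom.range_eq_top.mpr hsurj]
    · rintro M' ⟨hM'co, hTM'⟩
      have h1 : M'.comap (QuotientGroup.mk' N) = M :=
        hMuniq _ ⟨isCoatom_comap_of_surjective hsurj hM'co, Subgroup.map_le_iff_le_comap.mp hTM'⟩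
      rw [← h1, Subgroup.map_comap_eq_self_of_surjective hsurj]

end Cfsg.Agent.S2832
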