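import Mathlib
import Cfsg.Statements.S2833

set_option autoImplicit false
open Cfsg
open scoped commutatorElement Pointwise

namespace Cfsg.Agent.S2833

variable {G : Type*} [Group G]

theorem map_conj_eq_of_mem_normalizer {V : Subgroup G} {g : G} (hg : g ∈ Subgroup.normalizer (V : Set G)) :
    V.map (MulAut.conj g).toMonoidHom = V := by
  ext x
  constructor
  · rintro ⟨y, hy, rfl⟩
    exact (Subgroup.mem_normalizer_iff.mp hg y).mp hy
  · intro hx
    refine ⟨g⁻¹ * x * g, ?_, ?_⟩
    · have := (Subgroup.mem_normalizer_iff.mp hg (g⁻¹ * x * g)).mpr (by simpa [mul_assoc] using hx)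
      exact this
    · simp [mul_assoc]

/-- the subgroup of elements normalizing `N` and acting trivially on `V` modulo `N` -/
def trivActing (V N : Subgroup G) : Subgroup G where
  carrier := {l | l ∈ Subgroup.normalizer (N : Set G) ∧ ∀ v ∈ V, ⁅v, l⁆ ∈ N}
  one_mem' := ⟨Subgroup.one_mem _, fun v _ => by simp⟩
  mul_mem' := by
    rintro a b ⟨ha, ha'⟩ ⟨hb, hb'⟩
    refine ⟨Subgroup.mul_mem _ ha hb, fun v hv => ?_⟩
    rw [commutatorElement_mul_right_eq_mul_conj]
    have h1 : a * ⁅v, b⁆ * a⁻¹ ∈ N := (Subgroup.mem_normalizer_iff.mp ha _).mp (hb' v hv)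
    have h2 : ⁅v, a⁆ * (a * ⁅v, b⁆ * a⁻¹) ∈ N := N.mul_mem (ha' v hv) h1
    simpa [mul_assoc] using h2
  inv_mem' := by
    rintro a ⟨ha, ha'⟩
    refine ⟨Subgroup.inv_mem _ ha, fun v hv => ?_⟩
    rw [commutatorElement_inv_right]
    have h1 : ⁅a, v⁆ ∈ N := by
      rw [← commutatorElement_inv]
      exact N.inv_mem (ha' v hv)
    have := (Subgroup.mem_normalizer_iff.mp (Subgroup.inv_mem _ ha) _).mp h1
    simpa using this

theorem result {G : Type*} [Group G] [Finite G] (V L : Subgroup G) (hLV : L ≤ Subgroup.normalizer (V : Set G)) (X : Subgroup G) (hX : X ≤ L) (g : G) (hg : g ∈ L) (hq : ⁅⁅V, X⁆, X⁆ = ⊥) (hgen : X ⊔ X.map (MulAut.conj g).toMonoidHom = L) (W : Subgroup G) (hW : W = ⁅V, L⁆) : ⁅V, X⁆ ⊔ ⁅V, X.map (MulAut.conj g).toMonoidHom⁆ = W ∧ W ⊓ Subgroup.centralizer (X : Set G) = ⁅V, X⁆ ∧ W ⊓ Subgroup.centralizer (L : Set G) = ⁅V, X⁆ ⊓ ⁅V, X.map (MulAut.conj g).toMonoidHom⁆ := by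
  set Xg := X.map (MulAut.conj g).toMonoidHom with hXg
  set A := ⁅V, X⁆ with hA
  set B := ⁅V, Xg⁆ with hB
  have hXgL : Xg ≤ L := by rw [← hgen]; exact le_sup_right
  have hXV : X ≤ Subgroup.normalizer (V : Set G) := hX.trans hLV
  have hXgV : Xg ≤ Subgroup.normalizer (V : Set G) := hXgL.trans hLV
  have hgV : g ∈ Subgroup.normalizer (V : Set G) := hLV hg
  have hAV : A ≤ V := Subgroup.le_normalizer_iff_commutator_le_left.mp hXV
  have hBV : B ≤ V := Subgroup.le_normalizer_iff_commutator_le_left.mp hXgV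
  -- B is the conjugate of A
  have hBA : B = A.map (MulAut.conj g).toMonoidHom := by
    rw [hA, Subgroup.map_commutator, map_conj_eq_of_mem_normalizer hgV]
  -- quadratic action of Xg
  have hqg : ⁅B, Xg⁆ = ⊥ := by
    rw [hBA, hXg, ← Subgroup.map_commutator, hq, Subgroup.map_bot]
  have hAcX : A ≤ Subgroup.centralizer (X : Set G) := Subgroup.commutator_eq_bot_iff_le_centralizer.mp hq
  have hBcXg : B ≤ Subgroup.centralizer (Xg : Set G) := Subgroup.commutator_eq_bot_iff_le_centralizer.mp hqg
  have hVA : V ≤ Subgroup.normalizer (A : Set G) := Subgroup.normalizer_commutator_ge_left V X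
  have hVB : V ≤ Subgroup.normalizer (B : Set G) := Subgroup.normalizer_commutator_ge_left V Xg
  have hXA : X ≤ Subgroup.normalizer (A : Set G) := Subgroup.normalizer_commutator_ge_right V X
  have hXgB : Xg ≤ Subgroup.normalizer (B : Set G) := Subgroup.normalizer_commutator_ge_right V Xg
  set N := A ⊔ B with hN
  have hcoe : (N : Set G) = (A : Set G) * (B : Set G) :=
    Subgroup.coe_mul_of_left_le_normalizer_right A B (hAV.trans hVB)
  have hmemN : ∀ w, w ∈ N ↔ ∃ a ∈ A, ∃ b ∈ B, a * b = w := by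
    intro w
    rw [← SetLike.mem_coe, hcoe, Set.mem_mul]
    simp
  -- X normalizes N
  have hXN : X ≤ Subgroup.normalizer (N : Set G) := by
    intro x hx
    rw [Subgroup.mem_normalizer_iff]
    have key : ∀ y ∈ X, ∀ n ∈ N, y * n * y⁻¹ ∈ N := by
      intro y hy n hn
      obtain ⟨a, ha, b, hb, rfl⟩ := (hmemN n).mp hn
      have h1 : y * a * y⁻¹ ∈ A := (Subgroup.mem_normalizer_iff.mp (hXA hy) a).mp ha
      have h2 : y * b * y⁻¹ ∈ N := by
        have h3 : ⁅b, y⁆ ∈ A := Subgroup.commutator_mem_commutator (hBV hb) hy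
        have h4 : ⁅y, b⁆ ∈ A := by rw [← commutatorElement_inv]; exact A.inv_mem h3
        have h5 : ⁅y, b⁆ * b ∈ N := (hmemN _).mpr ⟨_, h4, b, hb, rfl⟩
        simpa [commutatorElement_def] using h5
      have : (y * a * y⁻¹) * (y * b * y⁻¹) ∈ N :=
        N.mul_mem (le_sup_left (a := A) (b := B) h1) h2
      simpa [mul_assoc] using this
    intro n
    constructor
    · exact key x hx n
    · intro h
      have := key x⁻¹ (X.inv_mem hx) _ h
      simpa [mul_assoc] using this
  have hXgN : Xg ≤ Subgroup.normalizer (N : Set G) := by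
    intro x hx
    rw [Subgroup.mem_normalizer_iff]
    have key : ∀ y ∈ Xg, ∀ n ∈ N, y * n * y⁻¹ ∈ N := by
      intro y hy n hn
      obtain ⟨a, ha, b, hb, rfl⟩ := (hmemN n).mp hn
      have h1 : y * b * y⁻¹ ∈ B := (Subgroup.mem_normalizer_iff.mp (hXgB hy) b).mp hb
      have h2 : y * a * y⁻¹ ∈ N := by
        have h3 : ⁅a, y⁆ ∈ B := Subgroup.commutator_mem_commutator (hAV ha) hy
        have h4 : ⁅y, a⁆ ∈ B := by rw [← commutatorElement_inv]; exact B.inv_mem h3
        have h5 : ⁅y, a⁆ * a ∈ N :=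
          N.mul_mem (le_sup_right (a := A) (b := B) h4) (le_sup_left (a := A) (b := B) ha)
        simpa [commutatorElement_def] using h5
      have : (y * a * y⁻¹) * (y * b * y⁻¹) ∈ N :=
        N.mul_mem h2 (le_sup_right (a := A) (b := B) h1)
      simpa [mul_assoc] using this
    intro n
    constructor
    · exact key x hx n
    · intro h
      have := key x⁻¹ (Xg.inv_mem hx) _ h
      simpa [mul_assoc] using this
  -- L acts trivially on V modulo N
  have hLK : L ≤ trivActing V N := by
    rw [← hgen]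
    apply sup_le
    · intro x hx
      exact ⟨hXN hx, fun v hv => le_sup_left (a := A) (b := B) (Subgroup.commutator_mem_commutator hv hx)⟩
    · intro x hx
      exact ⟨hXgN hx, fun v hv => le_sup_right (a := A) (b := B) (Subgroup.commutator_mem_commutator hv hx)⟩
  have hNW : N = W := by
    apply le_antisymm
    · rw [hW]
      exact sup_le (Subgroup.commutator_mono le_rfl hX) (Subgroup.commutator_mono le_rfl hXgL)
    · rw [hW, Subgroup.commutator_le]
      intro v hv l hl
      exact (hLK hl).2 v hv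
  -- centralizer of L
  have hcL : ∀ w : G, w ∈ Subgroup.centralizer (X : Set G) → w ∈ Subgroup.centralizer (Xg : Set G) →
      w ∈ Subgroup.centralizer (L : Set G) := by
    intro w h1 h2
    have h1' : X ≤ Subgroup.centralizer ({w} : Set G) := by
      intro x hx
      rw [Subgroup.mem_centralizer_iff]
      intro y hy
      rw [Set.mem_singleton_iff] at hy
      subst hy
      exact ((Subgroup.mem_centralizer_iff.mp h1) x hx).symm
    have h2' : Xg ≤ Subgroup.centralizer ({w} : Set G) := by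
      intro x hx
      rw [Subgroup.mem_centralizer_iff]
      intro y hy
      rw [Set.mem_singleton_iff] at hy
      subst hy
      exact ((Subgroup.mem_centralizer_iff.mp h2) x hx).symm
    have h3 : L ≤ Subgroup.centralizer ({w} : Set G) := by
      rw [← hgen]; exact sup_le h1' h2'
    rw [Subgroup.mem_centralizer_iff]
    intro l hl
    exact ((Subgroup.mem_centralizer_iff.mp (h3 hl)) w rfl).symm
  -- an element of B centralized by L lies in A
  have hBLA : ∀ b ∈ B, b ∈ Subgroup.centralizer (L : Set G) → b ∈ A := by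
    intro b hb hbL
    rw [hBA] at hb
    obtain ⟨c, hc, rfl⟩ := hb
    have hcomm := (Subgroup.mem_centralizer_iff.mp hbL) g hg
    simp only [MulEquiv.coe_toMonoidHom, MulAut.conj_apply] at hcomm ⊢
    have : g * c * g⁻¹ = c := by
      have h := congrArg (fun t => g⁻¹ * t) hcomm
      simp only [mul_assoc, inv_mul_cancel_left] at h
      have h' : g * c * g⁻¹ = c := by simpa [mul_assoc] using h
      exact h'
    rw [this]; exact hc
  have hALB : ∀ a ∈ A, a ∈ Subgroup.centralizer (L : Set G) → a ∈ B := by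
    intro a ha haL
    rw [hBA]
    refine ⟨a, ha, ?_⟩
    have hcomm := (Subgroup.mem_centralizer_iff.mp haL) g hg
    simp only [MulEquiv.coe_toMonoidHom, MulAut.conj_apply]
    rw [hcomm]; simp
  have hpart2 : W ⊓ Subgroup.centralizer (X : Set G) = A := by
    apply le_antisymm
    · rintro w ⟨hwW, hwX⟩
      rw [← hNW] at hwW
      obtain ⟨a, ha, b, hb, rfl⟩ := (hmemN w).mp hwW
      have hbX : b ∈ Subgroup.centralizer (X : Set G) := by
        have : b = a⁻¹ * (a * b) := by simp
        rw [this]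
        exact Subgroup.mul_mem _ (Subgroup.inv_mem _ (hAcX ha)) hwX
      have hbL := hcL b hbX (hBcXg hb)
      exact A.mul_mem ha (hBLA b hb hbL)
    · apply le_inf
      · rw [← hNW]; exact le_sup_left
      · exact hAcX
  refine ⟨hNW, hpart2, ?_⟩
  apply le_antisymm
  · rintro w ⟨hwW, hwL⟩
    have hwX : w ∈ Subgroup.centralizer (X : Set G) := Subgroup.centralizer_le hX hwL
    have hwA : w ∈ A := by
      rw [← hpart2]; exact ⟨hwW, hwX⟩
    exact ⟨hwA, hALB w hwA hwL⟩
  · rintro w ⟨hwA, hwB⟩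
    refine ⟨?_, hcL w (hAcX hwA) (hBcXg hwB)⟩
    rw [← hNW]; exact le_sup_left (a := A) (b := B) hwA

end Cfsg.Agent.S2833
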