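import Mathlib
import Cfsg.Statements.S2835
import Cfsg.Agent.Lib.helper17.Coatom2
import Cfsg.Agent.Lib.helper17.PSub
import Cfsg.Agent.Lib.helper17.PIrr

set_option autoImplicit false
open Cfsg

namespace Cfsg.Agent.S2835

open Cfsg.Agent.Lib.helper17

/-- Let L be a finite group, L₀ a maximal subgroup, T a Sylow p-subgroup of L₀ and Y ≤ T, and suppose L is Y-minimal (generated by the conjugates of Y, with Y in exactly one maximal subgroup, necessarily L₀). Then N_L(T) ≤ L₀, O_p(L) ≤ L₀ and T is a Sylow p-subgroup of L; N_L(L₀) = L₀; L = ⟨Y, gYg⁻¹⟩ for each g ∈ L outside L₀; and if Y is abelian then Y ∩ gYg⁻¹ = C_Y(L) for each such g. -/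
theorem result {L : Type*} [Group L] [Finite L] {p : ℕ} [Fact p.Prime] (L₀ : Subgroup L) (hL₀ : IsCoatom L₀) (T : Sylow p ↥L₀) (Y : Subgroup L) (hYT : Y ≤ (T : Subgroup ↥L₀).map L₀.subtype) (hmin : Cfsg.IsMinimalOver Y) : Subgroup.normalizer (((T : Subgroup ↥L₀).map L₀.subtype : Subgroup L) : Set L) ≤ L₀ ∧ Cfsg.pCore p L ≤ L₀ ∧ (∃ P : Sylow p L, (P : Subgroup L) = (T : Subgroup ↥L₀).map L₀.subtype) ∧ Subgroup.normalizer (L₀ : Set L) = L₀ ∧ (∀ g : L, g ∉ L₀ → Y ⊔ Y.map (MulAut.conj g).toMonoidHom = ⊤) ∧ (IsMulCommutative ↥Y → ∀ g : L, g ∉ L₀ → Y ⊓ Y.map (MulAut.conj g).toMonoidHom = Y ⊓ Subgroup.center L) := by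
  obtain ⟨hnc, M, ⟨hMco, hYM⟩, hMuniq⟩ := hmin
  have hT'L₀ : (T : Subgroup ↥L₀).map L₀.subtype ≤ L₀ := Subgroup.map_subtype_le _
  have hYL₀ : Y ≤ L₀ := hYT.trans hT'L₀
  have hML₀ : L₀ = M := hMuniq L₀ ⟨hL₀, hYL₀⟩
  have huniq : ∀ M' : Subgroup L, IsCoatom M' → Y ≤ M' → M' = L₀ := by
    intro M' h1 h2
    rw [hML₀]
    exact hMuniq M' ⟨h1, h2⟩
  have key : ∀ K : Subgroup L, Y ≤ K → K ≠ ⊤ → K ≤ L₀ := by
    intro K hYK hK
    obtain ⟨M', hM', hKM'⟩ := exists_coatom_ge hK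
    rw [← huniq M' hM' (hYK.trans hKM')]
    exact hKM'
  -- no proper normal subgroup contains Y
  have hnorm : ∀ K : Subgroup L, K.Normal → Y ≤ K → K = ⊤ := by
    intro K hK hYK
    rw [← top_le_iff, ← hnc]
    exact Subgroup.normalClosure_le_normal (SetLike.coe_subset_coe.mpr hYK)
  have hT'p : IsPGroup p ((T : Subgroup ↥L₀).map L₀.subtype) := T.isPGroup'.map _
  have h1 : Subgroup.normalizer (((T : Subgroup ↥L₀).map L₀.subtype : Subgroup L) : Set L) ≤ L₀ := by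
    apply key _ (hYT.trans Subgroup.le_normalizer)
    intro htop
    have hn : ((T : Subgroup ↥L₀).map L₀.subtype).Normal := Subgroup.normalizer_eq_top_iff.mp htop
    have := hnorm _ hn hYT
    apply hL₀.1
    rw [← top_le_iff, ← this]
    exact hT'L₀
  have h4 : Subgroup.normalizer (L₀ : Set L) = L₀ := by
    rcases eq_or_ne (Subgroup.normalizer (L₀ : Set L)) ⊤ with htop | hne
    · exfalso
      have hn : L₀.Normal := Subgroup.normalizer_eq_top_iff.mp htop
      exact hL₀.1 (hnorm _ hn hYL₀)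
    · exact le_antisymm (key _ (hYL₀.trans Subgroup.le_normalizer) hne) Subgroup.le_normalizer
  have h3 : ∃ P : Sylow p L, (P : Subgroup L) = (T : Subgroup ↥L₀).map L₀.subtype := by
    obtain ⟨P, hP⟩ := hT'p.exists_le_sylow
    refine ⟨P, ?_⟩
    by_contra hne
    have hlt : (T : Subgroup ↥L₀).map L₀.subtype < (P : Subgroup L) := lt_of_le_of_ne hP (Ne.symm hne)
    obtain ⟨n, hnP, hnN, hnT⟩ := exists_mem_normalizer_not_mem P.isPGroup' hlt
    have hnL₀ : n ∈ L₀ := h1 hnN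
    have hRP : (T : Subgroup ↥L₀).map L₀.subtype ⊔ Subgroup.zpowers n ≤ (P : Subgroup L) :=
      sup_le hP ((Subgroup.zpowers_le).mpr hnP)
    have hRL₀ : (T : Subgroup ↥L₀).map L₀.subtype ⊔ Subgroup.zpowers n ≤ L₀ :=
      sup_le hT'L₀ ((Subgroup.zpowers_le).mpr hnL₀)
    have hRp : IsPGroup p (((T : Subgroup ↥L₀).map L₀.subtype ⊔ Subgroup.zpowers n).subgroupOf L₀) :=
      (P.isPGroup'.to_le hRP).comap_subtype
    have hTR : (T : Subgroup ↥L₀) ≤ ((T : Subgroup ↥L₀).map L₀.subtype ⊔ Subgroup.zpowers n).subgroupOf L₀ := by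
      intro x hx
      rw [Subgroup.mem_subgroupOf]
      exact le_sup_left (a := (T : Subgroup ↥L₀).map L₀.subtype) (Subgroup.mem_map_of_mem _ hx)
    have heq := T.3 hRp hTR
    apply hnT
    have hn1 : (⟨n, hnL₀⟩ : ↥L₀) ∈ ((T : Subgroup ↥L₀).map L₀.subtype ⊔ Subgroup.zpowers n).subgroupOf L₀ := by
      rw [Subgroup.mem_subgroupOf]
      exact le_sup_right (a := (T : Subgroup ↥L₀).map L₀.subtype) (Subgroup.mem_zpowers n)
    rw [heq] at hn1
    exact ⟨⟨n, hnL₀⟩, hn1, rfl⟩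
  have h2 : Cfsg.pCore p L ≤ L₀ := by
    obtain ⟨P, hP⟩ := h3
    have := pCore_normal p L
    have h5 : Cfsg.pCore p L ≤ (P : Subgroup L) := IsPGroup.le_sylow_of_normal (pCore_isPGroup p L) P
    rw [hP] at h5
    exact h5.trans hT'L₀
  have h5 : ∀ g : L, g ∉ L₀ → Y ⊔ Y.map (MulAut.conj g).toMonoidHom = ⊤ := by
    intro g hg
    by_contra hne
    have hle := key _ le_sup_left hne
    have hYg : cj g Y ≤ L₀ := le_sup_right.trans hle
    have hYg' : Y ≤ cj g⁻¹ L₀ := cj_le_iff.mp hYg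
    have hco : IsCoatom (cj g⁻¹ L₀) := isCoatom_cj hL₀ g⁻¹
    have heq := huniq _ hco hYg'
    have hmem : g⁻¹ ∈ Subgroup.normalizer (L₀ : Set L) := cj_eq_self_iff.mp heq
    rw [h4] at hmem
    exact hg (by simpa using Subgroup.inv_mem _ hmem)
  refine ⟨h1, h2, h3, h4, h5, ?_⟩
  intro hcomm g hg
  have htop := h5 g hg
  have hYc : ∀ a ∈ Y, ∀ b ∈ Y, a * b = b * a := by
    intro a ha b hb
    have := isMulCommutative_iff.mp hcomm ⟨a, ha⟩ ⟨b, hb⟩
    exact congrArg Subtype.val this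
  apply le_antisymm
  · intro x hx
    refine ⟨hx.1, ?_⟩
    change x ∈ Subgroup.center L
    rw [Subgroup.mem_center_iff]
    have hcent : (⊤ : Subgroup L) ≤ Subgroup.centralizer {x} := by
      rw [← htop]
      apply sup_le
      · intro y hy
        rw [Subgroup.mem_centralizer_singleton_iff]
        exact hYc y hy x hx.1
      · rintro _ ⟨y, hy, rfl⟩
        obtain ⟨x', hx', hxx'⟩ := hx.2
        rw [Subgroup.mem_centralizer_singleton_iff, ← hxx']
        have h6 : y * x' = x' * y := hYc y hy x' hx'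
        simp only [MulEquiv.coe_toMonoidHom, MulAut.conj_apply]
        calc g * y * g⁻¹ * (g * x' * g⁻¹) = g * (y * x') * g⁻¹ := by group
          _ = g * (x' * y) * g⁻¹ := by rw [h6]
          _ = g * x' * g⁻¹ * (g * y * g⁻¹) := by group
    intro y
    have := hcent (Subgroup.mem_top y)
    rw [Subgroup.mem_centralizer_singleton_iff] at this
    exact this
  · intro x hx
    refine ⟨hx.1, x, hx.1, ?_⟩
    have hc := Subgroup.mem_center_iff.mp hx.2 g
    simp only [MulEquiv.coe_toMonoidHom, MulAut.conj_apply]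
    rw [hc, mul_inv_cancel_right]

end Cfsg.Agent.S2835
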