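import Mathlib
import Cfsg.Statements.S2836
import Cfsg.Agent.S2835
import Cfsg.Agent.Lib.helper17.PIrr2
import Cfsg.Agent.Lib.helper17.Large
import Cfsg.Agent.Lib.helper17.Coatom2

set_option autoImplicit false
open Cfsg

namespace Cfsg.Agent.S2836

open Cfsg.Agent.Lib.helper17

/-- The data extracted from `Y`-minimality. -/
structure MinData {L : Type*} [Group L] (p : ℕ) (L₀ Y : Subgroup L) : Prop where
  coatom : IsCoatom L₀
  le : Y ≤ L₀
  uniq : ∀ M' : Subgroup L, IsCoatom M' → Y ≤ M' → M' = L₀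
  key : ∀ K : Subgroup L, Y ≤ K → K ≠ ⊤ → K ≤ L₀
  norm : ∀ K : Subgroup L, K.Normal → Y ≤ K → K = ⊤

theorem minData_of {L : Type*} [Group L] [Finite L] {p : ℕ} (L₀ : Subgroup L) (hL₀ : IsCoatom L₀)
    (Y : Subgroup L) (hYL₀ : Y ≤ L₀) (hmin : Cfsg.IsMinimalOver Y) : MinData p L₀ Y := by
  obtain ⟨hnc, M, ⟨hMco, hYM⟩, hMuniq⟩ := hmin
  have hML₀ : L₀ = M := hMuniq L₀ ⟨hL₀, hYL₀⟩
  have huniq : ∀ M' : Subgroup L, IsCoatom M' → Y ≤ M' → M' = L₀ := by
    intro M' h1 h2
    rw [hML₀]
    exact hMuniq M' ⟨h1, h2⟩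
  refine ⟨hL₀, hYL₀, huniq, ?_, ?_⟩
  · intro K hYK hK
    obtain ⟨M', hM', hKM'⟩ := exists_coatom_ge hK
    rw [← huniq M' hM' (hYK.trans hKM')]
    exact hKM'
  · intro K hK hYK
    rw [← top_le_iff, ← hnc]
    exact Subgroup.normalClosure_le_normal (SetLike.coe_subset_coe.mpr hYK)

/-- For a normal subgroup `N ≤ L₀`, `P ∩ N` is normal in `L` (`P` a Sylow subgroup containing `Y`). -/
theorem sylow_inf_normal {L : Type*} [Group L] [Finite L] {p : ℕ} [Fact p.Prime] {L₀ Y : Subgroup L}
    (hd : MinData p L₀ Y) (P : Sylow p L) (hYP : Y ≤ (P : Subgroup L)) (N : Subgroup L) [hN : N.Normal]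
    (hNL₀ : N ≤ L₀) : ((P : Subgroup L) ⊓ N).Normal := by
  have h3 : Subgroup.normalizer (((sylowInfNormal P N : Sylow p N) : Subgroup N).map N.subtype : Set L) ⊔ N = ⊤ :=
    Sylow.normalizer_sup_eq_top (sylowInfNormal P N)
  rw [sylowInfNormal_map] at h3
  have h4 : (P : Subgroup L) ≤ Subgroup.normalizer (((P : Subgroup L) ⊓ N : Subgroup L) : Set L) := by
    intro t ht
    have h1 : cj t (P : Subgroup L) = P := cj_eq_self_of_mem ht
    have h2 : cj t N = N := by
      rw [cj_eq_self_iff, Subgroup.normalizer_eq_top_iff.mpr hN]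
      exact Subgroup.mem_top t
    rw [← cj_eq_self_iff, cj_inf, h1, h2]
  rw [← Subgroup.normalizer_eq_top_iff]
  by_contra hne
  have h6 := hd.key _ (hYP.trans h4) hne
  exact hd.coatom.1 (top_le_iff.mp (h3 ▸ sup_le h6 hNL₀))


theorem pCore_eq_of_normal_sylow {G : Type*} [Group G] [Finite G] {p : ℕ} [Fact p.Prime]
    (S : Sylow p G) (hS : (S : Subgroup G).Normal) : Cfsg.pCore p G = S := by
  apply le_antisymm
  · have := pCore_normal p G
    exact IsPGroup.le_sylow_of_normal (pCore_isPGroup p G) S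
  · exact le_pCore hS S.isPGroup'

theorem card_quotient_pCore_coprime {G : Type*} [Group G] [Finite G] {p : ℕ} [hp : Fact p.Prime]
    (S : Sylow p G) (hS : (S : Subgroup G).Normal) [(Cfsg.pCore p G).Normal] :
    (Nat.card (G ⧸ Cfsg.pCore p G)).Coprime p := by
  rw [← Subgroup.index_eq_card]
  have h1 : (Cfsg.pCore p G).index = (S : Subgroup G).index := by
    rw [pCore_eq_of_normal_sylow S hS]
  rw [h1]
  exact ((Nat.Prime.coprime_iff_not_dvd hp.out).mpr S.not_dvd_index).symm

/-- A subgroup of index prime to `p` contains a conjugate of any Sylow `p`-subgroup. -/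
theorem exists_cj_le_of_not_dvd_index {G : Type*} [Group G] [Finite G] {p : ℕ} [hp : Fact p.Prime]
    (P : Sylow p G) (M : Subgroup G) (hM : ¬ p ∣ M.index) : ∃ g : G, cj g (P : Subgroup G) ≤ M := by
  obtain ⟨S⟩ : Nonempty (Sylow p M) := inferInstance
  have hidx : ((S : Subgroup M).map M.subtype).index = (S : Subgroup M).index * M.index :=
    Subgroup.index_map_subtype _
  have hnd : ¬ p ∣ ((S : Subgroup M).map M.subtype).index := by
    rw [hidx]
    intro h
    rcases (Nat.Prime.dvd_mul hp.out).mp h with h | h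
    · exact S.not_dvd_index h
    · exact hM h
  have hpg : IsPGroup p ((S : Subgroup M).map M.subtype) := S.isPGroup'.map _
  obtain ⟨g, hg⟩ := MulAction.exists_smul_eq G P (hpg.toSylow hnd)
  refine ⟨g, ?_⟩
  rw [← sylow_smul_coe_eq_cj, hg, IsPGroup.toSylow_coe]
  exact Subgroup.map_subtype_le _


/-- The core `D` of `L₀` maps onto the Frattini subgroup of `L / O_p(L)`. -/
theorem core_map_eq_frattini {L : Type*} [Group L] [Finite L] {p : ℕ} [Fact p.Prime] {L₀ Y : Subgroup L}
    (hd : MinData p L₀ Y) (P : Sylow p L) (hYP : Y ≤ (P : Subgroup L))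
    (hOL₀ : Cfsg.pCore p L ≤ L₀) [hn : (Cfsg.pCore p L).Normal] :
    (L₀.normalCore).map (QuotientGroup.mk' (Cfsg.pCore p L)) = frattini (L ⧸ Cfsg.pCore p L) := by
  have hsurj := QuotientGroup.mk'_surjective (Cfsg.pCore p L)
  have hOD : Cfsg.pCore p L ≤ L₀.normalCore := Subgroup.normal_le_normalCore.mpr hOL₀
  have hDn : (L₀.normalCore).Normal := inferInstance
  have hPD : ((P : Subgroup L) ⊓ L₀.normalCore).Normal :=
    sylow_inf_normal hd P hYP L₀.normalCore (Subgroup.normalCore_le L₀)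
  have hOeq : Cfsg.pCore p L = (P : Subgroup L) ⊓ L₀.normalCore := by
    apply le_antisymm
    · exact le_inf (IsPGroup.le_sylow_of_normal (pCore_isPGroup p L) P) hOD
    · exact le_pCore hPD (P.isPGroup'.to_le inf_le_left)
  have hrel : ¬ p ∣ (Cfsg.pCore p L).relIndex L₀.normalCore := by
    rw [hOeq, Subgroup.inf_relIndex_right]
    exact not_dvd_relIndex_of_normal P L₀.normalCore
  apply le_antisymm
  · -- `D π ≤ Φ`
    unfold frattini Order.radical
    apply le_iInf₂
    intro M' hM'
    have hM'co : IsCoatom M' := hM'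
    have hMco : IsCoatom (M'.comap (QuotientGroup.mk' (Cfsg.pCore p L))) :=
      isCoatom_comap_of_surjective hsurj hM'co
    have hOM : Cfsg.pCore p L ≤ M'.comap (QuotientGroup.mk' (Cfsg.pCore p L)) := by
      have := Subgroup.ker_le_comap (QuotientGroup.mk' (Cfsg.pCore p L)) M'
      rwa [QuotientGroup.ker_mk'] at this
    have hDM : L₀.normalCore ≤ M'.comap (QuotientGroup.mk' (Cfsg.pCore p L)) := by
      by_contra hnot
      have htop : M'.comap (QuotientGroup.mk' (Cfsg.pCore p L)) ⊔ L₀.normalCore = ⊤ := by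
        apply hMco.2
        refine lt_of_le_of_ne le_sup_left ?_
        intro heq
        apply hnot
        rw [heq]
        exact le_sup_right
      have hidx : (M'.comap (QuotientGroup.mk' (Cfsg.pCore p L))).index =
          (M'.comap (QuotientGroup.mk' (Cfsg.pCore p L))).relIndex L₀.normalCore := by
        rw [relIndex_eq_relIndex_sup_of_normal, htop, Subgroup.relIndex_top_right]
      have hnd : ¬ p ∣ (M'.comap (QuotientGroup.mk' (Cfsg.pCore p L))).index := by
        rw [hidx]
        intro h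
        exact hrel (h.trans (Subgroup.relIndex_dvd_of_le_left _ hOM))
      obtain ⟨g, hg⟩ := exists_cj_le_of_not_dvd_index P _ hnd
      have hYg : Y ≤ cj g⁻¹ (M'.comap (QuotientGroup.mk' (Cfsg.pCore p L))) := by
        rw [← cj_le_iff]
        exact (cj_mono hYP).trans hg
      have heq := hd.uniq _ (isCoatom_cj hMco g⁻¹) hYg
      apply hnot
      have h1 : cj g L₀ = M'.comap (QuotientGroup.mk' (Cfsg.pCore p L)) := by
        rw [← heq, cj_cj_inv]
      rw [← h1]
      have h2 : cj g L₀.normalCore = L₀.normalCore := by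
        rw [cj_eq_self_iff, Subgroup.normalizer_eq_top_iff.mpr hDn]
        exact Subgroup.mem_top g
      rw [← h2]
      exact cj_mono (Subgroup.normalCore_le L₀)
    rw [← Subgroup.map_comap_eq_self_of_surjective hsurj M']
    exact Subgroup.map_mono hDM
  · -- `Φ ≤ D π`
    have h1 : (frattini (L ⧸ Cfsg.pCore p L)).comap (QuotientGroup.mk' (Cfsg.pCore p L)) ≤ L₀.normalCore := by
      have hnorm : ((frattini (L ⧸ Cfsg.pCore p L)).comap (QuotientGroup.mk' (Cfsg.pCore p L))).Normal :=
        Subgroup.Normal.comap (Subgroup.normal_of_characteristic _) _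
      rw [Subgroup.normal_le_normalCore]
      have hker : (QuotientGroup.mk' (Cfsg.pCore p L)).ker ≤ L₀ := by
        rw [QuotientGroup.ker_mk']
        exact hOL₀
      have hco : IsCoatom (L₀.map (QuotientGroup.mk' (Cfsg.pCore p L))) :=
        isCoatom_map_of_surjective hsurj hd.coatom hker
      have h2 := Subgroup.comap_mono (f := QuotientGroup.mk' (Cfsg.pCore p L)) (frattini_le_coatom hco)
      rw [Subgroup.comap_map_eq, sup_of_le_left hker] at h2
      exact h2
    rw [← Subgroup.map_comap_eq_self_of_surjective hsurj (frattini (L ⧸ Cfsg.pCore p L))]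
    exact Subgroup.map_mono h1


/-- Let L be a finite group, L₀ a maximal subgroup, T a Sylow p-subgroup of L₀, Y ≤ T, and suppose L is Y-minimal. Let D be the intersection of the conjugates of L₀ (the core of L₀). Then D contains O_p(L) and D/O_p(L) is the Frattini subgroup of L/O_p(L), so D is p-closed; and every normal subgroup N of L contained in L₀ is p-closed with N/O_p(N) a nilpotent group of order prime to p. -/
theorem result {L : Type*} [Group L] [Finite L] {p : ℕ} [Fact p.Prime] (L₀ : Subgroup L) (hL₀ : IsCoatom L₀) (T : Sylow p ↥L₀) (Y : Subgroup L) (hYT : Y ≤ (T : Subgroup ↥L₀).map L₀.subtype) (hmin : Cfsg.IsMinimalOver Y) : (Cfsg.pCore p L ≤ L₀.normalCore ∧ (L₀.normalCore).map (QuotientGroup.mk' (Cfsg.pCore p L)) = frattini (L ⧸ Cfsg.pCore p L) ∧ Cfsg.IsPClosed p ↥(L₀.normalCore)) ∧ ∀ (N : Subgroup L) [N.Normal], N ≤ L₀ → Cfsg.IsPClosed p ↥N ∧ Group.IsNilpotent (↥N ⧸ Cfsg.pCore p ↥N) ∧ (Nat.card (↥N ⧸ Cfsg.pCore p ↥N)).Coprime p := by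
  have hYL₀ : Y ≤ L₀ := hYT.trans (Subgroup.map_subtype_le _)
  have hd : MinData p L₀ Y := minData_of L₀ hL₀ Y hYL₀ hmin
  obtain ⟨-, hOL₀, ⟨P, hP⟩, -, -, -⟩ := Cfsg.Agent.S2835.result L₀ hL₀ T Y hYT hmin
  have hYP : Y ≤ (P : Subgroup L) := hP ▸ hYT
  have hOD : Cfsg.pCore p L ≤ L₀.normalCore := by
    have := pCore_normal p L
    exact Subgroup.normal_le_normalCore.mpr hOL₀
  have hfrat := core_map_eq_frattini hd P hYP hOL₀
  -- normal subgroups in `L₀`
  have hN : ∀ (N : Subgroup L) [N.Normal], N ≤ L₀ → Cfsg.IsPClosed p ↥N ∧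
      Group.IsNilpotent (↥N ⧸ Cfsg.pCore p ↥N) ∧ (Nat.card (↥N ⧸ Cfsg.pCore p ↥N)).Coprime p := by
    intro N hNn hNL₀
    have hPN : ((P : Subgroup L) ⊓ N).Normal := sylow_inf_normal hd P hYP N hNL₀
    have hS : ((sylowInfNormal P N : Sylow p N) : Subgroup N).Normal := by
      rw [sylowInfNormal_coe, ← Subgroup.inf_subgroupOf_right]
      exact hPN.subgroupOf N
    have hcl : Cfsg.IsPClosed p ↥N := sylow_normal_of_normal _ hS
    have hcop : (Nat.card (↥N ⧸ Cfsg.pCore p ↥N)).Coprime p :=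
      card_quotient_pCore_coprime (sylowInfNormal P N) hS
    refine ⟨hcl, ?_, hcop⟩
    -- nilpotency: embed into the Frattini subgroup of `L / O_p(L)`
    have hND : N ≤ L₀.normalCore := Subgroup.normal_le_normalCore.mpr hNL₀
    have hcoreN : Cfsg.pCore p ↥N = (Cfsg.pCore p L).subgroupOf N := by
      apply le_antisymm
      · rw [pCore_eq_of_normal_sylow (sylowInfNormal P N) hS, sylowInfNormal_coe]
        intro x hx
        rw [Subgroup.mem_subgroupOf] at hx ⊢
        have h1 : (x : L) ∈ (P : Subgroup L) ⊓ N := ⟨hx, x.2⟩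
        exact le_pCore hPN (P.isPGroup'.to_le inf_le_left) h1
      · have := pCore_normal p L
        exact le_pCore inferInstance (pCore_isPGroup p L).comap_subtype
    have hker : ((QuotientGroup.mk' (Cfsg.pCore p L)).comp N.subtype).ker = Cfsg.pCore p ↥N := by
      rw [hcoreN]
      ext x
      rw [MonoidHom.mem_ker, Subgroup.mem_subgroupOf, MonoidHom.comp_apply, QuotientGroup.mk'_apply,
        QuotientGroup.eq_one_iff]
      rfl
    have hnilF : Group.IsNilpotent (frattini (L ⧸ Cfsg.pCore p L)) := frattini_nilpotent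
    have hmem : ∀ x : ↥N ⧸ ((QuotientGroup.mk' (Cfsg.pCore p L)).comp N.subtype).ker,
        QuotientGroup.kerLift ((QuotientGroup.mk' (Cfsg.pCore p L)).comp N.subtype) x ∈
          frattini (L ⧸ Cfsg.pCore p L) := by
      intro x
      obtain ⟨n, rfl⟩ := QuotientGroup.mk_surjective x
      rw [QuotientGroup.kerLift_mk, ← hfrat]
      exact Subgroup.mem_map_of_mem _ (hND n.2)
    have hinj : Function.Injective ((QuotientGroup.kerLift ((QuotientGroup.mk' (Cfsg.pCore p L)).comp
        N.subtype)).codRestrict (frattini (L ⧸ Cfsg.pCore p L)) hmem) := by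
      intro a b hab
      apply QuotientGroup.kerLift_injective ((QuotientGroup.mk' (Cfsg.pCore p L)).comp N.subtype)
      exact congrArg Subtype.val hab
    have hnil1 : Group.IsNilpotent (↥N ⧸ ((QuotientGroup.mk' (Cfsg.pCore p L)).comp N.subtype).ker) := by
      apply Subgroup.isNilpotent_of_ker_le_center ((QuotientGroup.kerLift ((QuotientGroup.mk' (Cfsg.pCore p L)).comp
        N.subtype)).codRestrict (frattini (L ⧸ Cfsg.pCore p L)) hmem)
      rw [(MonoidHom.ker_eq_bot_iff _).mpr hinj]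
      exact bot_le
    exact Group.nilpotent_of_mulEquiv (QuotientGroup.quotientMulEquivOfEq hker)
  refine ⟨⟨hOD, hfrat, ?_⟩, hN⟩
  exact (hN L₀.normalCore (Subgroup.normalCore_le L₀)).1

end Cfsg.Agent.S2836
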