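import Mathlib
import Cfsg.Statements.S2837
import Cfsg.Agent.S2835
import Cfsg.Agent.Lib.helper17.Large2
import Cfsg.Agent.Lib.helper17.Frattini
import Cfsg.Agent.Lib.helper17.Op
import Cfsg.Agent.Lib.helper17.Cores
import Cfsg.Agent.Lib.Helper1.Frat

set_option autoImplicit false
open Cfsg

namespace Cfsg.Agent.S2837

open Cfsg.Agent.Lib.helper17
open scoped commutatorElement

theorem cj_commutator {G : Type*} [Group G] (g : G) (A B : Subgroup G) :
    cj g ⁅A, B⁆ = ⁅cj g A, cj g B⁆ := by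
  unfold cj
  rw [Subgroup.map_commutator]

theorem cj_eq_self_of_normal {G : Type*} [Group G] (g : G) {A : Subgroup G} (hA : A.Normal) :
    cj g A = A := by
  rw [cj_eq_self_iff, Subgroup.normalizer_eq_top_iff.mpr hA]
  exact Subgroup.mem_top g

theorem conj_eq_self_of_mem_center {G : Type*} [Group G] (g : G) {z : G}
    (hz : z ∈ Subgroup.center G) : g * z * g⁻¹ = z := by
  rw [Subgroup.mem_center_iff.mp hz g, mul_inv_cancel_right]

theorem cj_eq_self_of_le_center {G : Type*} [Group G] (g : G) {A : Subgroup G}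
    (hA : A ≤ Subgroup.center G) : cj g A = A := by
  ext x
  rw [mem_cj]
  constructor
  · intro h
    have h1 := conj_eq_self_of_mem_center g (hA h)
    have e : g * (g⁻¹ * x * g) * g⁻¹ = x := by group
    rw [e] at h1
    rw [h1]
    exact h
  · intro h
    have h1 := conj_eq_self_of_mem_center g⁻¹ (hA h)
    rw [inv_inv] at h1
    rw [h1]
    exact h

theorem commutatorElement_mul_right' {G : Type*} [Group G] (x y z : G) :
    ⁅x, y * z⁆ = ⁅x, y⁆ * (y * ⁅x, z⁆ * y⁻¹) := by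
  simp only [commutatorElement_def]
  group

/-- Elements of `Y` commute. -/
theorem comm_of_elem {L : Type*} [Group L] {p : ℕ} {Y : Subgroup L} (hY : Cfsg.IsElementaryAbelian p Y) :
    ∀ a ∈ Y, ∀ b ∈ Y, a * b = b * a := by
  intro a ha b hb
  have := isMulCommutative_iff.mp hY.1 ⟨a, ha⟩ ⟨b, hb⟩
  exact congrArg Subtype.val this

theorem isPGroup_of_elem {L : Type*} [Group L] {p : ℕ} {Y : Subgroup L} (hY : Cfsg.IsElementaryAbelian p Y) :
    IsPGroup p Y := by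
  rintro ⟨y, hy⟩
  refine ⟨1, ?_⟩
  apply Subtype.ext
  rw [pow_one]
  exact hY.2 y hy

/-- The structural core. `P` normal, `Y` abelian normalized by `P`, `L = ⟨Y, Y^g⟩`,
`Y ∩ Y^g ≤ Z(L)`. -/
theorem structure_core {L : Type*} [Group L] {P Y : Subgroup L} (g : L) (hP : P.Normal)
    (hYc : ∀ a ∈ Y, ∀ b ∈ Y, a * b = b * a)
    (hPY : P ≤ Subgroup.normalizer (Y : Set L)) (htop : Y ⊔ cj g Y = ⊤)
    (hcen : Y ⊓ cj g Y ≤ Subgroup.center L) :
    Subgroup.normalClosure ((P ⊓ Y : Subgroup L) : Set L) = (P ⊓ Y) ⊔ (P ⊓ cj g Y) ∧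
    ⁅P ⊓ Y, P ⊓ cj g Y⁆ ≤ (P ⊓ Y) ⊓ (P ⊓ cj g Y) ∧
    ⁅P ⊓ Y, (P ⊓ Y) ⊔ (P ⊓ cj g Y)⁆ ≤ ⁅P ⊓ Y, P ⊓ cj g Y⁆ ∧
    ⁅(P ⊓ Y) ⊔ (P ⊓ cj g Y), (P ⊓ Y) ⊔ (P ⊓ cj g Y)⁆ ≤ ⁅P ⊓ Y, P ⊓ cj g Y⁆ := by
  have hcjP : cj g P = P := cj_eq_self_of_normal g hP
  have hYgc : ∀ a ∈ cj g Y, ∀ b ∈ cj g Y, a * b = b * a := by
    rintro _ ⟨a, ha, rfl⟩ _ ⟨b, hb, rfl⟩
    simp only [MulEquiv.coe_toMonoidHom, MulAut.conj_apply]
    calc g * a * g⁻¹ * (g * b * g⁻¹) = g * (a * b) * g⁻¹ := by group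
      _ = g * (b * a) * g⁻¹ := by rw [hYc a ha b hb]
      _ = g * b * g⁻¹ * (g * a * g⁻¹) := by group
  have hPYg : P ≤ Subgroup.normalizer ((cj g Y : Subgroup L) : Set L) := by
    rw [normalizer_cj]
    have := cj_mono (g := g) hPY
    rwa [hcjP] at this
  -- f5
  have f5 : ⁅P, Y⁆ ≤ P ⊓ Y :=
    le_inf (Subgroup.commutator_le_left P Y) (Subgroup.le_normalizer_iff_commutator_le_right.mp hPY)
  have f5' : ⁅P, cj g Y⁆ ≤ P ⊓ cj g Y :=
    le_inf (Subgroup.commutator_le_left P _) (Subgroup.le_normalizer_iff_commutator_le_right.mp hPYg)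
  -- f6
  have f6 : ⁅P ⊓ Y, P ⊓ cj g Y⁆ ≤ (P ⊓ Y) ⊓ (P ⊓ cj g Y) := by
    apply le_inf
    · refine le_trans ?_ f5
      rw [Subgroup.commutator_comm]
      exact Subgroup.commutator_mono inf_le_left inf_le_right
    · refine le_trans ?_ f5'
      exact Subgroup.commutator_mono inf_le_left inf_le_right
  have f7 : (P ⊓ Y) ⊓ (P ⊓ cj g Y) ≤ Subgroup.center L :=
    (inf_le_inf inf_le_right inf_le_right).trans hcen
  have hWc : ⁅P ⊓ Y, P ⊓ cj g Y⁆ ≤ Subgroup.center L := f6.trans f7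
  -- B and Bg normalize each other
  have hBBg : P ⊓ Y ≤ Subgroup.normalizer ((P ⊓ cj g Y : Subgroup L) : Set L) :=
    Subgroup.le_normalizer_iff_commutator_le_right.mpr (f6.trans inf_le_right)
  -- commutators with a product
  have key1 : ⁅P ⊓ Y, (P ⊓ Y) ⊔ (P ⊓ cj g Y)⁆ ≤ ⁅P ⊓ Y, P ⊓ cj g Y⁆ := by
    rw [Subgroup.commutator_le]
    intro b hb x hx
    obtain ⟨b', hb', c, hc, rfl⟩ := exists_mul_of_mem_sup_left hBBg hx
    rw [commutatorElement_mul_right']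
    have h1 : ⁅b, b'⁆ = 1 := by
      rw [commutatorElement_eq_one_iff_mul_comm]
      exact hYc b hb.2 b' hb'.2
    have h2 : ⁅b, c⁆ ∈ ⁅P ⊓ Y, P ⊓ cj g Y⁆ := Subgroup.commutator_mem_commutator hb hc
    rw [h1, one_mul, conj_eq_self_of_mem_center b' (hWc h2)]
    exact h2
  have key1' : ⁅P ⊓ cj g Y, (P ⊓ Y) ⊔ (P ⊓ cj g Y)⁆ ≤ ⁅P ⊓ Y, P ⊓ cj g Y⁆ := by
    rw [Subgroup.commutator_le]
    intro c hc x hx
    obtain ⟨b', hb', c', hc', rfl⟩ := exists_mul_of_mem_sup_left hBBg hx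
    rw [commutatorElement_mul_right']
    have h1 : ⁅c, c'⁆ = 1 := by
      rw [commutatorElement_eq_one_iff_mul_comm]
      exact hYgc c hc.2 c' hc'.2
    have h2 : ⁅c, b'⁆ ∈ ⁅P ⊓ Y, P ⊓ cj g Y⁆ := by
      rw [Subgroup.commutator_comm]
      exact Subgroup.commutator_mem_commutator hc hb'
    rw [h1, mul_one, mul_inv_cancel, mul_one]
    exact h2
  have hWn : (⁅P ⊓ Y, P ⊓ cj g Y⁆ : Subgroup L).Normal := by
    constructor
    intro n hn x
    rw [conj_eq_self_of_mem_center x (hWc hn)]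
    exact hn
  have key2 : ⁅(P ⊓ Y) ⊔ (P ⊓ cj g Y), (P ⊓ Y) ⊔ (P ⊓ cj g Y)⁆ ≤ ⁅P ⊓ Y, P ⊓ cj g Y⁆ := by
    rw [Subgroup.commutator_le]
    intro x hx x' hx'
    obtain ⟨b, hb, c, hc, rfl⟩ := exists_mul_of_mem_sup_left hBBg hx
    have h1 : ⁅b, x'⁆ ∈ ⁅P ⊓ Y, P ⊓ cj g Y⁆ := key1 (Subgroup.commutator_mem_commutator hb hx')
    have h2 : ⁅c, x'⁆ ∈ ⁅P ⊓ Y, P ⊓ cj g Y⁆ := key1' (Subgroup.commutator_mem_commutator hc hx')
    rw [commutatorElement_mul_left]
    exact Subgroup.mul_mem _ (hWn.conj_mem _ h2 b) h1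
  -- f8: B ⊔ Bg is normal
  have hnorm : ((P ⊓ Y) ⊔ (P ⊓ cj g Y) : Subgroup L).Normal := by
    rw [← Subgroup.normalizer_eq_top_iff, ← top_le_iff, ← htop]
    apply sup_le
    · apply le_normalizer_of_cj_le'
      intro y hy
      unfold cj
      rw [Subgroup.map_sup]
      apply sup_le
      · rintro _ ⟨b, hb, rfl⟩
        have e : y * b * y⁻¹ = b := by rw [hYc y hy b hb.2, mul_inv_cancel_right]
        change y * b * y⁻¹ ∈ _
        rw [e]
        exact le_sup_left (a := P ⊓ Y) hb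
      · rintro _ ⟨c, hc, rfl⟩
        have h5 : y * c * y⁻¹ = ⁅y, c⁆ * c := by
          rw [commutatorElement_def]
          group
        change y * c * y⁻¹ ∈ _
        rw [h5]
        have h6 : ⁅y, c⁆ ∈ ⁅P, Y⁆ := by
          rw [Subgroup.commutator_comm]
          exact Subgroup.commutator_mem_commutator hy hc.1
        exact Subgroup.mul_mem _ (le_sup_left (a := P ⊓ Y) (f5 h6)) (le_sup_right (a := P ⊓ Y) hc)
    · apply le_normalizer_of_cj_le'
      intro y hy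
      unfold cj
      rw [Subgroup.map_sup]
      apply sup_le
      · rintro _ ⟨b, hb, rfl⟩
        have h5 : y * b * y⁻¹ = ⁅y, b⁆ * b := by
          rw [commutatorElement_def]
          group
        change y * b * y⁻¹ ∈ _
        rw [h5]
        have h6 : ⁅y, b⁆ ∈ ⁅P, cj g Y⁆ := by
          rw [Subgroup.commutator_comm]
          exact Subgroup.commutator_mem_commutator hy hb.1
        exact Subgroup.mul_mem _ (le_sup_right (a := P ⊓ Y) (f5' h6)) (le_sup_left (a := P ⊓ Y) hb)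
      · rintro _ ⟨c, hc, rfl⟩
        have e : y * c * y⁻¹ = c := by rw [hYgc y hy c hc.2, mul_inv_cancel_right]
        change y * c * y⁻¹ ∈ _
        rw [e]
        exact le_sup_right (a := P ⊓ Y) hc
  refine ⟨?_, f6, key1, key2⟩
  apply le_antisymm
  · exact Subgroup.normalClosure_le_normal (SetLike.coe_subset_coe.mpr le_sup_left)
  · apply sup_le Subgroup.le_normalClosure
    have h1 : cj g (P ⊓ Y) ≤ cj g (Subgroup.normalClosure ((P ⊓ Y : Subgroup L) : Set L)) :=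
      cj_mono Subgroup.le_normalClosure
    rw [cj_eq_self_of_normal g Subgroup.normalClosure_normal, cj_inf, hcjP] at h1
    exact h1

/-- `p`-th powers of elements of `B ⊔ Bg` lie in the derived subgroup. -/
theorem pow_mem_commutator_of_sup {L : Type*} [Group L] {p : ℕ} {A B C : Subgroup L}
    (hA : A = B ⊔ C) (hBC : B ≤ Subgroup.normalizer (C : Set L))
    (hB : ∀ b ∈ B, b ^ p = 1) (hC : ∀ c ∈ C, c ^ p = 1) (x : ↥A) : x ^ p ∈ commutator ↥A := by
  obtain ⟨x, hx⟩ := x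
  have hx' : x ∈ B ⊔ C := hA ▸ hx
  obtain ⟨b, hb, c, hc, rfl⟩ := exists_mul_of_mem_sup_left hBC hx'
  have hbA : b ∈ A := by rw [hA]; exact le_sup_left (a := B) hb
  have hcA : c ∈ A := by rw [hA]; exact le_sup_right (a := B) hc
  have e : (⟨b * c, hx⟩ : ↥A) = ⟨b, hbA⟩ * ⟨c, hcA⟩ := rfl
  rw [e]
  have h1 : (Abelianization.of (⟨b, hbA⟩ * ⟨c, hcA⟩ : ↥A)) ^ p = 1 := by
    rw [map_mul, mul_pow, ← map_pow, ← map_pow]
    have e1 : (⟨b, hbA⟩ : ↥A) ^ p = 1 := Subtype.ext (by simpa using hB b hb)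
    have e2 : (⟨c, hcA⟩ : ↥A) ^ p = 1 := Subtype.ext (by simpa using hC c hc)
    rw [e1, e2, map_one, one_mul]
  rw [← map_pow] at h1
  have h2 : (⟨b, hbA⟩ * ⟨c, hcA⟩ : ↥A) ^ p ∈ (Abelianization.of : ↥A →* _).ker := h1
  rwa [Abelianization.ker_of] at h2

theorem result {L : Type*} [Group L] [Finite L] {p : ℕ} [Fact p.Prime] (hchar : Subgroup.centralizer (Cfsg.pCore p L : Set L) ≤ Cfsg.pCore p L) (L₀ : Subgroup L) (hL₀ : IsCoatom L₀) (Y : Subgroup L) (hYL₀ : Y ≤ L₀) (hYel : Cfsg.IsElementaryAbelian p Y) (hmin : Cfsg.IsMinimalOver Y) (hOY : Cfsg.pCore p L ≤ Subgroup.normalizer (Y : Set L)) (A : Subgroup L) (hA : A = Subgroup.normalClosure (((Cfsg.pCore p L ⊓ Y : Subgroup L)) : Set L)) (g : L) (hg : g ∉ L₀) : (frattini ↥A).map A.subtype = ⁅A, A⁆ ∧ ⁅A, A⁆ = ⁅A ⊓ Y, A⁆ ∧ ⁅A ⊓ Y, A⁆ = ⁅A ⊓ Y, A ⊓ Y.map (MulAut.conj g).toMonoidHom⁆ ∧ ⁅A ⊓ Y, A⁆ ≤ Y ⊓ Subgroup.center L ∧ Y ⊓ Y.map (MulAut.conj g).toMonoidHom = Y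 ⊓ Subgroup.center L ∧ (A ⊓ Y) ⊓ (A ⊓ Y.map (MulAut.conj g).toMonoidHom) = Y ⊓ Subgroup.center L ∧ A ⊓ Subgroup.center L = Y ⊓ Subgroup.center L := by
  have hP : (Cfsg.pCore p L).Normal := pCore_normal p L
  have hPp : IsPGroup p (Cfsg.pCore p L) := pCore_isPGroup p L
  have hYc := comm_of_elem hYel
  have hYp : IsPGroup p Y := isPGroup_of_elem hYel
  have hYp' : IsPGroup p (Y.subgroupOf L₀) := hYp.comap_subtype
  obtain ⟨T, hT⟩ := hYp'.exists_le_sylow
  have hYT : Y ≤ (T : Subgroup L₀).map L₀.subtype := by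
    intro y hy
    exact ⟨⟨y, hYL₀ hy⟩, hT (Subgroup.mem_subgroupOf.mpr hy), rfl⟩
  obtain ⟨-, -, -, -, h5, h6⟩ := Cfsg.Agent.S2835.result L₀ hL₀ T Y hYT hmin
  have htop : Y ⊔ cj g Y = ⊤ := h5 g hg
  have hcen : Y ⊓ cj g Y = Y ⊓ Subgroup.center L := h6 hYel.1 g hg
  change _ ∧ _ ∧ ⁅A ⊓ Y, A⁆ = ⁅A ⊓ Y, A ⊓ cj g Y⁆ ∧ _ ∧ Y ⊓ cj g Y = _ ∧ (A ⊓ Y) ⊓ (A ⊓ cj g Y) = _ ∧ _
  obtain ⟨s1, s2, s3, s4⟩ := structure_core g hP hYc hOY htop (hcen.le.trans inf_le_right)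
  rw [← hA] at s1
  -- A ≤ P
  have hAP : A ≤ Cfsg.pCore p L := by
    rw [hA]
    exact Subgroup.normalClosure_le_normal (SetLike.coe_subset_coe.mpr inf_le_left)
  have hAY : A ⊓ Y = Cfsg.pCore p L ⊓ Y := by
    apply le_antisymm
    · exact inf_le_inf_right _ hAP
    · apply le_inf _ inf_le_right
      rw [s1]
      exact le_sup_left
  have hAYg : A ⊓ cj g Y = Cfsg.pCore p L ⊓ cj g Y := by
    apply le_antisymm
    · exact inf_le_inf_right _ hAP
    · apply le_inf _ inf_le_right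
      rw [s1]
      exact le_sup_right
  rw [hAY, hAYg]
  rw [← s1] at s3 s4
  have hBA : Cfsg.pCore p L ⊓ Y ≤ A := by rw [s1]; exact le_sup_left
  have hBgA : Cfsg.pCore p L ⊓ cj g Y ≤ A := by rw [s1]; exact le_sup_right
  have e3 : ⁅Cfsg.pCore p L ⊓ Y, A⁆ = ⁅Cfsg.pCore p L ⊓ Y, Cfsg.pCore p L ⊓ cj g Y⁆ :=
    le_antisymm s3 (Subgroup.commutator_mono le_rfl hBgA)
  have e2 : ⁅A, A⁆ = ⁅Cfsg.pCore p L ⊓ Y, A⁆ :=
    le_antisymm (s4.trans e3.symm.le) (Subgroup.commutator_mono hBA le_rfl)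
  have e4 : ⁅Cfsg.pCore p L ⊓ Y, A⁆ ≤ Y ⊓ Subgroup.center L := by
    rw [e3, ← hcen]
    exact s2.trans (inf_le_inf inf_le_right inf_le_right)
  -- Y ∩ Z(L) ≤ P
  have hYZP : Y ⊓ Subgroup.center L ≤ Cfsg.pCore p L := by
    have hn : (Y ⊓ Subgroup.center L).Normal := by
      constructor
      intro n hn x
      rw [conj_eq_self_of_mem_center x hn.2]
      exact hn
    exact le_pCore hn (hYp.to_le (inf_le_left : Y ⊓ Subgroup.center L ≤ Y))
  have e6 : (Cfsg.pCore p L ⊓ Y) ⊓ (Cfsg.pCore p L ⊓ cj g Y) = Y ⊓ Subgroup.center L := by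
    apply le_antisymm
    · rw [← hcen]
      exact inf_le_inf inf_le_right inf_le_right
    · apply le_inf
      · exact le_inf hYZP inf_le_left
      · apply le_inf hYZP
        rw [← hcen]
        exact inf_le_right
  have hYgc : ∀ a ∈ cj g Y, ∀ b ∈ cj g Y, a * b = b * a := by
    rintro _ ⟨a, ha, rfl⟩ _ ⟨b, hb, rfl⟩
    simp only [MulEquiv.coe_toMonoidHom, MulAut.conj_apply]
    calc g * a * g⁻¹ * (g * b * g⁻¹) = g * (a * b) * g⁻¹ := by group
      _ = g * (b * a) * g⁻¹ := by rw [hYc a ha b hb]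
      _ = g * b * g⁻¹ * (g * a * g⁻¹) := by group
  have hBBg : Cfsg.pCore p L ⊓ Y ≤ Subgroup.normalizer ((Cfsg.pCore p L ⊓ cj g Y : Subgroup L) : Set L) :=
    Subgroup.le_normalizer_iff_commutator_le_right.mpr (s2.trans inf_le_right)
  have e7 : A ⊓ Subgroup.center L = Y ⊓ Subgroup.center L := by
    apply le_antisymm
    · rintro z ⟨hzA, hzZ⟩
      refine ⟨?_, hzZ⟩
      have hz' : z ∈ (Cfsg.pCore p L ⊓ Y) ⊔ (Cfsg.pCore p L ⊓ cj g Y) := s1 ▸ hzA
      obtain ⟨b, hb, c, hc, rfl⟩ := exists_mul_of_mem_sup_left hBBg hz'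
      -- c is central
      have hcZ : c ∈ Subgroup.center L := by
        have hcen' : (⊤ : Subgroup L) ≤ Subgroup.centralizer ({c} : Set L) := by
          rw [← htop]
          apply sup_le
          · intro y hy
            rw [Subgroup.mem_centralizer_singleton_iff]
            -- y * c = c * y
            have h1 : y * (b * c) = (b * c) * y := (Subgroup.mem_center_iff.mp hzZ y)
            have h2 : y * b = b * y := hYc y hy b hb.2
            have h3 : b * (y * c) = b * (c * y) := by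
              rw [← mul_assoc, ← h2, mul_assoc, h1, mul_assoc]
            exact mul_left_cancel h3
          · intro y hy
            rw [Subgroup.mem_centralizer_singleton_iff]
            exact hYgc y hy c hc.2
        rw [Subgroup.mem_center_iff]
        intro y
        have := hcen' (Subgroup.mem_top y)
        rw [Subgroup.mem_centralizer_singleton_iff] at this
        exact this
      have hcY : c ∈ Y := by
        have h1 : c ∈ cj g Y := hc.2
        rw [mem_cj] at h1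
        have h2 := conj_eq_self_of_mem_center g⁻¹ hcZ
        rw [inv_inv] at h2
        rwa [h2] at h1
      exact Y.mul_mem hb.2 hcY
    · exact le_inf ((le_inf hYZP inf_le_left).trans hBA) inf_le_right
  have hAp : IsPGroup p A := hPp.to_le hAP
  have e1 : (frattini ↥A).map A.subtype = ⁅A, A⁆ := by
    have hpow : ∀ x : ↥A, x ^ p ∈ commutator ↥A := by
      apply pow_mem_commutator_of_sup s1 hBBg
      · intro b hb
        exact hYel.2 b hb.2
      · rintro c ⟨-, y, hy, rfl⟩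
        simp only [MulEquiv.coe_toMonoidHom, MulAut.conj_apply]
        rw [conj_pow, hYel.2 y hy, mul_one, mul_inv_cancel]
    have h1 : frattini ↥A = commutator ↥A :=
      le_antisymm (Cfsg.Agent.Lib.Helper1.frattini_le_of_elementary_quotient (commutator ↥A) le_rfl hpow)
        (Cfsg.Agent.Lib.Helper1.pgroup_commutator_le_frattini hAp)
    rw [h1, commutator_def, Subgroup.map_commutator, ← MonoidHom.range_eq_map, Subgroup.range_subtype]
  exact ⟨e1, e2, e3, e4, hcen, e6, e7⟩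

end Cfsg.Agent.S2837
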