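import Mathlib
import Cfsg.Statements.S2842
import Cfsg.Agent.Lib.helper17.CharP4

set_option autoImplicit false
open Cfsg

namespace Cfsg.Agent.S2842

open Cfsg.Agent.Lib.helper17

theorem centralizer_zpowers_eq {G : Type*} [Group G] (y : G) :
    Subgroup.centralizer ((Subgroup.zpowers y : Subgroup G) : Set G) = Subgroup.centralizer ({y} : Set G) := by
  apply le_antisymm
  · apply Subgroup.centralizer_le
    intro x hx
    rw [Set.mem_singleton_iff] at hx
    rw [hx]
    exact Subgroup.mem_zpowers y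
  · rw [Subgroup.le_centralizer_iff, Subgroup.zpowers_le]
    rw [Subgroup.mem_centralizer_iff]
    intro x hx
    exact ((Subgroup.mem_centralizer_iff.mp hx) y (Set.mem_singleton y)).symm

/-- Let Q be a nontrivial p-subgroup of the finite group H that is a weakly closed subgroup with C_H(Q) ≤ Q, and Q ≤ L ≤ H. Suppose H has characteristic p, or more generally that C_H(y) has characteristic p for some nonidentity y ∈ C_{O_p(L)}(Q). Then [Q, C_H(O_p(L))] ≤ Q ∩ O_p(L), C_H(O_p(L)) is a p-group, and L has characteristic p. -/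
theorem result {H : Type*} [Group H] [Finite H] {p : ℕ} [Fact p.Prime] (Q : Subgroup H) (hQp : IsPGroup p ↥Q) (hQ1 : Q ≠ ⊥) (hwc : Cfsg.IsWeaklyClosedSubgroup p Q) (hCQ : Subgroup.centralizer ((Q : Subgroup H) : Set H) ≤ Q) (L : Subgroup H) (hQL : Q ≤ L) (hyp : Subgroup.centralizer (Cfsg.pCore p H : Set H) ≤ Cfsg.pCore p H ∨ ∃ y : H, y ≠ 1 ∧ y ∈ (Cfsg.pCoreOf p L) ⊓ Subgroup.centralizer ((Q : Subgroup H) : Set H) ∧ Subgroup.centralizer (Cfsg.pCore p ↥(Subgroup.centralizer ({y} : Set H)) : Set ↥(Subgroup.centralizer ({y} : Set H))) ≤ Cfsg.pCore p ↥(Subgroup.centralizer ({y} : Set H))) : ⁅Q, Subgroup.centralizer (((Cfsg.pCoreOf p L) : Subgroup H) : Set H)⁆ ≤ Q ⊓ (Cfsg.pCoreOf p L) ∧ IsPGroup p ↥(Subgroup.centralizer (((Cfsg.pCoreOf p L) : Subgroup H) : Set H)) ∧ Subgroup.centralizer (Cfsg.pCore p ↥L : Set ↥L) ≤ Cfsg.pCore p ↥L := by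
  have hs : WCStrong p Q := wcStrong_of_isWeaklyClosedSubgroup hwc
  have hPp : IsPGroup p (Cfsg.pCoreOf p L) := pCoreOf_isPGroup p L
  have hD : CharPSub p (Subgroup.centralizer ((Cfsg.pCoreOf p L : Subgroup H) : Set H)) := by
    rcases hyp with h | ⟨y, -, hy, hchar⟩
    · have h1 : CharPSub p (⊤ : Subgroup H) := (charPSub_top_iff p).mp h
      have h2 := charPSub_inf_centralizer h1 hPp (by
        rw [Subgroup.normalizer_eq_top_iff.mpr (inferInstance : (⊤ : Subgroup H).Normal)]
        exact le_top)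
      rwa [top_inf_eq] at h2
    · have h1 : CharPSub p (Subgroup.centralizer ({y} : Set H)) := (charPSub_iff p _).mp hchar
      rw [← centralizer_zpowers_eq] at h1
      have hle : Subgroup.zpowers y ≤ Cfsg.pCoreOf p L := by
        rw [Subgroup.zpowers_le]
        exact hy.1
      exact charPSub_centralizer_of_le hPp _ _ hle rfl h1
  obtain ⟨h1, h2, h3⟩ := wc_charp_main hs hQp hCQ hQL hD
  exact ⟨h1, h2, (charPSub_iff p L).mpr h3⟩

end Cfsg.Agent.S2842
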