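import Mathlib
import Cfsg.Statements.S2843
import Cfsg.Agent.Lib.helper17.Large2

set_option autoImplicit false
open Cfsg

namespace Cfsg.Agent.S2843

open Cfsg.Agent.Lib.helper17
open scoped commutatorElement

theorem le_normalizer_of_cj_le {G : Type*} [Group G] {X E : Subgroup G}
    (h : ∀ x ∈ X, cj x E ≤ E) : X ≤ Subgroup.normalizer (E : Set G) := by
  intro x hx
  rw [← cj_eq_self_iff]
  apply le_antisymm (h x hx)
  have := h x⁻¹ (X.inv_mem hx)
  rwa [cj_le_iff, inv_inv] at this

/-- Let Q be a nontrivial large p-subgroup of the finite group H, Q ≤ L ≤ H, and Y a nontrivial p-subgroup of H normalized by L. Let L° be the weak closure of Q in L (generated by the conjugates of Q inside L). Then L° equals the weak closure of Q in L·C_H(Y), and [L°, C_H(Y)] ≤ O_p(L°); in particular C_H(Y) normalizes L°. -/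
theorem result {H : Type*} [Group H] [Finite H] {p : ℕ} [Fact p.Prime] (Q : Subgroup H) (hQp : IsPGroup p ↥Q) (hQ1 : Q ≠ ⊥) (hL : Cfsg.IsLarge Q) (L : Subgroup H) (hQL : Q ≤ L) (Y : Subgroup H) (hYp : IsPGroup p ↥Y) (hY1 : Y ≠ ⊥) (hLY : L ≤ Subgroup.normalizer ((Y : Subgroup H) : Set H)) : Cfsg.weakClosure Q L = Cfsg.weakClosure Q (L ⊔ Subgroup.centralizer ((Y : Subgroup H) : Set H)) ∧ ⁅Cfsg.weakClosure Q L, Subgroup.centralizer ((Y : Subgroup H) : Set H)⁆ ≤ (Cfsg.pCoreOf p (Cfsg.weakClosure Q L)) ∧ Subgroup.centralizer ((Y : Subgroup H) : Set H) ≤ Subgroup.normalizer (((Cfsg.weakClosure Q L) : Subgroup H) : Set H) := by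
  have hs : WCStrong p Q := large_wcStrong hL hQ1
  have hW : Cfsg.weakClosure Q L = ⨆ g : {g : H // cj g Q ≤ L}, cj (g : H) Q := rfl
  have hCN : ∀ g : {g : H // cj g Q ≤ L},
      Subgroup.centralizer (Y : Set H) ≤ Subgroup.normalizer ((cj (g : H) Q : Subgroup H) : Set H) :=
    fun g => large_centralizer_le_normalizer (large_cj hL g) (isPGroup_cj hQp) hYp hY1 (g.2.trans hLY)
  have hLC : L ≤ Subgroup.normalizer ((Subgroup.centralizer (Y : Set H) : Subgroup H) : Set H) :=
    hLY.trans (normalizer_le_normalizer_centralizer' Y)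
  have hCQ : Subgroup.centralizer (Y : Set H) ≤ Subgroup.normalizer (Q : Set H) :=
    large_centralizer_le_normalizer hL hQp hYp hY1 (hQL.trans hLY)
  have part3 : Subgroup.centralizer (Y : Set H) ≤
      Subgroup.normalizer (((Cfsg.weakClosure Q L) : Subgroup H) : Set H) := by
    rw [hW]
    refine le_trans ?_ (Subgroup.iInf_normalizer_le_normalizer_iSup _)
    exact le_iInf hCN
  have part1 : Cfsg.weakClosure Q L =
      Cfsg.weakClosure Q (L ⊔ Subgroup.centralizer ((Y : Subgroup H) : Set H)) := by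
    apply le_antisymm
    · rw [hW]
      apply iSup_le
      intro g
      exact le_iSup (fun g : {g : H // Q.map (MulAut.conj g).toMonoidHom ≤
          L ⊔ Subgroup.centralizer ((Y : Subgroup H) : Set H)} =>
        Q.map (MulAut.conj (g : H)).toMonoidHom) ⟨(g : H), g.2.trans le_sup_left⟩
    · unfold Cfsg.weakClosure
      apply iSup_le
      rintro ⟨g, hg⟩
      obtain ⟨k, hk, hgk⟩ := hs.conj_in_subgroup hQp (hQL.trans le_sup_left) g hg
      obtain ⟨l, hl, c, hc, rfl⟩ := exists_mul_of_mem_sup_left hLC hk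
      have h1 : cj (l * c) Q = cj l Q := by
        rw [cj_mul, cj_eq_self_iff.mpr (hCQ hc)]
      change cj g Q ≤ _
      rw [hgk, h1]
      exact le_iSup (fun g : {g : H // Q.map (MulAut.conj g).toMonoidHom ≤ L} =>
        Q.map (MulAut.conj (g : H)).toMonoidHom) ⟨l, cj_le_of_mem hQL hl⟩
  refine ⟨part1, ?_, part3⟩
  -- the subgroup `E`
  have hEE : ∀ g h : {g : H // cj g Q ≤ L},
      ⁅cj (g : H) Q ⊓ Subgroup.centralizer (Y : Set H), cj (h : H) Q⁆ ≤
        cj (h : H) Q ⊓ Subgroup.centralizer (Y : Set H) := by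
    intro g h
    refine (Subgroup.commutator_mono (inf_le_right : cj (g : H) Q ⊓ Subgroup.centralizer (Y : Set H) ≤ _)
      (le_refl (cj (h : H) Q))).trans ?_
    apply le_inf
    · exact Subgroup.le_normalizer_iff_commutator_le_right.mp (hCN h)
    · exact Subgroup.le_normalizer_iff_commutator_le_left.mp (h.2.trans hLC)
  have hEp : IsPGroup p (⨆ g : {g : H // cj g Q ≤ L},
      (cj (g : H) Q ⊓ Subgroup.centralizer (Y : Set H)) : Subgroup H) := by
    apply isPGroup_iSup_of_le_normalizer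
    · intro g
      exact (isPGroup_cj hQp).to_le inf_le_left
    · intro g
      apply iSup_le
      intro h
      rw [Subgroup.le_normalizer_iff_commutator_le_right]
      exact (Subgroup.commutator_mono (le_refl _) inf_le_left).trans (hEE h g)
  have hWE : Cfsg.weakClosure Q L ≤ Subgroup.normalizer (((⨆ g : {g : H // cj g Q ≤ L},
      (cj (g : H) Q ⊓ Subgroup.centralizer (Y : Set H)) : Subgroup H)) : Set H) := by
    rw [hW]
    apply iSup_le
    intro h
    apply le_normalizer_of_cj_le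
    intro x hx
    unfold cj
    rw [Subgroup.map_iSup]
    apply iSup_le
    intro g
    rintro _ ⟨y, hy, rfl⟩
    have h5 : x * y * x⁻¹ = ⁅x, y⁆ * y := by
      rw [commutatorElement_def]
      group
    change x * y * x⁻¹ ∈ _
    rw [h5]
    refine Subgroup.mul_mem _ ?_ ?_
    · have h6 : ⁅x, y⁆ ∈ ⁅cj (h : H) Q, cj (g : H) Q ⊓ Subgroup.centralizer (Y : Set H)⁆ :=
        Subgroup.commutator_mem_commutator hx hy
      rw [Subgroup.commutator_comm] at h6
      exact le_iSup (fun g : {g : H // cj g Q ≤ L} =>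
        (cj (g : H) Q ⊓ Subgroup.centralizer (Y : Set H))) h (hEE g h h6)
    · exact le_iSup (fun g : {g : H // cj g Q ≤ L} =>
        (cj (g : H) Q ⊓ Subgroup.centralizer (Y : Set H))) g hy
  have hcomm : ⁅Cfsg.weakClosure Q L, Subgroup.centralizer ((Y : Subgroup H) : Set H)⁆ ≤
      (⨆ g : {g : H // cj g Q ≤ L}, (cj (g : H) Q ⊓ Subgroup.centralizer (Y : Set H)) : Subgroup H) := by
    rw [hW] at hWE ⊢
    apply commutator_iSup_le _ _ _ hWE
    intro g
    rw [Subgroup.commutator_comm]
    refine le_trans ?_ (le_iSup (fun g : {g : H // cj g Q ≤ L} =>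
        (cj (g : H) Q ⊓ Subgroup.centralizer (Y : Set H))) g)
    apply le_inf
    · exact Subgroup.le_normalizer_iff_commutator_le_right.mp (hCN g)
    · exact Subgroup.le_normalizer_iff_commutator_le_left.mp (g.2.trans hLC)
  have hEW : (⨆ g : {g : H // cj g Q ≤ L}, (cj (g : H) Q ⊓ Subgroup.centralizer (Y : Set H)) : Subgroup H) ≤
      Cfsg.weakClosure Q L := by
    rw [hW]
    exact iSup_mono (fun g => inf_le_left)
  refine hcomm.trans ?_
  unfold Cfsg.pCoreOf
  have hnorm : ((⨆ g : {g : H // cj g Q ≤ L}, (cj (g : H) Q ⊓ Subgroup.centralizer (Y : Set H)) :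
      Subgroup H).subgroupOf (Cfsg.weakClosure Q L)).Normal :=
    (Subgroup.normal_subgroupOf_iff_le_normalizer hEW).mpr hWE
  have h2 := le_pCore hnorm hEp.comap_subtype
  intro x hx
  exact ⟨⟨x, hEW hx⟩, h2 (Subgroup.mem_subgroupOf.mpr hx), rfl⟩

end Cfsg.Agent.S2843
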