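import Mathlib
import Cfsg.Statements.S2844
import Cfsg.Agent.Lib.helper17.Large

set_option autoImplicit false
open Cfsg

namespace Cfsg.Agent.S2844

open Cfsg.Agent.Lib.helper17

theorem le_largeBullet {H : Type*} [Group H] {p : ℕ} (Q : Subgroup H) (hQp : IsPGroup p ↥Q) :
    Q ≤ Cfsg.largeBullet p Q := by
  unfold Cfsg.largeBullet Cfsg.pCoreOf
  have h1 : Q.subgroupOf (Subgroup.normalizer (Q : Set H)) ≤
      Cfsg.pCore p ↥(Subgroup.normalizer (Q : Set H)) :=
    le_pCore Subgroup.normal_in_normalizer hQp.comap_subtype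
  intro x hx
  exact ⟨⟨x, Subgroup.le_normalizer hx⟩, h1 (Subgroup.mem_subgroupOf.mpr hx), rfl⟩

theorem largeBullet_isPGroup {H : Type*} [Group H] {p : ℕ} (Q : Subgroup H) :
    IsPGroup p (Cfsg.largeBullet p Q) := by
  unfold Cfsg.largeBullet Cfsg.pCoreOf
  exact (pCore_isPGroup p _).map _

theorem normalizer_le_normalizer_largeBullet {H : Type*} [Group H] {p : ℕ} (Q : Subgroup H) :
    Subgroup.normalizer (Q : Set H) ≤ Subgroup.normalizer ((Cfsg.largeBullet p Q : Subgroup H) : Set H) := by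
  unfold Cfsg.largeBullet Cfsg.pCoreOf
  have h1 := Subgroup.le_normalizer_map (H := Cfsg.pCore p ↥(Subgroup.normalizer (Q : Set H)))
    (Subgroup.normalizer (Q : Set H)).subtype
  have h2 : (Cfsg.pCore p ↥(Subgroup.normalizer (Q : Set H))).Normal := pCore_normal p _
  rw [Subgroup.normalizer_eq_top_iff.mpr h2, ← MonoidHom.range_eq_map, Subgroup.range_subtype] at h1
  exact h1

/-- Let Q be a nontrivial large p-subgroup of the finite group H and Q• = O_p(N_H(Q)). Then for every g ∈ H outside N_H(Q): C_H(Q) ∩ C_H(gQg⁻¹) = 1, C_H(Q•) ∩ C_H(gQ•g⁻¹) = 1, Z(Q) ∩ Z(gQg⁻¹) = 1 and Z(Q•) ∩ Z(gQ•g⁻¹) = 1; moreover N_H(Q) = N_H(Q•) and Q• is large in H. -/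
theorem result {H : Type*} [Group H] [Finite H] {p : ℕ} [Fact p.Prime] (Q : Subgroup H) (hQp : IsPGroup p ↥Q) (hQ1 : Q ≠ ⊥) (hL : Cfsg.IsLarge Q) (Qb : Subgroup H) (hQb : Qb = Cfsg.largeBullet p Q) : (∀ g : H, g ∉ Subgroup.normalizer ((Q : Subgroup H) : Set H) → Subgroup.centralizer ((Q : Subgroup H) : Set H) ⊓ Subgroup.centralizer ((((Q : Subgroup H).map (MulAut.conj (g : H)).toMonoidHom) : Subgroup H) : Set H) = ⊥ ∧ Subgroup.centralizer ((Qb : Subgroup H) : Set H) ⊓ Subgroup.centralizer ((((Qb : Subgroup H).map (MulAut.conj (g : H)).toMonoidHom) : Subgroup H) : Set H) = ⊥ ∧ (Q ⊓ Subgroup.centralizer ((Q : Subgroup H) : Set H)) ⊓ (((Q : Subgroup H).map (MulAut.conj (g : H)).toMonoidHom) ⊓ Subgroup.centralizer ((((Q : Subgroup H).map (MulAut.conj (g : H)).toMonoidHom) : Subgroup H) : Set H)) = ⊥ ∧ (Qb ⊓ Subgroup.centralizer ((Qb : Subgroup H) : Set H)) ⊓ (((Qb : Subgroup H).map (MulAut.conj (g : H)).toMonoidHom) ⊓ Subgroup.centralizer ((((Qb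 : Subgroup H).map (MulAut.conj (g : H)).toMonoidHom) : Subgroup H) : Set H)) = ⊥) ∧ Subgroup.normalizer ((Q : Subgroup H) : Set H) = Subgroup.normalizer ((Qb : Subgroup H) : Set H) ∧ Cfsg.IsLarge Qb := by
  subst hQb
  have hQQb : Q ≤ Cfsg.largeBullet p Q := le_largeBullet Q hQp
  have hQbp : IsPGroup p (Cfsg.largeBullet p Q) := largeBullet_isPGroup Q
  have hN : Subgroup.normalizer ((Q : Subgroup H) : Set H) =
      Subgroup.normalizer ((Cfsg.largeBullet p Q : Subgroup H) : Set H) :=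
    le_antisymm (normalizer_le_normalizer_largeBullet Q) (large_normalizer_le hL hQ1 hQbp hQQb)
  have hC : Subgroup.centralizer ((Cfsg.largeBullet p Q : Subgroup H) : Set H) ≤
      Subgroup.centralizer ((Q : Subgroup H) : Set H) :=
    Subgroup.centralizer_le (SetLike.coe_subset_coe.mpr hQQb)
  refine ⟨?_, hN, ?_⟩
  · intro g hg
    have h1 := large_centralizer_inf_eq_bot hL hQp hQ1 hg
    have hCg : Subgroup.centralizer ((cj g (Cfsg.largeBullet p Q) : Subgroup H) : Set H) ≤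
        Subgroup.centralizer ((cj g Q : Subgroup H) : Set H) :=
      Subgroup.centralizer_le (SetLike.coe_subset_coe.mpr (cj_mono hQQb))
    have h2 : Subgroup.centralizer ((Cfsg.largeBullet p Q : Subgroup H) : Set H) ⊓
        Subgroup.centralizer ((cj g (Cfsg.largeBullet p Q) : Subgroup H) : Set H) = ⊥ := by
      rw [← le_bot_iff, ← h1]
      exact inf_le_inf hC hCg
    refine ⟨h1, h2, ?_, ?_⟩
    · rw [← le_bot_iff, ← h1]
      exact inf_le_inf inf_le_right inf_le_right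
    · rw [← le_bot_iff, ← h2]
      exact inf_le_inf inf_le_right inf_le_right
  · refine ⟨hC.trans (hL.1.trans hQQb), ?_⟩
    intro U hU hU1
    rw [← hN]
    exact hL.2 U (hU.trans hC) hU1

end Cfsg.Agent.S2844
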