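import Mathlib
import Cfsg.Statements.S2846
import Cfsg.Agent.Lib.helper17.BPM3
import Cfsg.Agent.S2843
import Cfsg.Agent.S2845

set_option autoImplicit false
open Cfsg

namespace Cfsg.Agent.S2846

open Cfsg.Agent.Lib.helper17

theorem wc_eq_conjClosure {H : Type*} [Group H] [Finite H] {p : ℕ} [Fact p.Prime] {Q K : Subgroup H}
    (hQp : IsPGroup p ↥Q) (hQ1 : Q ≠ ⊥) (hLg : Cfsg.IsLarge Q) (hQK : Q ≤ K) :
    Cfsg.weakClosure Q K = conjClosure K Q :=
  (large_wcStrong hLg hQ1).weakClosure_eq hQp hQK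

/-- Let Q be a nontrivial large p-subgroup of the finite group H, S a Sylow p-subgroup containing Q, and L a subgroup containing S with O_p(L) ≠ 1 and C_H(O_p(L)) ≤ O_p(L). Then there are a subgroup M containing S having the basic property (M ∈ 𝔐_H, writing Y_X for the largest p-reduced normal subgroup of X and 𝓛_H for the set of subgroups X with O_p(X) ≠ 1 and C_H(O_p(X)) ≤ O_p(X): M ∈ 𝓛_H, M·C_H(Y_M) is the only maximal member of 𝓛_H containing M and its largest p-reduced normal subgroup is again Y_M, C_M(Y_M) is p-closed, and the image of C_M(Y_M) in M/O_p(M) lies in the Frattini subgroup of M/O_p(M)) and a subgroup L* with S ≤ L* ≤ M, O_p(L*) ≠ 1, C_H(O_p(L*)) ≤ O_p(L*), such that L·C_H(Y_L) = L*·C_H(Y_L), the weak closures of Q in L and in L* agree and lie in that of M, and Y_L = Y_{L*} ≤ Y_M. If moreover Q is not normal in L, then Q is normal in neither L* nor M. -/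
theorem result {H : Type*} [Group H] [Finite H] {p : ℕ} [Fact p.Prime] (Q : Subgroup H) (hQp : IsPGroup p ↥Q) (hQ1 : Q ≠ ⊥) (hLg : Cfsg.IsLarge Q) (S : Sylow p H) (hQS : Q ≤ (S : Subgroup H)) (L : Subgroup H) (hSL : (S : Subgroup H) ≤ L) (hL : L ∈ Cfsg.charPSubgroups p H) : ∃ M Ls : Subgroup H, (S : Subgroup H) ≤ M ∧ Cfsg.IsInFrakM p M ∧ (S : Subgroup H) ≤ Ls ∧ Ls ≤ M ∧ Ls ∈ Cfsg.charPSubgroups p H ∧ L ⊔ Subgroup.centralizer (((Cfsg.largestPReducedOf p L) : Subgroup H) : Set H) = Ls ⊔ Subgroup.centralizer (((Cfsg.largestPReducedOf p L) : Subgroup H) : Set H) ∧ Cfsg.weakClosure Q L = Cfsg.weakClosure Q Ls ∧ Cfsg.weakClosure Q Ls ≤ Cfsg.weakClosure Q M ∧ (Cfsg.largestPReducedOf p L) = (Cfsg.largestPReducedOf p Ls) ∧ (Cfsg.largestPReducedOf p Ls) ≤ (Cfsg.largestPReducedOf p M) ∧ (¬ L ≤ Subgroup.normalizer ((Q : Subgroup H) : Set H) → ¬ Ls ≤ Subgroup.normalizer ((Q : Subgroup H) : Set H) ∧ ¬ M ≤ Subgroup.normalizer ((Q :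 Subgroup H) : Set H)) := by
  have hH : Cfsg.IsOfParabolicCharacteristic p H := (Cfsg.Agent.S2845.result Q hQp hQ1 hLg).2.2
  obtain ⟨M, Ls, hSM, hMb, hSLs, hLsM, hLsc, hY, hYM, hfac⟩ := BPM.main hH S L hSL hL
  have hQL := hQS.trans hSL
  have hQLs := hQS.trans hSLs
  have hQM := hQS.trans hSM
  have hYp : IsPGroup p (Cfsg.largestPReducedOf p L) := BPM.isPGroup_largestPReducedOf p L
  have hY1 : Cfsg.largestPReducedOf p L ≠ ⊥ :=
    BPM.largestPReducedOf_ne_bot S hSL (BPM.charPSub_of_mem hL) (BPM.sylow_ne_bot_of_mem S hSL hL)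
  have hLn : L ≤ Subgroup.normalizer ((Cfsg.largestPReducedOf p L : Subgroup H) : Set H) :=
    (largestPReducedOf_pRedIn p L).2.1
  have hLsn : Ls ≤ Subgroup.normalizer ((Cfsg.largestPReducedOf p L : Subgroup H) : Set H) := by
    rw [hY]
    exact (largestPReducedOf_pRedIn p Ls).2.1
  have h1 := (Cfsg.Agent.S2843.result Q hQp hQ1 hLg L hQL _ hYp hY1 hLn).1
  have h2 := (Cfsg.Agent.S2843.result Q hQp hQ1 hLg Ls hQLs _ hYp hY1 hLsn).1
  have hwc : Cfsg.weakClosure Q L = Cfsg.weakClosure Q Ls := by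
    rw [h1, h2, hfac]
  have hmono : Cfsg.weakClosure Q Ls ≤ Cfsg.weakClosure Q M := by
    rw [wc_eq_conjClosure hQp hQ1 hLg hQLs, wc_eq_conjClosure hQp hQ1 hLg hQM]
    apply iSup_le
    intro k
    exact cj_le_conjClosure M Q (hLsM k.2)
  have hnot : ¬ L ≤ Subgroup.normalizer ((Q : Subgroup H) : Set H) →
      ¬ Ls ≤ Subgroup.normalizer ((Q : Subgroup H) : Set H) := by
    intro hLQ hLsQ
    apply hLQ
    have h3 : Cfsg.weakClosure Q Ls = Q := by
      rw [wc_eq_conjClosure hQp hQ1 hLg hQLs]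
      exact le_antisymm (conjClosure_le_of le_rfl hLsQ) (le_conjClosure Ls Q)
    have h4 := le_normalizer_conjClosure L Q
    rw [← wc_eq_conjClosure hQp hQ1 hLg hQL, hwc, h3] at h4
    exact h4
  refine ⟨M, Ls, hSM, hMb, hSLs, hLsM, hLsc, hfac, hwc, hmono, hY, ?_, ?_⟩
  · rw [← hY]; exact hYM
  · intro hLQ
    exact ⟨hnot hLQ, fun hMQ => hnot hLQ (hLsM.trans hMQ)⟩

end Cfsg.Agent.S2846
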