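import Mathlib
import Cfsg.Statements.S2849
import Cfsg.Agent.Lib.helper17.PRed8

set_option autoImplicit false
open Cfsg

namespace Cfsg.Agent.S2849

open Cfsg.Agent.Lib.helper17
open scoped commutatorElement

theorem result {G : Type*} [Group G] [Finite G] {p : ℕ} [Fact p.Prime] (S : Sylow p G) (Q : Subgroup G) (hQp : IsPGroup p ↥Q) (hQ1 : Q ≠ ⊥) (hQS : Q ≤ (S : Subgroup G)) (hQ : Cfsg.IsLarge Q) (M : Subgroup G) (hSM : (S : Subgroup G) ≤ M) (hM : Cfsg.IsInFrakM p M) (hasym : ¬ Cfsg.IsSymmetricIn (Cfsg.largestPReducedOf p M)) (R : Subgroup G) (hYR : (Cfsg.largestPReducedOf p M) ≤ R) (hRM : R ≤ (M ⊔ Subgroup.centralizer (((Cfsg.largestPReducedOf p M) : Subgroup G) : Set G))) : Cfsg.IsElementaryAbelian p ((Subgroup.normalClosure ((((Cfsg.largestPReducedOf p M)).subgroupOf (Subgroup.normalizer ((R : Subgroup G) : Set G)) : Subgroup ↥(Subgroup.normalizer ((R : Subgroup G) : Set G))) : Set ↥(Subgroup.normalizer ((R : Subgroup G) : Set G)))).map (Subgroup.normalizer ((R : Subgroup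 G) : Set G)).subtype) := by
  have hY : PRedIn p M (Cfsg.largestPReducedOf p M) := largestPReducedOf_pRedIn p M
  have hMN : M ⊔ Subgroup.centralizer (((Cfsg.largestPReducedOf p M) : Subgroup G) : Set G) ≤
      Subgroup.normalizer (((Cfsg.largestPReducedOf p M) : Subgroup G) : Set G) :=
    sup_le hY.2.1 (Subgroup.centralizer_le_normalizer _)
  have hRN : R ≤ Subgroup.normalizer (((Cfsg.largestPReducedOf p M) : Subgroup G) : Set G) := hRM.trans hMN
  have hYN : Cfsg.largestPReducedOf p M ≤ Subgroup.normalizer (R : Set G) := hYR.trans Subgroup.le_normalizer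
  apply isElementaryAbelian_mono _ (normalClosure_subgroupOf_map_le hYN)
  apply conjClosure_isElementaryAbelian_of_commute hY.2.2.1
  intro n hn x hx y hy
  have hcjR : cj n R = R := cj_eq_self_iff.mpr hn
  have h1 : cj n (Cfsg.largestPReducedOf p M) ≤ Subgroup.normalizer (((Cfsg.largestPReducedOf p M) : Subgroup G) : Set G) := by
    refine le_trans ?_ hRN
    rw [← hcjR]
    exact cj_mono hYR
  have h2 : Cfsg.largestPReducedOf p M ≤
      Subgroup.normalizer ((cj n (Cfsg.largestPReducedOf p M) : Subgroup G) : Set G) := by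
    rw [normalizer_cj]
    refine hYR.trans ?_
    rw [← hcjR]
    exact cj_mono hRN
  have h3 := commutator_eq_bot_of_not_isSymmetricIn hasym h1 h2
  have h4 : ⁅x, n * y * n⁻¹⁆ ∈ ⁅Cfsg.largestPReducedOf p M, cj n (Cfsg.largestPReducedOf p M)⁆ :=
    Subgroup.commutator_mem_commutator hx (conj_mem_cj hy)
  rw [h3, Subgroup.mem_bot, commutatorElement_eq_one_iff_mul_comm] at h4
  exact h4

end Cfsg.Agent.S2849
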