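import Cfsg.Statements.S2850
import Mathlib
import Cfsg.Agent.Lib.helper17.Asym2

set_option autoImplicit false
open Cfsg

namespace Cfsg.Agent.S2850

open Cfsg.Agent.Lib.helper17

/-- Standing hypotheses: G a finite group, S a Sylow p-subgroup, Q a nontrivial large p-subgroup of G contained in S (C_G(Q) ≤ Q and N_G(U) ≤ N_G(Q) for all nontrivial U ≤ C_G(Q)), and M a subgroup containing S with the basic property (M ∈ 𝔐_G(S)); Y_M denotes the largest p-reduced normal subgroup of M and M† = M·C_G(Y_M). Suppose Y_M is asymmetric in G. Then N_G(L) ≤ N_G(O_p(M)) ≤ M† for every p-subgroup L containing O_p(M); O_p(M) is a weakly closed subgroup of G; for every subgroup L containing O_p(M), L ∩ M† contains a Sylow p-subgroup of L; and two elements of Y_M conjugate in G are conjugate in M. -/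
theorem result {G : Type*} [Group G] [Finite G] {p : ℕ} [Fact p.Prime] (S : Sylow p G) (Q : Subgroup G) (hQp : IsPGroup p ↥Q) (hQ1 : Q ≠ ⊥) (hQS : Q ≤ (S : Subgroup G)) (hQ : Cfsg.IsLarge Q) (M : Subgroup G) (hSM : (S : Subgroup G) ≤ M) (hM : Cfsg.IsInFrakM p M) (hasym : ¬ Cfsg.IsSymmetricIn (Cfsg.largestPReducedOf p M)) : (∀ L : Subgroup G, IsPGroup p ↥L → (Cfsg.pCoreOf p M) ≤ L → Subgroup.normalizer ((L : Subgroup G) : Set G) ≤ Subgroup.normalizer (((Cfsg.pCoreOf p M) : Subgroup G) : Set G) ∧ Subgroup.normalizer (((Cfsg.pCoreOf p M) : Subgroup G) : Set G) ≤ (M ⊔ Subgroup.centralizer (((Cfsg.largestPReducedOf p M) : Subgroup G) : Set G))) ∧ Cfsg.IsWeaklyClosedSubgroup p (Cfsg.pCoreOf p M) ∧ (∀ L : Subgroup G, (Cfsg.pCoreOf p M) ≤ L → Cfsg.IsParabolic p ((L ⊓ (M ⊔ Subgroup.centralizer (((Cfsg.largestPReducedOf p M) : Subgroup G) : Set G))).subgroupOf L)) ∧ (∀ x ∈ (Cfsg.largestPReducedOf p M), ∀ g : G, g * x * g⁻¹ ∈ (Cfsg.largestPReducedOf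 p M) → ∃ m ∈ M, m * x * m⁻¹ = g * x * g⁻¹) := by
  have hw := Asym2.wcStrong_pCoreOf S hQp hQ1 hQS hQ hSM hM hasym
  have hdag := Asym2.normalizer_pCoreOf_le_dagger S hQp hQ1 hQ hSM hM
  have hQMp : IsPGroup p (Cfsg.pCoreOf p M) := pCoreOf_isPGroup p M
  have hY : PRedIn p M (Cfsg.largestPReducedOf p M) := largestPReducedOf_pRedIn p M
  refine ⟨?_, hw.isWeaklyClosedSubgroup hQMp, ?_, ?_⟩
  · intro L hL hQL
    exact ⟨hw.normalizer_le hL hQL, hdag⟩
  · intro L hQL
    obtain ⟨T, hT⟩ := hw.isParabolic_normalizer hQMp hQL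
    refine ⟨T, hT.trans ?_⟩
    intro x hx
    rw [Subgroup.mem_subgroupOf] at hx ⊢
    exact ⟨x.2, hdag hx⟩
  · intro x hx g hgx
    have hQK : Cfsg.pCoreOf p M ≤ Subgroup.centralizer ({g * x * g⁻¹} : Set G) :=
      hY.pCoreOf_le_centralizer.trans
        (Subgroup.centralizer_le (Set.singleton_subset_iff.mpr hgx))
    have hgK : cj g (Cfsg.pCoreOf p M) ≤ Subgroup.centralizer ({g * x * g⁻¹} : Set G) := by
      rw [centralizer_conj]
      exact cj_mono (hY.pCoreOf_le_centralizer.trans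
        (Subgroup.centralizer_le (Set.singleton_subset_iff.mpr hx)))
    obtain ⟨k, hk, hkg⟩ := hw.conj_in_subgroup hQMp hQK g hgK
    have hmem : k⁻¹ * g ∈ Subgroup.normalizer ((Cfsg.pCoreOf p M : Subgroup G) : Set G) := by
      rw [← cj_eq_self_iff, cj_mul, hkg, cj_inv_cj]
    have hMC : M ≤ Subgroup.normalizer ((Subgroup.centralizer (((Cfsg.largestPReducedOf p M) : Subgroup G) : Set G) : Subgroup G) : Set G) :=
      hY.2.1.trans (normalizer_le_normalizer_centralizer' _)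
    obtain ⟨m, hm, c, hc, hmc⟩ := exists_mul_of_mem_sup_left hMC (hdag hmem)
    refine ⟨m, hm, ?_⟩
    have hkx : k * (g * x * g⁻¹) = (g * x * g⁻¹) * k := by
      rw [Subgroup.mem_centralizer_iff] at hk
      exact (hk _ rfl).symm
    have hcx : c * x = x * c := by
      rw [Subgroup.mem_centralizer_iff] at hc
      exact (hc x hx).symm
    have h1 : (k⁻¹ * g) * x * (k⁻¹ * g)⁻¹ = g * x * g⁻¹ := by
      calc (k⁻¹ * g) * x * (k⁻¹ * g)⁻¹ = k⁻¹ * ((g * x * g⁻¹) * k) := by group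
        _ = k⁻¹ * (k * (g * x * g⁻¹)) := by rw [hkx]
        _ = g * x * g⁻¹ := by group
    have h2 : (m * c) * x * (m * c)⁻¹ = m * x * m⁻¹ := by
      calc (m * c) * x * (m * c)⁻¹ = m * (c * x) * c⁻¹ * m⁻¹ := by group
        _ = m * (x * c) * c⁻¹ * m⁻¹ := by rw [hcx]
        _ = m * x * m⁻¹ := by group
    rw [← h2, ← hmc, h1]

end Cfsg.Agent.S2850
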