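import Cfsg.Statements.S2851
import Mathlib
import Cfsg.Agent.Lib.helper17.Asym3
import Cfsg.Agent.S2850

set_option autoImplicit false
open Cfsg

namespace Cfsg.Agent.S2851

open Cfsg.Agent.Lib.helper17

/-- Standing hypotheses: G a finite group, S a Sylow p-subgroup, Q a nontrivial large p-subgroup of G contained in S, M a subgroup containing S with the basic property (M ∈ 𝔐_G(S)); Y_M the largest p-reduced normal subgroup of M and M† = M·C_G(Y_M). Let F be the preimage in M† of the generalized Fitting subgroup of M†/C_{M†}(Y_M). If Y_M is asymmetric in G and H is a subgroup of characteristic p containing F, then Y_M ≤ Y_H. -/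
theorem result {G : Type*} [Group G] [Finite G] {p : ℕ} [Fact p.Prime] (S : Sylow p G) (Q : Subgroup G) (hQp : IsPGroup p ↥Q) (hQ1 : Q ≠ ⊥) (hQS : Q ≤ (S : Subgroup G)) (hQ : Cfsg.IsLarge Q) (M : Subgroup G) (hSM : (S : Subgroup G) ≤ M) (hM : Cfsg.IsInFrakM p M) (hasym : ¬ Cfsg.IsSymmetricIn (Cfsg.largestPReducedOf p M)) [hn : ((Subgroup.centralizer (((Cfsg.largestPReducedOf p M) : Subgroup G) : Set G)).subgroupOf (M ⊔ Subgroup.centralizer (((Cfsg.largestPReducedOf p M) : Subgroup G) : Set G))).Normal] (F : Subgroup G) (hF : F = ((Cfsg.generalizedFittingSubgroup (↥(M ⊔ Subgroup.centralizer (((Cfsg.largestPReducedOf p M) : Subgroup G) : Set G)) ⧸ (Subgroup.centralizer (((Cfsg.largestPReducedOf p M) : Subgroup G) : Set G)).subgroupOf (M ⊔ Subgroup.centralizer (((Cfsg.largestPReducedOf p M) : Subgroup G) : Set G)))).comap (QuotientGroup.mk' ((Subgroup.centralizer (((Cfsg.largestPReducedOf p M) : Subgroup G) : Set G)).subgroupOf (M ⊔ Subgroup.centralizer (((Cfsg.largestPReducedOf p M) : Subgroup G) : Set G))))).map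 ((M ⊔ Subgroup.centralizer (((Cfsg.largestPReducedOf p M) : Subgroup G) : Set G))).subtype) (H : Subgroup G) (hFH : F ≤ H) (hH : Subgroup.centralizer (Cfsg.pCore p ↥H : Set ↥H) ≤ Cfsg.pCore p ↥H) : (Cfsg.largestPReducedOf p M) ≤ Cfsg.largestPReducedOf p H := by
  have hw := Asym2.wcStrong_pCoreOf S hQp hQ1 hQS hQ hSM hM hasym
  have hdag := Asym2.normalizer_pCoreOf_le_dagger S hQp hQ1 hQ hSM hM
  have hQMp : IsPGroup p (Cfsg.pCoreOf p M) := pCoreOf_isPGroup p M
  have hY : PRedIn p M (Cfsg.largestPReducedOf p M) := largestPReducedOf_pRedIn p M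
  have hYK : PRedIn p (M ⊔ Subgroup.centralizer (((Cfsg.largestPReducedOf p M) : Subgroup G) : Set G))
      (Cfsg.largestPReducedOf p M) := by
    have h := largestPReducedOf_pRedIn p (M ⊔ Subgroup.centralizer (((Cfsg.largestPReducedOf p M) : Subgroup G) : Set G))
    rwa [← hM.2.2.2.1] at h
  have hYe : Cfsg.IsElementaryAbelian p (Cfsg.largestPReducedOf p M) := hY.2.2.1
  have hYab : Cfsg.largestPReducedOf p M ≤
      Subgroup.centralizer (((Cfsg.largestPReducedOf p M) : Subgroup G) : Set G) := by
    intro x hx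
    rw [Subgroup.mem_centralizer_iff]
    intro y hy
    exact (isElementaryAbelian_iff.mp hYe).1 y hy x hx
  have hCF : Subgroup.centralizer (((Cfsg.largestPReducedOf p M) : Subgroup G) : Set G) ≤ F := by
    rw [hF]
    exact Asym3.centralizer_le_preimage le_sup_right
  have hFK : F ≤ M ⊔ Subgroup.centralizer (((Cfsg.largestPReducedOf p M) : Subgroup G) : Set G) := by
    rw [hF]
    exact Subgroup.map_subtype_le _
  have hYH : Cfsg.largestPReducedOf p M ≤ H := (hYab.trans hCF).trans hFH
  have hQH : Cfsg.pCoreOf p M ≤ H := (hY.pCoreOf_le_centralizer.trans hCF).trans hFH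
  have hHc : CharPSub p H := (charPSub_iff p H).mp hH
  -- `O_p(H)` centralises `Y`
  have hDK : Cfsg.pCoreOf p H ≤ M ⊔ Subgroup.centralizer (((Cfsg.largestPReducedOf p M) : Subgroup G) : Set G) := by
    have h1 : IsPGroup p (Cfsg.pCoreOf p H ⊔ Cfsg.pCoreOf p M : Subgroup G) :=
      (pCoreOf_isPGroup p H).to_sup_of_normal_left' hQMp (hQH.trans (le_normalizer_pCoreOf p H))
    exact ((le_sup_left.trans Subgroup.le_normalizer).trans (hw.normalizer_le h1 le_sup_right)).trans hdag
  have hDC : Cfsg.pCoreOf p H ≤ Subgroup.centralizer (((Cfsg.largestPReducedOf p M) : Subgroup G) : Set G) := by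
    apply Asym3.le_centralizer_of_genFitting hYK hF hDK (hFH.trans (le_normalizer_pCoreOf p H))
    intro d hd
    obtain ⟨k, hk⟩ := isPElt_of_mem (pCoreOf_isPGroup p H) hd
    exact ⟨k, by rw [hk]; exact Subgroup.one_mem _⟩
  have hYD : Cfsg.largestPReducedOf p M ≤ Cfsg.pCoreOf p H := by
    apply le_trans _ hHc
    apply le_inf hYH
    rw [← Subgroup.le_centralizer_iff]
    exact hDC
  -- `V = ⟨Y^H⟩` is elementary abelian
  have hVel : Cfsg.IsElementaryAbelian p (conjClosure H (Cfsg.largestPReducedOf p M)) := by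
    apply conjClosure_isElementaryAbelian_of_commute hYe
    intro l hl x hx y hy
    have h1 : l * y * l⁻¹ ∈ Cfsg.pCoreOf p H :=
      (Subgroup.mem_normalizer_iff.mp (le_normalizer_pCoreOf p H hl) y).mp (hYD hy)
    have h2 := Subgroup.mem_centralizer_iff.mp (hDC h1) x hx
    exact h2
  have hVY : Subgroup.centralizer ((conjClosure H (Cfsg.largestPReducedOf p M) : Subgroup G) : Set G) ≤
      Subgroup.centralizer (((Cfsg.largestPReducedOf p M) : Subgroup G) : Set G) :=
    Subgroup.centralizer_le (SetLike.coe_subset_coe.mpr (le_conjClosure H _))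
  obtain ⟨T, hT⟩ := (Cfsg.Agent.S2850.result S Q hQp hQ1 hQS hQ M hSM hM hasym).2.2.1 H hQH
  have hV : PRedIn p H (conjClosure H (Cfsg.largestPReducedOf p M)) := by
    refine ⟨conjClosure_le hYH, le_normalizer_conjClosure H _, hVel, ?_⟩
    intro E hEH hHE hp
    -- `E ∩ M†` centralises `Y`
    have hE0 : E ⊓ (M ⊔ Subgroup.centralizer (((Cfsg.largestPReducedOf p M) : Subgroup G) : Set G)) ≤
        Subgroup.centralizer (((Cfsg.largestPReducedOf p M) : Subgroup G) : Set G) := by
      apply Asym3.le_centralizer_of_genFitting hYK hF inf_le_right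
      · exact le_normalizer_inf' (hFH.trans hHE) (hFK.trans Subgroup.le_normalizer)
      · exact hp.mono inf_le_left hVY
    have hEY : E ≤ Subgroup.centralizer (((Cfsg.largestPReducedOf p M) : Subgroup G) : Set G) := by
      intro e he
      have hEn : (E.subgroupOf H).Normal := (Subgroup.normal_subgroupOf_iff_le_normalizer hEH).mpr hHE
      have hTD : (T : Subgroup ↥H) ≤ Subgroup.normalizer ((E.subgroupOf H : Subgroup ↥H) : Set ↥H) := by
        rw [Subgroup.normalizer_eq_top_iff.mpr hEn]; exact le_top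
      have hp' : PPowIn p (E.subgroupOf H)
          ((Subgroup.centralizer ((conjClosure H (Cfsg.largestPReducedOf p M) : Subgroup G) : Set G)).subgroupOf H) := by
        intro d hd
        obtain ⟨k, hk⟩ := hp (d : G) (Subgroup.mem_subgroupOf.mp hd)
        exact ⟨k, by rw [Subgroup.mem_subgroupOf]; simpa using hk⟩
      obtain ⟨c, hc, t, ht, hct⟩ := exists_mul_of_pPowIn T hTD hp'
        (show (⟨e, hEH he⟩ : ↥H) ∈ E.subgroupOf H from Subgroup.mem_subgroupOf.mpr he)
      have hcC : (c : G) ∈ Subgroup.centralizer (((Cfsg.largestPReducedOf p M) : Subgroup G) : Set G) :=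
        hVY (Subgroup.mem_subgroupOf.mp hc.2)
      have htC : (t : G) ∈ Subgroup.centralizer (((Cfsg.largestPReducedOf p M) : Subgroup G) : Set G) := by
        apply hE0
        refine ⟨Subgroup.mem_subgroupOf.mp ht.1, ?_⟩
        exact (Subgroup.mem_subgroupOf.mp (hT ht.2)).2
      have hect : e = (c : G) * (t : G) := by
        have := congrArg Subtype.val hct
        simpa using this
      rw [hect]
      exact Subgroup.mul_mem _ hcC htC
    intro s hs
    apply mem_centralizer_conjClosure
    intro l hl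
    apply hEY
    have := (Subgroup.mem_normalizer_iff.mp (hHE (H.inv_mem hl)) s).mp hs
    simpa using this
  exact (le_conjClosure H _).trans (le_largestPReducedOf hV)

end Cfsg.Agent.S2851
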