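import Cfsg.Statements.S2852
import Mathlib
import Cfsg.Agent.Lib.helper17.Asym2
import Cfsg.Agent.Lib.helper17.MinPar2

set_option autoImplicit false
open Cfsg

namespace Cfsg.Agent.S2852

open Cfsg.Agent.Lib.helper17

/-- Standing hypotheses: G a finite group, S a Sylow p-subgroup, Q a nontrivial large p-subgroup of G contained in S, M a subgroup containing S with the basic property (M ∈ 𝔐_G(S)); Y_M the largest p-reduced normal subgroup of M. If Y_M is char-p-tall and asymmetric in G, then some subgroup H of G lies in ℌ_G(O_p(M)): H has characteristic p, O_p(M) ≤ H, Y_M ≰ O_p(H), and Y_M ≤ O_p(P) for every proper subgroup P of H containing O_p(M). -/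
theorem result {G : Type*} [Group G] [Finite G] {p : ℕ} [Fact p.Prime] (S : Sylow p G) (Q : Subgroup G) (hQp : IsPGroup p ↥Q) (hQ1 : Q ≠ ⊥) (hQS : Q ≤ (S : Subgroup G)) (hQ : Cfsg.IsLarge Q) (M : Subgroup G) (hSM : (S : Subgroup G) ≤ M) (hM : Cfsg.IsInFrakM p M) (htall : Cfsg.IsCharPTall p (Cfsg.largestPReducedOf p M)) (hasym : ¬ Cfsg.IsSymmetricIn (Cfsg.largestPReducedOf p M)) : ∃ H : Subgroup G, Cfsg.IsInFrakH p M H := by
  have hw := Asym2.wcStrong_pCoreOf S hQp hQ1 hQS hQ hSM hM hasym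
  have hQMp : IsPGroup p (Cfsg.pCoreOf p M) := pCoreOf_isPGroup p M
  have hY : PRedIn p M (Cfsg.largestPReducedOf p M) := largestPReducedOf_pRedIn p M
  have hNC := normalizer_le_normalizer_centralizer' (Cfsg.largestPReducedOf p M)
  have hSC : (S : Subgroup G) ≤ Subgroup.normalizer ((Subgroup.centralizer (((Cfsg.largestPReducedOf p M) : Subgroup G) : Set G) : Subgroup G) : Set G) :=
    (hSM.trans hY.2.1).trans hNC
  have hQM := IsInFrakM.pCoreOf_eq S hSM hM
  obtain ⟨T, L, hTL, hLc, hYL⟩ := htall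
  obtain ⟨⟨g, hgC⟩, hc⟩ := MulAction.exists_smul_eq
    ↥(Subgroup.centralizer (((Cfsg.largestPReducedOf p M) : Subgroup G) : Set G)) T
    (sylowInfOfLeNormalizer S hSC)
  have h1 : cj g ((T : Subgroup ↥(Subgroup.centralizer (((Cfsg.largestPReducedOf p M) : Subgroup G) : Set G))).map
      (Subgroup.centralizer (((Cfsg.largestPReducedOf p M) : Subgroup G) : Set G)).subtype) = Cfsg.pCoreOf p M := by
    have h2 : ((⟨g, hgC⟩ : ↥(Subgroup.centralizer (((Cfsg.largestPReducedOf p M) : Subgroup G) : Set G))) • T :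
        Sylow p ↥(Subgroup.centralizer (((Cfsg.largestPReducedOf p M) : Subgroup G) : Set G))).1.map
        (Subgroup.centralizer (((Cfsg.largestPReducedOf p M) : Subgroup G) : Set G)).subtype =
        ((sylowInfOfLeNormalizer S hSC : Sylow p ↥(Subgroup.centralizer (((Cfsg.largestPReducedOf p M) : Subgroup G) : Set G))).1).map
        (Subgroup.centralizer (((Cfsg.largestPReducedOf p M) : Subgroup G) : Set G)).subtype := by
      rw [hc]
    have h3 : ((⟨g, hgC⟩ : ↥(Subgroup.centralizer (((Cfsg.largestPReducedOf p M) : Subgroup G) : Set G))) • T :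
        Sylow p ↥(Subgroup.centralizer (((Cfsg.largestPReducedOf p M) : Subgroup G) : Set G))).1 =
        cj (⟨g, hgC⟩ : ↥(Subgroup.centralizer (((Cfsg.largestPReducedOf p M) : Subgroup G) : Set G))) (T : Subgroup _) :=
      sylow_smul_coe_eq_cj _ T
    have h4 : (sylowInfOfLeNormalizer S hSC : Sylow p ↥(Subgroup.centralizer (((Cfsg.largestPReducedOf p M) : Subgroup G) : Set G))).1 =
        (S : Subgroup G).subgroupOf (Subgroup.centralizer (((Cfsg.largestPReducedOf p M) : Subgroup G) : Set G)) :=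
      sylowInfOfLeNormalizer_coe S hSC
    rw [h3, h4, cj_map, Subgroup.subgroupOf_map_subtype] at h2
    rw [hQM]
    exact h2
  have hQL' : Cfsg.pCoreOf p M ≤ cj g L := by
    rw [← h1]
    exact cj_mono hTL
  have hL'c : CharPSub p (cj g L) := ((charPSub_iff p L).mp hLc).conj g
  have hgN : g ∈ Subgroup.normalizer (((Cfsg.largestPReducedOf p M) : Subgroup G) : Set G) :=
    Subgroup.centralizer_le_normalizer _ hgC
  have hcY : cj g⁻¹ (Cfsg.largestPReducedOf p M) = Cfsg.largestPReducedOf p M :=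
    cj_eq_self_iff.mpr (Subgroup.inv_mem _ hgN)
  have hYL' : ¬ Cfsg.largestPReducedOf p M ≤ Cfsg.pCoreOf p (cj g L) := by
    intro hle
    apply hYL
    rw [← cj_pCoreOf] at hle
    have h3 := cj_mono (g := g⁻¹) hle
    rw [cj_inv_cj, hcY] at h3
    exact h3
  obtain ⟨H, hHL', hmin⟩ := Finite.exists_le_minimal
    (p := fun Z : Subgroup G => Cfsg.pCoreOf p M ≤ Z ∧ Z ≤ cj g L ∧
      ¬ Cfsg.largestPReducedOf p M ≤ Cfsg.pCoreOf p Z) ⟨hQL', le_rfl, hYL'⟩
  have hm : MinPar.IsMinOver p (Cfsg.pCoreOf p M) (Cfsg.largestPReducedOf p M) H := by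
    refine ⟨hmin.1.1, hmin.1.2.2, ?_⟩
    intro P hQP hlt
    by_contra hn
    exact hlt.not_ge (hmin.2 ⟨hQP, hlt.le.trans hmin.1.2.1, hn⟩ hlt.le)
  exact ⟨H, (charPSub_iff p H).mpr (MinPar2.charPSub_of_isMinOver hm hmin.1.2.1 hL'c hw hQMp),
    hm.le, hm.not_le, hm.min⟩

end Cfsg.Agent.S2852
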