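import Cfsg.Statements.S2853
import Mathlib
import Cfsg.Agent.Lib.helper17.Asym2
import Cfsg.Agent.Lib.helper17.MinPar
import Cfsg.Agent.S2850

set_option autoImplicit false
open Cfsg

namespace Cfsg.Agent.S2853

open Cfsg.Agent.Lib.helper17

/-- Standing hypotheses: G a finite group, S a Sylow p-subgroup, Q a nontrivial large p-subgroup of G contained in S, M a subgroup containing S with the basic property (M ∈ 𝔐_G(S)); Y_M the largest p-reduced normal subgroup of M and M† = M·C_G(Y_M). Suppose Y_M is char-p-tall and asymmetric in G and H ∈ ℌ_G(O_p(M)). Then every Sylow p-subgroup of H ∩ M† is a Sylow p-subgroup of H; O_p(H) normalizes O_p(M) and Y_M; O^p(H) = [O^p(H), Y_M] and H = O^p(H)·O_p(M); O^p(H)·Y_M is the normal closure of Y_M in H; and H is the normal closure of O_p(M) in H. Here O^p(H) is the subgroup generated by the elements of H of order prime to p. -/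
theorem result {G : Type*} [Group G] [Finite G] {p : ℕ} [Fact p.Prime] (S : Sylow p G) (Q : Subgroup G) (hQp : IsPGroup p ↥Q) (hQ1 : Q ≠ ⊥) (hQS : Q ≤ (S : Subgroup G)) (hQ : Cfsg.IsLarge Q) (M : Subgroup G) (hSM : (S : Subgroup G) ≤ M) (hM : Cfsg.IsInFrakM p M) (htall : Cfsg.IsCharPTall p (Cfsg.largestPReducedOf p M)) (hasym : ¬ Cfsg.IsSymmetricIn (Cfsg.largestPReducedOf p M)) (H : Subgroup G) (hH : Cfsg.IsInFrakH p M H) (R : Subgroup G) (hR : R = (Cfsg.pResidual p ↥H).map H.subtype) : (∀ T : Sylow p ↥(H ⊓ (M ⊔ Subgroup.centralizer (((Cfsg.largestPReducedOf p M) : Subgroup G) : Set G))), ∃ P : Sylow p ↥H, ((P : Subgroup ↥H).map H.subtype) = (T : Subgroup ↥(H ⊓ (M ⊔ Subgroup.centralizer (((Cfsg.largestPReducedOf p M) : Subgroup G) : Set G)))).map (H ⊓ (M ⊔ Subgroup.centralizer (((Cfsg.largestPReducedOf p M) : Subgroup G) : Set G))).subtype) ∧ Cfsg.pCoreOf p H ≤ Subgroup.normalizer (((Cfsg.pCoreOf p M) : Subgroup G) : Set G) ⊓ Subgroup.normalizer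 (((Cfsg.largestPReducedOf p M) : Subgroup G) : Set G) ∧ ⁅R, (Cfsg.largestPReducedOf p M)⁆ = R ∧ R ⊔ (Cfsg.pCoreOf p M) = H ∧ R ⊔ (Cfsg.largestPReducedOf p M) = (Subgroup.normalClosure ((((Cfsg.largestPReducedOf p M)).subgroupOf H : Subgroup ↥H) : Set ↥H)).map H.subtype ∧ (Subgroup.normalClosure ((((Cfsg.pCoreOf p M)).subgroupOf H : Subgroup ↥H) : Set ↥H)).map H.subtype = H := by
  have hw := Asym2.wcStrong_pCoreOf S hQp hQ1 hQS hQ hSM hM hasym
  have hdag := Asym2.normalizer_pCoreOf_le_dagger S hQp hQ1 hQ hSM hM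
  have hQMp : IsPGroup p (Cfsg.pCoreOf p M) := pCoreOf_isPGroup p M
  have hY : PRedIn p M (Cfsg.largestPReducedOf p M) := largestPReducedOf_pRedIn p M
  have hMN : M ⊔ Subgroup.centralizer (((Cfsg.largestPReducedOf p M) : Subgroup G) : Set G) ≤
      Subgroup.normalizer (((Cfsg.largestPReducedOf p M) : Subgroup G) : Set G) :=
    sup_le hY.2.1 (Subgroup.centralizer_le_normalizer _)
  have hm : MinPar.IsMinOver p (Cfsg.pCoreOf p M) (Cfsg.largestPReducedOf p M) H :=
    ⟨hH.2.1, hH.2.2.1, hH.2.2.2⟩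
  have hQY : Cfsg.pCoreOf p M ≤ Subgroup.normalizer (((Cfsg.largestPReducedOf p M) : Subgroup G) : Set G) :=
    (pCoreOf_le p M).trans hY.2.1
  have hRe : R = opOf p H := by rw [hR, map_pResidual_eq_opOf]
  have hpar := (Cfsg.Agent.S2850.result S Q hQp hQ1 hQS hQ M hSM hM hasym).2.2.1 H hH.2.1
  refine ⟨?_, ?_, ?_, ?_, ?_, ?_⟩
  · intro T
    exact MinPar.exists_sylow_eq_of_isParabolic inf_le_left hpar T
  · have h1 : IsPGroup p (Cfsg.pCoreOf p H ⊔ Cfsg.pCoreOf p M : Subgroup G) :=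
      (pCoreOf_isPGroup p H).to_sup_of_normal_left' hQMp (hH.2.1.trans (le_normalizer_pCoreOf p H))
    have h2 := hw.normalizer_le h1 le_sup_right
    have h3 : Cfsg.pCoreOf p H ≤ Subgroup.normalizer (((Cfsg.pCoreOf p M) : Subgroup G) : Set G) :=
      (le_sup_left.trans Subgroup.le_normalizer).trans h2
    exact le_inf h3 (h3.trans (hdag.trans hMN))
  · rw [hRe]
    exact hm.commutator_eq hQMp hY.le_pCoreOf hQY
  · rw [hRe]
    exact hm.opOf_sup
  · rw [hRe, MinPar.normalClosure_subgroupOf_map_eq (hY.le_pCoreOf.trans hH.2.1)]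
    exact hm.opOf_sup_Y hQMp hY.le_pCoreOf hQY
  · rw [MinPar.normalClosure_subgroupOf_map_eq hH.2.1]
    exact hm.conjClosure_eq

end Cfsg.Agent.S2853
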