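import Cfsg.Statements.S2854
import Mathlib
import Cfsg.Agent.Lib.helper17.Asym2
import Cfsg.Agent.Lib.helper17.MinPar3
import Cfsg.Agent.Lib.helper17.PIrr2

set_option autoImplicit false
open Cfsg

namespace Cfsg.Agent.S2854

open Cfsg.Agent.Lib.helper17

/-- Standing hypotheses: G a finite group, S a Sylow p-subgroup, Q a nontrivial large p-subgroup of G contained in S, M a subgroup containing S with the basic property (M ∈ 𝔐_G(S)); Y_M the largest p-reduced normal subgroup of M and M† = M·C_G(Y_M). Suppose Y_M is asymmetric in G, H ∈ ℌ_G(O_p(M)), and H ≤ N_G(gQg⁻¹) for some g ∈ G. Then gQg⁻¹ ≤ O_p(H·gQg⁻¹) ≤ N_G(O_p(M)) ≤ N_G(Y_M) = M†; H is normal in H·gQg⁻¹ with O^p(H) = O^p(H·gQg⁻¹); and H·gQg⁻¹ is p-irreducible. -/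
theorem result {G : Type*} [Group G] [Finite G] {p : ℕ} [Fact p.Prime] (S : Sylow p G) (Q : Subgroup G) (hQp : IsPGroup p ↥Q) (hQ1 : Q ≠ ⊥) (hQS : Q ≤ (S : Subgroup G)) (hQ : Cfsg.IsLarge Q) (M : Subgroup G) (hSM : (S : Subgroup G) ≤ M) (hM : Cfsg.IsInFrakM p M) (hasym : ¬ Cfsg.IsSymmetricIn (Cfsg.largestPReducedOf p M)) (H : Subgroup G) (hH : Cfsg.IsInFrakH p M H) (g : G) (hHQ : H ≤ Subgroup.normalizer ((((Q : Subgroup G).map (MulAut.conj (g : G)).toMonoidHom) : Subgroup G) : Set G)) : ((Q : Subgroup G).map (MulAut.conj (g : G)).toMonoidHom) ≤ Cfsg.pCoreOf p (H ⊔ ((Q : Subgroup G).map (MulAut.conj (g : G)).toMonoidHom)) ∧ Cfsg.pCoreOf p (H ⊔ ((Q : Subgroup G).map (MulAut.conj (g : G)).toMonoidHom)) ≤ Subgroup.normalizer (((Cfsg.pCoreOf p M) : Subgroup G) : Set G) ∧ Subgroup.normalizer (((Cfsg.pCoreOf p M) : Subgroup G) : Set G) ≤ Subgroup.normalizer (((Cfsg.largestPReducedOf p M) : Subgroup G) : Set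 G) ∧ Subgroup.normalizer (((Cfsg.largestPReducedOf p M) : Subgroup G) : Set G) = (M ⊔ Subgroup.centralizer (((Cfsg.largestPReducedOf p M) : Subgroup G) : Set G)) ∧ (H.subgroupOf (H ⊔ ((Q : Subgroup G).map (MulAut.conj (g : G)).toMonoidHom))).Normal ∧ (Cfsg.pResidual p ↥H).map H.subtype = (Cfsg.pResidual p ↥(H ⊔ ((Q : Subgroup G).map (MulAut.conj (g : G)).toMonoidHom))).map (H ⊔ ((Q : Subgroup G).map (MulAut.conj (g : G)).toMonoidHom)).subtype ∧ Cfsg.IsPIrreducible p ↥(H ⊔ ((Q : Subgroup G).map (MulAut.conj (g : G)).toMonoidHom)) := by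
  have hw := Asym2.wcStrong_pCoreOf S hQp hQ1 hQS hQ hSM hM hasym
  have hdag := Asym2.normalizer_pCoreOf_le_dagger S hQp hQ1 hQ hSM hM
  have hQMp : IsPGroup p (Cfsg.pCoreOf p M) := pCoreOf_isPGroup p M
  have hY : PRedIn p M (Cfsg.largestPReducedOf p M) := largestPReducedOf_pRedIn p M
  have hMN : M ⊔ Subgroup.centralizer (((Cfsg.largestPReducedOf p M) : Subgroup G) : Set G) ≤
      Subgroup.normalizer (((Cfsg.largestPReducedOf p M) : Subgroup G) : Set G) :=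
    sup_le hY.2.1 (Subgroup.centralizer_le_normalizer _)
  have hm : MinPar.IsMinOver p (Cfsg.pCoreOf p M) (Cfsg.largestPReducedOf p M) H :=
    ⟨hH.2.1, hH.2.2.1, hH.2.2.2⟩
  have hQY : Cfsg.pCoreOf p M ≤ Subgroup.normalizer (((Cfsg.largestPReducedOf p M) : Subgroup G) : Set G) :=
    (pCoreOf_le p M).trans hY.2.1
  have hYp : IsPGroup p (Cfsg.largestPReducedOf p M) := hQMp.to_le hY.le_pCoreOf
  have hY1 : Cfsg.largestPReducedOf p M ≠ ⊥ :=
    BPM.largestPReducedOf_ne_bot S hSM (BPM.charPSub_of_mem hM.1) (BPM.sylow_ne_bot_of_mem S hSM hM.1)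
  change H ≤ Subgroup.normalizer ((cj g Q : Subgroup G) : Set G) at hHQ
  change cj g Q ≤ Cfsg.pCoreOf p (H ⊔ cj g Q) ∧ Cfsg.pCoreOf p (H ⊔ cj g Q) ≤ _ ∧ _ ∧ _ ∧
    (H.subgroupOf (H ⊔ cj g Q)).Normal ∧
    (Cfsg.pResidual p ↥H).map H.subtype = (Cfsg.pResidual p ↥(H ⊔ cj g Q)).map (H ⊔ cj g Q).subtype ∧
    Cfsg.IsPIrreducible p ↥(H ⊔ cj g Q)
  have hQ'p : IsPGroup p (cj g Q) := isPGroup_cj hQp
  have h1 : cj g Q ≤ Cfsg.pCoreOf p (H ⊔ cj g Q) :=
    le_pCoreOf le_sup_right hQ'p (sup_le hHQ Subgroup.le_normalizer)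
  have h2 : Cfsg.pCoreOf p (H ⊔ cj g Q) ≤ Subgroup.normalizer (((Cfsg.pCoreOf p M) : Subgroup G) : Set G) := by
    have h3 : IsPGroup p (Cfsg.pCoreOf p (H ⊔ cj g Q) ⊔ Cfsg.pCoreOf p M : Subgroup G) :=
      (pCoreOf_isPGroup p _).to_sup_of_normal_left' hQMp
        ((hH.2.1.trans le_sup_left).trans (le_normalizer_pCoreOf p _))
    exact (le_sup_left.trans Subgroup.le_normalizer).trans (hw.normalizer_le h3 le_sup_right)
  have hQ'H : cj g Q ≤ Subgroup.normalizer (H : Set G) := by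
    have h3 : cj g Q ≤ Subgroup.normalizer ((conjClosure H (Cfsg.pCoreOf p M) : Subgroup G) : Set G) := by
      apply MinPar2.le_normalizer_conjClosure_of
      intro k hk
      rw [normalizer_cj]
      have h4 := cj_mono (g := k) (h1.trans h2)
      rwa [cj_eq_self_iff.mpr (hHQ hk)] at h4
    rwa [hm.conjClosure_eq] at h3
  have hH'H : H ⊔ cj g Q ≤ Subgroup.normalizer (H : Set G) := sup_le Subgroup.le_normalizer hQ'H
  have hop : opOf p H = opOf p (H ⊔ cj g Q) := by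
    apply le_antisymm (opOf_mono le_sup_left)
    have h3 : opOf p (H ⊔ cj g Q) ≤ H := opOf_le_of_le_sup le_sup_left hH'H hQ'p le_sup_right le_rfl
    calc opOf p (H ⊔ cj g Q) = opOf p (opOf p (H ⊔ cj g Q)) := (opOf_opOf p _).symm
      _ ≤ opOf p H := opOf_mono h3
  refine ⟨h1, h2, hdag.trans hMN, ?_, ?_, ?_, ?_, ?_⟩
  · exact le_antisymm (IsInFrakM.normalizer_le_dagger S hQp hQ1 hQ hSM hM hY1 hYp hY.2.1) hMN
  · exact (Subgroup.normal_subgroupOf_iff_le_normalizer le_sup_left).mpr hH'H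
  · rw [map_pResidual_eq_opOf, map_pResidual_eq_opOf]
    exact hop
  · intro hcl
    have h3 : Cfsg.IsPClosed p ↥H := MinPar3.isPClosed_mono le_sup_left hcl
    exact hH.2.2.1 (MinPar3.le_pCoreOf_of_isPClosed h3 (hY.le_pCoreOf.trans hH.2.1) hYp)
  · intro N' hN'n hN'c
    have hinj := Subgroup.subtype_injective (H ⊔ cj g Q)
    have h3 : N'.map (H ⊔ cj g Q).subtype ≤ H ⊔ cj g Q := Subgroup.map_subtype_le _
    have h4 : H ⊔ cj g Q ≤ Subgroup.normalizer ((N'.map (H ⊔ cj g Q).subtype : Subgroup G) : Set G) :=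
      (normal_iff_le_normalizer_map N').mp hN'n
    have h5 : ¬ Cfsg.IsPClosed p ↥(N'.map (H ⊔ cj g Q).subtype) := by
      intro hcl
      exact hN'c (isPClosed_of_mulEquiv (N'.equivMapOfInjective _ hinj).symm hcl)
    have h6 := MinPar3.opOf_le_of_not_isPClosed_sup hm hQMp hY.le_pCoreOf hQY hQ'p hHQ hQ'H h3 h4 h5
    rw [← (Subgroup.map_le_map_iff_of_injective hinj), map_pResidual_eq_opOf, ← hop]
    exact h6

end Cfsg.Agent.S2854
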