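import Mathlib
import Cfsg.Statements.S2855
import Cfsg.Agent.Lib.helper17.PMF6

set_option autoImplicit false
open Cfsg

namespace Cfsg.Agent.S2855

open Cfsg.Agent.Lib.helper17 Cfsg.Agent.Lib.helper17.PMF2 Cfsg.Agent.Lib.helper17.PMF3 Cfsg.Agent.Lib.helper17.PMF4 Cfsg.Agent.Lib.helper17.PMF6

/-- Let H be a finite group, p a prime, and 𝒦 a nonempty set of subgroups of H permuted transitively by conjugation, with R the subgroup generated by the members of 𝒦. Suppose O^p(H) ≤ R, each E ∈ 𝒦 has E·O_p(H) normal in R·O_p(H), and each E ∈ 𝒦 is p-minimal (generated by the conjugates of a Sylow p-subgroup T_E of E, with T_E in exactly one maximal subgroup of E). Then H is p-minimal in the same sense. If instead each E ∈ 𝒦 is strongly p-irreducible, then H is p-irreducible and, for E, K ∈ 𝒦, either O^p(E·O_p(H)) = O^p(K·O_p(H)) or [E, K] ≤ O_p(H). -/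
theorem result {H : Type*} [Group H] [Finite H] {p : ℕ} [Fact p.Prime] (𝒦 : Set (Subgroup H)) (hne : 𝒦.Nonempty) (hinv : ∀ h : H, ∀ E ∈ 𝒦, E.map (MulAut.conj h).toMonoidHom ∈ 𝒦) (htr : ∀ E ∈ 𝒦, ∀ K ∈ 𝒦, ∃ h : H, K = E.map (MulAut.conj h).toMonoidHom) (hres : Cfsg.pResidual p H ≤ sSup 𝒦) (hnorm : ∀ E ∈ 𝒦, sSup 𝒦 ⊔ Cfsg.pCore p H ≤ Subgroup.normalizer ((E ⊔ Cfsg.pCore p H : Subgroup H) : Set H)) : ((∀ E ∈ 𝒦, ∀ T : Sylow p ↥E, Cfsg.IsMinimalOver (T : Subgroup ↥E)) → ∀ T : Sylow p H, Cfsg.IsMinimalOver (T : Subgroup H)) ∧ ((∀ E ∈ 𝒦, Cfsg.IsStronglyPIrreducible p ↥E) → Cfsg.IsPIrreducible p H ∧ ∀ E ∈ 𝒦, ∀ K ∈ 𝒦, (Cfsg.pResidual p ↥(E ⊔ Cfsg.pCore p H)).map (E ⊔ Cfsg.pCore p H).subtype = (Cfsg.pResidual p ↥(K ⊔ Cfsg.pCore p H)).map (K ⊔ Cfsg.pCore p H).subtype ∨ ⁅E, K⁆ ≤ Cfsg.pCore p H) := by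
  have hF : Fam p 𝒦 := ⟨hne, hinv, htr, hres, hnorm⟩
  refine ⟨fun hyp T => part_a hF hyp T, fun hyp => ?_⟩
  have hspi : ∀ E ∈ 𝒦, SpiIn p E := fun E hE => spiIn_of (hyp E hE)
  refine ⟨⟨not_isPClosed_top hF hspi, fun N hN hnpc => part_b2 hF hspi hN hnpc⟩, ?_⟩
  intro E hE K hK
  rw [map_pResidual_eq_opOf, map_pResidual_eq_opOf]
  exact part_b3 hF hspi hE hK

end Cfsg.Agent.S2855
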