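import Mathlib
import Cfsg.Statements.S2856
import Cfsg.Agent.Lib.helper17.Amal5

set_option autoImplicit false
open Cfsg

namespace Cfsg.Agent.S2856

open Cfsg.Agent.Lib.helper17 Cfsg.Agent.Lib.helper17.Amal5

/-- Let (M₁, M₂) be an amalgam pair in X satisfying the rank-two standing hypothesis (characteristic p, the normalizers in M₁ and in M₂ of a Sylow p-subgroup of M₁ ∩ M₂ equal and contained in M₁ ∩ M₂, and strongly p-embedded residues), λ a vertex of the coset graph, L_λ the subgroup of its stabilizer generated by the p-elements, Q_λ = O_p of the stabilizer, O^p(L_λ) the subgroup of L_λ generated by its elements of order prime to p, and V_λ^{(k)} the subgroup generated by the Z_μ over the vertices μ at distance at most k from λ (Z_μ being generated by the Ω₁(Z(S)), S a Sylow p-subgroup of the stabilizer of μ). If n ≥ 1 and V_λ^{(n)} ≤ Q_λ, then O^p(L_λ) does not centralize V_λ^{(n)}/[V_λ^{(n)}, Q_λ], that is, [V_λ^{(n)}, O^p(L_λ)] is not contained in [V_λ^{(n)},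 Q_λ]. -/
theorem result {X : Type*} [Group X] {p : ℕ} [Fact p.Prime] (M₁ M₂ : Subgroup X) (h : Cfsg.IsSpeAmalgamPair p M₁ M₂) (lam : Cfsg.CosetVertex M₁ M₂) (n : ℕ) (hn : 1 ≤ n) (V : Subgroup X) (hV : V = Cfsg.vertexVIter p M₁ M₂ n lam) (hVQ : V ≤ Cfsg.vertexQ p lam) : ¬ ⁅V, ((Cfsg.pResidual p ↥(Cfsg.pElementClosure p (MulAction.stabilizer X lam))).map (Cfsg.pElementClosure p (MulAction.stabilizer X lam)).subtype)⁆ ≤ ⁅V, Cfsg.vertexQ p lam⁆ := by
  subst hV
  obtain ⟨k, rfl⟩ : ∃ k, n = k + 1 := ⟨n - 1, by omega⟩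
  intro hle
  obtain ⟨m, hadj⟩ := exists_adj lam
  have h1 := vertexVIter_succ_le_sup h hadj k _ hle
  have hfl := finite_stabilizer h.1 lam
  have hQle : Cfsg.vertexQ p lam ≤ MulAction.stabilizer X lam := pCoreOf_le p _
  have hfQ : Finite ↥(Cfsg.vertexQ p lam) :=
    Finite.of_injective (Subgroup.inclusion hQle) (Subgroup.inclusion_injective _)
  have hQp : IsPGroup p (Cfsg.vertexQ p lam) := pCoreOf_isPGroup p _
  have hUV : Cfsg.vertexVIter p M₁ M₂ k m ≤ Cfsg.vertexVIter p M₁ M₂ (k + 1) lam :=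
    vertexVIter_le_succ_of_adj hadj k
  have hQm : Cfsg.vertexQ p lam ≤ MulAction.stabilizer X m :=
    (vertexQ_le_stabilizer_of_adj h.1 hadj).trans inf_le_right
  have hQU : Cfsg.vertexQ p lam ≤
      Subgroup.normalizer ((Cfsg.vertexVIter p M₁ M₂ k m : Subgroup X) : Set X) :=
    hQm.trans (stabilizer_le_normalizer_vertexVIter h.1 k m)
  have h2 := le_of_le_sup_commutator hQp (hUV.trans hVQ) hVQ hQU h1
  exact not_le_vertexQ h.1 hadj k h2 hVQ

end Cfsg.Agent.S2856
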