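import Mathlib
import Cfsg.Statements.S2859
import Cfsg.Agent.Lib.helper17.WCProd2

set_option autoImplicit false
open Cfsg
open scoped commutatorElement

namespace Cfsg.Agent.S2859

open Cfsg.Agent.Lib.helper17

theorem weakClosure_top {G : Type*} [Group G] (Q : Subgroup G) :
    Cfsg.weakClosure Q ⊤ = ⨆ g : G, cj g Q := by
  unfold Cfsg.weakClosure
  apply le_antisymm
  · apply iSup_le
    rintro ⟨g, hg⟩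
    exact le_iSup (fun g => cj g Q) g
  · apply iSup_le
    intro g
    exact le_iSup (fun g : {g : G // Q.map (MulAut.conj g).toMonoidHom ≤ ⊤} =>
      Q.map (MulAut.conj (g : G)).toMonoidHom) ⟨g, le_top⟩

/-- Let Q be a nontrivial p-subgroup of the finite group H that is a weakly closed subgroup, H° the weak closure of Q in H (generated by the conjugates of Q) and H_∘ = O^p(H°). Suppose H₁, H₂ are normal subgroups of H° with H° = H₁H₂ and [H₁, H₂] ≤ N_H(Q), and put Kᵢ = O^p of the weak closure of Q in HᵢQ. Then for i = 1, 2: Kᵢ = [Kᵢ, Q] = [Kᵢ, Hᵢ] ≤ Hᵢ′ and Kᵢ is normal in H°; H_∘ = K₁K₂; and [K₁, K₂] ≤ O_p(H°). -/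
theorem result {G : Type*} [Group G] [Finite G] {p : ℕ} [Fact p.Prime] (Q : Subgroup G) (hQp : IsPGroup p ↥Q) (hQ1 : Q ≠ ⊥) (hwc : Cfsg.IsWeaklyClosedSubgroup p Q) (Hc : Subgroup G) (hHc : Hc = Cfsg.weakClosure Q ⊤) (H₁ H₂ : Subgroup G) (hn₁ : H₁ ≤ Hc ∧ Hc ≤ Subgroup.normalizer ((H₁ : Subgroup G) : Set G)) (hn₂ : H₂ ≤ Hc ∧ Hc ≤ Subgroup.normalizer ((H₂ : Subgroup G) : Set G)) (hprod : H₁ ⊔ H₂ = Hc) (hcomm : ⁅H₁, H₂⁆ ≤ Subgroup.normalizer ((Q : Subgroup G) : Set G)) (K₁ K₂ : Subgroup G) (hK₁ : K₁ = ((Cfsg.pResidual p ↥(Cfsg.weakClosure Q (H₁ ⊔ Q))).map ((Cfsg.weakClosure Q (H₁ ⊔ Q))).subtype)) (hK₂ : K₂ = ((Cfsg.pResidual p ↥(Cfsg.weakClosure Q (H₂ ⊔ Q))).map ((Cfsg.weakClosure Q (H₂ ⊔ Q))).subtype)) : (⁅K₁, Q⁆ = K₁ ∧ ⁅K₁, H₁⁆ = K₁ ∧ K₁ ≤ ⁅H₁, H₁⁆ ∧ Hc ≤ Subgroup.normalizer ((K₁ : Subgroup G) : Set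 G)) ∧ (⁅K₂, Q⁆ = K₂ ∧ ⁅K₂, H₂⁆ = K₂ ∧ K₂ ≤ ⁅H₂, H₂⁆ ∧ Hc ≤ Subgroup.normalizer ((K₂ : Subgroup G) : Set G)) ∧ K₁ ⊔ K₂ = ((Cfsg.pResidual p ↥Hc).map (Hc).subtype) ∧ ⁅K₁, K₂⁆ ≤ (Cfsg.pCoreOf p Hc) := by
  have hs : WCStrong p Q := wcStrong_of_isWeaklyClosedSubgroup hwc
  have s : ProdSetting p Q Hc H₁ H₂ :=
    ⟨hs, hQp, by rw [hHc, weakClosure_top], hn₁.1, hn₁.2, hn₂.1, hn₂.2, hprod, hcomm⟩
  have e₁ : K₁ = opOf p (wcl Q H₁) := by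
    rw [hK₁, map_pResidual_eq_opOf, hs.weakClosure_eq hQp (le_sup_right : Q ≤ H₁ ⊔ Q)]
    rfl
  have e₂ : K₂ = opOf p (wcl Q H₂) := by
    rw [hK₂, map_pResidual_eq_opOf, hs.weakClosure_eq hQp (le_sup_right : Q ≤ H₂ ⊔ Q)]
    rfl
  rw [map_pResidual_eq_opOf, e₁, e₂]
  exact ⟨⟨s.K_comm_Q, s.K_comm_A, s.K_le_AA, s.Hc_le_nK⟩,
    ⟨s.symm.K_comm_Q, s.symm.K_comm_A, s.symm.K_le_AA, s.symm.Hc_le_nK⟩, s.K_sup_K, s.comm_K_K⟩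

end Cfsg.Agent.S2859
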