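import Mathlib
import Cfsg.Statements.S2860
import Cfsg.Agent.S2843
import Cfsg.Agent.Lib.helper17.Large
import Cfsg.Agent.Lib.helper17.QSet
import Cfsg.Agent.Lib.helper17.QSQuot

set_option autoImplicit false
open Cfsg
open scoped commutatorElement

namespace Cfsg.Agent.S2860

open Cfsg.Agent.Lib.helper17

/-- `E_∘ / C_{E_∘}(U)` is isomorphic to the given quasisimple group. -/
theorem quasisimple_quot {G : Type*} [Group G] [Finite G] {p : ℕ} [Fact p.Prime]
    {Q E C Er : Subgroup G} [hn : (C.subgroupOf E).Normal] [hn2 : (C.subgroupOf Er).Normal]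
    (s : QSetting p Q E C) (hErr : Er = opOf p (wclE Q E))
    (hqs : Cfsg.IsQuasisimple ↥((Cfsg.pResidual p ↥E ⊔ C.subgroupOf E).map
      (QuotientGroup.mk' (C.subgroupOf E)))) :
    Cfsg.IsQuasisimple (↥Er ⧸ C.subgroupOf Er) := by
  have hErE : Er ≤ E := by rw [hErr]; exact s.Er_le
  set φ : ↥Er →* ↥E ⧸ C.subgroupOf E :=
    (QuotientGroup.mk' (C.subgroupOf E)).comp (Subgroup.inclusion hErE) with hφ
  have hker : φ.ker = C.subgroupOf Er := by
    ext x
    rw [MonoidHom.mem_ker, hφ, MonoidHom.comp_apply, QuotientGroup.mk'_apply,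
      QuotientGroup.eq_one_iff, Subgroup.mem_subgroupOf, Subgroup.mem_subgroupOf]
    rfl
  have hrange : φ.range = (Cfsg.pResidual p ↥E ⊔ C.subgroupOf E).map
      (QuotientGroup.mk' (C.subgroupOf E)) := by
    rw [hφ, MonoidHom.range_comp, Subgroup.inclusion_range, ← bar_K0]
    change bar E C Er = _
    have hK0E : opOf p E ⊔ (E ⊓ C) ≤ E := s.K0_le
    apply le_antisymm
    · rw [bar_le_bar_iff hErE hK0E, s.K0_eq, ← hErr]
      exact le_sup_left.trans le_sup_left
    · rw [bar_le_bar_iff hK0E hErE, s.K0_eq, ← hErr]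
  have e1 : ↥Er ⧸ φ.ker ≃* ↥φ.range := QuotientGroup.quotientKerEquivRange φ
  have e2 : ↥Er ⧸ φ.ker ≃* ↥Er ⧸ C.subgroupOf Er := QuotientGroup.quotientMulEquivOfEq hker
  have e3 : ↥φ.range ≃* ↥((Cfsg.pResidual p ↥E ⊔ C.subgroupOf E).map
      (QuotientGroup.mk' (C.subgroupOf E))) := MulEquiv.subgroupCongr hrange
  exact Cfsg.Agent.Lib.Helper9.isQuasisimple_of_mulEquiv ((e3.symm.trans e1.symm).trans e2) hqs

/-- Let Q be a nontrivial large p-subgroup of the finite group H, U a nontrivial elementary abelian p-subgroup of H, and Q ≤ E ≤ N_H(U) with Q not normal in E. Suppose O_p(E/C_E(U)) = 1 and O^p(E)·C_E(U)/C_E(U) is quasisimple. Let E° be the weak closure of Q in E (generated by the conjugates of Q inside E) and E_∘ = O^p(E°). Then O^p(E)·C_E(U) = E_∘·C_E(U); E_∘ is perfect and equals O^p(E_∘); E_∘/C_{E_∘}(U) and E_∘/O_p(E_∘) are quasisimple; and E_∘ = [E_∘, Y] for every p-subgroup Y of E not centralizing U. -/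
theorem result {G : Type*} [Group G] [Finite G] {p : ℕ} [Fact p.Prime] (Q : Subgroup G) (hQp : IsPGroup p ↥Q) (hQ1 : Q ≠ ⊥) (hQ : Cfsg.IsLarge Q) (U : Subgroup G) (hU : Cfsg.IsElementaryAbelian p U) (hU1 : U ≠ ⊥) (E : Subgroup G) (hQE : Q ≤ E) (hEU : E ≤ Subgroup.normalizer ((U : Subgroup G) : Set G)) (hQn : ¬ E ≤ Subgroup.normalizer ((Q : Subgroup G) : Set G)) [hn : ((Subgroup.centralizer ((U : Subgroup G) : Set G)).subgroupOf E).Normal] (hred : Cfsg.pCore p (↥E ⧸ (Subgroup.centralizer ((U : Subgroup G) : Set G)).subgroupOf E) = ⊥) (hqs : Cfsg.IsQuasisimple ↥(((Cfsg.pResidual p ↥E) ⊔ (Subgroup.centralizer ((U : Subgroup G) : Set G)).subgroupOf E).map (QuotientGroup.mk' ((Subgroup.centralizer ((U : Subgroup G) : Set G)).subgroupOf E)))) (Er : Subgroup G) (hEr : Er = ((Cfsg.pResidual p ↥(Cfsg.weakClosure Q E)).map ((Cfsg.weakClosure Q E)).subtype)) [hn2 : ((Subgroup.centralizer ((U : Subgroup G) : Set G)).subgroupOf Er).Normal] : ((Cfsg.pResidual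 p ↥E).map (E).subtype) ⊔ (E ⊓ Subgroup.centralizer ((U : Subgroup G) : Set G)) = Er ⊔ (E ⊓ Subgroup.centralizer ((U : Subgroup G) : Set G)) ∧ ⁅Er, Er⁆ = Er ∧ ((Cfsg.pResidual p ↥Er).map (Er).subtype) = Er ∧ Cfsg.IsQuasisimple (↥Er ⧸ (Subgroup.centralizer ((U : Subgroup G) : Set G)).subgroupOf Er) ∧ Cfsg.IsQuasisimple (↥Er ⧸ Cfsg.pCore p ↥Er) ∧ ∀ Y : Subgroup G, Y ≤ E → IsPGroup p ↥Y → ¬ Y ≤ Subgroup.centralizer ((U : Subgroup G) : Set G) → ⁅Er, Y⁆ = Er := by
  have hs : WCStrong p Q := large_wcStrong hQ hQ1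
  have hUp : IsPGroup p U := by
    rintro ⟨a, ha⟩
    refine ⟨1, ?_⟩
    apply Subtype.ext
    simpa using hU.2 a ha
  have hwcl : Cfsg.weakClosure Q E = wclE Q E := hs.weakClosure_eq hQp hQE
  have hErr : Er = opOf p (wclE Q E) := by rw [hEr, map_pResidual_eq_opOf, hwcl]
  have h43 := (Cfsg.Agent.S2843.result Q hQp hQ1 hQ E hQE U hUp hU1 hEU).2.1
  rw [hwcl] at h43
  have hnotC : ¬ Q ≤ Subgroup.centralizer ((U : Subgroup G) : Set G) := by
    intro hQC
    apply hQn
    have hUQ : U ≤ Subgroup.centralizer ((Q : Subgroup G) : Set G) := Subgroup.le_centralizer_iff.mp hQC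
    exact hEU.trans (hQ.2 U hUQ hU1)
  have s : QSetting p Q E (Subgroup.centralizer ((U : Subgroup G) : Set G)) :=
    ⟨hs, hQp, hQE, hEU.trans (normalizer_le_normalizer_centralizer' U), hnotC, h43,
      fun Y hYE hYp hYC => K0_le_commutator_sup hred hqs hYE hYp hYC,
      K0_le_commutator_self_sup hqs⟩
  have hperf : ⁅Er, Er⁆ = Er := by rw [hErr]; exact s.Er_perfect
  have hc1 := quasisimple_quot s hErr hqs
  refine ⟨?_, hperf, ?_, hc1, ?_, ?_⟩
  · rw [map_pResidual_eq_opOf, hErr]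
    exact s.K0_eq
  · rw [map_pResidual_eq_opOf, hErr, opOf_opOf]
  · -- `E_∘ / O_p(E_∘)` quasisimple
    have hperfX : Group.IsPerfect ↥Er := by
      constructor
      apply Subgroup.map_injective Er.subtype_injective
      rw [map_commutator_subtype, hperf, ← MonoidHom.range_eq_map, Subgroup.range_subtype]
    have hPn : (Cfsg.pCore p ↥Er).Normal := pCore_normal p ↥Er
    apply isQuasisimple_quotient_of_central_mod hperfX
      ((Subgroup.centralizer ((U : Subgroup G) : Set G)).subgroupOf Er) (Cfsg.pCore p ↥Er) hc1 ?_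
      (pCore_isPGroup p ↥Er)
    have h1 := s.comm_R_Er
    rw [← hErr] at h1
    have h2 : (⁅(Subgroup.centralizer ((U : Subgroup G) : Set G)).subgroupOf Er,
        (⊤ : Subgroup ↥Er)⁆).map Er.subtype ≤ (Cfsg.pCore p ↥Er).map Er.subtype := by
      rw [Subgroup.map_commutator, Subgroup.subgroupOf_map_subtype, ← MonoidHom.range_eq_map,
        Subgroup.range_subtype, inf_comm]
      exact h1
    exact (Subgroup.map_le_map_iff_of_injective Er.subtype_injective).mp h2
  · intro Y hYE hYp hYC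
    rw [hErr]
    exact s.Er_comm_Y hYE hYp hYC

end Cfsg.Agent.S2860
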