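import Mathlib
import Cfsg.Statements.S2864
import Cfsg.Agent.Lib.helper17.FrakM2
import Cfsg.Agent.Lib.helper17.SylSub
import Cfsg.Agent.Lib.helper17.Burnside

set_option autoImplicit false
open Cfsg

namespace Cfsg.Agent.S2864

open Cfsg.Agent.Lib.helper17
open scoped commutatorElement

theorem result {G : Type*} [Group G] [Finite G] {p : ℕ} [Fact p.Prime] (S : Sylow p G) (Q : Subgroup G) (hQp : IsPGroup p ↥Q) (hQ1 : Q ≠ ⊥) (hQS : Q ≤ (S : Subgroup G)) (hQ : Cfsg.IsLarge Q) (M : Subgroup G) (hSM : (S : Subgroup G) ≤ M) (hM : Cfsg.IsInFrakM p M) (I : Subgroup G) (hI1 : I ≠ ⊥) (hIp : IsPGroup p ↥I) (hIM : I ≤ M ∧ M ≤ Subgroup.normalizer ((I : Subgroup G) : Set G)) (Y : Subgroup G) (hY : Y ≤ (Cfsg.pCoreOf p (M ⊔ Subgroup.centralizer (((Cfsg.largestPReducedOf p M) : Subgroup G) : Set G)))) (L : Subgroup G) (hYL : Y ≤ L) (A : Subgroup G) (hAp : IsPGroup p ↥A) (hAL : A ≤ L ∧ L ≤ Subgroup.normalizer ((A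 : Subgroup G) : Set G)) (hIA : I ≤ A) (hAM : A ≤ M) (hc : ⁅Y, A⁆ ≤ ⁅I, A⁆) : Y ≤ (Cfsg.pCoreOf p L) := by
  -- `C = C_L(A) ≤ M†`
  have hdag := IsInFrakM.normalizer_le_dagger S hQp hQ1 hQ hSM hM hI1 hIp hIM.2
  have hCdag : L ⊓ Subgroup.centralizer (A : Set G) ≤
      M ⊔ Subgroup.centralizer (((Cfsg.largestPReducedOf p M) : Subgroup G) : Set G) :=
    inf_le_right.trans ((Subgroup.centralizer_le (SetLike.coe_subset_coe.mpr hIA)).trans
      ((Subgroup.centralizer_le_normalizer _).trans hdag))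
  have hLC : L ≤ Subgroup.normalizer ((L ⊓ Subgroup.centralizer (A : Set G) : Subgroup G) : Set G) :=
    le_normalizer_inf' Subgroup.le_normalizer (hAL.2.trans (normalizer_le_normalizer_centralizer' A))
  have hLP : L ≤ Subgroup.normalizer ((Cfsg.pCoreOf p L : Subgroup G) : Set G) := le_normalizer_pCoreOf p L
  have hLA' : L ≤ Subgroup.normalizer ((⁅A, A⁆ : Subgroup G) : Set G) :=
    le_normalizer_commutator hAL.2 hAL.2
  -- `[C, Y] ≤ O_p(L)`
  have hCP : (L ⊓ Subgroup.centralizer (A : Set G)) ⊓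
      Cfsg.pCoreOf p (M ⊔ Subgroup.centralizer (((Cfsg.largestPReducedOf p M) : Subgroup G) : Set G)) ≤
      Cfsg.pCoreOf p L := by
    have h1 : (L ⊓ Subgroup.centralizer (A : Set G)) ⊓
        Cfsg.pCoreOf p (M ⊔ Subgroup.centralizer (((Cfsg.largestPReducedOf p M) : Subgroup G) : Set G)) ≤
        Cfsg.pCoreOf p (L ⊓ Subgroup.centralizer (A : Set G)) := by
      apply le_pCoreOf inf_le_left ((pCoreOf_isPGroup p _).to_le inf_le_right)
      exact le_normalizer_inf' Subgroup.le_normalizer (hCdag.trans (le_normalizer_pCoreOf p _))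
    refine h1.trans ?_
    apply le_pCoreOf ((pCoreOf_le p _).trans inf_le_left) (pCoreOf_isPGroup p _)
    exact hLC.trans (normalizer_le_normalizer_pCoreOf p _)
  have hYC : ∀ y ∈ Y, ∀ c ∈ L ⊓ Subgroup.centralizer (A : Set G), y * c * y⁻¹ * c⁻¹ ∈ Cfsg.pCoreOf p L := by
    intro y hy c hc
    apply hCP
    refine Subgroup.mem_inf.mpr ⟨?_, ?_⟩
    · have h1 : y * c * y⁻¹ ∈ L ⊓ Subgroup.centralizer (A : Set G) :=
        (Subgroup.mem_normalizer_iff.mp (hLC (hYL hy)) c).mp hc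
      exact Subgroup.mul_mem _ h1 (Subgroup.inv_mem _ hc)
    · have h1 : c * y⁻¹ * c⁻¹ ∈ Cfsg.pCoreOf p (M ⊔ Subgroup.centralizer (((Cfsg.largestPReducedOf p M) : Subgroup G) : Set G)) :=
        (Subgroup.mem_normalizer_iff.mp (le_normalizer_pCoreOf p _ (hCdag hc)) y⁻¹).mp
          (Subgroup.inv_mem _ (hY hy))
      have := Subgroup.mul_mem _ (hY hy) h1
      have e : y * (c * y⁻¹ * c⁻¹) = y * c * y⁻¹ * c⁻¹ := by group
      rw [e] at this
      exact this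
  -- the subgroup `K`
  have hYK : Y ≤ L ⊓ chainKer A ⁅A, A⁆ ⊓ chainKer (L ⊓ Subgroup.centralizer (A : Set G)) (Cfsg.pCoreOf p L) := by
    intro y hy
    refine Subgroup.mem_inf.mpr ⟨Subgroup.mem_inf.mpr ⟨hYL hy, ?_⟩, ?_⟩
    · refine ⟨hAL.2 (hYL hy), hLA' (hYL hy), ?_⟩
      intro a ha
      have h1 : ⁅y, a⁆ ∈ ⁅Y, A⁆ := Subgroup.commutator_mem_commutator hy ha
      have h2 := Subgroup.commutator_mono hIA (le_refl A) (hc h1)
      rw [commutatorElement_def] at h2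
      exact h2
    · exact ⟨hLC (hYL hy), hLP (hYL hy), hYC y hy⟩
  have hKL : L ⊓ chainKer A ⁅A, A⁆ ⊓ chainKer (L ⊓ Subgroup.centralizer (A : Set G)) (Cfsg.pCoreOf p L) ≤ L :=
    inf_le_left.trans inf_le_left
  have hLK : L ≤ Subgroup.normalizer ((L ⊓ chainKer A ⁅A, A⁆ ⊓
      chainKer (L ⊓ Subgroup.centralizer (A : Set G)) (Cfsg.pCoreOf p L) : Subgroup G) : Set G) := by
    apply le_normalizer_of_cj_le'
    intro l hl x hx
    rw [mem_cj] at hx
    have ex : x = l * (l⁻¹ * x * l) * l⁻¹ := by group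
    rw [ex]
    generalize l⁻¹ * x * l = k at hx
    have hk := hx
    obtain ⟨hk12, hk3⟩ := Subgroup.mem_inf.mp hk
    obtain ⟨hk1, hk2⟩ := Subgroup.mem_inf.mp hk12
    refine Subgroup.mem_inf.mpr ⟨Subgroup.mem_inf.mpr ⟨?_, ?_⟩, ?_⟩
    · exact L.mul_mem (L.mul_mem hl hk1) (L.inv_mem hl)
    · exact conj_mem_chainKer (hAL.2 hl) (hLA' hl) hk2
    · exact conj_mem_chainKer (hLC hl) (hLP hl) hk3
  -- a Sylow subgroup of `K` containing `Y`
  have hYp : IsPGroup p ↥Y := (pCoreOf_isPGroup p _).to_le hY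
  obtain ⟨T, hT⟩ := (hYp.comap_subtype (K := L ⊓ chainKer A ⁅A, A⁆ ⊓
      chainKer (L ⊓ Subgroup.centralizer (A : Set G)) (Cfsg.pCoreOf p L))).exists_le_sylow
  have hYT : Y ≤ (T : Subgroup _).map (L ⊓ chainKer A ⁅A, A⁆ ⊓
      chainKer (L ⊓ Subgroup.centralizer (A : Set G)) (Cfsg.pCoreOf p L)).subtype := by
    intro y hy
    exact ⟨⟨y, hYK hy⟩, hT (Subgroup.mem_subgroupOf.mpr hy), rfl⟩
  have hTK : (T : Subgroup _).map (L ⊓ chainKer A ⁅A, A⁆ ⊓
      chainKer (L ⊓ Subgroup.centralizer (A : Set G)) (Cfsg.pCoreOf p L)).subtype ≤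
      L ⊓ chainKer A ⁅A, A⁆ ⊓ chainKer (L ⊓ Subgroup.centralizer (A : Set G)) (Cfsg.pCoreOf p L) :=
    Subgroup.map_subtype_le _
  -- `P ∩ K ≤ T`
  have hPKT : Cfsg.pCoreOf p L ⊓ (L ⊓ chainKer A ⁅A, A⁆ ⊓
      chainKer (L ⊓ Subgroup.centralizer (A : Set G)) (Cfsg.pCoreOf p L)) ≤
      (T : Subgroup _).map (L ⊓ chainKer A ⁅A, A⁆ ⊓
        chainKer (L ⊓ Subgroup.centralizer (A : Set G)) (Cfsg.pCoreOf p L)).subtype := by
    apply le_sylowSub_of_normal T inf_le_right ((pCoreOf_isPGroup p L).to_le inf_le_left)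
    exact le_normalizer_inf' (hKL.trans hLP) Subgroup.le_normalizer
  have hTP : (T : Subgroup _).map (L ⊓ chainKer A ⁅A, A⁆ ⊓
      chainKer (L ⊓ Subgroup.centralizer (A : Set G)) (Cfsg.pCoreOf p L)).subtype ≤
      Cfsg.pCoreOf p (L ⊓ chainKer A ⁅A, A⁆ ⊓
        chainKer (L ⊓ Subgroup.centralizer (A : Set G)) (Cfsg.pCoreOf p L)) := by
    apply sylowSub_le_pCoreOf
    intro g hgK hgc
    obtain ⟨hg12, hg3⟩ := Subgroup.mem_inf.mp hgK
    obtain ⟨hg1, hg2⟩ := Subgroup.mem_inf.mp hg12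
    -- `g` centralises `A`
    have hgA : ∀ a ∈ A, g * a = a * g := by
      apply centralizes_of_commutator_le_derived hAp hg2.1 hgc
      intro a ha
      rw [commutatorElement_def]
      exact hg2.2.2 a ha
    have hgC : g ∈ L ⊓ Subgroup.centralizer (A : Set G) := by
      refine Subgroup.mem_inf.mpr ⟨hg1, ?_⟩
      rw [Subgroup.mem_centralizer_iff]
      intro a ha
      exact (hgA a ha).symm
    rw [← cj_eq_self_iff]
    apply cj_eq_of_cj_le'
    intro x hx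
    rw [mem_cj] at hx
    have ex : x = g * (g⁻¹ * x * g) * g⁻¹ := by group
    rw [ex]
    generalize g⁻¹ * x * g = t at hx
    have ht := hx
    have htK := hTK ht
    obtain ⟨-, ht3⟩ := Subgroup.mem_inf.mp htK
    have h1 : t * g * t⁻¹ * g⁻¹ ∈ Cfsg.pCoreOf p L := ht3.2.2 g hgC
    have h2 : g * t * g⁻¹ * t⁻¹ ∈ Cfsg.pCoreOf p L := by
      have h3 := Subgroup.inv_mem _ h1
      have e : (t * g * t⁻¹ * g⁻¹)⁻¹ = g * t * g⁻¹ * t⁻¹ := by group
      rw [e] at h3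
      exact h3
    have h3 : g * t * g⁻¹ * t⁻¹ ∈ L ⊓ chainKer A ⁅A, A⁆ ⊓
        chainKer (L ⊓ Subgroup.centralizer (A : Set G)) (Cfsg.pCoreOf p L) :=
      Subgroup.mul_mem _ (Subgroup.mul_mem _ (Subgroup.mul_mem _ hgK htK) (Subgroup.inv_mem _ hgK))
        (Subgroup.inv_mem _ htK)
    have h4 := hPKT (Subgroup.mem_inf.mpr ⟨h2, h3⟩)
    have h5 := Subgroup.mul_mem _ h4 ht
    have e : g * t * g⁻¹ * t⁻¹ * t = g * t * g⁻¹ := by group
    rw [e] at h5
    exact h5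
  refine hYT.trans (hTP.trans ?_)
  apply le_pCoreOf ((pCoreOf_le p _).trans hKL) (pCoreOf_isPGroup p _)
  exact hLK.trans (normalizer_le_normalizer_pCoreOf p _)

end Cfsg.Agent.S2864
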