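import Mathlib
import Cfsg.Statements.S2872
import Cfsg.Agent.Lib.helper17.TransferTwo4

set_option autoImplicit false
open Cfsg

namespace Cfsg.Agent.S2872

open Cfsg.Agent.Lib.helper17

theorem result {G : Type*} [Group G] [Finite G] (S : Sylow 2 G) : Cfsg.pResidual 2 G ≠ ⊤ ∨ Cfsg.omegaOne 2 ((S : Subgroup G) ⊓ Subgroup.centralizer ((S : Subgroup G) : Set G)) ≤ (frattini ↥(S : Subgroup G)).map (S : Subgroup G).subtype ∨ ∃ g ∈ Subgroup.normalizer ((S : Subgroup G) : Set G), ∃ z ∈ Cfsg.omegaOne 2 ((S : Subgroup G) ⊓ Subgroup.centralizer ((S : Subgroup G) : Set G)), g * z * g⁻¹ ≠ z := by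
  by_contra hcon
  push Not at hcon
  obtain ⟨hres, hnotle, hcent⟩ := hcon
  -- a generator outside the Frattini subgroup
  have hex : ∃ z : G, z ∈ (S : Subgroup G) ⊓ Subgroup.centralizer ((S : Subgroup G) : Set G) ∧ z ^ 2 = 1 ∧
      z ∉ (frattini ↥(S : Subgroup G)).map (S : Subgroup G).subtype := by
    by_contra h
    push Not at h
    apply hnotle
    unfold Cfsg.omegaOne
    rw [Subgroup.closure_le]
    rintro x ⟨hx1, hx2⟩
    exact h x hx1 hx2
  obtain ⟨z, hz, hz2, hzF⟩ := hex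
  have hzS : z ∈ (S : Subgroup G) := (Subgroup.mem_inf.mp hz).1
  have hzc : ∀ s ∈ (S : Subgroup G), s * z = z * s :=
    fun s hs => (Subgroup.mem_centralizer_iff.mp (Subgroup.mem_inf.mp hz).2) s hs
  have hzΩ : z ∈ Cfsg.omegaOne 2 ((S : Subgroup G) ⊓ Subgroup.centralizer ((S : Subgroup G) : Set G)) :=
    Subgroup.subset_closure ⟨hz, hz2⟩
  have hN : ∀ g ∈ Subgroup.normalizer ((S : Subgroup G) : Set G), g * z * g⁻¹ = z :=
    fun g hg => hcent g hg z hzΩ
  -- a maximal subgroup of `S` avoiding `z`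
  have hzF' : (⟨z, hzS⟩ : ↥(S : Subgroup G)) ∉ frattini ↥(S : Subgroup G) := by
    intro h
    exact hzF ⟨⟨z, hzS⟩, h, rfl⟩
  have hexM : ∃ M : Subgroup ↥(S : Subgroup G), IsCoatom M ∧ (⟨z, hzS⟩ : ↥(S : Subgroup G)) ∉ M := by
    by_contra h
    push Not at h
    apply hzF'
    unfold frattini Order.radical
    rw [Subgroup.mem_iInf]
    intro M
    rw [Subgroup.mem_iInf]
    intro hM
    exact h M hM
  obtain ⟨M, hM, hzM⟩ := hexM
  have hidx : M.index = 2 := index_of_isCoatom_of_isPGroup S.2 hM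
  have hϕ : signHomOfIndexTwo M hidx ⟨z, hzS⟩ = -1 := signHomOfIndexTwo_apply_of_not_mem M hidx hzM
  have htr := transfer_eq_neg_one S (signHomOfIndexTwo M hidx) z hzS hzc (by rw [← pow_two]; exact hz2) hN hϕ
  -- the residual lies in the kernel
  have hker : Cfsg.pResidual 2 G ≤ (MonoidHom.transfer (signHomOfIndexTwo M hidx)).ker := by
    unfold Cfsg.pResidual
    rw [Subgroup.closure_le]
    intro g hg
    have hg' : Nat.Coprime (orderOf g) 2 := hg
    rw [SetLike.mem_coe, MonoidHom.mem_ker]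
    have h1 : (MonoidHom.transfer (signHomOfIndexTwo M hidx) g) ^ orderOf g = 1 := by
      rw [← map_pow, pow_orderOf_eq_one, map_one]
    have h2 : (MonoidHom.transfer (signHomOfIndexTwo M hidx) g) ^ 2 = 1 := by
      rw [pow_two]; exact Int.units_mul_self _
    have h3 := orderOf_dvd_of_pow_eq_one h1
    have h4 := orderOf_dvd_of_pow_eq_one h2
    have h5 : orderOf (MonoidHom.transfer (signHomOfIndexTwo M hidx) g) ∣ 1 := by
      have := Nat.dvd_gcd h3 h4
      rwa [hg'.gcd_eq_one] at this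
    exact orderOf_eq_one_iff.mp (Nat.dvd_one.mp h5)
  have : z ∈ (MonoidHom.transfer (signHomOfIndexTwo M hidx)).ker := by
    apply hker
    rw [hres]
    exact Subgroup.mem_top z
  rw [MonoidHom.mem_ker, htr] at this
  exact absurd this (by decide)

end Cfsg.Agent.S2872
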