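import Mathlib
import Cfsg.Statements.S2873
import Cfsg.Agent.Lib.helper17.Cores
import Cfsg.Agent.Lib.helper17.DihQ

set_option autoImplicit false
open Cfsg

namespace Cfsg.Agent.S2873

open Cfsg.Agent.Lib.helper17 in
/-- Let G be a finite group and r an odd prime such that G ⧸ O₂(G) is dihedral of order 2r, and let R be a Sylow r-subgroup of G with C_{O₂(G)}(R) = 1. Then N_G(R) is dihedral of order 2r; for any involution a of N_G(R), every involution of G outside O₂(G) is conjugate to a; and |C_{O₂(G)}(a)|² = |O₂(G)|. -/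
theorem result {G : Type*} [Group G] [Finite G] {r : ℕ} [Fact r.Prime] (hr : r ≠ 2) [hN : (Cfsg.pCore 2 G).Normal] (hquot : Nonempty (G ⧸ Cfsg.pCore 2 G ≃* DihedralGroup r)) (R : Sylow r G) (hC : Cfsg.pCore 2 G ⊓ Subgroup.centralizer ((R : Subgroup G) : Set G) = ⊥) : Nonempty (↥(Subgroup.normalizer ((R : Subgroup G) : Set G)) ≃* DihedralGroup r) ∧ ∀ a : G, a ∈ Subgroup.normalizer ((R : Subgroup G) : Set G) → orderOf a = 2 → (∀ b : G, orderOf b = 2 → b ∉ Cfsg.pCore 2 G → ∃ g : G, g * a * g⁻¹ = b) ∧ Nat.card ↥(Cfsg.pCore 2 G ⊓ Subgroup.centralizer ({a} : Set G)) ^ 2 = Nat.card ↥(Cfsg.pCore 2 G) := by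
  obtain ⟨e⟩ := hquot
  have hset : DihSetting r (Cfsg.pCore 2 G) (R : Subgroup G)
      (e.toMonoidHom.comp (QuotientGroup.mk' (Cfsg.pCore 2 G))) := by
    refine ⟨?_, ?_, pCore_isPGroup 2 G, hC⟩
    · exact e.surjective.comp (QuotientGroup.mk'_surjective _)
    · ext x
      rw [MonoidHom.mem_ker, MonoidHom.comp_apply]
      change e (QuotientGroup.mk' (Cfsg.pCore 2 G) x) = 1 ↔ _
      rw [map_eq_one_iff e e.injective, QuotientGroup.mk'_apply, QuotientGroup.eq_one_iff]
  refine ⟨hset.normalizer_equiv hr, fun a ha hao => ⟨fun b hbo hbQ => ?_, ?_⟩⟩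
  · exact hset.conj_invol hr ha hao hbo hbQ
  · exact hset.card_centralizer_sq hr ha hao

end Cfsg.Agent.S2873
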