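import Mathlib
import Cfsg.Statements.S2880
import Cfsg.Agent.Lib.helper17.Extra5
import Cfsg.Agent.Lib.helper17.PRed

set_option autoImplicit false
open Cfsg

namespace Cfsg.Agent.S2880

open Cfsg.Agent.Lib.helper17
open scoped commutatorElement

theorem comm_mem_center_of_isExtraspecial {E : Type*} [Group E] {p : ℕ} (hE : Cfsg.IsExtraspecial p E) :
    ∀ a b : E, ⁅a, b⁆ ∈ Subgroup.center E := by
  intro a b
  rw [← hE.1.2.2, commutator_def]
  exact Subgroup.commutator_mem_commutator (Subgroup.mem_top a) (Subgroup.mem_top b)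

theorem result {E : Type*} [Group E] [Finite E] (m : ℕ) (hm : 1 ≤ m) (hE : Cfsg.IsExtraspecial 2 E) (hcard : Nat.card E = 2 ^ (2 * m + 1)) (hplus : ∃ A : Subgroup E, Cfsg.IsElementaryAbelian 2 A ∧ Nat.card A = 2 ^ (m + 1)) : Nat.card {x : E // orderOf x = 4} = 2 ^ (2 * m) - 2 ^ m := by
  obtain ⟨A, hA, hcA⟩ := hplus
  rw [isElementaryAbelian_iff] at hA
  exact card_orderOf_four (comm_mem_center_of_isExtraspecial hE) hE.2 m hcard A hA.1
    (fun a ha => by have := hA.2 a ha; rwa [pow_two] at this) hcA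

end Cfsg.Agent.S2880
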