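import Mathlib
import Cfsg.Statements.S2881
import Cfsg.Agent.S2880

set_option autoImplicit false
open Cfsg

namespace Cfsg.Agent.S2881

open Cfsg.Agent.Lib.helper17
open scoped commutatorElement

/-- The action of the powers of an automorphism on the elements of a given order. -/
def orderAction {E : Type*} [Group E] (ω : E ≃* E) (n : ℕ) :
    MulAction (Subgroup.zpowers ω) {x : E // orderOf x = n} where
  smul g x := ⟨(g : E ≃* E) x.1, by rw [MulEquiv.orderOf_eq]; exact x.2⟩
  one_smul x := by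
    apply Subtype.ext
    rfl
  mul_smul g h x := by
    apply Subtype.ext
    rfl

theorem four_dvd_of_five_dvd (m : ℕ) (h : 5 ∣ 2 ^ m - 1) : 4 ∣ m := by
  have h1 : (2 : ZMod 5) ^ m = 1 := by
    have h2 : 1 ≤ 2 ^ m := Nat.one_le_two_pow
    have := (ZMod.natCast_eq_zero_iff _ 5).mpr h
    rw [Nat.cast_sub h2] at this
    push_cast at this
    exact sub_eq_zero.mp this
  have h2 : orderOf (2 : ZMod 5) = 4 := by
    have h3 : ¬ (2 : ZMod 5) ^ 2 ^ 1 = 1 := by decide
    have h4 : (2 : ZMod 5) ^ 2 ^ (1 + 1) = 1 := by decide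
    have := orderOf_eq_prime_pow (p := 2) h3 h4
    simpa using this
  rw [← h2]
  exact orderOf_dvd_of_pow_eq_one h1

theorem result {E : Type*} [Group E] [Finite E] (m : ℕ) (hm : 1 ≤ m) (hE : Cfsg.IsExtraspecial 2 E) (hcard : Nat.card E = 2 ^ (2 * m + 1)) (hplus : ∃ A : Subgroup E, Cfsg.IsElementaryAbelian 2 A ∧ Nat.card A = 2 ^ (m + 1)) (ω : E ≃* E) (hω : orderOf ω = 5) (hfix : ∀ x : E, ω x = x ↔ x ∈ Subgroup.center E) : 4 ∣ m := by
  have hcount := Cfsg.Agent.S2880.result m hm hE hcard hplus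
  have hZ := hE.2
  obtain ⟨z, hz, hz1, hzz, hall⟩ := exists_center_gen hZ
  let := orderAction ω 4
  have : Fact (Nat.Prime 5) := ⟨by norm_num⟩
  have hp : IsPGroup 5 (Subgroup.zpowers ω) := by
    apply IsPGroup.of_card (n := 1)
    rw [Nat.card_zpowers, hω, pow_one]
  have hmod := hp.card_modEq_card_fixedPoints {x : E // orderOf x = 4}
  have hfp : Nat.card (MulAction.fixedPoints (Subgroup.zpowers ω) {x : E // orderOf x = 4}) = 0 := by
    rw [Nat.card_eq_zero]
    left
    refine ⟨fun ⟨x, hx⟩ => ?_⟩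
    have h1 := hx ⟨ω, Subgroup.mem_zpowers ω⟩
    have h2 : ω x.1 = x.1 := congrArg Subtype.val h1
    rw [hfix] at h2
    have h4 := x.2
    rcases hall _ h2 with h3 | h3
    · rw [h3, orderOf_one] at h4
      norm_num at h4
    · have : orderOf x.1 ∣ 2 := orderOf_dvd_of_pow_eq_one (by rw [h3, pow_two, hzz])
      rw [h4] at this
      norm_num at this
  rw [hfp, hcount] at hmod
  have h5 : 5 ∣ 2 ^ (2 * m) - 2 ^ m := (Nat.modEq_zero_iff_dvd).mp hmod
  have e : 2 ^ (2 * m) - 2 ^ m = 2 ^ m * (2 ^ m - 1) := by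
    rw [Nat.mul_sub, mul_one, two_mul, pow_add]
  rw [e] at h5
  have hcop : Nat.Coprime 5 (2 ^ m) := by
    apply Nat.Coprime.pow_right
    norm_num
  exact four_dvd_of_five_dvd m (hcop.dvd_of_dvd_mul_left h5)

end Cfsg.Agent.S2881
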