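import Cfsg.Statements.S2882
import Cfsg.Agent.Lib.helper4.FusM24

set_option autoImplicit false
open Cfsg

namespace Cfsg.Agent.S2882

/-- In the Mathieu group of degree 24 (realised as the automorphism group of the extended binary Golay code) every Sylow 2-subgroup is self-normalizing. -/
theorem result (S : Sylow 2 ↥Cfsg.M24) : Subgroup.normalizer ((S : Subgroup ↥Cfsg.M24) : Set ↥Cfsg.M24) = (S : Subgroup ↥Cfsg.M24) := by
  haveI : Fact (Nat.Prime 2) := ⟨Nat.prime_two⟩
  exact Cfsg.Agent.Lib.helper4.sylow_normalizer_eq_of_cert_sub Cfsg.M24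
    (Cfsg.Agent.Lib.helper4.tgrp Cfsg.Agent.Lib.helper4.fusG24) 2
    Cfsg.Agent.Lib.helper4.fusP24_le
    (Cfsg.Agent.Lib.helper4.tgrp_isPGroup Cfsg.Agent.Lib.helper4.fusPc24)
    Cfsg.Agent.Lib.helper4.fusNorm24 S

end Cfsg.Agent.S2882
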