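import Cfsg.Statements.S3023
import Cfsg.Agent.S2896
import Cfsg.Agent.S2923
import Cfsg.Agent.Lib.Helper10.SylowSubnormal

set_option autoImplicit false
open Cfsg

namespace Cfsg.Agent.S3023

open Cfsg.Agent.S2922 Cfsg.Agent.S2896

section Aux

variable {G : Type*} [Group G] [Finite G] {p : ℕ} [Fact p.Prime]

/-- In a group of parabolic characteristic `p`, `C_G(z)` has characteristic `p` for `1 ≠ z ∈ Z(S)`. -/
theorem charP_centralizer_of_parabolic (hG : Cfsg.IsOfParabolicCharacteristic p G) (S : Sylow p G)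
    (z : G) (hz1 : z ≠ 1) (hzS : z ∈ (S : Subgroup G))
    (hzS' : ∀ s ∈ (S : Subgroup G), s * z = z * s) :
    Subgroup.centralizer (Cfsg.pCore p ↥(Subgroup.centralizer ({z} : Set G)) :
      Set ↥(Subgroup.centralizer ({z} : Set G))) ≤ Cfsg.pCore p ↥(Subgroup.centralizer ({z} : Set G)) := by
  have hRp : IsPGroup p (Subgroup.zpowers z) := S.2.to_le (by rw [Subgroup.zpowers_le]; exact hzS)
  have hR1 : Subgroup.zpowers z ≠ ⊥ := by
    rw [Ne, Subgroup.zpowers_eq_bot]; exact hz1
  have hcz : Subgroup.centralizer ((Subgroup.zpowers z : Subgroup G) : Set G) =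
      Subgroup.centralizer ({z} : Set G) := by
    ext x
    rw [Subgroup.mem_centralizer_iff, Subgroup.mem_centralizer_iff]
    constructor
    · intro h y hy
      rw [Set.mem_singleton_iff] at hy
      rw [hy]; exact h z (Subgroup.mem_zpowers z)
    · intro h y hy
      obtain ⟨n, rfl⟩ := Subgroup.mem_zpowers_iff.1 hy
      have : Commute z x := h z rfl
      exact (this.zpow_left n).eq
  have hSN : (S : Subgroup G) ≤ Subgroup.normalizer ((Subgroup.zpowers z : Subgroup G) : Set G) := by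
    refine le_trans ?_ (Subgroup.centralizer_le_normalizer _)
    rw [hcz]
    intro s hs
    rw [Subgroup.mem_centralizer_iff]
    intro y hy
    rw [Set.mem_singleton_iff] at hy
    rw [hy]; exact (hzS' s hs).symm
  have h1 := hG (Subgroup.zpowers z) hRp hR1 ⟨S, hSN⟩
  apply charP_of_normal_in h1
  · rw [← hcz]; exact Subgroup.centralizer_le_normalizer _
  · rw [← hcz]; exact Cfsg.Agent.S1246.normalizer_le_normalizer_centralizer' _

/-- characteristic `p` of `C_G(z)` passes to `C_{G₁}(z)` for subnormal `G₁` -/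
theorem charP_centralizer_subnormal (G₁ : Subgroup G) (hsn : G₁.IsSubnormal) (z : ↥G₁)
    (hz : Subgroup.centralizer (Cfsg.pCore p ↥(Subgroup.centralizer ({(z : G)} : Set G)) :
      Set ↥(Subgroup.centralizer ({(z : G)} : Set G))) ≤
      Cfsg.pCore p ↥(Subgroup.centralizer ({(z : G)} : Set G))) :
    Subgroup.centralizer (Cfsg.pCore p ↥(Subgroup.centralizer ({z} : Set ↥G₁)) :
      Set ↥(Subgroup.centralizer ({z} : Set ↥G₁))) ≤
      Cfsg.pCore p ↥(Subgroup.centralizer ({z} : Set ↥G₁)) := by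
  set C : Subgroup G := Subgroup.centralizer ({(z : G)} : Set G) with hC
  have hY : (G₁.subgroupOf C).IsSubnormal := hsn.subgroupOf
  have h1 := Cfsg.Agent.S2923.result hz (G₁.subgroupOf C) hY
  let e : ↥(G₁.subgroupOf C) ≃* ↥(Subgroup.centralizer ({z} : Set ↥G₁)) :=
    { toFun := fun y => ⟨⟨((y : ↥C) : G), Subgroup.mem_subgroupOf.1 y.2⟩, by
        rw [Subgroup.mem_centralizer_iff]
        intro w hw
        rw [Set.mem_singleton_iff] at hw
        rw [hw]
        apply Subtype.ext
        have := (Subgroup.mem_centralizer_iff.1 (y : ↥C).2) (z : G) rfl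
        simpa using this⟩
      invFun := fun w => ⟨⟨((w : ↥G₁) : G), by
        rw [hC, Subgroup.mem_centralizer_iff]
        intro x hx
        rw [Set.mem_singleton_iff] at hx
        rw [hx]
        have := (Subgroup.mem_centralizer_iff.1 w.2) z rfl
        exact congrArg Subtype.val this⟩, by
        rw [Subgroup.mem_subgroupOf]
        exact (w : ↥G₁).2⟩
      left_inv := fun y => rfl
      right_inv := fun w => rfl
      map_mul' := fun a b => rfl }
  exact Cfsg.Agent.Lib.Helper18.charP_of_mulEquiv e h1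

/-- the common core of the two statements on parabolic characteristic `p` of subnormal subgroups -/
theorem parabolic_of_subnormal (hG : Cfsg.IsOfParabolicCharacteristic p G) (S : Sylow p G)
    (G₁ : Subgroup G) (hsn : G₁.IsSubnormal)
    (hZ : ∀ z : G, z ∈ (S : Subgroup G) ⊓ G₁ → (∀ x ∈ (S : Subgroup G) ⊓ G₁, x * z = z * x) →
      z ^ p = 1 → z ∈ Subgroup.centralizer ((S : Subgroup G) : Set G)) :
    Cfsg.IsOfParabolicCharacteristic p ↥G₁ := by
  have hp : p.Prime := Fact.out
  intro R hRp hR1 ⟨T, hTN⟩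
  -- the Sylow subgroup S ∩ G₁ of G₁
  have hP1 : IsPGroup p ↥((S : Subgroup G).subgroupOf G₁) := S.2.comap_subtype
  have hidx : ¬ p ∣ ((S : Subgroup G).subgroupOf G₁).index := by
    have := Cfsg.Agent.Lib.Helper10.not_dvd_relIndex_inf_of_isSubnormal p (S : Subgroup G)
      S.not_dvd_index G₁ hsn
    rwa [Subgroup.inf_relIndex_right] at this
  set S₁ : Sylow p ↥G₁ := hP1.toSylow hidx with hS₁
  have hS₁mem : ∀ x : ↥G₁, x ∈ (S₁ : Subgroup ↥G₁) ↔ (x : G) ∈ (S : Subgroup G) := by
    intro x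
    rw [hS₁, IsPGroup.toSylow_coe, Subgroup.mem_subgroupOf]
  obtain ⟨g, hg0⟩ := MulAction.exists_smul_eq ↥G₁ S₁ T
  have hg : ∀ x : ↥G₁, x ∈ (T : Subgroup ↥G₁) ↔ g⁻¹ * x * g ∈ (S₁ : Subgroup ↥G₁) := by
    intro x
    rw [← hg0, Sylow.coe_subgroup_smul, Subgroup.mem_pointwise_smul_iff_inv_smul_mem]
    simp [MulAut.smul_def]
  have hRT : R ≤ (T : Subgroup ↥G₁) := by
    have h1 : IsPGroup p (R ⊔ (T : Subgroup ↥G₁) : Subgroup ↥G₁) :=
      hRp.to_sup_of_normal_left' T.2 hTN
    have := T.is_maximal' h1 le_sup_right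
    rw [← this]; exact le_sup_left
  have hne : R ⊓ Subgroup.centralizer ((T : Subgroup ↥G₁) : Set ↥G₁) ≠ ⊥ :=
    Cfsg.Agent.Lib.helper17.inf_centralizer_ne_bot_of_pgroups T.2 hRp hR1 hTN
  obtain ⟨z', hz'mem, hz'ord⟩ := Cfsg.Agent.Lib.helper17.exists_orderOf_eq_prime_of_ne_bot
    (hRp.to_le inf_le_left) hne
  obtain ⟨hz'R, hz'C⟩ := Subgroup.mem_inf.1 hz'mem
  have hz'T : ∀ t ∈ (T : Subgroup ↥G₁), t * z' = z' * t := fun t ht =>
    (Subgroup.mem_centralizer_iff.1 hz'C) t ht
  set z : ↥G₁ := g⁻¹ * z' * g with hz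
  have hzS : z ∈ (S₁ : Subgroup ↥G₁) := (hg z').1 (hRT hz'R)
  have hzc : ∀ s ∈ (S₁ : Subgroup ↥G₁), s * z = z * s := by
    intro s hs
    have hsT : g * s * g⁻¹ ∈ (T : Subgroup ↥G₁) := by
      rw [hg]
      have e : g⁻¹ * (g * s * g⁻¹) * g = s := by group
      rw [e]; exact hs
    have := hz'T _ hsT
    calc s * z = g⁻¹ * ((g * s * g⁻¹) * z') * g := by rw [hz]; group
      _ = g⁻¹ * (z' * (g * s * g⁻¹)) * g := by rw [this]
      _ = z * s := by rw [hz]; group
  have hzord : orderOf z = p := by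
    have : z = (MulAut.conj g⁻¹) z' := by simp [hz]
    rw [this, MulEquiv.orderOf_eq]
    exact hz'ord
  have hz1 : z ≠ 1 := by
    intro h
    rw [h, orderOf_one] at hzord
    exact hp.one_lt.ne hzord
  -- facts in G
  have hzSG : (z : G) ∈ (S : Subgroup G) := (hS₁mem z).1 hzS
  have hzcentral : (z : G) ∈ Subgroup.centralizer ((S : Subgroup G) : Set G) := by
    apply hZ (z : G) (Subgroup.mem_inf.2 ⟨hzSG, z.2⟩)
    · intro x hx
      have hx1 : (⟨x, hx.2⟩ : ↥G₁) ∈ (S₁ : Subgroup ↥G₁) := (hS₁mem _).2 hx.1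
      have := hzc _ hx1
      exact congrArg Subtype.val this
    · have : z ^ p = 1 := by rw [← hzord]; exact pow_orderOf_eq_one z
      have := congrArg Subtype.val this
      simpa using this
  have hz1G : (z : G) ≠ 1 := by
    intro h
    apply hz1
    exact Subtype.ext h
  have hC := charP_centralizer_of_parabolic hG S (z : G) hz1G hzSG
    (fun s hs => (Subgroup.mem_centralizer_iff.1 hzcentral) s hs)
  have h1 := charP_centralizer_subnormal G₁ hsn z hC
  have h2 := charP_centralizer_conj g z h1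
  have e : g * z * g⁻¹ = z' := by rw [hz]; group
  rw [e] at h2
  exact normalizer_charP_of_center R hRp z' hz'R (fun x hx => hz'T x (hRT hx)) h2

end Aux


/-- Let p be a prime, G a finite group of parabolic characteristic p (every p-local subgroup containing a Sylow p-subgroup of G has characteristic p), S a Sylow p-subgroup of G and G₁ a subnormal subgroup of G. If the centre of S ∩ G₁ is nontrivial and contained in the centre of S, then G₁ has parabolic characteristic p. -/
theorem result {G : Type*} [Group G] [Finite G] {p : ℕ} [Fact p.Prime] (hG : Cfsg.IsOfParabolicCharacteristic p G) (S : Sylow p G) (G₁ : Subgroup G) (hsn : G₁.IsSubnormal) (hne : ((S : Subgroup G) ⊓ G₁) ⊓ Subgroup.centralizer (((S : Subgroup G) ⊓ G₁ : Subgroup G) : Set G) ≠ ⊥) (hle : ((S : Subgroup G) ⊓ G₁) ⊓ Subgroup.centralizer (((S : Subgroup G) ⊓ G₁ : Subgroup G) : Set G) ≤ (S : Subgroup G) ⊓ Subgroup.centralizer ((S : Subgroup G) : Set G)) : Cfsg.IsOfParabolicCharacteristic p ↥G₁ := by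
  apply parabolic_of_subnormal hG S G₁ hsn
  intro z hz hzc _
  have : z ∈ ((S : Subgroup G) ⊓ G₁) ⊓ Subgroup.centralizer (((S : Subgroup G) ⊓ G₁ : Subgroup G) : Set G) := by
    refine Subgroup.mem_inf.2 ⟨hz, ?_⟩
    rw [Subgroup.mem_centralizer_iff]
    intro x hx
    exact hzc x hx
  exact (Subgroup.mem_inf.1 (hle this)).2

end Cfsg.Agent.S3023
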