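import Cfsg.Statements.S2898
import Cfsg.Agent.S3023
import Cfsg.Agent.Lib.Helper1.Cores
import Cfsg.Agent.Lib.Helper1.Fitting

set_option autoImplicit false
open Cfsg

namespace Cfsg.Agent.S2898

section Aux

/-- a normal `p'`-subgroup of a group of characteristic `p` is trivial -/
theorem eq_bot_of_normal_coprime_of_charP {Y : Type*} [Group Y] [Finite Y] {p : ℕ} [Fact p.Prime]
    (hY : Subgroup.centralizer (Cfsg.pCore p Y : Set Y) ≤ Cfsg.pCore p Y)
    (N : Subgroup Y) [hNn : N.Normal] (hN : (Nat.card N).Coprime p) : N = ⊥ := by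
  have hOn : (Cfsg.pCore p Y).Normal := Cfsg.Agent.Lib.Helper18.pCore_normal_h18 p Y
  have hOp : IsPGroup p (Cfsg.pCore p Y) := Cfsg.Agent.Lib.Helper18.pCore_isPGroup p Y
  have hinf : N ⊓ Cfsg.pCore p Y = ⊥ := by
    apply disjoint_iff.1
    apply Subgroup.disjoint_of_coprime_natCard
    obtain ⟨k, hk⟩ := hOp.exists_card_eq
    rw [hk]
    exact Nat.Coprime.pow_right k hN
  rw [eq_bot_iff]
  intro n hn
  have hc : n ∈ Subgroup.centralizer (Cfsg.pCore p Y : Set Y) := by
    rw [Subgroup.mem_centralizer_iff]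
    intro x hx
    have h1 : n * x * n⁻¹ * x⁻¹ ∈ N ⊓ Cfsg.pCore p Y := by
      refine Subgroup.mem_inf.2 ⟨?_, ?_⟩
      · have : n * x * n⁻¹ * x⁻¹ = n * (x * n⁻¹ * x⁻¹) := by group
        rw [this]
        exact N.mul_mem hn (hNn.conj_mem _ (N.inv_mem hn) x)
      · exact (Cfsg.pCore p Y).mul_mem (hOn.conj_mem _ hx n) ((Cfsg.pCore p Y).inv_mem hx)
    rw [hinf, Subgroup.mem_bot] at h1
    have : n * x = (n * x * n⁻¹ * x⁻¹) * (x * n) := by group
    rw [this, h1, one_mul]
  have : n ∈ N ⊓ Cfsg.pCore p Y := Subgroup.mem_inf.2 ⟨hn, hY hc⟩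
  rwa [hinf] at this

/-- in a group of characteristic `p` inside `G`, a `p'`-subgroup of `G` that is normalized and
contained is trivial -/
theorem eq_bot_of_le_of_normal_coprime {G : Type*} [Group G] [Finite G] {p : ℕ} [Fact p.Prime]
    (L : Subgroup G) (hL : Subgroup.centralizer (Cfsg.pCore p ↥L : Set ↥L) ≤ Cfsg.pCore p ↥L)
    (K : Subgroup G) [hK : K.Normal] (hKp : (Nat.card K).Coprime p) (hKL : K ≤ L) : K = ⊥ := by
  have hn : (K.subgroupOf L).Normal := inferInstance
  have hc : (Nat.card (K.subgroupOf L)).Coprime p := by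
    have : Nat.card (K.subgroupOf L) = Nat.card K :=
      Nat.card_congr (Subgroup.subgroupOfEquivOfLe hKL).toEquiv
    rw [this]; exact hKp
  have h := eq_bot_of_normal_coprime_of_charP hL (K.subgroupOf L) hc
  rw [Subgroup.subgroupOf_eq_bot] at h
  rw [eq_bot_iff]
  intro k hk
  have : k ∈ K ⊓ L := Subgroup.mem_inf.2 ⟨hk, hKL hk⟩
  rw [disjoint_iff.1 h] at this
  exact this

end Aux


/-- Let G be a finite group of even order with parabolic characteristic 2. If the centre of G ⧸ O(G) is trivial, then O(G) = 1. -/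
theorem result {G : Type*} [Group G] [Finite G] (h2 : 2 ∣ Nat.card G) (hG : Cfsg.IsOfParabolicCharacteristic 2 G) [hN : (Cfsg.oddCore G).Normal] (hZ : Subgroup.center (G ⧸ Cfsg.oddCore G) = ⊥) : Cfsg.oddCore G = ⊥ := by
  haveI : Fact (Nat.Prime 2) := ⟨Nat.prime_two⟩
  set K : Subgroup G := Cfsg.oddCore G with hK
  have hKodd : (Nat.card K).Coprime 2 := Cfsg.Agent.Lib.Helper1.pPrimeCore_card_coprime 2
  obtain ⟨S⟩ : Nonempty (Sylow 2 G) := inferInstance
  have hS1 : (S : Subgroup G) ≠ ⊥ := by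
    intro h
    have := S.not_dvd_index
    rw [h, Subgroup.index_bot] at this
    exact this h2
  -- an involution in the centre of S
  have hne : (S : Subgroup G) ⊓ Subgroup.centralizer ((S : Subgroup G) : Set G) ≠ ⊥ :=
    Cfsg.Agent.Lib.helper17.inf_centralizer_ne_bot_of_pgroups S.2 S.2 hS1 Subgroup.le_normalizer
  obtain ⟨z, hzmem, hzord⟩ := Cfsg.Agent.Lib.helper17.exists_orderOf_eq_prime_of_ne_bot
    (S.2.to_le inf_le_left) hne
  obtain ⟨hzS, hzC⟩ := Subgroup.mem_inf.1 hzmem
  have hz1 : z ≠ 1 := by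
    intro h
    rw [h, orderOf_one] at hzord
    omega
  have hz2 : z * z = 1 := by
    have := pow_orderOf_eq_one z
    rwa [hzord, pow_two] at this
  have hzinv : z⁻¹ = z := inv_eq_of_mul_eq_one_right hz2
  have hCz := Cfsg.Agent.S3023.charP_centralizer_of_parabolic hG S z hz1 hzS
    (fun s hs => (Subgroup.mem_centralizer_iff.1 hzC) s hs)
  -- C_K(z) = 1
  have hfix : ∀ k ∈ K, z * k * z⁻¹ = k → k = 1 := by
    intro k hk hkz
    set Cz : Subgroup G := Subgroup.centralizer ({z} : Set G) with hCzdef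
    have hn : (K.subgroupOf Cz).Normal := inferInstance
    have hc : (Nat.card (K.subgroupOf Cz)).Coprime 2 := by
      have hdvd : Nat.card (K.subgroupOf Cz) ∣ Nat.card K := by
        have e : ↥(K.subgroupOf Cz) ≃* ↥(K ⊓ Cz) := by
          rw [← Subgroup.inf_subgroupOf_right]
          exact Subgroup.subgroupOfEquivOfLe inf_le_right
        rw [Nat.card_congr e.toEquiv]
        exact Subgroup.card_dvd_of_le inf_le_left
      exact Nat.Coprime.coprime_dvd_left hdvd hKodd
    have h := eq_bot_of_normal_coprime_of_charP hCz (K.subgroupOf Cz) hc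
    have hkC : k ∈ Cz := by
      rw [hCzdef, Subgroup.mem_centralizer_iff]
      intro y hy
      rw [Set.mem_singleton_iff] at hy
      rw [hy]
      calc z * k = (z * k * z⁻¹) * z := by group
        _ = k * z := by rw [hkz]
    have : (⟨k, hkC⟩ : ↥Cz) ∈ K.subgroupOf Cz := Subgroup.mem_subgroupOf.2 hk
    rw [h, Subgroup.mem_bot] at this
    exact congrArg Subtype.val this
  -- z inverts K
  have hinvK : ∀ k ∈ K, z * k * z⁻¹ = k⁻¹ := by
    let φ : ↥K ≃* ↥K := MulAut.conjNormal z
    have hφ : ∀ k : ↥K, ((φ k : ↥K) : G) = z * k * z⁻¹ := fun k => rfl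
    have hfpf : MonoidHom.FixedPointFree φ := by
      intro k hk
      apply Subtype.ext
      apply hfix _ k.2
      rw [← hφ, hk]
    have hinvol : Function.Involutive φ := by
      intro k
      apply Subtype.ext
      rw [hφ, hφ, hzinv]
      calc z * (z * ↑k * z) * z = (z * z) * ↑k * (z * z) := by group
        _ = k := by rw [hz2, one_mul, mul_one]
    have := hfpf.coe_eq_inv_of_involutive hinvol
    intro k hk
    have h1 := congrFun this ⟨k, hk⟩
    have h2 := congrArg Subtype.val h1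
    rw [hφ] at h2
    simpa using h2
  -- the centralizer of K
  set C : Subgroup G := Subgroup.centralizer (K : Set G) with hC
  have hCn : C.Normal := Subgroup.normal_centralizer
  by_cases hR : (S : Subgroup G) ⊓ C = ⊥
  · -- C has odd order, so C ≤ K
    have hCodd : (Nat.card C).Coprime 2 := by
      rw [Nat.coprime_comm, Nat.coprime_two_left, ← Nat.not_even_iff_odd, even_iff_two_dvd]
      intro hdvd
      obtain ⟨c, hc⟩ := exists_prime_orderOf_dvd_card' 2 hdvd
      have hcp : IsPGroup 2 (Subgroup.zpowers (c : G)) := by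
        apply IsPGroup.of_card (n := 1)
        rw [Nat.card_zpowers, Subgroup.orderOf_coe, hc, pow_one]
      obtain ⟨T, hT⟩ := hcp.exists_le_sylow
      obtain ⟨g, hg⟩ := MulAction.exists_smul_eq G T S
      have hcT : (c : G) ∈ (T : Subgroup G) := hT (Subgroup.mem_zpowers _)
      have hgc : g * (c : G) * g⁻¹ ∈ (S : Subgroup G) := by
        rw [← hg, Sylow.coe_subgroup_smul, Subgroup.mem_pointwise_smul_iff_inv_smul_mem]
        simp only [MulAut.smul_def, MulAut.conj_inv_apply]
        have : g⁻¹ * (g * (c : G) * g⁻¹) * g = c := by group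
        rw [this]; exact hcT
      have hgcC : g * (c : G) * g⁻¹ ∈ C := hCn.conj_mem _ c.2 g
      have : g * (c : G) * g⁻¹ ∈ (S : Subgroup G) ⊓ C := Subgroup.mem_inf.2 ⟨hgc, hgcC⟩
      rw [hR, Subgroup.mem_bot] at this
      have hc1 : (c : G) = 1 := by
        have : (c : G) = g⁻¹ * (g * (c : G) * g⁻¹) * g := by group
        rw [this, ‹g * (c : G) * g⁻¹ = 1›]; group
      have : c = 1 := Subtype.ext hc1
      rw [this, orderOf_one] at hc
      omega
    have hCK : C ≤ K := Cfsg.Agent.Lib.Helper1.le_pPrimeCore hCn hCodd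
    -- the image of z is central in G / K
    have hzcent : (QuotientGroup.mk z : G ⧸ K) ∈ Subgroup.center (G ⧸ K) := by
      rw [Subgroup.mem_center_iff]
      intro q
      obtain ⟨g, rfl⟩ := QuotientGroup.mk_surjective q
      rw [← QuotientGroup.mk_mul, ← QuotientGroup.mk_mul, QuotientGroup.eq]
      apply hCK
      rw [hC, Subgroup.mem_centralizer_iff]
      intro k hk
      -- (g z)⁻¹ (z g) = z⁻¹ g⁻¹ z g
      have hk1 : g * k * g⁻¹ ∈ K := hN.conj_mem _ hk g
      have e1 := hinvK _ hk1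
      have e2 := hinvK _ (K.inv_mem hk)
      rw [inv_inv] at e2
      have e2' : z⁻¹ * k⁻¹ * z = k := by
        have : z⁻¹ * k⁻¹ * z = z * k⁻¹ * z⁻¹ := by rw [hzinv]
        rw [this, e2]
      symm
      calc (g * z)⁻¹ * (z * g) * k
          = z⁻¹ * (g⁻¹ * (z * (g * k * g⁻¹) * z⁻¹) * g) * z * ((g * z)⁻¹ * (z * g)) := by group
        _ = z⁻¹ * (g⁻¹ * (g * k * g⁻¹)⁻¹ * g) * z * ((g * z)⁻¹ * (z * g)) := by rw [e1]
        _ = (z⁻¹ * k⁻¹ * z) * ((g * z)⁻¹ * (z * g)) := by group
        _ = k * ((g * z)⁻¹ * (z * g)) := by rw [e2']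
    rw [hZ, Subgroup.mem_bot, QuotientGroup.eq_one_iff] at hzcent
    -- z ∈ K of odd order: contradiction
    exfalso
    have hdvd : orderOf z ∣ Nat.card K := by
      have := orderOf_dvd_natCard (⟨z, hzcent⟩ : ↥K)
      rwa [Subgroup.orderOf_mk] at this
    rw [hzord] at hdvd
    have := Nat.Coprime.eq_one_of_dvd hKodd.symm hdvd
    omega
  · -- R = S ∩ C ≠ 1: N_G(R) has characteristic 2 and contains K
    set R : Subgroup G := (S : Subgroup G) ⊓ C with hRdef
    have hRp : IsPGroup 2 ↥R := S.2.to_le inf_le_left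
    have hSN : (S : Subgroup G) ≤ Subgroup.normalizer (R : Set G) := by
      have h1 : (S : Subgroup G) ≤ Subgroup.normalizer ((S : Subgroup G) : Set G) := Subgroup.le_normalizer
      have h2 : (S : Subgroup G) ≤ Subgroup.normalizer (C : Set G) := by
        rw [Subgroup.normalizer_eq_top]; exact le_top
      exact (le_inf h1 h2).trans Subgroup.inf_normalizer_le_normalizer_inf
    have hL := hG R hRp hR ⟨S, hSN⟩
    have hKL : K ≤ Subgroup.normalizer (R : Set G) := by
      refine le_trans ?_ (Subgroup.centralizer_le_normalizer _)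
      intro k hk
      rw [Subgroup.mem_centralizer_iff]
      intro r hr
      have hrC : r ∈ C := (Subgroup.mem_inf.1 hr).2
      exact ((Subgroup.mem_centralizer_iff.1 hrC) k hk).symm
    exact eq_bot_of_le_of_normal_coprime _ hL K hKodd hKL

end Cfsg.Agent.S2898
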