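import Mathlib
import Cfsg.Statements.S2907
import Cfsg.Agent.Lib.helper17.Residual

set_option autoImplicit false
open Cfsg

namespace Cfsg.Agent.S2907

open Cfsg.Agent.Lib.helper17
open scoped commutatorElement

/-- In a group whose commutators are central, `y ↦ [x, y]` is a homomorphism. -/
def commHom {X : Type*} [Group X] (hc : ∀ a b : X, ⁅a, b⁆ ∈ Subgroup.center X) (x : X) : X →* X where
  toFun y := ⁅x, y⁆
  map_one' := by simp
  map_mul' y z := by
    have h1 : ⁅x, y * z⁆ = ⁅x, y⁆ * (y * ⁅x, z⁆ * y⁻¹) := by
      simp only [commutatorElement_def]; group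
    have h2 : y * ⁅x, z⁆ = ⁅x, z⁆ * y := (Subgroup.mem_center_iff.mp (hc x z) y)
    rw [h1, h2]
    group

theorem commHom_apply {X : Type*} [Group X] (hc : ∀ a b : X, ⁅a, b⁆ ∈ Subgroup.center X) (x y : X) :
    commHom hc x y = ⁅x, y⁆ := rfl

theorem result {X : Type*} [Group X] [Finite X] {p : ℕ} [Fact p.Prime] (hX : Cfsg.IsSemiExtraspecial p X) (x : X) (hx : x ∉ Subgroup.center X) : (Subgroup.centralizer ({x} : Set X)).index = Nat.card ↥(Subgroup.center X) ∧ {z : X | ∃ y : X, z = x * y * x⁻¹ * y⁻¹} = (Subgroup.center X : Set X) := by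
  obtain ⟨⟨hXp, hfr, hcomm⟩, hY⟩ := hX
  have hc : ∀ a b : X, ⁅a, b⁆ ∈ Subgroup.center X := by
    intro a b
    rw [← hcomm, commutator_def]
    exact Subgroup.commutator_mem_commutator (Subgroup.mem_top a) (Subgroup.mem_top b)
  have hker : (commHom hc x).ker = Subgroup.centralizer ({x} : Set X) := by
    ext y
    rw [MonoidHom.mem_ker, commHom_apply, commutatorElement_eq_one_iff_mul_comm,
      Subgroup.mem_centralizer_iff]
    constructor
    · intro h z hz
      rw [Set.mem_singleton_iff] at hz
      rw [hz]; exact h
    · intro h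
      exact h x rfl
  have hrange_le : (commHom hc x).range ≤ Subgroup.center X := by
    rintro _ ⟨y, rfl⟩
    exact hc x y
  have hrange : (commHom hc x).range = Subgroup.center X := by
    by_contra hne
    have hne' : (commHom hc x).range.subgroupOf (Subgroup.center X) ≠ ⊤ := by
      intro h
      apply hne
      apply le_antisymm hrange_le
      rw [Subgroup.subgroupOf_eq_top] at h
      exact h
    obtain ⟨M, hM, hKM⟩ := exists_coatom_ge hne'
    have hMle : M.map (Subgroup.center X).subtype ≤ Subgroup.center X := Subgroup.map_subtype_le _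
    have hMeq : (M.map (Subgroup.center X).subtype).subgroupOf (Subgroup.center X) = M := by
      ext z
      rw [Subgroup.mem_subgroupOf]
      constructor
      · rintro ⟨w, hw, hwz⟩
        have : w = z := Subtype.ext hwz
        rwa [← this]
      · intro hz
        exact ⟨z, hz, rfl⟩
    obtain ⟨hYn, hEx⟩ := hY (M.map (Subgroup.center X).subtype) hMle (by rw [hMeq]; exact hM)
    obtain ⟨-, hcard⟩ := hEx
    have hrY : (commHom hc x).range ≤ M.map (Subgroup.center X).subtype := by
      intro z hz
      have hzc := hrange_le hz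
      have : (⟨z, hzc⟩ : ↥(Subgroup.center X)) ∈ (commHom hc x).range.subgroupOf (Subgroup.center X) := by
        rw [Subgroup.mem_subgroupOf]; exact hz
      exact ⟨⟨z, hzc⟩, hKM this, rfl⟩
    -- the image of the centre
    have himg : (Subgroup.center X).map (QuotientGroup.mk' (M.map (Subgroup.center X).subtype)) ≤
        Subgroup.center (X ⧸ M.map (Subgroup.center X).subtype) := by
      rintro _ ⟨z, hz, rfl⟩
      rw [Subgroup.mem_center_iff]
      intro w
      obtain ⟨w, rfl⟩ := QuotientGroup.mk'_surjective _ w
      rw [← map_mul, ← map_mul, Subgroup.mem_center_iff.mp hz w]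
    have himg_ne : ((Subgroup.center X).map (QuotientGroup.mk' (M.map (Subgroup.center X).subtype))).subgroupOf
        (Subgroup.center (X ⧸ M.map (Subgroup.center X).subtype)) ≠ ⊥ := by
      intro hbot
      apply hM.1
      rw [eq_top_iff]
      intro z _
      have h1 : QuotientGroup.mk' (M.map (Subgroup.center X).subtype) (z : X) ∈
          (Subgroup.center X).map (QuotientGroup.mk' (M.map (Subgroup.center X).subtype)) := ⟨z, z.2, rfl⟩
      have h2 : (⟨_, himg h1⟩ : ↥(Subgroup.center (X ⧸ M.map (Subgroup.center X).subtype))) ∈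
          ((Subgroup.center X).map (QuotientGroup.mk' (M.map (Subgroup.center X).subtype))).subgroupOf
            (Subgroup.center (X ⧸ M.map (Subgroup.center X).subtype)) := by
        rw [Subgroup.mem_subgroupOf]; exact h1
      rw [hbot, Subgroup.mem_bot] at h2
      have h3 := congrArg Subtype.val h2
      simp only [Subgroup.coe_one] at h3
      have h4 : (z : X) ∈ M.map (Subgroup.center X).subtype := by
        rw [← QuotientGroup.eq_one_iff]
        exact h3
      obtain ⟨w, hw, hwz⟩ := h4
      have : w = z := Subtype.ext hwz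
      rwa [← this]
    have hpr : Fact (Nat.card ↥(Subgroup.center (X ⧸ M.map (Subgroup.center X).subtype))).Prime := by
      rw [hcard]; infer_instance
    have htop := (Subgroup.eq_bot_or_eq_top_of_prime_card
      (((Subgroup.center X).map (QuotientGroup.mk' (M.map (Subgroup.center X).subtype))).subgroupOf
        (Subgroup.center (X ⧸ M.map (Subgroup.center X).subtype)))).resolve_left himg_ne
    rw [Subgroup.subgroupOf_eq_top] at htop
    -- `x` is central modulo `Y`
    have hxc : QuotientGroup.mk' (M.map (Subgroup.center X).subtype) x ∈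
        Subgroup.center (X ⧸ M.map (Subgroup.center X).subtype) := by
      rw [Subgroup.mem_center_iff]
      intro w
      obtain ⟨w, rfl⟩ := QuotientGroup.mk'_surjective _ w
      have h1 : ⁅x, w⁆ ∈ M.map (Subgroup.center X).subtype := hrY ⟨w, rfl⟩
      have h2 : QuotientGroup.mk' (M.map (Subgroup.center X).subtype) ⁅x, w⁆ = 1 :=
        (QuotientGroup.eq_one_iff _).mpr h1
      rw [map_commutatorElement, commutatorElement_eq_one_iff_mul_comm] at h2
      exact h2.symm
    obtain ⟨z, hz, hzx⟩ := htop hxc
    apply hx
    have h1 : z⁻¹ * x ∈ M.map (Subgroup.center X).subtype := by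
      rw [← QuotientGroup.eq]
      exact hzx
    have h2 := (Subgroup.center X).mul_mem hz (hMle h1)
    simpa using h2
  constructor
  · rw [← hker, Subgroup.index_ker, hrange]
  · ext z
    constructor
    · rintro ⟨y, rfl⟩
      have := hc x y
      rw [commutatorElement_def] at this
      exact this
    · intro hz
      have hz' : z ∈ (commHom hc x).range := by rw [hrange]; exact hz
      obtain ⟨y, hy⟩ := hz'
      refine ⟨y, ?_⟩
      rw [← hy, commHom_apply, commutatorElement_def]

end Cfsg.Agent.S2907
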