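import Cfsg.Statements.S2908
import Cfsg.Agent.S0027
import Cfsg.Agent.S0029
import Cfsg.Agent.Lib.Lead.Coprime
import Cfsg.Agent.Lib.Helper1.Frat

set_option autoImplicit false
open Cfsg

namespace Cfsg.Agent.S2908

open scoped commutatorElement

section Aux

variable {G : Type*} [Group G]

theorem comm_mem_of_normalizes {V : Subgroup G} {x b : G} (hx : x ∈ V)
    (hb : b ∈ Subgroup.normalizer (V : Set G)) : ⁅x, b⁆ ∈ V := by
  rw [commutatorElement_def]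
  have h1 : b * x⁻¹ * b⁻¹ ∈ V := (Subgroup.mem_normalizer_iff.1 hb x⁻¹).1 (V.inv_mem hx)
  have e : x * b * x⁻¹ * b⁻¹ = x * (b * x⁻¹ * b⁻¹) := by group
  rw [e]
  exact V.mul_mem hx h1

/-- the dual `A × B` lemma for an abelian `p`-group `V` -/
theorem abelian_case [Finite G] {p : ℕ} [Fact p.Prime] (V A B : Subgroup G)
    (hVc : ∀ x ∈ V, ∀ y ∈ V, x * y = y * x) (hV : IsPGroup p V) (hA : IsPGroup p A)
    (hB : ¬ p ∣ Nat.card B) (hnA : A ≤ Subgroup.normalizer (V : Set G))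
    (hnB : B ≤ Subgroup.normalizer (V : Set G)) (hAB : ∀ a ∈ A, ∀ b ∈ B, a * b = b * a)
    (hcomm : ⁅V, B⁆ ≤ ⁅V, A⁆) : ⁅V, B⁆ = ⊥ := by
  have hp : p.Prime := Fact.out
  have hWV : ⁅V, B⁆ ≤ V := Cfsg.Agent.Lib.Lead.commutator_le_left_of_le_normalizer V B hnB
  have hcop : (Nat.card B).Coprime (Nat.card V) := by
    obtain ⟨k, hk⟩ := IsPGroup.iff_card.1 hV
    rw [hk]
    exact Nat.Coprime.pow_right k ((Nat.Prime.coprime_iff_not_dvd hp).2 hB).symm
  have hVnil : Group.IsNilpotent ↥V := hV.isNilpotent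
  have h27 : ⁅⁅V, B⁆, B⁆ = ⁅V, B⁆ :=
    Cfsg.Agent.S0027.result B V hnB hcop (Or.inr inferInstance)
  -- key: [[V,A],B] ≤ [[V,B],A]
  have key : ⁅⁅V, A⁆, B⁆ ≤ ⁅⁅V, B⁆, A⁆ := by
    rw [Subgroup.commutator_le]
    intro x hx b hb
    have hbN := hnB hb
    suffices h : x ∈ V ∧ ⁅x, b⁆ ∈ ⁅⁅V, B⁆, A⁆ from h.2
    rw [Subgroup.commutator_def] at hx
    induction hx using Subgroup.closure_induction with
    | mem x hx =>
      obtain ⟨v, hv, a, ha, rfl⟩ := hx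
      have haN := hnA ha
      refine ⟨comm_mem_of_normalizes hv haN, ?_⟩
      have hv1 : a * v * a⁻¹ ∈ V := (Subgroup.mem_normalizer_iff.1 haN v).1 hv
      have hv2 : b * v * b⁻¹ ∈ V := (Subgroup.mem_normalizer_iff.1 hbN v).1 hv
      have hv3 : b * (a * v * a⁻¹) * b⁻¹ ∈ V := (Subgroup.mem_normalizer_iff.1 hbN _).1 hv1
      have hab : a * b = b * a := hAB a ha b hb
      have e3 : a * (b * v * b⁻¹) * a⁻¹ = b * (a * v * a⁻¹) * b⁻¹ := by
        calc a * (b * v * b⁻¹) * a⁻¹ = (a * b) * v * (a * b)⁻¹ := by group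
          _ = (b * a) * v * (b * a)⁻¹ := by rw [hab]
          _ = b * (a * v * a⁻¹) * b⁻¹ := by group
      have e1 : ⁅⁅v, a⁆, b⁆ = v * (a * v * a⁻¹)⁻¹ * (b * (a * v * a⁻¹) * b⁻¹) * (b * v * b⁻¹)⁻¹ := by
        simp only [commutatorElement_def]; group
      have e2 : ⁅⁅v, b⁆, a⁆ = v * (b * v * b⁻¹)⁻¹ * (a * (b * v * b⁻¹) * a⁻¹) * (a * v * a⁻¹)⁻¹ := by
        simp only [commutatorElement_def]; group
      have e : ⁅⁅v, a⁆, b⁆ = ⁅⁅v, b⁆, a⁆ := by
        rw [e1, e2, e3]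
        generalize a * v * a⁻¹ = v1 at hv1 hv3 ⊢
        generalize b * v * b⁻¹ = v2 at hv2 ⊢
        generalize b * v1 * b⁻¹ = v3 at hv3 ⊢
        have c1 : v1⁻¹ * v3 = v3 * v1⁻¹ := hVc _ (V.inv_mem hv1) _ hv3
        have c2 : v1⁻¹ * v2⁻¹ = v2⁻¹ * v1⁻¹ := hVc _ (V.inv_mem hv1) _ (V.inv_mem hv2)
        have c3 : v3 * v2⁻¹ = v2⁻¹ * v3 := hVc _ hv3 _ (V.inv_mem hv2)
        calc v * v1⁻¹ * v3 * v2⁻¹ = v * (v1⁻¹ * v3) * v2⁻¹ := by group
          _ = v * (v3 * v1⁻¹) * v2⁻¹ := by rw [c1]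
          _ = v * v3 * (v1⁻¹ * v2⁻¹) := by group
          _ = v * v3 * (v2⁻¹ * v1⁻¹) := by rw [c2]
          _ = v * (v3 * v2⁻¹) * v1⁻¹ := by group
          _ = v * (v2⁻¹ * v3) * v1⁻¹ := by rw [c3]
          _ = v * v2⁻¹ * v3 * v1⁻¹ := by group
      rw [e]
      exact Subgroup.commutator_mem_commutator (Subgroup.commutator_mem_commutator hv hb) ha
    | one =>
      refine ⟨V.one_mem, ?_⟩
      rw [commutatorElement_one_left]
      exact Subgroup.one_mem _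
    | mul x y _ _ hx hy =>
      refine ⟨V.mul_mem hx.1 hy.1, ?_⟩
      have hyb : ⁅y, b⁆ ∈ V := comm_mem_of_normalizes hy.1 hbN
      have e : ⁅x * y, b⁆ = ⁅y, b⁆ * ⁅x, b⁆ := by
        have e0 : ⁅x * y, b⁆ = (x * ⁅y, b⁆) * x⁻¹ * ⁅x, b⁆ := by
          simp only [commutatorElement_def]; group
        rw [e0, hVc x hx.1 _ hyb]
        group
      rw [e]
      exact Subgroup.mul_mem _ hy.2 hx.2
    | inv x _ hx =>
      refine ⟨V.inv_mem hx.1, ?_⟩
      have hxb : ⁅x, b⁆⁻¹ ∈ V := V.inv_mem (comm_mem_of_normalizes hx.1 hbN)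
      have e : ⁅x⁻¹, b⁆ = ⁅x, b⁆⁻¹ := by
        have e0 : ⁅x⁻¹, b⁆ = x⁻¹ * ⁅x, b⁆⁻¹ * x := by
          simp only [commutatorElement_def]; group
        rw [e0, mul_assoc, ← hVc x hx.1 _ hxb]
        group
      rw [e]
      exact Subgroup.inv_mem _ hx.2
  have hle : ⁅V, B⁆ ≤ ⁅⁅V, B⁆, A⁆ := by
    calc ⁅V, B⁆ = ⁅⁅V, B⁆, B⁆ := h27.symm
      _ ≤ ⁅⁅V, A⁆, B⁆ := Subgroup.commutator_mono hcomm le_rfl
      _ ≤ ⁅⁅V, B⁆, A⁆ := key
  by_contra hW
  -- A normalizes W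
  have hAB' : A ≤ Subgroup.normalizer (B : Set G) := by
    intro a ha
    rw [Subgroup.mem_normalizer_iff]
    intro b
    constructor
    · intro hb
      have := hAB a ha b hb
      rw [this, mul_assoc, mul_inv_cancel, mul_one]
      exact hb
    · intro hb
      have := hAB a ha _ hb
      have e : b = a⁻¹ * (a * b * a⁻¹ * a) := by group
      rw [e, ← this]
      have e' : a⁻¹ * (a * (a * b * a⁻¹)) = a * b * a⁻¹ := by group
      rw [e']; exact hb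
  have hAW : A ≤ Subgroup.normalizer ((⁅V, B⁆ : Subgroup G) : Set G) :=
    Cfsg.Agent.Lib.Lead.le_normalizer_commutator A V B hnA hAB'
  have hWp : IsPGroup p (⁅V, B⁆ : Subgroup G) := hV.to_le hWV
  have hΓp : IsPGroup p ((⁅V, B⁆ ⊔ A : Subgroup G)) := hWp.to_sup_of_normal_left' hA hAW
  have hnil : Group.IsNilpotent ↥(⁅V, B⁆ ⊔ A : Subgroup G) := hΓp.isNilpotent
  have hlt := Cfsg.Agent.Lib.Lead.commutator_lt_of_nilpotent (⁅V, B⁆) (⁅V, B⁆ ⊔ A) le_sup_left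
    (sup_le Subgroup.le_normalizer hAW) hnil hW
  have : ⁅V, B⁆ ≤ ⁅⁅V, B⁆, ⁅V, B⁆ ⊔ A⁆ := hle.trans (Subgroup.commutator_mono le_rfl le_sup_right)
  exact lt_irrefl _ (lt_of_le_of_lt this hlt)

end Aux


/-- Let P be a p-subgroup of a finite group, normalized by a p-subgroup A and by a subgroup B of order prime to p that commutes elementwise with A. If [P, B] ≤ [P, A], then B centralizes P. -/
theorem result {G : Type*} [Group G] [Finite G] {p : ℕ} [Fact p.Prime] (P A B : Subgroup G) (hP : IsPGroup p ↥P) (hA : IsPGroup p ↥A) (hB : ¬ p ∣ Nat.card ↥B) (hnA : A ≤ Subgroup.normalizer (P : Set G)) (hnB : B ≤ Subgroup.normalizer (P : Set G)) (hAB : ⁅A, B⁆ = ⊥) (hcomm : ⁅P, B⁆ ≤ ⁅P, A⁆) : ⁅P, B⁆ = ⊥ := by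
  have hp : p.Prime := Fact.out
  set Γ : Subgroup G := Subgroup.normalizer (P : Set G) with hΓ
  have hPΓ : P ≤ Γ := Subgroup.le_normalizer
  set Φ : Subgroup G := (frattini ↥P).map P.subtype with hΦ
  have hΦP : Φ ≤ P := Subgroup.map_subtype_le _
  have hΦΓ : Φ ≤ Γ := hΦP.trans hPΓ
  have hΦn : Γ ≤ Subgroup.normalizer (Φ : Set G) :=
    Cfsg.Agent.Lib.Lead.le_normalizer_map_characteristic P Γ le_rfl (frattini ↥P)
  have hN : (Φ.subgroupOf Γ).Normal := (Subgroup.normal_subgroupOf_iff_le_normalizer hΦΓ).2 hΦn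
  let f : ↥Γ →* ↥Γ ⧸ Φ.subgroupOf Γ := QuotientGroup.mk' (Φ.subgroupOf Γ)
  have hker : f.ker = Φ.subgroupOf Γ := QuotientGroup.ker_mk' _
  -- commutators in Γ
  have hcs : ∀ H K : Subgroup G, H ≤ Γ → K ≤ Γ →
      ⁅H.subgroupOf Γ, K.subgroupOf Γ⁆ = (⁅H, K⁆).subgroupOf Γ := by
    intro H K hH hK
    apply Subgroup.map_injective Γ.subtype_injective
    have hHK : ⁅H, K⁆ ≤ Γ := by
      rw [Subgroup.commutator_le]
      intro h hh k hk
      exact Subgroup.mul_mem _ (Subgroup.mul_mem _ (Subgroup.mul_mem _ (hH hh) (hK hk))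
        (Subgroup.inv_mem _ (hH hh))) (Subgroup.inv_mem _ (hK hk))
    rw [Subgroup.map_commutator, Subgroup.map_subgroupOf_eq_of_le hH,
      Subgroup.map_subgroupOf_eq_of_le hK, Subgroup.map_subgroupOf_eq_of_le hHK]
  -- the images
  set V : Subgroup (↥Γ ⧸ Φ.subgroupOf Γ) := (P.subgroupOf Γ).map f with hV
  set A' : Subgroup (↥Γ ⧸ Φ.subgroupOf Γ) := (A.subgroupOf Γ).map f with hA'
  set B' : Subgroup (↥Γ ⧸ Φ.subgroupOf Γ) := (B.subgroupOf Γ).map f with hB'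
  have hPn : (P.subgroupOf Γ).Normal := Subgroup.normal_in_normalizer
  have hVc : ∀ x ∈ V, ∀ y ∈ V, x * y = y * x := by
    rintro _ ⟨x, hx, rfl⟩ _ ⟨y, hy, rfl⟩
    rw [← map_mul, ← map_mul]
    change ((x * y : ↥Γ) : ↥Γ ⧸ Φ.subgroupOf Γ) = ((y * x : ↥Γ) : ↥Γ ⧸ Φ.subgroupOf Γ)
    rw [QuotientGroup.eq, Subgroup.mem_subgroupOf]
    have hxP : (x : G) ∈ P := Subgroup.mem_subgroupOf.1 hx
    have hyP : (y : G) ∈ P := Subgroup.mem_subgroupOf.1 hy
    have h1 : ⁅(⟨(y : G)⁻¹, P.inv_mem hyP⟩ : ↥P), (⟨(x : G)⁻¹, P.inv_mem hxP⟩ : ↥P)⁆ ∈ frattini ↥P :=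
      Cfsg.Agent.Lib.Helper1.pgroup_commutator_le_frattini hP
        (Subgroup.commutator_mem_commutator (Subgroup.mem_top _) (Subgroup.mem_top _))
    refine ⟨_, h1, ?_⟩
    simp only [commutatorElement_def, Subgroup.coe_subtype, Subgroup.coe_mul, Subgroup.coe_inv,
      inv_inv, mul_inv_rev]
    group
  have hVp : IsPGroup p V := (hP.comap_subtype).map f
  have hA'p : IsPGroup p A' := (hA.comap_subtype).map f
  have hB'c : ¬ p ∣ Nat.card B' := by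
    intro h
    apply hB
    have h1 : Nat.card B' ∣ Nat.card (B.subgroupOf Γ) := Subgroup.card_map_dvd _ f
    have h2 : Nat.card (B.subgroupOf Γ) = Nat.card B :=
      Nat.card_congr (Subgroup.subgroupOfEquivOfLe hnB).toEquiv
    rw [h2] at h1
    exact h.trans h1
  have hnorm : ∀ H : Subgroup G, (H.subgroupOf Γ).map f ≤ Subgroup.normalizer (V : Set _) := by
    intro H
    have h1 := Subgroup.le_normalizer_map (H := P.subgroupOf Γ) f
    rw [Subgroup.normalizer_eq_top] at h1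
    exact (Subgroup.map_mono le_top).trans h1
  have hAB' : ∀ a ∈ A', ∀ b ∈ B', a * b = b * a := by
    rintro _ ⟨a, ha, rfl⟩ _ ⟨b, hb, rfl⟩
    rw [← map_mul, ← map_mul]
    congr 1
    apply Subtype.ext
    have : ⁅(a : G), (b : G)⁆ ∈ ⁅A, B⁆ :=
      Subgroup.commutator_mem_commutator (Subgroup.mem_subgroupOf.1 ha) (Subgroup.mem_subgroupOf.1 hb)
    rw [hAB, Subgroup.mem_bot, commutatorElement_eq_one_iff_mul_comm] at this
    exact this
  have hcomm' : ⁅V, B'⁆ ≤ ⁅V, A'⁆ := by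
    rw [hV, hA', hB', ← Subgroup.map_commutator, ← Subgroup.map_commutator,
      hcs P B hPΓ hnB, hcs P A hPΓ hnA]
    apply Subgroup.map_mono
    intro x hx
    exact hcomm hx
  have h0 := abelian_case V A' B' hVc hVp hA'p hB'c (hnorm A) (hnorm B) hAB' hcomm'
  -- pull back
  have hPBΦ : ⁅P, B⁆ ≤ Φ := by
    rw [hV, hB', ← Subgroup.map_commutator, hcs P B hPΓ hnB, Subgroup.map_eq_bot_iff, hker] at h0
    intro x hx
    have hxΓ : x ∈ Γ := by
      have : ⁅P, B⁆ ≤ P := Cfsg.Agent.Lib.Lead.commutator_le_left_of_le_normalizer P B hnB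
      exact hPΓ (this hx)
    have := h0 (show (⟨x, hxΓ⟩ : ↥Γ) ∈ (⁅P, B⁆).subgroupOf Γ from hx)
    exact this
  -- Frattini argument
  have hcop : (Nat.card B).Coprime (Nat.card (frattini ↥P)) := by
    have hfp : IsPGroup p (frattini ↥P) := hP.to_subgroup _
    obtain ⟨k, hk⟩ := IsPGroup.iff_card.1 hfp
    rw [hk]
    exact Nat.Coprime.pow_right k ((Nat.Prime.coprime_iff_not_dvd hp).2 hB).symm
  have hcent : B ≤ Subgroup.centralizer (P : Set G) := by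
    apply Cfsg.Agent.S0029.result B P hnB hcop
    intro b hb x hx
    apply hPBΦ
    rw [Subgroup.commutator_comm]
    exact Subgroup.commutator_mem_commutator hb hx
  rw [Subgroup.commutator_comm]
  exact Subgroup.commutator_eq_bot_iff_le_centralizer.2 hcent

end Cfsg.Agent.S2908
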