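import Cfsg.Statements.S2909
import Cfsg.Agent.S0027
import Cfsg.Agent.S0028
import Cfsg.Agent.S0058
import Cfsg.Agent.S2908
import Cfsg.Agent.Lib.Lead.Coprime

set_option autoImplicit false
open Cfsg

namespace Cfsg.Agent.S2909

open scoped commutatorElement

section Aux

variable {G : Type*} [Group G]

theorem commutator_le_of_le {H K Γ : Subgroup G} (hH : H ≤ Γ) (hK : K ≤ Γ) : ⁅H, K⁆ ≤ Γ := by
  rw [Subgroup.commutator_le]
  intro h hh k hk
  exact Subgroup.mul_mem _ (Subgroup.mul_mem _ (Subgroup.mul_mem _ (hH hh) (hK hk))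
    (Subgroup.inv_mem _ (hH hh))) (Subgroup.inv_mem _ (hK hk))

theorem commutator_subgroupOf {H K Γ : Subgroup G} (hH : H ≤ Γ) (hK : K ≤ Γ) :
    ⁅H.subgroupOf Γ, K.subgroupOf Γ⁆ = (⁅H, K⁆).subgroupOf Γ := by
  apply Subgroup.map_injective Γ.subtype_injective
  rw [Subgroup.map_commutator, Subgroup.map_subgroupOf_eq_of_le hH,
    Subgroup.map_subgroupOf_eq_of_le hK,
    Subgroup.map_subgroupOf_eq_of_le (commutator_le_of_le hH hK)]

/-- if `U` acts trivially on `E / F` then so does `[X, U]` -/
theorem commutator_commutator_le (E F X U : Subgroup G) [hE : E.Normal]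
    (hEF : E ≤ Subgroup.normalizer (F : Set G)) (hXF : X ≤ Subgroup.normalizer (F : Set G))
    (hUF : U ≤ Subgroup.normalizer (F : Set G)) (hEU : ⁅E, U⁆ ≤ F) : ⁅E, ⁅X, U⁆⁆ ≤ F := by
  set Γ : Subgroup G := Subgroup.normalizer (F : Set G) with hΓ
  have hFΓ : F ≤ Γ := Subgroup.le_normalizer
  have hN : (F.subgroupOf Γ).Normal := Subgroup.normal_in_normalizer
  let f : ↥Γ →* ↥Γ ⧸ F.subgroupOf Γ := QuotientGroup.mk' (F.subgroupOf Γ)
  have hf : Function.Surjective f := QuotientGroup.mk'_surjective _
  have hker : f.ker = F.subgroupOf Γ := QuotientGroup.ker_mk' _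
  set Ebar : Subgroup (↥Γ ⧸ F.subgroupOf Γ) := (E.subgroupOf Γ).map f with hEbar
  have hEn : Ebar.Normal :=
    Subgroup.Normal.map (Subgroup.Normal.subgroupOf hE Γ) f hf
  have hCn : (Subgroup.centralizer (Ebar : Set (↥Γ ⧸ F.subgroupOf Γ))).Normal :=
    Subgroup.normal_centralizer
  have hU : (U.subgroupOf Γ).map f ≤ Subgroup.centralizer (Ebar : Set (↥Γ ⧸ F.subgroupOf Γ)) := by
    rw [← Subgroup.commutator_eq_bot_iff_le_centralizer, hEbar, ← Subgroup.map_commutator,
      commutator_subgroupOf hUF hEF, Subgroup.map_eq_bot_iff, hker]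
    intro x hx
    rw [Subgroup.mem_subgroupOf] at hx ⊢
    rw [Subgroup.commutator_comm] at hx
    exact hEU hx
  have h1 : ⁅(X.subgroupOf Γ).map f, (U.subgroupOf Γ).map f⁆ ≤
      Subgroup.centralizer (Ebar : Set (↥Γ ⧸ F.subgroupOf Γ)) :=
    (Subgroup.commutator_mono le_rfl hU).trans (Subgroup.commutator_le_right _ _)
  rw [hEbar] at h1
  rw [← Subgroup.commutator_eq_bot_iff_le_centralizer, ← Subgroup.map_commutator,
    ← Subgroup.map_commutator, commutator_subgroupOf hXF hUF,
    commutator_subgroupOf (commutator_le_of_le hXF hUF) hEF, Subgroup.map_eq_bot_iff, hker] at h1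
  rw [Subgroup.commutator_comm]
  intro x hx
  have hxΓ : x ∈ Γ := commutator_le_of_le (commutator_le_of_le hXF hUF) hEF hx
  exact h1 (show (⟨x, hxΓ⟩ : ↥Γ) ∈ (⁅⁅X, U⁆, E⁆).subgroupOf Γ from hx)

/-- gluing: if `[X i, U] ≤ C` for all `i`, with `C` normal, then `[⨆ X i, U] ≤ C` -/
theorem iSup_commutator_le {ι : Sort*} (X : ι → Subgroup G) (U C : Subgroup G) [hC : C.Normal]
    (h : ∀ i, ⁅X i, U⁆ ≤ C) : ⁅⨆ i, X i, U⁆ ≤ C := by
  let f : G →* G ⧸ C := QuotientGroup.mk' C
  have hker : f.ker = C := QuotientGroup.ker_mk' _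
  rw [← hker, ← Subgroup.map_eq_bot_iff, Subgroup.map_commutator,
    Subgroup.commutator_eq_bot_iff_le_centralizer, Subgroup.map_iSup]
  apply iSup_le
  intro i
  rw [← Subgroup.commutator_eq_bot_iff_le_centralizer, ← Subgroup.map_commutator,
    Subgroup.map_eq_bot_iff, hker]
  exact h i

end Aux


/-- Let p be a prime, E a normal p-subgroup of the finite group G, and U a non-cyclic elementary abelian p-subgroup of G such that either C_E(U) = C_E(u) for every nontrivial u ∈ U, or [E, U] = [E, ⟨u⟩] for every nontrivial u ∈ U. If R is a subgroup of order prime to p normalized by U, then [R, U] centralizes E. -/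
theorem result {G : Type*} [Group G] [Finite G] {p : ℕ} [Fact p.Prime] (E : Subgroup G) [E.Normal] (hE : IsPGroup p ↥E) (U : Subgroup G) (hU : Cfsg.IsElementaryAbelian p U) (hnc : ¬ IsCyclic ↥U) (hcond : (∀ u ∈ U, u ≠ 1 → E ⊓ Subgroup.centralizer (U : Set G) = E ⊓ Subgroup.centralizer ({u} : Set G)) ∨ (∀ u ∈ U, u ≠ 1 → ⁅E, U⁆ = ⁅E, Subgroup.zpowers u⁆)) (R : Subgroup G) (hR : ¬ p ∣ Nat.card ↥R) (hRU : U ≤ Subgroup.normalizer (R : Set G)) : ⁅R, U⁆ ≤ Subgroup.centralizer (E : Set G) := by
  have hp : p.Prime := Fact.out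
  obtain ⟨hUc, hUp⟩ := hU
  have hUcomm : ∀ a ∈ U, ∀ b ∈ U, a * b = b * a := fun a ha b hb =>
    congrArg Subtype.val (hUc.is_comm.comm ⟨a, ha⟩ ⟨b, hb⟩)
  have hUpg : IsPGroup p U := by
    intro u
    exact ⟨1, by rw [pow_one]; exact Subtype.ext (hUp u.1 u.2)⟩
  have hEn : ∀ H : Subgroup G, H ≤ Subgroup.normalizer (E : Set G) := by
    intro H; rw [Subgroup.normalizer_eq_top]; exact le_top
  -- coprimality helpers
  have hcopR : ∀ Y : Subgroup G, Y ≤ R → (Nat.card Y).Coprime p := by
    intro Y hY
    have h1 : Nat.card Y ∣ Nat.card R := Subgroup.card_dvd_of_le hY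
    exact (Nat.Coprime.coprime_dvd_left h1 ((Nat.Prime.coprime_iff_not_dvd hp).2 hR).symm)
  have hcopU : ∀ Y : Subgroup G, Y ≤ R → (Nat.card U).Coprime (Nat.card Y) := by
    intro Y hY
    obtain ⟨k, hk⟩ := IsPGroup.iff_card.1 hUpg
    rw [hk]
    exact Nat.Coprime.pow_left k (hcopR Y hY).symm
  have hUsolv : Group.IsSolvable ↥U := by
    have : Group.IsNilpotent ↥U := hUpg.isNilpotent
    infer_instance
  -- X = [R, U]
  set X : Subgroup G := ⁅R, U⁆ with hX
  have hXR : X ≤ R := Cfsg.Agent.Lib.Lead.commutator_le_left_of_le_normalizer R U hRU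
  have hUX : U ≤ Subgroup.normalizer (X : Set G) :=
    Cfsg.Agent.Lib.Lead.le_normalizer_commutator U R U hRU Subgroup.le_normalizer
  have hXU : ⁅X, U⁆ = X := Cfsg.Agent.S0027.result U R hRU (hcopU R le_rfl) (Or.inl hUsolv)
  have hgen := Cfsg.Agent.S0058.result U X hnc hUX (hcopU X hXR)
  -- the main claim for each nonidentity u
  have hCn : (Subgroup.centralizer (E : Set G)).Normal := Subgroup.normal_centralizer
  have claim : ∀ u ∈ U, u ≠ 1 →
      ⁅X ⊓ Subgroup.centralizer ({u} : Set G), U⁆ ≤ Subgroup.centralizer (E : Set G) := by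
    intro u hu hu1
    set Xu : Subgroup G := X ⊓ Subgroup.centralizer ({u} : Set G) with hXu
    have hXuR : Xu ≤ R := inf_le_left.trans hXR
    have hXuu : ∀ x ∈ Xu, x * u = u * x := by
      intro x hx
      have := (Subgroup.mem_inf.1 hx).2
      rw [Subgroup.mem_centralizer_iff] at this
      exact (this u rfl).symm
    -- U normalizes Xu
    have hUXu : U ≤ Subgroup.normalizer (Xu : Set G) := by
      intro v hv
      have hvX := hUX hv
      rw [Subgroup.mem_normalizer_iff] at hvX ⊢
      have hvu : v * u = u * v := hUcomm v hv u hu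
      intro x
      rw [hXu, Subgroup.mem_inf, Subgroup.mem_inf, ← hvX x]
      simp only [Subgroup.mem_centralizer_iff, Set.mem_singleton_iff, forall_eq]
      constructor
      · rintro ⟨h1, h2⟩
        refine ⟨h1, ?_⟩
        calc u * (v * x * v⁻¹) = (u * v) * x * v⁻¹ := by group
          _ = (v * u) * x * v⁻¹ := by rw [hvu]
          _ = v * (u * x) * v⁻¹ := by group
          _ = v * (x * u) * v⁻¹ := by rw [h2]
          _ = v * x * (v⁻¹ * (v * u) * v⁻¹) := by group
          _ = v * x * (v⁻¹ * (u * v) * v⁻¹) := by rw [hvu]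
          _ = v * x * v⁻¹ * u := by group
      · rintro ⟨h1, h2⟩
        refine ⟨h1, ?_⟩
        calc u * x = v⁻¹ * ((v * u) * x * v⁻¹) * v := by group
          _ = v⁻¹ * ((u * v) * x * v⁻¹) * v := by rw [hvu]
          _ = v⁻¹ * (u * (v * x * v⁻¹)) * v := by group
          _ = v⁻¹ * ((v * x * v⁻¹) * u) * v := by rw [h2]
          _ = x * (v⁻¹ * (u * v)) := by group
          _ = x * (v⁻¹ * (v * u)) := by rw [hvu]
          _ = x * u := by group
    set Y : Subgroup G := ⁅Xu, U⁆ with hY
    have hYXu : Y ≤ Xu := Cfsg.Agent.Lib.Lead.commutator_le_left_of_le_normalizer Xu U hUXu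
    have hYR : Y ≤ R := hYXu.trans hXuR
    have hYu : ∀ y ∈ Y, y * u = u * y := fun y hy => hXuu y (hYXu hy)
    have hzp : IsPGroup p (Subgroup.zpowers u) := by
      rintro ⟨z, hz⟩
      obtain ⟨n, rfl⟩ := Subgroup.mem_zpowers_iff.1 hz
      refine ⟨1, Subtype.ext ?_⟩
      simp only [pow_one, Subgroup.coe_pow, Subgroup.coe_one]
      rw [← zpow_natCast, ← zpow_mul, mul_comm, zpow_mul, zpow_natCast, hUp u hu, one_zpow]
    have hzY : ∀ z ∈ Subgroup.zpowers u, ∀ y ∈ Y, z * y = y * z := by
      intro z hz y hy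
      obtain ⟨n, rfl⟩ := Subgroup.mem_zpowers_iff.1 hz
      exact ((Commute.zpow_right (hYu y hy) n).eq).symm
    rcases hcond with h1 | h2
    · -- case 1: Thompson P × Q
      have hF := h1 u hu hu1
      apply Cfsg.Agent.S0028.result p (Subgroup.zpowers u) Y E hzp (hcopR Y hYR) hE
      · intro z hz
        rw [Subgroup.mem_centralizer_iff]
        intro y hy
        exact (hzY z hz y hy).symm
      · exact hEn _
      · exact hEn _
      · -- E ⊓ C(zpowers u) ≤ C(Y)
        have hle : E ⊓ Subgroup.centralizer ((Subgroup.zpowers u : Subgroup G) : Set G) ≤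
            E ⊓ Subgroup.centralizer (U : Set G) := by
          rw [hF]
          apply inf_le_inf_left
          apply Subgroup.centralizer_le
          intro z hz
          rw [Set.mem_singleton_iff] at hz
          rw [hz]; exact Subgroup.mem_zpowers u
        refine hle.trans ?_
        rw [Subgroup.le_centralizer_iff, hY, Subgroup.commutator_le]
        intro x hx v hv
        rw [Subgroup.mem_centralizer_iff]
        intro e he'
        have he := Subgroup.mem_inf.1 (show e ∈ E ⊓ Subgroup.centralizer (U : Set G) from he')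
        -- e ∈ E ⊓ C(U); x⁻¹ e x ∈ E ⊓ C({u}) = E ⊓ C(U)
        have he'' : x⁻¹ * e * x ∈ E ⊓ Subgroup.centralizer (U : Set G) := by
          rw [hF]
          have heE : e ∈ E := he.1
          have heu : e * u = u * e := by
            have := he.2
            rw [Subgroup.mem_centralizer_iff] at this
            exact (this u hu).symm
          refine Subgroup.mem_inf.2 ⟨?_, ?_⟩
          · have := ‹E.Normal›.conj_mem e heE x⁻¹
            simpa using this
          · rw [Subgroup.mem_centralizer_iff]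
            intro z hz
            rw [Set.mem_singleton_iff] at hz
            rw [hz]
            have cxu : Commute u x := (hXuu x hx).symm
            have ceu : Commute u e := heu.symm
            exact ((cxu.inv_right.mul_right ceu).mul_right cxu).eq
        have hev : Commute v e := by
          have := he.2
          rw [Subgroup.mem_centralizer_iff] at this
          exact this v hv
        have hev' : Commute v (x⁻¹ * e * x) := by
          have := (Subgroup.mem_inf.1 he'').2
          rw [Subgroup.mem_centralizer_iff] at this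
          exact this v hv
        have c1 : Commute (x * v * x⁻¹) e := by
          have e1 : (x * v * x⁻¹) * e = x * (v * (x⁻¹ * e * x)) * x⁻¹ := by group
          have e2 : e * (x * v * x⁻¹) = x * ((x⁻¹ * e * x) * v) * x⁻¹ := by group
          exact (e1.trans (by rw [hev'.eq])).trans e2.symm
        have c2 : Commute v⁻¹ e := hev.inv_left
        rw [commutatorElement_def]
        exact ((c1.mul_left c2).eq).symm
    · -- case 2: the dual lemma S2908
      have hF := h2 u hu hu1
      have hXuz : Xu ≤ Subgroup.normalizer ((Subgroup.zpowers u : Subgroup G) : Set G) := by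
        refine le_trans ?_ (Subgroup.centralizer_le_normalizer _)
        intro x hx
        rw [Subgroup.mem_centralizer_iff]
        intro z hz
        obtain ⟨n, rfl⟩ := Subgroup.mem_zpowers_iff.1 hz
        exact ((Commute.zpow_right (hXuu x hx) n).eq).symm
      have hcomm : ⁅E, Y⁆ ≤ ⁅E, Subgroup.zpowers u⁆ := by
        rw [← hF, hY]
        apply commutator_commutator_le E ⁅E, U⁆ Xu U
        · exact Cfsg.Agent.Lib.Lead.left_le_normalizer_commutator E U
        · rw [hF]
          exact Cfsg.Agent.Lib.Lead.le_normalizer_commutator Xu E (Subgroup.zpowers u) (hEn Xu) hXuz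
        · exact Cfsg.Agent.Lib.Lead.le_normalizer_commutator U E U (hEn U) Subgroup.le_normalizer
        · exact le_rfl
      have hAB : ⁅Subgroup.zpowers u, Y⁆ = ⊥ := by
        rw [Subgroup.commutator_eq_bot_iff_le_centralizer]
        intro z hz
        rw [Subgroup.mem_centralizer_iff]
        intro y hy
        exact (hzY z hz y hy).symm
      have hYB : ¬ p ∣ Nat.card Y := (Nat.Prime.coprime_iff_not_dvd hp).1 (hcopR Y hYR).symm
      have h0 := Cfsg.Agent.S2908.result E (Subgroup.zpowers u) Y hE hzp hYB (hEn _) (hEn _) hAB hcomm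
      rw [Subgroup.commutator_comm, Subgroup.commutator_eq_bot_iff_le_centralizer] at h0
      exact h0
  -- gluing
  rw [← hXU]
  conv_lhs => rw [← hgen]
  apply iSup_commutator_le
  intro a
  apply iSup_commutator_le
  intro ha
  exact claim a ha.1 ha.2

end Cfsg.Agent.S2909
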