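import Mathlib
import Cfsg.Statements.S2911
import Cfsg.Agent.Lib.Helper19.TransferCentral

set_option autoImplicit false
open Cfsg

namespace Cfsg.Agent.S2911

theorem d8_central_sq : ∀ d : DihedralGroup 4, (∀ x : DihedralGroup 4, x * d = d * x) → ∃ y : DihedralGroup 4, d = y * y := by
  decide

theorem zmod2_sq (b : Multiplicative (ZMod 2)) : b * b = 1 := by
  revert b; decide

theorem zmod2_ne : (Multiplicative.ofAdd (1 : ZMod 2)) ≠ 1 := by
  decide

/-- A finite group whose Sylow 2-subgroups are isomorphic to the direct product of a group of order 2 and a dihedral group of order 8 has a subgroup of index two. -/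
theorem result {G : Type*} [Group G] [Finite G] (S : Sylow 2 G) (hS : Nonempty (↥(S : Subgroup G) ≃* Multiplicative (ZMod 2) × DihedralGroup 4)) : ∃ H : Subgroup G, H.index = 2 := by
  classical
  obtain ⟨e⟩ := hS
  set a : Multiplicative (ZMod 2) := Multiplicative.ofAdd (1 : ZMod 2) with ha
  let φ : (S : Subgroup G) →* Multiplicative (ZMod 2) :=
    (MonoidHom.fst _ _).comp e.toMonoidHom
  have hφ : ∀ s, φ s = (e s).1 := fun s => rfl
  set z' : (S : Subgroup G) := e.symm (a, 1) with hz'
  have hφz : φ z' = a := by rw [hφ, hz']; simp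
  have hφsurj : Function.Surjective φ := by
    intro b
    refine ⟨e.symm (b, 1), ?_⟩
    rw [hφ]; simp
  set M : Subgroup G := φ.ker.map (S : Subgroup G).subtype with hM
  have hMS : M ≤ (S : Subgroup G) := by
    rw [hM]; exact Subgroup.map_subtype_le _
  have hMsub : M.subgroupOf (S : Subgroup G) = φ.ker := by
    rw [hM, Subgroup.subgroupOf, Subgroup.comap_map_eq_self_of_injective (Subgroup.subtype_injective _)]
  have hMidx : M.relIndex (S : Subgroup G) = 2 := by
    rw [Subgroup.relIndex, hMsub, Subgroup.index_ker, MonoidHom.range_eq_top.mpr hφsurj,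
      Subgroup.card_top]
    simp [Nat.card_eq_fintype_card]
  have hmemM : ∀ s : (S : Subgroup G), (s : G) ∈ M ↔ φ s = 1 := by
    intro s
    rw [← MonoidHom.mem_ker, ← hMsub, Subgroup.mem_subgroupOf]
  -- z is central in S
  have hzc' : ∀ s : (S : Subgroup G), s * z' = z' * s := by
    intro s
    apply e.injective
    rw [map_mul, map_mul, hz', MulEquiv.apply_symm_apply]
    ext
    · simp [mul_comm]
    · simp
  have hz2' : z' * z' = 1 := by
    apply e.injective
    rw [map_mul, hz', MulEquiv.apply_symm_apply, map_one]
    ext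
    · exact zmod2_sq a
    · simp
  -- z is not a square
  have hnsq : ∀ y : (S : Subgroup G), y * y ≠ z' := by
    intro y hy
    have := congrArg φ hy
    rw [map_mul, hφz, zmod2_sq] at this
    exact zmod2_ne this.symm
  obtain ⟨K, -, hK, -⟩ := Cfsg.Agent.Lib.Helper19.exists_index_two_of_central_involution S M hMS hMidx
    (z' : G) z'.2 (fun s hs => by
      have := hzc' ⟨s, hs⟩
      exact congrArg Subtype.val this) (by
      have := congrArg Subtype.val hz2'
      simpa using this) (by
      intro n hn hmem
      have hn' := hn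
      rw [Subgroup.mem_normalizer_iff] at hn
      -- w = n⁻¹ z n ∈ S
      have hwS : n⁻¹ * (z' : G) * n ∈ (S : Subgroup G) := hMS hmem
      set w : (S : Subgroup G) := ⟨n⁻¹ * (z' : G) * n, hwS⟩ with hw
      have hφw : φ w = 1 := (hmemM w).mp hmem
      -- w central in S
      have hwc : ∀ s : (S : Subgroup G), s * w = w * s := by
        intro s
        have hs' : n * (s : G) * n⁻¹ ∈ (S : Subgroup G) := (hn _).mp s.2
        have := congrArg Subtype.val (hzc' ⟨n * (s : G) * n⁻¹, hs'⟩)
        simp only [Subgroup.coe_mul] at this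
        apply Subtype.ext
        simp only [Subgroup.coe_mul, hw]
        calc (s : G) * (n⁻¹ * (z' : G) * n) = n⁻¹ * ((n * (s : G) * n⁻¹) * (z' : G)) * n := by group
          _ = n⁻¹ * ((z' : G) * (n * (s : G) * n⁻¹)) * n := by rw [this]
          _ = n⁻¹ * (z' : G) * n * (s : G) := by group
      -- second coordinate of e w central in D8
      have hd : ∀ x : DihedralGroup 4, x * (e w).2 = (e w).2 * x := by
        intro x
        have := congrArg (fun t => (e t).2) (hwc (e.symm (1, x)))
        simpa using this
      obtain ⟨y, hy⟩ := d8_central_sq _ hd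
      have hwsq : w = e.symm (1, y) * e.symm (1, y) := by
        apply e.injective
        rw [map_mul, MulEquiv.apply_symm_apply]
        ext
        · have := hφw
          rw [hφ] at this
          simpa using this
        · simpa using hy
      -- conjugate back
      set y' : (S : Subgroup G) := e.symm (1, y) with hy'
      have hyS : n * (y' : G) * n⁻¹ ∈ (S : Subgroup G) := (hn _).mp y'.2
      apply hnsq ⟨n * (y' : G) * n⁻¹, hyS⟩
      apply Subtype.ext
      simp only [Subgroup.coe_mul]
      have h1 := congrArg Subtype.val hwsq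
      simp only [Subgroup.coe_mul, hw] at h1
      calc n * (y' : G) * n⁻¹ * (n * (y' : G) * n⁻¹) = n * ((y' : G) * (y' : G)) * n⁻¹ := by group
        _ = n * (n⁻¹ * (z' : G) * n) * n⁻¹ := by rw [← h1]
        _ = (z' : G) := by group)
  exact ⟨K, hK⟩

end Cfsg.Agent.S2911
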