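import Mathlib
import Cfsg.Statements.S2912
import Cfsg.Agent.Lib.helper17.ExtraBound

set_option autoImplicit false
open Cfsg

namespace Cfsg.Agent.S2912

open Cfsg.Agent.Lib.helper17.ExtraNorm Cfsg.Agent.Lib.helper17.ExtraGroup
  Cfsg.Agent.Lib.helper17.ExtraBound
open scoped IsMulCommutative

/-- Let p and r be distinct primes, let E be an extraspecial subgroup of order p^(2w+1) of a finite group, and let A be an elementary abelian r-subgroup normalized by E on which E acts faithfully (C_E(A) = 1). If n ≥ 1 is least with p dividing rⁿ − 1 (the smallest dimension of a faithful representation of a group of order p over the field with r elements), then the order of A is at least r^(n·p^w). -/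
theorem result {G : Type*} [Group G] [Finite G] {p r : ℕ} [Fact p.Prime] [hr : Fact r.Prime] (hpr : p ≠ r) (E A : Subgroup G) (w : ℕ) (hE : Cfsg.IsExtraspecial p ↥E) (hEcard : Nat.card ↥E = p ^ (2 * w + 1)) (hA : Cfsg.IsElementaryAbelian r A) (hnorm : E ≤ Subgroup.normalizer (A : Set G)) (hfaith : E ⊓ Subgroup.centralizer (A : Set G) = ⊥) (n : ℕ) (hn : 1 ≤ n) (hdiv : p ∣ r ^ n - 1) (hmin : ∀ k : ℕ, 1 ≤ k → p ∣ r ^ k - 1 → n ≤ k) : r ^ (n * p ^ w) ≤ Nat.card ↥A := by
  have hp : Fact p.Prime := inferInstance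
  have : IsMulCommutative ↥A := hA.1
  -- the action
  let ρ : ↥E →* MulAut ↥A := (A.normalizerMonoidHom).comp (Subgroup.inclusion hnorm)
  have hρ : ∀ (e : ↥E) (a : ↥A), ((ρ e a : ↥A) : G) = e.1 * a.1 * e.1⁻¹ := fun e a => rfl
  -- a generator of the centre
  obtain ⟨⟨_, _, hcomm⟩, hcen⟩ := hE
  have hcyc : IsCyclic ↥(Subgroup.center ↥E) := isCyclic_of_prime_card hcen
  obtain ⟨z₀, hz₀⟩ := hcyc.exists_generator
  obtain ⟨z, hzc⟩ := z₀
  have hzp : z ^ p = 1 := by
    have h1 : (⟨z, hzc⟩ : ↥(Subgroup.center ↥E)) ^ p = 1 := by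
      rw [← hcen]; exact pow_card_eq_one'
    have := congrArg Subtype.val h1
    simpa using this
  have hcz : ∀ c ∈ Subgroup.center ↥E, c ∈ Subgroup.zpowers z := by
    intro c hc
    obtain ⟨k, hk⟩ := Subgroup.mem_zpowers_iff.mp (hz₀ ⟨c, hc⟩)
    refine Subgroup.mem_zpowers_iff.mpr ⟨k, ?_⟩
    have := congrArg Subtype.val hk
    simpa using this
  have hzcomm : ∀ g : ↥E, g * z = z * g := fun g => Subgroup.mem_center_iff.mp hzc g
  have hX : XCond p (⊤ : Subgroup ↥E) z := by
    refine ⟨Subgroup.mem_top _, fun g _ => hzcomm g, hzp, fun g _ hg => ?_, fun g _ h _ => ?_⟩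
    · apply hcz
      rw [Subgroup.mem_center_iff]
      intro h
      exact (hg h (Subgroup.mem_top _)).symm
    · apply hcz
      rw [← hcomm, commutator_def]
      have := Subgroup.commutator_mem_commutator (Subgroup.mem_top g) (Subgroup.mem_top h)
      rwa [commutatorElement_def] at this
  have hz1 : z ≠ 1 := by
    intro hz
    have h1 : ∀ c : ↥(Subgroup.center ↥E), c = 1 := by
      intro c
      have := hcz c.1 c.2
      rw [hz, Subgroup.zpowers_one_eq_bot, Subgroup.mem_bot] at this
      exact Subtype.ext this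
    have h2 : Nat.card ↥(Subgroup.center ↥E) = 1 := by
      rw [Nat.card_eq_one_iff_unique]
      exact ⟨⟨fun a b => (h1 a).trans (h1 b).symm⟩, ⟨1⟩⟩
    rw [hcen] at h2
    exact hp.out.one_lt.ne' h2
  -- z acts nontrivially
  have hzA : ∃ a : ↥A, ρ z a ≠ a := by
    by_contra hcon
    push Not at hcon
    apply hz1
    have hmem : z.1 ∈ E ⊓ Subgroup.centralizer (A : Set G) := by
      refine ⟨z.2, ?_⟩
      refine Subgroup.mem_centralizer_iff.mpr ?_
      intro a ha
      have h1 := congrArg Subtype.val (hcon ⟨a, ha⟩)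
      rw [hρ] at h1
      have h2 : z.1 * a = a * z.1 := by
        have : z.1 * a * z.1⁻¹ * z.1 = a * z.1 := by
          simp only at h1
          rw [h1]
        rw [← this]; group
      exact h2.symm
    rw [hfaith, Subgroup.mem_bot] at hmem
    exact Subtype.ext hmem
  obtain ⟨a, ha⟩ := hzA
  have hzpow : (ρ z) ^ p = 1 := by rw [← map_pow, hzp, map_one]
  have hM : MCond p r ρ (⊤ : Subgroup ↥E) (Nm p (ρ z)).ker z := by
    refine ⟨fun g _ b hb => ?_, fun b hb => MonoidHom.mem_ker.mp hb, fun b _ => ?_, ?_⟩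
    · rw [MonoidHom.mem_ker] at hb ⊢
      have hc : Commute (ρ g) (ρ z) := (show Commute g z from hzcomm g).map ρ
      rw [← map_Nm_comm (ρ z) (ρ g) hc b, hb, map_one]
    · exact Subtype.ext (hA.2 b.1 b.2)
    · intro hbot
      have hb : a⁻¹ * ρ z a ∈ (Nm p (ρ z)).ker := by
        rw [MonoidHom.mem_ker, map_mul, map_inv,
          ← map_Nm_comm (ρ z) (ρ z) (Commute.refl _) a, map_Nm_self (ρ z) hzpow a,
          inv_mul_cancel]
      rw [hbot, Subgroup.mem_bot] at hb
      exact ha (inv_mul_eq_one.mp hb).symm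
  have h1 := bound hpr ρ n hn hmin w ⊤ (Nm p (ρ z)).ker z hX hM
    (by rw [Subgroup.card_top, hEcard])
  exact h1.trans (Subgroup.card_le_card_group _)

end Cfsg.Agent.S2912
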