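import Cfsg.Statements.S2925
import Cfsg.Agent.Lib.Helper10.Components
import Cfsg.Agent.Lib.Helper10.SylowSubnormal
import Cfsg.Agent.Lib.Helper9.SylowConj

set_option autoImplicit false
open Cfsg

namespace Cfsg.Agent.S2925

open scoped commutatorElement


/-- Let K be a component of the finite group X and T a Sylow 2-subgroup of X. If some abelian normal subgroup Y of T does not normalize K, then K ⧸ Z(K) has abelian Sylow 2-subgroups. -/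
theorem result {X : Type*} [Group X] [Finite X] (K : Subgroup X) (hK : Cfsg.IsComponent K) (T : Sylow 2 X) (Y : Subgroup X) (hYT : Y ≤ (T : Subgroup X)) (hYn : (Y.subgroupOf (T : Subgroup X)).Normal) (hYab : IsMulCommutative ↥Y) (hnot : ¬ Y ≤ Subgroup.normalizer (K : Set X)) (P : Sylow 2 (↥K ⧸ Subgroup.center ↥K)) : IsMulCommutative ↥(P : Subgroup (↥K ⧸ Subgroup.center ↥K)) := by
  have : Fact (Nat.Prime 2) := ⟨Nat.prime_two⟩
  obtain ⟨y, hyY, hyK⟩ := SetLike.not_le_iff_exists.1 hnot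
  -- the conjugate component
  set K' : Subgroup X := K.map (MulAut.conj y).toMonoidHom with hK'
  have hK'c : Cfsg.IsComponent K' := Cfsg.Agent.Lib.Helper10.isComponent_map_equiv (MulAut.conj y) hK
  have hne : K' ≠ K := fun h => hyK (Cfsg.Agent.Lib.Helper9.mem_normalizer_of_map_conj_eq h)
  have hcard : Nat.card K' = Nat.card K :=
    (Nat.card_congr (K.equivMapOfInjective _ (MulAut.conj y).injective).toEquiv).symm
  have hcomm : ⁅K, K'⁆ = ⊥ := by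
    rcases Cfsg.Agent.Lib.Helper10.component_le_or_commutator_eq_bot K K' hK hK'c.1 with h | h
    · exfalso
      apply hne
      exact (Subgroup.eq_of_le_of_card_ge h hcard.le).symm
    · exact h
  have hcomm' : ∀ a ∈ K, ∀ b ∈ K', a * b = b * a := by
    intro a ha b hb
    have : ⁅a, b⁆ ∈ ⁅K, K'⁆ := Subgroup.commutator_mem_commutator ha hb
    rw [hcomm, Subgroup.mem_bot, commutatorElement_eq_one_iff_mul_comm] at this
    exact this
  -- normality of Y in T, elementwise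
  have hYconj : ∀ s ∈ (T : Subgroup X), ∀ z ∈ Y, s * z * s⁻¹ ∈ Y := by
    intro s hs z hz
    have := hYn.conj_mem ⟨z, hYT hz⟩ (Subgroup.mem_subgroupOf.2 hz) ⟨s, hs⟩
    rw [Subgroup.mem_subgroupOf] at this
    simpa using this
  -- w s = s⁻¹ * y * s * y⁻¹ ∈ Y
  have hw : ∀ s ∈ (T : Subgroup X), s⁻¹ * y * s * y⁻¹ ∈ Y := by
    intro s hs
    have h1 := hYconj s⁻¹ (Subgroup.inv_mem _ hs) y hyY
    rw [inv_inv] at h1
    exact Y.mul_mem h1 (Y.inv_mem hyY)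
  -- key: commutators of elements of T ⊓ K are central in K
  have hkey : ∀ s ∈ (T : Subgroup X) ⊓ K, ∀ t ∈ (T : Subgroup X) ⊓ K, ∀ k ∈ K,
      k * (s * t * s⁻¹ * t⁻¹) = (s * t * s⁻¹ * t⁻¹) * k := by
    intro s hs t ht k hk
    obtain ⟨hsT, hsK⟩ := Subgroup.mem_inf.1 hs
    obtain ⟨htT, htK⟩ := Subgroup.mem_inf.1 ht
    have hs' : y * s * y⁻¹ ∈ K' := ⟨s, hsK, by simp [MulAut.conj_apply]⟩
    have ht' : y * t * y⁻¹ ∈ K' := ⟨t, htK, by simp [MulAut.conj_apply]⟩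
    have h1 : (s⁻¹ * y * s * y⁻¹) * (t⁻¹ * y * t * y⁻¹) = (t⁻¹ * y * t * y⁻¹) * (s⁻¹ * y * s * y⁻¹) :=
      congrArg Subtype.val (hYab.is_comm.comm ⟨_, hw s hsT⟩ ⟨_, hw t htT⟩)
    have c1 : (y * s * y⁻¹) * t⁻¹ = t⁻¹ * (y * s * y⁻¹) := (hcomm' _ (K.inv_mem htK) _ hs').symm
    have c2 : (y * t * y⁻¹) * s⁻¹ = s⁻¹ * (y * t * y⁻¹) := (hcomm' _ (K.inv_mem hsK) _ ht').symm
    have e : s * t * s⁻¹ * t⁻¹
        = (y * t * y⁻¹) * (y * s * y⁻¹) * (y * t * y⁻¹)⁻¹ * (y * s * y⁻¹)⁻¹ := by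
      have l : (s⁻¹ * y * s * y⁻¹) * (t⁻¹ * y * t * y⁻¹)
          = s⁻¹ * t⁻¹ * ((y * s * y⁻¹) * (y * t * y⁻¹)) := by
        calc (s⁻¹ * y * s * y⁻¹) * (t⁻¹ * y * t * y⁻¹)
            = s⁻¹ * ((y * s * y⁻¹) * t⁻¹) * (y * t * y⁻¹) := by group
          _ = s⁻¹ * (t⁻¹ * (y * s * y⁻¹)) * (y * t * y⁻¹) := by rw [c1]
          _ = s⁻¹ * t⁻¹ * ((y * s * y⁻¹) * (y * t * y⁻¹)) := by group
      have r : (t⁻¹ * y * t * y⁻¹) * (s⁻¹ * y * s * y⁻¹)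
          = t⁻¹ * s⁻¹ * ((y * t * y⁻¹) * (y * s * y⁻¹)) := by
        calc (t⁻¹ * y * t * y⁻¹) * (s⁻¹ * y * s * y⁻¹)
            = t⁻¹ * ((y * t * y⁻¹) * s⁻¹) * (y * s * y⁻¹) := by group
          _ = t⁻¹ * (s⁻¹ * (y * t * y⁻¹)) * (y * s * y⁻¹) := by rw [c2]
          _ = t⁻¹ * s⁻¹ * ((y * t * y⁻¹) * (y * s * y⁻¹)) := by group
      rw [l, r] at h1
      calc s * t * s⁻¹ * t⁻¹
          = s * t * (s⁻¹ * t⁻¹ * ((y * s * y⁻¹) * (y * t * y⁻¹)))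
              * ((y * s * y⁻¹) * (y * t * y⁻¹))⁻¹ := by group
        _ = s * t * (t⁻¹ * s⁻¹ * ((y * t * y⁻¹) * (y * s * y⁻¹)))
              * ((y * s * y⁻¹) * (y * t * y⁻¹))⁻¹ := by rw [h1]
        _ = (y * t * y⁻¹) * (y * s * y⁻¹) * (y * t * y⁻¹)⁻¹ * (y * s * y⁻¹)⁻¹ := by group
    have hcK' : s * t * s⁻¹ * t⁻¹ ∈ K' := by
      rw [e]
      exact K'.mul_mem (K'.mul_mem (K'.mul_mem ht' hs') (K'.inv_mem ht')) (K'.inv_mem hs')
    exact hcomm' k hk _ hcK'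
  -- the Sylow 2-subgroup (T ⊓ K) of K
  have hidx : ¬ 2 ∣ (((T : Subgroup X) ⊓ K).subgroupOf K).index :=
    Cfsg.Agent.Lib.Helper10.not_dvd_relIndex_inf_of_isSubnormal 2 (T : Subgroup X) T.not_dvd_index K hK.1
  have hpg : IsPGroup 2 (((T : Subgroup X) ⊓ K).subgroupOf K) :=
    (T.2.to_le inf_le_left).comap_subtype
  let Q : Sylow 2 ↥K := hpg.toSylow hidx
  let Q' : Sylow 2 (↥K ⧸ Subgroup.center ↥K) :=
    Q.mapSurjective (QuotientGroup.mk'_surjective (Subgroup.center ↥K))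
  have hQ'comm : ∀ a ∈ (Q' : Subgroup (↥K ⧸ Subgroup.center ↥K)),
      ∀ b ∈ (Q' : Subgroup (↥K ⧸ Subgroup.center ↥K)), a * b = b * a := by
    rintro a ⟨s, hs, rfl⟩ b ⟨t, ht, rfl⟩
    have hs1 : (s : X) ∈ (T : Subgroup X) ⊓ K := Subgroup.mem_subgroupOf.1 hs
    have ht1 : (t : X) ∈ (T : Subgroup X) ⊓ K := Subgroup.mem_subgroupOf.1 ht
    change ((s * t : ↥K) : ↥K ⧸ Subgroup.center ↥K) = ((t * s : ↥K) : ↥K ⧸ Subgroup.center ↥K)
    rw [QuotientGroup.eq, Subgroup.mem_center_iff]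
    intro k
    apply Subtype.ext
    have := hkey _ (Subgroup.inv_mem _ ht1) _ (Subgroup.inv_mem _ hs1) k k.2
    simp only [inv_inv] at this
    simpa [mul_assoc] using this
  obtain ⟨g, hg⟩ := MulAction.exists_smul_eq (↥K ⧸ Subgroup.center ↥K) Q' P
  refine ⟨⟨fun a b => ?_⟩⟩
  apply Subtype.ext
  have ha : (a : ↥K ⧸ Subgroup.center ↥K) ∈ ((g • Q' : Sylow 2 _) : Subgroup _) := by
    rw [hg]; exact a.2
  have hb : (b : ↥K ⧸ Subgroup.center ↥K) ∈ ((g • Q' : Sylow 2 _) : Subgroup _) := by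
    rw [hg]; exact b.2
  rw [Sylow.coe_subgroup_smul, Subgroup.mem_pointwise_smul_iff_inv_smul_mem] at ha hb
  simp only [MulAut.smul_def, MulAut.inv_apply, MulAut.conj_symm_apply] at ha hb
  have := hQ'comm _ ha _ hb
  have e : ((a : ↥K ⧸ Subgroup.center ↥K) * b)
      = g * ((g⁻¹ * a * g) * (g⁻¹ * b * g)) * g⁻¹ := by group
  have e' : ((b : ↥K ⧸ Subgroup.center ↥K) * a)
      = g * ((g⁻¹ * b * g) * (g⁻¹ * a * g)) * g⁻¹ := by group
  change (a : ↥K ⧸ Subgroup.center ↥K) * b = b * a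
  rw [e, e', this]

end Cfsg.Agent.S2925
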