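import Cfsg.Statements.S2929
import Cfsg.Agent.Lib.Helper28.TcD
import Cfsg.Agent.Lib.Helper28.TcE
import Cfsg.Agent.S1265
import Cfsg.Agent.Lib.Helper12.Local

set_option autoImplicit false
open Cfsg

namespace Cfsg.Agent.S2929

/-- Let n ≥ 5 and let H be a subgroup of the symmetric group of degree n whose generalized Fitting subgroup F*(H) is quasisimple. If H contains a Sylow 3-subgroup of the symmetric group, then F*(H) is isomorphic to an alternating group of degree m for some m ∈ {n − 2, n − 1, n}. -/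
theorem result (n : ℕ) (hn : 5 ≤ n) (H : Subgroup (Equiv.Perm (Fin n))) (hF : Cfsg.IsQuasisimple ↥(Cfsg.generalizedFittingSubgroup ↥H)) (hS : ∃ P : Sylow 3 (Equiv.Perm (Fin n)), (P : Subgroup (Equiv.Perm (Fin n))) ≤ H) : ∃ m : ℕ, (m = n - 2 ∨ m = n - 1 ∨ m = n) ∧ Nonempty (↥(Cfsg.generalizedFittingSubgroup ↥H) ≃* ↥(alternatingGroup (Fin m))) := by
  classical
  obtain ⟨P, hP⟩ := hS
  obtain ⟨s, hs3, hsP, hdisj⟩ := Cfsg.Agent.Lib.Helper28.Tc.exists_three_cycles n P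
  obtain ⟨𝔏, h𝔏⟩ : ∃ K : Subgroup ↥H, K = Cfsg.generalizedFittingSubgroup ↥H := ⟨_, rfl⟩
  rw [← h𝔏] at hF ⊢
  have h𝔏n : 𝔏.Normal := by
    rw [h𝔏]
    exact Cfsg.Agent.Lib.Helper12.generalizedFittingSubgroup_normal ↥H
  obtain ⟨L, hL⟩ : ∃ L : Subgroup (Equiv.Perm (Fin n)), L = 𝔏.map H.subtype := ⟨_, rfl⟩
  have e1 : ↥𝔏 ≃* ↥L := by
    rw [hL]
    exact 𝔏.equivMapOfInjective H.subtype H.subtype_injective
  have hqs : Cfsg.IsQuasisimple ↥L := Cfsg.Agent.Lib.Helper12.isQuasisimple_of_mulEquiv e1 hF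
  have hLH : L ≤ H := by
    rw [hL]
    exact Subgroup.map_subtype_le _
  have hnorm : ∀ h ∈ H, ∀ l ∈ L, h * l * h⁻¹ ∈ L := by
    intro h hh l hl
    rw [hL] at hl ⊢
    obtain ⟨l', hl', rfl⟩ := hl
    exact ⟨⟨h, hh⟩ * l' * ⟨h, hh⟩⁻¹, h𝔏n.conj_mem l' hl' ⟨h, hh⟩, rfl⟩
  have hcent : ∀ h ∈ H, (∀ l ∈ L, h * l = l * h) → h ∈ L := by
    intro h hh hc
    have h1 : (⟨h, hh⟩ : ↥H) ∈ Subgroup.centralizer (𝔏 : Set ↥H) := by
      rw [Subgroup.mem_centralizer_iff]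
      intro x hx
      apply Subtype.ext
      have h2 := hc x.1 (by rw [hL]; exact ⟨x, hx, rfl⟩)
      exact h2.symm
    rw [h𝔏] at h1
    have h2 := Cfsg.Agent.S1265.result h1
    rw [hL, h𝔏]
    exact ⟨⟨h, hh⟩, h2, rfl⟩
  have hr : Fintype.card (Fin n) ≤ 3 * (n / 3) + 2 := by
    rw [Fintype.card_fin]; omega
  obtain ⟨Δ, hΔ, hcard⟩ := Cfsg.Agent.Lib.Helper28.Tc.main_perm H L hLH hnorm hqs hcent s hs3
    (fun i => hP (hsP i)) hdisj hr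
  refine ⟨Δ.card, ?_, ?_⟩
  · have h1 := Finset.card_le_univ Δ
    rw [Fintype.card_fin] at h1
    omega
  · obtain ⟨e3⟩ := Cfsg.Agent.Lib.Helper28.Tc.altOn_iso Δ
    exact ⟨e1.trans ((MulEquiv.subgroupCongr hΔ).trans e3)⟩

end Cfsg.Agent.S2929
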