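import Cfsg.Statements.S2930
import Cfsg.Agent.Lib.Helper11.PM3ASM
import Cfsg.Agent.Lib.Helper11.PM3A2
import Cfsg.Agent.Lib.Helper28.PM3A1
import Cfsg.Agent.Lib.Helper12.Local

set_option autoImplicit false
open Cfsg

namespace Cfsg.Agent.S2930

open Cfsg.Agent.Lib.Helper11.PM3

/-- Let X be a finite 3-minimal group (a Sylow 3-subgroup is not normal and lies in a unique maximal subgroup) whose generalized Fitting subgroup is isomorphic to an alternating group of degree n ≥ 5. Then X = F*(X), and n = 6, n = 9, or n = 3ᵃ + 1 for some a ≥ 2. -/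
theorem result {X : Type*} [Group X] [Finite X] (hX : Cfsg.IsPMinimal 3 X) (n : ℕ) (hn : 5 ≤ n) (hF : Nonempty (↥(Cfsg.generalizedFittingSubgroup X) ≃* ↥(alternatingGroup (Fin n)))) : Cfsg.generalizedFittingSubgroup X = ⊤ ∧ (n = 6 ∨ n = 9 ∨ ∃ a : ℕ, 2 ≤ a ∧ n = 3 ^ a + 1) := by
  have : Fact (Nat.Prime 3) := ⟨Nat.prime_three⟩
  have hnorm : (Cfsg.generalizedFittingSubgroup X).Normal :=
    Cfsg.Agent.Lib.Helper12.generalizedFittingSubgroup_normal X
  have htop : Cfsg.generalizedFittingSubgroup X = ⊤ := by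
    apply eq_top_of_normal_of_sylow_le hX
    intro S x hx
    apply odd_order_mem_fstar n hn hF x
    obtain ⟨k, hk⟩ := S.2 ⟨x, hx⟩
    have hk' : x ^ 3 ^ k = 1 := by
      have := congrArg Subtype.val hk
      simpa using this
    obtain ⟨m, -, hm⟩ := (Nat.dvd_prime_pow Nat.prime_three).mp (orderOf_dvd_of_pow_eq_one hk')
    rw [hm]
    exact Odd.pow (by decide)
  refine ⟨htop, ?_⟩
  obtain ⟨e⟩ := hF
  let e' : X ≃* ↥(alternatingGroup (Fin n)) :=
    (Subgroup.topEquiv.symm.trans (MulEquiv.subgroupCongr htop.symm)).trans e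
  have h2 := isPMinimal_of_mulEquiv e' 3 hX
  have h3 := alt_pMinimal_cases (α := Fin n) (by simpa using hn) h2
  simpa using h3

end Cfsg.Agent.S2930
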