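import Cfsg.Statements.S2939
import Cfsg.Agent.Lib.Helper18.SylowIn

set_option autoImplicit false
open Cfsg

namespace Cfsg.Agent.S2939

open Cfsg.Agent.Lib.Helper18

section
variable {G : Type*} [Group G]

theorem take_prod_succ {n : ℕ} (f : Fin n → G) (k : ℕ) (hk : k < n) :
    ((List.ofFn f).take (k + 1)).prod = ((List.ofFn f).take k).prod * f ⟨k, hk⟩ := by
  rw [List.prod_take_succ _ _ (by simpa using hk)]
  simp

theorem take_prod_all {n : ℕ} (f : Fin n → G) :
    ((List.ofFn f).take n).prod = (List.ofFn f).prod := by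
  rw [List.take_of_length_le (by simp)]

variable [Finite G] {p : ℕ} [Fact p.Prime]

theorem mem_sylowMembers_iff {𝓕 : Set (Subgroup G)} {S X : Subgroup G} :
    X ∈ sylowMembers p 𝓕 S ↔ X ∈ 𝓕 ∧ IsSylowIn p (S ⊓ X) X := by
  constructor
  · rintro ⟨hX, P, hP⟩
    refine ⟨hX, ?_⟩
    rw [← hP]
    exact isSylowIn_of_sylow P
  · rintro ⟨hX, h⟩
    obtain ⟨P, hP⟩ := h.exists_sylow
    refine ⟨hX, P, ?_⟩
    rw [hP, Subgroup.map_subgroupOf_eq_of_le inf_le_right]

theorem conjSub_inf (g : G) (S X : Subgroup G) :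
    conjSub g (S ⊓ X) = conjSub g S ⊓ conjSub g X :=
  Subgroup.map_inf _ _ _ (MulAut.conj g).injective

theorem sylowMembers_conj {𝓕 : Set (Subgroup G)} (h𝓕 : IsNormalSet 𝓕) {S X : Subgroup G}
    (h : X ∈ sylowMembers p 𝓕 S) (g : G) :
    conjSub g X ∈ sylowMembers p 𝓕 (conjSub g S) := by
  rw [mem_sylowMembers_iff] at h ⊢
  refine ⟨?_, ?_⟩
  · have := h𝓕 X h.1 g⁻¹
    unfold subgroupConjRight at this
    rw [inv_inv] at this
    exact this
  · rw [← conjSub_inf]
    exact h.2.conjSub g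

theorem conjSub_self_of_mem {X : Subgroup G} {x : G} (hx : x ∈ X) : conjSub x X = X := by
  ext y
  rw [mem_conjSub]
  constructor
  · intro h
    have : y = x * (x⁻¹ * y * x) * x⁻¹ := by group
    rw [this]
    exact X.mul_mem (X.mul_mem hx h) (X.inv_mem hx)
  · intro h
    exact X.mul_mem (X.mul_mem (X.inv_mem hx) h) hx

theorem sylowMembers_conj_mem {𝓕 : Set (Subgroup G)} (h𝓕 : IsNormalSet 𝓕) {S X : Subgroup G}
    (h : X ∈ sylowMembers p 𝓕 S) {x : G} (hx : x ∈ X) :
    X ∈ sylowMembers p 𝓕 (conjSub x S) := by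
  have := sylowMembers_conj h𝓕 h x
  rwa [conjSub_self_of_mem hx] at this

theorem coe_smul_sylow (g : G) (S : Sylow p G) : ((g • S : Sylow p G) : Subgroup G) = conjSub g S := by
  rw [Sylow.coe_subgroup_smul, Subgroup.pointwise_smul_def]
  rfl

end


section
variable {G : Type*} [Group G] [Finite G] {p : ℕ} [Fact p.Prime]

theorem csi_of_fscf {𝓕 : Set (Subgroup G)} (h𝓕 : IsNormalSet 𝓕)
    (h : FamilyStronglyControlsFusion p 𝓕) : ControlsSylowIntersections p 𝓕 := by
  intro S T hST hne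
  obtain ⟨g, hg⟩ := MulAction.exists_smul_eq G S T
  have hT : (T : Subgroup G) = conjSub g S := by rw [← hg, coe_smul_sylow]
  obtain ⟨A, hA⟩ : ∃ A : Set G, A = (((S : Subgroup G) ⊓ (T : Subgroup G) : Subgroup G) : Set G) :=
    ⟨_, rfl⟩
  have hAS : A ⊆ (S : Set G) := by
    rw [hA]; intro a ha; exact (Subgroup.mem_inf.mp ha).1
  have hA1 : ∃ a ∈ A, a ≠ 1 := by
    obtain ⟨a, ha⟩ := (Subgroup.ne_bot_iff_exists_ne_one).mp hne
    exact ⟨a, hA ▸ a.2, fun h1 => ha (Subtype.ext h1)⟩
  have hAg : conjRight g A ⊆ (S : Set G) := by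
    rintro _ ⟨a, ha, rfl⟩
    rw [hA] at ha
    have : a ∈ conjSub g S := hT ▸ (Subgroup.mem_inf.mp ha).2
    exact mem_conjSub.mp this
  obtain ⟨n, Y, y, y₀, hy₀, hY, hgy, hstep⟩ := h S A g hAS hA1 hAg
  obtain ⟨u, hu⟩ : ∃ u : ℕ → G, u = fun k => ((List.ofFn y).take k).prod := ⟨_, rfl⟩
  have hu0 : u 0 = 1 := by rw [hu]; simp
  have husucc : ∀ (k : ℕ) (hk : k < n), u (k + 1) = u k * y ⟨k, hk⟩ := by
    intro k hk; rw [hu]; exact take_prod_succ y k hk
  have hun : u n = (List.ofFn y).prod := by rw [hu]; exact take_prod_all y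
  refine ⟨n, fun k => (u k.val) • S, fun i => conjSub (u i.val) (Y i),
    fun i => u i.val * y i * (u i.val)⁻¹, ?_, ?_, ?_⟩
  · show u (0 : Fin (n + 1)).val • S = S
    rw [Fin.val_zero, hu0, one_smul]
  · show u (Fin.last n).val • S = T
    rw [Fin.val_last, hun, ← hg, hgy, mul_smul, Sylow.smul_eq_iff_mem_normalizer.mpr hy₀]
  · intro i
    have hi : i.val < n := i.2
    have hsucc : u (i.succ : Fin (n + 1)).val = u i.val * y i := by
      rw [Fin.val_succ]; exact husucc i.val hi
    have hYi := (hY i).1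
    have hyi := (hY i).2
    refine ⟨?_, ?_, ?_, ?_, ?_⟩
    · show conjSub (u i.val) (Y i) ∈ sylowMembers p 𝓕 ((u (i.castSucc : Fin (n + 1)).val • S : Sylow p G) : Subgroup G)
      rw [Fin.val_castSucc, coe_smul_sylow]
      exact sylowMembers_conj h𝓕 hYi _
    · show conjSub (u i.val) (Y i) ∈ sylowMembers p 𝓕 ((u (i.succ : Fin (n + 1)).val • S : Sylow p G) : Subgroup G)
      rw [hsucc, coe_smul_sylow, ← conjSub_mul]
      exact sylowMembers_conj h𝓕 (sylowMembers_conj_mem h𝓕 hYi hyi) _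
    · show u i.val * y i * (u i.val)⁻¹ ∈ conjSub (u i.val) (Y i)
      exact conj_mem_conjSub hyi
    · show subgroupConjRight (u i.val * y i * (u i.val)⁻¹)
        ((u (i.succ : Fin (n + 1)).val • S : Sylow p G) : Subgroup G) =
        ((u (i.castSucc : Fin (n + 1)).val • S : Sylow p G) : Subgroup G)
      rw [hsucc, Fin.val_castSucc, coe_smul_sylow, coe_smul_sylow]
      unfold subgroupConjRight
      show conjSub (u i.val * y i * (u i.val)⁻¹)⁻¹ (conjSub (u i.val * y i) S) = _
      rw [conjSub_mul]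
      congr 1
      group
    · intro a ha
      have haA : a ∈ A := hA ▸ ha
      have h1 := hstep i ⟨a, haA, rfl⟩
      have h1' : (u (i.val + 1))⁻¹ * a * u (i.val + 1) ∈ (S : Set G) ∩ (Y i : Set G) := by
        rw [hu]; exact h1
      rw [husucc i.val hi] at h1'
      refine Subgroup.mem_inf.mpr ⟨?_, ?_⟩
      · show a ∈ ((u (i.succ : Fin (n + 1)).val • S : Sylow p G) : Subgroup G)
        rw [hsucc, coe_smul_sylow, mem_conjSub]
        exact h1'.1
      · show a ∈ conjSub (u i.val) (Y i)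
        rw [mem_conjSub]
        have h2 : (u i.val * y i)⁻¹ * a * (u i.val * y i) ∈ Y i := h1'.2
        have e : (u i.val)⁻¹ * a * u i.val =
            y i * ((u i.val * y i)⁻¹ * a * (u i.val * y i)) * (y i)⁻¹ := by group
        rw [e]
        exact (Y i).mul_mem ((Y i).mul_mem hyi h2) ((Y i).inv_mem hyi)

end


section
variable {G : Type*} [Group G]

/-- reversed partial products `x_{k-1} ⋯ x_0` -/
def revProd {n : ℕ} (x : Fin n → G) : ℕ → G
  | 0 => 1
  | k + 1 => (if hk : k < n then x ⟨k, hk⟩ else 1) * revProd x k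

theorem revProd_zero {n : ℕ} (x : Fin n → G) : revProd x 0 = 1 := rfl

theorem revProd_succ {n : ℕ} (x : Fin n → G) (k : ℕ) (hk : k < n) :
    revProd x (k + 1) = x ⟨k, hk⟩ * revProd x k := by
  show (if hk : k < n then x ⟨k, hk⟩ else 1) * revProd x k = _
  rw [dif_pos hk]

theorem take_prod_conj_revProd {n : ℕ} (x : Fin n → G) :
    ∀ k, k ≤ n → ((List.ofFn (fun i : Fin n =>
      (revProd x i.val)⁻¹ * x i * revProd x i.val)).take k).prod = revProd x k := by
  intro k
  induction k with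
  | zero => intro _; simp [revProd_zero]
  | succ k ih =>
    intro hk
    have hk' : k < n := hk
    rw [take_prod_succ _ k hk', ih hk'.le, revProd_succ x k hk']
    group

end

section
variable {G : Type*} [Group G] [Finite G] {p : ℕ} [Fact p.Prime]

theorem fscf_of_csi {𝓕 : Set (Subgroup G)} (h𝓕 : IsNormalSet 𝓕)
    (h : ControlsSylowIntersections p 𝓕) : FamilyStronglyControlsFusion p 𝓕 := by
  intro S A g hAS hA1 hAg
  by_cases hgN : g ∈ Subgroup.normalizer ((S : Subgroup G) : Set G)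
  · exact ⟨0, Fin.elim0, Fin.elim0, g, hgN, fun i => i.elim0, by simp, fun i => i.elim0⟩
  · obtain ⟨T, hT⟩ : ∃ T : Sylow p G, T = g • S := ⟨_, rfl⟩
    have hTc : (T : Subgroup G) = conjSub g S := by rw [hT, coe_smul_sylow]
    have hST : S ≠ T := by
      intro h'
      apply hgN
      apply Sylow.smul_eq_iff_mem_normalizer.mp
      rw [← hT]; exact h'.symm
    have hAT : ∀ a ∈ A, a ∈ (S : Subgroup G) ⊓ (T : Subgroup G) := by
      intro a ha
      refine Subgroup.mem_inf.mpr ⟨hAS ha, ?_⟩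
      rw [hTc, mem_conjSub]
      exact hAg ⟨a, ha, rfl⟩
    have hne : (S : Subgroup G) ⊓ (T : Subgroup G) ≠ ⊥ := by
      obtain ⟨a, ha, ha1⟩ := hA1
      intro hbot
      have := hAT a ha
      rw [hbot, Subgroup.mem_bot] at this
      exact ha1 this
    obtain ⟨n, c, X, x, hc0, hcn, hstep⟩ := h S T hST hne
    obtain ⟨w, hw⟩ : ∃ w : ℕ → G, w = revProd x := ⟨_, rfl⟩
    have hw0 : w 0 = 1 := by rw [hw]; rfl
    have hwsucc : ∀ (k : ℕ) (hk : k < n), w (k + 1) = x ⟨k, hk⟩ * w k := by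
      intro k hk; rw [hw]; exact revProd_succ x k hk
    -- K1
    have K1 : ∀ (k : ℕ) (hk : k < n + 1), conjSub (w k)⁻¹ (c ⟨k, hk⟩ : Subgroup G) = S := by
      intro k
      induction k with
      | zero =>
        intro hk
        rw [hw0, inv_one, conjSub_one]
        have : (⟨0, hk⟩ : Fin (n + 1)) = 0 := rfl
        rw [this, hc0]
      | succ k ih =>
        intro hk
        have hk' : k < n := by omega
        have h4 := (hstep ⟨k, hk'⟩).2.2.2.1
        unfold subgroupConjRight at h4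
        have e1 : (⟨k, hk'⟩ : Fin n).succ = ⟨k + 1, hk⟩ := rfl
        have e2 : (⟨k, hk'⟩ : Fin n).castSucc = ⟨k, by omega⟩ := rfl
        rw [e1, e2] at h4
        rw [hwsucc k hk', mul_inv_rev, ← conjSub_mul]
        have h4' : conjSub (x ⟨k, hk'⟩)⁻¹ (c ⟨k + 1, hk⟩ : Subgroup G) = (c ⟨k, by omega⟩ : Subgroup G) := h4
        rw [h4']
        exact ih (by omega)
    have K2 := take_prod_conj_revProd x
    rw [← hw] at K2
    have hTn : conjSub (w n)⁻¹ (T : Subgroup G) = S := by
      have := K1 n (by omega)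
      have e : (⟨n, by omega⟩ : Fin (n + 1)) = Fin.last n := rfl
      rw [e, hcn] at this
      exact this
    refine ⟨n, fun i => conjSub (w i.val)⁻¹ (X i), fun i => (w i.val)⁻¹ * x i * w i.val,
      (w n)⁻¹ * g, ?_, ?_, ?_, ?_⟩
    · apply mem_normalizer_of_conjSub_le
      rw [← conjSub_mul, ← hTc, hTn]
    · intro i
      refine ⟨?_, ?_⟩
      · have h1 := (hstep i).1
        have := sylowMembers_conj h𝓕 h1 (w i.val)⁻¹
        have e : i.castSucc = ⟨i.val, by omega⟩ := rfl
        rw [e, K1 i.val (by omega)] at this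
        exact this
      · have := conj_mem_conjSub (g := (w i.val)⁻¹) (hstep i).2.2.1
        rwa [inv_inv] at this
    · have := K2 n le_rfl
      rw [take_prod_all] at this
      rw [this]
      group
    · intro i
      have hi : i.val < n := i.2
      rintro _ ⟨a, ha, rfl⟩
      have haST := hAT a ha
      have h5 := (hstep i).2.2.2.2 haST
      have hx := (hstep i).2.2.1
      have hprod : ((List.ofFn fun i : Fin n => (w i.val)⁻¹ * x i * w i.val).take (i.val + 1)).prod =
          x i * w i.val := by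
        rw [K2 (i.val + 1) hi, hwsucc i.val hi]
      rw [hprod]
      refine ⟨?_, ?_⟩
      · have e : i.succ = ⟨i.val + 1, by omega⟩ := rfl
        have h6 : a ∈ (c ⟨i.val + 1, by omega⟩ : Subgroup G) := e ▸ (Subgroup.mem_inf.mp h5).1
        have h7 := conj_mem_conjSub (g := (w (i.val + 1))⁻¹) h6
        rw [K1 (i.val + 1) (by omega), hwsucc i.val hi, inv_inv] at h7
        exact h7
      · show (x i * w i.val)⁻¹ * a * (x i * w i.val) ∈ conjSub (w i.val)⁻¹ (X i)
        rw [mem_conjSub]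
        have h8 : (x i)⁻¹ * a * x i ∈ X i :=
          (X i).mul_mem ((X i).mul_mem ((X i).inv_mem hx) (Subgroup.mem_inf.mp h5).2) hx
        have e : ((w i.val)⁻¹)⁻¹ * ((x i * w i.val)⁻¹ * a * (x i * w i.val)) * (w i.val)⁻¹ =
            (x i)⁻¹ * a * x i := by group
        rw [e]
        exact h8

end


/-- Let p be a prime dividing the order of the finite group G and 𝓕 a family of subgroups of G closed under conjugation, with conjugates taken as X^g = g⁻¹Xg. Then 𝓕 controls Sylow p-intersections in G (any two distinct Sylow p-subgroups S and T with S ∩ T ≠ 1 are joined by a chain S = S₀, S₁, …, Sₙ = T of Sylow p-subgroups where, for each i, some member Xᵢ of 𝓕 meets both S_{i-1} and Sᵢ in Sylow p-subgroups of Xᵢ, satisfies S ∩ T ≤ Sᵢ ∩ Xᵢ, and contains an element xᵢ with Sᵢ^{xᵢ} = S_{i-1}) if and only if 𝓕 strongly controls p-fusion in G (whenever A is a subset of a Sylow p-subgroup S, A contains an element other than 1, and A^g ⊆ S, the element g factorises as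 g = y₁⋯yₙy with y ∈ N_G(S) and each yᵢ in a member Yᵢ of 𝓕 that meets S in a Sylow p-subgroup of Yᵢ, with A^{y₁⋯yᵢ} ⊆ S ∩ Yᵢ for each i). -/
theorem result {G : Type*} [Group G] [Finite G] {p : ℕ} [Fact p.Prime] (hdiv : p ∣ Nat.card G) (𝓕 : Set (Subgroup G)) (h𝓕 : Cfsg.IsNormalSet 𝓕) : Cfsg.ControlsSylowIntersections p 𝓕 ↔ Cfsg.FamilyStronglyControlsFusion p 𝓕 := by
  exact ⟨fscf_of_csi h𝓕, csi_of_fscf h𝓕⟩

end Cfsg.Agent.S2939
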