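import Cfsg.Statements.S2940
import Cfsg.Agent.Lib.Helper18.SylowBasic

set_option autoImplicit false
open Cfsg

namespace Cfsg.Agent.S2940

open Cfsg.Agent.Lib.Helper18

/-- Let S be a Sylow p-subgroup of the finite group G and G₁, G₂ subgroups containing S with G = G₁G₂. Then for every g ∈ G there is a Sylow p-subgroup U of G with S ∩ S^g ≤ U ≤ G₁ ∩ G₂^g (conjugates taken as X^g = g⁻¹Xg). -/
theorem result {G : Type*} [Group G] [Finite G] {p : ℕ} [Fact p.Prime] (S : Sylow p G) (G₁ G₂ : Subgroup G) (h1 : (S : Subgroup G) ≤ G₁) (h2 : (S : Subgroup G) ≤ G₂) (hfact : ∀ g : G, ∃ g₁ ∈ G₁, ∃ g₂ ∈ G₂, g = g₁ * g₂) (g : G) : ∃ U : Sylow p G, (S : Subgroup G) ⊓ Cfsg.subgroupConjRight g (S : Subgroup G) ≤ (U : Subgroup G) ∧ (U : Subgroup G) ≤ G₁ ⊓ Cfsg.subgroupConjRight g G₂ := by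
  obtain ⟨g₁, hg₁, g₂, hg₂, hgg⟩ := hfact g⁻¹
  -- G₂^g = g₁ G₂ g₁⁻¹
  have hconj : Cfsg.subgroupConjRight g G₂ = G₂.map (MulAut.conj g₁).toMonoidHom := by
    unfold Cfsg.subgroupConjRight
    rw [hgg]
    ext x
    simp only [Subgroup.mem_map, MulEquiv.coe_toMonoidHom, MulAut.conj_apply]
    constructor
    · rintro ⟨y, hy, rfl⟩
      refine ⟨g₂ * y * g₂⁻¹, G₂.mul_mem (G₂.mul_mem hg₂ hy) (G₂.inv_mem hg₂), ?_⟩
      simp [mul_assoc]
    · rintro ⟨y, hy, rfl⟩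
      refine ⟨g₂⁻¹ * y * g₂, G₂.mul_mem (G₂.mul_mem (G₂.inv_mem hg₂) hy) hg₂, ?_⟩
      simp [mul_assoc]
  set H : Subgroup G := G₁ ⊓ Cfsg.subgroupConjRight g G₂ with hH
  set S' : Sylow p G := g₁ • S with hS'
  have hS'mem : ∀ x, x ∈ S' ↔ ∃ y ∈ S, g₁ * y * g₁⁻¹ = x := by
    intro x
    rw [hS', mem_smul_sylow_iff]
    constructor
    · intro hx
      exact ⟨_, hx, by simp [mul_assoc]⟩
    · rintro ⟨y, hy, rfl⟩
      have : g₁⁻¹ * (g₁ * y * g₁⁻¹) * g₁ = y := by simp [mul_assoc]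
      rw [this]; exact hy
  have hS'H : (S' : Subgroup G) ≤ H := by
    intro x hx
    obtain ⟨y, hy, rfl⟩ := (hS'mem x).mp hx
    refine ⟨G₁.mul_mem (G₁.mul_mem hg₁ (h1 hy)) (G₁.inv_mem hg₁), ?_⟩
    rw [hconj]
    exact ⟨y, h2 hy, by simp⟩
  set D : Subgroup G := (S : Subgroup G) ⊓ Cfsg.subgroupConjRight g (S : Subgroup G) with hD
  have hDH : D ≤ H := by
    intro x hx
    refine ⟨h1 hx.1, ?_⟩
    obtain ⟨y, hy, rfl⟩ := hx.2
    exact ⟨y, h2 hy, rfl⟩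
  have hDp : IsPGroup p (D.subgroupOf H) := by
    have : IsPGroup p D := S.isPGroup'.to_le inf_le_left
    exact this.comap_subtype
  obtain ⟨Q, hQ⟩ := hDp.exists_le_sylow
  obtain ⟨h, hh⟩ := MulAction.exists_smul_eq H (S'.subtype hS'H) Q
  rw [Sylow.smul_subtype] at hh
  refine ⟨h • S', ?_, Sylow.smul_le hS'H h⟩
  intro x hx
  have hxH : x ∈ H := hDH hx
  have : (⟨x, hxH⟩ : H) ∈ D.subgroupOf H := by
    simpa [Subgroup.mem_subgroupOf] using hx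
  have h3 := hQ this
  rw [← hh] at h3
  have h4 : (⟨x, hxH⟩ : H) ∈ ((h • S').subtype (Sylow.smul_le hS'H h) : Subgroup H) := h3
  rw [Sylow.coe_subtype, Subgroup.mem_subgroupOf] at h4
  exact h4

end Cfsg.Agent.S2940
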