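import Cfsg.Statements.S2941
import Cfsg.Agent.Lib.Helper18.SylowIn

set_option autoImplicit false
open Cfsg

namespace Cfsg.Agent.S2941

open Cfsg.Agent.Lib.Helper18
open scoped commutatorElement

section
variable {G : Type*} [Group G]

theorem conj_mem_of_comm_eq {K J : Subgroup G} (h : ⁅K, J⁆ = K) {j k : G} (hj : j ∈ J) (hk : k ∈ K) :
    j * k * j⁻¹ ∈ K := by
  have h1 : ⁅j, k⁆ ∈ ⁅J, K⁆ := Subgroup.commutator_mem_commutator hj hk
  rw [Subgroup.commutator_comm, h] at h1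
  have e : j * k * j⁻¹ = ⁅j, k⁆ * k := by rw [commutatorElement_def]; group
  rw [e]
  exact K.mul_mem h1 hk

theorem le_normalizer_of_comm_eq {K J : Subgroup G} (h : ⁅K, J⁆ = K) :
    J ≤ Subgroup.normalizer (K : Set G) := by
  intro j hj
  rw [Subgroup.mem_normalizer_iff]
  intro k
  constructor
  · intro hk
    exact conj_mem_of_comm_eq h hj hk
  · intro hk
    have := conj_mem_of_comm_eq h (J.inv_mem hj) hk
    have e : j⁻¹ * (j * k * j⁻¹) * j⁻¹⁻¹ = k := by group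
    rwa [e] at this

/-- odd-order elements of `K ⊔ J` lie in `K` when the 2-group `J` normalizes `K`. -/
theorem mem_of_odd_order {K J : Subgroup G} (hJ : IsPGroup 2 ↥J)
    (hJK : J ≤ Subgroup.normalizer (K : Set G)) {g : G} (hg : g ∈ K ⊔ J) (hodd : Odd (orderOf g)) :
    g ∈ K := by
  obtain ⟨N, hN⟩ : ∃ N : Subgroup G, N = Subgroup.normalizer (K : Set G) := ⟨_, rfl⟩
  have hKN : K ≤ N := hN ▸ Subgroup.le_normalizer
  have hJN : J ≤ N := hN ▸ hJK
  have hXN : K ⊔ J ≤ N := sup_le hKN hJN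
  have hnorm : (K.subgroupOf N).Normal := by
    rw [hN]; exact Subgroup.normal_in_normalizer
  obtain ⟨π, hπ⟩ : ∃ π : ↥N →* ↥N ⧸ K.subgroupOf N, π = QuotientGroup.mk' (K.subgroupOf N) := ⟨_, rfl⟩
  have hker : π.ker = K.subgroupOf N := by rw [hπ]; exact QuotientGroup.ker_mk' _
  have hmap : ((K ⊔ J).subgroupOf N).map π = (J.subgroupOf N).map π := by
    rw [Subgroup.subgroupOf_sup hKN hJN, Subgroup.map_sup]
    have : (K.subgroupOf N).map π = ⊥ := by
      exact (Subgroup.map_eq_bot_iff _).mpr hker.ge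
    rw [this, bot_sup_eq]
  have hJp : IsPGroup 2 ↥((J.subgroupOf N).map π) := (hJ.comap_subtype).map π
  have hgN : g ∈ N := hXN hg
  have hmem : π ⟨g, hgN⟩ ∈ (J.subgroupOf N).map π := by
    rw [← hmap]
    exact ⟨⟨g, hgN⟩, (by rw [SetLike.mem_coe, Subgroup.mem_subgroupOf]; exact hg), rfl⟩
  obtain ⟨m, hm⟩ := hJp ⟨_, hmem⟩
  have hm' : (π ⟨g, hgN⟩) ^ (2 ^ m) = 1 := by
    have := congrArg Subtype.val hm
    simpa using this
  have ho : (π ⟨g, hgN⟩) ^ (orderOf g) = 1 := by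
    rw [← map_pow]
    have : (⟨g, hgN⟩ : ↥N) ^ orderOf g = 1 := by
      apply Subtype.ext
      simp [pow_orderOf_eq_one]
    rw [this, map_one]
  have hcop : Nat.Coprime (2 ^ m) (orderOf g) :=
    Nat.Coprime.pow_left _ (Nat.coprime_two_left.mpr hodd)
  have h1 : π ⟨g, hgN⟩ = 1 := by
    have hd1 := orderOf_dvd_of_pow_eq_one hm'
    have hd2 := orderOf_dvd_of_pow_eq_one ho
    have := Nat.dvd_gcd hd1 hd2
    rw [hcop] at this
    exact orderOf_eq_one_iff.mp (Nat.dvd_one.mp this)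
  have h2 : (⟨g, hgN⟩ : ↥N) ∈ π.ker := MonoidHom.mem_ker.mpr h1
  rw [hker, Subgroup.mem_subgroupOf] at h2
  exact h2

end


/-- Let G be a finite group of characteristic 2 type in which every 2-local subgroup is solvable and the centralizer of Ω₁(Z(S)) lies in N_G(S) for every Sylow 2-subgroup S, and let T be a nontrivial 2-subgroup and K a J(T)-component (J the Thompson subgroup generated by the elementary abelian 2-subgroups of largest order). If a subgroup Q is normalized by ⟨K, J(T)⟩ and normalizes J(T), then Q normalizes K. -/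
theorem result {G : Type*} [Group G] [Finite G] (hL : Cfsg.IsCharacteristicTwoType G) (hN : ∀ N : Subgroup G, Cfsg.IsTwoLocal N → Group.IsSolvable ↥N)
    (hZ : ∀ S : Sylow 2 G, Subgroup.centralizer (Cfsg.omegaCenterOf (S : Subgroup G) : Set G) ≤ Subgroup.normalizer ((S : Subgroup G) : Set G)) (T : Subgroup G) (hT : IsPGroup 2 ↥T) (hT1 : T ≠ ⊥) (K : Subgroup G) (hK : Cfsg.IsJComponent T K)
    (Q : Subgroup G) (hQ1 : K ⊔ Cfsg.thompsonSubgroupOf 2 T ≤ Subgroup.normalizer (Q : Set G)) (hQ2 : Q ≤ Subgroup.normalizer (Cfsg.thompsonSubgroupOf 2 T : Set G)) :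
    Q ≤ Subgroup.normalizer (K : Set G) := by
  obtain ⟨J, hJdef⟩ : ∃ J : Subgroup G, J = Cfsg.thompsonSubgroupOf 2 T := ⟨_, rfl⟩
  rw [← hJdef] at hQ1 hQ2
  obtain ⟨hgen, hKJ, -, -, -, -⟩ := hK
  rw [← hJdef] at hKJ
  have hJT : J ≤ T := by
    rw [hJdef]
    rintro _ ⟨x, _, rfl⟩
    exact x.2
  have hJp : IsPGroup 2 ↥J := hT.to_le hJT
  have hJK : J ≤ Subgroup.normalizer (K : Set G) := le_normalizer_of_comm_eq hKJ
  intro q hq
  -- conj by q sends K into K ⊔ J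
  have hqK : ∀ k ∈ K, q * k * q⁻¹ ∈ K ⊔ J := by
    have h1 : ⁅K, J⁆ ≤ (K ⊔ J).comap (MulAut.conj q).toMonoidHom := by
      rw [Subgroup.commutator_le]
      intro k hk j hj
      rw [Subgroup.mem_comap]
      show q * ⁅k, j⁆ * q⁻¹ ∈ K ⊔ J
      have hkN : k ∈ Subgroup.normalizer (Q : Set G) := hQ1 (Subgroup.mem_sup_left hk)
      have hq' : k⁻¹ * q * k⁻¹⁻¹ ∈ Q := (Subgroup.mem_normalizer_iff.mp (Subgroup.inv_mem _ hkN) q).mp hq
      have hj' : (k⁻¹ * q * k⁻¹⁻¹) * j * (k⁻¹ * q * k⁻¹⁻¹)⁻¹ ∈ J :=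
        (Subgroup.mem_normalizer_iff.mp (hQ2 hq') j).mp hj
      have hj'' : q * j⁻¹ * q⁻¹ ∈ J :=
        (Subgroup.mem_normalizer_iff.mp (hQ2 hq) j⁻¹).mp (J.inv_mem hj)
      have e : q * ⁅k, j⁆ * q⁻¹ =
          k * ((k⁻¹ * q * k⁻¹⁻¹) * j * (k⁻¹ * q * k⁻¹⁻¹)⁻¹) * k⁻¹ * (q * j⁻¹ * q⁻¹) := by
        rw [commutatorElement_def]; group
      rw [e]
      have hkX : k ∈ K ⊔ J := Subgroup.mem_sup_left hk
      exact (K ⊔ J).mul_mem ((K ⊔ J).mul_mem ((K ⊔ J).mul_mem hkX (Subgroup.mem_sup_right hj'))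
        ((K ⊔ J).inv_mem hkX)) (Subgroup.mem_sup_right hj'')
    rw [hKJ] at h1
    intro k hk
    exact h1 hk
  have hle : conjSub q K ≤ K := by
    have h2 : K ≤ K.comap (MulAut.conj q).toMonoidHom := by
      conv_lhs => rw [← hgen]
      rw [Subgroup.closure_le]
      rintro k ⟨hk, hodd⟩
      show q * k * q⁻¹ ∈ K
      apply mem_of_odd_order hJp hJK (hqK k hk)
      have : orderOf (q * k * q⁻¹) = orderOf k :=
        orderOf_injective (MulAut.conj q).toMonoidHom (MulAut.conj q).injective k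
      rw [this]; exact hodd
    rintro _ ⟨k, hk, rfl⟩
    exact h2 hk
  exact mem_normalizer_of_conjSub_le hle

end Cfsg.Agent.S2941
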