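import Cfsg.Statements.S2947
import Cfsg.Agent.Lib.Helper9.StrongEmb
import Cfsg.Agent.Lib.helper17.SPE
import Cfsg.Agent.Lib.helper17.PAct
import Cfsg.Agent.Lib.Helper18.PCore

set_option autoImplicit false
open Cfsg

namespace Cfsg.Agent.S2947

open Cfsg.Agent.Lib.helper17 Cfsg.Agent.Lib.Helper9

/-- a `p`-subgroup `P` with `N_G(P ⊓ M) ≤ M` and `P ⊓ M ≠ ⊥`... in fact for any subgroup:
if `N_P(P ⊓ M) ≤ M` then `P ≤ M` (normalizers grow in `p`-groups). -/
theorem le_of_normalizer_inf_le {G : Type*} [Group G] [Finite G] {p : ℕ} [Fact p.Prime]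
    {P M : Subgroup G} (hP : IsPGroup p P)
    (h : Subgroup.normalizer ((P ⊓ M : Subgroup G) : Set G) ≤ M) : P ≤ M := by
  have hnil : Group.IsNilpotent ↥P := hP.isNilpotent
  have hnc := Group.normalizerCondition_of_isNilpotent (G := ↥P)
  by_contra hPM
  have hK : M.subgroupOf P < ⊤ := by
    rw [lt_top_iff_ne_top, Ne, Subgroup.subgroupOf_eq_top]
    exact hPM
  have h1 := hnc _ hK
  obtain ⟨x, hxN, hxK⟩ := SetLike.exists_of_lt h1
  apply hxK
  rw [Subgroup.mem_subgroupOf]
  apply h
  rw [Subgroup.mem_normalizer_iff] at hxN ⊢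
  intro g
  constructor
  · intro hg
    obtain ⟨hgP, hgM⟩ := Subgroup.mem_inf.1 hg
    have := (hxN ⟨g, hgP⟩).1 (Subgroup.mem_subgroupOf.2 hgM)
    rw [Subgroup.mem_subgroupOf] at this
    exact Subgroup.mem_inf.2 ⟨P.mul_mem (P.mul_mem x.2 hgP) (P.inv_mem x.2), this⟩
  · intro hg
    obtain ⟨hgP, hgM⟩ := Subgroup.mem_inf.1 hg
    have hgP' : g ∈ P := by
      have := P.mul_mem (P.mul_mem (P.inv_mem x.2) hgP) x.2
      have e : (x : G)⁻¹ * ((x : G) * g * (x : G)⁻¹) * (x : G) = g := by group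
      rwa [e] at this
    have := (hxN ⟨g, hgP'⟩).2 (Subgroup.mem_subgroupOf.2 hgM)
    rw [Subgroup.mem_subgroupOf] at this
    exact Subgroup.mem_inf.2 ⟨hgP', this⟩


/-- Let G be a finite group of characteristic 2 type in which every 2-local subgroup is solvable and the centralizer of Ω₁(Z(S)) lies in N_G(S) for every Sylow 2-subgroup S; suppose O₂(G) = 1, fix a Sylow 2-subgroup S and a 2-local subgroup M containing N_G(J(S)) (J the Thompson subgroup generated by the elementary abelian 2-subgroups of largest order). Then M is strongly embedded in G (a proper subgroup of even order whose intersection with each conjugate by an element outside M has odd order) if and only if no nontrivial 2-subgroup of M lies in a 2-local subgroup of G not contained in M. -/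
theorem result {G : Type*} [Group G] [Finite G] (hL : Cfsg.IsCharacteristicTwoType G) (hN : ∀ N : Subgroup G, Cfsg.IsTwoLocal N → Group.IsSolvable ↥N)
    (hZ : ∀ S : Sylow 2 G, Subgroup.centralizer (Cfsg.omegaCenterOf (S : Subgroup G) : Set G) ≤ Subgroup.normalizer ((S : Subgroup G) : Set G)) (hO : Cfsg.pCore 2 G = ⊥) (S : Sylow 2 G) (M : Subgroup G) (hM : Cfsg.IsTwoLocal M)
    (hMJ : Subgroup.normalizer (Cfsg.thompsonSubgroupOf 2 (S : Subgroup G) : Set G) ≤ M) :
    Cfsg.IsStronglyEmbedded M ↔ Cfsg.straddlingTwoSubgroups M = ∅ := by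
  have : Fact (Nat.Prime 2) := ⟨Nat.prime_two⟩
  constructor
  · intro hSE
    -- fusion form
    have hfus : SPEFusion 2 M := by
      intro x hxM hx g hg
      have : g⁻¹ ∈ M := by
        apply se_mem_of_conj_mem hSE hx hxM
        simpa using hg
      simpa using M.inv_mem this
    have hnorm : SPENormalizers 2 M := hfus.normalizers
    rw [Set.eq_empty_iff_forall_notMem]
    rintro T ⟨hT2, hT1, hTM, L, ⟨P, hP2, hP1, rfl⟩, hTL, hLM⟩
    apply hLM
    -- P ⊓ M ≠ ⊥
    have h1 : P ⊓ Subgroup.centralizer (T : Set G) ≠ ⊥ :=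
      inf_centralizer_ne_bot_of_pgroups hT2 hP2 hP1 hTL
    have h2 : Subgroup.centralizer (T : Set G) ≤ M :=
      (Subgroup.centralizer_le_normalizer (T : Set G)).trans (hnorm T hTM hT2 hT1)
    have h3 : P ⊓ M ≠ ⊥ := by
      intro hbot
      apply h1
      rw [← le_bot_iff, ← hbot]
      exact inf_le_inf_left _ h2
    have h4 : Subgroup.normalizer ((P ⊓ M : Subgroup G) : Set G) ≤ M :=
      hnorm _ inf_le_right (hP2.to_le inf_le_left) h3
    have h5 : P ≤ M := le_of_normalizer_inf_le hP2 h4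
    exact hnorm P h5 hP2 hP1
  · intro hemp
    obtain ⟨T₀, hT₀2, hT₀1, rfl⟩ := hM
    have hnorm : SPENormalizers 2 (Subgroup.normalizer (T₀ : Set G)) := by
      intro A hAM hA2 hA1
      by_contra hcon
      have : A ∈ Cfsg.straddlingTwoSubgroups (Subgroup.normalizer (T₀ : Set G)) :=
        ⟨hA2, hA1, hAM, _, ⟨A, hA2, hA1, rfl⟩, Subgroup.le_normalizer, hcon⟩
      rw [hemp] at this
      exact this
    have hfus : SPEFusion 2 (Subgroup.normalizer (T₀ : Set G)) := hnorm.fusion
    refine ⟨?_, ?_, ?_⟩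
    · intro htop
      apply hT₀1
      rw [← le_bot_iff, ← hO]
      apply Cfsg.Agent.Lib.Helper18.le_pCore _ hT₀2
      exact Subgroup.normalizer_eq_top_iff.1 htop
    · obtain ⟨x, hxT, hx⟩ := exists_orderOf_eq_prime_of_ne_bot hT₀2 hT₀1
      have hxM : x ∈ Subgroup.normalizer (T₀ : Set G) := Subgroup.le_normalizer hxT
      have := orderOf_dvd_natCard (⟨x, hxM⟩ : ↥(Subgroup.normalizer (T₀ : Set G)))
      rw [Subgroup.orderOf_mk, hx] at this
      exact even_iff_two_dvd.2 this
    · intro g hg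
      by_contra hodd
      rw [Nat.not_odd_iff_even] at hodd
      obtain ⟨t, ht, ht2⟩ := exists_involution_of_even_card _ hodd
      obtain ⟨htM, htg⟩ := Subgroup.mem_inf.1 ht
      rw [mem_map_conj_iff] at htg
      apply hg
      apply hfus (g⁻¹ * t * g) htg _ g
      · have e : g * (g⁻¹ * t * g) * g⁻¹ = t := by group
        rw [e]; exact htM
      · have e : g⁻¹ * t * g = g⁻¹ * t * g⁻¹⁻¹ := by group
        rw [e]
        exact conj_orderOf_two ht2 g⁻¹

end Cfsg.Agent.S2947
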