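import Cfsg.Statements.S2955
-- import your own Cfsg.Agent.* helpers here

set_option autoImplicit false
open Cfsg

namespace Cfsg.Agent.S2955

section Aux

variable {G : Type*} [Group G]

theorem mem_scr {g x : G} {X : Subgroup G} :
    x ∈ Cfsg.subgroupConjRight g X ↔ g * x * g⁻¹ ∈ X := by
  change x ∈ X.map (MulAut.conj g⁻¹).toMonoidHom ↔ _
  constructor
  · rintro ⟨y, hy, rfl⟩
    simpa [mul_assoc] using hy
  · intro h
    exact ⟨_, h, by simp [mul_assoc]⟩

theorem scr_scr (g h : G) (X : Subgroup G) :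
    Cfsg.subgroupConjRight h (Cfsg.subgroupConjRight g X) = Cfsg.subgroupConjRight (g * h) X := by
  ext x
  rw [mem_scr, mem_scr, mem_scr]
  have e : g * (h * x * h⁻¹) * g⁻¹ = g * h * x * (g * h)⁻¹ := by group
  rw [e]

theorem scr_one (X : Subgroup G) : Cfsg.subgroupConjRight 1 X = X := by
  ext x
  rw [mem_scr]
  simp

theorem sylowMembers_conj {p : ℕ} [Fact p.Prime] {𝓕 : Set (Subgroup G)} (h𝓕 : Cfsg.IsNormalSet 𝓕)
    {T X : Subgroup G} (hX : X ∈ Cfsg.sylowMembers p 𝓕 T) (g : G) :
    Cfsg.subgroupConjRight g X ∈ Cfsg.sylowMembers p 𝓕 (Cfsg.subgroupConjRight g T) := by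
  obtain ⟨hXF, P, hP⟩ := hX
  refine ⟨h𝓕 X hXF g, ?_⟩
  have hinj : Function.Injective (MulAut.conj g⁻¹).toMonoidHom := (MulAut.conj g⁻¹).injective
  let e : ↥X ≃* ↥(Cfsg.subgroupConjRight g X) := X.equivMapOfInjective _ hinj
  have he : ∀ y : ↥(Cfsg.subgroupConjRight g X), ((e.symm y : ↥X) : G) = g * (y : G) * g⁻¹ := by
    intro y
    have h1 : ((e (e.symm y) : ↥(Cfsg.subgroupConjRight g X)) : G)
        = (MulAut.conj g⁻¹).toMonoidHom ((e.symm y : ↥X) : G) :=
      Subgroup.coe_equivMapOfInjective_apply X _ hinj (e.symm y)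
    rw [MulEquiv.apply_symm_apply] at h1
    rw [h1]
    simp [mul_assoc]
  have hinj' : Function.Injective e.symm.toMonoidHom := e.symm.injective
  have hrange : (P : Subgroup ↥X) ≤ e.symm.toMonoidHom.range := by
    intro x _
    exact ⟨e x, by simp⟩
  have hcoe : ((P.comapOfInjective e.symm.toMonoidHom hinj' hrange : Sylow p _) : Subgroup _)
      = (P : Subgroup ↥X).comap e.symm.toMonoidHom :=
    Sylow.coe_comapOfInjective P e.symm.toMonoidHom hinj' hrange
  refine ⟨P.comapOfInjective e.symm.toMonoidHom hinj' hrange, ?_⟩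
  · ext y
    rw [hcoe, Subgroup.mem_inf, mem_scr, mem_scr]
    constructor
    · rintro ⟨y', hy', rfl⟩
      have h1 : ((e.symm y' : ↥X) : G) ∈ (P : Subgroup ↥X).map X.subtype :=
        ⟨e.symm y', hy', rfl⟩
      rw [hP, he] at h1
      exact Subgroup.mem_inf.1 h1
    · rintro ⟨h1, h2⟩
      have hy : y ∈ Cfsg.subgroupConjRight g X := mem_scr.2 h2
      refine ⟨⟨y, hy⟩, ?_, rfl⟩
      have h3 : g * y * g⁻¹ ∈ (P : Subgroup ↥X).map X.subtype := by
        rw [hP]; exact Subgroup.mem_inf.2 ⟨h1, h2⟩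
      obtain ⟨z, hz, hz'⟩ := h3
      have : e.symm ⟨y, hy⟩ = z := by
        apply Subtype.ext
        rw [he]
        exact hz'.symm
      change e.symm ⟨y, hy⟩ ∈ (P : Subgroup ↥X)
      rw [this]; exact hz

end Aux


/-- Let p be a prime dividing the order of the finite group G and 𝓕 a conjugation-closed family of subgroups that controls Sylow p-intersections in G. Suppose the Sylow p-subgroups of G are chain-connected: any two of them are joined by a chain of Sylow p-subgroups, consecutive ones distinct with nontrivial intersection, all containing the intersection of the two ends (equivalently, the graph on the Sylow p-subgroups whose edges are the distinct pairs meeting nontrivially is connected). Then for every Sylow p-subgroup S, G is generated by N_G(S) together with the members of 𝓕 that meet S in a Sylow p-subgroup of themselves. -/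
theorem result {G : Type*} [Group G] [Finite G] (p : ℕ) [Fact p.Prime] (hdiv : p ∣ Nat.card G)
    (𝓕 : Set (Subgroup G)) (h𝓕 : Cfsg.IsNormalSet 𝓕) (hc : Cfsg.ControlsSylowIntersections p 𝓕)
    (hconn : Cfsg.IsSylowChainConnected p G) (S : Sylow p G) :
    (⨆ X ∈ Cfsg.sylowMembers p 𝓕 (S : Subgroup G), X) ⊔ Subgroup.normalizer ((S : Subgroup G) : Set G) = ⊤ := by
  set H : Subgroup G := (⨆ X ∈ Cfsg.sylowMembers p 𝓕 (S : Subgroup G), X) ⊔
    Subgroup.normalizer ((S : Subgroup G) : Set G) with hH
  have hXH : ∀ X ∈ Cfsg.sylowMembers p 𝓕 (S : Subgroup G), X ≤ H := by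
    intro X hX
    exact (le_biSup (fun X => X) hX).trans le_sup_left
  -- good Sylow subgroups
  let Good : Sylow p G → Prop := fun T =>
    ∃ h ∈ H, Cfsg.subgroupConjRight h (S : Subgroup G) = (T : Subgroup G)
  have hstep : ∀ (T T' : Sylow p G) (X : Subgroup G) (x : G), Good T →
      X ∈ Cfsg.sylowMembers p 𝓕 (T : Subgroup G) → x ∈ X →
      Cfsg.subgroupConjRight x (T' : Subgroup G) = (T : Subgroup G) → Good T' := by
    rintro T T' X x ⟨h, hh, hT⟩ hX hx hTT'
    have h1 := sylowMembers_conj h𝓕 hX h⁻¹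
    rw [← hT, scr_scr, mul_inv_cancel, scr_one] at h1
    have h2 : h * x * h⁻¹ ∈ H := by
      apply hXH _ h1
      rw [mem_scr]
      have e : h⁻¹ * (h * x * h⁻¹) * h⁻¹⁻¹ = x := by group
      rw [e]; exact hx
    have hxH : x ∈ H := by
      have := H.mul_mem (H.mul_mem (H.inv_mem hh) h2) hh
      have e : h⁻¹ * (h * x * h⁻¹) * h = x := by group
      rwa [e] at this
    refine ⟨h * x⁻¹, H.mul_mem hh (H.inv_mem hxH), ?_⟩
    rw [← scr_scr, hT, ← hTT', scr_scr, mul_inv_cancel, scr_one]
  have hgood : ∀ T : Sylow p G, Good T := by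
    intro T
    obtain ⟨n, c, hc0, hcn, -, hcons⟩ := hconn S T
    have : ∀ i : Fin (n + 1), Good (c i) := by
      intro i
      induction i using Fin.induction with
      | zero =>
        rw [hc0]
        exact ⟨1, H.one_mem, scr_one _⟩
      | succ i ih =>
        obtain ⟨hne, hmeet⟩ := hcons i
        obtain ⟨m, d, X, x, hd0, hdm, hd⟩ := hc _ _ hne hmeet
        have : ∀ j : Fin (m + 1), Good (d j) := by
          intro j
          induction j using Fin.induction with
          | zero => rw [hd0]; exact ih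
          | succ j ihj =>
            obtain ⟨hX1, -, hxX, hconj, -⟩ := hd j
            exact hstep _ _ _ _ ihj hX1 hxX hconj
        have := this (Fin.last m)
        rwa [hdm] at this
    have := this (Fin.last n)
    rwa [hcn] at this
  rw [eq_top_iff]
  intro g _
  obtain ⟨h, hh, hS⟩ := hgood (g⁻¹ • S)
  have hgS : ((g⁻¹ • S : Sylow p G) : Subgroup G) = Cfsg.subgroupConjRight g (S : Subgroup G) := by
    ext y
    rw [Sylow.coe_subgroup_smul, Subgroup.mem_pointwise_smul_iff_inv_smul_mem, mem_scr]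
    simp [MulAut.smul_def, MulAut.conj_apply]
  rw [hgS] at hS
  have h1 : Cfsg.subgroupConjRight (g * h⁻¹) (S : Subgroup G) = (S : Subgroup G) := by
    rw [← scr_scr, ← hS, scr_scr, mul_inv_cancel, scr_one]
  have h2 : g * h⁻¹ ∈ Subgroup.normalizer ((S : Subgroup G) : Set G) := by
    rw [Subgroup.mem_normalizer_iff]
    intro y
    conv_lhs => rw [← h1]
    rw [mem_scr]
  have h3 : g * h⁻¹ ∈ H := (le_sup_right : _ ≤ H) h2
  have := H.mul_mem h3 hh
  simpa using this

end Cfsg.Agent.S2955
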