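import Cfsg.Statements.S2957
import Cfsg.Agent.S2939

set_option autoImplicit false
open Cfsg

namespace Cfsg.Agent.S2957

open Cfsg.Agent.Lib.Helper18 Cfsg.Agent.S2939

section
variable {G : Type*} [Group G]

/-- ambient decomposition of a fusing element -/
def Dec (f : Subgroup G → Set (Subgroup G)) (M P : Subgroup G) (A : Set G) (g : G) : Prop :=
  ∃ (n : ℕ) (F : Fin n → Subgroup G) (y : Fin n → G) (y₀ : G),
    y₀ ∈ M ∧ y₀ ∈ Subgroup.normalizer (P : Set G) ∧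
    (∀ i, F i ∈ f P ∧ y i ∈ M ∧ y i ∈ Subgroup.normalizer (F i : Set G)) ∧
    g = (List.ofFn y).prod * y₀ ∧
    ∀ i : Fin n, conjRight (((List.ofFn y).take (i.val + 1)).prod) A ⊆ (P : Set G)

def RegAt (f : Subgroup G → Set (Subgroup G)) (M P : Subgroup G) : Prop :=
  ∀ (A : Set G) (g : G), g ∈ M → A ⊆ (P : Set G) → (∃ a ∈ A, a ≠ 1) →
    conjRight g A ⊆ (P : Set G) → Dec f M P A g

theorem coe_take_prod (M : Subgroup G) {n : ℕ} (y : Fin n → ↥M) (k : ℕ) :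
    ((((List.ofFn y).take k).prod : ↥M) : G) = ((List.ofFn (fun i => (y i : G))).take k).prod := by
  have h1 : ((((List.ofFn y).take k).prod : ↥M) : G) = M.subtype ((List.ofFn y).take k).prod := rfl
  rw [h1, map_list_prod, List.map_take, List.map_ofFn]
  rfl

theorem coe_prod (M : Subgroup G) {n : ℕ} (y : Fin n → ↥M) :
    (((List.ofFn y).prod : ↥M) : G) = (List.ofFn (fun i => (y i : G))).prod := by
  have := coe_take_prod M y n
  rwa [take_prod_all, take_prod_all] at this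

theorem map_subtype_conjSub (M : Subgroup G) (m : ↥M) (Q : Subgroup ↥M) :
    (conjSub m Q).map M.subtype = conjSub (m : G) (Q.map M.subtype) := by
  unfold conjSub
  rw [Subgroup.map_map, Subgroup.map_map]
  congr 1

theorem normalizer_conjSub (g : G) (F : Subgroup G) :
    Subgroup.normalizer ((conjSub g F : Subgroup G) : Set G) =
      conjSub g (Subgroup.normalizer (F : Set G)) := by
  ext x
  rw [mem_conjSub, Subgroup.mem_normalizer_iff, Subgroup.mem_normalizer_iff]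
  constructor
  · intro h y
    have := h (g * y * g⁻¹)
    rw [mem_conjSub, mem_conjSub] at this
    have e1 : g⁻¹ * (g * y * g⁻¹) * g = y := by group
    have e2 : g⁻¹ * (x * (g * y * g⁻¹) * x⁻¹) * g = g⁻¹ * x * g * y * (g⁻¹ * x * g)⁻¹ := by group
    rw [e1, e2] at this
    exact this
  · intro h y
    rw [mem_conjSub, mem_conjSub]
    have := h (g⁻¹ * y * g)
    have e2 : g⁻¹ * (x * y * x⁻¹) * g = g⁻¹ * x * g * (g⁻¹ * y * g) * (g⁻¹ * x * g)⁻¹ := by group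
    rw [e2]
    exact this

end


section
variable {G : Type*} [Group G] [Finite G] {p : ℕ} [Fact p.Prime]

/-- the family induced in `↥M` -/
def famIn (p : ℕ) (f : Subgroup G → Set (Subgroup G)) (M : Subgroup G) : Set (Subgroup ↥M) :=
  (fun X : Subgroup G => X.subgroupOf M) '' functorFamily p f M

theorem famIn_normal {f : Subgroup G → Set (Subgroup G)} (hf : IsNormalizerFunctor p f)
    (M : Subgroup G) : IsNormalSet (famIn p f M) := by
  rintro _ ⟨X, ⟨Q, F, hF, rfl⟩, rfl⟩ m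
  have hQp : IsPGroup p ↥((Q : Subgroup ↥M).map M.subtype) := Q.isPGroup'.map _
  have hfun := (hf _ hQp).2 ((m : G)⁻¹)
  have hQ1 : ((m⁻¹ • Q : Sylow p ↥M) : Subgroup ↥M).map M.subtype =
      conjSub ((m : G)⁻¹) ((Q : Subgroup ↥M).map M.subtype) := by
    rw [coe_smul_sylow, map_subtype_conjSub]
    rfl
  refine ⟨M ⊓ Subgroup.normalizer ((conjSub ((m : G)⁻¹) F : Subgroup G) : Set G),
    ⟨m⁻¹ • Q, conjSub ((m : G)⁻¹) F, ?_, rfl⟩, ?_⟩
  · rw [hQ1]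
    show conjSub ((m : G)⁻¹) F ∈ f (((Q : Subgroup ↥M).map M.subtype).map (MulAut.conj (m : G)⁻¹).toMonoidHom)
    rw [hfun]
    exact ⟨F, hF, rfl⟩
  · unfold subgroupConjRight
    ext x
    show x ∈ (M ⊓ Subgroup.normalizer ((conjSub ((m : G)⁻¹) F : Subgroup G) : Set G)).subgroupOf M ↔
      x ∈ conjSub m⁻¹ ((M ⊓ Subgroup.normalizer (F : Set G)).subgroupOf M)
    rw [mem_conjSub, Subgroup.mem_subgroupOf, Subgroup.mem_subgroupOf, normalizer_conjSub,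
      Subgroup.mem_inf, Subgroup.mem_inf, mem_conjSub]
    constructor
    · rintro ⟨_, h2⟩
      exact ⟨(m⁻¹⁻¹ * x * m⁻¹).2, h2⟩
    · rintro ⟨_, h2⟩
      exact ⟨x.2, h2⟩

theorem regular_of_regAt {f : Subgroup G → Set (Subgroup G)} (hf : IsNormalizerFunctor p f)
    (M : Subgroup G) (h : ∀ P : Subgroup G, IsSylowIn p P M → RegAt f M P) :
    IsFunctorRegular p f M := by
  show ControlsSylowIntersections p (famIn p f M)
  apply csi_of_fscf (famIn_normal hf M)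
  intro S' A' g' hA'S hA'1 hA'g
  obtain ⟨P, hP⟩ : ∃ P : Subgroup G, P = (S' : Subgroup ↥M).map M.subtype := ⟨_, rfl⟩
  have hPsyl : IsSylowIn p P M := hP ▸ isSylowIn_of_sylow S'
  have hmemP : ∀ x : ↥M, (x : G) ∈ P ↔ x ∈ (S' : Subgroup ↥M) := by
    intro x
    rw [hP]
    exact Subgroup.mem_map_iff_mem M.subtype_injective
  have hA : (M.subtype '' A') ⊆ (P : Set G) := by
    rintro _ ⟨a, ha, rfl⟩
    exact (hmemP a).mpr (hA'S ha)
  have hA1 : ∃ a ∈ (M.subtype '' A'), a ≠ 1 := by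
    obtain ⟨a, ha, ha1⟩ := hA'1
    exact ⟨a, ⟨a, ha, rfl⟩, fun h1 => ha1 (Subtype.ext h1)⟩
  have hAg : conjRight (g' : G) (M.subtype '' A') ⊆ (P : Set G) := by
    rintro _ ⟨_, ⟨a, ha, rfl⟩, rfl⟩
    have := hA'g ⟨a, ha, rfl⟩
    exact (hmemP (g'⁻¹ * a * g')).mpr this
  obtain ⟨n, F, y, y₀, hy₀M, hy₀N, hF, hg, hstep⟩ := h P hPsyl _ _ g'.2 hA hA1 hAg
  have hPp : IsPGroup p ↥P := hPsyl.isPGroup
  have hSle : ∀ i, (S' : Subgroup ↥M) ≤ (M ⊓ Subgroup.normalizer (F i : Set G)).subgroupOf M := by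
    intro i x hx
    rw [Subgroup.mem_subgroupOf]
    refine Subgroup.mem_inf.mpr ⟨x.2, ?_⟩
    exact ((hf P hPp).1 (F i) (hF i).1).2 (Subgroup.le_normalizer ((hmemP x).mpr hx))
  refine ⟨n, fun i => (M ⊓ Subgroup.normalizer (F i : Set G)).subgroupOf M,
    fun i => ⟨y i, (hF i).2.1⟩, ⟨y₀, hy₀M⟩, ?_, ?_, ?_, ?_⟩
  · apply mem_normalizer_of_conjSub_le
    rintro _ ⟨x, hx, rfl⟩
    show (⟨y₀, hy₀M⟩ : ↥M) * x * (⟨y₀, hy₀M⟩ : ↥M)⁻¹ ∈ (S' : Subgroup ↥M)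
    rw [← hmemP]
    exact (Subgroup.mem_normalizer_iff.mp hy₀N _).mp ((hmemP x).mpr hx)
  · intro i
    refine ⟨?_, ?_⟩
    · rw [mem_sylowMembers_iff]
      refine ⟨⟨_, ⟨S', F i, hP ▸ (hF i).1, rfl⟩, rfl⟩, ?_⟩
      rw [inf_eq_left.mpr (hSle i)]
      exact isSylowIn_of_sylow_le S' (hSle i)
    · show (⟨y i, (hF i).2.1⟩ : ↥M) ∈ (M ⊓ Subgroup.normalizer (F i : Set G)).subgroupOf M
      rw [Subgroup.mem_subgroupOf]
      exact Subgroup.mem_inf.mpr ⟨(hF i).2.1, (hF i).2.2⟩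
  · apply Subtype.ext
    rw [Subgroup.coe_mul, coe_prod]
    exact hg
  · intro i
    rintro _ ⟨a, ha, rfl⟩
    have h1 := hstep i ⟨(a : G), ⟨a, ha, rfl⟩, rfl⟩
    have hS : (((List.ofFn fun i => (⟨y i, (hF i).2.1⟩ : ↥M)).take (i.val + 1)).prod)⁻¹ * a *
        ((List.ofFn fun i => (⟨y i, (hF i).2.1⟩ : ↥M)).take (i.val + 1)).prod ∈ (S' : Subgroup ↥M) := by
      rw [← hmemP]
      rw [Subgroup.coe_mul, Subgroup.coe_mul, Subgroup.coe_inv, coe_take_prod]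
      exact h1
    exact ⟨hS, hSle i hS⟩

theorem regAt_of_regular {f : Subgroup G → Set (Subgroup G)} (hf : IsNormalizerFunctor p f)
    {M P : Subgroup G} (hr : IsFunctorRegular p f M) (hP : IsSylowIn p P M) : RegAt f M P := by
  have hfs : FamilyStronglyControlsFusion p (famIn p f M) := fscf_of_csi (famIn_normal hf M) hr
  obtain ⟨S', hS'⟩ := hP.exists_sylow
  have hmemP : ∀ x : ↥M, (x : G) ∈ P ↔ x ∈ (S' : Subgroup ↥M) := by
    intro x
    rw [hS', Subgroup.mem_subgroupOf]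
  have hPmap : (S' : Subgroup ↥M).map M.subtype = P := by
    rw [hS', Subgroup.map_subgroupOf_eq_of_le hP.le]
  intro A g hgM hAP hA1 hAg
  obtain ⟨A', hA'⟩ : ∃ A' : Set ↥M, A' = {a' : ↥M | (a' : G) ∈ A} := ⟨_, rfl⟩
  have hA'S : A' ⊆ ((S' : Subgroup ↥M) : Set ↥M) := by
    intro a' ha'
    rw [hA'] at ha'
    exact (hmemP a').mp (hAP ha')
  have hA'1 : ∃ a' ∈ A', a' ≠ 1 := by
    obtain ⟨a, ha, ha1⟩ := hA1
    refine ⟨⟨a, hP.le (hAP ha)⟩, ?_, ?_⟩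
    · rw [hA']; exact ha
    · intro h1
      exact ha1 (congrArg Subtype.val h1)
  have hA'g : conjRight (⟨g, hgM⟩ : ↥M) A' ⊆ ((S' : Subgroup ↥M) : Set ↥M) := by
    rintro _ ⟨a', ha', rfl⟩
    rw [hA'] at ha'
    show (⟨g, hgM⟩ : ↥M)⁻¹ * a' * ⟨g, hgM⟩ ∈ (S' : Subgroup ↥M)
    rw [← hmemP]
    exact hAg ⟨(a' : G), ha', rfl⟩
  obtain ⟨n, Y', y', y₀', hy₀', hY', hg', hstep'⟩ := hfs S' A' ⟨g, hgM⟩ hA'S hA'1 hA'g
  have hPp : IsPGroup p ↥P := hP.isPGroup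
  have key : ∀ i : Fin n, ∃ F : Subgroup G, F ∈ f P ∧ ((y' i : ↥M) : G) ∈ Subgroup.normalizer (F : Set G) := by
    intro i
    obtain ⟨hYi, hyi⟩ := hY' i
    rw [mem_sylowMembers_iff] at hYi
    obtain ⟨⟨X, ⟨Q, F₀, hF₀, rfl⟩, hXY⟩, hsyl⟩ := hYi
    have hXY' : Y' i = (M ⊓ Subgroup.normalizer (F₀ : Set G)).subgroupOf M := hXY.symm
    have hQp : IsPGroup p ↥((Q : Subgroup ↥M).map M.subtype) := Q.isPGroup'.map _
    have hQle : (Q : Subgroup ↥M) ≤ Y' i := by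
      intro x hx
      rw [hXY', Subgroup.mem_subgroupOf]
      refine Subgroup.mem_inf.mpr ⟨x.2, ?_⟩
      exact ((hf _ hQp).1 F₀ hF₀).2 (Subgroup.le_normalizer ⟨x, hx, rfl⟩)
    obtain ⟨x, hxY, hxle⟩ := hsyl.exists_conj_le hQle Q.isPGroup'
    have hxS : conjSub x (Q : Subgroup ↥M) = (S' : Subgroup ↥M) := by
      apply Subgroup.eq_of_le_of_card_ge (hxle.trans inf_le_left)
      rw [card_conjSub]
      exact (Sylow.card_eq_multiplicity S').trans (Sylow.card_eq_multiplicity Q).symm |>.le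
    have hxN : (x : G) ∈ Subgroup.normalizer (F₀ : Set G) := by
      rw [hXY', Subgroup.mem_subgroupOf] at hxY
      exact (Subgroup.mem_inf.mp hxY).2
    have hPeq : P = conjSub (x : G) ((Q : Subgroup ↥M).map M.subtype) := by
      rw [← hPmap, ← hxS, map_subtype_conjSub]
    refine ⟨F₀, ?_, ?_⟩
    · rw [hPeq]
      show F₀ ∈ f (((Q : Subgroup ↥M).map M.subtype).map (MulAut.conj (x : G)).toMonoidHom)
      rw [(hf _ hQp).2 (x : G)]
      exact ⟨F₀, hF₀, conjSub_eq_of_mem_normalizer hxN⟩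
    · rw [hXY', Subgroup.mem_subgroupOf] at hyi
      exact (Subgroup.mem_inf.mp hyi).2
  choose F hF using key
  refine ⟨n, F, fun i => ((y' i : ↥M) : G), (y₀' : G), y₀'.2, ?_, ?_, ?_, ?_⟩
  · apply mem_normalizer_of_conjSub_le
    rintro _ ⟨x, hx, rfl⟩
    have hxM : x ∈ M := hP.le hx
    have h1 : y₀' * ⟨x, hxM⟩ * y₀'⁻¹ ∈ (S' : Subgroup ↥M) :=
      (Subgroup.mem_normalizer_iff.mp hy₀' _).mp ((hmemP ⟨x, hxM⟩).mp hx)
    exact (hmemP _).mpr h1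
  · intro i
    exact ⟨(hF i).1, (y' i).2, (hF i).2⟩
  · have := congrArg Subtype.val hg'
    rw [Subgroup.coe_mul, coe_prod] at this
    exact this
  · intro i
    rintro _ ⟨a, ha, rfl⟩
    have haM : a ∈ M := hP.le (hAP ha)
    have h1 := (hstep' i ⟨(⟨a, haM⟩ : ↥M), by rw [hA']; exact ha, rfl⟩).1
    have h2 := (hmemP _).mpr h1
    rw [Subgroup.coe_mul, Subgroup.coe_mul, Subgroup.coe_inv, coe_take_prod] at h2
    exact h2

end

section
variable {G : Type*} [Group G]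

theorem take_prod_conj (m : G) {n : ℕ} (y : Fin n → G) :
    ∀ k, k ≤ n → ((List.ofFn (fun i => m * y i * m⁻¹)).take k).prod =
      m * ((List.ofFn y).take k).prod * m⁻¹ := by
  intro k
  induction k with
  | zero => intro _; simp
  | succ k ih =>
    intro hk
    have hk' : k < n := hk
    rw [take_prod_succ _ k hk', ih hk'.le, take_prod_succ y k hk']
    group

theorem prod_conj (m : G) {n : ℕ} (y : Fin n → G) :
    (List.ofFn (fun i => m * y i * m⁻¹)).prod = m * (List.ofFn y).prod * m⁻¹ := by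
  have := take_prod_conj m y n le_rfl
  rwa [take_prod_all, take_prod_all] at this

theorem conj_mem_normalizer_conjSub {m x : G} {F : Subgroup G}
    (hx : x ∈ Subgroup.normalizer (F : Set G)) :
    m * x * m⁻¹ ∈ Subgroup.normalizer ((conjSub m F : Subgroup G) : Set G) := by
  rw [normalizer_conjSub, mem_conjSub]
  have : m⁻¹ * (m * x * m⁻¹) * m = x := by group
  rw [this]
  exact hx

end

section
variable {G : Type*} [Group G] [Finite G] {p : ℕ} [Fact p.Prime]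

theorem regAt_conj {f : Subgroup G → Set (Subgroup G)} (hf : IsNormalizerFunctor p f)
    {M P : Subgroup G} (hPp : IsPGroup p ↥P) (h : RegAt f M P) {m : G} (hm : m ∈ M) :
    RegAt f M (conjSub m P) := by
  intro A g hgM hAP hA1 hAg
  have hB : conjRight m A ⊆ (P : Set G) := by
    rintro _ ⟨a, ha, rfl⟩
    exact mem_conjSub.mp (hAP ha)
  have hB1 : ∃ b ∈ conjRight m A, b ≠ 1 := by
    obtain ⟨a, ha, ha1⟩ := hA1
    refine ⟨m⁻¹ * a * m, ⟨a, ha, rfl⟩, ?_⟩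
    intro h1
    apply ha1
    have : a = m * (m⁻¹ * a * m) * m⁻¹ := by group
    rw [this, h1]; group
  have hg'M : m⁻¹ * g * m ∈ M := M.mul_mem (M.mul_mem (M.inv_mem hm) hgM) hm
  have hBg : conjRight (m⁻¹ * g * m) (conjRight m A) ⊆ (P : Set G) := by
    rintro _ ⟨_, ⟨a, ha, rfl⟩, rfl⟩
    have h1 := mem_conjSub.mp (hAg ⟨a, ha, rfl⟩)
    have e : (m⁻¹ * g * m)⁻¹ * (m⁻¹ * a * m) * (m⁻¹ * g * m) = m⁻¹ * (g⁻¹ * a * g) * m := by group
    show (m⁻¹ * g * m)⁻¹ * (m⁻¹ * a * m) * (m⁻¹ * g * m) ∈ P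
    rw [e]
    exact h1
  obtain ⟨n, F, y, y₀, hy₀M, hy₀N, hF, hg, hstep⟩ := h _ _ hg'M hB hB1 hBg
  refine ⟨n, fun i => conjSub m (F i), fun i => m * y i * m⁻¹, m * y₀ * m⁻¹,
    M.mul_mem (M.mul_mem hm hy₀M) (M.inv_mem hm), conj_mem_normalizer_conjSub hy₀N, ?_, ?_, ?_⟩
  · intro i
    refine ⟨?_, M.mul_mem (M.mul_mem hm (hF i).2.1) (M.inv_mem hm),
      conj_mem_normalizer_conjSub (hF i).2.2⟩
    show conjSub m (F i) ∈ f (P.map (MulAut.conj m).toMonoidHom)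
    rw [(hf P hPp).2 m]
    exact ⟨F i, (hF i).1, rfl⟩
  · rw [prod_conj]
    have : g = m * (m⁻¹ * g * m) * m⁻¹ := by group
    rw [this, hg]
    group
  · intro i
    rintro _ ⟨a, ha, rfl⟩
    rw [take_prod_conj m y _ i.2]
    have h1 := hstep i ⟨m⁻¹ * a * m, ⟨a, ha, rfl⟩, rfl⟩
    show _ ∈ conjSub m P
    rw [mem_conjSub]
    have e : m⁻¹ * ((m * ((List.ofFn y).take (i.val + 1)).prod * m⁻¹)⁻¹ * a *
        (m * ((List.ofFn y).take (i.val + 1)).prod * m⁻¹)) * m =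
        (((List.ofFn y).take (i.val + 1)).prod)⁻¹ * (m⁻¹ * a * m) *
          ((List.ofFn y).take (i.val + 1)).prod := by group
    rw [e]
    exact h1

theorem regAt_top {f : Subgroup G → Set (Subgroup G)} (hf : IsNormalizerFunctor p f)
    (S : Sylow p G) {G₁ G₂ : Subgroup G} (h₁ : (S : Subgroup G) ≤ G₁) (h₂ : (S : Subgroup G) ≤ G₂)
    (hprod : ∀ g : G, ∃ g₁ ∈ G₁, ∃ g₂ ∈ G₂, g = g₁ * g₂)
    (hr₁ : RegAt f G₁ (S : Subgroup G)) (hr₂ : RegAt f G₂ (S : Subgroup G)) :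
    RegAt f ⊤ (S : Subgroup G) := by
  intro A g _ hAS hA1 hAg
  obtain ⟨g₁, hg₁, g₂, hg₂, hgg⟩ := hprod g
  have hSp : IsPGroup p ↥(S : Subgroup G) := S.isPGroup'
  -- B = conjRight g₁ A lies in G₁ ⊓ G₂
  have hB₁ : conjRight g₁ A ⊆ ((G₁ ⊓ G₂ : Subgroup G) : Set G) := by
    rintro _ ⟨a, ha, rfl⟩
    refine Subgroup.mem_inf.mpr ⟨?_, ?_⟩
    · exact G₁.mul_mem (G₁.mul_mem (G₁.inv_mem hg₁) (h₁ (hAS ha))) hg₁
    · have h3 : g⁻¹ * a * g ∈ G₂ := h₂ (hAg ⟨a, ha, rfl⟩)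
      have e : g₁⁻¹ * a * g₁ = g₂ * (g⁻¹ * a * g) * g₂⁻¹ := by rw [hgg]; group
      show g₁⁻¹ * a * g₁ ∈ G₂
      rw [e]
      exact G₂.mul_mem (G₂.mul_mem hg₂ h3) (G₂.inv_mem hg₂)
  have hRle : Subgroup.closure (conjRight g₁ A) ≤ G₁ ⊓ G₂ := (Subgroup.closure_le _).mpr hB₁
  have hRS : Subgroup.closure (conjRight g₁ A) ≤ conjSub g₁⁻¹ (S : Subgroup G) := by
    rw [Subgroup.closure_le]
    rintro _ ⟨a, ha, rfl⟩
    show _ ∈ conjSub g₁⁻¹ (S : Subgroup G)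
    rw [mem_conjSub]
    have e : g₁⁻¹⁻¹ * (g₁⁻¹ * a * g₁) * g₁⁻¹ = a := by group
    rw [e]
    exact hAS ha
  have hRp : IsPGroup p ↥(Subgroup.closure (conjRight g₁ A)) :=
    (conjSub_isPGroup hSp).to_le hRS
  have hSD : IsSylowIn p (S : Subgroup G) (G₁ ⊓ G₂) := isSylowIn_of_sylow_le S (le_inf h₁ h₂)
  obtain ⟨d, hd, hdle⟩ := hSD.exists_conj_le hRle hRp
  have hd₁ : d ∈ G₁ := (Subgroup.mem_inf.mp hd).1
  have hd₂ : d ∈ G₂ := (Subgroup.mem_inf.mp hd).2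
  -- new factorisation
  have hg₁' : g₁ * d⁻¹ ∈ G₁ := G₁.mul_mem hg₁ (G₁.inv_mem hd₁)
  have hg₂' : d * g₂ ∈ G₂ := G₂.mul_mem hd₂ hg₂
  have hA₂ : conjRight (g₁ * d⁻¹) A ⊆ ((S : Subgroup G) : Set G) := by
    rintro _ ⟨a, ha, rfl⟩
    have h3 : d * (g₁⁻¹ * a * g₁) * d⁻¹ ∈ conjSub d (Subgroup.closure (conjRight g₁ A)) :=
      conj_mem_conjSub (Subgroup.subset_closure ⟨a, ha, rfl⟩)
    have e : (g₁ * d⁻¹)⁻¹ * a * (g₁ * d⁻¹) = d * (g₁⁻¹ * a * g₁) * d⁻¹ := by group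
    show (g₁ * d⁻¹)⁻¹ * a * (g₁ * d⁻¹) ∈ (S : Subgroup G)
    rw [e]
    exact hdle h3
  have hA₂1 : ∃ b ∈ conjRight (g₁ * d⁻¹) A, b ≠ 1 := by
    obtain ⟨a, ha, ha1⟩ := hA1
    refine ⟨(g₁ * d⁻¹)⁻¹ * a * (g₁ * d⁻¹), ⟨a, ha, rfl⟩, ?_⟩
    intro h1
    apply ha1
    have : a = (g₁ * d⁻¹) * ((g₁ * d⁻¹)⁻¹ * a * (g₁ * d⁻¹)) * (g₁ * d⁻¹)⁻¹ := by group
    rw [this, h1]; group
  have hA₂g : conjRight (d * g₂) (conjRight (g₁ * d⁻¹) A) ⊆ ((S : Subgroup G) : Set G) := by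
    rintro _ ⟨_, ⟨a, ha, rfl⟩, rfl⟩
    have e : (d * g₂)⁻¹ * ((g₁ * d⁻¹)⁻¹ * a * (g₁ * d⁻¹)) * (d * g₂) = g⁻¹ * a * g := by
      rw [hgg]; group
    show (d * g₂)⁻¹ * ((g₁ * d⁻¹)⁻¹ * a * (g₁ * d⁻¹)) * (d * g₂) ∈ (S : Subgroup G)
    rw [e]
    exact hAg ⟨a, ha, rfl⟩
  obtain ⟨n₁, F₁, y₁, z₁, hz₁M, hz₁N, hF₁, hgy₁, hstep₁⟩ := hr₁ A _ hg₁' hAS hA1 hA₂
  obtain ⟨n₂, F₂, y₂, z₂, hz₂M, hz₂N, hF₂, hgy₂, hstep₂⟩ := hr₂ _ _ hg₂' hA₂ hA₂1 hA₂g
  have hzS : conjSub z₁ (S : Subgroup G) = (S : Subgroup G) := conjSub_eq_of_mem_normalizer hz₁N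
  refine ⟨n₁ + n₂, Fin.append F₁ (fun j => conjSub z₁ (F₂ j)),
    Fin.append y₁ (fun j => z₁ * y₂ j * z₁⁻¹), z₁ * z₂, Subgroup.mem_top _,
    Subgroup.mul_mem _ hz₁N hz₂N, ?_, ?_, ?_⟩
  · intro i
    refine Fin.addCases (fun i₁ => ?_) (fun j => ?_) i
    · rw [Fin.append_left, Fin.append_left]
      exact ⟨(hF₁ i₁).1, Subgroup.mem_top _, (hF₁ i₁).2.2⟩
    · rw [Fin.append_right, Fin.append_right]
      refine ⟨?_, Subgroup.mem_top _, conj_mem_normalizer_conjSub (hF₂ j).2.2⟩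
      have h3 : conjSub z₁ (F₂ j) ∈ f ((S : Subgroup G).map (MulAut.conj z₁).toMonoidHom) := by
        rw [(hf _ hSp).2 z₁]
        exact ⟨F₂ j, (hF₂ j).1, rfl⟩
      have hzS' : (S : Subgroup G).map (MulAut.conj z₁).toMonoidHom = (S : Subgroup G) := hzS
      rwa [hzS'] at h3
  · rw [List.ofFn_fin_append, List.prod_append, prod_conj]
    have : g = (g₁ * d⁻¹) * (d * g₂) := by rw [hgg]; group
    rw [this, hgy₁, hgy₂]
    group
  · intro i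
    refine Fin.addCases (fun i₁ => ?_) (fun j => ?_) i
    · rw [List.ofFn_fin_append, Fin.val_castAdd,
        List.take_append_of_le_length (by rw [List.length_ofFn]; exact i₁.2)]
      exact hstep₁ i₁
    · rw [List.ofFn_fin_append, Fin.val_natAdd]
      have e0 : n₁ + j.val + 1 = (List.ofFn y₁).length + (j.val + 1) := by
        rw [List.length_ofFn]; ring
      rw [e0, List.take_length_add_append, List.prod_append, take_prod_conj z₁ y₂ _ j.2]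
      rintro _ ⟨a, ha, rfl⟩
      have h3 := hstep₂ j ⟨(g₁ * d⁻¹)⁻¹ * a * (g₁ * d⁻¹), ⟨a, ha, rfl⟩, rfl⟩
      have h4 : z₁ * ((((List.ofFn y₂).take (j.val + 1)).prod)⁻¹ *
          ((g₁ * d⁻¹)⁻¹ * a * (g₁ * d⁻¹)) * ((List.ofFn y₂).take (j.val + 1)).prod) * z₁⁻¹ ∈
          (S : Subgroup G) := by
        rw [← hzS]
        exact conj_mem_conjSub h3
      have hy₁ : (List.ofFn y₁).prod = (g₁ * d⁻¹) * z₁⁻¹ := by rw [hgy₁]; group
      rw [hy₁]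
      have e : ((g₁ * d⁻¹) * z₁⁻¹ * (z₁ * ((List.ofFn y₂).take (j.val + 1)).prod * z₁⁻¹))⁻¹ * a *
          ((g₁ * d⁻¹) * z₁⁻¹ * (z₁ * ((List.ofFn y₂).take (j.val + 1)).prod * z₁⁻¹)) =
          z₁ * ((((List.ofFn y₂).take (j.val + 1)).prod)⁻¹ *
          ((g₁ * d⁻¹)⁻¹ * a * (g₁ * d⁻¹)) * ((List.ofFn y₂).take (j.val + 1)).prod) * z₁⁻¹ := by
        group
      show ((g₁ * d⁻¹) * z₁⁻¹ * (z₁ * ((List.ofFn y₂).take (j.val + 1)).prod * z₁⁻¹))⁻¹ * a *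
          ((g₁ * d⁻¹) * z₁⁻¹ * (z₁ * ((List.ofFn y₂).take (j.val + 1)).prod * z₁⁻¹)) ∈ (S : Subgroup G)
      rw [e]
      exact h4

end


/-- Let p be a prime dividing the order of the finite group G, f an equivariant assignment of a set of subgroups f(P) of P to every p-subgroup P, each normalized by N_G(P), and S a Sylow p-subgroup. If G = G₁G₂ for subgroups G₁, G₂ both containing S and both regular for f (in each Gᵢ, the family of normalizers in Gᵢ of the members of f(P), P a Sylow p-subgroup of Gᵢ, controls Sylow p-intersections), then G itself is regular for f. -/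
theorem result {G : Type*} [Group G] [Finite G] (p : ℕ) [Fact p.Prime] (hdiv : p ∣ Nat.card G)
    (f : Subgroup G → Set (Subgroup G)) (hf : Cfsg.IsNormalizerFunctor p f) (S : Sylow p G)
    (G₁ G₂ : Subgroup G) (h₁ : (S : Subgroup G) ≤ G₁) (h₂ : (S : Subgroup G) ≤ G₂)
    (hprod : ∀ g : G, ∃ g₁ ∈ G₁, ∃ g₂ ∈ G₂, g = g₁ * g₂)
    (hr₁ : Cfsg.IsFunctorRegular p f G₁) (hr₂ : Cfsg.IsFunctorRegular p f G₂) :
    Cfsg.IsFunctorRegular p f ⊤ := by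
  have hS₁ : RegAt f G₁ (S : Subgroup G) := regAt_of_regular hf hr₁ (isSylowIn_of_sylow_le S h₁)
  have hS₂ : RegAt f G₂ (S : Subgroup G) := regAt_of_regular hf hr₂ (isSylowIn_of_sylow_le S h₂)
  have hST : RegAt f ⊤ (S : Subgroup G) := regAt_top hf S h₁ h₂ hprod hS₁ hS₂
  apply regular_of_regAt hf ⊤
  intro P hP
  obtain ⟨x, _, hx⟩ := hP.exists_conj_le (le_top : (S : Subgroup G) ≤ ⊤) S.isPGroup'
  have hPeq : conjSub x (S : Subgroup G) = P := by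
    apply Subgroup.eq_of_le_of_card_ge hx
    rw [card_conjSub]
    exact (hP.card_eq (isSylowIn_top_of_sylow S)).le
  rw [← hPeq]
  exact regAt_conj hf S.isPGroup' hST (Subgroup.mem_top x)

end Cfsg.Agent.S2957
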